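import Mathlib
import Cfsg.Agent.GUp4

set_option autoImplicit false

/-! pairs of complementary totally singular subspaces: orthogonal version -/

namespace Cfsg.Agent.H21.GUq

open Matrix Module Cfsg.Geo Cfsg.Agent.H29.Trv Cfsg.Agent.H21.GUp

variable {ι : Type} [Fintype ι] [DecidableEq ι] {F : Type*} [Field F]
variable {τ : F ≃+* F} {ε : F} {f : (ι → F) → (ι → F) → F}
variable {m : ℕ} {A B A' B' : Submodule F (ι → F)} {M : Subgroup (GL ι F)}

/-- the abstract hypothesis -/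
def Hy (f : (ι → F) → (ι → F) → F) (ε : F) (M : Subgroup (GL ι F)) (A B A' B' : Submodule F (ι → F)) : Prop :=
  ∀ u ∈ A, u ≠ 0 → ∀ w, (w ∈ A' ∨ w ∈ B') → f u w = 0 → (∀ c : F, KM f ε M u (c • w)) → w ∈ B ⊔ Submodule.span F {u}

theorem Hy.symm' (h : Hy f ε M A B A' B') : Hy f ε M A B B' A' := fun u hu hu0 w hw => h u hu hu0 w hw.symm

theorem caseA (hK' : KA f ε M A' B') (h : SG τ ε f) (hH : Hy f ε M A B A' B')
    {u v' : ι → F} (hu : u ∈ A) (hu0 : u ≠ 0) (hu' : u ∈ A') (hv' : v' ∈ B') (huv' : f u v' = 0) :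
    v' ∈ B ⊔ Submodule.span F {u} :=
  hH u hu hu0 v' (Or.inr hv') huv' (fun c => hK' u hu' _ (B'.smul_mem c hv') (by rw [h.sr, huv', mul_zero]))

theorem large (h : SG τ ε f) (hP : Pr f m A B) (hP' : Pr f m A' B') (hK' : KA f ε M A' B')
    (hH : Hy f ε M A B A' B') {u : ι → F} (hu : u ∈ A) (hu0 : u ≠ 0) (hu' : u ∈ A') :
    m ≤ finrank F (B ⊓ B' : Submodule F (ι → F)) + 2 := by
  set X := B' ⊓ LinearMap.ker (fr h.toLL u) with hX
  have h1 := finrank_inf_ker B' (fr h.toLL u)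
  rw [← hX, hP'.fb] at h1
  have h2 : X ⊔ B ≤ B ⊔ Submodule.span F {u} := by
    apply sup_le _ le_sup_left
    intro x hx
    exact caseA hK' h hH hu hu0 hu' hx.1 (h.z hx.2)
  have h3 := Submodule.finrank_mono h2
  have h4 := finrank_sup_span B u
  have h5 := Submodule.finrank_sup_add_finrank_inf_eq X B
  have h6 : X ⊓ B ≤ B ⊓ B' := fun x hx => ⟨hx.2, hx.1.1⟩
  have h7 := Submodule.finrank_mono h6
  have h8 := hP.fb
  omega

theorem le_of_large (h : SG τ ε f) (hP : Pr f m A B) (hP' : Pr f m A' B')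
    (hK' : KA f ε M A' B') (hH : Hy f ε M B A B' A') (hl : 3 ≤ finrank F (B ⊓ B' : Submodule F (ι → F))) :
    A' = A := by
  have hle : A' ≤ A := by
    intro x hx
    set Z := (B ⊓ B') ⊓ LinearMap.ker (fr h.toLL x) with hZ
    have h1 := finrank_inf_ker (B ⊓ B') (fr h.toLL x)
    rw [← hZ] at h1
    have h2 : 1 < finrank F Z := by omega
    have h3 : ∃ w₁ ∈ Z, w₁ ≠ 0 := (Submodule.ne_bot_iff _).1 (by
      intro h0
      rw [h0, finrank_bot] at h2
      omega)
    obtain ⟨w₁, hw₁, hw₁0⟩ := h3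
    obtain ⟨w₂, hw₂, hw₂n⟩ := exists_notMem_of_lt (X := Z) (Y := Submodule.span F {w₁}) (by
      have h4 := Submodule.finrank_mono (inf_le_right : Z ⊓ Submodule.span F {w₁} ≤ Submodule.span F {w₁})
      have h5 := finrank_span_le_card (R := F) ({w₁} : Set (ι → F))
      simp only [Set.toFinset_singleton, Finset.card_singleton] at h5
      omega)
    have hw₂0 : w₂ ≠ 0 := by
      rintro rfl
      exact hw₂n (Submodule.zero_mem _)
    have key : ∀ w ∈ Z, w ≠ 0 → x ∈ A ⊔ Submodule.span F {w} := by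
      intro w hw hw0
      exact caseA (hK'.symm h hP') h hH hw.1.1 hw0 hw.1.2 hx hw.2
    obtain ⟨a₁, ha₁, b₁, hb₁, e₁⟩ := Submodule.mem_sup.1 (key w₁ hw₁ hw₁0)
    obtain ⟨a₂, ha₂, b₂, hb₂, e₂⟩ := Submodule.mem_sup.1 (key w₂ hw₂ hw₂0)
    obtain ⟨c₁, rfl⟩ := Submodule.mem_span_singleton.1 hb₁
    obtain ⟨c₂, rfl⟩ := Submodule.mem_span_singleton.1 hb₂
    have h4 : a₁ - a₂ = c₂ • w₂ - c₁ • w₁ := by
      have : a₁ + c₁ • w₁ = a₂ + c₂ • w₂ := by rw [e₁, e₂]
      rw [sub_eq_sub_iff_add_eq_add]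
      rw [this]
      abel
    have h5 : a₁ - a₂ ∈ A ⊓ B := ⟨A.sub_mem ha₁ ha₂, by
      rw [h4]
      exact B.sub_mem (B.smul_mem _ hw₂.1.1) (B.smul_mem _ hw₁.1.1)⟩
    rw [hP.inf, Submodule.mem_bot] at h5
    rw [h5] at h4
    have h6 : c₂ • w₂ = c₁ • w₁ := (sub_eq_zero.1 h4.symm)
    have h7 : c₂ = 0 := by
      by_contra h0
      apply hw₂n
      refine Submodule.mem_span_singleton.2 ⟨c₂⁻¹ * c₁, ?_⟩
      rw [← smul_smul, ← h6, smul_smul, inv_mul_cancel₀ h0, one_smul]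
    rw [h7, zero_smul, add_zero] at e₂
    rw [← e₂]
    exact ha₂
  exact Submodule.eq_of_le_of_finrank_eq hle (by rw [hP.fa, hP'.fa])

theorem meet (h : SG τ ε f) (hm : 5 ≤ m) (hP : Pr f m A B) (hP' : Pr f m A' B')
    (hK' : KA f ε M A' B') (hH : Hy f ε M A B A' B') (hH' : Hy f ε M B A A' B')
    (hAA : A ⊓ A' ≠ ⊥) : A' = A ∧ B' = B := by
  obtain ⟨u, hu, hu0⟩ := (Submodule.ne_bot_iff _).1 hAA
  have h1 := large h hP hP' hK' hH hu.1 hu0 hu.2
  have h2 := le_of_large h hP hP' hK' hH'.symm' (by omega)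
  refine ⟨h2, ?_⟩
  apply le_of_large h hP.symm hP'.symm (hK'.symm h hP') hH
  rw [h2, inf_idem, hP.fa]
  omega

theorem generic [Finite F] (h : SG τ ε f) (hm : 5 ≤ m) (hP : Pr f m A B) (hP' : Pr f m A' B') (hK : KA f ε M A B)
    (hK' : KA f ε M A' B') (hH : Hy f ε M A B A' B') (h1 : A' ⊓ B = ⊥) (h2 : B' ⊓ B = ⊥) : False := by
  obtain ⟨u, hu, hu0⟩ : ∃ u ∈ A, u ≠ 0 := (Submodule.ne_bot_iff _).1 (by
    intro h0
    have := hP.fa
    rw [h0, finrank_bot] at this
    omega)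
  set X := A' ⊓ LinearMap.ker (fr h.toLL u) with hX
  have d1 := finrank_inf_ker A' (fr h.toLL u)
  rw [← hX, hP'.fa] at d1
  obtain ⟨u', hu', hu'n⟩ := exists_notMem_of_lt (X := X) (Y := B ⊔ Submodule.span F {u}) (by
    set X' := X ⊓ (B ⊔ Submodule.span F {u}) with hX'
    have e1 : X' ⊓ B = ⊥ := by
      rw [eq_bot_iff, ← h1]
      exact fun x hx => ⟨hx.1.1.1, hx.2⟩
    have e2 := Submodule.finrank_sup_add_finrank_inf_eq X' B
    rw [e1, finrank_bot] at e2
    have e3 : X' ⊔ B ≤ B ⊔ Submodule.span F {u} := sup_le inf_le_right le_sup_left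
    have e4 := Submodule.finrank_mono e3
    have e5 := finrank_sup_span B u
    have e6 := hP.fb
    omega)
  have hu'A : u' ∈ A' := hu'.1
  have huu' : f u u' = 0 := h.z hu'.2
  set Y := (B' ⊓ LinearMap.ker (fr h.toLL u)) ⊓ LinearMap.ker (fr h.toLL u') with hY
  have d2 := finrank_inf_ker B' (fr h.toLL u)
  have d3 := finrank_inf_ker (B' ⊓ LinearMap.ker (fr h.toLL u)) (fr h.toLL u')
  rw [← hY] at d3
  rw [hP'.fb] at d2
  obtain ⟨v', hv', hv'n⟩ := exists_notMem_of_lt (X := Y) (Y := (B ⊔ Submodule.span F {u}) ⊔ Submodule.span F {u'}) (by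
    set X' := Y ⊓ ((B ⊔ Submodule.span F {u}) ⊔ Submodule.span F {u'}) with hX'
    have e1 : X' ⊓ B = ⊥ := by
      rw [eq_bot_iff, ← h2]
      exact fun x hx => ⟨hx.1.1.1.1, hx.2⟩
    have e2 := Submodule.finrank_sup_add_finrank_inf_eq X' B
    rw [e1, finrank_bot] at e2
    have e3 : X' ⊔ B ≤ (B ⊔ Submodule.span F {u}) ⊔ Submodule.span F {u'} :=
      sup_le inf_le_right (le_sup_left.trans le_sup_left)
    have e4 := Submodule.finrank_mono e3
    have e5 := finrank_sup_span B u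
    have e7 := finrank_sup_span (B ⊔ Submodule.span F {u}) u'
    have e6 := hP.fb
    omega)
  have hv'B : v' ∈ B' := hv'.1.1
  have huv' : f u v' = 0 := h.z hv'.1.2
  have hu'v' : f u' v' = 0 := h.z hv'.2
  obtain ⟨v, hv1, hv2⟩ := exists_sep h.toLL _ hv'n
  have hvB : v ∈ B := hP.perp h (fun b hb => hv2 b (Submodule.mem_sup_left (Submodule.mem_sup_left hb)))
  have huv : f u v = 0 := hv2 u (Submodule.mem_sup_left (Submodule.mem_sup_right (Submodule.mem_span_singleton_self u)))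
  have hu'v : f u' v = 0 := hv2 u' (Submodule.mem_sup_right (Submodule.mem_span_singleton_self u'))
  have hvv' : f v v' = ε := by rw [h.herm, hv1, map_one, mul_one]
  have hmix : ∀ c : F, KM f ε M u (c • u') := by
    intro c
    have e1 : f u ((-(ε * c)) • v) = 0 := by rw [h.sr, huv, mul_zero]
    have k1 := (hK u hu _ (B.smul_mem (-(ε * c)) hvB) e1).comm2 h (hK' u' hu'A v' hv'B hu'v') (hP.ia u hu u hu)
      (hP.ib _ (B.smul_mem _ hvB) _ (B.smul_mem _ hvB)) (hP'.ia u' hu'A u' hu'A) (hP'.ib v' hv'B v' hv'B) e1 hu'v'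
      huu' huv' (by rw [h.smul_left, h.z hu'v, mul_zero])
    have e2 : -(f (-(ε * c) • v) v') = c := by
      rw [h.smul_left, hvv']
      linear_combination c * h.ee
    rwa [e2] at k1
  exact hu'n (hH u hu hu0 u' (Or.inl hu'A) huu' hmix)

theorem stage1 [Finite F] (h : SG τ ε f) (hm : 5 ≤ m) (hP : Pr f m A B) (hP' : Pr f m A' B') (hK : KA f ε M A B)
    (hK' : KA f ε M A' B') (hH : Hy f ε M A B A' B') (hH' : Hy f ε M B A A' B') :
    (A' = A ∧ B' = B) ∨ (A' = B ∧ B' = A) := by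
  by_cases h1 : A ⊓ A' = ⊥
  · by_cases h2 : B ⊓ A' = ⊥
    · by_cases h3 : B ⊓ B' = ⊥
      · exfalso
        exact generic h hm hP hP' hK hK' hH (by rw [inf_comm]; exact h2) (by rw [inf_comm]; exact h3)
      · left
        obtain ⟨e1, e2⟩ := meet h hm hP.symm hP'.symm (hK'.symm h hP') hH'.symm' hH.symm' h3
        exact ⟨e2, e1⟩
    · right
      obtain ⟨e1, e2⟩ := meet h hm hP.symm hP' hK' hH' hH h2
      exact ⟨e1, e2⟩
  · left
    exact meet h hm hP hP' hK' hH hH' h1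

/-- additivity of the quadratic elements -/
theorem KM_add (h : SG τ ε f) {u w w' : ι → F} (hk : KM f ε M u w) (hk' : KM f ε M u w') (hu : f u u = 0)
    (huw : f u w = 0) (huw' : f u w' = 0) (hww : f w' w = 0) : KM f ε M u (w + w') := by
  obtain ⟨g, hg, hgx⟩ := hk
  obtain ⟨k, hk, hkx⟩ := hk'
  refine ⟨g * k, M.mul_mem hg hk, fun x => ?_⟩
  rw [Cfsg.Agent.H29.Trv.mul_apply, hkx, hgx, h.add_right]
  simp only [h.sub_left, h.add_left, h.smul_left, hu, huw, huw', h.z huw, h.z huw', hww]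
  module

theorem KM_smul (h : SG τ ε f) {u w : ι → F} (c : F) : KM f ε M (c • u) w ↔ KM f ε M u (τ c • w) := by
  have key : ∀ (g : GL ι F), (∀ x, (g : Matrix ι ι F) *ᵥ x = x + f x w • (c • u) - (ε * f x (c • u)) • w) ↔
      (∀ x, (g : Matrix ι ι F) *ᵥ x = x + f x (τ c • w) • u - (ε * f x u) • (τ c • w)) := by
    intro g
    apply forall_congr'
    intro x
    rw [h.sr, h.sr, h.inv]
    have : x + f x w • (c • u) - (ε * (τ c * f x u)) • w = x + (c * f x w) • u - (ε * f x u) • (τ c • w) := by module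
    rw [this]
  constructor
  · rintro ⟨g, hg, hgx⟩
    exact ⟨g, hg, (key g).1 hgx⟩
  · rintro ⟨g, hg, hgx⟩
    exact ⟨g, hg, (key g).2 hgx⟩

theorem KM_zero (u : ι → F) (h : SG τ ε f) : KM f ε M u 0 := by
  refine ⟨1, M.one_mem, fun x => ?_⟩
  rw [Units.val_one, one_mulVec, h.toLL.zero_right]
  simp

/-- from one pair in `A` to all pairs with the same first vector -/
theorem pairs1 [Finite F] (h : SG τ ε f) (hi : Iso f M) (hP : Pr f m A B) (hm : 3 ≤ m) (hK : KA f ε M A B) {a a₁ : ι → F}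
    (ha : a ∈ A) (ha₁ : a₁ ∈ A) (hn : a₁ ∉ Submodule.span F {a}) (hk : KM f ε M a a₁) : ∀ u ∈ A, KM f ε M a u := by
  have hneg : ∀ a₁ ∈ A, KM f ε M a a₁ → KM f ε M a (-a₁) := by
    intro a₁ ha₁ hk
    obtain ⟨g, hg, hgx⟩ := hk
    refine ⟨g⁻¹, M.inv_mem hg, fun x => ?_⟩
    rw [inv_of h (hP.ia a ha a ha) (hP.ia a₁ ha₁ a₁ ha₁) (hP.ia a ha a₁ ha₁) hgx, h.toLL.neg_right]
    module
  have step : ∀ a₁ ∈ A, KM f ε M a a₁ → ∀ u ∈ A, a₁ ∉ Submodule.span F {a, u} → KM f ε M a u := by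
    intro a₁ ha₁ hk u hu hn
    have hn' : a₁ ∉ B ⊔ Submodule.span F {a, u} := by
      intro hm
      obtain ⟨b, hb, w, hw, e⟩ := Submodule.mem_sup.1 hm
      have hwA : w ∈ A := by
        refine Submodule.span_le.2 ?_ hw
        rintro x (rfl | rfl)
        · exact ha
        · exact hu
      have hb' : b ∈ A ⊓ B := ⟨by
        have : b = a₁ - w := eq_sub_of_add_eq e
        rw [this]
        exact A.sub_mem ha₁ hwA, hb⟩
      rw [hP.inf, Submodule.mem_bot] at hb'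
      rw [hb', zero_add] at e
      rw [← e] at hn
      exact hn hw
    obtain ⟨v, hv1, hv2⟩ := exists_sep h.toLL _ hn'
    have hvB : v ∈ B := hP.perp h (fun b hb => hv2 b (Submodule.mem_sup_left hb))
    have hav : f a v = 0 := hv2 a (Submodule.mem_sup_right (Submodule.subset_span (by simp)))
    have huv : f u v = 0 := hv2 u (Submodule.mem_sup_right (Submodule.subset_span (by simp)))
    obtain ⟨k, hkM, hkx⟩ := hK u hu v hvB huv
    have h1 := hk.conj h hkM (hi k hkM)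
    rw [hkx, hkx, hav, hv1, hP.ia a ha u hu, hP.ia a₁ ha₁ u hu] at h1
    have e1 : a + (0 : F) • u - (ε * 0) • v = a := by module
    have e2 : a₁ + (1 : F) • u - (ε * 0) • v = a₁ + u := by module
    rw [e1, e2] at h1
    have h2 := KM_add h (hneg a₁ ha₁ hk) h1 (hP.ia a ha a ha) (hP.ia a ha _ (A.neg_mem ha₁)) (hP.ia a ha _ (A.add_mem ha₁ hu))
      (hP.ia _ (A.add_mem ha₁ hu) _ (A.neg_mem ha₁))
    have e3 : -a₁ + (a₁ + u) = u := by abel
    rwa [e3] at h2
  intro u hu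
  by_cases hc : a₁ ∈ Submodule.span F {a, u}
  · -- choose a third vector
    obtain ⟨u₂, hu₂, hu₂n⟩ := exists_notMem_of_lt (X := A) (Y := Submodule.span F {a, a₁}) (by
      classical
      have h4 := Submodule.finrank_mono (inf_le_right : A ⊓ Submodule.span F {a, a₁} ≤ Submodule.span F {a, a₁})
      have h5 := finrank_span_finset_le_card (R := F) ({a, a₁} : Finset (ι → F))
      rw [Finset.coe_pair] at h5
      have h6 : ({a, a₁} : Finset (ι → F)).card ≤ 2 := Finset.card_le_two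
      have h7 := hP.fa
      unfold Set.finrank at h5
      omega)
    obtain ⟨s, t, hst⟩ := Submodule.mem_span_pair.1 hc
    have ht : t ≠ 0 := by
      rintro rfl
      rw [zero_smul, add_zero] at hst
      exact hn (Submodule.mem_span_singleton.2 ⟨s, hst⟩)
    have hu2 : u ∈ Submodule.span F {a, a₁} := by
      refine Submodule.mem_span_pair.2 ⟨-(t⁻¹ * s), t⁻¹, ?_⟩
      rw [← hst, smul_add, smul_smul, smul_smul, inv_mul_cancel₀ ht, one_smul]
      module
    have h3 : KM f ε M a u₂ := by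
      apply step a₁ ha₁ hk u₂ hu₂
      intro hm
      obtain ⟨s', t', hst'⟩ := Submodule.mem_span_pair.1 hm
      by_cases ht' : t' = 0
      · rw [ht', zero_smul, add_zero] at hst'
        exact hn (Submodule.mem_span_singleton.2 ⟨s', hst'⟩)
      · apply hu₂n
        refine Submodule.mem_span_pair.2 ⟨-(t'⁻¹ * s'), t'⁻¹, ?_⟩
        rw [← hst', smul_add, smul_smul, smul_smul, inv_mul_cancel₀ ht', one_smul]
        module
    apply step u₂ hu₂ h3 u hu
    intro hm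
    apply hu₂n
    refine Submodule.span_le.2 ?_ hm
    rintro x (rfl | rfl)
    · exact Submodule.subset_span (by simp)
    · exact hu2
  · exact step a₁ ha₁ hk u hu hc

/-- from one pair in `A` to all pairs -/
theorem pairs [Finite F] (h : SG τ ε f) (hi : Iso f M) (hP : Pr f m A B) (hm : 3 ≤ m) (hK : KA f ε M A B) {a a₁ : ι → F}
    (ha : a ∈ A) (ha₁ : a₁ ∈ A) (ha0 : a ≠ 0) (hn : a₁ ∉ Submodule.span F {a}) (hk : KM f ε M a a₁) :
    ∀ u ∈ A, ∀ w ∈ A, KM f ε M u w := by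
  have h1 := pairs1 h hi hP hm hK ha ha₁ hn hk
  intro u hu w hw
  by_cases hau : u ∈ Submodule.span F {a}
  · obtain ⟨c, rfl⟩ := Submodule.mem_span_singleton.1 hau
    rw [KM_smul h]
    exact h1 _ (A.smul_mem _ hw)
  · have hau' : a ∉ Submodule.span F {u} := by
      intro hm
      obtain ⟨c, hc⟩ := Submodule.mem_span_singleton.1 hm
      have hc0 : c ≠ 0 := by
        rintro rfl
        rw [zero_smul] at hc
        exact ha0 hc.symm
      apply hau
      refine Submodule.mem_span_singleton.2 ⟨c⁻¹, ?_⟩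
      rw [← hc, smul_smul, inv_mul_cancel₀ hc0, one_smul]
    exact pairs1 h hi hP hm hK hu ha hau' ((h1 u hu).symm h (hP.ia a ha a ha) (hP.ia u hu u hu) (hP.ia a ha u hu)) w hw

end Cfsg.Agent.H21.GUq
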