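import Mathlib
import Cfsg.Agent.GUq1

set_option autoImplicit false

/-! pairs of complementary totally singular subspaces: maximality in the orthogonal case -/

namespace Cfsg.Agent.H21.GUq

open Matrix Module Cfsg.Geo Cfsg.Agent.H29.Trv Cfsg.Agent.H21.GUp

variable {ι : Type} [Fintype ι] [DecidableEq ι] {F : Type*} [Field F]
variable {f : (ι → F) → (ι → F) → F}
variable {m : ℕ} {A B A' B' : Submodule F (ι → F)} {M N : Subgroup (GL ι F)}

/-- dual bases -/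
theorem dual_basis [Finite F] {τ : F ≃+* F} {ε : F} (h : SG τ ε f) (hP : Pr f m A B) :
    ∃ e v : Fin m → (ι → F), (∀ i, e i ∈ A) ∧ (∀ i, v i ∈ B) ∧ (∀ i, f (e i) (v i) = 1) ∧
      (∀ i j, i ≠ j → f (e i) (v j) = 0) ∧ A = Submodule.span F (Set.range e) := by
  classical
  let bA : Basis (Fin m) F A := Module.finBasisOfFinrankEq F A hP.fa
  let e : Fin m → (ι → F) := fun i => (bA i : ι → F)
  have heA : ∀ i, e i ∈ A := fun i => (bA i).2
  have hli : LinearIndependent F e := bA.linearIndependent.map' A.subtype (Submodule.ker_subtype A)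
  have hdual : ∀ j, ∃ v ∈ B, f (e j) v = 1 ∧ ∀ i, i ≠ j → f (e i) v = 0 := by
    intro j
    have hn : e j ∉ B ⊔ Submodule.span F (e '' {i | i ≠ j}) := by
      intro hm
      obtain ⟨b, hb, w, hw, e1⟩ := Submodule.mem_sup.1 hm
      have hwA : w ∈ A := by
        refine Submodule.span_le.2 ?_ hw
        rintro _ ⟨i, -, rfl⟩
        exact heA i
      have hb' : b ∈ A ⊓ B := ⟨by
        have : b = e j - w := eq_sub_of_add_eq e1
        rw [this]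
        exact A.sub_mem (heA j) hwA, hb⟩
      rw [hP.inf, Submodule.mem_bot] at hb'
      rw [hb', zero_add] at e1
      rw [e1] at hw
      exact hli.notMem_span_image (s := {i | i ≠ j}) (x := j) (by simp) hw
    obtain ⟨v, hv1, hv2⟩ := exists_sep h.toLL _ hn
    exact ⟨v, hP.perp h (fun b hb => hv2 b (Submodule.mem_sup_left hb)), hv1, fun i hi =>
      hv2 _ (Submodule.mem_sup_right (Submodule.subset_span ⟨i, hi, rfl⟩))⟩
  choose v hvB hv1 hv2 using hdual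
  refine ⟨e, v, heA, hvB, hv1, fun i j hij => hv2 j i hij, ?_⟩
  have h1 := bA.span_eq
  have h2 := congrArg (Submodule.map A.subtype) h1
  rw [Submodule.map_span, Submodule.map_subtype_top] at h2
  rw [← h2]
  congr 1
  ext x
  simp [e]

/-- the Weyl element for two hyperbolic pairs -/
theorem weyl2 (h : SG (RingEquiv.refl F) 1 f) {e₁ e₂ v₁ v₂ : ι → F} (k1 : KM f 1 N e₁ e₂) (k2 : KM f 1 N v₁ v₂)
    (a1 : f e₁ e₁ = 0) (a2 : f e₂ e₂ = 0) (a3 : f e₁ e₂ = 0) (b1 : f v₁ v₁ = 0) (b2 : f v₂ v₂ = 0) (b3 : f v₁ v₂ = 0)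
    (c11 : f e₁ v₁ = 1) (c12 : f e₁ v₂ = 0) (c21 : f e₂ v₁ = 0) (c22 : f e₂ v₂ = 1) :
    ∃ w ∈ N, (w : Matrix ι ι F) *ᵥ e₁ = -v₂ ∧ (w : Matrix ι ι F) *ᵥ e₂ = v₁ ∧ (w : Matrix ι ι F) *ᵥ v₁ = -e₂ ∧
      (w : Matrix ι ι F) *ᵥ v₂ = e₁ ∧ ∀ x, f x e₁ = 0 → f x e₂ = 0 → f x v₁ = 0 → f x v₂ = 0 →
      (w : Matrix ι ι F) *ᵥ x = x := by
  obtain ⟨k, hk, hkx'⟩ := k1
  obtain ⟨k', hk', hkx''⟩ := k2
  have hkx : ∀ x, (k : Matrix ι ι F) *ᵥ x = x + f x e₂ • e₁ - f x e₁ • e₂ := fun x => by rw [hkx', one_mul]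
  have hk'x : ∀ x, (k' : Matrix ι ι F) *ᵥ x = x + f x v₂ • v₁ - f x v₁ • v₂ := fun x => by rw [hkx'', one_mul]
  have sy : ∀ x y, f x y = f y x := fun x y => by rw [h.herm x y, one_mul]; rfl
  have s1 : (k : Matrix ι ι F) *ᵥ e₁ = e₁ := by rw [hkx, a1, a3]; module
  have s2 : (k : Matrix ι ι F) *ᵥ e₂ = e₂ := by rw [hkx, a2, sy e₂ e₁, a3]; module
  have s3 : (k : Matrix ι ι F) *ᵥ v₁ = v₁ - e₂ := by rw [hkx, sy v₁ e₂, sy v₁ e₁, c21, c11]; module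
  have s4 : (k : Matrix ι ι F) *ᵥ v₂ = v₂ + e₁ := by rw [hkx, sy v₂ e₂, sy v₂ e₁, c22, c12]; module
  have t1 : (k' : Matrix ι ι F) *ᵥ v₁ = v₁ := by rw [hk'x, b1, b3]; module
  have t2 : (k' : Matrix ι ι F) *ᵥ v₂ = v₂ := by rw [hk'x, b2, sy v₂ v₁, b3]; module
  have t3 : (k' : Matrix ι ι F) *ᵥ e₁ = e₁ - v₂ := by rw [hk'x, c12, c11]; module
  have t4 : (k' : Matrix ι ι F) *ᵥ e₂ = e₂ + v₁ := by rw [hk'x, c22, c21]; module
  refine ⟨k * k' * k, N.mul_mem (N.mul_mem hk hk') hk, ?_, ?_, ?_, ?_, ?_⟩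
  · rw [Cfsg.Agent.H29.Trv.mul_apply, Cfsg.Agent.H29.Trv.mul_apply, s1, t3, mulVec_sub, s1, s4]; abel
  · rw [Cfsg.Agent.H29.Trv.mul_apply, Cfsg.Agent.H29.Trv.mul_apply, s2, t4, mulVec_add, s2, s3]; abel
  · rw [Cfsg.Agent.H29.Trv.mul_apply, Cfsg.Agent.H29.Trv.mul_apply, s3, mulVec_sub, t1, t4, mulVec_sub, mulVec_add, s3, s2]
    abel
  · rw [Cfsg.Agent.H29.Trv.mul_apply, Cfsg.Agent.H29.Trv.mul_apply, s4, mulVec_add, t2, t3, mulVec_add, mulVec_sub, s4, s1]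
    abel
  · intro x h1 h2 h3 h4
    have e1 : (k : Matrix ι ι F) *ᵥ x = x := by rw [hkx, h1, h2]; module
    have e2 : (k' : Matrix ι ι F) *ᵥ x = x := by rw [hk'x, h3, h4]; module
    rw [Cfsg.Agent.H29.Trv.mul_apply, Cfsg.Agent.H29.Trv.mul_apply, e1, e2, e1]

/-- there is an element interchanging the two subspaces -/
theorem exists_swap2 [Finite F] (h : SG (RingEquiv.refl F) 1 f) (hP : Pr f m A B) (hm : Even m)
    (hNA : ∀ u ∈ A, ∀ w ∈ A, KM f 1 N u w) (hNB : ∀ u ∈ B, ∀ w ∈ B, KM f 1 N u w) :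
    ∃ s ∈ N, (∀ a ∈ A, (s : Matrix ι ι F) *ᵥ a ∈ B) ∧ ∀ b ∈ B, (s : Matrix ι ι F) *ᵥ b ∈ A := by
  classical
  obtain ⟨e', v', he', hv', hev', hev0', hsp⟩ := dual_basis h hP
  obtain ⟨p, hp⟩ : ∃ p, p * 2 = m := by
    obtain ⟨p, hp⟩ := hm
    exact ⟨p, by omega⟩
  subst hp
  let φ : Fin p × Fin 2 ≃ Fin (p * 2) := finProdFinEquiv
  let e : Fin p → Fin 2 → (ι → F) := fun j i => e' (φ (j, i))
  let v : Fin p → Fin 2 → (ι → F) := fun j i => v' (φ (j, i))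
  have heA : ∀ j i, e j i ∈ A := fun j i => he' _
  have hvB : ∀ j i, v j i ∈ B := fun j i => hv' _
  have hev : ∀ j i, f (e j i) (v j i) = 1 := fun j i => hev' _
  have hev0 : ∀ j i j' i', (j ≠ j' ∨ i ≠ i') → f (e j i) (v j' i') = 0 := by
    intro j i j' i' hne
    apply hev0'
    intro h0
    have h1 := φ.injective h0
    rw [Prod.mk.injEq] at h1
    rcases hne with h2 | h2
    · exact h2 h1.1
    · exact h2 h1.2
  have key : ∀ S : Finset (Fin p), ∃ s ∈ N, (∀ j ∈ S, (s : Matrix ι ι F) *ᵥ e j 0 = -(v j 1) ∧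
      (s : Matrix ι ι F) *ᵥ e j 1 = v j 0 ∧ (s : Matrix ι ι F) *ᵥ v j 0 = -(e j 1) ∧
      (s : Matrix ι ι F) *ᵥ v j 1 = e j 0) ∧ ∀ j, j ∉ S → ∀ i, (s : Matrix ι ι F) *ᵥ e j i = e j i ∧
      (s : Matrix ι ι F) *ᵥ v j i = v j i := by
    intro S
    induction S using Finset.induction_on with
    | empty => exact ⟨1, N.one_mem, by simp, fun j _ i => by simp⟩
    | insert k S hk ih =>
      obtain ⟨s, hs, hs1, hs2⟩ := ih
      obtain ⟨w, hw, w1, w2, w3, w4, hwx⟩ := weyl2 h (hNA _ (heA k 0) _ (heA k 1)) (hNB _ (hvB k 0) _ (hvB k 1))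
        (hP.ia _ (heA k 0) _ (heA k 0)) (hP.ia _ (heA k 1) _ (heA k 1)) (hP.ia _ (heA k 0) _ (heA k 1))
        (hP.ib _ (hvB k 0) _ (hvB k 0)) (hP.ib _ (hvB k 1) _ (hvB k 1)) (hP.ib _ (hvB k 0) _ (hvB k 1))
        (hev k 0) (hev0 k 0 k 1 (Or.inr (by decide))) (hev0 k 1 k 0 (Or.inr (by decide))) (hev k 1)
      have hfix : ∀ j, j ≠ k → ∀ i, (w : Matrix ι ι F) *ᵥ e j i = e j i ∧ (w : Matrix ι ι F) *ᵥ v j i = v j i := by
        intro j hj i
        exact ⟨hwx _ (hP.ia _ (heA j i) _ (heA k 0)) (hP.ia _ (heA j i) _ (heA k 1)) (hev0 j i k 0 (Or.inl hj))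
          (hev0 j i k 1 (Or.inl hj)), hwx _ (h.z (hev0 k 0 j i (Or.inl hj.symm))) (h.z (hev0 k 1 j i (Or.inl hj.symm)))
          (hP.ib _ (hvB j i) _ (hvB k 0)) (hP.ib _ (hvB j i) _ (hvB k 1))⟩
      refine ⟨s * w, N.mul_mem hs hw, ?_, ?_⟩
      · intro j hj
        rw [Finset.mem_insert] at hj
        by_cases hjk : j = k
        · subst hjk
          rw [Cfsg.Agent.H29.Trv.mul_apply, Cfsg.Agent.H29.Trv.mul_apply, Cfsg.Agent.H29.Trv.mul_apply,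
            Cfsg.Agent.H29.Trv.mul_apply, w1, w2, w3, w4, mulVec_neg, mulVec_neg, (hs2 j hk 1).2, (hs2 j hk 0).2,
            (hs2 j hk 1).1, (hs2 j hk 0).1]
          exact ⟨rfl, rfl, rfl, rfl⟩
        · rw [Cfsg.Agent.H29.Trv.mul_apply, Cfsg.Agent.H29.Trv.mul_apply, Cfsg.Agent.H29.Trv.mul_apply,
            Cfsg.Agent.H29.Trv.mul_apply, (hfix j hjk 0).1, (hfix j hjk 1).1, (hfix j hjk 0).2, (hfix j hjk 1).2]
          exact hs1 j (hj.resolve_left hjk)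
      · intro j hj i
        rw [Finset.mem_insert, not_or] at hj
        rw [Cfsg.Agent.H29.Trv.mul_apply, Cfsg.Agent.H29.Trv.mul_apply, (hfix j hj.1 i).1, (hfix j hj.1 i).2]
        exact hs2 j hj.2 i
  obtain ⟨s, hs, hs1, -⟩ := key Finset.univ
  have hidx : ∀ x ∈ Set.range e', ∃ j i, x = e j i := by
    rintro _ ⟨i, rfl⟩
    refine ⟨(φ.symm i).1, (φ.symm i).2, ?_⟩
    show e' i = e' (φ ((φ.symm i).1, (φ.symm i).2))
    rw [Prod.mk.eta, Equiv.apply_symm_apply]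
  have hB1 : ∀ j i, (s : Matrix ι ι F) *ᵥ e j i ∈ B := by
    intro j i
    obtain ⟨h1, h2, -, -⟩ := hs1 j (Finset.mem_univ j)
    fin_cases i
    · show (s : Matrix ι ι F) *ᵥ e j 0 ∈ B
      rw [h1]; exact B.neg_mem (hvB _ _)
    · show (s : Matrix ι ι F) *ᵥ e j 1 ∈ B
      rw [h2]; exact hvB _ _
  have hA1 : ∀ j i, (s : Matrix ι ι F) *ᵥ ((s : Matrix ι ι F) *ᵥ e j i) ∈ A := by
    intro j i
    obtain ⟨h1, h2, h3, h4⟩ := hs1 j (Finset.mem_univ j)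
    fin_cases i
    · show (s : Matrix ι ι F) *ᵥ ((s : Matrix ι ι F) *ᵥ e j 0) ∈ A
      rw [h1, mulVec_neg, h4]; exact A.neg_mem (heA _ _)
    · show (s : Matrix ι ι F) *ᵥ ((s : Matrix ι ι F) *ᵥ e j 1) ∈ A
      rw [h2, h3]; exact A.neg_mem (heA _ _)
  have hA : ∀ a ∈ A, (s : Matrix ι ι F) *ᵥ a ∈ B := by
    intro a ha
    rw [hsp] at ha
    induction ha using Submodule.span_induction with
    | mem x hx =>
      obtain ⟨j, i, rfl⟩ := hidx x hx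
      exact hB1 j i
    | zero => rw [mulVec_zero]; exact B.zero_mem
    | add x y _ _ hx hy => rw [mulVec_add]; exact B.add_mem hx hy
    | smul c x _ hx => rw [mulVec_smul]; exact B.smul_mem _ hx
  have hAA : ∀ a ∈ A, (s : Matrix ι ι F) *ᵥ ((s : Matrix ι ι F) *ᵥ a) ∈ A := by
    intro a ha
    rw [hsp] at ha
    induction ha using Submodule.span_induction with
    | mem x hx =>
      obtain ⟨j, i, rfl⟩ := hidx x hx
      exact hA1 j i
    | zero => rw [mulVec_zero, mulVec_zero]; exact A.zero_mem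
    | add x y _ _ hx hy => rw [mulVec_add, mulVec_add]; exact A.add_mem hx hy
    | smul c x _ hx => rw [mulVec_smul, mulVec_smul]; exact A.smul_mem _ hx
  refine ⟨s, hs, hA, fun b hb => ?_⟩
  have hmap : A.map (linE s).toLinearMap = B := by
    apply Submodule.eq_of_le_of_finrank_eq
    · rintro _ ⟨a, ha, rfl⟩
      exact hA a ha
    · rw [LinearEquiv.finrank_map_eq, hP.fa, hP.fb]
  rw [← hmap] at hb
  obtain ⟨a, ha, rfl⟩ := hb
  exact hAA a ha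

end Cfsg.Agent.H21.GUq
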