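import Mathlib
import Cfsg.Agent.GUq2

set_option autoImplicit false

/-! pairs of complementary totally singular subspaces: maximality in the orthogonal case -/

namespace Cfsg.Agent.H21.GUq

open Matrix Module Cfsg.Geo Cfsg.Agent.H29.Trv Cfsg.Agent.H21.GUp

variable {ι : Type} [Fintype ι] [DecidableEq ι] {F : Type*} [Field F]
variable {f : (ι → F) → (ι → F) → F}
variable {m : ℕ} {A B A' B' : Submodule F (ι → F)} {M N : Subgroup (GL ι F)}

/-- everything from the three families -/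
theorem all_K [Finite F] (h : SG (RingEquiv.refl F) 1 f) (hP : Pr f m A B) (hi : Iso f M) {Q : (ι → F) → F}
    (hQA : ∀ a ∈ A, Q a = 0) (hQB : ∀ b ∈ B, Q b = 0) (hQ : ∀ x y, Q (x + y) = Q x + Q y + f x y)
    (hQi : ∀ g ∈ M, ∀ x, Q ((g : Matrix ι ι F) *ᵥ x) = Q x)
    (hK : KA f 1 M A B) (hKA : ∀ u ∈ A, ∀ w ∈ A, KM f 1 M u w) (hKB : ∀ u ∈ B, ∀ w ∈ B, KM f 1 M u w) :
    ∀ x y, Q x = 0 → Q y = 0 → f x y = 0 → KM f 1 M x y := by
  have sy : ∀ x y, f x y = f y x := fun x y => by rw [h.herm x y, one_mul]; rfl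
  have fullA : ∀ a ∈ A, ∀ y, Q y = 0 → f a y = 0 → KM f 1 M a y := by
    intro a ha y hy hay
    have hyt : y ∈ A ⊔ B := by rw [hP.top]; trivial
    obtain ⟨a', ha', b', hb', rfl⟩ := Submodule.mem_sup.1 hyt
    rw [hQ, hQA a' ha', hQB b' hb', zero_add, zero_add] at hy
    rw [h.add_right, hP.ia a ha a' ha', zero_add] at hay
    exact KM_add h (hKA a ha a' ha') (hK a ha b' hb' hay) (hP.ia a ha a ha) (hP.ia a ha a' ha') hay (h.z hy)
  have fullB : ∀ b ∈ B, ∀ y, Q y = 0 → f b y = 0 → KM f 1 M b y := by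
    intro b hb y hy hby
    have hyt : y ∈ A ⊔ B := by rw [hP.top]; trivial
    obtain ⟨a', ha', b', hb', rfl⟩ := Submodule.mem_sup.1 hyt
    rw [hQ, hQA a' ha', hQB b' hb', zero_add, zero_add] at hy
    rw [h.add_right, hP.ib b hb b' hb', add_zero] at hby
    have h1 := KM_add h (hKB b hb b' hb') ((hK.symm h hP) b hb a' ha' hby) (hP.ib b hb b hb) (hP.ib b hb b' hb') hby hy
    rwa [add_comm b' a'] at h1
  intro x y hx hy hxy
  have hxt : x ∈ A ⊔ B := by rw [hP.top]; trivial
  obtain ⟨a, ha, b, hb, rfl⟩ := Submodule.mem_sup.1 hxt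
  by_cases ha0 : a = 0
  · rw [ha0, zero_add] at hxy ⊢
    exact fullB b hb y hy hxy
  have hab : f a b = 0 := by
    rw [hQ, hQA a ha, hQB b hb, zero_add, zero_add] at hx
    exact hx
  have hn : a ∉ B := by
    intro hm
    have : a ∈ A ⊓ B := ⟨ha, hm⟩
    rw [hP.inf] at this
    exact ha0 this
  obtain ⟨z, hz1, hz2⟩ := exists_sep h.toLL _ hn
  have hzB : z ∈ B := hP.perp h hz2
  obtain ⟨k, hk, hkx⟩ := hKB b hb z hzB
  have hka : (k : Matrix ι ι F) *ᵥ a = a + b := by
    rw [hkx, hz1, hab]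
    module
  -- pull back y
  have hkk := hi k hk
  set y' := ((k⁻¹ : GL ι F) : Matrix ι ι F) *ᵥ y with hy'
  have hky : (k : Matrix ι ι F) *ᵥ y' = y := self_inv_mulVec k y
  have h1 : f a y' = 0 := by rw [← hkk, hka, hky]; exact hxy
  have h2 : Q y' = 0 := by rw [← hQi k hk, hky]; exact hy
  have h3 := (fullA a ha y' h2 h1).conj h hk hkk
  rwa [hka, hky] at h3

/-- the maximality theorem, orthogonal case -/
theorem maximalO [Finite F] (h : SG (RingEquiv.refl F) 1 f) {D : Fin 2 → Submodule F (ι → F)} (hm : 5 ≤ m) (hme : Even m)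
    (hP : Pr f m (D 0) (D 1)) (hi : Iso f N) {Q : (ι → F) → F} (hQA : ∀ a ∈ D 0, Q a = 0) (hQB : ∀ b ∈ D 1, Q b = 0)
    (hQ : ∀ x y, Q (x + y) = Q x + Q y + f x y) (hQi : ∀ g ∈ N, ∀ x, Q ((g : Matrix ι ι F) *ᵥ x) = Q x)
    (hNK : ∀ u v, Q u = 0 → Q v = 0 → f u v = 0 → KM f 1 N u v)
    (hgen : ∀ M : Subgroup (GL ι F), M ≤ N → (∀ u v, Q u = 0 → Q v = 0 → f u v = 0 → KM f 1 M u v) → N ≤ M) :
    IsMaximalIn N (decompositionStabilizer D ⊓ N) := by
  have sy : ∀ x y, f x y = f y x := fun x y => by rw [h.herm x y, one_mul]; rfl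
  refine Cfsg.Agent.H29.Trv.isMaximalIn_of inf_le_right ?_ ?_
  · intro hle
    obtain ⟨a, ha, ha0⟩ : ∃ a ∈ D 0, a ≠ 0 := (Submodule.ne_bot_iff _).1 (by
      intro h0
      have := hP.fa
      rw [h0, finrank_bot] at this
      omega)
    obtain ⟨a', ha', hn⟩ := exists_notMem_of_lt (X := D 0) (Y := Submodule.span F {a}) (by
      have h4 := Submodule.finrank_mono (inf_le_right : D 0 ⊓ Submodule.span F {a} ≤ Submodule.span F {a})
      have h5 := finrank_span_le_card (R := F) ({a} : Set (ι → F))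
      simp only [Set.toFinset_singleton, Finset.card_singleton] at h5
      have h6 := hP.fa
      omega)
    obtain ⟨t, ht, htx⟩ := hNK a a' (hQA a ha) (hQA a' ha') (hP.ia a ha a' ha')
    obtain ⟨σ, hσ⟩ := (hle ht).1
    have h1 : (t : Matrix ι ι F) *ᵥ a = a := by
      rw [htx, hP.ia a ha a' ha', hP.ia a ha a ha]
      module
    have h2 : a ∈ D (σ 0) := by
      rw [← hσ 0]
      exact ⟨a, ha, h1⟩
    have h3 : σ 0 = 0 := by
      by_contra hne
      have : σ 0 = 1 := by omega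
      rw [this] at h2
      have h4 : a ∈ D 0 ⊓ D 1 := ⟨ha, h2⟩
      rw [hP.inf] at h4
      exact ha0 h4
    have h4 : σ 1 = 1 := by
      by_contra hne
      have h5 : σ 1 = 0 := by omega
      have := σ.injective (h3.trans h5.symm)
      exact absurd this (by decide)
    have hn' : a' ∉ D 1 ⊔ Submodule.span F {a} := by
      intro hm
      obtain ⟨b, hb, w, hw, e⟩ := Submodule.mem_sup.1 hm
      have hwA : w ∈ D 0 := by
        obtain ⟨c, rfl⟩ := Submodule.mem_span_singleton.1 hw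
        exact (D 0).smul_mem _ ha
      have hb' : b ∈ D 0 ⊓ D 1 := ⟨by
        have : b = a' - w := eq_sub_of_add_eq e
        rw [this]
        exact (D 0).sub_mem ha' hwA, hb⟩
      rw [hP.inf, Submodule.mem_bot] at hb'
      rw [hb', zero_add] at e
      rw [← e] at hn
      exact hn hw
    obtain ⟨y, hy1, hy2⟩ := exists_sep h.toLL _ hn'
    have hyB : y ∈ D 1 := hP.perp h (fun b hb => hy2 b (Submodule.mem_sup_left hb))
    have hya : f a y = 0 := hy2 a (Submodule.mem_sup_right (Submodule.mem_span_singleton_self a))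
    have h5 : (t : Matrix ι ι F) *ᵥ y ∈ D 1 := by
      have := hσ 1
      rw [h4] at this
      rw [← this]
      exact ⟨y, hyB, rfl⟩
    rw [htx, sy y a', hy1, sy y a, hya] at h5
    have e1 : y + (1 : F) • a - (1 * 0 : F) • a' = y + a := by module
    rw [e1] at h5
    have h8 := (Submodule.add_mem_iff_right _ hyB).1 h5
    have h9 : a ∈ D 0 ⊓ D 1 := ⟨ha, h8⟩
    rw [hP.inf] at h9
    exact ha0 h9
  · intro M hM1 hM2 g hgM hgH
    have hiM : Iso f M := fun g hg => hi g (hM2 hg)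
    have hK : KA f 1 M (D 0) (D 1) := by
      intro u hu v hv huv
      obtain ⟨k, hk, hkx⟩ := hNK u v (hQA u hu) (hQB v hv) huv
      refine ⟨k, hM1 ⟨⟨1, fun i => ?_⟩, hk⟩, hkx⟩
      fin_cases i
      · apply map_eq_of _ rfl
        intro x hx
        rw [hkx, hP.ia x hx u hu, mul_zero, zero_smul, sub_zero]
        exact (D 0).add_mem hx ((D 0).smul_mem _ hu)
      · apply map_eq_of _ rfl
        intro x hx
        rw [hkx, hP.ib x hx v hv, zero_smul, add_zero]
        exact (D 1).sub_mem hx ((D 1).smul_mem _ hv)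
    have hinj : Function.Injective (Matrix.toLin' (g : Matrix ι ι F)) := fun x y hxy => mulVec_inj (g := g) hxy
    have hsurjg : Function.Surjective (Matrix.toLin' (g : Matrix ι ι F)) := fun x => ⟨_, self_inv_mulVec g x⟩
    set A' := (D 0).map (Matrix.toLin' (g : Matrix ι ι F)) with hA'
    set B' := (D 1).map (Matrix.toLin' (g : Matrix ι ι F)) with hB'
    have hP' : Pr f m A' B' := by
      refine ⟨?_, ?_, ?_, ?_, ?_, ?_⟩
      · rintro _ ⟨u, hu, rfl⟩ _ ⟨v, hv, rfl⟩
        rw [Matrix.toLin'_apply, Matrix.toLin'_apply, hiM g hgM]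
        exact hP.ia u hu v hv
      · rintro _ ⟨u, hu, rfl⟩ _ ⟨v, hv, rfl⟩
        rw [Matrix.toLin'_apply, Matrix.toLin'_apply, hiM g hgM]
        exact hP.ib u hu v hv
      · rw [hA', hB', ← Submodule.map_sup, hP.top, Submodule.map_top, LinearMap.range_eq_top]
        exact hsurjg
      · rw [hA', hB', ← Submodule.map_inf _ hinj, hP.inf, Submodule.map_bot]
      · have e : (D 0).map (Matrix.toLin' (g : Matrix ι ι F)) = (D 0).map (linE g).toLinearMap := rfl
        rw [hA', e, LinearEquiv.finrank_map_eq, hP.fa]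
      · have e : (D 1).map (Matrix.toLin' (g : Matrix ι ι F)) = (D 1).map (linE g).toLinearMap := rfl
        rw [hB', e, LinearEquiv.finrank_map_eq, hP.fb]
    have hK' : KA f 1 M A' B' := by
      rintro _ ⟨u, hu, rfl⟩ _ ⟨v, hv, rfl⟩ huv
      rw [Matrix.toLin'_apply, Matrix.toLin'_apply] at huv ⊢
      rw [hiM g hgM] at huv
      exact (hK u hu v hv huv).conj h hgM (hiM g hgM)
    have hQ' : ∀ w, (w ∈ A' ∨ w ∈ B') → Q w = 0 := by
      rintro w (⟨x, hx, rfl⟩ | ⟨x, hx, rfl⟩)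
      · rw [Matrix.toLin'_apply, hQi g (hM2 hgM)]
        exact hQA x hx
      · rw [Matrix.toLin'_apply, hQi g (hM2 hgM)]
        exact hQB x hx
    -- the swap
    obtain ⟨s, hs, hsA, hsB⟩ := exists_swap2 (N := N) h hP hme (fun u hu w hw => hNK u w (hQA u hu) (hQA w hw) (hP.ia u hu w hw))
      (fun u hu w hw => hNK u w (hQB u hu) (hQB w hw) (hP.ib u hu w hw))
    have hsM : s ∈ M := by
      refine hM1 ⟨⟨Equiv.swap 0 1, fun i => ?_⟩, hs⟩
      fin_cases i
      · exact map_eq_of hsA (by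
          show finrank F (D 0) = finrank F (D (Equiv.swap 0 1 0))
          rw [Equiv.swap_apply_left, hP.fa, hP.fb])
      · exact map_eq_of hsB (by
          show finrank F (D 1) = finrank F (D (Equiv.swap 0 1 1))
          rw [Equiv.swap_apply_right, hP.fa, hP.fb])
    -- a violation of the hypothesis gives a pair
    have viol : ∀ X Y : Submodule F (ι → F), Pr f m X Y → KA f 1 M X Y → (∀ a ∈ X, Q a = 0) → (∀ b ∈ Y, Q b = 0) →
        ¬ Hy f 1 M X Y A' B' → ∀ u ∈ X, ∀ w ∈ X, KM f 1 M u w := by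
      intro X Y hXY hKX hQX hQY hno
      unfold Hy at hno
      push Not at hno
      obtain ⟨u, hu, hu0, w, hw, huw, hkm, hwn⟩ := hno
      have hwt : w ∈ X ⊔ Y := by rw [hXY.top]; trivial
      obtain ⟨a₁, ha₁, b₁, hb₁, rfl⟩ := Submodule.mem_sup.1 hwt
      have hQw := hQ' _ hw
      rw [hQ, hQX a₁ ha₁, hQY b₁ hb₁, zero_add, zero_add] at hQw
      have hub : f u b₁ = 0 := by
        rw [h.add_right, hXY.ia u hu a₁ ha₁, zero_add] at huw
        exact huw
      have k1 := hkm 1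
      rw [one_smul] at k1
      have k2 := hKX u hu (-b₁) (Y.neg_mem hb₁) (by rw [h.toLL.neg_right, hub, neg_zero])
      have k3 := KM_add h k1 k2 (hXY.ia u hu u hu) huw (by rw [h.toLL.neg_right, hub, neg_zero]) (by
        rw [h.neg_left, h.add_right, h.z hQw, hXY.ib b₁ hb₁ b₁ hb₁]
        ring)
      rw [add_neg_cancel_right] at k3
      refine pairs h hiM hXY (by omega) hKX hu ha₁ hu0 (fun hm => hwn ?_) k3
      exact Submodule.add_mem _ (Submodule.mem_sup_right hm) (Submodule.mem_sup_left hb₁)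
    have hcon : (∀ u ∈ D 0, ∀ w ∈ D 0, KM f 1 M u w) ∧ (∀ u ∈ D 1, ∀ w ∈ D 1, KM f 1 M u w) := by
      have sAB : (∀ u ∈ D 0, ∀ w ∈ D 0, KM f 1 M u w) → (∀ u ∈ D 1, ∀ w ∈ D 1, KM f 1 M u w) := by
        intro hh u hu w hw
        have h1 : ∀ x ∈ D 1, ∃ y ∈ D 0, (s : Matrix ι ι F) *ᵥ y = x := by
          intro x hx
          have := map_eq_of (g := s) hsA (by rw [hP.fa, hP.fb])
          rw [← this] at hx
          exact hx
        obtain ⟨u', hu', rfl⟩ := h1 u hu
        obtain ⟨w', hw', rfl⟩ := h1 w hw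
        exact (hh u' hu' w' hw').conj h hsM (hiM s hsM)
      have sBA : (∀ u ∈ D 1, ∀ w ∈ D 1, KM f 1 M u w) → (∀ u ∈ D 0, ∀ w ∈ D 0, KM f 1 M u w) := by
        intro hh u hu w hw
        have h1 : ∀ x ∈ D 0, ∃ y ∈ D 1, (s : Matrix ι ι F) *ᵥ y = x := by
          intro x hx
          have := map_eq_of (g := s) hsB (by rw [hP.fa, hP.fb])
          rw [← this] at hx
          exact hx
        obtain ⟨u', hu', rfl⟩ := h1 u hu
        obtain ⟨w', hw', rfl⟩ := h1 w hw
        exact (hh u' hu' w' hw').conj h hsM (hiM s hsM)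
      by_cases hH1 : Hy f 1 M (D 0) (D 1) A' B'
      · by_cases hH2 : Hy f 1 M (D 1) (D 0) A' B'
        · exfalso
          rcases stage1 h hm hP hP' hK hK' hH1 hH2 with ⟨e0, e1⟩ | ⟨e0, e1⟩
          · refine hgH ⟨⟨1, fun i => ?_⟩, hM2 hgM⟩
            fin_cases i
            · exact e0
            · exact e1
          · refine hgH ⟨⟨Equiv.swap 0 1, fun i => ?_⟩, hM2 hgM⟩
            fin_cases i
            · show _ = D (Equiv.swap 0 1 0)
              rw [Equiv.swap_apply_left]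
              exact e0
            · show _ = D (Equiv.swap 0 1 1)
              rw [Equiv.swap_apply_right]
              exact e1
        · have h1 := viol (D 1) (D 0) hP.symm (hK.symm h hP) hQB hQA hH2
          exact ⟨sBA h1, h1⟩
      · have h1 := viol (D 0) (D 1) hP hK hQA hQB hH1
        exact ⟨h1, sAB h1⟩
    exact hgen M hM2 (all_K h hP hiM hQA hQB hQ (fun g hg => hQi g (hM2 hg)) hK hcon.1 hcon.2)

end Cfsg.Agent.H21.GUq
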