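import Mathlib
import Cfsg.Prelude.Def_Blocks
import Cfsg.Agent.H10_BlockPrin
import Cfsg.Agent.H10_BlockQuot
import Cfsg.Agent.H10_Homo
import Cfsg.Agent.H10_BlockGreen

/-!
H10_BlockV4: principal 2-blocks with Klein four Sylow subgroups.
-/

set_option autoImplicit false
set_option linter.style.haveILetI false
set_option linter.unusedSectionVars false

namespace Cfsg.Agent.H10.BlockV4

open Cfsg Cfsg.Agent.H3.CharIrr Cfsg.Agent.H3.CharComplete Cfsg.Agent.H3.CharInd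
  Cfsg.Agent.H3.CharBasic Cfsg.Agent.H10.BlockLoc
  Cfsg.Agent.H10.BlockTrace Cfsg.Agent.H10.Char Cfsg.Agent.H10.BlockAlg Cfsg.Agent.H10.BlockIdem
  Cfsg.Agent.H10.BlockOrth Cfsg.Agent.H10.BlockDefect Cfsg.Agent.H10.BlockNormal
  Cfsg.Agent.H10.BlockInd Cfsg.Agent.H10.BlockMain Cfsg.Agent.H10.PPart Cfsg.Agent.H10.BlockSMT
  Cfsg.Agent.H10.BlockSMT2 Cfsg.Agent.H10.BlockHZ Cfsg.Agent.H10.BlockK Cfsg.Agent.H10.BlockKer
  Cfsg.Agent.H10.BlockPrin Cfsg.Agent.H10.Homo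
open scoped ComplexConjugate

variable {G : Type*} [Group G]

theorem R2.of_klein {P : Subgroup G} (h : IsKleinFour P) : R2 P := by
  obtain ⟨e⟩ := IsKleinFour.nonempty_mulEquiv (G₁ := P) (G₂ := Multiplicative (ZMod 2 × ZMod 2))
  exact R2.of_equiv (m := 1) le_rfl e

variable [Fintype G] {p : ℕ} {M : Ideal AlgInt}

/-- character values at elements with z * z = 1 are integers -/
theorem invol_int {χ : G → ℂ} (hχ : IsCharacter G χ) {z : G} (hz : orderOf z = 2) :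
    ∃ m : ℕ, χ 1 + χ z = 2 * m := by
  classical
  haveI : Fintype (Subgroup.zpowers z) := Fintype.ofFinite _
  obtain ⟨m, hm⟩ := sum_char_subgroup hχ (Subgroup.zpowers z)
  refine ⟨m, ?_⟩
  have hcard : Nat.card (Subgroup.zpowers z) = 2 := by rw [Nat.card_zpowers, hz]
  rw [hcard] at hm
  rw [← Nat.cast_two, ← hm]
  have hz1 : z ≠ 1 := by rintro rfl; rw [orderOf_one] at hz; exact absurd hz (by norm_num)
  have hne : (1 : Subgroup.zpowers z) ≠ ⟨z, Subgroup.mem_zpowers z⟩ := by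
    intro h; exact hz1 (congrArg Subtype.val h).symm
  have huniv : (Finset.univ : Finset (Subgroup.zpowers z)) = {1, ⟨z, Subgroup.mem_zpowers z⟩} := by
    symm
    apply Finset.eq_univ_of_card
    rw [Finset.card_pair hne, ← Nat.card_eq_fintype_card, hcard]
  rw [huniv, Finset.sum_pair hne]
  rfl

theorem invol_int' (χ : IrrCharacter G) {z : G} (hz : orderOf z = 2) :
    ∃ n : ℤ, (χ : G → ℂ) z = n := by
  obtain ⟨m, hm⟩ := invol_int (isChar_of_irr χ.2) hz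
  refine ⟨2 * m - charDegree (χ : G → ℂ), ?_⟩
  push_cast
  rw [charDegree_eq χ.2, ← hm]; ring

/-- characters of the principal block do not vanish on all p-singular elements -/
theorem principal_nonvanish [hp : Fact p.Prime] (hM : IsPModular p M) {ζ : IrrCharacter G}
    (hζ : ζ ∈ principalBlock M G) (hne : ζ ≠ triv G) : ∃ g : G, p ∣ orderOf g ∧ (ζ : G → ℂ) g ≠ 0 := by
  classical
  haveI := hM.2.1
  by_contra hno
  push Not at hno
  apply om_zchi_unit hM principal_isPBlock (triv_mem (G := G)) (triv_height (G := G) (p := p)) hζ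
  unfold zchi
  rw [om_zreg]
  have h1 : ∑ g : G, (if p ∣ orderOf g then 0 else ((triv G : IrrCharacter G) : G → ℂ) g⁻¹ * (ζ : G → ℂ) g) =
      (Nat.card G : ℂ) * classInner (ζ : G → ℂ) ((triv G : IrrCharacter G) : G → ℂ) := by
    rw [classInner, ← mul_assoc, mul_inv_cancel₀ (Nat.cast_ne_zero.2 Nat.card_pos.ne'), one_mul]
    refine Finset.sum_congr rfl fun g _ => ?_
    rw [triv_coe, triv_coe, map_one, mul_one, one_mul]
    split_ifs with h
    · rw [hno g h]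
    · rfl
  rw [h1, ci_irr_ne ζ.2 (triv G).2 (fun h => hne (Subtype.ext h)), mul_zero, zero_div]
  exact ideal_zero

theorem singular_complement [hp : Fact p.Prime] (hM : IsPModular p M) {u : G} (hu : ∃ k, orderOf u = p ^ k)
    {K : Subgroup (Subgroup.centralizer ({u} : Set G))} (hK : K.Normal) (hKp : ¬ p ∣ Nat.card K)
    (hidx : ∃ k, K.index = p ^ k) (v : Subgroup.centralizer ({u} : Set G)) (hv : ¬ p ∣ orderOf v)
    {χ : IrrCharacter G} (hχ : χ ∈ principalBlock M G) : (χ : G → ℂ) (u * v) = (χ : G → ℂ) u := by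
  haveI : Fintype (Subgroup.centralizer ({u} : Set G)) := Fintype.ofFinite _
  apply principal_constant hM hu _ hχ
  have h1 : K ≤ pPrimeCore p (Subgroup.centralizer ({u} : Set G)) :=
    Cfsg.Agent.H11.Cores.le_pPrimeCore (G := Subgroup.centralizer ({u} : Set G)) p
      ((Nat.Prime.coprime_iff_not_dvd hp.out).2 hKp).symm
  exact h1 (regular_mem hp.out hidx hv)


open Classical in
theorem principal_norm_compl [hp : Fact p.Prime] (hM : IsPModular p M) [Fintype (IrrCharacter G)] {z : G}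
    (hz : ∃ k, orderOf z = p ^ k)
    {K : Subgroup (Subgroup.centralizer ({z} : Set G))} (hK : K.Normal) (hKp : ¬ p ∣ Nat.card K)
    (hidx : ∃ k, K.index = p ^ k) (y : Subgroup.centralizer ({z} : Set G)) (hy : ¬ p ∣ orderOf y) :
    ∑ χ : IrrCharacter G, (if χ ∈ principalBlock M G then
        (χ : G → ℂ) (z * y) * conj ((χ : G → ℂ) (z * y)) else 0) = (K.index : ℂ) := by
  haveI : Fintype (Subgroup.centralizer ({z} : Set G)) := Fintype.ofFinite _
  haveI : Fintype (IrrCharacter (Subgroup.centralizer ({z} : Set G))) := Fintype.ofFinite _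
  rw [principal_norm hM hz y hy, ← sum_sq_ker K]
  refine Finset.sum_congr rfl fun ψ _ => ?_
  by_cases h : ψ ∈ principalBlock M (Subgroup.centralizer ({z} : Set G))
  · have h5 := principal_ker hM K hKp h
    have h6 := h5 y (regular_mem hM.1 hidx hy)
    rw [if_pos h, if_pos h5, h6]
  · rw [if_neg h, if_neg]
    intro h5
    exact h (principal_of_complement hM K hKp hidx h5)

theorem klein_order {P : Subgroup G} (h : IsKleinFour P) {x : G} (hx : x ∈ P) (hx1 : x ≠ 1) : orderOf x = 2 := by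
  apply orderOf_eq_prime _ hx1
  haveI := h
  have := IsKleinFour.mul_self (⟨x, hx⟩ : P)
  rw [sq]
  exact congrArg Subtype.val this

theorem v4_value (hM : IsPModular 2 M) (P : Sylow 2 G)
    (hP : IsKleinFour (P : Subgroup G)) (hone : ∀ s t : G, orderOf s = 2 → orderOf t = 2 → IsConj s t)
    {z : G} (hzP : z ∈ (P : Subgroup G)) (hz : orderOf z = 2) {g : G} (hg : 2 ∣ orderOf g)
    {ζ : IrrCharacter G} (hζ : ζ ∈ principalBlock M G) : (ζ : G → ℂ) g = (ζ : G → ℂ) z := by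
  classical
  have hR := R2.of_klein hP
  have hz1 : z ≠ 1 := by rintro rfl; rw [orderOf_one] at hz; exact absurd hz (by norm_num)
  obtain ⟨K, hK, hK2, hKi⟩ := centralizer_complement P hR hzP hz1
  have hKi' : ∃ k, K.index = 2 ^ k := ⟨_, hKi.trans P.card_eq_multiplicity⟩
  obtain ⟨x, hx⟩ := ppart_exists (p := 2) g
  have hx' := hx
  obtain ⟨y, hxy, hc, hxo, hyo⟩ := hx'
  have hx1 : x ≠ 1 := by
    rintro rfl
    apply hyo
    rw [← one_mul y, hxy]; exact hg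
  obtain ⟨a, ha⟩ := conj_into_sylow P hxo
  have hx2 : orderOf x = 2 := by
    have h1 : a * x * a⁻¹ ≠ 1 := by
      intro h
      apply hx1
      rw [mul_inv_eq_one] at h
      exact mul_eq_left.1 h
    rw [← orderOf_conj a x]
    exact klein_order hP ha h1
  obtain ⟨b, hb⟩ := isConj_iff.1 (hone x z hx2 hz)
  have hbg : b * g * b⁻¹ = z * (b * y * b⁻¹) := by rw [← hb, ← hxy]; group
  have hbC : b * y * b⁻¹ ∈ Subgroup.centralizer ({z} : Set G) := by
    rw [Subgroup.mem_centralizer_singleton_iff, ← hb]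
    have e : x * y = y * x := hc
    calc b * y * b⁻¹ * (b * x * b⁻¹) = b * (y * x) * b⁻¹ := by group
      _ = b * (x * y) * b⁻¹ := by rw [e]
      _ = b * x * b⁻¹ * (b * y * b⁻¹) := by group
  have h2 := singular_complement hM ⟨1, by rw [hz, pow_one]⟩ hK hK2 hKi' ⟨b * y * b⁻¹, hbC⟩ (by
    rw [Subgroup.orderOf_mk, orderOf_conj]; exact hyo) hζ
  rw [← h2]
  show _ = (ζ : G → ℂ) (z * (b * y * b⁻¹))
  rw [← hbg, irr_class ζ.2]

/-- the structure of the principal block -/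
theorem v4_structure (hM : IsPModular 2 M) (P : Sylow 2 G)
    (hP : IsKleinFour (P : Subgroup G)) (hone : ∀ s t : G, orderOf s = 2 → orderOf t = 2 → IsConj s t) :
    ∃ ζ₂ ζ₃ ζ₄ : IrrCharacter G, ∃ ε : ℤ, (ε = 1 ∨ ε = -1) ∧ ζ₂ ≠ triv G ∧ ζ₃ ≠ triv G ∧ ζ₄ ≠ triv G ∧
      ζ₂ ≠ ζ₃ ∧ ζ₂ ≠ ζ₄ ∧ ζ₃ ≠ ζ₄ ∧
      (∀ χ : IrrCharacter G, χ ∈ principalBlock M G ↔ χ = triv G ∨ χ = ζ₂ ∨ χ = ζ₃ ∨ χ = ζ₄) ∧
      (∀ z : G, 2 ∣ orderOf z → (ζ₂ : G → ℂ) z = 1 ∧ (ζ₃ : G → ℂ) z = (ε : ℂ) ∧ (ζ₄ : G → ℂ) z = -1) ∧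
      (4 : ℤ) ∣ (charDegree (ζ₂ : G → ℂ) : ℤ) - 1 ∧ (4 : ℤ) ∣ (charDegree (ζ₃ : G → ℂ) : ℤ) - ε ∧
      (4 : ℤ) ∣ (charDegree (ζ₄ : G → ℂ) : ℤ) + 1 ∧
      ∀ y : G, ¬ 2 ∣ orderOf y → 1 + (ζ₂ : G → ℂ) y + (ε : ℂ) * (ζ₃ : G → ℂ) y - (ζ₄ : G → ℂ) y = 0 := by
  classical
  haveI := hM.2.1
  haveI : Fintype (IrrCharacter G) := Fintype.ofFinite _
  have hR := R2.of_klein hP
  obtain ⟨z, hzP, -, -, hz, -⟩ := hR.inv
  have hz1 : z ≠ 1 := by rintro rfl; rw [orderOf_one] at hz; exact absurd hz (by norm_num)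
  have h2z : 2 ∣ orderOf z := by rw [hz]
  obtain ⟨K, hK, hK2, hKi⟩ := centralizer_complement P hR hzP hz1
  have hPc : Nat.card P = 4 := hP.card_four
  have hKi' : ∃ k, K.index = 2 ^ k := ⟨_, hKi.trans P.card_eq_multiplicity⟩
  have hval : ∀ ζ ∈ principalBlock M G, ∀ g : G, 2 ∣ orderOf g → (ζ : G → ℂ) g = (ζ : G → ℂ) z :=
    fun ζ hζ g hg => v4_value hM P hP hone hzP hz hg hζ
  choose f hf using fun ζ : IrrCharacter G => invol_int' ζ hz
  have hf1 : f (triv G) = 1 := by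
    have := hf (triv G)
    rw [triv_coe] at this
    exact_mod_cast this.symm
  have hf0 : ∀ ζ ∈ principalBlock M G, f ζ ≠ 0 := by
    intro ζ hζ h0
    by_cases h : ζ = triv G
    · rw [h, hf1] at h0; exact one_ne_zero h0
    · obtain ⟨g, hg, hg0⟩ := principal_nonvanish hM hζ h
      apply hg0
      rw [hval ζ hζ g hg, hf, h0, Int.cast_zero]
  set S : Finset (IrrCharacter G) := Finset.univ.filter (fun ζ => ζ ∈ principalBlock M G) with hS
  have hmemS : ∀ ζ, ζ ∈ S ↔ ζ ∈ principalBlock M G := fun ζ => by simp [hS]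
  have htS : triv G ∈ S := (hmemS _).2 triv_mem
  have hsq : ∑ ζ ∈ S, f ζ ^ 2 = 4 := by
    have h1 := principal_norm_compl hM ⟨1, by rw [hz, pow_one]⟩ hK hK2 hKi' 1 (by simp)
    rw [hKi, hPc, ← Finset.sum_filter] at h1
    have h2 : ((∑ ζ ∈ S, f ζ ^ 2 : ℤ) : ℂ) = 4 := by
      push_cast
      rw [show (4 : ℂ) = ((4 : ℕ) : ℂ) by norm_num, ← h1]
      refine Finset.sum_congr rfl fun ζ _ => ?_
      rw [Subgroup.coe_one, mul_one, hf]
      simp [sq]
    exact_mod_cast h2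
  have horth : ∀ y : G, ¬ 2 ∣ orderOf y → ∑ ζ ∈ S, (f ζ : ℂ) * (ζ : G → ℂ) y = 0 := by
    intro y hy
    have h1 := weak_orth' hM (principal_isPBlock (M := M) (G := G)) y z hy h2z
    rw [← Finset.sum_filter] at h1
    rw [← h1]
    exact Finset.sum_congr rfl fun ζ _ => by rw [hf]
  have hdeg : ∑ ζ ∈ S, f ζ * (charDegree (ζ : G → ℂ) : ℤ) = 0 := by
    have h1 := horth 1 (by simp)
    have h2 : ((∑ ζ ∈ S, f ζ * (charDegree (ζ : G → ℂ) : ℤ) : ℤ) : ℂ) = 0 := by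
      push_cast
      rw [← h1]
      exact Finset.sum_congr rfl fun ζ _ => by rw [charDegree_eq ζ.2]
    exact_mod_cast h2
  have hfsq : ∀ ζ ∈ S, 1 ≤ f ζ ^ 2 := fun ζ hζ => by
    have := hf0 ζ ((hmemS ζ).1 hζ)
    have := sq_pos_of_ne_zero (a := f ζ) this
    omega
  set S' := S.erase (triv G) with hS'
  have hsum' : ∑ ζ ∈ S', f ζ ^ 2 = 3 := by
    have h1 := Finset.add_sum_erase S (fun ζ => f ζ ^ 2) htS
    rw [hf1, hsq] at h1
    rw [hS']; linarith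
  have hS'S : ∀ ζ ∈ S', ζ ∈ S := fun ζ hζ => Finset.mem_of_mem_erase hζ
  have hf2 : ∀ ζ ∈ S', f ζ ^ 2 = 1 := by
    intro ζ hζ
    have h1 : f ζ ^ 2 ≤ 3 := by
      rw [← hsum']
      exact Finset.single_le_sum (f := fun ζ => f ζ ^ 2) (fun i _ => sq_nonneg _) hζ
    have h2 := hfsq ζ (hS'S ζ hζ)
    have h3 : f ζ < 2 := by nlinarith
    have h4 : -2 < f ζ := by nlinarith
    have h5 : f ζ ≠ 0 := hf0 ζ ((hmemS ζ).1 (hS'S ζ hζ))
    interval_cases f ζ <;> simp_all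
  have hcard : S'.card = 3 := by
    have h1 : ∑ ζ ∈ S', f ζ ^ 2 = S'.card := by
      rw [Finset.sum_congr rfl hf2]; simp
    rw [hsum'] at h1
    exact_mod_cast h1.symm
  have hpm : ∀ ζ ∈ S', f ζ = 1 ∨ f ζ = -1 := fun ζ hζ => sq_eq_one_iff.mp (hf2 ζ hζ)
  have hd1 : charDegree ((triv G : IrrCharacter G) : G → ℂ) = 1 := by
    have := charDegree_eq (triv G).2
    rw [triv_coe] at this
    exact_mod_cast this
  have hdpos : ∀ ζ : IrrCharacter G, 1 ≤ (charDegree (ζ : G → ℂ) : ℤ) := fun ζ => by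
    have := charDegree_pos ζ.2
    omega
  have hdeg' : 1 + ∑ ζ ∈ S', f ζ * (charDegree (ζ : G → ℂ) : ℤ) = 0 := by
    have h1 := Finset.add_sum_erase S (fun ζ => f ζ * (charDegree (ζ : G → ℂ) : ℤ)) htS
    rw [hdeg, hf1, hd1] at h1
    rw [hS']; simpa using h1
  obtain ⟨ζ₄, hζ₄, h4⟩ : ∃ ζ ∈ S', f ζ = -1 := by
    by_contra hno
    push Not at hno
    have : 0 ≤ ∑ ζ ∈ S', f ζ * (charDegree (ζ : G → ℂ) : ℤ) :=
      Finset.sum_nonneg fun ζ hζ => by
        rw [(hpm ζ hζ).resolve_right (hno ζ hζ), one_mul]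
        linarith [hdpos ζ]
    omega
  obtain ⟨ζ₂, hζ₂, h2⟩ : ∃ ζ ∈ S', f ζ = 1 := by
    by_contra hno
    push Not at hno
    have h5 : ∑ ζ ∈ S', f ζ * (charDegree (ζ : G → ℂ) : ℤ) ≤ ∑ ζ ∈ S', (-1 : ℤ) :=
      Finset.sum_le_sum fun ζ hζ => by
        rw [(hpm ζ hζ).resolve_left (hno ζ hζ)]
        linarith [hdpos ζ]
    rw [Finset.sum_const, hcard] at h5
    norm_num at h5
    omega
  have h24 : ζ₂ ≠ ζ₄ := by rintro rfl; rw [h2] at h4; exact absurd h4 (by norm_num)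
  obtain ⟨ζ₃, hζ₃⟩ : ∃ ζ₃, (S'.erase ζ₂).erase ζ₄ = {ζ₃} := by
    rw [← Finset.card_eq_one, Finset.card_erase_of_mem, Finset.card_erase_of_mem hζ₂, hcard]
    exact Finset.mem_erase.2 ⟨h24.symm, hζ₄⟩
  have h3mem : ζ₃ ∈ (S'.erase ζ₂).erase ζ₄ := by rw [hζ₃]; exact Finset.mem_singleton_self _
  have h34 : ζ₃ ≠ ζ₄ := (Finset.mem_erase.1 h3mem).1
  have h32 : ζ₃ ≠ ζ₂ := (Finset.mem_erase.1 (Finset.mem_erase.1 h3mem).2).1
  have h3S : ζ₃ ∈ S' := (Finset.mem_erase.1 (Finset.mem_erase.1 h3mem).2).2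
  have hne : ∀ ζ ∈ S', ζ ≠ triv G := fun ζ hζ => (Finset.mem_erase.1 hζ).1
  have hmem : ∀ χ : IrrCharacter G, χ ∈ principalBlock M G ↔ χ = triv G ∨ χ = ζ₂ ∨ χ = ζ₃ ∨ χ = ζ₄ := by
    intro χ
    rw [← hmemS]
    constructor
    · intro h
      by_cases e1 : χ = triv G
      · exact Or.inl e1
      by_cases e2 : χ = ζ₂
      · exact Or.inr (Or.inl e2)
      by_cases e4 : χ = ζ₄
      · exact Or.inr (Or.inr (Or.inr e4))
      have : χ ∈ (S'.erase ζ₂).erase ζ₄ :=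
        Finset.mem_erase.2 ⟨e4, Finset.mem_erase.2 ⟨e2, Finset.mem_erase.2 ⟨e1, h⟩⟩⟩
      rw [hζ₃, Finset.mem_singleton] at this
      exact Or.inr (Or.inr (Or.inl this))
    · rintro (rfl | rfl | rfl | rfl)
      · exact htS
      · exact hS'S _ hζ₂
      · exact hS'S _ h3S
      · exact hS'S _ hζ₄
  have hB : ∀ ζ ∈ S', ζ ∈ principalBlock M G := fun ζ hζ => (hmemS ζ).1 (hS'S ζ hζ)
  have hmod : ∀ ζ ∈ S', (4 : ℤ) ∣ (charDegree (ζ : G → ℂ) : ℤ) - f ζ := by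
    intro ζ hζ
    haveI : Fintype (P : Subgroup G) := Fintype.ofFinite _
    obtain ⟨m, hm⟩ := sum_char_subgroup (isChar_of_irr ζ.2) (P : Subgroup G)
    have h6 : ∑ u : (P : Subgroup G), (ζ : G → ℂ) u = (charDegree (ζ : G → ℂ) : ℂ) + 3 * f ζ := by
      rw [← Finset.add_sum_erase Finset.univ (fun u : (P : Subgroup G) => (ζ : G → ℂ) u) (Finset.mem_univ 1)]
      rw [Subgroup.coe_one, charDegree_eq ζ.2]
      congr 1
      have h7 : ∀ u ∈ Finset.univ.erase (1 : (P : Subgroup G)), (ζ : G → ℂ) u = f ζ := by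
        intro u hu
        have hu1 : (u : G) ≠ 1 := fun h => (Finset.mem_erase.1 hu).1 (Subtype.ext h)
        rw [hval ζ (hB ζ hζ) u (by rw [klein_order hP u.2 hu1]), hf]
      rw [Finset.sum_congr rfl h7, Finset.sum_const, Finset.card_erase_of_mem (Finset.mem_univ _),
        Finset.card_univ, ← Nat.card_eq_fintype_card]
      have : Nat.card (P : Subgroup G) = 4 := hPc
      rw [this]; norm_num
    rw [h6] at hm
    have h8 : (charDegree (ζ : G → ℂ) : ℤ) + 3 * f ζ = 4 * m := by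
      have : Nat.card (P : Subgroup G) = 4 := hPc
      rw [this] at hm
      exact_mod_cast hm
    exact ⟨m - f ζ, by linarith⟩
  refine ⟨ζ₂, ζ₃, ζ₄, f ζ₃, hpm ζ₃ h3S, hne _ hζ₂, hne _ h3S, hne _ hζ₄, h32.symm, h24, h34, hmem, ?_, ?_, ?_, ?_, ?_⟩
  · intro w hw
    refine ⟨?_, ?_, ?_⟩
    · rw [hval _ (hB _ hζ₂) w hw, hf, h2, Int.cast_one]
    · rw [hval _ (hB _ h3S) w hw, hf]
    · rw [hval _ (hB _ hζ₄) w hw, hf, h4, Int.cast_neg, Int.cast_one]
  · have := hmod _ hζ₂; rwa [h2] at this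
  · exact hmod _ h3S
  · have := hmod _ hζ₄; rwa [h4, sub_neg_eq_add] at this
  · intro y hy
    have h9 := horth y hy
    rw [← Finset.add_sum_erase S _ htS, ← hS', ← Finset.add_sum_erase S' _ hζ₂,
      ← Finset.add_sum_erase (S'.erase ζ₂) _ (Finset.mem_erase.2 ⟨h24.symm, hζ₄⟩), hζ₃, Finset.sum_singleton,
      hf1, h2, h4, triv_coe] at h9
    rw [← h9]; push_cast; ring

end Cfsg.Agent.H10.BlockV4
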