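import Mathlib
import Cfsg.Prelude.Def_Blocks
import Cfsg.Agent.H10_BlockV4
import Cfsg.Agent.H10_BlockQuot
import Cfsg.Agent.H10_RegPart

/-!
H10_BlockCen: principal 2-blocks of groups with a central involution; two-variable norms.
-/

set_option autoImplicit false
set_option linter.style.haveILetI false
set_option linter.unusedSectionVars false

namespace Cfsg.Agent.H10.BlockCen

open Cfsg Cfsg.Agent.H3.CharIrr Cfsg.Agent.H3.CharComplete Cfsg.Agent.H3.CharInd
  Cfsg.Agent.H3.CharBasic Cfsg.Agent.H10.BlockLoc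
  Cfsg.Agent.H10.BlockTrace Cfsg.Agent.H10.Char Cfsg.Agent.H10.BlockAlg Cfsg.Agent.H10.BlockIdem
  Cfsg.Agent.H10.BlockOrth Cfsg.Agent.H10.BlockDefect Cfsg.Agent.H10.BlockNormal
  Cfsg.Agent.H10.BlockInd Cfsg.Agent.H10.BlockMain Cfsg.Agent.H10.PPart Cfsg.Agent.H10.BlockSMT
  Cfsg.Agent.H10.BlockSMT2 Cfsg.Agent.H10.BlockHZ Cfsg.Agent.H10.BlockK Cfsg.Agent.H10.BlockKer
  Cfsg.Agent.H10.BlockPrin Cfsg.Agent.H10.Homo Cfsg.Agent.H10.BlockQuot Cfsg.Agent.H10.BlockV4
  Cfsg.Agent.H10.RegPart
open scoped ComplexConjugate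

section two

variable {G : Type*} [Group G] [Fintype G] {p : ℕ} {M : Ideal AlgInt}

open Classical in
/-- two variable version of principal_norm -/
theorem principal_norm2 (hM : IsPModular p M) [Fintype (IrrCharacter G)] {z : G}
    (hz : ∃ k : ℕ, orderOf z = p ^ k) [Fintype (Subgroup.centralizer ({z} : Set G))]
    [Fintype (IrrCharacter (Subgroup.centralizer ({z} : Set G)))]
    (y y' : Subgroup.centralizer ({z} : Set G)) (hy : ¬ p ∣ orderOf y) (hy' : ¬ p ∣ orderOf y') :
    ∑ χ : IrrCharacter G, (if χ ∈ principalBlock M G then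
        (χ : G → ℂ) (z * y) * conj ((χ : G → ℂ) (z * y')) else 0) =
      ∑ ψ : IrrCharacter (Subgroup.centralizer ({z} : Set G)),
        (if ψ ∈ principalBlock M (Subgroup.centralizer ({z} : Set G)) then
          (ψ : Subgroup.centralizer ({z} : Set G) → ℂ) y *
            conj ((ψ : Subgroup.centralizer ({z} : Set G) → ℂ) y') else 0) := by
  haveI := hM.2.1
  haveI : Fact p.Prime := ⟨hM.1⟩
  have h1 := principal_section hM (ppart_of_mul hz y hy) (isClass_indicator (z * (y' : G)))
  rw [← blockPart_eq_lin _ (isClass_indicator (z * (y' : G))), lin_emb_eq_blockPart _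
    (isClass_indicator (z * (y' : G))) y, blockPart_indicator] at h1
  rw [blockPart_congr hM (principal_isPBlock (M := M)) hy (f' := fun c => if IsConj y' c then (1:ℂ) else 0) (by
    intro c hc
    have hiff := isConj_section hz y' c hy' hc
    by_cases hyc : IsConj y' c
    · rw [if_pos hyc, if_pos (hiff.2 hyc)]
    · rw [if_neg hyc, if_neg (fun h => hyc (hiff.1 h))]), blockPart_indicator,
    card_centralizer_section hz y' hy'] at h1
  exact mul_left_cancel₀ (inv_ne_zero (Nat.cast_ne_zero.2 Nat.card_pos.ne')) h1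

/-- the values of characters of B0 on the section of z are block parts -/
theorem principal_blockPart (hM : IsPModular p M) {χ : IrrCharacter G} (hχ : χ ∈ principalBlock M G) {z : G}
    (hz : ∃ k : ℕ, orderOf z = p ^ k) (y : Subgroup.centralizer ({z} : Set G)) (hy : ¬ p ∣ orderOf y) :
    (χ : G → ℂ) (z * y) = blockPart (principalBlock M (Subgroup.centralizer ({z} : Set G)))
      (fun c => (χ : G → ℂ) (z * (c : G))) y := by
  haveI := hM.2.1
  haveI : Fact p.Prime := ⟨hM.1⟩
  haveI : Fintype (IrrCharacter G) := Fintype.ofFinite _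
  haveI : Fintype (Subgroup.centralizer ({z} : Set G)) := Fintype.ofFinite _
  haveI : Fintype (IrrCharacter (Subgroup.centralizer ({z} : Set G))) := Fintype.ofFinite _
  have h1 := principal_section hM (ppart_of_mul hz y hy) (irr_class χ.2)
  rw [lin_eB_mul_of_mem hχ, lin_single, one_mul, lin_emb_eq_blockPart _ (irr_class χ.2) y] at h1
  exact h1

end two

section central

variable {C : Type*} [Group C] [Fintype C] {M : Ideal AlgInt} {t : C}

theorem even_or_odd (ht : ∀ c : C, c * t = t * c) (htt : t * t = 1) (ψ : IrrCharacter C) :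
    (∀ c, (ψ : C → ℂ) (t * c) = (ψ : C → ℂ) c) ∨ (∀ c, (ψ : C → ℂ) (t * c) = -(ψ : C → ℂ) c) := by
  obtain ⟨s, -, hs⟩ := Cfsg.Agent.H3.CharInt.IsIrr.central ψ.2 (z := t) (Subgroup.mem_center_iff.2 ht)
  have h1 : s * s = 1 := by
    have h2 := hs (1 * t)
    rw [hs 1, one_mul, htt] at h2
    have h3 := irr_one_ne ψ.2
    have h4 : (s * s) * (ψ : C → ℂ) 1 = 1 * (ψ : C → ℂ) 1 := by rw [one_mul, mul_assoc, ← h2]
    exact mul_right_cancel₀ h3 h4
  rcases mul_self_eq_one_iff.1 h1 with h | h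
  · left; intro c; rw [← ht, hs, h, one_mul]
  · right; intro c; rw [← ht, hs, h, neg_one_mul]

/-- translation by a central involution preserves generalized characters -/
theorem translate_gen (ht : ∀ c : C, c * t = t * c) (htt : t * t = 1) {f : C → ℂ}
    (hf : IsGeneralizedCharacter C f) : IsGeneralizedCharacter C (fun c => f (t * c)) := by
  classical
  have hcl : IsClassFunction C f := IsGen.isClass hf
  apply isGen_of_int
  · intro g x
    show f (t * (x * g * x⁻¹)) = f (t * g)
    have : t * (x * g * x⁻¹) = x * (t * g) * x⁻¹ := by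
      calc t * (x * g * x⁻¹) = (t * x) * g * x⁻¹ := by group
        _ = (x * t) * g * x⁻¹ := by rw [ht]
        _ = _ := by group
    rw [this, hcl]
  · intro χ hχ
    obtain ⟨n, hn⟩ := ci_gen_int hf (IsGen.of_irr hχ)
    have key : ∀ s : ℂ, conj s = s → (∀ c, χ (t * c) = s * χ c) →
        classInner (fun c => f (t * c)) χ = s * classInner f χ := by
      intro s hs h
      rw [classInner, classInner, ← mul_assoc, mul_comm s, mul_assoc]
      congr 1
      rw [← Equiv.sum_comp (Equiv.mulLeft t), Finset.mul_sum]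
      refine Finset.sum_congr rfl fun c _ => ?_
      simp only [Equiv.coe_mulLeft]
      rw [← mul_assoc, htt, one_mul, h c, map_mul, hs]
      ring
    rcases even_or_odd ht htt ⟨χ, hχ⟩ with h | h
    · refine ⟨n, ?_⟩
      rw [key 1 (map_one _) (fun c => by rw [one_mul]; exact h c), one_mul, hn]
    · refine ⟨-n, ?_⟩
      rw [key (-1) (by simp) (fun c => by rw [neg_one_mul]; exact h c), hn]
      push_cast; ring

variable (N : Subgroup C) [hN : N.Normal] [hFN : Fintype (C ⧸ N)]

theorem even_infl (hNt : ∀ c, c ∈ N ↔ c = 1 ∨ c = t) (φ : IrrCharacter (C ⧸ N)) (c : C) :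
    ((infl N φ : IrrCharacter C) : C → ℂ) (t * c) = ((infl N φ : IrrCharacter C) : C → ℂ) c := by
  rw [infl_apply, infl_apply]
  have : (QuotientGroup.mk t : C ⧸ N) = 1 := (QuotientGroup.eq_one_iff t).2 ((hNt t).2 (Or.inr rfl))
  rw [QuotientGroup.mk_mul, this, one_mul]

theorem exists_infl_of_even (hNt : ∀ c, c ∈ N ↔ c = 1 ∨ c = t) {ψ : IrrCharacter C}
    (h : ∀ c, (ψ : C → ℂ) (t * c) = (ψ : C → ℂ) c) : ∃ φ, infl N φ = ψ := by
  apply exists_infl
  intro u hu
  rcases (hNt u).1 hu with rfl | rfl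
  · rfl
  · rw [← h 1, mul_one]

theorem infl_triv : infl N (triv (C ⧸ N)) = triv C := Subtype.ext (funext fun _ => rfl)

theorem infl_principal (hM : IsPModular 2 M) (ht : ∀ c : C, c * t = t * c) (htt : t * t = 1)
    (hNt : ∀ c, c ∈ N ↔ c = 1 ∨ c = t) (φ : IrrCharacter (C ⧸ N)) :
    infl N φ ∈ principalBlock M C ↔ φ ∈ principalBlock M (C ⧸ N) := by
  haveI := hM.2.1
  have hcen : Subgroup.centralizer (N : Set C) = ⊤ := by
    rw [eq_top_iff]
    intro c _
    rw [Subgroup.mem_centralizer_iff]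
    intro u hu
    rcases (hNt u).1 hu with rfl | rfl
    · rw [one_mul, mul_one]
    · exact (ht c).symm
  have hNp : IsPGroup 2 N := by
    rw [IsPGroup.iff_orderOf]
    rintro ⟨u, hu⟩
    rw [Subgroup.orderOf_mk]
    rcases (hNt u).1 hu with rfl | rfl
    · exact ⟨0, by rw [orderOf_one, pow_zero]⟩
    · by_cases h1 : u = 1
      · exact ⟨0, by rw [h1, orderOf_one, pow_zero]⟩
      · exact ⟨1, by rw [pow_one]; exact orderOf_eq_prime (by rw [sq]; exact htt) h1⟩
  rw [principal_eq, principal_eq, mem_blockOf, mem_blockOf, ← infl_triv N]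
  constructor
  · intro h
    exact sameBlock_of_infl' N hM hNp ⟨0, by rw [hcen, Subgroup.index_top, pow_zero]⟩ h
  · intro h
    exact sameBlock_infl N h

open Classical in
/-- sums over the even characters of B0(C) -/
theorem sum_even [Fintype (IrrCharacter C)] [Fintype (IrrCharacter (C ⧸ N))] (hM : IsPModular 2 M)
    (ht : ∀ c : C, c * t = t * c) (htt : t * t = 1)
    (hNt : ∀ c, c ∈ N ↔ c = 1 ∨ c = t) (F : IrrCharacter C → ℂ)
    (hF : ∀ ψ : IrrCharacter C, ψ ∈ principalBlock M C → (∀ c, (ψ : C → ℂ) (t * c) = -(ψ : C → ℂ) c) → F ψ = 0) :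
    ∑ ψ : IrrCharacter C, (if ψ ∈ principalBlock M C then F ψ else 0) =
      ∑ φ : IrrCharacter (C ⧸ N), (if φ ∈ principalBlock M (C ⧸ N) then F (infl N φ) else 0) := by
  have h1 : ∀ φ : IrrCharacter (C ⧸ N), (if φ ∈ principalBlock M (C ⧸ N) then F (infl N φ) else 0) =
      (if infl N φ ∈ principalBlock M C then F (infl N φ) else 0) := by
    intro φ
    by_cases h : φ ∈ principalBlock M (C ⧸ N)
    · rw [if_pos h, if_pos ((infl_principal N hM ht htt hNt φ).2 h)]
    · rw [if_neg h, if_neg (fun h' => h ((infl_principal N hM ht htt hNt φ).1 h'))]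
  rw [Finset.sum_congr rfl (fun φ _ => h1 φ)]
  rw [← Finset.sum_image (f := fun ψ : IrrCharacter C => if ψ ∈ principalBlock M C then F ψ else 0)
    (g := infl N) (s := Finset.univ) (fun a _ b _ h => infl_injective N h)]
  symm
  apply Finset.sum_subset (Finset.subset_univ _)
  intro ψ _ hψ
  by_cases h : ψ ∈ principalBlock M C
  · rw [if_pos h]
    rcases even_or_odd ht htt ψ with he | ho
    · obtain ⟨φ, hφ⟩ := exists_infl_of_even N hNt he
      exact absurd (Finset.mem_image.2 ⟨φ, Finset.mem_univ _, hφ⟩) hψ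
    · exact hF ψ h ho
  · rw [if_neg h]

open Classical in
theorem sum_total [Fintype (IrrCharacter C)] [Fintype (IrrCharacter (C ⧸ N))] (hM : IsPModular 2 M)
    (ht : ∀ c : C, c * t = t * c) (htt : t * t = 1) (ht1 : t ≠ 1)
    (hNt : ∀ c, c ∈ N ↔ c = 1 ∨ c = t) (y y' : C) (hy : ¬ 2 ∣ orderOf y) (hy' : ¬ 2 ∣ orderOf y') :
    ∑ ψ : IrrCharacter C, (if ψ ∈ principalBlock M C then (ψ : C → ℂ) y * conj ((ψ : C → ℂ) y') else 0) =
      2 * ∑ φ : IrrCharacter (C ⧸ N), (if φ ∈ principalBlock M (C ⧸ N) then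
        (φ : C ⧸ N → ℂ) (QuotientGroup.mk y) * conj ((φ : C ⧸ N → ℂ) (QuotientGroup.mk y')) else 0) := by
  haveI := hM.2.1
  have hsing : 2 ∣ orderOf (t * y')⁻¹ := by
    rw [orderOf_inv]
    have hto : orderOf t = 2 := orderOf_eq_prime (by rw [sq]; exact htt) ht1
    have hcop : (orderOf t).Coprime (orderOf y') := by
      rw [hto]; exact (Nat.Prime.coprime_iff_not_dvd Nat.prime_two).2 hy'
    have hc : Commute t y' := (ht y').symm
    rw [hc.orderOf_mul_eq_mul_orderOf_of_coprime hcop, hto]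
    exact dvd_mul_right _ _
  have h1 := weak_orth' hM (principal_isPBlock (M := M) (G := C)) y (t * y')⁻¹ hy hsing
  have h2 : ∑ ψ : IrrCharacter C, (if ψ ∈ principalBlock M C then
      (ψ : C → ℂ) y * conj ((ψ : C → ℂ) y') + (ψ : C → ℂ) y * conj ((ψ : C → ℂ) (t * y')) else 0) =
      ∑ ψ : IrrCharacter C, (if ψ ∈ principalBlock M C then (ψ : C → ℂ) y * conj ((ψ : C → ℂ) y') else 0) := by
    rw [← add_zero (∑ ψ : IrrCharacter C, (if ψ ∈ principalBlock M C then (ψ : C → ℂ) y * conj ((ψ : C → ℂ) y') else 0)),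
      ← h1, ← Finset.sum_add_distrib]
    refine Finset.sum_congr rfl fun ψ _ => ?_
    rw [IsChar.inv_eq_conj (isChar_of_irr ψ.2)]
    by_cases h : ψ ∈ principalBlock M C
    · rw [if_pos h, if_pos h, if_pos h]; ring
    · rw [if_neg h, if_neg h, if_neg h, add_zero]
  rw [← h2, sum_even N hM ht htt hNt _ (by
    intro ψ _ h
    rw [h, map_neg]; ring), Finset.mul_sum]
  refine Finset.sum_congr rfl fun φ _ => ?_
  by_cases h : φ ∈ principalBlock M (C ⧸ N)
  · rw [if_pos h, if_pos h, even_infl N hNt, infl_apply, infl_apply]; ring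
  · rw [if_neg h, if_neg h, mul_zero]

/-- a generalized character of C, on 2-regular elements, in terms of the quotient -/
theorem expand_quot [Fintype (IrrCharacter (C ⧸ N))] (hM : IsPModular 2 M)
    (ht : ∀ c : C, c * t = t * c) (htt : t * t = 1)
    (hNt : ∀ c, c ∈ N ↔ c = 1 ∨ c = t) {f : C → ℂ} (hf : IsGeneralizedCharacter C f)
    [DecidablePred (· ∈ principalBlock M (C ⧸ N))] :
    ∃ a : IrrCharacter (C ⧸ N) → ℤ, ∀ y : C, ¬ 2 ∣ orderOf y →
      blockPart (principalBlock M C) f y = ∑ φ : IrrCharacter (C ⧸ N),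
        (if φ ∈ principalBlock M (C ⧸ N) then (a φ : ℂ) * (φ : C ⧸ N → ℂ) (QuotientGroup.mk y) else 0) := by
  classical
  haveI : Fintype (IrrCharacter C) := Fintype.ofFinite _
  have hθ := regPart_gen' (p := 2) hf
  have hθt : ∀ c, f (ppr 2 (t * c)) = f (ppr 2 c) := by
    intro c
    congr 1
    obtain ⟨x, h1, h2, h3, h4⟩ := ppr_spec (p := 2) c
    have e : t * c = (t * x) * ppr 2 c := by rw [mul_assoc, h1]
    rw [e]
    apply ppr_eq
    · have hc : Commute t (ppr 2 c) := (ht _).symm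
      exact hc.mul_left h2
    · obtain ⟨k, hk⟩ := h3
      have hc : Commute t x := (ht x).symm
      have h5 := hc.orderOf_mul_dvd_lcm
      have h6 : orderOf t ∣ 2 ^ (k + 1) := by
        apply orderOf_dvd_of_pow_eq_one
        rw [pow_succ', pow_mul, sq, htt, one_pow]
      have h7 : orderOf (t * x) ∣ 2 ^ (k + 1) :=
        h5.trans (Nat.lcm_dvd h6 (by rw [hk]; exact pow_dvd_pow 2 (Nat.le_succ k)))
      obtain ⟨j, -, hj⟩ := (Nat.dvd_prime_pow Nat.prime_two).1 h7
      exact ⟨j, hj⟩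
    · exact h4
  have hint : ∀ φ : IrrCharacter (C ⧸ N), ∃ n : ℤ, classInner (fun c => f (ppr 2 c)) ((infl N φ : IrrCharacter C) : C → ℂ) = n :=
    fun φ => ci_gen_int hθ (IsGen.of_irr (infl N φ).2)
  choose a ha using hint
  refine ⟨a, fun y hy => ?_⟩
  haveI := hM.2.1
  rw [blockPart_congr hM principal_isPBlock hy (f' := fun c => f (ppr 2 c)) (fun c hc => by rw [ppr_regular hc])]
  have h2 : blockPart (principalBlock M C) (fun c => f (ppr 2 c)) y = ∑ ψ : IrrCharacter C,
      if ψ ∈ principalBlock M C then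
      classInner (fun c => f (ppr 2 c)) (ψ : C → ℂ) * (ψ : C → ℂ) y else 0 := by
    unfold blockPart
    have e : (Fintype.ofFinite C) = (inferInstance : Fintype C) := Subsingleton.elim _ _
    rw [e, finsum_mem_irr]
  rw [h2, sum_even N hM ht htt hNt]
  · refine Finset.sum_congr rfl fun φ _ => ?_
    by_cases h : φ ∈ principalBlock M (C ⧸ N)
    · rw [if_pos h, if_pos h, ha, infl_apply]
    · rw [if_neg h, if_neg h]
  · intro ψ _ ho
    have h3 : classInner (fun c => f (ppr 2 c)) (ψ : C → ℂ) = - classInner (fun c => f (ppr 2 c)) (ψ : C → ℂ) := by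
      conv_lhs => rw [classInner, ← Equiv.sum_comp (Equiv.mulLeft t)]
      rw [classInner, ← mul_neg, ← Finset.sum_neg_distrib]
      congr 1
      refine Finset.sum_congr rfl fun c _ => ?_
      simp only [Equiv.coe_mulLeft]
      rw [hθt, ho, map_neg, mul_neg]
    have h4 : classInner (fun c => f (ppr 2 c)) (ψ : C → ℂ) = 0 := by
      have : 2 * classInner (fun c => f (ppr 2 c)) (ψ : C → ℂ) = 0 := by
        rw [two_mul]; nth_rewrite 2 [h3]; rw [add_neg_cancel]
      exact (mul_eq_zero.1 this).resolve_left two_ne_zero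
    rw [h4, zero_mul]

end central

end Cfsg.Agent.H10.BlockCen
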