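import Mathlib
import Cfsg.Prelude.Def_Blocks
import Cfsg.Agent.H10_BlockCov
import Cfsg.Agent.H10_BlockFMT2

/-!
H10_BlockCov2: S0971 and the extended first main theorem.
-/

set_option autoImplicit false
set_option linter.style.haveILetI false
set_option linter.unusedSectionVars false

namespace Cfsg.Agent.H10.BlockCov2

open Cfsg Cfsg.Agent.H3.CharIrr Cfsg.Agent.H3.CharComplete Cfsg.Agent.H3.CharInd
  Cfsg.Agent.H3.CharBasic Cfsg.Agent.H10.BlockLoc Cfsg.Agent.H3.Clifford
  Cfsg.Agent.H10.BlockTrace Cfsg.Agent.H10.Char Cfsg.Agent.H10.BlockAlg Cfsg.Agent.H10.BlockIdem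
  Cfsg.Agent.H10.BlockOrth Cfsg.Agent.H10.BlockDefect Cfsg.Agent.H10.BlockNormal
  Cfsg.Agent.H10.BlockInd Cfsg.Agent.H10.BlockMain Cfsg.Agent.H10.PPart Cfsg.Agent.H10.BlockSMT
  Cfsg.Agent.H10.BlockSMT2 Cfsg.Agent.H10.BlockHZ Cfsg.Agent.H10.BlockFMT Cfsg.Agent.H10.BlockFMT2
  Cfsg.Agent.H10.BlockCov
open scoped ComplexConjugate

variable {G : Type*} [Group G] [Fintype G] {p : ℕ} {M : Ideal AlgInt}

open Classical in
/-- keep the coefficients at elements centralizing the normal subgroup Q -/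
noncomputable def cutZ (Q : Subgroup G) [hQ : Q.Normal] (z : ZC G) : ZC G :=
  ⟨ofFun (fun g => if g ∈ Subgroup.centralizer (Q : Set G) then (z : MonoidAlgebra ℂ G).coeff g else 0), by
    rw [mem_center_iff]
    intro x y
    have hc : y * x * y⁻¹ ∈ Subgroup.centralizer (Q : Set G) ↔ x ∈ Subgroup.centralizer (Q : Set G) := by
      haveI : (Subgroup.centralizer (Q : Set G)).Normal := Subgroup.normal_centralizer
      constructor
      · intro h
        have := Subgroup.Normal.conj_mem inferInstance _ h y⁻¹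
        have e : y⁻¹ * (y * x * y⁻¹) * y⁻¹⁻¹ = x := by group
        rwa [e] at this
      · intro h
        exact Subgroup.Normal.conj_mem inferInstance _ h y
    show (if y * x * y⁻¹ ∈ Subgroup.centralizer (Q : Set G) then (z : MonoidAlgebra ℂ G).coeff (y * x * y⁻¹) else 0) =
      if x ∈ Subgroup.centralizer (Q : Set G) then (z : MonoidAlgebra ℂ G).coeff x else 0
    have e2 : (z : MonoidAlgebra ℂ G).coeff (y * x * y⁻¹) = (z : MonoidAlgebra ℂ G).coeff x :=
      (mem_center_iff _).1 z.2 _ _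
    by_cases h : x ∈ Subgroup.centralizer (Q : Set G)
    · rw [if_pos h, if_pos (hc.2 h), e2]
    · rw [if_neg h, if_neg (fun h' => h (hc.1 h'))]⟩

open Classical in
theorem cutZ_coeff (Q : Subgroup G) [hQ : Q.Normal] (z : ZC G) (g : G) :
    (cutZ Q z : MonoidAlgebra ℂ G).coeff g =
      if g ∈ Subgroup.centralizer (Q : Set G) then (z : MonoidAlgebra ℂ G).coeff g else 0 := rfl

theorem cutZ_mem [M.IsMaximal] (Q : Subgroup G) [hQ : Q.Normal] {z : ZC G} (hz : z ∈ ZI G M) :
    cutZ Q z ∈ ZI G M := by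
  classical
  intro g
  rw [cutZ_coeff]
  split_ifs
  · exact hz g
  · exact ring_zero

theorem om_cutZ [M.IsMaximal] (hM : IsPModular p M) (Q : Subgroup G) [hQ : Q.Normal] (hQp : IsPGroup p Q)
    (χ : IrrCharacter G) {z : ZC G} (hz : z ∈ ZI G M) :
    MemLocalIdeal M (om χ z - om χ (cutZ Q z)) := by
  classical
  haveI : Fintype (ConjClasses G) := Fintype.ofFinite _
  rw [om_eq_sum χ z, om_eq_sum χ (cutZ Q z), ← Finset.sum_sub_distrib]
  apply ideal_sum
  intro C _
  rw [← sub_mul, cutZ_coeff]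
  by_cases h : rep C ∈ Subgroup.centralizer (Q : Set G)
  · rw [if_pos h, sub_self, zero_mul]; exact ideal_zero
  · rw [if_neg h, sub_zero]
    exact ideal_mul_left (hz _) (om_cs_mem_ideal hM Q hQp χ h)

/-- S0971: the block induced from C = Q C(Q) is the unique block covering b -/
theorem induced_of_covering (hM : IsPModular p M) (Q C : Subgroup G) [hQ : Q.Normal] (hQp : IsPGroup p Q)
    (hC : C.Normal) [Fintype C] (hQC : Q ≤ C) (hCC : Subgroup.centralizer (Q : Set G) ≤ C)
    {b : Set (IrrCharacter C)} (hb : IsPBlock M b) {B : Set (IrrCharacter G)} (hB : IsPBlock M B)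
    (h : ∃ χ ∈ B, ∃ θ ∈ b, classInner (fun n : C => (χ : G → ℂ) n) (θ : C → ℂ) ≠ 0) :
    IsInducedBlock M C b B := by
  classical
  haveI := hM.2.1
  haveI : Fintype (IrrCharacter G) := Fintype.ofFinite _
  haveI : Fintype (IrrCharacter C) := Fintype.ofFinite _
  have hCN : C ≤ Subgroup.normalizer (Q : Set G) := by
    intro g _
    rw [Subgroup.normalizer_eq_top]; exact Subgroup.mem_top g
  obtain ⟨B', hB'⟩ := exists_inducedBlock Q C hM hQp hQC hCC hCN hb
  obtain ⟨χ, hχ, θ, hθ, hne⟩ := h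
  obtain ⟨_, hB'b, hcong⟩ := (isInducedBlock_iff (M := M) C b B').1 hB'
  obtain ⟨χ', hχ'⟩ := block_nonempty hB'b
  have heI := eB_mem_ZI hB
  have h0I : cutZ Q (eB B) ∈ ZI G M := cutZ_mem Q heI
  have h1 := om_cutZ hM Q hQp χ heI
  have h2 := om_cutZ hM Q hQp χ' heI
  have h3 : om χ (cutZ Q (eB B)) = om θ (truncZ C (cutZ Q (eB B))) := by
    apply om_eq_of_constituent hC hne
    intro g hg
    rw [cutZ_coeff, if_neg (fun h => hg (hCC h))]
  have h4 := hcong θ hθ χ' hχ' _ h0I
  rw [← h3] at h4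
  -- om χ e ≡ om χ e0 ≡ om χ' e0 ≡ om χ' e
  have h5 : MemLocalIdeal M (om χ (eB B) - om χ' (eB B)) := by
    have := ideal_add (ideal_add h1 h4) (ideal_sub_comm h2)
    have e : om χ (eB B) - om χ (cutZ Q (eB B)) + (om χ (cutZ Q (eB B)) - om χ' (cutZ Q (eB B))) +
      (om χ' (cutZ Q (eB B)) - om χ' (eB B)) = om χ (eB B) - om χ' (eB B) := by ring
    rwa [e] at this
  rw [om_eB, om_eB, if_pos hχ] at h5
  have hmem : χ' ∈ B := by
    by_contra hnot
    rw [if_neg hnot, sub_zero] at h5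
    exact one_notMem_ideal h5
  rw [block_eq_of_mem hB hB'b hmem hχ']
  exact hB'

end Cfsg.Agent.H10.BlockCov2
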