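import Mathlib
import Cfsg.Prelude.Def_Blocks
import Cfsg.Agent.H10_BlockCov2

/-!
H10_BlockEFM: transport along isomorphisms, extended first main theorem.
-/

set_option autoImplicit false
set_option linter.style.haveILetI false
set_option linter.unusedSectionVars false

namespace Cfsg.Agent.H10.BlockEFM

open Cfsg Cfsg.Agent.H3.CharIrr Cfsg.Agent.H3.CharComplete Cfsg.Agent.H3.CharInd
  Cfsg.Agent.H3.CharBasic Cfsg.Agent.H10.BlockLoc Cfsg.Agent.H3.Clifford
  Cfsg.Agent.H10.BlockTrace Cfsg.Agent.H10.Char Cfsg.Agent.H10.BlockAlg Cfsg.Agent.H10.BlockIdem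
  Cfsg.Agent.H10.BlockOrth Cfsg.Agent.H10.BlockDefect Cfsg.Agent.H10.BlockNormal
  Cfsg.Agent.H10.BlockInd Cfsg.Agent.H10.BlockMain Cfsg.Agent.H10.PPart Cfsg.Agent.H10.BlockSMT
  Cfsg.Agent.H10.BlockSMT2 Cfsg.Agent.H10.BlockHZ Cfsg.Agent.H10.BlockFMT Cfsg.Agent.H10.BlockFMT2
  Cfsg.Agent.H10.BlockCov Cfsg.Agent.H10.BlockCov2
open scoped ComplexConjugate

variable {p : ℕ} {M : Ideal AlgInt}

section transport

variable {K L : Type*} [Group K] [Group L]

/-- pull back of irreducible characters along an isomorphism -/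
def tr (e : K ≃* L) (χ : IrrCharacter L) : IrrCharacter K :=
  ⟨fun k => (χ : L → ℂ) (e k), (isIrr_comp_iff e).2 χ.2⟩

theorem tr_apply (e : K ≃* L) (χ : IrrCharacter L) (k : K) :
    ((tr e χ : IrrCharacter K) : K → ℂ) k = (χ : L → ℂ) (e k) := rfl

theorem tr_tr_symm (e : K ≃* L) (χ : IrrCharacter K) : tr e (tr e.symm χ) = χ :=
  Subtype.ext (funext fun k => by rw [tr_apply, tr_apply, MulEquiv.symm_apply_apply])

theorem tr_symm_tr (e : K ≃* L) (χ : IrrCharacter L) : tr e.symm (tr e χ) = χ :=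
  Subtype.ext (funext fun k => by rw [tr_apply, tr_apply, MulEquiv.apply_symm_apply])

theorem centralChar_tr (e : K ≃* L) (χ : IrrCharacter L) (k : K) :
    centralChar ((tr e χ : IrrCharacter K) : K → ℂ) k = centralChar (χ : L → ℂ) (e k) := by
  unfold centralChar
  rw [tr_apply, tr_apply, map_one]
  have e1 : (Subgroup.centralizer ({k} : Set K)).index =
      (Subgroup.centralizer ({e k} : Set L)).index := by
    have e2 : (Subgroup.centralizer ({e k} : Set L)).comap e.toMonoidHom =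
        Subgroup.centralizer ({k} : Set K) := by
      ext x
      rw [Subgroup.mem_comap, Subgroup.mem_centralizer_singleton_iff, Subgroup.mem_centralizer_singleton_iff]
      constructor
      · intro hx
        apply e.injective
        rw [map_mul, map_mul]; exact hx
      · intro hx
        show e x * e k = e k * e x
        rw [← map_mul, ← map_mul, hx]
    rw [← e2]
    exact Subgroup.index_comap_of_surjective _ e.surjective
  rw [e1]

theorem sameBlock_tr (e : K ≃* L) {χ ψ : IrrCharacter L} (h : SameBlock M (χ : L → ℂ) (ψ : L → ℂ)) :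
    SameBlock M ((tr e χ : IrrCharacter K) : K → ℂ) ((tr e ψ : IrrCharacter K) : K → ℂ) := by
  intro k
  rw [centralChar_tr, centralChar_tr]
  exact h _

theorem sameBlock_tr_iff (e : K ≃* L) {χ ψ : IrrCharacter L} :
    SameBlock M ((tr e χ : IrrCharacter K) : K → ℂ) ((tr e ψ : IrrCharacter K) : K → ℂ) ↔
      SameBlock M (χ : L → ℂ) (ψ : L → ℂ) := by
  constructor
  · intro h
    have := sameBlock_tr (M := M) e.symm h
    rwa [tr_symm_tr, tr_symm_tr] at this
  · exact sameBlock_tr e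

end transport

variable {G : Type*} [Group G] [Fintype G]

/-- truncation in stages -/
theorem om_truncZ_stages (H K : Subgroup G) [Fintype H] [Fintype K] (hHK : H ≤ K)
    [Fintype (H.subgroupOf K)] (ξ : IrrCharacter H) (z : ZC G) :
    om (tr (Subgroup.subgroupOfEquivOfLe hHK) ξ) (truncZ (H.subgroupOf K) (truncZ K z)) =
      om ξ (truncZ H z) := by
  rw [om_apply, om_apply, lin_apply, lin_apply, tr_apply, map_one]
  congr 1
  rw [← Equiv.sum_comp (Subgroup.subgroupOfEquivOfLe hHK).toEquiv]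
  exact Finset.sum_congr rfl fun h _ => rfl

theorem conjIrr_mem [M.IsMaximal] {N : Subgroup G} (hN : N.Normal) [Fintype N] [Fintype (IrrCharacter N)]
    {b b' : Set (IrrCharacter N)} (hb : IsPBlock M b) (hb' : IsPBlock M b') {θ : IrrCharacter N} (hθ : θ ∈ b)
    {g : G} (h : cjI hN g θ ∈ b') : ∀ φ ∈ b, cjI hN g φ ∈ b' := by
  intro φ hφ
  exact block_mem_of_sameBlock hb' h (sameBlock_cjI hN (block_sameBlock hb hθ hφ) g)

/-- S0973 (2) -/
theorem extended_unique [hp : Fact p.Prime] (hM : IsPModular p M) {P C : Subgroup G}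
    (hPC : P ≤ C) (hCC : Subgroup.centralizer (P : Set G) ≤ C)
    (hCN : C ≤ Subgroup.normalizer (P : Set G))
    (hCnorm : (C.subgroupOf (Subgroup.normalizer (P : Set G))).Normal) [Fintype C]
    {B : Set (IrrCharacter G)} (hB : IsPBlock M B) (hP : IsDefectGroup p M B P)
    {b b' : Set (IrrCharacter C)} (h : IsInducedBlock M C b B) (h' : IsInducedBlock M C b' B) :
    ∃ n ∈ Subgroup.normalizer (P : Set G), ∀ θ ∈ b, ∃ θ' ∈ b', ∀ x : C,
      ∀ hx : n * (x : G) * n⁻¹ ∈ C, (θ' : C → ℂ) x = (θ : C → ℂ) ⟨n * (x : G) * n⁻¹, hx⟩ := by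
  classical
  haveI := hM.2.1
  have hPp := IsDefectGroup.isPGroup' hP
  set N := Subgroup.normalizer (P : Set G) with hN
  haveI : Fintype N := Fintype.ofFinite _
  set C₀ := C.subgroupOf N with hC₀
  haveI : Fintype C₀ := Fintype.ofFinite _
  haveI : Fintype (IrrCharacter C₀) := Fintype.ofFinite _
  haveI : Fintype (IrrCharacter N) := Fintype.ofFinite _
  set P₀ := P.subgroupOf N with hP₀
  have hPN : P ≤ N := Subgroup.le_normalizer
  haveI hP₀n : P₀.Normal := subgroupOf_normal_of_le P N le_rfl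
  have hP₀p : IsPGroup p P₀ := hPp.comap_of_injective _ Subtype.val_injective
  have hP₀C₀ : P₀ ≤ C₀ := fun x hx => hPC hx
  have hC₀C : Subgroup.centralizer (P₀ : Set N) ≤ C₀ := by
    intro x hx
    show (x : G) ∈ C
    apply hCC
    rw [Subgroup.mem_centralizer_iff] at hx ⊢
    intro u hu
    exact congrArg Subtype.val (hx ⟨u, hPN hu⟩ hu)
  have hC₀N : C₀ ≤ Subgroup.normalizer (P₀ : Set N) := by
    intro x _
    exact (SetLike.ext_iff.1 (Subgroup.normalizer_eq_top (H := P₀)) x).2 (Subgroup.mem_top x)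
  let e := Subgroup.subgroupOfEquivOfLe hCN
  -- main construction for a block b of C inducing B
  have key : ∀ c : Set (IrrCharacter C), IsInducedBlock M C c B → ∀ ξ ∈ c,
      ∃ β : Set (IrrCharacter N), IsInducedBlock M N β B ∧
        IsDefectGroup p M β P₀ ∧
        IsInducedBlock M C₀ (blockOf M ((tr e ξ : IrrCharacter C₀) : C₀ → ℂ)) β := by
    intro c hc ξ hξ
    obtain ⟨β, hβ⟩ := exists_inducedBlock P₀ C₀ hM hP₀p hP₀C₀ hC₀C hC₀N
      (isPBlock_blockOf (M := M) (tr e ξ))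
    obtain ⟨B', hB'⟩ := exists_inducedBlock P N hM hPp hPN (centralizer_le_normalizer P) le_rfl hβ.2.1
    have hBB' : B = B' := by
      apply isInducedBlock_unique C hc
      obtain ⟨χ', hχ'⟩ := block_nonempty hB'.2.1
      obtain ⟨η, hη⟩ := block_nonempty hβ.2.1
      apply isInducedBlock_of_mem C hc.1 hB'.2.1 hξ hχ'
      intro z hz
      have h1 := ((isInducedBlock_iff (M := M) N β B').1 hB').2.2 η hη χ' hχ' z hz
      have h2 := ((isInducedBlock_iff (M := M) C₀ _ β).1 hβ).2.2 (tr e ξ) (mem_blockOf_self _) η hη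
        (truncZ N z) (truncZ_mem N hz)
      rw [om_truncZ_stages C N hCN ξ z] at h2
      have := ideal_add h2 h1
      rwa [sub_add_sub_cancel] at this
    rw [← hBB'] at hB'
    exact ⟨β, hB', defect_of_inducing hM hPp hPN le_rfl hB hP hB', hβ⟩
  obtain ⟨ξ, hξ⟩ := block_nonempty h.1
  obtain ⟨ξ', hξ'⟩ := block_nonempty h'.1
  obtain ⟨β, hβ1, hβ2, hβ3⟩ := key b h ξ hξ
  obtain ⟨β', hβ1', hβ2', hβ3'⟩ := key b' h' ξ' hξ'
  have hββ' : β = β' := first_main_unique hM hPp hβ1 hβ1' hβ2 hβ2'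
  rw [← hββ'] at hβ3'
  -- covering
  have cover : ∀ φ : IrrCharacter C₀, IsInducedBlock M C₀ (blockOf M (φ : C₀ → ℂ)) β →
      ∃ χ ∈ β, classInner (fun n : C₀ => (χ : N → ℂ) n) (φ : C₀ → ℂ) ≠ 0 := by
    intro φ hφ
    obtain ⟨χ, hχ, h1⟩ := Cfsg.Agent.H3.CharMult.exists_constituent_ind (H := C₀) φ.2
    rw [frobenius C₀ (φ : C₀ → ℂ) χ (IsIrr.isClass hχ)] at h1
    have h2 : classInner (fun n : C₀ => χ n) (φ : C₀ → ℂ) ≠ 0 := by
      rw [← ci_conj_symm]
      intro h
      apply h1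
      rwa [map_eq_zero] at h
    let χI : IrrCharacter N := ⟨χ, hχ⟩
    have h3 := induced_of_covering hM P₀ C₀ hP₀p hCnorm hP₀C₀ hC₀C (isPBlock_blockOf (M := M) φ)
      (isPBlock_blockOf (M := M) χI) ⟨χI, mem_blockOf_self χI, φ, mem_blockOf_self φ, h2⟩
    have h4 := isInducedBlock_unique C₀ hφ h3
    refine ⟨χI, ?_, h2⟩
    rw [h4]; exact mem_blockOf_self χI
  obtain ⟨χ, hχ, hne⟩ := cover _ hβ3
  obtain ⟨χ', hχ', hne'⟩ := cover _ hβ3'
  obtain ⟨θ₀, hθ₀, n, hn⟩ := constituents_conj hCnorm hβ3.2.1 (isPBlock_blockOf (M := M) (tr e ξ)) hχ hχ'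
    (mem_blockOf_self _) hne hne'
  refine ⟨(n : G), n.2, ?_⟩
  intro θ hθ
  have hmem : tr e θ ∈ blockOf M ((tr e ξ : IrrCharacter C₀) : C₀ → ℂ) :=
    sameBlock_tr e (block_sameBlock h.1 hξ hθ)
  have hmem' : cjI hCnorm n (tr e θ) ∈ blockOf M ((tr e ξ' : IrrCharacter C₀) : C₀ → ℂ) := by
    apply conjIrr_mem hCnorm (isPBlock_blockOf (M := M) (tr e ξ)) (isPBlock_blockOf (M := M) (tr e ξ')) hθ₀ _ _ hmem
    rw [← hn]; exact mem_blockOf_self _
  refine ⟨tr e.symm (cjI hCnorm n (tr e θ)), ?_, ?_⟩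
  · apply block_mem_of_sameBlock h'.1 hξ'
    have := sameBlock_tr (M := M) e.symm (show SameBlock M ((tr e ξ' : IrrCharacter C₀) : C₀ → ℂ) _ from hmem')
    rwa [tr_symm_tr] at this
  · intro x hx
    rw [tr_apply, cjI_coe, cj_apply, tr_apply]
    rfl

end Cfsg.Agent.H10.BlockEFM
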