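import Mathlib
import Cfsg.Agent.H10_Homo
import Cfsg.Agent.H10_AbChar

/-!
H10_HomoSig: the automorphism of order three.
-/

set_option autoImplicit false
set_option linter.style.haveILetI false
set_option linter.unusedSectionVars false

namespace Cfsg.Agent.H10.HomoSig

open Cfsg.Agent.H10.PPart Cfsg.Agent.H10.Homo Cfsg.Agent.H10.AbChar

variable {G : Type*} [Group G]

/-- conjugation by an element of the normalizer -/
def cj (P : Subgroup G) {n : G} (hn : n ∈ Subgroup.normalizer (P : Set G)) : P ≃* P where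
  toFun x := ⟨n * x * n⁻¹, (Subgroup.mem_normalizer_iff.1 hn (x : G)).1 x.2⟩
  invFun x := ⟨n⁻¹ * x * n, by
    have := (Subgroup.mem_normalizer_iff.1 (Subgroup.inv_mem _ hn) (x : G)).1 x.2
    rwa [inv_inv] at this⟩
  left_inv x := by apply Subtype.ext; simp [mul_assoc]
  right_inv x := by apply Subtype.ext; simp [mul_assoc]
  map_mul' x y := by apply Subtype.ext; simp [mul_assoc]

theorem cj_coe (P : Subgroup G) {n : G} (hn : n ∈ Subgroup.normalizer (P : Set G)) (x : P) :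
    ((cj P hn x : P) : G) = n * x * n⁻¹ := rfl

theorem exists_tri [Finite G] (P : Sylow 2 G) (h : R2 (P : Subgroup G))
    (h3 : (Subgroup.centralizer ((P : Subgroup G) : Set G)).relIndex (Subgroup.normalizer ((P : Subgroup G) : Set G)) = 3) :
    ∃ σ : (P : Subgroup G) ≃* (P : Subgroup G), Tri σ ∧
      ∀ x y : (P : Subgroup G), IsConj (x : G) (y : G) ↔ (y = x ∨ y = σ x ∨ y = σ (σ x)) := by
  set N := Subgroup.normalizer ((P : Subgroup G) : Set G) with hN
  set C := Subgroup.centralizer ((P : Subgroup G) : Set G) with hC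
  haveI hnorm : (C.subgroupOf N).Normal := inferInstance
  have hcard : Nat.card (N ⧸ C.subgroupOf N) = 3 := h3
  haveI : Fact (Nat.Prime 3) := ⟨Nat.prime_three⟩
  have hpow : ∀ q : N ⧸ C.subgroupOf N, q ^ 3 = 1 := fun q => by rw [← hcard]; exact pow_card_eq_one'
  obtain ⟨q, hq⟩ : ∃ q : N ⧸ C.subgroupOf N, q ≠ 1 := by
    have : 1 < Nat.card (N ⧸ C.subgroupOf N) := by rw [hcard]; norm_num
    haveI := (Finite.one_lt_card_iff_nontrivial).1 this
    exact exists_ne 1
  obtain ⟨⟨n, hn⟩, rfl⟩ := QuotientGroup.mk_surjective q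
  have hgen : ∀ q : N ⧸ C.subgroupOf N, q ∈ Subgroup.zpowers ((⟨n, hn⟩ : N) : N ⧸ C.subgroupOf N) :=
    fun q => mem_zpowers_of_prime_card hcard hq
  have hnC : n ∉ C := by
    intro h'
    apply hq
    exact (QuotientGroup.eq_one_iff _).2 h'
  have hn3 : n ^ 3 ∈ C := by
    have := hpow ((⟨n, hn⟩ : N) : N ⧸ C.subgroupOf N)
    rw [← QuotientGroup.mk_pow] at this
    exact Subgroup.mem_subgroupOf.1 ((QuotientGroup.eq_one_iff (N := C.subgroupOf N) _).1 this)
  have hcases : ∀ g ∈ N, ∃ c ∈ C, g = c ∨ g = n * c ∨ g = n * n * c := by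
    intro g hg
    obtain ⟨k, hk⟩ := hgen ((⟨g, hg⟩ : N) : N ⧸ C.subgroupOf N)
    have hk' : (((⟨n, hn⟩ : N) : N ⧸ C.subgroupOf N)) ^ k = ((⟨g, hg⟩ : N) : N ⧸ C.subgroupOf N) := hk
    have hk2 : (((⟨n, hn⟩ : N) : N ⧸ C.subgroupOf N)) ^ (k % 3) = ((⟨g, hg⟩ : N) : N ⧸ C.subgroupOf N) := by
      rw [← hk']
      conv_rhs => rw [← Int.mul_ediv_add_emod k 3]
      rw [zpow_add, zpow_mul]
      have : (((⟨n, hn⟩ : N) : N ⧸ C.subgroupOf N)) ^ (3 : ℤ) = 1 := by
        have := hpow ((⟨n, hn⟩ : N) : N ⧸ C.subgroupOf N)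
        exact_mod_cast this
      rw [this, one_zpow, one_mul]
    have hr : k % 3 = 0 ∨ k % 3 = 1 ∨ k % 3 = 2 := by omega
    rcases hr with hr | hr | hr
    · rw [hr, zpow_zero] at hk2
      exact ⟨g, Subgroup.mem_subgroupOf.1 ((QuotientGroup.eq_one_iff (N := C.subgroupOf N) _).1 hk2.symm), Or.inl rfl⟩
    · rw [hr, zpow_one] at hk2
      have := QuotientGroup.eq.1 hk2
      exact ⟨n⁻¹ * g, this, Or.inr (Or.inl (by group))⟩
    · rw [hr, show (2 : ℤ) = ((2 : ℕ) : ℤ) by norm_num, zpow_natCast, sq, ← QuotientGroup.mk_mul] at hk2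
      have := QuotientGroup.eq.1 hk2
      exact ⟨(n * n)⁻¹ * g, this, Or.inr (Or.inr (by group))⟩
  have hCcomm : ∀ c ∈ C, ∀ x ∈ (P : Subgroup G), c * x * c⁻¹ = x := by
    intro c hc x hx
    rw [← Subgroup.mem_centralizer_iff.1 hc x hx, mul_inv_cancel_right]
  refine ⟨cj (P : Subgroup G) hn, ⟨?_, ?_⟩, ?_⟩
  · intro x
    apply Subtype.ext
    rw [cj_coe, cj_coe, cj_coe]
    have := hCcomm _ hn3 x x.2
    conv_rhs => rw [← this]
    simp only [pow_succ, pow_zero, one_mul, mul_inv_rev, mul_assoc]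
  · intro x hx
    by_contra hx1
    apply hnC
    have h1 : n * x * n⁻¹ = x := congrArg Subtype.val hx
    rw [mul_inv_eq_iff_eq_mul] at h1
    have h2 := fix_of_fix P h hn x.2 (fun h' => hx1 (Subtype.ext h')) h1
    rw [hC, Subgroup.mem_centralizer_iff]
    intro y hy
    exact (h2 y hy).symm
  · intro x y
    constructor
    · intro hxy
      obtain ⟨g, hg⟩ := isConj_iff.1 hxy
      have hg' : (g⁻¹)⁻¹ * (x : G) * g⁻¹ = y := by rw [inv_inv]; exact hg
      obtain ⟨n', hn', hn'2⟩ := P.conj_eq_normalizer_conj_of_mem_centralizer (x : G) g⁻¹ (h.le_centralizer x.2)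
        (by rw [hg']; exact h.le_centralizer y.2)
      rw [hg'] at hn'2
      obtain ⟨c, hc, hcase⟩ := hcases n'⁻¹ (Subgroup.inv_mem _ hn')
      have hcx := hCcomm c hc x x.2
      have hy : (y : G) = n'⁻¹ * x * (n'⁻¹)⁻¹ := by rw [inv_inv]; exact hn'2
      rcases hcase with h1 | h1 | h1
      · left
        apply Subtype.ext
        rw [hy, h1, hcx]
      · right; left
        apply Subtype.ext
        rw [hy, h1, cj_coe]
        calc n * c * x * (n * c)⁻¹ = n * (c * x * c⁻¹) * n⁻¹ := by group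
          _ = _ := by rw [hcx]
      · right; right
        apply Subtype.ext
        rw [hy, h1, cj_coe, cj_coe]
        calc n * n * c * x * (n * n * c)⁻¹ = n * (n * (c * x * c⁻¹) * n⁻¹) * n⁻¹ := by group
          _ = _ := by rw [hcx]
    · rintro (rfl | rfl | rfl)
      · exact IsConj.refl _
      · exact isConj_iff.2 ⟨n, rfl⟩
      · exact isConj_iff.2 ⟨n * n, by rw [cj_coe, cj_coe]; group⟩

end Cfsg.Agent.H10.HomoSig
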