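import Mathlib

/-!
H10_Sunflower: integer vectors with Gram matrix 3 + delta.
-/

set_option autoImplicit false
set_option linter.style.haveILetI false
set_option linter.unusedSectionVars false

namespace Cfsg.Agent.H10.Sunflower

theorem sq_le_one {x : ℤ} (h : x ^ 2 ≤ 3) : x = 0 ∨ x = 1 ∨ x = -1 := by
  have h1 : x < 2 := by nlinarith
  have h2 : -2 < x := by nlinarith
  omega

theorem eq_pm {x : ℤ} (h : x ^ 2 = 1) : x = 1 ∨ x = -1 := sq_eq_one_iff.mp h

/-- norm one -/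
theorem one_coord {ι : Type*} (S : Finset ι) (f : ι → ℤ) (h : ∑ i ∈ S, f i ^ 2 = 1) :
    ∃ i ∈ S, (f i = 1 ∨ f i = -1) ∧ ∀ j ∈ S, j ≠ i → f j = 0 := by
  classical
  obtain ⟨i, hi, hi0⟩ : ∃ i ∈ S, f i ≠ 0 := by
    by_contra hno
    push Not at hno
    rw [Finset.sum_eq_zero (fun i hi => by rw [hno i hi]; norm_num)] at h
    exact absurd h (by norm_num)
  have h1 : f i ^ 2 + ∑ j ∈ S.erase i, f j ^ 2 = 1 := by
    rw [Finset.add_sum_erase S (fun j => f j ^ 2) hi]; exact h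
  have h2 : 0 ≤ ∑ j ∈ S.erase i, f j ^ 2 := Finset.sum_nonneg fun j _ => sq_nonneg _
  have h3 : 0 < f i ^ 2 := by positivity
  have h4 : f i ^ 2 = 1 := by omega
  have h5 : ∑ j ∈ S.erase i, f j ^ 2 = 0 := by omega
  refine ⟨i, hi, eq_pm h4, fun j hj hji => ?_⟩
  have := (Finset.sum_eq_zero_iff_of_nonneg (fun j _ => sq_nonneg _)).1 h5 j (Finset.mem_erase.2 ⟨hji, hj⟩)
  exact pow_eq_zero_iff (two_ne_zero) |>.1 this

/-- norm two -/
theorem two_coord {ι : Type*} (S : Finset ι) (f : ι → ℤ) (h : ∑ i ∈ S, f i ^ 2 = 2) :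
    ∃ i ∈ S, ∃ j ∈ S, i ≠ j ∧ (f i = 1 ∨ f i = -1) ∧ (f j = 1 ∨ f j = -1) ∧
      ∀ k ∈ S, k ≠ i → k ≠ j → f k = 0 := by
  classical
  obtain ⟨i, hi, hi0⟩ : ∃ i ∈ S, f i ≠ 0 := by
    by_contra hno
    push Not at hno
    rw [Finset.sum_eq_zero (fun i hi => by rw [hno i hi]; norm_num)] at h
    exact absurd h (by norm_num)
  have h1 : f i ^ 2 + ∑ j ∈ S.erase i, f j ^ 2 = 2 := by
    rw [Finset.add_sum_erase S (fun j => f j ^ 2) hi]; exact h
  have h2 : 0 ≤ ∑ j ∈ S.erase i, f j ^ 2 := Finset.sum_nonneg fun j _ => sq_nonneg _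
  have h3 : 0 < f i ^ 2 := by positivity
  have h4 : f i ^ 2 ≤ 3 := by omega
  have h5 : f i ^ 2 = 1 := by
    rcases sq_le_one h4 with h | h | h
    · exact absurd h hi0
    · rw [h]; norm_num
    · rw [h]; norm_num
  have h6 : ∑ j ∈ S.erase i, f j ^ 2 = 1 := by omega
  obtain ⟨j, hj, hj1, hj2⟩ := one_coord _ f h6
  refine ⟨i, hi, j, (Finset.mem_erase.1 hj).2, (Finset.mem_erase.1 hj).1.symm, eq_pm h5, hj1, fun k hk hki hkj => ?_⟩
  exact hj2 k (Finset.mem_erase.2 ⟨hki, hk⟩) hkj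

/-- products with a vector supported on two coordinates -/
theorem sum_two {ι : Type*} [DecidableEq ι] (S : Finset ι) (f g : ι → ℤ) {i j : ι} (hi : i ∈ S) (hj : j ∈ S)
    (hij : i ≠ j) (h : ∀ k ∈ S, k ≠ i → k ≠ j → f k = 0) :
    ∑ k ∈ S, f k * g k = f i * g i + f j * g j := by
  rw [← Finset.add_sum_erase S (fun k => f k * g k) hi,
    ← Finset.add_sum_erase (S.erase i) (fun k => f k * g k) (Finset.mem_erase.2 ⟨hij.symm, hj⟩),
    Finset.sum_eq_zero (s := (S.erase i).erase j), add_zero]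
  intro k hk
  have h1 := Finset.mem_erase.1 hk
  have h2 := Finset.mem_erase.1 h1.2
  rw [h k h2.2 h2.1 h1.1, zero_mul]

theorem sunflower {ι Λ : Type*} [DecidableEq ι] [Nonempty Λ] (S : Finset ι) (o : ι) (ho : o ∈ S) (a : Λ → ι → ℤ)
    (E : Λ → Λ → Prop) (hrefl : ∀ l, E l l) (hsymm : ∀ {l m}, E l m → E m l)
    (h4 : ∀ l, ∑ i ∈ S, a l i ^ 2 = 4) (h3 : ∀ l m, ¬ E l m → ∑ i ∈ S, a l i * a m i = 3)
    (heq : ∀ l m, E l m → ∀ i ∈ S, a l i = a m i) (ho1 : ∀ l, a l o = 1)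
    (hfive : ∀ l1 l2 l3 l4 : Λ, ∃ l, ¬ E l l1 ∧ ¬ E l l2 ∧ ¬ E l l3 ∧ ¬ E l l4) :
    ∃ (w : ι → ℤ) (r : Λ → ι) (c : Λ → ℤ), (∀ l, r l ∈ S ∧ (c l = 1 ∨ c l = -1) ∧ w (r l) = 0 ∧
      ∀ i ∈ S, a l i = w i + if i = r l then c l else 0) ∧ ∑ i ∈ S, w i ^ 2 = 3 ∧ w o = 1 ∧
      ∀ l m, r l = r m → E l m := by
  have hsmall : ∀ l, ∀ i ∈ S, a l i = 0 ∨ a l i = 1 ∨ a l i = -1 := by
    intro l i hi
    by_cases hio : i = o
    · rw [hio, ho1]; exact Or.inr (Or.inl rfl)
    · apply sq_le_one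
      have h1 : a l o ^ 2 + ∑ j ∈ S.erase o, a l j ^ 2 = 4 := by
        rw [Finset.add_sum_erase S (fun j => a l j ^ 2) ho]; exact h4 l
      have h2 : a l i ^ 2 ≤ ∑ j ∈ S.erase o, a l j ^ 2 :=
        Finset.single_le_sum (f := fun j => a l j ^ 2) (fun j _ => sq_nonneg _) (Finset.mem_erase.2 ⟨hio, hi⟩)
      rw [ho1] at h1
      linarith
  have hnorm : ∀ l m, ¬ E l m → ∑ i ∈ S, (a l i - a m i) ^ 2 = 2 := by
    intro l m h
    have e : ∑ i ∈ S, (a l i - a m i) ^ 2 = ∑ i ∈ S, a l i ^ 2 - 2 * ∑ i ∈ S, a l i * a m i + ∑ i ∈ S, a m i ^ 2 := by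
      rw [Finset.mul_sum, ← Finset.sum_sub_distrib, ← Finset.sum_add_distrib]
      exact Finset.sum_congr rfl fun i _ => by ring
    rw [e, h4, h4, h3 l m h]; norm_num
  obtain ⟨l0⟩ := ‹Nonempty Λ›
  obtain ⟨l1, h10, -, -, -⟩ := hfive l0 l0 l0 l0
  obtain ⟨l2, h20, h21, -, -⟩ := hfive l0 l1 l0 l0
  have hprod : ∀ l m, ¬ E l l0 → ¬ E m l0 → ¬ E l m → ∑ i ∈ S, (a l i - a l0 i) * (a m i - a l0 i) = 1 := by
    intro l m hl hm hlm
    have e : ∑ i ∈ S, (a l i - a l0 i) * (a m i - a l0 i) = ∑ i ∈ S, a l i * a m i - ∑ i ∈ S, a l i * a l0 i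
        - ∑ i ∈ S, a m i * a l0 i + ∑ i ∈ S, a l0 i ^ 2 := by
      rw [← Finset.sum_sub_distrib, ← Finset.sum_sub_distrib, ← Finset.sum_add_distrib]
      exact Finset.sum_congr rfl fun i _ => by ring
    rw [e, h4, h3 l m hlm, h3 l l0 hl, h3 m l0 hm]; norm_num
  -- the common coordinate
  obtain ⟨i, hi, α, hα, hi1, hi2, j, hj, k, hk, β, γ, hij, hik, hd1, hd2, hβ, hγ, hjk⟩ : ∃ i ∈ S, ∃ α : ℤ, (α = 1 ∨ α = -1) ∧
      a l1 i - a l0 i = α ∧ a l2 i - a l0 i = α ∧ ∃ j ∈ S, ∃ k ∈ S, ∃ β γ : ℤ, i ≠ j ∧ i ≠ k ∧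
      (∀ x ∈ S, x ≠ i → x ≠ j → a l1 x - a l0 x = 0) ∧ (∀ x ∈ S, x ≠ i → x ≠ k → a l2 x - a l0 x = 0) ∧
      (a l1 j - a l0 j = β) ∧ (a l2 k - a l0 k = γ) ∧ j ≠ k := by
    obtain ⟨i, hi, j, hj, hij, hi1, hj1, h0⟩ := two_coord S _ (hnorm l1 l0 h10)
    have hp := hprod l1 l2 h10 h20 (fun h => h21 (hsymm h))
    rw [sum_two S _ _ hi hj hij h0] at hp
    have hbd : ∀ x ∈ S, (a l2 x - a l0 x) = 0 ∨ (a l2 x - a l0 x) = 1 ∨ (a l2 x - a l0 x) = -1 := by
      intro x hx
      apply sq_le_one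
      have := Finset.single_le_sum (f := fun j => (a l2 j - a l0 j) ^ 2) (fun j _ => sq_nonneg _) hx
      rw [hnorm l2 l0 h20] at this
      linarith
    -- auxiliary: case for i or j
    have aux : ∀ u v, u ∈ S → v ∈ S → u ≠ v → (a l1 u - a l0 u = 1 ∨ a l1 u - a l0 u = -1) →
        (a l1 v - a l0 v = 1 ∨ a l1 v - a l0 v = -1) → (∀ x ∈ S, x ≠ u → x ≠ v → a l1 x - a l0 x = 0) →
        a l2 u - a l0 u = a l1 u - a l0 u → a l2 v - a l0 v = 0 →
        ∃ i ∈ S, ∃ α : ℤ, (α = 1 ∨ α = -1) ∧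
          a l1 i - a l0 i = α ∧ a l2 i - a l0 i = α ∧ ∃ j ∈ S, ∃ k ∈ S, ∃ β γ : ℤ, i ≠ j ∧ i ≠ k ∧
          (∀ x ∈ S, x ≠ i → x ≠ j → a l1 x - a l0 x = 0) ∧ (∀ x ∈ S, x ≠ i → x ≠ k → a l2 x - a l0 x = 0) ∧
          (a l1 j - a l0 j = β) ∧ (a l2 k - a l0 k = γ) ∧ j ≠ k := by
      intro u v hu hv huv hu1 hv1 h0 e1 e2
      obtain ⟨u', hu', v', hv', huv', hu1', hv1', h0'⟩ := two_coord S _ (hnorm l2 l0 h20)
      have hu2 : a l2 u - a l0 u ≠ 0 := by rw [e1]; rcases hu1 with h | h <;> rw [h] <;> norm_num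
      have hcase : u = u' ∨ u = v' := by
        by_contra hno
        push Not at hno
        exact hu2 (h0' u hu hno.1 hno.2)
      have hv2 : v ≠ u' ∧ v ≠ v' := by
        constructor
        · rintro rfl; rw [e2] at hu1'; rcases hu1' with h | h <;> norm_num at h
        · rintro rfl; rw [e2] at hv1'; rcases hv1' with h | h <;> norm_num at h
      rcases hcase with h | h
      · refine ⟨u, hu, a l1 u - a l0 u, hu1, rfl, e1, v, hv, v', hv', _, _, huv, h ▸ huv', h0, ?_, rfl, rfl, hv2.2⟩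
        intro x hx hxu hxv; exact h0' x hx (h ▸ hxu) hxv
      · refine ⟨u, hu, a l1 u - a l0 u, hu1, rfl, e1, v, hv, u', hu', _, _, huv, h ▸ huv'.symm, h0, ?_, rfl, rfl, hv2.1⟩
        intro x hx hxu hxv; exact h0' x hx hxv (h ▸ hxu)
    rcases hbd i hi with e1 | e1 | e1 <;> rcases hbd j hj with e2 | e2 | e2 <;> rcases hi1 with e3 | e3 <;>
      rcases hj1 with e4 | e4 <;> rw [e1, e2, e3, e4] at hp <;> first | (exfalso; norm_num at hp; done) | skip
    all_goals first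
      | exact aux i j hi hj hij (by first | exact Or.inl e3 | exact Or.inr e3) (by first | exact Or.inl e4 | exact Or.inr e4) h0
          (by rw [e1, e3]) e2
      | exact aux j i hj hi hij.symm (by first | exact Or.inl e4 | exact Or.inr e4) (by first | exact Or.inl e3 | exact Or.inr e3)
          (fun x hx h1 h2 => h0 x hx h2 h1) (by rw [e2, e4]) e1
  have hβ2 : ∀ l m, ¬ E l m → ∀ x ∈ S, (a l x - a m x) = 0 ∨ (a l x - a m x) = 1 ∨ (a l x - a m x) = -1 := by
    intro l m hlm x hx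
    apply sq_le_one
    have := Finset.single_le_sum (f := fun j => (a l j - a m j) ^ 2) (fun j _ => sq_nonneg _) hx
    rw [hnorm l m hlm] at this
    linarith
  have hα2 : α * α = 1 := by rcases hα with h | h <;> rw [h] <;> norm_num
  -- norms of d1, d2
  have hn1 : α * α + β * β = 2 := by
    have := hnorm l1 l0 h10
    have e := sum_two S (fun x => a l1 x - a l0 x) (fun x => a l1 x - a l0 x) hi hj hij hd1
    simp only [← pow_two] at e
    rw [this, hi1, hβ] at e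
    linarith [pow_two α, pow_two β]
  have hn2 : α * α + γ * γ = 2 := by
    have := hnorm l2 l0 h20
    have e := sum_two S (fun x => a l2 x - a l0 x) (fun x => a l2 x - a l0 x) hi hk hik hd2
    simp only [← pow_two] at e
    rw [this, hi2, hγ] at e
    linarith [pow_two α, pow_two γ]
  have hβ1 : β = 1 ∨ β = -1 := by
    apply eq_pm; rw [pow_two]; linarith
  have hγ1 : γ = 1 ∨ γ = -1 := by
    apply eq_pm; rw [pow_two]; linarith
  have hp1 : ∀ l, ¬ E l l0 → ¬ E l l1 → α * (a l i - a l0 i) + β * (a l j - a l0 j) = 1 := by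
    intro l hl0 hl1
    have h := hprod l1 l h10 hl0 (fun h => hl1 (hsymm h))
    rw [sum_two S _ _ hi hj hij hd1, hi1, hβ] at h
    exact h
  have hp2 : ∀ l, ¬ E l l0 → ¬ E l l2 → α * (a l i - a l0 i) + γ * (a l k - a l0 k) = 1 := by
    intro l hl0 hl1
    have h := hprod l2 l h20 hl0 (fun h => hl1 (hsymm h))
    rw [sum_two S _ _ hi hk hik hd2, hi2, hγ] at h
    exact h
  have hstep3 : ∀ l, ¬ E l l0 → a l i - a l0 i = α := by
    intro l hl0
    by_cases hl1 : E l l1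
    · rw [heq l l1 hl1 i hi]; exact hi1
    by_cases hl2 : E l l2
    · rw [heq l l2 hl2 i hi]; exact hi2
    by_contra hne
    have e1 := hp1 l hl0 hl1
    have e2 := hp2 l hl0 hl2
    have hz : a l i - a l0 i = 0 ∧ a l j - a l0 j = β ∧ a l k - a l0 k = γ := by
      have b1 := hβ2 l l0 hl0 i hi
      have b2 := hβ2 l l0 hl0 j hj
      have b3 := hβ2 l l0 hl0 k hk
      generalize a l i - a l0 i = A at *
      generalize a l j - a l0 j = B at *
      generalize a l k - a l0 k = C at *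
      clear hi1 hi2 hβ hγ hd1 hd2 hnorm hprod
      rcases hα with rfl | rfl <;> rcases hβ1 with rfl | rfl <;> rcases hγ1 with rfl | rfl <;> omega
    obtain ⟨hz1, hz2, hz3⟩ := hz
    have hsupp : ∀ x ∈ S, x ≠ j → x ≠ k → a l x - a l0 x = 0 := by
      obtain ⟨u, hu, v, hv, huv, hu1, hv1, h0⟩ := two_coord S _ (hnorm l l0 hl0)
      have hj0 : a l j - a l0 j ≠ 0 := by rw [hz2]; rcases hβ1 with h | h <;> rw [h] <;> norm_num
      have hk0 : a l k - a l0 k ≠ 0 := by rw [hz3]; rcases hγ1 with h | h <;> rw [h] <;> norm_num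
      have cj : j = u ∨ j = v := by
        by_contra hno; push Not at hno; exact hj0 (h0 j hj hno.1 hno.2)
      have ck : k = u ∨ k = v := by
        by_contra hno; push Not at hno; exact hk0 (h0 k hk hno.1 hno.2)
      intro x hx hxj hxk
      rcases cj with cj | cj <;> rcases ck with ck | ck
      · exact absurd (cj.trans ck.symm) hjk
      · exact h0 x hx (cj ▸ hxj) (ck ▸ hxk)
      · exact h0 x hx (ck ▸ hxk) (cj ▸ hxj)
      · exact absurd (cj.trans ck.symm) hjk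
    obtain ⟨m, hm0, hm1, hm2, hm3⟩ := hfive l0 l1 l2 l
    have f1 := hp1 m hm0 hm1
    have f2 := hp2 m hm0 hm2
    have f3 : β * (a m j - a l0 j) + γ * (a m k - a l0 k) = 1 := by
      have h := hprod l m hl0 hm0 (fun h => hm3 (hsymm h))
      rw [sum_two S _ _ hj hk hjk hsupp, hz2, hz3] at h
      exact h
    omega
  have hio : i ≠ o := by
    rintro rfl
    rw [ho1, ho1] at hi1
    rcases hα with h | h <;> omega
  -- the vector w
  have hw : ∀ l, ∑ x ∈ S, (a l x - (a l0 x + if x = i then α else 0)) ^ 2 = 1 := by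
    intro l
    have e : ∑ x ∈ S, (a l x - (a l0 x + if x = i then α else 0)) ^ 2 = ∑ x ∈ S, (a l x - a l0 x) ^ 2
        - 2 * α * (a l i - a l0 i) + 1 := by
      rw [← Finset.add_sum_erase S _ hi, ← Finset.add_sum_erase S (fun x => (a l x - a l0 x) ^ 2) hi]
      have e1 : ∑ x ∈ S.erase i, (a l x - (a l0 x + if x = i then α else 0)) ^ 2 =
          ∑ x ∈ S.erase i, (a l x - a l0 x) ^ 2 := by
        refine Finset.sum_congr rfl fun x hx => ?_
        rw [if_neg (Finset.mem_erase.1 hx).1, add_zero]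
      rw [e1, if_pos rfl]
      linear_combination hα2
    rw [e]
    by_cases hl : E l l0
    · rw [Finset.sum_eq_zero (fun x hx => by rw [heq l l0 hl x hx]; ring), heq l l0 hl i hi]
      ring
    · rw [hnorm l l0 hl, hstep3 l hl]
      linear_combination -2 * hα2
  choose r hrS hc1 hc0 using fun l => one_coord S _ (hw l)
  set w : ι → ℤ := fun x => a l0 x + if x = i then α else 0 with hwdef
  have hal : ∀ l, ∀ x ∈ S, a l x = w x + if x = r l then a l (r l) - w (r l) else 0 := by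
    intro l x hx
    by_cases hxr : x = r l
    · rw [if_pos hxr, hxr]; ring
    · rw [if_neg hxr, add_zero]
      have := hc0 l x hx hxr
      linarith
  have hc1' : ∀ l, a l (r l) - w (r l) = 1 ∨ a l (r l) - w (r l) = -1 := hc1
  have hwo : w o = 1 := by
    show a l0 o + (if o = i then α else 0) = 1
    rw [if_neg hio.symm, ho1, add_zero]
  have hrr : ∀ l m, r l = r m → E l m := by
    intro l m hlm
    by_contra hno
    have h := hnorm l m hno
    have e : ∑ x ∈ S, (a l x - a m x) ^ 2 = (a l (r l) - a m (r l)) ^ 2 := by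
      refine Finset.sum_eq_single_of_mem (r l) (hrS l) fun x hx hxr => ?_
      have h1 := hc0 l x hx hxr
      have h2 := hc0 m x hx (hlm ▸ hxr)
      have : a l x - a m x = 0 := by
        have h1' : a l x - w x = 0 := h1
        have h2' : a m x - w x = 0 := h2
        linarith
      rw [this]; norm_num
    rw [e] at h
    have h1 := hc1' l
    have h2 := hc1' m
    rw [← hlm] at h2
    have : a l (r l) - a m (r l) = 0 ∨ a l (r l) - a m (r l) = 2 ∨ a l (r l) - a m (r l) = -2 := by omega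
    rcases this with h3 | h3 | h3 <;> rw [h3] at h <;> norm_num at h
  have hro : ∀ l, r l ≠ o := by
    intro l h
    have := hc1' l
    rw [h, hwo, ho1] at this
    omega
  -- W
  have hW : ∀ l, ∑ x ∈ S, w x ^ 2 = 3 - 2 * ((a l (r l) - w (r l)) * w (r l)) := by
    intro l
    have h := h4 l
    have e : ∑ x ∈ S, a l x ^ 2 = ∑ x ∈ S, w x ^ 2 + 2 * ((a l (r l) - w (r l)) * w (r l)) + 1 := by
      rw [← Finset.add_sum_erase S _ (hrS l), ← Finset.add_sum_erase S (fun x => w x ^ 2) (hrS l)]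
      have e1 : ∑ x ∈ S.erase (r l), a l x ^ 2 = ∑ x ∈ S.erase (r l), w x ^ 2 := by
        refine Finset.sum_congr rfl fun x hx => ?_
        rw [hal l x (Finset.mem_erase.1 hx).2, if_neg (Finset.mem_erase.1 hx).1, add_zero]
      rw [e1]
      have e2 : (a l (r l) - w (r l)) ^ 2 = 1 := by rcases hc1' l with h | h <;> rw [h] <;> norm_num
      linear_combination e2
    rw [e] at h
    linarith
  obtain ⟨l3, h30, h31, h32, -⟩ := hfive l0 l1 l2 l0
  obtain ⟨l4, h40, h41, h42, h43⟩ := hfive l0 l1 l2 l3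
  have hsix : 1 + w (r l0) ^ 2 + w (r l1) ^ 2 + w (r l2) ^ 2 + w (r l3) ^ 2 + w (r l4) ^ 2 ≤ ∑ x ∈ S, w x ^ 2 := by
    have hne : ∀ l m, ¬ E l m → r l ≠ r m := fun l m h h' => h (hrr l m h')
    have hsub : ({o, r l0, r l1, r l2, r l3, r l4} : Finset ι) ⊆ S := by
      intro x hx
      simp only [Finset.mem_insert, Finset.mem_singleton] at hx
      rcases hx with rfl | rfl | rfl | rfl | rfl | rfl
      · exact ho
      all_goals exact hrS _
    refine le_trans (le_of_eq ?_) (Finset.sum_le_sum_of_subset_of_nonneg hsub fun x _ _ => sq_nonneg (w x))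
    rw [Finset.sum_insert, Finset.sum_insert, Finset.sum_insert, Finset.sum_insert, Finset.sum_insert, Finset.sum_singleton,
      hwo]
    · ring
    all_goals simp only [Finset.mem_insert, Finset.mem_singleton, not_or]
    · exact (hne _ _ h43).symm
    · exact ⟨(hne _ _ h32).symm, (hne _ _ h42).symm⟩
    · exact ⟨(hne _ _ h21).symm, (hne _ _ h31).symm, (hne _ _ h41).symm⟩
    · exact ⟨(hne _ _ h10).symm, (hne _ _ h20).symm, (hne _ _ h30).symm, (hne _ _ h40).symm⟩
    · exact ⟨(hro _).symm, (hro _).symm, (hro _).symm, (hro _).symm, (hro _).symm⟩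
  have hκ : ∀ l, a l (r l) = 0 ∨ a l (r l) = 1 ∨ a l (r l) = -1 := fun l => hsmall l _ (hrS l)
  have hw0 : ∀ l, w (r l) = 0 := by
    intro l
    by_contra hne
    have key : ∀ m, w (r m) ^ 2 = w (r l) ^ 2 := by
      intro m
      have h1 := hW l
      rw [hW m] at h1
      rcases hc1' l with h | h <;> rcases hc1' m with h' | h' <;> rw [h, h'] at h1
      · have : w (r m) = w (r l) := by linarith
        rw [this]
      · have : w (r m) = - w (r l) := by linarith
        rw [this]; ring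
      · have : w (r m) = - w (r l) := by linarith
        rw [this]; ring
      · have : w (r m) = w (r l) := by linarith
        rw [this]
    rw [key l0, key l1, key l2, key l3, key l4, hW l] at hsix
    have h2 : w (r l) = 1 ∨ w (r l) = -1 ∨ w (r l) = 2 ∨ w (r l) = -2 := by
      rcases hκ l with h | h | h <;> rcases hc1' l with h' | h' <;> omega
    have h5 := hκ l
    have h6 := hc1' l
    clear key hW hwo hro hrr hal hw
    generalize a l (r l) = A at hsix h2 h5 h6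
    generalize w (r l) = B at hsix h2 h5 h6
    rcases h5 with rfl | rfl | rfl <;> rcases h2 with rfl | rfl | rfl | rfl <;> first | omega | (exfalso; norm_num at hsix; done) | (exfalso; norm_num at h6; done)
  refine ⟨w, r, fun l => a l (r l) - w (r l), fun l => ⟨hrS l, hc1' l, hw0 l, hal l⟩, ?_, hwo, hrr⟩
  rw [hW l0, hw0 l0]; ring

end Cfsg.Agent.H10.Sunflower
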