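import Mathlib
import Cfsg.Prelude.Def_Blocks
import Cfsg.Agent.H10_BlockV4
import Cfsg.Agent.H10_HomoSig
import Cfsg.Agent.H10_Sunflower

/-!
H10_BlockHomo: principal 2-blocks with homocyclic Sylow subgroups of rank two.
-/

set_option autoImplicit false
set_option linter.style.haveILetI false
set_option linter.unusedSectionVars false

namespace Cfsg.Agent.H10.BlockHomo

open Cfsg Cfsg.Agent.H3.CharIrr Cfsg.Agent.H3.CharComplete Cfsg.Agent.H3.CharInd
  Cfsg.Agent.H3.CharBasic Cfsg.Agent.H10.BlockLoc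
  Cfsg.Agent.H10.BlockTrace Cfsg.Agent.H10.Char Cfsg.Agent.H10.BlockAlg Cfsg.Agent.H10.BlockIdem
  Cfsg.Agent.H10.BlockOrth Cfsg.Agent.H10.BlockDefect Cfsg.Agent.H10.BlockNormal
  Cfsg.Agent.H10.BlockInd Cfsg.Agent.H10.BlockMain Cfsg.Agent.H10.PPart Cfsg.Agent.H10.BlockSMT
  Cfsg.Agent.H10.BlockSMT2 Cfsg.Agent.H10.BlockHZ Cfsg.Agent.H10.BlockK Cfsg.Agent.H10.BlockKer
  Cfsg.Agent.H10.BlockPrin Cfsg.Agent.H10.Homo Cfsg.Agent.H10.BlockQuot Cfsg.Agent.H10.BlockV4
  Cfsg.Agent.H10.HomoSig Cfsg.Agent.H10.AbChar Cfsg.Agent.H10.Sunflower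
open scoped ComplexConjugate

variable {G : Type*} [Group G] [Fintype G] {M : Ideal AlgInt}

theorem sylow_pord (P : Sylow 2 G) {x : G} (hx : x ∈ (P : Subgroup G)) : ∃ k, orderOf x = 2 ^ k := by
  obtain ⟨k, hk⟩ := (IsPGroup.iff_orderOf.1 P.isPGroup') ⟨x, hx⟩
  rw [Subgroup.orderOf_mk] at hk
  exact ⟨k, hk⟩

theorem self_ppart {p : ℕ} (hp : p.Prime) {x : G} (hx : ∃ k, orderOf x = p ^ k) : IsPPart p x x :=
  ⟨1, mul_one x, Commute.one_right x, hx, by rw [orderOf_one, Nat.dvd_one]; exact hp.one_lt.ne'⟩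

open Classical in
/-- orthogonality of columns of the principal block on P -/
theorem kernel (hM : IsPModular 2 M) [Fintype (IrrCharacter G)] (P : Sylow 2 G) (hR : R2 (P : Subgroup G))
    (x y : (P : Subgroup G)) (hx : x ≠ 1) :
    ∑ χ : IrrCharacter G, (if χ ∈ principalBlock M G then (χ : G → ℂ) x * conj ((χ : G → ℂ) y) else 0) =
      if IsConj (x : G) (y : G) then (Nat.card P : ℂ) else 0 := by
  haveI := hM.2.1
  split_ifs with h
  · have hx1 : (x : G) ≠ 1 := fun h' => hx (Subtype.ext h')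
    obtain ⟨K, hK, hK2, hKi⟩ := centralizer_complement P hR x.2 hx1
    have hKi' : ∃ k, K.index = 2 ^ k := ⟨_, hKi.trans P.card_eq_multiplicity⟩
    have h1 := principal_norm_compl hM (sylow_pord P x.2) hK hK2 hKi' 1 (by simp)
    rw [hKi] at h1
    rw [← h1]
    refine Finset.sum_congr rfl fun χ _ => ?_
    rw [Subgroup.coe_one, mul_one, IsClass.eq_of_isConj (irr_class χ.2) h]
  · have h1 := block_orth hM (self_ppart Nat.prime_two (sylow_pord P x.2))
      (self_ppart Nat.prime_two (sylow_pord P y.2)) h (principal_isPBlock (M := M) (G := G))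
    refine Eq.trans (Finset.sum_congr rfl fun χ _ => ?_) h1
    rw [IsChar.inv_eq_conj (isChar_of_irr χ.2)]

/-- the multiplicity differences -/
theorem exists_b (P : Sylow 2 G) [Fintype (P : Subgroup G)] (l : IrrCharacter (P : Subgroup G)) (χ : IrrCharacter G) :
    ∃ n : ℤ, (n : ℂ) = (Nat.card P : ℂ)⁻¹ * ∑ x : (P : Subgroup G), (χ : G → ℂ) x * (1 - conj ((l : ↥(P : Subgroup G) → ℂ) x)) := by
  obtain ⟨a, ha⟩ := ci_char_nat (IsChar.res (isChar_of_irr χ.2) (P : Subgroup G)) (IsIrr.isCharacter l.2)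
  obtain ⟨b, hb⟩ := ci_char_nat (IsChar.res (isChar_of_irr χ.2) (P : Subgroup G)) (IsIrr.isCharacter (triv (P : Subgroup G)).2)
  refine ⟨b - a, ?_⟩
  push_cast
  rw [← ha, ← hb, classInner, classInner, ← mul_sub, ← Finset.sum_sub_distrib]
  congr 1
  refine Finset.sum_congr rfl fun x _ => ?_
  rw [triv_coe, map_one]
  ring

noncomputable def bb (P : Sylow 2 G) [Fintype (P : Subgroup G)] (l : IrrCharacter (P : Subgroup G)) (χ : IrrCharacter G) : ℤ :=
  Classical.choose (exists_b P l χ)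

theorem bb_eq (P : Sylow 2 G) [Fintype (P : Subgroup G)] (l : IrrCharacter (P : Subgroup G)) (χ : IrrCharacter G) :
    (bb P l χ : ℂ) = (Nat.card P : ℂ)⁻¹ * ∑ x : (P : Subgroup G), (χ : G → ℂ) x * (1 - conj ((l : ↥(P : Subgroup G) → ℂ) x)) :=
  Classical.choose_spec (exists_b P l χ)

theorem conj_sum_three {P : Type*} [Group P] [Fintype P] [DecidableEq P] {σ : P ≃* P} (h : Tri σ) {x : P} (hx : x ≠ 1)
    (F : P → ℂ) [DecidablePred fun y => y = x ∨ y = σ x ∨ y = σ (σ x)] :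
    ∑ y : P, (if (y = x ∨ y = σ x ∨ y = σ (σ x)) then F y else 0) = F x + F (σ x) + F (σ (σ x)) := by
  have h1 : x ≠ σ x := fun h' => hx (h.fix x h'.symm)
  have h2 : x ≠ σ (σ x) := fun h' => hx (h.fix2 x h'.symm)
  have h3 : σ x ≠ σ (σ x) := fun h' => h1 (σ.injective h')
  rw [← Finset.sum_filter]
  have e : Finset.univ.filter (fun y => y = x ∨ y = σ x ∨ y = σ (σ x)) = {x, σ x, σ (σ x)} := by
    ext y
    simp
  rw [e, Finset.sum_insert, Finset.sum_insert, Finset.sum_singleton, add_assoc]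
  · rw [Finset.mem_singleton]; exact h3
  · rw [Finset.mem_insert, Finset.mem_singleton]; push Not; exact ⟨h1, h2⟩

open Classical in
theorem gram (hM : IsPModular 2 M) [Fintype (IrrCharacter G)] (P : Sylow 2 G) [Fintype (P : Subgroup G)]
    [Fintype (IrrCharacter (P : Subgroup G))]
    (hR : R2 (P : Subgroup G)) {σ : (P : Subgroup G) ≃* (P : Subgroup G)} (hσ : Tri σ)
    (hconj : ∀ x y : (P : Subgroup G), IsConj (x : G) (y : G) ↔ (y = x ∨ y = σ x ∨ y = σ (σ x)))
    (l m : IrrCharacter (P : Subgroup G)) (hl : l ≠ triv _) (hm : m ≠ triv _) :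
    ((∑ χ ∈ Finset.univ.filter (fun χ => χ ∈ principalBlock M G), bb P l χ * bb P m χ : ℤ) : ℂ) =
      3 + (if m = l then 1 else 0) + (if sg σ m = l then 1 else 0) + (if sg σ (sg σ m) = l then 1 else 0) := by
  have hc0 : (Nat.card P : ℂ) ≠ 0 := Nat.cast_ne_zero.2 Nat.card_pos.ne'
  have hreal : ∀ χ, (bb P m χ : ℂ) = conj (bb P m χ : ℂ) := fun χ => by rw [map_intCast]
  have e1 : ((∑ χ ∈ Finset.univ.filter (fun χ => χ ∈ principalBlock M G), bb P l χ * bb P m χ : ℤ) : ℂ) =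
      (Nat.card P : ℂ)⁻¹ * ((Nat.card P : ℂ)⁻¹ * ∑ x : (P : Subgroup G), (1 - conj ((l : ↥(P : Subgroup G) → ℂ) x)) *
        ∑ y : (P : Subgroup G), (1 - (m : ↥(P : Subgroup G) → ℂ) y) *
          ∑ χ : IrrCharacter G, (if χ ∈ principalBlock M G then (χ : G → ℂ) x * conj ((χ : G → ℂ) y) else 0)) := by
    push_cast
    rw [Finset.sum_filter, Finset.mul_sum, Finset.mul_sum]
    simp_rw [Finset.mul_sum]
    conv_rhs =>
      enter [2, x]
      rw [Finset.sum_comm]
    rw [Finset.sum_comm]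
    refine Finset.sum_congr rfl fun χ _ => ?_
    by_cases hχ : χ ∈ principalBlock M G
    · simp only [if_pos hχ]
      rw [hreal χ, bb_eq, bb_eq, map_mul, map_sum, map_inv₀, map_natCast, Finset.mul_sum, Finset.mul_sum,
        Finset.sum_mul_sum]
      refine Finset.sum_congr rfl fun x _ => ?_
      refine Finset.sum_congr rfl fun y _ => ?_
      rw [map_mul, map_sub, map_one, Complex.conj_conj]
      ring
    · simp only [if_neg hχ, mul_zero, Finset.sum_const_zero]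
  rw [e1]
  have e2 : ∀ x : (P : Subgroup G), (1 - conj ((l : ↥(P : Subgroup G) → ℂ) x)) *
        ∑ y : (P : Subgroup G), (1 - (m : ↥(P : Subgroup G) → ℂ) y) *
          ∑ χ : IrrCharacter G, (if χ ∈ principalBlock M G then (χ : G → ℂ) x * conj ((χ : G → ℂ) y) else 0) =
      (Nat.card P : ℂ) * ((1 - conj ((l : ↥(P : Subgroup G) → ℂ) x)) * (3 - ph σ m x)) := by
    intro x
    by_cases hx : x = 1
    · subst hx
      rw [lin_one (fun a b : (P : Subgroup G) => Subtype.ext (hR.hab a a.2 b b.2)), map_one, sub_self, zero_mul, zero_mul, mul_zero]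
    · have e3 : ∑ y : (P : Subgroup G), (1 - (m : ↥(P : Subgroup G) → ℂ) y) *
          ∑ χ : IrrCharacter G, (if χ ∈ principalBlock M G then (χ : G → ℂ) x * conj ((χ : G → ℂ) y) else 0) =
          ∑ y : (P : Subgroup G), (if (y = x ∨ y = σ x ∨ y = σ (σ x)) then
            (1 - (m : ↥(P : Subgroup G) → ℂ) y) * (Nat.card P : ℂ) else 0) := by
        refine Finset.sum_congr rfl fun y _ => ?_
        rw [kernel hM P hR x y hx]
        by_cases h : IsConj (x : G) (y : G)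
        · rw [if_pos h, if_pos ((hconj x y).1 h)]
        · rw [if_neg h, if_neg (fun h' => h ((hconj x y).2 h')), mul_zero]
      rw [e3, conj_sum_three hσ hx]
      unfold ph
      ring
  simp_rw [e2]
  rw [← Finset.mul_sum, inv_mul_cancel_left₀ hc0]
  have e4 : ∀ x : (P : Subgroup G), (1 - conj ((l : ↥(P : Subgroup G) → ℂ) x)) * (3 - ph σ m x) =
      3 - 3 * conj ((l : ↥(P : Subgroup G) → ℂ) x) - (m : ↥(P : Subgroup G) → ℂ) x - (sg σ m : ↥(P : Subgroup G) → ℂ) x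
        - (sg σ (sg σ m) : ↥(P : Subgroup G) → ℂ) x + (m : ↥(P : Subgroup G) → ℂ) x * conj ((l : ↥(P : Subgroup G) → ℂ) x)
        + (sg σ m : ↥(P : Subgroup G) → ℂ) x * conj ((l : ↥(P : Subgroup G) → ℂ) x)
        + (sg σ (sg σ m) : ↥(P : Subgroup G) → ℂ) x * conj ((l : ↥(P : Subgroup G) → ℂ) x) := by
    intro x
    unfold ph
    rw [sg_apply, sg_apply, sg_apply]
    ring
  have hs1 : sg σ m ≠ triv _ := by
    intro h
    apply hm
    have := congrArg (fun k => sg σ (sg σ k)) h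
    simp only [hσ.sg3] at this
    rw [this]; rfl
  have hs2 : sg σ (sg σ m) ≠ triv _ := by
    intro h
    apply hm
    have := congrArg (fun k => sg σ k) h
    simp only [hσ.sg3] at this
    rw [this]; rfl
  simp_rw [e4]
  simp only [Finset.sum_add_distrib, Finset.sum_sub_distrib]
  rw [← Finset.mul_sum, row_one_conj, if_neg hl, row_one, if_neg hm, row_one, if_neg hs1, row_one, if_neg hs2,
    row, row, row, Finset.sum_const, Finset.card_univ, ← Nat.card_eq_fintype_card]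
  have hcc : (Nat.card (P : Subgroup G) : ℂ) ≠ 0 := hc0
  have hif : ∀ (c : Prop) [Decidable c], (if c then (Nat.card (P : Subgroup G) : ℂ) else 0) =
      (Nat.card (P : Subgroup G) : ℂ) * (if c then 1 else 0) := fun c _ => by split_ifs <;> simp
  rw [hif (m = l), hif (sg σ m = l), hif (sg σ (sg σ m) = l), nsmul_eq_mul]
  field_simp
  ring

open Classical in
/-- structure constants for a block -/
theorem struct_vanish {p : ℕ} (hM : IsPModular p M) [Fintype (IrrCharacter G)] {s x : G} (hx : ∃ k, orderOf x = p ^ k)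
    (hno : ∀ a b u z : G, IsPPart p u z → IsConj x z → a⁻¹ * s * a * (b⁻¹ * s * b) ≠ u) {B : Set (IrrCharacter G)}
    (hB : IsPBlock M B) :
    ∑ χ : IrrCharacter G, (if χ ∈ B then (χ : G → ℂ) x * conj ((χ : G → ℂ) s * (χ : G → ℂ) s / (χ : G → ℂ) 1) else 0) = 0 := by
  set f : G → ℂ := fun g => ∑ a : G, ∑ b : G, if a⁻¹ * s * a * (b⁻¹ * s * b) = g then (1:ℂ) else 0 with hf
  have hfc : IsClassFunction G f := by
    intro g h
    simp only [hf]
    rw [← Equiv.sum_comp (Equiv.mulRight h⁻¹)]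
    refine Finset.sum_congr rfl fun a _ => ?_
    rw [← Equiv.sum_comp (Equiv.mulRight h⁻¹)]
    refine Finset.sum_congr rfl fun b _ => ?_
    simp only [Equiv.coe_mulRight]
    congr 1
    apply propext
    have e : (a * h⁻¹)⁻¹ * s * (a * h⁻¹) * ((b * h⁻¹)⁻¹ * s * (b * h⁻¹)) =
        h * (a⁻¹ * s * a * (b⁻¹ * s * b)) * h⁻¹ := by group
    rw [e]
    constructor
    · intro h'
      exact mul_left_cancel (mul_right_cancel h')
    · intro h'; rw [h']
  have h0 : ∀ u z : G, IsPPart p u z → IsConj x z → f u = 0 := by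
    intro u z hu hz
    simp only [hf]
    refine Finset.sum_eq_zero fun a _ => Finset.sum_eq_zero fun b _ => ?_
    rw [if_neg (hno a b u z hu hz)]
  have key := section_vanish hM hfc hx h0 hB (self_ppart hM.1 hx) (IsConj.refl x)
  rw [blockPart_apply] at key
  have hG : (Nat.card G : ℂ) ≠ 0 := Nat.cast_ne_zero.2 Nat.card_pos.ne'
  have h1 : ∑ g : G, f g * ∑ χ : IrrCharacter G, (if χ ∈ B then (χ : G → ℂ) x * conj ((χ : G → ℂ) g) else 0) =
      (Nat.card G : ℂ) ^ 2 * ∑ χ : IrrCharacter G, (if χ ∈ B then (χ : G → ℂ) x *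
        conj ((χ : G → ℂ) s * (χ : G → ℂ) s / (χ : G → ℂ) 1) else 0) := by
    simp_rw [Finset.mul_sum]
    rw [Finset.sum_comm]
    refine Finset.sum_congr rfl fun χ _ => ?_
    by_cases hχ : χ ∈ B
    · simp only [if_pos hχ]
      have h2 : ∀ F : G → ℂ, ∑ g, f g * F g = ∑ a : G, ∑ b : G, F (a⁻¹ * s * a * (b⁻¹ * s * b)) := by
        intro F
        simp only [hf]
        simp_rw [Finset.sum_mul]
        rw [Finset.sum_comm]
        refine Finset.sum_congr rfl fun a _ => ?_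
        rw [Finset.sum_comm]
        refine Finset.sum_congr rfl fun b _ => ?_
        simp
      rw [h2 (fun g => (χ : G → ℂ) x * conj ((χ : G → ℂ) g)), Finset.sum_comm]
      have h3 : ∀ b : G, ∑ a : G, (χ : G → ℂ) x * conj ((χ : G → ℂ) (a⁻¹ * s * a * (b⁻¹ * s * b))) =
          (χ : G → ℂ) x * ((Nat.card G : ℂ) * conj ((χ : G → ℂ) s * (χ : G → ℂ) s / (χ : G → ℂ) 1)) := by
        intro b
        rw [← Finset.mul_sum, ← map_sum, sum_conj_mul χ.2]
        have h4 : (χ : G → ℂ) (b⁻¹ * s * b) = (χ : G → ℂ) s := by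
          have := irr_class χ.2 s b⁻¹
          rwa [inv_inv] at this
        rw [h4]
        have h5 : (Nat.card G : ℂ) = conj (Nat.card G : ℂ) := by rw [map_natCast]
        conv_rhs => rw [h5, ← map_mul]
        congr 2
        ring
      rw [Finset.sum_congr rfl (fun b _ => h3 b), Finset.sum_const, Finset.card_univ, ← Nat.card_eq_fintype_card,
        nsmul_eq_mul]
      ring
    · simp only [if_neg hχ, mul_zero, Finset.sum_const_zero]
  rw [h1] at key
  have h2 := (mul_eq_zero.1 key).resolve_left (inv_ne_zero hG)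
  exact (mul_eq_zero.1 h2).resolve_left (pow_ne_zero 2 hG)

/-- a product of two involutions is inverted by the first one; so is its p-part -/
theorem ppart_inverted {p : ℕ} [Fact p.Prime] {t u z : G} (hu : t * u * t⁻¹ = u⁻¹) (hz : IsPPart p u z) :
    t * z * t⁻¹ = z⁻¹ := by
  have h1 := conj_ppart hz t
  rw [hu] at h1
  obtain ⟨y, hzy, hc, hzo, hy⟩ := hz
  have h2 : IsPPart p u⁻¹ z⁻¹ := ⟨y⁻¹, by rw [← mul_inv_rev, ← hzy, hc.eq], hc.inv_inv, by rwa [orderOf_inv], by rwa [orderOf_inv]⟩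
  exact ppart_unique h1 h2

theorem weak_zero (hM : IsPModular 2 M) [Fintype (IrrCharacter G)] (P : Sylow 2 G) [Fintype (P : Subgroup G)]
    (l : IrrCharacter (P : Subgroup G)) (hl1 : (l : ↥(P : Subgroup G) → ℂ) 1 = 1) [DecidablePred fun χ => χ ∈ principalBlock M G] :
    ∑ χ ∈ Finset.univ.filter (fun χ => χ ∈ principalBlock M G), (χ : G → ℂ) 1 * (bb P l χ : ℂ) = 0 := by
  classical
  haveI := hM.2.1
  have h1 : ∀ χ : IrrCharacter G, (χ : G → ℂ) 1 * (bb P l χ : ℂ) = (Nat.card P : ℂ)⁻¹ * ∑ x : (P : Subgroup G),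
      (1 - conj ((l : ↥(P : Subgroup G) → ℂ) x)) * ((χ : G → ℂ) x * (χ : G → ℂ) 1) := by
    intro χ
    rw [bb_eq, mul_left_comm, Finset.mul_sum]
    congr 1
    exact Finset.sum_congr rfl fun x _ => by ring
  rw [Finset.sum_congr rfl (fun χ _ => h1 χ), ← Finset.mul_sum, Finset.sum_comm]
  apply mul_eq_zero_of_right
  refine Finset.sum_eq_zero fun x _ => ?_
  rw [← Finset.mul_sum]
  by_cases hx : x = 1
  · rw [hx, hl1, map_one, sub_self, zero_mul]
  · apply mul_eq_zero_of_right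
    have hx2 : 2 ∣ orderOf (x : G) := by
      obtain ⟨k, hk⟩ := sylow_pord P x.2
      rw [hk]
      apply dvd_pow_self
      rintro rfl
      rw [pow_zero, orderOf_eq_one_iff] at hk
      exact hx (Subtype.ext hk)
    have h2 := weak_orth' hM (principal_isPBlock (M := M) (G := G)) 1 x (by simp) hx2
    rw [Finset.sum_filter]
    refine Eq.trans (Finset.sum_congr rfl fun χ _ => ?_) h2
    by_cases h : χ ∈ principalBlock M G
    · rw [if_pos h, if_pos h]
    · rw [if_neg h, if_neg h]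

/-- recover the values from the multiplicity differences -/
theorem value_eq (P : Sylow 2 G) [Fintype (P : Subgroup G)] [Fintype (IrrCharacter (P : Subgroup G))]
    (hab : ∀ a b : (P : Subgroup G), a * b = b * a) (χ : IrrCharacter G) {x : (P : Subgroup G)} (hx : x ≠ 1) :
    (χ : G → ℂ) x = - ∑ l : IrrCharacter (P : Subgroup G), (bb P l χ : ℂ) * (l : ↥(P : Subgroup G) → ℂ) x := by
  classical
  have hres : IsClassFunction (P : Subgroup G) (fun x : (P : Subgroup G) => (χ : G → ℂ) x) :=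
    IsClass.res (irr_class χ.2) _
  have h1 := expand_apply (fun x : (P : Subgroup G) => (χ : G → ℂ) x) hres x
  have hN : (Nat.card P : ℂ) = (Nat.card (P : Subgroup G) : ℂ) := rfl
  have h2 : ∀ l : IrrCharacter (P : Subgroup G), classInner (fun x : (P : Subgroup G) => (χ : G → ℂ) x) (l : ↥(P : Subgroup G) → ℂ) =
      classInner (fun x : (P : Subgroup G) => (χ : G → ℂ) x) (triv (P : Subgroup G) : ↥(P : Subgroup G) → ℂ) - (bb P l χ : ℂ) := by
    intro l
    rw [bb_eq, classInner, classInner, hN, ← mul_sub, ← Finset.sum_sub_distrib]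
    congr 1
    refine Finset.sum_congr rfl fun x _ => ?_
    rw [triv_coe, map_one]; ring
  have h3 : (χ : G → ℂ) x = ∑ l : IrrCharacter (P : Subgroup G),
      (classInner (fun x : (P : Subgroup G) => (χ : G → ℂ) x) (triv (P : Subgroup G) : ↥(P : Subgroup G) → ℂ) - (bb P l χ : ℂ)) *
        (l : ↥(P : Subgroup G) → ℂ) x := by
    refine h1.trans ?_
    exact Finset.sum_congr rfl fun l _ => by rw [h2]
  rw [h3]
  simp_rw [sub_mul]
  rw [Finset.sum_sub_distrib, ← Finset.mul_sum, col_one hab, if_neg hx, mul_zero, zero_sub]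

theorem nt {A B : ℤ} (hA : 16 ∣ A - 1) (hB : 16 ∣ B - 1) (h : (A * B + A + B) * (1 + A + B) = 9 * (A * B)) :
    A = 1 ∧ B = 1 := by
  obtain ⟨u, hu⟩ := hA
  obtain ⟨v, hv⟩ := hB
  set k := u + v with hk
  have ht : A + B = 2 + 16 * k := by rw [hk]; linarith
  have h1 : (A * B) * (3 - 8 * k) = (1 + 8 * k) * (3 + 16 * k) := by
    have h2 : (A * B + (2 + 16 * k)) * (1 + (2 + 16 * k)) = 9 * (A * B) := by
      rw [← ht]; linarith
    linarith
  have hd : (3 - 8 * k) ∣ 36 := ⟨A * B + (17 - 2 * (3 - 8 * k)), by linear_combination - h1⟩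
  have hle : |3 - 8 * k| ≤ 36 := Int.le_of_dvd (by norm_num) ((abs_dvd _ _).2 hd)
  rw [abs_le] at hle
  have hk1 : -5 < k := by omega
  have hk2 : k < 5 := by omega
  have hk0 : k = 0 := by
    interval_cases k <;> first | rfl | (exfalso; revert hd; decide)
  rw [hk0] at h1 ht
  have hAB : A * B = 1 := by linarith
  have h3 : (A - 1) ^ 2 = 0 := by
    have : B = 2 - A := by linarith
    rw [this] at hAB
    linear_combination - hAB
  have h4 : A - 1 = 0 := pow_eq_zero_iff (two_ne_zero) |>.1 h3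
  constructor
  · linarith
  · linarith

theorem bb_triv (P : Sylow 2 G) [Fintype (P : Subgroup G)] (χ : IrrCharacter G) : bb P (triv (P : Subgroup G)) χ = 0 := by
  have h : (bb P (triv (P : Subgroup G)) χ : ℂ) = 0 := by
    rw [bb_eq]
    apply mul_eq_zero_of_right
    refine Finset.sum_eq_zero fun x _ => ?_
    rw [triv_coe, map_one, sub_self, mul_zero]
  exact_mod_cast h

theorem bb_one (P : Sylow 2 G) [Fintype (P : Subgroup G)] {l : IrrCharacter (P : Subgroup G)} (hl : l ≠ triv _) :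
    bb P l (triv G) = 1 := by
  classical
  have h : (bb P l (triv G) : ℂ) = 1 := by
    rw [bb_eq]
    simp_rw [triv_coe, one_mul]
    rw [Finset.sum_sub_distrib, row_one_conj, if_neg hl, Finset.sum_const, Finset.card_univ,
      ← Nat.card_eq_fintype_card, sub_zero, nsmul_eq_mul, mul_one]
    exact inv_mul_cancel₀ (Nat.cast_ne_zero.2 Nat.card_pos.ne')
  exact_mod_cast h

theorem bb_sg (P : Sylow 2 G) [Fintype (P : Subgroup G)] {σ : (P : Subgroup G) ≃* (P : Subgroup G)}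
    (hconj : ∀ x y : (P : Subgroup G), IsConj (x : G) (y : G) ↔ (y = x ∨ y = σ x ∨ y = σ (σ x)))
    (l : IrrCharacter (P : Subgroup G)) (χ : IrrCharacter G) : bb P (sg σ l) χ = bb P l χ := by
  have h : (bb P (sg σ l) χ : ℂ) = (bb P l χ : ℂ) := by
    rw [bb_eq, bb_eq]
    congr 1
    rw [← Equiv.sum_comp σ.toEquiv (fun x : (P : Subgroup G) => (χ : G → ℂ) x * (1 - conj ((l : ↥(P : Subgroup G) → ℂ) x)))]
    refine Finset.sum_congr rfl fun x _ => ?_
    rw [sg_apply]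
    congr 1
    exact IsClass.eq_of_isConj (irr_class χ.2) ((hconj x (σ x)).2 (Or.inr (Or.inl rfl)))
  exact_mod_cast h

theorem ph_conj {P : Type*} [Group P] [Fintype P] (σ : P ≃* P) (l : IrrCharacter P) {s : P} (hs : s * s = 1) :
    conj (ph σ l s) = ph σ l s := by
  have h1 : s⁻¹ = s := inv_eq_of_mul_eq_one_right hs
  unfold ph
  rw [map_add, map_add, lin_conj, lin_conj, lin_conj, ← map_inv, ← map_inv, ← map_inv, h1]

theorem homo_linear (hM : IsPModular 2 M) (P : Sylow 2 G)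
    (hR : R2 (P : Subgroup G)) {σ : (P : Subgroup G) ≃* (P : Subgroup G)} (hσ : Tri σ)
    (hconj : ∀ x y : (P : Subgroup G), IsConj (x : G) (y : G) ↔ (y = x ∨ y = σ x ∨ y = σ (σ x)))
    (h16 : 16 ∣ Nat.card P) {x s : (P : Subgroup G)} (hx : x * x ≠ 1) (hs : s * s = 1) (hs1 : s ≠ 1)
    (hinv : ∀ g : G, g * x * g⁻¹ ≠ (x : G)⁻¹) :
    ∃ ζ ∈ principalBlock M G, ζ ≠ triv G ∧ (ζ : G → ℂ) 1 = 1 ∧ ∀ y : (P : Subgroup G), (ζ : G → ℂ) y = 1 := by
  classical
  haveI := hM.2.1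
  haveI : Fintype (IrrCharacter G) := Fintype.ofFinite _
  haveI : Fintype (P : Subgroup G) := Fintype.ofFinite _
  haveI : Fintype (IrrCharacter (P : Subgroup G)) := Fintype.ofFinite _
  have hab : ∀ a b : (P : Subgroup G), a * b = b * a := fun a b => Subtype.ext (hR.hab a a.2 b b.2)
  have hPpos : 0 < Nat.card P := Nat.card_pos
  have hcard : 13 < Nat.card (P : Subgroup G) := by
    have := Nat.le_of_dvd hPpos h16
    have h' : Nat.card (P : Subgroup G) = Nat.card P := rfl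
    omega
  have hx1 : x ≠ 1 := by rintro rfl; exact hx (mul_one 1)
  set S : Finset (IrrCharacter G) := Finset.univ.filter (fun ζ => ζ ∈ principalBlock M G) with hS
  have hmemS : ∀ ζ, ζ ∈ S ↔ ζ ∈ principalBlock M G := fun ζ => by simp [hS]
  have htS : triv G ∈ S := (hmemS _).2 triv_mem
  haveI : Nonempty {l : IrrCharacter (P : Subgroup G) // l ≠ triv _} := by
    obtain ⟨l, hl, -⟩ := Tri.five (σ := σ) hab hcard (triv _) (triv _) (triv _) (triv _)
    exact ⟨⟨l, hl⟩⟩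
  have hgram := fun l m : {l : IrrCharacter (P : Subgroup G) // l ≠ triv _} => gram hM P hR hσ hconj l.1 m.1 l.2 m.2
  have hE : ∀ l m : IrrCharacter (P : Subgroup G), E σ l m → ∀ χ, bb P l χ = bb P m χ := by
    rintro l m (rfl | rfl | rfl) χ
    · rfl
    · exact bb_sg P hconj m χ
    · rw [bb_sg P hconj, bb_sg P hconj]
  obtain ⟨w, r, c, hr, hw3, hwo, hrr⟩ := sunflower S (triv G) htS
    (fun (l : {l : IrrCharacter (P : Subgroup G) // l ≠ triv _}) χ => bb P l.1 χ) (fun l m => E σ l.1 m.1)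
    (fun l => E_refl σ l.1) (fun h => hσ.E_symm h) (by
      intro l
      have h := hgram l l
      rw [if_pos rfl, if_neg (fun h' => l.2 (hσ.triv_of_sg hab h')), if_neg (fun h' => l.2 (hσ.triv_of_sg2 hab h'))] at h
      have h2 : ((∑ χ ∈ S, bb P l.1 χ ^ 2 : ℤ) : ℂ) = ((4 : ℤ) : ℂ) := by
        simp_rw [sq]
        rw [h]; norm_num
      exact_mod_cast h2) (by
      intro l m hlm
      have h := hgram l m
      have n1 : ¬ m.1 = l.1 := fun h' => hlm (Or.inl h'.symm)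
      have n2 : ¬ sg σ m.1 = l.1 := fun h' => hlm (Or.inr (Or.inl h'.symm))
      have n3 : ¬ sg σ (sg σ m.1) = l.1 := fun h' => hlm (Or.inr (Or.inr h'.symm))
      rw [if_neg n1, if_neg n2, if_neg n3] at h
      have h2 : ((∑ χ ∈ S, bb P l.1 χ * bb P m.1 χ : ℤ) : ℂ) = ((3 : ℤ) : ℂ) := by
        rw [h]; norm_num
      exact_mod_cast h2) (fun l m h χ _ => hE _ _ h χ) (fun l => bb_one P l.2) (by
      intro l1 l2 l3 l4
      obtain ⟨l, hl, h1, h2, h3, h4⟩ := Tri.five (σ := σ) hab hcard l1.1 l2.1 l3.1 l4.1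
      exact ⟨⟨l, hl⟩, h1, h2, h3, h4⟩)
  have hrS : ∀ l, r l ∈ S := fun l => (hr l).1
  have hc : ∀ l, c l = 1 ∨ c l = -1 := fun l => (hr l).2.1
  have hwr : ∀ l, w (r l) = 0 := fun l => (hr l).2.2.1
  have ha : ∀ l, ∀ χ ∈ S, bb P l.1 χ = w χ + if χ = r l then c l else 0 := fun l => (hr l).2.2.2
  -- r l = r m iff E
  have hrE : ∀ l m, E σ l.1 m.1 → r l = r m ∧ c l = c m := by
    intro l m h
    have h1 := ha l (r l) (hrS l)
    have h2 := ha m (r l) (hrS l)
    rw [hE _ _ h, h2, if_pos rfl] at h1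
    by_cases h3 : r l = r m
    · rw [if_pos h3] at h1
      exact ⟨h3, by linarith⟩
    · rw [if_neg h3] at h1
      rcases hc l with h4 | h4 <;> rw [h4] at h1 <;> omega
  have hcol : ∀ y : (P : Subgroup G), y ≠ 1 → ∑ l : IrrCharacter (P : Subgroup G), (l : ↥(P : Subgroup G) → ℂ) y = 0 := by
    intro y hy; rw [col_one hab, if_neg hy]
  have hval0 : ∀ χ ∈ S, w χ ≠ 0 → ∀ y : (P : Subgroup G), y ≠ 1 → (χ : G → ℂ) y = w χ := by
    intro χ hχ hw y hy
    rw [value_eq P hab χ hy]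
    have h1 : ∀ l : IrrCharacter (P : Subgroup G), (bb P l χ : ℂ) * (l : ↥(P : Subgroup G) → ℂ) y =
        (w χ : ℂ) * (l : ↥(P : Subgroup G) → ℂ) y - if l = triv _ then (w χ : ℂ) else 0 := by
      intro l
      by_cases hl : l = triv _
      · rw [if_pos hl, hl, bb_triv, triv_coe]; simp
      · rw [if_neg hl, sub_zero, ha ⟨l, hl⟩ χ hχ, if_neg, add_zero]
        intro h; rw [h] at hw; exact hw (hwr _)
    rw [Finset.sum_congr rfl (fun l _ => h1 l), Finset.sum_sub_distrib, ← Finset.mul_sum, hcol y hy,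
      Finset.sum_ite_eq' Finset.univ (triv _), if_pos (Finset.mem_univ _)]
    ring
  have hvalr : ∀ l, ∀ y : (P : Subgroup G), y ≠ 1 → (r l : G → ℂ) y = - c l * ph σ l.1 y := by
    intro l y hy
    rw [value_eq P hab (r l) hy, ← hσ.sum_E' hab l.2 y, neg_mul, Finset.mul_sum]
    congr 1
    refine Finset.sum_congr rfl fun m _ => ?_
    by_cases hm : m = triv _
    · rw [hm, bb_triv, if_neg, Int.cast_zero, zero_mul, mul_zero]
      intro h
      rcases hσ.E_symm h with h' | h' | h'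
      · exact l.2 h'
      · rw [sg_triv] at h'; exact l.2 h'
      · rw [sg_triv, sg_triv] at h'; exact l.2 h'
    · rw [ha ⟨m, hm⟩ (r l) (hrS l), hwr, zero_add]
      by_cases h : E σ m l.1
      · obtain ⟨e1, e2⟩ := hrE ⟨m, hm⟩ l h
        rw [if_pos h, if_pos e1.symm, e2]
      · rw [if_neg h, if_neg (fun h' => h (hσ.E_symm (hrr l ⟨m, hm⟩ h'))), Int.cast_zero, zero_mul, mul_zero]
  have hvalo : ∀ χ ∈ S, w χ = 0 → (∀ l, χ ≠ r l) → ∀ y : (P : Subgroup G), y ≠ 1 → (χ : G → ℂ) y = 0 := by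
    intro χ hχ hw hne y hy
    rw [value_eq P hab χ hy, neg_eq_zero]
    refine Finset.sum_eq_zero fun m _ => ?_
    by_cases hm : m = triv _
    · rw [hm, bb_triv, Int.cast_zero, zero_mul]
    · rw [ha ⟨m, hm⟩ χ hχ, hw, if_neg (hne _), add_zero, Int.cast_zero, zero_mul]
  have hcsq : ∀ l, (c l : ℂ) * (c l : ℂ) = 1 := fun l => by rcases hc l with h | h <;> rw [h] <;> norm_num
  set s' : ℤ := ∑ χ ∈ S, (charDegree (χ : G → ℂ) : ℤ) * w χ with hs'
  have hdeg : ∀ χ : IrrCharacter G, ((charDegree (χ : G → ℂ) : ℤ) : ℂ) = (χ : G → ℂ) 1 := fun χ => by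
    rw [Int.cast_natCast, charDegree_eq χ.2]
  have hr1 : ∀ l, (r l : G → ℂ) 1 = - c l * s' := by
    intro l
    have h1 := weak_zero hM P l.1 (lin_one hab l.1)
    rw [← hS] at h1
    have h2 : ∑ χ ∈ S, (χ : G → ℂ) 1 * (bb P l.1 χ : ℂ) = (s' : ℂ) + (r l : G → ℂ) 1 * c l := by
      rw [hs']
      push_cast
      rw [← Finset.sum_ite_eq' S (r l) (fun χ => (χ : G → ℂ) 1 * (c l : ℂ)) |>.trans (if_pos (hrS l)),
        ← Finset.sum_add_distrib]
      refine Finset.sum_congr rfl fun χ hχ => ?_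
      rw [ha l χ hχ]
      have := hdeg χ
      push_cast at this
      rw [this]
      split_ifs with h
      · push_cast; ring
      · push_cast; ring
    rw [h2] at h1
    linear_combination (c l : ℂ) * h1 - (r l : G → ℂ) 1 * hcsq l
  have hcong : ∀ χ ∈ S, w χ ≠ 0 → (16 : ℤ) ∣ (charDegree (χ : G → ℂ) : ℤ) - w χ := by
    intro χ hχ hw
    obtain ⟨m, hm⟩ := sum_char_subgroup (isChar_of_irr χ.2) (P : Subgroup G)
    have h6 : ∑ u : (P : Subgroup G), (χ : G → ℂ) u = (charDegree (χ : G → ℂ) : ℂ) + ((Nat.card P : ℂ) - 1) * w χ := by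
      rw [← Finset.add_sum_erase Finset.univ (fun u : (P : Subgroup G) => (χ : G → ℂ) u) (Finset.mem_univ 1)]
      rw [Subgroup.coe_one, charDegree_eq χ.2]
      congr 1
      rw [Finset.sum_congr rfl (fun u hu => hval0 χ hχ hw u (Finset.mem_erase.1 hu).1), Finset.sum_const,
        Finset.card_erase_of_mem (Finset.mem_univ _), Finset.card_univ, ← Nat.card_eq_fintype_card, nsmul_eq_mul,
        Nat.cast_sub (Nat.one_le_iff_ne_zero.2 Nat.card_pos.ne'), Nat.cast_one]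
    rw [h6] at hm
    have h8 : (charDegree (χ : G → ℂ) : ℤ) + ((Nat.card P : ℤ) - 1) * w χ = (Nat.card P : ℤ) * m := by
      exact_mod_cast hm
    obtain ⟨q, hq⟩ := h16
    refine ⟨q * m - q * w χ, ?_⟩
    have hq' : (Nat.card P : ℤ) = 16 * q := by exact_mod_cast hq
    rw [hq'] at h8
    linarith
  -- the two other coordinates
  have hw2 : ∑ χ ∈ S.erase (triv G), w χ ^ 2 = 2 := by
    have h1 := Finset.add_sum_erase S (fun χ => w χ ^ 2) htS
    rw [hw3, hwo] at h1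
    linarith
  obtain ⟨ζ₁, hζ₁, ζ₂, hζ₂, h12, hw1, hw2', hw0⟩ := two_coord _ _ hw2
  have hζ₁t := (Finset.mem_erase.1 hζ₁).1
  have hζ₁S := (Finset.mem_erase.1 hζ₁).2
  have hζ₂t := (Finset.mem_erase.1 hζ₂).1
  have hζ₂S := (Finset.mem_erase.1 hζ₂).2
  have hw1n : w ζ₁ ≠ 0 := by rcases hw1 with h | h <;> rw [h] <;> norm_num
  have hw2n : w ζ₂ ≠ 0 := by rcases hw2' with h | h <;> rw [h] <;> norm_num
  have htriv1 : (charDegree ((triv G : IrrCharacter G) : G → ℂ) : ℤ) = 1 := by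
    have := hdeg (triv G)
    rw [triv_coe] at this
    exact_mod_cast this
  have hsplit : ∀ F : IrrCharacter G → ℂ, ∑ χ ∈ S, F χ = F (triv G) + F ζ₁ + F ζ₂ +
      ∑ χ ∈ S.filter (fun χ => w χ = 0), F χ := by
    intro F
    rw [← Finset.sum_filter_not_add_sum_filter S (fun χ => w χ = 0)]
    congr 1
    have e : S.filter (fun χ => ¬ w χ = 0) = {triv G, ζ₁, ζ₂} := by
      ext χ
      simp only [Finset.mem_filter, Finset.mem_insert, Finset.mem_singleton]
      constructor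
      · rintro ⟨h1, h2⟩
        by_contra hno
        push Not at hno
        exact h2 (hw0 χ (Finset.mem_erase.2 ⟨hno.1, h1⟩) hno.2.1 hno.2.2)
      · rintro (rfl | rfl | rfl)
        · exact ⟨htS, by rw [hwo]; norm_num⟩
        · exact ⟨hζ₁S, hw1n⟩
        · exact ⟨hζ₂S, hw2n⟩
    rw [e, Finset.sum_insert, Finset.sum_insert, Finset.sum_singleton, add_assoc]
    · rw [Finset.mem_singleton]; exact h12
    · rw [Finset.mem_insert, Finset.mem_singleton]; push Not; exact ⟨hζ₁t.symm, hζ₂t.symm⟩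
  have hs'eq : s' = 1 + (charDegree (ζ₁ : G → ℂ) : ℤ) * w ζ₁ + (charDegree (ζ₂ : G → ℂ) : ℤ) * w ζ₂ := by
    have h1 := hsplit (fun χ => (((charDegree (χ : G → ℂ) : ℤ) * w χ : ℤ) : ℂ))
    rw [Finset.sum_eq_zero (s := S.filter (fun χ => w χ = 0)) (fun χ hχ => by
      rw [(Finset.mem_filter.1 hχ).2, mul_zero, Int.cast_zero]), hwo, htriv1, add_zero] at h1
    have h2 : ((s' : ℤ) : ℂ) = ((1 * 1 + (charDegree (ζ₁ : G → ℂ) : ℤ) * w ζ₁ + (charDegree (ζ₂ : G → ℂ) : ℤ) * w ζ₂ : ℤ) : ℂ) := by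
      rw [hs', Int.cast_sum, h1]; push_cast; ring
    have h3 : s' = (1 * 1 + (charDegree (ζ₁ : G → ℂ) : ℤ) * w ζ₁ + (charDegree (ζ₂ : G → ℂ) : ℤ) * w ζ₂ : ℤ) := by
      exact_mod_cast h2
    rw [h3]; ring
  -- s' is nonzero
  have hs'0 : (s' : ℂ) ≠ 0 := by
    intro h
    obtain ⟨l⟩ := ‹Nonempty {l : IrrCharacter (P : Subgroup G) // l ≠ triv _}›
    have h1 := hr1 l
    rw [h, mul_zero] at h1
    exact IsIrr.one_ne_zero (r l).2 h1
  -- structure constants
  have hstruct := struct_vanish hM (s := (s : G)) (x := (x : G)) (sylow_pord P x.2) (by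
    intro a b u z hu hxz hab'
    have hss : (s : G) * s = 1 := congrArg Subtype.val hs
    have e1 : a⁻¹ * (s : G) * a * u * (a⁻¹ * (s : G) * a)⁻¹ = u⁻¹ := by
      have hsi : (s : G)⁻¹ = s := inv_eq_of_mul_eq_one_right hss
      rw [← hab']
      calc a⁻¹ * (s : G) * a * (a⁻¹ * s * a * (b⁻¹ * s * b)) * (a⁻¹ * (s : G) * a)⁻¹
          = a⁻¹ * ((s : G) * s) * a * (b⁻¹ * s * b) * (a⁻¹ * (s : G)⁻¹ * a) := by group
        _ = (b⁻¹ * s * b) * (a⁻¹ * s * a) := by rw [hss, hsi]; group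
        _ = (b⁻¹ * (s : G)⁻¹ * b) * (a⁻¹ * (s : G)⁻¹ * a) := by rw [hsi]
        _ = _ := by group
    have e2 := ppart_inverted e1 hu
    obtain ⟨g, hg⟩ := isConj_iff.1 hxz
    apply hinv (g⁻¹ * (a⁻¹ * (s : G) * a) * g)
    rw [← hg] at e2
    calc g⁻¹ * (a⁻¹ * (s : G) * a) * g * x * (g⁻¹ * (a⁻¹ * (s : G) * a) * g)⁻¹
        = g⁻¹ * ((a⁻¹ * (s : G) * a) * (g * x * g⁻¹) * (a⁻¹ * (s : G) * a)⁻¹) * g := by group
      _ = g⁻¹ * (g * x * g⁻¹)⁻¹ * g := by rw [e2]
      _ = (x : G)⁻¹ := by group) (principal_isPBlock (M := M) (G := G))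
  rw [← Finset.sum_filter, ← hS, hsplit] at hstruct
  have hT0 : ∀ χ ∈ S, w χ = 1 ∨ w χ = -1 → (χ : G → ℂ) x * conj ((χ : G → ℂ) s * (χ : G → ℂ) s / (χ : G → ℂ) 1) =
      ((w χ * charDegree (χ : G → ℂ) : ℤ) : ℂ)⁻¹ := by
    intro χ hχ hw
    have hw0 : w χ ≠ 0 := by rcases hw with h | h <;> rw [h] <;> norm_num
    rw [hval0 χ hχ hw0 x hx1, hval0 χ hχ hw0 s hs1, ← hdeg]
    have hd : ((charDegree (χ : G → ℂ) : ℤ) : ℂ) ≠ 0 := by rw [hdeg]; exact IsIrr.one_ne_zero χ.2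
    rw [map_div₀, map_mul, map_intCast, map_intCast]
    rcases hw with h | h <;> rw [h] <;> push_cast <;> field_simp
  have hTtriv : ((triv G : IrrCharacter G) : G → ℂ) x * conj (((triv G : IrrCharacter G) : G → ℂ) s *
      ((triv G : IrrCharacter G) : G → ℂ) s / ((triv G : IrrCharacter G) : G → ℂ) 1) = 1 := by
    rw [triv_coe, triv_coe, triv_coe]; simp
  have hTr : ∀ l, (r l : G → ℂ) x * conj ((r l : G → ℂ) s * (r l : G → ℂ) s / (r l : G → ℂ) 1) =
      (s' : ℂ)⁻¹ * (ph σ l.1 s ^ 2 * ph σ l.1 x) := by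
    intro l
    rw [hvalr l x hx1, hvalr l s hs1, hr1]
    have hcn : (c l : ℂ) ≠ 0 := by rcases hc l with h | h <;> rw [h] <;> norm_num
    simp only [map_div₀, map_mul, map_neg, map_intCast, ph_conj σ l.1 hs]
    have h3 : (c l : ℂ)⁻¹ = c l := by rw [inv_eq_iff_eq_inv, eq_comm]; exact inv_eq_of_mul_eq_one_right (hcsq l)
    rw [neg_mul (c l : ℂ) (s' : ℂ), neg_mul, neg_mul, neg_mul, div_neg, mul_neg, mul_neg, neg_neg, div_eq_mul_inv, mul_inv, h3]
    have h4 := hcsq l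
    linear_combination (ph σ l.1 x * ph σ l.1 s ^ 2 * (s' : ℂ)⁻¹ * ((c l : ℂ) * c l + 1)) * h4
  have hfib : (3 : ℂ) * ∑ χ ∈ S.filter (fun χ => w χ = 0), (χ : G → ℂ) x * conj ((χ : G → ℂ) s * (χ : G → ℂ) s / (χ : G → ℂ) 1) =
      ∑ l : {l : IrrCharacter (P : Subgroup G) // l ≠ triv _}, (s' : ℂ)⁻¹ * (ph σ l.1 s ^ 2 * ph σ l.1 x) := by
    rw [Finset.sum_congr rfl (fun l _ => (hTr l).symm)]
    rw [← Finset.sum_fiberwise_of_maps_to (s := Finset.univ) (t := S.filter (fun χ => w χ = 0)) (g := r)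
      (fun l _ => Finset.mem_filter.2 ⟨hrS l, hwr l⟩), Finset.mul_sum]
    refine Finset.sum_congr rfl fun χ hχ => ?_
    obtain ⟨hχS, hχw⟩ := Finset.mem_filter.1 hχ
    by_cases hex : ∃ l, χ = r l
    · obtain ⟨l, rfl⟩ := hex
      rw [Finset.sum_congr rfl (g := fun _ => (r l : G → ℂ) x * conj ((r l : G → ℂ) s * (r l : G → ℂ) s / (r l : G → ℂ) 1))
        (fun m hm => by rw [(Finset.mem_filter.1 hm).2]), Finset.sum_const, nsmul_eq_mul]
      congr 1
      have h1 := hσ.card_E hab l.2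
      rw [← h1, ← Finset.sum_filter, Finset.sum_const, nsmul_eq_mul, mul_one]
      congr 1
      symm
      apply Finset.card_bij (fun m _ => m.1)
      · intro m hm
        exact Finset.mem_filter.2 ⟨Finset.mem_univ _, hrr _ _ (Finset.mem_filter.1 hm).2⟩
      · intro m _ m' _ h; exact Subtype.ext h
      · intro m hm
        have hE' := (Finset.mem_filter.1 hm).2
        have hm1 : m ≠ triv _ := by
          rintro rfl
          rcases hσ.E_symm hE' with h' | h' | h'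
          · exact l.2 h'
          · rw [sg_triv] at h'; exact l.2 h'
          · rw [sg_triv, sg_triv] at h'; exact l.2 h'
        exact ⟨⟨m, hm1⟩, Finset.mem_filter.2 ⟨Finset.mem_univ _, (hrE ⟨m, hm1⟩ l hE').1⟩, rfl⟩
    · push Not at hex
      rw [hvalo χ hχS hχw hex x hx1, zero_mul, mul_zero, Finset.sum_eq_zero]
      intro l hl
      exact absurd (Finset.mem_filter.1 hl).2.symm (hex l)
  have hph : ∑ l : {l : IrrCharacter (P : Subgroup G) // l ≠ triv _}, (s' : ℂ)⁻¹ * (ph σ l.1 s ^ 2 * ph σ l.1 x) =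
      - 27 * (s' : ℂ)⁻¹ := by
    rw [← Finset.mul_sum]
    have h1 := hσ.sum_sq_ph hab hs hx
    rw [← Finset.add_sum_erase Finset.univ _ (Finset.mem_univ (triv _)), ph_triv, ph_triv] at h1
    have h2 : ∑ l : {l : IrrCharacter (P : Subgroup G) // l ≠ triv _}, (ph σ l.1 s ^ 2 * ph σ l.1 x) =
        ∑ l ∈ Finset.univ.erase (triv _), (ph σ l s ^ 2 * ph σ l x) := by
      rw [Finset.sum_subtype (Finset.univ.erase (triv (P : Subgroup G))) (p := fun l => l ≠ triv _)
        (fun l => by simp)]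
    rw [h2]
    linear_combination (s' : ℂ)⁻¹ * h1
  rw [hph] at hfib
  rw [hTtriv, hT0 ζ₁ hζ₁S hw1, hT0 ζ₂ hζ₂S hw2'] at hstruct
  set A : ℤ := w ζ₁ * charDegree (ζ₁ : G → ℂ) with hA
  set B : ℤ := w ζ₂ * charDegree (ζ₂ : G → ℂ) with hB
  have hA0 : (A : ℂ) ≠ 0 := by
    rw [hA]
    push_cast
    refine mul_ne_zero (by exact_mod_cast hw1n) ?_
    have := hdeg ζ₁
    push_cast at this
    rw [this]; exact IsIrr.one_ne_zero ζ₁.2
  have hB0 : (B : ℂ) ≠ 0 := by
    rw [hB]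
    push_cast
    refine mul_ne_zero (by exact_mod_cast hw2n) ?_
    have := hdeg ζ₂
    push_cast at this
    rw [this]; exact IsIrr.one_ne_zero ζ₂.2
  have hs'AB : s' = 1 + A + B := by rw [hs'eq, hA, hB]; ring
  have heq1 : (A * B + A + B) * (1 + A + B) = 9 * (A * B) := by
    have h1 : (1 + (A : ℂ)⁻¹ + (B : ℂ)⁻¹) - 9 * (s' : ℂ)⁻¹ = 0 := by
      linear_combination hstruct - (1 / 3) * hfib
    have h2 : ((A : ℂ) * B + A + B) * s' = 9 * (A * B) := by
      field_simp at h1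
      linear_combination h1
    rw [← hs'AB]
    exact_mod_cast h2
  have hwsq1 : w ζ₁ * w ζ₁ = 1 := by rcases hw1 with h | h <;> rw [h] <;> norm_num
  have hwsq2 : w ζ₂ * w ζ₂ = 1 := by rcases hw2' with h | h <;> rw [h] <;> norm_num
  have hA16 : (16 : ℤ) ∣ A - 1 := by
    obtain ⟨q, hq⟩ := hcong ζ₁ hζ₁S hw1n
    exact ⟨w ζ₁ * q, by rw [hA]; linear_combination (w ζ₁) * hq + hwsq1⟩
  have hB16 : (16 : ℤ) ∣ B - 1 := by
    obtain ⟨q, hq⟩ := hcong ζ₂ hζ₂S hw2n
    exact ⟨w ζ₂ * q, by rw [hB]; linear_combination (w ζ₂) * hq + hwsq2⟩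
  obtain ⟨hA1, hB1⟩ := nt hA16 hB16 heq1
  have hw11 : w ζ₁ = 1 := by
    rcases hw1 with h | h
    · exact h
    · exfalso
      rw [hA, h] at hA1
      have : (0 : ℤ) ≤ charDegree (ζ₁ : G → ℂ) := Int.natCast_nonneg _
      omega
  have hd1 : (charDegree (ζ₁ : G → ℂ) : ℤ) = 1 := by
    rw [hA, hw11, one_mul] at hA1; exact hA1
  have hζ1 : (ζ₁ : G → ℂ) 1 = 1 := by rw [← hdeg, hd1, Int.cast_one]
  refine ⟨ζ₁, (hmemS _).1 hζ₁S, hζ₁t, hζ1, fun y => ?_⟩
  by_cases hy : y = 1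
  · rw [hy]; exact hζ1
  · rw [hval0 ζ₁ hζ₁S hw1n y hy, hw11, Int.cast_one]

end Cfsg.Agent.H10.BlockHomo
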