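import Mathlib
import Cfsg.Prelude.Def_Blocks
import Cfsg.Agent.H10_BlockHomo
import Cfsg.Agent.H10_BlockKn

/-!
H10_BlockHomo2: Sylow 2-subgroups of type Z(2^m) x Z(2^m), m at least two.
-/

set_option autoImplicit false
set_option linter.style.haveILetI false
set_option linter.unusedSectionVars false

namespace Cfsg.Agent.H10.BlockHomo2

open Cfsg Cfsg.Agent.H3.CharIrr Cfsg.Agent.H3.CharComplete Cfsg.Agent.H3.CharInd
  Cfsg.Agent.H3.CharBasic Cfsg.Agent.H10.BlockLoc
  Cfsg.Agent.H10.BlockTrace Cfsg.Agent.H10.Char Cfsg.Agent.H10.BlockAlg Cfsg.Agent.H10.BlockIdem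
  Cfsg.Agent.H10.BlockMain Cfsg.Agent.H10.PPart Cfsg.Agent.H10.BlockSMT
  Cfsg.Agent.H10.BlockKer Cfsg.Agent.H10.Homo Cfsg.Agent.H10.BlockV4
  Cfsg.Agent.H10.HomoSig Cfsg.Agent.H10.AbChar Cfsg.Agent.H10.BlockHomo
open scoped ComplexConjugate

variable {G : Type*} [Group G]

/-- Burnside transfer together with the odd order elements -/
theorem burnside_odd [Finite G] (P : Sylow 2 G)
    (hN : Subgroup.normalizer ((P : Subgroup G) : Set G) ≤ Subgroup.centralizer ((P : Subgroup G) : Set G)) :
    ∃ L : Subgroup G, L.Normal ∧ ¬ 2 ∣ Nat.card L ∧ Subgroup.IsComplement' L (P : Subgroup G) ∧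
      ∀ g : G, g ∈ L ↔ ¬ 2 ∣ orderOf g := by
  haveI := Fintype.ofFinite G
  refine ⟨(MonoidHom.transferSylow P hN).ker, inferInstance, MonoidHom.not_dvd_card_ker_transferSylow P hN,
    MonoidHom.ker_transferSylow_isComplement' P hN, fun g => ⟨fun hg => ?_, fun hg => ?_⟩⟩
  · exact coprime_regular (MonoidHom.not_dvd_card_ker_transferSylow P hN) hg
  · apply regular_mem Nat.prime_two _ hg
    rw [(MonoidHom.ker_transferSylow_isComplement' P hN).symm.index_eq_card]
    exact ⟨_, P.card_eq_multiplicity⟩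

theorem final [Finite G] (P : Sylow 2 G) (m : ℕ) (hm : 2 ≤ m)
    (e : (P : Subgroup G) ≃* Multiplicative (ZMod (2 ^ m) × ZMod (2 ^ m)))
    (hO : ∀ N : Subgroup G, N.Normal → Odd (Nat.card N) → N = ⊥) :
    (P : Subgroup G).Normal ∧ Subgroup.centralizer ((P : Subgroup G) : Set G) = (P : Subgroup G) ∧
      ((P : Subgroup G).index = 1 ∨ (P : Subgroup G).index = 3) := by
  classical
  haveI := Fintype.ofFinite G
  have hR : R2 (P : Subgroup G) := R2.of_equiv (by omega) e
  have hodd : ∀ N : Subgroup G, N.Normal → ¬ 2 ∣ Nat.card N → N = ⊥ := fun N hN h =>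
    hO N hN (Nat.not_even_iff_odd.1 (fun h' => h (even_iff_two_dvd.1 h')))
  rcases relIndex_eq P hR with h1 | h3
  · have hN : Subgroup.normalizer ((P : Subgroup G) : Set G) ≤ Subgroup.centralizer ((P : Subgroup G) : Set G) :=
      Subgroup.relIndex_eq_one.1 h1
    obtain ⟨L, hL, hL2, hLc, -⟩ := burnside_odd P hN
    have hLb := hodd L hL hL2
    rw [hLb] at hLc
    have hP : (P : Subgroup G) = ⊤ := Subgroup.isComplement'_bot_left.1 hLc
    refine ⟨by rw [hP]; infer_instance, ?_, Or.inl (by rw [hP]; exact Subgroup.index_top)⟩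
    apply le_antisymm
    · rw [hP]; exact le_top
    · exact hR.le_centralizer
  · obtain ⟨σ, hσ, hconj⟩ := exists_tri P hR h3
    have hab : ∀ a b : (P : Subgroup G), a * b = b * a := fun a b => Subtype.ext (hR.hab a a.2 b b.2)
    -- elements
    obtain ⟨s₀, hs₀, -, -, hs₀2, -⟩ := hR.inv
    set s : (P : Subgroup G) := ⟨s₀, hs₀⟩ with hs
    have hss : s * s = 1 := by
      apply Subtype.ext
      show s₀ * s₀ = 1
      rw [← sq, ← hs₀2, pow_orderOf_eq_one]
    have hs1 : s ≠ 1 := by
      intro h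
      have : s₀ = 1 := congrArg Subtype.val h
      rw [this, orderOf_one] at hs₀2
      exact absurd hs₀2 (by norm_num)
    set x : (P : Subgroup G) := e.symm (Multiplicative.ofAdd (1, 0)) with hx
    have hxx : x * x ≠ 1 := by
      rw [hx, ← map_mul, ← ofAdd_add, Ne, MulEquiv.map_eq_one_iff]
      intro h
      have h2 : ((1, 0) + (1, 0) : ZMod (2 ^ m) × ZMod (2 ^ m)) = 0 := h
      have h3 : ((2 : ℕ) : ZMod (2 ^ m)) = 0 := by
        have := congrArg Prod.fst h2
        simp only [Prod.fst_add, Prod.fst_zero] at this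
        rw [← this]; norm_num
      rw [ZMod.natCast_eq_zero_iff] at h3
      have h4 := Nat.le_of_dvd (by norm_num) h3
      have h5 : 2 ^ 2 ≤ 2 ^ m := Nat.pow_le_pow_right (by norm_num) hm
      omega
    have h16 : 16 ∣ Nat.card P := by
      have hcard : Nat.card (P : Subgroup G) = 2 ^ (m + m) := by
        rw [Nat.card_congr e.toEquiv]
        show Nat.card (ZMod (2 ^ m) × ZMod (2 ^ m)) = _
        rw [Nat.card_prod, Nat.card_zmod, pow_add]
      have : Nat.card P = Nat.card (P : Subgroup G) := rfl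
      rw [this, hcard]
      exact pow_dvd_pow 2 (by omega : 4 ≤ m + m)
    have hx1 : x ≠ 1 := by intro h; rw [h] at hxx; exact hxx (mul_one 1)
    have hinv : ∀ g : G, g * x * g⁻¹ ≠ (x : G)⁻¹ := by
      intro g hg
      have h1 : IsConj (x : G) ((x⁻¹ : (P : Subgroup G)) : G) := isConj_iff.2 ⟨g, by rw [hg]; rfl⟩
      have key : ∀ z : (P : Subgroup G), σ z = z⁻¹ → z = 1 := by
        intro z hz
        apply hσ.fix2 z
        rw [hz, map_inv, hz, inv_inv]
      rcases (hconj x x⁻¹).1 h1 with h2 | h2 | h2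
      · apply hxx
        conv_lhs => rw [← h2]
        conv_lhs => enter [2]; rw [h2]
        exact inv_mul_cancel x
      · exact hx1 (key x h2.symm)
      · apply hx1
        apply key
        have h4 := hσ.three x
        rw [← h2] at h4
        rw [map_inv] at h4
        rw [← inv_inv (σ x), h4]
    obtain ⟨M, hM⟩ := Cfsg.Agent.H10.BlockKn.exists_modular Nat.prime_two
    haveI := hM.2.1
    obtain ⟨ζ, hζB, hζt, hζ1, hζP⟩ := homo_linear hM P hR hσ hconj h16 hxx hss hs1 hinv
    obtain ⟨f, hf⟩ := IsChar.hom_units_of_one (isChar_of_irr ζ.2) hζ1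
    set K : Subgroup G := f.ker with hK
    have hmemK : ∀ g : G, g ∈ K ↔ (ζ : G → ℂ) g = 1 := by
      intro g
      rw [hK, MonoidHom.mem_ker, hf, Units.val_eq_one]
    have hζmul : ∀ a b : G, (ζ : G → ℂ) (a * b) = (ζ : G → ℂ) a * (ζ : G → ℂ) b := by
      intro a b
      rw [hf, hf, hf, map_mul, Units.val_mul]
    have hPK : (P : Subgroup G) ≤ K := fun y hy => (hmemK y).2 (hζP ⟨y, hy⟩)
    have hKtop : K ≠ ⊤ := by
      intro h
      apply hζt
      apply Subtype.ext
      funext g
      rw [triv_coe]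
      exact (hmemK g).1 (by rw [h]; trivial)
    have hCK : Subgroup.centralizer ((P : Subgroup G) : Set G) ≤ K := by
      intro c hc
      obtain ⟨x', y, hxy, hcomm, hx', hy⟩ := exists_ppart (p := 2) c
      have hx'c : IsPPart 2 c x' := ⟨y, hxy, hcomm, hx', hy⟩
      obtain ⟨k, hk⟩ : x' ∈ Subgroup.zpowers c := ppart_mem_zpowers' hx'c
      have hk' : c ^ k = x' := hk
      have hx'C : x' ∈ Subgroup.centralizer ((P : Subgroup G) : Set G) := by
        rw [← hk']; exact Subgroup.zpow_mem _ hc k
      have hx'P : x' ∈ (P : Subgroup G) := mem_of_normalizes P (Homo.centralizer_le_normalizer _ hx'C) hx'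
      have hyC : y ∈ Subgroup.centralizer ((P : Subgroup G) : Set G) := by
        have : y = x'⁻¹ * c := by rw [← hxy]; group
        rw [this]; exact Subgroup.mul_mem _ (Subgroup.inv_mem _ hx'C) hc
      rw [hmemK, ← hxy, hζmul, hζP ⟨x', hx'P⟩, one_mul]
      obtain ⟨K', hK', hK2, hKi⟩ := centralizer_complement P hR s.2 (fun h => hs1 (Subtype.ext h))
      have hKi' : ∃ k, K'.index = 2 ^ k := ⟨_, hKi.trans P.card_eq_multiplicity⟩
      have hyz : y ∈ Subgroup.centralizer ({(s : G)} : Set G) :=
        Subgroup.mem_centralizer_singleton_iff.2 (Subgroup.mem_centralizer_iff.1 hyC s s.2).symm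
      have h5 := singular_complement hM (sylow_pord P s.2) hK' hK2 hKi' ⟨y, hyz⟩ (by
        rw [Subgroup.orderOf_mk]; exact hy) hζB
      have h6 : (ζ : G → ℂ) ((s : G) * y) = (ζ : G → ℂ) s := h5
      rw [hζmul, hζP s, one_mul] at h6
      exact h6
    -- the Sylow subgroup of K
    set Q : Sylow 2 K := P.subtype hPK with hQ
    have hQmap : ((Q : Subgroup K).map K.subtype) = (P : Subgroup G) := by
      ext g
      constructor
      · rintro ⟨y, hy, rfl⟩; exact hy
      · intro hg; exact ⟨⟨g, hPK hg⟩, hg, rfl⟩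
    have hfrat : Subgroup.normalizer ((P : Subgroup G) : Set G) ⊔ K = ⊤ := by
      have := Sylow.normalizer_sup_eq_top Q
      rw [← hQmap]
      exact this
    have hKN : K ⊓ Subgroup.normalizer ((P : Subgroup G) : Set G) ≤ Subgroup.centralizer ((P : Subgroup G) : Set G) := by
      set C := Subgroup.centralizer ((P : Subgroup G) : Set G)
      set N := Subgroup.normalizer ((P : Subgroup G) : Set G)
      have hCN : C ≤ N := Homo.centralizer_le_normalizer _
      have h7 : C.relIndex (K ⊓ N) * (K ⊓ N).relIndex N = 3 := by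
        rw [← h3]; exact Subgroup.relIndex_mul_relIndex _ _ _ (le_inf hCK hCN) inf_le_right
      have h8 : C.relIndex (K ⊓ N) ∣ 3 := Dvd.intro _ h7
      rcases (Nat.dvd_prime Nat.prime_three).1 h8 with h9 | h9
      · exact Subgroup.relIndex_eq_one.1 h9
      · exfalso
        rw [h9] at h7
        have h10 : (K ⊓ N).relIndex N = 1 := by omega
        have h11 : N ≤ K := (Subgroup.relIndex_eq_one.1 h10).trans inf_le_left
        apply hKtop
        rw [← hfrat]
        exact (sup_eq_right.2 h11).symm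
    have hNQ : Subgroup.normalizer ((Q : Subgroup K) : Set K) ≤ Subgroup.centralizer ((Q : Subgroup K) : Set K) := by
      intro g hg
      have hg' : (g : G) ∈ Subgroup.normalizer ((P : Subgroup G) : Set G) := by
        apply Cfsg.Agent.H4.Util.mem_normalizer_of_forall
        intro y hy
        have h1 : (⟨y, hPK hy⟩ : K) ∈ (Q : Subgroup K) := hy
        exact (Subgroup.mem_normalizer_iff.1 hg _).1 h1
      have h1 := hKN ⟨g.2, hg'⟩
      rw [Subgroup.mem_centralizer_iff] at h1 ⊢
      intro y hy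
      exact Subtype.ext (h1 y hy)
    obtain ⟨L, hL, hL2, hLc, hLmem⟩ := burnside_odd Q hNQ
    have hLmap : (L.map K.subtype).Normal := by
      refine ⟨fun n hn g => ?_⟩
      obtain ⟨y, hy, rfl⟩ := hn
      have hKn : K.Normal := inferInstance
      refine ⟨⟨g * y * g⁻¹, hKn.conj_mem y y.2 g⟩, ?_, rfl⟩
      show _ ∈ L
      rw [hLmem, Subgroup.orderOf_mk, orderOf_conj, Subgroup.orderOf_coe]
      exact (hLmem y).1 hy
    have hLbot : L = ⊥ := by
      have h1 := hodd _ hLmap (by
        rw [Subgroup.card_map_of_injective K.subtype_injective]; exact hL2)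
      rwa [Subgroup.map_eq_bot_iff_of_injective _ K.subtype_injective] at h1
    rw [hLbot] at hLc
    have hQtop : (Q : Subgroup K) = ⊤ := Subgroup.isComplement'_bot_left.1 hLc
    have hKP : K = (P : Subgroup G) := by
      rw [← hQmap, hQtop]
      ext g
      constructor
      · intro hg; exact ⟨⟨g, hg⟩, trivial, rfl⟩
      · rintro ⟨y, -, rfl⟩; exact y.2
    have hPn : (P : Subgroup G).Normal := by rw [← hKP]; infer_instance
    have hCP : Subgroup.centralizer ((P : Subgroup G) : Set G) = (P : Subgroup G) := by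
      apply le_antisymm
      · intro c hc; rw [← hKP]; exact hCK hc
      · exact hR.le_centralizer
    refine ⟨hPn, hCP, Or.inr ?_⟩
    have hNtop : Subgroup.normalizer ((P : Subgroup G) : Set G) = ⊤ := Subgroup.normalizer_eq_top_iff.2 hPn
    rw [hCP, hNtop, Subgroup.relIndex_top_right] at h3
    exact h3

end Cfsg.Agent.H10.BlockHomo2
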