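import Mathlib
import Cfsg.Prelude.Def_Blocks
import Cfsg.Agent.H10_BlockKer

/-!
H10_BlockKul: p-power maps, Külshammer's formula for the principal block idempotent.
-/

set_option autoImplicit false
set_option linter.style.haveILetI false
set_option linter.unusedSectionVars false

namespace Cfsg.Agent.H10.BlockKul

open Cfsg Cfsg.Agent.H3.CharIrr Cfsg.Agent.H3.CharComplete Cfsg.Agent.H3.CharInd
  Cfsg.Agent.H3.CharBasic Cfsg.Agent.H10.BlockLoc
  Cfsg.Agent.H10.BlockTrace Cfsg.Agent.H10.Char Cfsg.Agent.H10.BlockAlg Cfsg.Agent.H10.BlockIdem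
  Cfsg.Agent.H10.BlockOrth Cfsg.Agent.H10.BlockDefect Cfsg.Agent.H10.BlockNormal
  Cfsg.Agent.H10.BlockInd Cfsg.Agent.H10.BlockMain Cfsg.Agent.H10.PPart Cfsg.Agent.H10.BlockSMT
  Cfsg.Agent.H10.BlockSMT2 Cfsg.Agent.H10.BlockHZ Cfsg.Agent.H10.BlockK Cfsg.Agent.H10.BlockKer
open scoped ComplexConjugate

variable {G : Type*} [Group G] [Fintype G] {p : ℕ} {M : Ideal AlgInt}

/-- rotation of tuples -/
def rot (G : Type*) (n : ℕ) : Equiv.Perm (Fin (n+1) → G) where
  toFun f := fun k => f (k + 1)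
  invFun f := fun k => f (k - 1)
  left_inv f := by funext k; simp
  right_inv f := by funext k; simp

theorem rot_pow (n r : ℕ) (f : Fin (n+1) → G) (k : Fin (n+1)) :
    ((rot G n) ^ r) f k = f (k + r • (1 : Fin (n+1))) := by
  induction r generalizing k with
  | zero => simp
  | succ r ih =>
    rw [pow_succ', Equiv.Perm.mul_apply]
    show ((rot G n) ^ r) f (k + 1) = _
    rw [ih, add_smul, one_smul, add_assoc, add_comm (1 : Fin (n+1))]

theorem rot_pow_self (n : ℕ) : (rot G n) ^ (n+1) = 1 := by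
  apply Equiv.ext
  intro f
  funext k
  rw [rot_pow]
  have : (n+1) • (1 : Fin (n+1)) = 0 := by
    have := card_nsmul_eq_zero (x := (1 : Fin (n+1)))
    rwa [Fintype.card_fin] at this
  rw [this, add_zero]
  rfl

theorem prod_rot (n : ℕ) (f : Fin (n+1) → G) :
    (List.ofFn (rot G n f)).prod = (f 0)⁻¹ * (List.ofFn f).prod * f 0 := by
  have h1 : rot G n f = Fin.snoc (fun k : Fin n => f k.succ) (f 0) := by
    funext k
    refine Fin.lastCases ?_ (fun k => ?_) k
    · rw [Fin.snoc_last]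
      show f (Fin.last n + 1) = f 0
      rw [Fin.last_add_one]
    · rw [Fin.snoc_castSucc]
      show f (k.castSucc + 1) = f k.succ
      rw [Fin.coeSucc_eq_succ]
  rw [h1, List.ofFn_succ', List.ofFn_succ]
  simp only [Fin.snoc_castSucc, Fin.snoc_last]
  rw [List.concat_eq_append, List.prod_append, List.prod_cons, List.prod_cons, List.prod_nil]
  group

theorem prod_rot_eq_one_iff (n : ℕ) (f : Fin (n+1) → G) :
    (List.ofFn (rot G n f)).prod = 1 ↔ (List.ofFn f).prod = 1 := by
  rw [prod_rot]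
  constructor
  · intro h
    have : (List.ofFn f).prod = f 0 * ((f 0)⁻¹ * (List.ofFn f).prod * f 0) * (f 0)⁻¹ := by group
    rw [this, h]; group
  · intro h; rw [h]; group

open Classical in
/-- coefficient of a power at one -/
theorem pow_coeff_one (a : MonoidAlgebra ℂ G) (n : ℕ) :
    (a ^ (n+1)).coeff 1 = ∑ f : Fin (n+1) → G, if (List.ofFn f).prod = 1 then ∏ k, a.coeff (f k) else 0 := by
  have h1 : a = ∑ g : G, a.coeff g • MonoidAlgebra.single g (1:ℂ) := by
    apply ext_coeff
    intro x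
    rw [MonoidAlgebra.coeff_sum, Finsupp.finsetSum_apply, Finset.sum_eq_single x]
    · rw [MonoidAlgebra.coeff_smul, Finsupp.smul_apply, MonoidAlgebra.coeff_single, Finsupp.single_eq_same,
        smul_eq_mul, mul_one]
    · intro y _ hne
      rw [MonoidAlgebra.coeff_smul, Finsupp.smul_apply, MonoidAlgebra.coeff_single, Finsupp.single_apply,
        if_neg hne, smul_zero]
    · intro h; exact absurd (Finset.mem_univ _) h
  conv_lhs => rw [h1]
  rw [sum_pow_ofFn, MonoidAlgebra.coeff_sum, Finsupp.finsetSum_apply]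
  refine Finset.sum_congr rfl fun f _ => ?_
  have h2 : ∀ (m : ℕ) (f : Fin m → G), (List.ofFn (fun k => a.coeff (f k) • MonoidAlgebra.single (f k) (1:ℂ))).prod =
      (∏ k, a.coeff (f k)) • MonoidAlgebra.single (List.ofFn f).prod (1:ℂ) := by
    intro m
    induction m with
    | zero =>
      intro f
      simp
      rfl
    | succ m ih =>
      intro f
      rw [List.ofFn_succ, List.ofFn_succ, List.prod_cons, List.prod_cons, Fin.prod_univ_succ]
      rw [ih (fun k => f k.succ), smul_mul_smul_comm, MonoidAlgebra.single_mul_single, one_mul]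
  rw [h2, MonoidAlgebra.coeff_smul, Finsupp.smul_apply, MonoidAlgebra.coeff_single, Finsupp.single_apply,
    smul_eq_mul]
  by_cases h : (List.ofFn f).prod = 1
  · rw [if_pos h, if_pos h, mul_one]
  · rw [if_neg h, if_neg h, mul_zero]

theorem sum_pow_sub [M.IsMaximal] (hM : IsPModular p M) {ι : Type*} (s : Finset ι) (c : ι → ℂ)
    (hc : ∀ i ∈ s, MemLocalRing M (c i)) (n : ℕ) :
    MemLocalIdeal M ((∑ i ∈ s, c i) ^ (p ^ n) - ∑ i ∈ s, c i ^ (p ^ n)) := by
  classical
  haveI : Fact p.Prime := ⟨hM.1⟩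
  haveI := charP_of hM
  haveI hE : ExpChar (AlgInt ⧸ M) p := ExpChar.prime hM.1
  induction s using Finset.induction_on with
  | empty =>
    simp only [Finset.sum_empty]
    rw [zero_pow (pow_pos hM.1.pos n).ne', sub_zero]
    exact ideal_zero
  | insert i s hi ih =>
    rw [Finset.sum_insert hi, Finset.sum_insert hi]
    have h1 : MemLocalRing M (c i) := hc i (Finset.mem_insert_self _ _)
    have h2 : MemLocalRing M (∑ j ∈ s, c j) := ring_sum _ _ fun j hj => hc j (Finset.mem_insert_of_mem hj)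
    have h3 := ih (fun j hj => hc j (Finset.mem_insert_of_mem hj))
    have h4 : MemLocalIdeal M ((c i + ∑ j ∈ s, c j) ^ (p ^ n) - (c i ^ (p ^ n) + (∑ j ∈ s, c j) ^ (p ^ n))) := by
      have h5 : res M ((⟨c i, h1⟩ + ⟨∑ j ∈ s, c j, h2⟩ : locRing M) ^ (p ^ n)) =
          res M ((⟨c i, h1⟩ : locRing M) ^ (p ^ n) + (⟨∑ j ∈ s, c j, h2⟩ : locRing M) ^ (p ^ n)) := by
        rw [map_pow, map_add, map_add, map_pow, map_pow, add_pow_char_pow]
      have := (res_eq_iff _ _).1 h5
      simpa using this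
    have := ideal_add h4 h3
    have e : (c i + ∑ j ∈ s, c j) ^ (p ^ n) - (c i ^ (p ^ n) + (∑ j ∈ s, c j) ^ (p ^ n)) +
      ((∑ j ∈ s, c j) ^ (p ^ n) - ∑ j ∈ s, c j ^ (p ^ n)) =
      (c i + ∑ j ∈ s, c j) ^ (p ^ n) - (c i ^ (p ^ n) + ∑ j ∈ s, c j ^ (p ^ n)) := by ring
    rwa [e] at this

open Classical in
/-- the trace of a p-power -/
theorem trace_pow [M.IsMaximal] (hM : IsPModular p M) {a : MonoidAlgebra ℂ G} (ha : a ∈ intA G M) (n : ℕ) :
    MemLocalIdeal M ((a ^ (p ^ n)).coeff 1 -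
      (∑ u ∈ Finset.univ.filter (fun u : G => u ^ (p ^ n) = 1), a.coeff u) ^ (p ^ n)) := by
  haveI : Fact p.Prime := ⟨hM.1⟩
  obtain ⟨m, hm⟩ : ∃ m, p ^ n = m + 1 :=
    ⟨p ^ n - 1, (Nat.succ_pred_eq_of_pos (pow_pos hM.1.pos n)).symm⟩
  rw [hm]
  -- the group generated by the rotation
  let Q := Subgroup.zpowers (rot G m)
  have hQ : IsPGroup p Q := by
    intro g
    refine ⟨n, ?_⟩
    obtain ⟨k, hk⟩ := Subgroup.mem_zpowers_iff.1 g.2
    apply Subtype.ext
    rw [Subgroup.coe_pow, ← hk, Subgroup.coe_one, ← zpow_natCast, ← zpow_mul, mul_comm, zpow_mul,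
      zpow_natCast, hm, rot_pow_self, one_zpow]
  let F : (Fin (m+1) → G) → ℂ := fun f => if (List.ofFn f).prod = 1 then ∏ k, a.coeff (f k) else 0
  have hF : ∀ f, MemLocalRing M (F f) := by
    intro f
    show MemLocalRing M (if (List.ofFn f).prod = 1 then ∏ k, a.coeff (f k) else 0)
    split_ifs
    · exact ring_prod _ _ fun k _ => ha _
    · exact ring_zero
  have hrot : ∀ f, F (rot G m f) = F f := by
    intro f
    show (if (List.ofFn (rot G m f)).prod = 1 then ∏ k, a.coeff (rot G m f k) else 0) =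
      if (List.ofFn f).prod = 1 then ∏ k, a.coeff (f k) else 0
    have h1 : ∏ k, a.coeff (rot G m f k) = ∏ k, a.coeff (f k) :=
      Equiv.prod_comp (Equiv.addRight (1 : Fin (m+1))) (fun k => a.coeff (f k))
    rw [h1]
    have := prod_rot_eq_one_iff m f
    by_cases h : (List.ofFn f).prod = 1
    · rw [if_pos h, if_pos (this.2 h)]
    · rw [if_neg h, if_neg (fun h' => h (this.1 h'))]
  have hinv : ∀ (q : Q) (f : Fin (m+1) → G), F (q • f) = F f := by
    rintro ⟨q, hq⟩ f
    obtain ⟨k, rfl⟩ := Subgroup.mem_zpowers_iff.1 hq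
    show F (((rot G m) ^ k) f) = F f
    clear hq
    induction k using Int.induction_on generalizing f with
    | zero => simp
    | succ k ih =>
      rw [zpow_add, zpow_one, Equiv.Perm.mul_apply, ih, hrot]
    | pred k ih =>
      rw [show (-(k:ℤ) - 1) = -(k:ℤ) + (-1) by ring, zpow_add, Equiv.Perm.mul_apply, zpow_neg_one]
      rw [ih]
      conv_rhs => rw [← Equiv.apply_symm_apply (rot G m) f]
      rw [hrot]; rfl
  have h1 := sum_sub_fixed hM hQ F hF hinv
    (Finset.univ.filter (fun f : Fin (m+1) → G => rot G m f = f)) (by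
      intro f
      rw [Finset.mem_filter]
      constructor
      · rintro ⟨_, h⟩ ⟨q, hq⟩
        obtain ⟨k, rfl⟩ := Subgroup.mem_zpowers_iff.1 hq
        show ((rot G m) ^ k) f = f
        exact (Function.IsFixedPt.perm_zpow (h : Function.IsFixedPt (rot G m) f) k)
      · intro h
        exact ⟨Finset.mem_univ _, h ⟨rot G m, Subgroup.mem_zpowers _⟩⟩)
  have h2 : ∑ f ∈ Finset.univ.filter (fun f : Fin (m+1) → G => rot G m f = f), F f =
      ∑ u ∈ Finset.univ.filter (fun u : G => u ^ (m+1) = 1), (a.coeff u) ^ (m+1) := by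
    rw [Finset.sum_filter, Finset.sum_filter]
    rw [← Finset.sum_filter]
    symm
    rw [← Finset.sum_filter]
    have hconst : ∀ f : Fin (m+1) → G, rot G m f = f → f = fun _ => f 0 := by
      intro f hf
      funext k
      have h3 : ∀ k, f (k + 1) = f k := fun k => congrFun hf k
      induction k using Fin.induction with
      | zero => rfl
      | succ k ih => rw [← ih, ← Fin.coeSucc_eq_succ, h3]
    have h5 : ∑ f ∈ Finset.univ.filter (fun f : Fin (m+1) → G => rot G m f = f), F f =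
        ∑ u : G, F (fun _ => u) := by
      symm
      apply Finset.sum_nbij' (fun u : G => (fun _ => u : Fin (m+1) → G)) (fun f => f 0)
      · intro u _
        rw [Finset.mem_filter]
        exact ⟨Finset.mem_univ _, rfl⟩
      · intro f _; exact Finset.mem_univ _
      · intro u _; rfl
      · intro f hf
        exact (hconst f (Finset.mem_filter.1 hf).2).symm
      · intro u _; rfl
    rw [h5, Finset.sum_filter]
    refine Finset.sum_congr rfl fun u _ => ?_
    show _ = if (List.ofFn (fun _ : Fin (m+1) => u)).prod = 1 then ∏ k : Fin (m+1), a.coeff u else 0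
    rw [List.ofFn_const, List.prod_replicate, Finset.prod_const, Finset.card_univ, Fintype.card_fin]
  rw [pow_coeff_one]
  have h3 := sum_pow_sub hM (Finset.univ.filter (fun u : G => u ^ (m+1) = 1)) (fun u => a.coeff u) (fun u _ => ha u) n
  rw [hm] at h3
  rw [h2] at h1
  have := ideal_sub h1 h3
  have e : ∑ x, F x - ∑ u ∈ Finset.univ.filter (fun u : G => u ^ (m+1) = 1), (a.coeff u) ^ (m+1) -
      ((∑ u ∈ Finset.univ.filter (fun u : G => u ^ (m+1) = 1), a.coeff u) ^ (m+1) -
        ∑ u ∈ Finset.univ.filter (fun u : G => u ^ (m+1) = 1), (a.coeff u) ^ (m+1)) =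
      ∑ x, F x - (∑ u ∈ Finset.univ.filter (fun u : G => u ^ (m+1) = 1), a.coeff u) ^ (m+1) := by ring
  rwa [e] at this

/-- central elements with vanishing central characters mod M are nilpotent mod M -/
theorem nilpotent_of_om [M.IsMaximal] {z : ZC G} (hz : z ∈ ZI G M)
    (h : ∀ χ : IrrCharacter G, MemLocalIdeal M (om χ z)) :
    ∃ N : ℕ, ∀ k, N ≤ k → ∀ g, MemLocalIdeal M (((z ^ k : ZC G) : MonoidAlgebra ℂ G).coeff g) := by
  classical
  haveI : Fintype (IrrCharacter G) := Fintype.ofFinite _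
  have key : ∀ s : Finset (IrrCharacter G), ∃ P ∈ ZI G M, (∀ ψ : IrrCharacter G,
      om ψ P = ∏ χ ∈ s, (om ψ z - om χ z)) ∧
      ∀ g, MemLocalIdeal M ((P : MonoidAlgebra ℂ G).coeff g - ((z ^ s.card : ZC G) : MonoidAlgebra ℂ G).coeff g) := by
    intro s
    induction s using Finset.induction_on with
    | empty =>
      refine ⟨1, (ZI G M).one_mem, fun ψ => by rw [map_one]; simp, fun g => ?_⟩
      rw [Finset.card_empty, pow_zero, sub_self]
      exact ideal_zero
    | insert χ s hχ ih =>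
      obtain ⟨P, hP, h1, h2⟩ := ih
      refine ⟨z * P - om χ z • P, (ZI G M).sub_mem ((ZI G M).mul_mem hz hP)
        (smul_mem_ZI (memLocalRing_of_memLocalIdeal (h χ)) hP), fun ψ => ?_, fun g => ?_⟩
      · rw [Finset.prod_insert hχ, ← h1 ψ]
        have e : om ψ (z * P - om χ z • P) = om ψ z * om ψ P - om χ z * om ψ P := by
          rw [map_sub, map_mul, map_smul, smul_eq_mul]
        rw [e]; ring
      · rw [Finset.card_insert_of_notMem hχ, pow_succ']
        have e1 : ((z * P - om χ z • P : ZC G) : MonoidAlgebra ℂ G).coeff g =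
            ((z * P : ZC G) : MonoidAlgebra ℂ G).coeff g - om χ z * (P : MonoidAlgebra ℂ G).coeff g := by
          change (((z * P : ZC G) : MonoidAlgebra ℂ G) - om χ z • (P : MonoidAlgebra ℂ G)).coeff g = _
          rw [MonoidAlgebra.coeff_sub, Finsupp.sub_apply, MonoidAlgebra.coeff_smul, Finsupp.smul_apply, smul_eq_mul]
        rw [e1]
        have e2 : ((z * P : ZC G) : MonoidAlgebra ℂ G).coeff g = ∑ x, (z : MonoidAlgebra ℂ G).coeff x *
            (P : MonoidAlgebra ℂ G).coeff (x⁻¹ * g) := coeff_mul_left _ _ g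
        have e3 : ((z * z ^ s.card : ZC G) : MonoidAlgebra ℂ G).coeff g = ∑ x, (z : MonoidAlgebra ℂ G).coeff x *
            ((z ^ s.card : ZC G) : MonoidAlgebra ℂ G).coeff (x⁻¹ * g) := coeff_mul_left _ _ g
        rw [e2, e3]
        have e4 : ∑ x, (z : MonoidAlgebra ℂ G).coeff x * (P : MonoidAlgebra ℂ G).coeff (x⁻¹ * g) -
            om χ z * (P : MonoidAlgebra ℂ G).coeff g - ∑ x, (z : MonoidAlgebra ℂ G).coeff x *
            ((z ^ s.card : ZC G) : MonoidAlgebra ℂ G).coeff (x⁻¹ * g) =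
            ∑ x, (z : MonoidAlgebra ℂ G).coeff x * ((P : MonoidAlgebra ℂ G).coeff (x⁻¹ * g) -
              ((z ^ s.card : ZC G) : MonoidAlgebra ℂ G).coeff (x⁻¹ * g)) - om χ z * (P : MonoidAlgebra ℂ G).coeff g := by
          simp only [mul_sub, Finset.sum_sub_distrib]; ring
        rw [e4]
        exact ideal_sub (ideal_sum _ _ fun x _ => ideal_mul_left (hz x) (h2 _)) (ideal_mul_right (h χ) (hP g))
  obtain ⟨P, hP, h1, h2⟩ := key Finset.univ
  have hP0 : P = 0 := by
    apply om_injective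
    intro ψ
    rw [h1 ψ, map_zero]
    exact Finset.prod_eq_zero (Finset.mem_univ ψ) (sub_self _)
  refine ⟨(Finset.univ : Finset (IrrCharacter G)).card, fun k hk g => ?_⟩
  have h3 : ∀ g, MemLocalIdeal M (((z ^ (Finset.univ : Finset (IrrCharacter G)).card : ZC G) : MonoidAlgebra ℂ G).coeff g) := by
    intro g
    have := h2 g
    rw [hP0] at this
    have e : ((0 : ZC G) : MonoidAlgebra ℂ G).coeff g = 0 := rfl
    rw [e, zero_sub] at this
    have := ideal_neg this
    rwa [neg_neg] at this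
  obtain ⟨j, rfl⟩ := Nat.exists_eq_add_of_le hk
  rw [pow_add]
  have e2 := coeff_mul_left ((z ^ (Finset.univ : Finset (IrrCharacter G)).card : ZC G) : MonoidAlgebra ℂ G)
    ((z ^ j : ZC G) : MonoidAlgebra ℂ G) g
  change MemLocalIdeal M ((((z ^ (Finset.univ : Finset (IrrCharacter G)).card : ZC G) : MonoidAlgebra ℂ G) *
    ((z ^ j : ZC G) : MonoidAlgebra ℂ G)).coeff g)
  rw [e2]
  exact ideal_sum _ _ fun x _ => ideal_mul_right (h3 x) ((ZI G M).pow_mem hz j _)

open Classical in
/-- sum of the coefficients of z g⁻¹ at q-torsion elements -/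
theorem lam_eq (z : ZC G) (g : G) (q : ℕ) :
    ∑ u ∈ Finset.univ.filter (fun u : G => u ^ q = 1),
      ((z : MonoidAlgebra ℂ G) * MonoidAlgebra.single g⁻¹ (1:ℂ)).coeff u =
    ∑ u ∈ Finset.univ.filter (fun u : G => u ^ q = 1), (z : MonoidAlgebra ℂ G).coeff (u * g) := by
  refine Finset.sum_congr rfl fun u _ => ?_
  rw [coeff_mul_single, inv_inv]

theorem single_pow (g : G) (q : ℕ) : (MonoidAlgebra.single g (1:ℂ)) ^ q = MonoidAlgebra.single (g ^ q) (1:ℂ) := by
  induction q with
  | zero => rw [pow_zero, pow_zero]; rfl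
  | succ q ih => rw [pow_succ, pow_succ, ih, MonoidAlgebra.single_mul_single, one_mul]

theorem mul_single_pow (z : ZC G) (g : G) (q : ℕ) :
    ((z : MonoidAlgebra ℂ G) * MonoidAlgebra.single g (1:ℂ)) ^ q =
      ((z ^ q : ZC G) : MonoidAlgebra ℂ G) * MonoidAlgebra.single (g ^ q) (1:ℂ) := by
  have hc : Commute (z : MonoidAlgebra ℂ G) (MonoidAlgebra.single g (1:ℂ)) :=
    ((Subalgebra.mem_center_iff).1 z.2 _).symm
  rw [hc.mul_pow, single_pow]
  rfl

/-- a suitable power of p -/
theorem exists_pow (hp : p.Prime) {g : G} (hg : ¬ p ∣ orderOf g) (N : ℕ) :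
    ∃ n : ℕ, N ≤ n ∧ g ^ (p ^ n) = g ∧ ∀ u : G, u ^ (p ^ n) = 1 ↔ ∃ k : ℕ, orderOf u = p ^ k := by
  set m := orderOf g with hm
  have hcop : Nat.Coprime p m := (Nat.Prime.coprime_iff_not_dvd hp).2 hg
  set a := (Nat.card G).factorization p with ha
  have hm0 : 0 < m := orderOf_pos g
  have hphi : 0 < Nat.totient m := Nat.totient_pos.2 hm0
  refine ⟨(a + 1 + N) * Nat.totient m, ?_, ?_, ?_⟩
  · calc N ≤ a + 1 + N := by omega
      _ = (a + 1 + N) * 1 := (mul_one _).symm
      _ ≤ _ := Nat.mul_le_mul_left _ hphi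
  · have h1 : p ^ ((a + 1 + N) * Nat.totient m) ≡ 1 [MOD m] := by
      rw [mul_comm, pow_mul]
      have := (Nat.ModEq.pow_totient hcop).pow (a + 1 + N)
      rwa [one_pow] at this
    have := (pow_eq_pow_iff_modEq (x := g) (n := p ^ ((a + 1 + N) * Nat.totient m)) (m := 1)).2 h1
    rw [this, pow_one]
  · intro u
    constructor
    · intro h
      obtain ⟨k, _, hk⟩ := (Nat.dvd_prime_pow hp).1 (orderOf_dvd_of_pow_eq_one h)
      exact ⟨k, hk⟩
    · rintro ⟨k, hk⟩
      have h1 : p ^ k ∣ Nat.card G := by rw [← hk]; exact orderOf_dvd_natCard u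
      have h2 : k ≤ a := (hp.pow_dvd_iff_le_factorization Nat.card_pos.ne').1 h1
      have h3 : k ≤ (a + 1 + N) * Nat.totient m := by
        calc k ≤ a + 1 + N := by omega
          _ = (a + 1 + N) * 1 := (mul_one _).symm
          _ ≤ _ := Nat.mul_le_mul_left _ hphi
      obtain ⟨j, hj⟩ := Nat.exists_eq_add_of_le h3
      rw [hj, pow_add, pow_mul, ← hk, pow_orderOf_eq_one, one_pow]

theorem ideal_of_pow [M.IsMaximal] {x : ℂ} (hx : MemLocalRing M x) {n : ℕ} (h : MemLocalIdeal M (x ^ n)) :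
    MemLocalIdeal M x := by
  induction n with
  | zero => rw [pow_zero] at h; exact absurd h one_notMem_ideal
  | succ n ih =>
    rw [pow_succ] at h
    rcases ideal_of_mul (ring_pow hx n) hx h with h | h
    · exact ih h
    · exact h

open Classical in
/-- Külshammer -/
theorem kulshammer (hM : IsPModular p M) [Fintype (IrrCharacter G)] {g : G} (hg : ¬ p ∣ orderOf g) :
    MemLocalIdeal M ((((Finset.univ.filter (fun y : G => ¬ p ∣ orderOf y)).card : ℕ) : ℂ) *
      blockCoeff (principalBlock M G) g -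
      (((Finset.univ.filter (fun u : G => (∃ k : ℕ, orderOf u = p ^ k) ∧ ¬ p ∣ orderOf (u * g))).card : ℕ) : ℂ)) ∧
    ¬ p ∣ (Finset.univ.filter (fun y : G => ¬ p ∣ orderOf y)).card := by
  haveI := hM.2.1
  haveI : Fact p.Prime := ⟨hM.1⟩
  set ν := (Finset.univ.filter (fun y : G => ¬ p ∣ orderOf y)).card with hν
  set B₀ := principalBlock M G with hB₀
  have hB₀b : IsPBlock M B₀ := principal_isPBlock
  have hz1 : ∀ x : G, (zchi p (triv G) : MonoidAlgebra ℂ G).coeff x = if p ∣ orderOf x then 0 else 1 := by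
    intro x
    unfold zchi
    rw [zreg_coeff]
    rfl
  have homt : om (triv G) (zchi p (triv G)) = ν := by
    rw [om_apply, lin_apply, triv_coe, div_one]
    simp only [hz1, triv_coe, mul_one]
    rw [hν, Finset.card_filter]
    push_cast
    refine Finset.sum_congr rfl fun x _ => ?_
    by_cases h : p ∣ orderOf x
    · rw [if_pos h, if_neg (not_not.2 h)]
    · rw [if_neg h, if_pos h]
  have hνp : ¬ p ∣ ν := by
    intro h
    apply om_zchi_unit hM hB₀b triv_mem triv_height triv_mem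
    rw [homt]
    exact (ideal_natCast_iff hM ν).2 h
  refine ⟨?_, hνp⟩
  -- the nilpotent part
  set e0 : ZC G := eB B₀ with he0
  have he0I : e0 ∈ ZI G M := eB_mem_ZI hB₀b
  have hz1I : zchi p (triv G) ∈ ZI G M := zchi_mem _
  set r : ZC G := zchi p (triv G) - (ν : ℂ) • e0 with hr
  have hνI : (ν : ℂ) • e0 ∈ ZI G M := smul_mem_ZI (ring_natCast ν) he0I
  have hrI : r ∈ ZI G M := (ZI G M).sub_mem hz1I hνI
  have homr : ∀ φ : IrrCharacter G, MemLocalIdeal M (om φ r) := by
    intro φ
    have e : om φ r = om φ (zchi p (triv G)) - ν * om φ e0 := by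
      rw [hr, map_sub, map_smul, smul_eq_mul]
    rw [e, he0, om_eB]
    by_cases hφ : φ ∈ B₀
    · rw [if_pos hφ, mul_one, ← homt]
      exact om_sub_mem_of_sameBlock (block_sameBlock hB₀b hφ triv_mem) hz1I
    · rw [if_neg hφ, mul_zero, sub_zero, om_zchi_other hM (triv G) φ (fun h => hφ h)]
      exact ideal_zero
  obtain ⟨N, hN⟩ := nilpotent_of_om hrI homr
  have hginv : ¬ p ∣ orderOf g⁻¹ := by rwa [orderOf_inv]
  obtain ⟨n, hn1, hn2, hn3⟩ := exists_pow hM.1 hginv N
  set q := p ^ n with hq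
  have hNq : N ≤ q := hn1.trans (Nat.lt_pow_self hM.1.one_lt).le
  -- λ functional
  let lam : ZC G → ℂ := fun z => ∑ u ∈ Finset.univ.filter (fun u : G => u ^ q = 1),
    (z : MonoidAlgebra ℂ G).coeff (u * g)
  have hlamI : ∀ z ∈ ZI G M, MemLocalRing M (lam z) := fun z hz => ring_sum _ _ fun u _ => hz _
  have hxI : ∀ z ∈ ZI G M, (z : MonoidAlgebra ℂ G) * MonoidAlgebra.single g⁻¹ (1:ℂ) ∈ intA G M :=
    fun z hz => (intA G M).mul_mem hz (single_mem_intA _)
  -- the nilpotent part
  have hr0 : MemLocalIdeal M (lam r) := by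
    have h1 := trace_pow hM (hxI r hrI) n
    rw [lam_eq, ← hq, mul_single_pow, hn2, coeff_mul_single, inv_inv, one_mul] at h1
    apply ideal_of_pow (hlamI r hrI) (n := q)
    have h2 := hN q hNq g
    have := ideal_sub h2 h1
    rwa [sub_sub_cancel] at this
  -- the idempotent part
  have heq : ∀ k, 0 < k → e0 ^ k = e0 := by
    intro k hk
    obtain ⟨j, rfl⟩ := Nat.exists_eq_succ_of_ne_zero hk.ne'
    induction j with
    | zero => rw [Nat.succ_eq_add_one, zero_add, pow_one]
    | succ j ih =>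
      rw [Nat.succ_eq_add_one, pow_succ, ih (Nat.succ_pos j)]
      exact eB_mul_self B₀
  have hA : MemLocalIdeal M ((e0 : MonoidAlgebra ℂ G).coeff g - (lam e0) ^ q) := by
    have h1 := trace_pow hM (hxI e0 he0I) n
    rw [lam_eq, ← hq, mul_single_pow, hn2, coeff_mul_single, inv_inv, one_mul,
      heq q (pow_pos hM.1.pos n)] at h1
    exact h1
  have hB : MemLocalIdeal M ((e0 : MonoidAlgebra ℂ G).coeff g - ((lam e0) ^ q) ^ q) := by
    have h1 := trace_pow hM (hxI e0 he0I) (n + n)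
    have hqq : p ^ (n + n) = q * q := by rw [pow_add]
    have hset : (Finset.univ.filter (fun u : G => u ^ (p ^ (n + n)) = 1)) =
        Finset.univ.filter (fun u : G => u ^ q = 1) := by
      ext u
      simp only [Finset.mem_filter, Finset.mem_univ, true_and]
      constructor
      · intro h
        rw [hn3]
        obtain ⟨k, _, hk⟩ := (Nat.dvd_prime_pow hM.1).1 (orderOf_dvd_of_pow_eq_one h)
        exact ⟨k, hk⟩
      · intro h
        rw [hqq, pow_mul, h, one_pow]
    rw [lam_eq, hset, mul_single_pow, hqq, heq (q * q) (Nat.mul_pos (pow_pos hM.1.pos n) (pow_pos hM.1.pos n)),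
      pow_mul g⁻¹, hn2, hn2, coeff_mul_single, inv_inv, one_mul, pow_mul] at h1
    exact h1
  have hC : MemLocalIdeal M (lam e0 - (e0 : MonoidAlgebra ℂ G).coeff g) := by
    haveI := charP_of hM
    haveI hE : ExpChar (AlgInt ⧸ M) p := ExpChar.prime hM.1
    have hl := hlamI e0 he0I
    have he := he0I g
    have hlq := ring_pow hl q
    -- pass to the residue field
    have r1 : res M ⟨_, he⟩ = (res M ⟨_, hl⟩) ^ q := by
      rw [← map_pow]
      exact (res_eq_iff _ _).2 hA
    have r2 : res M ⟨_, he⟩ = ((res M ⟨_, hl⟩) ^ q) ^ q := by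
      rw [← map_pow, ← map_pow]
      exact (res_eq_iff _ _).2 hB
    have r3 : (res M ⟨_, hl⟩ - res M ⟨_, he⟩) ^ q = 0 := by
      rw [hq, sub_pow_char_pow, ← hq]
      have : (res M ⟨_, he⟩) ^ q = res M ⟨_, he⟩ := by
        conv_lhs => rw [r1]
        exact r2.symm
      rw [this, r1, sub_self]
    have r4 : res M ⟨_, hl⟩ = res M ⟨_, he⟩ :=
      sub_eq_zero.1 ((pow_eq_zero_iff (pow_pos hM.1.pos n).ne').1 r3)
    exact (res_eq_iff _ _).1 r4
  -- combine
  have hlin : lam (zchi p (triv G)) = (ν : ℂ) * lam e0 + lam r := by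
    show ∑ u ∈ Finset.univ.filter (fun u : G => u ^ q = 1), _ = (ν : ℂ) * ∑ u ∈ Finset.univ.filter (fun u : G => u ^ q = 1), _ +
      ∑ u ∈ Finset.univ.filter (fun u : G => u ^ q = 1), _
    rw [Finset.mul_sum, ← Finset.sum_add_distrib]
    refine Finset.sum_congr rfl fun u _ => ?_
    have e : (r : MonoidAlgebra ℂ G).coeff (u * g) = (zchi p (triv G) : MonoidAlgebra ℂ G).coeff (u * g) -
        ν * (e0 : MonoidAlgebra ℂ G).coeff (u * g) := by
      change ((zchi p (triv G) : MonoidAlgebra ℂ G) - (ν : ℂ) • (e0 : MonoidAlgebra ℂ G)).coeff (u * g) = _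
      rw [MonoidAlgebra.coeff_sub, Finsupp.sub_apply, MonoidAlgebra.coeff_smul, Finsupp.smul_apply, smul_eq_mul]
    rw [e]; ring
  have hcount : lam (zchi p (triv G)) =
      (((Finset.univ.filter (fun u : G => (∃ k : ℕ, orderOf u = p ^ k) ∧ ¬ p ∣ orderOf (u * g))).card : ℕ) : ℂ) := by
    show ∑ u ∈ Finset.univ.filter (fun u : G => u ^ q = 1), (zchi p (triv G) : MonoidAlgebra ℂ G).coeff (u * g) = _
    simp only [hz1]
    rw [Finset.card_filter, Finset.sum_filter]
    push_cast
    refine Finset.sum_congr rfl fun u _ => ?_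
    by_cases h1 : u ^ q = 1
    · have h2 := (hn3 u).1 h1
      rw [if_pos h1]
      by_cases h3 : p ∣ orderOf (u * g)
      · rw [if_pos h3, if_neg (fun h => h.2 h3)]
      · rw [if_neg h3, if_pos ⟨h2, h3⟩]
    · rw [if_neg h1, if_neg (fun h => h1 ((hn3 u).2 h.1))]
  rw [← hcount, hlin]
  have e : (ν : ℂ) * blockCoeff B₀ g - ((ν : ℂ) * lam e0 + lam r) =
      - ((ν : ℂ) * (lam e0 - (e0 : MonoidAlgebra ℂ G).coeff g)) - lam r := by
    rw [he0, eB_coeff]; ring
  rw [e]
  exact ideal_sub (ideal_neg (ideal_mul_left (ring_natCast ν) hC)) hr0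

end Cfsg.Agent.H10.BlockKul
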