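import Mathlib
import Cfsg.Prelude.Def_Blocks
import Cfsg.Agent.H10_BlockKer
import Cfsg.Agent.H10_BlockCov
import Cfsg.Agent.H10_BlockFMT2

/-!
H10_BlockMax: number of blocks of maximal defect (S0953).
-/

set_option autoImplicit false
set_option linter.style.haveILetI false
set_option linter.unusedSectionVars false

namespace Cfsg.Agent.H10.BlockMax

open Cfsg Cfsg.Agent.H3.CharIrr Cfsg.Agent.H3.CharComplete Cfsg.Agent.H3.CharInd
  Cfsg.Agent.H3.CharBasic Cfsg.Agent.H10.BlockLoc
  Cfsg.Agent.H10.Char Cfsg.Agent.H10.BlockAlg Cfsg.Agent.H10.BlockIdem Cfsg.Agent.H10.BlockNormal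
  Cfsg.Agent.H10.BlockOrth Cfsg.Agent.H10.BlockKer Cfsg.Agent.H10.PPart Cfsg.Agent.H10.BlockCov
  Cfsg.Agent.H10.BlockDefect Cfsg.Agent.H10.BlockMain Cfsg.Agent.H10.BlockInd Cfsg.Agent.H10.BlockFMT2
open scoped ComplexConjugate

variable {G : Type*} [Group G] {p : ℕ} {M : Ideal AlgInt}

/-- Burnside transfer together with the p'-elements -/
theorem burnside_reg [Finite G] [hp : Fact p.Prime] (P : Sylow p G)
    (hN : Subgroup.normalizer ((P : Subgroup G) : Set G) ≤ Subgroup.centralizer ((P : Subgroup G) : Set G)) :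
    ∃ L : Subgroup G, L.Normal ∧ ¬ p ∣ Nat.card L ∧ Subgroup.IsComplement' L (P : Subgroup G) ∧
      ∀ g : G, g ∈ L ↔ ¬ p ∣ orderOf g := by
  haveI := Fintype.ofFinite G
  refine ⟨(MonoidHom.transferSylow P hN).ker, inferInstance, MonoidHom.not_dvd_card_ker_transferSylow P hN,
    MonoidHom.ker_transferSylow_isComplement' P hN, fun g => ⟨fun hg => ?_, fun hg => ?_⟩⟩
  · exact coprime_regular (MonoidHom.not_dvd_card_ker_transferSylow P hN) hg
  · apply regular_mem hp.out _ hg
    rw [(MonoidHom.ker_transferSylow_isComplement' P hN).symm.index_eq_card]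
    exact ⟨_, P.card_eq_multiplicity⟩

/-- the p'-elements centralizing a normal Sylow subgroup -/
theorem exists_L [Finite G] [hp : Fact p.Prime] {P : Subgroup G} (hPn : P.Normal) (hP : IsPGroup p P)
    (hidx : ¬ p ∣ P.index) : ∃ L : Subgroup G, L.Normal ∧ ¬ p ∣ Nat.card L ∧
      ∀ g : G, g ∈ L ↔ (¬ p ∣ orderOf g ∧ g ∈ Subgroup.centralizer (P : Set G)) := by
  set C : Subgroup G := Subgroup.centralizer (P : Set G) with hC
  haveI hCn : C.Normal := inferInstance
  have hQ : IsPGroup p (P.subgroupOf C) := hP.comap_of_injective _ Subtype.val_injective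
  have hQi : ¬ p ∣ (P.subgroupOf C).index := by
    intro h
    apply hidx
    exact h.trans (Subgroup.relIndex_dvd_index_of_normal P C)
  let Q : Sylow p C := hQ.toSylow hQi
  have hQc : ((Q : Sylow p C) : Subgroup C) = P.subgroupOf C := rfl
  obtain ⟨L, hLn, hLp, -, hL⟩ := burnside_reg Q (by
    intro c _
    rw [hQc, Subgroup.mem_centralizer_iff]
    intro z hz
    apply Subtype.ext
    exact (Subgroup.mem_centralizer_iff.1 c.2) z hz)
  refine ⟨L.map C.subtype, ⟨?_⟩, ?_, ?_⟩
  · rintro _ ⟨n, hn, rfl⟩ g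
    refine ⟨⟨g * n * g⁻¹, hCn.conj_mem _ n.2 g⟩, ?_, rfl⟩
    rw [SetLike.mem_coe, hL, Subgroup.orderOf_mk]
    rw [SetLike.mem_coe, hL, ← Subgroup.orderOf_coe] at hn
    rwa [orderOf_conj]
  · rw [Subgroup.card_map_of_injective (Subgroup.subtype_injective _)]
    exact hLp
  · intro g
    constructor
    · rintro ⟨n, hn, rfl⟩
      rw [SetLike.mem_coe, hL, ← Subgroup.orderOf_coe] at hn
      exact ⟨hn, n.2⟩
    · rintro ⟨h1, h2⟩
      refine ⟨⟨g, h2⟩, ?_, rfl⟩
      rw [SetLike.mem_coe, hL, Subgroup.orderOf_mk]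
      exact h1

variable [Fintype G]

/-- p-regular classes determine the block -/
theorem sameBlock_of_regular [M.IsMaximal] (hM : IsPModular p M) {χ φ : IrrCharacter G}
    (h : ∀ g : G, ¬ p ∣ orderOf g → MemLocalIdeal M (om χ (cs g) - om φ (cs g))) :
    SameBlock M (χ : G → ℂ) (φ : G → ℂ) := by
  classical
  haveI : Fintype (ConjClasses G) := Fintype.ofFinite _
  have hB : IsPBlock M (blockOf M (χ : G → ℂ)) := isPBlock_blockOf χ
  have h1 : MemLocalIdeal M (om χ (eB (blockOf M (χ : G → ℂ))) - om φ (eB (blockOf M (χ : G → ℂ)))) := by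
    rw [om_eq_sum χ, om_eq_sum φ, ← Finset.sum_sub_distrib]
    apply ideal_sum
    intro C _
    rw [← mul_sub]
    by_cases hC : p ∣ orderOf (rep C)
    · rw [eB_coeff, blockCoeff_eq_zero hM hB _ hC, zero_mul]; exact ideal_zero
    · exact ideal_mul_left (eB_mem_ZI hB _) (h _ hC)
  rw [om_eB, om_eB, if_pos (mem_blockOf_self χ)] at h1
  by_contra hno
  have hno' : φ ∉ blockOf M (χ : G → ℂ) := hno
  rw [if_neg hno', sub_zero] at h1
  exact one_notMem_ideal h1

/-- the central elements supported on a normal subgroup -/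
def VL (L : Subgroup G) : Submodule ℂ (ZC G) where
  carrier := {z | ∀ g ∉ L, (z : MonoidAlgebra ℂ G).coeff g = 0}
  add_mem' := by
    intro a b ha hb g hg
    rw [Subalgebra.coe_add, MonoidAlgebra.coeff_add, Finsupp.add_apply, ha g hg, hb g hg, add_zero]
  zero_mem' := by
    intro g _
    rw [Subalgebra.coe_zero, MonoidAlgebra.coeff_zero]; rfl
  smul_mem' := by
    intro c z hz g hg
    rw [Subalgebra.coe_smul, MonoidAlgebra.coeff_smul_apply, hz g hg, smul_zero]

theorem mem_VL {L : Subgroup G} {z : ZC G} : z ∈ VL L ↔ ∀ g ∉ L, (z : MonoidAlgebra ℂ G).coeff g = 0 := Iff.rfl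

theorem finrank_classes (L : Subgroup G) (hL : L.Normal) :
    Module.finrank ℂ (VL L) = Nat.card {C : ConjClasses G // ∀ n : G, ConjClasses.mk n = C → n ∈ L} := by
  classical
  haveI : Fintype {C : ConjClasses G // ∀ n : G, ConjClasses.mk n = C → n ∈ L} := Fintype.ofFinite _
  have hmem : ∀ C : {C : ConjClasses G // ∀ n : G, ConjClasses.mk n = C → n ∈ L}, rep C.1 ∈ L :=
    fun C => C.2 _ (mk_rep C.1)
  have hcs : ∀ C : {C : ConjClasses G // ∀ n : G, ConjClasses.mk n = C → n ∈ L}, cs (rep C.1) ∈ VL L := by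
    intro C g hg
    rw [cs_coeff, if_neg]
    intro hcon
    exact hg (C.2 g (by rw [← mk_rep C.1, ConjClasses.mk_eq_mk_iff_isConj]; exact hcon.symm))
  let F : VL L →ₗ[ℂ] ({C : ConjClasses G // ∀ n : G, ConjClasses.mk n = C → n ∈ L} → ℂ) :=
    { toFun := fun z C => ((z : ZC G) : MonoidAlgebra ℂ G).coeff (rep C.1)
      map_add' := fun a b => by
        funext C
        show (((a + b : VL L) : ZC G) : MonoidAlgebra ℂ G).coeff (rep C.1) = _
        rw [Submodule.coe_add, Subalgebra.coe_add, MonoidAlgebra.coeff_add, Finsupp.add_apply]; rfl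
      map_smul' := fun c z => by
        funext C
        show (((c • z : VL L) : ZC G) : MonoidAlgebra ℂ G).coeff (rep C.1) = _
        rw [Submodule.coe_smul, Subalgebra.coe_smul, MonoidAlgebra.coeff_smul_apply]; rfl }
  have hF : Function.Bijective F := by
    constructor
    · intro a b hab
      apply Subtype.ext
      apply Subtype.ext
      apply ext_coeff
      intro g
      by_cases hg : g ∈ L
      · have h1 := congrFun hab ⟨ConjClasses.mk g, fun n hn => by
          rw [ConjClasses.mk_eq_mk_iff_isConj] at hn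
          obtain ⟨c, rfl⟩ := isConj_iff.1 hn.symm
          exact hL.conj_mem _ hg c⟩
        have h2 : ((a : ZC G) : MonoidAlgebra ℂ G).coeff (rep (ConjClasses.mk g)) =
          ((b : ZC G) : MonoidAlgebra ℂ G).coeff (rep (ConjClasses.mk g)) := h1
        rw [← center_class (a : ZC G) (isConj_rep g), h2, center_class (b : ZC G) (isConj_rep g)]
      · rw [a.2 g hg, b.2 g hg]
    · intro v
      refine ⟨∑ C, v C • (⟨cs (rep C.1), hcs C⟩ : VL L), ?_⟩
      rw [map_sum]
      funext C
      rw [Finset.sum_apply, Finset.sum_eq_single C]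
      · rw [map_smul]
        show v C • ((cs (rep C.1) : ZC G) : MonoidAlgebra ℂ G).coeff (rep C.1) = v C
        rw [cs_coeff, if_pos (IsConj.refl _), smul_eq_mul, mul_one]
      · intro D _ hD
        rw [map_smul]
        show v D • ((cs (rep D.1) : ZC G) : MonoidAlgebra ℂ G).coeff (rep C.1) = 0
        rw [cs_coeff, if_neg, smul_zero]
        intro hcon
        apply hD
        apply Subtype.ext
        rw [← mk_rep D.1, ← mk_rep C.1, ConjClasses.mk_eq_mk_iff_isConj]
        exact hcon
      · intro h; exact absurd (Finset.mem_univ _) h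
  rw [(LinearEquiv.ofBijective F hF).finrank_eq, Module.finrank_fintype_fun_eq_card, Nat.card_eq_fintype_card]

theorem finrank_blocks [hp : Fact p.Prime] (hM : IsPModular p M) {P L : Subgroup G} (hPn : P.Normal) (hP : IsPGroup p P)
    (hLn : L.Normal) (hLp : ¬ p ∣ Nat.card L)
    (hL : ∀ g : G, g ∈ L ↔ (¬ p ∣ orderOf g ∧ g ∈ Subgroup.centralizer (P : Set G))) :
    Module.finrank ℂ (VL L) = Nat.card {B : Set (IrrCharacter G) // IsPBlock M B} := by
  classical
  haveI := hM.2.1
  haveI : Fintype L := Fintype.ofFinite _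
  haveI : Fintype (IrrCharacter L) := Fintype.ofFinite _
  haveI : Fintype {B : Set (IrrCharacter G) // IsPBlock M B} := Fintype.ofFinite _
  -- constituents determine blocks
  have key1 : ∀ (χ φ : IrrCharacter G) (θ : IrrCharacter L),
      classInner (fun n : L => (χ : G → ℂ) n) (θ : L → ℂ) ≠ 0 →
      classInner (fun n : L => (φ : G → ℂ) n) (θ : L → ℂ) ≠ 0 → SameBlock M (χ : G → ℂ) (φ : G → ℂ) := by
    intro χ φ θ h1 h2
    apply sameBlock_of_regular hM
    intro g hg
    by_cases hgL : g ∈ L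
    · rw [(constituent_iff hLn χ θ).1 h1 ⟨g, hgL⟩, (constituent_iff hLn φ θ).1 h2 ⟨g, hgL⟩, sub_self]
      exact ideal_zero
    · have hgc : g ∉ Subgroup.centralizer (P : Set G) := fun h => hgL ((hL g).2 ⟨hg, h⟩)
      exact ideal_sub (om_cs_mem_ideal hM P hP χ hgc) (om_cs_mem_ideal hM P hP φ hgc)
  have key2 : ∀ (χ φ : IrrCharacter G), SameBlock M (χ : G → ℂ) (φ : G → ℂ) → ∀ z ∈ VL L, om χ z = om φ z := by
    intro χ φ h z hz
    obtain ⟨θ, hθ, h1⟩ := Cfsg.Agent.H3.CharMult.exists_constituent_res (H := L) χ.2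
    have h2 := same_constituents hLn hM hLp h ⟨θ, hθ⟩ h1
    rw [om_eq_of_support' L ((constituent_iff hLn χ ⟨θ, hθ⟩).1 h1) hz,
      om_eq_of_support' L ((constituent_iff hLn φ ⟨θ, hθ⟩).1 h2) hz]
  have key3 : ∀ B : {B : Set (IrrCharacter G) // IsPBlock M B}, eB B.1 ∈ VL L := by
    rintro ⟨B, hB⟩
    obtain ⟨χ, hχ⟩ := block_nonempty hB
    obtain ⟨θ, hθ, h1⟩ := Cfsg.Agent.H3.CharMult.exists_constituent_res (H := L) χ.2
    have h2 : eB B = fO hLn _ (orbI_stable hLn ⟨θ, hθ⟩) := by
      apply om_injective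
      intro φ
      rw [om_eB]
      split_ifs with hφ
      · have h3 := same_constituents hLn hM hLp (block_sameBlock hB hχ hφ) ⟨θ, hθ⟩ h1
        rw [om_fO_of_mem hLn _ φ (mem_orbI_self hLn ⟨θ, hθ⟩) h3]
      · by_contra hne
        have h3 := constituent_of_om_orb hLn (χ := φ) (θ := ⟨θ, hθ⟩) (fun h => hne h.symm)
        exact hφ (block_mem_of_sameBlock hB hχ (key1 χ φ ⟨θ, hθ⟩ h1 h3))
    show eB B ∈ VL L
    rw [h2]
    intro g hg
    exact fO_coeff_notMem hLn _ hg
  choose c hc using fun B : {B : Set (IrrCharacter G) // IsPBlock M B} => block_nonempty B.2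
  let F : VL L →ₗ[ℂ] ({B : Set (IrrCharacter G) // IsPBlock M B} → ℂ) :=
    { toFun := fun z B => om (c B) (z : ZC G)
      map_add' := fun a b => by funext B; exact map_add _ _ _
      map_smul' := fun r z => by
        funext B
        show om (c B) (r • (z : ZC G)) = _
        rw [map_smul]; rfl }
  have hF : Function.Bijective F := by
    constructor
    · intro a b hab
      apply Subtype.ext
      apply om_injective
      intro χ
      have h1 := congrFun hab ⟨_, isPBlock_blockOf (M := M) χ⟩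
      have h2 := fun z hz => key2 (c ⟨_, isPBlock_blockOf (M := M) χ⟩) χ
        (block_sameBlock (isPBlock_blockOf (M := M) χ) (hc ⟨_, isPBlock_blockOf (M := M) χ⟩) (mem_blockOf_self χ))
        z hz
      rw [← h2 a a.2, ← h2 b b.2]
      exact h1
    · intro v
      refine ⟨∑ B, v B • (⟨eB B.1, key3 B⟩ : VL L), ?_⟩
      rw [map_sum]
      funext B
      rw [Finset.sum_apply, Finset.sum_eq_single B]
      · rw [map_smul]
        show v B • om (c B) (eB B.1) = v B
        rw [om_eB, if_pos (hc B), smul_eq_mul, mul_one]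
      · intro D _ hD
        rw [map_smul]
        show v D • om (c B) (eB D.1) = 0
        rw [om_eB, if_neg, smul_zero]
        intro hcon
        apply hD
        apply Subtype.ext
        exact block_eq_of_mem D.2 B.2 hcon (hc B)
      · intro h; exact absurd (Finset.mem_univ _) h
  rw [(LinearEquiv.ofBijective F hF).finrank_eq, Module.finrank_fintype_fun_eq_card, Nat.card_eq_fintype_card]

theorem card_blocks [hp : Fact p.Prime] (hM : IsPModular p M) {P : Subgroup G} (hPn : P.Normal) (hP : IsPGroup p P)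
    (hidx : ¬ p ∣ P.index) : Nat.card {B : Set (IrrCharacter G) // IsPBlock M B} =
      Nat.card {C : ConjClasses G // ∀ n : G, ConjClasses.mk n = C →
        ¬ p ∣ orderOf n ∧ n ∈ Subgroup.centralizer (P : Set G)} := by
  obtain ⟨L, hLn, hLp, hL⟩ := exists_L hPn hP hidx
  rw [← finrank_blocks hM hPn hP hLn hLp hL, finrank_classes L hLn]
  simp only [hL]

theorem all_max [hp : Fact p.Prime] (hM : IsPModular p M) {P : Subgroup G} (hPn : P.Normal) (hP : IsPGroup p P)
    (hidx : ¬ p ∣ P.index) {B : Set (IrrCharacter G)} (hB : IsPBlock M B) : IsDefectGroup p M B P := by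
  haveI := hM.2.1
  obtain ⟨D, hD⟩ := exists_defectGroup (p := p) hB
  have h1 := normal_le_defectGroup hM hB hD P hP
  have h2 := IsDefectGroup.isPGroup' hD
  have h3 : P = D := (IsPGroup.toSylow hP hidx).3 h2 h1 |>.symm
  rw [h3]; exact hD

theorem main [hp : Fact p.Prime] (hM : IsPModular p M) (P : Sylow p G) :
    Nat.card {B : Set (IrrCharacter G) // IsPBlock M B ∧ IsDefectGroup p M B (P : Subgroup G)} =
      Nat.card {C : ConjClasses (Subgroup.normalizer ((P : Subgroup G) : Set G)) //
        ∀ n : Subgroup.normalizer ((P : Subgroup G) : Set G), ConjClasses.mk n = C →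
          ¬ p ∣ orderOf n ∧ (n : G) ∈ Subgroup.centralizer ((P : Subgroup G) : Set G)} := by
  classical
  haveI := hM.2.1
  haveI : Fintype (Subgroup.normalizer ((P : Subgroup G) : Set G)) := Fintype.ofFinite _
  have hQn : ((P : Subgroup G).subgroupOf (Subgroup.normalizer ((P : Subgroup G) : Set G))).Normal :=
    Subgroup.normal_in_normalizer
  have hQp : IsPGroup p ((P : Subgroup G).subgroupOf (Subgroup.normalizer ((P : Subgroup G) : Set G))) :=
    P.2.comap_of_injective _ Subtype.val_injective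
  have hQi : ¬ p ∣ ((P : Subgroup G).subgroupOf (Subgroup.normalizer ((P : Subgroup G) : Set G))).index := by
    intro h
    apply P.not_dvd_index
    exact h.trans (Subgroup.relIndex_dvd_index_of_le Subgroup.le_normalizer)
  have h1 := card_blocks hM hQn hQp hQi
  have h2 : ∀ n : Subgroup.normalizer ((P : Subgroup G) : Set G),
      n ∈ Subgroup.centralizer (((P : Subgroup G).subgroupOf (Subgroup.normalizer ((P : Subgroup G) : Set G)) :
        Subgroup (Subgroup.normalizer ((P : Subgroup G) : Set G))) :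
          Set (Subgroup.normalizer ((P : Subgroup G) : Set G))) ↔
      (n : G) ∈ Subgroup.centralizer ((P : Subgroup G) : Set G) := by
    intro n
    rw [Subgroup.mem_centralizer_iff, Subgroup.mem_centralizer_iff]
    constructor
    · intro h x hx
      exact congrArg Subtype.val (h ⟨x, Subgroup.le_normalizer hx⟩ hx)
    · intro h x hx
      exact Subtype.ext (h x hx)
  simp only [h2] at h1
  rw [← h1]
  choose F hF using fun B : {B : Set (IrrCharacter G) // IsPBlock M B ∧ IsDefectGroup p M B (P : Subgroup G)} =>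
    first_main_down hM P.2 B.2.1 B.2.2
  refine Nat.card_congr (Equiv.ofBijective (fun B => (⟨F B, (hF B).1⟩ :
    {b : Set (IrrCharacter (Subgroup.normalizer ((P : Subgroup G) : Set G))) // IsPBlock M b})) ⟨?_, ?_⟩)
  · intro B B' h
    have h3 : F B = F B' := congrArg Subtype.val h
    apply Subtype.ext
    have h4 := (hF B).2.2
    rw [h3] at h4
    exact isInducedBlock_unique _ h4 (hF B').2.2
  · rintro ⟨b, hb⟩
    have hbD := all_max hM hQn hQp hQi hb
    obtain ⟨B, hB, hBD, hind⟩ := first_main_up hM P.2 hb hbD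
    refine ⟨⟨B, hB, hBD⟩, ?_⟩
    apply Subtype.ext
    exact first_main_unique hM P.2 (hF ⟨B, hB, hBD⟩).2.2 hind (hF ⟨B, hB, hBD⟩).2.1 hbD

end Cfsg.Agent.H10.BlockMax
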