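import Mathlib
import Cfsg.Prelude.Def_Blocks
import Cfsg.Agent.H10_BlockKer
import Cfsg.Agent.H3_CharGal
import Cfsg.Agent.H3_Burnside
import Cfsg.Agent.H3_CharQuot
import Cfsg.Agent.H22_PSolv
import Cfsg.Agent.H11_Cores

/-!
H10_BlockPS: blocks of p-solvable groups with trivial p-prime core; prime power degrees in the principal block.
-/

set_option autoImplicit false
set_option linter.style.haveILetI false
set_option linter.unusedSectionVars false

namespace Cfsg.Agent.H10.BlockPS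

open Cfsg Cfsg.Agent.H3.CharIrr Cfsg.Agent.H3.CharComplete Cfsg.Agent.H3.CharInd
  Cfsg.Agent.H3.CharBasic Cfsg.Agent.H10.BlockLoc
  Cfsg.Agent.H10.Char Cfsg.Agent.H10.BlockAlg Cfsg.Agent.H10.BlockIdem Cfsg.Agent.H10.BlockNormal
  Cfsg.Agent.H10.BlockKer

variable {G : Type*} [Group G] [Fintype G] {p : ℕ} {M : Ideal AlgInt}

/-- central characters on elements of a normal p-subgroup -/
theorem om_normal_p (hM : IsPModular p M) (χ : IrrCharacter G) (N : Subgroup G) [hN : N.Normal] (hNp : IsPGroup p N)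
    {g : G} (hg : g ∈ N) :
    MemLocalIdeal M (om χ (cs g) - ((Subgroup.centralizer ({g} : Set G)).index : ℂ)) := by
  haveI := hM.2.1
  obtain ⟨ψ, hψ, hker⟩ := exists_mem_ker hM (isPBlock_blockOf χ) N hNp
  have h1 := om_sub_mem_of_sameBlock (M := M) (χ := χ) (ψ := ψ) hψ (cs_mem_ZI g)
  have h2 : om ψ (cs g) = ((Subgroup.centralizer ({g} : Set G)).index : ℂ) := by
    rw [om_cs, centralChar, hker g hg, mul_div_assoc, div_self (irr_one_ne ψ.2), mul_one]
  rwa [h2] at h1

theorem one_block (hM : IsPModular p M) [hp : Fact p.Prime] (hsolv : IsPSolvable p G) (hcore : pPrimeCore p G = ⊥)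
    (χ ψ : IrrCharacter G) : SameBlock M (χ : G → ℂ) (ψ : G → ℂ) := by
  haveI := hM.2.1
  intro g
  have hC := Cfsg.Agent.H22.PSolv.centralizer_pCore_le hsolv hcore
  haveI hnorm : (pCore p G).Normal := inferInstance
  have hpg : IsPGroup p (pCore p G) := Cfsg.Agent.H11.Cores.pCore_isPGroup p
  rw [← om_cs, ← om_cs]
  by_cases hg : g ∈ Subgroup.centralizer (pCore p G : Set G)
  · have h1 := om_normal_p hM χ (pCore p G) hpg (hC hg)
    have h2 := om_normal_p hM ψ (pCore p G) hpg (hC hg)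
    have := ideal_sub h1 h2
    rwa [sub_sub_sub_cancel_right] at this
  · exact ideal_sub (om_cs_mem_ideal hM (pCore p G) hpg χ hg) (om_cs_mem_ideal hM (pCore p G) hpg ψ hg)

theorem triv_of_degree (hM : IsPModular p M) [hp : Fact p.Prime] [IsSimpleGroup G]
    (hna : ∃ a b : G, a * b ≠ b * a) (χ : IrrCharacter G) (hχ : χ ∈ principalBlock M G) (k : ℕ)
    (hdeg : (χ : G → ℂ) 1 = (p : ℂ) ^ k) : (χ : G → ℂ) = fun _ => 1 := by
  classical
  haveI := hM.2.1
  by_contra hne
  obtain ⟨n, ρ, hρ, hρχ'⟩ := χ.2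
  have hρχ : (χ : G → ℂ) = ρ.character := hρχ'.symm
  have hinj := Cfsg.Agent.H3.Burnside.injective_of_simple ρ hρ (by rw [← hρχ]; exact hne)
  have hker : ∀ g : G, (χ : G → ℂ) g = (χ : G → ℂ) 1 → g = 1 := by
    intro g hg
    apply hinj
    rw [map_one]
    rw [hρχ] at hg
    have := (Cfsg.Agent.H3.CharQuot.rep_eq_one_iff ρ g).2 hg
    exact this
  have hk0 : k ≠ 0 := by
    rintro rfl
    rw [pow_zero] at hdeg
    obtain ⟨f, hf⟩ := IsChar.hom_of_one (isChar_of_irr χ.2) hdeg
    obtain ⟨a, b, hab⟩ := hna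
    apply hab
    have h1 := hker (a * b * (b * a)⁻¹) (by
      have h2 : f ((b * a) * (b * a)⁻¹) = 1 := by rw [mul_inv_cancel, map_one]
      rw [hf, hdeg, map_mul, map_mul, mul_comm (f a), ← map_mul, ← map_mul, h2])
    rwa [mul_inv_eq_one] at h1
  have hpG : p ∣ Nat.card G := by
    obtain ⟨n', -, h1, h2⟩ := Cfsg.Agent.H3.CharInt.IsIrr.dvd_card χ.2
    rw [hdeg] at h1
    have h3 : p ^ k = n' := by exact_mod_cast h1
    exact (dvd_pow_self p hk0).trans (h3 ▸ h2)
  obtain ⟨P⟩ : Nonempty (Sylow p G) := inferInstance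
  haveI : Nontrivial (P : Subgroup G) := by
    rw [← Finite.one_lt_card_iff_nontrivial]
    have h1 : p ∣ Nat.card (P : Subgroup G) := P.dvd_card_of_dvd_card hpG
    exact hp.out.one_lt.trans_le (Nat.le_of_dvd Nat.card_pos h1)
  haveI := P.isPGroup'.center_nontrivial
  obtain ⟨⟨x, hx⟩, hx1⟩ := exists_ne (1 : Subgroup.center (P : Subgroup G))
  have hx1' : (x : G) ≠ 1 := by
    intro h
    apply hx1
    apply Subtype.ext
    apply Subtype.ext
    exact h
  have hPC : (P : Subgroup G) ≤ Subgroup.centralizer ({(x : G)} : Set G) := by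
    intro y hy
    rw [Subgroup.mem_centralizer_singleton_iff]
    have := Subgroup.mem_center_iff.1 hx ⟨y, hy⟩
    exact congrArg Subtype.val this
  have hidx : ¬ p ∣ (Subgroup.centralizer ({(x : G)} : Set G)).index := by
    intro h
    exact P.not_dvd_index (h.trans (Subgroup.index_dvd_of_le hPC))
  have hrank : Module.finrank ℂ (Fin n → ℂ) = p ^ k := by
    have h1 : ((Module.finrank ℂ (Fin n → ℂ) : ℕ) : ℂ) = ((p ^ k : ℕ) : ℂ) := by
      rw [← Representation.char_one ρ, ← hρχ, hdeg]; push_cast; rfl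
    exact_mod_cast h1
  have hcop : Nat.Coprime (Module.finrank ℂ (Fin n → ℂ)) (Subgroup.centralizer ({(x : G)} : Set G)).index := by
    rw [hrank]
    exact Nat.Coprime.pow_left k ((Nat.Prime.coprime_iff_not_dvd hp.out).2 hidx)
  rcases Cfsg.Agent.H3.CharGal.burnside_lemma ρ hρ (x : G) hcop with h0 | h0
  · have h1 : SameBlock M ((triv G : IrrCharacter G) : G → ℂ) (χ : G → ℂ) := hχ
    have h2 := h1 (x : G)
    rw [centralChar, centralChar, triv_coe, triv_coe, hρχ, h0, mul_zero, zero_div, sub_zero, mul_one, div_one] at h2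
    exact hidx ((ideal_natCast_iff hM _).1 h2)
  · have h1 : ‖(χ : G → ℂ) x‖ = ‖(χ : G → ℂ) 1‖ := by
      rw [hρχ, h0, Representation.char_one, Complex.norm_natCast]
    have h2 : ∀ g : G, (x : G) * g * (x : G)⁻¹ * g⁻¹ = 1 := fun g =>
      hker _ (Cfsg.Agent.H3.CharQuot.IsChar.comm_of_norm (isChar_of_irr χ.2) h1 g)
    have h3 : (x : G) ∈ Subgroup.center G := by
      rw [Subgroup.mem_center_iff]
      intro g
      have := h2 g
      rw [mul_inv_eq_one, mul_inv_eq_iff_eq_mul] at this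
      exact this.symm
    obtain ⟨a, b, hab⟩ := hna
    exact hab (Cfsg.Agent.H3.Burnside.comm_of_center_ne_bot hx1' h3 a b)

end Cfsg.Agent.H10.BlockPS
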