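import Mathlib

set_option autoImplicit false

/-! Minimal nonsolvable groups (pieces L6, L7 of S3900). -/

namespace Cfsg.Agent.H10.CVL6

theorem solv_of {G : Type*} [Group G] (N : Subgroup G) [N.Normal] (h1 : Group.IsSolvable N) (h2 : Group.IsSolvable (G ⧸ N)) :
    Group.IsSolvable G := by
  haveI := h1
  haveI := h2
  refine Group.isSolvable_of_ker_le_range (N.subtype) (QuotientGroup.mk' N) ?_
  rw [QuotientGroup.ker_mk', Subgroup.range_subtype]

theorem L6 {G : Type*} [Group G] [Finite G] (hsol : ∀ H : Subgroup G, H ≠ ⊤ → Group.IsSolvable H)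
    (hns : ¬ Group.IsSolvable G) (hcen : ∀ N : Subgroup G, N.Normal → N ≠ ⊤ → N ≤ Subgroup.center G) :
    IsSimpleGroup (G ⧸ Subgroup.center G) := by
  have hZ : Subgroup.center G ≠ ⊤ := by
    intro h
    apply hns
    apply Group.isSolvable_of_comm
    intro a b
    have : b ∈ Subgroup.center G := by rw [h]; exact Subgroup.mem_top _
    exact Subgroup.mem_center_iff.1 this a
  haveI : Nontrivial (G ⧸ Subgroup.center G) := by
    rw [← not_subsingleton_iff_nontrivial]
    intro h
    exact hZ (QuotientGroup.subgroup_eq_top_of_subsingleton _ h)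
  refine ⟨fun K hK => ?_⟩
  by_cases hKt : K = ⊤
  · exact Or.inr hKt
  left
  have h1 : K.comap (QuotientGroup.mk' (Subgroup.center G)) ≠ ⊤ := by
    intro h
    apply hKt
    rw [eq_top_iff]
    intro q _
    obtain ⟨g, rfl⟩ := QuotientGroup.mk'_surjective (Subgroup.center G) q
    have : g ∈ K.comap (QuotientGroup.mk' (Subgroup.center G)) := by rw [h]; exact Subgroup.mem_top _
    exact this
  have h2 := hcen _ (hK.comap _) h1
  rw [eq_bot_iff]
  intro q hq
  obtain ⟨g, rfl⟩ := QuotientGroup.mk'_surjective (Subgroup.center G) q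
  rw [Subgroup.mem_bot, QuotientGroup.mk'_apply, QuotientGroup.eq_one_iff]
  exact h2 hq

theorem L7 {G : Type*} [Group G] [Finite G] (hsol : ∀ H : Subgroup G, H ≠ ⊤ → Group.IsSolvable H)
    (hns : ¬ Group.IsSolvable G) : ∃ F : Subgroup G, F.Normal ∧ F ≠ ⊤ ∧ Group.IsNilpotent F ∧ ∀ N : Subgroup G, N.Normal → N ≠ ⊤ → N ≤ F := by
  haveI : Nontrivial G := by
    rw [← not_subsingleton_iff_nontrivial]
    intro h
    exact hns inferInstance
  refine ⟨frattini G, inferInstance, ?_, frattini_nilpotent, ?_⟩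
  · intro h
    obtain ⟨M, hM, -⟩ := (eq_top_or_exists_le_coatom (⊥ : Subgroup G)).resolve_left bot_ne_top
    exact hM.1 (top_le_iff.1 (h ▸ frattini_le_coatom hM))
  · intro N hN hNt
    rw [frattini, Order.radical]
    refine le_iInf₂ fun M hM => ?_
    by_contra hle
    have h1 : N ⊔ M = ⊤ := by
      apply hM.2
      exact lt_of_le_of_ne le_sup_right (fun h => hle (by rw [h]; exact le_sup_left))
    apply hns
    haveI := hN
    apply solv_of N (hsol N hNt)
    haveI := hsol M hM.1
    have hsurj : Function.Surjective ((QuotientGroup.mk' N).comp M.subtype) := by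
      intro q
      obtain ⟨g, rfl⟩ := QuotientGroup.mk'_surjective N q
      have hg : g ∈ N ⊔ M := by rw [h1]; exact Subgroup.mem_top _
      obtain ⟨n, hn, m, hm, rfl⟩ := Subgroup.mem_sup_of_normal_left.1 hg
      refine ⟨⟨m, hm⟩, ?_⟩
      show QuotientGroup.mk' N m = QuotientGroup.mk' N (n * m)
      rw [map_mul]
      have : QuotientGroup.mk' N n = 1 := by rw [QuotientGroup.mk'_apply, QuotientGroup.eq_one_iff]; exact hn
      rw [this, one_mul]
    exact Group.isSolvable_of_surjective hsurj

end Cfsg.Agent.H10.CVL6
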