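import Mathlib
import Cfsg.Prelude.Def_Characters
import Cfsg.Prelude.Def_OddOrderLocal
import Cfsg.Agent.H3_CharInd
import Cfsg.Agent.H3_CharInt
import Cfsg.Agent.H3_CharMult

/-!
H10_ClsMul: the product formula `χ(a) χ(b) |G| = χ(1) ∑ χ(a b^g)`, and Peterfalvi (6.7).
-/

set_option autoImplicit false
set_option linter.style.haveILetI false
set_option linter.unusedSectionVars false

namespace Cfsg.Agent.H10.ClsMul

open Cfsg Cfsg.Agent.H3.CharBasic Cfsg.Agent.H3.CharIrr Cfsg.Agent.H3.CharComplete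
  Cfsg.Agent.H3.CharMult Cfsg.Agent.H3.CharInd Cfsg.Agent.H3.CharInt
open scoped ComplexConjugate

variable {G : Type*} [Group G] [Fintype G]

theorem conj_sum {χ : G → ℂ} (hχ : IsIrrCharacter G χ) (a b : G) :
    χ 1 * ∑ g : G, χ (a * (g * b * g⁻¹)) = (Nat.card G : ℂ) * (χ a * χ b) := by
  classical
  obtain ⟨n, ρ, hρ, rfl⟩ := hχ
  let φ : G → ℂ := fun x => ∑ g : G, if g * b * g⁻¹ = x then (1 : ℂ) else 0
  have hφ : IsClassFunction G φ := by
    intro x y
    show (∑ g : G, if g * b * g⁻¹ = y * x * y⁻¹ then (1 : ℂ) else 0) = ∑ g : G, if g * b * g⁻¹ = x then (1 : ℂ) else 0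
    rw [← Equiv.sum_comp (Equiv.mulLeft y)]
    refine Finset.sum_congr rfl fun g _ => ?_
    have : (Equiv.mulLeft y g * b * (Equiv.mulLeft y g)⁻¹ = y * x * y⁻¹) ↔ g * b * g⁻¹ = x := by
      simp only [Equiv.coe_mulLeft]
      constructor
      · intro h
        have h1 : y * (g * b * g⁻¹) * y⁻¹ = y * x * y⁻¹ := by rw [← h]; group
        exact mul_left_cancel (mul_right_cancel h1)
      · intro h; rw [← h]; group
    simp only [this]
  have h1 : ∑ g : G, φ g • ρ g = ((∑ g : G, φ g * ρ.character g) / (Module.finrank ℂ (Fin n → ℂ) : ℂ)) • LinearMap.id :=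
    op_irr φ hφ ρ hρ
  have h2 : ∀ f : G → ℂ, ∑ x : G, φ x * f x = ∑ g : G, f (g * b * g⁻¹) := by
    intro f
    simp only [φ, Finset.sum_mul]
    rw [Finset.sum_comm]
    refine Finset.sum_congr rfl fun g _ => ?_
    simp
  have h3 : ∑ g : G, φ g • ρ g = ∑ g : G, ρ (g * b * g⁻¹) := by
    simp only [φ, Finset.sum_smul]
    rw [Finset.sum_comm]
    refine Finset.sum_congr rfl fun g _ => ?_
    simp
  have hcl := IsChar.isClass (isCharacter_of_rep ρ)
  rw [h3, h2, Finset.sum_congr rfl (fun g _ => hcl b g), Finset.sum_const, Finset.card_univ, nsmul_eq_mul, ← Nat.card_eq_fintype_card] at h1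
  have h4 := congrArg (fun T => LinearMap.trace ℂ _ (ρ a * T)) h1
  simp only [Finset.mul_sum, map_sum, mul_smul_comm, map_smul, smul_eq_mul] at h4
  have h5 : ∀ g : G, LinearMap.trace ℂ (Fin n → ℂ) (ρ a * ρ (g * b * g⁻¹)) = ρ.character (a * (g * b * g⁻¹)) := by
    intro g
    rw [← map_mul]; rfl
  rw [Finset.sum_congr rfl (fun g _ => h5 g)] at h4
  have h6 : LinearMap.trace ℂ (Fin n → ℂ) (ρ a * LinearMap.id) = ρ.character a := by
    show LinearMap.trace ℂ (Fin n → ℂ) (ρ a ∘ₗ LinearMap.id) = _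
    rw [LinearMap.comp_id]; rfl
  rw [h6] at h4
  have h7 : ρ.character 1 ≠ 0 := IsIrr.one_ne_zero (isIrr_of_rep ρ hρ)
  rw [Representation.char_one] at h7 ⊢
  rw [h4]
  field_simp

/-- sums of invariant functions under a free action -/
theorem free_sum {H X : Type*} [Group H] [Finite H] [Fintype X] [MulAction H X]
    (hfree : ∀ (h : H) (x : X), h • x = x → h = 1) (f : X → ℂ) (hf : ∀ (h : H) (x : X), f (h • x) = f x)
    (hint : ∀ x, IsIntegral ℤ (f x)) : ∃ β : ℂ, IsIntegral ℤ β ∧ ∑ x : X, f x = (Nat.card H : ℂ) * β := by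
  classical
  haveI := Fintype.ofFinite H
  let Ω := MulAction.orbitRel.Quotient H X
  haveI : Fintype Ω := Fintype.ofFinite Ω
  refine ⟨∑ ω : Ω, f ω.out, IsIntegral.sum _ (fun ω _ => hint _), ?_⟩
  have h1 : ∑ x : X, f x = ∑ ω : Ω, ∑ x ∈ Finset.univ.filter (fun x : X => (Quotient.mk'' x : Ω) = ω), f x :=
    (Finset.sum_fiberwise _ _ _).symm
  rw [h1, Finset.mul_sum]
  refine Finset.sum_congr rfl fun ω _ => ?_
  have h2 : ∀ x ∈ Finset.univ.filter (fun x : X => (Quotient.mk'' x : Ω) = ω), f x = f ω.out := by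
    intro x hx
    have h3 := (Finset.mem_filter.1 hx).2
    have h4 : (Quotient.mk'' x : Ω) = Quotient.mk'' ω.out := by rw [h3]; exact (Quotient.out_eq' ω).symm
    have h5 : (MulAction.orbitRel H X) x ω.out := Quotient.exact' h4
    rw [MulAction.orbitRel_apply, MulAction.mem_orbit_iff] at h5
    obtain ⟨h, hh⟩ := h5
    rw [← hh, hf]
  rw [Finset.sum_congr rfl h2, Finset.sum_const, nsmul_eq_mul]
  congr 2
  have h6 : (Finset.univ.filter (fun x : X => (Quotient.mk'' x : Ω) = ω)).card = Fintype.card H := by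
    refine Finset.card_bij' (s := (Finset.univ.filter (fun x : X => (Quotient.mk'' x : Ω) = ω))) (t := (Finset.univ : Finset H))
      (fun x hx => Classical.choose (show ∃ h : H, h • ω.out = x from ?_)) (fun h _ => h • ω.out) ?_ ?_ ?_ ?_
    · have h3 := (Finset.mem_filter.1 hx).2
      have h4 : (Quotient.mk'' x : Ω) = Quotient.mk'' ω.out := by rw [h3]; exact (Quotient.out_eq' ω).symm
      have h5 : (MulAction.orbitRel H X) x ω.out := Quotient.exact' h4
      rw [MulAction.orbitRel_apply, MulAction.mem_orbit_iff] at h5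
      exact h5
    · intro x hx; exact Finset.mem_univ _
    · intro h _
      rw [Finset.mem_filter]
      refine ⟨Finset.mem_univ _, ?_⟩
      have : (Quotient.mk'' (h • ω.out) : Ω) = Quotient.mk'' ω.out :=
        Quotient.sound' (by
          show (MulAction.orbitRel H X) (h • ω.out) ω.out
          rw [MulAction.orbitRel_apply]; exact MulAction.mem_orbit _ _)
      rw [this]; exact Quotient.out_eq' ω
    · intro x hx
      exact Classical.choose_spec (show ∃ h : H, h • ω.out = x from by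
        have h3 := (Finset.mem_filter.1 hx).2
        have h4 : (Quotient.mk'' x : Ω) = Quotient.mk'' ω.out := by rw [h3]; exact (Quotient.out_eq' ω).symm
        have h5 : (MulAction.orbitRel H X) x ω.out := Quotient.exact' h4
        rw [MulAction.orbitRel_apply, MulAction.mem_orbit_iff] at h5
        exact h5)
    · intro h _
      have hex : ∃ h' : H, h' • ω.out = h • ω.out := ⟨h, rfl⟩
      have h7 := Classical.choose_spec hex
      have h8 : (h⁻¹ * Classical.choose hex) • ω.out = ω.out := by rw [mul_smul, h7, inv_smul_smul]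
      have h9 := hfree _ _ h8
      exact (inv_mul_eq_one.1 h9).symm
  rw [h6, Nat.card_eq_fintype_card]

theorem odd_inv {x g : G} (hx : Odd (orderOf x)) (hg : Odd (orderOf g)) (h : g * x * g⁻¹ = x⁻¹) : x = 1 := by
  have h2 : g ^ 2 * x * (g ^ 2)⁻¹ = x := by
    have : g ^ 2 * x * (g ^ 2)⁻¹ = g * (g * x * g⁻¹) * g⁻¹ := by rw [pow_two]; group
    rw [this, h]
    have h3 : g * x⁻¹ * g⁻¹ = (g * x * g⁻¹)⁻¹ := by group
    rw [h3, h, inv_inv]
  have hc : Commute (g ^ 2) x := mul_inv_eq_iff_eq_mul.1 h2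
  obtain ⟨r, hr⟩ := hg
  have h4 : (g ^ 2) ^ (r + 1) = g := by
    rw [← pow_mul]
    have : 2 * (r + 1) = orderOf g + 1 := by omega
    rw [this, pow_add, pow_orderOf_eq_one, one_mul, pow_one]
  have hc2 : Commute g x := by
    have := hc.pow_left (r + 1)
    rwa [h4] at this
  rw [hc2.eq, mul_assoc, mul_inv_cancel, mul_one] at h
  have h5 : x ^ 2 = 1 := by
    rw [pow_two]; nth_rewrite 2 [h]; exact mul_inv_cancel x
  have h6 : orderOf x ∣ 2 := orderOf_dvd_of_pow_eq_one h5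
  rcases (Nat.dvd_prime Nat.prime_two).1 h6 with h7 | h7
  · exact orderOf_eq_one_iff.1 h7
  · rw [h7] at hx; exact absurd hx (by decide)

theorem const_int {ψ : G → ℂ} (hψ : IsIrrCharacter G ψ) (Z : Subgroup G) (hZ1 : Z ≠ ⊥)
    (hconst : ∀ z ∈ Z, ∀ z' ∈ Z, z ≠ 1 → z' ≠ 1 → ψ z = ψ z') (z : G) (hz : z ∈ Z) (hz1 : z ≠ 1) :
    ∃ n : ℤ, ψ z = n := by
  classical
  haveI := Fintype.ofFinite Z
  obtain ⟨d, hd, ed⟩ := IsIrr.one_eq_nat hψ
  obtain ⟨m, hm⟩ := ci_char_nat (IsChar.res (IsIrr.isCharacter hψ) Z) (IsIrr.isCharacter (isIrr_one (G := Z)))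
  have h1 : ∑ x : Z, ψ x = (Nat.card Z : ℂ) * m := by
    rw [classInner] at hm
    have h0 : (Nat.card Z : ℂ) ≠ 0 := Nat.cast_ne_zero.2 Nat.card_pos.ne'
    rw [← hm]
    field_simp
    simp
  have h2 : ∑ x : Z, ψ x = d + ((Nat.card Z : ℂ) - 1) * ψ z := by
    rw [← Finset.add_sum_erase _ _ (Finset.mem_univ (1 : Z))]
    have h3 : ∀ x ∈ (Finset.univ : Finset Z).erase 1, ψ x = ψ z := by
      intro x hx
      have hx1 : x ≠ 1 := (Finset.mem_erase.1 hx).1
      exact hconst x x.2 z hz (fun h => hx1 (Subtype.ext h)) hz1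
    rw [Finset.sum_congr rfl h3, Finset.sum_const, Finset.card_erase_of_mem (Finset.mem_univ _), Finset.card_univ,
      nsmul_eq_mul, Nat.cast_sub Fintype.card_pos, Nat.cast_one, Nat.card_eq_fintype_card]
    simp only [Subgroup.coe_one]
    rw [ed]
  have hc1 : 1 < Nat.card Z := by rw [Subgroup.one_lt_card_iff_ne_bot]; exact hZ1
  have hne : ((Nat.card Z : ℂ) - 1) ≠ 0 := by
    intro h
    have h4 : (Nat.card Z : ℂ) = ((1 : ℕ) : ℂ) := by rw [Nat.cast_one]; exact sub_eq_zero.1 h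
    have h5 : Nat.card Z = 1 := by exact_mod_cast h4
    omega
  have h6 : ψ z = (((Nat.card Z * m - d : ℚ) / (Nat.card Z - 1 : ℚ) : ℚ) : ℂ) := by
    push_cast
    rw [eq_div_iff hne]
    linear_combination (-1 : ℂ) * h2 + h1
  have hint : IsIntegral ℤ (ψ z) := IsChar.isIntegral (IsIrr.isCharacter hψ) z
  rw [h6] at hint
  obtain ⟨n, hn⟩ := exists_int_of_isIntegral hint
  refine ⟨n, ?_⟩
  rw [h6, hn]; simp

/-- Peterfalvi (6.7) -/
theorem pf67 (p : ℕ) [Fact p.Prime] (P : Sylow p G) (hTI : IsTISubset ((P : Subgroup G) : Set G))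
    (hodd : Odd (Nat.card (Subgroup.normalizer ((P : Subgroup G) : Set G)))) (Z : Subgroup G) (hZ1 : Z ≠ ⊥) (hZP : Z ≤ P)
    (hZn : ∀ x ∈ Subgroup.normalizer ((P : Subgroup G) : Set G), ∀ z ∈ Z, x * z * x⁻¹ ∈ Z)
    (hZc : ∀ z ∈ Z, ∀ y ∈ (P : Subgroup G), z * y = y * z) (ψ : G → ℂ) (hψ : IsIrrCharacter G ψ)
    (hconst : ∀ z ∈ Z, ∀ z' ∈ Z, z ≠ 1 → z' ≠ 1 → ψ z = ψ z') (z : G) (hz : z ∈ Z) (hz1 : z ≠ 1) :
    ∃ n d : ℤ, ψ z = n ∧ ψ 1 = d ∧ (Nat.card (P : Subgroup G) : ℤ) ∣ d - n := by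
  classical
  obtain ⟨c, hc⟩ := const_int hψ Z hZ1 hconst z hz hz1
  obtain ⟨d, hd, ed⟩ := IsIrr.one_eq_nat hψ
  refine ⟨c, d, hc, by rw [ed]; simp, ?_⟩
  set N := Subgroup.normalizer ((P : Subgroup G) : Set G) with hN
  have hPN : (P : Subgroup G) ≤ N := Subgroup.le_normalizer
  have hoddN : ∀ x ∈ N, Odd (orderOf x) := by
    intro x hx
    have := orderOf_dvd_natCard (⟨x, hx⟩ : N)
    rw [Subgroup.orderOf_mk] at this
    exact hodd.of_dvd_nat this
  have hclass : IsClassFunction G ψ := IsIrr.isClass hψ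
  -- the outer part
  have hout : ∀ z' ∈ Z, ∃ β : ℂ, IsIntegral ℤ β ∧
      ∑ g ∈ Finset.univ.filter (fun g : G => g ∉ N), ψ (z * (g * z' * g⁻¹)) = (Nat.card (P : Subgroup G) : ℂ) ^ 2 * β := by
    intro z' hz'
    let X := {g : G // g ∉ N}
    letI : MulAction (↥(P : Subgroup G) × ↥(P : Subgroup G)) X :=
      { smul := fun ab g => ⟨(ab.1 : G) * g.1 * (ab.2 : G)⁻¹, fun h => g.2 (by
          have h1 : g.1 = (ab.1 : G)⁻¹ * ((ab.1 : G) * g.1 * (ab.2 : G)⁻¹) * (ab.2 : G) := by group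
          rw [h1]
          exact N.mul_mem (N.mul_mem (N.inv_mem (hPN ab.1.2)) h) (hPN ab.2.2))⟩
        one_smul := fun g => Subtype.ext (by
          show ((1 : (P : Subgroup G)) : G) * g.1 * ((1 : (P : Subgroup G)) : G)⁻¹ = g.1
          simp)
        mul_smul := fun ab ab' g => Subtype.ext (by
          show ((ab.1 * ab'.1 : (P : Subgroup G)) : G) * g.1 * ((ab.2 * ab'.2 : (P : Subgroup G)) : G)⁻¹ =
            (ab.1 : G) * ((ab'.1 : G) * g.1 * (ab'.2 : G)⁻¹) * (ab.2 : G)⁻¹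
          push_cast; group) }
    obtain ⟨β, hβ, eβ⟩ := free_sum (H := ↥(P : Subgroup G) × ↥(P : Subgroup G)) (X := X) (by
      rintro ⟨a, b⟩ ⟨g, hg⟩ h
      have h1 : (a : G) * g * (b : G)⁻¹ = g := congrArg Subtype.val h
      have h2 : (a : G) = g * b * g⁻¹ := by
        have : (a : G) = (a : G) * g * (b : G)⁻¹ * b * g⁻¹ := by group
        rw [this, h1]
      have h3 : (b : G) = 1 := hTI g hg b b.2 (by rw [← h2]; exact a.2)
      have h4 : (a : G) = 1 := by rw [h2, h3]; group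
      exact Prod.ext (Subtype.ext h4) (Subtype.ext h3)) (fun g : X => ψ (z * (g.1 * z' * g.1⁻¹))) (by
      rintro ⟨a, b⟩ ⟨g, hg⟩
      show ψ (z * (((a : G) * g * (b : G)⁻¹) * z' * ((a : G) * g * (b : G)⁻¹)⁻¹)) = ψ (z * (g * z' * g⁻¹))
      have h1 : (b : G)⁻¹ * z' * b = z' := by
        rw [mul_assoc, hZc z' hz' b b.2]; group
      have h2 : (a : G)⁻¹ * z * a = z := by
        rw [mul_assoc, hZc z hz a a.2]; group
      have h3 : z * (((a : G) * g * (b : G)⁻¹) * z' * ((a : G) * g * (b : G)⁻¹)⁻¹) =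
        (a : G) * (((a : G)⁻¹ * z * a) * (g * ((b : G)⁻¹ * z' * b) * g⁻¹)) * (a : G)⁻¹ := by group
      rw [h3, h1, h2, hclass]) (fun x => IsChar.isIntegral (IsIrr.isCharacter hψ) _)
    refine ⟨β, hβ, ?_⟩
    rw [Nat.card_prod, Nat.cast_mul, ← pow_two] at eβ
    rw [← eβ]
    exact Finset.sum_subtype _ (by intro x; simp) _
  -- the inner part
  have hin : ∀ z' ∈ Z, z' ≠ 1 → ∑ g ∈ Finset.univ.filter (fun g : G => g ∈ N), ψ (z * (g * z' * g⁻¹)) =
      (Nat.card N : ℂ) * c + ((Finset.univ.filter (fun g : G => g ∈ N ∧ z * (g * z' * g⁻¹) = 1)).card : ℂ) * (d - c) := by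
    intro z' hz' hz'1
    have h1 : ∀ g ∈ Finset.univ.filter (fun g : G => g ∈ N), ψ (z * (g * z' * g⁻¹)) =
        c + (if z * (g * z' * g⁻¹) = 1 then ((d : ℂ) - c) else 0) := by
      intro g hg
      have hgN := (Finset.mem_filter.1 hg).2
      have hm : z * (g * z' * g⁻¹) ∈ Z := Z.mul_mem hz (hZn g hgN z' hz')
      split_ifs with h
      · rw [h, ed]; ring
      · rw [hconst _ hm z hz h hz1, hc]; ring
    rw [Finset.sum_congr rfl h1, Finset.sum_add_distrib, Finset.sum_const, ← Finset.sum_filter, Finset.sum_const,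
      nsmul_eq_mul, nsmul_eq_mul, Finset.filter_filter]
    congr 3
    rw [Nat.card_eq_fintype_card, Fintype.card_subtype]
  have hsplit : ∀ z' : G, ∑ g : G, ψ (z * (g * z' * g⁻¹)) = ∑ g ∈ Finset.univ.filter (fun g : G => g ∈ N), ψ (z * (g * z' * g⁻¹)) +
      ∑ g ∈ Finset.univ.filter (fun g : G => g ∉ N), ψ (z * (g * z' * g⁻¹)) := fun z' =>
    (Finset.sum_filter_add_sum_filter_not _ _ _).symm
  obtain ⟨β₁, hβ₁, e₁⟩ := hout z hz
  obtain ⟨β₂, hβ₂, e₂⟩ := hout z⁻¹ (Z.inv_mem hz)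
  have hzi : z⁻¹ ≠ 1 := inv_ne_one.2 hz1
  have f₁ := conj_sum hψ z z
  have f₂ := conj_sum hψ z z⁻¹
  rw [hsplit, hin z hz hz1, e₁] at f₁
  rw [hsplit, hin _ (Z.inv_mem hz) hzi, e₂, hconst z⁻¹ (Z.inv_mem hz) z hz hzi hz1] at f₂
  have hzero : (Finset.univ.filter (fun g : G => g ∈ N ∧ z * (g * z * g⁻¹) = 1)).card = 0 := by
    rw [Finset.card_eq_zero, Finset.filter_eq_empty_iff]
    rintro g - ⟨hg, h⟩
    exact hz1 (odd_inv (hoddN z (hPN (hZP hz))) (hoddN g hg) (eq_inv_of_mul_eq_one_right h))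
  have hk : (Finset.univ.filter (fun g : G => g ∈ N ∧ z * (g * z⁻¹ * g⁻¹) = 1)).card =
      Nat.card ↥(N ⊓ Subgroup.centralizer ({z} : Set G)) := by
    rw [Nat.card_eq_fintype_card, Fintype.card_subtype]
    congr 1
    ext g
    simp only [Finset.mem_filter, Finset.mem_univ, true_and, Subgroup.mem_inf, Subgroup.mem_centralizer_singleton_iff]
    refine and_congr_right fun _ => ?_
    constructor
    · intro h
      have h1 : g * z⁻¹ * g⁻¹ = z⁻¹ := eq_inv_of_mul_eq_one_right h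
      have h2 : g * z * g⁻¹ = z := by
        have := congrArg (·⁻¹) h1
        simpa [mul_assoc] using this
      first
        | exact (mul_inv_eq_iff_eq_mul.1 h2)
        | exact (mul_inv_eq_iff_eq_mul.1 h2).symm
    · intro h
      have h2 : g * z * g⁻¹ = z := mul_inv_eq_iff_eq_mul.2 (by first | exact h | exact h.symm)
      have h3 : g * z⁻¹ * g⁻¹ = (g * z * g⁻¹)⁻¹ := by group
      rw [h3, h2, mul_inv_cancel]
  rw [hzero] at f₁
  rw [hk] at f₂
  have hPle : (P : Subgroup G) ≤ N ⊓ Subgroup.centralizer ({z} : Set G) := by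
    refine le_inf hPN ?_
    intro y hy
    rw [Subgroup.mem_centralizer_singleton_iff]
    first
      | exact hZc z hz y hy
      | exact (hZc z hz y hy).symm
  obtain ⟨k', hk'⟩ := Subgroup.card_dvd_of_le hPle
  have hcop : Nat.Coprime (Nat.card (P : Subgroup G)) k' := by
    apply Nat.Coprime.coprime_dvd_right _ P.card_coprime_index
    have h1 : Nat.card (P : Subgroup G) * k' ∣ Nat.card (P : Subgroup G) * (P : Subgroup G).index := by
      rw [← hk', Subgroup.card_mul_index]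
      exact Subgroup.card_subgroup_dvd_card _
    exact (Nat.mul_dvd_mul_iff_left Nat.card_pos).1 h1
  rw [hk'] at f₂
  have hd0 : ψ 1 ≠ 0 := IsIrr.one_ne_zero hψ
  have hP0 : (Nat.card (P : Subgroup G) : ℂ) ≠ 0 := Nat.cast_ne_zero.2 Nat.card_pos.ne'
  have g1 : (k' : ℂ) * ((d : ℂ) - c) = (Nat.card (P : Subgroup G) : ℂ) * (β₁ - β₂) := by
    have h1 := f₁.trans f₂.symm
    have h2 := mul_left_cancel₀ hd0 h1
    push_cast at h2
    have h3 : (Nat.card (P : Subgroup G) : ℂ) * ((k' : ℂ) * ((d : ℂ) - c)) = (Nat.card (P : Subgroup G) : ℂ) * ((Nat.card (P : Subgroup G) : ℂ) * (β₁ - β₂)) := by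
      linear_combination (-1 : ℂ) * h2
    exact mul_left_cancel₀ hP0 h3
  have g2 : (((k' * ((d : ℚ) - c)) / (Nat.card (P : Subgroup G) : ℚ) : ℚ) : ℂ) = β₁ - β₂ := by
    push_cast
    rw [g1]; field_simp
  obtain ⟨m, hm⟩ := exists_int_of_isIntegral (q := (k' * ((d : ℚ) - c)) / (Nat.card (P : Subgroup G) : ℚ)) (by
    rw [g2]; exact hβ₁.sub hβ₂)
  have hP0' : (Nat.card (P : Subgroup G) : ℚ) ≠ 0 := Nat.cast_ne_zero.2 Nat.card_pos.ne'
  rw [div_eq_iff hP0'] at hm
  have g3 : (k' : ℤ) * ((d : ℤ) - c) = m * (Nat.card (P : Subgroup G) : ℤ) := by exact_mod_cast hm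
  have g4 : (Nat.card (P : Subgroup G) : ℤ) ∣ (k' : ℤ) * ((d : ℤ) - c) := ⟨m, by rw [g3, mul_comm]⟩
  exact (Int.isCoprime_iff_gcd_eq_one.2 (by rw [Int.gcd_natCast_natCast]; exact hcop)).dvd_of_dvd_mul_left g4

end Cfsg.Agent.H10.ClsMul
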