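import Mathlib
import Cfsg.Prelude.Def_Characters
import Cfsg.Agent.H3_CharInd
import Cfsg.Agent.H3_Isom

/-!
H10_PM: characters irreducible up to sign.
-/

set_option autoImplicit false
set_option linter.style.haveILetI false
set_option linter.unusedSectionVars false

namespace Cfsg.Agent.H10.PM

open Cfsg Cfsg.Agent.H3.CharIrr Cfsg.Agent.H3.CharComplete Cfsg.Agent.H3.CharInd
  Cfsg.Agent.H3.CharBasic
open scoped ComplexConjugate

variable {G : Type*} [Group G] [Fintype G]

/-- irreducible up to sign -/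
def Pm (f : G → ℂ) : Prop := IsIrrCharacter G f ∨ IsIrrCharacter G (-f)

theorem Pm.of_irr {f : G → ℂ} (h : IsIrrCharacter G f) : Pm f := Or.inl h

theorem Pm.neg {f : G → ℂ} (h : Pm f) : Pm (-f) := by
  rcases h with h | h
  · exact Or.inr (by rwa [neg_neg])
  · exact Or.inl h

theorem Pm.gen {f : G → ℂ} (h : Pm f) : IsGeneralizedCharacter G f := by
  rcases h with h | h
  · exact IsGen.of_irr h
  · have := IsGen.neg (IsGen.of_irr h)
    rwa [neg_neg] at this

theorem Pm.isClass {f : G → ℂ} (h : Pm f) : IsClassFunction G f := IsGen.isClass h.gen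

theorem ci_neg_neg (f g : G → ℂ) : classInner (-f) (-g) = classInner f g := by
  rw [← neg_one_smul ℂ f, ← neg_one_smul ℂ g, ci_smul_left, ci_smul_right]
  simp

theorem Pm.norm {f : G → ℂ} (h : Pm f) : classInner f f = 1 := by
  rcases h with h | h
  · exact ci_irr_self h
  · rw [← ci_neg_neg]; exact ci_irr_self h

theorem Pm.one_ne {f : G → ℂ} (h : Pm f) : f 1 ≠ 0 := by
  rcases h with h | h
  · obtain ⟨m, hm, e⟩ := IsIrr.one_eq_nat h
    rw [e]; exact_mod_cast hm.ne'
  · obtain ⟨m, hm, e⟩ := IsIrr.one_eq_nat h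
    intro h0
    rw [Pi.neg_apply, h0, neg_zero] at e
    exact hm.ne' (by exact_mod_cast e.symm)

theorem ci_neg_left' (f g : G → ℂ) : classInner (-f) g = - classInner f g := by
  rw [← neg_one_smul ℂ f, ci_smul_left]; ring

theorem ci_neg_right' (f g : G → ℂ) : classInner f (-g) = - classInner f g := by
  rw [← neg_one_smul ℂ g, ci_smul_right]; simp

/-- two characters irreducible up to sign are orthogonal or equal up to sign -/
theorem Pm.inner {f g : G → ℂ} (hf : Pm f) (hg : Pm g) :
    classInner f g = 0 ∨ (g = f ∧ classInner f g = 1) ∨ (g = -f ∧ classInner f g = -1) := by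
  classical
  have key : ∀ {a b : G → ℂ}, IsIrrCharacter G a → IsIrrCharacter G b → classInner a b = 0 ∨ a = b := by
    intro a b ha hb
    by_cases h : a = b
    · exact Or.inr h
    · exact Or.inl (ci_irr_ne ha hb h)
  rcases hf with hf | hf <;> rcases hg with hg | hg
  · rcases key hf hg with h | h
    · exact Or.inl h
    · exact Or.inr (Or.inl ⟨h.symm, by rw [← h]; exact ci_irr_self hf⟩)
  · rcases key hf hg with h | h
    · rw [ci_neg_right', neg_eq_zero] at h; exact Or.inl h
    · refine Or.inr (Or.inr ⟨by rw [h, neg_neg], ?_⟩)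
      have : g = -f := by rw [h, neg_neg]
      rw [this, ci_neg_right', ci_irr_self hf]
  · rcases key hf hg with h | h
    · rw [ci_neg_left', neg_eq_zero] at h; exact Or.inl h
    · refine Or.inr (Or.inr ⟨h.symm, ?_⟩)
      rw [← h, ci_neg_right', ← ci_neg_neg, ci_irr_self hf]
  · rcases key hf hg with h | h
    · rw [ci_neg_neg] at h; exact Or.inl h
    · have h2 : g = f := (neg_injective h).symm
      refine Or.inr (Or.inl ⟨h2, ?_⟩)
      rw [h2, ← ci_neg_neg, ci_irr_self hf]

theorem Pm.eq_of_inner {f g : G → ℂ} (hf : Pm f) (hg : Pm g) (h : classInner f g = 1) : g = f := by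
  rcases Pm.inner hf hg with h1 | h1 | h1
  · rw [h1] at h; norm_num at h
  · exact h1.1
  · rw [h1.2] at h; norm_num at h

/-- generalized characters have integral inner products, conj-symmetric -/
theorem gen_comm {f g : G → ℂ} (hf : IsGeneralizedCharacter G f) (hg : IsGeneralizedCharacter G g) :
    classInner f g = classInner g f := by
  obtain ⟨n, hn⟩ := ci_gen_int hg hf
  rw [← ci_conj_symm, hn]; simp

theorem Pm.comm {f g : G → ℂ} (hf : Pm f) (hg : Pm g) : classInner f g = classInner g f :=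
  gen_comm hf.gen hg.gen

/-- norm one generalized characters -/
theorem pm_of_norm_one {f : G → ℂ} (hf : IsGeneralizedCharacter G f) (h : classInner f f = 1) : Pm f := by
  have := isGen_norm_one hf h
  exact this

/-- norm three generalized characters -/
theorem isGen_norm_three {f : G → ℂ} (hf : IsGeneralizedCharacter G f) (h : classInner f f = 3) :
    ∃ a b c : G → ℂ, Pm a ∧ Pm b ∧ Pm c ∧ classInner a b = 0 ∧ classInner a c = 0 ∧ classInner b c = 0 ∧ f = a + b + c := by
  classical
  have h0 : ∃ χ : G → ℂ, IsIrrCharacter G χ ∧ classInner f χ ≠ 0 := by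
    by_contra hne
    push Not at hne
    have := eq_zero_of_orth f (IsGen.isClass hf) hne
    rw [this, ci_zero_left] at h
    norm_num at h
  obtain ⟨χ, hχ, hne⟩ := h0
  obtain ⟨n, hn⟩ := (isGen_iff.mp hf).2 χ hχ
  have hn0 : n ≠ 0 := by rintro rfl; exact hne (by rw [hn]; simp)
  have hg : IsGeneralizedCharacter G (f - (n : ℂ) • χ) :=
    IsGen.sub hf (IsGen.intsmul (IsGen.of_irr hχ) n)
  have hχf : classInner χ f = n := by
    rw [← ci_conj_symm, hn]; simp
  have hnorm : classInner (f - (n : ℂ) • χ) (f - (n : ℂ) • χ) = ((3 - n ^ 2 : ℤ) : ℂ) := by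
    rw [ci_sub_left, ci_sub_right, ci_sub_right, ci_smul_left, ci_smul_left, ci_smul_right,
      ci_smul_right, h, hn, hχf, ci_irr_self hχ]
    push_cast
    simp only [map_intCast]
    ring
  have hnn : (0 : ℤ) ≤ 3 - n ^ 2 := by
    have h1 := ci_self_re_nonneg (f - (n : ℂ) • χ)
    rw [hnorm, Complex.intCast_re] at h1
    exact_mod_cast h1
  have hn1 : n = 1 ∨ n = -1 := by
    have h4 : n ≤ 1 := by nlinarith
    have h5 : -1 ≤ n := by nlinarith
    omega
  have hn2 : n ^ 2 = 1 := by rcases hn1 with h | h <;> rw [h] <;> norm_num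
  rw [hn2] at hnorm
  obtain ⟨a, b, s, t, ha, hb, hab, hs, ht, e⟩ := Cfsg.Agent.H3.Isom.isGen_norm_two hg (by rw [hnorm]; norm_num)
  have pm : ∀ {a : G → ℂ} {s : ℤ}, IsIrrCharacter G a → (s = 1 ∨ s = -1) → Pm ((s : ℂ) • a) := by
    intro a s ha hs
    rcases hs with rfl | rfl
    · simpa using Pm.of_irr ha
    · simpa using (Pm.of_irr ha).neg
  have hgχ : classInner (f - (n : ℂ) • χ) χ = 0 := by
    rw [ci_sub_left, ci_smul_left, hn, ci_irr_self hχ]; ring
  have hsum : classInner ((s : ℂ) • a) χ + classInner ((t : ℂ) • b) χ = 0 := by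
    rw [← ci_add_left, ← e]; exact hgχ
  rw [ci_smul_left, ci_smul_left] at hsum
  have ha0 : a ≠ χ := by
    intro h1
    rw [h1, ci_irr_self hχ, ci_irr_ne hb hχ (fun h2 => hab (h1.trans h2.symm))] at hsum
    rcases hs with rfl | rfl <;> norm_num at hsum
  have hb0 : b ≠ χ := by
    intro h1
    rw [h1, ci_irr_self hχ, ci_irr_ne ha hχ ha0] at hsum
    rcases ht with rfl | rfl <;> norm_num at hsum
  refine ⟨(n : ℂ) • χ, (s : ℂ) • a, (t : ℂ) • b, pm hχ hn1, pm ha hs, pm hb ht, ?_, ?_, ?_, ?_⟩
  · rw [ci_smul_left, ci_smul_right, ci_irr_ne hχ ha ha0.symm]; simp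
  · rw [ci_smul_left, ci_smul_right, ci_irr_ne hχ hb hb0.symm]; simp
  · rw [ci_smul_left, ci_smul_right, ci_irr_ne ha hb hab]; simp
  · rw [add_assoc, ← e]; abel

end Cfsg.Agent.H10.PM
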