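import Mathlib
import Cfsg.Prelude.Def_OddOrderChar
import Cfsg.Agent.H3_CharInd
import Cfsg.Agent.H3_Isom
import Cfsg.Agent.H10_PM

/-!
H10_Coh: linear isometries on character lattices and coherence: basic tools.
-/

set_option autoImplicit false
set_option linter.style.haveILetI false
set_option linter.unusedSectionVars false

namespace Cfsg.Agent.H10.Coh

open Cfsg Cfsg.Agent.H3.CharIrr Cfsg.Agent.H3.CharComplete Cfsg.Agent.H3.CharInd
  Cfsg.Agent.H3.CharBasic Cfsg.Agent.H10.PM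
open scoped ComplexConjugate

section Span

variable {X : Type*}

theorem zs_sub {S : Set (X → ℂ)} {χ : X → ℂ} (h : χ ∈ S) : χ ∈ zspan S := Submodule.subset_span h

theorem zs_add {S : Set (X → ℂ)} {α β : X → ℂ} (ha : α ∈ zspan S) (hb : β ∈ zspan S) : α + β ∈ zspan S :=
  Submodule.add_mem _ ha hb

theorem zs_diff {S : Set (X → ℂ)} {α β : X → ℂ} (ha : α ∈ zspan S) (hb : β ∈ zspan S) : α - β ∈ zspan S :=
  Submodule.sub_mem _ ha hb

theorem zs_neg {S : Set (X → ℂ)} {α : X → ℂ} (ha : α ∈ zspan S) : -α ∈ zspan S :=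
  Submodule.neg_mem _ ha

theorem zs_zsmul {S : Set (X → ℂ)} {α : X → ℂ} (n : ℤ) (ha : α ∈ zspan S) : n • α ∈ zspan S :=
  Submodule.smul_mem _ n ha

theorem zs_zero {S : Set (X → ℂ)} : (0 : X → ℂ) ∈ zspan S := Submodule.zero_mem _

theorem zs_mono {S T : Set (X → ℂ)} (h : S ⊆ T) {α : X → ℂ} (ha : α ∈ zspan S) : α ∈ zspan T :=
  Submodule.span_mono h ha

theorem zs_sum {S : Set (X → ℂ)} {ι : Type*} (s : Finset ι) (f : ι → X → ℂ) (h : ∀ i ∈ s, f i ∈ zspan S) :
    ∑ i ∈ s, f i ∈ zspan S := Submodule.sum_mem _ h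

/-- induction on the span -/
theorem zs_ind {S : Set (X → ℂ)} {p : (X → ℂ) → Prop} (h1 : ∀ χ ∈ S, p χ) (h0 : p 0)
    (hadd : ∀ α ∈ zspan S, ∀ β ∈ zspan S, p α → p β → p (α + β)) (hneg : ∀ α ∈ zspan S, p α → p (-α)) {α : X → ℂ}
    (hα : α ∈ zspan S) : p α := by
  have : α ∈ Submodule.span ℤ S := hα
  induction this using Submodule.span_induction with
  | mem x hx => exact h1 x hx
  | zero => exact h0
  | add x y hx hy ihx ihy => exact hadd x hx y hy (ihx hx) (ihy hy)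
  | smul a x hx ih =>
    have hx' : x ∈ zspan S := hx
    have key : ∀ n : ℕ, p (n • x) := by
      intro n
      induction n with
      | zero => simpa using h0
      | succ n ihn =>
        rw [succ_nsmul]
        exact hadd _ (by
          have := zs_zsmul (n : ℤ) hx'
          simpa using this) _ hx' ihn (ih hx')
    rcases Int.eq_nat_or_neg a with ⟨n, rfl | rfl⟩
    · simpa using key n
    · have h2 := hneg _ (by
        have := zs_zsmul (n : ℤ) hx'
        simpa using this) (key n)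
      simpa using h2

variable [Group X]

theorem zo_iff {S : Set (X → ℂ)} {α : X → ℂ} : α ∈ zspanOn S {1}ᶜ ↔ α ∈ zspan S ∧ α 1 = 0 := by
  constructor
  · rintro ⟨h1, h2⟩
    exact ⟨h1, h2 1 (by simp)⟩
  · rintro ⟨h1, h2⟩
    refine ⟨h1, fun x hx => ?_⟩
    have : x = 1 := by simpa using hx
    rw [this]; exact h2

theorem zo_add {S : Set (X → ℂ)} {α β : X → ℂ} (ha : α ∈ zspanOn S {1}ᶜ) (hb : β ∈ zspanOn S {1}ᶜ) :
    α + β ∈ zspanOn S {1}ᶜ := by
  rw [zo_iff] at *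
  exact ⟨zs_add ha.1 hb.1, by rw [Pi.add_apply, ha.2, hb.2, add_zero]⟩

theorem zo_diff {S : Set (X → ℂ)} {α β : X → ℂ} (ha : α ∈ zspanOn S {1}ᶜ) (hb : β ∈ zspanOn S {1}ᶜ) :
    α - β ∈ zspanOn S {1}ᶜ := by
  rw [zo_iff] at *
  exact ⟨zs_diff ha.1 hb.1, by rw [Pi.sub_apply, ha.2, hb.2, sub_zero]⟩

theorem zo_neg {S : Set (X → ℂ)} {α : X → ℂ} (ha : α ∈ zspanOn S {1}ᶜ) : -α ∈ zspanOn S {1}ᶜ := by
  rw [zo_iff] at *
  exact ⟨zs_neg ha.1, by rw [Pi.neg_apply, ha.2, neg_zero]⟩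

theorem zo_zsmul {S : Set (X → ℂ)} {α : X → ℂ} (n : ℤ) (ha : α ∈ zspanOn S {1}ᶜ) : n • α ∈ zspanOn S {1}ᶜ := by
  rw [zo_iff] at *
  exact ⟨zs_zsmul n ha.1, by rw [Pi.smul_apply, ha.2, smul_zero]⟩

theorem zo_zero {S : Set (X → ℂ)} : (0 : X → ℂ) ∈ zspanOn S {1}ᶜ := by
  rw [zo_iff]; exact ⟨zs_zero, rfl⟩

theorem zo_mono {S T : Set (X → ℂ)} (h : S ⊆ T) {α : X → ℂ} (ha : α ∈ zspanOn S {1}ᶜ) : α ∈ zspanOn T {1}ᶜ :=
  ⟨zs_mono h ha.1, ha.2⟩

end Span

section Iso

variable {L : Type*} [Group L] [Fintype L] {G : Type*} [Group G] [Fintype G]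

theorem zs_gen {S : Set (L → ℂ)} (hS : ∀ χ ∈ S, IsGeneralizedCharacter L χ) {α : L → ℂ} (hα : α ∈ zspan S) :
    IsGeneralizedCharacter L α :=
  zs_ind hS IsGen.zero (fun _ _ _ _ h1 h2 => IsGen.add h1 h2) (fun _ _ h => IsGen.neg h) hα

theorem iso_mono {E F : Set (L → ℂ)} {τ : (L → ℂ) → (G → ℂ)} (h : IsLinearIsometryOn E τ) (hF : F ⊆ E) :
    IsLinearIsometryOn F τ :=
  ⟨fun α hα β hβ => h.1 α (hF hα) β (hF hβ), fun α hα n => h.2.1 α (hF hα) n,
    fun α hα β hβ => h.2.2.1 α (hF hα) β (hF hβ), fun α hα => h.2.2.2 α (hF hα)⟩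

section

variable {E : Set (L → ℂ)} {τ : (L → ℂ) → (G → ℂ)} (h : IsLinearIsometryOn E τ)
include h

theorem iso_zero (h0 : (0 : L → ℂ) ∈ E) : τ 0 = 0 := by
  have := h.2.1 0 h0 0
  simpa using this

theorem iso_neg {α : L → ℂ} (hα : α ∈ E) : τ (-α) = - τ α := by
  have := h.2.1 α hα (-1)
  simpa using this

theorem iso_diff {α β : L → ℂ} (hα : α ∈ E) (hβ : β ∈ E) (hβ' : -β ∈ E) : τ (α - β) = τ α - τ β := by
  rw [sub_eq_add_neg, h.1 α hα _ hβ', iso_neg h hβ, ← sub_eq_add_neg]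

end

theorem iso_sum_zs {S : Set (L → ℂ)} {τ : (L → ℂ) → (G → ℂ)} (h : IsLinearIsometryOn (zspan S) τ) {ι : Type*}
    (s : Finset ι) (f : ι → L → ℂ) (hf : ∀ i ∈ s, f i ∈ zspan S) : τ (∑ i ∈ s, f i) = ∑ i ∈ s, τ (f i) := by
  classical
  induction s using Finset.induction with
  | empty => simpa using iso_zero h zs_zero
  | insert a s ha ih =>
    rw [Finset.sum_insert ha, Finset.sum_insert ha, h.1 _ (hf a (Finset.mem_insert_self _ _)) _
      (zs_sum s f fun i hi => hf i (Finset.mem_insert_of_mem hi)), ih fun i hi => hf i (Finset.mem_insert_of_mem hi)]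

/-- orthogonal functions of nonzero norm are linearly independent -/
theorem linInd_of_orth {S : Set (L → ℂ)} (hne : ∀ χ ∈ S, classInner χ χ ≠ 0)
    (horth : ∀ χ ∈ S, ∀ ψ ∈ S, χ ≠ ψ → classInner χ ψ = 0) :
    LinearIndependent ℤ (Subtype.val : S → (L → ℂ)) := by
  classical
  rw [linearIndependent_iff']
  intro s g hg i hi
  have h1 := congrArg (fun f => classInner f (i : L → ℂ)) hg
  beta_reduce at h1
  rw [ci_zero_left, ci_sum_left] at h1
  have h2 : ∀ j ∈ s, classInner (g j • (j : L → ℂ)) (i : L → ℂ) = if j = i then (g i : ℂ) * classInner (i : L → ℂ) (i : L → ℂ) else 0 := by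
    intro j _
    have e : g j • (j : L → ℂ) = (g j : ℂ) • (j : L → ℂ) := by ext x; simp
    rw [e, ci_smul_left]
    split_ifs with hji
    · rw [hji]
    · rw [horth _ j.2 _ i.2 (fun h => hji (Subtype.ext h)), mul_zero]
  rw [Finset.sum_congr rfl h2, Finset.sum_ite_eq' s i, if_pos hi] at h1
  rcases mul_eq_zero.1 h1 with h3 | h3
  · exact_mod_cast h3
  · exact absurd h3 (hne _ i.2)

/-- construct an isometry from its values on a linearly independent set -/
theorem exists_isometry {S : Set (L → ℂ)} (hli : LinearIndependent ℤ (Subtype.val : S → (L → ℂ)))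
    (t : (L → ℂ) → (G → ℂ)) (hgen : ∀ χ ∈ S, IsGeneralizedCharacter G (t χ))
    (hin : ∀ χ ∈ S, ∀ ψ ∈ S, classInner (t χ) (t ψ) = classInner χ ψ) :
    ∃ τ₁ : (L → ℂ) → (G → ℂ), IsLinearIsometryOn (zspan S) τ₁ ∧ ∀ χ ∈ S, τ₁ χ = t χ := by
  classical
  let b := Module.Basis.span hli
  have hr : Set.range (Subtype.val : S → (L → ℂ)) = S := Subtype.range_coe
  let T : Submodule.span ℤ (Set.range (Subtype.val : S → (L → ℂ))) →ₗ[ℤ] (G → ℂ) := b.constr ℤ (fun s : S => t s)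
  have hmem : ∀ {α : L → ℂ}, α ∈ zspan S ↔ α ∈ Submodule.span ℤ (Set.range (Subtype.val : S → (L → ℂ))) := by
    intro α
    rw [hr]; rfl
  have hT : ∀ (χ : L → ℂ) (hχ : χ ∈ S), T ⟨χ, hmem.1 (zs_sub hχ)⟩ = t χ := by
    intro χ hχ
    have h1 : b ⟨χ, hχ⟩ = ⟨χ, hmem.1 (zs_sub hχ)⟩ := by
      apply Subtype.ext
      rw [Module.Basis.span_apply]
    rw [← h1]
    exact b.constr_basis ℤ _ _
  refine ⟨fun α => if h : α ∈ zspan S then T ⟨α, hmem.1 h⟩ else 0, ?_, ?_⟩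
  · have hadd : ∀ α ∈ zspan S, ∀ β ∈ zspan S,
      (fun α => if h : α ∈ zspan S then T ⟨α, hmem.1 h⟩ else 0) (α + β) =
        (fun α => if h : α ∈ zspan S then T ⟨α, hmem.1 h⟩ else 0) α + (fun α => if h : α ∈ zspan S then T ⟨α, hmem.1 h⟩ else 0) β := by
      intro α hα β hβ
      show (if h : α + β ∈ zspan S then T ⟨α + β, hmem.1 h⟩ else 0) = (if h : α ∈ zspan S then T ⟨α, hmem.1 h⟩ else 0) + (if h : β ∈ zspan S then T ⟨β, hmem.1 h⟩ else 0)
      rw [dif_pos hα, dif_pos hβ, dif_pos (zs_add hα hβ), ← map_add]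
      rfl
    have hneg : ∀ α ∈ zspan S,
      (fun α => if h : α ∈ zspan S then T ⟨α, hmem.1 h⟩ else 0) (-α) =
        -(fun α => if h : α ∈ zspan S then T ⟨α, hmem.1 h⟩ else 0) α := by
      intro α hα
      show (if h : -α ∈ zspan S then T ⟨-α, hmem.1 h⟩ else 0) = -(if h : α ∈ zspan S then T ⟨α, hmem.1 h⟩ else 0)
      rw [dif_pos hα, dif_pos (zs_neg hα), ← map_neg]
      rfl
    have hval : ∀ χ ∈ S, (fun α => if h : α ∈ zspan S then T ⟨α, hmem.1 h⟩ else 0) χ = t χ := by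
      intro χ hχ
      show (if h : χ ∈ zspan S then T ⟨χ, hmem.1 h⟩ else 0) = t χ
      rw [dif_pos (zs_sub hχ), hT χ hχ]
    have hzero : (fun α => if h : α ∈ zspan S then T ⟨α, hmem.1 h⟩ else 0) 0 = 0 := by
      show (if h : (0 : L → ℂ) ∈ zspan S then T ⟨0, hmem.1 h⟩ else 0) = 0
      rw [dif_pos zs_zero]
      exact map_zero T
    generalize (fun α => if h : α ∈ zspan S then T ⟨α, hmem.1 h⟩ else 0) = τ₁ at *
    refine ⟨hadd, ?_, ?_, ?_⟩
    · intro α hα n
      have key : ∀ n : ℕ, τ₁ (n • α) = n • τ₁ α := by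
        intro n
        induction n with
        | zero => simpa using hzero
        | succ n ih =>
          rw [succ_nsmul, succ_nsmul, hadd _ (by
            have := zs_zsmul (n : ℤ) hα
            simpa using this) _ hα, ih]
      rcases Int.eq_nat_or_neg n with ⟨m, rfl | rfl⟩
      · simpa using key m
      · rw [neg_smul, hneg _ (zs_zsmul _ hα), neg_smul]
        simpa using key m
    · -- inner products
      have step1 : ∀ χ ∈ S, ∀ β ∈ zspan S, classInner (τ₁ χ) (τ₁ β) = classInner χ β := by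
        intro χ hχ β hβ
        refine zs_ind (p := fun β => classInner (τ₁ χ) (τ₁ β) = classInner χ β) ?_ ?_ ?_ ?_ hβ
        · intro ψ hψ
          show classInner (τ₁ χ) (τ₁ ψ) = classInner χ ψ
          rw [hval χ hχ, hval ψ hψ, hin χ hχ ψ hψ]
        · show classInner (τ₁ χ) (τ₁ 0) = classInner χ 0
          rw [hzero, ci_zero_right, ci_zero_right]
        · intro β hβ β' hβ' ih ih'
          show classInner (τ₁ χ) (τ₁ (β + β')) = classInner χ (β + β')
          rw [hadd β hβ β' hβ', ci_add_right, ci_add_right, ih, ih']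
        · intro β hβ ih
          show classInner (τ₁ χ) (τ₁ (-β)) = classInner χ (-β)
          rw [hneg β hβ, ci_neg_right', ci_neg_right', ih]
      intro α hα β hβ
      refine zs_ind (p := fun α => classInner (τ₁ α) (τ₁ β) = classInner α β) ?_ ?_ ?_ ?_ hα
      · intro χ hχ; exact step1 χ hχ β hβ
      · show classInner (τ₁ 0) (τ₁ β) = classInner 0 β
        rw [hzero, ci_zero_left, ci_zero_left]
      · intro γ hγ γ' hγ' ih ih'
        show classInner (τ₁ (γ + γ')) (τ₁ β) = classInner (γ + γ') β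
        rw [hadd γ hγ γ' hγ', ci_add_left, ci_add_left, ih, ih']
      · intro γ hγ ih
        show classInner (τ₁ (-γ)) (τ₁ β) = classInner (-γ) β
        rw [hneg γ hγ, ci_neg_left', ci_neg_left', ih]
    · intro α hα
      refine zs_ind (p := fun α => IsGeneralizedCharacter G (τ₁ α)) ?_ ?_ ?_ ?_ hα
      · intro χ hχ
        show IsGeneralizedCharacter G (τ₁ χ)
        rw [hval χ hχ]; exact hgen χ hχ
      · show IsGeneralizedCharacter G (τ₁ 0)
        rw [hzero]; exact IsGen.zero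
      · intro γ hγ γ' hγ' ih ih'
        show IsGeneralizedCharacter G (τ₁ (γ + γ'))
        rw [hadd γ hγ γ' hγ']; exact IsGen.add ih ih'
      · intro γ hγ ih
        show IsGeneralizedCharacter G (τ₁ (-γ))
        rw [hneg γ hγ]; exact IsGen.neg ih
  · intro χ hχ
    show (if h : χ ∈ zspan S then T ⟨χ, hmem.1 h⟩ else 0) = t χ
    rw [dif_pos (zs_sub hχ), hT χ hχ]

/-- extension criterion with a base character -/
theorem extend_base {S : Set (L → ℂ)} {τ : (L → ℂ) → (G → ℂ)} (hτ : IsLinearIsometryOn (zspanOn S {1}ᶜ) τ)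
    {χ₁ : L → ℂ} (hχ₁ : χ₁ ∈ zspan S) (h1 : χ₁ 1 ≠ 0) (hdeg : ∀ α ∈ zspan S, ∃ n : ℤ, α 1 = n * χ₁ 1)
    {X : G → ℂ} (hX : IsGeneralizedCharacter G X) (hXX : classInner X X = classInner χ₁ χ₁)
    (hχ₁gen : IsGeneralizedCharacter L χ₁) (hSgen : ∀ χ ∈ S, IsGeneralizedCharacter L χ)
    (hXτ : ∀ e ∈ zspanOn S {1}ᶜ, classInner X (τ e) = classInner χ₁ e) :
    ∃ τ₁ : (L → ℂ) → (G → ℂ), IsLinearIsometryOn (zspan S) τ₁ ∧ (∀ α ∈ zspanOn S {1}ᶜ, τ₁ α = τ α) ∧ τ₁ χ₁ = X := by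
  classical
  choose! n hn using hdeg
  have hadd : ∀ α ∈ zspan S, ∀ β ∈ zspan S, n (α + β) = n α + n β := by
    intro α hα β hβ
    have h2 := hn _ (zs_add hα hβ)
    rw [Pi.add_apply, hn α hα, hn β hβ, ← add_mul] at h2
    have h3 := mul_right_cancel₀ h1 h2
    exact_mod_cast h3.symm
  have hsm : ∀ α ∈ zspan S, ∀ m : ℤ, n (m • α) = m * n α := by
    intro α hα m
    have h2 := hn _ (zs_zsmul m hα)
    rw [Pi.smul_apply, hn α hα, zsmul_eq_mul, ← mul_assoc] at h2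
    have h3 := mul_right_cancel₀ h1 h2
    exact_mod_cast h3.symm
  have hmem : ∀ α ∈ zspan S, α - n α • χ₁ ∈ zspanOn S {1}ᶜ := by
    intro α hα
    rw [zo_iff]
    refine ⟨zs_diff hα (zs_zsmul _ hχ₁), ?_⟩
    rw [Pi.sub_apply, Pi.smul_apply, zsmul_eq_mul, hn α hα, sub_self]
  have hzc : ∀ (m : ℤ) (f : L → ℂ), m • f = (m : ℂ) • f := by intro m f; ext x; simp
  have hzc' : ∀ (m : ℤ) (f : G → ℂ), m • f = (m : ℂ) • f := by intro m f; ext x; simp
  refine ⟨fun α => n α • X + τ (α - n α • χ₁), ⟨?_, ?_, ?_, ?_⟩, ?_, ?_⟩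
  · intro α hα β hβ
    show n (α + β) • X + τ (α + β - n (α + β) • χ₁) = (n α • X + τ (α - n α • χ₁)) + (n β • X + τ (β - n β • χ₁))
    rw [hadd α hα β hβ]
    have e : α + β - (n α + n β) • χ₁ = (α - n α • χ₁) + (β - n β • χ₁) := by rw [add_smul]; abel
    rw [e, hτ.1 _ (hmem α hα) _ (hmem β hβ), add_smul]
    abel
  · intro α hα m
    show n (m • α) • X + τ (m • α - n (m • α) • χ₁) = m • (n α • X + τ (α - n α • χ₁))
    rw [hsm α hα m]
    have e : m • α - (m * n α) • χ₁ = m • (α - n α • χ₁) := by rw [mul_smul, smul_sub]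
    rw [e, hτ.2.1 _ (hmem α hα), mul_smul, smul_add]
  · intro α hα β hβ
    show classInner (n α • X + τ (α - n α • χ₁)) (n β • X + τ (β - n β • χ₁)) = classInner α β
    have c1 := hXτ _ (hmem α hα)
    have c2 := hXτ _ (hmem β hβ)
    have c3 := hτ.2.2.1 _ (hmem α hα) _ (hmem β hβ)
    have c4 : classInner (τ (α - n α • χ₁)) X = classInner (α - n α • χ₁) χ₁ := by
      rw [gen_comm (hτ.2.2.2 _ (hmem α hα)) hX, c1]
      exact gen_comm hχ₁gen (zs_gen hSgen (hmem α hα).1)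
    rw [ci_add_left, ci_add_right, ci_add_right, c3, hzc', hzc', ci_smul_left, ci_smul_left, ci_smul_right, ci_smul_right,
      hXX, c2, c4]
    have e1 : classInner α β = classInner ((n α : ℂ) • χ₁ + (α - n α • χ₁)) ((n β : ℂ) • χ₁ + (β - n β • χ₁)) := by
      congr 1
      · rw [hzc]; abel
      · rw [hzc]; abel
    rw [e1, ci_add_left, ci_add_right, ci_add_right, ci_smul_left, ci_smul_left, ci_smul_right, ci_smul_right]
  · intro α hα
    show IsGeneralizedCharacter G (n α • X + τ (α - n α • χ₁))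
    rw [hzc']
    exact IsGen.add (IsGen.intsmul hX _) (hτ.2.2.2 _ (hmem α hα))
  · intro α hα
    show n α • X + τ (α - n α • χ₁) = τ α
    have h0 : n α = 0 := by
      have h2 := hn α (zo_iff.1 hα).1
      rw [(zo_iff.1 hα).2] at h2
      rcases mul_eq_zero.1 h2.symm with h3 | h3
      · exact_mod_cast h3
      · exact absurd h3 h1
    rw [h0]; simp
  · show n χ₁ • X + τ (χ₁ - n χ₁ • χ₁) = X
    have h0 : n χ₁ = 1 := by
      have h2 := hn χ₁ hχ₁
      have h3 : ((n χ₁ : ℤ) : ℂ) * χ₁ 1 = 1 * χ₁ 1 := by rw [one_mul]; exact h2.symm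
      have h4 := mul_right_cancel₀ h1 h3
      exact_mod_cast h4
    rw [h0, one_smul, one_smul, sub_self, iso_zero hτ zo_zero, add_zero]

end Iso

end Cfsg.Agent.H10.Coh
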