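import Mathlib
import Cfsg.Agent.H10_Coh

/-!
H10_Coh2: coherence: signs and orthogonality.
-/

set_option autoImplicit false
set_option linter.style.haveILetI false
set_option linter.unusedSectionVars false

namespace Cfsg.Agent.H10.Coh2

open Cfsg Cfsg.Agent.H3.CharIrr Cfsg.Agent.H3.CharComplete Cfsg.Agent.H3.CharInd
  Cfsg.Agent.H3.CharBasic Cfsg.Agent.H10.PM Cfsg.Agent.H10.Coh
open scoped ComplexConjugate

section Iso

variable {L : Type*} [Group L] [Fintype L] {G : Type*} [Group G] [Fintype G]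

theorem pm_of_iso {S : Set (L → ℂ)} (hirr : ∀ χ ∈ S, IsIrrCharacter L χ) {τ₁ : (L → ℂ) → (G → ℂ)}
    (hτ₁ : IsLinearIsometryOn (zspan S) τ₁) {χ : L → ℂ} (hχ : χ ∈ S) : Pm (τ₁ χ) := by
  apply pm_of_norm_one (hτ₁.2.2.2 _ (zs_sub hχ))
  rw [hτ₁.2.2.1 _ (zs_sub hχ) _ (zs_sub hχ), ci_irr_self (hirr χ hχ)]

/-- degrees are proportional -/
theorem deg_prop {S : Set (L → ℂ)} (hirr : ∀ χ ∈ S, IsIrrCharacter L χ) {τ₁ : (L → ℂ) → (G → ℂ)}
    (hτ₁ : IsLinearIsometryOn (zspan S) τ₁) (h0 : ∀ α ∈ zspan S, α 1 = 0 → τ₁ α 1 = 0)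
    {χ ψ : L → ℂ} (hχ : χ ∈ S) (hψ : ψ ∈ S) : ψ 1 * τ₁ χ 1 = χ 1 * τ₁ ψ 1 := by
  obtain ⟨m, hm, em⟩ := IsIrr.one_eq_nat (hirr χ hχ)
  obtain ⟨n, hn, en⟩ := IsIrr.one_eq_nat (hirr ψ hψ)
  have h1 := h0 ((n : ℤ) • χ + (-(m : ℤ)) • ψ) (zs_add (zs_zsmul _ (zs_sub hχ)) (zs_zsmul _ (zs_sub hψ))) (by
    simp [em, en]; ring)
  rw [hτ₁.1 _ (zs_zsmul _ (zs_sub hχ)) _ (zs_zsmul _ (zs_sub hψ)), hτ₁.2.1 _ (zs_sub hχ), hτ₁.2.1 _ (zs_sub hψ)] at h1
  rw [Pi.add_apply, Pi.smul_apply, Pi.smul_apply, zsmul_eq_mul, zsmul_eq_mul] at h1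
  push_cast at h1
  rw [em, en]
  linear_combination h1

/-- value at one of a signed irreducible -/
theorem Pm.one_int {f : G → ℂ} (h : Pm f) : ∃ n : ℤ, n ≠ 0 ∧ f 1 = n ∧ (IsIrrCharacter G f ↔ 0 < n) ∧
    (IsIrrCharacter G (-f) ↔ n < 0) := by
  have key : ∀ {g : G → ℂ}, IsIrrCharacter G g → ∃ n : ℕ, 0 < n ∧ g 1 = n := fun hg => by
    obtain ⟨n, hn, e⟩ := IsIrr.one_eq_nat hg
    exact ⟨n, hn, e⟩
  rcases h with h | h
  · obtain ⟨n, hn, e⟩ := key h
    refine ⟨n, by omega, by rw [e]; simp, ⟨fun _ => by omega, fun _ => h⟩, ⟨fun h2 => ?_, fun h2 => by omega⟩⟩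
    obtain ⟨m, hm, e'⟩ := key h2
    rw [Pi.neg_apply, e] at e'
    have : (-(n : ℤ) : ℤ) = m := by exact_mod_cast e'
    omega
  · obtain ⟨n, hn, e⟩ := key h
    rw [Pi.neg_apply] at e
    have e1 : f 1 = ((-(n : ℤ) : ℤ) : ℂ) := by push_cast; linear_combination -e
    refine ⟨-n, by omega, e1, ⟨fun h2 => ?_, fun h2 => by omega⟩, ⟨fun _ => by omega, fun _ => h⟩⟩
    obtain ⟨m, hm, e'⟩ := key h2
    rw [e1] at e'
    have : (-(n : ℤ) : ℤ) = m := by exact_mod_cast e'
    omega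

theorem common_sign {S : Set (L → ℂ)} (hirr : ∀ χ ∈ S, IsIrrCharacter L χ) {τ₁ : (L → ℂ) → (G → ℂ)}
    (hτ₁ : IsLinearIsometryOn (zspan S) τ₁) (h0 : ∀ α ∈ zspan S, α 1 = 0 → τ₁ α 1 = 0) :
    ∃ ε : ℂ, (ε = 1 ∨ ε = -1) ∧ (∀ χ ∈ S, IsIrrCharacter G (ε • τ₁ χ)) := by
  by_cases hne : ∃ χ₀, χ₀ ∈ S
  swap
  · exact ⟨1, Or.inl rfl, fun χ hχ => absurd ⟨χ, hχ⟩ hne⟩
  obtain ⟨χ₀, hχ₀⟩ := hne
  obtain ⟨n₀, hn₀, e₀, i₀, j₀⟩ := Pm.one_int (pm_of_iso hirr hτ₁ hχ₀)
  obtain ⟨d₀, hd₀, f₀⟩ := IsIrr.one_eq_nat (hirr χ₀ hχ₀)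
  have key : ∀ χ ∈ S, ∃ n : ℤ, n ≠ 0 ∧ (0 < n ↔ 0 < n₀) ∧ (IsIrrCharacter G (τ₁ χ) ↔ 0 < n) ∧
    (IsIrrCharacter G (-τ₁ χ) ↔ n < 0) := by
    intro χ hχ
    obtain ⟨n, hn, e, i, j⟩ := Pm.one_int (pm_of_iso hirr hτ₁ hχ)
    obtain ⟨d, hd, f⟩ := IsIrr.one_eq_nat (hirr χ hχ)
    refine ⟨n, hn, ?_, i, j⟩
    have h1 := deg_prop hirr hτ₁ h0 hχ hχ₀
    rw [e, e₀, f, f₀] at h1
    have h2 : (d₀ : ℤ) * n = d * n₀ := by exact_mod_cast h1
    have hd0' : (0 : ℤ) < d₀ := by exact_mod_cast hd₀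
    have hd' : (0 : ℤ) < d := by exact_mod_cast hd
    constructor
    · intro hp
      have : 0 < (d : ℤ) * n₀ := by rw [← h2]; positivity
      exact (mul_pos_iff_of_pos_left hd').1 this
    · intro hp
      have : 0 < (d₀ : ℤ) * n := by rw [h2]; positivity
      exact (mul_pos_iff_of_pos_left hd0').1 this
  rcases lt_or_gt_of_ne hn₀ with hneg | hpos
  · refine ⟨-1, Or.inr rfl, fun χ hχ => ?_⟩
    obtain ⟨n, hn, h1, i, j⟩ := key χ hχ
    rw [neg_one_smul]
    apply j.2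
    have : ¬ 0 < n := fun h => absurd (h1.1 h) (by omega)
    omega
  · refine ⟨1, Or.inl rfl, fun χ hχ => ?_⟩
    obtain ⟨n, hn, h1, i, j⟩ := key χ hχ
    rw [one_smul]
    exact i.2 (h1.2 hpos)

/-- four signed irreducible characters -/
theorem four_orth {a b c d : G → ℂ} (ha : Pm a) (hb : Pm b) (hc : Pm c) (hd : Pm d)
    (hab : classInner a b = 0) (hcd : classInner c d = 0) {u v s t : ℤ} (hu : 0 < u) (hv : 0 < v) (hs : 0 < s) (ht : 0 < t)
    (h : classInner ((u : ℂ) • a - (v : ℂ) • b) ((s : ℂ) • c - (t : ℂ) • d) = 0)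
    (h1 : (u : ℂ) * a 1 = v * b 1) (h2 : (s : ℂ) * c 1 = t * d 1) :
    classInner a c = 0 ∧ classInner a d = 0 ∧ classInner b c = 0 ∧ classInner b d = 0 := by
  have e : (u : ℂ) * s * classInner a c - u * t * classInner a d - v * s * classInner b c + v * t * classInner b d = 0 := by
    rw [← h, ci_sub_right, ci_smul_right, ci_smul_right, ci_sub_left, ci_sub_left, ci_smul_left, ci_smul_left,
      ci_smul_left, ci_smul_left]
    simp only [map_intCast]
    ring
  have hu' : (u : ℂ) ≠ 0 := by exact_mod_cast hu.ne'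
  have hv' : (v : ℂ) ≠ 0 := by exact_mod_cast hv.ne'
  have hs' : (s : ℂ) ≠ 0 := by exact_mod_cast hs.ne'
  have ht' : (t : ℂ) ≠ 0 := by exact_mod_cast ht.ne'
  obtain ⟨na, na0, ea, -, -⟩ := Pm.one_int ha
  obtain ⟨nb, nb0, eb, -, -⟩ := Pm.one_int hb
  obtain ⟨nc, nc0, ec, -, -⟩ := Pm.one_int hc
  obtain ⟨nd, nd0, ed, -, -⟩ := Pm.one_int hd
  have hba : classInner b a = 0 := by rw [hb.comm ha]; exact hab
  have hdc : classInner d c = 0 := by rw [hd.comm hc]; exact hcd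
  rw [ea, eb] at h1
  rw [ec, ed] at h2
  have h1' : u * na = v * nb := by exact_mod_cast h1
  have h2' : s * nc = t * nd := by exact_mod_cast h2
  -- integer version of inner products
  have pmi : ∀ {f g : G → ℂ}, Pm f → Pm g → ∃ k : ℤ, classInner f g = k ∧ (k = 0 ∨ (k = 1 ∧ g = f) ∨ (k = -1 ∧ g = -f)) := by
    intro f g hf hg
    rcases Pm.inner hf hg with h | h | h
    · exact ⟨0, by rw [h]; simp, Or.inl rfl⟩
    · exact ⟨1, by rw [h.2]; simp, Or.inr (Or.inl ⟨rfl, h.1⟩)⟩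
    · exact ⟨-1, by rw [h.2]; simp, Or.inr (Or.inr ⟨rfl, h.1⟩)⟩
  obtain ⟨kac, eac, pac⟩ := pmi ha hc
  obtain ⟨kad, ead, pad⟩ := pmi ha hd
  obtain ⟨kbc, ebc, pbc⟩ := pmi hb hc
  obtain ⟨kbd, ebd, pbd⟩ := pmi hb hd
  rw [eac, ead, ebc, ebd] at e
  have e' : u * s * kac - u * t * kad - v * s * kbc + v * t * kbd = 0 := by exact_mod_cast e
  -- values: relations
  have r1 : kac ≠ 0 → nc = kac * na ∧ kad = 0 ∧ kbc = 0 := by
    intro hk
    rcases pac with h | ⟨h, e1⟩ | ⟨h, e1⟩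
    · exact absurd h hk
    · rw [h]
      refine ⟨?_, ?_, ?_⟩
      · rw [e1, ea] at ec; rw [one_mul]; exact_mod_cast ec.symm
      · have : classInner a d = 0 := by rw [← e1]; exact hcd
        rw [this] at ead; exact_mod_cast ead.symm
      · have : classInner b c = 0 := by rw [e1]; exact hba
        rw [this] at ebc; exact_mod_cast ebc.symm
    · rw [h]
      refine ⟨?_, ?_, ?_⟩
      · rw [e1, Pi.neg_apply, ea] at ec
        have : (nc : ℂ) = ((-1 * na : ℤ) : ℂ) := by rw [← ec]; push_cast; ring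
        exact_mod_cast this
      · have h3 : classInner c d = 0 := hcd
        rw [e1, ci_neg_left', neg_eq_zero] at h3
        rw [h3] at ead; exact_mod_cast ead.symm
      · have : classInner b c = 0 := by rw [e1, ci_neg_right', hba, neg_zero]
        rw [this] at ebc; exact_mod_cast ebc.symm
  have r2 : kad ≠ 0 → nd = kad * na ∧ kac = 0 ∧ kbd = 0 := by
    intro hk
    rcases pad with h | ⟨h, e1⟩ | ⟨h, e1⟩
    · exact absurd h hk
    · rw [h]
      refine ⟨?_, ?_, ?_⟩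
      · rw [e1, ea] at ed; rw [one_mul]; exact_mod_cast ed.symm
      · have : classInner a c = 0 := by rw [← e1]; exact hdc
        rw [this] at eac; exact_mod_cast eac.symm
      · have : classInner b d = 0 := by rw [e1]; exact hba
        rw [this] at ebd; exact_mod_cast ebd.symm
    · rw [h]
      refine ⟨?_, ?_, ?_⟩
      · rw [e1, Pi.neg_apply, ea] at ed
        have : (nd : ℂ) = ((-1 * na : ℤ) : ℂ) := by rw [← ed]; push_cast; ring
        exact_mod_cast this
      · have h3 : classInner d c = 0 := hdc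
        rw [e1, ci_neg_left', neg_eq_zero] at h3
        rw [h3] at eac; exact_mod_cast eac.symm
      · have : classInner b d = 0 := by rw [e1, ci_neg_right', hba, neg_zero]
        rw [this] at ebd; exact_mod_cast ebd.symm
  have r3 : kbc ≠ 0 → nc = kbc * nb := by
    intro hk
    rcases pbc with h | ⟨h, e1⟩ | ⟨h, e1⟩
    · exact absurd h hk
    · rw [h]
      rw [e1, eb] at ec; rw [one_mul]; exact_mod_cast ec.symm
    · rw [h]
      rw [e1, Pi.neg_apply, eb] at ec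
      have : (nc : ℂ) = ((-1 * nb : ℤ) : ℂ) := by rw [← ec]; push_cast; ring
      exact_mod_cast this
  have r4 : kbd ≠ 0 → nd = kbd * nb ∧ kbc = 0 := by
    intro hk
    rcases pbd with h | ⟨h, e1⟩ | ⟨h, e1⟩
    · exact absurd h hk
    · rw [h]
      refine ⟨?_, ?_⟩
      · rw [e1, eb] at ed; rw [one_mul]; exact_mod_cast ed.symm
      · have : classInner b c = 0 := by rw [← e1]; exact hdc
        rw [this] at ebc; exact_mod_cast ebc.symm
    · rw [h]
      refine ⟨?_, ?_⟩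
      · rw [e1, Pi.neg_apply, eb] at ed
        have : (nd : ℂ) = ((-1 * nb : ℤ) : ℂ) := by rw [← ed]; push_cast; ring
        exact_mod_cast this
      · have h3 : classInner d c = 0 := hdc
        rw [e1, ci_neg_left', neg_eq_zero] at h3
        rw [h3] at ebc; exact_mod_cast ebc.symm
  have z1 : kac = 0 := by
    by_contra hk
    obtain ⟨f1, f2, f3⟩ := r1 hk
    rw [f2, f3] at e'
    have hbd : kbd ≠ 0 := by
      intro h0
      rw [h0] at e'
      have : u * s * kac = 0 := by linarith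
      rcases mul_eq_zero.1 this with h | h
      · exact (mul_pos hu hs).ne' h
      · exact hk h
    obtain ⟨g1, -⟩ := r4 hbd
    -- s kac na = t kbd nb ; u s kac = - v t kbd
    have q1 : s * (kac * na) = t * (kbd * nb) := by rw [← f1, ← g1]; exact h2'
    have q2 : u * s * kac = - (v * t * kbd) := by linarith
    have q3 : u * (s * (kac * na)) = v * (t * (kbd * na) * -1) := by linear_combination na * q2
    rw [q1] at q3
    -- u t kbd nb = - v t kbd na
    have q4 : u * nb = - (v * na) := by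
      have : t * kbd * (u * nb + v * na) = 0 := by linear_combination q3
      rcases mul_eq_zero.1 this with h | h
      · exact absurd h (mul_ne_zero ht.ne' hbd)
      · linarith
    have q5 : 0 < nb * nb := mul_self_pos.2 nb0
    have q6 : 0 < na * na := mul_self_pos.2 na0
    have q7 : v * (nb * nb + na * na) = 0 := by linear_combination na * q4 - nb * h1'
    exact (mul_pos hv (add_pos q5 q6)).ne' q7
  have z2 : kad = 0 := by
    by_contra hk
    obtain ⟨f1, f2, f3⟩ := r2 hk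
    rw [f2, f3] at e'
    have hbc : kbc ≠ 0 := by
      intro h0
      rw [h0] at e'
      have : u * t * kad = 0 := by linarith
      rcases mul_eq_zero.1 this with h | h
      · exact (mul_pos hu ht).ne' h
      · exact hk h
    have g1 := r3 hbc
    have q1 : s * (kbc * nb) = t * (kad * na) := by rw [← f1, ← g1]; exact h2'
    have q2 : u * t * kad = - (v * s * kbc) := by linarith
    have q4 : u * nb = - (v * na) := by
      have : s * kbc * (u * nb + v * na) = 0 := by linear_combination u * q1 + na * q2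
      rcases mul_eq_zero.1 this with h | h
      · exact absurd h (mul_ne_zero hs.ne' hbc)
      · linarith
    have q5 : 0 < nb * nb := mul_self_pos.2 nb0
    have q6 : 0 < na * na := mul_self_pos.2 na0
    have q7 : v * (nb * nb + na * na) = 0 := by linear_combination na * q4 - nb * h1'
    exact (mul_pos hv (add_pos q5 q6)).ne' q7
  have z4 : kbd = 0 := by
    by_contra hk
    obtain ⟨g1, g2⟩ := r4 hk
    rw [z1, z2, g2] at e'
    have : v * t * kbd = 0 := by linarith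
    rcases mul_eq_zero.1 this with h | h
    · exact (mul_pos hv ht).ne' h
    · exact hk h
  have z3 : kbc = 0 := by
    rw [z1, z2, z4] at e'
    have : v * s * kbc = 0 := by linarith
    rcases mul_eq_zero.1 this with h | h
    · exact absurd h (mul_pos hv hs).ne'
    · exact h
  rw [eac, ead, ebc, ebd, z1, z2, z3, z4]
  simp

end Iso

end Cfsg.Agent.H10.Coh2
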