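import Mathlib
import Cfsg.Agent.H10_Coh
import Cfsg.Agent.H10_Coh2

/-!
H10_Coh3: coherence: extension by one character.
-/

set_option autoImplicit false
set_option linter.style.haveILetI false
set_option linter.unusedSectionVars false

namespace Cfsg.Agent.H10.Coh3

open Cfsg Cfsg.Agent.H3.CharIrr Cfsg.Agent.H3.CharComplete Cfsg.Agent.H3.CharInd
  Cfsg.Agent.H3.CharBasic Cfsg.Agent.H10.PM Cfsg.Agent.H10.Coh Cfsg.Agent.H10.Coh2
open scoped ComplexConjugate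

section Iso

variable {L : Type*} [Group L] [Fintype L] {G : Type*} [Group G] [Fintype G]

theorem zc {X : Type*} (m : ℤ) (f : X → ℂ) : m • f = (m : ℂ) • f := by ext x; simp

theorem iso_ext {S : Set (L → ℂ)} {τ₁ τ₂ : (L → ℂ) → (G → ℂ)} (h1 : IsLinearIsometryOn (zspan S) τ₁)
    (h2 : IsLinearIsometryOn (zspan S) τ₂) (h : ∀ χ ∈ S, τ₁ χ = τ₂ χ) : ∀ α ∈ zspan S, τ₁ α = τ₂ α := by
  intro α hα
  refine zs_ind (p := fun α => τ₁ α = τ₂ α) h ?_ ?_ ?_ hα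
  · show τ₁ 0 = τ₂ 0
    rw [iso_zero h1 zs_zero, iso_zero h2 zs_zero]
  · intro α hα β hβ e1 e2
    show τ₁ (α + β) = τ₂ (α + β)
    rw [h1.1 α hα β hβ, h2.1 α hα β hβ, e1, e2]
  · intro α hα e
    show τ₁ (-α) = τ₂ (-α)
    rw [iso_neg h1 hα, iso_neg h2 hα, e]

theorem orth_zs {S : Set (L → ℂ)} {f : L → ℂ} (h : ∀ χ ∈ S, classInner f χ = 0) : ∀ α ∈ zspan S, classInner f α = 0 := by
  intro α hα
  refine zs_ind (p := fun α => classInner f α = 0) h ?_ ?_ ?_ hα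
  · exact ci_zero_right _
  · intro α _ β _ e1 e2
    show classInner f (α + β) = 0
    rw [ci_add_right, e1, e2, add_zero]
  · intro α _ e
    show classInner f (-α) = 0
    rw [ci_neg_right', e, neg_zero]

theorem orth_iso {S : Set (L → ℂ)} {τ₁ : (L → ℂ) → (G → ℂ)} (h1 : IsLinearIsometryOn (zspan S) τ₁)
    {f : G → ℂ} (h : ∀ χ ∈ S, classInner f (τ₁ χ) = 0) : ∀ α ∈ zspan S, classInner f (τ₁ α) = 0 := by
  intro α hα
  refine zs_ind (p := fun α => classInner f (τ₁ α) = 0) h ?_ ?_ ?_ hα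
  · show classInner f (τ₁ 0) = 0
    rw [iso_zero h1 zs_zero]; exact ci_zero_right _
  · intro α hα β hβ e1 e2
    show classInner f (τ₁ (α + β)) = 0
    rw [h1.1 α hα β hβ, ci_add_right, e1, e2, add_zero]
  · intro α hα e
    show classInner f (τ₁ (-α)) = 0
    rw [iso_neg h1 hα, ci_neg_right', e, neg_zero]

/-- extension of an isometry by one character -/
theorem ext_one {S₁ : Set (L → ℂ)} {χ : L → ℂ} {τ τ₁ : (L → ℂ) → (G → ℂ)}
    (hgen : ∀ ξ ∈ insert χ S₁, IsGeneralizedCharacter L ξ)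
    (hne : ∀ ξ ∈ insert χ S₁, classInner ξ ξ ≠ 0)
    (horth : ∀ ξ ∈ insert χ S₁, ∀ ψ ∈ insert χ S₁, ξ ≠ ψ → classInner ξ ψ = 0)
    (hχS : χ ∉ S₁)
    (hτ : IsLinearIsometryOn (zspanOn (insert χ S₁) {1}ᶜ) τ) (hτ₁ : IsLinearIsometryOn (zspan S₁) τ₁)
    (hag : ∀ α ∈ zspanOn S₁ {1}ᶜ, τ₁ α = τ α) {ψ : L → ℂ} (hψ : ψ ∈ zspan S₁) (hψ1 : ψ 1 = χ 1)
    {X : G → ℂ} (hX : X = τ (χ - ψ) + τ₁ ψ) (hXo : ∀ ξ ∈ S₁, classInner X (τ₁ ξ) = 0) :
    ∃ τ₂ : (L → ℂ) → (G → ℂ), IsLinearIsometryOn (zspan (insert χ S₁)) τ₂ ∧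
      (∀ α ∈ zspanOn (insert χ S₁) {1}ᶜ, τ₂ α = τ α) ∧ τ₂ χ = X ∧ ∀ α ∈ zspan S₁, τ₂ α = τ₁ α := by
  classical
  have hsub : S₁ ⊆ insert χ S₁ := Set.subset_insert _ _
  have hmem : χ - ψ ∈ zspanOn (insert χ S₁) {1}ᶜ := by
    rw [zo_iff]
    exact ⟨zs_diff (zs_sub (Set.mem_insert _ _)) (zs_mono hsub hψ), by rw [Pi.sub_apply, hψ1, sub_self]⟩
  have hXgen : IsGeneralizedCharacter G X := by
    rw [hX]; exact IsGen.add (hτ.2.2.2 _ hmem) (hτ₁.2.2.2 _ hψ)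
  have hXψ : classInner X (τ₁ ψ) = 0 := orth_iso hτ₁ hXo ψ hψ
  have hψX : classInner (τ₁ ψ) X = 0 := by rw [gen_comm (hτ₁.2.2.2 _ hψ) hXgen]; exact hXψ
  have hχψ : classInner χ ψ = 0 := orth_zs (fun ξ hξ => horth χ (Set.mem_insert _ _) ξ (hsub hξ) (fun h => hχS (h ▸ hξ))) ψ hψ
  have hψχ : classInner ψ χ = 0 := by
    rw [← ci_conj_symm, hχψ, map_zero]
  have hXX : classInner X X = classInner χ χ := by
    have h1 := hτ.2.2.1 _ hmem _ hmem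
    have h2 : τ (χ - ψ) = X - τ₁ ψ := by rw [hX]; abel
    rw [h2, ci_sub_left, ci_sub_right, ci_sub_right, hXψ, hψX, hτ₁.2.2.1 _ hψ _ hψ, ci_sub_left, ci_sub_right,
      ci_sub_right, hχψ, hψχ] at h1
    linear_combination h1
  obtain ⟨τ₂, h2, hval⟩ := exists_isometry (linInd_of_orth hne horth) (fun ξ => if ξ = χ then X else τ₁ ξ)
    (by
      intro ξ hξ
      beta_reduce
      split_ifs with h
      · exact hXgen
      · exact hτ₁.2.2.2 _ (zs_sub (hξ.resolve_left h)))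
    (by
      intro ξ hξ ζ hζ
      beta_reduce
      by_cases h : ξ = χ
      · by_cases h' : ζ = χ
        · rw [if_pos h, if_pos h', hXX, h, h']
        · rw [if_pos h, if_neg h', hXo _ (hζ.resolve_left h'), horth _ hξ _ hζ (fun hh => h' (hh ▸ h))]
      · by_cases h' : ζ = χ
        · rw [if_neg h, if_pos h', gen_comm (hτ₁.2.2.2 _ (zs_sub (hξ.resolve_left h))) hXgen, hXo _ (hξ.resolve_left h),
            horth _ hξ _ hζ (fun hh => h (hh ▸ h'))]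
        · rw [if_neg h, if_neg h', hτ₁.2.2.1 _ (zs_sub (hξ.resolve_left h)) _ (zs_sub (hζ.resolve_left h'))])
  have hχv : τ₂ χ = X := by
    rw [hval χ (Set.mem_insert _ _), if_pos rfl]
  have hS₁v : ∀ α ∈ zspan S₁, τ₂ α = τ₁ α := by
    apply iso_ext (iso_mono h2 (fun α hα => zs_mono hsub hα)) hτ₁
    intro ξ hξ
    rw [hval ξ (hsub hξ), if_neg (fun h => hχS (by rw [← h]; exact hξ))]
  refine ⟨τ₂, h2, ?_, hχv, hS₁v⟩
  intro α hα
  obtain ⟨hα1, hα2⟩ := zo_iff.1 hα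
  obtain ⟨n, z, hz, e⟩ := Submodule.mem_span_insert.1 hα1
  have hz' : z ∈ zspan S₁ := hz
  have hzo : z + n • ψ ∈ zspanOn S₁ {1}ᶜ := by
    rw [zo_iff]
    refine ⟨zs_add hz' (zs_zsmul n hψ), ?_⟩
    rw [e, Pi.add_apply, Pi.smul_apply] at hα2
    rw [Pi.add_apply, Pi.smul_apply, hψ1, add_comm]
    exact hα2
  have e2 : α = (z + n • ψ) + n • (χ - ψ) := by rw [e, smul_sub]; abel
  have m1 : z + n • ψ ∈ zspan (insert χ S₁) := zs_mono hsub hzo.1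
  have m2 : n • (χ - ψ) ∈ zspan (insert χ S₁) := zs_zsmul n hmem.1
  have h3 : τ₂ (χ - ψ) = τ (χ - ψ) := by
    rw [iso_diff h2 (zs_sub (Set.mem_insert _ _)) (zs_mono hsub hψ) (zs_neg (zs_mono hsub hψ)), hχv, hS₁v ψ hψ, hX]
    abel
  rw [e2, h2.1 _ m1 _ m2, h2.2.1 _ hmem.1, h3, hS₁v _ hzo.1, hag _ hzo, hτ.1 _ (zo_mono hsub hzo) _ (zo_zsmul n hmem),
    hτ.2.1 _ hmem]

end Iso

end Cfsg.Agent.H10.Coh3
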