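import Mathlib
import Cfsg.Agent.H10_Coh3

/-!
H10_Coh4: coherence: Bessel inequality, coherence systems.
-/

set_option autoImplicit false
set_option linter.style.haveILetI false
set_option linter.unusedSectionVars false

namespace Cfsg.Agent.H10.Coh4

open Cfsg Cfsg.Agent.H3.CharIrr Cfsg.Agent.H3.CharComplete Cfsg.Agent.H3.CharInd
  Cfsg.Agent.H3.CharBasic Cfsg.Agent.H10.PM Cfsg.Agent.H10.Coh Cfsg.Agent.H10.Coh2 Cfsg.Agent.H10.Coh3
open scoped ComplexConjugate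

section Bessel

variable {G : Type*} [Group G] [Fintype G]

open Classical in
/-- Bessel identity for an orthogonal family with real coefficients -/
theorem bessel {ι : Type*} (s : Finset ι) (t : ι → (G → ℂ)) (f : G → ℂ) (c N : ι → ℝ)
    (hon : ∀ i ∈ s, ∀ j ∈ s, classInner (t i) (t j) = if i = j then (N i : ℂ) else 0) (hN : ∀ i ∈ s, 0 < N i)
    (hc : ∀ i ∈ s, classInner f (t i) = c i) :
    (∀ i ∈ s, classInner (f - ∑ j ∈ s, ((c j / N j : ℝ) : ℂ) • t j) (t i) = 0) ∧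
    classInner (f - ∑ j ∈ s, ((c j / N j : ℝ) : ℂ) • t j) (f - ∑ j ∈ s, ((c j / N j : ℝ) : ℂ) • t j) =
      classInner f f - ((∑ i ∈ s, c i ^ 2 / N i : ℝ) : ℂ) := by
  set Z := f - ∑ j ∈ s, ((c j / N j : ℝ) : ℂ) • t j with hZ
  have h1 : ∀ i ∈ s, classInner Z (t i) = 0 := by
    intro i hi
    rw [hZ, ci_sub_left, ci_sum_left, hc i hi, Finset.sum_eq_single i]
    · rw [ci_smul_left, hon i hi i hi, if_pos rfl]
      have : (N i : ℂ) ≠ 0 := by exact_mod_cast (hN i hi).ne'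
      push_cast
      field_simp
      ring
    · intro j hj hne
      rw [ci_smul_left, hon j hj i hi, if_neg hne, mul_zero]
    · intro h; exact absurd hi h
  refine ⟨h1, ?_⟩
  have h2 : classInner Z Z = classInner Z f := by
    conv_lhs => rw [hZ]
    rw [← hZ]
    rw [hZ, ci_sub_right, ← hZ, ci_sum_right, Finset.sum_eq_zero, sub_zero]
    intro i hi
    rw [ci_smul_right, h1 i hi, mul_zero]
  rw [h2, hZ, ci_sub_left, ci_sum_left]
  congr 1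
  push_cast
  refine Finset.sum_congr rfl fun i hi => ?_
  rw [ci_smul_left, ← ci_conj_symm, hc i hi, Complex.conj_ofReal]
  push_cast
  ring

open Classical in
theorem bessel_le {ι : Type*} (s : Finset ι) (t : ι → (G → ℂ)) (f : G → ℂ) (c N : ι → ℝ)
    (hon : ∀ i ∈ s, ∀ j ∈ s, classInner (t i) (t j) = if i = j then (N i : ℂ) else 0) (hN : ∀ i ∈ s, 0 < N i)
    (hc : ∀ i ∈ s, classInner f (t i) = c i) : ∑ i ∈ s, c i ^ 2 / N i ≤ (classInner f f).re := by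
  have h := (bessel s t f c N hon hN hc).2
  have h1 := ci_self_re_nonneg (f - ∑ j ∈ s, ((c j / N j : ℝ) : ℂ) • t j)
  rw [h, Complex.sub_re, Complex.ofReal_re] at h1
  linarith

theorem int_le_sq (k : ℤ) : (k : ℝ) ≤ (k : ℝ) ^ 2 := by
  have : k ≤ k ^ 2 := by
    rcases le_or_gt k 0 with h | h
    · exact h.trans (sq_nonneg _)
    · nlinarith
  exact_mod_cast this

end Bessel

section Sys

variable {L : Type*} [Group L] [Fintype L] {G : Type*} [Group G] [Fintype G]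
  {S : Set (L → ℂ)} {τ : (L → ℂ) → (G → ℂ)} {R : (L → ℂ) → Finset (G → ℂ)} (hS : IsCoherenceSystem S τ R)
include hS

theorem diff_mem {χ : L → ℂ} (hχ : χ ∈ S) : χ - conjFun χ ∈ zspanOn S {1}ᶜ := by
  rw [zo_iff]
  refine ⟨zs_diff (zs_sub hχ) (zs_sub (hS.conj_mem χ hχ)), ?_⟩
  obtain ⟨m, hm⟩ := Cfsg.Agent.H3.CharIrr.IsChar.one_eq_nat (hS.isCharacter χ hχ)
  rw [Pi.sub_apply, conjFun, hm]; simp

theorem ne_zero_of_mem {χ : L → ℂ} (hχ : χ ∈ S) : χ ≠ 0 := by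
  rintro rfl
  apply hS.conj_ne 0 hχ
  funext x; simp [conjFun]

theorem norm_ne {χ : L → ℂ} (hχ : χ ∈ S) : classInner χ χ ≠ 0 := fun h => ne_zero_of_mem hS hχ (ci_self_eq_zero h)

theorem norm_pos {χ : L → ℂ} (hχ : χ ∈ S) : 0 < (classInner χ χ).re := by
  have h1 := ci_self_re_nonneg χ
  rcases h1.lt_or_eq with h | h
  · exact h
  · exfalso
    apply norm_ne hS hχ
    apply Complex.ext
    · rw [← h]; simp
    · rw [ci_self_im]; simp

theorem norm_nat {χ : L → ℂ} (hχ : χ ∈ S) : ∃ n : ℕ, 0 < n ∧ classInner χ χ = n := by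
  obtain ⟨n, hn⟩ := ci_char_nat (hS.isCharacter χ hχ) (hS.isCharacter χ hχ)
  refine ⟨n, ?_, hn⟩
  rcases Nat.eq_zero_or_pos n with h | h
  · rw [h] at hn
    exact absurd (by rw [hn]; simp) (norm_ne hS hχ)
  · exact h

theorem one_ne {χ : L → ℂ} (hχ : χ ∈ S) : χ 1 ≠ 0 := by
  intro h
  apply ne_zero_of_mem hS hχ
  funext x
  have h1 := Cfsg.Agent.H3.CharIrr.IsChar.norm_le (hS.isCharacter χ hχ) x
  rw [h] at h1
  simp only [Complex.zero_re, norm_le_zero_iff] at h1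
  exact h1

theorem gen_of_mem {χ : L → ℂ} (hχ : χ ∈ S) : IsGeneralizedCharacter L χ := IsGen.of_char (hS.isCharacter χ hχ)

theorem conj_orth {χ : L → ℂ} (hχ : χ ∈ S) : classInner χ (conjFun χ) = 0 :=
  hS.orthogonal χ hχ _ (hS.conj_mem χ hχ) (hS.conj_ne χ hχ).symm

omit hS in
theorem conj_conj (χ : L → ℂ) : conjFun (conjFun χ) = χ := by funext x; simp [conjFun]

/-- the images under a coherent extension lie in the span of `R φ` -/
theorem tau_span {S₁ : Set (L → ℂ)} (hS₁ : S₁ ⊆ S) {τ₁ : (L → ℂ) → (G → ℂ)} (hτ₁ : IsLinearIsometryOn (zspan S₁) τ₁)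
    (hag : ∀ α ∈ zspanOn S₁ {1}ᶜ, τ₁ α = τ α) {φ : L → ℂ} (hφ : φ ∈ S₁) (hφc : conjFun φ ∈ S₁) :
    ∃ c : (G → ℂ) → ℤ, τ₁ φ = ∑ α ∈ R φ, (c α : ℂ) • α := by
  classical
  have hφS := hS₁ hφ
  have hgen := hτ₁.2.2.2 _ (zs_sub hφ)
  have hint : ∀ α ∈ R φ, ∃ k : ℤ, classInner (τ₁ φ) α = k := fun α hα => ci_gen_int hgen (hS.virtual φ hφS α hα)
  choose! c hc using hint
  have hd : φ - conjFun φ ∈ zspanOn S₁ {1}ᶜ := by
    rw [zo_iff]
    exact ⟨zs_diff (zs_sub hφ) (zs_sub hφc), (zo_iff.1 (diff_mem hS hφS)).2⟩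
  have hsum : ∑ α ∈ R φ, (c α : ℝ) = (classInner φ φ).re := by
    have h1 : ∑ α ∈ R φ, classInner (τ₁ φ) α = classInner φ φ := by
      rw [← ci_sum_right, ← hS.sum_eq φ hφS, ← hag _ hd, hτ₁.2.2.1 _ (zs_sub hφ) _ hd.1, ci_sub_right, conj_orth hS hφS, sub_zero]
    rw [← h1, Complex.re_sum]
    refine Finset.sum_congr rfl fun α hα => ?_
    rw [hc α hα]; simp
  obtain ⟨-, h2⟩ := bessel (R φ) (fun α => α) (τ₁ φ) (fun α => (c α : ℝ)) (fun _ => 1) (by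
    intro α hα β hβ
    rw [hS.orthonormal φ hφS α hα β hβ]; split_ifs <;> norm_num) (fun _ _ => one_pos) (fun α hα => by rw [hc α hα]; norm_cast)
  have h3 : τ₁ φ - ∑ α ∈ R φ, (((c α : ℝ) / 1 : ℝ) : ℂ) • α = 0 := by
    apply ci_self_eq_zero
    apply Complex.ext
    · have h4 := ci_self_re_nonneg (τ₁ φ - ∑ α ∈ R φ, (((c α : ℝ) / 1 : ℝ) : ℂ) • α)
      apply le_antisymm _ h4
      rw [h2, hτ₁.2.2.1 _ (zs_sub hφ) _ (zs_sub hφ), Complex.sub_re, Complex.ofReal_re, ← hsum]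
      have h5 : ∑ α ∈ R φ, (c α : ℝ) ≤ ∑ α ∈ R φ, (c α : ℝ) ^ 2 / 1 := by
        refine Finset.sum_le_sum fun α _ => ?_
        rw [div_one]; exact int_le_sq _
      show _ ≤ (0 : ℝ)
      linarith
    · rw [ci_self_im]; rfl
  refine ⟨c, ?_⟩
  rw [sub_eq_zero] at h3
  rw [h3]
  refine Finset.sum_congr rfl fun α _ => ?_
  simp

/-- orthogonality to coherent images -/
theorem orth_tau {S₁ : Set (L → ℂ)} (hS₁ : S₁ ⊆ S) {τ₁ : (L → ℂ) → (G → ℂ)} (hτ₁ : IsLinearIsometryOn (zspan S₁) τ₁)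
    (hag : ∀ α ∈ zspanOn S₁ {1}ᶜ, τ₁ α = τ α) {φ : L → ℂ} (hφ : φ ∈ S₁) (hφc : conjFun φ ∈ S₁)
    {f : G → ℂ} (hf : ∀ α ∈ R φ, classInner f α = 0) : classInner f (τ₁ φ) = 0 := by
  obtain ⟨c, hc⟩ := tau_span hS hS₁ hτ₁ hag hφ hφc
  rw [hc, ci_sum_right]
  apply Finset.sum_eq_zero
  intro α hα
  rw [ci_smul_right, hf α hα, mul_zero]

omit hS in
theorem base_cond {T : Set (L → ℂ)} (hτ : IsLinearIsometryOn (zspanOn T {1}ᶜ) τ) {χ₁ : L → ℂ} (hχ₁ : χ₁ ∈ zspan T)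
    (h1 : χ₁ 1 ≠ 0) {X : G → ℂ}
    (h : ∀ φ ∈ T, ∃ m : ℤ, φ 1 = m * χ₁ 1 ∧ classInner X (τ (φ - m • χ₁)) = classInner χ₁ (φ - m • χ₁)) :
    (∀ α ∈ zspan T, ∃ n : ℤ, α 1 = n * χ₁ 1) ∧ ∀ e ∈ zspanOn T {1}ᶜ, classInner X (τ e) = classInner χ₁ e := by
  have key : ∀ α ∈ zspan T, ∃ m : ℤ, α 1 = m * χ₁ 1 ∧ classInner X (τ (α - m • χ₁)) = classInner χ₁ (α - m • χ₁) := by
    intro α hα
    have hmem : ∀ {α : L → ℂ} {m : ℤ}, α ∈ zspan T → α 1 = m * χ₁ 1 → α - m • χ₁ ∈ zspanOn T {1}ᶜ := by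
      intro α m hα e
      rw [zo_iff]
      exact ⟨zs_diff hα (zs_zsmul _ hχ₁), by rw [zc, Pi.sub_apply, Pi.smul_apply, smul_eq_mul, e, sub_self]⟩
    refine zs_ind (p := fun α => ∃ m : ℤ, α 1 = m * χ₁ 1 ∧ classInner X (τ (α - m • χ₁)) = classInner χ₁ (α - m • χ₁)) h ?_ ?_ ?_ hα
    · refine ⟨0, by simp, ?_⟩
      rw [zero_smul, sub_zero, iso_zero hτ zo_zero, ci_zero_right, ci_zero_right]
    · rintro α hα β hβ ⟨m, em, hm⟩ ⟨n, en, hn⟩
      refine ⟨m + n, by rw [Pi.add_apply, em, en]; push_cast; ring, ?_⟩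
      have e : α + β - (m + n) • χ₁ = (α - m • χ₁) + (β - n • χ₁) := by rw [add_smul]; abel
      rw [e, hτ.1 _ (hmem hα em) _ (hmem hβ en), ci_add_right, ci_add_right, hm, hn]
    · rintro α hα ⟨m, em, hm⟩
      refine ⟨-m, by rw [Pi.neg_apply, em]; push_cast; ring, ?_⟩
      have e : -α - (-m) • χ₁ = -(α - m • χ₁) := by rw [neg_smul]; abel
      rw [e, iso_neg hτ (hmem hα em), ci_neg_right', ci_neg_right', hm]
  refine ⟨fun α hα => ?_, fun e he => ?_⟩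
  · obtain ⟨m, hm, -⟩ := key α hα
    exact ⟨m, hm⟩
  · obtain ⟨he1, he2⟩ := zo_iff.1 he
    obtain ⟨m, hm, h2⟩ := key e he1
    rw [he2] at hm
    have h3 : m = 0 := by
      rcases mul_eq_zero.1 hm.symm with h | h
      · exact_mod_cast h
      · exact absurd h h1
    rw [h3, zero_smul, sub_zero] at h2
    exact h2

end Sys

end Cfsg.Agent.H10.Coh4
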