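import Mathlib
import Cfsg.Agent.H10_Coh4

/-!
H10_Coh5: coherence: extension of coherent sets (Peterfalvi 5.6, 5.7).
-/

set_option autoImplicit false
set_option linter.style.haveILetI false
set_option linter.unusedSectionVars false

namespace Cfsg.Agent.H10.Coh5

open Cfsg Cfsg.Agent.H3.CharIrr Cfsg.Agent.H3.CharComplete Cfsg.Agent.H3.CharInd
  Cfsg.Agent.H3.CharBasic Cfsg.Agent.H10.PM Cfsg.Agent.H10.Coh Cfsg.Agent.H10.Coh2 Cfsg.Agent.H10.Coh3 Cfsg.Agent.H10.Coh4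
open scoped ComplexConjugate

variable {L : Type*} [Group L] [Fintype L] {G : Type*} [Group G] [Fintype G]
  {S : Set (L → ℂ)} {τ : (L → ℂ) → (G → ℂ)} {R : (L → ℂ) → Finset (G → ℂ)} (hS : IsCoherenceSystem S τ R)
include hS

/-- Peterfalvi (5.6) -/
theorem extend_pair (d n : (L → ℂ) → ℕ) (hd : ∀ φ ∈ S, φ 1 = (d φ : ℂ)) (hn : ∀ φ ∈ S, classInner φ φ = (n φ : ℂ))
    (S₁ : Finset (L → ℂ)) (hS₁ : ↑S₁ ⊆ S) (hS₁c : ∀ φ ∈ S₁, conjFun φ ∈ S₁)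
    (hcoh : IsCoherent (↑S₁ : Set (L → ℂ)) {1}ᶜ τ) (χ : L → ℂ) (hχ : χ ∈ S) (hχ₁ : χ ∉ S₁) (hχ₂ : conjFun χ ∉ S₁)
    (χ₁ : L → ℂ) (hχ₁S : χ₁ ∈ S₁) (hdvd : d χ₁ ∣ d χ)
    (hineq : (2 * d χ * d χ₁ : ℝ) < ∑ φ ∈ S₁, ((d φ : ℝ) ^ 2 / (n φ : ℝ))) :
    IsCoherent (↑S₁ ∪ {χ, conjFun χ} : Set (L → ℂ)) {1}ᶜ τ := by
  classical
  obtain ⟨⟨α₀, hα₀, hα₀ne⟩, τ₁, hτ₁, hag⟩ := hcoh
  obtain ⟨a, ha⟩ := hdvd
  have hS₁' : ∀ φ ∈ S₁, φ ∈ S := fun φ hφ => hS₁ hφ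
  have hχ₁S' : χ₁ ∈ (↑S₁ : Set (L → ℂ)) := hχ₁S
  have hSmem := hS₁' χ₁ hχ₁S
  have npos : ∀ φ ∈ S, 0 < (n φ : ℝ) := by
    intro φ hφ
    have h1 := norm_pos hS hφ
    rw [hn φ hφ] at h1
    simpa using h1
  have hχc := hS.conj_mem χ hχ
  have hχφ : ∀ φ ∈ S₁, classInner χ φ = 0 := fun φ hφ => hS.orthogonal χ hχ φ (hS₁' φ hφ) (fun h => hχ₁ (h ▸ hφ))
  have hχφ' : ∀ φ ∈ S₁, classInner φ χ = 0 := fun φ hφ => hS.orthogonal φ (hS₁' φ hφ) χ hχ (fun h => hχ₁ (h ▸ hφ))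
  have hχcφ : ∀ φ ∈ S₁, classInner φ (conjFun χ) = 0 := fun φ hφ =>
    hS.orthogonal φ (hS₁' φ hφ) _ hχc (fun h => hχ₂ (h ▸ hφ))
  have hχcφ' : ∀ φ ∈ S₁, classInner (conjFun χ) φ = 0 := fun φ hφ =>
    hS.orthogonal _ hχc φ (hS₁' φ hφ) (fun h => hχ₂ (h ▸ hφ))
  -- R χ is orthogonal to τ₁ φ
  have hRτ : ∀ β ∈ R χ, ∀ φ ∈ S₁, classInner β (τ₁ φ) = 0 := by
    intro β hβ φ hφ
    apply orth_tau hS hS₁ hτ₁ hag hφ (hS₁c φ hφ)
    intro α hα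
    have h1 := hS.disjoint χ hχ φ (hS₁' φ hφ) (hχφ' φ hφ) (hχcφ φ hφ) α hα β hβ
    rw [← ci_conj_symm, h1, map_zero]
  set ψ : L → ℂ := (a : ℤ) • χ₁ with hψ
  have hψm : ψ ∈ zspan (↑S₁ : Set (L → ℂ)) := zs_zsmul _ (zs_sub hχ₁S')
  have hψ1 : ψ 1 = χ 1 := by
    rw [hψ, zc, Pi.smul_apply, smul_eq_mul, hd χ₁ hSmem, hd χ hχ, ha]; push_cast; ring
  have hmem : χ - ψ ∈ zspanOn S {1}ᶜ := by
    rw [zo_iff]
    exact ⟨zs_diff (zs_sub hχ) (zs_mono hS₁ hψm), by rw [Pi.sub_apply, hψ1, sub_self]⟩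
  have hτ := hS.isometry
  set F := τ (χ - ψ) with hF
  have hFgen : IsGeneralizedCharacter G F := hτ.2.2.2 _ hmem
  have hFF : classInner F F = n χ + (a : ℂ) ^ 2 * n χ₁ := by
    rw [hF, hτ.2.2.1 _ hmem _ hmem, hψ, zc, ci_sub_left, ci_sub_right, ci_sub_right, ci_smul_left, ci_smul_left,
      ci_smul_right, ci_smul_right, hχφ _ hχ₁S, hχφ' _ hχ₁S, hn χ hχ, hn χ₁ hSmem]
    simp; ring
  have hcint : ∀ α ∈ R χ, ∃ k : ℤ, classInner F α = k := fun α hα => ci_gen_int hFgen (hS.virtual χ hχ α hα)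
  choose! c hc using hcint
  have hcsum : ∑ α ∈ R χ, classInner F α = n χ := by
    rw [← ci_sum_right, ← hS.sum_eq χ hχ, hF, hτ.2.2.1 _ hmem _ (diff_mem hS hχ), hψ, zc, ci_sub_left, ci_sub_right,
      ci_sub_right, ci_smul_left, ci_smul_left, conj_orth hS hχ, hχφ' _ hχ₁S, hχcφ _ hχ₁S, hn χ hχ]
    simp
  have hcsum' : ∑ α ∈ R χ, (c α : ℝ) = n χ := by
    have h1 : ((∑ α ∈ R χ, (c α : ℝ) : ℝ) : ℂ) = n χ := by
      rw [← hcsum]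
      push_cast
      exact Finset.sum_congr rfl fun α hα => (hc α hα).symm
    exact_mod_cast h1
  have hyint : ∀ φ ∈ S₁, ∃ k : ℤ, classInner F (τ₁ φ) = k := fun φ hφ =>
    ci_gen_int hFgen (hτ₁.2.2.2 _ (zs_sub (S := (↑S₁ : Set (L → ℂ))) hφ))
  choose! y hy using hyint
  -- Bessel
  obtain ⟨-, hb1⟩ := bessel (R χ) (fun α => α) F (fun α => (c α : ℝ)) (fun _ => 1) (by
    intro α hα β hβ
    rw [hS.orthonormal χ hχ α hα β hβ]; split_ifs <;> norm_num) (fun _ _ => one_pos) (fun α hα => by rw [hc α hα]; norm_cast)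
  set Z := F - ∑ α ∈ R χ, (((c α : ℝ) / 1 : ℝ) : ℂ) • α with hZ
  have hb2 := bessel_le S₁ τ₁ Z (fun φ => (y φ : ℝ)) (fun φ => (n φ : ℝ)) (by
    intro φ hφ ζ hζ
    rw [hτ₁.2.2.1 _ (zs_sub (S := (↑S₁ : Set (L → ℂ))) hφ) _ (zs_sub (S := (↑S₁ : Set (L → ℂ))) hζ)]
    split_ifs with h
    · rw [← h, hn φ (hS₁' φ hφ)]; simp
    · exact hS.orthogonal φ (hS₁' φ hφ) ζ (hS₁' ζ hζ) h) (fun φ hφ => npos φ (hS₁' φ hφ)) (by
    intro φ hφ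
    rw [hZ, ci_sub_left, ci_sum_left, hy φ hφ, Finset.sum_eq_zero]
    · norm_cast; simp
    · intro α hα
      rw [ci_smul_left, hRτ α hα φ hφ, mul_zero])
  have hle : ∑ φ ∈ S₁, (y φ : ℝ) ^ 2 / n φ ≤ (a : ℝ) ^ 2 * n χ₁ := by
    refine hb2.trans ?_
    rw [hb1, hFF, Complex.sub_re, Complex.ofReal_re]
    have h1 : ((n χ : ℂ) + (a : ℂ) ^ 2 * n χ₁).re = n χ + (a : ℝ) ^ 2 * n χ₁ := by
      have : ((n χ : ℂ) + (a : ℂ) ^ 2 * n χ₁) = (((n χ : ℝ) + (a : ℝ) ^ 2 * n χ₁ : ℝ) : ℂ) := by push_cast; ring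
      rw [this, Complex.ofReal_re]
    rw [h1]
    have h2 : (n χ : ℝ) ≤ ∑ α ∈ R χ, (c α : ℝ) ^ 2 / 1 := by
      rw [← hcsum']
      exact Finset.sum_le_sum fun α _ => by rw [div_one]; exact int_le_sq _
    linarith
  -- the relation
  have hrel : ∀ φ ∈ S₁, (d χ₁ : ℝ) * y φ = d φ * (y χ₁ + a * n χ₁) - (if φ = χ₁ then (a : ℝ) * d χ₁ * n χ₁ else 0) := by
    intro φ hφ
    have hφS : φ ∈ (↑S₁ : Set (L → ℂ)) := hφ
    have m1 : (d χ₁ : ℤ) • φ + (-(d φ : ℤ)) • χ₁ ∈ zspanOn (↑S₁ : Set (L → ℂ)) {1}ᶜ := by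
      rw [zo_iff]
      refine ⟨zs_add (zs_zsmul _ (zs_sub hφS)) (zs_zsmul _ (zs_sub hχ₁S')), ?_⟩
      rw [zc, zc, Pi.add_apply, Pi.smul_apply, Pi.smul_apply, smul_eq_mul, smul_eq_mul, hd χ₁ hSmem, hd φ (hS₁' φ hφ)]
      push_cast; ring
    have h1 : classInner F (τ₁ ((d χ₁ : ℤ) • φ + (-(d φ : ℤ)) • χ₁)) = classInner (χ - ψ) ((d χ₁ : ℤ) • φ + (-(d φ : ℤ)) • χ₁) := by
      rw [hag _ m1, hF, hτ.2.2.1 _ hmem _ (zo_mono hS₁ m1)]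
    rw [hτ₁.1 _ (zs_zsmul _ (zs_sub hφS)) _ (zs_zsmul _ (zs_sub hχ₁S')), hτ₁.2.1 _ (zs_sub hφS), hτ₁.2.1 _ (zs_sub hχ₁S')] at h1
    simp only [hψ, zc, ci_add_right, ci_sub_left, ci_smul_left, ci_smul_right, hy φ hφ, hy χ₁ hχ₁S, hχφ φ hφ, hχφ χ₁ hχ₁S,
      hn χ₁ hSmem, map_intCast] at h1
    have h2 : classInner χ₁ φ = if φ = χ₁ then (n χ₁ : ℂ) else 0 := by
      split_ifs with h
      · rw [h]; exact hn χ₁ hSmem
      · exact hS.orthogonal _ hSmem _ (hS₁' φ hφ) (Ne.symm h)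
    rw [h2] at h1
    have h3 : (((d χ₁ : ℝ) * y φ : ℝ) : ℂ) = ((d φ * (y χ₁ + a * n χ₁) - (if φ = χ₁ then (a : ℝ) * d χ₁ * n χ₁ else 0) : ℝ) : ℂ) := by
      split_ifs with h
      · rw [if_pos h] at h1
        push_cast at h1 ⊢
        linear_combination h1
      · rw [if_neg h] at h1
        push_cast at h1 ⊢
        linear_combination h1
    exact_mod_cast h3
  set k : ℤ := y χ₁ + a * n χ₁ with hk
  have hk' : (y χ₁ : ℝ) + a * n χ₁ = k := by rw [hk]; push_cast; ring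
  have hd1 : (0 : ℝ) < d χ₁ := by
    have h1 : d χ₁ ≠ 0 := by
      intro h
      have h2 := hd χ₁ hSmem
      rw [h] at h2
      exact one_ne hS hSmem (by rw [h2]; simp)
    exact_mod_cast Nat.pos_of_ne_zero h1
  have hdχ : (0 : ℝ) < d χ := by
    have h1 : d χ ≠ 0 := by
      intro h
      have h2 := hd χ hχ
      rw [h] at h2
      exact one_ne hS hχ (by rw [h2]; simp)
    exact_mod_cast Nat.pos_of_ne_zero h1
  have ha' : (d χ : ℝ) = d χ₁ * a := by exact_mod_cast ha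
  set D : ℝ := ∑ φ ∈ S₁, ((d φ : ℝ) ^ 2 / (n φ : ℝ)) with hD
  have hsq : (d χ₁ : ℝ) ^ 2 * ∑ φ ∈ S₁, (y φ : ℝ) ^ 2 / n φ = (k : ℝ) ^ 2 * D - 2 * k * d χ * d χ₁ + (a : ℝ) ^ 2 * d χ₁ ^ 2 * n χ₁ := by
    have h1 : ∀ φ ∈ S₁, (d χ₁ : ℝ) ^ 2 * ((y φ : ℝ) ^ 2 / n φ) = (k : ℝ) ^ 2 * ((d φ) ^ 2 / n φ) +
        (if φ = χ₁ then - 2 * k * (d χ₁ : ℝ) * ((a : ℝ) * d χ₁) + (a : ℝ) ^ 2 * d χ₁ ^ 2 * n χ₁ else 0) := by
      intro φ hφ
      have hne := (npos φ (hS₁' φ hφ)).ne'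
      have h3 : (d χ₁ : ℝ) ^ 2 * ((y φ : ℝ) ^ 2 / n φ) = ((d χ₁ : ℝ) * y φ) ^ 2 / n φ := by ring
      rw [h3, hrel φ hφ, hk']
      split_ifs with h
      · rw [h] at hne ⊢
        field_simp
        ring
      · ring
    rw [Finset.mul_sum, Finset.sum_congr rfl h1, Finset.sum_add_distrib, ← Finset.mul_sum, Finset.sum_ite_eq' S₁ χ₁,
      if_pos hχ₁S, ha']
    ring
  have hle2 : (k : ℝ) ^ 2 * D ≤ 2 * k * d χ * d χ₁ := by
    have h1 := mul_le_mul_of_nonneg_left hle (sq_nonneg (d χ₁ : ℝ))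
    rw [hsq] at h1
    nlinarith
  have hk0 : k = 0 := by
    by_contra hk0
    have hDpos : 0 < D := lt_trans (by positivity) hineq
    rcases lt_or_gt_of_ne hk0 with h | h
    · have h1 : (k : ℝ) < 0 := by exact_mod_cast h
      have h2 : 0 < (k : ℝ) ^ 2 * D := by positivity
      have h3 : 2 * (k : ℝ) * d χ * d χ₁ < 0 := by
        have : 0 < (d χ : ℝ) * d χ₁ := by positivity
        nlinarith
      linarith
    · have h1 : (1 : ℝ) ≤ k := by exact_mod_cast h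
      have h2 : 0 < (k : ℝ) * (k * D - 2 * d χ * d χ₁) := by
        apply mul_pos (by linarith)
        have : D ≤ k * D := by nlinarith
        linarith
      nlinarith
  have hyval : ∀ φ ∈ S₁, (y φ : ℝ) = - (if φ = χ₁ then (a : ℝ) * n χ₁ else 0) := by
    intro φ hφ
    have h1 := hrel φ hφ
    rw [hk', hk0] at h1
    have h2 : (d χ₁ : ℝ) * y φ = d χ₁ * - (if φ = χ₁ then (a : ℝ) * n χ₁ else 0) := by
      rw [h1]; split_ifs <;> push_cast <;> ring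
    exact mul_left_cancel₀ hd1.ne' h2
  have hyC : ∀ φ ∈ S₁, (y φ : ℂ) = - (if φ = χ₁ then (a : ℂ) * n χ₁ else 0) := by
    intro φ hφ
    have h1 := congrArg (fun x : ℝ => (x : ℂ)) (hyval φ hφ)
    beta_reduce at h1
    split_ifs at h1 ⊢ with h
    · push_cast at h1; exact h1
    · simpa using h1
  have hsub1 : insert χ (↑S₁ : Set (L → ℂ)) ⊆ S := by
    intro x hx
    rcases hx with rfl | hx
    · exact hχ
    · exact hS₁ hx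
  obtain ⟨τ₂, h2iso, h2ag, h2χ, h2S⟩ := ext_one (S₁ := (↑S₁ : Set (L → ℂ))) (χ := χ) (τ := τ) (τ₁ := τ₁)
    (fun ξ hξ => gen_of_mem hS (hsub1 hξ)) (fun ξ hξ => norm_ne hS (hsub1 hξ))
    (fun ξ hξ ζ hζ hne => hS.orthogonal _ (hsub1 hξ) _ (hsub1 hζ) hne) (fun h => hχ₁ h)
    (iso_mono hτ (fun x hx => zo_mono hsub1 hx)) hτ₁ hag hψm hψ1 rfl (by
      intro ξ hξ
      rw [← hF, hψ, hτ₁.2.1 _ (zs_sub hχ₁S'), zc, ci_add_left, ci_smul_left, hy ξ hξ,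
        hτ₁.2.2.1 _ (zs_sub hχ₁S') _ (zs_sub hξ), hyC ξ hξ]
      by_cases h : ξ = χ₁
      · rw [h, if_pos rfl, hn χ₁ hSmem]; push_cast; ring
      · rw [if_neg h, hS.orthogonal _ hSmem _ (hS₁ hξ) (Ne.symm h)]; simp)
  -- second step
  have hsub2 : insert (conjFun χ) (insert χ (↑S₁ : Set (L → ℂ))) ⊆ S := by
    intro x hx
    rcases hx with rfl | hx
    · exact hχc
    · exact hsub1 hx
  have hcn : conjFun χ ∉ insert χ (↑S₁ : Set (L → ℂ)) := by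
    intro h
    rcases h with h | h
    · exact hS.conj_ne χ hχ h
    · exact hχ₂ h
  have hmemc : χ - conjFun χ ∈ zspanOn S {1}ᶜ := diff_mem hS hχ
  have hmemc' : conjFun χ - χ ∈ zspanOn S {1}ᶜ := by
    have := zo_neg hmemc
    rwa [neg_sub] at this
  have hτc : τ (conjFun χ - χ) = - ∑ α ∈ R χ, α := by
    rw [← hS.sum_eq χ hχ, ← neg_sub, iso_neg hτ hmemc]
  obtain ⟨τ₃, h3iso, h3ag, -, -⟩ := ext_one (S₁ := insert χ (↑S₁ : Set (L → ℂ))) (χ := conjFun χ) (τ := τ) (τ₁ := τ₂)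
    (fun ξ hξ => gen_of_mem hS (hsub2 hξ)) (fun ξ hξ => norm_ne hS (hsub2 hξ))
    (fun ξ hξ ζ hζ hne => hS.orthogonal _ (hsub2 hξ) _ (hsub2 hζ) hne) hcn
    (iso_mono hτ (fun x hx => zo_mono hsub2 hx)) h2iso h2ag (zs_sub (Set.mem_insert _ _))
    (by
      have := (zo_iff.1 hmemc).2
      rw [Pi.sub_apply, sub_eq_zero] at this
      exact this) rfl (by
      intro ξ hξ
      have hF2 : τ₂ χ = F + τ₁ ψ := h2χ
      rcases hξ with rfl | hξ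
      · rw [ci_add_left, h2iso.2.2.1 _ (zs_sub (Set.mem_insert _ _)) _ (zs_sub (Set.mem_insert _ _)), hn _ hχ, hF2,
          ci_add_right, hτc, ci_neg_left', ci_neg_left', ci_sum_left, ci_sum_left]
        have e1 : ∑ i ∈ R ξ, classInner i F = n ξ := by
          rw [← hcsum]
          exact Finset.sum_congr rfl fun α hα => gen_comm (hS.virtual ξ hχ α hα) hFgen
        have e2 : ∑ i ∈ R ξ, classInner i (τ₁ ψ) = 0 := by
          apply Finset.sum_eq_zero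
          intro α hα
          exact orth_iso hτ₁ (fun φ hφ => hRτ α hα φ hφ) ψ hψm
        rw [e1, e2]; ring
      · have hξ' : ξ ∈ S₁ := hξ
        rw [ci_add_left, h2iso.2.2.1 _ (zs_sub (Set.mem_insert _ _)) _ (zs_sub (Set.mem_insert_of_mem _ hξ)),
          hχφ ξ hξ', h2S _ (zs_sub hξ), hτc, ci_neg_left', ci_sum_left, Finset.sum_eq_zero (fun α hα => hRτ α hα ξ hξ')]
        ring)
  have hunion : (↑S₁ ∪ {χ, conjFun χ} : Set (L → ℂ)) = insert (conjFun χ) (insert χ (↑S₁ : Set (L → ℂ))) := by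
    ext x
    simp only [Set.mem_union, Set.mem_insert_iff, Set.mem_singleton_iff]
    tauto
  rw [hunion]
  refine ⟨⟨α₀, zo_mono ?_ hα₀, hα₀ne⟩, τ₃, h3iso, h3ag⟩
  intro x hx
  exact Or.inr (Or.inr hx)

end Cfsg.Agent.H10.Coh5
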