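import Mathlib
import Cfsg.Agent.H10_Coh5

/-!
H10_Coh6: coherence of sets of characters of equal degree (Peterfalvi 5.7).
-/

set_option autoImplicit false
set_option linter.style.haveILetI false
set_option linter.unusedSectionVars false

namespace Cfsg.Agent.H10.Coh6

open Cfsg Cfsg.Agent.H3.CharIrr Cfsg.Agent.H3.CharComplete Cfsg.Agent.H3.CharInd
  Cfsg.Agent.H3.CharBasic Cfsg.Agent.H10.PM Cfsg.Agent.H10.Coh Cfsg.Agent.H10.Coh2 Cfsg.Agent.H10.Coh3 Cfsg.Agent.H10.Coh4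
open scoped ComplexConjugate

variable {L : Type*} [Group L] [Fintype L] {G : Type*} [Group G] [Fintype G]
  {S : Set (L → ℂ)} {τ : (L → ℂ) → (G → ℂ)} {R : (L → ℂ) → Finset (G → ℂ)} (hS : IsCoherenceSystem S τ R)
include hS

/-- structure of `τ (χ₁ - φ)` for characters of equal degree -/
theorem pair_struct {χ₁ φ : L → ℂ} (hχ₁ : χ₁ ∈ S) (hφ : φ ∈ S) (hdeg : χ₁ 1 = φ 1) (h1 : φ ≠ χ₁) (h2 : φ ≠ conjFun χ₁) :
    ∃ c e : (G → ℂ) → ℤ, τ (χ₁ - φ) = ∑ α ∈ R χ₁, (c α : ℂ) • α - ∑ β ∈ R φ, (e β : ℂ) • β ∧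
      (∑ α ∈ R χ₁, (c α : ℂ) = classInner χ₁ χ₁) ∧ ∀ α ∈ R χ₁, (c α : ℂ) ^ 2 = c α := by
  classical
  have hτ := hS.isometry
  have hmem : χ₁ - φ ∈ zspanOn S {1}ᶜ := by
    rw [zo_iff]
    exact ⟨zs_diff (zs_sub hχ₁) (zs_sub hφ), by rw [Pi.sub_apply, hdeg, sub_self]⟩
  set F := τ (χ₁ - φ) with hF
  have hFgen : IsGeneralizedCharacter G F := hτ.2.2.2 _ hmem
  have hχφ : classInner χ₁ φ = 0 := hS.orthogonal _ hχ₁ _ hφ (Ne.symm h1)
  have hφχ : classInner φ χ₁ = 0 := hS.orthogonal _ hφ _ hχ₁ h1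
  have hφχ' : classInner φ (conjFun χ₁) = 0 := hS.orthogonal _ hφ _ (hS.conj_mem _ hχ₁) h2
  have hne' : χ₁ ≠ conjFun φ := fun h => h2 (by rw [h, conj_conj])
  have hχφ' : classInner χ₁ (conjFun φ) = 0 := hS.orthogonal _ hχ₁ _ (hS.conj_mem _ hφ) hne'
  obtain ⟨c, hc⟩ : ∃ c : (G → ℂ) → ℤ, ∀ α ∈ R χ₁, classInner F α = c α := by
    have : ∀ α ∈ R χ₁, ∃ k : ℤ, classInner F α = k := fun α hα => ci_gen_int hFgen (hS.virtual χ₁ hχ₁ α hα)
    choose! c hc using this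
    exact ⟨c, hc⟩
  obtain ⟨e, he⟩ : ∃ e : (G → ℂ) → ℤ, ∀ β ∈ R φ, classInner F β = e β := by
    have : ∀ α ∈ R φ, ∃ k : ℤ, classInner F α = k := fun α hα => ci_gen_int hFgen (hS.virtual φ hφ α hα)
    choose! c hc using this
    exact ⟨c, hc⟩
  have hcs : ∑ α ∈ R χ₁, (c α : ℂ) = classInner χ₁ χ₁ := by
    rw [← Finset.sum_congr rfl hc, ← ci_sum_right, ← hS.sum_eq χ₁ hχ₁, hF, hτ.2.2.1 _ hmem _ (diff_mem hS hχ₁), ci_sub_left,
      ci_sub_right, ci_sub_right, conj_orth hS hχ₁, hφχ, hφχ']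
    ring
  have hes : ∑ β ∈ R φ, (e β : ℂ) = - classInner φ φ := by
    rw [← Finset.sum_congr rfl he, ← ci_sum_right, ← hS.sum_eq φ hφ, hF, hτ.2.2.1 _ hmem _ (diff_mem hS hφ), ci_sub_left,
      ci_sub_right, ci_sub_right, conj_orth hS hφ, hχφ, hχφ']
    ring
  have hFF : classInner F F = classInner χ₁ χ₁ + classInner φ φ := by
    rw [hF, hτ.2.2.1 _ hmem _ hmem, ci_sub_left, ci_sub_right, ci_sub_right, hχφ, hφχ]; ring
  have hdis : ∀ α ∈ R χ₁, ∀ β ∈ R φ, classInner α β = 0 := hS.disjoint φ hφ χ₁ hχ₁ hχφ hχφ'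
  obtain ⟨hz1, hb1⟩ := bessel (R χ₁) (fun α => α) F (fun α => (c α : ℝ)) (fun _ => 1) (by
    intro α hα β hβ
    rw [hS.orthonormal χ₁ hχ₁ α hα β hβ]; split_ifs <;> norm_num) (fun _ _ => one_pos) (fun α hα => by rw [hc α hα]; norm_cast)
  set Z := F - ∑ α ∈ R χ₁, (((c α : ℝ) / 1 : ℝ) : ℂ) • α with hZ
  obtain ⟨hz2, hb2⟩ := bessel (R φ) (fun α => α) Z (fun α => (e α : ℝ)) (fun _ => 1) (by
    intro α hα β hβ
    rw [hS.orthonormal φ hφ α hα β hβ]; split_ifs <;> norm_num) (fun _ _ => one_pos) (by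
    intro β hβ
    rw [hZ, ci_sub_left, ci_sum_left, he β hβ, Finset.sum_eq_zero]
    · norm_cast; simp
    · intro α hα
      rw [ci_smul_left, hdis α hα β hβ, mul_zero])
  have hcr : (classInner χ₁ χ₁).re = ∑ α ∈ R χ₁, (c α : ℝ) := by
    rw [← hcs, Complex.re_sum]; simp
  have her : (classInner φ φ).re = - ∑ α ∈ R φ, (e α : ℝ) := by
    have h3 : classInner φ φ = - ∑ β ∈ R φ, (e β : ℂ) := by rw [hes, neg_neg]
    rw [h3, Complex.neg_re, Complex.re_sum]; simp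
  have hle1 : ∑ α ∈ R χ₁, (c α : ℝ) ≤ ∑ α ∈ R χ₁, (c α : ℝ) ^ 2 / 1 :=
    Finset.sum_le_sum fun α _ => by rw [div_one]; exact int_le_sq _
  have hle2 : - ∑ α ∈ R φ, (e α : ℝ) ≤ ∑ α ∈ R φ, (e α : ℝ) ^ 2 / 1 := by
    rw [← Finset.sum_neg_distrib]
    refine Finset.sum_le_sum fun α _ => ?_
    rw [div_one]
    have := int_le_sq (-(e α))
    push_cast at this
    linarith [this]
  have hnn := ci_self_re_nonneg (Z - ∑ β ∈ R φ, (((e β : ℝ) / 1 : ℝ) : ℂ) • β)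
  rw [hb2, hb1, hFF, Complex.sub_re, Complex.sub_re, Complex.add_re, Complex.ofReal_re, Complex.ofReal_re, hcr, her] at hnn
  have hceq : ∑ α ∈ R χ₁, (c α : ℝ) = ∑ α ∈ R χ₁, (c α : ℝ) ^ 2 / 1 := by linarith
  have hzero : Z - ∑ β ∈ R φ, (((e β : ℝ) / 1 : ℝ) : ℂ) • β = 0 := by
    apply ci_self_eq_zero
    apply Complex.ext
    · show (classInner (Z - ∑ β ∈ R φ, (((e β : ℝ) / 1 : ℝ) : ℂ) • β) (Z - ∑ β ∈ R φ, (((e β : ℝ) / 1 : ℝ) : ℂ) • β)).re = 0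
      rw [hb2, hb1, hFF, Complex.sub_re, Complex.sub_re, Complex.add_re, Complex.ofReal_re, Complex.ofReal_re, hcr, her]
      linarith
    · rw [ci_self_im]; rfl
  refine ⟨c, fun β => -(e β), ?_, hcs, ?_⟩
  · have h3 : F = ∑ α ∈ R χ₁, (((c α : ℝ) / 1 : ℝ) : ℂ) • α + ∑ β ∈ R φ, (((e β : ℝ) / 1 : ℝ) : ℂ) • β := by
      rw [sub_eq_zero] at hzero
      rw [← hzero, hZ]; abel
    rw [h3, sub_eq_add_neg, ← Finset.sum_neg_distrib]
    congr 1
    · exact Finset.sum_congr rfl fun α _ => by simp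
    · refine Finset.sum_congr rfl fun β _ => ?_
      push_cast
      rw [neg_smul, neg_neg]; simp
  · intro α hα
    have h4 := (Finset.sum_eq_sum_iff_of_le (s := R χ₁) (f := fun α => (c α : ℝ)) (g := fun α => (c α : ℝ) ^ 2 / 1)
      (fun α _ => by rw [div_one]; exact int_le_sq _)).1 hceq α hα
    rw [div_one] at h4
    have h5 : c α = c α ^ 2 := by exact_mod_cast h4
    exact_mod_cast h5.symm

/-- Peterfalvi (5.7) -/
theorem equal_deg (hdeg : ∀ φ ∈ S, ∀ ψ ∈ S, φ 1 = ψ 1) : IsCoherent S {1}ᶜ τ := by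
  classical
  obtain ⟨χ₁, hχ₁⟩ := hS.nonempty
  have hτ := hS.isometry
  have hone := one_ne hS hχ₁
  have hmem : ∀ φ ∈ S, χ₁ - φ ∈ zspanOn S {1}ᶜ := by
    intro φ hφ
    rw [zo_iff]
    exact ⟨zs_diff (zs_sub hχ₁) (zs_sub hφ), by rw [Pi.sub_apply, hdeg χ₁ hχ₁ φ hφ, sub_self]⟩
  obtain ⟨n, hn0, hn⟩ := norm_nat hS hχ₁
  -- it suffices to find X
  suffices hX : ∃ X : G → ℂ, IsGeneralizedCharacter G X ∧ classInner X X = classInner χ₁ χ₁ ∧
      ∀ φ ∈ S, φ ≠ χ₁ → classInner X (τ (χ₁ - φ)) = classInner χ₁ χ₁ by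
    obtain ⟨X, hXgen, hXX, hXτ⟩ := hX
    obtain ⟨hb1, hb2⟩ := base_cond (T := S) hτ (zs_sub hχ₁) hone (X := X) (by
      intro φ hφ
      refine ⟨1, by rw [hdeg φ hφ χ₁ hχ₁]; simp, ?_⟩
      rw [one_smul]
      by_cases h : φ = χ₁
      · rw [h, sub_self, iso_zero hτ zo_zero, ci_zero_right, ci_zero_right]
      · have e : φ - χ₁ = -(χ₁ - φ) := by abel
        rw [e, iso_neg hτ (hmem φ hφ), ci_neg_right', ci_neg_right', hXτ φ hφ h, ci_sub_right, hS.orthogonal χ₁ hχ₁ φ hφ (Ne.symm h),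
          sub_zero])
    obtain ⟨τ₁, h1, h2, -⟩ := extend_base hτ (zs_sub hχ₁) hone hb1 hXgen hXX (gen_of_mem hS hχ₁) (fun φ hφ => gen_of_mem hS hφ) hb2
    refine ⟨⟨χ₁ - conjFun χ₁, diff_mem hS hχ₁, fun h => hS.conj_ne χ₁ hχ₁ (sub_eq_zero.1 h).symm⟩, τ₁, h1, h2⟩
  have hcmem := hS.conj_mem χ₁ hχ₁
  by_cases hex : ∃ φ₀ ∈ S, φ₀ ≠ χ₁ ∧ φ₀ ≠ conjFun χ₁
  · obtain ⟨φ₀, hφ₀, hn1, hn2⟩ := hex
    obtain ⟨c, e, hF, hcs, hc2⟩ := pair_struct hS hχ₁ hφ₀ (hdeg _ hχ₁ _ hφ₀) hn1 hn2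
    set X := ∑ α ∈ R χ₁, (c α : ℂ) • α with hXdef
    have hXgen : IsGeneralizedCharacter G X := IsGen.sum _ _ fun α hα => IsGen.intsmul (hS.virtual χ₁ hχ₁ α hα) _
    have hXα : ∀ α ∈ R χ₁, classInner X α = c α := by
      intro α hα
      rw [hXdef, ci_sum_left, Finset.sum_eq_single α]
      · rw [ci_smul_left, hS.orthonormal χ₁ hχ₁ α hα α hα, if_pos rfl, mul_one]
      · intro β hβ hne
        rw [ci_smul_left, hS.orthonormal χ₁ hχ₁ β hβ α hα, if_neg hne, mul_zero]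
      · intro h; exact absurd hα h
    have hXX : classInner X X = classInner χ₁ χ₁ := by
      conv_lhs => rw [hXdef]
      rw [← hXdef]
      have : classInner X (∑ α ∈ R χ₁, (c α : ℂ) • α) = ∑ α ∈ R χ₁, (c α : ℂ) := by
        rw [ci_sum_right]
        refine Finset.sum_congr rfl fun α hα => ?_
        rw [ci_smul_right, hXα α hα, map_intCast, ← sq, hc2 α hα]
      rw [← hXdef] at this
      rw [this, hcs]
    -- orthogonality to other R's
    have hXR : ∀ φ ∈ S, classInner χ₁ φ = 0 → classInner χ₁ (conjFun φ) = 0 → ∀ β ∈ R φ, classInner X β = 0 := by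
      intro φ hφ h1 h2 β hβ
      rw [hXdef, ci_sum_left]
      apply Finset.sum_eq_zero
      intro α hα
      rw [ci_smul_left, hS.disjoint φ hφ χ₁ hχ₁ h1 h2 α hα β hβ, mul_zero]
    have hXRne : ∀ φ ∈ S, φ ≠ χ₁ → φ ≠ conjFun χ₁ → ∀ β ∈ R φ, classInner X β = 0 := by
      intro φ hφ h1 h2
      apply hXR φ hφ (hS.orthogonal _ hχ₁ _ hφ (Ne.symm h1))
      exact hS.orthogonal _ hχ₁ _ (hS.conj_mem _ hφ) (fun h => h2 (by rw [h, conj_conj]))
    refine ⟨X, hXgen, hXX, fun φ hφ hne => ?_⟩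
    by_cases hφ1 : φ = conjFun χ₁
    · rw [hφ1, hS.sum_eq χ₁ hχ₁, ci_sum_right, Finset.sum_congr rfl hXα, hcs]
    · have hXF₀ : classInner X (τ (χ₁ - φ₀)) = classInner χ₁ χ₁ := by
        rw [hF, ci_sub_right, hXX, ci_sum_right, Finset.sum_eq_zero, sub_zero]
        intro β hβ
        rw [ci_smul_right, hXRne φ₀ hφ₀ hn1 hn2 β hβ, mul_zero]
      by_cases hφ0 : φ = φ₀
      · rw [hφ0]; exact hXF₀
      · by_cases hφc : φ = conjFun φ₀
        · have e1 : χ₁ - φ = (χ₁ - φ₀) + (φ₀ - conjFun φ₀) := by rw [hφc]; abel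
          rw [e1, hτ.1 _ (hmem _ hφ₀) _ (diff_mem hS hφ₀), ci_add_right, hXF₀, hS.sum_eq φ₀ hφ₀, ci_sum_right,
            Finset.sum_eq_zero (hXRne φ₀ hφ₀ hn1 hn2), add_zero]
        · -- generic
          obtain ⟨c', e', hF', -, -⟩ := pair_struct hS hχ₁ hφ (hdeg _ hχ₁ _ hφ) hne hφ1
          have h1 : classInner (τ (χ₁ - φ₀)) (τ (χ₁ - φ)) = classInner χ₁ χ₁ := by
            rw [hτ.2.2.1 _ (hmem _ hφ₀) _ (hmem _ hφ), ci_sub_left, ci_sub_right, ci_sub_right,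
              hS.orthogonal _ hχ₁ _ hφ (Ne.symm hne), hS.orthogonal _ hφ₀ _ hχ₁ hn1, hS.orthogonal _ hφ₀ _ hφ (Ne.symm hφ0)]
            ring
          rw [hF, ci_sub_left] at h1
          have h2 : classInner (∑ β ∈ R φ₀, (e β : ℂ) • β) (τ (χ₁ - φ)) = 0 := by
            rw [ci_sum_left]
            apply Finset.sum_eq_zero
            intro β hβ
            rw [ci_smul_left, hF', ci_sub_right, ci_sum_right, ci_sum_right, Finset.sum_eq_zero, Finset.sum_eq_zero]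
            · ring
            · intro γ hγ
              have h3 : classInner β γ = 0 := hS.disjoint φ hφ φ₀ hφ₀ (hS.orthogonal _ hφ₀ _ hφ (Ne.symm hφ0))
                (hS.orthogonal _ hφ₀ _ (hS.conj_mem _ hφ) (fun h => hφc (by rw [h, conj_conj]))) β hβ γ hγ
              rw [ci_smul_right, h3, mul_zero]
            · intro γ hγ
              have h3 : classInner β γ = 0 := hS.disjoint χ₁ hχ₁ φ₀ hφ₀ (hS.orthogonal _ hφ₀ _ hχ₁ hn1)
                (hS.orthogonal _ hφ₀ _ hcmem hn2) β hβ γ hγ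
              rw [ci_smul_right, h3, mul_zero]
          rw [h2, sub_zero] at h1
          exact h1
  · -- S = {χ₁, conj χ₁}
    push Not at hex
    have hcard : (R χ₁).card = 2 * n := by
      have h1 := hτ.2.2.1 _ (diff_mem hS hχ₁) _ (diff_mem hS hχ₁)
      have hcc : classInner (conjFun χ₁) χ₁ = 0 := hS.orthogonal _ hcmem _ hχ₁ (hS.conj_ne χ₁ hχ₁)
      have hcn : classInner (conjFun χ₁) (conjFun χ₁) = n := by
        rw [classInner] at hn ⊢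
        have e1 : ∑ g : L, conjFun χ₁ g * conj (conjFun χ₁ g) = ∑ g : L, χ₁ g * conj (χ₁ g) := by
          refine Finset.sum_congr rfl fun g _ => ?_
          simp [conjFun, mul_comm]
        rw [e1]; exact hn
      rw [ci_sub_left, ci_sub_right, ci_sub_right, conj_orth hS hχ₁, hcc, hcn, hn, hS.sum_eq χ₁ hχ₁, ci_sum_left] at h1
      have h2 : ∀ α ∈ R χ₁, classInner α (∑ β ∈ R χ₁, β) = 1 := by
        intro α hα
        rw [ci_sum_right, Finset.sum_eq_single α]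
        · rw [hS.orthonormal χ₁ hχ₁ α hα α hα, if_pos rfl]
        · intro β hβ hne
          rw [hS.orthonormal χ₁ hχ₁ α hα β hβ, if_neg (Ne.symm hne)]
        · intro h; exact absurd hα h
      rw [Finset.sum_congr rfl h2, Finset.sum_const, nsmul_eq_mul, mul_one] at h1
      have h3 : ((R χ₁).card : ℂ) = ((2 * n : ℕ) : ℂ) := by rw [h1]; push_cast; ring
      exact_mod_cast h3
    obtain ⟨T, hT, hTc⟩ := Finset.exists_subset_card_eq (s := R χ₁) (n := n) (by omega)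
    have hTgen : IsGeneralizedCharacter G (∑ α ∈ T, α) := IsGen.sum _ _ fun α hα => hS.virtual χ₁ hχ₁ α (hT hα)
    have hTU : ∀ U : Finset (G → ℂ), T ⊆ U → U ⊆ R χ₁ → classInner (∑ α ∈ T, α) (∑ β ∈ U, β) = n := by
      intro U hTU hU
      rw [ci_sum_left]
      have h2 : ∀ α ∈ T, classInner α (∑ β ∈ U, β) = 1 := by
        intro α hα
        rw [ci_sum_right, Finset.sum_eq_single α]
        · rw [hS.orthonormal χ₁ hχ₁ α (hT hα) α (hT hα), if_pos rfl]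
        · intro β hβ hne
          rw [hS.orthonormal χ₁ hχ₁ α (hT hα) β (hU hβ), if_neg (Ne.symm hne)]
        · intro h; exact absurd (hTU hα) h
      rw [Finset.sum_congr rfl h2, Finset.sum_const, nsmul_eq_mul, mul_one, hTc]
    refine ⟨∑ α ∈ T, α, hTgen, ?_, fun φ hφ hne => ?_⟩
    · rw [hTU T le_rfl hT, hn]
    · rw [hex φ hφ hne, hS.sum_eq χ₁ hχ₁, hTU _ hT le_rfl, hn]

end Cfsg.Agent.H10.Coh6
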