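import Mathlib
import Cfsg.Agent.H10_Coh4
import Cfsg.Agent.H3_Isom

/-!
H10_CohI: coherence for sets of irreducible characters (no closure under conjugation).
-/

set_option autoImplicit false
set_option linter.style.haveILetI false
set_option linter.unusedSectionVars false

namespace Cfsg.Agent.H10.CohI

open Cfsg Cfsg.Agent.H3.CharIrr Cfsg.Agent.H3.CharComplete Cfsg.Agent.H3.CharInd Cfsg.Agent.H3.Isom
  Cfsg.Agent.H3.CharBasic Cfsg.Agent.H10.PM Cfsg.Agent.H10.Coh Cfsg.Agent.H10.Coh2 Cfsg.Agent.H10.Coh3 Cfsg.Agent.H10.Coh4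
open scoped ComplexConjugate

variable {L : Type*} [Group L] [Fintype L] {G : Type*} [Group G] [Fintype G]

open Classical in
theorem ci_if {a b : G → ℂ} (ha : IsIrrCharacter G a) (hb : IsIrrCharacter G b) :
    classInner a b = if a = b then 1 else 0 := by
  split_ifs with h
  · rw [h, ci_irr_self hb]
  · exact ci_irr_ne ha hb h

theorem equal_irr {S : Set (L → ℂ)} (hirr : ∀ χ ∈ S, IsIrrCharacter L χ) (hdeg : ∀ χ ∈ S, ∀ ψ ∈ S, χ 1 = ψ 1)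
    {τ : (L → ℂ) → (G → ℂ)} (hτ : IsLinearIsometryOn (zspanOn S {1}ᶜ) τ) (hτ1 : ∀ α ∈ zspanOn S {1}ᶜ, τ α 1 = 0) :
    ∃ (ε : ℤ) (μ : (L → ℂ) → (G → ℂ)), (ε = 1 ∨ ε = -1) ∧ (∀ χ ∈ S, IsIrrCharacter G (μ χ)) ∧
      (∀ χ ∈ S, ∀ ψ ∈ S, μ χ = μ ψ → χ = ψ) ∧ ∀ χ ∈ S, ∀ ψ ∈ S, τ (χ - ψ) = ε • (μ χ - μ ψ) := by
  classical
  have hmem : ∀ χ ∈ S, ∀ ψ ∈ S, χ - ψ ∈ zspanOn S {1}ᶜ := by
    intro χ hχ ψ hψ
    rw [zo_iff]
    exact ⟨zs_diff (zs_sub hχ) (zs_sub hψ), by rw [Pi.sub_apply, hdeg χ hχ ψ hψ, sub_self]⟩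
  have h00 : τ 0 = 0 := iso_zero hτ zo_zero
  by_cases h2 : ∃ χ₁ ∈ S, ∃ χ₂ ∈ S, χ₂ ≠ χ₁
  swap
  · push_neg at h2
    refine ⟨1, fun _ _ => 1, Or.inl rfl, fun _ _ => isIrr_one, fun χ hχ ψ hψ _ => h2 ψ hψ χ hχ, fun χ hχ ψ hψ => ?_⟩
    rw [h2 ψ hψ χ hχ, sub_self, sub_self, smul_zero, h00]
  obtain ⟨χ₁, h1, χ₂, h2, h12⟩ := h2
  have hex : ∀ χ, χ ∈ S ∧ χ ≠ χ₁ → ∃ a b : G → ℂ, IsIrrCharacter G a ∧ IsIrrCharacter G b ∧ a ≠ b ∧ τ (χ₁ - χ) = a - b := by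
    rintro χ ⟨hχ, hne⟩
    apply isGen_norm_two_one (hτ.2.2.2 _ (hmem χ₁ h1 χ hχ)) _ (hτ1 _ (hmem χ₁ h1 χ hχ))
    rw [hτ.2.2.1 _ (hmem χ₁ h1 χ hχ) _ (hmem χ₁ h1 χ hχ), ci_diff (hirr χ₁ h1) (hirr _ hχ) (hirr χ₁ h1) (hirr _ hχ),
      if_pos rfl, if_neg hne.symm, if_neg hne, if_pos rfl]
    norm_num
  choose! a b ha hb hab hτab using hex
  have key : ∀ χ, χ ∈ S ∧ χ ≠ χ₁ → ∀ ψ, ψ ∈ S ∧ ψ ≠ χ₁ → χ ≠ ψ → (a χ = a ψ ∧ b χ ≠ b ψ) ∨ (a χ ≠ a ψ ∧ b χ = b ψ) := by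
    intro χ hχ ψ hψ hne
    have e := hτ.2.2.1 _ (hmem χ₁ h1 χ hχ.1) _ (hmem χ₁ h1 ψ hψ.1)
    rw [hτab χ hχ, hτab ψ hψ, ci_diff (hirr χ₁ h1) (hirr _ hχ.1) (hirr χ₁ h1) (hirr _ hψ.1),
      if_pos rfl, if_neg hψ.2.symm, if_neg hχ.2, if_neg hne, ci_diff (ha χ hχ) (hb χ hχ) (ha ψ hψ) (hb ψ hψ)] at e
    by_cases e1 : a χ = a ψ
    · refine Or.inl ⟨e1, fun e2 => ?_⟩
      rw [if_pos e1, if_pos e2, if_neg (by rw [e1]; exact hab ψ hψ), if_neg (by rw [e2]; exact (hab ψ hψ).symm)] at e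
      norm_num at e
    · refine Or.inr ⟨e1, ?_⟩
      by_contra e2
      rw [if_neg e1, if_neg e2] at e
      split_ifs at e <;> norm_num at e
  -- suffices to have the statement for pairs with χ₁
  have suff : ∀ (ε : ℤ) (μ : (L → ℂ) → (G → ℂ)), (∀ χ, χ ∈ S ∧ χ ≠ χ₁ → τ (χ₁ - χ) = ε • (μ χ₁ - μ χ)) →
      ∀ χ ∈ S, ∀ ψ ∈ S, τ (χ - ψ) = ε • (μ χ - μ ψ) := by
    intro ε μ h
    have h' : ∀ χ ∈ S, τ (χ₁ - χ) = ε • (μ χ₁ - μ χ) := by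
      intro χ hχ
      by_cases e : χ = χ₁
      · rw [e, sub_self, sub_self, smul_zero, h00]
      · exact h χ ⟨hχ, e⟩
    intro χ hχ ψ hψ
    have e : χ - ψ = (χ₁ - ψ) - (χ₁ - χ) := by abel
    rw [e, iso_diff hτ (hmem _ h1 _ hψ) (hmem _ h1 _ hχ) (zo_neg (hmem _ h1 _ hχ)), h' ψ hψ, h' χ hχ, ← smul_sub]
    congr 1; abel
  by_cases hA : ∀ χ, χ ∈ S ∧ χ ≠ χ₁ → a χ = a χ₂
  · refine ⟨1, fun χ => if χ = χ₁ then a χ₂ else b χ, Or.inl rfl, ?_, ?_, ?_⟩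
    · intro χ hχ
      show IsIrrCharacter G (if χ = χ₁ then a χ₂ else b χ)
      split_ifs with e
      · exact ha _ ⟨h2, h12⟩
      · exact hb _ ⟨hχ, e⟩
    · intro χ hχ ψ hψ e
      have e' : (if χ = χ₁ then a χ₂ else b χ) = (if ψ = χ₁ then a χ₂ else b ψ) := e
      by_cases e1 : χ = χ₁
      · by_cases e2 : ψ = χ₁
        · rw [e1, e2]
        · rw [if_pos e1, if_neg e2] at e'
          exact absurd ((hA ψ ⟨hψ, e2⟩).trans e') (hab ψ ⟨hψ, e2⟩)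
      · by_cases e2 : ψ = χ₁
        · rw [if_neg e1, if_pos e2] at e'
          exact absurd ((hA χ ⟨hχ, e1⟩).trans e'.symm) (hab χ ⟨hχ, e1⟩)
        · rw [if_neg e1, if_neg e2] at e'
          by_contra hne
          rcases key χ ⟨hχ, e1⟩ ψ ⟨hψ, e2⟩ hne with h3 | h3
          · exact h3.2 e'
          · exact h3.1 ((hA χ ⟨hχ, e1⟩).trans (hA ψ ⟨hψ, e2⟩).symm)
    · apply suff
      intro χ hχ
      show τ (χ₁ - χ) = (1 : ℤ) • ((if χ₁ = χ₁ then a χ₂ else b χ₁) - (if χ = χ₁ then a χ₂ else b χ))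
      rw [if_pos rfl, if_neg hχ.2, one_smul, hτab χ hχ, hA χ hχ]
  · push_neg at hA
    obtain ⟨χ₃, h3, h3'⟩ := hA
    have hne23 : χ₂ ≠ χ₃ := fun h => h3' (by rw [h])
    have hb23 : b χ₂ = b χ₃ := by
      rcases key χ₂ ⟨h2, h12⟩ χ₃ h3 hne23 with h | h
      · exact absurd h.1.symm h3'
      · exact h.2
    have hB : ∀ χ, χ ∈ S ∧ χ ≠ χ₁ → b χ = b χ₂ := by
      intro χ hχ
      by_cases e2 : χ = χ₂
      · rw [e2]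
      by_cases e3 : χ = χ₃
      · rw [e3, hb23]
      rcases key χ hχ χ₂ ⟨h2, h12⟩ e2 with h | h
      · rcases key χ hχ χ₃ h3 e3 with h' | h'
        · exact absurd (h'.1.symm.trans h.1) h3'
        · exact h'.2.trans hb23.symm
      · exact h.2
    refine ⟨-1, fun χ => if χ = χ₁ then b χ₂ else a χ, Or.inr rfl, ?_, ?_, ?_⟩
    · intro χ hχ
      show IsIrrCharacter G (if χ = χ₁ then b χ₂ else a χ)
      split_ifs with e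
      · exact hb _ ⟨h2, h12⟩
      · exact ha _ ⟨hχ, e⟩
    · intro χ hχ ψ hψ e
      have e' : (if χ = χ₁ then b χ₂ else a χ) = (if ψ = χ₁ then b χ₂ else a ψ) := e
      by_cases e1 : χ = χ₁
      · by_cases e2 : ψ = χ₁
        · rw [e1, e2]
        · rw [if_pos e1, if_neg e2] at e'
          exact absurd (e'.symm.trans (hB ψ ⟨hψ, e2⟩).symm) (hab ψ ⟨hψ, e2⟩)
      · by_cases e2 : ψ = χ₁
        · rw [if_neg e1, if_pos e2] at e'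
          exact absurd (e'.trans (hB χ ⟨hχ, e1⟩).symm) (hab χ ⟨hχ, e1⟩)
        · rw [if_neg e1, if_neg e2] at e'
          by_contra hne
          rcases key χ ⟨hχ, e1⟩ ψ ⟨hψ, e2⟩ hne with h4 | h4
          · exact h4.2 ((hB χ ⟨hχ, e1⟩).trans (hB ψ ⟨hψ, e2⟩).symm)
          · exact h4.1 e'
    · apply suff
      intro χ hχ
      show τ (χ₁ - χ) = (-1 : ℤ) • ((if χ₁ = χ₁ then b χ₂ else a χ₁) - (if χ = χ₁ then b χ₂ else a χ))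
      rw [if_pos rfl, if_neg hχ.2, neg_smul, one_smul, hτab χ hχ, hB χ hχ]
      abel

/-- equal degrees: coherence -/
theorem coh_equal {S : Set (L → ℂ)} (hirr : ∀ χ ∈ S, IsIrrCharacter L χ) (hdeg : ∀ χ ∈ S, ∀ ψ ∈ S, χ 1 = ψ 1)
    {τ : (L → ℂ) → (G → ℂ)} (hτ : IsLinearIsometryOn (zspanOn S {1}ᶜ) τ) (hτ1 : ∀ α ∈ zspanOn S {1}ᶜ, τ α 1 = 0) :
    ∃ τ₁ : (L → ℂ) → (G → ℂ), IsLinearIsometryOn (zspan S) τ₁ ∧ ∀ α ∈ zspanOn S {1}ᶜ, τ₁ α = τ α := by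
  classical
  by_cases hne : ∃ χ₁, χ₁ ∈ S
  swap
  · have hS : S = ∅ := Set.eq_empty_iff_forall_notMem.2 fun x hx => hne ⟨x, hx⟩
    have hz : ∀ α ∈ zspan S, α = 0 := by
      intro α hα
      rw [hS] at hα
      have : α ∈ (Submodule.span ℤ (∅ : Set (L → ℂ))) := hα
      rw [Submodule.span_empty] at this
      exact this
    refine ⟨τ, ?_, fun α _ => rfl⟩
    have : zspan S ⊆ zspanOn S {1}ᶜ := by
      intro α hα
      rw [hz α hα]; exact zo_zero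
    exact iso_mono hτ this
  obtain ⟨χ₁, h1⟩ := hne
  obtain ⟨ε, μ, hε, hμ, hinj, hτμ⟩ := equal_irr hirr hdeg hτ hτ1
  obtain ⟨m, hm, em⟩ := IsIrr.one_eq_nat (hirr χ₁ h1)
  have h10 : χ₁ 1 ≠ 0 := by rw [em]; exact_mod_cast hm.ne'
  have hmem : ∀ χ ∈ S, ∀ ψ ∈ S, χ - ψ ∈ zspanOn S {1}ᶜ := by
    intro χ hχ ψ hψ
    rw [zo_iff]
    exact ⟨zs_diff (zs_sub hχ) (zs_sub hψ), by rw [Pi.sub_apply, hdeg χ hχ ψ hψ, sub_self]⟩
  have hε2 : (ε : ℂ) * ε = 1 := by rcases hε with rfl | rfl <;> norm_num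
  have hεc : (starRingEnd ℂ) (ε : ℂ) = ε := by rcases hε with rfl | rfl <;> simp
  obtain ⟨c1, c2⟩ := base_cond (T := S) hτ (zs_sub h1) h10 (X := ε • μ χ₁) (by
    intro φ hφ
    refine ⟨1, by rw [hdeg φ hφ χ₁ h1]; simp, ?_⟩
    rw [one_smul, hτμ φ hφ χ₁ h1, zc, zc, ci_smul_left, ci_smul_right, ci_sub_right, ci_sub_right, hεc, ← mul_assoc, hε2, one_mul,
      ci_irr_self (hμ χ₁ h1), ci_irr_self (hirr χ₁ h1)]
    by_cases e : χ₁ = φ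
    · rw [← e, ci_irr_self (hμ χ₁ h1), ci_irr_self (hirr χ₁ h1)]
    · rw [ci_irr_ne (hμ χ₁ h1) (hμ φ hφ) (fun h => e (hinj _ h1 _ hφ h)), ci_irr_ne (hirr χ₁ h1) (hirr φ hφ) e])
  obtain ⟨τ₁, t1, t2, -⟩ := extend_base hτ (zs_sub h1) h10 c1 (X := ε • μ χ₁) (by
      rw [zc]
      rcases hε with rfl | rfl
      · simpa using IsGen.of_irr (hμ χ₁ h1)
      · simpa using IsGen.neg (IsGen.of_irr (hμ χ₁ h1)))
    (by rw [zc, ci_smul_left, ci_smul_right, hεc, ← mul_assoc, hε2, one_mul, ci_irr_self (hμ χ₁ h1), ci_irr_self (hirr χ₁ h1)])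
    (IsGen.of_irr (hirr χ₁ h1)) (fun χ hχ => IsGen.of_irr (hirr χ hχ)) c2
  exact ⟨τ₁, t1, t2⟩

end Cfsg.Agent.H10.CohI
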