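import Mathlib
import Cfsg.Prelude.Def_OddOrderChar
import Cfsg.Prelude.Def_OddOrderLocal
import Cfsg.Agent.H3_CharInd

/-!
H10_Dade: the Dade isometry.
-/

set_option autoImplicit false
set_option linter.unusedSectionVars false

namespace Cfsg.Agent.H10.Dade

open Cfsg Cfsg.Agent.H3.CharIrr Cfsg.Agent.H3.CharComplete Cfsg.Agent.H3.CharInd
open scoped ComplexConjugate

theorem mem_sup_of_norm {G : Type*} [Group G] {H K : Subgroup G} (hn : ∀ k ∈ K, ∀ h ∈ H, k * h * k⁻¹ ∈ H) {x : G}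
    (hx : x ∈ H ⊔ K) : ∃ h ∈ H, ∃ k ∈ K, h * k = x := by
  let S : Subgroup G :=
    { carrier := {x | ∃ h ∈ H, ∃ k ∈ K, h * k = x}
      one_mem' := ⟨1, H.one_mem, 1, K.one_mem, one_mul 1⟩
      mul_mem' := by
        rintro _ _ ⟨h, hh, k, hk, rfl⟩ ⟨h', hh', k', hk', rfl⟩
        exact ⟨h * (k * h' * k⁻¹), H.mul_mem hh (hn k hk h' hh'), k * k', K.mul_mem hk hk', by group⟩
      inv_mem' := by
        rintro _ ⟨h, hh, k, hk, rfl⟩
        exact ⟨k⁻¹ * h⁻¹ * k⁻¹⁻¹, hn k⁻¹ (K.inv_mem hk) h⁻¹ (H.inv_mem hh), k⁻¹, K.inv_mem hk, by group⟩ }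
  have hS : H ⊔ K ≤ S := sup_le (fun h hh => ⟨h, hh, 1, K.one_mem, mul_one h⟩)
    (fun k hk => ⟨1, H.one_mem, k, hk, one_mul k⟩)
  exact hS hx

variable {G : Type*} [Group G] [Finite G] {A : Set G} {L : Subgroup G} {H : G → Subgroup G}

section basic

variable (hD : DadeHypothesis A L H)
include hD

/-- the centralizer of `a` in `L` -/
theorem decomp {a : G} (ha : a ∈ A) {c : G} (hc : c * a = a * c) :
    ∃ u ∈ H a, ∃ l ∈ L ⊓ Subgroup.centralizer ({a} : Set G), u * l = c := by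
  have hcC : c ∈ Subgroup.centralizer ({a} : Set G) := Subgroup.mem_centralizer_singleton_iff.2 hc
  rw [← hD.sup_eq a ha] at hcC
  exact mem_sup_of_norm (fun l hl u hu => hD.conj_mem_H a ha l (Subgroup.mem_inf.1 hl).2 u hu) hcC

theorem commute {a : G} (ha : a ∈ A) {u : G} (hu : u ∈ H a) : u * a = a * u :=
  Subgroup.mem_centralizer_singleton_iff.1 (hD.le_centralizer a ha hu)

omit hD in
theorem pow_card_mem {K : Subgroup G} {c : G} (hc : c ∈ K) : c ^ (Nat.card K) = 1 := by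
  have := pow_card_eq_one' (x := (⟨c, hc⟩ : K))
  exact congrArg Subtype.val this

theorem mem_iff {a : G} (ha : a ∈ A) {c : G} (hc : c * a = a * c) :
    c ∈ H a ↔ c ^ (Nat.card (H a)) = 1 := by
  constructor
  · exact pow_card_mem
  · intro h
    obtain ⟨u, hu, l, hl, rfl⟩ := decomp hD ha hc
    -- (u l)^n = u' l^n
    have key : ∀ n : ℕ, ∃ u' ∈ H a, (u * l) ^ n = u' * l ^ n := by
      intro n
      induction n with
      | zero => exact ⟨1, (H a).one_mem, by simp⟩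
      | succ n ih =>
        obtain ⟨u', hu', e⟩ := ih
        refine ⟨u' * (l ^ n * u * (l ^ n)⁻¹), (H a).mul_mem hu'
          (hD.conj_mem_H a ha _ (Subgroup.pow_mem _ hl.2 n) u hu), ?_⟩
        rw [pow_succ, e, pow_succ]; group
    obtain ⟨u', hu', e⟩ := key (Nat.card (H a))
    rw [h] at e
    have h1 : l ^ (Nat.card (H a)) ∈ H a := by
      have : l ^ (Nat.card (H a)) = u'⁻¹ := (inv_eq_of_mul_eq_one_right e.symm).symm
      rw [this]; exact (H a).inv_mem hu'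
    have h2 : l ^ (Nat.card (H a)) = 1 := by
      have : l ^ (Nat.card (H a)) ∈ H a ⊓ (L ⊓ Subgroup.centralizer ({a} : Set G)) := ⟨h1, Subgroup.pow_mem _ hl _⟩
      rw [hD.inf_eq_bot a ha] at this
      exact this
    have h3 : l ^ (Nat.card ↥(L ⊓ Subgroup.centralizer ({a} : Set G))) = 1 := pow_card_mem hl
    have h4 : l = 1 := by
      have h5 := pow_gcd_eq_one.2 ⟨h2, h3⟩
      rwa [(hD.coprime a ha a ha : Nat.gcd _ _ = 1), pow_one] at h5
    rw [h4, mul_one]; exact hu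

/-- the exponent extracting the `A`-part -/
theorem exists_exp {a b : G} (ha : a ∈ A) (hb : b ∈ A) : ∃ m : ℕ, (∀ u ∈ H a, (a * u) ^ m = a) ∧
    (∀ v ∈ H b, (b * v) ^ m = b) := by
  have hcop : Nat.Coprime (Nat.card (H a) * Nat.card (H b))
    (Nat.card ↥(L ⊓ Subgroup.centralizer ({a} : Set G)) * Nat.card ↥(L ⊓ Subgroup.centralizer ({b} : Set G))) :=
    Nat.Coprime.mul_left (Nat.Coprime.mul_right (hD.coprime a ha a ha) (hD.coprime a ha b hb))
      (Nat.Coprime.mul_right (hD.coprime b hb a ha) (hD.coprime b hb b hb))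
  obtain ⟨m, hm0, hm1⟩ := Nat.chineseRemainder hcop 0 1
  have hm0' := (Nat.modEq_zero_iff_dvd).1 hm0
  have key : ∀ c ∈ A, (Nat.card (H c)) ∣ (Nat.card (H a) * Nat.card (H b)) →
      Nat.card ↥(L ⊓ Subgroup.centralizer ({c} : Set G)) ∣ (Nat.card ↥(L ⊓ Subgroup.centralizer ({a} : Set G)) *
        Nat.card ↥(L ⊓ Subgroup.centralizer ({b} : Set G))) → ∀ u ∈ H c, (c * u) ^ m = c := by
    intro c hc h1 h2 u hu
    have hcomm : Commute c u := (commute hD hc hu).symm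
    rw [hcomm.mul_pow]
    have h3 : u ^ m = 1 := by
      obtain ⟨k, hk⟩ := h1.trans hm0'
      rw [hk, pow_mul, pow_card_mem hu, one_pow]
    have h4 : c ^ m = c := by
      conv_rhs => rw [← pow_one c]
      apply pow_eq_pow_iff_modEq.2
      refine Nat.ModEq.of_dvd ?_ hm1
      refine Dvd.dvd.trans ?_ h2
      have : c ∈ L ⊓ Subgroup.centralizer ({c} : Set G) :=
        ⟨hD.subset hc, Subgroup.mem_centralizer_singleton_iff.2 rfl⟩
      have h5 := orderOf_dvd_natCard (⟨c, this⟩ : ↥(L ⊓ Subgroup.centralizer ({c} : Set G)))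
      rwa [Subgroup.orderOf_mk] at h5
    rw [h3, h4, mul_one]
  exact ⟨m, key a ha (dvd_mul_right _ _) (dvd_mul_right _ _), key b hb (dvd_mul_left _ _) (dvd_mul_left _ _)⟩

/-- conjugate elements of the cosets have conjugate `A`-parts -/
theorem part_conj {a b : G} (ha : a ∈ A) (hb : b ∈ A) {u v g : G} (hu : u ∈ H a) (hv : v ∈ H b)
    (h : g * (a * u) * g⁻¹ = b * v) : g * a * g⁻¹ = b := by
  obtain ⟨m, h1, h2⟩ := exists_exp hD ha hb
  have h3 := congrArg (fun z => z ^ m) h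
  simp only [conj_pow] at h3
  rw [h1 u hu, h2 v hv] at h3
  exact h3

theorem conj_L {a b : G} (ha : a ∈ A) (hb : b ∈ A) {g : G} (h : g * a * g⁻¹ = b) : ∃ x ∈ L, x * a * x⁻¹ = b := by
  obtain ⟨x, hx, e⟩ := hD.fusion a ha g (by rw [h]; exact hb)
  exact ⟨x, hx, by rw [e, h]⟩

omit hD in
theorem conj_centralizer {a b g : G} (h : g * a * g⁻¹ = b) (c : G) : (c * a = a * c) ↔ ((g * c * g⁻¹) * b = b * (g * c * g⁻¹)) := by
  subst h
  constructor
  · intro h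
    have e1 : g * c * g⁻¹ * (g * a * g⁻¹) = g * (c * a) * g⁻¹ := by group
    have e2 : g * a * g⁻¹ * (g * c * g⁻¹) = g * (a * c) * g⁻¹ := by group
    rw [e1, e2, h]
  · intro h
    have e1 : g * c * g⁻¹ * (g * a * g⁻¹) = g * (c * a) * g⁻¹ := by group
    have e2 : g * a * g⁻¹ * (g * c * g⁻¹) = g * (a * c) * g⁻¹ := by group
    rw [e1, e2] at h
    exact mul_left_cancel (mul_right_cancel h)

/-- order of the centralizer -/
theorem card_centralizer {a : G} (ha : a ∈ A) :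
    Nat.card (Subgroup.centralizer ({a} : Set G)) =
      Nat.card (H a) * Nat.card ↥(L ⊓ Subgroup.centralizer ({a} : Set G)) := by
  rw [← Nat.card_prod]
  symm
  apply Nat.card_congr
  refine Equiv.ofBijective (fun q : H a × ↥(L ⊓ Subgroup.centralizer ({a} : Set G)) =>
    (⟨(q.1 : G) * (q.2 : G), Subgroup.mul_mem _ (hD.le_centralizer a ha q.1.2) q.2.2.2⟩ :
      Subgroup.centralizer ({a} : Set G))) ⟨?_, ?_⟩
  · intro q q' h
    have h1 : (q.1 : G) * (q.2 : G) = q'.1 * q'.2 := congrArg Subtype.val h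
    have h2 : (q'.1 : G)⁻¹ * q.1 = q'.2 * (q.2 : G)⁻¹ := by
      rw [inv_mul_eq_iff_eq_mul, ← mul_assoc, ← h1]; group
    have h3 : (q'.1 : G)⁻¹ * q.1 ∈ H a ⊓ (L ⊓ Subgroup.centralizer ({a} : Set G)) :=
      ⟨Subgroup.mul_mem _ (Subgroup.inv_mem _ q'.1.2) q.1.2, by
        rw [h2]; exact Subgroup.mul_mem _ q'.2.2 (Subgroup.inv_mem _ q.2.2)⟩
    rw [hD.inf_eq_bot a ha, Subgroup.mem_bot] at h3
    have h4 : (q.1 : G) = q'.1 := (inv_mul_eq_one.1 h3).symm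
    rw [h3] at h2
    have h5 : (q.2 : G) = q'.2 := (mul_inv_eq_one.1 h2.symm).symm
    exact Prod.ext (Subtype.ext h4) (Subtype.ext h5)
  · intro c
    obtain ⟨u, hu, l, hl, e⟩ := decomp hD ha (Subgroup.mem_centralizer_singleton_iff.1 c.2)
    exact ⟨(⟨u, hu⟩, ⟨l, hl⟩), Subtype.ext e⟩

theorem card_CL_conj {a b x : G} (hx : x ∈ L) (h : x * a * x⁻¹ = b) :
    Nat.card ↥(L ⊓ Subgroup.centralizer ({a} : Set G)) = Nat.card ↥(L ⊓ Subgroup.centralizer ({b} : Set G)) := by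
  apply Nat.card_congr
  refine (MulAut.conj x).toEquiv.subtypeEquiv fun c => ?_
  rw [Subgroup.mem_inf, Subgroup.mem_inf, Subgroup.mem_centralizer_singleton_iff,
    Subgroup.mem_centralizer_singleton_iff]
  show (c ∈ L ∧ c * a = a * c) ↔ (x * c * x⁻¹ ∈ L ∧ (x * c * x⁻¹) * b = b * (x * c * x⁻¹))
  rw [← conj_centralizer h c]
  refine and_congr_left fun _ => ?_
  constructor
  · intro hc; exact L.mul_mem (L.mul_mem hx hc) (L.inv_mem hx)
  · intro hc
    have := L.mul_mem (L.mul_mem (L.inv_mem hx) hc) hx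
    have e : x⁻¹ * (x * c * x⁻¹) * x = c := by group
    rwa [e] at this

theorem card_H_conj {a b g : G} (ha : a ∈ A) (hb : b ∈ A) (h : g * a * g⁻¹ = b) :
    Nat.card (H a) = Nat.card (H b) := by
  obtain ⟨x, hx, e⟩ := conj_L hD ha hb h
  have h1 := card_centralizer hD ha
  have h2 := card_centralizer hD hb
  have h3 := card_CL_conj hD hx e
  have h4 : Nat.card (Subgroup.centralizer ({a} : Set G)) = Nat.card (Subgroup.centralizer ({b} : Set G)) := by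
    apply Nat.card_congr
    refine (MulAut.conj g).toEquiv.subtypeEquiv fun c => ?_
    rw [Subgroup.mem_centralizer_singleton_iff, Subgroup.mem_centralizer_singleton_iff]
    exact conj_centralizer h c
  rw [h4, h2, h3] at h1
  exact (Nat.eq_of_mul_eq_mul_right Nat.card_pos h1).symm

theorem mem_H_conj {a b g : G} (ha : a ∈ A) (hb : b ∈ A) (h : g * a * g⁻¹ = b) {u : G} (hu : u ∈ H a) :
    g * u * g⁻¹ ∈ H b := by
  have h1 := (conj_centralizer h u).1 (commute hD ha hu)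
  rw [mem_iff hD hb h1, conj_pow, ← card_H_conj hD ha hb h, pow_card_mem hu]
  group

theorem H_conj {a x : G} (ha : a ∈ A) (hx : x ∈ L) : H (x * a * x⁻¹) = (H a).map (MulAut.conj x).toMonoidHom := by
  have hb := hD.conj_mem x hx a ha
  ext u
  rw [Subgroup.mem_map]
  constructor
  · intro hu
    refine ⟨x⁻¹ * u * x, ?_, ?_⟩
    · have h1 := mem_H_conj hD hb ha (g := x⁻¹) (by group) hu
      rwa [inv_inv] at h1
    · show x * (x⁻¹ * u * x) * x⁻¹ = u
      group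
  · rintro ⟨v, hv, rfl⟩
    exact mem_H_conj hD ha hb rfl hv

theorem normalizer_coset {a : G} (ha : a ∈ A) :
    Subgroup.normalizer ((fun u : G => a * u) '' (H a : Set G)) = Subgroup.centralizer ({a} : Set G) := by
  ext g
  rw [Subgroup.mem_centralizer_singleton_iff]
  constructor
  · intro h
    have h1 := (Subgroup.mem_set_normalizer_iff.1 h (a * 1)).1 ⟨1, (H a).one_mem, rfl⟩
    obtain ⟨v, hv, e⟩ := h1
    have h2 := part_conj hD ha ha (H a).one_mem hv e.symm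
    exact mul_inv_eq_iff_eq_mul.1 h2
  · intro h
    have key : ∀ c : G, c * a = a * c → ∀ n ∈ ((fun u : G => a * u) '' (H a : Set G)), c * n * c⁻¹ ∈ ((fun u : G => a * u) '' (H a : Set G)) := by
      rintro c hc _ ⟨u, hu, rfl⟩
      refine ⟨c * u * c⁻¹, hD.conj_mem_H a ha c (Subgroup.mem_centralizer_singleton_iff.2 hc) u hu, ?_⟩
      show a * (c * u * c⁻¹) = c * (a * u) * c⁻¹
      have : a * (c * u * c⁻¹) = (a * c) * u * c⁻¹ := by group
      rw [this, ← hc]; group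
    rw [Subgroup.mem_set_normalizer_iff]
    intro n
    refine ⟨key g h n, fun hn => ?_⟩
    have h1 : g⁻¹ * a = a * g⁻¹ := by
      have := (Commute.inv_left (show Commute g a from h)).eq
      exact this
    have h2 := key g⁻¹ h1 _ hn
    have e : g⁻¹ * (g * n * g⁻¹) * g⁻¹⁻¹ = n := by group
    rwa [e] at h2

end basic

section map

variable (hD : DadeHypothesis A L H)
include hD

theorem dade_apply {α : L → ℂ} (hα : IsClassFunction L α) {a : L} (ha : (a : G) ∈ A) {x u g : G}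
    (hu : u ∈ H (a : G)) (h : x * g * x⁻¹ = a * u) : dadeIsometry A L H α g = α a := by
  have hex : ∃ a : ↥L, (a : G) ∈ A ∧ ∃ x : G, ∃ u ∈ H (a : G), x * g * x⁻¹ = (a : G) * u := ⟨a, ha, x, u, hu, h⟩
  rw [dadeIsometry, dif_pos hex]
  obtain ⟨hb, y, v, hv, e⟩ := Classical.choose_spec hex
  set b := Classical.choose hex
  have h1 : (y * x⁻¹) * (a * u) * (y * x⁻¹)⁻¹ = b * v := by rw [← h, ← e]; group
  have h2 := part_conj hD ha hb hu hv h1
  obtain ⟨l, hl, h3⟩ := conj_L hD ha hb h2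
  have h4 : b = ⟨l, hl⟩ * a * (⟨l, hl⟩ : L)⁻¹ := Subtype.ext h3.symm
  rw [h4]
  exact hα a ⟨l, hl⟩

omit hD [Finite G] in
theorem dade_zero {α : L → ℂ} {g : G}
    (h : ¬ ∃ a : ↥L, (a : G) ∈ A ∧ ∃ x : G, ∃ u ∈ H (a : G), x * g * x⁻¹ = (a : G) * u) :
    dadeIsometry A L H α g = 0 := by
  rw [dadeIsometry, dif_neg h]

theorem dade_class {α : L → ℂ} (hα : IsClassFunction L α) : IsClassFunction G (dadeIsometry A L H α) := by
  intro g y
  by_cases h : ∃ a : ↥L, (a : G) ∈ A ∧ ∃ x : G, ∃ u ∈ H (a : G), x * g * x⁻¹ = (a : G) * u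
  · obtain ⟨a, ha, x, u, hu, e⟩ := h
    rw [dade_apply hD hα ha hu e]
    exact dade_apply hD hα ha (x := x * y⁻¹) hu (by rw [← e]; group)
  · rw [dade_zero h, dade_zero]
    rintro ⟨a, ha, x, u, hu, e⟩
    exact h ⟨a, ha, x * y, u, hu, by rw [← e]; group⟩

open Classical in
/-- explicit formula for the Dade map -/
theorem formula [Fintype G] [Fintype L] {α : L → ℂ} (hα : IsClassFunction L α) (g : G) :
    ∑ x : G, ∑ a : L, (if (a : G) ∈ A ∧ (a : G)⁻¹ * (x * g * x⁻¹) ∈ H a then α a * (Nat.card (H a) : ℂ)⁻¹ else 0) =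
      Nat.card L * dadeIsometry A L H α g := by
  by_cases h : ∃ a : ↥L, (a : G) ∈ A ∧ ∃ x : G, ∃ u ∈ H (a : G), x * g * x⁻¹ = (a : G) * u
  · obtain ⟨a₀, ha₀, x₀, u₀, hu₀, e₀⟩ := h
    rw [dade_apply hD hα ha₀ hu₀ e₀]
    haveI : Fintype (H (a₀ : G)) := Fintype.ofFinite _
    rw [← Finset.sum_product', ← Finset.sum_filter]
    have h1 : ∑ q : L × H (a₀ : G), α a₀ * (Nat.card (H (a₀ : G)) : ℂ)⁻¹ = Nat.card L * α a₀ := by
      rw [Finset.sum_const, Finset.card_univ, Fintype.card_prod, nsmul_eq_mul, ← Nat.card_eq_fintype_card,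
        ← Nat.card_eq_fintype_card, Nat.cast_mul]
      have : (Nat.card (H (a₀ : G)) : ℂ) ≠ 0 := Nat.cast_ne_zero.2 Nat.card_pos.ne'
      field_simp
    rw [← h1]
    symm
    -- facts
    have hLH : ∀ w ∈ L, w ∈ H (a₀ : G) → w = 1 := by
      intro w hw hw'
      have : w ∈ H (a₀ : G) ⊓ (L ⊓ Subgroup.centralizer ({(a₀ : G)} : Set G)) :=
        ⟨hw', hw, hD.le_centralizer _ ha₀ hw'⟩
      rw [hD.inf_eq_bot _ ha₀] at this
      exact this
    refine Finset.sum_bij (fun (q : L × H (a₀ : G)) _ => ((q.1 : G) * (q.2 : G) * x₀, q.1 * a₀ * q.1⁻¹)) ?_ ?_ ?_ ?_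
    · intro q _
      rw [Finset.mem_filter]
      refine ⟨Finset.mem_product.2 ⟨Finset.mem_univ _, Finset.mem_univ _⟩, ?_, ?_⟩
      · exact hD.conj_mem q.1 q.1.2 a₀ ha₀
      · show ((q.1 * a₀ * q.1⁻¹ : L) : G)⁻¹ * ((q.1 : G) * (q.2 : G) * x₀ * g * ((q.1 : G) * (q.2 : G) * x₀)⁻¹) ∈
          H ((q.1 * a₀ * q.1⁻¹ : L) : G)
        have e1 : (q.1 : G) * (q.2 : G) * x₀ * g * ((q.1 : G) * (q.2 : G) * x₀)⁻¹ =
          (q.1 : G) * ((q.2 : G) * (x₀ * g * x₀⁻¹) * (q.2 : G)⁻¹) * (q.1 : G)⁻¹ := by group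
        have e2 : (q.2 : G) * (x₀ * g * x₀⁻¹) * (q.2 : G)⁻¹ = a₀ * ((q.2 : G) * u₀ * (q.2 : G)⁻¹) := by
          rw [e₀]
          have := commute hD ha₀ q.2.2
          calc (q.2 : G) * (a₀ * u₀) * (q.2 : G)⁻¹ = ((q.2 : G) * a₀) * u₀ * (q.2 : G)⁻¹ := by group
            _ = _ := by rw [this]; group
        have e3 : ((q.1 * a₀ * q.1⁻¹ : L) : G)⁻¹ * ((q.1 : G) * (q.2 : G) * x₀ * g * ((q.1 : G) * (q.2 : G) * x₀)⁻¹) =
          (q.1 : G) * ((q.2 : G) * u₀ * (q.2 : G)⁻¹) * (q.1 : G)⁻¹ := by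
          rw [e1, e2]; push_cast; group
        rw [e3]
        exact mem_H_conj hD ha₀ (hD.conj_mem q.1 q.1.2 a₀ ha₀) rfl
          ((H (a₀ : G)).mul_mem ((H (a₀ : G)).mul_mem q.2.2 hu₀) ((H (a₀ : G)).inv_mem q.2.2))
    · intro q _ q' _ h
      have h2 : (q.1 : G) * q.2 * x₀ = q'.1 * q'.2 * x₀ := congrArg Prod.fst h
      have h3 : (q.1 : G) * q.2 = q'.1 * q'.2 := mul_right_cancel h2
      have h4 : (q'.1 : G)⁻¹ * q.1 = (q'.2 : G) * (q.2 : G)⁻¹ := by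
        rw [inv_mul_eq_iff_eq_mul, ← mul_assoc, ← h3]; group
      have h5 : (q'.1 : G)⁻¹ * q.1 = 1 := hLH _ (L.mul_mem (L.inv_mem q'.1.2) q.1.2) (by
        rw [h4]; exact (H (a₀ : G)).mul_mem q'.2.2 ((H (a₀ : G)).inv_mem q.2.2))
      have h6 : (q.1 : G) = q'.1 := (inv_mul_eq_one.1 h5).symm
      rw [h5] at h4
      have h7 : (q.2 : G) = q'.2 := (mul_inv_eq_one.1 h4.symm).symm
      exact Prod.ext (Subtype.ext h6) (Subtype.ext h7)
    · rintro ⟨x, a⟩ hxa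
      rw [Finset.mem_filter] at hxa
      obtain ⟨-, ha, hmem⟩ := hxa
      simp only at ha hmem
      set y := x * x₀⁻¹ with hy
      have h2 : y * (a₀ * u₀) * y⁻¹ = a * ((a : G)⁻¹ * (x * g * x⁻¹)) := by
        rw [← e₀, hy]; group
      have h3 := part_conj hD ha₀ ha hu₀ hmem h2
      obtain ⟨l₀, hl₀, h4⟩ := conj_L hD ha₀ ha h3
      have h5 : (l₀⁻¹ * y)⁻¹ * a₀ = a₀ * (l₀⁻¹ * y)⁻¹ := by
        have h6 : (l₀⁻¹ * y) * a₀ * (l₀⁻¹ * y)⁻¹ = a₀ := by
          have : (l₀⁻¹ * y) * a₀ * (l₀⁻¹ * y)⁻¹ = l₀⁻¹ * (y * a₀ * y⁻¹) * l₀ := by group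
          rw [this, h3, ← h4]; group
        have h7 : Commute (l₀⁻¹ * y) (a₀ : G) := mul_inv_eq_iff_eq_mul.1 h6
        exact h7.inv_left.eq
      obtain ⟨v, hv, k, hk, h6⟩ := decomp hD ha₀ h5
      have h7 : y = (l₀ * k⁻¹) * v⁻¹ := by
        have : (l₀⁻¹ * y) = k⁻¹ * v⁻¹ := by rw [← inv_inj, ← h6]; group
        rw [inv_mul_eq_iff_eq_mul] at this
        rw [this]; group
      have hkL : k ∈ L := (Subgroup.mem_inf.1 hk).1
      refine ⟨(⟨l₀ * k⁻¹, L.mul_mem hl₀ (L.inv_mem hkL)⟩, ⟨v⁻¹, (H (a₀ : G)).inv_mem hv⟩), Finset.mem_univ _, ?_⟩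
      apply Prod.ext
      · show (l₀ * k⁻¹) * v⁻¹ * x₀ = x
        rw [← h7, hy]; group
      · apply Subtype.ext
        show (l₀ * k⁻¹) * a₀ * (l₀ * k⁻¹)⁻¹ = a
        have h8 : k * a₀ = a₀ * k := Subgroup.mem_centralizer_singleton_iff.1 (Subgroup.mem_inf.1 hk).2
        have h9 : (l₀ * k⁻¹) * a₀ * (l₀ * k⁻¹)⁻¹ = l₀ * (k⁻¹ * (a₀ * k)) * l₀⁻¹ := by group
        rw [h9, ← h8, inv_mul_cancel_left, h4]
    · intro q _
      show α a₀ * (Nat.card (H (a₀ : G)) : ℂ)⁻¹ = α (q.1 * a₀ * q.1⁻¹) * (Nat.card (H ((q.1 * a₀ * q.1⁻¹ : L) : G)) : ℂ)⁻¹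
      rw [hα a₀ q.1, card_H_conj hD ha₀ (hD.conj_mem q.1 q.1.2 a₀ ha₀) rfl]
      rfl
  · rw [dade_zero h, mul_zero]
    refine Finset.sum_eq_zero fun x _ => Finset.sum_eq_zero fun a _ => ?_
    rw [if_neg]
    rintro ⟨ha, hmem⟩
    exact h ⟨a, ha, x, _, hmem, by group⟩

open Classical in
/-- summation formula -/
theorem sum_formula [Fintype G] [Fintype L] {α : L → ℂ} (hα : IsClassFunction L α) {F : G → ℂ}
    (hF : IsClassFunction G F) :
    (Nat.card L : ℂ) * ∑ g : G, dadeIsometry A L H α g * F g =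
      Nat.card G * ∑ a : L, (if (a : G) ∈ A then α a * ((Nat.card (H a) : ℂ)⁻¹ *
        ∑ u : G, if u ∈ H (a : G) then F (a * u) else 0) else 0) := by
  have h1 : ∀ g : G, (Nat.card L : ℂ) * (dadeIsometry A L H α g * F g) =
      ∑ x : G, ∑ a : L, (if (a : G) ∈ A ∧ (a : G)⁻¹ * (x * g * x⁻¹) ∈ H a then
        α a * (Nat.card (H a) : ℂ)⁻¹ * F (x * g * x⁻¹) else 0) := by
    intro g
    rw [← mul_assoc, ← formula hD hα g, Finset.sum_mul]
    refine Finset.sum_congr rfl fun x _ => ?_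
    rw [Finset.sum_mul]
    refine Finset.sum_congr rfl fun a _ => ?_
    rw [hF g x]
    split_ifs <;> ring
  rw [Finset.mul_sum, Finset.sum_congr rfl fun g _ => h1 g, Finset.sum_comm]
  have h2 : ∀ x : G, ∑ g : G, ∑ a : L, (if (a : G) ∈ A ∧ (a : G)⁻¹ * (x * g * x⁻¹) ∈ H a then
        α a * (Nat.card (H a) : ℂ)⁻¹ * F (x * g * x⁻¹) else 0) =
      ∑ a : L, (if (a : G) ∈ A then α a * ((Nat.card (H a) : ℂ)⁻¹ *
        ∑ u : G, if u ∈ H (a : G) then F (a * u) else 0) else 0) := by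
    intro x
    have h3 := Equiv.sum_comp (MulAut.conj x).toEquiv (fun g => ∑ a : L, (if (a : G) ∈ A ∧ (a : G)⁻¹ * g ∈ H a then
        α a * (Nat.card (H a) : ℂ)⁻¹ * F g else 0))
    refine Eq.trans h3 ?_
    rw [Finset.sum_comm]
    refine Finset.sum_congr rfl fun a _ => ?_
    by_cases ha : (a : G) ∈ A
    · rw [if_pos ha, ← Equiv.sum_comp (Equiv.mulLeft (a : G)), Finset.mul_sum, Finset.mul_sum]
      refine Finset.sum_congr rfl fun u _ => ?_
      simp only [Equiv.coe_mulLeft, ha, true_and, inv_mul_cancel_left]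
      split_ifs <;> ring
    · rw [if_neg ha]
      refine Finset.sum_eq_zero fun g _ => ?_
      rw [if_neg (fun h => ha h.1)]
  rw [Finset.sum_congr rfl fun x _ => h2 x, Finset.sum_const, Finset.card_univ, nsmul_eq_mul,
    Nat.card_eq_fintype_card]

open Classical in
omit hD [Finite G] in
theorem finsum_subgroup [Fintype G] {E : Type*} [AddCommMonoid E] (K : Subgroup G) (f : G → E) :
    ∑ᶠ u ∈ (K : Set G), f u = ∑ u : G, if u ∈ K then f u else 0 := by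
  rw [finsum_mem_eq_finite_toFinset_sum _ (Set.toFinite _), ← Finset.sum_filter]
  refine Finset.sum_congr ?_ fun _ _ => rfl
  ext u; simp

/-- the reciprocity formula -/
theorem recip [Fintype G] [Fintype L] {α : L → ℂ} (hα : IsClassFunction L α) (hαA : ∀ x : L, (x : G) ∉ A → α x = 0)
    {χ : G → ℂ} {ψ : L → ℂ} (hχ : IsClassFunction G χ)
    (hψ : ∀ a : L, (a : G) ∈ A → ψ a = (Nat.card (H a) : ℂ)⁻¹ * ∑ᶠ u ∈ (H a : Set G), χ (a * u)) :
    classInner (dadeIsometry A L H α) χ = classInner α ψ := by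
  classical
  have h1 := sum_formula hD hα (F := fun g => conj (χ g)) (fun a b => by
    show conj (χ (b * a * b⁻¹)) = conj (χ a)
    rw [hχ])
  have hG0 : (Nat.card G : ℂ) ≠ 0 := Nat.cast_ne_zero.2 Nat.card_pos.ne'
  have hL0 : (Nat.card L : ℂ) ≠ 0 := Nat.cast_ne_zero.2 Nat.card_pos.ne'
  have h2 : ∑ a : L, (if (a : G) ∈ A then α a * ((Nat.card (H a) : ℂ)⁻¹ *
        ∑ u : G, if u ∈ H (a : G) then conj (χ (a * u)) else 0) else 0) = ∑ a : L, α a * conj (ψ a) := by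
    refine Finset.sum_congr rfl fun a _ => ?_
    by_cases ha : (a : G) ∈ A
    · rw [if_pos ha, hψ a ha, finsum_subgroup, map_mul, map_inv₀, map_natCast, map_sum]
      congr 2
      refine Finset.sum_congr rfl fun u _ => ?_
      split_ifs
      · rfl
      · rw [map_zero]
    · rw [if_neg ha, hαA a ha, zero_mul]
  rw [h2] at h1
  rw [classInner, classInner, inv_mul_eq_iff_eq_mul₀ hG0, ← mul_assoc, mul_comm (Nat.card G : ℂ), mul_assoc,
    eq_inv_mul_iff_mul_eq₀ hL0]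
  exact h1

theorem isometry [Fintype G] [Fintype L] {α β : L → ℂ} (hα : IsClassFunction L α) (hαA : ∀ x : L, (x : G) ∉ A → α x = 0)
    (hβ : IsClassFunction L β) :
    classInner (dadeIsometry A L H α) (dadeIsometry A L H β) = classInner α β := by
  classical
  apply recip hD hα hαA (dade_class hD hβ)
  intro a ha
  rw [finsum_subgroup]
  have h1 : ∀ u : G, (if u ∈ H (a : G) then dadeIsometry A L H β (a * u) else 0) = if u ∈ H (a : G) then β a else 0 := by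
    intro u
    split_ifs with hu
    · exact dade_apply hD hβ ha (x := 1) hu (by group)
    · rfl
  rw [Finset.sum_congr rfl fun u _ => h1 u, ← Finset.sum_filter, Finset.sum_const, nsmul_eq_mul,
    ← Fintype.card_subtype, ← Nat.card_eq_fintype_card]
  have h2 : (Nat.card {x // x ∈ H (a : G)} : ℂ) ≠ 0 := Nat.cast_ne_zero.2 Nat.card_pos.ne'
  rw [inv_mul_cancel_left₀ h2]

/-- the norm inequality -/
theorem norm_ineq [Fintype G] [Fintype L] {χ : G → ℂ} {ψ : L → ℂ} (hχ : IsClassFunction G χ)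
    (hψ : ∀ a : L, (a : G) ∈ A → ψ a = (Nat.card (H a) : ℂ)⁻¹ * ∑ᶠ u ∈ (H a : Set G), χ (a * u)) :
    (Nat.card L : ℝ)⁻¹ * ∑ᶠ a ∈ {a : L | (a : G) ∈ A}, ‖ψ a‖ ^ 2 ≤
      (Nat.card G : ℝ)⁻¹ * ∑ᶠ g ∈ {g : G | ∃ a ∈ A, ∃ u ∈ H a, ∃ x : G, x * g * x⁻¹ = a * u}, ‖χ g‖ ^ 2 := by
  classical
  have hone : IsClassFunction L (fun _ : L => (1 : ℂ)) := fun _ _ => rfl
  have h1 := sum_formula hD hone (F := fun g => ((‖χ g‖ ^ 2 : ℝ) : ℂ)) (fun a b => by
    show ((‖χ (b * a * b⁻¹)‖ ^ 2 : ℝ) : ℂ) = ((‖χ a‖ ^ 2 : ℝ) : ℂ)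
    rw [hχ])
  have hG0 : (0 : ℝ) < Nat.card G := Nat.cast_pos.2 Nat.card_pos
  have hL0 : (0 : ℝ) < Nat.card L := Nat.cast_pos.2 Nat.card_pos
  -- the left side
  have h2 : ∑ g : G, dadeIsometry A L H (fun _ : L => (1 : ℂ)) g * ((‖χ g‖ ^ 2 : ℝ) : ℂ) =
      ((∑ᶠ g ∈ {g : G | ∃ a ∈ A, ∃ u ∈ H a, ∃ x : G, x * g * x⁻¹ = a * u}, ‖χ g‖ ^ 2 : ℝ) : ℂ) := by
    rw [finsum_mem_eq_finite_toFinset_sum _ (Set.toFinite _), Complex.ofReal_sum]
    symm
    apply Finset.sum_subset_zero_on_sdiff (Finset.subset_univ _)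
    · intro g hg
      rw [Finset.mem_sdiff, Set.Finite.mem_toFinset, Set.mem_setOf_eq] at hg
      rw [dade_zero, zero_mul]
      rintro ⟨a, ha, x, u, hu, e⟩
      exact hg.2 ⟨a, ha, u, hu, x, e⟩
    · intro g hg
      rw [Set.Finite.mem_toFinset, Set.mem_setOf_eq] at hg
      obtain ⟨a, ha, u, hu, x, e⟩ := hg
      rw [dade_apply hD hone (a := ⟨a, hD.subset ha⟩) ha hu e, one_mul]
  -- the right side
  have h3 : ∑ a : L, (if (a : G) ∈ A then (1 : ℂ) * ((Nat.card (H a) : ℂ)⁻¹ *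
        ∑ u : G, if u ∈ H (a : G) then ((‖χ (a * u)‖ ^ 2 : ℝ) : ℂ) else 0) else 0) =
      ((∑ a : L, (if (a : G) ∈ A then ((Nat.card (H a) : ℝ)⁻¹ *
        ∑ u : G, if u ∈ H (a : G) then ‖χ (a * u)‖ ^ 2 else 0) else 0) : ℝ) : ℂ) := by
    rw [Complex.ofReal_sum]
    refine Finset.sum_congr rfl fun a _ => ?_
    split_ifs
    · rw [one_mul, Complex.ofReal_mul, Complex.ofReal_inv, Complex.ofReal_natCast, Complex.ofReal_sum]
      congr 1
      refine Finset.sum_congr rfl fun u _ => ?_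
      split_ifs
      · rfl
      · rfl
    · rfl
  rw [h2, h3, ← Complex.ofReal_natCast, ← Complex.ofReal_natCast, ← Complex.ofReal_mul, ← Complex.ofReal_mul] at h1
  have h4 := Complex.ofReal_injective h1
  have h5 : ∑ᶠ a ∈ {a : L | (a : G) ∈ A}, ‖ψ a‖ ^ 2 ≤ ∑ a : L, (if (a : G) ∈ A then ((Nat.card (H a) : ℝ)⁻¹ *
        ∑ u : G, if u ∈ H (a : G) then ‖χ (a * u)‖ ^ 2 else 0) else 0) := by
    rw [finsum_mem_eq_finite_toFinset_sum _ (Set.toFinite _), ← Finset.sum_filter]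
    have e : (Set.toFinite {a : L | (a : G) ∈ A}).toFinset = Finset.univ.filter (fun a : L => (a : G) ∈ A) := by
      ext a; simp
    rw [e]
    apply Finset.sum_le_sum
    intro a ha
    have ha' := (Finset.mem_filter.1 ha).2
    rw [hψ a ha', finsum_subgroup, ← Finset.sum_filter, ← Finset.sum_filter]
    have hc : (Finset.univ.filter (fun u : G => u ∈ H (a : G))).card = Nat.card (H (a : G)) := by
      rw [← Fintype.card_subtype, ← Nat.card_eq_fintype_card]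
    have hH0 : (0 : ℝ) < Nat.card (H (a : G)) := Nat.cast_pos.2 Nat.card_pos
    rw [norm_mul, norm_inv, Complex.norm_natCast, mul_pow]
    have h6 : ‖∑ u ∈ Finset.univ.filter (fun u : G => u ∈ H (a : G)), χ (a * u)‖ ^ 2 ≤
        (Nat.card (H (a : G)) : ℝ) * ∑ u ∈ Finset.univ.filter (fun u : G => u ∈ H (a : G)), ‖χ (a * u)‖ ^ 2 := by
      rw [← hc]
      calc ‖∑ u ∈ Finset.univ.filter (fun u : G => u ∈ H (a : G)), χ (a * u)‖ ^ 2 ≤
          (∑ u ∈ Finset.univ.filter (fun u : G => u ∈ H (a : G)), ‖χ (a * u)‖) ^ 2 :=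
            pow_le_pow_left₀ (norm_nonneg _) (norm_sum_le _ _) 2
        _ ≤ _ := sq_sum_le_card_mul_sum_sq
    calc ((Nat.card (H (a : G)) : ℝ)⁻¹) ^ 2 * ‖∑ u ∈ Finset.univ.filter (fun u : G => u ∈ H (a : G)), χ (a * u)‖ ^ 2
        ≤ ((Nat.card (H (a : G)) : ℝ)⁻¹) ^ 2 * ((Nat.card (H (a : G)) : ℝ) *
          ∑ u ∈ Finset.univ.filter (fun u : G => u ∈ H (a : G)), ‖χ (a * u)‖ ^ 2) := by gcongr
      _ = _ := by field_simp
  have h6 : (Nat.card G : ℝ)⁻¹ * ∑ᶠ g ∈ {g : G | ∃ a ∈ A, ∃ u ∈ H a, ∃ x : G, x * g * x⁻¹ = a * u}, ‖χ g‖ ^ 2 =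
      (Nat.card L : ℝ)⁻¹ * ∑ a : L, (if (a : G) ∈ A then ((Nat.card (H a) : ℝ)⁻¹ *
        ∑ u : G, if u ∈ H (a : G) then ‖χ (a * u)‖ ^ 2 else 0) else 0) := by
    rw [inv_mul_eq_iff_eq_mul₀ hG0.ne', ← mul_assoc, mul_comm (Nat.card G : ℝ), mul_assoc,
      eq_inv_mul_iff_mul_eq₀ hL0.ne']
    exact h4
  rw [h6]
  gcongr

end map

end Cfsg.Agent.H10.Dade
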