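import Mathlib
import Cfsg.Prelude.Def_Characters

/-!
H10_OOGrp: coprime cosets (S1496).
-/

set_option autoImplicit false
set_option linter.unusedSectionVars false

namespace Cfsg.Agent.H10.OOGrp

variable {G : Type*} [Group G] [Finite G]

/-- `g` is a power of `c g` for commuting `c`, `g` of coprime orders -/
theorem exists_pow {H : Subgroup G} {g : G} (hcop : Nat.Coprime (orderOf g) (Nat.card H)) :
    ∃ m : ℕ, g ^ m = g ∧ ∀ c ∈ H, c ^ m = 1 := by
  obtain ⟨m, h1, h2⟩ := Nat.chineseRemainder hcop 1 0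
  refine ⟨m, ?_, fun c hc => ?_⟩
  · conv_rhs => rw [← pow_one g]
    exact pow_eq_pow_iff_modEq.2 h1
  · have h3 : Nat.card H ∣ m := (Nat.modEq_zero_iff_dvd).1 h2
    have h4 : orderOf c ∣ Nat.card H := by
      have := orderOf_dvd_natCard (⟨c, hc⟩ : H)
      rwa [Subgroup.orderOf_mk] at this
    exact orderOf_dvd_iff_pow_eq_one.1 (h4.trans h3)

theorem coset_conj {H : Subgroup G} {g : G} (hg : g ∈ Subgroup.normalizer (H : Set G))
    (hcop : Nat.Coprime (orderOf g) (Nat.card H)) {h : G} (hh : h ∈ H) :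
    ∃ x ∈ H, ∃ c ∈ H, c * g = g * c ∧ x * (h * g) * x⁻¹ = c * g := by
  classical
  haveI := Fintype.ofFinite G
  haveI := Fintype.ofFinite H
  obtain ⟨m, hm1, hm2⟩ := exists_pow hcop
  -- the centralizer of g in H
  let C : Subgroup G := H ⊓ Subgroup.centralizer {g}
  haveI : Fintype C := Fintype.ofFinite C
  have hC : ∀ c : C, (c : G) * g = g * c := fun c =>
    Subgroup.mem_centralizer_singleton_iff.1 c.2.2
  have hCm : ∀ c : C, ((c : G) * g) ^ m = g := by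
    intro c
    have hc : Commute (c : G) g := hC c
    rw [hc.mul_pow, hm1, hm2 _ c.2.1, one_mul]
  have hnorm : ∀ a ∈ H, g * a * g⁻¹ ∈ H := fun a ha => (Subgroup.mem_normalizer_iff.1 hg a).1 ha
  let f : H × C → H := fun q => ⟨q.1 * (q.2 : G) * (g * (q.1 : G)⁻¹ * g⁻¹),
    H.mul_mem (H.mul_mem q.1.2 q.2.2.1) (hnorm _ (H.inv_mem q.1.2))⟩
  have hf : ∀ q : H × C, ((f q : H) : G) * g = q.1 * ((q.2 : G) * g) * (q.1 : G)⁻¹ := by
    intro q
    show (q.1 : G) * (q.2 : G) * (g * (q.1 : G)⁻¹ * g⁻¹) * g = _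
    group
  -- fibres
  have hfib : ∀ b ∈ (Finset.univ : Finset (H × C)).image f,
      ((Finset.univ : Finset (H × C)).filter (fun q => f q = b)).card ≤ Fintype.card C := by
    intro b hb
    obtain ⟨q₀, -, rfl⟩ := Finset.mem_image.1 hb
    rw [← Finset.card_univ]
    refine Finset.card_le_card_of_injOn (fun q => if hq : (q₀.1 : G)⁻¹ * q.1 ∈ C then (⟨_, hq⟩ : C) else 1)
      (fun _ _ => Finset.mem_univ _) ?_
    have key : ∀ q, f q = f q₀ → (q₀.1 : G)⁻¹ * q.1 ∈ C ∧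
        ((q₀.1 : G)⁻¹ * q.1) * (q.2 : G) * ((q₀.1 : G)⁻¹ * q.1)⁻¹ = q₀.2 := by
      intro q hq
      have h1 : (q.1 : G) * ((q.2 : G) * g) * (q.1 : G)⁻¹ = q₀.1 * ((q₀.2 : G) * g) * (q₀.1 : G)⁻¹ := by
        rw [← hf, ← hf, hq]
      have h2 : ((q₀.1 : G)⁻¹ * q.1) * ((q.2 : G) * g) * ((q₀.1 : G)⁻¹ * q.1)⁻¹ = (q₀.2 : G) * g := by
        have : ((q₀.1 : G)⁻¹ * q.1) * ((q.2 : G) * g) * ((q₀.1 : G)⁻¹ * q.1)⁻¹ =
          (q₀.1 : G)⁻¹ * ((q.1 : G) * ((q.2 : G) * g) * (q.1 : G)⁻¹) * q₀.1 := by group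
        rw [this, h1]; group
      have h3 : ((q₀.1 : G)⁻¹ * q.1) * g * ((q₀.1 : G)⁻¹ * q.1)⁻¹ = g := by
        have h4 := congrArg (fun z => z ^ m) h2
        simp only [conj_pow, hCm] at h4
        exact h4
      have h5 : (q₀.1 : G)⁻¹ * q.1 ∈ C := by
        refine Subgroup.mem_inf.2 ⟨H.mul_mem (H.inv_mem q₀.1.2) q.1.2, ?_⟩
        rw [Subgroup.mem_centralizer_singleton_iff]
        exact mul_inv_eq_iff_eq_mul.1 h3
      refine ⟨h5, ?_⟩
      have h6 : ((q₀.1 : G)⁻¹ * q.1) * ((q.2 : G) * g) * ((q₀.1 : G)⁻¹ * q.1)⁻¹ =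
        (((q₀.1 : G)⁻¹ * q.1) * (q.2 : G) * ((q₀.1 : G)⁻¹ * q.1)⁻¹) *
        (((q₀.1 : G)⁻¹ * q.1) * g * ((q₀.1 : G)⁻¹ * q.1)⁻¹) := by group
      rw [h6, h3] at h2
      exact mul_right_cancel h2
    intro q hq q' hq' heq
    simp only [Finset.coe_filter, Finset.mem_univ, true_and, Set.mem_setOf_eq] at hq hq'
    obtain ⟨h1, h2⟩ := key q hq
    obtain ⟨h1', h2'⟩ := key q' hq'
    simp only [dif_pos h1, dif_pos h1'] at heq
    have h3 : (q₀.1 : G)⁻¹ * q.1 = (q₀.1 : G)⁻¹ * q'.1 := congrArg Subtype.val heq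
    have h4 : (q.1 : G) = q'.1 := mul_left_cancel h3
    have h5 : (q.2 : G) = q'.2 := by
      rw [← h2', h4] at h2
      exact mul_left_cancel (mul_right_cancel h2)
    exact Prod.ext (Subtype.ext h4) (Subtype.ext h5)
  have hcard := Finset.card_le_mul_card_image (Finset.univ : Finset (H × C)) (Fintype.card C) hfib
  rw [Finset.card_univ, Fintype.card_prod, mul_comm] at hcard
  have h6 : Fintype.card H ≤ ((Finset.univ : Finset (H × C)).image f).card :=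
    Nat.le_of_mul_le_mul_left hcard (Fintype.card_pos)
  have h7 : (Finset.univ : Finset (H × C)).image f = Finset.univ := by
    apply Finset.eq_univ_of_card
    exact le_antisymm (Finset.card_le_univ _) h6
  have h8 : (⟨h, hh⟩ : H) ∈ (Finset.univ : Finset (H × C)).image f := by rw [h7]; exact Finset.mem_univ _
  obtain ⟨q, -, hq⟩ := Finset.mem_image.1 h8
  refine ⟨(q.1 : G)⁻¹, H.inv_mem q.1.2, q.2, q.2.2.1, hC q.2, ?_⟩
  have h9 := hf q
  rw [hq] at h9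
  have h10 : h * g = (q.1 : G) * ((q.2 : G) * g) * (q.1 : G)⁻¹ := h9
  rw [h10]; group

end Cfsg.Agent.H10.OOGrp
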