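import Mathlib
import Cfsg.Prelude.Def_OddOrderChar
import Cfsg.Agent.H3_CharInd
import Cfsg.Agent.H10_Dade
import Cfsg.Agent.H10_OOGrp

/-!
H10_Dade2: the Dade map sends generalized characters to generalized characters (S1501).
-/

set_option autoImplicit false
set_option linter.unusedSectionVars false

namespace Cfsg.Agent.H10.Dade2

open Cfsg Cfsg.Agent.H3.CharIrr Cfsg.Agent.H3.CharComplete Cfsg.Agent.H3.CharInd Cfsg.Agent.H10.Dade
open scoped ComplexConjugate

/-- the projection of a semidirect product -/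
theorem exists_proj {G : Type*} [Group G] {H K : Subgroup G} (hn : ∀ k ∈ K, ∀ h ∈ H, k * h * k⁻¹ ∈ H)
    (hi : ∀ x ∈ H, x ∈ K → x = 1) :
    ∃ φ : ↥(H ⊔ K) →* K, ∀ x : ↥(H ⊔ K), (x : G) * ((φ x : K) : G)⁻¹ ∈ H := by
  have hex : ∀ x : ↥(H ⊔ K), ∃ k : K, (x : G) * (k : G)⁻¹ ∈ H := by
    intro x
    obtain ⟨h, hh, k, hk, e⟩ := mem_sup_of_norm hn x.2
    exact ⟨⟨k, hk⟩, by rw [← e]; simpa using hh⟩
  have huniq : ∀ (x : G) (k k' : K), x * (k : G)⁻¹ ∈ H → x * (k' : G)⁻¹ ∈ H → k = k' := by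
    intro x k k' h1 h2
    have h3 := H.mul_mem (H.inv_mem h1) h2
    have e : (x * (k : G)⁻¹)⁻¹ * (x * (k' : G)⁻¹) = (k : G) * (k' : G)⁻¹ := by group
    rw [e] at h3
    exact Subtype.ext (mul_inv_eq_one.1 (hi _ h3 (K.mul_mem k.2 (K.inv_mem k'.2))))
  choose f hf using hex
  refine ⟨MonoidHom.mk' f fun x y => ?_, fun x => hf x⟩
  apply huniq ((x * y : ↥(H ⊔ K)) : G) _ _ (hf (x * y))
  have h1 := H.mul_mem (hf x) (hn _ (f x).2 _ (hf y))
  have e : (x : G) * (f x : G)⁻¹ * ((f x : G) * ((y : G) * (f y : G)⁻¹) * (f x : G)⁻¹) =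
    ((x * y : ↥(H ⊔ K)) : G) * (((f x * f y : K)) : G)⁻¹ := by push_cast; group
  rwa [e] at h1

variable {G : Type*} [Group G] {A : Set G} {L : Subgroup G} {H : G → Subgroup G}

/-- intersection of the `H b` -/
def HB (H : G → Subgroup G) (B : Finset G) : Subgroup G := ⨅ b ∈ B, H b

theorem mem_HB {B : Finset G} {x : G} : x ∈ HB H B ↔ ∀ b ∈ B, x ∈ H b := by
  simp [HB, Subgroup.mem_iInf]

/-- stabilizer of `B` in `L` -/
def NB (L : Subgroup G) (B : Finset G) : Subgroup G := L ⊓ Subgroup.normalizer (B : Set G)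

theorem mem_NB {B : Finset G} {x : G} : x ∈ NB L B ↔ x ∈ L ∧ ∀ b, b ∈ B ↔ x * b * x⁻¹ ∈ B := by
  rw [NB, Subgroup.mem_inf, Subgroup.mem_set_normalizer_iff]
  rfl

section

variable [Finite G] (hD : DadeHypothesis A L H)
include hD

theorem HB_norm {B : Finset G} (hBA : ∀ b ∈ B, b ∈ A) {n : G} (hn : n ∈ NB L B) {h : G} (hh : h ∈ HB H B) :
    n * h * n⁻¹ ∈ HB H B := by
  rw [mem_HB] at hh ⊢
  intro b hb
  have hb' : n⁻¹ * b * n ∈ B := by
    rw [(mem_NB.1 hn).2]
    have e : n * (n⁻¹ * b * n) * n⁻¹ = b := by group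
    rwa [e]
  exact mem_H_conj hD (hBA _ hb') (hBA b hb) (by group) (hh _ hb')

theorem HB_inf {B : Finset G} (hBA : ∀ b ∈ B, b ∈ A) (hBn : B.Nonempty) {x : G} (hx : x ∈ HB H B) (hxL : x ∈ L) :
    x = 1 := by
  obtain ⟨b, hb⟩ := hBn
  have h1 := mem_HB.1 hx b hb
  have : x ∈ H b ⊓ (L ⊓ Subgroup.centralizer ({b} : Set G)) := ⟨h1, hxL, hD.le_centralizer b (hBA b hb) h1⟩
  rw [hD.inf_eq_bot b (hBA b hb)] at this
  exact this

/-- elements of `H b` commuting with `a` lie in `H a` -/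
theorem mem_H_of_commute {a b : G} (ha : a ∈ A) (hb : b ∈ A) {u : G} (hu : u ∈ H b) (hc : u * a = a * u) :
    u ∈ H a := by
  obtain ⟨v, hv, l, hl, e⟩ := decomp hD ha hc
  -- the order of u divides |H b|, coprime to |C_L(a)|
  have key : ∀ n : ℕ, ∃ u' ∈ H a, (v * l) ^ n = u' * l ^ n := by
    intro n
    induction n with
    | zero => exact ⟨1, (H a).one_mem, by simp⟩
    | succ n ih =>
      obtain ⟨u', hu', e⟩ := ih
      refine ⟨u' * (l ^ n * v * (l ^ n)⁻¹), (H a).mul_mem hu'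
        (hD.conj_mem_H a ha _ (Subgroup.pow_mem _ hl.2 n) v hv), ?_⟩
      rw [pow_succ, e, pow_succ]; group
  obtain ⟨u', hu', e'⟩ := key (Nat.card (H b))
  rw [e, pow_card_mem hu] at e'
  have h1 : l ^ (Nat.card (H b)) ∈ H a := by
    have : l ^ (Nat.card (H b)) = u'⁻¹ := (inv_eq_of_mul_eq_one_right e'.symm).symm
    rw [this]; exact (H a).inv_mem hu'
  have h2 : l ^ (Nat.card (H b)) = 1 := by
    have : l ^ (Nat.card (H b)) ∈ H a ⊓ (L ⊓ Subgroup.centralizer ({a} : Set G)) := ⟨h1, Subgroup.pow_mem _ hl _⟩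
    rw [hD.inf_eq_bot a ha] at this
    exact this
  have h3 : l ^ (Nat.card ↥(L ⊓ Subgroup.centralizer ({a} : Set G))) = 1 := pow_card_mem hl
  have h4 : l = 1 := by
    have h5 := pow_gcd_eq_one.2 ⟨h2, h3⟩
    rwa [(hD.coprime b hb a ha : Nat.gcd _ _ = 1), pow_one] at h5
  rw [← e, h4, mul_one]; exact hv

theorem coprime_HB {B : Finset G} (hBA : ∀ b ∈ B, b ∈ A) (hBn : B.Nonempty) {a : G} (ha : a ∈ A) :
    Nat.Coprime (orderOf a) (Nat.card (HB H B)) := by
  obtain ⟨b, hb⟩ := hBn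
  have h1 : Nat.card (HB H B) ∣ Nat.card (H b) := Subgroup.card_dvd_of_le (fun x hx => mem_HB.1 hx b hb)
  have h2 : orderOf a ∣ Nat.card ↥(L ⊓ Subgroup.centralizer ({a} : Set G)) := by
    have : a ∈ L ⊓ Subgroup.centralizer ({a} : Set G) :=
      ⟨hD.subset ha, Subgroup.mem_centralizer_singleton_iff.2 rfl⟩
    have h5 := orderOf_dvd_natCard (⟨a, this⟩ : ↥(L ⊓ Subgroup.centralizer ({a} : Set G)))
    rwa [Subgroup.orderOf_mk] at h5
  exact Nat.Coprime.coprime_dvd_left h2 (Nat.Coprime.coprime_dvd_right h1 (hD.coprime b (hBA b hb) a ha).symm)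

open Classical in
/-- the counting function -/
noncomputable def cnt (H : G → Subgroup G) [Fintype G] (B : Finset G) (a g : G) : ℂ :=
  (Nat.card (HB H B) : ℂ)⁻¹ * ∑ x : G, if x * g * x⁻¹ * a⁻¹ ∈ HB H B then 1 else 0

open Classical in
/-- adding `a` to `B` does not change the count -/
theorem cnt_insert [Fintype G] {B : Finset G} (hBA : ∀ b ∈ B, b ∈ A) (hBn : B.Nonempty) {a : G} (ha : a ∈ A)
    (haN : a ∈ NB L B) (g : G) : cnt H (insert a B) a g = cnt H B a g := by
  set K := HB H (insert a B) with hK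
  have hmemK : ∀ w, w ∈ K ↔ w ∈ HB H B ∧ w * a = a * w := by
    intro w
    rw [hK, mem_HB, mem_HB]
    constructor
    · intro h
      exact ⟨fun b hb => h b (Finset.mem_insert_of_mem hb), commute hD ha (h a (Finset.mem_insert_self _ _))⟩
    · rintro ⟨h1, h2⟩ b hb
      rcases Finset.mem_insert.1 hb with rfl | hb
      · obtain ⟨b', hb'⟩ := hBn
        exact mem_H_of_commute hD ha (hBA b' hb') (h1 b' hb') h2
      · exact h1 b hb
  haveI : Fintype (HB H B) := Fintype.ofFinite _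
  haveI : Fintype K := Fintype.ofFinite _
  have hcop := coprime_HB hD hBA hBn ha
  obtain ⟨m, hm1, hm2⟩ := OOGrp.exists_pow hcop
  have hanorm : ∀ h ∈ HB H B, a * h * a⁻¹ ∈ HB H B := fun h hh => HB_norm hD hBA haN hh
  have haNor : a ∈ Subgroup.normalizer (HB H B : Set G) := by
    rw [Subgroup.mem_normalizer_iff]
    intro h
    refine ⟨hanorm h, fun hh => ?_⟩
    have h1 := HB_norm hD hBA ((NB L B).inv_mem haN) hh
    have e : a⁻¹ * (a * h * a⁻¹) * a⁻¹⁻¹ = h := by group
    rwa [e] at h1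
  -- the double count
  have hcount : ∑ x : G, ∑ h : HB H B, (if ((h : G) * x) * g * ((h : G) * x)⁻¹ * a⁻¹ ∈ K then (1 : ℂ) else 0) =
      (Nat.card (HB H B) : ℂ) * ∑ x : G, if x * g * x⁻¹ * a⁻¹ ∈ K then 1 else 0 := by
    rw [Finset.sum_comm]
    have h1 : ∀ h : HB H B, ∑ x : G, (if ((h : G) * x) * g * ((h : G) * x)⁻¹ * a⁻¹ ∈ K then (1 : ℂ) else 0) =
        ∑ x : G, if x * g * x⁻¹ * a⁻¹ ∈ K then 1 else 0 := fun h =>
      Equiv.sum_comp (Equiv.mulLeft (h : G)) (fun x => if x * g * x⁻¹ * a⁻¹ ∈ K then (1 : ℂ) else 0)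
    rw [Finset.sum_congr rfl fun h _ => h1 h, Finset.sum_const, Finset.card_univ, nsmul_eq_mul,
      Nat.card_eq_fintype_card]
  have hcount2 : ∀ x : G, ∑ h : HB H B, (if ((h : G) * x) * g * ((h : G) * x)⁻¹ * a⁻¹ ∈ K then (1 : ℂ) else 0) =
      if x * g * x⁻¹ * a⁻¹ ∈ HB H B then (Nat.card K : ℂ) else 0 := by
    intro x
    have hconj : ∀ h : G, (h * x) * g * (h * x)⁻¹ * a⁻¹ = h * (x * g * x⁻¹) * h⁻¹ * a⁻¹ := by intro h; group
    split_ifs with hx
    · -- z = h₀ a
      set z := x * g * x⁻¹ with hz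
      obtain ⟨h₁, hh₁, k₁, hk₁, hka, e1⟩ := OOGrp.coset_conj haNor hcop hx
      have e2 : h₁ * z * h₁⁻¹ = k₁ * a := by rw [← e1]; group
      have hk₁K : k₁ ∈ K := (hmemK k₁).2 ⟨hk₁, hka⟩
      have hpow : ∀ k ∈ K, (k * a) ^ m = a := by
        intro k hk
        obtain ⟨h3, h4⟩ := (hmemK k).1 hk
        have hc : Commute k a := h4
        rw [hc.mul_pow, hm1, hm2 k h3, one_mul]
      rw [Finset.sum_boole, Nat.card_eq_fintype_card, ← Finset.card_univ]
      congr 1
      symm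
      refine Finset.card_bij (fun (w : K) _ => (⟨(w : G) * h₁, (HB H B).mul_mem ((hmemK w).1 w.2).1 hh₁⟩ : HB H B)) ?_ ?_ ?_
      · intro w _
        rw [Finset.mem_filter]
        refine ⟨Finset.mem_univ _, ?_⟩
        rw [hconj]
        have h3 : ((w : G) * h₁) * z * ((w : G) * h₁)⁻¹ * a⁻¹ = (w : G) * k₁ * (w : G)⁻¹ := by
          have : ((w : G) * h₁) * z * ((w : G) * h₁)⁻¹ * a⁻¹ = (w : G) * (h₁ * z * h₁⁻¹) * (w : G)⁻¹ * a⁻¹ := by group
          rw [this, e2]
          have hwa := ((hmemK w).1 w.2).2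
          have : (w : G) * (k₁ * a) * (w : G)⁻¹ * a⁻¹ = (w : G) * k₁ * (w : G)⁻¹ * (((w : G) * a) * (w : G)⁻¹ * a⁻¹) := by group
          rw [this, hwa]; group
        show ((w : G) * h₁) * z * ((w : G) * h₁)⁻¹ * a⁻¹ ∈ K
        rw [h3]
        exact K.mul_mem (K.mul_mem w.2 hk₁K) (K.inv_mem w.2)
      · intro w _ w' _ h
        have : (w : G) * h₁ = w' * h₁ := congrArg Subtype.val h
        exact Subtype.ext (mul_right_cancel this)
      · intro h hh
        rw [Finset.mem_filter, hconj] at hh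
        have h3 := hh.2
        set k := (h : G) * z * (h : G)⁻¹ * a⁻¹ with hk
        have h4 : ((h : G) * h₁⁻¹) * (k₁ * a) * ((h : G) * h₁⁻¹)⁻¹ = k * a := by
          rw [← e2, hk]; group
        have h5 := congrArg (fun y => y ^ m) h4
        simp only [conj_pow] at h5
        rw [hpow k₁ hk₁K, hpow k h3] at h5
        have h6 : (h : G) * h₁⁻¹ ∈ K := (hmemK _).2 ⟨(HB H B).mul_mem h.2 ((HB H B).inv_mem hh₁), mul_inv_eq_iff_eq_mul.1 h5⟩
        exact ⟨⟨_, h6⟩, Finset.mem_univ _, Subtype.ext (by simp)⟩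
    · apply Finset.sum_eq_zero
      intro h _
      rw [if_neg]
      intro hcon
      apply hx
      rw [hconj] at hcon
      have h3 := ((hmemK _).1 hcon).1
      -- z a⁻¹ = h⁻¹ (k) (a h a⁻¹)
      have h4 := (HB H B).mul_mem ((HB H B).mul_mem ((HB H B).inv_mem h.2) h3) (hanorm h h.2)
      have e : (h : G)⁻¹ * ((h : G) * (x * g * x⁻¹) * (h : G)⁻¹ * a⁻¹) * (a * (h : G) * a⁻¹) = x * g * x⁻¹ * a⁻¹ := by group
      rwa [e] at h4
  have h5 : (Nat.card (HB H B) : ℂ) * ∑ x : G, (if x * g * x⁻¹ * a⁻¹ ∈ K then (1:ℂ) else 0) =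
      (Nat.card K : ℂ) * ∑ x : G, (if x * g * x⁻¹ * a⁻¹ ∈ HB H B then (1:ℂ) else 0) := by
    rw [← hcount, Finset.sum_congr rfl fun x _ => hcount2 x, Finset.mul_sum]
    refine Finset.sum_congr rfl fun x _ => ?_
    split_ifs <;> simp
  have h6 : (Nat.card (HB H B) : ℂ) ≠ 0 := Nat.cast_ne_zero.2 Nat.card_pos.ne'
  have h7 : (Nat.card K : ℂ) ≠ 0 := Nat.cast_ne_zero.2 Nat.card_pos.ne'
  rw [cnt, cnt, ← hK, inv_mul_eq_iff_eq_mul₀ h7, ← mul_assoc, mul_comm (Nat.card K : ℂ), mul_assoc,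
    eq_inv_mul_iff_mul_eq₀ h6]
  exact h5

/-- the order of `M(B)` -/
theorem card_MB {B : Finset G} (hBA : ∀ b ∈ B, b ∈ A) (hBn : B.Nonempty) :
    Nat.card ↥(HB H B ⊔ NB L B) = Nat.card (HB H B) * Nat.card (NB L B) := by
  have hn : ∀ k ∈ NB L B, ∀ h ∈ HB H B, k * h * k⁻¹ ∈ HB H B := fun k hk h hh => HB_norm hD hBA hk hh
  have hi : ∀ x ∈ HB H B, x ∈ NB L B → x = 1 := fun x hx hx' => HB_inf hD hBA hBn hx (mem_NB.1 hx').1
  rw [← Nat.card_prod]
  symm
  apply Nat.card_congr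
  refine Equiv.ofBijective (fun q : HB H B × NB L B =>
    (⟨(q.1 : G) * (q.2 : G), Subgroup.mul_mem_sup q.1.2 q.2.2⟩ : ↥(HB H B ⊔ NB L B))) ⟨?_, ?_⟩
  · intro q q' h
    have h1 : (q.1 : G) * (q.2 : G) = q'.1 * q'.2 := congrArg Subtype.val h
    have h2 : (q'.1 : G)⁻¹ * q.1 = q'.2 * (q.2 : G)⁻¹ := by
      rw [inv_mul_eq_iff_eq_mul, ← mul_assoc, ← h1]; group
    have h3 := hi ((q'.1 : G)⁻¹ * q.1) (Subgroup.mul_mem _ (Subgroup.inv_mem _ q'.1.2) q.1.2) (by
        rw [h2]; exact Subgroup.mul_mem _ q'.2.2 (Subgroup.inv_mem _ q.2.2))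
    have h4 : (q.1 : G) = q'.1 := (inv_mul_eq_one.1 h3).symm
    rw [h3] at h2
    have h5 : (q.2 : G) = q'.2 := (mul_inv_eq_one.1 h2.symm).symm
    exact Prod.ext (Subtype.ext h4) (Subtype.ext h5)
  · intro c
    obtain ⟨u, hu, l, hl, e⟩ := mem_sup_of_norm hn c.2
    exact ⟨(⟨u, hu⟩, ⟨l, hl⟩), Subtype.ext e⟩

open Classical in
/-- the induced function attached to `B`, up to the factor `|N(B)|` -/
noncomputable def IB (H : G → Subgroup G) (L : Subgroup G) [Fintype G] [Fintype L] (α : L → ℂ) (B : Finset G) (g : G) : ℂ :=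
  ∑ a : L, if (a : G) ∈ NB L B then α a * cnt H B a g else 0

theorem IB_eq [Fintype G] [Fintype L] {B : Finset G} (hBA : ∀ b ∈ B, b ∈ A) (hBn : B.Nonempty) {α : L → ℂ}
    (hα : IsGeneralizedCharacter L α) :
    ∃ f : ↥(HB H B ⊔ NB L B) → ℂ, IsGeneralizedCharacter _ f ∧
      ∀ g : G, (Nat.card (NB L B) : ℂ) * indFun (HB H B ⊔ NB L B) f g = IB H L α B g := by
  classical
  have hn : ∀ k ∈ NB L B, ∀ h ∈ HB H B, k * h * k⁻¹ ∈ HB H B := fun k hk h hh => HB_norm hD hBA hk hh
  have hi : ∀ x ∈ HB H B, x ∈ NB L B → x = 1 := fun x hx hx' => HB_inf hD hBA hBn hx (mem_NB.1 hx').1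
  obtain ⟨φ, hφ⟩ := exists_proj hn hi
  have hNL : NB L B ≤ L := inf_le_left
  refine ⟨fun x => α (Subgroup.inclusion hNL (φ x)), IsGen.comp hα ((Subgroup.inclusion hNL).comp φ), fun g => ?_⟩
  set f : ↥(HB H B ⊔ NB L B) → ℂ := fun x => α (Subgroup.inclusion hNL (φ x)) with hf
  have hext : ∀ z : G, extendByZero (HB H B ⊔ NB L B) f z =
      ∑ a : L, if (a : G) ∈ NB L B ∧ z * (a : G)⁻¹ ∈ HB H B then α a else 0 := by
    intro z
    by_cases hz : z ∈ HB H B ⊔ NB L B
    · rw [ext_mem _ f hz]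
      rw [Finset.sum_eq_single (Subgroup.inclusion hNL (φ ⟨z, hz⟩))]
      · rw [if_pos ⟨(φ ⟨z, hz⟩).2, hφ ⟨z, hz⟩⟩]
      · intro a _ ha
        rw [if_neg]
        rintro ⟨h1, h2⟩
        apply ha
        apply Subtype.ext
        show (a : G) = (φ ⟨z, hz⟩ : G)
        have h3 := (HB H B).mul_mem ((HB H B).inv_mem h2) (hφ ⟨z, hz⟩)
        have e : (z * (a : G)⁻¹)⁻¹ * (z * ((φ ⟨z, hz⟩ : NB L B) : G)⁻¹) = (a : G) * ((φ ⟨z, hz⟩ : NB L B) : G)⁻¹ := by group
        simp only at h3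
        rw [e] at h3
        exact mul_inv_eq_one.1 (hi _ h3 ((NB L B).mul_mem h1 ((NB L B).inv_mem (φ ⟨z, hz⟩).2)))
      · intro h; exact absurd (Finset.mem_univ _) h
    · rw [ext_not_mem _ f hz]
      symm
      apply Finset.sum_eq_zero
      intro a _
      rw [if_neg]
      rintro ⟨h1, h2⟩
      apply hz
      have := Subgroup.mul_mem_sup h2 h1
      rwa [inv_mul_cancel_right] at this
  have hsum : ∑ x : G, extendByZero (HB H B ⊔ NB L B) f (x⁻¹ * g * x) =
      ∑ a : L, if (a : G) ∈ NB L B then α a * ∑ x : G, (if x * g * x⁻¹ * (a : G)⁻¹ ∈ HB H B then 1 else 0) else 0 := by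
    rw [← Equiv.sum_comp (Equiv.inv G)]
    simp only [Equiv.inv_apply, inv_inv]
    rw [Finset.sum_congr rfl fun x _ => hext (x * g * x⁻¹), Finset.sum_comm]
    refine Finset.sum_congr rfl fun a _ => ?_
    split_ifs with ha
    · rw [Finset.mul_sum]
      refine Finset.sum_congr rfl fun x _ => ?_
      simp only [ha, true_and]
      split_ifs <;> simp
    · apply Finset.sum_eq_zero
      intro x _
      rw [if_neg (fun h => ha h.1)]
  have h6 : (Nat.card (HB H B) : ℂ) ≠ 0 := Nat.cast_ne_zero.2 Nat.card_pos.ne'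
  have h7 : (Nat.card (NB L B) : ℂ) ≠ 0 := Nat.cast_ne_zero.2 Nat.card_pos.ne'
  rw [indFun, hsum, card_MB hD hBA hBn, Nat.cast_mul, IB, Finset.mul_sum, Finset.mul_sum]
  refine Finset.sum_congr rfl fun a _ => ?_
  split_ifs
  · rw [cnt]; field_simp
  · ring

theorem mem_NB_insert {B : Finset G} [DecidableEq G] {a : G} (ha : a ∈ A) (haB : a ∉ B) :
    a ∈ NB L (insert a B) ↔ a ∈ NB L B := by
  have haL : a ∈ L := hD.subset ha
  rw [mem_NB, mem_NB]
  refine and_congr_right fun _ => ?_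
  have e1 : a * a * a⁻¹ = a := by group
  constructor
  · intro h b
    have h1 := h b
    rw [Finset.mem_insert, Finset.mem_insert] at h1
    constructor
    · intro hb
      rcases h1.1 (Or.inr hb) with h2 | h2
      · exfalso
        apply haB
        have h3 : a * b * a⁻¹ = a * a * a⁻¹ := by rw [h2, e1]
        have h4 : b = a := mul_left_cancel (mul_right_cancel h3)
        rwa [h4] at hb
      · exact h2
    · intro hb
      rcases h1.2 (Or.inr hb) with h2 | h2
      · exfalso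
        apply haB
        rwa [h2, e1] at hb
      · exact h2
  · intro h b
    rw [Finset.mem_insert, Finset.mem_insert]
    constructor
    · rintro (rfl | hb)
      · left; exact e1
      · right; exact (h b).1 hb
    · rintro (h2 | h2)
      · left
        have h3 : a * b * a⁻¹ = a * a * a⁻¹ := by rw [h2, e1]
        exact mul_left_cancel (mul_right_cancel h3)
      · right; exact (h b).2 h2

open Classical in
/-- the alternating sum for fixed `a` -/
theorem alt_sum [Fintype G] {a : G} (ha : a ∈ A) (g : G) (AF : Finset G) (hAF : ∀ x, x ∈ AF ↔ x ∈ A) :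
    ∑ B ∈ AF.powerset.filter (fun B => B.Nonempty ∧ a ∈ NB L B), (-1 : ℂ) ^ B.card * cnt H B a g = - cnt H {a} a g := by
  have haL : a ∈ L := hD.subset ha
  have hmemNB : a ∈ NB L ({a} : Finset G) := by
    rw [mem_NB]
    refine ⟨haL, fun b => ?_⟩
    rw [Finset.mem_singleton, Finset.mem_singleton]
    constructor
    · rintro rfl; group
    · intro h
      have h3 : a * b * a⁻¹ = a * a * a⁻¹ := by rw [h]; group
      exact mul_left_cancel (mul_right_cancel h3)
  have hmem : ({a} : Finset G) ∈ AF.powerset.filter (fun B => B.Nonempty ∧ a ∈ NB L B) := by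
    rw [Finset.mem_filter, Finset.mem_powerset, Finset.singleton_subset_iff, hAF]
    exact ⟨ha, Finset.singleton_nonempty a, hmemNB⟩
  rw [← Finset.add_sum_erase _ _ hmem, Finset.card_singleton, pow_one, neg_one_mul]
  rw [add_eq_left]
  have hprop : ∀ B, B ∈ (AF.powerset.filter (fun B => B.Nonempty ∧ a ∈ NB L B)).erase {a} ↔
      B ≠ {a} ∧ B ⊆ AF ∧ B.Nonempty ∧ a ∈ NB L B := by
    intro B
    rw [Finset.mem_erase, Finset.mem_filter, Finset.mem_powerset]
  have hne : ∀ B ∈ (AF.powerset.filter (fun B => B.Nonempty ∧ a ∈ NB L B)).erase {a}, a ∈ B → (B.erase a).Nonempty := by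
    intro B hB haB
    rw [Finset.nonempty_iff_ne_empty]
    intro h
    apply ((hprop B).1 hB).1
    rw [Finset.erase_eq_empty_iff] at h
    rcases h with h | h
    · exact absurd haB (by rw [h]; exact Finset.notMem_empty a)
    · exact h
  refine Finset.sum_involution (fun B _ => if a ∈ B then B.erase a else insert a B) ?_ ?_ ?_ ?_
  · intro B hB
    obtain ⟨h1, h2, h3, h4⟩ := (hprop B).1 hB
    have hBA : ∀ b ∈ B, b ∈ A := fun b hb => (hAF b).1 (h2 hb)
    by_cases haB : a ∈ B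
    · simp only [if_pos haB]
      have h5 : insert a (B.erase a) = B := Finset.insert_erase haB
      have h6 : a ∈ NB L (B.erase a) := by
        rw [← mem_NB_insert hD ha (Finset.notMem_erase a B), h5]; exact h4
      have h7 := cnt_insert hD (fun b hb => hBA b (Finset.mem_of_mem_erase hb)) (hne B hB haB) ha h6 g
      rw [h5] at h7
      have h8 : B.card = (B.erase a).card + 1 := (Finset.card_erase_add_one haB).symm
      rw [h7, h8, pow_succ]; ring
    · simp only [if_neg haB]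
      have h7 := cnt_insert hD hBA h3 ha h4 g
      rw [h7, Finset.card_insert_of_notMem haB, pow_succ]; ring
  · intro B hB _
    by_cases haB : a ∈ B
    · simp only [if_pos haB]
      intro h
      rw [← h] at haB
      exact Finset.notMem_erase a B haB
    · simp only [if_neg haB]
      intro h
      apply haB
      rw [← h]; exact Finset.mem_insert_self a B
  · intro B hB
    obtain ⟨h1, h2, h3, h4⟩ := (hprop B).1 hB
    rw [hprop]
    by_cases haB : a ∈ B
    · simp only [if_pos haB]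
      have h5 : insert a (B.erase a) = B := Finset.insert_erase haB
      refine ⟨fun h => ?_, (Finset.erase_subset a B).trans h2, hne B hB haB, ?_⟩
      · have : a ∈ B.erase a := by rw [h]; exact Finset.mem_singleton_self a
        exact Finset.notMem_erase a B this
      · rw [← mem_NB_insert hD ha (Finset.notMem_erase a B), h5]; exact h4
    · simp only [if_neg haB]
      refine ⟨fun h => ?_, ?_, Finset.insert_nonempty a B, (mem_NB_insert hD ha haB).2 h4⟩
      · obtain ⟨b, hb⟩ := h3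
        have h5 : b ∈ insert a B := Finset.mem_insert_of_mem hb
        rw [h, Finset.mem_singleton] at h5
        rw [h5] at hb
        exact haB hb
      · intro b hb
        rcases Finset.mem_insert.1 hb with rfl | hb
        · exact (hAF _).2 ha
        · exact h2 hb
  · intro B hB
    by_cases haB : a ∈ B
    · simp only [if_pos haB, Finset.notMem_erase, if_false]
      exact Finset.insert_erase haB
    · simp only [if_neg haB, Finset.mem_insert_self, if_true]
      exact Finset.erase_insert haB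

open Classical in
theorem dade_eq_sum [Fintype G] [Fintype L] {α : L → ℂ} (hα : IsClassFunction L α) (hαA : ∀ x : L, (x : G) ∉ A → α x = 0)
    (g : G) (AF : Finset G) (hAF : ∀ x, x ∈ AF ↔ x ∈ A) :
    (Nat.card L : ℂ) * dadeIsometry A L H α g =
      - ∑ B ∈ AF.powerset.filter (fun B => B.Nonempty), (-1 : ℂ) ^ B.card * IB H L α B g := by
  have h1 : ∑ B ∈ AF.powerset.filter (fun B => B.Nonempty), (-1 : ℂ) ^ B.card * IB H L α B g =
      ∑ a : L, α a * ∑ B ∈ AF.powerset.filter (fun B => B.Nonempty ∧ (a : G) ∈ NB L B), (-1 : ℂ) ^ B.card * cnt H B a g := by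
    simp only [IB, Finset.mul_sum]
    rw [Finset.sum_comm]
    refine Finset.sum_congr rfl fun a _ => ?_
    rw [← Finset.filter_filter, Finset.sum_filter (s := AF.powerset.filter (fun B => B.Nonempty))]
    refine Finset.sum_congr rfl fun B _ => ?_
    split_ifs <;> ring
  rw [h1, ← formula hD hα g, ← Finset.sum_neg_distrib, Finset.sum_comm]
  refine Finset.sum_congr rfl fun a _ => ?_
  by_cases ha : (a : G) ∈ A
  · rw [alt_sum hD ha g AF hAF, mul_neg, neg_neg, cnt]
    have h2 : HB H ({(a : G)} : Finset G) = H a := by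
      ext x; rw [mem_HB]; simp
    rw [h2, ← mul_assoc, Finset.mul_sum]
    refine Finset.sum_congr rfl fun x _ => ?_
    have h3 : ((a : G)⁻¹ * (x * g * x⁻¹) ∈ H (a : G)) ↔ (x * g * x⁻¹ * (a : G)⁻¹ ∈ H (a : G)) := by
      constructor
      · intro h
        have := mem_H_conj hD ha ha (g := (a : G)) (by group) h
        have e : (a : G) * ((a : G)⁻¹ * (x * g * x⁻¹)) * (a : G)⁻¹ = x * g * x⁻¹ * (a : G)⁻¹ := by group
        rwa [e] at this
      · intro h
        have := mem_H_conj hD ha ha (g := (a : G)⁻¹) (by group) h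
        have e : (a : G)⁻¹ * (x * g * x⁻¹ * (a : G)⁻¹) * (a : G)⁻¹⁻¹ = (a : G)⁻¹ * (x * g * x⁻¹) := by group
        rwa [e] at this
    rw [h3]
    by_cases h4 : x * g * x⁻¹ * (a : G)⁻¹ ∈ H (a : G)
    · rw [if_pos ⟨ha, h4⟩, if_pos h4, mul_one]
    · rw [if_neg (fun h => h4 h.2), if_neg h4, mul_zero]
  · have h0 : ∀ x : G, (if (a : G) ∈ A ∧ x * g * x⁻¹ * (a : G)⁻¹ ∈ H (a : G) then (Nat.card (H (a : G)) : ℂ)⁻¹ * α a else 0) = 0 := by
      intro x
      rw [if_neg (fun h => ha h.1)]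
    simp [hαA a ha, ha]

end

/-- integrality of sums over orbits -/
theorem sum_orbit_int {K X : Type*} [Group K] [Finite K] [MulAction K X] [Fintype X] (f : X → ℂ)
    (hinv : ∀ (k : K) (x : X), f (k • x) = f x)
    (hint : ∀ x : X, ∃ m : ℤ, f x = Nat.card (MulAction.stabilizer K x) * m) :
    ∃ m : ℤ, ∑ x, f x = Nat.card K * m := by
  classical
  haveI := Fintype.ofFinite K
  haveI : Fintype (MulAction.orbitRel.Quotient K X) := Fintype.ofFinite _
  rw [← Finset.sum_fiberwise (s := Finset.univ) (g := fun x : X => (Quotient.mk (MulAction.orbitRel K X) x : MulAction.orbitRel.Quotient K X))]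
  have key : ∀ ω : MulAction.orbitRel.Quotient K X, ∃ m : ℤ,
      ∑ x ∈ Finset.univ.filter (fun x : X => (Quotient.mk (MulAction.orbitRel K X) x : MulAction.orbitRel.Quotient K X) = ω), f x =
        Nat.card K * m := by
    intro ω
    obtain ⟨x₀, rfl⟩ := Quotient.exists_rep ω
    obtain ⟨m, hm⟩ := hint x₀
    refine ⟨m, ?_⟩
    have hmem : ∀ x : X, (Quotient.mk (MulAction.orbitRel K X) x : MulAction.orbitRel.Quotient K X) =
        Quotient.mk (MulAction.orbitRel K X) x₀ ↔ x ∈ MulAction.orbit K x₀ := by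
      intro x
      rw [Quotient.eq]
      exact MulAction.orbitRel_apply
    rw [Finset.sum_congr rfl (g := fun _ => f x₀) (fun x hx => by
      obtain ⟨k, rfl⟩ := (hmem x).1 (Finset.mem_filter.1 hx).2
      exact hinv k x₀), Finset.sum_const, nsmul_eq_mul, hm, ← mul_assoc]
    congr 1
    have h1 : (Finset.univ.filter (fun x : X => (Quotient.mk (MulAction.orbitRel K X) x : MulAction.orbitRel.Quotient K X) =
        Quotient.mk (MulAction.orbitRel K X) x₀)).card = Nat.card (MulAction.orbit K x₀) := by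
      rw [← Fintype.card_subtype, ← Nat.card_eq_fintype_card]
      exact Nat.card_congr (Equiv.subtypeEquivRight hmem)
    rw [h1, ← Nat.cast_mul]
    congr 1
    have h2 := MulAction.card_orbit_mul_card_stabilizer_eq_card_group K x₀
    rw [← Nat.card_eq_fintype_card, ← Nat.card_eq_fintype_card, ← Nat.card_eq_fintype_card] at h2
    exact h2
  choose m hm using key
  refine ⟨∑ ω, m ω, ?_⟩
  rw [Finset.sum_congr rfl fun ω _ => hm ω, ← Finset.mul_sum]
  push_cast
  rfl

end Cfsg.Agent.H10.Dade2
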