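import Mathlib
import Cfsg.Prelude.Def_OddOrderChar
import Cfsg.Prelude.Def_OddOrderLocal
import Cfsg.Agent.H3_CharInd
import Cfsg.Agent.H3_CharTI
import Cfsg.Agent.H3_Isom
import Cfsg.Agent.H10_AbChar
import Cfsg.Agent.H10_Dade2

/-!
H10_CycTI: cyclic TI subgroups (Peterfalvi section 3).
-/

set_option autoImplicit false
set_option linter.style.haveILetI false
set_option linter.unusedSectionVars false

namespace Cfsg.Agent.H10.CycTI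

open Cfsg Cfsg.Agent.H3.CharIrr Cfsg.Agent.H3.CharComplete Cfsg.Agent.H3.CharInd
  Cfsg.Agent.H3.CharBasic Cfsg.Agent.H10.Char
open scoped ComplexConjugate

section Lin

variable {P : Type*} [Group P] [Fintype P]

theorem cc_irr (f : P →* ℂˣ) : IsIrrCharacter P (fun w => (f w : ℂ)) := isIrr_of_hom_units f

theorem cc_inj {f g : P →* ℂˣ} (h : (fun w => (f w : ℂ)) = fun w => (g w : ℂ)) : f = g := by
  ext w
  exact congrFun h w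

open Classical in
theorem cc_inner (f g : P →* ℂˣ) :
    classInner (fun w => (f w : ℂ)) (fun w => (g w : ℂ)) = if f = g then 1 else 0 := by
  by_cases h : f = g
  · rw [h, if_pos rfl, ci_irr_self (cc_irr g)]
  · rw [if_neg h, ci_irr_ne (cc_irr f) (cc_irr g) (fun h' => h (cc_inj h'))]

theorem cc_conj (f : P →* ℂˣ) (w : P) : conj ((f w : ℂˣ) : ℂ) = ((f w⁻¹ : ℂˣ) : ℂ) :=
  (IsChar.inv_eq_conj (IsIrr.isCharacter (cc_irr f)) w).symm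

theorem cc_conj' (f : P →* ℂˣ) (w : P) : conj ((f w⁻¹ : ℂˣ) : ℂ) = ((f w : ℂˣ) : ℂ) := by
  rw [cc_conj, inv_inv]

instance finite_hom (P : Type*) [Group P] [Finite P] : Finite (P →* ℂˣ) := by
  haveI := Fintype.ofFinite P
  refine Finite.of_injective (fun f : P →* ℂˣ => (⟨fun w => (f w : ℂ), cc_irr f⟩ : IrrCharacter P)) ?_
  intro f g h
  exact cc_inj (congrArg Subtype.val h)

open Classical in
theorem col_hom (hab : ∀ a b : P, a * b = b * a) [Fintype (P →* ℂˣ)] (g : P) :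
    ∑ f : P →* ℂˣ, (f g : ℂ) = if g = 1 then (Nat.card P : ℂ) else 0 := by
  haveI : Fintype (IrrCharacter P) := Fintype.ofFinite _
  rw [← Cfsg.Agent.H10.AbChar.col_one hab g]
  refine Finset.sum_bij (fun f _ => (⟨fun w => (f w : ℂ), cc_irr f⟩ : IrrCharacter P)) ?_ ?_ ?_ ?_
  · intro f _; exact Finset.mem_univ _
  · intro f _ g _ h; exact cc_inj (congrArg Subtype.val h)
  · intro l _
    have h1 := Cfsg.Agent.H10.AbChar.lin_one hab l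
    obtain ⟨f, hf⟩ := Cfsg.Agent.H3.CharInd.IsChar.hom_units_of_one (IsIrr.isCharacter l.2) h1
    exact ⟨f, Finset.mem_univ _, Subtype.ext (funext fun w => (hf w).symm)⟩
  · intro f _; rfl

theorem card_hom (hab : ∀ a b : P, a * b = b * a) : Nat.card (P →* ℂˣ) = Nat.card P := by
  classical
  haveI := Fintype.ofFinite (P →* ℂˣ)
  have h := col_hom hab (1 : P)
  rw [if_pos rfl] at h
  simp only [map_one, Units.val_one, Finset.sum_const, Finset.card_univ, nsmul_eq_mul, mul_one] at h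
  rw [Nat.card_eq_fintype_card]
  exact_mod_cast h

end Lin

section Two

variable {G : Type*} [Group G] {W₁ W₂ : Subgroup G}

/-- projection to the first factor -/
theorem exists_p (hdisj : W₁ ⊓ W₂ = ⊥) (hcomm : ∀ a ∈ W₁, ∀ b ∈ W₂, a * b = b * a) :
    ∃ p₁ p₂ : ↥(W₁ ⊔ W₂) →* ↥(W₁ ⊔ W₂), (∀ w, ((p₁ w : ↥(W₁ ⊔ W₂)) : G) ∈ W₁) ∧
      (∀ w, ((p₂ w : ↥(W₁ ⊔ W₂)) : G) ∈ W₂) ∧ (∀ w, w = p₁ w * p₂ w) ∧
      (∀ w : ↥(W₁ ⊔ W₂), (w : G) ∈ W₁ → p₁ w = w ∧ p₂ w = 1) ∧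
      (∀ w : ↥(W₁ ⊔ W₂), (w : G) ∈ W₂ → p₂ w = w ∧ p₁ w = 1) := by
  obtain ⟨φ₂, h2⟩ := Cfsg.Agent.H10.Dade2.exists_proj (H := W₁) (K := W₂) (fun k hk h hh => by
    rw [← hcomm h hh k hk]; simpa using hh) (fun x h1 h2 => by
    have : x ∈ W₁ ⊓ W₂ := ⟨h1, h2⟩
    rw [hdisj] at this; exact this)
  have hcomm' : ∀ w w' : ↥(W₁ ⊔ W₂), (w : G) ∈ W₁ → (w' : G) ∈ W₂ → w * w' = w' * w := by
    intro w w' h h'
    exact Subtype.ext (hcomm _ h _ h')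
  let p₂ : ↥(W₁ ⊔ W₂) →* ↥(W₁ ⊔ W₂) := (Subgroup.inclusion (le_sup_right : W₂ ≤ W₁ ⊔ W₂)).comp φ₂
  have hp2 : ∀ w, ((p₂ w : ↥(W₁ ⊔ W₂)) : G) ∈ W₂ := fun w => (φ₂ w).2
  have hp1' : ∀ w, ((w * (p₂ w)⁻¹ : ↥(W₁ ⊔ W₂)) : G) ∈ W₁ := fun w => h2 w
  let p₁ : ↥(W₁ ⊔ W₂) →* ↥(W₁ ⊔ W₂) := MonoidHom.mk' (fun w => w * (p₂ w)⁻¹) (fun a b => by
    rw [map_mul, mul_inv_rev]
    have e1 := hcomm' _ _ (hp1' b) (hp2 a)
    have : a * b * ((p₂ b)⁻¹ * (p₂ a)⁻¹) = a * ((b * (p₂ b)⁻¹) * (p₂ a)⁻¹) := by group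
    rw [this]
    have e2 : (b * (p₂ b)⁻¹) * (p₂ a)⁻¹ = (p₂ a)⁻¹ * (b * (p₂ b)⁻¹) := by
      apply hcomm' _ _ (hp1' b)
      exact W₂.inv_mem (hp2 a)
    rw [e2]; group)
  have hp1 : ∀ w, ((p₁ w : ↥(W₁ ⊔ W₂)) : G) ∈ W₁ := hp1'
  have hw : ∀ w, w = p₁ w * p₂ w := by
    intro w
    show w = w * (p₂ w)⁻¹ * p₂ w
    group
  have hbot : ∀ w : ↥(W₁ ⊔ W₂), (w : G) ∈ W₁ → (w : G) ∈ W₂ → w = 1 := by
    intro w h1 h2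
    have : (w : G) ∈ W₁ ⊓ W₂ := ⟨h1, h2⟩
    rw [hdisj, Subgroup.mem_bot] at this
    exact Subtype.ext this
  refine ⟨p₁, p₂, hp1, hp2, hw, fun w h => ?_, fun w h => ?_⟩
  · have h3 : p₂ w = 1 := by
      apply hbot _ _ (hp2 w)
      have h4 := W₁.mul_mem (W₁.inv_mem (hp1 w)) h
      have h5 : (p₁ w)⁻¹ * w = p₂ w := by
        rw [inv_mul_eq_iff_eq_mul]; exact hw w
      have h6 : ((p₁ w : G))⁻¹ * (w : G) = (p₂ w : G) := congrArg Subtype.val h5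
      rwa [h6] at h4
    refine ⟨?_, h3⟩
    have := hw w
    rw [h3, mul_one] at this
    exact this.symm
  · have h3 : p₁ w = 1 := by
      apply hbot _ (hp1 w)
      have h4 := W₂.mul_mem h (W₂.inv_mem (hp2 w))
      exact h4
    refine ⟨?_, h3⟩
    have := hw w
    rw [h3, one_mul] at this
    exact this.symm

/-- `(1 - φ)(1 - ψ)` -/
def al (φ ψ : ↥(W₁ ⊔ W₂) →* ℂˣ) : ↥(W₁ ⊔ W₂) → ℂ :=
  fun w => 1 - (φ w : ℂ) - (ψ w : ℂ) + (φ w : ℂ) * (ψ w : ℂ)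

/-- characters trivial on `W₂` -/
def X1 (W₁ W₂ : Subgroup G) (φ : ↥(W₁ ⊔ W₂) →* ℂˣ) : Prop := ∀ w : ↥(W₁ ⊔ W₂), (w : G) ∈ W₂ → φ w = 1

/-- characters trivial on `W₁` -/
def X2 (W₁ W₂ : Subgroup G) (φ : ↥(W₁ ⊔ W₂) →* ℂˣ) : Prop := ∀ w : ↥(W₁ ⊔ W₂), (w : G) ∈ W₁ → φ w = 1

theorem al_eq_mul (φ ψ : ↥(W₁ ⊔ W₂) →* ℂˣ) (w : ↥(W₁ ⊔ W₂)) :
    al φ ψ w = (1 - (φ w : ℂ)) * (1 - (ψ w : ℂ)) := by rw [al]; ring

theorem al_zero {φ ψ : ↥(W₁ ⊔ W₂) →* ℂˣ} (hφ : X1 W₁ W₂ φ) (hψ : X2 W₁ W₂ ψ) (w : ↥(W₁ ⊔ W₂))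
    (hw : (w : G) ∈ W₁ ∨ (w : G) ∈ W₂) : al φ ψ w = 0 := by
  rw [al_eq_mul]
  rcases hw with h | h
  · rw [hψ w h]; simp
  · rw [hφ w h]; simp

/-- X1 ∩ X2 is trivial -/
theorem eq_one_of_X {φ : ↥(W₁ ⊔ W₂) →* ℂˣ} (h1 : X1 W₁ W₂ φ) (h2 : X2 W₁ W₂ φ)
    (hdisj : W₁ ⊓ W₂ = ⊥) (hcomm : ∀ a ∈ W₁, ∀ b ∈ W₂, a * b = b * a) : φ = 1 := by
  obtain ⟨p₁, p₂, hp1, hp2, hw, -, -⟩ := exists_p hdisj hcomm
  ext w
  rw [hw w, map_mul, h2 _ (hp1 w), h1 _ (hp2 w)]; simp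

/-- uniqueness of the decomposition of characters -/
theorem X_inj {φ φ' ψ ψ' : ↥(W₁ ⊔ W₂) →* ℂˣ} (h1 : X1 W₁ W₂ φ) (h1' : X1 W₁ W₂ φ') (h2 : X2 W₁ W₂ ψ)
    (h2' : X2 W₁ W₂ ψ') (hdisj : W₁ ⊓ W₂ = ⊥) (hcomm : ∀ a ∈ W₁, ∀ b ∈ W₂, a * b = b * a)
    (h : φ * ψ = φ' * ψ') : φ = φ' ∧ ψ = ψ' := by
  obtain ⟨p₁, p₂, hp1, hp2, hw, -, -⟩ := exists_p hdisj hcomm
  have h3 : ∀ w, φ w * ψ w = φ' w * ψ' w := fun w => DFunLike.congr_fun h w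
  constructor
  · apply MonoidHom.ext
    intro w
    have h4 := h3 (p₁ w)
    rw [h2 _ (hp1 w), h2' _ (hp1 w), mul_one, mul_one] at h4
    rw [hw w, map_mul, map_mul, h1 _ (hp2 w), h1' _ (hp2 w), h4]
  · apply MonoidHom.ext
    intro w
    have h4 := h3 (p₂ w)
    rw [h1 _ (hp2 w), h1' _ (hp2 w), one_mul, one_mul] at h4
    rw [hw w, map_mul, map_mul, h2 _ (hp1 w), h2' _ (hp1 w), h4]

/-- every character decomposes -/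
theorem exists_decomp (ω : ↥(W₁ ⊔ W₂) →* ℂˣ) (hdisj : W₁ ⊓ W₂ = ⊥) (hcomm : ∀ a ∈ W₁, ∀ b ∈ W₂, a * b = b * a) :
    ∃ φ ψ : ↥(W₁ ⊔ W₂) →* ℂˣ, X1 W₁ W₂ φ ∧ X2 W₁ W₂ ψ ∧ ω = φ * ψ := by
  obtain ⟨p₁, p₂, hp1, hp2, hw, h1, h2⟩ := exists_p hdisj hcomm
  refine ⟨ω.comp p₁, ω.comp p₂, fun w h => ?_, fun w h => ?_, ?_⟩
  · rw [MonoidHom.comp_apply, (h2 w h).2, map_one]
  · rw [MonoidHom.comp_apply, (h1 w h).2, map_one]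
  · ext w
    rw [MonoidHom.mul_apply, MonoidHom.comp_apply, MonoidHom.comp_apply, ← map_mul, ← hw w]

variable [Fintype G]

theorem al_gen [Fintype ↥(W₁ ⊔ W₂)] (φ ψ : ↥(W₁ ⊔ W₂) →* ℂˣ) : IsGeneralizedCharacter ↥(W₁ ⊔ W₂) (al φ ψ) := by
  have h : al φ ψ = ((fun _ => 1) - (fun w => (φ w : ℂ)) - (fun w => (ψ w : ℂ)) + (fun w => ((φ * ψ) w : ℂ)) : ↥(W₁ ⊔ W₂) → ℂ) := by
    funext w
    simp [al]
  rw [h]
  exact IsGen.add (IsGen.sub (IsGen.sub (IsGen.of_irr isIrr_one) (IsGen.of_irr (cc_irr φ))) (IsGen.of_irr (cc_irr ψ)))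
    (IsGen.of_irr (cc_irr _))

/-- recovering the values off `W₁ ∪ W₂` -/
theorem value_formula [Fintype ↥(W₁ ⊔ W₂)] (hab : ∀ a b : ↥(W₁ ⊔ W₂), a * b = b * a) (hdisj : W₁ ⊓ W₂ = ⊥)
    (hcomm : ∀ a ∈ W₁, ∀ b ∈ W₂, a * b = b * a) (h : ↥(W₁ ⊔ W₂) → ℂ)
    (hh : ∀ φ ψ : ↥(W₁ ⊔ W₂) →* ℂˣ, X1 W₁ W₂ φ → X2 W₁ W₂ ψ → classInner h (al φ ψ) = 0)
    (v : ↥(W₁ ⊔ W₂)) (hv1 : (v : G) ∉ W₁) (hv2 : (v : G) ∉ W₂) : h v = 0 := by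
  classical
  haveI := Fintype.ofFinite (↥(W₁ ⊔ W₂) →* ℂˣ)
  obtain ⟨p₁, p₂, hp1, hp2, hw, h1, h2⟩ := exists_p hdisj hcomm
  have key : ∀ w, ∑ ω : ↥(W₁ ⊔ W₂) →* ℂˣ, ((ω v⁻¹ : ℂˣ) : ℂ) * al (ω.comp p₁) (ω.comp p₂) w =
      if v = w then (Nat.card ↥(W₁ ⊔ W₂) : ℂ) else 0 := by
    intro w
    have e : ∀ ω : ↥(W₁ ⊔ W₂) →* ℂˣ, ((ω v⁻¹ : ℂˣ) : ℂ) * al (ω.comp p₁) (ω.comp p₂) w =
        ((ω v⁻¹ : ℂˣ) : ℂ) - ((ω (v⁻¹ * p₁ w) : ℂˣ) : ℂ) - ((ω (v⁻¹ * p₂ w) : ℂˣ) : ℂ) + ((ω (v⁻¹ * w) : ℂˣ) : ℂ) := by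
      intro ω
      conv_rhs => rw [hw w]
      rw [al]
      simp only [MonoidHom.comp_apply, map_mul, Units.val_mul]
      have e1 : p₁ (p₁ w) = p₁ w := (h1 _ (hp1 w)).1
      have e2 : p₁ (p₂ w) = 1 := (h2 _ (hp2 w)).2
      have e3 : p₂ (p₁ w) = 1 := (h1 _ (hp1 w)).2
      have e4 : p₂ (p₂ w) = p₂ w := (h2 _ (hp2 w)).1
      rw [e1, e2, e3, e4]
      simp only [map_one, Units.val_one, mul_one, one_mul]
      ring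
    rw [Finset.sum_congr rfl fun ω _ => e ω, Finset.sum_add_distrib, Finset.sum_sub_distrib, Finset.sum_sub_distrib,
      col_hom hab, col_hom hab, col_hom hab, col_hom hab]
    have hv : v⁻¹ ≠ 1 := by
      intro hc
      apply hv1
      rw [inv_eq_one.1 hc]; exact W₁.one_mem
    have hv3 : v⁻¹ * p₁ w ≠ 1 := by
      intro hc
      apply hv1
      rw [inv_mul_eq_one.1 hc]; exact hp1 w
    have hv4 : v⁻¹ * p₂ w ≠ 1 := by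
      intro hc
      apply hv2
      rw [inv_mul_eq_one.1 hc]; exact hp2 w
    rw [if_neg hv, if_neg hv3, if_neg hv4]
    simp only [inv_mul_eq_one]
    split_ifs <;> ring
  have h3 : ∀ ω : ↥(W₁ ⊔ W₂) →* ℂˣ, classInner h (al (ω.comp p₁) (ω.comp p₂)) = 0 := by
    intro ω
    apply hh
    · intro w hw; rw [MonoidHom.comp_apply, (h2 w hw).2, map_one]
    · intro w hw; rw [MonoidHom.comp_apply, (h1 w hw).2, map_one]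
  have h4 : classInner h (∑ ω : ↥(W₁ ⊔ W₂) →* ℂˣ, ((ω v⁻¹ : ℂˣ) : ℂ) • al (ω.comp p₁) (ω.comp p₂)) = 0 := by
    rw [ci_sum_right]
    apply Finset.sum_eq_zero
    intro ω _
    rw [ci_smul_right, h3, mul_zero]
  have h5 : (∑ ω : ↥(W₁ ⊔ W₂) →* ℂˣ, ((ω v⁻¹ : ℂˣ) : ℂ) • al (ω.comp p₁) (ω.comp p₂)) =
      fun w => if v = w then (Nat.card ↥(W₁ ⊔ W₂) : ℂ) else 0 := by
    funext w
    rw [← key w, Finset.sum_apply]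
    rfl
  rw [h5, classInner] at h4
  have h6 : (Nat.card ↥(W₁ ⊔ W₂) : ℂ) ≠ 0 := Nat.cast_ne_zero.2 Nat.card_pos.ne'
  rcases mul_eq_zero.1 h4 with h7 | h7
  · exact absurd h7 (inv_ne_zero h6)
  · rw [Finset.sum_eq_single v] at h7
    · rw [if_pos rfl] at h7
      rcases mul_eq_zero.1 h7 with h8 | h8
      · exact h8
      · simp at h8
    · intro w _ hw
      rw [if_neg (Ne.symm hw), map_zero, mul_zero]
    · intro hc; exact absurd (Finset.mem_univ _) hc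

end Two

end Cfsg.Agent.H10.CycTI
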