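import Mathlib
import Cfsg.Prelude.Def_Characters
import Cfsg.Agent.H3_Clifford
import Cfsg.Agent.H3_Clifford2

/-!
H10_OOClif: Clifford theory statements for the odd order section.
-/

set_option autoImplicit false
set_option linter.unusedSectionVars false

namespace Cfsg.Agent.H10.OOClif

open Cfsg Cfsg.Agent.H3.CharBasic Cfsg.Agent.H3.CharIrr Cfsg.Agent.H3.CharComplete
  Cfsg.Agent.H3.CharMult Cfsg.Agent.H3.CharInd Cfsg.Agent.H3.CharInt Cfsg.Agent.H3.Clifford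

variable {G : Type*} [Group G] {N : Subgroup G} (hN : N.Normal) [Fintype G]

theorem card_fiber (θ : N → ℂ) {ψ : N → ℂ} (hψ : ψ ∈ orb hN θ) [DecidableEq (N → ℂ)] :
    (Finset.univ.filter (fun g : G => cj hN g θ = ψ)).card = Nat.card (inertia hN θ) := by
  obtain ⟨g₀, rfl⟩ := (mem_orb hN θ ψ).mp hψ
  classical
  rw [Nat.card_eq_fintype_card, ← Finset.card_univ]
  refine Finset.card_bij' (fun g hg => (⟨g * g₀⁻¹, ?_⟩ : inertia hN θ))
    (fun x _ => x * g₀) ?_ ?_ ?_ ?_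
  · simp only [Finset.mem_filter, Finset.mem_univ, true_and] at hg
    rw [mem_inertia, ← cj_cj, hg, cj_cj, mul_inv_cancel, cj_one]
  · intro _ _; exact Finset.mem_univ _
  · intro x _
    simp only [Finset.mem_filter, Finset.mem_univ, true_and]
    rw [← cj_cj, (mem_inertia hN θ _).mp x.2]
  · intro x _; simp
  · intro x _; ext; simp

theorem sum_cj (θ : N → ℂ) : ∑ x : G, cj hN x θ = (Nat.card (inertia hN θ) : ℂ) • ∑ ψ ∈ orb hN θ, ψ := by
  classical
  rw [← Finset.sum_fiberwise_of_maps_to (s := Finset.univ) (t := orb hN θ) (g := fun x => cj hN x θ)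
    (fun x _ => (mem_orb hN θ _).2 ⟨x, rfl⟩), Finset.smul_sum]
  refine Finset.sum_congr rfl fun ψ hψ => ?_
  rw [Finset.sum_congr rfl (g := fun _ => ψ) (fun x hx => (Finset.mem_filter.1 hx).2), Finset.sum_const,
    card_fiber hN θ hψ, Nat.cast_smul_eq_nsmul]

theorem card_inertia (θ : N → ℂ) :
    Nat.card {g : G // ∀ h : N, θ ⟨g * h * g⁻¹, hN.conj_mem h h.2 g⟩ = θ h} = Nat.card (inertia hN θ) := by
  apply Nat.card_congr
  apply Equiv.subtypeEquivRight
  intro g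
  rw [mem_inertia]
  exact ⟨fun h => funext h, fun h n => congrFun h n⟩

theorem res_ind (θ : N → ℂ) : (fun h : N => indFun N θ h) =
    ((Nat.card (inertia hN θ) : ℂ) / (Nat.card N : ℂ)) • ∑ ψ ∈ orb hN θ, ψ := by
  rw [ind_res_eq hN, sum_cj hN, smul_smul]
  congr 1
  field_simp

theorem ind_cj (θ : N → ℂ) (g : G) : indFun N (cj hN g θ) = indFun N θ := by
  funext x
  by_cases hx : x ∈ N
  · have h1 := ind_res hN θ ⟨x, hx⟩
    have h2 := ind_res hN (cj hN g θ) ⟨x, hx⟩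
    simp only at h1 h2
    rw [h1, h2]
    congr 1
    rw [← Equiv.sum_comp (Equiv.mulLeft g) (fun y => cj hN y θ ⟨x, hx⟩)]
    refine Finset.sum_congr rfl fun y _ => ?_
    rw [cj_cj]; rfl
  · rw [ind_of_not_mem hN _ hx, ind_of_not_mem hN _ hx]

theorem ind_orth [Fintype N] {θ φ : N → ℂ} (hθ : IsIrrCharacter N θ) (hφ : IsIrrCharacter N φ)
    (h : ¬ ∃ g : G, φ = cj hN g θ) : classInner (indFun N φ) (indFun N θ) = 0 := by
  have h1 := ci_ind_ind hN φ θ
  have h2 : ∑ x : G, classInner φ (cj hN x θ) = 0 := Finset.sum_eq_zero fun x _ =>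
    ci_irr_ne hφ ((cj_isIrr hN x).2 hθ) (fun h' => h ⟨x, h'⟩)
  rw [h2] at h1
  exact (mul_eq_zero.1 h1).resolve_left (cardH_ne_zero N)

include hN in
/-- kernels of induced characters -/
theorem ker_ind {A : Subgroup G} (hA : A.Normal) (hAH : A ≤ N) {θ : N → ℂ} (hθ : IsCharacter N θ)
    (h1 : θ 1 ≠ 0) :
    (∀ a : N, (a : G) ∈ A → θ a = θ 1) ↔ (∀ a : G, a ∈ A → indFun N θ a = indFun N θ 1) := by
  have hNc : (Nat.card N : ℂ) ≠ 0 := cardH_ne_zero N
  constructor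
  · intro h a ha
    have e1 := ind_res hN θ ⟨a, hAH ha⟩
    simp only at e1
    rw [e1, ind_one, Finset.sum_congr rfl (g := fun _ => θ 1) (fun x _ => by
      rw [cj_apply]; exact h _ (hA.conj_mem _ ha x)), Finset.sum_const, Finset.card_univ,
      ← Nat.card_eq_fintype_card, nsmul_eq_mul, ← Subgroup.index_mul_card N, Nat.cast_mul]
    field_simp
  · intro h a ha
    -- all terms have norm at most θ 1
    obtain ⟨n, hn⟩ := IsChar.one_eq_nat hθ
    have e1 := ind_res hN θ a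
    rw [h a ha, ind_one] at e1
    have e2 : ∑ x : G, cj hN x θ a = (Nat.card G : ℂ) * θ 1 := by
      have : (N.index : ℂ) * θ 1 * Nat.card N = ∑ x : G, cj hN x θ a := by
        rw [e1]; field_simp
      rw [← this, ← Subgroup.index_mul_card N, Nat.cast_mul]; ring
    have e3 : ∑ x : G, (θ 1 - cj hN x θ a) = 0 := by
      rw [Finset.sum_sub_distrib, e2, Finset.sum_const, Finset.card_univ, ← Nat.card_eq_fintype_card, nsmul_eq_mul,
        sub_self]
    have e4 : ∑ x : G, (θ 1 - cj hN x θ a).re = 0 := by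
      rw [← Complex.re_sum, e3]; rfl
    have hle : ∀ x : G, ‖cj hN x θ a‖ ≤ n := by
      intro x
      have := IsChar.norm_le hθ ⟨x * a * x⁻¹, hN.conj_mem a a.2 x⟩
      rw [hn] at this
      simpa [cj_apply] using this
    have e5 : ∀ x ∈ (Finset.univ : Finset G), 0 ≤ (θ 1 - cj hN x θ a).re := by
      intro x _
      rw [Complex.sub_re, hn, Complex.natCast_re]
      have := (Complex.re_le_norm (cj hN x θ a)).trans (hle x)
      linarith
    have e6 := (Finset.sum_eq_zero_iff_of_nonneg e5).1 e4 1 (Finset.mem_univ _)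
    rw [cj_one, Complex.sub_re, hn, Complex.natCast_re] at e6
    have e7 : (θ a).re = n := by linarith
    have e8 := hle 1
    rw [cj_one] at e8
    have e9 : (θ a).im = 0 := by
      have h3 := Complex.sq_norm (θ a)
      have h4 : ‖θ a‖ ^ 2 ≤ (n:ℝ) ^ 2 := by
        apply pow_le_pow_left₀ (norm_nonneg _) e8
      rw [h3, Complex.normSq_apply, e7] at h4
      have : (θ a).im * (θ a).im ≤ 0 := by nlinarith
      have h5 := mul_self_nonneg (θ a).im
      have h6 : (θ a).im * (θ a).im = 0 := le_antisymm this h5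
      exact mul_self_eq_zero.1 h6
    rw [hn]
    apply Complex.ext
    · rw [e7, Complex.natCast_re]
    · rw [e9, Complex.natCast_im]

/-- uniqueness in the Clifford correspondence -/
theorem corr_unique [Fintype N] {χ : G → ℂ} (hχ : IsIrrCharacter G χ) {θ : N → ℂ}
    (hθ : IsIrrCharacter N θ) (T : Subgroup G) [Fintype T] (hT : T = inertia hN θ) (hNT : N ≤ T)
    {ψ : T → ℂ} (hψ : IsIrrCharacter T ψ) (h1 : classInner (fun m : T => χ m) ψ ≠ 0)
    (h2 : classInner (fun n : N => ψ ⟨(n : G), hNT n.2⟩) θ ≠ 0) :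
    indFun T ψ = χ ∧ classInner (fun n : N => ψ ⟨(n : G), hNT n.2⟩) θ = classInner (fun n : N => χ n) θ ∧
      ∀ ψ' : T → ℂ, IsIrrCharacter T ψ' → classInner (fun m : T => χ m) ψ' ≠ 0 →
        classInner (fun n : N => ψ' ⟨(n : G), hNT n.2⟩) θ ≠ 0 → ψ' = ψ := by
  classical
  haveI := Fintype.ofFinite (IrrCharacter T)
  obtain ⟨n, hn, hsum⟩ := IsChar.eq_sum_nat (IsChar.res (IsIrr.isCharacter hχ) T)
  have hres : (fun m : N => χ m) = ∑ φ : IrrCharacter T, (n φ : ℂ) •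
      (fun m : N => (φ : T → ℂ) ⟨(m : G), hNT m.2⟩) := by
    ext m
    have := congrFun hsum ⟨(m : G), hNT m.2⟩
    simpa using this
  choose k hk using fun φ : IrrCharacter T => ci_char_nat
    (IsChar.comp (IsIrr.isCharacter φ.2) (Subgroup.inclusion hNT)) (IsIrr.isCharacter hθ)
  have h3 : ∀ φ : IrrCharacter T,
      classInner (fun m : N => (φ : T → ℂ) ⟨(m : G), hNT m.2⟩) θ = k φ := fun φ => hk φ
  have h4 : classInner (fun m : N => χ m) θ = ((∑ φ : IrrCharacter T, n φ * k φ : ℕ) : ℂ) := by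
    rw [hres, ci_sum_left]
    push_cast
    exact Finset.sum_congr rfl fun φ _ => by rw [ci_smul_left, h3]
  -- the total is non-zero
  have hn0 : ∀ φ : IrrCharacter T, classInner (fun m : T => χ m) (φ : T → ℂ) ≠ 0 → 0 < n φ := by
    intro φ h
    rw [hn φ] at h
    exact Nat.pos_of_ne_zero fun h0 => h (by rw [h0]; simp)
  have hk0 : ∀ φ : IrrCharacter T, classInner (fun m : N => (φ : T → ℂ) ⟨(m : G), hNT m.2⟩) θ ≠ 0 → 0 < k φ := by
    intro φ h
    rw [h3 φ] at h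
    exact Nat.pos_of_ne_zero fun h0 => h (by rw [h0]; simp)
  have hχθ : classInner (fun m : N => χ m) θ ≠ 0 := by
    rw [h4]
    intro h0
    have h5 : (∑ φ : IrrCharacter T, n φ * k φ : ℕ) = 0 := by exact_mod_cast h0
    have h6 := (Finset.sum_eq_zero_iff.1 h5) ⟨ψ, hψ⟩ (Finset.mem_univ _)
    have h7 := Nat.mul_pos (hn0 ⟨ψ, hψ⟩ h1) (hk0 ⟨ψ, hψ⟩ h2)
    omega
  obtain ⟨ψ₀, hψ₀, hind, he⟩ := H3.Clifford.clifford_corr hN hχ hθ hχθ T hT hNT
  have key : ∀ φ : IrrCharacter T, 0 < n φ → 0 < k φ → φ = ⟨ψ₀, hψ₀⟩ := by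
    intro φ h5 h6
    by_contra hne
    have h7 : n ⟨ψ₀, hψ₀⟩ = 1 := by
      have h8 : classInner (fun m : T => χ m) ψ₀ = 1 := by
        rw [← frobenius' T ψ₀ χ (IsIrr.isClass hχ), hind, ci_irr_self hχ]
      have h9 := hn ⟨ψ₀, hψ₀⟩
      rw [h8] at h9
      exact_mod_cast h9.symm
    have h10 : k ⟨ψ₀, hψ₀⟩ = ∑ φ : IrrCharacter T, n φ * k φ := by
      have h11 := h3 ⟨ψ₀, hψ₀⟩
      rw [he, h4] at h11
      exact_mod_cast h11.symm
    have h12 : n ⟨ψ₀, hψ₀⟩ * k ⟨ψ₀, hψ₀⟩ + n φ * k φ ≤ ∑ φ : IrrCharacter T, n φ * k φ := by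
      rw [← Finset.sum_pair (f := fun φ => n φ * k φ) (Ne.symm hne)]
      exact Finset.sum_le_sum_of_subset (Finset.subset_univ _)
    rw [h7, one_mul] at h12
    have := Nat.mul_pos h5 h6
    omega
  have h13 := key ⟨ψ, hψ⟩ (hn0 _ h1) (hk0 _ h2)
  have h14 : ψ = ψ₀ := congrArg Subtype.val h13
  subst h14
  refine ⟨hind, he, fun ψ' hψ' h5 h6 => ?_⟩
  exact congrArg Subtype.val (key ⟨ψ', hψ'⟩ (hn0 _ h5) (hk0 _ h6))

theorem corr_full [Fintype N] {θ : N → ℂ}
    (hθ : IsIrrCharacter N θ) (T : Subgroup G) [Fintype T] (hT : T = inertia hN θ) (hNT : N ≤ T)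
    {ψ : T → ℂ} (hψ : IsIrrCharacter T ψ)
    (h2 : classInner (fun n : N => ψ ⟨(n : G), hNT n.2⟩) θ ≠ 0) :
    IsIrrCharacter G (indFun T ψ) ∧ ∀ ψ' : T → ℂ, IsIrrCharacter T ψ' →
        classInner (fun n : N => ψ' ⟨(n : G), hNT n.2⟩) θ ≠ 0 → indFun T ψ = indFun T ψ' → ψ = ψ' := by
  obtain ⟨χ, hχ, h3⟩ := exists_constituent_ind hψ
  have h1 : classInner (fun m : T => χ m) ψ ≠ 0 := by
    rwa [constituent_ind_iff (IsIrr.isCharacter hχ)] at h3
  obtain ⟨h4, h5, h6⟩ := corr_unique hN hχ hθ T hT hNT hψ h1 h2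
  refine ⟨by rw [h4]; exact hχ, fun ψ' hψ' h7 h8 => ?_⟩
  refine (h6 ψ' hψ' ?_ h7).symm
  rw [← constituent_ind_iff (IsIrr.isCharacter hχ), ← h8, h4, ci_irr_self hχ]
  exact one_ne_zero

end Cfsg.Agent.H10.OOClif
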