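import Mathlib
import Cfsg.Prelude.Def_OddOrderChar
import Cfsg.Agent.H3_Clifford
import Cfsg.Agent.H3_CharQuot
import Cfsg.Agent.H10_OOClif
import Cfsg.Agent.H10_CycTI
import Cfsg.Agent.H10_Coh4

/-!
H10_IndSet: sets of characters induced from a normal subgroup.
-/

set_option autoImplicit false
set_option linter.style.haveILetI false
set_option linter.unusedSectionVars false

namespace Cfsg.Agent.H10.IndSet

open Cfsg Cfsg.Agent.H3.CharBasic Cfsg.Agent.H3.CharIrr Cfsg.Agent.H3.CharComplete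
  Cfsg.Agent.H3.CharMult Cfsg.Agent.H3.CharInd Cfsg.Agent.H3.CharInt Cfsg.Agent.H3.Clifford Cfsg.Agent.H3.CharQuot
  Cfsg.Agent.H10.OOClif
open scoped ComplexConjugate

section One

variable {K : Type*} [Group K] [Fintype K]

/-- constituents inherit the kernel -/
theorem ker_const {χ ψ : K → ℂ} (h : IsCharacter K χ) (hψ : IsIrrCharacter K ψ) (hne : classInner χ ψ ≠ 0)
    {b : K} (hb : χ b = χ 1) : ψ b = ψ 1 := by
  obtain ⟨n, hn⟩ := ci_char_nat h (IsIrr.isCharacter hψ)
  have hn1 : 1 ≤ n := by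
    rcases Nat.eq_zero_or_pos n with h0 | h0
    · rw [h0] at hn; exact absurd (by rw [hn]; simp) hne
    · exact h0
  have hr := IsChar.sub_constituent h hψ hn hn1
  rw [Nat.cast_one, one_smul] at hr
  have h1 := IsChar.norm_le (IsIrr.isCharacter hψ) b
  have h2 := IsChar.norm_le hr b
  obtain ⟨m, hm, em⟩ := IsIrr.one_eq_nat hψ
  have h3 := Complex.re_le_norm (ψ b)
  have h4 := Complex.re_le_norm ((χ - ψ) b)
  rw [Pi.sub_apply, hb] at h4 h2
  simp only [Complex.sub_re, Pi.sub_apply] at h4 h2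
  have h5 : (ψ b).re = (ψ 1).re := by linarith
  have h6 : ‖ψ b‖ = (ψ b).re := by linarith
  have h7 : (ψ b).im = 0 := by
    have := Complex.sq_norm (ψ b)
    rw [h6, Complex.normSq_apply] at this
    nlinarith
  apply Complex.ext h5
  rw [h7, em]; simp

theorem deg_bound {C D : Subgroup K} (hDC : D ≤ C) {θ : K → ℂ} (hθ : IsIrrCharacter K θ)
    (hcomm : ∀ x ∈ D, ∀ y ∈ C, θ (x * y * x⁻¹ * y⁻¹) = θ 1) :
    (θ 1).re ^ 2 ≤ (C.index : ℝ) ^ 2 * (D.relIndex C : ℝ) := by
  classical
  haveI := Fintype.ofFinite C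
  obtain ⟨η, hη, hne⟩ := exists_constituent_res (H := C) hθ
  have hres : IsCharacter C (fun c : C => θ c) := IsChar.res (IsIrr.isCharacter hθ) C
  -- degree of θ
  have hdeg : (θ 1).re ≤ C.index * (η 1).re := by
    have h1 : classInner (indFun C η) θ ≠ 0 := (constituent_ind_iff (IsIrr.isCharacter hθ)).2 hne
    obtain ⟨n, hn⟩ := ci_char_nat (IsChar.ind (IsIrr.isCharacter hη)) (IsIrr.isCharacter hθ)
    have hn1 : 1 ≤ n := by
      rcases Nat.eq_zero_or_pos n with h0 | h0
      · rw [h0] at hn; exact absurd (by rw [hn]; simp) h1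
      · exact h0
    have hr := IsChar.sub_constituent (IsChar.ind (IsIrr.isCharacter hη)) hθ hn hn1
    rw [Nat.cast_one, one_smul] at hr
    obtain ⟨m, hm⟩ := IsChar.one_eq_nat hr
    rw [Pi.sub_apply, ind_one] at hm
    have h2 := congrArg Complex.re hm
    rw [Complex.sub_re, Complex.natCast_re] at h2
    have h3 : ((C.index : ℂ) * η 1).re = C.index * (η 1).re := by
      rw [← Complex.ofReal_natCast, Complex.re_ofReal_mul]
    rw [h3] at h2
    have h4 : (0 : ℝ) ≤ m := by positivity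
    linarith
  -- η on D
  have hD : ∀ z : C, (z : K) ∈ D → ‖η z‖ = (η 1).re := by
    intro z hz
    have hk : ∀ y : C, η (z * y * z⁻¹ * y⁻¹) = η 1 := fun y => ker_const hres hη hne (hcomm z hz y y.2)
    obtain ⟨n, ρ, hρ, rfl⟩ := hη
    have hc : ∀ y : C, ρ z * ρ y = ρ y * ρ z := by
      intro y
      have h1 := (rep_eq_one_iff ρ _).2 (hk y)
      have h2 : ρ (z * y * z⁻¹ * y⁻¹) * (ρ y * ρ z) = ρ y * ρ z := by rw [h1, one_mul]
      rw [← map_mul, ← map_mul] at h2
      rw [← map_mul, ← map_mul, ← h2]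
      congr 1; group
    obtain ⟨c, hc'⟩ := schur ρ hρ (ρ z) (fun g v => by
      have := congrArg (fun f : Module.End ℂ (Fin n → ℂ) => f v) (hc g)
      exact this)
    have h3 := (norm_char_eq_iff ρ z).2 ⟨c, hc'⟩
    rw [Representation.char_one]
    simpa using h3
  -- sum over C
  have hnorm : ∑ g : C, ‖η g‖ ^ 2 = Nat.card C := by
    have h1 := ci_irr_self hη
    rw [classInner, inv_mul_eq_iff_eq_mul₀ (Nat.cast_ne_zero.2 Nat.card_pos.ne'), mul_one] at h1
    have h2 : ∀ g : C, η g * conj (η g) = ((‖η g‖ ^ 2 : ℝ) : ℂ) := by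
      intro g
      rw [Complex.mul_conj, Complex.normSq_eq_norm_sq]
    rw [Finset.sum_congr rfl fun g _ => h2 g, ← Complex.ofReal_sum] at h1
    exact_mod_cast h1
  have hle : (Nat.card D : ℝ) * (η 1).re ^ 2 ≤ Nat.card C := by
    rw [← hnorm]
    have h1 : ∑ g ∈ Finset.univ.filter (fun g : C => (g : K) ∈ D), ‖η g‖ ^ 2 ≤ ∑ g : C, ‖η g‖ ^ 2 :=
      Finset.sum_le_sum_of_subset_of_nonneg (Finset.filter_subset _ _) (fun _ _ _ => sq_nonneg _)
    refine le_trans (le_of_eq ?_) h1
    rw [Finset.sum_congr rfl (g := fun _ => (η 1).re ^ 2) (fun g hg => by rw [hD g (Finset.mem_filter.1 hg).2]),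
      Finset.sum_const, nsmul_eq_mul]
    congr 2
    rw [← Fintype.card_subtype, ← Nat.card_eq_fintype_card]
    exact Nat.card_congr ⟨fun x => ⟨⟨x.1, hDC x.2⟩, x.2⟩, fun x => ⟨x.1.1, x.2⟩, fun _ => rfl, fun _ => rfl⟩
  have hrel : (Nat.card C : ℝ) = D.relIndex C * Nat.card D := by
    rw [← Nat.cast_mul]
    congr 1
    have h1 := (D.subgroupOf C).index_mul_card
    rw [Nat.card_congr (Subgroup.subgroupOfEquivOfLe hDC).toEquiv] at h1
    exact h1.symm
  have hDpos : (0 : ℝ) < Nat.card D := by exact_mod_cast Nat.card_pos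
  have hη2 : (η 1).re ^ 2 ≤ D.relIndex C := by
    rw [hrel] at hle
    have : (Nat.card D : ℝ) * (η 1).re ^ 2 ≤ Nat.card D * D.relIndex C := by linarith
    exact le_of_mul_le_mul_left this hDpos
  have hθpos : 0 ≤ (θ 1).re := by
    obtain ⟨m, _, em⟩ := IsIrr.one_eq_nat hθ
    rw [em]; simp
  calc (θ 1).re ^ 2 ≤ (C.index * (η 1).re) ^ 2 := by gcongr
    _ = (C.index : ℝ) ^ 2 * (η 1).re ^ 2 := by ring
    _ ≤ _ := by gcongr

/-- a nontrivial linear character of a solvable group, trivial on a proper normal subgroup -/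
theorem exists_linear (hsolv : Group.IsSolvable K) {A : Subgroup K} [A.Normal] (hA : A ≠ ⊤) :
    ∃ f : K →* ℂˣ, f ≠ 1 ∧ ∀ a ∈ A, f a = 1 := by
  classical
  haveI : Nontrivial (K ⧸ A) := by
    rw [← not_subsingleton_iff_nontrivial]
    intro h
    apply hA
    rw [eq_top_iff]
    intro x _
    rw [← QuotientGroup.eq_one_iff]
    exact Subsingleton.elim _ _
  haveI : Group.IsSolvable (K ⧸ A) := solvable_of_surjective (QuotientGroup.mk'_surjective A)
  have hlt := IsSolvable.commutator_lt_top_of_nontrivial (K ⧸ A)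
  let Q := Abelianization (K ⧸ A)
  haveI : Finite Q := Quotient.finite _
  haveI : Fintype Q := Fintype.ofFinite _
  have hab : ∀ a b : Q, a * b = b * a := fun a b => mul_comm a b
  have hcard : 1 < Nat.card (Q →* ℂˣ) := by
    rw [Cfsg.Agent.H10.CycTI.card_hom hab, Nat.card_eq_fintype_card, Fintype.one_lt_card_iff_nontrivial]
    rw [← not_subsingleton_iff_nontrivial]
    intro h
    apply hlt.ne
    rw [eq_top_iff]
    intro x _
    rw [← QuotientGroup.eq_one_iff]
    exact h.elim _ _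
  haveI := Fintype.ofFinite (Q →* ℂˣ)
  rw [Nat.card_eq_fintype_card] at hcard
  obtain ⟨f, hf⟩ := Fintype.exists_ne_of_one_lt_card hcard 1
  refine ⟨f.comp ((Abelianization.of (G := K ⧸ A)).comp (QuotientGroup.mk' A)), ?_, ?_⟩
  · intro h
    apply hf
    apply MonoidHom.ext
    intro q
    obtain ⟨x, rfl⟩ := QuotientGroup.mk_surjective q
    obtain ⟨y, rfl⟩ := QuotientGroup.mk'_surjective _ x
    exact DFunLike.congr_fun h y
  · intro a ha
    rw [MonoidHom.comp_apply, MonoidHom.comp_apply]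
    have : QuotientGroup.mk' A a = 1 := (QuotientGroup.eq_one_iff a).2 ha
    rw [this, map_one, map_one]

end One

end Cfsg.Agent.H10.IndSet
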