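import Mathlib
import Cfsg.Agent.H10_IndSet
import Cfsg.Agent.H10_Coh5
import Cfsg.Agent.H10_Coh6

/-!
H10_IndSet2: sets of characters induced from a normal subgroup: sums and coherence propagation.
-/

set_option autoImplicit false
set_option linter.style.haveILetI false
set_option linter.unusedSectionVars false

namespace Cfsg.Agent.H10.IndSet2

open Cfsg Cfsg.Agent.H3.CharBasic Cfsg.Agent.H3.CharIrr Cfsg.Agent.H3.CharComplete
  Cfsg.Agent.H3.CharMult Cfsg.Agent.H3.CharInd Cfsg.Agent.H3.CharInt Cfsg.Agent.H3.Clifford Cfsg.Agent.H3.CharQuot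
  Cfsg.Agent.H10.OOClif Cfsg.Agent.H10.IndSet Cfsg.Agent.H10.Coh Cfsg.Agent.H10.Coh3 Cfsg.Agent.H10.Coh4
open scoped ComplexConjugate

section One

variable {K : Type*} [Group K] [Fintype K]

open Classical in
/-- sum of squares of degrees of the characters with `N` in the kernel -/
theorem sum_sq_ker [Fintype (IrrCharacter K)] (N : Subgroup K) [N.Normal] :
    ∑ ψ ∈ Finset.univ.filter (fun ψ : IrrCharacter K => ∀ n ∈ N, (ψ : K → ℂ) n = (ψ : K → ℂ) 1), (ψ : K → ℂ) 1 ^ 2 = (N.index : ℂ) := by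
  haveI : Fintype (K ⧸ N) := Fintype.ofFinite _
  haveI : Fintype (IrrCharacter (K ⧸ N)) := Fintype.ofFinite _
  have h2 := sum_sq (G := K ⧸ N)
  rw [Subgroup.index, ← h2]
  symm
  refine Finset.sum_bij (fun (ψ : IrrCharacter (K ⧸ N)) _ =>
    (⟨fun g => (ψ : K ⧸ N → ℂ) g, IsIrr.inflate ψ.2⟩ : IrrCharacter K)) ?_ ?_ ?_ ?_
  · intro ψ _
    simp only [Finset.mem_filter, Finset.mem_univ, true_and]
    intro n hn
    show (ψ : K ⧸ N → ℂ) (QuotientGroup.mk n) = (ψ : K ⧸ N → ℂ) (QuotientGroup.mk 1)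
    rw [(QuotientGroup.eq_one_iff n).2 hn]; rfl
  · intro ψ _ φ _ h
    apply Subtype.ext
    funext q
    obtain ⟨g, rfl⟩ := QuotientGroup.mk_surjective q
    exact congrFun (congrArg Subtype.val h) g
  · intro ψ hψ
    obtain ⟨χ', h1, h3⟩ := IsIrr.descend ψ.2 N (Finset.mem_filter.1 hψ).2
    exact ⟨⟨χ', h1⟩, Finset.mem_univ _, Subtype.ext (funext h3)⟩
  · intro ψ _; rfl

end One

section Ind

variable {L : Type*} [Group L] [Fintype L] {K : Subgroup L} [Fintype K] (hK : K.Normal)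

include hK in
theorem norm_ind {θ : K → ℂ} (hθ : IsIrrCharacter K θ) :
    classInner (indFun K θ) (indFun K θ) = (Nat.card (inertia hK θ) : ℂ) / Nat.card K := by
  have h1 := ci_ind_self hK hθ
  have h2 : (Nat.card K : ℂ) ≠ 0 := Nat.cast_ne_zero.2 Nat.card_pos.ne'
  rw [← h1]; field_simp

include hK in
theorem norm_ind_ne {θ : K → ℂ} (hθ : IsIrrCharacter K θ) :
    classInner (indFun K θ) (indFun K θ) ≠ 0 := by
  rw [norm_ind hK hθ]
  exact div_ne_zero (Nat.cast_ne_zero.2 Nat.card_pos.ne') (Nat.cast_ne_zero.2 Nat.card_pos.ne')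

include hK in
theorem ind_eq_iff {θ φ : K → ℂ} (hθ : IsIrrCharacter K θ) (hφ : IsIrrCharacter K φ) :
    indFun K φ = indFun K θ ↔ φ ∈ orb hK θ := by
  rw [mem_orb]
  constructor
  · intro h
    by_contra hno
    have h1 := ind_orth hK hθ hφ (fun ⟨g, hg⟩ => hno ⟨g, hg.symm⟩)
    rw [h] at h1
    exact norm_ind_ne hK hθ h1
  · rintro ⟨g, rfl⟩
    exact ind_cj hK θ g

open Classical in
include hK in
/-- the sum of `φ(1)^2/‖φ‖^2` over induced characters -/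
theorem sum_ind (T : Finset (IrrCharacter K))
    (hT : ∀ θ ∈ T, ∀ φ : IrrCharacter K, (φ : K → ℂ) ∈ orb hK (θ : K → ℂ) → φ ∈ T) :
    ∑ φ ∈ T.image (fun θ : IrrCharacter K => indFun K (θ : K → ℂ)), (φ 1).re ^ 2 / (classInner φ φ).re =
      (K.index : ℝ) * ∑ θ ∈ T, ((θ : K → ℂ) 1).re ^ 2 := by
  rw [← Finset.sum_fiberwise_of_maps_to (s := T) (t := T.image (fun θ : IrrCharacter K => indFun K (θ : K → ℂ)))
    (g := fun θ : IrrCharacter K => indFun K (θ : K → ℂ)) (fun θ hθ => Finset.mem_image_of_mem _ hθ), Finset.mul_sum]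
  refine Finset.sum_congr rfl fun φ hφ => ?_
  obtain ⟨θ, hθ, rfl⟩ := Finset.mem_image.1 hφ
  have h1 : ∑ θ' ∈ T.filter (fun θ' : IrrCharacter K => indFun K (θ' : K → ℂ) = indFun K (θ : K → ℂ)), ((θ' : K → ℂ) 1).re ^ 2 =
      (orb hK (θ : K → ℂ)).card * ((θ : K → ℂ) 1).re ^ 2 := by
    have h2 : ∀ θ' ∈ T.filter (fun θ' : IrrCharacter K => indFun K (θ' : K → ℂ) = indFun K (θ : K → ℂ)), ((θ' : K → ℂ) 1).re ^ 2 = ((θ : K → ℂ) 1).re ^ 2 := by
      intro θ' hθ'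
      obtain ⟨g, hg⟩ := (mem_orb hK _ _).1 ((ind_eq_iff hK θ.2 θ'.2).1 (Finset.mem_filter.1 hθ').2)
      rw [← hg, cj_apply_one]
    rw [Finset.sum_congr rfl h2, Finset.sum_const, nsmul_eq_mul]
    congr 2
    refine Finset.card_bij (fun θ' _ => (θ' : K → ℂ)) ?_ ?_ ?_
    · intro θ' hθ'
      exact (ind_eq_iff hK θ.2 θ'.2).1 (Finset.mem_filter.1 hθ').2
    · intro a _ b _ h; exact Subtype.ext h
    · intro ψ hψ
      obtain ⟨g, hg⟩ := (mem_orb hK _ _).1 hψ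
      have hirr : IsIrrCharacter K ψ := by rw [← hg]; exact (cj_isIrr hK g).2 θ.2
      refine ⟨⟨ψ, hirr⟩, Finset.mem_filter.2 ⟨hT θ hθ _ hψ, ?_⟩, rfl⟩
      exact (ind_eq_iff hK θ.2 hirr).2 hψ
  rw [h1, ind_one, norm_ind hK θ.2]
  obtain ⟨m, hm, em⟩ := IsIrr.one_eq_nat θ.2
  rw [em]
  have hc := card_orb hK (θ : K → ℂ)
  have hidx := K.index_mul_card
  have e1 : ((K.index : ℂ) * (m : ℂ)).re = (K.index : ℝ) * m := by
    have : ((K.index : ℂ) * (m : ℂ)) = (((K.index : ℝ) * m : ℝ) : ℂ) := by push_cast; ring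
    rw [this, Complex.ofReal_re]
  have e2 : ((Nat.card (inertia hK (θ : K → ℂ)) : ℂ) / (Nat.card K : ℂ)).re = (Nat.card (inertia hK (θ : K → ℂ)) : ℝ) / Nat.card K := by
    have : ((Nat.card (inertia hK (θ : K → ℂ)) : ℂ) / (Nat.card K : ℂ)) = (((Nat.card (inertia hK (θ : K → ℂ)) : ℝ) / Nat.card K : ℝ) : ℂ) := by push_cast; ring
    rw [this, Complex.ofReal_re]
  rw [e1, e2, Complex.natCast_re]
  have hT0 : (Nat.card (inertia hK (θ : K → ℂ)) : ℝ) ≠ 0 := Nat.cast_ne_zero.2 Nat.card_pos.ne'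
  have hK0 : (Nat.card K : ℝ) ≠ 0 := Nat.cast_ne_zero.2 Nat.card_pos.ne'
  have hc' : ((orb hK (θ : K → ℂ)).card : ℝ) * Nat.card (inertia hK (θ : K → ℂ)) = Nat.card L := by exact_mod_cast hc
  have hidx' : (K.index : ℝ) * Nat.card K = Nat.card L := by exact_mod_cast hidx
  field_simp
  linear_combination (K.index : ℝ) * hidx' - (K.index : ℝ) * hc'

end Ind

section Above

variable {L : Type*} [Group L] [Fintype L] {K : Subgroup L} (hK : K.Normal)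

open Classical in
/-- the irreducible characters of `K` above `A` -/
noncomputable def IrrA (K A : Subgroup L) : Finset (IrrCharacter K) :=
  letI := Fintype.ofFinite (IrrCharacter K)
  Finset.univ.filter (fun θ : IrrCharacter K => (θ : K → ℂ) ≠ (fun _ => 1) ∧ ∀ a : K, (a : L) ∈ A → (θ : K → ℂ) a = (θ : K → ℂ) 1)

theorem mem_IrrA {A : Subgroup L} {θ : IrrCharacter K} :
    θ ∈ IrrA K A ↔ (θ : K → ℂ) ≠ (fun _ => 1) ∧ ∀ a : K, (a : L) ∈ A → (θ : K → ℂ) a = (θ : K → ℂ) 1 := by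
  classical
  simp [IrrA]

open Classical in
/-- `inducedIrrAbove` as a finite set -/
noncomputable def SF (K A : Subgroup L) : Finset (L → ℂ) := (IrrA K A).image (fun θ : IrrCharacter K => indFun K (θ : K → ℂ))

theorem coe_SF (A : Subgroup L) : (↑(SF K A) : Set (L → ℂ)) = inducedIrrAbove K A := by
  classical
  ext φ
  rw [SF, Finset.mem_coe, Finset.mem_image]
  constructor
  · rintro ⟨θ, hθ, rfl⟩
    rw [mem_IrrA] at hθ
    exact ⟨θ, θ.2, hθ.1, hθ.2, rfl⟩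
  · rintro ⟨θ, hθ, h1, h2, rfl⟩
    exact ⟨⟨θ, hθ⟩, mem_IrrA.2 ⟨h1, h2⟩, rfl⟩

theorem mem_SF {A : Subgroup L} {φ : L → ℂ} : φ ∈ SF K A ↔ φ ∈ inducedIrrAbove K A := by
  rw [← coe_SF, Finset.mem_coe]

theorem SF_mono {A B : Subgroup L} (h : A ≤ B) {φ : L → ℂ} (hφ : φ ∈ inducedIrrAbove K B) : φ ∈ inducedIrrAbove K A := by
  obtain ⟨θ, hθ, h1, h2, rfl⟩ := hφ
  exact ⟨θ, hθ, h1, fun a ha => h2 a (h ha), rfl⟩

theorem conj_ind (θ : K → ℂ) : conjFun (indFun K θ) = indFun K (conjFun θ) := by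
  funext x
  rw [conjFun, indFun, indFun, map_mul, map_inv₀, map_natCast, map_sum]
  congr 1
  refine Finset.sum_congr rfl fun y _ => ?_
  by_cases h : y⁻¹ * x * y ∈ K
  · rw [ext_mem _ _ h, ext_mem _ _ h]; rfl
  · rw [ext_not_mem _ _ h, ext_not_mem _ _ h, map_zero]

theorem conj_mem_above {A : Subgroup L} {φ : L → ℂ} (hφ : φ ∈ inducedIrrAbove K A) : conjFun φ ∈ inducedIrrAbove K A := by
  obtain ⟨θ, hθ, h1, h2, rfl⟩ := hφ
  haveI := Fintype.ofFinite K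
  refine ⟨conjFun θ, IsIrr.conj hθ, ?_, ?_, conj_ind θ⟩
  · intro h
    apply h1
    funext x
    have := congrFun h x
    simp only [conjFun] at this
    have h3 := congrArg conj this
    simpa using h3
  · intro a ha
    simp only [conjFun]
    rw [h2 a ha]

include hK in
theorem sum_SF (A : Subgroup L) [hA : A.Normal] :
    ∑ φ ∈ SF K A, (φ 1).re ^ 2 / (classInner φ φ).re = (K.index : ℝ) * ((A.relIndex K : ℝ) - 1) := by
  classical
  haveI := Fintype.ofFinite K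
  haveI := Fintype.ofFinite (IrrCharacter K)
  rw [SF, sum_ind hK]
  · congr 1
    haveI : (A.subgroupOf K).Normal := inferInstance
    have h1 := sum_sq_ker (A.subgroupOf K)
    have htriv : (⟨fun _ => 1, isIrr_one⟩ : IrrCharacter K) ∈ Finset.univ.filter (fun ψ : IrrCharacter K => ∀ n ∈ A.subgroupOf K, (ψ : K → ℂ) n = (ψ : K → ℂ) 1) := by
      simp
    rw [← Finset.add_sum_erase _ _ htriv] at h1
    have h2 : (Finset.univ.filter (fun ψ : IrrCharacter K => ∀ n ∈ A.subgroupOf K, (ψ : K → ℂ) n = (ψ : K → ℂ) 1)).erase ⟨fun _ => 1, isIrr_one⟩ = IrrA K A := by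
      ext θ
      rw [Finset.mem_erase, Finset.mem_filter, mem_IrrA]
      constructor
      · rintro ⟨a, -, b⟩
        refine ⟨fun h => a (Subtype.ext h), fun x hx => b x (Subgroup.mem_subgroupOf.2 hx)⟩
      · rintro ⟨a, b⟩
        exact ⟨fun h => a (congrArg Subtype.val h), Finset.mem_univ _, fun x hx => b x (Subgroup.mem_subgroupOf.1 hx)⟩
    rw [h2] at h1
    have h3 : (((∑ θ ∈ IrrA K A, ((θ : K → ℂ) 1).re ^ 2 : ℝ)) : ℂ) = ((A.relIndex K : ℝ) - 1 : ℝ) := by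
      push_cast
      have h4 : ∀ θ ∈ IrrA K A, ((((θ : K → ℂ) 1).re : ℂ)) ^ 2 = (θ : K → ℂ) 1 ^ 2 := by
        intro θ _
        obtain ⟨m, _, em⟩ := IsIrr.one_eq_nat θ.2
        rw [em]; simp
      rw [Finset.sum_congr rfl h4, Subgroup.relIndex, ← h1]
      ring
    exact_mod_cast h3
  · intro θ hθ φ hφ
    rw [mem_IrrA] at hθ ⊢
    obtain ⟨g, hg⟩ := (mem_orb hK _ _).1 hφ
    constructor
    · intro h
      apply hθ.1
      funext x
      rw [h] at hg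
      have h2 := congrFun hg ⟨g⁻¹ * x * g, by
        have := hK.conj_mem x x.2 g⁻¹
        rwa [inv_inv] at this⟩
      rw [cj_apply] at h2
      rw [← h2]
      have e : x = ⟨g * (g⁻¹ * x * g) * g⁻¹, hK.conj_mem _ (by
        have := hK.conj_mem x x.2 g⁻¹
        rwa [inv_inv] at this) g⟩ := by
        apply Subtype.ext
        show (x : L) = g * (g⁻¹ * x * g) * g⁻¹
        group
      conv_lhs => rw [e]
    · intro a ha
      rw [← hg, cj_apply, cj_apply_one]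
      exact hθ.2 _ (hA.conj_mem _ ha g)

end Above

section Propagate

variable {L : Type*} [Group L] [Fintype L] {G : Type*} [Group G] [Fintype G]
  {S : Set (L → ℂ)} {τ : (L → ℂ) → (G → ℂ)} {R : (L → ℂ) → Finset (G → ℂ)} (hS : IsCoherenceSystem S τ R)
include hS

omit hS in
theorem coh_mono {S₁ S₂ : Set (L → ℂ)} (h : IsCoherent S₁ {1}ᶜ τ) (hsub : S₂ ⊆ S₁)
    (hne : ∃ α ∈ zspanOn S₂ {1}ᶜ, α ≠ 0) : IsCoherent S₂ {1}ᶜ τ := by
  obtain ⟨-, τ₁, h1, h2⟩ := h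
  exact ⟨hne, τ₁, iso_mono h1 (fun x hx => zs_mono hsub hx), fun α hα => h2 α (zo_mono hsub hα)⟩

theorem exists_ne_zero {T : Set (L → ℂ)} (hT : T ⊆ S) (hne : T.Nonempty) (hc : ∀ φ ∈ T, conjFun φ ∈ T) :
    ∃ α ∈ zspanOn T {1}ᶜ, α ≠ 0 := by
  obtain ⟨χ, hχ⟩ := hne
  refine ⟨χ - conjFun χ, ?_, fun h => hS.conj_ne χ (hT hχ) (sub_eq_zero.1 h).symm⟩
  rw [zo_iff]
  exact ⟨zs_diff (zs_sub hχ) (zs_sub (hc χ hχ)), (zo_iff.1 (diff_mem hS (hT hχ))).2⟩

/-- propagation of coherence -/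
theorem propagate (hfin : S.Finite) (S₀ : Finset (L → ℂ)) (hS₀ : ↑S₀ ⊆ S) (hS₀c : ∀ φ ∈ S₀, conjFun φ ∈ S₀)
    (hcoh : IsCoherent (↑S₀ : Set (L → ℂ)) {1}ᶜ τ) (S' : Set (L → ℂ)) (hS' : S' ⊆ S)
    (χ₁ : L → ℂ) (hχ₁ : χ₁ ∈ S₀) (hdvd : ∀ ψ ∈ S', ∃ m : ℕ, ψ 1 = m * χ₁ 1)
    (hineq : ∀ ψ ∈ S', ψ ∉ S₀ → 2 * (ψ 1).re * (χ₁ 1).re < ∑ φ ∈ S₀, (φ 1).re ^ 2 / (classInner φ φ).re) :
    ∃ S₁ : Finset (L → ℂ), ↑S₁ ⊆ S ∧ S₀ ⊆ S₁ ∧ S' ⊆ ↑S₁ ∧ (∀ φ ∈ S₁, conjFun φ ∈ S₁) ∧ IsCoherent (↑S₁ : Set (L → ℂ)) {1}ᶜ τ := by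
  classical
  choose! d hd using fun φ hφ => IsChar.one_eq_nat (hS.isCharacter φ hφ)
  choose! n hn0 hn using fun φ hφ => norm_nat hS (χ := φ) hφ
  let F := hfin.toFinset
  let 𝒞 : Finset (Finset (L → ℂ)) := F.powerset.filter (fun S₁ => S₀ ⊆ S₁ ∧ (∀ φ ∈ S₁, conjFun φ ∈ S₁) ∧ IsCoherent (↑S₁ : Set (L → ℂ)) {1}ᶜ τ)
  have h0 : S₀ ∈ 𝒞 := by
    rw [Finset.mem_filter, Finset.mem_powerset]
    exact ⟨fun x hx => hfin.mem_toFinset.2 (hS₀ hx), Finset.Subset.refl _, hS₀c, hcoh⟩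
  obtain ⟨S₁, hS₁, hmax⟩ := Finset.exists_max_image 𝒞 Finset.card ⟨S₀, h0⟩
  rw [Finset.mem_filter, Finset.mem_powerset] at hS₁
  obtain ⟨hF, hsub, hc, hcoh₁⟩ := hS₁
  have hS₁S : (↑S₁ : Set (L → ℂ)) ⊆ S := fun x hx => hfin.mem_toFinset.1 (hF hx)
  refine ⟨S₁, hS₁S, hsub, ?_, hc, hcoh₁⟩
  intro ψ hψ
  by_contra hψ1
  have hψ1' : ψ ∉ S₁ := hψ1
  have hψS := hS' hψ
  have hψc : conjFun ψ ∉ S₁ := by
    intro h
    have := hc _ h
    rw [conj_conj] at this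
    exact hψ1' this
  have hχS : χ₁ ∈ S := hS₀ hχ₁
  have hd1 : d χ₁ ≠ 0 := by
    intro h
    have := hd χ₁ hχS
    rw [h] at this
    exact one_ne hS hχS (by rw [this]; simp)
  have hdv : d χ₁ ∣ d ψ := by
    obtain ⟨m, hm⟩ := hdvd ψ hψ
    rw [hd ψ hψS, hd χ₁ hχS] at hm
    refine ⟨m, ?_⟩
    have : d ψ = m * d χ₁ := by exact_mod_cast hm
    rw [this, mul_comm]
  have hlt := hineq ψ hψ (fun h => hψ1' (hsub h))
  rw [hd ψ hψS, hd χ₁ hχS, Complex.natCast_re, Complex.natCast_re] at hlt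
  have hle : ∑ φ ∈ S₀, (φ 1).re ^ 2 / (classInner φ φ).re ≤ ∑ φ ∈ S₁, ((d φ : ℝ) ^ 2 / (n φ : ℝ)) := by
    have h1 : ∀ φ ∈ S₁, ((d φ : ℝ) ^ 2 / (n φ : ℝ)) = (φ 1).re ^ 2 / (classInner φ φ).re := by
      intro φ hφ
      rw [hd φ (hS₁S hφ), hn φ (hS₁S hφ), Complex.natCast_re, Complex.natCast_re]
    rw [Finset.sum_congr rfl h1]
    apply Finset.sum_le_sum_of_subset_of_nonneg hsub
    intro φ hφ _
    have := norm_pos hS (hS₁S hφ)
    positivity
  have hnew := Cfsg.Agent.H10.Coh5.extend_pair hS d n hd hn S₁ hS₁S hc hcoh₁ ψ hψS hψ1' hψc χ₁ (hsub hχ₁) hdv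
    (lt_of_lt_of_le hlt hle)
  -- contradiction with maximality
  have h2 : insert ψ (insert (conjFun ψ) S₁) ∈ 𝒞 := by
    rw [Finset.mem_filter, Finset.mem_powerset]
    refine ⟨?_, fun x hx => Finset.mem_insert_of_mem (Finset.mem_insert_of_mem (hsub hx)), ?_, ?_⟩
    · intro x hx
      rw [Finset.mem_insert, Finset.mem_insert] at hx
      apply hfin.mem_toFinset.2
      rcases hx with rfl | rfl | hx
      · exact hψS
      · exact hS.conj_mem _ hψS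
      · exact hS₁S hx
    · intro x hx
      rw [Finset.mem_insert, Finset.mem_insert] at hx ⊢
      rcases hx with rfl | rfl | hx
      · exact Or.inr (Or.inl rfl)
      · left; exact conj_conj ψ
      · exact Or.inr (Or.inr (hc x hx))
    · have e : (↑(insert ψ (insert (conjFun ψ) S₁)) : Set (L → ℂ)) = (↑S₁ ∪ {ψ, conjFun ψ} : Set (L → ℂ)) := by
        ext x
        simp only [Finset.coe_insert, Set.mem_union, Set.mem_insert_iff, Set.mem_singleton_iff, Finset.mem_coe]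
        tauto
      rw [e]; exact hnew
  have h3 := hmax _ h2
  have h4 : S₁.card < (insert ψ (insert (conjFun ψ) S₁)).card := by
    apply Finset.card_lt_card
    refine ⟨fun x hx => Finset.mem_insert_of_mem (Finset.mem_insert_of_mem hx), fun h => hψ1' ?_⟩
    exact h (Finset.mem_insert_self _ _)
  omega

end Propagate

end Cfsg.Agent.H10.IndSet2
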