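import Mathlib
import Cfsg.Agent.H10_IndSet2

/-!
H10_IndSet3: coherence of sets of induced characters (Peterfalvi 6.2).
-/

set_option autoImplicit false
set_option linter.style.haveILetI false
set_option linter.unusedSectionVars false

namespace Cfsg.Agent.H10.IndSet3

open Cfsg Cfsg.Agent.H3.CharBasic Cfsg.Agent.H3.CharIrr Cfsg.Agent.H3.CharComplete
  Cfsg.Agent.H3.CharMult Cfsg.Agent.H3.CharInd Cfsg.Agent.H3.CharInt Cfsg.Agent.H3.Clifford Cfsg.Agent.H3.CharQuot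
  Cfsg.Agent.H10.OOClif Cfsg.Agent.H10.IndSet Cfsg.Agent.H10.IndSet2 Cfsg.Agent.H10.Coh Cfsg.Agent.H10.Coh3 Cfsg.Agent.H10.Coh4
open scoped ComplexConjugate

variable {L : Type*} [Group L] [Fintype L] {K : Subgroup L}

/-- existence of a character of minimal degree -/
theorem exists_min (hsolv : Group.IsSolvable K) {A : Subgroup L} [A.Normal] (hAK : A < K) :
    ∃ χ ∈ inducedIrrAbove K A, χ 1 = (K.index : ℂ) := by
  haveI := Fintype.ofFinite K
  obtain ⟨f, hf, hfA⟩ := exists_linear (K := K) hsolv (A := A.subgroupOf K) (by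
    intro h
    rw [Subgroup.subgroupOf_eq_top] at h
    exact hAK.not_ge h)
  refine ⟨indFun K (fun x => (f x : ℂ)), ⟨fun x => (f x : ℂ), isIrr_of_hom_units f, ?_, ?_, rfl⟩, ?_⟩
  · intro h
    apply hf
    ext x
    have := congrFun h x
    simpa using this
  · intro a ha
    show ((f a : ℂˣ) : ℂ) = ((f 1 : ℂˣ) : ℂ)
    rw [hfA a (Subgroup.mem_subgroupOf.2 ha), map_one]
  · rw [ind_one, map_one]; simp

theorem above_nonempty (hsolv : Group.IsSolvable K) {A : Subgroup L} [A.Normal] (hAK : A < K) :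
    (inducedIrrAbove K A).Nonempty := by
  obtain ⟨χ, hχ, -⟩ := exists_min hsolv hAK
  exact ⟨χ, hχ⟩

theorem above_finite (A : Subgroup L) : (inducedIrrAbove K A).Finite := by
  rw [← coe_SF]; exact Finset.finite_toSet _

variable {G : Type*} [Group G] [Fintype G] {τ : (L → ℂ) → (G → ℂ)} {R : (L → ℂ) → Finset (G → ℂ)}

/-- Peterfalvi (6.2), for any bound on the degrees -/
theorem coh_step (hK : K.Normal) (hsolv : Group.IsSolvable K)
    (hS : IsCoherenceSystem (inducedIrrAbove K ⊥) τ R) (A B : Subgroup L) [A.Normal] [B.Normal]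
    (hAK : A < K) (hBK : B < K) (hA : IsCoherent (inducedIrrAbove K A) {1}ᶜ τ)
    (hdeg : ∀ θ : K → ℂ, IsIrrCharacter K θ → (∀ a : K, (a : L) ∈ B → θ a = θ 1) →
      2 * (K.index : ℝ) * (θ 1).re < (A.relIndex K : ℝ) - 1) : IsCoherent (inducedIrrAbove K B) {1}ᶜ τ := by
  classical
  haveI := Fintype.ofFinite K
  obtain ⟨χ₁, hχ₁, h1⟩ := exists_min hsolv hAK
  have hmono : ∀ (X : Subgroup L), inducedIrrAbove K X ⊆ inducedIrrAbove K ⊥ := fun X x hx => SF_mono bot_le hx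
  obtain ⟨S₁, hS₁, hsub, hB, hc, hcoh⟩ := propagate hS (above_finite ⊥) (SF K A) (by rw [coe_SF]; exact hmono A)
    (fun φ hφ => mem_SF.2 (conj_mem_above (mem_SF.1 hφ))) (by rw [coe_SF]; exact hA) (inducedIrrAbove K B) (hmono B)
    χ₁ (mem_SF.2 hχ₁) (by
      rintro ψ ⟨θ, hθ, -, -, rfl⟩
      obtain ⟨m, hm, em⟩ := IsIrr.one_eq_nat hθ
      exact ⟨m, by rw [ind_one, h1, em, mul_comm]⟩) (by
      rintro ψ ⟨θ, hθ, -, hk, rfl⟩ -
      rw [sum_SF hK A, ind_one, h1]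
      obtain ⟨m, hm, em⟩ := IsIrr.one_eq_nat hθ
      have h2 := hdeg θ hθ hk
      rw [em, Complex.natCast_re] at h2
      rw [em]
      have e1 : ((K.index : ℂ) * (m : ℂ)).re = (K.index : ℝ) * m := by
        have : ((K.index : ℂ) * (m : ℂ)) = (((K.index : ℝ) * m : ℝ) : ℂ) := by push_cast; ring
        rw [this, Complex.ofReal_re]
      rw [e1, Complex.natCast_re]
      have h3 : (0 : ℝ) < K.index := by exact_mod_cast Nat.pos_of_ne_zero Subgroup.index_ne_zero_of_finite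
      nlinarith)
  exact coh_mono hcoh hB (exists_ne_zero hS (hmono B) (above_nonempty hsolv hBK) (fun φ hφ => conj_mem_above hφ))

/-- Peterfalvi (6.2) -/
theorem coh_62 (hK : K.Normal) (hsolv : Group.IsSolvable K)
    (hS : IsCoherenceSystem (inducedIrrAbove K ⊥) τ R) (A B C D : Subgroup L) [A.Normal] [B.Normal] [C.Normal] [D.Normal]
    (hAK : A < K) (hBK : B < K) (hDC : D ≤ C) (hCK : C ≤ K) (hcent : ∀ x ∈ D, ∀ y ∈ C, x * y * x⁻¹ * y⁻¹ ∈ B)
    (hA : IsCoherent (inducedIrrAbove K A) {1}ᶜ τ) (hlt : 4 * C.index ^ 2 * D.relIndex C < (A.relIndex K - 1) ^ 2) :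
    IsCoherent (inducedIrrAbove K B) {1}ᶜ τ := by
  haveI := Fintype.ofFinite K
  apply coh_step hK hsolv hS A B hAK hBK hA
  intro θ hθ hk
  have h1 := deg_bound (K := K) (C := C.subgroupOf K) (D := D.subgroupOf K)
    (Subgroup.comap_mono hDC) hθ (fun x hx y hy => hk _ (hcent x hx y hy))
  have h2 : (C.subgroupOf K).index = C.relIndex K := rfl
  have h3 : (D.subgroupOf K).relIndex (C.subgroupOf K) = D.relIndex C := by
    rw [Subgroup.relIndex_subgroupOf hCK]
  rw [h2, h3] at h1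
  have h4 : C.relIndex K * K.index = C.index := Subgroup.relIndex_mul_index hCK
  have hrel : 1 ≤ A.relIndex K := Nat.one_le_iff_ne_zero.2 (Subgroup.index_ne_zero_of_finite (H := A.subgroupOf K))
  have h5 : (4 : ℝ) * (C.index : ℝ) ^ 2 * D.relIndex C < ((A.relIndex K : ℝ) - 1) ^ 2 := by
    have : ((4 * C.index ^ 2 * D.relIndex C : ℕ) : ℝ) < (((A.relIndex K - 1) ^ 2 : ℕ) : ℝ) := by exact_mod_cast hlt
    push_cast [Nat.cast_sub hrel] at this
    exact this
  have h6 : (2 * (K.index : ℝ) * (θ 1).re) ^ 2 < ((A.relIndex K : ℝ) - 1) ^ 2 := by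
    refine lt_of_le_of_lt ?_ h5
    have h7 : (C.index : ℝ) = C.relIndex K * K.index := by exact_mod_cast h4.symm
    rw [h7]
    have h8 : 0 ≤ (4 : ℝ) * (K.index : ℝ) ^ 2 := by positivity
    calc (2 * (K.index : ℝ) * (θ 1).re) ^ 2 = (4 : ℝ) * (K.index : ℝ) ^ 2 * (θ 1).re ^ 2 := by ring
      _ ≤ (4 : ℝ) * (K.index : ℝ) ^ 2 * ((C.relIndex K : ℝ) ^ 2 * D.relIndex C) := mul_le_mul_of_nonneg_left h1 h8
      _ = _ := by ring
  have h9 : (0 : ℝ) ≤ (A.relIndex K : ℝ) - 1 := by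
    have : (1 : ℝ) ≤ A.relIndex K := by exact_mod_cast hrel
    linarith
  exact lt_of_pow_lt_pow_left₀ 2 h9 h6

end Cfsg.Agent.H10.IndSet3
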