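import Mathlib
import Cfsg.Agent.H10_IndSet3

/-!
H10_IndSet4: coherence of sets of induced characters (Peterfalvi 6.3, 6.5).
-/

set_option autoImplicit false
set_option linter.style.haveILetI false
set_option linter.unusedSectionVars false

namespace Cfsg.Agent.H10.IndSet4

open Cfsg Cfsg.Agent.H3.CharBasic Cfsg.Agent.H3.CharIrr Cfsg.Agent.H3.CharComplete
  Cfsg.Agent.H3.CharMult Cfsg.Agent.H3.CharInd Cfsg.Agent.H3.CharInt Cfsg.Agent.H3.Clifford Cfsg.Agent.H3.CharQuot
  Cfsg.Agent.H10.OOClif Cfsg.Agent.H10.IndSet Cfsg.Agent.H10.IndSet2 Cfsg.Agent.H10.IndSet3 Cfsg.Agent.H10.Coh Cfsg.Agent.H10.Coh3 Cfsg.Agent.H10.Coh4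
open scoped ComplexConjugate commutatorElement

section Grp

variable {L : Type*} [Group L]

theorem lcs_le {H M : Subgroup L} [hn : (M.subgroupOf H).Normal]
    (hnil : Group.IsNilpotent (↥H ⧸ M.subgroupOf H)) : ∃ n, H.lowerCentralSeries n ≤ M := by
  obtain ⟨n, hn0⟩ := Subgroup.nilpotent_iff_lowerCentralSeries.1 hnil
  refine ⟨n, ?_⟩
  have h2 := Subgroup.map_lowerCentralSeries (⊤ : Subgroup H) (QuotientGroup.mk' (M.subgroupOf H)) n
  rw [Subgroup.map_top_of_surjective _ (QuotientGroup.mk'_surjective _), hn0, Subgroup.map_eq_bot_iff, QuotientGroup.ker_mk'] at h2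
  rw [← Subgroup.top_subtype_lowerCentralSeries]
  rw [Subgroup.map_le_iff_le_comap]
  exact h2

theorem nil_step {H M : Subgroup L} [hn : (M.subgroupOf H).Normal]
    (hnil : Group.IsNilpotent (↥H ⧸ M.subgroupOf H)) {A B : Subgroup L} [A.Normal] [B.Normal] [H.Normal]
    (hMB : M ≤ B) (hAH : A ≤ H) (h : A ≤ ⁅A, H⁆ ⊔ B) : A ≤ B := by
  obtain ⟨n, hn0⟩ := lcs_le hnil
  have hnorm : ∀ m, (H.lowerCentralSeries m).Normal := by
    intro m
    induction m with
    | zero => rw [Subgroup.lowerCentralSeries_zero]; infer_instance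
    | succ m ih =>
      haveI := ih
      rw [Subgroup.lowerCentralSeries_succ]; infer_instance
  have key : ∀ m, A ≤ H.lowerCentralSeries m ⊔ B := by
    intro m
    induction m with
    | zero =>
      rw [Subgroup.lowerCentralSeries_zero]
      exact le_trans hAH le_sup_left
    | succ m ih =>
      haveI := hnorm m
      refine h.trans (sup_le ?_ le_sup_right)
      refine (Subgroup.commutator_mono ih le_rfl).trans ?_
      rw [Subgroup.lowerCentralSeries_succ, Subgroup.commutator_le]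
      intro g hg k hk
      obtain ⟨x, hx, b, hb, rfl⟩ := Subgroup.mem_sup_of_normal_left.1 hg
      have e : ⁅x * b, k⁆ = (x * ⁅b, k⁆ * x⁻¹) * ⁅x, k⁆ := by
        simp only [commutatorElement_def]; group
      rw [e]
      refine Subgroup.mul_mem _ (Subgroup.mem_sup_right ?_) (Subgroup.mem_sup_left (Subgroup.commutator_mem_commutator hx hk))
      apply Subgroup.Normal.conj_mem inferInstance
      have : ⁅b, k⁆ = b * (k * b⁻¹ * k⁻¹) := by simp only [commutatorElement_def]; group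
      rw [this]
      exact B.mul_mem hb (Subgroup.Normal.conj_mem inferInstance _ (B.inv_mem hb) k)
  have h1 := key n
  exact h1.trans (sup_le (hn0.trans hMB) le_rfl)

end Grp

section Coh

variable {L : Type*} [Group L] [Fintype L] {K : Subgroup L}
variable {G : Type*} [Group G] [Fintype G] {τ : (L → ℂ) → (G → ℂ)} {R : (L → ℂ) → Finset (G → ℂ)}

/-- Peterfalvi (6.3) -/
theorem coh_63 (hK : K.Normal) (hsolv : Group.IsSolvable K)
    (hS : IsCoherenceSystem (inducedIrrAbove K ⊥) τ R) (M H₁ H : Subgroup L) [M.Normal] [H₁.Normal] [H.Normal]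
    (hMH₁ : M ≤ H₁) (hH₁H : H₁ ≤ H) (hHK : H ≤ K) [(M.subgroupOf H).Normal]
    (hnil : Group.IsNilpotent (↥H ⧸ M.subgroupOf H)) (hcoh : IsCoherent (inducedIrrAbove K H₁) {1}ᶜ τ)
    (hbig : 4 * K.index ^ 2 + 1 < H₁.relIndex H) : IsCoherent (inducedIrrAbove K M) {1}ᶜ τ := by
  classical
  haveI := Fintype.ofFinite K
  -- minimal A
  let 𝒜 : Set (Subgroup L) := {A | A.Normal ∧ M ≤ A ∧ A ≤ H₁ ∧ IsCoherent (inducedIrrAbove K A) {1}ᶜ τ}
  obtain ⟨A, hA, hAmin⟩ := (Set.toFinite 𝒜).exists_minimal ⟨H₁, inferInstance, hMH₁, le_rfl, hcoh⟩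
  obtain ⟨hAn, hMA, hAH₁, hAcoh⟩ := hA
  by_cases hAM : A = M
  · rw [← hAM]; exact hAcoh
  · exfalso
    have hlt : M < A := lt_of_le_of_ne hMA (Ne.symm hAM)
    let ℬ : Set (Subgroup L) := {B | B.Normal ∧ M ≤ B ∧ B < A}
    obtain ⟨B, hB, hBmax⟩ := (Set.toFinite ℬ).exists_maximal ⟨M, inferInstance, le_rfl, hlt⟩
    obtain ⟨hBn, hMB, hBA⟩ := hB
    have hAH : A ≤ H := hAH₁.trans hH₁H
    -- the commutator
    have hAB : ⁅A, H⁆ ≤ B := by
      have hle : ⁅A, H⁆ ⊔ B ≤ A := sup_le (Subgroup.commutator_le_left A H) hBA.le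
      by_cases h : ⁅A, H⁆ ⊔ B = A
      · exfalso
        exact hBA.not_ge (nil_step hnil hMB hAH h.ge)
      · have h1 : ⁅A, H⁆ ⊔ B ∈ ℬ := ⟨inferInstance, hMB.trans le_sup_right, lt_of_le_of_ne hle h⟩
        have h2 := hBmax h1 le_sup_right
        exact le_trans le_sup_left h2
    have hH₁lt : H₁ < H := by
      apply lt_of_le_of_ne hH₁H
      rintro rfl
      rw [Subgroup.relIndex_self] at hbig
      omega
    have hAK : A < K := lt_of_le_of_lt hAH₁ (lt_of_lt_of_le hH₁lt hHK)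
    have hBK : B < K := hBA.trans hAK
    have hcohB := coh_62 hK hsolv hS A B H A hAK hBK hAH hHK (by
      intro x hx y hy
      exact hAB (Subgroup.commutator_mem_commutator hx hy)) hAcoh (by
      have e1 : H.relIndex K * K.index = H.index := Subgroup.relIndex_mul_index hHK
      have e2 : A.relIndex H * H.relIndex K = A.relIndex K := Subgroup.relIndex_mul_relIndex A H K hAH hHK
      have e3 : A.relIndex H₁ * H₁.relIndex H = A.relIndex H := Subgroup.relIndex_mul_relIndex A H₁ H hAH₁ hH₁H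
      have p1 : 0 < A.relIndex H₁ := Nat.pos_of_ne_zero (Subgroup.index_ne_zero_of_finite (H := A.subgroupOf H₁))
      have p2 : 0 < H.relIndex K := Nat.pos_of_ne_zero (Subgroup.index_ne_zero_of_finite (H := H.subgroupOf K))
      have hn : 4 * K.index ^ 2 + 1 < A.relIndex H := by
        rw [← e3]
        calc 4 * K.index ^ 2 + 1 < H₁.relIndex H := hbig
          _ ≤ A.relIndex H₁ * H₁.relIndex H := Nat.le_mul_of_pos_left _ p1
      rw [← e1, ← e2]
      set k := H.relIndex K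
      set a := K.index
      set n := A.relIndex H
      have hnk : 1 ≤ n * k := Nat.mul_pos (by omega) p2
      zify [hnk]
      have hn' : (4 : ℤ) * a ^ 2 + 2 ≤ n := by exact_mod_cast hn
      have hk' : (1 : ℤ) ≤ k := by exact_mod_cast p2
      have hn0 : (0 : ℤ) < n := by nlinarith [sq_nonneg (a : ℤ)]
      have h3 : (4 : ℤ) * a ^ 2 * (k ^ 2 * n) ≤ (n - 2) * (k ^ 2 * n) := by
        apply mul_le_mul_of_nonneg_right (by linarith)
        positivity
      have h4 : (n : ℤ) * k ≤ n * k ^ 2 := by nlinarith [mul_pos hn0 (lt_of_lt_of_le one_pos hk')]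
      nlinarith)
    have h5 : B ∈ 𝒜 := ⟨hBn, hMB, hBA.le.trans hAH₁, hcohB⟩
    exact hBA.not_ge (hAmin h5 hBA.le)

end Coh

end Cfsg.Agent.H10.IndSet4
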