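import Mathlib
import Cfsg.Agent.H10_CohI
import Cfsg.Agent.H10_IndSet4

/-!
H10_CohI2: extension of coherence for sets of irreducible characters (no closure under conjugation).
-/

set_option autoImplicit false
set_option linter.style.haveILetI false
set_option linter.unusedSectionVars false

namespace Cfsg.Agent.H10.CohI2

open Cfsg Cfsg.Agent.H3.CharIrr Cfsg.Agent.H3.CharComplete Cfsg.Agent.H3.CharInd Cfsg.Agent.H3.Isom Cfsg.Agent.H3.CharInt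
  Cfsg.Agent.H3.CharBasic Cfsg.Agent.H10.PM Cfsg.Agent.H10.Coh Cfsg.Agent.H10.Coh2 Cfsg.Agent.H10.Coh3 Cfsg.Agent.H10.Coh4
  Cfsg.Agent.H10.CohI Cfsg.Agent.H10.IndSet Cfsg.Agent.H10.IndSet2 Cfsg.Agent.H10.IndSet3 Cfsg.Agent.H10.IndSet4
open scoped ComplexConjugate

variable {L : Type*} [Group L] [Fintype L] {G : Type*} [Group G] [Fintype G]

theorem ext_irr {S₁ : Finset (L → ℂ)} {φ χ₁ : L → ℂ} (hirr : ∀ ξ ∈ insert φ (↑S₁ : Set (L → ℂ)), IsIrrCharacter L ξ)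
    (hφ : φ ∉ S₁) (hχ₁ : χ₁ ∈ S₁) {τ τ₁ : (L → ℂ) → (G → ℂ)}
    (hτ : IsLinearIsometryOn (zspanOn (insert φ (↑S₁ : Set (L → ℂ))) {1}ᶜ) τ)
    (hτ1 : ∀ α ∈ zspanOn (insert φ (↑S₁ : Set (L → ℂ))) {1}ᶜ, τ α 1 = 0)
    (hτ₁ : IsLinearIsometryOn (zspan (↑S₁ : Set (L → ℂ))) τ₁) (hag : ∀ α ∈ zspanOn (↑S₁ : Set (L → ℂ)) {1}ᶜ, τ₁ α = τ α)
    {dd : ℕ} (hd : φ 1 = dd * χ₁ 1) (hlt : 2 * (φ 1).re * (χ₁ 1).re < ∑ ξ ∈ S₁, (ξ 1).re ^ 2) :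
    ∃ τ₂ : (L → ℂ) → (G → ℂ), IsLinearIsometryOn (zspan (insert φ (↑S₁ : Set (L → ℂ)))) τ₂ ∧
      ∀ α ∈ zspanOn (insert φ (↑S₁ : Set (L → ℂ))) {1}ᶜ, τ₂ α = τ α := by
  classical
  have hsub : (↑S₁ : Set (L → ℂ)) ⊆ insert φ (↑S₁ : Set (L → ℂ)) := Set.subset_insert _ _
  have hi1 : ∀ ξ ∈ S₁, IsIrrCharacter L ξ := fun ξ hξ => hirr ξ (hsub hξ)
  have hφi : IsIrrCharacter L φ := hirr φ (Set.mem_insert _ _)
  have hm : ∀ ξ, ∃ n : ℕ, ξ ∈ S₁ → 0 < n ∧ ξ 1 = n := by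
    intro ξ
    by_cases h : ξ ∈ S₁
    · obtain ⟨n, hn, e⟩ := IsIrr.one_eq_nat (hi1 ξ h)
      exact ⟨n, fun _ => ⟨hn, e⟩⟩
    · exact ⟨0, fun h' => absurd h' h⟩
  choose m hm using hm
  have hmem1 : ∀ ξ ∈ S₁, ξ ∈ zspan (↑S₁ : Set (L → ℂ)) := fun ξ hξ => zs_sub hξ
  have hψz : (dd : ℤ) • χ₁ ∈ zspan (↑S₁ : Set (L → ℂ)) := zs_zsmul _ (hmem1 _ hχ₁)
  have hψ1 : ((dd : ℤ) • χ₁) 1 = φ 1 := by rw [zc, Pi.smul_apply, smul_eq_mul, hd]; simp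
  have hmem : φ - (dd : ℤ) • χ₁ ∈ zspanOn (insert φ (↑S₁ : Set (L → ℂ))) {1}ᶜ := by
    rw [zo_iff]
    exact ⟨zs_diff (zs_sub (Set.mem_insert _ _)) (zs_mono hsub hψz), by rw [Pi.sub_apply, hψ1, sub_self]⟩
  have hφo : ∀ ξ ∈ S₁, classInner φ ξ = 0 := fun ξ hξ => ci_irr_ne hφi (hi1 ξ hξ) fun h => hφ (h ▸ hξ)
  have hdd : 0 < dd := by
    rcases Nat.eq_zero_or_pos dd with h | h
    · exfalso
      apply IsIrr.one_ne_zero hφi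
      rw [hd, h]; simp
    · exact h
  obtain ⟨X, hX⟩ : ∃ X, X = τ (φ - (dd : ℤ) • χ₁) + τ₁ ((dd : ℤ) • χ₁) := ⟨_, rfl⟩
  have hXgen : IsGeneralizedCharacter G X := by
    rw [hX]; exact IsGen.add (hτ.2.2.2 _ hmem) (hτ₁.2.2.2 _ hψz)
  have hpm : ∀ ξ ∈ S₁, Pm (τ₁ ξ) := fun ξ hξ => pm_of_iso (S := (↑S₁ : Set (L → ℂ))) hi1 hτ₁ hξ
  have hx : ∀ ξ, ∃ n : ℤ, ξ ∈ S₁ → classInner X (τ₁ ξ) = n := by
    intro ξ
    by_cases h : ξ ∈ S₁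
    · obtain ⟨n, hn⟩ := ci_gen_int hXgen (hpm ξ h).gen
      exact ⟨n, fun _ => hn⟩
    · exact ⟨0, fun h' => absurd h' h⟩
  choose x hx using hx
  -- relations
  have hγ : ∀ ξ ∈ S₁, (m χ₁ : ℤ) • ξ - (m ξ : ℤ) • χ₁ ∈ zspanOn (↑S₁ : Set (L → ℂ)) {1}ᶜ := by
    intro ξ hξ
    rw [zo_iff]
    refine ⟨zs_diff (zs_zsmul _ (hmem1 ξ hξ)) (zs_zsmul _ (hmem1 _ hχ₁)), ?_⟩
    rw [zc, zc, Pi.sub_apply, Pi.smul_apply, Pi.smul_apply, smul_eq_mul, smul_eq_mul, (hm ξ hξ).2, (hm _ hχ₁).2]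
    push_cast; ring
  have hτγ : ∀ ξ ∈ S₁, τ₁ ((m χ₁ : ℤ) • ξ - (m ξ : ℤ) • χ₁) = (m χ₁ : ℂ) • τ₁ ξ - (m ξ : ℂ) • τ₁ χ₁ := by
    intro ξ hξ
    rw [iso_diff hτ₁ (zs_zsmul _ (hmem1 ξ hξ)) (zs_zsmul _ (hmem1 _ hχ₁)) (zs_neg (zs_zsmul _ (hmem1 _ hχ₁))),
      hτ₁.2.1 _ (hmem1 ξ hξ), hτ₁.2.1 _ (hmem1 _ hχ₁), zc, zc]
    simp
  have hrel : ∀ ξ ∈ S₁, (m χ₁ : ℤ) * x ξ = m ξ * x χ₁ := by
    intro ξ hξ
    have h1 : classInner X (τ₁ ((m χ₁ : ℤ) • ξ - (m ξ : ℤ) • χ₁)) = 0 := by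
      rw [hX, ci_add_left, hτ₁.2.2.1 _ hψz _ (hγ ξ hξ).1, hag _ (hγ ξ hξ), hτ.2.2.1 _ hmem _ (zo_mono hsub (hγ ξ hξ)), ← ci_add_left,
        sub_add_cancel, zc, zc, ci_sub_right, ci_smul_right, ci_smul_right, hφo ξ hξ, hφo _ hχ₁]
      ring
    rw [hτγ ξ hξ, ci_sub_right, ci_smul_right, ci_smul_right, hx ξ hξ, hx _ hχ₁, Complex.conj_natCast, Complex.conj_natCast] at h1
    have h2 : (m χ₁ : ℂ) * x ξ = m ξ * x χ₁ := by linear_combination h1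
    exact_mod_cast h2
  have hdeg1 : ∀ ξ ∈ S₁, (m χ₁ : ℂ) * τ₁ ξ 1 = m ξ * τ₁ χ₁ 1 := by
    intro ξ hξ
    have h1 : τ₁ ((m χ₁ : ℤ) • ξ - (m ξ : ℤ) • χ₁) 1 = 0 := by
      rw [hag _ (hγ ξ hξ)]
      exact hτ1 _ (zo_mono hsub (hγ ξ hξ))
    rw [hτγ ξ hξ, Pi.sub_apply, Pi.smul_apply, Pi.smul_apply, smul_eq_mul, smul_eq_mul] at h1
    linear_combination h1
  have hτψ : τ₁ ((dd : ℤ) • χ₁) = (dd : ℂ) • τ₁ χ₁ := by
    rw [hτ₁.2.1 _ (hmem1 _ hχ₁), zc]; simp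
  have hnorm : classInner X X = 1 + 2 * dd * x χ₁ := by
    have h1 := hτ.2.2.1 _ hmem _ hmem
    have h2 : τ (φ - (dd : ℤ) • χ₁) = X - (dd : ℂ) • τ₁ χ₁ := by rw [hX, hτψ]; abel
    have h3 : classInner (τ₁ χ₁) X = x χ₁ := by
      rw [← ci_conj_symm, hx _ hχ₁]; simp
    have h4 : classInner χ₁ φ = 0 := by rw [← ci_conj_symm, hφo _ hχ₁, map_zero]
    rw [h2, ci_sub_left, ci_sub_right, ci_sub_right, ci_smul_left, ci_smul_left, ci_smul_right, ci_smul_right, hx _ hχ₁, h3,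
      (hpm _ hχ₁).norm, zc, ci_sub_left, ci_sub_right, ci_sub_right, ci_smul_left, ci_smul_left, ci_smul_right, ci_smul_right,
      hφo _ hχ₁, h4, ci_irr_self hφi, ci_irr_self (hi1 _ hχ₁)] at h1
    push_cast at h1
    rw [Complex.conj_natCast] at h1
    linear_combination h1
  -- Bessel
  have hon : ∀ a ∈ S₁, ∀ b ∈ S₁, classInner (τ₁ a) (τ₁ b) = if a = b then (((1 : ℝ)) : ℂ) else 0 := by
    intro a ha b hb
    rw [hτ₁.2.2.1 _ (hmem1 a ha) _ (hmem1 b hb), ci_if (hi1 a ha) (hi1 b hb)]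
    split_ifs <;> simp
  have hb := bessel S₁ (fun ξ => τ₁ ξ) X (fun ξ => (x ξ : ℝ)) (fun _ => 1)
    (fun a ha b hb => by rw [hon a ha b hb]; congr) (fun _ _ => one_pos) (fun ξ hξ => by rw [hx ξ hξ]; simp)
  have hM : 0 < m χ₁ := (hm _ hχ₁).1
  have hbz : x χ₁ = 0 := by
    by_contra hb0
    have h1 := ci_self_re_nonneg (X - ∑ j ∈ S₁, (((x j : ℝ) / 1 : ℝ) : ℂ) • τ₁ j)
    rw [hb.2, hnorm] at h1
    have h2 : ∑ ξ ∈ S₁, (x ξ : ℝ) ^ 2 ≤ 1 + 2 * dd * x χ₁ := by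
      have e1 : ((1 + 2 * dd * x χ₁ : ℂ) - ((∑ i ∈ S₁, (x i : ℝ) ^ 2 / 1 : ℝ) : ℂ)).re =
          1 + 2 * dd * x χ₁ - ∑ ξ ∈ S₁, (x ξ : ℝ) ^ 2 := by
        have : ((1 + 2 * dd * x χ₁ : ℂ) - ((∑ i ∈ S₁, (x i : ℝ) ^ 2 / 1 : ℝ) : ℂ)) =
            ((1 + 2 * dd * x χ₁ - ∑ ξ ∈ S₁, (x ξ : ℝ) ^ 2 : ℝ) : ℂ) := by push_cast; simp
        rw [this, Complex.ofReal_re]
      rw [e1] at h1
      linarith
    have h2' : ∑ ξ ∈ S₁, (x ξ) ^ 2 ≤ 1 + 2 * dd * x χ₁ := by exact_mod_cast h2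
    have hlt' : 2 * (dd * m χ₁ ^ 2 : ℤ) < ∑ ξ ∈ S₁, (m ξ : ℤ) ^ 2 := by
      rw [hd, (hm _ hχ₁).2, Finset.sum_congr rfl fun ξ hξ => by rw [(hm ξ hξ).2, Complex.natCast_re], ← Nat.cast_mul,
        Complex.natCast_re, Complex.natCast_re] at hlt
      have h3 : ((2 * (dd * m χ₁ ^ 2 : ℤ) : ℤ) : ℝ) < ((∑ ξ ∈ S₁, (m ξ : ℤ) ^ 2 : ℤ) : ℝ) := by
        push_cast at hlt ⊢
        linarith
      exact_mod_cast h3
    have h4 : (m χ₁ : ℤ) ^ 2 * ∑ ξ ∈ S₁, (x ξ) ^ 2 = x χ₁ ^ 2 * ∑ ξ ∈ S₁, (m ξ : ℤ) ^ 2 := by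
      rw [Finset.mul_sum, Finset.mul_sum]
      refine Finset.sum_congr rfl fun ξ hξ => ?_
      have := hrel ξ hξ
      calc (m χ₁ : ℤ) ^ 2 * x ξ ^ 2 = ((m χ₁ : ℤ) * x ξ) ^ 2 := by ring
        _ = _ := by rw [this]; ring
    have hM' : (0 : ℤ) < (m χ₁ : ℤ) ^ 2 := by positivity
    have hb2 : 0 < (x χ₁) ^ 2 := by positivity
    have h5 : 2 * (dd : ℤ) * (x χ₁) ^ 2 < ∑ ξ ∈ S₁, (x ξ) ^ 2 := by
      have h6 : (x χ₁) ^ 2 * (2 * (dd * m χ₁ ^ 2 : ℤ)) < (m χ₁ : ℤ) ^ 2 * ∑ ξ ∈ S₁, (x ξ) ^ 2 := by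
        rw [h4]; exact mul_lt_mul_of_pos_left hlt' hb2
      have h7 : (m χ₁ : ℤ) ^ 2 * (2 * (dd : ℤ) * (x χ₁) ^ 2) < (m χ₁ : ℤ) ^ 2 * ∑ ξ ∈ S₁, (x ξ) ^ 2 := by
        calc (m χ₁ : ℤ) ^ 2 * (2 * (dd : ℤ) * (x χ₁) ^ 2) = (x χ₁) ^ 2 * (2 * (dd * m χ₁ ^ 2 : ℤ)) := by ring
          _ < _ := h6
      exact lt_of_mul_lt_mul_left h7 hM'.le
    have hdd' : (1 : ℤ) ≤ dd := by exact_mod_cast hdd
    have h8 : x χ₁ = 1 := by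
      have h9 : 2 * (dd : ℤ) * (x χ₁ * (x χ₁ - 1)) < 1 := by nlinarith
      rcases lt_trichotomy (x χ₁) 0 with h | h | h
      · exfalso
        have : 0 < x χ₁ * (x χ₁ - 1) := mul_pos_of_neg_of_neg h (by omega)
        nlinarith
      · exact absurd h hb0
      · by_contra h10
        have h11 : 2 ≤ x χ₁ := by omega
        have : 2 ≤ x χ₁ * (x χ₁ - 1) := by nlinarith
        nlinarith
    have h9 : ∑ ξ ∈ S₁, (x ξ) ^ 2 = 1 + 2 * dd := by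
      rw [h8] at h2' h5
      omega
    have h10 : X - ∑ j ∈ S₁, (((x j : ℝ) / 1 : ℝ) : ℂ) • τ₁ j = 0 := by
      apply ci_self_eq_zero
      rw [hb.2, hnorm, h8]
      have : ((∑ i ∈ S₁, (x i : ℝ) ^ 2 / 1 : ℝ) : ℂ) = ((∑ ξ ∈ S₁, (x ξ) ^ 2 : ℤ) : ℂ) := by push_cast; simp
      rw [this, h9]
      push_cast; ring
    have h11 := congrFun h10 1
    rw [Pi.sub_apply, Finset.sum_apply, Pi.zero_apply] at h11
    have h12 : X 1 = dd * τ₁ χ₁ 1 := by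
      rw [hX, Pi.add_apply, hτ1 _ hmem, hτψ, Pi.smul_apply, smul_eq_mul, zero_add]
    have h13 : ∀ ξ ∈ S₁, τ₁ ξ 1 = x ξ * τ₁ χ₁ 1 := by
      intro ξ hξ
      have h14 := hrel ξ hξ
      rw [h8, mul_one] at h14
      have h15 := hdeg1 ξ hξ
      have h16 : (m ξ : ℂ) = m χ₁ * x ξ := by exact_mod_cast h14.symm
      rw [h16] at h15
      have hMc : (m χ₁ : ℂ) ≠ 0 := by exact_mod_cast hM.ne'
      apply mul_left_cancel₀ hMc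
      rw [h15]; ring
    have h14 : ∑ j ∈ S₁, ((((x j : ℝ) / 1 : ℝ) : ℂ) • τ₁ j) 1 = ((∑ ξ ∈ S₁, (x ξ) ^ 2 : ℤ) : ℂ) * τ₁ χ₁ 1 := by
      push_cast
      rw [Finset.sum_mul]
      refine Finset.sum_congr rfl fun ξ hξ => ?_
      rw [Pi.smul_apply, smul_eq_mul, h13 ξ hξ, div_one]
      ring
    rw [h14, h9, h12] at h11
    push_cast at h11
    have h15 : ((dd : ℂ) + 1) * τ₁ χ₁ 1 = 0 := by linear_combination -h11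
    rcases mul_eq_zero.1 h15 with h16 | h16
    · have : (dd : ℂ) + 1 ≠ 0 := by exact_mod_cast (Nat.succ_ne_zero dd)
      exact this h16
    · exact (hpm _ hχ₁).one_ne h16
  have hXo : ∀ ξ ∈ (↑S₁ : Set (L → ℂ)), classInner X (τ₁ ξ) = 0 := by
    intro ξ hξ
    have h1 := hrel ξ hξ
    rw [hbz, mul_zero] at h1
    have h2 : x ξ = 0 := by
      rcases mul_eq_zero.1 h1 with h | h
      · have : m χ₁ = 0 := by exact_mod_cast h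
        omega
      · exact h
    rw [hx ξ hξ, h2]; simp
  obtain ⟨τ₂, t1, t2, -, -⟩ := ext_one (S₁ := (↑S₁ : Set (L → ℂ))) (χ := φ) (τ := τ) (τ₁ := τ₁)
    (fun ξ hξ => IsGen.of_irr (hirr ξ hξ)) (fun ξ hξ => by rw [ci_irr_self (hirr ξ hξ)]; exact one_ne_zero)
    (fun ξ hξ ψ hψ hne => ci_irr_ne (hirr ξ hξ) (hirr ψ hψ) hne) hφ hτ hτ₁ hag hψz hψ1 hX hXo
  exact ⟨τ₂, t1, t2⟩

/-- existence of a coherent extension (without the non-triviality condition) -/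
def Coh' (S : Set (L → ℂ)) (τ : (L → ℂ) → (G → ℂ)) : Prop :=
  ∃ τ₁ : (L → ℂ) → (G → ℂ), IsLinearIsometryOn (zspan S) τ₁ ∧ ∀ α ∈ zspanOn S {1}ᶜ, τ₁ α = τ α

theorem Coh'.mono {S₁ S₂ : Set (L → ℂ)} {τ : (L → ℂ) → (G → ℂ)} (h : Coh' S₁ τ) (hsub : S₂ ⊆ S₁) : Coh' S₂ τ := by
  obtain ⟨τ₁, h1, h2⟩ := h
  exact ⟨τ₁, iso_mono h1 (fun x hx => zs_mono hsub hx), fun α hα => h2 α (zo_mono hsub hα)⟩

theorem propagate_irr {S : Set (L → ℂ)} {τ : (L → ℂ) → (G → ℂ)} (hfin : S.Finite) (hirr : ∀ χ ∈ S, IsIrrCharacter L χ)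
    (hτ : IsLinearIsometryOn (zspanOn S {1}ᶜ) τ) (hτ1 : ∀ α ∈ zspanOn S {1}ᶜ, τ α 1 = 0)
    (S₀ : Finset (L → ℂ)) (hS₀ : ↑S₀ ⊆ S) (hcoh : Coh' (↑S₀ : Set (L → ℂ)) τ) (S' : Set (L → ℂ)) (hS' : S' ⊆ S)
    (χ₁ : L → ℂ) (hχ₁ : χ₁ ∈ S₀) (hdvd : ∀ ψ ∈ S', ∃ m : ℕ, ψ 1 = m * χ₁ 1)
    (hineq : ∀ ψ ∈ S', ψ ∉ S₀ → 2 * (ψ 1).re * (χ₁ 1).re < ∑ φ ∈ S₀, (φ 1).re ^ 2) :
    ∃ S₁ : Finset (L → ℂ), ↑S₁ ⊆ S ∧ S₀ ⊆ S₁ ∧ S' ⊆ ↑S₁ ∧ Coh' (↑S₁ : Set (L → ℂ)) τ := by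
  classical
  let F := hfin.toFinset
  let 𝒞 : Finset (Finset (L → ℂ)) := F.powerset.filter (fun S₁ => S₀ ⊆ S₁ ∧ Coh' (↑S₁ : Set (L → ℂ)) τ)
  have h0 : S₀ ∈ 𝒞 := by
    rw [Finset.mem_filter, Finset.mem_powerset]
    exact ⟨fun x hx => hfin.mem_toFinset.2 (hS₀ hx), Finset.Subset.refl _, hcoh⟩
  obtain ⟨S₁, hS₁, hmax⟩ := Finset.exists_max_image 𝒞 Finset.card ⟨S₀, h0⟩
  rw [Finset.mem_filter, Finset.mem_powerset] at hS₁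
  obtain ⟨hF, hsub, hcoh₁⟩ := hS₁
  have hS₁S : (↑S₁ : Set (L → ℂ)) ⊆ S := fun x hx => hfin.mem_toFinset.1 (hF hx)
  refine ⟨S₁, hS₁S, hsub, ?_, hcoh₁⟩
  intro ψ hψ
  by_contra hψ1
  have hψ1' : ψ ∉ S₁ := hψ1
  have hψS := hS' hψ
  have hins : insert ψ (↑S₁ : Set (L → ℂ)) ⊆ S := Set.insert_subset hψS hS₁S
  obtain ⟨dd, hdd⟩ := hdvd ψ hψ
  obtain ⟨τ₁, t1, t2⟩ := hcoh₁
  have hle : ∑ φ ∈ S₀, (φ 1).re ^ 2 ≤ ∑ φ ∈ S₁, (φ 1).re ^ 2 :=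
    Finset.sum_le_sum_of_subset_of_nonneg hsub fun _ _ _ => sq_nonneg _
  have hnew := ext_irr (S₁ := S₁) (φ := ψ) (χ₁ := χ₁) (fun ξ hξ => hirr ξ (hins hξ)) hψ1' (hsub hχ₁)
    (iso_mono hτ (fun α hα => zo_mono hins hα)) (fun α hα => hτ1 α (zo_mono hins hα)) t1 t2 hdd
    (lt_of_lt_of_le (hineq ψ hψ (fun h => hψ1' (hsub h))) hle)
  have h2 : insert ψ S₁ ∈ 𝒞 := by
    rw [Finset.mem_filter, Finset.mem_powerset]
    refine ⟨?_, fun x hx => Finset.mem_insert_of_mem (hsub hx), ?_⟩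
    · intro x hx
      rw [Finset.mem_insert] at hx
      apply hfin.mem_toFinset.2
      rcases hx with rfl | hx
      · exact hψS
      · exact hS₁S hx
    · rw [Finset.coe_insert]; exact hnew
  have h3 := hmax _ h2
  rw [Finset.card_insert_of_notMem hψ1'] at h3
  omega

section Chain
variable {K : Subgroup L} {τ : (L → ℂ) → (G → ℂ)} (hK : K.Normal) (hsolv : Group.IsSolvable K)
  (hirr : ∀ χ ∈ inducedIrrAbove K ⊥, IsIrrCharacter L χ)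
  (hτ : IsLinearIsometryOn (zspanOn (inducedIrrAbove K ⊥) {1}ᶜ) τ) (hτ1 : ∀ α ∈ zspanOn (inducedIrrAbove K ⊥) {1}ᶜ, τ α 1 = 0)
include hK hsolv hirr hτ hτ1

theorem coh_step_irr (A B : Subgroup L) [A.Normal] [B.Normal]
    (hAK : A < K) (hA : Coh' (inducedIrrAbove K A) τ)
    (hdeg : ∀ θ : K → ℂ, IsIrrCharacter K θ → (∀ a : K, (a : L) ∈ B → θ a = θ 1) → ¬ (∀ a : K, (a : L) ∈ A → θ a = θ 1) →
      2 * (K.index : ℝ) * (θ 1).re < (A.relIndex K : ℝ) - 1) : Coh' (inducedIrrAbove K B) τ := by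
  classical
  haveI := Fintype.ofFinite K
  obtain ⟨χ₁, hχ₁, h1⟩ := exists_min hsolv hAK
  have hmono : ∀ (X : Subgroup L), inducedIrrAbove K X ⊆ inducedIrrAbove K ⊥ := fun X x hx => SF_mono bot_le hx
  obtain ⟨S₁, hS₁, hsub, hB, hcoh⟩ := propagate_irr (above_finite ⊥) hirr hτ hτ1 (SF K A) (by rw [coe_SF]; exact hmono A)
    (by rw [coe_SF]; exact hA) (inducedIrrAbove K B) (hmono B)
    χ₁ (mem_SF.2 hχ₁) (by
      rintro ψ ⟨θ, hθ, -, -, rfl⟩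
      obtain ⟨m, hm, em⟩ := IsIrr.one_eq_nat hθ
      exact ⟨m, by rw [ind_one, h1, em, mul_comm]⟩) (by
      rintro ψ ⟨θ, hθ, hθ1, hk, rfl⟩ hnot
      have hs := sum_SF hK A
      rw [Finset.sum_congr rfl (g := fun φ => (φ 1).re ^ 2) (fun φ hφ => by
        rw [ci_irr_self (hirr φ (hmono A (mem_SF.1 hφ)))]; simp)] at hs
      rw [hs, ind_one, h1]
      obtain ⟨m, hm, em⟩ := IsIrr.one_eq_nat hθ
      have h2 := hdeg θ hθ hk (fun h => hnot (mem_SF.2 ⟨θ, hθ, hθ1, h, rfl⟩))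
      rw [em, Complex.natCast_re] at h2
      rw [em]
      have e1 : ((K.index : ℂ) * (m : ℂ)).re = (K.index : ℝ) * m := by
        have : ((K.index : ℂ) * (m : ℂ)) = (((K.index : ℝ) * m : ℝ) : ℂ) := by push_cast; ring
        rw [this, Complex.ofReal_re]
      rw [e1, Complex.natCast_re]
      have h3 : (0 : ℝ) < K.index := by exact_mod_cast Nat.pos_of_ne_zero Subgroup.index_ne_zero_of_finite
      nlinarith)
  exact hcoh.mono hB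

theorem chain (hnil : Group.IsNilpotent K) (H₁ : Subgroup L) [H₁.Normal] (hH₁K : H₁ < K)
    (hbase : Coh' (inducedIrrAbove K H₁) τ)
    (hstep : ∀ A B : Subgroup L, A.Normal → B.Normal → B < A → A ≤ H₁ → (∀ x ∈ A, ∀ y ∈ K, x * y * x⁻¹ * y⁻¹ ∈ B) →
      (∀ C : Subgroup L, C.Normal → B ≤ C → C < A → C = B) → ∀ θ : K → ℂ, IsIrrCharacter K θ →
      (∀ a : K, (a : L) ∈ B → θ a = θ 1) → ¬ (∀ a : K, (a : L) ∈ A → θ a = θ 1) →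
      2 * (K.index : ℝ) * (θ 1).re < (A.relIndex K : ℝ) - 1) : Coh' (inducedIrrAbove K ⊥) τ := by
  classical
  haveI := Fintype.ofFinite K
  haveI : ((⊥ : Subgroup L).subgroupOf K).Normal := inferInstance
  have hnil' : Group.IsNilpotent (↥K ⧸ (⊥ : Subgroup L).subgroupOf K) := inferInstance
  let 𝒜 : Set (Subgroup L) := {A | A.Normal ∧ A ≤ H₁ ∧ Coh' (inducedIrrAbove K A) τ}
  obtain ⟨A, hA, hAmin⟩ := (Set.toFinite 𝒜).exists_minimal ⟨H₁, inferInstance, le_rfl, hbase⟩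
  obtain ⟨hAn, hAH₁, hAcoh⟩ := hA
  by_cases hAM : A = ⊥
  · rw [← hAM]; exact hAcoh
  · exfalso
    have hlt : ⊥ < A := bot_lt_iff_ne_bot.2 hAM
    let ℬ : Set (Subgroup L) := {B | B.Normal ∧ B < A}
    obtain ⟨B, hB, hBmax⟩ := (Set.toFinite ℬ).exists_maximal ⟨⊥, inferInstance, hlt⟩
    obtain ⟨hBn, hBA⟩ := hB
    have hAK : A < K := lt_of_le_of_lt hAH₁ hH₁K
    have hAB : ⁅A, K⁆ ≤ B := by
      have hle : ⁅A, K⁆ ⊔ B ≤ A := sup_le (Subgroup.commutator_le_left A K) hBA.le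
      by_cases h : ⁅A, K⁆ ⊔ B = A
      · exfalso
        exact hBA.not_ge (nil_step hnil' bot_le hAK.le h.ge)
      · have h1 : ⁅A, K⁆ ⊔ B ∈ ℬ := ⟨inferInstance, lt_of_le_of_ne hle h⟩
        have h2 := hBmax h1 le_sup_right
        exact le_trans le_sup_left h2
    have hcohB := coh_step_irr hK hsolv hirr hτ hτ1 A B hAK hAcoh (hstep A B hAn hBn hBA hAH₁ (by
      intro x hx y hy
      exact hAB (Subgroup.commutator_mem_commutator hx hy)) (by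
      intro C hC hBC hCA
      exact le_antisymm (hBmax ⟨hC, hCA⟩ hBC) hBC))
    have h5 : B ∈ 𝒜 := ⟨hBn, hBA.le.trans hAH₁, hcohB⟩
    exact hBA.not_ge (hAmin h5 hBA.le)

/-- the case of a large commutator quotient -/
theorem big (hnil : Group.IsNilpotent K) (H₁ : Subgroup L) [H₁.Normal] (hH₁K : H₁ < K)
    (hbase : Coh' (inducedIrrAbove K H₁) τ) (hbig : 4 * K.index ^ 2 + 1 < H₁.relIndex K) : Coh' (inducedIrrAbove K ⊥) τ := by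
  haveI := Fintype.ofFinite K
  apply chain hK hsolv hirr hτ hτ1 hnil H₁ hH₁K hbase
  intro A B hA hB hBA hAH hcomm _ θ hθ hk _
  have h1 := deg_bound (K := K) (C := ⊤) (D := A.subgroupOf K) le_top hθ (fun x hx y _ => hk _ (hcomm x hx y y.2))
  rw [Subgroup.index_top, Subgroup.relIndex_top_right] at h1
  have h2 : (A.subgroupOf K).index = A.relIndex K := rfl
  rw [h2] at h1
  have h3 : H₁.relIndex K ≤ A.relIndex K := by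
    have e3 : A.relIndex H₁ * H₁.relIndex K = A.relIndex K := Subgroup.relIndex_mul_relIndex A H₁ K hAH hH₁K.le
    have p1 : 0 < A.relIndex H₁ := Nat.pos_of_ne_zero (Subgroup.index_ne_zero_of_finite (H := A.subgroupOf H₁))
    rw [← e3]
    exact Nat.le_mul_of_pos_left _ p1
  have h4 : (4 : ℝ) * (K.index : ℝ) ^ 2 + 2 ≤ A.relIndex K := by
    have : 4 * K.index ^ 2 + 2 ≤ A.relIndex K := by omega
    exact_mod_cast this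
  push_cast at h1
  rw [one_pow, one_mul] at h1
  have h6 : (2 * (K.index : ℝ) * (θ 1).re) ^ 2 < ((A.relIndex K : ℝ) - 1) ^ 2 := by
    have h8 : 0 ≤ (4 : ℝ) * (K.index : ℝ) ^ 2 := by positivity
    have h9 := mul_le_mul_of_nonneg_left h1 h8
    have h10 : (0 : ℝ) ≤ A.relIndex K := by positivity
    nlinarith
  exact lt_of_pow_lt_pow_left₀ 2 (by nlinarith [sq_nonneg (K.index : ℝ)]) h6

end Chain

end Cfsg.Agent.H10.CohI2
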