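import Mathlib
import Cfsg.Agent.H10_IndSet4

/-!
H10_IndSet5: coherence of sets of induced characters (Peterfalvi 6.5).
-/

set_option autoImplicit false
set_option linter.style.haveILetI false
set_option linter.unusedSectionVars false

namespace Cfsg.Agent.H10.IndSet5

open Cfsg Cfsg.Agent.H3.CharBasic Cfsg.Agent.H3.CharIrr Cfsg.Agent.H3.CharComplete
  Cfsg.Agent.H3.CharMult Cfsg.Agent.H3.CharInd Cfsg.Agent.H3.CharInt Cfsg.Agent.H3.Clifford Cfsg.Agent.H3.CharQuot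
  Cfsg.Agent.H10.OOClif Cfsg.Agent.H10.IndSet Cfsg.Agent.H10.IndSet2 Cfsg.Agent.H10.IndSet3 Cfsg.Agent.H10.IndSet4
  Cfsg.Agent.H10.Coh Cfsg.Agent.H10.Coh3 Cfsg.Agent.H10.Coh4
open scoped ComplexConjugate commutatorElement

section Grp

theorem dvd_of_stab {L X : Type*} [Group L] [Finite L] [MulAction L X] [Finite X] (K : Subgroup L)
    (h : ∀ x : X, MulAction.stabilizer L x = K) : K.index ∣ Nat.card X := by
  classical
  haveI : Fintype (MulAction.orbitRel.Quotient L X) := Fintype.ofFinite _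
  haveI : ∀ ω : MulAction.orbitRel.Quotient L X, Finite ω.orbit := fun ω => inferInstance
  have h1 : Nat.card X = ∑ ω : MulAction.orbitRel.Quotient L X, Nat.card ω.orbit := by
    rw [Nat.card_congr (MulAction.selfEquivSigmaOrbits' L X)]
    haveI : ∀ ω : MulAction.orbitRel.Quotient L X, Fintype ω.orbit := fun ω => Fintype.ofFinite _
    exact Nat.card_sigma
  rw [h1]
  apply Finset.dvd_sum
  intro ω _
  obtain ⟨x, rfl⟩ := Quotient.exists_rep ω
  have h2 : MulAction.orbitRel.Quotient.orbit (Quotient.mk (MulAction.orbitRel L X) x : MulAction.orbitRel.Quotient L X) = MulAction.orbit L x := rfl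
  rw [h2, ← h x]
  rw [Subgroup.index, ← Nat.card_congr (MulAction.orbitEquivQuotientStabilizer L x)]

variable {L : Type*} [Group L] [Finite L]

/-- sizes of sections in a Frobenius-like situation -/
theorem frob_dvd {K H₁ N : Subgroup L} [K.Normal] [H₁.Normal] [hN : N.Normal] (hH₁N : H₁ ≤ N) (hNK : N ≤ K)
    (hcomm : ∀ x ∈ K, ∀ y ∈ K, x * y * x⁻¹ * y⁻¹ ∈ H₁)
    (hfrob : ∀ k ∈ K, k ∉ H₁ → ∀ x : L, x * k * x⁻¹ * k⁻¹ ∈ H₁ → x ∈ K) :
    K.index ∣ H₁.relIndex N - 1 := by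
  classical
  let Q := L ⧸ H₁
  let X := {q : Q // q ∈ N.map (QuotientGroup.mk' H₁) ∧ q ≠ 1}
  letI : MulAction L X :=
    { smul := fun x q => ⟨(x : Q) * q.1 * (x : Q)⁻¹, by
        obtain ⟨⟨n, hn, hq⟩, hq1⟩ := q.2
        refine ⟨⟨x * n * x⁻¹, hN.conj_mem n hn x, ?_⟩, ?_⟩
        · rw [map_mul, map_mul, map_inv, hq]; rfl
        · intro h
          apply hq1
          have h1 : (x : Q) * q.1 * (x : Q)⁻¹ = (x : Q) * 1 * (x : Q)⁻¹ := by rw [h]; group
          exact mul_left_cancel (mul_right_cancel h1)⟩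
      one_smul := fun q => Subtype.ext (by
        show ((1 : L) : Q) * q.1 * ((1 : L) : Q)⁻¹ = q.1
        rw [QuotientGroup.mk_one]; group)
      mul_smul := fun x y q => Subtype.ext (by
        show ((x * y : L) : Q) * q.1 * ((x * y : L) : Q)⁻¹ = (x : Q) * ((y : Q) * q.1 * (y : Q)⁻¹) * (x : Q)⁻¹
        rw [QuotientGroup.mk_mul]; group) }
  have hstab : ∀ q : X, MulAction.stabilizer L q = K := by
    rintro ⟨q, ⟨n, hn, rfl⟩, hq1⟩
    have hn1 : n ∉ H₁ := fun h => hq1 ((QuotientGroup.eq_one_iff n).2 h)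
    have key : ∀ x : L, x ∈ MulAction.stabilizer L (⟨QuotientGroup.mk' H₁ n, ⟨n, hn, rfl⟩, hq1⟩ : X) ↔ x * n * x⁻¹ * n⁻¹ ∈ H₁ := by
      intro x
      rw [MulAction.mem_stabilizer_iff]
      constructor
      · intro h
        have h1 : (x : Q) * (n : Q) * (x : Q)⁻¹ = (n : Q) := congrArg Subtype.val h
        rw [← QuotientGroup.eq_one_iff]
        have h2 : ((x * n * x⁻¹ * n⁻¹ : L) : Q) = (x : Q) * (n : Q) * (x : Q)⁻¹ * (n : Q)⁻¹ := rfl
        rw [h2, h1]; group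
      · intro h
        apply Subtype.ext
        show (x : Q) * (n : Q) * (x : Q)⁻¹ = (n : Q)
        rw [← QuotientGroup.eq_one_iff] at h
        have h2 : ((x * n * x⁻¹ * n⁻¹ : L) : Q) = (x : Q) * (n : Q) * (x : Q)⁻¹ * (n : Q)⁻¹ := rfl
        rw [h2] at h
        exact mul_inv_eq_one.1 h
    ext x
    rw [key]
    exact ⟨hfrob n (hNK hn) hn1 x, fun hx => hcomm x hx n (hNK hn)⟩
  have h1 := dvd_of_stab K hstab
  have h2 : Nat.card X = H₁.relIndex N - 1 := by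
    have h3 : Nat.card (N.map (QuotientGroup.mk' H₁)) = H₁.relIndex N := by
      have h4 := Subgroup.relIndex_ker (QuotientGroup.mk' H₁) (K := N)
      rw [QuotientGroup.ker_mk'] at h4
      exact h4.symm
    haveI := Fintype.ofFinite (N.map (QuotientGroup.mk' H₁))
    have h5 : Nat.card {y : N.map (QuotientGroup.mk' H₁) // y ≠ 1} = Nat.card (N.map (QuotientGroup.mk' H₁)) - 1 := by
      rw [Nat.card_eq_fintype_card, Nat.card_eq_fintype_card, Fintype.card_subtype_compl]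
      simp
    rw [← h3, ← h5]
    exact Nat.card_congr ⟨fun q => ⟨⟨q.1, q.2.1⟩, fun h => q.2.2 (congrArg Subtype.val h)⟩,
      fun y => ⟨y.1.1, y.1.2, fun h => y.2 (Subtype.ext h)⟩, fun _ => rfl, fun _ => rfl⟩
  rw [← h2]; exact h1

/-- the `p`-part between `H₁` and `K` -/
theorem exists_mid {K H₁ : Subgroup L} [hK : K.Normal] [hH : H₁.Normal] (hH₁K : H₁ ≤ K)
    (hcomm : ∀ x ∈ K, ∀ y ∈ K, x * y * x⁻¹ * y⁻¹ ∈ H₁) {p q : ℕ} (hp : p.Prime) (hq : q.Prime) (hpq : p ≠ q)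
    (h1 : p ∣ H₁.relIndex K) (h2 : q ∣ H₁.relIndex K) : ∃ N : Subgroup L, N.Normal ∧ H₁ < N ∧ N < K := by
  classical
  let Q := L ⧸ H₁
  have hcommQ : ∀ x ∈ K, ∀ y ∈ K, Commute (x : Q) (y : Q) := by
    intro x hx y hy
    have h3 := hcomm x hx y hy
    rw [← QuotientGroup.eq_one_iff] at h3
    have h4 : ((x * y * x⁻¹ * y⁻¹ : L) : Q) = (x : Q) * (y : Q) * (x : Q)⁻¹ * (y : Q)⁻¹ := rfl
    rw [h4] at h3
    show (x : Q) * (y : Q) = (y : Q) * (x : Q)
    exact mul_inv_eq_iff_eq_mul.1 (mul_inv_eq_one.1 h3)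
  let N : Subgroup L :=
    { carrier := {x | x ∈ K ∧ ∃ n : ℕ, x ^ (p ^ n) ∈ H₁}
      one_mem' := ⟨K.one_mem, 0, by simp [H₁.one_mem]⟩
      mul_mem' := by
        rintro x y ⟨hx, m, hm⟩ ⟨hy, n, hn⟩
        refine ⟨K.mul_mem hx hy, m + n, ?_⟩
        rw [← QuotientGroup.eq_one_iff] at hm hn ⊢
        have e : (((x * y) ^ (p ^ (m + n)) : L) : Q) = ((x : Q) * (y : Q)) ^ (p ^ (m + n)) := rfl
        have em : (x : Q) ^ (p ^ m) = 1 := hm
        have en : (y : Q) ^ (p ^ n) = 1 := hn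
        rw [e, (hcommQ x hx y hy).mul_pow]
        have e1 : (x : Q) ^ (p ^ (m + n)) = 1 := by rw [pow_add, pow_mul, em, one_pow]
        have e2 : (y : Q) ^ (p ^ (m + n)) = 1 := by rw [pow_add, mul_comm, pow_mul, en, one_pow]
        rw [e1, e2, one_mul]
      inv_mem' := by
        rintro x ⟨hx, m, hm⟩
        exact ⟨K.inv_mem hx, m, by rw [inv_pow]; exact H₁.inv_mem hm⟩ }
  have hcard : Nat.card (K.map (QuotientGroup.mk' H₁)) = H₁.relIndex K := by
    have h4 := Subgroup.relIndex_ker (QuotientGroup.mk' H₁) (K := K)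
    rw [QuotientGroup.ker_mk'] at h4
    exact h4.symm
  have hex : ∀ r : ℕ, r.Prime → r ∣ H₁.relIndex K → ∃ x ∈ K, x ∉ H₁ ∧ x ^ r ∈ H₁ := by
    intro r hr hd
    haveI := Fact.mk hr
    rw [← hcard] at hd
    obtain ⟨⟨y, ⟨x, hx, rfl⟩⟩, hy⟩ := exists_prime_orderOf_dvd_card' (G := K.map (QuotientGroup.mk' H₁)) r hd
    rw [← Subgroup.orderOf_coe] at hy
    have hy' : orderOf (QuotientGroup.mk' H₁ x) = r := hy
    clear hy
    refine ⟨x, hx, ?_, ?_⟩
    · intro h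
      have : QuotientGroup.mk' H₁ x = 1 := (QuotientGroup.eq_one_iff x).2 h
      rw [this, orderOf_one] at hy'
      exact hr.one_lt.ne hy'
    · rw [← QuotientGroup.eq_one_iff]
      have e : ((x ^ r : L) : Q) = (QuotientGroup.mk' H₁ x) ^ r := rfl
      rw [e, ← hy', pow_orderOf_eq_one]
  refine ⟨N, ⟨?_⟩, ?_, ?_⟩
  · rintro x ⟨hx, m, hm⟩ g
    refine ⟨hK.conj_mem x hx g, m, ?_⟩
    rw [conj_pow]
    exact hH.conj_mem _ hm g
  · obtain ⟨x, hx, hx1, hxp⟩ := hex p hp h1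
    refine lt_of_le_of_ne (fun y hy => ⟨hH₁K hy, 0, by simpa using hy⟩) ?_
    intro h
    apply hx1
    rw [h]
    exact ⟨hx, 1, by rw [pow_one]; exact hxp⟩
  · obtain ⟨x, hx, hx1, hxq⟩ := hex q hq h2
    refine lt_of_le_of_ne (fun y hy => hy.1) ?_
    intro h
    have h3 : x ∈ N := by rw [h]; exact hx
    obtain ⟨-, m, hm⟩ := h3
    apply hx1
    have hcop : Nat.Coprime (p ^ m) q := Nat.Coprime.pow_left m ((Nat.coprime_primes hp hq).2 hpq)
    rw [← QuotientGroup.eq_one_iff] at hm hxq ⊢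
    have em : (x : Q) ^ (p ^ m) = 1 := hm
    have eq' : (x : Q) ^ q = 1 := hxq
    have h4 := pow_gcd_eq_one.2 ⟨em, eq'⟩
    rw [hcop.gcd_eq_one, pow_one] at h4
    exact h4

end Grp

end Cfsg.Agent.H10.IndSet5
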