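import Mathlib
import Cfsg.Agent.H10_IndSet5

/-!
H10_IndSet6: coherence of sets of induced characters (Peterfalvi 6.5).
-/

set_option autoImplicit false
set_option linter.style.haveILetI false
set_option linter.unusedSectionVars false

namespace Cfsg.Agent.H10.IndSet6

open Cfsg Cfsg.Agent.H3.CharBasic Cfsg.Agent.H3.CharIrr Cfsg.Agent.H3.CharComplete
  Cfsg.Agent.H3.CharMult Cfsg.Agent.H3.CharInd Cfsg.Agent.H3.CharInt Cfsg.Agent.H3.Clifford Cfsg.Agent.H3.CharQuot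
  Cfsg.Agent.H10.OOClif Cfsg.Agent.H10.IndSet Cfsg.Agent.H10.IndSet2 Cfsg.Agent.H10.IndSet3 Cfsg.Agent.H10.IndSet4
  Cfsg.Agent.H10.IndSet5 Cfsg.Agent.H10.Coh Cfsg.Agent.H10.Coh3 Cfsg.Agent.H10.Coh4
open scoped ComplexConjugate commutatorElement

section Grp

/-- a nilpotent group has a nontrivial abelian `p`-quotient for every prime divisor of its order -/
theorem exists_ab_quot {Q : Type*} [Group Q] [Finite Q] (hnil : Group.IsNilpotent Q) {p : ℕ} (hp : p.Prime)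
    (hd : p ∣ Nat.card Q) : ∃ N : Subgroup Q, N.Normal ∧ p ∣ N.index ∧ ∀ x y : Q, x * y * x⁻¹ * y⁻¹ ∈ N := by
  classical
  haveI := Fact.mk hp
  obtain ⟨e⟩ := (isNilpotent_of_finite_tfae (G := Q)).out 0 4 |>.1 hnil
  have hpm : p ∈ (Nat.card Q).primeFactors := Nat.mem_primeFactors.2 ⟨hp, hd, Nat.card_pos.ne'⟩
  obtain ⟨P⟩ : Nonempty (Sylow p Q) := inferInstance
  let f : Q →* P := ((Pi.evalMonoidHom (fun P : Sylow p Q => (P : Subgroup Q)) P).comp
    (Pi.evalMonoidHom (fun p : (Nat.card Q).primeFactors => ∀ P : Sylow p Q, (P : Subgroup Q)) ⟨p, hpm⟩)).comp e.symm.toMonoidHom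
  have hf : Function.Surjective f := by
    intro y
    refine ⟨e (Function.update 1 (⟨p, hpm⟩ : (Nat.card Q).primeFactors) (Function.update 1 P y)), ?_⟩
    show (e.symm (e (Function.update 1 (⟨p, hpm⟩ : (Nat.card Q).primeFactors) (Function.update 1 P y)))) ⟨p, hpm⟩ P = y
    rw [MulEquiv.symm_apply_apply, Function.update_self, Function.update_self]
  have hPnt : Nontrivial P := by
    rw [← Finite.one_lt_card_iff_nontrivial, Sylow.card_eq_multiplicity]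
    exact Nat.one_lt_pow (hp.factorization_pos_of_dvd Nat.card_pos.ne' hd).ne' hp.one_lt
  have hPnil : Group.IsNilpotent P := P.2.isNilpotent
  haveI : Group.IsSolvable P := inferInstance
  have hlt := IsSolvable.commutator_lt_top_of_nontrivial P
  let g : Q →* Abelianization P := (Abelianization.of).comp f
  have hg : Function.Surjective g := by
    intro y
    obtain ⟨z, rfl⟩ := QuotientGroup.mk_surjective y
    obtain ⟨x, rfl⟩ := hf z
    exact ⟨x, rfl⟩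
  refine ⟨g.ker, inferInstance, ?_, fun x y => ?_⟩
  · rw [Subgroup.index_ker, MonoidHom.range_eq_top.2 hg, Subgroup.card_top]
    have h1 : IsPGroup p (Abelianization P) := P.2.to_quotient _
    obtain ⟨n, hn⟩ := IsPGroup.iff_card.1 h1
    rw [hn]
    apply dvd_pow_self
    rintro rfl
    rw [pow_zero] at hn
    apply hlt.ne
    have : (commutator P).index = 1 := hn
    exact Subgroup.index_eq_one.1 this
  · rw [MonoidHom.mem_ker, map_mul, map_mul, map_mul, map_inv, map_inv]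
    rw [mul_comm (g x) (g y)]; group

end Grp

section

variable {L : Type*} [Group L] [Finite L]

/-- primes dividing a nilpotent section divide its abelianization -/
theorem prime_dvd {K M H₁ : Subgroup L} [(M.subgroupOf K).Normal]
    (hnil : Group.IsNilpotent (↥K ⧸ M.subgroupOf K)) (hH₁ : H₁ = ⁅K, K⁆ ⊔ M) (hMK : M ≤ K) {p : ℕ} (hp : p.Prime)
    (hd : p ∣ M.relIndex K) : p ∣ H₁.relIndex K := by
  obtain ⟨N, hN, hpN, hcomm⟩ := exists_ab_quot hnil hp (by rw [← Subgroup.index]; exact hd)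
  let T : Subgroup L := (N.comap (QuotientGroup.mk' (M.subgroupOf K))).map K.subtype
  have hle : H₁ ≤ T := by
    rw [hH₁]
    refine sup_le ?_ ?_
    · rw [Subgroup.commutator_le]
      intro x hx y hy
      refine ⟨⟨x, hx⟩ * ⟨y, hy⟩ * ⟨x, hx⟩⁻¹ * ⟨y, hy⟩⁻¹, ?_, rfl⟩
      exact hcomm (QuotientGroup.mk' _ ⟨x, hx⟩) (QuotientGroup.mk' _ ⟨y, hy⟩)
    · intro x hx
      refine ⟨⟨x, hMK hx⟩, ?_, rfl⟩
      have h1 : QuotientGroup.mk' (M.subgroupOf K) ⟨x, hMK hx⟩ = 1 := (QuotientGroup.eq_one_iff _).2 hx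
      show QuotientGroup.mk' (M.subgroupOf K) ⟨x, hMK hx⟩ ∈ N
      rw [h1]; exact N.one_mem
  have h2 : (H₁.subgroupOf K) ≤ N.comap (QuotientGroup.mk' (M.subgroupOf K)) := by
    intro x hx
    obtain ⟨y, hy, e⟩ := hle (Subgroup.mem_subgroupOf.1 hx)
    have : y = x := Subtype.ext e
    rw [← this]; exact hy
  have h3 := Subgroup.index_dvd_of_le h2
  rw [Subgroup.index_comap_of_surjective _ (QuotientGroup.mk'_surjective _)] at h3
  exact hpN.trans h3

/-- a nonabelian nilpotent section has noncyclic abelianization -/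
theorem not_prime {K M H₁ : Subgroup L} [K.Normal] [M.Normal] [(M.subgroupOf K).Normal]
    (hnil : Group.IsNilpotent (↥K ⧸ M.subgroupOf K)) (hH₁ : H₁ = ⁅K, K⁆ ⊔ M) (hH₁K : H₁ ≤ K)
    (hna : ¬ ⁅K, K⁆ ≤ M) (p : ℕ) (hp : p.Prime) : H₁.relIndex K ≠ p := by
  intro hidx
  haveI := Fact.mk hp
  apply hna
  haveI hH₁n : H₁.Normal := by rw [hH₁]; infer_instance
  -- K/H₁ is cyclic
  have hcyc : IsCyclic (K ⧸ H₁.subgroupOf K) := isCyclic_of_prime_card (p := p) hidx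
  obtain ⟨q, hq⟩ := hcyc.exists_generator
  obtain ⟨x, rfl⟩ := QuotientGroup.mk_surjective q
  have hgen : ∀ a ∈ K, ∃ i : ℤ, ∃ h ∈ H₁, a = (x : L) ^ i * h := by
    intro a ha
    obtain ⟨i, hi⟩ := Subgroup.mem_zpowers_iff.1 (hq (QuotientGroup.mk ⟨a, ha⟩))
    refine ⟨i, (x : L) ^ (-i) * a, ?_, by group⟩
    have h1 : ((x ^ i : K) : K ⧸ H₁.subgroupOf K) = ((⟨a, ha⟩ : K) : K ⧸ H₁.subgroupOf K) := hi
    rw [QuotientGroup.eq] at h1
    have h2 := Subgroup.mem_subgroupOf.1 h1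
    simpa using h2
  -- [K,K] ≤ [H₁,K]
  have hle : ⁅K, K⁆ ≤ ⁅H₁, K⁆ := by
    rw [Subgroup.commutator_le]
    intro a ha b hb
    obtain ⟨i, h, hh, rfl⟩ := hgen a ha
    obtain ⟨j, h', hh', rfl⟩ := hgen b hb
    haveI : (⁅H₁, K⁆ : Subgroup L).Normal := inferInstance
    rw [← QuotientGroup.eq_one_iff]
    have hcen : ∀ u ∈ H₁, ∀ v ∈ K, Commute (u : L ⧸ ⁅H₁, K⁆) (v : L ⧸ ⁅H₁, K⁆) := by
      intro u hu v hv
      have h3 : ((⁅u, v⁆ : L) : L ⧸ ⁅H₁, K⁆) = 1 := (QuotientGroup.eq_one_iff _).2 (Subgroup.commutator_mem_commutator hu hv)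
      have h4 : ((⁅u, v⁆ : L) : L ⧸ ⁅H₁, K⁆) = (u : L ⧸ ⁅H₁, K⁆) * v * (u : L ⧸ ⁅H₁, K⁆)⁻¹ * (v : L ⧸ ⁅H₁, K⁆)⁻¹ := rfl
      rw [h4] at h3
      exact mul_inv_eq_iff_eq_mul.1 (mul_inv_eq_one.1 h3)
    have hxK : ∀ k : ℤ, (x : L) ^ k ∈ K := fun k => K.zpow_mem x.2 k
    have c1 : Commute ((h : L) : L ⧸ ⁅H₁, K⁆) (((x : L) ^ j : L) : L ⧸ ⁅H₁, K⁆) := hcen h hh _ (hxK j)
    have c2 : Commute ((h : L) : L ⧸ ⁅H₁, K⁆) ((h' : L) : L ⧸ ⁅H₁, K⁆) := hcen h hh _ (hH₁K hh')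
    have c3 : Commute ((h' : L) : L ⧸ ⁅H₁, K⁆) (((x : L) ^ i : L) : L ⧸ ⁅H₁, K⁆) := hcen h' hh' _ (hxK i)
    have c4 : Commute ((((x : L) ^ i : L) : L ⧸ ⁅H₁, K⁆)) (((x : L) ^ j : L) : L ⧸ ⁅H₁, K⁆) := by
      have : Commute ((x : L) ^ i) ((x : L) ^ j) := Commute.zpow_zpow_self _ _ _
      exact this.map (QuotientGroup.mk' ⁅H₁, K⁆)
    have c5 : Commute ((((x : L) ^ i : L) : L ⧸ ⁅H₁, K⁆) * (h : L)) ((((x : L) ^ j : L) : L ⧸ ⁅H₁, K⁆) * (h' : L)) :=
      (Commute.mul_right c4 c3.symm).mul_left (Commute.mul_right c1 c2)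
    have h5 : ((⁅(x : L) ^ i * h, (x : L) ^ j * h'⁆ : L) : L ⧸ ⁅H₁, K⁆) =
      ((((x : L) ^ i : L) : L ⧸ ⁅H₁, K⁆) * (h : L)) * ((((x : L) ^ j : L) : L ⧸ ⁅H₁, K⁆) * (h' : L)) *
      ((((x : L) ^ i : L) : L ⧸ ⁅H₁, K⁆) * (h : L))⁻¹ * ((((x : L) ^ j : L) : L ⧸ ⁅H₁, K⁆) * (h' : L))⁻¹ := rfl
    rw [h5, c5.eq]; group
  have h6 : H₁ ≤ ⁅H₁, K⁆ ⊔ M := by
    conv_lhs => rw [hH₁]
    exact sup_le (hle.trans le_sup_left) le_sup_right
  have h7 := nil_step hnil (A := H₁) (B := M) le_rfl hH₁K h6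
  rw [hH₁] at h7
  exact le_sup_left.trans h7

end

section Coh

variable {L : Type*} [Group L] [Fintype L] {K : Subgroup L}
variable {G : Type*} [Group G] [Fintype G] {τ : (L → ℂ) → (G → ℂ)} {R : (L → ℂ) → Finset (G → ℂ)}

theorem restrict_system {S S' : Set (L → ℂ)} (hS : IsCoherenceSystem S τ R) (hsub : S' ⊆ S) (hne : S'.Nonempty)
    (hc : ∀ φ ∈ S', conjFun φ ∈ S') : IsCoherenceSystem S' τ R where
  nonempty := hne
  isCharacter := fun χ h => hS.isCharacter χ (hsub h)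
  conj_mem := hc
  conj_ne := fun χ h => hS.conj_ne χ (hsub h)
  isometry := iso_mono hS.isometry (fun x hx => zo_mono hsub hx)
  map_one := fun α h => hS.map_one α (zo_mono hsub h)
  orthogonal := fun χ h φ h' => hS.orthogonal χ (hsub h) φ (hsub h')
  orthonormal := fun χ h => hS.orthonormal χ (hsub h)
  virtual := fun χ h => hS.virtual χ (hsub h)
  sum_eq := fun χ h => hS.sum_eq χ (hsub h)
  disjoint := fun χ h φ h' => hS.disjoint χ (hsub h) φ (hsub h')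

/-- the abelian case -/
theorem coh_ab (hsolv : Group.IsSolvable K)
    (hS : IsCoherenceSystem (inducedIrrAbove K ⊥) τ R) (H₁ : Subgroup L) [H₁.Normal] (hH₁K : H₁ < K)
    (hcomm : ∀ x ∈ K, ∀ y ∈ K, x * y * x⁻¹ * y⁻¹ ∈ H₁) : IsCoherent (inducedIrrAbove K H₁) {1}ᶜ τ := by
  haveI := Fintype.ofFinite K
  have h1 := restrict_system hS (S' := inducedIrrAbove K H₁) (fun x hx => SF_mono bot_le hx) (above_nonempty hsolv hH₁K)
    (fun φ hφ => conj_mem_above hφ)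
  apply Cfsg.Agent.H10.Coh6.equal_deg h1
  have key : ∀ φ ∈ inducedIrrAbove K H₁, φ 1 = (K.index : ℂ) := by
    rintro φ ⟨θ, hθ, -, hk, rfl⟩
    rw [ind_one]
    have h2 := deg_bound (K := K) (C := ⊤) (D := ⊤) le_rfl hθ (fun x _ y _ => hk _ (hcomm x x.2 y y.2))
    rw [Subgroup.index_top, Subgroup.relIndex_self] at h2
    obtain ⟨m, hm, em⟩ := IsIrr.one_eq_nat hθ
    rw [em, Complex.natCast_re] at h2
    have h3 : m ^ 2 ≤ 1 := by
      have : (m : ℝ) ^ 2 ≤ 1 := by simpa using h2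
      exact_mod_cast this
    have h4 : m = 1 := by nlinarith
    rw [em, h4]; simp
  intro φ hφ ψ hψ
  rw [key φ hφ, key ψ hψ]

/-- Peterfalvi (6.5) -/
theorem coh_65 (hK : K.Normal) (hsolv : Group.IsSolvable K)
    (hS : IsCoherenceSystem (inducedIrrAbove K ⊥) τ R) (hodd : Odd (Nat.card L)) (M : Subgroup L) [M.Normal]
    (hMK : M ≤ K) [(M.subgroupOf K).Normal] (hnil : Group.IsNilpotent (↥K ⧸ M.subgroupOf K)) (H₁ : Subgroup L)
    (hH₁ : H₁ = ⁅K, K⁆ ⊔ M) (hH₁K : H₁ < K) (hKL : K < ⊤)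
    (hfrob : ∀ k ∈ K, k ∉ H₁ → ∀ x : L, x * k * x⁻¹ * k⁻¹ ∈ H₁ → x ∈ K)
    (hgood : (∃ N : Subgroup L, N.Normal ∧ H₁ < N ∧ N < K) ∨ 4 * K.index ^ 2 + 1 < H₁.relIndex K ∨
      (¬ ∃ p m : ℕ, p.Prime ∧ M.relIndex K = p ^ m) ∨ ⁅K, K⁆ ≤ M ∨
      (∃ p m : ℕ, p.Prime ∧ M.relIndex K = p ^ m ∧ K.index ∣ p - 1)) : IsCoherent (inducedIrrAbove K M) {1}ᶜ τ := by
  classical
  haveI hH₁n : H₁.Normal := by rw [hH₁]; infer_instance
  have hcomm : ∀ x ∈ K, ∀ y ∈ K, x * y * x⁻¹ * y⁻¹ ∈ H₁ := by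
    intro x hx y hy
    rw [hH₁]
    exact Subgroup.mem_sup_left (Subgroup.commutator_mem_commutator hx hy)
  have hMH₁ : M ≤ H₁ := by rw [hH₁]; exact le_sup_right
  have hcohH₁ := coh_ab hsolv hS H₁ hH₁K hcomm
  have hodd' : ∀ {n : ℕ}, n ∣ Nat.card L → Odd n := fun h => hodd.of_dvd_nat h
  have he : Odd K.index := hodd' K.index_dvd_card
  have he0 : 0 < K.index := Nat.pos_of_ne_zero Subgroup.index_ne_zero_of_finite
  -- the key bound suffices
  have hb : 4 * K.index ^ 2 + 1 < H₁.relIndex K → IsCoherent (inducedIrrAbove K M) {1}ᶜ τ := fun h =>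
    coh_63 hK hsolv hS M H₁ K hMH₁ hH₁K.le le_rfl hnil hcohH₁ h
  have hoddrel : ∀ {A B : Subgroup L}, Odd (A.relIndex B) := by
    intro A B
    exact hodd' ((Subgroup.relIndex_dvd_card A B).trans (Subgroup.card_subgroup_dvd_card B))
  have hge : ∀ {A B : Subgroup L}, A < B → K.index ∣ A.relIndex B - 1 → 2 * K.index + 1 ≤ A.relIndex B := by
    intro A B hAB hd
    have h1 : A.relIndex B ≠ 1 := fun h => hAB.not_ge (Subgroup.relIndex_eq_one.1 h)
    have h0 : A.relIndex B ≠ 0 := Subgroup.index_ne_zero_of_finite (H := A.subgroupOf B)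
    obtain ⟨r, hr⟩ := hoddrel (A := A) (B := B)
    have h2 : 2 * K.index ∣ A.relIndex B - 1 := by
      apply Nat.Coprime.mul_dvd_of_dvd_of_dvd _ _ hd
      · exact (Nat.coprime_two_left).2 he
      · rw [hr]; exact ⟨r, by omega⟩
    have h3 := Nat.le_of_dvd (by omega) h2
    omega
  have ha : (∃ N : Subgroup L, N.Normal ∧ H₁ < N ∧ N < K) → IsCoherent (inducedIrrAbove K M) {1}ᶜ τ := by
    rintro ⟨N, hN, hN1, hN2⟩
    apply hb
    have d1 : K.index ∣ H₁.relIndex N - 1 := frob_dvd hN1.le hN2.le hcomm hfrob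
    have d2 : K.index ∣ H₁.relIndex K - 1 := frob_dvd hH₁K.le le_rfl hcomm hfrob
    have hmul : H₁.relIndex N * N.relIndex K = H₁.relIndex K := Subgroup.relIndex_mul_relIndex H₁ N K hN1.le hN2.le
    have p1 : 1 ≤ H₁.relIndex N := Nat.pos_of_ne_zero (Subgroup.index_ne_zero_of_finite (H := H₁.subgroupOf N))
    have p2 : 1 ≤ N.relIndex K := Nat.pos_of_ne_zero (Subgroup.index_ne_zero_of_finite (H := N.subgroupOf K))
    have p3 : 1 ≤ H₁.relIndex K := Nat.pos_of_ne_zero (Subgroup.index_ne_zero_of_finite (H := H₁.subgroupOf K))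
    have d3 : K.index ∣ N.relIndex K - 1 := by
      have m1 : H₁.relIndex N ≡ 1 [MOD K.index] := ((Nat.modEq_iff_dvd' p1).2 d1).symm
      have m2 : H₁.relIndex K ≡ 1 [MOD K.index] := ((Nat.modEq_iff_dvd' p3).2 d2).symm
      rw [← hmul] at m2
      have m3 : N.relIndex K ≡ 1 [MOD K.index] := by
        calc N.relIndex K = 1 * N.relIndex K := (one_mul _).symm
          _ ≡ H₁.relIndex N * N.relIndex K [MOD K.index] := (m1.symm.mul_right _)
          _ ≡ 1 [MOD K.index] := m2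
      exact (Nat.modEq_iff_dvd' p2).1 m3.symm
    have g1 := hge hN1 d1
    have g2 := hge hN2 d3
    rw [← hmul]
    calc 4 * K.index ^ 2 + 1 < (2 * K.index + 1) * (2 * K.index + 1) := by nlinarith
      _ ≤ _ := Nat.mul_le_mul g1 g2
  have hd : ⁅K, K⁆ ≤ M → IsCoherent (inducedIrrAbove K M) {1}ᶜ τ := by
    intro h
    have : H₁ = M := by rw [hH₁]; exact sup_eq_right.2 h
    rw [← this]; exact hcohH₁
  rcases hgood with h | h | h | h | h
  · exact ha h
  · exact hb h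
  · -- not a prime power
    have hMne : M.relIndex K ≠ 0 := Subgroup.index_ne_zero_of_finite (H := M.subgroupOf K)
    have hne1 : M.relIndex K ≠ 1 := fun h1 => h ⟨2, 0, Nat.prime_two, by rw [h1]; rfl⟩
    obtain ⟨p, hp, hpd⟩ := Nat.exists_prime_and_dvd hne1
    obtain ⟨q, hq, hqp, hqd⟩ : ∃ q : ℕ, q.Prime ∧ q ≠ p ∧ q ∣ M.relIndex K := by
      by_contra hno
      push Not at hno
      apply h
      refine ⟨p, (M.relIndex K).primeFactorsList.length, hp, ?_⟩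
      apply Nat.eq_prime_pow_of_unique_prime_dvd hMne
      intro d hd hdd
      by_contra hne
      exact hno d hd hne hdd
    exact ha (exists_mid hH₁K.le hcomm hp hq (Ne.symm hqp) (prime_dvd hnil hH₁ hMK hp hpd) (prime_dvd hnil hH₁ hMK hq hqd))
  · exact hd h
  · obtain ⟨p, m, hp, hpm, hdp⟩ := h
    by_cases hna : ⁅K, K⁆ ≤ M
    · exact hd hna
    · apply hb
      have hdv : H₁.relIndex K ∣ p ^ m := by
        rw [← hpm]
        exact Subgroup.relIndex_dvd_of_le_left K hMH₁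
      obtain ⟨j, hj, ej⟩ := (Nat.dvd_prime_pow hp).1 hdv
      have hj0 : j ≠ 0 := by
        rintro rfl
        rw [pow_zero] at ej
        exact hH₁K.not_ge (Subgroup.relIndex_eq_one.1 ej)
      have hj1 : j ≠ 1 := by
        rintro rfl
        rw [pow_one] at ej
        exact not_prime hnil hH₁ hH₁K.le hna p hp ej
      have hpo : Odd p := by
        have : p ∣ H₁.relIndex K := by rw [ej]; exact dvd_pow_self p hj0
        exact (hoddrel (A := H₁) (B := K)).of_dvd_nat this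
      have hp1 : 2 * K.index + 1 ≤ p := by
        obtain ⟨r, hr⟩ := hpo
        have h2 : 2 * K.index ∣ p - 1 := by
          apply Nat.Coprime.mul_dvd_of_dvd_of_dvd _ _ hdp
          · exact (Nat.coprime_two_left).2 he
          · rw [hr]; exact ⟨r, by omega⟩
        have h3 := Nat.le_of_dvd (by have := hp.two_le; omega) h2
        have := hp.two_le
        omega
      rw [ej]
      calc 4 * K.index ^ 2 + 1 < (2 * K.index + 1) ^ 2 := by nlinarith
        _ ≤ p ^ 2 := Nat.pow_le_pow_left hp1 2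
        _ ≤ p ^ j := Nat.pow_le_pow_right hp.pos (by omega)

end Coh

end Cfsg.Agent.H10.IndSet6
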