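import Mathlib

set_option autoImplicit false

/-!
Fixed-point-free automorphisms of finite groups; minimal invariant normal subgroups of
solvable groups.
-/

namespace Cfsg.Agent.H22.FPF

open Subgroup

theorem map_eq_of_forall_mem {G : Type*} [Group G] [Finite G] {σ : MulAut G} {H : Subgroup G}
    (h : ∀ x ∈ H, σ x ∈ H) : H.map σ.toMonoidHom = H := by
  have hle : H.map σ.toMonoidHom ≤ H := by
    rintro _ ⟨x, hx, rfl⟩
    exact h x hx
  apply SetLike.coe_injective
  apply Set.eq_of_subset_of_ncard_le hle _ (Set.toFinite _)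
  have := Subgroup.card_map_of_injective (K := H) (f := σ.toMonoidHom) σ.injective
  exact this.ge

theorem map_mem_iff {G : Type*} [Group G] {σ : MulAut G} {H : Subgroup G}
    (h : H.map σ.toMonoidHom = H) (x : G) : σ x ∈ H ↔ x ∈ H := by
  constructor
  · intro hx
    rw [← h] at hx
    obtain ⟨w, hw, hw'⟩ := hx
    exact σ.injective hw' ▸ hw
  · intro hx
    rw [← h]; exact ⟨x, hx, rfl⟩

/-- the centralizer of an invariant subgroup is invariant -/
theorem map_centralizer {G : Type*} [Group G] {σ : MulAut G} {V : Subgroup G}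
    (h : V.map σ.toMonoidHom = V) :
    (centralizer (V : Set G)).map σ.toMonoidHom = centralizer (V : Set G) := by
  apply Subgroup.ext
  intro x
  constructor
  · rintro ⟨c, hc, rfl⟩
    rw [mem_centralizer_iff]
    intro v hv
    have hv' : σ (σ.symm v) = v := σ.apply_symm_apply v
    have h1 : σ.symm v ∈ V := (map_mem_iff h _).mp (by rw [hv']; exact hv)
    have h2 := mem_centralizer_iff.mp hc _ h1
    show v * σ c = σ c * v
    rw [← hv', ← map_mul, h2, map_mul]
  · intro hx
    refine ⟨σ.symm x, ?_, σ.apply_symm_apply x⟩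
    rw [SetLike.mem_coe, mem_centralizer_iff]
    intro v hv
    have h2 := mem_centralizer_iff.mp hx (σ v) ((map_mem_iff h _).mpr hv)
    apply σ.injective
    rw [map_mul, map_mul, σ.apply_symm_apply]
    exact h2

/-- if `σ` is fixed-point-free then `g ↦ g⁻¹ σ(g)` is injective -/
theorem inv_mul_injective {G : Type*} [Group G] {σ : MulAut G} (hf : ∀ g : G, σ g = g → g = 1) :
    Function.Injective (fun g : G => g⁻¹ * σ g) := by
  intro a b hab
  simp only at hab
  have h1 : σ (a * b⁻¹) = a * b⁻¹ := by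
    rw [map_mul, map_inv]
    have h2 : σ a = a * (b⁻¹ * σ b) := by rw [← hab]; group
    rw [h2]; group
  have := hf _ h1
  exact mul_inv_eq_one.mp this

/-- if `σ` is fixed-point-free on a finite group then `g ↦ g⁻¹ σ(g)` is surjective -/
theorem exists_inv_mul {G : Type*} [Group G] [Finite G] {σ : MulAut G}
    (hf : ∀ g : G, σ g = g → g = 1) (x : G) : ∃ g : G, g⁻¹ * σ g = x :=
  (Finite.injective_iff_surjective.mp (inv_mul_injective hf)) x

theorem exists_mul_inv {G : Type*} [Group G] [Finite G] {σ : MulAut G}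
    (hf : ∀ g : G, σ g = g → g = 1) (x : G) : ∃ g : G, g * (σ g)⁻¹ = x := by
  obtain ⟨g, hg⟩ := exists_inv_mul hf x
  exact ⟨g⁻¹, by rw [map_inv, inv_inv]; exact hg⟩

theorem exists_inv_mul_mem {G : Type*} [Group G] [Finite G] {σ : MulAut G}
    (hf : ∀ g : G, σ g = g → g = 1) {N : Subgroup G} (hN : N.map σ.toMonoidHom = N) {x : G}
    (hx : x ∈ N) : ∃ g ∈ N, g⁻¹ * σ g = x := by
  have hm : ∀ n ∈ N, σ n ∈ N := fun n hn => by
    rw [← hN]; exact ⟨n, hn, rfl⟩
  let f : N → N := fun n => ⟨(n : G)⁻¹ * σ n, N.mul_mem (N.inv_mem n.2) (hm n n.2)⟩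
  have hfi : Function.Injective f := by
    intro a b hab
    exact Subtype.ext (inv_mul_injective hf (congrArg Subtype.val hab))
  obtain ⟨n, hn⟩ := (Finite.injective_iff_surjective.mp hfi) ⟨x, hx⟩
  exact ⟨n, n.2, congrArg Subtype.val hn⟩

/-- the induced automorphism of the quotient by an invariant normal subgroup is fixed-point-free -/
theorem fpf_quotient {G : Type*} [Group G] [Finite G] {σ : MulAut G}
    (hf : ∀ g : G, σ g = g → g = 1) {N : Subgroup G} [N.Normal] (hN : N.map σ.toMonoidHom = N)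
    (x : G ⧸ N) (hx : QuotientGroup.congr N N σ hN x = x) : x = 1 := by
  obtain ⟨g, rfl⟩ := QuotientGroup.mk_surjective x
  have h1 : (QuotientGroup.mk (σ g) : G ⧸ N) = QuotientGroup.mk g := hx
  have h2 : g⁻¹ * σ g ∈ N := QuotientGroup.eq.mp h1.symm
  obtain ⟨n, hn, hn'⟩ := exists_inv_mul_mem hf hN h2
  have := inv_mul_injective hf hn'
  rw [← this]
  exact (QuotientGroup.eq_one_iff n).mpr hn

/-- a fixed-point-free involutory automorphism inverts the group -/
theorem map_eq_inv_of_sq {G : Type*} [Group G] [Finite G] {σ : MulAut G}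
    (hf : ∀ g : G, σ g = g → g = 1) (h2 : ∀ g, σ (σ g) = g) (x : G) : σ x = x⁻¹ := by
  obtain ⟨g, rfl⟩ := exists_inv_mul hf x
  rw [map_mul, map_inv, h2]; group

theorem comm_of_map_eq_inv {G : Type*} [Group G] {σ : MulAut G} (h : ∀ x, σ x = x⁻¹) (x y : G) :
    x * y = y * x := by
  have h1 : σ (x⁻¹ * y⁻¹) = x * y := by rw [map_mul, h, h, inv_inv, inv_inv]
  rw [h, mul_inv_rev, inv_inv, inv_inv] at h1
  exact h1.symm

/-- minimal invariant normal subgroups of solvable groups -/
theorem exists_minimal_invariant {K : Type*} [Group K] [Finite K] (hK : Group.IsSolvable K)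
    [Nontrivial K] (σ : MulAut K) :
    ∃ Q : Subgroup K, Q.Normal ∧ Q ≠ ⊥ ∧ Q.map σ.toMonoidHom = Q ∧
      (∀ R : Subgroup K, R ≤ Q → R.Normal → R.map σ.toMonoidHom = R → R = ⊥ ∨ R = Q) ∧
      (∀ x ∈ Q, ∀ y ∈ Q, x * y = y * x) ∧ ∃ r : ℕ, r.Prime ∧ (∀ x ∈ Q, x ^ r = 1) ∧ r ∣ Nat.card Q := by
  obtain ⟨Q, hQ⟩ := Set.Finite.exists_minimal
    (Set.toFinite {Q : Subgroup K | Q.Normal ∧ Q ≠ ⊥ ∧ Q.map σ.toMonoidHom = Q})
    ⟨⊤, by
      refine ⟨inferInstance, top_ne_bot, ?_⟩
      rw [← MonoidHom.range_eq_map, MonoidHom.range_eq_top]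
      exact σ.surjective⟩
  obtain ⟨⟨hQn, hQb, hQs⟩, hmin⟩ := hQ
  have hmin' : ∀ R : Subgroup K, R ≤ Q → R.Normal → R.map σ.toMonoidHom = R → R = ⊥ ∨ R = Q := by
    intro R hR hRn hRs
    by_cases hRb : R = ⊥
    · exact Or.inl hRb
    · exact Or.inr (le_antisymm hR (hmin ⟨hRn, hRb, hRs⟩ hR))
  have hcomm : ∀ x ∈ Q, ∀ y ∈ Q, x * y = y * x := by
    have h1 : ⁅Q, Q⁆ = ⊥ := by
      rcases hmin' ⁅Q, Q⁆ (Subgroup.commutator_le_self _) inferInstance
        (by rw [Subgroup.map_commutator, hQs]) with h | h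
      · exact h
      · exfalso
        have h2 : ∀ n, derivedSeries Q n = ⊤ := by
          intro n
          induction n with
          | zero => rfl
          | succ n ih =>
            rw [derivedSeries_succ, ih]
            have h3 : Subgroup.map Q.subtype ⁅(⊤ : Subgroup Q), ⊤⁆ = Subgroup.map Q.subtype ⊤ := by
              rw [Subgroup.map_commutator, ← MonoidHom.range_eq_map, Subgroup.range_subtype, h]
            exact Subgroup.map_injective Q.subtype_injective h3
        have hQsol : Group.IsSolvable Q := inferInstance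
        obtain ⟨n, hn⟩ := hQsol.solvable
        rw [h2 n] at hn
        have h4 := congrArg (Subgroup.map Q.subtype) hn
        rw [← MonoidHom.range_eq_map, Subgroup.range_subtype, Subgroup.map_bot] at h4
        exact hQb h4
    intro x hx y hy
    have h2 := Subgroup.commutator_eq_bot_iff_le_centralizer.mp h1 hx
    exact (mem_centralizer_iff.mp h2 y hy).symm
  refine ⟨Q, hQn, hQb, hQs, hmin', hcomm, ?_⟩
  have hc1 : Nat.card Q ≠ 1 := fun h => hQb (Subgroup.card_eq_one.mp h)
  obtain ⟨r, hr, hrd⟩ := Nat.exists_prime_and_dvd hc1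
  refine ⟨r, hr, ?_, hrd⟩
  have : Fact r.Prime := ⟨hr⟩
  -- the subgroup of elements of order dividing r
  let Om : Subgroup K :=
    { carrier := {x | x ∈ Q ∧ x ^ r = 1}
      mul_mem' := by
        rintro a b ⟨ha, ha'⟩ ⟨hb, hb'⟩
        exact ⟨Q.mul_mem ha hb, by rw [(show Commute a b from hcomm a ha b hb).mul_pow, ha', hb', mul_one]⟩
      one_mem' := ⟨Q.one_mem, one_pow r⟩
      inv_mem' := by
        rintro a ⟨ha, ha'⟩
        exact ⟨Q.inv_mem ha, by rw [inv_pow, ha', inv_one]⟩ }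
  have hOm : ∀ x, x ∈ Om ↔ x ∈ Q ∧ x ^ r = 1 := fun x => Iff.rfl
  have hle : Om ≤ Q := fun x hx => hx.1
  have hn : Om.Normal := by
    refine ⟨fun x hx g => ⟨hQn.conj_mem x hx.1 g, ?_⟩⟩
    rw [conj_pow, hx.2]; simp
  have hs : Om.map σ.toMonoidHom = Om := by
    apply Subgroup.ext
    intro x
    constructor
    · rintro ⟨y, hy, rfl⟩
      refine ⟨?_, ?_⟩
      · rw [← hQs]; exact ⟨y, hy.1, rfl⟩
      · show (σ y) ^ r = 1
        rw [← map_pow, hy.2, map_one]
    · rintro ⟨hx, hx'⟩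
      rw [← hQs] at hx
      obtain ⟨y, hy, rfl⟩ := hx
      refine ⟨y, ⟨hy, ?_⟩, rfl⟩
      have : σ (y ^ r) = 1 := by rw [map_pow]; exact hx'
      exact (map_eq_one_iff σ σ.injective).mp this
  rcases hmin' Om hle hn hs with h | h
  · exfalso
    obtain ⟨z, hz⟩ := exists_prime_orderOf_dvd_card' r hrd
    have h1 : (z : K) ∈ Om := ⟨z.2, by
      have := pow_orderOf_eq_one z
      rw [hz] at this
      exact congrArg Subtype.val this⟩
    rw [h, mem_bot] at h1
    have h2 : z = 1 := Subtype.ext h1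
    rw [h2, orderOf_one] at hz
    exact hr.ne_one hz.symm
  · intro x hx
    rw [← h] at hx
    exact hx.2

end Cfsg.Agent.H22.FPF
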