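import Mathlib
import Cfsg.Prelude.Def_Characters
import Cfsg.Agent.H1_Hall
import Cfsg.Agent.H24_Sub

/-!
# Coprime splitting of nilpotent groups
-/

set_option autoImplicit false

namespace Cfsg.Agent.H3.NilpSplit

theorem nilp_hall {E : Type*} [Group E] [Finite E] [Group.IsNilpotent E] (a b : ℕ)
    (hab : Nat.card E = a * b) (hcop : a.Coprime b) :
    ∃ A : Subgroup E, A.Normal ∧ Nat.card A = a ∧ ∀ w, w ∈ A ↔ (orderOf w).Coprime b := by
  have hsolv : Group.IsSolvable E := inferInstance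
  obtain ⟨A, hA⟩ := Cfsg.Agent.H1.Hall.hall_exists a b hab hcop
  have hidx : A.index = b := Cfsg.Agent.H1.Hall.index_of_card hab hA
  have hmem : ∀ w, w ∈ A ↔ (orderOf w).Coprime b := by
    intro w
    constructor
    · intro hw
      have h1 : orderOf w ∣ a := by
        rw [← hA, ← Subgroup.orderOf_mk w hw]; exact orderOf_dvd_natCard _
      exact hcop.coprime_dvd_left h1
    · intro hw
      have h1 := Cfsg.Agent.H24.Sub.pow_index_mem_of_subnormal A
        (Cfsg.Agent.H24.Sub.isSubnormal_of_nilpotent inferInstance A) w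
      rw [hidx] at h1
      -- `w` is a power of `w ^ b`
      have h2 : w ∈ Subgroup.zpowers (w ^ b) := by
        rw [mem_zpowers_pow_iff]
        exact hw.symm
      have h3 : Subgroup.zpowers (w ^ b) ≤ A := by rwa [Subgroup.zpowers_le]
      exact h3 h2
  refine ⟨A, ⟨fun w hw g => ?_⟩, hA, hmem⟩
  rw [hmem] at hw ⊢
  have h4 : orderOf (g * w * g⁻¹) = orderOf w := by
    have := orderOf_injective (MulAut.conj g).toMonoidHom (MulAut.conj g).injective w
    simpa using this
  rw [h4]; exact hw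

theorem elementary_nilpotent {E : Type*} [Group E] [Finite E] {p : ℕ} (hp : p.Prime)
    (h : Cfsg.IsElementary p E) : Group.IsNilpotent E := by
  obtain ⟨x, hx, -, k, hk⟩ := h
  have := Fact.mk hp
  have hle : Subgroup.zpowers x ≤ Subgroup.center E := by rwa [Subgroup.zpowers_le]
  have hn : (Subgroup.zpowers x).Normal := ⟨fun y hy g => by
    have h1 := Subgroup.mem_center_iff.mp (hle hy) g
    rw [h1, mul_inv_cancel_right]; exact hy⟩
  have h1 : IsPGroup p (E ⧸ Subgroup.zpowers x) := IsPGroup.of_card (n := k) hk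
  have h2 : Group.IsNilpotent (E ⧸ Subgroup.zpowers x) := h1.isNilpotent
  exact Subgroup.isNilpotent_of_ker_le_center (QuotientGroup.mk' (Subgroup.zpowers x))
    (by rw [QuotientGroup.ker_mk']; exact hle)

/-- Splitting of a nilpotent group of order dividing `m * n`. -/
theorem split {E : Type*} [Group E] [Finite E] [Group.IsNilpotent E] {m n : ℕ}
    (hmn : Nat.card E ∣ m * n) (hcop : m.Coprime n) :
    ∃ A B : Subgroup E, A.Normal ∧ B.Normal ∧ Nat.card A ∣ m ∧ Nat.card B ∣ n ∧
      (∀ w, w ∈ A ↔ (orderOf w).Coprime n) ∧ (∀ w, w ∈ B ↔ (orderOf w).Coprime m) ∧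
      (∀ a ∈ A, ∀ b ∈ B, Commute a b) ∧ Nat.card A * Nat.card B = Nat.card E ∧
      Function.Bijective (fun x : A × B => (x.1 : E) * x.2) := by
  have h0 : Nat.card E = Nat.gcd (Nat.card E) m * Nat.gcd (Nat.card E) n := by
    rw [← Nat.Coprime.gcd_mul _ hcop, Nat.gcd_eq_left hmn]
  set a := Nat.gcd (Nat.card E) m with ha
  set b := Nat.gcd (Nat.card E) n with hb
  have hab : a.Coprime b := Nat.Coprime.coprime_dvd_left (Nat.gcd_dvd_right _ _)
    (Nat.Coprime.coprime_dvd_right (Nat.gcd_dvd_right _ _) hcop)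
  obtain ⟨A, hAn, hA, hAmem⟩ := nilp_hall a b h0 hab
  obtain ⟨B, hBn, hB, hBmem⟩ := nilp_hall b a (by rw [h0]; ring) hab.symm
  have hcopn : ∀ (w : E) (k : ℕ), (orderOf w).Coprime (Nat.gcd (Nat.card E) k) ↔
      (orderOf w).Coprime k := by
    intro w k
    constructor
    · intro h
      have h1 : Nat.gcd (orderOf w) k ∣ Nat.gcd (Nat.card E) k :=
        Nat.gcd_dvd_gcd_of_dvd_left _ (orderOf_dvd_natCard w)
      exact Nat.eq_one_of_dvd_coprimes h (Nat.gcd_dvd_left _ _) h1
    · intro h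
      exact h.coprime_dvd_right (Nat.gcd_dvd_right _ _)
  have hcard : Nat.card A * Nat.card B = Nat.card E := by rw [hA, hB, ← h0]
  have hcopAB : (Nat.card A).Coprime (Nat.card B) := by rw [hA, hB]; exact hab
  refine ⟨A, B, hAn, hBn, ?_, ?_, ?_, ?_, ?_, hcard, ?_⟩
  · rw [hA]; exact Nat.gcd_dvd_right _ _
  · rw [hB]; exact Nat.gcd_dvd_right _ _
  · intro w; rw [hAmem, hb, hcopn]
  · intro w; rw [hBmem, ha, hcopn]
  · intro x hx y hy
    exact Subgroup.commute_of_normal_of_disjoint A B hAn hBn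
      (Subgroup.disjoint_of_coprime_natCard hcopAB) x y hx hy
  · exact Subgroup.isComplement'_of_coprime hcard hcopAB

end Cfsg.Agent.H3.NilpSplit
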