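import Mathlib
import Cfsg.Agent.H10_CohI2
import Cfsg.Agent.H10_IndSet6
import Cfsg.Agent.H3_NilpSplit
import Cfsg.Agent.H22_FPF
import Cfsg.Agent.H1_Fixed

/-!
H10_CohI3: sections of Frobenius groups; coherence when the kernel is nilpotent and not of prime power order.
-/

set_option autoImplicit false
set_option linter.style.haveILetI false
set_option linter.unusedSectionVars false

namespace Cfsg.Agent.H10.CohI3

open Cfsg Cfsg.Agent.H3.CharBasic Cfsg.Agent.H3.CharIrr Cfsg.Agent.H3.CharComplete Cfsg.Agent.H3.CharInt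
  Cfsg.Agent.H3.CharInd Cfsg.Agent.H10.Coh Cfsg.Agent.H10.Coh3 Cfsg.Agent.H10.Coh4
  Cfsg.Agent.H10.IndSet Cfsg.Agent.H10.IndSet2 Cfsg.Agent.H10.IndSet3 Cfsg.Agent.H10.IndSet4
  Cfsg.Agent.H10.IndSet6 Cfsg.Agent.H10.CohI Cfsg.Agent.H10.CohI2
open scoped ComplexConjugate commutatorElement

section Grp

theorem dvd_of_stab_le {L X : Type*} [Group L] [Finite L] [MulAction L X] [Finite X] (K : Subgroup L)
    (h : ∀ x : X, MulAction.stabilizer L x ≤ K) : K.index ∣ Nat.card X := by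
  classical
  haveI : Fintype (MulAction.orbitRel.Quotient L X) := Fintype.ofFinite _
  haveI : ∀ ω : MulAction.orbitRel.Quotient L X, Finite ω.orbit := fun ω => inferInstance
  have h1 : Nat.card X = ∑ ω : MulAction.orbitRel.Quotient L X, Nat.card ω.orbit := by
    rw [Nat.card_congr (MulAction.selfEquivSigmaOrbits' L X)]
    haveI : ∀ ω : MulAction.orbitRel.Quotient L X, Fintype ω.orbit := fun ω => Fintype.ofFinite _
    exact Nat.card_sigma
  rw [h1]
  apply Finset.dvd_sum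
  intro ω _
  obtain ⟨x, rfl⟩ := Quotient.exists_rep ω
  have h2 : MulAction.orbitRel.Quotient.orbit (Quotient.mk (MulAction.orbitRel L X) x : MulAction.orbitRel.Quotient L X) = MulAction.orbit L x := rfl
  rw [h2]
  refine (Subgroup.index_dvd_of_le (h x)).trans ?_
  rw [Subgroup.index, ← Nat.card_congr (MulAction.orbitEquivQuotientStabilizer L x)]

variable {L : Type*} [Group L] [Finite L] {K : Subgroup L} (hC : ∀ k ∈ K, k ≠ 1 → Subgroup.centralizer ({k} : Set L) ≤ K)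

include hC in
theorem mod_e {N : Subgroup L} [hN : N.Normal] (hNK : N ≤ K) : Nat.card N ≡ 1 [MOD K.index] := by
  classical
  let X := {z : L // z ∈ N ∧ z ≠ 1}
  letI : MulAction L X :=
    { smul := fun x z => ⟨x * z.1 * x⁻¹, hN.conj_mem _ z.2.1 x, fun h => z.2.2 (by
        have h1 : x * z.1 * x⁻¹ = x * 1 * x⁻¹ := by rw [h]; group
        exact mul_left_cancel (mul_right_cancel h1))⟩
      one_smul := fun z => Subtype.ext (by
        show (1 : L) * z.1 * (1 : L)⁻¹ = z.1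
        group)
      mul_smul := fun x y z => Subtype.ext (by
        show (x * y) * z.1 * (x * y)⁻¹ = x * (y * z.1 * y⁻¹) * x⁻¹
        group) }
  haveI : Finite X := inferInstance
  have h1 := dvd_of_stab_le (X := X) K (by
    rintro ⟨z, hz, hz1⟩ x h
    rw [MulAction.mem_stabilizer_iff] at h
    have h2 : x * z * x⁻¹ = z := congrArg Subtype.val h
    apply hC z (hNK hz) hz1
    rw [Subgroup.mem_centralizer_singleton_iff]
    have h3 := mul_inv_eq_iff_eq_mul.1 h2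
    first
      | exact h3
      | exact h3.symm)
  have h2 : Nat.card X = Nat.card N - 1 := by
    haveI := Fintype.ofFinite N
    have h5 : Nat.card {y : N // y ≠ 1} = Nat.card N - 1 := by
      rw [Nat.card_eq_fintype_card, Nat.card_eq_fintype_card, Fintype.card_subtype_compl]
      simp
    rw [← h5]
    exact Nat.card_congr ⟨fun q => ⟨⟨q.1, q.2.1⟩, fun h => q.2.2 (congrArg Subtype.val h)⟩,
      fun y => ⟨y.1.1, y.1.2, fun h => y.2 (Subtype.ext h)⟩, fun _ => rfl, fun _ => rfl⟩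
  rw [h2] at h1
  exact ((Nat.modEq_iff_dvd' Nat.card_pos).2 h1).symm

include hC in
theorem rel_mod {M N : Subgroup L} [hM : M.Normal] [hN : N.Normal] (hMN : M ≤ N) (hNK : N ≤ K) :
    M.relIndex N ≡ 1 [MOD K.index] := by
  have h1 := mod_e hC (N := M) (hMN.trans hNK)
  have h2 := mod_e hC (N := N) hNK
  have h3 : Nat.card M * M.relIndex N = Nat.card N := by
    rw [← Subgroup.relIndex_bot_left, ← Subgroup.relIndex_bot_left, Subgroup.relIndex_mul_relIndex _ _ _ bot_le hMN]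
  rw [← h3] at h2
  have h4 := h1.mul_right (M.relIndex N)
  rw [one_mul] at h4
  exact h4.symm.trans h2

include hC in
theorem rel_ge {M N : Subgroup L} [hM : M.Normal] [hN : N.Normal] (hMN : M < N) (hNK : N ≤ K) :
    K.index + 1 ≤ M.relIndex N := by
  have h1 := rel_mod hC hMN.le hNK
  have h0 : M.relIndex N ≠ 0 := Subgroup.index_ne_zero_of_finite (H := M.subgroupOf N)
  have h2 : M.relIndex N ≠ 1 := fun h => hMN.not_ge (Subgroup.relIndex_eq_one.1 h)
  have h3 := (Nat.modEq_iff_dvd' (Nat.one_le_iff_ne_zero.2 h0)).1 h1.symm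
  obtain ⟨t, ht⟩ := h3
  have h4 : t ≠ 0 := by
    rintro rfl
    rw [mul_zero] at ht; omega
  have h5 : K.index * 1 ≤ K.index * t := Nat.mul_le_mul_left _ (Nat.one_le_iff_ne_zero.2 h4)
  omega

include hC in
theorem rel_ge_odd {M N : Subgroup L} [hM : M.Normal] [hN : N.Normal] (hMN : M < N) (hNK : N ≤ K) (he : Odd K.index)
    (hodd : Odd (Nat.card N)) : 2 * K.index + 1 ≤ M.relIndex N := by
  have h1 := rel_mod hC hMN.le hNK
  have h0 : M.relIndex N ≠ 0 := Subgroup.index_ne_zero_of_finite (H := M.subgroupOf N)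
  have h2 : M.relIndex N ≠ 1 := fun h => hMN.not_ge (Subgroup.relIndex_eq_one.1 h)
  have h3 := (Nat.modEq_iff_dvd' (Nat.one_le_iff_ne_zero.2 h0)).1 h1.symm
  obtain ⟨t, ht⟩ := h3
  have h6 : Odd (M.relIndex N) := by
    apply Odd.of_dvd_nat hodd
    have h3 : Nat.card M * M.relIndex N = Nat.card N := by
      rw [← Subgroup.relIndex_bot_left, ← Subgroup.relIndex_bot_left, Subgroup.relIndex_mul_relIndex _ _ _ bot_le hMN.le]
    exact ⟨_, by rw [← h3, mul_comm]⟩
  have h7 : Even (K.index * t) := by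
    rw [← ht]
    obtain ⟨s, hs⟩ := h6
    exact ⟨s, by omega⟩
  rcases Nat.even_mul.1 h7 with h8 | h8
  · exact absurd h8 (Nat.not_even_iff_odd.2 he)
  obtain ⟨s, hs⟩ := h8
  have h4 : s ≠ 0 := by
    rintro rfl
    rw [hs, add_zero, mul_zero] at ht; omega
  have h5 : K.index * 2 ≤ K.index * t := Nat.mul_le_mul_left _ (by omega)
  omega

/-- the complement has odd order when the kernel is not abelian -/
theorem odd_index [hK : K.Normal] (hC : ∀ k ∈ K, k ≠ 1 → Subgroup.centralizer ({k} : Set L) ≤ K)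
    (hna : ¬ ∀ x ∈ K, ∀ y ∈ K, x * y = y * x) : Odd K.index := by
  have hcop := Cfsg.Agent.H1.Fixed.coprime_of_centralizer_le K hC
  by_contra heven
  rw [Nat.not_odd_iff_even] at heven
  haveI := Fact.mk Nat.prime_two
  have h2 : 2 ∣ K.index := heven.two_dvd
  obtain ⟨t, ht⟩ := exists_prime_orderOf_dvd_card' (G := L) 2 (h2.trans (Subgroup.index_dvd_card K))
  have htK : t ∉ K := by
    intro h
    have h1 : orderOf (⟨t, h⟩ : K) ∣ Nat.card K := orderOf_dvd_natCard _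
    rw [Subgroup.orderOf_mk, ht] at h1
    exact absurd (Nat.eq_one_of_dvd_coprimes hcop h1 h2) (by norm_num)
  apply hna
  have hfpf : ∀ k : K, (MulAut.conjNormal t : MulAut K) k = k → k = 1 := by
    intro k hk
    have hk' : t * (k : L) * t⁻¹ = k := by
      have h1 := congrArg (Subtype.val) hk
      rwa [MulAut.conjNormal_apply] at h1
    by_contra hk1
    apply htK
    apply hC k k.2 (fun h => hk1 (Subtype.ext h))
    rw [Subgroup.mem_centralizer_singleton_iff]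
    have h3 := mul_inv_eq_iff_eq_mul.1 hk'
    first
      | exact h3
      | exact h3.symm
  have hsq : ∀ k : K, (MulAut.conjNormal t : MulAut K) ((MulAut.conjNormal t : MulAut K) k) = k := by
    intro k
    apply Subtype.ext
    rw [MulAut.conjNormal_apply, MulAut.conjNormal_apply]
    have h4 : t * t = 1 := by rw [← pow_two, ← ht, pow_orderOf_eq_one]
    have h5 : t⁻¹ = t := inv_eq_of_mul_eq_one_left h4
    rw [h5]
    calc t * (t * (k : L) * t) * t = (t * t) * k * (t * t) := by group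
      _ = k := by rw [h4]; group
  have hinv := Cfsg.Agent.H22.FPF.map_eq_inv_of_sq hfpf hsq
  have hcomm := Cfsg.Agent.H22.FPF.comm_of_map_eq_inv hinv
  intro x hx y hy
  exact congrArg Subtype.val (hcomm ⟨x, hx⟩ ⟨y, hy⟩)

/-- splitting of a nilpotent normal subgroup -/
theorem split_normal (K : Subgroup L) [hK : K.Normal] (hnil : Group.IsNilpotent K) {m n : ℕ} (hmn : Nat.card K ∣ m * n) (hcop : m.Coprime n) :
    ∃ Q R : Subgroup L, Q.Normal ∧ R.Normal ∧ Q ≤ K ∧ R ≤ K ∧ Nat.card Q ∣ m ∧ Nat.card R ∣ n ∧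
      (∀ a ∈ Q, ∀ b ∈ R, a * b = b * a) ∧ Nat.card Q * Nat.card R = Nat.card K ∧ (∀ k ∈ K, ∃ a ∈ Q, ∃ b ∈ R, a * b = k) := by
  obtain ⟨A, B, hA, hB, hAm, hBn, hAo, hBo, hAB, hcard, hbij⟩ := Cfsg.Agent.H3.NilpSplit.split (E := K) hmn hcop
  have key : ∀ (C : Subgroup K) (s : ℕ), (∀ w, w ∈ C ↔ (orderOf w).Coprime s) → (C.map K.subtype).Normal := by
    intro C s hs
    refine ⟨?_⟩
    rintro _ ⟨w, hw, rfl⟩ g
    refine ⟨⟨g * w * g⁻¹, hK.conj_mem _ w.2 g⟩, ?_, rfl⟩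
    rw [SetLike.mem_coe, hs] at hw ⊢
    have : orderOf (⟨g * w * g⁻¹, hK.conj_mem _ w.2 g⟩ : K) = orderOf w := by
      rw [← Subgroup.orderOf_coe, ← Subgroup.orderOf_coe w]
      show orderOf (g * (w : L) * g⁻¹) = _
      have h2 : g * (w : L) * g⁻¹ = MulAut.conj g w := rfl
      rw [h2]
      exact MulEquiv.orderOf_eq _ _
    rw [this]; exact hw
  have hc : ∀ C : Subgroup K, Nat.card (C.map K.subtype) = Nat.card C := fun C =>
    Nat.card_congr (C.equivMapOfInjective K.subtype K.subtype_injective).symm.toEquiv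
  refine ⟨A.map K.subtype, B.map K.subtype, key A n hAo, key B m hBo, ?_, ?_, by rw [hc]; exact hAm, by rw [hc]; exact hBn, ?_,
    by rw [hc, hc]; exact hcard, ?_⟩
  · rintro _ ⟨w, -, rfl⟩; exact w.2
  · rintro _ ⟨w, -, rfl⟩; exact w.2
  · rintro _ ⟨a, ha, rfl⟩ _ ⟨b, hb, rfl⟩
    exact congrArg Subtype.val (hAB a ha b hb)
  · intro k hk
    obtain ⟨⟨a, b⟩, h⟩ := hbij.2 ⟨k, hk⟩
    exact ⟨a, ⟨a, a.2, rfl⟩, b, ⟨b, b.2, rfl⟩, congrArg Subtype.val h⟩

end Grp

section Est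

variable {L : Type*} [Group L] [Fintype L] {K : Subgroup L} [hK : K.Normal]

theorem num1 {e a d u : ℝ} (he : 3 ≤ e) (hu : e + 1 ≤ u) (hd : e + 1 ≤ d) (h : 2 * e + 1 ≤ u ∨ 2 * e + 1 ≤ d) (ha : a = u * d)
    {t : ℝ} (ht : t ^ 2 ≤ d) : 2 * e * t < a - 1 := by
  have h1 : (e + 1) * (2 * e + 1) ≤ u * d := by
    rcases h with h | h
    · calc (e + 1) * (2 * e + 1) = (2 * e + 1) * (e + 1) := by ring
        _ ≤ u * d := mul_le_mul h hd (by linarith) (by linarith)
    · exact mul_le_mul hu h (by linarith) (by linarith)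
  have h2 : (2 * e * t) ^ 2 < (a - 1) ^ 2 := by
    have h3 : (2 * e * t) ^ 2 ≤ 4 * e ^ 2 * d := by nlinarith [sq_nonneg e]
    have h4 : 4 * e ^ 2 * d ≤ (u * (u * d - 2)) * d := by
      apply mul_le_mul_of_nonneg_right _ (by linarith)
      have h5 : (e + 1) * ((e + 1) * (2 * e + 1) - 2) ≤ u * (u * d - 2) :=
        mul_le_mul hu (by linarith) (by nlinarith) (by linarith)
      nlinarith [mul_nonneg (by linarith : (0:ℝ) ≤ e) (by nlinarith : (0:ℝ) ≤ e ^ 2)]
    have h6 : (u * (u * d - 2)) * d = a * (a - 2) := by rw [ha]; ring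
    nlinarith
  exact lt_of_pow_lt_pow_left₀ 2 (by nlinarith) h2

theorem num2 {e a : ℝ} (he : 3 ≤ e) (ha : (e + 1) * (e + 1) * (e + 1) ≤ a) {t : ℝ} (ht : t ^ 2 ≤ a) : 2 * e * t < a - 1 := by
  have h0 : 4 * e ^ 2 + 2 ≤ a := by nlinarith [sq_nonneg e, mul_nonneg (by linarith : (0:ℝ) ≤ e - 3) (sq_nonneg e)]
  have h2 : (2 * e * t) ^ 2 < (a - 1) ^ 2 := by
    have h3 : (2 * e * t) ^ 2 ≤ 4 * e ^ 2 * a := by nlinarith [sq_nonneg e]
    have h4 : 4 * e ^ 2 * a ≤ (a - 2) * a := mul_le_mul_of_nonneg_right (by linarith) (by nlinarith)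
    nlinarith
  exact lt_of_pow_lt_pow_left₀ 2 (by nlinarith) h2

theorem arith_ge {e x : ℕ} (h : x ≡ 1 [MOD e]) (h0 : x ≠ 0) (h1 : x ≠ 1) : e + 1 ≤ x ∧ (Odd e → Odd x → 2 * e + 1 ≤ x) := by
  obtain ⟨t, ht⟩ := (Nat.modEq_iff_dvd' (Nat.one_le_iff_ne_zero.2 h0)).1 h.symm
  have h4 : t ≠ 0 := by
    rintro rfl
    rw [mul_zero] at ht; omega
  have h5 : e * 1 ≤ e * t := Nat.mul_le_mul_left _ (Nat.one_le_iff_ne_zero.2 h4)
  refine ⟨by omega, fun he hx => ?_⟩
  have h7 : Even (e * t) := by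
    rw [← ht]
    obtain ⟨s, hs⟩ := hx
    exact ⟨s, by omega⟩
  rcases Nat.even_mul.1 h7 with h8 | h8
  · exact absurd h8 (Nat.not_even_iff_odd.2 he)
  obtain ⟨s, hs⟩ := h8
  have h5 : e * 2 ≤ e * t := Nat.mul_le_mul_left _ (by omega)
  omega

theorem core (hnil : Group.IsNilpotent K) (hC : ∀ k ∈ K, k ≠ 1 → Subgroup.centralizer ({k} : Set L) ≤ K)
    (he : Odd K.index) (he3 : 3 ≤ K.index) {A B U V : Subgroup L} [hAn : A.Normal] [hBn : B.Normal] [hUn : U.Normal] [hVn : V.Normal]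
    (hAK : A ≤ ⁅K, K⁆) (hcomm : ∀ x ∈ A, ∀ y ∈ K, x * y * x⁻¹ * y⁻¹ ∈ B) (hUK : U ≤ K) (hVK : V ≤ K)
    (hUV : ∀ a ∈ U, ∀ b ∈ V, a * b = b * a) (hcop : Nat.Coprime (Nat.card U) (Nat.card V))
    (hcard : Nat.card U * Nat.card V = Nat.card K) (hdec : ∀ k ∈ K, ∃ a ∈ U, ∃ b ∈ V, a * b = k) (hU1 : U ≠ ⊥) (hV1 : V ≠ ⊥)
    (hodd : Odd (Nat.card U) ∨ Odd (Nat.card V)) (hAU : A ⊓ U ≤ B)
    {θ : K → ℂ} (hθ : IsIrrCharacter K θ) (hk : ∀ a : K, (a : L) ∈ B → θ a = θ 1) :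
    2 * (K.index : ℝ) * (θ 1).re < (A.relIndex K : ℝ) - 1 := by
  classical
  haveI := Fintype.ofFinite K
  have hAK' : A ≤ K := hAK.trans (Subgroup.commutator_le_left K K)
  have hDK : U ⊔ A ≤ K := sup_le hUK hAK'
  haveI : (⊥ : Subgroup L).subgroupOf K |>.Normal := inferInstance
  have hnil' : Group.IsNilpotent (↥K ⧸ (⊥ : Subgroup L).subgroupOf K) := inferInstance
  have hpd : ∀ p : ℕ, p.Prime → p ∣ Nat.card K → p ∣ A.relIndex K := by
    intro p hp hd
    have h1 := prime_dvd (K := K) (M := ⊥) (H₁ := ⁅K, K⁆) hnil' (by rw [sup_bot_eq]) bot_le hp (by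
      rw [Subgroup.relIndex_bot_left]; exact hd)
    exact h1.trans (Subgroup.relIndex_dvd_of_le_left K hAK)
  have hcA : Nat.card A * A.relIndex K = Nat.card K := by
    rw [← Subgroup.relIndex_bot_left, ← Subgroup.relIndex_bot_left, Subgroup.relIndex_mul_relIndex _ _ _ bot_le hAK']
  have hUA : ¬ U ≤ A := by
    intro h
    have h1 : 1 < Nat.card U := (Subgroup.one_lt_card_iff_ne_bot _).2 hU1
    obtain ⟨p, hp, hpd'⟩ := Nat.exists_prime_and_dvd h1.ne'
    have h2 := hpd p hp (hpd'.trans ⟨_, hcard.symm⟩)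
    obtain ⟨s, hs⟩ := Subgroup.card_dvd_of_le h
    have h3 : s * A.relIndex K = Nat.card V := by
      rw [hs, ← hcard, mul_assoc] at hcA
      exact Nat.eq_of_mul_eq_mul_left Nat.card_pos hcA
    have h4 : p ∣ Nat.card V := h2.trans ⟨s, by rw [← h3, mul_comm]⟩
    exact hp.one_lt.ne' (Nat.eq_one_of_dvd_coprimes hcop hpd' h4)
  have hsplit : A.relIndex (U ⊔ A) * (U ⊔ A).relIndex K = A.relIndex K := Subgroup.relIndex_mul_relIndex _ _ _ le_sup_right hDK
  have hrelU : A.relIndex (U ⊔ A) ∣ Nat.card U := by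
    rw [Subgroup.relIndex_sup_right]
    exact Subgroup.relIndex_dvd_card A U
  have hDlt : U ⊔ A ≠ K := by
    intro h
    rw [h, Subgroup.relIndex_self, mul_one] at hsplit
    rw [h] at hrelU
    have h1 : 1 < Nat.card V := (Subgroup.one_lt_card_iff_ne_bot _).2 hV1
    obtain ⟨p, hp, hpd'⟩ := Nat.exists_prime_and_dvd h1.ne'
    have h2 := hpd p hp (hpd'.trans ⟨Nat.card U, by rw [← hcard, mul_comm]⟩)
    exact hp.one_lt.ne' (Nat.eq_one_of_dvd_coprimes hcop (h2.trans hrelU) hpd')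
  have hrelV : (U ⊔ A).relIndex K ∣ Nat.card V := by
    have h1 : Nat.card (U ⊔ A : Subgroup L) * (U ⊔ A).relIndex K = Nat.card K := by
      rw [← Subgroup.relIndex_bot_left, ← Subgroup.relIndex_bot_left, Subgroup.relIndex_mul_relIndex _ _ _ bot_le hDK]
    obtain ⟨s, hs⟩ := Subgroup.card_dvd_of_le (le_sup_left : U ≤ U ⊔ A)
    have h3 : s * (U ⊔ A).relIndex K = Nat.card V := by
      rw [hs, ← hcard, mul_assoc] at h1
      exact Nat.eq_of_mul_eq_mul_left Nat.card_pos h1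
    exact ⟨s, by rw [← h3, mul_comm]⟩
  have nz : ∀ M N : Subgroup L, M.relIndex N ≠ 0 := fun M N => Subgroup.index_ne_zero_of_finite (H := M.subgroupOf N)
  have hAlt : A < U ⊔ A := lt_of_le_of_ne le_sup_right fun h => hUA (by rw [h]; exact le_sup_left)
  obtain ⟨hu1, hu2⟩ := arith_ge (rel_mod hC (M := A) (N := U ⊔ A) le_sup_right hDK) (nz _ _)
    (fun h => hAlt.not_ge (Subgroup.relIndex_eq_one.1 h))
  obtain ⟨hd1, hd2⟩ := arith_ge (rel_mod hC (M := U ⊔ A) (N := K) hDK le_rfl) (nz _ _)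
    (fun h => hDlt (le_antisymm hDK (Subgroup.relIndex_eq_one.1 h)))
  have he3R : (3 : ℝ) ≤ K.index := by exact_mod_cast he3
  have hsplitR : (A.relIndex K : ℝ) = A.relIndex (U ⊔ A) * (U ⊔ A).relIndex K := by exact_mod_cast hsplit.symm
  by_cases hUU : ⁅U, U⁆ ≤ A
  · -- case I
    have hUUB : ⁅U, U⁆ ≤ B := (le_inf hUU (Subgroup.commutator_le_left U U)).trans hAU
    have h1 := deg_bound (K := K) (C := ⊤) (D := (U ⊔ A).subgroupOf K) le_top hθ (by
      intro x hx y _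
      apply hk
      show (x : L) * y * (x : L)⁻¹ * (y : L)⁻¹ ∈ B
      obtain ⟨u, hu, a, ha, hx'⟩ := Subgroup.mem_sup_of_normal_left.1 (Subgroup.mem_subgroupOf.1 hx)
      obtain ⟨u', hu', v', hv', hy'⟩ := hdec y y.2
      have e1 : (u * a) * (y : L) * (u * a)⁻¹ * (y : L)⁻¹ = (u * (a * (y : L) * a⁻¹ * (y : L)⁻¹) * u⁻¹) * (u * (y : L) * u⁻¹ * (y : L)⁻¹) := by group
      rw [← hx', e1]
      apply B.mul_mem (hBn.conj_mem _ (hcomm a ha y y.2) u)
      rw [← hy']
      have e2 : u * (u' * v') * u⁻¹ * (u' * v')⁻¹ = u * u' * u⁻¹ * u'⁻¹ := by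
        have h2 : v' * u⁻¹ = u⁻¹ * v' := (hUV _ (U.inv_mem hu) v' hv').symm
        calc u * (u' * v') * u⁻¹ * (u' * v')⁻¹ = u * u' * (v' * u⁻¹) * v'⁻¹ * u'⁻¹ := by group
          _ = u * u' * u⁻¹ * u'⁻¹ := by rw [h2]; group
      rw [e2]
      exact hUUB (Subgroup.commutator_mem_commutator hu hu'))
    rw [Subgroup.index_top, Subgroup.relIndex_top_right] at h1
    push_cast at h1
    rw [one_pow, one_mul] at h1
    have h2 : (((U ⊔ A).subgroupOf K).index : ℝ) = (U ⊔ A).relIndex K := rfl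
    rw [h2] at h1
    refine num1 he3R (by exact_mod_cast hu1) (by exact_mod_cast hd1) ?_ hsplitR h1
    rcases hodd with h | h
    · left; exact_mod_cast hu2 he (Odd.of_dvd_nat h hrelU)
    · right; exact_mod_cast hd2 he (Odd.of_dvd_nat h hrelV)
  · -- case II
    have h1 := deg_bound (K := K) (C := ⊤) (D := A.subgroupOf K) le_top hθ (fun x hx y _ => hk _ (hcomm x hx y y.2))
    rw [Subgroup.index_top, Subgroup.relIndex_top_right] at h1
    push_cast at h1
    rw [one_pow, one_mul] at h1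
    have h2 : ((A.subgroupOf K).index : ℝ) = A.relIndex K := rfl
    rw [h2] at h1
    have hnilU : Group.IsNilpotent U := by
      haveI := hnil
      exact Group.nilpotent_of_mulEquiv (Subgroup.subgroupOfEquivOfLe hUK)
    haveI : (⊥ : Subgroup L).subgroupOf U |>.Normal := inferInstance
    have hnilU' : Group.IsNilpotent (↥U ⧸ (⊥ : Subgroup L).subgroupOf U) := inferInstance
    have hlt1 : A < ⁅U, U⁆ ⊔ A := lt_of_le_of_ne le_sup_right fun h => hUU (by rw [h]; exact le_sup_left)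
    have hle2 : ⁅U, U⁆ ⊔ A ≤ U ⊔ A := sup_le_sup_right (Subgroup.commutator_le_left U U) A
    have hlt2 : ⁅U, U⁆ ⊔ A < U ⊔ A := lt_of_le_of_ne hle2 fun h =>
      hUA (nil_step hnilU' bot_le le_rfl (by rw [h]; exact le_sup_left))
    have g1 := rel_ge hC hlt1 (hle2.trans hDK)
    have g2 := rel_ge hC hlt2 hDK
    have g3 : A.relIndex (⁅U, U⁆ ⊔ A) * (⁅U, U⁆ ⊔ A).relIndex (U ⊔ A) = A.relIndex (U ⊔ A) :=
      Subgroup.relIndex_mul_relIndex _ _ _ hlt1.le hle2
    apply num2 he3R _ h1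
    have g4 : (K.index + 1) * (K.index + 1) * (K.index + 1) ≤ A.relIndex K := by
      rw [← hsplit, ← g3]
      exact Nat.mul_le_mul (Nat.mul_le_mul g1 g2) hd1
    exact_mod_cast g4

end Est

end Cfsg.Agent.H10.CohI3
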