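import Mathlib

/-!
H10_Comb3: families of 3-sets pairwise meeting in one point.
-/

set_option autoImplicit false
set_option linter.style.haveILetI false
set_option linter.unusedSectionVars false

namespace Cfsg.Agent.H10.Comb3

variable {J α : Type*} [Fintype J] [DecidableEq J] [DecidableEq α] {B : J → Finset α}

/-- the indices of the sets through `u` -/
def D (B : J → Finset α) (u : α) : Finset J := Finset.univ.filter (fun j => u ∈ B j)

theorem mem_D {u : α} {j : J} : j ∈ D B u ↔ u ∈ B j := by simp [D]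

theorem uniq (h1 : ∀ j k, j ≠ k → (B j ∩ B k).card = 1) {j k : J} {u v : α} (huv : u ≠ v) (h : u ∈ B j) (h' : v ∈ B j)
    (hk : u ∈ B k) (hk' : v ∈ B k) : j = k := by
  by_contra hne
  obtain ⟨x, hx⟩ := Finset.card_eq_one.1 (h1 j k hne)
  have e1 : u ∈ B j ∩ B k := Finset.mem_inter.2 ⟨h, hk⟩
  have e2 : v ∈ B j ∩ B k := Finset.mem_inter.2 ⟨h', hk'⟩
  rw [hx, Finset.mem_singleton] at e1 e2
  exact huv (e1.trans e2.symm)

/-- the sets through `u` meet a set off `u` in distinct points -/
theorem off (h1 : ∀ j k, j ≠ k → (B j ∩ B k).card = 1) {u : α} {l : J} (hl : u ∉ B l) :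
    ∃ x : J → α, (∀ k ∈ D B u, x k ∈ B l ∧ x k ∈ B k) ∧ Set.InjOn x (D B u) := by
  classical
  have hex : ∀ k ∈ D B u, ∃ x, x ∈ B l ∧ x ∈ B k := by
    intro k hk
    have hne : k ≠ l := by rintro rfl; exact hl (mem_D.1 hk)
    obtain ⟨x, hx⟩ := Finset.card_eq_one.1 (h1 k l hne)
    have : x ∈ B k ∩ B l := by rw [hx]; exact Finset.mem_singleton_self x
    exact ⟨x, (Finset.mem_inter.1 this).2, (Finset.mem_inter.1 this).1⟩
  haveI : Nonempty (D B u → α) ∨ True := Or.inr trivial
  let x : J → α := fun k => if h : k ∈ D B u then (hex k h).choose else u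
  have hx : ∀ k ∈ D B u, x k ∈ B l ∧ x k ∈ B k := by
    intro k hk
    simp only [x, dif_pos hk]
    exact (hex k hk).choose_spec
  refine ⟨x, hx, ?_⟩
  intro k hk k' hk' hkk
  rw [Finset.mem_coe] at hk hk'
  have hxu : x k ≠ u := fun h => hl (h ▸ (hx k hk).1)
  exact uniq h1 hxu (hx k hk).2 (mem_D.1 hk) (by rw [hkk]; exact (hx k' hk').2) (mem_D.1 hk')

theorem deg_le (h3 : ∀ j, (B j).card = 3) (h1 : ∀ j k, j ≠ k → (B j ∩ B k).card = 1) {u : α} {l : J} (hl : u ∉ B l) :
    (D B u).card ≤ 3 := by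
  obtain ⟨x, hx, hinj⟩ := off h1 hl
  rw [← h3 l]
  exact Finset.card_le_card_of_injOn x (fun k hk => (hx k hk).1) hinj

theorem cover (h3 : ∀ j, (B j).card = 3) (h1 : ∀ j k, j ≠ k → (B j ∩ B k).card = 1) {u : α} (hu : (D B u).card = 3)
    {l : J} (hl : u ∉ B l) {v : α} (hv : v ∈ B l) : ∃ k ∈ D B u, v ∈ B k := by
  obtain ⟨x, hx, hinj⟩ := off h1 hl
  have h4 : (D B u).image x = B l := by
    apply Finset.eq_of_subset_of_card_le
    · intro y hy
      obtain ⟨k, hk, rfl⟩ := Finset.mem_image.1 hy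
      exact (hx k hk).1
    · rw [Finset.card_image_of_injOn hinj, hu, h3]
  rw [← h4] at hv
  obtain ⟨k, hk, rfl⟩ := Finset.mem_image.1 hv
  exact ⟨k, hk, (hx k hk).2⟩

theorem sum_deg (h3 : ∀ j, (B j).card = 3) (h1 : ∀ j k, j ≠ k → (B j ∩ B k).card = 1) (j : J) :
    ∑ u ∈ B j, (D B u).card = Fintype.card J + 2 := by
  have e1 : ∀ u ∈ B j, (D B u).card = ∑ k : J, if u ∈ B k then 1 else 0 := by
    intro u _
    rw [D, Finset.card_filter]
  rw [Finset.sum_congr rfl e1, Finset.sum_comm]
  have e2 : ∀ k : J, (∑ u ∈ B j, if u ∈ B k then 1 else 0) = (B j ∩ B k).card := by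
    intro k
    rw [← Finset.card_filter, ← Finset.filter_mem_eq_inter]
  rw [Finset.sum_congr rfl (fun k _ => e2 k), ← Finset.add_sum_erase _ _ (Finset.mem_univ j), Finset.inter_self, h3]
  have e3 : ∀ k ∈ Finset.univ.erase j, (B j ∩ B k).card = 1 := fun k hk => h1 j k (Finset.mem_erase.1 hk).1.symm
  rw [Finset.sum_congr rfl e3, Finset.sum_const, Finset.card_erase_of_mem (Finset.mem_univ _), Finset.card_univ]
  have : 0 < Fintype.card J := Fintype.card_pos_iff.2 ⟨j⟩
  simp only [smul_eq_mul, mul_one]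
  omega

theorem three_split {s : Finset α} (hs : s.card = 3) : ∃ a b c, a ≠ b ∧ a ≠ c ∧ b ≠ c ∧ s = {a, b, c} :=
  Finset.card_eq_three.1 hs

/-- odd intersections -/
theorem odd_inter (h3 : ∀ j, (B j).card = 3) (h1 : ∀ j k, j ≠ k → (B j ∩ B k).card = 1) {u : α} (hu : (D B u).card = 3)
    {x : α} (hx : (D B x).Nonempty) : Odd (D B u ∩ D B x).card := by
  by_cases hxu : x = u
  · rw [hxu, Finset.inter_self, hu]; decide
  · have h4 : (D B u ∩ D B x).card ≤ 1 := by
      rw [Finset.card_le_one]
      intro a ha b hb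
      rw [Finset.mem_inter, mem_D, mem_D] at ha hb
      exact uniq h1 (Ne.symm hxu) ha.1 ha.2 hb.1 hb.2
    have h5 : (D B u ∩ D B x).Nonempty := by
      obtain ⟨l, hl⟩ := hx
      by_cases hul : u ∈ B l
      · exact ⟨l, Finset.mem_inter.2 ⟨mem_D.2 hul, hl⟩⟩
      · obtain ⟨k, hk, hxk⟩ := cover h3 h1 hu hul (mem_D.1 hl)
        exact ⟨k, Finset.mem_inter.2 ⟨hk, mem_D.2 hxk⟩⟩
    have h6 := h5.card_pos
    have : (D B u ∩ D B x).card = 1 := by omega
    rw [this]; decide

theorem sunflower (h3 : ∀ j, (B j).card = 3) (h1 : ∀ j k, j ≠ k → (B j ∩ B k).card = 1)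
    (hJ : Even (Fintype.card J)) (hJ2 : 2 ≤ Fintype.card J)
    (heven : ∀ J' : Finset J, J'.Nonempty → ∃ u, Odd (J' ∩ D B u).card)
    (hhom : Fintype.card J = 4 → ∀ j k, (∃ u ∈ B j, (D B u).card = 3) → ∃ u ∈ B k, (D B u).card = 3) :
    ∃ u, ∀ j, u ∈ B j := by
  classical
  by_contra hno
  push Not at hno
  have hdle : ∀ u, (D B u).card ≤ 3 := fun u => by
    obtain ⟨l, hl⟩ := hno u
    exact deg_le h3 h1 hl
  obtain ⟨j₀⟩ : Nonempty J := Fintype.card_pos_iff.1 (by omega)
  have hn7 : Fintype.card J + 2 ≤ 9 := by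
    rw [← sum_deg h3 h1 j₀]
    calc ∑ u ∈ B j₀, (D B u).card ≤ ∑ u ∈ B j₀, 3 := Finset.sum_le_sum fun u _ => hdle u
      _ = 9 := by rw [Finset.sum_const, h3]; rfl
  have hcases : Fintype.card J = 2 ∨ Fintype.card J = 4 ∨ Fintype.card J = 6 := by
    obtain ⟨r, hr⟩ := hJ
    omega
  rcases hcases with hn | hn | hn
  · -- two sets
    rw [← Finset.card_univ] at hn
    obtain ⟨a, b, hab, hU⟩ := Finset.card_eq_two.1 hn
    obtain ⟨u, hu⟩ := Finset.card_eq_one.1 (h1 a b hab)
    have hmem : u ∈ B a ∩ B b := by rw [hu]; exact Finset.mem_singleton_self u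
    obtain ⟨l, hl⟩ := hno u
    have : l ∈ (Finset.univ : Finset J) := Finset.mem_univ l
    rw [hU, Finset.mem_insert, Finset.mem_singleton] at this
    rcases this with rfl | rfl
    · exact hl (Finset.mem_inter.1 hmem).1
    · exact hl (Finset.mem_inter.1 hmem).2
  · -- four sets
    by_cases hex : ∃ u, (D B u).card = 3
    · obtain ⟨u, hu⟩ := hex
      obtain ⟨l, hl⟩ := hno u
      obtain ⟨j, hj⟩ : (D B u).Nonempty := Finset.card_pos.1 (by omega)
      obtain ⟨v, hv, hv3⟩ := hhom hn j l ⟨u, mem_D.1 hj, hu⟩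
      have huv : u ≠ v := fun h => hl (h ▸ hv)
      have h5 : 1 < (D B u ∩ D B v).card := by
        have h6 := Finset.card_union_add_card_inter (D B u) (D B v)
        have h7 : (D B u ∪ D B v).card ≤ 4 := by
          rw [← hn]; exact Finset.card_le_univ _
        omega
      obtain ⟨a, ha, b, hb, hab⟩ := Finset.one_lt_card.1 h5
      rw [Finset.mem_inter, mem_D, mem_D] at ha hb
      exact hab (uniq h1 huv ha.1 ha.2 hb.1 hb.2)
    · push Not at hex
      obtain ⟨u, hu⟩ := heven Finset.univ ⟨j₀, Finset.mem_univ _⟩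
      rw [Finset.univ_inter] at hu
      obtain ⟨j, hj⟩ : (D B u).Nonempty := by
        rw [Finset.nonempty_iff_ne_empty]
        intro h
        rw [h, Finset.card_empty] at hu
        exact absurd hu (by decide)
      -- the degree of u is 1
      have hu1 : (D B u).card = 1 := by
        have e1 := hdle u
        have e2 := hex u
        obtain ⟨r, hr⟩ := hu
        omega
      have h5 := sum_deg h3 h1 j
      rw [hn, ← Finset.add_sum_erase _ _ (mem_D.1 hj), hu1] at h5
      have h6 : ∑ v ∈ (B j).erase u, (D B v).card ≤ ∑ v ∈ (B j).erase u, 2 := by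
        apply Finset.sum_le_sum
        intro v _
        have e1 := hdle v
        have e2 := hex v
        omega
      rw [Finset.sum_const, Finset.card_erase_of_mem (mem_D.1 hj), h3] at h6
      simp only [smul_eq_mul] at h6
      omega
  · -- six sets
    obtain ⟨a, b, c, hab, hac, hbc, hB⟩ := three_split (h3 j₀)
    have h5 := sum_deg h3 h1 j₀
    rw [hn, hB, Finset.sum_insert (by simp [hab, hac]), Finset.sum_insert (by simp [hbc]), Finset.sum_singleton] at h5
    have d1 := hdle a
    have d2 := hdle b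
    have d3 := hdle c
    -- two points of degree three
    obtain ⟨u, w, huw, hu, hw⟩ : ∃ u w, u ≠ w ∧ (D B u).card = 3 ∧ (D B w).card = 3 := by
      by_cases e1 : (D B a).card = 3
      · by_cases e2 : (D B b).card = 3
        · exact ⟨a, b, hab, e1, e2⟩
        · exact ⟨a, c, hac, e1, by omega⟩
      · exact ⟨b, c, hbc, by omega, by omega⟩
    have hle1 : (D B u ∩ D B w).card ≤ 1 := by
      rw [Finset.card_le_one]
      intro x hx y hy
      rw [Finset.mem_inter, mem_D, mem_D] at hx hy
      exact uniq h1 huw hx.1 hx.2 hy.1 hy.2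
    have hcard_symm : ∀ X : Finset J, Even (((D B u \ D B w) ∪ (D B w \ D B u)) ∩ X).card ↔
        Even ((D B u ∩ X).card + (D B w ∩ X).card) := by
      intro X
      have e1 : (((D B u \ D B w) ∪ (D B w \ D B u)) ∩ X).card = ((D B u \ D B w) ∩ X).card + ((D B w \ D B u) ∩ X).card := by
        rw [Finset.union_inter_distrib_right, Finset.card_union_of_disjoint]
        rw [Finset.disjoint_left]
        intro y hy hy'
        simp only [Finset.mem_inter, Finset.mem_sdiff] at hy hy'
        exact hy.1.2 hy'.1.1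
      have e2 : (D B u ∩ X).card = ((D B u \ D B w) ∩ X).card + ((D B u ∩ D B w) ∩ X).card := by
        rw [← Finset.card_union_of_disjoint]
        · congr 1
          ext y
          simp only [Finset.mem_union, Finset.mem_inter, Finset.mem_sdiff]
          tauto
        · rw [Finset.disjoint_left]
          intro y hy hy'
          simp only [Finset.mem_inter, Finset.mem_sdiff] at hy hy'
          exact hy.1.2 hy'.1.2
      have e3 : (D B w ∩ X).card = ((D B w \ D B u) ∩ X).card + ((D B u ∩ D B w) ∩ X).card := by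
        rw [← Finset.card_union_of_disjoint]
        · congr 1
          ext y
          simp only [Finset.mem_union, Finset.mem_inter, Finset.mem_sdiff]
          tauto
        · rw [Finset.disjoint_left]
          intro y hy hy'
          simp only [Finset.mem_inter, Finset.mem_sdiff] at hy hy'
          exact hy.1.2 hy'.1.1
      rw [Nat.even_iff, Nat.even_iff]
      omega
    obtain ⟨x, hx⟩ := heven ((D B u \ D B w) ∪ (D B w \ D B u)) (by
      have h7 : (D B u \ D B w).Nonempty := by
        rw [← Finset.card_pos]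
        have := Finset.card_sdiff_add_card_inter (D B u) (D B w)
        omega
      exact h7.mono Finset.subset_union_left)
    rw [← Nat.not_even_iff_odd, hcard_symm] at hx
    apply hx
    by_cases hne : (D B x).Nonempty
    · exact (odd_inter h3 h1 hu hne).add_odd (odd_inter h3 h1 hw hne)
    · rw [Finset.not_nonempty_iff_eq_empty] at hne
      rw [hne]; simp

end Cfsg.Agent.H10.Comb3
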