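import Mathlib
import Cfsg.Agent.H10_CycTI

/-!
H10_CycTI2: cyclic TI subgroups, the trivial intersection property.
-/

set_option autoImplicit false
set_option linter.style.haveILetI false
set_option linter.unusedSectionVars false

namespace Cfsg.Agent.H10.CycTI2

open Cfsg Cfsg.Agent.H3.CharIrr Cfsg.Agent.H3.CharComplete Cfsg.Agent.H3.CharInd
  Cfsg.Agent.H3.CharBasic Cfsg.Agent.H10.Char Cfsg.Agent.H10.CycTI
open scoped ComplexConjugate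

/-- a subgroup of a finite cyclic group is cut out by its exponent -/
theorem mem_iff_pow {W : Type*} [Group W] [Finite W] [IsCyclic W] (A : Subgroup W) (x : W) :
    x ∈ A ↔ x ^ Nat.card A = 1 := by
  classical
  haveI := Fintype.ofFinite W
  constructor
  · intro h
    have := pow_card_eq_one' (x := (⟨x, h⟩ : A))
    exact congrArg Subtype.val this
  · intro h
    have h1 : (Finset.univ.filter (fun a : W => a ∈ A)) = Finset.univ.filter (fun a : W => a ^ Nat.card A = 1) := by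
      apply Finset.eq_of_subset_of_card_le
      · intro a ha
        rw [Finset.mem_filter] at ha ⊢
        refine ⟨Finset.mem_univ _, ?_⟩
        have := pow_card_eq_one' (x := (⟨a, ha.2⟩ : A))
        exact congrArg Subtype.val this
      · have h2 := IsCyclic.card_pow_eq_one_le (α := W) (n := Nat.card A) Nat.card_pos
        refine h2.trans ?_
        rw [← Fintype.card_subtype, ← Nat.card_eq_fintype_card]
    have h3 : x ∈ Finset.univ.filter (fun a : W => a ^ Nat.card A = 1) := Finset.mem_filter.2 ⟨Finset.mem_univ _, h⟩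
    rw [← h1, Finset.mem_filter] at h3
    exact h3.2

variable {G : Type*} [Group G] {W₁ W₂ : Subgroup G}

section

variable (hW : IsSelfNormalizingCyclic W₁ W₂)
include hW

theorem hab (a b : ↥(W₁ ⊔ W₂)) : a * b = b * a := by
  haveI := hW.2.2.2.2.1
  obtain ⟨g, hg⟩ := IsCyclic.exists_generator (α := ↥(W₁ ⊔ W₂))
  obtain ⟨m, rfl⟩ := Subgroup.mem_zpowers_iff.1 (hg a)
  obtain ⟨n, rfl⟩ := Subgroup.mem_zpowers_iff.1 (hg b)
  rw [← zpow_add, ← zpow_add, add_comm]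

theorem hdisj : W₁ ⊓ W₂ = ⊥ := hW.2.2.1

theorem hcomm : ∀ a ∈ W₁, ∀ b ∈ W₂, a * b = b * a := hW.2.2.2.1

variable [Finite G]

theorem mem1 {x : G} (hx : x ∈ W₁ ⊔ W₂) : x ∈ W₁ ↔ x ^ Nat.card W₁ = 1 := by
  haveI := hW.2.2.2.2.1
  have h := mem_iff_pow (W₁.subgroupOf (W₁ ⊔ W₂)) ⟨x, hx⟩
  rw [Subgroup.mem_subgroupOf] at h
  have h2 : Nat.card (W₁.subgroupOf (W₁ ⊔ W₂)) = Nat.card W₁ :=
    Nat.card_congr (Subgroup.subgroupOfEquivOfLe le_sup_left).toEquiv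
  rw [h2] at h
  rw [show (x ∈ W₁ ↔ _) from h, Subtype.ext_iff]
  rfl

theorem mem2 {x : G} (hx : x ∈ W₁ ⊔ W₂) : x ∈ W₂ ↔ x ^ Nat.card W₂ = 1 := by
  haveI := hW.2.2.2.2.1
  have h := mem_iff_pow (W₂.subgroupOf (W₁ ⊔ W₂)) ⟨x, hx⟩
  rw [Subgroup.mem_subgroupOf] at h
  have h2 : Nat.card (W₂.subgroupOf (W₁ ⊔ W₂)) = Nat.card W₂ :=
    Nat.card_congr (Subgroup.subgroupOfEquivOfLe le_sup_right).toEquiv
  rw [h2] at h
  rw [show (x ∈ W₂ ↔ _) from h, Subtype.ext_iff]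
  rfl

theorem coprime_card : Nat.Coprime (Nat.card W₁) (Nat.card W₂) := by
  by_contra hne
  obtain ⟨p, hp, h1, h2⟩ := Nat.Prime.not_coprime_iff_dvd.1 hne
  haveI := Fact.mk hp
  obtain ⟨b, hb⟩ := exists_prime_orderOf_dvd_card' (G := W₂) p h2
  have h3 : (b : G) ^ Nat.card W₁ = 1 := by
    rw [← orderOf_dvd_iff_pow_eq_one, Subgroup.orderOf_coe, hb]
    exact h1
  have h4 := (mem1 hW (Subgroup.mem_sup_right b.2)).2 h3
  have h5 : (b : G) ∈ W₁ ⊓ W₂ := ⟨h4, b.2⟩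
  rw [hW.2.2.1, Subgroup.mem_bot] at h5
  have h6 : b = 1 := Subtype.ext h5
  rw [h6, orderOf_one] at hb
  exact hp.one_lt.ne hb

/-- the set `V` -/
def V (W₁ W₂ : Subgroup G) : Set G := (↑(W₁ ⊔ W₂) : Set G) \ (↑W₁ ∪ ↑W₂)

omit hW [Finite G] in
theorem mem_V {x : G} : x ∈ V W₁ W₂ ↔ x ∈ W₁ ⊔ W₂ ∧ x ∉ W₁ ∧ x ∉ W₂ := by
  simp only [V, Set.mem_diff, Set.mem_union, SetLike.mem_coe, not_or]

omit [Finite G] in
theorem V_nonempty : (V W₁ W₂).Nonempty := by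
  obtain ⟨⟨a, ha⟩, ha1'⟩ := (Subgroup.ne_bot_iff_exists_ne_one.1 hW.1)
  have ha1 : a ≠ 1 := fun h => ha1' (Subtype.ext h)
  obtain ⟨b, hb⟩ := (Subgroup.ne_bot_iff_exists_ne_one.1 hW.2.1)
  refine ⟨(⟨a, ha⟩ : W₁) * (b : G), ?_⟩
  rw [mem_V]
  refine ⟨Subgroup.mul_mem_sup ha b.2, fun h => ?_, fun h => ?_⟩
  · have h1 : (b : G) ∈ W₁ := by
      have := W₁.mul_mem (W₁.inv_mem ha) h
      rwa [inv_mul_cancel_left] at this
    have h2 : (b : G) ∈ W₁ ⊓ W₂ := ⟨h1, b.2⟩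
    rw [hW.2.2.1, Subgroup.mem_bot] at h2
    exact hb (Subtype.ext h2)
  · have h1 : a ∈ W₂ := by
      have := W₂.mul_mem h (W₂.inv_mem b.2)
      rwa [mul_inv_cancel_right] at this
    have h2 : a ∈ W₁ ⊓ W₂ := ⟨ha, h1⟩
    rw [hW.2.2.1, Subgroup.mem_bot] at h2
    exact ha1 h2

theorem ti {g : G} {t : G} (ht : t ∈ V W₁ W₂) (hgt : g * t * g⁻¹ ∈ V W₁ W₂) : g ∈ W₁ ⊔ W₂ := by
  have hN := hW.2.2.2.2.2
  have hcent : ∀ s ∈ V W₁ W₂, ∀ x, x * s = s * x ↔ x ∈ W₁ ⊔ W₂ := by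
    intro s hs x
    rw [← hN {s} (Set.singleton_subset_iff.2 hs) (Set.singleton_nonempty s), Subgroup.mem_set_normalizer_iff]
    constructor
    · intro h y
      rw [Set.mem_singleton_iff, Set.mem_singleton_iff]
      constructor
      · rintro rfl; rw [h]; group
      · intro h2
        have h3 : x * s * x⁻¹ = s := by rw [h]; group
        have h4 : x * y * x⁻¹ = x * s * x⁻¹ := h2.trans h3.symm
        exact mul_left_cancel (mul_right_cancel h4)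
    · intro h
      have h2 := (h s).1 rfl
      rw [Set.mem_singleton_iff] at h2
      exact mul_inv_eq_iff_eq_mul.1 h2
  have hnorm : ∀ w, w ∈ W₁ ⊔ W₂ ↔ g * w * g⁻¹ ∈ W₁ ⊔ W₂ := by
    intro w
    rw [← hcent t ht w, ← hcent _ hgt (g * w * g⁻¹)]
    constructor
    · intro h
      calc g * w * g⁻¹ * (g * t * g⁻¹) = g * (w * t) * g⁻¹ := by group
        _ = g * (t * w) * g⁻¹ := by rw [h]
        _ = g * t * g⁻¹ * (g * w * g⁻¹) := by group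
    · intro h
      have h1 : g * (w * t) * g⁻¹ = g * (t * w) * g⁻¹ := by
        calc g * (w * t) * g⁻¹ = g * w * g⁻¹ * (g * t * g⁻¹) := by group
          _ = g * t * g⁻¹ * (g * w * g⁻¹) := h
          _ = _ := by group
      exact mul_left_cancel (mul_right_cancel h1)
  have hn1 : ∀ w ∈ W₁ ⊔ W₂, (w ∈ W₁ ↔ g * w * g⁻¹ ∈ W₁) := by
    intro w hw
    rw [mem1 hW hw, mem1 hW ((hnorm w).1 hw), conj_pow]
    constructor
    · intro h; rw [h]; group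
    · intro h
      have : g * w ^ Nat.card W₁ * g⁻¹ = g * 1 * g⁻¹ := by rw [h]; group
      exact mul_left_cancel (mul_right_cancel this)
  have hn2 : ∀ w ∈ W₁ ⊔ W₂, (w ∈ W₂ ↔ g * w * g⁻¹ ∈ W₂) := by
    intro w hw
    rw [mem2 hW hw, mem2 hW ((hnorm w).1 hw), conj_pow]
    constructor
    · intro h; rw [h]; group
    · intro h
      have : g * w ^ Nat.card W₂ * g⁻¹ = g * 1 * g⁻¹ := by rw [h]; group
      exact mul_left_cancel (mul_right_cancel this)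
  rw [← hN (V W₁ W₂) le_rfl (V_nonempty hW), Subgroup.mem_set_normalizer_iff]
  intro w
  rw [mem_V, mem_V]
  constructor
  · rintro ⟨h1, h2, h3⟩
    exact ⟨(hnorm w).1 h1, fun h => h2 ((hn1 w h1).2 h), fun h => h3 ((hn2 w h1).2 h)⟩
  · rintro ⟨h1, h2, h3⟩
    have h1' := (hnorm w).2 h1
    exact ⟨h1', fun h => h2 ((hn1 w h1').1 h), fun h => h3 ((hn2 w h1').1 h)⟩

end

section

variable [Fintype G] (hW : IsSelfNormalizingCyclic W₁ W₂)
include hW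

theorem ti' : ∀ g : G, g ∉ W₁ ⊔ W₂ → ∀ t ∈ V W₁ W₂, g * t * g⁻¹ ∈ V W₁ W₂ → t = 1 := by
  intro g hg t ht hgt
  exact absurd (ti hW ht hgt) hg

theorem class_W (f : ↥(W₁ ⊔ W₂) → ℂ) : IsClassFunction ↥(W₁ ⊔ W₂) f := by
  intro a b
  rw [hab hW b a, mul_inv_cancel_right]

theorem ind_V [Fintype ↥(W₁ ⊔ W₂)] {f : ↥(W₁ ⊔ W₂) → ℂ} (hf : ∀ x : ↥(W₁ ⊔ W₂), (x : G) ∉ V W₁ W₂ → f x = 0)
    (v : ↥(W₁ ⊔ W₂)) (hv : (v : G) ∈ V W₁ W₂) : indFun (W₁ ⊔ W₂) f v = f v := by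
  apply Cfsg.Agent.H3.CharTI.ind_eq_of_TI' (W₁ ⊔ W₂) (V W₁ W₂) (ti' hW) f (class_W hW f) hf v hv
  intro h
  rw [mem_V, h] at hv
  exact hv.2.1 W₁.one_mem

theorem ind_iso [Fintype ↥(W₁ ⊔ W₂)] {f f' : ↥(W₁ ⊔ W₂) → ℂ} (hf : ∀ x : ↥(W₁ ⊔ W₂), (x : G) ∉ V W₁ W₂ → f x = 0)
    (hf' : ∀ x : ↥(W₁ ⊔ W₂), (x : G) ∉ V W₁ W₂ → f' x = 0) :
    classInner (indFun (W₁ ⊔ W₂) f) (indFun (W₁ ⊔ W₂) f') = classInner f f' := by
  apply Cfsg.Agent.H3.CharTI.ind_inner_of_TI' (W₁ ⊔ W₂) (V W₁ W₂) (ti' hW) f f' (class_W hW f') hf hf'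
  apply hf
  intro h
  rw [mem_V] at h
  exact h.2.1 W₁.one_mem

end

end Cfsg.Agent.H10.CycTI2
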