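import Mathlib
import Cfsg.Agent.H10_CycTI
import Cfsg.Agent.H10_CycTI2

/-!
H10_CycTI3: cyclic TI subgroups, families.
-/

set_option autoImplicit false
set_option linter.style.haveILetI false
set_option linter.unusedSectionVars false

namespace Cfsg.Agent.H10.CycTI3

open Cfsg Cfsg.Agent.H3.CharIrr Cfsg.Agent.H3.CharComplete Cfsg.Agent.H3.CharInd
  Cfsg.Agent.H3.CharBasic Cfsg.Agent.H10.Char Cfsg.Agent.H10.CycTI Cfsg.Agent.H10.CycTI2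
open scoped ComplexConjugate

variable {G : Type*} [Group G] {W₁ W₂ : Subgroup G}

theorem hom_one_mul {P : Type*} [Group P] (f : P →* ℂˣ) : (1 : P →* ℂˣ) * f = f := by
  ext w; rw [MonoidHom.mul_apply, MonoidHom.one_apply, one_mul]

theorem hom_mul_one {P : Type*} [Group P] (f : P →* ℂˣ) : f * (1 : P →* ℂˣ) = f := by
  ext w; rw [MonoidHom.mul_apply, MonoidHom.one_apply, mul_one]

theorem al_V {φ ψ : ↥(W₁ ⊔ W₂) →* ℂˣ} (hφ : X1 W₁ W₂ φ) (hψ : X2 W₁ W₂ ψ) :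
    ∀ x : ↥(W₁ ⊔ W₂), (x : G) ∉ V W₁ W₂ → al φ ψ x = 0 := by
  intro x hx
  rw [mem_V] at hx
  apply al_zero hφ hψ
  by_contra h
  push Not at h
  exact hx ⟨x.2, h⟩

open Classical in
/-- inner product of the functions `al` with characters -/
theorem al_cc [Fintype ↥(W₁ ⊔ W₂)] (φ ψ ω : ↥(W₁ ⊔ W₂) →* ℂˣ) :
    classInner (al φ ψ) (fun w => (ω w : ℂ)) = (if 1 = ω then 1 else 0) - (if φ = ω then 1 else 0)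
      - (if ψ = ω then 1 else 0) + (if φ * ψ = ω then 1 else 0) := by
  have h : al φ ψ = ((fun w => ((1 : ↥(W₁ ⊔ W₂) →* ℂˣ) w : ℂ)) - (fun w => (φ w : ℂ)) - (fun w => (ψ w : ℂ)) + (fun w => ((φ * ψ) w : ℂ)) : ↥(W₁ ⊔ W₂) → ℂ) := by
    funext w
    simp [al]
  rw [h, ci_add_left, ci_sub_left, ci_sub_left, cc_inner, cc_inner, cc_inner, cc_inner]

theorem al_sum [Fintype ↥(W₁ ⊔ W₂)] (f : ↥(W₁ ⊔ W₂) → ℂ) (φ ψ : ↥(W₁ ⊔ W₂) →* ℂˣ) :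
    classInner f (al φ ψ) = classInner f (fun _ => 1) - classInner f (fun w => (φ w : ℂ)) - classInner f (fun w => (ψ w : ℂ))
      + classInner f (fun w => ((φ * ψ) w : ℂ)) := by
  have h : al φ ψ = ((fun _ => 1) - (fun w => (φ w : ℂ)) - (fun w => (ψ w : ℂ)) + (fun w => ((φ * ψ) w : ℂ)) : ↥(W₁ ⊔ W₂) → ℂ) := by
    funext w
    simp [al]
  rw [h, ci_add_right, ci_sub_right, ci_sub_right]

section

variable [Fintype G] (hW : IsSelfNormalizingCyclic W₁ W₂)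
include hW

open Classical in
theorem al_al [Fintype ↥(W₁ ⊔ W₂)] {φ ψ φ' ψ' : ↥(W₁ ⊔ W₂) →* ℂˣ} (hφ : X1 W₁ W₂ φ) (hψ : X2 W₁ W₂ ψ)
    (hφ' : X1 W₁ W₂ φ') (hψ' : X2 W₁ W₂ ψ') (h1 : φ ≠ 1) (h2 : ψ ≠ 1) (h3 : φ' ≠ 1) (h4 : ψ' ≠ 1) :
    classInner (al φ ψ) (al φ' ψ') = 1 + (if φ = φ' then 1 else 0) + (if ψ = ψ' then 1 else 0)
      + (if φ = φ' then 1 else 0) * (if ψ = ψ' then 1 else 0) := by
  have hd := hdisj hW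
  have hc := hcomm hW
  have X11 : X1 W₁ W₂ (1 : ↥(W₁ ⊔ W₂) →* ℂˣ) := fun w _ => rfl
  have X21 : X2 W₁ W₂ (1 : ↥(W₁ ⊔ W₂) →* ℂˣ) := fun w _ => rfl
  have inj : ∀ {a a' b b' : ↥(W₁ ⊔ W₂) →* ℂˣ}, X1 W₁ W₂ a → X1 W₁ W₂ a' → X2 W₁ W₂ b → X2 W₁ W₂ b' →
    a * b = a' * b' → a = a' ∧ b = b' := fun ha ha' hb hb' h => X_inj ha ha' hb hb' hd hc h
  have n1 : (1 : ↥(W₁ ⊔ W₂) →* ℂˣ) ≠ φ' := Ne.symm h3
  have n2 : (1 : ↥(W₁ ⊔ W₂) →* ℂˣ) ≠ ψ' := Ne.symm h4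
  have n3 : (1 : ↥(W₁ ⊔ W₂) →* ℂˣ) ≠ φ' * ψ' := fun h => n1 (inj X11 hφ' X21 hψ' (by rw [hom_mul_one]; exact h)).1
  have n4 : φ ≠ ψ' := fun h => h1 (inj hφ X11 X21 hψ' (by rw [hom_mul_one, hom_one_mul]; exact h)).1
  have n5 : φ ≠ φ' * ψ' := fun h => n2 (inj hφ hφ' X21 hψ' (by rw [hom_mul_one]; exact h)).2
  have n6 : ψ ≠ φ' := fun h => h2 (inj X11 hφ' hψ X21 (by rw [hom_mul_one, hom_one_mul]; exact h)).2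
  have n7 : ψ ≠ φ' * ψ' := fun h => n1 (inj X11 hφ' hψ hψ' (by rw [hom_one_mul]; exact h)).1
  have n8 : φ * ψ ≠ φ' := fun h => h2 (inj hφ hφ' hψ X21 (by rw [hom_mul_one]; exact h)).2
  have n9 : φ * ψ ≠ ψ' := fun h => h1 (inj hφ X11 hψ hψ' (by rw [hom_one_mul]; exact h)).1
  have n10 : φ * ψ ≠ 1 := fun h => h1 (inj hφ X11 hψ X21 (by rw [hom_one_mul]; exact h)).1
  have e1 : (fun _ => (1 : ℂ)) = (fun w : ↥(W₁ ⊔ W₂) => ((1 : ↥(W₁ ⊔ W₂) →* ℂˣ) w : ℂ)) := by funext w; simp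
  rw [al_sum, e1, al_cc, al_cc, al_cc, al_cc, if_pos rfl, if_neg h1, if_neg h2, if_neg n10, if_neg n1, if_neg n6,
    if_neg n8, if_neg n2, if_neg n4, if_neg n9, if_neg n3, if_neg n5, if_neg n7]
  by_cases ha : φ = φ'
  · by_cases hb : ψ = ψ'
    · rw [if_pos ha, if_pos hb, if_pos (by rw [ha, hb])]; norm_num
    · rw [if_pos ha, if_neg hb, if_neg (fun h => hb (inj hφ hφ' hψ hψ' h).2)]; norm_num
  · rw [if_neg ha, if_neg (fun h => ha (inj hφ hφ' hψ hψ' h).1)]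
    split_ifs <;> norm_num

theorem ind_al_one [Fintype ↥(W₁ ⊔ W₂)] {φ ψ : ↥(W₁ ⊔ W₂) →* ℂˣ} (hφ : X1 W₁ W₂ φ) (hψ : X2 W₁ W₂ ψ)
    (h1 : φ ≠ 1) (h2 : ψ ≠ 1) : classInner (indFun (W₁ ⊔ W₂) (al φ ψ)) (fun _ => 1) = 1 := by
  classical
  have X11 : X1 W₁ W₂ (1 : ↥(W₁ ⊔ W₂) →* ℂˣ) := fun w _ => rfl
  have X21 : X2 W₁ W₂ (1 : ↥(W₁ ⊔ W₂) →* ℂˣ) := fun w _ => rfl
  rw [frobenius _ _ _ (fun _ _ => rfl)]
  have e1 : (fun _ => (1 : ℂ)) = (fun w : ↥(W₁ ⊔ W₂) => ((1 : ↥(W₁ ⊔ W₂) →* ℂˣ) w : ℂ)) := by funext w; simp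
  rw [e1, al_cc, if_pos rfl, if_neg h1, if_neg h2, if_neg]
  · norm_num
  · intro h
    exact h1 (X_inj hφ X11 hψ X21 (hdisj hW) (hcomm hW) (by rw [hom_one_mul]; exact h)).1

theorem ind_al_al [Fintype ↥(W₁ ⊔ W₂)] {φ ψ φ' ψ' : ↥(W₁ ⊔ W₂) →* ℂˣ} (hφ : X1 W₁ W₂ φ) (hψ : X2 W₁ W₂ ψ)
    (hφ' : X1 W₁ W₂ φ') (hψ' : X2 W₁ W₂ ψ') :
    classInner (indFun (W₁ ⊔ W₂) (al φ ψ)) (indFun (W₁ ⊔ W₂) (al φ' ψ')) = classInner (al φ ψ) (al φ' ψ') :=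
  ind_iso hW (al_V hφ hψ) (al_V hφ' hψ')

variable {χ : (↥(W₁ ⊔ W₂) →* ℂˣ) → (G → ℂ)} (hχ : IsCyclicTIFamily W₁ W₂ χ)
include hχ

theorem ind_al {φ ψ : ↥(W₁ ⊔ W₂) →* ℂˣ} (hφ : X1 W₁ W₂ φ) (hψ : X2 W₁ W₂ ψ) :
    indFun (W₁ ⊔ W₂) (al φ ψ) = fun g => 1 - χ φ g - χ ψ g + χ (φ * ψ) g := by
  have h0 : indFun (W₁ ⊔ W₂) (fun _ => (0 : ℂ)) = 0 := by
    funext g
    rw [indFun]
    have : ∀ x : G, extendByZero (W₁ ⊔ W₂) (fun _ => (0 : ℂ)) (x⁻¹ * g * x) = 0 := by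
      intro x
      by_cases h : x⁻¹ * g * x ∈ W₁ ⊔ W₂
      · rw [ext_mem _ _ h]
      · rw [ext_not_mem _ _ h]
    simp [this]
  by_cases h1 : φ = 1
  · have : al φ ψ = fun _ => 0 := by funext w; rw [al, h1]; simp
    rw [this, h0, h1, hom_one_mul, hχ.map_one]
    funext g; simp
  · by_cases h2 : ψ = 1
    · have : al φ ψ = fun _ => 0 := by funext w; rw [al, h2]; simp
      rw [this, h0, h2, hom_mul_one, hχ.map_one]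
      funext g; simp
    · exact hχ.induced_eq φ ψ h1 h2 hφ hψ

theorem inner_al [Fintype ↥(W₁ ⊔ W₂)] {θ : G → ℂ} (hθ : IsClassFunction G θ) {φ ψ : ↥(W₁ ⊔ W₂) →* ℂˣ} (hφ : X1 W₁ W₂ φ) (hψ : X2 W₁ W₂ ψ) :
    classInner (fun w : ↥(W₁ ⊔ W₂) => θ w) (al φ ψ) =
      classInner θ (χ 1) - classInner θ (χ φ) - classInner θ (χ ψ) + classInner θ (χ (φ * ψ)) := by
  rw [← frobenius' (W₁ ⊔ W₂) _ θ hθ, ind_al hW hχ hφ hψ]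
  have : (fun g => 1 - χ φ g - χ ψ g + χ (φ * ψ) g) = χ 1 - χ φ - χ ψ + χ (φ * ψ) := by
    funext g; rw [hχ.map_one]; rfl
  rw [this, ci_add_right, ci_sub_right, ci_sub_right]

theorem zero_of_orth {θ : G → ℂ} (hθ : IsClassFunction G θ) (horth : ∀ ω, classInner θ (χ ω) = 0)
    (w : ↥(W₁ ⊔ W₂)) (hw₁ : (w : G) ∉ W₁) (hw₂ : (w : G) ∉ W₂) : θ w = 0 := by
  haveI := Fintype.ofFinite ↥(W₁ ⊔ W₂)
  apply value_formula (hab hW) (hdisj hW) (hcomm hW) (fun w : ↥(W₁ ⊔ W₂) => θ w) _ w hw₁ hw₂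
  intro φ ψ hφ hψ
  rw [inner_al hW hχ hθ hφ hψ, horth, horth, horth, horth]; ring

theorem inner_zero {θ : G → ℂ} (hθ : IsClassFunction G θ)
    (hθV : ∀ w : ↥(W₁ ⊔ W₂), (w : G) ∉ W₁ → (w : G) ∉ W₂ → θ w = 0) {φ ψ : ↥(W₁ ⊔ W₂) →* ℂˣ} (hφ : X1 W₁ W₂ φ) (hψ : X2 W₁ W₂ ψ) :
    classInner θ (χ 1) - classInner θ (χ φ) - classInner θ (χ ψ) + classInner θ (χ (φ * ψ)) = 0 := by
  haveI := Fintype.ofFinite ↥(W₁ ⊔ W₂)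
  rw [← inner_al hW hχ hθ hφ hψ, classInner]
  apply mul_eq_zero_of_right
  apply Finset.sum_eq_zero
  intro w _
  by_cases h : (w : G) ∈ V W₁ W₂
  · rw [mem_V] at h
    show θ w * _ = 0
    rw [hθV w h.2.1 h.2.2, zero_mul]
  · rw [al_V hφ hψ w h, map_zero, mul_zero]

theorem grid {θ : G → ℂ} (hθ : IsClassFunction G θ)
    (hθV : ∀ w : ↥(W₁ ⊔ W₂), (w : G) ∉ W₁ → (w : G) ∉ W₂ → θ w = 0) {φ ψ φ' ψ' : ↥(W₁ ⊔ W₂) →* ℂˣ}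
    (hφ : X1 W₁ W₂ φ) (hψ : X2 W₁ W₂ ψ) (hφ' : X1 W₁ W₂ φ') (hψ' : X2 W₁ W₂ ψ') :
    classInner θ (χ (φ * ψ)) + classInner θ (χ (φ' * ψ')) = classInner θ (χ (φ * ψ')) + classInner θ (χ (φ' * ψ)) := by
  have h1 := inner_zero hW hχ hθ hθV hφ hψ
  have h2 := inner_zero hW hχ hθ hθV hφ' hψ'
  have h3 := inner_zero hW hχ hθ hθV hφ hψ'
  have h4 := inner_zero hW hχ hθ hθV hφ' hψ
  linear_combination h1 + h2 - h3 - h4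

end

end Cfsg.Agent.H10.CycTI3
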