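import Mathlib
import Cfsg.Prelude.Def_OddOrderChar
import Cfsg.Agent.H10_CycTI3

/-!
H10_CycTI4: the grid of coefficients of a class function vanishing on `V`.
-/

set_option autoImplicit false
set_option linter.style.haveILetI false
set_option linter.unusedSectionVars false

namespace Cfsg.Agent.H10.CycTI4

open Cfsg Cfsg.Agent.H3.CharBasic Cfsg.Agent.H3.CharIrr Cfsg.Agent.H3.CharComplete
  Cfsg.Agent.H10.CycTI Cfsg.Agent.H10.CycTI2 Cfsg.Agent.H10.CycTI3

section Card

variable {G : Type*} [Group G] {W₁ W₂ : Subgroup G}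

theorem card_X1 [Finite G] (hW : IsSelfNormalizingCyclic W₁ W₂) :
    Nat.card {φ : ↥(W₁ ⊔ W₂) →* ℂˣ // X1 W₁ W₂ φ} = Nat.card W₁ := by
  classical
  obtain ⟨p₁, p₂, hp1, hp2, hw, h1, h2⟩ := exists_p (hdisj hW) (hcomm hW)
  haveI := Fintype.ofFinite W₁
  rw [← card_hom (P := W₁) (fun a b => by
    have := hab hW (⟨a, Subgroup.mem_sup_left a.2⟩ : ↥(W₁ ⊔ W₂)) ⟨b, Subgroup.mem_sup_left b.2⟩
    have h3 : (a : G) * b = b * a := congrArg Subtype.val this
    exact Subtype.ext h3)]
  let q₁ : ↥(W₁ ⊔ W₂) →* W₁ :=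
    { toFun := fun w => ⟨p₁ w, hp1 w⟩
      map_one' := by apply Subtype.ext; show ((p₁ 1 : ↥(W₁ ⊔ W₂)) : G) = 1; rw [map_one]; rfl
      map_mul' := fun a b => by apply Subtype.ext; show ((p₁ (a * b) : ↥(W₁ ⊔ W₂)) : G) = _; rw [map_mul]; rfl }
  refine Nat.card_congr ⟨fun φ => φ.1.comp (Subgroup.inclusion le_sup_left), fun f => ⟨f.comp q₁, ?_⟩, ?_, ?_⟩
  · intro w hw2
    have : q₁ w = 1 := Subtype.ext (by show ((p₁ w : ↥(W₁ ⊔ W₂)) : G) = 1; rw [(h2 w hw2).2]; rfl)
    rw [MonoidHom.comp_apply, this, map_one]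
  · rintro ⟨φ, hφ⟩
    apply Subtype.ext
    ext w
    have e1 : Subgroup.inclusion (le_sup_left : W₁ ≤ W₁ ⊔ W₂) (q₁ w) = p₁ w := Subtype.ext rfl
    show ((φ (Subgroup.inclusion le_sup_left (q₁ w)) : ℂˣ) : ℂ) = (φ w : ℂ)
    rw [e1]
    conv_rhs => rw [hw w, map_mul, hφ _ (hp2 w), mul_one]
  · intro f
    ext x
    have e1 : q₁ (Subgroup.inclusion le_sup_left x) = x := Subtype.ext (by
      show ((p₁ (Subgroup.inclusion le_sup_left x) : ↥(W₁ ⊔ W₂)) : G) = x
      rw [(h1 _ x.2).1]; rfl)
    show ((f (q₁ (Subgroup.inclusion le_sup_left x)) : ℂˣ) : ℂ) = f x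
    rw [e1]

theorem card_X2 [Finite G] (hW : IsSelfNormalizingCyclic W₁ W₂) :
    Nat.card {φ : ↥(W₁ ⊔ W₂) →* ℂˣ // X2 W₁ W₂ φ} = Nat.card W₂ := by
  classical
  obtain ⟨p₁, p₂, hp1, hp2, hw, h1, h2⟩ := exists_p (hdisj hW) (hcomm hW)
  haveI := Fintype.ofFinite W₂
  rw [← card_hom (P := W₂) (fun a b => by
    have := hab hW (⟨a, Subgroup.mem_sup_right a.2⟩ : ↥(W₁ ⊔ W₂)) ⟨b, Subgroup.mem_sup_right b.2⟩
    have h3 : (a : G) * b = b * a := congrArg Subtype.val this
    exact Subtype.ext h3)]
  let q₂ : ↥(W₁ ⊔ W₂) →* W₂ :=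
    { toFun := fun w => ⟨p₂ w, hp2 w⟩
      map_one' := by apply Subtype.ext; show ((p₂ 1 : ↥(W₁ ⊔ W₂)) : G) = 1; rw [map_one]; rfl
      map_mul' := fun a b => by apply Subtype.ext; show ((p₂ (a * b) : ↥(W₁ ⊔ W₂)) : G) = _; rw [map_mul]; rfl }
  refine Nat.card_congr ⟨fun φ => φ.1.comp (Subgroup.inclusion le_sup_right), fun f => ⟨f.comp q₂, ?_⟩, ?_, ?_⟩
  · intro w hw2
    have : q₂ w = 1 := Subtype.ext (by show ((p₂ w : ↥(W₁ ⊔ W₂)) : G) = 1; rw [(h1 w hw2).2]; rfl)
    rw [MonoidHom.comp_apply, this, map_one]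
  · rintro ⟨φ, hφ⟩
    apply Subtype.ext
    ext w
    have e1 : Subgroup.inclusion (le_sup_right : W₂ ≤ W₁ ⊔ W₂) (q₂ w) = p₂ w := Subtype.ext rfl
    show ((φ (Subgroup.inclusion le_sup_right (q₂ w)) : ℂˣ) : ℂ) = (φ w : ℂ)
    rw [e1]
    conv_rhs => rw [hw w, map_mul, hφ _ (hp1 w), one_mul]
  · intro f
    ext x
    have e1 : q₂ (Subgroup.inclusion le_sup_right x) = x := Subtype.ext (by
      show ((p₂ (Subgroup.inclusion le_sup_right x) : ↥(W₁ ⊔ W₂)) : G) = x
      rw [(h2 _ x.2).1]; rfl)
    show ((f (q₂ (Subgroup.inclusion le_sup_right x)) : ℂˣ) : ℂ) = f x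
    rw [e1]

end Card

section Grid

variable {I J : Type*} [Finite I] [Finite J] {a : I → J → ℂ}

open Classical in
theorem grid_few (hgrid : ∀ i i' j j', a i j + a i' j' = a i j' + a i' j) (hIJ : Nat.card I + 2 ≤ Nat.card J)
    (hI : 0 < Nat.card I) (hfew : Nat.card {p : I × J // a p.1 p.2 ≠ 0} < 2 * Nat.card I) :
    (∀ i j, a i j = 0) ∨ (∃ j₀ c, ∀ i j, a i j = if j = j₀ then c else 0) ∨
      (∃ i₀ c, ∀ i j, a i j = if i = i₀ then c else 0) := by
  haveI : Nonempty I := Finite.card_pos_iff.1 hI
  haveI : Nonempty J := Finite.card_pos_iff.1 (by omega)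
  obtain ⟨i₁⟩ := ‹Nonempty I›
  obtain ⟨j₁⟩ := ‹Nonempty J›
  by_cases hA : ∀ i i' j, a i j = a i' j
  · by_cases hz : ∀ i j, a i j = 0
    · exact Or.inl hz
    · push Not at hz
      obtain ⟨i₀, j₀, hne⟩ := hz
      refine Or.inr (Or.inl ⟨j₀, a i₀ j₀, ?_⟩)
      intro i j
      split_ifs with h
      · rw [h]; exact hA _ _ _
      · by_contra hne'
        -- two nonzero columns
        have h1 : Nat.card (I ⊕ I) ≤ Nat.card {p : I × J // a p.1 p.2 ≠ 0} := by
          apply Nat.card_le_card_of_injective (fun s : I ⊕ I => match s with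
            | Sum.inl k => (⟨(k, j₀), by show a k j₀ ≠ 0; rw [hA k i₀]; exact hne⟩ : {p : I × J // a p.1 p.2 ≠ 0})
            | Sum.inr k => ⟨(k, j), by show a k j ≠ 0; rw [hA k i]; exact hne'⟩)
          rintro (k | k) (l | l) hkl
          · have := congrArg (fun p => p.1.1) hkl
            exact congrArg Sum.inl this
          · have := congrArg (fun p => p.1.2) hkl
            exact absurd this.symm h
          · have := congrArg (fun p => p.1.2) hkl
            exact absurd this h
          · have := congrArg (fun p => p.1.1) hkl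
            exact congrArg Sum.inr this
        rw [Nat.card_sum] at h1
        omega
  · by_cases hB : ∀ i j j', a i j = a i j'
    · by_cases hz : ∀ i j, a i j = 0
      · exact Or.inl hz
      · push Not at hz
        obtain ⟨i₀, j₀, hne⟩ := hz
        refine Or.inr (Or.inr ⟨i₀, a i₀ j₀, ?_⟩)
        intro i j
        split_ifs with h
        · rw [h]; exact hB _ _ _
        · by_contra hne'
          have h1 : Nat.card (J ⊕ J) ≤ Nat.card {p : I × J // a p.1 p.2 ≠ 0} := by
            apply Nat.card_le_card_of_injective (fun s : J ⊕ J => match s with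
              | Sum.inl k => (⟨(i₀, k), by show a i₀ k ≠ 0; rw [hB i₀ k j₀]; exact hne⟩ : {p : I × J // a p.1 p.2 ≠ 0})
              | Sum.inr k => ⟨(i, k), by show a i k ≠ 0; rw [hB i k j]; exact hne'⟩)
            rintro (k | k) (l | l) hkl
            · have := congrArg (fun p => p.1.2) hkl
              exact congrArg Sum.inl this
            · have := congrArg (fun p => p.1.1) hkl
              exact absurd this.symm h
            · have := congrArg (fun p => p.1.1) hkl
              exact absurd this h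
            · have := congrArg (fun p => p.1.2) hkl
              exact congrArg Sum.inr this
          rw [Nat.card_sum] at h1
          omega
    · exfalso
      push Not at hA hB
      obtain ⟨i, i', j₂, hi⟩ := hA
      obtain ⟨k₀, j, j', hj⟩ := hB
      have hi' : ∀ l, a i l ≠ a i' l := by
        intro l h
        apply hi
        have := hgrid i i' j₂ l
        rw [h] at this
        linear_combination this
      have hj' : ∀ k, a k j ≠ a k j' := by
        intro k h
        apply hj
        have := hgrid k₀ k j j'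
        rw [h] at this
        linear_combination this
      have hii : i ≠ i' := fun h => hi (by rw [h])
      have h1 : Nat.card (J ⊕ {k : I // k ≠ i ∧ k ≠ i'}) ≤ Nat.card {p : I × J // a p.1 p.2 ≠ 0} := by
        apply Nat.card_le_card_of_injective (fun s : J ⊕ {k : I // k ≠ i ∧ k ≠ i'} => match s with
          | Sum.inl l => if h : a i l ≠ 0 then (⟨(i, l), h⟩ : {p : I × J // a p.1 p.2 ≠ 0}) else
              ⟨(i', l), fun h2 => hi' l (by rw [not_not.1 h]; exact h2.symm)⟩
          | Sum.inr k => if h : a k.1 j ≠ 0 then ⟨(k.1, j), h⟩ else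
              ⟨(k.1, j'), fun h2 => hj' k.1 (by rw [not_not.1 h]; exact h2.symm)⟩)
        rintro (k | k) (l | l) hkl
        · have := congrArg (fun p => p.1.2) hkl
          simp only at this
          split_ifs at this <;> exact congrArg Sum.inl this
        · exfalso
          have := congrArg (fun p => p.1.1) hkl
          simp only at this
          split_ifs at this
          · exact l.2.1 this.symm
          · exact l.2.1 this.symm
          · exact l.2.2 this.symm
          · exact l.2.2 this.symm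
        · exfalso
          have := congrArg (fun p => p.1.1) hkl
          simp only at this
          split_ifs at this
          · exact k.2.1 this
          · exact k.2.2 this
          · exact k.2.1 this
          · exact k.2.2 this
        · have := congrArg (fun p => p.1.1) hkl
          simp only at this
          split_ifs at this <;> exact congrArg Sum.inr (Subtype.ext this)
      have h2 : Nat.card {k : I // k ≠ i ∧ k ≠ i'} + 2 = Nat.card I := by
        haveI := Fintype.ofFinite I
        rw [Nat.card_eq_fintype_card, Nat.card_eq_fintype_card, Fintype.card_subtype]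
        have h3 : (Finset.univ.filter (fun k : I => k ≠ i ∧ k ≠ i')) = (Finset.univ.erase i').erase i := by
          ext k; simp
        rw [h3, Finset.card_erase_of_mem (by simp [hii]), Finset.card_erase_of_mem (Finset.mem_univ _), Finset.card_univ]
        have h4 : 1 < Fintype.card I := Fintype.one_lt_card_iff.2 ⟨i, i', hii⟩
        omega
      rw [Nat.card_sum] at h1
      omega

end Grid

end Cfsg.Agent.H10.CycTI4
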