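import Mathlib
import Cfsg.Prelude.Def_Characters
import Cfsg.Agent.H3_CharGal
import Cfsg.Agent.H3_Monomial
import Cfsg.Agent.H3_NilpSplit
import Cfsg.Agent.H25_Brauer

/-!
# Galois conjugation of characters, AM-GM for products of algebraic integers
-/

set_option autoImplicit false

open scoped ComplexConjugate

namespace Cfsg.Agent.H3.GalProd

open Cfsg Cfsg.Agent.H3.CharBasic Cfsg.Agent.H3.CharIrr Cfsg.Agent.H3.CharComplete
  Cfsg.Agent.H3.CharMult Cfsg.Agent.H3.CharInd Cfsg.Agent.H3.CharInt Cfsg.Agent.H3.CharGal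
  Cfsg.Agent.H3.Monomial Cfsg.Agent.H3.NilpSplit

section AMGM

/-- If a Galois-stable family of nonzero algebraic integers is given, then the sum of the
squares of the absolute values is at least the number. -/
theorem card_le_sum_sq {ι : Type*} [Fintype ι] {n : ℕ} [NeZero n] (f : ι → Cyc n)
    (hint : ∀ i, IsIntegral ℤ (f i : ℂ)) (h0 : ∀ i, f i ≠ 0)
    (hgal : ∀ σ : Cyc n ≃ₐ[ℚ] Cyc n, ∃ π : Equiv.Perm ι, ∀ i, σ (f i) = f (π i)) :
    (Fintype.card ι : ℝ) ≤ ∑ i, ‖(f i : ℂ)‖ ^ 2 ∧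
      ((Fintype.card ι : ℝ) = ∑ i, ‖(f i : ℂ)‖ ^ 2 → ∀ i, ‖(f i : ℂ)‖ = 1) := by
  classical
  obtain ⟨q, hq⟩ := rat_of_fixed (∏ i, f i) (fun σ => by
    obtain ⟨π, hπ⟩ := hgal σ
    rw [map_prod, Finset.prod_congr rfl fun i _ => hπ i]
    exact Equiv.prod_comp π f)
  have hq' : (∏ i, (f i : ℂ)) = q := by rw [← hq]; push_cast; rfl
  have hqi : IsIntegral ℤ (q : ℂ) := by
    rw [← hq']; exact IsIntegral.prod _ fun i _ => hint i
  obtain ⟨z, hz⟩ := exists_int_of_isIntegral hqi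
  have hne : ∀ i, (f i : ℂ) ≠ 0 := fun i h => h0 i (by exact_mod_cast Subtype.ext h)
  have hz0 : z ≠ 0 := by
    rintro rfl
    rw [Int.cast_zero] at hz
    rw [hz, Rat.cast_zero, Finset.prod_eq_zero_iff] at hq'
    obtain ⟨i, -, hi⟩ := hq'
    exact hne i hi
  have hprod : (1 : ℝ) ≤ ∏ i, ‖(f i : ℂ)‖ := by
    rw [← norm_prod, hq', hz]
    have : ((z : ℚ) : ℂ) = (z : ℂ) := by push_cast; rfl
    rw [this, Complex.norm_intCast]
    exact_mod_cast Int.one_le_abs hz0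
  have hpos : ∀ i, 0 < ‖(f i : ℂ)‖ := fun i => norm_pos_iff.mpr (hne i)
  have hlog : 0 ≤ ∑ i, Real.log (‖(f i : ℂ)‖ ^ 2) := by
    have h1 : ∑ i, Real.log (‖(f i : ℂ)‖ ^ 2) = 2 * Real.log (∏ i, ‖(f i : ℂ)‖) := by
      rw [Real.log_prod (fun i _ => (hpos i).ne'), Finset.mul_sum]
      refine Finset.sum_congr rfl fun i _ => ?_
      rw [Real.log_pow]; push_cast; ring
    rw [h1]
    exact mul_nonneg (by norm_num) (Real.log_nonneg hprod)
  have hterm : ∀ i, Real.log (‖(f i : ℂ)‖ ^ 2) ≤ ‖(f i : ℂ)‖ ^ 2 - 1 := fun i =>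
    Real.log_le_sub_one_of_pos (pow_pos (hpos i) 2)
  have hsum : ∑ i, Real.log (‖(f i : ℂ)‖ ^ 2) ≤ ∑ i, (‖(f i : ℂ)‖ ^ 2 - 1) :=
    Finset.sum_le_sum fun i _ => hterm i
  have hsub : ∑ i, (‖(f i : ℂ)‖ ^ 2 - 1) = ∑ i, ‖(f i : ℂ)‖ ^ 2 - Fintype.card ι := by
    rw [Finset.sum_sub_distrib]; simp
  refine ⟨by linarith, fun heq i => ?_⟩
  by_contra hi
  have hsq : ‖(f i : ℂ)‖ ^ 2 ≠ 1 := by
    intro h
    apply hi
    exact (pow_eq_one_iff_of_nonneg (norm_nonneg _) two_ne_zero).mp h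
  have hlt : Real.log (‖(f i : ℂ)‖ ^ 2) < ‖(f i : ℂ)‖ ^ 2 - 1 :=
    Real.log_lt_sub_one_of_pos (pow_pos (hpos i) 2) hsq
  have := Finset.sum_lt_sum (fun j _ => hterm j) ⟨i, Finset.mem_univ _, hlt⟩
  linarith

end AMGM

section Adams

variable {G : Type*} [Group G] [Fintype G]

/-- Powers prime to the group order commute with induction. -/
theorem ind_pow {m : ℕ} (hm : (Nat.card G).Coprime m) (H : Subgroup G) (lam : H →* ℂˣ) (g : G) :
    indFun H (fun h => (lam h : ℂ)) (g ^ m) = indFun H (fun h => ((lam ^ m) h : ℂ)) g := by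
  simp only [indFun]
  congr 1
  refine Finset.sum_congr rfl fun x _ => ?_
  have h1 : x⁻¹ * g ^ m * x = (x⁻¹ * g * x) ^ m := by
    have := conj_pow (i := m) (a := x⁻¹) (b := g)
    simpa using this.symm
  rw [h1]
  by_cases hx : x⁻¹ * g * x ∈ H
  · rw [ext_mem _ _ hx, ext_mem _ _ (H.pow_mem hx m)]
    have h2 : (⟨(x⁻¹ * g * x) ^ m, H.pow_mem hx m⟩ : H) = ⟨x⁻¹ * g * x, hx⟩ ^ m := by
      ext; simp
    rw [h2, map_pow]
    simp
  · have hx' : (x⁻¹ * g * x) ^ m ∉ H := by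
      intro h
      apply hx
      have h3 : x⁻¹ * g * x ∈ Subgroup.zpowers ((x⁻¹ * g * x) ^ m) := by
        rw [mem_zpowers_pow_iff]
        exact (hm.coprime_dvd_left (orderOf_dvd_natCard _)).symm
      have h4 : Subgroup.zpowers ((x⁻¹ * g * x) ^ m) ≤ H := by rwa [Subgroup.zpowers_le]
      exact h4 h3
    rw [ext_not_mem _ _ hx, ext_not_mem _ _ hx']

theorem isGen_pow {m : ℕ} (hm : (Nat.card G).Coprime m) {χ : G → ℂ}
    (h : IsGeneralizedCharacter G χ) : IsGeneralizedCharacter G (fun g => χ (g ^ m)) := by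
  classical
  apply Cfsg.Agent.H25.Brauer.isGen_of_elementary
  · intro g x
    have h1 : (x * g * x⁻¹) ^ m = x * g ^ m * x⁻¹ := conj_pow
    beta_reduce
    rw [h1, IsGen.isClass h]
  · intro E p hp hE
    have hnil : Group.IsNilpotent E := elementary_nilpotent hp hE
    have := Fintype.ofFinite E
    have := Fintype.ofFinite (IrrCharacter E)
    have hmE : (Nat.card E).Coprime m := hm.coprime_dvd_left (Subgroup.card_subgroup_dvd_card E)
    obtain ⟨n, -, hn⟩ := IsGen.eq_sum_int (IsGen.comp h E.subtype)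
    have h2 : (fun e : E => χ ((e : G) ^ m)) = ∑ ψ : IrrCharacter E,
        (n ψ : ℂ) • (fun e : E => (ψ : E → ℂ) (e ^ m)) := by
      ext e
      have := congrFun hn (e ^ m)
      simpa using this
    rw [h2]
    apply IsGen.sum
    intro ψ _
    apply IsGen.intsmul
    obtain ⟨H, lam, hlam⟩ := mon_of_nilpotent ψ.2
    have h3 : (fun e : E => (ψ : E → ℂ) (e ^ m)) = indFun H (fun h => ((lam ^ m) h : ℂ)) := by
      ext e
      rw [hlam]
      exact ind_pow hmE H lam e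
    rw [h3]
    exact IsGen.of_char (IsChar.ind (IsIrr.isCharacter (isIrr_of_hom_units _)))

theorem ci_pow {m : ℕ} (hm : (Nat.card G).Coprime m) (χ ψ : G → ℂ) :
    classInner (fun g => χ (g ^ m)) (fun g => ψ (g ^ m)) = classInner χ ψ := by
  simp only [classInner]
  congr 1
  exact Equiv.sum_comp (powCoprime hm) (fun g => χ g * conj (ψ g))

/-- Galois conjugates of irreducible characters are irreducible. -/
theorem isIrr_pow {m : ℕ} (hm : (Nat.card G).Coprime m) {χ : G → ℂ}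
    (h : IsIrrCharacter G χ) : IsIrrCharacter G (fun g => χ (g ^ m)) := by
  rcases isGen_norm_one (isGen_pow hm (IsGen.of_irr h)) (by rw [ci_pow hm, ci_irr_self h]) with h1 | h1
  · exact h1
  · exfalso
    obtain ⟨a, ha, ha'⟩ := IsIrr.one_eq_nat h1
    obtain ⟨b, hb, hb'⟩ := IsIrr.one_eq_nat h
    rw [Pi.neg_apply, one_pow, hb'] at ha'
    have : (a : ℂ) + b = 0 := by rw [← ha']; ring
    have h2 : a + b = 0 := by exact_mod_cast this
    omega

theorem isIrr_pow_iff {m : ℕ} (hm : (Nat.card G).Coprime m) : Function.Bijective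
    (fun χ : IrrCharacter G => (⟨fun g => (χ : G → ℂ) (g ^ m), isIrr_pow hm χ.2⟩ : IrrCharacter G)) := by
  have := Fintype.ofFinite (IrrCharacter G)
  rw [← Finite.injective_iff_bijective]
  intro χ ψ h
  apply Subtype.ext
  ext g
  obtain ⟨x, rfl⟩ := (powCoprime hm).surjective g
  exact congrFun (congrArg Subtype.val h) x

end Adams

end Cfsg.Agent.H3.GalProd
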