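import Mathlib
import Cfsg.Prelude.Def_OddOrderChar
import Cfsg.Agent.H10_CycTI4
import Cfsg.Agent.H10_PM
import Cfsg.Agent.H3_GalProd
import Cfsg.Agent.H3_CharGal

/-!
H10_CycTI5: uniqueness of the cyclic TI family and Galois action.
-/

set_option autoImplicit false
set_option linter.style.haveILetI false
set_option linter.unusedSectionVars false

namespace Cfsg.Agent.H10.CycTI5

open Cfsg Cfsg.Agent.H3.CharBasic Cfsg.Agent.H3.CharIrr Cfsg.Agent.H3.CharComplete Cfsg.Agent.H3.CharInt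
  Cfsg.Agent.H3.CharInd Cfsg.Agent.H3.CharGal Cfsg.Agent.H3.GalProd
  Cfsg.Agent.H10.CycTI Cfsg.Agent.H10.CycTI2 Cfsg.Agent.H10.CycTI3 Cfsg.Agent.H10.CycTI4 Cfsg.Agent.H10.PM
open scoped ComplexConjugate

section Gen

variable {G : Type*} [Group G] [Fintype G]

/-- a value of a generalized character fixed by the Galois group is an integer -/
theorem int_of_fixed {f : G → ℂ} (hf : IsGeneralizedCharacter G f) (g : G)
    (h : ∀ k : ℕ, k.Coprime (orderOf g) → f (g ^ k) = f g) : ∃ n : ℤ, f g = n := by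
  obtain ⟨a, b, ha, hb, rfl⟩ := hf
  haveI : NeZero (orderOf g) := ⟨(orderOf_pos g).ne'⟩
  have hg := pow_orderOf_eq_one g
  let x : Cyc (orderOf g) := ⟨a g, IsChar.mem_cyc ha g hg⟩
  let y : Cyc (orderOf g) := ⟨b g, IsChar.mem_cyc hb g hg⟩
  have hfix : ∀ σ : Cyc (orderOf g) ≃ₐ[ℚ] Cyc (orderOf g), σ (x - y) = x - y := by
    intro σ
    obtain ⟨m, hm, hact⟩ := gal_actsAs (orderOf g) σ
    apply Subtype.ext
    rw [map_sub]
    show (σ x : ℂ) - (σ y : ℂ) = a g - b g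
    rw [IsChar.gal ha g hg hact x rfl, IsChar.gal hb g hg hact y rfl]
    exact h m hm
  obtain ⟨q, hq⟩ := rat_of_fixed (x - y) hfix
  have hq' : (a - b) g = (q : ℂ) := hq
  have hint : IsIntegral ℤ ((a - b) g) := (IsChar.isIntegral ha g).sub (IsChar.isIntegral hb g)
  rw [hq'] at hint ⊢
  obtain ⟨n, hn⟩ := exists_int_of_isIntegral hint
  exact ⟨n, by rw [hn]; simp⟩

/-- induction commutes with powers coprime to the order -/
theorem ind_pow_fun {m : ℕ} (hm : (Nat.card G).Coprime m) (H : Subgroup G) (f : H → ℂ) (g : G) :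
    indFun H f (g ^ m) = indFun H (fun h => f (h ^ m)) g := by
  simp only [indFun]
  congr 1
  refine Finset.sum_congr rfl fun x _ => ?_
  have h1 : x⁻¹ * g ^ m * x = (x⁻¹ * g * x) ^ m := by
    have := conj_pow (i := m) (a := x⁻¹) (b := g)
    rw [inv_inv] at this
    exact this.symm
  rw [h1]
  set y := x⁻¹ * g * x with hy
  by_cases hyH : y ∈ H
  · rw [ext_mem H f (H.pow_mem hyH m), ext_mem H _ hyH]
    rfl
  · rw [ext_not_mem H _ hyH, ext_not_mem]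
    intro h
    apply hyH
    obtain ⟨k, hk⟩ : ∃ k : ℕ, (y ^ m) ^ k = y := by
      have hcop : Nat.Coprime m (orderOf y) := (Nat.Coprime.coprime_dvd_left (orderOf_dvd_natCard y) hm).symm
      obtain ⟨k, hk⟩ := exists_pow_eq_self_of_coprime hcop
      exact ⟨k, hk⟩
    rw [← hk]; exact H.pow_mem h k

theorem mem_three {a b c a' b' c' : G → ℂ} (ha : Pm a) (hb : Pm b) (hc : Pm c) (ha' : Pm a') (hb' : Pm b') (hc' : Pm c')
    (h1 : classInner a' b' = 0) (h2 : classInner a' c' = 0) (h : a + b + c = a' + b' + c') :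
    a' = a ∨ a' = b ∨ a' = c := by
  have h3 : classInner a' (a + b + c) = 1 := by
    rw [h, ci_add_right, ci_add_right, h1, h2, ha'.norm]; ring
  rw [ci_add_right, ci_add_right] at h3
  rcases Pm.inner ha' ha with h4 | h4 | h4
  · rcases Pm.inner ha' hb with h5 | h5 | h5
    · rw [h4, h5, zero_add, zero_add] at h3
      exact Or.inr (Or.inr (Pm.eq_of_inner ha' hc h3).symm)
    · exact Or.inr (Or.inl h5.1.symm)
    · rw [h4, h5.2] at h3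
      rcases Pm.inner ha' hc with h6 | h6 | h6
      · rw [h6] at h3; norm_num at h3
      · exact Or.inr (Or.inr h6.1.symm)
      · rw [h6.2] at h3; norm_num at h3
  · exact Or.inl h4.1.symm
  · rcases Pm.inner ha' hb with h5 | h5 | h5
    · rw [h4.2, h5] at h3
      rcases Pm.inner ha' hc with h6 | h6 | h6
      · rw [h6] at h3; norm_num at h3
      · exact Or.inr (Or.inr h6.1.symm)
      · rw [h6.2] at h3; norm_num at h3
    · exact Or.inr (Or.inl h5.1.symm)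
    · rw [h4.2, h5.2] at h3
      rcases Pm.inner ha' hc with h6 | h6 | h6
      · rw [h6] at h3; norm_num at h3
      · exact Or.inr (Or.inr h6.1.symm)
      · rw [h6.2] at h3; norm_num at h3

end Gen

section Unique

variable {G : Type*} [Group G] [Fintype G] {W₁ W₂ : Subgroup G} (hW : IsSelfNormalizingCyclic W₁ W₂)

theorem exists_two {I : Type*} [Finite I] (h : 3 ≤ Nat.card I) (i₀ : I) : ∃ a b : I, a ≠ i₀ ∧ b ≠ i₀ ∧ a ≠ b := by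
  classical
  haveI := Fintype.ofFinite I
  rw [Nat.card_eq_fintype_card] at h
  have h1 : 1 < (Finset.univ.erase i₀).card := by
    rw [Finset.card_erase_of_mem (Finset.mem_univ _), Finset.card_univ]; omega
  obtain ⟨a, ha, b, hb, hab⟩ := Finset.one_lt_card.1 h1
  exact ⟨a, b, (Finset.mem_erase.1 ha).1, (Finset.mem_erase.1 hb).1, hab⟩

include hW in
theorem exists_two1 (hodd : Odd (Nat.card ↥(W₁ ⊔ W₂))) : ∃ φ φ' : ↥(W₁ ⊔ W₂) →* ℂˣ, X1 W₁ W₂ φ ∧ X1 W₁ W₂ φ' ∧ φ ≠ 1 ∧ φ' ≠ 1 ∧ φ ≠ φ' := by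
  have ho1 : Odd (Nat.card W₁) := hodd.of_dvd_nat (Subgroup.card_dvd_of_le le_sup_left)
  have h1 : 1 < Nat.card W₁ := by rw [Subgroup.one_lt_card_iff_ne_bot]; exact hW.1
  obtain ⟨a, b, h2, h3, h4⟩ := exists_two (I := {φ : ↥(W₁ ⊔ W₂) →* ℂˣ // X1 W₁ W₂ φ}) (by
    rw [card_X1 hW]; obtain ⟨r, hr⟩ := ho1; omega) ⟨1, fun w _ => rfl⟩
  exact ⟨a.1, b.1, a.2, b.2, fun h => h2 (Subtype.ext h), fun h => h3 (Subtype.ext h), fun h => h4 (Subtype.ext h)⟩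

include hW in
theorem exists_two2 (hodd : Odd (Nat.card ↥(W₁ ⊔ W₂))) : ∃ φ φ' : ↥(W₁ ⊔ W₂) →* ℂˣ, X2 W₁ W₂ φ ∧ X2 W₁ W₂ φ' ∧ φ ≠ 1 ∧ φ' ≠ 1 ∧ φ ≠ φ' := by
  have ho1 : Odd (Nat.card W₂) := hodd.of_dvd_nat (Subgroup.card_dvd_of_le le_sup_right)
  have h1 : 1 < Nat.card W₂ := by rw [Subgroup.one_lt_card_iff_ne_bot]; exact hW.2.1
  obtain ⟨a, b, h2, h3, h4⟩ := exists_two (I := {φ : ↥(W₁ ⊔ W₂) →* ℂˣ // X2 W₁ W₂ φ}) (by
    rw [card_X2 hW]; obtain ⟨r, hr⟩ := ho1; omega) ⟨1, fun w _ => rfl⟩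
  exact ⟨a.1, b.1, a.2, b.2, fun h => h2 (Subtype.ext h), fun h => h3 (Subtype.ext h), fun h => h4 (Subtype.ext h)⟩

/-- the part of the definition of the family used for uniqueness -/
structure Fam (W₁ W₂ : Subgroup G) (χ : (↥(W₁ ⊔ W₂) →* ℂˣ) → (G → ℂ)) : Prop where
  pm : ∀ ω, Pm (χ ω)
  orth : ∀ ω ω', ω ≠ ω' → classInner (χ ω) (χ ω') = 0
  map_one : χ 1 = fun _ => 1
  induced_eq : ∀ φ ψ : ↥(W₁ ⊔ W₂) →* ℂˣ, φ ≠ 1 → ψ ≠ 1 → X1 W₁ W₂ φ → X2 W₁ W₂ ψ →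
    indFun (W₁ ⊔ W₂) (al φ ψ) = fun g => 1 - χ φ g - χ ψ g + χ (φ * ψ) g

theorem fam_of {χ : (↥(W₁ ⊔ W₂) →* ℂˣ) → (G → ℂ)} (h : IsCyclicTIFamily W₁ W₂ χ) : Fam W₁ W₂ χ := by
  classical
  refine ⟨h.irr_or_neg, fun ω ω' hne => ?_, h.map_one, fun φ ψ h1 h2 h3 h4 => h.induced_eq φ ψ h1 h2 h3 h4⟩
  rw [h.orthonormal, if_neg hne]

include hW in
theorem fam_unique {χ χ' : (↥(W₁ ⊔ W₂) →* ℂˣ) → (G → ℂ)} (hodd : Odd (Nat.card ↥(W₁ ⊔ W₂))) (hχ : Fam W₁ W₂ χ)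
    (hχ' : Fam W₁ W₂ χ') : χ = χ' := by
  classical
  have hd := hdisj hW
  have hc := hcomm hW
  have hne12 : ∀ {φ ψ : ↥(W₁ ⊔ W₂) →* ℂˣ}, X1 W₁ W₂ φ → X2 W₁ W₂ ψ → φ ≠ 1 → φ ≠ ψ := by
    rintro φ ψ h1 h2 h3 rfl
    exact h3 (eq_one_of_X h1 h2 hd hc)
  have hsum : ∀ φ ψ : ↥(W₁ ⊔ W₂) →* ℂˣ, X1 W₁ W₂ φ → X2 W₁ W₂ ψ → φ ≠ 1 → ψ ≠ 1 →
      -χ φ + -χ ψ + χ (φ * ψ) = -χ' φ + -χ' ψ + χ' (φ * ψ) := by
    intro φ ψ h1 h2 h3 h4
    have e1 := hχ.induced_eq φ ψ h3 h4 h1 h2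
    have e2 := hχ'.induced_eq φ ψ h3 h4 h1 h2
    rw [e1] at e2
    funext g
    have := congrFun e2 g
    simp only [Pi.add_apply, Pi.neg_apply] at this ⊢
    linear_combination this
  have horth : ∀ {χ : (↥(W₁ ⊔ W₂) →* ℂˣ) → (G → ℂ)}, Fam W₁ W₂ χ → ∀ {ω ω' : ↥(W₁ ⊔ W₂) →* ℂˣ}, ω ≠ ω' →
      classInner (-χ ω) (-χ ω') = 0 ∧ classInner (-χ ω) (χ ω') = 0 ∧ classInner (χ ω) (-χ ω') = 0 := by
    intro χ hχ ω ω' hne
    rw [ci_neg_neg, ci_neg_left', ci_neg_right', hχ.orth ω ω' hne]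
    simp
  -- two signed characters of the family are equal only if the indices agree
  have hne1 : ∀ {φ ψ ψ' : ↥(W₁ ⊔ W₂) →* ℂˣ}, X1 W₁ W₂ φ → X2 W₁ W₂ ψ → X2 W₁ W₂ ψ' → φ ≠ 1 → ψ ≠ 1 → ψ' ≠ 1 → ψ ≠ ψ' →
      ∀ x : G → ℂ, Pm x → (x = -χ φ ∨ x = -χ ψ ∨ x = χ (φ * ψ)) → (x = -χ φ ∨ x = -χ ψ' ∨ x = χ (φ * ψ')) → x = -χ φ := by
    intro φ ψ ψ' h1 h2 h2' h3 h4 h4' h5 x hx hA hB
    have hself := hx.norm
    have n1 : φ * ψ ≠ ψ' := by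
      intro h
      have := X_inj (W₁ := W₁) (W₂ := W₂) (φ := φ) (ψ := ψ) (φ' := 1) (ψ' := ψ') h1 (fun w _ => rfl) h2 h2' hd hc (by rw [h, hom_one_mul])
      exact h3 this.1
    have n2 : φ * ψ' ≠ ψ := by
      intro h
      have := X_inj (W₁ := W₁) (W₂ := W₂) (φ := φ) (ψ := ψ') (φ' := 1) (ψ' := ψ) h1 (fun w _ => rfl) h2' h2 hd hc (by rw [h, hom_one_mul])
      exact h3 this.1
    have n3 : φ * ψ ≠ φ * ψ' := by
      intro h
      exact h5 (mul_left_cancel h)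
    rcases hA with hA | hA | hA
    · exact hA
    · rcases hB with hB | hB | hB
      · exact hB
      · exfalso
        have e : classInner x x = 0 := by
          conv_lhs => rw [hA]
          rw [← hA]; nth_rewrite 1 [hA]; rw [hB]; exact (horth hχ h5).1
        rw [hself] at e; exact one_ne_zero e
      · exfalso
        have e : classInner x x = 0 := by
          nth_rewrite 1 [hA]; rw [hB]; exact (horth hχ (Ne.symm n2)).2.1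
        rw [hself] at e; exact one_ne_zero e
    · rcases hB with hB | hB | hB
      · exact hB
      · exfalso
        have e : classInner x x = 0 := by
          nth_rewrite 1 [hA]; rw [hB]; exact (horth hχ n1).2.2
        rw [hself] at e; exact one_ne_zero e
      · exfalso
        have e : classInner x x = 0 := by
          nth_rewrite 1 [hA]; rw [hB]; exact hχ.orth _ _ n3
        rw [hself] at e; exact one_ne_zero e
  have hne2 : ∀ {φ φ' ψ : ↥(W₁ ⊔ W₂) →* ℂˣ}, X1 W₁ W₂ φ → X1 W₁ W₂ φ' → X2 W₁ W₂ ψ → φ ≠ 1 → φ' ≠ 1 → ψ ≠ 1 → φ ≠ φ' →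
      ∀ x : G → ℂ, Pm x → (x = -χ φ ∨ x = -χ ψ ∨ x = χ (φ * ψ)) → (x = -χ φ' ∨ x = -χ ψ ∨ x = χ (φ' * ψ)) → x = -χ ψ := by
    intro φ φ' ψ h1 h1' h2 h3 h3' h4 h5 x hx hA hB
    have hself := hx.norm
    have n1 : φ * ψ ≠ φ' := by
      intro h
      have := X_inj (W₁ := W₁) (W₂ := W₂) (φ := φ) (ψ := ψ) (φ' := φ') (ψ' := 1) h1 h1' h2 (fun w _ => rfl) hd hc (by rw [h, hom_mul_one])
      exact h4 this.2
    have n2 : φ' * ψ ≠ φ := by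
      intro h
      have := X_inj (W₁ := W₁) (W₂ := W₂) (φ := φ') (ψ := ψ) (φ' := φ) (ψ' := 1) h1' h1 h2 (fun w _ => rfl) hd hc (by rw [h, hom_mul_one])
      exact h4 this.2
    have n3 : φ * ψ ≠ φ' * ψ := by
      intro h
      exact h5 (mul_right_cancel h)
    rcases hA with hA | hA | hA
    · rcases hB with hB | hB | hB
      · exfalso
        have e : classInner x x = 0 := by
          nth_rewrite 1 [hA]; rw [hB]; exact (horth hχ h5).1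
        rw [hself] at e; exact one_ne_zero e
      · exact hB
      · exfalso
        have e : classInner x x = 0 := by
          nth_rewrite 1 [hA]; rw [hB]; exact (horth hχ (Ne.symm n2)).2.1
        rw [hself] at e; exact one_ne_zero e
    · exact hA
    · rcases hB with hB | hB | hB
      · exfalso
        have e : classInner x x = 0 := by
          nth_rewrite 1 [hA]; rw [hB]; exact (horth hχ n1).2.2
        rw [hself] at e; exact one_ne_zero e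
      · exact hB
      · exfalso
        have e : classInner x x = 0 := by
          nth_rewrite 1 [hA]; rw [hB]; exact hχ.orth _ _ n3
        rw [hself] at e; exact one_ne_zero e
  have hthree : ∀ φ ψ : ↥(W₁ ⊔ W₂) →* ℂˣ, X1 W₁ W₂ φ → X2 W₁ W₂ ψ → φ ≠ 1 → ψ ≠ 1 →
      (-χ' φ = -χ φ ∨ -χ' φ = -χ ψ ∨ -χ' φ = χ (φ * ψ)) ∧ (-χ' ψ = -χ φ ∨ -χ' ψ = -χ ψ ∨ -χ' ψ = χ (φ * ψ)) := by
    intro φ ψ h1 h2 h3 h4
    have e := hsum φ ψ h1 h2 h3 h4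
    have n1 : φ ≠ ψ := hne12 h1 h2 h3
    have n2 : φ ≠ φ * ψ := fun h => h4 (by
      have : φ * 1 = φ * ψ := by rw [hom_mul_one]; exact h
      exact (mul_left_cancel this).symm)
    have n3 : ψ ≠ φ * ψ := fun h => h3 (by
      have : 1 * ψ = φ * ψ := by rw [hom_one_mul]; exact h
      exact (mul_right_cancel this).symm)
    constructor
    · exact mem_three (hχ.pm φ).neg (hχ.pm ψ).neg (hχ.pm _) (hχ'.pm φ).neg (hχ'.pm ψ).neg (hχ'.pm _)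
        (horth hχ' n1).1 (horth hχ' n2).2.1 e
    · exact mem_three (hχ.pm φ).neg (hχ.pm ψ).neg (hχ.pm _) (hχ'.pm ψ).neg (hχ'.pm φ).neg (hχ'.pm _)
        (horth hχ' n1.symm).1 (horth hχ' n3).2.1 (by rw [e]; ring)
  have key1 : ∀ φ : ↥(W₁ ⊔ W₂) →* ℂˣ, X1 W₁ W₂ φ → φ ≠ 1 → χ' φ = χ φ := by
    intro φ h1 h3
    obtain ⟨ψ, ψ', h2, h2', h4, h4', h5⟩ := exists_two2 hW hodd
    have := hne1 h1 h2 h2' h3 h4 h4' h5 (-χ' φ) (hχ'.pm φ).neg (hthree φ ψ h1 h2 h3 h4).1 (hthree φ ψ' h1 h2' h3 h4').1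
    exact neg_injective this
  have key2 : ∀ ψ : ↥(W₁ ⊔ W₂) →* ℂˣ, X2 W₁ W₂ ψ → ψ ≠ 1 → χ' ψ = χ ψ := by
    intro ψ h2 h4
    obtain ⟨φ, φ', h1, h1', h3, h3', h5⟩ := exists_two1 hW hodd
    have := hne2 h1 h1' h2 h3 h3' h4 h5 (-χ' ψ) (hχ'.pm ψ).neg (hthree φ ψ h1 h2 h3 h4).2 (hthree φ' ψ h1' h2 h3' h4).2
    exact neg_injective this
  funext ω
  obtain ⟨φ, ψ, h1, h2, rfl⟩ := exists_decomp ω hd hc
  by_cases h3 : φ = 1
  · by_cases h4 : ψ = 1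
    · rw [h3, h4, hom_mul_one, hχ.map_one, hχ'.map_one]
    · rw [h3, hom_one_mul, key2 ψ h2 h4]
  · by_cases h4 : ψ = 1
    · rw [h4, hom_mul_one, key1 φ h1 h3]
    · have e := hsum φ ψ h1 h2 h3 h4
      rw [key1 φ h1 h3, key2 ψ h2 h4] at e
      exact add_left_cancel e

theorem hom_pow_card (ω : ↥(W₁ ⊔ W₂) →* ℂˣ) {n : ℕ} (hn : n ≡ 1 [MOD Nat.card ↥(W₁ ⊔ W₂)]) : ω ^ n = ω := by
  ext w
  have h1 : w ^ n = w := by
    have h2 : n ≡ 1 [MOD orderOf w] := hn.of_dvd (orderOf_dvd_natCard w)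
    conv_rhs => rw [← pow_one w]
    exact pow_eq_pow_iff_modEq.2 h2
  show (((ω w) ^ n : ℂˣ) : ℂ) = ω w
  rw [← map_pow, h1]

theorem pow_apply_pow (ω : ↥(W₁ ⊔ W₂) →* ℂˣ) {s t : ℕ} (hn : s * t ≡ 1 [MOD Nat.card ↥(W₁ ⊔ W₂)]) (w : ↥(W₁ ⊔ W₂)) :
    (ω ^ s) (w ^ t) = ω w := by
  have h := DFunLike.congr_fun (hom_pow_card ω hn) w
  rw [← h]
  show (ω (w ^ t)) ^ s = (ω w) ^ (s * t)
  rw [map_pow, ← pow_mul, mul_comm]

theorem pow_pow_hom (ω : ↥(W₁ ⊔ W₂) →* ℂˣ) {s t : ℕ} (hn : s * t ≡ 1 [MOD Nat.card ↥(W₁ ⊔ W₂)]) :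
    (ω ^ s) ^ t = ω := by
  apply MonoidHom.ext
  intro w
  have h := DFunLike.congr_fun (hom_pow_card ω hn) w
  show ((ω w) ^ s) ^ t = ω w
  rw [← pow_mul]
  exact h

theorem one_pow_hom (s : ℕ) : (1 : ↥(W₁ ⊔ W₂) →* ℂˣ) ^ s = 1 := by
  apply MonoidHom.ext
  intro w
  show (1 : ℂˣ) ^ s = 1
  exact one_pow s

theorem mul_pow_hom (φ ψ : ↥(W₁ ⊔ W₂) →* ℂˣ) (s : ℕ) : (φ * ψ) ^ s = φ ^ s * ψ ^ s := by
  apply MonoidHom.ext
  intro w
  show (φ w * ψ w) ^ s = (φ w) ^ s * (ψ w) ^ s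
  exact mul_pow _ _ _

theorem fam_pow {χ : (↥(W₁ ⊔ W₂) →* ℂˣ) → (G → ℂ)} (hχ : Fam W₁ W₂ χ) {s t : ℕ} (ht : (Nat.card G).Coprime t)
    (hn : s * t ≡ 1 [MOD Nat.card ↥(W₁ ⊔ W₂)]) : Fam W₁ W₂ (fun ω g => χ (ω ^ s) (g ^ t)) := by
  classical
  have hne : ∀ ω : ↥(W₁ ⊔ W₂) →* ℂˣ, ω ≠ 1 → ω ^ s ≠ 1 := by
    intro ω h h1
    apply h
    rw [← pow_pow_hom ω hn, h1]
    exact one_pow_hom t
  refine ⟨?_, ?_, ?_, ?_⟩
  · intro ω
    rcases hχ.pm (ω ^ s) with h | h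
    · exact Or.inl (isIrr_pow ht h)
    · exact Or.inr (isIrr_pow ht h)
  · intro ω ω' h
    have h1 : ω ^ s ≠ ω' ^ s := by
      intro h2
      apply h
      rw [← pow_pow_hom ω hn, h2, pow_pow_hom ω' hn]
    rw [ci_pow ht (χ (ω ^ s)) (χ (ω' ^ s))]
    exact hχ.orth _ _ h1
  · funext g
    show χ (1 ^ s) (g ^ t) = 1
    rw [one_pow_hom, hχ.map_one]
  · intro φ ψ h1 h2 h3 h4
    have h3' : X1 W₁ W₂ (φ ^ s) := by
      intro w hw
      show (φ w) ^ s = 1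
      rw [h3 w hw, one_pow]
    have h4' : X2 W₁ W₂ (ψ ^ s) := by
      intro w hw
      show (ψ w) ^ s = 1
      rw [h4 w hw, one_pow]
    have e := hχ.induced_eq _ _ (hne φ h1) (hne ψ h2) h3' h4'
    funext g
    have e1 := congrFun e (g ^ t)
    rw [ind_pow_fun ht] at e1
    have e2 : (fun w : ↥(W₁ ⊔ W₂) => al (φ ^ s) (ψ ^ s) (w ^ t)) = al φ ψ := by
      funext w
      simp only [al]
      rw [pow_apply_pow φ hn, pow_apply_pow ψ hn]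
    rw [e2] at e1
    rw [e1]
    show _ = 1 - χ (φ ^ s) (g ^ t) - χ (ψ ^ s) (g ^ t) + χ ((φ * ψ) ^ s) (g ^ t)
    rw [mul_pow_hom]

include hW in
theorem gal_fam {χ : (↥(W₁ ⊔ W₂) →* ℂˣ) → (G → ℂ)} (hodd : Odd (Nat.card ↥(W₁ ⊔ W₂))) (hχ : Fam W₁ W₂ χ) {s t : ℕ}
    (ht : (Nat.card G).Coprime t) (hn : s * t ≡ 1 [MOD Nat.card ↥(W₁ ⊔ W₂)]) (ω : ↥(W₁ ⊔ W₂) →* ℂˣ) (g : G) :
    χ ω g = χ (ω ^ s) (g ^ t) :=
  congrFun (congrFun (fam_unique hW hodd hχ (fam_pow hχ ht hn)) ω) g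

include hW in
/-- the Galois action on the family -/
theorem gal_fam' {χ : (↥(W₁ ⊔ W₂) →* ℂˣ) → (G → ℂ)} (hodd : Odd (Nat.card ↥(W₁ ⊔ W₂))) (hχ : Fam W₁ W₂ χ) {t : ℕ}
    (ht : (Nat.card G).Coprime t) (ω : ↥(W₁ ⊔ W₂) →* ℂˣ) (g : G) :
    χ ω (g ^ t) = χ (ω ^ t) g := by
  have hW' : (Nat.card ↥(W₁ ⊔ W₂)).Coprime t := Nat.Coprime.coprime_dvd_left (Subgroup.card_subgroup_dvd_card _) ht
  obtain ⟨s, hs⟩ := Nat.exists_mul_mod_eq_one_of_coprime (k := Nat.card ↥(W₁ ⊔ W₂)) (n := t) hW'.symm (by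
    have h1 : 1 < Nat.card W₁ := by rw [Subgroup.one_lt_card_iff_ne_bot]; exact hW.1
    have h2 : Nat.card W₁ ≤ Nat.card ↥(W₁ ⊔ W₂) := Nat.le_of_dvd Nat.card_pos (Subgroup.card_dvd_of_le le_sup_left)
    omega)
  have hn : s * t ≡ 1 [MOD Nat.card ↥(W₁ ⊔ W₂)] := by
    have h1 : 1 < Nat.card W₁ := by rw [Subgroup.one_lt_card_iff_ne_bot]; exact hW.1
    have h2 : Nat.card W₁ ≤ Nat.card ↥(W₁ ⊔ W₂) := Nat.le_of_dvd Nat.card_pos (Subgroup.card_dvd_of_le le_sup_left)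
    rw [mul_comm]
    show t * s % _ = 1 % _
    rw [hs.2, Nat.mod_eq_of_lt (by omega)]
  rw [gal_fam hW hodd hχ ht hn (ω ^ t) g]
  congr 1
  have h3 : t * s ≡ 1 [MOD Nat.card ↥(W₁ ⊔ W₂)] := by rw [mul_comm]; exact hn
  exact (pow_pow_hom ω h3).symm

end Unique

section Num

/-- a simultaneous congruence coprime to `N` -/
theorem exists_coprime {n a k N : ℕ} (hN : N ≠ 0) (hna : Nat.Coprime n a) (hk : k.Coprime n) :
    ∃ t : ℕ, t ≡ k [MOD n] ∧ t ≡ 1 [MOD a] ∧ N.Coprime t := by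
  classical
  let r := ∏ p ∈ N.primeFactors.filter (fun p => ¬ p ∣ n), p
  have hr : Nat.Coprime n (a * r) := by
    apply Nat.Coprime.mul_right hna
    apply Nat.Coprime.prod_right
    intro p hp
    obtain ⟨h1, h2⟩ := Finset.mem_filter.1 hp
    exact ((Nat.prime_of_mem_primeFactors h1).coprime_iff_not_dvd.2 h2).symm
  obtain ⟨t, h1, h2⟩ := Nat.chineseRemainder hr k 1
  refine ⟨t, h1, h2.of_dvd (dvd_mul_right _ _), ?_⟩
  by_contra hne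
  obtain ⟨p, hp, hpN, hpt⟩ := Nat.Prime.not_coprime_iff_dvd.1 hne
  by_cases hpn : p ∣ n
  · have h3 : t ≡ k [MOD p] := h1.of_dvd hpn
    have h4 : p ∣ k := (h3.dvd_iff dvd_rfl).1 hpt
    exact hp.one_lt.ne' (Nat.dvd_one.1 (hk ▸ Nat.dvd_gcd h4 hpn))
  · have h3 : p ∣ r := Finset.dvd_prod_of_mem (fun p => p) (Finset.mem_filter.2 ⟨Nat.mem_primeFactors.2 ⟨hp, hpN, hN⟩, hpn⟩)
    have h4 : t ≡ 1 [MOD p] := h2.of_dvd (h3.mul_left a)
    have h5 : p ∣ 1 := (h4.dvd_iff dvd_rfl).1 hpt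
    exact hp.one_lt.ne' (Nat.dvd_one.1 h5)

end Num

end Cfsg.Agent.H10.CycTI5
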