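import Mathlib
import Cfsg.Prelude.Def_OddOrderChar
import Cfsg.Agent.H10_CycTI5
import Cfsg.Agent.H10_Comb3

/-!
H10_CycEx: generalized characters of norm three as sets; the row property.
-/

set_option autoImplicit false
set_option linter.style.haveILetI false
set_option linter.unusedSectionVars false

namespace Cfsg.Agent.H10.CycEx

open Cfsg Cfsg.Agent.H3.CharBasic Cfsg.Agent.H3.CharIrr Cfsg.Agent.H3.CharComplete Cfsg.Agent.H3.CharInt
  Cfsg.Agent.H3.CharInd Cfsg.Agent.H10.PM Cfsg.Agent.H10.Comb3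
open scoped ComplexConjugate

variable {G : Type*} [Group G] [Fintype G]

/-- `B` is the set of signed constituents of the norm three generalized character `f` -/
structure Is3 (f : G → ℂ) (B : Finset (G → ℂ)) : Prop where
  card : B.card = 3
  pm : ∀ u ∈ B, Pm u
  orth : ∀ u ∈ B, ∀ v ∈ B, u ≠ v → classInner u v = 0
  sum : f = ∑ u ∈ B, u

theorem Pm.ne_neg {u : G → ℂ} (h : Pm u) : u ≠ -u := by
  intro h1
  have h2 := congrFun h1 1
  have h3 := Pm.one_ne h
  rw [Pi.neg_apply] at h2
  exact h3 (by linear_combination (1 / 2 : ℂ) * h2)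

theorem Pm.inner_neg {u : G → ℂ} (h : Pm u) : classInner u (-u) = -1 := by rw [ci_neg_right', h.norm]

theorem exists_is3 {f : G → ℂ} (hf : IsGeneralizedCharacter G f) (h : classInner f f = 3) : ∃ B, Is3 f B := by
  classical
  obtain ⟨a, b, c, ha, hb, hc, hab, hac, hbc, e⟩ := isGen_norm_three hf h
  have nab : a ≠ b := by rintro rfl; rw [ha.norm] at hab; exact one_ne_zero hab
  have nac : a ≠ c := by rintro rfl; rw [ha.norm] at hac; exact one_ne_zero hac
  have nbc : b ≠ c := by rintro rfl; rw [hb.norm] at hbc; exact one_ne_zero hbc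
  refine ⟨{a, b, c}, ?_, ?_, ?_, ?_⟩
  · rw [Finset.card_insert_of_notMem (by simp [nab, nac]), Finset.card_insert_of_notMem (by simp [nbc]), Finset.card_singleton]
  · intro u hu
    simp only [Finset.mem_insert, Finset.mem_singleton] at hu
    rcases hu with rfl | rfl | rfl <;> assumption
  · intro u hu v hv hne
    simp only [Finset.mem_insert, Finset.mem_singleton] at hu hv
    rcases hu with rfl | rfl | rfl <;> rcases hv with rfl | rfl | rfl
    · exact absurd rfl hne
    · exact hab
    · exact hac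
    · rw [Pm.comm hb ha]; exact hab
    · exact absurd rfl hne
    · exact hbc
    · rw [Pm.comm hc ha]; exact hac
    · rw [Pm.comm hc hb]; exact hbc
    · exact absurd rfl hne
  · rw [e, Finset.sum_insert (by simp [nab, nac]), Finset.sum_insert (by simp [nbc]), Finset.sum_singleton, add_assoc]

namespace Is3

variable {f : G → ℂ} {B : Finset (G → ℂ)} (h : Is3 f B)
include h

theorem inner_mem {u : G → ℂ} (hu : u ∈ B) : classInner f u = 1 := by
  classical
  rw [h.sum, ci_sum_left, Finset.sum_eq_single u]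
  · exact (h.pm u hu).norm
  · intro v hv hne; exact h.orth v hv u hu hne
  · intro h1; exact absurd hu h1

theorem inner_neg_mem {u : G → ℂ} (hu : -u ∈ B) : classInner f u = -1 := by
  have := h.inner_mem hu
  rw [ci_neg_right'] at this
  linear_combination -this

theorem neg_not_mem {u : G → ℂ} (hu : u ∈ B) : -u ∉ B := by
  intro h1
  have h2 := h.orth u hu (-u) h1 (Pm.ne_neg (h.pm u hu))
  rw [Pm.inner_neg (h.pm u hu)] at h2
  norm_num at h2

theorem inner_zero {u : G → ℂ} (hu : Pm u) (h1 : u ∉ B) (h2 : -u ∉ B) : classInner f u = 0 := by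
  rw [h.sum, ci_sum_left]
  apply Finset.sum_eq_zero
  intro v hv
  rcases Pm.inner (h.pm v hv) hu with h3 | h3 | h3
  · exact h3
  · exact absurd (h3.1 ▸ hv) h1
  · exfalso; apply h2; rw [h3.1, neg_neg]; exact hv

theorem mem_iff {u : G → ℂ} (hu : Pm u) : u ∈ B ↔ classInner f u = 1 := by
  constructor
  · exact h.inner_mem
  · intro h1
    by_contra h2
    by_cases h3 : -u ∈ B
    · rw [h.inner_neg_mem h3] at h1; norm_num at h1
    · rw [h.inner_zero hu h2 h3] at h1; norm_num at h1

theorem gen : IsGeneralizedCharacter G f := by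
  classical
  rw [h.sum]
  have : ∀ s : Finset (G → ℂ), s ⊆ B → IsGeneralizedCharacter G (∑ u ∈ s, u) := by
    intro s
    induction s using Finset.induction with
    | empty => intro _; simpa using (IsGen.zero (G := G))
    | insert a s ha ih =>
      intro hs
      rw [Finset.sum_insert ha]
      exact IsGen.add (h.pm a (hs (Finset.mem_insert_self a s))).gen (ih (fun x hx => hs (Finset.mem_insert_of_mem hx)))
  exact this B (Finset.Subset.refl _)

end Is3

open Classical in
/-- the inner product in terms of common and opposite constituents -/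
theorem inner_eq {f f' : G → ℂ} {B B' : Finset (G → ℂ)} (h : Is3 f B) (h' : Is3 f' B') :
    classInner f f' = ((B ∩ B').card : ℂ) - ((B.filter (fun u => -u ∈ B')).card : ℂ) := by
  have e1 : classInner f f' = ∑ u ∈ B, classInner u f' := by rw [h.sum, ci_sum_left]
  have e2 : ∀ u ∈ B, classInner u f' = (if u ∈ B' then (1 : ℂ) else 0) - (if -u ∈ B' then (1 : ℂ) else 0) := by
    intro u hu
    have hpm := h.pm u hu
    rw [gen_comm hpm.gen h'.gen]
    by_cases h1 : u ∈ B'
    · rw [if_pos h1, if_neg (h'.neg_not_mem h1), h'.inner_mem h1, sub_zero]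
    · by_cases h2 : -u ∈ B'
      · rw [if_neg h1, if_pos h2, h'.inner_neg_mem h2, zero_sub]
      · rw [if_neg h1, if_neg h2, h'.inner_zero hpm h1 h2, sub_zero]
  rw [e1, Finset.sum_congr rfl e2, Finset.sum_sub_distrib]
  congr 1
  · rw [← Finset.sum_filter, Finset.sum_const, nsmul_eq_mul, mul_one, Finset.filter_mem_eq_inter]
  · rw [← Finset.sum_filter, Finset.sum_const, nsmul_eq_mul, mul_one]

open Classical in
/-- inner product one and equal degrees -/
theorem pair_one {f f' : G → ℂ} {B B' : Finset (G → ℂ)} (h : Is3 f B) (h' : Is3 f' B') (h1 : classInner f f' = 1)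
    (hdeg : f 1 = f' 1) : (B ∩ B').card = 1 ∧ ∀ u ∈ B, -u ∉ B' := by
  have e := inner_eq h h'
  rw [h1] at e
  have e' : (B ∩ B').card = 1 + (B.filter (fun u => -u ∈ B')).card := by
    have : ((B ∩ B').card : ℂ) = 1 + ((B.filter (fun u => -u ∈ B')).card : ℂ) := by linear_combination -e
    exact_mod_cast this
  have hdisj : Disjoint (B ∩ B') (B.filter (fun u => -u ∈ B')) := by
    rw [Finset.disjoint_left]
    intro u hu hu'
    exact h'.neg_not_mem (Finset.mem_inter.1 hu).2 (Finset.mem_filter.1 hu').2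
  have hsub : (B ∩ B') ∪ (B.filter (fun u => -u ∈ B')) ⊆ B := Finset.union_subset Finset.inter_subset_left (Finset.filter_subset _ _)
  have hle := Finset.card_le_card hsub
  rw [Finset.card_union_of_disjoint hdisj, h.card] at hle
  have hN : (B.filter (fun u => -u ∈ B')).card = 0 := by
    by_contra hne
    have hN1 : (B.filter (fun u => -u ∈ B')).card = 1 := by omega
    obtain ⟨c, hc⟩ := Finset.card_eq_one.1 hN1
    have hcm : c ∈ B.filter (fun u => -u ∈ B') := by rw [hc]; exact Finset.mem_singleton_self c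
    obtain ⟨hcB, hcB'⟩ := Finset.mem_filter.1 hcm
    have hB : B = insert c (B ∩ B') := by
      symm
      apply Finset.eq_of_subset_of_card_le
      · intro x hx
        rcases Finset.mem_insert.1 hx with rfl | hx
        · exact hcB
        · exact (Finset.mem_inter.1 hx).1
      · rw [Finset.card_insert_of_notMem (fun hx => h'.neg_not_mem (Finset.mem_inter.1 hx).2 hcB'), h.card]; omega
    have hB' : B' = insert (-c) (B ∩ B') := by
      symm
      apply Finset.eq_of_subset_of_card_le
      · intro x hx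
        rcases Finset.mem_insert.1 hx with rfl | hx
        · exact hcB'
        · exact (Finset.mem_inter.1 hx).2
      · rw [Finset.card_insert_of_notMem (fun hx => h.neg_not_mem hcB (Finset.mem_inter.1 hx).1), h'.card]; omega
    have s1 : f 1 = c 1 + (∑ u ∈ B ∩ B', u) 1 := by
      rw [h.sum]
      conv_lhs => rw [hB]
      rw [Finset.sum_insert (fun hx => h'.neg_not_mem (Finset.mem_inter.1 hx).2 hcB'), Pi.add_apply]
    have s2 : f' 1 = - c 1 + (∑ u ∈ B ∩ B', u) 1 := by
      rw [h'.sum]
      conv_lhs => rw [hB']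
      rw [Finset.sum_insert (fun hx => h.neg_not_mem hcB (Finset.mem_inter.1 hx).1), Pi.add_apply, Pi.neg_apply]
    rw [hdeg, s2] at s1
    exact Pm.one_ne (h.pm c hcB) (by linear_combination (-1 / 2 : ℂ) * s1)
  refine ⟨by omega, ?_⟩
  intro u hu hu'
  have : u ∈ B.filter (fun u => -u ∈ B') := Finset.mem_filter.2 ⟨hu, hu'⟩
  rw [Finset.card_eq_zero.1 hN] at this
  exact absurd this (Finset.notMem_empty u)

open Classical in
/-- inner product zero with a common constituent -/
theorem pair_zero {f f' : G → ℂ} {B B' : Finset (G → ℂ)} (h : Is3 f B) (h' : Is3 f' B') (h1 : classInner f f' = 0)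
    {u : G → ℂ} (hu : u ∈ B) (hu' : u ∈ B') : ∃ v ∈ B, -v ∈ B' := by
  have e := inner_eq h h'
  rw [h1] at e
  have e' : (B ∩ B').card = (B.filter (fun u => -u ∈ B')).card := by
    have : ((B ∩ B').card : ℂ) = ((B.filter (fun u => -u ∈ B')).card : ℂ) := by linear_combination -e
    exact_mod_cast this
  have h2 : 0 < (B ∩ B').card := Finset.card_pos.2 ⟨u, Finset.mem_inter.2 ⟨hu, hu'⟩⟩
  rw [e'] at h2
  obtain ⟨v, hv⟩ := Finset.card_pos.1 h2
  obtain ⟨h3, h4⟩ := Finset.mem_filter.1 hv
  exact ⟨v, h3, h4⟩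

open Classical in
/-- parity: an even subfamily has even inner products -/
theorem even_sum {J : Type*} {β : J → (G → ℂ)} {B : J → Finset (G → ℂ)} [Fintype J] (hB : ∀ j, Is3 (β j) (B j)) {f : G → ℂ}
    (hf : IsGeneralizedCharacter G f) (J' : Finset J) (hJ' : ∀ u, Even (J' ∩ D B u).card) :
    ∃ n : ℤ, ∑ j ∈ J', classInner (β j) f = 2 * n := by
  have hint : ∀ u ∈ J'.biUnion B, ∃ n : ℤ, classInner u f = n := by
    intro u hu
    obtain ⟨j, _, hj⟩ := Finset.mem_biUnion.1 hu
    exact ci_gen_int ((hB j).pm u hj).gen hf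
  choose! g hg using hint
  have hsum : ∑ j ∈ J', classInner (β j) f = ∑ u ∈ J'.biUnion B, ((J' ∩ D B u).card : ℂ) * classInner u f := by
    have e1 : ∀ j ∈ J', classInner (β j) f = ∑ u ∈ J'.biUnion B, if u ∈ B j then classInner u f else 0 := by
      intro j hj
      have h1 : classInner (β j) f = ∑ u ∈ B j, classInner u f := by rw [(hB j).sum, ci_sum_left]
      rw [h1, ← Finset.sum_filter]
      refine Finset.sum_congr ?_ fun _ _ => rfl
      ext u
      rw [Finset.mem_filter, Finset.mem_biUnion]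
      exact ⟨fun h => ⟨⟨j, hj, h⟩, h⟩, fun h => h.2⟩
    rw [Finset.sum_congr rfl e1, Finset.sum_comm]
    refine Finset.sum_congr rfl fun u _ => ?_
    rw [← Finset.sum_filter, Finset.sum_const, nsmul_eq_mul]
    congr 3
    ext j
    simp [mem_D]
  choose r hr using fun u => hJ' u
  refine ⟨∑ u ∈ J'.biUnion B, (r u : ℤ) * g u, ?_⟩
  rw [hsum]
  push_cast
  rw [Finset.mul_sum]
  refine Finset.sum_congr rfl fun u hu => ?_
  rw [hr u, hg u hu]
  push_cast; ring

open Classical in
/-- the row property -/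
theorem row_common {I J : Type*} [Fintype J] {β : I → J → (G → ℂ)} {B : I → J → Finset (G → ℂ)}
    (hB : ∀ i j, Is3 (β i j) (B i j)) (hval : ∀ i j, β i j 1 = -1)
    (hrow : ∀ i j j', j ≠ j' → classInner (β i j) (β i j') = 1)
    (hcol : ∀ i i' j, i ≠ i' → classInner (β i j) (β i' j) = 1)
    (hoff : ∀ i i' j j', i ≠ i' → j ≠ j' → classInner (β i j) (β i' j') = 0)
    (hJ : Even (Fintype.card J)) (hJ2 : 2 ≤ Fintype.card J) (i i' : I) (hii : i ≠ i')
    (hhom : Fintype.card J = 4 → ∀ j k, ∃ (σ : Equiv.Perm J) (T : (G → ℂ) → (G → ℂ)), σ j = k ∧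
      (∀ u, Pm u → Pm (T u)) ∧ ∀ u l, classInner (β i (σ l)) (T u) = classInner (β i l) u) :
    ∃ u, ∀ j, u ∈ B i j := by
  have h3 : ∀ j, (B i j).card = 3 := fun j => (hB i j).card
  have h1 : ∀ j k, j ≠ k → (B i j ∩ B i k).card = 1 := fun j k hne =>
    (pair_one (hB i j) (hB i k) (hrow i j k hne) (by rw [hval, hval])).1
  refine sunflower (B := fun j => B i j) h3 h1 hJ hJ2 ?_ ?_
  · intro J' hJ'
    by_contra hno
    push Not at hno
    obtain ⟨j₀, hj₀⟩ := hJ'
    obtain ⟨n, hn⟩ := even_sum (hB i) (hB i' j₀).gen J' (fun u => Nat.not_odd_iff_even.1 (hno u))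
    rw [Finset.sum_eq_single_of_mem j₀ hj₀ (fun j _ hne => hoff i i' j j₀ hii hne), hcol i i' j₀ hii] at hn
    have : (1 : ℤ) = 2 * n := by exact_mod_cast hn
    omega
  · rintro hJ4 j k ⟨u, hu, hu3⟩
    obtain ⟨σ, T, hσ, hTpm, hT⟩ := hhom hJ4 j k
    have hupm := (hB i j).pm u hu
    have hiff : ∀ l, T u ∈ B i (σ l) ↔ u ∈ B i l := by
      intro l
      rw [(hB i (σ l)).mem_iff (hTpm u hupm), (hB i l).mem_iff hupm, hT]
    refine ⟨T u, ?_, ?_⟩
    · rw [← hσ]; exact (hiff j).2 hu
    · rw [← hu3]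
      apply Finset.card_bij' (fun l _ => σ.symm l) (fun l _ => σ l)
      · intro l hl
        rw [mem_D] at hl ⊢
        have := hiff (σ.symm l)
        rw [Equiv.apply_symm_apply] at this
        exact this.1 hl
      · intro l hl
        rw [mem_D] at hl ⊢
        exact (hiff l).2 hl
      · intro l _; exact σ.apply_symm_apply l
      · intro l _; exact σ.symm_apply_apply l

end Cfsg.Agent.H10.CycEx
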