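import Mathlib
import Cfsg.Prelude.Def_OddOrderChar
import Cfsg.Agent.H10_CycEx
import Cfsg.Agent.H10_IndSet2

/-!
H10_CycEx2: the norm three characters attached to a self-normalizing cyclic subgroup.
-/

set_option autoImplicit false
set_option linter.style.haveILetI false
set_option linter.unusedSectionVars false

namespace Cfsg.Agent.H10.CycEx2

open Cfsg Cfsg.Agent.H3.CharBasic Cfsg.Agent.H3.CharIrr Cfsg.Agent.H3.CharComplete Cfsg.Agent.H3.CharInt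
  Cfsg.Agent.H3.CharInd Cfsg.Agent.H3.GalProd Cfsg.Agent.H10.PM Cfsg.Agent.H10.Comb3 Cfsg.Agent.H10.CycTI Cfsg.Agent.H10.CycTI2
  Cfsg.Agent.H10.CycTI3 Cfsg.Agent.H10.CycTI4 Cfsg.Agent.H10.CycTI5 Cfsg.Agent.H10.CycEx
open scoped ComplexConjugate

variable {G : Type*} [Group G] [Fintype G] {W₁ W₂ : Subgroup G} (hW : IsSelfNormalizingCyclic W₁ W₂)

/-- `Ind (1-φ)(1-ψ) - 1` -/
noncomputable def be (φ ψ : ↥(W₁ ⊔ W₂) →* ℂˣ) : G → ℂ := indFun (W₁ ⊔ W₂) (al φ ψ) - fun _ => 1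

theorem be_gen (φ ψ : ↥(W₁ ⊔ W₂) →* ℂˣ) : IsGeneralizedCharacter G (be φ ψ) := by
  haveI := Fintype.ofFinite ↥(W₁ ⊔ W₂)
  exact IsGen.sub (IsGen.ind (al_gen φ ψ)) (IsGen.of_irr isIrr_one)

theorem be_one (φ ψ : ↥(W₁ ⊔ W₂) →* ℂˣ) : be φ ψ 1 = -1 := by
  rw [be, Pi.sub_apply, ind_one]
  have : al φ ψ 1 = 0 := by rw [al]; simp
  rw [this]; ring

include hW in
theorem be_inner_one {φ ψ : ↥(W₁ ⊔ W₂) →* ℂˣ} (hφ : X1 W₁ W₂ φ) (hψ : X2 W₁ W₂ ψ) (h1 : φ ≠ 1) (h2 : ψ ≠ 1) :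
    classInner (be φ ψ) (fun _ => 1) = 0 := by
  haveI := Fintype.ofFinite ↥(W₁ ⊔ W₂)
  rw [be, ci_sub_left, ind_al_one hW hφ hψ h1 h2, ci_irr_self isIrr_one, sub_self]

include hW in
open Classical in
theorem be_inner {φ ψ φ' ψ' : ↥(W₁ ⊔ W₂) →* ℂˣ} (hφ : X1 W₁ W₂ φ) (hψ : X2 W₁ W₂ ψ)
    (hφ' : X1 W₁ W₂ φ') (hψ' : X2 W₁ W₂ ψ') (h1 : φ ≠ 1) (h2 : ψ ≠ 1) (h3 : φ' ≠ 1) (h4 : ψ' ≠ 1) :
    classInner (be φ ψ) (be φ' ψ') = (if φ = φ' then 1 else 0) + (if ψ = ψ' then 1 else 0)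
      + (if φ = φ' then 1 else 0) * (if ψ = ψ' then 1 else 0) := by
  haveI := Fintype.ofFinite ↥(W₁ ⊔ W₂)
  have e1 : classInner (be φ ψ) (be φ' ψ') = classInner (be φ ψ) (indFun (W₁ ⊔ W₂) (al φ' ψ')) := by
    show classInner (be φ ψ) (indFun (W₁ ⊔ W₂) (al φ' ψ') - fun _ => 1) = _
    rw [ci_sub_right, be_inner_one hW hφ hψ h1 h2, sub_zero]
  have e2 : classInner (fun _ => 1) (indFun (W₁ ⊔ W₂) (al φ' ψ')) = 1 := by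
    rw [← ci_conj_symm, ind_al_one hW hφ' hψ' h3 h4, map_one]
  rw [e1, be, ci_sub_left, e2, ind_al_al hW hφ hψ hφ' hψ', al_al hW hφ hψ hφ' hψ' h1 h2 h3 h4]
  ring

theorem al_pow {t : ℕ} (φ ψ : ↥(W₁ ⊔ W₂) →* ℂˣ) : (fun w : ↥(W₁ ⊔ W₂) => al φ ψ (w ^ t)) = al (φ ^ t) (ψ ^ t) := by
  funext w
  simp only [al, map_pow, Units.val_pow_eq_pow_val]
  have e1 : (((φ ^ t) w : ℂˣ) : ℂ) = (φ w : ℂ) ^ t := by
    show ((((φ w) ^ t : ℂˣ)) : ℂ) = _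
    rw [Units.val_pow_eq_pow_val]
  have e2 : (((ψ ^ t) w : ℂˣ) : ℂ) = (ψ w : ℂ) ^ t := by
    show ((((ψ w) ^ t : ℂˣ)) : ℂ) = _
    rw [Units.val_pow_eq_pow_val]
  rw [e1, e2]

theorem be_pow {t : ℕ} (ht : (Nat.card G).Coprime t) (φ ψ : ↥(W₁ ⊔ W₂) →* ℂˣ) :
    (fun g => be φ ψ (g ^ t)) = be (φ ^ t) (ψ ^ t) := by
  funext g
  rw [be, be, Pi.sub_apply, Pi.sub_apply, ind_pow_fun ht, al_pow]

theorem be_conj (φ ψ : ↥(W₁ ⊔ W₂) →* ℂˣ) : conjFun (be φ ψ) = be φ⁻¹ ψ⁻¹ := by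
  haveI := Fintype.ofFinite ↥(W₁ ⊔ W₂)
  have h1 : conjFun (be φ ψ) = conjFun (indFun (W₁ ⊔ W₂) (al φ ψ)) - fun _ => 1 := by
    funext g
    simp [conjFun, be]
  rw [h1, Cfsg.Agent.H10.IndSet2.conj_ind, be]
  congr 2
  funext w
  have e : ∀ f : ↥(W₁ ⊔ W₂) →* ℂˣ, conj ((f w : ℂˣ) : ℂ) = (((f⁻¹) w : ℂˣ) : ℂ) := by
    intro f
    rw [cc_conj, MonoidHom.inv_apply, map_inv]
  simp only [conjFun, al, map_add, map_sub, map_mul, map_one]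
  rw [e φ, e ψ]

theorem X1_pow {t : ℕ} {φ : ↥(W₁ ⊔ W₂) →* ℂˣ} (hφ : X1 W₁ W₂ φ) : X1 W₁ W₂ (φ ^ t) := by
  intro w hw
  show (φ w) ^ t = 1
  rw [hφ w hw, one_pow]

theorem X2_pow {t : ℕ} {φ : ↥(W₁ ⊔ W₂) →* ℂˣ} (hφ : X2 W₁ W₂ φ) : X2 W₁ W₂ (φ ^ t) := by
  intro w hw
  show (φ w) ^ t = 1
  rw [hφ w hw, one_pow]

theorem X1_inv {φ : ↥(W₁ ⊔ W₂) →* ℂˣ} (hφ : X1 W₁ W₂ φ) : X1 W₁ W₂ φ⁻¹ := by
  intro w hw
  rw [MonoidHom.inv_apply, hφ w hw, inv_one]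

theorem X2_inv {φ : ↥(W₁ ⊔ W₂) →* ℂˣ} (hφ : X2 W₁ W₂ φ) : X2 W₁ W₂ φ⁻¹ := by
  intro w hw
  rw [MonoidHom.inv_apply, hφ w hw, inv_one]

include hW in
theorem ext1 {φ φ' : ↥(W₁ ⊔ W₂) →* ℂˣ} (hφ : X1 W₁ W₂ φ) (hφ' : X1 W₁ W₂ φ')
    (h : ∀ w : ↥(W₁ ⊔ W₂), (w : G) ∈ W₁ → φ w = φ' w) : φ = φ' := by
  obtain ⟨p₁, p₂, hp1, hp2, hw, h1, h2⟩ := exists_p (hdisj hW) (hcomm hW)
  apply MonoidHom.ext
  intro w
  rw [hw w, map_mul, map_mul, hφ _ (hp2 w), hφ' _ (hp2 w), h _ (hp1 w)]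

include hW in
theorem ext2 {φ φ' : ↥(W₁ ⊔ W₂) →* ℂˣ} (hφ : X2 W₁ W₂ φ) (hφ' : X2 W₁ W₂ φ')
    (h : ∀ w : ↥(W₁ ⊔ W₂), (w : G) ∈ W₂ → φ w = φ' w) : φ = φ' := by
  obtain ⟨p₁, p₂, hp1, hp2, hw, h1, h2⟩ := exists_p (hdisj hW) (hcomm hW)
  apply MonoidHom.ext
  intro w
  rw [hw w, map_mul, map_mul, hφ _ (hp1 w), hφ' _ (hp1 w), h _ (hp2 w)]

theorem val_pow_of_modEq {w : ↥(W₁ ⊔ W₂)} {n t : ℕ} (φ : ↥(W₁ ⊔ W₂) →* ℂˣ) (hw : w ^ n = 1) (ht : t ≡ 1 [MOD n]) :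
    (φ w) ^ t = φ w := by
  rw [← map_pow]
  congr 1
  conv_rhs => rw [← pow_one w]
  exact pow_eq_pow_iff_modEq.2 (ht.of_dvd (orderOf_dvd_of_pow_eq_one hw))

include hW in
theorem pow_eq1 {t : ℕ} {φ : ↥(W₁ ⊔ W₂) →* ℂˣ} (hφ : X1 W₁ W₂ φ) (ht : t ≡ 1 [MOD Nat.card W₁]) : φ ^ t = φ := by
  apply ext1 hW (X1_pow hφ) hφ
  intro w hw
  show (φ w) ^ t = φ w
  refine val_pow_of_modEq φ ?_ ht
  exact Subtype.ext ((mem1 hW w.2).1 hw)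

include hW in
theorem pow_eq2 {t : ℕ} {φ : ↥(W₁ ⊔ W₂) →* ℂˣ} (hφ : X2 W₁ W₂ φ) (ht : t ≡ 1 [MOD Nat.card W₂]) : φ ^ t = φ := by
  apply ext2 hW (X2_pow hφ) hφ
  intro w hw
  show (φ w) ^ t = φ w
  refine val_pow_of_modEq φ ?_ ht
  exact Subtype.ext ((mem2 hW w.2).1 hw)

theorem pow_ne {t : ℕ} (ht : (Nat.card G).Coprime t) {φ φ' : ↥(W₁ ⊔ W₂) →* ℂˣ} (h : φ ^ t = φ' ^ t) : φ = φ' := by
  have hcop : (Nat.card ↥(W₁ ⊔ W₂)).Coprime t := Nat.Coprime.coprime_dvd_left (Subgroup.card_subgroup_dvd_card _) ht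
  apply MonoidHom.ext
  intro w
  have h1 : (φ w) ^ t = (φ' w) ^ t := DFunLike.congr_fun h w
  have h2 : (φ w) ^ (orderOf w) = 1 := by rw [← map_pow, pow_orderOf_eq_one, map_one]
  have h3 : (φ' w) ^ (orderOf w) = 1 := by rw [← map_pow, pow_orderOf_eq_one, map_one]
  have h4 : Nat.Coprime t (orderOf w) := (Nat.Coprime.coprime_dvd_left (orderOf_dvd_natCard w) hcop).symm
  have h5 : (φ w / φ' w) ^ t = 1 := by rw [div_pow, h1, div_self']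
  have h6 : (φ w / φ' w) ^ (orderOf w) = 1 := by rw [div_pow, h2, h3, div_one]
  have h7 : orderOf (φ w / φ' w) ∣ 1 := by
    rw [← h4]
    exact Nat.dvd_gcd (orderOf_dvd_of_pow_eq_one h5) (orderOf_dvd_of_pow_eq_one h6)
  rw [Nat.dvd_one, orderOf_eq_one_iff] at h7
  exact div_eq_one.1 h7

theorem inv_ne {φ : ↥(W₁ ⊔ W₂) →* ℂˣ} (hodd : Odd (Nat.card ↥(W₁ ⊔ W₂))) (h : φ ≠ 1) : φ⁻¹ ≠ φ := by
  intro h1
  apply h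
  apply MonoidHom.ext
  intro w
  have h2 : (φ w)⁻¹ = φ w := DFunLike.congr_fun h1 w
  have h3 : (φ w) ^ 2 = 1 := by rw [pow_two]; nth_rewrite 1 [← h2]; exact inv_mul_cancel _
  have h4 : (φ w) ^ (orderOf w) = 1 := by rw [← map_pow, pow_orderOf_eq_one, map_one]
  have h5 : Odd (orderOf w) := hodd.of_dvd_nat (orderOf_dvd_natCard w)
  have h6 : orderOf (φ w) ∣ 1 := by
    have : Nat.gcd 2 (orderOf w) = 1 := Nat.coprime_two_left.2 h5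
    rw [← this]
    exact Nat.dvd_gcd (orderOf_dvd_of_pow_eq_one h3) (orderOf_dvd_of_pow_eq_one h4)
  rw [Nat.dvd_one, orderOf_eq_one_iff] at h6
  rw [h6]; rfl

theorem inv_ne_one {φ : ↥(W₁ ⊔ W₂) →* ℂˣ} (h : φ ≠ 1) : φ⁻¹ ≠ 1 := by
  intro h1
  apply h
  apply MonoidHom.ext
  intro w
  have h2 : (φ w)⁻¹ = 1 := DFunLike.congr_fun h1 w
  rw [inv_eq_one.1 h2]; rfl

theorem exists_k {P : Type*} [Group P] {b : P} {q : ℕ} [hq : Fact q.Prime] (hb : b ^ q = 1) {f f' : P →* ℂˣ} (hf : f b ≠ 1)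
    (hf' : f' b ≠ 1) : ∃ k : ℕ, k.Coprime q ∧ f' b = (f b) ^ k := by
  have h1 : (f b) ^ q = 1 := by rw [← map_pow, hb, map_one]
  have h2 : (f' b) ^ q = 1 := by rw [← map_pow, hb, map_one]
  have h3 : orderOf (f b) = q := orderOf_eq_prime h1 hf
  have hprim : IsPrimitiveRoot (f b : ℂˣ) q := by rw [← h3]; exact IsPrimitiveRoot.orderOf _
  haveI : NeZero q := ⟨hq.out.ne_zero⟩
  obtain ⟨k, hk, hk2⟩ := (IsPrimitiveRoot.coe_units_iff.2 hprim).eq_pow_of_pow_eq_one (ξ := (f' b : ℂ)) (by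
    rw [← Units.val_pow_eq_pow_val, h2, Units.val_one])
  refine ⟨k, ?_, ?_⟩
  · rw [Nat.coprime_comm, hq.out.coprime_iff_not_dvd]
    rintro ⟨m, rfl⟩
    apply hf'
    apply Units.ext
    rw [← hk2, pow_mul, ← Units.val_pow_eq_pow_val, h1]; simp
  · apply Units.ext
    rw [Units.val_pow_eq_pow_val]; exact hk2.symm

include hW in
/-- Galois transitivity on the characters trivial on `W₁`, for `W₂` of prime order -/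
theorem exists_gal2 {q : ℕ} [hq : Fact q.Prime] (hcard : Nat.card W₂ = q) {ψ ψ' : ↥(W₁ ⊔ W₂) →* ℂˣ}
    (hψ : X2 W₁ W₂ ψ) (hψ' : X2 W₁ W₂ ψ') (h1 : ψ ≠ 1) (h2 : ψ' ≠ 1) :
    ∃ t : ℕ, (Nat.card G).Coprime t ∧ t ≡ 1 [MOD Nat.card W₁] ∧ ψ ^ t = ψ' := by
  obtain ⟨b₀, hb₀⟩ := Subgroup.ne_bot_iff_exists_ne_one.1 hW.2.1
  let b : ↥(W₁ ⊔ W₂) := ⟨b₀, Subgroup.mem_sup_right b₀.2⟩
  have hgen : ∀ w : ↥(W₁ ⊔ W₂), (w : G) ∈ W₂ → ∃ m : ℕ, w = b ^ m := by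
    intro w hw
    obtain ⟨m, hm⟩ := (mem_powers_of_prime_card (p := q) hcard hb₀ : (⟨w, hw⟩ : W₂) ∈ Submonoid.powers b₀)
    exact ⟨m, Subtype.ext (by
      have := congrArg Subtype.val hm
      exact this.symm)⟩
  have hne : ∀ {f : ↥(W₁ ⊔ W₂) →* ℂˣ}, X2 W₁ W₂ f → f ≠ 1 → f b ≠ 1 := by
    intro f hf hf1 h
    apply hf1
    apply ext2 hW hf (fun w _ => rfl)
    intro w hw
    obtain ⟨m, rfl⟩ := hgen w hw
    rw [map_pow, h, one_pow]; rfl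
  have hbq : b ^ q = 1 := by
    rw [← hcard]
    exact Subtype.ext ((mem2 hW b.2).1 b₀.2)
  obtain ⟨k, hk, hkk⟩ := exists_k hbq (hne hψ h1) (hne hψ' h2)
  obtain ⟨t, ht1, ht2, ht3⟩ := exists_coprime (n := Nat.card W₂) (a := Nat.card W₁) (N := Nat.card G) Nat.card_pos.ne'
    (coprime_card hW).symm (by rw [hcard]; exact hk)
  refine ⟨t, ht3, ht2, ?_⟩
  apply ext2 hW (X2_pow hψ) hψ'
  intro w hw
  obtain ⟨m, rfl⟩ := hgen w hw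
  show (ψ (b ^ m)) ^ t = ψ' (b ^ m)
  rw [map_pow, map_pow, hkk, ← pow_mul, ← pow_mul, mul_comm m t, mul_comm k m, mul_comm t m]
  have h3 : (ψ b) ^ t = (ψ b) ^ k := by
    rw [← map_pow, ← map_pow]
    congr 1
    rw [hcard] at ht1
    exact pow_eq_pow_iff_modEq.2 (ht1.of_dvd (orderOf_dvd_of_pow_eq_one hbq))
  rw [mul_comm m t, mul_comm m k, pow_mul, pow_mul, h3]

include hW in
/-- Galois transitivity on the characters trivial on `W₂`, for `W₁` of prime order -/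
theorem exists_gal1 {q : ℕ} [hq : Fact q.Prime] (hcard : Nat.card W₁ = q) {ψ ψ' : ↥(W₁ ⊔ W₂) →* ℂˣ}
    (hψ : X1 W₁ W₂ ψ) (hψ' : X1 W₁ W₂ ψ') (h1 : ψ ≠ 1) (h2 : ψ' ≠ 1) :
    ∃ t : ℕ, (Nat.card G).Coprime t ∧ t ≡ 1 [MOD Nat.card W₂] ∧ ψ ^ t = ψ' := by
  obtain ⟨b₀, hb₀⟩ := Subgroup.ne_bot_iff_exists_ne_one.1 hW.1
  let b : ↥(W₁ ⊔ W₂) := ⟨b₀, Subgroup.mem_sup_left b₀.2⟩
  have hgen : ∀ w : ↥(W₁ ⊔ W₂), (w : G) ∈ W₁ → ∃ m : ℕ, w = b ^ m := by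
    intro w hw
    obtain ⟨m, hm⟩ := (mem_powers_of_prime_card (p := q) hcard hb₀ : (⟨w, hw⟩ : W₁) ∈ Submonoid.powers b₀)
    exact ⟨m, Subtype.ext (by
      have := congrArg Subtype.val hm
      exact this.symm)⟩
  have hne : ∀ {f : ↥(W₁ ⊔ W₂) →* ℂˣ}, X1 W₁ W₂ f → f ≠ 1 → f b ≠ 1 := by
    intro f hf hf1 h
    apply hf1
    apply ext1 hW hf (fun w _ => rfl)
    intro w hw
    obtain ⟨m, rfl⟩ := hgen w hw
    rw [map_pow, h, one_pow]; rfl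
  have hbq : b ^ q = 1 := by
    rw [← hcard]
    exact Subtype.ext ((mem1 hW b.2).1 b₀.2)
  obtain ⟨k, hk, hkk⟩ := exists_k hbq (hne hψ h1) (hne hψ' h2)
  obtain ⟨t, ht1, ht2, ht3⟩ := exists_coprime (n := Nat.card W₁) (a := Nat.card W₂) (N := Nat.card G) Nat.card_pos.ne'
    (coprime_card hW) (by rw [hcard]; exact hk)
  refine ⟨t, ht3, ht2, ?_⟩
  apply ext1 hW (X1_pow hψ) hψ'
  intro w hw
  obtain ⟨m, rfl⟩ := hgen w hw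
  show (ψ (b ^ m)) ^ t = ψ' (b ^ m)
  rw [map_pow, map_pow, hkk, ← pow_mul, ← pow_mul]
  have h3 : (ψ b) ^ t = (ψ b) ^ k := by
    rw [← map_pow, ← map_pow]
    congr 1
    rw [hcard] at ht1
    exact pow_eq_pow_iff_modEq.2 (ht1.of_dvd (orderOf_dvd_of_pow_eq_one hbq))
  rw [mul_comm m t, pow_mul, pow_mul, h3]

end Cfsg.Agent.H10.CycEx2
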