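import Mathlib
import Cfsg.Prelude.Def_OddOrderChar
import Cfsg.Agent.H10_CycEx2

/-!
H10_CycEx3: existence of the cyclic TI family.
-/

set_option autoImplicit false
set_option linter.style.haveILetI false
set_option linter.unusedSectionVars false

namespace Cfsg.Agent.H10.CycEx3

open Cfsg Cfsg.Agent.H3.CharBasic Cfsg.Agent.H3.CharIrr Cfsg.Agent.H3.CharComplete Cfsg.Agent.H3.CharInt
  Cfsg.Agent.H3.CharInd Cfsg.Agent.H3.GalProd Cfsg.Agent.H10.PM Cfsg.Agent.H10.Comb3 Cfsg.Agent.H10.CycTI Cfsg.Agent.H10.CycTI2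
  Cfsg.Agent.H10.CycTI3 Cfsg.Agent.H10.CycTI4 Cfsg.Agent.H10.CycTI5 Cfsg.Agent.H10.CycEx Cfsg.Agent.H10.CycEx2
open scoped ComplexConjugate

section Conj

variable {G : Type*} [Group G] [Fintype G]

theorem conj_inner (f g : G → ℂ) : classInner (conjFun f) (conjFun g) = conj (classInner f g) := by
  rw [classInner, classInner]
  simp only [conjFun, map_mul, map_sum, map_inv₀, map_natCast]

theorem pm_conj {u : G → ℂ} (h : Pm u) : Pm (conjFun u) := by
  rcases h with h | h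
  · exact Or.inl (IsIrr.conj h)
  · refine Or.inr ?_
    have h2 := IsIrr.conj h
    have e : (fun g => conj ((-u) g)) = -conjFun u := by
      funext g; simp [conjFun]
    rwa [e] at h2

theorem conj_conj' (χ : G → ℂ) : conjFun (conjFun χ) = χ := by funext x; simp [conjFun]

theorem conj_neg' (χ : G → ℂ) : conjFun (-χ) = -conjFun χ := by funext x; simp [conjFun]

theorem pm_one_real {u : G → ℂ} (h : Pm u) : conjFun u 1 = u 1 := by
  rcases h with h | h
  · obtain ⟨m, _, hm⟩ := IsIrr.one_eq_nat h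
    rw [conjFun, hm, Complex.conj_natCast]
  · obtain ⟨m, _, hm⟩ := IsIrr.one_eq_nat h
    have : u 1 = -(m : ℂ) := by rw [← hm]; simp
    rw [conjFun, this, map_neg, Complex.conj_natCast]

end Conj

section Main

variable {G : Type*} [Group G] [Fintype G] {W₁ W₂ : Subgroup G} (hW : IsSelfNormalizingCyclic W₁ W₂)
  (hodd : Odd (Nat.card ↥(W₁ ⊔ W₂)))

include hW in
theorem exists_B {φ ψ : ↥(W₁ ⊔ W₂) →* ℂˣ} (hφ : X1 W₁ W₂ φ) (hψ : X2 W₁ W₂ ψ) (h1 : φ ≠ 1) (h2 : ψ ≠ 1) :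
    ∃ B, Is3 (be (G := G) φ ψ) B := by
  classical
  apply exists_is3 (be_gen φ ψ)
  rw [be_inner hW hφ hψ hφ hψ h1 h2 h1 h2, if_pos rfl, if_pos rfl]; norm_num

include hW hodd in
/-- no two conjugate constituents -/
theorem conj_free {φ ψ : ↥(W₁ ⊔ W₂) →* ℂˣ} (hφ : X1 W₁ W₂ φ) (hψ : X2 W₁ W₂ ψ) (h1 : φ ≠ 1) (h2 : ψ ≠ 1)
    {B : Finset (G → ℂ)} (hB : Is3 (be (G := G) φ ψ) B) {u : G → ℂ} (hu : u ∈ B) : conjFun u ∉ B := by
  classical
  intro hu'
  obtain ⟨B', hB'⟩ := exists_B (G := G) hW (X1_inv hφ) (X2_inv hψ) (inv_ne_one h1) (inv_ne_one h2)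
  have hpm := hB.pm u hu
  have hmem : ∀ v : G → ℂ, Pm v → (v ∈ B' ↔ conjFun v ∈ B) := by
    intro v hv
    rw [hB'.mem_iff hv, hB.mem_iff (pm_conj hv), ← be_conj]
    constructor
    · intro h
      have h3 := congrArg conj h
      rw [← conj_inner, conj_conj', map_one] at h3
      exact h3
    · intro h
      have h3 := congrArg conj h
      rw [← conj_inner, conj_conj', map_one] at h3
      exact h3
  have h0 : classInner (be (G := G) φ ψ) (be φ⁻¹ ψ⁻¹) = 0 := by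
    rw [be_inner hW hφ hψ (X1_inv hφ) (X2_inv hψ) h1 h2 (inv_ne_one h1) (inv_ne_one h2), if_neg (inv_ne hodd h1).symm,
      if_neg (inv_ne hodd h2).symm]
    norm_num
  obtain ⟨v, hv, hv'⟩ := pair_zero hB hB' h0 hu ((hmem u hpm).2 hu')
  have hvpm := hB.pm v hv
  rw [hmem _ hvpm.neg, conj_neg'] at hv'
  have hvr := pm_one_real hvpm
  have n1 : v ≠ -conjFun v := by
    intro h
    have h3 := congrFun h 1
    rw [Pi.neg_apply, hvr] at h3
    exact hvpm.one_ne (by linear_combination (1 / 2 : ℂ) * h3)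
  have n2 : u ≠ v := by
    rintro rfl
    exact hB.neg_not_mem hu' hv'
  have n3 : u ≠ -conjFun v := by
    intro h
    have h3 : conjFun u = -v := by rw [h, conj_neg', conj_conj']
    rw [h3] at hu'
    exact hB.neg_not_mem hv hu'
  by_cases hreal : conjFun u = u
  · -- B = {u, v, -v̄}
    have hBe : B = {u, v, -conjFun v} := by
      symm
      apply Finset.eq_of_subset_of_card_le
      · intro x hx
        simp only [Finset.mem_insert, Finset.mem_singleton] at hx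
        rcases hx with rfl | rfl | rfl <;> assumption
      · rw [hB.card, Finset.card_insert_of_notMem (by simp [n2, n3]), Finset.card_insert_of_notMem (by simp [n1]), Finset.card_singleton]
    have hval : u 1 = -1 := by
      have h3 := be_one (G := G) φ ψ
      rw [hB.sum, hBe, Finset.sum_insert (by simp [n2, n3]), Finset.sum_insert (by simp [n1]), Finset.sum_singleton] at h3
      simp only [Pi.add_apply, Pi.neg_apply] at h3
      rw [hvr] at h3
      linear_combination h3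
    -- -u is a linear character
    have hirr : IsIrrCharacter G (-u) := by
      rcases hpm with h | h
      · obtain ⟨m, hm, em⟩ := IsIrr.one_eq_nat h
        rw [hval] at em
        have : (-1 : ℤ) = m := by exact_mod_cast em
        omega
      · exact h
    obtain ⟨f, hf⟩ := IsChar.hom_units_of_one (IsIrr.isCharacter hirr) (by rw [Pi.neg_apply, hval, neg_neg])
    haveI := Fintype.ofFinite ↥(W₁ ⊔ W₂)
    have hfW : ∀ w : ↥(W₁ ⊔ W₂), (-u) (w : G) = 1 := by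
      intro w
      rw [hf]
      have hsq : (f (w : G)) ^ 2 = 1 := by
        have h3 : conj ((f (w : G) : ℂˣ) : ℂ) = ((f (w : G) : ℂˣ) : ℂ) := by
          rw [← hf, Pi.neg_apply, map_neg]
          have := congrFun hreal (w : G)
          rw [conjFun] at this
          rw [this]
        have h4 : conj ((f (w : G) : ℂˣ) : ℂ) = ((f ((w : G)⁻¹) : ℂˣ) : ℂ) := by
          rw [← hf, ← hf]
          exact (IsChar.inv_eq_conj (IsIrr.isCharacter hirr) (w : G)).symm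
        rw [h3] at h4
        have h5 : f (w : G) = f ((w : G)⁻¹) := Units.ext h4
        rw [map_inv] at h5
        rw [pow_two]; nth_rewrite 1 [h5]; exact inv_mul_cancel _
      have hod : (f (w : G)) ^ (orderOf w) = 1 := by
        rw [← map_pow, ← Subgroup.coe_pow, pow_orderOf_eq_one]; simp
      have h5 : Odd (orderOf w) := hodd.of_dvd_nat (orderOf_dvd_natCard w)
      have h6 : orderOf (f (w : G)) ∣ 1 := by
        have : Nat.gcd 2 (orderOf w) = 1 := Nat.coprime_two_left.2 h5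
        rw [← this]
        exact Nat.dvd_gcd (orderOf_dvd_of_pow_eq_one hsq) (orderOf_dvd_of_pow_eq_one hod)
      rw [Nat.dvd_one, orderOf_eq_one_iff] at h6
      rw [h6]; rfl
    have hne1 : (-u : G → ℂ) ≠ fun _ => 1 := by
      intro h
      have h3 := be_inner_one (G := G) hW hφ hψ h1 h2
      rw [← h, ci_neg_right', hB.inner_mem hu] at h3
      norm_num at h3
    have h3 : classInner (be (G := G) φ ψ) (-u) = 1 := by
      rw [be, ci_sub_left, ci_irr_ne isIrr_one hirr (Ne.symm hne1), sub_zero, frobenius _ _ _ (IsIrr.isClass hirr)]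
      have e : (fun h : ↥(W₁ ⊔ W₂) => (-u) (h : G)) = fun _ => 1 := funext hfW
      rw [e]
      have h5 := ind_al_one (G := G) hW hφ hψ h1 h2
      rw [frobenius _ _ _ (fun _ _ => rfl)] at h5
      exact h5
    rw [ci_neg_right', hB.inner_mem hu] at h3
    norm_num at h3
  · -- four elements
    have n4 : conjFun u ≠ v := by
      intro h
      have : -conjFun v = -u := by rw [← h, conj_conj']
      rw [this] at hv'
      exact hB.neg_not_mem hu hv'
    have n5 : conjFun u ≠ -conjFun v := by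
      intro h
      have : u = -v := by
        have h3 := congrArg conjFun h
        rwa [conj_conj', conj_neg', conj_conj'] at h3
      rw [this] at hu
      exact hB.neg_not_mem hv hu
    have h4 : ({u, conjFun u, v, -conjFun v} : Finset (G → ℂ)) ⊆ B := by
      intro x hx
      simp only [Finset.mem_insert, Finset.mem_singleton] at hx
      rcases hx with rfl | rfl | rfl | rfl <;> assumption
    have h5 := Finset.card_le_card h4
    rw [hB.card, Finset.card_insert_of_notMem (by simp [Ne.symm hreal, n2, n3]), Finset.card_insert_of_notMem (by simp [n4, n5]),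
      Finset.card_insert_of_notMem (by simp [n1]), Finset.card_singleton] at h5
    omega

include hW in
theorem card_J : Nat.card {ψ : ↥(W₁ ⊔ W₂) →* ℂˣ // X2 W₁ W₂ ψ ∧ ψ ≠ 1} = Nat.card W₂ - 1 := by
  classical
  rw [← card_X2 hW]
  haveI := Fintype.ofFinite {ψ : ↥(W₁ ⊔ W₂) →* ℂˣ // X2 W₁ W₂ ψ}
  let one : {ψ : ↥(W₁ ⊔ W₂) →* ℂˣ // X2 W₁ W₂ ψ} := ⟨1, fun w _ => rfl⟩
  have h1 : Nat.card {y : {ψ : ↥(W₁ ⊔ W₂) →* ℂˣ // X2 W₁ W₂ ψ} // y ≠ one} = Nat.card {ψ : ↥(W₁ ⊔ W₂) →* ℂˣ // X2 W₁ W₂ ψ} - 1 := by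
    rw [Nat.card_eq_fintype_card, Nat.card_eq_fintype_card, Fintype.card_subtype_compl]
    simp
  rw [← h1]
  exact Nat.card_congr ⟨fun ψ => ⟨⟨ψ.1, ψ.2.1⟩, fun h => ψ.2.2 (congrArg Subtype.val h)⟩, fun y => ⟨y.1.1, y.1.2, fun h => y.2 (Subtype.ext h)⟩,
    fun _ => rfl, fun _ => rfl⟩

include hW in
theorem card_I : Nat.card {ψ : ↥(W₁ ⊔ W₂) →* ℂˣ // X1 W₁ W₂ ψ ∧ ψ ≠ 1} = Nat.card W₁ - 1 := by
  classical
  rw [← card_X1 hW]
  haveI := Fintype.ofFinite {ψ : ↥(W₁ ⊔ W₂) →* ℂˣ // X1 W₁ W₂ ψ}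
  let one : {ψ : ↥(W₁ ⊔ W₂) →* ℂˣ // X1 W₁ W₂ ψ} := ⟨1, fun w _ => rfl⟩
  have h1 : Nat.card {y : {ψ : ↥(W₁ ⊔ W₂) →* ℂˣ // X1 W₁ W₂ ψ} // y ≠ one} = Nat.card {ψ : ↥(W₁ ⊔ W₂) →* ℂˣ // X1 W₁ W₂ ψ} - 1 := by
    rw [Nat.card_eq_fintype_card, Nat.card_eq_fintype_card, Fintype.card_subtype_compl]
    simp
  rw [← h1]
  exact Nat.card_congr ⟨fun ψ => ⟨⟨ψ.1, ψ.2.1⟩, fun h => ψ.2.2 (congrArg Subtype.val h)⟩, fun y => ⟨y.1.1, y.1.2, fun h => y.2 (Subtype.ext h)⟩,
    fun _ => rfl, fun _ => rfl⟩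

include hW hodd in
open Classical in
/-- the common constituent of a row -/
theorem rows {φ : ↥(W₁ ⊔ W₂) →* ℂˣ} (hφ : X1 W₁ W₂ φ) (h1 : φ ≠ 1) :
    ∃ x : G → ℂ, Pm x ∧ ∀ ψ : ↥(W₁ ⊔ W₂) →* ℂˣ, X2 W₁ W₂ ψ → ψ ≠ 1 → classInner (be (G := G) φ ψ) x = 1 := by
  let I := {ψ : ↥(W₁ ⊔ W₂) →* ℂˣ // X1 W₁ W₂ ψ ∧ ψ ≠ 1}
  let J := {ψ : ↥(W₁ ⊔ W₂) →* ℂˣ // X2 W₁ W₂ ψ ∧ ψ ≠ 1}
  haveI : Fintype J := Fintype.ofFinite J
  have hcJ : Fintype.card J = Nat.card W₂ - 1 := by rw [← Nat.card_eq_fintype_card]; exact card_J hW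
  have ho : Odd (Nat.card W₂) := hodd.of_dvd_nat (Subgroup.card_dvd_of_le le_sup_right)
  have h1' : 1 < Nat.card W₂ := by rw [Subgroup.one_lt_card_iff_ne_bot]; exact hW.2.1
  choose B hB using fun (i : I) (j : J) => exists_B (G := G) hW i.2.1 j.2.1 i.2.2 j.2.2
  obtain ⟨φ₁, φ₂, a1, a2, b1, b2, hne⟩ := exists_two1 hW hodd
  obtain ⟨φ', hφ', h1'', hne'⟩ : ∃ φ' : ↥(W₁ ⊔ W₂) →* ℂˣ, X1 W₁ W₂ φ' ∧ φ' ≠ 1 ∧ φ ≠ φ' := by
    by_cases h : φ = φ₁
    · exact ⟨φ₂, a2, b2, h ▸ hne⟩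
    · exact ⟨φ₁, a1, b1, h⟩
  let i : I := ⟨φ, hφ, h1⟩
  let i' : I := ⟨φ', hφ', h1''⟩
  have hinner : ∀ (a b : I) (j k : J), classInner (be (G := G) a.1 j.1) (be b.1 k.1) = (if a = b then 1 else 0) + (if j = k then 1 else 0)
      + (if a = b then 1 else 0) * (if j = k then 1 else 0) := by
    intro a b j k
    rw [be_inner hW a.2.1 j.2.1 b.2.1 k.2.1 a.2.2 j.2.2 b.2.2 k.2.2]
    have ea : (a.1 = b.1) = (a = b) := propext Subtype.ext_iff.symm
    have ej : (j.1 = k.1) = (j = k) := propext Subtype.ext_iff.symm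
    simp only [ea, ej]
  obtain ⟨u, hu⟩ := row_common (I := I) (J := J) (β := fun a j => be (G := G) a.1 j.1) (B := B) hB (fun a j => be_one _ _)
    (fun a j k hne => by rw [hinner, if_pos rfl, if_neg hne]; norm_num)
    (fun a b j hne => by rw [hinner, if_neg hne, if_pos rfl]; norm_num)
    (fun a b j k hab hjk => by rw [hinner, if_neg hab, if_neg hjk]; norm_num)
    (by rw [hcJ]; obtain ⟨r, hr⟩ := ho; exact ⟨r, by omega⟩)
    (by rw [hcJ]; obtain ⟨r, hr⟩ := ho; omega) i i' (fun h => hne' (congrArg Subtype.val h)) (by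
      intro h4 j k
      have h5 : Nat.card W₂ = 5 := by omega
      haveI : Fact (Nat.Prime 5) := ⟨by norm_num⟩
      obtain ⟨t, ht1, ht2, ht3⟩ := exists_gal2 hW h5 j.2.1 k.2.1 j.2.2 k.2.2
      have hne1 : ∀ l : J, l.1 ^ t ≠ 1 := by
        intro l h
        apply l.2.2
        apply pow_ne ht1
        rw [h, one_pow_hom]
      let s : J → J := fun l => ⟨l.1 ^ t, X2_pow l.2.1, hne1 l⟩
      have hs : Function.Bijective s := by
        rw [← Finite.injective_iff_bijective]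
        intro a b hab
        exact Subtype.ext (pow_ne ht1 (congrArg Subtype.val hab))
      refine ⟨Equiv.ofBijective s hs, fun f g => f (g ^ t), ?_, ?_, ?_⟩
      · exact Subtype.ext ht3
      · intro u hu
        rcases hu with hu | hu
        · exact Or.inl (isIrr_pow ht1 hu)
        · exact Or.inr (isIrr_pow ht1 hu)
      · intro u l
        show classInner (be φ (l.1 ^ t)) (fun g => u (g ^ t)) = classInner (be φ l.1) u
        have e := be_pow (G := G) ht1 φ l.1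
        rw [pow_eq1 hW hφ ht2] at e
        rw [← e]
        exact ci_pow ht1 (be φ l.1) u)
  obtain ⟨ψ₁, ψ₂, c1, c2, d1, d2, -⟩ := exists_two2 hW hodd
  refine ⟨u, (hB i ⟨ψ₁, c1, d1⟩).pm u (hu _), ?_⟩
  intro ψ hψ h2
  exact (hB i ⟨ψ, hψ, h2⟩).inner_mem (hu ⟨ψ, hψ, h2⟩)

include hW hodd in
open Classical in
/-- the common constituent of a column -/
theorem cols {ψ : ↥(W₁ ⊔ W₂) →* ℂˣ} (hψ : X2 W₁ W₂ ψ) (h1 : ψ ≠ 1) :
    ∃ x : G → ℂ, Pm x ∧ ∀ φ : ↥(W₁ ⊔ W₂) →* ℂˣ, X1 W₁ W₂ φ → φ ≠ 1 → classInner (be (G := G) φ ψ) x = 1 := by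
  let I := {ψ : ↥(W₁ ⊔ W₂) →* ℂˣ // X2 W₁ W₂ ψ ∧ ψ ≠ 1}
  let J := {ψ : ↥(W₁ ⊔ W₂) →* ℂˣ // X1 W₁ W₂ ψ ∧ ψ ≠ 1}
  haveI : Fintype J := Fintype.ofFinite J
  have hcJ : Fintype.card J = Nat.card W₁ - 1 := by rw [← Nat.card_eq_fintype_card]; exact card_I hW
  have ho : Odd (Nat.card W₁) := hodd.of_dvd_nat (Subgroup.card_dvd_of_le le_sup_left)
  have h1' : 1 < Nat.card W₁ := by rw [Subgroup.one_lt_card_iff_ne_bot]; exact hW.1
  choose B hB using fun (i : I) (j : J) => exists_B (G := G) hW j.2.1 i.2.1 j.2.2 i.2.2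
  obtain ⟨φ₁, φ₂, a1, a2, b1, b2, hne⟩ := exists_two2 hW hodd
  obtain ⟨φ', hφ', h1'', hne'⟩ : ∃ φ' : ↥(W₁ ⊔ W₂) →* ℂˣ, X2 W₁ W₂ φ' ∧ φ' ≠ 1 ∧ ψ ≠ φ' := by
    by_cases h : ψ = φ₁
    · exact ⟨φ₂, a2, b2, h ▸ hne⟩
    · exact ⟨φ₁, a1, b1, h⟩
  let i : I := ⟨ψ, hψ, h1⟩
  let i' : I := ⟨φ', hφ', h1''⟩
  have hinner : ∀ (a b : I) (j k : J), classInner (be (G := G) j.1 a.1) (be k.1 b.1) = (if j = k then 1 else 0) + (if a = b then 1 else 0)
      + (if j = k then 1 else 0) * (if a = b then 1 else 0) := by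
    intro a b j k
    rw [be_inner hW j.2.1 a.2.1 k.2.1 b.2.1 j.2.2 a.2.2 k.2.2 b.2.2]
    have ea : (a.1 = b.1) = (a = b) := propext Subtype.ext_iff.symm
    have ej : (j.1 = k.1) = (j = k) := propext Subtype.ext_iff.symm
    simp only [ea, ej]
  obtain ⟨u, hu⟩ := row_common (I := I) (J := J) (β := fun a j => be (G := G) j.1 a.1) (B := B) hB (fun a j => be_one _ _)
    (fun a j k hne => by rw [hinner, if_pos rfl, if_neg hne]; norm_num)
    (fun a b j hne => by rw [hinner, if_neg hne, if_pos rfl]; norm_num)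
    (fun a b j k hab hjk => by rw [hinner, if_neg hab, if_neg hjk]; norm_num)
    (by rw [hcJ]; obtain ⟨r, hr⟩ := ho; exact ⟨r, by omega⟩)
    (by rw [hcJ]; obtain ⟨r, hr⟩ := ho; omega) i i' (fun h => hne' (congrArg Subtype.val h)) (by
      intro h4 j k
      have h5 : Nat.card W₁ = 5 := by omega
      haveI : Fact (Nat.Prime 5) := ⟨by norm_num⟩
      obtain ⟨t, ht1, ht2, ht3⟩ := exists_gal1 hW h5 j.2.1 k.2.1 j.2.2 k.2.2
      have hne1 : ∀ l : J, l.1 ^ t ≠ 1 := by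
        intro l h
        apply l.2.2
        apply pow_ne ht1
        rw [h, one_pow_hom]
      let s : J → J := fun l => ⟨l.1 ^ t, X1_pow l.2.1, hne1 l⟩
      have hs : Function.Bijective s := by
        rw [← Finite.injective_iff_bijective]
        intro a b hab
        exact Subtype.ext (pow_ne ht1 (congrArg Subtype.val hab))
      refine ⟨Equiv.ofBijective s hs, fun f g => f (g ^ t), ?_, ?_, ?_⟩
      · exact Subtype.ext ht3
      · intro u hu
        rcases hu with hu | hu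
        · exact Or.inl (isIrr_pow ht1 hu)
        · exact Or.inr (isIrr_pow ht1 hu)
      · intro u l
        show classInner (be (l.1 ^ t) ψ) (fun g => u (g ^ t)) = classInner (be l.1 ψ) u
        have e := be_pow (G := G) ht1 l.1 ψ
        rw [pow_eq2 hW hψ ht2] at e
        rw [← e]
        exact ci_pow ht1 (be l.1 ψ) u)
  obtain ⟨ψ₁, ψ₂, c1, c2, d1, d2, -⟩ := exists_two1 hW hodd
  refine ⟨u, (hB i ⟨ψ₁, c1, d1⟩).pm u (hu _), ?_⟩
  intro φ hφ h2
  exact (hB i ⟨φ, hφ, h2⟩).inner_mem (hu ⟨φ, hφ, h2⟩)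

end Main

end Cfsg.Agent.H10.CycEx3
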