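import Mathlib
import Cfsg.Prelude.Def_OddOrderChar
import Cfsg.Agent.H10_IndSet6

/-!
H10_IndSet7: the characters induced from a normal subgroup and nontrivial on a central subgroup.
-/

set_option autoImplicit false
set_option linter.style.haveILetI false
set_option linter.unusedSectionVars false

namespace Cfsg.Agent.H10.IndSet7

open Cfsg Cfsg.Agent.H3.CharBasic Cfsg.Agent.H3.CharIrr Cfsg.Agent.H3.CharComplete
  Cfsg.Agent.H3.CharMult Cfsg.Agent.H3.CharInd Cfsg.Agent.H3.CharInt Cfsg.Agent.H3.Clifford Cfsg.Agent.H3.CharQuot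
  Cfsg.Agent.H10.OOClif Cfsg.Agent.H10.IndSet Cfsg.Agent.H10.IndSet2 Cfsg.Agent.H10.IndSet3
  Cfsg.Agent.H10.IndSet4 Cfsg.Agent.H10.IndSet5 Cfsg.Agent.H10.IndSet6 Cfsg.Agent.H10.Coh
  Cfsg.Agent.H10.Coh2 Cfsg.Agent.H10.Coh3 Cfsg.Agent.H10.Coh4
open scoped ComplexConjugate

section

variable {L : Type*} [Group L] [Fintype L] {K : Subgroup L} (hK : K.Normal)

include hK in
theorem ind_mem_iff (Z : Subgroup L) (hZ : Z.Normal) (hZK : Z ≤ K) {θ : K → ℂ} (hθ : IsIrrCharacter K θ) :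
    indFun K θ ∈ inducedIrrAbove K ⊥ \ inducedIrrAbove K Z ↔ ¬ ∀ a : K, (a : L) ∈ Z → θ a = θ 1 := by
  haveI := Fintype.ofFinite K
  constructor
  · rintro ⟨⟨θ', hθ', h1, -, e⟩, hn⟩ h
    apply hn
    refine ⟨θ, hθ, ?_, h, rfl⟩
    intro h2
    have h3 := (ind_eq_iff hK hθ' hθ).1 e
    rw [mem_orb] at h3
    obtain ⟨g, hg⟩ := h3
    apply h1
    funext x
    have h4 := congrFun hg (⟨g⁻¹ * x * g, by
        have := hK.conj_mem x x.2 g⁻¹
        rwa [inv_inv] at this⟩ : K)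
    rw [h2, cj_apply] at h4
    refine Eq.trans ?_ h4
    congr 1
    apply Subtype.ext
    show (x : L) = g * (g⁻¹ * x * g) * g⁻¹
    group
  · intro h
    refine ⟨⟨θ, hθ, ?_, ?_, rfl⟩, ?_⟩
    · rintro rfl; exact h (fun _ _ => rfl)
    · intro a ha
      rw [Subgroup.mem_bot] at ha
      have : a = 1 := Subtype.ext ha
      rw [this]
    · rintro ⟨φ, hφ, -, hφZ, e⟩
      apply h
      have h1 := (ker_ind hK hZ hZK (IsIrr.isCharacter hφ) (IsIrr.one_ne_zero hφ)).1 hφZ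
      rw [← e] at h1
      exact (ker_ind hK hZ hZK (IsIrr.isCharacter hθ) (IsIrr.one_ne_zero hθ)).2 h1

include hK in
theorem xset_eq (Z : Subgroup L) (hZ : Z.Normal) (hZK : Z ≤ K)
    (hirr : ∀ χ ∈ inducedIrrAbove K ⊥ \ inducedIrrAbove K Z, IsIrrCharacter L χ) :
    inducedIrrAbove K ⊥ \ inducedIrrAbove K Z = {χ | IsIrrCharacter L χ ∧ ∃ z ∈ Z, χ z ≠ χ 1} := by
  haveI := Fintype.ofFinite K
  ext χ
  constructor
  · intro h
    refine ⟨hirr χ h, ?_⟩
    obtain ⟨⟨θ, hθ, hθ1, -, rfl⟩, hn⟩ := h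
    by_contra hno
    push Not at hno
    apply hn
    exact ⟨θ, hθ, hθ1, (ker_ind hK hZ hZK (IsIrr.isCharacter hθ) (IsIrr.one_ne_zero hθ)).2 hno, rfl⟩
  · rintro ⟨hχ, z, hz, hne⟩
    obtain ⟨θ, hθ, hc⟩ := exists_constituent_res (H := K) hχ
    have hc' : classInner (indFun K θ) χ ≠ 0 := (constituent_ind_iff (IsIrr.isCharacter hχ)).2 hc
    have hθZ : ¬ ∀ a : K, (a : L) ∈ Z → θ a = θ 1 := by
      intro h
      have h1 := (ker_ind hK hZ hZK (IsIrr.isCharacter hθ) (IsIrr.one_ne_zero hθ)).1 h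
      exact hne (ker_const (IsChar.ind (IsIrr.isCharacter hθ)) hχ hc' (h1 z hz))
    have hmem := (ind_mem_iff hK Z hZ hZK hθ).2 hθZ
    have h2 : indFun K θ = χ := by
      by_contra hne2
      exact hc' (ci_irr_ne (hirr _ hmem) hχ hne2)
    rw [← h2]; exact hmem

theorem conj_mem_x {Z : Subgroup L} {φ : L → ℂ} (hφ : φ ∈ inducedIrrAbove K ⊥ \ inducedIrrAbove K Z) :
    conjFun φ ∈ inducedIrrAbove K ⊥ \ inducedIrrAbove K Z := by
  refine ⟨conj_mem_above hφ.1, fun h => hφ.2 ?_⟩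
  have := conj_mem_above h
  rwa [conj_conj] at this

open Classical in
/-- the finite set of induced characters nontrivial on `Z` -/
noncomputable def XF (K Z : Subgroup L) : Finset (L → ℂ) := SF K ⊥ \ SF K Z

theorem coe_XF (Z : Subgroup L) : (↑(XF K Z) : Set (L → ℂ)) = inducedIrrAbove K ⊥ \ inducedIrrAbove K Z := by
  classical
  unfold XF
  rw [Finset.coe_sdiff, coe_SF, coe_SF]

theorem mem_XF {Z : Subgroup L} {φ : L → ℂ} : φ ∈ XF K Z ↔ φ ∈ inducedIrrAbove K ⊥ \ inducedIrrAbove K Z := by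
  rw [← coe_XF, Finset.mem_coe]

include hK in
theorem sum_XF (Z : Subgroup L) [hZ : Z.Normal] :
    ∑ φ ∈ XF K Z, (φ 1).re ^ 2 / (classInner φ φ).re =
      (K.index : ℝ) * (((⊥ : Subgroup L).relIndex K : ℝ) - (Z.relIndex K : ℝ)) := by
  classical
  have hsub : SF K Z ⊆ SF K ⊥ := fun x hx => mem_SF.2 (SF_mono bot_le (mem_SF.1 hx))
  have h1 := Finset.sum_sdiff (f := fun φ : L → ℂ => (φ 1).re ^ 2 / (classInner φ φ).re) hsub
  rw [sum_SF hK Z, sum_SF hK ⊥] at h1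
  unfold XF
  have h2 : ∑ x ∈ SF K ⊥ \ SF K Z, (x 1).re ^ 2 / (classInner x x).re = (K.index : ℝ) * (((⊥ : Subgroup L).relIndex K : ℝ) - 1) -
    (K.index : ℝ) * ((Z.relIndex K : ℝ) - 1) := by linarith
  rw [h2]; ring

end

section Coh

variable {L : Type*} [Group L] [Fintype L] {K : Subgroup L}
variable {G : Type*} [Group G] [Fintype G] {τ : (L → ℂ) → (G → ℂ)} {R : (L → ℂ) → Finset (G → ℂ)}

theorem x_coh_pgroup (hK : K.Normal) {p n : ℕ} (hp : p.Prime) (hp2 : 3 ≤ p) (hcard : Nat.card K = p ^ n)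
    (he : Nat.Coprime K.index p)
    (hS : IsCoherenceSystem (inducedIrrAbove K ⊥) τ R) (Z : Subgroup L) [hZ : Z.Normal] (hZ1 : Z ≠ ⊥) (hZK : Z ≤ K)
    (hZc : ∀ z ∈ Z, ∀ k ∈ K, z * k = k * z)
    (hirr : ∀ χ ∈ inducedIrrAbove K ⊥ \ inducedIrrAbove K Z, IsIrrCharacter L χ) :
    IsCoherent (inducedIrrAbove K ⊥ \ inducedIrrAbove K Z) {1}ᶜ τ := by
  classical
  haveI := Fintype.ofFinite K
  have he0 : 0 < K.index := Nat.pos_of_ne_zero Subgroup.index_ne_zero_of_finite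
  set e := K.index with hedef
  have hp0 : 0 < p := hp.pos
  have hbotrel : (⊥ : Subgroup L).relIndex K = Nat.card K := by
    rw [Subgroup.relIndex_bot_left]
  have hZrel : Nat.card Z * Z.relIndex K = Nat.card K := by
    have := Subgroup.relIndex_mul_relIndex (⊥ : Subgroup L) Z K bot_le hZK
    rw [Subgroup.relIndex_bot_left, Subgroup.relIndex_bot_left] at this
    exact this
  have hZcard : 1 < Nat.card Z := by
    rw [Subgroup.one_lt_card_iff_ne_bot]; exact hZ1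
  have hZrel0 : 0 < Z.relIndex K := Nat.pos_of_ne_zero (Subgroup.index_ne_zero_of_finite (H := Z.subgroupOf K))
  have hZpow : ∃ r, Z.relIndex K = p ^ r := by
    have : Z.relIndex K ∣ p ^ n := by rw [← hcard, ← hZrel]; exact dvd_mul_left _ _
    obtain ⟨r, -, h⟩ := (Nat.dvd_prime_pow hp).1 this
    exact ⟨r, h⟩
  obtain ⟨r, hr⟩ := hZpow
  -- degrees
  have hdeg : ∀ ξ ∈ XF K Z, ∃ j : ℕ, ξ 1 = ((e * p ^ j : ℕ) : ℂ) ∧ p ^ (2 * j) ∣ Z.relIndex K := by
    intro ξ hξ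
    obtain ⟨⟨θ, hθ, hθ1, -, rfl⟩, hn⟩ := mem_XF.1 hξ
    obtain ⟨m, hm, em, hdv⟩ := IsIrr.dvd_card hθ
    rw [hcard] at hdv
    obtain ⟨j, hj, ej⟩ := (Nat.dvd_prime_pow hp).1 hdv
    refine ⟨j, ?_, ?_⟩
    · rw [ind_one, em, ej]; push_cast; rfl
    · have h2 := deg_bound (K := K) (C := ⊤) (D := Z.subgroupOf K) le_top hθ (by
        intro x hx y _
        have h3 : (x : L) * y = y * x := hZc x (Subgroup.mem_subgroupOf.1 hx) y y.2
        have h4 : x * y * x⁻¹ * y⁻¹ = 1 := by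
          apply Subtype.ext
          show (x : L) * y * (x : L)⁻¹ * (y : L)⁻¹ = 1
          rw [h3]; group
        rw [h4])
      rw [Subgroup.index_top, Subgroup.relIndex_top_right, em, Complex.natCast_re] at h2
      have h5 : m ^ 2 ≤ Z.relIndex K := by
        rw [Nat.cast_one, one_pow, one_mul] at h2
        have : ((m ^ 2 : ℕ) : ℝ) ≤ ((Z.relIndex K : ℕ) : ℝ) := by push_cast; exact h2
        exact_mod_cast this
      rw [hr] at h5 ⊢
      rw [ej, ← pow_mul, mul_comm j 2] at h5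
      exact pow_dvd_pow p ((Nat.pow_le_pow_iff_right hp.one_lt).1 h5)
  choose! J hJ hJ2 using hdeg
  have hXS : (↑(XF K Z) : Set (L → ℂ)) ⊆ inducedIrrAbove K ⊥ := by
    rw [coe_XF]; exact Set.diff_subset
  have hconjX : ∀ ξ ∈ XF K Z, conjFun ξ ∈ XF K Z := fun ξ h => mem_XF.2 (conj_mem_x (mem_XF.1 h))
  have hJconj : ∀ ξ ∈ XF K Z, J (conjFun ξ) = J ξ := by
    intro ξ hξ
    have h1 := hJ _ (hconjX ξ hξ)
    have h2 : conjFun ξ 1 = ξ 1 := by
      rw [conjFun, hJ ξ hξ, Complex.conj_natCast]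
    rw [h2, hJ ξ hξ] at h1
    have h3 : e * p ^ (J ξ) = e * p ^ (J (conjFun ξ)) := by exact_mod_cast h1
    exact (Nat.pow_right_injective hp.two_le (Nat.eq_of_mul_eq_mul_left he0 h3)).symm
  have hXirr : ∀ ξ ∈ XF K Z, IsIrrCharacter L ξ := fun ξ h => hirr ξ (mem_XF.1 h)
  -- the sum
  have hterm : ∀ ξ ∈ XF K Z, (ξ 1).re ^ 2 / (classInner ξ ξ).re = (((e * p ^ J ξ) ^ 2 : ℕ) : ℝ) := by
    intro ξ hξ
    rw [ci_irr_self (hXirr ξ hξ), hJ ξ hξ, Complex.natCast_re, Complex.one_re, div_one]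
    push_cast; ring
  have hsum : ∑ ξ ∈ XF K Z, (e * p ^ J ξ) ^ 2 = e * (Z.relIndex K * (Nat.card Z - 1)) := by
    have h1 := sum_XF hK Z
    rw [Finset.sum_congr rfl hterm, hbotrel, ← hZrel] at h1
    have h2 : ((∑ ξ ∈ XF K Z, (e * p ^ J ξ) ^ 2 : ℕ) : ℝ) = ((e * (Z.relIndex K * (Nat.card Z - 1)) : ℕ) : ℝ) := by
      rw [Nat.cast_sum, h1]
      push_cast [Nat.cast_sub hZcard.le]
      ring
    exact_mod_cast h2
  have hXne : (XF K Z).Nonempty := by
    rw [Finset.nonempty_iff_ne_empty]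
    intro h0
    rw [h0, Finset.sum_empty] at hsum
    have : 0 < e * (Z.relIndex K * (Nat.card Z - 1)) := Nat.mul_pos he0 (Nat.mul_pos hZrel0 (by omega))
    omega
  obtain ⟨χ₁, hχ₁, hmin⟩ := Finset.exists_min_image (XF K Z) J hXne
  -- the layers
  let T : ℕ → Finset (L → ℂ) := fun m => (XF K Z).filter (fun ξ => J ξ ≤ m)
  have hTX : ∀ m, T m ⊆ XF K Z := fun m => Finset.filter_subset _ _
  have hTconj : ∀ m, ∀ φ ∈ T m, conjFun φ ∈ T m := by
    intro m φ hφ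
    rw [Finset.mem_filter] at hφ ⊢
    exact ⟨hconjX φ hφ.1, by rw [hJconj φ hφ.1]; exact hφ.2⟩
  have hTS : ∀ m, (↑(T m) : Set (L → ℂ)) ⊆ inducedIrrAbove K ⊥ := fun m x hx => hXS (hTX m hx)
  have hχT : ∀ m, J χ₁ ≤ m → χ₁ ∈ T m := fun m hm => Finset.mem_filter.2 ⟨hχ₁, hm⟩
  have main : ∀ m, J χ₁ ≤ m → IsCoherent (↑(T m) : Set (L → ℂ)) {1}ᶜ τ := by
    intro m hm
    induction m, hm using Nat.le_induction with
    | base =>
      apply Cfsg.Agent.H10.Coh6.equal_deg (restrict_system hS (hTS _) ⟨χ₁, hχT _ le_rfl⟩ (hTconj _))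
      have key : ∀ φ ∈ (↑(T (J χ₁)) : Set (L → ℂ)), φ 1 = ((e * p ^ J χ₁ : ℕ) : ℂ) := by
        intro φ hφ
        obtain ⟨h1, h2⟩ := Finset.mem_filter.1 hφ
        rw [hJ φ h1, le_antisymm h2 (hmin φ h1)]
      intro φ hφ ψ hψ
      rw [key φ hφ, key ψ hψ]
    | succ m hm ih =>
      by_cases hex : ∃ ψ ∈ XF K Z, J ψ = m + 1
      · obtain ⟨ψ₀, hψ₀, eψ₀⟩ := hex
        -- divisibility of the partial sum
        have hsplit : ∑ ξ ∈ T m, (e * p ^ J ξ) ^ 2 + ∑ ξ ∈ (XF K Z).filter (fun ξ => ¬ J ξ ≤ m), (e * p ^ J ξ) ^ 2 =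
          e * (Z.relIndex K * (Nat.card Z - 1)) := by
          rw [← hsum]
          exact Finset.sum_filter_add_sum_filter_not _ _ _
        have hd1 : p ^ (2 * (m + 1)) ∣ ∑ ξ ∈ T m, (e * p ^ J ξ) ^ 2 := by
          have h1 : p ^ (2 * (m + 1)) ∣ e * (Z.relIndex K * (Nat.card Z - 1)) := by
            have := hJ2 ψ₀ hψ₀
            rw [eψ₀] at this
            exact (this.mul_right _).mul_left _
          have h2 : p ^ (2 * (m + 1)) ∣ ∑ ξ ∈ (XF K Z).filter (fun ξ => ¬ J ξ ≤ m), (e * p ^ J ξ) ^ 2 := by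
            apply Finset.dvd_sum
            intro ξ hξ
            have h3 := (Finset.mem_filter.1 hξ).2
            rw [mul_pow, ← pow_mul]
            apply Dvd.dvd.mul_left
            apply pow_dvd_pow
            omega
          rw [← hsplit] at h1
          exact (Nat.dvd_add_left h2).1 h1
        have hd2 : e ^ 2 ∣ ∑ ξ ∈ T m, (e * p ^ J ξ) ^ 2 := by
          apply Finset.dvd_sum
          intro ξ _
          rw [mul_pow]; exact dvd_mul_right _ _
        have hd3 : e ^ 2 * p ^ (2 * (m + 1)) ∣ ∑ ξ ∈ T m, (e * p ^ J ξ) ^ 2 :=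
          Nat.Coprime.mul_dvd_of_dvd_of_dvd (Nat.Coprime.pow _ _ he) hd2 hd1
        have hpos : 0 < ∑ ξ ∈ T m, (e * p ^ J ξ) ^ 2 := by
          apply Finset.sum_pos
          · intro ξ _
            positivity
          · exact ⟨χ₁, hχT m hm⟩
        have hle := Nat.le_of_dvd hpos hd3
        have hlt : 2 * (e * p ^ (m + 1)) * (e * p ^ J χ₁) < ∑ ξ ∈ T m, (e * p ^ J ξ) ^ 2 := by
          refine lt_of_lt_of_le ?_ hle
          have h1 : p ^ J χ₁ * 2 < p ^ (m + 1) := by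
            calc p ^ J χ₁ * 2 < p ^ J χ₁ * p := Nat.mul_lt_mul_of_pos_left (by omega) (pow_pos hp0 _)
              _ = p ^ (J χ₁ + 1) := (pow_succ _ _).symm
              _ ≤ p ^ (m + 1) := Nat.pow_le_pow_right hp0 (by omega)
          calc 2 * (e * p ^ (m + 1)) * (e * p ^ J χ₁) = (e ^ 2 * p ^ (m + 1)) * (p ^ J χ₁ * 2) := by ring
            _ < (e ^ 2 * p ^ (m + 1)) * p ^ (m + 1) := Nat.mul_lt_mul_of_pos_left h1 (by positivity)
            _ = _ := by rw [two_mul, pow_add]; ring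
        have hsum' : ∑ φ ∈ T m, (φ 1).re ^ 2 / (classInner φ φ).re = ((∑ ξ ∈ T m, (e * p ^ J ξ) ^ 2 : ℕ) : ℝ) := by
          rw [Nat.cast_sum]
          exact Finset.sum_congr rfl (fun ξ hξ => hterm ξ (hTX m hξ))
        obtain ⟨S₁, hS₁, hsub, hB, hc, hcoh⟩ := propagate hS (above_finite ⊥) (T m) (hTS m) (hTconj m) ih (↑(T (m + 1))) (hTS _)
          χ₁ (hχT m hm) (by
            intro ψ hψ
            have hψX : ψ ∈ XF K Z := hTX _ hψ
            refine ⟨p ^ (J ψ - J χ₁), ?_⟩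
            rw [hJ ψ hψX, hJ χ₁ hχ₁]
            have h1 := hmin ψ hψX
            have h2 : p ^ J ψ = p ^ (J ψ - J χ₁) * p ^ J χ₁ := by rw [← pow_add]; congr 1; omega
            rw [h2]; push_cast; ring) (by
            intro ψ hψ hψn
            have hψX : ψ ∈ XF K Z := hTX _ hψ
            have h1 : J ψ = m + 1 := by
              have h2 := (Finset.mem_filter.1 (Finset.mem_coe.1 hψ)).2
              have h3 : ¬ J ψ ≤ m := fun h => hψn (Finset.mem_filter.2 ⟨hψX, h⟩)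
              omega
            rw [hsum', hJ ψ hψX, hJ χ₁ hχ₁, h1, Complex.natCast_re, Complex.natCast_re]
            exact_mod_cast hlt)
        exact coh_mono hcoh hB (exists_ne_zero hS (hTS _) ⟨χ₁, hχT _ (by omega)⟩ (hTconj _))
      · have : T (m + 1) = T m := by
          apply Finset.Subset.antisymm
          · intro ξ hξ
            obtain ⟨h1, h2⟩ := Finset.mem_filter.1 hξ
            refine Finset.mem_filter.2 ⟨h1, ?_⟩
            by_contra h3
            exact hex ⟨ξ, h1, by omega⟩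
          · intro ξ hξ
            obtain ⟨h1, h2⟩ := Finset.mem_filter.1 hξ
            exact Finset.mem_filter.2 ⟨h1, by omega⟩
        rw [this]; exact ih
  obtain ⟨χ₂, hχ₂, hmax⟩ := Finset.exists_max_image (XF K Z) J hXne
  have h1 := main (J χ₂) (hmin χ₂ hχ₂)
  have h2 : T (J χ₂) = XF K Z := Finset.filter_true_of_mem hmax
  rw [h2, coe_XF] at h1
  exact h1

end Coh

end Cfsg.Agent.H10.IndSet7
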