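import Mathlib
import Cfsg.Prelude.Def_OddOrderChar
import Cfsg.Agent.H10_IndSet7
import Cfsg.Agent.H10_ClsMul

/-!
H10_Sib: gluing two coherent sets (the last step of Sibley's theorem for groups of odd order).
-/

set_option autoImplicit false
set_option linter.style.haveILetI false
set_option linter.unusedSectionVars false

namespace Cfsg.Agent.H10.Sib

open Cfsg Cfsg.Agent.H3.CharBasic Cfsg.Agent.H3.CharIrr Cfsg.Agent.H3.CharComplete
  Cfsg.Agent.H3.CharMult Cfsg.Agent.H3.CharInd Cfsg.Agent.H3.CharInt Cfsg.Agent.H3.Clifford Cfsg.Agent.H3.CharQuot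
  Cfsg.Agent.H10.OOClif Cfsg.Agent.H10.IndSet Cfsg.Agent.H10.IndSet2 Cfsg.Agent.H10.IndSet3
  Cfsg.Agent.H10.IndSet4 Cfsg.Agent.H10.IndSet5 Cfsg.Agent.H10.IndSet6 Cfsg.Agent.H10.Coh
  Cfsg.Agent.H10.Coh2 Cfsg.Agent.H10.Coh3 Cfsg.Agent.H10.Coh4 Cfsg.Agent.H10.PM
open scoped ComplexConjugate

variable {L : Type*} [Group L] [Fintype L] {G : Type*} [Group G] [Fintype G]
  {S : Set (L → ℂ)} {τ : (L → ℂ) → (G → ℂ)} {R : (L → ℂ) → Finset (G → ℂ)} (hS : IsCoherenceSystem S τ R)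

theorem cint (n : ℤ) : conj ((n : ℤ) : ℂ) = n := by simp

include hS in
/-- images under coherent extensions of disjoint sets are orthogonal -/
theorem orth_two {X Y : Set (L → ℂ)} (hX : X ⊆ S) (hY : Y ⊆ S) (hXc : ∀ φ ∈ X, conjFun φ ∈ X) (hYc : ∀ φ ∈ Y, conjFun φ ∈ Y)
    (hXY : ∀ φ ∈ X, φ ∉ Y) {τ₁ τ₂ : (L → ℂ) → (G → ℂ)} (h1 : IsLinearIsometryOn (zspan X) τ₁)
    (hag1 : ∀ α ∈ zspanOn X {1}ᶜ, τ₁ α = τ α) (h2 : IsLinearIsometryOn (zspan Y) τ₂)
    (hag2 : ∀ α ∈ zspanOn Y {1}ᶜ, τ₂ α = τ α) {φ η : L → ℂ} (hφ : φ ∈ X) (hη : η ∈ Y) :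
    classInner (τ₂ η) (τ₁ φ) = 0 := by
  refine orth_tau hS hX h1 hag1 hφ (hXc φ hφ) ?_
  intro β hβ
  rw [← ci_conj_symm, orth_tau hS hY h2 hag2 hη (hYc η hη) (f := β) ?_, map_zero]
  intro γ hγ
  refine hS.disjoint η (hY hη) φ (hX hφ) ?_ ?_ β hβ γ hγ
  · rw [← ci_conj_symm]
    rw [hS.orthogonal η (hY hη) φ (hX hφ) (by rintro rfl; exact hXY _ hφ hη), map_zero]
  · exact hS.orthogonal φ (hX hφ) (conjFun η) (hS.conj_mem η (hY hη)) (by
      rintro rfl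
      exact hXY _ hφ (hYc η hη))

include hS in
open Classical in
theorem glue (hirr : ∀ χ ∈ S, IsIrrCharacter L χ) {X Y : Set (L → ℂ)} (hX : X ⊆ S) (hY : Y ⊆ S)
    (hXc : ∀ φ ∈ X, conjFun φ ∈ X) (hYc : ∀ φ ∈ Y, conjFun φ ∈ Y)
    (hXY : ∀ φ ∈ X, φ ∉ Y) {τ₁ τ₂ : (L → ℂ) → (G → ℂ)} (h1 : IsLinearIsometryOn (zspan X) τ₁)
    (hag1 : ∀ α ∈ zspanOn X {1}ᶜ, τ₁ α = τ α) (h2 : IsLinearIsometryOn (zspan Y) τ₂)
    (hag2 : ∀ α ∈ zspanOn Y {1}ᶜ, τ₂ α = τ α) {η₁ ξ : L → ℂ} (hη₁ : η₁ ∈ Y) (hξ : ξ ∈ X) {a : ℤ} (ha : 0 < a)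
    (hdξ : ξ 1 = a * η₁ 1) (hdY : ∀ η ∈ Y, η 1 = η₁ 1) (hdX : ∀ φ ∈ X, ∃ m : ℤ, φ 1 = m * ξ 1)
    (hdiv : ∀ η ∈ Y, ∃ k : ℤ, classInner (τ (ξ - a • η₁)) (τ₂ η) = a * k) :
    IsCoherent (X ∪ Y) {1}ᶜ τ := by
  have hη₁S := hY hη₁
  have hξS := hX hξ
  have hYX : ∀ φ ∈ Y, φ ∉ X := fun φ h h' => hXY φ h' h
  have hη₁ne : η₁ 1 ≠ 0 := IsIrr.one_ne_zero (hirr _ hη₁S)
  have hξne : ξ 1 ≠ 0 := IsIrr.one_ne_zero (hirr _ hξS)
  have hreal : ∀ φ ∈ S, conjFun φ 1 = φ 1 := by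
    intro φ hφ
    obtain ⟨m, _, hm⟩ := IsIrr.one_eq_nat (hirr φ hφ)
    rw [conjFun, hm, Complex.conj_natCast]
  -- orthonormality
  have hon : ∀ χ ∈ S, ∀ ψ ∈ S, classInner χ ψ = if χ = ψ then (1 : ℂ) else 0 := fun χ hχ ψ hψ => ci_irr (hirr χ hχ) (hirr ψ hψ)
  have hξη : ξ ≠ η₁ := by rintro rfl; exact hXY _ hξ hη₁
  have hαmem : ξ - a • η₁ ∈ zspanOn S {1}ᶜ := by
    rw [zo_iff]
    refine ⟨zs_diff (zs_sub hξS) (zs_zsmul _ (zs_sub hη₁S)), ?_⟩
    rw [zc, Pi.sub_apply, Pi.smul_apply, smul_eq_mul, hdξ, sub_self]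
  have hαinner : ∀ χ ∈ S, classInner (ξ - a • η₁) χ = (if ξ = χ then (1 : ℂ) else 0) - a * (if η₁ = χ then (1 : ℂ) else 0) := by
    intro χ hχ
    rw [zc, ci_sub_left, ci_smul_left, hon ξ hξS χ hχ, hon η₁ hη₁S χ hχ]
  have hαnorm : classInner (τ (ξ - a • η₁)) (τ (ξ - a • η₁)) = 1 + (a : ℂ) ^ 2 := by
    rw [hS.isometry.2.2.1 _ hαmem _ hαmem]
    conv_lhs => rw [zc]
    rw [ci_sub_right, ci_smul_right, ← zc, hαinner ξ hξS, hαinner η₁ hη₁S, if_pos rfl, if_pos rfl, if_neg hξη, if_neg hξη.symm,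
      cint]
    ring
  -- the family
  let t : (L → ℂ) → (G → ℂ) := fun χ => if χ ∈ X then τ₁ χ else τ₂ χ
  have htX : ∀ χ ∈ X, t χ = τ₁ χ := fun χ h => if_pos h
  have htY : ∀ χ ∈ Y, t χ = τ₂ χ := fun χ h => if_neg (hYX χ h)
  have horth := fun {φ η : L → ℂ} (hφ : φ ∈ X) (hη : η ∈ Y) => orth_two hS hX hY hXc hYc hXY h1 hag1 h2 hag2 hφ hη
  have hont : ∀ χ ∈ X ∪ Y, ∀ ψ ∈ X ∪ Y, classInner (t χ) (t ψ) = if χ = ψ then (1 : ℂ) else 0 := by
    intro χ hχ ψ hψ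
    rcases hχ with hχ | hχ <;> rcases hψ with hψ | hψ
    · rw [htX χ hχ, htX ψ hψ, h1.2.2.1 _ (zs_sub hχ) _ (zs_sub hψ), hon χ (hX hχ) ψ (hX hψ)]
    · rw [htX χ hχ, htY ψ hψ, ← ci_conj_symm, horth hχ hψ, map_zero, if_neg]
      rintro rfl; exact hXY _ hχ hψ
    · rw [htY χ hχ, htX ψ hψ, horth hψ hχ, if_neg]
      rintro rfl; exact hXY _ hψ hχ
    · rw [htY χ hχ, htY ψ hψ, h2.2.2.1 _ (zs_sub hχ) _ (zs_sub hψ), hon χ (hY hχ) ψ (hY hψ)]
  have hαgen : IsGeneralizedCharacter G (τ (ξ - a • η₁)) := hS.isometry.2.2.2 _ hαmem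
  -- X-part
  have hconjξ := hXc ξ hξ
  have hconjη := hYc η₁ hη₁
  have hξc : conjFun ξ ≠ ξ := hS.conj_ne ξ hξS
  have hηc : conjFun η₁ ≠ η₁ := hS.conj_ne η₁ hη₁S
  obtain ⟨x, hx⟩ := ci_gen_int hαgen (h1.2.2.2 _ (zs_sub hconjξ))
  have hx' : classInner (τ (ξ - a • η₁)) (τ₁ ξ) = 1 + x := by
    have hm : ξ - conjFun ξ ∈ zspanOn X {1}ᶜ := by
      rw [zo_iff]
      exact ⟨zs_diff (zs_sub hξ) (zs_sub hconjξ), by rw [Pi.sub_apply, hreal ξ hξS, sub_self]⟩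
    have e1 : classInner (τ (ξ - a • η₁)) (τ₁ (ξ - conjFun ξ)) = 1 := by
      rw [hag1 _ hm, hS.isometry.2.2.1 _ hαmem _ (zo_mono hX hm), ci_sub_right, hαinner ξ hξS, hαinner _ (hX hconjξ), if_pos rfl,
        if_neg hξη.symm, if_neg hξc.symm, if_neg]
      · ring
      · intro h; exact hXY _ hconjξ (h ▸ hη₁)
    rw [iso_diff h1 (zs_sub hξ) (zs_sub hconjξ) (zs_neg (zs_sub hconjξ)), ci_sub_right, hx] at e1
    linear_combination e1
  -- Y-part
  have hYdiff : ∀ η ∈ Y, η ≠ η₁ → classInner (τ (ξ - a • η₁)) (τ₂ η₁) = classInner (τ (ξ - a • η₁)) (τ₂ η) - a := by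
    intro η hη hne
    have hm : η₁ - η ∈ zspanOn Y {1}ᶜ := by
      rw [zo_iff]
      exact ⟨zs_diff (zs_sub hη₁) (zs_sub hη), by rw [Pi.sub_apply, hdY η hη, sub_self]⟩
    have e1 : classInner (τ (ξ - a • η₁)) (τ₂ (η₁ - η)) = -a := by
      rw [hag2 _ hm, hS.isometry.2.2.1 _ hαmem _ (zo_mono hY hm), ci_sub_right, hαinner _ hη₁S, hαinner _ (hY hη), if_pos rfl,
        if_neg hξη, if_neg (show ξ ≠ η from fun h => hXY _ hξ (h ▸ hη)), if_neg hne.symm]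
      ring
    rw [iso_diff h2 (zs_sub hη₁) (zs_sub hη) (zs_neg (zs_sub hη)), ci_sub_right] at e1
    linear_combination e1
  obtain ⟨k, hk⟩ := hdiv _ hconjη
  have hk1 : classInner (τ (ξ - a • η₁)) (τ₂ η₁) = a * k - a := by rw [hYdiff _ hconjη hηc, hk]
  have haR : (0 : ℝ) < a := by exact_mod_cast ha
  have hxk : ∀ (x : ℤ), (1 : ℝ) ≤ (1 + x) ^ 2 + (x : ℝ) ^ 2 := by
    intro x
    have : (1 : ℤ) ≤ (1 + x) ^ 2 + x ^ 2 := by
      rcases le_or_gt 0 x with h | h <;> nlinarith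
    exact_mod_cast this
  -- the key alternative
  have halt : k = 0 ∨ (k = 1 ∧ ∀ η ∈ Y, η = η₁ ∨ η = conjFun η₁) := by
    -- Bessel with four terms
    have hb4 : (1 + x : ℝ) ^ 2 + (x : ℝ) ^ 2 + ((a * k - a : ℝ)) ^ 2 + ((a * k : ℝ)) ^ 2 ≤ 1 + (a : ℝ) ^ 2 := by
      have hb := bessel_le (ι := L → ℂ) {ξ, conjFun ξ, η₁, conjFun η₁} t (τ (ξ - a • η₁))
        (fun χ => (classInner (τ (ξ - a • η₁)) (t χ)).re) (fun _ => 1) (by
          intro i hi j hj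
          have hmem : ∀ i ∈ ({ξ, conjFun ξ, η₁, conjFun η₁} : Finset (L → ℂ)), i ∈ X ∪ Y := by
            intro i hi
            simp only [Finset.mem_insert, Finset.mem_singleton] at hi
            rcases hi with rfl | rfl | rfl | rfl
            · exact Or.inl hξ
            · exact Or.inl hconjξ
            · exact Or.inr hη₁
            · exact Or.inr hconjη
          rw [hont i (hmem i hi) j (hmem j hj)]
          simp) (fun _ _ => one_pos) (by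
          intro i hi
          have hgen : IsGeneralizedCharacter G (t i) := by
            simp only [Finset.mem_insert, Finset.mem_singleton] at hi
            rcases hi with rfl | rfl | rfl | rfl
            · rw [htX _ hξ]; exact h1.2.2.2 _ (zs_sub hξ)
            · rw [htX _ hconjξ]; exact h1.2.2.2 _ (zs_sub hconjξ)
            · rw [htY _ hη₁]; exact h2.2.2.2 _ (zs_sub hη₁)
            · rw [htY _ hconjη]; exact h2.2.2.2 _ (zs_sub hconjη)
          obtain ⟨m, hm⟩ := ci_gen_int hαgen hgen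
          rw [hm]; simp)
      rw [hαnorm, Finset.sum_insert, Finset.sum_insert, Finset.sum_insert, Finset.sum_singleton] at hb
      · simp only [htX _ hξ, htX _ hconjξ, htY _ hη₁, htY _ hconjη, hx, hx', hk, hk1, div_one] at hb
        have e1 : ((1 : ℂ) + (x : ℂ)).re = 1 + (x : ℝ) := by simp
        have e2 : ((a : ℂ) * k - a).re = (a : ℝ) * k - a := by simp
        have e3 : ((a : ℂ) * k).re = (a : ℝ) * k := by simp
        have e4 : ((1 : ℂ) + (a : ℂ) ^ 2).re = 1 + (a : ℝ) ^ 2 := by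
          have : ((1 : ℂ) + (a : ℂ) ^ 2) = (((1 + (a : ℝ) ^ 2 : ℝ)) : ℂ) := by push_cast; ring
          rw [this, Complex.ofReal_re]
        rw [e1, e2, e3, e4, Complex.intCast_re] at hb
        linarith
      · rw [Finset.mem_singleton]; exact hηc.symm
      · rw [Finset.mem_insert, Finset.mem_singleton]
        rintro (h | h)
        · exact hXY _ hconjξ (h ▸ hη₁)
        · exact hXY _ hconjξ (h ▸ hconjη)
      · simp only [Finset.mem_insert, Finset.mem_singleton]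
        rintro (h | h | h)
        · exact hξc h.symm
        · exact hξη h
        · exact hXY _ hξ (h ▸ hconjη)
    have hk01 : k = 0 ∨ k = 1 := by
      have h3 := hxk x
      have h4 : (a : ℝ) ^ 2 * ((k - 1) ^ 2 + (k : ℝ) ^ 2) ≤ (a : ℝ) ^ 2 * 1 := by nlinarith
      have h5 : ((k : ℝ) - 1) ^ 2 + (k : ℝ) ^ 2 ≤ 1 := le_of_mul_le_mul_left h4 (by positivity)
      have h6 : (k - 1) ^ 2 + k ^ 2 ≤ 1 := by exact_mod_cast h5
      have h7 : k ≤ 1 := by nlinarith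
      have h8 : 0 ≤ k := by nlinarith
      omega
    rcases hk01 with h | h
    · exact Or.inl h
    · refine Or.inr ⟨h, ?_⟩
      by_contra hno
      push Not at hno
      obtain ⟨η₃, hη₃, hn1, hn2⟩ := hno
      have hk3 : classInner (τ (ξ - a • η₁)) (τ₂ η₃) = a * k := by
        have := hYdiff η₃ hη₃ hn1
        rw [hk1] at this
        linear_combination -this
      have hb := bessel_le (ι := L → ℂ) {ξ, conjFun ξ, η₃, η₁, conjFun η₁} t (τ (ξ - a • η₁))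
        (fun χ => (classInner (τ (ξ - a • η₁)) (t χ)).re) (fun _ => 1) (by
          intro i hi j hj
          have hmem : ∀ i ∈ ({ξ, conjFun ξ, η₃, η₁, conjFun η₁} : Finset (L → ℂ)), i ∈ X ∪ Y := by
            intro i hi
            simp only [Finset.mem_insert, Finset.mem_singleton] at hi
            rcases hi with rfl | rfl | rfl | rfl | rfl
            · exact Or.inl hξ
            · exact Or.inl hconjξ
            · exact Or.inr hη₃
            · exact Or.inr hη₁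
            · exact Or.inr hconjη
          rw [hont i (hmem i hi) j (hmem j hj)]
          simp) (fun _ _ => one_pos) (by
          intro i hi
          have hgen : IsGeneralizedCharacter G (t i) := by
            simp only [Finset.mem_insert, Finset.mem_singleton] at hi
            rcases hi with rfl | rfl | rfl | rfl | rfl
            · rw [htX _ hξ]; exact h1.2.2.2 _ (zs_sub hξ)
            · rw [htX _ hconjξ]; exact h1.2.2.2 _ (zs_sub hconjξ)
            · rw [htY _ hη₃]; exact h2.2.2.2 _ (zs_sub hη₃)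
            · rw [htY _ hη₁]; exact h2.2.2.2 _ (zs_sub hη₁)
            · rw [htY _ hconjη]; exact h2.2.2.2 _ (zs_sub hconjη)
          obtain ⟨m, hm⟩ := ci_gen_int hαgen hgen
          rw [hm]; simp)
      rw [hαnorm, Finset.sum_insert, Finset.sum_insert, Finset.sum_insert, Finset.sum_insert, Finset.sum_singleton] at hb
      · simp only [htX _ hξ, htX _ hconjξ, htY _ hη₃, htY _ hη₁, htY _ hconjη, hx, hx', hk, hk1, hk3, div_one] at hb
        have e1 : ((1 : ℂ) + (x : ℂ)).re = 1 + (x : ℝ) := by simp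
        have e2 : ((a : ℂ) * k - a).re = (a : ℝ) * k - a := by simp
        have e3 : ((a : ℂ) * k).re = (a : ℝ) * k := by simp
        have e4 : ((1 : ℂ) + (a : ℂ) ^ 2).re = 1 + (a : ℝ) ^ 2 := by
          have : ((1 : ℂ) + (a : ℂ) ^ 2) = (((1 + (a : ℝ) ^ 2 : ℝ)) : ℂ) := by push_cast; ring
          rw [this, Complex.ofReal_re]
        rw [e1, e2, e3, e4, Complex.intCast_re, h] at hb
        have h3 := hxk x
        push_cast at hb
        nlinarith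
      · rw [Finset.mem_singleton]; exact hηc.symm
      · rw [Finset.mem_insert, Finset.mem_singleton]
        rintro (h | h)
        · exact hn1 h
        · exact hn2 h
      · simp only [Finset.mem_insert, Finset.mem_singleton]
        rintro (h | h | h)
        · exact hXY _ hconjξ (h ▸ hη₃)
        · exact hXY _ hconjξ (h ▸ hη₁)
        · exact hXY _ hconjξ (h ▸ hconjη)
      · simp only [Finset.mem_insert, Finset.mem_singleton]
        rintro (h | h | h | h)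
        · exact hξc h.symm
        · exact hXY _ hξ (h ▸ hη₃)
        · exact hξη h
        · exact hXY _ hξ (h ▸ hconjη)
  -- the new value at η₁
  obtain ⟨Θ, hΘgen, hΘnorm, hΘX, hΘY, hΘα⟩ : ∃ Θ : G → ℂ, IsGeneralizedCharacter G Θ ∧ classInner Θ Θ = 1 ∧
      (∀ φ ∈ X, classInner Θ (τ₁ φ) = 0) ∧ (∀ η ∈ Y, η ≠ η₁ → classInner Θ (τ (η - η₁)) = -1) ∧
      classInner (τ (ξ - a • η₁)) Θ = -a := by
    rcases halt with h | ⟨h, hY2⟩
    · refine ⟨τ₂ η₁, h2.2.2.2 _ (zs_sub hη₁), ?_, fun φ hφ => horth hφ hη₁, ?_, ?_⟩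
      · rw [h2.2.2.1 _ (zs_sub hη₁) _ (zs_sub hη₁), hon _ hη₁S _ hη₁S, if_pos rfl]
      · intro η hη hne
        have hm : η - η₁ ∈ zspanOn Y {1}ᶜ := by
          rw [zo_iff]
          exact ⟨zs_diff (zs_sub hη) (zs_sub hη₁), by rw [Pi.sub_apply, hdY η hη, sub_self]⟩
        rw [← hag2 _ hm, h2.2.2.1 _ (zs_sub hη₁) _ hm.1, ci_sub_right, hon _ hη₁S _ (hY hη), hon _ hη₁S _ hη₁S, if_pos rfl,
          if_neg hne.symm, zero_sub]
      · rw [hk1, h]; push_cast; ring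
    · refine ⟨- τ₂ (conjFun η₁), IsGen.neg (h2.2.2.2 _ (zs_sub hconjη)), ?_, ?_, ?_, ?_⟩
      · rw [ci_neg_neg, h2.2.2.1 _ (zs_sub hconjη) _ (zs_sub hconjη), hon _ (hY hconjη) _ (hY hconjη), if_pos rfl]
      · intro φ hφ
        rw [ci_neg_left', horth hφ hconjη, neg_zero]
      · intro η hη hne
        have hη' : η = conjFun η₁ := (hY2 η hη).resolve_left hne
        subst hη'
        have hm : conjFun η₁ - η₁ ∈ zspanOn Y {1}ᶜ := by
          rw [zo_iff]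
          exact ⟨zs_diff (zs_sub hη) (zs_sub hη₁), by rw [Pi.sub_apply, hdY _ hη, sub_self]⟩
        rw [← hag2 _ hm, ci_neg_left', h2.2.2.1 _ (zs_sub hconjη) _ hm.1, ci_sub_right, hon _ (hY hη) _ (hY hη), if_pos rfl,
          hon _ (hY hη) _ hη₁S, if_neg hηc, sub_zero]
      · rw [ci_neg_right', hk, h]; push_cast; ring
  have hT : X ∪ Y ⊆ S := Set.union_subset hX hY
  have hisoT : IsLinearIsometryOn (zspanOn (X ∪ Y) {1}ᶜ) τ := iso_mono hS.isometry (fun x hx => zo_mono hT hx)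
  have hη₁T : η₁ ∈ X ∪ Y := Or.inr hη₁
  have hbase := base_cond (T := X ∪ Y) hisoT (zs_sub hη₁T) hη₁ne (X := Θ) (by
    rintro φ (hφ | hφ)
    · obtain ⟨m, hm⟩ := hdX φ hφ
      refine ⟨m * a, by rw [hm, hdξ]; push_cast; ring, ?_⟩
      have hm1 : φ - m • ξ ∈ zspanOn X {1}ᶜ := by
        rw [zo_iff]
        refine ⟨zs_diff (zs_sub hφ) (zs_zsmul _ (zs_sub hξ)), ?_⟩
        rw [zc, Pi.sub_apply, Pi.smul_apply, smul_eq_mul, hm, sub_self]
      have e1 : φ - (m * a) • η₁ = (φ - m • ξ) + m • (ξ - a • η₁) := by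
        rw [smul_sub, smul_smul]; abel
      have e2 : τ (φ - (m * a) • η₁) = τ₁ (φ - m • ξ) + m • τ (ξ - a • η₁) := by
        rw [e1, hS.isometry.1 _ (zo_mono hX hm1) _ (zo_zsmul m hαmem), hS.isometry.2.1 _ hαmem, hag1 _ hm1]
      have e3 : classInner Θ (τ₁ (φ - m • ξ)) = 0 := orth_iso h1 hΘX _ hm1.1
      have e4 : classInner Θ (τ (ξ - a • η₁)) = -a := by
        rw [← ci_conj_symm, hΘα, map_neg, cint]
      rw [e2, zc m (τ (ξ - a • η₁)), ci_add_right, e3, ci_smul_right, e4, zc (m * a), ci_sub_right, ci_smul_right, hon _ hη₁S _ (hX hφ), hon _ hη₁S _ hη₁S,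
        if_pos rfl, if_neg (by rintro rfl; exact hXY _ hφ hη₁), cint, cint]
      push_cast; ring
    · refine ⟨1, by rw [hdY φ hφ]; simp, ?_⟩
      rw [one_smul]
      by_cases hne : φ = η₁
      · rw [hne, sub_self, iso_zero hisoT zo_zero, ci_zero_right, ci_zero_right]
      · rw [hΘY φ hφ hne, ci_sub_right, hon _ hη₁S _ (hY hφ), hon _ hη₁S _ hη₁S, if_pos rfl, if_neg (Ne.symm hne), zero_sub])
  obtain ⟨σ, hσ1, hσ2, -⟩ := extend_base hisoT (zs_sub hη₁T) hη₁ne hbase.1 hΘgen (by rw [hΘnorm, hon _ hη₁S _ hη₁S, if_pos rfl])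
    (IsGen.of_irr (hirr _ hη₁S)) (fun χ hχ => IsGen.of_irr (hirr _ (hT hχ))) hbase.2
  refine ⟨exists_ne_zero hS hT ⟨η₁, hη₁T⟩ ?_, σ, hσ1, hσ2⟩
  rintro φ (hφ | hφ)
  · exact Or.inl (hXc φ hφ)
  · exact Or.inr (hYc φ hφ)

end Cfsg.Agent.H10.Sib
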