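import Mathlib
import Cfsg.Agent.H1_Nilp

/-!
# Counting in Frobenius groups
-/

set_option autoImplicit false

namespace Cfsg.Agent.H3.FrobCount

variable {G : Type*} [Group G] [Finite G]

/-- If `K` is normal and contains the centralizers of its nonidentity elements, it is a Hall
subgroup. -/
theorem hall_of_centralizer_le (K : Subgroup G) [K.Normal]
    (hC : ∀ k ∈ K, k ≠ 1 → Subgroup.centralizer ({k} : Set G) ≤ K) :
    Nat.Coprime (Nat.card K) K.index := by
  classical
  rw [Nat.coprime_iff_gcd_eq_one]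
  by_contra hne
  obtain ⟨q, hq, hqd⟩ := Nat.exists_prime_and_dvd hne
  have := Fact.mk hq
  have hqK : q ∣ Nat.card K := hqd.trans (Nat.gcd_dvd_left _ _)
  have hqI : q ∣ K.index := hqd.trans (Nat.gcd_dvd_right _ _)
  obtain ⟨x, hx⟩ := exists_prime_orderOf_dvd_card' q hqK
  have hx1 : (x : G) ≠ 1 := by
    intro h
    have : x = 1 := Subtype.ext h
    rw [this, orderOf_one] at hx
    exact hq.one_lt.ne hx
  have hpx : IsPGroup q (Subgroup.zpowers (x : G)) := by
    apply IsPGroup.of_card (n := 1)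
    rw [Nat.card_zpowers, pow_one, ← hx, Subgroup.orderOf_coe]
  obtain ⟨R, hR⟩ := hpx.exists_le_sylow
  have hxR : (x : G) ∈ (R : Subgroup G) := hR (Subgroup.mem_zpowers _)
  have hnt : K.subgroupOf (R : Subgroup G) ≠ ⊥ := by
    intro h
    have h1 : (⟨x, hxR⟩ : (R : Subgroup G)) ∈ K.subgroupOf (R : Subgroup G) :=
      Subgroup.mem_subgroupOf.mpr x.2
    rw [h, Subgroup.mem_bot] at h1
    exact hx1 (congrArg Subtype.val h1)
  have hnil : Group.IsNilpotent (R : Subgroup G) := R.isPGroup'.isNilpotent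
  have h1 := Cfsg.Agent.H1.Nilp.normal_inf_center_ne_bot (K.subgroupOf (R : Subgroup G)) hnt
  obtain ⟨z, hz1⟩ := Subgroup.ne_bot_iff_exists_ne_one.mp h1
  have hle : (R : Subgroup G) ≤ K := by
    intro y hy
    apply hC (z : (R : Subgroup G)) (Subgroup.mem_subgroupOf.mp z.2.1)
      (fun h => hz1 (Subtype.ext (Subtype.ext h)))
    rw [Subgroup.mem_centralizer_singleton_iff]
    have := Subgroup.mem_center_iff.mp z.2.2 ⟨y, hy⟩
    exact congrArg Subtype.val this
  have h2 : (R : Subgroup G).index = (R : Subgroup G).relIndex K * K.index :=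
    (Subgroup.relIndex_mul_index hle).symm
  exact R.not_dvd_index (h2 ▸ (hqI.mul_left _))

section Frob

variable (K H : Subgroup G) [K.Normal] (hKH : K ⊓ H = ⊥) (hKH' : K ⊔ H = ⊤)
  (hfpf : ∀ h ∈ H, h ≠ 1 → ∀ k ∈ K, h * k = k * h → k = 1)

include hKH in
omit [Finite G] [K.Normal] in
theorem inf_eq {x : G} (h1 : x ∈ K) (h2 : x ∈ H) : x = 1 := by
  have : x ∈ K ⊓ H := ⟨h1, h2⟩
  rwa [hKH, Subgroup.mem_bot] at this

include hKH' in
omit [Finite G] in
theorem exists_decomp (g : G) : ∃ k ∈ K, ∃ h ∈ H, g = k * h := by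
  have h1 : g ∈ K ⊔ H := by rw [hKH']; trivial
  rw [Subgroup.mem_sup_of_normal_left] at h1
  obtain ⟨k, hk, h, hh, rfl⟩ := h1
  exact ⟨k, hk, h, hh, rfl⟩

include hKH in
omit [Finite G] in
/-- uniqueness of the decomposition -/
theorem decomp_unique {k k' h h' : G} (hk : k ∈ K) (hk' : k' ∈ K) (hh : h ∈ H) (hh' : h' ∈ H)
    (he : k * h = k' * h') : k = k' ∧ h = h' := by
  have h1 : k'⁻¹ * k = h' * h⁻¹ := by
    calc k'⁻¹ * k = k'⁻¹ * (k * h) * h⁻¹ := by group
      _ = k'⁻¹ * (k' * h') * h⁻¹ := by rw [he]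
      _ = h' * h⁻¹ := by group
  have h2 : k'⁻¹ * k = 1 := inf_eq K H hKH (K.mul_mem (K.inv_mem hk') hk)
    (h1 ▸ H.mul_mem hh' (H.inv_mem hh))
  have h3 : k = k' := (inv_mul_eq_one.mp h2).symm
  subst h3
  exact ⟨rfl, mul_left_cancel he⟩

include hKH hfpf in
omit [Finite G] in
/-- centralizers of elements of the complement -/
theorem cent_compl (hKH' : K ⊔ H = ⊤) {h : G} (hh : h ∈ H) (h1 : h ≠ 1) {g : G} (hg : g * h = h * g) : g ∈ H := by
  obtain ⟨k, hk, h', hh', rfl⟩ := exists_decomp K H hKH' g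
  have h2 : k * (h' * h) = (h * k * h⁻¹) * (h * h') := by
    calc k * (h' * h) = k * h' * h := by group
      _ = h * (k * h') := hg
      _ = _ := by group
  obtain ⟨h3, -⟩ := decomp_unique K H hKH hk ((‹K.Normal›).conj_mem k hk h) (H.mul_mem hh' hh)
    (H.mul_mem hh hh') h2
  have h4 : k = 1 := hfpf h hh h1 k hk (by
    calc h * k = (h * k * h⁻¹) * h := by group
      _ = k * h := by rw [← h3])
  rw [h4, one_mul]; exact hh'

include hKH hfpf in
omit [Finite G] in
theorem conj_inj {k k' h h' : G} (hk : k ∈ K) (hk' : k' ∈ K) (hh : h ∈ H) (hh' : h' ∈ H)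
    (h1 : h ≠ 1) (he : k * h * k⁻¹ = k' * h' * k'⁻¹) : k = k' ∧ h = h' := by
  have h2 : (k * (h * k⁻¹ * h⁻¹)) * h = (k' * (h' * k'⁻¹ * h'⁻¹)) * h' := by
    calc (k * (h * k⁻¹ * h⁻¹)) * h = k * h * k⁻¹ := by group
      _ = k' * h' * k'⁻¹ := he
      _ = _ := by group
  obtain ⟨-, rfl⟩ := decomp_unique K H hKH
    (K.mul_mem hk ((‹K.Normal›).conj_mem _ (K.inv_mem hk) h))
    (K.mul_mem hk' ((‹K.Normal›).conj_mem _ (K.inv_mem hk') h')) hh hh' h2
  refine ⟨?_, rfl⟩
  have h3 : k'⁻¹ * k = 1 := hfpf h hh h1 (k'⁻¹ * k) (K.mul_mem (K.inv_mem hk') hk) (by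
    calc h * (k'⁻¹ * k) = k'⁻¹ * (k' * h * k'⁻¹) * k := by group
      _ = k'⁻¹ * (k * h * k⁻¹) * k := by rw [he]
      _ = k'⁻¹ * k * h := by group)
  exact (inv_mul_eq_one.mp h3).symm

omit [Finite G] [K.Normal] in
include hKH in
theorem conj_not_mem [hn : K.Normal] {k h : G} (hh : h ∈ H) (h1 : h ≠ 1) : k * h * k⁻¹ ∉ K := by
  intro h2
  have h3 := hn.conj_mem _ h2 k⁻¹
  have h4 : k⁻¹ * (k * h * k⁻¹) * k⁻¹⁻¹ = h := by group
  rw [h4] at h3
  exact h1 (inf_eq K H hKH h3 hh)

include hKH hKH' in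
theorem card_mul : Nat.card K * Nat.card H = Nat.card G := by
  rw [← Nat.card_prod]
  refine Nat.card_congr (Equiv.ofBijective (fun x : K × H => (x.1 : G) * x.2) ⟨?_, ?_⟩)
  · rintro ⟨k, h⟩ ⟨k', h'⟩ he
    obtain ⟨h1, h2⟩ := decomp_unique K H hKH k.2 k'.2 h.2 h'.2 he
    exact Prod.ext (Subtype.ext h1) (Subtype.ext h2)
  · intro g
    obtain ⟨k, hk, h, hh, rfl⟩ := exists_decomp K H hKH' g
    exact ⟨(⟨k, hk⟩, ⟨h, hh⟩), rfl⟩

include hKH hKH' hfpf in
/-- every element outside the kernel is a conjugate of an element of the complement -/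
theorem exists_conj_of_not_mem {g : G} (hg : g ∉ K) : ∃ k ∈ K, ∃ h ∈ H, h ≠ 1 ∧ g = k * h * k⁻¹ := by
  classical
  have := Fintype.ofFinite G
  have := Fintype.ofFinite K
  have := Fintype.ofFinite H
  let f : K × {h : H // h ≠ 1} → {g : G // g ∉ K} :=
    fun x => ⟨(x.1 : G) * (x.2 : H) * (x.1 : G)⁻¹,
      conj_not_mem K H hKH x.2.1.2 (fun h => x.2.2 (Subtype.ext h))⟩
  have hinj : Function.Injective f := by
    rintro ⟨k, h⟩ ⟨k', h'⟩ he
    have he' := congrArg Subtype.val he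
    obtain ⟨h1, h2⟩ := conj_inj K H hKH hfpf k.2 k'.2 h.1.2 h'.1.2
      (fun h0 => h.2 (Subtype.ext h0)) he'
    exact Prod.ext (Subtype.ext h1) (Subtype.ext (Subtype.ext h2))
  have hcard : Fintype.card (K × {h : H // h ≠ 1}) = Fintype.card {g : G // g ∉ K} := by
    rw [Fintype.card_prod, Fintype.card_subtype_compl, Fintype.card_subtype_compl]
    have h1 := card_mul K H hKH hKH'
    simp only [Nat.card_eq_fintype_card] at h1
    simp only [Fintype.card_unique]
    rw [Nat.mul_sub, h1, mul_one]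
  have hsurj := ((Fintype.bijective_iff_injective_and_card f).mpr ⟨hinj, hcard⟩).2
  obtain ⟨⟨k, h⟩, hkh⟩ := hsurj ⟨g, hg⟩
  exact ⟨k, k.2, h.1, h.1.2, fun h0 => h.2 (Subtype.ext h0), (congrArg Subtype.val hkh).symm⟩

include hKH hKH' hfpf in
/-- centralizers of elements of the kernel -/
theorem cent_kernel {k : G} (hk : k ∈ K) (hk1 : k ≠ 1) {g : G} (hg : g * k = k * g) : g ∈ K := by
  by_contra hgK
  obtain ⟨k', hk', h, hh, h1, rfl⟩ := exists_conj_of_not_mem K H hKH hKH' hfpf hgK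
  apply hk1
  have h2 : k'⁻¹ * k * k' = 1 := by
    apply hfpf h hh h1
    · have := (‹K.Normal›).conj_mem k hk k'⁻¹
      simpa using this
    · calc h * (k'⁻¹ * k * k') = k'⁻¹ * (k' * h * k'⁻¹ * k) * k' := by group
        _ = k'⁻¹ * (k * (k' * h * k'⁻¹)) * k' := by rw [hg]
        _ = k'⁻¹ * k * k' * h := by group
  calc k = k' * (k'⁻¹ * k * k') * k'⁻¹ := by group
    _ = 1 := by rw [h2]; group

omit [Finite G] [K.Normal] in
/-- number of elements commuting with `g` -/
noncomputable def cc (X : Type*) [Group X] [Fintype X] (g : X) : ℕ := by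
  classical exact (Finset.univ.filter (fun x : X => x * g = g * x)).card

theorem sum_cc (X : Type*) [Group X] [Fintype X] :
    ∑ g : X, cc X g = Nat.card X * Nat.card (ConjClasses X) := by
  classical
  rw [mul_comm, ← card_comm_eq_card_conjClasses_mul_card]
  simp only [cc]
  rw [Nat.card_eq_fintype_card, Fintype.card_subtype]
  rw [Finset.card_filter, ← Finset.univ_product_univ, Finset.sum_product]
  refine Finset.sum_congr rfl fun g _ => ?_
  rw [Finset.card_filter]
  refine Finset.sum_congr rfl fun x _ => ?_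
  simp only [Commute, SemiconjBy]
  congr 1
  exact propext ⟨fun h => h.symm, fun h => h.symm⟩

theorem cc_one (X : Type*) [Group X] [Fintype X] : cc X 1 = Nat.card X := by
  classical
  simp [cc, Nat.card_eq_fintype_card]

theorem cc_conj (X : Type*) [Group X] [Fintype X] (g k : X) : cc X (k * g * k⁻¹) = cc X g := by
  classical
  simp only [cc]
  refine Finset.card_bij' (fun x _ => k⁻¹ * x * k) (fun x _ => k * x * k⁻¹) ?_ ?_ ?_ ?_
  · intro x hx
    rw [Finset.mem_filter] at hx ⊢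
    refine ⟨Finset.mem_univ _, ?_⟩
    calc k⁻¹ * x * k * g = k⁻¹ * (x * (k * g * k⁻¹)) * k := by group
      _ = k⁻¹ * ((k * g * k⁻¹) * x) * k := by rw [hx.2]
      _ = _ := by group
  · intro x hx
    rw [Finset.mem_filter] at hx ⊢
    refine ⟨Finset.mem_univ _, ?_⟩
    calc k * x * k⁻¹ * (k * g * k⁻¹) = k * (x * g) * k⁻¹ := by group
      _ = k * (g * x) * k⁻¹ := by rw [hx.2]
      _ = _ := by group
  · intro x _; group
  · intro x _; group

theorem cc_sub {X : Type*} [Group X] [Fintype X] (H : Subgroup X) [Fintype H] (h : H)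
    (hc : ∀ g : X, g * h = h * g → g ∈ H) : cc X h = cc H h := by
  classical
  unfold cc
  symm
  refine Finset.card_bij (fun x _ => (x : X)) ?_ ?_ ?_
  · intro x hx
    simp only [Finset.mem_filter, Finset.mem_univ, true_and] at hx ⊢
    exact congrArg Subtype.val hx
  · intro x _ y _ h; exact Subtype.ext h
  · intro x hx
    simp only [Finset.mem_filter, Finset.mem_univ, true_and] at hx
    exact ⟨⟨x, hc x hx⟩, by simp only [Finset.mem_filter, Finset.mem_univ, true_and]; exact Subtype.ext hx, rfl⟩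

include hKH hKH' hfpf in
/-- Class number of a Frobenius group. -/
theorem class_number : Nat.card H * Nat.card (ConjClasses G) + 1 =
    Nat.card H * Nat.card (ConjClasses H) + Nat.card (ConjClasses K) := by
  classical
  have := Fintype.ofFinite G
  have := Fintype.ofFinite K
  have := Fintype.ofFinite H
  have hG := sum_cc G
  have hK := sum_cc K
  have hH := sum_cc H
  -- split the sums
  have h1 : ∑ g : K, cc K g = Nat.card K + ∑ g ∈ Finset.univ.filter (fun g : K => g ≠ 1), cc K g := by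
    rw [← Finset.add_sum_erase _ _ (Finset.mem_univ (1 : K)), cc_one]
    congr 1
    refine Finset.sum_congr ?_ fun _ _ => rfl
    ext x; simp
  have h2 : ∑ g : H, cc H g = Nat.card H + ∑ g ∈ Finset.univ.filter (fun g : H => g ≠ 1), cc H g := by
    rw [← Finset.add_sum_erase _ _ (Finset.mem_univ (1 : H)), cc_one]
    congr 1
    refine Finset.sum_congr ?_ fun _ _ => rfl
    ext x; simp
  have h3 : ∑ g : G, cc G g = ∑ g ∈ Finset.univ.filter (fun g : G => g ∈ K), cc G g +
      ∑ g ∈ Finset.univ.filter (fun g : G => g ∉ K), cc G g :=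
    (Finset.sum_filter_add_sum_filter_not _ _ _).symm
  have h4 : ∑ g ∈ Finset.univ.filter (fun g : G => g ∈ K), cc G g = ∑ g : K, cc G g := by
    symm
    refine Finset.sum_bij (fun x _ => (x : G)) ?_ ?_ ?_ ?_
    · intro x _; simp
    · intro x _ y _ h; exact Subtype.ext h
    · intro x hx; exact ⟨⟨x, (Finset.mem_filter.mp hx).2⟩, Finset.mem_univ _, rfl⟩
    · intro x _; rfl
  have h5 : ∑ g : K, cc G g = Nat.card G +
      ∑ g ∈ Finset.univ.filter (fun g : K => g ≠ 1), cc K g := by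
    rw [← Finset.add_sum_erase _ _ (Finset.mem_univ (1 : K)), Subgroup.coe_one, cc_one]
    congr 1
    refine Finset.sum_congr ?_ ?_
    · ext x; simp
    · intro x hx
      apply cc_sub
      intro g hg
      apply cent_kernel K H hKH hKH' hfpf x.2 _ hg
      intro h
      exact (Finset.mem_filter.mp hx).2 (Subtype.ext h)
  have h6 : ∑ g ∈ Finset.univ.filter (fun g : G => g ∉ K), cc G g =
      ∑ p ∈ (Finset.univ : Finset K) ×ˢ (Finset.univ.filter (fun h : H => h ≠ 1)), cc H p.2 := by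
    symm
    refine Finset.sum_bij (fun p _ => (p.1 : G) * p.2 * (p.1 : G)⁻¹) ?_ ?_ ?_ ?_
    · rintro ⟨k, h⟩ hp
      rw [Finset.mem_product, Finset.mem_filter] at hp
      rw [Finset.mem_filter]
      exact ⟨Finset.mem_univ _, conj_not_mem K H hKH h.2 (fun h0 => hp.2.2 (Subtype.ext h0))⟩
    · rintro ⟨k, h⟩ hp ⟨k', h'⟩ hp' he
      rw [Finset.mem_product, Finset.mem_filter] at hp hp'
      obtain ⟨h1, h2⟩ := conj_inj K H hKH hfpf k.2 k'.2 h.2 h'.2
        (fun h0 => hp.2.2 (Subtype.ext h0)) he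
      exact Prod.ext (Subtype.ext h1) (Subtype.ext h2)
    · intro g hg
      rw [Finset.mem_filter] at hg
      obtain ⟨k, hk, h, hh, h1, rfl⟩ := exists_conj_of_not_mem K H hKH hKH' hfpf hg.2
      refine ⟨(⟨k, hk⟩, ⟨h, hh⟩), ?_, rfl⟩
      rw [Finset.mem_product, Finset.mem_filter]
      exact ⟨Finset.mem_univ _, Finset.mem_univ _, fun h0 => h1 (congrArg Subtype.val h0)⟩
    · rintro ⟨k, h⟩ hp
      rw [Finset.mem_product, Finset.mem_filter] at hp
      rw [cc_conj]
      symm
      apply cc_sub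
      intro g hg
      exact cent_compl K H hKH hfpf hKH' h.2 (fun h0 => hp.2.2 (Subtype.ext h0)) hg
  rw [Finset.sum_product] at h6
  simp only [Finset.sum_const, Finset.card_univ, ← Nat.card_eq_fintype_card,
    smul_eq_mul] at h6
  have hcard := card_mul K H hKH hKH'
  have hKpos : 0 < Nat.card K := Nat.card_pos
  rw [h3, h4, h5, h6] at hG
  rw [h1] at hK
  rw [h2] at hH
  set A := ∑ g ∈ Finset.univ.filter (fun g : K => g ≠ 1), cc K g
  set B := ∑ g ∈ Finset.univ.filter (fun g : H => g ≠ 1), cc H g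
  apply Nat.eq_of_mul_eq_mul_left hKpos
  have e1 : Nat.card K * (Nat.card H * Nat.card (ConjClasses G) + 1) =
      Nat.card G * Nat.card (ConjClasses G) + Nat.card K := by rw [← hcard]; ring
  have e2 : Nat.card K * (Nat.card H * Nat.card (ConjClasses H) + Nat.card (ConjClasses K)) =
      Nat.card K * (Nat.card H * Nat.card (ConjClasses H)) +
        Nat.card K * Nat.card (ConjClasses K) := by ring
  rw [e1, e2, ← hG, ← hK, ← hH, ← hcard]
  ring

end Frob

end Cfsg.Agent.H3.FrobCount
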