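import Mathlib
import Cfsg.Prelude.Def_Characters
import Cfsg.Agent.H3_FrobCount
import Cfsg.Agent.H3_CharCalc
import Cfsg.Agent.H3_Clifford

/-!
# Induction from the kernel of a Frobenius group
-/

set_option autoImplicit false

open scoped ComplexConjugate

namespace Cfsg.Agent.H3.FrobInd

open Cfsg Cfsg.Agent.H3.CharBasic Cfsg.Agent.H3.CharIrr Cfsg.Agent.H3.CharComplete
  Cfsg.Agent.H3.CharMult Cfsg.Agent.H3.CharInd Cfsg.Agent.H3.Clifford Cfsg.Agent.H3.CharCalc

variable {G : Type*} [Group G] [Fintype G] (K : Subgroup G) [hK : K.Normal]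

/-- If `K` contains the centralizers of its nonidentity elements, the inertia group of each
nonprincipal irreducible character of `K` is `K`. -/
theorem inertia_eq (hC : ∀ k ∈ K, k ≠ 1 → Subgroup.centralizer ({k} : Set G) ≤ K)
    {θ : K → ℂ} (hθ : IsIrrCharacter K θ) (hθ1 : θ ≠ fun _ => 1) : inertia hK θ = K := by
  classical
  have := Fintype.ofFinite K
  apply le_antisymm _ (le_inertia hK (IsIrr.isClass hθ))
  intro g hg
  by_contra hgK
  have hfix : cj hK g θ = θ := hg
  let π : IrrCharacter K → IrrCharacter K := fun χ => ⟨cj hK g χ, (cj_isIrr hK g).mpr χ.2⟩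
  let τ : ConjClasses K → ConjClasses K := ConjClasses.map (cjEquiv hK g).symm.toMonoidHom
  have h1 := brauer_perm π τ (by
    intro χ x x' h
    have h2 : IsConj x' ((cjEquiv hK g).symm x) := ConjClasses.mk_eq_mk_iff_isConj.mp h
    have h3 : (π χ : K → ℂ) x' = (π χ : K → ℂ) ((cjEquiv hK g).symm x) := by
      obtain ⟨c, hc⟩ := isConj_iff.mp h2
      rw [← hc]
      exact (IsIrr.isClass (π χ).2 x' c).symm
    rw [h3]
    change (χ : K → ℂ) ((cjEquiv hK g) ((cjEquiv hK g).symm x)) = _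
    rw [MulEquiv.apply_symm_apply])
  -- only the trivial class is fixed
  have h2 : Nat.card {C : ConjClasses K // τ C = C} ≤ 1 := by
    rw [Finite.card_le_one_iff_subsingleton]
    refine ⟨fun C D => ?_⟩
    have key : ∀ C : {C : ConjClasses K // τ C = C}, C.1 = ConjClasses.mk 1 := by
      rintro ⟨C, hC'⟩
      obtain ⟨x, rfl⟩ := ConjClasses.exists_rep C
      change ConjClasses.mk x = ConjClasses.mk 1
      congr 1
      by_contra hx
      have h3 : IsConj ((cjEquiv hK g).symm x) x := ConjClasses.mk_eq_mk_iff_isConj.mp hC'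
      obtain ⟨c, hc⟩ := isConj_iff.mp h3
      -- `c g⁻¹ x g c⁻¹ = x`
      have h4 : (c : G) * (g⁻¹ * x * g) * (c : G)⁻¹ = x := congrArg Subtype.val hc
      have h5 : (c : G) * g⁻¹ ∈ Subgroup.centralizer ({(x : G)} : Set G) := by
        rw [Subgroup.mem_centralizer_singleton_iff]
        calc (c : G) * g⁻¹ * x = ((c : G) * (g⁻¹ * x * g) * (c : G)⁻¹) * (c * g⁻¹) := by group
          _ = x * (c * g⁻¹) := by rw [h4]
      have h6 := hC x x.2 (fun h => hx (Subtype.ext h)) h5
      apply hgK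
      have h7 : g = ((c : G) * g⁻¹)⁻¹ * c := by group
      rw [h7]; exact K.mul_mem (K.inv_mem h6) c.2
    exact Subtype.ext ((key C).trans (key D).symm)
  rw [← h1] at h2
  rw [Finite.card_le_one_iff_subsingleton] at h2
  have h3 : (⟨⟨θ, hθ⟩, Subtype.ext hfix⟩ : {χ : IrrCharacter K // π χ = χ}) =
      ⟨⟨fun _ => 1, isIrr_one⟩, Subtype.ext rfl⟩ := Subsingleton.elim _ _
  apply hθ1
  exact congrArg (fun x => (x.1 : K → ℂ)) h3

theorem ind_irr (hC : ∀ k ∈ K, k ≠ 1 → Subgroup.centralizer ({k} : Set G) ≤ K)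
    {θ : K → ℂ} (hθ : IsIrrCharacter K θ) (hθ1 : θ ≠ fun _ => 1) :
    IsIrrCharacter G (indFun K θ) := by
  have := Fintype.ofFinite K
  apply IsChar.isIrr_of_norm (IsChar.ind (IsIrr.isCharacter hθ))
  have h1 := ci_ind_self hK hθ
  rw [inertia_eq K hC hθ hθ1] at h1
  have h2 : (Nat.card K : ℂ) ≠ 0 := cardH_ne_zero K
  exact mul_left_cancel₀ h2 (by rw [h1, mul_one])

end Cfsg.Agent.H3.FrobInd
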