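import Cfsg.Statements.S0160
import Cfsg.Agent.H3_CharCalc

set_option autoImplicit false
open Cfsg

namespace Cfsg.Agent.S0160

/-- A finite group has as many real-valued irreducible complex characters as conjugacy classes closed under taking inverses. -/
theorem result {G : Type*} [Group G] [Finite G] : Nat.card {χ : Cfsg.IrrCharacter G // ∀ g : G, ((χ : G → ℂ) g).im = 0} = Nat.card {C : ConjClasses G // ∀ g : G, ConjClasses.mk g = C → IsConj g g⁻¹} := by
  classical
  have := Fintype.ofFinite G
  let π : Cfsg.IrrCharacter G → Cfsg.IrrCharacter G := fun χ =>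
    ⟨_, Cfsg.Agent.H3.CharInd.IsIrr.conj χ.2⟩
  have hinvwd : ∀ a b : G, IsConj a b → IsConj a⁻¹ b⁻¹ := by
    intro a b h
    obtain ⟨c, rfl⟩ := isConj_iff.mp h
    exact isConj_iff.mpr ⟨c, by group⟩
  let τ : ConjClasses G → ConjClasses G := Quotient.map' (fun g => g⁻¹) hinvwd
  have hτ : ∀ g, τ (ConjClasses.mk g) = ConjClasses.mk g⁻¹ := fun g => rfl
  have h := Cfsg.Agent.H3.CharCalc.brauer_perm π τ (fun χ g g' hg => by
    rw [hτ, ConjClasses.mk_eq_mk_iff_isConj] at hg
    change (starRingEnd ℂ) ((χ : G → ℂ) g') = _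
    rw [Cfsg.Agent.H3.CharComplete.IsClass.eq_of_isConj
      (Cfsg.Agent.H3.CharIrr.IsIrr.isClass χ.2) hg,
      Cfsg.Agent.H3.CharIrr.IsChar.inv_eq_conj (Cfsg.Agent.H3.CharIrr.IsIrr.isCharacter χ.2)]
    simp)
  have h1 : Nat.card {χ : Cfsg.IrrCharacter G // ∀ g : G, ((χ : G → ℂ) g).im = 0} =
      Nat.card {χ : Cfsg.IrrCharacter G // π χ = χ} :=
    Nat.card_congr (Equiv.subtypeEquivRight fun χ => by
      constructor
      · intro h
        apply Subtype.ext
        funext g
        exact Complex.conj_eq_iff_im.mpr (h g)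
      · intro h g
        exact Complex.conj_eq_iff_im.mp (congrFun (congrArg Subtype.val h) g))
  have h2 : Nat.card {C : ConjClasses G // ∀ g : G, ConjClasses.mk g = C → IsConj g g⁻¹} =
      Nat.card {C : ConjClasses G // τ C = C} :=
    Nat.card_congr (Equiv.subtypeEquivRight fun C => by
      obtain ⟨x, rfl⟩ := ConjClasses.exists_rep C
      rw [hτ, ConjClasses.mk_eq_mk_iff_isConj]
      constructor
      · intro h
        exact (h x rfl).symm
      · intro h g hg
        rw [ConjClasses.mk_eq_mk_iff_isConj] at hg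
        exact hg.trans (h.symm.trans (hinvwd _ _ hg.symm)))
  rw [h1, h2, h]

end Cfsg.Agent.S0160
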