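import Cfsg.Statements.S0161
import Cfsg.Agent.S0160

set_option autoImplicit false
open Cfsg

namespace Cfsg.Agent.S0161

/-- In a finite group of odd order, a real-valued irreducible complex character is the trivial character. -/
theorem result {G : Type*} [Group G] [Finite G] (hodd : Odd (Nat.card G)) (χ : Cfsg.IrrCharacter G) (hreal : ∀ g : G, ((χ : G → ℂ) g).im = 0) : (χ : G → ℂ) = fun _ => 1 := by
  classical
  have := Fintype.ofFinite G
  have h := Cfsg.Agent.S0160.result (G := G)
  have hone : ∀ C : {C : ConjClasses G // ∀ g : G, ConjClasses.mk g = C → IsConj g g⁻¹},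
      C.1 = ConjClasses.mk 1 := by
    rintro ⟨C, hC⟩
    obtain ⟨g, rfl⟩ := ConjClasses.exists_rep C
    have h1 := hC g rfl
    obtain ⟨x, hx⟩ := isConj_iff.mp h1
    -- x ^ 2 commutes with g
    have h2 : Commute (x ^ 2) g := by
      have h3 : x ^ 2 * g * (x ^ 2)⁻¹ = g := by
        calc x ^ 2 * g * (x ^ 2)⁻¹ = x * (x * g * x⁻¹) * x⁻¹ := by rw [sq]; group
          _ = x * g⁻¹ * x⁻¹ := by rw [hx]
          _ = (x * g * x⁻¹)⁻¹ := by group
          _ = g := by rw [hx, inv_inv]
      have h4 : x ^ 2 * g = g * x ^ 2 := by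
        calc x ^ 2 * g = (x ^ 2 * g * (x ^ 2)⁻¹) * x ^ 2 := by group
          _ = _ := by rw [h3]
      exact h4
    have hox : Odd (orderOf x) := hodd.of_dvd_nat (orderOf_dvd_natCard x)
    obtain ⟨m, hm⟩ := hox
    have h5 : x = (x ^ 2) ^ (m + 1) := by
      rw [← pow_mul, show 2 * (m + 1) = orderOf x + 1 by omega, pow_succ, pow_orderOf_eq_one,
        one_mul]
    have h6 : Commute x g := by
      rw [h5]; exact h2.pow_left _
    have h7 : g = g⁻¹ := by
      rw [← hx, h6.eq]; simp
    have h8 : g ^ 2 = 1 := by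
      rw [sq]; nth_rewrite 2 [h7]; simp
    have hog : Odd (orderOf g) := hodd.of_dvd_nat (orderOf_dvd_natCard g)
    have h9 : orderOf g ∣ 2 := orderOf_dvd_of_pow_eq_one h8
    have h10 : orderOf g = 1 := by
      rcases (Nat.dvd_prime Nat.prime_two).mp h9 with h | h
      · exact h
      · rw [h] at hog; exact absurd hog (by decide)
    exact congrArg ConjClasses.mk (orderOf_eq_one_iff.mp h10)
  have hsub : Subsingleton {C : ConjClasses G // ∀ g : G, ConjClasses.mk g = C → IsConj g g⁻¹} :=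
    ⟨fun a b => Subtype.ext ((hone a).trans (hone b).symm)⟩
  have hle : Nat.card {χ : Cfsg.IrrCharacter G // ∀ g : G, ((χ : G → ℂ) g).im = 0} ≤ 1 := by
    rw [h]; exact Finite.card_le_one_iff_subsingleton.mpr hsub
  have hsub2 := Finite.card_le_one_iff_subsingleton.mp hle
  have hχ : (⟨χ, hreal⟩ : {χ : Cfsg.IrrCharacter G // ∀ g : G, ((χ : G → ℂ) g).im = 0}) =
      ⟨⟨fun _ => 1, Cfsg.Agent.H3.CharInd.isIrr_one⟩, fun g => by simp⟩ := Subsingleton.elim _ _
  exact congrArg (fun x => (x.1 : G → ℂ)) hχ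

end Cfsg.Agent.S0161
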