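import Cfsg.Statements.S1514
import Cfsg.Agent.H10_Coh2

set_option autoImplicit false
open Cfsg

namespace Cfsg.Agent.S1514

open Cfsg.Agent.H3.CharIrr Cfsg.Agent.H3.CharComplete Cfsg.Agent.H3.CharInd Cfsg.Agent.H3.Isom Cfsg.Agent.H10.PM Cfsg.Agent.H10.Coh Cfsg.Agent.H10.Coh2

/-- Let S be a nonempty set of irreducible characters of the finite group L, closed under complex conjugation and containing no real-valued member, and τ a linear isometry on the integer combinations of S vanishing at 1, with values virtual characters of G vanishing at 1. Then there is a choice R making (S, τ, R) a coherence system. -/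
theorem result {L : Type*} [Group L] [Fintype L] {G : Type*} [Group G] [Fintype G] (S : Set (L → ℂ)) (hS : S.Nonempty) (hirr : ∀ χ ∈ S, Cfsg.IsIrrCharacter L χ) (hconj : ∀ χ ∈ S, Cfsg.conjFun χ ∈ S ∧ Cfsg.conjFun χ ≠ χ) (τ : (L → ℂ) → (G → ℂ)) (hτ : Cfsg.IsLinearIsometryOn (Cfsg.zspanOn S {1}ᶜ) τ) (hτ1 : ∀ α ∈ Cfsg.zspanOn S {1}ᶜ, τ α 1 = 0) : ∃ R : (L → ℂ) → Finset (G → ℂ), Cfsg.IsCoherenceSystem S τ R := by
  classical
  have hmem : ∀ χ ∈ S, χ - conjFun χ ∈ zspanOn S {1}ᶜ := by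
    intro χ hχ
    rw [zo_iff]
    refine ⟨zs_diff (zs_sub hχ) (zs_sub (hconj χ hχ).1), ?_⟩
    obtain ⟨m, _, hm⟩ := IsIrr.one_eq_nat (hirr χ hχ)
    rw [Pi.sub_apply, conjFun, hm]; simp
  have hex : ∀ χ ∈ S, ∃ a b : G → ℂ, IsIrrCharacter G a ∧ IsIrrCharacter G b ∧ a ≠ b ∧ τ (χ - conjFun χ) = a - b := by
    intro χ hχ
    apply isGen_norm_two_one (hτ.2.2.2 _ (hmem χ hχ)) _ (hτ1 _ (hmem χ hχ))
    rw [hτ.2.2.1 _ (hmem χ hχ) _ (hmem χ hχ), ci_diff (hirr χ hχ) (hirr _ (hconj χ hχ).1) (hirr χ hχ) (hirr _ (hconj χ hχ).1),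
      if_pos rfl, if_neg (hconj χ hχ).2.symm, if_neg (hconj χ hχ).2, if_pos rfl]
    norm_num
  choose! a b ha hb hab hτab using hex
  refine ⟨fun χ => {a χ, - b χ}, ⟨hS, fun χ hχ => IsIrr.isCharacter (hirr χ hχ), fun χ hχ => (hconj χ hχ).1,
    fun χ hχ => (hconj χ hχ).2, hτ, hτ1, fun χ hχ φ hφ hne => ci_irr_ne (hirr χ hχ) (hirr φ hφ) hne, ?_, ?_, ?_, ?_⟩⟩
  · intro χ hχ x hx y hy
    have hne : a χ ≠ - b χ := by
      intro h
      obtain ⟨m, hm, em⟩ := IsIrr.one_eq_nat (ha χ hχ)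
      obtain ⟨n, hn, en⟩ := IsIrr.one_eq_nat (hb χ hχ)
      have h2 := congrFun h 1
      rw [Pi.neg_apply, em, en] at h2
      have : (m : ℤ) = -(n : ℤ) := by exact_mod_cast h2
      omega
    have o1 : classInner (a χ) (- b χ) = 0 := by rw [ci_neg_right', ci_irr_ne (ha χ hχ) (hb χ hχ) (hab χ hχ), neg_zero]
    have o2 : classInner (- b χ) (a χ) = 0 := by rw [ci_neg_left', ci_irr_ne (hb χ hχ) (ha χ hχ) (hab χ hχ).symm, neg_zero]
    rw [Finset.mem_insert, Finset.mem_singleton] at hx hy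
    rcases hx with rfl | rfl <;> rcases hy with rfl | rfl
    · rw [if_pos rfl, ci_irr_self (ha χ hχ)]
    · rw [if_neg hne, o1]
    · rw [if_neg hne.symm, o2]
    · rw [if_pos rfl, ci_neg_neg, ci_irr_self (hb χ hχ)]
  · intro χ hχ x hx
    rw [Finset.mem_insert, Finset.mem_singleton] at hx
    rcases hx with rfl | rfl
    · exact IsGen.of_irr (ha χ hχ)
    · exact IsGen.neg (IsGen.of_irr (hb χ hχ))
  · intro χ hχ
    have hne : a χ ≠ - b χ := by
      intro h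
      obtain ⟨m, hm, em⟩ := IsIrr.one_eq_nat (ha χ hχ)
      obtain ⟨n, hn, en⟩ := IsIrr.one_eq_nat (hb χ hχ)
      have h2 := congrFun h 1
      rw [Pi.neg_apply, em, en] at h2
      have : (m : ℤ) = -(n : ℤ) := by exact_mod_cast h2
      omega
    rw [hτab χ hχ, Finset.sum_pair hne, sub_eq_add_neg]
  · intro χ hχ φ hφ h1 h2
    have h3 : classInner (τ (φ - conjFun φ)) (τ (χ - conjFun χ)) = 0 := by
      rw [hτ.2.2.1 _ (hmem φ hφ) _ (hmem χ hχ), ci_sub_left, ci_sub_right, ci_sub_right, h1, h2]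
      have n1 : φ ≠ χ := by
        rintro rfl
        rw [ci_irr_self (hirr _ hφ)] at h1; exact one_ne_zero h1
      have n2 : φ ≠ conjFun χ := by
        rintro rfl
        rw [ci_irr_self (hirr _ hφ)] at h2; exact one_ne_zero h2
      have cc : ∀ f : L → ℂ, conjFun (conjFun f) = f := by intro f; funext x; simp [conjFun]
      rw [ci_irr_ne (hirr _ (hconj φ hφ).1) (hirr _ hχ) (fun h => n2 (by rw [← cc φ, h])),
        ci_irr_ne (hirr _ (hconj φ hφ).1) (hirr _ (hconj χ hχ).1) (fun h => n1 (by rw [← cc φ, h, cc]))]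
      ring
    have z1 := hτ1 _ (hmem φ hφ)
    have z2 := hτ1 _ (hmem χ hχ)
    rw [hτab φ hφ, hτab χ hχ] at h3
    rw [hτab φ hφ, Pi.sub_apply] at z1
    rw [hτab χ hχ, Pi.sub_apply] at z2
    obtain ⟨o1, o2, o3, o4⟩ := four_orth (Pm.of_irr (ha φ hφ)) (Pm.of_irr (hb φ hφ)) (Pm.of_irr (ha χ hχ)) (Pm.of_irr (hb χ hχ))
      (ci_irr_ne (ha φ hφ) (hb φ hφ) (hab φ hφ)) (ci_irr_ne (ha χ hχ) (hb χ hχ) (hab χ hχ)) one_pos one_pos one_pos one_pos
      (by simpa using h3) (by simp; linear_combination z1) (by simp; linear_combination z2)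
    intro x hx y hy
    rw [Finset.mem_insert, Finset.mem_singleton] at hx hy
    rcases hx with rfl | rfl <;> rcases hy with rfl | rfl
    · exact o1
    · rw [ci_neg_right', o2, neg_zero]
    · rw [ci_neg_left', o3, neg_zero]
    · rw [ci_neg_neg, o4]

end Cfsg.Agent.S1514
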