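import Mathlib
import Cfsg.Prelude.Def_OddOrderChar
import Cfsg.Prelude.Def_OddOrderLocal
import Cfsg.Agent.H10_Sib
import Cfsg.Agent.H3_FrobInd
import Cfsg.Agent.H3_CharTI
import Cfsg.Agent.H1_Nilp
import Cfsg.Agent.S0161
import Cfsg.Agent.S1514

/-!
H10_Sib2: Sibley's coherence theorem for groups of odd order.
-/

set_option autoImplicit false
set_option linter.style.haveILetI false
set_option linter.unusedSectionVars false

namespace Cfsg.Agent.H10.Sib2

open Cfsg Cfsg.Agent.H3.CharBasic Cfsg.Agent.H3.CharIrr Cfsg.Agent.H3.CharComplete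
  Cfsg.Agent.H3.CharMult Cfsg.Agent.H3.CharInd Cfsg.Agent.H3.CharInt Cfsg.Agent.H3.Clifford Cfsg.Agent.H3.CharQuot
  Cfsg.Agent.H10.OOClif Cfsg.Agent.H10.IndSet Cfsg.Agent.H10.IndSet2 Cfsg.Agent.H10.IndSet3
  Cfsg.Agent.H10.IndSet4 Cfsg.Agent.H10.IndSet5 Cfsg.Agent.H10.IndSet6 Cfsg.Agent.H10.IndSet7 Cfsg.Agent.H10.Coh
  Cfsg.Agent.H10.Coh2 Cfsg.Agent.H10.Coh3 Cfsg.Agent.H10.Coh4 Cfsg.Agent.H10.PM
open scoped ComplexConjugate

section Val

variable {L : Type*} [Group L] [Fintype L]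

/-- if `f` is proportional to the degree on the irreducible characters nontrivial on `Z`, then `f 1 - f z = b |L|` -/
theorem diff_val {f : L → ℂ} (hf : IsClassFunction L f) (Z : Subgroup L) (b : ℂ)
    (hb : ∀ lam : L → ℂ, IsIrrCharacter L lam → (∃ z ∈ Z, lam z ≠ lam 1) → classInner f lam = b * lam 1) (z : L)
    (hz : z ∈ Z) (hz1 : z ≠ 1) : f 1 - f z = b * Nat.card L := by
  classical
  haveI := Fintype.ofFinite (IrrCharacter L)
  rw [expand_apply f hf 1, expand_apply f hf z, ← Finset.sum_sub_distrib]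
  have h1 : ∀ lam ∈ (Finset.univ : Finset (IrrCharacter L)), classInner f lam * (lam : L → ℂ) 1 - classInner f lam * (lam : L → ℂ) z =
      b * ((lam : L → ℂ) 1 * (lam : L → ℂ) 1) - b * ((lam : L → ℂ) 1 * (lam : L → ℂ) z) := by
    intro lam _
    by_cases h : ∃ z ∈ Z, (lam : L → ℂ) z ≠ (lam : L → ℂ) 1
    · rw [hb lam lam.2 h]; ring
    · push Not at h
      rw [h z hz]; ring
  rw [Finset.sum_congr rfl h1, Finset.sum_sub_distrib, ← Finset.mul_sum, ← Finset.mul_sum, sum_one_mul, sum_one_mul,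
    if_pos rfl, if_neg hz1, mul_zero, sub_zero]

end Val

section Frob

variable {L : Type*} [Group L] [Finite L] {K : Subgroup L} (hC : ∀ k ∈ K, k ≠ 1 → Subgroup.centralizer ({k} : Set L) ≤ K)

include hC in
/-- quotients of Frobenius groups -/
theorem frob_quot {N : Subgroup L} [hN : N.Normal] (hNK : N ≤ K) : ∀ k ∈ K, k ∉ N → ∀ x : L, x * k * x⁻¹ * k⁻¹ ∈ N → x ∈ K := by
  intro k hk hkN x hx
  by_contra hxK
  have key : ∀ m ∈ K, ∀ n ∈ K, x * n * x⁻¹ * n⁻¹ = x * m * x⁻¹ * m⁻¹ → n = m := by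
    intro m hm n hn h
    have h1 : x * (m⁻¹ * n) * x⁻¹ = m⁻¹ * n := by
      have e1 : x * (m⁻¹ * n) * x⁻¹ = (x * m * x⁻¹)⁻¹ * (x * n * x⁻¹ * n⁻¹) * n := by group
      rw [e1, h]; group
    by_contra hne
    have h2 : m⁻¹ * n ≠ 1 := fun h => hne (inv_mul_eq_one.1 h).symm
    apply hxK
    apply hC _ (K.mul_mem (K.inv_mem hm) hn) h2
    rw [Subgroup.mem_centralizer_singleton_iff]
    have h3 := mul_inv_eq_iff_eq_mul.1 h1
    first
      | exact h3
      | exact h3.symm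
  let F : N → N := fun n => ⟨x * n * x⁻¹ * (n : L)⁻¹, N.mul_mem (hN.conj_mem n n.2 x) (N.inv_mem n.2)⟩
  have hinj : Function.Injective F := by
    intro a b hab
    exact Subtype.ext (key b (hNK b.2) a (hNK a.2) (congrArg Subtype.val hab))
  obtain ⟨n, hn⟩ := (Finite.injective_iff_surjective.1 hinj) ⟨_, hx⟩
  have := key k hk n (hNK n.2) (congrArg Subtype.val hn)
  exact hkN (this ▸ n.2)

include hC in
theorem index_dvd_central {Z : Subgroup L} [hZn : Z.Normal] (hZK : Z ≤ K) (hZc : ∀ z ∈ Z, ∀ k ∈ K, z * k = k * z) :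
    K.index ∣ Nat.card Z - 1 := by
  classical
  let X := {z : L // z ∈ Z ∧ z ≠ 1}
  letI : MulAction L X :=
    { smul := fun x z => ⟨x * z.1 * x⁻¹, hZn.conj_mem _ z.2.1 x, fun h => z.2.2 (by
        have h1 : x * z.1 * x⁻¹ = x * 1 * x⁻¹ := by rw [h]; group
        exact mul_left_cancel (mul_right_cancel h1))⟩
      one_smul := fun z => Subtype.ext (by
        show (1 : L) * z.1 * (1 : L)⁻¹ = z.1
        group)
      mul_smul := fun x y z => Subtype.ext (by
        show (x * y) * z.1 * (x * y)⁻¹ = x * (y * z.1 * y⁻¹) * x⁻¹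
        group) }
  haveI : Finite X := inferInstance
  have h1 := dvd_of_stab (X := X) K (by
    rintro ⟨z, hz, hz1⟩
    ext x
    rw [MulAction.mem_stabilizer_iff]
    constructor
    · intro h
      have h2 : x * z * x⁻¹ = z := congrArg Subtype.val h
      apply hC z (hZK hz) hz1
      rw [Subgroup.mem_centralizer_singleton_iff]
      have h3 := mul_inv_eq_iff_eq_mul.1 h2
      first
        | exact h3
        | exact h3.symm
    · intro h
      apply Subtype.ext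
      show x * z * x⁻¹ = z
      rw [← hZc z hz x h]; group)
  have h2 : Nat.card X = Nat.card Z - 1 := by
    haveI := Fintype.ofFinite Z
    have h5 : Nat.card {y : Z // y ≠ 1} = Nat.card Z - 1 := by
      rw [Nat.card_eq_fintype_card, Nat.card_eq_fintype_card, Fintype.card_subtype_compl]
      simp
    rw [← h5]
    exact Nat.card_congr ⟨fun q => ⟨⟨q.1, q.2.1⟩, fun h => q.2.2 (congrArg Subtype.val h)⟩,
      fun y => ⟨y.1.1, y.1.2, fun h => y.2 (Subtype.ext h)⟩, fun _ => rfl, fun _ => rfl⟩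
  rw [← h2]; exact h1

end Frob

section Sys

variable {G : Type*} [Group G] [Fintype G]

theorem irr_ne_conj {L : Type*} [Group L] [Fintype L] (hodd : Odd (Nat.card L)) {χ : L → ℂ} (hχ : IsIrrCharacter L χ)
    (h1 : χ ≠ fun _ => 1) : conjFun χ ≠ χ := by
  intro h
  apply h1
  refine Cfsg.Agent.S0161.result hodd ⟨χ, hχ⟩ ?_
  intro g
  have := congrFun h g
  simp only [conjFun] at this
  exact Complex.conj_eq_iff_im.1 this

theorem ind_ne_one {L : Type*} [Group L] [Fintype L] {K : Subgroup L} {θ : K → ℂ} (hθ : IsIrrCharacter K θ) (hθ1 : θ ≠ fun _ => 1) :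
    indFun K θ ≠ fun _ => 1 := by
  haveI := Fintype.ofFinite K
  intro h
  have h1 : classInner (indFun K θ) (fun _ => 1) = 0 := by
    rw [frobenius K θ _ (IsIrr.isClass isIrr_one)]
    exact ci_irr_ne hθ isIrr_one hθ1
  rw [h, ci_irr_self isIrr_one] at h1
  exact one_ne_zero h1

theorem zs_off {L : Type*} [Group L] [Fintype L] {K : Subgroup L} (hK : K.Normal) {A : Subgroup L} {α : L → ℂ}
    (hα : α ∈ zspan (inducedIrrAbove K A)) : ∀ x : L, x ∉ K → α x = 0 := by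
  refine zs_ind (p := fun α => ∀ x : L, x ∉ K → α x = 0) ?_ ?_ ?_ ?_ hα
  · rintro _ ⟨θ, hθ, -, -, rfl⟩ x hx
    rw [indFun]
    apply mul_eq_zero_of_right
    apply Finset.sum_eq_zero
    intro y _
    apply ext_not_mem
    intro h
    apply hx
    have := hK.conj_mem _ h y
    have e : y * (y⁻¹ * x * y) * y⁻¹ = x := by group
    rwa [e] at this
  · intro x _; rfl
  · intro a _ b _ ha hb x hx
    rw [Pi.add_apply, ha x hx, hb x hx, add_zero]
  · intro a _ ha x hx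
    rw [Pi.neg_apply, ha x hx, neg_zero]

theorem frob_iso {L : Subgroup G} [Fintype L] {K : Subgroup L} (hK : K.Normal) {A : Subgroup L}
    (hTI : ∀ g : G, g ∉ L → ∀ t ∈ K.map L.subtype, g * t * g⁻¹ ∈ K.map L.subtype → t = 1) :
    IsLinearIsometryOn (zspanOn (inducedIrrAbove K A) {1}ᶜ) (fun α : L → ℂ => indFun L α) := by
  haveI := Fintype.ofFinite K
  have hgen : ∀ α ∈ zspan (inducedIrrAbove K A), IsGeneralizedCharacter L α := fun α hα => zs_gen (by
    rintro χ ⟨θ, hθ, -, -, rfl⟩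
    exact IsGen.of_char (IsChar.ind (IsIrr.isCharacter hθ))) hα
  refine ⟨fun α _ β _ => ind_add L α β, fun α _ n => ?_, fun α hα β hβ => ?_, fun α hα => ?_⟩
  · show indFun L (n • α) = n • indFun L α
    rw [zc, ind_smul, zc]
  · rw [zo_iff] at hα hβ
    have hoff : ∀ α ∈ zspan (inducedIrrAbove K A), ∀ x : L, (x : G) ∉ ((K.map L.subtype : Subgroup G) : Set G) → α x = 0 := by
      intro α hα x hx
      apply zs_off hK hα
      intro h
      exact hx ⟨x, h, rfl⟩
    exact Cfsg.Agent.H3.CharTI.ind_inner_of_TI' L ((K.map L.subtype : Subgroup G) : Set G) hTI α β (IsGen.isClass (hgen β hβ.1))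
      (hoff α hα.1) (hoff β hβ.1) hα.2
  · rw [zo_iff] at hα
    exact IsGen.ind (hgen α hα.1)

theorem frob_system {L : Subgroup G} [Fintype L] {K : Subgroup L} [hK : K.Normal] (hodd : Odd (Nat.card L))
    (hsolv : Group.IsSolvable K) (hC : ∀ k ∈ K, k ≠ 1 → Subgroup.centralizer ({k} : Set L) ≤ K) (hK1 : ⊥ < K)
    (hTI : ∀ g : G, g ∉ L → ∀ t ∈ K.map L.subtype, g * t * g⁻¹ ∈ K.map L.subtype → t = 1) :
    ∃ R, IsCoherenceSystem (inducedIrrAbove K ⊥) (fun α : L → ℂ => indFun L α) R := by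
  haveI := Fintype.ofFinite K
  refine Cfsg.Agent.S1514.result _ (above_nonempty hsolv hK1) ?_ ?_ _ (frob_iso hK hTI) ?_
  · rintro _ ⟨θ, hθ, hθ1, -, rfl⟩
    exact Cfsg.Agent.H3.FrobInd.ind_irr K hC hθ hθ1
  · intro χ hχ
    refine ⟨conj_mem_above hχ, ?_⟩
    obtain ⟨θ, hθ, hθ1, -, rfl⟩ := hχ
    exact irr_ne_conj hodd (Cfsg.Agent.H3.FrobInd.ind_irr K hC hθ hθ1) (ind_ne_one hθ hθ1)
  · intro α hα
    show indFun L α 1 = 0
    rw [ind_one, (zo_iff.1 hα).2, mul_zero]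

end Sys

section Prep

variable {L : Type*} [Group L] [Fintype L] {K : Subgroup L}

theorem comm_lt (hsolv : Group.IsSolvable K) (hK1 : K ≠ ⊥) : ⁅K, K⁆ < K := by
  rw [← Subgroup.nontrivial_iff_ne_bot] at hK1
  rw [← K.range_subtype, MonoidHom.range_eq_map, ← Subgroup.map_commutator, Subgroup.map_subtype_lt_map_subtype]
  exact Group.IsSolvable.commutator_lt_top_of_nontrivial K

theorem deg_ab {A : Subgroup L} (hcomm : ∀ x ∈ K, ∀ y ∈ K, x * y * x⁻¹ * y⁻¹ ∈ A) :
    ∀ φ ∈ inducedIrrAbove K A, φ 1 = (K.index : ℂ) := by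
  haveI := Fintype.ofFinite K
  rintro φ ⟨θ, hθ, -, hk, rfl⟩
  rw [ind_one]
  have h2 := deg_bound (K := K) (C := ⊤) (D := ⊤) le_rfl hθ (fun x _ y _ => hk _ (hcomm x x.2 y y.2))
  rw [Subgroup.index_top, Subgroup.relIndex_self] at h2
  obtain ⟨m, hm, em⟩ := IsIrr.one_eq_nat hθ
  rw [em, Complex.natCast_re] at h2
  have h3 : m ^ 2 ≤ 1 := by
    have : (m : ℝ) ^ 2 ≤ 1 := by simpa using h2
    exact_mod_cast this
  have h4 : m = 1 := by nlinarith
  rw [em, h4]; simp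

theorem XF_nonempty (hK : K.Normal) (Z : Subgroup L) [hZ : Z.Normal] (hZ1 : Z ≠ ⊥) (hZK : Z ≤ K) : (XF K Z).Nonempty := by
  rw [Finset.nonempty_iff_ne_empty]
  intro h0
  have h1 := sum_XF hK Z
  rw [h0, Finset.sum_empty] at h1
  have h2 := Subgroup.relIndex_mul_relIndex (⊥ : Subgroup L) Z K bot_le hZK
  rw [Subgroup.relIndex_bot_left] at h2
  have hZcard : 1 < Nat.card Z := by
    rw [Subgroup.one_lt_card_iff_ne_bot]; exact hZ1
  have hZrel0 : 0 < Z.relIndex K := Nat.pos_of_ne_zero (Subgroup.index_ne_zero_of_finite (H := Z.subgroupOf K))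
  have he0 : 0 < K.index := Nat.pos_of_ne_zero Subgroup.index_ne_zero_of_finite
  have h3 : Z.relIndex K < (⊥ : Subgroup L).relIndex K := by rw [← h2]; nlinarith
  have h4 : (0 : ℝ) < (K.index : ℝ) * (((⊥ : Subgroup L).relIndex K : ℝ) - (Z.relIndex K : ℝ)) := by
    have : (Z.relIndex K : ℝ) < ((⊥ : Subgroup L).relIndex K : ℝ) := by exact_mod_cast h3
    have h5 : (0 : ℝ) < K.index := by exact_mod_cast he0
    exact mul_pos h5 (by linarith)
  linarith

theorem central_deg {Z : Subgroup L} (hZc : ∀ z ∈ Z, ∀ k ∈ K, z * k = k * z) {θ : K → ℂ} (hθ : IsIrrCharacter K θ) :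
    (θ 1).re ^ 2 ≤ (Z.relIndex K : ℝ) := by
  haveI := Fintype.ofFinite K
  have h2 := deg_bound (K := K) (C := ⊤) (D := Z.subgroupOf K) le_top hθ (by
    intro x hx y _
    have h3 : (x : L) * y = y * x := hZc x (Subgroup.mem_subgroupOf.1 hx) y y.2
    have h4 : x * y * x⁻¹ * y⁻¹ = 1 := by
      apply Subtype.ext
      show (x : L) * y * (x : L)⁻¹ * (y : L)⁻¹ = 1
      rw [h3]; group
    rw [h4])
  rw [Subgroup.index_top, Subgroup.relIndex_top_right, Nat.cast_one, one_pow, one_mul] at h2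
  exact h2

end Prep

section Main

variable {G : Type*} [Group G] [Fintype G]

theorem pcase {L : Subgroup G} [Fintype L] {K : Subgroup L} [hK : K.Normal] (p : ℕ) [hp : Fact p.Prime] (P : Sylow p G)
    (hPK : (P : Subgroup G) = K.map L.subtype) (hPN : Subgroup.normalizer ((P : Subgroup G) : Set G) = L)
    (hTI : IsTISubset ((P : Subgroup G) : Set G)) (hodd : Odd (Nat.card L))
    (hC : ∀ k ∈ K, k ≠ 1 → Subgroup.centralizer ({k} : Set L) ≤ K) (hna : ¬ ∀ x ∈ K, ∀ y ∈ K, x * y = y * x) :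
    IsCoherent (inducedIrrAbove K ⊥) {1}ᶜ (fun α : L → ℂ => indFun L α) := by
  classical
  haveI := Fintype.ofFinite K
  have hmapcard : Nat.card K = Nat.card (P : Subgroup G) := by
    rw [hPK]
    exact Nat.card_congr (K.equivMapOfInjective L.subtype L.subtype_injective).toEquiv
  obtain ⟨n, hn⟩ := IsPGroup.iff_card.1 P.isPGroup'
  have hcard : Nat.card K = p ^ n := by rw [hmapcard]; exact hn
  have hKp : IsPGroup p K := IsPGroup.of_card hcard
  have hnil : Group.IsNilpotent K := hKp.isNilpotent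
  have hsolv : Group.IsSolvable K := inferInstance
  have hK1 : K ≠ ⊥ := by
    rintro rfl
    apply hna
    intro x hx y hy
    rw [Subgroup.mem_bot] at hx hy
    rw [hx, hy]
  have hTI' : ∀ g : G, g ∉ L → ∀ t ∈ K.map L.subtype, g * t * g⁻¹ ∈ K.map L.subtype → t = 1 := by
    intro g hg t ht ht'
    rw [← hPK] at ht ht'
    exact hTI g (by rw [hPN]; exact hg) t ht ht'
  obtain ⟨R, hS⟩ := frob_system (K := K) hodd hsolv hC (bot_lt_iff_ne_bot.2 hK1) hTI'
  have hirr : ∀ χ ∈ inducedIrrAbove K ⊥, IsIrrCharacter L χ := by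
    rintro _ ⟨θ, hθ, hθ1, -, rfl⟩
    exact Cfsg.Agent.H3.FrobInd.ind_irr K hC hθ hθ1
  -- the central subgroup
  set D : Subgroup L := ⁅K, K⁆ with hD
  have hDK : D < K := comm_lt hsolv hK1
  have hcomm : ∀ x ∈ K, ∀ y ∈ K, x * y * x⁻¹ * y⁻¹ ∈ D := fun x hx y hy => Subgroup.commutator_mem_commutator hx hy
  have hD1 : D ≠ ⊥ := by
    intro h
    apply hna
    intro x hx y hy
    have := hcomm x hx y hy
    rw [h, Subgroup.mem_bot] at this
    exact mul_inv_eq_iff_eq_mul.1 (mul_inv_eq_one.1 this)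
  set Z : Subgroup L := D ⊓ Subgroup.centralizer (K : Set L) with hZdef
  haveI hZn : Z.Normal := by rw [hZdef]; infer_instance
  have hZD : Z ≤ D := inf_le_left
  have hZK : Z ≤ K := hZD.trans hDK.le
  have hZc : ∀ z ∈ Z, ∀ k ∈ K, z * k = k * z := by
    intro z hz k hk
    exact (Subgroup.mem_centralizer_iff.1 hz.2 k hk).symm
  have hZ1 : Z ≠ ⊥ := by
    have h1 : D.subgroupOf K ≠ ⊥ := by
      intro h
      rw [Subgroup.subgroupOf_eq_bot] at h
      exact hD1 (disjoint_self.1 (h.mono_right hDK.le))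
    have h2 := Cfsg.Agent.H1.Nilp.normal_inf_center_ne_bot (D.subgroupOf K) h1
    rw [Subgroup.ne_bot_iff_exists_ne_one] at h2
    obtain ⟨⟨x, hx⟩, hx1⟩ := h2
    intro h3
    apply hx1
    have h4 : (x : L) ∈ Z := by
      refine ⟨Subgroup.mem_subgroupOf.1 hx.1, Subgroup.mem_centralizer_iff.2 ?_⟩
      intro k hk
      exact congrArg Subtype.val ((Subgroup.mem_center_iff.1 hx.2) ⟨k, hk⟩)
    rw [h3, Subgroup.mem_bot] at h4
    exact Subtype.ext (Subtype.ext h4)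
  set e := K.index with he
  have he0 : 0 < e := Nat.pos_of_ne_zero Subgroup.index_ne_zero_of_finite
  have heZ : e ∣ Nat.card Z - 1 := index_dvd_central hC hZK hZc
  have hZcard : 1 < Nat.card Z := by rw [Subgroup.one_lt_card_iff_ne_bot]; exact hZ1
  have hZp : ∃ m, Nat.card Z = p ^ (m + 1) := by
    have h1 : Nat.card Z ∣ p ^ n := by rw [← hcard]; exact Subgroup.card_dvd_of_le hZK
    obtain ⟨m, -, hm⟩ := (Nat.dvd_prime_pow hp.out).1 h1
    rcases m with _ | m
    · rw [hm] at hZcard; simp at hZcard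
    · exact ⟨m, hm⟩
  obtain ⟨m, hm⟩ := hZp
  have hpd : p ∣ Nat.card Z := by rw [hm]; exact dvd_pow_self p (by omega)
  have hpodd : Odd p := hodd.of_dvd_nat (hpd.trans (Subgroup.card_subgroup_dvd_card Z))
  have hp3 : 3 ≤ p := by
    have := hp.out.two_le
    obtain ⟨r, hr⟩ := hpodd
    omega
  have hcop : Nat.Coprime e p := by
    rw [Nat.coprime_comm, hp.out.coprime_iff_not_dvd]
    intro h
    have h3 : p ∣ Nat.card Z - 1 := h.trans heZ
    have h6 := Nat.dvd_sub hpd h3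
    have h7 : Nat.card Z - (Nat.card Z - 1) = 1 := by omega
    rw [h7] at h6
    exact hp.out.one_lt.ne' (Nat.dvd_one.1 h6)
  have h2e : 2 * e ≤ Nat.card Z - 1 := by
    have hoe : Odd e := hodd.of_dvd_nat K.index_dvd_card
    have hoZ : Odd (Nat.card Z) := hodd.of_dvd_nat (Subgroup.card_subgroup_dvd_card Z)
    have h2 : 2 * e ∣ Nat.card Z - 1 := by
      apply Nat.Coprime.mul_dvd_of_dvd_of_dvd _ _ heZ
      · exact (Nat.coprime_two_left).2 hoe
      · obtain ⟨r, hr⟩ := hoZ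
        rw [hr]; exact ⟨r, by omega⟩
    exact Nat.le_of_dvd (by omega) h2
  -- the two coherent sets
  have hXsub : inducedIrrAbove K ⊥ \ inducedIrrAbove K Z ⊆ inducedIrrAbove K ⊥ := Set.diff_subset
  have hYsub : inducedIrrAbove K D ⊆ inducedIrrAbove K ⊥ := fun x hx => SF_mono bot_le hx
  obtain ⟨-, τ₁, h1, hag1⟩ := x_coh_pgroup hK hp.out hp3 hcard hcop hS Z hZ1 hZK hZc (fun χ h => hirr χ (hXsub h))
  obtain ⟨-, τ₂, h2, hag2⟩ := coh_ab hsolv hS D hDK hcomm
  have hXc : ∀ φ ∈ inducedIrrAbove K ⊥ \ inducedIrrAbove K Z, conjFun φ ∈ inducedIrrAbove K ⊥ \ inducedIrrAbove K Z :=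
    fun φ h => conj_mem_x h
  have hYc : ∀ φ ∈ inducedIrrAbove K D, conjFun φ ∈ inducedIrrAbove K D := fun φ h => conj_mem_above h
  have hXY : ∀ φ ∈ inducedIrrAbove K ⊥ \ inducedIrrAbove K Z, φ ∉ inducedIrrAbove K D := fun φ h h' => h.2 (SF_mono hZD h')
  -- degrees
  have hdeg : ∀ χ ∈ inducedIrrAbove K ⊥, ∃ j : ℕ, χ 1 = ((e * p ^ j : ℕ) : ℂ) := by
    rintro _ ⟨θ, hθ, -, -, rfl⟩
    obtain ⟨m, hm, em, hdv⟩ := IsIrr.dvd_card hθ
    rw [hcard] at hdv
    obtain ⟨j, hj, ej⟩ := (Nat.dvd_prime_pow hp.out).1 hdv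
    exact ⟨j, by rw [ind_one, em, ej]; push_cast; rfl⟩
  choose! J hJ using hdeg
  obtain ⟨ξ, hξF, hmin⟩ := Finset.exists_min_image (XF K Z) J (XF_nonempty hK Z hZ1 hZK)
  have hξ := mem_XF.1 hξF
  obtain ⟨η₁, hη₁⟩ := above_nonempty hsolv hDK
  have hdegY := deg_ab hcomm
  have hdξ : ξ 1 = ((p ^ J ξ : ℕ) : ℤ) * η₁ 1 := by
    rw [hJ ξ (hXsub hξ), hdegY η₁ hη₁]; push_cast; ring
  have hdX : ∀ φ ∈ inducedIrrAbove K ⊥ \ inducedIrrAbove K Z, ∃ m : ℤ, φ 1 = m * ξ 1 := by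
    intro φ hφ
    refine ⟨((p ^ (J φ - J ξ) : ℕ) : ℤ), ?_⟩
    have h3 := hmin φ (mem_XF.2 hφ)
    have h4 : p ^ J φ = p ^ (J φ - J ξ) * p ^ J ξ := by rw [← pow_add]; congr 1; omega
    rw [hJ ξ (hXsub hξ), hJ φ (hXsub hφ), h4]; push_cast; ring
  have hZpos : ∀ z ∈ Z, z ≠ 1 → (z : G) ≠ 1 := fun z _ h1 h => h1 (Subtype.ext h)
  have hone : ∀ χ ∈ inducedIrrAbove K ⊥, χ 1 ≠ 0 := fun χ h => IsIrr.one_ne_zero (hirr χ h)
  -- divisibility
  have hdiv : ∀ η ∈ inducedIrrAbove K D, ∃ k : ℤ,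
      classInner (indFun L (ξ - (((p ^ J ξ : ℕ) : ℤ)) • η₁)) (τ₂ η) = (((p ^ J ξ : ℕ) : ℤ) : ℂ) * k := by
    intro η hη
    have hΘ : Pm (τ₂ η) := pm_of_iso (fun χ h => hirr χ (hYsub h)) h2 hη
    set f : L → ℂ := fun x => τ₂ η x with hf
    have hfc : IsClassFunction L f := IsClass.res hΘ.isClass L
    have hfgen : IsGeneralizedCharacter L f := IsGen.comp hΘ.gen L.subtype
    -- proportionality
    have hprop : ∀ χ ∈ inducedIrrAbove K ⊥ \ inducedIrrAbove K Z, classInner f χ = classInner f ξ / ξ 1 * χ 1 := by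
      intro χ hχ
      obtain ⟨m, hm⟩ := hdX χ hχ
      have hm1 : χ - m • ξ ∈ zspanOn (inducedIrrAbove K ⊥ \ inducedIrrAbove K Z) {1}ᶜ := by
        rw [zo_iff]
        refine ⟨zs_diff (zs_sub hχ) (zs_zsmul _ (zs_sub hξ)), ?_⟩
        rw [zc, Pi.sub_apply, Pi.smul_apply, smul_eq_mul, hm, sub_self]
      have h3 : classInner (τ₂ η) (τ₁ (χ - m • ξ)) = 0 :=
        orth_iso h1 (fun φ hφ => Cfsg.Agent.H10.Sib.orth_two hS hXsub hYsub hXc hYc hXY h1 hag1 h2 hag2 hφ hη) _ hm1.1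
      rw [hag1 _ hm1, frobenius' L _ _ hΘ.isClass, zc, ci_sub_right, ci_smul_right, Cfsg.Agent.H10.Sib.cint] at h3
      rw [hm]
      have h4 := hone ξ (hXsub hξ)
      field_simp
      linear_combination h3
    have hval : ∀ z ∈ Z, z ≠ 1 → f 1 - f z = classInner f ξ / ξ 1 * Nat.card L := by
      intro z hz hz1
      refine diff_val hfc Z _ ?_ z hz hz1
      intro lam hlam hne
      apply hprop
      rw [xset_eq hK Z hZn hZK (fun χ h => hirr χ (hXsub h))]
      exact ⟨hlam, hne⟩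
    obtain ⟨z₀, hz₀⟩ := Subgroup.ne_bot_iff_exists_ne_one.1 hZ1
    have hz₀1 : (z₀ : L) ≠ 1 := fun h => hz₀ (Subtype.ext h)
    -- the congruence
    have key : ∀ ψ : G → ℂ, IsIrrCharacter G ψ → (∀ z ∈ Z, ∀ z' ∈ Z, z ≠ 1 → z' ≠ 1 → ψ (z : G) = ψ (z' : G)) →
        ∃ t : ℤ, ψ 1 - ψ ((z₀ : L) : G) = t * (Nat.card K : ℂ) := by
      intro ψ hψ hconst
      obtain ⟨c, d, hc, hd, t, ht⟩ := Cfsg.Agent.H10.ClsMul.pf67 p P hTI (by rw [hPN]; exact hodd) (Z.map L.subtype) (by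
          intro h
          rw [Subgroup.map_eq_bot_iff_of_injective _ L.subtype_injective] at h
          exact hZ1 h) (by
          rw [hPK]; exact Subgroup.map_mono hZK) (by
          rw [hPN]
          rintro x hx _ ⟨z, hz, rfl⟩
          exact ⟨⟨x, hx⟩ * z * ⟨x, hx⟩⁻¹, hZn.conj_mem z hz _, rfl⟩) (by
          rintro _ ⟨z, hz, rfl⟩ y hy
          rw [hPK] at hy
          obtain ⟨k, hk, rfl⟩ := hy
          exact congrArg Subtype.val (hZc z hz k hk)) ψ hψ (by
          rintro _ ⟨z, hz, rfl⟩ _ ⟨z', hz', rfl⟩ h3 h4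
          exact hconst z hz z' hz' (fun h => h3 (by rw [h]; rfl)) (fun h => h4 (by rw [h]; rfl)))
        ((z₀ : L) : G) ⟨z₀, z₀.2, rfl⟩ (hZpos _ z₀.2 hz₀1)
      refine ⟨t, ?_⟩
      rw [hc, hd, hmapcard]
      have : ((d - c : ℤ) : ℂ) = ((Nat.card (P : Subgroup G) : ℤ) * t : ℤ) := by rw [ht]
      push_cast at this
      rw [this]; ring
    have hconst : ∀ z ∈ Z, ∀ z' ∈ Z, z ≠ 1 → z' ≠ 1 → τ₂ η (z : G) = τ₂ η (z' : G) := by
      intro z hz z' hz' h3 h4
      have e1 := hval z hz h3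
      have e2 := hval z' hz' h4
      show f z = f z'
      linear_combination e2 - e1
    obtain ⟨t, ht⟩ : ∃ t : ℤ, f 1 - f (z₀ : L) = t * (Nat.card K : ℂ) := by
      rcases hΘ with hΘ | hΘ
      · obtain ⟨t, ht⟩ := key _ hΘ hconst
        exact ⟨t, ht⟩
      · obtain ⟨t, ht⟩ := key _ hΘ (fun z hz z' hz' h3 h4 => by
          rw [Pi.neg_apply, Pi.neg_apply, hconst z hz z' hz' h3 h4])
        refine ⟨-t, ?_⟩
        rw [Pi.neg_apply, Pi.neg_apply] at ht
        show τ₂ η ((1 : L) : G) - τ₂ η ((z₀ : L) : G) = _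
        rw [Subgroup.coe_one]
        push_cast
        linear_combination -ht
    rw [hval _ z₀.2 hz₀1] at ht
    have hLcard : (Nat.card L : ℂ) = (e : ℂ) * Nat.card K := by
      rw [← Nat.cast_mul, he, Subgroup.index_mul_card]
    have hK0 : (Nat.card K : ℂ) ≠ 0 := Nat.cast_ne_zero.2 Nat.card_pos.ne'
    have hfξ : classInner f ξ = (t * ((p ^ J ξ : ℕ) : ℤ) : ℤ) := by
      rw [hLcard, ← mul_assoc] at ht
      have h3 := mul_right_cancel₀ hK0 ht
      rw [hJ ξ (hXsub hξ)] at h3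
      have he0' : (e : ℂ) ≠ 0 := Nat.cast_ne_zero.2 he0.ne'
      have hp0' : ((p ^ J ξ : ℕ) : ℂ) ≠ 0 := Nat.cast_ne_zero.2 (pow_pos hp.out.pos _).ne'
      push_cast at h3 hp0' ⊢
      field_simp at h3
      linear_combination h3
    obtain ⟨s, hs⟩ := ci_gen_int (IsGen.of_irr (hirr η₁ (hYsub hη₁))) hfgen
    refine ⟨t - s, ?_⟩
    rw [frobenius L _ _ hΘ.isClass, zc, ci_sub_left, ci_smul_left]
    have h3 : classInner ξ f = (t * ((p ^ J ξ : ℕ) : ℤ) : ℤ) := by
      rw [← ci_conj_symm, hfξ, Cfsg.Agent.H10.Sib.cint]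
    show classInner ξ f - _ * classInner η₁ f = _
    rw [h3, hs]
    push_cast; ring
  have hglue := Cfsg.Agent.H10.Sib.glue hS hirr hXsub hYsub hXc hYc hXY h1 hag1 h2 hag2 hη₁ hξ
    (a := ((p ^ J ξ : ℕ) : ℤ)) (by exact_mod_cast pow_pos hp.out.pos _) hdξ (fun η hη => by rw [hdegY η hη, hdegY η₁ hη₁]) hdX hdiv
  -- the last extension
  have hcoeU : (↑(XF K Z ∪ SF K D) : Set (L → ℂ)) = (inducedIrrAbove K ⊥ \ inducedIrrAbove K Z) ∪ inducedIrrAbove K D := by
    rw [Finset.coe_union, coe_XF, coe_SF]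
  have hdisj : Disjoint (XF K Z) (SF K D) := by
    rw [Finset.disjoint_left]
    intro φ h3 h4
    exact hXY φ (mem_XF.1 h3) (mem_SF.1 h4)
  obtain ⟨S₁, hS₁, hsub, hB, hc, hcoh⟩ := propagate hS (above_finite ⊥) (XF K Z ∪ SF K D) (by
      rw [hcoeU]; exact Set.union_subset hXsub hYsub) (by
      intro φ hφ
      rw [Finset.mem_union, mem_XF, mem_SF] at hφ ⊢
      exact hφ.imp (hXc φ) (hYc φ)) (by rw [hcoeU]; exact hglue) (inducedIrrAbove K ⊥) le_rfl η₁
    (Finset.mem_union_right _ (mem_SF.2 hη₁)) (by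
      intro ψ hψ
      refine ⟨p ^ J ψ, ?_⟩
      rw [hJ ψ hψ, hdegY η₁ hη₁]; push_cast; ring) (by
      intro ψ hψ hψn
      rw [Finset.mem_union, mem_XF, mem_SF, not_or] at hψn
      have hψZ : ψ ∈ inducedIrrAbove K Z := by
        by_contra h
        exact hψn.1 ⟨hψ, h⟩
      obtain ⟨θ, hθ, -, -, rfl⟩ := hψZ
      have hb := central_deg hZc hθ
      rw [Finset.sum_union hdisj, sum_XF hK Z, sum_SF hK D, ind_one, hdegY η₁ hη₁]
      obtain ⟨m, hm, em⟩ := IsIrr.one_eq_nat hθ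
      rw [em, Complex.natCast_re] at hb
      rw [em, ← Nat.cast_mul, Complex.natCast_re, Complex.natCast_re]
      have h3 := Subgroup.relIndex_mul_relIndex (⊥ : Subgroup L) Z K bot_le hZK
      rw [Subgroup.relIndex_bot_left, Subgroup.relIndex_bot_left] at h3
      have h4 : 1 < D.relIndex K := by
        have h5 : D.relIndex K ≠ 0 := Subgroup.index_ne_zero_of_finite (H := D.subgroupOf K)
        have h6 : D.relIndex K ≠ 1 := fun h => hDK.not_ge (Subgroup.relIndex_eq_one.1 h)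
        omega
      have h5 : m ^ 2 ≤ Z.relIndex K := by exact_mod_cast hb
      have h6 : m ≤ Z.relIndex K := le_trans (by nlinarith) h5
      have h7 : 2 * (e * m) * e ≤ e * (Nat.card K - Z.relIndex K) := by
        rw [← h3]
        have h8 : Nat.card Z * Z.relIndex K - Z.relIndex K = (Nat.card Z - 1) * Z.relIndex K := by
          rw [Nat.sub_mul, one_mul]
        rw [h8]
        calc 2 * (e * m) * e = e * ((2 * e) * m) := by ring
          _ ≤ e * ((Nat.card Z - 1) * Z.relIndex K) := Nat.mul_le_mul_left _ (Nat.mul_le_mul h2e h6)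
      have h8 : Z.relIndex K ≤ Nat.card K := by
        rw [← h3]; exact Nat.le_mul_of_pos_left _ Nat.card_pos
      have h9 : ((2 * (e * m) * e : ℕ) : ℝ) ≤ ((e * (Nat.card K - Z.relIndex K) : ℕ) : ℝ) := by exact_mod_cast h7
      rw [Subgroup.relIndex_bot_left]
      push_cast [Nat.cast_sub h8] at h9 ⊢
      have h10 : (1 : ℝ) < D.relIndex K := by exact_mod_cast h4
      have h11 : (0 : ℝ) < e := by exact_mod_cast he0
      nlinarith)
  exact coh_mono hcoh hB (exists_ne_zero hS le_rfl (above_nonempty hsolv (bot_lt_iff_ne_bot.2 hK1)) (fun φ hφ => conj_mem_above hφ))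

/-- Sibley's coherence theorem for groups of odd order with a Frobenius TI kernel -/
theorem sibley_odd {H L : Subgroup G} [Fintype L] (hodd : Odd (Nat.card L)) (hHL : H < L) (hH1 : H ≠ ⊥)
    (hnil : Group.IsNilpotent H) (hC : ∀ h ∈ H, h ≠ 1 → L ⊓ Subgroup.centralizer ({h} : Set G) ≤ H)
    (hTI : IsTISubset (H : Set G)) (hN : Subgroup.normalizer (H : Set G) = L) :
    IsCoherent (inducedIrrAbove (H.subgroupOf L) ⊥) {1}ᶜ (fun α : L → ℂ => indFun L α) := by
  classical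
  have hHn : ∀ x ∈ L, ∀ h ∈ H, x * h * x⁻¹ ∈ H := by
    intro x hx h hh
    rw [← hN] at hx
    exact (Subgroup.mem_set_normalizer_iff.1 hx h).1 hh
  set K : Subgroup L := H.subgroupOf L with hKdef
  haveI hK : K.Normal := ⟨fun k hk g => Subgroup.mem_subgroupOf.2 (hHn g g.2 k (Subgroup.mem_subgroupOf.1 hk))⟩
  have hmap : K.map L.subtype = H := by
    rw [hKdef, Subgroup.map_subgroupOf_eq_of_le hHL.le]
  haveI := Fintype.ofFinite K
  have hnilK : Group.IsNilpotent K := by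
    haveI := hnil
    exact Group.nilpotent_of_mulEquiv (Subgroup.subgroupOfEquivOfLe hHL.le).symm
  have hsolv : Group.IsSolvable K := inferInstance
  have hK1 : K ≠ ⊥ := by
    intro h
    rw [h, Subgroup.map_bot] at hmap
    exact hH1 hmap.symm
  have hK2 : K < ⊤ := by
    rw [lt_top_iff_ne_top]
    intro h
    rw [hKdef, Subgroup.subgroupOf_eq_top] at h
    exact hHL.not_ge h
  have hC' : ∀ k ∈ K, k ≠ 1 → Subgroup.centralizer ({k} : Set L) ≤ K := by
    intro k hk hk1 x hx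
    rw [Subgroup.mem_centralizer_singleton_iff] at hx
    refine Subgroup.mem_subgroupOf.2 (hC k (Subgroup.mem_subgroupOf.1 hk) (fun h => hk1 (Subtype.ext h)) ⟨x.2, ?_⟩)
    refine Subgroup.mem_centralizer_singleton_iff.2 ?_
    exact congrArg Subtype.val hx
  have hTI' : ∀ g : G, g ∉ L → ∀ t ∈ K.map L.subtype, g * t * g⁻¹ ∈ K.map L.subtype → t = 1 := by
    intro g hg t ht ht'
    rw [hmap] at ht ht'
    exact hTI g (by rw [hN]; exact hg) t ht ht'
  obtain ⟨R, hS⟩ := frob_system (K := K) hodd hsolv hC' (bot_lt_iff_ne_bot.2 hK1) hTI'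
  have hDK : ⁅K, K⁆ < K := comm_lt hsolv hK1
  haveI : ((⊥ : Subgroup L).subgroupOf K).Normal := inferInstance
  have hnil' : Group.IsNilpotent (↥K ⧸ (⊥ : Subgroup L).subgroupOf K) := inferInstance
  have h65 := coh_65 hK hsolv hS hodd ⊥ bot_le hnil' ⁅K, K⁆ (by rw [sup_bot_eq]) hDK hK2 (frob_quot hC' hDK.le)
  by_cases hab : ⁅K, K⁆ ≤ ⊥
  · exact h65 (Or.inr (Or.inr (Or.inr (Or.inl hab))))
  by_cases hpp : ∃ p m : ℕ, p.Prime ∧ (⊥ : Subgroup L).relIndex K = p ^ m
  swap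
  · exact h65 (Or.inr (Or.inr (Or.inl hpp)))
  obtain ⟨p, n, hp, hpn⟩ := hpp
  rw [Subgroup.relIndex_bot_left] at hpn
  haveI := Fact.mk hp
  have hHcard : Nat.card H = p ^ n := by
    rw [← hpn]
    exact Nat.card_congr (Subgroup.subgroupOfEquivOfLe hHL.le).symm.toEquiv
  have hHp : IsPGroup p H := IsPGroup.of_card hHcard
  obtain ⟨P, hP⟩ := hHp.exists_le_sylow
  have hCG : ∀ h ∈ H, h ≠ 1 → Subgroup.centralizer ({h} : Set G) ≤ H := by
    intro h hh hh1 x hx
    refine hC h hh hh1 ⟨?_, hx⟩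
    by_contra hxL
    rw [Subgroup.mem_centralizer_singleton_iff] at hx
    apply hh1
    have hx' : x * h * x⁻¹ = h := mul_inv_eq_iff_eq_mul.2 (by first | exact hx | exact hx.symm)
    apply hTI x (by rw [hN]; exact hxL) h hh
    rw [hx']; exact hh
  have hPH : (P : Subgroup G) = H := by
    apply le_antisymm _ hP
    obtain ⟨h₀, hh₀⟩ := Subgroup.ne_bot_iff_exists_ne_one.1 hH1
    have hh₀1 : (h₀ : G) ≠ 1 := fun h => hh₀ (Subtype.ext h)
    haveI : Nontrivial P := ⟨⟨⟨h₀, hP h₀.2⟩, 1, fun h => hh₀1 (congrArg Subtype.val h)⟩⟩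
    have hcen : (⊥ : Subgroup P) < Subgroup.center P := IsPGroup.bot_lt_center P.isPGroup'
    obtain ⟨⟨z, hz⟩, hz1⟩ := Subgroup.ne_bot_iff_exists_ne_one.1 hcen.ne'
    have hz1' : (z : G) ≠ 1 := fun h => hz1 (Subtype.ext (Subtype.ext h))
    have hzH : (z : G) ∈ H := by
      apply hCG h₀ h₀.2 hh₀1
      rw [Subgroup.mem_centralizer_singleton_iff]
      have := congrArg Subtype.val (Subgroup.mem_center_iff.1 hz ⟨h₀, hP h₀.2⟩)
      first
        | exact this
        | exact this.symm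
    intro x hx
    apply hCG z hzH hz1'
    rw [Subgroup.mem_centralizer_singleton_iff]
    have := congrArg Subtype.val (Subgroup.mem_center_iff.1 hz ⟨x, hx⟩)
    first
      | exact this
      | exact this.symm
  refine pcase p P (by rw [hPH, hmap]) (by rw [hPH]; exact hN) (by rw [hPH]; exact hTI) hodd hC' ?_
  intro hcomm
  apply hab
  rw [Subgroup.commutator_le]
  intro x hx y hy
  rw [Subgroup.mem_bot, commutatorElement_def, hcomm x hx y hy]
  group

end Main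

end Cfsg.Agent.H10.Sib2
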