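import Mathlib
import Cfsg.Prelude.Def_OddOrderChar
import Cfsg.Agent.H10_Sib2
import Cfsg.Agent.H10_CycEx3

/-!
H10_Fin1: the data attached to one Frobenius TI pair (L, K) with coherent characters
(for the final argument of the odd CN theorem).
-/

set_option autoImplicit false
set_option linter.style.haveILetI false
set_option linter.unusedSectionVars false

namespace Cfsg.Agent.H10.Fin1

open Cfsg Cfsg.Agent.H3.CharBasic Cfsg.Agent.H3.CharIrr Cfsg.Agent.H3.CharComplete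
  Cfsg.Agent.H3.CharMult Cfsg.Agent.H3.CharInd Cfsg.Agent.H3.CharInt Cfsg.Agent.H3.Clifford Cfsg.Agent.H3.CharQuot
  Cfsg.Agent.H10.OOClif Cfsg.Agent.H10.IndSet Cfsg.Agent.H10.IndSet2 Cfsg.Agent.H10.IndSet3
  Cfsg.Agent.H10.IndSet7 Cfsg.Agent.H10.Coh Cfsg.Agent.H10.CycEx3
  Cfsg.Agent.H10.Coh2 Cfsg.Agent.H10.Coh3 Cfsg.Agent.H10.Coh4 Cfsg.Agent.H10.PM Cfsg.Agent.H10.Sib2
open scoped ComplexConjugate

section Aux
variable {G : Type*} [Group G]

/-- `g` is a non-identity element conjugate into `H` -/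
def IsIn (H : Subgroup G) (g : G) : Prop := g ≠ 1 ∧ ∃ x : G, x * g * x⁻¹ ∈ H

theorem ind_supp [Fintype G] {L : Subgroup G} {K : Subgroup L} {f : L → ℂ}
    (hf : ∀ x : L, x ∉ K → f x = 0) (hf1 : f 1 = 0) (g : G) (hg : ¬ IsIn (K.map L.subtype) g) : indFun L f g = 0 := by
  rw [indFun, Finset.sum_eq_zero, mul_zero]
  intro x _
  by_cases h : x⁻¹ * g * x ∈ L
  · rw [ext_mem L f h]
    by_cases h1 : (⟨x⁻¹ * g * x, h⟩ : L) ∈ K
    · by_cases h2 : g = 1
      · have : (⟨x⁻¹ * g * x, h⟩ : L) = 1 := Subtype.ext (by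
          show x⁻¹ * g * x = 1
          rw [h2]; group)
        rw [this, hf1]
      · exfalso
        apply hg
        refine ⟨h2, x⁻¹, ?_⟩
        rw [inv_inv]
        exact ⟨_, h1, rfl⟩
    · exact hf _ h1
  · exact ext_not_mem L f h

theorem conj_sub (f g : G → ℂ) : conjFun (f - g) = conjFun f - conjFun g := by funext x; simp [conjFun]
theorem conj_add (f g : G → ℂ) : conjFun (f + g) = conjFun f + conjFun g := by funext x; simp [conjFun]

end Aux

open Classical in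
/-- data attached to a pair -/
structure PD {G : Type*} [Group G] [Fintype G] (H : Subgroup G) (e : ℕ) (T : Finset (G → ℂ)) (d : (G → ℂ) → ℕ)
    (ψ X : G → ℂ) : Prop where
  pm : ∀ t ∈ T, Pm t
  orth : ∀ t ∈ T, ∀ t' ∈ T, t ≠ t' → classInner t t' = 0
  mem : ψ ∈ T
  dpsi : d ψ = 1
  conj_orth : ∀ t ∈ T, classInner (conjFun t) t = 0
  conj_supp : ∀ t ∈ T, ∀ g, ¬ IsIn H g → conjFun t g = t g
  sumd : (e : ℝ) * ∑ t ∈ T, (d t : ℝ) ^ 2 = (Nat.card H : ℝ) - 1
  supp : ∀ t ∈ T, ∀ g, ¬ IsIn H g → t g = d t * ψ g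
  gen : IsGeneralizedCharacter G X
  normX : classInner X X = e + 1
  oneX : classInner X (fun _ => 1) = 1
  suppX : ∀ g, ¬ IsIn H g → X g = 0
  innerX : ∀ t ∈ T, t ≠ ψ → classInner X t = d t * (classInner X ψ + 1)
  real : conjFun (X + ψ) = X + ψ
  valo : ∀ φ : G → ℂ, IsClassFunction G φ → (∀ t ∈ T, classInner φ t = 0) → ∀ g ∈ H, g ≠ 1 → φ g = classInner φ X
  vals : ∀ c : ℤ, classInner ψ X + 1 = c → ∑ g : G, (if g ∈ H ∧ g ≠ 1 then ψ g * conj (ψ g) else 0) =
    (e : ℂ) * Nat.card H + c ^ 2 * Nat.card H - (e + c) ^ 2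

section Pair

variable {G : Type*} [Group G] [Fintype G] {L : Subgroup G} [Fintype L] {K : Subgroup L} [hK : K.Normal]
  (hsolv : Group.IsSolvable K) (hC : ∀ k ∈ K, k ≠ 1 → Subgroup.centralizer ({k} : Set L) ≤ K) (hK1 : ⊥ < K)
  (hTI : ∀ g : G, g ∉ L → ∀ t ∈ K.map L.subtype, g * t * g⁻¹ ∈ K.map L.subtype → t = 1)

include hC in
theorem S_irr {χ : L → ℂ} (h : χ ∈ inducedIrrAbove K ⊥) : IsIrrCharacter L χ := by
  obtain ⟨θ, hθ, hθ1, -, rfl⟩ := h
  exact Cfsg.Agent.H3.FrobInd.ind_irr K hC hθ hθ1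

include hC in
theorem mem_S {lam : L → ℂ} (hlam : IsIrrCharacter L lam) (h : ∃ z ∈ K, lam z ≠ lam 1) : lam ∈ inducedIrrAbove K ⊥ := by
  haveI := Fintype.ofFinite K
  obtain ⟨z, hz, hne⟩ := h
  obtain ⟨θ, hθ, hc⟩ := exists_constituent_res (H := K) hlam
  have hc' : classInner (indFun K θ) lam ≠ 0 := (constituent_ind_iff (IsIrr.isCharacter hlam)).2 hc
  have hθ1 : θ ≠ fun _ => 1 := by
    rintro rfl
    apply hne
    apply ker_const (IsChar.ind (IsIrr.isCharacter hθ)) hlam hc'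
    exact (ker_ind hK hK le_rfl (IsIrr.isCharacter hθ) (IsIrr.one_ne_zero hθ)).1 (fun a _ => rfl) z hz
  have h2 : indFun K θ = lam := by
    by_contra hne2
    exact hc' (ci_irr_ne (Cfsg.Agent.H3.FrobInd.ind_irr K hC hθ hθ1) hlam hne2)
  refine ⟨θ, hθ, hθ1, ?_, h2.symm⟩
  intro a ha
  rw [Subgroup.mem_bot] at ha
  have : a = 1 := Subtype.ext ha
  rw [this]

theorem S_deg {χ : L → ℂ} (h : χ ∈ inducedIrrAbove K ⊥) : ∃ n : ℕ, 0 < n ∧ χ 1 = (n : ℂ) * K.index := by
  obtain ⟨θ, hθ, hθ1, -, rfl⟩ := h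
  haveI := Fintype.ofFinite K
  obtain ⟨n, hn, e⟩ := IsIrr.one_eq_nat hθ
  refine ⟨n, hn, ?_⟩
  rw [ind_one, e]; ring

/-- the trivial character of `K` induced is orthogonal to the members of `S` -/
theorem one_orth {χ : L → ℂ} (h : χ ∈ inducedIrrAbove K ⊥) : classInner (indFun K (fun _ => 1)) χ = 0 := by
  haveI := Fintype.ofFinite K
  obtain ⟨θ, hθ, hθ1, -, rfl⟩ := h
  apply ind_orth hK hθ isIrr_one
  rintro ⟨g, hg⟩
  apply hθ1
  have h1 : cj hK g⁻¹ (fun _ : K => (1 : ℂ)) = cj hK g⁻¹ (cj hK g θ) := by rw [← hg]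
  rw [cj_cj, mul_inv_cancel, cj_one] at h1
  rw [← h1]
  rfl

theorem one_norm : classInner (indFun K (fun _ : K => (1 : ℂ))) (indFun K (fun _ => 1)) = (K.index : ℂ) := by
  haveI := Fintype.ofFinite K
  rw [norm_ind hK isIrr_one]
  have h1 : inertia hK (fun _ : K => (1 : ℂ)) = ⊤ := by
    rw [eq_top_iff]
    intro g _
    rfl
  rw [h1, Subgroup.card_top, ← K.card_mul_index]
  have : (Nat.card K : ℂ) ≠ 0 := by exact_mod_cast Nat.card_pos.ne'
  push_cast
  field_simp

theorem one_one : classInner (indFun K (fun _ : K => (1 : ℂ))) (fun _ => 1) = 1 := by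
  haveI := Fintype.ofFinite K
  rw [frobenius K _ _ (IsIrr.isClass isIrr_one)]
  exact ci_irr_self isIrr_one

open Classical in
theorem sum_K {f : L → ℂ} (hf : ∀ x : L, x ∉ K → f x = 0) [Fintype K] : ∑ x : L, f x = ∑ k : K, f k := by
  have h1 : ∑ x : L, f x = ∑ x : L, if x ∈ K then f x else 0 := by
    refine Finset.sum_congr rfl fun x _ => ?_
    split_ifs with h
    · rfl
    · exact hf x h
  rw [h1, ← Finset.sum_filter]
  exact Finset.sum_subtype _ (fun x => by simp) f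

open Classical in
theorem sum_H {F : G → ℂ} [Fintype K] : ∑ g : G, (if g ∈ K.map L.subtype then F g else 0) = ∑ k : K, F k := by
  rw [← Finset.sum_filter]
  symm
  refine Finset.sum_bij (fun k _ => ((k : L) : G)) ?_ ?_ ?_ ?_
  · intro k _
    exact Finset.mem_filter.2 ⟨Finset.mem_univ _, ⟨k, k.2, rfl⟩⟩
  · intro a _ b _ h
    exact Subtype.ext (Subtype.ext h)
  · intro g hg
    obtain ⟨x, hx, rfl⟩ := (Finset.mem_filter.1 hg).2
    exact ⟨⟨x, hx⟩, Finset.mem_univ _, rfl⟩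
  · intro k _; rfl

omit [Fintype G] in
theorem inner_const {f α : L → ℂ} (v : ℂ) (h : ∀ x, α x ≠ 0 → f x = v) :
    classInner f α = v * classInner (fun _ => 1) α := by
  rw [classInner, classInner, mul_left_comm]
  congr 1
  rw [Finset.mul_sum]
  refine Finset.sum_congr rfl fun x _ => ?_
  by_cases hx : α x = 0
  · rw [hx, map_zero, mul_zero, mul_zero, mul_zero]
  · rw [h x hx, one_mul]

include hsolv hC hK1 hTI in
theorem exists_data (hodd : Odd (Nat.card L))
    (hcoh : IsCoherent (inducedIrrAbove K ⊥) {1}ᶜ (fun α : L → ℂ => indFun L α)) :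
    ∃ (T : Finset (G → ℂ)) (d : (G → ℂ) → ℕ) (ψ X : G → ℂ), PD (K.map L.subtype) K.index T d ψ X := by
  classical
  haveI := Fintype.ofFinite K
  obtain ⟨-, τ, hτ, hag⟩ := hcoh
  have hag' : ∀ α ∈ zspanOn (inducedIrrAbove K ⊥) {1}ᶜ, τ α = indFun L α := hag
  have hirr : ∀ χ ∈ inducedIrrAbove K ⊥, IsIrrCharacter L χ := fun χ hχ => S_irr hC hχ
  have hpm : ∀ χ ∈ inducedIrrAbove K ⊥, Pm (τ χ) := fun χ hχ => pm_of_iso hirr hτ hχ
  have hin : ∀ χ ∈ inducedIrrAbove K ⊥, ∀ φ ∈ inducedIrrAbove K ⊥, classInner (τ χ) (τ φ) = classInner χ φ :=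
    fun χ hχ φ hφ => hτ.2.2.1 _ (zs_sub hχ) _ (zs_sub hφ)
  have hinj : ∀ χ ∈ inducedIrrAbove K ⊥, ∀ φ ∈ inducedIrrAbove K ⊥, τ χ = τ φ → χ = φ := by
    intro χ hχ φ hφ h
    by_contra hne
    have h1 := hin χ hχ φ hφ
    rw [h, (hpm φ hφ).norm, ci_irr_ne (hirr χ hχ) (hirr φ hφ) hne] at h1
    exact one_ne_zero h1
  obtain ⟨θ, hθ, hθe⟩ := exists_min hsolv hK1
  have he0 : (K.index : ℂ) ≠ 0 := by exact_mod_cast Subgroup.index_ne_zero_of_finite (H := K)
  have hdex : ∀ χ, ∃ n : ℕ, χ ∈ inducedIrrAbove K ⊥ → 0 < n ∧ χ 1 = (n : ℂ) * K.index := by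
    intro χ
    by_cases h : χ ∈ inducedIrrAbove K ⊥
    · obtain ⟨n, hn⟩ := S_deg h
      exact ⟨n, fun _ => hn⟩
    · exact ⟨0, fun h' => absurd h' h⟩
  choose dS hdS using hdex
  have hdθ : dS θ = 1 := by
    have h1 := (hdS θ hθ).2
    rw [hθe] at h1
    have h2 : (dS θ : ℂ) = 1 := by
      have := mul_right_cancel₀ he0 (h1.symm.trans (one_mul _).symm)
      exact this
    exact_mod_cast h2
  have hconjS : ∀ χ ∈ inducedIrrAbove K ⊥, conjFun χ ∈ inducedIrrAbove K ⊥ := fun χ hχ => conj_mem_above hχ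
  have hconjne : ∀ χ ∈ inducedIrrAbove K ⊥, conjFun χ ≠ χ := by
    rintro _ ⟨η, hη, hη1, -, rfl⟩
    exact irr_ne_conj hodd (Cfsg.Agent.H3.FrobInd.ind_irr K hC hη hη1) (ind_ne_one hη hη1)
  have hoff : ∀ α ∈ zspan (inducedIrrAbove K ⊥), ∀ x : L, x ∉ K → α x = 0 := fun α hα => zs_off hK hα
  have hzd : ∀ χ ∈ inducedIrrAbove K ⊥, χ - conjFun χ ∈ zspanOn (inducedIrrAbove K ⊥) {1}ᶜ := by
    intro χ hχ
    rw [zo_iff]
    refine ⟨zs_diff (zs_sub hχ) (zs_sub (hconjS χ hχ)), ?_⟩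
    rw [Pi.sub_apply, conjFun, (hdS χ hχ).2]
    simp
  have hzd2 : ∀ χ ∈ inducedIrrAbove K ⊥, χ - (dS χ : ℤ) • θ ∈ zspanOn (inducedIrrAbove K ⊥) {1}ᶜ := by
    intro χ hχ
    rw [zo_iff]
    refine ⟨zs_diff (zs_sub hχ) (zs_zsmul _ (zs_sub hθ)), ?_⟩
    rw [zc, Pi.sub_apply, Pi.smul_apply, smul_eq_mul, (hdS χ hχ).2, hθe]
    simp
  -- conjugation commutes with τ
  have hconj : ∀ χ ∈ inducedIrrAbove K ⊥, conjFun (τ χ) = τ (conjFun χ) ∧ classInner (conjFun (τ χ)) (τ χ) = 0 := by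
    intro χ hχ
    have h1 : τ χ - τ (conjFun χ) = indFun L (χ - conjFun χ) := by
      rw [← hag' _ (hzd χ hχ), iso_diff hτ (zs_sub hχ) (zs_sub (hconjS χ hχ)) (zs_neg (zs_sub (hconjS χ hχ)))]
    have h2 : conjFun (τ χ) - conjFun (τ (conjFun χ)) = -(τ χ - τ (conjFun χ)) := by
      rw [← conj_sub, h1, conj_ind, conj_sub, conj_conj, ← neg_sub χ (conjFun χ), ← ind_neg]
    have hab : classInner (τ (conjFun χ)) (τ χ) = 0 := by
      rw [hin _ (hconjS χ hχ) _ hχ]
      exact ci_irr_ne (hirr _ (hconjS χ hχ)) (hirr _ hχ) (hconjne χ hχ)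
    have h3 : conjFun (τ χ) + τ χ = τ (conjFun χ) + conjFun (τ (conjFun χ)) := by
      linear_combination h2
    have h4 := congrArg (fun f => classInner f (τ χ)) h3
    simp only [ci_add_left] at h4
    rw [(hpm χ hχ).norm, hab, zero_add] at h4
    have hPa := hpm χ hχ
    have hPb := hpm _ (hconjS χ hχ)
    have hz : classInner (conjFun (τ χ)) (τ χ) = 0 := by
      rcases Pm.inner (pm_conj hPa) hPa with h5 | ⟨-, h5⟩ | ⟨h5, -⟩
      · exact h5
      · exfalso
        rw [h5] at h4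
        rcases Pm.inner (pm_conj hPb) hPa with h6 | ⟨-, h6⟩ | ⟨-, h6⟩ <;> rw [h6] at h4 <;> norm_num at h4
      · exfalso
        have h8 := pm_one_real hPa
        have h9 := congrFun h5 1
        rw [Pi.neg_apply, h8] at h9
        apply Pm.one_ne hPa
        linear_combination (1/2 : ℂ) * h9
    refine ⟨?_, hz⟩
    rw [hz, zero_add] at h4
    have h5 := Pm.eq_of_inner (pm_conj hPb) hPa h4.symm
    rw [h5, conj_conj']
  -- definitions of the data
  obtain ⟨T, hT⟩ : ∃ T : Finset (G → ℂ), ∀ t, t ∈ T ↔ ∃ χ ∈ inducedIrrAbove K ⊥, τ χ = t := by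
    refine ⟨(SF K ⊥).image τ, fun t => ?_⟩
    rw [Finset.mem_image]
    constructor
    · rintro ⟨χ, hχ, e⟩; exact ⟨χ, mem_SF.1 hχ, e⟩
    · rintro ⟨χ, hχ, e⟩; exact ⟨χ, mem_SF.2 hχ, e⟩
  obtain ⟨d, hd⟩ : ∃ d : (G → ℂ) → ℕ, ∀ χ ∈ inducedIrrAbove K ⊥, d (τ χ) = dS χ := by
    refine ⟨fun t => if h : ∃ χ ∈ inducedIrrAbove K ⊥, τ χ = t then dS h.choose else 0, fun χ hχ => ?_⟩
    have h : ∃ χ' ∈ inducedIrrAbove K ⊥, τ χ' = τ χ := ⟨χ, hχ, rfl⟩
    show (if h : ∃ χ' ∈ inducedIrrAbove K ⊥, τ χ' = τ χ then dS h.choose else 0) = dS χ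
    rw [dif_pos h, hinj _ h.choose_spec.1 _ hχ h.choose_spec.2]
  have hsuppI : ∀ α ∈ zspanOn (inducedIrrAbove K ⊥) {1}ᶜ, ∀ g, ¬ IsIn (K.map L.subtype) g → τ α g = 0 := by
    intro α hα g hg
    rw [hag' α hα]
    exact ind_supp (hoff α hα.1) (zo_iff.1 hα).2 g hg
  have hα1 : (indFun K (fun _ => 1) - θ) 1 = 0 := by
    rw [Pi.sub_apply, ind_one, hθe, mul_one, sub_self]
  have hαoff : ∀ x : L, x ∉ K → (indFun K (fun _ => 1) - θ) x = 0 := by
    intro x hx
    rw [Pi.sub_apply, ind_of_not_mem hK _ hx, hoff θ (zs_sub hθ) x hx, sub_zero]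
  have hαgen : IsGeneralizedCharacter L (indFun K (fun _ => 1) - θ) :=
    IsGen.sub (IsGen.ind (IsGen.of_irr isIrr_one)) (IsGen.of_irr (hirr θ hθ))
  have hTIi : ∀ f f' : L → ℂ, IsClassFunction L f' → (∀ x : L, x ∉ K → f x = 0) → (∀ x : L, x ∉ K → f' x = 0) → f 1 = 0 →
      classInner (indFun L f) (indFun L f') = classInner f f' := by
    intro f f' hf' h h' h1
    apply Cfsg.Agent.H3.CharTI.ind_inner_of_TI' L ((K.map L.subtype : Subgroup G) : Set G) hTI f f' hf' _ _ h1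
    · intro x hx
      exact h x fun hh => hx ⟨x, hh, rfl⟩
    · intro x hx
      exact h' x fun hh => hx ⟨x, hh, rfl⟩
  refine ⟨T, d, τ θ, indFun L (indFun K (fun _ => 1) - θ), ?_, ?_, ?_, ?_, ?_, ?_, ?_, ?_, ?_, ?_, ?_, ?_, ?_, ?_, ?_, ?_⟩
  · intro t ht
    obtain ⟨χ, hχ, rfl⟩ := (hT t).1 ht
    exact hpm χ hχ
  · intro t ht t' ht' hne
    obtain ⟨χ, hχ, rfl⟩ := (hT t).1 ht
    obtain ⟨φ, hφ, rfl⟩ := (hT t').1 ht'
    rw [hin χ hχ φ hφ]
    exact ci_irr_ne (hirr χ hχ) (hirr φ hφ) fun h => hne (by rw [h])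
  · exact (hT _).2 ⟨θ, hθ, rfl⟩
  · rw [hd θ hθ, hdθ]
  · intro t ht
    obtain ⟨χ, hχ, rfl⟩ := (hT t).1 ht
    exact (hconj χ hχ).2
  · intro t ht g hg
    obtain ⟨χ, hχ, rfl⟩ := (hT t).1 ht
    have h1 := hsuppI _ (hzd χ hχ) g hg
    rw [iso_diff hτ (zs_sub hχ) (zs_sub (hconjS χ hχ)) (zs_neg (zs_sub (hconjS χ hχ))), Pi.sub_apply] at h1
    rw [(hconj χ hχ).1]
    exact (sub_eq_zero.1 h1).symm
  · have hTe : T = (SF K ⊥).image τ := by
      ext t
      rw [hT, Finset.mem_image]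
      constructor
      · rintro ⟨χ, hχ, e⟩; exact ⟨χ, mem_SF.2 hχ, e⟩
      · rintro ⟨χ, hχ, e⟩; exact ⟨χ, mem_SF.1 hχ, e⟩
    rw [hTe, Finset.sum_image (fun χ hχ φ hφ h => hinj χ (mem_SF.1 hχ) φ (mem_SF.1 hφ) h)]
    have h1 := sum_SF hK ⊥
    have he : (K.index : ℝ) ≠ 0 := by exact_mod_cast Subgroup.index_ne_zero_of_finite (H := K)
    rw [Finset.sum_congr rfl (g := fun χ => (K.index : ℝ) ^ 2 * (dS χ : ℝ) ^ 2), ← Finset.mul_sum, Subgroup.relIndex_bot_left] at h1
    · rw [Finset.sum_congr rfl (g := fun χ => (dS χ : ℝ) ^ 2) (fun χ hχ => by rw [hd χ (mem_SF.1 hχ)])]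
      have hcard : Nat.card (K.map L.subtype) = Nat.card K :=
        Nat.card_congr (K.equivMapOfInjective L.subtype L.subtype_injective).symm.toEquiv
      rw [hcard]
      apply mul_left_cancel₀ he
      rw [← h1]; ring
    · intro χ hχ
      rw [ci_irr_self (hirr χ (mem_SF.1 hχ)), (hdS χ (mem_SF.1 hχ)).2, Complex.one_re, div_one, ← Nat.cast_mul, Complex.natCast_re]
      push_cast; ring
  · intro t ht g hg
    obtain ⟨χ, hχ, rfl⟩ := (hT t).1 ht
    have h1 := hsuppI _ (hzd2 χ hχ) g hg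
    rw [iso_diff hτ (zs_sub hχ) (zs_zsmul _ (zs_sub hθ)) (zs_neg (zs_zsmul _ (zs_sub hθ))), hτ.2.1 _ (zs_sub hθ), zc, Pi.sub_apply,
      Pi.smul_apply, smul_eq_mul] at h1
    rw [hd χ hχ]
    push_cast at h1
    exact sub_eq_zero.1 h1
  · exact IsGen.ind hαgen
  · rw [hTIi _ _ (IsGen.isClass hαgen) hαoff hαoff hα1, ci_sub_left, ci_sub_right, ci_sub_right, one_norm, one_orth hθ,
      ci_irr_self (hirr θ hθ), ← ci_conj_symm, one_orth hθ, map_zero]
    ring
  · rw [frobenius L _ _ (IsIrr.isClass isIrr_one), ci_sub_left, one_one]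
    have h1 : classInner θ (fun _ => (1 : ℂ)) = 0 := by
      apply ci_irr_ne (hirr θ hθ) isIrr_one
      intro h
      apply hconjne θ hθ
      rw [h]; funext x; simp [conjFun]
    rw [h1, sub_zero]
  · intro g hg
    exact ind_supp hαoff hα1 g hg
  · intro t ht hne
    obtain ⟨χ, hχ, rfl⟩ := (hT t).1 ht
    have hne' : χ ≠ θ := fun h => hne (by rw [h])
    have h1 : classInner (indFun L (indFun K (fun _ => 1) - θ)) (indFun L (χ - (dS χ : ℤ) • θ)) = dS χ := by
      rw [hTIi _ _ (IsGen.isClass (zs_gen (fun χ hχ => IsGen.of_irr (hirr χ hχ)) (hzd2 χ hχ).1)) hαoff (hoff _ (hzd2 χ hχ).1) hα1, zc,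
        ci_sub_left, ci_sub_right, ci_sub_right, ci_smul_right, ci_smul_right, one_orth hθ, one_orth hχ, ci_irr_self (hirr θ hθ),
        ci_irr_ne (hirr θ hθ) (hirr χ hχ) hne'.symm]
      simp
    rw [← hag' _ (hzd2 χ hχ), iso_diff hτ (zs_sub hχ) (zs_zsmul _ (zs_sub hθ)) (zs_neg (zs_zsmul _ (zs_sub hθ))), hτ.2.1 _ (zs_sub hθ), zc,
      ci_sub_right, ci_smul_right] at h1
    rw [hd χ hχ]
    push_cast at h1
    rw [Complex.conj_natCast] at h1
    linear_combination h1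
  · rw [conj_add, conj_ind, (hconj θ hθ).1, conj_sub, conj_ind]
    have h1 : (conjFun fun _ : K => (1 : ℂ)) = fun _ => 1 := by funext x; simp [conjFun]
    have h2 : τ θ - τ (conjFun θ) = indFun L (θ - conjFun θ) := by
      rw [← hag' _ (hzd θ hθ), iso_diff hτ (zs_sub hθ) (zs_sub (hconjS θ hθ)) (zs_neg (zs_sub (hconjS θ hθ)))]
    rw [h1, ind_sub]
    rw [ind_sub] at h2 ⊢
    linear_combination -h2
  · -- values of orthogonal functions
    intro φ hφ horth g hg hg1
    have hf : IsClassFunction L (fun x : L => φ x) := IsClass.res hφ L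
    have hlam : ∀ lam ∈ inducedIrrAbove K ⊥, classInner (fun x : L => φ x) lam = dS lam * classInner (fun x : L => φ x) θ := by
      intro lam hl
      have h1 : classInner φ (indFun L (lam - (dS lam : ℤ) • θ)) = 0 := by
        rw [← hag' _ (hzd2 lam hl), iso_diff hτ (zs_sub hl) (zs_zsmul _ (zs_sub hθ)) (zs_neg (zs_zsmul _ (zs_sub hθ))),
          hτ.2.1 _ (zs_sub hθ), zc, ci_sub_right, ci_smul_right, horth _ ((hT _).2 ⟨lam, hl, rfl⟩), horth _ ((hT _).2 ⟨θ, hθ, rfl⟩)]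
        simp
      rw [frobenius' L _ φ hφ, zc, ci_sub_right, ci_smul_right] at h1
      push_cast at h1
      rw [Complex.conj_natCast] at h1
      linear_combination h1
    have hval := diff_val hf K (classInner (fun x : L => φ x) θ / K.index) (by
      intro lam hl hz
      have hlS := mem_S hC hl hz
      rw [hlam lam hlS, (hdS lam hlS).2]
      field_simp)
    obtain ⟨v, hv⟩ : ∃ v : ℂ, ∀ z ∈ K, z ≠ 1 → φ (z : L) = v :=
      ⟨φ 1 - classInner (fun x : L => φ x) θ / K.index * Nat.card L, fun z hz hz1 => by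
        have := hval z hz hz1
        rw [OneMemClass.coe_one] at this
        linear_combination -this⟩
    rw [frobenius' L _ φ hφ, inner_const v]
    · obtain ⟨z, hz, rfl⟩ := hg
      have h1 : classInner (fun _ => (1 : ℂ)) (indFun K (fun _ => 1) - θ) = 1 := by
        rw [← ci_conj_symm, ci_sub_left, one_one]
        have h1 : classInner θ (fun _ => (1 : ℂ)) = 0 := by
          apply ci_irr_ne (hirr θ hθ) isIrr_one
          intro h
          apply hconjne θ hθ
          rw [h]; funext x; simp [conjFun]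
        rw [h1, sub_zero, map_one]
      rw [h1, mul_one]
      exact hv z hz fun h => hg1 (by rw [h]; rfl)
    · intro x hx
      apply hv x
      · by_contra hxK
        exact hx (hαoff x hxK)
      · rintro rfl
        exact hx hα1
  · -- values of ψ
    intro c hc
    have hψc : IsClassFunction G (τ θ) := (hpm θ hθ).isClass
    have hf : IsClassFunction L ((fun x : L => τ θ x) - θ) := isClass_sub _ _ (IsClass.res hψc L) (IsIrr.isClass (hirr θ hθ))
    have hlam : ∀ lam ∈ inducedIrrAbove K ⊥, classInner ((fun x : L => τ θ x) - θ) lam =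
        dS lam * (classInner (fun x : L => τ θ x) θ - 1) := by
      intro lam hl
      by_cases hlt : lam = θ
      · rw [hlt, hdθ, ci_sub_left, ci_irr_self (hirr θ hθ)]; simp
      have h1 : classInner (τ θ) (indFun L (lam - (dS lam : ℤ) • θ)) = -(dS lam : ℂ) := by
        rw [← hag' _ (hzd2 lam hl), iso_diff hτ (zs_sub hl) (zs_zsmul _ (zs_sub hθ)) (zs_neg (zs_zsmul _ (zs_sub hθ))),
          hτ.2.1 _ (zs_sub hθ), zc, ci_sub_right, ci_smul_right, hin θ hθ lam hl, hin θ hθ θ hθ, ci_irr_self (hirr θ hθ),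
          ci_irr_ne (hirr θ hθ) (hirr lam hl) (fun h => hlt h.symm)]
        simp
      rw [frobenius' L _ (τ θ) hψc, zc, ci_sub_right, ci_smul_right] at h1
      push_cast at h1
      rw [Complex.conj_natCast] at h1
      rw [ci_sub_left, ci_irr_ne (hirr θ hθ) (hirr lam hl) (fun h => hlt h.symm)]
      linear_combination h1
    have hval := diff_val hf K ((classInner (fun x : L => τ θ x) θ - 1) / K.index) (by
      intro lam hl hz
      have hlS := mem_S hC hl hz
      rw [hlam lam hlS, (hdS lam hlS).2]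
      field_simp)
    obtain ⟨v, hv⟩ : ∃ v : ℂ, ∀ z ∈ K, z ≠ 1 → τ θ (z : L) - θ z = v :=
      ⟨((fun x : L => τ θ x) - θ) 1 - (classInner (fun x : L => τ θ x) θ - 1) / K.index * Nat.card L, fun z hz hz1 => by
        have := hval z hz hz1
        rw [Pi.sub_apply _ _ z] at this
        linear_combination -this⟩
    have hvc : v = c := by
      rw [← hc, frobenius' L _ (τ θ) hψc]
      have h1 : classInner ((fun x : L => τ θ x) - θ) (indFun K (fun _ => 1) - θ) =
          v * classInner (fun _ => 1) (indFun K (fun _ => 1) - θ) := by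
        apply inner_const
        intro x hx
        apply hv x
        · by_contra hxK
          exact hx (hαoff x hxK)
        · rintro rfl
          exact hx hα1
      have h2 : classInner (fun _ => (1 : ℂ)) (indFun K (fun _ => 1) - θ) = 1 := by
        rw [← ci_conj_symm, ci_sub_left, one_one]
        have h1 : classInner θ (fun _ => (1 : ℂ)) = 0 := by
          apply ci_irr_ne (hirr θ hθ) isIrr_one
          intro h
          apply hconjne θ hθ
          rw [h]; funext x; simp [conjFun]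
        rw [h1, sub_zero, map_one]
      have h3 : classInner θ (indFun K (fun _ => 1) - θ) = -1 := by
        rw [ci_sub_right, ← ci_conj_symm, one_orth hθ, map_zero, ci_irr_self (hirr θ hθ)]; ring
      rw [h2, mul_one, ci_sub_left, h3] at h1
      linear_combination -h1
    subst hvc
    have hK' : ∀ g : G, (g ∈ K.map L.subtype ∧ g ≠ 1) ↔ (g ∈ K.map L.subtype ∧ g ≠ 1) := fun g => Iff.rfl
    have h1 : ∑ g : G, (if g ∈ K.map L.subtype ∧ g ≠ 1 then τ θ g * conj (τ θ g) else 0) =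
        ∑ g : G, (if g ∈ K.map L.subtype then (if g ≠ 1 then τ θ g * conj (τ θ g) else 0) else 0) := by
      refine Finset.sum_congr rfl fun g _ => ?_
      by_cases h1 : g ∈ K.map L.subtype <;> by_cases h2 : g ≠ 1 <;> simp [h1, h2]
    have hcard : Nat.card (K.map L.subtype) = Nat.card K :=
      Nat.card_congr (K.equivMapOfInjective L.subtype L.subtype_injective).symm.toEquiv
    have h2 : ∀ k : K, (if (((k : L) : G)) ≠ 1 then τ θ k * conj (τ θ k) else 0) =
        (θ k + c) * conj (θ k + c) - (if (k : K) = 1 then ((K.index : ℂ) + c) ^ 2 else 0) := by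
      intro k
      by_cases hk : k = 1
      · rw [if_pos hk, if_neg (by rw [hk]; simp), hk, OneMemClass.coe_one, hθe]
        simp; ring
      · have hk1 : (((k : L) : G)) ≠ 1 := fun h => hk (Subtype.ext (Subtype.ext h))
        have hk2 : (k : L) ≠ 1 := fun h => hk (Subtype.ext h)
        rw [if_neg hk, if_pos hk1, sub_zero]
        have := hv k k.2 hk2
        have h3 : τ θ (k : L) = θ k + c := by linear_combination this
        rw [h3]
    have hθoff : ∀ x : L, x ∉ K → θ x = 0 := hoff θ (zs_sub hθ)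
    have s1 : ∑ k : K, θ k = 0 := by
      rw [← sum_K hθoff]
      have h1 : classInner θ (fun _ => (1 : ℂ)) = 0 := by
        apply ci_irr_ne (hirr θ hθ) isIrr_one
        intro h
        apply hconjne θ hθ
        rw [h]; funext x; simp [conjFun]
      rw [classInner] at h1
      simp only [map_one, mul_one] at h1
      rcases mul_eq_zero.1 h1 with h2 | h2
      · exact absurd h2 (inv_ne_zero (by exact_mod_cast Nat.card_pos.ne'))
      · exact h2
    have s2 : ∑ k : K, θ k * conj (θ k) = (K.index : ℂ) * Nat.card K := by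
      rw [← sum_K (f := fun x : L => θ x * conj (θ x)) (fun x hx => by rw [hθoff x hx, zero_mul])]
      have h1 := ci_irr_self (hirr θ hθ)
      rw [classInner] at h1
      have h2 : (Nat.card L : ℂ) ≠ 0 := by exact_mod_cast Nat.card_pos.ne'
      have h3 : (K.index : ℂ) * Nat.card K = Nat.card L := by
        rw [← K.card_mul_index]; push_cast; ring
      rw [h3]
      field_simp at h1
      exact h1
    have s3 : ∑ k : K, conj (θ k) = 0 := by rw [← map_sum, s1, map_zero]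
    rw [h1, sum_H, Finset.sum_congr rfl fun k _ => h2 k, Finset.sum_sub_distrib, Finset.sum_ite_eq' Finset.univ (1 : K),
      if_pos (Finset.mem_univ _), hcard]
    have h4 : ∑ k : K, (θ k + (c : ℂ)) * conj (θ k + c) =
        ∑ k : K, (θ k * conj (θ k) + c * conj (θ k) + c * θ k + c ^ 2) := by
      refine Finset.sum_congr rfl fun k _ => ?_
      rw [map_add]
      have : conj ((c : ℤ) : ℂ) = c := by simp
      rw [this]; ring
    rw [h4, Finset.sum_add_distrib, Finset.sum_add_distrib, Finset.sum_add_distrib, ← Finset.mul_sum, ← Finset.mul_sum, s1, s2, s3,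
      Finset.sum_const, Finset.card_univ, nsmul_eq_mul, ← Nat.card_eq_fintype_card]
    ring

end Pair

end Cfsg.Agent.H10.Fin1
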