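import Mathlib
import Cfsg.Prelude.Def_OddOrderChar
import Cfsg.Prelude.Def_OddOrderLocal
import Cfsg.Agent.H10_Fin1

/-!
H10_Fin2: counting and parity lemmas for the final argument of the odd CN theorem.
-/

set_option autoImplicit false
set_option linter.style.haveILetI false
set_option linter.unusedSectionVars false

namespace Cfsg.Agent.H10.Fin2

open Cfsg Cfsg.Agent.H3.CharBasic Cfsg.Agent.H3.CharIrr Cfsg.Agent.H3.CharComplete
  Cfsg.Agent.H3.CharMult Cfsg.Agent.H3.CharInd Cfsg.Agent.H3.CharInt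
  Cfsg.Agent.H10.Coh Cfsg.Agent.H10.CycEx3 Cfsg.Agent.H10.Coh4
  Cfsg.Agent.H10.PM Cfsg.Agent.H10.Sib2 Cfsg.Agent.H10.Fin1
open scoped ComplexConjugate

variable {G : Type*} [Group G] [Fintype G]

open Classical in
/-- number of elements conjugating `g` into `H` -/
theorem card_conj {H L : Subgroup G} (hTI : IsTISubset (H : Set G)) (hN : Subgroup.normalizer (H : Set G) = L) (g : G) :
    (Finset.univ.filter (fun x : G => x * g * x⁻¹ ∈ H ∧ x * g * x⁻¹ ≠ 1)).card = if IsIn H g then Nat.card L else 0 := by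
  split_ifs with h
  · obtain ⟨hg1, x₀, hx₀⟩ := h
    have h1 : (Finset.univ.filter (fun x : G => x * g * x⁻¹ ∈ H ∧ x * g * x⁻¹ ≠ 1)).card =
        (Finset.univ.filter (fun y : G => y ∈ L)).card := by
      apply Finset.card_bij (fun x _ => x * x₀⁻¹)
      · intro x hx
        obtain ⟨h1, h2⟩ := (Finset.mem_filter.1 hx).2
        refine Finset.mem_filter.2 ⟨Finset.mem_univ _, ?_⟩
        by_contra hL
        have h3 := hTI (x * x₀⁻¹) (by rw [hN]; exact hL) (x₀ * g * x₀⁻¹) hx₀ (by
          have : x * x₀⁻¹ * (x₀ * g * x₀⁻¹) * (x * x₀⁻¹)⁻¹ = x * g * x⁻¹ := by group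
          rw [this]; exact h1)
        apply hg1
        have h4 : g = x₀⁻¹ * (x₀ * g * x₀⁻¹) * x₀ := by group
        rw [h4, h3]; group
      · intro a _ b _ h
        exact mul_right_cancel h
      · intro y hy
        have hy' : y ∈ L := (Finset.mem_filter.1 hy).2
        refine ⟨y * x₀, Finset.mem_filter.2 ⟨Finset.mem_univ _, ?_, ?_⟩, by group⟩
        · have : y * x₀ * g * (y * x₀)⁻¹ = y * (x₀ * g * x₀⁻¹) * y⁻¹ := by group
          rw [this]
          rw [← hN] at hy'
          exact (Subgroup.mem_set_normalizer_iff.1 hy' _).1 hx₀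
        · intro h
          apply hg1
          have h4 : g = (y * x₀)⁻¹ * (y * x₀ * g * (y * x₀)⁻¹) * (y * x₀) := by group
          rw [h4, h]; group
    rw [h1, Nat.card_eq_fintype_card, Fintype.card_subtype]
  · rw [Finset.card_eq_zero, Finset.filter_eq_empty_iff]
    rintro x _ ⟨h1, h2⟩
    apply h
    refine ⟨?_, x, h1⟩
    rintro rfl
    exact h2 (by group)

open Classical in
/-- sums over the conjugates of a TI-subset -/
theorem sum_TI {H L : Subgroup G} (hTI : IsTISubset (H : Set G)) (hN : Subgroup.normalizer (H : Set G) = L) {F : G → ℂ}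
    (hF : IsClassFunction G F) :
    (Nat.card L : ℂ) * ∑ g : G, (if IsIn H g then F g else 0) =
      (Nat.card G : ℂ) * ∑ g : G, (if g ∈ H ∧ g ≠ 1 then F g else 0) := by
  have h1 : ∑ x : G, ∑ g : G, (if x * g * x⁻¹ ∈ H ∧ x * g * x⁻¹ ≠ 1 then F (x * g * x⁻¹) else 0) =
      (Nat.card G : ℂ) * ∑ g : G, (if g ∈ H ∧ g ≠ 1 then F g else 0) := by
    rw [Finset.sum_congr rfl (g := fun _ => ∑ g : G, (if g ∈ H ∧ g ≠ 1 then F g else 0)), Finset.sum_const, Finset.card_univ,
      nsmul_eq_mul, Nat.card_eq_fintype_card]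
    intro x _
    exact Equiv.sum_comp (MulAut.conj x).toEquiv (fun g => if g ∈ H ∧ g ≠ 1 then F g else 0)
  rw [← h1, Finset.sum_comm, Finset.mul_sum]
  refine Finset.sum_congr rfl fun g _ => ?_
  have h2 : ∑ x : G, (if x * g * x⁻¹ ∈ H ∧ x * g * x⁻¹ ≠ 1 then F (x * g * x⁻¹) else 0) =
      ((Finset.univ.filter (fun x : G => x * g * x⁻¹ ∈ H ∧ x * g * x⁻¹ ≠ 1)).card : ℂ) * F g := by
    rw [Finset.card_filter]
    push_cast
    rw [Finset.sum_mul]
    refine Finset.sum_congr rfl fun x _ => ?_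
    split_ifs
    · rw [hF, one_mul]
    · rw [zero_mul]
  rw [h2, card_conj hTI hN]
  split_ifs <;> simp

theorem isIn_order_dvd {H : Subgroup G} {g : G} (h : IsIn H g) : orderOf g ∣ Nat.card H := by
  obtain ⟨-, x, hx⟩ := h
  have h1 : orderOf (x * g * x⁻¹) = orderOf g := by
    have : x * g * x⁻¹ = MulAut.conj x g := rfl
    rw [this]
    exact MulEquiv.orderOf_eq _ _
  rw [← h1]
  have := orderOf_dvd_natCard (⟨_, hx⟩ : H)
  rwa [Subgroup.orderOf_mk] at this

theorem isIn_disjoint {H H' : Subgroup G} (hcop : Nat.Coprime (Nat.card H) (Nat.card H')) {g : G} (h : IsIn H g) : ¬ IsIn H' g := by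
  intro h'
  apply h.1
  rw [← orderOf_eq_one_iff]
  exact Nat.eq_one_of_dvd_coprimes hcop (isIn_order_dvd h) (isIn_order_dvd h')

/-- functions with disjoint supports -/
theorem inner_disj {H H' : Subgroup G} (hcop : Nat.Coprime (Nat.card H) (Nat.card H')) {f f' : G → ℂ}
    (hf : ∀ g, ¬ IsIn H g → f g = 0) (hf' : ∀ g, ¬ IsIn H' g → f' g = 0) : classInner f f' = 0 := by
  rw [classInner, Finset.sum_eq_zero, mul_zero]
  intro g _
  by_cases h : IsIn H g
  · rw [hf' g (isIn_disjoint hcop h), map_zero, mul_zero]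
  · rw [hf g h, zero_mul]

open Classical in
/-- class formula -/
theorem count {ι : Type*} [Fintype ι] {H L : ι → Subgroup G} (hTI : ∀ i, IsTISubset (H i : Set G) ∧ Subgroup.normalizer (H i : Set G) = L i)
    (hcop : ∀ i j, i ≠ j → Nat.Coprime (Nat.card (H i)) (Nat.card (H j)))
    (hcover : ∀ g : G, g ≠ 1 → ∃ i, ∃ x : G, x * g * x⁻¹ ∈ H i) {F : G → ℂ} (hF : IsClassFunction G F) :
    (Nat.card G : ℂ)⁻¹ * ∑ g : G, F g = (Nat.card G : ℂ)⁻¹ * F 1 +
      ∑ i, (Nat.card (L i) : ℂ)⁻¹ * ∑ g : G, (if g ∈ H i ∧ g ≠ 1 then F g else 0) := by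
  have h1 : ∑ g : G, F g = F 1 + ∑ i, ∑ g : G, (if IsIn (H i) g then F g else 0) := by
    rw [Finset.sum_comm]
    have h2 : ∀ g : G, F g = (if g = 1 then F g else 0) + ∑ i, (if IsIn (H i) g then F g else 0) := by
      intro g
      by_cases hg : g = 1
      · rw [if_pos hg, Finset.sum_eq_zero, add_zero]
        intro i _
        rw [if_neg (fun h => h.1 hg)]
      · obtain ⟨i, x, hx⟩ := hcover g hg
        have hi : IsIn (H i) g := ⟨hg, x, hx⟩
        rw [if_neg hg, zero_add, Finset.sum_eq_single i, if_pos hi]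
        · intro j _ hj
          rw [if_neg (isIn_disjoint (hcop i j hj.symm) hi)]
        · intro h; exact absurd (Finset.mem_univ _) h
    rw [Finset.sum_congr rfl fun g _ => h2 g, Finset.sum_add_distrib, Finset.sum_ite_eq' Finset.univ (1 : G), if_pos (Finset.mem_univ _)]
  rw [h1, mul_add, Finset.mul_sum]
  congr 1
  refine Finset.sum_congr rfl fun i _ => ?_
  have h3 := sum_TI (hTI i).1 (hTI i).2 hF
  have h4 : (Nat.card G : ℂ) ≠ 0 := by exact_mod_cast Nat.card_pos.ne'
  have h5 : (Nat.card (L i) : ℂ) ≠ 0 := by exact_mod_cast Nat.card_pos.ne'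
  field_simp
  linear_combination h3

/-- parity of inner products of real generalized characters of odd order groups -/
theorem parity (hodd : Odd (Nat.card G)) {β β' : G → ℂ} (hβ : IsGeneralizedCharacter G β) (hβ' : IsGeneralizedCharacter G β')
    (hr : conjFun β = β) (hr' : conjFun β' = β') {m n k : ℤ} (hm : classInner β β' = m) (hn : classInner β (fun _ => 1) = n)
    (hk : classInner β' (fun _ => 1) = k) : Even (m - n * k) := by
  classical
  haveI := Fintype.ofFinite (IrrCharacter G)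
  have h1 : ∀ χ : IrrCharacter G, ∃ b : ℤ, classInner β χ = b := fun χ => ci_gen_int hβ (IsGen.of_irr χ.2)
  have h2 : ∀ χ : IrrCharacter G, ∃ b : ℤ, classInner β' χ = b := fun χ => ci_gen_int hβ' (IsGen.of_irr χ.2)
  choose b hb using h1
  choose b' hb' using h2
  let o : IrrCharacter G := ⟨fun _ => 1, isIrr_one⟩
  have hbo : b o = n := by
    have : ((b o : ℤ) : ℂ) = n := by rw [← hb, ← hn]
    exact_mod_cast this
  have hbo' : b' o = k := by
    have : ((b' o : ℤ) : ℂ) = k := by rw [← hb', ← hk]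
    exact_mod_cast this
  let cj : IrrCharacter G → IrrCharacter G := fun χ => ⟨conjFun (χ : G → ℂ), IsIrr.conj χ.2⟩
  have hcj : ∀ χ, cj (cj χ) = χ := fun χ => Subtype.ext (conj_conj' _)
  have hbc : ∀ χ, b (cj χ) = b χ := by
    intro χ
    have h3 : classInner β (conjFun (χ : G → ℂ)) = classInner β χ := by
      conv_lhs => rw [← hr]
      rw [conj_inner, hb]; simp
    have : ((b (cj χ) : ℤ) : ℂ) = b χ := by rw [← hb, ← hb, ← h3]
    exact_mod_cast this
  have hbc' : ∀ χ, b' (cj χ) = b' χ := by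
    intro χ
    have h3 : classInner β' (conjFun (χ : G → ℂ)) = classInner β' χ := by
      conv_lhs => rw [← hr']
      rw [conj_inner, hb']; simp
    have : ((b' (cj χ) : ℤ) : ℂ) = b' χ := by rw [← hb', ← hb', ← h3]
    exact_mod_cast this
  have hsum : m = ∑ χ : IrrCharacter G, b χ * b' χ := by
    have h3 := ci_eq_sum β β' (IsGen.isClass hβ)
    rw [hm] at h3
    have h4 : (m : ℂ) = ((∑ χ : IrrCharacter G, b χ * b' χ : ℤ) : ℂ) := by
      rw [h3]
      push_cast
      refine Finset.sum_congr rfl fun χ _ => ?_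
      rw [hb, hb']; simp
    exact_mod_cast h4
  rw [← Finset.add_sum_erase _ _ (Finset.mem_univ o), hbo, hbo'] at hsum
  have h5 : m - n * k = ∑ χ ∈ Finset.univ.erase o, b χ * b' χ := by linarith
  rw [h5, even_iff_two_dvd]
  have h6 : ((∑ χ ∈ Finset.univ.erase o, b χ * b' χ : ℤ) : ZMod 2) = 0 := by
    push_cast
    refine Finset.sum_involution (fun χ _ => cj χ) ?_ ?_ ?_ ?_
    · intro χ _
      show (b χ : ZMod 2) * b' χ + (b (cj χ) : ZMod 2) * b' (cj χ) = 0
      rw [hbc, hbc']
      exact CharTwo.add_self_eq_zero _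
    · intro χ hχ _ h
      have h7 : (χ : G → ℂ) ≠ fun _ => 1 := fun h8 => (Finset.mem_erase.1 hχ).1 (Subtype.ext h8)
      exact irr_ne_conj hodd χ.2 h7 (congrArg Subtype.val h)
    · intro χ hχ
      refine Finset.mem_erase.2 ⟨fun h => (Finset.mem_erase.1 hχ).1 ?_, Finset.mem_univ _⟩
      rw [← hcj χ]
      show cj (cj χ) = o
      rw [show cj χ = o from h]
      apply Subtype.ext
      funext x
      show conj (1 : ℂ) = 1
      simp
    · intro χ _
      exact hcj χ
  exact_mod_cast (ZMod.intCast_zmod_eq_zero_iff_dvd _ 2).1 h6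

end Cfsg.Agent.H10.Fin2
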