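import Mathlib
import Cfsg.Prelude.Def_OddOrderChar
import Cfsg.Prelude.Def_OddOrderLocal
import Cfsg.Agent.H10_Fin2

/-!
H10_Fin3: the final argument of the odd CN theorem.
-/

set_option autoImplicit false
set_option linter.style.haveILetI false
set_option linter.unusedSectionVars false

namespace Cfsg.Agent.H10.Fin3

open Cfsg Cfsg.Agent.H3.CharBasic Cfsg.Agent.H3.CharIrr Cfsg.Agent.H3.CharComplete
  Cfsg.Agent.H3.CharMult Cfsg.Agent.H3.CharInd Cfsg.Agent.H3.CharInt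
  Cfsg.Agent.H10.Coh Cfsg.Agent.H10.Coh2 Cfsg.Agent.H10.CycEx3 Cfsg.Agent.H10.Coh4
  Cfsg.Agent.H10.PM Cfsg.Agent.H10.Sib2 Cfsg.Agent.H10.Fin1 Cfsg.Agent.H10.Fin2
open scoped ComplexConjugate

theorem arith {h e : ℝ} (he : 3 ≤ e) (hh : 2 * e + 1 ≤ h) (h1 : 1 ≤ (h - 1) / (h * e) + e / h + (e - 1) / (h + 1)) : False := by
  have h0 : 0 < h := by linarith
  have h2 : (e - 1) / (h + 1) < (e - 1) / h := div_lt_div_of_pos_left (by linarith) h0 (by linarith)
  have h3 : 1 < (h - 1) / (h * e) + e / h + (e - 1) / h := by linarith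
  have e0 : 0 < e := by linarith
  have h4 : (h - 1) / (h * e) + e / h + (e - 1) / h = ((h - 1) + e * e + (e - 1) * e) / (h * e) := by
    field_simp
  rw [h4, one_lt_div (by positivity)] at h3
  nlinarith

variable {G : Type*} [Group G] [Fintype G] (hodd : Odd (Nat.card G)) {ι : Type*} [Fintype ι] [Nonempty ι]
  {L H : ι → Subgroup G} {e : ι → ℕ} (hLe : ∀ i, Nat.card (L i) = Nat.card (H i) * e i)
  (hTI : ∀ i, IsTISubset (H i : Set G) ∧ Subgroup.normalizer (H i : Set G) = L i)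
  (hcop : ∀ i j, i ≠ j → Nat.Coprime (Nat.card (H i)) (Nat.card (H j)))
  (hcover : ∀ g : G, g ≠ 1 → ∃ i, ∃ x : G, x * g * x⁻¹ ∈ H i)
  (he3 : ∀ i, 3 ≤ e i) (hh : ∀ i, 2 * e i + 1 ≤ Nat.card (H i))
  {T : ι → Finset (G → ℂ)} {d : ι → (G → ℂ) → ℕ} {ψ X : ι → (G → ℂ)} (hPD : ∀ i, PD (H i) (e i) (T i) (d i) (ψ i) (X i))

include hcop hPD in
theorem B1 : ∀ i j, i ≠ j → ∀ t ∈ T i, ∀ t' ∈ T j, classInner t t' = 0 := by
  intro i j hij t ht t' ht'
  have h1 : classInner (t - conjFun t) (t' - conjFun t') = 0 := inner_disj (hcop i j hij)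
    (fun g hg => by rw [Pi.sub_apply, (hPD i).conj_supp t ht g hg, sub_self])
    (fun g hg => by rw [Pi.sub_apply, (hPD j).conj_supp t' ht' g hg, sub_self])
  have hp := (hPD i).pm t ht
  have hp' := (hPD j).pm t' ht'
  have hc1 := (hPD i).conj_orth t ht
  have hc2 : classInner t (conjFun t) = 0 := by rw [← ci_conj_symm, hc1, map_zero]
  have hc3 : classInner (conjFun t) (conjFun t) = 1 := by rw [conj_inner, hp.norm, map_one]
  rcases Pm.inner hp hp' with h | ⟨h, -⟩ | ⟨h, -⟩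
  · exact h
  · exfalso
    rw [h, ci_sub_left, ci_sub_right, ci_sub_right, hp.norm, hc1, hc2, hc3] at h1
    norm_num at h1
  · exfalso
    have h2 : -t - conjFun (-t) = -(t - conjFun t) := by rw [conj_neg']; abel
    rw [h, h2, ci_neg_right', ci_sub_left, ci_sub_right, ci_sub_right, hp.norm, hc1, hc2, hc3] at h1
    norm_num at h1

include hPD in
theorem B2 : ∀ i, ∀ t ∈ T i, classInner t (fun _ => 1) = 0 := by
  intro i t ht
  have hp := (hPD i).pm t ht
  have hc1 := (hPD i).conj_orth t ht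
  rcases Pm.inner hp (Pm.of_irr isIrr_one) with h | ⟨h, -⟩ | ⟨h, -⟩
  · exact h
  · exfalso
    have h2 : conjFun t = t := by rw [← h]; funext x; simp [conjFun]
    rw [h2, hp.norm] at hc1
    exact one_ne_zero hc1
  · exfalso
    have h2 : conjFun t = t := by
      have h3 : t = -(fun _ => 1) := by rw [h, neg_neg]
      rw [h3]; funext x; simp [conjFun]
    rw [h2, hp.norm] at hc1
    exact one_ne_zero hc1

include hcop hPD in
theorem B3 : ∀ i j, i ≠ j → ∀ t ∈ T j, classInner (X i) t = d j t * classInner (X i) (ψ j) := by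
  intro i j hij t ht
  have h1 : classInner (X i) (t - (d j t : ℂ) • ψ j) = 0 := inner_disj (hcop i j hij) (hPD i).suppX
    (fun g hg => by rw [Pi.sub_apply, (hPD j).supp t ht g hg, Pi.smul_apply, smul_eq_mul, sub_self])
  rw [ci_sub_right, ci_smul_right, Complex.conj_natCast] at h1
  linear_combination h1

include hcop hPD in
theorem B3' : ∀ i j, i ≠ j → classInner (X i) (X j) = 0 := fun i j hij =>
  inner_disj (hcop i j hij) (hPD i).suppX (hPD j).suppX

include hPD in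
theorem exists_k : ∃ k : ι → ι → ℤ, ∀ i j, classInner (X i) (ψ j) = k i j := by
  have : ∀ i j, ∃ k : ℤ, classInner (X i) (ψ j) = k := fun i j =>
    ci_gen_int (hPD i).gen ((hPD j).pm _ (hPD j).mem).gen
  choose k hk using this
  exact ⟨k, hk⟩

include hodd hcop hPD in
theorem B4 {k : ι → ι → ℤ} (hk : ∀ i j, classInner (X i) (ψ j) = k i j) : ∀ i j, i ≠ j → Even (k i j + k j i - 1) := by
  intro i j hij
  have hg : ∀ i, IsGeneralizedCharacter G (X i + ψ i) := fun i => IsGen.add (hPD i).gen ((hPD i).pm _ (hPD i).mem).gen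
  have h1 : ∀ i, classInner (X i + ψ i) (fun _ => 1) = ((1 : ℤ) : ℂ) := by
    intro i
    rw [ci_add_left, (hPD i).oneX, B2 hPD i _ (hPD i).mem]; simp
  have h2 : classInner (X i + ψ i) (X j + ψ j) = ((k i j + k j i : ℤ) : ℂ) := by
    rw [ci_add_left, ci_add_right, ci_add_right, B3' hcop hPD i j hij, hk, B1 hcop hPD i j hij _ (hPD i).mem _ (hPD j).mem,
      ← ci_conj_symm, hk]
    simp
  have h3 := parity hodd (hg i) (hg j) (hPD i).real (hPD j).real h2 (h1 i) (h1 j)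
  rwa [one_mul] at h3

include hcop hPD in
theorem B5 {k : ι → ι → ℤ} (hk : ∀ i j, classInner (X i) (ψ j) = k i j) (i : ι) [DecidableEq ι] :
    (k i i : ℝ) ^ 2 + ((k i i : ℝ) + 1) ^ 2 * (∑ t ∈ T i, (d i t : ℝ) ^ 2 - 1) +
      ∑ j ∈ Finset.univ.erase i, (k i j : ℝ) ^ 2 * ∑ t ∈ T j, (d j t : ℝ) ^ 2 ≤ e i := by
  classical
  have hnot : (fun _ : G => (1 : ℂ)) ∉ Finset.univ.biUnion T := by
    intro h
    obtain ⟨j, -, hj⟩ := Finset.mem_biUnion.1 h
    have := B2 hPD j _ hj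
    rw [ci_irr_self isIrr_one] at this
    exact one_ne_zero this
  have hdis : ((Finset.univ : Finset ι) : Set ι).PairwiseDisjoint T := by
    intro a _ b _ hab
    rw [Function.onFun, Finset.disjoint_left]
    intro t ht ht'
    have := B1 hcop hPD a b hab t ht t ht'
    rw [((hPD a).pm t ht).norm] at this
    exact one_ne_zero this
  set s : Finset (G → ℂ) := insert (fun _ => 1) (Finset.univ.biUnion T) with hs
  have hpms : ∀ t ∈ s, Pm t := by
    intro t ht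
    rcases Finset.mem_insert.1 ht with rfl | ht
    · exact Pm.of_irr isIrr_one
    · obtain ⟨j, -, hj⟩ := Finset.mem_biUnion.1 ht
      exact (hPD j).pm t hj
  have hon : ∀ a ∈ s, ∀ b ∈ s, classInner a b = if a = b then (((1 : ℝ)) : ℂ) else 0 := by
    intro a ha b hb
    split_ifs with hab
    · rw [hab, (hpms b hb).norm]; simp
    · rcases Finset.mem_insert.1 ha with rfl | ha' <;> rcases Finset.mem_insert.1 hb with rfl | hb'
      · exact absurd rfl hab
      · obtain ⟨j, -, hj⟩ := Finset.mem_biUnion.1 hb'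
        rw [← ci_conj_symm, B2 hPD j _ hj, map_zero]
      · obtain ⟨j, -, hj⟩ := Finset.mem_biUnion.1 ha'
        exact B2 hPD j _ hj
      · obtain ⟨j, -, hj⟩ := Finset.mem_biUnion.1 ha'
        obtain ⟨l, -, hl⟩ := Finset.mem_biUnion.1 hb'
        by_cases hjl : j = l
        · subst hjl
          exact (hPD j).orth a hj b hl hab
        · exact B1 hcop hPD j l hjl a hj b hl
  have hreal : ∀ t ∈ s, classInner (X i) t = (((classInner (X i) t).re : ℝ) : ℂ) := by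
    intro t ht
    obtain ⟨n, hn⟩ := ci_gen_int (hPD i).gen (hpms t ht).gen
    rw [hn]; simp
  have hb := bessel_le s (fun t => t) (X i) (fun t => (classInner (X i) t).re) (fun _ => 1)
    (fun a ha b hb => by rw [hon a ha b hb]; congr) (fun _ _ => one_pos) hreal
  rw [(hPD i).normX, hs, Finset.sum_insert hnot, Finset.sum_biUnion hdis, (hPD i).oneX, ← Finset.add_sum_erase _ _ (Finset.mem_univ i),
    ← Finset.add_sum_erase _ _ (hPD i).mem, hk i i] at hb
  have h1 : ∀ t ∈ (T i).erase (ψ i), (classInner (X i) t).re ^ 2 / 1 = ((k i i : ℝ) + 1) ^ 2 * (d i t : ℝ) ^ 2 := by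
    intro t ht
    obtain ⟨h2, h3⟩ := Finset.mem_erase.1 ht
    rw [(hPD i).innerX t h3 h2, hk i i]
    have : ((d i t : ℂ) * ((k i i : ℂ) + 1)) = (((d i t : ℝ) * ((k i i : ℝ) + 1) : ℝ) : ℂ) := by push_cast; ring
    rw [this, Complex.ofReal_re]; ring
  have h2 : ∀ j ∈ Finset.univ.erase i, ∑ t ∈ T j, (classInner (X i) t).re ^ 2 / 1 =
      (k i j : ℝ) ^ 2 * ∑ t ∈ T j, (d j t : ℝ) ^ 2 := by
    intro j hj
    rw [Finset.mul_sum]
    refine Finset.sum_congr rfl fun t ht => ?_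
    rw [B3 hcop hPD i j (Finset.mem_erase.1 hj).1.symm t ht, hk i j]
    have : ((d j t : ℂ) * (k i j : ℂ)) = (((d j t : ℝ) * (k i j : ℝ) : ℝ) : ℂ) := by push_cast; ring
    rw [this, Complex.ofReal_re]; ring
  rw [Finset.sum_congr rfl h1, Finset.sum_congr rfl h2, ← Finset.mul_sum] at hb
  have h3 := Finset.add_sum_erase (T i) (fun t => (d i t : ℝ) ^ 2) (hPD i).mem
  rw [(hPD i).dpsi] at h3
  have h4 : ∑ t ∈ (T i).erase (ψ i), (d i t : ℝ) ^ 2 = ∑ t ∈ T i, (d i t : ℝ) ^ 2 - 1 := by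
    rw [← h3]; push_cast; ring
  rw [h4] at hb
  simp only [Complex.add_re, Complex.natCast_re, Complex.one_re, Complex.intCast_re, div_one, one_pow] at hb
  linarith

include hTI hcop hcover in
theorem B7 : (Nat.card G : ℝ)⁻¹ + ∑ i, (Nat.card (L i) : ℝ)⁻¹ * ((Nat.card (H i) : ℝ) - 1) = 1 := by
  classical
  have h1 := count hTI hcop hcover (F := fun _ => 1) (fun _ _ => rfl)
  have h2 : ∀ i, ∑ g : G, (if g ∈ H i ∧ g ≠ 1 then (1 : ℂ) else 0) = (Nat.card (H i) : ℂ) - 1 := by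
    intro i
    have h3 : ∀ g : G, (if g ∈ H i ∧ g ≠ 1 then (1 : ℂ) else 0) = (if g ∈ H i then 1 else 0) - (if g = 1 then 1 else 0) := by
      intro g
      by_cases h1 : g = 1
      · rw [if_neg (fun h => h.2 h1), if_pos h1, if_pos (by rw [h1]; exact (H i).one_mem)]; ring
      · by_cases h2 : g ∈ H i
        · rw [if_pos ⟨h2, h1⟩, if_pos h2, if_neg h1]; ring
        · rw [if_neg (fun h => h2 h.1), if_neg h2, if_neg h1]; ring
    rw [Finset.sum_congr rfl fun g _ => h3 g, Finset.sum_sub_distrib, Finset.sum_ite_eq' Finset.univ (1 : G), if_pos (Finset.mem_univ _),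
      ← Finset.sum_filter, Finset.sum_const, nsmul_eq_mul, mul_one, Nat.card_eq_fintype_card, Fintype.card_subtype]
  have h5 : ∑ i, (Nat.card (L i) : ℂ)⁻¹ * ∑ g : G, (if g ∈ H i ∧ g ≠ 1 then (1 : ℂ) else 0) =
      ∑ i, (Nat.card (L i) : ℂ)⁻¹ * ((Nat.card (H i) : ℂ) - 1) := Finset.sum_congr rfl fun i _ => by rw [h2 i]
  rw [h5, Finset.sum_const, Finset.card_univ, nsmul_eq_mul, mul_one, mul_one, ← Nat.card_eq_fintype_card,
    inv_mul_cancel₀ (by exact_mod_cast Nat.card_pos.ne')] at h1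
  have h4 : (((Nat.card G : ℝ)⁻¹ + ∑ i, (Nat.card (L i) : ℝ)⁻¹ * ((Nat.card (H i) : ℝ) - 1) : ℝ) : ℂ) = ((1 : ℝ) : ℂ) := by
    push_cast
    exact h1.symm
  exact_mod_cast h4

include hTI hcop hcover hPD in
theorem B6 [DecidableEq ι] {k : ι → ι → ℤ} (hk : ∀ i j, classInner (X i) (ψ j) = k i j) (i : ι) : ∃ n : ℤ, n ≠ 0 ∧
    (1 : ℝ) = (Nat.card G : ℝ)⁻¹ * (n : ℝ) ^ 2 + ((Nat.card (L i) : ℝ)⁻¹ * ((e i : ℝ) * Nat.card (H i) +
      ((k i i : ℝ) + 1) ^ 2 * Nat.card (H i) - ((e i : ℝ) + ((k i i : ℝ) + 1)) ^ 2) +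
      ∑ j ∈ Finset.univ.erase i, (Nat.card (L j) : ℝ)⁻¹ * (((Nat.card (H j) : ℝ) - 1) * (k j i : ℝ) ^ 2)) := by
  classical
  obtain ⟨n, hn0, hn, -, -⟩ := Pm.one_int ((hPD i).pm _ (hPD i).mem)
  refine ⟨n, hn0, ?_⟩
  have hψc : IsClassFunction G (ψ i) := ((hPD i).pm _ (hPD i).mem).isClass
  have hF : IsClassFunction G (fun g => ψ i g * conj (ψ i g)) := by
    intro a b
    show ψ i (b * a * b⁻¹) * conj (ψ i (b * a * b⁻¹)) = _
    rw [hψc a b]
  have h1 := count hTI hcop hcover hF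
  have h0 : (Nat.card G : ℂ)⁻¹ * ∑ g : G, ψ i g * conj (ψ i g) = 1 := ((hPD i).pm _ (hPD i).mem).norm
  have hki : ∀ j, classInner (ψ i) (X j) = k j i := by
    intro j
    rw [← ci_conj_symm, hk]; simp
  have h2 : ∀ j ∈ Finset.univ.erase i, (Nat.card (L j) : ℂ)⁻¹ * ∑ g : G, (if g ∈ H j ∧ g ≠ 1 then ψ i g * conj (ψ i g) else 0) =
      (Nat.card (L j) : ℂ)⁻¹ * (((Nat.card (H j) : ℂ) - 1) * (k j i : ℂ) ^ 2) := by
    intro j hj
    congr 1
    have hji : j ≠ i := (Finset.mem_erase.1 hj).1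
    have h3 : ∀ g : G, (if g ∈ H j ∧ g ≠ 1 then ψ i g * conj (ψ i g) else 0) =
        ((if g ∈ H j then 1 else 0) - (if g = 1 then 1 else 0)) * (k j i : ℂ) ^ 2 := by
      intro g
      by_cases h1 : g = 1
      · rw [if_neg (fun h => h.2 h1), if_pos h1, if_pos (by rw [h1]; exact (H j).one_mem)]; ring
      · by_cases h2 : g ∈ H j
        · have h4 := (hPD j).valo (ψ i) hψc (fun t ht => B1 hcop hPD i j hji.symm _ (hPD i).mem t ht) g h2 h1
          rw [hki] at h4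
          rw [if_pos ⟨h2, h1⟩, if_pos h2, if_neg h1, h4]
          simp; ring
        · rw [if_neg (fun h => h2 h.1), if_neg h2, if_neg h1]; ring
    rw [Finset.sum_congr rfl fun g _ => h3 g, ← Finset.sum_mul, Finset.sum_sub_distrib, Finset.sum_ite_eq' Finset.univ (1 : G), if_pos (Finset.mem_univ _),
      ← Finset.sum_filter, Finset.sum_const, nsmul_eq_mul, mul_one, Nat.card_eq_fintype_card, Fintype.card_subtype]
  have h3 := (hPD i).vals (k i i + 1) (by rw [hki]; push_cast; ring)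
  rw [h0, ← Finset.add_sum_erase _ _ (Finset.mem_univ i), Finset.sum_congr rfl h2, h3, hn] at h1
  have h4 : ((1 : ℝ) : ℂ) = (((Nat.card G : ℝ)⁻¹ * (n : ℝ) ^ 2 + ((Nat.card (L i) : ℝ)⁻¹ * ((e i : ℝ) * Nat.card (H i) +
      ((k i i : ℝ) + 1) ^ 2 * Nat.card (H i) - ((e i : ℝ) + ((k i i : ℝ) + 1)) ^ 2) +
      ∑ j ∈ Finset.univ.erase i, (Nat.card (L j) : ℝ)⁻¹ * (((Nat.card (H j) : ℝ) - 1) * (k j i : ℝ) ^ 2)) : ℝ) : ℂ) := by
    have : conj ((n : ℤ) : ℂ) = n := by simp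
    rw [this, ← pow_two] at h1
    push_cast at h1 ⊢
    exact h1
  exact_mod_cast h4

include hodd hLe hTI hcop hcover he3 hh hPD in
theorem final : False := by
  classical
  obtain ⟨k, hk⟩ := exists_k hPD
  obtain ⟨i, -, hmin⟩ := Finset.exists_min_image Finset.univ (fun i => Nat.card (H i)) Finset.univ_nonempty
  have b4 := B4 hodd hcop hPD hk
  have b5 := B5 hcop hPD hk i
  obtain ⟨n, hn0, b6⟩ := B6 hTI hcop hcover hPD hk i
  have b7 := B7 hTI hcop hcover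
  have hhR : ∀ j, 2 * (e j : ℝ) + 1 ≤ Nat.card (H j) := fun j => by exact_mod_cast hh j
  have heR : ∀ j, (3 : ℝ) ≤ e j := fun j => by exact_mod_cast he3 j
  have hh0 : ∀ j, (0 : ℝ) < Nat.card (H j) := fun j => by linarith [hhR j, heR j]
  have he0 : ∀ j, (0 : ℝ) < e j := fun j => by linarith [heR j]
  have hLR : ∀ j, (Nat.card (L j) : ℝ) = Nat.card (H j) * e j := fun j => by exact_mod_cast hLe j
  have hw : ∀ j, ∑ t ∈ T j, (d j t : ℝ) ^ 2 = ((Nat.card (H j) : ℝ) - 1) / e j := by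
    intro j
    rw [eq_div_iff (he0 j).ne', mul_comm]
    exact (hPD j).sumd
  have hN : (0 : ℝ) < Nat.card G := by exact_mod_cast Nat.card_pos
  -- the x_j
  have hx0 : ∀ j, (0 : ℝ) ≤ (Nat.card (L j) : ℝ)⁻¹ * ((Nat.card (H j) : ℝ) - 1) := by
    intro j
    have : (0 : ℝ) ≤ (Nat.card (H j) : ℝ) - 1 := by linarith [hhR j, heR j]
    positivity
  rw [← Finset.add_sum_erase _ _ (Finset.mem_univ i)] at b7
  -- E: sum of x_j over j ≠ i
  have s1 : ∑ j ∈ Finset.univ.erase i, (Nat.card (L j) : ℝ)⁻¹ * ((Nat.card (H j) : ℝ) - 1) ≤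
      ∑ j ∈ Finset.univ.erase i, (Nat.card (L j) : ℝ)⁻¹ * (((Nat.card (H j) : ℝ) - 1) * (k j i : ℝ) ^ 2) +
      ∑ j ∈ Finset.univ.erase i, ((k i j : ℝ) ^ 2 * ∑ t ∈ T j, (d j t : ℝ) ^ 2) / ((Nat.card (H i) : ℝ) + 1) := by
    rw [← Finset.sum_add_distrib]
    apply Finset.sum_le_sum
    intro j hj
    have hji : j ≠ i := (Finset.mem_erase.1 hj).1
    have h1 : (1 : ℝ) ≤ (k j i : ℝ) ^ 2 + (k i j : ℝ) ^ 2 := by
      have h2 := b4 j i hji
      have h3 : k j i ≠ 0 ∨ k i j ≠ 0 := by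
        by_contra hno
        push_neg at hno
        rw [hno.1, hno.2] at h2
        exact absurd h2 (by decide)
      have h4 : (1 : ℤ) ≤ (k j i) ^ 2 + (k i j) ^ 2 := by
        rcases h3 with h3 | h3
        · have : 0 < (k j i) ^ 2 := by positivity
          nlinarith [sq_nonneg (k i j)]
        · have : 0 < (k i j) ^ 2 := by positivity
          nlinarith [sq_nonneg (k j i)]
      exact_mod_cast h4
    have h2 : (Nat.card (H i) : ℝ) + 1 ≤ Nat.card (H j) := by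
      have h3 : Nat.card (H i) ≤ Nat.card (H j) := hmin j (Finset.mem_univ _)
      have h4 : Nat.card (H i) ≠ Nat.card (H j) := by
        intro h
        have h5 := hcop i j hji.symm
        rw [h, Nat.coprime_self] at h5
        have := hh j
        have := he3 j
        omega
      have : Nat.card (H i) + 1 ≤ Nat.card (H j) := by omega
      exact_mod_cast this
    have h3 : (Nat.card (L j) : ℝ)⁻¹ * (((Nat.card (H j) : ℝ) - 1) * (k i j : ℝ) ^ 2) ≤
        ((k i j : ℝ) ^ 2 * ∑ t ∈ T j, (d j t : ℝ) ^ 2) / ((Nat.card (H i) : ℝ) + 1) := by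
      rw [hw j, hLR j]
      have h4 : ((Nat.card (H j) : ℝ) * e j)⁻¹ * (((Nat.card (H j) : ℝ) - 1) * (k i j : ℝ) ^ 2) =
          ((k i j : ℝ) ^ 2 * (((Nat.card (H j) : ℝ) - 1) / e j)) / (Nat.card (H j) : ℝ) := by
        have := (hh0 j).ne'
        have := (he0 j).ne'
        field_simp
      rw [h4]
      apply div_le_div_of_nonneg_left _ (by linarith [hh0 i]) h2
      have : (0 : ℝ) ≤ (Nat.card (H j) : ℝ) - 1 := by linarith [hhR j, heR j]
      have := he0 j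
      positivity
    have h5 := mul_le_mul_of_nonneg_left h1 (hx0 j)
    calc (Nat.card (L j) : ℝ)⁻¹ * ((Nat.card (H j) : ℝ) - 1)
        = (Nat.card (L j) : ℝ)⁻¹ * ((Nat.card (H j) : ℝ) - 1) * 1 := by ring
      _ ≤ (Nat.card (L j) : ℝ)⁻¹ * ((Nat.card (H j) : ℝ) - 1) * ((k j i : ℝ) ^ 2 + (k i j : ℝ) ^ 2) := h5
      _ = (Nat.card (L j) : ℝ)⁻¹ * (((Nat.card (H j) : ℝ) - 1) * (k j i : ℝ) ^ 2) +
          (Nat.card (L j) : ℝ)⁻¹ * (((Nat.card (H j) : ℝ) - 1) * (k i j : ℝ) ^ 2) := by ring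
      _ ≤ _ := by linarith
  rw [← Finset.sum_div] at s1
  -- Bessel consequence
  have hw2 : (2 : ℝ) ≤ ((Nat.card (H i) : ℝ) - 1) / e i := by
    rw [le_div_iff₀ (he0 i)]
    linarith [hhR i]
  have s2 : ∑ j ∈ Finset.univ.erase i, (k i j : ℝ) ^ 2 * ∑ t ∈ T j, (d j t : ℝ) ^ 2 ≤ (e i : ℝ) - 1 := by
    rw [hw i] at b5
    have h1 : (1 : ℝ) ≤ (k i i : ℝ) ^ 2 + ((k i i : ℝ) + 1) ^ 2 := by
      have : (1 : ℤ) ≤ (k i i) ^ 2 + (k i i + 1) ^ 2 := by
        rcases le_or_gt 0 (k i i) with h | h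
        · nlinarith
        · nlinarith
      exact_mod_cast this
    nlinarith [sq_nonneg ((k i i : ℝ) + 1)]
  -- norm consequence
  have s3 : ∑ j ∈ Finset.univ.erase i, (Nat.card (L j) : ℝ)⁻¹ * (((Nat.card (H j) : ℝ) - 1) * (k j i : ℝ) ^ 2) ≤
      (e i : ℝ) / Nat.card (H i) - (Nat.card G : ℝ)⁻¹ := by
    have h1 : (1 : ℝ) ≤ (n : ℝ) ^ 2 := by
      have : 0 < n ^ 2 := by positivity
      have : (1 : ℤ) ≤ n ^ 2 := by omega
      exact_mod_cast this
    have h2 : (Nat.card G : ℝ)⁻¹ * 1 ≤ (Nat.card G : ℝ)⁻¹ * (n : ℝ) ^ 2 := mul_le_mul_of_nonneg_left h1 (by positivity)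
    have h3 : (1 : ℝ) - (e i : ℝ) / Nat.card (H i) ≤ (Nat.card (L i) : ℝ)⁻¹ * ((e i : ℝ) * Nat.card (H i) +
      ((k i i : ℝ) + 1) ^ 2 * Nat.card (H i) - ((e i : ℝ) + ((k i i : ℝ) + 1)) ^ 2) := by
      rw [hLR i]
      have h4 : (1 : ℝ) - (e i : ℝ) / Nat.card (H i) = ((Nat.card (H i) : ℝ) * e i)⁻¹ * ((e i : ℝ) * Nat.card (H i) - (e i : ℝ) ^ 2) := by
        have := (hh0 i).ne'
        have := (he0 i).ne'
        field_simp
      rw [h4]
      apply mul_le_mul_of_nonneg_left _ (by have := hh0 i; have := he0 i; positivity)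
      have h5 : ((k i i : ℝ) + 1) ≤ ((k i i : ℝ) + 1) ^ 2 := by
        have := int_le_sq (k i i + 1)
        push_cast at this
        exact this
      have h6 : 2 * (e i : ℝ) * ((k i i : ℝ) + 1) ≤ 2 * (e i : ℝ) * ((k i i : ℝ) + 1) ^ 2 :=
        mul_le_mul_of_nonneg_left h5 (by linarith [he0 i])
      have h7 : 2 * (e i : ℝ) * ((k i i : ℝ) + 1) ^ 2 ≤ ((Nat.card (H i) : ℝ) - 1) * ((k i i : ℝ) + 1) ^ 2 :=
        mul_le_mul_of_nonneg_right (by linarith [hhR i]) (sq_nonneg _)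
      nlinarith
    linarith
  have s4 : (∑ j ∈ Finset.univ.erase i, (k i j : ℝ) ^ 2 * ∑ t ∈ T j, (d j t : ℝ) ^ 2) / ((Nat.card (H i) : ℝ) + 1) ≤
      ((e i : ℝ) - 1) / ((Nat.card (H i) : ℝ) + 1) := div_le_div_of_nonneg_right s2 (by linarith [hh0 i])
  apply arith (heR i) (hhR i)
  have h8 : (Nat.card (L i) : ℝ)⁻¹ * ((Nat.card (H i) : ℝ) - 1) = ((Nat.card (H i) : ℝ) - 1) / ((Nat.card (H i) : ℝ) * e i) := by
    rw [hLR i, div_eq_inv_mul]
  rw [h8] at b7
  linarith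

end Cfsg.Agent.H10.Fin3
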