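import Mathlib
import Cfsg.Agent.H2_ZJ2

/-! Thompson's normal p-complement theorem. -/

set_option autoImplicit false
set_option linter.style.haveILetI false

open Subgroup Cfsg
open scoped commutatorElement Pointwise

universe u

namespace Cfsg.Agent.H2.ZJ3

open Cfsg.Agent.H2.Basic Cfsg.Agent.H2.Good Cfsg.Agent.H1.Basic Cfsg.Agent.H12.ZJ Cfsg.Agent.H2.PFun
  Cfsg.Agent.H2.ZJ2

variable {G : Type u} [Group G] [Finite G] {p : ℕ} [hp : Fact p.Prime]

/-- If `Ω₁(Z(P))` is centralized by `G` then so is `Z(P)` (good groups). -/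
theorem centralizes_center (hG : IsGood p G) (hc : centralizer (pCore p G : Set G) ≤ pCore p G) (P : Sylow p G)
    (hmax : ∀ X : Subgroup G, (P : Subgroup G) ≤ X → X = P ∨ X = ⊤)
    (hΩ : ∀ x ∈ (P : Subgroup G) ⊓ centralizer ((P : Subgroup G) : Set G), x ^ p = 1 → ∀ g : G, g * x = x * g)
    (hnp : ¬ IsPGroup p G) :
    centralizer (((P : Subgroup G) ⊓ centralizer ((P : Subgroup G) : Set G) : Subgroup G) : Set G) = ⊤ := by
  obtain ⟨H, M, hH, hM, hHp, hHM, hMM, hcop, k, hk⟩ := hG
  set O := pCore p G with hO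
  have hOn : O.Normal := Cfsg.Agent.H1.Nilp.pCore_normal p
  have hOp : IsPGroup p O := Cfsg.Agent.H1.Nilp.pCore_isPGroup p
  have hOP : O ≤ P := hOp.le_sylow_of_normal P
  have hHO : H ≤ O := Cfsg.Agent.H1.Nilp.le_pCore hH hHp
  set Z := (P : Subgroup G) ⊓ centralizer ((P : Subgroup G) : Set G) with hZ
  set Y := O ⊓ centralizer (O : Set G) with hY
  have hYn : Y.Normal := inferInstance
  have hZY : Z ≤ Y := by
    have h1 : Z ≤ centralizer (O : Set G) := inf_le_right.trans (centralizer_le hOP)
    exact le_inf (h1.trans hc) h1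
  have hYc : IsMulCommutative Y := ⟨⟨fun a b => Subtype.ext ((mem_centralizer_iff.1 b.2.2) a a.2.1)⟩⟩
  -- a complement
  obtain ⟨j, hj⟩ := IsPGroup.iff_card.1 hHp
  obtain ⟨Q, hQM, hQc, hQi, hQs⟩ := Cfsg.Agent.H1.Coprime.sz_exists hHM
    (by rw [normalizer_eq_top]; exact le_top) (by rw [hj]; exact (hcop.pow_right j).symm)
  have hYp : IsPGroup p Y := hOp.to_le inf_le_left
  obtain ⟨i, hi⟩ := IsPGroup.iff_card.1 hYp
  have hcopQ : (Nat.card Q).Coprime (Nat.card Y) := by rw [hQc, hi]; exact hcop.pow_right i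
  have hHY : H ≤ centralizer (Y : Set G) := by
    rw [le_centralizer_iff]
    exact inf_le_right.trans (centralizer_le hHO)
  have hYM : ⁅Y, M⁆ = ⁅Y, Q⁆ := by
    apply le_antisymm
    · rw [commutator_le]
      intro y hy m hm
      rw [← hQs] at hm
      obtain ⟨q, hq, h, hh, rfl⟩ := (Cfsg.Agent.H2.Card.mem_sup_iff (H := Q) (N := H)
        (by rw [normalizer_eq_top]; exact le_top)).1 hm
      have h1 : y * h = h * y := (mem_centralizer_iff.1 (hHY hh)) y hy
      have h2 : ⁅y, q * h⁆ = ⁅y, q⁆ := by
        rw [commutatorElement_def, commutatorElement_def, mul_inv_rev]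
        have h3 : h * y⁻¹ * h⁻¹ = y⁻¹ := by
          have : Commute y h := h1
          rw [(this.inv_left).eq.symm]; group
        calc y * (q * h) * y⁻¹ * (h⁻¹ * q⁻¹) = y * q * (h * y⁻¹ * h⁻¹) * q⁻¹ := by group
          _ = y * q * y⁻¹ * q⁻¹ := by rw [h3]
      rw [h2]
      exact commutator_mem_commutator hy hq
    · exact commutator_mono le_rfl hQM
  have hbot := Cfsg.Agent.H1.Coprime.inf_commutator_eq_bot_of_abelian Q Y (by rw [normalizer_eq_top]; exact le_top) hcopQ
  have hYMn : (⁅Y, M⁆ : Subgroup G).Normal := inferInstance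
  have hYM0 : ⁅Y, M⁆ = ⊥ := by
    by_contra hne
    have hle : ⁅Y, M⁆ ≤ Y := commutator_le_left Y M
    have h1 : ⁅Y, M⁆ ⊓ centralizer ((P : Subgroup G) : Set G) ≠ ⊥ :=
      inf_centralizer_ne_bot P.isPGroup' (hle.trans (inf_le_left.trans hOP))
        (by rw [normalizer_eq_top]; exact le_top) hne
    have h2 := omegaOne_ne_bot (p := p) (hYp.to_le (inf_le_left.trans hle)) h1
    apply h2
    rw [eq_bot_iff, omegaOne, closure_le]
    rintro x ⟨hx, hxp⟩
    have hxP : x ∈ P := hOP (hle hx.1).1
    have h3 := hΩ x ⟨hxP, hx.2⟩ hxp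
    have h4 : x ∈ (Y ⊓ centralizer (Q : Set G)) ⊓ ⁅Y, Q⁆ := by
      refine ⟨⟨hle hx.1, ?_⟩, ?_⟩
      · refine mem_centralizer_iff.2 ?_
        intro q _
        exact h3 q
      · have := hx.1
        rw [hYM] at this
        exact this
    rw [hbot] at h4
    exact h4
  -- `M` centralizes `Z`
  have hMZ : M ≤ centralizer (Z : Set G) := by
    rw [commutator_comm, commutator_eq_bot_iff_le_centralizer] at hYM0
    exact hYM0.trans (centralizer_le hZY)
  have hPZ : (P : Subgroup G) ≤ centralizer (Z : Set G) := by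
    rw [le_centralizer_iff]; exact inf_le_right
  have hsup := hmax ((P : Subgroup G) ⊔ M) le_sup_left
  rcases hsup with h | h
  · exfalso
    apply hnp
    have hMP : M ≤ P := by rw [← h]; exact le_sup_right
    obtain ⟨a, ha⟩ := IsPGroup.iff_card.1 (P.isPGroup'.to_le hMP)
    rw [IsPGroup.iff_card]
    exact ⟨a + k, by rw [← M.card_mul_index, ha, hk, pow_add]⟩
  · rw [eq_top_iff, ← h]
    exact sup_le hPZ hMZ

/-- Thompson's normal `p`-complement theorem (elementary Thompson subgroup). -/
theorem npc_thompson (hp2 : p ≠ 2) (P : Sylow p G)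
    (h1 : HasNormalPComplement p (normalizer (JJ p (P : Subgroup G) : Set G)))
    (h2 : HasNormalPComplement p (centralizer (((P : Subgroup G) ⊓ centralizer ((P : Subgroup G) : Set G) : Subgroup G) : Set G))) :
    HasNormalPComplement p G := by
  refine engine (ι := Bool) (fun b => if b then zF p else jF p p dvd_rfl) (fun b => b) ⟨false, rfl⟩ ?_ _ G rfl P ?_
  · intro G _ _ P hG hc hmax hP
    by_contra hnpc
    have hP1 : HasNormalPComplement p (normalizer (JJ p (P : Subgroup G) : Set G)) := hP false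
    have hP2 : HasNormalPComplement p (centralizer (((P : Subgroup G) ⊓ centralizer ((P : Subgroup G) : Set G) : Subgroup G) : Set G)) :=
      hP true
    have hnp : ¬ IsPGroup p G := fun h => hnpc (npc_of_isPGroup h)
    have hZn := zjj_normal_good hp2 (Or.inr rfl) hG hc P
    set C := centralizer (ZJJ p (P : Subgroup G) : Set G) with hC
    have hCn : C.Normal := inferInstance
    have hJC : JJ p (P : Subgroup G) ≤ C := by
      rw [hC, le_centralizer_iff]; exact inf_le_right
    have hOn : (pCore p G).Normal := Cfsg.Agent.H1.Nilp.pCore_normal p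
    have hOp : IsPGroup p (pCore p G) := Cfsg.Agent.H1.Nilp.pCore_isPGroup p
    have hOP : pCore p G ≤ P := hOp.le_sylow_of_normal P
    rcases hmax ((P : Subgroup G) ⊔ C) le_sup_left with h | h
    · have hCP : C ≤ P := by rw [← h]; exact le_sup_right
      have hCO : C ≤ pCore p G := Cfsg.Agent.H1.Nilp.le_pCore hCn (P.isPGroup'.to_le hCP)
      have hJ : JJ p (pCore p G) = JJ p (P : Subgroup G) := JJ_eq_of_le hOP (hJC.trans hCO)
      have h3 : normalizer (JJ p (P : Subgroup G) : Set G) = ⊤ := by
        rw [eq_top_iff, ← hJ]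
        refine le_trans ?_ (normalizer_le_JJ p _)
        rw [normalizer_eq_top]
      rw [h3] at hP1
      exact hnpc (npc_top hP1)
    · have h4 := centralizes_center hG hc P hmax ?_ hnp
      · rw [h4] at hP2
        exact hnpc (npc_top hP2)
      · intro x hx hxp g
        have hxJ : x ∈ ZJJ p (P : Subgroup G) := by
          obtain ⟨A, hA⟩ := exists_MaxEA p (P : Subgroup G)
          refine ⟨hA.le_JJ (hA.mem_of hx.1 hxp fun a ha => (mem_centralizer_iff.1 hx.2) a (hA.1 ha)), ?_⟩
          refine mem_centralizer_iff.2 ?_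
          intro y hy
          exact (mem_centralizer_iff.1 hx.2) y (JJ_le p _ hy)
        have hle : (P : Subgroup G) ⊔ C ≤ centralizer {x} := by
          apply sup_le
          · intro y hy
            rw [mem_centralizer_singleton_iff]
            exact (mem_centralizer_iff.1 hx.2) y hy
          · intro y hy
            rw [mem_centralizer_singleton_iff]
            exact ((mem_centralizer_iff.1 hy) x hxJ).symm
        rw [h] at hle
        exact mem_centralizer_singleton_iff.1 (hle (mem_top g))
  · intro b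
    cases b
    · exact h1
    · exact h2

end Cfsg.Agent.H2.ZJ3
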