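import Mathlib
import Cfsg.Prelude.Def_Characters
import Cfsg.Prelude.Def_Solvable
import Cfsg.Agent.H1_Frob
import Cfsg.Agent.H3_CharTI
import Cfsg.Agent.H3_CharQuot

/-!
# Frobenius' theorem: the Frobenius kernel is a normal subgroup
-/

set_option autoImplicit false

open scoped ComplexConjugate Pointwise

namespace Cfsg.Agent.H9.FrobKer

open Cfsg Cfsg.Agent.H3.CharIrr Cfsg.Agent.H3.CharComplete Cfsg.Agent.H3.CharInd Cfsg.Agent.H3.CharTI
  Cfsg.Agent.H3.CharQuot

theorem exists_irr_ne {G : Type*} [Group G] [Finite G] {g : G} (hg : g ≠ 1) :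
    ∃ χ : IrrCharacter G, (χ : G → ℂ) g ≠ (χ : G → ℂ) 1 := by
  classical
  haveI : Fintype G := Fintype.ofFinite G
  haveI : Fintype (IrrCharacter G) := Fintype.ofFinite _
  by_contra hcon
  push Not at hcon
  have h1 := sum_one_mul (G := G) g
  rw [if_neg hg] at h1
  have h2 := sum_sq (G := G)
  simp_rw [hcon, ← pow_two] at h1
  rw [h2] at h1
  exact (by exact_mod_cast Nat.card_pos.ne' : (Nat.card G : ℂ) ≠ 0) h1

variable {G : Type*} [Group G] [Fintype G]

/-- extension of irreducible characters of a Frobenius complement -/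
theorem exists_ext (H : Subgroup G) (hTI : ∀ g : G, g ∉ H → ∀ t ∈ H, g * t * g⁻¹ ∈ H → t = 1)
    (φ : H → ℂ) (hφ : IsIrrCharacter H φ) :
    ∃ χ : G → ℂ, IsIrrCharacter G χ ∧ (∀ h : H, χ h = φ h) ∧
      ∀ x : G, (∀ g : G, g * x * g⁻¹ ∉ H) → χ x = χ 1 := by
  classical
  by_cases hφ1 : φ = fun _ => 1
  · refine ⟨fun _ => 1, isIrr_one, fun h => by rw [hφ1], fun x _ => rfl⟩
  let ψ : H → ℂ := φ - (φ 1) • (fun _ => (1 : ℂ))
  have hone : IsIrrCharacter H (fun _ => (1 : ℂ)) := isIrr_one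
  have hψc : IsClassFunction H ψ := by
    intro g x
    change φ (x * g * x⁻¹) - φ 1 • (1 : ℂ) = φ g - φ 1 • (1 : ℂ)
    rw [IsIrr.isClass hφ]
  have hψ1 : ψ 1 = 0 := by
    change φ 1 - φ 1 • (1 : ℂ) = 0
    simp
  obtain ⟨n, hn0, hn⟩ := IsIrr.one_eq_nat hφ
  have hψgen : IsGeneralizedCharacter H ψ := by
    apply IsGen.sub (IsGen.of_irr hφ)
    rw [hn]
    have := IsGen.intsmul (IsGen.of_irr hone) (n : ℤ)
    convert this using 1
    funext x
    simp
  let θ : G → ℂ := indFun H ψ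
  have hθgen : IsGeneralizedCharacter G θ := IsGen.ind hψgen
  have hcond : ∀ x : H, (x : G) ∉ (H : Set G) → ψ x = 0 := fun x hx => absurd x.2 hx
  have hTI' : ∀ g : G, g ∉ H → ∀ t ∈ (H : Set G), g * t * g⁻¹ ∈ (H : Set G) → t = 1 := hTI
  have hnorm : classInner θ θ = 1 + (n : ℂ) ^ 2 := by
    have h1 := ind_inner_of_TI' H (H : Set G) hTI' ψ ψ hψc hcond hcond hψ1
    change classInner θ θ = _ at h1
    rw [h1]
    change classInner (φ - (φ 1) • (fun _ => (1 : ℂ))) (φ - (φ 1) • (fun _ => (1 : ℂ))) = _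
    rw [ci_sub_left, ci_sub_right, ci_sub_right, ci_smul_left, ci_smul_left, ci_smul_right, ci_smul_right,
      ci_irr_self hφ, ci_irr_self hone, ci_irr_ne hφ hone hφ1, ci_irr_ne hone hφ (fun h => hφ1 h.symm), hn]
    simp
    ring
  have hinner : classInner θ (fun _ => (1 : ℂ)) = - (n : ℂ) := by
    have h1 := frobenius H ψ (fun _ => (1 : ℂ)) (IsIrr.isClass isIrr_one)
    change classInner θ _ = _ at h1
    rw [h1]
    change classInner (φ - (φ 1) • (fun _ => (1 : ℂ))) (fun _ => (1 : ℂ)) = _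
    rw [ci_sub_left, ci_smul_left, ci_irr_self hone, ci_irr_ne hφ hone hφ1, hn]
    simp
  have hinner' : classInner (fun _ => (1 : ℂ)) θ = - (n : ℂ) := by
    rw [← ci_conj_symm, hinner]; simp
  let χ : G → ℂ := θ + (n : ℂ) • (fun _ => (1 : ℂ))
  have hχgen : IsGeneralizedCharacter G χ := by
    apply IsGen.add hθgen
    have := IsGen.intsmul (IsGen.of_irr (isIrr_one (G := G))) (n : ℤ)
    convert this using 1
    funext x
    simp
  have hχnorm : classInner χ χ = 1 := by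
    change classInner (θ + (n : ℂ) • (fun _ => (1 : ℂ))) (θ + (n : ℂ) • (fun _ => (1 : ℂ))) = 1
    rw [ci_add_left, ci_add_right, ci_add_right, ci_smul_left, ci_smul_left, ci_smul_right, ci_smul_right, hnorm, hinner,
      hinner', ci_irr_self isIrr_one]
    simp
    ring
  have hθ1 : θ 1 = 0 := by
    change indFun H ψ 1 = 0
    rw [ind_one, hψ1, mul_zero]
  have hχ1 : χ 1 = n := by
    change θ 1 + (n : ℂ) • (1 : ℂ) = n
    rw [hθ1]; simp
  have hχirr : IsIrrCharacter G χ := by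
    rcases isGen_norm_one hχgen hχnorm with h | h
    · exact h
    · exfalso
      obtain ⟨m, hm0, hm⟩ := IsIrr.one_eq_nat h
      rw [Pi.neg_apply, hχ1] at hm
      have : ((n + m : ℕ) : ℂ) = 0 := by push_cast; rw [← hm]; ring
      have h2 : n + m = 0 := by exact_mod_cast this
      omega
  refine ⟨χ, hχirr, ?_, ?_⟩
  · intro h
    by_cases h1 : h = 1
    · subst h1
      rw [hn]; exact hχ1
    · have h2 := ind_eq_of_TI' H (H : Set G) hTI' ψ hψc hcond h h.2 h1
      change θ h + (n : ℂ) • (1 : ℂ) = _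
      have h3 : θ h = ψ h := h2
      rw [h3]
      change φ h - φ 1 • (1 : ℂ) + _ = _
      rw [hn]
      simp
  · intro x hx
    rw [hχ1]
    change θ x + (n : ℂ) • (1 : ℂ) = n
    have h3 : θ x = 0 := by
      change indFun H ψ x = 0
      rw [indFun]
      rw [Finset.sum_eq_zero, mul_zero]
      intro y _
      apply ext_not_mem
      have := hx y⁻¹
      rwa [inv_inv] at this
    rw [h3]; simp

/-- **Frobenius' theorem** (element form) -/
theorem exists_normal (H : Subgroup G) (hTI : ∀ g : G, g ∉ H → ∀ t ∈ H, g * t * g⁻¹ ∈ H → t = 1) :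
    ∃ N : Subgroup G, N.Normal ∧ N ⊓ H = ⊥ ∧ ∀ x : G, (∀ g : G, g * x * g⁻¹ ∉ H) → x ∈ N := by
  classical
  choose ξ h1 h2 h3 using exists_ext H hTI
  let N : Subgroup G := ⨅ φ : IrrCharacter H, chKer (ξ φ.1 φ.2) (IsIrr.isCharacter (h1 φ.1 φ.2))
  have hNmem : ∀ x, x ∈ N ↔ ∀ φ : IrrCharacter H, ξ φ.1 φ.2 x = ξ φ.1 φ.2 1 := by
    intro x
    rw [Subgroup.mem_iInf]
    rfl
  refine ⟨N, ?_, ?_, ?_⟩
  · apply Subgroup.normal_iInf_normal
    intro φ
    exact chKer_normal _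
  · rw [Subgroup.eq_bot_iff_forall]
    rintro x ⟨hxN, hxH⟩
    by_contra hx1
    have hx1' : (⟨x, hxH⟩ : H) ≠ 1 := fun h => hx1 (congrArg Subtype.val h)
    obtain ⟨φ, hφ⟩ := exists_irr_ne hx1'
    apply hφ
    have h4 := (hNmem x).1 hxN φ
    have h5 := h2 φ.1 φ.2 ⟨x, hxH⟩
    have h6 := h2 φ.1 φ.2 1
    change ξ φ.1 φ.2 1 = φ.1 1 at h6
    change ξ φ.1 φ.2 x = φ.1 ⟨x, hxH⟩ at h5
    rw [h5, h6] at h4
    exact h4
  · intro x hx
    rw [hNmem]
    intro φ
    exact h3 φ.1 φ.2 x hx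

theorem frobenius {G : Type*} [Group G] [Finite G] (H : Subgroup G) (hH : Cfsg.IsFrobeniusComplement H) :
    ∃ N : Subgroup G, (N : Set G) = Cfsg.frobeniusKernel H ∧ N.Normal ∧ Subgroup.IsComplement' N H := by
  classical
  haveI : Fintype G := Fintype.ofFinite G
  have hTI : ∀ g : G, g ∉ H → ∀ t ∈ H, g * t * g⁻¹ ∈ H → t = 1 := by
    intro g hg t ht hgt
    have h1 := hH.2.2 g hg
    have h2 : g * t * g⁻¹ ∈ H ⊓ (MulAut.conj g • H) :=
      ⟨hgt, Cfsg.Agent.H1.Basic.conj_mem_conj.mpr ht⟩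
    rw [h1, Subgroup.mem_bot] at h2
    calc t = g⁻¹ * (g * t * g⁻¹) * g := by group
      _ = 1 := by rw [h2]; group
  obtain ⟨N, hNn, hNH, hN⟩ := exists_normal H hTI
  have hsub : Cfsg.frobeniusKernel H ⊆ (N : Set G) := by
    rintro x (rfl | hx)
    · exact N.one_mem
    · apply hN
      intro g hg
      apply hx g⁻¹
      rw [Cfsg.Agent.H1.Basic.mem_conj, inv_inv]
      exact hg
  have hk := Cfsg.Agent.H1.Frob.card_kernel hH
  have hle : Nat.card N * Nat.card H ≤ Nat.card G := by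
    have h1 : Function.Injective (fun p : N × H => (p.1 : G) * p.2) := by
      rintro ⟨a, b⟩ ⟨c, d⟩ h
      have h2 : (a : G) * b = c * d := h
      have h3 : (c : G)⁻¹ * a = d * (b : G)⁻¹ := by
        rw [inv_mul_eq_iff_eq_mul, ← mul_assoc, ← h2]; group
      have h4 : (c : G)⁻¹ * a ∈ N ⊓ H := ⟨N.mul_mem (N.inv_mem c.2) a.2, by rw [h3]; exact H.mul_mem d.2 (H.inv_mem b.2)⟩
      rw [hNH, Subgroup.mem_bot] at h4
      have h5 : a = c := Subtype.ext (inv_mul_eq_one.1 h4).symm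
      rw [h3] at h4
      have h6 : b = d := Subtype.ext (mul_inv_eq_one.1 h4).symm
      rw [h5, h6]
    rw [← Nat.card_prod]
    exact Nat.card_le_card_of_injective _ h1
  have hHpos : 0 < Nat.card H := Nat.card_pos
  have hNle : Nat.card N ≤ H.index := by
    have h1 := H.card_mul_index
    rw [← h1, mul_comm] at hle
    exact Nat.le_of_mul_le_mul_left hle hHpos
  have heq : Cfsg.frobeniusKernel H = (N : Set G) := by
    apply Set.eq_of_subset_of_ncard_le hsub
    rw [← Nat.card_coe_set_eq, ← Nat.card_coe_set_eq, hk]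
    exact hNle
  have hNcard : Nat.card N = H.index := by
    rw [← hk, heq]; rfl
  refine ⟨N, heq.symm, hNn, ?_⟩
  apply Subgroup.isComplement'_of_card_mul_and_disjoint
  · rw [hNcard, mul_comm, H.card_mul_index]
  · rw [disjoint_iff, hNH]

end Cfsg.Agent.H9.FrobKer
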