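import Mathlib
import Cfsg.Prelude.Def_Transfer
import Cfsg.Agent.H22_FPF
import Cfsg.Agent.H1_Fixed
import Cfsg.Agent.H1_Nilp
import Cfsg.Agent.H2_ZJ3
import Cfsg.Agent.H2_Fusion4
import Cfsg.Agent.H2_Basic
import Cfsg.Agent.H12_ZJ5
import Cfsg.Agent.H9_FrobKer
import Cfsg.Agent.H1_Frob

/-!
# Thompson's theorem on fixed-point-free automorphisms of prime order
-/

set_option autoImplicit false

namespace Cfsg.Agent.H3.Fpf

open Cfsg Subgroup

/-- fixed-point-free of prime order (or trivial) -/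
structure FP {G : Type*} [Group G] (σ : MulAut G) (p : ℕ) : Prop where
  fix : ∀ g, σ g = g → g = 1
  pow : σ ^ p = 1

theorem pow_fix {G : Type*} [Group G] {σ : MulAut G} {g : G} {i : ℕ} (h : (σ ^ i) g = g) (k : ℕ) :
    (σ ^ (i * k)) g = g := by
  induction k with
  | zero => simp
  | succ k ih => rw [Nat.mul_succ, pow_add, MulAut.mul_apply, h, ih]

theorem FP.fix_pow {G : Type*} [Group G] {σ : MulAut G} {p : ℕ} (h : FP σ p) (hp : p.Prime) {i : ℕ}
    (hi : 0 < i) (hip : i < p) (g : G) (hg : (σ ^ i) g = g) : g = 1 := by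
  apply h.fix
  have hcop : Nat.Coprime i p := (Nat.Coprime.symm ((Nat.Prime.coprime_iff_not_dvd hp).mpr
    (fun hd => absurd (Nat.le_of_dvd hi hd) (not_le.mpr hip))))
  obtain ⟨k, -, hk⟩ := Nat.exists_mul_mod_eq_one_of_coprime hcop hp.one_lt
  have h1 := pow_fix hg k
  have h2 : σ ^ (i * k) = σ := by
    rw [← Nat.div_add_mod (i * k) p, hk, pow_add, pow_mul, h.pow, one_pow, one_mul, pow_one]
  rwa [h2] at h1

theorem prod_eq_one {V : Type*} [CommGroup V] {σ : MulAut V} {p : ℕ} (h : FP σ p) (v : V) :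
    ∏ i ∈ Finset.range p, (σ ^ i) v = 1 := by
  apply h.fix
  have h1 : σ (∏ i ∈ Finset.range p, (σ ^ i) v) = ∏ i ∈ Finset.range p, (σ ^ (i + 1)) v := by
    rw [map_prod]
    apply Finset.prod_congr rfl
    intro i _
    rw [pow_succ', MulAut.mul_apply]
  have h2 : (∏ i ∈ Finset.range p, (σ ^ (i + 1)) v) * v = (∏ i ∈ Finset.range p, (σ ^ i) v) * v := by
    have h3 := Finset.prod_range_succ (fun i => (σ ^ i) v) p
    have h4 := Finset.prod_range_succ' (fun i => (σ ^ i) v) p
    simp only [pow_zero, MulAut.one_apply, h.pow] at h3 h4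
    rw [← h4, h3]
  rw [h1]
  exact mul_right_cancel h2

/-- A group `R` with fixed-point-free automorphism of order `p` acting compatibly on `V` of coprime
order, with fixed-point-free automorphism of order `p`, acts trivially. -/
theorem frob_act {R V : Type*} [Group R] [CommGroup V] [Finite R] [Finite V] (ρ : R →* MulAut V)
    (σR : MulAut R) (σV : MulAut V) {p : ℕ} (hp : p.Prime) (hR : FP σR p) (hV : FP σV p)
    (hc : ∀ r v, σV (ρ r v) = ρ (σR r) (σV v)) (hcop : (Nat.card R).Coprime (Nat.card V)) (r : R) (v : V) :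
    ρ r v = v := by
  classical
  have := Fintype.ofFinite R
  have hc' : ∀ i r v, (σV ^ i) (ρ r v) = ρ ((σR ^ i) r) ((σV ^ i) v) := by
    intro i
    induction i with
    | zero => intro r v; simp
    | succ i ih =>
      intro r v
      simp only [pow_succ', MulAut.mul_apply]
      rw [ih, hc]
  obtain ⟨T, hT⟩ : ∃ T : V → V, ∀ w, T w = ∏ s : R, ρ s w := ⟨_, fun w => rfl⟩
  have hTfix : ∀ r w, ρ r (T w) = T w := by
    intro r w
    rw [hT, map_prod]
    simp only [← MulAut.mul_apply, ← map_mul]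
    exact Fintype.prod_equiv (Equiv.mulLeft r) _ _ (fun s => rfl)
  have key : v ^ (Nat.card R) * ∏ i ∈ Finset.range (p - 1), T ((σV ^ (i + 1)) v) = 1 := by
    have h1 : ∏ s : R, ρ s (∏ i ∈ Finset.range p, (σV ^ i) (ρ s⁻¹ v)) = 1 := by
      apply Finset.prod_eq_one
      intro s _
      rw [prod_eq_one hV, map_one]
    have h2 : ∀ s : R, ρ s (∏ i ∈ Finset.range p, (σV ^ i) (ρ s⁻¹ v)) =
        ∏ i ∈ Finset.range p, ρ (s * ((σR ^ i) s)⁻¹) ((σV ^ i) v) := by
      intro s
      rw [map_prod]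
      apply Finset.prod_congr rfl
      intro i _
      rw [hc', ← MulAut.mul_apply, ← map_mul, map_inv]
    rw [Finset.prod_congr rfl (fun s _ => h2 s), Finset.prod_comm] at h1
    obtain ⟨p', rfl⟩ : ∃ p', p = p' + 1 := ⟨p - 1, by have := hp.pos; omega⟩
    rw [Finset.prod_range_succ'] at h1
    simp only [pow_zero, MulAut.one_apply, mul_inv_cancel, map_one, Finset.prod_const, Finset.card_univ] at h1
    rw [Nat.card_eq_fintype_card, Nat.add_sub_cancel, mul_comm, ← h1]
    congr 1
    apply Finset.prod_congr rfl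
    intro i hi
    rw [Finset.mem_range] at hi
    rw [hT]
    have hinj : Function.Injective (fun s : R => s * ((σR ^ (i + 1)) s)⁻¹) := by
      intro a b hab
      simp only at hab
      have h5 : (σR ^ (i + 1)) (b⁻¹ * a) = b⁻¹ * a := by
        rw [map_mul, map_inv]
        have h6 : (σR ^ (i + 1)) a = (a * ((σR ^ (i + 1)) a)⁻¹)⁻¹ * a := by group
        rw [h6, hab]; group
      have h7 := hR.fix_pow hp (Nat.succ_pos i) (by omega) _ h5
      exact (inv_mul_eq_one.mp h7).symm
    symm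
    exact Fintype.prod_bijective _ ((Finite.injective_iff_bijective).mp hinj) _ _ (fun s => rfl)
  have hfix : ∀ r, ρ r (v ^ (Nat.card R)) = v ^ (Nat.card R) := by
    intro r
    have h1 := eq_inv_of_mul_eq_one_left key
    rw [h1, map_inv, map_prod]
    congr 1
    exact Finset.prod_congr rfl (fun i _ => hTfix r _)
  by_cases hV1 : Nat.card V = 1
  · have : Subsingleton V := (Nat.card_eq_one_iff_unique.mp hV1).1
    exact Subsingleton.elim _ _
  have hV2 : 1 < Nat.card V := by
    have : 0 < Nat.card V := Nat.card_pos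
    omega
  obtain ⟨k, -, hk⟩ := Nat.exists_mul_mod_eq_one_of_coprime hcop hV2
  have h3 : (v ^ (Nat.card R)) ^ k = v := by
    rw [← pow_mul, ← Nat.div_add_mod (Nat.card R * k) (Nat.card V), hk, pow_add, pow_mul, pow_card_eq_one', one_pow,
      one_mul, pow_one]
  rw [← h3, map_pow, hfix]

/-- restriction of an automorphism to an invariant subgroup -/
noncomputable def restr {G : Type*} [Group G] (σ : MulAut G) (N : Subgroup G)
    (h : N.map σ.toMonoidHom = N) : MulAut N :=
  (σ.subgroupMap N).trans (MulEquiv.subgroupCongr h)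

theorem restr_coe {G : Type*} [Group G] (σ : MulAut G) (N : Subgroup G)
    (h : N.map σ.toMonoidHom = N) (x : N) : ((restr σ N h x : N) : G) = σ x := rfl

theorem restr_pow {G : Type*} [Group G] (σ : MulAut G) (N : Subgroup G)
    (h : N.map σ.toMonoidHom = N) (i : ℕ) (x : N) : (((restr σ N h ^ i) x : N) : G) = (σ ^ i) x := by
  induction i with
  | zero => rfl
  | succ i ih => rw [pow_succ', MulAut.mul_apply, restr_coe, ih, pow_succ', MulAut.mul_apply]

theorem FP.restr {G : Type*} [Group G] {σ : MulAut G} {p : ℕ} (hσ : FP σ p) (N : Subgroup G)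
    (h : N.map σ.toMonoidHom = N) : FP (restr σ N h) p := by
  constructor
  · intro g hg
    apply Subtype.ext
    apply hσ.fix
    rw [← restr_coe σ N h, hg]
  · ext x
    rw [restr_pow, hσ.pow]
    rfl

theorem FP.quot {G : Type*} [Group G] [Finite G] {σ : MulAut G} {p : ℕ} (hσ : FP σ p) (N : Subgroup G)
    [N.Normal] (h : N.map σ.toMonoidHom = N) : FP (G := G ⧸ N) (QuotientGroup.congr N N σ h) p := by
  have hpow : ∀ (i : ℕ) (g : G), ((QuotientGroup.congr N N σ h : MulAut (G ⧸ N)) ^ i) (g : G ⧸ N) =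
      (((σ ^ i) g : G) : G ⧸ N) := by
    intro i
    induction i with
    | zero => intro g; rfl
    | succ i ih =>
      intro g
      rw [pow_succ', MulAut.mul_apply, ih, pow_succ', MulAut.mul_apply]
      rfl
  constructor
  · intro g hg
    exact H22.FPF.fpf_quotient hσ.fix h g hg
  · ext g
    obtain ⟨g, rfl⟩ := QuotientGroup.mk_surjective g
    rw [hpow, hσ.pow]
    rfl

theorem FP.sylow {G : Type*} [Group G] [Finite G] {σ : MulAut G} {p : ℕ} (hσ : FP σ p) (s : ℕ)
    [Fact s.Prime] : ∃ S : Sylow s G, (S : Subgroup G).map σ.toMonoidHom = S := by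
  obtain ⟨S, hS⟩ := H1.Fixed.invariant_sylow (σ : G ≃* G) (fun g hg => hσ.fix g hg) s
  exact ⟨S, hS⟩

/-- In the solvable case a minimal invariant normal subgroup is central. -/
theorem minimal_central {G : Type*} [Group G] [Finite G] {σ : MulAut G} {p : ℕ} (hp : p.Prime)
    (hσ : FP σ p) (Q : Subgroup G) [hQn : Q.Normal] (hQb : Q ≠ ⊥) (hQs : Q.map σ.toMonoidHom = Q)
    (hmin : ∀ R : Subgroup G, R ≤ Q → R.Normal → R.map σ.toMonoidHom = R → R = ⊥ ∨ R = Q)
    (hQc : ∀ x ∈ Q, ∀ y ∈ Q, x * y = y * x) (r : ℕ) (hr : r.Prime) (hQr : ∀ x ∈ Q, x ^ r = 1) :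
    Q ≤ center G := by
  classical
  have hrf : Fact r.Prime := ⟨hr⟩
  have hQp : IsPGroup r Q := by
    intro x
    exact ⟨1, Subtype.ext (by rw [pow_one]; exact hQr x x.2)⟩
  -- Sylow `s`-subgroups centralize `Q`
  have hsyl : ∀ s : ℕ, s.Prime → s ≠ r → ∃ S : Sylow s G, (S : Subgroup G) ≤ centralizer (Q : Set G) := by
    intro s hs hsr
    have hsf : Fact s.Prime := ⟨hs⟩
    obtain ⟨S, hS⟩ := hσ.sylow s
    refine ⟨S, ?_⟩
    let _ : CommGroup Q := { (inferInstance : Group Q) with mul_comm := fun x y => Subtype.ext (hQc x x.2 y y.2) }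
    have hcop : (Nat.card (S : Subgroup G)).Coprime (Nat.card Q) := by
      obtain ⟨k, hk⟩ := IsPGroup.iff_card.mp S.isPGroup'
      obtain ⟨l, hl⟩ := IsPGroup.iff_card.mp hQp
      rw [hk, hl]
      exact Nat.Coprime.pow _ _ ((Nat.coprime_primes hs hr).mpr hsr)
    intro x hx
    rw [mem_centralizer_iff]
    intro v hv
    have h1 := frob_act (R := (S : Subgroup G)) (V := Q) ((MulAut.conjNormal (H := Q)).comp (S : Subgroup G).subtype)
      (restr σ S hS) (restr σ Q hQs) hp (hσ.restr _ hS) (hσ.restr _ hQs) (by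
        intro r v
        apply Subtype.ext
        change σ ((r : G) * v * (r : G)⁻¹) = σ r * σ v * (σ r)⁻¹
        rw [map_mul, map_mul, map_inv]) hcop ⟨x, hx⟩ ⟨v, hv⟩
    have h2 : x * v * x⁻¹ = v := congrArg Subtype.val h1
    exact (mul_inv_eq_iff_eq_mul.mp h2).symm
  obtain ⟨C, hC⟩ : ∃ C : Subgroup G, C = centralizer (Q : Set G) := ⟨_, rfl⟩
  rw [← hC] at hsyl
  obtain ⟨R⟩ : Nonempty (Sylow r G) := inferInstance
  have hsup : C ⊔ (R : Subgroup G) = ⊤ := by
    rw [← Subgroup.index_eq_one]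
    by_contra hne
    obtain ⟨s, hs, hsd⟩ := Nat.exists_prime_and_dvd hne
    by_cases hsr : s = r
    · subst hsr
      exact R.not_dvd_index (hsd.trans (Subgroup.index_dvd_of_le le_sup_right))
    · obtain ⟨S, hS⟩ := hsyl s hs hsr
      have hsf : Fact s.Prime := ⟨hs⟩
      exact S.not_dvd_index (hsd.trans ((Subgroup.index_dvd_of_le le_sup_left).trans (Subgroup.index_dvd_of_le hS)))
  -- `Q` is contained in `R`
  have hQR : Q ≤ R := by
    obtain ⟨R', hR'⟩ := hQp.exists_le_sylow
    obtain ⟨g, hg⟩ := MulAction.exists_smul_eq G R' R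
    intro x hx
    have h1 : g⁻¹ * x * g ∈ Q := by
      have := hQn.conj_mem x hx g⁻¹
      rwa [inv_inv] at this
    rw [← hg]
    exact ⟨g⁻¹ * x * g, hR' h1, by change g * (g⁻¹ * x * g) * g⁻¹ = x; group⟩
  have hne : Q ⊓ center G ≠ ⊥ := by
    have h1 : (Q.subgroupOf R) ⊓ center (R : Subgroup G) ≠ ⊥ := by
      have : Group.IsNilpotent (R : Subgroup G) := R.isPGroup'.isNilpotent
      apply H1.Nilp.normal_inf_center_ne_bot
      intro h
      apply hQb
      rw [subgroupOf_eq_bot] at h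
      rw [← inf_eq_left.mpr hQR]
      exact disjoint_iff.mp h
    intro h2
    apply h1
    rw [eq_bot_iff]
    rintro ⟨x, hxR⟩ ⟨hxQ, hxZ⟩
    rw [mem_bot]
    apply Subtype.ext
    change x = 1
    have hxc : x ∈ center G := by
      have h3 : (C ⊔ (R : Subgroup G)) ≤ centralizer ({x} : Set G) := by
        apply sup_le
        · intro c hc
          rw [hC, mem_centralizer_iff] at hc
          rw [mem_centralizer_singleton_iff]
          exact (hc x hxQ).symm
        · intro y hy
          rw [mem_centralizer_singleton_iff]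
          have h4 := (mem_center_iff.mp hxZ) ⟨y, hy⟩
          exact congrArg Subtype.val h4
      rw [hsup] at h3
      rw [mem_center_iff]
      intro g
      exact mem_centralizer_singleton_iff.mp (h3 (mem_top g))
    have h5 : x ∈ Q ⊓ center G := ⟨hxQ, hxc⟩
    rwa [h2, mem_bot] at h5
  rcases hmin (Q ⊓ center G) inf_le_left inferInstance (by
    apply H22.FPF.map_eq_of_forall_mem
    rintro x ⟨hx, hxc⟩
    refine ⟨(H22.FPF.map_mem_iff hQs x).mpr hx, ?_⟩
    change σ x ∈ center G
    rw [mem_center_iff]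
    intro g
    obtain ⟨g', rfl⟩ := σ.surjective g
    rw [← map_mul, ← map_mul, (mem_center_iff.mp hxc) g']) with h | h
  · exact absurd h hne
  · rw [← h]; exact inf_le_right

theorem map_JJ_le {G : Type*} [Group G] [Finite G] (n : ℕ) (D : Subgroup G) (σ : MulAut G)
    (hD : D.map σ.toMonoidHom = D) : (H12.ZJ.JJ n D).map σ.toMonoidHom ≤ H12.ZJ.JJ n D := by
  rw [map_le_iff_le_comap]
  refine sSup_le fun A hA => ?_
  rw [← map_le_iff_le_comap]
  apply H12.ZJ.MaxEA.le_JJ
  refine ⟨?_, ?_, ?_⟩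
  · rw [← hD]; exact map_mono hA.1
  · constructor
    · rintro _ ⟨a, ha, rfl⟩ _ ⟨b, hb, rfl⟩
      rw [← map_mul, ← map_mul, hA.2.1.1 a ha b hb]
    · rintro _ ⟨a, ha, rfl⟩
      rw [← map_pow, hA.2.1.2 a ha, map_one]
  · intro B hB1 hB2
    rw [card_map_of_injective (show Function.Injective σ.toMonoidHom from σ.injective)]
    exact hA.2.2 B hB1 hB2

theorem map_normalizer {G : Type*} [Group G] [Finite G] {σ : MulAut G} {J : Subgroup G}
    (hJs : J.map σ.toMonoidHom = J) :
    (normalizer (J : Set G)).map σ.toMonoidHom = normalizer (J : Set G) := by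
  apply H22.FPF.map_eq_of_forall_mem
  intro x hx
  rw [mem_normalizer_iff] at hx ⊢
  intro y
  obtain ⟨y', rfl⟩ := σ.surjective y
  rw [← map_mul, ← map_inv, ← map_mul, H22.FPF.map_mem_iff hJs, H22.FPF.map_mem_iff hJs]
  exact hx y'

theorem JJ_ne_bot {G : Type*} [Group G] [Finite G] {q : ℕ} [hq : Fact q.Prime] {P : Subgroup G} (hP : IsPGroup q P)
    (hPb : P ≠ ⊥) : H12.ZJ.JJ q P ≠ ⊥ := by
  intro h4
  obtain ⟨A, hA⟩ := H12.ZJ.exists_MaxEA q P
  have hAb : A = ⊥ := by rw [eq_bot_iff, ← h4]; exact hA.le_JJ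
  have h5 : 1 < Nat.card P := P.one_lt_card_iff_ne_bot.mpr hPb
  obtain ⟨x, hx⟩ := exists_prime_orderOf_dvd_card' (G := P) q (by
    obtain ⟨k, hk⟩ := IsPGroup.iff_card.mp hP
    rw [hk] at h5 ⊢
    have : k ≠ 0 := by rintro rfl; simp at h5
    exact dvd_pow_self q this)
  have hxq : orderOf (x : G) = q := by rw [Subgroup.orderOf_coe, hx]
  have h6 := hA.2.2 (zpowers (x : G)) (by rw [zpowers_le]; exact x.2) (by
    constructor
    · rintro _ ⟨i, rfl⟩ _ ⟨j, rfl⟩
      exact (Commute.refl (x : G)).zpow_zpow i j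
    · intro y hy
      have h7 : orderOf y ∣ q := by
        rw [← hxq]; exact orderOf_dvd_of_mem_zpowers hy
      exact orderOf_dvd_iff_pow_eq_one.mp h7)
  rw [hAb, Subgroup.card_bot, Nat.card_zpowers, hxq] at h6
  exact absurd hq.out.one_lt (not_lt.mpr h6)

theorem inf_centralizer_ne_bot {G : Type*} [Group G] [Finite G] {q : ℕ} [hq : Fact q.Prime] {P : Subgroup G}
    (hP : IsPGroup q P) (hPb : P ≠ ⊥) : P ⊓ centralizer (P : Set G) ≠ ⊥ := by
  intro h5
  have h6 : Nontrivial P := (Subgroup.nontrivial_iff_ne_bot _).mpr hPb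
  have hPnil : Group.IsNilpotent P := hP.isNilpotent
  have h7 : center P ≠ ⊥ := by
    have h8 := H1.Nilp.normal_inf_center_ne_bot (⊤ : Subgroup P) top_ne_bot
    rwa [top_inf_eq] at h8
  apply h7
  rw [eq_bot_iff]
  rintro ⟨x, hx⟩ hxZ
  rw [mem_bot]
  apply Subtype.ext
  change x = 1
  have h9 : x ∈ P ⊓ centralizer (P : Set G) := by
    refine ⟨hx, ?_⟩
    change x ∈ centralizer (P : Set G)
    rw [mem_centralizer_iff]
    intro y hy
    exact congrArg Subtype.val ((mem_center_iff.mp hxZ) ⟨y, hy⟩)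
  rwa [h5, mem_bot] at h9

theorem map_JJ_mem {G : Type*} [Group G] [Finite G] (n : ℕ) (D : Subgroup G) (σ : MulAut G)
    (hD : D.map σ.toMonoidHom = D) (J : Subgroup G) (hJ : J = H12.ZJ.JJ n D) :
    J.map σ.toMonoidHom = J ∧ J ≤ D := by
  subst hJ
  refine ⟨?_, H12.ZJ.JJ_le _ _⟩
  apply H22.FPF.map_eq_of_forall_mem
  intro x hx
  exact map_JJ_le n D σ hD (mem_map_of_mem σ.toMonoidHom hx)

theorem npc_of_simple_action {G : Type*} [Group G] [Finite G] {σ : MulAut G} {q : ℕ} [hq : Fact q.Prime]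
    (hq2 : q ≠ 2) (P : Sylow q G) (hP : (P : Subgroup G).map σ.toMonoidHom = P) (hPb : (P : Subgroup G) ≠ ⊥)
    (hsub : ∀ N : Subgroup G, N ≠ ⊤ → N.map σ.toMonoidHom = N → Group.IsNilpotent N)
    (hnone : ∀ N : Subgroup G, N.Normal → N.map σ.toMonoidHom = N → N ≤ P → N = ⊥) :
    HasNormalPComplement q G := by
  have h1 : HasNormalPComplement q (normalizer (H12.ZJ.JJ q (P : Subgroup G) : Set G)) := by
    obtain ⟨J, hJ⟩ : ∃ J : Subgroup G, J = H12.ZJ.JJ q (P : Subgroup G) := ⟨_, rfl⟩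
    obtain ⟨hJs, hJP⟩ := map_JJ_mem q (P : Subgroup G) σ hP J hJ
    have hJb : J ≠ ⊥ := by rw [hJ]; exact JJ_ne_bot P.isPGroup' hPb
    rw [← hJ]
    have hne : normalizer (J : Set G) ≠ ⊤ := by
      intro h
      exact hJb (hnone _ (normalizer_eq_top_iff.mp h) hJs hJP)
    have := hsub _ hne (map_normalizer hJs)
    exact H2.Fusion4.npc_of_nilpotent
  have h2 : HasNormalPComplement q (centralizer (((P : Subgroup G) ⊓ centralizer ((P : Subgroup G) : Set G) :
      Subgroup G) : Set G)) := by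
    obtain ⟨Z, hZ⟩ : ∃ Z : Subgroup G, Z = (P : Subgroup G) ⊓ centralizer ((P : Subgroup G) : Set G) := ⟨_, rfl⟩
    have hZb : Z ≠ ⊥ := by rw [hZ]; exact inf_centralizer_ne_bot P.isPGroup' hPb
    rw [← hZ]
    have hZs : Z.map σ.toMonoidHom = Z := by
      apply H22.FPF.map_eq_of_forall_mem
      intro x hx
      rw [hZ] at hx ⊢
      exact ⟨(H22.FPF.map_mem_iff hP x).mpr hx.1, (H22.FPF.map_mem_iff (H22.FPF.map_centralizer hP) x).mpr hx.2⟩
    have hne : centralizer (Z : Set G) ≠ ⊤ := by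
      intro h
      have h3 : Z ≤ center G := by
        rw [centralizer_eq_top_iff_subset] at h
        exact h
      have h4 : Z.Normal := by
        constructor
        intro n hn g
        have := (mem_center_iff.mp (h3 hn)) g
        rw [this, mul_inv_cancel_right]; exact hn
      exact hZb (hnone Z h4 hZs (by rw [hZ]; exact inf_le_left))
    have := hsub _ hne (H22.FPF.map_centralizer hZs)
    exact H2.Fusion4.npc_of_nilpotent
  exact H2.ZJ3.npc_thompson hq2 P h1 h2

/-- Thompson's theorem -/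
theorem nilpotent_of_fp (p : ℕ) (hp : p.Prime) : ∀ (n : ℕ) (G : Type*) [Group G] [Finite G] (σ : MulAut G),
    Nat.card G = n → FP σ p → Group.IsNilpotent G := by
  intro n
  induction n using Nat.strong_induction_on with
  | _ n ih =>
  intro G _ _ σ hn hσ
  classical
  by_cases htriv : Subsingleton G
  · infer_instance
  have hnt : Nontrivial G := not_subsingleton_iff_nontrivial.mp htriv
  -- subgroups
  have hsub : ∀ N : Subgroup G, N ≠ ⊤ → N.map σ.toMonoidHom = N → Group.IsNilpotent N := by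
    intro N hN hNs
    refine ih (Nat.card N) ?_ N (restr σ N hNs) rfl (hσ.restr N hNs)
    rw [← hn]
    exact lt_of_le_of_ne (Subgroup.card_le_card_group N) (fun h => hN (Subgroup.eq_top_of_card_eq N h))
  by_cases hex : ∃ N : Subgroup G, N.Normal ∧ N ≠ ⊥ ∧ N ≠ ⊤ ∧ N.map σ.toMonoidHom = N
  · -- solvable case
    obtain ⟨N, hNn, hNb, hNt, hNs⟩ := hex
    have hcardquot : ∀ M : Subgroup G, M ≠ ⊥ → M.index < Nat.card G := by
      intro M hM
      have h1 := M.card_mul_index
      have h2 : 1 < Nat.card M := M.one_lt_card_iff_ne_bot.mpr hM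
      have h3 : 0 < M.index := Nat.pos_of_ne_zero M.index_ne_zero_of_finite
      nlinarith
    have hquot : ∀ (M : Subgroup G) [M.Normal], M ≠ ⊥ → M.map σ.toMonoidHom = M → Group.IsNilpotent (G ⧸ M) := by
      intro M _ hM hMs
      refine ih (Nat.card (G ⧸ M)) ?_ (G ⧸ M) (QuotientGroup.congr M M σ hMs) rfl (hσ.quot M hMs)
      rw [← hn]; exact hcardquot M hM
    have hsolv : Group.IsSolvable G := by
      have h1 : Group.IsNilpotent N := hsub N hNt hNs
      have h2 : Group.IsNilpotent (G ⧸ N) := hquot N hNb hNs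
      have h3 : Group.IsSolvable N := inferInstance
      have h4 : Group.IsSolvable (G ⧸ N) := inferInstance
      exact (Group.isSolvable_iff_subgroup_quotient N).mpr ⟨h3, h4⟩
    obtain ⟨Q, hQn, hQb, hQs, hmin, hQc, r, hr, hQr, -⟩ := H22.FPF.exists_minimal_invariant hsolv σ
    have hQZ := minimal_central hp hσ Q hQb hQs hmin hQc r hr hQr
    have h1 : Group.IsNilpotent (G ⧸ Q) := hquot Q hQb hQs
    exact Subgroup.isNilpotent_of_ker_le_center (QuotientGroup.mk' Q) (by rw [QuotientGroup.ker_mk']; exact hQZ)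
  · push Not at hex
    by_cases h2 : IsPGroup 2 G
    · exact h2.isNilpotent
    -- an odd prime
    obtain ⟨q, hq, hq2, hqd⟩ : ∃ q : ℕ, q.Prime ∧ q ≠ 2 ∧ q ∣ Nat.card G := by
      by_contra hcon
      push Not at hcon
      apply h2
      have h3 : ∀ q : ℕ, q.Prime → q ∣ Nat.card G → q = 2 := by
        intro q hq hqd
        by_contra hne
        exact hcon q hq hne hqd
      exact IsPGroup.of_card (Nat.eq_prime_pow_of_unique_prime_dvd Nat.card_pos.ne' (h3 _))
    have hqf : Fact q.Prime := ⟨hq⟩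
    obtain ⟨P, hP⟩ := hσ.sylow q
    have hPb : (P : Subgroup G) ≠ ⊥ := by
      intro h
      have h3 := P.dvd_card_of_dvd_card hqd
      rw [h, Subgroup.card_bot] at h3
      exact hq.one_lt.ne' (Nat.dvd_one.mp h3)
    have hPnil : Group.IsNilpotent (P : Subgroup G) := P.isPGroup'.isNilpotent
    by_cases hPtop : (P : Subgroup G) = ⊤
    · have h3 : IsPGroup q (⊤ : Subgroup G) := by rw [← hPtop]; exact P.isPGroup'
      have h4 : IsPGroup q G := h3.of_equiv Subgroup.topEquiv
      exact h4.isNilpotent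
    exfalso
    -- normal invariant subgroups of `G` contained in `P` are trivial
    have hnone : ∀ N : Subgroup G, N.Normal → N.map σ.toMonoidHom = N → N ≤ P → N = ⊥ := by
      intro N hNn hNs hNP
      by_contra hNb
      refine hex N hNn hNb ?_ hNs
      intro h
      rw [h] at hNP
      exact hPtop (top_le_iff.mp hNP)
    have hnpc : HasNormalPComplement q G := npc_of_simple_action hq2 P hP hPb hsub hnone
    obtain ⟨K, hKn, hKc, k, hK⟩ := H2.Basic.npc_iff.mp hnpc
    have hKs : K.map σ.toMonoidHom = K := by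
      apply H22.FPF.map_eq_of_forall_mem
      intro x hx
      rw [H2.Basic.mem_npc_iff hKc hK] at hx ⊢
      have h9 : orderOf (σ x) = orderOf x := orderOf_injective σ.toMonoidHom σ.injective x
      rwa [h9]
    have hKt : K ≠ ⊤ := by
      intro h
      apply hKc
      rw [h, Subgroup.card_top]; exact hqd
    have hKb : K ≠ ⊥ := by
      intro h
      rw [h, Subgroup.index_bot] at hK
      have h3 : IsPGroup q G := IsPGroup.of_card hK
      apply hPtop
      rw [eq_top_iff]
      intro x _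
      have h4 : IsPGroup q (⊤ : Subgroup G) := h3.to_subgroup ⊤
      obtain ⟨P', hP'⟩ := h4.exists_le_sylow
      have h5 : (P' : Subgroup G) = ⊤ := top_le_iff.mp hP'
      have h6 : Nat.card (P : Subgroup G) = Nat.card G := by
        rw [P.card_eq_multiplicity, ← P'.card_eq_multiplicity, h5, Subgroup.card_top]
      rw [Subgroup.eq_top_of_card_eq _ h6]; trivial
    exact hex K hKn hKb hKt hKs

/-- the Frobenius kernel is nilpotent -/
theorem frobenius_nilpotent {G : Type*} [Group G] [Finite G] (H : Subgroup G) (hH : Cfsg.IsFrobeniusComplement H) :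
    ∃ N : Subgroup G, (N : Set G) = Cfsg.frobeniusKernel H ∧ N.Normal ∧ Group.IsNilpotent N := by
  obtain ⟨N, hN, hNn, hc⟩ := H9.FrobKer.frobenius H hH
  refine ⟨N, hN, hNn, ?_⟩
  obtain ⟨p, hp, hpd⟩ := Nat.exists_prime_and_dvd (n := Nat.card H)
    (fun h => hH.1 (Subgroup.card_eq_one.mp h))
  have hpf : Fact p.Prime := ⟨hp⟩
  obtain ⟨x, hx⟩ := exists_prime_orderOf_dvd_card' (G := H) p hpd
  have hx1 : (x : G) ≠ 1 := by
    intro h
    have : x = 1 := Subtype.ext h
    rw [this, orderOf_one] at hx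
    exact hp.one_lt.ne hx
  refine nilpotent_of_fp p hp _ N (MulAut.conjNormal (x : G)) rfl ⟨?_, ?_⟩
  · intro g hg
    have h1 : (x : G) * g * (x : G)⁻¹ = g := congrArg Subtype.val hg
    have h2 : (g : G) ∈ H := by
      apply H1.Frob.centralizer_le hH x.2 hx1
      exact (mul_inv_eq_iff_eq_mul.mp h1).symm
    have h3 : (g : G) ∈ N ⊓ H := ⟨g.2, h2⟩
    rw [hc.disjoint.eq_bot, mem_bot] at h3
    exact Subtype.ext h3
  · rw [← map_pow]
    have h4 : (x : G) ^ p = 1 := by
      rw [← hx, ← Subgroup.orderOf_coe]; exact pow_orderOf_eq_one _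
    rw [h4, map_one]

end Cfsg.Agent.H3.Fpf
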