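import Mathlib
import Cfsg.Prelude.Def_OddOrderChar
import Cfsg.Prelude.Def_OddOrderLocal
import Cfsg.Agent.H10_Fin3
import Cfsg.Agent.S0033
import Cfsg.Agent.H1_Fixed

/-!
H10_Fin4: the final contradiction for TI Frobenius systems of odd order (S1526).
-/

set_option autoImplicit false
set_option linter.style.haveILetI false
set_option linter.unusedSectionVars false

namespace Cfsg.Agent.H10.Fin4

open Cfsg Cfsg.Agent.H10.Sib2 Cfsg.Agent.H10.Fin1 Cfsg.Agent.H10.Fin2 Cfsg.Agent.H10.Fin3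

/-- Frobenius kernels are nilpotent, centralizer form -/
theorem nilp {L : Type*} [Group L] [Finite L] (K : Subgroup L) [hK : K.Normal] (hK1 : K ≠ ⊥) (hK2 : K ≠ ⊤)
    (hC : ∀ k ∈ K, k ≠ 1 → Subgroup.centralizer ({k} : Set L) ≤ K) : Group.IsNilpotent K := by
  have hcop := Cfsg.Agent.H1.Fixed.coprime_of_centralizer_le K hC
  have hidx : K.index ≠ 1 := fun h => hK2 (Subgroup.index_eq_one.1 h)
  obtain ⟨r, hr, hrd⟩ := Nat.exists_prime_and_dvd hidx
  haveI := Fact.mk hr
  obtain ⟨x, hx⟩ := exists_prime_orderOf_dvd_card' (G := L) r (hrd.trans (Subgroup.index_dvd_card K))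
  have hxK : x ∉ K := by
    intro h
    have h1 : orderOf (⟨x, h⟩ : K) ∣ Nat.card K := orderOf_dvd_natCard _
    rw [Subgroup.orderOf_mk, hx] at h1
    exact hr.one_lt.ne' (Nat.eq_one_of_dvd_coprimes hcop h1 hrd)
  have hfpf : ∀ k : K, x * (k : L) * x⁻¹ = k → k = 1 := by
    intro k hk
    by_contra hk1
    apply hxK
    apply hC k k.2 (fun h => hk1 (Subtype.ext h))
    rw [Subgroup.mem_centralizer_singleton_iff]
    have h3 := mul_inv_eq_iff_eq_mul.1 hk
    first
      | exact h3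
      | exact h3.symm
  refine Cfsg.Agent.S0033.result (MulAut.conjNormal x : MulAut K) ?_ r hr ?_
  · intro k hk
    apply hfpf
    have h1 : (((MulAut.conjNormal x : MulAut K) k : K) : L) = k := congrArg (Subtype.val) hk
    rwa [MulAut.conjNormal_apply] at h1
  · have hpow : (MulAut.conjNormal x : MulAut K) ^ r = 1 := by
      rw [← map_pow, ← hx, pow_orderOf_eq_one, map_one]
    have hne : (MulAut.conjNormal x : MulAut K) ≠ 1 := by
      intro h
      obtain ⟨k, hk⟩ := Subgroup.ne_bot_iff_exists_ne_one.1 hK1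
      apply hk
      apply hfpf
      have h1 := DFunLike.congr_fun h k
      have h2 := congrArg (Subtype.val) h1
      rw [MulAut.conjNormal_apply] at h2
      exact h2
    exact orderOf_eq_prime hpow hne

theorem main {G : Type*} [Group G] [Finite G] (hodd : Odd (Nat.card G)) {ι : Type*} [Fintype ι] (hι : 2 ≤ Fintype.card ι)
    (L H : ι → Subgroup G) (hHL : ∀ i, H i < L i) (hH1 : ∀ i, H i ≠ ⊥) (hHn : ∀ i, ∀ x ∈ L i, ∀ h ∈ H i, x * h * x⁻¹ ∈ H i)
    (hfrob : ∀ i, ∀ h ∈ H i, h ≠ 1 → L i ⊓ Subgroup.centralizer ({h} : Set G) ≤ H i)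
    (hcop : ∀ i j, i ≠ j → Nat.Coprime (Nat.card (H i)) (Nat.card (H j)))
    (hTI : ∀ i, IsTISubset (H i : Set G) ∧ Subgroup.normalizer (H i : Set G) = L i)
    (hcover : ∀ g : G, g ≠ 1 → ∃ i, ∃ x : G, x * g * x⁻¹ ∈ H i) : False := by
  classical
  haveI := Fintype.ofFinite G
  haveI : Nonempty ι := Fintype.card_pos_iff.1 (by omega)
  haveI : ∀ i, Fintype (L i) := fun i => Fintype.ofFinite _
  haveI hKn : ∀ i, ((H i).subgroupOf (L i)).Normal := fun i =>
    ⟨fun k hk g => Subgroup.mem_subgroupOf.2 (hHn i g g.2 k (Subgroup.mem_subgroupOf.1 hk))⟩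
  have hmap : ∀ i, ((H i).subgroupOf (L i)).map (L i).subtype = H i := fun i =>
    Subgroup.map_subgroupOf_eq_of_le (hHL i).le
  have hoddL : ∀ i, Odd (Nat.card (L i)) := fun i => Odd.of_dvd_nat hodd (Subgroup.card_subgroup_dvd_card _)
  have hC' : ∀ i, ∀ k ∈ (H i).subgroupOf (L i), k ≠ 1 → Subgroup.centralizer ({k} : Set (L i)) ≤ (H i).subgroupOf (L i) := by
    intro i k hk hk1 x hx
    rw [Subgroup.mem_centralizer_singleton_iff] at hx
    refine Subgroup.mem_subgroupOf.2 (hfrob i k (Subgroup.mem_subgroupOf.1 hk) (fun h => hk1 (Subtype.ext h)) ⟨x.2, ?_⟩)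
    refine Subgroup.mem_centralizer_singleton_iff.2 ?_
    exact congrArg Subtype.val hx
  have hK1 : ∀ i, (H i).subgroupOf (L i) ≠ ⊥ := by
    intro i h
    have := hmap i
    rw [h, Subgroup.map_bot] at this
    exact hH1 i this.symm
  have hK2 : ∀ i, (H i).subgroupOf (L i) ≠ ⊤ := by
    intro i h
    rw [Subgroup.subgroupOf_eq_top] at h
    exact (hHL i).not_ge h
  have hnilK : ∀ i, Group.IsNilpotent ((H i).subgroupOf (L i)) := fun i => nilp _ (hK1 i) (hK2 i) (hC' i)
  have hnil : ∀ i, Group.IsNilpotent (H i) := fun i => by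
    haveI := hnilK i
    exact Group.nilpotent_of_mulEquiv (Subgroup.subgroupOfEquivOfLe (hHL i).le)
  have hTI' : ∀ i, ∀ g : G, g ∉ L i → ∀ t ∈ ((H i).subgroupOf (L i)).map (L i).subtype,
      g * t * g⁻¹ ∈ ((H i).subgroupOf (L i)).map (L i).subtype → t = 1 := by
    intro i g hg t ht ht'
    rw [hmap i] at ht ht'
    exact (hTI i).1 g (by rw [(hTI i).2]; exact hg) t ht ht'
  have hdata : ∀ i, ∃ (T : Finset (G → ℂ)) (d : (G → ℂ) → ℕ) (ψ X : G → ℂ), PD (H i) ((H i).subgroupOf (L i)).index T d ψ X := by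
    intro i
    haveI := hnilK i
    have hcoh := sibley_odd (hoddL i) (hHL i) (hH1 i) (hnil i) (hfrob i) (hTI i).1 (hTI i).2
    have := exists_data (K := (H i).subgroupOf (L i)) inferInstance (hC' i) (bot_lt_iff_ne_bot.2 (hK1 i)) (hTI' i) (hoddL i) hcoh
    rwa [hmap i] at this
  choose T d ψ X hPD using hdata
  have hcardK : ∀ i, Nat.card ((H i).subgroupOf (L i)) = Nat.card (H i) := fun i =>
    Nat.card_congr (Subgroup.subgroupOfEquivOfLe (hHL i).le).toEquiv
  have hLe : ∀ i, Nat.card (L i) = Nat.card (H i) * ((H i).subgroupOf (L i)).index := by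
    intro i
    rw [← hcardK i, Subgroup.card_mul_index]
  have heodd : ∀ i, Odd ((H i).subgroupOf (L i)).index := fun i => Odd.of_dvd_nat (hoddL i) (Subgroup.index_dvd_card _)
  have he3 : ∀ i, 3 ≤ ((H i).subgroupOf (L i)).index := by
    intro i
    have h1 : ((H i).subgroupOf (L i)).index ≠ 1 := fun h => hK2 i (Subgroup.index_eq_one.1 h)
    obtain ⟨m, hm⟩ := heodd i
    omega
  have hh : ∀ i, 2 * ((H i).subgroupOf (L i)).index + 1 ≤ Nat.card (H i) := by
    intro i
    have h1 := (hPD i).sumd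
    have h2 : 1 < Nat.card (H i) := (Subgroup.one_lt_card_iff_ne_bot _).2 (hH1 i)
    have h3 : ((H i).subgroupOf (L i)).index * ∑ t ∈ T i, (d i t) ^ 2 + 1 = Nat.card (H i) := by
      have : ((((H i).subgroupOf (L i)).index * ∑ t ∈ T i, (d i t) ^ 2 + 1 : ℕ) : ℝ) = (Nat.card (H i) : ℝ) := by
        push_cast
        linarith
      exact_mod_cast this
    have h4 : Odd (Nat.card (H i)) := Odd.of_dvd_nat hodd (Subgroup.card_subgroup_dvd_card _)
    have h5 : Even (((H i).subgroupOf (L i)).index * ∑ t ∈ T i, (d i t) ^ 2) := by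
      obtain ⟨m, hm⟩ := h4
      exact ⟨m, by omega⟩
    rcases Nat.even_mul.1 h5 with h6 | h6
    · exact absurd h6 (Nat.not_even_iff_odd.2 (heodd i))
    · obtain ⟨m, hm⟩ := h6
      have h7 : m ≠ 0 := by
        rintro rfl
        rw [hm, add_zero, mul_zero, zero_add] at h3
        omega
      rw [hm] at h3
      have h8 : 1 ≤ m := Nat.one_le_iff_ne_zero.2 h7
      nlinarith [he3 i]
  exact final hodd hLe hTI hcop hcover he3 hh hPD

end Cfsg.Agent.H10.Fin4
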