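import Mathlib
import Cfsg.Agent.H10_CohI3
import Cfsg.Agent.H10_Fin1
import Cfsg.Agent.H10_Fin4

/-!
H10_CohI4: coherence for Frobenius groups with nilpotent kernel (all cases except small 2-groups).
-/

set_option autoImplicit false
set_option linter.style.haveILetI false
set_option linter.unusedSectionVars false

namespace Cfsg.Agent.H10.CohI4

open Cfsg Cfsg.Agent.H3.CharBasic Cfsg.Agent.H3.CharIrr Cfsg.Agent.H3.CharComplete Cfsg.Agent.H3.CharInt
  Cfsg.Agent.H3.CharInd Cfsg.Agent.H3.CharMult Cfsg.Agent.H10.Coh Cfsg.Agent.H10.Coh3 Cfsg.Agent.H10.Coh4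
  Cfsg.Agent.H10.IndSet Cfsg.Agent.H10.IndSet2 Cfsg.Agent.H10.IndSet3 Cfsg.Agent.H10.IndSet4
  Cfsg.Agent.H10.IndSet7 Cfsg.Agent.H10.OOClif
  Cfsg.Agent.H10.IndSet6 Cfsg.Agent.H10.CohI Cfsg.Agent.H10.CohI2 Cfsg.Agent.H10.CohI3
open scoped ComplexConjugate commutatorElement

section NonPP

variable {L : Type*} [Group L] [Fintype L] {G : Type*} [Group G] [Fintype G] {K : Subgroup L} [hK : K.Normal]
  {τ : (L → ℂ) → (G → ℂ)}

theorem S_irr (hC : ∀ k ∈ K, k ≠ 1 → Subgroup.centralizer ({k} : Set L) ≤ K) {χ : L → ℂ} (h : χ ∈ inducedIrrAbove K ⊥) :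
    IsIrrCharacter L χ := by
  obtain ⟨θ, hθ, hθ1, -, rfl⟩ := h
  exact Cfsg.Agent.H3.FrobInd.ind_irr K hC hθ hθ1

theorem mem_S (hC : ∀ k ∈ K, k ≠ 1 → Subgroup.centralizer ({k} : Set L) ≤ K) {lam : L → ℂ} (hlam : IsIrrCharacter L lam)
    (h : ∃ z ∈ K, lam z ≠ lam 1) : lam ∈ inducedIrrAbove K ⊥ := by
  haveI := Fintype.ofFinite K
  obtain ⟨z, hz, hne⟩ := h
  obtain ⟨θ, hθ, hc⟩ := exists_constituent_res (H := K) hlam
  have hc' : classInner (indFun K θ) lam ≠ 0 := (constituent_ind_iff (IsIrr.isCharacter hlam)).2 hc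
  have hθ1 : θ ≠ fun _ => 1 := by
    rintro rfl
    apply hne
    apply ker_const (IsChar.ind (IsIrr.isCharacter hθ)) hlam hc'
    exact (ker_ind hK hK le_rfl (IsIrr.isCharacter hθ) (IsIrr.one_ne_zero hθ)).1 (fun a _ => rfl) z hz
  have h2 : indFun K θ = lam := by
    by_contra hne2
    exact hc' (ci_irr_ne (Cfsg.Agent.H3.FrobInd.ind_irr K hC hθ hθ1) hlam hne2)
  refine ⟨θ, hθ, hθ1, ?_, h2.symm⟩
  intro a ha
  rw [Subgroup.mem_bot] at ha
  have : a = 1 := Subtype.ext ha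
  rw [this]

theorem base_coh (hC : ∀ k ∈ K, k ≠ 1 → Subgroup.centralizer ({k} : Set L) ≤ K)
    (hτ : IsLinearIsometryOn (zspanOn (inducedIrrAbove K ⊥) {1}ᶜ) τ) (hτ1 : ∀ α ∈ zspanOn (inducedIrrAbove K ⊥) {1}ᶜ, τ α 1 = 0) :
    Coh' (inducedIrrAbove K ⁅K, K⁆) τ := by
  have hsub : inducedIrrAbove K ⁅K, K⁆ ⊆ inducedIrrAbove K ⊥ := fun x hx => SF_mono bot_le hx
  have hd := Cfsg.Agent.H10.Sib2.deg_ab (K := K) (A := ⁅K, K⁆) (fun x hx y hy => Subgroup.commutator_mem_commutator hx hy)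
  exact coh_equal (fun χ hχ => S_irr hC (hsub hχ)) (fun χ hχ ψ hψ => by rw [hd χ hχ, hd ψ hψ])
    (iso_mono hτ (fun x hx => zo_mono hsub hx)) (fun α hα => hτ1 α (zo_mono hsub hα))

theorem na_ne_bot (hna : ¬ ∀ x ∈ K, ∀ y ∈ K, x * y = y * x) : K ≠ ⊥ := by
  rintro rfl
  apply hna
  intro x hx y hy
  rw [Subgroup.mem_bot] at hx hy
  rw [hx, hy]

theorem nonpp (hnil : Group.IsNilpotent K) (hC : ∀ k ∈ K, k ≠ 1 → Subgroup.centralizer ({k} : Set L) ≤ K)
    (hna : ¬ ∀ x ∈ K, ∀ y ∈ K, x * y = y * x) (hK2 : K ≠ ⊤) (hpp : ¬ ∃ p m : ℕ, p.Prime ∧ Nat.card K = p ^ m)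
    (hτ : IsLinearIsometryOn (zspanOn (inducedIrrAbove K ⊥) {1}ᶜ) τ) (hτ1 : ∀ α ∈ zspanOn (inducedIrrAbove K ⊥) {1}ᶜ, τ α 1 = 0) :
    Coh' (inducedIrrAbove K ⊥) τ := by
  classical
  have hK1 := na_ne_bot hna
  have he := odd_index hC hna
  have he1 : K.index ≠ 1 := fun h => hK2 (Subgroup.index_eq_one.1 h)
  have he3 : 3 ≤ K.index := by
    obtain ⟨r, hr⟩ := he
    omega
  have hsolv : Group.IsSolvable K := inferInstance
  have hDK : ⁅K, K⁆ < K := Cfsg.Agent.H10.Sib2.comm_lt hsolv hK1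
  obtain ⟨q, hq, hqd, hqo⟩ : ∃ p, Nat.Prime p ∧ p ∣ Nat.card K ∧ Odd p := by
    rcases Nat.eq_two_pow_or_exists_odd_prime_and_dvd (Nat.card K) with ⟨k, hk⟩ | h
    · exact absurd ⟨2, k, Nat.prime_two, hk⟩ hpp
    · exact h
  have hK0 : Nat.card K ≠ 0 := Nat.card_pos.ne'
  have hcop : (q ^ (Nat.card K).factorization q).Coprime (Nat.card K / q ^ (Nat.card K).factorization q) :=
    Nat.Coprime.pow_left _ (Nat.coprime_ordCompl hq hK0)
  obtain ⟨Q, R, hQn, hRn, hQK, hRK, hQm, hRm, hQR, hcard, hdec⟩ := split_normal K hnil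
    (by rw [Nat.ordProj_mul_ordCompl_eq_self]) hcop
  have hcop' : Nat.Coprime (Nat.card Q) (Nat.card R) := (hcop.of_dvd_left hQm).of_dvd_right hRm
  have hQ1 : Q ≠ ⊥ := by
    intro h
    rw [h, Subgroup.card_bot, one_mul] at hcard
    rw [hcard] at hRm
    have h1 := Nat.coprime_ordCompl hq hK0
    exact hq.one_lt.ne' (Nat.eq_one_of_dvd_coprimes h1 dvd_rfl (hqd.trans hRm))
  have hR1 : R ≠ ⊥ := by
    intro h
    rw [h, Subgroup.card_bot, mul_one] at hcard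
    rw [hcard] at hQm
    obtain ⟨j, -, hj⟩ := (Nat.dvd_prime_pow hq).1 hQm
    exact hpp ⟨q, j, hq, hj⟩
  have hQodd : Odd (Nat.card Q) := Odd.of_dvd_nat hqo.pow hQm
  refine chain hK hsolv (fun χ hχ => S_irr hC hχ) hτ hτ1 hnil ⁅K, K⁆ hDK (base_coh hC hτ hτ1) ?_
  intro A B hA hB hBA hAH hcomm hmax θ hθ hk _
  have hor : A ⊓ Q ≤ B ∨ A ⊓ R ≤ B := by
    by_contra hno
    push Not at hno
    have key : ∀ U : Subgroup L, U.Normal → ¬ A ⊓ U ≤ B → B.relIndex A ∣ Nat.card U := by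
      intro U hU hAU
      have h1 : (A ⊓ U) ⊔ B = A := by
        have hle : (A ⊓ U) ⊔ B ≤ A := sup_le inf_le_left hBA.le
        by_contra hne
        have h2 := hmax ((A ⊓ U) ⊔ B) inferInstance le_sup_right (lt_of_le_of_ne hle hne)
        exact hAU (le_sup_left.trans h2.le)
      have h2 : B.relIndex A = B.relIndex (A ⊓ U) := by
        conv_lhs => rw [← h1]
        exact Subgroup.relIndex_sup_right _ _
      rw [h2]
      exact (Subgroup.relIndex_dvd_card _ _).trans (Subgroup.card_dvd_of_le inf_le_right)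
    have h1 := Nat.eq_one_of_dvd_coprimes hcop' (key Q hQn hno.1) (key R hRn hno.2)
    exact hBA.not_ge (Subgroup.relIndex_eq_one.1 h1)
  rcases hor with h | h
  · exact core hnil hC he he3 hAH hcomm hQK hRK hQR hcop' hcard hdec hQ1 hR1 (Or.inl hQodd) h hθ hk
  · refine core hnil hC he he3 hAH hcomm hRK hQK (fun a ha b hb => (hQR b hb a ha).symm) hcop'.symm (by rw [mul_comm]; exact hcard)
      ?_ hR1 hQ1 (Or.inr hQodd) h hθ hk
    intro k hk
    obtain ⟨a, ha, b, hb, e⟩ := hdec k hk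
    exact ⟨b, hb, a, ha, by rw [← hQR a ha b hb, e]⟩

/-- the set of all induced characters is described by non-triviality on `K` -/
theorem set_eq (hC : ∀ k ∈ K, k ≠ 1 → Subgroup.centralizer ({k} : Set L) ≤ K) :
    {χ : L → ℂ | IsIrrCharacter L χ ∧ ∃ k ∈ K, χ k ≠ χ 1} = inducedIrrAbove K ⊥ := by
  haveI := Fintype.ofFinite K
  ext χ
  constructor
  · rintro ⟨h1, h2⟩
    exact mem_S hC h1 h2
  · intro h
    refine ⟨S_irr hC h, ?_⟩
    obtain ⟨θ, hθ, hθ1, -, rfl⟩ := h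
    by_contra hno
    push Not at hno
    have h1 := (ker_ind hK hK le_rfl (IsIrr.isCharacter hθ) (IsIrr.one_ne_zero hθ)).2 hno
    apply hθ1
    have h2 : classInner θ (fun _ => 1) ≠ 0 := by
      have h3 : classInner θ (fun _ => 1) = θ 1 := by
        rw [classInner, Finset.sum_congr rfl (g := fun _ => θ 1) (fun x _ => by rw [h1 x x.2, map_one, mul_one]),
          Finset.sum_const, Finset.card_univ, ← Nat.card_eq_fintype_card, nsmul_eq_mul]
        have : (Nat.card K : ℂ) ≠ 0 := by exact_mod_cast Nat.card_pos.ne'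
        field_simp
      rw [h3]; exact IsIrr.one_ne_zero hθ
    by_contra hne
    exact h2 (ci_irr_ne hθ isIrr_one hne)

/-- two different members give a nonzero combination of degree zero -/
theorem exists_nz {S : Set (L → ℂ)} {χ ψ : L → ℂ} (hχ : χ ∈ S) (hψ : ψ ∈ S) (h1 : IsIrrCharacter L χ) (h2 : IsIrrCharacter L ψ)
    (hne : χ ≠ ψ) : ∃ α ∈ zspanOn S {1}ᶜ, α ≠ 0 := by
  obtain ⟨m, hm, em⟩ := IsIrr.one_eq_nat h1
  obtain ⟨n, hn, en⟩ := IsIrr.one_eq_nat h2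
  refine ⟨(n : ℤ) • χ - (m : ℤ) • ψ, ?_, ?_⟩
  · rw [zo_iff]
    refine ⟨zs_diff (zs_zsmul _ (zs_sub hχ)) (zs_zsmul _ (zs_sub hψ)), ?_⟩
    rw [zc, zc, Pi.sub_apply, Pi.smul_apply, Pi.smul_apply, smul_eq_mul, smul_eq_mul, em, en]
    push_cast; ring
  · intro h
    have h3 := congrArg (fun f => classInner f χ) h
    simp only [zc] at h3
    rw [ci_sub_left, ci_smul_left, ci_smul_left, ci_irr_self h1, ci_irr_ne h2 h1 hne.symm, ci_zero_left] at h3
    have : (n : ℂ) = 0 := by simpa using h3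
    exact hn.ne' (by exact_mod_cast this)

theorem nz_na (hsolv : Group.IsSolvable K) (hC : ∀ k ∈ K, k ≠ 1 → Subgroup.centralizer ({k} : Set L) ≤ K)
    (hna : ¬ ∀ x ∈ K, ∀ y ∈ K, x * y = y * x) : ∃ α ∈ zspanOn (inducedIrrAbove K ⊥) {1}ᶜ, α ≠ 0 := by
  have hK1 := na_ne_bot hna
  have hDK : ⁅K, K⁆ < K := Cfsg.Agent.H10.Sib2.comm_lt hsolv hK1
  have hD1 : ⁅K, K⁆ ≠ ⊥ := by
    intro h
    apply hna
    intro x hx y hy
    have : x * y * x⁻¹ * y⁻¹ ∈ ⁅K, K⁆ := Subgroup.commutator_mem_commutator hx hy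
    rw [h, Subgroup.mem_bot] at this
    exact mul_inv_eq_iff_eq_mul.1 (mul_inv_eq_one.1 this)
  obtain ⟨ψ, hψ⟩ := above_nonempty hsolv hDK
  obtain ⟨χ, hχ⟩ := Cfsg.Agent.H10.Sib2.XF_nonempty hK ⁅K, K⁆ hD1 hDK.le
  rw [mem_XF] at hχ
  have hψ' : ψ ∈ inducedIrrAbove K ⊥ := SF_mono bot_le hψ
  exact exists_nz hχ.1 hψ' (S_irr hC hχ.1) (S_irr hC hψ') (fun h => hχ.2 (h ▸ hψ))

/-- abelian kernel: number of characters -/
theorem ab_count (hC : ∀ k ∈ K, k ≠ 1 → Subgroup.centralizer ({k} : Set L) ≤ K)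
    (hab : ∀ x ∈ K, ∀ y ∈ K, x * y = y * x) : (SF K ⊥).card * K.index = Nat.card K - 1 := by
  have h1 := sum_SF hK (⊥ : Subgroup L)
  have hd := Cfsg.Agent.H10.Sib2.deg_ab (K := K) (A := ⊥) (fun x hx y hy => by
    rw [Subgroup.mem_bot, hab x hx y hy]; group)
  rw [Finset.sum_congr rfl (g := fun _ => (K.index : ℝ) ^ 2) (fun φ hφ => by
    rw [ci_irr_self (S_irr hC (mem_SF.1 hφ)), hd φ (mem_SF.1 hφ), Complex.natCast_re]; simp),
    Finset.sum_const, nsmul_eq_mul, Subgroup.relIndex_bot_left] at h1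
  have h2 : (0 : ℝ) < K.index := by exact_mod_cast Nat.pos_of_ne_zero Subgroup.index_ne_zero_of_finite
  have h3 : ((SF K ⊥).card : ℝ) * K.index = (Nat.card K : ℝ) - 1 := by
    have h4 : (K.index : ℝ) * (((SF K ⊥).card : ℝ) * K.index) = K.index * ((Nat.card K : ℝ) - 1) := by linear_combination h1
    exact mul_left_cancel₀ h2.ne' h4
  have h5 : (1 : ℕ) ≤ Nat.card K := Nat.card_pos
  have h6 : (((SF K ⊥).card * K.index : ℕ) : ℝ) = ((Nat.card K - 1 : ℕ) : ℝ) := by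
    rw [Nat.cast_sub h5]; push_cast; exact h3
  exact_mod_cast h6

/-- abelian kernel -/
theorem ab_case (hC : ∀ k ∈ K, k ≠ 1 → Subgroup.centralizer ({k} : Set L) ≤ K) (hK1 : K ≠ ⊥)
    (hab : ∀ x ∈ K, ∀ y ∈ K, x * y = y * x)
    (hτ : IsLinearIsometryOn (zspanOn (inducedIrrAbove K ⊥) {1}ᶜ) τ) (hτ1 : ∀ α ∈ zspanOn (inducedIrrAbove K ⊥) {1}ᶜ, τ α 1 = 0) :
    ((SF K ⊥).card = 1 ∧ Nat.card K = K.index + 1) ∨ IsCoherent (inducedIrrAbove K ⊥) {1}ᶜ τ := by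
  have hc := ab_count hC hab
  have hcK : 1 < Nat.card K := (Subgroup.one_lt_card_iff_ne_bot _).2 hK1
  have hd := Cfsg.Agent.H10.Sib2.deg_ab (K := K) (A := ⊥) (fun x hx y hy => by
    rw [Subgroup.mem_bot, hab x hx y hy]; group)
  rcases lt_trichotomy (SF K ⊥).card 1 with h | h | h
  · exfalso
    have : (SF K ⊥).card = 0 := by omega
    rw [this, zero_mul] at hc
    omega
  · left
    refine ⟨h, ?_⟩
    rw [h, one_mul] at hc
    omega
  · right
    obtain ⟨χ, hχ, ψ, hψ, hne⟩ := Finset.one_lt_card.1 h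
    rw [mem_SF] at hχ hψ
    obtain ⟨τ₁, t1, t2⟩ := coh_equal (fun χ hχ => S_irr hC hχ) (fun χ hχ ψ hψ => by rw [hd χ hχ, hd ψ hψ]) hτ hτ1
    exact ⟨exists_nz hχ hψ (S_irr hC hχ) (S_irr hC hψ) hne, τ₁, t1, t2⟩

/-- if the complement is transitive on the kernel, the kernel has prime exponent -/
theorem el_ab (hC : ∀ k ∈ K, k ≠ 1 → Subgroup.centralizer ({k} : Set L) ≤ K) (hK1 : K ≠ ⊥)
    (he : Nat.card K = K.index + 1) : ∃ p : ℕ, p.Prime ∧ p ∣ Nat.card K ∧ ∀ x ∈ K, x ^ p = 1 := by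
  classical
  have hcK : 1 < Nat.card K := (Subgroup.one_lt_card_iff_ne_bot _).2 hK1
  obtain ⟨p, hp, hpd⟩ := Nat.exists_prime_and_dvd hcK.ne'
  haveI := Fact.mk hp
  obtain ⟨a, ha⟩ := exists_prime_orderOf_dvd_card' (G := K) p hpd
  have ha1 : (a : L) ≠ 1 := by
    intro h
    have h2 : a = 1 := Subtype.ext h
    rw [h2, orderOf_one] at ha
    exact hp.one_lt.ne ha
  refine ⟨p, hp, hpd, ?_⟩
  -- the class of a fills K \ 1
  let T : Set L := {x | x ∈ K ∧ x ≠ 1}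
  have hT : Nat.card T = K.index := by
    haveI := Fintype.ofFinite K
    have h5 : Nat.card {y : K // y ≠ 1} = Nat.card K - 1 := by
      rw [Nat.card_eq_fintype_card, Nat.card_eq_fintype_card, Fintype.card_subtype_compl]
      simp
    have h6 : Nat.card T = Nat.card {y : K // y ≠ 1} :=
      Nat.card_congr ⟨fun q => ⟨⟨q.1, q.2.1⟩, fun h => q.2.2 (congrArg Subtype.val h)⟩,
        fun y => ⟨y.1.1, y.1.2, fun h => y.2 (Subtype.ext h)⟩, fun _ => rfl, fun _ => rfl⟩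
    rw [h6, h5]; omega
  let C : Set L := {x | ∃ g : L, g * a * g⁻¹ = x}
  have hCT : C ⊆ T := by
    rintro _ ⟨g, rfl⟩
    refine ⟨hK.conj_mem _ a.2 g, fun h => ha1 ?_⟩
    have h1 : g * (a : L) * g⁻¹ = g * 1 * g⁻¹ := by rw [h]; group
    exact mul_left_cancel (mul_right_cancel h1)
  have hCc : K.index ≤ Nat.card C := by
    have h1 : C = MulAction.orbit (ConjAct L) (a : L) := by
      ext x
      constructor
      · rintro ⟨g, rfl⟩
        exact ⟨ConjAct.toConjAct g, by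
          show ConjAct.toConjAct g • (a : L) = _
          rw [ConjAct.smul_def]
          rfl⟩
      · rintro ⟨g, rfl⟩
        exact ⟨ConjAct.ofConjAct g, by
          show _ = g • (a : L)
          rw [ConjAct.smul_def]⟩
    have h2 : Nat.card C = (Subgroup.centralizer ({(a : L)} : Set L)).index := by
      rw [h1, Nat.card_congr (MulAction.orbitEquivQuotientStabilizer (ConjAct L) (a : L)), ← Subgroup.index]
      rw [Subgroup.centralizer_eq_comap_stabilizer]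
      exact (Subgroup.index_comap_of_surjective _ (MulEquiv.surjective _)).symm
    rw [h2]
    exact Nat.le_of_dvd (Nat.pos_of_ne_zero Subgroup.index_ne_zero_of_finite) (Subgroup.index_dvd_of_le (hC a a.2 ha1))
  have hCeq : C = T := by
    apply Set.eq_of_subset_of_ncard_le hCT _ (Set.toFinite _)
    rw [← Nat.card_coe_set_eq, ← Nat.card_coe_set_eq, hT]
    exact hCc
  intro x hx
  by_cases hx1 : x = 1
  · rw [hx1, one_pow]
  · have h1 : x ∈ C := by rw [hCeq]; exact ⟨hx, hx1⟩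
    obtain ⟨g, rfl⟩ := h1
    have h2 : (a : L) ^ p = 1 := by
      rw [← SubmonoidClass.coe_pow, ← ha, pow_orderOf_eq_one]; rfl
    rw [conj_pow, h2]; group

end NonPP

end Cfsg.Agent.H10.CohI4
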