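import Mathlib
import Cfsg.Prelude.Def_Transfer
import Cfsg.Agent.H10_CohI4

/-!
H10_CohI5: coherence for a nilpotent TI subgroup with Frobenius normaliser.
-/

set_option autoImplicit false
set_option linter.style.haveILetI false
set_option linter.unusedSectionVars false

namespace Cfsg.Agent.H10.CohI5

open Cfsg Cfsg.Agent.H3.CharBasic Cfsg.Agent.H3.CharIrr Cfsg.Agent.H3.CharComplete Cfsg.Agent.H3.CharInt
  Cfsg.Agent.H3.CharInd Cfsg.Agent.H10.Coh Cfsg.Agent.H10.Coh3 Cfsg.Agent.H10.Coh4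
  Cfsg.Agent.H10.IndSet Cfsg.Agent.H10.IndSet2 Cfsg.Agent.H10.IndSet3 Cfsg.Agent.H10.IndSet4
  Cfsg.Agent.H10.IndSet7 Cfsg.Agent.H10.OOClif
  Cfsg.Agent.H10.IndSet6 Cfsg.Agent.H10.CohI Cfsg.Agent.H10.CohI2 Cfsg.Agent.H10.CohI3 Cfsg.Agent.H10.CohI4
open scoped ComplexConjugate commutatorElement

variable {G : Type*} [Group G]

theorem normal_sub (K : Subgroup G) : (K.subgroupOf (Subgroup.normalizer (K : Set G))).Normal := by
  refine ⟨fun k hk g => Subgroup.mem_subgroupOf.2 ?_⟩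
  exact (Subgroup.mem_set_normalizer_iff.1 g.2 k).1 (Subgroup.mem_subgroupOf.1 hk)

theorem cent_sub {K L : Subgroup G} (hC : ∀ k ∈ K, k ≠ 1 → Subgroup.centralizer ({k} : Set G) ≤ K) :
    ∀ k ∈ K.subgroupOf L, k ≠ 1 → Subgroup.centralizer ({k} : Set L) ≤ K.subgroupOf L := by
  intro k hk hk1 x hx
  rw [Subgroup.mem_centralizer_singleton_iff] at hx
  refine Subgroup.mem_subgroupOf.2 (hC k (Subgroup.mem_subgroupOf.1 hk) (fun h => hk1 (Subtype.ext h)) ?_)
  refine Subgroup.mem_centralizer_singleton_iff.2 ?_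
  exact congrArg Subtype.val hx

/-- a self-centralizing (in the strong sense) p-subgroup is Sylow -/
theorem is_sylow [Finite G] {H : Subgroup G} (hH1 : H ≠ ⊥) (hCG : ∀ h ∈ H, h ≠ 1 → Subgroup.centralizer ({h} : Set G) ≤ H)
    {p : ℕ} [Fact p.Prime] (hHp : IsPGroup p H) : ∃ P : Sylow p G, (P : Subgroup G) = H := by
  obtain ⟨P, hP⟩ := hHp.exists_le_sylow
  refine ⟨P, ?_⟩
  apply le_antisymm _ hP
  obtain ⟨h₀, hh₀⟩ := Subgroup.ne_bot_iff_exists_ne_one.1 hH1
  have hh₀1 : (h₀ : G) ≠ 1 := fun h => hh₀ (Subtype.ext h)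
  haveI : Nontrivial P := ⟨⟨⟨h₀, hP h₀.2⟩, 1, fun h => hh₀1 (congrArg Subtype.val h)⟩⟩
  have hcen : (⊥ : Subgroup P) < Subgroup.center P := IsPGroup.bot_lt_center P.isPGroup'
  obtain ⟨⟨z, hz⟩, hz1⟩ := Subgroup.ne_bot_iff_exists_ne_one.1 hcen.ne'
  have hz1' : (z : G) ≠ 1 := fun h => hz1 (Subtype.ext (Subtype.ext h))
  have hzH : (z : G) ∈ H := by
    apply hCG h₀ h₀.2 hh₀1
    rw [Subgroup.mem_centralizer_singleton_iff]
    have := congrArg Subtype.val (Subgroup.mem_center_iff.1 hz ⟨h₀, hP h₀.2⟩)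
    first
      | exact this
      | exact this.symm
  intro x hx
  apply hCG z hzH hz1'
  rw [Subgroup.mem_centralizer_singleton_iff]
  have := congrArg Subtype.val (Subgroup.mem_center_iff.1 hz ⟨x, hx⟩)
  first
    | exact this
    | exact this.symm

theorem rel_comm {K L : Subgroup G} (hKL : K ≤ L) :
    (⁅K.subgroupOf L, K.subgroupOf L⁆ : Subgroup L).relIndex (K.subgroupOf L) = (⁅K, K⁆.subgroupOf K).index := by
  rw [← Subgroup.relIndex_map_map_of_injective _ _ L.subtype_injective, Subgroup.map_commutator,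
    Subgroup.map_subgroupOf_eq_of_le hKL]
  rfl

/-- coherence for nilpotent TI subgroups -/
theorem ti_main [Fintype G] (K : Subgroup G) (hK1 : K ≠ ⊥) (hnil : Group.IsNilpotent K) (hTI : Cfsg.IsTISubset (K : Set G))
    (hlt : K < Subgroup.normalizer (K : Set G)) (hC : ∀ k ∈ K, k ≠ 1 → Subgroup.centralizer ({k} : Set G) ≤ K)
    [Fintype ↥(Subgroup.normalizer (K : Set G))] :
    ((SF (K.subgroupOf (Subgroup.normalizer (K : Set G))) ⊥).card = 1 ∧
      Nat.card K = (K.subgroupOf (Subgroup.normalizer (K : Set G))).index + 1 ∧ (∀ x ∈ K, ∀ y ∈ K, x * y = y * x) ∧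
      ∃ p : ℕ, p.Prime ∧ p ∣ Nat.card K ∧ ∀ x ∈ K, x ^ p = 1) ∨
    ((∃ m : ℕ, Nat.card K = 2 ^ m) ∧ (⁅K, K⁆.subgroupOf K).index < 4 * (K.subgroupOf (Subgroup.normalizer (K : Set G))).index ^ 2) ∨
    IsCoherent (inducedIrrAbove (K.subgroupOf (Subgroup.normalizer (K : Set G))) ⊥) {1}ᶜ
      (fun α => indFun (Subgroup.normalizer (K : Set G)) α) := by
  classical
  have hTI₀ := hTI
  obtain ⟨L, hL⟩ : ∃ L, L = Subgroup.normalizer (K : Set G) := ⟨_, rfl⟩
  haveI hKn := normal_sub K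
  have hC' := cent_sub (L := Subgroup.normalizer (K : Set G)) hC
  have hmap : (K.subgroupOf (Subgroup.normalizer (K : Set G))).map (Subgroup.normalizer (K : Set G)).subtype = K :=
    Subgroup.map_subgroupOf_eq_of_le hlt.le
  have hTI' : ∀ g : G, g ∉ Subgroup.normalizer (K : Set G) →
      ∀ t ∈ (K.subgroupOf (Subgroup.normalizer (K : Set G))).map (Subgroup.normalizer (K : Set G)).subtype,
      g * t * g⁻¹ ∈ (K.subgroupOf (Subgroup.normalizer (K : Set G))).map (Subgroup.normalizer (K : Set G)).subtype → t = 1 := by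
    intro g hg t ht ht'
    rw [hmap] at ht ht'
    exact hTI g hg t ht ht'
  have hiso := Cfsg.Agent.H10.Sib2.frob_iso hKn (A := ⊥) hTI'
  have hτ1 : ∀ α ∈ zspanOn (inducedIrrAbove (K.subgroupOf (Subgroup.normalizer (K : Set G))) ⊥) {1}ᶜ,
      (fun α => indFun (Subgroup.normalizer (K : Set G)) α) α 1 = 0 := by
    intro α hα
    show indFun _ α 1 = 0
    rw [ind_one, (zo_iff.1 hα).2, mul_zero]
  have hK1' : K.subgroupOf (Subgroup.normalizer (K : Set G)) ≠ ⊥ := by
    intro h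
    rw [h, Subgroup.map_bot] at hmap
    exact hK1 hmap.symm
  have hK2' : K.subgroupOf (Subgroup.normalizer (K : Set G)) ≠ ⊤ := by
    intro h
    rw [Subgroup.subgroupOf_eq_top] at h
    exact hlt.not_ge h
  have hnil' : Group.IsNilpotent (K.subgroupOf (Subgroup.normalizer (K : Set G))) := by
    haveI := hnil
    exact Group.nilpotent_of_mulEquiv (Subgroup.subgroupOfEquivOfLe hlt.le).symm
  have hcard : Nat.card (K.subgroupOf (Subgroup.normalizer (K : Set G))) = Nat.card K :=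
    Nat.card_congr (Subgroup.subgroupOfEquivOfLe hlt.le).toEquiv
  have hsolv : Group.IsSolvable (K.subgroupOf (Subgroup.normalizer (K : Set G))) := inferInstance
  by_cases hab : ∀ x ∈ K.subgroupOf (Subgroup.normalizer (K : Set G)), ∀ y ∈ K.subgroupOf (Subgroup.normalizer (K : Set G)),
      x * y = y * x
  · rcases ab_case hC' hK1' hab hiso hτ1 with h | h
    · left
      refine ⟨h.1, by rw [← hcard]; exact h.2, ?_, ?_⟩
      · intro x hx y hy
        exact congrArg Subtype.val (hab ⟨x, hlt.le hx⟩ (Subgroup.mem_subgroupOf.2 hx) ⟨y, hlt.le hy⟩ (Subgroup.mem_subgroupOf.2 hy))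
      · obtain ⟨p, hp, hpd, h1⟩ := el_ab hC' hK1' h.2
        refine ⟨p, hp, by rw [← hcard]; exact hpd, fun x hx => ?_⟩
        exact congrArg Subtype.val (h1 ⟨x, hlt.le hx⟩ (Subgroup.mem_subgroupOf.2 hx))
    · right; right; exact h
  have hnz := nz_na hsolv hC' hab
  by_cases hpp : ∃ p m : ℕ, p.Prime ∧ Nat.card (K.subgroupOf (Subgroup.normalizer (K : Set G))) = p ^ m
  swap
  · right; right
    obtain ⟨τ₁, t1, t2⟩ := nonpp hnil' hC' hab hK2' hpp hiso hτ1
    exact ⟨hnz, τ₁, t1, t2⟩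
  obtain ⟨p, m, hp, hm⟩ := hpp
  have he := odd_index hC' hab
  rcases hp.eq_two_or_odd' with h2 | hodd
  · subst h2
    by_cases hbig : 4 * (K.subgroupOf (Subgroup.normalizer (K : Set G))).index ^ 2 ≤ (⁅K, K⁆.subgroupOf K).index
    swap
    · right; left
      exact ⟨⟨m, by rw [← hcard]; exact hm⟩, by omega⟩
    right; right
    have h3 : 4 * (K.subgroupOf (Subgroup.normalizer (K : Set G))).index ^ 2 + 1 < (⁅K.subgroupOf (Subgroup.normalizer (K : Set G)),
        K.subgroupOf (Subgroup.normalizer (K : Set G))⁆ : Subgroup ↥(Subgroup.normalizer (K : Set G))).relIndex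
          (K.subgroupOf (Subgroup.normalizer (K : Set G))) := by
      rw [rel_comm hlt.le]
      have h4 : (⁅K, K⁆.subgroupOf K).index ∣ 2 ^ m := by
        rw [← hm, hcard]
        exact Subgroup.index_dvd_card _
      obtain ⟨j, -, hj⟩ := (Nat.dvd_prime_pow Nat.prime_two).1 h4
      rw [hj] at hbig ⊢
      have he1 : (K.subgroupOf (Subgroup.normalizer (K : Set G))).index ≠ 1 := fun h => hK2' (Subgroup.index_eq_one.1 h)
      obtain ⟨r, hr⟩ := he
      have hr0 : r ≠ 0 := by rintro rfl; exact he1 (by rw [hr]; norm_num)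
      rcases Nat.lt_or_ge j 2 with hj2 | hj2
      · exfalso
        have h5 : 2 ^ j ≤ 2 ^ 1 := Nat.pow_le_pow_right (by norm_num) (by omega)
        nlinarith
      · obtain ⟨i, rfl⟩ := Nat.exists_eq_add_of_le hj2
        rw [pow_add] at hbig ⊢
        have h6 : (K.subgroupOf (Subgroup.normalizer (K : Set G))).index ^ 2 ≤ 2 ^ i := by omega
        have h7 : (K.subgroupOf (Subgroup.normalizer (K : Set G))).index ^ 2 ≠ 2 ^ i := by
          intro h8
          rcases Nat.eq_zero_or_pos i with h9 | h9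
          · rw [h9, pow_zero, hr] at h8
            have : 0 < r := Nat.pos_of_ne_zero hr0
            nlinarith
          · have h10 : Even (2 ^ i) := (Nat.even_pow.2 ⟨even_two, h9.ne'⟩)
            rw [← h8, hr] at h10
            have h11 : Odd ((2 * r + 1) ^ 2) := Odd.pow ⟨r, rfl⟩
            exact (Nat.not_even_iff_odd.2 h11) h10
        omega
    obtain ⟨τ₁, t1, t2⟩ := big hKn hsolv (fun χ hχ => S_irr hC' hχ) hiso hτ1 hnil' _
      (Cfsg.Agent.H10.Sib2.comm_lt hsolv hK1') (base_coh hC' hiso hτ1) h3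
    exact ⟨hnz, τ₁, t1, t2⟩
  · right; right
    have hLodd : Odd (Nat.card ↥(Subgroup.normalizer (K : Set G))) := by
      rw [← Subgroup.card_mul_index (K.subgroupOf (Subgroup.normalizer (K : Set G))), hm]
      exact hodd.pow.mul he
    exact Cfsg.Agent.H10.Sib2.sibley_odd hLodd hlt hK1 hnil (fun h hh h1 => inf_le_right.trans (hC h hh h1)) hTI rfl

theorem set_eq' (K : Subgroup G) [Finite G] (hlt : K < Subgroup.normalizer (K : Set G)) (hC : ∀ k ∈ K, k ≠ 1 → Subgroup.centralizer ({k} : Set G) ≤ K)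
    [Fintype ↥(Subgroup.normalizer (K : Set G))] :
    {χ : ↥(Subgroup.normalizer (K : Set G)) → ℂ | IsIrrCharacter ↥(Subgroup.normalizer (K : Set G)) χ ∧
      ∃ k : ↥(Subgroup.normalizer (K : Set G)), (k : G) ∈ K ∧ χ k ≠ χ 1} =
    inducedIrrAbove (K.subgroupOf (Subgroup.normalizer (K : Set G))) ⊥ := by
  haveI hKn := normal_sub K
  rw [← set_eq (cent_sub hC)]
  rfl

theorem card_S (K : Subgroup G) [Finite G] (hlt : K < Subgroup.normalizer (K : Set G)) (hC : ∀ k ∈ K, k ≠ 1 → Subgroup.centralizer ({k} : Set G) ≤ K)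
    [Fintype ↥(Subgroup.normalizer (K : Set G))] :
    Nat.card {χ : ↥(Subgroup.normalizer (K : Set G)) → ℂ // IsIrrCharacter ↥(Subgroup.normalizer (K : Set G)) χ ∧
      ∃ k : ↥(Subgroup.normalizer (K : Set G)), (k : G) ∈ K ∧ χ k ≠ χ 1} =
      (SF (K.subgroupOf (Subgroup.normalizer (K : Set G))) ⊥).card := by
  have h1 : (↑(SF (K.subgroupOf (Subgroup.normalizer (K : Set G))) ⊥) : Set (↥(Subgroup.normalizer (K : Set G)) → ℂ)) =
      {χ : ↥(Subgroup.normalizer (K : Set G)) → ℂ | IsIrrCharacter ↥(Subgroup.normalizer (K : Set G)) χ ∧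
      ∃ k : ↥(Subgroup.normalizer (K : Set G)), (k : G) ∈ K ∧ χ k ≠ χ 1} := by
    rw [coe_SF, set_eq' K hlt hC]
  rw [← Set.ncard_coe_finset, h1, ← Nat.card_coe_set_eq]
  rfl

end Cfsg.Agent.H10.CohI5
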