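import Mathlib
import Cfsg.Prelude.Def_OddOrderChar
import Cfsg.Agent.H10_CycEx3

/-!
H10_CycEx4: existence of the cyclic TI family (assembly).
-/

set_option autoImplicit false
set_option linter.style.haveILetI false
set_option linter.unusedSectionVars false

namespace Cfsg.Agent.H10.CycEx4

open Cfsg Cfsg.Agent.H3.CharBasic Cfsg.Agent.H3.CharIrr Cfsg.Agent.H3.CharComplete Cfsg.Agent.H3.CharInt
  Cfsg.Agent.H3.CharInd Cfsg.Agent.H3.GalProd Cfsg.Agent.H10.PM Cfsg.Agent.H10.Comb3 Cfsg.Agent.H10.CycTI Cfsg.Agent.H10.CycTI2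
  Cfsg.Agent.H10.CycTI3 Cfsg.Agent.H10.CycTI4 Cfsg.Agent.H10.CycTI5 Cfsg.Agent.H10.CycEx Cfsg.Agent.H10.CycEx2 Cfsg.Agent.H10.CycEx3
open scoped ComplexConjugate

variable {G : Type*} [Group G] [Fintype G] {W₁ W₂ : Subgroup G} (hW : IsSelfNormalizingCyclic W₁ W₂)
  (hodd : Odd (Nat.card ↥(W₁ ⊔ W₂)))

include hW hodd in
open Classical in
theorem exists_family : ∃ χ : (↥(W₁ ⊔ W₂) →* ℂˣ) → (G → ℂ), IsCyclicTIFamily W₁ W₂ χ := by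
  have hd := hdisj hW
  have hc := hcomm hW
  have hone : Pm (fun _ => 1 : G → ℂ) := Or.inl isIrr_one
  have X11 : X1 W₁ W₂ (1 : ↥(W₁ ⊔ W₂) →* ℂˣ) := fun w _ => rfl
  have X21 : X2 W₁ W₂ (1 : ↥(W₁ ⊔ W₂) →* ℂˣ) := fun w _ => rfl
  choose! x hx using fun (φ : ↥(W₁ ⊔ W₂) →* ℂˣ) (h : X1 W₁ W₂ φ ∧ φ ≠ 1) => rows (G := G) hW hodd h.1 h.2
  choose! y hy using fun (ψ : ↥(W₁ ⊔ W₂) →* ℂˣ) (h : X2 W₁ W₂ ψ ∧ ψ ≠ 1) => cols (G := G) hW hodd h.1 h.2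
  choose! B hB using fun (φ ψ : ↥(W₁ ⊔ W₂) →* ℂˣ) (h : (X1 W₁ W₂ φ ∧ φ ≠ 1) ∧ (X2 W₁ W₂ ψ ∧ ψ ≠ 1)) =>
    exists_B (G := G) hW h.1.1 h.2.1 h.1.2 h.2.2
  -- names for the index sets
  set P : (↥(W₁ ⊔ W₂) →* ℂˣ) → Prop := fun φ => X1 W₁ W₂ φ ∧ φ ≠ 1 with hP
  set Q : (↥(W₁ ⊔ W₂) →* ℂˣ) → Prop := fun ψ => X2 W₁ W₂ ψ ∧ ψ ≠ 1 with hQ
  have hxB : ∀ φ ψ, P φ → Q ψ → x φ ∈ B φ ψ := fun φ ψ h h' =>
    ((hB φ ψ ⟨h, h'⟩).mem_iff (hx φ h).1).2 ((hx φ h).2 ψ h'.1 h'.2)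
  have hyB : ∀ φ ψ, P φ → Q ψ → y ψ ∈ B φ ψ := fun φ ψ h h' =>
    ((hB φ ψ ⟨h, h'⟩).mem_iff (hy ψ h').1).2 ((hy ψ h').2 φ h.1 h.2)
  have hxy : ∀ φ ψ, P φ → Q ψ → x φ ≠ y ψ := by
    intro φ ψ h h' heq
    have hψi : Q ψ⁻¹ := ⟨X2_inv h'.1, inv_ne_one h'.2⟩
    have hφi : P φ⁻¹ := ⟨X1_inv h.1, inv_ne_one h.2⟩
    have e1 := hxB φ ψ⁻¹ h hψi
    have e2 := hyB φ⁻¹ ψ hφi h'
    rw [← heq] at e2
    -- conjugate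
    have hpm := (hx φ h).1
    have e3 : conjFun (x φ) ∈ B φ ψ⁻¹ := by
      rw [(hB φ ψ⁻¹ ⟨h, hψi⟩).mem_iff (pm_conj hpm)]
      have e4 := (hB φ⁻¹ ψ ⟨hφi, h'⟩).inner_mem e2
      have e5 := congrArg conj e4
      have e6 : φ⁻¹⁻¹ = φ := by
        apply MonoidHom.ext
        intro w
        show ((φ w)⁻¹)⁻¹ = φ w
        exact inv_inv _
      rw [← conj_inner, be_conj, e6, map_one] at e5
      exact e5
    exact conj_free hW hodd h.1 (X2_inv h'.1) h.2 (inv_ne_one h'.2) (hB φ ψ⁻¹ ⟨h, hψi⟩) e1 e3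
  have oxy : ∀ φ ψ, P φ → Q ψ → classInner (x φ) (y ψ) = 0 := fun φ ψ h h' =>
    (hB φ ψ ⟨h, h'⟩).orth _ (hxB φ ψ h h') _ (hyB φ ψ h h') (hxy φ ψ h h')
  -- orthogonality of constituents in a common column or row
  have hcolB : ∀ φ φ' ψ, P φ → P φ' → Q ψ → φ ≠ φ' → ∀ u ∈ B φ ψ, ∀ v ∈ B φ' ψ, u ≠ y ψ → classInner u v = 0 := by
    intro φ φ' ψ h h₁ h' hne u hu v hv huy
    have e1 : classInner (be (G := G) φ ψ) (be φ' ψ) = 1 := by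
      rw [be_inner hW h.1 h'.1 h₁.1 h'.1 h.2 h'.2 h₁.2 h'.2, if_neg hne, if_pos rfl]; norm_num
    obtain ⟨p1, p2⟩ := pair_one (hB φ ψ ⟨h, h'⟩) (hB φ' ψ ⟨h₁, h'⟩) e1 (by rw [be_one, be_one])
    rcases Pm.inner ((hB φ ψ ⟨h, h'⟩).pm u hu) ((hB φ' ψ ⟨h₁, h'⟩).pm v hv) with h3 | h3 | h3
    · exact h3
    · exfalso
      apply huy
      obtain ⟨a, ha⟩ := Finset.card_eq_one.1 p1
      have q1 : u ∈ B φ ψ ∩ B φ' ψ := Finset.mem_inter.2 ⟨hu, h3.1 ▸ hv⟩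
      have q2 : y ψ ∈ B φ ψ ∩ B φ' ψ := Finset.mem_inter.2 ⟨hyB φ ψ h h', hyB φ' ψ h₁ h'⟩
      rw [ha, Finset.mem_singleton] at q1 q2
      rw [q1, q2]
    · exfalso
      exact p2 u hu (h3.1 ▸ hv)
  have hrowB : ∀ φ ψ ψ', P φ → Q ψ → Q ψ' → ψ ≠ ψ' → ∀ u ∈ B φ ψ, ∀ v ∈ B φ ψ', u ≠ x φ → classInner u v = 0 := by
    intro φ ψ ψ' h h' h₁ hne u hu v hv huy
    have e1 : classInner (be (G := G) φ ψ) (be φ ψ') = 1 := by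
      rw [be_inner hW h.1 h'.1 h.1 h₁.1 h.2 h'.2 h.2 h₁.2, if_neg hne, if_pos rfl]; norm_num
    obtain ⟨p1, p2⟩ := pair_one (hB φ ψ ⟨h, h'⟩) (hB φ ψ' ⟨h, h₁⟩) e1 (by rw [be_one, be_one])
    rcases Pm.inner ((hB φ ψ ⟨h, h'⟩).pm u hu) ((hB φ ψ' ⟨h, h₁⟩).pm v hv) with h3 | h3 | h3
    · exact h3
    · exfalso
      apply huy
      obtain ⟨a, ha⟩ := Finset.card_eq_one.1 p1
      have q1 : u ∈ B φ ψ ∩ B φ ψ' := Finset.mem_inter.2 ⟨hu, h3.1 ▸ hv⟩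
      have q2 : x φ ∈ B φ ψ ∩ B φ ψ' := Finset.mem_inter.2 ⟨hxB φ ψ h h', hxB φ ψ' h h₁⟩
      rw [ha, Finset.mem_singleton] at q1 q2
      rw [q1, q2]
    · exfalso
      exact p2 u hu (h3.1 ▸ hv)
  obtain ⟨φ₁, φ₂, a1, a2, b1, b2, hne⟩ := exists_two1 hW hodd
  obtain ⟨ψ₁, ψ₂, c1, c2, d1, d2, hne'⟩ := exists_two2 hW hodd
  have oxx : ∀ φ φ', P φ → P φ' → φ ≠ φ' → classInner (x φ) (x φ') = 0 := fun φ φ' h h' hne =>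
    hcolB φ φ' ψ₁ h h' ⟨c1, d1⟩ hne _ (hxB φ ψ₁ h ⟨c1, d1⟩) _ (hxB φ' ψ₁ h' ⟨c1, d1⟩) (hxy φ ψ₁ h ⟨c1, d1⟩)
  have oyy : ∀ ψ ψ', Q ψ → Q ψ' → ψ ≠ ψ' → classInner (y ψ) (y ψ') = 0 := fun ψ ψ' h h' hne =>
    hrowB φ₁ ψ ψ' ⟨a1, b1⟩ h h' hne _ (hyB φ₁ ψ ⟨a1, b1⟩ h) _ (hyB φ₁ ψ' ⟨a1, b1⟩ h') (hxy φ₁ ψ ⟨a1, b1⟩ h).symm
  -- the third constituent
  let z : (↥(W₁ ⊔ W₂) →* ℂˣ) → (↥(W₁ ⊔ W₂) →* ℂˣ) → (G → ℂ) := fun φ ψ => be φ ψ - x φ - y ψ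
  have hbe : ∀ φ ψ, be (G := G) φ ψ = z φ ψ + x φ + y ψ := fun φ ψ => by simp only [z]; abel
  have hgenbe : ∀ φ ψ : ↥(W₁ ⊔ W₂) →* ℂˣ, IsGeneralizedCharacter G (be φ ψ) := fun φ ψ => be_gen φ ψ
  have oyx : ∀ φ ψ, P φ → Q ψ → classInner (y ψ) (x φ) = 0 := fun φ ψ h h' => by
    rw [← ci_conj_symm, oxy φ ψ h h', map_zero]
  have ozx : ∀ φ ψ, P φ → Q ψ → classInner (z φ ψ) (x φ) = 0 := fun φ ψ h h' => by
    simp only [z]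
    rw [ci_sub_left, ci_sub_left, (hx φ h).2 ψ h'.1 h'.2, (hx φ h).1.norm, oyx φ ψ h h']; ring
  have ozy : ∀ φ ψ, P φ → Q ψ → classInner (z φ ψ) (y ψ) = 0 := fun φ ψ h h' => by
    simp only [z]
    rw [ci_sub_left, ci_sub_left, (hy ψ h').2 φ h.1 h.2, (hy ψ h').1.norm, oxy φ ψ h h']; ring
  have oxz : ∀ φ ψ, P φ → Q ψ → classInner (x φ) (z φ ψ) = 0 := fun φ ψ h h' => by
    rw [← ci_conj_symm, ozx φ ψ h h', map_zero]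
  have oyz : ∀ φ ψ, P φ → Q ψ → classInner (y ψ) (z φ ψ) = 0 := fun φ ψ h h' => by
    rw [← ci_conj_symm, ozy φ ψ h h', map_zero]
  have ozz : ∀ φ ψ, P φ → Q ψ → classInner (z φ ψ) (z φ ψ) = 1 := fun φ ψ h h' => by
    have e1 : classInner (be (G := G) φ ψ) (be φ ψ) = 3 := by
      rw [be_inner hW h.1 h'.1 h.1 h'.1 h.2 h'.2 h.2 h'.2, if_pos rfl, if_pos rfl]; norm_num
    rw [hbe φ ψ, ci_add_left, ci_add_left, ci_add_right, ci_add_right, ci_add_right, ci_add_right, ci_add_right, ci_add_right,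
      ozx φ ψ h h', ozy φ ψ h h', oxz φ ψ h h', oyz φ ψ h h', oxy φ ψ h h', oyx φ ψ h h', (hx φ h).1.norm, (hy ψ h').1.norm] at e1
    linear_combination e1
  have hzpm : ∀ φ ψ, P φ → Q ψ → Pm (z φ ψ) := fun φ ψ h h' => by
    apply pm_of_norm_one _ (ozz φ ψ h h')
    simp only [z]
    exact IsGen.sub (IsGen.sub (hgenbe φ ψ) (hx φ h).1.gen) (hy ψ h').1.gen
  have hzB : ∀ φ ψ, P φ → Q ψ → z φ ψ ∈ B φ ψ := fun φ ψ h h' => by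
    rw [(hB φ ψ ⟨h, h'⟩).mem_iff (hzpm φ ψ h h'), hbe φ ψ, ci_add_left, ci_add_left, ozz φ ψ h h', oxz φ ψ h h', oyz φ ψ h h']
    ring
  have nzx : ∀ φ ψ, P φ → Q ψ → z φ ψ ≠ x φ := fun φ ψ h h' heq => by
    have := ozx φ ψ h h'
    rw [heq, (hx φ h).1.norm] at this
    exact one_ne_zero this
  have nzy : ∀ φ ψ, P φ → Q ψ → z φ ψ ≠ y ψ := fun φ ψ h h' heq => by
    have := ozy φ ψ h h'
    rw [heq, (hy ψ h').1.norm] at this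
    exact one_ne_zero this
  -- orthogonality to 1
  have hB1 : ∀ φ ψ, P φ → Q ψ → ∀ u ∈ B φ ψ, classInner (fun _ => 1) u = 0 := by
    intro φ ψ h h' u hu
    rcases Pm.inner hone ((hB φ ψ ⟨h, h'⟩).pm u hu) with h3 | h3 | h3
    · exact h3
    · exfalso
      have e1 := (hB φ ψ ⟨h, h'⟩).inner_mem hu
      rw [h3.1, be_inner_one hW h.1 h'.1 h.2 h'.2] at e1
      exact zero_ne_one e1
    · exfalso
      have e1 := (hB φ ψ ⟨h, h'⟩).inner_mem hu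
      rw [h3.1, ci_neg_right', be_inner_one hW h.1 h'.1 h.2 h'.2] at e1
      norm_num at e1
  -- cross orthogonality
  have ozx' : ∀ φ ψ φ', P φ → Q ψ → P φ' → classInner (z φ ψ) (x φ') = 0 := by
    intro φ ψ φ' h h' h₁
    by_cases he : φ = φ'
    · rw [← he]; exact ozx φ ψ h h'
    · exact hcolB φ φ' ψ h h₁ h' he _ (hzB φ ψ h h') _ (hxB φ' ψ h₁ h') (nzy φ ψ h h')
  have ozy' : ∀ φ ψ ψ', P φ → Q ψ → Q ψ' → classInner (z φ ψ) (y ψ') = 0 := by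
    intro φ ψ ψ' h h' h₁
    by_cases he : ψ = ψ'
    · rw [← he]; exact ozy φ ψ h h'
    · exact hrowB φ ψ ψ' h h' h₁ he _ (hzB φ ψ h h') _ (hyB φ ψ' h h₁) (nzx φ ψ h h')
  have oxz' : ∀ φ ψ φ', P φ → Q ψ → P φ' → classInner (x φ') (z φ ψ) = 0 := fun φ ψ φ' h h' h₁ => by
    rw [← ci_conj_symm, ozx' φ ψ φ' h h' h₁, map_zero]
  have oyz' : ∀ φ ψ ψ', P φ → Q ψ → Q ψ' → classInner (y ψ') (z φ ψ) = 0 := fun φ ψ ψ' h h' h₁ => by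
    rw [← ci_conj_symm, ozy' φ ψ ψ' h h' h₁, map_zero]
  have ozz' : ∀ φ ψ φ' ψ', P φ → Q ψ → P φ' → Q ψ' → ¬ (φ = φ' ∧ ψ = ψ') → classInner (z φ ψ) (z φ' ψ') = 0 := by
    intro φ ψ φ' ψ' h h' h₁ h₁' hn
    by_cases he : φ = φ'
    · have he' : ψ ≠ ψ' := fun h => hn ⟨he, h⟩
      subst he
      exact hrowB φ ψ ψ' h h' h₁' he' _ (hzB φ ψ h h') _ (hzB φ ψ' h h₁') (nzx φ ψ h h')
    · by_cases he' : ψ = ψ'
      · subst he'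
        exact hcolB φ φ' ψ h h₁ h' he _ (hzB φ ψ h h') _ (hzB φ' ψ h₁ h') (nzy φ ψ h h')
      · have e1 : classInner (be (G := G) φ ψ) (be φ' ψ') = 0 := by
          rw [be_inner hW h.1 h'.1 h₁.1 h₁'.1 h.2 h'.2 h₁.2 h₁'.2, if_neg he, if_neg he']; norm_num
        rw [hbe φ ψ, hbe φ' ψ', ci_add_left, ci_add_left, ci_add_right, ci_add_right, ci_add_right, ci_add_right, ci_add_right,
          ci_add_right, ozx' φ ψ φ' h h' h₁, ozy' φ ψ ψ' h h' h₁', oxz' φ' ψ' φ h₁ h₁' h, oyz' φ' ψ' ψ h₁ h₁' h',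
          oxx φ φ' h h₁ he, oyy ψ ψ' h' h₁' he', oxy φ ψ' h h₁', oyx φ' ψ h₁ h'] at e1
        linear_combination e1
  -- the family on pairs
  let F : (↥(W₁ ⊔ W₂) →* ℂˣ) → (↥(W₁ ⊔ W₂) →* ℂˣ) → (G → ℂ) := fun φ ψ =>
    if φ = 1 then (if ψ = 1 then (fun _ => 1) else - y ψ) else (if ψ = 1 then - x φ else z φ ψ)
  have F11 : F 1 1 = fun _ => 1 := by simp only [F, if_true]
  have F1 : ∀ ψ, ψ ≠ 1 → F 1 ψ = - y ψ := fun ψ h => by simp only [F, if_true, if_neg h]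
  have F2 : ∀ φ, φ ≠ 1 → F φ 1 = - x φ := fun φ h => by simp only [F, if_true, if_neg h]
  have F3 : ∀ φ ψ, φ ≠ 1 → ψ ≠ 1 → F φ ψ = z φ ψ := fun φ ψ h h' => by simp only [F, if_neg h, if_neg h']
  have hFpm : ∀ φ ψ, X1 W₁ W₂ φ → X2 W₁ W₂ ψ → Pm (F φ ψ) := by
    intro φ ψ h h'
    by_cases e : φ = 1
    · by_cases e' : ψ = 1
      · rw [e, e', F11]; exact hone
      · rw [e, F1 ψ e']; exact (hy ψ ⟨h', e'⟩).1.neg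
    · by_cases e' : ψ = 1
      · rw [e', F2 φ e]; exact (hx φ ⟨h, e⟩).1.neg
      · rw [F3 φ ψ e e']; exact hzpm φ ψ ⟨h, e⟩ ⟨h', e'⟩
  have hP1 : P φ₁ := ⟨a1, b1⟩
  have hQ1 : Q ψ₁ := ⟨c1, d1⟩
  have sym : ∀ {f g : G → ℂ}, classInner f g = 0 → classInner g f = 0 := fun h => by
    rw [← ci_conj_symm, h, map_zero]
  have o1x : ∀ φ, P φ → classInner (fun _ => 1) (x φ) = 0 := fun φ h => hB1 φ ψ₁ h hQ1 _ (hxB φ ψ₁ h hQ1)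
  have o1y : ∀ ψ, Q ψ → classInner (fun _ => 1) (y ψ) = 0 := fun ψ h => hB1 φ₁ ψ hP1 h _ (hyB φ₁ ψ hP1 h)
  have o1z : ∀ φ ψ, P φ → Q ψ → classInner (fun _ => 1) (z φ ψ) = 0 := fun φ ψ h h' => hB1 φ ψ h h' _ (hzB φ ψ h h')
  have hForth : ∀ φ ψ φ' ψ', X1 W₁ W₂ φ → X2 W₁ W₂ ψ → X1 W₁ W₂ φ' → X2 W₁ W₂ ψ' → ¬ (φ = φ' ∧ ψ = ψ') →
      classInner (F φ ψ) (F φ' ψ') = 0 := by
    intro φ ψ φ' ψ' h h' h₁ h₁' hn
    by_cases e : φ = 1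
    · by_cases e' : ψ = 1
      · -- 1
        rw [e, e', F11]
        by_cases f : φ' = 1
        · by_cases f' : ψ' = 1
          · exact absurd ⟨e.trans f.symm, e'.trans f'.symm⟩ hn
          · rw [f, F1 ψ' f', ci_neg_right', o1y ψ' ⟨h₁', f'⟩, neg_zero]
        · by_cases f' : ψ' = 1
          · rw [f', F2 φ' f, ci_neg_right', o1x φ' ⟨h₁, f⟩, neg_zero]
          · rw [F3 φ' ψ' f f']; exact o1z φ' ψ' ⟨h₁, f⟩ ⟨h₁', f'⟩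
      · -- y
        rw [e, F1 ψ e', ci_neg_left']
        by_cases f : φ' = 1
        · by_cases f' : ψ' = 1
          · rw [f, f', F11, sym (o1y ψ ⟨h', e'⟩), neg_zero]
          · rw [f, F1 ψ' f', ci_neg_right', oyy ψ ψ' ⟨h', e'⟩ ⟨h₁', f'⟩ (fun hh => hn ⟨e.trans f.symm, hh⟩), neg_zero, neg_zero]
        · by_cases f' : ψ' = 1
          · rw [f', F2 φ' f, ci_neg_right', oyx φ' ψ ⟨h₁, f⟩ ⟨h', e'⟩, neg_zero, neg_zero]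
          · rw [F3 φ' ψ' f f', oyz' φ' ψ' ψ ⟨h₁, f⟩ ⟨h₁', f'⟩ ⟨h', e'⟩, neg_zero]
    · by_cases e' : ψ = 1
      · -- x
        rw [e', F2 φ e, ci_neg_left']
        by_cases f : φ' = 1
        · by_cases f' : ψ' = 1
          · rw [f, f', F11, sym (o1x φ ⟨h, e⟩), neg_zero]
          · rw [f, F1 ψ' f', ci_neg_right', oxy φ ψ' ⟨h, e⟩ ⟨h₁', f'⟩, neg_zero, neg_zero]
        · by_cases f' : ψ' = 1
          · rw [f', F2 φ' f, ci_neg_right', oxx φ φ' ⟨h, e⟩ ⟨h₁, f⟩ (fun hh => hn ⟨hh, e'.trans f'.symm⟩), neg_zero, neg_zero]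
          · rw [F3 φ' ψ' f f', oxz' φ' ψ' φ ⟨h₁, f⟩ ⟨h₁', f'⟩ ⟨h, e⟩, neg_zero]
      · -- z
        rw [F3 φ ψ e e']
        by_cases f : φ' = 1
        · by_cases f' : ψ' = 1
          · rw [f, f', F11]; exact sym (o1z φ ψ ⟨h, e⟩ ⟨h', e'⟩)
          · rw [f, F1 ψ' f', ci_neg_right', ozy' φ ψ ψ' ⟨h, e⟩ ⟨h', e'⟩ ⟨h₁', f'⟩, neg_zero]
        · by_cases f' : ψ' = 1
          · rw [f', F2 φ' f, ci_neg_right', ozx' φ ψ φ' ⟨h, e⟩ ⟨h', e'⟩ ⟨h₁, f⟩, neg_zero]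
          · rw [F3 φ' ψ' f f']; exact ozz' φ ψ φ' ψ' ⟨h, e⟩ ⟨h', e'⟩ ⟨h₁, f⟩ ⟨h₁', f'⟩ hn
  -- the induced identity
  have hFind : ∀ φ ψ, X1 W₁ W₂ φ → X2 W₁ W₂ ψ → φ ≠ 1 → ψ ≠ 1 →
      indFun (W₁ ⊔ W₂) (al φ ψ) = fun g => 1 - F φ 1 g - F 1 ψ g + F φ ψ g := by
    intro φ ψ h h' e e'
    have e1 := hbe φ ψ
    rw [F2 φ e, F1 ψ e', F3 φ ψ e e']
    funext g
    have e2 := congrFun e1 g
    rw [be, Pi.sub_apply, Pi.add_apply, Pi.add_apply] at e2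
    simp only [Pi.neg_apply]
    linear_combination e2
  -- projections
  obtain ⟨p₁, p₂, hp1, hp2, hw, q1, q2⟩ := exists_p hd hc
  have hc1 : ∀ ω : ↥(W₁ ⊔ W₂) →* ℂˣ, X1 W₁ W₂ (ω.comp p₁) := fun ω w hw => by
    rw [MonoidHom.comp_apply, (q2 w hw).2, map_one]
  have hc2 : ∀ ω : ↥(W₁ ⊔ W₂) →* ℂˣ, X2 W₁ W₂ (ω.comp p₂) := fun ω w hw => by
    rw [MonoidHom.comp_apply, (q1 w hw).2, map_one]
  have hdec : ∀ ω : ↥(W₁ ⊔ W₂) →* ℂˣ, ω = ω.comp p₁ * ω.comp p₂ := fun ω => by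
    apply MonoidHom.ext
    intro w
    rw [MonoidHom.mul_apply, MonoidHom.comp_apply, MonoidHom.comp_apply, ← map_mul, ← hw w]
  have hcomp : ∀ φ ψ, X1 W₁ W₂ φ → X2 W₁ W₂ ψ → (φ * ψ).comp p₁ = φ ∧ (φ * ψ).comp p₂ = ψ := fun φ ψ h h' =>
    X_inj (hc1 _) h (hc2 _) h' hd hc (hdec _).symm
  let χ : (↥(W₁ ⊔ W₂) →* ℂˣ) → (G → ℂ) := fun ω => F (ω.comp p₁) (ω.comp p₂)
  have hχmul : ∀ φ ψ, X1 W₁ W₂ φ → X2 W₁ W₂ ψ → χ (φ * ψ) = F φ ψ := fun φ ψ h h' => by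
    simp only [χ]
    rw [(hcomp φ ψ h h').1, (hcomp φ ψ h h').2]
  have hχ1 : ∀ φ, X1 W₁ W₂ φ → χ φ = F φ 1 := fun φ h => by
    have := hχmul φ 1 h X21
    rwa [hom_mul_one] at this
  have hχ2 : ∀ ψ, X2 W₁ W₂ ψ → χ ψ = F 1 ψ := fun ψ h => by
    have := hχmul 1 ψ X11 h
    rwa [hom_one_mul] at this
  have hχone : χ 1 = fun _ => 1 := by rw [hχ1 1 X11, F11]
  have hχpm : ∀ ω, Pm (χ ω) := fun ω => hFpm _ _ (hc1 ω) (hc2 ω)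
  have hχon : ∀ ω ω', classInner (χ ω) (χ ω') = if ω = ω' then 1 else 0 := by
    intro ω ω'
    split_ifs with h
    · rw [h]; exact (hχpm ω').norm
    · apply hForth _ _ _ _ (hc1 ω) (hc2 ω) (hc1 ω') (hc2 ω')
      rintro ⟨h1, h2⟩
      apply h
      rw [hdec ω, hdec ω', h1, h2]
  have hχind : ∀ φ ψ, X1 W₁ W₂ φ → X2 W₁ W₂ ψ → indFun (W₁ ⊔ W₂) (al φ ψ) = fun g => 1 - χ φ g - χ ψ g + χ (φ * ψ) g := by
    intro φ ψ h h'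
    have h0 : indFun (W₁ ⊔ W₂) (fun _ => (0 : ℂ)) = 0 := ind_zero (W₁ ⊔ W₂)
    by_cases e : φ = 1
    · have : al φ ψ = fun _ => 0 := by funext w; rw [al, e]; simp
      rw [this, h0, e, hom_one_mul, hχone]
      funext g; simp
    · by_cases e' : ψ = 1
      · have : al φ ψ = fun _ => 0 := by funext w; rw [al, e']; simp
        rw [this, h0, e', hom_mul_one, hχone]
        funext g; simp
      · rw [hFind φ ψ h h' e e', hχ1 φ h, hχ2 ψ h', hχmul φ ψ h h']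
  refine ⟨χ, ⟨hχpm, fun ω ω' => by rw [hχon]; congr, hχone, ?_, fun φ ψ _ _ h h' => hχind φ ψ h h'⟩⟩
  -- values
  intro ω w hw1 hw2
  haveI := Fintype.ofFinite ↥(W₁ ⊔ W₂)
  have key := value_formula (hab hW) hd hc (fun w : ↥(W₁ ⊔ W₂) => χ ω w - (ω w : ℂ)) (by
    intro φ ψ h h'
    have e0 : (fun w : ↥(W₁ ⊔ W₂) => χ ω w - (ω w : ℂ)) = (fun w : ↥(W₁ ⊔ W₂) => χ ω w) - fun w => (ω w : ℂ) := rfl
    have e1 : classInner (fun w : ↥(W₁ ⊔ W₂) => χ ω w) (al φ ψ) =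
        classInner (χ ω) (χ 1) - classInner (χ ω) (χ φ) - classInner (χ ω) (χ ψ) + classInner (χ ω) (χ (φ * ψ)) := by
      rw [← frobenius' (W₁ ⊔ W₂) _ (χ ω) (hχpm ω).isClass, hχind φ ψ h h']
      have : (fun g => 1 - χ φ g - χ ψ g + χ (φ * ψ) g) = χ 1 - χ φ - χ ψ + χ (φ * ψ) := by
        funext g; rw [hχone]; rfl
      rw [this, ci_add_right, ci_sub_right, ci_sub_right]
    have e2 : (fun _ => (1 : ℂ)) = (fun w : ↥(W₁ ⊔ W₂) => ((1 : ↥(W₁ ⊔ W₂) →* ℂˣ) w : ℂ)) := by funext w; simp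
    rw [e0, ci_sub_left, e1, al_sum, e2, cc_inner, cc_inner, cc_inner, cc_inner, hχon, hχon, hχon, hχon]
    convert sub_self _) w hw1 hw2
  exact sub_eq_zero.1 key

end Cfsg.Agent.H10.CycEx4
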