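import Mathlib
import Cfsg.Prelude.Def_OddOrderChar
import Cfsg.Agent.H3_CharInd
import Cfsg.Agent.H10_Dade
import Cfsg.Agent.H10_Dade2
import Cfsg.Agent.H10_OOGrp

/-!
H10_Dade3: the Dade map sends generalized characters to generalized characters (S1501).
-/

set_option autoImplicit false
set_option linter.unusedSectionVars false

namespace Cfsg.Agent.H10.Dade3

open Cfsg Cfsg.Agent.H3.CharIrr Cfsg.Agent.H3.CharComplete Cfsg.Agent.H3.CharInd Cfsg.Agent.H10.Dade
  Cfsg.Agent.H10.Dade2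
open scoped ComplexConjugate

variable {G : Type*} [Group G] {A : Set G} {L : Subgroup G} {H : G → Subgroup G}

/-- conjugate of a finite set -/
def cj (x : G) (B : Finset G) : Finset G := B.map (MulAut.conj x).toEquiv.toEmbedding

theorem mem_cj {x : G} {B : Finset G} {b : G} : b ∈ cj x B ↔ x⁻¹ * b * x ∈ B := by
  rw [cj, Finset.mem_map]
  constructor
  · rintro ⟨c, hc, rfl⟩
    have : x⁻¹ * ((MulAut.conj x).toEquiv.toEmbedding c) * x = c := by
      show x⁻¹ * (x * c * x⁻¹) * x = c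
      group
    rwa [this]
  · intro h
    refine ⟨_, h, ?_⟩
    show x * (x⁻¹ * b * x) * x⁻¹ = b
    group

theorem card_cj (x : G) (B : Finset G) : (cj x B).card = B.card := Finset.card_map _

theorem cj_one (B : Finset G) : cj 1 B = B := by
  ext b; rw [mem_cj]; simp

theorem cj_mul (x y : G) (B : Finset G) : cj (x * y) B = cj x (cj y B) := by
  ext b; rw [mem_cj, mem_cj, mem_cj]
  have : (x * y)⁻¹ * b * (x * y) = y⁻¹ * (x⁻¹ * b * x) * y := by group
  rw [this]

theorem mem_NB_cj {x : G} (hx : x ∈ L) (B : Finset G) (a : G) :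
    x * a * x⁻¹ ∈ NB L (cj x B) ↔ a ∈ NB L B := by
  rw [mem_NB, mem_NB]
  constructor
  · rintro ⟨h1, h2⟩
    refine ⟨?_, fun b => ?_⟩
    · have := L.mul_mem (L.mul_mem (L.inv_mem hx) h1) hx
      have e : x⁻¹ * (x * a * x⁻¹) * x = a := by group
      rwa [e] at this
    · have h3 := h2 (x * b * x⁻¹)
      rw [mem_cj, mem_cj] at h3
      have e1 : x⁻¹ * (x * b * x⁻¹) * x = b := by group
      have e2 : x⁻¹ * (x * a * x⁻¹ * (x * b * x⁻¹) * (x * a * x⁻¹)⁻¹) * x = a * b * a⁻¹ := by group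
      rwa [e1, e2] at h3
  · rintro ⟨h1, h2⟩
    refine ⟨L.mul_mem (L.mul_mem hx h1) (L.inv_mem hx), fun b => ?_⟩
    rw [mem_cj, mem_cj]
    have h3 := h2 (x⁻¹ * b * x)
    have e2 : x⁻¹ * (x * a * x⁻¹ * b * (x * a * x⁻¹)⁻¹) * x = a * (x⁻¹ * b * x) * a⁻¹ := by group
    rw [h3, e2]

section

variable [Finite G] (hD : DadeHypothesis A L H)
include hD

theorem cj_sub {B : Finset G} (hBA : ∀ b ∈ B, b ∈ A) {x : G} (hx : x ∈ L) : ∀ b ∈ cj x B, b ∈ A := by
  intro b hb
  rw [mem_cj] at hb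
  have := hD.conj_mem x hx _ (hBA _ hb)
  have e : x * (x⁻¹ * b * x) * x⁻¹ = b := by group
  rwa [e] at this

theorem HB_cj {B : Finset G} (hBA : ∀ b ∈ B, b ∈ A) {x : G} (hx : x ∈ L) (u : G) :
    x * u * x⁻¹ ∈ HB H (cj x B) ↔ u ∈ HB H B := by
  rw [mem_HB, mem_HB]
  constructor
  · intro h b hb
    have hb' : x * b * x⁻¹ ∈ cj x B := by
      rw [mem_cj]
      have e : x⁻¹ * (x * b * x⁻¹) * x = b := by group
      rwa [e]
    have h1 := mem_H_conj hD (cj_sub hD hBA hx _ hb') (hBA b hb) (g := x⁻¹) (by group) (h _ hb')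
    have e : x⁻¹ * (x * u * x⁻¹) * x⁻¹⁻¹ = u := by group
    rwa [e] at h1
  · intro h b hb
    have hb' := hb
    rw [mem_cj] at hb'
    exact mem_H_conj hD (hBA _ hb') (cj_sub hD hBA hx _ hb) (by group) (h _ hb')

theorem card_HB_cj {B : Finset G} (hBA : ∀ b ∈ B, b ∈ A) {x : G} (hx : x ∈ L) :
    Nat.card (HB H (cj x B)) = Nat.card (HB H B) := by
  have h : HB H (cj x B) = (HB H B).map (MulAut.conj x).toMonoidHom := by
    ext u
    rw [Subgroup.mem_map]
    constructor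
    · intro hu
      refine ⟨x⁻¹ * u * x, ?_, ?_⟩
      · rw [← HB_cj hD hBA hx]
        have e : x * (x⁻¹ * u * x) * x⁻¹ = u := by group
        rwa [e]
      · show x * (x⁻¹ * u * x) * x⁻¹ = u
        group
    · rintro ⟨v, hv, rfl⟩
      exact (HB_cj hD hBA hx v).2 hv
  rw [h]
  exact Nat.card_congr (Subgroup.equivMapOfInjective _ _ (MulAut.conj x).injective).toEquiv.symm

theorem cnt_cj [Fintype G] {B : Finset G} (hBA : ∀ b ∈ B, b ∈ A) {x : G} (hx : x ∈ L) (a g : G) :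
    cnt H (cj x B) (x * a * x⁻¹) g = cnt H B a g := by
  rw [cnt, cnt, card_HB_cj hD hBA hx]
  congr 1
  rw [← Equiv.sum_comp (Equiv.mulLeft x)]
  refine Finset.sum_congr rfl fun y _ => ?_
  have e : (Equiv.mulLeft x) y * g * ((Equiv.mulLeft x) y)⁻¹ * (x * a * x⁻¹)⁻¹ = x * (y * g * y⁻¹ * a⁻¹) * x⁻¹ := by
    simp only [Equiv.coe_mulLeft]; group
  rw [e]
  have h := HB_cj hD hBA hx (y * g * y⁻¹ * a⁻¹)
  by_cases h1 : y * g * y⁻¹ * a⁻¹ ∈ HB H B
  · rw [if_pos h1, if_pos (h.2 h1)]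
  · rw [if_neg h1, if_neg (fun h2 => h1 (h.1 h2))]

theorem IB_cj [Fintype G] [Fintype L] {α : L → ℂ} (hα : IsClassFunction L α) {B : Finset G} (hBA : ∀ b ∈ B, b ∈ A)
    {x : G} (hx : x ∈ L) (g : G) : IB H L α (cj x B) g = IB H L α B g := by
  classical
  rw [IB, IB, ← Equiv.sum_comp (MulAut.conj (⟨x, hx⟩ : L)).toEquiv]
  refine Finset.sum_congr rfl fun a _ => ?_
  have e : (((MulAut.conj (⟨x, hx⟩ : L)).toEquiv a : L) : G) = x * a * x⁻¹ := rfl
  have e2 : α ((MulAut.conj (⟨x, hx⟩ : L)).toEquiv a) = α a := hα a ⟨x, hx⟩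
  rw [e, e2, cnt_cj hD hBA hx]
  simp only [mem_NB_cj hx]

theorem dade_gen [Fintype G] [Fintype L] {α : L → ℂ} (hα : IsGeneralizedCharacter L α)
    (hαA : ∀ x : L, (x : G) ∉ A → α x = 0) : IsGeneralizedCharacter G (dadeIsometry A L H α) := by
  classical
  have hαc := IsGen.isClass hα
  refine isGen_of_int (dade_class hD hαc) fun χ hχ => ?_
  set AF : Finset G := Finset.univ.filter (fun x => x ∈ A) with hAFdef
  have hAF : ∀ x, x ∈ AF ↔ x ∈ A := fun x => by simp [hAFdef]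
  have h1 := fun g => dade_eq_sum hD hαc hαA g AF hAF
  let X := {B : Finset G // (∀ b ∈ B, b ∈ A) ∧ B.Nonempty}
  letI actX : MulAction L X :=
    { smul := fun x B => ⟨cj (x : G) B.1, cj_sub hD B.2.1 x.2, by
        have := B.2.2
        rw [← Finset.card_pos] at this ⊢
        rwa [card_cj]⟩
      one_smul := fun B => Subtype.ext (cj_one B.1)
      mul_smul := fun x y B => Subtype.ext (cj_mul (x : G) (y : G) B.1) }
  haveI : Fintype X := Fintype.ofFinite _
  have hsmul : ∀ (x : L) (B : X), (x • B).1 = cj (x : G) B.1 := fun _ _ => rfl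
  -- the function
  obtain ⟨m, hm⟩ := sum_orbit_int (K := L) (X := X)
    (fun B => (-1 : ℂ) ^ B.1.card * classInner (fun g => IB H L α B.1 g) χ) (fun k B => by
      simp only [hsmul, card_cj]
      congr 2
      funext g
      exact IB_cj hD hαc B.2.1 k.2 g) (fun B => by
      obtain ⟨f, hf, hfe⟩ := IB_eq hD B.2.1 B.2.2 hα
      have hg : IsGeneralizedCharacter G (indFun _ f) := IsGen.ind hf
      obtain ⟨n, hn⟩ := ci_gen_int hg (IsGen.of_irr hχ)
      refine ⟨(-1) ^ B.1.card * n, ?_⟩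
      have e1 : (fun g => IB H L α B.1 g) = (Nat.card (NB L B.1) : ℂ) • indFun (HB H B.1 ⊔ NB L B.1) f := by
        funext g
        rw [Pi.smul_apply, smul_eq_mul, hfe g]
      have e2 : Nat.card (MulAction.stabilizer L B) = Nat.card (NB L B.1) := by
        refine Nat.card_congr ⟨fun x => ⟨(x.1 : G), ?_⟩, fun x => ⟨⟨(x : G), (mem_NB.1 x.2).1⟩, ?_⟩, fun x => rfl, fun x => rfl⟩
        · have hx := x.2
          rw [MulAction.mem_stabilizer_iff] at hx
          have hx' : cj (x.1 : G) B.1 = B.1 := congrArg Subtype.val hx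
          rw [mem_NB]
          refine ⟨x.1.2, fun b => ?_⟩
          conv_rhs => rw [← hx']
          rw [mem_cj]
          have e : (x.1 : G)⁻¹ * ((x.1 : G) * b * (x.1 : G)⁻¹) * (x.1 : G) = b := by group
          rw [e]
        · rw [MulAction.mem_stabilizer_iff]
          apply Subtype.ext
          rw [hsmul]
          ext b
          rw [mem_cj, (mem_NB.1 x.2).2]
          have e : (x : G) * ((x : G)⁻¹ * b * (x : G)) * (x : G)⁻¹ = b := by group
          rw [e]
      rw [e1, ci_smul_left, hn, e2]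
      push_cast
      ring)
  refine ⟨-m, ?_⟩
  have h2 : (Nat.card L : ℂ) * classInner (dadeIsometry A L H α) χ =
      - ∑ B : X, (-1 : ℂ) ^ B.1.card * classInner (fun g => IB H L α B.1 g) χ := by
    have h3 : (Nat.card L : ℂ) • dadeIsometry A L H α =
        - ∑ B ∈ AF.powerset.filter (fun B => B.Nonempty), ((-1 : ℂ) ^ B.card) • (fun g => IB H L α B g) := by
      funext g
      rw [Pi.smul_apply, smul_eq_mul, h1 g, Pi.neg_apply, Finset.sum_apply]
      rfl
    rw [← ci_smul_left, h3, ← neg_one_smul ℂ (∑ B ∈ AF.powerset.filter (fun B => B.Nonempty), ((-1 : ℂ) ^ B.card) • (fun g => IB H L α B g)),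
      ci_smul_left, ci_sum_left, neg_one_mul]
    congr 1
    rw [Finset.sum_congr rfl fun B _ => ci_smul_left _ _ _]
    refine Finset.sum_bij' (i := fun B hB => (⟨B, by
        rw [Finset.mem_filter, Finset.mem_powerset] at hB
        exact ⟨fun b hb => (hAF b).1 (hB.1 hb), hB.2⟩⟩ : X)) (j := fun B _ => B.1) ?_ ?_ ?_ ?_ ?_
    · intro B hB; exact Finset.mem_univ _
    · intro B _
      rw [Finset.mem_filter, Finset.mem_powerset]
      exact ⟨fun b hb => (hAF b).2 (B.2.1 b hb), B.2.2⟩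
    · intro B _; rfl
    · intro B _; rfl
    · intro B _; rfl
  have h4 : (Nat.card L : ℂ) ≠ 0 := Nat.cast_ne_zero.2 Nat.card_pos.ne'
  apply mul_left_cancel₀ h4
  rw [h2, hm]
  push_cast
  ring

end

end Cfsg.Agent.H10.Dade3
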