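import Mathlib
import Cfsg.Prelude.Def_Characters
import Cfsg.Agent.H3_CharMult

/-!
# The Frobenius–Schur indicator
-/

set_option autoImplicit false

open scoped ComplexConjugate Matrix

namespace Cfsg.Agent.H3.FS

open Cfsg Cfsg.Agent.H3.CharBasic Cfsg.Agent.H3.CharIrr Cfsg.Agent.H3.CharComplete
  Cfsg.Agent.H3.CharMult Cfsg.Agent.H3.CharInd

section Trace

variable {n : ℕ}

abbrev M (n : ℕ) := Matrix (Fin n) (Fin n) ℂ

theorem trace_formula (f : M n →ₗ[ℂ] M n) :
    LinearMap.trace ℂ (M n) f = ∑ i, ∑ j, f (Matrix.single i j 1) i j := by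
  rw [LinearMap.trace_eq_matrix_trace ℂ (Matrix.stdBasis ℂ (Fin n) (Fin n)), Matrix.trace,
    Fintype.sum_prod_type]
  refine Finset.sum_congr rfl fun i _ => Finset.sum_congr rfl fun j _ => ?_
  rw [Matrix.diag_apply, LinearMap.toMatrix_apply, Matrix.stdBasis_eq_single]
  rfl

/-- `X ↦ A X Aᵀ` -/
def L (A : M n) : M n →ₗ[ℂ] M n where
  toFun X := A * X * Aᵀ
  map_add' X Y := by rw [mul_add, add_mul]
  map_smul' c X := by rw [Matrix.mul_smul, Matrix.smul_mul]; rfl

/-- transpose -/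
def T : M n →ₗ[ℂ] M n where
  toFun X := Xᵀ
  map_add' X Y := Matrix.transpose_add X Y
  map_smul' c X := Matrix.transpose_smul c X

theorem L_apply (A X : M n) : L A X = A * X * Aᵀ := rfl
theorem T_apply (X : M n) : (T : M n →ₗ[ℂ] M n) X = Xᵀ := rfl

theorem L_mul (A B : M n) : L (A * B) = L A ∘ₗ L B := by
  ext1 X; simp only [L_apply, LinearMap.comp_apply, Matrix.transpose_mul, mul_assoc]

theorem L_T (A : M n) : L A ∘ₗ T = T ∘ₗ L A := by
  apply LinearMap.ext; intro X
  simp only [L_apply, T_apply, LinearMap.comp_apply, Matrix.transpose_mul, Matrix.transpose_transpose,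
    mul_assoc]

theorem entry (A : M n) (k l i j : Fin n) :
    (A * Matrix.single k l (1 : ℂ) * Aᵀ) i j = A i k * A j l := by
  rw [Matrix.mul_apply, Finset.sum_eq_single l]
  · rw [Matrix.mul_single_apply_same, mul_one, Matrix.transpose_apply]
  · intro b _ hb
    rw [Matrix.mul_single_apply_of_ne _ _ _ _ _ (Ne.symm hb).symm]
    simp
  · intro h; exact absurd (Finset.mem_univ _) h

theorem trace_L (A : M n) : LinearMap.trace ℂ (M n) (L A) = A.trace ^ 2 := by
  rw [trace_formula]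
  simp only [L_apply, entry]
  rw [sq, Matrix.trace, Finset.sum_mul_sum]
  rfl

theorem trace_LT (A : M n) : LinearMap.trace ℂ (M n) (L A ∘ₗ T) = (A * A).trace := by
  rw [trace_formula]
  simp only [LinearMap.comp_apply, T_apply, L_apply, Matrix.transpose_single, entry]
  simp only [Matrix.trace, Matrix.diag_apply, Matrix.mul_apply]

end Trace

section Indicator

variable {G : Type*} [Group G] [Fintype G] {n : ℕ} (ρ : Representation ℂ G (Fin n → ℂ))

/-- the matrices -/
noncomputable def mat (g : G) : M n := LinearMap.toMatrix' (ρ g)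

theorem mat_mul (g h : G) : mat ρ (g * h) = mat ρ g * mat ρ h := by
  rw [mat, map_mul]; exact LinearMap.toMatrix'_mul _ _

theorem mat_one : mat ρ 1 = 1 := by
  rw [mat, map_one]; exact LinearMap.toMatrix'_one

theorem mat_trace (g : G) : (mat ρ g).trace = ρ.character g := by
  rw [Representation.character, mat, LinearMap.trace_eq_matrix_trace ℂ (Pi.basisFun ℂ (Fin n)),
    LinearMap.toMatrix_eq_toMatrix']

theorem comp_sum' (f : M n →ₗ[ℂ] M n) (F : G → M n →ₗ[ℂ] M n) :
    f ∘ₗ (∑ g, F g) = ∑ g, f ∘ₗ F g := by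
  apply LinearMap.ext; intro X
  rw [LinearMap.comp_apply, LinearMap.sum_apply, map_sum, LinearMap.sum_apply]
  rfl

theorem sum_comp' (f : M n →ₗ[ℂ] M n) (F : G → M n →ₗ[ℂ] M n) :
    (∑ g, F g) ∘ₗ f = ∑ g, F g ∘ₗ f := by
  apply LinearMap.ext; intro X
  rw [LinearMap.comp_apply, LinearMap.sum_apply, LinearMap.sum_apply]
  rfl

/-- the averaging projection -/
noncomputable def P : M n →ₗ[ℂ] M n := (Nat.card G : ℂ)⁻¹ • ∑ g : G, L (mat ρ g)

theorem L_P (g : G) : L (mat ρ g) ∘ₗ P ρ = P ρ := by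
  rw [P, LinearMap.comp_smul, comp_sum']
  congr 1
  rw [Finset.sum_congr rfl fun h _ => (L_mul (mat ρ g) (mat ρ h)).symm]
  rw [Finset.sum_congr rfl fun h _ => by rw [← mat_mul]]
  exact Equiv.sum_comp (Equiv.mulLeft g) (fun h => L (mat ρ h))

theorem P_P : P ρ ∘ₗ P ρ = P ρ := by
  conv_lhs => enter [1]; rw [P]
  rw [LinearMap.smul_comp, sum_comp', Finset.sum_congr rfl fun g _ => L_P ρ g,
    Finset.sum_const, Finset.card_univ, ← Nat.cast_smul_eq_nsmul ℂ, smul_smul,
    ← Nat.card_eq_fintype_card, inv_mul_cancel₀ card_cast_ne_zero, one_smul]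

theorem P_T : P ρ ∘ₗ T = T ∘ₗ P ρ := by
  rw [P, LinearMap.smul_comp, sum_comp', LinearMap.comp_smul, comp_sum',
    Finset.sum_congr rfl fun g _ => L_T (mat ρ g)]

theorem trace_P : LinearMap.trace ℂ (M n) (P ρ) = (Nat.card G : ℂ)⁻¹ * ∑ g : G, ρ.character g ^ 2 := by
  rw [P, map_smul, map_sum, smul_eq_mul]
  congr 1
  exact Finset.sum_congr rfl fun g _ => by rw [trace_L, mat_trace]

theorem trace_PT : LinearMap.trace ℂ (M n) (P ρ ∘ₗ T) =
    (Nat.card G : ℂ)⁻¹ * ∑ g : G, ρ.character (g * g) := by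
  rw [P, LinearMap.smul_comp, sum_comp', map_smul, map_sum, smul_eq_mul]
  congr 1
  exact Finset.sum_congr rfl fun g _ => by rw [trace_LT, ← mat_mul, mat_trace]

theorem T_T : (T : M n →ₗ[ℂ] M n) ∘ₗ T = LinearMap.id := by
  apply LinearMap.ext; intro X
  simp [T_apply]

theorem trace_P_eq_finrank : LinearMap.trace ℂ (M n) (P ρ) =
    (Module.finrank ℂ (LinearMap.range (P ρ)) : ℂ) := by
  have h : LinearMap.IsProj (LinearMap.range (P ρ)) (P ρ) := by
    refine ⟨fun x => ⟨x, rfl⟩, ?_⟩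
    rintro _ ⟨x, rfl⟩
    exact congrArg (fun f : M n →ₗ[ℂ] M n => f x) (P_P ρ)
  exact h.trace

theorem indicator (hχ : IsIrrCharacter G ρ.character) :
    ((Nat.card G : ℂ)⁻¹ * ∑ g : G, ρ.character (g * g) = 0 ∧
      ρ.character ≠ fun g => conj (ρ.character g)) ∨
    (ρ.character = (fun g => conj (ρ.character g)) ∧
      ∃ (c : ℂ) (B : M n), (c = 1 ∨ c = -1) ∧ B ≠ 0 ∧ Bᵀ = c • B ∧
        (∀ g, mat ρ g * B * (mat ρ g)ᵀ = B) ∧
        (Nat.card G : ℂ)⁻¹ * ∑ g : G, ρ.character (g * g) = c) := by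
  classical
  have h1 : (Nat.card G : ℂ)⁻¹ * ∑ g : G, ρ.character g ^ 2 =
      classInner ρ.character (fun g => conj (ρ.character g)) := by
    rw [classInner]
    congr 1
    exact Finset.sum_congr rfl fun g _ => by rw [Complex.conj_conj, sq]
  have h2 := ci_irr hχ (IsIrr.conj hχ)
  rw [← trace_PT]
  have h3 := trace_P ρ
  rw [trace_P_eq_finrank, h1, h2] at h3
  by_cases hreal : ρ.character = fun g => conj (ρ.character g)
  · right
    refine ⟨hreal, ?_⟩
    rw [if_pos hreal] at h3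
    have h4 : Module.finrank ℂ (LinearMap.range (P ρ)) = 1 := by exact_mod_cast h3
    obtain ⟨⟨B, hB⟩, hB0, hspan⟩ := finrank_eq_one_iff'.mp h4
    have hB0' : B ≠ 0 := fun h => hB0 (Subtype.ext h)
    have hPB : P ρ B = B := by
      obtain ⟨X, rfl⟩ := hB
      exact congrArg (fun f : M n →ₗ[ℂ] M n => f X) (P_P ρ)
    have hTB : (T B : M n) ∈ LinearMap.range (P ρ) := by
      refine ⟨T B, ?_⟩
      have := congrArg (fun f : M n →ₗ[ℂ] M n => f B) (P_T ρ)
      simp only [LinearMap.comp_apply, hPB] at this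
      exact this
    obtain ⟨c, hc⟩ := hspan ⟨T B, hTB⟩
    have hc' : T B = c • B := (congrArg Subtype.val hc).symm
    have hTT : T (T B) = B := congrArg (fun f : M n →ₗ[ℂ] M n => f B) T_T
    have hcc : c = 1 ∨ c = -1 := by
      rw [hc', map_smul, hc', smul_smul] at hTT
      have h5 : (c * c - 1) • B = 0 := by rw [sub_smul, one_smul, hTT, sub_self]
      have h6 := (smul_eq_zero.mp h5).resolve_right hB0'
      exact mul_self_eq_one_iff.mp (sub_eq_zero.mp h6)
    refine ⟨c, B, hcc, hB0', hc', ?_, ?_⟩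
    · intro g
      have := congrArg (fun f : M n →ₗ[ℂ] M n => f B) (L_P ρ g)
      simp only [LinearMap.comp_apply, hPB] at this
      exact this
    · have h5 : P ρ ∘ₗ T = c • P ρ := by
        rw [P_T]
        apply LinearMap.ext
        intro X
        obtain ⟨a, ha⟩ := hspan ⟨P ρ X, ⟨X, rfl⟩⟩
        have ha' : P ρ X = a • B := (congrArg Subtype.val ha).symm
        rw [LinearMap.comp_apply, LinearMap.smul_apply, ha', map_smul, hc', smul_comm]
      rw [h5, map_smul, trace_P_eq_finrank, h4]; simp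
  · left
    refine ⟨?_, hreal⟩
    rw [if_neg hreal] at h3
    have h4 : Module.finrank ℂ (LinearMap.range (P ρ)) = 0 := by exact_mod_cast h3
    have h5 : LinearMap.range (P ρ) = ⊥ := Submodule.finrank_eq_zero.mp h4
    have h6 : P ρ = 0 := LinearMap.range_eq_bot.mp h5
    rw [h6, LinearMap.zero_comp, map_zero]

end Indicator

end Cfsg.Agent.H3.FS
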