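import Mathlib

/-!
# Unitarisation of representations of finite groups
-/

set_option autoImplicit false

namespace Cfsg.Agent.H3.Unit

open Module

variable {G : Type*} [Group G] [Fintype G] {n : ℕ} (ρ : Representation ℂ G (Fin n → ℂ))

noncomputable def Phi : (Fin n → ℂ) →ₗ[ℂ] EuclideanSpace ℂ (G × Fin n) :=
  (WithLp.linearEquiv 2 ℂ (G × Fin n → ℂ)).symm.toLinearMap ∘ₗ
    (LinearMap.pi (fun x : G × Fin n => (LinearMap.proj x.2) ∘ₗ (ρ x.1)))

theorem Phi_apply (v : Fin n → ℂ) (x : G × Fin n) : Phi ρ v x = ρ x.1 v x.2 := rfl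

theorem inner_Phi (v w : Fin n → ℂ) :
    inner ℂ (Phi ρ v) (Phi ρ w) = ∑ x : G, ∑ i, inner ℂ (ρ x v i) (ρ x w i) := by
  rw [PiLp.inner_apply, Fintype.sum_prod_type]
  rfl

theorem inner_Phi_rho (g : G) (v w : Fin n → ℂ) :
    inner ℂ (Phi ρ (ρ g v)) (Phi ρ (ρ g w)) = inner ℂ (Phi ρ v) (Phi ρ w) := by
  rw [inner_Phi, inner_Phi, ← Equiv.sum_comp (Equiv.mulRight g) (fun x => ∑ i, inner ℂ (ρ x v i) (ρ x w i))]
  refine Finset.sum_congr rfl (fun x _ => Finset.sum_congr rfl (fun i _ => ?_))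
  rw [Equiv.coe_mulRight, map_mul]
  rfl

theorem Phi_injective : Function.Injective (Phi ρ) := by
  intro v w h
  funext i
  have h1 := congrArg (fun f : EuclideanSpace ℂ (G × Fin n) => f (1, i)) h
  simp only [Phi_apply, map_one] at h1
  exact h1

theorem exists_unitary (hf : Function.Injective ρ) : ∃ (E : Submodule ℂ (EuclideanSpace ℂ (G × Fin n)))
    (σ : G →* (E →L[ℂ] E)), finrank ℂ E = n ∧ (∀ g v w, inner ℂ (σ g v) (σ g w) = inner ℂ v w) ∧ Function.Injective σ := by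
  obtain ⟨e, he⟩ : ∃ e : (Fin n → ℂ) ≃ₗ[ℂ] (LinearMap.range (Phi ρ)), ∀ v, (e v : EuclideanSpace ℂ (G × Fin n)) = Phi ρ v :=
    ⟨LinearEquiv.ofInjective (Phi ρ) (Phi_injective ρ), fun v => rfl⟩
  obtain ⟨σ, hσ⟩ : ∃ σ : G →* ((LinearMap.range (Phi ρ)) →L[ℂ] (LinearMap.range (Phi ρ))), ∀ g v, σ g v = e (ρ g (e.symm v)) := by
    refine ⟨{ toFun := fun g => LinearMap.toContinuousLinearMap (e.toLinearMap ∘ₗ (ρ g) ∘ₗ e.symm.toLinearMap)
              map_one' := ?_
              map_mul' := ?_ }, fun g v => rfl⟩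
    · ext v
      change ((e (ρ 1 (e.symm v)) : LinearMap.range (Phi ρ)) : EuclideanSpace ℂ (G × Fin n)) _ = _
      rw [map_one]
      change ((e (e.symm v) : LinearMap.range (Phi ρ)) : EuclideanSpace ℂ (G × Fin n)) _ = _
      rw [LinearEquiv.apply_symm_apply]
      rfl
    · intro x y
      ext v
      change ((e (ρ (x * y) (e.symm v)) : LinearMap.range (Phi ρ)) : EuclideanSpace ℂ (G × Fin n)) _ =
        ((e (ρ x (e.symm (e (ρ y (e.symm v))))) : LinearMap.range (Phi ρ)) : EuclideanSpace ℂ (G × Fin n)) _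
      rw [LinearEquiv.symm_apply_apply, map_mul]
      rfl
  refine ⟨LinearMap.range (Phi ρ), σ, ?_, ?_, ?_⟩
  · rw [← e.finrank_eq, Module.finrank_fintype_fun_eq_card, Fintype.card_fin]
  · intro g v w
    rw [hσ, hσ, Submodule.coe_inner, he, he, inner_Phi_rho, ← he, ← he, LinearEquiv.apply_symm_apply,
      LinearEquiv.apply_symm_apply, Submodule.coe_inner]
  · intro x y hxy
    apply hf
    ext v i
    have h1 := congrArg (fun T => T (e (Pi.single v 1))) hxy
    simp only [hσ, LinearEquiv.symm_apply_apply] at h1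
    have h2 := e.injective h1
    exact congrFun h2 i

end Cfsg.Agent.H3.Unit
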