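import Mathlib
import Cfsg.Agent.H3_FS
import Cfsg.Agent.H3_Unit
import Cfsg.Agent.H3_CharComplete

/-!
# The Frobenius-Schur indicator and invariant bilinear forms
-/

set_option autoImplicit false

open scoped ComplexConjugate Matrix

namespace Cfsg.Agent.H3.FS

open Cfsg Cfsg.Agent.H3.CharBasic Cfsg.Agent.H3.CharIrr Cfsg.Agent.H3.CharComplete
  Cfsg.Agent.H3.CharInd

variable {G : Type*} [Group G] [Fintype G] {n : ℕ} (ρ : Representation ℂ G (Fin n → ℂ))

theorem P_of_inv {A : M n} (hA : ∀ g, mat ρ g * A * (mat ρ g)ᵀ = A) : P ρ A = A := by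
  rw [P, LinearMap.smul_apply, LinearMap.sum_apply, Finset.sum_congr rfl (g := fun _ => A) (fun g _ => (L_apply _ _).trans (hA g)), Finset.sum_const,
    Finset.card_univ, ← Nat.cast_smul_eq_nsmul ℂ, smul_smul, ← Nat.card_eq_fintype_card, inv_mul_cancel₀ card_cast_ne_zero, one_smul]

theorem finrank_P (hχ : IsIrrCharacter G ρ.character) (hreal : ρ.character = fun g => conj (ρ.character g)) :
    Module.finrank ℂ (LinearMap.range (P ρ)) = 1 := by
  classical
  have h1 : (Nat.card G : ℂ)⁻¹ * ∑ g : G, ρ.character g ^ 2 =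
      classInner ρ.character (fun g => conj (ρ.character g)) := by
    rw [classInner]
    congr 1
    exact Finset.sum_congr rfl fun g _ => by rw [Complex.conj_conj, sq]
  have h2 := ci_irr hχ (IsIrr.conj hχ)
  have h3 := trace_P ρ
  rw [trace_P_eq_finrank, h1, h2, if_pos hreal] at h3
  exact_mod_cast h3

theorem inv_unique (hχ : IsIrrCharacter G ρ.character) (hreal : ρ.character = fun g => conj (ρ.character g)) {A B : M n}
    (hA : ∀ g, mat ρ g * A * (mat ρ g)ᵀ = A) (hB : ∀ g, mat ρ g * B * (mat ρ g)ᵀ = B) (hB0 : B ≠ 0) : ∃ a : ℂ, A = a • B := by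
  have h1 := finrank_P ρ hχ hreal
  have hAm : A ∈ LinearMap.range (P ρ) := ⟨A, P_of_inv ρ hA⟩
  have hBm : B ∈ LinearMap.range (P ρ) := ⟨B, P_of_inv ρ hB⟩
  obtain ⟨a, ha⟩ := (finrank_eq_one_iff_of_nonzero' (⟨B, hBm⟩ : LinearMap.range (P ρ)) (fun h => hB0 (congrArg Subtype.val h))).mp h1 ⟨A, hAm⟩
  exact ⟨a, (congrArg Subtype.val ha).symm⟩

/-- the contragredient -/
noncomputable def dl : Representation ℂ G (Fin n → ℂ) where
  toFun g := Matrix.toLin' (mat ρ g⁻¹)ᵀ
  map_one' := by rw [inv_one, mat_one, Matrix.transpose_one]; exact Matrix.toLin'_one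
  map_mul' a b := by rw [mul_inv_rev, mat_mul, Matrix.transpose_mul]; exact Matrix.toLin'_mul _ _


theorem mat_dl (g : G) : mat (dl ρ) g = (mat ρ g⁻¹)ᵀ := LinearMap.toMatrix'_toLin' _


theorem char_dl (g : G) : (dl ρ).character g = ρ.character g⁻¹ := by
  rw [← mat_trace, mat_dl, Matrix.trace_transpose, mat_trace]

theorem form (hirr : IsIrrCharacter G ρ.character) (hreal : ∀ g : G, (ρ.character g).im = 0) :
    ∃ (c : ℂ) (B : M n), (c = 1 ∨ c = -1) ∧ B ≠ 0 ∧ Bᵀ = c • B ∧ (∀ g : G, (mat ρ g)ᵀ * B * mat ρ g = B) ∧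
      (Nat.card G : ℂ)⁻¹ * ∑ g : G, ρ.character (g * g) = c ∧
      ∀ A : M n, (∀ g : G, (mat ρ g)ᵀ * A * mat ρ g = A) → ∃ a : ℂ, A = a • B := by
  have hr : ρ.character = fun g => conj (ρ.character g) := funext fun g => (Complex.conj_eq_iff_im.mpr (hreal g)).symm
  have hdl : (dl ρ).character = ρ.character := by
    funext g
    rw [char_dl, IsChar.inv_eq_conj (IsIrr.isCharacter hirr)]
    exact (congrFun hr g).symm
  have hdi : IsIrrCharacter G (dl ρ).character := by rw [hdl]; exact hirr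
  have hdr : (dl ρ).character = fun g => conj ((dl ρ).character g) := by rw [hdl]; exact hr
  rcases indicator (dl ρ) hdi with h | ⟨-, c, B, hc, hB0, hBT, hB, hν⟩
  · exact absurd hdr h.2
  · have hconv : ∀ A : M n, (∀ g : G, (mat ρ g)ᵀ * A * mat ρ g = A) ↔ ∀ g, mat (dl ρ) g * A * (mat (dl ρ) g)ᵀ = A := by
      intro A
      constructor
      · intro h g
        rw [mat_dl, Matrix.transpose_transpose]
        exact h g⁻¹
      · intro h g
        have := h g⁻¹
        rw [mat_dl, Matrix.transpose_transpose, inv_inv] at this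
        exact this
    refine ⟨c, B, hc, hB0, hBT, (hconv B).mpr hB, ?_, ?_⟩
    · rw [← hν, hdl]
    · intro A hA
      exact inv_unique (dl ρ) hdi hdr ((hconv A).mp hA) hB hB0

section Real

theorem real_form {V : Type*} [AddCommGroup V] [Module ℂ V] [FiniteDimensional ℂ V] (K : V →ₛₗ[starRingEnd ℂ] V) (hK : ∀ v, K (K v) = v) :
    ∃ b : Module.Basis (Fin (Module.finrank ℂ V)) ℂ V, ∀ i, K (b i) = b i := by
  let s : Set V := {v | K v = v}
  have hs : ⊤ ≤ Submodule.span ℂ s := by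
    intro v _
    have h1 : v + K v ∈ s := by
      show K (v + K v) = v + K v
      rw [map_add, hK, add_comm]
    have h2 : Complex.I • (v - K v) ∈ s := by
      show K (Complex.I • (v - K v)) = Complex.I • (v - K v)
      rw [map_smulₛₗ, map_sub, hK, Complex.conj_I, neg_smul, ← smul_neg, neg_sub]
    have h3 : v = (1 / 2 : ℂ) • (v + K v) + (-Complex.I / 2) • (Complex.I • (v - K v)) := by
      rw [smul_smul]
      have : -Complex.I / 2 * Complex.I = 1 / 2 := by
        have := Complex.I_mul_I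
        linear_combination (-1 / 2) * this
      rw [this, ← smul_add]
      have h4 : v + K v + (v - K v) = (2 : ℂ) • v := by rw [two_smul]; abel
      rw [h4, smul_smul]
      norm_num
    rw [h3]
    exact Submodule.add_mem _ (Submodule.smul_mem _ _ (Submodule.subset_span h1)) (Submodule.smul_mem _ _ (Submodule.subset_span h2))
  let b0 := Module.Basis.ofSpan hs
  have : Fintype ((linearIndepOn_empty ℂ id).extend (Set.empty_subset s)) := FiniteDimensional.fintypeBasisIndex b0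
  refine ⟨b0.reindex (Fintype.equivFinOfCardEq (Module.finrank_eq_card_basis b0).symm), fun i => ?_⟩
  rw [Module.Basis.reindex_apply]
  exact Module.Basis.ofSpan_subset hs ⟨_, rfl⟩

theorem real_rep {G : Type*} [Group G] {V : Type*} [AddCommGroup V] [Module ℂ V] {m : ℕ} (ρ : Representation ℂ G V)
    (b : Module.Basis (Fin m) ℂ V) (K : V →ₛₗ[starRingEnd ℂ] V) (hb : ∀ i, K (b i) = b i) (hKρ : ∀ g v, K (ρ g v) = ρ g (K v)) :
    ∃ σ : Representation ℝ G (Fin m → ℝ), ∀ g, ((LinearMap.trace ℝ (Fin m → ℝ) (σ g) : ℝ) : ℂ) = LinearMap.trace ℂ V (ρ g) := by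
  have hrepr : ∀ v i, b.repr (K v) i = conj (b.repr v i) := by
    intro v i
    have h1 : K v = ∑ j, conj (b.repr v j) • b j := by
      conv_lhs => rw [← b.sum_repr v, map_sum]
      exact Finset.sum_congr rfl fun j _ => by rw [map_smulₛₗ, hb]
    rw [h1, b.repr_sum_self]
  have hreal : ∀ g i j, conj (LinearMap.toMatrix b b (ρ g) i j) = LinearMap.toMatrix b b (ρ g) i j := by
    intro g i j
    rw [LinearMap.toMatrix_apply, ← hrepr, hKρ, hb]
  let R : G → Matrix (Fin m) (Fin m) ℝ := fun g => Matrix.of fun i j => (LinearMap.toMatrix b b (ρ g) i j).re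
  have hR : ∀ g, (R g).map (Complex.ofRealHom : ℝ →+* ℂ) = LinearMap.toMatrix b b (ρ g) := by
    intro g
    ext i j
    exact Complex.conj_eq_iff_re.mp (hreal g i j)
  have hinj : Function.Injective (fun X : Matrix (Fin m) (Fin m) ℝ => X.map (Complex.ofRealHom : ℝ →+* ℂ)) :=
    Matrix.map_injective Complex.ofReal_injective
  have hR1 : R 1 = 1 := by
    apply hinj
    show (R 1).map (Complex.ofRealHom : ℝ →+* ℂ) = (1 : Matrix (Fin m) (Fin m) ℝ).map (Complex.ofRealHom : ℝ →+* ℂ)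
    rw [hR, map_one, Matrix.map_one _ (map_zero _) (map_one _)]
    exact LinearMap.toMatrix_one b
  have hRm : ∀ g h, R (g * h) = R g * R h := by
    intro g h
    apply hinj
    show (R (g * h)).map (Complex.ofRealHom : ℝ →+* ℂ) = (R g * R h).map (Complex.ofRealHom : ℝ →+* ℂ)
    rw [hR, Matrix.map_mul, hR, hR, map_mul]
    exact LinearMap.toMatrix_mul b _ _
  refine ⟨{ toFun := fun g => Matrix.toLin' (R g)
            map_one' := by rw [hR1]; exact Matrix.toLin'_one
            map_mul' := fun g h => by rw [hRm]; exact Matrix.toLin'_mul _ _ }, fun g => ?_⟩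
  show ((LinearMap.trace ℝ (Fin m → ℝ) (Matrix.toLin' (R g)) : ℝ) : ℂ) = LinearMap.trace ℂ V (ρ g)
  rw [LinearMap.trace_eq_matrix_trace ℂ b, ← hR, Matrix.trace_toLin'_eq]
  simp only [Matrix.trace, Matrix.diag_apply, Matrix.map_apply]
  push_cast
  rfl

theorem exists_conj_aux {E : Type*} [NormedAddCommGroup E] [InnerProductSpace ℂ E] [FiniteDimensional ℂ E]
    (ρ : Representation ℂ G (Fin n → ℂ)) (hirr : ρ.IsIrreducible) (e : (Fin n → ℂ) ≃ₗ[ℂ] E)
    (hinv : ∀ g v w, inner ℂ (e (ρ g v)) (e (ρ g w)) = inner ℂ (e v) (e w)) {B : M n} (hB0 : B ≠ 0) (hBT : Bᵀ = B)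
    (hB : ∀ g : G, (mat ρ g)ᵀ * B * mat ρ g = B) :
    ∃ K : (Fin n → ℂ) →ₛₗ[starRingEnd ℂ] (Fin n → ℂ), (∀ v, K (K v) = v) ∧ ∀ g v, K (ρ g v) = ρ g (K v) := by
  classical
  obtain ⟨b, hb⟩ : ∃ b : LinearMap.BilinForm ℂ (Fin n → ℂ), b = Matrix.toBilin' B := ⟨_, rfl⟩
  have hmat : ∀ g v, ρ g v = mat ρ g *ᵥ v := by
    intro g v
    rw [mat, ← Matrix.toLin'_apply, Matrix.toLin'_toMatrix']
  have hbinv : ∀ g v w, b (ρ g v) (ρ g w) = b v w := by
    intro g v w
    rw [hb, Matrix.toBilin'_apply', Matrix.toBilin'_apply', hmat, hmat, Matrix.mulVec_mulVec]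
    conv_rhs => rw [← hB g]
    rw [Matrix.mul_assoc, ← Matrix.mulVec_mulVec (M := (mat ρ g)ᵀ), Matrix.dotProduct_mulVec v, Matrix.vecMul_transpose]
  have hbsymm : ∀ v w, b v w = b w v := by
    intro v w
    rw [hb, Matrix.toBilin'_apply', Matrix.toBilin'_apply', Matrix.dotProduct_mulVec, dotProduct_comm, ← Matrix.mulVec_transpose, hBT]
  have : CompleteSpace E := FiniteDimensional.complete ℂ E
  let bm : (Fin n → ℂ) → StrongDual ℂ E := fun v => LinearMap.toContinuousLinearMap ((b v) ∘ₗ e.symm.toLinearMap)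
  have hbm : ∀ v w, bm v (e w) = b v w := by
    intro v w
    show b v (e.symm (e w)) = b v w
    rw [e.symm_apply_apply]
  let J : (Fin n → ℂ) →ₛₗ[starRingEnd ℂ] (Fin n → ℂ) :=
    { toFun := fun v => e.symm ((InnerProductSpace.toDual ℂ E).symm (bm v))
      map_add' := fun v w => by
        have : bm (v + w) = bm v + bm w := by
          ext x
          show b (v + w) (e.symm x) = b v (e.symm x) + b w (e.symm x)
          rw [map_add]; rfl
        rw [this, map_add, map_add]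
      map_smul' := fun c v => by
        have : bm (c • v) = c • bm v := by
          ext x
          show b (c • v) (e.symm x) = c • b v (e.symm x)
          rw [map_smul]; rfl
        rw [this, map_smulₛₗ, map_smul] }
  have hJ : ∀ v w, inner ℂ (e (J v)) (e w) = b v w := by
    intro v w
    show inner ℂ (e (e.symm ((InnerProductSpace.toDual ℂ E).symm (bm v)))) (e w) = b v w
    rw [e.apply_symm_apply, InnerProductSpace.toDual_symm_apply, hbm]
  have hext : ∀ x y : Fin n → ℂ, (∀ w, inner ℂ (e x) (e w) = inner ℂ (e y) (e w)) → x = y := by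
    intro x y h
    apply e.injective
    refine ext_inner_right ℂ fun z => ?_
    obtain ⟨w, rfl⟩ := e.surjective z
    exact h w
  have hcomm : ∀ g v, J (ρ g v) = ρ g (J v) := by
    intro g v
    apply hext
    intro w
    have h1 : ρ g (ρ g⁻¹ w) = w := by
      rw [← Module.End.mul_apply, ← map_mul, mul_inv_cancel, map_one, Module.End.one_apply]
    rw [hJ, ← h1, hbinv, hinv, hJ]
  let T : (Fin n → ℂ) →ₗ[ℂ] (Fin n → ℂ) :=
    { toFun := fun v => J (J v)
      map_add' := fun v w => by rw [map_add, map_add]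
      map_smul' := fun c v => by rw [map_smulₛₗ, map_smulₛₗ, Complex.conj_conj, RingHom.id_apply] }
  obtain ⟨c, hc⟩ := schur ρ hirr T (fun g v => by
    show J (J (ρ g v)) = ρ g (J (J v))
    rw [hcomm, hcomm])
  have hJJ : ∀ v, J (J v) = c • v := fun v => congrArg (fun f : (Fin n → ℂ) →ₗ[ℂ] (Fin n → ℂ) => f v) hc
  have hex : ∃ v, J v ≠ 0 := by
    by_contra hcon
    push Not at hcon
    apply hB0
    have hb0 : b = 0 := by
      ext i j
      have := hJ (Pi.single i 1) (Pi.single j 1)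
      rw [hcon, map_zero, inner_zero_left] at this
      simpa using this.symm
    rw [hb] at hb0
    have h2 := (Matrix.toBilin' (R₁ := ℂ) (n := Fin n)).map_eq_zero_iff.mp hb0
    exact h2
  obtain ⟨v, hv⟩ := hex
  have hv0 : v ≠ 0 := by
    rintro rfl
    exact hv (map_zero J)
  have h1 : conj c * inner ℂ (e v) (e v) = inner ℂ (e (J v)) (e (J v)) := by
    have h2 := hJ (J v) v
    rw [hJJ, map_smul, inner_smul_left, hbsymm, ← hJ] at h2
    exact h2
  have hpos : ∀ x : Fin n → ℂ, x ≠ 0 → inner ℂ (e x) (e x) = ((‖e x‖ ^ 2 : ℝ) : ℂ) ∧ 0 < ‖e x‖ ^ 2 := by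
    intro x hx
    refine ⟨?_, ?_⟩
    · rw [inner_self_eq_norm_sq_to_K]; push_cast; rfl
    · have : e x ≠ 0 := fun h => hx (e.injective (by rw [h, map_zero]))
      positivity
  obtain ⟨h3, h4⟩ := hpos v hv0
  obtain ⟨h5, h6⟩ := hpos (J v) hv
  rw [h3, h5] at h1
  obtain ⟨r, hr, hrc⟩ : ∃ r : ℝ, 0 < r ∧ c = r := by
    refine ⟨‖e (J v)‖ ^ 2 / ‖e v‖ ^ 2, div_pos h6 h4, ?_⟩
    have h7 : conj c = ((‖e (J v)‖ ^ 2 / ‖e v‖ ^ 2 : ℝ) : ℂ) := by
      have h8 : ((‖e v‖ ^ 2 : ℝ) : ℂ) ≠ 0 := by exact_mod_cast h4.ne'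
      rw [Complex.ofReal_div, eq_div_iff h8]
      exact h1
    have h9 := congrArg conj h7
    rw [Complex.conj_conj, Complex.conj_ofReal] at h9
    exact h9
  refine ⟨((√r : ℝ) : ℂ)⁻¹ • J, ?_, ?_⟩
  · intro w
    rw [LinearMap.smul_apply, LinearMap.smul_apply, map_smulₛₗ, hJJ, hrc, smul_smul, smul_smul, map_inv₀, Complex.conj_ofReal]
    have h7 : ((√r : ℝ) : ℂ)⁻¹ * (((√r : ℝ) : ℂ)⁻¹ * (r : ℂ)) = 1 := by
      have h8 : ((√r : ℝ) : ℂ) * ((√r : ℝ) : ℂ) = r := by
        rw [← Complex.ofReal_mul, Real.mul_self_sqrt hr.le]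
      have h9 : ((√r : ℝ) : ℂ) ≠ 0 := by
        exact_mod_cast (Real.sqrt_pos.mpr hr).ne'
      rw [← h8]
      field_simp
    rw [← mul_assoc] at h7
    rw [h7, one_smul]
  · intro g w
    rw [LinearMap.smul_apply, LinearMap.smul_apply, hcomm, map_smul]

theorem exists_conj (ρ : Representation ℂ G (Fin n → ℂ)) (hirr : ρ.IsIrreducible) {B : M n} (hB0 : B ≠ 0) (hBT : Bᵀ = B)
    (hB : ∀ g : G, (mat ρ g)ᵀ * B * mat ρ g = B) :
    ∃ K : (Fin n → ℂ) →ₛₗ[starRingEnd ℂ] (Fin n → ℂ), (∀ v, K (K v) = v) ∧ ∀ g v, K (ρ g v) = ρ g (K v) :=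
  exists_conj_aux (E := LinearMap.range (Unit.Phi ρ)) ρ hirr (LinearEquiv.ofInjective (Unit.Phi ρ) (Unit.Phi_injective ρ))
    (fun g v w => Unit.inner_Phi_rho ρ g v w) hB0 hBT hB

end Real

end Cfsg.Agent.H3.FS
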