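import Mathlib
import Cfsg.Agent.H3_FS2
import Cfsg.Agent.H3_CharMult

set_option autoImplicit false

/-! Fixed spaces and Frobenius--Schur indicators (H10). -/

open scoped ComplexConjugate Matrix

namespace Cfsg.Agent.H10.FSFix

open Cfsg Cfsg.Agent Cfsg.Agent.H3.CharIrr Cfsg.Agent.H3.CharInd Cfsg.Agent.H3.CharMult Cfsg.Agent.H3.CharComplete

theorem inv_finrank {S : Type*} [Group S] [Fintype S] {V : Type*} [AddCommGroup V] [Module ℂ V] [FiniteDimensional ℂ V]
    (ρ : Representation ℂ S V) : classInner ρ.character (fun _ => 1) = Module.finrank ℂ (Representation.invariants ρ) := by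
  have hc : (Nat.card S : ℂ) ≠ 0 := by exact_mod_cast Nat.card_pos.ne'
  haveI : Invertible (Fintype.card S : ℂ) := invertibleOfNonzero (by
    rw [← Nat.card_eq_fintype_card]; exact hc)
  have h1 := (Representation.isProj_averageMap ρ).trace
  rw [← h1, classInner]
  simp only [map_one, mul_one]
  rw [Representation.averageMap, GroupAlgebra.average]
  simp [Representation.character, map_sum, Nat.card_eq_fintype_card]

open Cfsg.Agent.H3.FS

/-- a real irreducible character with an odd number of fixed points of some subgroup has indicator `1` -/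
theorem ind_pos {G : Type*} [Group G] [Fintype G] {χ : G → ℂ} (hχ : IsIrrCharacter G χ) (hreal : ∀ g, (χ g).im = 0)
    (S : Subgroup G) [Fintype S] {m : ℕ} (hm : classInner (fun s : S => χ s) (fun _ => 1) = m) (hodd : Odd m) :
    (Nat.card G : ℂ)⁻¹ * ∑ g : G, χ (g * g) = 1 := by
  classical
  obtain ⟨n, ρ, hρ, rfl⟩ := id hχ
  obtain ⟨c, B, hc, hB0, hBT, hBinv, hind, -⟩ := form ρ hχ hreal
  rcases hc with rfl | rfl
  · exact hind
  exfalso
  let σ : Representation ℂ S (Fin n → ℂ) := ρ.comp S.subtype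
  let W := Representation.invariants σ
  have hmem : ∀ w : Fin n → ℂ, w ∈ W ↔ ∀ s : S, ρ (s : G) w = w := fun w => Iff.rfl
  have hfin : Module.finrank ℂ W = m := by
    have h1 := inv_finrank σ
    have h2 : σ.character = fun s : S => ρ.character s := rfl
    rw [h2, hm] at h1
    exact_mod_cast h1.symm
  let b := Module.finBasisOfFinrankEq ℂ W hfin
  have hρm : ∀ (g : G) (v : Fin n → ℂ), ρ g v = mat ρ g *ᵥ v := by
    intro g v
    rw [mat, LinearMap.toMatrix'_mulVec]
  have hinv : ∀ (g : G) (v w : Fin n → ℂ), (ρ g v) ⬝ᵥ (B *ᵥ (ρ g w)) = v ⬝ᵥ (B *ᵥ w) := by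
    intro g v w
    rw [hρm, hρm]
    conv_rhs => rw [← hBinv g]
    rw [← Matrix.mulVec_mulVec, ← Matrix.mulVec_mulVec, Matrix.dotProduct_mulVec v, Matrix.vecMul_transpose]
  have hskew : ∀ v w : Fin n → ℂ, v ⬝ᵥ (B *ᵥ w) = - (w ⬝ᵥ (B *ᵥ v)) := by
    intro v w
    have h1 : v ⬝ᵥ (B *ᵥ w) = w ⬝ᵥ (Bᵀ *ᵥ v) := by
      rw [Matrix.mulVec_transpose, Matrix.dotProduct_mulVec, dotProduct_comm]
    rw [h1, hBT, neg_one_smul, Matrix.neg_mulVec, dotProduct_neg]
  let M : Matrix (Fin m) (Fin m) ℂ := Matrix.of fun i j => ((b i : W) : Fin n → ℂ) ⬝ᵥ (B *ᵥ ((b j : W) : Fin n → ℂ))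
  have hMT : Mᵀ = -M := by
    ext i j
    rw [Matrix.transpose_apply, Matrix.neg_apply]
    exact hskew _ _
  have hdet : M.det = 0 := by
    have h1 := Matrix.det_transpose M
    rw [hMT, Matrix.det_neg, Fintype.card_fin, hodd.neg_one_pow, neg_one_mul] at h1
    have h2 : (2 : ℂ) * M.det = 0 := by linear_combination -h1
    exact (mul_eq_zero.1 h2).resolve_left two_ne_zero
  obtain ⟨v, hv0, hv⟩ := Matrix.exists_mulVec_eq_zero_iff.2 hdet
  let u : W := ∑ j, v j • b j
  have hu0 : u ≠ 0 := by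
    intro h
    apply hv0
    have h1 := (Fintype.linearIndependent_iff.1 b.linearIndependent) v h
    exact funext h1
  have hbu : ∀ i, ((b i : W) : Fin n → ℂ) ⬝ᵥ (B *ᵥ (u : Fin n → ℂ)) = 0 := by
    intro i
    have h1 := congrFun hv i
    have h2 : (u : Fin n → ℂ) = ∑ j, v j • ((b j : W) : Fin n → ℂ) := by
      simp [u]
    rw [h2, Matrix.mulVec_sum, dotProduct_sum]
    have h1' : ∑ j, M i j * v j = 0 := h1
    rw [← h1']
    refine Finset.sum_congr rfl fun j _ => ?_
    rw [Matrix.mulVec_smul, dotProduct_smul, smul_eq_mul, mul_comm]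
    rfl
  have hWu : ∀ w : W, (w : Fin n → ℂ) ⬝ᵥ (B *ᵥ (u : Fin n → ℂ)) = 0 := by
    intro w
    have h1 := congrArg W.subtype (b.sum_repr w)
    rw [map_sum] at h1
    simp only [map_smul, Submodule.subtype_apply] at h1
    rw [← h1, sum_dotProduct]
    apply Finset.sum_eq_zero
    intro j _
    rw [smul_dotProduct, hbu, smul_zero]
  have hcard : (Nat.card S : ℂ) ≠ 0 := by exact_mod_cast Nat.card_pos.ne'
  have hall : ∀ w : Fin n → ℂ, w ⬝ᵥ (B *ᵥ (u : Fin n → ℂ)) = 0 := by
    intro w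
    have hW : (∑ s : S, ρ (s : G) w) ∈ W := by
      rw [hmem]
      intro t
      rw [map_sum]
      have e : ∀ s : S, ρ (t : G) (ρ (s : G) w) = ρ ((t * s : S) : G) w := by
        intro s
        rw [Subgroup.coe_mul, map_mul]; rfl
      rw [Finset.sum_congr rfl (fun s _ => e s)]
      exact Equiv.sum_comp (Equiv.mulLeft t) (fun s : S => ρ (s : G) w)
    have h1 := hWu ⟨_, hW⟩
    change (∑ s : S, ρ (s : G) w) ⬝ᵥ (B *ᵥ (u : Fin n → ℂ)) = 0 at h1
    rw [sum_dotProduct] at h1
    have h2 : ∀ s : S, (ρ (s : G) w) ⬝ᵥ (B *ᵥ (u : Fin n → ℂ)) = w ⬝ᵥ (B *ᵥ (u : Fin n → ℂ)) := by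
      intro s
      have h3 := (hmem u).1 u.2 s
      conv_lhs => rw [← h3]
      exact hinv s w u
    rw [Finset.sum_congr rfl (fun s _ => h2 s), Finset.sum_const, Finset.card_univ, nsmul_eq_mul,
      ← Nat.card_eq_fintype_card] at h1
    exact (mul_eq_zero.1 h1).resolve_left hcard
  have hBu : B *ᵥ (u : Fin n → ℂ) = 0 := by
    funext i
    have := hall (Pi.single i 1)
    rwa [single_one_dotProduct] at this
  obtain ⟨-, hirr⟩ := (irrep_iff ρ).mp hρ
  have hgB : ∀ (g : G) (x : Fin n → ℂ), B *ᵥ x = 0 → B *ᵥ (ρ g x) = 0 := by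
    intro g x hx
    have h1 : ∀ w, w ⬝ᵥ (B *ᵥ (ρ g x)) = 0 := by
      intro w
      have h2 := hinv g (ρ g⁻¹ w) x
      have h3 : ρ g (ρ g⁻¹ w) = w := by
        rw [← Module.End.mul_apply, ← map_mul, mul_inv_cancel, map_one]; rfl
      rw [h3, hx, dotProduct_zero] at h2
      exact h2
    funext i
    have := h1 (Pi.single i 1)
    rwa [single_one_dotProduct] at this
  rcases hirr (LinearMap.ker (Matrix.mulVecLin B)) (by
    intro g x hx
    rw [LinearMap.mem_ker, Matrix.mulVecLin_apply] at hx ⊢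
    exact hgB g x hx) with h | h
  · apply hu0
    apply Subtype.ext
    have h1 : (u : Fin n → ℂ) ∈ LinearMap.ker (Matrix.mulVecLin B) := by
      rw [LinearMap.mem_ker, Matrix.mulVecLin_apply]; exact hBu
    rw [h, Submodule.mem_bot] at h1
    exact h1
  · apply hB0
    have h1 : Matrix.mulVecLin B = 0 := LinearMap.ker_eq_top.1 h
    ext i j
    have h2 := congrFun (LinearMap.congr_fun h1 (Pi.single j 1)) i
    rw [Matrix.mulVecLin_apply, Matrix.mulVec_single_one] at h2
    exact h2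

end Cfsg.Agent.H10.FSFix
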