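import Mathlib
import Cfsg.Prelude.Def_Blocks
import Cfsg.Agent.H11_Cores

/-!
H10_FixVec: fixed vectors of p-groups in characteristic p; class sums outside the centralizer of the p-core are nilpotent.
-/

set_option autoImplicit false
set_option linter.style.haveILetI false
set_option linter.unusedSectionVars false

namespace Cfsg.Agent.H10.FixVec

open Cfsg

/-- a finite p-group acting on a nonzero additive group of exponent p fixes a nonzero element -/
theorem exists_fixed_vec {p : ℕ} [hp : Fact p.Prime] {P V : Type*} [Group P] [Finite P] [AddCommGroup V]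
    [DistribMulAction P V] (hP : IsPGroup p P) (hV : ∀ v : V, p • v = 0) {v0 : V} (hv0 : v0 ≠ 0) :
    ∃ v : V, v ≠ 0 ∧ ∀ u : P, u • v = v := by
  classical
  set S : Submodule ℤ V := Submodule.span ℤ (Set.range (fun u : P => u • v0)) with hS
  haveI : Finite (Set.range (fun u : P => u • v0)) := Set.finite_range _
  haveI : Module.Finite ℤ S := Module.Finite.span_of_finite ℤ (Set.finite_range _)
  have htor : Module.IsTorsion ℤ S := by
    rintro ⟨x, hx⟩
    refine ⟨⟨(p : ℤ), mem_nonZeroDivisors_of_ne_zero (by exact_mod_cast hp.out.ne_zero)⟩, ?_⟩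
    apply Subtype.ext
    show (p : ℤ) • x = 0
    rw [natCast_zsmul]; exact hV x
  haveI : Finite S := Module.finite_of_fg_torsion S htor
  have hstab : ∀ u : P, ∀ x ∈ S, u • x ∈ S := by
    intro u x hx
    rw [hS] at hx ⊢
    induction hx using Submodule.span_induction with
    | mem x h =>
      obtain ⟨w, rfl⟩ := h
      apply Submodule.subset_span
      exact ⟨u * w, by simp [mul_smul]⟩
    | zero => rw [smul_zero]; exact Submodule.zero_mem _
    | add x y _ _ h1 h2 => rw [smul_add]; exact Submodule.add_mem _ h1 h2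
    | smul a x _ h =>
      have : u • (a • x) = a • (u • x) := by
        exact map_zsmul (DistribSMul.toAddMonoidHom V u) a x
      rw [this]; exact Submodule.smul_mem _ _ h
  let act : MulAction P S :=
    { smul := fun u x => ⟨u • (x : V), hstab u x x.2⟩
      one_smul := fun x => Subtype.ext (one_smul P (x : V))
      mul_smul := fun a b x => Subtype.ext (mul_smul a b (x : V)) }
  have hv0S : v0 ∈ S := Submodule.subset_span ⟨1, one_smul P v0⟩
  have hcard : p ∣ Nat.card S := by
    have h1 : addOrderOf (⟨v0, hv0S⟩ : S) = p := by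
      apply addOrderOf_eq_prime
      · apply Subtype.ext
        exact hV v0
      · intro h; exact hv0 (congrArg Subtype.val h)
    rw [← h1]
    exact addOrderOf_dvd_natCard _
  obtain ⟨b, hb, hb0⟩ := @IsPGroup.exists_fixed_point_of_prime_dvd_card_of_fixed_point p P _ hP _ S act _ hcard
    (0 : S) (fun u => Subtype.ext (smul_zero u))
  refine ⟨b, fun h => hb0 (Subtype.ext h.symm), fun u => congrArg Subtype.val (hb u)⟩

/-- sums of invariant functions over sets without fixed points -/
theorem sum_no_fixed {p : ℕ} [hp : Fact p.Prime] {P X V : Type*} [Group P] [Finite P] [Fintype X] [MulAction P X]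
    [AddCommGroup V] (hP : IsPGroup p P) (hV : ∀ v : V, p • v = 0) (F : X → V) (hF : ∀ (u : P) (x : X), F (u • x) = F x)
    (hno : ∀ x : X, ∃ u : P, u • x ≠ x) : ∑ x, F x = 0 := by
  classical
  have h1 := Finset.sum_comp (s := Finset.univ) (fun a : V => a) F
  rw [h1]
  refine Finset.sum_eq_zero fun a _ => ?_
  let act : MulAction P {x : X // F x = a} :=
    { smul := fun u x => ⟨u • x.1, by rw [hF]; exact x.2⟩
      one_smul := fun x => Subtype.ext (one_smul P x.1)
      mul_smul := fun a b x => Subtype.ext (mul_smul a b x.1) }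
  have h2 := @IsPGroup.card_modEq_card_fixedPoints p P _ hP _ {x : X // F x = a} act _
  have h3 : Nat.card (@MulAction.fixedPoints P {x : X // F x = a} _ act) = 0 := by
    rw [Nat.card_eq_zero]
    left
    refine ⟨fun x => ?_⟩
    obtain ⟨u, hu⟩ := hno x.1.1
    exact hu (congrArg Subtype.val (x.2 u))
  rw [h3] at h2
  have h4 : p ∣ Nat.card {x : X // F x = a} := (Nat.modEq_zero_iff_dvd).1 h2
  obtain ⟨k, hk⟩ := h4
  have h5 : (Finset.univ.filter (fun x => F x = a)).card = Nat.card {x : X // F x = a} := by
    rw [Nat.card_eq_fintype_card, Fintype.card_subtype]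
  rw [h5, hk, mul_comm, mul_smul, hV, smul_zero]

theorem nilp {G : Type*} [Group G] [Finite G] (p : ℕ) [Fact p.Prime] (F : Type*) [Field F] [CharP F p] (g : G)
    (hg : ∀ x : G, IsConj g x → x ∉ Subgroup.centralizer (pCore p G : Set G)) :
    IsNilpotent (∑ᶠ x ∈ ConjClasses.carrier (ConjClasses.mk g), MonoidAlgebra.single x (1 : F) : MonoidAlgebra F G) := by
  classical
  haveI := Fintype.ofFinite G
  haveI hnorm : (pCore p G).Normal := inferInstance
  have hpg : IsPGroup p (pCore p G) := Cfsg.Agent.H11.Cores.pCore_isPGroup p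
  set z : MonoidAlgebra F G := ∑ᶠ x ∈ ConjClasses.carrier (ConjClasses.mk g), MonoidAlgebra.single x (1 : F) with hz
  haveI : IsArtinianRing (MonoidAlgebra F G) := isArtinian_of_tower F inferInstance
  obtain ⟨n, hn⟩ := IsArtinianRing.isNilpotent_jacobson_bot (R := MonoidAlgebra F G)
  suffices h : z ∈ Ideal.jacobson (⊥ : Ideal (MonoidAlgebra F G)) by
    refine ⟨n, ?_⟩
    have h1 := Ideal.pow_mem_pow h n
    rw [hn] at h1
    exact h1
  rw [Ideal.jacobson, Submodule.mem_sInf]
  rintro J ⟨-, hJ⟩
  have hpk : ∀ v : (MonoidAlgebra F G) ⧸ J, p • v = 0 := by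
    intro v
    obtain ⟨a, rfl⟩ := Submodule.Quotient.mk_surjective J v
    rw [← Submodule.Quotient.mk_smul]
    have : p • a = 0 := by
      have h1 : p • a = ((p : F)) • a := by rw [Nat.cast_smul_eq_nsmul]
      rw [h1, CharP.cast_eq_zero, zero_smul]
    rw [this]; rfl
  -- the left ideal of fixed vectors
  let W : Ideal (MonoidAlgebra F G) :=
    { carrier := {a | ∀ u ∈ pCore p G, MonoidAlgebra.single u (1 : F) * a - a ∈ J}
      add_mem' := fun {a b} ha hb u hu => by
        have : MonoidAlgebra.single u (1 : F) * (a + b) - (a + b) =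
          (MonoidAlgebra.single u (1 : F) * a - a) + (MonoidAlgebra.single u (1 : F) * b - b) := by
          rw [mul_add]; abel
        rw [this]; exact J.add_mem (ha u hu) (hb u hu)
      zero_mem' := fun u hu => by rw [mul_zero, sub_zero]; exact J.zero_mem
      smul_mem' := fun r a ha => by
        induction r using MonoidAlgebra.induction_linear with
        | zero => intro u hu; rw [smul_eq_mul, zero_mul, mul_zero, sub_zero]; exact J.zero_mem
        | add r s h1 h2 =>
          intro u hu
          have : MonoidAlgebra.single u (1 : F) * ((r + s) • a) - (r + s) • a =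
            (MonoidAlgebra.single u (1 : F) * (r • a) - r • a) + (MonoidAlgebra.single u (1 : F) * (s • a) - s • a) := by
            rw [add_smul, mul_add]; abel
          rw [this]; exact J.add_mem (h1 u hu) (h2 u hu)
        | single x c =>
          intro u hu
          have h1 : x⁻¹ * u * x ∈ pCore p G := by
            have := hnorm.conj_mem u hu x⁻¹
            rwa [inv_inv] at this
          have h2 := Ideal.mul_mem_left J (MonoidAlgebra.single x c) (ha _ h1)
          have : MonoidAlgebra.single u (1 : F) * ((MonoidAlgebra.single x c) • a) - (MonoidAlgebra.single x c) • a =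
            MonoidAlgebra.single x c * (MonoidAlgebra.single (x⁻¹ * u * x) (1 : F) * a - a) := by
            rw [smul_eq_mul, mul_sub, ← mul_assoc, ← mul_assoc, MonoidAlgebra.single_mul_single,
              MonoidAlgebra.single_mul_single, one_mul, mul_one]
            congr 3
            group
          rw [this]; exact h2 }
  have hJW : J < W := by
    refine lt_of_le_of_ne ?_ ?_
    · intro a ha u hu
      exact J.sub_mem (Ideal.mul_mem_left J _ ha) ha
    · intro hJW
      letI act : DistribMulAction (pCore p G) ((MonoidAlgebra F G) ⧸ J) :=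
        DistribMulAction.compHom _ ((MonoidAlgebra.of F G).comp (pCore p G).subtype)
      have hne : (Submodule.Quotient.mk (1 : MonoidAlgebra F G) : (MonoidAlgebra F G) ⧸ J) ≠ 0 := by
        rw [Ne, Submodule.Quotient.mk_eq_zero]
        exact (Ideal.ne_top_iff_one J).1 hJ.ne_top
      obtain ⟨v, hv, hfix⟩ := exists_fixed_vec hpg hpk hne
      obtain ⟨a, rfl⟩ := Submodule.Quotient.mk_surjective J v
      apply hv
      rw [Submodule.Quotient.mk_eq_zero, hJW]
      intro u hu
      have h1 := hfix ⟨u, hu⟩
      have h2 : (MonoidAlgebra.single u (1 : F)) • (Submodule.Quotient.mk a : (MonoidAlgebra F G) ⧸ J) =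
        Submodule.Quotient.mk a := h1
      rw [← Submodule.Quotient.mk_smul] at h2
      exact (Submodule.Quotient.eq J).1 h2
  have hWtop : W = ⊤ := hJ.out.2 W hJW
  have hall : ∀ a : MonoidAlgebra F G, ∀ u ∈ pCore p G, MonoidAlgebra.single u (1 : F) * a - a ∈ J := by
    intro a u hu
    have : a ∈ W := by rw [hWtop]; trivial
    exact this u hu
  have hz2 : z = ∑ x : {x : G // IsConj g x}, MonoidAlgebra.single x.1 (1 : F) := by
    rw [hz, finsum_mem_eq_finite_toFinset_sum _ (Set.toFinite _)]
    rw [Finset.sum_subtype (p := fun x => IsConj g x)]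
    intro x
    rw [Set.Finite.mem_toFinset, ConjClasses.mem_carrier_iff_mk_eq, ConjClasses.mk_eq_mk_iff_isConj]
    exact ⟨fun h => h.symm, fun h => h.symm⟩
  rw [hz2]
  let act : MulAction (pCore p G) {x : G // IsConj g x} :=
    { smul := fun u x => ⟨(u : G) * x.1 * (u : G)⁻¹, x.2.trans (isConj_iff.2 ⟨u, rfl⟩)⟩
      one_smul := fun x => Subtype.ext (by
        show ((1 : pCore p G) : G) * x.1 * ((1 : pCore p G) : G)⁻¹ = x.1
        simp)
      mul_smul := fun a b x => Subtype.ext (by
        show ((a * b : pCore p G) : G) * x.1 * ((a * b : pCore p G) : G)⁻¹ = (a : G) * ((b : G) * x.1 * (b : G)⁻¹) * (a : G)⁻¹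
        simp [mul_assoc]) }
  have key := @sum_no_fixed p _ (pCore p G) {x : G // IsConj g x} ((MonoidAlgebra F G) ⧸ J) _ _ _ act _ hpg hpk
    (fun x => Submodule.Quotient.mk (MonoidAlgebra.single x.1 (1 : F))) (by
      intro u x
      rw [Submodule.Quotient.eq]
      show MonoidAlgebra.single ((u : G) * x.1 * (u : G)⁻¹) (1 : F) - MonoidAlgebra.single x.1 (1 : F) ∈ J
      have h1 := hall 1 (u : G)⁻¹ ((pCore p G).inv_mem u.2)
      rw [mul_one] at h1
      have h2 := Ideal.mul_mem_left J (MonoidAlgebra.single (u : G) (1 : F) * MonoidAlgebra.single x.1 (1 : F)) h1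
      have h3 := hall (MonoidAlgebra.single x.1 (1 : F)) u u.2
      have h4 := J.add_mem h2 h3
      rw [mul_sub, mul_one, MonoidAlgebra.single_mul_single, MonoidAlgebra.single_mul_single, one_mul, one_mul] at h4
      rw [sub_add_sub_cancel] at h4
      exact h4) (by
      intro x
      by_contra hno
      push Not at hno
      apply hg x.1 x.2
      rw [Subgroup.mem_centralizer_iff]
      intro u hu
      have h1 : u * x.1 * u⁻¹ = x.1 := congrArg Subtype.val (hno ⟨u, hu⟩)
      rwa [mul_inv_eq_iff_eq_mul] at h1)
  rw [← Submodule.Quotient.mk_eq_zero]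
  rw [← key]
  exact map_sum (Submodule.mkQ J) _ _

end Cfsg.Agent.H10.FixVec
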