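import Mathlib

/-!
H10_FrF1: semilinear actions: a normal basis generator gives a free module.
-/

set_option autoImplicit false
set_option linter.style.haveILetI false
set_option linter.unusedSectionVars false

namespace Cfsg.Agent.H10.FrF1

section NB

variable {E H : Type*} [Field E] [Group H] [Fintype H] [MulSemiringAction H E] [FaithfulSMul H E]

variable (E H) in
theorem nb_span : ∃ θ : E, ∀ r : E, ∃ s : H → E, (∀ h g : H, g • s h = s h) ∧ r = ∑ h, s h * (h • θ) := by
  classical
  let K := FixedPoints.subfield H E
  haveI : IsGalois K E := IsGalois.of_fixed_field E H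
  let b := IsGalois.normalBasis (K := K) (L := E)
  let e : H ≃* Gal(E/K) := FixedPoints.toAlgAutMulEquiv H E
  refine ⟨b 1, fun r => ⟨fun h => (b.repr r (e h) : E), ?_, ?_⟩⟩
  · intro h g
    exact (b.repr r (e h)).2 g
  · conv_lhs => rw [← b.sum_repr r]
    rw [← Equiv.sum_comp e.toEquiv]
    refine Finset.sum_congr rfl fun h _ => ?_
    rw [show b (e.toEquiv h) = (e.toEquiv h) (b 1) from IsGalois.normalBasis_apply _]
    rfl

theorem det_ne {θ : E} (hθ : ∀ r : E, ∃ s : H → E, (∀ h g : H, g • s h = s h) ∧ r = ∑ h, s h * (h • θ)) [DecidableEq H] :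
    (Matrix.of (fun g h : H => (g * h) • θ)).det ≠ 0 := by
  intro h0
  obtain ⟨c, hc, hc0⟩ := Matrix.exists_vecMul_eq_zero_iff.2 h0
  apply hc
  have h1 : ∀ h : H, ∑ g : H, c g * ((g * h) • θ) = 0 := by
    intro h
    have := congrFun hc0 h
    simpa [Matrix.vecMul, dotProduct] using this
  have h2 : ∀ r : E, ∑ g : H, c g * (g • r) = 0 := by
    intro r
    obtain ⟨s, hs, hr⟩ := hθ r
    calc ∑ g : H, c g * (g • r) = ∑ g : H, ∑ h : H, s h * (c g * ((g * h) • θ)) := by
          refine Finset.sum_congr rfl fun g _ => ?_
          conv_lhs => rw [hr]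
          rw [Finset.smul_sum, Finset.mul_sum]
          refine Finset.sum_congr rfl fun h _ => ?_
          rw [smul_mul', hs, mul_smul]; ring
      _ = 0 := by
          rw [Finset.sum_comm]
          apply Finset.sum_eq_zero
          intro h _
          rw [← Finset.mul_sum, h1, mul_zero]
  let F : H → (E →* E) := fun g => (MulSemiringAction.toRingHom H E g : E →+* E)
  have hF : Function.Injective F := by
    intro g g' h
    apply FaithfulSMul.eq_of_smul_eq_smul (α := E)
    intro r
    exact DFunLike.congr_fun h r
  have h3 := (linearIndependent_monoidHom E E).comp F hF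
  have h4 := Fintype.linearIndependent_iff.1 h3 c (by
    funext r
    rw [Finset.sum_apply, Pi.zero_apply]
    exact h2 r)
  funext g
  exact h4 g

end NB

section Semi

variable {E H V : Type*} [Field E] [Group H] [Fintype H] [MulSemiringAction H E] [FaithfulSMul H E]
  [AddCommGroup V] [Module E V]

theorem semi (T : H → V → V) (hT1 : ∀ v, T 1 v = v) (hTm : ∀ g h v, T (g * h) v = T g (T h v))
    (hTa : ∀ g v w, T g (v + w) = T g v + T g w) (hTs : ∀ (g : H) (r : E) (v : V), T g (r • v) = (g • r) • T g v) :
    ∃ θ : E, (∀ v : V, ∃ u : H → V, (∀ h g, T g (u h) = u h) ∧ v = ∑ h : H, (h • θ) • u h) ∧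
      (∀ u : H → V, (∀ h g, T g (u h) = u h) → ∑ h : H, (h • θ) • u h = 0 → ∀ h, u h = 0) := by
  classical
  obtain ⟨θ, hθ⟩ := nb_span E H
  have hdet := det_ne hθ
  set M : Matrix H H E := Matrix.of (fun g h : H => (g * h) • θ) with hM
  have hunit : IsUnit M.det := isUnit_iff_ne_zero.2 hdet
  have hsum : ∀ (g : H) (ι : Type _) (s : Finset ι) (f : ι → V), T g (∑ i ∈ s, f i) = ∑ i ∈ s, T g (f i) := by
    intro g ι s f
    let φ : V →+ V := { toFun := T g, map_zero' := by
                          have := hTs g 0 0
                          rwa [zero_smul, smul_zero, zero_smul] at this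
                        map_add' := hTa g }
    exact map_sum φ f s
  refine ⟨θ, ?_, ?_⟩
  · intro v
    -- traces
    let t : H → V := fun g => ∑ h : H, ((h * g) • θ) • T h v
    have ht : ∀ g x : H, T x (t g) = t g := by
      intro g x
      show T x (∑ h : H, ((h * g) • θ) • T h v) = ∑ h : H, ((h * g) • θ) • T h v
      rw [hsum]
      refine Fintype.sum_equiv (Equiv.mulLeft x) _ _ fun h => ?_
      rw [hTs, ← hTm, smul_smul, ← mul_assoc]
      rfl
    have hv : v = ∑ g : H, M⁻¹ g 1 • t g := by
      have h1 : ∀ h : H, ∑ g : H, M⁻¹ g 1 * ((h * g) • θ) = if h = 1 then 1 else 0 := by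
        intro h
        have h2 := congrFun (congrFun (Matrix.mul_nonsing_inv M hunit) h) 1
        rw [Matrix.mul_apply, Matrix.one_apply] at h2
        rw [← h2]
        refine Finset.sum_congr rfl fun g _ => ?_
        rw [mul_comm]; rfl
      calc v = ∑ h : H, (if h = 1 then (1 : E) else 0) • T h v := by
            rw [Finset.sum_eq_single 1]
            · rw [if_pos rfl, one_smul, hT1]
            · intro b _ hb
              rw [if_neg hb, zero_smul]
            · intro h; exact absurd (Finset.mem_univ _) h
        _ = ∑ h : H, ∑ g : H, (M⁻¹ g 1 * ((h * g) • θ)) • T h v := by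
            refine Finset.sum_congr rfl fun h _ => ?_
            rw [← h1, Finset.sum_smul]
        _ = ∑ g : H, M⁻¹ g 1 • t g := by
            rw [Finset.sum_comm]
            refine Finset.sum_congr rfl fun g _ => ?_
            show _ = M⁻¹ g 1 • ∑ h : H, ((h * g) • θ) • T h v
            rw [Finset.smul_sum]
            refine Finset.sum_congr rfl fun h _ => ?_
            rw [smul_smul]
    choose s hs hs2 using fun g : H => hθ (M⁻¹ g 1)
    refine ⟨fun h => ∑ g : H, s g h • t g, ?_, ?_⟩
    · intro h x
      show T x (∑ g : H, s g h • t g) = ∑ g : H, s g h • t g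
      rw [hsum]
      refine Finset.sum_congr rfl fun g _ => ?_
      rw [hTs, hs, ht]
    · conv_lhs => rw [hv]
      calc ∑ g : H, M⁻¹ g 1 • t g = ∑ g : H, ∑ h : H, (h • θ) • (s g h • t g) := by
            refine Finset.sum_congr rfl fun g _ => ?_
            conv_lhs => rw [hs2 g]
            rw [Finset.sum_smul]
            refine Finset.sum_congr rfl fun h _ => ?_
            rw [smul_smul, mul_comm]
        _ = _ := by
            rw [Finset.sum_comm]
            refine Finset.sum_congr rfl fun h _ => ?_
            rw [Finset.smul_sum]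
  · intro u hu h0 h'
    have h1 : ∀ g : H, ∑ h : H, ((g * h) • θ) • u h = 0 := by
      intro g
      have h2 : T g 0 = 0 := by
        have := hTs g 0 0
        rwa [zero_smul, smul_zero, zero_smul] at this
      have h3 := congrArg (T g) h0
      rw [hsum, h2] at h3
      rw [← h3]
      refine Finset.sum_congr rfl fun h _ => ?_
      rw [hTs, hu, mul_smul]
    have h2 : ∀ h : H, ∑ g : H, M⁻¹ h' g * ((g * h) • θ) = if h' = h then 1 else 0 := by
      intro h
      have h2 := congrFun (congrFun (Matrix.nonsing_inv_mul M hunit) h') h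
      rw [Matrix.mul_apply, Matrix.one_apply] at h2
      rw [← h2]
      rfl
    calc u h' = ∑ h : H, (if h' = h then (1 : E) else 0) • u h := by
          rw [Finset.sum_eq_single h']
          · rw [if_pos rfl, one_smul]
          · intro b _ hb
            rw [if_neg (Ne.symm hb), zero_smul]
          · intro h; exact absurd (Finset.mem_univ _) h
      _ = ∑ h : H, ∑ g : H, M⁻¹ h' g • (((g * h) • θ) • u h) := by
          refine Finset.sum_congr rfl fun h _ => ?_
          rw [← h2, Finset.sum_smul]
          refine Finset.sum_congr rfl fun g _ => ?_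
          rw [smul_smul]
      _ = ∑ g : H, M⁻¹ h' g • ∑ h : H, ((g * h) • θ) • u h := by
          rw [Finset.sum_comm]
          refine Finset.sum_congr rfl fun g _ => ?_
          rw [Finset.smul_sum]
      _ = 0 := by
          apply Finset.sum_eq_zero
          intro g _
          rw [h1, smul_zero]

end Semi

end Cfsg.Agent.H10.FrF1
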