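import Mathlib
import Cfsg.Agent.H10_FrF1

/-!
H10_FrF2: freeness for the complement of a Frobenius group: the case where the kernel acts as an abelian group.
-/

set_option autoImplicit false
set_option linter.style.haveILetI false
set_option linter.unusedSectionVars false

namespace Cfsg.Agent.H10.FrF2

open Module

section Basic

variable {k V : Type*} [Field k] [AddCommGroup V] [Module k V]

/-- restriction of an action to an invariant subspace -/
def restr {G : Type*} [Monoid G] (ρ : G →* Module.End k V) (U : Submodule k V) (hU : ∀ g, ∀ u ∈ U, ρ g u ∈ U) :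
    G →* Module.End k U where
  toFun g := (ρ g).restrict (hU g)
  map_one' := by ext u; simp
  map_mul' g h := by ext u; simp

@[simp] theorem restr_apply {G : Type*} [Monoid G] (ρ : G →* Module.End k V) (U : Submodule k V)
    (hU : ∀ g, ∀ u ∈ U, ρ g u ∈ U) (g : G) (u : U) : ((restr ρ U hU g u : U) : V) = ρ g u := rfl

/-- the subspace `U` is free for the group `H` -/
def FrOn {H : Type*} [Group H] (τ : H →* Module.End k V) (U : Submodule k V) : Prop :=
  ∃ W : Submodule k V, W ≤ U ∧ (⨆ h : H, W.map (τ h)) = U ∧ Nat.card H * finrank k W ≤ finrank k U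

theorem FrOn_restr {H : Type*} [Group H] (τ : H →* Module.End k V) (U : Submodule k V) (hU : ∀ g, ∀ u ∈ U, τ g u ∈ U)
    (h : FrOn (restr τ U hU) ⊤) : FrOn τ U := by
  obtain ⟨W, -, h1, h2⟩ := h
  refine ⟨W.map U.subtype, ?_, ?_, ?_⟩
  · rintro _ ⟨w, -, rfl⟩; exact w.2
  · have h3 := congrArg (Submodule.map U.subtype) h1
    rw [Submodule.map_iSup, Submodule.map_top, Submodule.range_subtype] at h3
    refine Eq.trans ?_ h3
    congr 1
    funext g
    rw [← Submodule.map_comp, ← Submodule.map_comp]
    congr 1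
  · rw [Submodule.finrank_map_subtype_eq]
    rwa [finrank_top] at h2

theorem FrOn_internal {H : Type*} [Group H] [Finite H] [DecidableEq H] [FiniteDimensional k V] (τ : H →* Module.End k V)
    (h : FrOn τ ⊤) : ∃ W : Submodule k V, DirectSum.IsInternal (fun h : H => W.map (τ h)) := by
  classical
  haveI := Fintype.ofFinite H
  obtain ⟨W, -, h1, h2⟩ := h
  refine ⟨W, ?_⟩
  rw [finrank_top] at h2
  have hsurj : Function.Surjective (DirectSum.coeLinearMap (fun h : H => W.map (τ h))) := by
    rw [← LinearMap.range_eq_top, DirectSum.range_coeLinearMap, h1]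
  have hfin : finrank k (DirectSum H (fun h : H => ↥(W.map (τ h)))) = finrank k V := by
    apply le_antisymm
    · rw [Module.finrank_directSum]
      refine le_trans (Finset.sum_le_sum (g := fun _ => finrank k W) fun h _ => Submodule.finrank_map_le _ _) ?_
      rw [Finset.sum_const, Finset.card_univ, smul_eq_mul, ← Nat.card_eq_fintype_card]
      exact h2
    · exact LinearMap.finrank_le_finrank_of_surjective hsurj
  exact ⟨(LinearMap.injective_iff_surjective_of_finrank_eq_finrank hfin).2 hsurj, hsurj⟩

theorem FrOn_sup {H : Type*} [Group H] [FiniteDimensional k V] (τ : H →* Module.End k V) {U₁ U₂ : Submodule k V}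
    (h1 : FrOn τ U₁) (h2 : FrOn τ U₂) (hc : U₁ ⊓ U₂ = ⊥) : FrOn τ (U₁ ⊔ U₂) := by
  obtain ⟨W₁, a1, b1, c1⟩ := h1
  obtain ⟨W₂, a2, b2, c2⟩ := h2
  refine ⟨W₁ ⊔ W₂, sup_le_sup a1 a2, ?_, ?_⟩
  · rw [← b1, ← b2, ← iSup_sup_eq]
    congr 1; funext g
    rw [Submodule.map_sup]
  · have h3 := Submodule.finrank_sup_add_finrank_inf_eq U₁ U₂
    rw [hc, finrank_bot, add_zero] at h3
    rw [h3]
    calc Nat.card H * finrank k ↥(W₁ ⊔ W₂) ≤ Nat.card H * (finrank k W₁ + finrank k W₂) :=
          Nat.mul_le_mul_left _ (Submodule.finrank_add_le_finrank_add_finrank _ _)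
      _ = Nat.card H * finrank k W₁ + Nat.card H * finrank k W₂ := mul_add _ _ _
      _ ≤ _ := add_le_add c1 c2

/-- dimension count for orthogonal idempotents -/
theorem sum_finrank [FiniteDimensional k V] (O : Finset (Module.End k V)) (hid : ∀ x ∈ O, x * x = x)
    (hor : ∀ x ∈ O, ∀ y ∈ O, x ≠ y → x * y = 0) :
    ∑ x ∈ O, finrank k (LinearMap.range x) + finrank k (LinearMap.range (1 - ∑ x ∈ O, x)) ≤ finrank k V := by
  classical
  set ε := ∑ x ∈ O, x with hε
  have hxε : ∀ x ∈ O, x * ε = x := by
    intro x hx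
    rw [hε, Finset.mul_sum, Finset.sum_eq_single x]
    · exact hid x hx
    · intro y hy hne; exact hor x hx y hy (Ne.symm hne)
    · intro h; exact absurd hx h
  let f : ((x : O) → LinearMap.range (x : Module.End k V)) × LinearMap.range (1 - ε) →ₗ[k] V :=
    (∑ x : O, (LinearMap.range (x : Module.End k V)).subtype ∘ₗ LinearMap.proj x ∘ₗ LinearMap.fst k _ _) +
      (LinearMap.range (1 - ε)).subtype ∘ₗ LinearMap.snd k _ _
  have hf : ∀ v w, f (v, w) = ∑ x : O, (v x : V) + (w : V) := by
    intro v w
    simp [f]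
  have hinj : Function.Injective f := by
    rw [← LinearMap.ker_eq_bot, LinearMap.ker_eq_bot']
    rintro ⟨v, w⟩ h
    rw [hf] at h
    have hv : ∀ y : O, (v y : V) = 0 := by
      intro y
      have h1 := congrArg (y : Module.End k V) h
      rw [map_add, map_sum, map_zero] at h1
      have h2 : (y : Module.End k V) (w : V) = 0 := by
        obtain ⟨w', hw'⟩ := w.2
        rw [← hw', ← Module.End.mul_apply, mul_sub, mul_one, hxε y y.2, sub_self, LinearMap.zero_apply]
      rw [h2, add_zero, Finset.sum_eq_single y] at h1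
      · obtain ⟨v', hv'⟩ := (v y).2
        rw [← hv', ← Module.End.mul_apply, hid y y.2] at h1
        rw [← hv', h1]
      · intro x _ hne
        obtain ⟨v', hv'⟩ := (v x).2
        rw [← hv', ← Module.End.mul_apply, hor y y.2 x x.2 (fun h => hne (Subtype.ext h.symm)), LinearMap.zero_apply]
      · intro h; exact absurd (Finset.mem_univ _) h
    have hw : (w : V) = 0 := by
      rw [Finset.sum_eq_zero (fun x _ => hv x), zero_add] at h
      exact h
    ext1
    · funext y; exact Subtype.ext (hv y)
    · exact Subtype.ext hw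
  have h1 := LinearMap.finrank_le_finrank_of_injective hinj
  rw [Module.finrank_prod, Module.finrank_pi_fintype] at h1
  rw [← Finset.sum_coe_sort O (fun x => finrank k (LinearMap.range x))]
  exact h1

end Basic

section Field

variable {k V : Type*} [Field k] [AddCommGroup V] [Module k V] [FiniteDimensional k V] {H : Type*} [Group H] [Finite H]

/-- the case of a field -/
theorem field_case (τ : H →* Module.End k V) (R : Subalgebra k (Module.End k V)) (hcomm : ∀ x ∈ R, ∀ y ∈ R, x * y = y * x)
    (hR : IsField R) (hconj : ∀ h : H, ∀ x ∈ R, τ h * x * τ h⁻¹ ∈ R)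
    (hfaith : ∀ h : H, (∀ x ∈ R, τ h * x * τ h⁻¹ = x) → h = 1) : FrOn τ ⊤ := by
  classical
  haveI := Fintype.ofFinite H
  have hinv : ∀ h : H, τ h⁻¹ * τ h = 1 := fun h => by rw [← map_mul, inv_mul_cancel, map_one]
  have hinv' : ∀ h : H, τ h * τ h⁻¹ = 1 := fun h => by rw [← map_mul, mul_inv_cancel, map_one]
  letI : Field R := hR.toField
  letI act : MulSemiringAction H R :=
    { smul := fun h x => ⟨τ h * x * τ h⁻¹, hconj h x x.2⟩
      one_smul := fun x => Subtype.ext (by
        show τ 1 * (x : Module.End k V) * τ 1⁻¹ = x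
        rw [inv_one, map_one, one_mul, mul_one])
      mul_smul := fun g h x => Subtype.ext (by
        show τ (g * h) * (x : Module.End k V) * τ (g * h)⁻¹ = τ g * (τ h * x * τ h⁻¹) * τ g⁻¹
        rw [mul_inv_rev, map_mul, map_mul]; noncomm_ring)
      smul_zero := fun h => Subtype.ext (by
        show τ h * (0 : Module.End k V) * τ h⁻¹ = 0
        rw [mul_zero, zero_mul])
      smul_add := fun h x y => Subtype.ext (by
        show τ h * ((x : Module.End k V) + y) * τ h⁻¹ = τ h * x * τ h⁻¹ + τ h * y * τ h⁻¹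
        noncomm_ring)
      smul_one := fun h => Subtype.ext (by
        show τ h * (1 : Module.End k V) * τ h⁻¹ = 1
        rw [mul_one, hinv'])
      smul_mul := fun h x y => Subtype.ext (by
        show τ h * ((x : Module.End k V) * y) * τ h⁻¹ = (τ h * x * τ h⁻¹) * (τ h * y * τ h⁻¹)
        have : (τ h * (x : Module.End k V) * τ h⁻¹) * (τ h * y * τ h⁻¹) = τ h * x * (τ h⁻¹ * τ h) * y * τ h⁻¹ := by noncomm_ring
        rw [this, hinv, mul_one]; noncomm_ring) }
  haveI : FaithfulSMul H R := ⟨by
    intro g g' h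
    have h1 : g⁻¹ * g' = 1 := by
      apply hfaith
      intro x hx
      have h2 : g • (⟨x, hx⟩ : R) = g' • (⟨x, hx⟩ : R) := h _
      have h3 : τ g * x * τ g⁻¹ = τ g' * x * τ g'⁻¹ := congrArg Subtype.val h2
      rw [mul_inv_rev, inv_inv, map_mul, map_mul]
      calc τ g⁻¹ * τ g' * x * (τ g'⁻¹ * τ g) = τ g⁻¹ * (τ g' * x * τ g'⁻¹) * τ g := by noncomm_ring
        _ = (τ g⁻¹ * τ g) * x * (τ g⁻¹ * τ g) := by rw [← h3]; noncomm_ring
        _ = x := by rw [hinv, one_mul, mul_one]
    exact (inv_mul_eq_one.1 h1)⟩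
  letI modR : Module R V :=
    { smul := fun x v => (x : Module.End k V) v
      one_smul := fun v => rfl
      mul_smul := fun x y v => rfl
      smul_zero := fun x => map_zero _
      smul_add := fun x v w => map_add _ _ _
      add_smul := fun x y v => rfl
      zero_smul := fun v => rfl }
  have hsm : ∀ (x : R) (v : V), x • v = (x : Module.End k V) v := fun x v => rfl
  have hact : ∀ (h : H) (x : R), ((h • x : R) : Module.End k V) = τ h * x * τ h⁻¹ := fun h x => rfl
  obtain ⟨θ, h1, h2⟩ := Cfsg.Agent.H10.FrF1.semi (E := R) (H := H) (V := V) (fun h v => τ h v)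
    (fun v => by rw [map_one]; rfl) (fun g h v => by rw [map_mul]; rfl) (fun g v w => map_add _ _ _) (fun g r v => by
      show τ g ((r : Module.End k V) v) = (τ g * r * τ g⁻¹) (τ g v)
      have : (τ g * (r : Module.End k V) * τ g⁻¹) (τ g v) = (τ g * r * (τ g⁻¹ * τ g)) v := by
        rw [Module.End.mul_apply, Module.End.mul_apply, Module.End.mul_apply, Module.End.mul_apply, Module.End.mul_apply]
      rw [this, hinv, mul_one, Module.End.mul_apply])
  let F : Submodule k V :=
    { carrier := {v | ∀ g, τ g v = v}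
      zero_mem' := fun g => map_zero _
      add_mem' := fun {a b} ha hb g => by rw [map_add, ha g, hb g]
      smul_mem' := fun c v hv g => by rw [map_smul, hv g] }
  have hF : ∀ v, v ∈ F ↔ ∀ g, τ g v = v := fun v => Iff.rfl
  have hτθ : ∀ (h : H) (u : V), (∀ g, τ g u = u) → (h • θ) • u = τ h ((θ : Module.End k V) u) := by
    intro h u hu
    rw [hsm, hact, Module.End.mul_apply, Module.End.mul_apply, hu]
  refine ⟨F.map (θ : Module.End k V), le_top, ?_, ?_⟩
  · rw [eq_top_iff]
    intro v _
    obtain ⟨u, hu, e⟩ := h1 v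
    rw [e]
    apply Submodule.sum_mem
    intro h _
    rw [hτθ h (u h) (hu h)]
    exact Submodule.mem_iSup_of_mem h ⟨_, ⟨u h, (hF _).2 (hu h), rfl⟩, rfl⟩
  · let f : (H → F) →ₗ[k] V := ∑ h : H, (τ h * (θ : Module.End k V)) ∘ₗ F.subtype ∘ₗ LinearMap.proj h
    have hf : ∀ u, f u = ∑ h : H, (h • θ) • (u h : V) := by
      intro u
      simp only [f, LinearMap.sum_apply]
      refine Finset.sum_congr rfl fun h _ => ?_
      rw [hτθ h (u h) (u h).2]
      rfl
    have hinj : Function.Injective f := by
      rw [← LinearMap.ker_eq_bot, LinearMap.ker_eq_bot']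
      intro u hu
      rw [hf] at hu
      funext h
      exact Subtype.ext (h2 (fun h => (u h : V)) (fun h => (u h).2) hu h)
    have h3 := LinearMap.finrank_le_finrank_of_injective hinj
    rw [Module.finrank_pi_fintype, Finset.sum_const, Finset.card_univ, smul_eq_mul, ← Nat.card_eq_fintype_card] at h3
    rw [finrank_top]
    exact (Nat.mul_le_mul_left _ (Submodule.finrank_map_le _ _)).trans h3

end Field

end Cfsg.Agent.H10.FrF2
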