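import Mathlib
import Cfsg.Agent.H10_FrF2

/-!
H10_FrF3: freeness: the case where the kernel acts as an abelian group (general).
-/

set_option autoImplicit false
set_option linter.style.haveILetI false
set_option linter.unusedSectionVars false

namespace Cfsg.Agent.H10.FrF3

open Module Cfsg.Agent.H10.FrF2

universe w v

variable {k : Type*} [Field k] {Q : Type*} [Group Q] [Finite Q]

theorem comm_case (hQ : (Nat.card Q : k) ≠ 0) : ∀ (n : ℕ) (H : Type w) [Group H] [Finite H] (φ : H →* MulAut Q)
    (V : Type v) [AddCommGroup V] [Module k V] [FiniteDimensional k V] (σ : Q →* Module.End k V) (τ : H →* Module.End k V),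
    finrank k V = n → (∀ h q, τ h * σ q = σ (φ h q) * τ h) → (∀ h, h ≠ 1 → ∀ q, φ h q = q → q = 1) →
    (∀ q r, σ q * σ r = σ r * σ q) → (∀ v, (∀ q, σ q v = v) → v = 0) → FrOn τ ⊤ := by
  intro n
  induction n using Nat.strong_induction_on with
  | _ n ih =>
  intro H _ _ φ V _ _ _ σ τ hn hc hf hcm hfix
  classical
  haveI := Fintype.ofFinite H
  haveI := Fintype.ofFinite Q
  by_cases hV : Subsingleton V
  · refine ⟨⊥, bot_le, Subsingleton.elim _ _, ?_⟩
    rw [finrank_bot, mul_zero]
    exact Nat.zero_le _
  haveI : Nontrivial V := not_subsingleton_iff_nontrivial.1 hV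
  have hinv : ∀ h : H, τ h⁻¹ * τ h = 1 := fun h => by rw [← map_mul, inv_mul_cancel, map_one]
  have hinv' : ∀ h : H, τ h * τ h⁻¹ = 1 := fun h => by rw [← map_mul, mul_inv_cancel, map_one]
  haveI : NeZero (Nat.card Q : k) := ⟨hQ⟩
  let α := MonoidAlgebra.lift k (Module.End k V) Q σ
  obtain ⟨R, hRdef⟩ : ∃ R : Subalgebra k (Module.End k V), R = α.range := ⟨_, rfl⟩
  have hσR : ∀ q, σ q ∈ R := by
    intro q
    rw [hRdef]
    exact ⟨MonoidAlgebra.of k Q q, by simp [α]⟩
  have hform : ∀ x ∈ R, ∃ a : Q → k, x = ∑ q, a q • σ q := by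
    intro x hx
    rw [hRdef] at hx
    obtain ⟨f, rfl⟩ := hx
    refine ⟨fun q => f.coeff q, ?_⟩
    show (MonoidAlgebra.lift k (Module.End k V) Q σ) f = _
    rw [MonoidAlgebra.lift_apply, Finsupp.sum_fintype]
    intro q
    rw [zero_smul]
  have hRcomm : ∀ x ∈ R, ∀ y ∈ R, x * y = y * x := by
    intro x hx y hy
    obtain ⟨a, rfl⟩ := hform x hx
    obtain ⟨b, rfl⟩ := hform y hy
    rw [Finset.sum_mul_sum, Finset.sum_mul_sum, Finset.sum_comm]
    refine Finset.sum_congr rfl fun q _ => Finset.sum_congr rfl fun r _ => ?_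
    rw [smul_mul_smul_comm, smul_mul_smul_comm, hcm, mul_comm]
  have hcσ : ∀ h q, τ h * σ q * τ h⁻¹ = σ (φ h q) := by
    intro h q
    rw [hc, mul_assoc, hinv', mul_one]
  have hconj : ∀ h : H, ∀ x ∈ R, τ h * x * τ h⁻¹ ∈ R := by
    intro h x hx
    obtain ⟨a, rfl⟩ := hform x hx
    rw [Finset.mul_sum, Finset.sum_mul]
    apply Subalgebra.sum_mem
    intro q _
    rw [mul_smul_comm, smul_mul_assoc, hcσ]
    exact R.smul_mem (hσR _) _
  haveI hss : IsSemisimpleRing R := by
    subst hRdef
    exact RingHom.isSemisimpleRing_of_surjective (α.rangeRestrict : MonoidAlgebra k Q →+* α.range) α.rangeRestrict_surjective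
  by_cases hid : ∃ e ∈ R, e * e = e ∧ e ≠ 0 ∧ e ≠ 1
  swap
  · -- field case
    push Not at hid
    have hRf : IsField R := by
      refine ⟨⟨0, 1, fun h => ?_⟩, fun x y => Subtype.ext (hRcomm x x.2 y y.2), ?_⟩
      · have h1 : (0 : Module.End k V) = 1 := congrArg Subtype.val h
        exact zero_ne_one h1
      · intro a ha
        obtain ⟨e, he, hspan⟩ := IsSemisimpleRing.ideal_eq_span_idempotent (Ideal.span {a})
        have hee : (e : Module.End k V) * e = e := congrArg Subtype.val he.eq
        by_cases he0 : (e : Module.End k V) = 0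
        · exfalso
          apply ha
          have h1 : a ∈ Ideal.span {e} := by rw [← hspan]; exact Ideal.subset_span rfl
          rw [Ideal.mem_span_singleton'] at h1
          obtain ⟨b, hb⟩ := h1
          apply Subtype.ext
          rw [← hb]
          show (b : Module.End k V) * e = 0
          rw [he0, mul_zero]
        · have he1 : (e : Module.End k V) = 1 := hid e e.2 hee he0
          have h1 : (1 : R) ∈ Ideal.span {a} := by
            rw [hspan, Ideal.mem_span_singleton']
            refine ⟨1, Subtype.ext ?_⟩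
            show (1 : Module.End k V) * e = 1
            rw [he1, mul_one]
          rw [Ideal.mem_span_singleton'] at h1
          obtain ⟨b, hb⟩ := h1
          refine ⟨b, ?_⟩
          rw [← hb]
          exact Subtype.ext (hRcomm a a.2 b b.2)
    refine field_case τ R hRcomm hRf hconj ?_
    intro h hh
    by_contra hne
    have hbij : Function.Surjective (fun q : Q => q⁻¹ * φ h q) := by
      apply Finite.surjective_of_injective
      intro q r hqr
      have hqr' : q⁻¹ * φ h q = r⁻¹ * φ h r := hqr
      have h1 : φ h (q * r⁻¹) = q * r⁻¹ := by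
        rw [map_mul, map_inv]
        calc φ h q * (φ h r)⁻¹ = q * (q⁻¹ * φ h q) * (φ h r)⁻¹ := by group
          _ = q * (r⁻¹ * φ h r) * (φ h r)⁻¹ := by rw [hqr']
          _ = q * r⁻¹ := by group
      exact mul_inv_eq_one.1 (hf h hne _ h1)
    have h1 : ∀ r, σ r = 1 := by
      intro r
      obtain ⟨q, hq⟩ := hbij r
      rw [← hq]
      show σ (q⁻¹ * φ h q) = 1
      rw [map_mul, ← hcσ, hh _ (hσR q), ← map_mul, inv_mul_cancel, map_one]
    obtain ⟨v, hv⟩ := exists_ne (0 : V)
    exact hv (hfix v fun q => by rw [h1]; rfl)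
  · -- the case of idempotents
    have hex : ∃ m, ∃ e ∈ R, e * e = e ∧ e ≠ 0 ∧ e ≠ 1 ∧ finrank k (LinearMap.range e) = m := by
      obtain ⟨e, h1, h2, h3, h4⟩ := hid
      exact ⟨_, e, h1, h2, h3, h4, rfl⟩
    obtain ⟨e, heR, hee, he0, he1, hem⟩ := Nat.find_spec hex
    set m := Nat.find hex with hm
    have hmin : ∀ z ∈ R, z * z = z → z ≠ 0 → z ≠ 1 → m ≤ finrank k (LinearMap.range z) :=
      fun z h1 h2 h3 h4 => Nat.find_min' hex ⟨z, h1, h2, h3, h4, rfl⟩
    letI act : MulAction H (Module.End k V) :=
      { smul := fun h x => τ h * x * τ h⁻¹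
        one_smul := fun x => by
          show τ 1 * x * τ 1⁻¹ = x
          rw [inv_one, map_one, one_mul, mul_one]
        mul_smul := fun g h x => by
          show τ (g * h) * x * τ (g * h)⁻¹ = τ g * (τ h * x * τ h⁻¹) * τ g⁻¹
          rw [mul_inv_rev, map_mul, map_mul]; noncomm_ring }
    have hsm : ∀ (h : H) (x : Module.End k V), h • x = τ h * x * τ h⁻¹ := fun h x => rfl
    have hsmul : ∀ (h : H) (x y : Module.End k V), h • (x * y) = (h • x) * (h • y) := by
      intro h x y
      rw [hsm, hsm, hsm]
      have : (τ h * x * τ h⁻¹) * (τ h * y * τ h⁻¹) = τ h * x * (τ h⁻¹ * τ h) * y * τ h⁻¹ := by noncomm_ring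
      rw [this, hinv, mul_one]; noncomm_ring
    let O : Finset (Module.End k V) := Finset.univ.image (fun h : H => h • e)
    have hO : ∀ x, x ∈ O ↔ ∃ h : H, h • e = x := by
      intro x
      simp [O]
    have hinj : ∀ h : H, Function.Injective (τ h) := by
      intro h a b hab
      have := congrArg (τ h⁻¹) hab
      rw [← Module.End.mul_apply, ← Module.End.mul_apply, hinv] at this
      exact this
    have hrange : ∀ h : H, LinearMap.range (h • e) = (LinearMap.range e).map (τ h) := by
      intro h
      ext v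
      constructor
      · rintro ⟨u, rfl⟩
        exact ⟨e (τ h⁻¹ u), ⟨_, rfl⟩, rfl⟩
      · rintro ⟨_, ⟨u, rfl⟩, rfl⟩
        refine ⟨τ h u, ?_⟩
        rw [hsm, Module.End.mul_apply, Module.End.mul_apply, ← Module.End.mul_apply (τ h⁻¹), hinv]
        rfl
    have hOR : ∀ x ∈ O, x ∈ R := by
      intro x hx
      obtain ⟨h, rfl⟩ := (hO x).1 hx
      exact hconj h e heR
    have hOid : ∀ x ∈ O, x * x = x := by
      intro x hx
      obtain ⟨h, rfl⟩ := (hO x).1 hx
      rw [← hsmul, hee]
    have hOfin : ∀ x ∈ O, finrank k (LinearMap.range x) = m := by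
      intro x hx
      obtain ⟨h, rfl⟩ := (hO x).1 hx
      rw [hrange, ← hem]
      exact (LinearEquiv.finrank_eq (Submodule.equivMapOfInjective (τ h) (hinj h) _)).symm
    have hO1 : ∀ x ∈ O, x ≠ 1 := by
      intro x hx h1
      obtain ⟨h, rfl⟩ := (hO x).1 hx
      apply he1
      rw [← inv_smul_smul h e, h1, hsm, mul_one, hinv']
    have hOor : ∀ x ∈ O, ∀ y ∈ O, x ≠ y → x * y = 0 := by
      intro x hx y hy hne
      by_contra hxy
      have hcxy := hRcomm x (hOR x hx) y (hOR y hy)
      have hzz : (x * y) * (x * y) = x * y := by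
        calc (x * y) * (x * y) = x * (y * x) * y := by noncomm_ring
          _ = (x * x) * (y * y) := by rw [← hcxy]; noncomm_ring
          _ = x * y := by rw [hOid x hx, hOid y hy]
      have hz1 : x * y ≠ 1 := by
        intro h
        apply hO1 x hx
        calc x = x * (x * y) := by rw [h, mul_one]
          _ = (x * x) * y := by noncomm_ring
          _ = 1 := by rw [hOid x hx, h]
      have hmz := hmin _ (R.mul_mem (hOR x hx) (hOR y hy)) hzz hxy hz1
      have hle1 : LinearMap.range (x * y) ≤ LinearMap.range x := by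
        rintro _ ⟨u, rfl⟩; exact ⟨y u, rfl⟩
      have hle2 : LinearMap.range (x * y) ≤ LinearMap.range y := by
        rw [hcxy]
        rintro _ ⟨u, rfl⟩; exact ⟨x u, rfl⟩
      have e1 := Submodule.eq_of_le_of_finrank_le hle1 (by rw [hOfin x hx]; exact hmz)
      have e2 := Submodule.eq_of_le_of_finrank_le hle2 (by rw [hOfin y hy]; exact hmz)
      have e3 : LinearMap.range x = LinearMap.range y := e1.symm.trans e2
      have key : ∀ a b : Module.End k V, a * a = a → LinearMap.range b ≤ LinearMap.range a → a * b = b := by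
        intro a b ha hab
        ext v
        obtain ⟨u, hu⟩ := hab ⟨v, rfl⟩
        rw [Module.End.mul_apply, ← hu, ← Module.End.mul_apply, ha]
      have f1 := key x y (hOid x hx) e3.ge
      have f2 := key y x (hOid y hy) e3.le
      exact hne (by rw [← f1, hcxy, f2])
    have hsum := sum_finrank O hOid hOor
    set ε := ∑ x ∈ O, x with hε
    have hεR : ε ∈ R := Subalgebra.sum_mem _ hOR
    have hcε : ∀ h : H, τ h * ε * τ h⁻¹ = ε := by
      intro h
      rw [hε, Finset.mul_sum, Finset.sum_mul]
      refine Finset.sum_nbij' (fun x => h • x) (fun x => h⁻¹ • x) ?_ ?_ ?_ ?_ ?_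
      · intro x hx
        obtain ⟨g, rfl⟩ := (hO x).1 hx
        exact (hO _).2 ⟨h * g, by rw [mul_smul]⟩
      · intro x hx
        obtain ⟨g, rfl⟩ := (hO x).1 hx
        exact (hO _).2 ⟨h⁻¹ * g, by rw [mul_smul]⟩
      · intro x _; exact inv_smul_smul h x
      · intro x _; exact smul_inv_smul h x
      · intro x _; rfl
    have hτε : ∀ h : H, τ h * ε = ε * τ h := by
      intro h
      conv_rhs => rw [← hcε h]
      rw [mul_assoc, hinv, mul_one]
    have heO : e ∈ O := (hO e).2 ⟨1, one_smul _ _⟩
    have hrpos : 0 < finrank k (LinearMap.range e) := by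
      rw [Nat.pos_iff_ne_zero]
      intro h
      rw [Submodule.finrank_eq_zero, LinearMap.range_eq_bot] at h
      exact he0 h
    have hlt0 : finrank k (LinearMap.range (1 - ε)) < n := by
      have h1 : finrank k (LinearMap.range e) ≤ ∑ x ∈ O, finrank k (LinearMap.range x) :=
        Finset.single_le_sum (f := fun x => finrank k (LinearMap.range x)) (fun _ _ => Nat.zero_le _) heO
      omega
    have hlt1 : finrank k (LinearMap.range e) < n := by
      rw [← hn]
      apply Submodule.finrank_lt
      intro h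
      apply he1
      ext v
      obtain ⟨u, hu⟩ : v ∈ LinearMap.range e := by rw [h]; trivial
      rw [← hu, ← Module.End.mul_apply, hee]
      rfl
    -- the complement
    have hU0σ : ∀ q, ∀ u ∈ LinearMap.range (1 - ε), σ q u ∈ LinearMap.range (1 - ε) := by
      rintro q _ ⟨u, rfl⟩
      refine ⟨σ q u, ?_⟩
      rw [← Module.End.mul_apply, ← Module.End.mul_apply, sub_mul, mul_sub, one_mul, mul_one, hRcomm _ hεR _ (hσR q)]
    have hU0τ : ∀ h, ∀ u ∈ LinearMap.range (1 - ε), τ h u ∈ LinearMap.range (1 - ε) := by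
      rintro h _ ⟨u, rfl⟩
      refine ⟨τ h u, ?_⟩
      rw [← Module.End.mul_apply, ← Module.End.mul_apply, sub_mul, mul_sub, one_mul, mul_one, hτε]
    have hF0 : FrOn τ (LinearMap.range (1 - ε)) := by
      apply FrOn_restr τ _ hU0τ
      refine ih _ hlt0 H φ _ (restr σ _ hU0σ) (restr τ _ hU0τ) rfl ?_ hf ?_ ?_
      · intro h q
        ext u
        exact LinearMap.congr_fun (hc h q) u
      · intro q r
        ext u
        exact LinearMap.congr_fun (hcm q r) u
      · intro v hv
        apply Subtype.ext
        apply hfix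
        intro q
        exact congrArg Subtype.val (hv q)
    -- the component of e
    let He : Subgroup H := MulAction.stabilizer H e
    have hUeσ : ∀ q, ∀ u ∈ LinearMap.range e, σ q u ∈ LinearMap.range e := by
      rintro q _ ⟨u, rfl⟩
      refine ⟨σ q u, ?_⟩
      rw [← Module.End.mul_apply, ← Module.End.mul_apply, hRcomm _ heR _ (hσR q)]
    have hUeτ : ∀ h : He, ∀ u ∈ LinearMap.range e, (τ.comp He.subtype) h u ∈ LinearMap.range e := by
      rintro h _ ⟨u, rfl⟩
      refine ⟨τ h u, ?_⟩
      have h1 : (h : H) • e = e := h.2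
      rw [hsm] at h1
      show e (τ h u) = τ h (e u)
      rw [← Module.End.mul_apply, ← Module.End.mul_apply]
      conv_lhs => rw [← h1]
      rw [mul_assoc, hinv, mul_one]
    have hF1 : FrOn (τ.comp He.subtype) (LinearMap.range e) := by
      apply FrOn_restr _ _ hUeτ
      refine ih _ hlt1 He (φ.comp He.subtype) _ (restr σ _ hUeσ) (restr (τ.comp He.subtype) _ hUeτ) rfl ?_ ?_ ?_ ?_
      · intro h q
        ext u
        exact LinearMap.congr_fun (hc h q) u
      · intro h hh q hq
        exact hf h (fun h1 => hh (Subtype.ext h1)) q hq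
      · intro q r
        ext u
        exact LinearMap.congr_fun (hcm q r) u
      · intro v hv
        apply Subtype.ext
        apply hfix
        intro q
        exact congrArg Subtype.val (hv q)
    obtain ⟨W₀, -, hs0, hd0⟩ := hF0
    obtain ⟨W₁, -, hs1, hd1⟩ := hF1
    have hcardO : O.card * Nat.card He = Nat.card H := by
      haveI : Fintype (MulAction.orbit H e) := (Set.finite_range (fun h : H => h • e)).fintype
      haveI : Fintype (MulAction.stabilizer H e) := Fintype.ofFinite _
      have h1 := MulAction.card_orbit_mul_card_stabilizer_eq_card_group H e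
      rw [← Nat.card_eq_fintype_card, ← Nat.card_eq_fintype_card, ← Nat.card_eq_fintype_card] at h1
      have h2 : Nat.card (MulAction.orbit H e) = O.card := by
        have h3 : MulAction.orbit H e = (↑O : Set (Module.End k V)) := by
          ext x
          rw [Finset.mem_coe, hO]
          rfl
        rw [h3, Nat.card_coe_set_eq, Set.ncard_coe_finset]
      rw [← h2]; exact h1
    refine ⟨W₀ ⊔ W₁, le_top, ?_, ?_⟩
    · rw [eq_top_iff]
      intro v _
      have hv : v = (1 - ε) v + ∑ x ∈ O, x v := by
        have : (∑ x ∈ O, x v) = ε v := by rw [hε, LinearMap.sum_apply]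
        rw [this, LinearMap.sub_apply]
        simp
      rw [hv]
      apply Submodule.add_mem
      · have h1 : (1 - ε) v ∈ ⨆ h : H, W₀.map (τ h) := by rw [hs0]; exact ⟨v, rfl⟩
        exact (iSup_mono fun h => Submodule.map_mono le_sup_left) h1
      · apply Submodule.sum_mem
        intro x hx
        obtain ⟨h, rfl⟩ := (hO x).1 hx
        have h1 : e (τ h⁻¹ v) ∈ ⨆ h : He, W₁.map ((τ.comp He.subtype) h) := by rw [hs1]; exact ⟨_, rfl⟩
        have h2 : (h • e) v ∈ (⨆ h : He, W₁.map ((τ.comp He.subtype) h)).map (τ h) := ⟨_, h1, rfl⟩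
        rw [Submodule.map_iSup] at h2
        have hle : (⨆ h' : He, ((W₁.map ((τ.comp He.subtype) h')).map (τ h))) ≤ ⨆ g : H, (W₀ ⊔ W₁).map (τ g) := by
          refine iSup_le fun h' => ?_
          rw [← Submodule.map_comp]
          have h3 : (τ h) ∘ₗ ((τ.comp He.subtype) h') = τ (h * h') := by
            rw [map_mul]; rfl
          rw [h3]
          exact (Submodule.map_mono le_sup_right).trans (le_iSup (fun g : H => (W₀ ⊔ W₁).map (τ g)) (h * h'))
        exact hle h2
    · rw [finrank_top]
      calc Nat.card H * finrank k ↥(W₀ ⊔ W₁) ≤ Nat.card H * (finrank k W₀ + finrank k W₁) :=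
            Nat.mul_le_mul_left _ (Submodule.finrank_add_le_finrank_add_finrank _ _)
        _ = O.card * (Nat.card He * finrank k W₁) + Nat.card H * finrank k W₀ := by
            rw [← mul_assoc, hcardO]; ring
        _ ≤ O.card * finrank k (LinearMap.range e) + finrank k (LinearMap.range (1 - ε)) :=
            add_le_add (Nat.mul_le_mul_left _ hd1) hd0
        _ = ∑ x ∈ O, finrank k (LinearMap.range x) + finrank k (LinearMap.range (1 - ε)) := by
            congr 1
            rw [Finset.sum_congr rfl (fun x hx => hOfin x hx), Finset.sum_const, smul_eq_mul, hem]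
        _ ≤ finrank k V := hsum

end Cfsg.Agent.H10.FrF3
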