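import Mathlib
import Cfsg.Agent.H10_FrF3
import Cfsg.Agent.H10_FixVec
import Cfsg.Agent.H1_Nilp
import Cfsg.Agent.H3_NilpSplit

/-!
H10_FrF4: freeness for the complement of a Frobenius group with nilpotent kernel, any field.
-/

set_option autoImplicit false
set_option linter.style.haveILetI false
set_option linter.unusedSectionVars false

namespace Cfsg.Agent.H10.FrF4

open Module Cfsg.Agent.H10.FrF2 Cfsg.Agent.H10.FrF3

universe w v

variable {k : Type*} [Field k] {Q : Type*} [Group Q] [Finite Q]

theorem nilp_case (hQ : (Nat.card Q : k) ≠ 0) (hnil : Group.IsNilpotent Q) (H : Type w) [Group H] [Finite H] (φ : H →* MulAut Q)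
    (hf : ∀ h, h ≠ 1 → ∀ q, φ h q = q → q = 1) : ∀ (n : ℕ)
    (V : Type v) [AddCommGroup V] [Module k V] [FiniteDimensional k V] (σ : Q →* Module.End k V) (τ : H →* Module.End k V),
    finrank k V = n → (∀ h q, τ h * σ q = σ (φ h q) * τ h) →
    (∀ v, (∀ q, σ q v = v) → v = 0) → FrOn τ ⊤ := by
  intro n
  induction n using Nat.strong_induction_on with
  | _ n ih =>
  intro V _ _ _ σ τ hn hc hfix
  classical
  haveI := Fintype.ofFinite H
  haveI := Fintype.ofFinite Q
  by_cases hV : Subsingleton V
  · refine ⟨⊥, bot_le, Subsingleton.elim _ _, ?_⟩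
    rw [finrank_bot, mul_zero]
    exact Nat.zero_le _
  haveI : Nontrivial V := not_subsingleton_iff_nontrivial.1 hV
  have hinv' : ∀ h : H, τ h * τ h⁻¹ = 1 := fun h => by rw [← map_mul, mul_inv_cancel, map_one]
  have hcσ : ∀ h q, τ h * σ q * τ h⁻¹ = σ (φ h q) := by
    intro h q
    rw [hc, mul_assoc, hinv', mul_one]
  -- the subgroup acting centrally
  let Z : Subgroup Q :=
    { carrier := {q | ∀ r, σ q * σ r = σ r * σ q}
      one_mem' := fun r => by rw [map_one, one_mul, mul_one]
      mul_mem' := fun {a b} ha hb r => by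
        rw [map_mul, mul_assoc, hb r, ← mul_assoc, ha r, mul_assoc]
      inv_mem' := fun {a} ha r => by
        have h1 := ha r
        have h2 : σ a⁻¹ * σ a = 1 := by rw [← map_mul, inv_mul_cancel, map_one]
        have h3 : σ a * σ a⁻¹ = 1 := by rw [← map_mul, mul_inv_cancel, map_one]
        calc σ a⁻¹ * σ r = σ a⁻¹ * (σ r * σ a) * σ a⁻¹ := by
              rw [mul_assoc, mul_assoc, h3, mul_one]
          _ = (σ a⁻¹ * σ a) * (σ r * σ a⁻¹) := by rw [← h1]; simp only [mul_assoc]
          _ = σ r * σ a⁻¹ := by rw [h2, one_mul] }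
  have hZ : ∀ q, q ∈ Z ↔ ∀ r, σ q * σ r = σ r * σ q := fun q => Iff.rfl
  have hZφ : ∀ h : H, ∀ q ∈ Z, φ h q ∈ Z := by
    intro h q hq r
    have h1 := congrArg (fun x => τ h * x * τ h⁻¹) (hq ((φ h)⁻¹ r))
    have h2 : ∀ a b, τ h * (σ a * σ b) * τ h⁻¹ = σ (φ h a) * σ (φ h b) := by
      intro a b
      rw [← map_mul, hcσ, map_mul, map_mul]
    simp only [h2] at h1
    rwa [MulAut.apply_inv_self] at h1
  -- it acts nontrivially
  obtain ⟨z₀, hz₀, hz₀1⟩ : ∃ z ∈ Z, σ z ≠ 1 := by
    let N : Subgroup Q := σ.ker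
    haveI : Group.IsNilpotent (Q ⧸ N) := inferInstance
    have hNtop : N ≠ ⊤ := by
      intro h
      obtain ⟨v, hv⟩ := exists_ne (0 : V)
      apply hv
      apply hfix
      intro q
      have : q ∈ N := by rw [h]; trivial
      rw [MonoidHom.mem_ker.1 this]; rfl
    haveI : Nontrivial (Q ⧸ N) := QuotientGroup.nontrivial_iff.2 hNtop
    have h1 := Cfsg.Agent.H1.Nilp.normal_inf_center_ne_bot (⊤ : Subgroup (Q ⧸ N)) (bot_ne_top).symm
    rw [top_inf_eq, Subgroup.ne_bot_iff_exists_ne_one] at h1
    obtain ⟨⟨x, hx⟩, hx1⟩ := h1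
    obtain ⟨z, rfl⟩ := QuotientGroup.mk_surjective x
    refine ⟨z, ?_, ?_⟩
    · intro r
      have h2 := Subgroup.mem_center_iff.1 hx (r : Q ⧸ N)
      have h3 : ((r * z : Q) : Q ⧸ N) = ((z * r : Q) : Q ⧸ N) := h2
      rw [QuotientGroup.eq] at h3
      have h4 := MonoidHom.mem_ker.1 h3
      rw [← map_mul, ← map_mul]
      calc σ (z * r) = σ (r * z) * σ ((r * z)⁻¹ * (z * r)) := by rw [← map_mul]; congr 1; group
        _ = σ (r * z) := by rw [h4, mul_one]
    · intro h
      apply hx1
      apply Subtype.ext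
      exact (QuotientGroup.eq_one_iff _).2 (MonoidHom.mem_ker.2 h)
  have hZ0 : (Nat.card Z : k) ≠ 0 := by
    intro h
    apply hQ
    obtain ⟨s, hs⟩ := Subgroup.card_subgroup_dvd_card Z
    rw [hs, Nat.cast_mul, h, zero_mul]
  -- the averaging idempotent
  set e : Module.End k V := (Nat.card Z : k)⁻¹ • ∑ z : Z, σ z with he
  have hze : ∀ z ∈ Z, σ z * e = e := by
    intro z hz
    rw [he, mul_smul_comm, Finset.mul_sum]
    congr 1
    refine Fintype.sum_equiv (Equiv.mulLeft (⟨z, hz⟩ : Z)) _ _ fun y => ?_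
    rw [← map_mul]; rfl
  have heu : ∀ u : V, (∀ z ∈ Z, σ z u = u) → e u = u := by
    intro u hu
    rw [he, LinearMap.smul_apply, LinearMap.sum_apply, Finset.sum_congr rfl (fun (z : Z) _ => hu z z.2), Finset.sum_const,
      Finset.card_univ, ← Nat.card_eq_fintype_card, ← Nat.cast_smul_eq_nsmul k, smul_smul, inv_mul_cancel₀ hZ0, one_smul]
  have hee : e * e = e := by
    ext u
    rw [Module.End.mul_apply]
    apply heu
    intro z hz
    rw [← Module.End.mul_apply, hze z hz]
  have heσ : ∀ q, σ q * e = e * σ q := by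
    intro q
    rw [he, mul_smul_comm, smul_mul_assoc, Finset.mul_sum, Finset.sum_mul]
    congr 1
    refine Finset.sum_congr rfl fun (z : Z) _ => ((hZ z).1 z.2 q).symm
  let φZ : H → Z → Z := fun h z => ⟨φ h z, hZφ h z z.2⟩
  have heτ : ∀ h, τ h * e = e * τ h := by
    intro h
    rw [he, mul_smul_comm, smul_mul_assoc, Finset.mul_sum, Finset.sum_mul]
    congr 1
    have hbij : Function.Bijective (φZ h) := by
      apply Finite.injective_iff_bijective.1
      intro a b hab
      exact Subtype.ext ((φ h).injective (congrArg Subtype.val hab))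
    refine Fintype.sum_bijective (φZ h) hbij _ _ fun z => ?_
    exact hc h z
  have he1 : e ≠ 1 := by
    intro h
    apply hz₀1
    have := hze z₀ hz₀
    rwa [h, mul_one] at this
  -- invariance
  have hU0σ : ∀ q, ∀ u ∈ LinearMap.range (1 - e), σ q u ∈ LinearMap.range (1 - e) := by
    rintro q _ ⟨u, rfl⟩
    refine ⟨σ q u, ?_⟩
    rw [← Module.End.mul_apply, ← Module.End.mul_apply, sub_mul, mul_sub, one_mul, mul_one, heσ]
  have hU0τ : ∀ h, ∀ u ∈ LinearMap.range (1 - e), τ h u ∈ LinearMap.range (1 - e) := by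
    rintro h _ ⟨u, rfl⟩
    refine ⟨τ h u, ?_⟩
    rw [← Module.End.mul_apply, ← Module.End.mul_apply, sub_mul, mul_sub, one_mul, mul_one, heτ]
  have hU1σ : ∀ q, ∀ u ∈ LinearMap.range e, σ q u ∈ LinearMap.range e := by
    rintro q _ ⟨u, rfl⟩
    refine ⟨σ q u, ?_⟩
    rw [← Module.End.mul_apply, ← Module.End.mul_apply, heσ]
  have hU1τ : ∀ h, ∀ u ∈ LinearMap.range e, τ h u ∈ LinearMap.range e := by
    rintro h _ ⟨u, rfl⟩
    refine ⟨τ h u, ?_⟩
    rw [← Module.End.mul_apply, ← Module.End.mul_apply, heτ]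
  have hF0 : FrOn τ (LinearMap.range (1 - e)) := by
    apply FrOn_restr τ _ hU0τ
    let ψ : H →* MulAut Z :=
      { toFun := fun h =>
          { toFun := fun z => ⟨φ h z, hZφ h z z.2⟩
            invFun := fun z => ⟨φ h⁻¹ z, hZφ h⁻¹ z z.2⟩
            left_inv := fun z => Subtype.ext (by
              show φ h⁻¹ (φ h z) = z
              rw [← MulAut.mul_apply, ← map_mul, inv_mul_cancel, map_one]; rfl)
            right_inv := fun z => Subtype.ext (by
              show φ h (φ h⁻¹ z) = z
              rw [← MulAut.mul_apply, ← map_mul, mul_inv_cancel, map_one]; rfl)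
            map_mul' := fun a b => Subtype.ext (by
              show φ h ((a : Q) * b) = φ h a * φ h b
              rw [map_mul]) }
        map_one' := by
          ext z
          show φ 1 z = z
          rw [map_one]; rfl
        map_mul' := fun a b => by
          ext z
          show φ (a * b) z = φ a (φ b z)
          rw [map_mul]; rfl }
    refine comm_case (Q := Z) hZ0 _ H ψ _ ((restr σ _ hU0σ).comp Z.subtype) (restr τ _ hU0τ) rfl ?_ ?_ ?_ ?_
    · intro h z
      ext u
      exact LinearMap.congr_fun (hc h z) u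
    · intro h hh z hz
      exact Subtype.ext (hf h hh z (congrArg Subtype.val hz))
    · intro z r
      ext u
      exact LinearMap.congr_fun ((hZ z).1 z.2 r) u
    · rintro ⟨_, ⟨v, rfl⟩⟩ hv
      apply Subtype.ext
      show (1 - e) v = 0
      have h1 := heu ((1 - e) v) (fun z hz => congrArg Subtype.val (hv ⟨z, hz⟩))
      rw [← Module.End.mul_apply, mul_sub, mul_one, hee, sub_self] at h1
      exact h1.symm
  have hF1 : FrOn τ (LinearMap.range e) := by
    apply FrOn_restr τ _ hU1τ
    refine ih _ ?_ _ (restr σ _ hU1σ) (restr τ _ hU1τ) rfl ?_ ?_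
    · rw [← hn]
      apply Submodule.finrank_lt
      intro h
      apply he1
      ext v
      obtain ⟨u, hu⟩ : v ∈ LinearMap.range e := by rw [h]; trivial
      rw [← hu, ← Module.End.mul_apply, hee]
      rfl
    · intro h q
      ext u
      exact LinearMap.congr_fun (hc h q) u
    · intro v hv
      apply Subtype.ext
      apply hfix
      intro q
      exact congrArg Subtype.val (hv q)
  have hsup : LinearMap.range e ⊔ LinearMap.range (1 - e) = ⊤ := by
    rw [eq_top_iff]
    intro v _
    have : v = e v + (1 - e) v := by rw [LinearMap.sub_apply]; simp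
    rw [this]
    exact Submodule.add_mem_sup ⟨v, rfl⟩ ⟨v, rfl⟩
  have hinf : LinearMap.range e ⊓ LinearMap.range (1 - e) = ⊥ := by
    rw [eq_bot_iff]
    rintro _ ⟨⟨u, rfl⟩, ⟨v, hv⟩⟩
    rw [Submodule.mem_bot]
    have h1 := congrArg e hv
    rw [← Module.End.mul_apply, ← Module.End.mul_apply, mul_sub, mul_one, hee, sub_self] at h1
    exact h1.symm
  rw [← hsup]
  exact FrOn_sup τ hF1 hF0 hinf

/-- freeness in all characteristics -/
theorem free (hnil : Group.IsNilpotent Q) (H : Type w) [Group H] [Finite H] (φ : H →* MulAut Q)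
    (hf : ∀ h, h ≠ 1 → ∀ q, φ h q = q → q = 1)
    (V : Type v) [AddCommGroup V] [Module k V] [FiniteDimensional k V] (σ : Q →* Module.End k V) (τ : H →* Module.End k V)
    (hc : ∀ h q, τ h * σ q = σ (φ h q) * τ h)
    (hfix : ∀ v, (∀ q, σ q v = v) → v = 0) : FrOn τ ⊤ := by
  classical
  by_cases hQ : (Nat.card Q : k) ≠ 0
  · exact nilp_case hQ hnil H φ hf _ V σ τ rfl hc hfix
  push Not at hQ
  obtain ⟨p, hp⟩ := CharP.exists k
  have hpd : p ∣ Nat.card Q := (CharP.cast_eq_zero_iff k p _).1 hQ
  have hp0 : p ≠ 0 := by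
    rintro rfl
    rw [zero_dvd_iff] at hpd
    exact Nat.card_pos.ne' hpd
  have hpp : p.Prime := (CharP.char_is_prime_or_zero k p).resolve_right hp0
  haveI := Fact.mk hpp
  have hcop : (p ^ (Nat.card Q).factorization p).Coprime (Nat.card Q / p ^ (Nat.card Q).factorization p) :=
    Nat.Coprime.pow_left _ (Nat.coprime_ordCompl hpp Nat.card_pos.ne')
  obtain ⟨A, B, hAn, hBn, hAm, hBm, hAo, hBo, hAB, hcard, hbij⟩ := Cfsg.Agent.H3.NilpSplit.split (E := Q)
    (m := p ^ (Nat.card Q).factorization p) (n := Nat.card Q / p ^ (Nat.card Q).factorization p)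
    (by rw [Nat.ordProj_mul_ordCompl_eq_self]) hcop
  have hB0 : (Nat.card B : k) ≠ 0 := by
    intro h
    have h1 : p ∣ Nat.card B := (CharP.cast_eq_zero_iff k p _).1 h
    exact hpp.one_lt.ne' (Nat.eq_one_of_dvd_coprimes (Nat.coprime_ordCompl hpp Nat.card_pos.ne') dvd_rfl (h1.trans hBm))
  have hBφ : ∀ h : H, ∀ q ∈ B, φ h q ∈ B := by
    intro h q hq
    rw [hBo] at hq ⊢
    rwa [MulEquiv.orderOf_eq]
  let ψ : H →* MulAut B :=
    { toFun := fun h =>
        { toFun := fun z => ⟨φ h z, hBφ h z z.2⟩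
          invFun := fun z => ⟨φ h⁻¹ z, hBφ h⁻¹ z z.2⟩
          left_inv := fun z => Subtype.ext (by
            show φ h⁻¹ (φ h z) = z
            rw [← MulAut.mul_apply, ← map_mul, inv_mul_cancel, map_one]; rfl)
          right_inv := fun z => Subtype.ext (by
            show φ h (φ h⁻¹ z) = z
            rw [← MulAut.mul_apply, ← map_mul, mul_inv_cancel, map_one]; rfl)
          map_mul' := fun a b => Subtype.ext (by
            show φ h ((a : Q) * b) = φ h a * φ h b
            rw [map_mul]) }
      map_one' := by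
        ext z
        show φ 1 z = z
        rw [map_one]; rfl
      map_mul' := fun a b => by
        ext z
        show φ (a * b) z = φ a (φ b z)
        rw [map_mul]; rfl }
  have hnilB : Group.IsNilpotent B := inferInstance
  refine nilp_case (Q := B) hB0 hnilB H ψ ?_ _ V (σ.comp B.subtype) τ rfl ?_ ?_
  · intro h hh z hz
    exact Subtype.ext (hf h hh z (congrArg Subtype.val hz))
  · intro h z
    exact hc h z
  · intro v hv
    by_contra hv0
    -- the fixed space of B
    let U : Submodule k V :=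
      { carrier := {u | ∀ b : B, σ b u = u}
        zero_mem' := fun b => map_zero _
        add_mem' := fun {a c} ha hc b => by rw [map_add, ha b, hc b]
        smul_mem' := fun c x hx b => by rw [map_smul, hx b] }
    have hUA : ∀ a : A, ∀ u ∈ U, σ a u ∈ U := by
      intro a u hu b
      have h1 : (b : Q) * a = a * b := (hAB a a.2 b b.2).symm.eq
      rw [← Module.End.mul_apply, ← map_mul, h1, map_mul, Module.End.mul_apply, hu b]
    letI act : DistribMulAction A U :=
      { smul := fun a u => ⟨σ a u, hUA a u u.2⟩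
        one_smul := fun u => Subtype.ext (by
          show σ ((1 : A) : Q) u = u
          rw [Subgroup.coe_one, map_one]; rfl)
        mul_smul := fun a b u => Subtype.ext (by
          show σ ((a * b : A) : Q) u = σ a (σ b u)
          rw [Subgroup.coe_mul, map_mul]; rfl)
        smul_zero := fun a => Subtype.ext (map_zero _)
        smul_add := fun a x y => Subtype.ext (map_add _ _ _) }
    have hAp : IsPGroup p A := by
      obtain ⟨j, -, hj⟩ := (Nat.dvd_prime_pow hpp).1 hAm
      exact IsPGroup.of_card hj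
    obtain ⟨u, hu0, hu⟩ := Cfsg.Agent.H10.FixVec.exists_fixed_vec (P := A) (V := U) hAp (by
      intro u
      apply Subtype.ext
      show p • (u : V) = 0
      rw [← Nat.cast_smul_eq_nsmul k, CharP.cast_eq_zero, zero_smul]) (v0 := (⟨v, fun b => hv b⟩ : U))
      (fun h => hv0 (congrArg Subtype.val h))
    apply hu0
    apply Subtype.ext
    apply hfix
    intro q
    obtain ⟨⟨a, b⟩, hab⟩ := hbij.2 q
    rw [← hab, map_mul, Module.End.mul_apply, u.2 b]
    exact congrArg Subtype.val (hu a)

end Cfsg.Agent.H10.FrF4
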