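import Mathlib
import Cfsg.Agent.H10_FrF4
import Cfsg.Agent.H1_Coprime

/-!
H10_FrF5: dimension formula for Frobenius groups acting on vector spaces and order formula for
Frobenius groups acting coprimely on solvable groups.
-/

set_option autoImplicit false
set_option linter.style.haveILetI false
set_option linter.unusedSectionVars false

namespace Cfsg.Agent.H10.FrF5

open Module Cfsg.Agent.H10.FrF2 Cfsg.Agent.H10.FrF3 Cfsg.Agent.H10.FrF4

section Lin

variable {k V : Type*} [Field k] [AddCommGroup V] [Module k V]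

/-- fixed space of a subgroup -/
def Fix {A : Type*} [Group A] (σ : A →* Module.End k V) (B : Subgroup A) : Submodule k V where
  carrier := {v | ∀ b ∈ B, σ b v = v}
  zero_mem' := fun b _ => map_zero _
  add_mem' := fun {a c} ha hc b hb => by rw [map_add, ha b hb, hc b hb]
  smul_mem' := fun c x hx b hb => by rw [map_smul, hx b hb]

theorem mem_Fix {A : Type*} [Group A] {σ : A →* Module.End k V} {B : Subgroup A} {v : V} :
    v ∈ Fix σ B ↔ ∀ b ∈ B, σ b v = v := Iff.rfl

/-- for free modules the fixed space has the right dimension -/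
theorem fix_dim [FiniteDimensional k V] {H : Type*} [Group H] [Finite H] (τ : H →* Module.End k V) (U : Submodule k V)
    (hU : ∀ g, ∀ u ∈ U, τ g u ∈ U) (h : FrOn τ U) : Nat.card H * finrank k ↥(U ⊓ Fix τ ⊤) = finrank k U := by
  classical
  haveI := Fintype.ofFinite H
  obtain ⟨W, hWU, hs, hd⟩ := h
  let F : (H → W) →ₗ[k] U :=
    { toFun := fun f => ⟨∑ h : H, τ h (f h), Submodule.sum_mem _ fun h _ => hU h _ (hWU (f h).2)⟩
      map_add' := fun f g => Subtype.ext (by
        show ∑ h : H, τ h ((f h : V) + g h) = ∑ h : H, τ h (f h) + ∑ h : H, τ h (g h)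
        rw [← Finset.sum_add_distrib]
        exact Finset.sum_congr rfl fun h _ => map_add _ _ _)
      map_smul' := fun c f => Subtype.ext (by
        show ∑ h : H, τ h (c • (f h : V)) = c • ∑ h : H, τ h (f h)
        rw [Finset.smul_sum]
        exact Finset.sum_congr rfl fun h _ => map_smul _ _ _) }
  have hF : ∀ f, (F f : V) = ∑ h : H, τ h (f h) := fun f => rfl
  have hsurj : Function.Surjective F := by
    have hle : (⨆ h : H, W.map (τ h)) ≤ (LinearMap.range F).map U.subtype := by
      apply iSup_le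
      rintro h _ ⟨w, hw, rfl⟩
      refine ⟨F (Pi.single h ⟨w, hw⟩), ⟨_, rfl⟩, ?_⟩
      show (F (Pi.single h ⟨w, hw⟩) : V) = _
      rw [hF, Finset.sum_eq_single h]
      · rw [Pi.single_eq_same]
      · intro b _ hb
        rw [Pi.single_eq_of_ne hb]
        exact map_zero _
      · intro h; exact absurd (Finset.mem_univ _) h
    rw [hs] at hle
    intro u
    obtain ⟨u', ⟨f, hf⟩, hu'⟩ := hle u.2
    refine ⟨f, ?_⟩
    rw [hf]
    exact Subtype.ext hu'
  have hfin : finrank k (H → W) = Nat.card H * finrank k W := by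
    rw [Module.finrank_pi_fintype, Finset.sum_const, Finset.card_univ, smul_eq_mul, ← Nat.card_eq_fintype_card]
  have heq : finrank k (H → W) = finrank k U :=
    le_antisymm (by rw [hfin]; exact hd) (LinearMap.finrank_le_finrank_of_surjective hsurj)
  have hinj : Function.Injective F := (LinearMap.injective_iff_surjective_of_finrank_eq_finrank heq).2 hsurj
  -- the norm map
  let T : W →ₗ[k] ↥(U ⊓ Fix τ ⊤) :=
    { toFun := fun w => ⟨∑ h : H, τ h w, Submodule.sum_mem _ fun h _ => hU h _ (hWU w.2), fun g _ => by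
        rw [map_sum]
        refine Fintype.sum_equiv (Equiv.mulLeft g) _ _ fun x => ?_
        rw [← Module.End.mul_apply, ← map_mul]; rfl⟩
      map_add' := fun f g => Subtype.ext (by
        show ∑ h : H, τ h ((f : V) + g) = ∑ h : H, τ h f + ∑ h : H, τ h g
        rw [← Finset.sum_add_distrib]
        exact Finset.sum_congr rfl fun h _ => map_add _ _ _)
      map_smul' := fun c f => Subtype.ext (by
        show ∑ h : H, τ h (c • (f : V)) = c • ∑ h : H, τ h f
        rw [Finset.smul_sum]
        exact Finset.sum_congr rfl fun h _ => map_smul _ _ _) }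
  have hT : ∀ w, (T w : V) = ∑ h : H, τ h w := fun w => rfl
  have hTinj : Function.Injective T := by
    intro w w' hww
    have h1 : F (fun _ => w) = F (fun _ => w') := by
      apply Subtype.ext
      rw [hF, hF]
      have := congrArg (fun x : ↥(U ⊓ Fix τ ⊤) => (x : V)) hww
      exact this
    exact congrFun (hinj h1) 1
  have hTsurj : Function.Surjective T := by
    intro v
    obtain ⟨f, hf⟩ := hsurj ⟨v, v.2.1⟩
    have hfv : ∑ h : H, τ h (f h) = (v : V) := congrArg Subtype.val hf
    have h1 : ∀ g : H, (fun h => f (g⁻¹ * h)) = f := by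
      intro g
      apply hinj
      apply Subtype.ext
      rw [hF, hF, hfv]
      have h2 : τ g (v : V) = v := v.2.2 g trivial
      rw [← h2, ← hfv, map_sum]
      refine Fintype.sum_equiv (Equiv.mulLeft g⁻¹) _ _ fun x => ?_
      rw [← Module.End.mul_apply, ← map_mul]
      show τ x (f (g⁻¹ * x)) = τ (g * (g⁻¹ * x)) (f (g⁻¹ * x))
      rw [mul_inv_cancel_left]
    refine ⟨f 1, Subtype.ext ?_⟩
    rw [hT, ← hfv]
    refine Finset.sum_congr rfl fun h _ => ?_
    have h2 := congrFun (h1 h) h
    simp only [inv_mul_cancel] at h2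
    rw [h2]
  have h1 : finrank k W = finrank k ↥(U ⊓ Fix τ ⊤) := LinearEquiv.finrank_eq (LinearEquiv.ofBijective T ⟨hTinj, hTsurj⟩)
  rw [← h1, ← hfin, heq]

variable {A : Type*} [Group A] [Finite A]

theorem avg (σ : A →* Module.End k V) (U : Subgroup A) [hU : U.Normal] (hU0 : (Nat.card U : k) ≠ 0) :
    ∃ e : Module.End k V, e * e = e ∧ (∀ a, σ a * e = e * σ a) ∧ (∀ u ∈ U, σ u * e = e) ∧ LinearMap.range e = Fix σ U ∧
      (∀ v ∈ Fix σ U, e v = v) := by
  classical
  haveI := Fintype.ofFinite A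
  set e : Module.End k V := (Nat.card U : k)⁻¹ • ∑ z : U, σ z with he
  have hze : ∀ z ∈ U, σ z * e = e := by
    intro z hz
    rw [he, mul_smul_comm, Finset.mul_sum]
    congr 1
    refine Fintype.sum_equiv (Equiv.mulLeft (⟨z, hz⟩ : U)) _ _ fun y => ?_
    rw [← map_mul]; rfl
  have heu : ∀ u : V, (∀ z ∈ U, σ z u = u) → e u = u := by
    intro u hu
    rw [he, LinearMap.smul_apply, LinearMap.sum_apply, Finset.sum_congr rfl (fun (z : U) _ => hu z z.2), Finset.sum_const,
      Finset.card_univ, ← Nat.card_eq_fintype_card, ← Nat.cast_smul_eq_nsmul k, smul_smul, inv_mul_cancel₀ hU0, one_smul]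
  refine ⟨e, ?_, ?_, hze, ?_, fun v hv => heu v hv⟩
  · ext u
    rw [Module.End.mul_apply]
    apply heu
    intro z hz
    rw [← Module.End.mul_apply, hze z hz]
  · intro a
    rw [he, mul_smul_comm, smul_mul_assoc, Finset.mul_sum, Finset.sum_mul]
    congr 1
    refine Fintype.sum_equiv (MulAut.conjNormal a : MulAut U).toEquiv _ _ fun y => ?_
    show σ a * σ y = σ (a * y * a⁻¹) * σ a
    rw [← map_mul, ← map_mul]; congr 1; group
  · ext v
    constructor
    · rintro ⟨u, rfl⟩ z hz
      rw [← Module.End.mul_apply, hze z hz]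
    · intro hv
      exact ⟨v, heu v hv⟩

/-- the dimension formula -/
theorem lin_formula [FiniteDimensional k V] (σ : A →* Module.End k V) (U E : Subgroup A) [hU : U.Normal] (hUE : U ⊔ E = ⊤)
    (hU0 : (Nat.card U : k) ≠ 0) (hnil : Group.IsNilpotent U)
    (hfpf : ∀ e ∈ E, e ≠ 1 → ∀ u ∈ U, e * u * e⁻¹ = u → u = 1) :
    Nat.card E * finrank k (Fix σ E) + finrank k (Fix σ U) = finrank k V + Nat.card E * finrank k (Fix σ ⊤) := by
  classical
  obtain ⟨e, hee, hea, heU, hr, hef⟩ := avg σ U hU0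
  let τ : E →* Module.End k V := σ.comp E.subtype
  have hinv : ∀ a, ∀ u ∈ LinearMap.range (1 - e), σ a u ∈ LinearMap.range (1 - e) := by
    rintro a _ ⟨u, rfl⟩
    refine ⟨σ a u, ?_⟩
    rw [← Module.End.mul_apply, ← Module.End.mul_apply, sub_mul, mul_sub, one_mul, mul_one, hea]
  have hF : FrOn τ (LinearMap.range (1 - e)) := by
    apply FrOn_restr τ _ (fun g u hu => hinv g u hu)
    refine nilp_case (Q := U) hU0 hnil E ((MulAut.conjNormal (H := U)).comp E.subtype) ?_ _ _
      (restr (σ.comp U.subtype) _ (fun g u hu => hinv g u hu)) _ rfl ?_ ?_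
    · intro g hg u hu
      apply Subtype.ext
      exact hfpf g g.2 (fun h => hg (Subtype.ext h)) u u.2 (congrArg Subtype.val hu)
    · intro g q
      ext u
      show σ (g : A) (σ (q : A) (u : V)) = σ ((g : A) * q * (g : A)⁻¹) (σ (g : A) (u : V))
      rw [← Module.End.mul_apply, ← Module.End.mul_apply, ← map_mul, ← map_mul]
      congr 2; group
    · rintro ⟨_, ⟨v, rfl⟩⟩ hv
      apply Subtype.ext
      show (1 - e) v = 0
      have h1 := hef ((1 - e) v) (fun z hz => congrArg Subtype.val (hv ⟨z, hz⟩))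
      rw [← Module.End.mul_apply, mul_sub, mul_one, hee, sub_self] at h1
      exact h1.symm
  have h1 := fix_dim τ _ (fun g u hu => hinv g u hu) hF
  have hτ : Fix τ ⊤ = Fix σ E := by
    ext v
    constructor
    · intro h b hb; exact h ⟨b, hb⟩ trivial
    · intro h b _; exact h b b.2
  rw [hτ] at h1
  -- decompositions
  have hker : ∀ v, e ((1 - e) v) = 0 := by
    intro v
    rw [← Module.End.mul_apply, mul_sub, mul_one, hee, sub_self]; rfl
  have hdec : ∀ P : Submodule k V, (∀ v ∈ P, e v ∈ P) →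
      finrank k ↥(LinearMap.range e ⊓ P) + finrank k ↥(LinearMap.range (1 - e) ⊓ P) = finrank k P := by
    intro P hP
    have h2 : (LinearMap.range e ⊓ P) ⊔ (LinearMap.range (1 - e) ⊓ P) = P := by
      apply le_antisymm (sup_le inf_le_right inf_le_right)
      intro v hv
      have h3 : v = e v + (1 - e) v := by rw [LinearMap.sub_apply]; simp
      rw [h3]
      refine Submodule.add_mem_sup ⟨⟨v, rfl⟩, hP v hv⟩ ⟨⟨v, rfl⟩, ?_⟩
      have h4 : (1 - e) v = v - e v := by rw [LinearMap.sub_apply]; rfl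
      rw [h4]
      exact P.sub_mem hv (hP v hv)
    have h3 : (LinearMap.range e ⊓ P) ⊓ (LinearMap.range (1 - e) ⊓ P) = ⊥ := by
      rw [eq_bot_iff]
      rintro v ⟨⟨⟨u, hu⟩, -⟩, ⟨⟨w, hw⟩, -⟩⟩
      rw [Submodule.mem_bot, ← hu, ← hee, Module.End.mul_apply, hu, ← hw, hker]
    have h4 := Submodule.finrank_sup_add_finrank_inf_eq (LinearMap.range e ⊓ P) (LinearMap.range (1 - e) ⊓ P)
    rw [h2, h3, finrank_bot, add_zero] at h4
    exact h4.symm
  have h2 := hdec ⊤ (fun _ _ => trivial)
  have h3 := hdec (Fix σ E) (fun v hv b hb => by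
    rw [← Module.End.mul_apply, hea, Module.End.mul_apply, hv b hb])
  rw [inf_top_eq, inf_top_eq, finrank_top] at h2
  have h4 : LinearMap.range e ⊓ Fix σ E = Fix σ ⊤ := by
    rw [hr]
    ext v
    constructor
    · rintro ⟨hv1, hv2⟩ a _
      have ha : a ∈ U ⊔ E := by rw [hUE]; trivial
      obtain ⟨u, hu, x, hx, rfl⟩ := Subgroup.mem_sup_of_normal_left.1 ha
      rw [map_mul, Module.End.mul_apply, hv2 x hx, hv1 u hu]
    · intro hv
      exact ⟨fun a _ => hv a trivial, fun a _ => hv a trivial⟩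
  rw [h4] at h3
  rw [hr] at h2
  rw [← h3, ← h2, ← h1]
  ring

end Lin

section Grp

/-- fixed subgroup -/
def fx {A H : Type*} [Group A] [Group H] (θ : A →* MulAut H) (B : Subgroup A) : Subgroup H where
  carrier := {h | ∀ b ∈ B, θ b h = h}
  one_mem' := fun b _ => map_one _
  mul_mem' := fun {x y} hx hy b hb => by rw [map_mul, hx b hb, hy b hb]
  inv_mem' := fun {x} hx b hb => by rw [map_inv, hx b hb]

theorem mem_fx {A H : Type*} [Group A] [Group H] {θ : A →* MulAut H} {B : Subgroup A} {h : H} :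
    h ∈ fx θ B ↔ ∀ b ∈ B, θ b h = h := Iff.rfl

theorem lift_fixed {A H : Type*} [Group A] [Finite A] [Group H] [Finite H] (θ : A →* MulAut H) (B : Subgroup A) (N : Subgroup H)
    (hNθ : ∀ a, ∀ n ∈ N, θ a n ∈ N) (hcop : (Nat.card B).Coprime (Nat.card N)) (hs : Group.IsSolvable N) (h : H)
    (hh : ∀ b ∈ B, h⁻¹ * θ b h ∈ N) : ∃ n ∈ N, h * n ∈ fx θ B := by
  haveI : Finite (H ⋊[θ] A) := Finite.of_equiv _ SemidirectProduct.equivProd.symm
  have hinl := SemidirectProduct.inl_injective (φ := θ)
  have hinr := SemidirectProduct.inr_injective (φ := θ)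
  obtain ⟨d, hd, hd2⟩ := Cfsg.Agent.H1.Coprime.exists_mul_mem_centralizer (G := H ⋊[θ] A)
    (A := B.map SemidirectProduct.inr) (D := N.map SemidirectProduct.inl) (by
      rintro _ ⟨b, hb, rfl⟩
      rw [Subgroup.mem_normalizer_iff]
      intro g
      constructor
      · rintro ⟨n, hn, rfl⟩
        exact ⟨θ b n, hNθ b n hn, by rw [SemidirectProduct.inl_aut, map_inv]⟩
      · rintro ⟨n, hn, hg⟩
        refine ⟨θ b⁻¹ n, hNθ _ n hn, ?_⟩
        rw [SemidirectProduct.inl_aut, hg, map_inv, inv_inv]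
        group) (by
      rw [Subgroup.card_map_of_injective hinr, Subgroup.card_map_of_injective hinl]
      exact hcop) (Or.inr (Group.isSolvable_of_surjective
        (f := (N.equivMapOfInjective _ hinl : N →* N.map SemidirectProduct.inl)) (MulEquiv.surjective _)))
    (SemidirectProduct.inl h) (by
      rintro _ ⟨b, hb, rfl⟩
      refine ⟨h⁻¹ * θ b h, hh b hb, ?_⟩
      rw [map_mul, map_inv, SemidirectProduct.inl_aut, map_inv])
  obtain ⟨n, hn, rfl⟩ := hd
  refine ⟨n, hn, ?_⟩
  intro b hb
  apply hinl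
  rw [SemidirectProduct.inl_aut, map_mul]
  have h1 := Subgroup.mem_centralizer_iff.1 hd2 (SemidirectProduct.inr b) ⟨b, hb, rfl⟩
  rw [h1, map_inv, mul_inv_cancel_right]

end Grp

end Cfsg.Agent.H10.FrF5
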