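import Mathlib
import Cfsg.Agent.H10_FrF5

/-!
H10_FrF6: order formula for Frobenius groups acting coprimely on solvable groups.
-/

set_option autoImplicit false
set_option linter.style.haveILetI false
set_option linter.unusedSectionVars false

namespace Cfsg.Agent.H10.FrF6

open Module Cfsg.Agent.H10.FrF2 Cfsg.Agent.H10.FrF3 Cfsg.Agent.H10.FrF4 Cfsg.Agent.H10.FrF5

universe v

section Step

variable {A H : Type*} [Group A] [Group H]

/-- a characteristic subgroup with elementary abelian quotient -/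
theorem exists_step [Finite H] (hs : Group.IsSolvable H) (hH : 1 < Nat.card H) :
    ∃ (p : ℕ) (N : Subgroup H), p.Prime ∧ p ∣ Nat.card H ∧ N.Normal ∧ N ≠ ⊤ ∧ (∀ x y : H, x * y * x⁻¹ * y⁻¹ ∈ N) ∧ (∀ x : H, x ^ p ∈ N) ∧
      ∀ θ : MulAut H, ∀ n ∈ N, θ n ∈ N := by
  classical
  haveI : Nontrivial H := Finite.one_lt_card_iff_nontrivial.1 hH
  have hc : commutator H < ⊤ := Group.IsSolvable.commutator_lt_top_of_nontrivial H
  have hab : 1 < Nat.card (Abelianization H) := by
    have h1 : (commutator H).index ≠ 1 := fun h => hc.ne (Subgroup.index_eq_one.1 h)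
    have h2 : (commutator H).index ≠ 0 := Subgroup.index_ne_zero_of_finite
    have h3 : Nat.card (Abelianization H) = (commutator H).index := rfl
    omega
  obtain ⟨p, hp, hpd⟩ := Nat.exists_prime_and_dvd hab.ne'
  haveI := Fact.mk hp
  haveI : Finite (Abelianization H) := inferInstanceAs (Finite (H ⧸ commutator H))
  let q : H →* (Abelianization H) ⧸ (powMonoidHom p : Abelianization H →* Abelianization H).range :=
    (QuotientGroup.mk' _).comp Abelianization.of
  have hq : Function.Surjective q := (QuotientGroup.mk'_surjective _).comp (QuotientGroup.mk'_surjective _)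
  have hmem : ∀ n, n ∈ q.ker ↔ ∃ m : H, (m ^ p)⁻¹ * n ∈ commutator H := by
    intro n
    rw [MonoidHom.mem_ker]
    show ((Abelianization.of n : Abelianization H) :
      Abelianization H ⧸ (powMonoidHom p : Abelianization H →* Abelianization H).range) = 1 ↔ _
    rw [QuotientGroup.eq_one_iff]
    constructor
    · rintro ⟨y, hy⟩
      obtain ⟨m, rfl⟩ := QuotientGroup.mk_surjective y
      refine ⟨m, ?_⟩
      rw [← QuotientGroup.eq]
      exact hy
    · rintro ⟨m, hm⟩
      refine ⟨Abelianization.of m, ?_⟩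
      rw [← QuotientGroup.eq] at hm
      exact hm
  refine ⟨p, q.ker, hp, hpd.trans ?_, inferInstance, ?_, ?_, ?_, ?_⟩
  · exact Subgroup.index_dvd_card (commutator H)
  · intro htop
    obtain ⟨x, hx⟩ := exists_prime_orderOf_dvd_card' (G := Abelianization H) p hpd
    have hsurj : Function.Surjective (powMonoidHom p : Abelianization H →* Abelianization H) := by
      intro y
      obtain ⟨n, rfl⟩ := QuotientGroup.mk_surjective y
      have : n ∈ q.ker := by rw [htop]; trivial
      rw [MonoidHom.mem_ker] at this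
      exact (QuotientGroup.eq_one_iff _).1 this
    have hinj := Finite.injective_iff_surjective.2 hsurj
    have h1 : (powMonoidHom p : Abelianization H →* Abelianization H) x = (powMonoidHom p) 1 := by
      rw [powMonoidHom_apply, powMonoidHom_apply, one_pow, ← hx, pow_orderOf_eq_one]
    have h2 := hinj h1
    rw [h2, orderOf_one] at hx
    exact hp.one_lt.ne hx
  · intro x y
    rw [MonoidHom.mem_ker, map_mul, map_mul, map_mul, map_inv, map_inv, mul_comm (q x) (q y)]
    group
  · intro x
    rw [hmem]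
    exact ⟨x, by rw [inv_mul_cancel]; exact one_mem _⟩
  · intro θ n hn
    rw [hmem] at hn ⊢
    obtain ⟨m, hm⟩ := hn
    refine ⟨θ m, ?_⟩
    have h1 : (θ m ^ p)⁻¹ * θ n = θ ((m ^ p)⁻¹ * n) := by rw [map_mul, map_inv, map_pow]
    rw [h1]
    have h2 : (commutator H).map (θ : H →* H) = commutator H := by
      have := Subgroup.characteristic_iff_map_eq.1 (inferInstance : (commutator H).Characteristic) θ
      exact this
    rw [← h2]
    exact ⟨_, hm, rfl⟩

variable (θ : A →* MulAut H) (N : Subgroup H) [hN : N.Normal] (hNθ : ∀ a, ∀ n ∈ N, θ a n ∈ N)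

/-- restriction of an action -/
def res : A →* MulAut N where
  toFun a :=
    { toFun := fun z => ⟨θ a z, hNθ a z z.2⟩
      invFun := fun z => ⟨θ a⁻¹ z, hNθ a⁻¹ z z.2⟩
      left_inv := fun z => Subtype.ext (by
        show θ a⁻¹ (θ a z) = z
        rw [← MulAut.mul_apply, ← map_mul, inv_mul_cancel, map_one]; rfl)
      right_inv := fun z => Subtype.ext (by
        show θ a (θ a⁻¹ z) = z
        rw [← MulAut.mul_apply, ← map_mul, mul_inv_cancel, map_one]; rfl)
      map_mul' := fun x y => Subtype.ext (by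
        show θ a ((x : H) * y) = θ a x * θ a y
        rw [map_mul]) }
  map_one' := by
    ext z
    show θ 1 z = z
    rw [map_one]; rfl
  map_mul' := fun a b => by
    ext z
    show θ (a * b) z = θ a (θ b z)
    rw [map_mul]; rfl

theorem res_apply (a : A) (n : N) : ((res θ N hNθ a n : N) : H) = θ a n := rfl

/-- the quotient action -/
def quo : A →* MulAut (H ⧸ N) where
  toFun a :=
    { toFun := QuotientGroup.map N N (θ a).toMonoidHom (fun n hn => hNθ a n hn)
      invFun := QuotientGroup.map N N (θ a⁻¹).toMonoidHom (fun n hn => hNθ a⁻¹ n hn)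
      left_inv := fun z => by
        obtain ⟨z, rfl⟩ := QuotientGroup.mk_surjective z
        show ((θ a⁻¹ (θ a z) : H) : H ⧸ N) = z
        rw [← MulAut.mul_apply, ← map_mul, inv_mul_cancel, map_one]; rfl
      right_inv := fun z => by
        obtain ⟨z, rfl⟩ := QuotientGroup.mk_surjective z
        show ((θ a (θ a⁻¹ z) : H) : H ⧸ N) = z
        rw [← MulAut.mul_apply, ← map_mul, mul_inv_cancel, map_one]; rfl
      map_mul' := fun x y => map_mul _ _ _ }
  map_one' := by
    ext z
    obtain ⟨z, rfl⟩ := QuotientGroup.mk_surjective z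
    show ((θ 1 z : H) : H ⧸ N) = z
    rw [map_one]; rfl
  map_mul' := fun a b => by
    ext z
    obtain ⟨z, rfl⟩ := QuotientGroup.mk_surjective z
    show ((θ (a * b) z : H) : H ⧸ N) = ((θ a (θ b z) : H) : H ⧸ N)
    rw [map_mul]; rfl

theorem quo_apply (a : A) (h : H) : quo θ N hNθ a (h : H ⧸ N) = ((θ a h : H) : H ⧸ N) := rfl

theorem card_fx [Finite A] [Finite H] (B : Subgroup A) (hcop : (Nat.card B).Coprime (Nat.card N)) (hs : Group.IsSolvable N) :
    Nat.card (fx θ B) = Nat.card (fx (res θ N hNθ) B) * Nat.card (fx (quo θ N hNθ) B) := by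
  let g : fx θ B →* H ⧸ N := (QuotientGroup.mk' N).comp (fx θ B).subtype
  have h1 : g.range = fx (quo θ N hNθ) B := by
    ext z
    constructor
    · rintro ⟨x, rfl⟩ b hb
      show quo θ N hNθ b ((x : H) : H ⧸ N) = ((x : H) : H ⧸ N)
      rw [quo_apply, x.2 b hb]
    · intro hz
      obtain ⟨h, rfl⟩ := QuotientGroup.mk_surjective z
      obtain ⟨n, hn, hfix⟩ := lift_fixed θ B N hNθ hcop hs h (by
        intro b hb
        have := hz b hb
        rw [quo_apply, eq_comm, QuotientGroup.eq] at this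
        exact this)
      refine ⟨⟨h * n, hfix⟩, ?_⟩
      show ((h * n : H) : H ⧸ N) = h
      rw [eq_comm, QuotientGroup.eq, inv_mul_cancel_left]
      exact hn
  have h2 : Nat.card g.ker = Nat.card (fx (res θ N hNθ) B) := by
    apply Nat.card_congr
    refine ⟨fun x => ⟨⟨x.1.1, ?_⟩, ?_⟩, fun y => ⟨⟨y.1.1, ?_⟩, ?_⟩, fun _ => rfl, fun _ => rfl⟩
    · exact (QuotientGroup.eq_one_iff _).1 (MonoidHom.mem_ker.1 x.2)
    · intro b hb
      exact Subtype.ext (x.1.2 b hb)
    · intro b hb
      exact congrArg Subtype.val (y.2 b hb)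
    · exact MonoidHom.mem_ker.2 ((QuotientGroup.eq_one_iff _).2 y.1.2)
  rw [← h2, ← h1, ← Subgroup.index_ker, Subgroup.card_mul_index]

end Step

section Elem

variable {A : Type*} [Group A] [Finite A] (U E : Subgroup A) [hU : U.Normal] (hUE : U ⊔ E = ⊤) (hnil : Group.IsNilpotent U)
  (hfpf : ∀ e ∈ E, e ≠ 1 → ∀ u ∈ U, e * u * e⁻¹ = u → u = 1)

include hUE hnil hfpf in
theorem elem_formula {V : Type*} [CommGroup V] [Finite V] {p : ℕ} (hp : p.Prime) (hexp : ∀ x : V, x ^ p = 1)
    (hcop : ¬ p ∣ Nat.card U) (θ : A →* MulAut V) :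
    Nat.card (fx θ ⊤) ^ Nat.card E * Nat.card V = Nat.card (fx θ E) ^ Nat.card E * Nat.card (fx θ U) := by
  haveI := Fact.mk hp
  obtain ⟨mod⟩ : Nonempty (Module (ZMod p) (Additive V)) := ⟨AddCommGroup.zmodModule (n := p) (by
    intro x
    obtain ⟨x, rfl⟩ := Additive.ofMul.surjective x
    rw [← ofMul_pow, hexp]; rfl)⟩
  let L : A → Module.End (ZMod p) (Additive V) := fun a => AddMonoidHom.toZModLinearMap p (MonoidHom.toAdditive (θ a).toMonoidHom)
  have hL : ∀ (a : A) (h : V), L a (Additive.ofMul h) = Additive.ofMul (θ a h) := fun a h => rfl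
  have hL1 : L 1 = 1 := by
    apply LinearMap.ext
    intro x
    obtain ⟨x, rfl⟩ := Additive.ofMul.surjective x
    rw [hL, map_one]; rfl
  have hLm : ∀ a b, L (a * b) = L a * L b := by
    intro a b
    apply LinearMap.ext
    intro x
    obtain ⟨x, rfl⟩ := Additive.ofMul.surjective x
    rw [Module.End.mul_apply, hL, hL, hL, map_mul]; rfl
  let σ : A →* Module.End (ZMod p) (Additive V) := { toFun := L, map_one' := hL1, map_mul' := hLm }
  haveI : Finite (Additive V) := inferInstanceAs (Finite V)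
  haveI : FiniteDimensional (ZMod p) (Additive V) := Module.Finite.of_finite
  have hform := lin_formula σ U E hUE (by
    intro h
    exact hcop ((ZMod.natCast_eq_zero_iff _ _).1 h)) hnil hfpf
  have hc : ∀ B : Subgroup A, Nat.card (fx θ B) = p ^ finrank (ZMod p) (Fix σ B) := by
    intro B
    have h1 : Nat.card (Fix σ B) = Nat.card (ZMod p) ^ finrank (ZMod p) (Fix σ B) := Module.natCard_eq_pow_finrank
    rw [Nat.card_zmod] at h1
    rw [← h1]
    exact Nat.card_congr ⟨fun x => ⟨Additive.ofMul (x : V), fun b hb => congrArg Additive.ofMul (x.2 b hb)⟩,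
      fun y => ⟨Additive.toMul (y : Additive V), fun b hb => congrArg Additive.toMul (y.2 b hb)⟩, fun _ => rfl, fun _ => rfl⟩
  have hV : Nat.card V = p ^ finrank (ZMod p) (Additive V) := by
    have h1 : Nat.card (Additive V) = Nat.card (ZMod p) ^ finrank (ZMod p) (Additive V) := Module.natCard_eq_pow_finrank
    rw [Nat.card_zmod] at h1
    exact h1
  rw [hc, hc, hc, hV, ← pow_mul, ← pow_mul, ← pow_add, ← pow_add]
  congr 1
  rw [mul_comm _ (Nat.card E), mul_comm _ (Nat.card E)]
  omega

include hUE hnil hfpf in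
/-- the order formula -/
theorem order_formula : ∀ (n : ℕ) (H : Type v) [Group H] [Finite H] (θ : A →* MulAut H), Nat.card H = n →
    Group.IsSolvable H → (Nat.card H).Coprime (Nat.card A) →
    Nat.card (fx θ ⊤) ^ Nat.card E * Nat.card H = Nat.card (fx θ E) ^ Nat.card E * Nat.card (fx θ U) := by
  intro n
  induction n using Nat.strong_induction_on with
  | _ n ih =>
  intro H _ _ θ hn hs hcop
  rcases Nat.lt_or_ge 1 (Nat.card H) with hH | hH
  swap
  · have h1 : Nat.card H = 1 := le_antisymm hH Nat.card_pos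
    haveI : Subsingleton H := (Nat.card_eq_one_iff_unique.1 h1).1
    have h2 : ∀ B : Subgroup A, Nat.card (fx θ B) = 1 := fun B => Nat.card_unique
    rw [h2, h2, h2, h1]
  obtain ⟨p, N, hp, hpd, hN, hNtop, hcomm, hexp, hchar⟩ := exists_step hs hH
  have hNθ : ∀ a, ∀ n ∈ N, θ a n ∈ N := fun a n hn => hchar (θ a) n hn
  letI cg : CommGroup (H ⧸ N) :=
    { (inferInstance : Group (H ⧸ N)) with
      mul_comm := by
        intro x y
        obtain ⟨x, rfl⟩ := QuotientGroup.mk_surjective x
        obtain ⟨y, rfl⟩ := QuotientGroup.mk_surjective y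
        show ((x * y : H) : H ⧸ N) = ((y * x : H) : H ⧸ N)
        rw [eq_comm, QuotientGroup.eq]
        have h1 := hN.conj_mem _ (hcomm x y) (y * x)⁻¹
        have e : (y * x)⁻¹ * (x * y * x⁻¹ * y⁻¹) * ((y * x)⁻¹)⁻¹ = (y * x)⁻¹ * (x * y) := by group
        rwa [e] at h1 }
  have hV := elem_formula U E hUE hnil hfpf (V := H ⧸ N) hp (by
    intro x
    obtain ⟨x, rfl⟩ := QuotientGroup.mk_surjective x
    exact (QuotientGroup.eq_one_iff _).2 (hexp x)) (by
    intro h
    exact hp.one_lt.ne' (Nat.eq_one_of_dvd_coprimes hcop hpd (h.trans (Subgroup.card_subgroup_dvd_card U)))) (quo θ N hNθ)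
  have hNcard : Nat.card N < n := by
    rw [← hn]
    exact lt_of_le_of_ne (Subgroup.card_le_card_group N) fun h => hNtop (Subgroup.eq_top_of_card_eq N h)
  have hsN : Group.IsSolvable N := inferInstance
  have hcopN : (Nat.card N).Coprime (Nat.card A) := Nat.Coprime.coprime_dvd_left (Subgroup.card_subgroup_dvd_card N) hcop
  have hI := ih _ hNcard N (res θ N hNθ) rfl hsN hcopN
  have hcB : ∀ B : Subgroup A, (Nat.card B).Coprime (Nat.card N) := fun B =>
    (Nat.Coprime.coprime_dvd_right (Subgroup.card_subgroup_dvd_card B) hcopN).symm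
  rw [card_fx θ N hNθ ⊤ (hcB _) hsN, card_fx θ N hNθ E (hcB _) hsN, card_fx θ N hNθ U (hcB _) hsN,
    Subgroup.card_eq_card_quotient_mul_card_subgroup N, mul_pow, mul_pow]
  calc Nat.card (fx (res θ N hNθ) ⊤) ^ Nat.card E * Nat.card (fx (quo θ N hNθ) ⊤) ^ Nat.card E * (Nat.card (H ⧸ N) * Nat.card N)
      = (Nat.card (fx (res θ N hNθ) ⊤) ^ Nat.card E * Nat.card N) *
        (Nat.card (fx (quo θ N hNθ) ⊤) ^ Nat.card E * Nat.card (H ⧸ N)) := by ring
    _ = (Nat.card (fx (res θ N hNθ) E) ^ Nat.card E * Nat.card (fx (res θ N hNθ) U)) *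
        (Nat.card (fx (quo θ N hNθ) E) ^ Nat.card E * Nat.card (fx (quo θ N hNθ) U)) := by rw [hI]; congr 1
    _ = _ := by ring

end Elem

end Cfsg.Agent.H10.FrF6
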