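import Mathlib
import Cfsg.Agent.H10_FrF6
import Cfsg.Agent.S0033

/-!
H10_FrF7: internal forms of the order formula.
-/

set_option autoImplicit false
set_option linter.style.haveILetI false
set_option linter.unusedSectionVars false

namespace Cfsg.Agent.H10.FrF7

open Cfsg.Agent.H10.FrF5 Cfsg.Agent.H10.FrF6

variable {X : Type*} [Group X]

/-- conjugation action of a subgroup on a normalised subgroup -/
def conjAct (A H : Subgroup X) (hHn : ∀ x ∈ A, ∀ h ∈ H, x * h * x⁻¹ ∈ H) : A →* MulAut H where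
  toFun x :=
    { toFun := fun h => ⟨x * h * (x : X)⁻¹, hHn x x.2 h h.2⟩
      invFun := fun h => ⟨(x : X)⁻¹ * h * x, by
        have := hHn _ (A.inv_mem x.2) h h.2
        rwa [inv_inv] at this⟩
      left_inv := fun h => Subtype.ext (by
        show (x : X)⁻¹ * (x * h * (x : X)⁻¹) * x = h
        group)
      right_inv := fun h => Subtype.ext (by
        show (x : X) * ((x : X)⁻¹ * h * x) * (x : X)⁻¹ = h
        group)
      map_mul' := fun g h => Subtype.ext (by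
        show (x : X) * ((g : X) * h) * (x : X)⁻¹ = (x * g * (x : X)⁻¹) * (x * h * (x : X)⁻¹)
        group) }
  map_one' := by
    ext h
    show ((1 : A) : X) * (h : X) * ((1 : A) : X)⁻¹ = h
    rw [Subgroup.coe_one]; group
  map_mul' x y := by
    ext h
    show ((x * y : A) : X) * (h : X) * ((x * y : A) : X)⁻¹ = x * (y * h * (y : X)⁻¹) * (x : X)⁻¹
    rw [Subgroup.coe_mul]; group

theorem conjAct_apply {A H : Subgroup X} (hHn : ∀ x ∈ A, ∀ h ∈ H, x * h * x⁻¹ ∈ H) (x : A) (h : H) :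
    ((conjAct A H hHn x h : H) : X) = x * h * (x : X)⁻¹ := rfl

theorem card_fx_conj {A H : Subgroup X} (hHn : ∀ x ∈ A, ∀ h ∈ H, x * h * x⁻¹ ∈ H) (B : Subgroup X) (hBA : B ≤ A) :
    Nat.card (fx (conjAct A H hHn) (B.subgroupOf A)) = Nat.card ↥(H ⊓ Subgroup.centralizer (B : Set X)) := by
  apply Nat.card_congr
  refine ⟨fun x => ⟨(x.1 : X), x.1.2, ?_⟩, fun y => ⟨⟨y, y.2.1⟩, ?_⟩, fun _ => rfl, fun _ => rfl⟩
  · refine Subgroup.mem_centralizer_iff.2 ?_
    intro b hb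
    have h1 := congrArg Subtype.val (x.2 ⟨b, hBA hb⟩ (Subgroup.mem_subgroupOf.2 hb))
    exact mul_inv_eq_iff_eq_mul.1 h1
  · intro b hb
    apply Subtype.ext
    rw [conjAct_apply]
    rw [mul_inv_eq_iff_eq_mul]
    exact Subgroup.mem_centralizer_iff.1 y.2.2 b (Subgroup.mem_subgroupOf.1 hb)

/-- the kernel of a Frobenius action is nilpotent -/
theorem nilp_of_fpf [Finite X] (U E : Subgroup X) (hU1 : U ≠ ⊥) (hE1 : E ≠ ⊥) (hUn : ∀ e ∈ E, ∀ u ∈ U, e * u * e⁻¹ ∈ U)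
    (hfpf : ∀ e ∈ E, e ≠ 1 → ∀ u ∈ U, e * u = u * e → u = 1) : Group.IsNilpotent U := by
  have hcE : 1 < Nat.card E := (Subgroup.one_lt_card_iff_ne_bot _).2 hE1
  obtain ⟨p, hp, hpd⟩ := Nat.exists_prime_and_dvd hcE.ne'
  haveI := Fact.mk hp
  obtain ⟨e, he⟩ := exists_prime_orderOf_dvd_card' (G := E) p hpd
  have he1 : (e : X) ≠ 1 := by
    intro h
    have h2 : e = 1 := Subtype.ext h
    rw [h2, orderOf_one] at he
    exact hp.one_lt.ne he
  have hfp : MonoidHom.FixedPointFree ((conjAct E U hUn e : MulAut U) : U →* U) := by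
    intro g hg
    apply Subtype.ext
    apply hfpf e e.2 he1 g g.2
    have h1 : (e : X) * g * (e : X)⁻¹ = g := congrArg Subtype.val hg
    exact mul_inv_eq_iff_eq_mul.1 h1
  refine Cfsg.Agent.S0033.result (conjAct E U hUn e) hfp p hp ?_
  apply orderOf_eq_prime
  · rw [← map_pow, ← he, pow_orderOf_eq_one, map_one]
  · intro h
    apply hU1
    rw [Subgroup.eq_bot_iff_forall]
    intro u hu
    have h1 := hfp ⟨u, hu⟩ (by
      show (conjAct E U hUn e) ⟨u, hu⟩ = ⟨u, hu⟩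
      rw [h]; rfl)
    exact congrArg Subtype.val h1

/-- the order formula, internal form -/
theorem main [Finite X] (U E H : Subgroup X) (hU1 : U ≠ ⊥) (hE1 : E ≠ ⊥) (hUn : ∀ e ∈ E, ∀ u ∈ U, e * u * e⁻¹ ∈ U)
    (hfpf : ∀ e ∈ E, e ≠ 1 → ∀ u ∈ U, e * u = u * e → u = 1) (hHn : ∀ x ∈ U ⊔ E, ∀ h ∈ H, x * h * x⁻¹ ∈ H)
    (hsolv : Group.IsSolvable H) (hcop : Nat.Coprime (Nat.card H) (Nat.card ↥(U ⊔ E))) :
    Nat.card ↥(H ⊓ Subgroup.centralizer ((U ⊔ E : Subgroup X) : Set X)) ^ Nat.card E * Nat.card H =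
      Nat.card ↥(H ⊓ Subgroup.centralizer (E : Set X)) ^ Nat.card E * Nat.card ↥(H ⊓ Subgroup.centralizer (U : Set X)) := by
  have hnil := nilp_of_fpf U E hU1 hE1 hUn hfpf
  have hUU : U ≤ U ⊔ E := le_sup_left
  have hEE : E ≤ U ⊔ E := le_sup_right
  haveI hUnorm : (U.subgroupOf (U ⊔ E)).Normal := by
    rw [Subgroup.normal_subgroupOf_iff_le_normalizer hUU, sup_le_iff]
    refine ⟨Subgroup.le_normalizer, ?_⟩
    intro e he
    rw [Subgroup.mem_normalizer_iff]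
    intro u
    refine ⟨fun hu => hUn e he u hu, fun hu => ?_⟩
    have h1 := hUn _ (E.inv_mem he) _ hu
    have e1 : e⁻¹ * (e * u * e⁻¹) * e⁻¹⁻¹ = u := by group
    rwa [e1] at h1
  have hnil' : Group.IsNilpotent (U.subgroupOf (U ⊔ E)) := by
    haveI := hnil
    exact Group.nilpotent_of_mulEquiv (Subgroup.subgroupOfEquivOfLe hUU).symm
  have h := order_formula (A := ↥(U ⊔ E)) (U.subgroupOf (U ⊔ E)) (E.subgroupOf (U ⊔ E)) (by
      rw [← Subgroup.subgroupOf_sup hUU hEE, Subgroup.subgroupOf_self]) hnil' (by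
      intro e he he1 u hu h
      apply Subtype.ext
      apply hfpf e (Subgroup.mem_subgroupOf.1 he) (fun h => he1 (Subtype.ext h)) u (Subgroup.mem_subgroupOf.1 hu)
      exact mul_inv_eq_iff_eq_mul.1 (congrArg Subtype.val h)) _ H (conjAct (U ⊔ E) H hHn) rfl hsolv hcop
  have htop : Nat.card (fx (conjAct (U ⊔ E) H hHn) ⊤) = Nat.card ↥(H ⊓ Subgroup.centralizer ((U ⊔ E : Subgroup X) : Set X)) := by
    rw [← card_fx_conj hHn (U ⊔ E) le_rfl, Subgroup.subgroupOf_self]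
  rw [htop, card_fx_conj hHn E hEE, card_fx_conj hHn U hUU, Nat.card_congr (Subgroup.subgroupOfEquivOfLe hEE).toEquiv] at h
  exact h

end Cfsg.Agent.H10.FrF7
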