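import Mathlib
import Cfsg.Agent.H10_FrF7

/-!
H10_FrF8: if the complement of a Frobenius group has a fixed space of dimension at most one,
the kernel acts as an abelian group.
-/

set_option autoImplicit false
set_option linter.style.haveILetI false
set_option linter.unusedSectionVars false

namespace Cfsg.Agent.H10.FrF8

open Module Cfsg.Agent.H10.FrF2 Cfsg.Agent.H10.FrF3 Cfsg.Agent.H10.FrF4 Cfsg.Agent.H10.FrF5 Cfsg.Agent.H10.FrF6

section Lin

variable {k V : Type*} [Field k] [AddCommGroup V] [Module k V] {A : Type*} [Group A] [Finite A]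

/-- dimension of the fixed space of the complement on an invariant subspace -/
theorem dim_sub [FiniteDimensional k V] (σ : A →* Module.End k V) (U E : Subgroup A) [hU : U.Normal]
    (hU0 : (Nat.card U : k) ≠ 0) (hnil : Group.IsNilpotent U)
    (hfpf : ∀ e ∈ E, e ≠ 1 → ∀ u ∈ U, e * u * e⁻¹ = u → u = 1) (D : Submodule k V) (hD : ∀ a, ∀ u ∈ D, σ a u ∈ D)
    (hfix : D ⊓ Fix σ U = ⊥) : Nat.card E * finrank k ↥(D ⊓ Fix σ E) = finrank k D := by
  let τ : E →* Module.End k V := σ.comp E.subtype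
  have hF : FrOn τ D := by
    apply FrOn_restr τ _ (fun g u hu => hD g u hu)
    refine nilp_case (Q := U) hU0 hnil E ((MulAut.conjNormal (H := U)).comp E.subtype) ?_ _ _
      (restr (σ.comp U.subtype) _ (fun g u hu => hD g u hu)) _ rfl ?_ ?_
    · intro g hg u hu
      apply Subtype.ext
      exact hfpf g g.2 (fun h => hg (Subtype.ext h)) u u.2 (congrArg Subtype.val hu)
    · intro g q
      ext u
      show σ (g : A) (σ (q : A) (u : V)) = σ ((g : A) * q * (g : A)⁻¹) (σ (g : A) (u : V))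
      rw [← Module.End.mul_apply, ← Module.End.mul_apply, ← map_mul, ← map_mul]
      congr 2; group
    · intro v hv
      have h1 : (v : V) ∈ D ⊓ Fix σ U := ⟨v.2, fun u hu => congrArg Subtype.val (hv ⟨u, hu⟩)⟩
      rw [hfix, Submodule.mem_bot] at h1
      exact Subtype.ext h1
  have h1 := fix_dim τ _ (fun g u hu => hD g u hu) hF
  have hτ : Fix τ ⊤ = Fix σ E := by
    ext v
    constructor
    · intro h b hb; exact h ⟨b, hb⟩ trivial
    · intro h b _; exact h b b.2
  rw [hτ] at h1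
  exact h1

theorem lin_comm_aux [FiniteDimensional k V] (σ : A →* Module.End k V) (U E : Subgroup A) [hU : U.Normal]
    (hU0 : (Nat.card U : k) ≠ 0) (hnil : Group.IsNilpotent U)
    (hfpf : ∀ e ∈ E, e ≠ 1 → ∀ u ∈ U, e * u * e⁻¹ = u → u = 1) (hfix : Fix σ U = ⊥) (h1 : finrank k (Fix σ E) ≤ 1) :
    ∀ x ∈ U, ∀ y ∈ U, σ x * σ y = σ y * σ x := by
  classical
  haveI := Fintype.ofFinite A
  by_cases hV : Subsingleton V
  · intro x _ y _
    ext v
    exact Subsingleton.elim _ _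
  haveI : Nontrivial V := not_subsingleton_iff_nontrivial.1 hV
  let Z : Subgroup A :=
    { carrier := {q | q ∈ U ∧ ∀ r ∈ U, σ q * σ r = σ r * σ q}
      one_mem' := ⟨U.one_mem, fun r _ => by rw [map_one, one_mul, mul_one]⟩
      mul_mem' := fun {a b} ha hb => ⟨U.mul_mem ha.1 hb.1, fun r hr => by
        rw [map_mul, mul_assoc, hb.2 r hr, ← mul_assoc, ha.2 r hr, mul_assoc]⟩
      inv_mem' := fun {a} ha => ⟨U.inv_mem ha.1, fun r hr => by
        have h1 := ha.2 r hr
        have h2 : σ a⁻¹ * σ a = 1 := by rw [← map_mul, inv_mul_cancel, map_one]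
        have h3 : σ a * σ a⁻¹ = 1 := by rw [← map_mul, mul_inv_cancel, map_one]
        calc σ a⁻¹ * σ r = σ a⁻¹ * (σ r * σ a) * σ a⁻¹ := by
              rw [mul_assoc, mul_assoc, h3, mul_one]
          _ = (σ a⁻¹ * σ a) * (σ r * σ a⁻¹) := by rw [← h1]; simp only [mul_assoc]
          _ = σ r * σ a⁻¹ := by rw [h2, one_mul]⟩ }
  have hZ : ∀ q, q ∈ Z ↔ q ∈ U ∧ ∀ r ∈ U, σ q * σ r = σ r * σ q := fun q => Iff.rfl
  have hZU : Z ≤ U := fun q hq => hq.1
  haveI hZn : Z.Normal := by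
    refine ⟨fun z hz a => ⟨hU.conj_mem _ hz.1 a, fun r hr => ?_⟩⟩
    have h2 := hU.conj_mem _ hr a⁻¹
    have h3 := congrArg (fun x => σ a * x * σ a⁻¹) (hz.2 _ h2)
    simp only [← map_mul] at h3 ⊢
    have e1 : a * (z * (a⁻¹ * r * a⁻¹⁻¹)) * a⁻¹ = a * z * a⁻¹ * r := by group
    have e2 : a * (a⁻¹ * r * a⁻¹⁻¹ * z) * a⁻¹ = r * (a * z * a⁻¹) := by group
    rwa [e1, e2] at h3
  obtain ⟨z₀, hz₀, hz₀1⟩ : ∃ z ∈ Z, σ z ≠ 1 := by
    let N : Subgroup U := (σ.comp U.subtype).ker
    haveI := hnil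
    haveI : Group.IsNilpotent (U ⧸ N) := inferInstance
    have hNtop : N ≠ ⊤ := by
      intro h
      obtain ⟨v, hv⟩ := exists_ne (0 : V)
      apply hv
      have : v ∈ Fix σ U := by
        intro q hq
        have h1 : (⟨q, hq⟩ : U) ∈ N := by rw [h]; trivial
        have h2 : σ q = 1 := MonoidHom.mem_ker.1 h1
        rw [h2]; rfl
      rwa [hfix, Submodule.mem_bot] at this
    haveI : Nontrivial (U ⧸ N) := QuotientGroup.nontrivial_iff.2 hNtop
    have h1 := Cfsg.Agent.H1.Nilp.normal_inf_center_ne_bot (⊤ : Subgroup (U ⧸ N)) (bot_ne_top).symm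
    rw [top_inf_eq, Subgroup.ne_bot_iff_exists_ne_one] at h1
    obtain ⟨⟨x, hx⟩, hx1⟩ := h1
    obtain ⟨z, rfl⟩ := QuotientGroup.mk_surjective x
    refine ⟨z, ⟨z.2, ?_⟩, ?_⟩
    · intro r hr
      have h2 := Subgroup.mem_center_iff.1 hx ((⟨r, hr⟩ : U) : U ⧸ N)
      have h3 : ((⟨r, hr⟩ * z : U) : U ⧸ N) = ((z * ⟨r, hr⟩ : U) : U ⧸ N) := h2
      rw [QuotientGroup.eq] at h3
      have h4 : σ ((r * (z : A))⁻¹ * ((z : A) * r)) = 1 := MonoidHom.mem_ker.1 h3
      rw [← map_mul, ← map_mul]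
      calc σ (z * r) = σ (r * z) * σ ((r * z)⁻¹ * (z * r)) := by rw [← map_mul]; congr 1; group
        _ = σ (r * z) := by rw [h4, mul_one]
    · intro h
      apply hx1
      apply Subtype.ext
      exact (QuotientGroup.eq_one_iff _).2 (MonoidHom.mem_ker.2 h)
  have hZ0 : (Nat.card Z : k) ≠ 0 := by
    intro h
    apply hU0
    obtain ⟨s, hs⟩ := Subgroup.card_dvd_of_le hZU
    rw [hs, Nat.cast_mul, h, zero_mul]
  obtain ⟨e, hee, hea, heU, hr, hef⟩ := avg σ Z hZ0
  have hinv0 : ∀ a, ∀ u ∈ LinearMap.range (1 - e), σ a u ∈ LinearMap.range (1 - e) := by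
    rintro a _ ⟨u, rfl⟩
    refine ⟨σ a u, ?_⟩
    rw [← Module.End.mul_apply, ← Module.End.mul_apply, sub_mul, mul_sub, one_mul, mul_one, hea]
  have hinv1 : ∀ a, ∀ u ∈ LinearMap.range e, σ a u ∈ LinearMap.range e := by
    rintro a _ ⟨u, rfl⟩
    refine ⟨σ a u, ?_⟩
    rw [← Module.End.mul_apply, ← Module.End.mul_apply, hea]
  have d0 := dim_sub σ U E hU0 hnil hfpf _ hinv0 (by rw [hfix, inf_bot_eq])
  have d1 := dim_sub σ U E hU0 hnil hfpf _ hinv1 (by rw [hfix, inf_bot_eq])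
  have hE0 : 0 < Nat.card E := Nat.card_pos
  -- the complement is nonzero
  have hne : 0 < finrank k (LinearMap.range (1 - e)) := by
    rw [Nat.pos_iff_ne_zero]
    intro h
    rw [Submodule.finrank_eq_zero, LinearMap.range_eq_bot, sub_eq_zero] at h
    apply hz₀1
    have := heU z₀ hz₀
    rwa [← h, mul_one] at this
  have hsum : finrank k ↥(LinearMap.range e ⊓ Fix σ E) + finrank k ↥(LinearMap.range (1 - e) ⊓ Fix σ E) ≤ 1 := by
    refine le_trans ?_ h1
    have h3 : (LinearMap.range e ⊓ Fix σ E) ⊓ (LinearMap.range (1 - e) ⊓ Fix σ E) = ⊥ := by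
      rw [eq_bot_iff]
      rintro v ⟨⟨⟨u, hu⟩, -⟩, ⟨⟨w, hw⟩, -⟩⟩
      have hker : e ((1 - e) w) = 0 := by
        rw [← Module.End.mul_apply, mul_sub, mul_one, hee, sub_self]; rfl
      rw [Submodule.mem_bot, ← hu, ← hee, Module.End.mul_apply, hu, ← hw, hker]
    have h4 := Submodule.finrank_sup_add_finrank_inf_eq (LinearMap.range e ⊓ Fix σ E) (LinearMap.range (1 - e) ⊓ Fix σ E)
    rw [h3, finrank_bot, add_zero] at h4
    rw [← h4]
    exact Submodule.finrank_mono (sup_le inf_le_right inf_le_right)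
  have hD0 : LinearMap.range e = ⊥ := by
    rw [← Submodule.finrank_eq_zero (R := k), ← d1]
    have h2 : finrank k ↥(LinearMap.range (1 - e) ⊓ Fix σ E) ≠ 0 := by
      intro h
      rw [h, mul_zero] at d0
      omega
    have h3 : finrank k ↥(LinearMap.range e ⊓ Fix σ E) = 0 := by omega
    rw [h3, mul_zero]
  rw [hr] at hD0
  have hsum0 : ∀ v, ∑ z : Z, σ z v = 0 := by
    intro v
    have h2 : ∑ z : Z, σ z v ∈ Fix σ Z := by
      intro b hb
      rw [map_sum]
      refine Fintype.sum_equiv (Equiv.mulLeft (⟨b, hb⟩ : Z)) _ _ fun x => ?_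
      rw [← Module.End.mul_apply, ← map_mul]; rfl
    rwa [hD0, Submodule.mem_bot] at h2
  -- the trace identity
  have htr : ∀ v, ∑ z : Z, σ (z : A)⁻¹ (∑ h : E, σ h (σ z v)) = (Nat.card Z : k) • v := by
    intro v
    have h2 : ∀ h : E, ∑ z : Z, σ ((z : A)⁻¹ * h * z) v = if h = 1 then (Nat.card Z : k) • v else 0 := by
      intro h
      split_ifs with hh
      · subst hh
        rw [Finset.sum_congr rfl (g := fun _ => v) (fun (z : Z) _ => by
          rw [Subgroup.coe_one, mul_one, inv_mul_cancel, map_one]; rfl), Finset.sum_const, Finset.card_univ,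
          ← Nat.card_eq_fintype_card, Nat.cast_smul_eq_nsmul]
      · have hbij : Function.Bijective (fun z : Z => (⟨(h : A)⁻¹ * ((z : A)⁻¹ * h * z),
            by
              have h3 : (h : A)⁻¹ * ((z : A)⁻¹ * h * z) = ((h : A)⁻¹ * (z : A)⁻¹ * ((h : A)⁻¹)⁻¹) * z := by group
              rw [h3]
              exact Z.mul_mem (hZn.conj_mem _ (Z.inv_mem z.2) _) z.2⟩ : Z)) := by
          apply Finite.injective_iff_bijective.1
          intro a b hab
          have hab' : (h : A)⁻¹ * ((a : A)⁻¹ * h * a) = (h : A)⁻¹ * ((b : A)⁻¹ * h * b) := congrArg Subtype.val hab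
          have hab2 := mul_left_cancel hab'
          have h3 : (h : A) * ((a : A) * (b : A)⁻¹) * (h : A)⁻¹ = (a : A) * (b : A)⁻¹ := by
            calc (h : A) * ((a : A) * (b : A)⁻¹) * (h : A)⁻¹ = a * ((a : A)⁻¹ * h * a) * (b : A)⁻¹ * (h : A)⁻¹ := by group
              _ = a * ((b : A)⁻¹ * h * b) * (b : A)⁻¹ * (h : A)⁻¹ := by rw [hab2]
              _ = (a : A) * (b : A)⁻¹ := by group
          have h4 := hfpf h h.2 (fun h5 => hh (Subtype.ext h5)) _ (U.mul_mem (hZU a.2) (U.inv_mem (hZU b.2))) h3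
          exact Subtype.ext (mul_inv_eq_one.1 h4)
        have h3 : ∑ z : Z, σ ((z : A)⁻¹ * h * z) v = ∑ z : Z, σ h (σ z v) := by
          refine Fintype.sum_bijective _ hbij _ _ fun z => ?_
          show σ ((z : A)⁻¹ * h * z) v = σ (h : A) (σ ((h : A)⁻¹ * ((z : A)⁻¹ * h * z)) v)
          rw [← Module.End.mul_apply, ← map_mul, mul_inv_cancel_left]
        rw [h3, ← map_sum, hsum0, map_zero]
    calc ∑ z : Z, σ (z : A)⁻¹ (∑ h : E, σ h (σ z v)) = ∑ z : Z, ∑ h : E, σ ((z : A)⁻¹ * h * z) v := by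
          refine Finset.sum_congr rfl fun z _ => ?_
          rw [map_sum]
          refine Finset.sum_congr rfl fun h _ => ?_
          rw [map_mul, map_mul, Module.End.mul_apply, Module.End.mul_apply]
      _ = ∑ h : E, ∑ z : Z, σ ((z : A)⁻¹ * h * z) v := Finset.sum_comm
      _ = ∑ h : E, if h = 1 then (Nat.card Z : k) • v else 0 := Finset.sum_congr rfl fun h _ => h2 h
      _ = _ := by rw [Finset.sum_ite_eq' Finset.univ (1 : E)]; simp
  obtain ⟨w, hw⟩ : ∃ w : V, ∀ u ∈ Fix σ E, ∃ c : k, u = c • w := by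
    rcases Nat.eq_zero_or_pos (finrank k (Fix σ E)) with h | h
    · refine ⟨0, fun u hu => ⟨0, ?_⟩⟩
      rw [Submodule.finrank_eq_zero] at h
      rw [h, Submodule.mem_bot] at hu
      rw [hu, smul_zero]
    · have h2 : finrank k (Fix σ E) = 1 := by omega
      obtain ⟨w, hw0, hw⟩ := finrank_eq_one_iff'.1 h2
      refine ⟨w, fun u hu => ?_⟩
      obtain ⟨c, hc⟩ := hw ⟨u, hu⟩
      exact ⟨c, (congrArg Subtype.val hc).symm⟩
  have hform : ∀ v : V, ∃ c : Z → k, v = ∑ z : Z, c z • σ z w := by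
    intro v
    have h2 : ∀ z : Z, ∃ c : k, ∑ h : E, σ h (σ z v) = c • w := by
      intro z
      apply hw
      intro b hb
      rw [map_sum]
      refine Fintype.sum_equiv (Equiv.mulLeft (⟨b, hb⟩ : E)) _ _ fun x => ?_
      rw [← Module.End.mul_apply, ← map_mul]; rfl
    choose c hc using h2
    refine ⟨fun z => (Nat.card Z : k)⁻¹ * c z⁻¹, ?_⟩
    have h3 := htr v
    have h4 : v = (Nat.card Z : k)⁻¹ • ∑ z : Z, σ (z : A)⁻¹ (∑ h : E, σ h (σ z v)) := by
      rw [h3, smul_smul, inv_mul_cancel₀ hZ0, one_smul]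
    rw [h4, Finset.smul_sum]
    refine Fintype.sum_equiv (Equiv.inv Z) _ _ fun z => ?_
    rw [hc z, map_smul, smul_smul]
    show _ = ((Nat.card Z : k)⁻¹ * c (z⁻¹)⁻¹) • σ ((z⁻¹ : Z) : A) w
    rw [inv_inv, Subgroup.coe_inv]
  -- conclusion
  have hop : ∀ x ∈ U, ∀ (c : Z → k) (v : V), σ x (∑ z : Z, c z • σ z v) = ∑ z : Z, c z • σ z (σ x v) := by
    intro x hx c v
    rw [map_sum]
    refine Finset.sum_congr rfl fun z _ => ?_
    rw [map_smul, ← Module.End.mul_apply, ← Module.End.mul_apply, z.2.2 x hx]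
  intro x hx y hy
  obtain ⟨a, ha⟩ := hform (σ x w)
  obtain ⟨b, hb⟩ := hform (σ y w)
  have hw2 : σ x (σ y w) = σ y (σ x w) := by
    calc σ x (σ y w) = ∑ z : Z, b z • σ z (σ x w) := by
          conv_lhs => rw [hb]
          exact hop x hx b w
      _ = ∑ z : Z, b z • σ z (∑ z' : Z, a z' • σ z' w) := by rw [← ha]
      _ = ∑ z : Z, ∑ z' : Z, (b z * a z') • σ z (σ z' w) := by
          refine Finset.sum_congr rfl fun z _ => ?_
          rw [map_sum, Finset.smul_sum]
          refine Finset.sum_congr rfl fun z' _ => ?_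
          rw [map_smul, smul_smul]
      _ = ∑ z' : Z, ∑ z : Z, (a z' * b z) • σ z' (σ z w) := by
          rw [Finset.sum_comm]
          refine Finset.sum_congr rfl fun z' _ => Finset.sum_congr rfl fun z _ => ?_
          rw [mul_comm, ← Module.End.mul_apply, ← Module.End.mul_apply, z.2.2 z' (hZU z'.2)]
      _ = ∑ z' : Z, a z' • σ z' (∑ z : Z, b z • σ z w) := by
          refine Finset.sum_congr rfl fun z _ => ?_
          rw [map_sum, Finset.smul_sum]
          refine Finset.sum_congr rfl fun z' _ => ?_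
          rw [map_smul, smul_smul]
      _ = ∑ z' : Z, a z' • σ z' (σ y w) := by rw [← hb]
      _ = σ y (σ x w) := by
          rw [← hop y hy a w, ← ha]
  ext v
  obtain ⟨c, hc⟩ := hform v
  rw [Module.End.mul_apply, Module.End.mul_apply, hc, hop y hy, hop x hx, hop x hx, hop y hy, hw2]

/-- the general form -/
theorem lin_comm [FiniteDimensional k V] (σ : A →* Module.End k V) (U E : Subgroup A) [hU : U.Normal]
    (hU0 : (Nat.card U : k) ≠ 0) (hnil : Group.IsNilpotent U)
    (hfpf : ∀ e ∈ E, e ≠ 1 → ∀ u ∈ U, e * u * e⁻¹ = u → u = 1) (h1 : finrank k (Fix σ E) ≤ 1) :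
    ∀ x ∈ U, ∀ y ∈ U, σ x * σ y = σ y * σ x := by
  obtain ⟨e, hee, hea, heU, hr, hef⟩ := avg σ U hU0
  have hinv0 : ∀ a, ∀ u ∈ LinearMap.range (1 - e), σ a u ∈ LinearMap.range (1 - e) := by
    rintro a _ ⟨u, rfl⟩
    refine ⟨σ a u, ?_⟩
    rw [← Module.End.mul_apply, ← Module.End.mul_apply, sub_mul, mul_sub, one_mul, mul_one, hea]
  have h2 := lin_comm_aux (restr σ _ hinv0) U E hU0 hnil hfpf (by
    rw [eq_bot_iff]
    rintro ⟨_, ⟨v, rfl⟩⟩ hv
    rw [Submodule.mem_bot]
    apply Subtype.ext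
    show (1 - e) v = 0
    have h1 := hef ((1 - e) v) (fun z hz => congrArg Subtype.val (hv z hz))
    rw [← Module.End.mul_apply, mul_sub, mul_one, hee, sub_self] at h1
    exact h1.symm) (by
    refine le_trans ?_ h1
    let f : Fix (restr σ _ hinv0) E →ₗ[k] Fix σ E :=
      { toFun := fun v => ⟨((v : LinearMap.range (1 - e)) : V), fun b hb => congrArg Subtype.val (v.2 b hb)⟩
        map_add' := fun _ _ => rfl
        map_smul' := fun _ _ => rfl }
    exact LinearMap.finrank_le_finrank_of_injective (f := f) (fun a b hab => Subtype.ext (Subtype.ext (congrArg (fun x : Fix σ E => (x : V)) hab))))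
  intro x hx y hy
  ext v
  have h3 : v = e v + (1 - e) v := by rw [LinearMap.sub_apply]; simp
  have h4 : ∀ u ∈ U, ∀ v, σ u (e v) = e v := by
    intro u hu v
    rw [← Module.End.mul_apply, heU u hu]
  have h5 : σ x (σ y ((1 - e) v)) = σ y (σ x ((1 - e) v)) :=
    congrArg Subtype.val (LinearMap.congr_fun (h2 x hx y hy) (⟨(1 - e) v, ⟨v, rfl⟩⟩ : LinearMap.range (1 - e)))
  rw [Module.End.mul_apply, Module.End.mul_apply, h3, map_add, map_add, map_add, map_add, h5, h4 y hy, h4 x hx, h4 y hy]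

end Lin

section Elem

variable {A : Type*} [Group A] [Finite A] (U E : Subgroup A) [hU : U.Normal] (hnil : Group.IsNilpotent U)
  (hfpf : ∀ e ∈ E, e ≠ 1 → ∀ u ∈ U, e * u * e⁻¹ = u → u = 1)

include hnil hfpf in
theorem elem_comm {V : Type*} [CommGroup V] [Finite V] {p : ℕ} (hp : p.Prime) (hexp : ∀ x : V, x ^ p = 1)
    (hcop : ¬ p ∣ Nat.card U) (θ : A →* MulAut V) (h1 : Nat.card (fx θ E) ≤ p) :
    ∀ x ∈ U, ∀ y ∈ U, ∀ v, θ x (θ y v) = θ y (θ x v) := by
  haveI := Fact.mk hp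
  obtain ⟨mod⟩ : Nonempty (Module (ZMod p) (Additive V)) := ⟨AddCommGroup.zmodModule (n := p) (by
    intro x
    obtain ⟨x, rfl⟩ := Additive.ofMul.surjective x
    rw [← ofMul_pow, hexp]; rfl)⟩
  let L : A → Module.End (ZMod p) (Additive V) := fun a => AddMonoidHom.toZModLinearMap p (MonoidHom.toAdditive (θ a).toMonoidHom)
  have hL : ∀ (a : A) (h : V), L a (Additive.ofMul h) = Additive.ofMul (θ a h) := fun a h => rfl
  have hL1 : L 1 = 1 := by
    apply LinearMap.ext
    intro x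
    obtain ⟨x, rfl⟩ := Additive.ofMul.surjective x
    rw [hL, map_one]; rfl
  have hLm : ∀ a b, L (a * b) = L a * L b := by
    intro a b
    apply LinearMap.ext
    intro x
    obtain ⟨x, rfl⟩ := Additive.ofMul.surjective x
    rw [Module.End.mul_apply, hL, hL, hL, map_mul]; rfl
  let σ : A →* Module.End (ZMod p) (Additive V) := { toFun := L, map_one' := hL1, map_mul' := hLm }
  haveI : Finite (Additive V) := inferInstanceAs (Finite V)
  haveI : FiniteDimensional (ZMod p) (Additive V) := Module.Finite.of_finite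
  have hc : ∀ B : Subgroup A, Nat.card (fx θ B) = p ^ finrank (ZMod p) (Fix σ B) := by
    intro B
    have h1 : Nat.card (Fix σ B) = Nat.card (ZMod p) ^ finrank (ZMod p) (Fix σ B) := Module.natCard_eq_pow_finrank
    rw [Nat.card_zmod] at h1
    rw [← h1]
    exact Nat.card_congr ⟨fun x => ⟨Additive.ofMul (x : V), fun b hb => congrArg Additive.ofMul (x.2 b hb)⟩,
      fun y => ⟨Additive.toMul (y : Additive V), fun b hb => congrArg Additive.toMul (y.2 b hb)⟩, fun _ => rfl, fun _ => rfl⟩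
  have h2 := lin_comm σ U E (by
    intro h
    exact hcop ((ZMod.natCast_eq_zero_iff _ _).1 h)) hnil hfpf (by
    rw [hc] at h1
    by_contra h3
    push Not at h3
    have h4 : p ^ 2 ≤ p ^ finrank (ZMod p) (Fix σ E) := Nat.pow_le_pow_right hp.pos h3
    have h5 := hp.one_lt
    nlinarith)
  intro x hx y hy v
  have h3 := LinearMap.congr_fun (h2 x hx y hy) (Additive.ofMul v)
  exact congrArg Additive.toMul h3

end Elem

end Cfsg.Agent.H10.FrF8
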