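import Mathlib
import Cfsg.Agent.H10_FrF8

/-!
H10_FrF9: Frobenius groups acting coprimely on nilpotent groups with cyclic fixed points of the complement.
-/

set_option autoImplicit false
set_option linter.style.haveILetI false
set_option linter.unusedSectionVars false

namespace Cfsg.Agent.H10.FrF9

open Cfsg.Agent.H10.FrF5 Cfsg.Agent.H10.FrF6 Cfsg.Agent.H10.FrF8
open scoped commutatorElement

section Nq

variable {H : Type*} [Group H]

/-- the subgroup `H' H^q` -/
def Nq (q : ℕ) (H : Type*) [Group H] : Subgroup H :=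
  ((QuotientGroup.mk' (powMonoidHom q : Abelianization H →* Abelianization H).range).comp Abelianization.of).ker

theorem mem_Nq {q : ℕ} {n : H} : n ∈ Nq q H ↔ ∃ m : H, (m ^ q)⁻¹ * n ∈ commutator H := by
  rw [Nq, MonoidHom.mem_ker]
  show ((Abelianization.of n : Abelianization H) :
    Abelianization H ⧸ (powMonoidHom q : Abelianization H →* Abelianization H).range) = 1 ↔ _
  rw [QuotientGroup.eq_one_iff]
  constructor
  · rintro ⟨y, hy⟩
    obtain ⟨m, rfl⟩ := QuotientGroup.mk_surjective y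
    refine ⟨m, ?_⟩
    rw [← QuotientGroup.eq]
    exact hy
  · rintro ⟨m, hm⟩
    refine ⟨Abelianization.of m, ?_⟩
    rw [← QuotientGroup.eq] at hm
    exact hm

instance (q : ℕ) : (Nq q H).Normal := by
  unfold Nq; infer_instance

theorem comm_mem (q : ℕ) (x y : H) : x * y * x⁻¹ * y⁻¹ ∈ Nq q H := by
  rw [mem_Nq]
  refine ⟨1, ?_⟩
  rw [one_pow, inv_one, one_mul]
  exact Subgroup.commutator_mem_commutator (Subgroup.mem_top x) (Subgroup.mem_top y)

theorem pow_mem (q : ℕ) (x : H) : x ^ q ∈ Nq q H := by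
  rw [mem_Nq]
  exact ⟨x, by rw [inv_mul_cancel]; exact one_mem _⟩

theorem map_mem (q : ℕ) (θ : MulAut H) : ∀ n ∈ Nq q H, θ n ∈ Nq q H := by
  intro n hn
  rw [mem_Nq] at hn ⊢
  obtain ⟨m, hm⟩ := hn
  refine ⟨θ m, ?_⟩
  have h1 : (θ m ^ q)⁻¹ * θ n = θ ((m ^ q)⁻¹ * n) := by rw [map_mul, map_inv, map_pow]
  rw [h1]
  have h2 : (commutator H).map (θ : H →* H) = commutator H :=
    Subgroup.characteristic_iff_map_eq.1 (inferInstance : (commutator H).Characteristic) θ
  rw [← h2]
  exact ⟨_, hm, rfl⟩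

theorem Nq_le {q : ℕ} {T : Subgroup H} [T.Normal] (hc : ∀ x y : H, x * y * x⁻¹ * y⁻¹ ∈ T) (hp : ∀ x : H, x ^ q ∈ T) : Nq q H ≤ T := by
  intro n hn
  obtain ⟨m, hm⟩ := mem_Nq.1 hn
  have h1 : commutator H ≤ T := by
    rw [commutator_def, Subgroup.commutator_le]
    intro x _ y _
    exact hc x y
  have h2 := T.mul_mem (hp m) (h1 hm)
  rwa [mul_inv_cancel_left] at h2

end Nq

section Main

variable {A H : Type*} [Group A] [Group H]

theorem range_fx [Finite A] [Finite H] (θ : A →* MulAut H) (N : Subgroup H) [hN : N.Normal] (hNθ : ∀ a, ∀ n ∈ N, θ a n ∈ N)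
    (B : Subgroup A) (hcop : (Nat.card B).Coprime (Nat.card N)) (hs : Group.IsSolvable N) :
    ((QuotientGroup.mk' N).comp (fx θ B).subtype).range = fx (quo θ N hNθ) B := by
  ext z
  constructor
  · rintro ⟨x, rfl⟩ b hb
    show quo θ N hNθ b ((x : H) : H ⧸ N) = ((x : H) : H ⧸ N)
    rw [quo_apply, x.2 b hb]
  · intro hz
    obtain ⟨h, rfl⟩ := QuotientGroup.mk_surjective z
    obtain ⟨n, hn, hfix⟩ := lift_fixed θ B N hNθ hcop hs h (by
      intro b hb
      have := hz b hb
      rw [quo_apply, eq_comm, QuotientGroup.eq] at this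
      exact this)
    refine ⟨⟨h * n, hfix⟩, ?_⟩
    show ((h * n : H) : H ⧸ N) = h
    rw [eq_comm, QuotientGroup.eq, inv_mul_cancel_left]
    exact hn

/-- maximal subgroups of nilpotent groups -/
theorem coatom_facts [Finite H] (hnil : Group.IsNilpotent H) {T : Subgroup H} (hT : IsCoatom T) :
    T.Normal ∧ ∃ q : ℕ, q.Prime ∧ (∀ x y : H, x * y * x⁻¹ * y⁻¹ ∈ T) ∧ ∀ x : H, x ^ q ∈ T := by
  classical
  have hTn : T.Normal := Subgroup.NormalizerCondition.normal_of_coatom T Group.normalizerCondition_of_isNilpotent hT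
  refine ⟨hTn, ?_⟩
  have hidx : T.index ≠ 1 := fun h => hT.1 (Subgroup.index_eq_one.1 h)
  obtain ⟨q, hq, hqd⟩ := Nat.exists_prime_and_dvd hidx
  haveI := Fact.mk hq
  obtain ⟨x, hx⟩ := exists_prime_orderOf_dvd_card' (G := H ⧸ T) q hqd
  have hx1 : x ≠ 1 := by
    rintro rfl
    rw [orderOf_one] at hx
    exact hq.one_lt.ne hx
  have hall : Subgroup.zpowers x = ⊤ := by
    have h1 : T < (Subgroup.zpowers x).comap (QuotientGroup.mk' T) := by
      refine lt_of_le_of_ne ?_ ?_
      · intro t ht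
        rw [Subgroup.mem_comap]
        have : QuotientGroup.mk' T t = 1 := (QuotientGroup.eq_one_iff t).2 ht
        rw [this]; exact one_mem _
      · intro h
        obtain ⟨y, rfl⟩ := QuotientGroup.mk_surjective x
        apply hx1
        rw [QuotientGroup.eq_one_iff, h]
        exact Subgroup.mem_zpowers _
    have h2 := hT.2 _ h1
    rw [eq_top_iff]
    intro y _
    obtain ⟨y, rfl⟩ := QuotientGroup.mk_surjective y
    have : y ∈ (Subgroup.zpowers x).comap (QuotientGroup.mk' T) := by rw [h2]; trivial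
    exact this
  refine ⟨q, hq, ?_, ?_⟩
  · intro a b
    rw [← QuotientGroup.eq_one_iff]
    have ha : (a : H ⧸ T) ∈ Subgroup.zpowers x := by rw [hall]; trivial
    have hb : (b : H ⧸ T) ∈ Subgroup.zpowers x := by rw [hall]; trivial
    obtain ⟨i, hi⟩ := ha
    obtain ⟨j, hj⟩ := hb
    show (a : H ⧸ T) * b * (a : H ⧸ T)⁻¹ * (b : H ⧸ T)⁻¹ = 1
    rw [← hi, ← hj]
    simp only
    rw [← zpow_add, ← zpow_neg, ← zpow_add, ← zpow_neg, ← zpow_add]
    have : i + j + -i + -j = 0 := by ring
    rw [this, zpow_zero]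
  · intro a
    rw [← QuotientGroup.eq_one_iff, QuotientGroup.mk_pow]
    have ha : (a : H ⧸ T) ∈ Subgroup.zpowers x := by rw [hall]; trivial
    obtain ⟨i, hi⟩ := ha
    rw [← hi]
    simp only
    rw [← zpow_natCast, ← zpow_mul, mul_comm, zpow_mul, zpow_natCast, ← hx, pow_orderOf_eq_one, one_zpow]

theorem comm_trivial [Finite A] [Finite H] (U E : Subgroup A) [hU : U.Normal] (hnil : Group.IsNilpotent U)
    (hfpf : ∀ e ∈ E, e ≠ 1 → ∀ u ∈ U, e * u * e⁻¹ = u → u = 1) (θ : A →* MulAut H) (hH : Group.IsNilpotent H)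
    (hcop : (Nat.card H).Coprime (Nat.card A)) (hcyc : IsCyclic (fx θ E)) : ∀ b ∈ ⁅U, U⁆, ∀ h, θ b h = h := by
  classical
  have hsub : ∀ (B : Subgroup A) (N : Subgroup H), (Nat.card B).Coprime (Nat.card N) := fun B N =>
    (Nat.Coprime.coprime_dvd_left (Subgroup.card_subgroup_dvd_card N)
      (Nat.Coprime.coprime_dvd_right (Subgroup.card_subgroup_dvd_card B) hcop)).symm
  haveI := hH
  -- trivial action on all elementary abelian quotients
  have key : ∀ q : ℕ, q.Prime → ∀ b ∈ ⁅U, U⁆, ∀ h : H, h⁻¹ * θ b h ∈ Nq q H := by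
    intro q hq
    by_cases hqd : q ∣ Nat.card H
    · letI cg : CommGroup (H ⧸ Nq q H) :=
        { (inferInstance : Group (H ⧸ Nq q H)) with
          mul_comm := by
            intro x y
            obtain ⟨x, rfl⟩ := QuotientGroup.mk_surjective x
            obtain ⟨y, rfl⟩ := QuotientGroup.mk_surjective y
            show ((x * y : H) : H ⧸ Nq q H) = ((y * x : H) : H ⧸ Nq q H)
            rw [eq_comm, QuotientGroup.eq]
            have h1 := (inferInstance : (Nq q H).Normal).conj_mem _ (comm_mem q x y) (y * x)⁻¹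
            have e : (y * x)⁻¹ * (x * y * x⁻¹ * y⁻¹) * ((y * x)⁻¹)⁻¹ = (y * x)⁻¹ * (x * y) := by group
            rwa [e] at h1 }
      have hN := fun a => map_mem q (θ a)
      have hr := range_fx θ (Nq q H) hN E (hsub _ _) inferInstance
      have hexp : ∀ x : H ⧸ Nq q H, x ^ q = 1 := by
        intro x
        obtain ⟨x, rfl⟩ := QuotientGroup.mk_surjective x
        exact (QuotientGroup.eq_one_iff _).2 (pow_mem q x)
      have hcard : Nat.card (fx (quo θ (Nq q H) hN) E) ≤ q := by
        rw [← hr]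
        haveI := hcyc
        haveI : IsCyclic ((QuotientGroup.mk' (Nq q H)).comp (fx θ E).subtype).range :=
          isCyclic_of_surjective _ (MonoidHom.rangeRestrict_surjective ((QuotientGroup.mk' (Nq q H)).comp (fx θ E).subtype))
        obtain ⟨g, hg⟩ := IsCyclic.exists_ofOrder_eq_natCard (α := ((QuotientGroup.mk' (Nq q H)).comp (fx θ E).subtype).range)
        rw [← hg]
        apply orderOf_le_of_pow_eq_one hq.pos
        exact Subtype.ext (hexp g)
      have h2 := elem_comm U E hnil hfpf (V := H ⧸ Nq q H) hq hexp (fun h => hq.one_lt.ne'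
        (Nat.eq_one_of_dvd_coprimes hcop hqd (h.trans (Subgroup.card_subgroup_dvd_card U)))) (quo θ (Nq q H) hN) hcard
      let B : Subgroup A :=
        { carrier := {b | ∀ v, quo θ (Nq q H) hN b v = v}
          one_mem' := fun v => by rw [map_one]; rfl
          mul_mem' := fun {a b} ha hb v => by rw [map_mul, MulAut.mul_apply, hb, ha]
          inv_mem' := fun {a} ha v => by
            rw [map_inv]
            conv_lhs => rw [← ha v]
            rw [MulAut.inv_apply_self] }
      have hB : ⁅U, U⁆ ≤ B := by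
        rw [Subgroup.commutator_le]
        intro x hx y hy v
        have h3 := h2 x hx y hy (quo θ (Nq q H) hN (y * x)⁻¹ v)
        rw [← MulAut.mul_apply, ← MulAut.mul_apply, ← map_mul, ← map_mul, ← MulAut.mul_apply, ← MulAut.mul_apply, ← map_mul,
          ← map_mul] at h3
        have e1 : x * y * (y * x)⁻¹ = ⁅x, y⁆ := by rw [commutatorElement_def]; group
        have e2 : y * x * (y * x)⁻¹ = 1 := by group
        rw [e1, e2, map_one] at h3
        exact h3
      intro b hb h
      have h3 := hB hb (h : H ⧸ Nq q H)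
      rw [quo_apply, eq_comm, QuotientGroup.eq] at h3
      exact h3
    · intro b _ h
      have h1 : Nat.Coprime (Nat.card H) q := ((Nat.Prime.coprime_iff_not_dvd hq).2 hqd).symm
      obtain ⟨y, hy⟩ := (powCoprime h1).surjective (h⁻¹ * θ b h)
      rw [← hy]
      exact pow_mem q y
  intro b hb
  by_contra hne
  push Not at hne
  obtain ⟨h₀, hh₀⟩ := hne
  have hCtop : fx θ ⁅U, U⁆ ≠ ⊤ := by
    intro h
    apply hh₀
    have : h₀ ∈ fx θ ⁅U, U⁆ := by rw [h]; trivial
    exact this b hb
  obtain ⟨T, hT, hCT⟩ := (eq_top_or_exists_le_coatom (fx θ ⁅U, U⁆)).resolve_left hCtop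
  obtain ⟨hTn, q, hq, hTc, hTp⟩ := coatom_facts hH hT
  have hNT := Nq_le hTc hTp
  apply hT.1
  rw [eq_top_iff]
  intro m _
  obtain ⟨n, hn, hfix⟩ := lift_fixed θ ⁅U, U⁆ (Nq q H) (fun a => map_mem q (θ a)) (hsub _ _) inferInstance m
    (fun b hb => key q hq b hb m)
  have h1 := T.mul_mem (hCT hfix) (T.inv_mem (hNT hn))
  rwa [mul_inv_cancel_right] at h1

end Main

end Cfsg.Agent.H10.FrF9
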