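import Mathlib
import Cfsg.Prelude.Def_Characters
import Cfsg.Agent.H3_Clifford2
import Cfsg.Agent.H3_CharQuot
import Cfsg.Agent.H10_OOClif
import Cfsg.Agent.H10_OOGrp
import Cfsg.Agent.H10_BlockHZ
import Cfsg.Agent.H10_BlockKn

/-!
H10_OOClif2: characters above an invariant character when the quotient is abelian (S1490, S1491).
-/

set_option autoImplicit false
set_option linter.unusedSectionVars false

namespace Cfsg.Agent.H10.OOClif2

open Cfsg Cfsg.Agent.H3.CharBasic Cfsg.Agent.H3.CharIrr Cfsg.Agent.H3.CharComplete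
  Cfsg.Agent.H3.CharMult Cfsg.Agent.H3.CharInd Cfsg.Agent.H3.CharInt Cfsg.Agent.H3.Clifford
  Cfsg.Agent.H3.CharQuot
open scoped ComplexConjugate

variable {G : Type*} [Group G] {N : Subgroup G} (hN : N.Normal) [Fintype G] [Fintype N]

include hN in
/-- irreducible characters over the trivial character of `N`, `G/N` abelian, are linear -/
theorem linear_over (hab : ∀ x y : G, x * y * x⁻¹ * y⁻¹ ∈ N) {l : G → ℂ} (hl : IsIrrCharacter G l)
    (h : classInner (fun n : N => l n) (fun _ => 1) ≠ 0) : l 1 = 1 ∧ ∀ n : N, l n = 1 := by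
  have h1 := clifford_invariant hN hl (isIrr_one (G := N)) h (fun g => rfl)
  have h2 : ∀ n ∈ N, l n = l 1 := by
    intro n hn
    have e1 := congrFun h1 ⟨n, hn⟩
    have e2 := congrFun h1 1
    simp only [Pi.smul_apply, smul_eq_mul, mul_one, Subgroup.coe_one] at e1 e2
    rw [e1, e2]
  obtain ⟨l', hl', e⟩ := IsIrr.descend hl N h2
  have h3 : l' 1 = 1 := by
    apply IsIrr.one_of_comm _ hl'
    intro a b
    obtain ⟨x, rfl⟩ := QuotientGroup.mk_surjective a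
    obtain ⟨y, rfl⟩ := QuotientGroup.mk_surjective b
    rw [← QuotientGroup.mk_mul, ← QuotientGroup.mk_mul, QuotientGroup.eq]
    have h4 := hab y⁻¹ x⁻¹
    have e : y⁻¹ * x⁻¹ * y⁻¹⁻¹ * x⁻¹⁻¹ = (x * y)⁻¹ * (y * x) := by group
    rwa [e] at h4
  have h5 : l 1 = 1 := by rw [← e 1, QuotientGroup.mk_one, h3]
  exact ⟨h5, fun n => by rw [h2 n n.2, h5]⟩

include hN in
theorem twist (hab : ∀ x y : G, x * y * x⁻¹ * y⁻¹ ∈ N) {θ : N → ℂ} (hθ : IsIrrCharacter N θ)
    (hinv : ∀ g : G, cj hN g θ = θ) {ψ ψ' : G → ℂ} (hψ : IsIrrCharacter G ψ) (hψ' : IsIrrCharacter G ψ')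
    (h1 : classInner (fun n : N => ψ n) θ ≠ 0) (h2 : classInner (fun n : N => ψ' n) θ ≠ 0) :
    ∃ l : G → ℂ, IsIrrCharacter G l ∧ l 1 = 1 ∧ (∀ n : N, l n = 1) ∧ ψ' = l * ψ := by
  classical
  haveI := Fintype.ofFinite (IrrCharacter G)
  have e1 := clifford_invariant hN hψ hθ h1 hinv
  have e2 := clifford_invariant hN hψ' hθ h2 hinv
  have e3 : classInner (indFun N (fun n : N => ψ n)) ψ' ≠ 0 := by
    rw [frobenius N _ ψ' (IsIrr.isClass hψ'), e1, e2, ci_smul_left, ci_smul_right, ci_irr_self hθ, mul_one]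
    exact mul_ne_zero h1 ((map_ne_zero _).2 h2)
  have e4 : indFun N (fun n : N => ψ n) = indFun N (fun _ => 1) * ψ := by
    rw [← ind_mul_res N (fun _ => 1) ψ (IsIrr.isClass hψ)]
    congr 1
    ext n; simp
  have e5 : indFun N (fun _ => 1) = fun g => ∑ l : IrrCharacter G,
      classInner (indFun N (fun _ => 1)) (l : G → ℂ) * (l : G → ℂ) g := by
    ext g
    exact expand_apply _ (ind_isClass N _) g
  have e6 : indFun N (fun _ => 1) * ψ = ∑ l : IrrCharacter G,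
      classInner (indFun N (fun _ => 1)) (l : G → ℂ) • ((l : G → ℂ) * ψ) := by
    ext g
    rw [Pi.mul_apply, congrFun e5 g, Finset.sum_apply, Finset.sum_mul]
    refine Finset.sum_congr rfl fun l _ => ?_
    simp only [Pi.smul_apply, Pi.mul_apply, smul_eq_mul]
    ring
  rw [e4, e6, ci_sum_left] at e3
  obtain ⟨l, -, hl⟩ := Finset.exists_ne_zero_of_sum_ne_zero e3
  rw [ci_smul_left] at hl
  have hl1 := left_ne_zero_of_mul hl
  have hl2 := right_ne_zero_of_mul hl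
  rw [constituent_ind_iff (IsIrr.isCharacter l.2)] at hl1
  obtain ⟨h3, h4⟩ := linear_over hN hab l.2 hl1
  refine ⟨l, l.2, h3, h4, ?_⟩
  by_contra hne
  exact hl2 (ci_irr_ne (IsIrr.mul_linear hψ (IsIrr.isCharacter l.2) h3) hψ' (fun h => hne h.symm))

include hN in
/-- the structure of the induced character when `G/N` is abelian and θ is invariant -/
theorem ind_struct (hab : ∀ x y : G, x * y * x⁻¹ * y⁻¹ ∈ N) {θ : N → ℂ} (hθ : IsIrrCharacter N θ)
    (hinv : ∀ g : G, cj hN g θ = θ) :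
    ∃ (e : ℕ) (C : Finset (G → ℂ)), 0 < e ∧ (∀ ψ, ψ ∈ C ↔ IsIrrCharacter G ψ ∧ classInner (fun n : N => ψ n) θ ≠ 0) ∧
      (∀ ψ ∈ C, classInner (fun n : N => ψ n) θ = e) ∧
      e ^ 2 * C.card * Nat.card N = Nat.card G ∧ indFun N θ = (e : ℂ) • ∑ χ ∈ C, χ ∧
      ∀ χ ∈ C, χ 1 = (e : ℂ) * θ 1 := by
  classical
  haveI := Fintype.ofFinite (IrrCharacter G)
  obtain ⟨ψ₀, hψ₀, h0⟩ := exists_constituent_ind (G := G) hθ
  rw [constituent_ind_iff (IsIrr.isCharacter hψ₀)] at h0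
  obtain ⟨e, he⟩ := ci_char_nat (IsChar.res (IsIrr.isCharacter hψ₀) N) (IsIrr.isCharacter hθ)
  have he0 : 0 < e := Nat.pos_of_ne_zero fun h => h0 (by rw [he, h]; simp)
  have key : ∀ ψ, IsIrrCharacter G ψ → classInner (fun n : N => ψ n) θ ≠ 0 →
      classInner (fun n : N => ψ n) θ = e := by
    intro ψ hψ h1
    obtain ⟨l, -, -, hl, e1⟩ := twist hN hab hθ hinv hψ₀ hψ h0 h1
    rw [← he, e1]
    congr 1
    ext n
    rw [Pi.mul_apply, hl, one_mul]
  set C : Finset (G → ℂ) := Finset.image (Subtype.val : IrrCharacter G → (G → ℂ)) (Finset.univ.filter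
    (fun ψ : IrrCharacter G => classInner (fun n : N => (ψ : G → ℂ) n) θ ≠ 0)) with hC
  have hmem : ∀ ψ, ψ ∈ C ↔ IsIrrCharacter G ψ ∧ classInner (fun n : N => ψ n) θ ≠ 0 := by
    intro ψ
    rw [hC, Finset.mem_image]
    constructor
    · rintro ⟨φ, hφ, rfl⟩
      exact ⟨φ.2, (Finset.mem_filter.1 hφ).2⟩
    · rintro ⟨h1, h2⟩
      exact ⟨⟨ψ, h1⟩, Finset.mem_filter.2 ⟨Finset.mem_univ _, h2⟩, rfl⟩
  have hind : indFun N θ = (e : ℂ) • ∑ χ ∈ C, χ := by
    rw [hC, Finset.sum_image (fun a _ b _ h => Subtype.ext h), Finset.sum_filter, Finset.smul_sum]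
    ext g
    rw [expand_apply _ (ind_isClass N θ) g, Finset.sum_apply]
    refine Finset.sum_congr rfl fun ψ _ => ?_
    by_cases h : classInner (fun n : N => (ψ : G → ℂ) n) θ ≠ 0
    · rw [if_pos h, Pi.smul_apply, smul_eq_mul, frobenius N θ _ (IsIrr.isClass ψ.2), ← ci_conj_symm,
        key ψ ψ.2 h, Complex.conj_natCast]
    · rw [if_neg h]
      have h' : classInner (indFun N θ) (ψ : G → ℂ) = 0 := by
        by_contra h2
        exact h ((constituent_ind_iff (IsIrr.isCharacter ψ.2)).1 h2)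
      rw [h', zero_mul, smul_zero]; rfl
  have hdeg : ∀ χ ∈ C, χ 1 = (e : ℂ) * θ 1 := by
    intro χ hχ
    obtain ⟨h1, h2⟩ := (hmem χ).1 hχ
    have h3 := congrFun (clifford_invariant hN h1 hθ h2 hinv) 1
    simp only [Pi.smul_apply, smul_eq_mul, Subgroup.coe_one] at h3
    rw [h3, key χ h1 h2]
  refine ⟨e, C, he0, hmem, fun ψ hψ => key ψ ((hmem ψ).1 hψ).1 ((hmem ψ).1 hψ).2, ?_, hind, hdeg⟩
  have h1 := congrFun hind 1
  rw [ind_one, Pi.smul_apply, smul_eq_mul, Finset.sum_apply, Finset.sum_congr rfl hdeg, Finset.sum_const,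
    nsmul_eq_mul] at h1
  have hθ1 := IsIrr.one_ne_zero hθ
  have h2 : (N.index : ℂ) = e ^ 2 * C.card := by
    apply mul_right_cancel₀ hθ1
    rw [h1]; ring
  have h3 : N.index = e ^ 2 * C.card := by exact_mod_cast h2
  rw [← h3, Subgroup.index_mul_card]

/-- S1490, with the information needed for S1491 -/
theorem ind_full {θ : N → ℂ} (hθ : IsIrrCharacter N θ) (T : Subgroup G) (hT : T = inertia hN θ)
    (hab : ∀ x ∈ T, ∀ y ∈ T, x * y * x⁻¹ * y⁻¹ ∈ N) :
    ∃ (e : ℕ) (C : Finset (G → ℂ)), 0 < e ∧ (∀ χ ∈ C, IsIrrCharacter G χ) ∧ e ^ 2 * C.card * Nat.card N = Nat.card T ∧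
      indFun N θ = (e : ℂ) • ∑ χ ∈ C, χ ∧ (∀ χ ∈ C, χ 1 = (T.index : ℂ) * e * θ 1) ∧
      ((∃ ψ : T → ℂ, IsIrrCharacter T ψ ∧ ∀ n : T, (h : (n : G) ∈ N) → ψ n = θ ⟨n, h⟩) → e = 1) := by
  classical
  haveI := Fintype.ofFinite T
  have hNT : N ≤ T := by rw [hT]; exact le_inertia hN (IsIrr.isClass hθ)
  haveI := Fintype.ofFinite (N.subgroupOf T)
  have hN' : (N.subgroupOf T).Normal := hN.subgroupOf T
  set θ' : N.subgroupOf T → ℂ := fun x => θ ⟨(x : T), Subgroup.mem_subgroupOf.mp x.2⟩ with hθ'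
  have hθ'irr : IsIrrCharacter (N.subgroupOf T) θ' :=
    (isIrr_comp_iff (Subgroup.subgroupOfEquivOfLe hNT)).mpr hθ
  have hinv : ∀ g : T, cj hN' g θ' = θ' := by
    intro g
    have h2 : (g : G) ∈ inertia hN θ := by rw [← hT]; exact g.2
    rw [mem_inertia] at h2
    ext x
    exact congrFun h2 ⟨(x : T), Subgroup.mem_subgroupOf.mp x.2⟩
  obtain ⟨e, C, he, hmem, hmul, hcard, hind, hdeg⟩ := ind_struct hN' (fun x y => by
    rw [Subgroup.mem_subgroupOf]; exact hab x x.2 y y.2) hθ'irr hinv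
  have hconv : ∀ ψ : T → ℂ, classInner (fun x : N.subgroupOf T => ψ x) θ' =
      classInner (fun n : N => ψ ⟨(n : G), hNT n.2⟩) θ := fun ψ => by
    rw [← ci_subgroupOf hNT (fun m : N => ψ ⟨(m : G), hNT m.2⟩) θ]
  have hfull : ∀ ψ ∈ C, IsIrrCharacter G (indFun T ψ) ∧ ∀ ψ' ∈ C, indFun T ψ = indFun T ψ' → ψ = ψ' := by
    intro ψ hψ
    obtain ⟨h1, h2⟩ := (hmem ψ).1 hψ
    rw [hconv] at h2
    obtain ⟨h3, h4⟩ := OOClif.corr_full hN hθ T hT hNT h1 h2
    refine ⟨h3, fun ψ' hψ' h5 => ?_⟩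
    obtain ⟨h6, h7⟩ := (hmem ψ').1 hψ'
    rw [hconv] at h7
    exact h4 ψ' h6 h7 h5
  have hinj : Set.InjOn (indFun T) (C : Set (T → ℂ)) := fun ψ hψ ψ' hψ' h => (hfull ψ hψ).2 ψ' hψ' h
  refine ⟨e, C.image (indFun T), he, ?_, ?_, ?_, ?_, ?_⟩
  · intro χ hχ
    obtain ⟨ψ, hψ, rfl⟩ := Finset.mem_image.1 hχ
    exact (hfull ψ hψ).1
  · rw [Finset.card_image_of_injOn hinj, ← hcard]
    congr 1
    exact (Nat.card_congr (Subgroup.subgroupOfEquivOfLe hNT).toEquiv).symm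
  · rw [Finset.sum_image (fun a ha b hb h => hinj ha hb h), ← ind_trans N T hNT θ]
    show indFun T (indFun (N.subgroupOf T) θ') = _
    rw [hind, ind_smul, ind_sum]
  · intro χ hχ
    obtain ⟨ψ, hψ, rfl⟩ := Finset.mem_image.1 hχ
    rw [ind_one, hdeg ψ hψ]
    have : θ' 1 = θ 1 := rfl
    rw [this]; ring
  · rintro ⟨ψ, hψ, hψN⟩
    have h1 : (fun x : N.subgroupOf T => ψ x) = θ' := by
      ext x
      exact hψN x (Subgroup.mem_subgroupOf.mp x.2)
    have h2 : classInner (fun x : N.subgroupOf T => ψ x) θ' = 1 := by rw [h1, ci_irr_self hθ'irr]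
    have h3 : ψ ∈ C := (hmem ψ).2 ⟨hψ, by rw [h2]; exact one_ne_zero⟩
    have h4 := hmul ψ h3
    rw [h2] at h4
    exact_mod_cast h4.symm

/-- values at `q`-elements do not vanish when the degree is prime to `q` -/
theorem value_ne_zero {q : ℕ} [hq : Fact q.Prime] {χ : G → ℂ} (hχ : IsCharacter G χ) {d : ℕ} (hd : χ 1 = d)
    (hqd : ¬ q ∣ d) {x : G} (hx : ∃ k : ℕ, orderOf x = q ^ k) : χ x ≠ 0 := by
  intro h0
  obtain ⟨M, hM⟩ := H10.BlockKn.exists_modular hq.out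
  haveI := hM.2.1
  obtain ⟨k, hk⟩ := hx
  have h1 := H10.BlockHZ.char_sub_mem hM hχ (x := x) (y := 1) (Commute.one_right x) ⟨k, hk⟩
    (by rw [orderOf_one]; exact fun h => hq.out.one_lt.ne' (Nat.dvd_one.1 h))
  rw [mul_one, h0, hd, zero_sub] at h1
  have h2 := H10.BlockLoc.ideal_neg h1
  rw [neg_neg] at h2
  exact hqd ((H10.BlockLoc.ideal_natCast_iff hM d).1 h2)

include hN in
theorem normal_of_comm (hab : ∀ x y : G, x * y * x⁻¹ * y⁻¹ ∈ N) {K : Subgroup G} (hNK : N ≤ K) : K.Normal := by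
  refine ⟨fun k hk g => ?_⟩
  have h1 := K.mul_mem (hNK (hab g k)) hk
  have e : g * k * g⁻¹ * k⁻¹ * k = g * k * g⁻¹ := by group
  rwa [e] at h1

omit [Fintype G] [Fintype N] in
/-- conjugacy of `q`-elements in a coset of a normal `q'`-subgroup -/
theorem conj_of_comm [Finite G] {q : ℕ} [hq : Fact q.Prime] (hqN : ¬ q ∣ Nat.card N)
    {x : G} (hx : ∃ k : ℕ, orderOf x = q ^ k) {g : G} (hg : g * x * g⁻¹ * x⁻¹ ∈ N) (hxN : x ∈ Subgroup.normalizer (N : Set G)) :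
    ∃ a ∈ N, a * (g * x * g⁻¹) * a⁻¹ = x := by
  obtain ⟨k, hk⟩ := hx
  have hcop : Nat.Coprime (orderOf x) (Nat.card N) := by
    rw [hk]; exact Nat.Coprime.pow_left k ((Nat.Prime.coprime_iff_not_dvd hq.out).2 hqN)
  obtain ⟨a, ha, c, hc, hcx, h1⟩ := OOGrp.coset_conj hxN hcop hg
  have h2 : g * x * g⁻¹ * x⁻¹ * x = g * x * g⁻¹ := by group
  rw [h2] at h1
  refine ⟨a, ha, ?_⟩
  have h3 : (c * x) ^ (q ^ k) = 1 := by
    rw [← h1, ← hk]
    rw [conj_pow, conj_pow, pow_orderOf_eq_one]; group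
  have hcomm : Commute c x := hcx
  have h4 : c ^ (q ^ k) = 1 := by
    rw [hcomm.mul_pow, ← hk, pow_orderOf_eq_one, mul_one] at h3
    rw [← hk]; exact h3
  have h5 : c = 1 := by
    have h6 : orderOf c ∣ q ^ k := orderOf_dvd_of_pow_eq_one h4
    have h7 : orderOf c ∣ Nat.card N := by
      have := orderOf_dvd_natCard (⟨c, hc⟩ : N)
      rwa [Subgroup.orderOf_mk] at this
    have h8 : orderOf c = 1 := by
      apply Nat.eq_one_of_dvd_coprimes (a := q ^ k) (b := Nat.card N) _ h6 h7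
      rw [← hk]; exact hcop
    exact orderOf_eq_one_iff.1 h8
  rw [h1, h5, one_mul]

/-- the predicate used in the extension argument -/
def P (N : Subgroup G) (θ : N → ℂ) (K : Subgroup G) : Prop :=
  ∃ (hK : K.Normal) (hNK : N ≤ K) (η : K → ℂ), IsIrrCharacter K η ∧ (∀ n : N, η ⟨n, hNK n.2⟩ = θ n) ∧
    ∀ g : G, cj hK g η = η

include hN in
/-- coprime extension with abelian quotient -/
theorem extend (hab : ∀ x y : G, x * y * x⁻¹ * y⁻¹ ∈ N) (hcop : Nat.Coprime (Nat.card N) N.index)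
    {θ : N → ℂ} (hθ : IsIrrCharacter N θ) (hinv : ∀ g : G, cj hN g θ = θ) :
    ∃ ψ : G → ℂ, IsIrrCharacter G ψ ∧ ∀ n : N, ψ n = θ n := by
  classical
  have hP0 : P N θ N := ⟨hN, le_rfl, θ, hθ, fun n => rfl, hinv⟩
  obtain ⟨K, hK⟩ := (Set.toFinite {K | P N θ K}).exists_maximal ⟨N, hP0⟩
  obtain ⟨hKn, hNK, η, hη, hηN, hηinv⟩ := hK.1
  obtain ⟨b, hb⟩ := IsIrr.one_eq_nat hθ
  have hbN : b ∣ Nat.card N := by
    obtain ⟨n, -, h1, h2⟩ := IsIrr.dvd_card hθ
    have : (b : ℂ) = n := by rw [← hb.2, h1]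
    have h3 : b = n := by exact_mod_cast this
    rw [h3]; exact h2
  by_cases hKtop : K = ⊤
  · subst hKtop
    refine ⟨fun g => η ⟨g, Subgroup.mem_top g⟩, ?_, fun n => hηN n⟩
    exact (isIrr_comp_iff Subgroup.topEquiv.symm).2 hη
  exfalso
  obtain ⟨g₀, -, hg₀⟩ := SetLike.exists_of_lt (lt_top_iff_ne_top.2 hKtop)
  have hg₀' : (QuotientGroup.mk' K g₀) ≠ 1 := fun h => hg₀ ((QuotientGroup.eq_one_iff g₀).1 h)
  have hm1 : orderOf (QuotientGroup.mk' K g₀) ≠ 1 := fun h => hg₀' (orderOf_eq_one_iff.1 h)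
  obtain ⟨q, hq, hqm⟩ := Nat.exists_prime_and_dvd hm1
  haveI : Fact q.Prime := ⟨hq⟩
  obtain ⟨r, hr⟩ := hqm
  set y := g₀ ^ r with hy
  have hm0 : orderOf (QuotientGroup.mk' K g₀) ≠ 0 := (orderOf_pos _).ne'
  have hr0 : r ≠ 0 := by rintro rfl; rw [mul_zero] at hr; exact hm0 hr
  have hyo : orderOf (QuotientGroup.mk' K y) = q := by
    rw [hy, map_pow, orderOf_pow' _ hr0, hr, Nat.gcd_eq_right (Dvd.intro_left q rfl), Nat.mul_div_cancel _ (Nat.pos_of_ne_zero hr0)]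
  obtain ⟨x, z, hxz, hcxz, hxq, hzq⟩ := H10.PPart.exists_ppart (p := q) y
  -- z lies in K
  have hzK : QuotientGroup.mk' K z = 1 := by
    rw [← orderOf_eq_one_iff]
    apply Nat.eq_one_of_dvd_coprimes (a := orderOf z) (b := q) ((Nat.Prime.coprime_iff_not_dvd hq).2 hzq).symm
    · exact orderOf_map_dvd _ _
    · -- z is a power of y
      obtain ⟨m, hmz⟩ : ∃ m : ℕ, y ^ m = z := by
        obtain ⟨k, hk⟩ := hxq
        obtain ⟨m, h1, h2⟩ := Nat.chineseRemainder (n := orderOf x) (m := orderOf z)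
          (by rw [hk]; exact Nat.Coprime.pow_left k ((Nat.Prime.coprime_iff_not_dvd hq).2 hzq)) 0 1
        refine ⟨m, ?_⟩
        rw [← hxz, hcxz.mul_pow]
        have e1 : x ^ m = 1 := orderOf_dvd_iff_pow_eq_one.1 ((Nat.modEq_zero_iff_dvd).1 h1)
        have e2 : z ^ m = z := by
          conv_rhs => rw [← pow_one z]
          exact pow_eq_pow_iff_modEq.2 h2
        rw [e1, e2, one_mul]
      rw [← hmz, map_pow, ← hyo]
      exact orderOf_pow_dvd m
  have hxo : orderOf (QuotientGroup.mk' K x) = q := by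
    rw [← hyo, ← hxz, map_mul, hzK, mul_one]
  have hqi : q ∣ N.index := by
    have h1 : q ∣ K.index := by rw [← hxo, Subgroup.index_eq_card]; exact orderOf_dvd_natCard _
    exact h1.trans (Subgroup.index_dvd_of_le hNK)
  have hqN : ¬ q ∣ Nat.card N := fun h => hq.one_lt.ne' (Nat.eq_one_of_dvd_coprimes hcop h hqi)
  have hqb : ¬ q ∣ b := fun h => hqN (h.trans hbN)
  -- the group L
  set L : Subgroup G := K ⊔ Subgroup.zpowers x with hLdef
  have hKL : K ≤ L := le_sup_left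
  have hxL : x ∈ L := Subgroup.mem_sup_right (Subgroup.mem_zpowers x)
  have hNL : N ≤ L := hNK.trans hKL
  have hLn : L.Normal := normal_of_comm hN hab hNL
  haveI := Fintype.ofFinite K
  haveI := Fintype.ofFinite L
  haveI := Fintype.ofFinite (K.subgroupOf L)
  have hrel : K.relIndex L = q := by
    have h1 := Subgroup.relIndex_ker (f := QuotientGroup.mk' K) (K := L)
    rw [QuotientGroup.ker_mk'] at h1
    rw [h1, hLdef, Subgroup.map_sup, QuotientGroup.map_mk'_self, bot_sup_eq, MonoidHom.map_zpowers, Nat.card_zpowers, hxo]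
  have hK' : (K.subgroupOf L).Normal := hKn.subgroupOf L
  set η' : K.subgroupOf L → ℂ := fun x => η ⟨(x : L), Subgroup.mem_subgroupOf.mp x.2⟩ with hη'
  have hη'irr : IsIrrCharacter (K.subgroupOf L) η' :=
    (isIrr_comp_iff (Subgroup.subgroupOfEquivOfLe hKL)).mpr hη
  have hη'inv : ∀ g : L, cj hK' g η' = η' := by
    intro g
    ext x
    exact congrFun (hηinv g) ⟨(x : L), Subgroup.mem_subgroupOf.mp x.2⟩
  have habL : ∀ x y : L, x * y * x⁻¹ * y⁻¹ ∈ K.subgroupOf L := fun x y => by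
    rw [Subgroup.mem_subgroupOf]; exact hNK (hab x y)
  obtain ⟨e, C, he, hmem, hmul, hcard, hind, hdeg⟩ := ind_struct hK' habL hη'irr hη'inv
  have h5 : e ^ 2 * C.card = q := by
    have h6 : Nat.card (K.subgroupOf L) * (K.subgroupOf L).index = Nat.card L := Subgroup.card_mul_index _
    have h7 : (K.subgroupOf L).index = q := hrel
    rw [h7, ← hcard, mul_comm] at h6
    exact (Nat.eq_of_mul_eq_mul_right Nat.card_pos h6).symm
  have he1 : e = 1 := by
    have h6 : e ^ 2 ∣ q := Dvd.intro _ h5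
    rcases (Nat.dvd_prime hq).1 h6 with h7 | h7
    · exact (Nat.pow_eq_one.1 h7).resolve_right (by norm_num)
    · exfalso
      have h8 : e ∣ q := (dvd_pow_self e two_ne_zero).trans h6
      rcases (Nat.dvd_prime hq).1 h8 with h9 | h9
      · rw [h9, one_pow] at h7; exact hq.one_lt.ne h7
      · rw [h9, sq] at h7
        have := hq.one_lt
        nlinarith
  have hCne : C.Nonempty := by
    rw [Finset.nonempty_iff_ne_empty]
    rintro rfl
    rw [Finset.card_empty, mul_zero] at h5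
    exact hq.ne_zero h5.symm
  obtain ⟨χ, hχC⟩ := hCne
  obtain ⟨hχ, hχη⟩ := (hmem χ).1 hχC
  have hχres : ∀ k : K.subgroupOf L, χ k = η' k := by
    intro k
    have h6 := congrFun (clifford_invariant hK' hχ hη'irr hχη hη'inv) k
    rw [hmul χ hχC, he1] at h6
    simpa using h6
  -- extension property
  have hχK : ∀ k : K, χ ⟨k, hKL k.2⟩ = η k := fun k => hχres ⟨⟨k, hKL k.2⟩, Subgroup.mem_subgroupOf.2 k.2⟩
  have hχ1 : χ 1 = b := by
    rw [← hb.2]
    have h6 := hχK 1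
    have h7 := hηN 1
    exact h6.trans h7
  have hxo' : ∃ k : ℕ, orderOf (⟨x, hxL⟩ : L) = q ^ k := by
    obtain ⟨k, hk⟩ := hxq
    exact ⟨k, by rw [Subgroup.orderOf_mk]; exact hk⟩
  have hχx : χ ⟨x, hxL⟩ ≠ 0 := value_ne_zero (IsIrr.isCharacter hχ) hχ1 hqb hxo'
  have hχinv : ∀ g : G, cj hLn g χ = χ := by
    intro g
    have h6 : IsIrrCharacter L (cj hLn g χ) := (cj_isIrr hLn g).2 hχ
    have h7 : classInner (fun n : K.subgroupOf L => cj hLn g χ n) η' ≠ 0 := by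
      have h8 : (fun n : K.subgroupOf L => cj hLn g χ n) = η' := by
        ext n
        have h9 := congrFun (hηinv g) ⟨(n : L), Subgroup.mem_subgroupOf.mp n.2⟩
        rw [cj_apply] at h9 ⊢
        have h10 := hχK ⟨g * n * g⁻¹, hKn.conj_mem _ (Subgroup.mem_subgroupOf.mp n.2) g⟩
        exact h10.trans h9
      rw [h8, ci_irr_self hη'irr]; exact one_ne_zero
    obtain ⟨l, hl, hl1, hlK, hl2⟩ := twist hK' habL hη'irr hη'inv hχ h6 hχη h7
    have h8 : cj hLn g χ ⟨x, hxL⟩ = χ ⟨x, hxL⟩ := by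
      rw [cj_apply]
      obtain ⟨a, ha, h9⟩ := conj_of_comm hqN hxq (hab g x) (by
        rw [Subgroup.normalizer_eq_top_iff.2 hN]; exact Subgroup.mem_top x)
      have h10 := IsIrr.isClass hχ ⟨g * x * g⁻¹, hLn.conj_mem x hxL g⟩ ⟨a, hNL ha⟩
      rw [← h10]
      congr 1
      exact Subtype.ext h9
    have h9 : l ⟨x, hxL⟩ = 1 := by
      have h10 := congrFun hl2 ⟨x, hxL⟩
      rw [h8, Pi.mul_apply] at h10
      have h11 : (l ⟨x, hxL⟩ - 1) * χ ⟨x, hxL⟩ = 0 := by rw [sub_mul, one_mul, ← h10, sub_self]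
      rcases mul_eq_zero.1 h11 with h | h
      · exact sub_eq_zero.1 h
      · exact absurd h hχx
    obtain ⟨f, hf⟩ := IsChar.hom_of_one (IsIrr.isCharacter hl) hl1
    have h10 : ∀ w : L, l w = 1 := by
      intro w
      obtain ⟨k, hk, u, hu, e1⟩ := Subgroup.mem_sup_of_normal_left.1 w.2
      obtain ⟨i, rfl⟩ := Subgroup.mem_zpowers_iff.1 hu
      have e2 : w = ⟨k, hKL hk⟩ * (⟨x, hxL⟩ : L) ^ i := Subtype.ext (by
        rw [Subgroup.coe_mul, Subgroup.coe_zpow]; exact e1.symm)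
      have e3 : f ⟨k, hKL hk⟩ = 1 := by
        rw [← hf]; exact hlK ⟨⟨k, hKL hk⟩, Subgroup.mem_subgroupOf.2 hk⟩
      have e4 : f ⟨x, hxL⟩ = 1 := by rw [← hf]; exact h9
      rw [hf, e2, map_mul, e3, one_mul]
      have e5 : (⟨x, hxL⟩ : L) ^ i ∈ f.ker := Subgroup.zpow_mem _ (by rwa [MonoidHom.mem_ker]) i
      exact e5
    rw [hl2]
    ext w
    rw [Pi.mul_apply, h10, one_mul]
  have hPL : P N θ L := ⟨hLn, hNL, χ, hχ, fun n => by
    have h6 := hχK ⟨n, hNK n.2⟩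
    exact h6.trans (hηN n), hχinv⟩
  have h6 := hK.2 hPL hKL
  have h7 : x ∈ K := h6 hxL
  have h8 : QuotientGroup.mk' K x = 1 := (QuotientGroup.eq_one_iff x).2 h7
  rw [h8, orderOf_one] at hxo
  exact hq.one_lt.ne hxo

end Cfsg.Agent.H10.OOClif2
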