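import Mathlib
import Cfsg.Agent.H10_OOGrp
import Cfsg.Agent.H10_CycTI2
import Cfsg.Agent.H3_CharCalc

/-!
H10_OOGrp2: fixed classes under coprime action, and recognition of self-normalizing cyclic subgroups.
-/

set_option autoImplicit false
set_option linter.style.haveILetI false
set_option linter.unusedSectionVars false

namespace Cfsg.Agent.H10.OOGrp2

open Cfsg Cfsg.Agent.H10.OOGrp

variable {G : Type*} [Group G] [Finite G]

theorem fixed_class {K : Subgroup G} {g : G} (hg : g ∈ Subgroup.normalizer (K : Set G))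
    (hcop : Nat.Coprime (orderOf g) (Nat.card K)) {k u : G} (hk : k ∈ K) (hu : u ∈ K) (h : g * k * g⁻¹ = u * k * u⁻¹) :
    ∃ v ∈ K, v * k * v⁻¹ * g = g * (v * k * v⁻¹) := by
  obtain ⟨v, hv, c, hc, hcg, e⟩ := coset_conj hg hcop (K.inv_mem hu)
  obtain ⟨m, hm1, hm2⟩ := exists_pow hcop
  refine ⟨v, hv, ?_⟩
  have h1 : k * (u⁻¹ * g) = (u⁻¹ * g) * k := by
    have : u⁻¹ * (g * k * g⁻¹) * g = u⁻¹ * (u * k * u⁻¹) * g := by rw [h]
    calc k * (u⁻¹ * g) = u⁻¹ * (u * k * u⁻¹) * g := by group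
      _ = u⁻¹ * (g * k * g⁻¹) * g := by rw [h]
      _ = _ := by group
  have h2 : Commute (v * k * v⁻¹) (c * g) := by
    show v * k * v⁻¹ * (c * g) = c * g * (v * k * v⁻¹)
    rw [← e]
    calc v * k * v⁻¹ * (v * (u⁻¹ * g) * v⁻¹) = v * (k * (u⁻¹ * g)) * v⁻¹ := by group
      _ = v * ((u⁻¹ * g) * k) * v⁻¹ := by rw [h1]
      _ = _ := by group
  have h3 := h2.pow_right m
  have h4 : (c * g) ^ m = g := by
    have h5 : Commute c g := hcg
    rw [h5.mul_pow, hm2 c hc, hm1, one_mul]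
  rw [h4] at h3
  exact h3

/-- the product of commuting cyclic groups of coprime orders is cyclic -/
theorem isCyclic_sup {A B : Subgroup G} (hA : IsCyclic A) (hB : IsCyclic B)
    (hcomm : ∀ a ∈ A, ∀ b ∈ B, a * b = b * a) (hcop : Nat.Coprime (Nat.card A) (Nat.card B)) :
    IsCyclic ↥(A ⊔ B) := by
  obtain ⟨a, ha⟩ := IsCyclic.exists_generator (α := A)
  obtain ⟨b, hb⟩ := IsCyclic.exists_generator (α := B)
  have hab : Commute (a : G) (b : G) := hcomm a a.2 b b.2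
  have hoa : orderOf (a : G) = Nat.card A := by
    rw [Subgroup.orderOf_coe]; exact orderOf_eq_card_of_forall_mem_zpowers ha
  have hob : orderOf (b : G) = Nat.card B := by
    rw [Subgroup.orderOf_coe]; exact orderOf_eq_card_of_forall_mem_zpowers hb
  refine ⟨⟨(a : G) * b, Subgroup.mul_mem_sup a.2 b.2⟩, fun x => ?_⟩
  have hx := x.2
  have hA' : A ≤ Subgroup.zpowers ((a : G) * b) := by
    intro y hy
    have h1 : (a : G) ∈ Subgroup.zpowers ((a : G) * b) := by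
      obtain ⟨m, h1, h2⟩ := Nat.chineseRemainder hcop 1 0
      have h3 : ((a : G) * b) ^ m = a := by
        rw [hab.mul_pow]
        have e1 : (a : G) ^ m = a := by
          conv_rhs => rw [← pow_one (a : G)]
          rw [pow_eq_pow_iff_modEq, hoa]; exact h1
        have e2 : (b : G) ^ m = 1 := by
          rw [← orderOf_dvd_iff_pow_eq_one, hob]; exact (Nat.modEq_zero_iff_dvd).1 h2
        rw [e1, e2, mul_one]
      have h4 := Subgroup.npow_mem_zpowers ((a : G) * b) m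
      rwa [h3] at h4
    obtain ⟨n, hn⟩ := Subgroup.mem_zpowers_iff.1 (ha ⟨y, hy⟩)
    have hn' : (a : G) ^ n = y := congrArg Subtype.val hn
    rw [← hn']
    exact Subgroup.zpow_mem _ h1 n
  have hB' : B ≤ Subgroup.zpowers ((a : G) * b) := by
    intro y hy
    have h1 : (b : G) ∈ Subgroup.zpowers ((a : G) * b) := by
      obtain ⟨m, h1, h2⟩ := Nat.chineseRemainder hcop 0 1
      have h3 : ((a : G) * b) ^ m = b := by
        rw [hab.mul_pow]
        have e1 : (b : G) ^ m = b := by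
          conv_rhs => rw [← pow_one (b : G)]
          rw [pow_eq_pow_iff_modEq, hob]; exact h2
        have e2 : (a : G) ^ m = 1 := by
          rw [← orderOf_dvd_iff_pow_eq_one, hoa]; exact (Nat.modEq_zero_iff_dvd).1 h1
        rw [e1, e2, one_mul]
      have h4 := Subgroup.npow_mem_zpowers ((a : G) * b) m
      rwa [h3] at h4
    obtain ⟨n, hn⟩ := Subgroup.mem_zpowers_iff.1 (hb ⟨y, hy⟩)
    have hn' : (b : G) ^ n = y := congrArg Subtype.val hn
    rw [← hn']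
    exact Subgroup.zpow_mem _ h1 n
  obtain ⟨n, hn⟩ := Subgroup.mem_zpowers_iff.1 ((sup_le hA' hB') hx)
  refine Subgroup.mem_zpowers_iff.2 ⟨n, Subtype.ext ?_⟩
  rw [← hn]; rfl

theorem selfNorm (K W₁ W₂ : Subgroup G) [hK : K.Normal] (hKW₁ : K ⊓ W₁ = ⊥) (hKW₁' : K ⊔ W₁ = ⊤) (hW₁ : W₁ ≠ ⊥)
    (hW₁c : IsCyclic W₁) (hHall : Nat.Coprime (Nat.card W₁) W₁.index) (hW₂ : W₂ ≠ ⊥) (hW₂c : IsCyclic W₂)
    (hW₂K : W₂ ≤ K) (hC : ∀ x ∈ W₁, x ≠ 1 → K ⊓ Subgroup.centralizer ({x} : Set G) = W₂) :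
    IsSelfNormalizingCyclic W₁ W₂ := by
  have hcomp : K.IsComplement' W₁ := Subgroup.isComplement'_of_disjoint_and_mul_eq_univ (disjoint_iff.2 hKW₁) (by
    rw [← Subgroup.normal_mul, hKW₁']; rfl)
  have hidx : W₁.index = Nat.card K := hcomp.index_eq_card
  have hcopK : Nat.Coprime (Nat.card W₁) (Nat.card K) := by rw [← hidx]; exact hHall
  have hcop : Nat.Coprime (Nat.card W₁) (Nat.card W₂) :=
    Nat.Coprime.coprime_dvd_right (Subgroup.card_dvd_of_le hW₂K) hcopK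
  have hcomm : ∀ a ∈ W₁, ∀ b ∈ W₂, a * b = b * a := by
    intro a ha b hb
    by_cases h1 : a = 1
    · rw [h1, one_mul, mul_one]
    · rw [← hC a ha h1] at hb
      exact (Subgroup.mem_centralizer_singleton_iff.1 hb.2).symm
  have hdisj : W₁ ⊓ W₂ = ⊥ := by
    rw [eq_bot_iff, ← hKW₁]
    exact fun x hx => ⟨hW₂K hx.2, hx.1⟩
  have hcyc := isCyclic_sup hW₁c hW₂c hcomm hcop
  refine ⟨hW₁, hW₂, hdisj, hcomm, hcyc, fun X hX hXn => ?_⟩
  have hWab : ∀ a ∈ W₁ ⊔ W₂, ∀ b ∈ W₁ ⊔ W₂, a * b = b * a := by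
    intro a ha b hb
    obtain ⟨g, hg⟩ := IsCyclic.exists_generator (α := ↥(W₁ ⊔ W₂))
    obtain ⟨m, hm⟩ := Subgroup.mem_zpowers_iff.1 (hg ⟨a, ha⟩)
    obtain ⟨n, hn⟩ := Subgroup.mem_zpowers_iff.1 (hg ⟨b, hb⟩)
    have h1 : (⟨a, ha⟩ : ↥(W₁ ⊔ W₂)) * ⟨b, hb⟩ = ⟨b, hb⟩ * ⟨a, ha⟩ := by
      rw [← hm, ← hn, ← zpow_add, ← zpow_add, add_comm]
    exact congrArg Subtype.val h1
  apply le_antisymm
  · intro g hg
    rw [Subgroup.mem_set_normalizer_iff] at hg
    obtain ⟨x, hx⟩ := hXn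
    have hdec : ∀ y ∈ X, ∃ a ∈ W₁, ∃ b ∈ W₂, a * b = y ∧ a ≠ 1 := by
      intro y hy
      have h1 := hX hy
      rw [Set.mem_diff, Set.mem_union, not_or] at h1
      obtain ⟨a, ha, b, hb, e⟩ := Cfsg.Agent.H10.Dade.mem_sup_of_norm (H := W₁) (K := W₂) (fun k hk h hh => by
        rw [← hcomm h hh k hk]; simpa using hh) h1.1
      refine ⟨a, ha, b, hb, e, ?_⟩
      rintro rfl
      rw [one_mul] at e
      exact h1.2.2 (e ▸ hb)
    obtain ⟨a, ha, b, hb, e, ha1⟩ := hdec x hx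
    obtain ⟨a', ha', b', hb', e', ha1'⟩ := hdec _ ((hg x).1 hx)
    obtain ⟨m, h1, h2⟩ := Nat.chineseRemainder hcopK 1 0
    have hpa : ∀ c ∈ W₁, c ^ m = c := by
      intro c hc
      conv_rhs => rw [← pow_one c]
      have h3 : orderOf c ∣ Nat.card W₁ := by
        have := orderOf_dvd_natCard (⟨c, hc⟩ : W₁)
        rwa [Subgroup.orderOf_mk] at this
      exact pow_eq_pow_iff_modEq.2 (h1.of_dvd h3)
    have hpb : ∀ c ∈ W₂, c ^ m = 1 := by
      intro c hc
      have h3 : orderOf c ∣ Nat.card K := by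
        have := orderOf_dvd_natCard (⟨c, hW₂K hc⟩ : K)
        rwa [Subgroup.orderOf_mk] at this
      exact orderOf_dvd_iff_pow_eq_one.1 (h3.trans ((Nat.modEq_zero_iff_dvd).1 h2))
    have hxm : x ^ m = a := by
      rw [← e, (show Commute a b from hcomm a ha b hb).mul_pow, hpa a ha, hpb b hb, mul_one]
    have hxm' : (g * x * g⁻¹) ^ m = a' := by
      rw [← e', (show Commute a' b' from hcomm a' ha' b' hb').mul_pow, hpa a' ha', hpb b' hb', mul_one]
    rw [conj_pow, hxm] at hxm'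
    -- decompose g
    obtain ⟨k, hk, w, hw, ekw⟩ := Cfsg.Agent.H10.Dade.mem_sup_of_norm (H := K) (K := W₁) (fun k _ h hh => hK.conj_mem h hh k)
      (show g ∈ K ⊔ W₁ by rw [hKW₁']; exact Subgroup.mem_top _)
    have hwa : w * a * w⁻¹ = a := by
      rw [hWab w (Subgroup.mem_sup_left hw) a (Subgroup.mem_sup_left ha)]; group
    have h3 : k * a * k⁻¹ = a' := by
      rw [← hxm', ← ekw]
      calc k * a * k⁻¹ = k * (w * a * w⁻¹) * k⁻¹ := by rw [hwa]
        _ = _ := by group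
    have h4 : a' * a⁻¹ ∈ K ⊓ W₁ := by
      refine ⟨?_, W₁.mul_mem ha' (W₁.inv_mem ha)⟩
      rw [← h3]
      have : k * a * k⁻¹ * a⁻¹ = k * (a * k⁻¹ * a⁻¹) := by group
      rw [this]
      exact K.mul_mem hk (hK.conj_mem _ (K.inv_mem hk) a)
    rw [hKW₁, Subgroup.mem_bot, mul_inv_eq_one] at h4
    have h5 : k ∈ W₂ := by
      rw [← hC a ha ha1]
      refine ⟨hk, Subgroup.mem_centralizer_singleton_iff.2 ?_⟩
      rw [h4] at h3
      exact mul_inv_eq_iff_eq_mul.1 h3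
    rw [← ekw]
    exact Subgroup.mul_mem _ (Subgroup.mem_sup_right h5) (Subgroup.mem_sup_left hw)
  · intro g hg
    rw [Subgroup.mem_set_normalizer_iff]
    have hfix : ∀ x ∈ W₁ ⊔ W₂, g * x * g⁻¹ = x := fun x hx => by rw [hWab g hg x hx]; group
    have hXW : ∀ x ∈ X, x ∈ W₁ ⊔ W₂ := fun x hx => (hX hx).1
    intro x
    constructor
    · intro hx; rw [hfix x (hXW x hx)]; exact hx
    · intro hx
      have h1 := hXW _ hx
      have h2 : x ∈ W₁ ⊔ W₂ := by
        have := Subgroup.mul_mem _ (Subgroup.mul_mem _ (Subgroup.inv_mem _ hg) h1) hg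
        have e : g⁻¹ * (g * x * g⁻¹) * g = x := by group
        rwa [e] at this
      rwa [hfix x h2] at hx

end Cfsg.Agent.H10.OOGrp2
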