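import Mathlib
import Cfsg.Agent.H20_Basic

set_option autoImplicit false

namespace Cfsg.Agent.H20.MinNormal

variable {G : Type*} [Group G]

/-- conjugate subgroup `g H g⁻¹` -/
def cj (g : G) (H : Subgroup G) : Subgroup G := H.map (MulAut.conj g).toMonoidHom

theorem mem_cj {g : G} {H : Subgroup G} {x : G} : x ∈ cj g H ↔ g⁻¹ * x * g ∈ H := by
  constructor
  · rintro ⟨y, hy, rfl⟩
    have : g⁻¹ * ((MulAut.conj g).toMonoidHom y) * g = y := by
      show g⁻¹ * (g * y * g⁻¹) * g = y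
      group
    rwa [this]
  · intro h
    refine ⟨_, h, ?_⟩
    show g * (g⁻¹ * x * g) * g⁻¹ = x
    group

theorem conj_mem_cj {g : G} {H : Subgroup G} {x : G} (hx : x ∈ H) : g * x * g⁻¹ ∈ cj g H := ⟨x, hx, rfl⟩

theorem conj_mem_cj_iff {g : G} {H : Subgroup G} {x : G} : g * x * g⁻¹ ∈ cj g H ↔ x ∈ H := by
  rw [mem_cj]
  have : g⁻¹ * (g * x * g⁻¹) * g = x := by group
  rw [this]

theorem cj_one (H : Subgroup G) : cj 1 H = H := by ext x; simp [mem_cj]

theorem cj_mul (g h : G) (H : Subgroup G) : cj (g * h) H = cj g (cj h H) := by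
  ext x; simp [mem_cj, mul_assoc]

theorem cj_mono {g : G} {H K : Subgroup G} (h : H ≤ K) : cj g H ≤ cj g K := fun x hx => by
  rw [mem_cj] at hx ⊢; exact h hx

theorem cj_le_cj_iff {g : G} {H K : Subgroup G} : cj g H ≤ cj g K ↔ H ≤ K := by
  constructor
  · intro h x hx
    have := h (conj_mem_cj (g := g) hx)
    rwa [conj_mem_cj_iff] at this
  · exact cj_mono

theorem cj_inj {g : G} {H K : Subgroup G} (h : cj g H = cj g K) : H = K :=
  le_antisymm (cj_le_cj_iff.1 h.le) (cj_le_cj_iff.1 h.ge)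

theorem cj_bot (g : G) : cj g (⊥ : Subgroup G) = ⊥ := Subgroup.map_bot _

theorem cj_ne_bot {g : G} {H : Subgroup G} (h : H ≠ ⊥) : cj g H ≠ ⊥ := fun h' =>
  h (cj_inj (g := g) (by rw [h', cj_bot]))

theorem card_cj (g : G) (H : Subgroup G) : Nat.card (cj g H) = Nat.card H :=
  Subgroup.card_map_of_injective (MulAut.conj g).injective

theorem cj_normal {M : Subgroup G} (hM : M.Normal) (g : G) : cj g M = M := by
  ext x
  rw [mem_cj]
  constructor
  · intro h
    have := hM.conj_mem _ h g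
    have e : g * (g⁻¹ * x * g) * g⁻¹ = x := by group
    rwa [e] at this
  · intro h
    have := hM.conj_mem _ h g⁻¹
    simpa using this

theorem cj_inf (g : G) (H K : Subgroup G) : cj g (H ⊓ K) = cj g H ⊓ cj g K := by
  ext x; simp [mem_cj, Subgroup.mem_inf]

theorem cj_eq_of_le [Finite G] {g : G} {H : Subgroup G} (h : cj g H ≤ H) : cj g H = H :=
  Subgroup.eq_of_le_of_card_ge h (card_cj g H).ge

theorem cj_eq_of_ge [Finite G] {g : G} {H : Subgroup G} (h : H ≤ cj g H) : cj g H = H :=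
  (Subgroup.eq_of_le_of_card_ge h (card_cj g H).le).symm

/-- A simple factor of a nonabelian minimal normal subgroup, in internal form. -/
structure Factor (M T : Subgroup G) : Prop where
  le : T ≤ M
  ne_bot : T ≠ ⊥
  norm : ∀ m ∈ M, ∀ t ∈ T, m * t * m⁻¹ ∈ T
  dich : ∀ g : G, cj g T = T ∨ (cj g T ⊓ T = ⊥ ∧ ∀ s ∈ cj g T, ∀ t ∈ T, s * t = t * s)
  simple : ∀ K : Subgroup G, K ≤ T → K ≠ ⊥ → (∀ t ∈ T, ∀ k ∈ K, t * k * t⁻¹ ∈ K) → K = T
  nonab : ∃ a ∈ T, ∃ b ∈ T, a * b ≠ b * a
  gen : (⨆ g : G, cj g T) = M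
  sup : T ⊔ (M ⊓ Subgroup.centralizer (T : Set G)) = M
  inf : T ⊓ Subgroup.centralizer (T : Set G) = ⊥

theorem exists_factor [Finite G] (M : Subgroup G) (hM : M.Normal) (hne : M ≠ ⊥)
    (hmin : ∀ N : Subgroup G, N.Normal → N ≠ ⊥ → N ≤ M → N = M)
    (hna : ∃ a ∈ M, ∃ b ∈ M, a * b ≠ b * a) : ∃ T : Subgroup G, Factor M T := by
  classical
  let S : Set (Subgroup G) := {T | T ≤ M ∧ T ≠ ⊥ ∧ ∀ m ∈ M, ∀ t ∈ T, m * t * m⁻¹ ∈ T}
  obtain ⟨T, hT⟩ := (Set.toFinite S).exists_minimal ⟨M, le_rfl, hne, fun m hm t ht =>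
    M.mul_mem (M.mul_mem hm ht) (M.inv_mem hm)⟩
  obtain ⟨hTM, hTne, hTn⟩ := hT.prop
  have hcjM : ∀ g, cj g T ≤ M := fun g => by
    have := cj_mono (g := g) hTM
    rwa [cj_normal hM] at this
  have hcjn : ∀ g, ∀ m ∈ M, ∀ t ∈ cj g T, m * t * m⁻¹ ∈ cj g T := by
    intro g m hm t ht
    rw [mem_cj] at ht ⊢
    have h1 : g⁻¹ * m * g ∈ M := by simpa using hM.conj_mem m hm g⁻¹
    have := hTn _ h1 _ ht
    have e : g⁻¹ * m * g * (g⁻¹ * t * g) * (g⁻¹ * m * g)⁻¹ = g⁻¹ * (m * t * m⁻¹) * g := by group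
    rwa [e] at this
  have hdich : ∀ g : G, cj g T = T ∨ (cj g T ⊓ T = ⊥ ∧ ∀ s ∈ cj g T, ∀ t ∈ T, s * t = t * s) := by
    intro g
    by_cases h : cj g T ⊓ T = ⊥
    · right
      refine ⟨h, fun s hs t ht => ?_⟩
      have h1 : s * t * s⁻¹ * t⁻¹ ∈ cj g T ⊓ T := by
        constructor
        · have := hcjn g t (hTM ht) s⁻¹ ((cj g T).inv_mem hs)
          have h2 := (cj g T).mul_mem hs this
          simpa [mul_assoc] using h2
        · exact T.mul_mem (hTn s (hcjM g hs) t ht) (T.inv_mem ht)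
      rw [h, Subgroup.mem_bot] at h1
      have h2 : s * t * s⁻¹ = t := by simpa [mul_inv_eq_one] using h1
      calc s * t = s * t * s⁻¹ * s := by group
        _ = t * s := by rw [h2]
    · left
      have h1 : cj g T ⊓ T ∈ S := by
        refine ⟨inf_le_right.trans hTM, h, fun m hm t ht => ⟨hcjn g m hm t ht.1, hTn m hm t ht.2⟩⟩
      have h2 := hT.le_of_le h1 inf_le_right
      exact cj_eq_of_ge (h2.trans inf_le_left)
  have hgen : (⨆ g : G, cj g T) = M := by
    apply hmin
    · constructor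
      intro n hn g
      have : ∀ g : G, (⨆ h : G, cj h T).map (MulAut.conj g).toMonoidHom ≤ ⨆ h : G, cj h T := by
        intro g
        rw [Subgroup.map_iSup]
        apply iSup_le
        intro h
        have : (cj h T).map (MulAut.conj g).toMonoidHom = cj (g * h) T := by rw [cj_mul]; rfl
        rw [this]
        exact le_iSup (fun h => cj h T) (g * h)
      exact this g ⟨n, hn, rfl⟩
    · intro h
      have : cj 1 T ≤ ⊥ := h ▸ le_iSup (fun h => cj h T) 1
      rw [cj_one, le_bot_iff] at this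
      exact hTne this
    · exact iSup_le hcjM
  have hnonab : ∃ a ∈ T, ∃ b ∈ T, a * b ≠ b * a := by
    by_contra hab
    push Not at hab
    obtain ⟨a, ha, b, hb, hne'⟩ := hna
    apply hne'
    -- T commutes with M
    have h1 : ∀ g : G, ∀ s ∈ cj g T, ∀ t ∈ T, s * t = t * s := by
      intro g s hs t ht
      rcases hdich g with h | h
      · rw [h] at hs
        exact hab s hs t ht
      · exact h.2 s hs t ht
    have h2 : M ≤ Subgroup.centralizer (T : Set G) := by
      rw [← hgen]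
      apply iSup_le
      intro g s hs
      rw [Subgroup.mem_centralizer_iff]
      intro t ht
      exact (h1 g s hs t ht).symm
    have h3 : T ≤ Subgroup.centralizer (M : Set G) := by
      intro t ht
      rw [Subgroup.mem_centralizer_iff]
      intro m hm
      exact ((Subgroup.mem_centralizer_iff.1 (h2 hm)) t ht).symm
    have h4 : M ≤ Subgroup.centralizer (M : Set G) := by
      nth_rewrite 1 [← hgen]
      apply iSup_le
      intro g s hs
      rw [Subgroup.mem_centralizer_iff]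
      intro m hm
      rw [mem_cj] at hs
      have h5 := Subgroup.mem_centralizer_iff.1 (h3 hs) (g⁻¹ * m * g) (by simpa using hM.conj_mem m hm g⁻¹)
      have h6 : g * (g⁻¹ * m * g * (g⁻¹ * s * g)) * g⁻¹ = g * (g⁻¹ * s * g * (g⁻¹ * m * g)) * g⁻¹ := by rw [h5]
      have e1 : g * (g⁻¹ * m * g * (g⁻¹ * s * g)) * g⁻¹ = m * s := by group
      have e2 : g * (g⁻¹ * s * g * (g⁻¹ * m * g)) * g⁻¹ = s * m := by group
      rwa [e1, e2] at h6
    exact (Subgroup.mem_centralizer_iff.1 (h4 hb)) a ha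
  have hsimple : ∀ K : Subgroup G, K ≤ T → K ≠ ⊥ → (∀ t ∈ T, ∀ k ∈ K, t * k * t⁻¹ ∈ K) → K = T := by
    intro K hKT hK1 hKn
    have h1 : M ≤ Subgroup.normalizer (K : Set G) := by
      rw [← hgen]
      apply iSup_le
      intro g
      have h2 : ∀ s ∈ cj g T, ∀ k ∈ K, s * k * s⁻¹ ∈ K := by
        intro s hs k hk
        rcases hdich g with h | h
        · rw [h] at hs
          exact hKn s hs k hk
        · have := h.2 s hs k (hKT hk)
          rw [this]
          simpa using hk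
      intro s hs
      rw [Subgroup.mem_normalizer_iff]
      intro x
      constructor
      · exact h2 s hs x
      · intro hx
        have := h2 s⁻¹ ((cj g T).inv_mem hs) _ hx
        simpa [mul_assoc] using this
    have h2 : K ∈ S := ⟨hKT.trans hTM, hK1, fun m hm t ht => ((Subgroup.mem_normalizer_iff.1 (h1 hm)) t).1 ht⟩
    exact le_antisymm hKT (hT.le_of_le h2 hKT)
  refine ⟨T, hTM, hTne, hTn, hdich, hsimple, hnonab, hgen, ?_, ?_⟩
  · apply le_antisymm (sup_le hTM inf_le_left)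
    nth_rewrite 1 [← hgen]
    apply iSup_le
    intro g
    rcases hdich g with h | h
    · rw [h]; exact le_sup_left
    · refine le_trans ?_ le_sup_right
      intro s hs
      refine ⟨hcjM g hs, Subgroup.mem_centralizer_iff.2 ?_⟩
      intro t ht
      exact (h.2 s hs t ht).symm
  · by_contra h
    have h1 := hsimple _ inf_le_left h (by
      intro t ht k hk
      refine ⟨T.mul_mem (T.mul_mem ht hk.1) (T.inv_mem ht), ?_⟩
      have : t * k * t⁻¹ = k := by
        have := Subgroup.mem_centralizer_iff.1 hk.2 t ht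
        rw [this]; group
      rw [this]
      exact hk.2)
    obtain ⟨a, ha, b, hb, hne'⟩ := hnonab
    apply hne'
    have h2 : b ∈ T ⊓ Subgroup.centralizer (T : Set G) := h1.symm ▸ hb
    exact Subgroup.mem_centralizer_iff.1 h2.2 a ha

namespace Factor

variable {M T : Subgroup G}

/-- decomposition `m = t c`. -/
theorem exists_mul (h : Factor M T) {m : G} (hm : m ∈ M) :
    ∃ t ∈ T, ∃ c ∈ M ⊓ Subgroup.centralizer (T : Set G), m = t * c := by
  have h1 : m ∈ T ⊔ (M ⊓ Subgroup.centralizer (T : Set G)) := by rw [h.sup]; exact hm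
  have hle : (M ⊓ Subgroup.centralizer (T : Set G)) ≤ Subgroup.normalizer (T : Set G) := by
    intro c hc
    rw [Subgroup.mem_normalizer_iff]
    intro x
    constructor
    · intro hx
      exact h.norm c hc.1 x hx
    · intro hx
      have := h.norm c⁻¹ (M.inv_mem hc.1) _ hx
      simpa [mul_assoc] using this
  rw [← SetLike.mem_coe, Subgroup.coe_mul_of_right_le_normalizer_left _ _ hle] at h1
  obtain ⟨t, ht, c, hc, e⟩ := Set.mem_mul.1 h1
  exact ⟨t, ht, c, hc, e.symm⟩

theorem comm {T : Subgroup G} {c t : G} (hc : c ∈ Subgroup.centralizer (T : Set G)) (ht : t ∈ T) :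
    c * t = t * c := (Subgroup.mem_centralizer_iff.1 hc t ht).symm

theorem eq_one (h : Factor M T) {t : G} (ht : t ∈ T) (hc : t ∈ Subgroup.centralizer (T : Set G)) : t = 1 := by
  have : t ∈ T ⊓ Subgroup.centralizer (T : Set G) := ⟨ht, hc⟩
  rw [h.inf] at this
  exact this

theorem unique (h : Factor M T) {t t' c c' : G} (ht : t ∈ T) (ht' : t' ∈ T)
    (hc : c ∈ Subgroup.centralizer (T : Set G)) (hc' : c' ∈ Subgroup.centralizer (T : Set G))
    (e : t * c = t' * c') : t = t' ∧ c = c' := by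
  have h1 : t'⁻¹ * t = c' * c⁻¹ := by
    have : t'⁻¹ * (t * c) * c⁻¹ = t'⁻¹ * (t' * c') * c⁻¹ := by rw [e]
    simpa [mul_assoc] using this
  have h2 := h.eq_one (T.mul_mem (T.inv_mem ht') ht)
    (by rw [h1]; exact Subgroup.mul_mem _ hc' (Subgroup.inv_mem _ hc))
  have h3 : t = t' := by
    have := inv_mul_eq_one.1 h2
    exact this.symm
  subst h3
  exact ⟨rfl, mul_left_cancel e⟩

/-- There are two different primes dividing the order of `T`. -/
theorem exists_primes [Finite G] (h : Factor M T) :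
    ∃ p q : ℕ, p.Prime ∧ q.Prime ∧ p ≠ q ∧ (∃ x ∈ T, orderOf x = p) ∧ (∃ x ∈ T, orderOf x = q) := by
  have hnt : Nontrivial T := (Subgroup.nontrivial_iff_ne_bot T).2 h.ne_bot
  have h1 : Nat.card T ≠ 1 := by
    intro hh
    rw [Nat.card_eq_one_iff_unique] at hh
    exact not_subsingleton T hh.1
  obtain ⟨p, hp, hpd⟩ := Nat.exists_prime_and_dvd h1
  have hnp : ¬ IsPGroup p T := by
    intro hpg
    have : Fact p.Prime := ⟨hp⟩
    have h2 := hpg.center_nontrivial
    have h3 : (Subgroup.center T).map T.subtype = T := by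
      apply h.simple _ (Subgroup.map_subtype_le _)
      · intro h4
        have h5 := (Subgroup.map_eq_bot_iff_of_injective _ T.subtype_injective).1 h4
        rw [h5] at h2
        exact not_subsingleton _ (inferInstance : Subsingleton (⊥ : Subgroup T))
      · rintro t ht _ ⟨k, hk, rfl⟩
        refine ⟨⟨t, ht⟩ * k * ⟨t, ht⟩⁻¹, ?_, rfl⟩
        have : (⟨t, ht⟩ : T) * k * ⟨t, ht⟩⁻¹ = k := by
          have := Subgroup.mem_center_iff.1 hk ⟨t, ht⟩
          rw [this]; group
        rw [this]; exact hk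
    obtain ⟨a, ha, b, hb, hne⟩ := h.nonab
    apply hne
    have h4 : b ∈ (Subgroup.center T).map T.subtype := by rw [h3]; exact hb
    obtain ⟨b', hb', rfl⟩ := h4
    exact congrArg T.subtype (Subgroup.mem_center_iff.1 hb' ⟨a, ha⟩)
  obtain ⟨q, hq, hqd, hqp⟩ : ∃ q : ℕ, q.Prime ∧ q ∣ Nat.card T ∧ q ≠ p := by
    by_contra hcon
    push Not at hcon
    apply hnp
    have h5 : Nat.card T = p ^ (Nat.card T).primeFactorsList.length :=
      Nat.eq_prime_pow_of_unique_prime_dvd Nat.card_pos.ne' (fun {d} hd hdd => hcon d hd hdd)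
    exact IsPGroup.of_card h5
  have key : ∀ r : ℕ, r.Prime → r ∣ Nat.card T → ∃ x ∈ T, orderOf x = r := by
    intro r hr hrd
    have : Fact r.Prime := ⟨hr⟩
    obtain ⟨x, hx⟩ := exists_prime_orderOf_dvd_card' (G := T) r hrd
    exact ⟨x, x.2, by rw [Subgroup.orderOf_coe]; exact hx⟩
  exact ⟨p, q, hp, hq, hqp.symm, key p hp hpd, key q hq hqd⟩

end Factor

end Cfsg.Agent.H20.MinNormal
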