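import Mathlib
import Cfsg.Agent.H20_MinNormal

set_option autoImplicit false

namespace Cfsg.Agent.H20.Derange

open MulAction Cfsg.Agent.H20.MinNormal Cfsg.Agent.H20.Basic

/-- Jordan: the conjugates of a proper subgroup do not cover a finite group. -/
theorem jordan {T : Type*} [Group T] [Finite T] (R : Subgroup T) (h : R ≠ ⊤) :
    ∃ t : T, ∀ g : T, g⁻¹ * t * g ∉ R := by
  classical
  by_contra hcon
  push Not at hcon
  have : Fintype T := Fintype.ofFinite T
  have : Fintype (T ⧸ R) := Fintype.ofFinite _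
  have hb := sum_card_fixedBy_eq_card_orbits_mul_card_group T (T ⧸ R)
  have h1 : Fintype.card (Quotient (orbitRel T (T ⧸ R))) = 1 := by
    rw [Fintype.card_eq_one_iff_nonempty_unique]
    have := (pretransitive_iff_unique_quotient_of_nonempty T (T ⧸ R)).1 inferInstance
    exact this
  rw [h1, one_mul] at hb
  have h2 : ∀ g : T, 1 ≤ Fintype.card (fixedBy (T ⧸ R) g) := by
    intro g
    obtain ⟨x, hx⟩ := hcon g
    rw [Nat.one_le_iff_ne_zero, ← Nat.pos_iff_ne_zero, Fintype.card_pos_iff]
    refine ⟨⟨(x : T ⧸ R), ?_⟩⟩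
    rw [mem_fixedBy]
    show ((g * x : T) : T ⧸ R) = x
    rw [eq_comm, QuotientGroup.eq]
    simpa [mul_assoc] using hx
  have h3 : 2 ≤ Fintype.card (fixedBy (T ⧸ R) (1 : T)) := by
    have e : Fintype.card (fixedBy (T ⧸ R) (1 : T)) = Fintype.card (T ⧸ R) := by
      apply Fintype.card_congr
      exact (Equiv.subtypeUnivEquiv (fun x => by simp [mem_fixedBy]))
    rw [e, ← Nat.card_eq_fintype_card]
    have := Subgroup.one_lt_index_of_ne_top h
    exact this
  have h4 : Fintype.card T < ∑ g : T, Fintype.card (fixedBy (T ⧸ R) g) := by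
    have : Fintype.card T = ∑ g : T, 1 := by simp
    rw [this]
    apply Finset.sum_lt_sum (fun g _ => h2 g) ⟨1, Finset.mem_univ _, h3⟩
  omega

theorem jordan' {G : Type*} [Group G] [Finite G] (T R : Subgroup G) (hRT : R ≤ T) (h : R ≠ T) :
    ∃ t ∈ T, ∀ g ∈ T, g⁻¹ * t * g ∉ R := by
  obtain ⟨t, ht⟩ := jordan (R.subgroupOf T) (by
    intro h'
    exact h (le_antisymm hRT (Subgroup.subgroupOf_eq_top.1 h')))
  refine ⟨t, t.2, fun g hg => ?_⟩
  have := ht ⟨g, hg⟩
  rwa [Subgroup.mem_subgroupOf] at this

variable {G : Type*} [Group G]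

/-- A derangement. -/
def Der (Ω : Type*) [MulAction G Ω] (g : G) : Prop := ∀ ω : Ω, g • ω ≠ ω

theorem Der.of_pow {Ω : Type*} [MulAction G Ω] {g : G} (n : ℕ) (h : Der Ω (g ^ n)) : Der Ω g := by
  intro ω hω
  apply h ω
  have : g ∈ stabilizer G ω := hω
  exact (stabilizer G ω).pow_mem this n

theorem orderOf_mul_primes {a b : G} (hab : a * b = b * a) {p q : ℕ} (hp : p.Prime) (hq : q.Prime) (hpq : p ≠ q)
    (ha : orderOf a = p) (hb : orderOf b = q) : orderOf (a * b) = p * q := by
  have hc : Commute a b := hab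
  rw [hc.orderOf_mul_eq_mul_orderOf_of_coprime, ha, hb]
  rw [ha, hb]
  exact (Nat.coprime_primes hp hq).2 hpq

theorem three_derangements [Finite G] {Ω : Type*} [Finite Ω] [Nonempty Ω] [MulAction G Ω] [FaithfulSMul G Ω]
    (hq : ∀ N : Subgroup G, N.Normal → N ≠ ⊥ → ∀ x y : Ω, ∃ n ∈ N, n • x = y)
    (M T : Subgroup G) (hM : M.Normal) (hMne : M ≠ ⊥) (hF : Factor M T)
    (hnAS : T ≠ M ∨ Subgroup.centralizer (M : Set G) ≠ ⊥) :
    ∃ d0 d1 d2 : G, Der Ω d0 ∧ Der Ω d1 ∧ Der Ω d2 ∧ ¬ IsConj d0 d1 ∧ ¬ IsConj d0 d2 ∧ ¬ IsConj d1 d2 := by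
  classical
  obtain ⟨p, q, hp, hq', hpq, ⟨tp, htp, hop⟩, ⟨tq, htq, hoq⟩⟩ := hF.exists_primes
  have hMtr := hq M hM hMne
  have hconj_order : ∀ x y : G, IsConj x y → orderOf x = orderOf y := by
    intro x y h
    obtain ⟨c, hc⟩ := isConj_iff.1 h
    rw [← hc]
    exact (orderOf_injective (MulAut.conj c).toMonoidHom (MulAut.conj c).injective x).symm
  have hfin : ∀ (x y z : G), orderOf x = p → orderOf y = q → orderOf z = p * q →
      ¬ IsConj x y ∧ ¬ IsConj x z ∧ ¬ IsConj y z := by
    intro x y z hx hy hz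
    refine ⟨fun h => ?_, fun h => ?_, fun h => ?_⟩
    · have := hconj_order _ _ h
      rw [hx, hy] at this; exact hpq this
    · have := hconj_order _ _ h
      rw [hx, hz] at this
      have h1 := hp.pos; have h2 := hq'.two_le
      nlinarith
    · have := hconj_order _ _ h
      rw [hy, hz] at this
      have h1 := hq'.pos; have h2 := hp.two_le
      nlinarith
  by_cases hTM : T = M
  · -- Case B
    have hC : Subgroup.centralizer (M : Set G) ≠ ⊥ := hnAS.resolve_left (fun h => h hTM)
    have hCn : (Subgroup.centralizer (M : Set G)).Normal := inferInstance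
    have hCtr := hq _ hCn hC
    obtain ⟨α⟩ : Nonempty Ω := inferInstance
    have hMreg : ∀ m ∈ M, ∀ ω : Ω, m • ω = ω → m = 1 := by
      intro m hm ω hω
      apply FaithfulSMul.eq_of_smul_eq_smul (α := Ω)
      intro x
      obtain ⟨c, hc, hx⟩ := hCtr ω x
      rw [one_smul, ← hx, ← mul_smul, Subgroup.mem_centralizer_iff.1 hc m hm, mul_smul, hω]
    have hCreg : ∀ m ∈ Subgroup.centralizer (M : Set G), ∀ ω : Ω, m • ω = ω → m = 1 := by
      intro m hm ω hω
      apply FaithfulSMul.eq_of_smul_eq_smul (α := Ω)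
      intro x
      obtain ⟨c, hc, hx⟩ := hMtr ω x
      rw [one_smul, ← hx, ← mul_smul, ← Subgroup.mem_centralizer_iff.1 hm c hc, mul_smul, hω]
    have hMcard : Nat.card Ω = Nat.card M := by
      have := card_stab_mul M hMtr α
      rw [← this]
      have h1 : M ⊓ stabilizer G α = ⊥ := by
        rw [Subgroup.eq_bot_iff_forall]
        intro x hx
        exact hMreg x hx.1 α hx.2
      rw [h1]; simp
    have hCcard : Nat.card Ω = Nat.card (Subgroup.centralizer (M : Set G)) := by
      have := card_stab_mul _ hCtr α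
      rw [← this]
      have h1 : Subgroup.centralizer (M : Set G) ⊓ stabilizer G α = ⊥ := by
        rw [Subgroup.eq_bot_iff_forall]
        intro x hx
        exact hCreg x hx.1 α hx.2
      rw [h1]; simp
    have hdM : ∀ m ∈ M, m ≠ 1 → Der Ω m := fun m hm hm1 ω hω => hm1 (hMreg m hm ω hω)
    have hqd : q ∣ Nat.card (Subgroup.centralizer (M : Set G)) := by
      rw [← hCcard, hMcard, ← hoq]
      rw [← Subgroup.orderOf_mk tq (hTM ▸ htq : tq ∈ M)]
      exact orderOf_dvd_natCard _
    have : Fact q.Prime := ⟨hq'⟩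
    obtain ⟨c, hc⟩ := exists_prime_orderOf_dvd_card' (G := Subgroup.centralizer (M : Set G)) q hqd
    have hc' : orderOf (c : G) = q := by rw [Subgroup.orderOf_coe]; exact hc
    have htp1 : tp ≠ 1 := by rintro rfl; simp at hop; exact hp.one_lt.ne hop
    have htq1 : tq ≠ 1 := by rintro rfl; simp at hoq; exact hq'.one_lt.ne hoq
    have hcomm : tp * c = c * tp := Subgroup.mem_centralizer_iff.1 c.2 tp (hF.le htp)
    refine ⟨tp, tq, tp * c, hdM _ (hF.le htp) htp1, hdM _ (hF.le htq) htq1, ?_, ?_⟩
    · apply Der.of_pow q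
      have e : (tp * (c : G)) ^ q = tp ^ q := by
        have h1 : Commute tp (c : G) := hcomm
        have h2 : (c : G) ^ q = 1 := by rw [← hc']; exact pow_orderOf_eq_one _
        rw [h1.mul_pow, h2, mul_one]
      rw [e]
      apply hdM _ (M.pow_mem (hF.le htp) q)
      intro h
      have := orderOf_dvd_of_pow_eq_one h
      rw [hop] at this
      exact hpq ((Nat.prime_dvd_prime_iff_eq hp hq').1 this)
    · exact hfin _ _ _ hop hoq (orderOf_mul_primes hcomm hp hq' hpq hop hc')
  · -- Case A: another conjugate exists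
    obtain ⟨g0, hg0⟩ : ∃ g : G, cj g T ≠ T := by
      by_contra h
      push Not at h
      apply hTM
      rw [← hF.gen]
      simp [h]
    have hT2 : cj g0 T ⊓ T = ⊥ ∧ ∀ s ∈ cj g0 T, ∀ t ∈ T, s * t = t * s := (hF.dich g0).resolve_left hg0
    have hT2M : cj g0 T ≤ M := by rw [← hF.gen]; exact le_iSup (fun g => cj g T) g0
    obtain ⟨α⟩ : Nonempty Ω := inferInstance
    let C : Subgroup G := M ⊓ Subgroup.centralizer (T : Set G)
    have hCn : ∀ m ∈ M, ∀ c ∈ C, m * c * m⁻¹ ∈ C := by
      intro m hm c hc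
      refine ⟨M.mul_mem (M.mul_mem hm hc.1) (M.inv_mem hm), Subgroup.mem_centralizer_iff.2 ?_⟩
      intro t ht
      have h1 := Subgroup.mem_centralizer_iff.1 hc.2 (m⁻¹ * t * m) (by
        have := hF.norm m⁻¹ (M.inv_mem hm) t ht
        simpa using this)
      have h2 : m * (m⁻¹ * t * m * c) * m⁻¹ = m * (c * (m⁻¹ * t * m)) * m⁻¹ := by rw [h1]
      have e1 : m * (m⁻¹ * t * m * c) * m⁻¹ = t * (m * c * m⁻¹) := by group
      have e2 : m * (c * (m⁻¹ * t * m)) * m⁻¹ = m * c * m⁻¹ * t := by group
      rwa [e1, e2] at h2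
    -- the projection of the point stabilizer
    let R : Subgroup G :=
      { carrier := {t | t ∈ T ∧ ∃ c ∈ C, (t * c) • α = α}
        one_mem' := ⟨T.one_mem, 1, C.one_mem, by simp⟩
        mul_mem' := by
          rintro t t' ⟨ht, c, hc, h⟩ ⟨ht', c', hc', h'⟩
          refine ⟨T.mul_mem ht ht', c * c', C.mul_mem hc hc', ?_⟩
          have e : t * t' * (c * c') = (t * c) * (t' * c') := by
            have := Factor.comm hc.2 ht'
            calc t * t' * (c * c') = t * (t' * c) * c' := by group
              _ = t * (c * t') * c' := by rw [this]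
              _ = _ := by group
          rw [e, mul_smul, h', h]
        inv_mem' := by
          rintro t ⟨ht, c, hc, h⟩
          refine ⟨T.inv_mem ht, c⁻¹, C.inv_mem hc, ?_⟩
          have e : t⁻¹ * c⁻¹ = (t * c)⁻¹ := by
            rw [← Factor.comm hc.2 ht]; group
          rw [e, inv_smul_eq_iff, h] }
    by_cases hRT : R = T
    · -- Case A2
      have hbot : ∀ t ∈ T, t • α = α → t = 1 := by
        let S : Subgroup G := T ⊓ stabilizer G α
        by_contra hcon
        push Not at hcon
        obtain ⟨s, hs, hsα, hs1⟩ := hcon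
        have hS : S = T := by
          apply hF.simple S inf_le_left
          · intro h
            apply hs1
            have : s ∈ S := ⟨hs, hsα⟩
            rw [h] at this
            exact this
          · intro t ht k hk
            have h1 : t ∈ R := by rw [hRT]; exact ht
            obtain ⟨_, c, hc, hc2⟩ := h1
            have h2 : t * k * t⁻¹ = (t * c) * k * (t * c)⁻¹ := by
              have := Factor.comm hc.2 hk.1
              calc t * k * t⁻¹ = t * (k * c) * c⁻¹ * t⁻¹ := by group
                _ = t * (c * k) * c⁻¹ * t⁻¹ := by rw [this]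
                _ = _ := by group
            refine ⟨T.mul_mem (T.mul_mem ht hk.1) (T.inv_mem ht), ?_⟩
            rw [h2]
            have h3 : t * c ∈ stabilizer G α := hc2
            exact Subgroup.mul_mem _ (Subgroup.mul_mem _ h3 hk.2) (Subgroup.inv_mem _ h3)
        -- then all conjugates fix all points
        have hTfix : T ≤ stabilizer G α := by rw [← hS]; exact inf_le_right
        have hMfix : ∀ ω : Ω, ∀ t ∈ T, t • ω = ω := by
          intro ω t ht
          obtain ⟨m, hm, hmω⟩ := hMtr α ω
          have h1 : m⁻¹ * t * m ∈ T := by simpa using hF.norm m⁻¹ (M.inv_mem hm) t ht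
          have h2 : (m⁻¹ * t * m) • α = α := hTfix h1
          rw [← hmω]
          have h3 : m • (m⁻¹ * t * m) • α = m • α := by rw [h2]
          rw [← mul_smul] at h3
          have e : m * (m⁻¹ * t * m) = t * m := by group
          rwa [e, mul_smul] at h3
        exact hs1 (FaithfulSMul.eq_of_smul_eq_smul (α := Ω) (fun x => by rw [one_smul]; exact hMfix x s hs))
      have hTder : ∀ t ∈ T, t ≠ 1 → Der Ω t := by
        intro t ht ht1 ω hω
        obtain ⟨m, hm, hmω⟩ := hMtr α ω
        have h1 : m⁻¹ * t * m ∈ T := by simpa using hF.norm m⁻¹ (M.inv_mem hm) t ht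
        have h2 : (m⁻¹ * t * m) • α = α := by
          rw [mul_smul, mul_smul, hmω, hω, ← hmω, inv_smul_smul]
        have h3 := hbot _ h1 h2
        apply ht1
        have e : t = m * (m⁻¹ * t * m) * m⁻¹ := by group
        rw [e, h3]; group
      have htp1 : tp ≠ 1 := by rintro rfl; simp at hop; exact hp.one_lt.ne hop
      have htq1 : tq ≠ 1 := by rintro rfl; simp at hoq; exact hq'.one_lt.ne hoq
      have hs : g0 * tq * g0⁻¹ ∈ cj g0 T := conj_mem_cj htq
      have hso : orderOf (g0 * tq * g0⁻¹) = q := by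
        rw [← hoq]
        exact orderOf_injective (MulAut.conj g0).toMonoidHom (MulAut.conj g0).injective tq
      have hcomm : tp * (g0 * tq * g0⁻¹) = (g0 * tq * g0⁻¹) * tp := (hT2.2 _ hs _ htp).symm
      refine ⟨tp, tq, tp * (g0 * tq * g0⁻¹), hTder _ htp htp1, hTder _ htq htq1, ?_, ?_⟩
      · apply Der.of_pow q
        have e : (tp * (g0 * tq * g0⁻¹)) ^ q = tp ^ q := by
          have h1 : Commute tp (g0 * tq * g0⁻¹) := hcomm
          have h2 : (g0 * tq * g0⁻¹) ^ q = 1 := by rw [← hso]; exact pow_orderOf_eq_one _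
          rw [h1.mul_pow, h2, mul_one]
        rw [e]
        apply hTder _ (T.pow_mem htp q)
        intro h
        have := orderOf_dvd_of_pow_eq_one h
        rw [hop] at this
        exact hpq ((Nat.prime_dvd_prime_iff_eq hp hq').1 this)
      · exact hfin _ _ _ hop hoq (orderOf_mul_primes hcomm hp hq' hpq hop hso)
    · -- Case A1
      have hRle : R ≤ T := fun t ht => ht.1
      obtain ⟨t1, ht1, hnc⟩ := jordan' T R hRle hRT
      have hder : ∀ c ∈ C, Der Ω (t1 * c) := by
        intro c hc ω hω
        obtain ⟨m, hm, hmω⟩ := hMtr α ω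
        have h2 : (m⁻¹ * (t1 * c) * m) • α = α := by
          rw [mul_smul, mul_smul, hmω, hω, ← hmω, inv_smul_smul]
        obtain ⟨u, hu, d, hd, rfl⟩ := hF.exists_mul hm
        apply hnc u hu
        have e : (u * d)⁻¹ * (t1 * c) * (u * d) = (u⁻¹ * t1 * u) * (d⁻¹ * (c * d)) := by
          have e1 : d⁻¹ * (u⁻¹ * t1 * u) = (u⁻¹ * t1 * u) * d⁻¹ :=
            Factor.comm (Subgroup.inv_mem _ hd.2) (T.mul_mem (T.mul_mem (T.inv_mem hu) ht1) hu)
          have e2 : c * u = u * c := Factor.comm hc.2 hu
          have e3 : u * d = d * u := (Factor.comm hd.2 hu).symm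
          calc (u * d)⁻¹ * (t1 * c) * (u * d) = d⁻¹ * u⁻¹ * t1 * (c * u) * d := by group
            _ = d⁻¹ * (u⁻¹ * t1 * u) * (c * d) := by rw [e2]; group
            _ = _ := by rw [e1]; group
        rw [e] at h2
        exact ⟨T.mul_mem (T.mul_mem (T.inv_mem hu) ht1) hu, d⁻¹ * (c * d),
          C.mul_mem (C.inv_mem hd) (C.mul_mem hc hd), h2⟩
      have ht11 : t1 ≠ 1 := by
        rintro rfl
        exact hnc 1 T.one_mem (by simpa using R.one_mem)
      have hT2C : cj g0 T ≤ C := fun s hs => ⟨hT2M hs, Subgroup.mem_centralizer_iff.2 (fun t ht => (hT2.2 s hs t ht).symm)⟩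
      -- an element of prime order different from that of t1
      obtain ⟨s0, hs0, hs01, hs0o⟩ : ∃ s ∈ T, s ≠ 1 ∧ orderOf s ≠ orderOf t1 := by
        by_cases h : orderOf tp = orderOf t1
        · refine ⟨tq, htq, ?_, ?_⟩
          · rintro rfl; simp at hoq; exact hq'.one_lt.ne hoq
          · rw [← h, hop, hoq]; exact hpq.symm
        · refine ⟨tp, htp, ?_, h⟩
          rintro rfl; simp at hop; exact hp.one_lt.ne hop
      let s1 := g0 * t1 * g0⁻¹
      let s2 := g0 * s0 * g0⁻¹
      have hs1 : s1 ∈ cj g0 T := conj_mem_cj ht1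
      have hs2 : s2 ∈ cj g0 T := conj_mem_cj hs0
      have hs1o : orderOf s1 = orderOf t1 := orderOf_injective (MulAut.conj g0).toMonoidHom (MulAut.conj g0).injective t1
      have hs2o : orderOf s2 = orderOf s0 := orderOf_injective (MulAut.conj g0).toMonoidHom (MulAut.conj g0).injective s0
      have hs11 : s1 ≠ 1 := by
        intro h
        apply ht11
        have : t1 = g0⁻¹ * s1 * g0 := by simp only [s1]; group
        rw [this, h]; group
      have hs21 : s2 ≠ 1 := by
        intro h
        apply hs01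
        have : s0 = g0⁻¹ * s2 * g0 := by simp only [s2]; group
        rw [this, h]; group
      -- T-components
      have hcent1 : ∀ x ∈ T, x ≠ 1 → x ∉ Subgroup.centralizer (T : Set G) := by
        intro x hx hx1 hc
        exact hx1 (hF.eq_one hx hc)
      -- a conjugate of T commuting with x y, x ∈ T, y ∈ T2
      have hsup : ∀ g : G, cj g T ≠ T → cj g T ≠ cj g0 T → ∀ x ∈ T, ∀ y ∈ cj g0 T, ∀ s ∈ cj g T, (x * y) * s = s * (x * y) := by
        intro g hg hg' x hx y hy s hs
        have h1 := ((hF.dich g).resolve_left hg).2 s hs x hx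
        have h2 : cj (g0⁻¹ * g) T ≠ T := by
          intro h
          apply hg'
          have := congrArg (cj g0) h
          rwa [← cj_mul, mul_inv_cancel_left] at this
        have h3 := ((hF.dich _).resolve_left h2).2 (g0⁻¹ * s * g0) (by
          rw [cj_mul, mem_cj]
          simpa [mul_assoc] using hs) (g0⁻¹ * y * g0) (mem_cj.1 hy)
        have h4 : s * y = y * s := by
          have h5 : g0 * (g0⁻¹ * s * g0 * (g0⁻¹ * y * g0)) * g0⁻¹ = g0 * (g0⁻¹ * y * g0 * (g0⁻¹ * s * g0)) * g0⁻¹ := by rw [h3]
          have e1 : g0 * (g0⁻¹ * s * g0 * (g0⁻¹ * y * g0)) * g0⁻¹ = s * y := by group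
          have e2 : g0 * (g0⁻¹ * y * g0 * (g0⁻¹ * s * g0)) * g0⁻¹ = y * s := by group
          rwa [e1, e2] at h5
        calc x * y * s = x * (y * s) := by group
          _ = x * (s * y) := by rw [h4]
          _ = (x * s) * y := by group
          _ = (s * x) * y := by rw [h1]
          _ = s * (x * y) := by group
      -- x y does not commute with T when x ≠ 1
      have hnc1 : ∀ x ∈ T, x ≠ 1 → ∀ y ∈ cj g0 T, ¬ ∀ s ∈ T, (x * y) * s = s * (x * y) := by
        intro x hx hx1 y hy hall
        apply hcent1 x hx hx1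
        rw [Subgroup.mem_centralizer_iff]
        intro s hs
        have h1 := hall s hs
        have h2 := hT2.2 y hy s hs
        have h3 : (x * s) * y = (s * x) * y := by
          calc x * s * y = x * (s * y) := by group
            _ = x * (y * s) := by rw [h2]
            _ = (x * y) * s := by group
            _ = s * (x * y) := h1
            _ = s * x * y := by group
        exact (mul_right_cancel h3).symm
      have hnc2 : ∀ x ∈ T, ∀ y ∈ cj g0 T, y ≠ 1 → ¬ ∀ s ∈ cj g0 T, (x * y) * s = s * (x * y) := by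
        intro x hx y hy hy1 hall
        apply hcent1 (g0⁻¹ * y * g0) (mem_cj.1 hy) (by
          intro h
          apply hy1
          have : y = g0 * (g0⁻¹ * y * g0) * g0⁻¹ := by group
          rw [this, h]; group)
        rw [Subgroup.mem_centralizer_iff]
        intro s hs
        have h1 := hall _ (conj_mem_cj (g := g0) hs)
        have h2 := hT2.2 _ (conj_mem_cj (g := g0) hs) x hx
        have h3 : x * (y * (g0 * s * g0⁻¹)) = x * ((g0 * s * g0⁻¹) * y) := by
          calc x * (y * (g0 * s * g0⁻¹)) = x * y * (g0 * s * g0⁻¹) := by group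
            _ = (g0 * s * g0⁻¹) * (x * y) := h1
            _ = ((g0 * s * g0⁻¹) * x) * y := by group
            _ = (x * (g0 * s * g0⁻¹)) * y := by rw [h2]
            _ = _ := by group
        have h4 := mul_left_cancel h3
        have h5 : g0⁻¹ * (y * (g0 * s * g0⁻¹)) * g0 = g0⁻¹ * ((g0 * s * g0⁻¹) * y) * g0 := by rw [h4]
        have e1 : g0⁻¹ * (y * (g0 * s * g0⁻¹)) * g0 = (g0⁻¹ * y * g0) * s := by group
        have e2 : g0⁻¹ * ((g0 * s * g0⁻¹) * y) * g0 = s * (g0⁻¹ * y * g0) := by group
        rw [e1, e2] at h5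
        exact h5.symm
      -- transport of "commutes with cj h T"
      have hkey : ∀ (x y g : G), g * x * g⁻¹ = y → ∀ h : G, (∀ s ∈ cj h T, x * s = s * x) ↔ (∀ s ∈ cj (g * h) T, y * s = s * y) := by
        intro x y g hxy h
        constructor
        · intro hall s hs
          rw [cj_mul] at hs
          have h1 := hall (g⁻¹ * s * g) (mem_cj.1 hs)
          rw [← hxy]
          calc g * x * g⁻¹ * s = g * (x * (g⁻¹ * s * g)) * g⁻¹ := by group
            _ = g * ((g⁻¹ * s * g) * x) * g⁻¹ := by rw [h1]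
            _ = s * (g * x * g⁻¹) := by group
        · intro hall s hs
          have h1 := hall (g * s * g⁻¹) (by rw [cj_mul]; exact conj_mem_cj hs)
          rw [← hxy] at h1
          have h2 : g⁻¹ * (g * x * g⁻¹ * (g * s * g⁻¹)) * g = g⁻¹ * (g * s * g⁻¹ * (g * x * g⁻¹)) * g := by rw [h1]
          have e1 : g⁻¹ * (g * x * g⁻¹ * (g * s * g⁻¹)) * g = x * s := by group
          have e2 : g⁻¹ * (g * s * g⁻¹ * (g * x * g⁻¹)) * g = s * x := by group
          rwa [e1, e2] at h2
      have hT1 : cj 1 T = T := cj_one T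
      -- t1 is not conjugate to t1 * y, y ≠ 1 in T2
      have hA : ∀ y ∈ cj g0 T, y ≠ 1 → ¬ IsConj (t1 * y) t1 := by
        intro y hy hy1 hcon
        obtain ⟨g, hg⟩ := isConj_iff.1 hcon
        -- both cj g T and cj (g * g0) T are noncommuting with t1 so equal T
        have h1 : cj g T = T := by
          by_contra hne
          have h2 : ∀ s ∈ cj (g * 1) T, t1 * s = s * t1 := by
            rw [mul_one]
            intro s hs
            exact (((hF.dich g).resolve_left hne).2 s hs t1 ht1).symm
          have h3 := (hkey _ _ g hg 1).2 h2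
          rw [hT1] at h3
          exact hnc1 t1 ht1 ht11 y hy h3
        have h1' : cj (g * g0) T = T := by
          by_contra hne
          have h2 : ∀ s ∈ cj (g * g0) T, t1 * s = s * t1 := by
            intro s hs
            exact (((hF.dich _).resolve_left hne).2 s hs t1 ht1).symm
          have h3 := (hkey _ _ g hg g0).2 h2
          exact hnc2 t1 ht1 y hy hy1 h3
        apply hg0
        rw [cj_mul] at h1'
        exact cj_inj (g := g) (by rw [h1', h1])
      refine ⟨t1, t1 * s1, t1 * s2, by simpa using hder 1 C.one_mem, hder s1 (hT2C hs1), hder s2 (hT2C hs2),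
        fun h => hA s1 hs1 hs11 h.symm, fun h => hA s2 hs2 hs21 h.symm, ?_⟩
      intro hcon
      obtain ⟨g, hg⟩ := isConj_iff.1 hcon
      -- g (t1 s1) g⁻¹ = t1 s2 ; g permutes {T, T2}
      have hmem : cj g T = T ∨ cj g T = cj g0 T := by
        by_contra hne
        push Not at hne
        have h2 : ∀ s ∈ cj (g * 1) T, (t1 * s2) * s = s * (t1 * s2) := by
          rw [mul_one]
          exact hsup g hne.1 hne.2 t1 ht1 s2 hs2
        have h3 := (hkey _ _ g hg 1).2 h2
        rw [hT1] at h3
        exact hnc1 t1 ht1 ht11 s1 hs1 h3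
      have hmem2 : cj (g * g0) T = T ∨ cj (g * g0) T = cj g0 T := by
        by_contra hne
        push Not at hne
        have h2 := hsup (g * g0) hne.1 hne.2 t1 ht1 s2 hs2
        have h3 := (hkey _ _ g hg g0).2 h2
        exact hnc2 t1 ht1 s1 hs1 hs11 h3
      have hne : cj (g * g0) T ≠ cj g T := by
        intro h
        rw [cj_mul] at h
        exact hg0 (cj_inj h)
      have hgs1 : g * s1 * g⁻¹ ∈ cj (g * g0) T := by rw [cj_mul]; exact conj_mem_cj hs1
      have hgt1 : g * t1 * g⁻¹ ∈ cj g T := conj_mem_cj ht1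
      have he : (g * t1 * g⁻¹) * (g * s1 * g⁻¹) = t1 * s2 := by rw [← hg]; group
      have hog : ∀ x : G, orderOf (g * x * g⁻¹) = orderOf x := fun x =>
        orderOf_injective (MulAut.conj g).toMonoidHom (MulAut.conj g).injective x
      rcases hmem with h1 | h1
      · have h2 : cj (g * g0) T = cj g0 T := hmem2.resolve_left (fun h => hne (by rw [h, h1]))
        rw [h1] at hgt1
        rw [h2] at hgs1
        have h3 := hF.unique hgt1 ht1 (hT2C hgs1).2 (hT2C hs2).2 he
        apply hs0o
        rw [← hs2o, ← h3.2, hog, hs1o]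
      · have h2 : cj (g * g0) T = T := hmem2.resolve_right (fun h => hne (by rw [h, h1]))
        rw [h1] at hgt1
        rw [h2] at hgs1
        have he2 : (g * s1 * g⁻¹) * (g * t1 * g⁻¹) = t1 * s2 := by
          rw [← he]
          exact (hT2.2 _ hgt1 _ hgs1).symm
        have h3 := hF.unique hgs1 ht1 (hT2C hgt1).2 (hT2C hs2).2 he2
        apply hs0o
        rw [← hs2o, ← h3.2, hog]

end Cfsg.Agent.H20.Derange
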