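import Mathlib
import Cfsg.Prelude.Def_Characters
import Cfsg.Agent.H3_CharComplete
import Cfsg.Agent.H3_CharInd
import Cfsg.Agent.H3_CharInt
import Cfsg.Agent.H3_CharQuot
import Cfsg.Agent.H3_Clifford
import Cfsg.Agent.H3_Clifford2

/-!
# Lifting an invariant character to an extendible one; degree quotients
-/

set_option autoImplicit false

open scoped ComplexConjugate

namespace Cfsg.Agent.H3.Lift

open Cfsg Cfsg.Agent.H3.CharBasic Cfsg.Agent.H3.CharIrr Cfsg.Agent.H3.CharComplete Cfsg.Agent.H3.CharInt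
  Cfsg.Agent.H3.CharInd Cfsg.Agent.H3.Clifford Cfsg.Agent.H3.CharMult

universe u

/-- Given an invariant irreducible character `ϑ` of the normal subgroup `N` of `G` there are a
finite group `Γ`, an epimorphism `π : Γ → G` with central kernel, a lift `j : N → Γ` with normal
image, and an irreducible character of `Γ` extending `ϑ`. -/
theorem exists_lift {G : Type u} [Group G] [Finite G] (N : Subgroup G) [hN : N.Normal]
    (ϑ : N → ℂ) (hϑ : IsIrrCharacter N ϑ)
    (hinv : ∀ (g : G) (n : N), ϑ ⟨g * n * g⁻¹, hN.conj_mem (n : G) n.2 g⟩ = ϑ n) :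
    ∃ (Γ : Type u) (_ : Group Γ) (_ : Finite Γ) (π : Γ →* G) (j : N →* Γ) (ϑ' : Γ → ℂ),
      Function.Surjective π ∧ (∀ n : N, π (j n) = n) ∧ j.range.Normal ∧
      π.ker ≤ Subgroup.center Γ ∧ IsIrrCharacter Γ ϑ' ∧ ∀ n : N, ϑ' (j n) = ϑ n := by
  classical
  obtain ⟨d, ρ, hρ, rfl⟩ := hϑ
  have hnt := ((irrep_iff ρ).mp hρ).1
  have hd : d ≠ 0 := by
    rintro rfl
    exact not_subsingleton (Fin 0 → ℂ) inferInstance
  -- units
  obtain ⟨U, hUdef⟩ : ∃ U : N →* (Module.End ℂ (Fin d → ℂ))ˣ, ∀ n, (U n : Module.End ℂ (Fin d → ℂ)) = ρ n :=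
    ⟨ρ.toHomUnits, fun n => MonoidHom.coe_toHomUnits ρ n⟩
  obtain ⟨k, hk⟩ : ∃ k, k = Nat.card N := ⟨_, rfl⟩
  have hk0 : k ≠ 0 := by rw [hk]; exact Nat.card_pos.ne'
  obtain ⟨D, hD⟩ : ∃ D : (Module.End ℂ (Fin d → ℂ))ˣ →* ℂ, ∀ P, D P = LinearMap.det (P : Module.End ℂ (Fin d → ℂ)) :=
    ⟨(LinearMap.det : Module.End ℂ (Fin d → ℂ) →* ℂ).comp (Units.coeHom _), fun P => rfl⟩
  let Γ : Subgroup (G × (Module.End ℂ (Fin d → ℂ))ˣ) :=
    { carrier := {p | (∀ n : N, p.2 * U n * p.2⁻¹ = U ⟨p.1 * n * p.1⁻¹, hN.conj_mem _ n.2 p.1⟩) ∧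
        D p.2 ^ k = 1}
      mul_mem' := by
        rintro ⟨x, P⟩ ⟨y, Q⟩ ⟨hP, hP'⟩ ⟨hQ, hQ'⟩
        refine ⟨fun n => ?_, ?_⟩
        · simp only [Prod.mk_mul_mk] at *
          have h1 : P * Q * U n * (P * Q)⁻¹ = P * (Q * U n * Q⁻¹) * P⁻¹ := by group
          rw [h1, hQ, hP]
          congr 1
          apply Subtype.ext
          simp only
          group
        · simp only [Prod.mk_mul_mk] at *
          rw [map_mul, mul_pow, hP', hQ', mul_one]
      one_mem' := by
        refine ⟨fun n => ?_, ?_⟩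
        · simp
        · simp only [Prod.snd_one, map_one, one_pow]
      inv_mem' := by
        rintro ⟨x, P⟩ ⟨hP, hP'⟩
        refine ⟨fun n => ?_, ?_⟩
        · simp only [Prod.inv_mk] at *
          have hmem : x⁻¹ * (n : G) * x ∈ N := by
            have := hN.conj_mem (n : G) n.2 x⁻¹; rwa [inv_inv] at this
          have h1 := hP ⟨x⁻¹ * n * x, hmem⟩
          have h2 : (⟨x * ((⟨x⁻¹ * n * x, hmem⟩ : N) : G) * x⁻¹, hN.conj_mem _ (⟨x⁻¹ * n * x, hmem⟩ : N).2 x⟩ : N) = n := by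
            apply Subtype.ext; simp only; group
          rw [h2] at h1
          have h3 : (⟨x⁻¹ * (n : G) * x⁻¹⁻¹, hN.conj_mem (n : G) n.2 x⁻¹⟩ : N) = ⟨x⁻¹ * n * x, hmem⟩ := by
            apply Subtype.ext; simp only [inv_inv]
          rw [h3, ← h1]
          group
        · simp only [Prod.inv_mk] at *
          have h4 : D P⁻¹ * D P = 1 := by rw [← map_mul, inv_mul_cancel, map_one]
          have h5 : (D P⁻¹ * D P) ^ k = 1 := by rw [h4, one_pow]
          rwa [mul_pow, hP', mul_one] at h5 }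
  have hΓ : ∀ p : G × (Module.End ℂ (Fin d → ℂ))ˣ, p ∈ Γ ↔
      (∀ n : N, p.2 * U n * p.2⁻¹ = U ⟨p.1 * n * p.1⁻¹, hN.conj_mem _ n.2 p.1⟩) ∧
        D p.2 ^ k = 1 := fun p => Iff.rfl
  let π : Γ →* G := (MonoidHom.fst G _).comp Γ.subtype
  have hπ : ∀ p : Γ, π p = (p : G × (Module.End ℂ (Fin d → ℂ))ˣ).1 := fun p => rfl
  -- the kernel consists of scalars
  have hker : ∀ p : Γ, π p = 1 → ∃ c : ℂ, ((p : G × (Module.End ℂ (Fin d → ℂ))ˣ).2 : Module.End ℂ (Fin d → ℂ)) = c • LinearMap.id := by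
    rintro ⟨⟨x, P⟩, hP⟩ hx
    rw [hπ] at hx
    simp only at hx
    subst hx
    apply schur ρ hρ
    intro n v
    have h1 := ((hΓ _).mp hP).1 n
    simp only at h1
    have h2 : (⟨1 * (n : G) * 1⁻¹, hN.conj_mem _ n.2 1⟩ : N) = n := by apply Subtype.ext; simp
    rw [h2, mul_inv_eq_iff_eq_mul] at h1
    have h3 := congrArg (fun u : (Module.End ℂ (Fin d → ℂ))ˣ => (u : Module.End ℂ (Fin d → ℂ)) v) h1
    simp only [Units.val_mul, Module.End.mul_apply, hUdef] at h3
    exact h3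
  have hkerc : π.ker ≤ Subgroup.center Γ := by
    intro p hp
    obtain ⟨c, hc⟩ := hker p (MonoidHom.mem_ker.mp hp)
    rw [Subgroup.mem_center_iff]
    intro q
    apply Subtype.ext
    apply Prod.ext
    · have h1 : (p : G × (Module.End ℂ (Fin d → ℂ))ˣ).1 = 1 := MonoidHom.mem_ker.mp hp
      simp only [Subgroup.coe_mul, Prod.fst_mul, h1, one_mul, mul_one]
    · apply Units.ext
      simp only [Subgroup.coe_mul, Prod.snd_mul, Units.val_mul, hc]
      apply LinearMap.ext
      intro v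
      simp only [Module.End.mul_apply, LinearMap.smul_apply, LinearMap.id_apply, map_smul]
  -- finiteness
  have hkerfin : Finite π.ker := by
    have hch : ∀ p : π.ker, ∃ c : ℂ, (((p : Γ) : G × (Module.End ℂ (Fin d → ℂ))ˣ).2 : Module.End ℂ (Fin d → ℂ)) = c • LinearMap.id :=
      fun p => hker p (MonoidHom.mem_ker.mp p.2)
    choose c hc using hch
    have hroot : ∀ p : π.ker, c p ∈ (Polynomial.nthRoots (d * k) (1 : ℂ)).toFinset := by
      intro p
      rw [Multiset.mem_toFinset, Polynomial.mem_nthRoots (Nat.pos_of_ne_zero (mul_ne_zero hd hk0))]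
      have h1 := ((hΓ _).mp (p : Γ).2).2
      rw [hD, hc p, LinearMap.det_smul, LinearMap.det_id, mul_one, Module.finrank_fin_fun, ← pow_mul] at h1
      exact h1
    have hinj : Function.Injective (fun p : π.ker => (⟨c p, hroot p⟩ : {x // x ∈ (Polynomial.nthRoots (d * k) (1 : ℂ)).toFinset})) := by
      intro p q hpq
      have h1 : c p = c q := congrArg Subtype.val hpq
      apply Subtype.ext
      apply Subtype.ext
      apply Prod.ext
      · have h2 : ((p : Γ) : G × (Module.End ℂ (Fin d → ℂ))ˣ).1 = 1 := MonoidHom.mem_ker.mp p.2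
        have h3 : ((q : Γ) : G × (Module.End ℂ (Fin d → ℂ))ˣ).1 = 1 := MonoidHom.mem_ker.mp q.2
        rw [h2, h3]
      · apply Units.ext
        rw [hc p, hc q, h1]
    exact Finite.of_injective _ hinj
  have hfin : Finite Γ := by
    have h1 : Finite (Γ ⧸ π.ker) := Finite.of_injective _ (QuotientGroup.kerLift_injective π)
    exact Finite.of_equiv _ (Subgroup.groupEquivQuotientProdSubgroup (s := π.ker)).symm
  -- surjectivity
  have hsurj : Function.Surjective π := by
    intro g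
    obtain ⟨cg, hcg⟩ : ∃ cg : N ≃* N, ∀ n : N, (cg n : G) = g * n * g⁻¹ :=
      ⟨MulAut.conjNormal g, fun n => MulAut.conjNormal_apply g n⟩
    obtain ⟨σ, hσdef⟩ : ∃ σ : Representation ℂ N (Fin d → ℂ), σ = ρ.comp cg.toMonoidHom := ⟨_, rfl⟩
    have hσapp : ∀ n : N, σ n = ρ (cg n) := by intro n; rw [hσdef]; rfl
    have hσ : σ.IsIrreducible := by
      rw [irrep_iff] at hρ ⊢
      refine ⟨hρ.1, fun U hU => hρ.2 U fun n v hv => ?_⟩
      have := hU (cg.symm n) v hv
      rwa [hσapp, MulEquiv.apply_symm_apply] at this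
    have hchar : ρ.character = σ.character := by
      funext n
      rw [Representation.character, Representation.character, hσapp]
      have := (hinv g n).symm
      rw [Representation.character, Representation.character] at this
      rw [this]
      congr 2
      exact Subtype.ext (hcg n).symm
    obtain ⟨e⟩ := equiv_of_irr_char_eq ρ σ hρ hσ hchar
    obtain ⟨P, hPdef⟩ : ∃ P : (Module.End ℂ (Fin d → ℂ))ˣ, ∀ v, (P : Module.End ℂ (Fin d → ℂ)) v = e v := by
      refine ⟨⟨e.toLinearEquiv.toLinearMap, e.toLinearEquiv.symm.toLinearMap, ?_, ?_⟩, fun v => rfl⟩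
      · apply LinearMap.ext; intro v; exact e.toLinearEquiv.apply_symm_apply v
      · apply LinearMap.ext; intro v; exact e.toLinearEquiv.symm_apply_apply v
    have hP : ∀ n : N, P * U n = U ⟨g * n * g⁻¹, hN.conj_mem _ n.2 g⟩ * P := by
      intro n
      apply Units.ext
      rw [Units.val_mul, Units.val_mul, hUdef, hUdef]
      apply LinearMap.ext
      intro v
      have h1 : (⟨g * n * g⁻¹, hN.conj_mem _ n.2 g⟩ : N) = cg n := Subtype.ext (hcg n).symm
      rw [Module.End.mul_apply, Module.End.mul_apply, hPdef, hPdef, h1, ← hσapp]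
      exact Representation.IntertwiningMap.isIntertwining _ _ e.toIntertwiningMap n v
    have hDP : D P ≠ 0 := by
      intro h
      have h4 : D P⁻¹ * D P = 1 := by rw [← map_mul, inv_mul_cancel, map_one]
      rw [h, mul_zero] at h4
      exact zero_ne_one h4
    obtain ⟨r, hr⟩ := IsAlgClosed.exists_pow_nat_eq (D P)⁻¹ (Nat.pos_of_ne_zero hd)
    have hr0 : r ≠ 0 := by
      rintro rfl
      rw [zero_pow hd] at hr
      exact inv_ne_zero hDP hr.symm
    obtain ⟨R, hRdef⟩ : ∃ R : (Module.End ℂ (Fin d → ℂ))ˣ, (R : Module.End ℂ (Fin d → ℂ)) = r • (1 : Module.End ℂ (Fin d → ℂ)) := by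
      refine ⟨⟨r • (1 : Module.End ℂ (Fin d → ℂ)), r⁻¹ • (1 : Module.End ℂ (Fin d → ℂ)), ?_, ?_⟩, rfl⟩
      · rw [smul_mul_smul_comm, mul_inv_cancel₀ hr0, one_mul, one_smul]
      · rw [smul_mul_smul_comm, inv_mul_cancel₀ hr0, one_mul, one_smul]
    have hRcomm : ∀ Q : (Module.End ℂ (Fin d → ℂ))ˣ, R * Q = Q * R := by
      intro Q
      apply Units.ext
      rw [Units.val_mul, Units.val_mul, hRdef, smul_mul_assoc, mul_smul_comm, one_mul, mul_one]
    have hDR : D R = (D P)⁻¹ := by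
      rw [hD, hRdef, LinearMap.det_smul, map_one, mul_one, Module.finrank_fin_fun, hr]
    refine ⟨⟨(g, R * P), (hΓ _).mpr ⟨fun n => ?_, ?_⟩⟩, rfl⟩
    · simp only
      rw [mul_inv_eq_iff_eq_mul, mul_assoc, hP, ← mul_assoc, hRcomm, mul_assoc]
    · simp only
      rw [map_mul, hDR, inv_mul_cancel₀ hDP, one_pow]
  -- the lift
  have hjmem : ∀ n : N, ((n : G), U n) ∈ Γ := by
    intro n
    rw [hΓ]
    refine ⟨fun m => ?_, ?_⟩
    · simp only
      rw [← map_inv, ← map_mul, ← map_mul]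
      congr 1
    · simp only
      rw [← map_pow, ← map_pow, hk, pow_card_eq_one', map_one, map_one]
  let j : N →* Γ := MonoidHom.mk' (fun n => ⟨((n : G), U n), hjmem n⟩) (fun a b => by
    apply Subtype.ext
    simp only [Subgroup.coe_mul, map_mul, Prod.mk_mul_mk])
  have hj : ∀ n, ((j n : Γ) : G × (Module.End ℂ (Fin d → ℂ))ˣ) = ((n : G), U n) := fun n => rfl
  refine ⟨Γ, inferInstance, hfin, π, j, ?_⟩
  -- representation
  obtain ⟨τ, hτ⟩ : ∃ τ : Representation ℂ Γ (Fin d → ℂ), ∀ p : Γ, τ p = ((p : G × (Module.End ℂ (Fin d → ℂ))ˣ).2 : Module.End ℂ (Fin d → ℂ)) :=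
    ⟨(Units.coeHom _).comp ((MonoidHom.snd G _).comp Γ.subtype), fun p => rfl⟩
  have hτj : ∀ n : N, τ (j n) = ρ n := by intro n; rw [hτ, hj, hUdef]
  refine ⟨τ.character, hsurj, fun n => rfl, ?_, hkerc, ⟨d, τ, ?_, rfl⟩, fun n => ?_⟩
  · refine ⟨?_⟩
    rintro _ ⟨n, rfl⟩ p
    refine ⟨⟨(p : G × (Module.End ℂ (Fin d → ℂ))ˣ).1 * n * (p : G × (Module.End ℂ (Fin d → ℂ))ˣ).1⁻¹, hN.conj_mem _ n.2 _⟩, ?_⟩
    apply Subtype.ext
    rw [hj]
    apply Prod.ext
    · simp only [Subgroup.coe_mul, Prod.fst_mul, hj, Subgroup.coe_inv, Prod.fst_inv]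
    · simp only [Subgroup.coe_mul, Prod.snd_mul, hj, Subgroup.coe_inv, Prod.snd_inv]
      exact (((hΓ _).mp p.2).1 n).symm
  · rw [irrep_iff] at hρ ⊢
    refine ⟨hρ.1, fun W hW => hρ.2 W fun n v hv => ?_⟩
    have := hW (j n) v hv
    rwa [hτj] at this
  · rw [Representation.character, Representation.character, hτj]

/-- Gallagher, surjectivity: an irreducible character lying over the extendible `χ_N` is `β χ`. -/
theorem gallagher_exists {G : Type*} [Group G] [Fintype G] {N : Subgroup G} (hN : N.Normal)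
    [Fintype N] {χ : G → ℂ} (hχ : IsIrrCharacter G χ)
    (hχN : IsIrrCharacter N (fun n : N => χ n)) {ψ : G → ℂ} (hψ : IsIrrCharacter G ψ)
    (h0 : classInner (fun n : N => ψ n) (fun n : N => χ n) ≠ 0) :
    ∃ β : G → ℂ, IsIrrCharacter G β ∧ InKer N β ∧ ψ = β * χ := by
  classical
  have hγ : IsCharacter G (avg N (ψ * fun g => conj (χ g))) :=
    avg_isChar hN (IsChar.mul (IsIrr.isCharacter hψ) (IsChar.conj (IsIrr.isCharacter hχ)))
  have hγ1 : avg N (ψ * fun g => conj (χ g)) 1 ≠ 0 := by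
    have h1 : avg N (ψ * fun g => conj (χ g)) 1 = classInner (fun n : N => ψ n) (fun n : N => χ n) := by
      simp only [avg, classInner, Pi.mul_apply, mul_one]
    rw [h1]; exact h0
  obtain ⟨β, hβ, hβc⟩ := exists_constituent hγ (fun h => hγ1 (by rw [h]; rfl))
  have hβk : InKer N β := by
    rcases avg_irr hN hβ with h | h
    · exact h
    · exfalso
      apply hβc
      have h2 := ci_avg_left (N := N) (avg N (ψ * fun g => conj (χ g))) β
      rw [(avg_inKer (ψ * fun g => conj (χ g))).avg_eq, h] at h2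
      rw [h2, ci_zero_right]
  refine ⟨β, hβ, hβk, ?_⟩
  by_contra hne
  apply hβc
  rw [ci_avg_left, hβk.avg_eq]
  have h3 : classInner (ψ * fun g => conj (χ g)) β = classInner ψ (β * χ) := by
    simp only [classInner, Pi.mul_apply, map_mul]
    congr 1
    refine Finset.sum_congr rfl fun g _ => ?_
    ring
  rw [h3, ci_irr hψ (gallagher_irr hN hχ hχN hβ hβk), if_neg hne]

/-- Degree quotient in the invariant case. -/
theorem degree_dvd_invariant {G : Type*} [Group G] [Fintype G] (N : Subgroup G) [hN : N.Normal]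
    [Fintype N] {χ : G → ℂ} (hχ : IsIrrCharacter G χ) {ϑ : N → ℂ} (hϑ : IsIrrCharacter N ϑ)
    (hinv : ∀ (g : G) (n : N), ϑ ⟨g * n * g⁻¹, hN.conj_mem (n : G) n.2 g⟩ = ϑ n)
    (h0 : classInner (fun n : N => χ n) ϑ ≠ 0) :
    ∃ b : ℕ, χ 1 = b * ϑ 1 ∧ b ∣ N.index := by
  classical
  obtain ⟨Γ, _, _, π, j, ϑ', hsurj, hπj, hjn, hkc, hϑ', hext⟩ := exists_lift N ϑ hϑ hinv
  have := Fintype.ofFinite Γ
  have hjinj : Function.Injective j := by
    intro a b hab
    have := congrArg π hab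
    rw [hπj, hπj] at this
    exact Subtype.ext this
  have := Fintype.ofFinite j.range
  obtain ⟨ej, hej⟩ : ∃ ej : N ≃* j.range, ∀ n, (ej n : Γ) = j n :=
    ⟨MonoidHom.ofInjective hjinj, fun n => rfl⟩
  have hϑ'N : IsIrrCharacter j.range (fun x : j.range => ϑ' x) := by
    rw [← isIrr_comp_iff ej]
    have h1 : (fun n : N => ϑ' (ej n : Γ)) = ϑ := by
      funext n; rw [hej, hext]
    rw [h1]; exact hϑ
  have hχ' : IsIrrCharacter Γ (fun p => χ (π p)) := IsIrr.comp hχ π hsurj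
  have h1 : classInner (fun x : j.range => χ (π x)) (fun x : j.range => ϑ' x) ≠ 0 := by
    have h2 : classInner (fun x : j.range => χ (π x)) (fun x : j.range => ϑ' x) =
        classInner (fun n : N => χ n) ϑ := by
      simp only [classInner]
      rw [← Nat.card_congr ej.toEquiv, ← Equiv.sum_comp ej.toEquiv]
      congr 1
      refine Finset.sum_congr rfl fun n _ => ?_
      have h3 : (ej.toEquiv n : Γ) = j n := hej n
      rw [h3, hπj, hext]
    rw [h2]; exact h0
  obtain ⟨β, hβ, hβk, hprod⟩ := gallagher_exists hjn hϑ' hϑ'N hχ' h1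
  obtain ⟨b, τ, hτ, rfl⟩ := id hβ
  refine ⟨b, ?_, ?_⟩
  · have h2 := congrFun hprod 1
    have h4 : ϑ' 1 = ϑ 1 := by rw [← hext 1, map_one]
    simp only [Pi.mul_apply, map_one] at h2
    rw [h2, h4, Representation.char_one, Module.finrank_fin_fun]
  · have h2 := finrank_dvd_index τ hτ (N.comap π) (by
      intro z hz
      have hz' : π z ∈ N := hz
      have hk : (j ⟨π z, hz'⟩)⁻¹ * z ∈ π.ker := by
        rw [MonoidHom.mem_ker, map_mul, map_inv, hπj, inv_mul_cancel]
      obtain ⟨c, hc⟩ := central_scalar τ hτ (hkc hk)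
      refine ⟨c, ?_⟩
      have h3 : τ (j ⟨π z, hz'⟩) = 1 := by
        rw [H3.CharQuot.rep_eq_one_iff]
        have := hβk (j ⟨π z, hz'⟩) ⟨_, rfl⟩ 1
        rwa [mul_one] at this
      have h4 : z = j ⟨π z, hz'⟩ * ((j ⟨π z, hz'⟩)⁻¹ * z) := by group
      rw [h4, map_mul, h3, one_mul, hc])
    rw [Module.finrank_fin_fun, Subgroup.index_comap_of_surjective _ hsurj] at h2
    exact h2

/-- The degree quotient divides the index. -/
theorem degree_dvd {G : Type*} [Group G] [Fintype G] (N : Subgroup G) [hN : N.Normal]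
    [Fintype N] {χ : G → ℂ} (hχ : IsIrrCharacter G χ) {ϑ : N → ℂ} (hϑ : IsIrrCharacter N ϑ)
    (h0 : classInner (fun n : N => χ n) ϑ ≠ 0) :
    ∃ b : ℕ, χ 1 = b * ϑ 1 ∧ b ∣ N.index := by
  classical
  obtain ⟨T, hT⟩ : ∃ T : Subgroup G, T = inertia hN ϑ := ⟨_, rfl⟩
  have := Fintype.ofFinite T
  have hNT : N ≤ T := by rw [hT]; exact le_inertia hN (IsChar.isClass (IsIrr.isCharacter hϑ))
  obtain ⟨ψ, hψ, hind, hin⟩ := clifford_corr hN hχ hϑ h0 T hT hNT
  have := Fintype.ofFinite (N.subgroupOf T)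
  obtain ⟨e, he⟩ : ∃ e : N.subgroupOf T ≃* N, ∀ x : N.subgroupOf T, ((e x : N) : G) = ((x : T) : G) :=
    ⟨Subgroup.subgroupOfEquivOfLe hNT, fun x => rfl⟩
  have hϑT : IsIrrCharacter (N.subgroupOf T) (fun x => ϑ (e x)) := (isIrr_comp_iff e).mpr hϑ
  have hnT : (N.subgroupOf T).Normal := hN.subgroupOf T
  have h0' : classInner (fun x : N.subgroupOf T => ψ x) (fun x : N.subgroupOf T => ϑ (e x)) ≠ 0 := by
    have h1 := ci_subgroupOf hNT (fun n : N => ψ ⟨(n : G), hNT n.2⟩) ϑ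
    rw [hin] at h1
    have h2 : (fun x : N.subgroupOf T => ϑ (e x)) = fun x : N.subgroupOf T => ϑ ⟨(x : T), Subgroup.mem_subgroupOf.mp x.2⟩ := by
      funext x; congr 1; apply Subtype.ext; exact he x
    rw [h2]
    rw [← h1] at h0
    exact h0
  obtain ⟨b, hb, hbd⟩ := degree_dvd_invariant (N.subgroupOf T) hψ hϑT (by
    intro g n
    have hg : (g : G) ∈ inertia hN ϑ := by rw [← hT]; exact g.2
    rw [mem_inertia] at hg
    have h3 := congrFun hg (e n)
    rw [cj_apply] at h3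
    rw [← h3]
    congr 1
    apply Subtype.ext
    rw [he]
    simp only [Subgroup.coe_mul, Subgroup.coe_inv, he]) h0'
  refine ⟨T.index * b, ?_, ?_⟩
  · rw [← hind, ind_one, hb, map_one]; push_cast; ring
  · have h4 : (N.subgroupOf T).index * T.index = N.index := Subgroup.relIndex_mul_index hNT
    rw [← h4, mul_comm]
    exact mul_dvd_mul_right hbd _

end Cfsg.Agent.H3.Lift
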