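import Mathlib
import Cfsg.Prelude.Def_Characters
import Cfsg.Prelude.Def_Blocks
import Cfsg.Agent.H3_Lift
import Cfsg.Agent.H3_Clifford2
import Cfsg.Agent.H1_Coprime2
import Cfsg.Agent.H20_Derange
import Cfsg.Agent.H22_PSolv
import Cfsg.Agent.H11_Cores
import Cfsg.Agent.H1_Hall
import Cfsg.Agent.H1_Schmidt2

set_option autoImplicit false

open Pointwise
open scoped ComplexConjugate
open scoped commutatorElement

universe u

/-! Character degrees: basics, Ito's theorem for `p`-solvable groups. -/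

namespace Cfsg.Agent.H1.Deg

open Cfsg Cfsg.Agent.H3.CharBasic Cfsg.Agent.H3.CharIrr Cfsg.Agent.H3.CharComplete
  Cfsg.Agent.H3.CharMult Cfsg.Agent.H3.CharInd Cfsg.Agent.H3.CharInt Cfsg.Agent.H3.Clifford
  Cfsg.Agent.H3.CharQuot
open Cfsg.Agent.H1.Basic Cfsg.Agent.H1.SZ

/-- type carrying the conjugation action -/
@[ext] structure CY (G : Type*) where
  /-- the value -/
  val : G

instance (G : Type*) [Group G] : MulAction G (CY G) where
  smul x y := ⟨x * y.val * x⁻¹⟩
  one_smul y := by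
    ext
    show 1 * y.val * 1⁻¹ = y.val
    simp
  mul_smul a b y := by
    ext
    show (a * b) * y.val * (a * b)⁻¹ = a * (b * y.val * b⁻¹) * a⁻¹
    group

theorem CY.smul_val {G : Type*} [Group G] (x : G) (y : CY G) :
    (x • y).val = x * y.val * x⁻¹ := rfl

section

variable {G : Type*} [Group G]

theorem deg_eq {χ : G → ℂ} {n : ℕ} (h : χ 1 = n) : charDegree χ = n := by
  unfold charDegree
  rw [h]
  simp

theorem coe_deg {χ : G → ℂ} (h : IsCharacter G χ) : ((charDegree χ : ℕ) : ℂ) = χ 1 := by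
  obtain ⟨n, hn⟩ := IsChar.one_eq_nat h
  rw [deg_eq hn, hn]

theorem deg_pos {χ : G → ℂ} (h : IsIrrCharacter G χ) : 0 < charDegree χ := by
  obtain ⟨n, hn, h1⟩ := IsIrr.one_eq_nat h
  rw [deg_eq h1]; exact hn

theorem deg_dvd_card [Finite G] {χ : G → ℂ} (h : IsIrrCharacter G χ) :
    charDegree χ ∣ Nat.card G := by
  obtain ⟨n, -, h1, h2⟩ := IsIrr.dvd_card h
  rw [deg_eq h1]; exact h2

/-- elements not separated by irreducible characters are conjugate -/
theorem conj_of_forall_irr [Finite G] {x y : G}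
    (h : ∀ χ : G → ℂ, IsIrrCharacter G χ → χ x = χ y) : IsConj x y := by
  classical
  have : Fintype G := Fintype.ofFinite G
  have : Fintype (IrrCharacter G) := Fintype.ofFinite _
  by_contra hc
  have h1 := orth2 x y
  rw [if_neg hc] at h1
  have h2 := orth2 y y
  rw [if_pos (IsConj.refl y)] at h2
  have h3 : ∑ χ : IrrCharacter G, (χ : G → ℂ) x * conj ((χ : G → ℂ) y) =
      ∑ χ : IrrCharacter G, (χ : G → ℂ) y * conj ((χ : G → ℂ) y) :=
    Finset.sum_congr rfl (fun χ _ => by rw [h χ χ.2])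
  rw [h1, h2] at h3
  have h4 : (Nat.card (Subgroup.centralizer ({y} : Set G)) : ℂ) ≠ 0 := by
    exact_mod_cast Nat.card_pos.ne'
  exact h4 h3.symm

theorem eq_one_of_forall_irr [Finite G] {x : G}
    (h : ∀ χ : G → ℂ, IsIrrCharacter G χ → χ x = χ 1) : x = 1 := by
  have h1 := conj_of_forall_irr h
  exact isConj_one_left.mp h1

/-- all irreducible characters linear implies commutative -/
theorem comm_of_linear [Finite G] (h : ∀ χ : G → ℂ, IsIrrCharacter G χ → χ 1 = 1) (x y : G) :
    x * y = y * x := by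
  have h1 : x * y * x⁻¹ * y⁻¹ = 1 := by
    apply eq_one_of_forall_irr
    intro χ hχ
    obtain ⟨f, hf⟩ := IsChar.hom_units_of_one (IsIrr.isCharacter hχ) (h χ hχ)
    rw [hf, hf, map_mul, map_mul, map_mul, map_inv, map_inv]
    have : f x * f y * (f x)⁻¹ * (f y)⁻¹ = 1 := by
      rw [mul_comm (f x) (f y)]; group
    rw [this, map_one]
  calc x * y = (x * y * x⁻¹ * y⁻¹) * (y * x) := by group
    _ = y * x := by rw [h1, one_mul]

/-- there is a character of `G` over each character of a normal subgroup, with degree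
divisible by it -/
theorem exists_over [Finite G] (N : Subgroup G) [hN : N.Normal] {θ : N → ℂ}
    (hθ : IsIrrCharacter N θ) : ∃ χ : G → ℂ, IsIrrCharacter G χ ∧ charDegree θ ∣ charDegree χ := by
  classical
  have : Fintype G := Fintype.ofFinite G
  have : Fintype N := Fintype.ofFinite N
  obtain ⟨χ, hχ, h1⟩ := exists_constituent_ind (H := N) hθ
  rw [constituent_ind_iff (IsIrr.isCharacter hχ)] at h1
  obtain ⟨b, hb, -⟩ := Cfsg.Agent.H3.Lift.degree_dvd N hχ hθ h1
  refine ⟨χ, hχ, b, ?_⟩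
  apply deg_eq
  rw [hb, Nat.cast_mul, coe_deg (IsIrr.isCharacter hθ)]
  ring

/-- the hypothesis `p ∤ χ(1)` for all `χ` -/
def Pd (p : ℕ) (G : Type*) [Group G] : Prop :=
  ∀ χ : G → ℂ, IsIrrCharacter G χ → ¬ p ∣ charDegree χ

theorem Pd.normal [Finite G] {p : ℕ} (h : Pd p G) (N : Subgroup G) [N.Normal] : Pd p N := by
  intro θ hθ hd
  obtain ⟨χ, hχ, h1⟩ := exists_over N hθ
  exact h χ hχ (hd.trans h1)

theorem Pd.quotient [Finite G] {p : ℕ} (h : Pd p G) (N : Subgroup G) [N.Normal] : Pd p (G ⧸ N) := by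
  intro θ hθ hd
  have h1 := IsIrr.inflate (N := N) hθ
  apply h _ h1
  have h2 : charDegree (fun g : G => θ (g : G ⧸ N)) = charDegree θ := by
    unfold charDegree
    rfl
  rw [h2]; exact hd

/-- if `g` is a `p`-element fixing all irreducible characters of the normal `p'`-subgroup `N` then
`g` centralizes `N` -/
theorem mem_centralizer_of_fix [Finite G] (N : Subgroup G) [hN : N.Normal] {p : ℕ} [hp : Fact p.Prime]
    {g : G} (hg : IsPGroup p (Subgroup.zpowers g)) (hNp : (Nat.card N).Coprime p)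
    (h : ∀ χ : N → ℂ, IsIrrCharacter N χ → cj hN g χ = χ) :
    g ∈ Subgroup.centralizer (N : Set G) := by
  classical
  set A := Subgroup.zpowers g with hA
  have hcop : (Nat.card A).Coprime (Nat.card N) := by
    obtain ⟨n, hn⟩ := IsPGroup.iff_card.mp hg
    rw [hn]
    exact Nat.Coprime.pow_left _ hNp.symm
  have hAN : A ≤ Subgroup.normalizer (N : Set G) := by
    rw [Subgroup.normalizer_eq_top_iff.mpr hN]; exact le_top
  have hAs : Group.IsSolvable A := by
    have : Group.IsNilpotent A := hg.isNilpotent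
    infer_instance
  have hfix : ∀ a ∈ A, ∀ χ : N → ℂ, IsIrrCharacter N χ → cj hN a χ = χ := by
    intro a ha χ hχ
    rw [← mem_inertia]
    exact (Subgroup.zpowers_le.mpr ((mem_inertia hN χ g).mpr (h χ hχ)) : A ≤ _) ha
  -- centralizer of `g` in `N`
  set C : Subgroup N := (Subgroup.centralizer ({g} : Set G)).subgroupOf N with hC
  have hCt : C = ⊤ := by
    by_contra hne
    obtain ⟨t, ht⟩ := Cfsg.Agent.H20.Derange.jordan C hne
    obtain ⟨y, ⟨k, hk, hky⟩, hy⟩ := Coprime.glauberman_exists (Y := CY G) hAN hcop (Or.inl hAs)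
      ({y : CY G | ∃ k ∈ N, k * (t : G) * k⁻¹ = y.val}) ⟨⟨(t : G)⟩, 1, N.one_mem, by group⟩
      (by
        rintro a ha y ⟨k, hk, hky⟩
        show ∃ k' ∈ N, k' * (t : G) * k'⁻¹ = (a • y).val
        rw [CY.smul_val, ← hky]
        have h1 : IsConj (⟨a * (t : G) * a⁻¹, hN.conj_mem _ t.2 a⟩ : N) t := by
          apply conj_of_forall_irr
          intro χ hχ
          exact congrFun (hfix a ha χ hχ) t
        obtain ⟨c, hc⟩ := isConj_iff.mp h1
        have hc' : (c : G) * (a * t * a⁻¹) * (c : G)⁻¹ = t := congrArg Subtype.val hc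
        refine ⟨a * k * a⁻¹ * (c : G)⁻¹, N.mul_mem (hN.conj_mem k hk a) (N.inv_mem c.2), ?_⟩
        have h2 : (c : G)⁻¹ * t * c = a * t * a⁻¹ := by
          conv_lhs => rw [← hc']
          group
        calc a * k * a⁻¹ * (c : G)⁻¹ * t * (a * k * a⁻¹ * (c : G)⁻¹)⁻¹
            = a * k * a⁻¹ * ((c : G)⁻¹ * t * c) * (a * k * a⁻¹)⁻¹ := by group
          _ = a * k * a⁻¹ * (a * t * a⁻¹) * (a * k * a⁻¹)⁻¹ := by rw [h2]
          _ = a * (k * t * k⁻¹) * a⁻¹ := by group)
      (by
        rintro k' hk' y ⟨k, hk, hky⟩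
        show ∃ l ∈ N, l * (t : G) * l⁻¹ = (k' • y).val
        rw [CY.smul_val, ← hky]
        exact ⟨k' * k, N.mul_mem hk' hk, by group⟩)
      (by
        rintro y ⟨k, hk, hky⟩ z ⟨l, hl, hlz⟩
        refine ⟨l * k⁻¹, N.mul_mem hl (N.inv_mem hk), ?_⟩
        ext
        rw [CY.smul_val, ← hky, ← hlz]
        group)
    have h1 : g * (k * (t : G) * k⁻¹) * g⁻¹ = k * (t : G) * k⁻¹ := by
      have := congrArg CY.val (hy g (Subgroup.mem_zpowers g))
      rwa [CY.smul_val, ← hky] at this
    apply ht (⟨k, hk⟩⁻¹)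
    rw [hC, Subgroup.mem_subgroupOf, Subgroup.mem_centralizer_singleton_iff]
    have e : ((((⟨k, hk⟩ : N)⁻¹)⁻¹ * t * (⟨k, hk⟩ : N)⁻¹ : N) : G) = k * t * k⁻¹ := by
      simp
    rw [e]
    calc k * t * k⁻¹ * g = (g * (k * t * k⁻¹) * g⁻¹) * g := by rw [h1]
      _ = g * (k * t * k⁻¹) := by group
  rw [Subgroup.mem_centralizer_iff]
  intro n hn
  have h1 : (⟨n, hn⟩ : N) ∈ C := by rw [hCt]; trivial
  rw [hC, Subgroup.mem_subgroupOf, Subgroup.mem_centralizer_singleton_iff] at h1
  exact h1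

end

theorem sylow_normal_of_quotient {G : Type*} [Group G] [Finite G] {p : ℕ} [hp : Fact p.Prime]
    (N : Subgroup G) [N.Normal] (hNp : IsPGroup p N) (P : Sylow p G)
    (h : ((P : Subgroup G).map (QuotientGroup.mk' N)).Normal) : (P : Subgroup G).Normal := by
  have h1 : N ≤ P := Cfsg.Agent.H1.Hall.le_of_not_dvd_index hNp P.not_dvd_index
  have h2 := h.comap (QuotientGroup.mk' N)
  rwa [Subgroup.comap_map_eq, QuotientGroup.ker_mk', sup_eq_left.mpr h1] at h2

/-- Ito's theorem for `p`-solvable groups -/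
theorem ito_psolv_aux (p : ℕ) [hp : Fact p.Prime] (n : ℕ) : ∀ (G : Type u) [Group G] [Finite G],
    Nat.card G = n → Cfsg.IsPSolvable p G → Pd p G → ∀ P : Sylow p G,
    (P : Subgroup G).Normal ∧ ∀ x ∈ (P : Subgroup G), ∀ y ∈ (P : Subgroup G), x * y = y * x := by
  induction n using Nat.strong_induction_on with | _ n ih => ?_
  intro G _ _ hn hs hd P
  -- enough: `P` is normal
  suffices hPn : (P : Subgroup G).Normal by
    refine ⟨hPn, ?_⟩
    have h1 : ∀ χ : ↥(P : Subgroup G) → ℂ, IsIrrCharacter (P : Subgroup G) χ → χ 1 = 1 := by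
      intro χ hχ
      have h2 := deg_dvd_card hχ
      obtain ⟨k, hk⟩ := IsPGroup.iff_card.mp P.2
      rw [hk] at h2
      obtain ⟨j, -, hj⟩ := (Nat.dvd_prime_pow hp.out).mp h2
      have h3 := hd.normal (P : Subgroup G) χ hχ
      rcases Nat.eq_zero_or_pos j with h0 | h0
      · rw [← coe_deg (IsIrr.isCharacter hχ), hj, h0, pow_zero, Nat.cast_one]
      · exact absurd (hj ▸ dvd_pow_self p h0.ne') h3
    intro x hx y hy
    exact congrArg Subtype.val (comm_of_linear h1 ⟨x, hx⟩ ⟨y, hy⟩)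
  rcases subsingleton_or_nontrivial G with hsub | hnt
  · refine ⟨fun x hx g => ?_⟩
    rw [Subsingleton.elim (g * x * g⁻¹) 1]; exact Subgroup.one_mem _
  have hOn : (Cfsg.pCore p G).Normal := Cfsg.Agent.H1.Nilp.pCore_normal p
  have hOp : IsPGroup p (Cfsg.pCore p G) := Cfsg.Agent.H1.Nilp.pCore_isPGroup p
  have hKn : (Cfsg.pPrimeCore p G).Normal := Cfsg.Agent.H1.Nilp.pPrimeCore_normal p
  have hKp : (Nat.card (Cfsg.pPrimeCore p G)).Coprime p := Cfsg.Agent.H1.Nilp.pPrimeCore_coprime p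
  have hquot : ∀ N : Subgroup G, ∀ _ : N.Normal, N ≠ ⊥ →
      ((P : Subgroup G).map (QuotientGroup.mk' N)).Normal := by
    intro N hN hNb
    exact (ih (Nat.card (G ⧸ N)) (hn ▸ card_quotient_lt hNb) (G ⧸ N) rfl
      (Cfsg.Agent.H22.PSolv.isPSolvable_quotient N hs) (hd.quotient N)
      (P.mapSurjective (QuotientGroup.mk'_surjective N))).1
  by_cases hO : Cfsg.pCore p G = ⊥
  · have hK : Cfsg.pPrimeCore p G ≠ ⊥ :=
      (Cfsg.Agent.H22.PSolv.pCore_or_pPrimeCore_ne_bot hs).resolve_left (fun h => h hO)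
    set K := Cfsg.pPrimeCore p G with hKdef
    have h1 := hquot K hKn hK
    have hLn : ((P : Subgroup G) ⊔ K).Normal := by
      have h2 := h1.comap (QuotientGroup.mk' K)
      rwa [Subgroup.comap_map_eq, QuotientGroup.ker_mk'] at h2
    set L := (P : Subgroup G) ⊔ K with hL
    have hKL : K ≤ L := le_sup_right
    have hPL : (P : Subgroup G) ≤ L := le_sup_left
    have hdL : Pd p L := hd.normal L
    -- `P` centralizes `K`
    have hPK : (P : Subgroup G) ≤ Subgroup.centralizer (K : Set G) := by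
      intro g hg
      apply mem_centralizer_of_fix K (P.2.to_le (Subgroup.zpowers_le.mpr hg)) hKp
      intro θ hθ
      classical
      by_contra hne
      -- work in `L`
      have hKLn : (K.subgroupOf L).Normal := inferInstance
      have : Fintype G := Fintype.ofFinite G
      have : Fintype L := Fintype.ofFinite L
      have : Fintype (K.subgroupOf L) := Fintype.ofFinite _
      let e : K.subgroupOf L ≃* K := Subgroup.subgroupOfEquivOfLe hKL
      set θ' : K.subgroupOf L → ℂ := fun x => θ (e x) with hθ'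
      have hθ'i : IsIrrCharacter (K.subgroupOf L) θ' := (isIrr_comp_iff e).mpr hθ
      obtain ⟨χ, hχ, h2⟩ := exists_constituent_ind (H := K.subgroupOf L) hθ'i
      rw [constituent_ind_iff (IsIrr.isCharacter hχ)] at h2
      have h3 := clifford_degree hKLn hχ hθ'i h2
      set T := inertia hKLn θ' with hT
      have hgL : g ∈ L := hPL hg
      have hgT : (⟨g, hgL⟩ : L) ∉ T := by
        intro h4
        apply hne
        rw [mem_inertia] at h4
        funext k
        have h5 := congrFun h4 ⟨⟨k, hKL k.2⟩, Subgroup.mem_subgroupOf.mpr k.2⟩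
        exact h5
      have hTt : T ≠ ⊤ := fun h => hgT (h ▸ Subgroup.mem_top _)
      -- index of `T` is a power of `p`
      have hKT : K.subgroupOf L ≤ T := le_inertia hKLn (IsIrr.isClass hθ'i)
      have h5 : T.index ∣ (K.subgroupOf L).index := Subgroup.index_dvd_of_le hKT
      have h6 : (K.subgroupOf L).index ∣ Nat.card (P : Subgroup G) := by
        show K.relIndex L ∣ _
        rw [hL, relIndex_sup_of_le_normalizer (by
          rw [Subgroup.normalizer_eq_top_iff.mpr hKn]; exact le_top)]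
        exact Subgroup.relIndex_dvd_card _ _
      obtain ⟨k, hk⟩ := IsPGroup.iff_card.mp P.2
      obtain ⟨j, -, hj⟩ := (Nat.dvd_prime_pow hp.out).mp (hk ▸ h5.trans h6)
      have hj0 : j ≠ 0 := by
        rintro rfl
        rw [pow_zero, Subgroup.index_eq_one] at hj
        exact hTt hj
      obtain ⟨m, hm⟩ := ci_char_nat (IsChar.res (IsIrr.isCharacter hχ) (K.subgroupOf L))
        (IsIrr.isCharacter hθ'i)
      apply hdL χ hχ
      have h7 : charDegree χ = m * T.index * charDegree θ' := by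
        apply deg_eq
        rw [h3, hm, Nat.cast_mul, Nat.cast_mul, coe_deg (IsIrr.isCharacter hθ'i)]
      rw [h7, hj]
      exact ((dvd_pow_self p hj0).mul_left m).mul_right _
    -- so `P` is subnormal
    have hPs : (P : Subgroup G).IsSubnormal := by
      apply Subgroup.IsSubnormal.step _ L hPL
      · exact Subgroup.IsSubnormal.step L ⊤ le_top Subgroup.IsSubnormal.top inferInstance
      · rw [Subgroup.normal_subgroupOf_iff_le_normalizer hPL]
        exact sup_le Subgroup.le_normalizer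
          ((Subgroup.le_centralizer_iff.mp hPK).trans (Subgroup.centralizer_le_normalizer _))
    have h2 := Cfsg.Agent.H11.Cores.le_pCore_of_isSubnormal p hPs P.2
    rw [hO, le_bot_iff] at h2
    rw [h2]; infer_instance
  · exact sylow_normal_of_quotient _ hOp P (hquot _ hOn hO)

theorem ito_psolv {p : ℕ} [hp : Fact p.Prime] {G : Type*} [Group G] [Finite G]
    (hs : Cfsg.IsPSolvable p G) (hd : Pd p G) (P : Sylow p G) :
    (P : Subgroup G).Normal ∧ ∀ x ∈ (P : Subgroup G), ∀ y ∈ (P : Subgroup G), x * y = y * x :=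
  ito_psolv_aux p _ G rfl hs hd P

/-- the converse -/
theorem pd_of_abelian {p : ℕ} {G : Type*} [Group G] [Finite G] (P : Subgroup G) [P.Normal]
    (hc : ∀ x ∈ P, ∀ y ∈ P, x * y = y * x) (hi : ¬ p ∣ P.index) : Pd p G := by
  classical
  intro χ hχ hd
  have : Fintype G := Fintype.ofFinite G
  have : Fintype P := Fintype.ofFinite P
  obtain ⟨θ, hθ, h0⟩ := exists_constituent_res (H := P) hχ
  obtain ⟨b, hb, hbi⟩ := Cfsg.Agent.H3.Lift.degree_dvd P hχ hθ h0
  have h1 : θ 1 = 1 := IsIrr.one_of_comm (fun a b => Subtype.ext (hc a a.2 b b.2)) hθ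
  rw [h1, mul_one] at hb
  rw [deg_eq hb] at hd
  exact hi (hd.trans hbi)

end Cfsg.Agent.H1.Deg
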