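import Mathlib
import Cfsg.Prelude.Def_Characters
import Cfsg.Agent.H3_CharQuot
import Cfsg.Agent.H3_CharInt
import Cfsg.Agent.H3_CharCalc
import Cfsg.Agent.H3_Isom

/-!
# Sylow subgroups all of whose nontrivial elements have the same centralizer
-/

set_option autoImplicit false

open scoped ComplexConjugate

namespace Cfsg.Agent.H3.BF

open Cfsg Cfsg.Agent.H3.CharBasic Cfsg.Agent.H3.CharIrr Cfsg.Agent.H3.CharInt Cfsg.Agent.H3.CharCalc
  Cfsg.Agent.H3.CharComplete Cfsg.Agent.H3.CharInd Cfsg.Agent.H3.CharMult Cfsg.Agent.H3.CharQuot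

/-- `M = C_G(x)` for all `1 ≠ x ∈ P` and `M = P × V` -/
structure Dat {G : Type*} [Group G] (P M V : Subgroup G) (k : ℕ) : Prop where
  cent : ∀ x ∈ P, x ≠ 1 → ∀ g, g ∈ M ↔ g * x = x * g
  PM : P ≤ M
  VM : V ≤ M
  comm : ∀ x ∈ P, ∀ y ∈ M, x * y = y * x
  kP : ∀ x ∈ P, x ^ k = x
  kV : ∀ v ∈ V, v ^ k = 1
  dec : ∀ y ∈ M, ∃ x ∈ P, ∃ v ∈ V, y = x * v

/-- the normalizer -/
def NN {G : Type*} [Group G] (M : Subgroup G) : Subgroup G where
  carrier := {g | ∀ y, y ∈ M ↔ g⁻¹ * y * g ∈ M}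
  mul_mem' := by
    intro a b ha hb y
    have h1 : (a * b)⁻¹ * y * (a * b) = b⁻¹ * (a⁻¹ * y * a) * b := by group
    rw [h1, ← hb, ← ha]
  one_mem' := by intro y; simp
  inv_mem' := by
    intro a ha y
    have h1 := ha (a⁻¹⁻¹ * y * a⁻¹)
    have h2 : a⁻¹ * (a⁻¹⁻¹ * y * a⁻¹) * a = y := by group
    rw [h2] at h1
    exact h1.symm

section Grp

variable {G : Type*} [Group G] {P M V : Subgroup G} {k : ℕ} (D : Dat P M V k)

include D in
theorem pow_xv {x v : G} (hx : x ∈ P) (hv : v ∈ V) : (x * v) ^ k = x := by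
  have h1 : Commute x v := D.comm x hx v (D.VM hv)
  rw [h1.mul_pow, D.kP x hx, D.kV v hv, mul_one]

include D in
theorem pow_mem {y : G} (hy : y ∈ M) : y ^ k ∈ P := by
  obtain ⟨x, hx, v, hv, rfl⟩ := D.dec y hy
  rw [pow_xv D hx hv]; exact hx

include D in
theorem mem_V_iff {y : G} (hy : y ∈ M) : y ∈ V ↔ y ^ k = 1 := by
  constructor
  · exact D.kV y
  · intro h
    obtain ⟨x, hx, v, hv, rfl⟩ := D.dec y hy
    rw [pow_xv D hx hv] at h
    rw [h, one_mul]; exact hv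

include D in
theorem mem_P_iff {y : G} (hy : y ∈ M) : y ∈ P ↔ y ^ k = y := by
  constructor
  · exact D.kP y
  · intro h
    rw [← h]; exact pow_mem D hy

include D in
theorem pow_mul' {y z : G} (hy : y ∈ M) (hz : z ∈ M) : (y * z) ^ k = y ^ k * z ^ k := by
  obtain ⟨x, hx, v, hv, rfl⟩ := D.dec y hy
  obtain ⟨x', hx', v', hv', rfl⟩ := D.dec z hz
  have h1 : x * v * (x' * v') = (x * x') * (v * v') := by
    rw [mul_assoc, ← mul_assoc v, ← D.comm x' hx' v (D.VM hv)]; group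
  rw [h1, pow_xv D (mul_mem hx hx') (mul_mem hv hv'), pow_xv D hx hv, pow_xv D hx' hv']

include D in
theorem rest_mem {y : G} (hy : y ∈ M) : (y ^ k)⁻¹ * y ∈ V := by
  obtain ⟨x, hx, v, hv, rfl⟩ := D.dec y hy
  rw [pow_xv D hx hv, inv_mul_cancel_left]; exact hv

/-- the projection -/
noncomputable def proj (D : Dat P M V k) : M →* P where
  toFun y := ⟨(y : G) ^ k, pow_mem D y.2⟩
  map_one' := Subtype.ext (one_pow k)
  map_mul' y z := Subtype.ext (pow_mul' D y.2 z.2)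

theorem proj_coe (y : M) : (proj D y : G) = (y : G) ^ k := rfl

theorem proj_P (x : M) (hx : (x : G) ∈ P) : proj D x = ⟨x, hx⟩ := Subtype.ext (D.kP x hx)

theorem proj_V (x : M) (hx : (x : G) ∈ V) : proj D x = 1 := Subtype.ext (D.kV x hx)

include D in
theorem TI {y g : G} (hy : y ∈ M) (hyV : y ∉ V) (hg : g⁻¹ * y * g ∈ M) : g ∈ NN M := by
  have hz := pow_mem D hy
  have hz1 : y ^ k ≠ 1 := fun h => hyV ((mem_V_iff D hy).mpr h)
  have hw : g⁻¹ * y ^ k * g ∈ P := by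
    have h1 : (g⁻¹ * y * g) ^ k = g⁻¹ * y ^ k * g := by
      have := conj_pow (i := k) (a := g⁻¹) (b := y)
      rw [inv_inv] at this; exact this
    rw [← h1]; exact pow_mem D hg
  have hw1 : g⁻¹ * y ^ k * g ≠ 1 := by
    intro h
    apply hz1
    calc y ^ k = g * (g⁻¹ * y ^ k * g) * g⁻¹ := by group
      _ = 1 := by rw [h]; group
  intro h
  rw [D.cent _ hz hz1, D.cent _ hw hw1]
  constructor
  · intro h1
    calc g⁻¹ * h * g * (g⁻¹ * y ^ k * g) = g⁻¹ * (h * y ^ k) * g := by group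
      _ = g⁻¹ * (y ^ k * h) * g := by rw [h1]
      _ = _ := by group
  · intro h1
    calc h * y ^ k = g * (g⁻¹ * h * g * (g⁻¹ * y ^ k * g)) * g⁻¹ := by group
      _ = g * (g⁻¹ * y ^ k * g * (g⁻¹ * h * g)) * g⁻¹ := by rw [h1]
      _ = _ := by group

include D in
theorem M_le_NN : M ≤ NN M := by
  intro g hg y
  constructor
  · intro hy; exact mul_mem (mul_mem (inv_mem hg) hy) hg
  · intro hy
    have : y = g * (g⁻¹ * y * g) * g⁻¹ := by group
    rw [this]; exact mul_mem (mul_mem hg hy) (inv_mem hg)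

include D in
theorem P_conj {g x : G} (hg : g ∈ NN M) (hx : x ∈ P) : g⁻¹ * x * g ∈ P := by
  have h1 : g⁻¹ * x * g ∈ M := (hg x).mp (D.PM hx)
  rw [mem_P_iff D h1]
  have := conj_pow (i := k) (a := g⁻¹) (b := x)
  rw [inv_inv] at this; rw [this, D.kP x hx]

include D in
theorem V_conj {g x : G} (hg : g ∈ NN M) (hx : x ∈ V) : g⁻¹ * x * g ∈ V := by
  have h1 : g⁻¹ * x * g ∈ M := (hg x).mp (D.VM hx)
  rw [mem_V_iff D h1]
  have := conj_pow (i := k) (a := g⁻¹) (b := x)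
  rw [inv_inv] at this; rw [this, D.kV x hx]; group

include D in
theorem sum_M [Fintype M] [Fintype P] [Fintype V] {A : Type*} [AddCommMonoid A] (F : G → A) :
    ∑ y : M, F y = ∑ x : P, ∑ v : V, F ((x : G) * v) := by
  rw [← Fintype.sum_prod_type']
  symm
  refine Fintype.sum_bijective (fun z : P × V => (⟨(z.1 : G) * z.2, mul_mem (D.PM z.1.2) (D.VM z.2.2)⟩ : M)) ⟨?_, ?_⟩ _ _
    (fun z => rfl)
  · rintro ⟨x, v⟩ ⟨x', v'⟩ h
    have h1 : (x : G) * v = x' * v' := congrArg Subtype.val h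
    have h2 : (x : G) = x' := by
      rw [← pow_xv D x.2 v.2, ← pow_xv D x'.2 v'.2, h1]
    have h3 : (v : G) = v' := by rw [h2] at h1; exact mul_left_cancel h1
    exact Prod.ext (Subtype.ext h2) (Subtype.ext h3)
  · rintro ⟨y, hy⟩
    obtain ⟨x, hx, v, hv, rfl⟩ := D.dec y hy
    exact ⟨(⟨x, hx⟩, ⟨v, hv⟩), rfl⟩

include D in
theorem card_M [Finite G] : Nat.card M = Nat.card P * Nat.card V := by
  have := Fintype.ofFinite M
  have := Fintype.ofFinite P
  have := Fintype.ofFinite V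
  have h1 := sum_M D (fun _ => 1)
  simpa [Nat.card_eq_fintype_card] using h1

end Grp

section Char

variable {G : Type*} [Group G] [Fintype G] {P M V : Subgroup G} {k : ℕ} (D : Dat P M V k)

/-- conjugate functions -/
noncomputable def cg (M : Subgroup G) (b : M → ℂ) (g : G) : M → ℂ := fun y => extendByZero M b (g⁻¹ * y * g)

theorem cg_apply {b : M → ℂ} {g : G} (hg : g ∈ NN M) (y : M) : cg M b g y = b ⟨g⁻¹ * y * g, (hg y).mp y.2⟩ :=
  ext_mem M b _

theorem cg_irr {b : M → ℂ} (hb : IsIrrCharacter M b) {g : G} (hg : g ∈ NN M) : IsIrrCharacter M (cg M b g) := by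
  have h1 : cg M b g = fun y => b ((⟨⟨fun y => ⟨g⁻¹ * y * g, (hg y).mp y.2⟩, Subtype.ext (by simp)⟩,
      fun x y => Subtype.ext (by simp only [Subgroup.coe_mul]; group)⟩ : M →* M) y) := by
    funext y; exact cg_apply hg y
  rw [h1]
  apply IsIrr.comp hb
  intro y
  refine ⟨⟨g * y * g⁻¹, ?_⟩, ?_⟩
  · rw [hg]
    have : g⁻¹ * (g * y * g⁻¹) * g = y := by group
    rw [this]; exact y.2
  · apply Subtype.ext
    change g⁻¹ * (g * y * g⁻¹) * g = y
    group

/-- restrictions are invariant -/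
theorem cg_res {χ : G → ℂ} (hχ : IsClassFunction G χ) {g : G} (hg : g ∈ NN M) :
    cg M (fun y : M => χ y) g = fun y : M => χ y := by
  funext y
  rw [cg_apply hg]
  have := hχ y g⁻¹
  rw [inv_inv] at this
  exact this

theorem ci_cg_cg [Fintype M] (a b : M → ℂ) {g : G} (hg : g ∈ NN M) :
    classInner (cg M a g) (cg M b g) = classInner a b := by
  simp only [classInner]
  congr 1
  refine Fintype.sum_bijective (fun y : M => (⟨g⁻¹ * y * g, (hg y).mp y.2⟩ : M)) ⟨?_, ?_⟩ _ _ (fun y => ?_)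
  · intro y z h
    have h1 : g⁻¹ * y * g = g⁻¹ * z * g := congrArg Subtype.val h
    exact Subtype.ext (by simpa using h1)
  · intro y
    refine ⟨⟨g * y * g⁻¹, ?_⟩, ?_⟩
    · rw [hg]
      have : g⁻¹ * (g * y * g⁻¹) * g = y := by group
      rw [this]; exact y.2
    · apply Subtype.ext
      change g⁻¹ * (g * y * g⁻¹) * g = y
      group
  · rw [cg_apply hg, cg_apply hg]

include D in
/-- Mackey formula for functions vanishing on `V` -/
theorem mackey [Fintype M] [DecidablePred (· ∈ NN M)] {a b : M → ℂ} (ha : ∀ v : M, (v : G) ∈ V → a v = 0) :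
    classInner (indFun M a) (indFun M b) = (Nat.card M : ℂ)⁻¹ * ∑ g ∈ Finset.univ.filter (· ∈ NN M), classInner a (cg M b g) := by
  rw [frobenius M a _ (ind_isClass M b)]
  have h1 : ∀ y : M, a y * conj (indFun M b y) = (Nat.card M : ℂ)⁻¹ *
      ∑ g ∈ Finset.univ.filter (· ∈ NN M), a y * conj (cg M b g y) := by
    intro y
    by_cases hy : (y : G) ∈ V
    · rw [ha y hy]; simp
    · rw [indFun, map_mul, map_sum, map_inv₀, map_natCast, mul_left_comm, Finset.mul_sum]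
      congr 1
      symm
      apply Finset.sum_subset (Finset.subset_univ _)
      intro g _ hg
      rw [Finset.mem_filter, not_and] at hg
      have hg' := hg (Finset.mem_univ _)
      rw [cg]
      by_cases hm : g⁻¹ * (y : G) * g ∈ M
      · exact absurd (TI D y.2 hy hm) hg'
      · rw [ext_not_mem _ _ hm, map_zero, mul_zero]
  simp only [classInner]
  rw [Finset.sum_congr rfl (fun y _ => h1 y), ← Finset.mul_sum, Finset.sum_comm, Finset.mul_sum, Finset.mul_sum]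

/-- nontrivial on `P` -/
def NT (P M : Subgroup G) (θ : M → ℂ) : Prop := ∃ x : M, (x : G) ∈ P ∧ θ x ≠ θ 1

include D in
/-- the central character -/
theorem exists_central {θ : M → ℂ} (hθ : IsIrrCharacter M θ) : ∃ l : P →* ℂˣ, ∀ (x : M) (hx : (x : G) ∈ P) (y : M),
    θ (x * y) = l ⟨x, hx⟩ * θ y := by
  classical
  have hM : ∀ x : P, (x : G) ∈ M := fun x => D.PM x.2
  have hc : ∀ x : P, ∃ c : ℂ, ∀ y : M, θ (⟨x, hM x⟩ * y) = c * θ y := by
    intro x
    obtain ⟨c, -, hc⟩ := IsIrr.central hθ (z := ⟨x, hM x⟩) (by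
      rw [Subgroup.mem_center_iff]
      intro y
      exact Subtype.ext (D.comm x x.2 y y.2).symm)
    refine ⟨c, fun y => ?_⟩
    rw [← hc y]
    congr 1
    exact Subtype.ext (D.comm x x.2 y y.2)
  choose c hc using hc
  have h1 := IsIrr.one_ne_zero hθ
  have hc1 : c 1 = 1 := by
    have := hc 1 1
    have h2 : (⟨(1 : P), hM 1⟩ : M) * 1 = 1 := Subtype.ext (by simp)
    rw [h2] at this
    exact (mul_right_cancel₀ h1 (by rw [one_mul]; exact this)).symm
  have hcm : ∀ x y : P, c (x * y) = c x * c y := by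
    intro x y
    have h3 := hc (x * y) 1
    have h4 : (⟨((x * y : P) : G), hM (x * y)⟩ : M) * 1 = ⟨x, hM x⟩ * (⟨y, hM y⟩ * 1) := Subtype.ext (by simp)
    rw [h4, hc, hc, ← mul_assoc] at h3
    exact (mul_right_cancel₀ h1 h3).symm
  refine ⟨MonoidHom.toHomUnits { toFun := c, map_one' := hc1, map_mul' := hcm }, ?_⟩
  intro x hx y
  have h2 := hc ⟨x, hx⟩ y
  exact h2

include D in
/-- the stabilizer of a character nontrivial on `P` -/
theorem stab {θ : M → ℂ} (hθ : IsIrrCharacter M θ) (hnt : NT P M θ) {g : G} (hg : g ∈ NN M) (h : cg M θ g = θ) : g ∈ M := by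
  classical
  obtain ⟨l, hl⟩ := exists_central D hθ
  have h1 := IsIrr.one_ne_zero hθ
  have hlP : ∀ x : P, θ ⟨x, D.PM x.2⟩ = l x * θ 1 := by
    intro x
    have := hl ⟨x, D.PM x.2⟩ x.2 1
    rw [mul_one] at this; exact this
  -- `l` is invariant
  have hinv : ∀ x : P, l ⟨g⁻¹ * x * g, P_conj D hg x.2⟩ = l x := by
    intro x
    have h2 := congrFun h ⟨x, D.PM x.2⟩
    rw [cg_apply hg] at h2
    have h3 := hlP ⟨g⁻¹ * x * g, P_conj D hg x.2⟩
    rw [h2, hlP x] at h3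
    exact Units.ext (mul_right_cancel₀ h1 h3).symm
  by_contra hgM
  -- the map `x ↦ x⁻¹ * g⁻¹ x g` is injective
  have hinj : Function.Injective (fun x : P => (⟨(x : G)⁻¹ * (g⁻¹ * x * g), mul_mem (inv_mem x.2) (P_conj D hg x.2)⟩ : P)) := by
    intro x y hxy
    have h2 : (x : G)⁻¹ * (g⁻¹ * x * g) = (y : G)⁻¹ * (g⁻¹ * y * g) := congrArg Subtype.val hxy
    by_contra hne
    apply hgM
    have hz : (x : G) * (y : G)⁻¹ ∈ P := mul_mem x.2 (inv_mem y.2)
    have hz1 : (x : G) * (y : G)⁻¹ ≠ 1 := fun h => hne (Subtype.ext (mul_inv_eq_one.mp h))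
    rw [D.cent _ hz hz1]
    -- commutation in `P`
    have c1 : ∀ a ∈ P, ∀ b ∈ P, a * b = b * a := fun a ha b hb => D.comm a ha b (D.PM hb)
    have h3 : g⁻¹ * ((x : G) * (y : G)⁻¹) * g = (x : G) * (y : G)⁻¹ := by
      have h4 : g⁻¹ * ((x : G) * (y : G)⁻¹) * g = (g⁻¹ * x * g) * (g⁻¹ * y * g)⁻¹ := by group
      have h5 : g⁻¹ * x * g = x * ((y : G)⁻¹ * (g⁻¹ * y * g)) := by rw [← h2]; group
      rw [h4, h5]
      have h6 : (x : G) * ((y : G)⁻¹ * (g⁻¹ * y * g)) * (g⁻¹ * y * g)⁻¹ = x * (y : G)⁻¹ := by group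
      exact h6
    calc g * ((x : G) * (y : G)⁻¹) = g * (g⁻¹ * ((x : G) * (y : G)⁻¹) * g) := by rw [h3]
      _ = (x : G) * (y : G)⁻¹ * g := by group
  have hsurj := Finite.surjective_of_injective hinj
  obtain ⟨x, hx, hne⟩ := hnt
  apply hne
  obtain ⟨y, hy⟩ := hsurj ⟨x, hx⟩
  have h2 : l ⟨x, hx⟩ = 1 := by
    rw [← hy]
    have h3 : (⟨(y : G)⁻¹ * (g⁻¹ * y * g), mul_mem (inv_mem y.2) (P_conj D hg y.2)⟩ : P) = y⁻¹ * ⟨g⁻¹ * y * g, P_conj D hg y.2⟩ := rfl
    change l ⟨(y : G)⁻¹ * (g⁻¹ * y * g), mul_mem (inv_mem y.2) (P_conj D hg y.2)⟩ = 1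
    rw [h3, map_mul, map_inv, hinv, inv_mul_cancel]
  have h3 := hlP ⟨x, hx⟩
  rw [h2] at h3
  rw [← one_mul (θ 1)]
  exact h3

end Char

end Cfsg.Agent.H3.BF
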