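import Mathlib
import Cfsg.Prelude.Def_Characters
import Cfsg.Agent.H3_BF1

/-!
# Exceptional characters
-/

set_option autoImplicit false

open scoped ComplexConjugate

namespace Cfsg.Agent.H3.BF

open Cfsg Cfsg.Agent.H3.CharBasic Cfsg.Agent.H3.CharIrr Cfsg.Agent.H3.CharInt Cfsg.Agent.H3.CharCalc
  Cfsg.Agent.H3.CharComplete Cfsg.Agent.H3.CharInd Cfsg.Agent.H3.CharMult Cfsg.Agent.H3.CharQuot

section Char

variable {G : Type*} [Group G] [Fintype G] {P M V : Subgroup G} {k : ℕ} (D : Dat P M V k)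

/-- conjugation count -/
noncomputable def cc (M : Subgroup G) [Fintype M] (a b : M → ℂ) : ℂ := by
  classical
  exact (Nat.card M : ℂ)⁻¹ * ∑ g ∈ Finset.univ.filter (· ∈ NN M), classInner a (cg M b g)

theorem cg_cg {b : M → ℂ} {g h : G} (hg : g ∈ NN M) (hh : h ∈ NN M) : cg M (cg M b g) h = cg M b (h * g) := by
  funext y
  rw [cg_apply hh, cg_apply hg, cg_apply (mul_mem hh hg)]
  congr 1
  apply Subtype.ext
  change g⁻¹ * (h⁻¹ * y * h) * g = (h * g)⁻¹ * y * (h * g)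
  group

theorem cg_one (b : M → ℂ) : cg M b 1 = b := by
  funext y
  rw [cg_apply (one_mem _)]
  congr 1
  apply Subtype.ext
  simp

theorem cg_of_mem (hM : M ≤ NN M) {b : M → ℂ} (hb : IsClassFunction M b) {g : G} (hg : g ∈ M) : cg M b g = b := by
  funext y
  rw [cg_apply (hM hg)]
  have := hb y (⟨g, hg⟩⁻¹)
  rw [inv_inv] at this
  exact this

theorem cg_sub (a b : M → ℂ) {g : G} (hg : g ∈ NN M) : cg M (a - b) g = cg M a g - cg M b g := by
  funext y
  rw [Pi.sub_apply, cg_apply hg, cg_apply hg, cg_apply hg]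
  rfl

theorem cc_sub_left [Fintype M] (a b c : M → ℂ) : cc M (a - b) c = cc M a c - cc M b c := by
  classical
  rw [cc, cc, cc, ← mul_sub, ← Finset.sum_sub_distrib]
  congr 1
  exact Finset.sum_congr rfl (fun g _ => ci_sub_left _ _ _)

theorem cc_sub_right [Fintype M] (a b c : M → ℂ) : cc M a (b - c) = cc M a b - cc M a c := by
  classical
  rw [cc, cc, cc, ← mul_sub, ← Finset.sum_sub_distrib]
  congr 1
  refine Finset.sum_congr rfl (fun g hg => ?_)
  rw [cg_sub _ _ (Finset.mem_filter.mp hg).2, ci_sub_right]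

include D in
theorem mackey' [Fintype M] {a b : M → ℂ} (ha : ∀ v : M, (v : G) ∈ V → a v = 0) :
    classInner (indFun M a) (indFun M b) = cc M a b := by
  classical
  rw [cc, mackey D (b := b) ha]

include D in
theorem cc_eq_one [Fintype M] {θ η : M → ℂ} (hθ : IsIrrCharacter M θ) (hη : IsIrrCharacter M η) (hnt : NT P M θ)
    (h : ∃ g ∈ NN M, cg M η g = θ) : cc M θ η = 1 := by
  classical
  obtain ⟨g₀, hg₀, hg₀'⟩ := h
  have hMN := M_le_NN D
  have h1 : ∀ g ∈ Finset.univ.filter (· ∈ NN M), classInner θ (cg M η g) = if g * g₀⁻¹ ∈ M then 1 else 0 := by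
    intro g hg
    rw [Finset.mem_filter] at hg
    have hh : g * g₀⁻¹ ∈ NN M := mul_mem hg.2 (inv_mem hg₀)
    have h2 : cg M η g = cg M θ (g * g₀⁻¹) := by
      rw [← hg₀', cg_cg hg₀ hh]; congr 1; group
    rw [h2]
    split_ifs with h3
    · rw [cg_of_mem hMN (IsIrr.isClass hθ) h3, ci_irr_self hθ]
    · apply ci_irr_ne hθ (cg_irr hθ hh)
      intro h4
      exact h3 (stab D hθ hnt hh h4.symm)
  have h2 : (Finset.univ.filter (fun g : G => g ∈ NN M)).filter (fun g => g * g₀⁻¹ ∈ M) = Finset.univ.filter (fun g : G => g * g₀⁻¹ ∈ M) := by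
    ext g
    simp only [Finset.mem_filter, Finset.mem_univ, true_and, and_iff_right_iff_imp]
    intro h
    have : g = (g * g₀⁻¹) * g₀ := by group
    rw [this]; exact mul_mem (hMN h) hg₀
  have h3 : (Finset.univ.filter (fun g : G => g * g₀⁻¹ ∈ M)).card = Nat.card M := by
    rw [Nat.card_eq_fintype_card, ← Fintype.card_coe]
    apply Fintype.card_congr
    refine ⟨fun g => ⟨g.1 * g₀⁻¹, (Finset.mem_filter.mp g.2).2⟩, fun m => ⟨m * g₀, Finset.mem_filter.mpr ⟨Finset.mem_univ _, by simp⟩⟩,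
      fun g => Subtype.ext (by simp), fun m => Subtype.ext (by simp)⟩
  rw [cc, Finset.sum_congr rfl h1, Finset.sum_ite, Finset.sum_const_zero, add_zero, Finset.sum_const, h2, h3, nsmul_eq_mul, mul_one]
  exact inv_mul_cancel₀ (cardH_ne_zero M)

theorem cc_eq_zero [Fintype M] {θ η : M → ℂ} (hθ : IsIrrCharacter M θ) (hη : IsIrrCharacter M η)
    (h : ∀ g ∈ NN M, cg M η g ≠ θ) : cc M θ η = 0 := by
  classical
  rw [cc, Finset.sum_eq_zero, mul_zero]
  intro g hg
  rw [Finset.mem_filter] at hg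
  exact ci_irr_ne hθ (cg_irr hη hg.2) (fun h1 => h g hg.2 h1.symm)

theorem conj_symm' {θ η : M → ℂ} (h : ∃ g ∈ NN M, cg M η g = θ) : ∃ g ∈ NN M, cg M θ g = η := by
  obtain ⟨g, hg, rfl⟩ := h
  exact ⟨g⁻¹, inv_mem hg, by rw [cg_cg hg (inv_mem hg), inv_mul_cancel, cg_one]⟩

/-- conjugate characters induce the same function -/
theorem ind_cg {b : M → ℂ} {g : G} (hg : g ∈ NN M) : indFun M (cg M b g) = indFun M b := by
  funext x
  rw [indFun, indFun]
  congr 1
  rw [← Equiv.sum_comp (Equiv.mulRight g) (fun y => extendByZero M b (y⁻¹ * x * y))]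
  refine Finset.sum_congr rfl (fun y _ => ?_)
  rw [Equiv.coe_mulRight]
  have h1 : (y * g)⁻¹ * x * (y * g) = g⁻¹ * (y⁻¹ * x * y) * g := by group
  rw [h1]
  by_cases h : y⁻¹ * x * y ∈ M
  · rw [ext_mem _ _ h, cg_apply hg, ext_mem]
  · rw [ext_not_mem _ _ h, ext_not_mem]
    rwa [← hg]

include D in
/-- exceptional pairs -/
theorem diff_pair [Fintype M] {θ η : M → ℂ} (hθ : IsIrrCharacter M θ) (hη : IsIrrCharacter M η) (hnt : NT P M θ)
    (hnt' : NT P M η) (hV : ∀ v : M, (v : G) ∈ V → θ v = η v) (hnc : ∀ g ∈ NN M, cg M η g ≠ θ) :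
    ∃ a b : G → ℂ, IsIrrCharacter G a ∧ IsIrrCharacter G b ∧ a ≠ b ∧ indFun M (θ - η) = a - b := by
  have h1 : classInner (indFun M (θ - η)) (indFun M (θ - η)) = 2 := by
    rw [mackey' D (a := θ - η) (fun v hv => by rw [Pi.sub_apply, hV v hv, sub_self]), cc_sub_left, cc_sub_right, cc_sub_right,
      cc_eq_one D hθ hθ hnt ⟨1, one_mem _, cg_one θ⟩, cc_eq_one D hη hη hnt' ⟨1, one_mem _, cg_one η⟩,
      cc_eq_zero hθ hη hnc, cc_eq_zero hη hθ (fun g hg h => by
        obtain ⟨g', hg', h'⟩ := conj_symm' (M := M) ⟨g, hg, h⟩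
        exact hnc g' hg' h')]
    norm_num
  apply Isom.isGen_norm_two_one (IsGen.ind (IsGen.sub (IsGen.of_irr hθ) (IsGen.of_irr hη))) h1
  rw [ind_one, Pi.sub_apply, hV 1 (one_mem V), sub_self, mul_zero]

/-- linear characters of `M` trivial on `V` -/
noncomputable def al (D : Dat P M V k) (l : P →* ℂˣ) : M → ℂ := fun y => (l (proj D y) : ℂ)

theorem al_irr (l : P →* ℂˣ) : IsIrrCharacter M (al D l) := isIrr_of_hom_units (l.comp (proj D))

theorem al_one (l : P →* ℂˣ) : al D l 1 = 1 := by simp [al]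

theorem al_V (l : P →* ℂˣ) (v : M) (hv : (v : G) ∈ V) : al D l v = 1 := by simp [al, proj_V D v hv]

theorem al_P (l : P →* ℂˣ) (x : M) (hx : (x : G) ∈ P) : al D l x = l ⟨x, hx⟩ := by simp [al, proj_P D x hx]

theorem al_NT {l : P →* ℂˣ} (hl : l ≠ 1) : NT P M (al D l) := by
  obtain ⟨x, hx⟩ : ∃ x, l x ≠ 1 := by
    by_contra hcon
    push Not at hcon
    exact hl (MonoidHom.ext hcon)
  refine ⟨⟨x, D.PM x.2⟩, x.2, ?_⟩
  rw [al_P D l _ x.2, al_one]
  intro h
  exact hx (Units.ext h)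

include D in
/-- the exceptional characters of the principal block have the same degree -/
theorem common_degree [Fintype M] : ∃ d : ℕ, ∀ (l l' : P →* ℂˣ), l ≠ 1 → l' ≠ 1 → ∀ a b : G → ℂ, IsIrrCharacter G a →
    IsIrrCharacter G b → a ≠ b → indFun M (al D l - al D l') = a - b → a 1 = d := by
  classical
  by_cases hex : ∃ l₀ : P →* ℂˣ, l₀ ≠ 1
  swap
  · push Not at hex
    exact ⟨0, fun l _ hl => absurd (hex l) hl⟩
  obtain ⟨l₀, hl₀⟩ := hex
  obtain ⟨ι, hι⟩ : ∃ ι : Set (G → ℂ), ι = {F | ∃ l : P →* ℂˣ, l ≠ 1 ∧ F = indFun M (al D l)} := ⟨_, rfl⟩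
  have hι' : ∀ i : ι, ∃ l : P →* ℂˣ, l ≠ 1 ∧ (i : G → ℂ) = indFun M (al D l) := by
    rintro ⟨i, hi⟩
    rw [hι] at hi
    exact hi
  have hmem : ∀ l : P →* ℂˣ, l ≠ 1 → indFun M (al D l) ∈ ι := fun l hl => by rw [hι]; exact ⟨l, hl, rfl⟩
  have hncj : ∀ (l l' : P →* ℂˣ), indFun M (al D l) ≠ indFun M (al D l') → ∀ g ∈ NN M, cg M (al D l') g ≠ al D l := by
    intro l l' hne g hg h
    apply hne
    rw [← h, ind_cg hg]
  have hV : ∀ (l l' : P →* ℂˣ) (v : M), (v : G) ∈ V → al D l v = al D l' v := fun l l' v hv => by rw [al_V D l v hv, al_V D l' v hv]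
  have hV' : ∀ (l l' : P →* ℂˣ) (v : M), (v : G) ∈ V → (al D l - al D l') v = 0 := fun l l' v hv => by
    rw [Pi.sub_apply, hV l l' v hv, sub_self]
  have h11 : ∀ l : P →* ℂˣ, l ≠ 1 → cc M (al D l) (al D l) = 1 := fun l hl =>
    cc_eq_one D (al_irr D l) (al_irr D l) (al_NT D hl) ⟨1, one_mem _, cg_one _⟩
  have h10 : ∀ l l' : P →* ℂˣ, indFun M (al D l) ≠ indFun M (al D l') → cc M (al D l) (al D l') = 0 := fun l l' h =>
    cc_eq_zero (al_irr D l) (al_irr D l') (hncj l l' h)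
  have hgenl : ∀ l : P →* ℂˣ, IsGeneralizedCharacter G (indFun M (al D l)) := fun l => IsGen.ind (IsGen.of_irr (al_irr D l))
  obtain ⟨ε, hε, μ, hμirr, hμinj, hμ⟩ := Isom.isometry_lemma (G := G) (⟨indFun M (al D l₀), hmem l₀ hl₀⟩ : ι)
    (fun i => (i : G → ℂ) - indFun M (al D l₀)) (sub_self _) (fun i => by
      obtain ⟨l, -, hl⟩ := hι' i
      rw [hl]; exact IsGen.sub (hgenl l) (hgenl l₀))
    (fun i => by
      obtain ⟨l, -, hl⟩ := hι' i
      simp only [Pi.sub_apply]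
      rw [hl, ind_one, ind_one, al_one, al_one, sub_self])
    (fun i hi => by
      obtain ⟨l, hl1, hl⟩ := hι' i
      have hne : indFun M (al D l) ≠ indFun M (al D l₀) := fun h => hi (Subtype.ext (by rw [hl, h]))
      rw [hl, ← ind_sub, mackey' D (hV' l l₀), cc_sub_left, cc_sub_right, cc_sub_right, h11 l hl1, h11 l₀ hl₀, h10 l l₀ hne,
        h10 l₀ l hne.symm]
      norm_num)
    (fun i j hi hj hij => by
      obtain ⟨l, hl1, hl⟩ := hι' i
      obtain ⟨l', hl1', hl'⟩ := hι' j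
      have hne : indFun M (al D l) ≠ indFun M (al D l₀) := fun h => hi (Subtype.ext (by rw [hl, h]))
      have hne' : indFun M (al D l') ≠ indFun M (al D l₀) := fun h => hj (Subtype.ext (by rw [hl', h]))
      have hne2 : indFun M (al D l) ≠ indFun M (al D l') := fun h => hij (Subtype.ext (by rw [hl, hl', h]))
      rw [hl, hl', ← ind_sub, ← ind_sub, mackey' D (hV' l l₀), cc_sub_left, cc_sub_right, cc_sub_right, h11 l₀ hl₀, h10 l l₀ hne,
        h10 l₀ l' hne'.symm, h10 l l' hne2]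
      norm_num)
  obtain ⟨d, -, hd⟩ := IsIrr.one_eq_nat (hμirr ⟨indFun M (al D l₀), hmem l₀ hl₀⟩)
  have hdeg : ∀ i, μ i 1 = d := by
    intro i
    have h1 := congrFun (hμ i) 1
    obtain ⟨l, hl1, hl⟩ := hι' i
    simp only [Pi.sub_apply, Pi.smul_apply, smul_eq_mul] at h1
    rw [hl, ind_one, ind_one, al_one, al_one, sub_self] at h1
    have hε0 : ε ≠ 0 := by rcases hε with h | h <;> rw [h] <;> norm_num
    have h2 := (mul_eq_zero.mp h1.symm).resolve_left hε0
    rw [← hd]; exact sub_eq_zero.mp h2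
  refine ⟨d, fun l l' hl hl' a b ha hb hab h => ?_⟩
  have h1 : indFun M (al D l - al D l') = ε • (μ ⟨_, hmem l hl⟩ - μ ⟨_, hmem l' hl'⟩) := by
    have e1 := hμ ⟨_, hmem l hl⟩
    have e2 := hμ ⟨_, hmem l' hl'⟩
    simp only at e1 e2
    rw [ind_sub]
    have e3 : indFun M (al D l) - indFun M (al D l') = (indFun M (al D l) - indFun M (al D l₀)) - (indFun M (al D l') - indFun M (al D l₀)) := by
      abel
    rw [e3, e1, e2, ← smul_sub]
    congr 1
    abel
  by_contra hne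
  have h2 : ∀ i, classInner (μ i) a = 0 := by
    intro i
    apply ci_irr_ne (hμirr i) ha
    intro h3
    apply hne
    rw [← h3]; exact hdeg i
  have h3 : classInner (a - b) a = 0 := by
    rw [← h, h1, ci_smul_left, ci_sub_left, h2, h2]; simp
  rw [ci_sub_left, ci_irr_self ha, ci_irr_ne hb ha hab.symm] at h3
  norm_num at h3

end Char

end Cfsg.Agent.H3.BF
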