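import Mathlib
import Cfsg.Prelude.Def_Characters
import Cfsg.Agent.H3_BF2

/-!
# Exceptional characters, continued
-/

set_option autoImplicit false

open scoped ComplexConjugate

namespace Cfsg.Agent.H3.BF

open Cfsg Cfsg.Agent.H3.CharBasic Cfsg.Agent.H3.CharIrr Cfsg.Agent.H3.CharInt Cfsg.Agent.H3.CharCalc
  Cfsg.Agent.H3.CharComplete Cfsg.Agent.H3.CharInd Cfsg.Agent.H3.CharMult Cfsg.Agent.H3.CharQuot

theorem constituent_sub {A : Type*} [Group A] [Fintype A] {χ θ : A → ℂ} (hχ : IsCharacter A χ) (hθ : IsIrrCharacter A θ)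
    (hm : classInner χ θ ≠ 0) : IsCharacter A (χ - θ) := by
  obtain ⟨n, hn⟩ := ci_char_nat hχ (IsIrr.isCharacter hθ)
  have h1 : 1 ≤ n := by
    rcases Nat.eq_zero_or_pos n with h | h
    · rw [h] at hn; exact absurd (by rw [hn]; simp) hm
    · exact h
  have h2 := IsChar.sub_constituent hχ hθ hn h1
  rwa [Nat.cast_one, one_smul] at h2

theorem constituent_ker {A : Type*} [Group A] [Fintype A] {χ θ : A → ℂ} (hχ : IsCharacter A χ) (hθ : IsIrrCharacter A θ)
    (hm : classInner χ θ ≠ 0) {v : A} (hv : χ v = χ 1) : θ v = θ 1 := by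
  have h1 := constituent_sub hχ hθ hm
  obtain ⟨a, ha⟩ := IsChar.one_eq_nat h1
  obtain ⟨b, hb⟩ := IsChar.one_eq_nat (IsIrr.isCharacter hθ)
  have h2 := IsChar.norm_le h1 v
  have h3 := IsChar.norm_le (IsIrr.isCharacter hθ) v
  rw [ha, Complex.natCast_re] at h2
  rw [hb, Complex.natCast_re] at h3
  have h4 : ((χ - θ) v).re ≤ a := le_trans (Complex.re_le_norm _) h2
  have h5 : (θ v).re ≤ b := le_trans (Complex.re_le_norm _) h3
  have h6 : ((χ - θ) v).re + (θ v).re = a + b := by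
    have h7 : (χ - θ) v + θ v = (χ - θ) 1 + θ 1 := by
      simp only [Pi.sub_apply]; rw [hv]; ring
    rw [ha, hb] at h7
    have h8 := congrArg Complex.re h7
    simpa using h8
  have h7 : (θ v).re = b := by linarith
  have h8 : (θ v).im = 0 := by
    have h9 := Complex.sq_norm (θ v)
    rw [Complex.normSq_apply, h7] at h9
    have h10 : ‖θ v‖ ^ 2 ≤ (b : ℝ) ^ 2 := pow_le_pow_left₀ (norm_nonneg _) h3 2
    nlinarith
  rw [hb]
  exact Complex.ext (by rw [h7]; simp) (by rw [h8]; simp)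

/-- a character of an abelian group of small degree misses some nontrivial linear character -/
theorem exists_missing {A : Type*} [Group A] [Fintype A] (hA : ∀ a b : A, a * b = b * a) {χ : A → ℂ} (hχ : IsCharacter A χ)
    {d : ℕ} (hd : χ 1 = d) (hlt : d + 1 < Nat.card A) :
    ∃ μ : A →* ℂˣ, μ ≠ 1 ∧ classInner χ (fun x => (μ x : ℂ)) = 0 := by
  classical
  have : Fintype (IrrCharacter A) := Fintype.ofFinite _
  by_contra hcon
  push Not at hcon
  obtain ⟨m, hm, hχm⟩ := IsChar.eq_sum_nat hχ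
  have h1 : ∀ ψ : IrrCharacter A, (ψ : A → ℂ) 1 = 1 := fun ψ => IsIrr.one_of_comm hA ψ.2
  have h2 : d = ∑ ψ : IrrCharacter A, m ψ := by
    have h3 := congrFun hχm 1
    rw [Finset.sum_apply, hd] at h3
    have h4 : (d : ℂ) = ((∑ ψ : IrrCharacter A, m ψ : ℕ) : ℂ) := by
      rw [h3]; push_cast
      refine Finset.sum_congr rfl (fun ψ _ => ?_)
      rw [Pi.smul_apply, h1, smul_eq_mul, mul_one]
    exact_mod_cast h4
  have h3 : ∀ ψ : IrrCharacter A, (ψ : A → ℂ) ≠ (fun _ => 1) → 1 ≤ m ψ := by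
    intro ψ hψ
    obtain ⟨f, hf⟩ := IsChar.hom_units_of_one (IsIrr.isCharacter ψ.2) (h1 ψ)
    have h4 : f ≠ 1 := by
      rintro rfl
      apply hψ
      funext x; rw [hf]; simp
    have h5 := hcon f h4
    have h6 : (fun x => (f x : ℂ)) = (ψ : A → ℂ) := by funext x; rw [hf]
    rw [h6, hm] at h5
    rcases Nat.eq_zero_or_pos (m ψ) with h7 | h7
    · rw [h7] at h5; simp at h5
    · exact h7
  have h4 : (Finset.univ.filter (fun ψ : IrrCharacter A => (ψ : A → ℂ) ≠ (fun _ => 1))).card ≤ d := by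
    rw [h2, Finset.card_eq_sum_ones]
    calc ∑ ψ ∈ Finset.univ.filter (fun ψ : IrrCharacter A => (ψ : A → ℂ) ≠ (fun _ => 1)), 1
        ≤ ∑ ψ ∈ Finset.univ.filter (fun ψ : IrrCharacter A => (ψ : A → ℂ) ≠ (fun _ => 1)), m ψ :=
          Finset.sum_le_sum (fun ψ hψ => h3 ψ (Finset.mem_filter.mp hψ).2)
      _ ≤ ∑ ψ : IrrCharacter A, m ψ := Finset.sum_le_sum_of_subset (Finset.filter_subset _ _)
  have h5 : Nat.card A = Fintype.card (IrrCharacter A) := by
    have h6 := sum_sq (G := A)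
    have h7 : (Nat.card A : ℂ) = (Fintype.card (IrrCharacter A) : ℂ) := by
      rw [← h6]
      rw [Finset.sum_congr rfl (fun ψ _ => by rw [h1 ψ])]
      simp
    exact_mod_cast h7
  have h6 : (Finset.univ.filter (fun ψ : IrrCharacter A => ¬ ((ψ : A → ℂ) ≠ (fun _ => 1)))).card ≤ 1 := by
    rw [Finset.card_le_one]
    intro a ha b hb
    rw [Finset.mem_filter, not_not] at ha hb
    exact Subtype.ext (ha.2.trans hb.2.symm)
  have h7 := Finset.card_filter_add_card_filter_not (s := Finset.univ) (fun ψ : IrrCharacter A => (ψ : A → ℂ) ≠ (fun _ => 1))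
  rw [Finset.card_univ] at h7
  omega

section Char

variable {G : Type*} [Group G] [Fintype G] {P M V : Subgroup G} {k : ℕ} (D : Dat P M V k)

include D in
theorem exc [Fintype M] [Fintype P] {χ : G → ℂ} (hχ : IsIrrCharacter G χ) {d : ℕ} (hd : χ 1 = d) (hlt : d + 1 < Nat.card P)
    (hker : ∃ x ∈ P, χ x ≠ χ 1) : ∃ (θ : M → ℂ) (l : P →* ℂˣ), IsIrrCharacter M θ ∧ IsIrrCharacter M (θ * al D l) ∧
      NT P M θ ∧ NT P M (θ * al D l) ∧ classInner (fun y : M => χ y) θ ≠ 0 ∧ classInner (fun y : M => χ y) (θ * al D l) = 0 ∧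
      ∃ b : G → ℂ, IsIrrCharacter G b ∧ χ ≠ b ∧ indFun M (θ - θ * al D l) = χ - b := by
  classical
  have : Fintype (IrrCharacter M) := Fintype.ofFinite _
  have hχc := IsIrr.isCharacter hχ
  have hχM := IsChar.res hχc M
  have hPab : ∀ a b : P, a * b = b * a := fun a b => Subtype.ext (D.comm a a.2 b (D.PM b.2))
  -- the constituent `θ`
  obtain ⟨θ, hθ, hθm, hθnt⟩ : ∃ θ : M → ℂ, IsIrrCharacter M θ ∧ classInner (fun y : M => χ y) θ ≠ 0 ∧ NT P M θ := by
    by_contra hcon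
    push Not at hcon
    obtain ⟨x, hx, hne⟩ := hker
    apply hne
    obtain ⟨m, hm, hχm⟩ := IsChar.eq_sum_nat hχM
    have h1 := congrFun hχm ⟨x, D.PM hx⟩
    have h2 := congrFun hχm 1
    rw [Finset.sum_apply] at h1 h2
    have h3 : χ x = ∑ ψ : IrrCharacter M, ((m ψ : ℂ) • (ψ : M → ℂ)) ⟨x, D.PM hx⟩ := h1
    have h4 : χ 1 = ∑ ψ : IrrCharacter M, ((m ψ : ℂ) • (ψ : M → ℂ)) 1 := h2
    rw [h3, h4]
    refine Finset.sum_congr rfl (fun ψ _ => ?_)
    rw [Pi.smul_apply, Pi.smul_apply]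
    by_cases h5 : m ψ = 0
    · rw [h5]; simp
    · have h6 := hcon ψ ψ.2 (by rw [hm]; exact_mod_cast h5)
      congr 1
      by_contra h7
      exact h6 ⟨⟨x, D.PM hx⟩, hx, h7⟩
  obtain ⟨μ, hμ1, hμ⟩ := exists_missing hPab (IsChar.comp hχM (Subgroup.inclusion D.PM)) (d := d) hd hlt
  obtain ⟨l₀, hl₀⟩ := exists_central D hθ
  obtain ⟨l, hl⟩ : ∃ l : P →* ℂˣ, ∀ x, l x = μ x * (l₀ x)⁻¹ :=
    ⟨⟨⟨fun x => μ x * (l₀ x)⁻¹, by simp⟩, fun x y => by simp only [map_mul, mul_inv]; exact mul_mul_mul_comm _ _ _ _⟩, fun x => rfl⟩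
  have hηirr : IsIrrCharacter M (θ * al D l) := by
    rw [mul_comm]
    exact IsIrr.mul_linear hθ (IsIrr.isCharacter (al_irr D l)) (al_one D l)
  have hηP : ∀ x : P, (θ * al D l) ⟨x, D.PM x.2⟩ = θ 1 * μ x := by
    intro x
    rw [Pi.mul_apply, al_P D l _ x.2]
    have h1 := hl₀ ⟨x, D.PM x.2⟩ x.2 1
    rw [mul_one] at h1
    rw [h1, hl]
    push_cast
    have : (l₀ x : ℂ) ≠ 0 := Units.ne_zero _
    field_simp
  have hθ1 := IsIrr.one_ne_zero hθ
  have hη1 : (θ * al D l) 1 = θ 1 := by rw [Pi.mul_apply, al_one, mul_one]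
  have hηnt : NT P M (θ * al D l) := by
    obtain ⟨x, hx⟩ : ∃ x, μ x ≠ 1 := by
      by_contra hcon
      push Not at hcon
      exact hμ1 (MonoidHom.ext hcon)
    refine ⟨⟨x, D.PM x.2⟩, x.2, ?_⟩
    rw [hηP, hη1]
    intro h
    apply hx
    apply Units.ext
    exact mul_left_cancel₀ hθ1 (by rw [h, Units.val_one, mul_one])
  have hη0 : classInner (fun y : M => χ y) (θ * al D l) = 0 := by
    by_contra hne
    have h1 := constituent_sub hχM hηirr hne
    have h2 := IsChar.comp h1 (Subgroup.inclusion D.PM)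
    obtain ⟨c, hc⟩ := ci_char_nat h2 (IsIrr.isCharacter (isIrr_of_hom_units μ))
    obtain ⟨t, ht0, ht⟩ := IsIrr.one_eq_nat hθ
    have h3 : (fun x : P => (fun y : M => χ y) (Subgroup.inclusion D.PM x)) =
        (fun x : P => ((fun y : M => χ y) - θ * al D l) (Subgroup.inclusion D.PM x)) + (θ 1) • (fun x : P => (μ x : ℂ)) := by
      funext x
      rw [Pi.add_apply, Pi.smul_apply, smul_eq_mul, ← hηP x, Pi.sub_apply]
      change χ x = χ x - (θ * al D l) ⟨x, D.PM x.2⟩ + (θ * al D l) ⟨x, D.PM x.2⟩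
      ring
    rw [h3, ci_add_left, hc, ci_smul_left, ci_irr_self (isIrr_of_hom_units μ), ht, mul_one] at hμ
    have : c + t = 0 := by exact_mod_cast hμ
    omega
  refine ⟨θ, l, hθ, hηirr, hθnt, hηnt, hθm, hη0, ?_⟩
  have hV : ∀ v : M, (v : G) ∈ V → θ v = (θ * al D l) v := fun v hv => by
    rw [Pi.mul_apply, al_V D l v hv, mul_one]
  obtain ⟨a, b, ha, hb, hab, h⟩ := diff_pair D hθ hηirr hθnt hηnt hV (by
    intro g hg h
    apply hθm
    rw [← h, ← cg_res (IsIrr.isClass hχ) hg, ci_cg_cg _ _ hg]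
    exact hη0)
  have h1 : classInner χ (a - b) = classInner (fun y : M => χ y) θ := by
    rw [← h, frobenius' M _ _ (IsIrr.isClass hχ), ci_sub_right, hη0, sub_zero]
  obtain ⟨c, hc⟩ := ci_char_nat hχM (IsIrr.isCharacter hθ)
  have h2 : χ = a := by
    by_contra hne
    rw [ci_sub_right, ci_irr_ne hχ ha hne, hc] at h1
    by_cases h3 : χ = b
    · rw [h3, ci_irr_self hb] at h1
      have h4 : ((-1 : ℤ) : ℂ) = ((c : ℤ) : ℂ) := by push_cast; rw [← h1]; ring
      have h5 : (-1 : ℤ) = c := by exact_mod_cast h4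
      omega
    · rw [ci_irr_ne hχ hb h3] at h1
      apply hθm
      rw [hc, ← h1]; ring
  exact ⟨b, hb, by rw [h2]; exact hab, by rw [h, h2]⟩

/-- characters with `V` in the kernel -/
theorem eq_al {θ : M → ℂ} (hθ : IsIrrCharacter M θ) (hV : ∀ v : M, (v : G) ∈ V → θ v = θ 1) :
    ∃ l : P →* ℂˣ, θ = al D l := by
  classical
  have := Fintype.ofFinite M
  obtain ⟨l₀, hl₀⟩ := exists_central D hθ
  have h1 : ∀ y : M, θ y = l₀ (proj D y) * θ 1 := by
    intro y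
    have hy : y = ⟨(y : G) ^ k, D.PM (pow_mem D y.2)⟩ * ⟨((y : G) ^ k)⁻¹ * y, D.VM (rest_mem D y.2)⟩ := Subtype.ext (by
      change (y : G) = (y : G) ^ k * (((y : G) ^ k)⁻¹ * y)
      group)
    conv_lhs => rw [hy]
    rw [hl₀ _ (pow_mem D y.2), hV _ (rest_mem D y.2)]
    rfl
  obtain ⟨t, ht0, ht⟩ := IsIrr.one_eq_nat hθ
  have h2 : θ = (t : ℂ) • al D l₀ := by
    funext y
    rw [h1 y, ht, Pi.smul_apply, smul_eq_mul, mul_comm]; rfl
  have h3 := ci_irr_self hθ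
  rw [h2, ci_smul_left, ci_smul_right, ci_irr_self (al_irr D l₀), map_natCast, mul_one] at h3
  have h4 : t * t = 1 := by exact_mod_cast h3
  have h5 : t = 1 := by nlinarith
  exact ⟨l₀, by rw [h2, h5]; simp⟩

include D in
/-- common degree, final form -/
theorem common [Fintype M] [Fintype P] : ∃ e : ℕ, ∀ ξ : G → ℂ, IsIrrCharacter G ξ → (∀ v ∈ V, ξ v = ξ 1) → (∃ x ∈ P, ξ x ≠ ξ 1) →
    ∀ d : ℕ, ξ 1 = d → d + 1 < Nat.card P → d = e := by
  classical
  obtain ⟨e, he⟩ := common_degree D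
  refine ⟨e, fun ξ hξ hV hker d hd hlt => ?_⟩
  obtain ⟨θ, l, hθ, hη, hnt, hnt', hm, -, b, hb, hne, h⟩ := exc D hξ hd hlt hker
  have hθV : ∀ v : M, (v : G) ∈ V → θ v = θ 1 := by
    intro v hv
    exact constituent_ker (IsChar.res (IsIrr.isCharacter hξ) M) hθ hm (hV v hv)
  obtain ⟨l₁, rfl⟩ := eq_al D hθ hθV
  have h1 : al D l₁ * al D l = al D (l₁ * l) := by
    funext y; simp [al]
  rw [h1] at h hnt'
  have h2 : l₁ ≠ 1 := by
    rintro rfl
    obtain ⟨x, hx, hne⟩ := hnt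
    exact hne (by simp [al])
  have h3 : l₁ * l ≠ 1 := by
    intro h4
    obtain ⟨x, hx, hne⟩ := hnt'
    exact hne (by rw [h4]; simp [al])
  have h4 := he l₁ (l₁ * l) h2 h3 ξ b hξ hb hne h
  rw [hd] at h4
  exact_mod_cast h4

end Char

end Cfsg.Agent.H3.BF
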