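import Mathlib
import Cfsg.Prelude.Def_Characters
import Cfsg.Agent.H3_Clifford2
import Cfsg.Agent.H3_CharMult
import Cfsg.Agent.H26_Kernel

/-!
# H26_Ext0: extending invariant linear characters
-/

set_option autoImplicit false

namespace Cfsg.Agent.H26.Ext0

open Cfsg Cfsg.Agent.H3.CharIrr Cfsg.Agent.H3.CharComplete Cfsg.Agent.H3.CharInd
  Cfsg.Agent.H3.Clifford Cfsg.Agent.H3.CharMult Cfsg.Agent.H26.Basic

open scoped ComplexConjugate

variable {G : Type*} [Group G] [Finite G]

/-- An invariant linear character of a normal subgroup extends after raising it to the power of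
the index. -/
theorem linear_power_ext (N : Subgroup G) [hN : N.Normal] (lam : N →* ℂˣ)
    (hinv : ∀ (g : G) (n : N), lam ⟨g * n * g⁻¹, hN.conj_mem (n : G) n.2 g⟩ = lam n) :
    ∃ μ : G →* ℂˣ, ∀ n : N, μ n = lam n ^ N.index := by
  classical
  haveI : Fintype G := Fintype.ofFinite G
  haveI : Fintype N := Fintype.ofFinite N
  have hlam : IsIrrCharacter N (fun n => (lam n : ℂ)) := isIrr_of_hom_units lam
  have hchar : IsCharacter G (indFun N (fun n => (lam n : ℂ))) := IsChar.ind (IsIrr.isCharacter hlam)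
  have hval : ∀ n : N, indFun N (fun n => (lam n : ℂ)) (n : G) = (N.index : ℂ) * lam n := by
    intro n
    rw [ind_res (hN := hN)]
    have h1 : ∀ x : G, cj hN x (fun n => (lam n : ℂ)) n = lam n := by
      intro x
      rw [cj_apply, hinv]
    simp_rw [h1]
    rw [Finset.sum_const, nsmul_eq_mul, Finset.card_univ, ← Nat.card_eq_fintype_card,
      ← Subgroup.card_mul_index N]
    have : (Nat.card N : ℂ) ≠ 0 := by exact_mod_cast Nat.card_pos.ne'
    push_cast
    field_simp
  obtain ⟨m, ρ, hρ⟩ := hchar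
  have hm : (m : ℂ) = N.index := by
    have h1 := hval 1
    rw [OneMemClass.coe_one, map_one, Units.val_one, mul_one, ← hρ, Representation.char_one] at h1
    simpa using h1
  have hm' : m = N.index := by exact_mod_cast hm
  have hsc : ∀ n : N, ρ n = (lam n : ℂ) • (LinearMap.id : (Fin m → ℂ) →ₗ[ℂ] (Fin m → ℂ)) := by
    intro n
    have hn1 : ‖(lam n : ℂ)‖ = 1 := by
      apply Cfsg.Agent.H3.CharBasic.norm_eq_one_of_pow (orderOf_pos n).ne'
      rw [← Units.val_pow_eq_pow_val, ← map_pow, pow_orderOf_eq_one, map_one, Units.val_one]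
    have h1 : ‖ρ.character n‖ = (Module.finrank ℂ (Fin m → ℂ) : ℝ) := by
      rw [hρ, hval, norm_mul, hn1, mul_one]
      simp [hm']
    obtain ⟨c, hc⟩ := (Cfsg.Agent.H3.CharBasic.norm_char_eq_iff ρ (n : G)).1 h1
    have h2 : ρ.character n = c * m := by
      rw [Representation.character, hc, map_smul, LinearMap.trace_id]
      simp
    rw [hρ, hval, ← hm] at h2
    have hm0 : (m : ℂ) ≠ 0 := by
      rw [hm]; exact_mod_cast Subgroup.index_ne_zero_of_finite
    have h3 : (lam n : ℂ) = c := by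
      apply mul_left_cancel₀ hm0
      rw [h2, mul_comm]
    rw [hc, h3]
  refine ⟨(LinearMap.det.comp (ρ : G →* _)).toHomUnits, fun n => ?_⟩
  apply Units.ext
  rw [MonoidHom.coe_toHomUnits, MonoidHom.comp_apply, Units.val_pow_eq_pow_val]
  have := hsc n
  rw [show (ρ : G →* _) (n : G) = ρ n from rfl, this, LinearMap.det_smul, LinearMap.det_id, mul_one]
  congr 1
  simp [hm']

theorem exists_mul_mod {a b : ℕ} (hb : b ≠ 0) (h : Nat.Coprime a b) : ∃ k : ℕ, (a * k) % b = 1 % b := by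
  by_cases hb1 : b = 1
  · subst hb1; exact ⟨0, by simp [Nat.mod_one]⟩
  · obtain ⟨k, hk⟩ := Nat.exists_mul_mod_eq_one_of_coprime h (by omega)
    exact ⟨k, by rw [hk.2, Nat.mod_eq_of_lt (by omega)]⟩

/-- An invariant linear character of order coprime to the index extends. -/
theorem linear_ext (N : Subgroup G) [hN : N.Normal] (lam : N →* ℂˣ)
    (hinv : ∀ (g : G) (n : N), lam ⟨g * n * g⁻¹, hN.conj_mem (n : G) n.2 g⟩ = lam n)
    {r : ℕ} (hr0 : r ≠ 0) (hr : ∀ n, lam n ^ r = 1) (hcop : Nat.Coprime N.index r) :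
    ∃ μ : G →* ℂˣ, (∀ n : N, μ n = lam n) ∧ ∃ (μ₀ : G →* ℂˣ) (k : ℕ), μ = μ₀ ^ k := by
  obtain ⟨μ₀, hμ⟩ := linear_power_ext N lam hinv
  obtain ⟨k, hk⟩ := exists_mul_mod hr0 hcop
  refine ⟨μ₀ ^ k, fun n => ?_, μ₀, k, rfl⟩
  rw [MonoidHom.pow_apply, hμ, ← pow_mul]
  have h1 : lam n ^ (N.index * k) = lam n ^ (N.index * k % r) := by
    conv_lhs => rw [← Nat.mod_add_div (N.index * k) r, pow_add, pow_mul, hr, one_pow, mul_one]
  have h2 : lam n = lam n ^ (1 % r) := by
    conv_lhs => rw [← pow_one (lam n), ← Nat.mod_add_div 1 r, pow_add, pow_mul, hr, one_pow, mul_one]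
  rw [h1, hk, ← h2]

end Cfsg.Agent.H26.Ext0
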