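import Mathlib
import Cfsg.Prelude.Def_Characters
import Cfsg.Agent.H26_Ext0

/-!
# H26_Ext1: exponents for which a linear character extends
-/

set_option autoImplicit false

namespace Cfsg.Agent.H26.Ext1

open Cfsg Cfsg.Agent.H3.CharIrr Cfsg.Agent.H3.CharComplete Cfsg.Agent.H3.CharInd
  Cfsg.Agent.H3.Clifford Cfsg.Agent.H3.CharMult Cfsg.Agent.H26.Basic Cfsg.Agent.H26.Ext0

open scoped ComplexConjugate

variable {G : Type*} [Group G]

/-- the exponents `e` for which `lam ^ e` extends to `G` -/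
def ExtExp (N : Subgroup G) (lam : N →* ℂˣ) : AddSubgroup ℤ where
  carrier := {e | ∃ μ : G →* ℂˣ, ∀ n : N, μ n = lam n ^ e}
  zero_mem' := ⟨1, fun n => by simp⟩
  add_mem' := by
    rintro a b ⟨μ, hμ⟩ ⟨ν, hν⟩
    exact ⟨μ * ν, fun n => by rw [MonoidHom.mul_apply, hμ, hν, zpow_add]⟩
  neg_mem' := by
    rintro a ⟨μ, hμ⟩
    exact ⟨μ⁻¹, fun n => by rw [MonoidHom.inv_apply, hμ, zpow_neg]⟩

theorem mem_ExtExp {N : Subgroup G} {lam : N →* ℂˣ} {e : ℤ} :
    e ∈ ExtExp N lam ↔ ∃ μ : G →* ℂˣ, ∀ n : N, μ n = lam n ^ e := Iff.rfl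

theorem ext_orderOf {N : Subgroup G} {lam : N →* ℂˣ} {r : ℕ} (hr : ∀ n, lam n ^ r = 1) : (r : ℤ) ∈ ExtExp N lam :=
  ⟨1, fun n => by rw [zpow_natCast, hr]; rfl⟩

/-- an additive subgroup of `ℤ` not contained in any `pℤ` is everything -/
theorem one_mem_of {A : AddSubgroup ℤ} (h : ∀ p : ℕ, p.Prime → ∃ m ∈ A, ¬ (p : ℤ) ∣ m) : (1 : ℤ) ∈ A := by
  obtain ⟨a, ha⟩ := Int.subgroup_cyclic A
  have hmem : ∀ m ∈ A, a ∣ m := by
    intro m hm
    rw [ha, AddSubgroup.mem_closure_singleton] at hm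
    obtain ⟨k, rfl⟩ := hm
    exact ⟨k, by rw [smul_eq_mul, mul_comm]⟩
  have haA : a ∈ A := by rw [ha]; exact AddSubgroup.mem_closure_singleton_self a
  have h1 : a.natAbs = 1 := by
    by_contra hne
    obtain ⟨p, hp, hpa⟩ := Nat.exists_prime_and_dvd hne
    obtain ⟨m, hm, hpm⟩ := h p hp
    exact hpm ((Int.natCast_dvd.2 hpa).trans (hmem m hm))
  rcases Int.natAbs_eq_iff.1 h1 with h2 | h2
  · rw [h2] at haA; exact_mod_cast haA
  · rw [h2] at haA
    have := A.neg_mem haA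
    simpa using this

theorem one_mem_of_coprime {A : AddSubgroup ℤ} {a b : ℕ} (ha : (a : ℤ) ∈ A) (hb : (b : ℤ) ∈ A) (h : Nat.Coprime a b) :
    (1 : ℤ) ∈ A := by
  apply one_mem_of
  intro p hp
  by_cases hpa : p ∣ a
  · refine ⟨b, hb, fun hpb => ?_⟩
    have := Nat.dvd_gcd hpa (Int.natCast_dvd_natCast.1 hpb)
    rw [h.gcd_eq_one] at this
    exact hp.one_lt.ne' (Nat.dvd_one.1 this)
  · exact ⟨a, ha, fun h' => hpa (Int.natCast_dvd_natCast.1 h')⟩

variable [Finite G]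

/-- transfer: from a subgroup to the whole group -/
theorem ext_of_subgroup (N : Subgroup G) [hN : N.Normal] (lam : N →* ℂˣ)
    (hinv : ∀ (g : G) (n : N), lam ⟨g * n * g⁻¹, hN.conj_mem (n : G) n.2 g⟩ = lam n)
    (H : Subgroup G) (hNH : N ≤ H) (ν : H →* ℂˣ) (e : ℤ) (hν : ∀ n : N, ν ⟨n, hNH n.2⟩ = lam n ^ e) :
    e * (H.index : ℤ) ∈ ExtExp N lam := by
  classical
  haveI : Fintype G := Fintype.ofFinite G
  haveI : Fintype H := Fintype.ofFinite H
  have hlam : IsIrrCharacter H (fun n => (ν n : ℂ)) := isIrr_of_hom_units ν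
  have hchar : IsCharacter G (indFun H (fun n => (ν n : ℂ))) := IsChar.ind (IsIrr.isCharacter hlam)
  have hH0 : (Nat.card H : ℂ) ≠ 0 := by exact_mod_cast Nat.card_pos.ne'
  have hval : ∀ n : N, indFun H (fun n => (ν n : ℂ)) (n : G) = (H.index : ℂ) * ((lam n ^ e : ℂˣ) : ℂ) := by
    intro n
    rw [indFun]
    have h1 : ∀ x : G, extendByZero H (fun n => (ν n : ℂ)) (x⁻¹ * n * x) = ((lam n ^ e : ℂˣ) : ℂ) := by
      intro x
      have hm : x⁻¹ * (n : G) * x ∈ N := by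
        have := hN.conj_mem (n : G) n.2 x⁻¹
        rwa [inv_inv] at this
      have h2 : extendByZero H (fun n => (ν n : ℂ)) (x⁻¹ * n * x) = (ν ⟨x⁻¹ * n * x, hNH hm⟩ : ℂ) := by
        rw [extendByZero]
        exact Subtype.val_injective.extend_apply (fun n : H => (ν n : ℂ)) 0 ⟨x⁻¹ * n * x, hNH hm⟩
      rw [h2, hν ⟨x⁻¹ * n * x, hm⟩]
      have h3 := hinv x⁻¹ n
      have h4 : (⟨x⁻¹ * n * x⁻¹⁻¹, hN.conj_mem (n : G) n.2 x⁻¹⟩ : N) = ⟨x⁻¹ * n * x, hm⟩ := Subtype.ext (by simp)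
      rw [h4] at h3
      rw [h3]
    simp_rw [h1]
    rw [Finset.sum_const, nsmul_eq_mul, Finset.card_univ, ← Nat.card_eq_fintype_card,
      ← Subgroup.card_mul_index H]
    push_cast
    field_simp
  obtain ⟨m, ρ, hρ⟩ := hchar
  have hm : (m : ℂ) = H.index := by
    have h1 := hval 1
    rw [OneMemClass.coe_one, map_one, one_zpow, Units.val_one, mul_one, ← hρ, Representation.char_one] at h1
    simpa using h1
  have hm' : m = H.index := by exact_mod_cast hm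
  have hsc : ∀ n : N, ρ n = ((lam n ^ e : ℂˣ) : ℂ) • (LinearMap.id : (Fin m → ℂ) →ₗ[ℂ] (Fin m → ℂ)) := by
    intro n
    have hn1 : ‖((lam n ^ e : ℂˣ) : ℂ)‖ = 1 := by
      apply Cfsg.Agent.H3.CharBasic.norm_eq_one_of_pow (orderOf_pos n).ne'
      rw [← Units.val_pow_eq_pow_val, ← zpow_natCast, ← zpow_mul, mul_comm, zpow_mul, zpow_natCast, ← map_pow, pow_orderOf_eq_one, map_one, one_zpow, Units.val_one]
    have h1 : ‖ρ.character n‖ = (Module.finrank ℂ (Fin m → ℂ) : ℝ) := by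
      rw [hρ, hval, norm_mul, hn1, mul_one]
      simp [hm']
    obtain ⟨c, hc⟩ := (Cfsg.Agent.H3.CharBasic.norm_char_eq_iff ρ (n : G)).1 h1
    have h2 : ρ.character n = c * m := by
      rw [Representation.character, hc, map_smul, LinearMap.trace_id]
      simp
    rw [hρ, hval, ← hm] at h2
    have hm0 : (m : ℂ) ≠ 0 := by
      rw [hm]; exact_mod_cast Subgroup.index_ne_zero_of_finite
    have h3 : ((lam n ^ e : ℂˣ) : ℂ) = c := by
      apply mul_left_cancel₀ hm0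
      rw [h2, mul_comm]
    rw [hc, h3]
  refine ⟨(LinearMap.det.comp (ρ : G →* _)).toHomUnits, fun n => ?_⟩
  apply Units.ext
  rw [MonoidHom.coe_toHomUnits, MonoidHom.comp_apply]
  have := hsc n
  rw [show (ρ : G →* _) (n : G) = ρ n from rfl, this, LinearMap.det_smul, LinearMap.det_id, mul_one,
    ← Units.val_pow_eq_pow_val]
  congr 1
  rw [zpow_mul, zpow_natCast]
  congr 1
  simp [hm']

theorem ext_index (N : Subgroup G) [hN : N.Normal] (lam : N →* ℂˣ)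
    (hinv : ∀ (g : G) (n : N), lam ⟨g * n * g⁻¹, hN.conj_mem (n : G) n.2 g⟩ = lam n) : (N.index : ℤ) ∈ ExtExp N lam := by
  have := ext_of_subgroup N lam hinv N le_rfl lam 1 (fun n => by rw [zpow_one])
  rwa [one_mul] at this

end Cfsg.Agent.H26.Ext1
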