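import Mathlib
import Cfsg.Prelude.Def_Characters
import Cfsg.Agent.H3_CharMult

/-!
# Representations with equal characters are equivalent
-/

set_option autoImplicit false

open scoped ComplexConjugate

namespace Cfsg.Agent.H3.CharEquiv

open Cfsg Cfsg.Agent.H3.CharBasic Cfsg.Agent.H3.CharIrr Cfsg.Agent.H3.CharComplete
  Cfsg.Agent.H3.CharMult Cfsg.Agent.H3.CharInd

section

variable {G : Type*} [Group G] {V W : Type*} [AddCommGroup V] [Module ℂ V]
  [FiniteDimensional ℂ V] [AddCommGroup W] [Module ℂ W] [FiniteDimensional ℂ W]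

/-- A nonzero representation contains an irreducible subrepresentation. -/
theorem exists_irr_sub (ρ : Representation ℂ G V) (hV : 0 < Module.finrank ℂ V) :
    ∃ (U : Submodule ℂ V) (hU : ∀ g, ∀ v ∈ U, ρ g v ∈ U), (subRep ρ U hU).IsIrreducible := by
  classical
  have hex : ∃ n, ∃ U : Submodule ℂ V, (∀ g, ∀ v ∈ U, ρ g v ∈ U) ∧ U ≠ ⊥ ∧
      Module.finrank ℂ U = n := by
    refine ⟨_, ⊤, fun _ _ _ => trivial, ?_, rfl⟩
    intro h
    have h1 : Module.finrank ℂ (⊤ : Submodule ℂ V) = 0 := by rw [h]; exact finrank_bot ℂ V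
    rw [finrank_top] at h1
    omega
  obtain ⟨U, hU, hbot, hn⟩ := Nat.find_spec hex
  refine ⟨U, hU, ?_⟩
  rw [irrep_iff]
  refine ⟨(Submodule.nontrivial_iff_ne_bot).mpr hbot, fun X hX => ?_⟩
  by_cases hX0 : X = ⊥
  · left; exact hX0
  · right
    let Y : Submodule ℂ V := X.map U.subtype
    have hYinv : ∀ g, ∀ v ∈ Y, ρ g v ∈ Y := by
      intro g v hv
      obtain ⟨x, hx, rfl⟩ := Submodule.mem_map.mp hv
      exact Submodule.mem_map.mpr ⟨subRep ρ U hU g x, hX g x hx, rfl⟩
    have hfin : Module.finrank ℂ Y = Module.finrank ℂ X :=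
      (Submodule.equivMapOfInjective U.subtype U.injective_subtype X).finrank_eq.symm
    have hY0 : Y ≠ ⊥ := by
      intro h
      apply hX0
      rw [eq_bot_iff]
      intro x hx
      have h1 : U.subtype x ∈ Y := Submodule.mem_map_of_mem hx
      rw [h, Submodule.mem_bot] at h1
      rw [Submodule.mem_bot]
      exact Subtype.ext h1
    have hle := Nat.find_min' hex ⟨Y, hYinv, hY0, rfl⟩
    rw [← hn, hfin] at hle
    exact Submodule.eq_top_of_finrank_eq (le_antisymm (Submodule.finrank_le X) hle)

theorem prodCongr {V₁ V₂ W₁ W₂ : Type*} [AddCommGroup V₁] [Module ℂ V₁] [AddCommGroup V₂]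
    [Module ℂ V₂] [AddCommGroup W₁] [Module ℂ W₁] [AddCommGroup W₂] [Module ℂ W₂]
    {ρ₁ : Representation ℂ G V₁} {ρ₂ : Representation ℂ G V₂} {σ₁ : Representation ℂ G W₁}
    {σ₂ : Representation ℂ G W₂} (e₁ : Nonempty (ρ₁.Equiv σ₁)) (e₂ : Nonempty (ρ₂.Equiv σ₂)) :
    Nonempty ((ρ₁.prod ρ₂).Equiv (σ₁.prod σ₂)) := by
  obtain ⟨e₁⟩ := e₁
  obtain ⟨e₂⟩ := e₂
  refine ⟨Representation.Equiv.mk (LinearEquiv.prodCongr e₁.toLinearEquiv e₂.toLinearEquiv)
    (fun g => ?_)⟩
  have h1 : ∀ v, e₁.toLinearEquiv (ρ₁ g v) = σ₁ g (e₁.toLinearEquiv v) := fun v =>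
    Representation.IntertwiningMap.isIntertwining _ _ e₁.toIntertwiningMap g v
  have h2 : ∀ v, e₂.toLinearEquiv (ρ₂ g v) = σ₂ g (e₂.toLinearEquiv v) := fun v =>
    Representation.IntertwiningMap.isIntertwining _ _ e₂.toIntertwiningMap g v
  apply LinearMap.ext
  rintro ⟨v, w⟩
  exact Prod.ext (h1 v) (h2 w)

omit [FiniteDimensional ℂ V] [FiniteDimensional ℂ W] in
/-- range of an injective intertwining map -/
theorem equiv_range {ρ : Representation ℂ G V} {σ : Representation ℂ G W}
    (f : ρ.IntertwiningMap σ) (hf : Function.Injective f) :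
    ∃ (U : Submodule ℂ W) (hU : ∀ g, ∀ v ∈ U, σ g v ∈ U), Nonempty (ρ.Equiv (subRep σ U hU)) := by
  have hcomm : ∀ g v, f (ρ g v) = σ g (f v) := fun g v =>
    Representation.IntertwiningMap.isIntertwining _ _ f g v
  refine ⟨LinearMap.range f.toLinearMap, ?_, ?_⟩
  · rintro g _ ⟨v, rfl⟩
    exact ⟨ρ g v, hcomm g v⟩
  · refine ⟨Representation.Equiv.mk (LinearEquiv.ofInjective f.toLinearMap hf) (fun g => ?_)⟩
    apply LinearMap.ext
    intro v
    apply Subtype.ext
    exact hcomm g v

end

/-- Equal characters imply equivalence. -/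
theorem equiv_of_char_eq {G : Type*} [Group G] [Finite G] (n : ℕ) :
    ∀ {V W : Type*} [AddCommGroup V] [Module ℂ V]
    [FiniteDimensional ℂ V] [AddCommGroup W] [Module ℂ W] [FiniteDimensional ℂ W]
    (ρ : Representation ℂ G V) (σ : Representation ℂ G W) (_ : Module.finrank ℂ V = n)
    (_ : ρ.character = σ.character), Nonempty (ρ.Equiv σ) := by
  have := Fintype.ofFinite G
  induction n using Nat.strong_induction_on with
  | _ n ih =>
    intro V W _ _ _ _ _ _ ρ σ hn h
    have hdim : Module.finrank ℂ W = Module.finrank ℂ V := by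
      have h1 := congrFun h 1
      rw [Representation.char_one, Representation.char_one] at h1
      exact_mod_cast h1.symm
    by_cases h0 : n = 0
    · have h1 := Module.finrank_zero_iff (R := ℂ) (M := V).mp (hn.trans h0)
      have h2 := Module.finrank_zero_iff (R := ℂ) (M := W).mp (hdim.trans (hn.trans h0))
      exact ⟨Representation.Equiv.mk (LinearEquiv.ofFinrankEq V W hdim.symm)
        (fun g => by ext v; exact Subsingleton.elim _ _)⟩
    · obtain ⟨U, hU, hirr⟩ := exists_irr_sub ρ (by omega)
      obtain ⟨U', hU', hc⟩ := exists_compl ρ U hU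
      obtain ⟨e⟩ := equiv_prod_of_isCompl ρ U U' hU hU' hc
      have hchar : ρ.character = (subRep ρ U hU).character + (subRep ρ U' hU').character := by
        rw [← Representation.char_iso e, character_prod]
      -- a nonzero intertwining map
      have hirrχ := isIrr_of_rep _ hirr
      have hne : classInner σ.character (subRep ρ U hU).character ≠ 0 := by
        rw [← h, hchar, ci_add_left, ci_irr_self hirrχ]
        obtain ⟨m, hm⟩ := ci_char_nat (isCharacter_of_rep (subRep ρ U' hU'))
          (IsIrr.isCharacter hirrχ)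
        rw [hm]
        have : ((1 + m : ℕ) : ℂ) ≠ 0 := by
          exact_mod_cast (by omega : 1 + m ≠ 0)
        push_cast at this
        exact this
      rw [ci_eq_finrank] at hne
      have hfin : 0 < Module.finrank ℂ ((subRep ρ U hU).IntertwiningMap σ) := by
        rcases Nat.eq_zero_or_pos (Module.finrank ℂ ((subRep ρ U hU).IntertwiningMap σ)) with h | h
        · rw [h] at hne; exact absurd (by simp) hne
        · exact h
      obtain ⟨f, hf⟩ := (Module.finrank_pos_iff_exists_ne_zero (R := ℂ)).mp hfin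
      have hinj : Function.Injective f :=
        (Representation.IsIrreducible.injective_or_eq_zero f).resolve_right hf
      obtain ⟨X, hX, ⟨e1⟩⟩ := equiv_range f hinj
      obtain ⟨X', hX', hcX⟩ := exists_compl σ X hX
      obtain ⟨e2⟩ := equiv_prod_of_isCompl σ X X' hX hX' hcX
      have hchar2 : σ.character = (subRep σ X hX).character + (subRep σ X' hX').character := by
        rw [← Representation.char_iso e2, character_prod]
      have hrest : (subRep ρ U' hU').character = (subRep σ X' hX').character := by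
        have h1 := Representation.char_iso e1
        rw [hchar, hchar2, h1] at h
        exact add_left_cancel h
      have hadd := Submodule.finrank_add_eq_of_isCompl hc
      have hpos : 0 < Module.finrank ℂ U := by
        have := ((irrep_iff _).mp hirr).1
        exact Module.finrank_pos
      have e3 := ih (Module.finrank ℂ U') (by omega) (subRep ρ U' hU') (subRep σ X' hX') rfl hrest
      obtain ⟨e4⟩ := prodCongr ⟨e1⟩ e3
      exact ⟨(e.symm.trans e4).trans e2⟩

end Cfsg.Agent.H3.CharEquiv
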