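import Mathlib
import Cfsg.Prelude.Def_CharExt
import Cfsg.Agent.H3_CharEquiv
import Cfsg.Agent.H3_CharInt
import Cfsg.Agent.H26_Ext1
import Cfsg.Agent.H10_Char

/-!
# H26_Ext2: determinantal characters
-/

set_option autoImplicit false

namespace Cfsg.Agent.H26.Ext2

open Cfsg Cfsg.Agent.H3.CharIrr Cfsg.Agent.H3.CharComplete Cfsg.Agent.H3.CharInd
  Cfsg.Agent.H3.Clifford Cfsg.Agent.H3.CharMult Cfsg.Agent.H26.Basic Cfsg.Agent.H26.Ext1

open scoped ComplexConjugate

variable {G : Type*} [Group G] [Finite G]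

theorem det_of_equiv {V W : Type*} [AddCommGroup V] [Module ℂ V] [AddCommGroup W] [Module ℂ W]
    {ρ : Representation ℂ G V} {σ : Representation ℂ G W} (e : ρ.Equiv σ) (g : G) :
    LinearMap.det (ρ g) = LinearMap.det (σ g) := by
  have h1 : σ g = (e.toLinearEquiv : V →ₗ[ℂ] W) ∘ₗ ρ g ∘ₗ (e.toLinearEquiv.symm : W →ₗ[ℂ] V) := by
    apply LinearMap.ext
    intro w
    have h2 := LinearMap.congr_fun (e.isIntertwining' g) (e.toLinearEquiv.symm w)
    have h3 : e.toLinearEquiv (e.toLinearEquiv.symm w) = w := e.toLinearEquiv.apply_symm_apply w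
    have h4 : e.toLinearEquiv (ρ g (e.toLinearEquiv.symm w)) = σ g (e.toLinearEquiv (e.toLinearEquiv.symm w)) := h2
    rw [h3] at h4
    exact h4.symm
  rw [h1, LinearMap.det_conj]

theorem detChar_eq {V : Type*} [AddCommGroup V] [Module ℂ V] [FiniteDimensional ℂ V] (ρ : Representation ℂ G V)
    {χ : G → ℂ} (hχ : IsCharacter G χ) (h : ρ.character = χ) (g : G) : detChar χ g = LinearMap.det (ρ g) := by
  rw [detChar, dif_pos hχ]
  have h1 := Classical.choose_spec (Classical.choose_spec hχ)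
  obtain ⟨e⟩ := Cfsg.Agent.H3.CharEquiv.equiv_of_char_eq _ ρ (Classical.choose (Classical.choose_spec hχ)) rfl (h.trans h1.symm)
  exact (det_of_equiv e g).symm

/-- the determinantal character as a homomorphism -/
theorem exists_detHom {χ : G → ℂ} (hχ : IsCharacter G χ) : ∃ f : G →* ℂˣ, ∀ g, detChar χ g = (f g : ℂ) := by
  obtain ⟨n, ρ, hρ⟩ := id hχ
  refine ⟨(LinearMap.det.comp (ρ : G →* _)).toHomUnits, fun g => ?_⟩
  rw [MonoidHom.coe_toHomUnits, MonoidHom.comp_apply, detChar_eq ρ hχ hρ]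

theorem detChar_linear (f : G →* ℂˣ) (g : G) : detChar (fun g => (f g : ℂ)) g = f g := by
  let ρ : Representation ℂ G ℂ :=
    { toFun := fun g => (f g : ℂ) • LinearMap.id, map_one' := by ext; simp,
      map_mul' := fun a b => by ext; simp [mul_comm] }
  have h : ρ.character = fun g => (f g : ℂ) := by
    ext g
    simp [Representation.character, ρ]
  rw [detChar_eq ρ (IsIrr.isCharacter (isIrr_of_hom_units f)) h]
  show LinearMap.det ((f g : ℂ) • (LinearMap.id : ℂ →ₗ[ℂ] ℂ)) = _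
  rw [LinearMap.det_smul, LinearMap.det_id]
  simp

theorem isChar_twist {χ : G → ℂ} (hχ : IsCharacter G χ) (f : G →* ℂˣ) :
    ∃ (n : ℕ) (ρ τ : Representation ℂ G (Fin n → ℂ)), ρ.character = χ ∧ τ.character = (fun g => (f g : ℂ) * χ g) ∧
      ∀ g, τ g = (f g : ℂ) • ρ g := by
  obtain ⟨n, ρ, hρ⟩ := id hχ
  let τ : Representation ℂ G (Fin n → ℂ) :=
    { toFun := fun g => (f g : ℂ) • ρ g
      map_one' := by simp
      map_mul' := fun a b => by
        rw [map_mul, map_mul, Units.val_mul, smul_mul_smul_comm] }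
  refine ⟨n, ρ, τ, hρ, ?_, fun g => rfl⟩
  ext g
  show LinearMap.trace ℂ _ ((f g : ℂ) • ρ g) = _
  rw [map_smul, smul_eq_mul, ← hρ]
  rfl

theorem detChar_mul {χ : G → ℂ} (hχ : IsCharacter G χ) (f : G →* ℂˣ) {d : ℕ} (hd : χ 1 = d) (g : G) :
    detChar (fun g => (f g : ℂ) * χ g) g = (f g : ℂ) ^ d * detChar χ g := by
  obtain ⟨n, ρ, τ, hρ, hτ, h⟩ := isChar_twist hχ f
  have hn : n = d := by
    rw [← hρ, Representation.char_one] at hd
    have : ((n : ℕ) : ℂ) = d := by simpa using hd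
    exact_mod_cast this
  rw [detChar_eq τ ⟨n, τ, hτ⟩ hτ, detChar_eq ρ hχ hρ, h, LinearMap.det_smul]
  simp [hn]

theorem detChar_comp {H : Type*} [Group H] [Finite H] {χ : G → ℂ} (hχ : IsCharacter G χ) (f : H →* G) (h : H) :
    detChar (fun x => χ (f x)) h = detChar χ (f h) := by
  obtain ⟨n, ρ, hρ⟩ := id hχ
  have h1 : Representation.character (ρ.comp f : Representation ℂ H (Fin n → ℂ)) = fun x => χ (f x) := by
    rw [← hρ]; rfl
  rw [detChar_eq (ρ.comp f : Representation ℂ H (Fin n → ℂ)) ⟨n, _, h1⟩ h1, detChar_eq ρ hχ hρ]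
  rfl

theorem detChar_scalar {χ : G → ℂ} (hχ : IsIrrCharacter G χ) {z : G} (hz : z ∈ Subgroup.center G) {d : ℕ} (hd : χ 1 = d) :
    detChar χ z = (χ z / χ 1) ^ d := by
  obtain ⟨n, ρ, hρi, hρ⟩ := id hχ
  have hn : n = d := by
    rw [← hρ, Representation.char_one] at hd
    have : ((n : ℕ) : ℂ) = d := by simpa using hd
    exact_mod_cast this
  obtain ⟨c, hc⟩ := Cfsg.Agent.H3.CharInt.central_scalar ρ hρi hz
  rw [detChar_eq ρ (IsIrr.isCharacter hχ) hρ]
  have h1 : χ z = c * χ 1 := by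
    rw [← hρ, Representation.character, hc, map_smul, smul_eq_mul, LinearMap.trace_id, Representation.char_one]
  have h2 : χ 1 ≠ 0 := Cfsg.Agent.H10.Char.irr_one_ne hχ
  rw [h1, hc, LinearMap.det_smul, LinearMap.det_id, mul_div_assoc, div_self h2]
  simp [hn]

end Cfsg.Agent.H26.Ext2
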