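import Mathlib
import Cfsg.Prelude.Def_CharExt
import Cfsg.Agent.H3_Lift
import Cfsg.Agent.H26_Ext2

/-!
# H26_Ext3: the extension problem on a central cover
-/

set_option autoImplicit false

namespace Cfsg.Agent.H26.Ext3

open Cfsg Cfsg.Agent.H3.CharIrr Cfsg.Agent.H3.CharComplete Cfsg.Agent.H3.CharInd Cfsg.Agent.H3.CharInt
  Cfsg.Agent.H3.Clifford Cfsg.Agent.H3.CharMult Cfsg.Agent.H26.Basic Cfsg.Agent.H26.Ext1 Cfsg.Agent.H26.Ext2
  Cfsg.Agent.H3.Lift Cfsg.Agent.H10.Char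

open scoped ComplexConjugate

section gen

variable {G H : Type*} [Group G] [Finite G] [Group H] [Finite H]

/-- a character with irreducible pullback is irreducible -/
theorem irr_of_comp {χ : G → ℂ} (hχ : IsCharacter G χ) (f : H →* G) (h : IsIrrCharacter H (fun x => χ (f x))) :
    IsIrrCharacter G χ := by
  classical
  haveI := Fintype.ofFinite G
  haveI := Fintype.ofFinite H
  haveI : Fintype (IrrCharacter G) := Fintype.ofFinite _
  have h0 : χ ≠ 0 := by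
    intro h0
    have := irr_one_ne h
    simp [h0] at this
  obtain ⟨ψ, hψ, hc⟩ := exists_constituent hχ h0
  obtain ⟨n, hn, -⟩ := IsChar.eq_sum_nat hχ
  have hn1 := hn ⟨ψ, hψ⟩
  have hn0 : n ⟨ψ, hψ⟩ ≠ 0 := by
    intro h1
    apply hc
    rw [hn1, h1, Nat.cast_zero]
  have hsub : IsCharacter G (χ - ψ) := by
    have := IsChar.sub_constituent (m := 1) hχ hψ hn1 (Nat.one_le_iff_ne_zero.2 hn0)
    simpa using this
  obtain ⟨a, ha⟩ := IsChar.one_eq_nat hχ
  obtain ⟨b, hb0, hb⟩ := IsIrr.one_eq_nat hψ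
  obtain ⟨c, hcn⟩ := IsChar.one_eq_nat hsub
  have habc : a = b + c := by
    have : (a : ℂ) = b + c := by rw [← ha, ← hb, ← hcn, Pi.sub_apply]; ring
    exact_mod_cast this
  have hdec : classInner (fun x : H => ψ (f x)) (fun x => χ (f x)) + classInner (fun x : H => (χ - ψ) (f x)) (fun x => χ (f x)) = 1 := by
    rw [← ci_irr_self h, classInner, classInner, classInner, ← mul_add, ← Finset.sum_add_distrib]
    congr 1
    refine Finset.sum_congr rfl fun x _ => ?_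
    rw [Pi.sub_apply]; ring
  have hχ1 : (fun x : H => χ (f x)) 1 = (a : ℂ) := by simp only [map_one]; exact ha
  by_cases h1 : classInner (fun x : H => ψ (f x)) (fun x => χ (f x)) = 0
  · exfalso
    rw [h1, zero_add] at hdec
    have h2 := IsChar.degree_le' (IsChar.comp hsub f) h (by rw [hdec]; exact one_ne_zero) (a := c) (b := a)
      (by simp only [map_one]; exact hcn) hχ1
    omega
  · have h2 := IsChar.degree_le' (IsChar.comp (IsIrr.isCharacter hψ) f) h h1 (a := b) (b := a)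
      (by simp only [map_one]; exact hb) hχ1
    have h3 : χ = ψ := IsChar.eq_of_degree hχ hψ hc (by rw [ha, hb]; exact_mod_cast (by omega : a = b))
    rw [h3]; exact hψ

end gen

universe u

/-- the data of a central cover on which `ϑ` extends -/
structure LiftD {G Γ : Type u} [Group G] [Group Γ] (N : Subgroup G) (π : Γ →* G) (j : N →* Γ)
    (ϑ' : Γ → ℂ) (ϑ : N → ℂ) : Prop where
  surj : Function.Surjective π
  pj : ∀ n : N, π (j n) = n
  jn : j.range.Normal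
  kc : π.ker ≤ Subgroup.center Γ
  irr : IsIrrCharacter Γ ϑ'
  ext : ∀ n : N, ϑ' (j n) = ϑ n
  irrN : IsIrrCharacter N ϑ

theorem exists_liftD {G : Type u} [Group G] [Finite G] (N : Subgroup G) [hN : N.Normal]
    (ϑ : N → ℂ) (hϑ : IsIrrCharacter N ϑ)
    (hinv : ∀ (g : G) (n : N), ϑ ⟨g * n * g⁻¹, hN.conj_mem (n : G) n.2 g⟩ = ϑ n) :
    ∃ (Γ : Type u) (_ : Group Γ) (_ : Finite Γ) (π : Γ →* G) (j : N →* Γ) (ϑ' : Γ → ℂ), LiftD N π j ϑ' ϑ := by
  obtain ⟨Γ, i1, i2, π, j, ϑ', h1, h2, h3, h4, h5, h6⟩ := exists_lift N ϑ hϑ hinv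
  exact ⟨Γ, i1, i2, π, j, ϑ', ⟨h1, h2, h3, h4, h5, h6, hϑ⟩⟩

section lift

variable {G Γ : Type u} [Group G] [Group Γ] [Finite G] [Finite Γ] {N : Subgroup G} [hN : N.Normal]
  {π : Γ →* G} {j : N →* Γ} {ϑ' : Γ → ℂ} {ϑ : N → ℂ}

/-- the central part of an element of `π⁻¹ N` -/
noncomputable def zp (π : Γ →* G) (j : N →* Γ) (x : N.comap π) : Γ := x * (j ⟨π x, x.2⟩)⁻¹

theorem zp_ker (h : LiftD N π j ϑ' ϑ) (x : N.comap π) : zp π j x ∈ π.ker := by
  rw [MonoidHom.mem_ker, zp, map_mul, map_inv, h.pj, mul_inv_cancel]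

theorem zp_comm (h : LiftD N π j ϑ' ϑ) (x : N.comap π) (g : Γ) : g * zp π j x = zp π j x * g :=
  Subgroup.mem_center_iff.1 (h.kc (zp_ker h x)) g

theorem zp_mul (h : LiftD N π j ϑ' ϑ) (x y : N.comap π) : zp π j (x * y) = zp π j x * zp π j y := by
  have h1 : j ⟨π (x * y : N.comap π), (x * y).2⟩ = j ⟨π x, x.2⟩ * j ⟨π y, y.2⟩ := by
    rw [← map_mul]
    congr 1
    apply Subtype.ext
    simp
  have h2 := zp_comm h y (x : Γ)
  rw [zp] at h2 ⊢
  rw [h1, mul_inv_rev]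
  calc ((x * y : N.comap π) : Γ) * ((j ⟨π y, y.2⟩)⁻¹ * (j ⟨π x, x.2⟩)⁻¹) = x * (y * (j ⟨π y, y.2⟩)⁻¹) * (j ⟨π x, x.2⟩)⁻¹ := by
        simp only [Subgroup.coe_mul]; group
    _ = y * (j ⟨π y, y.2⟩)⁻¹ * x * (j ⟨π x, x.2⟩)⁻¹ := by rw [h2]
    _ = (y * (j ⟨π y, y.2⟩)⁻¹) * (x * (j ⟨π x, x.2⟩)⁻¹) := by group
    _ = zp π j y * zp π j x := rfl
    _ = zp π j x * zp π j y := (zp_comm h x _)

/-- the central character as a homomorphism on `π⁻¹ N` -/
noncomputable def lh (h : LiftD N π j ϑ' ϑ) : N.comap π →* ℂˣ :=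
  MonoidHom.toHomUnits
  { toFun := fun x => ϑ' (zp π j x) / ϑ' 1
    map_one' := by
      have : zp π j (1 : N.comap π) = 1 := by
        have := zp_mul h 1 1
        rw [mul_one] at this
        exact (mul_eq_left.1 this.symm)
      rw [this, div_self (irr_one_ne h.irr)]
    map_mul' := fun x y => by
      rw [zp_mul h]
      obtain ⟨c, -, hc⟩ := IsIrr.central h.irr (h.kc (zp_ker h y))
      have h1 := hc 1
      rw [one_mul] at h1
      rw [hc, h1]
      have := irr_one_ne h.irr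
      field_simp }

theorem lh_apply (h : LiftD N π j ϑ' ϑ) (x : N.comap π) : (lh h x : ℂ) = ϑ' (zp π j x) / ϑ' 1 := by
  rw [lh, MonoidHom.coe_toHomUnits]; rfl

theorem lh_mul (h : LiftD N π j ϑ' ϑ) (x : N.comap π) (g : Γ) : ϑ' (g * zp π j x) = lh h x * ϑ' g := by
  obtain ⟨c, -, hc⟩ := IsIrr.central h.irr (h.kc (zp_ker h x))
  have h1 := hc 1
  rw [one_mul] at h1
  rw [hc, lh_apply, h1]
  have := irr_one_ne h.irr
  field_simp

theorem mem_comap_j (h : LiftD N π j ϑ' ϑ) (n : N) : j n ∈ N.comap π := by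
  rw [Subgroup.mem_comap, h.pj]; exact n.2

theorem zp_j (h : LiftD N π j ϑ' ϑ) (n : N) : zp π j ⟨j n, mem_comap_j h n⟩ = 1 := by
  rw [zp]
  have : (⟨π (j n), mem_comap_j h n⟩ : N) = n := Subtype.ext (h.pj n)
  simp only [this, mul_inv_cancel]

theorem lh_j (h : LiftD N π j ϑ' ϑ) (n : N) : lh h ⟨j n, mem_comap_j h n⟩ = 1 := by
  apply Units.ext
  rw [lh_apply, zp_j h, div_self (irr_one_ne h.irr)]; rfl

theorem mem_comap_k {z : Γ} (hz : z ∈ π.ker) : z ∈ N.comap π := by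
  rw [Subgroup.mem_comap, MonoidHom.mem_ker.1 hz]; exact N.one_mem

theorem zp_k {z : Γ} (hz : z ∈ π.ker) : zp π j ⟨z, mem_comap_k hz⟩ = z := by
  rw [zp]
  have : (⟨π z, mem_comap_k hz⟩ : N) = 1 := Subtype.ext (MonoidHom.mem_ker.1 hz)
  simp only [this, map_one, inv_one, mul_one]

theorem lh_k (h : LiftD N π j ϑ' ϑ) {z : Γ} (hz : z ∈ π.ker) (g : Γ) :
    ϑ' (g * z) = lh h ⟨z, mem_comap_k hz⟩ * ϑ' g := by
  have := lh_mul h ⟨z, mem_comap_k hz⟩ g
  rwa [zp_k hz] at this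

theorem j_conj (h : LiftD N π j ϑ' ϑ) (g : Γ) (n : N) :
    g * j n * g⁻¹ = j ⟨π g * n * (π g)⁻¹, hN.conj_mem _ n.2 _⟩ := by
  obtain ⟨n', hn'⟩ := h.jn.conj_mem (j n) ⟨n, rfl⟩ g
  rw [← hn']
  congr 1
  apply Subtype.ext
  have := congrArg π hn'
  rw [h.pj] at this
  rw [this, map_mul, map_mul, map_inv, h.pj]

theorem zp_conj (h : LiftD N π j ϑ' ϑ) (g : Γ) (x : N.comap π) :
    zp π j ⟨g * x * g⁻¹, (inferInstance : (N.comap π).Normal).conj_mem (x : Γ) x.2 g⟩ = zp π j x := by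
  have h1 : zp π j ⟨g * x * g⁻¹, (inferInstance : (N.comap π).Normal).conj_mem (x : Γ) x.2 g⟩ = g * zp π j x * g⁻¹ := by
    rw [zp, zp]
    have h2 := j_conj h g ⟨π x, x.2⟩
    have h3 : (⟨π (g * x * g⁻¹), (inferInstance : (N.comap π).Normal).conj_mem (x : Γ) x.2 g⟩ : N) =
        ⟨π g * π x * (π g)⁻¹, hN.conj_mem _ x.2 _⟩ := Subtype.ext (by simp)
    simp only [h3]
    rw [← h2]
    group
  rw [h1, zp_comm h x g, mul_inv_cancel_right]

theorem lh_inv (h : LiftD N π j ϑ' ϑ) (g : Γ) (x : N.comap π) :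
    lh h ⟨g * x * g⁻¹, (inferInstance : (N.comap π).Normal).conj_mem (x : Γ) x.2 g⟩ = lh h x := by
  apply Units.ext
  rw [lh_apply, lh_apply, zp_conj h]

/-- if the central character extends then `ϑ` extends -/
theorem ext_of_lh (h : LiftD N π j ϑ' ϑ) (h1 : (1 : ℤ) ∈ ExtExp (N.comap π) (lh h)) :
    ∃ χ : G → ℂ, IsIrrCharacter G χ ∧ ∀ n : N, χ n = ϑ n := by
  haveI := Fintype.ofFinite Γ
  obtain ⟨μ, hμ⟩ := h1
  have hirr : IsIrrCharacter Γ ((fun g => ((μ⁻¹ : Γ →* ℂˣ) g : ℂ)) * ϑ') :=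
    IsIrr.mul_linear h.irr (IsIrr.isCharacter (isIrr_of_hom_units μ⁻¹)) (by simp)
  have hmz : ∀ z (hz : z ∈ π.ker), μ z = lh h ⟨z, mem_comap_k hz⟩ := fun z hz => by
    have := hμ ⟨z, mem_comap_k hz⟩
    rwa [zpow_one] at this
  obtain ⟨χ', hχ', hχ''⟩ := Cfsg.Agent.H3.CharQuot.IsIrr.descend hirr π.ker (by
    intro z hz
    have h2 := lh_k h hz 1
    rw [one_mul] at h2
    show ((μ⁻¹ : Γ →* ℂˣ) z : ℂ) * ϑ' z = ((μ⁻¹ : Γ →* ℂˣ) 1 : ℂ) * ϑ' 1
    rw [h2, MonoidHom.inv_apply, hmz z hz, map_one, Units.val_one, one_mul, ← mul_assoc, Units.inv_mul, one_mul])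
  obtain ⟨e, he⟩ : ∃ e : (Γ ⧸ π.ker) ≃* G, ∀ g : Γ, e (g : Γ ⧸ π.ker) = π g :=
    ⟨QuotientGroup.quotientKerEquivOfSurjective π h.surj, fun g => rfl⟩
  refine ⟨fun g => χ' (e.symm g), (isIrr_comp_iff e.symm).2 hχ', fun n => ?_⟩
  have h2 : e.symm (n : G) = (j n : Γ ⧸ π.ker) := by
    rw [MulEquiv.symm_apply_eq, he, h.pj]
  show χ' (e.symm (n : G)) = _
  rw [h2, hχ'']
  show ((μ⁻¹ : Γ →* ℂˣ) (j n) : ℂ) * ϑ' (j n) = _
  have h3 := hμ ⟨j n, mem_comap_j h n⟩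
  rw [zpow_one, lh_j h] at h3
  have h3' : μ (j n) = 1 := h3
  rw [MonoidHom.inv_apply, h3', inv_one, Units.val_one, one_mul, h.ext]

/-- conversely an extension of `ϑ` to `P` gives an extension of the central character to `π⁻¹ P` -/
theorem lh_of_ext (h : LiftD N π j ϑ' ϑ) {P : Subgroup G} (hNP : N ≤ P) {η : P → ℂ} (hη : IsIrrCharacter P η)
    (hext : ∀ n : N, η ⟨n, hNP n.2⟩ = ϑ n) :
    ∃ ν : P.comap π →* ℂˣ, ∀ x : N.comap π, ν ⟨x, Subgroup.comap_mono hNP x.2⟩ = lh h x := by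
  classical
  haveI := Fintype.ofFinite Γ
  haveI : Fintype (P.comap π) := Fintype.ofFinite _
  -- the two characters
  let πP : P.comap π →* P := (π.comp (P.comap π).subtype).codRestrict P (fun x => x.2)
  have hπP : Function.Surjective πP := by
    intro p
    obtain ⟨x, hx⟩ := h.surj p
    exact ⟨⟨x, by rw [Subgroup.mem_comap, hx]; exact p.2⟩, Subtype.ext hx⟩
  let jP : N →* P.comap π := j.codRestrict (P.comap π) (fun n => by rw [Subgroup.mem_comap, h.pj]; exact hNP n.2)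
  have hψ : IsIrrCharacter (P.comap π) (fun x : P.comap π => ϑ' x) := by
    apply irr_of_comp (IsChar.res (IsIrr.isCharacter h.irr) _) jP
    have : (fun n : N => ϑ' ((jP n : P.comap π) : Γ)) = ϑ := funext fun n => h.ext n
    rw [this]; exact h.irrN
  have hχ : IsIrrCharacter (P.comap π) (fun x => η (πP x)) := IsIrr.comp hη πP hπP
  have hMn : jP.range.Normal := by
    constructor
    rintro _ ⟨n, rfl⟩ g
    refine ⟨⟨π g * n * (π g)⁻¹, hN.conj_mem _ n.2 _⟩, ?_⟩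
    apply Subtype.ext
    exact (j_conj h g n).symm
  haveI : Fintype jP.range := Fintype.ofFinite _
  have hjinj : Function.Injective jP := by
    intro a b hab
    have : π (j a) = π (j b) := congrArg (fun x : P.comap π => π x) hab
    rw [h.pj, h.pj] at this
    exact Subtype.ext this
  obtain ⟨ej, hej⟩ : ∃ ej : N ≃* jP.range, ∀ n, (ej n : P.comap π) = jP n :=
    ⟨MonoidHom.ofInjective hjinj, fun n => rfl⟩
  have hχj : ∀ n : N, (fun x => η (πP x)) (jP n) = ϑ n := by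
    intro n
    have : πP (jP n) = ⟨n, hNP n.2⟩ := Subtype.ext (h.pj n)
    show η (πP (jP n)) = _
    rw [this, hext]
  have hχM : IsIrrCharacter jP.range (fun x : jP.range => (fun x => η (πP x)) (x : P.comap π)) := by
    rw [← isIrr_comp_iff ej]
    have h1 : (fun n : N => (fun x => η (πP x)) (ej n : P.comap π)) = ϑ := by
      funext n; rw [hej]; exact hχj n
    rw [h1]; exact h.irrN
  have h1 : classInner (fun x : jP.range => (fun y : P.comap π => ϑ' y) (x : P.comap π))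
      (fun x : jP.range => (fun x => η (πP x)) (x : P.comap π)) ≠ 0 := by
    have h2 : (fun x : jP.range => (fun y : P.comap π => ϑ' y) (x : P.comap π)) =
        (fun x : jP.range => (fun x => η (πP x)) (x : P.comap π)) := by
      funext x
      obtain ⟨n, rfl⟩ := ej.surjective x
      rw [hej, hχj n]
      exact h.ext n
    rw [h2, ci_irr_self hχM]
    exact one_ne_zero
  obtain ⟨β, hβ, hβk, hprod⟩ := gallagher_exists hMn hχ hχM hψ h1
  have hval : ∀ x : P.comap π, ϑ' x = β x * η (πP x) := fun x => congrFun hprod x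
  have hη1 : η 1 = ϑ' 1 := by
    have h2 := h.ext 1
    rw [map_one] at h2
    rw [h2, ← hext 1]; rfl
  have hβ1 : β 1 = 1 := by
    have h2 := hval 1
    have h3 : (ϑ' ((1 : P.comap π) : Γ)) = ϑ' 1 := rfl
    rw [h3, map_one, hη1] at h2
    exact (mul_eq_right₀ (irr_one_ne h.irr)).1 h2.symm
  obtain ⟨ν, hν⟩ := IsChar.hom_units_of_one (IsIrr.isCharacter hβ) hβ1
  refine ⟨ν, fun x => ?_⟩
  apply Units.ext
  rw [← hν, lh_apply]
  -- split x
  have hzm : zp π j x ∈ P.comap π := by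
    rw [Subgroup.mem_comap, MonoidHom.mem_ker.1 (zp_ker h x)]; exact P.one_mem
  have hx : (⟨x, Subgroup.comap_mono hNP x.2⟩ : P.comap π) = ⟨zp π j x, hzm⟩ * jP ⟨π x, x.2⟩ := by
    apply Subtype.ext
    show (x : Γ) = zp π j x * j ⟨π x, x.2⟩
    rw [zp, inv_mul_cancel_right]
  have h2 : β (⟨zp π j x, hzm⟩ * jP ⟨π x, x.2⟩) = β ⟨zp π j x, hzm⟩ := by
    rw [hν, hν, map_mul]
    have h3 : ν (jP ⟨π x, x.2⟩) = 1 := by
      apply Units.ext
      rw [← hν, Units.val_one]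
      have := hβk (jP ⟨π x, x.2⟩) ⟨_, rfl⟩ 1
      rw [mul_one, hβ1] at this
      exact this
    rw [h3, mul_one]
  rw [hx, h2]
  have h4 := hval ⟨zp π j x, hzm⟩
  have h5 : πP ⟨zp π j x, hzm⟩ = 1 := Subtype.ext (MonoidHom.mem_ker.1 (zp_ker h x))
  rw [h5, hη1] at h4
  rw [eq_div_iff (irr_one_ne h.irr)]
  exact h4.symm

/-- the determinant -/
theorem det_mem (h : LiftD N π j ϑ' ϑ) {d : ℕ} (hd : ϑ 1 = d) (μ : G →* ℂˣ) (hμ : ∀ n : N, (μ n : ℂ) = detChar ϑ n) :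
    (d : ℤ) ∈ ExtExp (N.comap π) (lh h) := by
  obtain ⟨f, hf⟩ := exists_detHom (IsIrr.isCharacter h.irr)
  refine ⟨f * (μ.comp π)⁻¹, fun x => ?_⟩
  apply Units.ext
  have hd' : ϑ' 1 = d := by
    have h2 := h.ext 1
    rw [map_one] at h2
    rw [h2, hd]
  have hx : (x : Γ) = zp π j x * j ⟨π x, x.2⟩ := by rw [zp, inv_mul_cancel_right]
  have h1 : (f (zp π j x) : ℂ) = (lh h x : ℂ) ^ d := by
    rw [← hf, detChar_scalar h.irr (h.kc (zp_ker h x)) hd', lh_apply]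
  have h2 : (f (j ⟨π x, x.2⟩) : ℂ) = (μ (π x) : ℂ) := by
    have h3 : (fun n : N => ϑ' (j n)) = ϑ := funext h.ext
    rw [← hf, ← detChar_comp (IsIrr.isCharacter h.irr) j, h3]
    exact (hμ ⟨π x, x.2⟩).symm
  have h2' : f (j ⟨π x, x.2⟩) = μ (π x) := Units.ext h2
  rw [MonoidHom.mul_apply, MonoidHom.inv_apply, MonoidHom.comp_apply, zpow_natCast, Units.val_pow_eq_pow_val, ← h1]
  congr 1
  rw [hx, map_mul, h2', ← hx, mul_inv_cancel_right]

theorem index_mem (h : LiftD N π j ϑ' ϑ) : (N.index : ℤ) ∈ ExtExp (N.comap π) (lh h) := by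
  have := ext_index (N.comap π) (lh h) (lh_inv h)
  rwa [Subgroup.index_comap_of_surjective _ h.surj] at this

theorem subgroup_mem (h : LiftD N π j ϑ' ϑ) {P : Subgroup G} (hNP : N ≤ P) {η : P → ℂ} (hη : IsIrrCharacter P η)
    (hext : ∀ n : N, η ⟨n, hNP n.2⟩ = ϑ n) : (P.index : ℤ) ∈ ExtExp (N.comap π) (lh h) := by
  obtain ⟨ν, hν⟩ := lh_of_ext h hNP hη hext
  have := ext_of_subgroup (N.comap π) (lh h) (lh_inv h) (P.comap π) (Subgroup.comap_mono hNP) ν 1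
    (fun x => by rw [zpow_one]; exact hν x)
  rwa [one_mul, Subgroup.index_comap_of_surjective _ h.surj] at this

end lift

end Cfsg.Agent.H26.Ext3
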