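import Cfsg.Statements.S0862
import Mathlib
import Cfsg.Agent.H26_Ext3

set_option autoImplicit false
open Cfsg

namespace Cfsg.Agent.S0862

open Cfsg.Agent.H26.Ext0 Cfsg.Agent.H26.Ext1 Cfsg.Agent.H26.Ext2 Cfsg.Agent.H26.Ext3 Cfsg.Agent.H3.CharIrr Cfsg.Agent.H3.CharInd Cfsg.Agent.H3.Clifford Cfsg.Agent.H3.Lift

theorem det_smul_eq {G : Type*} [Group G] [Finite G] {χ : G → ℂ} (hχ : IsCharacter G χ) (f : G →* ℂˣ) {d : ℕ} (hd : χ 1 = d) :
    detChar ((fun g => (f g : ℂ)) * χ) = fun g => (f g : ℂ) ^ d * detChar χ g :=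
  funext fun g => detChar_mul hχ f hd g


/-- Let N be a normal subgroup of the finite group G and ϑ an irreducible character of N of degree d coprime to the index of N, which is the restriction of some irreducible character of G. Let μ be a character of G of degree 1 whose restriction to N is the determinantal character of ϑ. Then there is exactly one irreducible character χ of G restricting to ϑ whose determinantal character is μ. -/
theorem result {G : Type*} [Group G] [Finite G] (N : Subgroup G) [N.Normal] (ϑ : N → ℂ) (hϑ : Cfsg.IsIrrCharacter N ϑ) (d : ℕ) (hd : ϑ 1 = d) (hcop : Nat.Coprime N.index d) (hext : ∃ η : G → ℂ, Cfsg.IsIrrCharacter G η ∧ (∀ n : N, η n = ϑ n)) (μ : G → ℂ) (hμ : Cfsg.IsCharacter G μ ∧ μ 1 = 1) (hμN : ∀ n : N, μ n = Cfsg.detChar ϑ n) : ∃! χ : G → ℂ, Cfsg.IsIrrCharacter G χ ∧ (∀ n : N, χ n = ϑ n) ∧ Cfsg.detChar χ = μ := by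
  classical
  haveI := Fintype.ofFinite G
  haveI : Fintype N := Fintype.ofFinite N
  obtain ⟨η, hη, hηN⟩ := hext
  obtain ⟨fμ, hfμ⟩ := IsChar.hom_units_of_one hμ.1 hμ.2
  have ha0 : N.index ≠ 0 := Subgroup.index_ne_zero_of_finite
  have hη1 : η 1 = d := by rw [← hd, ← hηN 1]; rfl
  have hdet : ∀ χ : G → ℂ, IsIrrCharacter G χ → (∀ n : N, χ n = ϑ n) → ∀ n : N, detChar χ n = detChar ϑ n := by
    intro χ hχ hχN n
    have h1 : (fun n : N => χ (N.subtype n)) = ϑ := funext hχN
    rw [← h1, detChar_comp (IsIrr.isCharacter hχ)]; rfl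
  obtain ⟨fη, hfη⟩ := exists_detHom (IsIrr.isCharacter hη)
  -- the quotient of the determinants
  obtain ⟨κ, hκ⟩ : ∃ κ : G →* ℂˣ, κ = fμ * fη⁻¹ := ⟨_, rfl⟩
  have hκN : ∀ n : N, κ n = 1 := by
    intro n
    rw [hκ, MonoidHom.mul_apply, MonoidHom.inv_apply, mul_inv_eq_one]
    apply Units.ext
    rw [← hfμ, ← hfη, hμN, hdet η hη hηN]
  have hpow : ∀ κ : G →* ℂˣ, (∀ n : N, κ n = 1) → ∀ g, κ g ^ N.index = 1 := by
    intro κ hκ g
    rw [← map_pow]
    exact hκ ⟨g ^ N.index, N.pow_index_mem g⟩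
  obtain ⟨k, hk⟩ := exists_mul_mod ha0 hcop.symm
  have hmod : ∀ g, κ g ^ (d * k) = κ g := by
    intro g
    have h1 : κ g ^ (d * k) = κ g ^ (d * k % N.index) := by
      conv_lhs => rw [← Nat.mod_add_div (d * k) N.index, pow_add, pow_mul, hpow κ hκN, one_pow, mul_one]
    have h2 : κ g = κ g ^ (1 % N.index) := by
      conv_lhs => rw [← pow_one (κ g), ← Nat.mod_add_div 1 N.index, pow_add, pow_mul, hpow κ hκN, one_pow, mul_one]
    rw [h1, hk, ← h2]
  refine ⟨(fun g => ((κ ^ k) g : ℂ)) * η, ⟨?_, ?_, ?_⟩, ?_⟩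
  · exact IsIrr.mul_linear hη (IsIrr.isCharacter (isIrr_of_hom_units _)) (by simp)
  · intro n
    rw [Pi.mul_apply, MonoidHom.pow_apply, hκN, one_pow, Units.val_one, one_mul, hηN]
  · rw [det_smul_eq (IsIrr.isCharacter hη) (κ ^ k) hη1]
    funext g
    rw [MonoidHom.pow_apply, ← Units.val_pow_eq_pow_val, ← pow_mul, mul_comm k d, hmod, hfη, ← Units.val_mul, hκ,
      MonoidHom.mul_apply, MonoidHom.inv_apply, inv_mul_cancel_right, hfμ]
  · rintro χ' ⟨hχ', hχ'N, hχ'd⟩
    have hχirr : IsIrrCharacter G ((fun g => ((κ ^ k) g : ℂ)) * η) :=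
      IsIrr.mul_linear hη (IsIrr.isCharacter (isIrr_of_hom_units _)) (by simp)
    -- compare χ' with η
    have h1 : classInner (fun n : N => χ' n) (fun n : N => η n) ≠ 0 := by
      have h2 : (fun n : N => χ' n) = ϑ := funext hχ'N
      have h3 : (fun n : N => η n) = ϑ := funext hηN
      rw [h2, h3, ci_irr_self hϑ]; exact one_ne_zero
    obtain ⟨β, hβ, hβk, hprod⟩ := gallagher_exists (N := N) inferInstance hη (by
      have h3 : (fun n : N => η n) = ϑ := funext hηN
      rw [h3]; exact hϑ) hχ' h1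
    have hη10 : η 1 ≠ 0 := Cfsg.Agent.H10.Char.irr_one_ne hη
    have hβ1 : β 1 = 1 := by
      have h2 := congrFun hprod 1
      rw [Pi.mul_apply] at h2
      have h3 : χ' 1 = η 1 := by
        have e1 := hχ'N 1; have e2 := hηN 1
        rw [OneMemClass.coe_one] at e1 e2
        rw [e1, e2]
      rw [h3] at h2
      exact (mul_eq_right₀ hη10).1 h2.symm
    obtain ⟨b, hb⟩ := IsChar.hom_units_of_one (IsIrr.isCharacter hβ) hβ1
    have hβb : β = fun g => (b g : ℂ) := funext hb
    have hbN : ∀ n : N, b n = 1 := by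
      intro n
      apply Units.ext
      rw [← hb, Units.val_one]
      have := hβk n n.2 1
      rw [mul_one, hβ1] at this
      exact this
    rw [hprod, hβb, det_smul_eq (IsIrr.isCharacter hη) b hη1] at hχ'd
    -- b^d = κ
    have h4 : ∀ g, b g ^ d = κ g := by
      intro g
      have h5 := congrFun hχ'd g
      change (b g : ℂ) ^ d * detChar η g = μ g at h5
      rw [hfη, hfμ, ← Units.val_pow_eq_pow_val, ← Units.val_mul] at h5
      have h6 := Units.ext h5
      rw [hκ, MonoidHom.mul_apply, MonoidHom.inv_apply, ← h6, mul_inv_cancel_right]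
    rw [hprod]
    congr 1
    rw [hβb]
    funext g
    rw [MonoidHom.pow_apply, ← h4, ← pow_mul]
    have h7 : b g ^ (d * k) = b g ^ (d * k % N.index) := by
      conv_lhs => rw [← Nat.mod_add_div (d * k) N.index, pow_add, pow_mul, hpow b hbN, one_pow, mul_one]
    have h8 : b g = b g ^ (1 % N.index) := by
      conv_lhs => rw [← pow_one (b g), ← Nat.mod_add_div 1 N.index, pow_add, pow_mul, hpow b hbN, one_pow, mul_one]
    rw [h7, hk, ← h8]

end Cfsg.Agent.S0862
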