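import Cfsg.Statements.S0865
import Mathlib
import Cfsg.Agent.H26_Ext3

set_option autoImplicit false
open Cfsg

namespace Cfsg.Agent.S0865

open Cfsg.Agent.H26.Ext0 Cfsg.Agent.H26.Ext1 Cfsg.Agent.H26.Ext2 Cfsg.Agent.H26.Ext3 Cfsg.Agent.H3.CharIrr Cfsg.Agent.H3.CharInd

/-- Let N be a normal subgroup of the finite group G and λ a character of N of degree 1, invariant under conjugation by G, whose order (under pointwise multiplication) is coprime to the index of N. Then there is a character μ of G of degree 1 restricting to λ with the same order as λ, and μ is the only degree-1 character of G restricting to λ whose order is coprime to the index of N. -/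
theorem result {G : Type*} [Group G] [Finite G] (N : Subgroup G) [hN : N.Normal] (lam : N → ℂ) (hlam : Cfsg.IsCharacter N lam ∧ lam 1 = 1) (hinv : ∀ (g : G) (n : N), lam ⟨g * n * g⁻¹, hN.conj_mem (n : G) n.2 g⟩ = lam n) (hcop : Nat.Coprime N.index (orderOf lam)) : ∃ μ : G → ℂ, (Cfsg.IsCharacter G μ ∧ μ 1 = 1 ∧ (∀ n : N, μ n = lam n) ∧ orderOf μ = orderOf lam) ∧ ∀ μ' : G → ℂ, Cfsg.IsCharacter G μ' ∧ μ' 1 = 1 → (∀ n : N, μ' n = lam n) → Nat.Coprime N.index (orderOf μ') → μ' = μ := by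
  haveI : Finite N := inferInstance
  obtain ⟨f, hf⟩ := IsChar.hom_units_of_one hlam.1 hlam.2
  have hfinv : ∀ (g : G) (n : N), f ⟨g * n * g⁻¹, hN.conj_mem (n : G) n.2 g⟩ = f n := fun g n => by
    apply Units.ext; rw [← hf, ← hf, hinv]
  set r := orderOf lam with hrdef
  have hr : ∀ n, f n ^ r = 1 := by
    intro n
    apply Units.ext
    rw [Units.val_pow_eq_pow_val, ← hf, ← Pi.pow_apply, pow_orderOf_eq_one]; rfl
  have hr0 : r ≠ 0 := by
    rw [hrdef]
    intro h0
    rw [orderOf_eq_zero_iff'] at h0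
    apply h0 (Nat.card N) Nat.card_pos
    ext n
    rw [Pi.pow_apply, hf, ← Units.val_pow_eq_pow_val, ← map_pow, pow_card_eq_one', map_one]; rfl
  obtain ⟨μ₀, hμ₀⟩ := one_mem_of_coprime (ext_index N f hfinv) (ext_orderOf hr) hcop
  obtain ⟨k, hk⟩ := exists_mul_mod hr0 hcop
  have hmod : ∀ n : N, f n ^ (N.index * k) = f n := by
    intro n
    have h1 : f n ^ (N.index * k) = f n ^ (N.index * k % r) := by
      conv_lhs => rw [← Nat.mod_add_div (N.index * k) r, pow_add, pow_mul, hr, one_pow, mul_one]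
    have h2 : f n = f n ^ (1 % r) := by
      conv_lhs => rw [← pow_one (f n), ← Nat.mod_add_div 1 r, pow_add, pow_mul, hr, one_pow, mul_one]
    rw [h1, hk, ← h2]
  obtain ⟨μ, hμdef⟩ : ∃ μ : G →* ℂˣ, μ = μ₀ ^ (N.index * k) := ⟨_, rfl⟩
  have hμN : ∀ n : N, μ n = f n := by
    intro n
    rw [hμdef, MonoidHom.pow_apply, hμ₀, zpow_one, hmod]
  have hμr : ∀ g, μ g ^ r = 1 := by
    intro g
    rw [hμdef, MonoidHom.pow_apply, ← pow_mul, mul_assoc, pow_mul, ← map_pow]
    have h1 := hμ₀ ⟨g ^ N.index, N.pow_index_mem g⟩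
    rw [h1, zpow_one, mul_comm k r, pow_mul, hr, one_pow]
  have hord : orderOf (fun g => (μ g : ℂ)) = r := by
    apply Nat.dvd_antisymm
    · apply orderOf_dvd_of_pow_eq_one
      ext g
      rw [Pi.pow_apply, ← Units.val_pow_eq_pow_val, hμr]; rfl
    · rw [hrdef]
      apply orderOf_dvd_of_pow_eq_one
      ext n
      have h1 := congrFun (pow_orderOf_eq_one (fun g => (μ g : ℂ))) (n : G)
      rw [Pi.pow_apply] at h1 ⊢
      rw [hf, ← hμN]
      exact h1
  refine ⟨fun g => (μ g : ℂ), ⟨IsIrr.isCharacter (isIrr_of_hom_units μ), by simp, fun n => by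
    show (μ n : ℂ) = _
    rw [hμN, hf], hord⟩, ?_⟩
  rintro μ' ⟨hμ', hμ'1⟩ hμ'N hcop'
  obtain ⟨f', hf'⟩ := IsChar.hom_units_of_one hμ' hμ'1
  have hf'r : ∀ g, f' g ^ orderOf μ' = 1 := by
    intro g
    apply Units.ext
    rw [Units.val_pow_eq_pow_val, ← hf', ← Pi.pow_apply, pow_orderOf_eq_one]; rfl
  ext g
  rw [hf']
  have h1 : (f' g * (μ g)⁻¹) ^ N.index = 1 := by
    rw [mul_pow, inv_pow, ← map_pow, ← map_pow]
    have h2 := hμN ⟨g ^ N.index, N.pow_index_mem g⟩
    have h3 : f' (g ^ N.index) = f ⟨g ^ N.index, N.pow_index_mem g⟩ := by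
      apply Units.ext
      rw [← hf', ← hf, ← hμ'N]
    rw [h2, h3, mul_inv_cancel]
  have h2 : (f' g * (μ g)⁻¹) ^ (orderOf μ' * r) = 1 := by
    rw [mul_pow, inv_pow, pow_mul, hf'r, one_pow, one_mul, mul_comm, pow_mul, hμr, one_pow, inv_one]
  have h3 : f' g * (μ g)⁻¹ = 1 := by
    have h4 := pow_gcd_eq_one.2 ⟨h1, h2⟩
    rwa [(Nat.Coprime.mul_right hcop' hcop).gcd_eq_one, pow_one] at h4
  rw [mul_inv_eq_one.1 h3]

end Cfsg.Agent.S0865
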