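import Cfsg.Statements.S0867
import Mathlib
import Cfsg.Agent.H26_Ext3
import Cfsg.Agent.S0862
import Cfsg.Agent.S0865
import Cfsg.Agent.S0866

set_option autoImplicit false
open Cfsg

namespace Cfsg.Agent.S0867

open Cfsg.Agent.H26.Ext0 Cfsg.Agent.H26.Ext1 Cfsg.Agent.H26.Ext2 Cfsg.Agent.H26.Ext3 Cfsg.Agent.H3.CharIrr Cfsg.Agent.H3.CharInd Cfsg.Agent.H3.Clifford Cfsg.Agent.H3.Lift

/-- Let N be a normal subgroup of the finite group G and ϑ an irreducible character of N of degree d, invariant under conjugation by G, such that the index of N is coprime to the product of d and the determinantal order of ϑ. Then there is an irreducible character χ of G restricting to ϑ whose determinantal order equals that of ϑ, and χ is the only irreducible character of G restricting to ϑ whose determinantal order is coprime to the index of N. -/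
theorem result {G : Type*} [Group G] [Finite G] (N : Subgroup G) [hN : N.Normal] (ϑ : N → ℂ) (hϑ : Cfsg.IsIrrCharacter N ϑ) (hinv : ∀ (g : G) (n : N), ϑ ⟨g * n * g⁻¹, hN.conj_mem (n : G) n.2 g⟩ = ϑ n) (d : ℕ) (hd : ϑ 1 = d) (hcop : Nat.Coprime N.index (Cfsg.detOrder ϑ * d)) : ∃ χ : G → ℂ, (Cfsg.IsIrrCharacter G χ ∧ (∀ n : N, χ n = ϑ n) ∧ Cfsg.detOrder χ = Cfsg.detOrder ϑ) ∧ ∀ χ' : G → ℂ, Cfsg.IsIrrCharacter G χ' → (∀ n : N, χ' n = ϑ n) → Nat.Coprime N.index (Cfsg.detOrder χ') → χ' = χ := by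
  classical
  obtain ⟨f, hf⟩ := exists_detHom (IsIrr.isCharacter hϑ)
  have hlam : IsCharacter N (detChar ϑ) ∧ detChar ϑ 1 = 1 := by
    have : detChar ϑ = fun n => (f n : ℂ) := funext hf
    rw [this]
    exact ⟨IsIrr.isCharacter (isIrr_of_hom_units f), by simp⟩
  have hdinv : ∀ (g : G) (n : N), detChar ϑ ⟨g * n * g⁻¹, hN.conj_mem (n : G) n.2 g⟩ = detChar ϑ n := by
    intro g n
    let c : N →* N :=
      { toFun := fun n => ⟨g * n * g⁻¹, hN.conj_mem (n : G) n.2 g⟩
        map_one' := Subtype.ext (by simp)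
        map_mul' := fun a b => Subtype.ext (by simp) }
    have h1 := detChar_comp (IsIrr.isCharacter hϑ) c n
    have h2 : (fun x => ϑ (c x)) = ϑ := funext (hinv g)
    rw [h2] at h1
    exact h1.symm
  have hcop1 : Nat.Coprime N.index d := Nat.Coprime.coprime_mul_left_right hcop
  have hcop2 : Nat.Coprime N.index (orderOf (detChar ϑ)) := Nat.Coprime.coprime_mul_right_right hcop
  obtain ⟨μ, ⟨hμ, hμ1, hμN, hμo⟩, hμu⟩ := Cfsg.Agent.S0865.result N (detChar ϑ) hlam hdinv hcop2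
  have hext := (Cfsg.Agent.S0866.result N ϑ hϑ hinv d hd hcop1).2 ⟨μ, hμ, hμ1, hμN⟩
  obtain ⟨χ, ⟨hχ, hχN, hχd⟩, hχu⟩ := Cfsg.Agent.S0862.result N ϑ hϑ d hd hcop1 hext μ ⟨hμ, hμ1⟩ hμN
  refine ⟨χ, ⟨hχ, hχN, ?_⟩, ?_⟩
  · rw [detOrder, detOrder, hχd, hμo]
  · intro χ' hχ' hχ'N hcop'
    apply hχu
    refine ⟨hχ', hχ'N, ?_⟩
    obtain ⟨f', hf'⟩ := exists_detHom (IsIrr.isCharacter hχ')
    have hd' : detChar χ' = fun g => (f' g : ℂ) := funext hf'
    apply hμu
    · rw [hd']; exact ⟨IsIrr.isCharacter (isIrr_of_hom_units f'), by simp⟩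
    · intro n
      have h1 : (fun n : N => χ' (N.subtype n)) = ϑ := funext hχ'N
      rw [← h1, detChar_comp (IsIrr.isCharacter hχ')]; rfl
    · exact hcop'

end Cfsg.Agent.S0867
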