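import Mathlib
import Cfsg.Prelude.Def_Characters
import Cfsg.Prelude.Def_CharExt
import Cfsg.Agent.H3_Lift
import Cfsg.Agent.H3_Clifford2
import Cfsg.Agent.H3_CharInt
import Cfsg.Agent.S0867

/-!
# Characters above a normal Hall subgroup
-/

set_option autoImplicit false

open scoped ComplexConjugate

namespace Cfsg.Agent.H3.GK

open Cfsg Cfsg.Agent.H3.CharBasic Cfsg.Agent.H3.CharIrr Cfsg.Agent.H3.CharInt
  Cfsg.Agent.H3.CharComplete Cfsg.Agent.H3.CharInd Cfsg.Agent.H3.Clifford Cfsg.Agent.H3.Lift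
  Cfsg.Agent.H26.Ext2

theorem detOrder_dvd {N : Type*} [Group N] [Finite N] {θ : N → ℂ} (hθ : IsCharacter N θ) :
    detOrder θ ∣ Nat.card N := by
  obtain ⟨f, hf⟩ := exists_detHom hθ
  apply orderOf_dvd_of_pow_eq_one
  ext n
  rw [Pi.pow_apply, hf, ← Units.val_pow_eq_pow_val, ← map_pow, pow_card_eq_one']
  simp

theorem degree_dvd_card {N : Type*} [Group N] [Finite N] {θ : N → ℂ} (hθ : IsIrrCharacter N θ) {d : ℕ} (hd : θ 1 = d) :
    d ∣ Nat.card N := by
  obtain ⟨n, hn0, hn, hdvd⟩ := IsIrr.dvd_card hθ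
  rw [hn] at hd
  have : n = d := by exact_mod_cast hd
  rwa [← this]

/-- the canonical extension -/
theorem canon {G : Type*} [Group G] [Finite G] (N : Subgroup G) [hN : N.Normal] (hcop : (Nat.card N).Coprime N.index)
    {θ : N → ℂ} (hθ : IsIrrCharacter N θ)
    (hinv : ∀ (g : G) (n : N), θ ⟨g * n * g⁻¹, hN.conj_mem (n : G) n.2 g⟩ = θ n) :
    ∃ χ : G → ℂ, (IsIrrCharacter G χ ∧ (∀ n : N, χ n = θ n) ∧ detOrder χ = detOrder θ) ∧
      ∀ χ' : G → ℂ, IsIrrCharacter G χ' → (∀ n : N, χ' n = θ n) → Nat.Coprime N.index (detOrder χ') → χ' = χ := by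
  obtain ⟨d, hd⟩ := IsChar.one_eq_nat (IsIrr.isCharacter hθ)
  refine Cfsg.Agent.S0867.result N θ hθ hinv d hd ?_
  apply Nat.Coprime.mul_right
  · exact (Nat.Coprime.coprime_dvd_left (detOrder_dvd (IsIrr.isCharacter hθ)) hcop).symm
  · exact (Nat.Coprime.coprime_dvd_left (degree_dvd_card hθ hd) hcop).symm

theorem inKer_hom {G : Type*} [Group G] {N : Subgroup G} [hN : N.Normal] (f : G ⧸ N →* ℂˣ) :
    InKer N (fun g : G => (f (QuotientGroup.mk g) : ℂ)) := by
  intro n hn g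
  have h1 : (QuotientGroup.mk (n * g) : G ⧸ N) = QuotientGroup.mk g := by
    rw [QuotientGroup.mk_mul, (QuotientGroup.eq_one_iff n).mpr hn, one_mul]
  simp only [h1]

/-- Characters of degree prime to the index above a normal Hall subgroup. -/
theorem count {G : Type*} [Group G] [Fintype G] (N : Subgroup G) [hN : N.Normal] (hcop : (Nat.card N).Coprime N.index) :
    Nat.card {χ : IrrCharacter G // (charDegree (χ : G → ℂ)).Coprime N.index} =
      Nat.card {θ : IrrCharacter N // ∀ (g : G) (n : N), (θ : N → ℂ) ⟨g * n * g⁻¹, hN.conj_mem (n : G) n.2 g⟩ = (θ : N → ℂ) n} *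
        Nat.card ((G ⧸ N) →* ℂˣ) := by
  classical
  have : Fintype N := Fintype.ofFinite _
  rw [← Nat.card_prod]
  symm
  have hext : ∀ θ : {θ : IrrCharacter N // ∀ (g : G) (n : N), (θ : N → ℂ) ⟨g * n * g⁻¹, hN.conj_mem (n : G) n.2 g⟩ = (θ : N → ℂ) n},
      ∃ χ : G → ℂ, IsIrrCharacter G χ ∧ ∀ n : N, χ n = (θ.1 : N → ℂ) n := by
    intro θ
    obtain ⟨χ, ⟨h1, h2, -⟩, -⟩ := canon N hcop θ.1.2 θ.2
    exact ⟨χ, h1, h2⟩
  choose E hE hEN using hext
  have hEN' : ∀ θ, (fun n : N => E θ n) = (θ.1 : N → ℂ) := fun θ => funext (hEN θ)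
  have hirr : ∀ θ (f : (G ⧸ N) →* ℂˣ), IsIrrCharacter G ((fun g : G => (f (QuotientGroup.mk g) : ℂ)) * E θ) := by
    intro θ f
    apply gallagher_irr hN (hE θ) (by rw [hEN' θ]; exact θ.1.2)
      (isIrr_of_hom_units (f.comp (QuotientGroup.mk' N))) (inKer_hom f)
  refine Nat.card_eq_of_bijective (fun x => ⟨⟨(fun g : G => (x.2 (QuotientGroup.mk g) : ℂ)) * E x.1, hirr x.1 x.2⟩, ?_⟩) ⟨?_, ?_⟩
  · obtain ⟨d, hd⟩ := IsChar.one_eq_nat (IsIrr.isCharacter x.1.1.2)
    have h1 : ((fun g : G => (x.2 (QuotientGroup.mk g) : ℂ)) * E x.1) 1 = d := by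
      rw [Pi.mul_apply]
      have h2 : (x.2 (QuotientGroup.mk (1 : G)) : ℂ) = 1 := by
        rw [QuotientGroup.mk_one, map_one, Units.val_one]
      have h3 : E x.1 1 = d := by rw [← hd, ← hEN x.1 1]; rfl
      rw [h2, h3, one_mul]
    show (charDegree ((fun g : G => (x.2 (QuotientGroup.mk g) : ℂ)) * E x.1)).Coprime N.index
    have h2 : charDegree ((fun g : G => (x.2 (QuotientGroup.mk g) : ℂ)) * E x.1) = d := by
      rw [charDegree, h1]; simp
    rw [h2]
    exact Nat.Coprime.coprime_dvd_left (degree_dvd_card x.1.1.2 hd) hcop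
  · rintro ⟨θ, f⟩ ⟨θ', f'⟩ h
    have h1 : (fun g : G => (f (QuotientGroup.mk g) : ℂ)) * E θ = (fun g : G => (f' (QuotientGroup.mk g) : ℂ)) * E θ' :=
      congrArg (fun z : {χ : IrrCharacter G // (charDegree (χ : G → ℂ)).Coprime N.index} => ((z.1 : IrrCharacter G) : G → ℂ)) h
    have hf1 : ∀ (f : (G ⧸ N) →* ℂˣ) (n : N), (f (QuotientGroup.mk (n : G)) : ℂ) = 1 := by
      intro f n
      rw [(QuotientGroup.eq_one_iff (n : G)).mpr n.2, map_one, Units.val_one]
    have hθ : θ = θ' := by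
      apply Subtype.ext
      apply Subtype.ext
      ext n
      have h2 := congrFun h1 (n : G)
      simp only [Pi.mul_apply, hf1, one_mul, hEN] at h2
      exact h2
    subst hθ
    have h2 : (fun g : G => (f (QuotientGroup.mk g) : ℂ)) = fun g : G => (f' (QuotientGroup.mk g) : ℂ) := by
      by_contra hne
      have h3 := gallagher_inner hN (hE θ) (by rw [hEN' θ]; exact θ.1.2) (inKer_hom f) (inKer_hom f')
      rw [h1] at h3
      rw [ci_irr_self (hirr θ f')] at h3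
      have h4 := ci_irr_ne (isIrr_of_hom_units (f.comp (QuotientGroup.mk' N))) (isIrr_of_hom_units (f'.comp (QuotientGroup.mk' N))) hne
      exact one_ne_zero (h3.trans h4)
    congr 1
    apply MonoidHom.ext
    intro q
    obtain ⟨g, rfl⟩ := QuotientGroup.mk_surjective q
    exact Units.ext (congrFun h2 g)
  · rintro ⟨χ, hχc⟩
    obtain ⟨ϑ, hϑ, hc⟩ := exists_constituent (IsChar.res (IsIrr.isCharacter χ.2) N) (by
      intro h
      exact IsIrr.one_ne_zero χ.2 (congrFun h 1))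
    obtain ⟨b, hb, hbi⟩ := degree_dvd N χ.2 hϑ hc
    obtain ⟨d, hd0, hd⟩ := IsIrr.one_eq_nat χ.2
    obtain ⟨d', hd0', hd'⟩ := IsIrr.one_eq_nat hϑ
    have hdb : d = b * d' := by rw [hd, hd'] at hb; exact_mod_cast hb
    have hχc' : d.Coprime N.index := by
      have h2 : charDegree (χ : G → ℂ) = d := by rw [charDegree, hd]; simp
      rwa [h2] at hχc
    have hb1 : b = 1 := Nat.dvd_one.mp (by
      rw [← hχc']
      exact Nat.dvd_gcd (by rw [hdb]; exact dvd_mul_right _ _) hbi)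
    rw [hb1, one_mul] at hdb
    have hres : (fun n : N => (χ : G → ℂ) n) = ϑ := by
      have h3 := clifford_degree hN χ.2 hϑ hc
      obtain ⟨m, hm⟩ := ci_char_nat (IsChar.res (IsIrr.isCharacter χ.2) N) (IsIrr.isCharacter hϑ)
      rw [hm, hd, hd', hdb] at h3
      have h4 : m * (inertia hN ϑ).index = 1 := by
        have h5 : (d' : ℂ) * 1 = d' * (m * (inertia hN ϑ).index : ℕ) := by
          push_cast; rw [mul_one]; rw [mul_comm (d' : ℂ)]; exact h3
        have h6 := mul_left_cancel₀ (by exact_mod_cast hd0'.ne' : (d' : ℂ) ≠ 0) h5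
        exact_mod_cast h6.symm
      have h5 : m = 1 := Nat.dvd_one.mp (Dvd.intro _ h4)
      have h6 : (inertia hN ϑ).index = 1 := by rw [h5, one_mul] at h4; exact h4
      have h7 := clifford_invariant hN χ.2 hϑ hc (fun g => by
        have : g ∈ inertia hN ϑ := by rw [Subgroup.index_eq_one.mp h6]; trivial
        exact this)
      rw [h7, hm, h5]; simp
    have hinv : ∀ (g : G) (n : N), ϑ ⟨g * n * g⁻¹, hN.conj_mem (n : G) n.2 g⟩ = ϑ n := by
      intro g n
      rw [← hres]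
      show (χ : G → ℂ) (g * n * g⁻¹) = (χ : G → ℂ) n
      exact IsChar.isClass (IsIrr.isCharacter χ.2) (n : G) g
    obtain ⟨θ, hθ⟩ : ∃ θ : {θ : IrrCharacter N // ∀ (g : G) (n : N), (θ : N → ℂ) ⟨g * n * g⁻¹, hN.conj_mem (n : G) n.2 g⟩ = (θ : N → ℂ) n},
      (θ.1 : N → ℂ) = ϑ := ⟨⟨⟨ϑ, hϑ⟩, hinv⟩, rfl⟩
    obtain ⟨β, hβ, hβk, hprod⟩ := gallagher_exists hN (hE θ) (by rw [hEN' θ]; exact θ.1.2) χ.2 (by
      rw [hEN' θ, hθ, hres, ci_irr_self hϑ]; exact one_ne_zero)
    have hβ1 : β 1 = 1 := by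
      have h1 := congrFun hprod 1
      have h2 : E θ 1 = (χ : G → ℂ) 1 := by
        have h3 := hEN θ 1
        rw [hθ, ← hres] at h3
        exact h3
      rw [Pi.mul_apply, h2] at h1
      exact (mul_right_cancel₀ (IsIrr.one_ne_zero χ.2) (by rw [one_mul]; exact h1)).symm
    obtain ⟨f, hf⟩ := IsChar.hom_units_of_one (IsIrr.isCharacter hβ) hβ1
    have hfN : N ≤ f.ker := by
      intro n hn
      rw [MonoidHom.mem_ker]
      apply Units.ext
      have h1 := hβk n hn 1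
      rw [mul_one, hβ1] at h1
      rw [Units.val_one, ← h1, hf]
    refine ⟨(θ, QuotientGroup.lift N f hfN), ?_⟩
    apply Subtype.ext
    apply Subtype.ext
    show (fun g : G => (QuotientGroup.lift N f hfN (QuotientGroup.mk g) : ℂ)) * E θ = (χ : G → ℂ)
    rw [hprod]
    congr 1
    funext g
    rw [QuotientGroup.lift_mk, hf]

end Cfsg.Agent.H3.GK
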