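import Mathlib
import Cfsg.Agent.H25_Orbit

/-!
# The Glauberman correspondence for `p`-groups acting on `p'`-groups
-/

set_option autoImplicit false
set_option linter.unusedSectionVars false

open scoped ComplexConjugate

namespace Cfsg.Agent.H25.GlaubCore

open Cfsg Cfsg.Agent.H10.BlockLoc Cfsg.Agent.H10.BlockAlg Cfsg.Agent.H10.BlockIdem
  Cfsg.Agent.H3.CharIrr Cfsg.Agent.H3.CharComplete Cfsg.Agent.H3.CharInd Cfsg.Agent.H25.Orbit
  Cfsg.Agent.H3.CharInt

variable {C G P : Type*} [Group C] [Fintype C] [Group G] [Fintype G] [Group P]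
  [MulDistribMulAction P G]

variable (G P) in
/-- The action on irreducible characters. -/
@[reducible] def irrAct : MulAction P (IrrCharacter G) where
  smul s χ := ⟨fun g => (χ : G → ℂ) (s⁻¹ • g),
    (isIrr_comp_iff (MulDistribMulAction.toMulEquiv G s⁻¹)).mpr χ.2⟩
  one_smul χ := Subtype.ext (funext fun g => by
    show (χ : G → ℂ) ((1 : P)⁻¹ • g) = _
    rw [inv_one, one_smul])
  mul_smul s t χ := Subtype.ext (funext fun g => by
    show (χ : G → ℂ) ((s * t)⁻¹ • g) = (χ : G → ℂ) (t⁻¹ • s⁻¹ • g)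
    rw [mul_inv_rev, mul_smul])

variable (P) in
/-- Invariant functions. -/
def Inv (χ : G → ℂ) : Prop := ∀ (s : P) (g : G), χ (s • g) = χ g

theorem inv_iff (χ : IrrCharacter G) :
    Inv P (χ : G → ℂ) ↔ ∀ s : P, (irrAct G P).toSMul.smul s χ = χ := by
  constructor
  · intro h s
    exact Subtype.ext (funext fun g => h s⁻¹ g)
  · intro h s g
    have := congrFun (congrArg Subtype.val (h s⁻¹)) g
    show (χ : G → ℂ) (s • g) = (χ : G → ℂ) g
    have h2 : (χ : G → ℂ) ((s⁻¹)⁻¹ • g) = (χ : G → ℂ) g := this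
    rwa [inv_inv] at h2

variable (i : C →* G)

theorem exists_mlt (χ : IrrCharacter G) (β : IrrCharacter C) :
    ∃ n : ℕ, classInner (fun c : C => (χ : G → ℂ) (i c)) (β : C → ℂ) = n :=
  ci_char_nat (IsChar.comp (IsIrr.isCharacter χ.2) i) (IsIrr.isCharacter β.2)

/-- multiplicity of `β` in the restriction of `χ` -/
noncomputable def mlt (χ : IrrCharacter G) (β : IrrCharacter C) : ℕ := (exists_mlt i χ β).choose

theorem mlt_spec (χ : IrrCharacter G) (β : IrrCharacter C) :
    classInner (fun c : C => (χ : G → ℂ) (i c)) (β : C → ℂ) = mlt i χ β :=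
  (exists_mlt i χ β).choose_spec

theorem mlt_eq {χ : IrrCharacter G} {β : IrrCharacter C} {m : ℕ}
    (h : classInner (fun c : C => (χ : G → ℂ) (i c)) (β : C → ℂ) = m) : mlt i χ β = m := by
  have := (mlt_spec i χ β).symm.trans h
  exact_mod_cast this

theorem mlt_spec' (χ : IrrCharacter G) (β : IrrCharacter C) :
    classInner (β : C → ℂ) (fun c : C => (χ : G → ℂ) (i c)) = mlt i χ β := by
  rw [← ci_conj_symm, mlt_spec]; simp

theorem blockCoeff_singleton (χ : IrrCharacter G) (g : G) :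
    blockCoeff {χ} g = (Nat.card G : ℂ)⁻¹ * ((χ : G → ℂ) 1 * conj ((χ : G → ℂ) g)) := by
  rw [blockCoeff]
  congr 1
  rw [finsum_mem_singleton]

/-- the central character value of the truncated idempotent -/
noncomputable def w (χ : IrrCharacter G) (β : IrrCharacter C) : ℂ := om β (br i (eB {χ}))

theorem w_eq (χ : IrrCharacter G) (β : IrrCharacter C) :
    w i χ β = ((χ : G → ℂ) 1 * (Nat.card C : ℂ)) / ((β : C → ℂ) 1 * (Nat.card G : ℂ)) * mlt i χ β := by
  rw [w, om_apply, lin_apply, ← mlt_spec', classInner]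
  have h1 : (β : C → ℂ) 1 ≠ 0 := IsIrr.one_ne_zero β.2
  have h2 : (Nat.card G : ℂ) ≠ 0 := by exact_mod_cast Nat.card_pos.ne'
  have h3 : (Nat.card C : ℂ) ≠ 0 := by exact_mod_cast Nat.card_pos.ne'
  have h4 : ∑ c : C, (br i (eB {χ}) : MonoidAlgebra ℂ C).coeff c * (β : C → ℂ) c =
      (Nat.card G : ℂ)⁻¹ * (χ : G → ℂ) 1 *
        ∑ c : C, (β : C → ℂ) c * conj ((χ : G → ℂ) (i c)) := by
    rw [Finset.mul_sum]
    refine Finset.sum_congr rfl fun c _ => ?_
    rw [br_coeff, eB_coeff, blockCoeff_singleton]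
    ring
  rw [h4]
  field_simp

section main

variable {M : Ideal AlgInt} {p : ℕ} [hp : Fact p.Prime]

theorem card_C_dvd {i : C →* G} (hi : Function.Injective i) : Nat.card C ∣ Nat.card G :=
  Subgroup.card_dvd_of_injective i hi

theorem w_iff {i : C →* G} (hM : IsPModular p M) (hi : Function.Injective i)
    (hpG : ¬ p ∣ Nat.card G) (χ : IrrCharacter G) (β : IrrCharacter C) :
    MemLocalIdeal M (w i χ β) ↔ p ∣ mlt i χ β := by
  have := isMaximal_of hM
  rw [w_eq]
  obtain ⟨n, hn0, hn, hnd⟩ := IsIrr.dvd_card χ.2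
  obtain ⟨k, hk0, hk, hkd⟩ := IsIrr.dvd_card β.2
  have hC := card_C_dvd hi
  have hnp : ¬ p ∣ n * Nat.card C := by
    rw [hp.out.dvd_mul]
    rintro (h | h)
    · exact hpG (h.trans hnd)
    · exact hpG (h.trans hC)
  have hkp : ¬ p ∣ k * Nat.card G := by
    rw [hp.out.dvd_mul]
    rintro (h | h)
    · exact hpG ((h.trans hkd).trans hC)
    · exact hpG h
  rw [hn, hk, ← ideal_natCast_iff hM (mlt i χ β)]
  have e1 : ((n : ℂ) * (Nat.card C : ℂ)) = ((n * Nat.card C : ℕ) : ℂ) := by push_cast; ring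
  have e2 : ((k : ℂ) * (Nat.card G : ℂ)) = ((k * Nat.card G : ℕ) : ℂ) := by push_cast; ring
  rw [e1, e2]
  have hn' : ((n * Nat.card C : ℕ) : ℂ) ≠ 0 := by
    have : n * Nat.card C ≠ 0 := Nat.mul_ne_zero hn0.ne' Nat.card_pos.ne'
    exact_mod_cast this
  have hk' : ((k * Nat.card G : ℕ) : ℂ) ≠ 0 := by
    have : k * Nat.card G ≠ 0 := Nat.mul_ne_zero hk0.ne' Nat.card_pos.ne'
    exact_mod_cast this
  constructor
  · intro h
    have h2 : MemLocalRing M (((k * Nat.card G : ℕ) : ℂ) * ((n * Nat.card C : ℕ) : ℂ)⁻¹) :=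
      ring_mul (ring_natCast _) (ring_inv_natCast hM hnp)
    have h3 := ideal_mul_left h2 h
    convert h3 using 1
    field_simp
  · intro h
    rw [div_eq_mul_inv]
    exact ideal_mul_left (ring_mul (ring_natCast _) (ring_inv_natCast hM hkp)) h

theorem eB_single_mem (hM : IsPModular p M) (hpG : ¬ p ∣ Nat.card G) (B : Set (IrrCharacter G)) (g : G) :
    MemLocalRing M ((eB B : MonoidAlgebra ℂ G).coeff g) := by
  classical
  have := isMaximal_of hM
  have : Fintype (IrrCharacter G) := Fintype.ofFinite _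
  rw [eB_coeff, blockCoeff_eq_sum]
  refine ring_mul (ring_inv_natCast hM hpG) (ring_sum _ _ fun χ _ => ?_)
  split_ifs
  · refine memLocalRing_of_integral (isMaximal_of hM).ne_top ?_
    refine IsIntegral.mul (IsChar.isIntegral (IsIrr.isCharacter χ.2) _) ?_
    exact Brauer.isIntegral_conj (IsChar.isIntegral (IsIrr.isCharacter χ.2) _)
  · exact ring_zero

theorem w_mem {i : C →* G} (hM : IsPModular p M) (hpG : ¬ p ∣ Nat.card G)
    (χ : IrrCharacter G) (β : IrrCharacter C) : MemLocalRing M (w i χ β) := by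
  have := isMaximal_of hM
  exact om_mem β (fun c => eB_single_mem hM hpG {χ} (i c))

theorem sum_w [Fintype (IrrCharacter G)] {i : C →* G} (hi : Function.Injective i) (β : IrrCharacter C) :
    ∑ χ : IrrCharacter G, w i χ β = 1 := by
  classical
  simp only [w]
  rw [← map_sum, ← map_sum]
  have : ∑ χ : IrrCharacter G, eB {χ} = (1 : ZC G) := by
    apply om_injective
    intro ψ
    rw [map_sum, map_one]
    simp only [om_eB, Set.mem_singleton_iff]
    simp
  rw [this, br_one hi, map_one]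

section action

variable {i : C →* G} (hM : IsPModular p M) (hP : IsPGroup p P) (hi : Function.Injective i)
    (hC : ∀ g, (∃ c, i c = g) ↔ ∀ s : P, s • g = g) (hpG : ¬ p ∣ Nat.card G)

include hC in
theorem act_C (s : P) (c : C) : s • i c = i c := (hC (i c)).mp ⟨c, rfl⟩ s

include hC in
theorem w_act (χ : IrrCharacter G) (β : IrrCharacter C) (s : P) :
    w i ((irrAct G P).toSMul.smul s χ) β = w i χ β := by
  have : br i (eB {(irrAct G P).toSMul.smul s χ}) = br i (eB {χ}) := by
    apply Subtype.ext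
    apply ext_coeff
    intro c
    rw [br_coeff, br_coeff, eB_coeff, eB_coeff, blockCoeff_singleton, blockCoeff_singleton]
    have e1 : ((irrAct G P).toSMul.smul s χ : G → ℂ) 1 = (χ : G → ℂ) 1 := by
      show (χ : G → ℂ) (s⁻¹ • 1) = _
      rw [smul_one]
    have e2 : ((irrAct G P).toSMul.smul s χ : G → ℂ) (i c) = (χ : G → ℂ) (i c) := by
      show (χ : G → ℂ) (s⁻¹ • i c) = _
      rw [act_C hC]
    rw [e1, e2]
  rw [w, this, w]

include hM hP hi hC hpG in
theorem sum_w_inv [Fintype (IrrCharacter G)] [DecidablePred fun χ : IrrCharacter G => Inv P (χ : G → ℂ)]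
    (f : IrrCharacter G → ℂ) (hf : ∀ χ, MemLocalRing M (f χ))
    (hf2 : ∀ (s : P) χ, f ((irrAct G P).toSMul.smul s χ) = f χ) (β : IrrCharacter C) :
    MemLocalIdeal M (∑ χ : IrrCharacter G, f χ * w i χ β -
      ∑ χ ∈ Finset.univ.filter (fun χ : IrrCharacter G => Inv P (χ : G → ℂ)), f χ * w i χ β) := by
  classical
  let act := irrAct G P
  have := isMaximal_of hM
  have h := sum_fixed_ideal (P := P) (X := IrrCharacter G) hM hP (fun χ => f χ * w i χ β)
    (fun s χ => by
      have e1 := w_act (i := i) hC χ β s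
      have e2 := hf2 s χ
      show f (s • χ) * w i (s • χ) β = _
      exact congrArg₂ (· * ·) e2 e1) (fun χ => ring_mul (hf χ) (w_mem hM hpG χ β))
  convert h using 2
  refine Finset.sum_congr ?_ fun _ _ => rfl
  ext χ
  simp only [Finset.mem_filter, Finset.mem_univ, true_and]
  exact inv_iff χ

include hM hP hi hC hpG in
/-- every `β` belongs to some invariant `χ` -/
theorem exists_inv (β : IrrCharacter C) :
    ∃ χ : IrrCharacter G, Inv P (χ : G → ℂ) ∧ ¬ p ∣ mlt i χ β := by
  classical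
  have := isMaximal_of hM
  have : Fintype (IrrCharacter G) := Fintype.ofFinite _
  by_contra hcon
  push Not at hcon
  have h := sum_w_inv (M := M) hM hP hi hC hpG (fun _ => 1) (fun _ => ring_one) (fun _ _ => rfl) β
  simp only [one_mul] at h
  rw [sum_w hi] at h
  have h2 : MemLocalIdeal M (∑ χ ∈ Finset.univ.filter (fun χ : IrrCharacter G => Inv P (χ : G → ℂ)),
      w i χ β) := by
    refine ideal_sum _ _ fun χ hχ => ?_
    rw [w_iff hM hi hpG]
    exact hcon χ (Finset.mem_filter.mp hχ).2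
  have h3 := ideal_add h h2
  rw [sub_add_cancel] at h3
  exact one_notMem_ideal h3

theorem blockCoeff_inv {χ : IrrCharacter G} (hχ : Inv P (χ : G → ℂ)) (s : P) (g : G) :
    (eB {χ} : MonoidAlgebra ℂ G).coeff (s • g) = (eB {χ} : MonoidAlgebra ℂ G).coeff g := by
  rw [eB_coeff, eB_coeff, blockCoeff_singleton, blockCoeff_singleton, hχ s g]

include hM hP hi hC hpG in
/-- every `β` belongs to at most one invariant `χ` -/
theorem inv_unique (β : IrrCharacter C) {χ χ' : IrrCharacter G} (h : Inv P (χ : G → ℂ))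
    (h' : Inv P (χ' : G → ℂ)) (h1 : ¬ p ∣ mlt i χ β) (h2 : ¬ p ∣ mlt i χ' β) : χ = χ' := by
  have := isMaximal_of hM
  by_contra hne
  have h3 := br_mul (i := i) hM hP hi hC (eB_single_mem hM hpG {χ}) (eB_single_mem hM hpG {χ'})
    (blockCoeff_inv h) (blockCoeff_inv h') β
  rw [eB_mul_eB, Set.singleton_inter_eq_empty.mpr (by simpa using hne), eB_empty, map_zero, map_zero,
    zero_sub] at h3
  have h4 := ideal_neg h3
  rw [neg_neg] at h4
  rcases ideal_of_mul (w_mem hM hpG χ β) (w_mem hM hpG χ' β) h4 with h5 | h5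
  · exact h1 ((w_iff hM hi hpG _ _).mp h5)
  · exact h2 ((w_iff hM hi hpG _ _).mp h5)

include hM hP hi hC hpG in
/-- for invariant `χ` with `p ∤ mlt`, `w ≡ 1` -/
theorem w_one (β : IrrCharacter C) {χ : IrrCharacter G} (h : Inv P (χ : G → ℂ))
    (h1 : ¬ p ∣ mlt i χ β) : MemLocalIdeal M (w i χ β - 1) := by
  have := isMaximal_of hM
  have h3 := br_mul (i := i) hM hP hi hC (eB_single_mem hM hpG {χ}) (eB_single_mem hM hpG {χ})
    (blockCoeff_inv h) (blockCoeff_inv h) β
  rw [eB_mul_self] at h3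
  have h4 : MemLocalIdeal M (w i χ β * (w i χ β - 1)) := by
    have := ideal_neg h3
    convert this using 1
    simp only [w]; ring
  rcases ideal_of_mul (w_mem hM hpG χ β) (ring_sub (w_mem hM hpG χ β) ring_one) h4 with h5 | h5
  · exact absurd ((w_iff hM hi hpG _ _).mp h5) h1
  · exact h5

include hM hP hi hC in
theorem card_mod : MemLocalIdeal M ((Nat.card G : ℂ) - Nat.card C) := by
  have := isMaximal_of hM
  have h := sum_C (i := i) hM hP hi hC (fun _ => 1) (fun _ _ => rfl) (fun _ => ring_one)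
  simpa using h

include hM hP hi hC in
/-- norms are preserved modulo `p` -/
theorem norm_mod [Fintype (IrrCharacter C)] {χ : IrrCharacter G} (h : Inv P (χ : G → ℂ)) :
    MemLocalIdeal M ((Nat.card G : ℂ) - Nat.card C * ∑ β : IrrCharacter C, (mlt i χ β : ℂ) ^ 2) := by
  have := isMaximal_of hM
  have h1 := sum_C (i := i) hM hP hi hC (fun g => (χ : G → ℂ) g * conj ((χ : G → ℂ) g))
    (fun s g => by rw [h s g]) (fun g => memLocalRing_of_integral (isMaximal_of hM).ne_top
      (IsIntegral.mul (IsChar.isIntegral (IsIrr.isCharacter χ.2) _)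
      (Brauer.isIntegral_conj (IsChar.isIntegral (IsIrr.isCharacter χ.2) _))))
  have e1 : ∑ g : G, (χ : G → ℂ) g * conj ((χ : G → ℂ) g) = (Nat.card G : ℂ) := by
    have := ci_irr_self χ.2
    rw [classInner] at this
    have h0 : (Nat.card G : ℂ) ≠ 0 := by exact_mod_cast Nat.card_pos.ne'
    field_simp at this
    exact this
  have e2 : ∑ c : C, (χ : G → ℂ) (i c) * conj ((χ : G → ℂ) (i c)) =
      Nat.card C * ∑ β : IrrCharacter C, (mlt i χ β : ℂ) ^ 2 := by
    have h2 := ci_eq_sum (fun c : C => (χ : G → ℂ) (i c)) (fun c : C => (χ : G → ℂ) (i c))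
      (IsClass.comp (IsIrr.isClass χ.2) i)
    have h0 : (Nat.card C : ℂ) ≠ 0 := by exact_mod_cast Nat.card_pos.ne'
    have h3 : ∑ β : IrrCharacter C, (mlt i χ β : ℂ) ^ 2 =
        classInner (fun c : C => (χ : G → ℂ) (i c)) (fun c : C => (χ : G → ℂ) (i c)) := by
      rw [h2]
      refine Finset.sum_congr rfl fun β _ => ?_
      rw [mlt_spec]; simp [sq]
    rw [h3, classInner, mul_inv_cancel_left₀ h0]
  rw [e1, e2] at h1
  exact h1

include hM hP hi hC hpG in
/-- every invariant `χ` has some `β` -/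
theorem exists_beta {χ : IrrCharacter G} (h : Inv P (χ : G → ℂ)) :
    ∃ β : IrrCharacter C, ¬ p ∣ mlt i χ β := by
  classical
  have := isMaximal_of hM
  have : Fintype (IrrCharacter C) := Fintype.ofFinite _
  by_contra hcon
  push Not at hcon
  have h1 := norm_mod hM hP hi hC h
  have h2 : MemLocalIdeal M ((Nat.card C : ℂ) * ∑ β : IrrCharacter C, (mlt i χ β : ℂ) ^ 2) := by
    refine ideal_mul_left (ring_natCast _) (ideal_sum _ _ fun β _ => ?_)
    rw [sq]
    exact ideal_mul_right ((ideal_natCast_iff hM _).mpr (hcon β)) (ring_natCast _)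
  have h3 := ideal_add h1 h2
  rw [sub_add_cancel, ideal_natCast_iff hM] at h3
  exact hpG h3


include hP hi hC hpG in
/-- extension of central elements -/
theorem exists_ext (hM : IsPModular p M) (z : ZC C) (hz : ∀ c, MemLocalRing M ((z : MonoidAlgebra ℂ C).coeff c)) :
    ∃ Z : ZC G, br i Z = z ∧ (∀ g, MemLocalRing M ((Z : MonoidAlgebra ℂ G).coeff g)) ∧
      ∀ (s : P) g, (Z : MonoidAlgebra ℂ G).coeff (s • g) = (Z : MonoidAlgebra ℂ G).coeff g := by
  classical
  have := isMaximal_of hM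
  let F : G → ℂ := fun g => if h : ∃ c, IsConj (i c) g then
    (z : MonoidAlgebra ℂ C).coeff h.choose else 0
  have hF : ∀ (g : G) (c : C), IsConj (i c) g → F g = (z : MonoidAlgebra ℂ C).coeff c := by
    intro g c hc
    have hex : ∃ c, IsConj (i c) g := ⟨c, hc⟩
    simp only [F]
    rw [dif_pos hex]
    apply center_class
    exact conj_of_conj hP hi hC hpG (hex.choose_spec.trans hc.symm)
  have hF0 : ∀ g : G, (¬ ∃ c, IsConj (i c) g) → F g = 0 := fun g hg => dif_neg hg
  have hconj : ∀ g g' : G, (∀ c, IsConj (i c) g → IsConj (i c) g') →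
      (∀ c, IsConj (i c) g' → IsConj (i c) g) → F g = F g' := by
    intro g g' h1 h2
    by_cases hex : ∃ c, IsConj (i c) g
    · obtain ⟨c, hc⟩ := hex
      rw [hF g c hc, hF g' c (h1 c hc)]
    · rw [hF0 g hex, hF0 g' (by rintro ⟨c, hc⟩; exact hex ⟨c, h2 c hc⟩)]
  refine ⟨⟨ofFun F, ?_⟩, ?_, ?_, ?_⟩
  · rw [mem_center_iff]
    intro g x
    simp only [coeff_ofFun]
    have hgx : IsConj g (x * g * x⁻¹) := isConj_iff.mpr ⟨x, rfl⟩
    exact hconj _ _ (fun c hc => hc.trans hgx.symm) (fun c hc => hc.trans hgx)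
  · apply Subtype.ext
    apply ext_coeff
    intro c
    rw [br_coeff]
    exact hF _ c (IsConj.refl _)
  · intro g
    show MemLocalRing M (F g)
    by_cases hex : ∃ c, IsConj (i c) g
    · obtain ⟨c, hc⟩ := hex
      rw [hF g c hc]; exact hz c
    · rw [hF0 g hex]; exact ring_zero
  · intro s g
    show F (s • g) = F g
    have hs : ∀ (t : P) (g : G) (c : C), IsConj (i c) g → IsConj (i c) (t • g) := by
      intro t g c hc
      obtain ⟨x, hx⟩ := isConj_iff.mp hc
      refine isConj_iff.mpr ⟨t • x, ?_⟩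
      rw [← hx, smul_mul', smul_mul', smul_inv', act_C hC]
    refine hconj _ _ (fun c hc => ?_) (fun c hc => hs s g c hc)
    have := hs s⁻¹ _ c hc
    rwa [inv_smul_smul] at this

theorem expand_om [Fintype (IrrCharacter G)] (Z : ZC G) :
    Z = ∑ χ : IrrCharacter G, om χ Z • eB {χ} := by
  classical
  apply om_injective
  intro ψ
  rw [map_sum]
  simp only [map_smul, om_eB, Set.mem_singleton_iff, smul_eq_mul, mul_ite, mul_one, mul_zero]
  rw [Finset.sum_ite_eq]
  simp

theorem om_act (χ : IrrCharacter G) (Z : ZC G)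
    (hZ : ∀ (s : P) g, (Z : MonoidAlgebra ℂ G).coeff (s • g) = (Z : MonoidAlgebra ℂ G).coeff g) (s : P) :
    om ((irrAct G P).toSMul.smul s χ) Z = om χ Z := by
  rw [om_apply, om_apply, lin_apply, lin_apply]
  have e1 : ((irrAct G P).toSMul.smul s χ : G → ℂ) 1 = (χ : G → ℂ) 1 := by
    show (χ : G → ℂ) (s⁻¹ • 1) = _
    rw [smul_one]
  rw [e1]
  congr 1
  have e2 : ∀ g, ((irrAct G P).toSMul.smul s χ : G → ℂ) g = (χ : G → ℂ) (s⁻¹ • g) := fun g => rfl
  simp only [e2]
  rw [← Equiv.sum_comp (MulAction.toPerm s : Equiv.Perm G)]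
  refine Finset.sum_congr rfl fun g _ => ?_
  rw [MulAction.toPerm_apply, hZ, inv_smul_smul]

include hM hP hi hC hpG in
/-- each invariant `χ` belongs to at most one `β` -/
theorem beta_unique {χ : IrrCharacter G} (h : Inv P (χ : G → ℂ)) {β β' : IrrCharacter C}
    (h1 : ¬ p ∣ mlt i χ β) (h2 : ¬ p ∣ mlt i χ β') : β = β' := by
  classical
  have := isMaximal_of hM
  have : Fintype (IrrCharacter G) := Fintype.ofFinite _
  have hpC : ¬ p ∣ Nat.card C := fun h => hpG (h.trans (card_C_dvd hi))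
  by_contra hne
  obtain ⟨Z, hZ1, hZ2, hZ3⟩ := exists_ext hP hi hC hpG hM (eB {β}) (eB_single_mem hM hpC {β})
  have key : ∀ β₀ : IrrCharacter C, ¬ p ∣ mlt i χ β₀ → MemLocalIdeal M (om β₀ (eB {β}) - om χ Z) := by
    intro β₀ hβ₀
    have e1 : om β₀ (eB {β}) = ∑ ψ : IrrCharacter G, om ψ Z * w i ψ β₀ := by
      rw [← hZ1]
      conv_lhs => rw [expand_om Z]
      rw [map_sum, map_sum]
      refine Finset.sum_congr rfl fun ψ _ => ?_
      rw [map_smul, map_smul, smul_eq_mul, w]
    have h3 := sum_w_inv (M := M) hM hP hi hC hpG (fun ψ => om ψ Z) (fun ψ => om_mem ψ hZ2)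
      (fun s ψ => om_act ψ Z hZ3 s) β₀
    rw [← e1] at h3
    have h4 : MemLocalIdeal M (∑ ψ ∈ Finset.univ.filter (fun ψ : IrrCharacter G => Inv P (ψ : G → ℂ)),
        om ψ Z * w i ψ β₀ - om χ Z * w i χ β₀) := by
      have hmem : χ ∈ Finset.univ.filter (fun ψ : IrrCharacter G => Inv P (ψ : G → ℂ)) :=
        Finset.mem_filter.mpr ⟨Finset.mem_univ _, h⟩
      rw [← Finset.sum_erase_eq_sub hmem]
      refine ideal_sum _ _ fun ψ hψ => ?_
      refine ideal_mul_left (om_mem ψ hZ2) ?_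
      rw [w_iff hM hi hpG]
      by_contra hnd
      have hψ' := Finset.mem_erase.mp hψ
      exact hψ'.1 (inv_unique hM hP hi hC hpG β₀ (Finset.mem_filter.mp hψ'.2).2 h hnd hβ₀)
    have h5 : MemLocalIdeal M (om χ Z * (w i χ β₀ - 1)) :=
      ideal_mul_left (om_mem χ hZ2) (w_one hM hP hi hC hpG β₀ h hβ₀)
    have h6 := ideal_add (ideal_add h3 h4) h5
    convert h6 using 1
    ring
  have k1 := key β h1
  have k2 := key β' h2
  rw [om_eB, if_pos (Set.mem_singleton _)] at k1
  rw [om_eB, if_neg (by simpa using fun h => hne h.symm)] at k2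
  have k3 := ideal_sub k1 k2
  apply one_notMem_ideal (M := M)
  convert k3 using 1
  ring

include hM hP hi hC hpG in
/-- the multiplicity is `±1` modulo `p` -/
theorem mlt_pm_one {χ : IrrCharacter G} (h : Inv P (χ : G → ℂ)) {β : IrrCharacter C}
    (h1 : ¬ p ∣ mlt i χ β) :
    ((mlt i χ β : ℕ) : ℤ) ≡ 1 [ZMOD p] ∨ ((mlt i χ β : ℕ) : ℤ) ≡ -1 [ZMOD p] := by
  classical
  have := isMaximal_of hM
  have : Fintype (IrrCharacter C) := Fintype.ofFinite _
  have k1 := norm_mod hM hP hi hC h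
  have k2 := card_mod (M := M) hM hP hi hC
  have k3 : MemLocalIdeal M ((Nat.card C : ℂ) * (∑ β : IrrCharacter C, (mlt i χ β : ℂ) ^ 2 -
      (mlt i χ β : ℂ) ^ 2)) := by
    refine ideal_mul_left (ring_natCast _) ?_
    rw [← Finset.sum_erase_eq_sub (Finset.mem_univ _)]
    refine ideal_sum _ _ fun ψ hψ => ?_
    rw [sq]
    refine ideal_mul_right ((ideal_natCast_iff hM _).mpr ?_) (ring_natCast _)
    by_contra hnd
    exact (Finset.mem_erase.mp hψ).1 (beta_unique hM hP hi hC hpG h hnd h1)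
  have hpC : ¬ p ∣ Nat.card C := fun h => hpG (h.trans (card_C_dvd hi))
  have k4 : MemLocalIdeal M (((Nat.card C * (mlt i χ β ^ 2 - 1) : ℤ) : ℂ)) := by
    have := ideal_sub (ideal_sub k2 k1) k3
    convert this using 1
    push_cast
    ring
  rw [ideal_intCast_iff hM] at k4
  have hp' : Prime (p : ℤ) := Nat.prime_iff_prime_int.mp hp.out
  rcases hp'.dvd_or_dvd k4 with h5 | h5
  · exact absurd (by exact_mod_cast h5) hpC
  · have h6 : ((mlt i χ β : ℤ) ^ 2 - 1) = ((mlt i χ β : ℤ) - 1) * ((mlt i χ β : ℤ) + 1) := by ring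
    rw [h6] at h5
    rcases hp'.dvd_or_dvd h5 with h7 | h7
    · left
      exact (Int.modEq_iff_dvd.mpr h7).symm
    · right
      apply Int.ModEq.symm
      apply Int.modEq_iff_dvd.mpr
      simpa [sub_neg_eq_add] using h7

end action

end main

end Cfsg.Agent.H25.GlaubCore
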