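import Mathlib
import Cfsg.Agent.H25_GlaubCore

/-!
# The Glauberman correspondence, ambient form
-/

set_option autoImplicit false
set_option linter.unusedSectionVars false

open scoped ComplexConjugate

namespace Cfsg.Agent.H25.Glaub

open Cfsg Cfsg.Agent.H10.BlockLoc Cfsg.Agent.H10.BlockAlg Cfsg.Agent.H10.BlockIdem
  Cfsg.Agent.H3.CharIrr Cfsg.Agent.H3.CharComplete Cfsg.Agent.H3.CharInd Cfsg.Agent.H25.Orbit
  Cfsg.Agent.H3.CharInt Cfsg.Agent.H25.GlaubCore

section bij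

variable {C G : Type*} [Group C] [Fintype C] [Group G] [Fintype G]

theorem mlt_bij {i : C →* G} (hi : Function.Bijective i) (χ : IrrCharacter G) (β : IrrCharacter C)
    [Decidable ((fun c : C => (χ : G → ℂ) (i c)) = (β : C → ℂ))] :
    mlt i χ β = if (fun c : C => (χ : G → ℂ) (i c)) = (β : C → ℂ) then 1 else 0 := by
  apply mlt_eq
  split_ifs with h
  · rw [h]; simpa using ci_irr_self β.2
  · simpa using ci_irr_ne (IsIrr.comp χ.2 i hi.2) β.2 h

theorem mlt_bij_dvd {p : ℕ} (hp : p.Prime) {i : C →* G} (hi : Function.Bijective i)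
    (χ : IrrCharacter G) (β : IrrCharacter C) :
    ¬ p ∣ mlt i χ β ↔ (fun c : C => (χ : G → ℂ) (i c)) = (β : C → ℂ) := by
  classical
  rw [mlt_bij hi]
  split_ifs with h
  · simp [h, hp.ne_one]
  · simp [h]

theorem exists_of_bij {i : C →* G} (hi : Function.Bijective i) (β : IrrCharacter C) :
    ∃ χ : IrrCharacter G, (fun c : C => (χ : G → ℂ) (i c)) = (β : C → ℂ) := by
  let e := MulEquiv.ofBijective i hi
  refine ⟨⟨fun g => (β : C → ℂ) (e.symm g), IsIrr.comp β.2 e.symm.toMonoidHom e.symm.surjective⟩, ?_⟩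
  ext c
  exact congrArg (β : C → ℂ) (e.symm_apply_apply c)

end bij

variable {Γ : Type*} [Group Γ]

/-- The conjugation action of a subgroup normalizing `G`. -/
@[reducible] def conjAct (G S : Subgroup Γ) (hn : ∀ s ∈ S, ∀ g ∈ G, s * g * s⁻¹ ∈ G) :
    MulDistribMulAction S G where
  smul s g := ⟨(s : Γ) * g * (s : Γ)⁻¹, hn s s.2 g g.2⟩
  one_smul g := Subtype.ext (by show (1 : Γ) * (g : Γ) * (1 : Γ)⁻¹ = g; simp)
  mul_smul s t g := Subtype.ext (by
    show ((s * t : S) : Γ) * (g : Γ) * ((s * t : S) : Γ)⁻¹ = (s : Γ) * ((t : Γ) * g * (t : Γ)⁻¹) * (s : Γ)⁻¹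
    push_cast; group)
  smul_one s := Subtype.ext (by show (s : Γ) * 1 * (s : Γ)⁻¹ = 1; simp)
  smul_mul s g h := Subtype.ext (by
    show (s : Γ) * ((g * h : G) : Γ) * (s : Γ)⁻¹ = ((s : Γ) * g * (s : Γ)⁻¹) * ((s : Γ) * h * (s : Γ)⁻¹)
    push_cast; group)

/-- Invariance of a function on `G` under conjugation by `S`. -/
def TInv {G : Subgroup Γ} (S : Subgroup Γ) (χ : G → ℂ) : Prop :=
  ∀ s ∈ S, ∀ g g' : G, (g' : Γ) = s * g * s⁻¹ → χ g' = χ g

theorem tinv_iff {G S : Subgroup Γ} (hn : ∀ s ∈ S, ∀ g ∈ G, s * g * s⁻¹ ∈ G) (χ : G → ℂ) :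
    TInv S χ ↔ @Inv G S _ _ (conjAct G S hn) χ := by
  constructor
  · intro h s g
    exact h s s.2 g _ rfl
  · intro h s hs g g' hg
    have := h ⟨s, hs⟩ g
    rw [← this]
    congr 1
    exact Subtype.ext hg

theorem fix_iff {G S C : Subgroup Γ} (hn : ∀ s ∈ S, ∀ g ∈ G, s * g * s⁻¹ ∈ G)
    (hC : C = G ⊓ Subgroup.centralizer (S : Set Γ)) (hCG : C ≤ G) (g : G) :
    (∃ c, Subgroup.inclusion hCG c = g) ↔ ∀ s : S, (conjAct G S hn).toSMul.smul s g = g := by
  constructor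
  · rintro ⟨c, rfl⟩ s
    apply Subtype.ext
    show (s : Γ) * (c : Γ) * (s : Γ)⁻¹ = c
    have hc : (c : Γ) ∈ G ⊓ Subgroup.centralizer (S : Set Γ) := by rw [← hC]; exact c.2
    have := Subgroup.mem_centralizer_iff.mp hc.2 s s.2
    rw [this, mul_inv_cancel_right]
  · intro h
    have hg : (g : Γ) ∈ C := by
      rw [hC]
      refine ⟨g.2, Subgroup.mem_centralizer_iff.mpr ?_⟩
      intro s hs
      have h1 := congrArg Subtype.val (h ⟨s, hs⟩)
      have h2 : s * (g : Γ) * s⁻¹ = g := h1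
      exact mul_inv_eq_iff_eq_mul.mp h2
    exact ⟨⟨g, hg⟩, Subtype.ext rfl⟩

section pcore

variable [Fintype Γ] {G S C : Subgroup Γ} [Fintype G] [Fintype C] {p : ℕ}

/-- The Glauberman correspondence for `p`-groups. -/
theorem pcore (hn : ∀ s ∈ S, ∀ g ∈ G, s * g * s⁻¹ ∈ G) (hp : p.Prime) (hS : IsPGroup p S)
    (hcop : (Nat.card G).Coprime (Nat.card S)) (hC : C = G ⊓ Subgroup.centralizer (S : Set Γ))
    (hCG : C ≤ G) :
    (∀ β : IrrCharacter C, ∃ χ : IrrCharacter G, TInv S (χ : G → ℂ) ∧ ¬ p ∣ mlt (Subgroup.inclusion hCG) χ β) ∧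
    (∀ (β : IrrCharacter C) (χ χ' : IrrCharacter G), TInv S (χ : G → ℂ) → TInv S (χ' : G → ℂ) →
      ¬ p ∣ mlt (Subgroup.inclusion hCG) χ β → ¬ p ∣ mlt (Subgroup.inclusion hCG) χ' β → χ = χ') ∧
    (∀ χ : IrrCharacter G, TInv S (χ : G → ℂ) → ∃ β : IrrCharacter C,
      ¬ p ∣ mlt (Subgroup.inclusion hCG) χ β) ∧
    (∀ χ : IrrCharacter G, TInv S (χ : G → ℂ) → ∀ β β' : IrrCharacter C,
      ¬ p ∣ mlt (Subgroup.inclusion hCG) χ β → ¬ p ∣ mlt (Subgroup.inclusion hCG) χ β' → β = β') ∧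
    (∀ χ : IrrCharacter G, TInv S (χ : G → ℂ) → ∀ β : IrrCharacter C,
      ¬ p ∣ mlt (Subgroup.inclusion hCG) χ β →
      ((mlt (Subgroup.inclusion hCG) χ β : ℤ) ≡ 1 [ZMOD p] ∨
        (mlt (Subgroup.inclusion hCG) χ β : ℤ) ≡ -1 [ZMOD p])) := by
  classical
  have : Fact p.Prime := ⟨hp⟩
  have hi : Function.Injective (Subgroup.inclusion hCG) := Subgroup.inclusion_injective hCG
  by_cases hSb : S = ⊥
  · have hGC : G ≤ C := by
      rw [hC, hSb]
      intro g hg
      refine ⟨hg, Subgroup.mem_centralizer_iff.mpr ?_⟩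
      intro s hs
      have : s = 1 := by simpa using hs
      rw [this, one_mul, mul_one]
    have hb : Function.Bijective (Subgroup.inclusion hCG) := by
      refine ⟨hi, fun g => ⟨⟨g, hGC g.2⟩, Subtype.ext rfl⟩⟩
    have hinv : ∀ χ : IrrCharacter G, TInv S (χ : G → ℂ) := by
      intro χ s hs g g' hg
      rw [hSb, Subgroup.mem_bot] at hs
      subst hs
      have : g' = g := Subtype.ext (by rw [hg]; simp)
      rw [this]
    simp only [mlt_bij_dvd hp hb]
    refine ⟨fun β => ?_, ?_, ?_, ?_, ?_⟩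
    · obtain ⟨χ, hχ⟩ := exists_of_bij hb β
      exact ⟨χ, hinv χ, hχ⟩
    · intro β χ χ' _ _ h h'
      have h2 := h.trans h'.symm
      apply Subtype.ext
      ext g
      obtain ⟨c, rfl⟩ := hb.2 g
      exact congrFun h2 c
    · intro χ _
      exact ⟨⟨_, IsIrr.comp χ.2 _ hb.2⟩, rfl⟩
    · intro χ _ β β' h h'
      exact Subtype.ext (h.symm.trans h')
    · intro χ _ β h
      left
      rw [mlt_bij hb, if_pos h]
      exact Int.ModEq.refl _
  · have hpG : ¬ p ∣ Nat.card G := by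
      intro hdvd
      obtain ⟨n, hn⟩ := IsPGroup.iff_card.mp hS
      rcases Nat.eq_zero_or_pos n with h0 | h0
      · rw [h0, pow_zero] at hn
        exact hSb (Subgroup.card_eq_one.mp hn)
      · have : p ∣ Nat.card S := by rw [hn]; exact dvd_pow_self p h0.ne'
        have := Nat.dvd_gcd hdvd this
        rw [hcop] at this
        exact hp.one_lt.ne' (Nat.dvd_one.mp this)
    obtain ⟨M, hM⟩ := exists_modular hp
    let _ := conjAct G S hn
    have hC' := fix_iff hn hC hCG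
    simp only [tinv_iff hn]
    refine ⟨fun β => ?_, ?_, ?_, ?_, ?_⟩
    · exact exists_inv hM hS hi hC' hpG β
    · intro β χ χ' h h' h1 h2
      exact inv_unique hM hS hi hC' hpG β h h' h1 h2
    · intro χ h
      exact exists_beta hM hS hi hC' hpG h
    · intro χ h β β' h1 h2
      exact beta_unique hM hS hi hC' hpG h h1 h2
    · intro χ h β h1
      exact mlt_pm_one hM hS hi hC' hpG h h1

end pcore

end Cfsg.Agent.H25.Glaub
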