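import Mathlib
import Cfsg.Agent.H1_Deg
import Cfsg.Agent.H3_BF3
import Cfsg.Agent.H3_GK
import Cfsg.Agent.H2_Basic
import Cfsg.Agent.H1_Nilp
import Cfsg.Agent.S4444

set_option autoImplicit false

open scoped ComplexConjugate

/-! Characters of degree prime to `p`, kernels (H10). -/

namespace Cfsg.Agent.H10.PpDeg

open Cfsg Cfsg.Agent Cfsg.Agent.H3.CharBasic Cfsg.Agent.H3.CharIrr Cfsg.Agent.H3.CharInt Cfsg.Agent.H3.CharCalc
  Cfsg.Agent.H3.CharComplete Cfsg.Agent.H3.CharInd Cfsg.Agent.H3.CharMult Cfsg.Agent.H3.CharQuot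
  Cfsg.Agent.H3.Clifford Cfsg.Agent.H1.Deg Cfsg.Agent.H1.Basic

theorem exists_ndvd {A : Type*} [Group A] [Fintype A] {p : ℕ} {ψ : A → ℂ} (hψ : IsCharacter A ψ)
    (hp : ¬ p ∣ charDegree ψ) :
    ∃ χ : A → ℂ, IsIrrCharacter A χ ∧ classInner ψ χ ≠ 0 ∧ ¬ p ∣ charDegree χ := by
  classical
  haveI : Fintype (IrrCharacter A) := Fintype.ofFinite _
  obtain ⟨n, hn, hs⟩ := IsChar.eq_sum_nat hψ
  by_contra hcon
  push Not at hcon
  apply hp
  have h1 : charDegree ψ = ∑ χ : IrrCharacter A, n χ * charDegree (χ : A → ℂ) := by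
    have h2 := congrFun hs 1
    rw [← coe_deg hψ, Finset.sum_apply] at h2
    have h3 : (charDegree ψ : ℂ) = ((∑ χ : IrrCharacter A, n χ * charDegree (χ : A → ℂ) : ℕ) : ℂ) := by
      rw [h2]; push_cast
      refine Finset.sum_congr rfl fun χ _ => ?_
      rw [Pi.smul_apply, smul_eq_mul, coe_deg (IsIrr.isCharacter χ.2)]
    exact_mod_cast h3
  rw [h1]
  apply Finset.dvd_sum
  intro χ _
  by_cases h0 : n χ = 0
  · rw [h0, zero_mul]; exact dvd_zero _
  · exact (hcon χ χ.2 (by rw [hn]; exact_mod_cast h0)).mul_left _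

theorem res_trans {G : Type*} [Group G] {X H : Subgroup G} [Fintype X] [Fintype H] (hXH : X ≤ H) {χ : G → ℂ}
    (hχ : IsCharacter G χ) {ψ : H → ℂ} (hψ : IsIrrCharacter H ψ)
    (h1 : classInner (fun h : H => χ h) ψ ≠ 0) {θ : X → ℂ} (hθ : IsIrrCharacter X θ)
    (h2 : classInner (fun x : X => ψ ⟨x, hXH x.2⟩) θ ≠ 0) : classInner (fun x : X => χ x) θ ≠ 0 := by
  have e1 := Cfsg.Agent.H3.BF.constituent_sub (IsChar.res hχ H) hψ h1
  have e2 := IsChar.comp e1 (Subgroup.inclusion hXH)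
  have e3 := IsChar.comp (IsIrr.isCharacter hψ) (Subgroup.inclusion hXH)
  obtain ⟨a, ha⟩ := ci_char_nat e2 (IsIrr.isCharacter hθ)
  obtain ⟨b, hb⟩ := ci_char_nat e3 (IsIrr.isCharacter hθ)
  have hb0 : b ≠ 0 := by
    rintro rfl
    apply h2
    rw [Nat.cast_zero] at hb
    exact hb
  have e4 : (fun x : X => χ x) = (fun x : X => ((fun h : H => χ h) - ψ) (Subgroup.inclusion hXH x)) +
      (fun x : X => ψ (Subgroup.inclusion hXH x)) := by
    funext x
    simp only [Pi.add_apply, Pi.sub_apply, Subgroup.coe_inclusion]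
    ring
  rw [e4, ci_add_left, ha, hb]
  have : ((a : ℂ) + (b : ℂ)) = ((a + b : ℕ) : ℂ) := by push_cast; rfl
  rw [this]
  exact_mod_cast (by omega : a + b ≠ 0)

section

variable {G : Type*} [Group G] [Fintype G] {p : ℕ} [hp : Fact p.Prime]

/-- an invariant constituent -/
theorem inv_const (P : Sylow p G) (N : Subgroup G) [hN : N.Normal] [Fintype N] {χ : G → ℂ} (hχ : IsIrrCharacter G χ)
    (hd : ¬ p ∣ charDegree χ) : ∃ θ : N → ℂ, IsIrrCharacter N θ ∧ classInner (fun n : N => χ n) θ ≠ 0 ∧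
      ∀ g ∈ (P : Subgroup G), cj hN g θ = θ := by
  obtain ⟨θ₀, hθ₀, h0⟩ := exists_constituent_res (H := N) hχ
  have h1 := clifford_degree hN hχ hθ₀ h0
  obtain ⟨m, hm⟩ := ci_char_nat (IsChar.res (IsIrr.isCharacter hχ) N) (IsIrr.isCharacter hθ₀)
  set T := inertia hN θ₀ with hT
  have h2 : charDegree χ = m * T.index * charDegree θ₀ := by
    apply deg_eq
    rw [h1, hm, Nat.cast_mul, Nat.cast_mul, coe_deg (IsIrr.isCharacter hθ₀)]
  have h3 : ¬ p ∣ T.index := fun h => hd (by rw [h2]; exact (h.mul_left m).mul_right _)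
  have h4 : ¬ p ∣ Nat.card (G ⧸ T) := h3
  obtain ⟨q, hq⟩ := P.2.nonempty_fixed_point_of_prime_not_dvd_card (G ⧸ T) h4
  obtain ⟨g, rfl⟩ := QuotientGroup.mk_surjective q
  refine ⟨cj hN g⁻¹ θ₀, (cj_isIrr hN _).mpr hθ₀, ?_, ?_⟩
  · rw [cj_ci_res hN (IsIrr.isClass hχ)]; exact h0
  · intro x hx
    have h5 := hq ⟨x, hx⟩
    have h6 : (QuotientGroup.mk (x * g) : G ⧸ T) = QuotientGroup.mk g := h5
    rw [eq_comm, QuotientGroup.eq] at h6
    have h7 : cj hN (g⁻¹ * (x * g)) θ₀ = θ₀ := (mem_inertia hN θ₀ _).1 h6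
    calc cj hN x (cj hN g⁻¹ θ₀) = cj hN (g⁻¹ * x) θ₀ := cj_cj hN _ _ _
      _ = cj hN (g⁻¹ * (x * g) * g⁻¹) θ₀ := by congr 1; group
      _ = cj hN g⁻¹ (cj hN (g⁻¹ * (x * g)) θ₀) := (cj_cj hN _ _ _).symm
      _ = cj hN g⁻¹ θ₀ := by rw [h7]

/-- conversion of invariance -/
theorem inv_conv (P : Sylow p G) (N : Subgroup G) [hN : N.Normal] {θ : N → ℂ} :
    (∀ g ∈ (P : Subgroup G), cj hN g θ = θ) ↔
    (∀ s ∈ (P : Subgroup G), ∀ g g' : N, (g' : G) = s * g * s⁻¹ → θ g' = θ g) := by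
  constructor
  · intro h s hs g g' e
    have h1 := congrFun (h s hs) g
    rw [← h1]
    show θ g' = θ ⟨s * g * s⁻¹, _⟩
    congr 1
    exact Subtype.ext e
  · intro h s hs
    funext n
    exact h s hs n ⟨s * n * s⁻¹, hN.conj_mem n n.2 s⟩ rfl

theorem not_dvd_of_cent (P : Sylow p G) (N : Subgroup G) [hN : N.Normal]
    (h : N ⊓ Subgroup.centralizer ((P : Subgroup G) : Set G) = ⊥) : ¬ p ∣ Nat.card N := by
  classical
  letI : MulAction (P : Subgroup G) N :=
    MulAction.compHom N ((MulAut.conjNormal (H := N)).comp (P : Subgroup G).subtype)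
  have h1 := P.2.card_modEq_card_fixedPoints N
  have h2 : Nat.card (MulAction.fixedPoints (P : Subgroup G) N) = 1 := by
    rw [Nat.card_eq_one_iff_unique]
    refine ⟨⟨fun a b => ?_⟩, ⟨⟨1, fun x => ?_⟩⟩⟩
    · have key : ∀ c : MulAction.fixedPoints (P : Subgroup G) N, c.1 = 1 := by
        intro c
        have h3 : (c.1 : G) ∈ N ⊓ Subgroup.centralizer ((P : Subgroup G) : Set G) := by
          refine ⟨c.1.2, ?_⟩
          show (c.1 : G) ∈ Subgroup.centralizer ((P : Subgroup G) : Set G)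
          rw [Subgroup.mem_centralizer_iff]
          intro x hx
          have h4 := c.2 ⟨x, hx⟩
          have h5 : x * (c.1 : G) * x⁻¹ = c.1 := by
            have := congrArg Subtype.val h4
            exact this
          exact mul_inv_eq_iff_eq_mul.1 h5
        rw [h, Subgroup.mem_bot] at h3
        exact Subtype.ext h3
      exact Subtype.ext ((key a).trans (key b).symm)
    · show MulAut.conjNormal (x : G) (1 : N) = 1
      exact map_one _
  rw [h2] at h1
  intro hd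
  have h3 : Nat.card N ≡ 0 [MOD p] := (Nat.modEq_zero_iff_dvd).2 hd
  have h4 : 1 ≡ 0 [MOD p] := h1.symm.trans h3
  exact hp.out.one_lt.ne' (Nat.dvd_one.1 ((Nat.modEq_zero_iff_dvd).1 h4))

theorem coprime_syl (P : Sylow p G) {N : Subgroup G} (h : ¬ p ∣ Nat.card N) :
    (Nat.card N).Coprime (Nat.card (P : Subgroup G)) := by
  obtain ⟨k, hk⟩ := IsPGroup.iff_card.1 P.2
  rw [hk]
  exact Nat.Coprime.pow_right k ((Nat.Prime.coprime_iff_not_dvd hp.out).2 h).symm

/-- an invariant character is trivial when there are no fixed points -/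
theorem triv_of_inv (P : Sylow p G) (N : Subgroup G) [hN : N.Normal] [Fintype N]
    (h : N ⊓ Subgroup.centralizer ((P : Subgroup G) : Set G) = ⊥) {θ : N → ℂ} (hθ : IsIrrCharacter N θ)
    (hinv : ∀ g ∈ (P : Subgroup G), cj hN g θ = θ) : θ = fun _ => 1 := by
  classical
  have hnd := not_dvd_of_cent P N h
  set C := N ⊓ Subgroup.centralizer ((P : Subgroup G) : Set G) with hC
  haveI : Fintype C := Fintype.ofFinite _
  have hCN : C ≤ N := inf_le_left
  have key := S4444.result (Γ := G) N (P : Subgroup G) (fun s _ g hg => hN.conj_mem g hg s) (coprime_syl P hnd) p hp.out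
    P.2 C hC hCN
  have hC1 : Nat.card C = 1 := by rw [h]; exact Subgroup.card_bot
  have hsub : Subsingleton C := (Nat.card_eq_one_iff_unique.1 hC1).1
  have hci : ∀ f : C → ℂ, classInner f (fun _ => (1 : ℂ)) = f 1 := by
    intro f
    rw [classInner, hC1, Nat.cast_one, inv_one, one_mul, Fintype.sum_subsingleton _ (1 : C)]
    simp
  obtain ⟨d, hd0, hd, hdd⟩ := IsIrr.dvd_card hθ
  have h1 := key.2.2.1 ⟨θ, hθ⟩ ⟨fun _ => 1, isIrr_one⟩ ((inv_conv P N).1 hinv)
    (fun s _ g g' _ => rfl) ⟨fun _ => 1, isIrr_one⟩ d 1 (by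
      rw [hci]
      exact hd) (fun h2 => hnd (h2.trans hdd)) (by
      rw [hci]
      simp) (fun h2 => hp.out.one_lt.ne' (Nat.dvd_one.1 h2))
  exact congrArg Subtype.val h1

/-- a nontrivial invariant character -/
theorem exists_inv (P : Sylow p G) (N : Subgroup G) [hN : N.Normal] [Fintype N] (hnd : ¬ p ∣ Nat.card N)
    (h : N ⊓ Subgroup.centralizer ((P : Subgroup G) : Set G) ≠ ⊥) : ∃ θ : N → ℂ, IsIrrCharacter N θ ∧
      (∀ g ∈ (P : Subgroup G), cj hN g θ = θ) ∧ θ ≠ fun _ => 1 := by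
  classical
  set C := N ⊓ Subgroup.centralizer ((P : Subgroup G) : Set G) with hC
  haveI : Fintype C := Fintype.ofFinite _
  have hCN : C ≤ N := inf_le_left
  have key := S4444.result (Γ := G) N (P : Subgroup G) (fun s _ g hg => hN.conj_mem g hg s) (coprime_syl P hnd) p hp.out
    P.2 C hC hCN
  obtain ⟨x, hx, hx1⟩ := (Subgroup.bot_or_exists_ne_one C).resolve_left h
  obtain ⟨β, hβ, hβx⟩ : ∃ β : C → ℂ, IsIrrCharacter C β ∧ β ≠ fun _ => 1 := by
    by_contra hcon
    push Not at hcon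
    apply hx1
    have h1 : (⟨x, hx⟩ : C) = 1 := eq_one_of_forall_irr (fun χ hχ => by rw [hcon χ hχ])
    exact congrArg Subtype.val h1
  obtain ⟨χ, hχi, m, hm, hmp⟩ := key.2.2.2 ⟨β, hβ⟩
  refine ⟨χ, χ.2, (inv_conv P N).2 hχi, ?_⟩
  intro e
  have h2 : classInner (fun _ : C => (1 : ℂ)) β = 0 := ci_irr_ne isIrr_one hβ (fun e' => hβx e'.symm)
  have h3 : (fun c : C => (χ : N → ℂ) ⟨c, hCN c.2⟩) = fun _ => 1 := by rw [e]
  rw [h3] at hm
  have h4 : (m : ℂ) = 0 := by rw [← hm]; exact h2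
  have h5 : m = 0 := by exact_mod_cast h4
  exact hmp (h5 ▸ dvd_zero p)

/-- an invariant character of a normal `p'`-subgroup lies under a character of degree prime to `p` -/
theorem ext_over (P : Sylow p G) (N : Subgroup G) [hN : N.Normal] [Fintype N] (hnd : ¬ p ∣ Nat.card N)
    {θ : N → ℂ} (hθ : IsIrrCharacter N θ) (hinv : ∀ g ∈ (P : Subgroup G), cj hN g θ = θ) :
    ∃ χ : G → ℂ, IsIrrCharacter G χ ∧ ¬ p ∣ charDegree χ ∧ classInner (fun n : N => χ n) θ ≠ 0 := by
  classical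
  set H := N ⊔ (P : Subgroup G) with hH
  have hNH : N ≤ H := le_sup_left
  have hPH : (P : Subgroup G) ≤ H := le_sup_right
  haveI : Fintype H := Fintype.ofFinite _
  haveI : (N.subgroupOf H).Normal := inferInstance
  haveI : Fintype (N.subgroupOf H) := Fintype.ofFinite _
  let e : N.subgroupOf H ≃* N := Subgroup.subgroupOfEquivOfLe hNH
  set θ' : N.subgroupOf H → ℂ := fun x => θ (e x) with hθ'
  have hθ'i : IsIrrCharacter (N.subgroupOf H) θ' := (isIrr_comp_iff e).mpr hθ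
  have hHI : H ≤ inertia hN θ := sup_le (le_inertia hN (IsIrr.isClass hθ)) (fun g hg => hinv g hg)
  have hidx : (N.subgroupOf H).index ∣ Nat.card (P : Subgroup G) := by
    show N.relIndex H ∣ _
    rw [hH, sup_comm, relIndex_sup_of_le_normalizer (by
      rw [Subgroup.normalizer_eq_top_iff.mpr hN]; exact le_top)]
    exact Subgroup.relIndex_dvd_card _ _
  have hcop : (Nat.card (N.subgroupOf H)).Coprime (N.subgroupOf H).index := by
    rw [Nat.card_congr e.toEquiv]
    exact (coprime_syl P hnd).coprime_dvd_right hidx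
  obtain ⟨ψ, ⟨hψ, hψN, -⟩, -⟩ := Cfsg.Agent.H3.GK.canon (N.subgroupOf H) hcop hθ'i (fun g n => by
    have h1 := congrFun ((mem_inertia hN θ _).1 (hHI g.2)) (e n)
    exact h1)
  have hψd : charDegree ψ = charDegree θ := by
    have h1 : ψ 1 = θ 1 := by
      have := hψN 1
      rw [Subgroup.coe_one] at this
      rw [this, hθ']
      show θ (e 1) = θ 1
      rw [map_one]
    unfold charDegree
    rw [h1]
  have hind : ¬ p ∣ charDegree (indFun H ψ) := by
    have h1 : charDegree (indFun H ψ) = H.index * charDegree θ := by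
      apply deg_eq
      rw [ind_one, Nat.cast_mul, ← hψd, coe_deg (IsIrr.isCharacter hψ)]
    rw [h1, hp.out.dvd_mul]
    rintro (h2 | h2)
    · exact P.not_dvd_index (h2.trans (Subgroup.index_dvd_of_le hPH))
    · exact hnd (h2.trans (deg_dvd_card hθ))
  obtain ⟨χ, hχ, h1, h2⟩ := exists_ndvd (IsChar.ind (IsIrr.isCharacter hψ)) hind
  refine ⟨χ, hχ, h2, ?_⟩
  rw [constituent_ind_iff (IsIrr.isCharacter hχ)] at h1
  refine res_trans hNH (IsIrr.isCharacter hχ) hψ h1 hθ ?_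
  have h3 : (fun x : N => ψ ⟨x, hNH x.2⟩) = θ := by
    funext x
    have h4 := hψN ⟨⟨x, hNH x.2⟩, Subgroup.mem_subgroupOf.2 x.2⟩
    rw [h4, hθ']
    rfl
  rw [h3, ci_irr_self hθ]
  exact one_ne_zero

end

end Cfsg.Agent.H10.PpDeg
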