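import Mathlib
import Cfsg.Agent.H10_CohI
import Cfsg.Agent.H10_CycTI4
import Cfsg.Agent.H10_OOGrp2
import Cfsg.Agent.H3_CharTI

/-!
H10_TypeP: characters of a group with normal complement to a cyclic Hall subgroup acting with
constant fixed points (Peterfalvi section 4).
-/

set_option autoImplicit false
set_option linter.style.haveILetI false
set_option linter.unusedSectionVars false

namespace Cfsg.Agent.H10.TypeP

open Cfsg Cfsg.Agent.H3.CharIrr Cfsg.Agent.H3.CharComplete Cfsg.Agent.H3.CharInd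
  Cfsg.Agent.H3.CharBasic Cfsg.Agent.H10.PM Cfsg.Agent.H10.Coh Cfsg.Agent.H10.Coh2 Cfsg.Agent.H10.Coh3 Cfsg.Agent.H10.Coh4
  Cfsg.Agent.H10.CohI Cfsg.Agent.H10.CycTI Cfsg.Agent.H10.CycTI2 Cfsg.Agent.H10.CycTI3 Cfsg.Agent.H10.CycTI4
open scoped ComplexConjugate

section Ab
variable {P : Type*} [Group P] [Fintype P]

/-- expansion in linear characters of an abelian group -/
theorem expand_hom (hab : ∀ a b : P, a * b = b * a) [Fintype (P →* ℂˣ)] (F : P → ℂ) (w : P) :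
    ∑ ω : P →* ℂˣ, classInner F (fun x => (ω x : ℂ)) * (ω w : ℂ) = F w := by
  classical
  have h1 : ∀ ω : P →* ℂˣ, classInner F (fun x => (ω x : ℂ)) * (ω w : ℂ) =
      (Nat.card P : ℂ)⁻¹ * ∑ x : P, F x * ((ω (x⁻¹ * w) : ℂˣ) : ℂ) := by
    intro ω
    rw [classInner, mul_assoc, Finset.sum_mul]
    congr 1
    refine Finset.sum_congr rfl fun x _ => ?_
    rw [map_mul, Units.val_mul, ← cc_conj, mul_assoc]
  rw [Finset.sum_congr rfl fun ω _ => h1 ω, ← Finset.mul_sum, Finset.sum_comm]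
  have h2 : ∀ x : P, ∑ ω : P →* ℂˣ, F x * ((ω (x⁻¹ * w) : ℂˣ) : ℂ) = if x = w then F w * (Nat.card P : ℂ) else 0 := by
    intro x
    rw [← Finset.mul_sum, col_hom hab]
    by_cases h : x = w
    · rw [if_pos h, h, inv_mul_cancel, if_pos rfl]
    · rw [if_neg h, if_neg (fun h' => h (inv_mul_eq_one.1 h')), mul_zero]
  rw [Finset.sum_congr rfl fun x _ => h2 x, Finset.sum_ite_eq' Finset.univ w, if_pos (Finset.mem_univ _)]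
  have h3 : (Nat.card P : ℂ) ≠ 0 := by exact_mod_cast Nat.card_pos.ne'
  field_simp

theorem exists_hom_ne (hab : ∀ a b : P, a * b = b * a) {g : P} (hg : g ≠ 1) : ∃ ω : P →* ℂˣ, ω g ≠ 1 := by
  classical
  haveI := Fintype.ofFinite (P →* ℂˣ)
  by_contra h
  push_neg at h
  have h1 := col_hom hab g
  rw [if_neg hg, Finset.sum_congr rfl fun ω _ => by rw [h ω]] at h1
  simp only [Units.val_one, Finset.sum_const, Finset.card_univ, nsmul_eq_mul, mul_one] at h1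
  have h2 : 0 < Fintype.card (P →* ℂˣ) := Fintype.card_pos
  have h3 : Fintype.card (P →* ℂˣ) = 0 := by exact_mod_cast h1
  omega

end Ab

section W
variable {G : Type*} [Group G] [Fintype G] {W₁ W₂ : Subgroup G} (hab : ∀ a b : ↥(W₁ ⊔ W₂), a * b = b * a)
  (hdisj : W₁ ⊓ W₂ = ⊥) (hcomm : ∀ a ∈ W₁, ∀ b ∈ W₂, a * b = b * a) [Fintype ↥(W₁ ⊔ W₂)] {F : ↥(W₁ ⊔ W₂) → ℂ}
  (hF : ∀ lam ω : ↥(W₁ ⊔ W₂) →* ℂˣ, X1 W₁ W₂ lam →
    classInner F (fun w => ((lam * ω) w : ℂ)) = classInner F (fun w => (ω w : ℂ)))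
include hab hdisj hcomm hF

theorem vanish (w : ↥(W₁ ⊔ W₂)) (hw : (w : G) ∉ W₂) : F w = 0 := by
  classical
  haveI := Fintype.ofFinite (↥(W₁ ⊔ W₂) →* ℂˣ)
  obtain ⟨p₁, p₂, hp1, hp2, hpw, h1, h2⟩ := exists_p hdisj hcomm
  have hne : p₁ w ≠ 1 := by
    intro h
    apply hw
    rw [hpw w, h, one_mul]
    exact hp2 w
  obtain ⟨lam', hl'⟩ := exists_hom_ne hab hne
  have hl1 : X1 W₁ W₂ (lam'.comp p₁) := by
    intro v hv
    show lam' (p₁ v) = 1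
    rw [(h2 v hv).2, map_one]
  have e1 := expand_hom hab F w
  have e2 : ∑ ω : ↥(W₁ ⊔ W₂) →* ℂˣ, classInner F (fun x => (ω x : ℂ)) * (ω w : ℂ) =
      ((lam'.comp p₁) w : ℂ) * F w := by
    rw [← Equiv.sum_comp (Equiv.mulLeft (lam'.comp p₁)), ← e1, Finset.mul_sum]
    refine Finset.sum_congr rfl fun ω _ => ?_
    rw [Equiv.coe_mulLeft, hF _ _ hl1, MonoidHom.mul_apply, Units.val_mul]
    ring
  rw [e1] at e2
  have h3 : (1 - ((lam'.comp p₁) w : ℂ)) * F w = 0 := by linear_combination e2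
  rcases mul_eq_zero.1 h3 with h | h
  · exfalso
    apply hl'
    have : ((lam' (p₁ w) : ℂˣ) : ℂ) = 1 := by
      have : ((lam'.comp p₁) w : ℂ) = 1 := by linear_combination -h
      exact this
    exact Units.ext this
  · exact h

theorem one_div (hX : Nat.card {φ : ↥(W₁ ⊔ W₂) →* ℂˣ // X1 W₁ W₂ φ} = Nat.card W₁)
    (hint : ∀ ω : ↥(W₁ ⊔ W₂) →* ℂˣ, ∃ n : ℤ, classInner F (fun w => (ω w : ℂ)) = n) :
    ∃ n : ℤ, F 1 = n * (Nat.card W₁ : ℂ) := by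
  classical
  haveI := Fintype.ofFinite (↥(W₁ ⊔ W₂) →* ℂˣ)
  choose c hc using hint
  have e1 := expand_hom hab F 1
  have e2 : ∀ ω : ↥(W₁ ⊔ W₂) →* ℂˣ, classInner F (fun x => (ω x : ℂ)) * ((ω 1 : ℂˣ) : ℂ) = (c ω : ℂ) := by
    intro ω
    rw [hc, map_one, Units.val_one, mul_one]
  rw [Finset.sum_congr rfl fun ω _ => e2 ω] at e1
  haveI := Fintype.ofFinite {φ : ↥(W₁ ⊔ W₂) →* ℂˣ // X1 W₁ W₂ φ}
  haveI := Fintype.ofFinite {φ : ↥(W₁ ⊔ W₂) →* ℂˣ // X2 W₁ W₂ φ}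
  have hbij : Function.Bijective (fun p : {φ : ↥(W₁ ⊔ W₂) →* ℂˣ // X2 W₁ W₂ φ} × {φ : ↥(W₁ ⊔ W₂) →* ℂˣ // X1 W₁ W₂ φ} =>
      (p.2 : ↥(W₁ ⊔ W₂) →* ℂˣ) * p.1) := by
    constructor
    · rintro ⟨⟨ψ, hψ⟩, ⟨φ, hφ⟩⟩ ⟨⟨ψ', hψ'⟩, ⟨φ', hφ'⟩⟩ h
      obtain ⟨h1, h2⟩ := X_inj hφ hφ' hψ hψ' hdisj hcomm h
      subst h1 h2
      rfl
    · intro ω
      obtain ⟨φ, ψ, hφ, hψ, e⟩ := exists_decomp ω hdisj hcomm
      exact ⟨⟨⟨ψ, hψ⟩, ⟨φ, hφ⟩⟩, e.symm⟩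
  have hcc : ∀ (φ ψ : ↥(W₁ ⊔ W₂) →* ℂˣ), X1 W₁ W₂ φ → c (φ * ψ) = c ψ := by
    intro φ ψ hφ
    have := hF φ ψ hφ
    rw [hc, hc] at this
    exact_mod_cast this
  have e3 : ∑ ω : ↥(W₁ ⊔ W₂) →* ℂˣ, c ω = (∑ q : {φ : ↥(W₁ ⊔ W₂) →* ℂˣ // X2 W₁ W₂ φ}, c q) * (Nat.card W₁ : ℤ) := by
    rw [← hbij.sum_comp, Fintype.sum_prod_type, Finset.sum_mul]
    refine Finset.sum_congr rfl fun q _ => ?_
    rw [Finset.sum_congr rfl fun a _ => hcc _ _ a.2]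
    show ∑ _a : {φ : ↥(W₁ ⊔ W₂) →* ℂˣ // X1 W₁ W₂ φ}, c q = _
    rw [Finset.sum_const, Finset.card_univ, nsmul_eq_mul, ← Nat.card_eq_fintype_card, hX]
    ring
  refine ⟨∑ q : {φ : ↥(W₁ ⊔ W₂) →* ℂˣ // X2 W₁ W₂ φ}, c q, ?_⟩
  rw [← e1, ← Int.cast_sum, e3]
  push_cast
  rfl

end W

section Main
variable {L : Type*} [Group L] [Fintype L] (K W₁ W₂ : Subgroup L) [hK : K.Normal] (hKW₁ : K ⊓ W₁ = ⊥) (hKW₁' : K ⊔ W₁ = ⊤)
  (hW₁ : W₁ ≠ ⊥) (hW₁c : IsCyclic W₁) (hHall : Nat.Coprime (Nat.card W₁) W₁.index) (hW₂ : W₂ ≠ ⊥) (hW₂c : IsCyclic W₂)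
  (hW₂K : W₂ ≤ K) (hC : ∀ x ∈ W₁, x ≠ 1 → K ⊓ Subgroup.centralizer ({x} : Set L) = W₂)
include hKW₁ hKW₁' hW₁ hW₁c hHall hW₂ hW₂c hW₂K hC

/-- the set `W - W₂` is a TI-subset with normaliser `W` -/
theorem tiW {g x : L} (hx : x ∈ W₁ ⊔ W₂) (hx2 : x ∉ W₂) (hgx : g * x * g⁻¹ ∈ W₁ ⊔ W₂) (hgx2 : g * x * g⁻¹ ∉ W₂) :
    g ∈ W₁ ⊔ W₂ := by
  have hself := Cfsg.Agent.H10.OOGrp2.selfNorm K W₁ W₂ hKW₁ hKW₁' hW₁ hW₁c hHall hW₂ hW₂c hW₂K hC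
  have hcomp : K.IsComplement' W₁ := Subgroup.isComplement'_of_disjoint_and_mul_eq_univ (disjoint_iff.2 hKW₁) (by
    rw [← Subgroup.normal_mul, hKW₁']; rfl)
  have hidx : W₁.index = Nat.card K := hcomp.index_eq_card
  have hcopK : Nat.Coprime (Nat.card W₁) (Nat.card K) := by rw [← hidx]; exact hHall
  have hcomm := hcomm hself
  have hWab : ∀ a ∈ W₁ ⊔ W₂, ∀ b ∈ W₁ ⊔ W₂, a * b = b * a := fun a ha b hb =>
    congrArg Subtype.val (hab hself ⟨a, ha⟩ ⟨b, hb⟩)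
  have hdec : ∀ y, y ∈ W₁ ⊔ W₂ → y ∉ W₂ → ∃ a ∈ W₁, ∃ b ∈ W₂, a * b = y ∧ a ≠ 1 := by
    intro y hy hy2
    obtain ⟨a, ha, b, hb, e⟩ := Cfsg.Agent.H10.Dade.mem_sup_of_norm (H := W₁) (K := W₂) (fun k hk h hh => by
      rw [← hcomm h hh k hk]; simpa using hh) hy
    refine ⟨a, ha, b, hb, e, ?_⟩
    rintro rfl
    rw [one_mul] at e
    exact hy2 (e ▸ hb)
  obtain ⟨a, ha, b, hb, e, ha1⟩ := hdec x hx hx2
  obtain ⟨a', ha', b', hb', e', ha1'⟩ := hdec _ hgx hgx2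
  obtain ⟨m, h1, h2⟩ := Nat.chineseRemainder hcopK 1 0
  have hpa : ∀ c ∈ W₁, c ^ m = c := by
    intro c hc
    conv_rhs => rw [← pow_one c]
    have h3 : orderOf c ∣ Nat.card W₁ := by
      have := orderOf_dvd_natCard (⟨c, hc⟩ : W₁)
      rwa [Subgroup.orderOf_mk] at this
    exact pow_eq_pow_iff_modEq.2 (h1.of_dvd h3)
  have hpb : ∀ c ∈ W₂, c ^ m = 1 := by
    intro c hc
    have h3 : orderOf c ∣ Nat.card K := by
      have := orderOf_dvd_natCard (⟨c, hW₂K hc⟩ : K)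
      rwa [Subgroup.orderOf_mk] at this
    exact orderOf_dvd_iff_pow_eq_one.1 (h3.trans ((Nat.modEq_zero_iff_dvd).1 h2))
  have hxm : x ^ m = a := by
    rw [← e, (show Commute a b from hcomm a ha b hb).mul_pow, hpa a ha, hpb b hb, mul_one]
  have hxm' : (g * x * g⁻¹) ^ m = a' := by
    rw [← e', (show Commute a' b' from hcomm a' ha' b' hb').mul_pow, hpa a' ha', hpb b' hb', mul_one]
  rw [conj_pow, hxm] at hxm'
  obtain ⟨k, hk, w, hw, ekw⟩ := Cfsg.Agent.H10.Dade.mem_sup_of_norm (H := K) (K := W₁) (fun k _ h hh => hK.conj_mem h hh k)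
    (show g ∈ K ⊔ W₁ by rw [hKW₁']; exact Subgroup.mem_top _)
  have hwa : w * a * w⁻¹ = a := by
    rw [hWab w (Subgroup.mem_sup_left hw) a (Subgroup.mem_sup_left ha)]; group
  have h3 : k * a * k⁻¹ = a' := by
    rw [← hxm', ← ekw]
    calc k * a * k⁻¹ = k * (w * a * w⁻¹) * k⁻¹ := by rw [hwa]
      _ = _ := by group
  have h4 : a' * a⁻¹ ∈ K ⊓ W₁ := by
    refine ⟨?_, W₁.mul_mem ha' (W₁.inv_mem ha)⟩
    rw [← h3]
    have : k * a * k⁻¹ * a⁻¹ = k * (a * k⁻¹ * a⁻¹) := by group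
    rw [this]
    exact K.mul_mem hk (hK.conj_mem _ (K.inv_mem hk) a)
  rw [hKW₁, Subgroup.mem_bot, mul_inv_eq_one] at h4
  have h5 : k ∈ W₂ := by
    rw [← hC a ha ha1]
    refine ⟨hk, Subgroup.mem_centralizer_singleton_iff.2 ?_⟩
    rw [h4] at h3
    exact mul_inv_eq_iff_eq_mul.1 h3
  rw [← ekw]
  exact Subgroup.mul_mem _ (Subgroup.mem_sup_right h5) (Subgroup.mem_sup_left hw)

/-- induction is an isometry on functions vanishing on `W₂` -/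
theorem ind_isoW [Fintype ↥(W₁ ⊔ W₂)] {f f' : ↥(W₁ ⊔ W₂) → ℂ} (hf : ∀ x : ↥(W₁ ⊔ W₂), (x : L) ∈ W₂ → f x = 0)
    (hf' : ∀ x : ↥(W₁ ⊔ W₂), (x : L) ∈ W₂ → f' x = 0) :
    classInner (indFun (W₁ ⊔ W₂) f) (indFun (W₁ ⊔ W₂) f') = classInner f f' := by
  have hself := Cfsg.Agent.H10.OOGrp2.selfNorm K W₁ W₂ hKW₁ hKW₁' hW₁ hW₁c hHall hW₂ hW₂c hW₂K hC
  apply Cfsg.Agent.H3.CharTI.ind_inner_of_TI' (W₁ ⊔ W₂) {x : L | x ∈ W₁ ⊔ W₂ ∧ x ∉ W₂} _ f f' (class_W hself f')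
  · intro x hx
    apply hf
    by_contra h
    exact hx ⟨x.2, h⟩
  · intro x hx
    apply hf'
    by_contra h
    exact hx ⟨x.2, h⟩
  · exact hf 1 W₂.one_mem
  · rintro g hg t ⟨ht, ht2⟩ ⟨hgt, hgt2⟩
    exact absurd (tiW K W₁ W₂ hKW₁ hKW₁' hW₁ hW₁c hHall hW₂ hW₂c hW₂K hC ht ht2 hgt hgt2) hg

end Main

end Cfsg.Agent.H10.TypeP
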