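import Mathlib
import Cfsg.Agent.H10_TypeP

/-!
H10_TypeP2: the characters μ_ij of Peterfalvi (4.3).
-/

set_option autoImplicit false
set_option linter.style.haveILetI false
set_option linter.unusedSectionVars false

namespace Cfsg.Agent.H10.TypeP2

open Cfsg Cfsg.Agent.H3.CharIrr Cfsg.Agent.H3.CharComplete Cfsg.Agent.H3.CharInd
  Cfsg.Agent.H3.CharBasic Cfsg.Agent.H10.PM Cfsg.Agent.H10.Coh Cfsg.Agent.H10.Coh2 Cfsg.Agent.H10.Coh3 Cfsg.Agent.H10.Coh4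
  Cfsg.Agent.H10.CohI Cfsg.Agent.H10.CycTI Cfsg.Agent.H10.CycTI2 Cfsg.Agent.H10.CycTI3 Cfsg.Agent.H10.CycTI4
  Cfsg.Agent.H10.TypeP
open scoped ComplexConjugate

variable {L : Type*} [Group L] [Fintype L] (K W₁ W₂ : Subgroup L) [hK : K.Normal] (hKW₁ : K ⊓ W₁ = ⊥) (hKW₁' : K ⊔ W₁ = ⊤)
  (hW₁ : W₁ ≠ ⊥) (hW₁c : IsCyclic W₁) (hHall : Nat.Coprime (Nat.card W₁) W₁.index) (hW₂ : W₂ ≠ ⊥) (hW₂c : IsCyclic W₂)
  (hW₂K : W₂ ≤ K) (hC : ∀ x ∈ W₁, x ≠ 1 → K ⊓ Subgroup.centralizer ({x} : Set L) = W₂)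
include hKW₁ hKW₁' hW₁ hW₁c hHall hW₂ hW₂c hW₂K hC

theorem exists_mu : ∃ (μ : (↥(W₁ ⊔ W₂) →* ℂˣ) → (L → ℂ)) (δ : (↥(W₁ ⊔ W₂) →* ℂˣ) → ℂ), Function.Injective μ ∧
    (∀ ω, IsIrrCharacter L (μ ω)) ∧ (∀ ω, δ ω = 1 ∨ δ ω = -1) ∧
    (∀ ω ω' : ↥(W₁ ⊔ W₂) →* ℂˣ, (∀ w : ↥(W₁ ⊔ W₂), (w : L) ∈ W₂ → ω w = ω' w) →
      δ ω = δ ω' ∧ indFun (W₁ ⊔ W₂) (fun w => (ω w : ℂ) - (ω' w : ℂ)) = δ ω • (μ ω - μ ω')) ∧
    (∀ ω, ∀ w : ↥(W₁ ⊔ W₂), (w : L) ∉ W₂ → μ ω w = δ ω * (ω w : ℂ)) ∧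
    (∀ θ : L → ℂ, IsIrrCharacter L θ → (∀ ω, θ ≠ μ ω) → ∀ w : ↥(W₁ ⊔ W₂), (w : L) ∉ W₂ → θ w = 0) ∧
    (∀ ω, ∃ n : ℤ, μ ω 1 - δ ω = n * (Nat.card W₁ : ℂ)) := by
  classical
  haveI := Fintype.ofFinite ↥(W₁ ⊔ W₂)
  haveI := Fintype.ofFinite (↥(W₁ ⊔ W₂) →* ℂˣ)
  have hself := Cfsg.Agent.H10.OOGrp2.selfNorm K W₁ W₂ hKW₁ hKW₁' hW₁ hW₁c hHall hW₂ hW₂c hW₂K hC
  obtain ⟨r, hr⟩ : ∃ r : (↥(W₁ ⊔ W₂) →* ℂˣ) → (↥(W₁ ⊔ W₂) →* ℂˣ) → Prop, r = fun ω ω' =>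
    ∀ w : ↥(W₁ ⊔ W₂), (w : L) ∈ W₂ → ω w = ω' w := ⟨_, rfl⟩
  have hr' : ∀ ω ω', r ω ω' ↔ ∀ w : ↥(W₁ ⊔ W₂), (w : L) ∈ W₂ → ω w = ω' w := by rw [hr]; exact fun _ _ => Iff.rfl
  have rrefl : ∀ ω, r ω ω := fun ω => (hr' _ _).2 fun w _ => rfl
  have rsymm : ∀ {ω ω'}, r ω ω' → r ω' ω := fun h => (hr' _ _).2 fun w hw => ((hr' _ _).1 h w hw).symm
  have rtrans : ∀ {ω ω' ω''}, r ω ω' → r ω' ω'' → r ω ω'' := fun h h' =>
    (hr' _ _).2 fun w hw => ((hr' _ _).1 h w hw).trans ((hr' _ _).1 h' w hw)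
  obtain ⟨S, hSd⟩ : ∃ S : (↥(W₁ ⊔ W₂) →* ℂˣ) → Set (↥(W₁ ⊔ W₂) → ℂ), S = fun ω =>
    {f | ∃ ω', r ω ω' ∧ f = fun w => (ω' w : ℂ)} := ⟨_, rfl⟩
  have hSm : ∀ ω f, f ∈ S ω ↔ ∃ ω', r ω ω' ∧ f = fun w => (ω' w : ℂ) := by rw [hSd]; exact fun _ _ => Iff.rfl
  have hSeq : ∀ {ω ω'}, r ω ω' → S ω = S ω' := by
    intro ω ω' h
    ext f
    rw [hSm, hSm]
    constructor
    · rintro ⟨η, h1, e⟩; exact ⟨η, rtrans (rsymm h) h1, e⟩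
    · rintro ⟨η, h1, e⟩; exact ⟨η, rtrans h h1, e⟩
  have hSmem : ∀ {ω ω'}, r ω ω' → (fun w => (ω' w : ℂ)) ∈ S ω := fun h => (hSm _ _).2 ⟨_, h, rfl⟩
  have hirr : ∀ ω, ∀ f ∈ S ω, IsIrrCharacter ↥(W₁ ⊔ W₂) f := by
    intro ω f hf
    obtain ⟨ω', -, rfl⟩ := (hSm _ _).1 hf
    exact cc_irr ω'
  have hone : ∀ ω, ∀ f ∈ S ω, f 1 = 1 := by
    intro ω f hf
    obtain ⟨ω', -, rfl⟩ := (hSm _ _).1 hf
    simp
  have hzs : ∀ ω, ∀ α ∈ zspan (S ω), ∀ w : ↥(W₁ ⊔ W₂), (w : L) ∈ W₂ → α w = α 1 * (ω w : ℂ) := by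
    intro ω α hα
    refine zs_ind (p := fun α => ∀ w : ↥(W₁ ⊔ W₂), (w : L) ∈ W₂ → α w = α 1 * (ω w : ℂ)) ?_ ?_ ?_ ?_ hα
    · intro f hf w hw
      rw [hone ω f hf, one_mul]
      obtain ⟨ω', h, rfl⟩ := (hSm _ _).1 hf
      show (ω' w : ℂ) = _
      rw [(hr' _ _).1 h w hw]
    · intro w _; simp
    · intro a _ b _ h1 h2 w hw
      rw [Pi.add_apply, Pi.add_apply, h1 w hw, h2 w hw, add_mul]
    · intro a _ h1 w hw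
      rw [Pi.neg_apply, Pi.neg_apply, h1 w hw, neg_mul]
  have hzo : ∀ ω, ∀ α ∈ zspanOn (S ω) {1}ᶜ, ∀ w : ↥(W₁ ⊔ W₂), (w : L) ∈ W₂ → α w = 0 := by
    intro ω α hα w hw
    obtain ⟨h1, h2⟩ := zo_iff.1 hα
    rw [hzs ω α h1 w hw, h2, zero_mul]
  have hτ : ∀ ω, IsLinearIsometryOn (zspanOn (S ω) {1}ᶜ) (fun α => indFun (W₁ ⊔ W₂) α) := by
    intro ω
    refine ⟨fun α _ β _ => ind_add _ _ _, fun α _ n => ?_, fun α hα β hβ => ?_, fun α hα => ?_⟩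
    · show indFun _ (n • α) = n • indFun _ α
      rw [zc, zc, ind_smul]
    · exact ind_isoW K W₁ W₂ hKW₁ hKW₁' hW₁ hW₁c hHall hW₂ hW₂c hW₂K hC (hzo ω α hα) (hzo ω β hβ)
    · exact IsGen.ind (zs_gen (fun χ hχ => IsGen.of_irr (hirr ω χ hχ)) (zo_iff.1 hα).1)
  have hτ1 : ∀ ω, ∀ α ∈ zspanOn (S ω) {1}ᶜ, (fun α => indFun (W₁ ⊔ W₂) α) α 1 = 0 := by
    intro ω α hα
    show indFun (W₁ ⊔ W₂) α 1 = 0
    rw [ind_one, (zo_iff.1 hα).2, mul_zero]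
  have hex : ∀ T : Set (↥(W₁ ⊔ W₂) → ℂ), ∃ (ε : ℤ) (μ : (↥(W₁ ⊔ W₂) → ℂ) → (L → ℂ)), (∃ ω, T = S ω) →
      ((ε = 1 ∨ ε = -1) ∧ (∀ χ ∈ T, IsIrrCharacter L (μ χ)) ∧
      (∀ χ ∈ T, ∀ ψ ∈ T, μ χ = μ ψ → χ = ψ) ∧ ∀ χ ∈ T, ∀ ψ ∈ T, indFun (W₁ ⊔ W₂) (χ - ψ) = ε • (μ χ - μ ψ)) := by
    intro T
    by_cases h : ∃ ω, T = S ω
    · obtain ⟨ω, rfl⟩ := h
      obtain ⟨ε, μ, h1, h2, h3, h4⟩ := equal_irr (hirr ω) (fun χ hχ ψ hψ => by rw [hone ω χ hχ, hone ω ψ hψ]) (hτ ω) (hτ1 ω)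
      exact ⟨ε, μ, fun _ => ⟨h1, h2, h3, h4⟩⟩
    · exact ⟨1, fun _ _ => 0, fun h' => absurd h' h⟩
  choose ε μ' hεμ using hex
  have e1 := fun ω => (hεμ (S ω) ⟨ω, rfl⟩).1
  have e2 := fun ω => (hεμ (S ω) ⟨ω, rfl⟩).2.1
  have e3 := fun ω => (hεμ (S ω) ⟨ω, rfl⟩).2.2.1
  have e4 := fun ω => (hεμ (S ω) ⟨ω, rfl⟩).2.2.2
  obtain ⟨δ, hδ⟩ : ∃ δ : (↥(W₁ ⊔ W₂) →* ℂˣ) → ℂ, ∀ ω, δ ω = (ε (S ω) : ℂ) := ⟨_, fun _ => rfl⟩
  obtain ⟨μ, hμ⟩ : ∃ μ : (↥(W₁ ⊔ W₂) →* ℂˣ) → (L → ℂ), ∀ ω, μ ω = μ' (S ω) (fun w => (ω w : ℂ)) := ⟨_, fun _ => rfl⟩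
  have hδ1 : ∀ ω, δ ω = 1 ∨ δ ω = -1 := by
    intro ω
    rw [hδ]
    rcases e1 ω with h | h
    · left; rw [h]; simp
    · right; rw [h]; simp
  have hδ2 : ∀ ω, δ ω * δ ω = 1 := by
    intro ω
    rcases hδ1 ω with h | h <;> rw [h] <;> norm_num
  have hδc : ∀ ω, conj (δ ω) = δ ω := by
    intro ω
    rcases hδ1 ω with h | h <;> rw [h] <;> simp
  have hδr : ∀ {ω ω'}, r ω ω' → δ ω = δ ω' := by
    intro ω ω' h
    rw [hδ, hδ, hSeq h]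
  have hirrμ : ∀ ω, IsIrrCharacter L (μ ω) := fun ω => by
    rw [hμ]; exact e2 ω _ (hSmem (rrefl ω))
  have hind : ∀ {ω ω'}, r ω ω' → indFun (W₁ ⊔ W₂) ((fun w => (ω w : ℂ)) - fun w => (ω' w : ℂ)) = δ ω • (μ ω - μ ω') := by
    intro ω ω' h
    rw [e4 ω _ (hSmem (rrefl ω)) _ (hSmem h), hμ, hμ, hδ, zc, ← hSeq h]
  have hinj0 : ∀ {ω ω'}, r ω ω' → μ ω = μ ω' → ω = ω' := by
    intro ω ω' h e
    rw [hμ, hμ, ← hSeq h] at e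
    exact cc_inj (e3 ω _ (hSmem (rrefl ω)) _ (hSmem h) e)
  -- each class has another member
  have hother : ∀ ω, ∃ ω', r ω ω' ∧ ω' ≠ ω := by
    intro ω
    obtain ⟨⟨a, ha⟩, ha1'⟩ := (Subgroup.ne_bot_iff_exists_ne_one.1 hW₁)
    have ha1 : (⟨a, Subgroup.mem_sup_left ha⟩ : ↥(W₁ ⊔ W₂)) ≠ 1 := fun h =>
      ha1' (Subtype.ext (congrArg (fun z : ↥(W₁ ⊔ W₂) => (z : L)) h))
    obtain ⟨p₁, p₂, hp1, hp2, hpw, h1, h2⟩ := exists_p (hdisj hself) (hcomm hself)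
    obtain ⟨lam, hl⟩ := exists_hom_ne (hab hself) ha1
    refine ⟨(lam.comp p₁) * ω, (hr' _ _).2 fun w hw => ?_, fun h => ?_⟩
    · rw [MonoidHom.mul_apply, MonoidHom.comp_apply, (h2 w hw).2, map_one, one_mul]
    · apply hl
      have h3 := congrArg (fun f : ↥(W₁ ⊔ W₂) →* ℂˣ => f ⟨a, Subgroup.mem_sup_left ha⟩) h
      simp only [MonoidHom.mul_apply, MonoidHom.comp_apply] at h3
      rw [(h1 ⟨a, Subgroup.mem_sup_left ha⟩ ha).1] at h3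
      exact mul_eq_right.1 h3
  have hinj : Function.Injective μ := by
    intro ω η e
    by_cases h : r ω η
    · exact hinj0 h e
    · exfalso
      obtain ⟨ω', hω', hne1⟩ := hother ω
      obtain ⟨η', hη', hne2⟩ := hother η
      have h1 : classInner (indFun (W₁ ⊔ W₂) ((fun w => (ω w : ℂ)) - fun w => (ω' w : ℂ)))
          (indFun (W₁ ⊔ W₂) ((fun w => (η w : ℂ)) - fun w => (η' w : ℂ))) = 0 := by
        rw [(hτ ω).2.2.1 |> fun _ => ind_isoW K W₁ W₂ hKW₁ hKW₁' hW₁ hW₁c hHall hW₂ hW₂c hW₂K hC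
          (f := (fun w => (ω w : ℂ)) - fun w => (ω' w : ℂ)) (f' := (fun w => (η w : ℂ)) - fun w => (η' w : ℂ))
          (fun x hx => by rw [Pi.sub_apply, (hr' _ _).1 hω' x hx, sub_self])
          (fun x hx => by rw [Pi.sub_apply, (hr' _ _).1 hη' x hx, sub_self])]
        rw [ci_sub_left, ci_sub_right, ci_sub_right, cc_inner, cc_inner, cc_inner, cc_inner,
          if_neg (fun hh => h (by rw [hh]; exact rrefl _)), if_neg (fun hh => h (by rw [hh]; exact rsymm hη')),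
          if_neg (fun hh => h (by rw [← hh]; exact hω')), if_neg (fun hh => h (rtrans hω' (by rw [hh]; exact rsymm hη')))]
        norm_num
      have hne3 : μ ω ≠ μ ω' := fun hh => hne1 (hinj0 hω' hh).symm
      have hne4 : μ η ≠ μ η' := fun hh => hne2 (hinj0 hη' hh).symm
      rw [hind hω', hind hη', ci_smul_left, ci_smul_right, hδc, ← mul_assoc, ci_sub_left, ci_sub_right, ci_sub_right,
        e, ci_irr_self (hirrμ η), ci_irr_ne (hirrμ η) (hirrμ η') hne4, ci_irr_ne (hirrμ ω') (hirrμ η) (by rw [← e]; exact hne3.symm)] at h1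
      have h2 : (1 : ℂ) + classInner (μ ω') (μ η') = 0 := by
        have h4 : δ ω * δ η ≠ 0 := mul_ne_zero (by rcases hδ1 ω with h | h <;> rw [h] <;> norm_num)
          (by rcases hδ1 η with h | h <;> rw [h] <;> norm_num)
        rcases mul_eq_zero.1 h1 with h5 | h5
        · exact absurd h5 h4
        · linear_combination h5
      by_cases h5 : μ ω' = μ η'
      · rw [h5, ci_irr_self (hirrμ η')] at h2
        norm_num at h2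
      · rw [ci_irr_ne (hirrμ ω') (hirrμ η') h5] at h2
        norm_num at h2
  -- the basic relation
  have hrel : ∀ θ : L → ℂ, IsIrrCharacter L θ → ∀ {ω ω'}, r ω ω' →
      classInner (fun w : ↥(W₁ ⊔ W₂) => θ w) (fun w => (ω w : ℂ)) - classInner (fun w : ↥(W₁ ⊔ W₂) => θ w) (fun w => (ω' w : ℂ)) =
        δ ω * ((if θ = μ ω then 1 else 0) - (if θ = μ ω' then 1 else 0)) := by
    intro θ hθ ω ω' h
    rw [← ci_sub_right, ← frobenius' _ _ _ (IsIrr.isClass hθ), hind h, ci_smul_right, hδc, ci_sub_right, ci_if hθ (hirrμ ω),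
      ci_if hθ (hirrμ ω')]
  have hrX : ∀ lam ω : ↥(W₁ ⊔ W₂) →* ℂˣ, X1 W₁ W₂ lam → r (lam * ω) ω := by
    intro lam ω hl
    refine (hr' _ _).2 fun w hw => ?_
    rw [MonoidHom.mul_apply, hl w hw, one_mul]
  have hF : ∀ θ : L → ℂ, IsIrrCharacter L θ → ∀ lam ω : ↥(W₁ ⊔ W₂) →* ℂˣ, X1 W₁ W₂ lam →
      classInner ((fun w : ↥(W₁ ⊔ W₂) => θ w) - ∑ η : ↥(W₁ ⊔ W₂) →* ℂˣ, (if θ = μ η then δ η else 0) • fun w => (η w : ℂ))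
        (fun w => ((lam * ω) w : ℂ)) =
      classInner ((fun w : ↥(W₁ ⊔ W₂) => θ w) - ∑ η : ↥(W₁ ⊔ W₂) →* ℂˣ, (if θ = μ η then δ η else 0) • fun w => (η w : ℂ))
        (fun w => (ω w : ℂ)) := by
    intro θ hθ lam ω hl
    have hc : ∀ ζ : ↥(W₁ ⊔ W₂) →* ℂˣ, classInner (∑ η : ↥(W₁ ⊔ W₂) →* ℂˣ, (if θ = μ η then δ η else 0) • fun w => (η w : ℂ))
        (fun w => (ζ w : ℂ)) = if θ = μ ζ then δ ζ else 0 := by
      intro ζ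
      rw [ci_sum_left, Finset.sum_eq_single ζ]
      · rw [ci_smul_left, cc_inner, if_pos rfl, mul_one]
      · intro b _ hb
        rw [ci_smul_left, cc_inner, if_neg hb, mul_zero]
      · intro h; exact absurd (Finset.mem_univ _) h
    rw [ci_sub_left, ci_sub_left, hc, hc]
    have h1 := hrel θ hθ (hrX lam ω hl)
    have h2 := hδr (hrX lam ω hl)
    rw [← h2]
    split_ifs at h1 ⊢ <;> linear_combination h1
  -- value formula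
  have hval : ∀ θ : L → ℂ, IsIrrCharacter L θ → ∀ w : ↥(W₁ ⊔ W₂), (w : L) ∉ W₂ →
      θ w = ∑ η : ↥(W₁ ⊔ W₂) →* ℂˣ, (if θ = μ η then δ η else 0) * (η w : ℂ) := by
    intro θ hθ w hw
    have h1 := vanish (hab hself) (hdisj hself) (hcomm hself) (hF θ hθ) w hw
    rw [Pi.sub_apply, Finset.sum_apply] at h1
    refine (sub_eq_zero.1 h1).trans (Finset.sum_congr rfl fun η _ => ?_)
    rw [Pi.smul_apply, smul_eq_mul]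
  refine ⟨μ, δ, hinj, hirrμ, hδ1, fun ω ω' h => ?_, ?_, ?_, ?_⟩
  · have h' := (hr' _ _).2 h
    exact ⟨hδr h', hind h'⟩
  · intro ω w hw
    rw [hval _ (hirrμ ω) w hw, Finset.sum_eq_single ω]
    · rw [if_pos rfl]
    · intro b _ hb
      rw [if_neg (fun h => hb (hinj h).symm), zero_mul]
    · intro h; exact absurd (Finset.mem_univ _) h
  · intro θ hθ hne w hw
    rw [hval θ hθ w hw]
    apply Finset.sum_eq_zero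
    intro η _
    rw [if_neg (hne η), zero_mul]
  · intro ω
    obtain ⟨n, hn⟩ := one_div (hab hself) (hdisj hself) (hcomm hself) (hF _ (hirrμ ω)) (card_X1 hself) (by
      intro ζ
      refine ci_gen_int (IsGen.sub (IsGen.comp (IsGen.of_irr (hirrμ ω)) (W₁ ⊔ W₂).subtype) (IsGen.sum _ _ fun η _ => ?_))
        (IsGen.of_irr (cc_irr ζ))
      split_ifs
      · rw [hδ]; exact IsGen.intsmul (IsGen.of_irr (cc_irr η)) _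
      · rw [zero_smul]; exact IsGen.zero)
    refine ⟨n, ?_⟩
    rw [← hn, Pi.sub_apply, Finset.sum_apply, Finset.sum_eq_single ω]
    · rw [if_pos rfl]; simp
    · intro b _ hb
      rw [if_neg (fun h => hb (hinj h).symm)]; simp
    · intro h; exact absurd (Finset.mem_univ _) h

end Cfsg.Agent.H10.TypeP2
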