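import Cfsg.Statements.S1512
import Cfsg.Agent.H10_OOGrp2

set_option autoImplicit false
open Cfsg

namespace Cfsg.Agent.S1512

open Cfsg.Agent.H10.OOGrp Cfsg.Agent.H10.OOGrp2

/-- Let K be a normal subgroup of the finite group L and x a non-identity element whose order is coprime to the order of K, such that K ⊓ C_L(y) = W₂ for every non-identity element y of the cyclic group generated by x. Then the number of conjugacy classes of K mapped to themselves by conjugation by x is at most Nat.card W₂. -/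
theorem result {L : Type*} [Group L] [Finite L] (K W₂ : Subgroup L) [hK : K.Normal] (x : L) (hx1 : x ≠ 1) (hx : Nat.Coprime (orderOf x) (Nat.card K)) (hC : ∀ y ∈ Subgroup.zpowers x, y ≠ 1 → K ⊓ Subgroup.centralizer ({y} : Set L) = W₂) : Nat.card {C : ConjClasses K // ConjClasses.map (MulEquiv.toMonoidHom ((MulAut.conjNormal x : MulAut K))) C = C} ≤ Nat.card W₂ := by
  classical
  have hW2 : K ⊓ Subgroup.centralizer ({x} : Set L) = W₂ := hC x (Subgroup.mem_zpowers x) hx1
  have hxN : x ∈ Subgroup.normalizer (K : Set L) := by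
    rw [Subgroup.normalizer_eq_top]; exact Subgroup.mem_top _
  have hex : ∀ C : {C : ConjClasses K // ConjClasses.map (MulEquiv.toMonoidHom ((MulAut.conjNormal x : MulAut K))) C = C},
      ∃ w : W₂, ∃ hw : (w : L) ∈ K, ConjClasses.mk (⟨w, hw⟩ : K) = C.1 := by
    rintro ⟨C, hCf⟩
    obtain ⟨k, rfl⟩ := ConjClasses.exists_rep C
    have h1 : IsConj ((MulAut.conjNormal x : MulAut K) k) k := ConjClasses.mk_eq_mk_iff_isConj.1 hCf
    obtain ⟨c, hc⟩ := isConj_iff.1 h1
    have h2 : (c : L) * (x * k * x⁻¹) * (c : L)⁻¹ = k := by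
      have := congrArg Subtype.val hc
      rw [Subgroup.coe_mul, Subgroup.coe_mul, Subgroup.coe_inv, MulAut.conjNormal_apply] at this
      exact this
    have h3 : x * (k : L) * x⁻¹ = (c : L)⁻¹ * k * (c : L)⁻¹⁻¹ := by
      conv_rhs => rw [← h2]
      group
    obtain ⟨v, hv, e⟩ := fixed_class hxN hx k.2 (K.inv_mem c.2) h3
    have h4 : v * k * v⁻¹ ∈ K := K.mul_mem (K.mul_mem hv k.2) (K.inv_mem hv)
    have h5 : v * k * v⁻¹ ∈ W₂ := by
      rw [← hW2]
      exact ⟨h4, Subgroup.mem_centralizer_singleton_iff.2 e⟩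
    refine ⟨⟨_, h5⟩, h4, ?_⟩
    refine (ConjClasses.mk_eq_mk_iff_isConj (a := (⟨v * k * v⁻¹, h4⟩ : K)) (b := k)).2 ?_
    refine isConj_iff.2 ⟨(⟨v, hv⟩ : K)⁻¹, Subtype.ext ?_⟩
    show v⁻¹ * (v * k * v⁻¹) * v⁻¹⁻¹ = k
    group
  choose f hf hf' using hex
  refine Nat.card_le_card_of_injective f ?_
  intro C D h
  apply Subtype.ext
  rw [← hf' C, ← hf' D]
  congr 1
  exact Subtype.ext (congrArg (fun w : W₂ => (w : L)) h)

end Cfsg.Agent.S1512
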