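import Mathlib
import Cfsg.Agent.H10_TypeP2
import Cfsg.Agent.H10_OOClif2
import Cfsg.Agent.S1512

/-!
H10_TypeP3: characters induced from the normal complement (Peterfalvi (4.4), (4.5)).
-/

set_option autoImplicit false
set_option linter.style.haveILetI false
set_option linter.unusedSectionVars false

namespace Cfsg.Agent.H10.TypeP3

open Cfsg Cfsg.Agent.H3.CharIrr Cfsg.Agent.H3.CharComplete Cfsg.Agent.H3.CharInd Cfsg.Agent.H3.CharMult
  Cfsg.Agent.H3.CharBasic Cfsg.Agent.H3.CharCalc Cfsg.Agent.H3.Clifford Cfsg.Agent.H3.CharInt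
  Cfsg.Agent.H10.CycTI Cfsg.Agent.H10.CycTI2 Cfsg.Agent.H10.CycTI3 Cfsg.Agent.H10.CycTI4
  Cfsg.Agent.H10.TypeP Cfsg.Agent.H10.TypeP2 Cfsg.Agent.H10.CohI
open scoped ComplexConjugate

section Deg
variable {G : Type*} [Group G] [Fintype G]

/-- a character whose degree is at most that of a sum of distinct constituents equals that sum -/
theorem char_eq_of_deg {χ : G → ℂ} (hχ : IsCharacter G χ) (C : Finset (G → ℂ)) (hC : ∀ μ ∈ C, IsIrrCharacter G μ)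
    (hpos : ∀ μ ∈ C, classInner χ μ ≠ 0) (hdeg : (χ 1).re ≤ ∑ μ ∈ C, (μ 1).re) : χ = ∑ μ ∈ C, μ := by
  classical
  haveI := Fintype.ofFinite (IrrCharacter G)
  have hn : ∀ ψ : IrrCharacter G, ∃ n : ℕ, classInner χ ψ = n := fun ψ => ci_char_nat hχ (IsIrr.isCharacter ψ.2)
  choose n hn using hn
  have hd : ∀ ψ : IrrCharacter G, ∃ d : ℕ, 0 < d ∧ (ψ : G → ℂ) 1 = d := fun ψ => IsIrr.one_eq_nat ψ.2
  choose d hd0 hd using hd
  have hsum : ∀ f : (G → ℂ) → ℂ, ∑ μ ∈ C, f μ = ∑ ψ : IrrCharacter G, (if (ψ : G → ℂ) ∈ C then f ψ else 0) := by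
    intro f
    rw [← Finset.sum_filter]
    symm
    refine Finset.sum_bij (fun ψ _ => (ψ : G → ℂ)) ?_ ?_ ?_ ?_
    · intro ψ hψ; exact (Finset.mem_filter.1 hψ).2
    · intro a _ b _ h; exact Subtype.ext h
    · intro μ hμ; exact ⟨⟨μ, hC μ hμ⟩, Finset.mem_filter.2 ⟨Finset.mem_univ _, hμ⟩, rfl⟩
    · intro ψ _; rfl
  have h1 : χ 1 = ((∑ ψ : IrrCharacter G, n ψ * d ψ : ℕ) : ℂ) := by
    rw [expand_apply χ (IsChar.isClass hχ) 1]
    push_cast
    exact Finset.sum_congr rfl fun ψ _ => by rw [hn, hd]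
  have h2 : ∑ μ ∈ C, μ 1 = ((∑ ψ : IrrCharacter G, (if (ψ : G → ℂ) ∈ C then 1 else 0) * d ψ : ℕ) : ℂ) := by
    rw [hsum (fun μ => μ 1)]
    push_cast
    refine Finset.sum_congr rfl fun ψ _ => ?_
    split_ifs
    · rw [hd, one_mul]
    · rw [zero_mul]
  have h3 : ∑ ψ : IrrCharacter G, n ψ * d ψ ≤ ∑ ψ : IrrCharacter G, (if (ψ : G → ℂ) ∈ C then 1 else 0) * d ψ := by
    have e1 : ∑ μ ∈ C, (μ 1).re = (∑ μ ∈ C, μ 1).re := by rw [Complex.re_sum]
    rw [e1, h2, h1, Complex.natCast_re, Complex.natCast_re] at hdeg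
    exact_mod_cast hdeg
  have h4 : ∀ ψ : IrrCharacter G, (if (ψ : G → ℂ) ∈ C then 1 else 0) ≤ n ψ := by
    intro ψ
    split_ifs with h
    · have := hpos _ h
      rw [hn] at this
      exact Nat.one_le_iff_ne_zero.2 (by exact_mod_cast this)
    · exact Nat.zero_le _
  have h5 : ∀ ψ : IrrCharacter G, n ψ = if (ψ : G → ℂ) ∈ C then 1 else 0 := by
    have h6 := (Finset.sum_eq_sum_iff_of_le (fun ψ _ => Nat.mul_le_mul_right (d ψ) (h4 ψ))).1
      (le_antisymm (Finset.sum_le_sum fun ψ _ => Nat.mul_le_mul_right (d ψ) (h4 ψ)) h3)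
    intro ψ
    exact (Nat.eq_of_mul_eq_mul_right (hd0 ψ) (h6 ψ (Finset.mem_univ _))).symm
  funext g
  rw [expand_apply χ (IsChar.isClass hχ) g, Finset.sum_apply, hsum (fun μ => μ g)]
  refine Finset.sum_congr rfl fun ψ _ => ?_
  rw [hn, h5]
  split_ifs <;> simp

end Deg

variable {L : Type*} [Group L] [Fintype L] (K W₁ W₂ : Subgroup L) [hK : K.Normal] (hKW₁ : K ⊓ W₁ = ⊥) (hKW₁' : K ⊔ W₁ = ⊤)
  (hW₁ : W₁ ≠ ⊥) (hW₁c : IsCyclic W₁) (hHall : Nat.Coprime (Nat.card W₁) W₁.index) (hW₂ : W₂ ≠ ⊥) (hW₂c : IsCyclic W₂)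
  (hW₂K : W₂ ≤ K) (hC : ∀ x ∈ W₁, x ≠ 1 → K ⊓ Subgroup.centralizer ({x} : Set L) = W₂)
include hKW₁ hW₂K

theorem inter {x : L} (hx : x ∈ W₁ ⊔ W₂) (hxK : x ∈ K) (hcomm : ∀ a ∈ W₁, ∀ b ∈ W₂, a * b = b * a) : x ∈ W₂ := by
  obtain ⟨a, ha, b, hb, e⟩ := Cfsg.Agent.H10.Dade.mem_sup_of_norm (H := W₁) (K := W₂) (fun k hk h hh => by
    rw [← hcomm h hh k hk]; simpa using hh) hx
  have h1 : a ∈ K ⊓ W₁ := by
    refine ⟨?_, ha⟩
    have h2 := K.mul_mem hxK (K.inv_mem (hW₂K hb))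
    rw [← e, mul_inv_cancel_right] at h2
    exact h2
  rw [hKW₁, Subgroup.mem_bot] at h1
  rw [← e, h1, one_mul]
  exact hb

/-- functions vanishing on `W₂` induce to functions vanishing on `K` -/
theorem ind_van (hcomm : ∀ a ∈ W₁, ∀ b ∈ W₂, a * b = b * a) {f : ↥(W₁ ⊔ W₂) → ℂ}
    (hf : ∀ w : ↥(W₁ ⊔ W₂), (w : L) ∈ W₂ → f w = 0) {k : L} (hk : k ∈ K) : indFun (W₁ ⊔ W₂) f k = 0 := by
  rw [indFun, Finset.sum_eq_zero, mul_zero]
  intro x _
  by_cases h : x⁻¹ * k * x ∈ W₁ ⊔ W₂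
  · rw [ext_mem (W₁ ⊔ W₂) f h]
    apply hf
    apply inter K W₁ W₂ hKW₁ hW₂K h _ hcomm
    have := hK.conj_mem k hk x⁻¹
    rwa [inv_inv] at this
  · exact ext_not_mem (W₁ ⊔ W₂) f h

include hKW₁' hW₁ hW₁c hHall hW₂ hW₂c hC

theorem main : (∀ θ : K → ℂ, IsIrrCharacter K θ →
      (∃ x ∈ W₁, (fun k : K => θ ⟨x * k * x⁻¹, hK.conj_mem (k : L) k.2 x⟩) ≠ θ) → IsIrrCharacter L (indFun K θ)) ∧
    Nat.card {θ : IrrCharacter K // ∀ x ∈ W₁, (fun k : K => (θ : K → ℂ) ⟨x * k * x⁻¹, hK.conj_mem (k : L) k.2 x⟩) = θ} =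
      Nat.card W₂ ∧
    (∀ θ : K → ℂ, IsIrrCharacter K θ → (∀ x ∈ W₁, (fun k : K => θ ⟨x * k * x⁻¹, hK.conj_mem (k : L) k.2 x⟩) = θ) →
      ∃ C : Finset (L → ℂ), C.card = Nat.card W₁ ∧ (∀ μ ∈ C, IsIrrCharacter L μ) ∧ indFun K θ = ∑ μ ∈ C, μ) := by
  classical
  haveI := Fintype.ofFinite K
  haveI := Fintype.ofFinite ↥(W₁ ⊔ W₂)
  haveI := Fintype.ofFinite (↥(W₁ ⊔ W₂) →* ℂˣ)
  have hself := Cfsg.Agent.H10.OOGrp2.selfNorm K W₁ W₂ hKW₁ hKW₁' hW₁ hW₁c hHall hW₂ hW₂c hW₂K hC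
  obtain ⟨μ, δ, hinj, hirr, hδ1, hind, -, -, -⟩ := exists_mu K W₁ W₂ hKW₁ hKW₁' hW₁ hW₁c hHall hW₂ hW₂c hW₂K hC
  have hcm := hcomm hself
  obtain ⟨r, hr⟩ : ∃ r : (↥(W₁ ⊔ W₂) →* ℂˣ) → (↥(W₁ ⊔ W₂) →* ℂˣ) → Prop, r = fun ω ω' =>
    ∀ w : ↥(W₁ ⊔ W₂), (w : L) ∈ W₂ → ω w = ω' w := ⟨_, rfl⟩
  have hr' : ∀ ω ω', r ω ω' ↔ ∀ w : ↥(W₁ ⊔ W₂), (w : L) ∈ W₂ → ω w = ω' w := by rw [hr]; exact fun _ _ => Iff.rfl
  have rrefl : ∀ ω, r ω ω := fun ω => (hr' _ _).2 fun w _ => rfl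
  obtain ⟨Cl, hCld⟩ : ∃ Cl : (↥(W₁ ⊔ W₂) →* ℂˣ) → Finset (L → ℂ), Cl = fun ω =>
    (Finset.univ.filter (fun ω' => r ω ω')).image μ := ⟨_, rfl⟩
  have hCm : ∀ ω χ, χ ∈ Cl ω ↔ ∃ ω', r ω ω' ∧ μ ω' = χ := by
    intro ω χ
    rw [hCld]
    simp
  have hCl : ∀ ω, (Cl ω).card = Nat.card W₁ := by
    intro ω
    rw [hCld]
    show ((Finset.univ.filter (fun ω' => r ω ω')).image μ).card = _
    rw [Finset.card_image_of_injective _ hinj, ← card_X1 hself, ← Fintype.card_subtype, ← Nat.card_eq_fintype_card]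
    symm
    refine Nat.card_congr (Equiv.ofBijective (fun lam : {φ : ↥(W₁ ⊔ W₂) →* ℂˣ // X1 W₁ W₂ φ} =>
      (⟨(lam : ↥(W₁ ⊔ W₂) →* ℂˣ) * ω, (hr' _ _).2 fun w hw => by
        rw [MonoidHom.mul_apply, lam.2 w hw, one_mul]⟩ : {ω' // r ω ω'})) ⟨?_, ?_⟩)
    · intro a b h
      have h1 : (a : ↥(W₁ ⊔ W₂) →* ℂˣ) * ω = b * ω := congrArg Subtype.val h
      exact Subtype.ext (mul_right_cancel h1)
    · rintro ⟨ω', h⟩
      have h' := (hr' _ _).1 h
      refine ⟨⟨ω' * ω⁻¹, fun w hw => ?_⟩, Subtype.ext ?_⟩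
      · rw [MonoidHom.mul_apply, MonoidHom.inv_apply, ← h' w hw, mul_inv_cancel]
      · apply MonoidHom.ext
        intro w
        show ω' w * (ω w)⁻¹ * ω w = ω' w
        exact inv_mul_cancel_right _ _
  have hidx : K.index = Nat.card W₁ := by
    have hcomp : W₁.IsComplement' K := (Subgroup.isComplement'_of_disjoint_and_mul_eq_univ (disjoint_iff.2 hKW₁) (by
      rw [← Subgroup.normal_mul, hKW₁']; rfl)).symm
    exact hcomp.index_eq_card
  have hres : ∀ ω ω', r ω ω' → ∀ k : K, μ ω k = μ ω' k := by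
    intro ω ω' h k
    have h1 := (hind ω ω' ((hr' _ _).1 h)).2
    have h2 := ind_van K W₁ W₂ hKW₁ hW₂K hcm (f := fun w => (ω w : ℂ) - (ω' w : ℂ)) (fun w hw => by
      rw [(hr' _ _).1 h w hw, sub_self]) k.2
    rw [h1, Pi.smul_apply, Pi.sub_apply, smul_eq_mul] at h2
    rcases mul_eq_zero.1 h2 with h3 | h3
    · rcases hδ1 ω with h4 | h4 <;> rw [h4] at h3 <;> norm_num at h3
    · exact sub_eq_zero.1 h3
  have hW1pos : 0 < Nat.card W₁ := Nat.card_pos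
  have key : ∀ ω, IsIrrCharacter K (fun k : K => μ ω k) ∧ indFun K (fun k : K => μ ω k) = ∑ χ ∈ Cl ω, χ := by
    intro ω
    obtain ⟨θ, hθ, hne⟩ := exists_constituent_res (H := K) (hirr ω)
    obtain ⟨n, hn⟩ := ci_char_nat (IsChar.res (IsIrr.isCharacter (hirr ω)) K) (IsIrr.isCharacter hθ)
    have hn0 : 1 ≤ n := Nat.one_le_iff_ne_zero.2 fun h => hne (by rw [hn, h]; simp)
    obtain ⟨d, hd0, hd⟩ := IsIrr.one_eq_nat hθ
    obtain ⟨m, hm0, hm⟩ := IsIrr.one_eq_nat (hirr ω)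
    have hcl := congrFun (clifford hK (hirr ω) hθ hne) 1
    have horb1 : θ ∈ orb hK θ := (mem_orb hK θ θ).2 ⟨1, cj_one hK θ⟩
    have hdm : d ≤ m := by
      have h1 : ∑ ψ ∈ orb hK θ, ψ 1 = ((orb hK θ).card : ℂ) * d := by
        rw [Finset.sum_congr rfl (g := fun _ => (d : ℂ)), Finset.sum_const, nsmul_eq_mul]
        intro ψ hψ
        obtain ⟨g, rfl⟩ := (mem_orb hK θ ψ).1 hψ
        rw [cj_apply_one, hd]
      rw [hn, Pi.smul_apply, Finset.sum_apply, h1, Subgroup.coe_one, hm, smul_eq_mul] at hcl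
      have h2 : m = n * ((orb hK θ).card * d) := by exact_mod_cast hcl
      have h3 : 1 ≤ (orb hK θ).card := Finset.card_pos.2 ⟨θ, horb1⟩
      rw [h2]
      calc d = 1 * (1 * d) := by ring
        _ ≤ _ := Nat.mul_le_mul hn0 (Nat.mul_le_mul_right _ h3)
    have hone : ∀ χ ∈ Cl ω, χ 1 = (m : ℂ) := by
      intro χ hχ
      obtain ⟨ω', h, rfl⟩ := (hCm _ _).1 hχ
      have := hres ω ω' h 1
      rw [Subgroup.coe_one] at this
      rw [← this, hm]
    have hsumdeg : ∑ χ ∈ Cl ω, (χ 1).re = (Nat.card W₁ : ℝ) * m := by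
      rw [Finset.sum_congr rfl fun χ hχ => by rw [hone χ hχ, Complex.natCast_re], Finset.sum_const, hCl, nsmul_eq_mul]
    have hI : indFun K θ = ∑ χ ∈ Cl ω, χ := by
      apply char_eq_of_deg (IsChar.ind (IsIrr.isCharacter hθ)) (Cl ω)
      · intro χ hχ
        obtain ⟨ω', h, rfl⟩ := (hCm _ _).1 hχ
        exact hirr ω'
      · intro χ hχ
        obtain ⟨ω', h, rfl⟩ := (hCm _ _).1 hχ
        rw [constituent_ind_iff (IsIrr.isCharacter (hirr ω'))]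
        have : (fun k : K => μ ω' k) = fun k : K => μ ω k := by
          funext k; exact (hres ω ω' h k).symm
        rw [this]; exact hne
      · rw [hsumdeg, ind_one, hidx, hd]
        have : (((Nat.card W₁ : ℂ) * (d : ℂ))).re = (Nat.card W₁ : ℝ) * d := by
          rw [← Nat.cast_mul, Complex.natCast_re]; push_cast; ring
        rw [this]
        exact mul_le_mul_of_nonneg_left (by exact_mod_cast hdm) (by positivity)
    have hmd : m = d := by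
      have h1 := congrFun hI 1
      rw [ind_one, hidx, hd, Finset.sum_apply, Finset.sum_congr rfl hone, Finset.sum_const, hCl, nsmul_eq_mul] at h1
      have h2 : Nat.card W₁ * d = Nat.card W₁ * m := by exact_mod_cast h1
      exact (Nat.eq_of_mul_eq_mul_left hW1pos h2).symm
    have hR : (fun k : K => μ ω k) = θ := by
      have := char_eq_of_deg (IsChar.res (IsIrr.isCharacter (hirr ω)) K) {θ} (by
        intro χ hχ; rw [Finset.mem_singleton.1 hχ]; exact hθ) (by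
        intro χ hχ; rw [Finset.mem_singleton.1 hχ]; exact hne) (by
        rw [Finset.sum_singleton, Subgroup.coe_one, hm, hd, hmd])
      rw [this, Finset.sum_singleton]
    rw [hR]
    exact ⟨hθ, hI⟩
  have hcjres : ∀ ω, ∀ x : L, cj hK x (fun k : K => μ ω k) = fun k : K => μ ω k := fun ω x =>
    cj_res hK (IsIrr.isClass (hirr ω)) x
  -- the map from X2 to invariant characters
  let A := {θ : IrrCharacter K // ∀ x ∈ W₁, (fun k : K => (θ : K → ℂ) ⟨x * k * x⁻¹, hK.conj_mem (k : L) k.2 x⟩) = θ}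
  let F : {φ : ↥(W₁ ⊔ W₂) →* ℂˣ // X2 W₁ W₂ φ} → A := fun ω => ⟨⟨fun k : K => μ ω k, (key ω).1⟩, fun x _ => hcjres ω x⟩
  have hF : Function.Injective F := by
    rintro ⟨ω, hω⟩ ⟨η, hη⟩ h
    have h1 : (fun k : K => μ ω k) = fun k : K => μ η k := congrArg (fun q : A => ((q.1 : IrrCharacter K) : K → ℂ)) h
    have h2 : ∑ χ ∈ Cl ω, χ = ∑ χ ∈ Cl η, χ := by
      rw [← (key ω).2, ← (key η).2, h1]
    have h3 : μ ω ∈ Cl ω := (hCm _ _).2 ⟨ω, rrefl ω, rfl⟩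
    have h4 : μ ω ∈ Cl η := by
      by_contra hno
      have e1 : classInner (∑ χ ∈ Cl ω, χ) (μ ω) = 1 := by
        rw [ci_sum_left, Finset.sum_eq_single (μ ω)]
        · exact ci_irr_self (hirr ω)
        · intro χ hχ hne
          obtain ⟨ω', -, rfl⟩ := (hCm _ _).1 hχ
          exact ci_irr_ne (hirr ω') (hirr ω) hne
        · intro h; exact absurd h3 h
      have e2 : classInner (∑ χ ∈ Cl η, χ) (μ ω) = 0 := by
        rw [ci_sum_left]
        apply Finset.sum_eq_zero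
        intro χ hχ
        have hne : χ ≠ μ ω := fun hh => hno (hh ▸ hχ)
        obtain ⟨ω', -, rfl⟩ := (hCm _ _).1 hχ
        exact ci_irr_ne (hirr ω') (hirr ω) hne
      rw [h2, e2] at e1
      norm_num at e1
    obtain ⟨ω', h5, h6⟩ := (hCm _ _).1 h4
    have h7 := hinj h6
    subst h7
    have h8 := (hr' _ _).1 h5
    apply Subtype.ext
    show ω' = η
    obtain ⟨p₁, p₂, hp1, hp2, hpw, -, -⟩ := exists_p (hdisj hself) hcm
    ext w
    rw [hpw w, map_mul, map_mul, hω _ (hp1 w), hη _ (hp1 w), h8 _ (hp2 w)]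
  have hcard1 : Nat.card W₂ ≤ Nat.card A := by
    rw [← card_X2 hself]
    exact Nat.card_le_card_of_injective F hF
  -- upper bound
  have hupper : ∀ x ∈ W₁, x ≠ 1 → Nat.card {θ : IrrCharacter K // cj hK x (θ : K → ℂ) = θ} ≤ Nat.card W₂ := by
    intro x hx hx1
    let π : IrrCharacter K → IrrCharacter K := fun χ => ⟨cj hK x χ, (cj_isIrr hK x).mpr χ.2⟩
    let τ : ConjClasses K → ConjClasses K := ConjClasses.map (MulEquiv.toMonoidHom ((MulAut.conjNormal x⁻¹ : MulAut K)))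
    have h1 := brauer_perm π τ (by
      intro χ g g' h
      have h2 : IsConj g' ((MulAut.conjNormal x⁻¹ : MulAut K) g) := ConjClasses.mk_eq_mk_iff_isConj.mp h
      have h3 : (π χ : K → ℂ) g' = (π χ : K → ℂ) ((MulAut.conjNormal x⁻¹ : MulAut K) g) := by
        obtain ⟨c, hc⟩ := isConj_iff.mp h2
        rw [← hc]
        exact (IsIrr.isClass (π χ).2 g' c).symm
      rw [h3]
      show (χ : K → ℂ) ⟨x * ((MulAut.conjNormal x⁻¹ : MulAut K) g : K) * x⁻¹, _⟩ = (χ : K → ℂ) g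
      refine congrArg (χ : K → ℂ) (Subtype.ext ?_)
      show x * (((MulAut.conjNormal x⁻¹ : MulAut K) g : K) : L) * x⁻¹ = g
      rw [MulAut.conjNormal_apply]
      group)
    have h2 : Nat.card {χ : IrrCharacter K // π χ = χ} = Nat.card {θ : IrrCharacter K // cj hK x (θ : K → ℂ) = θ} := by
      apply Nat.card_congr
      exact Equiv.subtypeEquivRight fun χ => ⟨fun h => congrArg Subtype.val h, fun h => Subtype.ext h⟩
    rw [← h2, h1]
    have hxc : Nat.Coprime (orderOf x⁻¹) (Nat.card K) := by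
      rw [orderOf_inv]
      have hcomp : K.IsComplement' W₁ := Subgroup.isComplement'_of_disjoint_and_mul_eq_univ (disjoint_iff.2 hKW₁) (by
        rw [← Subgroup.normal_mul, hKW₁']; rfl)
      have hidx : W₁.index = Nat.card K := hcomp.index_eq_card
      rw [hidx] at hHall
      refine Nat.Coprime.coprime_dvd_left ?_ hHall
      have := orderOf_dvd_natCard (⟨x, hx⟩ : W₁)
      rwa [Subgroup.orderOf_mk] at this
    refine Cfsg.Agent.S1512.result K W₂ x⁻¹ (fun h => hx1 (inv_eq_one.1 h)) hxc ?_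
    intro y hy hy1
    apply hC y _ hy1
    exact (Subgroup.zpowers_le.2 (W₁.inv_mem hx)) hy
  -- inclusion
  have hle : ∀ x ∈ W₁, Nat.card A ≤ Nat.card {θ : IrrCharacter K // cj hK x (θ : K → ℂ) = θ} := by
    intro x hx
    exact Nat.card_le_card_of_injective (fun a : A => (⟨a.1, a.2 x hx⟩ : {θ : IrrCharacter K // cj hK x (θ : K → ℂ) = θ}))
      (fun a b h => Subtype.ext (congrArg (fun q : {θ : IrrCharacter K // cj hK x (θ : K → ℂ) = θ} => q.1) h))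
  obtain ⟨⟨x₀, hx₀⟩, hx₀1'⟩ := (Subgroup.ne_bot_iff_exists_ne_one.1 hW₁)
  have hx₀1 : x₀ ≠ 1 := fun h => hx₀1' (Subtype.ext h)
  have hcardA : Nat.card A = Nat.card W₂ := le_antisymm ((hle x₀ hx₀).trans (hupper x₀ hx₀ hx₀1)) hcard1
  have hall : ∀ x ∈ W₁, x ≠ 1 → ∀ θ : IrrCharacter K, cj hK x (θ : K → ℂ) = θ →
      ∀ y ∈ W₁, (fun k : K => (θ : K → ℂ) ⟨y * k * y⁻¹, hK.conj_mem (k : L) k.2 y⟩) = θ := by
    intro x hx hx1 θ hθ
    have hinj' : Function.Injective (fun a : A => (⟨a.1, a.2 x hx⟩ : {θ : IrrCharacter K // cj hK x (θ : K → ℂ) = θ})) :=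
      fun a b h => Subtype.ext (congrArg (fun q : {θ : IrrCharacter K // cj hK x (θ : K → ℂ) = θ} => q.1) h)
    have hc : Nat.card A = Nat.card {θ : IrrCharacter K // cj hK x (θ : K → ℂ) = θ} :=
      le_antisymm (hle x hx) (by rw [hcardA]; exact hupper x hx hx1)
    obtain ⟨a, ha⟩ := ((Nat.bijective_iff_injective_and_card _).2 ⟨hinj', hc⟩).2 ⟨θ, hθ⟩
    have : a.1 = θ := congrArg Subtype.val ha
    rw [← this]
    exact a.2
  refine ⟨?_, hcardA, ?_⟩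
  · rintro θ hθ ⟨x, hx, hne⟩
    apply IsChar.isIrr_of_norm (IsChar.ind (IsIrr.isCharacter hθ))
    have hin : inertia hK θ = K := by
      apply le_antisymm _ (le_inertia hK (IsIrr.isClass hθ))
      intro g hg
      obtain ⟨k, hk, w, hw, ekw⟩ := Cfsg.Agent.H10.Dade.mem_sup_of_norm (H := K) (K := W₁) (fun k _ h hh => hK.conj_mem h hh k)
        (show g ∈ K ⊔ W₁ by rw [hKW₁']; exact Subgroup.mem_top _)
      have hwI : w ∈ inertia hK θ := by
        have h1 : w = k⁻¹ * g := by rw [← ekw]; group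
        rw [h1]
        exact (inertia hK θ).mul_mem ((inertia hK θ).inv_mem (le_inertia hK (IsIrr.isClass hθ) hk)) hg
      have hw1 : w = 1 := by
        by_contra h1
        exact hne (hall w hw h1 ⟨θ, hθ⟩ hwI x hx)
      rw [← ekw, hw1, mul_one]; exact hk
    have h1 := ci_ind_self hK hθ
    rw [hin] at h1
    have h2 : (Nat.card K : ℂ) ≠ 0 := cardH_ne_zero K
    exact mul_left_cancel₀ h2 (by rw [h1, mul_one])
  · intro θ hθ hinv
    have hb : Function.Bijective F := (Nat.bijective_iff_injective_and_card _).2 ⟨hF, by rw [card_X2 hself]; exact hcardA.symm⟩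
    obtain ⟨ω, hω⟩ := hb.2 ⟨⟨θ, hθ⟩, hinv⟩
    have h1 : (fun k : K => μ ω k) = θ := congrArg (fun q : A => ((q.1 : IrrCharacter K) : K → ℂ)) hω
    refine ⟨Cl ω, hCl ω, ?_, ?_⟩
    · intro χ hχ
      obtain ⟨ω', h, rfl⟩ := (hCm _ _).1 hχ
      exact hirr ω'
    · rw [← h1]; exact (key ω).2

end Cfsg.Agent.H10.TypeP3
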