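import Mathlib
import Cfsg.Agent.H10_TypeP3

/-!
H10_PrD1: the characters μ_ij of Peterfalvi (4.3)-(4.5), complete statement.
-/

set_option autoImplicit false
set_option linter.style.haveILetI false
set_option linter.unusedSectionVars false

namespace Cfsg.Agent.H10.PrD1

open Cfsg Cfsg.Agent.H3.CharIrr Cfsg.Agent.H3.CharComplete Cfsg.Agent.H3.CharInd Cfsg.Agent.H3.CharMult
  Cfsg.Agent.H3.CharBasic Cfsg.Agent.H3.CharCalc Cfsg.Agent.H3.Clifford Cfsg.Agent.H3.CharInt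
  Cfsg.Agent.H10.CycTI Cfsg.Agent.H10.CycTI2 Cfsg.Agent.H10.CycTI3 Cfsg.Agent.H10.CycTI4
  Cfsg.Agent.H10.TypeP Cfsg.Agent.H10.TypeP2 Cfsg.Agent.H10.CohI Cfsg.Agent.H10.TypeP3
open scoped ComplexConjugate

variable {L : Type*} [Group L] [Fintype L] (K W₁ W₂ : Subgroup L) [hK : K.Normal] (hKW₁ : K ⊓ W₁ = ⊥) (hKW₁' : K ⊔ W₁ = ⊤)
  (hW₁ : W₁ ≠ ⊥) (hW₁c : IsCyclic W₁) (hHall : Nat.Coprime (Nat.card W₁) W₁.index) (hW₂ : W₂ ≠ ⊥) (hW₂c : IsCyclic W₂)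
  (hW₂K : W₂ ≤ K) (hC : ∀ x ∈ W₁, x ≠ 1 → K ⊓ Subgroup.centralizer ({x} : Set L) = W₂)
include hKW₁ hKW₁' hW₁ hW₁c hHall hW₂ hW₂c hW₂K hC

theorem full (hodd : Odd (Nat.card W₁)) : ∃ (μ : (↥(W₁ ⊔ W₂) →* ℂˣ) → (L → ℂ)) (δ : (↥(W₁ ⊔ W₂) →* ℂˣ) → ℂ), Function.Injective μ ∧
    (∀ ω, IsIrrCharacter L (μ ω)) ∧ (∀ ω, δ ω = 1 ∨ δ ω = -1) ∧
    (∀ ω ω' : ↥(W₁ ⊔ W₂) →* ℂˣ, (∀ w : ↥(W₁ ⊔ W₂), (w : L) ∈ W₂ → ω w = ω' w) →
      δ ω = δ ω' ∧ indFun (W₁ ⊔ W₂) (fun w => (ω w : ℂ) - (ω' w : ℂ)) = δ ω • (μ ω - μ ω')) ∧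
    (∀ ω, ∀ w : ↥(W₁ ⊔ W₂), (w : L) ∉ W₂ → μ ω w = δ ω * (ω w : ℂ)) ∧
    (∀ θ : L → ℂ, IsIrrCharacter L θ → (∀ ω, θ ≠ μ ω) → ∀ w : ↥(W₁ ⊔ W₂), (w : L) ∉ W₂ → θ w = 0) ∧
    (∀ ω, ∃ n : ℤ, μ ω 1 - δ ω = n * (Nat.card W₁ : ℂ)) ∧
    (∀ ω, IsIrrCharacter K (fun k : K => μ ω k)) ∧
    (∀ ω ω' : ↥(W₁ ⊔ W₂) →* ℂˣ, (∀ w : ↥(W₁ ⊔ W₂), (w : L) ∈ W₂ → ω w = ω' w) → ∀ k : K, μ ω k = μ ω' k) ∧
    (∀ (ω : ↥(W₁ ⊔ W₂) →* ℂˣ) (s : Finset (↥(W₁ ⊔ W₂) →* ℂˣ)),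
      (∀ ω', ω' ∈ s ↔ ∀ w : ↥(W₁ ⊔ W₂), (w : L) ∈ W₂ → ω w = ω' w) →
      indFun K (fun k : K => μ ω k) = ∑ ω' ∈ s, μ ω') ∧
    (∀ θ : K → ℂ, IsIrrCharacter K θ → (∀ x ∈ W₁, (fun k : K => θ ⟨x * k * x⁻¹, hK.conj_mem (k : L) k.2 x⟩) = θ) →
      ∃ ω, X2 W₁ W₂ ω ∧ (fun k : K => μ ω k) = θ) ∧
    (∀ θ : K → ℂ, IsIrrCharacter K θ → (∀ ω, (fun k : K => μ ω k) ≠ θ) → IsIrrCharacter L (indFun K θ)) ∧
    (∀ ω, X1 W₁ W₂ ω → δ ω = 1 ∧ (∀ k : K, μ ω k = 1) ∧ ∀ w : ↥(W₁ ⊔ W₂), μ ω w = (ω w : ℂ)) := by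
  classical
  haveI := Fintype.ofFinite K
  haveI := Fintype.ofFinite ↥(W₁ ⊔ W₂)
  haveI := Fintype.ofFinite (↥(W₁ ⊔ W₂) →* ℂˣ)
  have hself := Cfsg.Agent.H10.OOGrp2.selfNorm K W₁ W₂ hKW₁ hKW₁' hW₁ hW₁c hHall hW₂ hW₂c hW₂K hC
  obtain ⟨hmain, -, -⟩ := main K W₁ W₂ hKW₁ hKW₁' hW₁ hW₁c hHall hW₂ hW₂c hW₂K hC
  obtain ⟨μ, δ, hinj, hirr, hδ1, hind, hval, hvan, hcong⟩ := exists_mu K W₁ W₂ hKW₁ hKW₁' hW₁ hW₁c hHall hW₂ hW₂c hW₂K hC
  have hcm := hcomm hself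
  obtain ⟨r, hr⟩ : ∃ r : (↥(W₁ ⊔ W₂) →* ℂˣ) → (↥(W₁ ⊔ W₂) →* ℂˣ) → Prop, r = fun ω ω' =>
    ∀ w : ↥(W₁ ⊔ W₂), (w : L) ∈ W₂ → ω w = ω' w := ⟨_, rfl⟩
  have hr' : ∀ ω ω', r ω ω' ↔ ∀ w : ↥(W₁ ⊔ W₂), (w : L) ∈ W₂ → ω w = ω' w := by rw [hr]; exact fun _ _ => Iff.rfl
  have rrefl : ∀ ω, r ω ω := fun ω => (hr' _ _).2 fun w _ => rfl
  obtain ⟨Cl, hCld⟩ : ∃ Cl : (↥(W₁ ⊔ W₂) →* ℂˣ) → Finset (L → ℂ), Cl = fun ω =>
    (Finset.univ.filter (fun ω' => r ω ω')).image μ := ⟨_, rfl⟩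
  have hCm : ∀ ω χ, χ ∈ Cl ω ↔ ∃ ω', r ω ω' ∧ μ ω' = χ := by
    intro ω χ
    rw [hCld]
    simp
  have hCl : ∀ ω, (Cl ω).card = Nat.card W₁ := by
    intro ω
    rw [hCld]
    show ((Finset.univ.filter (fun ω' => r ω ω')).image μ).card = _
    rw [Finset.card_image_of_injective _ hinj, ← card_X1 hself, ← Fintype.card_subtype, ← Nat.card_eq_fintype_card]
    symm
    refine Nat.card_congr (Equiv.ofBijective (fun lam : {φ : ↥(W₁ ⊔ W₂) →* ℂˣ // X1 W₁ W₂ φ} =>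
      (⟨(lam : ↥(W₁ ⊔ W₂) →* ℂˣ) * ω, (hr' _ _).2 fun w hw => by
        rw [MonoidHom.mul_apply, lam.2 w hw, one_mul]⟩ : {ω' // r ω ω'})) ⟨?_, ?_⟩)
    · intro a b h
      have h1 : (a : ↥(W₁ ⊔ W₂) →* ℂˣ) * ω = b * ω := congrArg Subtype.val h
      exact Subtype.ext (mul_right_cancel h1)
    · rintro ⟨ω', h⟩
      have h' := (hr' _ _).1 h
      refine ⟨⟨ω' * ω⁻¹, fun w hw => ?_⟩, Subtype.ext ?_⟩
      · rw [MonoidHom.mul_apply, MonoidHom.inv_apply, ← h' w hw, mul_inv_cancel]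
      · apply MonoidHom.ext
        intro w
        show ω' w * (ω w)⁻¹ * ω w = ω' w
        exact inv_mul_cancel_right _ _
  have hidx : K.index = Nat.card W₁ := by
    have hcomp : W₁.IsComplement' K := (Subgroup.isComplement'_of_disjoint_and_mul_eq_univ (disjoint_iff.2 hKW₁) (by
      rw [← Subgroup.normal_mul, hKW₁']; rfl)).symm
    exact hcomp.index_eq_card
  have hres : ∀ ω ω', r ω ω' → ∀ k : K, μ ω k = μ ω' k := by
    intro ω ω' h k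
    have h1 := (hind ω ω' ((hr' _ _).1 h)).2
    have h2 := ind_van K W₁ W₂ hKW₁ hW₂K hcm (f := fun w => (ω w : ℂ) - (ω' w : ℂ)) (fun w hw => by
      rw [(hr' _ _).1 h w hw, sub_self]) k.2
    rw [h1, Pi.smul_apply, Pi.sub_apply, smul_eq_mul] at h2
    rcases mul_eq_zero.1 h2 with h3 | h3
    · rcases hδ1 ω with h4 | h4 <;> rw [h4] at h3 <;> norm_num at h3
    · exact sub_eq_zero.1 h3
  have hW1pos : 0 < Nat.card W₁ := Nat.card_pos
  have key : ∀ ω, IsIrrCharacter K (fun k : K => μ ω k) ∧ indFun K (fun k : K => μ ω k) = ∑ χ ∈ Cl ω, χ := by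
    intro ω
    obtain ⟨θ, hθ, hne⟩ := exists_constituent_res (H := K) (hirr ω)
    obtain ⟨n, hn⟩ := ci_char_nat (IsChar.res (IsIrr.isCharacter (hirr ω)) K) (IsIrr.isCharacter hθ)
    have hn0 : 1 ≤ n := Nat.one_le_iff_ne_zero.2 fun h => hne (by rw [hn, h]; simp)
    obtain ⟨d, hd0, hd⟩ := IsIrr.one_eq_nat hθ
    obtain ⟨m, hm0, hm⟩ := IsIrr.one_eq_nat (hirr ω)
    have hcl := congrFun (clifford hK (hirr ω) hθ hne) 1
    have horb1 : θ ∈ orb hK θ := (mem_orb hK θ θ).2 ⟨1, cj_one hK θ⟩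
    have hdm : d ≤ m := by
      have h1 : ∑ ψ ∈ orb hK θ, ψ 1 = ((orb hK θ).card : ℂ) * d := by
        rw [Finset.sum_congr rfl (g := fun _ => (d : ℂ)), Finset.sum_const, nsmul_eq_mul]
        intro ψ hψ
        obtain ⟨g, rfl⟩ := (mem_orb hK θ ψ).1 hψ
        rw [cj_apply_one, hd]
      rw [hn, Pi.smul_apply, Finset.sum_apply, h1, Subgroup.coe_one, hm, smul_eq_mul] at hcl
      have h2 : m = n * ((orb hK θ).card * d) := by exact_mod_cast hcl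
      have h3 : 1 ≤ (orb hK θ).card := Finset.card_pos.2 ⟨θ, horb1⟩
      rw [h2]
      calc d = 1 * (1 * d) := by ring
        _ ≤ _ := Nat.mul_le_mul hn0 (Nat.mul_le_mul_right _ h3)
    have hone : ∀ χ ∈ Cl ω, χ 1 = (m : ℂ) := by
      intro χ hχ
      obtain ⟨ω', h, rfl⟩ := (hCm _ _).1 hχ
      have := hres ω ω' h 1
      rw [Subgroup.coe_one] at this
      rw [← this, hm]
    have hsumdeg : ∑ χ ∈ Cl ω, (χ 1).re = (Nat.card W₁ : ℝ) * m := by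
      rw [Finset.sum_congr rfl fun χ hχ => by rw [hone χ hχ, Complex.natCast_re], Finset.sum_const, hCl, nsmul_eq_mul]
    have hI : indFun K θ = ∑ χ ∈ Cl ω, χ := by
      apply char_eq_of_deg (IsChar.ind (IsIrr.isCharacter hθ)) (Cl ω)
      · intro χ hχ
        obtain ⟨ω', h, rfl⟩ := (hCm _ _).1 hχ
        exact hirr ω'
      · intro χ hχ
        obtain ⟨ω', h, rfl⟩ := (hCm _ _).1 hχ
        rw [constituent_ind_iff (IsIrr.isCharacter (hirr ω'))]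
        have : (fun k : K => μ ω' k) = fun k : K => μ ω k := by
          funext k; exact (hres ω ω' h k).symm
        rw [this]; exact hne
      · rw [hsumdeg, ind_one, hidx, hd]
        have : (((Nat.card W₁ : ℂ) * (d : ℂ))).re = (Nat.card W₁ : ℝ) * d := by
          rw [← Nat.cast_mul, Complex.natCast_re]; push_cast; ring
        rw [this]
        exact mul_le_mul_of_nonneg_left (by exact_mod_cast hdm) (by positivity)
    have hmd : m = d := by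
      have h1 := congrFun hI 1
      rw [ind_one, hidx, hd, Finset.sum_apply, Finset.sum_congr rfl hone, Finset.sum_const, hCl, nsmul_eq_mul] at h1
      have h2 : Nat.card W₁ * d = Nat.card W₁ * m := by exact_mod_cast h1
      exact (Nat.eq_of_mul_eq_mul_left hW1pos h2).symm
    have hR : (fun k : K => μ ω k) = θ := by
      have := char_eq_of_deg (IsChar.res (IsIrr.isCharacter (hirr ω)) K) {θ} (by
        intro χ hχ; rw [Finset.mem_singleton.1 hχ]; exact hθ) (by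
        intro χ hχ; rw [Finset.mem_singleton.1 hχ]; exact hne) (by
        rw [Finset.sum_singleton, Subgroup.coe_one, hm, hd, hmd])
      rw [this, Finset.sum_singleton]
    rw [hR]
    exact ⟨hθ, hI⟩
  have hcjres : ∀ ω, ∀ x : L, cj hK x (fun k : K => μ ω k) = fun k : K => μ ω k := fun ω x =>
    cj_res hK (IsIrr.isClass (hirr ω)) x
  -- the map from X2 to invariant characters
  let A := {θ : IrrCharacter K // ∀ x ∈ W₁, (fun k : K => (θ : K → ℂ) ⟨x * k * x⁻¹, hK.conj_mem (k : L) k.2 x⟩) = θ}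
  let F : {φ : ↥(W₁ ⊔ W₂) →* ℂˣ // X2 W₁ W₂ φ} → A := fun ω => ⟨⟨fun k : K => μ ω k, (key ω).1⟩, fun x _ => hcjres ω x⟩
  have hF : Function.Injective F := by
    rintro ⟨ω, hω⟩ ⟨η, hη⟩ h
    have h1 : (fun k : K => μ ω k) = fun k : K => μ η k := congrArg (fun q : A => ((q.1 : IrrCharacter K) : K → ℂ)) h
    have h2 : ∑ χ ∈ Cl ω, χ = ∑ χ ∈ Cl η, χ := by
      rw [← (key ω).2, ← (key η).2, h1]
    have h3 : μ ω ∈ Cl ω := (hCm _ _).2 ⟨ω, rrefl ω, rfl⟩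
    have h4 : μ ω ∈ Cl η := by
      by_contra hno
      have e1 : classInner (∑ χ ∈ Cl ω, χ) (μ ω) = 1 := by
        rw [ci_sum_left, Finset.sum_eq_single (μ ω)]
        · exact ci_irr_self (hirr ω)
        · intro χ hχ hne
          obtain ⟨ω', -, rfl⟩ := (hCm _ _).1 hχ
          exact ci_irr_ne (hirr ω') (hirr ω) hne
        · intro h; exact absurd h3 h
      have e2 : classInner (∑ χ ∈ Cl η, χ) (μ ω) = 0 := by
        rw [ci_sum_left]
        apply Finset.sum_eq_zero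
        intro χ hχ
        have hne : χ ≠ μ ω := fun hh => hno (hh ▸ hχ)
        obtain ⟨ω', -, rfl⟩ := (hCm _ _).1 hχ
        exact ci_irr_ne (hirr ω') (hirr ω) hne
      rw [h2, e2] at e1
      norm_num at e1
    obtain ⟨ω', h5, h6⟩ := (hCm _ _).1 h4
    have h7 := hinj h6
    subst h7
    have h8 := (hr' _ _).1 h5
    apply Subtype.ext
    show ω' = η
    obtain ⟨p₁, p₂, hp1, hp2, hpw, -, -⟩ := exists_p (hdisj hself) hcm
    ext w
    rw [hpw w, map_mul, map_mul, hω _ (hp1 w), hη _ (hp1 w), h8 _ (hp2 w)]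
  have hcard1 : Nat.card W₂ ≤ Nat.card A := by
    rw [← card_X2 hself]
    exact Nat.card_le_card_of_injective F hF
  -- upper bound
  have hupper : ∀ x ∈ W₁, x ≠ 1 → Nat.card {θ : IrrCharacter K // cj hK x (θ : K → ℂ) = θ} ≤ Nat.card W₂ := by
    intro x hx hx1
    let π : IrrCharacter K → IrrCharacter K := fun χ => ⟨cj hK x χ, (cj_isIrr hK x).mpr χ.2⟩
    let τ : ConjClasses K → ConjClasses K := ConjClasses.map (MulEquiv.toMonoidHom ((MulAut.conjNormal x⁻¹ : MulAut K)))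
    have h1 := brauer_perm π τ (by
      intro χ g g' h
      have h2 : IsConj g' ((MulAut.conjNormal x⁻¹ : MulAut K) g) := ConjClasses.mk_eq_mk_iff_isConj.mp h
      have h3 : (π χ : K → ℂ) g' = (π χ : K → ℂ) ((MulAut.conjNormal x⁻¹ : MulAut K) g) := by
        obtain ⟨c, hc⟩ := isConj_iff.mp h2
        rw [← hc]
        exact (IsIrr.isClass (π χ).2 g' c).symm
      rw [h3]
      show (χ : K → ℂ) ⟨x * ((MulAut.conjNormal x⁻¹ : MulAut K) g : K) * x⁻¹, _⟩ = (χ : K → ℂ) g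
      refine congrArg (χ : K → ℂ) (Subtype.ext ?_)
      show x * (((MulAut.conjNormal x⁻¹ : MulAut K) g : K) : L) * x⁻¹ = g
      rw [MulAut.conjNormal_apply]
      group)
    have h2 : Nat.card {χ : IrrCharacter K // π χ = χ} = Nat.card {θ : IrrCharacter K // cj hK x (θ : K → ℂ) = θ} := by
      apply Nat.card_congr
      exact Equiv.subtypeEquivRight fun χ => ⟨fun h => congrArg Subtype.val h, fun h => Subtype.ext h⟩
    rw [← h2, h1]
    have hxc : Nat.Coprime (orderOf x⁻¹) (Nat.card K) := by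
      rw [orderOf_inv]
      have hcomp : K.IsComplement' W₁ := Subgroup.isComplement'_of_disjoint_and_mul_eq_univ (disjoint_iff.2 hKW₁) (by
        rw [← Subgroup.normal_mul, hKW₁']; rfl)
      have hidx : W₁.index = Nat.card K := hcomp.index_eq_card
      rw [hidx] at hHall
      refine Nat.Coprime.coprime_dvd_left ?_ hHall
      have := orderOf_dvd_natCard (⟨x, hx⟩ : W₁)
      rwa [Subgroup.orderOf_mk] at this
    refine Cfsg.Agent.S1512.result K W₂ x⁻¹ (fun h => hx1 (inv_eq_one.1 h)) hxc ?_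
    intro y hy hy1
    apply hC y _ hy1
    exact (Subgroup.zpowers_le.2 (W₁.inv_mem hx)) hy
  -- inclusion
  have hle : ∀ x ∈ W₁, Nat.card A ≤ Nat.card {θ : IrrCharacter K // cj hK x (θ : K → ℂ) = θ} := by
    intro x hx
    exact Nat.card_le_card_of_injective (fun a : A => (⟨a.1, a.2 x hx⟩ : {θ : IrrCharacter K // cj hK x (θ : K → ℂ) = θ}))
      (fun a b h => Subtype.ext (congrArg (fun q : {θ : IrrCharacter K // cj hK x (θ : K → ℂ) = θ} => q.1) h))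
  obtain ⟨⟨x₀, hx₀⟩, hx₀1'⟩ := (Subgroup.ne_bot_iff_exists_ne_one.1 hW₁)
  have hx₀1 : x₀ ≠ 1 := fun h => hx₀1' (Subtype.ext h)
  have hcardA : Nat.card A = Nat.card W₂ := le_antisymm ((hle x₀ hx₀).trans (hupper x₀ hx₀ hx₀1)) hcard1
  have hall : ∀ x ∈ W₁, x ≠ 1 → ∀ θ : IrrCharacter K, cj hK x (θ : K → ℂ) = θ →
      ∀ y ∈ W₁, (fun k : K => (θ : K → ℂ) ⟨y * k * y⁻¹, hK.conj_mem (k : L) k.2 y⟩) = θ := by
    intro x hx hx1 θ hθ
    have hinj' : Function.Injective (fun a : A => (⟨a.1, a.2 x hx⟩ : {θ : IrrCharacter K // cj hK x (θ : K → ℂ) = θ})) :=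
      fun a b h => Subtype.ext (congrArg (fun q : {θ : IrrCharacter K // cj hK x (θ : K → ℂ) = θ} => q.1) h)
    have hc : Nat.card A = Nat.card {θ : IrrCharacter K // cj hK x (θ : K → ℂ) = θ} :=
      le_antisymm (hle x hx) (by rw [hcardA]; exact hupper x hx hx1)
    obtain ⟨a, ha⟩ := ((Nat.bijective_iff_injective_and_card _).2 ⟨hinj', hc⟩).2 ⟨θ, hθ⟩
    have : a.1 = θ := congrArg Subtype.val ha
    rw [← this]
    exact a.2
  have hb : Function.Bijective F := (Nat.bijective_iff_injective_and_card _).2 ⟨hF, by rw [card_X2 hself]; exact hcardA.symm⟩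
  have hclass : ∀ θ : K → ℂ, IsIrrCharacter K θ → (∀ x ∈ W₁, (fun k : K => θ ⟨x * k * x⁻¹, hK.conj_mem (k : L) k.2 x⟩) = θ) →
      ∃ ω, X2 W₁ W₂ ω ∧ (fun k : K => μ ω k) = θ := by
    intro θ hθ hinv
    obtain ⟨ω, hω⟩ := hb.2 ⟨⟨θ, hθ⟩, hinv⟩
    exact ⟨ω, ω.2, congrArg (fun q : A => ((q.1 : IrrCharacter K) : K → ℂ)) hω⟩
  refine ⟨μ, δ, hinj, hirr, hδ1, hind, hval, hvan, hcong, fun ω => (key ω).1, fun ω ω' h => hres ω ω' ((hr' _ _).2 h), ?_,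
    hclass, ?_, ?_⟩
  · intro ω s hs
    rw [(key ω).2]
    have : Cl ω = s.image μ := by
      ext χ
      rw [hCm, Finset.mem_image]
      constructor
      · rintro ⟨ω', h, e⟩; exact ⟨ω', (hs _).2 ((hr' _ _).1 h), e⟩
      · rintro ⟨ω', h, e⟩; exact ⟨ω', (hr' _ _).2 ((hs _).1 h), e⟩
    rw [this, Finset.sum_image (fun a _ b _ h => hinj h)]
  · intro θ hθ hne
    apply hmain θ hθ
    by_contra hno
    push Not at hno
    obtain ⟨ω, -, h⟩ := hclass θ hθ hno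
    exact hne ω h
  · intro lam hlam
    -- the linear character of L with kernel containing K extending lam
    obtain ⟨p₁, p₂, hp1, hp2, hpw, hq1, hq2⟩ := exists_p (hdisj hself) hcm
    -- θ₀ = 1 is invariant
    obtain ⟨ω₀, hω₀, h₀⟩ := hclass (fun _ => 1) isIrr_one (fun x _ => rfl)
    have hlin : ∀ ω, (∀ k : K, μ ω k = 1) → X1 W₁ W₂ ω ∧ δ ω = 1 ∧ ∀ w : ↥(W₁ ⊔ W₂), μ ω w = (ω w : ℂ) := by
      intro ω hk
      have hone : μ ω 1 = 1 := by simpa using hk 1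
      obtain ⟨lin, hl⟩ := IsChar.hom_of_one (IsIrr.isCharacter (hirr ω)) hone
      have hlK : ∀ k ∈ K, lin k = 1 := fun k hk' => by rw [← hl k]; exact hk ⟨k, hk'⟩
      have h2mem : ∀ w : ↥(W₁ ⊔ W₂), (w : L) ∈ W₂ → lin w = 1 := fun w hw => hlK _ (hW₂K hw)
      obtain ⟨⟨a, ha⟩, ha1'⟩ := (Subgroup.ne_bot_iff_exists_ne_one.1 hW₁)
      have ha1 : a ≠ 1 := fun h => ha1' (Subtype.ext h)
      have haW2 : ∀ x ∈ W₁, x ≠ 1 → x ∉ W₂ := fun x hx hx1 hx2 => hx1 (by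
        have : x ∈ W₁ ⊓ W₂ := ⟨hx, hx2⟩
        rw [hdisj hself, Subgroup.mem_bot] at this; exact this)
      have ha2 : a * a ≠ 1 := by
        intro h
        have h1 : orderOf (⟨a, ha⟩ : W₁) ∣ 2 := orderOf_dvd_of_pow_eq_one (Subtype.ext (by
          show a ^ 2 = 1
          rw [pow_two]; exact h))
        have h2 : orderOf (⟨a, ha⟩ : W₁) ∣ Nat.card W₁ := orderOf_dvd_natCard _
        have h3 : orderOf (⟨a, ha⟩ : W₁) = 1 := by
          have h4 := (Nat.dvd_prime Nat.prime_two).1 h1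
          rcases h4 with h4 | h4
          · exact h4
          · rw [h4] at h2
            exact absurd (even_iff_two_dvd.2 h2) (Nat.not_even_iff_odd.2 hodd)
        exact ha1' (orderOf_eq_one_iff.1 h3)
      have haa : a * a ∈ W₁ := W₁.mul_mem ha ha
      let wa : ↥(W₁ ⊔ W₂) := ⟨a, Subgroup.mem_sup_left ha⟩
      have e1 : lin a = δ ω * (ω wa : ℂ) := by
        rw [← hl a]; exact hval ω wa (haW2 a ha ha1)
      have e2 : lin (a * a) = δ ω * (ω (wa * wa) : ℂ) := by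
        rw [← hl (a * a)]; exact hval ω (wa * wa) (haW2 _ haa ha2)
      have hδ : δ ω = 1 := by
        rw [map_mul, map_mul, e1, Units.val_mul] at e2
        have h5 : (ω wa : ℂ) ≠ 0 := Units.ne_zero _
        have h6 : δ ω * δ ω = 1 := by rcases hδ1 ω with h | h <;> rw [h] <;> norm_num
        have h7 : (1 : ℂ) * ((ω wa : ℂ) * (ω wa : ℂ)) = δ ω * ((ω wa : ℂ) * (ω wa : ℂ)) := by
          rw [← e2, ← h6]; ring
        exact (mul_right_cancel₀ (mul_ne_zero h5 h5) h7).symm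
      have hout : ∀ w : ↥(W₁ ⊔ W₂), (w : L) ∉ W₂ → lin w = (ω w : ℂ) := by
        intro w hw
        rw [← hl, hval ω w hw, hδ, one_mul]
      have hX : X1 W₁ W₂ ω := by
        intro w hw
        have h8 : ((wa * w : ↥(W₁ ⊔ W₂)) : L) ∉ W₂ := by
          intro h9
          apply haW2 a ha ha1
          have := W₂.mul_mem h9 (W₂.inv_mem hw)
          simpa [wa] using this
        have h10 := hout _ h8
        rw [map_mul, Units.val_mul] at h10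
        have h11 : lin ((wa * w : ↥(W₁ ⊔ W₂)) : L) = lin a * lin w := by
          rw [← map_mul]; rfl
        rw [h11, h2mem w hw, mul_one, show lin a = (ω wa : ℂ) from hout wa (haW2 a ha ha1)] at h10
        have h12 : (ω wa : ℂ) * 1 = (ω wa : ℂ) * (ω w : ℂ) := by rw [mul_one]; exact h10
        have h13 := mul_left_cancel₀ (Units.ne_zero _) h12
        exact Units.ext h13.symm
      refine ⟨hX, hδ, fun w => ?_⟩
      by_cases hw : (w : L) ∈ W₂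
      · rw [hX w hw, hl, h2mem w hw]; simp
      · rw [hl]; exact hout w hw
    have hω₀' := hlin ω₀ (fun k => congrFun h₀ k)
    have hω₀1 : ω₀ = 1 := eq_one_of_X hω₀'.1 hω₀ (hdisj hself) hcm
    have hagree : ∀ w : ↥(W₁ ⊔ W₂), (w : L) ∈ W₂ → ω₀ w = lam w := by
      intro w hw
      rw [hω₀1, hlam w hw]; rfl
    have h1 := hres ω₀ lam ((hr' _ _).2 hagree)
    have h2 := hlin lam (fun k => by rw [← h1 k]; exact congrFun h₀ k)
    exact ⟨h2.2.1, fun k => by rw [← h1 k]; exact congrFun h₀ k, h2.2.2⟩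

end Cfsg.Agent.H10.PrD1
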