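import Mathlib
import Cfsg.Agent.H10_PrD1

/-!
H10_PrD2: prime TI data in an ambient group and the family of the μ_ij.
-/

set_option autoImplicit false
set_option linter.style.haveILetI false
set_option linter.unusedSectionVars false

namespace Cfsg.Agent.H10.PrD2

open Cfsg Cfsg.Agent.H3.CharIrr Cfsg.Agent.H3.CharComplete Cfsg.Agent.H3.CharInd Cfsg.Agent.H3.CharMult
  Cfsg.Agent.H3.CharBasic Cfsg.Agent.H3.CharCalc Cfsg.Agent.H3.Clifford Cfsg.Agent.H3.CharInt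
  Cfsg.Agent.H10.CycTI Cfsg.Agent.H10.CycTI2 Cfsg.Agent.H10.CycTI3 Cfsg.Agent.H10.CycTI4
open scoped ComplexConjugate

/-- agreement on `W₂` -/
def Ag {G : Type*} [Group G] (W₁ W₂ : Subgroup G) (ω ω' : ↥(W₁ ⊔ W₂) →* ℂˣ) : Prop :=
  ∀ w : ↥(W₁ ⊔ W₂), (w : G) ∈ W₂ → ω w = ω' w

/-- `L = K ⋊ W₁` with `W₁` a cyclic Hall subgroup acting on `K` with constant fixed points `W₂`, and `(W₁, W₂)` a
self-normalizing cyclic pair of `G` -/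
structure PT {G : Type*} [Group G] (L : Subgroup G) (K : Subgroup L) (W₁ W₂ : Subgroup G) : Prop where
  normal : K.Normal
  W₁_le : W₁ ≤ L
  W₂_le : W₂ ≤ L
  inf : K ⊓ W₁.subgroupOf L = ⊥
  sup : K ⊔ W₁.subgroupOf L = ⊤
  hall : Nat.Coprime (Nat.card W₁) (Nat.card K)
  W₂K : W₂.subgroupOf L ≤ K
  cent : ∀ x ∈ W₁.subgroupOf L, x ≠ 1 → K ⊓ Subgroup.centralizer ({x} : Set L) = W₂.subgroupOf L
  self : IsSelfNormalizingCyclic W₁ W₂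
  odd : Odd (Nat.card G)

/-- the family of the characters `μ_ij` of `L`, with signs -/
structure MU {G : Type*} [Group G] {L : Subgroup G} [Fintype L] (K : Subgroup L) (W₁ W₂ : Subgroup G)
    (μ : (↥(W₁ ⊔ W₂) →* ℂˣ) → (L → ℂ)) (δ : (↥(W₁ ⊔ W₂) →* ℂˣ) → ℂ) : Prop where
  inj : Function.Injective μ
  irr : ∀ ω, IsIrrCharacter L (μ ω)
  sign : ∀ ω, δ ω = 1 ∨ δ ω = -1
  sign_col : ∀ ω ω', Ag W₁ W₂ ω ω' → δ ω = δ ω'
  ind : ∀ ω ω', Ag W₁ W₂ ω ω' →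
    indFun ((W₁ ⊔ W₂).subgroupOf L) (fun w => (ω ⟨w, w.2⟩ : ℂ) - (ω' ⟨w, w.2⟩ : ℂ)) = δ ω • (μ ω - μ ω')
  val : ∀ ω, ∀ w : L, ∀ hw : (w : G) ∈ W₁ ⊔ W₂, (w : G) ∉ W₂ → μ ω w = δ ω * (ω ⟨w, hw⟩ : ℂ)
  vanish : ∀ θ : L → ℂ, IsIrrCharacter L θ → (∀ ω, θ ≠ μ ω) → ∀ w : L, (w : G) ∈ W₁ ⊔ W₂ → (w : G) ∉ W₂ → θ w = 0
  cong : ∀ ω, ∃ n : ℤ, μ ω 1 - δ ω = n * (Nat.card W₁ : ℂ)
  res_irr : ∀ ω, IsIrrCharacter K (fun k : K => μ ω k)
  res_col : ∀ ω ω', Ag W₁ W₂ ω ω' → ∀ k ∈ K, μ ω k = μ ω' k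
  ind_res : ∀ (ω : ↥(W₁ ⊔ W₂) →* ℂˣ) (s : Finset (↥(W₁ ⊔ W₂) →* ℂˣ)), (∀ ω', ω' ∈ s ↔ Ag W₁ W₂ ω ω') →
      indFun K (fun k : K => μ ω k) = ∑ ω' ∈ s, μ ω'
  classify : ∀ θ : K → ℂ, IsIrrCharacter K θ → (∀ ω, X2 W₁ W₂ ω → (fun k : K => μ ω k) ≠ θ) → IsIrrCharacter L (indFun K θ)
  lin : ∀ ω, X1 W₁ W₂ ω → δ ω = 1 ∧ (∀ k ∈ K, μ ω k = 1) ∧ ∀ (w : L) (hw : (w : G) ∈ W₁ ⊔ W₂), μ ω w = (ω ⟨w, hw⟩ : ℂ)
  inv : ∀ (hn : K.Normal) (θ : K → ℂ), IsIrrCharacter K θ →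
    (∀ x ∈ W₁.subgroupOf L, (fun k : K => θ ⟨x * k * x⁻¹, hn.conj_mem (k : L) k.2 x⟩) = θ) →
    ∃ ω, X2 W₁ W₂ ω ∧ (fun k : K => μ ω k) = θ

section

variable {G : Type*} [Group G] [Fintype G]

theorem ind_congr {H H' : Subgroup G} (hHH' : H = H') {f : H → ℂ} {f' : H' → ℂ}
    (h : ∀ (x : G) (hx : x ∈ H) (hx' : x ∈ H'), f ⟨x, hx⟩ = f' ⟨x, hx'⟩) : indFun H f = indFun H' f' := by
  subst hHH'
  congr 1
  funext x
  exact h x x.2 x.2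

end

variable {G : Type*} [Group G] {L : Subgroup G} [Fintype L] {K : Subgroup L} {W₁ W₂ : Subgroup G}

theorem sup_subgroupOf (h1 : W₁ ≤ L) (h2 : W₂ ≤ L) : W₁.subgroupOf L ⊔ W₂.subgroupOf L = (W₁ ⊔ W₂).subgroupOf L :=
  (Subgroup.subgroupOf_sup h1 h2).symm

theorem exists_MU [Finite G] (h : PT L K W₁ W₂) : ∃ μ δ, MU K W₁ W₂ μ δ := by
  classical
  haveI := h.normal
  have hinf := h.inf
  have hidx : (W₁.subgroupOf L).index = Nat.card K := by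
    have hcomp : K.IsComplement' (W₁.subgroupOf L) :=
      Subgroup.isComplement'_of_disjoint_and_mul_eq_univ (disjoint_iff.2 h.inf) (by
        rw [← Subgroup.normal_mul, h.sup]; rfl)
    exact hcomp.index_eq_card
  have hc1 : Nat.card (W₁.subgroupOf L) = Nat.card W₁ := Nat.card_congr (Subgroup.subgroupOfEquivOfLe h.W₁_le).toEquiv
  have hcyc1 : IsCyclic W₁ := by
    haveI := h.self.2.2.2.2.1
    have : Function.Injective (Subgroup.inclusion (le_sup_left : W₁ ≤ W₁ ⊔ W₂)) := Subgroup.inclusion_injective _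
    exact isCyclic_of_injective _ this
  have hcyc2 : IsCyclic W₂ := by
    haveI := h.self.2.2.2.2.1
    have : Function.Injective (Subgroup.inclusion (le_sup_right : W₂ ≤ W₁ ⊔ W₂)) := Subgroup.inclusion_injective _
    exact isCyclic_of_injective _ this
  have hcyc1' : IsCyclic (W₁.subgroupOf L) := by
    haveI := hcyc1
    exact isCyclic_of_injective (Subgroup.subgroupOfEquivOfLe h.W₁_le).toMonoidHom (Subgroup.subgroupOfEquivOfLe h.W₁_le).injective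
  have hcyc2' : IsCyclic (W₂.subgroupOf L) := by
    haveI := hcyc2
    exact isCyclic_of_injective (Subgroup.subgroupOfEquivOfLe h.W₂_le).toMonoidHom (Subgroup.subgroupOfEquivOfLe h.W₂_le).injective
  have hne1 : W₁.subgroupOf L ≠ ⊥ := by
    intro hb
    have := h.self.1
    apply this
    rw [Subgroup.subgroupOf_eq_bot, disjoint_iff, inf_eq_left.2 h.W₁_le] at hb
    exact hb
  have hne2 : W₂.subgroupOf L ≠ ⊥ := by
    intro hb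
    have := h.self.2.1
    apply this
    rw [Subgroup.subgroupOf_eq_bot, disjoint_iff, inf_eq_left.2 h.W₂_le] at hb
    exact hb
  have hodd1 : Odd (Nat.card (W₁.subgroupOf L)) := by
    rw [hc1]
    exact Odd.of_dvd_nat h.odd (Subgroup.card_subgroup_dvd_card _)
  obtain ⟨μ, δ, a1, a2, a3, a4, a5, a6, a7, a8, a9, a10, a11, a12, a13⟩ :=
    Cfsg.Agent.H10.PrD1.full K (W₁.subgroupOf L) (W₂.subgroupOf L) h.inf h.sup hne1 hcyc1' (by rw [hidx, hc1]; exact h.hall)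
      hne2 hcyc2' h.W₂K h.cent hodd1
  have hWL := sup_subgroupOf h.W₁_le h.W₂_le
  have hWle : W₁ ⊔ W₂ ≤ L := sup_le h.W₁_le h.W₂_le
  have hmem : ∀ x : L, x ∈ W₁.subgroupOf L ⊔ W₂.subgroupOf L ↔ (x : G) ∈ W₁ ⊔ W₂ := fun x => by
    rw [hWL]; exact Iff.rfl
  let e : ↥(W₁.subgroupOf L ⊔ W₂.subgroupOf L) ≃* ↥(W₁ ⊔ W₂) :=
    { toFun := fun x => ⟨((x : L) : G), (hmem x).1 x.2⟩
      invFun := fun y => ⟨⟨(y : G), hWle y.2⟩, (hmem _).2 y.2⟩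
      left_inv := fun x => rfl
      right_inv := fun y => rfl
      map_mul' := fun x y => rfl }
  let T : (↥(W₁ ⊔ W₂) →* ℂˣ) → (↥(W₁.subgroupOf L ⊔ W₂.subgroupOf L) →* ℂˣ) := fun ω => ω.comp e.toMonoidHom
  let T' : (↥(W₁.subgroupOf L ⊔ W₂.subgroupOf L) →* ℂˣ) → (↥(W₁ ⊔ W₂) →* ℂˣ) := fun ω => ω.comp e.symm.toMonoidHom
  have hTT' : ∀ ω, T (T' ω) = ω := fun ω => by
    ext x; rfl
  have hT'T : ∀ ω, T' (T ω) = ω := fun ω => by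
    ext x; rfl
  have hTinj : Function.Injective T := fun a b hab => by rw [← hT'T a, hab, hT'T]
  have hTap : ∀ ω (x : ↥(W₁.subgroupOf L ⊔ W₂.subgroupOf L)), T ω x = ω ⟨((x : L) : G), (hmem x).1 x.2⟩ := fun ω x => rfl
  have hAg : ∀ ω ω', Ag W₁ W₂ ω ω' ↔ ∀ w : ↥(W₁.subgroupOf L ⊔ W₂.subgroupOf L), (w : L) ∈ W₂.subgroupOf L → T ω w = T ω' w := by
    intro ω ω'
    constructor
    · intro hh w hw
      rw [hTap, hTap]
      exact hh _ hw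
    · intro hh w hw
      exact hh ⟨⟨(w : G), hWle w.2⟩, (hmem _).2 w.2⟩ hw
  have hX1 : ∀ ω, X1 W₁ W₂ ω → X1 (W₁.subgroupOf L) (W₂.subgroupOf L) (T ω) := by
    intro ω hh w hw
    rw [hTap]
    exact hh _ hw
  have hX2 : ∀ ω, X2 (W₁.subgroupOf L) (W₂.subgroupOf L) ω → X2 W₁ W₂ (T' ω) := by
    intro ω hh w hw
    exact hh ⟨⟨(w : G), hWle w.2⟩, (hmem _).2 w.2⟩ hw
  refine ⟨fun ω => μ (T ω), fun ω => δ (T ω), ?_⟩
  refine ⟨fun a b hab => hTinj (a1 hab), fun ω => a2 _, fun ω => a3 _, fun ω ω' hh => (a4 _ _ ((hAg _ _).1 hh)).1, ?_, ?_, ?_,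
    fun ω => ?_, fun ω => a8 _, fun ω ω' hh k hk => a9 _ _ ((hAg _ _).1 hh) ⟨k, hk⟩, ?_, ?_, ?_, ?_⟩
  · intro ω ω' hh
    rw [← (a4 _ _ ((hAg _ _).1 hh)).2]
    exact ind_congr hWL.symm (fun x hx hx' => rfl)
  · intro ω w hw hw2
    exact a5 (T ω) ⟨w, (hmem w).2 hw⟩ hw2
  · intro θ hθ hne w hw hw2
    exact a6 θ hθ (fun ω hω => hne (T' ω) (by rw [hTT']; exact hω)) ⟨w, (hmem w).2 hw⟩ hw2
  · obtain ⟨n, hn⟩ := a7 (T ω)
    exact ⟨n, by rw [hn, hc1]⟩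
  · intro ω s hs
    have := a10 (T ω) (s.image T) (fun ω' => by
      rw [Finset.mem_image]
      constructor
      · rintro ⟨ω'', h1, rfl⟩
        exact (hAg _ _).1 ((hs _).1 h1)
      · intro hh
        refine ⟨T' ω', (hs _).2 ((hAg _ _).2 ?_), hTT' _⟩
        rw [hTT']; exact hh)
    show indFun K (fun k : K => μ (T ω) k) = _
    rw [this, Finset.sum_image (fun a _ b _ hab => hTinj hab)]
  · intro θ hθ hne
    by_cases hinv : ∀ x ∈ W₁.subgroupOf L, (fun k : K => θ ⟨x * k * x⁻¹, h.normal.conj_mem (k : L) k.2 x⟩) = θ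
    · exfalso
      obtain ⟨ω, h1, h2⟩ := a11 θ hθ hinv
      exact hne (T' ω) (hX2 ω h1) (by rw [hTT']; exact h2)
    · apply a12 θ hθ
      intro ω hω
      apply hinv
      intro x _
      rw [← hω]
      funext k
      exact IsIrr.isClass (a2 ω) k x
  · intro ω hω
    obtain ⟨h1, h2, h3⟩ := a13 (T ω) (hX1 ω hω)
    exact ⟨h1, fun k hk => h2 ⟨k, hk⟩, fun w hw => h3 ⟨w, (hmem w).2 hw⟩⟩
  · intro hn θ hθ hinv
    obtain ⟨ω, h1, h2⟩ := a11 θ hθ hinv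
    exact ⟨T' ω, hX2 ω h1, by rw [hTT']; exact h2⟩

end Cfsg.Agent.H10.PrD2
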