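import Mathlib
import Cfsg.Agent.H10_CycTI5
import Cfsg.Agent.H10_Coh4

/-!
H10_PrD3: generalized characters of small norm and cyclic TI families.
-/

set_option autoImplicit false
set_option linter.style.haveILetI false
set_option linter.unusedSectionVars false

namespace Cfsg.Agent.H10.PrD3

open Cfsg Cfsg.Agent.H3.CharIrr Cfsg.Agent.H3.CharComplete Cfsg.Agent.H3.CharInd Cfsg.Agent.H3.CharMult
  Cfsg.Agent.H3.CharBasic Cfsg.Agent.H10.PM Cfsg.Agent.H10.Coh4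
  Cfsg.Agent.H10.CycTI Cfsg.Agent.H10.CycTI2 Cfsg.Agent.H10.CycTI3 Cfsg.Agent.H10.CycTI4 Cfsg.Agent.H10.CycTI5
open scoped ComplexConjugate

variable {G : Type*} [Group G] [Fintype G] {W₁ W₂ : Subgroup G}

section fam
variable {η : (↥(W₁ ⊔ W₂) →* ℂˣ) → (G → ℂ)} (hη : IsCyclicTIFamily W₁ W₂ η)
include hη

theorem eta_gen (ω : ↥(W₁ ⊔ W₂) →* ℂˣ) : IsGeneralizedCharacter G (η ω) := Pm.gen (hη.irr_or_neg ω)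

theorem eta_class (ω : ↥(W₁ ⊔ W₂) →* ℂˣ) : IsClassFunction G (η ω) := IsGen.isClass (eta_gen hη ω)

theorem eta_self (ω : ↥(W₁ ⊔ W₂) →* ℂˣ) : classInner (η ω) (η ω) = 1 := by
  rw [hη.orthonormal, if_pos rfl]

theorem eta_ne {ω ω' : ↥(W₁ ⊔ W₂) →* ℂˣ} (h : ω ≠ ω') : classInner (η ω) (η ω') = 0 := by
  rw [hη.orthonormal, if_neg h]

theorem eta_inj {ω ω' : ↥(W₁ ⊔ W₂) →* ℂˣ} (h : η ω = η ω') : ω = ω' := by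
  by_contra hne
  have h1 := eta_ne hη hne
  rw [h, eta_self hη] at h1
  norm_num at h1

theorem eta_if [DecidableEq (↥(W₁ ⊔ W₂) →* ℂˣ)] (ω ω' : ↥(W₁ ⊔ W₂) →* ℂˣ) : classInner (η ω) (η ω') = if ω = ω' then 1 else 0 := by
  split_ifs with h
  · rw [h]; exact eta_self hη _
  · exact eta_ne hη h

theorem exists_int {ψ : G → ℂ} (hψ : IsGeneralizedCharacter G ψ) : ∃ b : (↥(W₁ ⊔ W₂) →* ℂˣ) → ℤ, ∀ ω, classInner ψ (η ω) = b ω := by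
  have : ∀ ω, ∃ n : ℤ, classInner ψ (η ω) = n := fun ω => ci_gen_int hψ (eta_gen hη ω)
  choose b hb using this
  exact ⟨b, hb⟩

/-- Bessel inequality for the family -/
theorem sum_sq_le {ψ : G → ℂ} {b : (↥(W₁ ⊔ W₂) →* ℂˣ) → ℤ} (hb : ∀ ω, classInner ψ (η ω) = b ω)
    (s : Finset (↥(W₁ ⊔ W₂) →* ℂˣ)) {n : ℤ} (hn : (classInner ψ ψ).re ≤ n) : ∑ ω ∈ s, (b ω) ^ 2 ≤ n := by
  classical
  have h := bessel_le s η ψ (fun ω => (b ω : ℝ)) (fun _ => 1) (fun i _ j _ => by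
    rw [eta_if hη]; simp) (fun _ _ => one_pos) (fun i _ => by rw [hb]; simp)
  have h2 : ((∑ ω ∈ s, (b ω) ^ 2 : ℤ) : ℝ) ≤ n := by
    push_cast
    refine le_trans (le_of_eq ?_) (h.trans hn)
    exact Finset.sum_congr rfl fun ω _ => by rw [div_one]
  exact_mod_cast h2

end fam

variable (hW : IsSelfNormalizingCyclic W₁ W₂) (hodd : Odd (Nat.card ↥(W₁ ⊔ W₂)))

theorem int_sq_pos {a : ℤ} (h : a ≠ 0) : 1 ≤ a ^ 2 := by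
  have := sq_nonneg a
  rcases lt_or_gt_of_ne h with h1 | h1 <;> nlinarith

variable {η : (↥(W₁ ⊔ W₂) →* ℂˣ) → (G → ℂ)} (hη : IsCyclicTIFamily W₁ W₂ η)
include hη

include hW in
theorem mul_ne {φ φ' ψ ψ' : ↥(W₁ ⊔ W₂) →* ℂˣ} (hφ : X1 W₁ W₂ φ) (hφ' : X1 W₁ W₂ φ') (hψ : X2 W₁ W₂ ψ)
    (hψ' : X2 W₁ W₂ ψ') (h : φ ≠ φ' ∨ ψ ≠ ψ') : φ * ψ ≠ φ' * ψ' := by
  intro he
  obtain ⟨h1, h2⟩ := X_inj hφ hφ' hψ hψ' (hdisj hW) (hcomm hW) he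
  rcases h with h | h
  · exact h h1
  · exact h h2

include hW hodd

/-- other elements of `X1` -/
theorem two_rows (φ₀ : ↥(W₁ ⊔ W₂) →* ℂˣ) (hφ₀ : X1 W₁ W₂ φ₀) : ∃ φ₁ φ₂ : ↥(W₁ ⊔ W₂) →* ℂˣ, X1 W₁ W₂ φ₁ ∧ X1 W₁ W₂ φ₂ ∧
    φ₁ ≠ φ₀ ∧ φ₂ ≠ φ₀ ∧ φ₁ ≠ φ₂ := by
  obtain ⟨a, b, ha, hb, ha1, hb1, hab⟩ := exists_two1 hW hodd
  refine ⟨a * φ₀, b * φ₀, fun w hw => ?_, fun w hw => ?_, fun h => ha1 ?_, fun h => hb1 ?_, fun h => hab (mul_right_cancel h)⟩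
  · rw [MonoidHom.mul_apply, ha w hw, hφ₀ w hw, one_mul]
  · rw [MonoidHom.mul_apply, hb w hw, hφ₀ w hw, one_mul]
  · exact mul_right_cancel (h.trans (hom_one_mul φ₀).symm)
  · exact mul_right_cancel (h.trans (hom_one_mul φ₀).symm)

theorem two_cols (φ₀ : ↥(W₁ ⊔ W₂) →* ℂˣ) (hφ₀ : X2 W₁ W₂ φ₀) : ∃ φ₁ φ₂ : ↥(W₁ ⊔ W₂) →* ℂˣ, X2 W₁ W₂ φ₁ ∧ X2 W₁ W₂ φ₂ ∧
    φ₁ ≠ φ₀ ∧ φ₂ ≠ φ₀ ∧ φ₁ ≠ φ₂ := by
  obtain ⟨a, b, ha, hb, ha1, hb1, hab⟩ := exists_two2 hW hodd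
  refine ⟨a * φ₀, b * φ₀, fun w hw => ?_, fun w hw => ?_, fun h => ha1 ?_, fun h => hb1 ?_, fun h => hab (mul_right_cancel h)⟩
  · rw [MonoidHom.mul_apply, ha w hw, hφ₀ w hw, one_mul]
  · rw [MonoidHom.mul_apply, hb w hw, hφ₀ w hw, one_mul]
  · exact mul_right_cancel (h.trans (hom_one_mul φ₀).symm)
  · exact mul_right_cancel (h.trans (hom_one_mul φ₀).symm)

/-- a generalized character of norm two agreeing on `V` with `η ω - η ω'` (same row) equals it -/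
theorem sub_eta {ψ : G → ℂ} (hψ : IsGeneralizedCharacter G ψ) (hn : classInner ψ ψ = 2)
    {φ₀ ψ₁ ψ₂ : ↥(W₁ ⊔ W₂) →* ℂˣ} (hφ₀ : X1 W₁ W₂ φ₀) (hψ₁ : X2 W₁ W₂ ψ₁) (hψ₂ : X2 W₁ W₂ ψ₂) (hne : ψ₁ ≠ ψ₂)
    (hV : ∀ w : ↥(W₁ ⊔ W₂), (w : G) ∉ W₁ → (w : G) ∉ W₂ → ψ w = ((φ₀ * ψ₁) w : ℂ) - ((φ₀ * ψ₂) w : ℂ)) :
    ψ = η (φ₀ * ψ₁) - η (φ₀ * ψ₂) := by
  classical
  obtain ⟨b, hb⟩ := exists_int hη hψ
  obtain ⟨φ₁, φ₂, h1, h2, h10, h20, h12⟩ := two_rows hW hodd hη φ₀ hφ₀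
  have hmn := fun {φ φ' ψ ψ' : ↥(W₁ ⊔ W₂) →* ℂˣ} => mul_ne hW hη (φ := φ) (φ' := φ') (ψ := ψ) (ψ' := ψ')
  have hne0 : φ₀ * ψ₁ ≠ φ₀ * ψ₂ := fun h => hne (mul_left_cancel h)
  -- the grid relation
  have hθc : IsClassFunction G (ψ - (η (φ₀ * ψ₁) - η (φ₀ * ψ₂))) :=
    IsGen.isClass (IsGen.sub hψ (IsGen.sub (eta_gen hη _) (eta_gen hη _)))
  have hθV : ∀ w : ↥(W₁ ⊔ W₂), (w : G) ∉ W₁ → (w : G) ∉ W₂ → (ψ - (η (φ₀ * ψ₁) - η (φ₀ * ψ₂))) w = 0 := by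
    intro w hw1 hw2
    rw [Pi.sub_apply, Pi.sub_apply, hV w hw1 hw2, hη.eq_on _ w hw1 hw2, hη.eq_on _ w hw1 hw2, sub_self]
  have hgr : ∀ φ, X1 W₁ W₂ φ → φ ≠ φ₀ → b (φ₀ * ψ₁) + b (φ * ψ₂) - b (φ₀ * ψ₂) - b (φ * ψ₁) = 2 := by
    intro φ hφ hφne
    have h := grid hW hη hθc hθV hφ₀ hψ₁ hφ hψ₂
    simp only [ci_sub_left, hb, eta_if hη, if_true, if_neg hne0.symm, if_neg (hmn hφ₀ hφ hψ₁ hψ₂ (Or.inl hφne.symm)),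
      if_neg (hmn hφ₀ hφ hψ₂ hψ₂ (Or.inl hφne.symm)), if_neg hne0,
      if_neg (hmn hφ₀ hφ hψ₁ hψ₁ (Or.inl hφne.symm)), if_neg (hmn hφ₀ hφ hψ₂ hψ₁ (Or.inl hφne.symm))] at h
    have h' : ((b (φ₀ * ψ₁) + b (φ * ψ₂) - b (φ₀ * ψ₂) - b (φ * ψ₁) : ℤ) : ℂ) = ((2 : ℤ) : ℂ) := by
      push_cast
      linear_combination h
    exact_mod_cast h'
  have hg1 := hgr φ₁ h1 h10
  have hg2 := hgr φ₂ h2 h20
  have hle := sum_sq_le hη hb {φ₀ * ψ₁, φ₀ * ψ₂, φ₁ * ψ₁, φ₁ * ψ₂, φ₂ * ψ₁, φ₂ * ψ₂} (n := 2) (by rw [hn]; simp)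
  rw [Finset.sum_insert, Finset.sum_insert, Finset.sum_insert, Finset.sum_insert, Finset.sum_insert, Finset.sum_singleton] at hle
  rotate_left
  · simp only [Finset.mem_singleton]
    exact hmn h2 h2 hψ₁ hψ₂ (Or.inr hne)
  · simp only [Finset.mem_insert, Finset.mem_singleton, not_or]
    exact ⟨hmn h1 h2 hψ₂ hψ₁ (Or.inl h12), hmn h1 h2 hψ₂ hψ₂ (Or.inl h12)⟩
  · simp only [Finset.mem_insert, Finset.mem_singleton, not_or]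
    exact ⟨hmn h1 h1 hψ₁ hψ₂ (Or.inr hne), hmn h1 h2 hψ₁ hψ₁ (Or.inl h12), hmn h1 h2 hψ₁ hψ₂ (Or.inl h12)⟩
  · simp only [Finset.mem_insert, Finset.mem_singleton, not_or]
    exact ⟨hmn hφ₀ h1 hψ₂ hψ₁ (Or.inl h10.symm), hmn hφ₀ h1 hψ₂ hψ₂ (Or.inl h10.symm), hmn hφ₀ h2 hψ₂ hψ₁ (Or.inl h20.symm),
      hmn hφ₀ h2 hψ₂ hψ₂ (Or.inl h20.symm)⟩
  · simp only [Finset.mem_insert, Finset.mem_singleton, not_or]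
    exact ⟨hne0, hmn hφ₀ h1 hψ₁ hψ₁ (Or.inl h10.symm), hmn hφ₀ h1 hψ₁ hψ₂ (Or.inl h10.symm), hmn hφ₀ h2 hψ₁ hψ₁ (Or.inl h20.symm),
      hmn hφ₀ h2 hψ₁ hψ₂ (Or.inl h20.symm)⟩
  have hxy : b (φ₀ * ψ₁) = 1 ∧ b (φ₀ * ψ₂) = -1 := by
    generalize b (φ₀ * ψ₁) = x at *
    generalize b (φ₀ * ψ₂) = y at *
    generalize b (φ₁ * ψ₁) = q₁ at *
    generalize b (φ₁ * ψ₂) = p₁ at *
    generalize b (φ₂ * ψ₁) = q₂ at *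
    generalize b (φ₂ * ψ₂) = p₂ at *
    have hs : ∀ a : ℤ, a ≤ a ^ 2 := fun a => by
      rcases le_or_gt a 0 with h | h
      · exact h.trans (sq_nonneg _)
      · nlinarith
    have hs' : ∀ a : ℤ, -a ≤ a ^ 2 := fun a => by have := hs (-a); rwa [neg_sq] at this
    have f3 : (x - 1) ^ 2 + (y + 1) ^ 2 ≤ 0 := by nlinarith [hs p₁, hs' q₁, hs p₂, hs' q₂]
    have f4 : (x - 1) ^ 2 = 0 := le_antisymm (by nlinarith [sq_nonneg (y + 1)]) (sq_nonneg _)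
    have f5 : (y + 1) ^ 2 = 0 := le_antisymm (by nlinarith [sq_nonneg (x - 1)]) (sq_nonneg _)
    have f6 := pow_eq_zero_iff (two_ne_zero) |>.1 f4
    have f7 := pow_eq_zero_iff (two_ne_zero) |>.1 f5
    constructor <;> linarith
  have hzero : classInner (ψ - (η (φ₀ * ψ₁) - η (φ₀ * ψ₂))) (ψ - (η (φ₀ * ψ₁) - η (φ₀ * ψ₂))) = 0 := by
    have hc1 : classInner (η (φ₀ * ψ₁)) ψ = 1 := by rw [← ci_conj_symm, hb, hxy.1]; simp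
    have hc2 : classInner (η (φ₀ * ψ₂)) ψ = -1 := by rw [← ci_conj_symm, hb, hxy.2]; simp
    simp only [ci_sub_left, ci_sub_right, hn, hb, hxy.1, hxy.2, hc1, hc2, eta_if hη, if_true, if_neg hne0, if_neg hne0.symm]
    push_cast
    ring
  exact sub_eq_zero.1 (ci_self_eq_zero hzero)

/-- a generalized character of norm at most two vanishing on `V` is orthogonal to the family -/
theorem orth_eta {ψ : G → ℂ} (hψ : IsGeneralizedCharacter G ψ) (hn : (classInner ψ ψ).re ≤ 2)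
    (hV : ∀ w : ↥(W₁ ⊔ W₂), (w : G) ∉ W₁ → (w : G) ∉ W₂ → ψ w = 0) (ω : ↥(W₁ ⊔ W₂) →* ℂˣ) : classInner ψ (η ω) = 0 := by
  classical
  obtain ⟨b, hb⟩ := exists_int hη hψ
  obtain ⟨φ₀, ψ₀, hφ₀, hψ₀, rfl⟩ := exists_decomp ω (hdisj hW) (hcomm hW)
  obtain ⟨φ₁, φ₂, h1, h2, h10, h20, h12⟩ := two_rows hW hodd hη φ₀ hφ₀
  obtain ⟨ψ₁, ψ₂, k1, k2, k10, k20, k12⟩ := two_cols hW hodd hη ψ₀ hψ₀
  have hmn := fun {φ φ' ψ ψ' : ↥(W₁ ⊔ W₂) →* ℂˣ} => mul_ne hW hη (φ := φ) (φ' := φ') (ψ := ψ) (ψ' := ψ')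
  have hgr : ∀ φ ψ', X1 W₁ W₂ φ → X2 W₁ W₂ ψ' → b (φ₀ * ψ₀) + b (φ * ψ') = b (φ₀ * ψ') + b (φ * ψ₀) := by
    intro φ ψ' hφ hψ'
    have h := grid hW hη (IsGen.isClass hψ) hV hφ₀ hψ₀ hφ hψ'
    simp only [hb] at h
    exact_mod_cast h
  have g1 := hgr φ₁ ψ₁ h1 k1
  have g2 := hgr φ₂ ψ₂ h2 k2
  rw [hb]
  by_contra hne
  have hne' : b (φ₀ * ψ₀) ≠ 0 := fun h => hne (by rw [h]; simp)
  have hle := sum_sq_le hη hb {φ₀ * ψ₀, φ₀ * ψ₁, φ₁ * ψ₀, φ₁ * ψ₁, φ₀ * ψ₂, φ₂ * ψ₀, φ₂ * ψ₂} (n := 2) (by exact_mod_cast hn)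
  rw [Finset.sum_insert, Finset.sum_insert, Finset.sum_insert, Finset.sum_insert, Finset.sum_insert, Finset.sum_insert,
    Finset.sum_singleton] at hle
  rotate_left
  · simp only [Finset.mem_singleton]
    exact hmn h2 h2 hψ₀ k2 (Or.inr k20.symm)
  · simp only [Finset.mem_insert, Finset.mem_singleton, not_or]
    exact ⟨hmn hφ₀ h2 k2 hψ₀ (Or.inl h20.symm), hmn hφ₀ h2 k2 k2 (Or.inl h20.symm)⟩
  · simp only [Finset.mem_insert, Finset.mem_singleton, not_or]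
    exact ⟨hmn h1 hφ₀ k1 k2 (Or.inl h10), hmn h1 h2 k1 hψ₀ (Or.inl h12), hmn h1 h2 k1 k2 (Or.inl h12)⟩
  · simp only [Finset.mem_insert, Finset.mem_singleton, not_or]
    exact ⟨hmn h1 h1 hψ₀ k1 (Or.inr k10.symm), hmn h1 hφ₀ hψ₀ k2 (Or.inl h10), hmn h1 h2 hψ₀ hψ₀ (Or.inl h12),
      hmn h1 h2 hψ₀ k2 (Or.inl h12)⟩
  · simp only [Finset.mem_insert, Finset.mem_singleton, not_or]
    exact ⟨hmn hφ₀ h1 k1 hψ₀ (Or.inl h10.symm), hmn hφ₀ h1 k1 k1 (Or.inl h10.symm), hmn hφ₀ hφ₀ k1 k2 (Or.inr k12),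
      hmn hφ₀ h2 k1 hψ₀ (Or.inl h20.symm), hmn hφ₀ h2 k1 k2 (Or.inl h20.symm)⟩
  · simp only [Finset.mem_insert, Finset.mem_singleton, not_or]
    exact ⟨hmn hφ₀ hφ₀ hψ₀ k1 (Or.inr k10.symm), hmn hφ₀ h1 hψ₀ hψ₀ (Or.inl h10.symm), hmn hφ₀ h1 hψ₀ k1 (Or.inl h10.symm),
      hmn hφ₀ hφ₀ hψ₀ k2 (Or.inr k20.symm), hmn hφ₀ h2 hψ₀ hψ₀ (Or.inl h20.symm), hmn hφ₀ h2 hψ₀ k2 (Or.inl h20.symm)⟩
  have hs := int_sq_pos hne'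
  have ha : 1 ≤ b (φ₀ * ψ₁) ^ 2 + (b (φ₁ * ψ₀) ^ 2 + b (φ₁ * ψ₁) ^ 2) := by
    by_contra hcon
    have z1 : b (φ₀ * ψ₁) = 0 := by
      by_contra h; have := int_sq_pos h; nlinarith [sq_nonneg (b (φ₁ * ψ₀)), sq_nonneg (b (φ₁ * ψ₁))]
    have z2 : b (φ₁ * ψ₀) = 0 := by
      by_contra h; have := int_sq_pos h; nlinarith [sq_nonneg (b (φ₀ * ψ₁)), sq_nonneg (b (φ₁ * ψ₁))]
    have z3 : b (φ₁ * ψ₁) = 0 := by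
      by_contra h; have := int_sq_pos h; nlinarith [sq_nonneg (b (φ₀ * ψ₁)), sq_nonneg (b (φ₁ * ψ₀))]
    rw [z1, z2, z3] at g1
    exact hne' (by linarith)
  have hb2 : 1 ≤ b (φ₀ * ψ₂) ^ 2 + (b (φ₂ * ψ₀) ^ 2 + b (φ₂ * ψ₂) ^ 2) := by
    by_contra hcon
    have z1 : b (φ₀ * ψ₂) = 0 := by
      by_contra h; have := int_sq_pos h; nlinarith [sq_nonneg (b (φ₂ * ψ₀)), sq_nonneg (b (φ₂ * ψ₂))]
    have z2 : b (φ₂ * ψ₀) = 0 := by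
      by_contra h; have := int_sq_pos h; nlinarith [sq_nonneg (b (φ₀ * ψ₂)), sq_nonneg (b (φ₂ * ψ₂))]
    have z3 : b (φ₂ * ψ₂) = 0 := by
      by_contra h; have := int_sq_pos h; nlinarith [sq_nonneg (b (φ₀ * ψ₂)), sq_nonneg (b (φ₂ * ψ₀))]
    rw [z1, z2, z3] at g2
    exact hne' (by linarith)
  linarith

end Cfsg.Agent.H10.PrD3
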