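import Mathlib
import Cfsg.Agent.H10_PrD2
import Cfsg.Agent.H10_PrD3
import Cfsg.Agent.H10_Dade3
import Cfsg.Agent.H10_OOGrp
import Cfsg.Agent.H3_Clifford2

/-!
H10_PrD4: prime Dade hypotheses, supports of the μ_j (Peterfalvi (4.6), (4.7), (4.8)).
-/

set_option autoImplicit false
set_option linter.style.haveILetI false
set_option linter.unusedSectionVars false

namespace Cfsg.Agent.H10.PrD4

open Cfsg Cfsg.Agent.H3.CharIrr Cfsg.Agent.H3.CharComplete Cfsg.Agent.H3.CharInd Cfsg.Agent.H3.CharMult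
  Cfsg.Agent.H3.CharBasic Cfsg.Agent.H3.CharCalc Cfsg.Agent.H3.Clifford Cfsg.Agent.H3.CharInt Cfsg.Agent.H3.CharQuot
  Cfsg.Agent.H10.CycTI Cfsg.Agent.H10.CycTI2 Cfsg.Agent.H10.CycTI3 Cfsg.Agent.H10.CycTI4 Cfsg.Agent.H10.PrD2
  Cfsg.Agent.H10.PrD3
open scoped ComplexConjugate

section van
variable {K : Type*} [Group K] [Fintype K]

/-- an irreducible character with kernel not containing the normal subgroup `N` vanishes at the elements acting on `N`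
without fixed points -/
theorem van {N : Subgroup K} (hN : N.Normal) {θ : K → ℂ} (hθ : IsIrrCharacter K θ) (hker : ¬ ∀ n ∈ N, θ n = θ 1) {x : K}
    (hx : ∀ n ∈ N, n * x = x * n → n = 1) : θ x = 0 := by
  classical
  haveI := Fintype.ofFinite N
  rcases avg_irr hN hθ with h | h
  · exfalso
    apply hker
    intro n hn
    have := h n hn 1
    rwa [mul_one] at this
  · have h1 := congrFun h x
    rw [avg, Pi.zero_apply] at h1
    have hmem : ∀ m : N, (m : K) * x * (m : K)⁻¹ * x⁻¹ ∈ N := by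
      intro m
      have h2 : (m : K) * x * (m : K)⁻¹ * x⁻¹ = m * (x * (m : K)⁻¹ * x⁻¹) := by group
      rw [h2]
      exact N.mul_mem m.2 (hN.conj_mem _ (N.inv_mem m.2) x)
    let f : N → N := fun m => ⟨(m : K) * x * (m : K)⁻¹ * x⁻¹, hmem m⟩
    have hf : Function.Injective f := by
      intro a b hab
      have h3 : (a : K) * x * (a : K)⁻¹ * x⁻¹ = (b : K) * x * (b : K)⁻¹ * x⁻¹ := congrArg Subtype.val hab
      have h4 : (a : K) * x * (a : K)⁻¹ = (b : K) * x * (b : K)⁻¹ := mul_right_cancel h3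
      have h5 : ((b : K)⁻¹ * a) * x = x * ((b : K)⁻¹ * a) := by
        calc ((b : K)⁻¹ * a) * x = (b : K)⁻¹ * ((a : K) * x * (a : K)⁻¹) * a := by group
          _ = (b : K)⁻¹ * ((b : K) * x * (b : K)⁻¹) * a := by rw [h4]
          _ = x * ((b : K)⁻¹ * a) := by group
      have h6 := hx _ (N.mul_mem (N.inv_mem b.2) a.2) h5
      exact Subtype.ext (inv_mul_eq_one.1 h6).symm
    have h7 : ∑ n : N, θ (n * x) = ∑ m : N, θ x := by
      rw [← Equiv.sum_comp (Equiv.ofBijective f (Finite.injective_iff_bijective.1 hf))]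
      refine Finset.sum_congr rfl fun m _ => ?_
      show θ ((m : K) * x * (m : K)⁻¹ * x⁻¹ * x) = θ x
      rw [inv_mul_cancel_right]
      exact IsIrr.isClass hθ x m
    rw [h7, Finset.sum_const, Finset.card_univ, ← Nat.card_eq_fintype_card, nsmul_eq_mul] at h1
    have h2 : (Nat.card N : ℂ) ≠ 0 := cardH_ne_zero N
    rwa [inv_mul_cancel_left₀ h2] at h1

end van

/-- the set `A₀ = A ∪ V^L` -/
def A0 {G : Type*} [Group G] (L W₁ W₂ : Subgroup G) (A : Set G) : Set G :=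
  A ∪ {v | ∃ m ∈ L, ∃ w ∈ V W₁ W₂, v = m * w * m⁻¹}

/-- the prime Dade hypothesis -/
structure PD {G : Type*} [Group G] (L : Subgroup G) (K H : Subgroup L) (W₁ W₂ : Subgroup G) (A : Set G)
    (R : G → Subgroup G) : Prop extends PT L K W₁ W₂ where
  H_normal : H.Normal
  H_le : H ≤ K
  W₂H : W₂.subgroupOf L ≤ H
  A_sub : ∀ a ∈ A, ∃ k ∈ K, (k : G) = a
  A_conj : ∀ x ∈ L, ∀ a ∈ A, x * a * x⁻¹ ∈ A
  A_cent : ∀ k ∈ K, k ≠ 1 → (∃ h ∈ H, h ≠ 1 ∧ k * h = h * k) → (k : G) ∈ A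
  dade : DadeHypothesis (A0 L W₁ W₂ A) L R

section PTs

variable {G : Type*} [Group G] [Finite G] {L : Subgroup G} {K : Subgroup L} {W₁ W₂ : Subgroup G} (h : PT L K W₁ W₂)
include h

theorem W1_ne {a : G} (ha : a ∈ W₁) (ha1 : a ≠ 1) : a ∉ W₂ := fun h2 => ha1 (by
  have : a ∈ W₁ ⊓ W₂ := ⟨ha, h2⟩
  rw [hdisj h.self, Subgroup.mem_bot] at this; exact this)

theorem W2_ne {a : G} (ha : a ∈ W₂) (ha1 : a ≠ 1) : a ∉ W₁ := fun h2 => ha1 (by
  have : a ∈ W₁ ⊓ W₂ := ⟨h2, ha⟩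
  rw [hdisj h.self, Subgroup.mem_bot] at this; exact this)

theorem odd_W : Odd (Nat.card ↥(W₁ ⊔ W₂)) := Odd.of_dvd_nat h.odd (Subgroup.card_subgroup_dvd_card _)
theorem odd_L : Odd (Nat.card L) := Odd.of_dvd_nat h.odd (Subgroup.card_subgroup_dvd_card _)
theorem odd_W1 : Odd (Nat.card W₁) := Odd.of_dvd_nat h.odd (Subgroup.card_subgroup_dvd_card _)
theorem odd_W2 : Odd (Nat.card W₂) := Odd.of_dvd_nat h.odd (Subgroup.card_subgroup_dvd_card _)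

theorem three_W1 : 3 ≤ Nat.card W₁ := by
  have h1 : 1 < Nat.card W₁ := by rw [Subgroup.one_lt_card_iff_ne_bot]; exact h.self.1
  obtain ⟨r, hr⟩ := odd_W1 h
  omega

theorem three_W2 : 3 ≤ Nat.card W₂ := by
  have h1 : 1 < Nat.card W₂ := by rw [Subgroup.one_lt_card_iff_ne_bot]; exact h.self.2.1
  obtain ⟨r, hr⟩ := odd_W2 h
  omega

theorem exists_W1 : ∃ a : G, a ∈ W₁ ∧ a ≠ 1 := by
  obtain ⟨⟨a, ha⟩, ha1'⟩ := (Subgroup.ne_bot_iff_exists_ne_one.1 h.self.1)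
  exact ⟨a, ha, fun h => ha1' (Subtype.ext h)⟩

theorem W_le : W₁ ⊔ W₂ ≤ L := sup_le h.W₁_le h.W₂_le

theorem W_mem_K {x : L} (hx : (x : G) ∈ W₁ ⊔ W₂) : x ∈ K ↔ (x : G) ∈ W₂ := by
  haveI := Fintype.ofFinite L
  constructor
  · haveI := h.normal
    intro hK
    have hx' : x ∈ W₁.subgroupOf L ⊔ W₂.subgroupOf L := by
      rw [sup_subgroupOf h.W₁_le h.W₂_le]; exact hx
    exact Cfsg.Agent.H10.TypeP3.inter K (W₁.subgroupOf L) (W₂.subgroupOf L) h.inf h.W₂K hx' hK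
      (fun a ha b hb => Subtype.ext (hcomm h.self a ha b hb))
  · intro hw; exact h.W₂K hw

/-- `|L| = |K| |W₁|` -/
theorem index_K : K.index = Nat.card W₁ := by
  haveI := h.normal
  have hcomp : (W₁.subgroupOf L).IsComplement' K := (Subgroup.isComplement'_of_disjoint_and_mul_eq_univ (disjoint_iff.2 h.inf) (by
    rw [← Subgroup.normal_mul, h.sup]; rfl)).symm
  rw [hcomp.index_eq_card]
  exact Nat.card_congr (Subgroup.subgroupOfEquivOfLe h.W₁_le).toEquiv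

/-- every element outside `K` is conjugate to an element of `W` outside `W₂` -/
theorem conj_W {x : L} (hx : x ∉ K) : ∃ y w : L, (w : G) ∈ W₁ ⊔ W₂ ∧ (w : G) ∉ W₂ ∧ y * x * y⁻¹ = w := by
  haveI := h.normal
  obtain ⟨k, hk, w, hw, e⟩ := Cfsg.Agent.H10.Dade.mem_sup_of_norm (H := K) (K := W₁.subgroupOf L)
    (fun k _ h' hh => h.normal.conj_mem h' hh k) (show x ∈ K ⊔ W₁.subgroupOf L by rw [h.sup]; exact Subgroup.mem_top _)
  have hw1 : w ≠ 1 := by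
    rintro rfl
    rw [mul_one] at e
    exact hx (e ▸ hk)
  have hwW1 : (w : G) ∈ W₁ := hw
  have hcop : Nat.Coprime (orderOf w) (Nat.card K) := by
    refine Nat.Coprime.coprime_dvd_left ?_ h.hall
    have h1 := orderOf_dvd_natCard (⟨(w : G), hwW1⟩ : W₁)
    rw [Subgroup.orderOf_mk] at h1
    rwa [← Subgroup.orderOf_coe]
  obtain ⟨y, hy, c, hc, hcw, e2⟩ := Cfsg.Agent.H10.OOGrp.coset_conj (H := K) (g := w) (by
    rw [Subgroup.normalizer_eq_top]; exact Subgroup.mem_top _) hcop hk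
  rw [e] at e2
  have hcW2 : c ∈ W₂.subgroupOf L := by
    rw [← h.cent w hw hw1]
    exact ⟨hc, Subgroup.mem_centralizer_singleton_iff.2 hcw⟩
  refine ⟨y, c * w, ?_, ?_, e2⟩
  · show ((c : G)) * (w : G) ∈ W₁ ⊔ W₂
    exact (W₁ ⊔ W₂).mul_mem (Subgroup.mem_sup_right hcW2) (Subgroup.mem_sup_left hwW1)
  · intro hm
    have hm' : (c : G) * (w : G) ∈ W₂ := hm
    have h3 : (w : G) ∈ W₂ := by
      have hcW2' : (c : G) ∈ W₂ := hcW2
      have := W₂.mul_mem (W₂.inv_mem hcW2') hm'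
      rwa [inv_mul_cancel_left] at this
    exact W1_ne h hwW1 (fun h4 => hw1 (Subtype.ext h4)) h3

end PTs

section MUs

variable {G : Type*} [Group G] [Finite G] {L : Subgroup G} [Fintype L] {K : Subgroup L} {W₁ W₂ : Subgroup G} (h : PT L K W₁ W₂)
  {μ : (↥(W₁ ⊔ W₂) →* ℂˣ) → (L → ℂ)} {δ : (↥(W₁ ⊔ W₂) →* ℂˣ) → ℂ} (hμ : MU K W₁ W₂ μ δ)
include h hμ

theorem dd (ω : ↥(W₁ ⊔ W₂) →* ℂˣ) : δ ω * δ ω = 1 := by
  rcases hμ.sign ω with h | h <;> rw [h] <;> norm_num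

theorem d_ne (ω : ↥(W₁ ⊔ W₂) →* ℂˣ) : δ ω ≠ 0 := by
  rcases hμ.sign ω with h | h <;> rw [h] <;> norm_num

theorem conj_d (ω : ↥(W₁ ⊔ W₂) →* ℂˣ) : conj (δ ω) = δ ω := by
  rcases hμ.sign ω with h | h <;> rw [h] <;> simp

/-- equal degrees have equal signs -/
theorem sign_eq {ω ω' : ↥(W₁ ⊔ W₂) →* ℂˣ} (he : μ ω 1 = μ ω' 1) : δ ω = δ ω' := by
  obtain ⟨n, hn⟩ := hμ.cong ω
  obtain ⟨m, hm⟩ := hμ.cong ω'
  rw [he] at hn
  have h3 : δ ω' - δ ω = ((n - m : ℤ) : ℂ) * (Nat.card W₁ : ℂ) := by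
    push_cast; linear_combination hn - hm
  have h5 := three_W1 h
  rcases hμ.sign ω with h1 | h1 <;> rcases hμ.sign ω' with h2 | h2 <;> rw [h1, h2] at h3 ⊢
  · exfalso
    have h4 : (-2 : ℤ) = (n - m) * (Nat.card W₁ : ℤ) := by
      have : (-1 - 1 : ℂ) = ((-2 : ℤ) : ℂ) := by norm_num
      rw [this] at h3; exact_mod_cast h3
    have h6 : (Nat.card W₁ : ℤ) ∣ 2 := (dvd_neg (b := (2 : ℤ))).1 (Dvd.intro_left _ h4.symm)
    have h7 := Int.le_of_dvd (by norm_num) h6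
    omega
  · exfalso
    have h4 : (2 : ℤ) = (n - m) * (Nat.card W₁ : ℤ) := by
      have : (1 - -1 : ℂ) = ((2 : ℤ) : ℂ) := by norm_num
      rw [this] at h3; exact_mod_cast h3
    have h6 : (Nat.card W₁ : ℤ) ∣ 2 := Dvd.intro_left _ h4.symm
    have h7 := Int.le_of_dvd (by norm_num) h6
    omega

/-- `W₂` is not in the kernel of `μ ω` unless `ω` is trivial on `W₂` -/
theorem not_ker {ω : ↥(W₁ ⊔ W₂) →* ℂˣ} (hω : ¬ X1 W₁ W₂ ω) : ∃ w : L, (w : G) ∈ W₂ ∧ μ ω w ≠ μ ω 1 := by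
  by_contra hcon
  push Not at hcon
  apply hω
  intro w hw
  obtain ⟨a, ha, ha1⟩ := exists_W1 h
  have haW : a ∈ W₁ ⊔ W₂ := Subgroup.mem_sup_left ha
  let a' : L := ⟨a, h.W₁_le ha⟩
  let w' : L := ⟨w, h.W₂_le hw⟩
  have h1 : μ ω (w' * a') = μ ω a' := IsChar.mul_ker (IsIrr.isCharacter (hμ.irr ω)) (hcon w' hw) a'
  have haw : ((w' * a' : L) : G) ∈ W₁ ⊔ W₂ := (W₁ ⊔ W₂).mul_mem w.2 haW
  have haw2 : ((w' * a' : L) : G) ∉ W₂ := by
    intro hm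
    apply W1_ne h ha ha1
    have := W₂.mul_mem (W₂.inv_mem hw) hm
    have e : (w : G)⁻¹ * ((w' * a' : L) : G) = a := by
      show (w : G)⁻¹ * ((w : G) * a) = a
      group
    rwa [e] at this
  rw [hμ.val ω _ haw haw2, hμ.val ω a' haW (W1_ne h ha ha1)] at h1
  have h2 := mul_left_cancel₀ (d_ne h hμ ω) h1
  have h3 : (⟨((w' * a' : L) : G), haw⟩ : ↥(W₁ ⊔ W₂)) = w * ⟨a, haW⟩ := rfl
  have e4 : (⟨(a' : G), haW⟩ : ↥(W₁ ⊔ W₂)) = ⟨a, haW⟩ := rfl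
  rw [h3, e4, map_mul, Units.val_mul] at h2
  have h4 : (ω w : ℂ) * (ω ⟨a, haW⟩ : ℂ) = 1 * (ω ⟨a, haW⟩ : ℂ) := by rw [h2, one_mul]
  exact Units.ext (mul_right_cancel₀ (Units.ne_zero _) h4)

end MUs

section PDs

variable {G : Type*} [Group G] [Finite G] {L : Subgroup G} [Fintype L] {K H : Subgroup L} {W₁ W₂ : Subgroup G} {A : Set G}
  {R : G → Subgroup G} (h : PD L K H W₁ W₂ A R)
include h

theorem A_ne {a : G} (ha : a ∈ A) : a ≠ 1 := fun h1 => h.dade.one_not_mem (Or.inl (h1 ▸ ha))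

theorem irr_van {θ : K → ℂ} (hθ : IsIrrCharacter K θ) (hker : ¬ ∀ k : K, (k : L) ∈ H → θ k = θ 1) {k : K} (hk1 : k ≠ 1)
    (hkA : ((k : L) : G) ∉ A) : θ k = 0 := by
  haveI := Fintype.ofFinite K
  haveI := h.H_normal
  have hN : (H.subgroupOf K).Normal := inferInstance
  apply van hN hθ (fun hc => hker fun k hk => hc k hk)
  intro n hn he
  by_contra hn1
  apply hkA
  apply h.A_cent k k.2 (fun h1 => hk1 (Subtype.ext h1))
  exact ⟨n, hn, fun h1 => hn1 (Subtype.ext h1), congrArg Subtype.val he.symm⟩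

theorem ind_van {θ : K → ℂ} (hθ : IsIrrCharacter K θ) (hker : ¬ ∀ k : K, (k : L) ∈ H → θ k = θ 1) {x : L} (hx1 : x ≠ 1)
    (hxA : (x : G) ∉ A) : indFun K θ x = 0 := by
  rw [indFun, Finset.sum_eq_zero, mul_zero]
  intro y _
  by_cases hy : y⁻¹ * x * y ∈ K
  · rw [ext_mem K θ hy]
    apply irr_van h hθ hker
    · intro h1
      have h2 : y⁻¹ * x * y = 1 := congrArg Subtype.val h1
      apply hx1
      have : x = y * (y⁻¹ * x * y) * y⁻¹ := by group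
      rw [this, h2]; group
    · intro hA
      apply hxA
      have := h.A_conj y y.2 _ hA
      have e : (y : G) * ((y⁻¹ * x * y : L) : G) * (y : G)⁻¹ = x := by
        push_cast; group
      rwa [e] at this
  · exact ext_not_mem K θ hy

theorem V_A0 {v : G} (hv : v ∈ V W₁ W₂) : v ∈ A0 L W₁ W₂ A := Or.inr ⟨1, L.one_mem, v, hv, by group⟩

theorem V_L {v : G} (hv : v ∈ V W₁ W₂) : v ∈ L := W_le h.toPT (mem_V.1 hv).1

theorem V_not_K {v : L} (hv : (v : G) ∈ V W₁ W₂) : v ∉ K := fun hK =>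
  (mem_V.1 hv).2.2 ((W_mem_K h.toPT (mem_V.1 hv).1).1 hK)

/-- `R v = 1` for `v ∈ V` -/
theorem R_V {v : G} (hv : v ∈ V W₁ W₂) : R v = ⊥ := by
  rw [← le_bot_iff, ← h.dade.inf_eq_bot v (V_A0 h hv)]
  intro u hu
  have hc := h.dade.le_centralizer v (V_A0 h hv) hu
  refine ⟨hu, ?_, hc⟩
  have h1 : u * v * u⁻¹ = v := by
    rw [Subgroup.mem_centralizer_singleton_iff] at hc
    rw [hc]; group
  exact W_le h.toPT (ti h.self (t := v) hv (by rw [h1]; exact hv))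

variable {μ : (↥(W₁ ⊔ W₂) →* ℂˣ) → (L → ℂ)} {δ : (↥(W₁ ⊔ W₂) →* ℂˣ) → ℂ} (hμ : MU K W₁ W₂ μ δ)
include hμ

theorem not_ker_H {ω : ↥(W₁ ⊔ W₂) →* ℂˣ} (hω : ¬ X1 W₁ W₂ ω) : ¬ ∀ k : K, (k : L) ∈ H → μ ω k = μ ω 1 := by
  obtain ⟨w, hw, hne⟩ := not_ker h.toPT hμ hω
  intro hc
  exact hne (hc ⟨w, h.W₂K hw⟩ (h.W₂H hw))

/-- `μ ω` vanishes on `K` outside `A ∪ 1` when `ω` is nontrivial on `W₂` -/
theorem mu_van {ω : ↥(W₁ ⊔ W₂) →* ℂˣ} (hω : ¬ X1 W₁ W₂ ω) {k : L} (hk : k ∈ K) (hk1 : k ≠ 1) (hkA : (k : G) ∉ A) : μ ω k = 0 := by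
  have := irr_van h (θ := fun k : K => μ ω k) (hμ.res_irr ω) (by
    intro hc
    apply not_ker_H h hμ hω
    intro k hk
    exact hc k hk) (k := ⟨k, hk⟩) (fun h1 => hk1 (congrArg Subtype.val h1)) hkA
  exact this

/-- the support of `μ ω - μ ω'` -/
theorem sub_van {ω ω' : ↥(W₁ ⊔ W₂) →* ℂˣ} (hω : ¬ X1 W₁ W₂ ω) (hω' : ¬ X1 W₁ W₂ ω')
    (hrow : ∀ w : ↥(W₁ ⊔ W₂), (w : G) ∈ W₁ → ω w = ω' w) (hdeg : μ ω 1 = μ ω' 1) {x : L} (hx : (x : G) ∉ A0 L W₁ W₂ A) :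
    μ ω x - μ ω' x = 0 := by
  by_cases hx1 : x = 1
  · rw [hx1, hdeg, sub_self]
  by_cases hxK : x ∈ K
  · have hxA : (x : G) ∉ A := fun hA => hx (Or.inl hA)
    rw [mu_van h hμ hω hxK hx1 hxA, mu_van h hμ hω' hxK hx1 hxA, sub_self]
  · obtain ⟨y, w, hw, hw2, e⟩ := conj_W h.toPT hxK
    have hw1 : (w : G) ∈ W₁ := by
      by_contra hw1
      apply hx
      refine Or.inr ⟨(y : G)⁻¹, L.inv_mem y.2, w, mem_V.2 ⟨hw, hw1, hw2⟩, ?_⟩
      rw [← e]; push_cast; group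
    have h1 : μ ω x = μ ω w := by rw [← e]; exact (IsIrr.isClass (hμ.irr ω) x y).symm
    have h2 : μ ω' x = μ ω' w := by rw [← e]; exact (IsIrr.isClass (hμ.irr ω') x y).symm
    rw [h1, h2, hμ.val ω w hw hw2, hμ.val ω' w hw hw2, sign_eq h.toPT hμ hdeg, hrow ⟨w, hw⟩ hw1, sub_self]

end PDs

end Cfsg.Agent.H10.PrD4
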