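import Mathlib
import Cfsg.Agent.H10_PrD4

/-!
H10_PrD5: the Dade map and the cyclic TI family (Peterfalvi (4.8), (4.10)).
-/

set_option autoImplicit false
set_option linter.style.haveILetI false
set_option linter.unusedSectionVars false

namespace Cfsg.Agent.H10.PrD5

open Cfsg Cfsg.Agent.H3.CharIrr Cfsg.Agent.H3.CharComplete Cfsg.Agent.H3.CharInd Cfsg.Agent.H3.CharMult
  Cfsg.Agent.H3.CharBasic Cfsg.Agent.H3.CharCalc Cfsg.Agent.H3.Clifford Cfsg.Agent.H3.CharInt Cfsg.Agent.H3.CharQuot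
  Cfsg.Agent.H10.CycTI Cfsg.Agent.H10.CycTI2 Cfsg.Agent.H10.CycTI3 Cfsg.Agent.H10.CycTI4 Cfsg.Agent.H10.PrD2
  Cfsg.Agent.H10.PrD3 Cfsg.Agent.H10.PrD4 Cfsg.Agent.H10.Dade
open scoped ComplexConjugate

section lin

variable {G : Type*} [Group G] {A : Set G} {L : Subgroup G} {R : G → Subgroup G}

theorem dade_add (α β : L → ℂ) : dadeIsometry A L R (α + β) = dadeIsometry A L R α + dadeIsometry A L R β := by
  funext g
  rw [Pi.add_apply]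
  unfold dadeIsometry
  split_ifs
  · rfl
  · rw [add_zero]

theorem dade_sub (α β : L → ℂ) : dadeIsometry A L R (α - β) = dadeIsometry A L R α - dadeIsometry A L R β := by
  funext g
  rw [Pi.sub_apply]
  unfold dadeIsometry
  split_ifs
  · rfl
  · rw [sub_zero]

theorem dade_neg (α : L → ℂ) : dadeIsometry A L R (-α) = - dadeIsometry A L R α := by
  funext g
  rw [Pi.neg_apply]
  unfold dadeIsometry
  split_ifs
  · rfl
  · rw [neg_zero]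

theorem dade_smul (c : ℂ) (α : L → ℂ) : dadeIsometry A L R (c • α) = c • dadeIsometry A L R α := by
  funext g
  rw [Pi.smul_apply]
  unfold dadeIsometry
  split_ifs
  · rfl
  · rw [smul_zero]

theorem dade_zsmul (n : ℤ) (α : L → ℂ) : dadeIsometry A L R (n • α) = n • dadeIsometry A L R α := by
  funext g
  rw [Pi.smul_apply]
  unfold dadeIsometry
  split_ifs
  · rfl
  · rw [smul_zero]

theorem dade_zero' : dadeIsometry A L R (0 : L → ℂ) = 0 := by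
  funext g
  unfold dadeIsometry
  split_ifs
  · rfl
  · rfl

theorem dade_sum {ι : Type*} (s : Finset ι) (f : ι → L → ℂ) : dadeIsometry A L R (∑ i ∈ s, f i) = ∑ i ∈ s, dadeIsometry A L R (f i) := by
  classical
  induction s using Finset.induction_on with
  | empty => simp [dade_zero']
  | insert a s ha ih => rw [Finset.sum_insert ha, Finset.sum_insert ha, dade_add, ih]

theorem dade_conj (α : L → ℂ) : dadeIsometry A L R (conjFun α) = conjFun (dadeIsometry A L R α) := by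
  funext g
  show dadeIsometry A L R (conjFun α) g = conj (dadeIsometry A L R α g)
  unfold dadeIsometry
  split_ifs
  · rfl
  · rw [map_zero]

theorem dade_at_one (hD : DadeHypothesis A L R) (α : L → ℂ) : dadeIsometry A L R α 1 = 0 := by
  apply dade_zero
  rintro ⟨a, ha, x, u, hu, e⟩
  have e1 : (a : G) * u = 1 := by rw [← e]; group
  have e2 : (a : G) ∈ R (a : G) := by
    have e3 : (a : G) = u⁻¹ := mul_eq_one_iff_eq_inv.1 e1
    have e4 := (R (a : G)).inv_mem hu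
    rwa [← e3] at e4
  have e3 : (a : G) ∈ R (a : G) ⊓ (L ⊓ Subgroup.centralizer ({(a : G)} : Set G)) :=
    ⟨e2, a.2, Subgroup.mem_centralizer_singleton_iff.2 rfl⟩
  rw [hD.inf_eq_bot _ ha, Subgroup.mem_bot] at e3
  exact hD.one_not_mem (e3 ▸ ha)

/-- value at `a ∈ A` -/
theorem dade_val [Finite G] (hD : DadeHypothesis A L R) {α : L → ℂ} (hα : IsClassFunction L α) {a : L} (ha : (a : G) ∈ A) :
    dadeIsometry A L R α a = α a :=
  dade_apply hD hα ha (x := 1) (R (a : G)).one_mem (by group)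

end lin

variable {G : Type*} [Group G] [Fintype G] {L : Subgroup G} [Fintype L] {K H : Subgroup L} {W₁ W₂ : Subgroup G} {A : Set G}
  {R : G → Subgroup G} (h : PD L K H W₁ W₂ A R)
include h

/-- the Dade map extends induction from `W` on functions supported on `V` -/
theorem dade_ind {f : ↥(W₁ ⊔ W₂) → ℂ} (hf : ∀ x : ↥(W₁ ⊔ W₂), (x : G) ∉ V W₁ W₂ → f x = 0) :
    dadeIsometry (A0 L W₁ W₂ A) L R (indFun ((W₁ ⊔ W₂).subgroupOf L) (fun w => f ⟨w, w.2⟩)) = indFun (W₁ ⊔ W₂) f := by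
  classical
  haveI := Fintype.ofFinite ↥(W₁ ⊔ W₂)
  set F := indFun ((W₁ ⊔ W₂).subgroupOf L) (fun w => f ⟨w, w.2⟩) with hF
  have hFc : IsClassFunction L F := ind_isClass _ _
  have hF0 : ∀ x : L, (∀ y : L, (y * x * y⁻¹ : L).1 ∉ V W₁ W₂) → F x = 0 := by
    intro x hx
    rw [hF, indFun, Finset.sum_eq_zero, mul_zero]
    intro y _
    by_cases hy : y⁻¹ * x * y ∈ (W₁ ⊔ W₂).subgroupOf L
    · rw [ext_mem _ _ hy]
      apply hf
      have := hx y⁻¹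
      rw [inv_inv] at this
      exact this
    · exact ext_not_mem _ _ hy
  have hFV : ∀ v : L, ∀ hv : (v : G) ∈ V W₁ W₂, F v = f ⟨v, (mem_V.1 hv).1⟩ := by
    intro v hv
    have hTI : ∀ g : L, g ∉ (W₁ ⊔ W₂).subgroupOf L → ∀ t ∈ {t : L | (t : G) ∈ V W₁ W₂}, g * t * g⁻¹ ∈ {t : L | (t : G) ∈ V W₁ W₂} → t = 1 := by
      intro g hg t ht hgt
      exact absurd (ti h.self (g := (g : G)) (t := (t : G)) ht hgt) hg
    have hab' : ∀ a b : ↥((W₁ ⊔ W₂).subgroupOf L), a * b = b * a := by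
      intro a b
      apply Subtype.ext
      apply Subtype.ext
      exact congrArg (fun z : ↥(W₁ ⊔ W₂) => (z : G)) (hab h.self ⟨(a : L), a.2⟩ ⟨(b : L), b.2⟩)
    have := Cfsg.Agent.H3.CharTI.ind_eq_of_TI' ((W₁ ⊔ W₂).subgroupOf L) {t : L | (t : G) ∈ V W₁ W₂} hTI
      (fun w => f ⟨w, w.2⟩) (by intro a b; rw [hab' b a, mul_inv_cancel_right]) (fun x hx => hf _ hx)
      ⟨v, (mem_V.1 hv).1⟩ hv (by
        intro h1
        have h2 : (v : G) = 1 := congrArg (fun z : ↥((W₁ ⊔ W₂).subgroupOf L) => ((z : L) : G)) h1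
        rw [mem_V, h2] at hv
        exact hv.2.1 W₁.one_mem)
    exact this
  funext g
  by_cases hg : ∃ y : G, y * g * y⁻¹ ∈ V W₁ W₂
  · obtain ⟨y, hy⟩ := hg
    have h1 : indFun (W₁ ⊔ W₂) f g = f ⟨y * g * y⁻¹, (mem_V.1 hy).1⟩ := by
      rw [← ind_isClass (W₁ ⊔ W₂) f g y]
      exact ind_V h.self hf ⟨y * g * y⁻¹, (mem_V.1 hy).1⟩ hy
    have h2 : dadeIsometry (A0 L W₁ W₂ A) L R F g = F ⟨y * g * y⁻¹, V_L h hy⟩ := by
      rw [← dade_class h.dade hFc g y]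
      exact dade_val h.dade hFc (a := ⟨y * g * y⁻¹, V_L h hy⟩) (V_A0 h hy)
    rw [h1, h2, hFV ⟨y * g * y⁻¹, V_L h hy⟩ hy]
  · push Not at hg
    have h1 : indFun (W₁ ⊔ W₂) f g = 0 := by
      rw [indFun, Finset.sum_eq_zero, mul_zero]
      intro y _
      by_cases hy : y⁻¹ * g * y ∈ W₁ ⊔ W₂
      · rw [ext_mem _ _ hy]
        apply hf
        have := hg y⁻¹
        rwa [inv_inv] at this
      · exact ext_not_mem _ _ hy
    rw [h1]
    by_cases hex : ∃ a : ↥L, (a : G) ∈ A0 L W₁ W₂ A ∧ ∃ x : G, ∃ u ∈ R (a : G), x * g * x⁻¹ = (a : G) * u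
    · obtain ⟨a, ha, x, u, hu, e⟩ := hex
      rw [dade_apply h.dade hFc ha hu e]
      apply hF0
      intro y hy
      -- then R a = 1
      have ha' : (y * a * y⁻¹ : L).1 ∈ A0 L W₁ W₂ A := V_A0 h hy
      have hc1 := card_H_conj h.dade ha ha' (g := (y : G)) (by push_cast; rfl)
      rw [R_V h hy] at hc1
      have hRa : R (a : G) = ⊥ := by
        rw [← Subgroup.card_eq_one]
        rw [Subgroup.card_bot] at hc1
        first | exact hc1 | exact hc1.symm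
      rw [hRa, Subgroup.mem_bot] at hu
      rw [hu, mul_one] at e
      apply hg (y * x)
      have e3 : (y * x : G) * g * (y * x : G)⁻¹ = (y : G) * (x * g * x⁻¹) * (y : G)⁻¹ := by group
      rw [e3, e]
      exact hy
    · exact dade_zero hex

variable {μ : (↥(W₁ ⊔ W₂) →* ℂˣ) → (L → ℂ)} {δ : (↥(W₁ ⊔ W₂) →* ℂˣ) → ℂ} (hμ : MU K W₁ W₂ μ δ)
  {η : (↥(W₁ ⊔ W₂) →* ℂˣ) → (G → ℂ)} (hη : IsCyclicTIFamily W₁ W₂ η)
include hμ hη

/-- Peterfalvi (4.10) -/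
theorem tau_four {φ ψ : ↥(W₁ ⊔ W₂) →* ℂˣ} (hφ : X1 W₁ W₂ φ) (hψ : X2 W₁ W₂ ψ) :
    dadeIsometry (A0 L W₁ W₂ A) L R (δ ψ • (μ (φ * ψ) - μ ψ) - (μ φ - μ 1)) = η (φ * ψ) - η φ - η ψ + η 1 := by
  haveI := Fintype.ofFinite ↥(W₁ ⊔ W₂)
  have h1 : Ag W₁ W₂ (φ * ψ) ψ := fun w hw => by rw [MonoidHom.mul_apply, hφ w hw, one_mul]
  have h2 : Ag W₁ W₂ φ 1 := fun w hw => by rw [hφ w hw]; rfl
  have e1 := hμ.ind _ _ h1
  have e2 := hμ.ind _ _ h2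
  rw [hμ.sign_col _ _ h1] at e1
  rw [hμ.sign_col _ _ h2, (hμ.lin 1 (fun w _ => rfl)).1, one_smul] at e2
  rw [← e1, ← e2, ← ind_sub]
  have h3 : ((fun w : ↥((W₁ ⊔ W₂).subgroupOf L) => ((φ * ψ) ⟨w, w.2⟩ : ℂ) - (ψ ⟨w, w.2⟩ : ℂ)) - fun w : ↥((W₁ ⊔ W₂).subgroupOf L) => (φ ⟨w, w.2⟩ : ℂ) - ((1 : ↥(W₁ ⊔ W₂) →* ℂˣ) ⟨w, w.2⟩ : ℂ)) =
      fun w : ↥((W₁ ⊔ W₂).subgroupOf L) => al φ ψ ⟨w, w.2⟩ := by
    funext w
    rw [Pi.sub_apply, al, MonoidHom.mul_apply, Units.val_mul, MonoidHom.one_apply, Units.val_one]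
    ring
  rw [h3, dade_ind h (al_V hφ hψ), ind_al h.self hη hφ hψ]
  funext g
  simp only [Pi.sub_apply, Pi.add_apply, hη.map_one]
  ring

/-- Peterfalvi (4.8) -/
theorem tau_sub {φ ψ₁ ψ₂ : ↥(W₁ ⊔ W₂) →* ℂˣ} (hφ : X1 W₁ W₂ φ) (hψ₁ : X2 W₁ W₂ ψ₁) (hψ₂ : X2 W₁ W₂ ψ₂) (h1 : ψ₁ ≠ 1) (h2 : ψ₂ ≠ 1)
    (hdeg : μ (φ * ψ₁) 1 = μ (φ * ψ₂) 1) :
    dadeIsometry (A0 L W₁ W₂ A) L R (μ (φ * ψ₁) - μ (φ * ψ₂)) = δ (φ * ψ₁) • (η (φ * ψ₁) - η (φ * ψ₂)) := by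
  classical
  by_cases h12 : ψ₁ = ψ₂
  · rw [h12, sub_self, sub_self, dade_zero', smul_zero]
  have hX : ∀ ψ, X2 W₁ W₂ ψ → ψ ≠ 1 → ¬ X1 W₁ W₂ (φ * ψ) := by
    intro ψ hψ hne hc
    apply hne
    apply eq_one_of_X _ hψ (hdisj h.self) (hcomm h.self)
    intro w hw
    have := hc w hw
    rw [MonoidHom.mul_apply, hφ w hw, one_mul] at this
    exact this
  have hne : μ (φ * ψ₁) ≠ μ (φ * ψ₂) := fun he => h12 (mul_left_cancel (hμ.inj he))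
  have hc1 := IsIrr.isClass (hμ.irr (φ * ψ₁))
  have hc2 := IsIrr.isClass (hμ.irr (φ * ψ₂))
  have hgen : IsGeneralizedCharacter L (μ (φ * ψ₁) - μ (φ * ψ₂)) := IsGen.sub (IsGen.of_irr (hμ.irr _)) (IsGen.of_irr (hμ.irr _))
  have hsupp : ∀ x : L, (x : G) ∉ A0 L W₁ W₂ A → (μ (φ * ψ₁) - μ (φ * ψ₂)) x = 0 := fun x hx =>
    sub_van h hμ (hX ψ₁ hψ₁ h1) (hX ψ₂ hψ₂ h2) (fun w hw => by
      rw [MonoidHom.mul_apply, MonoidHom.mul_apply, hψ₁ w hw, hψ₂ w hw]) hdeg hx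
  have hg : IsGeneralizedCharacter G (dadeIsometry (A0 L W₁ W₂ A) L R (μ (φ * ψ₁) - μ (φ * ψ₂))) :=
    Cfsg.Agent.H10.Dade3.dade_gen h.dade hgen hsupp
  have hnorm : classInner (dadeIsometry (A0 L W₁ W₂ A) L R (μ (φ * ψ₁) - μ (φ * ψ₂)))
      (dadeIsometry (A0 L W₁ W₂ A) L R (μ (φ * ψ₁) - μ (φ * ψ₂))) = 2 := by
    rw [isometry h.dade (IsGen.isClass hgen) hsupp (IsGen.isClass hgen)]
    simp only [ci_sub_left, ci_sub_right]
    rw [ci_irr_self (hμ.irr _), ci_irr_self (hμ.irr _), ci_irr_ne (hμ.irr _) (hμ.irr _) hne, ci_irr_ne (hμ.irr _) (hμ.irr _) hne.symm]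
    norm_num
  have hdd := dd h.toPT hμ (φ * ψ₁)
  have key := sub_eta h.self (odd_W h.toPT) hη (ψ := δ (φ * ψ₁) • dadeIsometry (A0 L W₁ W₂ A) L R (μ (φ * ψ₁) - μ (φ * ψ₂)))
    (by
      rcases hμ.sign (φ * ψ₁) with h3 | h3
      · rw [h3, one_smul]; exact hg
      · rw [h3]; simpa using IsGen.neg hg) (by
      rw [ci_smul_left, ci_smul_right, conj_d h.toPT hμ, ← mul_assoc, hdd, one_mul, hnorm]) hφ hψ₁ hψ₂ h12 (by
      intro w hw1 hw2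
      have hv : (w : G) ∈ V W₁ W₂ := mem_V.2 ⟨w.2, hw1, hw2⟩
      have hwL : (w : G) ∈ L := V_L h hv
      have := dade_val h.dade (IsGen.isClass hgen) (a := ⟨w, hwL⟩) (V_A0 h hv)
      have hv1 := hμ.val (φ * ψ₁) ⟨w, hwL⟩ w.2 hw2
      have hv2 := hμ.val (φ * ψ₂) ⟨w, hwL⟩ w.2 hw2
      rw [Pi.smul_apply, smul_eq_mul]
      have e0 : dadeIsometry (A0 L W₁ W₂ A) L R (μ (φ * ψ₁) - μ (φ * ψ₂)) w =
          δ (φ * ψ₁) * ((φ * ψ₁) w : ℂ) - δ (φ * ψ₁) * ((φ * ψ₂) w : ℂ) := by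
        rw [this, Pi.sub_apply, hv1, hv2, ← sign_eq h.toPT hμ hdeg]
      rw [e0]
      have e1 : ∀ a b : ℂ, δ (φ * ψ₁) * (δ (φ * ψ₁) * a - δ (φ * ψ₁) * b) = (δ (φ * ψ₁) * δ (φ * ψ₁)) * (a - b) := fun a b => by ring
      rw [e1, hdd, one_mul])
  rw [← key, smul_smul, hdd, one_smul]

end Cfsg.Agent.H10.PrD5
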