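import Cfsg.Statements.S1518
import Cfsg.Agent.H10_Dade3
import Cfsg.Agent.H3_Isom

set_option autoImplicit false
open Cfsg

namespace Cfsg.Agent.S1518

open Cfsg.Agent.H3.CharIrr Cfsg.Agent.H3.CharComplete Cfsg.Agent.H3.CharInd Cfsg.Agent.H10.Dade
open scoped ComplexConjugate

/-- Under the Dade hypothesis for (A, L, H): if χ is an irreducible character of L vanishing at every non-identity element of L outside A, then the Dade image of χ − conj χ equals μ − conj μ for some irreducible character μ of G. -/
theorem result {G : Type*} [Group G] [Fintype G] (A : Set G) (L : Subgroup G) [Fintype L] (H : G → Subgroup G) (hD : Cfsg.DadeHypothesis A L H) (χ : L → ℂ) (hχ : Cfsg.IsIrrCharacter L χ) (hsupp : ∀ x : L, x ≠ 1 → (x : G) ∉ A → χ x = 0) : ∃ μ : G → ℂ, Cfsg.IsIrrCharacter G μ ∧ Cfsg.dadeIsometry A L H (χ - Cfsg.conjFun χ) = μ - Cfsg.conjFun μ := by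
  classical
  have hconj : ∀ (β : L → ℂ) (g : G), dadeIsometry A L H (conjFun β) g = conj (dadeIsometry A L H β g) := by
    intro β g
    unfold dadeIsometry
    split_ifs
    · rfl
    · rw [map_zero]
  have hneg : ∀ (β : L → ℂ) (g : G), dadeIsometry A L H (-β) g = - (dadeIsometry A L H β g) := by
    intro β g
    unfold dadeIsometry
    split_ifs
    · rfl
    · rw [neg_zero]
  by_cases heq : χ = conjFun χ
  · refine ⟨fun _ => 1, isIrr_one, ?_⟩
    have h0 : χ - conjFun χ = 0 := sub_eq_zero.2 heq
    rw [h0]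
    funext g
    have h1 : ((fun _ => (1 : ℂ)) - conjFun (fun _ => (1 : ℂ)) : G → ℂ) g = 0 := by
      simp [conjFun]
    rw [h1]
    unfold dadeIsometry
    split_ifs
    · rfl
    · rfl
  · set α : L → ℂ := χ - conjFun χ with hαdef
    have hχ' : IsIrrCharacter L (conjFun χ) := IsIrr.conj hχ
    have hαgen : IsGeneralizedCharacter L α := IsGen.sub (IsGen.of_irr hχ) (IsGen.of_irr hχ')
    have hαA : ∀ x : L, (x : G) ∉ A → α x = 0 := by
      intro x hx
      rw [hαdef, Pi.sub_apply, conjFun]
      by_cases hx1 : x = 1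
      · obtain ⟨m, _, hm⟩ := IsIrr.one_eq_nat hχ
        rw [hx1, hm]; simp
      · rw [hsupp x hx1 hx]; simp
    have hgen := Cfsg.Agent.H10.Dade3.dade_gen hD hαgen hαA
    have hnorm : classInner (dadeIsometry A L H α) (dadeIsometry A L H α) = 2 := by
      rw [isometry hD (IsGen.isClass hαgen) hαA (IsGen.isClass hαgen), hαdef, Cfsg.Agent.H3.Isom.ci_diff hχ hχ' hχ hχ']
      rw [if_pos rfl, if_neg heq, if_neg (fun h => heq h.symm), if_pos rfl]
      norm_num
    have hone : dadeIsometry A L H α 1 = 0 := by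
      apply dade_zero
      rintro ⟨a, ha, x, u, hu, e⟩
      have e1 : (a : G) * u = 1 := by rw [← e]; group
      have e2 : (a : G) ∈ H (a : G) := by
        have e3 : (a : G) = u⁻¹ := mul_eq_one_iff_eq_inv.1 e1
        have e4 := (H (a : G)).inv_mem hu
        rwa [← e3] at e4
      have e3 : (a : G) ∈ H (a : G) ⊓ (L ⊓ Subgroup.centralizer ({(a : G)} : Set G)) :=
        ⟨e2, a.2, Subgroup.mem_centralizer_singleton_iff.2 rfl⟩
      rw [hD.inf_eq_bot _ ha, Subgroup.mem_bot] at e3
      exact hD.one_not_mem (e3 ▸ ha)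
    obtain ⟨μ, ν, hμ, hν, hne, hμν⟩ := Cfsg.Agent.H3.Isom.isGen_norm_two_one hgen hnorm hone
    refine ⟨μ, hμ, ?_⟩
    have hμ' : IsIrrCharacter G (conjFun μ) := IsIrr.conj hμ
    have hν' : IsIrrCharacter G (conjFun ν) := IsIrr.conj hν
    have h1 : ∀ g, conj (μ g) - conj (ν g) = ν g - μ g := by
      intro g
      have h2 := congrFun hμν g
      have h3 : conjFun α = -α := by
        funext x
        simp [hαdef, conjFun]
      have h4 := hconj α g
      rw [h3, hneg, h2, Pi.sub_apply, map_sub] at h4
      rw [← h4]; ring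
    have h2 : conjFun μ + μ = ν + conjFun ν := by
      funext g
      have := h1 g
      simp only [Pi.add_apply, conjFun]
      linear_combination this
    have h3 : classInner (conjFun μ + μ) (conjFun μ) = classInner (ν + conjFun ν) (conjFun μ) := by rw [h2]
    rw [ci_add_left, ci_add_left, ci_irr_self hμ', ci_irr hμ hμ', ci_irr hν hμ', ci_irr hν' hμ'] at h3
    have h4 : conjFun ν ≠ conjFun μ := by
      intro h
      apply hne
      funext g
      have := congrFun h g
      exact (starRingEnd ℂ).injective this.symm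
    rw [if_neg h4] at h3
    have h5 : ν = conjFun μ := by
      by_contra h6
      rw [if_neg h6] at h3
      split_ifs at h3 <;> norm_num at h3
    rw [hμν, h5]

end Cfsg.Agent.S1518
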