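import Mathlib
import Cfsg.Agent.H10_PrD5
import Cfsg.Agent.H10_Sib2
import Cfsg.Agent.S1518

/-!
H10_PrD6: the reducible characters μ_j and coherence systems (Peterfalvi (4.9), (5.9)).
-/

set_option autoImplicit false
set_option linter.style.haveILetI false
set_option linter.unusedSectionVars false

namespace Cfsg.Agent.H10.PrD6

open Cfsg Cfsg.Agent.H3.CharIrr Cfsg.Agent.H3.CharComplete Cfsg.Agent.H3.CharInd Cfsg.Agent.H3.CharMult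
  Cfsg.Agent.H3.CharBasic Cfsg.Agent.H3.CharCalc Cfsg.Agent.H3.Clifford Cfsg.Agent.H3.CharInt Cfsg.Agent.H3.CharQuot
  Cfsg.Agent.H10.CycTI Cfsg.Agent.H10.CycTI2 Cfsg.Agent.H10.CycTI3 Cfsg.Agent.H10.CycTI4 Cfsg.Agent.H10.PrD2
  Cfsg.Agent.H10.PrD3 Cfsg.Agent.H10.PrD4 Cfsg.Agent.H10.PrD5 Cfsg.Agent.H10.Dade Cfsg.Agent.H10.PM Cfsg.Agent.H10.Coh
  Cfsg.Agent.H10.Coh2 Cfsg.Agent.H10.Coh3 Cfsg.Agent.H10.IndSet2 Cfsg.Agent.H10.OOClif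
open scoped ComplexConjugate

section Base

variable {G : Type*} [Group G] [Finite G] {W₁ W₂ : Subgroup G}

/-- the characters of `W` trivial on `W₂`, as a finset -/
noncomputable def X1F (W₁ W₂ : Subgroup G) : Finset (↥(W₁ ⊔ W₂) →* ℂˣ) := (Set.toFinite {φ | X1 W₁ W₂ φ}).toFinset

theorem mem_X1F {φ : ↥(W₁ ⊔ W₂) →* ℂˣ} : φ ∈ X1F W₁ W₂ ↔ X1 W₁ W₂ φ := by
  rw [X1F, Set.Finite.mem_toFinset]; rfl

theorem card_X1F (hW : IsSelfNormalizingCyclic W₁ W₂) : (X1F W₁ W₂).card = Nat.card W₁ := by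
  haveI := Fintype.ofFinite G
  rw [← card_X1 hW, X1F, ← Nat.card_eq_card_finite_toFinset]
  rfl

theorem X1_one : X1 W₁ W₂ 1 := fun _ _ => rfl
theorem X2_one : X2 W₁ W₂ 1 := fun _ _ => rfl
theorem X1_mul {φ φ' : ↥(W₁ ⊔ W₂) →* ℂˣ} (h : X1 W₁ W₂ φ) (h' : X1 W₁ W₂ φ') : X1 W₁ W₂ (φ * φ') := fun w hw => by
  rw [MonoidHom.mul_apply, h w hw, h' w hw, one_mul]
theorem X2_mul {φ φ' : ↥(W₁ ⊔ W₂) →* ℂˣ} (h : X2 W₁ W₂ φ) (h' : X2 W₁ W₂ φ') : X2 W₁ W₂ (φ * φ') := fun w hw => by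
  rw [MonoidHom.mul_apply, h w hw, h' w hw, one_mul]
theorem X1_inv {φ : ↥(W₁ ⊔ W₂) →* ℂˣ} (h : X1 W₁ W₂ φ) : X1 W₁ W₂ φ⁻¹ := fun w hw => by
  rw [MonoidHom.inv_apply, h w hw, inv_one]
theorem X2_inv {φ : ↥(W₁ ⊔ W₂) →* ℂˣ} (h : X2 W₁ W₂ φ) : X2 W₁ W₂ φ⁻¹ := fun w hw => by
  rw [MonoidHom.inv_apply, h w hw, inv_one]

theorem inv_inv' (φ : ↥(W₁ ⊔ W₂) →* ℂˣ) : (φ⁻¹)⁻¹ = φ := by
  ext w; rw [MonoidHom.inv_apply, MonoidHom.inv_apply, inv_inv]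

theorem inv_ne_one {φ : ↥(W₁ ⊔ W₂) →* ℂˣ} (h : φ ≠ 1) : φ⁻¹ ≠ 1 := fun h1 => h (by
  rw [← inv_inv' φ, h1]
  ext w; simp)

theorem mul_inv'' (φ ψ : ↥(W₁ ⊔ W₂) →* ℂˣ) : (φ * ψ)⁻¹ = φ⁻¹ * ψ⁻¹ := by
  ext w
  rw [MonoidHom.inv_apply, MonoidHom.mul_apply, MonoidHom.mul_apply, MonoidHom.inv_apply, MonoidHom.inv_apply, mul_inv]

/-- agreement on `W₂` in terms of the decomposition -/
theorem ag_iff (hW : IsSelfNormalizingCyclic W₁ W₂) {ψ ω : ↥(W₁ ⊔ W₂) →* ℂˣ} : Ag W₁ W₂ ψ ω ↔ ∃ φ, X1 W₁ W₂ φ ∧ ω = φ * ψ := by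
  constructor
  · intro hag
    refine ⟨ω * ψ⁻¹, fun w hw => ?_, ?_⟩
    · rw [MonoidHom.mul_apply, MonoidHom.inv_apply, hag w hw, mul_inv_cancel]
    · ext w
      rw [MonoidHom.mul_apply, MonoidHom.mul_apply, MonoidHom.inv_apply, inv_mul_cancel_right]
  · rintro ⟨φ, hφ, rfl⟩ w hw
    rw [MonoidHom.mul_apply, hφ w hw, one_mul]

/-- nontrivial characters of odd order groups are not self-inverse -/
theorem inv_ne (hodd : Odd (Nat.card ↥(W₁ ⊔ W₂))) {φ : ↥(W₁ ⊔ W₂) →* ℂˣ} (h : φ ≠ 1) : φ⁻¹ ≠ φ := by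
  intro he
  apply h
  ext w
  have h1 : (φ w)⁻¹ = φ w := by rw [← MonoidHom.inv_apply, he]
  have h2 : φ w * φ w = 1 := by
    nth_rw 1 [← h1]; exact inv_mul_cancel _
  have h3 : orderOf (φ w) ∣ 2 := orderOf_dvd_of_pow_eq_one (by rw [pow_two]; exact h2)
  have h4 : orderOf (φ w) ∣ Nat.card ↥(W₁ ⊔ W₂) := (orderOf_map_dvd φ w).trans (orderOf_dvd_natCard w)
  have h5 : orderOf (φ w) = 1 := by
    rcases (Nat.dvd_prime Nat.prime_two).1 h3 with h5 | h5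
    · exact h5
    · rw [h5] at h4
      exact absurd (even_iff_two_dvd.2 h4) (Nat.not_even_iff_odd.2 hodd)
  rw [orderOf_eq_one_iff.1 h5]; simp

/-- `Σ_i η_ij` -/
noncomputable def etaC (η : (↥(W₁ ⊔ W₂) →* ℂˣ) → (G → ℂ)) (ψ : ↥(W₁ ⊔ W₂) →* ℂˣ) : G → ℂ := ∑ φ ∈ X1F W₁ W₂, η (φ * ψ)

end Base

/-- `μ_j`: the induced character -/
noncomputable def red {G : Type*} [Group G] {L : Subgroup G} [Fintype L] (K : Subgroup L) {W₁ W₂ : Subgroup G}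
    (μ : (↥(W₁ ⊔ W₂) →* ℂˣ) → (L → ℂ)) (ψ : ↥(W₁ ⊔ W₂) →* ℂˣ) : L → ℂ := indFun K (fun k : K => μ ψ k)

/-- characters induced from irreducible characters of `K` whose kernel contains `M` but not `H` -/
def indD {L : Type*} [Group L] [Fintype L] (K H M : Subgroup L) : Set (L → ℂ) :=
  {χ | ∃ θ : K → ℂ, IsIrrCharacter K θ ∧ (∃ k : K, (k : L) ∈ H ∧ θ k ≠ θ 1) ∧ (∀ k : K, (k : L) ∈ M → θ k = θ 1) ∧ χ = indFun K θ}

section MUs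

variable {G : Type*} [Group G] [Finite G] {L : Subgroup G} [Fintype L] {K : Subgroup L} {W₁ W₂ : Subgroup G} (h : PT L K W₁ W₂)
  {μ : (↥(W₁ ⊔ W₂) →* ℂˣ) → (L → ℂ)} {δ : (↥(W₁ ⊔ W₂) →* ℂˣ) → ℂ} (hμ : MU K W₁ W₂ μ δ)
include h hμ

theorem red_sum (ψ : ↥(W₁ ⊔ W₂) →* ℂˣ) : red K μ ψ = ∑ φ ∈ X1F W₁ W₂, μ (φ * ψ) := by
  classical
  rw [red, hμ.ind_res ψ ((X1F W₁ W₂).image (fun φ => φ * ψ)) (fun ω' => by
    rw [Finset.mem_image, ag_iff h.self]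
    constructor
    · rintro ⟨φ, h1, h2⟩; exact ⟨φ, mem_X1F.1 h1, h2.symm⟩
    · rintro ⟨φ, h1, h2⟩; exact ⟨φ, mem_X1F.2 h1, h2.symm⟩), Finset.sum_image]
  intro a _ b _ hab
  exact mul_right_cancel hab

theorem mu_if [DecidableEq (↥(W₁ ⊔ W₂) →* ℂˣ)] (ω ω' : ↥(W₁ ⊔ W₂) →* ℂˣ) : classInner (μ ω) (μ ω') = if ω = ω' then 1 else 0 := by
  split_ifs with h1
  · rw [h1]; exact ci_irr_self (hμ.irr _)
  · exact ci_irr_ne (hμ.irr _) (hμ.irr _) fun h2 => h1 (hμ.inj h2)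

theorem red_mu {ψ ψ' φ : ↥(W₁ ⊔ W₂) →* ℂˣ} (hψ : X2 W₁ W₂ ψ) (hψ' : X2 W₁ W₂ ψ') (hφ : X1 W₁ W₂ φ)
    [DecidableEq (↥(W₁ ⊔ W₂) →* ℂˣ)] : classInner (red K μ ψ) (μ (φ * ψ')) = if ψ = ψ' then 1 else 0 := by
  rw [red_sum h hμ, ci_sum_left]
  split_ifs with he
  · subst he
    rw [Finset.sum_eq_single φ]
    · exact ci_irr_self (hμ.irr _)
    · intro φ' _ hne
      exact ci_irr_ne (hμ.irr _) (hμ.irr _) fun h2 => hne (mul_right_cancel (hμ.inj h2))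
    · intro hc; exact absurd (mem_X1F.2 hφ) hc
  · apply Finset.sum_eq_zero
    intro φ' hφ'
    refine ci_irr_ne (hμ.irr _) (hμ.irr _) fun h2 => he ?_
    exact (X_inj (mem_X1F.1 hφ') hφ hψ hψ' (hdisj h.self) (hcomm h.self) (hμ.inj h2)).2

theorem red_red {ψ ψ' : ↥(W₁ ⊔ W₂) →* ℂˣ} (hψ : X2 W₁ W₂ ψ) (hψ' : X2 W₁ W₂ ψ') [DecidableEq (↥(W₁ ⊔ W₂) →* ℂˣ)] :
    classInner (red K μ ψ) (red K μ ψ') = if ψ = ψ' then (Nat.card W₁ : ℂ) else 0 := by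
  conv_lhs => rw [red_sum h hμ ψ', ci_sum_right]
  rw [Finset.sum_congr rfl fun φ hφ => red_mu h hμ hψ hψ' (mem_X1F.1 hφ), Finset.sum_const, card_X1F h.self]
  split_ifs <;> simp

theorem red_char (ψ : ↥(W₁ ⊔ W₂) →* ℂˣ) : IsCharacter L (red K μ ψ) := IsChar.ind (IsIrr.isCharacter (hμ.res_irr ψ))

theorem red_inj {ψ ψ' : ↥(W₁ ⊔ W₂) →* ℂˣ} (hψ : X2 W₁ W₂ ψ) (hψ' : X2 W₁ W₂ ψ') (he : red K μ ψ = red K μ ψ') : ψ = ψ' := by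
  classical
  by_contra hne
  have h1 := red_red h hμ hψ hψ'
  rw [if_neg hne, he, red_red h hμ hψ' hψ', if_pos rfl] at h1
  exact Nat.cast_ne_zero.2 Nat.card_pos.ne' h1

theorem red_not_irr {ψ : ↥(W₁ ⊔ W₂) →* ℂˣ} (hψ : X2 W₁ W₂ ψ) : ¬ IsIrrCharacter L (red K μ ψ) := by
  classical
  intro hc
  have h1 := red_red h hμ hψ hψ
  rw [if_pos rfl, ci_irr_self hc] at h1
  have h2 : (1 : ℕ) = Nat.card W₁ := by exact_mod_cast h1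
  have := three_W1 h
  omega

theorem red_one (ψ : ↥(W₁ ⊔ W₂) →* ℂˣ) : red K μ ψ 1 = (Nat.card W₁ : ℂ) * μ ψ 1 := by
  rw [red, ind_one, index_K h]; rfl

theorem red_off {ψ : ↥(W₁ ⊔ W₂) →* ℂˣ} {x : L} (hx : x ∉ K) : red K μ ψ x = 0 := by
  haveI := h.normal
  exact ind_of_not_mem h.normal _ hx

theorem deg_col (φ ψ : ↥(W₁ ⊔ W₂) →* ℂˣ) (hφ : X1 W₁ W₂ φ) : μ (φ * ψ) 1 = μ ψ 1 :=
  (hμ.res_col ψ (φ * ψ) ((ag_iff h.self).2 ⟨φ, hφ, rfl⟩) 1 K.one_mem).symm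

theorem sign_col' (φ ψ : ↥(W₁ ⊔ W₂) →* ℂˣ) (hφ : X1 W₁ W₂ φ) : δ (φ * ψ) = δ ψ :=
  (hμ.sign_col ψ (φ * ψ) ((ag_iff h.self).2 ⟨φ, hφ, rfl⟩)).symm

/-- the values on `W \ W₂` determine `ω` and the sign -/
theorem val_unique {ω ω' : ↥(W₁ ⊔ W₂) →* ℂˣ} {s t : ℂ} (hs : s = 1 ∨ s = -1) (ht : t = 1 ∨ t = -1)
    (he : ∀ w : ↥(W₁ ⊔ W₂), (w : G) ∉ W₂ → s * (ω w : ℂ) = t * (ω' w : ℂ)) : ω = ω' ∧ s = t := by
  obtain ⟨a, ha, ha1⟩ := exists_W1 h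
  have hane : ∀ x ∈ W₁, x ≠ 1 → x ∉ W₂ := fun x hx hx1 => W1_ne h hx hx1
  have ha2 : a * a ≠ 1 := by
    intro hh
    have h1 : orderOf (⟨a, ha⟩ : W₁) ∣ 2 := orderOf_dvd_of_pow_eq_one (Subtype.ext (by
      show a ^ 2 = 1
      rw [pow_two]; exact hh))
    have h2 : orderOf (⟨a, ha⟩ : W₁) ∣ Nat.card W₁ := orderOf_dvd_natCard _
    have h3 : orderOf (⟨a, ha⟩ : W₁) = 1 := by
      rcases (Nat.dvd_prime Nat.prime_two).1 h1 with h4 | h4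
      · exact h4
      · rw [h4] at h2
        exact absurd (even_iff_two_dvd.2 h2) (Nat.not_even_iff_odd.2 (odd_W1 h))
    exact ha1 (congrArg Subtype.val (orderOf_eq_one_iff.1 h3))
  have haa : a * a ∈ W₁ := W₁.mul_mem ha ha
  let wa : ↥(W₁ ⊔ W₂) := ⟨a, Subgroup.mem_sup_left ha⟩
  have hs0 : s ≠ 0 := by rcases hs with h1 | h1 <;> rw [h1] <;> norm_num
  have ht0 : t ≠ 0 := by rcases ht with h1 | h1 <;> rw [h1] <;> norm_num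
  have hss : s * s = 1 := by rcases hs with h1 | h1 <;> rw [h1] <;> norm_num
  have htt : t * t = 1 := by rcases ht with h1 | h1 <;> rw [h1] <;> norm_num
  have hst : s = t := by
    have e1 := he wa (hane a ha ha1)
    have e2 := he (wa * wa) (hane _ haa ha2)
    rw [map_mul, map_mul, Units.val_mul, Units.val_mul] at e2
    have h5 : (ω wa : ℂ) ≠ 0 := Units.ne_zero _
    have e3 : (ω wa : ℂ) * (ω wa : ℂ) = (ω' wa : ℂ) * (ω' wa : ℂ) := by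
      have : (s * s) * ((ω wa : ℂ) * (ω wa : ℂ)) = (t * t) * ((ω' wa : ℂ) * (ω' wa : ℂ)) := by
        calc (s * s) * ((ω wa : ℂ) * (ω wa : ℂ)) = (s * (ω wa : ℂ)) * (s * (ω wa : ℂ)) := by ring
          _ = (t * (ω' wa : ℂ)) * (t * (ω' wa : ℂ)) := by rw [e1]
          _ = _ := by ring
      rwa [hss, htt, one_mul, one_mul] at this
    rw [e3] at e2
    exact mul_right_cancel₀ (mul_ne_zero (Units.ne_zero _) (Units.ne_zero _)) e2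
  subst hst
  have hout : ∀ w : ↥(W₁ ⊔ W₂), (w : G) ∉ W₂ → ω w = ω' w := fun w hw => Units.ext (mul_left_cancel₀ hs0 (he w hw))
  refine ⟨?_, rfl⟩
  ext w
  by_cases hw : (w : G) ∈ W₂
  · have h8 : ((wa * w : ↥(W₁ ⊔ W₂)) : G) ∉ W₂ := by
      intro h9
      apply hane a ha ha1
      have := W₂.mul_mem h9 (W₂.inv_mem hw)
      simpa [wa] using this
    have h10 := hout _ h8
    rw [map_mul, map_mul, hout wa (hane a ha ha1)] at h10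
    rw [mul_left_cancel h10]
  · rw [hout w hw]

/-- complex conjugation -/
theorem conj_mu (ω : ↥(W₁ ⊔ W₂) →* ℂˣ) : conjFun (μ ω) = μ ω⁻¹ ∧ δ ω⁻¹ = δ ω := by
  haveI := Fintype.ofFinite ↥(W₁ ⊔ W₂)
  have hirr : IsIrrCharacter L (conjFun (μ ω)) := IsIrr.conj (hμ.irr ω)
  obtain ⟨a, ha, ha1⟩ := exists_W1 h
  have hv : ∀ w : ↥(W₁ ⊔ W₂), (w : G) ∉ W₂ → conjFun (μ ω) ⟨w, W_le h w.2⟩ = δ ω * (ω⁻¹ w : ℂ) := by
    intro w hw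
    rw [conjFun, hμ.val ω ⟨w, W_le h w.2⟩ w.2 hw, map_mul, conj_d h hμ, cc_conj, map_inv]
    rfl
  have hex : ∃ ω', conjFun (μ ω) = μ ω' := by
    by_contra hcon
    push Not at hcon
    have h1 := hμ.vanish _ hirr hcon ⟨a, h.W₁_le ha⟩ (Subgroup.mem_sup_left ha) (W1_ne h ha ha1)
    have h2 := hv ⟨a, Subgroup.mem_sup_left ha⟩ (W1_ne h ha ha1)
    have h3 := h2.symm.trans h1
    rcases mul_eq_zero.1 h3 with h4 | h4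
    · exact d_ne h hμ ω h4
    · exact Units.ne_zero _ h4
  obtain ⟨ω', he⟩ := hex
  have h1 := val_unique h hμ (hμ.sign ω) (hμ.sign ω') (ω := ω⁻¹) (ω' := ω') (fun w hw => by
    rw [← hv w hw, he, hμ.val ω' ⟨w, W_le h w.2⟩ w.2 hw])
  refine ⟨by rw [he, h1.1], ?_⟩
  rw [h1.1]; exact h1.2.symm

theorem conj_red (ψ : ↥(W₁ ⊔ W₂) →* ℂˣ) : conjFun (red K μ ψ) = red K μ ψ⁻¹ := by
  rw [red, conj_ind, red]
  congr 1
  funext k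
  rw [← (conj_mu h hμ ψ).1]; rfl

theorem deg_inv (ψ : ↥(W₁ ⊔ W₂) →* ℂˣ) : μ ψ⁻¹ 1 = μ ψ 1 := by
  rw [← (conj_mu h hμ ψ).1, conjFun]
  obtain ⟨n, -, hn⟩ := IsIrr.one_eq_nat (hμ.irr ψ)
  rw [hn]; simp

end MUs

section PDs

variable {G : Type*} [Group G] [Fintype G] {L : Subgroup G} [Fintype L] {K H : Subgroup L} {W₁ W₂ : Subgroup G} {A : Set G}
  {R : G → Subgroup G} (h : PD L K H W₁ W₂ A R)
include h

/-- members of `indD` vanish off `A ∪ 1` -/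
theorem indD_van {M : Subgroup L} {χ : L → ℂ} (hχ : χ ∈ indD K H M) {x : L} (hx1 : x ≠ 1) (hxA : (x : G) ∉ A) : χ x = 0 := by
  obtain ⟨θ, hθ, ⟨k, hk, hne⟩, -, rfl⟩ := hχ
  exact ind_van h hθ (fun hc => hne (hc k hk)) hx1 hxA

theorem indD_char {M : Subgroup L} {χ : L → ℂ} (hχ : χ ∈ indD K H M) : IsCharacter L χ := by
  obtain ⟨θ, hθ, -, -, rfl⟩ := hχ
  exact IsChar.ind (IsIrr.isCharacter hθ)

theorem indD_conj {M : Subgroup L} {χ : L → ℂ} (hχ : χ ∈ indD K H M) : conjFun χ ∈ indD K H M := by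
  obtain ⟨θ, hθ, ⟨k, hk, hne⟩, h2, rfl⟩ := hχ
  haveI := Fintype.ofFinite K
  refine ⟨conjFun θ, IsIrr.conj hθ, ⟨k, hk, fun hc => hne ?_⟩, fun k hk => ?_, conj_ind θ⟩
  · have := congrArg conj hc
    simpa [conjFun] using this
  · simp only [conjFun]; rw [h2 k hk]

theorem zs_van {S : Set (L → ℂ)} (hS : S ⊆ indD K H ⊥) {α : L → ℂ} (hα : α ∈ zspan S) {x : L} (hx1 : x ≠ 1) (hxA : (x : G) ∉ A) : α x = 0 := by
  refine zs_ind (p := fun α => α x = 0) (fun χ hχ => indD_van h (hS hχ) hx1 hxA) rfl ?_ ?_ hα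
  · intro a _ b _ ha hb
    rw [Pi.add_apply, ha, hb, add_zero]
  · intro a _ ha
    rw [Pi.neg_apply, ha, neg_zero]

theorem zo_van {S : Set (L → ℂ)} (hS : S ⊆ indD K H ⊥) {α : L → ℂ} (hα : α ∈ zspanOn S {1}ᶜ) {x : L} (hxA : (x : G) ∉ A) : α x = 0 := by
  rw [zo_iff] at hα
  by_cases hx1 : x = 1
  · rw [hx1]; exact hα.2
  · exact zs_van h hS hα.1 hx1 hxA

theorem zs_gen' {S : Set (L → ℂ)} (hS : S ⊆ indD K H ⊥) {α : L → ℂ} (hα : α ∈ zspan S) : IsGeneralizedCharacter L α :=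
  zs_gen (fun χ hχ => IsGen.of_char (indD_char h (hS hχ))) hα

/-- the Dade map is an isometry -/
theorem tau_iso {S : Set (L → ℂ)} (hS : S ⊆ indD K H ⊥) :
    IsLinearIsometryOn (zspanOn S {1}ᶜ) (dadeIsometry (A0 L W₁ W₂ A) L R) := by
  refine ⟨fun α _ β _ => dade_add α β, fun α _ n => dade_zsmul n α, fun α hα β hβ => ?_, fun α hα => ?_⟩
  · exact isometry h.dade (IsGen.isClass (zs_gen' h hS hα.1)) (fun x hx => zo_van h hS hα fun hA => hx (Or.inl hA))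
      (IsGen.isClass (zs_gen' h hS hβ.1))
  · exact Cfsg.Agent.H10.Dade3.dade_gen h.dade (zs_gen' h hS hα.1) (fun x hx => zo_van h hS hα fun hA => hx (Or.inl hA))

/-- the Dade map on `ℤ[S, L^#]` vanishes on `V` -/
theorem tau_V {S : Set (L → ℂ)} (hS : S ⊆ indD K H ⊥) {α : L → ℂ} (hα : α ∈ zspanOn S {1}ᶜ) {v : G} (hv : v ∈ V W₁ W₂) :
    dadeIsometry (A0 L W₁ W₂ A) L R α v = 0 := by
  have h1 := dade_val h.dade (IsGen.isClass (zs_gen' h hS hα.1)) (a := ⟨v, V_L h hv⟩) (V_A0 h hv)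
  rw [h1]
  apply zo_van h hS hα
  intro hA
  obtain ⟨k, hk, e⟩ := h.A_sub _ hA
  have : k = ⟨v, V_L h hv⟩ := Subtype.ext e
  rw [this] at hk
  exact V_not_K h (v := ⟨v, V_L h hv⟩) hv hk

/-- members are not real -/
theorem indD_conj_ne {M : Subgroup L} {χ : L → ℂ} (hχ : χ ∈ indD K H M) : conjFun χ ≠ χ := by
  obtain ⟨θ, hθ, ⟨k, hk, hne⟩, h2, rfl⟩ := hχ
  haveI := Fintype.ofFinite K
  intro hc
  rw [conj_ind] at hc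
  have hθ' : IsIrrCharacter K (conjFun θ) := IsIrr.conj hθ
  obtain ⟨g, hg⟩ := (mem_orb h.normal _ _).1 ((ind_eq_iff h.normal hθ hθ').1 hc)
  -- cj g θ = conj θ, so cj (g*g) θ = θ
  have h3 : cj h.normal g (conjFun θ) = θ := by
    have h4 : cj h.normal g (conjFun θ) = conjFun (cj h.normal g θ) := rfl
    rw [h4, hg]
    funext x; simp [conjFun]
  have h5 : cj h.normal (g * g) θ = θ := by
    rw [← cj_cj, hg, h3]
  have hfix : g * g ∈ inertia h.normal θ := h5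
  have hgI : g ∈ inertia h.normal θ := by
    have ho : Odd (orderOf g) := Odd.of_dvd_nat (odd_L h.toPT) (orderOf_dvd_natCard g)
    obtain ⟨r, hr⟩ := ho
    have : (g * g) ^ (r + 1) = g := by
      rw [← pow_two, ← pow_mul, show 2 * (r + 1) = (2 * r + 1) + 1 by ring, ← hr, pow_succ, pow_orderOf_eq_one, one_mul]
    rw [← this]
    exact Subgroup.pow_mem _ hfix _
  have h6 : cj h.normal g θ = θ := hgI
  rw [h6] at hg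
  have hoddK : Odd (Nat.card K) := Odd.of_dvd_nat (odd_L h.toPT) (Subgroup.card_subgroup_dvd_card _)
  refine Cfsg.Agent.H10.Sib2.irr_ne_conj hoddK hθ (fun h7 => hne ?_) hg.symm
  rw [h7]

variable {μ : (↥(W₁ ⊔ W₂) →* ℂˣ) → (L → ℂ)} {δ : (↥(W₁ ⊔ W₂) →* ℂˣ) → ℂ} (hμ : MU K W₁ W₂ μ δ)
include hμ

/-- the members of `indD` are irreducible or among the `μ_j` -/
theorem indD_cases {M : Subgroup L} {χ : L → ℂ} (hχ : χ ∈ indD K H M) :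
    IsIrrCharacter L χ ∨ ∃ ψ, X2 W₁ W₂ ψ ∧ ψ ≠ 1 ∧ χ = red K μ ψ := by
  obtain ⟨θ, hθ, ⟨k, hk, hne⟩, h2, rfl⟩ := hχ
  by_cases hc : ∃ ω, X2 W₁ W₂ ω ∧ (fun k : K => μ ω k) = θ
  · obtain ⟨ω, hω, e⟩ := hc
    refine Or.inr ⟨ω, hω, ?_, by rw [red, e]⟩
    rintro rfl
    apply hne
    have h3 := (hμ.lin 1 X1_one).2.1
    rw [← e]
    show μ 1 k = μ 1 ((1 : K) : L)
    rw [h3 k k.2, h3 _ (1 : K).2]
  · left
    push Not at hc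
    exact hμ.classify θ hθ hc

theorem red_mem {ψ : ↥(W₁ ⊔ W₂) →* ℂˣ} (hψ : X2 W₁ W₂ ψ) (hψ1 : ψ ≠ 1) : red K μ ψ ∈ indD K H ⊥ := by
  have hX : ¬ X1 W₁ W₂ ψ := fun hc => hψ1 (eq_one_of_X hc hψ (hdisj h.self) (hcomm h.self))
  have h1 := not_ker_H h hμ hX
  push Not at h1
  obtain ⟨k, hk, hne⟩ := h1
  refine ⟨fun k : K => μ ψ k, hμ.res_irr ψ, ⟨k, hk, hne⟩, ?_, rfl⟩
  intro k hk
  have : k = 1 := Subtype.ext hk
  rw [this]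

variable {η : (↥(W₁ ⊔ W₂) →* ℂˣ) → (G → ℂ)} (hη : IsCyclicTIFamily W₁ W₂ η)
include hη

theorem tau_red {ψ₁ ψ₂ : ↥(W₁ ⊔ W₂) →* ℂˣ} (hψ₁ : X2 W₁ W₂ ψ₁) (hψ₂ : X2 W₁ W₂ ψ₂) (h1 : ψ₁ ≠ 1) (h2 : ψ₂ ≠ 1)
    (hdeg : μ ψ₁ 1 = μ ψ₂ 1) :
    dadeIsometry (A0 L W₁ W₂ A) L R (red K μ ψ₁ - red K μ ψ₂) = δ ψ₁ • (etaC η ψ₁ - etaC η ψ₂) := by
  rw [red_sum h.toPT hμ, red_sum h.toPT hμ, ← Finset.sum_sub_distrib, dade_sum, etaC, etaC, ← Finset.sum_sub_distrib,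
    Finset.smul_sum]
  refine Finset.sum_congr rfl fun φ hφ => ?_
  have hφ' := mem_X1F.1 hφ
  rw [tau_sub h hμ hη hφ' hψ₁ hψ₂ h1 h2 (by rw [deg_col h.toPT hμ _ _ hφ', deg_col h.toPT hμ _ _ hφ', hdeg]),
    sign_col' h.toPT hμ _ _ hφ']

end PDs

end Cfsg.Agent.H10.PrD6
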