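import Mathlib
import Cfsg.Agent.H10_PrD6

/-!
H10_PrD7: the coherence system of a prime Dade hypothesis (Peterfalvi (5.9)).
-/

set_option autoImplicit false
set_option linter.style.haveILetI false
set_option linter.unusedSectionVars false

namespace Cfsg.Agent.H10.PrD7

open Cfsg Cfsg.Agent.H3.CharIrr Cfsg.Agent.H3.CharComplete Cfsg.Agent.H3.CharInd Cfsg.Agent.H3.CharMult
  Cfsg.Agent.H3.CharBasic Cfsg.Agent.H3.CharCalc Cfsg.Agent.H3.Clifford Cfsg.Agent.H3.CharInt Cfsg.Agent.H3.CharQuot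
  Cfsg.Agent.H10.CycTI Cfsg.Agent.H10.CycTI2 Cfsg.Agent.H10.CycTI3 Cfsg.Agent.H10.CycTI4 Cfsg.Agent.H10.PrD2
  Cfsg.Agent.H10.PrD3 Cfsg.Agent.H10.PrD4 Cfsg.Agent.H10.PrD5 Cfsg.Agent.H10.Dade Cfsg.Agent.H10.PM Cfsg.Agent.H10.Coh
  Cfsg.Agent.H10.Coh2 Cfsg.Agent.H10.Coh3 Cfsg.Agent.H10.IndSet2 Cfsg.Agent.H10.OOClif Cfsg.Agent.H10.PrD6
open scoped ComplexConjugate

/-- the set `R(μ_j)` -/
noncomputable def RR {G : Type*} [Group G] [Finite G] {W₁ W₂ : Subgroup G}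
    (δ : (↥(W₁ ⊔ W₂) →* ℂˣ) → ℂ) (η : (↥(W₁ ⊔ W₂) →* ℂˣ) → (G → ℂ)) (ψ : ↥(W₁ ⊔ W₂) →* ℂˣ) : Finset (G → ℂ) :=
  (((Set.toFinite {φ | X1 W₁ W₂ φ}).image (fun φ => δ ψ • η (φ * ψ))).union
    ((Set.toFinite {φ | X1 W₁ W₂ φ}).image (fun φ => -(δ ψ • η (φ * ψ⁻¹))))).toFinset

theorem mem_RR_iff {G : Type*} [Group G] [Finite G] {W₁ W₂ : Subgroup G}
    {δ : (↥(W₁ ⊔ W₂) →* ℂˣ) → ℂ} {η : (↥(W₁ ⊔ W₂) →* ℂˣ) → (G → ℂ)} {ψ : ↥(W₁ ⊔ W₂) →* ℂˣ} {α : G → ℂ} :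
    α ∈ RR δ η ψ ↔ (∃ φ, X1 W₁ W₂ φ ∧ δ ψ • η (φ * ψ) = α) ∨ (∃ φ, X1 W₁ W₂ φ ∧ -(δ ψ • η (φ * ψ⁻¹)) = α) := by
  rw [RR, Set.Finite.mem_toFinset]
  rfl

theorem RR_eq {G : Type*} [Group G] [Finite G] {W₁ W₂ : Subgroup G} [DecidableEq (G → ℂ)]
    (δ : (↥(W₁ ⊔ W₂) →* ℂˣ) → ℂ) (η : (↥(W₁ ⊔ W₂) →* ℂˣ) → (G → ℂ)) (ψ : ↥(W₁ ⊔ W₂) →* ℂˣ) :
    RR δ η ψ = (X1F W₁ W₂).image (fun φ => δ ψ • η (φ * ψ)) ∪ (X1F W₁ W₂).image (fun φ => -(δ ψ • η (φ * ψ⁻¹))) := by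
  ext α
  rw [mem_RR_iff, Finset.mem_union, Finset.mem_image, Finset.mem_image]
  simp only [mem_X1F]

variable {G : Type*} [Group G] [Fintype G] {L : Subgroup G} [Fintype L] {K H : Subgroup L} {W₁ W₂ : Subgroup G} {A : Set G}
  {R : G → Subgroup G} (h : PD L K H W₁ W₂ A R)
  {μ : (↥(W₁ ⊔ W₂) →* ℂˣ) → (L → ℂ)} {δ : (↥(W₁ ⊔ W₂) →* ℂˣ) → ℂ} (hμ : MU K W₁ W₂ μ δ)
  {η : (↥(W₁ ⊔ W₂) →* ℂˣ) → (G → ℂ)} (hη : IsCyclicTIFamily W₁ W₂ η)
include h hμ hη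

theorem mem_RR {ψ : ↥(W₁ ⊔ W₂) →* ℂˣ} {α : G → ℂ} (hα : α ∈ RR δ η ψ) :
    ∃ φ ψ', X1 W₁ W₂ φ ∧ (ψ' = ψ ∨ ψ' = ψ⁻¹) ∧ (α = η (φ * ψ') ∨ α = - η (φ * ψ')) := by
  classical
  have hs := hμ.sign ψ
  rw [mem_RR_iff] at hα
  rcases hα with ⟨φ, hφ, rfl⟩ | ⟨φ, hφ, rfl⟩
  · refine ⟨φ, ψ, hφ, Or.inl rfl, ?_⟩
    rcases hs with e | e <;> rw [e]
    · left; rw [one_smul]
    · right; rw [neg_smul, one_smul]
  · refine ⟨φ, ψ⁻¹, hφ, Or.inr rfl, ?_⟩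
    rcases hs with e | e <;> rw [e]
    · right; rw [one_smul]
    · left; rw [neg_smul, one_smul, neg_neg]

theorem RR_sum {ψ : ↥(W₁ ⊔ W₂) →* ℂˣ} (hψ : X2 W₁ W₂ ψ) (hψ1 : ψ ≠ 1) :
    ∑ α ∈ RR δ η ψ, α = δ ψ • (etaC η ψ - etaC η ψ⁻¹) := by
  classical
  have hd0 := d_ne h.toPT hμ ψ
  have hne : ψ ≠ ψ⁻¹ := (inv_ne (odd_W h.toPT) hψ1).symm
  have hd : ∀ a : G → ℂ, δ ψ • a = 0 → a = 0 := fun a ha => by
    rcases smul_eq_zero.1 ha with h1 | h1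
    · exact absurd h1 hd0
    · exact h1
  have hdisj' : Disjoint ((X1F W₁ W₂).image (fun φ => δ ψ • η (φ * ψ))) ((X1F W₁ W₂).image (fun φ => -(δ ψ • η (φ * ψ⁻¹)))) := by
    rw [Finset.disjoint_left]
    rintro α h1 h2
    obtain ⟨φ, hφ, rfl⟩ := Finset.mem_image.1 h1
    obtain ⟨φ', hφ', e⟩ := Finset.mem_image.1 h2
    have e1 : δ ψ • (η (φ * ψ) + η (φ' * ψ⁻¹)) = 0 := by
      rw [smul_add]
      have e' : -(δ ψ • η (φ' * ψ⁻¹)) = δ ψ • η (φ * ψ) := e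
      rw [← e', neg_add_cancel]
    have e2 := hd _ e1
    have e3 : classInner (η (φ * ψ) + η (φ' * ψ⁻¹)) (η (φ * ψ)) = 0 := by rw [e2, ci_zero_left]
    rw [ci_add_left, eta_self hη, eta_ne hη (mul_ne h.self hη (mem_X1F.1 hφ') (mem_X1F.1 hφ) (X2_inv hψ) hψ (Or.inr hne.symm))] at e3
    norm_num at e3
  rw [RR_eq, Finset.sum_union hdisj', Finset.sum_image, Finset.sum_image, smul_sub, etaC, etaC, Finset.smul_sum, Finset.smul_sum,
    Finset.sum_neg_distrib, sub_eq_add_neg]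
  · intro a _ b _ hab
    have hab' : -(δ ψ • η (a * ψ⁻¹)) = -(δ ψ • η (b * ψ⁻¹)) := hab
    have e1 : δ ψ • (η (a * ψ⁻¹) - η (b * ψ⁻¹)) = 0 := by
      rw [smul_sub, neg_inj.1 hab', sub_self]
    exact mul_right_cancel (eta_inj hη (sub_eq_zero.1 (hd _ e1)))
  · intro a _ b _ hab
    have hab' : δ ψ • η (a * ψ) = δ ψ • η (b * ψ) := hab
    have e1 : δ ψ • (η (a * ψ) - η (b * ψ)) = 0 := by
      rw [smul_sub, hab', sub_self]
    exact mul_right_cancel (eta_inj hη (sub_eq_zero.1 (hd _ e1)))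

theorem RR_orth {ψ : ↥(W₁ ⊔ W₂) →* ℂˣ} (hψ : X2 W₁ W₂ ψ) (hψ1 : ψ ≠ 1) [DecidableEq (G → ℂ)] :
    ∀ α ∈ RR δ η ψ, ∀ β ∈ RR δ η ψ, classInner α β = if α = β then 1 else 0 := by
  classical
  have hne : ψ ≠ ψ⁻¹ := (inv_ne (odd_W h.toPT) hψ1).symm
  have hdd := dd h.toPT hμ ψ
  have hcd := conj_d h.toPT hμ ψ
  have hin : ∀ ω ω', classInner (δ ψ • η ω) (δ ψ • η ω') = classInner (η ω) (η ω') := fun ω ω' => by
    rw [ci_smul_left, ci_smul_right, hcd, ← mul_assoc, hdd, one_mul]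
  have hsame : ∀ α β : G → ℂ, ∀ ω ω', α = δ ψ • η ω → β = δ ψ • η ω' → classInner α β = if α = β then 1 else 0 := by
    rintro _ _ ω ω' rfl rfl
    rw [hin]
    by_cases he : ω = ω'
    · rw [he, if_pos rfl, eta_self hη]
    · rw [if_neg, eta_ne hη he]
      intro hc
      have : classInner (δ ψ • η ω) (δ ψ • η ω') = 1 := by rw [hc, hin, eta_self hη]
      rw [hin, eta_ne hη he] at this
      norm_num at this
  have hdiff : ∀ φ φ', X1 W₁ W₂ φ → X1 W₁ W₂ φ' → classInner (δ ψ • η (φ * ψ)) (δ ψ • η (φ' * ψ⁻¹)) = 0 := by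
    intro φ φ' h1 h2
    rw [hin, eta_ne hη (mul_ne h.self hη h1 h2 hψ (X2_inv hψ) (Or.inr hne))]
  intro α hα β hβ
  rw [mem_RR_iff] at hα hβ
  rcases hα with ⟨φ, hφ, rfl⟩ | ⟨φ, hφ, rfl⟩ <;> rcases hβ with ⟨φ', hφ', rfl⟩ | ⟨φ', hφ', rfl⟩
  · exact hsame _ _ _ _ rfl rfl
  · have e1 := hdiff φ φ' hφ hφ'
    rw [ci_neg_right', e1, neg_zero, if_neg]
    intro hc
    have e3 : classInner (δ ψ • η (φ * ψ)) (-(δ ψ • η (φ' * ψ⁻¹))) = 0 := by rw [ci_neg_right', e1, neg_zero]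
    rw [← hc] at e3
    rw [hin, eta_self hη] at e3
    norm_num at e3
  · have e1 := hdiff φ' φ hφ' hφ
    have e1' : classInner (δ ψ • η (φ * ψ⁻¹)) (δ ψ • η (φ' * ψ)) = 0 := by rw [← ci_conj_symm, e1, map_zero]
    rw [ci_neg_left', e1', neg_zero, if_neg]
    intro hc
    have e3 : classInner (-(δ ψ • η (φ * ψ⁻¹))) (δ ψ • η (φ' * ψ)) = 0 := by rw [ci_neg_left', e1', neg_zero]
    rw [hc, hin, eta_self hη] at e3
    norm_num at e3
  · rw [ci_neg_neg]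
    have := hsame _ _ _ _ (rfl : δ ψ • η (φ * ψ⁻¹) = δ ψ • η (φ * ψ⁻¹)) (rfl : δ ψ • η (φ' * ψ⁻¹) = δ ψ • η (φ' * ψ⁻¹))
    rw [this]
    simp only [neg_inj]

/-- Peterfalvi (5.9) -/
theorem system {S : Set (L → ℂ)} (hS : S ⊆ indD K H ⊥) (hne : S.Nonempty) (hconj : ∀ χ ∈ S, conjFun χ ∈ S) :
    ∃ Rc : (L → ℂ) → Finset (G → ℂ), IsCoherenceSystem S (dadeIsometry (A0 L W₁ W₂ A) L R) Rc ∧
      (∀ ψ, X2 W₁ W₂ ψ → ψ ≠ 1 → red K μ ψ ∈ S → Rc (red K μ ψ) = RR δ η ψ) ∧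
      (∀ χ ∈ S, IsIrrCharacter L χ → (∀ α ∈ Rc χ, ∀ ω, classInner α (η ω) = 0) ∧
        ∃ a : G → ℂ, IsIrrCharacter G a ∧ a ≠ conjFun a ∧ (∀ β, β ∈ Rc χ ↔ β = a ∨ β = - conjFun a)) := by
  classical
  have hτ := tau_iso h hS
  set τ := dadeIsometry (A0 L W₁ W₂ A) L R with hτdef
  have hmem : ∀ χ ∈ S, χ - conjFun χ ∈ zspanOn S {1}ᶜ := by
    intro χ hχ
    rw [zo_iff]
    refine ⟨zs_diff (zs_sub hχ) (zs_sub (hconj χ hχ)), ?_⟩
    obtain ⟨m, hm⟩ := IsChar.one_eq_nat (indD_char h (hS hχ))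
    rw [Pi.sub_apply, conjFun, hm]; simp
  have hτ1 : ∀ α ∈ zspanOn S {1}ᶜ, τ α 1 = 0 := fun α _ => dade_at_one h.dade α
  -- irreducible members
  have hex : ∀ χ ∈ S, IsIrrCharacter L χ → ∃ a : G → ℂ, IsIrrCharacter G a ∧ a ≠ conjFun a ∧ τ (χ - conjFun χ) = a - conjFun a := by
    intro χ hχ hirr
    obtain ⟨a, ha, e⟩ := Cfsg.Agent.S1518.result (A0 L W₁ W₂ A) L R h.dade χ hirr (fun x hx1 hxA =>
      indD_van h (hS hχ) hx1 fun hA => hxA (Or.inl hA))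
    refine ⟨a, ha, ?_, e⟩
    intro hc
    have h1 : classInner (τ (χ - conjFun χ)) (τ (χ - conjFun χ)) = classInner (χ - conjFun χ) (χ - conjFun χ) :=
      hτ.2.2.1 _ (hmem χ hχ) _ (hmem χ hχ)
    have hirr' : IsIrrCharacter L (conjFun χ) := IsIrr.conj hirr
    have h2 := (indD_conj_ne h (hS hχ))
    rw [hτdef, e, ← hc, sub_self, ci_zero_left, ci_sub_left, ci_sub_right, ci_sub_right, ci_irr_self hirr, ci_irr_self hirr',
      ci_irr_ne hirr hirr' h2.symm, ci_irr_ne hirr' hirr h2] at h1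
    norm_num at h1
  have hV : ∀ χ ∈ S, ∀ v ∈ V W₁ W₂, τ (χ - conjFun χ) v = 0 := fun χ hχ v hv => tau_V h hS (hmem χ hχ) hv
  let a : (L → ℂ) → (G → ℂ) := fun χ => if hh : χ ∈ S ∧ IsIrrCharacter L χ then (hex χ hh.1 hh.2).choose else 0
  have ha : ∀ χ ∈ S, IsIrrCharacter L χ → IsIrrCharacter G (a χ) ∧ a χ ≠ conjFun (a χ) ∧ τ (χ - conjFun χ) = a χ - conjFun (a χ) := by
    intro χ hχ hirr
    have hh : χ ∈ S ∧ IsIrrCharacter L χ := ⟨hχ, hirr⟩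
    have e : a χ = (hex χ hh.1 hh.2).choose := dif_pos hh
    rw [e]
    exact (hex χ hh.1 hh.2).choose_spec
  let Rc : (L → ℂ) → Finset (G → ℂ) := fun χ =>
    if hh : ∃ ψ, X2 W₁ W₂ ψ ∧ ψ ≠ 1 ∧ χ = red K μ ψ then RR δ η hh.choose else {a χ, - conjFun (a χ)}
  have hRred : ∀ ψ, X2 W₁ W₂ ψ → ψ ≠ 1 → Rc (red K μ ψ) = RR δ η ψ := by
    intro ψ hψ hψ1
    have hh : ∃ ψ', X2 W₁ W₂ ψ' ∧ ψ' ≠ 1 ∧ red K μ ψ = red K μ ψ' := ⟨ψ, hψ, hψ1, rfl⟩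
    have e : Rc (red K μ ψ) = RR δ η hh.choose := dif_pos hh
    rw [e]
    have h2 := hh.choose_spec
    rw [← red_inj h.toPT hμ hψ h2.1 h2.2.2]
  have hRirr : ∀ χ, IsIrrCharacter L χ → Rc χ = {a χ, - conjFun (a χ)} := by
    intro χ hirr
    apply dif_neg
    rintro ⟨ψ, hψ, -, rfl⟩
    exact red_not_irr h.toPT hμ hψ hirr
  have hnegne : ∀ χ ∈ S, IsIrrCharacter L χ → a χ ≠ - conjFun (a χ) := by
    intro χ hχ hirr hc
    obtain ⟨m, hm, em⟩ := IsIrr.one_eq_nat (ha χ hχ hirr).1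
    have h2 := congrFun hc 1
    rw [Pi.neg_apply, conjFun, em] at h2
    have h3 : (m : ℂ) = -(m : ℂ) := by simpa using h2
    have : (m : ℤ) = -(m : ℤ) := by exact_mod_cast h3
    omega
  have hcirr : ∀ χ ∈ S, IsIrrCharacter L χ → IsIrrCharacter G (conjFun (a χ)) := fun χ hχ hirr => IsIrr.conj (ha χ hχ hirr).1
  -- orthogonality to η
  have horth : ∀ χ ∈ S, IsIrrCharacter L χ → ∀ ω, classInner (a χ) (η ω) = 0 ∧ classInner (conjFun (a χ)) (η ω) = 0 := by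
    intro χ hχ hirr ω
    obtain ⟨h1, h2, h3⟩ := ha χ hχ hirr
    have h0 : classInner (τ (χ - conjFun χ)) (τ (χ - conjFun χ)) = 2 := by
      rw [h3, ci_sub_left, ci_sub_right, ci_sub_right, ci_irr_self h1, ci_irr_self (hcirr χ hχ hirr),
        ci_irr_ne h1 (hcirr χ hχ hirr) h2, ci_irr_ne (hcirr χ hχ hirr) h1 h2.symm]
      norm_num
    have h4 := orth_eta h.self (odd_W h.toPT) hη (ψ := τ (χ - conjFun χ)) (hτ.2.2.2 _ (hmem χ hχ)) (by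
      rw [h0]; simp) (fun w hw1 hw2 => hV χ hχ w (mem_V.2 ⟨w.2, hw1, hw2⟩)) ω
    rw [h3, ci_sub_left] at h4
    -- η ω is ± irreducible
    have p1 := Pm.inner (Pm.of_irr h1) (hη.irr_or_neg ω)
    have p2 := Pm.inner (Pm.of_irr (hcirr χ hχ hirr)) (hη.irr_or_neg ω)
    rcases p1 with p1 | p1 | p1
    · refine ⟨p1, ?_⟩
      rw [p1, zero_sub, neg_eq_zero] at h4; exact h4
    · exfalso
      have h5 : classInner (conjFun (a χ)) (η ω) = 1 := by rw [p1.2] at h4; exact (sub_eq_zero.1 h4).symm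
      rw [p1.1, ci_irr_ne (hcirr χ hχ hirr) h1 h2.symm] at h5
      norm_num at h5
    · exfalso
      have h5 : classInner (conjFun (a χ)) (η ω) = -1 := by rw [p1.2] at h4; exact (sub_eq_zero.1 h4).symm
      rw [p1.1, ci_neg_right', ci_irr_ne (hcirr χ hχ hirr) h1 h2.symm] at h5
      norm_num at h5
  have horth' : ∀ χ ∈ S, IsIrrCharacter L χ → ∀ α ∈ Rc χ, ∀ ω, classInner α (η ω) = 0 := by
    intro χ hχ hirr α hα ω
    rw [hRirr χ hirr, Finset.mem_insert, Finset.mem_singleton] at hα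
    rcases hα with rfl | rfl
    · exact (horth χ hχ hirr ω).1
    · rw [ci_neg_left', (horth χ hχ hirr ω).2, neg_zero]
  have hcases : ∀ χ ∈ S, IsIrrCharacter L χ ∨ ∃ ψ, X2 W₁ W₂ ψ ∧ ψ ≠ 1 ∧ χ = red K μ ψ := fun χ hχ => indD_cases h hμ (hS hχ)
  refine ⟨Rc, ⟨hne, fun χ hχ => indD_char h (hS hχ), hconj, fun χ hχ => indD_conj_ne h (hS hχ), hτ, hτ1, ?_, ?_, ?_, ?_, ?_⟩,
    fun ψ hψ hψ1 _ => hRred ψ hψ hψ1, fun χ hχ hirr => ⟨horth' χ hχ hirr, a χ, (ha χ hχ hirr).1, (ha χ hχ hirr).2.1, fun β => by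
      rw [hRirr χ hirr, Finset.mem_insert, Finset.mem_singleton]⟩⟩
  · -- orthogonal
    intro χ hχ φ hφ hχφ
    obtain ⟨θ, hθ, -, -, rfl⟩ := hS hχ
    obtain ⟨θ', hθ', -, -, rfl⟩ := hS hφ
    haveI := Fintype.ofFinite K
    apply ind_orth h.normal hθ' hθ
    rintro ⟨g, hg⟩
    exact hχφ (by rw [hg]; exact ind_cj h.normal θ' g)
  · intro χ hχ
    rcases hcases χ hχ with hirr | ⟨ψ, hψ, hψ1, rfl⟩
    · rw [hRirr χ hirr]
      obtain ⟨h1, h2, -⟩ := ha χ hχ hirr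
      have hne' := hnegne χ hχ hirr
      have o1 : classInner (a χ) (- conjFun (a χ)) = 0 := by rw [ci_neg_right', ci_irr_ne h1 (hcirr χ hχ hirr) h2, neg_zero]
      have o2 : classInner (- conjFun (a χ)) (a χ) = 0 := by rw [ci_neg_left', ci_irr_ne (hcirr χ hχ hirr) h1 h2.symm, neg_zero]
      intro x hx y hy
      rw [Finset.mem_insert, Finset.mem_singleton] at hx hy
      rcases hx with rfl | rfl <;> rcases hy with rfl | rfl
      · rw [if_pos rfl, ci_irr_self h1]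
      · rw [if_neg hne', o1]
      · rw [if_neg hne'.symm, o2]
      · rw [if_pos rfl, ci_neg_neg, ci_irr_self (hcirr χ hχ hirr)]
    · rw [hRred ψ hψ hψ1]
      exact RR_orth h hμ hη hψ hψ1
  · intro χ hχ x hx
    rcases hcases χ hχ with hirr | ⟨ψ, hψ, hψ1, rfl⟩
    · rw [hRirr χ hirr, Finset.mem_insert, Finset.mem_singleton] at hx
      rcases hx with rfl | rfl
      · exact IsGen.of_irr (ha χ hχ hirr).1
      · exact IsGen.neg (IsGen.of_irr (hcirr χ hχ hirr))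
    · rw [hRred ψ hψ hψ1] at hx
      obtain ⟨φ, ψ', -, -, h1 | h1⟩ := mem_RR h hμ hη hx
      · rw [h1]; exact eta_gen hη _
      · rw [h1]; exact IsGen.neg (eta_gen hη _)
  · intro χ hχ
    rcases hcases χ hχ with hirr | ⟨ψ, hψ, hψ1, rfl⟩
    · rw [hRirr χ hirr, Finset.sum_pair (hnegne χ hχ hirr), (ha χ hχ hirr).2.2, sub_eq_add_neg]
    · rw [hRred ψ hψ hψ1, RR_sum h hμ hη hψ hψ1, conj_red h.toPT hμ, hτdef,
        tau_red h hμ hη hψ (X2_inv hψ) hψ1 (inv_ne_one hψ1) (deg_inv h.toPT hμ ψ).symm]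
  · intro χ hχ φ hφ h1 h2 α hα β hβ
    rcases hcases φ hφ with hirrφ | ⟨ψ, hψ, hψ1, rfl⟩
    · rcases hcases χ hχ with hirrχ | ⟨ψ', hψ', hψ'1, rfl⟩
      · -- both irreducible
        rw [hRirr φ hirrφ] at hα
        rw [hRirr χ hirrχ] at hβ
        obtain ⟨a1, a2, a3⟩ := ha φ hφ hirrφ
        obtain ⟨b1, b2, b3⟩ := ha χ hχ hirrχ
        have ac := hcirr φ hφ hirrφ
        have bc := hcirr χ hχ hirrχ
        have h3 : classInner (τ (φ - conjFun φ)) (τ (χ - conjFun χ)) = 0 := by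
          rw [hτ.2.2.1 _ (hmem φ hφ) _ (hmem χ hχ), ci_sub_left, ci_sub_right, ci_sub_right, h1, h2]
          have e1 : classInner (conjFun φ) χ = conj (classInner φ (conjFun χ)) := by
            rw [classInner, classInner, map_mul, map_sum, map_inv₀, map_natCast]
            congr 1
            refine Finset.sum_congr rfl fun x _ => ?_
            simp [conjFun]
          have e2 : classInner (conjFun φ) (conjFun χ) = conj (classInner φ χ) := by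
            rw [classInner, classInner, map_mul, map_sum, map_inv₀, map_natCast]
            congr 1
            refine Finset.sum_congr rfl fun x _ => ?_
            simp [conjFun]
          rw [e1, e2, h1, h2]; simp
        rw [a3, b3] at h3
        obtain ⟨m, hm, em⟩ := IsIrr.one_eq_nat a1
        obtain ⟨n, hn, en⟩ := IsIrr.one_eq_nat b1
        have four := four_orth (Pm.of_irr a1) (Pm.of_irr ac) (Pm.of_irr b1) (Pm.of_irr bc) (ci_irr_ne a1 ac a2)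
          (ci_irr_ne b1 bc b2) (u := 1) (v := 1) (s := 1) (t := 1) one_pos one_pos one_pos one_pos (by simpa using h3)
          (by rw [conjFun, em]; simp) (by rw [conjFun, en]; simp)
        rw [Finset.mem_insert, Finset.mem_singleton] at hα hβ
        rcases hα with rfl | rfl <;> rcases hβ with rfl | rfl
        · exact four.1
        · rw [ci_neg_right', four.2.1, neg_zero]
        · rw [ci_neg_left', four.2.2.1, neg_zero]
        · rw [ci_neg_neg, four.2.2.2]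
      · rw [hRred ψ' hψ' hψ'1] at hβ
        obtain ⟨φ', ψ'', -, -, e | e⟩ := mem_RR h hμ hη hβ
        · rw [e]; exact horth' φ hφ hirrφ α hα _
        · rw [e, ci_neg_right', horth' φ hφ hirrφ α hα _, neg_zero]
    · rcases hcases χ hχ with hirrχ | ⟨ψ', hψ', hψ'1, rfl⟩
      · rw [hRred ψ hψ hψ1] at hα
        have hz : ∀ ω, classInner (η ω) β = 0 := fun ω => by
          rw [← ci_conj_symm, horth' χ hχ hirrχ β hβ ω, map_zero]
        obtain ⟨φ', ψ'', -, -, e | e⟩ := mem_RR h hμ hη hα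
        · rw [e]; exact hz _
        · rw [e, ci_neg_left', hz, neg_zero]
      · rw [hRred ψ hψ hψ1] at hα
        rw [hRred ψ' hψ' hψ'1] at hβ
        have n1 : ψ ≠ ψ' := by
          rintro rfl
          rw [red_red h.toPT hμ hψ hψ, if_pos rfl] at h1
          exact Nat.cast_ne_zero.2 Nat.card_pos.ne' h1
        have n2 : ψ ≠ ψ'⁻¹ := by
          rintro rfl
          rw [conj_red h.toPT hμ, red_red h.toPT hμ hψ hψ, if_pos rfl] at h2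
          exact Nat.cast_ne_zero.2 Nat.card_pos.ne' h2
        have n3 : ψ⁻¹ ≠ ψ' := fun e => n2 (by rw [← e, inv_inv'])
        have n4 : ψ⁻¹ ≠ ψ'⁻¹ := fun e => n1 (by rw [← inv_inv' ψ, e, inv_inv'])
        obtain ⟨φ₁, k₁, p1, q1, r1⟩ := mem_RR h hμ hη hα
        obtain ⟨φ₂, k₂, p2, q2, r2⟩ := mem_RR h hμ hη hβ
        have hk1 : X2 W₁ W₂ k₁ := by rcases q1 with rfl | rfl; exacts [hψ, X2_inv hψ]
        have hk2 : X2 W₁ W₂ k₂ := by rcases q2 with rfl | rfl; exacts [hψ', X2_inv hψ']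
        have hk12 : k₁ ≠ k₂ := by rcases q1 with rfl | rfl <;> rcases q2 with rfl | rfl <;> assumption
        have z := eta_ne hη (mul_ne h.self hη p1 p2 hk1 hk2 (Or.inr hk12))
        rcases r1 with rfl | rfl <;> rcases r2 with rfl | rfl
        · exact z
        · rw [ci_neg_right', z, neg_zero]
        · rw [ci_neg_left', z, neg_zero]
        · rw [ci_neg_neg, z]

end Cfsg.Agent.H10.PrD7
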