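import Mathlib
import Cfsg.Agent.H10_PrD7
import Cfsg.Agent.H10_Sib

/-!
H10_PrD8: coherent extensions and the reducible characters μ_j (Peterfalvi (4.9), (5.5), (5.8)).
-/

set_option autoImplicit false
set_option linter.style.haveILetI false
set_option linter.unusedSectionVars false

namespace Cfsg.Agent.H10.PrD8

open Cfsg Cfsg.Agent.H3.CharIrr Cfsg.Agent.H3.CharComplete Cfsg.Agent.H3.CharInd Cfsg.Agent.H3.CharMult
  Cfsg.Agent.H3.CharBasic Cfsg.Agent.H3.CharCalc Cfsg.Agent.H3.Clifford Cfsg.Agent.H3.CharInt Cfsg.Agent.H3.CharQuot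
  Cfsg.Agent.H10.CycTI Cfsg.Agent.H10.CycTI2 Cfsg.Agent.H10.CycTI3 Cfsg.Agent.H10.CycTI4 Cfsg.Agent.H10.PrD2
  Cfsg.Agent.H10.PrD3 Cfsg.Agent.H10.PrD4 Cfsg.Agent.H10.PrD5 Cfsg.Agent.H10.Dade Cfsg.Agent.H10.PM Cfsg.Agent.H10.Coh
  Cfsg.Agent.H10.Coh2 Cfsg.Agent.H10.Coh3 Cfsg.Agent.H10.Coh4 Cfsg.Agent.H10.IndSet2 Cfsg.Agent.H10.OOClif Cfsg.Agent.H10.PrD6
  Cfsg.Agent.H10.PrD7
open scoped ComplexConjugate

section Gen

variable {L : Type*} [Group L] [Fintype L] {G : Type*} [Group G] [Fintype G]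
  {S : Set (L → ℂ)} {τ : (L → ℂ) → (G → ℂ)} {Rc : (L → ℂ) → Finset (G → ℂ)} (hS : IsCoherenceSystem S τ Rc)

/-- `τ₁` is a coherent extension of `τ` on `S₁` -/
def Ext (S₁ : Set (L → ℂ)) (τ τ₁ : (L → ℂ) → (G → ℂ)) : Prop :=
  IsLinearIsometryOn (zspan S₁) τ₁ ∧ ∀ α ∈ zspanOn S₁ {1}ᶜ, τ₁ α = τ α

include hS in
/-- Peterfalvi (5.5) -/
theorem sub_sum {S₁ : Set (L → ℂ)} (hS₁ : S₁ ⊆ S) {τ₁ : (L → ℂ) → (G → ℂ)} (hτ₁ : Ext S₁ τ τ₁)
    {φ : L → ℂ} (hφ : φ ∈ S₁) (hφc : conjFun φ ∈ S₁) :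
    ∃ c : (G → ℂ) → ℤ, (∀ α ∈ Rc φ, c α = 0 ∨ c α = 1) ∧ (∀ α ∈ Rc φ, classInner (τ₁ φ) α = c α) ∧
      τ₁ φ = ∑ α ∈ Rc φ, (c α : ℂ) • α ∧ ((∑ α ∈ Rc φ, c α : ℤ) : ℂ) = classInner φ φ := by
  classical
  obtain ⟨hτ₁, hag⟩ := hτ₁
  have hφS := hS₁ hφ
  obtain ⟨c, hc⟩ := tau_span hS hS₁ hτ₁ hag hφ hφc
  have hin : ∀ α ∈ Rc φ, classInner (τ₁ φ) α = c α := by
    intro α hα
    rw [hc, ci_sum_left, Finset.sum_eq_single α]
    · rw [ci_smul_left, hS.orthonormal φ hφS α hα α hα, if_pos rfl, mul_one]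
    · intro β hβ hne
      rw [ci_smul_left, hS.orthonormal φ hφS β hβ α hα, if_neg hne, mul_zero]
    · intro hn; exact absurd hα hn
  have hd : φ - conjFun φ ∈ zspanOn S₁ {1}ᶜ := by
    rw [zo_iff]
    exact ⟨zs_diff (zs_sub hφ) (zs_sub hφc), (zo_iff.1 (diff_mem hS hφS)).2⟩
  have hsum : ((∑ α ∈ Rc φ, c α : ℤ) : ℂ) = classInner φ φ := by
    have h1 : ∑ α ∈ Rc φ, classInner (τ₁ φ) α = classInner φ φ := by
      rw [← ci_sum_right, ← hS.sum_eq φ hφS, ← hag _ hd, hτ₁.2.2.1 _ (zs_sub hφ) _ hd.1, ci_sub_right, conj_orth hS hφS, sub_zero]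
    rw [← h1]
    push_cast
    exact Finset.sum_congr rfl fun α hα => (hin α hα).symm
  have hsq : ((∑ α ∈ Rc φ, c α ^ 2 : ℤ) : ℂ) = classInner φ φ := by
    rw [← hτ₁.2.2.1 _ (zs_sub hφ) _ (zs_sub hφ)]
    nth_rw 2 [hc]
    rw [ci_sum_right]
    push_cast
    refine Finset.sum_congr rfl fun α hα => ?_
    rw [ci_smul_right, hin α hα, Cfsg.Agent.H10.Sib.cint]; ring
  have heq : ∑ α ∈ Rc φ, c α = ∑ α ∈ Rc φ, c α ^ 2 := by
    have := hsum.trans hsq.symm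
    exact_mod_cast this
  have hle : ∀ α ∈ Rc φ, c α ≤ c α ^ 2 := by
    intro α _
    rcases le_or_gt (c α) 0 with h | h
    · exact h.trans (sq_nonneg _)
    · nlinarith
  refine ⟨c, fun α hα => ?_, hin, hc, hsum⟩
  have h1 := (Finset.sum_eq_sum_iff_of_le hle).1 heq α hα
  have h2 : c α * (c α - 1) = 0 := by linear_combination -h1
  rcases mul_eq_zero.1 h2 with h3 | h3
  · exact Or.inl h3
  · exact Or.inr (by linarith)

end Gen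

variable {G : Type*} [Group G] [Fintype G] {L : Subgroup G} [Fintype L] {K H : Subgroup L} {W₁ W₂ : Subgroup G} {A : Set G}
  {R : G → Subgroup G} (h : PD L K H W₁ W₂ A R)
  {μ : (↥(W₁ ⊔ W₂) →* ℂˣ) → (L → ℂ)} {δ : (↥(W₁ ⊔ W₂) →* ℂˣ) → ℂ} (hμ : MU K W₁ W₂ μ δ)
  {η : (↥(W₁ ⊔ W₂) →* ℂˣ) → (G → ℂ)} (hη : IsCyclicTIFamily W₁ W₂ η)
include h hμ hη

theorem etaC_eta {φ ψ ψ' : ↥(W₁ ⊔ W₂) →* ℂˣ} (hφ : X1 W₁ W₂ φ) (hψ : X2 W₁ W₂ ψ) (hψ' : X2 W₁ W₂ ψ')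
    [DecidableEq (↥(W₁ ⊔ W₂) →* ℂˣ)] : classInner (etaC η ψ) (η (φ * ψ')) = if ψ = ψ' then 1 else 0 := by
  rw [etaC, ci_sum_left]
  split_ifs with he
  · subst he
    rw [Finset.sum_eq_single φ]
    · exact eta_self hη _
    · intro φ' _ hne
      exact eta_ne hη fun h2 => hne (mul_right_cancel h2)
    · intro hc; exact absurd (mem_X1F.2 hφ) hc
  · apply Finset.sum_eq_zero
    intro φ' hφ'
    exact eta_ne hη (mul_ne h.self hη (mem_X1F.1 hφ') hφ hψ hψ' (Or.inr he))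

theorem etaC_etaC {ψ ψ' : ↥(W₁ ⊔ W₂) →* ℂˣ} (hψ : X2 W₁ W₂ ψ) (hψ' : X2 W₁ W₂ ψ')
    [DecidableEq (↥(W₁ ⊔ W₂) →* ℂˣ)] : classInner (etaC η ψ) (etaC η ψ') = if ψ = ψ' then (Nat.card W₁ : ℂ) else 0 := by
  conv_lhs => rw [etaC, etaC, ci_sum_right]
  have : ∀ φ ∈ X1F W₁ W₂, classInner (∑ φ ∈ X1F W₁ W₂, η (φ * ψ)) (η (φ * ψ')) = if ψ = ψ' then 1 else 0 := fun φ hφ =>
    etaC_eta h hμ hη (mem_X1F.1 hφ) hψ hψ'
  rw [Finset.sum_congr rfl this, Finset.sum_const, card_X1F h.self]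
  split_ifs <;> simp

theorem etaC_gen (ψ : ↥(W₁ ⊔ W₂) →* ℂˣ) : IsGeneralizedCharacter G (etaC η ψ) :=
  IsGen.sum _ _ fun φ _ => eta_gen hη _

theorem red_norm {ψ : ↥(W₁ ⊔ W₂) →* ℂˣ} (hψ : X2 W₁ W₂ ψ) : classInner (red K μ ψ) (red K μ ψ) = Nat.card W₁ := by
  classical
  rw [red_red h.toPT hμ hψ hψ, if_pos rfl]

/-- Peterfalvi (4.9)(a): coherence of the `μ_j` of the same degree -/
theorem red_coh {k : ↥(W₁ ⊔ W₂) →* ℂˣ} (hk : X2 W₁ W₂ k) (hk1 : k ≠ 1) {T : Set (L → ℂ)}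
    (hT : ∀ χ ∈ T, ∃ ψ, X2 W₁ W₂ ψ ∧ ψ ≠ 1 ∧ χ = red K μ ψ ∧ μ ψ 1 = μ k 1) (hkT : red K μ k ∈ T) :
    ∃ τ₁, Ext T (dadeIsometry (A0 L W₁ W₂ A) L R) τ₁ ∧ ∀ ψ, X2 W₁ W₂ ψ → ψ ≠ 1 → red K μ ψ ∈ T → τ₁ (red K μ ψ) = δ k • etaC η ψ := by
  classical
  set τ := dadeIsometry (A0 L W₁ W₂ A) L R with hτdef
  have hTS : T ⊆ indD K H ⊥ := by
    intro χ hχ
    obtain ⟨ψ, h1, h2, rfl, -⟩ := hT χ hχ
    exact red_mem h hμ h1 h2
  have hτ := tau_iso h hTS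
  have hdk := hμ.sign k
  have hdd := dd h.toPT hμ k
  have hcd := conj_d h.toPT hμ k
  have hdeg0 : red K μ k 1 ≠ 0 := by
    rw [red_one h.toPT hμ]
    exact mul_ne_zero (Nat.cast_ne_zero.2 Nat.card_pos.ne') (IsIrr.one_ne_zero (hμ.irr k))
  have hXgen : IsGeneralizedCharacter G (δ k • etaC η k) := by
    rcases hdk with e | e
    · rw [e, one_smul]; exact etaC_gen h hμ hη k
    · rw [e]; simpa using IsGen.neg (etaC_gen h hμ hη k)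
  have hmain := base_cond (T := T) (τ := τ) hτ (χ₁ := red K μ k) (zs_sub hkT) hdeg0 (X := δ k • etaC η k) (by
    intro χ hχ
    obtain ⟨ψ, h1, h2, rfl, h3⟩ := hT χ hχ
    refine ⟨1, by rw [Int.cast_one, one_mul, red_one h.toPT hμ, red_one h.toPT hμ, h3], ?_⟩
    rw [one_smul, hτdef, tau_red h hμ hη h1 hk h2 hk1 h3, sign_eq h.toPT hμ h3, ci_smul_left, ci_smul_right, hcd, ← mul_assoc, hdd,
      one_mul, ci_sub_right, ci_sub_right, etaC_etaC h hμ hη hk h1, etaC_etaC h hμ hη hk hk, red_red h.toPT hμ hk h1,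
      red_red h.toPT hμ hk hk])
  obtain ⟨τ₁, h1, h2, h3⟩ := extend_base hτ (χ₁ := red K μ k) (zs_sub hkT) hdeg0 hmain.1 (X := δ k • etaC η k) hXgen (by
    rw [ci_smul_left, ci_smul_right, hcd, ← mul_assoc, hdd, one_mul, etaC_etaC h hμ hη hk hk, red_red h.toPT hμ hk hk])
    (IsGen.of_char (red_char h.toPT hμ k)) (fun χ hχ => IsGen.of_char (indD_char h (hTS hχ))) hmain.2
  refine ⟨τ₁, ⟨h1, h2⟩, fun ψ hψ hψ1 hψT => ?_⟩
  have hd' : μ ψ 1 = μ k 1 := by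
    obtain ⟨ψ', e1, e2, e3, e4⟩ := hT _ hψT
    rw [red_inj h.toPT hμ hψ e1 e3, e4]
  have e1 : red K μ ψ - red K μ k ∈ zspanOn T {1}ᶜ := by
    rw [zo_iff]
    refine ⟨zs_diff (zs_sub hψT) (zs_sub hkT), ?_⟩
    rw [Pi.sub_apply, red_one h.toPT hμ, red_one h.toPT hμ, hd', sub_self]
  have e2 := h2 _ e1
  rw [iso_diff h1 (zs_sub hψT) (zs_sub hkT) (zs_neg (zs_sub hkT)), h3, tau_red h hμ hη hψ hk hψ1 hk1 hd',
    sign_eq h.toPT hμ hd'] at e2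
  rw [eq_add_of_sub_eq e2, smul_sub]
  abel

/-- Peterfalvi (5.8): the images of the `μ_j` in the presence of an irreducible member -/
theorem coh_red {S : Set (L → ℂ)} {Rc : (L → ℂ) → Finset (G → ℂ)}
    (hS : IsCoherenceSystem S (dadeIsometry (A0 L W₁ W₂ A) L R) Rc) (hSD : S ⊆ indD K H ⊥)
    (hR1 : ∀ ψ, X2 W₁ W₂ ψ → ψ ≠ 1 → red K μ ψ ∈ S → Rc (red K μ ψ) = RR δ η ψ)
    (hR2 : ∀ χ ∈ S, IsIrrCharacter L χ → (∀ α ∈ Rc χ, ∀ ω, classInner α (η ω) = 0))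
    {S₁ : Set (L → ℂ)} (hS₁ : S₁ ⊆ S) (hS₁c : ∀ χ ∈ S₁, conjFun χ ∈ S₁) {τ₁ : (L → ℂ) → (G → ℂ)}
    (hτ₁ : Ext S₁ (dadeIsometry (A0 L W₁ W₂ A) L R) τ₁) {χ : L → ℂ} (hχ : χ ∈ S₁) (hχi : IsIrrCharacter L χ)
    {ψ : ↥(W₁ ⊔ W₂) →* ℂˣ} (hψ : X2 W₁ W₂ ψ) (hψ1 : ψ ≠ 1) (hψS : red K μ ψ ∈ S₁) :
    τ₁ (red K μ ψ) = δ ψ • etaC η ψ ∨ τ₁ (red K μ ψ) = -(δ ψ • etaC η ψ⁻¹) := by
  classical
  set τ := dadeIsometry (A0 L W₁ W₂ A) L R with hτdef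
  have hψi := X2_inv hψ
  have hne : ψ ≠ ψ⁻¹ := (inv_ne (odd_W h.toPT) hψ1).symm
  have hψi1 := inv_ne_one hψ1
  have hdd := dd h.toPT hμ ψ
  have hcd := conj_d h.toPT hμ ψ
  set f := τ₁ (red K μ ψ) with hf
  have hfg : IsGeneralizedCharacter G f := hτ₁.1.2.2.2 _ (zs_sub hψS)
  obtain ⟨c, hc01, hcin, hcf, hcs⟩ := sub_sum hS hS₁ hτ₁ hψS (hS₁c _ hψS)
  rw [hR1 ψ hψ hψ1 (hS₁ hψS)] at hc01 hcin hcf hcs
  -- orthogonality to other columns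
  have horth : ∀ φ ψ', X1 W₁ W₂ φ → X2 W₁ W₂ ψ' → ψ' ≠ ψ → ψ' ≠ ψ⁻¹ → classInner f (η (φ * ψ')) = 0 := by
    intro φ ψ' h1 h2 h3 h4
    rw [hf, hcf, ci_sum_left]
    apply Finset.sum_eq_zero
    intro α hα
    obtain ⟨φ', ψ'', k1, k2, k3⟩ := mem_RR h hμ hη hα
    have k4 : X2 W₁ W₂ ψ'' := by rcases k2 with rfl | rfl; exacts [hψ, hψi]
    have k5 : ψ'' ≠ ψ' := by rcases k2 with rfl | rfl; exacts [h3.symm, h4.symm]
    have z := eta_ne hη (mul_ne h.self hη k1 h1 k4 h2 (Or.inr k5))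
    rcases k3 with rfl | rfl
    · rw [ci_smul_left, z, mul_zero]
    · rw [ci_smul_left, ci_neg_left', z, neg_zero, mul_zero]
  have hχorth : ∀ ω, classInner (τ₁ χ) (η ω) = 0 := by
    intro ω
    rw [← ci_conj_symm, orth_tau hS hS₁ hτ₁.1 hτ₁.2 hχ (hS₁c _ hχ) (f := η ω) (fun α hα => by
      rw [← ci_conj_symm, hR2 χ (hS₁ hχ) hχi α hα ω, map_zero]), map_zero]
  -- columns are constant
  obtain ⟨n, hn0, hn⟩ := IsIrr.one_eq_nat hχi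
  obtain ⟨m, hm⟩ := IsChar.one_eq_nat (red_char h.toPT hμ ψ)
  have hθmem : (n : ℤ) • red K μ ψ - (m : ℤ) • χ ∈ zspanOn S₁ {1}ᶜ := by
    rw [zo_iff]
    refine ⟨zs_diff (zs_zsmul _ (zs_sub hψS)) (zs_zsmul _ (zs_sub hχ)), ?_⟩
    rw [Pi.sub_apply, zc, zc, Pi.smul_apply, Pi.smul_apply, hn, hm]
    push_cast
    simp only [smul_eq_mul]; ring
  have hθ : τ₁ ((n : ℤ) • red K μ ψ - (m : ℤ) • χ) = (n : ℂ) • f - (m : ℂ) • τ₁ χ := by
    rw [iso_diff hτ₁.1 (zs_zsmul _ (zs_sub hψS)) (zs_zsmul _ (zs_sub hχ)) (zs_neg (zs_zsmul _ (zs_sub hχ))),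
      hτ₁.1.2.1 _ (zs_sub hψS), hτ₁.1.2.1 _ (zs_sub hχ), zc, zc]
    push_cast; rfl
  have hθc : IsClassFunction G ((n : ℂ) • f - (m : ℂ) • τ₁ χ) :=
    isClass_sub _ _ (isClass_smul _ _ (IsGen.isClass hfg)) (isClass_smul _ _ (IsGen.isClass (hτ₁.1.2.2.2 _ (zs_sub hχ))))
  have hθV : ∀ w : ↥(W₁ ⊔ W₂), (w : G) ∉ W₁ → (w : G) ∉ W₂ → ((n : ℂ) • f - (m : ℂ) • τ₁ χ) w = 0 := by
    intro w hw1 hw2
    rw [← hθ, hτ₁.2 _ hθmem]
    exact tau_V h (hS₁.trans hSD) hθmem (mem_V.2 ⟨w.2, hw1, hw2⟩)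
  have hcol : ∀ φ ψ', X1 W₁ W₂ φ → X2 W₁ W₂ ψ' → classInner f (η (φ * ψ')) = classInner f (η ψ') := by
    intro φ ψ' h1 h2
    have h3 := grid h.self hη hθc hθV h1 h2 X1_one X2_one
    have h4 : ∀ ω, classInner ((n : ℂ) • f - (m : ℂ) • τ₁ χ) (η ω) = (n : ℂ) * classInner f (η ω) := by
      intro ω
      rw [ci_sub_left, ci_smul_left, ci_smul_left, hχorth, mul_zero, sub_zero]
    rw [h4, h4, h4, h4, hom_one_mul, hom_one_mul] at h3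
    have z1 : classInner f (η (φ * 1)) = 0 := horth φ 1 h1 X2_one hψ1.symm hψi1.symm
    have z2 : classInner f (η 1) = 0 := by
      have := horth 1 1 X1_one X2_one hψ1.symm hψi1.symm
      rwa [hom_one_mul] at this
    rw [z1, z2, mul_zero, add_zero, zero_add] at h3
    exact mul_left_cancel₀ (Nat.cast_ne_zero.2 hn0.ne') h3
  -- expansion
  have hexp : f = classInner f (η ψ) • etaC η ψ + classInner f (η ψ⁻¹) • etaC η ψ⁻¹ := by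
    have h1 : ∀ α ∈ RR δ η ψ, (c α : ℂ) • α = classInner f α • α := fun α hα => by rw [hf, hcin α hα]
    rw [Finset.sum_congr rfl h1, RR_eq] at hcf
    have hdisj' : Disjoint ((X1F W₁ W₂).image (fun φ => δ ψ • η (φ * ψ))) ((X1F W₁ W₂).image (fun φ => -(δ ψ • η (φ * ψ⁻¹)))) := by
      rw [Finset.disjoint_left]
      rintro α h1 h2
      obtain ⟨φ, hφ, rfl⟩ := Finset.mem_image.1 h1
      obtain ⟨φ', hφ', e⟩ := Finset.mem_image.1 h2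
      have e' : -(δ ψ • η (φ' * ψ⁻¹)) = δ ψ • η (φ * ψ) := e
      have e3 : classInner (δ ψ • η (φ * ψ)) (δ ψ • η (φ * ψ)) = 0 := by
        nth_rw 1 [← e']
        rw [ci_neg_left', ci_smul_left, ci_smul_right, eta_ne hη (mul_ne h.self hη (mem_X1F.1 hφ') (mem_X1F.1 hφ) hψi hψ (Or.inr hne.symm))]
        ring
      rw [ci_smul_left, ci_smul_right, hcd, eta_self hη, mul_one, hdd] at e3
      norm_num at e3
    have hinj1 : ∀ a ∈ X1F W₁ W₂, ∀ b ∈ X1F W₁ W₂, δ ψ • η (a * ψ) = δ ψ • η (b * ψ) → a = b := by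
      intro a _ b _ hab
      have e1 : η (a * ψ) = η (b * ψ) := by
        have := congrArg (fun z => δ ψ • z) hab
        simpa only [smul_smul, hdd, one_smul] using this
      exact mul_right_cancel (eta_inj hη e1)
    have hinj2 : ∀ a ∈ X1F W₁ W₂, ∀ b ∈ X1F W₁ W₂, -(δ ψ • η (a * ψ⁻¹)) = -(δ ψ • η (b * ψ⁻¹)) → a = b := by
      intro a _ b _ hab
      have e1 : η (a * ψ⁻¹) = η (b * ψ⁻¹) := by
        have := congrArg (fun z => δ ψ • z) (neg_inj.1 hab)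
        simpa only [smul_smul, hdd, one_smul] using this
      exact mul_right_cancel (eta_inj hη e1)
    rw [Finset.sum_union hdisj', Finset.sum_image hinj1, Finset.sum_image hinj2] at hcf
    refine hcf.trans ?_
    rw [etaC, etaC, Finset.smul_sum, Finset.smul_sum]
    congr 1
    · refine Finset.sum_congr rfl fun φ hφ => ?_
      rw [ci_smul_right, hcd, hcol φ ψ (mem_X1F.1 hφ) hψ, smul_smul]
      congr 1
      linear_combination classInner f (η ψ) * hdd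
    · refine Finset.sum_congr rfl fun φ hφ => ?_
      rw [ci_neg_right', ci_smul_right, hcd, hcol φ ψ⁻¹ (mem_X1F.1 hφ) hψi, smul_neg, neg_smul, neg_neg, smul_smul]
      congr 1
      linear_combination classInner f (η ψ⁻¹) * hdd
  -- the two values
  have v1 : classInner f (η ψ) = 0 ∨ classInner f (η ψ) = δ ψ := by
    have hm' : δ ψ • η (1 * ψ) ∈ RR δ η ψ := mem_RR_iff.2 (Or.inl ⟨1, X1_one, rfl⟩)
    have h1 := hcin _ hm'
    rw [hom_one_mul, ci_smul_right, hcd] at h1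
    have h2 : classInner f (η ψ) = δ ψ * c (δ ψ • η ψ) := by
      rw [← h1]
      linear_combination (-classInner f (η ψ)) * hdd
    rw [hom_one_mul] at hm'
    rcases hc01 _ hm' with h3 | h3
    · left; rw [h2, h3]; simp
    · right; rw [h2, h3]; simp
  have v2 : classInner f (η ψ⁻¹) = 0 ∨ classInner f (η ψ⁻¹) = -δ ψ := by
    have hm' : -(δ ψ • η (1 * ψ⁻¹)) ∈ RR δ η ψ := mem_RR_iff.2 (Or.inr ⟨1, X1_one, rfl⟩)
    have h1 := hcin _ hm'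
    rw [hom_one_mul, ci_neg_right', ci_smul_right, hcd] at h1
    have h2 : classInner f (η ψ⁻¹) = -(δ ψ * c (-(δ ψ • η ψ⁻¹))) := by
      rw [← h1]
      linear_combination (-classInner f (η ψ⁻¹)) * hdd
    rw [hom_one_mul] at hm'
    rcases hc01 _ hm' with h3 | h3
    · left; rw [h2, h3]; simp
    · right; rw [h2, h3]; simp
  have hnorm : classInner f f = (Nat.card W₁ : ℂ) := by
    rw [hf, hτ₁.1.2.2.1 _ (zs_sub hψS) _ (zs_sub hψS), red_norm h hμ hη hψ]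
  have hn2 : classInner f f = (Nat.card W₁ : ℂ) * (classInner f (η ψ) * conj (classInner f (η ψ)) +
      classInner f (η ψ⁻¹) * conj (classInner f (η ψ⁻¹))) := by
    conv_lhs => rw [hexp]
    simp only [ci_add_left, ci_add_right, ci_smul_left, ci_smul_right, etaC_etaC h hμ hη hψ hψ, etaC_etaC h hμ hη hψ hψi,
      etaC_etaC h hμ hη hψi hψ, etaC_etaC h hμ hη hψi hψi, if_true, if_neg hne, if_neg hne.symm]
    ring
  rw [hnorm] at hn2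
  have hW0 : (Nat.card W₁ : ℂ) ≠ 0 := Nat.cast_ne_zero.2 Nat.card_pos.ne'
  have hn3 : classInner f (η ψ) * conj (classInner f (η ψ)) + classInner f (η ψ⁻¹) * conj (classInner f (η ψ⁻¹)) = 1 := by
    have : (Nat.card W₁ : ℂ) * 1 = _ := (mul_one _).trans hn2
    exact (mul_left_cancel₀ hW0 this).symm
  rcases v1 with e1 | e1 <;> rcases v2 with e2 | e2
  · rw [e1, e2] at hn3; simp at hn3
  · right; rw [hexp, e1, e2, zero_smul, zero_add, neg_smul]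
  · left; rw [hexp, e1, e2, zero_smul, add_zero]
  · rw [e1, e2, map_neg, hcd] at hn3
    have : (1 : ℂ) + 1 = 1 := by linear_combination hn3 - 2 * hdd
    norm_num at this

end Cfsg.Agent.H10.PrD8
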