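import Mathlib
import Cfsg.Prelude.Def_Characters
import Cfsg.Prelude.Def_Transfer
import Cfsg.Agent.H3_CharQuot
import Cfsg.Agent.H3_CharInt

/-!
# Characters of extraspecial groups
-/

set_option autoImplicit false

open scoped ComplexConjugate

namespace Cfsg.Agent.H3.Extraspecial

open Cfsg Cfsg.Agent.H3.CharBasic Cfsg.Agent.H3.CharIrr Cfsg.Agent.H3.CharComplete
  Cfsg.Agent.H3.CharMult Cfsg.Agent.H3.CharInd Cfsg.Agent.H3.CharInt Cfsg.Agent.H3.CharQuot

section General

variable {G : Type*} [Group G] [Fintype G]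

/-- Sum of an irreducible character over a central subgroup. -/
theorem sum_central {χ : G → ℂ} (hχ : IsIrrCharacter G χ) (Z : Subgroup G) [Fintype Z]
    (hZ : Z ≤ Subgroup.center G) (h : ∃ z ∈ Z, χ z ≠ χ 1) : ∑ z : Z, χ z = 0 := by
  obtain ⟨z₀, hz₀, hne⟩ := h
  obtain ⟨c, -, hc⟩ := IsIrr.central hχ (hZ hz₀)
  have h1 : ∑ z : Z, χ z = c * ∑ z : Z, χ z := by
    rw [Finset.mul_sum]
    rw [← Equiv.sum_comp (Equiv.mulRight (⟨z₀, hz₀⟩ : Z))]
    refine Finset.sum_congr rfl fun z _ => ?_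
    exact hc z
  have h2 : c ≠ 1 := by
    rintro rfl
    apply hne
    have := hc 1
    rwa [one_mul, one_mul] at this
  have h3 : (1 - c) * ∑ z : Z, χ z = 0 := by rw [sub_mul, one_mul, ← h1, sub_self]
  exact (mul_eq_zero.mp h3).resolve_left (sub_ne_zero.mpr h2.symm)

/-- The sum of the squares of the degrees of the characters with `Z` in the kernel,
`Z` a central subgroup. -/
theorem sum_sq_central [Fintype (IrrCharacter G)] (Z : Subgroup G)
    (hZ : Z ≤ Subgroup.center G) [DecidablePred fun χ : IrrCharacter G => ∀ z ∈ Z, (χ : G → ℂ) z = (χ : G → ℂ) 1] :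
    (Nat.card Z : ℂ) * ∑ χ ∈ Finset.univ.filter (fun χ : IrrCharacter G =>
      ∀ z ∈ Z, (χ : G → ℂ) z = (χ : G → ℂ) 1), (χ : G → ℂ) 1 ^ 2 = (Nat.card G : ℂ) := by
  classical
  have := Fintype.ofFinite Z
  have h1 : ∑ z : Z, ∑ χ : IrrCharacter G, (χ : G → ℂ) 1 * (χ : G → ℂ) z = (Nat.card G : ℂ) := by
    rw [Finset.sum_eq_single (1 : Z)]
    · rw [Subgroup.coe_one, sum_one_mul, if_pos rfl]
    · intro z _ hz
      rw [sum_one_mul, if_neg (fun h => hz (Subtype.ext (by simpa using h)))]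
    · intro h; exact absurd (Finset.mem_univ _) h
  rw [Finset.sum_comm] at h1
  rw [← h1, Finset.mul_sum, Finset.sum_filter]
  refine Finset.sum_congr rfl fun χ _ => ?_
  rw [← Finset.mul_sum]
  split_ifs with h
  · rw [Finset.sum_congr rfl (g := fun _ : Z => (χ : G → ℂ) 1) (fun z _ => h z z.2),
      Finset.sum_const, Finset.card_univ, nsmul_eq_mul, Nat.card_eq_fintype_card]
    ring
  · push Not at h
    rw [sum_central χ.2 Z hZ h, mul_zero]

/-- a character whose kernel contains the commutator subgroup is linear -/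
theorem one_of_commutator {χ : G → ℂ} (hχ : IsIrrCharacter G χ)
    (h : ∀ z ∈ commutator G, χ z = χ 1) : χ 1 = 1 := by
  obtain ⟨χ', hχ', h1⟩ := IsIrr.descend hχ (commutator G) h
  have h2 := IsIrr.one_of_comm (A := G ⧸ commutator G) (fun a b => mul_comm (G := Abelianization G) a b) hχ'
  rw [← h1 1]; exact h2

theorem commutator_of_one {χ : G → ℂ} (hχ : IsCharacter G χ) (h : χ 1 = 1) :
    ∀ z ∈ commutator G, χ z = χ 1 := by
  obtain ⟨f, hf⟩ := IsChar.hom_units_of_one hχ h
  intro z hz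
  have : f z = 1 := Abelianization.commutator_subset_ker f hz
  rw [hf, hf, this, map_one]

end General

section Extra

variable {P : Type*} [Group P] [Fintype P] {p n : ℕ} [hp : Fact p.Prime]

/-- characters nontrivial on the centre of an extraspecial group vanish off the centre -/
theorem vanish (hP : IsExtraspecial p P) {χ : P → ℂ} (hχ : IsIrrCharacter P χ)
    (h : ∃ z ∈ Subgroup.center P, χ z ≠ χ 1) {x : P} (hx : x ∉ Subgroup.center P) : χ x = 0 := by
  obtain ⟨⟨hpg, -, hcomm⟩, hZ⟩ := hP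
  rw [Subgroup.mem_center_iff] at hx
  push Not at hx
  obtain ⟨y, hy⟩ := hx
  -- the commutator generates the centre
  have h1 : y * x * y⁻¹ * x⁻¹ ∈ Subgroup.center P := by
    rw [← hcomm]
    exact Subgroup.commutator_mem_commutator (Subgroup.mem_top y) (Subgroup.mem_top x)
  set c := y * x * y⁻¹ * x⁻¹ with hc
  have hc1 : c ≠ 1 := by
    intro h
    apply hy
    calc y * x = (y * x * y⁻¹ * x⁻¹) * (x * y) := by group
      _ = x * y := by rw [← hc, h, one_mul]
  obtain ⟨ω, hω, hω'⟩ := IsIrr.central hχ h1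
  have hω1 : ω ≠ 1 := by
    rintro rfl
    obtain ⟨z, hz, hne⟩ := h
    apply hne
    have h2 : Subgroup.zpowers (⟨c, h1⟩ : Subgroup.center P) = ⊤ :=
      zpowers_eq_top_of_prime_card (p := p) hZ (fun h => hc1 (congrArg Subtype.val h))
    have h3 : (⟨z, hz⟩ : Subgroup.center P) ∈ Subgroup.zpowers (⟨c, h1⟩ : Subgroup.center P) := by
      rw [h2]; trivial
    obtain ⟨k, hk⟩ := Subgroup.mem_zpowers_iff.mp h3
    have h4 : c ^ k = z := by
      have := congrArg Subtype.val hk
      simpa using this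
    have h5 : c ∈ chKer χ (IsIrr.isCharacter hχ) := by
      rw [mem_chKer]
      have := hω' 1
      rwa [one_mul, one_mul] at this
    have h6 := Subgroup.zpow_mem _ h5 k
    rw [h4] at h6
    exact h6
  have h5 : χ (y * x * y⁻¹) = χ x := IsIrr.isClass hχ x y
  have h6 : y * x * y⁻¹ = x * c := by
    have := Subgroup.mem_center_iff.mp h1 x
    rw [this, hc]; group
  rw [h6, hω'] at h5
  have h7 : (ω - 1) * χ x = 0 := by rw [sub_mul, h5, one_mul, sub_self]
  exact (mul_eq_zero.mp h7).resolve_left (sub_ne_zero.mpr hω1)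

/-- norm formula -/
theorem sq_degree (hP : IsExtraspecial p P) {χ : P → ℂ} (hχ : IsIrrCharacter P χ)
    (h : ∃ z ∈ Subgroup.center P, χ z ≠ χ 1) : (p : ℂ) * (χ 1) ^ 2 = Nat.card P := by
  classical
  have h1 := ci_irr_self hχ
  have hcard := hP.2
  obtain ⟨m, -, hm⟩ := IsIrr.one_eq_nat hχ
  have h2 : ∑ g : P, χ g * conj (χ g) = (p : ℂ) * (χ 1) ^ 2 := by
    rw [← Finset.sum_subset (Finset.subset_univ
      (Finset.univ.filter (fun g => g ∈ Subgroup.center P)))]
    · rw [Finset.sum_congr rfl (g := fun _ => (χ 1) ^ 2)]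
      · rw [Finset.sum_const, nsmul_eq_mul]
        congr 2
        rw [← hcard, Nat.card_eq_fintype_card, Fintype.card_subtype]
      · intro g hg
        obtain ⟨ω, hω, hω'⟩ := IsIrr.central hχ (Finset.mem_filter.mp hg).2
        have h3 := hω' 1
        rw [one_mul] at h3
        have h4 : ‖ω‖ = 1 := norm_eq_one_of_pow (orderOf_pos g).ne' hω
        rw [h3, map_mul, hm]
        have h5 : ω * conj ω = 1 := by
          rw [Complex.mul_conj, Complex.normSq_eq_norm_sq, h4]; simp
        simp only [map_natCast]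
        calc ω * (m : ℂ) * (conj ω * m) = (ω * conj ω) * (m : ℂ) ^ 2 := by ring
          _ = _ := by rw [h5, one_mul]
    · intro g _ hg
      rw [vanish hP hχ h (fun hgZ => hg (Finset.mem_filter.mpr ⟨Finset.mem_univ _, hgZ⟩)), zero_mul]
  rw [classInner, h2] at h1
  have h3 : (Nat.card P : ℂ) ≠ 0 := Nat.cast_ne_zero.mpr card_ne_zero
  field_simp at h1
  exact h1

theorem degree (hP : IsExtraspecial p P) (hcard : Nat.card P = p ^ (2 * n + 1)) {χ : P → ℂ}
    (hχ : IsIrrCharacter P χ) (h : ∃ z ∈ Subgroup.center P, χ z ≠ χ 1) : χ 1 = (p : ℂ) ^ n := by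
  have h1 := sq_degree hP hχ h
  obtain ⟨m, -, hm⟩ := IsIrr.one_eq_nat hχ
  rw [hm, hcard] at h1
  have h2 : p * m ^ 2 = p ^ (2 * n + 1) := by exact_mod_cast h1
  have h3 : m ^ 2 = (p ^ n) ^ 2 := by
    apply Nat.eq_of_mul_eq_mul_left hp.out.pos
    rw [h2]; ring
  have h4 : m = p ^ n := Nat.pow_left_injective (by norm_num : 2 ≠ 0) h3
  rw [hm, h4]; push_cast; rfl

/-- Induced characters from maximal abelian subgroups. -/
theorem ind_irr (hP : IsExtraspecial p P) (hcard : Nat.card P = p ^ (2 * n + 1))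
    (A : Subgroup P) (hA : Nat.card A = p ^ (n + 1)) {lam : A → ℂ}
    (hlam : IsCharacter A lam) (hlam1 : lam 1 = 1)
    (hZ : ∃ a : A, (a : P) ∈ Subgroup.center P ∧ lam a ≠ 1) :
    IsIrrCharacter P (indFun A lam) ∧ ∀ x : P, x ∉ Subgroup.center P → indFun A lam x = 0 := by
  classical
  have hfA : Fintype A := Fintype.ofFinite _
  have hlamirr := IsChar.isIrr_of_one hlam hlam1
  obtain ⟨χ, hχ, hne⟩ := exists_constituent_ind (G := P) hlamirr
  have h1 : classInner (fun a : A => χ a) lam ≠ 0 :=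
    (constituent_ind_iff (ψ := lam) (IsIrr.isCharacter hχ)).mp hne
  have hex : ∃ z ∈ Subgroup.center P, χ z ≠ χ 1 := by
    by_contra hcon
    push Not at hcon
    apply h1
    obtain ⟨a, haZ, ha⟩ := hZ
    obtain ⟨f, hf⟩ := IsChar.hom_units_of_one hlam hlam1
    have h2 : classInner (fun a : A => χ a) lam = conj (lam a) * classInner (fun a : A => χ a) lam := by
      conv_lhs => rw [classInner, ← Equiv.sum_comp (Equiv.mulLeft a)]
      rw [classInner, mul_left_comm, Finset.mul_sum (a := conj (lam a))]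
      congr 1
      refine Finset.sum_congr rfl fun x _ => ?_
      have h3 : χ ((a : P) * x) = χ x := IsChar.mul_ker (IsIrr.isCharacter hχ) (hcon a haZ) x
      have h4 : lam (a * x) = lam a * lam x := by rw [hf, hf, hf, map_mul]; push_cast; rfl
      simp only [Equiv.coe_mulLeft, Subgroup.coe_mul, h3, h4, map_mul]
      ring
    have h3 : (1 - conj (lam a)) * classInner (fun a : A => χ a) lam = 0 := by
      rw [sub_mul, one_mul, ← h2, sub_self]
    refine (mul_eq_zero.mp h3).resolve_left (fun h => ha ?_)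
    have h5 : conj (lam a) = 1 := (sub_eq_zero.mp h).symm
    have h6 := congrArg conj h5
    simpa using h6
  have hdeg := degree hP hcard hχ hex
  have hidx : A.index = p ^ n := by
    have := A.card_mul_index
    rw [hA, hcard] at this
    apply Nat.eq_of_mul_eq_mul_left (pow_pos hp.out.pos (n + 1))
    rw [this, ← pow_add]; congr 1; ring
  have heq : indFun A lam = χ := by
    apply IsChar.eq_of_degree (IsChar.ind hlam) hχ hne
    rw [ind_one, hlam1, hidx, hdeg]; push_cast; ring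
  rw [heq]
  exact ⟨hχ, fun x hx => vanish hP hχ hex hx⟩

theorem n_pos (hP : IsExtraspecial p P) (hcard : Nat.card P = p ^ (2 * n + 1)) : 0 < n := by
  by_contra h
  have h0 : n = 0 := by omega
  subst h0
  obtain ⟨⟨hpg, -, hcomm⟩, hZ⟩ := hP
  have h1 : Subgroup.center P = ⊤ := by
    apply Subgroup.eq_top_of_card_eq
    rw [hZ, hcard]; simp
  have h2 : commutator P = ⊥ := by
    rw [commutator_eq_bot_iff_center_eq_top]; exact h1
  rw [hcomm, h1] at h2
  have h3 : Nat.card P = 1 := by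
    rw [← Subgroup.card_top (G := P), h2, Subgroup.card_bot]
  rw [hcard] at h3
  simp at h3
  exact hp.out.one_lt.ne' h3

theorem degree_iff (hP : IsExtraspecial p P) (hcard : Nat.card P = p ^ (2 * n + 1)) {χ : P → ℂ}
    (hχ : IsIrrCharacter P χ) : (χ 1 = 1 ∨ χ 1 = (p : ℂ) ^ n) ∧
    (χ 1 = (p : ℂ) ^ n ↔ ¬ ∀ z ∈ Subgroup.center P, χ z = χ 1) := by
  by_cases h : ∀ z ∈ Subgroup.center P, χ z = χ 1
  · have h1 : χ 1 = 1 := one_of_commutator hχ (by rw [hP.1.2.2]; exact h)
    refine ⟨Or.inl h1, ⟨fun h2 => ?_, fun h2 => absurd h h2⟩⟩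
    exfalso
    rw [h1] at h2
    have h3 : p ^ n = 1 := by exact_mod_cast h2.symm
    have h4 := Nat.one_lt_pow (n_pos hP hcard).ne' hp.out.one_lt
    omega
  · have h' := h
    push Not at h'
    have := degree hP hcard hχ h'
    exact ⟨Or.inr this, ⟨fun _ => h, fun _ => this⟩⟩

theorem card_degree (hP : IsExtraspecial p P) (hcard : Nat.card P = p ^ (2 * n + 1)) :
    Nat.card {χ : IrrCharacter P // (χ : P → ℂ) 1 = (p : ℂ) ^ n} = p - 1 := by
  classical
  have := Fintype.ofFinite (IrrCharacter P)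
  have h1 := sum_sq_central (G := P) (Subgroup.center P) le_rfl
  have h2 := sum_sq (G := P)
  rw [hP.2] at h1
  rw [← Finset.sum_filter_add_sum_filter_not _
    (fun χ : IrrCharacter P => ∀ z ∈ Subgroup.center P, (χ : P → ℂ) z = (χ : P → ℂ) 1)] at h2
  have h3 : ∑ χ ∈ Finset.univ.filter (fun χ : IrrCharacter P =>
      ¬ ∀ z ∈ Subgroup.center P, (χ : P → ℂ) z = (χ : P → ℂ) 1), (χ : P → ℂ) 1 ^ 2 =
      (Nat.card {χ : IrrCharacter P // (χ : P → ℂ) 1 = (p : ℂ) ^ n} : ℂ) * (p : ℂ) ^ (2 * n) := by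
    rw [Finset.sum_congr rfl (g := fun _ => (p : ℂ) ^ (2 * n))]
    · rw [Finset.sum_const, nsmul_eq_mul]
      congr 2
      rw [Nat.card_eq_fintype_card, Fintype.card_subtype]
      congr 1
      ext χ
      simp only [Finset.mem_filter, Finset.mem_univ, true_and]
      exact (degree_iff hP hcard χ.2).2.symm
    · intro χ hχ
      have := (degree_iff hP hcard χ.2).2.mpr (Finset.mem_filter.mp hχ).2
      rw [this]; ring
  rw [h3] at h2
  set A := ∑ χ ∈ Finset.univ.filter (fun χ : IrrCharacter P => ∀ z ∈ Subgroup.center P, (χ : P → ℂ) z = (χ : P → ℂ) 1), (χ : P → ℂ) 1 ^ 2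
  set N := Nat.card {χ : IrrCharacter P // (χ : P → ℂ) 1 = (p : ℂ) ^ n}
  rw [hcard] at h1 h2
  have hp0 : (p : ℂ) ≠ 0 := by exact_mod_cast hp.out.ne_zero
  have hA : A = (p : ℂ) ^ (2 * n) := by
    apply mul_left_cancel₀ hp0
    rw [h1]; push_cast; ring
  rw [hA] at h2
  have h4 : ((p : ℂ) ^ (2 * n)) * (1 + N) = ((p : ℂ) ^ (2 * n)) * p := by
    push_cast at h2
    rw [mul_add, mul_one, mul_comm _ (N : ℂ), h2]; ring
  have h5 := mul_left_cancel₀ (pow_ne_zero _ hp0) h4
  have h6 : 1 + N = p := by exact_mod_cast h5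
  omega

end Extra

end Cfsg.Agent.H3.Extraspecial
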