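import Cfsg.Statements.S1536
import Cfsg.Agent.H10_OOGrp2

set_option autoImplicit false
open Cfsg

namespace Cfsg.Agent.S1536

open Cfsg.Agent.H3.CharIrr Cfsg.Agent.H3.CharInd Cfsg.Agent.H3.CharCalc Cfsg.Agent.H10.OOGrp Cfsg.Agent.H10.OOGrp2

/-- Let H be a normal subgroup of the finite group M whose order is coprime to its index. For x ∈ M: some non-principal irreducible character of H is unchanged under h ↦ θ(x h x⁻¹) if and only if some non-identity element of H commutes with x. -/
theorem result {M : Type*} [Group M] [Finite M] (H : Subgroup M) [hN : H.Normal] (hHall : Nat.Coprime (Nat.card H) H.index) (x : M) : (∃ θ : H → ℂ, Cfsg.IsIrrCharacter H θ ∧ θ ≠ (fun _ => 1) ∧ (fun h : H => θ ⟨x * h * x⁻¹, hN.conj_mem h h.2 x⟩) = θ) ↔ ∃ h ∈ H, h ≠ 1 ∧ x * h = h * x := by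
  classical
  haveI := Fintype.ofFinite H
  let e : H ≃* H := MulAut.conjNormal x
  have he : ∀ h : H, e h = ⟨x * h * x⁻¹, hN.conj_mem h h.2 x⟩ := fun h => Subtype.ext (MulAut.conjNormal_apply x h)
  let π : IrrCharacter H → IrrCharacter H := fun χ => ⟨fun h => (χ : H → ℂ) (e h),
    (isIrr_comp_iff e).2 χ.2⟩
  let τ : ConjClasses H → ConjClasses H := ConjClasses.map (e.symm : H →* H)
  have hbr := brauer_perm π τ (by
    intro χ g g' h
    show (χ : H → ℂ) (e g') = (χ : H → ℂ) g
    have h1 : ConjClasses.mk g' = ConjClasses.mk (e.symm g) := h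
    obtain ⟨c, hc⟩ := isConj_iff.1 (ConjClasses.mk_eq_mk_iff_isConj.1 h1)
    have h2 : e g' = (e c)⁻¹ * g * (e c)⁻¹⁻¹ := by
      have h3 := congrArg e hc
      rw [map_mul, map_mul, map_inv, MulEquiv.apply_symm_apply] at h3
      rw [← h3]; group
    rw [h2]
    exact IsIrr.isClass χ.2 _ _)
  have hone : IsIrrCharacter H (fun _ => (1 : ℂ)) := isIrr_one
  constructor
  · rintro ⟨θ, hθ, hθ1, hfix⟩
    have hfix' : π ⟨θ, hθ⟩ = ⟨θ, hθ⟩ := by
      apply Subtype.ext
      funext h
      show θ (e h) = θ h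
      rw [he]
      exact congrFun hfix h
    -- two fixed irreducibles
    have h2 : 1 < Nat.card {χ : IrrCharacter H // π χ = χ} := by
      haveI : Fintype {χ : IrrCharacter H // π χ = χ} := Fintype.ofFinite _
      rw [Nat.card_eq_fintype_card, Fintype.one_lt_card_iff]
      refine ⟨⟨⟨θ, hθ⟩, hfix'⟩, ⟨⟨_, hone⟩, Subtype.ext rfl⟩, fun hc => hθ1 ?_⟩
      exact congrArg (fun q => (q.1 : H → ℂ)) hc
    rw [hbr] at h2
    haveI : Fintype {C : ConjClasses H // τ C = C} := Fintype.ofFinite _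
    rw [Nat.card_eq_fintype_card] at h2
    obtain ⟨C, hC⟩ := Fintype.exists_ne_of_one_lt_card h2 ⟨ConjClasses.mk 1, by
      show ConjClasses.mk (e.symm 1) = ConjClasses.mk 1
      rw [map_one]⟩
    obtain ⟨k, hk⟩ := ConjClasses.exists_rep C.1
    have hk1 : k ≠ 1 := by
      rintro rfl
      exact hC (Subtype.ext hk.symm)
    have h3 : ConjClasses.mk (e.symm k) = ConjClasses.mk k := by
      have := C.2
      rw [← hk] at this
      exact this
    obtain ⟨c, hc⟩ := isConj_iff.1 (ConjClasses.mk_eq_mk_iff_isConj.1 h3)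
    have h4 : e k = (e c) * k * (e c)⁻¹ := by
      have h5 := congrArg e hc
      rw [map_mul, map_mul, map_inv, MulEquiv.apply_symm_apply] at h5
      exact h5.symm
    have h6 : x * (k : M) * x⁻¹ = (e c : M) * k * (e c : M)⁻¹ := by
      rw [he k] at h4
      exact congrArg Subtype.val h4
    by_cases hcop : Nat.Coprime (orderOf x) (Nat.card H)
    · obtain ⟨v, hv, hvk⟩ := fixed_class (K := H) (by rw [Subgroup.normalizer_eq_top]; exact Subgroup.mem_top _) hcop k.2 (e c).2 h6
      refine ⟨v * k * v⁻¹, H.mul_mem (H.mul_mem hv k.2) (H.inv_mem hv), fun h => hk1 ?_, hvk.symm⟩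
      have : v * (k : M) * v⁻¹ = v * 1 * v⁻¹ := by rw [h]; group
      exact Subtype.ext (mul_left_cancel (mul_right_cancel this))
    · obtain ⟨p, hp, h1, h2'⟩ := Nat.Prime.not_coprime_iff_dvd.1 hcop
      have hy : orderOf (x ^ (orderOf x / p)) = p := orderOf_pow_orderOf_div (orderOf_pos x).ne' h1
      have hcop2 : Nat.Coprime H.index (orderOf (x ^ (orderOf x / p))) := by
        rw [hy]
        exact (Nat.Coprime.coprime_dvd_left h2' hHall).symm
      obtain ⟨m, hm⟩ := exists_pow_eq_self_of_coprime hcop2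
      refine ⟨x ^ (orderOf x / p), ?_, ?_, ?_⟩
      · rw [← hm]
        exact H.pow_mem (H.pow_index_mem _) m
      · intro h
        rw [h, orderOf_one] at hy
        exact hp.one_lt.ne hy
      · exact ((Commute.refl x).pow_right _)
  · rintro ⟨h, hh, hh1, hcomm⟩
    have h2 : 1 < Nat.card {C : ConjClasses H // τ C = C} := by
      haveI : Fintype {C : ConjClasses H // τ C = C} := Fintype.ofFinite _
      rw [Nat.card_eq_fintype_card, Fintype.one_lt_card_iff]
      refine ⟨⟨ConjClasses.mk ⟨h, hh⟩, ?_⟩, ⟨ConjClasses.mk 1, ?_⟩, fun hc => ?_⟩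
      · show ConjClasses.mk (e.symm ⟨h, hh⟩) = ConjClasses.mk ⟨h, hh⟩
        congr 1
        rw [MulEquiv.symm_apply_eq, he]
        apply Subtype.ext
        show h = x * h * x⁻¹
        rw [hcomm]; group
      · show ConjClasses.mk (e.symm 1) = ConjClasses.mk 1
        rw [map_one]
      · have h3 : ConjClasses.mk (⟨h, hh⟩ : H) = ConjClasses.mk 1 := congrArg Subtype.val hc
        obtain ⟨c, hc⟩ := isConj_iff.1 (ConjClasses.mk_eq_mk_iff_isConj.1 h3)
        apply hh1
        have h4 : c * (⟨h, hh⟩ : H) * c⁻¹ = c * 1 * c⁻¹ := by rw [hc]; group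
        have h5 := mul_left_cancel (mul_right_cancel h4)
        exact congrArg Subtype.val h5
    rw [← hbr] at h2
    haveI : Fintype {χ : IrrCharacter H // π χ = χ} := Fintype.ofFinite _
    rw [Nat.card_eq_fintype_card] at h2
    obtain ⟨χ, hχ⟩ := Fintype.exists_ne_of_one_lt_card h2 ⟨⟨_, hone⟩, Subtype.ext rfl⟩
    refine ⟨(χ.1 : H → ℂ), χ.1.2, fun hc => hχ (Subtype.ext (Subtype.ext hc)), ?_⟩
    have h3 := congrArg (fun q : IrrCharacter H => (q : H → ℂ)) χ.2
    funext k
    have h4 := congrFun h3 k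
    rw [← he k]
    exact h4

end Cfsg.Agent.S1536
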