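import Mathlib
import Cfsg.Agent.H10_PrD8
import Cfsg.Agent.H3_Extraspecial
import Cfsg.Agent.H3_Clifford2
import Cfsg.Agent.H2_Card
import Cfsg.Agent.S1536

set_option autoImplicit false
set_option linter.all false

/-! Peterfalvi §9: degrees of characters of `H ⋊ U` with `U/U'` abelian modulo the kernel. -/

open scoped commutatorElement

namespace Cfsg.Agent.H10.PrE1

open Cfsg Cfsg.Agent.H3.CharBasic Cfsg.Agent.H3.CharIrr Cfsg.Agent.H3.CharComplete
  Cfsg.Agent.H3.CharMult Cfsg.Agent.H3.CharInd Cfsg.Agent.H3.CharInt Cfsg.Agent.H3.Clifford Cfsg.Agent.H3.CharQuot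
  Cfsg.Agent.H10.OOClif Cfsg.Agent.H10.IndSet

section One

variable {P : Type*} [Group P] [Fintype P]

/-- an irreducible character with all commutators in the kernel is linear -/
theorem lin_of_comm {ψ : P → ℂ} (hψ : IsIrrCharacter P ψ) (h : ∀ x y : P, ψ (x * y * x⁻¹ * y⁻¹) = ψ 1) : ψ 1 = 1 := by
  apply Cfsg.Agent.H3.Extraspecial.one_of_commutator hψ
  have h1 : commutator P ≤ chKer ψ (IsIrr.isCharacter hψ) := by
    rw [commutator_def, Subgroup.commutator_le]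
    intro x _ y _
    rw [mem_chKer]
    exact h x y
  intro z hz
  exact (mem_chKer _ _).1 (h1 hz)

end One

variable {P : Type*} [Group P] [Fintype P] {H U : Subgroup P}

/-- the linear constituent below `θ` -/
theorem exists_lin (hH : H.Normal) {θ : P → ℂ} (hθ : IsIrrCharacter P θ)
    (hHH : ∀ x ∈ H, ∀ y ∈ H, θ (x * y * x⁻¹ * y⁻¹) = θ 1) [Fintype H] :
    ∃ φ : H →* ℂˣ, classInner (fun h : H => θ h) (fun h => (φ h : ℂ)) ≠ 0 := by
  obtain ⟨η, hη, hne⟩ := exists_constituent_res (H := H) hθ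
  have hres : IsCharacter H (fun c : H => θ c) := IsChar.res (IsIrr.isCharacter hθ) H
  have h1 : η 1 = 1 := by
    apply lin_of_comm hη
    intro x y
    apply ker_const hres hη hne
    exact hHH x x.2 y y.2
  obtain ⟨f, hf⟩ := IsChar.hom_units_of_one (IsIrr.isCharacter hη) h1
  refine ⟨f, ?_⟩
  have : (fun h => (f h : ℂ)) = η := (funext hf).symm
  rw [this]; exact hne

section Main

variable (hH : H.Normal) (hsup : H ⊔ U = ⊤) {θ : P → ℂ} (hθ : IsIrrCharacter P θ)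
  (hUU : ∀ x ∈ U, ∀ y ∈ U, θ (x * y * x⁻¹ * y⁻¹) = θ 1) [Fintype H]
  {φ : H →* ℂˣ} (hne : classInner (fun h : H => θ h) (fun h => (φ h : ℂ)) ≠ 0)

/-- the stabilizer of `φ` in `U` -/
def Tst (hH : H.Normal) (U : Subgroup P) (φ : H →* ℂˣ) : Subgroup P := U ⊓ inertia hH (fun h => (φ h : ℂ))

omit [Fintype P] [Fintype H] in
theorem mem_Tst {t : P} : t ∈ Tst hH U φ ↔ t ∈ U ∧ ∀ h : H, φ ⟨t * h * t⁻¹, hH.conj_mem h h.2 t⟩ = φ h := by
  rw [Tst, Subgroup.mem_inf, mem_inertia]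
  refine and_congr_right fun _ => ⟨fun h x => ?_, fun h => ?_⟩
  · have := congrFun h x
    rw [cj_apply] at this
    exact Units.ext this
  · funext x
    rw [cj_apply, h x]

omit [Fintype P] [Fintype H] in
theorem H_le_inertia : H ≤ inertia hH (fun h => (φ h : ℂ)) := by
  apply le_inertia
  intro g x
  show (φ (x * g * x⁻¹) : ℂ) = φ g
  rw [map_mul, map_mul, map_inv, mul_comm (φ x), mul_inv_cancel_right]

omit [Fintype P] [Fintype H] in
include hsup in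
theorem inertia_eq : inertia hH (fun h => (φ h : ℂ)) = H ⊔ Tst hH U φ := by
  haveI := hH
  apply le_antisymm
  · intro x hx
    have hx1 : x ∈ H ⊔ U := by rw [hsup]; trivial
    obtain ⟨a, ha, b, hb, rfl⟩ := (Cfsg.Agent.H2.Card.mem_sup_iff' (Subgroup.le_normalizer_of_normal)).1 hx1
    have hb' : b ∈ inertia hH (fun h => (φ h : ℂ)) := by
      have h1 := (inertia hH (fun h => (φ h : ℂ))).mul_mem ((inertia hH (fun h => (φ h : ℂ))).inv_mem (H_le_inertia hH ha)) hx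
      rwa [inv_mul_cancel_left] at h1
    exact Subgroup.mul_mem_sup ha ⟨hb, hb'⟩
  · exact sup_le (H_le_inertia hH) inf_le_right

include hθ hne in
theorem ker_down {x : P} (hx : x ∈ H) (h : θ x = θ 1) : φ ⟨x, hx⟩ = 1 := by
  have hres : IsCharacter H (fun c : H => θ c) := IsChar.res (IsIrr.isCharacter hθ) H
  have h1 := ker_const hres (isIrr_of_hom_units φ) hne (b := ⟨x, hx⟩) h
  rw [map_one] at h1
  exact Units.ext (by rw [h1])

include hθ hne hUU in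
theorem comm_le_T {x y : P} (hx : x ∈ U) (hy : y ∈ U) : x * y * x⁻¹ * y⁻¹ ∈ Tst hH U φ := by
  rw [mem_Tst]
  refine ⟨U.mul_mem (U.mul_mem (U.mul_mem hx hy) (U.inv_mem hx)) (U.inv_mem hy), fun h => ?_⟩
  set c := x * y * x⁻¹ * y⁻¹ with hc
  have hcker : c ∈ chKer θ (IsIrr.isCharacter hθ) := (mem_chKer _ _).2 (hUU x hx y hy)
  have h1 : c * h * c⁻¹ * (h:P)⁻¹ ∈ chKer θ (IsIrr.isCharacter hθ) := by
    have : (chKer θ (IsIrr.isCharacter hθ)).Normal := chKer_normal _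
    have h2 := this.conj_mem _ ((chKer θ (IsIrr.isCharacter hθ)).inv_mem hcker) (h : P)
    have h3 := (chKer θ (IsIrr.isCharacter hθ)).mul_mem hcker h2
    have e : c * h * c⁻¹ * (h:P)⁻¹ = c * ((h:P) * c⁻¹ * (h:P)⁻¹) := by group
    rw [e]; exact h3
  have hmem : c * h * c⁻¹ * (h:P)⁻¹ ∈ H := H.mul_mem (hH.conj_mem h h.2 c) (H.inv_mem h.2)
  have h4 := ker_down hθ hne hmem ((mem_chKer _ _).1 h1)
  have h5 : (⟨c * h * c⁻¹, hH.conj_mem h h.2 c⟩ : H) = ⟨c * h * c⁻¹ * (h:P)⁻¹, hmem⟩ * h := by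
    apply Subtype.ext; simp
  rw [h5, map_mul, h4, one_mul]

include hsup hθ hne hUU in
theorem inertia_normal : (inertia hH (fun h => (φ h : ℂ))).Normal := by
  haveI := hH
  set I := inertia hH (fun h => (φ h : ℂ)) with hI
  have hHI : H ≤ I := H_le_inertia hH
  have hcomm : ∀ x y : P, x * y * x⁻¹ * y⁻¹ ∈ I := by
    -- the quotient by the normal closure is messy; work with the decomposition
    intro x y
    have hx1 : x ∈ H ⊔ U := by rw [hsup]; trivial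
    have hy1 : y ∈ H ⊔ U := by rw [hsup]; trivial
    obtain ⟨a, ha, u, hu, rfl⟩ := (Cfsg.Agent.H2.Card.mem_sup_iff' (Subgroup.le_normalizer_of_normal)).1 hx1
    obtain ⟨b, hb, v, hv, rfl⟩ := (Cfsg.Agent.H2.Card.mem_sup_iff' (Subgroup.le_normalizer_of_normal)).1 hy1
    have huv : u * v * u⁻¹ * v⁻¹ ∈ I := (comm_le_T hH hθ hUU hne hu hv).2
    have e : a * u * (b * v) * (a * u)⁻¹ * (b * v)⁻¹ =
        (a * (u * b * u⁻¹) * ((u * v * u⁻¹) * a⁻¹ * (u * v * u⁻¹)⁻¹)) * ((u * v * u⁻¹ * v⁻¹) * b⁻¹ * (u * v * u⁻¹ * v⁻¹)⁻¹) * (u * v * u⁻¹ * v⁻¹) := by group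
    rw [e]
    refine I.mul_mem (hHI (H.mul_mem (H.mul_mem (H.mul_mem ha (hH.conj_mem b hb u)) (hH.conj_mem _ (H.inv_mem ha) _)) (hH.conj_mem _ (H.inv_mem hb) _))) huv
  refine ⟨fun n hn g => ?_⟩
  have h1 := I.mul_mem (hcomm g n) hn
  have e : g * n * g⁻¹ * n⁻¹ * n = g * n * g⁻¹ := by group
  rwa [e] at h1

include hsup hθ hne hUU in
/-- `θ` is induced from a linear character of the inertia group of `φ` -/
theorem exists_ind : ∃ ψ : inertia hH (fun h => (φ h : ℂ)) → ℂ, IsIrrCharacter _ ψ ∧ ψ 1 = 1 ∧ indFun _ ψ = θ ∧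
    ∀ h : H, ψ ⟨h, H_le_inertia hH h.2⟩ = φ h := by
  classical
  set φc : H → ℂ := fun h => (φ h : ℂ) with hφc
  have hφi : IsIrrCharacter H φc := isIrr_of_hom_units φ
  set I := inertia hH φc with hI
  haveI : Fintype I := Fintype.ofFinite _
  have hHI : H ≤ I := H_le_inertia hH
  obtain ⟨ψ, hψ, hind, hmul⟩ := clifford_corr hH hθ hφi hne I rfl hHI
  have hψne : classInner (fun n : H => ψ ⟨(n : P), hHI n.2⟩) φc ≠ 0 := by rw [hmul]; exact hne
  -- restriction of ψ to H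
  let N : Subgroup I := H.subgroupOf I
  have hN : N.Normal := by haveI := hH; exact inferInstanceAs (H.subgroupOf I).Normal
  let e : N ≃* H := Subgroup.subgroupOfEquivOfLe hHI
  haveI : Fintype N := Fintype.ofFinite _
  have hφ' : IsIrrCharacter N (fun n => φc (e n)) := (isIrr_comp_iff e).2 hφi
  have hci : classInner (fun n : N => ψ n) (fun n => φc (e n)) = classInner (fun n : H => ψ ⟨(n : P), hHI n.2⟩) φc := by
    rw [classInner, classInner, Nat.card_congr e.toEquiv]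
    congr 1
    exact Equiv.sum_comp e.toEquiv (fun n : H => ψ ⟨(n : P), hHI n.2⟩ * starRingEnd ℂ (φc n))
  have hinv : ∀ g : I, cj hN g (fun n => φc (e n)) = (fun n => φc (e n)) := by
    intro g
    funext n
    have h1 := congrFun ((mem_inertia hH φc g).1 g.2) (e n)
    exact h1
  have h2 := clifford_invariant hN hψ hφ' (by rw [hci]; exact hψne) hinv
  have h3 : ∀ h : H, ψ ⟨h, hHI h.2⟩ = ψ 1 * φc h := by
    intro h
    have e1 := congrFun h2 (e.symm h)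
    have e2 := congrFun h2 1
    simp only [Pi.smul_apply, smul_eq_mul, MulEquiv.apply_symm_apply] at e1 e2
    have e3 : φc (e 1) = 1 := by rw [map_one, hφc]; simp
    rw [e3, mul_one] at e2
    have e4 : ((e.symm h : N) : I) = ⟨h, hHI h.2⟩ := rfl
    rw [e4] at e1
    rw [e1, ← e2]
    rfl
  have h4 : ψ 1 = 1 := by
    apply lin_of_comm hψ
    set Q := chKer ψ (IsIrr.isCharacter hψ) with hQ
    haveI hQn : Q.Normal := chKer_normal _
    -- kernel facts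
    have hkH : ∀ (x : I) (h : H), x * ⟨h, hHI h.2⟩ * x⁻¹ * ⟨h, hHI h.2⟩⁻¹ ∈ Q := by
      intro x h
      rw [hQ, mem_chKer]
      have hm : (x : P) * h * (x : P)⁻¹ * (h : P)⁻¹ ∈ H := H.mul_mem (hH.conj_mem h h.2 x) (H.inv_mem h.2)
      have e1 := h3 ⟨_, hm⟩
      have e2 : (x * ⟨h, hHI h.2⟩ * x⁻¹ * ⟨h, hHI h.2⟩⁻¹ : I) = ⟨(x : P) * h * (x : P)⁻¹ * (h : P)⁻¹, hHI hm⟩ := rfl
      rw [e2, e1]
      have e5 : (⟨(x : P) * h * (x : P)⁻¹ * (h : P)⁻¹, hm⟩ : H) = ⟨(x : P) * h * (x : P)⁻¹, hH.conj_mem h h.2 x⟩ * h⁻¹ := rfl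
      have e6 : φ ⟨(x : P) * h * (x : P)⁻¹, hH.conj_mem h h.2 x⟩ = φ h := by
        have := congrFun ((mem_inertia hH φc x).1 x.2) h
        rw [cj_apply] at this
        exact Units.ext this
      rw [hφc]
      simp only
      rw [e5, map_mul, e6, map_inv, mul_inv_cancel, Units.val_one, mul_one]
    have hkU : ∀ x y : I, (x : P) ∈ U → (y : P) ∈ U → x * y * x⁻¹ * y⁻¹ ∈ Q := by
      intro x y hx hy
      rw [hQ, mem_chKer]
      have hres : IsCharacter I (fun c : I => θ c) := IsChar.res (IsIrr.isCharacter hθ) I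
      have hne' : classInner (fun m : I => θ m) ψ ≠ 0 := by
        rw [← frobenius' I ψ θ (IsIrr.isClass hθ), hind, ci_irr_self hθ]; exact one_ne_zero
      exact ker_const hres hψ hne' (b := x * y * x⁻¹ * y⁻¹) (hUU x hx y hy)
    intro x y
    rw [← mem_chKer (IsIrr.isCharacter hψ), ← hQ]
    have hx1 : (x : P) ∈ H ⊔ Tst hH U φ := by rw [← inertia_eq hH hsup]; exact x.2
    have hy1 : (y : P) ∈ H ⊔ Tst hH U φ := by rw [← inertia_eq hH hsup]; exact y.2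
    haveI := hH
    obtain ⟨a, ha, u, hu, hxe⟩ := (Cfsg.Agent.H2.Card.mem_sup_iff' (Subgroup.le_normalizer_of_normal)).1 hx1
    obtain ⟨b, hb, v, hv, hye⟩ := (Cfsg.Agent.H2.Card.mem_sup_iff' (Subgroup.le_normalizer_of_normal)).1 hy1
    obtain ⟨hu1, hu2⟩ := hu
    obtain ⟨hv1, hv2⟩ := hv
    have ex : x = ⟨a, hHI ha⟩ * ⟨u, hu2⟩ := Subtype.ext hxe.symm
    have ey : y = ⟨b, hHI hb⟩ * ⟨v, hv2⟩ := Subtype.ext hye.symm
    have q1 := hkH ⟨u, hu2⟩ ⟨b, hb⟩
    rw [← QuotientGroup.eq_one_iff] 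
    have c1 : ∀ (z : I) (h : H), (QuotientGroup.mk z : I ⧸ Q) * QuotientGroup.mk ⟨h, hHI h.2⟩ = QuotientGroup.mk ⟨h, hHI h.2⟩ * QuotientGroup.mk z := by
      intro z h
      have := (QuotientGroup.eq_one_iff (N := Q) _).2 (hkH z h)
      rw [QuotientGroup.mk_mul, QuotientGroup.mk_mul, QuotientGroup.mk_mul, QuotientGroup.mk_inv, QuotientGroup.mk_inv,
        mul_inv_eq_one, mul_inv_eq_iff_eq_mul] at this
      exact this
    have c2 : (QuotientGroup.mk (⟨u, hu2⟩ : I) : I ⧸ Q) * QuotientGroup.mk ⟨v, hv2⟩ = QuotientGroup.mk ⟨v, hv2⟩ * QuotientGroup.mk ⟨u, hu2⟩ := by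
      have := (QuotientGroup.eq_one_iff (N := Q) _).2 (hkU ⟨u, hu2⟩ ⟨v, hv2⟩ hu1 hv1)
      rw [QuotientGroup.mk_mul, QuotientGroup.mk_mul, QuotientGroup.mk_mul, QuotientGroup.mk_inv, QuotientGroup.mk_inv,
        mul_inv_eq_one, mul_inv_eq_iff_eq_mul] at this
      exact this
    have c3 : (QuotientGroup.mk x : I ⧸ Q) * QuotientGroup.mk y = QuotientGroup.mk y * QuotientGroup.mk x := by
      rw [ex, ey, QuotientGroup.mk_mul, QuotientGroup.mk_mul]
      have k1 := c1 ⟨u, hu2⟩ ⟨b, hb⟩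
      have k2 := c1 ⟨v, hv2⟩ ⟨a, ha⟩
      have k3 := c1 ⟨b, hHI hb⟩ ⟨a, ha⟩
      simp only at k1 k2 k3
      calc _ = (QuotientGroup.mk (⟨a, hHI ha⟩ : I) : I ⧸ Q) * ((QuotientGroup.mk (⟨u, hu2⟩ : I) : I ⧸ Q) * QuotientGroup.mk ⟨b, hHI hb⟩) * QuotientGroup.mk ⟨v, hv2⟩ := by group
        _ = (QuotientGroup.mk (⟨a, hHI ha⟩ : I) : I ⧸ Q) * QuotientGroup.mk ⟨b, hHI hb⟩ * ((QuotientGroup.mk (⟨u, hu2⟩ : I) : I ⧸ Q) * QuotientGroup.mk ⟨v, hv2⟩) := by rw [k1]; group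
        _ = (QuotientGroup.mk (⟨b, hHI hb⟩ : I) : I ⧸ Q) * (QuotientGroup.mk ⟨a, hHI ha⟩ * QuotientGroup.mk ⟨v, hv2⟩) * (QuotientGroup.mk (⟨u, hu2⟩ : I) : I ⧸ Q) := by rw [c2, ← k3]; group
        _ = _ := by rw [← k2]; group
    rw [QuotientGroup.mk_mul, QuotientGroup.mk_mul, QuotientGroup.mk_mul, QuotientGroup.mk_inv, QuotientGroup.mk_inv, c3]
    group
  refine ⟨ψ, hψ, h4, hind, fun h => ?_⟩
  rw [h3 h, h4, one_mul]

include hsup hθ hne hUU in
theorem deg_eq : θ 1 = ((inertia hH (fun h => (φ h : ℂ))).index : ℂ) := by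
  obtain ⟨ψ, hψ, h1, hind, -⟩ := exists_ind hH hsup hθ hUU hne
  rw [← hind, ind_one, h1, mul_one]

include hsup hθ hne hUU in
theorem van_off {x : P} (hx : x ∉ H ⊔ Tst hH U φ) : θ x = 0 := by
  obtain ⟨ψ, hψ, h1, hind, -⟩ := exists_ind hH hsup hθ hUU hne
  rw [← hind]
  apply ind_of_not_mem (inertia_normal hH hsup hθ hUU hne)
  rw [inertia_eq hH hsup]; exact hx

include hH hθ hne in
theorem ker_iff {N : Subgroup P} (hN : N.Normal) (hNH : N ≤ H) :
    (∀ n ∈ N, θ n = θ 1) ↔ ∀ n (hn : n ∈ N), φ ⟨n, hNH hn⟩ = 1 := by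
  constructor
  · intro h n hn
    exact ker_down hθ hne (hNH hn) (h n hn)
  · intro h n hn
    have h1 := clifford hH hθ (isIrr_of_hom_units φ) hne
    have e1 := congrFun h1 ⟨n, hNH hn⟩
    have e2 := congrFun h1 1
    simp only [Pi.smul_apply, Finset.sum_apply, smul_eq_mul] at e1 e2
    have e3 : ((1 : H) : P) = 1 := rfl
    rw [e3] at e2
    rw [e1, e2]
    congr 1
    refine Finset.sum_congr rfl fun ψ hψ => ?_
    obtain ⟨g, rfl⟩ := (mem_orb hH _ _).1 hψ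
    rw [cj_apply, cj_apply]
    have e4 : φ ⟨g * n * g⁻¹, hH.conj_mem n (hNH hn) g⟩ = 1 := h _ (hN.conj_mem n hn g)
    have e5 : (⟨g * ((1 : H) : P) * g⁻¹, hH.conj_mem _ (1 : H).2 g⟩ : H) = 1 := Subtype.ext (by simp)
    rw [e5, map_one]
    exact congrArg Units.val e4

end Main

end Cfsg.Agent.H10.PrE1
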