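import Mathlib
import Cfsg.Agent.H10_PrE1

set_option autoImplicit false
set_option linter.all false

/-! Peterfalvi §9: the core data, degrees. -/

open scoped commutatorElement

namespace Cfsg.Agent.H10.PrE2

open Cfsg Cfsg.Agent.H3.CharBasic Cfsg.Agent.H3.CharIrr Cfsg.Agent.H3.CharComplete
  Cfsg.Agent.H3.CharMult Cfsg.Agent.H3.CharInd Cfsg.Agent.H3.CharInt Cfsg.Agent.H3.Clifford Cfsg.Agent.H3.CharQuot
  Cfsg.Agent.H10.OOClif Cfsg.Agent.H10.IndSet Cfsg.Agent.H10.PrE1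

/-- the core data of Peterfalvi §9, inside `L = H ⋊ U ⋊ W`; `H/H₀` is a chief factor of order `p ^ q` -/
structure CD {L : Type*} [Group L] (K H H₀ U W : Subgroup L) (p q : ℕ) : Prop where
  hp : p.Prime
  hq : q.Prime
  cardW : Nat.card W = q
  K_normal : K.Normal
  H_normal : H.Normal
  H₀_normal : H₀.Normal
  lt : H₀ < H
  U_le : U ≤ K
  inf : H ⊓ U = ⊥
  sup : H ⊔ U = K
  KW : K ⊔ W = ⊤
  KWi : K ⊓ W = ⊥
  WU : ∀ w ∈ W, ∀ u ∈ U, w * u * w⁻¹ ∈ U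
  fpf : ∀ w ∈ W, w ≠ 1 → ∀ u ∈ U, w * u = u * w → u = 1
  cop : Nat.Coprime (Nat.card H) (Nat.card U)
  comm : ∀ x ∈ H, ∀ y ∈ H, x * y * x⁻¹ * y⁻¹ ∈ H₀
  index : H₀.relIndex H = p ^ q
  UC : ∀ x ∈ U, ∀ y ∈ U, ∀ h ∈ H, ⁅⁅x, y⁆, h⁆ ∈ H₀
  chief : ∀ N : Subgroup L, N.Normal → H₀ ≤ N → N ≤ H → N = H₀ ∨ N = H
  ne : ∃ u ∈ U, ∃ h ∈ H, ⁅u, h⁆ ∉ H₀
  odd : Odd (Nat.card L)

section Cq

variable {L : Type*} [Group L] {H₀ : Subgroup L}

/-- the centralizer of `X` modulo the normal subgroup `H₀` -/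
def cq (hH₀ : H₀.Normal) (X : Subgroup L) : Subgroup L where
  carrier := {g | ∀ x ∈ X, ⁅g, x⁆ ∈ H₀}
  one_mem' := fun x _ => by rw [commutatorElement_one_left]; exact H₀.one_mem
  mul_mem' := fun {a b} ha hb x hx => by
    have e : ⁅a * b, x⁆ = (a * ⁅b, x⁆ * a⁻¹) * ⁅a, x⁆ := by simp only [commutatorElement_def]; group
    rw [e]; exact H₀.mul_mem (hH₀.conj_mem _ (hb x hx) a) (ha x hx)
  inv_mem' := fun {a} ha x hx => by
    have e : ⁅a⁻¹, x⁆ = a⁻¹ * ⁅a, x⁆⁻¹ * a⁻¹⁻¹ := by simp only [commutatorElement_def]; group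
    show ⁅a⁻¹, x⁆ ∈ H₀
    rw [e]; exact hH₀.conj_mem _ (H₀.inv_mem (ha x hx)) a⁻¹

theorem mem_cq {hH₀ : H₀.Normal} {X : Subgroup L} {g : L} : g ∈ cq hH₀ X ↔ ∀ x ∈ X, ⁅g, x⁆ ∈ H₀ := Iff.rfl

end Cq

section Deg

variable {L : Type*} [Group L] [Fintype L] {K H H₀ U W : Subgroup L} {p q : ℕ}

/-- `X` is in the kernel of `θ` -/
def Ker {K : Subgroup L} (θ : K → ℂ) (X : Subgroup L) : Prop := ∀ k : K, (k : L) ∈ X → θ k = θ 1

/-- the degree structure of `θ` -/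
structure DegS {K : Subgroup L} (H U : Subgroup L) (θ : K → ℂ) (φ : ↥H →* ℂˣ) (T : Subgroup L) : Prop where
  T_le : T ≤ U
  mem_T : ∀ t ∈ U, ∀ hn : (∀ h ∈ H, t * h * t⁻¹ ∈ H), t ∈ T ↔ ∀ h : H, φ ⟨t * h * t⁻¹, hn h h.2⟩ = φ h
  deg : θ 1 = (T.relIndex U : ℂ)
  van : ∀ k : K, (k : L) ∉ H ⊔ T → θ k = 0
  ker : ∀ N : Subgroup L, (∀ k ∈ K, ∀ n ∈ N, k * n * k⁻¹ ∈ N) → ∀ hN : N ≤ H, (Ker θ N ↔ ∀ n (hn : n ∈ N), φ ⟨n, hN hn⟩ = 1)
  hU : ∀ x ∈ U, ∀ y ∈ U, ⁅x, y⁆ ∈ T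

theorem exists_degS (hHn : H.Normal) (hU_le : U ≤ K) (hinf : H ⊓ U = ⊥) (hsup : H ⊔ U = K) {θ : K → ℂ} (hθ : IsIrrCharacter K θ)
    (hc : ∀ x ∈ H, ∀ y ∈ H, ∀ hk : x * y * x⁻¹ * y⁻¹ ∈ K, θ ⟨_, hk⟩ = θ 1)
    (hcU : ∀ x ∈ U, ∀ y ∈ U, ∀ hk : x * y * x⁻¹ * y⁻¹ ∈ K, θ ⟨_, hk⟩ = θ 1) :
    ∃ φ T, DegS H U θ φ T := by
  classical
  haveI : Fintype K := Fintype.ofFinite K
  have hHK : H ≤ K := hsup ▸ le_sup_left
  let H' : Subgroup K := H.subgroupOf K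
  let U' : Subgroup K := U.subgroupOf K
  haveI : Fintype H' := Fintype.ofFinite _
  have hH' : H'.Normal := by haveI := hHn; exact inferInstanceAs (H.subgroupOf K).Normal
  have hsup' : H' ⊔ U' = ⊤ := by
    rw [← Subgroup.subgroupOf_sup hHK hU_le, hsup, Subgroup.subgroupOf_self]
  obtain ⟨φ', hne⟩ := exists_lin hH' hθ (fun x hx y hy => hc x hx y hy _)
  have hUU : ∀ x ∈ U', ∀ y ∈ U', θ (x * y * x⁻¹ * y⁻¹) = θ 1 := fun x hx y hy => hcU x hx y hy _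
  let e : H' ≃* H := Subgroup.subgroupOfEquivOfLe hHK
  let φ : ↥H →* ℂˣ := φ'.comp e.symm.toMonoidHom
  let T' : Subgroup K := Tst hH' U' φ'
  have heq : ∀ h (hh : h ∈ H), φ ⟨h, hh⟩ = φ' ⟨⟨h, hHK hh⟩, hh⟩ := fun h hh => rfl
  have hT'U : T' ≤ U' := inf_le_left
  refine ⟨φ, T'.map K.subtype, ?_, ?_, ?_, ?_, ?_, ?_⟩
  · rintro _ ⟨t, ht, rfl⟩
    exact hT'U ht
  · intro t ht hn
    have h1 : t ∈ T'.map K.subtype ↔ (⟨t, hU_le ht⟩ : K) ∈ T' := by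
      constructor
      · rintro ⟨s, hs, rfl⟩; exact hs
      · intro h1; exact ⟨_, h1, rfl⟩
    rw [h1, mem_Tst]
    constructor
    · rintro ⟨-, h2⟩ h
      exact h2 ⟨⟨h, hHK h.2⟩, h.2⟩
    · intro h2
      refine ⟨ht, fun h => ?_⟩
      exact h2 ⟨((h : K) : L), h.2⟩
  · rw [deg_eq hH' hsup' hθ hUU hne, inertia_eq hH' hsup']
    have c1 : Nat.card ↥(H' ⊔ T') = Nat.card H' * Nat.card T' := by
      haveI := hH'
      have h1 := Cfsg.Agent.H2.Card.card_sup_mul_card_inf (H := T') (N := H') Subgroup.le_normalizer_of_normal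
      have h2 : T' ⊓ H' = ⊥ := by
        rw [eq_bot_iff]
        rintro x ⟨hx1, hx2⟩
        have : (x : L) ∈ H ⊓ U := ⟨hx2, hT'U hx1⟩
        rw [hinf, Subgroup.mem_bot] at this
        exact Subgroup.mem_bot.2 (Subtype.ext this)
      rw [h2, Subgroup.card_bot, mul_one, sup_comm, mul_comm] at h1
      exact h1
    have c2 : Nat.card K = Nat.card H' * Nat.card U' := by
      haveI := hH'
      have h1 := Cfsg.Agent.H2.Card.card_sup_mul_card_inf (H := U') (N := H') Subgroup.le_normalizer_of_normal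
      have h2 : U' ⊓ H' = ⊥ := by
        rw [eq_bot_iff]
        rintro x ⟨hx1, hx2⟩
        have : (x : L) ∈ H ⊓ U := ⟨hx2, hx1⟩
        rw [hinf, Subgroup.mem_bot] at this
        exact Subgroup.mem_bot.2 (Subtype.ext this)
      rw [h2, Subgroup.card_bot, mul_one, sup_comm, hsup', mul_comm] at h1
      rw [← h1]; simp
    have c3 := (H' ⊔ T').card_mul_index
    have c4 : Nat.card (T'.map K.subtype) = Nat.card T' := (Nat.card_congr (Subgroup.equivMapOfInjective T' K.subtype K.subtype_injective).toEquiv).symm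
    have c5 : (T'.map K.subtype) ≤ U := by rintro _ ⟨t, ht, rfl⟩; exact hT'U ht
    have c6 := Cfsg.Agent.H2.Card.card_mul_relIndex c5
    have c7 : Nat.card U' = Nat.card U := Cfsg.Agent.H2.Card.card_subgroupOf_of_le hU_le
    rw [c1, c2, c7, ← c6, c4, mul_assoc] at c3
    have p1 : 0 < Nat.card H' := Nat.card_pos
    have p2 : 0 < Nat.card T' := Nat.card_pos
    have c8 := Nat.eq_of_mul_eq_mul_left p2 (Nat.eq_of_mul_eq_mul_left p1 c3)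
    exact_mod_cast c8
  · intro k hk
    apply van_off hH' hsup' hθ hUU hne
    intro hk2
    apply hk
    haveI := hH'
    obtain ⟨a, ha, t, ht, rfl⟩ := (Cfsg.Agent.H2.Card.mem_sup_iff' (Subgroup.le_normalizer_of_normal)).1 hk2
    exact Subgroup.mul_mem_sup ha ⟨t, ht, rfl⟩
  · intro N hNn hNH
    let N' : Subgroup K := N.subgroupOf K
    have hN' : N'.Normal := ⟨fun n hn g => hNn g g.2 n hn⟩
    have h1 := ker_iff hH' hθ hne hN' (fun x hx => hNH hx)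
    constructor
    · intro h2 n hn
      exact (h1.1 (fun m hm => h2 m hm)) ⟨n, hHK (hNH hn)⟩ hn
    · intro h2 k hk
      exact h1.2 (fun m hm => h2 m hm) k hk
  · intro x hx y hy
    exact ⟨_, comm_le_T hH' hθ hUU hne (x := ⟨x, hU_le hx⟩) (y := ⟨y, hU_le hy⟩) hx hy, rfl⟩

end Deg

section CDs

variable {L : Type*} [Group L] [Fintype L] {K H H₀ U W : Subgroup L} {p q : ℕ} (h : CD K H H₀ U W p q)
include h

theorem CD.H_le : H ≤ K := h.sup ▸ le_sup_left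

theorem CD.degS {θ : K → ℂ} (hθ : IsIrrCharacter K θ) (hk : Ker θ (H₀ ⊔ ⁅U, U⁆)) : ∃ φ T, DegS H U θ φ T := by
  refine exists_degS h.H_normal h.U_le h.inf h.sup hθ ?_ ?_
  · intro x hx y hy hm
    exact hk _ ((le_sup_left : H₀ ≤ _) (h.comm x hx y hy))
  · intro x hx y hy hm
    exact hk _ ((le_sup_right : ⁅U, U⁆ ≤ H₀ ⊔ ⁅U, U⁆) (Subgroup.commutator_mem_commutator hx hy))

variable {θ : K → ℂ} {φ : ↥H →* ℂˣ} {T : Subgroup L} (hd : DegS H U θ φ T) (hk : Ker θ (H₀ ⊔ ⁅U, U⁆))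
include hd hk

theorem CD.phi_H₀ {x : L} (hx : x ∈ H₀) : φ ⟨x, h.lt.le hx⟩ = 1 := by
  refine (hd.ker H₀ (fun k _ n hn => h.H₀_normal.conj_mem n hn k) h.lt.le).1 (fun k hk' => hk k ((le_sup_left : H₀ ≤ _) hk')) x hx

theorem CD.phi_comm {t : L} (ht : t ∈ T) {x : L} (hx : x ∈ H) (hc : ⁅t, x⁆ ∈ H) : φ ⟨⁅t, x⁆, hc⟩ = 1 := by
  have h1 := (hd.mem_T t (hd.T_le ht) (fun y hy => h.H_normal.conj_mem y hy t)).1 ht ⟨x, hx⟩
  have e : (⟨⁅t, x⁆, hc⟩ : H) = ⟨t * x * t⁻¹, h.H_normal.conj_mem x hx t⟩ * ⟨x, hx⟩⁻¹ := Subtype.ext rfl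
  rw [e, map_mul, h1, map_inv, mul_inv_cancel]

/-- (a) -/
theorem CD.T_le_cq {X : Subgroup L} (h0 : H₀ ≤ X) (hX : X ≤ H) (hXn : ∀ k ∈ K, ∀ n ∈ X, k * n * k⁻¹ ∈ X)
    (hidx : H₀.relIndex X = p) (hnk : ¬ Ker θ X) : T ≤ cq h.H₀_normal X := by
  intro t ht x hx
  by_contra hc
  have hcX : ⁅t, x⁆ ∈ X := X.mul_mem (hXn t (h.U_le (hd.T_le ht)) x hx) (X.inv_mem hx)
  have hφ := h.phi_comm hd hk ht (hX hx) (hX hcX)
  apply hnk
  rw [hd.ker X hXn hX]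
  -- the kernel of φ in X
  let X' : Subgroup L := (φ.ker.map H.subtype) ⊓ X
  have hX'X : X' ≤ X := inf_le_right
  have h0' : H₀ ≤ X' := fun y hy => ⟨⟨⟨y, h.lt.le hy⟩, MonoidHom.mem_ker.2 (h.phi_H₀ hd hk hy), rfl⟩, h0 hy⟩
  have hlt : H₀ ≠ X' := by
    intro he
    apply hc
    rw [he]
    exact ⟨⟨⟨_, hX hcX⟩, MonoidHom.mem_ker.2 hφ, rfl⟩, hcX⟩
  have h1 := Subgroup.relIndex_mul_relIndex H₀ X' X h0' hX'X
  rw [hidx] at h1
  have h2 : H₀.relIndex X' ∣ p := ⟨_, h1.symm⟩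
  rcases (Nat.dvd_prime h.hp).1 h2 with h3 | h3
  · exfalso
    rw [Subgroup.relIndex_eq_one] at h3
    exact hlt (le_antisymm h0' h3)
  · rw [h3] at h1
    have h4 : X'.relIndex X = 1 := Nat.eq_of_mul_eq_mul_left h.hp.pos (by rw [h1, mul_one])
    rw [Subgroup.relIndex_eq_one] at h4
    intro n hn
    obtain ⟨⟨⟨m, hm⟩, hmk, e⟩, -⟩ := h4 hn
    have e' : m = n := e
    subst e'
    exact MonoidHom.mem_ker.1 hmk

/-- (b) -/
theorem CD.cq_le_T {N : Subgroup L} (hN : N ≤ H) (hNn : ∀ k ∈ K, ∀ n ∈ N, k * n * k⁻¹ ∈ N) (hkN : Ker θ N) {t : L} (ht : t ∈ U)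
    (h1 : ∀ x ∈ H, ⁅t, x⁆ ∈ N) : t ∈ T := by
  rw [hd.mem_T t ht (fun y hy => h.H_normal.conj_mem y hy t)]
  intro x
  have h2 := (hd.ker N hNn hN).1 hkN _ (h1 x x.2)
  have e : (⟨⁅t, (x:L)⁆, hN (h1 x x.2)⟩ : H) = ⟨t * x * t⁻¹, h.H_normal.conj_mem x x.2 t⟩ * x⁻¹ := Subtype.ext rfl
  rw [e, map_mul, map_inv, mul_inv_eq_one] at h2
  exact h2

/-- (b') `C ≤ T` -/
theorem CD.C_le_T : U ⊓ cq h.H₀_normal H ≤ T := by
  rintro t ⟨ht, h1⟩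
  exact h.cq_le_T hd hk h.lt.le (fun k _ n hn => h.H₀_normal.conj_mem n hn k) (fun k hk' => hk k ((le_sup_left : H₀ ≤ _) hk')) ht h1

/-- (c) -/
theorem CD.fpf_T {t : L} (ht : t ∈ T) (hf : ∀ x ∈ H, ⁅t, x⁆ ∈ H₀ → x ∈ H₀) : Ker θ H := by
  classical
  haveI := h.H₀_normal
  haveI := h.H_normal
  have hK : ∀ x ∈ H, ⁅t, x⁆ ∈ H := fun x hx => H.mul_mem (h.H_normal.conj_mem x hx t) (H.inv_mem hx)
  let Q := H ⧸ (H₀.subgroupOf H)
  -- Q is commutative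
  have hcomm : ∀ a b : Q, a * b = b * a := by
    intro a b
    obtain ⟨x, rfl⟩ := QuotientGroup.mk_surjective a
    obtain ⟨y, rfl⟩ := QuotientGroup.mk_surjective b
    have := (QuotientGroup.eq_one_iff (N := H₀.subgroupOf H) (x * y * x⁻¹ * y⁻¹)).2 (h.comm x x.2 y y.2)
    rw [QuotientGroup.mk_mul, QuotientGroup.mk_mul, QuotientGroup.mk_mul, QuotientGroup.mk_inv, QuotientGroup.mk_inv,
      mul_inv_eq_one, mul_inv_eq_iff_eq_mul] at this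
    exact this
  let f : H →* Q := MonoidHom.mk' (fun x => QuotientGroup.mk ⟨⁅t, (x:L)⁆, hK x x.2⟩) (by
    intro x y
    have e : (⟨⁅t, ((x * y : H) : L)⁆, hK _ (x * y).2⟩ : H) = ⟨t * x * t⁻¹, h.H_normal.conj_mem x x.2 t⟩ * ⟨⁅t, (y:L)⁆, hK y y.2⟩ * x⁻¹ := by
      apply Subtype.ext
      simp only [Subgroup.coe_mul, Subgroup.coe_inv, commutatorElement_def]; group
    have e2 : (⟨⁅t, (x:L)⁆, hK x x.2⟩ : H) = ⟨t * x * t⁻¹, h.H_normal.conj_mem x x.2 t⟩ * x⁻¹ := Subtype.ext rfl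
    have key : ∀ a b c : Q, a * b * c = a * c * b := fun a b c => by rw [mul_assoc, hcomm b c, mul_assoc]
    rw [e, e2, QuotientGroup.mk_mul, QuotientGroup.mk_mul, QuotientGroup.mk_mul]
    exact key _ _ _)
  have hker : f.ker = H₀.subgroupOf H := by
    ext x
    rw [MonoidHom.mem_ker]
    show (QuotientGroup.mk (⟨⁅t, (x:L)⁆, hK x x.2⟩ : H) : Q) = 1 ↔ _
    rw [QuotientGroup.eq_one_iff, Subgroup.mem_subgroupOf, Subgroup.mem_subgroupOf]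
    constructor
    · intro h1; exact hf x x.2 h1
    · intro h1
      exact H₀.mul_mem (h.H₀_normal.conj_mem x h1 t) (H₀.inv_mem h1)
  have hsurj : Function.Surjective f := by
    have h1 : Nat.card f.range = Nat.card Q := by
      have h2 := Nat.card_congr (QuotientGroup.quotientKerEquivRange f).toEquiv
      rw [← h2, hker]
    rw [← MonoidHom.range_eq_top]
    exact Subgroup.eq_top_of_card_eq _ h1
  rw [hd.ker H (fun k _ n hn => h.H_normal.conj_mem n hn k) le_rfl]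
  intro n hn
  obtain ⟨x, hx⟩ := hsurj (QuotientGroup.mk ⟨n, hn⟩)
  have hx' : (QuotientGroup.mk (⟨⁅t, (x:L)⁆, hK x x.2⟩ : H) : Q) = QuotientGroup.mk ⟨n, hn⟩ := hx
  rw [QuotientGroup.eq] at hx'
  have h3 := h.phi_H₀ hd hk hx'
  have h4 := h.phi_comm hd hk ht x.2 (hK x x.2)
  have e : (⟨n, hn⟩ : H) = ⟨⁅t, (x:L)⁆, hK x x.2⟩ * ⟨_, h.lt.le hx'⟩ := by
    apply Subtype.ext
    show n = ⁅t, (x:L)⁆ * (⁅t, (x:L)⁆⁻¹ * n)
    group
  rw [e, map_mul, h4, one_mul]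
  exact h3

end CDs

end Cfsg.Agent.H10.PrE2
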