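import Mathlib
import Cfsg.Agent.H10_PrE2

set_option autoImplicit false
set_option linter.all false

/-! Peterfalvi (9.7)(a): decomposition of `H/H₀` when some element of `U \ C` has fixed points. -/

open scoped commutatorElement

namespace Cfsg.Agent.H10.PrE3

open Cfsg Cfsg.Agent.H10.PrE1 Cfsg.Agent.H10.PrE2

/-- conjugate of a subgroup -/
def cjs {L : Type*} [Group L] (w : L) (X : Subgroup L) : Subgroup L := X.map (MulAut.conj w).toMonoidHom

section Basic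

variable {L : Type*} [Group L]

theorem mem_cjs {w x : L} {X : Subgroup L} : x ∈ cjs w X ↔ w⁻¹ * x * w ∈ X := by
  constructor
  · rintro ⟨y, hy, rfl⟩
    show w⁻¹ * (w * y * w⁻¹) * w ∈ X
    have e : w⁻¹ * (w * y * w⁻¹) * w = y := by group
    rw [e]; exact hy
  · intro h
    exact ⟨_, h, by show w * (w⁻¹ * x * w) * w⁻¹ = x; group⟩

theorem conj_mem_cjs {w x : L} {X : Subgroup L} (hx : x ∈ X) : w * x * w⁻¹ ∈ cjs w X := ⟨x, hx, rfl⟩

theorem cjs_cjs (v w : L) (X : Subgroup L) : cjs v (cjs w X) = cjs (v * w) X := by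
  ext x
  rw [mem_cjs, mem_cjs, mem_cjs]
  have e : w⁻¹ * (v⁻¹ * x * v) * w = (v * w)⁻¹ * x * (v * w) := by group
  rw [e]

theorem cjs_one (X : Subgroup L) : cjs 1 X = X := by
  ext x; rw [mem_cjs]; simp

theorem cjs_normal {X : Subgroup L} (hX : X.Normal) (w : L) : cjs w X = X := by
  ext x
  rw [mem_cjs]
  constructor
  · intro h1
    have := hX.conj_mem _ h1 w
    have e : w * (w⁻¹ * x * w) * w⁻¹ = x := by group
    rwa [e] at this
  · intro h1
    have := hX.conj_mem _ h1 w⁻¹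
    rwa [inv_inv] at this

theorem cjs_mono {X Y : Subgroup L} (h : X ≤ Y) (w : L) : cjs w X ≤ cjs w Y := Subgroup.map_mono h

theorem card_cjs (w : L) (X : Subgroup L) : Nat.card (cjs w X) = Nat.card X :=
  (Nat.card_congr (Subgroup.equivMapOfInjective X _ (MulAut.conj w).injective).toEquiv).symm

/-- `X` is normalized by `K` -/
def Inv (K X : Subgroup L) : Prop := ∀ k ∈ K, ∀ n ∈ X, k * n * k⁻¹ ∈ X

theorem Inv.cjs {K X : Subgroup L} (hK : K.Normal) (h : Inv K X) (w : L) : Inv K (cjs w X) := by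
  intro k hk n hn
  rw [mem_cjs] at hn ⊢
  have h1 := h (w⁻¹ * k * w⁻¹⁻¹) (hK.conj_mem k hk w⁻¹) _ hn
  have e : w⁻¹ * k * w⁻¹⁻¹ * (w⁻¹ * n * w) * (w⁻¹ * k * w⁻¹⁻¹)⁻¹ = w⁻¹ * (k * n * k⁻¹) * w := by group
  rwa [e] at h1

theorem Inv.inf {K X Y : Subgroup L} (h : Inv K X) (h' : Inv K Y) : Inv K (X ⊓ Y) :=
  fun k hk n hn => ⟨h k hk n hn.1, h' k hk n hn.2⟩

theorem Inv.le_normalizer {K X : Subgroup L} (h : Inv K X) : K ≤ Subgroup.normalizer (X : Set L) := by
  intro k hk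
  rw [Subgroup.mem_normalizer_iff]
  intro n
  refine ⟨fun hn => h k hk n hn, fun hn => ?_⟩
  have := h k⁻¹ (K.inv_mem hk) _ hn
  have e : k⁻¹ * (k * n * k⁻¹) * k⁻¹⁻¹ = n := by group
  rwa [e] at this

theorem Inv.sup {K X Y : Subgroup L} (h : Inv K X) (h' : Inv K Y) : Inv K (X ⊔ Y) := by
  intro k hk n hn
  have h1 : X ⊔ Y ≤ (X ⊔ Y).comap (MulAut.conj k).toMonoidHom := by
    refine sup_le (fun x hx => ?_) (fun x hx => ?_)
    · exact (le_sup_left : X ≤ X ⊔ Y) (h k hk x hx)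
    · exact (le_sup_right : Y ≤ X ⊔ Y) (h' k hk x hx)
  exact h1 hn

theorem Inv.iSup {ι : Type*} {K : Subgroup L} {X : ι → Subgroup L} (h : ∀ i, Inv K (X i)) : Inv K (⨆ i, X i) := by
  intro k hk n hn
  have h1 : (⨆ i, X i) ≤ (⨆ i, X i).comap (MulAut.conj k).toMonoidHom :=
    iSup_le fun i x hx => (le_iSup X i) (h i k hk x hx)
  exact h1 hn

theorem Inv.biSup {ι : Type*} {K : Subgroup L} {X : ι → Subgroup L} (h : ∀ i, Inv K (X i)) (s : Finset ι) :
    Inv K (⨆ i ∈ s, X i) := by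
  intro k hk n hn
  have h1 : (⨆ i ∈ s, X i) ≤ (⨆ i ∈ s, X i).comap (MulAut.conj k).toMonoidHom :=
    iSup_le fun i => iSup_le fun hi x hx => (le_biSup X hi) (h i k hk x hx)
  exact h1 hn

theorem Inv.of_normal {K X : Subgroup L} (h : X.Normal) : Inv K X := fun k _ n hn => h.conj_mem n hn k

end Basic

section Count

variable {L : Type*} [Group L] [Finite L] {K H₀ : Subgroup L}

/-- growth of the join of minimal invariant subgroups -/
theorem count {ι : Type*} {X : ι → Subgroup L} (h0 : H₀.Normal) (h0K : H₀ ≤ K)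
    (hX0 : ∀ i, H₀ ≤ X i) (hXK : ∀ i, X i ≤ K) (hX : ∀ i, Inv K (X i)) {r : ℕ} (hr : ∀ i, H₀.relIndex (X i) = r)
    (hmin : ∀ i, ∀ Z : Subgroup L, Inv K Z → H₀ ≤ Z → Z ≤ X i → Z = H₀ ∨ Z = X i) [DecidableEq ι] (s : Finset ι) :
    ∃ m ≤ s.card, H₀.relIndex (H₀ ⊔ ⨆ i ∈ s, X i) = r ^ m := by
  induction s using Finset.induction with
  | empty => exact ⟨0, le_rfl, by simp⟩
  | insert a s ha ih =>
    obtain ⟨m, hm, hidx⟩ := ih
    set Y := H₀ ⊔ ⨆ i ∈ s, X i with hY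
    have hYinv : Inv K Y := (Inv.of_normal h0).sup (Inv.biSup hX s)
    have e : H₀ ⊔ ⨆ i ∈ insert a s, X i = X a ⊔ Y := by
      rw [Finset.iSup_insert, hY, ← sup_assoc, ← sup_assoc, sup_comm H₀ (X a)]
    have hYK : H₀ ≤ Y := le_sup_left
    rw [e, Finset.card_insert_of_notMem ha]
    rcases hmin a (X a ⊓ Y) ((hX a).inf hYinv) (le_inf (hX0 a) hYK) inf_le_left with h1 | h1
    · refine ⟨m + 1, Nat.succ_le_succ hm, ?_⟩
      have h2 : Y.relIndex (X a ⊔ Y) = r := by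
        rw [Cfsg.Agent.H2.Card.relIndex_sup_of_le_normalizer ((hXK a).trans hYinv.le_normalizer), ← Subgroup.inf_relIndex_left, h1, hr a]
      rw [← Subgroup.relIndex_mul_relIndex H₀ Y (X a ⊔ Y) hYK le_sup_right, hidx, h2, pow_succ]
    · refine ⟨m, hm.trans (Nat.le_succ _), ?_⟩
      have h2 : X a ≤ Y := inf_eq_left.1 h1
      rw [sup_eq_right.2 h2, hidx]

end Count

/-- the decomposition of `H/H₀` -/
structure Dec {L : Type*} [Group L] (K H H₀ W : Subgroup L) (p : ℕ) (X N : ↥W → Subgroup L) : Prop where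
  X_lb : ∀ w, H₀ ≤ X w
  X_le : ∀ w, X w ≤ H
  X_inv : ∀ w, Inv K (X w)
  X_idx : ∀ w, H₀.relIndex (X w) = p
  N_lb : ∀ w, H₀ ≤ N w
  N_le : ∀ w, N w ≤ H
  N_inv : ∀ w, Inv K (N w)
  N_idx : ∀ w, (N w).relIndex H = p
  X_N : ∀ w w', w ≠ w' → X w ≤ N w'
  sup : ∀ w, X w ⊔ N w = H
  not_le : ∀ w, ¬ X w ≤ N w
  span : ∀ M : Subgroup L, (∀ w, X w ≤ M) → H ≤ M
  Nspan : ∀ w, ∀ M : Subgroup L, H₀ ≤ M → (∀ w', w' ≠ w → X w' ≤ M) → N w ≤ M
  conjX : ∀ v w, X (v * w) = cjs (v : L) (X w)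
  conjN : ∀ v w, N (v * w) = cjs (v : L) (N w)

section Dec

variable {L : Type*} [Group L] [Fintype L] {K H H₀ U W : Subgroup L} {p q : ℕ} (h : CD K H H₀ U W p q)
include h

set_option maxHeartbeats 1600000 in
theorem exists_dec {t : L} (ht : t ∈ U) (htc : t ∉ cq h.H₀_normal H) {x₀ : L} (hx₀ : x₀ ∈ H) (hx₀' : x₀ ∉ H₀) (hc : ⁅t, x₀⁆ ∈ H₀) :
    ∃ X N : ↥W → Subgroup L, Dec K H H₀ W p X N := by
  classical
  have h0n := h.H₀_normal
  have hHK := h.H_le
  -- the centralizer of t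
  let B : Subgroup L :=
    { carrier := {x | x ∈ H ∧ ⁅t, x⁆ ∈ H₀}
      one_mem' := ⟨H.one_mem, by rw [commutatorElement_one_right]; exact H₀.one_mem⟩
      mul_mem' := fun {a b} ha hb => ⟨H.mul_mem ha.1 hb.1, by
        have e : ⁅t, a * b⁆ = ⁅t, a⁆ * (a * ⁅t, b⁆ * a⁻¹) := by simp only [commutatorElement_def]; group
        rw [e]; exact H₀.mul_mem ha.2 (h0n.conj_mem _ hb.2 a)⟩
      inv_mem' := fun {a} ha => ⟨H.inv_mem ha.1, by
        have e : ⁅t, a⁻¹⁆ = a⁻¹ * ⁅t, a⁆⁻¹ * a⁻¹⁻¹ := by simp only [commutatorElement_def]; group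
        rw [e]; exact h0n.conj_mem _ (H₀.inv_mem ha.2) _⟩ }
  have hBH : B ≤ H := fun x hx => hx.1
  have h0B : H₀ ≤ B := fun x hx => ⟨h.lt.le hx, by
    have e : ⁅t, x⁆ = (t * x * t⁻¹) * x⁻¹ := rfl
    rw [e]; exact H₀.mul_mem (h0n.conj_mem x hx t) (H₀.inv_mem hx)⟩
  have hBinv : Inv K B := by
    intro k hk n hn
    have hk' : k ∈ H ⊔ U := by rw [h.sup]; exact hk
    haveI := h.H_normal
    obtain ⟨a, ha, u, hu, rfl⟩ := (Cfsg.Agent.H2.Card.mem_sup_iff' (Subgroup.le_normalizer_of_normal)).1 hk'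
    have h1 : u * n * u⁻¹ ∈ B := by
      refine ⟨h.H_normal.conj_mem n hn.1 u, ?_⟩
      have e : ⁅t, u * n * u⁻¹⁆ = u * (t * ⁅⁅t⁻¹, u⁻¹⁆, n⁆ * t⁻¹ * ⁅t, n⁆) * u⁻¹ := by
        simp only [commutatorElement_def]; group
      rw [e]
      exact h0n.conj_mem _ (H₀.mul_mem (h0n.conj_mem _ (h.UC _ (U.inv_mem ht) _ (U.inv_mem hu) n hn.1) t) hn.2) u
    have e2 : a * u * n * (a * u)⁻¹ = (a * (u * n * u⁻¹) * a⁻¹ * (u * n * u⁻¹)⁻¹) * (u * n * u⁻¹) := by group
    rw [e2]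
    exact B.mul_mem (h0B (h.comm a ha _ h1.1)) h1
  have hBne : B ≠ H := by
    intro he
    apply htc
    rw [mem_cq]
    intro x hx
    rw [← he] at hx
    exact hx.2
  -- a minimal invariant subgroup
  let 𝒮 : Set (Subgroup L) := {Z | Inv K Z ∧ H₀ < Z ∧ Z ≤ B}
  have hne : 𝒮.Nonempty := ⟨B, hBinv, lt_of_le_of_ne h0B (fun he => hx₀' (he ▸ ⟨hx₀, hc⟩)), le_rfl⟩
  obtain ⟨X, hXmin⟩ := (Set.toFinite 𝒮).exists_minimal hne
  obtain ⟨hXinv, hX0, hXB⟩ := hXmin.1
  have hmin : ∀ Z : Subgroup L, Inv K Z → H₀ ≤ Z → Z ≤ X → Z = H₀ ∨ Z = X := by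
    intro Z hZ h1 h2
    by_cases he : H₀ = Z
    · exact Or.inl he.symm
    · right
      exact le_antisymm h2 (hXmin.2 ⟨hZ, lt_of_le_of_ne h1 he, h2.trans hXB⟩ h2)
  let XX : ↥W → Subgroup L := fun w => cjs (w : L) X
  have hXX0 : ∀ w, H₀ ≤ XX w := fun w => by
    have := cjs_mono hX0.le (w : L)
    rwa [cjs_normal h0n] at this
  have hXXH : ∀ w, XX w ≤ H := fun w => by
    have := cjs_mono (hXB.trans hBH) (w : L)
    rwa [cjs_normal h.H_normal] at this
  have hXXinv : ∀ w, Inv K (XX w) := fun w => hXinv.cjs h.K_normal w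
  have hrel : ∀ w, H₀.relIndex (XX w) = H₀.relIndex X := by
    intro w
    have h1 := Cfsg.Agent.H2.Card.card_mul_relIndex (hXX0 w)
    have h2 := Cfsg.Agent.H2.Card.card_mul_relIndex hX0.le
    have h3 : Nat.card (XX w) = Nat.card X := card_cjs _ _
    rw [h3, ← h2] at h1
    exact Nat.eq_of_mul_eq_mul_left Nat.card_pos h1
  have hXXmin : ∀ w, ∀ Z : Subgroup L, Inv K Z → H₀ ≤ Z → Z ≤ XX w → Z = H₀ ∨ Z = XX w := by
    intro w Z hZ h1 h2
    have h3 := cjs_mono h1 (w : L)⁻¹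
    have h4 := cjs_mono h2 (w : L)⁻¹
    rw [cjs_normal h0n] at h3
    rw [cjs_cjs, inv_mul_cancel, cjs_one] at h4
    rcases hmin _ (hZ.cjs h.K_normal _) h3 h4 with h5 | h5
    · left
      have := congrArg (cjs (w : L)) h5
      rwa [cjs_cjs, mul_inv_cancel, cjs_one, cjs_normal h0n] at this
    · right
      have := congrArg (cjs (w : L)) h5
      rwa [cjs_cjs, mul_inv_cancel, cjs_one] at this
  have conjXX : ∀ v w, XX (v * w) = cjs (v : L) (XX w) := fun v w => (cjs_cjs _ _ _).symm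
  -- the join is H
  have hsup : (⨆ w, XX w) = H := by
    have hn : (⨆ w, XX w).Normal := by
      refine ⟨fun n hn g => ?_⟩
      have hle : ∀ v ∈ W, (⨆ w, XX w) ≤ (⨆ w, XX w).comap (MulAut.conj v).toMonoidHom := by
        intro v hv
        refine iSup_le fun w x hx => ?_
        have h1 : v * x * v⁻¹ ∈ XX (⟨v, hv⟩ * w) := by rw [conjXX]; exact conj_mem_cjs hx
        exact (le_iSup XX _) h1
      have hg : g ∈ K ⊔ W := by rw [h.KW]; trivial
      haveI := h.K_normal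
      obtain ⟨k, hk, v, hv, rfl⟩ := (Cfsg.Agent.H2.Card.mem_sup_iff' (Subgroup.le_normalizer_of_normal)).1 hg
      have h1 : v * n * v⁻¹ ∈ ⨆ w, XX w := hle v hv hn
      have h2 := (Inv.iSup (X := XX) hXXinv) k hk _ h1
      have e : k * v * n * (k * v)⁻¹ = k * (v * n * v⁻¹) * k⁻¹ := by group
      rw [e]; exact h2
    have hX1 : X ≤ ⨆ w, XX w := by
      have := le_iSup XX 1
      have e : XX 1 = X := cjs_one X
      rwa [e] at this
    rcases h.chief _ hn (hX0.le.trans hX1) (iSup_le hXXH) with h1 | h1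
    · exfalso
      rw [h1] at hX1
      exact (lt_of_lt_of_le hX0 hX1).ne rfl
    · exact h1
  set r := H₀.relIndex X with hr
  haveI : Fintype W := Fintype.ofFinite _
  have hcnt := fun s => count (K := K) (X := XX) h0n (h.lt.le.trans hHK) hXX0 (fun w => (hXXH w).trans hHK) hXXinv hrel hXXmin s
  have hcardW : (Finset.univ : Finset W).card = q := by
    rw [Finset.card_univ, ← Nat.card_eq_fintype_card, h.cardW]
  obtain ⟨m, hm, hidx⟩ := hcnt Finset.univ
  have hfull : H₀ ⊔ ⨆ i ∈ (Finset.univ : Finset W), XX i = H := by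
    have : (⨆ i ∈ (Finset.univ : Finset W), XX i) = ⨆ i, XX i := by simp
    rw [this, hsup]; exact sup_eq_right.2 h.lt.le
  rw [hfull, h.index] at hidx
  rw [hcardW] at hm
  -- r is a power of p
  have hrdvd : r ∣ p ^ q := by
    rw [← h.index]
    exact ⟨_, (Subgroup.relIndex_mul_relIndex H₀ X H hX0.le (hXB.trans hBH)).symm⟩
  obtain ⟨k, hk, hrk⟩ := (Nat.dvd_prime_pow h.hp).1 hrdvd
  have hp1 := h.hp.one_lt
  have hk0 : k ≠ 0 := by
    rintro rfl
    rw [pow_zero] at hrk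
    rw [hrk] at hr
    exact hX0.not_ge (Subgroup.relIndex_eq_one.1 hr.symm)
  have hkm : q = k * m := by
    rw [hrk, ← pow_mul] at hidx
    exact Nat.pow_right_injective hp1 hidx
  have hkq : k ≠ q := by
    intro he
    rw [he] at hrk
    have h1 := Subgroup.relIndex_mul_relIndex H₀ X H hX0.le (hXB.trans hBH)
    rw [h.index, ← hr, hrk] at h1
    have h2 : X.relIndex H = 1 := Nat.eq_of_mul_eq_mul_left (pow_pos h.hp.pos q) (by rw [h1, mul_one])
    rw [Subgroup.relIndex_eq_one] at h2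
    exact hBne (le_antisymm hBH (h2.trans hXB))
  have hk1 : k = 1 := by
    rcases (Nat.dvd_prime h.hq).1 (⟨m, hkm⟩ : k ∣ q) with h1 | h1
    · exact h1
    · exact absurd h1 hkq
  rw [hk1, pow_one] at hrk
  rw [hk1, one_mul] at hkm
  let NN : ↥W → Subgroup L := fun w => H₀ ⊔ ⨆ i ∈ (Finset.univ.erase w : Finset W), XX i
  have hNinv : ∀ w, Inv K (NN w) := fun w => (Inv.of_normal h0n).sup (Inv.biSup hXXinv _)
  have hNle : ∀ w, NN w ≤ H := fun w => sup_le h.lt.le (iSup_le fun i => iSup_le fun _ => hXXH i)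
  have hXN : ∀ w w', w ≠ w' → XX w ≤ NN w' := by
    intro w w' hne
    refine le_trans ?_ (le_sup_right : _ ≤ NN w')
    exact le_iSup_of_le w (le_iSup_of_le (Finset.mem_erase.2 ⟨hne, Finset.mem_univ _⟩) le_rfl)
  have hsupN : ∀ w, XX w ⊔ NN w = H := by
    intro w
    apply le_antisymm (sup_le (hXXH w) (hNle w))
    rw [← hsup]
    refine iSup_le fun i => ?_
    by_cases hi : i = w
    · rw [hi]; exact le_sup_left
    · exact (hXN i w hi).trans le_sup_right
  have hNidx : ∀ w, (NN w).relIndex H = p ∧ ¬ XX w ≤ NN w := by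
    intro w
    have hnl : ¬ XX w ≤ NN w := by
      intro hle
      have h1 : NN w = H := by
        rw [← hsupN w]; exact (sup_eq_right.2 hle).symm
      obtain ⟨m', hm', hidx'⟩ := hcnt (Finset.univ.erase w)
      have h2 : H₀.relIndex H = r ^ m' := by rw [← h1]; exact hidx'
      rw [h.index, hrk] at h2
      have h3 : q = m' := Nat.pow_right_injective hp1 h2
      rw [Finset.card_erase_of_mem (Finset.mem_univ _), hcardW] at hm'
      have := h.hq.pos
      omega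
    refine ⟨?_, hnl⟩
    rcases hXXmin w (XX w ⊓ NN w) ((hXXinv w).inf (hNinv w)) (le_inf (hXX0 w) le_sup_left) inf_le_left with h1 | h1
    · have h2 := Cfsg.Agent.H2.Card.relIndex_sup_of_le_normalizer (((hXXH w).trans hHK).trans (hNinv w).le_normalizer)
      rw [hsupN w] at h2
      rw [h2, ← Subgroup.inf_relIndex_left, h1, hrel w, hrk]
    · exact absurd (inf_eq_left.1 h1) hnl
  refine ⟨XX, NN, ⟨hXX0, hXXH, hXXinv, fun w => by rw [hrel w, hrk], fun w => le_sup_left, hNle, hNinv, fun w => (hNidx w).1, hXN,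
    hsupN, fun w => (hNidx w).2, ?_, ?_, conjXX, ?_⟩⟩
  · intro M hM
    rw [← hsup]; exact iSup_le hM
  · intro w M h1 h2
    exact sup_le h1 (iSup_le fun i => iSup_le fun hi => h2 i (Finset.mem_erase.1 hi).1)
  · intro v w
    have key : ∀ v w : ↥W, cjs (v : L) (NN w) ≤ NN (v * w) := by
      intro v w
      have h1 : NN w ≤ cjs ((v : L)⁻¹) (NN (v * w)) := by
        refine sup_le ?_ (iSup_le fun i => iSup_le fun hi => ?_)
        · have := cjs_mono (le_sup_left : H₀ ≤ NN (v * w)) (v : L)⁻¹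
          rwa [cjs_normal h0n] at this
        · have hne : i ≠ w := (Finset.mem_erase.1 hi).1
          have h2 : XX (v * i) ≤ NN (v * w) := hXN _ _ fun he => hne (mul_left_cancel he)
          have h3 := cjs_mono h2 (v : L)⁻¹
          rw [conjXX, cjs_cjs, inv_mul_cancel, cjs_one] at h3
          exact h3
      have h2 := cjs_mono h1 (v : L)
      rwa [cjs_cjs, mul_inv_cancel, cjs_one] at h2
    apply le_antisymm _ (key v w)
    have h3 := key v⁻¹ (v * w)
    rw [inv_mul_cancel_left] at h3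
    have h4 := cjs_mono h3 (v : L)
    have e : ((v⁻¹ : W) : L) = (v : L)⁻¹ := rfl
    rw [e, cjs_cjs, mul_inv_cancel, cjs_one] at h4
    exact h4

end Dec

end Cfsg.Agent.H10.PrE3
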