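import Mathlib
import Cfsg.Agent.H10_PrE3

set_option autoImplicit false
set_option linter.all false

/-! Peterfalvi §9: numerical data. -/

open scoped commutatorElement

namespace Cfsg.Agent.H10.PrE4

open Cfsg Cfsg.Agent.H3.CharBasic Cfsg.Agent.H3.CharIrr Cfsg.Agent.H3.CharComplete
  Cfsg.Agent.H3.CharMult Cfsg.Agent.H3.CharInd Cfsg.Agent.H3.CharInt Cfsg.Agent.H3.Clifford Cfsg.Agent.H3.CharQuot
  Cfsg.Agent.H10.OOClif Cfsg.Agent.H10.IndSet Cfsg.Agent.H10.IndSet2 Cfsg.Agent.H10.PrE1 Cfsg.Agent.H10.PrE2 Cfsg.Agent.H10.PrE3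

section Grp

variable {L : Type*} [Group L] [Finite L] {K H H₀ U W : Subgroup L} {p q : ℕ}

/-- the centralizer in `U` of a section of order `p` has index dividing `p - 1` -/
theorem tw_dvd (h0 : H₀.Normal) {X : Subgroup L} (hXK : X ≤ K) (h0X : H₀ ≤ X) (hX : Inv K X) (hUK : U ≤ K) (hp : p.Prime)
    (hidx : H₀.relIndex X = p) : (U ⊓ cq h0 X).relIndex U ∣ p - 1 := by
  classical
  haveI := h0
  let H₀' : Subgroup K := H₀.subgroupOf K
  let π := QuotientGroup.mk' H₀'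
  let X' : Subgroup K := X.subgroupOf K
  haveI hX'n : X'.Normal := ⟨fun n hn g => hX g g.2 n hn⟩
  let Y : Subgroup (K ⧸ H₀') := X'.map π
  haveI : Y.Normal := hX'n.map π (QuotientGroup.mk'_surjective _)
  have hcard : Nat.card Y = p := by
    have h1 := Subgroup.relIndex_ker (K := X') π
    rw [QuotientGroup.ker_mk'] at h1
    rw [show Nat.card Y = Nat.card (X'.map π) from rfl, ← h1, ← hidx]
    exact Subgroup.relIndex_subgroupOf hXK
  haveI : Fact p.Prime := ⟨hp⟩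
  haveI : IsCyclic Y := isCyclic_of_prime_card hcard
  let f : U →* MulAut Y := (MulAut.conjNormal (H := Y)).comp (π.comp (Subgroup.inclusion hUK))
  have hker : f.ker = (U ⊓ cq h0 X).subgroupOf U := by
    ext u
    rw [MonoidHom.mem_ker, Subgroup.mem_subgroupOf]
    constructor
    · intro h1
      refine ⟨u.2, fun x hx => ?_⟩
      have h2 : (π ⟨x, hXK hx⟩) ∈ Y := ⟨_, hx, rfl⟩
      have h3 := DFunLike.congr_fun h1 ⟨_, h2⟩
      have h4 := congrArg Subtype.val h3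
      change ((MulAut.conjNormal (π (Subgroup.inclusion hUK u))) ⟨_, h2⟩ : K ⧸ H₀') = _ at h4
      rw [MulAut.conjNormal_apply] at h4
      simp only [MulAut.one_apply] at h4
      rw [← map_inv, ← map_mul, ← map_mul] at h4
      have h5 : π ((Subgroup.inclusion hUK) u * ⟨x, hXK hx⟩ * ((Subgroup.inclusion hUK) u)⁻¹ * ⟨x, hXK hx⟩⁻¹) = 1 := by
        rw [map_mul, map_inv π ⟨x, hXK hx⟩, ← h4, mul_inv_cancel]
      exact (QuotientGroup.eq_one_iff (N := H₀') _).1 h5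
    · rintro ⟨-, h2⟩
      apply MulEquiv.ext
      rintro ⟨y, x, hx, rfl⟩
      apply Subtype.ext
      show ((MulAut.conjNormal (π (Subgroup.inclusion hUK u))) ⟨π x, _⟩ : K ⧸ H₀') = π x
      rw [MulAut.conjNormal_apply, ← map_inv, ← map_mul, ← map_mul, ← mul_inv_eq_one, ← map_inv π x, ← map_mul π _ x⁻¹]
      exact (QuotientGroup.eq_one_iff (N := H₀') _).2 (h2 x hx)
  have h1 : (U ⊓ cq h0 X).relIndex U = Nat.card f.range := by
    rw [← Subgroup.index_ker f, hker]; rfl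
  rw [h1]
  have h2 := Subgroup.card_subgroup_dvd_card f.range
  rw [IsCyclic.card_mulAut, hcard, Nat.totient_prime hp] at h2
  exact h2

end Grp

section T

variable {L : Type*} [Group L] [Fintype L] {K H H₀ U W : Subgroup L} {p q : ℕ} (h : CD K H H₀ U W p q)
include h

theorem _root_.Cfsg.Agent.H10.PrE2.CD.p_odd : Odd p := by
  have h1 : p ∣ Nat.card L := by
    have h2 : p ∣ H₀.relIndex H := by rw [h.index]; exact dvd_pow_self p h.hq.pos.ne'
    exact h2.trans ((Subgroup.relIndex_dvd_card H₀ H).trans (Subgroup.card_subgroup_dvd_card H))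
  rcases Nat.even_or_odd p with h3 | h3
  · exfalso
    have := h3.two_dvd.trans h1
    exact (Nat.not_even_iff_odd.2 h.odd) (even_iff_two_dvd.2 this)
  · exact h3

theorem _root_.Cfsg.Agent.H10.PrE2.CD.q_odd : Odd q := by
  have h1 : q ∣ Nat.card L := by rw [← h.cardW]; exact Subgroup.card_subgroup_dvd_card W
  rcases Nat.even_or_odd q with h3 | h3
  · exfalso
    have := h3.two_dvd.trans h1
    exact (Nat.not_even_iff_odd.2 h.odd) (even_iff_two_dvd.2 this)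
  · exact h3

theorem _root_.Cfsg.Agent.H10.PrE2.CD.p3 : 3 ≤ p := by
  have := h.hp.two_le; have := h.p_odd; rcases this with ⟨k, hk⟩; omega

theorem _root_.Cfsg.Agent.H10.PrE2.CD.q3 : 3 ≤ q := by
  have := h.hq.two_le; have := h.q_odd; rcases this with ⟨k, hk⟩; omega

omit h in
theorem odd_relIndex {A B : Subgroup L} (ho : Odd (Nat.card L)) : Odd (A.relIndex B) :=
  Odd.of_dvd_nat ho ((Subgroup.relIndex_dvd_card A B).trans (Subgroup.card_subgroup_dvd_card B))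

/-- the subgroup `C` -/
def CC (h0 : H₀.Normal) (U H : Subgroup L) : Subgroup L := U ⊓ cq h0 H

theorem _root_.Cfsg.Agent.H10.PrE2.CD.U'_le : ⁅U, U⁆ ≤ CC h.H₀_normal U H := by
  rw [Subgroup.commutator_le]
  intro x hx y hy
  exact ⟨U.mul_mem (U.mul_mem (U.mul_mem hx hy) (U.inv_mem hx)) (U.inv_mem hy), fun z hz => h.UC x hx y hy z hz⟩

variable {X N : ↥W → Subgroup L} (D : Dec K H H₀ W p X N)

/-- the centralizer of `X w / H₀` -/
def Tw (h0 : H₀.Normal) (U : Subgroup L) (X : ↥W → Subgroup L) (w : ↥W) : Subgroup L := U ⊓ cq h0 (X w)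

include D

theorem _root_.Cfsg.Agent.H10.PrE2.CD.tw_conj (v w : ↥W) : Tw h.H₀_normal U X (v * w) = cjs (v : L) (Tw h.H₀_normal U X w) := by
  have key : ∀ v w : ↥W, cjs (v : L) (Tw h.H₀_normal U X w) ≤ Tw h.H₀_normal U X (v * w) := by
    rintro v w _ ⟨t, ⟨ht1, ht2⟩, rfl⟩
    refine ⟨h.WU v v.2 t ht1, ?_⟩
    intro x hx
    rw [D.conjX] at hx
    obtain ⟨y, hy, rfl⟩ := hx
    have e : ⁅(MulAut.conj (v : L)).toMonoidHom t, (MulAut.conj (v : L)).toMonoidHom y⁆ = v * ⁅t, y⁆ * (v : L)⁻¹ := by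
      rw [← map_commutatorElement]; rfl
    rw [e]
    exact h.H₀_normal.conj_mem _ (ht2 y hy) v
  apply le_antisymm _ (key v w)
  have h3 := key v⁻¹ (v * w)
  rw [inv_mul_cancel_left] at h3
  have h4 := cjs_mono h3 (v : L)
  have e : ((v⁻¹ : W) : L) = (v : L)⁻¹ := rfl
  rw [e, cjs_cjs, mul_inv_cancel, cjs_one] at h4
  exact h4

theorem _root_.Cfsg.Agent.H10.PrE2.CD.tw_rel (w : ↥W) : (Tw h.H₀_normal U X w).relIndex U = (Tw h.H₀_normal U X 1).relIndex U := by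
  have h1 := h.tw_conj D w 1
  rw [mul_one] at h1
  have h2 := Cfsg.Agent.H2.Card.card_mul_relIndex (show Tw h.H₀_normal U X w ≤ U from inf_le_left)
  have h3 := Cfsg.Agent.H2.Card.card_mul_relIndex (show Tw h.H₀_normal U X 1 ≤ U from inf_le_left)
  rw [h1, card_cjs, ← h3] at h2
  rw [h1]
  exact Nat.eq_of_mul_eq_mul_left Nat.card_pos h2

theorem _root_.Cfsg.Agent.H10.PrE2.CD.a_dvd (w : ↥W) : (Tw h.H₀_normal U X w).relIndex U ∣ p - 1 :=
  tw_dvd h.H₀_normal ((D.X_le w).trans h.H_le) (D.X_lb w) (D.X_inv w) h.U_le h.hp (D.X_idx w)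

theorem _root_.Cfsg.Agent.H10.PrE2.CD.a_ne : (Tw h.H₀_normal U X 1).relIndex U ≠ 1 := by
  intro h1
  have h2 : ∀ w, U ≤ Tw h.H₀_normal U X w := by
    intro w
    rw [← Subgroup.relIndex_eq_one, h.tw_rel D w, h1]
  obtain ⟨u, hu, x, hx, hc⟩ := h.ne
  apply hc
  let B : Subgroup L :=
    { carrier := {x | ⁅u, x⁆ ∈ H₀}
      one_mem' := by show ⁅u, 1⁆ ∈ H₀; rw [commutatorElement_one_right]; exact H₀.one_mem
      mul_mem' := fun {a b} ha hb => by
        have e : ⁅u, a * b⁆ = ⁅u, a⁆ * (a * ⁅u, b⁆ * a⁻¹) := by simp only [commutatorElement_def]; group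
        show ⁅u, a * b⁆ ∈ H₀
        rw [e]; exact H₀.mul_mem ha (h.H₀_normal.conj_mem _ hb a)
      inv_mem' := fun {a} ha => by
        have e : ⁅u, a⁻¹⁆ = a⁻¹ * ⁅u, a⁆⁻¹ * a⁻¹⁻¹ := by simp only [commutatorElement_def]; group
        show ⁅u, a⁻¹⁆ ∈ H₀
        rw [e]; exact h.H₀_normal.conj_mem _ (H₀.inv_mem ha) _ }
  have h3 : H ≤ B := D.span B (fun w y hy => (h2 w hu).2 y hy)
  exact h3 hx

theorem _root_.Cfsg.Agent.H10.PrE2.CD.two_a : 2 * (Tw h.H₀_normal U X 1).relIndex U ≤ p - 1 ∧ 3 ≤ (Tw h.H₀_normal U X 1).relIndex U := by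
  have h1 := h.a_dvd D 1
  have h2 := h.a_ne D
  have h3 : Odd ((Tw h.H₀_normal U X 1).relIndex U) := odd_relIndex h.odd
  have h4 := h.p3
  have h5 := h.p_odd
  obtain ⟨m, hm⟩ := h1
  set a := (Tw h.H₀_normal U X 1).relIndex U
  have hm2 : Even m := by
    have : Even (p - 1) := by obtain ⟨k, hk⟩ := h5; exact ⟨k, by omega⟩
    rw [hm, Nat.even_mul] at this
    rcases this with h6 | h6
    · exact absurd h6 (Nat.not_even_iff_odd.2 h3)
    · exact h6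
  obtain ⟨k, hk⟩ := hm2
  have hk0 : k ≠ 0 := by rintro rfl; rw [hk] at hm; omega
  constructor
  · rw [hm, hk]; nlinarith [Nat.pos_of_ne_zero hk0]
  · obtain ⟨j, hj⟩ := h3
    omega

/-- (D1) -/
theorem _root_.Cfsg.Agent.H10.PrE2.CD.T_le_some {θ : K → ℂ} {φ : ↥H →* ℂˣ} {T : Subgroup L} (hd : DegS H U θ φ T) (hk : Ker θ (H₀ ⊔ ⁅U, U⁆))
    (hH : ¬ Ker θ H) : ∃ w, ¬ Ker θ (X w) ∧ T ≤ Tw h.H₀_normal U X w := by
  by_contra hcon
  push Not at hcon
  have h1 : ∀ w, Ker θ (X w) := by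
    intro w
    by_contra hw
    exact hcon w hw (le_inf hd.T_le (h.T_le_cq hd hk (D.X_lb w) (D.X_le w) (D.X_inv w) (D.X_idx w) hw))
  apply hH
  rw [hd.ker H (Inv.of_normal h.H_normal) le_rfl]
  have h2 : H ≤ (φ.ker.map H.subtype) := by
    apply D.span
    intro w x hx
    exact ⟨⟨x, D.X_le w hx⟩, MonoidHom.mem_ker.2 ((hd.ker (X w) (D.X_inv w) (D.X_le w)).1 (h1 w) x hx), rfl⟩
  intro n hn
  obtain ⟨⟨m, hm⟩, hmk, e⟩ := h2 hn
  have e' : m = n := e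
  subst e'
  exact MonoidHom.mem_ker.1 hmk

/-- (D3) -/
theorem _root_.Cfsg.Agent.H10.PrE2.CD.tw_le_T {θ : K → ℂ} {φ : ↥H →* ℂˣ} {T : Subgroup L} (hd : DegS H U θ φ T) (hk : Ker θ (H₀ ⊔ ⁅U, U⁆))
    {w : ↥W} (hN : Ker θ (N w)) : Tw h.H₀_normal U X w ≤ T := by
  rintro t ⟨ht, ht2⟩
  refine h.cq_le_T hd hk (D.N_le w) (D.N_inv w) hN ht ?_
  intro x hx
  have hx' : x ∈ X w ⊔ N w := by rw [D.sup w]; exact hx
  obtain ⟨a, ha, b, hb, rfl⟩ := (Cfsg.Agent.H2.Card.mem_sup_iff (((D.X_le w).trans h.H_le).trans (D.N_inv w).le_normalizer)).1 hx'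
  have e : ⁅t, a * b⁆ = ⁅t, a⁆ * (a * (t * b * t⁻¹ * b⁻¹) * a⁻¹) := by simp only [commutatorElement_def]; group
  rw [e]
  refine (N w).mul_mem (D.N_lb w (ht2 a ha)) (D.N_inv w a (h.H_le (D.X_le w ha)) _ ?_)
  exact (N w).mul_mem (D.N_inv w t (h.U_le ht) b hb) ((N w).inv_mem hb)

theorem _root_.Cfsg.Agent.H10.PrE2.CD.T_eq {θ : K → ℂ} {φ : ↥H →* ℂˣ} {T : Subgroup L} (hd : DegS H U θ φ T) (hk : Ker θ (H₀ ⊔ ⁅U, U⁆))
    (hH : ¬ Ker θ H) {w : ↥W} (hN : Ker θ (N w)) : T = Tw h.H₀_normal U X w := by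
  apply le_antisymm _ (h.tw_le_T D hd hk hN)
  have hXw : ¬ Ker θ (X w) := by
    intro hX
    apply hH
    rw [hd.ker H (Inv.of_normal h.H_normal) le_rfl]
    have h1 := (hd.ker (X w) (D.X_inv w) (D.X_le w)).1 hX
    have h2 := (hd.ker (N w) (D.N_inv w) (D.N_le w)).1 hN
    have h3 : X w ⊔ N w ≤ (φ.ker.map H.subtype) := by
      refine sup_le ?_ ?_
      · intro x hx; exact ⟨⟨x, D.X_le w hx⟩, MonoidHom.mem_ker.2 (h1 x hx), rfl⟩
      · intro x hx; exact ⟨⟨x, D.N_le w hx⟩, MonoidHom.mem_ker.2 (h2 x hx), rfl⟩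
    intro n hn
    obtain ⟨⟨m, hm⟩, hmk, e⟩ := h3 (by rw [D.sup w]; exact hn)
    have e' : m = n := e
    subst e'
    exact MonoidHom.mem_ker.1 hmk
  exact le_inf hd.T_le (h.T_le_cq hd hk (D.X_lb w) (D.X_le w) (D.X_inv w) (D.X_idx w) hXw)

end T

section Sums

variable {L : Type*} [Group L] [Fintype L] {K H H₀ U W : Subgroup L} {p q : ℕ}

open Classical in
/-- sets of irreducible characters of `K` -/
noncomputable def IS (K : Subgroup L) (P : (K → ℂ) → Prop) : Finset (IrrCharacter K) :=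
  letI := Fintype.ofFinite (IrrCharacter K)
  Finset.univ.filter (fun θ : IrrCharacter K => P θ)

theorem mem_IS {P : (K → ℂ) → Prop} {θ : IrrCharacter K} : θ ∈ IS K P ↔ P θ := by
  classical
  simp [IS]

theorem sum_ker {M : Subgroup L} (hM : Inv K M) :
    ∑ θ ∈ IS K (fun θ => Ker θ M), ((θ : K → ℂ) 1).re ^ 2 = (M.relIndex K : ℝ) := by
  classical
  haveI := Fintype.ofFinite K
  haveI := Fintype.ofFinite (IrrCharacter K)
  haveI : (M.subgroupOf K).Normal := ⟨fun n hn g => hM g g.2 n hn⟩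
  have h1 := sum_sq_ker (M.subgroupOf K)
  have h2 := congrArg Complex.re h1
  rw [Complex.re_sum, Complex.natCast_re] at h2
  rw [Subgroup.relIndex, ← h2]
  refine Finset.sum_congr ?_ ?_
  · ext θ
    rw [mem_IS, Finset.mem_filter]
    exact ⟨fun h => ⟨Finset.mem_univ _, fun n hn => h n hn⟩, fun h k hk => h.2 k hk⟩
  · intro θ _
    obtain ⟨d, -, hd⟩ := IsIrr.one_eq_nat θ.2
    rw [hd, ← Nat.cast_pow, Complex.natCast_re, Complex.natCast_re, Nat.cast_pow]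

variable (h : CD K H H₀ U W p q)
include h

theorem _root_.Cfsg.Agent.H10.PrE2.CD.inv_U' {M : Subgroup L} (hM : Inv K M) (h0 : H₀ ≤ M) (hMH : M ≤ H) : Inv K (M ⊔ ⁅U, U⁆) := by
  intro k hk n hn
  have hk' : k ∈ H ⊔ U := by rw [h.sup]; exact hk
  haveI := h.H_normal
  obtain ⟨a, ha, u, hu, rfl⟩ := (Cfsg.Agent.H2.Card.mem_sup_iff' (Subgroup.le_normalizer_of_normal)).1 hk'
  have key : M ⊔ ⁅U, U⁆ ≤ (M ⊔ ⁅U, U⁆).comap (MulAut.conj (a * u)).toMonoidHom := by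
    refine sup_le ?_ ?_
    · intro x hx
      exact (le_sup_left : M ≤ M ⊔ ⁅U, U⁆) (hM _ hk x hx)
    · intro x hx
      show a * u * x * (a * u)⁻¹ ∈ M ⊔ ⁅U, U⁆
      have h1 : u * x * u⁻¹ ∈ ⁅U, U⁆ := by
        have hle : ⁅U, U⁆ ≤ (⁅U, U⁆ : Subgroup L).comap (MulAut.conj u).toMonoidHom := by
          rw [Subgroup.commutator_le]
          intro y hy z hz
          show (MulAut.conj u).toMonoidHom ⁅y, z⁆ ∈ ⁅U, U⁆
          rw [map_commutatorElement]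
          exact Subgroup.commutator_mem_commutator (U.mul_mem (U.mul_mem hu hy) (U.inv_mem hu)) (U.mul_mem (U.mul_mem hu hz) (U.inv_mem hu))
        exact hle hx
      have h2 : ⁅u * x * u⁻¹, a⁆ ∈ H₀ := (h.U'_le h1).2 a ha
      have e : a * u * x * (a * u)⁻¹ = ⁅u * x * u⁻¹, a⁆⁻¹ * (u * x * u⁻¹) := by simp only [commutatorElement_def]; group
      rw [e]
      exact (M ⊔ ⁅U, U⁆).mul_mem ((M ⊔ ⁅U, U⁆).inv_mem ((le_sup_left : M ≤ M ⊔ ⁅U, U⁆) (h0 h2))) ((le_sup_right : ⁅U, U⁆ ≤ M ⊔ ⁅U, U⁆) h1)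
  exact key hn

omit [Fintype L] in
theorem _root_.Cfsg.Agent.H10.PrE2.CD.U'U : ⁅U, U⁆ ≤ U := by
  rw [Subgroup.commutator_le]
  intro x hx y hy
  exact U.mul_mem (U.mul_mem (U.mul_mem hx hy) (U.inv_mem hx)) (U.inv_mem hy)

theorem _root_.Cfsg.Agent.H10.PrE2.CD.card_sup' {M V : Subgroup L} (hM : Inv K M) (hMH : M ≤ H) (hV : V ≤ U) :
    Nat.card ↥(M ⊔ V) = Nat.card M * Nat.card V := by
  have h1 := Cfsg.Agent.H2.Card.card_sup_mul_card_inf (H := V) (N := M) ((hV.trans h.U_le).trans hM.le_normalizer)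
  have h2 : V ⊓ M = ⊥ := by
    rw [eq_bot_iff, ← h.inf]
    exact fun x hx => ⟨hMH hx.2, hV hx.1⟩
  rw [h2, Subgroup.card_bot, mul_one, sup_comm, mul_comm] at h1
  exact h1

/-- the index of `M U'` -/
theorem _root_.Cfsg.Agent.H10.PrE2.CD.rel_U' {M : Subgroup L} (hM : Inv K M) (hMH : M ≤ H) :
    (M ⊔ ⁅U, U⁆).relIndex K = M.relIndex H * (⁅U, U⁆ : Subgroup L).relIndex U := by
  have hMK : M ⊔ ⁅U, U⁆ ≤ K := sup_le (hMH.trans h.H_le) (h.U'U.trans h.U_le)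
  have h1 := Cfsg.Agent.H2.Card.card_mul_relIndex hMK
  have h2 := h.card_sup' hM hMH h.U'U
  have h3 := h.card_sup' (Inv.of_normal h.H_normal) le_rfl (le_refl U)
  rw [h.sup] at h3
  have h4 := Cfsg.Agent.H2.Card.card_mul_relIndex hMH
  have h5 := Cfsg.Agent.H2.Card.card_mul_relIndex h.U'U
  rw [h2, h3, ← h4, ← h5] at h1
  have p1 : 0 < Nat.card M := Nat.card_pos
  have p2 : 0 < Nat.card (⁅U, U⁆ : Subgroup L) := Nat.card_pos
  apply Nat.eq_of_mul_eq_mul_left (Nat.mul_pos p1 p2)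
  rw [h1]; ring

/-- the sum over the characters with `M U'` but not `H` in the kernel -/
theorem _root_.Cfsg.Agent.H10.PrE2.CD.sum_M {M : Subgroup L} (hM : Inv K M) (h0 : H₀ ≤ M) (hMH : M ≤ H) :
    ∑ θ ∈ IS K (fun θ => Ker θ (M ⊔ ⁅U, U⁆) ∧ ¬ Ker θ H), ((θ : K → ℂ) 1).re ^ 2 =
      ((M.relIndex H : ℝ) - 1) * ((⁅U, U⁆ : Subgroup L).relIndex U : ℝ) := by
  classical
  have h1 := sum_ker (h.inv_U' hM h0 hMH)
  have h2 := sum_ker (h.inv_U' (Inv.of_normal (K := K) h.H_normal) h.lt.le le_rfl)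
  rw [h.rel_U' hM hMH, Nat.cast_mul] at h1
  rw [h.rel_U' (Inv.of_normal h.H_normal) le_rfl, Subgroup.relIndex_self, one_mul] at h2
  have h3 : IS K (fun θ => Ker θ (M ⊔ ⁅U, U⁆)) = IS K (fun θ => Ker θ (M ⊔ ⁅U, U⁆) ∧ ¬ Ker θ H) ∪ IS K (fun θ => Ker θ (H ⊔ ⁅U, U⁆)) := by
    ext θ
    rw [Finset.mem_union, mem_IS, mem_IS, mem_IS]
    constructor
    · intro hk
      by_cases hH : Ker (θ : K → ℂ) H
      · right
        intro k hkm
        have hkc : IsCharacter K (θ : K → ℂ) := IsIrr.isCharacter θ.2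
        have hle : (H ⊔ ⁅U, U⁆).subgroupOf K ≤ chKer (θ : K → ℂ) hkc := by
          rw [Subgroup.subgroupOf_sup h.H_le (h.U'U.trans h.U_le)]
          refine sup_le (fun x hx => hH x hx) (fun x hx => hk x ((le_sup_right : ⁅U, U⁆ ≤ M ⊔ ⁅U, U⁆) hx))
        exact hle hkm
      · exact Or.inl ⟨hk, hH⟩
    · rintro (hk | hk)
      · exact hk.1
      · exact fun k hkm => hk k (sup_le_sup_right hMH _ hkm)
  have h4 : Disjoint (IS K (fun θ => Ker θ (M ⊔ ⁅U, U⁆) ∧ ¬ Ker θ H)) (IS K (fun θ => Ker θ (H ⊔ ⁅U, U⁆))) := by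
    rw [Finset.disjoint_left]
    intro θ h5 h6
    rw [mem_IS] at h5 h6
    exact h5.2 fun k hk => h6 k ((le_sup_left : H ≤ _) hk)
  rw [h3, Finset.sum_union h4, h2] at h1
  linarith

end Sums

end Cfsg.Agent.H10.PrE4
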