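import Mathlib
import Cfsg.Agent.H10_PrE4

set_option autoImplicit false
set_option linter.all false

/-! Peterfalvi (9.11): general coherence arguments. -/

namespace Cfsg.Agent.H10.PrE5

open Cfsg Cfsg.Agent.H3.CharBasic Cfsg.Agent.H3.CharIrr Cfsg.Agent.H3.CharComplete
  Cfsg.Agent.H3.CharMult Cfsg.Agent.H3.CharInd Cfsg.Agent.H3.CharInt Cfsg.Agent.H3.Clifford Cfsg.Agent.H3.CharQuot
  Cfsg.Agent.H10.OOClif Cfsg.Agent.H10.IndSet Cfsg.Agent.H10.IndSet2 Cfsg.Agent.H10.IndSet6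
  Cfsg.Agent.H10.Coh Cfsg.Agent.H10.Coh3 Cfsg.Agent.H10.Coh4 Cfsg.Agent.H10.PrD8
open scoped ComplexConjugate

section Gen

variable {L : Type*} [Group L] [Fintype L] {G : Type*} [Group G] [Fintype G]
  {S : Set (L → ℂ)} {τ : (L → ℂ) → (G → ℂ)} {Rc : (L → ℂ) → Finset (G → ℂ)} (hS : IsCoherenceSystem S τ Rc)
include hS

theorem cross_orth {S₂ S₃ : Set (L → ℂ)} (h2 : S₂ ⊆ S) (h3 : S₃ ⊆ S) (hc2 : ∀ φ ∈ S₂, conjFun φ ∈ S₂)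
    (hc3 : ∀ φ ∈ S₃, conjFun φ ∈ S₃) (hdis : ∀ φ ∈ S₂, φ ∉ S₃) {τ₂ τ₃ : (L → ℂ) → (G → ℂ)} (e2 : Ext S₂ τ τ₂) (e3 : Ext S₃ τ τ₃)
    {φ ψ : L → ℂ} (hφ : φ ∈ S₂) (hψ : ψ ∈ S₃) : classInner (τ₂ φ) (τ₃ ψ) = 0 := by
  apply orth_tau hS h3 e3.1 e3.2 hψ (hc3 ψ hψ)
  intro α hα
  obtain ⟨c, hc⟩ := tau_span hS h2 e2.1 e2.2 hφ (hc2 φ hφ)
  rw [hc, ci_sum_left]
  apply Finset.sum_eq_zero
  intro β hβ
  rw [ci_smul_left, hS.disjoint ψ (h3 hψ) φ (h2 hφ)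
    (hS.orthogonal φ (h2 hφ) ψ (h3 hψ) (fun he => hdis φ hφ (he ▸ hψ)))
    (hS.orthogonal φ (h2 hφ) _ (h3 (hc3 ψ hψ)) (fun he => hdis φ hφ (he ▸ hc3 ψ hψ))) β hβ α hα, mul_zero]

omit hS in
theorem ext_sub_m {S₁ : Set (L → ℂ)} {τ₁ : (L → ℂ) → (G → ℂ)} (e : Ext S₁ τ τ₁) {φ ψ : L → ℂ} (hφ : φ ∈ S₁) (hψ : ψ ∈ S₁)
    {m : ℤ} (hdeg : φ 1 = m * ψ 1) : τ (φ - m • ψ) = τ₁ φ - m • τ₁ ψ := by
  have hz : φ - m • ψ ∈ zspanOn S₁ {1}ᶜ := by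
    rw [zo_iff]
    exact ⟨zs_diff (zs_sub hφ) (zs_zsmul _ (zs_sub hψ)), by rw [zc, Pi.sub_apply, Pi.smul_apply, smul_eq_mul, hdeg, sub_self]⟩
  rw [← e.2 _ hz, iso_diff e.1 (zs_sub hφ) (zs_zsmul _ (zs_sub hψ)) (zs_neg (zs_zsmul _ (zs_sub hψ))), e.1.2.1 _ (zs_sub hψ)]

omit hS in
theorem ext_sub {S₁ : Set (L → ℂ)} {τ₁ : (L → ℂ) → (G → ℂ)} (e : Ext S₁ τ τ₁) {φ ψ : L → ℂ} (hφ : φ ∈ S₁) (hψ : ψ ∈ S₁)
    (hdeg : φ 1 = ψ 1) : τ (φ - ψ) = τ₁ φ - τ₁ ψ := by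
  have := ext_sub_m e hφ hψ (m := 1) (by rw [hdeg]; simp)
  simpa using this

theorem coh_of_base {S₂ : Set (L → ℂ)} (h2 : S₂ ⊆ S) {χ₁ : L → ℂ} (h1 : χ₁ ∈ S₂)
    {τ₂ : (L → ℂ) → (G → ℂ)} (e2 : Ext S₂ τ τ₂)
    (hb : ∀ φ ∈ S, ∃ m : ℤ, φ 1 = m * χ₁ 1 ∧ (φ ∈ S₂ ∨ (φ ∉ S₂ ∧ classInner (τ₂ χ₁) (τ (φ - m • χ₁)) = - (m * classInner χ₁ χ₁)))) :
    ∃ τ₁, Ext S τ τ₁ ∧ τ₁ χ₁ = τ₂ χ₁ := by
  have hτ := hS.isometry
  have h1S := h2 h1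
  have h10 := one_ne hS h1S
  obtain ⟨hb1, hb2⟩ := base_cond (T := S) hτ (zs_sub h1S) h10 (X := τ₂ χ₁) (by
    intro φ hφ
    obtain ⟨m, hm, h3⟩ := hb φ hφ
    refine ⟨m, hm, ?_⟩
    rcases h3 with h3 | ⟨h3, h4⟩
    · rw [ext_sub_m e2 h3 h1 hm, zc, zc, ci_sub_right, ci_sub_right, ci_smul_right, ci_smul_right, e2.1.2.2.1 _ (zs_sub h1) _ (zs_sub h3),
        e2.1.2.2.1 _ (zs_sub h1) _ (zs_sub h1)]
    · rw [h4, zc, ci_sub_right, ci_smul_right, hS.orthogonal χ₁ h1S φ hφ (fun he => h3 (he ▸ h1)), zero_sub, Cfsg.Agent.H10.Sib.cint])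
  obtain ⟨τ₁, t1, t2, t3⟩ := extend_base hτ (zs_sub h1S) h10 hb1 (e2.1.2.2.2 _ (zs_sub h1)) (e2.1.2.2.1 _ (zs_sub h1) _ (zs_sub h1))
    (gen_of_mem hS h1S) (fun χ hχ => gen_of_mem hS hχ) hb2
  exact ⟨τ₁, ⟨t1, t2⟩, t3⟩

theorem coh_of_ext {τ₁ : (L → ℂ) → (G → ℂ)} (e : Ext S τ τ₁) : IsCoherent S {1}ᶜ τ := by
  obtain ⟨χ, hχ⟩ := hS.nonempty
  exact ⟨⟨χ - conjFun χ, diff_mem hS hχ, fun h => hS.conj_ne χ hχ (sub_eq_zero.1 h).symm⟩, τ₁, e.1, e.2⟩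

theorem ext_equal {S₁ : Set (L → ℂ)} (h1 : S₁ ⊆ S) (hne : S₁.Nonempty) (hc : ∀ φ ∈ S₁, conjFun φ ∈ S₁) {d : ℂ} (hd : ∀ φ ∈ S₁, φ 1 = d) :
    ∃ τ₁, Ext S₁ τ τ₁ := by
  obtain ⟨-, τ₁, e1, e2⟩ := Cfsg.Agent.H10.Coh6.equal_deg (restrict_system hS h1 hne hc) (fun φ hφ ψ hψ => by rw [hd φ hφ, hd ψ hψ])
  exact ⟨τ₁, e1, e2⟩

/-- the two-degree Bessel analysis -/
theorem two_deg {S₂ S₃ : Finset (L → ℂ)} (h2 : (↑S₂ : Set (L → ℂ)) ⊆ S) (h3 : (↑S₃ : Set (L → ℂ)) ⊆ S)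
    (hc2 : ∀ φ ∈ S₂, conjFun φ ∈ S₂) (hc3 : ∀ φ ∈ S₃, conjFun φ ∈ S₃) (hdis : ∀ φ ∈ S₂, φ ∉ S₃)
    {d : ℂ} (hd2 : ∀ χ ∈ S₂, χ 1 = d) {m : ℕ} (hm : 1 ≤ m) (hd3 : ∀ μ ∈ S₃, μ 1 = m * d)
    (hirr : ∀ χ ∈ S₂, classInner χ χ = 1) (hn : S₂.card = 2 * m)
    (hN : 2 < ∑ μ ∈ S₃, 1 / (classInner μ μ).re) {τ₂ τ₃ : (L → ℂ) → (G → ℂ)} (e2 : Ext ↑S₂ τ τ₂) (e3 : Ext ↑S₃ τ τ₃)
    {χ₁ : L → ℂ} (hχ₁ : χ₁ ∈ S₂) {μ₀ : L → ℂ} (hμ₀ : μ₀ ∈ S₃) :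
    classInner (τ₂ χ₁) (τ (μ₀ - (m : ℤ) • χ₁)) = - m ∨
      τ (μ₀ - (m : ℤ) • χ₁) = ∑ χ ∈ S₂, τ₂ χ - (m : ℂ) • τ₂ χ₁ + τ₃ μ₀ := by
  classical
  have hτ := hS.isometry
  have hμS : μ₀ ∈ S := h3 hμ₀
  have hχS : χ₁ ∈ S := h2 hχ₁
  set β := μ₀ - (m : ℤ) • χ₁ with hβ
  have hβz : β ∈ zspanOn S {1}ᶜ := by
    rw [zo_iff]
    refine ⟨zs_diff (zs_sub hμS) (zs_zsmul _ (zs_sub hχS)), ?_⟩
    rw [hβ, zc, Pi.sub_apply, Pi.smul_apply, smul_eq_mul, hd3 μ₀ hμ₀, hd2 χ₁ hχ₁]; simp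
  set F := τ β with hF
  have hFgen : IsGeneralizedCharacter G F := hτ.2.2.2 _ hβz
  obtain ⟨c₀, hc₀⟩ := ci_gen_int hFgen (e2.1.2.2.2 _ (zs_sub (show χ₁ ∈ (↑S₂ : Set (L → ℂ)) from hχ₁)))
  obtain ⟨e₀, he₀⟩ := ci_gen_int hFgen (e3.1.2.2.2 _ (zs_sub (show μ₀ ∈ (↑S₃ : Set (L → ℂ)) from hμ₀)))
  obtain ⟨M₀, hM₀, hM⟩ := norm_nat hS hμS
  have hβe : β = μ₀ - (m : ℂ) • χ₁ := by rw [hβ, zc]; simp
  have o23 : ∀ χ ∈ S₂, ∀ μ ∈ S₃, classInner χ μ = 0 := fun χ h4 μ h5 =>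
    hS.orthogonal χ (h2 h4) μ (h3 h5) (fun he => hdis χ h4 (he ▸ h5))
  have o32 : ∀ χ ∈ S₂, ∀ μ ∈ S₃, classInner μ χ = 0 := fun χ h4 μ h5 =>
    hS.orthogonal μ (h3 h5) χ (h2 h4) (fun he => hdis χ h4 (he ▸ h5))
  have hcχ : ∀ χ ∈ S₂, χ ≠ χ₁ → classInner F (τ₂ χ) = ((c₀ + m : ℤ) : ℂ) := by
    intro χ hχ hne
    have hz : χ - χ₁ ∈ zspanOn S {1}ᶜ := by
      rw [zo_iff]
      exact ⟨zs_diff (zs_sub (h2 hχ)) (zs_sub hχS), by rw [Pi.sub_apply, hd2 χ hχ, hd2 χ₁ hχ₁, sub_self]⟩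
    have h4 := ext_sub e2 (show χ ∈ (↑S₂ : Set (L → ℂ)) from hχ) (show χ₁ ∈ (↑S₂ : Set (L → ℂ)) from hχ₁) (by rw [hd2 χ hχ, hd2 χ₁ hχ₁])
    have h5 : τ₂ χ = τ₂ χ₁ + τ (χ - χ₁) := by rw [h4]; abel
    rw [h5, ci_add_right, hc₀, hF, hτ.2.2.1 _ hβz _ hz, hβe, ci_sub_left, ci_sub_right, ci_sub_right, ci_smul_left, ci_smul_left,
      o32 χ hχ μ₀ hμ₀, o32 χ₁ hχ₁ μ₀ hμ₀, hirr χ₁ hχ₁, hS.orthogonal χ₁ hχS χ (h2 hχ) hne.symm]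
    push_cast; ring
  have hcμ : ∀ μ ∈ S₃, μ ≠ μ₀ → classInner F (τ₃ μ) = ((e₀ - M₀ : ℤ) : ℂ) := by
    intro μ hμ hne
    have hz : μ - μ₀ ∈ zspanOn S {1}ᶜ := by
      rw [zo_iff]
      exact ⟨zs_diff (zs_sub (h3 hμ)) (zs_sub hμS), by rw [Pi.sub_apply, hd3 μ hμ, hd3 μ₀ hμ₀, sub_self]⟩
    have h4 := ext_sub e3 (show μ ∈ (↑S₃ : Set (L → ℂ)) from hμ) (show μ₀ ∈ (↑S₃ : Set (L → ℂ)) from hμ₀) (by rw [hd3 μ hμ, hd3 μ₀ hμ₀])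
    have h5 : τ₃ μ = τ₃ μ₀ + τ (μ - μ₀) := by rw [h4]; abel
    rw [h5, ci_add_right, he₀, hF, hτ.2.2.1 _ hβz _ hz, hβe, ci_sub_left, ci_sub_right, ci_sub_right, ci_smul_left, ci_smul_left,
      o23 χ₁ hχ₁ μ hμ, o23 χ₁ hχ₁ μ₀ hμ₀, hM, hS.orthogonal μ₀ hμS μ (h3 hμ) hne.symm]
    push_cast; ring
  set x : ℤ := c₀ + m with hx
  set y : ℤ := e₀ - M₀ with hy
  -- Bessel
  let t : (L → ℂ) → (G → ℂ) := fun φ => if φ ∈ S₂ then τ₂ φ else τ₃ φ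
  let c : (L → ℂ) → ℝ := fun φ => if φ ∈ S₂ then (if φ = χ₁ then (x : ℝ) - m else x) else (if φ = μ₀ then (y : ℝ) + M₀ else y)
  let N : (L → ℂ) → ℝ := fun φ => (classInner φ φ).re
  have hSS : ∀ φ ∈ S₂ ∪ S₃, φ ∈ S := by
    intro φ hφ
    rcases Finset.mem_union.1 hφ with h4 | h4
    · exact h2 h4
    · exact h3 h4
  have hNre : ∀ φ ∈ S₂ ∪ S₃, ((N φ : ℝ) : ℂ) = classInner φ φ := by
    intro φ hφ
    obtain ⟨k, -, hk⟩ := norm_nat hS (hSS φ hφ)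
    show (((classInner φ φ).re : ℝ) : ℂ) = _
    rw [hk]; simp
  have hon : ∀ i ∈ S₂ ∪ S₃, ∀ j ∈ S₂ ∪ S₃, classInner (t i) (t j) = if i = j then (N i : ℂ) else 0 := by
    intro i hi j hj
    rw [hNre i hi]
    have hself : ∀ {a b : L → ℂ}, a ∈ S → b ∈ S → classInner a b = if a = b then classInner a a else 0 := by
      intro a b ha hb
      split_ifs with hab
      · rw [hab]
      · exact hS.orthogonal a ha b hb hab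
    by_cases hi2 : i ∈ S₂ <;> by_cases hj2 : j ∈ S₂
    · simp only [t, if_pos hi2, if_pos hj2]
      rw [e2.1.2.2.1 _ (zs_sub (show i ∈ (↑S₂ : Set (L → ℂ)) from hi2)) _ (zs_sub (show j ∈ (↑S₂ : Set (L → ℂ)) from hj2))]
      exact hself (hSS i hi) (hSS j hj)
    · have hj3 : j ∈ S₃ := (Finset.mem_union.1 hj).resolve_left hj2
      simp only [t, if_pos hi2, if_neg hj2]
      rw [if_neg (fun he : i = j => hj2 (he ▸ hi2))]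
      exact cross_orth hS h2 h3 hc2 hc3 (fun φ hφ => hdis φ hφ) e2 e3 hi2 hj3
    · have hi3 : i ∈ S₃ := (Finset.mem_union.1 hi).resolve_left hi2
      simp only [t, if_neg hi2, if_pos hj2]
      rw [if_neg (fun he : i = j => hi2 (he ▸ hj2)), ← ci_conj_symm,
        cross_orth hS h2 h3 hc2 hc3 (fun φ hφ => hdis φ hφ) e2 e3 hj2 hi3, map_zero]
    · have hj3 : j ∈ S₃ := (Finset.mem_union.1 hj).resolve_left hj2
      have hi3 : i ∈ S₃ := (Finset.mem_union.1 hi).resolve_left hi2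
      simp only [t, if_neg hi2, if_neg hj2]
      rw [e3.1.2.2.1 _ (zs_sub (show i ∈ (↑S₃ : Set (L → ℂ)) from hi3)) _ (zs_sub (show j ∈ (↑S₃ : Set (L → ℂ)) from hj3))]
      exact hself (hSS i hi) (hSS j hj)
  have hNpos : ∀ i ∈ S₂ ∪ S₃, 0 < N i := fun i hi => norm_pos hS (hSS i hi)
  have hcc : ∀ i ∈ S₂ ∪ S₃, classInner F (t i) = c i := by
    intro i hi
    by_cases hi2 : i ∈ S₂
    · simp only [t, c, if_pos hi2]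
      by_cases hi1 : i = χ₁
      · rw [if_pos hi1, hi1, hc₀, hx]; push_cast; ring
      · rw [if_neg hi1, hcχ i hi2 hi1]; push_cast; rfl
    · have hi3 : i ∈ S₃ := (Finset.mem_union.1 hi).resolve_left hi2
      simp only [t, c, if_neg hi2]
      by_cases hi1 : i = μ₀
      · rw [if_pos hi1, hi1, he₀, hy]; push_cast; ring
      · rw [if_neg hi1, hcμ i hi3 hi1]; push_cast; rfl
  have hle := bessel_le (S₂ ∪ S₃) t F c N (fun i hi j hj => by rw [hon i hi j hj]; congr) hNpos hcc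
  obtain ⟨-, hres⟩ := bessel (S₂ ∪ S₃) t F c N (fun i hi j hj => by rw [hon i hi j hj]; congr) hNpos hcc
  have hFF : classInner F F = M₀ + m ^ 2 := by
    rw [hF, hτ.2.2.1 _ hβz _ hβz, hβe, ci_sub_left, ci_sub_right, ci_sub_right, ci_smul_left, ci_smul_left, ci_smul_right, ci_smul_right,
      o32 χ₁ hχ₁ μ₀ hμ₀, o23 χ₁ hχ₁ μ₀ hμ₀, hirr χ₁ hχ₁, hM]
    simp; ring
  have hdisj : Disjoint S₂ S₃ := Finset.disjoint_left.2 fun φ h4 => hdis φ h4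
  have hN1 : ∀ φ ∈ S₂, N φ = 1 := fun φ hφ => by show (classInner φ φ).re = 1; rw [hirr φ hφ]; simp
  have hNμ : N μ₀ = M₀ := by show (classInner μ₀ μ₀).re = M₀; rw [hM]; simp
  set N₃ : ℝ := ∑ μ ∈ S₃, 1 / (classInner μ μ).re with hN₃
  have hs2 : ∑ i ∈ S₂, c i ^ 2 / N i = 2 * m * (x : ℝ) ^ 2 - 2 * m * x + m ^ 2 := by
    rw [← Finset.add_sum_erase _ _ hχ₁]
    have h4 : ∀ i ∈ S₂.erase χ₁, c i ^ 2 / N i = (x : ℝ) ^ 2 := by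
      intro i hi
      obtain ⟨hi1, hi2⟩ := Finset.mem_erase.1 hi
      rw [hN1 i hi2, div_one]
      simp only [c, if_pos hi2, if_neg hi1]
    rw [Finset.sum_congr rfl h4, Finset.sum_const, Finset.card_erase_of_mem hχ₁, hn, hN1 χ₁ hχ₁, nsmul_eq_mul,
      Nat.cast_sub (by omega)]
    simp only [c, if_pos hχ₁, if_true]
    push_cast; ring
  have hs3 : ∑ i ∈ S₃, c i ^ 2 / N i = (y : ℝ) ^ 2 * N₃ + 2 * y + M₀ := by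
    have hμ2 : μ₀ ∉ S₂ := fun h4 => hdis _ h4 hμ₀
    have h5 : ∀ i ∈ S₃, c i ^ 2 / N i = (y : ℝ) ^ 2 * (1 / N i) + (if i = μ₀ then 2 * (y : ℝ) + M₀ else 0) := by
      intro i hi
      have hi2 : i ∉ S₂ := fun h4 => hdis _ h4 hi
      simp only [c, if_neg hi2]
      split_ifs with h6
      · rw [h6, hNμ]
        have : (M₀ : ℝ) ≠ 0 := by exact_mod_cast hM₀.ne'
        field_simp; ring
      · ring
    rw [Finset.sum_congr rfl h5, Finset.sum_add_distrib, ← Finset.mul_sum, Finset.sum_ite_eq' S₃ μ₀, if_pos hμ₀, hN₃]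
    ring
  have hFFre : (classInner F F).re = (M₀ : ℝ) + m ^ 2 := by
    rw [hFF]
    have : ((M₀ : ℂ) + m ^ 2) = (((M₀ : ℝ) + m ^ 2 : ℝ) : ℂ) := by push_cast; rfl
    rw [this, Complex.ofReal_re]
  rw [Finset.sum_union hdisj, hs2, hs3, hFFre] at hle
  have hy0 : y = 0 := by
    by_contra hy0
    have h4 : (1 : ℝ) ≤ (y : ℝ) ^ 2 := by
      have : (1 : ℤ) ≤ y ^ 2 := by
        have := sq_pos_of_ne_zero hy0; omega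
      exact_mod_cast this
    have h5 : (0 : ℝ) ≤ (y : ℝ) ^ 2 + y := by
      have : (0 : ℤ) ≤ y ^ 2 + y := by
        rcases le_or_gt 0 y with h6 | h6
        · positivity
        · nlinarith
      exact_mod_cast this
    have h6 : (0 : ℝ) ≤ (x : ℝ) ^ 2 - x := by
      have : (0 : ℤ) ≤ x ^ 2 - x := by
        rcases le_or_gt x 0 with h6 | h6
        · nlinarith
        · nlinarith
      exact_mod_cast this
    have h7 : (1 : ℝ) ≤ m := by exact_mod_cast hm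
    nlinarith [mul_nonneg (by linarith : (0:ℝ) ≤ 2 * m) h6, mul_lt_mul_of_pos_left hN (by linarith : (0:ℝ) < (y:ℝ)^2)]
  have hx01 : x = 0 ∨ x = 1 := by
    rw [hy0] at hle
    have h7 : (1 : ℝ) ≤ m := by exact_mod_cast hm
    have h8 : (m : ℝ) * ((x : ℝ) ^ 2 - x) ≤ 0 := by push_cast at hle; nlinarith
    have h9 : ((x : ℝ) ^ 2 - x) ≤ 0 := by
      by_contra hc; push Not at hc; nlinarith
    have h10 : x ^ 2 - x ≤ 0 := by exact_mod_cast h9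
    have h11 : x * (x - 1) ≤ 0 := by nlinarith
    rcases lt_trichotomy x 0 with h12 | h12 | h12
    · nlinarith
    · exact Or.inl h12
    · right
      by_contra h13
      have : 2 ≤ x := by omega
      nlinarith
  rcases hx01 with hx0 | hx1
  · left
    rw [← ci_conj_symm, hc₀, Cfsg.Agent.H10.Sib.cint]
    have : c₀ = - (m : ℤ) := by omega
    rw [this]; push_cast; rfl
  · right
    have hsum : (classInner F F) - ((∑ i ∈ S₂ ∪ S₃, c i ^ 2 / N i : ℝ) : ℂ) = 0 := by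
      rw [Finset.sum_union hdisj, hs2, hs3, hFF, hx1, hy0]
      push_cast; ring
    rw [hsum] at hres
    have h4 := ci_self_eq_zero hres
    rw [sub_eq_zero] at h4
    rw [h4, Finset.sum_union hdisj]
    have h5 : ∑ j ∈ S₂, ((c j / N j : ℝ) : ℂ) • t j = ∑ χ ∈ S₂, τ₂ χ - (m : ℂ) • τ₂ χ₁ := by
      have h6 : ∀ j ∈ S₂, ((c j / N j : ℝ) : ℂ) • t j = τ₂ j - (if j = χ₁ then (m : ℂ) • τ₂ χ₁ else 0) := by
        intro j hj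
        rw [hN1 j hj, div_one]
        simp only [c, t, if_pos hj]
        split_ifs with h7
        · rw [hx1, h7]; push_cast; rw [sub_smul, one_smul]
        · rw [hx1]; simp
      rw [Finset.sum_congr rfl h6, Finset.sum_sub_distrib, Finset.sum_ite_eq' S₂ χ₁, if_pos hχ₁]
    have h6 : ∑ j ∈ S₃, ((c j / N j : ℝ) : ℂ) • t j = τ₃ μ₀ := by
      rw [Finset.sum_eq_single μ₀]
      · have hμ2 : μ₀ ∉ S₂ := fun h4 => hdis _ h4 hμ₀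
        simp only [c, t, if_neg hμ2, if_true]
        rw [hNμ, hy0]
        have : (M₀ : ℝ) ≠ 0 := by exact_mod_cast hM₀.ne'
        rw [Int.cast_zero, zero_add, div_self this]; simp
      · intro j hj hne
        have hj2 : j ∉ S₂ := fun h4 => hdis _ h4 hj
        simp only [c, if_neg hj2, if_neg hne]
        rw [hy0]; simp
      · intro h7; exact absurd hμ₀ h7
    rw [h5, h6]

/-- the exceptional case in (9.11) -/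
theorem exc {S₂ S₃ : Finset (L → ℂ)} (h2 : (↑S₂ : Set (L → ℂ)) ⊆ S) (h3 : (↑S₃ : Set (L → ℂ)) ⊆ S)
    (hU : ∀ φ ∈ S, φ ∈ S₂ ∨ φ ∈ S₃)
    (hc2 : ∀ φ ∈ S₂, conjFun φ ∈ S₂) (hc3 : ∀ φ ∈ S₃, conjFun φ ∈ S₃) (hdis : ∀ φ ∈ S₂, φ ∉ S₃)
    {d : ℂ} (hd2 : ∀ χ ∈ S₂, χ 1 = d) {m : ℕ} (hm : 2 ≤ m) (hd3 : ∀ μ ∈ S₃, μ 1 = m * d)
    (hirr : ∀ χ ∈ S₂, classInner χ χ = 1) (hn : S₂.card = 2 * m)
    (hN : 2 < ∑ μ ∈ S₃, 1 / (classInner μ μ).re)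
    {χ₁ : L → ℂ} (hχ₁ : χ₁ ∈ S₂) {f : G → ℂ} (hf : IsGeneralizedCharacter G f)
    (hf1 : ∀ χ ∈ S₂, χ ≠ χ₁ → classInner f (τ (χ - χ₁)) = 1)
    (hf2 : ∀ μ ∈ S₃, classInner f (τ (μ - (m : ℤ) • χ₁)) = m)
    (hff : (classInner f f).re < ∑ μ ∈ S₃, 1 / (classInner μ μ).re) : IsCoherent S {1}ᶜ τ := by
  classical
  have hτ := hS.isometry
  obtain ⟨τ₂, e2⟩ := ext_equal hS h2 ⟨χ₁, hχ₁⟩ hc2 hd2
  have hne3 : S₃.Nonempty := by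
    rw [Finset.nonempty_iff_ne_empty]
    rintro rfl
    simp at hN; linarith
  obtain ⟨τ₃, e3⟩ := ext_equal hS h3 (by obtain ⟨μ, hμ⟩ := hne3; exact ⟨μ, hμ⟩) hc3 hd3
  by_cases hall : ∀ μ ∈ S₃, classInner (τ₂ χ₁) (τ (μ - (m : ℤ) • χ₁)) = - m
  · obtain ⟨τ₁, e1, -⟩ := coh_of_base hS h2 (show χ₁ ∈ (↑S₂ : Set (L → ℂ)) from hχ₁) e2 (by
      intro φ hφ
      by_cases hφ2 : φ ∈ S₂
      · exact ⟨1, by rw [hd2 φ hφ2, hd2 χ₁ hχ₁]; simp, Or.inl hφ2⟩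
      · have hφ3 := (hU φ hφ).resolve_left hφ2
        refine ⟨m, by rw [hd3 φ hφ3, hd2 χ₁ hχ₁]; simp, Or.inr ⟨hφ2, ?_⟩⟩
        rw [hall φ hφ3, hirr χ₁ hχ₁]; simp)
    exact coh_of_ext hS e1
  · exfalso
    push Not at hall
    obtain ⟨μ₀, hμ₀, hne⟩ := hall
    have key := (two_deg hS h2 h3 hc2 hc3 hdis hd2 (by omega) hd3 hirr hn hN e2 e3 hχ₁ hμ₀).resolve_left hne
    obtain ⟨t0, ht0⟩ := ci_gen_int hf (e2.1.2.2.2 _ (zs_sub (show χ₁ ∈ (↑S₂ : Set (L → ℂ)) from hχ₁)))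
    have hfχ : ∀ χ ∈ S₂, χ ≠ χ₁ → classInner f (τ₂ χ) = t0 + 1 := by
      intro χ hχ hne
      have h4 := ext_sub e2 (show χ ∈ (↑S₂ : Set (L → ℂ)) from hχ) (show χ₁ ∈ (↑S₂ : Set (L → ℂ)) from hχ₁) (by rw [hd2 χ hχ, hd2 χ₁ hχ₁])
      have h5 : τ₂ χ = τ₂ χ₁ + τ (χ - χ₁) := by rw [h4]; abel
      rw [h5, ci_add_right, ht0, hf1 χ hχ hne]
    have hsum : ∑ χ ∈ S₂, classInner f (τ₂ χ) = (2 * m - 1) * (t0 + 1) + t0 := by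
      rw [← Finset.add_sum_erase _ _ hχ₁, Finset.sum_congr rfl (g := fun _ => ((t0 : ℂ) + 1)) (fun χ hχ =>
        hfχ χ (Finset.mem_erase.1 hχ).2 (Finset.mem_erase.1 hχ).1), Finset.sum_const, Finset.card_erase_of_mem hχ₁, hn, nsmul_eq_mul,
        Nat.cast_sub (by omega), ht0]
      push_cast; ring
    have hμv : classInner f (τ₃ μ₀) = 1 - m * (t0 + 1) := by
      have h4 := hf2 μ₀ hμ₀
      rw [key, ci_add_right, ci_sub_right, ci_sum_right, ci_smul_right, hsum, ht0] at h4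
      simp only [map_natCast] at h4
      linear_combination h4
    have hfμ : ∀ μ ∈ S₃, classInner f (τ₃ μ) = 1 - m * (t0 + 1) := by
      intro μ hμ
      have h4 := ext_sub e3 (show μ ∈ (↑S₃ : Set (L → ℂ)) from hμ) (show μ₀ ∈ (↑S₃ : Set (L → ℂ)) from hμ₀) (by rw [hd3 μ hμ, hd3 μ₀ hμ₀])
      have h5 : τ₃ μ = τ₃ μ₀ + τ (μ - μ₀) := by rw [h4]; abel
      have hz : ∀ μ ∈ S₃, μ - (m : ℤ) • χ₁ ∈ zspanOn S {1}ᶜ := by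
        intro μ hμ
        rw [zo_iff]
        refine ⟨zs_diff (zs_sub (h3 hμ)) (zs_zsmul _ (zs_sub (h2 hχ₁))), ?_⟩
        rw [zc, Pi.sub_apply, Pi.smul_apply, smul_eq_mul, hd3 μ hμ, hd2 χ₁ hχ₁]; simp
      have hz' : μ - μ₀ = (μ - (m : ℤ) • χ₁) - (μ₀ - (m : ℤ) • χ₁) := by abel
      rw [h5, ci_add_right, hμv, hz', iso_diff hτ (hz μ hμ) (hz μ₀ hμ₀) (by
        have := hz μ₀ hμ₀
        rw [zo_iff] at this ⊢
        exact ⟨zs_neg this.1, by rw [Pi.neg_apply, this.2, neg_zero]⟩), ci_sub_right, hf2 μ hμ, hf2 μ₀ hμ₀, sub_self, add_zero]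
    -- Bessel
    have hle := bessel_le S₃ τ₃ f (fun _ => 1 - m * (t0 + 1)) (fun φ => (classInner φ φ).re) (by
        intro i hi j hj
        rw [e3.1.2.2.1 _ (zs_sub (show i ∈ (↑S₃ : Set (L → ℂ)) from hi)) _ (zs_sub (show j ∈ (↑S₃ : Set (L → ℂ)) from hj))]
        split_ifs with hij
        · rw [hij]
          obtain ⟨k, -, hk⟩ := norm_nat hS (h3 hj)
          rw [hk]; simp
        · exact hS.orthogonal i (h3 hi) j (h3 hj) hij) (fun i hi => norm_pos hS (h3 hi)) (by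
        intro i hi
        rw [hfμ i hi]; push_cast; rfl)
    have h1 : (1 : ℝ) ≤ (1 - m * (t0 + 1)) ^ 2 := by
      have h2' : (1 : ℤ) - m * (t0 + 1) ≠ 0 := by
        intro h0
        have h4 : (m : ℤ) * (t0 + 1) = 1 := by omega
        have h5 := Int.eq_one_or_neg_one_of_mul_eq_one h4
        omega
      have : (1 : ℤ) ≤ ((1 : ℤ) - m * (t0 + 1)) ^ 2 := by
        have := sq_pos_of_ne_zero h2'; omega
      exact_mod_cast this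
    have h4 : ∑ μ ∈ S₃, 1 / (classInner μ μ).re ≤ ∑ μ ∈ S₃, (1 - m * (t0 + 1) : ℝ) ^ 2 / (classInner μ μ).re := by
      apply Finset.sum_le_sum
      intro μ hμ
      exact div_le_div_of_nonneg_right h1 (norm_pos hS (h3 hμ)).le
    linarith

end Gen

end Cfsg.Agent.H10.PrE5
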