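import Mathlib
import Cfsg.Agent.H10_PrD8

/-!
H10_PrF1: Peterfalvi (10.5): the bridge functions `α_ij` and `β` (H = K).
-/

set_option autoImplicit false
set_option linter.all false

namespace Cfsg.Agent.H10.PrF1

open Cfsg Cfsg.Agent.H3.CharIrr Cfsg.Agent.H3.CharComplete Cfsg.Agent.H3.CharInd Cfsg.Agent.H3.CharMult
  Cfsg.Agent.H3.CharBasic Cfsg.Agent.H3.CharCalc Cfsg.Agent.H3.Clifford Cfsg.Agent.H3.CharInt Cfsg.Agent.H3.CharQuot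
  Cfsg.Agent.H10.CycTI Cfsg.Agent.H10.CycTI2 Cfsg.Agent.H10.CycTI3 Cfsg.Agent.H10.CycTI4 Cfsg.Agent.H10.PrD2
  Cfsg.Agent.H10.PrD3 Cfsg.Agent.H10.PrD4 Cfsg.Agent.H10.PrD5 Cfsg.Agent.H10.Dade Cfsg.Agent.H10.PM Cfsg.Agent.H10.Coh
  Cfsg.Agent.H10.Coh2 Cfsg.Agent.H10.Coh3 Cfsg.Agent.H10.Coh4 Cfsg.Agent.H10.IndSet2 Cfsg.Agent.H10.OOClif Cfsg.Agent.H10.PrD6
  Cfsg.Agent.H10.PrD7 Cfsg.Agent.H10.PrD8
open scoped ComplexConjugate

variable {G : Type*} [Group G] [Fintype G] {L : Subgroup G} [Fintype L] {K : Subgroup L} {W₁ W₂ : Subgroup G} {A : Set G}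
  {R : G → Subgroup G} (h : PD L K K W₁ W₂ A R)
include h

theorem mem_A {x : L} : (x : G) ∈ A ↔ x ∈ K ∧ x ≠ 1 := by
  constructor
  · intro hx
    obtain ⟨k, hk, e⟩ := h.A_sub _ hx
    have e' : k = x := Subtype.ext e
    subst e'
    refine ⟨hk, fun h1 => A_ne h hx ?_⟩
    rw [h1]; rfl
  · rintro ⟨hx, hx1⟩
    exact h.A_cent x hx hx1 ⟨x, hx, hx1, rfl⟩

variable {μ : (↥(W₁ ⊔ W₂) →* ℂˣ) → (L → ℂ)} {δ : (↥(W₁ ⊔ W₂) →* ℂˣ) → ℂ} (hμ : MU K W₁ W₂ μ δ)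
  {ζ : L → ℂ} (hζ : IsIrrCharacter L ζ) (hζD : ζ ∈ indD K K ⊥) (hζ1 : ζ 1 = Nat.card W₁)

include hζD in
theorem zeta_off {x : L} (hx : x ∉ K) : ζ x = 0 := by
  obtain ⟨θ, -, -, -, rfl⟩ := hζD
  haveI := h.normal
  exact ind_of_not_mem h.normal _ hx

include hμ hζ hζD in
theorem zeta_mu (ω : ↥(W₁ ⊔ W₂) →* ℂˣ) : classInner ζ (μ ω) = 0 := by
  refine ci_irr_ne hζ (hμ.irr _) fun he => ?_
  obtain ⟨a, ha, ha1⟩ := exists_W1 h.toPT
  have h1 := zeta_off h hζD (x := ⟨a, h.W₁_le ha⟩) (fun hK => W1_ne h.toPT ha ha1 ((W_mem_K h.toPT (x := ⟨a, h.W₁_le ha⟩) (le_sup_left (a := W₁) ha)).1 hK))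
  rw [he, hμ.val ω ⟨a, h.W₁_le ha⟩ (le_sup_left (a := W₁) ha) (W1_ne h.toPT ha ha1)] at h1
  rcases mul_eq_zero.1 h1 with h2 | h2
  · exact d_ne h.toPT hμ ω h2
  · exact (ω _).ne_zero h2

/-- `α_ij` -/
def alp (μ : (↥(W₁ ⊔ W₂) →* ℂˣ) → (L → ℂ)) (δ : (↥(W₁ ⊔ W₂) →* ℂˣ) → ℂ) (ζ : L → ℂ) (n : ℤ) (φ ψ : ↥(W₁ ⊔ W₂) →* ℂˣ) : L → ℂ :=
  μ (φ * ψ) - δ ψ • μ φ - n • ζ

include hμ hζD hζ1 in
theorem alp_van {n : ℤ} {φ ψ : ↥(W₁ ⊔ W₂) →* ℂˣ} (hφ : X1 W₁ W₂ φ) (hψ : X2 W₁ W₂ ψ)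
    (hn : μ ψ 1 = δ ψ + n * Nat.card W₁) {x : L} (hx : (x : G) ∉ A0 L W₁ W₂ A) : alp μ δ ζ n φ ψ x = 0 := by
  have hφ1 := hμ.lin φ hφ
  by_cases hx1 : x = 1
  · subst hx1
    have e1 : μ φ 1 = 1 := hφ1.2.1 1 K.one_mem
    rw [alp, zc, Pi.sub_apply, Pi.sub_apply, Pi.smul_apply, Pi.smul_apply, smul_eq_mul, smul_eq_mul, deg_col h.toPT hμ _ _ hφ, hn, hζ1, e1]
    ring
  · have hxK : x ∉ K := fun hK => hx (Or.inl ((mem_A h).2 ⟨hK, hx1⟩))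
    obtain ⟨y, w, hw, hw2, e⟩ := conj_W h.toPT hxK
    have hw1 : (w : G) ∈ W₁ := by
      by_contra hw1
      apply hx
      refine Or.inr ⟨(y⁻¹ : L), (y⁻¹ : L).2, w, mem_V.2 ⟨hw, hw1, hw2⟩, ?_⟩
      rw [← e]; push_cast; group
    have hcl : ∀ f : L → ℂ, IsClassFunction L f → f x = f w := by
      intro f hf
      rw [← e]; exact (hf x y).symm
    have e1 : μ (φ * ψ) x = δ ψ * (φ ⟨w, hw⟩ : ℂ) := by
      rw [hcl _ (IsIrr.isClass (hμ.irr _)), hμ.val _ w hw hw2, sign_col' h.toPT hμ _ _ hφ, MonoidHom.mul_apply, hψ ⟨w, hw⟩ hw1, mul_one]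
    have e2 : μ φ x = (φ ⟨w, hw⟩ : ℂ) := by
      rw [hcl _ (IsIrr.isClass (hμ.irr _)), hφ1.2.2 w hw]
    rw [alp, zc, Pi.sub_apply, Pi.sub_apply, Pi.smul_apply, Pi.smul_apply, smul_eq_mul, smul_eq_mul, e1, e2, zeta_off h hζD hxK]
    ring

include hμ hζ hζD in
theorem alp_self {n : ℤ} {φ ψ : ↥(W₁ ⊔ W₂) →* ℂˣ} (hψ1 : ψ ≠ 1) :
    classInner (alp μ δ ζ n φ ψ) (alp μ δ ζ n φ ψ) = 2 + (n : ℂ) ^ 2 ∧ classInner (alp μ δ ζ n φ ψ) ζ = - n := by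
  have hne : φ * ψ ≠ φ := fun he => hψ1 (by
    have : φ * ψ = φ * 1 := by rw [he]; exact (mul_one φ).symm
    exact mul_left_cancel this)
  have h1 : classInner (μ (φ * ψ)) (μ φ) = 0 := ci_irr_ne (hμ.irr _) (hμ.irr _) fun he => hne (hμ.inj he)
  have h2 : classInner (μ φ) (μ (φ * ψ)) = 0 := ci_irr_ne (hμ.irr _) (hμ.irr _) fun he => hne (hμ.inj he).symm
  have h3 := zeta_mu h hμ hζ hζD
  have h4 : ∀ ω, classInner (μ ω) ζ = 0 := fun ω => by rw [← ci_conj_symm, h3, map_zero]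
  have h5 := ci_irr_self hζ
  have h6 := fun ω => ci_irr_self (hμ.irr ω)
  have hc := conj_d h.toPT hμ ψ
  have hdd := dd h.toPT hμ ψ
  have hz : conj ((n : ℤ) : ℂ) = n := Cfsg.Agent.H10.Sib.cint n
  constructor
  · rw [alp, zc]
    simp only [ci_sub_left, ci_sub_right, ci_smul_left, ci_smul_right, h1, h2, h3, h4, h5, h6, hc, hz]
    linear_combination hdd
  · rw [alp, zc]
    simp only [ci_sub_left, ci_smul_left, h4, h5]
    ring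

theorem one_hom (φ : ↥(W₁ ⊔ W₂) →* ℂˣ) : φ * 1 = φ := by
  ext w; simp

include hμ hζ in
theorem alp_gen (n : ℤ) (φ ψ : ↥(W₁ ⊔ W₂) →* ℂˣ) : IsGeneralizedCharacter L (alp μ δ ζ n φ ψ) := by
  refine IsGen.sub (IsGen.sub (IsGen.of_irr (hμ.irr _)) ?_) ?_
  · rcases hμ.sign ψ with e | e
    · rw [e, one_smul]; exact IsGen.of_irr (hμ.irr _)
    · rw [e]; simpa using IsGen.neg (IsGen.of_irr (hμ.irr φ))
  · exact zs_gen (S := {ζ}) (fun χ hχ => by rw [Set.mem_singleton_iff.1 hχ]; exact IsGen.of_irr hζ) (zs_zsmul _ (zs_sub rfl))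

/-- the image of `ζ` under a coherent extension -/
structure ZT {G : Type*} [Group G] [Fintype G] {W₁ W₂ : Subgroup G} (η : (↥(W₁ ⊔ W₂) →* ℂˣ) → (G → ℂ)) (Z : G → ℂ) : Prop where
  gen : IsGeneralizedCharacter G Z
  norm : classInner Z Z = 1
  orth : ∀ ω, classInner Z (η ω) = 0

variable {η : (↥(W₁ ⊔ W₂) →* ℂˣ) → (G → ℂ)} (hη : IsCyclicTIFamily W₁ W₂ η) {Z : G → ℂ} (hZ : ZT η Z)

include hη hZ in
theorem Z_V {w : G} (hw : w ∈ V W₁ W₂) : Z w = 0 := by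
  have hw' := mem_V.1 hw
  exact Cfsg.Agent.H10.CycTI3.zero_of_orth h.self hη (IsGen.isClass hZ.gen) hZ.orth ⟨w, hw'.1⟩ hw'.2.1 hw'.2.2

include hμ hζ hζD hζ1 hη hZ in
theorem alp_tau {n : ℤ} {φ ψ : ↥(W₁ ⊔ W₂) →* ℂˣ} (hφ : X1 W₁ W₂ φ) (hψ : X2 W₁ W₂ ψ) (hψ1 : ψ ≠ 1)
    (hn : μ ψ 1 = δ ψ + n * Nat.card W₁)
    (ha : classInner (dadeIsometry (A0 L W₁ W₂ A) L R (alp μ δ ζ n φ ψ)) Z = -n) :
    dadeIsometry (A0 L W₁ W₂ A) L R (alp μ δ ζ n φ ψ) = δ ψ • (η (φ * ψ) - η φ) - n • Z := by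
  set τ := dadeIsometry (A0 L W₁ W₂ A) L R with hτ
  set α := alp μ δ ζ n φ ψ with hα
  have hgen := alp_gen h hμ hζ n φ ψ
  have hvan : ∀ x : L, (x : G) ∉ A0 L W₁ W₂ A → α x = 0 := fun x hx => alp_van h hμ hζD hζ1 hφ hψ hn hx
  have hgenτ : IsGeneralizedCharacter G (τ α) := Cfsg.Agent.H10.Dade3.dade_gen h.dade hgen hvan
  have hnorm : classInner (τ α) (τ α) = 2 + (n : ℂ) ^ 2 := by
    rw [hτ, isometry h.dade (IsGen.isClass hgen) hvan (IsGen.isClass hgen), (alp_self h hμ hζ hζD hψ1).1]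
  have hz : conj ((n : ℤ) : ℂ) = n := Cfsg.Agent.H10.Sib.cint n
  have ha' : classInner Z (τ α) = -n := by rw [← ci_conj_symm, ha, map_neg, hz]
  have hX : classInner (τ α + (n : ℂ) • Z) (τ α + (n : ℂ) • Z) = 2 := by
    simp only [ci_add_left, ci_add_right, ci_smul_left, ci_smul_right, hnorm, ha, ha', hZ.norm, hz]
    ring
  have hXgen : IsGeneralizedCharacter G (τ α + (n : ℂ) • Z) := by
    rw [← zc]
    exact IsGen.add hgenτ (zs_gen (S := {Z}) (fun χ hχ => by rw [Set.mem_singleton_iff.1 hχ]; exact hZ.gen) (zs_zsmul _ (zs_sub rfl)))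
  have hdd := dd h.toPT hμ ψ
  have hcd := conj_d h.toPT hμ ψ
  have hYgen : IsGeneralizedCharacter G (δ ψ • (τ α + (n : ℂ) • Z)) := by
    rcases hμ.sign ψ with e | e
    · rw [e, one_smul]; exact hXgen
    · rw [e, neg_one_smul]; exact IsGen.neg hXgen
  have key := sub_eta h.self (odd_W h.toPT) hη hYgen (by
      rw [ci_smul_left, ci_smul_right, hX, hcd, ← mul_assoc, hdd, one_mul]) hφ hψ (X2_one (W₁ := W₁) (W₂ := W₂)) hψ1 (by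
      intro w hw1 hw2
      have hwV : (w : G) ∈ V W₁ W₂ := mem_V.2 ⟨w.2, hw1, hw2⟩
      have h1 := dade_val h.dade (IsGen.isClass hgen) (a := ⟨w, V_L h hwV⟩) (V_A0 h hwV)
      have h2 : (⟨w, V_L h hwV⟩ : L) ∉ K := V_not_K h (v := ⟨w, V_L h hwV⟩) hwV
      have e3 : α ⟨w, V_L h hwV⟩ = δ ψ * (((φ * ψ) w : ℂˣ) : ℂ) - δ ψ * (φ w : ℂ) := by
        rw [hα, alp, zc, Pi.sub_apply, Pi.sub_apply, Pi.smul_apply, Pi.smul_apply, smul_eq_mul, smul_eq_mul, zeta_off h hζD h2,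
          hμ.val (φ * ψ) ⟨w, V_L h hwV⟩ w.2 hw2, sign_col' h.toPT hμ _ _ hφ, (hμ.lin φ hφ).2.2 ⟨w, V_L h hwV⟩ w.2]
        simp
      have h4 : τ α w = α ⟨w, V_L h hwV⟩ := h1
      rw [Pi.smul_apply, Pi.add_apply, Pi.smul_apply, Z_V h hη hZ hwV, h4, e3, smul_eq_mul, smul_zero, add_zero, one_hom h]
      linear_combination ((((φ * ψ) w : ℂˣ) : ℂ) - (φ w : ℂ)) * hdd)
  rw [one_hom h] at key
  have : τ α + (n : ℂ) • Z = δ ψ • (η (φ * ψ) - η φ) := by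
    rw [← key, smul_smul, hdd, one_smul]
  rw [zc, ← this]
  abel

/-- `β = μ_0 - ζ` -/
noncomputable def bet (K : Subgroup L) (μ : (↥(W₁ ⊔ W₂) →* ℂˣ) → (L → ℂ)) (ζ : L → ℂ) : L → ℂ := red K μ 1 - ζ

omit h in
theorem bet_def : bet K μ ζ = red K μ 1 - ζ := rfl

include hμ hζD hζ1 in
theorem bet_van {x : L} (hx : (x : G) ∉ A) : bet K μ ζ x = 0 := by
  by_cases hx1 : x = 1
  · subst hx1
    rw [bet_def, Pi.sub_apply, red_one h.toPT hμ, (hμ.lin 1 X1_one).2.1 1 K.one_mem, hζ1, mul_one, sub_self]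
  · have hxK : x ∉ K := fun hK => hx ((mem_A h).2 ⟨hK, hx1⟩)
    rw [bet_def, Pi.sub_apply, red_off h.toPT hμ hxK, zeta_off h hζD hxK, sub_self]

include hμ hζ hζD in
theorem zeta_red (ψ : ↥(W₁ ⊔ W₂) →* ℂˣ) : classInner ζ (red K μ ψ) = 0 := by
  rw [red_sum h.toPT hμ, ci_sum_right]
  exact Finset.sum_eq_zero fun φ _ => zeta_mu h hμ hζ hζD _

include hμ hζ hζD in
theorem bet_self : classInner (bet K μ ζ) (bet K μ ζ) = Nat.card W₁ + 1 := by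
  classical
  have h3 := zeta_red h hμ hζ hζD 1
  have h4 : classInner (red K μ 1) ζ = 0 := by rw [← ci_conj_symm, h3, map_zero]
  have h5 := red_red h.toPT hμ (X2_one (W₁ := W₁) (W₂ := W₂)) (X2_one (W₁ := W₁) (W₂ := W₂))
  rw [if_pos rfl] at h5
  simp only [bet_def, ci_sub_left, ci_sub_right, h3, h4, h5, ci_irr_self hζ]
  ring

include hμ hζ hζD in
theorem bet_alp {n : ℤ} {φ ψ : ↥(W₁ ⊔ W₂) →* ℂˣ} (hφ : X1 W₁ W₂ φ) (hψ : X2 W₁ W₂ ψ) (hψ1 : ψ ≠ 1) :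
    classInner (bet K μ ζ) (alp μ δ ζ n φ ψ) = n - δ ψ := by
  classical
  have h3 := zeta_red h hμ hζ hζD 1
  have h4 : classInner (red K μ 1) ζ = 0 := by rw [← ci_conj_symm, h3, map_zero]
  have h5 := zeta_mu h hμ hζ hζD
  have h6 : classInner (red K μ 1) (μ (φ * ψ)) = 0 := by
    rw [red_mu h.toPT hμ X2_one hψ hφ, if_neg hψ1.symm]
  have h7 : classInner (red K μ 1) (μ φ) = 1 := by
    have := red_mu h.toPT hμ (X2_one (W₁ := W₁) (W₂ := W₂)) (X2_one (W₁ := W₁) (W₂ := W₂)) hφ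
    rwa [if_pos rfl, one_hom h] at this
  have hc := conj_d h.toPT hμ ψ
  have hz : conj ((n : ℤ) : ℂ) = n := Cfsg.Agent.H10.Sib.cint n
  rw [bet_def, alp, zc]
  simp only [ci_sub_left, ci_sub_right, ci_smul_right, h4, h5, h6, h7, hc, hz, ci_irr_self hζ]
  ring

include hμ hζ in
theorem bet_gen : IsGeneralizedCharacter L (bet K μ ζ) :=
  IsGen.sub (IsGen.of_char (red_char h.toPT hμ 1)) (IsGen.of_irr hζ)

include hμ hζ hζD hζ1 in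
theorem tau_bet_one : classInner (dadeIsometry (A0 L W₁ W₂ A) L R (bet K μ ζ)) (fun _ => 1) = 1 := by
  classical
  have h1 : classInner (red K μ 1) (fun _ => 1) = 1 := by
    have h2 := red_mu h.toPT hμ (X2_one (W₁ := W₁) (W₂ := W₂)) (X2_one (W₁ := W₁) (W₂ := W₂)) (X1_one (W₁ := W₁) (W₂ := W₂))
    rw [if_pos rfl, one_hom h] at h2
    have h3 : μ 1 = fun _ => 1 := by
      funext x
      by_cases hx : x ∈ K
      · exact (hμ.lin 1 X1_one).2.1 x hx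
      · obtain ⟨y, w, hw, hw2, e⟩ := conj_W h.toPT hx
        have e1 : μ 1 x = μ 1 w := by rw [← e]; exact (IsIrr.isClass (hμ.irr 1) x y).symm
        rw [e1, (hμ.lin 1 X1_one).2.2 w hw]; simp
    rwa [h3] at h2
  have h5 : classInner ζ (fun _ => 1) = 0 := by
    have h2 := zeta_mu h hμ hζ hζD 1
    have h3 : μ 1 = fun _ => 1 := by
      funext x
      by_cases hx : x ∈ K
      · exact (hμ.lin 1 X1_one).2.1 x hx
      · obtain ⟨y, w, hw, hw2, e⟩ := conj_W h.toPT hx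
        have e1 : μ 1 x = μ 1 w := by rw [← e]; exact (IsIrr.isClass (hμ.irr 1) x y).symm
        rw [e1, (hμ.lin 1 X1_one).2.2 w hw]; simp
    rwa [h3] at h2
  rw [recip h.dade (IsGen.isClass (bet_gen h hμ hζ)) (fun x hx => bet_van h hμ hζD hζ1 fun hA => hx (Or.inl hA))
    (χ := fun _ => 1) (ψ := fun _ => 1) (fun _ _ => rfl) (fun a ha => by
      rw [finsum_subgroup, Finset.sum_ite, Finset.sum_const_zero, add_zero, Finset.sum_const, nsmul_eq_mul, mul_one]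
      have : (Finset.univ.filter (fun u : G => u ∈ R (a : G))).card = Nat.card (R (a : G)) := by
        exact (Nat.subtype_card _ (fun x => by simp)).symm
      rw [this, inv_mul_cancel₀ (cardH_ne_zero _)])]
  rw [bet_def, ci_sub_left, h1, h5, sub_zero]

include hμ hζ hζD hζ1 hη hZ in
/-- `β^τ = Σ η_i0 - Z` -/
theorem bet_tau (n : (↥(W₁ ⊔ W₂) →* ℂˣ) → ℤ) (hn : ∀ ψ, X2 W₁ W₂ ψ → ψ ≠ 1 → Even (n ψ) ∧ n ψ ≠ 0)
    (hal : ∀ φ ψ, X1 W₁ W₂ φ → X2 W₁ W₂ ψ → ψ ≠ 1 →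
      dadeIsometry (A0 L W₁ W₂ A) L R (alp μ δ ζ (n ψ) φ ψ) = δ ψ • (η (φ * ψ) - η φ) - n ψ • Z)
    (halv : ∀ φ ψ, X1 W₁ W₂ φ → X2 W₁ W₂ ψ → ψ ≠ 1 → ∀ x : L, (x : G) ∉ A0 L W₁ W₂ A → alp μ δ ζ (n ψ) φ ψ x = 0) :
    dadeIsometry (A0 L W₁ W₂ A) L R (bet K μ ζ) = etaC η 1 - Z := by
  classical
  set τ := dadeIsometry (A0 L W₁ W₂ A) L R with hτ
  have hbg := bet_gen h hμ hζ
  have hbv : ∀ x : L, (x : G) ∉ A0 L W₁ W₂ A → bet K μ ζ x = 0 := fun x hx => bet_van h hμ hζD hζ1 fun hA => hx (Or.inl hA)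
  have hbτ : IsGeneralizedCharacter G (τ (bet K μ ζ)) := Cfsg.Agent.H10.Dade3.dade_gen h.dade hbg hbv
  obtain ⟨b, hb⟩ := ci_gen_int hbτ hZ.gen
  obtain ⟨c, hc⟩ := exists_int hη hbτ
  have hzb : conj ((b : ℤ) : ℂ) = b := Cfsg.Agent.H10.Sib.cint b
  have hnormb : classInner (τ (bet K μ ζ)) (τ (bet K μ ζ)) = Nat.card W₁ + 1 := by
    rw [hτ, isometry h.dade (IsGen.isClass hbg) hbv (IsGen.isClass hbg), bet_self h hμ hζ hζD]
  -- the grid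
  have hgrid : ∀ φ ψ, X1 W₁ W₂ φ → X2 W₁ W₂ ψ → ψ ≠ 1 → ∃ e : ℤ, (e = 1 ∨ e = -1) ∧ c (φ * ψ) = c φ - 1 + e * n ψ * (b + 1) := by
    intro φ ψ hφ hψ hψ1
    have h1 : classInner (τ (bet K μ ζ)) (τ (alp μ δ ζ (n ψ) φ ψ)) = n ψ - δ ψ := by
      rw [hτ, isometry h.dade (IsGen.isClass hbg) hbv (IsGen.isClass (alp_gen h hμ hζ _ _ _)), bet_alp h hμ hζ hζD hφ hψ hψ1]
    rw [hal φ ψ hφ hψ hψ1, zc, ci_sub_right, ci_smul_right, ci_smul_right, ci_sub_right, hc, hc, hb, conj_d h.toPT hμ,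
      Cfsg.Agent.H10.Sib.cint] at h1
    rcases hμ.sign ψ with e | e
    · refine ⟨1, Or.inl rfl, ?_⟩
      rw [e] at h1
      have : ((c (φ * ψ) : ℤ) : ℂ) = ((c φ - 1 + 1 * n ψ * (b + 1) : ℤ) : ℂ) := by push_cast; linear_combination h1
      exact_mod_cast this
    · refine ⟨-1, Or.inr rfl, ?_⟩
      rw [e] at h1
      have : ((c (φ * ψ) : ℤ) : ℂ) = ((c φ - 1 + (-1) * n ψ * (b + 1) : ℤ) : ℂ) := by push_cast; linear_combination -h1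
      exact_mod_cast this
  have hc1 : c 1 = 1 := by
    have h1 := tau_bet_one h hμ hζ hζD hζ1
    rw [← hη.map_one, hc] at h1
    exact_mod_cast h1
  -- the function f
  set f : G → ℂ := τ (bet K μ ζ) - (b : ℂ) • Z with hf
  have hbs : classInner Z (τ (bet K μ ζ)) = b := by rw [← ci_conj_symm, hb, hzb]
  have hfn : classInner f f = ((Nat.card W₁ + 1 - b ^ 2 : ℤ) : ℂ) := by
    rw [hf]
    simp only [ci_sub_left, ci_sub_right, ci_smul_left, ci_smul_right, hnormb, hb, hbs, hZ.norm, hzb]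
    push_cast; ring
  have hfc : ∀ ω, classInner f (η ω) = c ω := by
    intro ω
    rw [hf, ci_sub_left, ci_smul_left, hZ.orth, hc, mul_zero, sub_zero]
  obtain ⟨ψ₁, ψ₂, k1, k2, k10, k20, k12⟩ := two_cols h.self (odd_W h.toPT) hη 1 (X2_one (W₁ := W₁) (W₂ := W₂))
  have hsum := sum_sq_le hη hfc ((X1F W₁ W₂ ×ˢ ({1, ψ₁, ψ₂} : Finset (↥(W₁ ⊔ W₂) →* ℂˣ))).image fun p => p.1 * p.2)
    (n := (Nat.card W₁ + 1 - b ^ 2 : ℤ)) (by rw [hfn, Complex.intCast_re])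
  rw [Finset.sum_image (by
    rintro ⟨a, a'⟩ ha ⟨d, d'⟩ hd he
    rw [Finset.coe_product, Set.mem_prod] at ha hd
    have hx : ∀ x ∈ ({1, ψ₁, ψ₂} : Finset (↥(W₁ ⊔ W₂) →* ℂˣ)), X2 W₁ W₂ x := by
      intro x hx
      simp only [Finset.mem_insert, Finset.mem_singleton] at hx
      rcases hx with rfl | rfl | rfl
      exacts [X2_one, k1, k2]
    obtain ⟨h1, h2⟩ := X_inj (mem_X1F.1 ha.1) (mem_X1F.1 hd.1) (hx _ ha.2) (hx _ hd.2) (hdisj h.self) (hcomm h.self) he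
    exact Prod.ext h1 h2), Finset.sum_product] at hsum
  have hrow : ∀ φ, ∑ ψ ∈ ({1, ψ₁, ψ₂} : Finset (↥(W₁ ⊔ W₂) →* ℂˣ)), c (φ * ψ) ^ 2 = c φ ^ 2 + (c (φ * ψ₁) ^ 2 + c (φ * ψ₂) ^ 2) := by
    intro φ
    rw [Finset.sum_insert, Finset.sum_insert, Finset.sum_singleton, one_hom h]
    · rw [Finset.mem_singleton]; exact k12
    · rw [Finset.mem_insert, Finset.mem_singleton, not_or]; exact ⟨k10.symm, k20.symm⟩
  simp only [hrow] at hsum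
  have hsq : ∀ z : ℤ, z ≠ 0 → 1 ≤ z ^ 2 := fun z hz => int_sq_pos hz
  have hrow1 : ∀ φ ∈ X1F W₁ W₂, 1 ≤ c φ ^ 2 + (c (φ * ψ₁) ^ 2 + c (φ * ψ₂) ^ 2) := by
    intro φ hφ
    obtain ⟨e, he, h1⟩ := hgrid φ ψ₁ (mem_X1F.1 hφ) k1 k10
    obtain ⟨r, hr⟩ := (hn ψ₁ k1 k10).1
    by_cases h2 : c φ = 0
    · have h3 : c (φ * ψ₁) ≠ 0 := by
        rw [h1, h2, hr]
        rcases he with rfl | rfl
        · intro h4
          have h5 : 2 * (r * (b + 1)) = 1 := by linear_combination h4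
          omega
        · intro h4
          have h5 : 2 * (r * (b + 1)) = -1 := by linear_combination -h4
          omega
      have := hsq _ h3
      nlinarith [sq_nonneg (c φ), sq_nonneg (c (φ * ψ₂))]
    · have := hsq _ h2
      nlinarith [sq_nonneg (c (φ * ψ₁)), sq_nonneg (c (φ * ψ₂))]
  have hb1 : b = -1 := by
    by_contra hb1
    have h1m : (1 : ↥(W₁ ⊔ W₂) →* ℂˣ) ∈ X1F W₁ W₂ := mem_X1F.2 X1_one
    rw [← Finset.add_sum_erase _ _ h1m] at hsum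
    have h2 : ((X1F W₁ W₂).erase 1).card = Nat.card W₁ - 1 := by
      rw [Finset.card_erase_of_mem h1m, card_X1F h.self]
    have h3 : ((Nat.card W₁ : ℤ) - 1) ≤ ∑ φ ∈ (X1F W₁ W₂).erase 1, (c φ ^ 2 + (c (φ * ψ₁) ^ 2 + c (φ * ψ₂) ^ 2)) := by
      have h4 := Finset.card_nsmul_le_sum ((X1F W₁ W₂).erase 1) (fun φ => (c φ ^ 2 + (c (φ * ψ₁) ^ 2 + c (φ * ψ₂) ^ 2))) 1
        (fun φ hφ => hrow1 φ (Finset.mem_of_mem_erase hφ))
      rw [h2, nsmul_eq_mul, mul_one, Nat.cast_sub Nat.card_pos] at h4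
      exact_mod_cast h4
    obtain ⟨e, he, h5⟩ := hgrid 1 ψ₁ X1_one k1 k10
    obtain ⟨⟨r, hr⟩, hn0⟩ := hn ψ₁ k1 k10
    have h6 : c (1 * ψ₁) ^ 2 = (n ψ₁ * (b + 1)) ^ 2 := by
      rw [h5, hc1]
      rcases he with rfl | rfl <;> ring
    have h7 : 4 ≤ (n ψ₁ * (b + 1)) ^ 2 := by
      have h8 : r * (b + 1) ≠ 0 := by
        apply mul_ne_zero
        · rintro rfl; exact hn0 (by rw [hr]; rfl)
        · intro h9; apply hb1; linarith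
      have h9 := hsq _ h8
      have h10 : (n ψ₁ * (b + 1)) ^ 2 = 4 * (r * (b + 1)) ^ 2 := by rw [hr]; ring
      linarith
    rw [h6, hc1] at hsum
    nlinarith [sq_nonneg (c (1 * ψ₂)), sq_nonneg b]
  have hcφ : ∀ φ ∈ X1F W₁ W₂, c φ = 1 := by
    intro φ hφ
    have h4 := Finset.card_nsmul_le_sum ((X1F W₁ W₂).erase φ) (fun φ => (c φ ^ 2 + (c (φ * ψ₁) ^ 2 + c (φ * ψ₂) ^ 2))) 1
        (fun φ' hφ' => hrow1 φ' (Finset.mem_of_mem_erase hφ'))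
    rw [Finset.card_erase_of_mem hφ, card_X1F h.self, nsmul_eq_mul, mul_one, Nat.cast_sub Nat.card_pos] at h4
    rw [← Finset.add_sum_erase _ _ hφ, hb1] at hsum
    obtain ⟨e, he, h5⟩ := hgrid φ ψ₁ (mem_X1F.1 hφ) k1 k10
    obtain ⟨e', he', h6⟩ := hgrid φ ψ₂ (mem_X1F.1 hφ) k2 k20
    rw [hb1] at h5 h6
    have h7 : c φ ^ 2 + ((c φ - 1) ^ 2 + (c φ - 1) ^ 2) ≤ 1 := by
      have h8 : c (φ * ψ₁) = c φ - 1 := by rw [h5]; ring
      have h9 : c (φ * ψ₂) = c φ - 1 := by rw [h6]; ring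
      rw [h8, h9] at hsum
      push_cast at h4
      linarith
    nlinarith
  have hE : classInner (etaC η 1) (etaC η 1) = Nat.card W₁ := by
    rw [etaC_etaC h hμ hη X2_one X2_one, if_pos rfl]
  have hfE : classInner f (etaC η 1) = Nat.card W₁ := by
    rw [etaC, ci_sum_right, Finset.sum_congr rfl (fun φ hφ => by rw [one_hom h, hfc, hcφ φ hφ]), Finset.sum_const, card_X1F h.self]
    simp
  have hEf : classInner (etaC η 1) f = Nat.card W₁ := by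
    rw [← ci_conj_symm, hfE, Complex.conj_natCast]
  have h0 : classInner (f - etaC η 1) (f - etaC η 1) = 0 := by
    have e1 : classInner (f - etaC η 1) (f - etaC η 1) = classInner f f - classInner f (etaC η 1) - (classInner (etaC η 1) f - classInner (etaC η 1) (etaC η 1)) := by
      rw [ci_sub_left, ci_sub_right f, ci_sub_right (etaC η 1)]
    rw [e1, hfn, hfE, hEf, hE, hb1]
    push_cast; ring
  have h1 : f - etaC η 1 = 0 := by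
    exact ci_self_eq_zero h0
  rw [hf, hb1] at h1
  have h2 : τ (bet K μ ζ) = etaC η 1 - Z := by
    have := sub_eq_zero.1 h1
    rw [← this]
    push_cast
    rw [neg_one_smul]
    abel
  exact h2

end Cfsg.Agent.H10.PrF1
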