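import Mathlib
import Cfsg.Agent.H10_PrF1
import Cfsg.Agent.H10_PrE5

/-!
H10_PrF2: Peterfalvi (10.5), (10.6): the bridge under coherence.
-/

set_option autoImplicit false
set_option linter.all false

namespace Cfsg.Agent.H10.PrF2

open Cfsg Cfsg.Agent.H3.CharIrr Cfsg.Agent.H3.CharComplete Cfsg.Agent.H3.CharInd Cfsg.Agent.H3.CharMult
  Cfsg.Agent.H3.CharBasic Cfsg.Agent.H3.CharCalc Cfsg.Agent.H3.Clifford Cfsg.Agent.H3.CharInt Cfsg.Agent.H3.CharQuot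
  Cfsg.Agent.H10.CycTI Cfsg.Agent.H10.CycTI2 Cfsg.Agent.H10.CycTI3 Cfsg.Agent.H10.CycTI4 Cfsg.Agent.H10.PrD2
  Cfsg.Agent.H10.PrD3 Cfsg.Agent.H10.PrD4 Cfsg.Agent.H10.PrD5 Cfsg.Agent.H10.Dade Cfsg.Agent.H10.PM Cfsg.Agent.H10.Coh
  Cfsg.Agent.H10.Coh2 Cfsg.Agent.H10.Coh3 Cfsg.Agent.H10.Coh4 Cfsg.Agent.H10.IndSet2 Cfsg.Agent.H10.OOClif Cfsg.Agent.H10.PrD6
  Cfsg.Agent.H10.PrD7 Cfsg.Agent.H10.PrD8 Cfsg.Agent.H10.PrF1 Cfsg.Agent.H10.PrE5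
open scoped ComplexConjugate

/-- arithmetic -/
theorem arith {n a w d s : ℤ} (hn : 2 ≤ n) (hw : 3 ≤ w) (hs : s = 1 ∨ s = -1) (hd : d = s + n * w)
    (h : (1 + d * a) ^ 2 ≤ (2 + 2 * n * a) * w) : a = 0 := by
  have h0 : 0 ≤ 1 + n * a := by
    by_contra hc
    nlinarith [sq_nonneg (1 + d * a)]
  have ha : 0 ≤ a := by
    by_contra hc
    nlinarith
  by_contra hne
  have ha1 : 1 ≤ a := by omega
  set D := n * w with hD
  have hD6 : 6 ≤ D := by nlinarith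
  have h2 : 2 * w ≤ D := by nlinarith
  have h3 : a * D - a + 1 ≤ 1 + d * a := by
    rcases hs with rfl | rfl <;> nlinarith
  have h4 : 0 ≤ a * D - a + 1 := by nlinarith
  have h5 : (a * D - a + 1) ^ 2 ≤ (1 + d * a) ^ 2 := by nlinarith
  have h6 : (2 + 2 * n * a) * w ≤ D + 2 * D * a := by nlinarith
  have h7 : (a * D - a + 1) ^ 2 ≤ 3 * (D * a) := by nlinarith
  have h8 : 6 * a ≤ D * a := by nlinarith
  set P := D * a with hP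
  have e1 : a * D - a + 1 = P - a + 1 := by rw [hP]; ring
  rw [e1] at h7
  have h9 : (5 * P + 6) ^ 2 ≤ (6 * (P - a + 1)) ^ 2 := by
    apply pow_le_pow_left₀
    · nlinarith
    · nlinarith
  have h10 : (6 * (P - a + 1)) ^ 2 = 36 * (P - a + 1) ^ 2 := by ring
  nlinarith [sq_nonneg (25 * P - 24)]

/-- linear characters are trivial on commutators -/
theorem lin_comm {L : Type*} [Group L] [Finite L] {K : Subgroup L} [Fintype K] {θ : K → ℂ} (hθ : IsIrrCharacter K θ) (h1 : θ 1 = 1) {k : K}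
    (hk : (k : L) ∈ ⁅K, K⁆) : θ k = 1 := by
  obtain ⟨f, hf⟩ := IsChar.hom_units_of_one (IsIrr.isCharacter hθ) h1
  have h2 : commutator K ≤ f.ker := Abelianization.commutator_subset_ker f
  have h3 : k ∈ commutator K := by
    have h4 : (commutator K).map K.subtype = ⁅K, K⁆ := by
      rw [commutator_def, Subgroup.map_commutator, ← MonoidHom.range_eq_map, Subgroup.range_subtype]
    rw [← h4] at hk
    obtain ⟨y, hy, e⟩ := hk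
    have : y = k := Subtype.ext e
    rwa [← this]
  have h4 := h2 h3
  rw [MonoidHom.mem_ker] at h4
  rw [hf, h4]; simp

variable {G : Type*} [Group G] [Fintype G] {L : Subgroup G} [Fintype L] {K : Subgroup L} {W₁ W₂ : Subgroup G} {A : Set G}
  {R : G → Subgroup G} (h : PD L K K W₁ W₂ A R)
  {μ : (↥(W₁ ⊔ W₂) →* ℂˣ) → (L → ℂ)} {δ : (↥(W₁ ⊔ W₂) →* ℂˣ) → ℂ} (hμ : MU K W₁ W₂ μ δ)
include h

include hμ in
/-- the numbers `n_j` -/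
theorem exists_n (hW2 : W₂.subgroupOf L ≤ ⁅K, K⁆) : ∃ n : (↥(W₁ ⊔ W₂) →* ℂˣ) → ℤ, (∀ ψ, μ ψ 1 = δ ψ + n ψ * Nat.card W₁) ∧
    ∀ ψ, X2 W₁ W₂ ψ → ψ ≠ 1 → Even (n ψ) ∧ 2 ≤ n ψ := by
  choose n hn using hμ.cong
  refine ⟨n, fun ψ => by linear_combination hn ψ, fun ψ hψ hψ1 => ?_⟩
  have h1 := hn ψ
  obtain ⟨m, hm0, hm⟩ := IsIrr.one_eq_nat (hμ.irr ψ)
  have hodd : Odd m := by
    obtain ⟨m', _, e, hd⟩ := IsIrr.dvd_card (hμ.irr ψ)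
    have : m' = m := by rw [hm] at e; exact_mod_cast e.symm
    subst this
    exact Odd.of_dvd_nat (odd_L h.toPT) hd
  obtain ⟨r, hr⟩ := hodd
  obtain ⟨k, hk⟩ := odd_W1 h.toPT
  have hev : Even (n ψ) := by
    rw [← Int.not_odd_iff_even]
    rintro ⟨t, ht⟩
    rw [hm, ht, hr, hk] at h1
    rcases hμ.sign ψ with e | e
    · rw [e] at h1
      have h2 : ((2 * (r : ℤ) : ℤ) : ℂ) = (((2 * t + 1) * (2 * k + 1) : ℤ) : ℂ) := by push_cast at h1 ⊢; linear_combination h1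
      have h3 : (2 * (r : ℤ)) = (2 * t + 1) * (2 * k + 1) := by exact_mod_cast h2
      have h4 : 2 * (r - 2 * t * k - t - k) = (1 : ℤ) := by linear_combination h3
      omega
    · rw [e] at h1
      have h2 : ((2 * (r : ℤ) + 2 : ℤ) : ℂ) = (((2 * t + 1) * (2 * k + 1) : ℤ) : ℂ) := by push_cast at h1 ⊢; linear_combination h1
      have h3 : (2 * (r : ℤ) + 2) = (2 * t + 1) * (2 * k + 1) := by exact_mod_cast h2
      have h4 : 2 * (r + 1 - 2 * t * k - t - k) = (1 : ℤ) := by linear_combination h3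
      omega
  have hne : n ψ ≠ 0 := by
    intro h0
    rw [h0, hm] at h1
    have hm1 : m = 1 := by
      rcases hμ.sign ψ with e | e
      · rw [e] at h1
        have : (m : ℂ) = 1 := by linear_combination h1
        exact_mod_cast this
      · exfalso
        rw [e] at h1
        have : ((m + 1 : ℕ) : ℂ) = 0 := by push_cast; linear_combination h1
        have h2 : m + 1 = 0 := by exact_mod_cast this
        omega
    have hX : ¬ X1 W₁ W₂ ψ := fun hc => hψ1 (eq_one_of_X hc hψ (hdisj h.self) (hcomm h.self))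
    obtain ⟨w, hw, hne⟩ := not_ker h.toPT hμ hX
    apply hne
    have hlin : (fun k : K => μ ψ k) 1 = 1 := by
      show μ ψ ((1 : K) : L) = 1
      rw [Subgroup.coe_one, hm, hm1]; simp
    have hw' : w ∈ ⁅K, K⁆ := hW2 hw
    have hwK : w ∈ K := Subgroup.commutator_le_self K hw'
    haveI := Fintype.ofFinite K
    have := lin_comm (hμ.res_irr ψ) hlin (k := ⟨w, hwK⟩) hw'
    rw [hm, hm1]
    simpa using this
  refine ⟨hev, ?_⟩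
  have hpos : 0 < n ψ := by
    by_contra hc
    have hneg : n ψ ≤ -1 := by omega
    have h3 := three_W1 h.toPT
    rw [hm] at h1
    rcases hμ.sign ψ with e | e
    · rw [e] at h1
      have h2 : (m : ℤ) - 1 = n ψ * Nat.card W₁ := by
        have : (((m : ℤ) - 1 : ℤ) : ℂ) = ((n ψ * Nat.card W₁ : ℤ) : ℂ) := by push_cast; exact h1
        exact_mod_cast this
      have h3' : (3 : ℤ) ≤ Nat.card W₁ := by exact_mod_cast h3
      nlinarith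
    · rw [e] at h1
      have h2 : (m : ℤ) + 1 = n ψ * Nat.card W₁ := by
        have : (((m : ℤ) + 1 : ℤ) : ℂ) = ((n ψ * Nat.card W₁ : ℤ) : ℂ) := by push_cast; linear_combination h1
        exact_mod_cast this
      have h3' : (3 : ℤ) ≤ Nat.card W₁ := by exact_mod_cast h3
      nlinarith
  obtain ⟨r, hr⟩ := hev
  omega

variable {ζ : L → ℂ} (hζ : IsIrrCharacter L ζ) (hζD : ζ ∈ indD K K ⊥) (hζ1 : ζ 1 = Nat.card W₁)
  {η : (↥(W₁ ⊔ W₂) →* ℂˣ) → (G → ℂ)} (hη : IsCyclicTIFamily W₁ W₂ η)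

include hμ hζ hζD hη in
/-- the image of `ζ` is orthogonal to the `η` -/
theorem zt {S₀ : Set (L → ℂ)} (hS₀ : S₀ ⊆ indD K K ⊥) (hζS : ζ ∈ S₀) (hζS' : conjFun ζ ∈ S₀) {τ₁ : (L → ℂ) → (G → ℂ)}
    (e : Ext S₀ (dadeIsometry (A0 L W₁ W₂ A) L R) τ₁) : ZT η (τ₁ ζ) := by
  classical
  have hc : conjFun ζ ≠ ζ := indD_conj_ne h hζD
  have hcirr : IsIrrCharacter L (conjFun ζ) := IsIrr.conj hζ
  have h11 : classInner (τ₁ ζ) (τ₁ ζ) = 1 := by rw [e.1.2.2.1 _ (zs_sub hζS) _ (zs_sub hζS), ci_irr_self hζ]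
  have h22 : classInner (τ₁ (conjFun ζ)) (τ₁ (conjFun ζ)) = 1 := by rw [e.1.2.2.1 _ (zs_sub hζS') _ (zs_sub hζS'), ci_irr_self hcirr]
  have h12 : classInner (τ₁ ζ) (τ₁ (conjFun ζ)) = 0 := by
    rw [e.1.2.2.1 _ (zs_sub hζS) _ (zs_sub hζS'), ci_irr_ne hζ hcirr hc.symm]
  have h21 : classInner (τ₁ (conjFun ζ)) (τ₁ ζ) = 0 := by rw [← ci_conj_symm, h12, map_zero]
  have g1 := e.1.2.2.2 _ (zs_sub hζS)
  have g2 := e.1.2.2.2 _ (zs_sub hζS')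
  have hreal : conjFun ζ 1 = ζ 1 := by
    obtain ⟨m, _, hm⟩ := IsIrr.one_eq_nat hζ
    rw [conjFun, hm, Complex.conj_natCast]
  have hsub := ext_sub e hζS hζS' hreal.symm
  have hzo : ζ - conjFun ζ ∈ zspanOn S₀ {1}ᶜ := by
    rw [zo_iff]
    exact ⟨zs_diff (zs_sub hζS) (zs_sub hζS'), by rw [Pi.sub_apply, hreal, sub_self]⟩
  refine ⟨g1, h11, fun ω => ?_⟩
  have h1 : classInner (τ₁ ζ - τ₁ (conjFun ζ)) (η ω) = 0 := by
    refine orth_eta h.self (odd_W h.toPT) hη (IsGen.sub g1 g2) ?_ ?_ ω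
    · simp only [ci_sub_left, ci_sub_right, h11, h12, h21, h22]
      norm_num
    · intro w hw1 hw2
      rw [← hsub]
      exact tau_V h hS₀ hzo (mem_V.2 ⟨w.2, hw1, hw2⟩)
  obtain ⟨c, hc1⟩ := ci_gen_int g1 (eta_gen hη ω)
  rw [ci_sub_left, hc1] at h1
  have hc2 : classInner (τ₁ (conjFun ζ)) (η ω) = c := by linear_combination -h1
  have hzc : conj ((c : ℤ) : ℂ) = c := Cfsg.Agent.H10.Sib.cint c
  have hc1' : classInner (η ω) (τ₁ ζ) = c := by rw [← ci_conj_symm, hc1, hzc]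
  have hc2' : classInner (η ω) (τ₁ (conjFun ζ)) = c := by rw [← ci_conj_symm, hc2, hzc]
  have hn : classInner (η ω - (c : ℂ) • τ₁ ζ - (c : ℂ) • τ₁ (conjFun ζ)) (η ω - (c : ℂ) • τ₁ ζ - (c : ℂ) • τ₁ (conjFun ζ)) = ((1 - 2 * c ^ 2 : ℤ) : ℂ) := by
    simp only [ci_sub_left, ci_sub_right, ci_smul_left, ci_smul_right, h11, h12, h21, h22, hc1, hc2, hc1', hc2', eta_self hη, hzc]
    push_cast; ring
  have h3 := ci_self_re_nonneg (η ω - (c : ℂ) • τ₁ ζ - (c : ℂ) • τ₁ (conjFun ζ))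
  rw [hn, Complex.intCast_re] at h3
  have h4 : 0 ≤ 1 - 2 * c ^ 2 := by exact_mod_cast h3
  have h5 : c = 0 := by
    by_contra hne
    have := int_sq_pos hne
    omega
  rw [hc1, h5]; simp

include hμ hζ hζD hζ1 hη in
/-- the coefficient of `ζ^τ₁` in `α_ij^τ` -/
theorem alp_coef {S₀ : Set (L → ℂ)} (hS₀ : S₀ ⊆ indD K K ⊥) (hζS : ζ ∈ S₀) {τ₁ : (L → ℂ) → (G → ℂ)}
    (e : Ext S₀ (dadeIsometry (A0 L W₁ W₂ A) L R) τ₁) {φ ψ : ↥(W₁ ⊔ W₂) →* ℂˣ} (hφ : X1 W₁ W₂ φ) (hψ : X2 W₁ W₂ ψ) (hψ1 : ψ ≠ 1)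
    (hr : red K μ ψ ∈ S₀) {n : ℤ} (hn : μ ψ 1 = δ ψ + n * Nat.card W₁) (hn2 : 2 ≤ n) :
    classInner (dadeIsometry (A0 L W₁ W₂ A) L R (alp μ δ ζ n φ ψ)) (τ₁ ζ) = -n := by
  classical
  set τ := dadeIsometry (A0 L W₁ W₂ A) L R with hτ
  obtain ⟨m, hm0, hm⟩ := IsIrr.one_eq_nat (hμ.irr ψ)
  have hagen := alp_gen h hμ hζ n φ ψ
  have havan : ∀ x : L, (x : G) ∉ A0 L W₁ W₂ A → alp μ δ ζ n φ ψ x = 0 := fun x hx => alp_van h hμ hζD hζ1 hφ hψ hn hx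
  have hτgen : IsGeneralizedCharacter G (τ (alp μ δ ζ n φ ψ)) := Cfsg.Agent.H10.Dade3.dade_gen h.dade hagen havan
  have gz := e.1.2.2.2 _ (zs_sub hζS)
  obtain ⟨t, ht⟩ := ci_gen_int hτgen gz
  set a := t + n with ha
  have ht' : t = a - n := by rw [ha]; ring
  -- red - m ζ
  have hdeg : red K μ ψ 1 = (m : ℤ) * ζ 1 := by
    rw [red_one h.toPT hμ, hm, hζ1]; push_cast; ring
  have hz : red K μ ψ - (m : ℤ) • ζ ∈ zspanOn S₀ {1}ᶜ := by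
    rw [zo_iff]
    exact ⟨zs_diff (zs_sub hr) (zs_zsmul _ (zs_sub hζS)), by rw [zc, Pi.sub_apply, Pi.smul_apply, smul_eq_mul, hdeg, sub_self]⟩
  have hsub := ext_sub_m e hr hζS hdeg
  have hzv : ∀ x : L, (x : G) ∉ A0 L W₁ W₂ A → (red K μ ψ - (m : ℤ) • ζ) x = 0 := fun x hx =>
    zo_van h hS₀ hz fun hA => hx (Or.inl hA)
  have i1 : classInner (alp μ δ ζ n φ ψ) (red K μ ψ - (m : ℤ) • ζ) = 1 + m * n := by
    have h1 : classInner (μ (φ * ψ)) (red K μ ψ) = 1 := by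
      rw [← ci_conj_symm, red_mu h.toPT hμ hψ hψ hφ, if_pos rfl, map_one]
    have h2 : classInner (μ φ) (red K μ ψ) = 0 := by
      have := red_mu h.toPT hμ hψ (X2_one (W₁ := W₁) (W₂ := W₂)) hφ
      rw [one_hom h, if_neg hψ1] at this
      rw [← ci_conj_symm, this, map_zero]
    have h3 := zeta_red h hμ hζ hζD ψ
    have h4 : ∀ ω, classInner (μ ω) ζ = 0 := fun ω => by rw [← ci_conj_symm, zeta_mu h hμ hζ hζD, map_zero]
    rw [alp, zc n ζ, zc (m : ℤ) ζ]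
    simp only [ci_sub_left, ci_sub_right, ci_smul_left, ci_smul_right, h1, h2, h3, h4, ci_irr_self hζ, Cfsg.Agent.H10.Sib.cint]
    push_cast; ring
  have i2 : classInner (τ (alp μ δ ζ n φ ψ)) (τ₁ (red K μ ψ)) = ((1 + m * a : ℤ) : ℂ) := by
    have h1 : classInner (τ (alp μ δ ζ n φ ψ)) (τ (red K μ ψ - (m : ℤ) • ζ)) = 1 + m * n := by
      rw [hτ, isometry h.dade (IsGen.isClass hagen) havan (IsGen.isClass (zs_gen' h hS₀ hz.1)), i1]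
    rw [hsub, zc, ci_sub_right, ci_smul_right, ht, Cfsg.Agent.H10.Sib.cint, ht'] at h1
    push_cast at h1 ⊢
    linear_combination h1
  have i3 : classInner (τ₁ ζ) (τ₁ (red K μ ψ)) = 0 := by
    rw [e.1.2.2.1 _ (zs_sub hζS) _ (zs_sub hr), zeta_red h hμ hζ hζD]
  have i4 : classInner (τ₁ ζ) (τ₁ ζ) = 1 := by rw [e.1.2.2.1 _ (zs_sub hζS) _ (zs_sub hζS), ci_irr_self hζ]
  have i5 : classInner (τ₁ (red K μ ψ)) (τ₁ (red K μ ψ)) = Nat.card W₁ := by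
    rw [e.1.2.2.1 _ (zs_sub hr) _ (zs_sub hr), red_red h.toPT hμ hψ hψ, if_pos rfl]
  have i6 : classInner (τ (alp μ δ ζ n φ ψ)) (τ (alp μ δ ζ n φ ψ)) = 2 + (n : ℂ) ^ 2 := by
    rw [hτ, isometry h.dade (IsGen.isClass hagen) havan (IsGen.isClass hagen), (alp_self h hμ hζ hζD hψ1).1]
  have ht2 : classInner (τ₁ ζ) (τ (alp μ δ ζ n φ ψ)) = t := by rw [← ci_conj_symm, ht, Cfsg.Agent.H10.Sib.cint]
  -- Cauchy-Schwarz
  set X := τ (alp μ δ ζ n φ ψ) + (n : ℂ) • τ₁ ζ with hX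
  have hXX : classInner X X = ((2 + 2 * n * a : ℤ) : ℂ) := by
    rw [hX]
    simp only [ci_add_left, ci_add_right, ci_smul_left, ci_smul_right, i6, ht, ht2, i4, Cfsg.Agent.H10.Sib.cint]
    rw [ht']; push_cast; ring
  have hXr : classInner X (τ₁ (red K μ ψ)) = ((1 + m * a : ℤ) : ℂ) := by
    rw [hX, ci_add_left, ci_smul_left, i2, i3, mul_zero, add_zero]
  have hb := bessel_le (ι := Unit) {()} (fun _ => τ₁ (red K μ ψ)) X (fun _ => ((1 + m * a : ℤ) : ℝ)) (fun _ => (Nat.card W₁ : ℝ)) (by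
      intro _ _ _ _
      rw [i5]; simp) (by
      intro _ _
      exact_mod_cast Nat.card_pos) (by
      intro _ _
      rw [hXr]; simp)
  rw [Finset.sum_singleton, hXX, Complex.intCast_re] at hb
  have hw0 : (0 : ℝ) < Nat.card W₁ := by exact_mod_cast Nat.card_pos
  rw [div_le_iff₀ hw0] at hb
  have hb' : (1 + (m : ℤ) * a) ^ 2 ≤ (2 + 2 * n * a) * Nat.card W₁ := by exact_mod_cast hb
  have hw3 : (3 : ℤ) ≤ Nat.card W₁ := by exact_mod_cast three_W1 h.toPT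
  have ha0 : a = 0 := by
    rw [hm] at hn
    rcases hμ.sign ψ with es | es
    · refine arith (s := 1) hn2 hw3 (Or.inl rfl) ?_ hb'
      rw [es] at hn
      have : ((m : ℤ) : ℂ) = ((1 + n * Nat.card W₁ : ℤ) : ℂ) := by push_cast; exact hn
      exact_mod_cast this
    · refine arith (s := -1) hn2 hw3 (Or.inr rfl) ?_ hb'
      rw [es] at hn
      have : ((m : ℤ) : ℂ) = ((-1 + n * Nat.card W₁ : ℤ) : ℂ) := by push_cast; exact hn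
      exact_mod_cast this
  rw [ht, ht', ha0]
  push_cast; ring

/-- the bridge -/
structure BR {G : Type*} [Group G] [Fintype G] (L : Subgroup G) [Fintype L] (K : Subgroup L) (W₁ W₂ : Subgroup G) (A : Set G)
    (R : G → Subgroup G) (μ : (↥(W₁ ⊔ W₂) →* ℂˣ) → (L → ℂ)) (δ : (↥(W₁ ⊔ W₂) →* ℂˣ) → ℂ) (η : (↥(W₁ ⊔ W₂) →* ℂˣ) → (G → ℂ))
    (ζ : L → ℂ) (Z : G → ℂ) (n : (↥(W₁ ⊔ W₂) →* ℂˣ) → ℤ) : Prop where
  zt : ZT η Z
  deg : ∀ ψ, μ ψ 1 = δ ψ + n ψ * Nat.card W₁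
  even : ∀ ψ, X2 W₁ W₂ ψ → ψ ≠ 1 → Even (n ψ) ∧ 2 ≤ n ψ
  alp : ∀ φ ψ, X1 W₁ W₂ φ → X2 W₁ W₂ ψ → ψ ≠ 1 →
    dadeIsometry (A0 L W₁ W₂ A) L R (alp μ δ ζ (n ψ) φ ψ) = δ ψ • (η (φ * ψ) - η φ) - n ψ • Z
  bet : dadeIsometry (A0 L W₁ W₂ A) L R (bet K μ ζ) = etaC η 1 - Z

include hμ hζ hζD hζ1 hη in
theorem br_of {Z : G → ℂ} (hz : ZT η Z) (hW2 : W₂.subgroupOf L ≤ ⁅K, K⁆)
    (hcoef : ∀ (n : ℤ) φ ψ, X1 W₁ W₂ φ → X2 W₁ W₂ ψ → ψ ≠ 1 → μ ψ 1 = δ ψ + n * Nat.card W₁ → 2 ≤ n →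
      classInner (dadeIsometry (A0 L W₁ W₂ A) L R (PrF1.alp μ δ ζ n φ ψ)) Z = -n) : ∃ n, BR L K W₁ W₂ A R μ δ η ζ Z n := by
  obtain ⟨n, hn, hev⟩ := exists_n h hμ hW2
  have hal : ∀ φ ψ, X1 W₁ W₂ φ → X2 W₁ W₂ ψ → ψ ≠ 1 →
    dadeIsometry (A0 L W₁ W₂ A) L R (PrF1.alp μ δ ζ (n ψ) φ ψ) = δ ψ • (η (φ * ψ) - η φ) - n ψ • Z := fun φ ψ h1 h2 h3 =>
    alp_tau h hμ hζ hζD hζ1 hη hz h1 h2 h3 (hn ψ) (hcoef _ φ ψ h1 h2 h3 (hn ψ) (hev ψ h2 h3).2)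
  refine ⟨n, hz, hn, hev, hal, ?_⟩
  exact bet_tau h hμ hζ hζD hζ1 hη hz n (fun ψ h1 h2 => ⟨(hev ψ h1 h2).1, by have := (hev ψ h1 h2).2; omega⟩) hal
    (fun φ ψ h1 h2 h3 x hx => alp_van h hμ hζD hζ1 h1 h2 (hn ψ) hx)

include hμ hζ hζD hζ1 hη in
theorem br_coh {S₀ : Set (L → ℂ)} (hS₀ : S₀ ⊆ indD K K ⊥) (hζS : ζ ∈ S₀) (hζS' : conjFun ζ ∈ S₀) {τ₁ : (L → ℂ) → (G → ℂ)}
    (e : Ext S₀ (dadeIsometry (A0 L W₁ W₂ A) L R) τ₁) (hr : ∀ ψ, X2 W₁ W₂ ψ → ψ ≠ 1 → red K μ ψ ∈ S₀) (hW2 : W₂.subgroupOf L ≤ ⁅K, K⁆) :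
    ∃ n, BR L K W₁ W₂ A R μ δ η ζ (τ₁ ζ) n :=
  br_of h hμ hζ hζD hζ1 hη (PrF2.zt h hμ hζ hζD hη hS₀ hζS hζS' e) hW2 fun n φ ψ h1 h2 h3 h4 h5 =>
    alp_coef h hμ hζ hζD hζ1 hη hS₀ hζS e h1 h2 h3 (hr ψ h2 h3) h4 h5

end Cfsg.Agent.H10.PrF2
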