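import Mathlib
import Cfsg.Agent.H10_PrF2

/-!
H10_PrF3: the lower bound for the norm of `ζ^τ₁` on the support of the Dade map (Peterfalvi (7.x), (10.7)).
-/

set_option autoImplicit false
set_option linter.all false

namespace Cfsg.Agent.H10.PrF3

open Cfsg Cfsg.Agent.H3.CharIrr Cfsg.Agent.H3.CharComplete Cfsg.Agent.H3.CharInd Cfsg.Agent.H3.CharMult
  Cfsg.Agent.H3.CharBasic Cfsg.Agent.H3.CharCalc Cfsg.Agent.H3.Clifford Cfsg.Agent.H3.CharInt Cfsg.Agent.H3.CharQuot
  Cfsg.Agent.H10.CycTI Cfsg.Agent.H10.CycTI2 Cfsg.Agent.H10.CycTI3 Cfsg.Agent.H10.CycTI4 Cfsg.Agent.H10.PrD2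
  Cfsg.Agent.H10.PrD3 Cfsg.Agent.H10.PrD4 Cfsg.Agent.H10.PrD5 Cfsg.Agent.H10.Dade Cfsg.Agent.H10.PM Cfsg.Agent.H10.Coh
  Cfsg.Agent.H10.Coh2 Cfsg.Agent.H10.Coh3 Cfsg.Agent.H10.Coh4 Cfsg.Agent.H10.IndSet2 Cfsg.Agent.H10.OOClif Cfsg.Agent.H10.PrD6
  Cfsg.Agent.H10.PrD7 Cfsg.Agent.H10.PrD8 Cfsg.Agent.H10.PrF1 Cfsg.Agent.H10.PrF2 Cfsg.Agent.H10.PrE5
open scoped ComplexConjugate

section Ind

variable {L : Type*} [Group L] [Fintype L] (K : Subgroup L)

theorem ind_reg (x : L) [DecidableEq L] : indFun K (fun k : K => if k = 1 then (Nat.card K : ℂ) else 0) x = if x = 1 then (Nat.card L : ℂ) else 0 := by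
  classical
  rw [indFun]
  have hK := cardH_ne_zero K
  have h1 : ∀ y : L, y⁻¹ * x * y = 1 ↔ x = 1 := by
    intro y
    constructor
    · intro h
      have := congrArg (fun z => y * z * y⁻¹) h
      simpa [mul_assoc] using this
    · rintro rfl; group
  have h2 : ∀ y ∈ (Finset.univ : Finset L), extendByZero K (fun k : K => if k = 1 then (Nat.card K : ℂ) else 0) (y⁻¹ * x * y) =
      if x = 1 then (Nat.card K : ℂ) else 0 := by
    intro y _
    by_cases h4 : y⁻¹ * x * y ∈ K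
    · rw [ext_mem _ _ h4]
      by_cases hx : x = 1
      · rw [if_pos hx, if_pos (Subtype.ext ((h1 y).2 hx))]
      · rw [if_neg hx, if_neg (fun h5 => hx ((h1 y).1 (congrArg Subtype.val h5)))]
    · rw [ext_not_mem _ _ h4, if_neg]
      intro hx
      apply h4
      rw [(h1 y).2 hx]; exact K.one_mem
  rw [Finset.sum_congr rfl h2, Finset.sum_const, Finset.card_univ, ← Nat.card_eq_fintype_card, nsmul_eq_mul]
  split_ifs
  · field_simp
  · simp

theorem sum_ind [Fintype K] [Fintype (IrrCharacter K)] (x : L) [DecidableEq L] :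
    ∑ θ : IrrCharacter K, (θ : K → ℂ) 1 * indFun K (θ : K → ℂ) x = if x = 1 then (Nat.card L : ℂ) else 0 := by
  classical
  rw [← ind_reg K x]
  have h1 : (fun k : K => if k = 1 then (Nat.card K : ℂ) else 0) = ∑ θ : IrrCharacter K, ((θ : K → ℂ) 1) • (θ : K → ℂ) := by
    funext k
    rw [Finset.sum_apply, ← sum_one_mul k]
    exact Finset.sum_congr rfl fun θ _ => by rw [Pi.smul_apply, smul_eq_mul]
  rw [h1, ind_sum, Finset.sum_apply]
  exact Finset.sum_congr rfl fun θ _ => by rw [ind_smul, Pi.smul_apply, smul_eq_mul]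

end Ind

variable {G : Type*} [Group G] [Fintype G] {L : Subgroup G} [Fintype L] {K : Subgroup L} {W₁ W₂ : Subgroup G} {A : Set G}
  {R : G → Subgroup G} (h : PD L K K W₁ W₂ A R)
include h

/-- the support -/
noncomputable def DD {G : Type*} [Group G] [Fintype G] (L : Subgroup G) (A : Set G) (R : G → Subgroup G) : Finset G :=
  (Set.toFinite {g : G | ∃ a : ↥L, (a : G) ∈ A ∧ ∃ x : G, ∃ u ∈ R (a : G), x * g * x⁻¹ = (a : G) * u}).toFinset

omit h in
theorem mem_DD {g : G} : g ∈ DD L A R ↔ ∃ a : ↥L, (a : G) ∈ A ∧ ∃ x : G, ∃ u ∈ R (a : G), x * g * x⁻¹ = (a : G) * u := by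
  rw [DD, Set.Finite.mem_toFinset]; rfl

theorem tau_off {α : L → ℂ} (hα : IsClassFunction L α) (hαA : ∀ x : L, (x : G) ∉ A → α x = 0) {g : G} (hg : g ∉ DD L A R) :
    dadeIsometry (A0 L W₁ W₂ A) L R α g = 0 := by
  by_cases hex : ∃ a : ↥L, (a : G) ∈ A0 L W₁ W₂ A ∧ ∃ x : G, ∃ u ∈ R (a : G), x * g * x⁻¹ = (a : G) * u
  · obtain ⟨a, ha, x, u, hu, e⟩ := hex
    rw [dade_apply h.dade hα ha hu e]
    apply hαA
    intro haA
    exact hg (mem_DD.2 ⟨a, haA, x, u, hu, e⟩)
  · exact dade_zero hex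

theorem tau_on {α : L → ℂ} (hα : IsClassFunction L α) {g : G} {a : L} (ha : (a : G) ∈ A) {x u : G} (hu : u ∈ R (a : G))
    (e : x * g * x⁻¹ = (a : G) * u) : dadeIsometry (A0 L W₁ W₂ A) L R α g = α a :=
  dade_apply h.dade hα (Or.inl ha) hu e

theorem card_DD : ((DD L A R).card : ℝ) * Nat.card L = Nat.card G * (Nat.card K - 1) := by
  classical
  haveI := h.normal
  set e : L → ℂ := fun x => if x ∈ K ∧ x ≠ 1 then 1 else 0 with he
  have hec : IsClassFunction L e := by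
    intro x y
    have h1 : (y * x * y⁻¹ ∈ K ∧ y * x * y⁻¹ ≠ 1) ↔ (x ∈ K ∧ x ≠ 1) := by
      constructor
      · rintro ⟨h1, h2⟩
        refine ⟨?_, ?_⟩
        · have := h.normal.conj_mem _ h1 y⁻¹
          have e1 : y⁻¹ * (y * x * y⁻¹) * y⁻¹⁻¹ = x := by group
          rwa [e1] at this
        · rintro rfl; apply h2; group
      · rintro ⟨h1, h2⟩
        refine ⟨h.normal.conj_mem _ h1 y, fun h3 => h2 ?_⟩
        have := congrArg (fun z => y⁻¹ * z * y) h3
        simpa [mul_assoc] using this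
    show (if _ then (1 : ℂ) else 0) = if _ then 1 else 0
    by_cases h2 : x ∈ K ∧ x ≠ 1
    · rw [if_pos (h1.2 h2), if_pos h2]
    · rw [if_neg (fun h3 => h2 (h1.1 h3)), if_neg h2]
  have heA : ∀ x : L, (x : G) ∉ A → e x = 0 := by
    intro x hx
    rw [he]
    show (if _ then (1 : ℂ) else 0) = 0
    rw [if_neg (fun h2 => hx ((mem_A h).2 h2))]
  set τ := dadeIsometry (A0 L W₁ W₂ A) L R with hτ
  have hτe : ∀ g, τ e g = if g ∈ DD L A R then 1 else 0 := by
    intro g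
    split_ifs with hg
    · obtain ⟨a, ha, x, u, hu, e1⟩ := mem_DD.1 hg
      rw [hτ, tau_on h hec ha hu e1]
      show (if _ then (1 : ℂ) else 0) = 1
      rw [if_pos ((mem_A h).1 ha)]
    · exact tau_off h hec heA hg
  have hiso := isometry h.dade hec (fun x hx => heA x fun hA => hx (Or.inl hA)) hec
  have h1 : classInner (τ e) (τ e) = (Nat.card G : ℂ)⁻¹ * (DD L A R).card := by
    rw [classInner]
    congr 1
    rw [Finset.sum_congr rfl (fun g _ => by rw [hτe g])]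
    have : ∀ g ∈ (Finset.univ : Finset G), (if g ∈ DD L A R then (1 : ℂ) else 0) * conj (if g ∈ DD L A R then (1 : ℂ) else 0) = if g ∈ DD L A R then 1 else 0 := by
      intro g _
      split_ifs <;> simp
    rw [Finset.sum_congr rfl this, Finset.sum_ite_mem, Finset.univ_inter, Finset.sum_const, nsmul_eq_mul, mul_one]
  have h2 : classInner e e = (Nat.card L : ℂ)⁻¹ * ((Nat.card K : ℂ) - 1) := by
    rw [classInner]
    congr 1
    have h3 : ∀ x ∈ (Finset.univ : Finset L), e x * conj (e x) = (if x ∈ K then (1 : ℂ) else 0) - if x = 1 then 1 else 0 := by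
      intro x _
      show (if _ then (1 : ℂ) else 0) * conj (if _ then (1 : ℂ) else 0) = _
      by_cases h4 : x ∈ K
      · by_cases h5 : x = 1
        · rw [if_neg (fun h6 => h6.2 h5), if_pos h4, if_pos h5]; simp
        · rw [if_pos ⟨h4, h5⟩, if_pos h4, if_neg h5]; simp
      · rw [if_neg (fun h6 => h4 h6.1), if_neg h4, if_neg (fun h5 => h4 (by rw [h5]; exact K.one_mem))]; simp
    rw [Finset.sum_congr rfl h3, Finset.sum_sub_distrib, Finset.sum_ite_eq' Finset.univ (1 : L), if_pos (Finset.mem_univ _),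
      Finset.sum_ite, Finset.sum_const_zero, add_zero, Finset.sum_const, nsmul_eq_mul, mul_one]
    congr 2
    exact (Nat.subtype_card _ (fun x => by simp)).symm
  rw [hτ] at h1
  rw [h1, h2] at hiso
  have hG : (Nat.card G : ℂ) ≠ 0 := Nat.cast_ne_zero.2 Nat.card_pos.ne'
  have hL : (Nat.card L : ℂ) ≠ 0 := Nat.cast_ne_zero.2 Nat.card_pos.ne'
  have h3 : ((DD L A R).card : ℂ) * Nat.card L = Nat.card G * (Nat.card K - 1) := by
    field_simp at hiso
    linear_combination hiso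
  exact_mod_cast h3

variable {ζ : L → ℂ} (hζ : IsIrrCharacter L ζ) (hζD : ζ ∈ indD K K ⊥) (hζ1 : ζ 1 = Nat.card W₁)

include hζ hζD hζ1 in
/-- the lower bound -/
theorem norm_ge {Z : G → ℂ} (hZ : IsClassFunction G Z)
    (hT : ∀ θ : K → ℂ, IsIrrCharacter K θ → classInner (dadeIsometry (A0 L W₁ W₂ A) L R (indFun K θ - θ 1 • ζ)) Z =
      classInner (indFun K θ - θ 1 • ζ) ζ) :
    (Nat.card G : ℝ) * (1 - Nat.card W₁ / Nat.card K) ≤ ∑ g ∈ DD L A R, ‖Z g‖ ^ 2 := by
  classical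
  haveI := h.normal
  haveI := Fintype.ofFinite K
  haveI := Fintype.ofFinite (IrrCharacter K)
  set τ := dadeIsometry (A0 L W₁ W₂ A) L R with hτ
  have hLK : (Nat.card L : ℂ) = Nat.card W₁ * Nat.card K := by
    rw [← index_K h.toPT, ← Nat.cast_mul, Subgroup.index_mul_card]
  have hK := cardH_ne_zero K
  have hG : (Nat.card G : ℂ) ≠ 0 := Nat.cast_ne_zero.2 Nat.card_pos.ne'
  have hL : (Nat.card L : ℂ) ≠ 0 := Nat.cast_ne_zero.2 Nat.card_pos.ne'
  set Φ : L → ℂ := fun x => if x = 1 then 0 else ζ x with hΦ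
  have hΦc : IsClassFunction L Φ := by
    intro x y
    have h1 : y * x * y⁻¹ = 1 ↔ x = 1 := by
      constructor
      · intro h2
        have := congrArg (fun z => y⁻¹ * z * y) h2
        simpa [mul_assoc] using this
      · rintro rfl; group
    show (if _ then (0 : ℂ) else ζ _) = if _ then 0 else ζ _
    by_cases h2 : x = 1
    · rw [if_pos (h1.2 h2), if_pos h2]
    · rw [if_neg (fun h3 => h2 (h1.1 h3)), if_neg h2]; exact IsIrr.isClass hζ x y
  have hΦA : ∀ x : L, (x : G) ∉ A → Φ x = 0 := by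
    intro x hx
    show (if _ then (0 : ℂ) else ζ _) = 0
    split_ifs with h1
    · rfl
    · exact zeta_off h hζD fun hK => hx ((mem_A h).2 ⟨hK, h1⟩)
  -- the decomposition
  have hdec : ∑ θ : IrrCharacter K, ((θ : K → ℂ) 1) • (indFun K (θ : K → ℂ) - (θ : K → ℂ) 1 • ζ) = (-(Nat.card K : ℂ)) • Φ := by
    funext x
    rw [Finset.sum_apply]
    have h1 : ∀ θ ∈ (Finset.univ : Finset (IrrCharacter K)), (((θ : K → ℂ) 1) • (indFun K (θ : K → ℂ) - (θ : K → ℂ) 1 • ζ)) x =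
        (θ : K → ℂ) 1 * indFun K (θ : K → ℂ) x - ((θ : K → ℂ) 1 * (θ : K → ℂ) 1) * ζ x := by
      intro θ _
      rw [Pi.smul_apply, Pi.sub_apply, Pi.smul_apply, smul_eq_mul, smul_eq_mul]; ring
    rw [Finset.sum_congr rfl h1, Finset.sum_sub_distrib, sum_ind K x, ← Finset.sum_mul, sum_one_mul (1 : K), if_pos rfl, Pi.smul_apply, smul_eq_mul]
    show _ = _ * (if _ then (0 : ℂ) else ζ _)
    split_ifs with hx
    · rw [hx, hζ1, hLK]; ring
    · ring
  have hΦζ : classInner Φ ζ = ((1 - Nat.card W₁ / Nat.card K : ℝ) : ℂ) := by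
    have h1 : classInner ζ ζ = 1 := ci_irr_self hζ
    rw [classInner] at h1 ⊢
    have h2 : ∑ x : L, Φ x * conj (ζ x) = ∑ x : L, ζ x * conj (ζ x) - (Nat.card W₁ : ℂ) ^ 2 := by
      have h3 : ∀ x ∈ (Finset.univ : Finset L), Φ x * conj (ζ x) = ζ x * conj (ζ x) - if x = 1 then (Nat.card W₁ : ℂ) ^ 2 else 0 := by
        intro x _
        show (if _ then (0 : ℂ) else ζ _) * _ = _
        split_ifs with hx
        · rw [hx, hζ1, Complex.conj_natCast]; ring
        · ring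
      rw [Finset.sum_congr rfl h3, Finset.sum_sub_distrib, Finset.sum_ite_eq' Finset.univ (1 : L), if_pos (Finset.mem_univ _)]
    rw [h2, mul_sub, h1, hLK]
    have hw : (Nat.card W₁ : ℂ) ≠ 0 := Nat.cast_ne_zero.2 Nat.card_pos.ne'
    push_cast
    field_simp
  have hΦΦ : classInner Φ Φ = classInner Φ ζ := by
    rw [classInner, classInner]
    congr 1
    refine Finset.sum_congr rfl fun x _ => ?_
    show (if _ then (0 : ℂ) else ζ _) * conj (if _ then (0 : ℂ) else ζ _) = (if _ then (0 : ℂ) else ζ _) * _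
    split_ifs <;> simp
  have hτΦ : classInner (τ Φ) (τ Φ) = ((1 - Nat.card W₁ / Nat.card K : ℝ) : ℂ) := by
    rw [hτ, isometry h.dade hΦc (fun x hx => hΦA x fun hA => hx (Or.inl hA)) hΦc, hΦΦ, hΦζ]
  have hτZ : classInner (τ Φ) Z = ((1 - Nat.card W₁ / Nat.card K : ℝ) : ℂ) := by
    have h1 : classInner (τ ((-(Nat.card K : ℂ)) • Φ)) Z = classInner ((-(Nat.card K : ℂ)) • Φ) ζ := by
      rw [← hdec, hτ, dade_sum, ci_sum_left, ci_sum_left]
      refine Finset.sum_congr rfl fun θ _ => ?_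
      rw [dade_smul, ci_smul_left, ci_smul_left, hT θ θ.2]
    rw [hτ, dade_smul, ci_smul_left, ci_smul_left, hΦζ] at h1
    exact mul_left_cancel₀ (neg_ne_zero.2 hK) h1
  set Zc : G → ℂ := fun g => if g ∈ DD L A R then Z g else 0 with hZc
  have hoff : ∀ g, g ∉ DD L A R → τ Φ g = 0 := fun g hg => tau_off h hΦc hΦA hg
  have h1 : classInner (τ Φ) Zc = ((1 - Nat.card W₁ / Nat.card K : ℝ) : ℂ) := by
    rw [← hτZ, classInner, classInner]
    congr 1
    refine Finset.sum_congr rfl fun g _ => ?_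
    show _ * conj (if _ then Z g else 0) = _
    split_ifs with hg
    · rfl
    · rw [hoff g hg]; simp
  have h2 : classInner Zc (τ Φ) = ((1 - Nat.card W₁ / Nat.card K : ℝ) : ℂ) := by
    rw [← ci_conj_symm, h1, Complex.conj_ofReal]
  have h3 := ci_self_re_nonneg (Zc - τ Φ)
  have h4 : classInner (Zc - τ Φ) (Zc - τ Φ) = classInner Zc Zc - ((1 - Nat.card W₁ / Nat.card K : ℝ) : ℂ) := by
    rw [ci_sub_left, ci_sub_right Zc, ci_sub_right (τ Φ), h1, h2, hτΦ]; ring
  rw [h4, Complex.sub_re, Complex.ofReal_re] at h3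
  have h5 : classInner Zc Zc = (((Nat.card G : ℝ)⁻¹ * ∑ g ∈ DD L A R, ‖Z g‖ ^ 2 : ℝ) : ℂ) := by
    rw [classInner]
    push_cast
    congr 1
    have h6 : ∀ g ∈ (Finset.univ : Finset G), Zc g * conj (Zc g) = if g ∈ DD L A R then ((‖Z g‖ : ℂ) ^ 2) else 0 := by
      intro g _
      show (if _ then Z g else 0) * conj (if _ then Z g else 0) = _
      split_ifs with hg
      · rw [Complex.mul_conj, Complex.normSq_eq_norm_sq]; push_cast; rfl
      · simp
    rw [Finset.sum_congr rfl h6, Finset.sum_ite_mem, Finset.univ_inter]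
  rw [h5, Complex.ofReal_re] at h3
  have hG0 : (0 : ℝ) < Nat.card G := by exact_mod_cast Nat.card_pos
  have h6 : (1 - Nat.card W₁ / Nat.card K : ℝ) ≤ (Nat.card G : ℝ)⁻¹ * ∑ g ∈ DD L A R, ‖Z g‖ ^ 2 := by linarith
  have h7 := mul_le_mul_of_nonneg_left h6 hG0.le
  rwa [← mul_assoc, mul_inv_cancel₀ hG0.ne', one_mul] at h7

end Cfsg.Agent.H10.PrF3
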