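import Mathlib
import Cfsg.Agent.H10_PrF3

/-!
H10_PrF4: `ζ^τ₁` is nonzero on the elements of order prime to `w₁` outside of the support; the counting inequality.
-/

set_option autoImplicit false
set_option linter.all false

namespace Cfsg.Agent.H10.PrF4

open Cfsg Cfsg.Agent.H3.CharIrr Cfsg.Agent.H3.CharComplete Cfsg.Agent.H3.CharInd Cfsg.Agent.H3.CharMult
  Cfsg.Agent.H3.CharBasic Cfsg.Agent.H3.CharCalc Cfsg.Agent.H3.Clifford Cfsg.Agent.H3.CharInt Cfsg.Agent.H3.CharQuot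
  Cfsg.Agent.H10.CycTI Cfsg.Agent.H10.CycTI2 Cfsg.Agent.H10.CycTI3 Cfsg.Agent.H10.CycTI4 Cfsg.Agent.H10.PrD2
  Cfsg.Agent.H10.PrD3 Cfsg.Agent.H10.PrD4 Cfsg.Agent.H10.PrD5 Cfsg.Agent.H10.Dade Cfsg.Agent.H10.PM Cfsg.Agent.H10.Coh
  Cfsg.Agent.H10.Coh2 Cfsg.Agent.H10.Coh3 Cfsg.Agent.H10.Coh4 Cfsg.Agent.H10.IndSet2 Cfsg.Agent.H10.OOClif Cfsg.Agent.H10.PrD6
  Cfsg.Agent.H10.PrD7 Cfsg.Agent.H10.PrD8 Cfsg.Agent.H10.PrF1 Cfsg.Agent.H10.PrF2 Cfsg.Agent.H10.PrE5 Cfsg.Agent.H10.PrF3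
open scoped ComplexConjugate

section Eta

variable {G : Type*} [Group G] [Fintype G] {W₁ W₂ : Subgroup G} (hW : IsSelfNormalizingCyclic W₁ W₂) (hodd : Odd (Nat.card G))
  {η : (↥(W₁ ⊔ W₂) →* ℂˣ) → (G → ℂ)} (hη : IsCyclicTIFamily W₁ W₂ η)
include hW hodd hη

theorem eta_cj (ω : ↥(W₁ ⊔ W₂) →* ℂˣ) : conjFun (η ω) = η ω⁻¹ := by
  have h1 : (Nat.card G).Coprime (Nat.card G - 1) := by
    have : 1 ≤ Nat.card G := Nat.card_pos
    rw [Nat.coprime_comm]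
    exact (Nat.coprime_self_sub_left this).2 (Nat.coprime_one_left _) |> fun h => by
      first | exact h | (rw [Nat.coprime_comm] at h; exact h)
  have hoW : Odd (Nat.card ↥(W₁ ⊔ W₂)) := Odd.of_dvd_nat hodd (Subgroup.card_subgroup_dvd_card _)
  funext g
  have h2 := Cfsg.Agent.H10.CycTI5.gal_fam' hW hoW (Cfsg.Agent.H10.CycTI5.fam_of hη) h1 ω g
  have h3 : g ^ (Nat.card G - 1) = g⁻¹ := by
    rw [eq_inv_iff_mul_eq_one, ← pow_succ, Nat.sub_add_cancel Nat.card_pos, pow_card_eq_one']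
  have h4 : ω ^ (Nat.card G - 1) = ω⁻¹ := by
    apply MonoidHom.ext
    intro w
    have h5 : (ω w) ^ Nat.card G = 1 := by
      rw [← map_pow]
      have : w ^ Nat.card G = 1 := Subtype.ext (by push_cast; exact pow_card_eq_one')
      rw [this, map_one]
    rw [MonoidHom.pow_apply, MonoidHom.inv_apply, eq_inv_iff_mul_eq_one, ← pow_succ, Nat.sub_add_cancel Nat.card_pos, h5]
  rw [h3, h4] at h2
  rw [← h2, conjFun]
  rcases hη.irr_or_neg ω with h | h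
  · exact (IsChar.inv_eq_conj (IsIrr.isCharacter h) g).symm
  · have := IsChar.inv_eq_conj (IsIrr.isCharacter h) g
    rw [Pi.neg_apply, Pi.neg_apply, map_neg, neg_inj] at this
    exact this.symm

/-- the orders of the characters of `W/W₂` divide `w₁` -/
theorem X1_order {φ : ↥(W₁ ⊔ W₂) →* ℂˣ} (hφ : X1 W₁ W₂ φ) : orderOf φ ∣ Nat.card W₁ := by
  apply orderOf_dvd_of_pow_eq_one
  apply MonoidHom.ext
  intro w
  obtain ⟨a, ha, b, hb, e⟩ : ∃ a ∈ W₁, ∃ b ∈ W₂, a * b = (w : G) :=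
    Cfsg.Agent.H10.Dade.mem_sup_of_norm (H := W₁) (K := W₂) (fun k hk x hx => by
      rw [← hcomm hW x hx k hk, mul_inv_cancel_right]; exact hx) w.2
  have e1 : w = ⟨a, le_sup_left (a := W₁) ha⟩ * ⟨b, le_sup_right (a := W₁) hb⟩ := Subtype.ext e.symm
  have e2 : (⟨a, le_sup_left (a := W₁) ha⟩ : ↥(W₁ ⊔ W₂)) ^ Nat.card W₁ = 1 := by
    apply Subtype.ext
    exact pow_card_mem ha
  rw [MonoidHom.pow_apply, e1, map_mul, hφ ⟨b, _⟩ hb, mul_one, ← map_pow, e2, map_one]; rfl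

/-- `Σ_i η_i0(g)` is an odd integer for `g` of order prime to `w₁` -/
theorem etaC_odd {g : G} (hg : (orderOf g).Coprime (Nat.card W₁)) : ∃ m : ℤ, Odd m ∧ etaC η 1 g = m := by
  classical
  have hoW : Odd (Nat.card ↥(W₁ ⊔ W₂)) := Odd.of_dvd_nat hodd (Subgroup.card_subgroup_dvd_card _)
  have hint : ∀ φ : ↥(W₁ ⊔ W₂) →* ℂˣ, X1 W₁ W₂ φ → ∃ n : ℤ, η φ g = n := by
    intro φ hφ
    have hgo := Nat.Coprime.coprime_dvd_right (X1_order hW hodd hη hφ) hg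
    have hF := Cfsg.Agent.H10.CycTI5.fam_of hη
    apply Cfsg.Agent.H10.CycTI5.int_of_fixed (hF.pm φ).gen
    intro k hk
    obtain ⟨t, h1, h2, h3⟩ := Cfsg.Agent.H10.CycTI5.exists_coprime (N := Nat.card G) Nat.card_pos.ne' hgo hk
    have e1 : g ^ k = g ^ t := (pow_eq_pow_iff_modEq.2 h1).symm
    have h4 : φ ^ orderOf φ = 1 := pow_orderOf_eq_one φ
    have e2 : φ ^ t = φ := by
      apply MonoidHom.ext
      intro w
      have h5 : (φ w) ^ orderOf φ = 1 := DFunLike.congr_fun h4 w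
      have h6 : t ≡ 1 [MOD orderOf (φ w)] := h2.of_dvd (orderOf_dvd_of_pow_eq_one h5)
      show (φ w) ^ t = φ w
      conv_rhs => rw [← pow_one (φ w)]
      exact pow_eq_pow_iff_modEq.2 h6
    rw [e1, Cfsg.Agent.H10.CycTI5.gal_fam' hW hoW hF h3, e2]
  choose! m hm using hint
  have hinv : ∀ φ, X1 W₁ W₂ φ → m φ⁻¹ = m φ := by
    intro φ hφ
    have h1 := congrFun (eta_cj hW hodd hη φ) g
    rw [conjFun, hm φ hφ, hm φ⁻¹ (X1_inv hφ), Cfsg.Agent.H10.Sib.cint] at h1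
    exact_mod_cast h1.symm
  refine ⟨∑ φ ∈ X1F W₁ W₂, m φ, ?_, ?_⟩
  · have h1m : (1 : ↥(W₁ ⊔ W₂) →* ℂˣ) ∈ X1F W₁ W₂ := mem_X1F.2 X1_one
    have hm1 : m 1 = 1 := by
      have := hm 1 X1_one
      rw [hη.map_one] at this
      have h2 : ((m 1 : ℤ) : ℂ) = 1 := this.symm
      exact_mod_cast h2
    rw [← Finset.add_sum_erase _ _ h1m, hm1]
    have h2 : ((∑ φ ∈ (X1F W₁ W₂).erase 1, m φ : ℤ) : ZMod 2) = 0 := by
      push_cast
      apply Finset.sum_involution (fun φ _ => φ⁻¹)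
      · intro φ hφ
        have hφ' := mem_X1F.1 (Finset.mem_of_mem_erase hφ)
        rw [hinv φ hφ', ← two_mul]
        have : (2 : ZMod 2) = 0 := rfl
        rw [this, zero_mul]
      · intro φ hφ _
        exact inv_ne hoW (Finset.ne_of_mem_erase hφ)
      · intro φ hφ
        exact inv_inv' φ
      · intro φ hφ
        exact Finset.mem_erase.2 ⟨inv_ne_one (Finset.ne_of_mem_erase hφ), mem_X1F.2 (X1_inv (mem_X1F.1 (Finset.mem_of_mem_erase hφ)))⟩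
    have h3 : Even (∑ φ ∈ (X1F W₁ W₂).erase 1, m φ) := by
      rw [← ZMod.intCast_eq_zero_iff_even] 
      exact h2
    exact h3.one_add
  · rw [etaC, Finset.sum_apply]
    push_cast
    refine Finset.sum_congr rfl fun φ hφ => ?_
    have : φ * 1 = φ := by ext w; simp
    rw [this, hm φ (mem_X1F.1 hφ)]

end Eta

variable {G : Type*} [Group G] [Fintype G] {L : Subgroup G} [Fintype L] {K : Subgroup L} {W₁ W₂ : Subgroup G} {A : Set G}
  {R : G → Subgroup G} (h : PD L K K W₁ W₂ A R)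
  {μ : (↥(W₁ ⊔ W₂) →* ℂˣ) → (L → ℂ)} {δ : (↥(W₁ ⊔ W₂) →* ℂˣ) → ℂ} (hμ : MU K W₁ W₂ μ δ)
  {ζ : L → ℂ} (hζ : IsIrrCharacter L ζ) (hζD : ζ ∈ indD K K ⊥) (hζ1 : ζ 1 = Nat.card W₁)
  {η : (↥(W₁ ⊔ W₂) →* ℂˣ) → (G → ℂ)} (hη : IsCyclicTIFamily W₁ W₂ η)
include h hμ hζ hζD hζ1 hη

/-- the elements of order prime to `w₁` -/
noncomputable def Cop {G : Type*} [Group G] [Fintype G] (w : ℕ) : Finset G :=
  (Set.toFinite {g : G | (orderOf g).Coprime w}).toFinset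

omit h hμ hζ hζD hζ1 hη in
theorem mem_Cop {w : ℕ} {g : G} : g ∈ Cop w ↔ (orderOf g).Coprime w := by
  rw [Cop, Set.Finite.mem_toFinset]; rfl

theorem cop_le {Z : G → ℂ} {n : (↥(W₁ ⊔ W₂) →* ℂˣ) → ℤ} (hB : BR L K W₁ W₂ A R μ δ η ζ Z n)
    (hT : ∀ θ : K → ℂ, IsIrrCharacter K θ → classInner (dadeIsometry (A0 L W₁ W₂ A) L R (indFun K θ - θ 1 • ζ)) Z =
      classInner (indFun K θ - θ 1 • ζ) ζ) :
    ((Cop (G := G) (Nat.card W₁)).card : ℝ) * Nat.card L ≤ Nat.card G * (Nat.card K - 1 + Nat.card W₁ ^ 2) := by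
  classical
  have h1 := norm_ge h hζ hζD hζ1 (IsGen.isClass hB.zt.gen) hT
  have h2 := card_DD h
  have hG0 : (0 : ℝ) < Nat.card G := by exact_mod_cast Nat.card_pos
  have hK0 : (0 : ℝ) < Nat.card K := by exact_mod_cast Nat.card_pos
  have hw0 : (0 : ℝ) < Nat.card W₁ := by exact_mod_cast Nat.card_pos
  have hLK : (Nat.card L : ℝ) = Nat.card W₁ * Nat.card K := by
    rw [← index_K h.toPT, ← Nat.cast_mul, Subgroup.index_mul_card]
  have hall : ∑ g : G, ‖Z g‖ ^ 2 = Nat.card G := by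
    have h3 := hB.zt.norm
    rw [classInner] at h3
    have h4 : ∑ g : G, Z g * conj (Z g) = ((∑ g : G, ‖Z g‖ ^ 2 : ℝ) : ℂ) := by
      push_cast
      refine Finset.sum_congr rfl fun g _ => ?_
      rw [Complex.mul_conj, Complex.normSq_eq_norm_sq]; push_cast; rfl
    rw [h4] at h3
    have h5 : ((Nat.card G : ℝ)⁻¹ * ∑ g : G, ‖Z g‖ ^ 2 : ℝ) = 1 := by
      apply Complex.ofReal_injective
      push_cast at h3 ⊢
      exact h3
    field_simp at h5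
    linarith
  have hpt : ∀ g ∈ Cop (G := G) (Nat.card W₁) \ DD L A R, (1 : ℝ) ≤ ‖Z g‖ ^ 2 := by
    intro g hg
    rw [Finset.mem_sdiff, mem_Cop] at hg
    have h3 := tau_off h (IsGen.isClass (bet_gen h hμ hζ)) (fun x hx => bet_van h hμ hζD hζ1 hx) hg.2
    rw [hB.bet, Pi.sub_apply, sub_eq_zero] at h3
    obtain ⟨m, hm, e⟩ := etaC_odd h.self h.odd hη hg.1
    rw [← h3, e]
    have h4 : ‖((m : ℤ) : ℂ)‖ ^ 2 = ((m ^ 2 : ℤ) : ℝ) := by
      rw [Complex.norm_intCast, sq_abs]; push_cast; rfl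
    rw [h4]
    have h5 : 1 ≤ m ^ 2 := by
      apply int_sq_pos
      rintro rfl
      exact absurd hm (by decide)
    exact_mod_cast h5
  have h3 : ∑ g ∈ DD L A R, ‖Z g‖ ^ 2 + ∑ g ∈ Cop (G := G) (Nat.card W₁) \ DD L A R, ‖Z g‖ ^ 2 ≤ ∑ g : G, ‖Z g‖ ^ 2 := by
    rw [← Finset.sum_union Finset.disjoint_sdiff]
    exact Finset.sum_le_sum_of_subset_of_nonneg (Finset.subset_univ _) fun _ _ _ => by positivity
  have h4 : ((Cop (G := G) (Nat.card W₁) \ DD L A R).card : ℝ) ≤ ∑ g ∈ Cop (G := G) (Nat.card W₁) \ DD L A R, ‖Z g‖ ^ 2 := by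
    have := Finset.card_nsmul_le_sum _ _ _ hpt
    simpa using this
  have h5 : ((Cop (G := G) (Nat.card W₁)).card : ℝ) ≤ (DD L A R).card + (Cop (G := G) (Nat.card W₁) \ DD L A R).card := by
    have h6 : (Cop (G := G) (Nat.card W₁)).card ≤ (DD L A R).card + (Cop (G := G) (Nat.card W₁) \ DD L A R).card := by
      have h7 := Finset.le_card_sdiff (DD L A R) (Cop (G := G) (Nat.card W₁))
      omega
    exact_mod_cast h6
  rw [hall] at h3
  have h6 : ((Cop (G := G) (Nat.card W₁)).card : ℝ) ≤ (DD L A R).card + Nat.card G * (Nat.card W₁ / Nat.card K) := by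
    nlinarith
  have hL0 : (0 : ℝ) < Nat.card L := by exact_mod_cast Nat.card_pos
  calc ((Cop (G := G) (Nat.card W₁)).card : ℝ) * Nat.card L ≤ ((DD L A R).card + Nat.card G * (Nat.card W₁ / Nat.card K)) * Nat.card L :=
        mul_le_mul_of_nonneg_right h6 hL0.le
    _ = (DD L A R).card * Nat.card L + Nat.card G * (Nat.card W₁ / Nat.card K) * Nat.card L := by ring
    _ = Nat.card G * (Nat.card K - 1) + Nat.card G * (Nat.card W₁ / Nat.card K) * (Nat.card W₁ * Nat.card K) := by rw [h2, hLK]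
    _ = Nat.card G * (Nat.card K - 1 + Nat.card W₁ ^ 2) := by field_simp

end Cfsg.Agent.H10.PrF4
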