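import Mathlib
import Cfsg.Agent.H12_BG7b

/-! BG section 7, part 3: extension of transitivity to P -/

set_option autoImplicit false
set_option linter.style.haveILetI false

open Pointwise
open scoped commutatorElement

namespace Cfsg.Agent.H12.BG7

open Cfsg Subgroup H13.Syl H12.Trans

universe u

section
variable {G : Type u} [Group G] [Finite G]

theorem primesNotDvd_eq {n m : ℕ} (h1 : ∀ r : ℕ, r.Prime → r ∣ n → r ∣ m) (h2 : ∀ r : ℕ, r.Prime → r ∣ m → r ∣ n) :
    primesNotDvd n = primesNotDvd m := by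
  ext r
  exact ⟨fun ⟨a, b⟩ => ⟨a, fun c => b (h2 r a c)⟩, fun ⟨a, b⟩ => ⟨a, fun c => b (h1 r a c)⟩⟩

/-- the full package for one subgroup -/
structure Pack (A B : Subgroup G) (q : ℕ) : Prop where
  th : TransitivityHypothesis B
  pi : primesNotDvd (Nat.card B) = primesNotDvd (Nat.card A)
  tr : ∀ Q₁ Q₂ : Subgroup G, MaxInv B q Q₁ → MaxInv B q Q₂ → ∃ k ∈ O' B (centralizer (B : Set G)), Q₂ = cj k Q₁
  sub : ∀ Q : Subgroup G, MaxInv B q Q → MaxInv A q Q

theorem th_of_le {A B : Subgroup G} (hA : TransitivityHypothesis A) (hAB : A ≤ B) (hB : B ≠ ⊤)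
    (hpi : primesNotDvd (Nat.card B) = primesNotDvd (Nat.card A)) : TransitivityHypothesis B := by
  refine ⟨fun h => hA.1 (le_bot_iff.mp (h ▸ hAB)), hB, fun X hX hBX => ?_⟩
  rw [hpi]
  apply le_antisymm
  · rw [← hA.2.2 X hX (hAB.trans hBX)]
    apply sSup_le_sSup
    rintro Y ⟨h1, h2, h3⟩
    exact ⟨h1, h2, hAB.trans h3⟩
  · apply le_sSup
    exact ⟨Core.piCoreOf_le _ _, Core.piCoreOf_piNum _ _, hBX.trans (Core.le_normalizer_piCoreOf _ _)⟩

/-- (a) -/
theorem K_inf (hG : IsMinSimpleOddOrder G) {A P : Subgroup G} (hA : TransitivityHypothesis A) (hAP : A ≤ P)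
    (hpi : primesNotDvd (Nat.card P) = primesNotDvd (Nat.card A)) :
    O' A (centralizer (A : Set G)) ⊓ centralizer (P : Set G) = O' P (centralizer (P : Set G)) := by
  have hCC : centralizer (P : Set G) ≤ centralizer (A : Set G) := centralizer_le hAP
  have hcop : ∀ Y : Subgroup G, (Nat.card Y).Coprime (Nat.card P) ↔ (Nat.card Y).Coprime (Nat.card A) := by
    intro Y
    rw [← piNum_primesNotDvd Nat.card_pos.ne', ← piNum_primesNotDvd Nat.card_pos.ne', hpi]
  apply le_antisymm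
  · apply le_O' inf_le_right
    · intro x hx
      rw [mem_normalizer_iff_cj, cj_inf, cj_eq_of_mem_normalizer (le_normalizer_O' _ _ (hCC hx)), cj_eq_of_mem hx]
    · rw [hcop]
      exact Nat.Coprime.coprime_dvd_left (Subgroup.card_dvd_of_le inf_le_left) (O'_coprime _ _)
  · refine le_inf (TH.le_K hG hA ((O'_le _ _).trans hCC) ((hcop _).mp (O'_coprime _ _))) (O'_le _ _)

theorem Inv.conj_normal {A : Subgroup G} {q : ℕ} {Q : Subgroup G} (h : Inv A q Q) {b : G}
    (hb : b ∈ normalizer (A : Set G)) : Inv A q (cj b Q) := by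
  refine ⟨isPGroup_cj h.1, ?_⟩
  have h1 : cj b A = A := cj_eq_of_mem_normalizer hb
  rw [← cj_normalizer, ← h1]
  exact cj_mono h.2

theorem MaxInv.conj_normal {A : Subgroup G} {q : ℕ} {Q : Subgroup G} (h : MaxInv A q Q) {b : G}
    (hb : b ∈ normalizer (A : Set G)) : MaxInv A q (cj b Q) := by
  refine ⟨Inv.conj_normal h.1 hb, fun R hR hQR => ?_⟩
  have h1 := h.2 _ (Inv.conj_normal hR ((normalizer (A : Set G)).inv_mem hb)) (cj_le_iff.mp hQR)
  rw [cj_eq_iff, inv_inv] at h1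
  exact h1

/-- one step `A ⊴ B` -/
theorem step (hG : IsMinSimpleOddOrder G) {A B : Subgroup G} {q : ℕ} [hq : Fact q.Prime] (hqA : ¬ q ∣ Nat.card A)
    (hA : Pack A A q) (hAB : A ≤ B) (hBA : B ≤ normalizer (A : Set G))
    (hpi : primesNotDvd (Nat.card B) = primesNotDvd (Nat.card A)) (hB : B ≠ ⊤) : Pack A B q := by
  have hTB := th_of_le hA.th hAB hB hpi
  set K := O' A (centralizer (A : Set G)) with hK
  have hcop : ∀ Y : Subgroup G, (Nat.card Y).Coprime (Nat.card B) ↔ (Nat.card Y).Coprime (Nat.card A) := by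
    intro Y
    rw [← piNum_primesNotDvd Nat.card_pos.ne', ← piNum_primesNotDvd Nat.card_pos.ne', hpi]
  have hBs : Group.IsSolvable B := solvable_of_ne_top hG hB
  have hBK : B ≤ normalizer (K : Set G) := by
    refine le_trans ?_ (Core.normalizer_le_normalizer_piCoreOf _ _)
    intro b hb
    rw [mem_normalizer_iff_cj, cj_centralizer, cj_eq_of_mem_normalizer (hBA hb)]
  have hKB : (Nat.card B).Coprime (Nat.card K) := ((hcop K).mpr (O'_coprime _ _)).symm
  have invBA : ∀ Q : Subgroup G, Inv B q Q → Inv A q Q := fun Q h => ⟨h.1, hAB.trans h.2⟩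
  -- c1
  obtain ⟨Q₀, hQ₀, -⟩ := exists_maxInv_ge (A := A) (q := q) (R := ⊥)
    ⟨IsPGroup.of_bot, by intro a _; rw [mem_normalizer_iff_cj, cj_bot]⟩
  obtain ⟨k₀, hk₀, hk₀'⟩ := H1.Coprime.exists_invariant_conj hBK hKB (Or.inl hBs) Q₀ (by
    intro b hb
    exact hA.tr Q₀ _ hQ₀ (MaxInv.conj_normal hQ₀ (hBA hb)))
  have hk₀C : k₀ ∈ centralizer (A : Set G) := O'_le _ _ hk₀
  have hQ₁ : MaxInv A q (cj k₀ Q₀) := hQ₀.cj hk₀C
  -- c2
  have c2 : ∀ Q : Subgroup G, MaxInv B q Q → MaxInv A q Q := by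
    intro Q hQ
    by_cases hb : Q = ⊥
    · have h1 := hQ.2 (cj k₀ Q₀) ⟨hQ₁.1.1, hk₀'⟩ (by rw [hb]; exact bot_le)
      rw [← h1]; exact hQ₁
    obtain ⟨Q₁, hQ1, hle⟩ := exists_maxInv_ge (invBA Q hQ.1)
    by_cases heq : Q = Q₁
    · rw [heq]; exact hQ1
    exfalso
    have hlt : Q < Q₁ := lt_of_le_of_ne hle heq
    set X := normalizer (Q : Set G) with hX
    have hXt : X ≠ ⊤ := normalizer_ne_top hG hb (ne_top_of_isPGroup hG hQ.1.1)
    have hR : Q < Q₁ ⊓ X := lt_normalizer_of_lt hQ1.1.1 hlt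
    have hAX : A ≤ X := hAB.trans hQ.1.2
    have hRI : Inv A q (Q₁ ⊓ X) := by
      refine ⟨hQ1.1.1.to_le inf_le_left, ?_⟩
      intro a ha
      rw [mem_normalizer_iff_cj, cj_inf, cj_eq_of_mem_normalizer (hQ1.1.2 ha), cj_eq_of_mem (hAX ha)]
    have hRY : Q₁ ⊓ X ≤ O' A X := TH.le hA.th hXt hAX inf_le_right (coprime_of_prime hq.out hqA hRI.1) hRI.2
    have hBY : B ≤ normalizer (O' A X : Set G) := hQ.1.2.trans (le_normalizer_O' A X)
    obtain ⟨P, hP1, hP2⟩ := H1.Coprime.invariant_psubgroup_le B (O' A X) hBY ((hcop _).mpr (O'_coprime _ _)).symm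
      (Or.inl hBs) q Q (hR.le.trans hRY) hQ.1.1 hQ.1.2
    have h1 := hQ.2 _ ⟨P.2.map _, hP2⟩ hP1
    -- cardinality
    obtain ⟨T, hT1, hT2⟩ := exists_isSylIn_ge (p := q) hRI.1 hRY
    have h3 : IsSylIn q ((P : Subgroup (O' A X)).map (O' A X).subtype) (O' A X) := isSylIn_map_subtype P
    have h4 := h3.card_eq hT2
    rw [h1] at h4
    have h5 := H2.Card.card_lt_of_lt (lt_of_lt_of_le hR hT1)
    omega
  refine ⟨hTB, hpi, ?_, c2⟩
  intro Q₁ Q₂ h1 h2
  obtain ⟨k, hk, hk'⟩ := hA.tr Q₁ Q₂ (c2 _ h1) (c2 _ h2)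
  obtain ⟨c, hc, hc'⟩ := H1.Coprime.invariant_conj_centralizer hBK hKB (Or.inl hBs) h1.1.2 h2.1.2 hk hk'.symm
  refine ⟨c, ?_, hc'.symm⟩
  rw [← K_inf hG hA.th hAB hpi]
  exact hc

theorem pack_trans {A B C : Subgroup G} {q : ℕ} (h1 : Pack A B q) (h2 : Pack B C q) : Pack A C q :=
  ⟨h2.th, h2.pi.trans h1.pi, h2.tr, fun Q hQ => h1.sub Q (h2.sub Q hQ)⟩

/-- subnormal induction -/
theorem subnormal_pack (hG : IsMinSimpleOddOrder G) {A P : Subgroup G} {q : ℕ} [hq : Fact q.Prime]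
    (hqA : ¬ q ∣ Nat.card A) (hP : P ≠ ⊤) (hPπ : ∀ r : ℕ, r.Prime → r ∣ Nat.card P → r ∣ Nat.card A)
    (H : Subgroup P) (hH : H.IsSubnormal) : A ≤ H.map P.subtype → Pack A (H.map P.subtype) q → Pack A P q := by
  induction hH with
  | top =>
    intro _ h
    rwa [← MonoidHom.range_eq_map, range_subtype] at h
  | step H K h_le hSubn hN ih =>
    intro hA h
    set H' := H.map P.subtype with hH'
    set K' := K.map P.subtype with hK'
    have hHK : H' ≤ K' := map_mono h_le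
    have hKP : K' ≤ P := map_subtype_le _
    have hHP : H' ≤ P := map_subtype_le _
    apply ih (hA.trans hHK)
    have hKN : K' ≤ normalizer (H' : Set G) := by
      have h1 : K ≤ normalizer (H : Set P) := by
        intro k hk
        rw [mem_normalizer_iff]
        intro x
        constructor
        · intro hx
          exact hN.conj_mem ⟨x, h_le hx⟩ hx ⟨k, hk⟩
        · intro hx
          have h2 := hN.conj_mem ⟨k * x * k⁻¹, h_le hx⟩ hx ⟨k⁻¹, K.inv_mem hk⟩
          have h3 : k⁻¹ * (k * x * k⁻¹) * k⁻¹⁻¹ ∈ H := h2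
          have h4 : k⁻¹ * (k * x * k⁻¹) * k⁻¹⁻¹ = x := by group
          rwa [h4] at h3
      exact (map_mono h1).trans (le_normalizer_map P.subtype)
    have hpi : primesNotDvd (Nat.card K') = primesNotDvd (Nat.card H') := by
      apply primesNotDvd_eq
      · intro r hr hrK
        have h5 := hPπ r hr (hrK.trans (Subgroup.card_dvd_of_le hKP))
        exact h5.trans (Subgroup.card_dvd_of_le hA)
      · intro r _ hrH
        exact hrH.trans (Subgroup.card_dvd_of_le hHK)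
    have hK't : K' ≠ ⊤ := fun h => hP (top_le_iff.mp (h ▸ hKP))
    have hqH : ¬ q ∣ Nat.card H' := by
      intro h5
      exact hqA (hPπ q hq.out (h5.trans (Subgroup.card_dvd_of_le hHP)))
    exact pack_trans h (step hG hqH ⟨h.th, rfl, h.tr, fun Q hQ => hQ⟩ hHK hKN hpi hK't)

end

end Cfsg.Agent.H12.BG7
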