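import Mathlib
import Cfsg.Agent.H12_BG7c
import Cfsg.Agent.H2_Thompson
import Cfsg.Agent.H11_Local
import Cfsg.Agent.H22_PSolv

/-! BG section 7, part 4: S1395(d) and S1396 -/

set_option autoImplicit false
set_option linter.style.haveILetI false

open Pointwise
open scoped commutatorElement

namespace Cfsg.Agent.H12.BG7

open Cfsg Subgroup H13.Syl H12.Trans

universe u

section
variable {G : Type u} [Group G] [Finite G]

/-- relative form of `BG6.inf_commutator_of_supplement` -/
theorem inf_commutator_rel {N K U H : Subgroup G} (hKN : K ≤ N) (hUN : U ≤ N) (hNK : N ≤ normalizer (K : Set G))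
    (hKU : K ⊔ U = N) (hH : H ≤ U) (hcop : (Nat.card H).Coprime (Nat.card K)) : H ⊓ ⁅N, N⁆ = H ⊓ ⁅U, U⁆ := by
  haveI : (K.subgroupOf N).Normal := Core.normal_subgroupOf_of_le hNK
  have hHN : H ≤ N := hH.trans hUN
  have e : ∀ X : Subgroup G, X ≤ N → (X.subgroupOf N).map N.subtype = X := by
    intro X hX
    rw [subgroupOf_map_subtype, inf_eq_left.mpr hX]
  have h1 := BG6.inf_commutator_of_supplement (K := K.subgroupOf N) (U := U.subgroupOf N) (H := H.subgroupOf N) (by
      apply Subgroup.map_injective N.subtype_injective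
      rw [Subgroup.map_sup, e K hKN, e U hUN, hKU, ← MonoidHom.range_eq_map, range_subtype])
    (by
      intro x hx
      exact hH hx) (by
      rw [H2.Card.card_subgroupOf_of_le hHN, H2.Card.card_subgroupOf_of_le hKN]; exact hcop)
  have h2 := congrArg (Subgroup.map N.subtype) h1
  rw [Subgroup.map_inf _ _ _ N.subtype_injective, Subgroup.map_inf _ _ _ N.subtype_injective, map_commutator,
    e U hUN, e H hHN, _root_.commutator_def, map_commutator, ← MonoidHom.range_eq_map, range_subtype] at h2
  exact h2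

theorem pack_frattini {P : Subgroup G} {q : ℕ}
    (htr : ∀ Q₁ Q₂ : Subgroup G, MaxInv P q Q₁ → MaxInv P q Q₂ →
      ∃ k ∈ O' P (centralizer (P : Set G)), Q₂ = cj k Q₁) {Q : Subgroup G} (hQ : MaxInv P q Q) :
    P ⊓ ⁅normalizer (P : Set G), normalizer (P : Set G)⁆ ≤ ⁅normalizer (Q : Set G), normalizer (Q : Set G)⁆ ∧
    normalizer (P : Set G) = O' P (centralizer (P : Set G)) ⊔ (normalizer (P : Set G) ⊓ normalizer (Q : Set G)) := by
  set N := normalizer (P : Set G) with hN
  set K := O' P (centralizer (P : Set G)) with hK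
  have hKC : K ≤ centralizer (P : Set G) := O'_le _ _
  have hKN : K ≤ N := hKC.trans (centralizer_le_normalizer _)
  have hsup : K ⊔ (N ⊓ normalizer (Q : Set G)) = N := by
    apply le_antisymm (sup_le hKN inf_le_left)
    intro g hg
    obtain ⟨k, hk, hk'⟩ := htr Q (cj g Q) hQ (MaxInv.conj_normal hQ hg)
    have h1 : k⁻¹ * g ∈ normalizer (Q : Set G) := by
      rw [mem_normalizer_iff_cj, cj_mul, hk', cj_inv_cj]
    have h2 : g = k * (k⁻¹ * g) := by group
    rw [h2]
    exact mul_mem (mem_sup_left hk) (mem_sup_right ⟨N.mul_mem (N.inv_mem (hKN hk)) hg, h1⟩)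
  refine ⟨?_, hsup.symm⟩
  have hNK : N ≤ normalizer (K : Set G) := by
    refine le_trans ?_ (Core.normalizer_le_normalizer_piCoreOf _ _)
    intro b hb
    rw [mem_normalizer_iff_cj, cj_centralizer, cj_eq_of_mem_normalizer hb]
  have h3 := inf_commutator_rel hKN inf_le_left hNK hsup (H := P) (le_inf le_normalizer hQ.1.2)
    (O'_coprime P _).symm
  rw [h3]
  exact inf_le_right.trans (commutator_mono inf_le_right inf_le_right)

/-- relative form of `maximal_elementary_controls` -/
theorem le_O'_of_plength {p : ℕ} [hp : Fact p.Prime] (hp2 : p ≠ 2) {X E D : Subgroup G}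
    (hX : Group.IsSolvable X) (hpl : PLengthLE p 1 X) (hEX : E ≤ X) (hE : IsElementaryAbelian p E)
    (hEmax : ∀ B : Subgroup G, B ≤ X → IsElementaryAbelian p B → E ≤ B → B = E) (hDX : D ≤ X)
    (hD : (Nat.card D).Coprime p) (hED : E ≤ normalizer (D : Set G)) : D ≤ (pPrimeCore p X).map X.subtype := by
  have h1 := BG6.maximal_elementary_controls (G := X) p hp2 hpl (E.subgroupOf X) (D.subgroupOf X)
    (H2.Thompson.ea_comap X.subtype X.subtype_injective hE) (by
      intro B hB hle
      have h2 := hEmax (B.map X.subtype) (map_subtype_le _) (H2.Thompson.ea_map X.subtype hB) (by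
        have := map_mono (f := X.subtype) hle
        rwa [subgroupOf_map_subtype, inf_eq_left.mpr hEX] at this)
      apply Subgroup.map_injective X.subtype_injective
      rw [h2, subgroupOf_map_subtype, inf_eq_left.mpr hEX]) (by
      rw [H2.Card.card_subgroupOf_of_le hDX]; exact hD) (by
      intro e he
      rw [mem_normalizer_iff_cj]
      apply H2.Card.eq_of_le_of_card_eq _ (card_cj e _)
      rw [cj_le_iff_forall]
      intro x hx
      exact ((mem_normalizer_iff.mp (hED he)) x).mp hx)
  have h3 := map_mono (f := X.subtype) h1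
  rwa [subgroupOf_map_subtype, inf_eq_left.mpr hDX] at h3

theorem O'_eq_pPrimeCore {p : ℕ} [hp : Fact p.Prime] {A : Subgroup G} (hA : IsPGroup p A) (hAb : A ≠ ⊥)
    (X : Subgroup G) : (pPrimeCore p X).map X.subtype = O' A X := by
  have h1 : primesNotDvd (Nat.card A) = primesNotDvd p := by
    obtain ⟨k, hk⟩ := IsPGroup.iff_card.mp hA
    have hk0 : k ≠ 0 := by
      rintro rfl
      rw [pow_zero] at hk
      exact hAb (Subgroup.eq_bot_of_card_eq _ hk)
    rw [hk]
    apply primesNotDvd_eq
    · intro r hr h; exact hr.dvd_of_dvd_pow h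
    · intro r _ h; exact dvd_pow h hk0
  have h2 : ∀ n : ℕ, n ≠ 0 → (Core.PiNum (primesNotDvd p) n ↔ n.Coprime p) := fun n hn => piNum_primesNotDvd hn
  apply le_antisymm
  · have hn : (pPrimeCore p X).Normal := H1.Nilp.pPrimeCore_normal p
    apply le_O' (map_subtype_le _)
    · intro h hh
      rw [mem_normalizer_iff_cj]
      apply H2.Card.eq_of_le_of_card_eq _ (card_cj h _)
      rw [cj_le_iff_forall]
      rintro _ ⟨x, hx, rfl⟩
      exact ⟨⟨h, hh⟩ * x * ⟨h, hh⟩⁻¹, hn.conj_mem x hx _, rfl⟩
    · obtain ⟨k, hk⟩ := IsPGroup.iff_card.mp hA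
      rw [hk]
      exact Nat.Coprime.pow_right k
        (Nat.Coprime.coprime_dvd_left (Subgroup.card_map_dvd _ _) (H1.Nilp.pPrimeCore_coprime p))
  · apply H11.Local.le_map_pPrimeCore p (O'_le _ _)
    · rw [← h2 _ Nat.card_pos.ne', ← h1]; exact Core.piCoreOf_piNum _ _
    · exact le_normalizer_O' _ _

/-- from "A-invariant p'-subgroups of proper subgroups lie in O_{p'}" to the transitivity hypothesis -/
theorem th_of_forall {p : ℕ} [hp : Fact p.Prime] {A : Subgroup G} (hA : IsPGroup p A) (hAb : A ≠ ⊥) (hAt : A ≠ ⊤)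
    (h : ∀ X : Subgroup G, X ≠ ⊤ → A ≤ X → ∀ Y : Subgroup G, Y ≤ X → (Nat.card Y).Coprime p →
      A ≤ normalizer (Y : Set G) → Y ≤ (pPrimeCore p X).map X.subtype) : TransitivityHypothesis A := by
  refine ⟨hAb, hAt, fun X hX hAX => ?_⟩
  apply le_antisymm
  · apply sSup_le
    intro Y hY
    obtain ⟨h1, h2, h3⟩ := mem_invSubgroups.mp hY
    have h4 : (Nat.card Y).Coprime p := by
      obtain ⟨k, hk⟩ := IsPGroup.iff_card.mp hA
      have hk0 : k ≠ 0 := by
        rintro rfl
        rw [pow_zero] at hk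
        exact hAb (Subgroup.eq_bot_of_card_eq _ hk)
      rw [hk] at h2
      exact (Nat.coprime_pow_right_iff (Nat.pos_of_ne_zero hk0) _ _).mp h2
    have h5 := h X hX hAX Y h1 h4 h3
    rw [O'_eq_pPrimeCore hA hAb X] at h5
    exact h5
  · apply le_sSup
    exact mem_invSubgroups.mpr ⟨O'_le A X, O'_coprime A X, hAX.trans (le_normalizer_O' A X)⟩

/-- solvable groups are p-constrained -/
theorem isPConstrained_of_solvable {X : Type u} [Group X] [Finite X] (hX : Group.IsSolvable X) {p : ℕ}
    [hp : Fact p.Prime] : IsPConstrained p X := by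
  haveI : (pPrimeCore p X).Normal := H1.Nilp.pPrimeCore_normal p
  rw [IsPConstrained]
  set O := pPrimeCore p X with hO
  set π := QuotientGroup.mk' O with hπ
  set L := pPrimePCore p X with hL
  intro S
  have hLe : L = (pCore p (X ⧸ O)).comap π := rfl
  have hOL : O ≤ L := H1.Hall.le_comap_mk _ _
  have hidx : ∃ m, O.relIndex L = p ^ m := by
    rw [hLe, H1.Hall.relIndex_comap_mk]
    exact IsPGroup.iff_card.mp (H1.Nilp.pCore_isPGroup p)
  have hT : IsSylIn p ((S : Subgroup L).map L.subtype) L := isSylIn_map_subtype S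
  set T := (S : Subgroup L).map L.subtype with hTdef
  have hsup := BG6.eq_sup_of_isSylIn hT hOL hidx
  have hmap : pCore p (X ⧸ O) ≤ T.map π := by
    intro y hy
    obtain ⟨x, rfl⟩ := QuotientGroup.mk'_surjective O y
    have hx : x ∈ O ⊔ T := by rw [hsup]; exact hy
    obtain ⟨o, ho, t, ht, rfl⟩ := (H2.Card.mem_sup_iff' (Core.le_normalizer_of_normal T O)).mp hx
    refine ⟨t, ht, ?_⟩
    have : π o = 1 := (QuotientGroup.eq_one_iff o).mpr ho
    rw [map_mul, this, one_mul]
  haveI : Group.IsSolvable (X ⧸ O) := Group.isSolvable_of_surjective (QuotientGroup.mk'_surjective O)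
  have hcen := H22.PSolv.centralizer_pCore_le (H22.PSolv.isPSolvable_of_isSolvable (p := p) (G := X ⧸ O) inferInstance)
    (H11.Cores.pPrimeCore_quotient p)
  intro x hx
  show π x ∈ pCore p (X ⧸ O)
  apply hcen
  rw [mem_centralizer_iff]
  intro y hy
  obtain ⟨t, ht, rfl⟩ := hmap hy
  rw [← map_mul, ← map_mul, (mem_centralizer_iff.mp hx) t ht]

/-- S1396 -/
theorem th_of_cases (hG : IsMinSimpleOddOrder G) {p : ℕ} [hp : Fact p.Prime] (hpG : p ∣ Nat.card G)
    {A : Subgroup G} (hAp : IsPGroup p A) (hAc : IsMulCommutative A)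
    (h : (∀ x ∈ Subgroup.centralizer (A : Set G), x ^ p = 1 ↔ x ∈ A) ∧
        (∀ H : Subgroup G, H ≠ ⊤ → Cfsg.PLengthLE p 1 H) ∨
      ∃ P : Sylow p G, Cfsg.IsSCN (P : Subgroup G) A ∧ ¬ Cfsg.PRankLE p 1 A) :
    TransitivityHypothesis A := by
  have hp2 : p ≠ 2 := prime_ne_two hG hpG
  have hAt : A ≠ ⊤ := ne_top_of_isPGroup hG hAp
  have hAC : A ≤ centralizer (A : Set G) := Subgroup.le_centralizer_iff_isMulCommutative.mpr hAc
  rcases h with ⟨h1, h2⟩ | ⟨P, ⟨hAP, hPA, hPC⟩, hrk⟩
  · have hAb : A ≠ ⊥ := by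
      rintro rfl
      obtain ⟨x, hx⟩ := exists_prime_orderOf_dvd_card' p hpG
      have h3 : x ∈ (⊥ : Subgroup G) := (h1 x (by
        rw [mem_centralizer_iff]
        intro y hy
        have : y = 1 := hy
        rw [this, one_mul, mul_one])).mp (by rw [← hx]; exact pow_orderOf_eq_one x)
      rw [mem_bot] at h3
      rw [h3, orderOf_one] at hx
      exact hp.out.one_lt.ne hx
    refine th_of_forall hAp hAb hAt (fun X hX hAX Y hYX hY hAY => ?_)
    refine le_O'_of_plength hp2 (solvable_of_ne_top hG hX) (h2 X hX) hAX ⟨hAc, fun a ha => (h1 a (hAC ha)).mpr ha⟩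
      ?_ hYX hY hAY
    rintro B - ⟨hB1, hB2⟩ hAB
    apply le_antisymm _ hAB
    intro b hb
    refine (h1 b ?_).mp (hB2 b hb)
    rw [mem_centralizer_iff]
    intro a ha
    have := hB1.is_comm.comm (⟨a, hAB ha⟩ : B) ⟨b, hb⟩
    exact congrArg Subtype.val this
  · have hAb : A ≠ ⊥ := by
      rintro rfl
      apply hrk
      intro B _ _
      rw [Subsingleton.elim B ⊥, Subgroup.card_bot]
      exact Nat.one_le_pow _ _ hp.out.pos
    -- A is a Sylow subgroup of its centralizer
    have hSyl : IsSylIn p A (centralizer (A : Set G)) := by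
      have h3 : IsSylIn p (P : Subgroup G) (normalizer (A : Set G)) :=
        (isSylIn_sylow_top P).mono hPA le_top
      have h4 := h3.inf_of_le_normalizer (N := centralizer (A : Set G)) (centralizer_le_normalizer _) (by
        intro b hb
        rw [mem_normalizer_iff_cj, cj_centralizer, cj_eq_of_mem_normalizer hb])
      rwa [hPC] at h4
    have hfull : ∀ x ∈ centralizer (A : Set G), IsPGroup p (zpowers x) → x ∈ A := by
      intro x hx hxp
      obtain ⟨y, hy, hy'⟩ := hSyl.exists_conj_le hxp (by rw [zpowers_le]; exact hx)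
      have h5 : y * x * y⁻¹ ∈ A := hy' (conj_mem_cj (mem_zpowers x))
      have h6 : y⁻¹ * (y * x * y⁻¹) * y = y * x * y⁻¹ := by
        have := (mem_centralizer_iff.mp hy) _ h5
        calc y⁻¹ * (y * x * y⁻¹) * y = y⁻¹ * ((y * x * y⁻¹) * y) := by group
          _ = y⁻¹ * (y * (y * x * y⁻¹)) := by rw [this]
          _ = _ := by group
      have h7 : y⁻¹ * (y * x * y⁻¹) * y = x := by group
      rw [h7] at h6
      rw [h6]; exact h5
    refine th_of_forall hAp hAb hAt (fun X hX hAX Y hYX hY hAY => ?_)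
    have h8 : Y.subgroupOf X ≤ pPrimeCore p X := by
      apply le_pPrimeCore_of_full (E := A.subgroupOf X) (isPConstrained_of_solvable (solvable_of_ne_top hG hX))
        (hAp.comap_of_injective _ (Subgroup.subtype_injective _))
      · intro x hx hxp
        rw [mem_subgroupOf]
        apply hfull
        · rw [mem_centralizer_iff]
          intro e he
          exact congrArg Subtype.val ((mem_centralizer_iff.mp hx) ⟨e, hAX he⟩ he)
        · have h3 := hxp.map X.subtype
          rw [MonoidHom.map_zpowers] at h3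
          exact h3
      · intro h; exact absurd h hp2
      · rw [H2.Card.card_subgroupOf_of_le hYX]; exact hY
      · intro e he
        rw [mem_normalizer_iff_cj]
        apply H2.Card.eq_of_le_of_card_eq _ (card_cj e _)
        rw [cj_le_iff_forall]
        intro x hx
        exact ((mem_normalizer_iff.mp (hAY he)) x).mp hx
    have h3 := map_mono (f := X.subtype) h8
    rwa [subgroupOf_map_subtype, inf_eq_left.mpr hYX] at h3

end

end Cfsg.Agent.H12.BG7
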