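import Cfsg.Agent.H22_PSolv
import Cfsg.Agent.H2_PCons
import Cfsg.Agent.H11_Local
import Cfsg.Agent.H1_Coprime

/-!
H13_Misc: `O_{p'}(C_X(P)) ≤ O_{p'}(X)` for `p`-solvable `X`.
-/

set_option autoImplicit false

namespace Cfsg.Agent.H13.Misc

open Cfsg Subgroup Cfsg.Agent.H22.PSolv

universe u

variable {p : ℕ} [hp : Fact p.Prime]

/-- A `p'`-subgroup of `C_X(P)` normalized by `C_X(P)` lies in `O_{p'}(X)`, `X` `p`-solvable. -/
theorem le_pPrimeCore_of_centralizer {X : Type u} [Group X] [Finite X] (hX : IsPSolvable p X)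
    {P D : Subgroup X} (hP : IsPGroup p P) (hD : (Nat.card D).Coprime p)
    (hDC : D ≤ centralizer (P : Set X)) (hn : centralizer (P : Set X) ≤ normalizer (D : Set X)) :
    D ≤ pPrimeCore p X := by
  haveI : (pPrimeCore p X).Normal := H1.Nilp.pPrimeCore_normal p
  obtain ⟨O, hO⟩ : ∃ O : Subgroup X, O = pPrimeCore p X := ⟨_, rfl⟩
  have hOn : O.Normal := hO ▸ this
  have hOc : (Nat.card O).Coprime p := hO ▸ H1.Nilp.pPrimeCore_coprime p
  have hY1 : pPrimeCore p (X ⧸ O) = ⊥ := by subst hO; exact H11.Cores.pPrimeCore_quotient p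
  rw [← hO]
  obtain ⟨π, hπ⟩ : ∃ π : X →* X ⧸ O, π = QuotientGroup.mk' O := ⟨_, rfl⟩
  have hπs : Function.Surjective π := hπ ▸ QuotientGroup.mk'_surjective O
  have hker : ∀ x, π x = 1 ↔ x ∈ O := fun x => by rw [hπ]; exact QuotientGroup.eq_one_iff x
  have hY : IsPSolvable p (X ⧸ O) := isPSolvable_quotient O hX
  have hc := centralizer_pCore_le hY hY1
  have hPπ : IsPGroup p (P.map π) := hP.map π
  have hcen : centralizer ((P.map π : Subgroup (X ⧸ O)) : Set (X ⧸ O)) ≤ (centralizer (P : Set X)).map π := by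
    intro x' hx'
    obtain ⟨x, rfl⟩ := hπs x'
    obtain ⟨d, hd, hxd⟩ := H1.Coprime.exists_mul_mem_centralizer (A := P) (D := O)
      (by rw [normalizer_eq_top]; exact le_top)
      (by
        obtain ⟨n, hn⟩ := hP.exists_card_eq
        rw [hn]; exact Nat.Coprime.pow_left n hOc.symm) (Or.inl (by haveI := hP.isNilpotent; infer_instance)) x (by
        intro a ha
        rw [← hker]
        have h1 := (mem_centralizer_iff.mp hx') (π a) (mem_map_of_mem π ha)
        rw [map_mul, map_mul, map_mul, map_inv, map_inv, h1]; group)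
    refine ⟨x * d, hxd, ?_⟩
    have : π d = 1 := (hker d).mpr hd
    rw [map_mul, this, mul_one]
  have h1 : D.map π ≤ (pPrimeCore p (centralizer ((P.map π : Subgroup (X ⧸ O)) : Set (X ⧸ O)))).map
      (centralizer ((P.map π : Subgroup (X ⧸ O)) : Set (X ⧸ O))).subtype := by
    apply H11.Local.le_map_pPrimeCore
    · rintro _ ⟨d, hd, rfl⟩
      rw [mem_centralizer_iff]
      rintro _ ⟨x, hx, rfl⟩
      rw [← map_mul, ← map_mul, mem_centralizer_iff.1 (hDC hd) x hx]
    · exact Nat.Coprime.coprime_dvd_left (card_map_dvd D π) hD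
    · intro y hy
      obtain ⟨x, hx, rfl⟩ := hcen hy
      exact le_normalizer_map π (mem_map_of_mem π (hn hx))
  rw [H2.PCons.pPrimeCore_centralizer hc hPπ, Subgroup.map_bot, le_bot_iff, Subgroup.map_eq_bot_iff] at h1
  exact fun x hx => (hker x).1 (h1 hx)

end Cfsg.Agent.H13.Misc
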