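import Mathlib
import Cfsg.Agent.H12_BG7d
import Cfsg.Agent.H12_Fit
import Cfsg.Agent.H12_Rank2d
import Cfsg.Agent.H13_Misc

/-! Local tools for BG sections 8, 9 and later: `O_q(M)`, `O_{q'}(M)` as subgroups of the ambient group. -/

set_option autoImplicit false

open Pointwise
open scoped commutatorElement

namespace Cfsg.Agent.H12.Loc

open Cfsg Subgroup H13.Syl

universe u

variable {G : Type u} [Group G]

/-- `O_q(M)` -/
def Oq (q : ℕ) (M : Subgroup G) : Subgroup G := piCoreOf {q} M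

/-- `O_{q'}(M)` -/
def Oc (q : ℕ) (M : Subgroup G) : Subgroup G := piCoreOf {q}ᶜ M

theorem Oq_le (q : ℕ) (M : Subgroup G) : Oq q M ≤ M := Core.piCoreOf_le _ _
theorem Oc_le (q : ℕ) (M : Subgroup G) : Oc q M ≤ M := Core.piCoreOf_le _ _
theorem le_normalizer_Oq (q : ℕ) (M : Subgroup G) : M ≤ normalizer (Oq q M : Set G) := Core.le_normalizer_piCoreOf _ _
theorem le_normalizer_Oc (q : ℕ) (M : Subgroup G) : M ≤ normalizer (Oc q M : Set G) := Core.le_normalizer_piCoreOf _ _

theorem Oq_isPGroup [Finite G] {q : ℕ} (hq : q.Prime) (M : Subgroup G) : IsPGroup q (Oq q M) :=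
  (Core.isPGroup_iff_piNum hq).2 (Core.piCoreOf_piNum _ _)

theorem Oc_coprime [Finite G] {q : ℕ} (hq : q.Prime) (M : Subgroup G) : (Nat.card (Oc q M)).Coprime q :=
  (Core.piNum_singleton_compl hq).1 (Core.piCoreOf_piNum _ _)

theorem le_Oq [Finite G] {q : ℕ} (hq : q.Prime) {N M : Subgroup G} (h1 : N ≤ M) (h2 : M ≤ normalizer (N : Set G))
    (h3 : IsPGroup q N) : N ≤ Oq q M :=
  Core.le_piCoreOf h1 h2 ((Core.isPGroup_iff_piNum hq).1 h3)

theorem le_Oc [Finite G] {q : ℕ} (hq : q.Prime) {N M : Subgroup G} (h1 : N ≤ M) (h2 : M ≤ normalizer (N : Set G))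
    (h3 : (Nat.card N).Coprime q) : N ≤ Oc q M :=
  Core.le_piCoreOf h1 h2 ((Core.piNum_singleton_compl hq).2 h3)

theorem Oq_eq_map [Finite G] {q : ℕ} (hq : q.Prime) (M : Subgroup G) : Oq q M = (pCore q M).map M.subtype := by
  unfold Oq piCoreOf
  rw [Core.piCore_singleton hq]

theorem Oc_eq_map [Finite G] {q : ℕ} (hq : q.Prime) (M : Subgroup G) : Oc q M = (pPrimeCore q M).map M.subtype := by
  unfold Oc piCoreOf
  rw [Core.piCore_compl hq]

theorem Oq_le_fittingOf [Finite G] {q : ℕ} (hq : q.Prime) (M : Subgroup G) : Oq q M ≤ fittingOf M := by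
  have : Fact q.Prime := ⟨hq⟩
  exact Core.le_fittingOf (Oq_le q M) (le_normalizer_Oq q M) (Core.isNilpotent_of_isPGroup (Oq_isPGroup hq M))

theorem fittingOf_le_iff [Finite G] {M H : Subgroup G} : fittingOf M ≤ H ↔ ∀ q : ℕ, q.Prime → Oq q M ≤ H := by
  constructor
  · intro h q hq
    exact (Oq_le_fittingOf hq M).trans h
  · intro h
    unfold fittingOf
    rw [H11.Cores.fittingSubgroup_eq_iSup_pCore, Subgroup.map_iSup, iSup_le_iff]
    intro q
    rw [← Oq_eq_map q.2]
    exact h q q.2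

theorem le_centralizer_fittingOf_iff [Finite G] {M H : Subgroup G} :
    H ≤ centralizer (fittingOf M : Set G) ↔ ∀ q : ℕ, q.Prime → H ≤ centralizer (Oq q M : Set G) := by
  rw [le_centralizer_iff, fittingOf_le_iff]
  constructor
  · intro h q hq; exact le_centralizer_iff.1 (h q hq)
  · intro h q hq; exact le_centralizer_iff.1 (h q hq)

theorem mem_Oq_of_mem_fittingOf [Finite G] {M : Subgroup G} {q : ℕ} (hq : q.Prime) {x : G} (hx : x ∈ fittingOf M)
    (hxq : ∃ n, x ^ (q ^ n) = 1) : x ∈ Oq q M := by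
  have : Fact q.Prime := ⟨hq⟩
  obtain ⟨y, hy, rfl⟩ := hx
  rw [Oq_eq_map hq]
  refine ⟨y, H12.Rank2.mem_pCore_of_mem_fitting hy ?_, rfl⟩
  obtain ⟨n, hn⟩ := hxq
  exact ⟨n, Subtype.ext hn⟩

theorem le_Oq_of_le_fittingOf [Finite G] {M : Subgroup G} {q : ℕ} (hq : q.Prime) {B : Subgroup G} (hB : B ≤ fittingOf M)
    (hBq : IsPGroup q B) : B ≤ Oq q M := by
  intro x hx
  obtain ⟨n, hn⟩ := hBq ⟨x, hx⟩
  exact mem_Oq_of_mem_fittingOf hq (hB hx) ⟨n, congrArg Subtype.val hn⟩

theorem Oq_le_centralizer_Oq [Finite G] {p q : ℕ} (hp : p.Prime) (hq : q.Prime) (hpq : p ≠ q) (M : Subgroup G) :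
    Oq p M ≤ centralizer (Oq q M : Set G) := by
  have : Fact p.Prime := ⟨hp⟩
  have : Fact q.Prime := ⟨hq⟩
  exact Core.commutator_eq_bot_of_nilpotent_coprime (N := fittingOf M) (Core.fittingOf_isNilpotent M)
    (Oq_le_fittingOf hq M) (Oq_le_fittingOf hp M) ((Oq_le p M).trans (le_normalizer_Oq q M)) (by
      obtain ⟨a, ha⟩ := IsPGroup.iff_card.1 (Oq_isPGroup hp M)
      obtain ⟨b, hb⟩ := IsPGroup.iff_card.1 (Oq_isPGroup hq M)
      rw [ha, hb]
      exact Nat.Coprime.pow _ _ ((Nat.coprime_primes hp hq).2 hpq))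

theorem coprime_card_of_isPGroup [Finite G] {q : ℕ} (hq : q.Prime) {A B : Subgroup G} (hA : IsPGroup q A)
    (hB : (Nat.card B).Coprime q) : (Nat.card A).Coprime (Nat.card B) := by
  have : Fact q.Prime := ⟨hq⟩
  obtain ⟨a, ha⟩ := IsPGroup.iff_card.1 hA
  rw [ha]
  exact Nat.Coprime.pow_left _ hB.symm

theorem inf_eq_bot_of_isPGroup [Finite G] {q : ℕ} (hq : q.Prime) {A B : Subgroup G} (hA : IsPGroup q A)
    (hB : (Nat.card B).Coprime q) : A ⊓ B = ⊥ :=
  H1.Basic.disjoint_of_coprime_card (coprime_card_of_isPGroup hq hA hB)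

/-- subgroups normalizing each other and meeting trivially commute -/
theorem le_centralizer_of_inf {A B : Subgroup G} (h1 : A ≤ normalizer (B : Set G)) (h2 : B ≤ normalizer (A : Set G))
    (h : A ⊓ B = ⊥) : A ≤ centralizer (B : Set G) := by
  rw [← commutator_eq_bot_iff_le_centralizer, eq_bot_iff, ← h]
  refine le_inf ?_ ?_
  · exact H1.Coprime.commutator_le_of_le_normalizer h2
  · rw [commutator_comm]; exact H1.Coprime.commutator_le_of_le_normalizer h1

/-- `O_q(M)` and `O_{q'}(M)` commute -/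
theorem Oq_le_centralizer_Oc [Finite G] {q : ℕ} (hq : q.Prime) (M : Subgroup G) :
    Oq q M ≤ centralizer (Oc q M : Set G) :=
  le_centralizer_of_inf ((Oq_le q M).trans (le_normalizer_Oc q M)) ((Oc_le q M).trans (le_normalizer_Oq q M))
    (inf_eq_bot_of_isPGroup hq (Oq_isPGroup hq M) (Oc_coprime hq M))

theorem Oc_le_centralizer_Oq [Finite G] {q : ℕ} (hq : q.Prime) (M : Subgroup G) :
    Oc q M ≤ centralizer (Oq q M : Set G) := le_centralizer_iff.1 (Oq_le_centralizer_Oc hq M)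

/-- coprime action on a solvable group, trivial on the Fitting subgroup -/
theorem le_centralizer_of_fitting [Finite G] {R B : Subgroup G} (hR : Group.IsSolvable R) (hB : B ≤ normalizer (R : Set G))
    (hcop : (Nat.card B).Coprime (Nat.card R)) (hF : B ≤ centralizer (fittingOf R : Set G)) : B ≤ centralizer (R : Set G) := by
  have h1 : ⁅⁅fittingOf R, R⁆, B⁆ = ⊥ := by
    rw [eq_bot_iff]
    have h2 : ⁅fittingOf R, R⁆ ≤ fittingOf R :=
      H1.Coprime.commutator_le_of_le_normalizer (Core.le_normalizer_fittingOf R)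
    refine (commutator_mono h2 le_rfl).trans ?_
    rw [le_bot_iff, commutator_eq_bot_iff_le_centralizer]
    exact le_centralizer_iff.1 hF
  have h2 : ⁅⁅B, fittingOf R⁆, R⁆ = ⊥ := by
    rw [(commutator_eq_bot_iff_le_centralizer).2 hF, commutator_bot_left]
  have h3 : ⁅⁅R, B⁆, fittingOf R⁆ = ⊥ := by
    apply commutator_commutator_eq_bot_of_rotate
    · rw [commutator_comm B]
      rw [(commutator_eq_bot_iff_le_centralizer).2 (le_centralizer_iff.1 hF), commutator_bot_left]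
    · exact h1
  have h4 : ⁅R, B⁆ ≤ R := H1.Coprime.commutator_le_of_le_normalizer hB
  have h5 : ⁅R, B⁆ ≤ fittingOf R :=
    (le_inf h4 ((commutator_eq_bot_iff_le_centralizer).1 h3)).trans (Core.inf_centralizer_fittingOf_le R hR)
  have h6 : ⁅⁅R, B⁆, B⁆ = ⊥ := by
    rw [eq_bot_iff]
    refine (commutator_mono h5 le_rfl).trans ?_
    rw [le_bot_iff, commutator_eq_bot_iff_le_centralizer]
    exact le_centralizer_iff.1 hF
  rw [H1.Coprime.commutator_commutator_eq B R hB hcop (Or.inr hR), commutator_eq_bot_iff_le_centralizer] at h6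
  exact le_centralizer_iff.1 h6

/-- `O_{q'}(C_X(B)) ≤ O_{q'}(X)` -/
theorem le_Oc_of_centralizer [Finite G] {q : ℕ} (hq : q.Prime) {X B D : Subgroup G} (hX : Group.IsSolvable X)
    (hBX : B ≤ X) (hB : IsPGroup q B) (hDX : D ≤ X) (hDB : D ≤ centralizer (B : Set G)) (hD : (Nat.card D).Coprime q)
    (hn : X ⊓ centralizer (B : Set G) ≤ normalizer (D : Set G)) : D ≤ Oc q X := by
  have : Fact q.Prime := ⟨hq⟩
  rw [Oc_eq_map hq]
  have h1 : D.subgroupOf X ≤ pPrimeCore q X := by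
    refine H13.Misc.le_pPrimeCore_of_centralizer (X := X) (P := B.subgroupOf X) (H22.PSolv.isPSolvable_of_isSolvable hX) ?_ ?_ ?_ ?_
    · exact hB.comap_subtype
    · rw [H1.Basic.card_subgroupOf hDX]; exact hD
    · intro d hd
      rw [mem_centralizer_iff]
      intro b hb
      exact Subtype.ext (mem_centralizer_iff.1 (hDB hd) b hb)
    · intro x hx
      rw [mem_normalizer_iff]
      have h2 : (x : G) ∈ normalizer (D : Set G) := by
        apply hn
        refine ⟨x.2, ?_⟩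
        show (x : G) ∈ centralizer (B : Set G)
        rw [mem_centralizer_iff]
        intro b hb
        exact congrArg Subtype.val (mem_centralizer_iff.1 hx ⟨b, hBX hb⟩ hb)
      intro y
      exact (mem_normalizer_iff.1 h2 y)
  exact Core.le_map_of_subgroupOf_le hDX h1

/-- nontrivial solvable group has some nontrivial `O_q` -/
theorem exists_Oq_ne_bot [Finite G] {X : Subgroup G} (hX : Group.IsSolvable X) (h : X ≠ ⊥) :
    ∃ q : ℕ, q.Prime ∧ Oq q X ≠ ⊥ := by
  by_contra hcon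
  push Not at hcon
  have h1 : fittingOf X ≤ ⊥ := fittingOf_le_iff.2 fun q hq => (hcon q hq).le
  apply h
  have h2 := Core.inf_centralizer_fittingOf_le X hX
  rw [le_bot_iff.1 h1] at h2
  rw [eq_bot_iff]
  refine le_trans ?_ h2
  refine le_inf le_rfl ?_
  intro x _
  rw [mem_centralizer_iff]
  intro y hy
  rw [SetLike.mem_coe, mem_bot] at hy
  rw [hy, one_mul, mul_one]

theorem Oq_eq_bot_of_coprime [Finite G] {q : ℕ} (hq : q.Prime) {X : Subgroup G} (h : (Nat.card X).Coprime q) : Oq q X = ⊥ := by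
  have h1 := inf_eq_bot_of_isPGroup hq (Oq_isPGroup hq X) h
  rw [inf_eq_left.2 (Oq_le q X)] at h1
  exact h1

/-- `O_r(O_{q'}(X)) ≤ O_r(X)` -/
theorem Oq_piCoreOf_le [Finite G] {r : ℕ} (hr : r.Prime) {π : Set ℕ} {X : Subgroup G} :
    Oq r (piCoreOf π X) ≤ Oq r X := by
  refine le_Oq hr ((Oq_le _ _).trans (Core.piCoreOf_le _ _)) ?_ (Oq_isPGroup hr _)
  exact (Core.le_normalizer_piCoreOf π X).trans (Core.normalizer_le_normalizer_piCoreOf {r} (piCoreOf π X))

/-- `O_{q'}(X) = 1` when `O_r(X) = 1` for all `r ≠ q` -/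
theorem Oc_eq_bot [Finite G] {q : ℕ} (hq : q.Prime) {X : Subgroup G} (hX : Group.IsSolvable X)
    (h : ∀ r : ℕ, r.Prime → r ≠ q → Oq r X = ⊥) : Oc q X = ⊥ := by
  by_contra hne
  obtain ⟨r, hr, hr2⟩ := exists_Oq_ne_bot (BG1.isSolvable_of_le (Oc_le q X) hX) hne
  apply hr2
  by_cases hrq : r = q
  · subst hrq
    exact Oq_eq_bot_of_coprime hr (Oc_coprime hr X)
  · rw [eq_bot_iff, ← h r hr hrq]
    exact Oq_piCoreOf_le hr

/-- the normalizer of a nontrivial normal subgroup of a maximal subgroup -/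
theorem normalizer_eq_of_isCoatom (hG : IsMinSimpleOddOrder G) {M N : Subgroup G} (hM : IsCoatom M)
    (h1 : N ≠ ⊥) (h2 : M ≤ normalizer (N : Set G)) (h3 : N ≤ M) : normalizer (N : Set G) = M := by
  have h4 : normalizer (N : Set G) ≠ ⊤ :=
    BG7.normalizer_ne_top hG h1 (fun h => hM.1 (top_le_iff.1 (h ▸ h3)))
  exact (hM.le_iff_eq h4).1 h2

theorem exists_isCoatom_ge [Finite G] {H : Subgroup G} (hH : H ≠ ⊤) : ∃ M : Subgroup G, IsCoatom M ∧ H ≤ M :=
  (eq_top_or_exists_le_coatom H).resolve_left hH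

end Cfsg.Agent.H12.Loc
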