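import Mathlib
import Cfsg.Agent.H12_BG8a

/-! BG Theorem 8.1(a), preparation: transitivity hypothesis. -/

set_option autoImplicit false

open Pointwise
open scoped commutatorElement

namespace Cfsg.Agent.H12.BG8

open Cfsg Subgroup H13.Syl H12.Loc

universe u

theorem eq_one_of_pow_pow {X : Type u} [Group X] {x : X} {q r m n : ℕ} (hq : q.Prime) (hr : r.Prime) (hqr : q ≠ r)
    (h1 : x ^ (q ^ m) = 1) (h2 : x ^ (r ^ n) = 1) : x = 1 := by
  have h3 := orderOf_dvd_of_pow_eq_one h1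
  have h4 := orderOf_dvd_of_pow_eq_one h2
  have h5 : (q ^ m).Coprime (r ^ n) := Nat.Coprime.pow _ _ ((Nat.coprime_primes hq hr).2 hqr)
  exact orderOf_eq_one_iff.1 (Nat.eq_one_of_dvd_coprimes h5 h3 h4)

theorem cent_type {X Y : Type u} [Group X] [Finite X] [Group Y] (f : X →* Y) (hf : Function.Surjective f)
    {q r : ℕ} (hq : q.Prime) (hr : r.Prime) (hqr : q ≠ r) {A B : Subgroup X} (hA : IsPGroup q A) (hB : IsPGroup r B)
    (hcomm : B ≤ centralizer (A : Set X)) (hker : (Nat.card f.ker).Coprime r)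
    (H : ∀ v ∈ centralizer (B : Set X), ∀ b ∈ A, ∃ n, ⁅v, b⁆ ^ (q ^ n) = 1) :
    A.map f ≤ centralizer (pCore r Y : Set Y) := by
  have : Fact q.Prime := ⟨hq⟩
  have : Fact r.Prime := ⟨hr⟩
  have : Finite Y := Finite.of_surjective f hf
  have hpr : IsPGroup r (pCore r Y) := H1.Nilp.pCore_isPGroup r
  refine H1.Coprime.p_times_q r (B.map f) (A.map f) (pCore r Y) (hB.map f) ?_ hpr ?_
    (Core.le_normalizer_of_normal _ _) (Core.le_normalizer_of_normal _ _) ?_
  · obtain ⟨k, hk⟩ := IsPGroup.iff_card.1 (hA.map f)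
    rw [hk]
    exact Nat.Coprime.pow_left _ ((Nat.coprime_primes hq hr).2 hqr)
  · rintro _ ⟨b, hb, rfl⟩
    rw [mem_centralizer_iff]
    rintro _ ⟨a, ha, rfl⟩
    rw [← map_mul, ← map_mul, mem_centralizer_iff.1 (hcomm hb) a ha]
  · rintro y ⟨hy1, hy2⟩
    obtain ⟨v, rfl⟩ := hf y
    obtain ⟨d, hd, hvd⟩ := H1.Coprime.exists_mul_mem_centralizer (A := B) (D := f.ker)
      (Core.le_normalizer_of_normal _ _) (by
        obtain ⟨k, hk⟩ := IsPGroup.iff_card.1 hB
        rw [hk]
        exact Nat.Coprime.pow_left _ hker.symm) (Or.inl (by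
          have : Group.IsNilpotent B := hB.isNilpotent
          infer_instance)) v (by
        intro b hb
        rw [MonoidHom.mem_ker]
        have h1 := mem_centralizer_iff.1 hy2 (f b) ⟨b, hb, rfl⟩
        rw [map_mul, map_mul, map_mul, map_inv, map_inv, h1]
        group)
    rw [mem_centralizer_iff]
    rintro _ ⟨a, ha, rfl⟩
    obtain ⟨n, hn⟩ := H _ hvd a ha
    have hfd : f (v * d) = f v := by rw [map_mul, MonoidHom.mem_ker.1 hd, mul_one]
    have h2 : (⁅f v, f a⁆) ^ (q ^ n) = 1 := by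
      rw [← hfd, ← map_commutatorElement, ← map_pow, hn, map_one]
    have h3 : ⁅f v, f a⁆ ∈ pCore r Y := by
      rw [commutatorElement_def, mul_assoc, mul_assoc]
      refine mul_mem hy1 ?_
      rw [← mul_assoc]
      exact (inferInstance : (pCore r Y).Normal).conj_mem _ (inv_mem hy1) _
    obtain ⟨m, hm⟩ := hpr ⟨_, h3⟩
    have h4 := eq_one_of_pow_pow hq hr hqr h2 (congrArg Subtype.val hm)
    exact (commutatorElement_eq_one_iff_mul_comm.1 h4).symm

theorem piCore_quotient_eq_bot {X : Type u} [Group X] [Finite X] (π : Set ℕ) : piCore π (X ⧸ piCore π X) = ⊥ := by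
  set K := piCore π X with hK
  set f := QuotientGroup.mk' K with hf
  have hfs : Function.Surjective f := QuotientGroup.mk'_surjective K
  have h1 : (piCore π (X ⧸ K)).comap f ≤ K := by
    apply Core.le_piCore inferInstance
    have h2 : Nat.card ((piCore π (X ⧸ K)).comap f) = Nat.card (piCore π (X ⧸ K)) * Nat.card K := by
      have := H11.Cores.card_comap_of_surjective f hfs (piCore π (X ⧸ K))
      rw [this, hf, QuotientGroup.ker_mk', mul_comm]
    rw [h2]
    exact (Core.piCore_piNum π).mul (Core.piCore_piNum π)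
  rw [eq_bot_iff]
  intro y hy
  obtain ⟨x, rfl⟩ := hfs y
  have h2 : x ∈ K := h1 hy
  rw [mem_bot, ← MonoidHom.mem_ker, hf, QuotientGroup.ker_mk']
  exact h2

theorem th_type {X : Type u} [Group X] [Finite X] (hX : Group.IsSolvable X) {n : ℕ} (A : ℕ → Subgroup X)
    (hA : ∀ q : ℕ, q.Prime → q ∣ n → IsPGroup q (A q))
    (hcomm : ∀ q r : ℕ, q.Prime → r.Prime → q ∣ n → r ∣ n → q ≠ r → A r ≤ centralizer (A q : Set X))
    (H : ∀ q r : ℕ, q.Prime → r.Prime → q ∣ n → r ∣ n → q ≠ r →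
      ∀ v ∈ centralizer (A r : Set X), ∀ b ∈ A q, ∃ m, ⁅v, b⁆ ^ (q ^ m) = 1)
    (htwo : ∀ r : ℕ, r.Prime → r ∣ n → ∃ q : ℕ, q.Prime ∧ q ∣ n ∧ q ≠ r)
    {Y : Subgroup X} (hY : (Nat.card Y).Coprime n) (hYA : ∀ q : ℕ, q.Prime → q ∣ n → A q ≤ normalizer (Y : Set X))
    (hYC : ∀ q : ℕ, q.Prime → q ∣ n → Y ⊓ centralizer (A q : Set X) = ⊥) : Y ≤ piCore (primesNotDvd n) X := by
  set K := piCore (primesNotDvd n) X with hK
  set f := QuotientGroup.mk' K with hf
  have hfs : Function.Surjective f := QuotientGroup.mk'_surjective K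
  have hkc : (Nat.card K).Coprime n := (BG7.piNum_primesNotDvd Nat.card_pos.ne').1 (Core.piCore_piNum _)
  have hker : f.ker = K := by rw [hf, QuotientGroup.ker_mk']
  have hYs : Group.IsSolvable Y := inferInstance
  have hpc : ∀ r : ℕ, r.Prime → ¬ r ∣ n → pCore r (X ⧸ K) = ⊥ := by
    intro r hr hrn
    have : Fact r.Prime := ⟨hr⟩
    rw [eq_bot_iff, ← piCore_quotient_eq_bot (X := X) (primesNotDvd n)]
    apply Core.le_piCore inferInstance
    intro s hs hsd
    have h1 := (Core.isPGroup_iff_piNum hr).1 (H1.Nilp.pCore_isPGroup (G := X ⧸ K) r) s hs hsd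
    rw [Set.mem_singleton_iff] at h1
    subst h1
    exact ⟨hs, hrn⟩
  have h1 : ∀ r : ℕ, r.Prime → Y.map f ≤ centralizer (pCore r (X ⧸ K) : Set (X ⧸ K)) := by
    intro r hr
    by_cases hrn : r ∣ n
    · obtain ⟨q, hq, hqn, hqr⟩ := htwo r hr hrn
      have h2 : (A q).map f ≤ centralizer (pCore r (X ⧸ K) : Set (X ⧸ K)) :=
        cent_type f hfs hq hr hqr (hA q hq hqn) (hA r hr hrn) (hcomm q r hq hr hqn hrn hqr)
          (by rw [hker]; exact Nat.Coprime.coprime_dvd_right hrn hkc) (H q r hq hr hqn hrn hqr)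
      have h3 : ⁅Y, A q⁆ = Y := by
        have := H1.Coprime.commutator_sup_centralizer (A q) Y (hYA q hq hqn) (by
          have : Fact q.Prime := ⟨hq⟩
          obtain ⟨k, hk⟩ := IsPGroup.iff_card.1 (hA q hq hqn)
          rw [hk]
          exact Nat.Coprime.pow_left _ (Nat.Coprime.coprime_dvd_right hqn hY).symm) (Or.inr hYs)
        rwa [hYC q hq hqn, sup_bot_eq] at this
      rw [← h3, map_commutator]
      exact (commutator_mono le_top h2).trans (commutator_le_right _ _)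
    · rw [hpc r hr hrn]
      intro x _
      rw [mem_centralizer_iff]
      intro y hy
      rw [SetLike.mem_coe, mem_bot] at hy
      rw [hy, one_mul, mul_one]
  have h2 : Y.map f ≤ fittingSubgroup (X ⧸ K) := by
    refine le_trans ?_ (H1.Hall.centralizer_fitting_le (G := X ⧸ K))
    rw [le_centralizer_iff, H11.Cores.fittingSubgroup_eq_iSup_pCore, iSup_le_iff]
    intro r
    exact le_centralizer_iff.1 (h1 r r.2)
  have h3 : Y.map f = ⊥ := by
    by_contra hne
    have h4 : Nat.card (Y.map f) ≠ 1 := fun h => hne (eq_bot_of_card_eq _ h)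
    obtain ⟨s, hs, hsd⟩ := Nat.exists_prime_and_dvd h4
    have : Fact s.Prime := ⟨hs⟩
    obtain ⟨y, hy⟩ := exists_prime_orderOf_dvd_card' (G := Y.map f) s hsd
    have h5 : (y : X ⧸ K) ∈ pCore s (X ⧸ K) := by
      refine H12.Rank2.mem_pCore_of_mem_fitting (h2 y.2) ⟨1, ?_⟩
      rw [pow_one, ← hy]
      exact_mod_cast congrArg Subtype.val (pow_orderOf_eq_one y)
    have h6 : ¬ s ∣ n := by
      intro h
      have h7 : s ∣ Nat.card Y := hsd.trans (card_map_dvd _ _)
      have := Nat.dvd_gcd h7 h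
      rw [hY] at this
      exact hs.one_lt.ne' (Nat.dvd_one.1 this)
    rw [hpc s hs h6, mem_bot] at h5
    have h7 : y = 1 := Subtype.ext h5
    rw [h7, orderOf_one] at hy
    exact hs.one_lt.ne hy
  rw [Subgroup.map_eq_bot_iff, hker] at h3
  exact h3

end Cfsg.Agent.H12.BG8
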