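import Mathlib
import Cfsg.Agent.H12_BG8b
import Cfsg.Agent.H24_Sub

/-! BG Theorem 8.1(a) -/

set_option autoImplicit false

open Pointwise
open scoped commutatorElement

namespace Cfsg.Agent.H12.BG8

open Cfsg Subgroup H13.Syl H12.Loc H12.Trans H12.BG7

universe u

variable {G : Type u} [Group G] [Finite G]

/-- If all maximal `A`-invariant `q`-subgroups coincide and `A` is subnormal in a normal subgroup `N` of a maximal
subgroup `M` with `O_q(M) = 1`, then every `A`-invariant `q`-subgroup is trivial. -/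
theorem inv_eq_bot (hG : IsMinSimpleOddOrder G) {M N A : Subgroup G} (hM : IsCoatom M) (hNM : N ≤ M)
    (hMN : M ≤ normalizer (N : Set G)) (hAN : A ≤ N) (hNn : Group.IsNilpotent N)
    (hpi : ∀ r : ℕ, r.Prime → r ∣ Nat.card N → r ∣ Nat.card A) (hA : TransitivityHypothesis A)
    {q : ℕ} (hq : q.Prime) (hqA : ¬ q ∣ Nat.card A) (hO : Oq q M = ⊥)
    (huniq : ∀ Q₁ Q₂ : Subgroup G, MaxInv A q Q₁ → MaxInv A q Q₂ → Q₁ = Q₂) {R : Subgroup G} (hR : Inv A q R) : R = ⊥ := by
  have : Fact q.Prime := ⟨hq⟩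
  have hpi' : primesNotDvd (Nat.card N) = primesNotDvd (Nat.card A) :=
    primesNotDvd_eq hpi (fun r _ h => h.trans (card_dvd_of_le hAN))
  have hA' : Pack A A q := ⟨hA, rfl, fun Q₁ Q₂ h1 h2 => ⟨1, one_mem _, by rw [huniq Q₁ Q₂ h1 h2, cj_one]⟩, fun Q hQ => hQ⟩
  have hNt : N ≠ ⊤ := fun h => hM.1 (top_le_iff.1 (h ▸ hNM))
  have e : (A.subgroupOf N).map N.subtype = A := by
    rw [Subgroup.subgroupOf_map_subtype, inf_eq_left.mpr hAN]
  have hsn : (A.subgroupOf N).IsSubnormal := H24.Sub.isSubnormal_of_nilpotent hNn _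
  have hpack : Pack A N q := by
    apply subnormal_pack hG hqA hNt hpi _ hsn
    · rw [e]
    · rw [e]; exact hA'
  obtain ⟨Q, hQ, -⟩ := exists_maxInv_ge (A := N) (q := q) (R := ⊥) ⟨IsPGroup.of_bot, by
    intro x _; exact Core.le_normalizer_of_normal ⊤ ⊥ (mem_top x)⟩
  have hMQ : M ≤ normalizer (Q : Set G) := by
    intro m hm
    rw [mem_normalizer_iff_cj]
    exact huniq _ _ (hpack.sub _ (MaxInv.conj_normal hQ (hMN hm))) (hpack.sub _ hQ)
  have hQb : Q = ⊥ := by
    by_contra hne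
    have h1 : normalizer (Q : Set G) ≠ ⊤ := normalizer_ne_top hG hne (ne_top_of_isPGroup hG hQ.1.1)
    have h2 : normalizer (Q : Set G) = M := (hM.le_iff_eq h1).1 hMQ
    have h3 : Q ≤ M := h2 ▸ le_normalizer
    apply hne
    rw [eq_bot_iff, ← hO]
    exact le_Oq hq h3 hMQ hQ.1.1
  obtain ⟨R', hR', hRR'⟩ := exists_maxInv_ge hR
  have h1 := huniq _ _ hR' (hpack.sub _ hQ)
  rw [eq_bot_iff, ← hQb, ← h1]
  exact hRR'

/-- data for the proof of 8.1(a) -/
structure S81 (M A : Subgroup G) : Prop where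
  hM : IsCoatom M
  le : A ≤ fittingOf M
  cent : ∀ q : ℕ, q.Prime → q ∣ Nat.card (fittingOf M) → centralizer ((A ⊓ Oq q M : Subgroup G) : Set G) ≤ M
  ne : ∀ q : ℕ, q.Prime → q ∣ Nat.card (fittingOf M) → A ⊓ Oq q M ≠ ⊥
  self : ∀ q : ℕ, q.Prime → q ∣ Nat.card (fittingOf M) →
    Oq q M ⊓ centralizer ((A ⊓ Oq q M : Subgroup G) : Set G) ≤ A ⊓ Oq q M
  two : ∀ r : ℕ, r.Prime → r ∣ Nat.card (fittingOf M) → ∃ q : ℕ, q.Prime ∧ q ∣ Nat.card (fittingOf M) ∧ q ≠ r
  one : ∃ q : ℕ, q.Prime ∧ q ∣ Nat.card (fittingOf M)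

theorem Oq_eq_bot_of_not_dvd {M : Subgroup G} {q : ℕ} (hq : q.Prime) (h : ¬ q ∣ Nat.card (fittingOf M)) : Oq q M = ⊥ := by
  have : Fact q.Prime := ⟨hq⟩
  obtain ⟨k, hk⟩ := IsPGroup.iff_card.1 (Oq_isPGroup hq M)
  rcases Nat.eq_zero_or_pos k with h1 | h1
  · rw [h1, pow_zero] at hk
    exact eq_bot_of_card_eq _ hk
  · exfalso
    apply h
    exact ((dvd_pow_self q h1.ne').trans (hk ▸ card_dvd_of_le (Oq_le_fittingOf hq M)))

theorem coprime_of_pi {q n : ℕ} (hq : q.Prime) (hqn : q ∣ n) {Q Y : Subgroup G} (hQ : IsPGroup q Q) (hY : (Nat.card Y).Coprime n) :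
    (Nat.card Q).Coprime (Nat.card Y) :=
  coprime_card_of_isPGroup hq hQ (Nat.Coprime.coprime_dvd_right hqn hY)

namespace S81

variable {M A : Subgroup G}

theorem solv (hG : IsMinSimpleOddOrder G) (h : S81 M A) : Group.IsSolvable M := solvable_of_ne_top hG h.hM.1

/-- `A` is generated by the `A ∩ O_q(M)` -/
theorem le_iff (h : S81 M A) {H : Subgroup G} :
    A ≤ H ↔ ∀ q : ℕ, q.Prime → q ∣ Nat.card (fittingOf M) → A ⊓ Oq q M ≤ H := by
  constructor
  · intro h1 q _ _
    exact inf_le_left.trans h1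
  · intro h1
    have hAn : Group.IsNilpotent A := H12.CN.nilpotent_of_le h.le (Core.fittingOf_isNilpotent M)
    have h2 : A ≤ fittingOf A := Core.le_fittingOf le_rfl le_normalizer hAn
    refine h2.trans (fittingOf_le_iff.2 fun q hq => ?_)
    have h3 : Oq q A ≤ A ⊓ Oq q M :=
      le_inf (Oq_le q A) (le_Oq_of_le_fittingOf hq ((Oq_le q A).trans h.le) (Oq_isPGroup hq A))
    by_cases hqd : q ∣ Nat.card (fittingOf M)
    · exact h3.trans (h1 q hq hqd)
    · rw [Oq_eq_bot_of_not_dvd hq hqd, inf_bot_eq] at h3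
      exact h3.trans bot_le

theorem le_centralizer_iff' (h : S81 M A) {Y : Subgroup G} :
    Y ≤ centralizer (A : Set G) ↔ ∀ q : ℕ, q.Prime → q ∣ Nat.card (fittingOf M) → Y ≤ centralizer ((A ⊓ Oq q M : Subgroup G) : Set G) := by
  rw [le_centralizer_iff, h.le_iff]
  constructor
  · intro h1 q hq hqd; exact le_centralizer_iff.1 (h1 q hq hqd)
  · intro h1 q hq hqd; exact le_centralizer_iff.1 (h1 q hq hqd)

/-- a `q'`-subgroup of `M` centralizing `A_q` centralizes `O_q(M)` -/
theorem pq (h : S81 M A) {q : ℕ} (hq : q.Prime) (hqd : q ∣ Nat.card (fittingOf M)) {Y : Subgroup G}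
    (hYM : Y ≤ M) (hY : (Nat.card Y).Coprime q) (hYA : Y ≤ centralizer ((A ⊓ Oq q M : Subgroup G) : Set G)) :
    Y ≤ centralizer (Oq q M : Set G) := by
  have : Fact q.Prime := ⟨hq⟩
  refine H1.Coprime.p_times_q q (A ⊓ Oq q M) Y (Oq q M) ((Oq_isPGroup hq M).to_le inf_le_right) hY (Oq_isPGroup hq M)
    (le_centralizer_iff.1 hYA) (inf_le_right.trans le_normalizer) (hYM.trans (le_normalizer_Oq q M)) ?_
  exact (h.self q hq hqd).trans (le_centralizer_iff.1 hYA)

theorem eq_bot_of_le_centralizer (hG : IsMinSimpleOddOrder G) (h : S81 M A) {Y : Subgroup G}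
    (hY : (Nat.card Y).Coprime (Nat.card (fittingOf M))) (hYA : Y ≤ centralizer (A : Set G)) : Y = ⊥ := by
  obtain ⟨q, hq, hqd⟩ := h.one
  have h1 := (h.le_centralizer_iff').1 hYA
  have hYM : Y ≤ M := (h1 q hq hqd).trans (h.cent q hq hqd)
  have h2 : Y ≤ fittingOf M := by
    refine le_trans (le_inf hYM ?_) (Core.inf_centralizer_fittingOf_le M (h.solv hG))
    rw [le_centralizer_fittingOf_iff]
    intro r hr
    by_cases hrd : r ∣ Nat.card (fittingOf M)
    · exact h.pq hr hrd hYM (Nat.Coprime.coprime_dvd_right hrd hY) (h1 r hr hrd)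
    · rw [Oq_eq_bot_of_not_dvd hr hrd]
      intro x _
      rw [mem_centralizer_iff]
      intro y hy
      rw [SetLike.mem_coe, mem_bot] at hy
      rw [hy, one_mul, mul_one]
  have h3 := H1.Basic.disjoint_of_coprime_card hY
  rwa [inf_eq_left.2 h2] at h3

theorem comm_parts (h : S81 M A) {q r : ℕ} (hq : q.Prime) (hr : r.Prime) (hqr : q ≠ r) :
    A ⊓ Oq q M ≤ centralizer ((A ⊓ Oq r M : Subgroup G) : Set G) :=
  (inf_le_right.trans (Oq_le_centralizer_Oq hq hr hqr M)).trans (centralizer_le inf_le_right)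

theorem inf_centralizer_eq_bot (hG : IsMinSimpleOddOrder G) (h : S81 M A) {Y : Subgroup G}
    (hY : (Nat.card Y).Coprime (Nat.card (fittingOf M))) (hAY : A ≤ normalizer (Y : Set G)) {q : ℕ} (hq : q.Prime)
    (hqd : q ∣ Nat.card (fittingOf M)) : Y ⊓ centralizer ((A ⊓ Oq q M : Subgroup G) : Set G) = ⊥ := by
  set W := Y ⊓ centralizer ((A ⊓ Oq q M : Subgroup G) : Set G) with hW
  have hWM : W ≤ M := inf_le_right.trans (h.cent q hq hqd)
  have hWc : (Nat.card W).Coprime (Nat.card (fittingOf M)) := Nat.Coprime.coprime_dvd_left (card_dvd_of_le inf_le_left) hY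
  apply h.eq_bot_of_le_centralizer hG hWc
  rw [h.le_centralizer_iff']
  intro r hr hrd
  by_cases hqr : r = q
  · subst hqr; exact inf_le_right
  have h1 : A ⊓ Oq r M ≤ normalizer (W : Set G) := by
    refine H22.Basic.le_normalizer_inf (inf_le_left.trans hAY) ?_
    refine le_trans ?_ (H2.PCons.normalizer_le_normalizer_centralizer _)
    exact (h.comm_parts hr hq hqr).trans (centralizer_le_normalizer _)
  have h2 : W ≤ normalizer (Oq r M : Set G) := hWM.trans (le_normalizer_Oq r M)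
  rw [← commutator_eq_bot_iff_le_centralizer, eq_bot_iff]
  have h3 : W ⊓ Oq r M = ⊥ := by
    rw [inf_comm]
    exact inf_eq_bot_of_isPGroup hr (Oq_isPGroup hr M) (Nat.Coprime.coprime_dvd_right hrd hWc)
  rw [← h3]
  refine le_inf (H1.Coprime.commutator_le_of_le_normalizer h1) ?_
  refine (commutator_mono le_rfl inf_le_right).trans ?_
  rw [commutator_comm]
  exact H1.Coprime.commutator_le_of_le_normalizer h2

/-- Step 3 -/
theorem le_piCoreOf (hG : IsMinSimpleOddOrder G) (h : S81 M A) {X Y : Subgroup G} (hX : X ≠ ⊤) (hAX : A ≤ X) (hYX : Y ≤ X)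
    (hY : (Nat.card Y).Coprime (Nat.card (fittingOf M))) (hAY : A ≤ normalizer (Y : Set G)) :
    Y ≤ piCoreOf (primesNotDvd (Nat.card (fittingOf M))) X := by
  have hXs : Group.IsSolvable X := solvable_of_ne_top hG hX
  have key := th_type (X := X) hXs (n := Nat.card (fittingOf M)) (fun q => (A ⊓ Oq q M).subgroupOf X)
    (fun q hq _ => IsPGroup.comap_subtype ((Oq_isPGroup hq M).to_le inf_le_right))
    (by
      intro q r hq hr _ _ hqr x hx
      rw [mem_centralizer_iff]
      intro y hy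
      exact Subtype.ext (mem_centralizer_iff.1 (h.comm_parts hr hq hqr.symm hx) y hy))
    (by
      intro q r hq hr hqd hrd hqr v hv b hb
      have h1 : (v : G) ∈ M := by
        apply h.cent r hr hrd
        rw [mem_centralizer_iff]
        intro a ha
        exact congrArg Subtype.val (mem_centralizer_iff.1 hv ⟨a, hAX ha.1⟩ ha)
      have h2 : (⁅(v : G), (b : G)⁆) ∈ Oq q M := by
        have h3 := (mem_normalizer_iff.1 (le_normalizer_Oq q M h1) (b : G)).1 hb.2
        rw [commutatorElement_def]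
        exact mul_mem h3 (inv_mem hb.2)
      obtain ⟨m, hm⟩ := Oq_isPGroup hq M ⟨_, h2⟩
      have hm' : (⁅(v : G), (b : G)⁆) ^ q ^ m = 1 := congrArg Subtype.val hm
      exact ⟨m, Subtype.ext hm'⟩)
    h.two (Y := Y.subgroupOf X) (by rw [H1.Basic.card_subgroupOf hYX]; exact hY)
    (by
      intro q _ _ a ha
      rw [mem_normalizer_iff]
      intro y
      exact mem_normalizer_iff.1 (hAY ha.1) y)
    (by
      intro q hq hqd
      rw [eq_bot_iff]
      rintro y ⟨hy1, hy2⟩
      rw [mem_bot]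
      apply Subtype.ext
      have h1 : (y : G) ∈ Y ⊓ centralizer ((A ⊓ Oq q M : Subgroup G) : Set G) := by
        refine ⟨hy1, ?_⟩
        show (y : G) ∈ centralizer ((A ⊓ Oq q M : Subgroup G) : Set G)
        rw [mem_centralizer_iff]
        intro a ha
        exact congrArg Subtype.val (mem_centralizer_iff.1 hy2 ⟨a, hAX ha.1⟩ ha)
      rw [h.inf_centralizer_eq_bot hG hY hAY hq hqd, mem_bot] at h1
      exact h1)
  exact Core.le_map_of_subgroupOf_le hYX key

theorem pi_eq (h : S81 M A) : primesNotDvd (Nat.card A) = primesNotDvd (Nat.card (fittingOf M)) := by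
  apply primesNotDvd_eq
  · intro r _ hrd
    exact hrd.trans (card_dvd_of_le h.le)
  · intro r hr hrd
    have : Fact r.Prime := ⟨hr⟩
    have h1 := h.ne r hr hrd
    obtain ⟨k, hk⟩ := IsPGroup.iff_card.1 ((Oq_isPGroup hr M).to_le (inf_le_right : A ⊓ Oq r M ≤ Oq r M))
    rcases Nat.eq_zero_or_pos k with h2 | h2
    · rw [h2, pow_zero] at hk
      exact absurd (eq_bot_of_card_eq _ hk) h1
    · exact (dvd_pow_self r h2.ne').trans (hk ▸ card_dvd_of_le inf_le_left)

theorem coprime_iff (h : S81 M A) {m : ℕ} (hm : m ≠ 0) : m.Coprime (Nat.card A) ↔ m.Coprime (Nat.card (fittingOf M)) := by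
  rw [← piNum_primesNotDvd hm, ← piNum_primesNotDvd hm, h.pi_eq]

theorem ne_bot (h : S81 M A) : A ≠ ⊥ := by
  rintro rfl
  obtain ⟨q, hq, hqd⟩ := h.one
  exact h.ne q hq hqd (bot_inf_eq _)

theorem ne_top (h : S81 M A) : A ≠ ⊤ := by
  intro h1
  exact h.hM.1 (top_le_iff.1 (h1 ▸ h.le.trans (Core.fittingOf_le M)))

theorem th (hG : IsMinSimpleOddOrder G) (h : S81 M A) : TransitivityHypothesis A := by
  refine ⟨h.ne_bot, h.ne_top, fun X hX hAX => ?_⟩
  apply le_antisymm
  · apply sSup_le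
    intro Y hY
    obtain ⟨h1, h2, h3⟩ := mem_invSubgroups.mp hY
    rw [h.pi_eq]
    exact h.le_piCoreOf hG hX hAX h1 ((h.coprime_iff Nat.card_pos.ne').1 h2) h3
  · apply le_sSup
    exact mem_invSubgroups.mpr ⟨O'_le A X, O'_coprime A X, hAX.trans (le_normalizer_O' A X)⟩

/-- Step 5-6 -/
theorem inv_eq_bot (hG : IsMinSimpleOddOrder G) (h : S81 M A) (hZ : ¬ RankLE 2 ↥(A ⊓ centralizer (A : Set G)))
    {q : ℕ} (hq : q.Prime) (hqd : ¬ q ∣ Nat.card (fittingOf M)) {R : Subgroup G} (hR : Inv A q R) : R = ⊥ := by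
  have : Fact q.Prime := ⟨hq⟩
  have hqA : ¬ q ∣ Nat.card A := fun h1 => hqd (h1.trans (card_dvd_of_le h.le))
  have hK : O' A (centralizer (A : Set G)) = ⊥ :=
    h.eq_bot_of_le_centralizer hG ((h.coprime_iff Nat.card_pos.ne').1 (O'_coprime _ _)) (O'_le _ _)
  refine BG8.inv_eq_bot hG h.hM (Core.fittingOf_le M) (Core.le_normalizer_fittingOf M) h.le (Core.fittingOf_isNilpotent M) ?_
    (h.th hG) hq hqA (Oq_eq_bot_of_not_dvd hq hqd) ?_ hR
  · intro r hr hrd
    by_contra hcon
    have h1 : r ∈ primesNotDvd (Nat.card A) := ⟨hr, hcon⟩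
    rw [h.pi_eq] at h1
    exact h1.2 hrd
  · intro Q₁ Q₂ h1 h2
    obtain ⟨k, hk, hk'⟩ := conj_of_rank_three hG (h.th hG) hZ hqA h1 h2
    rw [hK, mem_bot] at hk
    rw [hk', hk, cj_one]

/-- Step 7: for a proper `H ≥ A`, `O_q(H) = 1` for `q ∤ |F(M)|` -/
theorem Oq_eq_bot (hG : IsMinSimpleOddOrder G) (h : S81 M A) (hZ : ¬ RankLE 2 ↥(A ⊓ centralizer (A : Set G)))
    {q : ℕ} (hq : q.Prime) (hqd : ¬ q ∣ Nat.card (fittingOf M)) {H : Subgroup G} (hAH : A ≤ H) : Oq q H = ⊥ :=
  h.inv_eq_bot hG hZ hq hqd ⟨Oq_isPGroup hq H, hAH.trans (le_normalizer_Oq q H)⟩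

/-- Step 8: `A_q` centralizes `O_r(H)` -/
theorem le_centralizer_Oq (h : S81 M A) {q r : ℕ} (hq : q.Prime)
    (hr : r.Prime) (hqr : q ≠ r) {H : Subgroup G} (hAH : A ≤ H) (hrd : r ∣ Nat.card (fittingOf M)) :
    A ⊓ Oq q M ≤ centralizer (Oq r H : Set G) := by
  have : Fact q.Prime := ⟨hq⟩
  have h1 := cent_type (X := H) (MonoidHom.id H) Function.surjective_id hq hr hqr (A := (A ⊓ Oq q M).subgroupOf H)
    (B := (A ⊓ Oq r M).subgroupOf H) (IsPGroup.comap_subtype ((Oq_isPGroup hq M).to_le inf_le_right))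
    (IsPGroup.comap_subtype ((Oq_isPGroup hr M).to_le inf_le_right)) (by
      intro x hx
      rw [mem_centralizer_iff]
      intro y hy
      exact Subtype.ext (mem_centralizer_iff.1 (h.comm_parts hr hq hqr.symm hx) y hy)) (by
      have : (MonoidHom.id H).ker = ⊥ := (MonoidHom.ker_eq_bot_iff _).2 Function.injective_id
      rw [this, card_bot]; exact Nat.coprime_one_left r) (by
      intro v hv b hb
      have h1 : (v : G) ∈ M := by
        apply h.cent r hr hrd
        rw [mem_centralizer_iff]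
        intro a ha
        exact congrArg Subtype.val (mem_centralizer_iff.1 hv ⟨a, hAH ha.1⟩ ha)
      have h2 : (⁅(v : G), (b : G)⁆) ∈ Oq q M := by
        have h3 := (mem_normalizer_iff.1 (le_normalizer_Oq q M h1) (b : G)).1 hb.2
        rw [commutatorElement_def]
        exact mul_mem h3 (inv_mem hb.2)
      obtain ⟨m, hm⟩ := Oq_isPGroup hq M ⟨_, h2⟩
      have hm' : (⁅(v : G), (b : G)⁆) ^ q ^ m = 1 := congrArg Subtype.val hm
      exact ⟨m, Subtype.ext hm'⟩)
  rw [Subgroup.map_id] at h1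
  intro a ha
  rw [mem_centralizer_iff, Oq_eq_map hr]
  rintro _ ⟨y, hy, rfl⟩
  exact congrArg Subtype.val (mem_centralizer_iff.1 (h1 (show (⟨a, hAH ha.1⟩ : H) ∈ (A ⊓ Oq q M).subgroupOf H from ha)) y hy)

/-- main uniqueness argument -/
theorem unique (hG : IsMinSimpleOddOrder G) (h : S81 M A) (hZ : ¬ RankLE 2 ↥(A ⊓ centralizer (A : Set G)))
    {p : ℕ} (hp : p.Prime) (hpd : p ∣ Nat.card (fittingOf M)) (hAp : ∀ q : ℕ, q.Prime → q ≠ p → Oq q M ≤ A)
    {H : Subgroup G} (hH : IsCoatom H) (hAH : A ≤ H) : H = M := by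
  have hHs : Group.IsSolvable H := solvable_of_ne_top hG hH.1
  have hMs := h.solv hG
  have hpi : ∀ q : ℕ, q.Prime → ¬ q ∣ Nat.card (fittingOf M) → Oq q H = ⊥ := fun q hq hqd => h.Oq_eq_bot hG hZ hq hqd hAH
  -- D ≤ M
  have hDM : ∀ q : ℕ, q.Prime → Oq q H ≤ M := by
    intro q hq
    by_cases hqd : q ∣ Nat.card (fittingOf M)
    · obtain ⟨r, hr, hrd, hrq⟩ := h.two q hq hqd
      exact (le_centralizer_iff.1 (h.le_centralizer_Oq hr hq hrq hAH hqd)).trans (h.cent r hr hrd)
    · rw [hpi q hq hqd]; exact bot_le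
  -- D_q ≠ 1
  have hDne : ∀ q : ℕ, q.Prime → q ∣ Nat.card (fittingOf M) → Oq q H ≠ ⊥ := by
    intro q hq hqd h0
    have h1 : A ⊓ Oq q M ≤ fittingOf H := by
      refine le_trans (le_inf (inf_le_left.trans hAH) ?_) (Core.inf_centralizer_fittingOf_le H hHs)
      rw [le_centralizer_fittingOf_iff]
      intro r hr
      by_cases hqr : q = r
      · subst hqr
        rw [h0]
        intro x _
        rw [mem_centralizer_iff]
        intro y hy
        rw [SetLike.mem_coe, mem_bot] at hy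
        rw [hy, one_mul, mul_one]
      · by_cases hrd : r ∣ Nat.card (fittingOf M)
        · exact h.le_centralizer_Oq hq hr hqr hAH hrd
        · rw [hpi r hr hrd]
          intro x _
          rw [mem_centralizer_iff]
          intro y hy
          rw [SetLike.mem_coe, mem_bot] at hy
          rw [hy, one_mul, mul_one]
    have h2 := le_Oq_of_le_fittingOf hq h1 ((Oq_isPGroup hq M).to_le inf_le_right)
    rw [h0, le_bot_iff] at h2
    exact h.ne q hq hqd h2
  -- A_q centralizes O_{q'}(H)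
  have hRC : ∀ q : ℕ, q.Prime → q ∣ Nat.card (fittingOf M) → A ⊓ Oq q M ≤ centralizer (Oc q H : Set G) := by
    intro q hq hqd
    have hAq : IsPGroup q ↥(A ⊓ Oq q M : Subgroup G) := (Oq_isPGroup hq M).to_le inf_le_right
    apply le_centralizer_of_fitting (BG1.isSolvable_of_le (Oc_le q H) hHs)
      ((inf_le_left.trans hAH).trans (le_normalizer_Oc q H)) (coprime_card_of_isPGroup hq hAq (Oc_coprime hq H))
    rw [le_centralizer_fittingOf_iff]
    intro r hr
    by_cases hqr : q = r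
    · subst hqr
      rw [Oq_eq_bot_of_coprime hq (Oc_coprime hq H)]
      intro x _
      rw [mem_centralizer_iff]
      intro y hy
      rw [SetLike.mem_coe, mem_bot] at hy
      rw [hy, one_mul, mul_one]
    · have h1 : Oq r (Oc q H) ≤ Oq r H := Oq_piCoreOf_le hr
      by_cases hrd : r ∣ Nat.card (fittingOf M)
      · exact (h.le_centralizer_Oq hq hr hqr hAH hrd).trans (centralizer_le h1)
      · rw [hpi r hr hrd, le_bot_iff] at h1
        rw [h1]
        intro x _
        rw [mem_centralizer_iff]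
        intro y hy
        rw [SetLike.mem_coe, mem_bot] at hy
        rw [hy, one_mul, mul_one]
  have hRM : ∀ q : ℕ, q.Prime → q ∣ Nat.card (fittingOf M) → Oc q H ≤ M := fun q hq hqd =>
    (le_centralizer_iff.1 (hRC q hq hqd)).trans (h.cent q hq hqd)
  -- O_{q'}(M) ∩ H ≤ O_{q'}(H)
  have hinf : ∀ q : ℕ, q.Prime → q ∣ Nat.card (fittingOf M) → Oc q M ⊓ H ≤ Oc q H := by
    intro q hq hqd
    have hAq : IsPGroup q ↥(A ⊓ Oq q M : Subgroup G) := (Oq_isPGroup hq M).to_le inf_le_right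
    have h1 : Oc q M ⊓ H ≤ centralizer ((A ⊓ Oq q M : Subgroup G) : Set G) :=
      (inf_le_left.trans (Oc_le_centralizer_Oq hq M)).trans (centralizer_le inf_le_right)
    apply le_Oc_of_centralizer hq hHs (inf_le_left.trans hAH) hAq inf_le_right h1
    · exact Nat.Coprime.coprime_dvd_left (card_dvd_of_le inf_le_left) (Oc_coprime hq M)
    · have h2 : H ⊓ centralizer ((A ⊓ Oq q M : Subgroup G) : Set G) ≤ M := inf_le_right.trans (h.cent q hq hqd)
      exact H22.Basic.le_normalizer_inf (h2.trans (le_normalizer_Oc q M)) (inf_le_left.trans le_normalizer)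
  -- F_r ∩ H ≤ D_r
  have hFD : ∀ r : ℕ, r.Prime → r ∣ Nat.card (fittingOf M) → Oq r M ⊓ H ≤ Oq r H := by
    intro r hr hrd
    obtain ⟨q, hq, hqd, hqr⟩ := h.two r hr hrd
    have h1 : Oq r M ≤ Oc q M := le_Oc hq (Oq_le r M) (le_normalizer_Oq r M) (by
      have : Fact r.Prime := ⟨hr⟩
      obtain ⟨k, hk⟩ := IsPGroup.iff_card.1 (Oq_isPGroup hr M)
      rw [hk]
      exact Nat.Coprime.pow_left _ ((Nat.coprime_primes hr hq).2 hqr.symm))
    have h2 : Oq r M ⊓ H ≤ Oc q H := (inf_le_inf_right H h1).trans (hinf q hq hqd)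
    have h3 : Oc q H ≤ normalizer ((Oq r M ⊓ H : Subgroup G) : Set G) :=
      H22.Basic.le_normalizer_inf ((hRM q hq hqd).trans (le_normalizer_Oq r M)) ((Oc_le q H).trans le_normalizer)
    exact (le_Oq hr h2 h3 ((Oq_isPGroup hr M).to_le inf_le_left)).trans (Oq_piCoreOf_le hr)
  have hAD : ∀ r : ℕ, r.Prime → r ∣ Nat.card (fittingOf M) → A ⊓ Oq r M ≤ Oq r H := fun r hr hrd =>
    (le_inf inf_le_right (inf_le_left.trans hAH)).trans (hFD r hr hrd)
  -- R_H := O_{p'}(H) ≠ 1
  have hRne : Oc p H ≠ ⊥ := by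
    obtain ⟨q, hq, hqd, hqp⟩ := h.two p hp hpd
    intro h0
    have h1 : A ⊓ Oq q M ≤ Oc p H := by
      refine (hAD q hq hqd).trans (le_Oc hp (Oq_le q H) (le_normalizer_Oq q H) ?_)
      have : Fact q.Prime := ⟨hq⟩
      obtain ⟨k, hk⟩ := IsPGroup.iff_card.1 (Oq_isPGroup hq H)
      rw [hk]
      exact Nat.Coprime.pow_left _ ((Nat.coprime_primes hq hp).2 hqp)
    rw [h0, le_bot_iff] at h1
    exact h.ne q hq hqd h1
  have hRN : normalizer (Oc p H : Set G) = H := normalizer_eq_of_isCoatom hG hH hRne (le_normalizer_Oc p H) (Oc_le p H)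
  -- F_p ≤ C(R_H) ≤ H
  have hRcF : Oc p H ≤ centralizer (Oq p M : Set G) :=
    h.pq hp hpd (hRM p hp hpd) (Oc_coprime hp H) (le_centralizer_iff.1 (hRC p hp hpd))
  have hFpH : Oq p M ≤ H := by
    rw [← hRN]
    exact (le_centralizer_iff.1 hRcF).trans (centralizer_le_normalizer _)
  have hFle : ∀ r : ℕ, r.Prime → Oq r M ≤ H := by
    intro r hr
    by_cases hrp : r = p
    · subst hrp; exact hFpH
    · exact (hAp r hr hrp).trans hAH
  have hFF : fittingOf M ≤ fittingOf H := by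
    rw [fittingOf_le_iff]
    intro r hr
    by_cases hrd : r ∣ Nat.card (fittingOf M)
    · exact ((le_inf le_rfl (hFle r hr)).trans (hFD r hr hrd)).trans (Oq_le_fittingOf hr H)
    · rw [Oq_eq_bot_of_not_dvd hr hrd]; exact bot_le
  -- Z := O_p(Z(D)) ≠ 1
  set D := fittingOf H with hD
  set Z := Oq p (D ⊓ centralizer (D : Set G)) with hZdef
  have hZD : D ⊓ centralizer (D : Set G) ≤ centralizer (D : Set G) := inf_le_right
  have hHZ : H ≤ normalizer (Z : Set G) := by
    have h1 : H ≤ normalizer ((D ⊓ centralizer (D : Set G) : Subgroup G) : Set G) :=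
      H22.Basic.le_normalizer_inf (Core.le_normalizer_fittingOf H)
        ((Core.le_normalizer_fittingOf H).trans (H2.PCons.normalizer_le_normalizer_centralizer _))
    exact h1.trans (Core.normalizer_le_normalizer_piCoreOf {p} _)
  have hZne : Z ≠ ⊥ := by
    have : Fact p.Prime := ⟨hp⟩
    have h1 : Nontrivial (Oq p H) := (nontrivial_iff_ne_bot _).2 (hDne p hp hpd)
    have h2 : Nontrivial (center (Oq p H)) := (Oq_isPGroup hp H).center_nontrivial
    obtain ⟨z, hz1⟩ := exists_ne (1 : center (Oq p H))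
    have h3 : ((z : Oq p H) : G) ∈ Z := by
      have hnil : Group.IsNilpotent ↥(D ⊓ centralizer (D : Set G) : Subgroup G) :=
        H12.CN.nilpotent_of_le inf_le_left (Core.fittingOf_isNilpotent H)
      have h4 : (((center (Oq p H)).map (Oq p H).subtype)) ≤ Z := by
        have h5 : ((center (Oq p H)).map (Oq p H).subtype) ≤ D ⊓ centralizer (D : Set G) := by
          rintro _ ⟨y, hy, rfl⟩
          refine ⟨Oq_le_fittingOf hp H y.2, ?_⟩
          show (y : G) ∈ centralizer (D : Set G)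
          have h6 : zpowers (y : G) ≤ centralizer (D : Set G) := by
            rw [hD, le_centralizer_fittingOf_iff]
            intro r hr
            rw [zpowers_le]
            by_cases hrp : r = p
            · subst hrp
              rw [mem_centralizer_iff]
              intro x hx
              exact congrArg Subtype.val (mem_center_iff.1 hy ⟨x, hx⟩)
            · exact Oq_le_centralizer_Oq hp hr (Ne.symm hrp) H y.2
          exact h6 (mem_zpowers _)
        have h7 : D ⊓ centralizer (D : Set G) ≤ fittingOf (D ⊓ centralizer (D : Set G)) :=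
          Core.le_fittingOf le_rfl le_normalizer hnil
        exact le_Oq_of_le_fittingOf hp (h5.trans h7) ((Oq_isPGroup hp H).to_le (map_subtype_le _))
      exact h4 ⟨z, z.2, rfl⟩
    intro h0
    rw [h0, mem_bot] at h3
    apply hz1
    exact Subtype.ext (Subtype.ext h3)
  have hZle : Z ≤ D ⊓ centralizer (D : Set G) := Oq_le _ _
  have hZN : normalizer (Z : Set G) = H :=
    normalizer_eq_of_isCoatom hG hH hZne hHZ ((hZle.trans inf_le_left).trans (Core.fittingOf_le H))
  have hZF : Z ≤ Oq p M := by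
    have h1 : D ≤ M := by rw [hD, fittingOf_le_iff]; exact hDM
    have h2 : Z ≤ fittingOf M := by
      refine le_trans (le_inf ((hZle.trans inf_le_left).trans h1) ?_) (Core.inf_centralizer_fittingOf_le M hMs)
      exact (hZle.trans inf_le_right).trans (centralizer_le hFF)
    exact le_Oq_of_le_fittingOf hp h2 (Oq_isPGroup hp _)
  have hCF : centralizer (Oq p M : Set G) ≤ H := by
    rw [← hZN]
    exact (centralizer_le hZF).trans (centralizer_le_normalizer _)
  -- R_H ≤ R_M
  have h1 : Oc p H ≤ Oc p M := by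
    apply le_Oc_of_centralizer hp hMs (Oq_le p M) (Oq_isPGroup hp M) (hRM p hp hpd) hRcF (Oc_coprime hp H)
    exact (inf_le_right.trans hCF).trans (le_normalizer_Oc p H)
  have h2 : Oc p M ≤ Oc p H :=
    (le_inf le_rfl ((Oc_le_centralizer_Oq hp M).trans hCF)).trans (hinf p hp hpd)
  have h3 : Oc p H = Oc p M := le_antisymm h1 h2
  have h4 : M ≤ H := by
    rw [← hRN, h3]
    exact le_normalizer_Oc p M
  exact (h.hM.le_iff_eq hH.1).1 h4

end S81

end Cfsg.Agent.H12.BG8
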