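import Mathlib
import Cfsg.Agent.H12_BG8c
import Cfsg.Agent.H12_Puig4
import Cfsg.Agent.H12_SCN

/-! Tools for BG sections 8-9: the Puig subgroup in local subgroups, uniqueness criterion. -/

set_option autoImplicit false

open Pointwise
open scoped commutatorElement

namespace Cfsg.Agent.H12.BG9

open Cfsg Subgroup H13.Syl H12.Loc H12.Trans H12.BG7 H12.Puig

universe u

variable {G : Type u} [Group G] [Finite G]

/-- `Z(L(P))` -/
def ZL (P : Subgroup G) : Subgroup G := rPuig P ⊓ centralizer (rPuig P : Set G)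

omit [Finite G] in
theorem ZL_le (P : Subgroup G) : ZL P ≤ P := inf_le_left.trans (rPuig_le P)

omit [Finite G] in
theorem normalizer_le_ZL (P : Subgroup G) : normalizer (P : Set G) ≤ normalizer (ZL P : Set G) :=
  (normalizer_le_rPuig P).trans (normalizer_le_inf_centralizer _)

theorem ZL_ne_bot {p : ℕ} [hp : Fact p.Prime] {P : Subgroup G} (hP : IsPGroup p P) (hne : P ≠ ⊥) : ZL P ≠ ⊥ := by
  have h1 : Nontrivial P := (nontrivial_iff_ne_bot P).2 hne
  have h2 : Nontrivial (center P) := hP.center_nontrivial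
  have h3 : (center P).map P.subtype ≤ rPuig P := by
    refine (le_rLower (map_subtype_le _) (isMulCommutative_map _ inferInstance) ?_).trans (rLower_le_rPuig P)
    exact le_normalizer.trans (H11.Cores.le_normalizer_map_subtype_of_characteristic P (center P))
  have h4 : rPuig P ≠ ⊥ := by
    intro h0
    rw [h0, le_bot_iff, map_eq_bot_iff_of_injective _ P.subtype_injective] at h3
    exact ((nontrivial_iff_ne_bot _).1 h2) h3
  have h5 : Nontrivial (rPuig P) := (nontrivial_iff_ne_bot _).2 h4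
  have h6 : IsPGroup p (rPuig P) := hP.to_le (rPuig_le P)
  have h7 : Nontrivial (center (rPuig P)) := h6.center_nontrivial
  obtain ⟨z, hz⟩ := exists_ne (1 : center (rPuig P))
  intro h0
  have h8 : ((z : rPuig P) : G) ∈ ZL P := by
    refine ⟨(z : rPuig P).2, ?_⟩
    show ((z : rPuig P) : G) ∈ centralizer (rPuig P : Set G)
    rw [mem_centralizer_iff]
    intro y hy
    exact congrArg Subtype.val (mem_center_iff.1 z.2 ⟨y, hy⟩)
  rw [h0, mem_bot] at h8
  exact hz (Subtype.ext (Subtype.ext h8))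

omit [Finite G] in
theorem map_rPuig {H : Subgroup G} (S : Subgroup H) : (rPuig S).map H.subtype = rPuig (S.map H.subtype) := by
  rw [← map_puigSubgroup_subtype S, Subgroup.map_map,
    map_puigSubgroup (H.subtype.comp S.subtype) (H.subtype_injective.comp S.subtype_injective)]
  congr 1
  rw [MonoidHom.range_comp, range_subtype]

omit [Finite G] in
theorem map_ZL {H : Subgroup G} (S : Subgroup H) :
    (rPuig S ⊓ centralizer (rPuig S : Set H)).map H.subtype = ZL (S.map H.subtype) ⊓ H := by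
  ext x
  constructor
  · rintro ⟨y, ⟨hy1, hy2⟩, rfl⟩
    have h1 : (y : G) ∈ rPuig (S.map H.subtype) := by rw [← map_rPuig]; exact ⟨y, hy1, rfl⟩
    refine ⟨⟨h1, ?_⟩, y.2⟩
    show (y : G) ∈ centralizer (rPuig (S.map H.subtype) : Set G)
    rw [mem_centralizer_iff, ← map_rPuig]
    rintro _ ⟨z, hz, rfl⟩
    exact congrArg Subtype.val (mem_centralizer_iff.1 hy2 z hz)
  · rintro ⟨⟨hx1, hx2⟩, hxH⟩
    rw [SetLike.mem_coe, ← map_rPuig] at hx1
    obtain ⟨y, hy, rfl⟩ := hx1
    refine ⟨y, ⟨hy, ?_⟩, rfl⟩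
    show y ∈ centralizer (rPuig S : Set H)
    rw [mem_centralizer_iff]
    intro z hz
    apply Subtype.ext
    refine mem_centralizer_iff.1 hx2 z ?_
    rw [← map_rPuig]
    exact ⟨z, hz, rfl⟩

/-- `H = O_{p'}(H) N_H(Z(L(P)))` -/
theorem puig_local (hG : IsMinSimpleOddOrder G) {p : ℕ} [hp : Fact p.Prime] (hp2 : p ≠ 2) {H P : Subgroup G} (hH : H ≠ ⊤)
    (hP : IsSylIn p P H) : H ≤ Oc p H ⊔ (H ⊓ normalizer (ZL P : Set G)) := by
  have : Group.IsSolvable H := solvable_of_ne_top hG hH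
  obtain ⟨S, hS⟩ := hP.exists_sylow
  have h1 := puig_main (odd_card_subgroup hG H) hp2 S
  have h2 := congrArg (Subgroup.map H.subtype) h1
  rw [Subgroup.map_sup, ← MonoidHom.range_eq_map, range_subtype] at h2
  rw [← Oc_eq_map hp.out] at h2
  refine h2.ge.trans ?_
  refine sup_le_sup_left (le_inf (map_subtype_le _) ?_) _
  rintro _ ⟨x, hx, rfl⟩
  have h3 : ZL P ≤ H := (ZL_le P).trans hP.le
  have h4 : ZL P = (rPuig (S : Subgroup H) ⊓ centralizer (rPuig (S : Subgroup H) : Set H)).map H.subtype := by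
    rw [map_ZL, hS, subgroupOf_map_subtype, inf_eq_left.2 hP.le, inf_eq_left.2 h3]
  rw [h4]
  exact le_normalizer_map H.subtype ⟨x, hx, rfl⟩

/-- a `p'`-subgroup invariant under a "full" `p`-subgroup lies in `O_{p'}(X)` -/
theorem le_Oc_of_full (hG : IsMinSimpleOddOrder G) {p : ℕ} [hp : Fact p.Prime] (hp2 : p ≠ 2) {X E Y : Subgroup G} (hX : X ≠ ⊤)
    (hEX : E ≤ X) (hE : IsPGroup p E) (hfull : ∀ x ∈ X, x ∈ centralizer (E : Set G) → IsPGroup p (zpowers x) → x ∈ E)
    (hYX : Y ≤ X) (hY : (Nat.card Y).Coprime p) (hEY : E ≤ normalizer (Y : Set G)) : Y ≤ Oc p X := by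
  have hXs : Group.IsSolvable X := solvable_of_ne_top hG hX
  rw [Oc_eq_map hp.out]
  apply Core.le_map_of_subgroupOf_le hYX
  refine le_pPrimeCore_of_full (isPConstrained_of_solvable hXs) (E := E.subgroupOf X) (hE.comap_subtype) ?_
    (fun h => absurd h hp2) (by rw [H1.Basic.card_subgroupOf hYX]; exact hY) ?_
  · intro x hx hxp
    refine hfull x x.2 ?_ ?_
    · rw [mem_centralizer_iff]
      intro e he
      exact congrArg Subtype.val (mem_centralizer_iff.1 hx ⟨e, hEX he⟩ he)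
    · rintro ⟨_, k, rfl⟩
      obtain ⟨n, hn⟩ := hxp ⟨x ^ k, k, rfl⟩
      refine ⟨n, ?_⟩
      have h1 := congrArg Subtype.val (congrArg Subtype.val hn)
      exact Subtype.ext h1
  · intro e he
    rw [mem_normalizer_iff]
    intro y
    exact mem_normalizer_iff.1 (hEY he) y

theorem full_of_isSylIn {p : ℕ} [hp : Fact p.Prime] {X P : Subgroup G} (hP : IsSylIn p P X) :
    ∀ x ∈ X, x ∈ centralizer (P : Set G) → IsPGroup p (zpowers x) → x ∈ P := by
  intro x hxX hx hxp
  have h1 : zpowers x ≤ normalizer (P : Set G) := zpowers_le.2 (centralizer_le_normalizer _ hx)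
  have h2 : IsPGroup p ↥(P ⊔ zpowers x) := by
    have := hP.isPGroup.to_sup_of_normal_left' hxp h1
    exact this
  have h3 := hP.eq_of_le h2 (sup_le hP.le (zpowers_le.2 hxX)) le_sup_left
  rw [← h3]
  exact mem_sup_right (mem_zpowers x)

/-- invariant `p'`-subgroups under a Sylow `p`-subgroup -/
theorem le_Oc_of_isSylIn (hG : IsMinSimpleOddOrder G) {p : ℕ} [hp : Fact p.Prime] (hp2 : p ≠ 2) {X P Y : Subgroup G} (hX : X ≠ ⊤)
    (hP : IsSylIn p P X) (hYX : Y ≤ X) (hY : (Nat.card Y).Coprime p) (hPY : P ≤ normalizer (Y : Set G)) : Y ≤ Oc p X :=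
  le_Oc_of_full hG hp2 hX hP.le hP.isPGroup (full_of_isSylIn hP) hYX hY hPY

/-- a Sylow subgroup of `M` whose normalizer is in `M` is a Sylow subgroup of `G` -/
theorem isSylIn_top_of_normalizer_le {p : ℕ} [hp : Fact p.Prime] {M P : Subgroup G} (hP : IsSylIn p P M)
    (hN : normalizer (P : Set G) ≤ M) : IsSylIn p P ⊤ := by
  apply isSylIn_of_isSylIn_normalizer
  rw [top_inf_eq]
  exact hP.mono le_normalizer hN

/-- general uniqueness step -/
theorem unique_of (hG : IsMinSimpleOddOrder G) {p : ℕ} [hp : Fact p.Prime] (hp2 : p ≠ 2) {M B : Subgroup G} (hM : IsCoatom M)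
    (hBM : B ≤ M) (hBne : B ≠ ⊥) (hB : IsPGroup p B)
    (hP : ∀ P : Subgroup G, IsSylIn p P M → B ≤ P → ∀ H : Subgroup G, IsCoatom H → P ≤ H → H = M)
    (hO : ∀ H : Subgroup G, IsCoatom H → B ≤ H → Oc p H ≤ M) :
    ∀ H : Subgroup G, IsCoatom H → B ≤ H → H = M := by
  by_contra hcon
  push Not at hcon
  obtain ⟨H₀, hH₀, hBH₀, hne₀⟩ := hcon
  obtain ⟨R, ⟨hRp, hBR, hRM, H, hH, hHM, hRH⟩, hmax⟩ := Set.exists_max_image
    {R : Subgroup G | IsPGroup p R ∧ B ≤ R ∧ R ≤ M ∧ ∃ H : Subgroup G, IsCoatom H ∧ H ≠ M ∧ R ≤ H}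
    (fun R => Nat.card R) (Set.toFinite _) ⟨B, hB, le_rfl, hBM, H₀, hH₀, hne₀, hBH₀⟩
  obtain ⟨P, hRP, hPM⟩ := exists_isSylIn_ge hRp hRM
  have hne : R ≠ P := by
    rintro rfl
    exact hHM (hP R hPM hBR H hH hRH)
  have hlt : R < P := lt_of_le_of_ne hRP hne
  have hlt2 := lt_normalizer_of_lt hPM.isPGroup hlt
  set R' := P ⊓ normalizer (R : Set G) with hR'
  have hkey : ∀ D : Subgroup G, IsCoatom D → R' ≤ D → D = M := by
    intro D hD hRD
    by_contra hDM
    have h1 := hmax R' ⟨hPM.isPGroup.to_le inf_le_left, hBR.trans hlt2.le, inf_le_left.trans hPM.le, D, hD, hDM, hRD⟩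
    exact hlt2.ne (H1.Basic.eq_of_le_of_card_ge' hlt2.le h1)
  have hRne : R ≠ ⊥ := fun h => hBne (le_bot_iff.1 (h ▸ hBR))
  have hle : ∀ N : Subgroup G, N ≠ ⊤ → R' ≤ N → N ≤ M := by
    intro N hN hRN
    obtain ⟨D, hD, hND⟩ := exists_isCoatom_ge hN
    rw [← hkey D hD (hRN.trans hND)]
    exact hND
  have hNR : normalizer (R : Set G) ≤ M :=
    hle _ (normalizer_ne_top hG hRne (ne_top_of_isPGroup hG hRp)) inf_le_right
  have hRH' : IsSylIn p R H := by
    apply isSylIn_of_isSylIn_normalizer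
    refine isSylIn_of_maximal (le_inf hRH le_normalizer) hRp ?_
    intro A hA hAp hRA
    have h1 := hmax A ⟨hAp, hBR.trans hRA, (hA.trans inf_le_right).trans hNR, H, hH, hHM, hA.trans inf_le_left⟩
    exact (H1.Basic.eq_of_le_of_card_ge' hRA h1).symm
  have h1 := puig_local hG hp2 hH.1 hRH'
  have hZ : normalizer (ZL R : Set G) ≤ M :=
    hle _ (normalizer_ne_top hG (ZL_ne_bot hRp hRne) (ne_top_of_isPGroup hG (hRp.to_le (ZL_le R))))
      (inf_le_right.trans (normalizer_le_ZL R))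
  have h2 : H ≤ M := h1.trans (sup_le (hO H hH (hBR.trans hRH)) (inf_le_right.trans hZ))
  exact hHM ((hH.le_iff_eq hM.1).1 h2).symm

end Cfsg.Agent.H12.BG9
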