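import Cfsg.Statements.S1457
import Cfsg.Agent.H12_PStab4
import Cfsg.Agent.H11_Cores

set_option autoImplicit false
open Cfsg

namespace Cfsg.Agent.S1457

/-- Let G be a solvable group of odd order, p a prime, S a Sylow p-subgroup of G and A an abelian subgroup of S normal in S. Then A ≤ O_{p',p}(G). -/
theorem result {G : Type*} [Group G] [Finite G] [Group.IsSolvable G] (hodd : Odd (Nat.card G)) (p : ℕ) [Fact p.Prime] (S : Sylow p G) (A : Subgroup G) (hA : A ≤ (S : Subgroup G)) (hAc : IsMulCommutative A)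
    (hAn : (S : Subgroup G) ≤ Subgroup.normalizer (A : Set G)) :
    A ≤ Cfsg.pPrimePCore p G := by
  classical
  by_cases hp2 : p = 2
  · have h1 : (S : Subgroup G) = ⊥ := by
      obtain ⟨k, hk⟩ := IsPGroup.iff_card.mp S.2
      have h2 : Odd (Nat.card (S : Subgroup G)) := Odd.of_dvd_nat hodd (Subgroup.card_subgroup_dvd_card _)
      rw [hk, hp2] at h2
      have h3 : k = 0 := by
        by_contra h
        rw [Nat.odd_pow_iff h] at h2
        exact absurd h2 (by decide)
      rw [h3, pow_zero] at hk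
      exact Subgroup.eq_bot_of_card_eq _ hk
    rw [h1, le_bot_iff] at hA
    rw [hA]; exact bot_le
  set O := Cfsg.pPrimeCore p G with hO
  haveI hOn : O.Normal := H1.Nilp.pPrimeCore_normal p
  set π := QuotientGroup.mk' O with hπ
  have hsurj : Function.Surjective π := QuotientGroup.mk'_surjective O
  haveI : Group.IsSolvable (G ⧸ O) := Group.isSolvable_of_surjective hsurj
  have hodd' : Odd (Nat.card (G ⧸ O)) := Odd.of_dvd_nat hodd (Subgroup.card_quotient_dvd_card O)
  have hO1 : Cfsg.pPrimeCore p (G ⧸ O) = ⊥ := H11.Cores.pPrimeCore_quotient p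
  set P := Cfsg.pCore p (G ⧸ O) with hP
  haveI : P.Normal := H1.Nilp.pCore_normal p
  have hPp : IsPGroup p P := H1.Nilp.pCore_isPGroup p
  set S' := S.mapSurjective hsurj with hS'
  have hPS : P ≤ (S' : Subgroup (G ⧸ O)) := hPp.le_sylow_of_normal S'
  have hS'e : (S' : Subgroup (G ⧸ O)) = (S : Subgroup G).map π := rfl
  have hAc' : IsMulCommutative (A.map π) := by
    refine ⟨⟨?_⟩⟩
    rintro ⟨_, a, ha, rfl⟩ ⟨_, b, hb, rfl⟩
    apply Subtype.ext
    show π a * π b = π b * π a
    rw [← map_mul, ← map_mul]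
    congr 1
    exact congrArg Subtype.val (hAc.is_comm.comm ⟨a, ha⟩ ⟨b, hb⟩)
  have hPA : P ≤ Subgroup.normalizer (A.map π : Set (G ⧸ O)) := by
    refine hPS.trans ?_
    rw [hS'e]
    refine (Subgroup.map_mono hAn).trans ?_
    exact Subgroup.le_normalizer_map π
  show A ≤ (Cfsg.pCore p (G ⧸ O)).comap π
  rw [← Subgroup.map_le_iff_le_comap]
  refine H12.PStab.le_pCore_of_quad hodd' hp2 hPp
    (fun b hb x hx => H12.PStab.quad_of_abelian hAc' hPA hb hx) hO1 ?_
  exact inf_le_left

end Cfsg.Agent.S1457
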