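import Mathlib
import Cfsg.Agent.H12_BG9a
import Cfsg.Agent.S1457
import Cfsg.Agent.H12_Narrow3

/-! BG Theorem 9.1 (S1398) -/

set_option autoImplicit false

open Pointwise
open scoped commutatorElement

namespace Cfsg.Agent.H12.BG9

open Cfsg Subgroup H13.Syl H12.Loc H12.Trans H12.BG7 H12.Puig

universe u

variable {G : Type u} [Group G] [Finite G]

/-- `O_{p',p}(X)` -/
def Opp (p : ℕ) (X : Subgroup G) : Subgroup G := (pPrimePCore p X).map X.subtype

omit [Finite G] in
theorem Opp_le (p : ℕ) (X : Subgroup G) : Opp p X ≤ X := map_subtype_le _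

omit [Finite G] in
theorem le_normalizer_Opp (p : ℕ) (X : Subgroup G) : X ≤ normalizer (Opp p X : Set G) := by
  have h1 : (pPrimePCore p X).Normal := by
    unfold pPrimePCore
    infer_instance
  intro x hx
  have h2 := (le_normalizer_map (H := pPrimePCore p X) X.subtype)
  apply h2
  exact ⟨⟨x, hx⟩, by rw [normalizer_eq_top]; exact mem_top _, rfl⟩

theorem relIndex_Opp {p : ℕ} [hp : Fact p.Prime] (X : Subgroup G) :
    Oc p X ≤ Opp p X ∧ ∃ m, (Oc p X).relIndex (Opp p X) = p ^ m := by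
  have h1 : pPrimeCore p X ≤ pPrimePCore p X := by
    intro x hx
    show QuotientGroup.mk' (pPrimeCore p X) x ∈ pCore p (X ⧸ pPrimeCore p X)
    have : QuotientGroup.mk' (pPrimeCore p X) x = 1 := by
      rw [← MonoidHom.mem_ker, QuotientGroup.ker_mk']; exact hx
    rw [this]; exact one_mem _
  have h2 : Oc p X ≤ Opp p X := by
    rw [Oc_eq_map hp.out]
    exact map_mono h1
  refine ⟨h2, ?_⟩
  obtain ⟨m, hm⟩ := IsPGroup.iff_card.1 (H1.Nilp.pCore_isPGroup (G := X ⧸ pPrimeCore p X) p)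
  refine ⟨m, ?_⟩
  have h3 := H2.Card.card_mul_relIndex h2
  have h4 : Nat.card (Oc p X) = Nat.card (pPrimeCore p X) := by
    rw [Oc_eq_map hp.out]; exact H12.SCN.card_map_subtype' _
  have h5 : Nat.card (Opp p X) = Nat.card (pPrimePCore p X) := H12.SCN.card_map_subtype' _
  have h6 : Nat.card (pPrimePCore p X) = Nat.card (pPrimeCore p X) * p ^ m := by
    have := H11.Cores.card_comap_of_surjective (QuotientGroup.mk' (pPrimeCore p X)) (QuotientGroup.mk'_surjective _)
      (pCore p (X ⧸ pPrimeCore p X))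
    rw [QuotientGroup.ker_mk', hm] at this
    exact this
  rw [h4, h5, h6] at h3
  exact Nat.eq_of_mul_eq_mul_left Nat.card_pos h3

/-- Frattini argument -/
theorem frattini_core {p : ℕ} [hp : Fact p.Prime] {X P : Subgroup G} (hP : IsSylIn p P X) :
    X ≤ Oc p X ⊔ (X ⊓ normalizer ((P ⊓ Opp p X : Subgroup G) : Set G)) := by
  have hT : IsSylIn p (P ⊓ Opp p X) (Opp p X) := hP.inf_of_le_normalizer (Opp_le p X) (le_normalizer_Opp p X)
  obtain ⟨h1, h2⟩ := relIndex_Opp (p := p) X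
  have h3 := BG6.eq_sup_of_isSylIn hT h1 h2
  intro g hg
  obtain ⟨n, hn, m, hm, rfl⟩ := hT.frattini (Opp_le p X) (le_normalizer_Opp p X) hg
  refine mul_mem ?_ (mem_sup_right hm)
  rw [← h3] at hn
  have h4 : P ⊓ Opp p X ≤ X ⊓ normalizer ((P ⊓ Opp p X : Subgroup G) : Set G) :=
    le_inf (inf_le_right.trans (Opp_le p X)) le_normalizer
  exact (sup_le_sup_left h4 _ : Oc p X ⊔ (P ⊓ Opp p X) ≤ _) hn

theorem le_Opp_of_abelian (hG : IsMinSimpleOddOrder G) {p : ℕ} [hp : Fact p.Prime] {X P A : Subgroup G} (hX : X ≠ ⊤)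
    (hP : IsSylIn p P X) (hA : A ≤ P) (hAc : IsMulCommutative A) (hAn : P ≤ normalizer (A : Set G)) : A ≤ Opp p X := by
  have : Group.IsSolvable X := solvable_of_ne_top hG hX
  obtain ⟨S, hS⟩ := hP.exists_sylow
  apply Core.le_map_of_subgroupOf_le (hA.trans hP.le)
  apply S1457.result (odd_card_subgroup hG X) p S
  · rw [hS]; intro x hx; exact hA hx
  · exact isMulCommutative_comap X.subtype X.subtype_injective hAc
  · rw [hS]
    intro x hx
    rw [mem_normalizer_iff]
    intro y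
    exact mem_normalizer_iff.1 (hAn hx) y

/-- generation by invariant Sylow subgroups -/
theorem le_of_inv {A Y K : Subgroup G} (hY : Group.IsSolvable Y) (hAY : A ≤ normalizer (Y : Set G))
    (hcop : (Nat.card A).Coprime (Nat.card Y))
    (h : ∀ q : ℕ, q.Prime → ¬ q ∣ Nat.card A → ∀ Q : Subgroup G, Q ≤ Y → IsPGroup q Q → A ≤ normalizer (Q : Set G) → Q ≤ K) : Y ≤ K := by
  by_contra hne
  have h1 : (Y ⊓ K).relIndex Y ≠ 1 := by
    rw [Ne, relIndex_eq_one]
    exact fun h2 => hne (h2.trans inf_le_right)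
  obtain ⟨q, hq, hqd⟩ := Nat.exists_prime_and_dvd h1
  have : Fact q.Prime := ⟨hq⟩
  have hqY : q ∣ Nat.card Y := hqd.trans (relIndex_dvd_card _ _)
  have hqA : ¬ q ∣ Nat.card A := fun h2 => by
    have := Nat.dvd_gcd h2 hqY
    rw [hcop] at this
    exact hq.one_lt.ne' (Nat.dvd_one.1 this)
  obtain ⟨S, hS⟩ := H1.Coprime.invariant_sylow_exists A Y hAY hcop (Or.inr hY) q
  have hQ : IsSylIn q ((S : Subgroup Y).map Y.subtype) Y := isSylIn_map_subtype S
  have h2 := h q hq hqA _ hQ.le hQ.isPGroup hS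
  exact hQ.not_dvd (hqd.trans (relIndex_dvd_of_le_left _ (le_inf hQ.le h2)))

theorem inv_conj_le {T Y : Subgroup G} (hTY : T ≤ normalizer (Y : Set G)) {g : G} (hg : g ∈ normalizer (T : Set G)) :
    T ≤ normalizer ((cj g Y : Subgroup G) : Set G) := by
  have h1 : cj g T ≤ cj g (normalizer (Y : Set G)) := cj_mono hTY
  rwa [cj_normalizer, cj_eq_of_mem_normalizer hg] at h1

/-- if `K` is the greatest `T`-invariant subgroup with a property invariant under conjugation -/
theorem normalizer_le_of_greatest {p : ℕ} {T K : Subgroup G} (hTK : T ≤ normalizer (K : Set G)) (hKc : (Nat.card K).Coprime p)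
    (h : ∀ Y : Subgroup G, (Nat.card Y).Coprime p → T ≤ normalizer (Y : Set G) → Y ≤ K) :
    normalizer (T : Set G) ≤ normalizer (K : Set G) := by
  intro g hg
  rw [mem_normalizer_iff_cj]
  have h1 : cj g K ≤ K := h _ (by rw [card_cj]; exact hKc) (inv_conj_le hTK hg)
  exact H1.Basic.eq_of_le_of_card_ge' h1 (by rw [card_cj])

theorem exists_scn_of_rank {p : ℕ} [hp : Fact p.Prime] (hp2 : p ≠ 2) {P : Subgroup G} (hP : IsPGroup p P)
    (hr : ¬ PRankLE p 2 P) {E : Subgroup G} (hEP : E ≤ P) (hE : IsElementaryAbelian p E) (hEn : P ≤ normalizer (E : Set G)) :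
    ∃ A : Subgroup G, E ≤ A ∧ IsSCN P A ∧ IsMulCommutative A ∧ ¬ PRankLE p 2 A := by
  have hn : (E.subgroupOf P).Normal := Core.normal_subgroupOf_of_le hEn
  obtain ⟨A', hEA, hA'n, hA'c, hA'C, hA'r⟩ := SCN.exists_scn3 hp2 hP hr (E.subgroupOf P)
    (H2.Thompson.ea_comap P.subtype P.subtype_injective hE)
  refine ⟨A'.map P.subtype, ?_, ⟨map_subtype_le _, ?_, ?_⟩, isMulCommutative_map _ hA'c, ?_⟩
  · exact Core.le_map_of_subgroupOf_le hEP hEA
  · intro x hx
    exact le_normalizer_map P.subtype ⟨⟨x, hx⟩, by rw [normalizer_eq_top]; exact mem_top _, rfl⟩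
  · apply le_antisymm
    · rintro x ⟨hx1, hx2⟩
      refine ⟨⟨x, hx1⟩, ?_, rfl⟩
      rw [SetLike.mem_coe, ← hA'C, mem_centralizer_iff]
      intro a ha
      exact Subtype.ext (mem_centralizer_iff.1 hx2 a ⟨a, ha, rfl⟩)
    · refine le_inf (map_subtype_le _) ?_
      have := isMulCommutative_map P.subtype hA'c
      exact le_centralizer _
  · intro h
    apply hA'r
    have e : A' ≃* A'.map P.subtype := A'.equivMapOfInjective P.subtype P.subtype_injective
    exact SCN.pRankLE_of_injective e.toMonoidHom e.injective h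

/-- any two maximal `A`-invariant `q`-subgroups are conjugate, and all `A`-invariant `p'`-subgroups lie in the
greatest `P`-invariant `p'`-subgroup `K` -/
theorem le_of_scn (hG : IsMinSimpleOddOrder G) {p : ℕ} [hp : Fact p.Prime] {P A K : Subgroup G}
    (hpG : p ∣ Nat.card G) (hP : IsSylIn p P ⊤) (hA : IsSCN P A) (hAc : IsMulCommutative A) (hAr : ¬ PRankLE p 2 A)
    (hK : ∀ Y : Subgroup G, (Nat.card Y).Coprime p → P ≤ normalizer (Y : Set G) → Y ≤ K) :
    ∀ Y : Subgroup G, (Nat.card Y).Coprime p → A ≤ normalizer (Y : Set G) → Y ≤ K := by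
  obtain ⟨S, hS⟩ := hP.exists_sylow_top
  have hAp : IsPGroup p A := hP.isPGroup.to_le hA.1
  have hAb : A ≠ ⊥ := by
    rintro rfl
    apply hAr
    rw [SCN.pRankLE_top_iff]
    intro F _
    have : Nat.card F = 1 := Nat.card_unique
    rw [this]
    exact Nat.one_le_pow _ _ hp.out.pos
  have hTH : TransitivityHypothesis A := th_of_cases hG hpG hAp hAc (Or.inr ⟨S, by rw [hS]; exact hA, fun h =>
    hAr (SCN.pRankLE_le hp.out.pos (by norm_num) h)⟩)
  have hpA : ∀ r : ℕ, r.Prime → (r ∣ Nat.card A ↔ r = p) := by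
    intro r hr
    obtain ⟨k, hk⟩ := IsPGroup.iff_card.1 hAp
    rw [hk]
    constructor
    · intro h; exact (Nat.prime_dvd_prime_iff_eq hr hp.out).1 (hr.dvd_of_dvd_pow h)
    · rintro rfl
      refine dvd_pow_self r ?_
      rintro rfl
      rw [pow_zero] at hk
      exact hAb (eq_bot_of_card_eq _ hk)
  have hcopA : ∀ Y : Subgroup G, (Nat.card Y).Coprime (Nat.card A) ↔ (Nat.card Y).Coprime p := by
    intro Y
    constructor
    · intro h; exact Nat.Coprime.coprime_dvd_right ((hpA p hp.out).2 rfl) h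
    · intro h
      obtain ⟨k, hk⟩ := IsPGroup.iff_card.1 hAp
      rw [hk]; exact h.pow_right k
  have hKA : O' A (centralizer (A : Set G)) ≤ K := by
    refine hK _ ((hcopA _).1 (O'_coprime _ _)) ?_
    exact (hA.2.1.trans (H2.PCons.normalizer_le_normalizer_centralizer A)).trans
      (Core.normalizer_le_normalizer_piCoreOf _ _)
  have hZ : ¬ RankLE 2 ↥(A ⊓ centralizer (A : Set G)) := by
    intro h
    have h1 : A ⊓ centralizer (A : Set G) = A := inf_eq_left.2 (le_centralizer A)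
    rw [h1] at h
    exact hAr (h p hp.out)
  have hPt : P ≠ ⊤ := ne_top_of_isPGroup hG hP.isPGroup
  have key : ∀ q : ℕ, q.Prime → ¬ q ∣ Nat.card A → ∀ Q : Subgroup G, IsPGroup q Q → A ≤ normalizer (Q : Set G) → Q ≤ K := by
    intro q hq hqA Q hQ hAQ
    have : Fact q.Prime := ⟨hq⟩
    have hqp : q ≠ p := fun h => hqA ((hpA q hq).2 h)
    have hAA : Pack A A q := ⟨hTH, rfl, fun Q₁ Q₂ h1 h2 => conj_of_rank_three hG hTH hZ hqA h1 h2, fun Q hQ => hQ⟩
    have e : (A.subgroupOf P).map P.subtype = A := by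
      rw [Subgroup.subgroupOf_map_subtype, inf_eq_left.mpr hA.1]
    have hn : (A.subgroupOf P).Normal := Core.normal_subgroupOf_of_le hA.2.1
    have hpack : Pack A P q := by
      apply subnormal_pack hG hqA hPt _ (A.subgroupOf P) (hn.isSubnormal)
      · rw [e]
      · rw [e]; exact hAA
      · intro r hr hrd
        obtain ⟨k, hk⟩ := IsPGroup.iff_card.1 hP.isPGroup
        rw [hk] at hrd
        exact (hpA r hr).2 ((Nat.prime_dvd_prime_iff_eq hr hp.out).1 (hr.dvd_of_dvd_pow hrd))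
    obtain ⟨Q₀, hQ₀, -⟩ := exists_maxInv_ge (A := P) (q := q) (R := ⊥) ⟨IsPGroup.of_bot, by
      intro x _; exact Core.le_normalizer_of_normal ⊤ ⊥ (mem_top x)⟩
    have hQ₀K : Q₀ ≤ K := by
      apply hK _ _ hQ₀.1.2
      obtain ⟨k, hk⟩ := IsPGroup.iff_card.1 hQ₀.1.1
      rw [hk]
      exact Nat.Coprime.pow_left _ ((Nat.coprime_primes hq hp.out).2 hqp)
    obtain ⟨Q₁, hQ₁, hQQ₁⟩ := exists_maxInv_ge (A := A) (q := q) (R := Q) ⟨hQ, hAQ⟩
    obtain ⟨k, hk, hk'⟩ := conj_of_rank_three hG hTH hZ hqA (hpack.sub _ hQ₀) hQ₁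
    refine hQQ₁.trans ?_
    rw [hk']
    have h1 : cj k Q₀ ≤ cj k K := cj_mono hQ₀K
    rwa [cj_eq_of_mem (hKA hk)] at h1
  intro Y hY hAY
  have hYt : Y ≠ ⊤ := by
    rintro rfl
    rw [card_top] at hY
    have := Nat.dvd_gcd hpG (dvd_refl p)
    rw [hY] at this
    exact hp.out.one_lt.ne' (Nat.dvd_one.1 this)
  exact le_of_inv (solvable_of_ne_top hG hYt) hAY ((hcopA Y).2 hY).symm (fun q hq hqA Q _ hQ hAQ => key q hq hqA Q hQ hAQ)

theorem dvd_card_of_le {p : ℕ} [hp : Fact p.Prime] {P X : Subgroup G} (hP : IsPGroup p P) (hne : P ≠ ⊥) (h : P ≤ X) :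
    p ∣ Nat.card X := by
  obtain ⟨k, hk⟩ := IsPGroup.iff_card.1 hP
  have : k ≠ 0 := by
    rintro rfl
    rw [pow_zero] at hk
    exact hne (eq_bot_of_card_eq _ hk)
  exact (dvd_pow_self p this).trans (hk ▸ card_dvd_of_le h)

/-- BG 9.1 under condition (2) -/
theorem thm91 (hG : IsMinSimpleOddOrder G) {M : Subgroup G} (hM : IsCoatom M) {p : ℕ} [hp : Fact p.Prime] {B : Subgroup G}
    (hBM : B ≤ M) (hB : IsPGroup p B) (hBne : B ≠ ⊥)
    (h2 : ∀ Y : Subgroup G, (Nat.card Y).Coprime p → B ≤ normalizer (Y : Set G) → Y ≤ M) :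
    ∀ H : Subgroup G, IsCoatom H → B ≤ H → H = M := by
  have hpG : p ∣ Nat.card G := by
    obtain ⟨k, hk⟩ := IsPGroup.iff_card.1 hB
    have : k ≠ 0 := by
      rintro rfl
      rw [pow_zero] at hk
      exact hBne (eq_bot_of_card_eq _ hk)
    exact (dvd_pow_self p this).trans (hk ▸ card_subgroup_dvd_card B)
  have hp2 : p ≠ 2 := prime_ne_two hG hpG
  refine unique_of hG hp2 hM hBM hBne hB ?_ (fun H hH hBH => h2 _ (Oc_coprime hp.out H) (hBH.trans (le_normalizer_Oc p H)))
  intro P hPM hBP H hH hPH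
  have hPne : P ≠ ⊥ := fun h => hBne (le_bot_iff.1 (h ▸ hBP))
  set K := Oc p M with hKdef
  have hK : ∀ Y : Subgroup G, (Nat.card Y).Coprime p → P ≤ normalizer (Y : Set G) → Y ≤ K := fun Y hY hPY =>
    le_Oc_of_isSylIn hG hp2 hM.1 hPM (h2 Y hY (hBP.trans hPY)) hY hPY
  have hPK : P ≤ normalizer (K : Set G) := hPM.le.trans (le_normalizer_Oc p M)
  have hZM : K = ⊥ → normalizer (ZL P : Set G) = M := by
    intro h0
    have h1 := puig_local hG hp2 hM.1 hPM
    rw [← hKdef, h0, bot_sup_eq] at h1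
    exact normalizer_eq_of_isCoatom hG hM (ZL_ne_bot hPM.isPGroup hPne) (h1.trans inf_le_right) ((ZL_le P).trans hPM.le)
  have hNK : K ≠ ⊥ → normalizer (K : Set G) = M := fun h0 =>
    normalizer_eq_of_isCoatom hG hM h0 (le_normalizer_Oc p M) (Oc_le p M)
  have hNP : normalizer (P : Set G) ≤ M := by
    by_cases h0 : K = ⊥
    · rw [← hZM h0]; exact normalizer_le_ZL P
    · rw [← hNK h0]
      exact normalizer_le_of_greatest hPK (Oc_coprime hp.out M) hK
  have hPtop : IsSylIn p P ⊤ := isSylIn_top_of_normalizer_le hPM hNP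
  have hPsH : IsSylIn p P H := hPtop.mono hPH le_top
  have hOH : Oc p H ≤ K := hK _ (Oc_coprime hp.out H) (hPH.trans (le_normalizer_Oc p H))
  have hfin : H ≤ M → H = M := fun h => ((hH.le_iff_eq hM.1).1 h).symm
  by_cases h0 : K = ⊥
  · have h1 := puig_local hG hp2 hH.1 hPsH
    rw [h0, le_bot_iff] at hOH
    rw [hOH, bot_sup_eq] at h1
    exact hfin ((h1.trans inf_le_right).trans (hZM h0).le)
  · have h1 := frattini_core hPsH
    apply hfin
    refine h1.trans (sup_le (hOH.trans (Oc_le p M)) (inf_le_right.trans ?_))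
    by_cases hr : PRankLE p 2 P
    · -- rank at most two: P ≤ O_{p',p}(H)
      have : Group.IsSolvable H := solvable_of_ne_top hG hH.1
      obtain ⟨S, hS⟩ := hPsH.exists_sylow
      have hrS : PRankLE p 2 (S : Subgroup H) := by
        rw [hS]
        exact SCN.pRankLE_of_injective (subgroupOfEquivOfLe hPH).toMonoidHom (subgroupOfEquivOfLe hPH).injective hr
      have hrH : PRankLE p 2 H := Narrow.pRankLE_of_sylow S hrS
      have hpH : p ∣ Nat.card H := dvd_card_of_le hPM.isPGroup hPne hPH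
      have hn : (pPrimePCore p H).Normal := by
        unfold pPrimePCore
        infer_instance
      have h3 := (Rank2.thm418 (odd_card_subgroup hG H) hpH hrH).2.2.2.2.2
      have h4 : P ≤ Opp p H := by
        apply Core.le_map_of_subgroupOf_le hPH
        rw [← hS]
        exact BG6.sylow_le_of_index_coprime h3 S.isPGroup'
      rw [inf_eq_left.2 h4]
      exact hNP
    · obtain ⟨A, -, hA, hAc, hAr⟩ := exists_scn_of_rank (E := ⊥) hp2 hPM.isPGroup hr bot_le (H2.Thompson.ea_bot)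
        (by intro x _; exact Core.le_normalizer_of_normal ⊤ ⊥ (mem_top x))
      have hKA := le_of_scn hG hpG hPtop hA hAc hAr hK
      have hAT : A ≤ P ⊓ Opp p H := le_inf hA.1 (le_Opp_of_abelian hG hH.1 hPsH hA.1 hAc hA.2.1)
      rw [← hNK h0]
      exact normalizer_le_of_greatest (inf_le_left.trans hPK) (Oc_coprime hp.out M)
        (fun Y hY hTY => hKA Y hY (hAT.trans hTY))

end Cfsg.Agent.H12.BG9
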