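import Mathlib
import Cfsg.Agent.H12_BG9b
import Cfsg.Agent.H2_Rank2
import Cfsg.Agent.S0129

/-! BG Theorems 9.1 - 9.3, 8.1, 9.4 -/

set_option autoImplicit false

open Pointwise
open scoped commutatorElement

namespace Cfsg.Agent.H12.BG9

open Cfsg Subgroup H13.Syl H12.Loc H12.Trans H12.BG7 H12.Puig

universe u

variable {G : Type u} [Group G] [Finite G]

/-! ### `InUniqueMaximal` API -/

omit [Finite G] in
theorem inU_iff {X : Subgroup G} :
    InUniqueMaximal X ↔ ∃ M : Subgroup G, IsCoatom M ∧ X ≤ M ∧ ∀ H : Subgroup G, IsCoatom H → X ≤ H → H = M := by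
  constructor
  · rintro ⟨M, ⟨h1, h2⟩, h3⟩
    exact ⟨M, h1, h2, fun H hH hX => h3 H ⟨hH, hX⟩⟩
  · rintro ⟨M, h1, h2, h3⟩
    exact ⟨M, ⟨h1, h2⟩, fun H hH => h3 H hH.1 hH.2⟩

theorem le_of_inU {X Y M : Subgroup G} (h : ∀ H : Subgroup G, IsCoatom H → X ≤ H → H = M) (hXY : X ≤ Y) (hY : Y ≠ ⊤) : Y ≤ M := by
  obtain ⟨D, hD, hYD⟩ := exists_isCoatom_ge hY
  rw [← h D hD (hXY.trans hYD)]
  exact hYD

theorem inU_mono {X Y : Subgroup G} (h : InUniqueMaximal X) (hXY : X ≤ Y) (hY : Y ≠ ⊤) : InUniqueMaximal Y := by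
  obtain ⟨M, hM, hXM, h3⟩ := inU_iff.1 h
  exact inU_iff.2 ⟨M, hM, le_of_inU h3 hXY hY, fun H hH hYH => h3 H hH (hXY.trans hYH)⟩

theorem inU_ne_bot (hG : IsMinSimpleOddOrder G) {X : Subgroup G} (h : InUniqueMaximal X) : X ≠ ⊥ := by
  rintro rfl
  obtain ⟨M, hM, -, h3⟩ := inU_iff.1 h
  apply hM.1
  rw [eq_top_iff]
  intro x _
  have h1 : zpowers x ≠ ⊤ := ne_top_of_solvable hG inferInstance
  exact le_of_inU h3 bot_le h1 (mem_zpowers x)

omit [Finite G] in
theorem isCoatom_cj {M : Subgroup G} (h : IsCoatom M) (g : G) : IsCoatom (cj g M) := by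
  constructor
  · intro h1
    apply h.1
    rw [← cj_inv_cj g M, h1, cj_top]
  · intro D hD
    have h1 : M < cj g⁻¹ D := by
      rw [lt_iff_le_and_ne]
      constructor
      · have := cj_mono (g := g⁻¹) hD.le
        rwa [cj_inv_cj] at this
      · intro h2
        apply hD.ne
        rw [h2, cj_cj_inv]
    have h2 := h.2 _ h1
    rw [← cj_cj_inv g D, h2, cj_top]

omit [Finite G] in
theorem inU_cj {X : Subgroup G} (h : InUniqueMaximal X) (g : G) : InUniqueMaximal (cj g X) := by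
  obtain ⟨M, hM, hXM, h3⟩ := inU_iff.1 h
  refine inU_iff.2 ⟨cj g M, isCoatom_cj hM g, cj_mono hXM, fun H hH hXH => ?_⟩
  have h4 := h3 (cj g⁻¹ H) (isCoatom_cj hH g⁻¹) (cj_le_iff.1 hXH)
  rw [← h4, cj_cj_inv]

/-! ### ranks -/

omit [Finite G] in
theorem not_rankLE_one_of {X F : Subgroup G} {p : ℕ} (hp : p.Prime) (hFX : F ≤ X) (hF : IsElementaryAbelian p F)
    (hc : p < Nat.card F) : ¬ RankLE 1 X := fun h =>
  SCN.not_pRankLE_of (k := 1) hFX hF (by rwa [pow_one]) (h p hp)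

theorem lt_card_of_not_isCyclic {p : ℕ} [hp : Fact p.Prime] {B : Subgroup G} (hB : IsElementaryAbelian p B) (hnc : ¬ IsCyclic B) :
    p < Nat.card B := by
  obtain ⟨k, hk⟩ := IsPGroup.iff_card.1 (SCN.isPGroup_ea hB)
  rw [hk]
  have h0 : k ≠ 0 := by
    rintro rfl
    rw [pow_zero] at hk
    apply hnc
    have := (Nat.card_eq_one_iff_unique.1 hk).1
    infer_instance
  have h1 : k ≠ 1 := by
    rintro rfl
    rw [pow_one] at hk
    exact hnc (isCyclic_of_prime_card hk)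
  calc p < p ^ 2 := lt_self_pow₀ hp.out.one_lt (by norm_num)
    _ ≤ p ^ k := Nat.pow_le_pow_right hp.out.pos (by omega)

theorem not_isCyclic_of_rank {X : Type*} [Group X] {p k : ℕ} [hp : Fact p.Prime] (hk : 1 ≤ k) (h : ¬ PRankLE p k X) : ¬ IsCyclic X := by
  intro hc
  apply h
  intro A hA hAp
  have h1 : IsCyclic A := inferInstance
  by_cases hfin : Finite A
  · obtain ⟨x, hx⟩ := h1.exists_generator
    have h2 : Nat.card A = orderOf x := (orderOf_eq_card_of_forall_mem_zpowers hx).symm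
    have h3 : x ^ p = 1 := Subtype.ext (hAp x x.2)
    have h4 := Nat.le_of_dvd hp.out.pos (orderOf_dvd_of_pow_eq_one h3)
    rw [h2]
    exact h4.trans (Nat.le_self_pow (by omega) p)
  · rw [not_finite_iff_infinite] at hfin
    rw [Nat.card_eq_zero_of_infinite]
    exact Nat.zero_le _

theorem exists_normal_sq {p : ℕ} [hp : Fact p.Prime] (hp2 : p ≠ 2) {P : Subgroup G} (hP : IsPGroup p P) (hnc : ¬ IsCyclic P) :
    ∃ D ≤ P, P ≤ normalizer (D : Set G) ∧ IsElementaryAbelian p D ∧ Nat.card D = p ^ 2 := by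
  obtain ⟨A, -, hAn, hAe, hAc⟩ := H2.Rank2.exists_normal_rank_two (R := P) hp2 hP ⊤ inferInstance (fun h => by
    apply hnc
    have := h
    exact isCyclic_of_surjective (topEquiv (G := P)).toMonoidHom (topEquiv (G := P)).surjective)
  refine ⟨A.map P.subtype, map_subtype_le _, ?_, H2.Thompson.ea_map _ hAe, by rw [SCN.card_map_subtype', hAc]⟩
  intro x hx
  exact le_normalizer_map P.subtype ⟨⟨x, hx⟩, by rw [normalizer_eq_top]; exact mem_top _, rfl⟩

/-- `|X : C_X(D)| ≤ p` for `D ⊴ P` of order `p²` -/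
theorem card_le_mul_inf_centralizer {p : ℕ} [hp : Fact p.Prime] {P D X : Subgroup G} (hP : IsPGroup p P) (hDP : D ≤ P)
    (hPD : P ≤ normalizer (D : Set G)) (hD : Nat.card D = p ^ 2) (hXP : X ≤ P) :
    Nat.card X ≤ Nat.card (X ⊓ centralizer (D : Set G) : Subgroup G) * p := by
  have hn : (D.subgroupOf P).Normal := Core.normal_subgroupOf_of_le hPD
  have h1 := S0129.index_centralizer_le (G := P) hP 2 (D.subgroupOf P) hn (by rw [H1.Basic.card_subgroupOf hDP, hD])
  have h2 : (centralizer (D : Set G)).relIndex P ≤ p := by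
    have h3 : (centralizer (D : Set G)).subgroupOf P = centralizer ((D.subgroupOf P : Subgroup P) : Set P) := by
      ext x
      rw [mem_subgroupOf, mem_centralizer_iff, mem_centralizer_iff]
      constructor
      · intro h y hy
        exact Subtype.ext (h y hy)
      · intro h y hy
        exact congrArg Subtype.val (h ⟨y, hDP hy⟩ hy)
    rw [relIndex, h3]
    simpa using h1
  have h3 : (centralizer (D : Set G)).relIndex X ≤ p :=
    (relIndex_le_of_le_right hXP (by rw [relIndex]; exact index_ne_zero_of_finite)).trans h2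
  have h4 := H2.Card.card_mul_relIndex (inf_le_left : X ⊓ centralizer (D : Set G) ≤ X)
  rw [← h4, inf_relIndex_left]
  exact Nat.mul_le_mul_left _ h3

omit [Finite G] in
theorem ea_of_le {p : ℕ} {A B : Subgroup G} (h : A ≤ B) (hB : IsElementaryAbelian p B) : IsElementaryAbelian p A :=
  ⟨isMulCommutative_of_le h hB.1, fun a ha => hB.2 a (h ha)⟩

/-- BG 9.1 under condition (1) -/
theorem thm91' (hG : IsMinSimpleOddOrder G) {M : Subgroup G} (hM : IsCoatom M) {p : ℕ} [hp : Fact p.Prime] {B : Subgroup G}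
    (hBM : B ≤ M) (hBe : IsElementaryAbelian p B) (hBc : p < Nat.card B)
    (h1 : ∀ b ∈ B, b ≠ 1 → centralizer ({b} : Set G) ≤ M) : InUniqueMaximal B := by
  have hBp : IsPGroup p B := SCN.isPGroup_ea hBe
  have hBne : B ≠ ⊥ := by
    rintro rfl
    rw [card_bot] at hBc
    exact absurd hBc (not_lt.2 hp.out.one_lt.le)
  refine inU_iff.2 ⟨M, hM, hBM, thm91 hG hM hBM hBp hBne ?_⟩
  intro Y hY hBY
  by_contra hne
  have hcomm : ∀ a ∈ B, ∀ b ∈ B, a * b = b * a := fun a ha b hb =>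
    congrArg Subtype.val (hBe.1.is_comm.comm ⟨a, ha⟩ ⟨b, hb⟩)
  obtain ⟨a, ha, ha1, hna⟩ := exists_one hcomm hBe.2 hBc hBY (coprime_card_of_isPGroup hp.out hBp hY) hne
  exact hna (inf_le_right.trans (h1 a ha ha1))

/-- BG 9.2 -/
theorem thm92 (hG : IsMinSimpleOddOrder G) {L K : Subgroup G} (hL : InUniqueMaximal L) (hK : K ≤ centralizer (L : Set G))
    (hKr : ¬ RankLE 1 K) : InUniqueMaximal K := by
  have hLb : L ≠ ⊥ := inU_ne_bot hG hL
  obtain ⟨M, hM, hLM, h3⟩ := inU_iff.1 hL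
  obtain ⟨p, hp, B, hBK, hBc, hBp, hBcard⟩ := exists_elementary hKr
  have : Fact p.Prime := ⟨hp⟩
  rw [pow_one] at hBcard
  have hBe : IsElementaryAbelian p B := ⟨⟨⟨fun a b => Subtype.ext (hBc a a.2 b b.2)⟩⟩, hBp⟩
  have hCb : ∀ b ∈ B, b ≠ 1 → centralizer ({b} : Set G) ≤ M := by
    intro b hb hb1
    apply le_of_inU h3 _ (centralizer_singleton_ne_top hG hb1)
    intro x hx
    rw [mem_centralizer_singleton_iff]
    exact (mem_centralizer_iff.1 (hK (hBK hb)) x hx)
  have hBM : B ≤ M := by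
    intro b hb
    by_cases hb1 : b = 1
    · rw [hb1]; exact one_mem M
    · exact hCb b hb hb1 (mem_centralizer_singleton_iff.2 rfl)
  have hBU : InUniqueMaximal B := thm91' hG hM hBM hBe hBcard hCb
  refine inU_mono hBU hBK ?_
  intro h
  exact centralizer_ne_top hG hLb (top_le_iff.1 (h ▸ hK))

/-- BG 9.3 -/
theorem thm93 (hG : IsMinSimpleOddOrder G) {p : ℕ} [hp : Fact p.Prime] {A B : Subgroup G} (hAp : IsPGroup p A)
    (hAc : IsMulCommutative A) (hA3 : ¬ PRankLE p 2 A) (hAU : InUniqueMaximal A) (hBp : IsPGroup p B) (hBnc : ¬ IsCyclic B)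
    (hB3 : ¬ PRankLE p 2 (centralizer (B : Set G))) : InUniqueMaximal B := by
  obtain ⟨E, hEC, hEe, hEc⟩ := SCN.exists_of_not_pRankLE hB3
  have hEp := SCN.isPGroup_ea hEe
  obtain ⟨P, hEP, hP⟩ := exists_isSylIn_ge hEp (le_top : E ≤ ⊤)
  have hpG : p ∣ Nat.card G := by
    have h1 : E ≠ ⊥ := by
      rintro rfl
      rw [card_bot] at hEc
      exact absurd hEc (not_lt.2 (Nat.one_le_pow _ _ hp.out.pos))
    have := dvd_card_of_le hEp h1 (le_top : E ≤ ⊤)
    rwa [card_top] at this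
  have hp2 : p ≠ 2 := prime_ne_two hG hpG
  have hPr : ¬ PRankLE p 2 P := SCN.not_pRankLE_of hEP hEe hEc
  obtain ⟨x, -, hx⟩ := hP.exists_conj_le hAp le_top
  obtain ⟨E₀, hE₀A, hE₀e, hE₀c⟩ := SCN.exists_of_not_pRankLE hA3
  obtain ⟨D, hDP, hPD, hDe, hDc⟩ := exists_normal_sq hp2 hP.isPGroup (not_isCyclic_of_rank (by norm_num) hPr)
  have hcount : ∀ X : Subgroup G, X ≤ P → IsElementaryAbelian p X → p ^ 2 < Nat.card X →
      p < Nat.card (X ⊓ centralizer (D : Set G) : Subgroup G) := by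
    intro X hXP hXe hXc
    have h1 := SCN.exists_pow_lt hXe hXc
    have h2 := card_le_mul_inf_centralizer hP.isPGroup hDP hPD hDc hXP
    have h3 : p ^ 2 ≤ Nat.card (X ⊓ centralizer (D : Set G) : Subgroup G) := by
      have h4 : p ^ 2 * p ≤ Nat.card (X ⊓ centralizer (D : Set G) : Subgroup G) * p := by
        rw [← pow_succ]; exact h1.trans h2
      exact Nat.le_of_mul_le_mul_right h4 hp.out.pos
    exact lt_of_lt_of_le (lt_self_pow₀ hp.out.one_lt (by norm_num)) h3
  -- C₁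
  have hE₀' : IsElementaryAbelian p (cj x E₀ : Subgroup G) := H2.Thompson.ea_map _ hE₀e
  have h1 := hcount (cj x E₀) ((cj_mono hE₀A).trans hx) hE₀' (by rw [card_cj]; exact hE₀c)
  set C₁ := (cj x E₀ : Subgroup G) ⊓ centralizer (D : Set G) with hC₁
  have hC₁e : IsElementaryAbelian p C₁ := ea_of_le inf_le_left hE₀'
  have hA' : IsMulCommutative (cj x A : Subgroup G) := isMulCommutative_map _ hAc
  have hC₁U : InUniqueMaximal C₁ := by
    refine thm92 hG (inU_cj hAU x) ?_ (not_rankLE_one_of hp.out le_rfl hC₁e h1)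
    exact (inf_le_left.trans (cj_mono hE₀A)).trans (le_centralizer _)
  have hDU : InUniqueMaximal D := by
    refine thm92 hG hC₁U (le_centralizer_iff.1 inf_le_right) (not_rankLE_one_of hp.out le_rfl hDe ?_)
    rw [hDc]
    exact lt_self_pow₀ hp.out.one_lt (by norm_num)
  have h2 := hcount E hEP hEe hEc
  have hC₂U : InUniqueMaximal (E ⊓ centralizer (D : Set G)) :=
    thm92 hG hDU inf_le_right (not_rankLE_one_of hp.out le_rfl (ea_of_le inf_le_left hEe) h2)
  obtain ⟨F, hFB, -, hFe, hFc⟩ := exists_normal_sq hp2 hBp hBnc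
  refine thm92 hG hC₂U ?_ (not_rankLE_one_of hp.out hFB hFe (by rw [hFc]; exact lt_self_pow₀ hp.out.one_lt (by norm_num)))
  exact (le_centralizer_iff.1 hEC).trans (centralizer_le inf_le_left)

end Cfsg.Agent.H12.BG9
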