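import Mathlib
import Cfsg.Agent.H12_BG9c

/-! BG Theorems 8.1, 9.4 -/

set_option autoImplicit false

open Pointwise
open scoped commutatorElement

namespace Cfsg.Agent.H12.BG9

open Cfsg Subgroup H13.Syl H12.Loc H12.Trans H12.BG7 H12.Puig

universe u

variable {G : Type u} [Group G] [Finite G]

/-- `Z(O_q(M))` -/
theorem exists_ZO (hG : IsMinSimpleOddOrder G) {M : Subgroup G} (hM : IsCoatom M) {q : ℕ} (hq : q.Prime) (h : Oq q M ≠ ⊥) :
    ∃ Z ≤ Oq q M, Z ≠ ⊥ ∧ Z ≤ centralizer (fittingOf M : Set G) ∧ normalizer (Z : Set G) = M := by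
  have : Fact q.Prime := ⟨hq⟩
  set Z := Oq q M ⊓ centralizer (Oq q M : Set G) with hZ
  have h1 : Z ≤ centralizer (fittingOf M : Set G) := by
    rw [le_centralizer_fittingOf_iff]
    intro r hr
    by_cases hrq : r = q
    · subst hrq; exact inf_le_right
    · exact inf_le_left.trans (Oq_le_centralizer_Oq hq hr (Ne.symm hrq) M)
  have h2 : M ≤ normalizer (Z : Set G) := (le_normalizer_Oq q M).trans (normalizer_le_inf_centralizer _)
  have h3 : Z ≠ ⊥ := by
    have h4 : Nontrivial (Oq q M) := (nontrivial_iff_ne_bot _).2 h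
    have h5 : Nontrivial (center (Oq q M)) := (Oq_isPGroup hq M).center_nontrivial
    obtain ⟨z, hz⟩ := exists_ne (1 : center (Oq q M))
    intro h0
    have h6 : ((z : Oq q M) : G) ∈ Z := by
      refine ⟨(z : Oq q M).2, ?_⟩
      show ((z : Oq q M) : G) ∈ centralizer (Oq q M : Set G)
      rw [mem_centralizer_iff]
      intro y hy
      exact congrArg Subtype.val (mem_center_iff.1 z.2 ⟨y, hy⟩)
    rw [h0, mem_bot] at h6
    exact hz (Subtype.ext (Subtype.ext h6))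
  exact ⟨Z, inf_le_left, h3, h1, normalizer_eq_of_isCoatom hG hM h3 h2 (inf_le_left.trans (Oq_le q M))⟩

theorem Oq_ne_bot_of_dvd {M : Subgroup G} {q : ℕ} (hq : q.Prime) (h : q ∣ Nat.card (fittingOf M)) : Oq q M ≠ ⊥ := by
  have : Fact q.Prime := ⟨hq⟩
  intro h0
  obtain ⟨x, hx⟩ := exists_prime_orderOf_dvd_card' (G := fittingOf M) q h
  have h1 : (x : G) ∈ Oq q M := mem_Oq_of_mem_fittingOf hq x.2 ⟨1, by
    rw [pow_one, ← hx]
    exact_mod_cast congrArg Subtype.val (pow_orderOf_eq_one x)⟩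
  rw [h0, mem_bot] at h1
  have h2 : x = 1 := Subtype.ext h1
  rw [h2, orderOf_one] at hx
  exact hq.one_lt.ne hx

/-- the data for 8.1(a) -/
theorem s81 (hG : IsMinSimpleOddOrder G) {M : Subgroup G} (hM : IsCoatom M) {p : ℕ} [hp : Fact p.Prime] {A₀ : Subgroup G}
    (hA₀ : A₀ ≤ fittingOf M) (hA₀e : IsElementaryAbelian p A₀) (hA₀b : A₀ ≠ ⊥) (hnp : ¬ IsPGroup p (fittingOf M)) :
    BG8.S81 M (fittingOf M ⊓ centralizer (A₀ : Set G)) ∧
      ∀ q : ℕ, q.Prime → q ≠ p → Oq q M ≤ fittingOf M ⊓ centralizer (A₀ : Set G) := by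
  set A := fittingOf M ⊓ centralizer (A₀ : Set G) with hA
  have hA₀p : IsPGroup p A₀ := SCN.isPGroup_ea hA₀e
  have hA₀O : A₀ ≤ Oq p M := le_Oq_of_le_fittingOf hp.out hA₀ hA₀p
  have hqA : ∀ q : ℕ, q.Prime → q ≠ p → Oq q M ≤ A := fun q hq hqp =>
    le_inf (Oq_le_fittingOf hq M) ((Oq_le_centralizer_Oq hq hp.out hqp M).trans (centralizer_le hA₀O))
  have hpd : p ∣ Nat.card (fittingOf M) := dvd_card_of_le hA₀p hA₀b hA₀
  have hother : ∃ q : ℕ, q.Prime ∧ q ∣ Nat.card (fittingOf M) ∧ q ≠ p := by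
    by_contra hcon
    push Not at hcon
    apply hnp
    rw [Core.isPGroup_iff_piNum hp.out]
    intro r hr hrd
    exact hcon r hr hrd
  have hZ : ∀ q : ℕ, q.Prime → q ∣ Nat.card (fittingOf M) → ∃ Z ≤ A ⊓ Oq q M, Z ≠ ⊥ ∧ normalizer (Z : Set G) = M := by
    intro q hq hqd
    obtain ⟨Z, hZO, hZne, hZF, hZN⟩ := exists_ZO hG hM hq (Oq_ne_bot_of_dvd hq hqd)
    exact ⟨Z, le_inf (le_inf (hZO.trans (Oq_le_fittingOf hq M)) (hZF.trans (centralizer_le hA₀))) hZO, hZne, hZN⟩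
  refine ⟨⟨hM, inf_le_left, ?_, ?_, ?_, ?_, ⟨p, hp.out, hpd⟩⟩, hqA⟩
  · intro q hq hqd
    obtain ⟨Z, hZA, -, hZN⟩ := hZ q hq hqd
    exact ((centralizer_le hZA).trans (centralizer_le_normalizer _)).trans hZN.le
  · intro q hq hqd h0
    obtain ⟨Z, hZA, hZne, -⟩ := hZ q hq hqd
    rw [h0, le_bot_iff] at hZA
    exact hZne hZA
  · intro q hq hqd
    refine le_inf ?_ inf_le_left
    by_cases hqp : q = p
    · subst hqp
      refine le_inf (inf_le_left.trans (Oq_le_fittingOf hq M)) (inf_le_right.trans (centralizer_le ?_))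
      exact le_inf (le_inf hA₀ (have := hA₀e.1; le_centralizer A₀)) hA₀O
    · exact inf_le_left.trans (hqA q hq hqp)
  · intro r hr hrd
    by_cases hrp : r = p
    · obtain ⟨q, hq, hqd, hqp⟩ := hother
      exact ⟨q, hq, hqd, fun h => hqp (h.trans hrp)⟩
    · exact ⟨p, hp.out, hpd, Ne.symm hrp⟩

/-- BG 8.1(a) -/
theorem thm81a (hG : IsMinSimpleOddOrder G) {M : Subgroup G} (hM : IsCoatom M) {p : ℕ} [hp : Fact p.Prime] {A₀ : Subgroup G}
    (hA₀ : A₀ ≤ fittingOf M) (hA₀e : IsElementaryAbelian p A₀) (hA₀3 : p ^ 2 < Nat.card A₀) (hnp : ¬ IsPGroup p (fittingOf M)) :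
    InUniqueMaximal (fittingOf M ⊓ centralizer (A₀ : Set G)) := by
  have hA₀b : A₀ ≠ ⊥ := by
    rintro rfl
    rw [card_bot] at hA₀3
    exact absurd hA₀3 (not_lt.2 (Nat.one_le_pow _ _ hp.out.pos))
  obtain ⟨h, hqA⟩ := s81 hG hM hA₀ hA₀e hA₀b hnp
  have hpd : p ∣ Nat.card (fittingOf M) := dvd_card_of_le (SCN.isPGroup_ea hA₀e) hA₀b hA₀
  refine inU_iff.2 ⟨M, hM, inf_le_left.trans (Core.fittingOf_le M), fun H hH hAH => ?_⟩
  refine h.unique hG ?_ hp.out hpd hqA hH hAH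
  intro hr
  refine SCN.not_pRankLE_of (k := 2) (F := A₀) ?_ hA₀e hA₀3 (hr p hp.out)
  refine le_inf (le_inf hA₀ (have := hA₀e.1; le_centralizer A₀)) ?_
  exact le_centralizer_iff.1 inf_le_right

/-- BG 8.1(b) -/
theorem thm81b (hG : IsMinSimpleOddOrder G) {M : Subgroup G} (hM : IsCoatom M) {p : ℕ} [hp : Fact p.Prime]
    (hne : fittingOf M ≠ ⊥) (hFp : IsPGroup p (fittingOf M)) {P : Subgroup G} (hP : IsSylIn p P M) :
    IsSylIn p P ⊤ ∧ ∀ A : Subgroup G, IsSCN P A → ¬ PRankLE p 2 A → A ≤ fittingOf M ∧ InUniqueMaximal A := by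
  have hMs : Group.IsSolvable M := solvable_of_ne_top hG hM.1
  have hFO : fittingOf M ≤ Oq p M := le_Oq_of_le_fittingOf hp.out le_rfl hFp
  have hOb : Oq p M ≠ ⊥ := fun h => hne (le_bot_iff.1 (h ▸ hFO))
  have hpG : p ∣ Nat.card G := by
    have := dvd_card_of_le (Oq_isPGroup hp.out M) hOb (le_top : Oq p M ≤ ⊤)
    rwa [card_top] at this
  have hp2 : p ≠ 2 := prime_ne_two hG hpG
  have hOq : ∀ q : ℕ, q.Prime → q ≠ p → Oq q M = ⊥ := by
    intro q hq hqp
    have h1 : Oq q M ≤ Oq p M := (Oq_le_fittingOf hq M).trans hFO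
    have : Fact q.Prime := ⟨hq⟩
    have h2 := (IsPGroup.disjoint_of_ne q p hqp _ _ (Oq_isPGroup hq M) (Oq_isPGroup hp.out M)).eq_bot
    rwa [inf_eq_left.2 h1] at h2
  have hOc : Oc p M = ⊥ := Oc_eq_bot hp.out hMs hOq
  have hOP : Oq p M ≤ P := by
    have h1 : IsPGroup p ↥(P ⊔ Oq p M) :=
      hP.isPGroup.to_sup_of_normal_right' (Oq_isPGroup hp.out M) (hP.le.trans (le_normalizer_Oq p M))
    rw [← hP.eq_of_le h1 (sup_le hP.le (Oq_le p M)) le_sup_left]
    exact le_sup_right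
  have hPne : P ≠ ⊥ := fun h => hOb (le_bot_iff.1 (h ▸ hOP))
  have hZP : ∀ P' : Subgroup G, IsSylIn p P' M → normalizer (ZL P' : Set G) = M := by
    intro P' hP'
    have h1 := puig_local hG hp2 hM.1 hP'
    rw [hOc, bot_sup_eq] at h1
    have hP'ne : P' ≠ ⊥ := by
      intro h0
      have := hP.card_eq hP'
      rw [h0, card_bot] at this
      exact hPne (eq_bot_of_card_eq _ this)
    exact normalizer_eq_of_isCoatom hG hM (ZL_ne_bot hP'.isPGroup hP'ne) (h1.trans inf_le_right) ((ZL_le P').trans hP'.le)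
  have hPtop : IsSylIn p P ⊤ := isSylIn_top_of_normalizer_le hP (by rw [← hZP P hP]; exact normalizer_le_ZL P)
  refine ⟨hPtop, fun A hA hAr => ?_⟩
  have hAc : IsMulCommutative A := by
    have h1 : A ≤ centralizer (A : Set G) := by
      conv_lhs => rw [← hA.2.2]
      exact inf_le_right
    exact ⟨⟨fun a b => Subtype.ext (mem_centralizer_iff.1 (h1 b.2) a a.2)⟩⟩
  have hAp : IsPGroup p A := hP.isPGroup.to_le hA.1
  have hAb : A ≠ ⊥ := by
    rintro rfl
    apply hAr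
    rw [SCN.pRankLE_top_iff]
    intro F _
    have : Nat.card F = 1 := Nat.card_unique
    rw [this]
    exact Nat.one_le_pow _ _ hp.out.pos
  have hAO : A ≤ Oq p M := by
    refine (le_Opp_of_abelian hG hM.1 hP hA.1 hAc hA.2.1).trans (le_Oq hp.out (Opp_le p M) (le_normalizer_Opp p M) ?_)
    obtain ⟨-, m, hm⟩ := relIndex_Opp (p := p) M
    rw [hOc, relIndex_bot_left] at hm
    exact IsPGroup.of_card hm
  refine ⟨hAO.trans (Oq_le_fittingOf hp.out M), ?_⟩
  obtain ⟨S, hS⟩ := hPtop.exists_sylow_top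
  have hTH : TransitivityHypothesis A := th_of_cases hG hpG hAp hAc (Or.inr ⟨S, by rw [hS]; exact hA, fun h =>
    hAr (SCN.pRankLE_le hp.out.pos (by norm_num) h)⟩)
  have hpA : ∀ r : ℕ, r.Prime → (r ∣ Nat.card A ↔ r = p) := by
    intro r hr
    obtain ⟨k, hk⟩ := IsPGroup.iff_card.1 hAp
    rw [hk]
    constructor
    · intro h; exact (Nat.prime_dvd_prime_iff_eq hr hp.out).1 (hr.dvd_of_dvd_pow h)
    · rintro rfl
      refine dvd_pow_self r ?_
      rintro rfl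
      rw [pow_zero] at hk
      exact hAb (eq_bot_of_card_eq _ hk)
  -- C_G(A) ≤ M
  obtain ⟨Z, hZO, hZne, hZF, hZN⟩ := exists_ZO hG hM hp.out hOb
  have hZA : Z ≤ A := by
    rw [← hA.2.2]
    exact le_inf (hZO.trans hOP) (hZF.trans (centralizer_le (hAO.trans (Oq_le_fittingOf hp.out M))))
  have hCA : centralizer (A : Set G) ≤ M := by
    rw [← hZN]
    exact (centralizer_le hZA).trans (centralizer_le_normalizer _)
  have hKA : O' A (centralizer (A : Set G)) = ⊥ := by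
    rw [eq_bot_iff, ← hOc]
    have h1 := O'_le A (centralizer (A : Set G))
    refine le_Oc_of_centralizer hp.out hMs (hAO.trans (Oq_le p M)) hAp (h1.trans hCA) h1 ?_
      (inf_le_right.trans (le_normalizer_O' A _))
    exact Nat.Coprime.coprime_dvd_right ((hpA p hp.out).2 rfl) (O'_coprime A _)
  have hZr : ¬ RankLE 2 ↥(A ⊓ centralizer (A : Set G)) := by
    intro h
    have h1 : A ⊓ centralizer (A : Set G) = A := inf_eq_left.2 (le_centralizer A)
    rw [h1] at h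
    exact hAr (h p hp.out)
  have hOcH : ∀ H : Subgroup G, IsCoatom H → A ≤ H → Oc p H = ⊥ := by
    intro H hH hAH
    apply Oc_eq_bot hp.out (solvable_of_ne_top hG hH.1)
    intro q hq hqp
    have : Fact q.Prime := ⟨hq⟩
    have hqA : ¬ q ∣ Nat.card A := fun h => hqp ((hpA q hq).1 h)
    refine BG8.inv_eq_bot hG hM (Oq_le p M) (le_normalizer_Oq p M) hAO (Oq_isPGroup hp.out M).isNilpotent ?_ hTH hq hqA
      (hOq q hq hqp) ?_ (R := Oq q H) ⟨Oq_isPGroup hq H, hAH.trans (le_normalizer_Oq q H)⟩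
    · intro r hr hrd
      have := (Core.isPGroup_iff_piNum hp.out).1 (Oq_isPGroup hp.out M) r hr hrd
      exact (hpA r hr).2 this
    · intro Q₁ Q₂ h1 h2
      obtain ⟨k, hk, hk'⟩ := conj_of_rank_three hG hTH hZr hqA h1 h2
      rw [hKA, mem_bot] at hk
      rw [hk', hk, cj_one]
  refine inU_iff.2 ⟨M, hM, hAO.trans (Oq_le p M), unique_of hG hp2 hM (hAO.trans (Oq_le p M)) hAb hAp ?_ ?_⟩
  · intro P' hP' hAP' H hH hPH
    have hPtop' : IsSylIn p P' ⊤ := isSylIn_top_of_normalizer_le hP' (by rw [← hZP P' hP']; exact normalizer_le_ZL P')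
    have h1 := puig_local hG hp2 hH.1 (hPtop'.mono hPH le_top)
    rw [hOcH H hH (hAP'.trans hPH), bot_sup_eq] at h1
    exact ((hH.le_iff_eq hM.1).1 ((h1.trans inf_le_right).trans (hZP P' hP').le)).symm
  · intro H hH hAH
    rw [hOcH H hH hAH]
    exact bot_le

/-- BG 9.4 -/
theorem thm94 (hG : IsMinSimpleOddOrder G) {M : Subgroup G} (hM : IsCoatom M) {p : ℕ} [hp : Fact p.Prime]
    (hF : ¬ PRankLE p 2 (fittingOf M)) {A : Subgroup G} (hAp : IsPGroup p A) (hAc : IsMulCommutative A)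
    (hA3 : ¬ PRankLE p 2 A) : InUniqueMaximal A := by
  obtain ⟨A₀, hA₀F, hA₀e, hA₀c⟩ := SCN.exists_of_not_pRankLE hF
  have hA₀r : ¬ PRankLE p 2 A₀ := SCN.not_pRankLE_of le_rfl hA₀e hA₀c
  have hA₀p : IsPGroup p A₀ := SCN.isPGroup_ea hA₀e
  have hCA : ¬ PRankLE p 2 (centralizer (A : Set G)) := fun h => hA3 (SCN.pRankLE_mono (le_centralizer A) h)
  have hAnc : ¬ IsCyclic A := not_isCyclic_of_rank (by norm_num) hA3
  have hA₀b : A₀ ≠ ⊥ := by
    rintro rfl
    rw [card_bot] at hA₀c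
    exact absurd hA₀c (not_lt.2 (Nat.one_le_pow _ _ hp.out.pos))
  by_cases hnp : IsPGroup p (fittingOf M)
  · obtain ⟨P, hA₀P, hP⟩ := exists_isSylIn_ge hA₀p (hA₀F.trans (Core.fittingOf_le M))
    have hpG : p ∣ Nat.card G := by
      have := dvd_card_of_le hA₀p hA₀b (le_top : A₀ ≤ ⊤)
      rwa [card_top] at this
    have hp2 : p ≠ 2 := prime_ne_two hG hpG
    obtain ⟨A', -, hA', hA'c, hA'r⟩ := exists_scn_of_rank (E := ⊥) hp2 hP.isPGroup (SCN.not_pRankLE_of hA₀P hA₀e hA₀c) bot_le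
      (H2.Thompson.ea_bot) (by intro x _; exact Core.le_normalizer_of_normal ⊤ ⊥ (mem_top x))
    have h1 := (thm81b hG hM (fun h => hA₀b (le_bot_iff.1 (h ▸ hA₀F))) hnp hP).2 A' hA' hA'r
    exact thm93 hG (hP.isPGroup.to_le hA'.1) hA'c hA'r h1.2 hAp hAnc hCA
  · have h1 := thm81a hG hM hA₀F hA₀e hA₀c hnp
    have h2 : InUniqueMaximal A₀ := by
      refine thm92 hG h1 (le_centralizer_iff.1 inf_le_right) (not_rankLE_one_of hp.out le_rfl hA₀e ?_)
      exact lt_of_le_of_lt (Nat.le_self_pow (by norm_num) p) hA₀c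
    exact thm93 hG hA₀p hA₀e.1 hA₀r h2 hAp hAnc hCA

end Cfsg.Agent.H12.BG9
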