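import Mathlib
import Cfsg.Agent.H12_BG9d

/-! BG Theorem 9.5 -/

set_option autoImplicit false

open Pointwise
open scoped commutatorElement

namespace Cfsg.Agent.H12.BG9

open Cfsg Subgroup H13.Syl H12.Loc H12.Trans H12.BG7 H12.Puig

universe u

variable {G : Type u} [Group G] [Finite G]

/-- hyperplane avoiding a given element -/
theorem exists_compl_ea {p : ℕ} [hp : Fact p.Prime] {E : Subgroup G} (hE : IsElementaryAbelian p E) {a : G} (ha : a ∈ E)
    (ha1 : a ≠ 1) : ∃ F ≤ E, a ∉ F ∧ Nat.card E ≤ Nat.card F * p := by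
  obtain ⟨F, ⟨hFE, haF⟩, hmax⟩ := Set.exists_max_image {F : Subgroup G | F ≤ E ∧ a ∉ F} (fun F => Nat.card F) (Set.toFinite _)
    ⟨⊥, bot_le, by rw [mem_bot]; exact ha1⟩
  refine ⟨F, hFE, haF, ?_⟩
  have hcomm : E ≤ centralizer (E : Set G) := (have := hE.1; le_centralizer E)
  have hle : E ≤ F ⊔ zpowers a := by
    intro x hx
    by_cases hxF : x ∈ F
    · exact mem_sup_left hxF
    have h1 : a ∈ F ⊔ zpowers x := by
      by_contra hcon
      have h2 := hmax (F ⊔ zpowers x) ⟨sup_le hFE (zpowers_le.2 hx), hcon⟩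
      have h3 := H1.Basic.eq_of_le_of_card_ge' (le_sup_left : F ≤ F ⊔ zpowers x) h2
      apply hxF
      rw [h3]
      exact mem_sup_right (mem_zpowers x)
    rw [Narrow.mem_sup_of_le_centralizer (((zpowers_le.2 hx).trans hcomm).trans (centralizer_le hFE))] at h1
    obtain ⟨e, he, y, ⟨k, rfl⟩, hek⟩ := h1
    have hxp : x ^ p = 1 := hE.2 x hx
    have hx1 : x ≠ 1 := fun h => hxF (h ▸ one_mem F)
    have hxo : orderOf x = p := orderOf_eq_prime hxp hx1
    have hk : x ^ k ≠ 1 := by
      intro h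
      apply haF
      rw [← hek]
      show e * x ^ k ∈ F
      rw [h, mul_one]
      exact he
    have h4 : zpowers (x ^ k) = zpowers x := by
      apply H1.Basic.eq_of_le_of_card_ge' (zpowers_le.2 (show x ^ k ∈ zpowers x from ⟨k, rfl⟩))
      rw [Nat.card_zpowers, Nat.card_zpowers, hxo]
      have h5 : orderOf (x ^ k) ∣ p := by rw [← hxo]; exact orderOf_dvd_of_mem_zpowers (show x ^ k ∈ zpowers x from ⟨k, rfl⟩)
      rcases (Nat.dvd_prime hp.out).1 h5 with h6 | h6
      · exact absurd (orderOf_eq_one_iff.1 h6) hk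
      · rw [h6]
    have h5 : x ^ k ∈ F ⊔ zpowers a := by
      have : x ^ k = e⁻¹ * a := by rw [← hek]; group
      rw [this]
      exact mul_mem (mem_sup_left (inv_mem he)) (mem_sup_right (mem_zpowers a))
    have h6 : x ∈ zpowers (x ^ k) := by rw [h4]; exact mem_zpowers x
    exact zpowers_le.2 h5 h6
  have h1 : Nat.card E ≤ Nat.card ↥(F ⊔ zpowers a) := card_le_of_le hle
  have h2 := Core.card_sup_dvd (A := zpowers a) (B := F)
    ((((zpowers_le.2 ha).trans hcomm).trans (centralizer_le hFE)).trans (centralizer_le_normalizer _))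
  rw [sup_comm] at h2
  have h3 := Nat.le_of_dvd (Nat.mul_pos Nat.card_pos Nat.card_pos) h2
  rw [Nat.card_zpowers, orderOf_eq_prime (hE.2 a ha) ha1, mul_comm] at h3
  exact h1.trans h3

/-- generation by centralizers of rank two subgroups -/
theorem exists_two {E D V : Subgroup G} {p : ℕ} [hp : Fact p.Prime] (hE : IsElementaryAbelian p E) (hcard : p ^ 2 < Nat.card E)
    (h1 : E ≤ normalizer (V : Set G)) (c1 : (Nat.card V).Coprime p) (hD : ¬ V ≤ D) :
    ∃ B ≤ E, p < Nat.card B ∧ ¬ V ⊓ centralizer (B : Set G) ≤ D := by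
  have hEp := SCN.isPGroup_ea hE
  have hcomm : ∀ a ∈ E, ∀ b ∈ E, a * b = b * a := fun a ha b hb =>
    congrArg Subtype.val (hE.1.is_comm.comm ⟨a, ha⟩ ⟨b, hb⟩)
  have hp1 : p < Nat.card E := lt_of_le_of_lt (Nat.le_self_pow (by norm_num) p) hcard
  obtain ⟨a, ha, ha1, hna⟩ := exists_one hcomm hE.2 hp1 h1 (coprime_card_of_isPGroup hp.out hEp c1) hD
  obtain ⟨F, hFE, haF, hFc⟩ := exists_compl_ea hE ha ha1
  have hFc' : p < Nat.card F := by
    have h2 := SCN.exists_pow_lt hE hcard
    have h3 : p ^ 2 * p ≤ Nat.card F * p := by rw [← pow_succ]; exact h2.trans hFc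
    exact lt_of_lt_of_le (lt_self_pow₀ hp.out.one_lt (by norm_num)) (Nat.le_of_mul_le_mul_right h3 hp.out.pos)
  have hFn : F ≤ normalizer ((V ⊓ centralizer ({a} : Set G) : Subgroup G) : Set G) := by
    refine H22.Basic.le_normalizer_inf (hFE.trans h1) ?_
    refine le_trans ?_ (le_normalizer)
    intro x hx
    rw [mem_centralizer_singleton_iff]
    exact hcomm x (hFE hx) a ha
  have hFcop : (Nat.card F).Coprime (Nat.card ↥(V ⊓ centralizer ({a} : Set G) : Subgroup G)) :=
    coprime_card_of_isPGroup hp.out (hEp.to_le hFE) (Nat.Coprime.coprime_dvd_left (card_dvd_of_le inf_le_left) c1)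
  obtain ⟨b, hb, hb1, hnb⟩ := exists_one (E₀ := F) (D := D) (fun x hx y hy => hcomm x (hFE hx) y (hFE hy))
    (fun x hx => hE.2 x (hFE hx)) hFc' hFn hFcop hna
  refine ⟨zpowers a ⊔ zpowers b, sup_le (zpowers_le.2 ha) (zpowers_le.2 (hFE hb)), ?_, ?_⟩
  · have hao : orderOf a = p := orderOf_eq_prime (hE.2 a ha) ha1
    have hbo : orderOf b = p := orderOf_eq_prime (hE.2 b (hFE hb)) hb1
    have hdis : zpowers a ⊓ zpowers b = ⊥ := by
      apply Narrow.inf_eq_bot_of_prime hao
      intro h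
      exact haF (zpowers_le.2 hb h)
    rw [H22.Basic.card_sup_of_inf_eq_bot _ hdis, Nat.card_zpowers, Nat.card_zpowers, hao, hbo]
    · exact lt_mul_of_one_lt_left hp.out.pos hp.out.one_lt
    · rw [zpowers_le]
      apply centralizer_le_normalizer
      rw [mem_centralizer_iff]
      rintro _ ⟨k, rfl⟩
      have : Commute a b := hcomm a ha b (hFE hb)
      exact this.zpow_left k
  · intro h
    apply hnb
    refine le_trans ?_ h
    rintro x ⟨⟨hx1, hx2⟩, hx3⟩
    refine ⟨hx1, ?_⟩
    show x ∈ centralizer ((zpowers a ⊔ zpowers b : Subgroup G) : Set G)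
    rw [Narrow.mem_centralizer_iff_le]
    refine sup_le (zpowers_le.2 ?_) (zpowers_le.2 ?_)
    · rw [mem_centralizer_singleton_iff]
      exact (mem_centralizer_singleton_iff.1 hx2).symm
    · rw [mem_centralizer_singleton_iff]
      exact (mem_centralizer_singleton_iff.1 hx3).symm

/-- 4.20(c): some `O_q(M)` is a nontrivial Sylow subgroup -/
theorem exists_Oq_sylow (hG : IsMinSimpleOddOrder G) {M : Subgroup G} (hM : M ≠ ⊤) (hMb : M ≠ ⊥)
    (hr : ∀ q : ℕ, q.Prime → PRankLE q 2 (Oq q M)) : ∃ q : ℕ, q.Prime ∧ Oq q M ≠ ⊥ ∧ IsSylIn q (Oq q M) M := by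
  have hMs : Group.IsSolvable M := solvable_of_ne_top hG hM
  have hodd := odd_card_subgroup hG M
  have hr' : ∀ q : ℕ, q.Prime → PRankLE q 2 (pCore q M) := by
    intro q hq
    have h1 := hr q hq
    rw [Oq_eq_map hq] at h1
    exact SCN.pRankLE_of_injective ((pCore q M).equivMapOfInjective M.subtype M.subtype_injective).toMonoidHom
      ((pCore q M).equivMapOfInjective M.subtype M.subtype_injective).injective h1
  have hc1 : Nat.card M ≠ 1 := fun h => hMb (eq_bot_of_card_eq _ h)
  have hne : (Nat.card M).primeFactors.Nonempty := by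
    obtain ⟨q, hq, hqd⟩ := Nat.exists_prime_and_dvd hc1
    exact ⟨q, Nat.mem_primeFactors.2 ⟨hq, hqd, Nat.card_pos.ne'⟩⟩
  set q := (Nat.card M).primeFactors.max' hne with hqdef
  have hqmem := Finset.max'_mem _ hne
  rw [← hqdef, Nat.mem_primeFactors] at hqmem
  obtain ⟨hq, hqd, -⟩ := hqmem
  have : Fact q.Prime := ⟨hq⟩
  have hmax : ∀ r : ℕ, r.Prime → r ∣ Nat.card M → r ≤ q := fun r hr hrd =>
    Finset.le_max' _ _ (Nat.mem_primeFactors.2 ⟨hr, hrd, Nat.card_pos.ne'⟩)
  obtain ⟨h1, h2⟩ := Rank2.tower (G := M) hodd hr' (q - 1)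
  set N := piCore {r : ℕ | r.Prime ∧ q - 1 < r} M with hN
  have h3 : IsPGroup q N := by
    rw [Core.isPGroup_iff_piNum hq]
    intro r hr hrd
    have h4 := h1 r hr hrd
    have h5 := hmax r hr (hrd.trans (card_subgroup_dvd_card N))
    have h6 : q - 1 < r := h4.2
    rw [Set.mem_singleton_iff]
    omega
  have h4 : N ≤ pCore q M := H1.Nilp.le_pCore inferInstance h3
  have h5 : ¬ q ∣ N.index := h2 q hq ⟨hq, by have := hq.pos; omega⟩
  have h6 : IsSylIn q (Oq q M) M := by
    refine ⟨Oq_le q M, Oq_isPGroup hq M, ?_⟩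
    intro h
    apply h5
    have h7 : (Oq q M).relIndex M = (pCore q M).index := by
      rw [Oq_eq_map hq]; exact Core.relIndex_map_subtype_self _
    rw [h7] at h
    exact h.trans (index_dvd_of_le h4)
  refine ⟨q, hq, ?_, h6⟩
  intro h0
  have h7 := h6.not_dvd
  rw [h0, relIndex_bot_left] at h7
  exact h7 hqd

/-- Burnside -/
theorem commutator_normalizer_ne_bot (hG : IsMinSimpleOddOrder G) {p : ℕ} [hp : Fact p.Prime] {P : Subgroup G}
    (hP : IsSylIn p P ⊤) (hne : P ≠ ⊥) : ⁅P, normalizer (P : Set G)⁆ ≠ ⊥ := by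
  intro h0
  obtain ⟨S, rfl⟩ := hP.exists_sylow_top
  rw [commutator_eq_bot_iff_le_centralizer, le_centralizer_iff] at h0
  have h1 := MonoidHom.ker_transferSylow_isComplement' S h0
  rcases eq_bot_or_top hG (inferInstance : (MonoidHom.transferSylow S h0).ker.Normal) with h2 | h2
  · rw [h2] at h1
    have h3 : (S : Subgroup G) = ⊤ := isComplement'_bot_left.1 h1
    exact ne_top_of_isPGroup hG S.isPGroup' h3
  · rw [h2] at h1
    exact hne (isComplement'_top_left.1 h1)

/-- the pack for overgroups `R` of `A` inside `P` -/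
theorem pack_of_scn (hG : IsMinSimpleOddOrder G) {p : ℕ} [hp : Fact p.Prime] {P A R : Subgroup G}
    (hpG : p ∣ Nat.card G) (hP : IsSylIn p P ⊤) (hA : IsSCN P A) (hAc : IsMulCommutative A) (hAr : ¬ PRankLE p 2 A)
    (hAR : A ≤ R) (hRP : R ≤ P) {q : ℕ} (hq : q.Prime) (hqp : q ≠ p) : Pack A R q := by
  have : Fact q.Prime := ⟨hq⟩
  obtain ⟨S, hS⟩ := hP.exists_sylow_top
  have hAp : IsPGroup p A := hP.isPGroup.to_le hA.1
  have hAb : A ≠ ⊥ := by
    rintro rfl
    apply hAr
    rw [SCN.pRankLE_top_iff]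
    intro F _
    have : Nat.card F = 1 := Nat.card_unique
    rw [this]
    exact Nat.one_le_pow _ _ hp.out.pos
  have hTH : TransitivityHypothesis A := th_of_cases hG hpG hAp hAc (Or.inr ⟨S, by rw [hS]; exact hA, fun h =>
    hAr (SCN.pRankLE_le hp.out.pos (by norm_num) h)⟩)
  have hpA : ∀ r : ℕ, r.Prime → (r ∣ Nat.card A ↔ r = p) := by
    intro r hr
    obtain ⟨k, hk⟩ := IsPGroup.iff_card.1 hAp
    rw [hk]
    constructor
    · intro h; exact (Nat.prime_dvd_prime_iff_eq hr hp.out).1 (hr.dvd_of_dvd_pow h)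
    · rintro rfl
      refine dvd_pow_self r ?_
      rintro rfl
      rw [pow_zero] at hk
      exact hAb (eq_bot_of_card_eq _ hk)
  have hqA : ¬ q ∣ Nat.card A := fun h => hqp ((hpA q hq).1 h)
  have hZ : ¬ RankLE 2 ↥(A ⊓ centralizer (A : Set G)) := by
    intro h
    have h1 : A ⊓ centralizer (A : Set G) = A := inf_eq_left.2 (le_centralizer A)
    rw [h1] at h
    exact hAr (h p hp.out)
  have hAA : Pack A A q := ⟨hTH, rfl, fun Q₁ Q₂ h1 h2 => conj_of_rank_three hG hTH hZ hqA h1 h2, fun Q hQ => hQ⟩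
  have hn : (A.subgroupOf R).Normal := Core.normal_subgroupOf_of_le (hRP.trans hA.2.1)
  have e : (A.subgroupOf R).map R.subtype = A := by
    rw [Subgroup.subgroupOf_map_subtype, inf_eq_left.mpr hAR]
  have hRp : IsPGroup p R := hP.isPGroup.to_le hRP
  apply subnormal_pack hG hqA (ne_top_of_isPGroup hG hRp) _ (A.subgroupOf R) hn.isSubnormal
  · rw [e]
  · rw [e]; exact hAA
  · intro r hr hrd
    obtain ⟨k, hk⟩ := IsPGroup.iff_card.1 hRp
    rw [hk] at hrd
    exact (hpA r hr).2 ((Nat.prime_dvd_prime_iff_eq hr hp.out).1 (hr.dvd_of_dvd_pow hrd))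

/-- first step of 9.5 -/
theorem step95 (hG : IsMinSimpleOddOrder G) {p : ℕ} [hp : Fact p.Prime] {P A : Subgroup G}
    (hpG : p ∣ Nat.card G) (hP : IsSylIn p P ⊤) (hA : IsSCN P A) (hAc : IsMulCommutative A) (hAr : ¬ PRankLE p 2 A)
    {M : Subgroup G} (hM : IsCoatom M) (hFp : PRankLE p 2 (fittingOf M)) (hCM : centralizer (A : Set G) ≤ M)
    {R : Subgroup G} (hAR : A ≤ R) (hRP : R ≤ P) (hRM : R ≤ M) : normalizer (R : Set G) ≤ M := by
  have hAM : A ≤ M := (le_centralizer A).trans hCM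
  have hAb : A ≠ ⊥ := by
    rintro rfl
    apply hAr
    rw [SCN.pRankLE_top_iff]
    intro F _
    have : Nat.card F = 1 := Nat.card_unique
    rw [this]
    exact Nat.one_le_pow _ _ hp.out.pos
  have hMb : M ≠ ⊥ := fun h => hAb (le_bot_iff.1 (h ▸ hAM))
  suffices h : ∃ q : ℕ, q.Prime ∧ q ≠ p ∧ ∃ Q : Subgroup G, MaxInv R q Q ∧ normalizer (Q : Set G) ≤ M by
    obtain ⟨q, hq, hqp, Q, hQ, hQM⟩ := h
    have hpack := pack_of_scn hG hpG hP hA hAc hAr hAR hRP hq hqp
    have h1 := (pack_frattini hpack.tr hQ).2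
    rw [h1]
    exact sup_le (((O'_le _ _).trans (centralizer_le hAR)).trans hCM) (inf_le_right.trans hQM)
  by_cases hr : ∀ q : ℕ, q.Prime → PRankLE q 2 (Oq q M)
  · obtain ⟨q, hq, hqb, hqS⟩ := exists_Oq_sylow hG hM.1 hMb hr
    have : Fact q.Prime := ⟨hq⟩
    have hqp : q ≠ p := by
      rintro rfl
      obtain ⟨S, hS⟩ := hqS.exists_sylow
      have h1 : PRankLE q 2 (S : Subgroup M) := by
        rw [hS]
        exact SCN.pRankLE_of_injective (subgroupOfEquivOfLe hqS.le).toMonoidHom (subgroupOfEquivOfLe hqS.le).injective (hr q hq)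
      have h2 := Narrow.pRankLE_of_sylow S h1
      exact hAr (SCN.pRankLE_mono hAM h2)
    have hN : normalizer (Oq q M : Set G) = M := normalizer_eq_of_isCoatom hG hM hqb (le_normalizer_Oq q M) (Oq_le q M)
    refine ⟨q, hq, hqp, Oq q M, ⟨⟨Oq_isPGroup hq M, hRM.trans (le_normalizer_Oq q M)⟩, ?_⟩, hN.le⟩
    intro Q' hQ' hle
    exact (isSylIn_top_of_normalizer_le hqS hN.le).eq_of_le hQ'.1 le_top hle
  · push Not at hr
    obtain ⟨q, hq, hqr⟩ := hr
    have : Fact q.Prime := ⟨hq⟩
    have hqp : q ≠ p := by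
      rintro rfl
      exact hqr (SCN.pRankLE_mono (Oq_le_fittingOf hq M) hFp)
    obtain ⟨Q, hQ, hOQ⟩ := exists_maxInv_ge (A := R) (q := q) (R := Oq q M) ⟨Oq_isPGroup hq M, hRM.trans (le_normalizer_Oq q M)⟩
    refine ⟨q, hq, hqp, Q, hQ, ?_⟩
    obtain ⟨E, hEO, hEe, hEc⟩ := SCN.exists_of_not_pRankLE hqr
    have hEU : InUniqueMaximal E := thm94 hG hM (fun h => hqr (SCN.pRankLE_mono (Oq_le_fittingOf hq M) h))
      (SCN.isPGroup_ea hEe) hEe.1 (SCN.not_pRankLE_of le_rfl hEe hEc)
    obtain ⟨M', hM', hEM', h3⟩ := inU_iff.1 hEU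
    have hMM' : M = M' := h3 M hM (hEO.trans (Oq_le q M))
    subst hMM'
    have hQb : Q ≠ ⊥ := by
      rintro rfl
      have h4 : E ≤ ⊥ := hEO.trans hOQ
      rw [le_bot_iff.1 h4, card_bot] at hEc
      exact absurd hEc (not_lt.2 (Nat.one_le_pow _ _ hq.pos))
    exact le_of_inU h3 ((hEO.trans hOQ).trans le_normalizer) (normalizer_ne_top hG hQb (ne_top_of_isPGroup hG hQ.1.1))

/-- BG 9.5 -/
theorem thm95 (hG : IsMinSimpleOddOrder G) {p : ℕ} [hp : Fact p.Prime] {P A : Subgroup G}
    (hP : IsSylIn p P ⊤) (hA : IsSCN P A) (hAr : ¬ PRankLE p 2 A) : InUniqueMaximal A := by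
  by_contra hAU
  have hAc : IsMulCommutative A := by
    have h1 : A ≤ centralizer (A : Set G) := by
      conv_lhs => rw [← hA.2.2]
      exact inf_le_right
    exact ⟨⟨fun a b => Subtype.ext (mem_centralizer_iff.1 (h1 b.2) a a.2)⟩⟩
  have hAp : IsPGroup p A := hP.isPGroup.to_le hA.1
  have hAb : A ≠ ⊥ := by
    rintro rfl
    apply hAr
    rw [SCN.pRankLE_top_iff]
    intro F _
    have : Nat.card F = 1 := Nat.card_unique
    rw [this]
    exact Nat.one_le_pow _ _ hp.out.pos
  have hPb : P ≠ ⊥ := fun h => hAb (le_bot_iff.1 (h ▸ hA.1))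
  have hpG : p ∣ Nat.card G := by
    have := dvd_card_of_le hAp hAb (le_top : A ≤ ⊤)
    rwa [card_top] at this
  have hp2 : p ≠ 2 := prime_ne_two hG hpG
  have hAt : A ≠ ⊤ := ne_top_of_isPGroup hG hAp
  have hFp : ∀ M : Subgroup G, IsCoatom M → PRankLE p 2 (fittingOf M) := by
    intro M hM
    by_contra h
    exact hAU (thm94 hG hM h hAp hAc hAr)
  have hstep : ∀ M : Subgroup G, IsCoatom M → centralizer (A : Set G) ≤ M → ∀ R : Subgroup G, A ≤ R → R ≤ P → R ≤ M →
      normalizer (R : Set G) ≤ M := fun M hM hCM R hAR hRP hRM =>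
    step95 hG hpG hP hA hAc hAr hM (hFp M hM) hCM hAR hRP hRM
  have hPM : ∀ M : Subgroup G, IsCoatom M → centralizer (A : Set G) ≤ M → P ≤ M := by
    intro M hM hCM
    have hAM : A ≤ M := (le_centralizer A).trans hCM
    by_contra hne
    have hlt : P ⊓ M < P := lt_of_le_of_ne inf_le_left (fun h => hne (h ▸ inf_le_right))
    have h1 := lt_normalizer_of_lt hP.isPGroup hlt
    have h2 := hstep M hM hCM (P ⊓ M) (le_inf hA.1 hAM) inf_le_left inf_le_right
    exact absurd (lt_of_lt_of_le h1 (le_inf inf_le_left (inf_le_right.trans h2))) (lt_irrefl _)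
  have hNM : ∀ M : Subgroup G, IsCoatom M → centralizer (A : Set G) ≤ M → normalizer (P : Set G) ≤ M :=
    fun M hM hCM => hstep M hM hCM P hA.1 le_rfl (hPM M hM hCM)
  set P₀ := ⁅P, normalizer (P : Set G)⁆ with hP₀
  have hP₀b : P₀ ≠ ⊥ := commutator_normalizer_ne_bot hG hP hPb
  have hP₀P : P₀ ≤ P := by
    rw [hP₀]
    exact H1.Coprime.commutator_le_of_le_normalizer le_rfl
  have hP₀p : IsPGroup p P₀ := hP.isPGroup.to_le hP₀P
  have hP₀NN : P₀ ≤ ⁅normalizer (P : Set G), normalizer (P : Set G)⁆ := commutator_mono le_normalizer le_rfl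
  -- p-elements whose q-power is in C are in C
  have hpow : ∀ (q : ℕ), q.Prime → q ≠ p → ∀ V : Subgroup G,
      (∀ g ∈ P₀, ∃ n, g ^ (q ^ n) ∈ centralizer (V : Set G)) → P₀ ≤ centralizer (V : Set G) := by
    intro q hq hqp V h g hg
    obtain ⟨n, hn⟩ := h g hg
    obtain ⟨m, hm⟩ := hP₀p ⟨g, hg⟩
    exact Fit.mem_centralizer_of_pow hp.out hq hqp.symm (congrArg Subtype.val hm) hn
  -- P₀ ≤ O_p(M)
  have hP₀M : ∀ M : Subgroup G, IsCoatom M → centralizer (A : Set G) ≤ M → P₀ ≤ Oq p M := by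
    intro M hM hCM
    have hMs : Group.IsSolvable M := solvable_of_ne_top hG hM.1
    have hAM : A ≤ M := (le_centralizer A).trans hCM
    have hNP := hNM M hM hCM
    have hNPs : Group.IsSolvable (normalizer (P : Set G)) := BG1.isSolvable_of_le hNP hMs
    have hcent : ∀ q : ℕ, q.Prime → q ≠ p → P₀ ≤ centralizer (Oq q M : Set G) := by
      intro q hq hqp
      have : Fact q.Prime := ⟨hq⟩
      have hVp := Oq_isPGroup hq M
      by_cases hqr : PRankLE q 2 (Oq q M)
      · apply hpow q hq hqp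
        intro g hg
        by_cases hq2 : q = 2
        · have hVb : Oq q M = ⊥ := by
            by_contra hne
            have := dvd_card_of_le hVp hne (le_top : Oq q M ≤ ⊤)
            rw [card_top] at this
            exact prime_ne_two hG this hq2
          rw [hVb]
          refine ⟨0, ?_⟩
          rw [mem_centralizer_iff]
          intro y hy
          rw [SetLike.mem_coe, mem_bot] at hy
          rw [hy, one_mul, mul_one]
        · exact Rank2.comm_pow_mem_centralizer hq2 hVp hqr (hNP.trans (le_normalizer_Oq q M)) hNPs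
            (odd_card_subgroup hG _) g (hP₀NN hg)
      · obtain ⟨E, hEA, hEe, hEc⟩ := SCN.exists_of_not_pRankLE hAr
        by_contra hcon
        rw [le_centralizer_iff] at hcon
        have hVc : (Nat.card (Oq q M)).Coprime p := by
          obtain ⟨k, hk⟩ := IsPGroup.iff_card.1 hVp
          rw [hk]
          exact Nat.Coprime.pow_left _ ((Nat.coprime_primes hq hp.out).2 hqp)
        obtain ⟨B, hBE, hBc, hB⟩ := exists_two hEe hEc ((hEA.trans hAM).trans (le_normalizer_Oq q M)) hVc hcon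
        -- some b in B has centralizer not in M
        have hb : ∃ b ∈ B, b ≠ 1 ∧ ¬ centralizer ({b} : Set G) ≤ M := by
          by_contra hno
          push Not at hno
          have h1 := thm91' hG hM ((hBE.trans hEA).trans hAM) (ea_of_le hBE hEe) hBc hno
          exact hAU (inU_mono h1 (hBE.trans hEA) hAt)
        obtain ⟨b, hbB, hb1, hbM⟩ := hb
        obtain ⟨H, hH, hCH⟩ := exists_isCoatom_ge (centralizer_singleton_ne_top hG hb1)
        have hHM : H ≠ M := fun h => hbM (h ▸ hCH)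
        have hCAb : centralizer (A : Set G) ≤ centralizer ({b} : Set G) :=
          centralizer_le (Set.singleton_subset_iff.2 (hEA (hBE hbB)))
        have hCAH : centralizer (A : Set G) ≤ H := hCAb.trans hCH
        have hNH := hNM H hH hCAH
        -- V ∩ H
        have hVHr : PRankLE q 2 ↥(Oq q M ⊓ H : Subgroup G) := by
          by_contra hno
          obtain ⟨F, hFV, hFe, hFc⟩ := SCN.exists_of_not_pRankLE hno
          have h1 : InUniqueMaximal F := thm94 hG hM (fun h => hqr (SCN.pRankLE_mono (Oq_le_fittingOf hq M) h))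
            (SCN.isPGroup_ea hFe) hFe.1 (SCN.not_pRankLE_of le_rfl hFe hFc)
          obtain ⟨M', hM', hFM', h3⟩ := inU_iff.1 h1
          have h4 : M = M' := h3 M hM ((hFV.trans inf_le_left).trans (Oq_le q M))
          have h5 : H = M' := h3 H hH (hFV.trans inf_le_right)
          exact hHM (h5.trans h4.symm)
        have hVHp : IsPGroup q ↥(Oq q M ⊓ H : Subgroup G) := hVp.to_le inf_le_left
        have hVHn : normalizer (P : Set G) ≤ normalizer ((Oq q M ⊓ H : Subgroup G) : Set G) :=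
          H22.Basic.le_normalizer_inf (hNP.trans (le_normalizer_Oq q M)) (hNH.trans le_normalizer)
        have hP₀VH : P₀ ≤ centralizer ((Oq q M ⊓ H : Subgroup G) : Set G) := by
          apply hpow q hq hqp
          intro g hg
          have hq2 : q ≠ 2 := by
            rintro rfl
            apply hqr
            have hVb : Oq 2 M = ⊥ := by
              by_contra hne
              have := dvd_card_of_le hVp hne (le_top : Oq 2 M ≤ ⊤)
              rw [card_top] at this
              exact prime_ne_two hG this rfl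
            rw [hVb, SCN.pRankLE_top_iff]
            intro F _
            have : Nat.card F = 1 := Nat.card_unique
            rw [this]
            norm_num
          exact Rank2.comm_pow_mem_centralizer hq2 hVHp hVHr hVHn hNPs (odd_card_subgroup hG _) g (hP₀NN hg)
        apply hB
        rw [le_centralizer_iff] at hP₀VH
        refine le_trans ?_ hP₀VH
        refine le_inf inf_le_left (inf_le_right.trans ?_)
        refine le_trans ?_ hCH
        exact centralizer_le (Set.singleton_subset_iff.2 hbB)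
    -- D := M' ∩ C_M(O_{p'}(F(M)))
    have hP₀MM : P₀ ≤ ⁅M, M⁆ := hP₀NN.trans (commutator_mono hNP hNP)
    have hodd := odd_card_subgroup hG M
    set D : Subgroup M := commutator M ⊓ centralizer (Fit.FC p M : Set M) with hD
    have hDn : D.Normal := inferInstance
    have hDF : D ≤ fittingSubgroup M := by
      apply Fit.le_fitting_of p D inf_le_right
      intro d hd
      apply Rank2.comm_pow_of_normal hodd (H1.Nilp.pCore_isPGroup p) ?_ d hd.1
      have h1 := SCN.pRankLE_mono (Oq_le_fittingOf hp.out M) (hFp M hM)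
      rw [Oq_eq_map hp.out] at h1
      exact SCN.pRankLE_of_injective ((pCore p M).equivMapOfInjective M.subtype M.subtype_injective).toMonoidHom
        ((pCore p M).equivMapOfInjective M.subtype M.subtype_injective).injective h1
    have hP₀D : P₀.subgroupOf M ≤ D := by
      refine le_inf ?_ ?_
      · intro x hx
        have h1 := hP₀MM hx
        have h2 : ⁅M, M⁆ = (commutator M).map M.subtype := by
          rw [_root_.commutator_def, map_commutator, ← MonoidHom.range_eq_map, range_subtype]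
        rw [h2] at h1
        obtain ⟨y, hy, hyx⟩ := h1
        have : y = x := Subtype.ext hyx
        rw [← this]; exact hy
      · rw [Fit.le_centralizer_FC_iff]
        intro r hr hrp x hx
        rw [mem_centralizer_iff]
        intro y hy
        apply Subtype.ext
        refine mem_centralizer_iff.1 (hcent r hr hrp hx) y ?_
        rw [Oq_eq_map hr]
        exact ⟨y, hy, rfl⟩
    have hP₀F : P₀ ≤ fittingOf M := Core.le_map_of_subgroupOf_le (hP₀P.trans (hPM M hM hCM)) (hP₀D.trans hDF)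
    exact le_Oq_of_le_fittingOf hp.out hP₀F hP₀p
  -- L
  obtain ⟨L, hL, hNL⟩ := exists_isCoatom_ge (normalizer_ne_top hG hP₀b (ne_top_of_isPGroup hG hP₀p))
  have hPN₀ : normalizer (P : Set G) ≤ normalizer (P₀ : Set G) := by
    rw [hP₀]
    exact Subgroup.normalizer_commutator_ge_right _ _
  -- C_G(A) ≤ N(P₀)
  have hCAt : centralizer (A : Set G) ≠ ⊤ := centralizer_ne_top hG hAb
  obtain ⟨M₀, hM₀, hCM₀⟩ := exists_isCoatom_ge hCAt
  have hPNA : IsSylIn p P (normalizer (A : Set G)) := hP.mono hA.2.1 le_top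
  have hASyl : IsSylIn p A (centralizer (A : Set G)) := by
    have h1 := hPNA.inf_of_le_normalizer (centralizer_le_normalizer (A : Set G))
      (H2.PCons.normalizer_le_normalizer_centralizer A)
    rwa [hA.2.2] at h1
  have hCAN : centralizer (A : Set G) ≤ normalizer (P₀ : Set G) := by
    intro x hx
    -- p-part and p'-part
    obtain ⟨y, hyx, z, hzx, hyz, -, ⟨k, hyk⟩, hz⟩ := H2.Basic.exists_p_decomp p x
    have hy : IsPGroup p (zpowers y) := IsPGroup.of_card (by rw [Nat.card_zpowers]; exact hyk)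
    rw [← hyz]
    refine mul_mem ?_ ?_
    · -- y ∈ A
      have h1 : y ∈ A := by
        exact full_of_isSylIn hASyl y ((zpowers_le.2 hx) hyx) ((zpowers_le.2 hx) hyx) hy
      exact (hPN₀ (le_normalizer (hA.1 h1)))
    · have h1 : zpowers z ≤ centralizer (A : Set G) := (zpowers_le.2 ((zpowers_le.2 hx) hzx))
      have h2 : zpowers z ≤ centralizer (Oq p M₀ : Set G) := by
        have hAM₀ : A ≤ M₀ := (le_centralizer A).trans hCM₀
        refine H1.Coprime.p_times_q p A (zpowers z) (Oq p M₀) hAp (by rw [Nat.card_zpowers]; exact hz) (Oq_isPGroup hp.out M₀)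
          (le_centralizer_iff.1 h1) (hAM₀.trans (le_normalizer_Oq p M₀)) ((h1.trans hCM₀).trans (le_normalizer_Oq p M₀)) ?_
        have hOP : Oq p M₀ ≤ P := by
          have hPM₀ := hPM M₀ hM₀ hCM₀
          have h3 : IsPGroup p ↥(P ⊔ Oq p M₀) :=
            hP.isPGroup.to_sup_of_normal_right' (Oq_isPGroup hp.out M₀) (hPM₀.trans (le_normalizer_Oq p M₀))
          rw [← hP.eq_of_le h3 le_top le_sup_left]
          exact le_sup_right
        refine (inf_le_inf_right _ hOP).trans ?_
        rw [hA.2.2]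
        exact le_centralizer_iff.1 h1
      exact centralizer_le_normalizer _ (((centralizer_le (hP₀M M₀ hM₀ hCM₀)) (h2 (mem_zpowers z))))
  have hCAL : centralizer (A : Set G) ≤ L := hCAN.trans hNL
  -- 𝓜(C_G(A)) = {L}
  have huniq : ∀ M : Subgroup G, IsCoatom M → centralizer (A : Set G) ≤ M → M = L := by
    intro M hM hCM
    have hPM' := hPM M hM hCM
    have hPs : IsSylIn p P M := hP.mono hPM' le_top
    have h1 := frattini_core hPs
    have hAT : A ≤ P ⊓ Opp p M := le_inf hA.1 (le_Opp_of_abelian hG hM.1 hPs hA.1 hAc hA.2.1)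
    have h2 : normalizer ((P ⊓ Opp p M : Subgroup G) : Set G) ≤ L :=
      hstep L hL hCAL _ hAT inf_le_left (inf_le_left.trans (hPM L hL hCAL))
    have h3 : Oc p M ≤ L := by
      refine le_trans ?_ hNL
      refine le_trans ?_ (centralizer_le_normalizer _)
      exact (Oc_le_centralizer_Oq hp.out M).trans (centralizer_le (hP₀M M hM hCM))
    have h4 : M ≤ L := h1.trans (sup_le h3 (inf_le_right.trans h2))
    exact ((hM.le_iff_eq hL.1).1 h4).symm
  obtain ⟨E, hEA, hEe, hEc⟩ := SCN.exists_of_not_pRankLE hAr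
  have hEU : InUniqueMaximal E := by
    refine thm91' hG hL ((hEA.trans (le_centralizer A)).trans hCAL) hEe (lt_of_le_of_lt (Nat.le_self_pow (by norm_num) p) hEc) ?_
    intro b hb hb1
    obtain ⟨M, hM, hCM⟩ := exists_isCoatom_ge (centralizer_singleton_ne_top hG hb1)
    rw [← huniq M hM ((centralizer_le (Set.singleton_subset_iff.2 (hEA hb))).trans hCM)]
    exact hCM
  exact hAU (inU_mono hEU hEA hAt)

/-- BG 9.6: abelian `p`-subgroups of rank at least 3 -/
theorem inU_of_rank_three (hG : IsMinSimpleOddOrder G) {p : ℕ} [hp : Fact p.Prime] {B : Subgroup G}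
    (hBp : IsPGroup p B) (hBe : IsMulCommutative B) (hBr : ¬ PRankLE p 2 B) : InUniqueMaximal B := by
  obtain ⟨P, hBP, hP⟩ := exists_isSylIn_ge hBp (le_top : B ≤ ⊤)
  have hBb : B ≠ ⊥ := by
    rintro rfl
    apply hBr
    rw [SCN.pRankLE_top_iff]
    intro F _
    have : Nat.card F = 1 := Nat.card_unique
    rw [this]
    exact Nat.one_le_pow _ _ hp.out.pos
  have hpG : p ∣ Nat.card G := by
    have := dvd_card_of_le hBp hBb (le_top : B ≤ ⊤)
    rwa [card_top] at this
  have hp2 : p ≠ 2 := prime_ne_two hG hpG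
  have hPr : ¬ PRankLE p 2 P := fun h => hBr (SCN.pRankLE_mono hBP h)
  obtain ⟨A, -, hA, hAc, hAr⟩ := exists_scn_of_rank (E := ⊥) hp2 hP.isPGroup hPr bot_le (H2.Thompson.ea_bot)
    (by intro x _; exact Core.le_normalizer_of_normal ⊤ ⊥ (mem_top x))
  exact thm93 hG (hP.isPGroup.to_le hA.1) hAc hAr (thm95 hG hP hA hAr) hBp (not_isCyclic_of_rank (by norm_num) hBr)
    (fun h => hBr (SCN.pRankLE_mono (le_centralizer B) h))

/-- BG 9.6 (the Uniqueness Theorem) -/
theorem uniqueness (hG : IsMinSimpleOddOrder G) {K : Subgroup G} (hK : K ≠ ⊤) (hK2 : ¬ RankLE 1 K)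
    (hK3 : ¬ RankLE 2 K ∨ ¬ RankLE 2 (centralizer (K : Set G))) : InUniqueMaximal K := by
  have key : ∀ X : Subgroup G, ¬ RankLE 2 X → ∃ B ≤ X, InUniqueMaximal B := by
    intro X hX
    unfold RankLE at hX
    push Not at hX
    obtain ⟨p, hp, hr⟩ := hX
    have : Fact p.Prime := ⟨hp⟩
    obtain ⟨B, hBX, hBe, hBc⟩ := SCN.exists_of_not_pRankLE hr
    exact ⟨B, hBX, inU_of_rank_three hG (SCN.isPGroup_ea hBe) hBe.1 (SCN.not_pRankLE_of le_rfl hBe hBc)⟩
  rcases hK3 with h | h
  · obtain ⟨B, hBK, hBU⟩ := key K h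
    exact inU_mono hBU hBK hK
  · obtain ⟨B, hBK, hBU⟩ := key _ h
    exact thm92 hG hBU (le_centralizer_iff.1 hBK) hK2

end Cfsg.Agent.H12.BG9
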