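import Mathlib
import Cfsg.Agent.H12_BG9e

/-! BG Theorem 10.1 (S1404) -/

set_option autoImplicit false

open Pointwise
open scoped commutatorElement

namespace Cfsg.Agent.H12.BG10

open Cfsg Subgroup H13.Syl H12.Loc H12.Trans H12.BG7 H12.Puig H12.BG9

universe u

variable {G : Type u} [Group G] [Finite G]

theorem pRankLE_of_isSylIn {p k : ℕ} [hp : Fact p.Prime] {S X : Subgroup G} (hS : IsSylIn p S X) (h : PRankLE p k S) :
    PRankLE p k X := by
  obtain ⟨S', hS'⟩ := hS.exists_sylow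
  apply Narrow.pRankLE_of_sylow S'
  rw [hS']
  exact SCN.pRankLE_of_injective (subgroupOfEquivOfLe hS.le).toMonoidHom (subgroupOfEquivOfLe hS.le).injective h

theorem le_Opp_of_index {p : ℕ} [hp : Fact p.Prime] {S X : Subgroup G} (hS : IsSylIn p S X)
    (h : ((pPrimePCore p X).index).Coprime p) : S ≤ Opp p X := by
  have hn : (pPrimePCore p X).Normal := by
    unfold pPrimePCore
    infer_instance
  obtain ⟨S', hS'⟩ := hS.exists_sylow
  apply Core.le_map_of_subgroupOf_le hS.le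
  rw [← hS']
  exact BG6.sylow_le_of_index_coprime h S'.isPGroup'

theorem frattini_rank_two (hG : IsMinSimpleOddOrder G) {p : ℕ} [hp : Fact p.Prime] {S X : Subgroup G} (hX : X ≠ ⊤)
    (hS : IsSylIn p S X) (hpX : p ∣ Nat.card X) (hr : PRankLE p 2 X) : X ≤ Oc p X ⊔ (X ⊓ normalizer (S : Set G)) := by
  have : Group.IsSolvable X := solvable_of_ne_top hG hX
  have h3 := (Rank2.thm418 (odd_card_subgroup hG X) hpX hr).2.2.2.2.2
  have h4 := le_Opp_of_index hS h3
  have h5 := frattini_core hS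
  rwa [inf_eq_left.2 h4] at h5

theorem sigma_spec {M : Subgroup G} {p : ℕ} (hp : p ∈ sigma M) :
    p.Prime ∧ p ∣ Nat.card M ∧ ∃ P : Subgroup G, IsSylIn p P M ∧ IsSylIn p P ⊤ ∧ normalizer (P : Set G) ≤ M := by
  obtain ⟨hpp, hpd, P, hP⟩ := hp
  have : Fact p.Prime := ⟨hpp⟩
  have h1 := isSylIn_map_subtype P
  exact ⟨hpp, hpd, _, h1, isSylIn_top_of_normalizer_le h1 hP, hP⟩

omit [Finite G] in
theorem normalizer_eq_self_of_isCoatom (hG : IsMinSimpleOddOrder G) {M : Subgroup G} (hM : IsCoatom M) (hMb : M ≠ ⊥) :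
    normalizer (M : Set G) = M := by
  have h1 : normalizer (M : Set G) ≠ ⊤ := normalizer_ne_top hG hMb hM.1
  exact (hM.le_iff_eq h1).1 le_normalizer

theorem ne_bot_of_isCoatom (hG : IsMinSimpleOddOrder G) {M : Subgroup G} (hM : IsCoatom M) : M ≠ ⊥ := by
  rintro rfl
  obtain ⟨x, hx⟩ : ∃ x : G, x ≠ 1 := by
    by_contra hcon
    push Not at hcon
    apply not_comm hG
    intro a b
    rw [hcon a, hcon b]
  have h1 : (⊥ : Subgroup G) < zpowers x := by
    rw [bot_lt_iff_ne_bot, Ne, zpowers_eq_bot]; exact hx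
  have h2 := hM.2 _ h1
  exact ne_top_of_solvable hG (inferInstance : Group.IsSolvable (zpowers x)) h2

/-- all Sylow `p`-subgroups of conjugates of `M` -/
theorem sylow_conj {M : Subgroup G} {p : ℕ} [hpf : Fact p.Prime] (hp : p ∈ sigma M) {g : G} {S : Subgroup G}
    (hS : IsSylIn p S (cj g M)) : IsSylIn p S ⊤ ∧ normalizer (S : Set G) ≤ cj g M := by
  obtain ⟨-, -, P, hPM, hPt, hN⟩ := sigma_spec hp
  obtain ⟨x, hx, hxS⟩ := hS.exists_conj_eq (hPM.cj g)
  constructor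
  · rw [← hxS]
    have h1 := (hPt.cj g).cj x
    rwa [cj_top, cj_top] at h1
  · rw [← hxS, ← cj_normalizer, ← cj_normalizer]
    have h1 : cj x (cj g (normalizer (P : Set G))) ≤ cj x (cj g M) := cj_mono (cj_mono hN)
    rwa [cj_eq_of_mem hx] at h1

set_option maxHeartbeats 1000000 in
theorem trans_aux (hG : IsMinSimpleOddOrder G) {M : Subgroup G} (hM : IsCoatom M) {p : ℕ} [hpf : Fact p.Prime] (hp : p ∈ sigma M)
    (n : ℕ) : ∀ X : Subgroup G, IsPGroup p X → X ≠ ⊥ → Nat.card G - Nat.card X < n → ∀ g₁ g₂ : G, X ≤ cj g₁ M → X ≤ cj g₂ M →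
      ∃ c ∈ centralizer (X : Set G), cj g₂ M = cj c (cj g₁ M) := by
  induction n with
  | zero => intro X _ _ h; exact absurd h (Nat.not_lt_zero _)
  | succ n ih =>
    intro X hX hXb hXn g₁ g₂ h1 h2
    have ih' : ∀ Y : Subgroup G, IsPGroup p Y → X < Y → ∀ g₁ g₂ : G, Y ≤ cj g₁ M → Y ≤ cj g₂ M →
        ∃ c ∈ centralizer (Y : Set G), cj g₂ M = cj c (cj g₁ M) := by
      intro Y hY hXY
      apply ih Y hY (fun h => hXb (le_bot_iff.1 (h ▸ hXY.le)))
      have h3 : Nat.card X < Nat.card Y := by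
        by_contra hcon
        exact hXY.ne (H1.Basic.eq_of_le_of_card_ge' hXY.le (not_lt.1 hcon))
      have h4 : Nat.card Y ≤ Nat.card G := card_le_card_group Y
      omega
    set L₁ := cj g₁ M with hL₁
    set L₂ := cj g₂ M with hL₂
    have hL₁c : IsCoatom L₁ := isCoatom_cj hM g₁
    have hL₂c : IsCoatom L₂ := isCoatom_cj hM g₂
    obtain ⟨S₁, hXS₁, hS₁⟩ := exists_isSylIn_ge hX h1
    obtain ⟨S₂, hXS₂, hS₂⟩ := exists_isSylIn_ge hX h2
    have hS₁t := (sylow_conj hp hS₁).1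
    have hS₂t := (sylow_conj hp hS₂).1
    by_cases hXS : X = S₁
    · -- X Sylow
      subst hXS
      have hN := (sylow_conj hp hS₁).2
      have hXL₂ : IsSylIn p X L₂ := hS₁t.mono h2 le_top
      have h3 : IsSylIn p (cj (g₂ * g₁⁻¹) X) L₂ := by
        have := hS₁.cj (g₂ * g₁⁻¹)
        rwa [hL₁, ← cj_mul, inv_mul_cancel_right] at this
      obtain ⟨y, hy, hyX⟩ := hXL₂.exists_conj_eq h3
      have h4 : y * (g₂ * g₁⁻¹) ∈ normalizer (X : Set G) := by
        rw [mem_normalizer_iff_cj, cj_mul]; exact hyX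
      have h5 : cj (y * (g₂ * g₁⁻¹)) L₁ = L₁ := cj_eq_of_mem (hN h4)
      have h6 : cj (y * (g₂ * g₁⁻¹)) L₁ = L₂ := by
        rw [hL₁, ← cj_mul, mul_assoc, inv_mul_cancel_right, cj_mul]
        exact cj_eq_of_mem hy
      exact ⟨1, one_mem _, by rw [cj_one, ← h6, h5]⟩
    · have hlt₁ : X < S₁ := lt_of_le_of_ne hXS₁ hXS
      have hlt₂ : X < S₂ := by
        refine lt_of_le_of_ne hXS₂ ?_
        rintro rfl
        have h3 := hS₂t.card_eq hS₁t
        exact hXS (H1.Basic.eq_of_le_of_card_ge' hXS₁ h3.ge)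
      have hQ₁ := lt_normalizer_of_lt hS₁.isPGroup hlt₁
      have hQ₂ := lt_normalizer_of_lt hS₂.isPGroup hlt₂
      set Q₁ := S₁ ⊓ normalizer (X : Set G) with hQ₁d
      set Q₂ := S₂ ⊓ normalizer (X : Set G) with hQ₂d
      set N := normalizer (X : Set G) with hN
      have hQ₁p : IsPGroup p Q₁ := hS₁.isPGroup.to_le inf_le_left
      have hQ₂p : IsPGroup p Q₂ := hS₂.isPGroup.to_le inf_le_left
      obtain ⟨S, hQS, hS⟩ := exists_isSylIn_ge hQ₁p (inf_le_right : Q₁ ≤ N)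
      obtain ⟨y, hy, hyS⟩ := hS.exists_conj_le hQ₂p (inf_le_right : Q₂ ≤ N)
      -- L₀
      obtain ⟨g₀, hg₀⟩ : ∃ g₀ : G, S ≤ cj g₀ M := by
        obtain ⟨-, -, P, hPM, hPt, -⟩ := sigma_spec hp
        obtain ⟨g, -, hg⟩ := hPt.exists_conj_le hS.isPGroup le_top
        refine ⟨g⁻¹, ?_⟩
        rw [← cj_le_iff]
        exact hg.trans hPM.le
      set L₀ := cj g₀ M with hL₀
      have hL₀c : IsCoatom L₀ := isCoatom_cj hM g₀
      obtain ⟨c₁, hc₁, h01⟩ := ih' Q₁ hQ₁p hQ₁ g₁ g₀ (inf_le_left.trans hS₁.le) (hQS.trans hg₀)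
      have hyX : cj y X = X := cj_eq_of_mem_normalizer hy
      have hlt3 : X < cj y Q₂ := by
        rw [← hyX]
        exact lt_of_le_of_ne (cj_mono hQ₂.le) (fun h => hQ₂.ne (cj_inj h))
      obtain ⟨c₂, hc₂, h02⟩ := ih' (cj y Q₂) (isPGroup_cj hQ₂p) hlt3 g₀ (y * g₂) (hyS.trans hg₀)
        (by rw [cj_mul]; exact cj_mono (inf_le_left.trans hS₂.le))
      rw [cj_mul, ← hL₂, ← hL₀] at h02
      rw [← hL₀, ← hL₁] at h01
      have hc₁X : c₁ ∈ centralizer (X : Set G) := (centralizer_le hQ₁.le) hc₁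
      have hc₂X : c₂ ∈ centralizer (X : Set G) := (centralizer_le hlt3.le) hc₂
      have hCN : centralizer (X : Set G) ≤ N := centralizer_le_normalizer _
      by_cases hNL : N ≤ L₀
      · have h3 : cj y L₂ = L₀ := by rw [h02]; exact cj_eq_of_mem (hNL (hCN hc₂X))
        have h4 : L₂ = L₀ := by
          rw [cj_eq_iff] at h3
          rw [h3]
          exact cj_eq_of_mem (inv_mem (hNL hy))
        have h5 : L₁ = L₀ := by
          have := h01.symm
          rw [cj_eq_iff] at this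
          rw [this]
          exact cj_eq_of_mem (inv_mem (hNL (hCN hc₁X)))
        exact ⟨1, one_mem _, by rw [cj_one, h4, h5]⟩
      · have hNt : N ≠ ⊤ := normalizer_ne_top hG hXb (ne_top_of_isPGroup hG hX)
        have hSt : S ≠ ⊤ := ne_top_of_isPGroup hG hS.isPGroup
        have hSr : PRankLE p 2 S := by
          by_contra hno
          obtain ⟨E, hES, hEe, hEc⟩ := SCN.exists_of_not_pRankLE hno
          have hEU := inU_of_rank_three hG (SCN.isPGroup_ea hEe) hEe.1 (SCN.not_pRankLE_of le_rfl hEe hEc)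
          obtain ⟨M', hM', hEM', h3⟩ := inU_iff.1 hEU
          apply hNL
          rw [h3 L₀ hL₀c (hES.trans hg₀)]
          exact le_of_inU h3 (hES.trans hS.le) hNt
        have hNr : PRankLE p 2 N := pRankLE_of_isSylIn hS hSr
        have hXN : X ≤ N := le_normalizer
        have hfr := frattini_rank_two hG hNt hS (dvd_card_of_le hX hXb hXN) hNr
        have hOX : Oc p N ≤ centralizer (X : Set G) :=
          (Oc_le_centralizer_Oq hpf.out N).trans (centralizer_le (le_Oq hpf.out hXN le_rfl hX))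
        have hy' := hfr hy
        have hnn : N ⊓ normalizer (S : Set G) ≤ normalizer (Oc p N : Set G) := inf_le_left.trans (le_normalizer_Oc p N)
        rw [H22.Basic.mem_sup_of_le_normalizer hnn] at hy'
        obtain ⟨c₃, hc₃, s, ⟨hsN, hsS⟩, hys⟩ := hy'
        have hlt4 : X < S := lt_of_lt_of_le hQ₁ hQS
        have hsS' : s⁻¹ ∈ normalizer (S : Set G) := inv_mem hsS
        obtain ⟨c₄, hc₄, h04⟩ := ih' S hS.isPGroup hlt4 g₀ (s⁻¹ * g₀) hg₀ (by
          have h5 := cj_mono (g := s⁻¹) hg₀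
          rwa [cj_eq_of_mem_normalizer hsS', ← cj_mul] at h5)
        rw [cj_mul, ← hL₀] at h04
        have hc₄X : c₄ ∈ centralizer (X : Set G) := (centralizer_le hlt4.le) hc₄
        have hc₃X : c₃ ∈ centralizer (X : Set G) := hOX hc₃
        set d := c₃⁻¹ * c₂ with hd
        have hdX : d ∈ centralizer (X : Set G) := mul_mem (inv_mem hc₃X) hc₂X
        have hsdX : s⁻¹ * d * s ∈ centralizer (X : Set G) := by
          have h5 := (mem_normalizer_iff.1 (H2.PCons.normalizer_le_normalizer_centralizer X (inv_mem hsN)) d).1 hdX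
          rwa [inv_inv] at h5
        refine ⟨s⁻¹ * d * s * c₄ * c₁, mul_mem (mul_mem hsdX hc₄X) hc₁X, ?_⟩
        have h6 : L₂ = cj y⁻¹ (cj c₂ L₀) := by rw [← cj_eq_iff]; exact h02
        have h7 : cj (s⁻¹ * d * s * c₄ * c₁) L₁ = cj (s⁻¹ * d * s) (cj c₄ (cj c₁ L₁)) := by
          rw [cj_mul, cj_mul]
        have e1 : y⁻¹ * c₂ = s⁻¹ * d * s * s⁻¹ := by rw [← hys, hd]; group
        rw [h7, ← h01, ← h04, h6, ← cj_mul y⁻¹, ← cj_mul (s⁻¹ * d * s), e1]

/-- BG 10.1 -/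
theorem thm101 (hG : IsMinSimpleOddOrder G) {M : Subgroup G} (hM : IsCoatom M) {p : ℕ} [hpf : Fact p.Prime] (hp : p ∈ sigma M)
    {X : Subgroup G} (hX : IsPGroup p X) (hXb : X ≠ ⊥) (hXM : X ≤ M) :
    (∀ g : G, cj g X ≤ M → ∃ m ∈ M, ∃ c ∈ centralizer (X : Set G), g = m * c) ∧
      normalizer (X : Set G) = (M ⊓ normalizer (X : Set G)) ⊔ centralizer (X : Set G) := by
  have h1 : ∀ g : G, cj g X ≤ M → ∃ m ∈ M, ∃ c ∈ centralizer (X : Set G), g = m * c := by
    intro g hg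
    obtain ⟨c, hc, h2⟩ := trans_aux hG hM hp _ X hX hXb (Nat.lt_succ_self _) 1 g⁻¹ (by rw [cj_one]; exact hXM) (cj_le_iff.1 hg)
    rw [cj_one] at h2
    refine ⟨g * c, ?_, c⁻¹, inv_mem hc, by group⟩
    rw [← normalizer_eq_self_of_isCoatom hG hM (ne_bot_of_isCoatom hG hM), mem_normalizer_iff_cj, cj_mul, ← h2, cj_cj_inv]
  refine ⟨h1, le_antisymm ?_ (sup_le inf_le_right (centralizer_le_normalizer _))⟩
  intro g hg
  obtain ⟨m, hm, c, hc, rfl⟩ := h1 g (by rw [cj_eq_of_mem_normalizer hg]; exact hXM)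
  refine mul_mem (mem_sup_left ⟨hm, ?_⟩) (mem_sup_right hc)
  show m ∈ normalizer (X : Set G)
  have h2 : m = m * c * c⁻¹ := by group
  rw [h2]
  exact mul_mem hg (inv_mem (centralizer_le_normalizer _ hc))

end Cfsg.Agent.H12.BG10
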