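import Mathlib
import Cfsg.Agent.H12_BG10a
import Cfsg.Agent.H2_Fusion2

/-! BG Theorem 10.2 -/

set_option autoImplicit false

open Pointwise
open scoped commutatorElement

namespace Cfsg.Agent.H12.BG10

open Cfsg Subgroup H13.Syl H12.Loc H12.Trans H12.BG7 H12.Puig H12.BG9

universe u

variable {G : Type u} [Group G] [Finite G]

/-- the Sylow `p`-subgroups of `M` for `p ∈ σ(M)` lie in `M'` -/
theorem sylow_le_commutator (hG : IsMinSimpleOddOrder G) {M : Subgroup G} (hM : IsCoatom M) {p : ℕ} (hp : p ∈ sigma M)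
    {P : Subgroup G} (hP : IsSylIn p P M) : P ≤ ⁅M, M⁆ := by
  have : Fact p.Prime := ⟨hp.1⟩
  have hPt : IsSylIn p P ⊤ := by
    have h1 : IsSylIn p P (cj 1 M) := by rw [cj_one]; exact hP
    exact (sylow_conj hp h1).1
  obtain ⟨S, rfl⟩ := hPt.exists_sylow_top
  have h1 := H2.Fusion2.inf_commutator_eq_of_control S M hP.le (by
    intro x hx g hg
    by_cases hx1 : x = 1
    · exact ⟨1, one_mem M, by rw [hx1]; group⟩
    · have h2 : IsPGroup p (zpowers x) := S.isPGroup'.to_le (zpowers_le.2 hx)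
      obtain ⟨m, hm, c, hc, hmc⟩ := (thm101 hG hM hp h2 (by rw [Ne, zpowers_eq_bot]; exact hx1)
        (zpowers_le.2 (hP.le hx))).1 g (by
          have : cj g (zpowers x) = zpowers (g * x * g⁻¹) := by
            show (zpowers x).map _ = _
            rw [MonoidHom.map_zpowers]
            rfl
          rw [this, zpowers_le]
          exact hP.le hg)
      refine ⟨m, hm, ?_⟩
      have h3 : c * x = x * c := (mem_centralizer_iff.1 hc x (mem_zpowers x)).symm
      rw [hmc]
      calc m * x * m⁻¹ = m * (x * c) * c⁻¹ * m⁻¹ := by group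
        _ = m * (c * x) * c⁻¹ * m⁻¹ := by rw [h3]
        _ = m * c * x * (m * c)⁻¹ := by group)
  have h2 : commutator G = ⊤ := by
    rcases eq_bot_or_top hG (inferInstance : (commutator G).Normal) with h | h
    · exfalso
      apply not_comm hG
      intro a b
      have h3 : ⁅a, b⁆ ∈ commutator G := by
        rw [_root_.commutator_def]
        exact commutator_mem_commutator (mem_top a) (mem_top b)
      rw [h, mem_bot] at h3
      exact commutatorElement_eq_one_iff_mul_comm.1 h3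
    · exact h
  rw [h2, top_inf_eq] at h1
  rw [h1]
  exact inf_le_left

theorem normalizer_le_of_rank (hG : IsMinSimpleOddOrder G) {M : Subgroup G} (hM : IsCoatom M) {p : ℕ} [hpf : Fact p.Prime]
    {P : Subgroup G} (hP : IsPGroup p P) (hPM : P ≤ M) (hr : ¬ PRankLE p 2 P) :
    normalizer (P : Set G) ≤ M ∧ ∀ H : Subgroup G, IsCoatom H → P ≤ H → H = M := by
  obtain ⟨E, hEP, hEe, hEc⟩ := SCN.exists_of_not_pRankLE hr
  have hEU := inU_of_rank_three hG (SCN.isPGroup_ea hEe) hEe.1 (SCN.not_pRankLE_of le_rfl hEe hEc)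
  obtain ⟨M', hM', hEM', h3⟩ := inU_iff.1 hEU
  have h4 : M = M' := h3 M hM (hEP.trans hPM)
  subst h4
  have hPb : P ≠ ⊥ := by
    rintro rfl
    rw [le_bot_iff.1 hEP, card_bot] at hEc
    exact absurd hEc (not_lt.2 (Nat.one_le_pow _ _ hpf.out.pos))
  exact ⟨le_of_inU h3 (hEP.trans le_normalizer) (normalizer_ne_top hG hPb (ne_top_of_isPGroup hG hP)),
    fun H hH hPH => h3 H hH (hEP.trans hPH)⟩

theorem dvd_of_not_pRankLE {p k : ℕ} (hp : p.Prime) {X : Subgroup G} (h : ¬ PRankLE p k X) : p ∣ Nat.card X := by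
  have : Fact p.Prime := ⟨hp⟩
  obtain ⟨E, hEX, hEe, hEc⟩ := SCN.exists_of_not_pRankLE h
  refine dvd_card_of_le (SCN.isPGroup_ea hEe) ?_ hEX
  rintro rfl
  rw [card_bot] at hEc
  exact absurd hEc (not_lt.2 (Nat.one_le_pow _ _ hp.pos))

theorem sigma_of_normalizer {M P : Subgroup G} {p : ℕ} (hp : p.Prime) (hd : p ∣ Nat.card M) (hP : IsSylIn p P M)
    (hN : normalizer (P : Set G) ≤ M) : p ∈ sigma M := by
  have : Fact p.Prime := ⟨hp⟩
  obtain ⟨S, hS⟩ := hP.exists_sylow
  refine ⟨hp, hd, S, ?_⟩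
  rw [hS, subgroupOf_map_subtype, inf_eq_left.2 hP.le]
  exact hN

theorem alpha_subset_sigma (hG : IsMinSimpleOddOrder G) {M : Subgroup G} (hM : IsCoatom M) : alpha M ⊆ sigma M := by
  rintro p ⟨hp, hr⟩
  have : Fact p.Prime := ⟨hp⟩
  obtain ⟨P, hP⟩ := exists_isSylIn (p := p) M
  exact sigma_of_normalizer hp (dvd_of_not_pRankLE hp hr) hP
    (normalizer_le_of_rank hG hM hP.isPGroup hP.le (fun h => hr (pRankLE_of_isSylIn hP h))).1

section quot
variable (M : Subgroup G)

theorem not_dvd_piCore {π : Set ℕ} {q : ℕ} (hq : q.Prime) (h : q ∉ π) : ¬ q ∣ Nat.card (piCore π M) := fun hd =>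
  h (Core.piCore_piNum π q hq hd)

theorem isSolvable_quot (hG : IsMinSimpleOddOrder G) {M : Subgroup G} (hM : IsCoatom M) (N : Subgroup M) [N.Normal] :
    Group.IsSolvable (M ⧸ N) := by
  have : Group.IsSolvable M := solvable_of_ne_top hG hM.1
  exact Group.isSolvable_of_surjective (QuotientGroup.mk'_surjective N)

end quot

theorem pCore_quot_eq_bot {X : Type u} [Group X] [Finite X] {π : Set ℕ} {q : ℕ} (hq : q.Prime) (h : q ∈ π) :
    pCore q (X ⧸ piCore π X) = ⊥ := by
  have : Fact q.Prime := ⟨hq⟩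
  rw [eq_bot_iff, ← BG8.piCore_quotient_eq_bot (X := X) π]
  apply Core.le_piCore inferInstance
  intro s hs hsd
  have h1 := (Core.isPGroup_iff_piNum hq).1 (H1.Nilp.pCore_isPGroup (G := X ⧸ piCore π X) q) s hs hsd
  rw [Set.mem_singleton_iff] at h1
  rw [h1]; exact h

theorem commutator_quot_le_fitting (hG : IsMinSimpleOddOrder G) {M : Subgroup G} (hM : IsCoatom M) :
    commutator (M ⧸ piCore (alpha M) M) ≤ fittingSubgroup (M ⧸ piCore (alpha M) M) := by
  have := isSolvable_quot hG hM (piCore (alpha M) M)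
  refine Rank2.commutator_le_fitting ((odd_card_subgroup hG M).of_dvd_nat (card_quotient_dvd_card _)) ?_
  intro q hq
  by_cases hqa : q ∈ alpha M
  · rw [pCore_quot_eq_bot hq hqa, SCN.pRankLE_top_iff]
    intro F _
    have : Nat.card F = 1 := Nat.card_unique
    rw [this]
    exact Nat.one_le_pow _ _ hq.pos
  · have : Fact q.Prime := ⟨hq⟩
    have h1 : PRankLE q 2 M := by
      by_contra hno
      exact hqa ⟨hq, hno⟩
    exact SCN.pRankLE_of_top (Fit.pRankLE_quotient h1 _ (not_dvd_piCore M hq hqa))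

theorem map_commutator_quot {X : Type u} [Group X] (N : Subgroup X) [N.Normal] :
    (commutator X).map (QuotientGroup.mk' N) = commutator (X ⧸ N) := by
  rw [_root_.commutator_def, _root_.commutator_def, map_commutator, ← MonoidHom.range_eq_map,
    MonoidHom.range_eq_top.2 (QuotientGroup.mk'_surjective N)]

omit [Finite G] in
theorem map_commutator_subtype (M : Subgroup G) : (commutator M).map M.subtype = ⁅M, M⁆ := by
  rw [_root_.commutator_def, map_commutator, ← MonoidHom.range_eq_map, range_subtype]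

/-- Sylow `p`-subgroups of `M`, `p ∈ σ(M)`, map into `O_p(M/M_α)` -/
theorem sylow_le_comap (hG : IsMinSimpleOddOrder G) {M : Subgroup G} (hM : IsCoatom M) {p : ℕ} (hp : p ∈ sigma M)
    {P : Subgroup G} (hP : IsSylIn p P M) :
    P.subgroupOf M ≤ (pCore p (M ⧸ piCore (alpha M) M)).comap (QuotientGroup.mk' (piCore (alpha M) M)) := by
  have : Fact p.Prime := ⟨hp.1⟩
  intro x hx
  have h1 := sylow_le_commutator hG hM hp hP hx
  rw [← map_commutator_subtype] at h1
  obtain ⟨y, hy, hyx⟩ := h1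
  have hyx' : y = x := Subtype.ext hyx
  subst hyx'
  apply H12.Rank2.mem_pCore_of_mem_fitting
  · apply commutator_quot_le_fitting hG hM
    rw [← map_commutator_quot]
    exact ⟨y, hy, rfl⟩
  · obtain ⟨n, hn⟩ := hP.isPGroup ⟨(y : G), hx⟩
    refine ⟨n, ?_⟩
    have hn' : (y : G) ^ (p ^ n) = 1 := congrArg Subtype.val hn
    have h2 : y ^ (p ^ n) = 1 := Subtype.ext hn'
    rw [← map_pow, h2, map_one]

/-- Sylow `p`-subgroups of `M` for `p ∈ α(M)` lie in `M_α` -/
theorem sylow_le_alphaCore (hG : IsMinSimpleOddOrder G) {M : Subgroup G} (hM : IsCoatom M) {p : ℕ} (hp : p ∈ alpha M)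
    {P : Subgroup G} (hP : IsSylIn p P M) : P ≤ alphaCore M := by
  have h1 := sylow_le_comap hG hM (alpha_subset_sigma hG hM hp) hP
  rw [pCore_quot_eq_bot hp.1 hp, MonoidHom.comap_bot, QuotientGroup.ker_mk'] at h1
  exact Core.le_map_of_subgroupOf_le hP.le h1

/-- Sylow `p`-subgroups of `M` for `p ∈ σ(M)` lie in `M_σ` -/
theorem sylow_le_sigmaCore (hG : IsMinSimpleOddOrder G) {M : Subgroup G} (hM : IsCoatom M) {p : ℕ} (hp : p ∈ sigma M)
    {P : Subgroup G} (hP : IsSylIn p P M) : P ≤ sigmaCore M := by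
  have : Fact p.Prime := ⟨hp.1⟩
  have h1 := sylow_le_comap hG hM hp hP
  apply Core.le_map_of_subgroupOf_le hP.le
  refine h1.trans (Core.le_piCore inferInstance ?_)
  rw [H11.Cores.card_comap_of_surjective _ (QuotientGroup.mk'_surjective _), QuotientGroup.ker_mk']
  refine ((Core.piCore_piNum (alpha M)).mono (alpha_subset_sigma hG hM)).mul ?_
  have h2 := (Core.isPGroup_iff_piNum hp.1).1 (H1.Nilp.pCore_isPGroup (G := M ⧸ piCore (alpha M) M) p)
  exact h2.mono (Set.singleton_subset_iff.2 hp)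

/-- Hall criterion -/
theorem isPiHallOf_of_sylow {π : Set ℕ} {M : Subgroup G}
    (h : ∀ p : ℕ, p ∈ π → p.Prime → ∀ P : Subgroup G, IsSylIn p P M → P ≤ piCoreOf π M) :
    IsPiHallOf π (piCoreOf π M) M := by
  refine ⟨Core.piCoreOf_le _ _, Core.piCoreOf_piNum π M, ?_⟩
  intro p hp hpπ hd
  have : Fact p.Prime := ⟨hp⟩
  obtain ⟨P, hP⟩ := exists_isSylIn (p := p) M
  exact hP.not_dvd (hd.trans (relIndex_dvd_of_le_left _ (h p hpπ hp P hP)))

theorem isPiHall_of_sylow {π : Set ℕ} {K : Subgroup G} (h1 : ∀ p : ℕ, p.Prime → p ∣ Nat.card K → p ∈ π)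
    (h : ∀ p : ℕ, p ∈ π → p.Prime → ∃ P : Subgroup G, IsSylIn p P ⊤ ∧ P ≤ K) : IsPiHall π K := by
  refine ⟨h1, ?_⟩
  intro p hp hpπ hd
  obtain ⟨P, hP, hPK⟩ := h p hpπ hp
  have h2 := hP.not_dvd
  rw [relIndex_top_right] at h2
  exact h2 (hd.trans (index_dvd_of_le hPK))

theorem sigma_sylow (hG : IsMinSimpleOddOrder G) {M : Subgroup G} (hM : IsCoatom M) {p : ℕ} (hp : p ∈ sigma M) :
    ∃ P : Subgroup G, IsSylIn p P M ∧ IsSylIn p P ⊤ ∧ normalizer (P : Set G) ≤ M ∧ P ≤ sigmaCore M := by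
  obtain ⟨hpp, hpd, P, h1, h2, h3⟩ := sigma_spec hp
  exact ⟨P, h1, h2, h3, sylow_le_sigmaCore hG hM hp h1⟩

theorem sigmaCore_hallOf (hG : IsMinSimpleOddOrder G) {M : Subgroup G} (hM : IsCoatom M) :
    IsPiHallOf (sigma M) (sigmaCore M) M :=
  isPiHallOf_of_sylow fun _ hp _ _ hP => sylow_le_sigmaCore hG hM hp hP

theorem sigmaCore_hall (hG : IsMinSimpleOddOrder G) {M : Subgroup G} (hM : IsCoatom M) :
    IsPiHall (sigma M) (sigmaCore M) :=
  isPiHall_of_sylow (Core.piCoreOf_piNum _ _) fun p hp _ => by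
    obtain ⟨P, -, h2, -, h4⟩ := sigma_sylow hG hM hp
    exact ⟨P, h2, h4⟩

theorem alphaCore_hallOf (hG : IsMinSimpleOddOrder G) {M : Subgroup G} (hM : IsCoatom M) :
    IsPiHallOf (alpha M) (alphaCore M) M :=
  isPiHallOf_of_sylow fun _ hp _ _ hP => sylow_le_alphaCore hG hM hp hP

theorem alphaCore_hall (hG : IsMinSimpleOddOrder G) {M : Subgroup G} (hM : IsCoatom M) :
    IsPiHall (alpha M) (alphaCore M) :=
  isPiHall_of_sylow (Core.piCoreOf_piNum _ _) fun p hp _ => by
    obtain ⟨P, h1, h2, -, -⟩ := sigma_sylow hG hM (alpha_subset_sigma hG hM hp)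
    exact ⟨P, h2, sylow_le_alphaCore hG hM hp h1⟩

theorem alphaCore_le_sigmaCore (hG : IsMinSimpleOddOrder G) {M : Subgroup G} (hM : IsCoatom M) :
    alphaCore M ≤ sigmaCore M := Core.piCoreOf_mono_pi (alpha_subset_sigma hG hM) M

theorem rank_quot_alpha {M : Subgroup G} (hG : IsMinSimpleOddOrder G) (hM : IsCoatom M) : RankLE 2 (M ⧸ piCore (alpha M) M) := by
  intro q hq
  have : Fact q.Prime := ⟨hq⟩
  by_cases hqa : q ∈ alpha M
  · -- `M/M_α` is a `q'`-group
    have h1 := (alphaCore_hallOf hG hM).2.2 q hq hqa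
    have h2 : (alphaCore M).relIndex M = (piCore (alpha M) M).index := Core.relIndex_map_subtype_self _
    rw [h2, index_eq_card] at h1
    rw [SCN.pRankLE_top_iff]
    intro F hF
    by_cases hFb : F = ⊥
    · rw [hFb, card_bot]; exact Nat.one_le_pow _ _ hq.pos
    · exfalso
      apply h1
      have := dvd_card_of_le (SCN.isPGroup_ea hF) hFb (le_top : F ≤ ⊤)
      rwa [card_top] at this
  · have h1 : PRankLE q 2 M := by
      by_contra hno
      exact hqa ⟨hq, hno⟩
    exact Fit.pRankLE_quotient h1 _ (not_dvd_piCore M hq hqa)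

theorem nilpotent_quot_alpha {M : Subgroup G} (hG : IsMinSimpleOddOrder G) (hM : IsCoatom M) :
    Group.IsNilpotent ↥((commutator M).map (QuotientGroup.mk' (piCore (alpha M) M))) := by
  rw [map_commutator_quot]
  exact H12.CN.nilpotent_of_le (commutator_quot_le_fitting hG hM) H1.Nilp.fitting_nilpotent

/-- a normal Hall `π`-subgroup is `O_π(M)` -/
theorem eq_piCoreOf_of_hall {π : Set ℕ} {M N : Subgroup G} (h1 : M ≤ normalizer (N : Set G)) (h2 : IsPiHallOf π N M)
    (h3 : IsPiHallOf π (piCoreOf π M) M) : N = piCoreOf π M := by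
  have h4 : N ≤ piCoreOf π M := Core.le_piCoreOf h2.1 h1 h2.2.1
  refine le_antisymm h4 ?_
  rw [← relIndex_eq_one]
  by_contra hne
  obtain ⟨q, hq, hqd⟩ := Nat.exists_prime_and_dvd hne
  have h5 : q ∈ π := h3.2.1 q hq (hqd.trans (relIndex_dvd_card _ _))
  refine h2.2.2 q hq h5 (hqd.trans ?_)
  exact Dvd.intro _ (relIndex_mul_relIndex N (piCoreOf π M) M h4 (Core.piCoreOf_le _ _))

end Cfsg.Agent.H12.BG10
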