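import Mathlib
import Cfsg.Agent.H12_BG10b

/-! BG 10.3 - 10.5 -/

set_option autoImplicit false

open Pointwise
open scoped commutatorElement

namespace Cfsg.Agent.H12.BG10

open Cfsg Subgroup H13.Syl H12.Loc H12.Trans H12.BG7 H12.Puig H12.BG9

universe u

variable {G : Type u} [Group G] [Finite G]

theorem exists_ne_one {H : Subgroup G} (h : H ≠ ⊥) : ∃ x ∈ H, x ≠ 1 := by
  have h1 : Nontrivial H := (nontrivial_iff_ne_bot H).2 h
  obtain ⟨x, hx⟩ := exists_ne (1 : H)
  exact ⟨x, x.2, fun h2 => hx (Subtype.ext h2)⟩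

theorem inf_centralizer_ne_bot {p : ℕ} [hp : Fact p.Prime] {P D : Subgroup G} (hP : IsPGroup p P) (hDP : D ≤ P)
    (hPD : P ≤ normalizer (D : Set G)) (hD : D ≠ ⊥) : D ⊓ centralizer (P : Set G) ≠ ⊥ := by
  have hn : (D.subgroupOf P).Normal := Core.normal_subgroupOf_of_le hPD
  have h1 : D.subgroupOf P ≠ ⊥ := by
    intro h0
    apply hD
    rw [subgroupOf_eq_bot] at h0
    rw [disjoint_iff, inf_eq_left.2 hDP] at h0
    exact h0
  have h2 := H2.PGroup.inf_center_ne_bot hP h1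
  obtain ⟨x, hx, hx1⟩ := exists_ne_one h2
  intro h0
  have h3 : (x : G) ∈ D ⊓ centralizer (P : Set G) := by
    refine ⟨hx.1, ?_⟩
    show (x : G) ∈ centralizer (P : Set G)
    rw [mem_centralizer_iff]
    intro y hy
    exact congrArg Subtype.val (mem_center_iff.1 hx.2 ⟨y, hy⟩)
  rw [h0, mem_bot] at h3
  exact hx1 (Subtype.ext h3)

theorem coprime_of_forall {m n : ℕ} (h : ∀ q : ℕ, q.Prime → q ∣ m → ¬ q ∣ n) : m.Coprime n :=
  Nat.Coprime.symm (Nat.coprime_of_dvd fun q hq h1 h2 => h q hq h2 h1)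

theorem inU_of_not_pRankLE (hG : IsMinSimpleOddOrder G) {p : ℕ} [hp : Fact p.Prime] {X : Subgroup G} (hX : X ≠ ⊤)
    (h : ¬ PRankLE p 2 X) : InUniqueMaximal X := by
  obtain ⟨E, hEX, hEe, hEc⟩ := SCN.exists_of_not_pRankLE h
  exact inU_mono (inU_of_rank_three hG (SCN.isPGroup_ea hEe) hEe.1 (SCN.not_pRankLE_of le_rfl hEe hEc)) hEX hX

/-- BG 10.3 -/
theorem thm103 (hG : IsMinSimpleOddOrder G) {M : Subgroup G} (hM : IsCoatom M) {X : Subgroup G} (hXM : X ≤ M)
    (hXα : ∀ p : ℕ, p.Prime → p ∣ Nat.card X → p ∉ alpha M)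
    (hr : ¬ RankLE 1 ↥(alphaCore M ⊓ centralizer (X : Set G))) : InUniqueMaximal (M ⊓ centralizer (X : Set G)) := by
  obtain ⟨p, hp, B, hBC, hBc, hBp, hBcard⟩ := exists_elementary hr
  have : Fact p.Prime := ⟨hp⟩
  rw [pow_one] at hBcard
  have hBe : IsElementaryAbelian p B := ⟨⟨⟨fun a b => Subtype.ext (hBc a a.2 b b.2)⟩⟩, hBp⟩
  have hBP : IsPGroup p B := SCN.isPGroup_ea hBe
  have hBb : B ≠ ⊥ := by
    rintro rfl
    rw [card_bot] at hBcard
    exact absurd hBcard (not_lt.2 hp.one_lt.le)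
  have hBα : B ≤ alphaCore M := hBC.trans inf_le_left
  have hBX : B ≤ centralizer (X : Set G) := hBC.trans inf_le_right
  have hαM : alphaCore M ≤ M := Core.piCoreOf_le _ _
  have hpα : p ∈ alpha M := Core.piCoreOf_piNum (alpha M) M p hp (dvd_card_of_le hBP hBb hBα)
  have hMt : M ≠ ⊤ := hM.1
  have hCt : M ⊓ centralizer (X : Set G) ≠ ⊤ := fun h => hMt (top_le_iff.1 (h ▸ inf_le_left))
  have hp2 : p ≠ 2 := by
    apply prime_ne_two hG
    have := dvd_card_of_le hBP hBb (le_top : B ≤ ⊤)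
    rwa [card_top] at this
  have hcop : (Nat.card X).Coprime (Nat.card (alphaCore M)) := coprime_of_forall fun q hq h1 h2 =>
    hXα q hq h1 (Core.piCoreOf_piNum (alpha M) M q hq h2)
  have hXn : X ≤ normalizer (alphaCore M : Set G) := hXM.trans (Core.le_normalizer_piCoreOf _ _)
  have hαs : Group.IsSolvable (alphaCore M) := BG1.isSolvable_of_le hαM (solvable_of_ne_top hG hMt)
  obtain ⟨S, hBS, hXS⟩ := H1.Coprime.invariant_psubgroup_le X (alphaCore M) hXn hcop (Or.inr hαs) p B hBα hBP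
    ((le_centralizer_iff.1 hBX).trans (centralizer_le_normalizer _))
  set P := (S : Subgroup (alphaCore M)).map (alphaCore M).subtype with hPdef
  have hPs : IsSylIn p P (alphaCore M) := isSylIn_map_subtype S
  have hPr : ¬ PRankLE p 2 P := by
    intro h
    -- Sylow of alphaCore is Sylow of M
    obtain ⟨P', hP'⟩ := exists_isSylIn (p := p) M
    have h1 : IsSylIn p P' (alphaCore M) := hP'.mono (sylow_le_alphaCore hG hM hpα hP') hαM
    have h2 : PRankLE p 2 (alphaCore M) := pRankLE_of_isSylIn hPs h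
    exact hpα.2 (pRankLE_of_isSylIn hP' (SCN.pRankLE_mono h1.le h2))
  by_cases hCB : PRankLE p 2 (centralizer (B : Set G))
  · have hfix : X ≤ centralizer (P : Set G) := by
      refine BG1.coprime_trivial_of_order_p p hp2 P B X hPs.isPGroup hBS hBe hXS ?_ ?_
      · refine Nat.Coprime.coprime_dvd_right ?_ hcop
        exact dvd_card_of_le hBP hBb hBα
      · rintro y ⟨hyP, hyC⟩ hyo
        have hyC' : y ∈ centralizer (B : Set G) := hyC
        have hyp : y ^ p = 1 := by rw [← hyo]; exact pow_orderOf_eq_one y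
        have hBC' : B ≤ centralizer (B : Set G) := (have := hBe.1; le_centralizer B)
        have h1 : IsElementaryAbelian p (B ⊔ zpowers y : Subgroup G) :=
          Narrow.ea_sup (le_centralizer_iff.1 (zpowers_le.2 hyC')) hBe (Narrow.ea_zpowers hyp)
        have h2 := SCN.pRankLE_iff.1 hCB _ (sup_le hBC' (zpowers_le.2 hyC')) h1
        have h3 : p ^ 2 ≤ Nat.card B := SCN.exists_pow_lt (k := 1) hBe (by rwa [pow_one])
        have h4 : B = B ⊔ zpowers y := H1.Basic.eq_of_le_of_card_ge' le_sup_left (h2.trans h3)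
        have h5 : y ∈ B := by rw [h4]; exact mem_sup_right (mem_zpowers y)
        exact (le_centralizer_iff.1 hBX).trans (centralizer_le (Set.singleton_subset_iff.2 h5))
    apply inU_of_not_pRankLE hG hCt (p := p)
    intro h
    exact hPr (SCN.pRankLE_mono (le_inf (hPs.le.trans hαM) (le_centralizer_iff.1 hfix)) h)
  · have hBU : InUniqueMaximal B := uniqueness hG (ne_top_of_isPGroup hG hBP) (not_rankLE_one_of hp le_rfl hBe hBcard)
      (Or.inr (fun h => hCB (h p hp)))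
    exact inU_mono hBU (le_inf (hBα.trans hαM) hBX) hCt

/-- `Ω₁(Z(P))` -/
def OZ (p : ℕ) (P : Subgroup G) : Subgroup G where
  carrier := {x | x ∈ P ∧ x ∈ centralizer (P : Set G) ∧ x ^ p = 1}
  one_mem' := ⟨one_mem _, one_mem _, one_pow _⟩
  mul_mem' := by
    rintro a b ⟨ha1, ha2, ha3⟩ ⟨hb1, hb2, hb3⟩
    exact ⟨mul_mem ha1 hb1, mul_mem ha2 hb2, Narrow.mul_pow_of_commute (mem_centralizer_iff.1 hb2 a ha1) ha3 hb3⟩
  inv_mem' := by
    rintro a ⟨ha1, ha2, ha3⟩
    exact ⟨inv_mem ha1, inv_mem ha2, by rw [inv_pow, ha3, inv_one]⟩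

omit [Finite G] in
theorem mem_OZ {p : ℕ} {P : Subgroup G} {x : G} : x ∈ OZ p P ↔ x ∈ P ∧ x ∈ centralizer (P : Set G) ∧ x ^ p = 1 := Iff.rfl

omit [Finite G] in
theorem OZ_le (p : ℕ) (P : Subgroup G) : OZ p P ≤ P := fun _ h => h.1

omit [Finite G] in
theorem OZ_ea (p : ℕ) (P : Subgroup G) : IsElementaryAbelian p (OZ p P) :=
  ⟨⟨⟨fun a b => Subtype.ext (mem_centralizer_iff.1 b.2.2.1 a a.2.1)⟩⟩, fun _ h => h.2.2⟩

omit [Finite G] in
theorem normalizer_le_OZ (p : ℕ) (P : Subgroup G) : normalizer (P : Set G) ≤ normalizer (OZ p P : Set G) := by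
  intro g hg
  have hgC := H2.PCons.normalizer_le_normalizer_centralizer P hg
  rw [mem_normalizer_iff]
  intro x
  rw [mem_OZ, mem_OZ, ← mem_normalizer_iff.1 hg x, ← mem_normalizer_iff.1 hgC x, conj_pow]
  constructor
  · rintro ⟨h1, h2, h3⟩
    exact ⟨h1, h2, by rw [h3]; group⟩
  · rintro ⟨h1, h2, h3⟩
    refine ⟨h1, h2, ?_⟩
    have : x ^ p = g⁻¹ * (g * x ^ p * g⁻¹) * g := by group
    rw [this, h3]; group

theorem OZ_ne_bot {p : ℕ} [hp : Fact p.Prime] {P : Subgroup G} (hP : IsPGroup p P) (hne : P ≠ ⊥) : OZ p P ≠ ⊥ := by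
  have h1 : Nontrivial P := (nontrivial_iff_ne_bot P).2 hne
  obtain ⟨z, hz, hzp, hz1⟩ := Narrow.exists_center_ne_one (p := p) hP
  intro h0
  have h2 : (z : G) ∈ OZ p P := by
    refine ⟨z.2, ?_, ?_⟩
    · rw [mem_centralizer_iff]
      intro y hy
      exact congrArg Subtype.val (mem_center_iff.1 hz ⟨y, hy⟩)
    · exact_mod_cast congrArg Subtype.val hzp
  rw [h0, mem_bot] at h2
  exact hz1 (Subtype.ext h2)

theorem isZGroup_of_rankLE_one (hG : IsMinSimpleOddOrder G) {X : Subgroup G} (h : RankLE 1 X) : IsZGroup X := by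
  refine ⟨fun q hq S => ?_⟩
  have : Fact q.Prime := ⟨hq⟩
  by_contra hnc
  have h2 : q ≠ 2 := by
    rintro rfl
    by_cases hd : 2 ∣ Nat.card X
    · exact prime_ne_two hG (hd.trans (card_subgroup_dvd_card X)) rfl
    · apply hnc
      have h3 := S.card_eq_multiplicity
      rw [Nat.factorization_eq_zero_of_not_dvd hd, pow_zero] at h3
      have : Subsingleton (S : Subgroup X) := (Nat.card_eq_one_iff_unique.1 h3).1
      exact isCyclic_of_subsingleton
  obtain ⟨D, hD, -, hDe, hDc⟩ := exists_normal_sq (G := X) h2 S.isPGroup' hnc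
  have h3 := SCN.pRankLE_top_iff.1 (h q hq) D hDe
  rw [hDc] at h3
  have := hq.one_lt
  nlinarith [Nat.pow_lt_pow_right hq.one_lt (show 1 < 2 by norm_num)]

/-- BG 10.4 -/
theorem thm104 (hG : IsMinSimpleOddOrder G) {M : Subgroup G} (hM : IsCoatom M) {p : ℕ} [hpf : Fact p.Prime]
    (hpM : p ∣ Nat.card M) (hp : p ∉ sigma M) {P : Subgroup G} (hP : IsSylIn p P M) :
    ∃ x : G, x ∈ P ∧ x ∈ centralizer (P : Set G) ∧ orderOf x = p ∧ RankLE 1 ↥(alphaCore M ⊓ centralizer ({x} : Set G)) ∧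
      ¬ (centralizer ({x} : Set G) ≤ M ∧ ∀ L : Subgroup G, IsCoatom L → centralizer ({x} : Set G) ≤ L → L = M) := by
  have hPb : P ≠ ⊥ := by
    rintro rfl
    have := hP.not_dvd
    rw [relIndex_bot_left] at this
    exact this hpM
  have hNP : ¬ normalizer (P : Set G) ≤ M := fun h => hp (sigma_of_normalizer hpf.out hpM hP h)
  set Z := OZ p P with hZ
  have hZe := OZ_ea p P
  have hZb : Z ≠ ⊥ := OZ_ne_bot hP.isPGroup hPb
  have hZM : Z ≤ M := (OZ_le p P).trans hP.le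
  have hZp : IsPGroup p Z := SCN.isPGroup_ea hZe
  have hZt : normalizer (Z : Set G) ≠ ⊤ := normalizer_ne_top hG hZb (ne_top_of_isPGroup hG hZp)
  have key : ∃ x ∈ Z, x ≠ 1 ∧ ¬ (centralizer ({x} : Set G) ≤ M ∧
      ∀ L : Subgroup G, IsCoatom L → centralizer ({x} : Set G) ≤ L → L = M) := by
    by_contra hcon
    push Not at hcon
    apply hNP
    refine (normalizer_le_OZ p P).trans ?_
    by_cases hc : p < Nat.card Z
    · have h1 := thm91' hG hM hZM hZe hc (fun b hb hb1 => (hcon b hb hb1).1)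
      obtain ⟨M', hM', hZM', h3⟩ := inU_iff.1 h1
      rw [h3 M hM hZM]
      exact le_of_inU h3 le_normalizer hZt
    · obtain ⟨x, hxZ, hx1'⟩ := exists_ne_one hZb
      have h1 : zpowers x = Z := by
        apply H1.Basic.eq_of_le_of_card_ge' (zpowers_le.2 hxZ)
        rw [Nat.card_zpowers, orderOf_eq_prime (hZe.2 _ hxZ) hx1']
        exact not_lt.1 hc
      obtain ⟨D, hD, hND⟩ := exists_isCoatom_ge hZt
      have h2 : centralizer ({x} : Set G) ≤ D := by
        refine le_trans ?_ hND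
        refine le_trans ?_ (centralizer_le_normalizer _)
        rw [← h1, H12.CN.centralizer_zpowers_eq]
      rw [← (hcon x hxZ hx1').2 D hD h2]
      exact hND
  obtain ⟨x, hxZ, hx1, hx⟩ := key
  have hxo : orderOf x = p := orderOf_eq_prime (hZe.2 _ hxZ) hx1
  refine ⟨x, hxZ.1, hxZ.2.1, hxo, ?_, hx⟩
  by_contra hr
  have h1 := thm103 hG hM (X := zpowers x) (zpowers_le.2 (hZM hxZ)) (by
    intro q hq hqd hqα
    rw [Nat.card_zpowers, hxo] at hqd
    have h2 := (Nat.prime_dvd_prime_iff_eq hq hpf.out).1 hqd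
    subst h2
    exact hp (alpha_subset_sigma hG hM hqα)) (by rwa [H12.CN.centralizer_zpowers_eq])
  rw [H12.CN.centralizer_zpowers_eq] at h1
  obtain ⟨M', hM', hCM', h3⟩ := inU_iff.1 h1
  have h4 : M = M' := h3 M hM inf_le_left
  subst h4
  apply hx
  exact ⟨le_of_inU h3 inf_le_right (centralizer_singleton_ne_top hG hx1), fun L hL hCL => h3 L hL (inf_le_right.trans hCL)⟩

/-- S1408 -/
theorem thm105a (hG : IsMinSimpleOddOrder G) {M : Subgroup G} (hM : IsCoatom M) {p : ℕ} [hpf : Fact p.Prime]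
    (hp : p ∉ sigma M) {A : Subgroup G} (hAM : A ≤ M) (hA : IsElementaryAbelian p A) (hAc : Nat.card A = p ^ 2) :
    ∀ B : Subgroup G, IsElementaryAbelian p B → A ≤ B → B = A := by
  intro B hB hAB
  by_contra hne
  have hlt : Nat.card A < Nat.card B := by
    by_contra hcon
    exact hne (H1.Basic.eq_of_le_of_card_ge' hAB (not_lt.1 hcon)).symm
  rw [hAc] at hlt
  have hAU : InUniqueMaximal A := by
    refine uniqueness hG (ne_top_of_isPGroup hG (SCN.isPGroup_ea hA)) (not_rankLE_one_of hpf.out le_rfl hA ?_) (Or.inr ?_)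
    · rw [hAc]; exact lt_self_pow₀ hpf.out.one_lt (by norm_num)
    · intro h
      have hBC : B ≤ centralizer (A : Set G) := (have := hB.1; le_centralizer B).trans (centralizer_le hAB)
      exact SCN.not_pRankLE_of hBC hB hlt (h p hpf.out)
  obtain ⟨P, hAP, hP⟩ := exists_isSylIn_ge (SCN.isPGroup_ea hA) hAM
  obtain ⟨M', hM', hAM', h3⟩ := inU_iff.1 hAU
  have h4 : M = M' := h3 M hM hAM
  subst h4
  have hAb : A ≠ ⊥ := by
    rintro rfl
    rw [card_bot] at hAc
    exact absurd hAc (Nat.one_lt_pow (by norm_num) hpf.out.one_lt).ne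
  have hPb : P ≠ ⊥ := fun h => hAb (le_bot_iff.1 (h ▸ hAP))
  apply hp
  refine sigma_of_normalizer hpf.out (dvd_card_of_le hP.isPGroup hPb hP.le) hP ?_
  exact le_of_inU h3 (hAP.trans le_normalizer) (normalizer_ne_top hG hPb (ne_top_of_isPGroup hG hP.isPGroup))

theorem not_ideal_of_max {p : ℕ} [hpf : Fact p.Prime] {A : Subgroup G} (hA : IsElementaryAbelian p A)
    (hAc : Nat.card A = p ^ 2) (hmax : ∀ B : Subgroup G, IsElementaryAbelian p B → A ≤ B → B = A) : ¬ IsIdealPrime p G := by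
  rintro ⟨-, -, h⟩
  obtain ⟨P, hAP, hP⟩ := exists_isSylIn_ge (SCN.isPGroup_ea hA) (le_top : A ≤ ⊤)
  obtain ⟨S, rfl⟩ := hP.exists_sylow_top
  obtain ⟨B, -, hBe, hAB⟩ := h S A hAP hA hAc
  exact hAB.ne (hmax B hBe hAB.le).symm

theorem exists_ea_sq_of_not_rank_one {p : ℕ} [hpf : Fact p.Prime] {X : Subgroup G} (h : ¬ PRankLE p 1 X) :
    ∃ A ≤ X, IsElementaryAbelian p A ∧ Nat.card A = p ^ 2 := by
  obtain ⟨E, hEX, hEe, hEc⟩ := SCN.exists_of_not_pRankLE h
  have h1 := SCN.exists_pow_lt hEe hEc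
  have hEp := SCN.isPGroup_ea hEe
  obtain ⟨n, hn⟩ := IsPGroup.iff_card.1 hEp
  have h2 : p ^ (1 + 1) ∣ Nat.card E := by
    rw [hn] at h1 ⊢
    exact pow_dvd_pow p ((Nat.pow_le_pow_iff_right hpf.out.one_lt).1 h1)
  obtain ⟨A, hA⟩ := Sylow.exists_subgroup_card_pow_prime (G := E) p h2
  refine ⟨A.map E.subtype, (map_subtype_le _).trans hEX, ea_of_le (map_subtype_le _) hEe, ?_⟩
  rw [SCN.card_map_subtype']; exact hA

/-- S1409 -/
theorem thm105b (hG : IsMinSimpleOddOrder G) {M : Subgroup G} (hM : IsCoatom M) {p : ℕ} [hpf : Fact p.Prime]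
    (hp : p ∉ sigma M) {X : Subgroup G} (hX : Nat.card X = p) (hNX : normalizer (X : Set G) ≤ M) :
    (PRankLE p 2 M ∧ ¬ PRankLE p 1 M) ∧ ¬ IsIdealPrime p G ∧
      ∃ A : Subgroup G, IsElementaryAbelian p A ∧ Nat.card A = p ^ 2 ∧ X ≤ A := by
  have hXM : X ≤ M := le_normalizer.trans hNX
  have hXp : IsPGroup p X := IsPGroup.of_card (n := 1) (by rw [pow_one]; exact hX)
  have hXb : X ≠ ⊥ := by
    rintro rfl
    rw [card_bot] at hX
    exact hpf.out.one_lt.ne hX
  have hpM : p ∣ Nat.card M := dvd_card_of_le hXp hXb hXM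
  have hr2 : PRankLE p 2 M := by
    by_contra h
    exact hp (alpha_subset_sigma hG hM ⟨hpf.out, h⟩)
  obtain ⟨P, hXP, hP⟩ := exists_isSylIn_ge hXp hXM
  have hp2 : p ≠ 2 := prime_ne_two hG (hpM.trans (card_subgroup_dvd_card M))
  have hPnc : ¬ IsCyclic P := by
    intro hc
    apply hp
    apply sigma_of_normalizer hpf.out hpM hP
    refine le_trans ?_ hNX
    intro g hg
    rw [mem_normalizer_iff_cj]
    apply Core.cyclic_eq_of_card_eq' hc _ hXP (card_cj g X)
    have : cj g X ≤ cj g P := cj_mono hXP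
    rwa [cj_eq_of_mem_normalizer hg] at this
  obtain ⟨D, hDP, hPD, hDe, hDc⟩ := exists_normal_sq hp2 hP.isPGroup hPnc
  have hr1 : ¬ PRankLE p 1 M := by
    refine SCN.not_pRankLE_of (hDP.trans hP.le) hDe ?_
    rw [hDc]
    exact Nat.pow_lt_pow_right hpf.out.one_lt (by norm_num)
  refine ⟨⟨hr2, hr1⟩, not_ideal_of_max hDe hDc (thm105a hG hM hp (hDP.trans hP.le) hDe hDc), ?_⟩
  -- X lies in an elementary abelian subgroup of order p²
  obtain ⟨x, hx⟩ : ∃ x : G, X = zpowers x := by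
    have hc : IsCyclic X := isCyclic_of_prime_card hX
    obtain ⟨g, hg⟩ := hc.exists_generator
    refine ⟨g, ?_⟩
    apply le_antisymm
    · intro y hy
      obtain ⟨k, hk⟩ := hg ⟨y, hy⟩
      exact ⟨k, congrArg Subtype.val hk⟩
    · exact zpowers_le.2 g.2
  have hxo : orderOf x = p := by rw [← Nat.card_zpowers, ← hx]; exact hX
  have hXe : IsElementaryAbelian p X := by
    rw [hx]; exact Narrow.ea_zpowers (by rw [← hxo]; exact pow_orderOf_eq_one x)
  by_cases hXD : X ≤ D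
  · exact ⟨D, hDe, hDc, hXD⟩
  · -- C_D(X) ≠ 1
    have h1 := card_le_mul_inf_centralizer (X := D) (D := D) hP.isPGroup hDP hPD hDc hDP
    have hcD : ∃ d ∈ D, d ≠ 1 ∧ d ∈ centralizer (X : Set G) := by
      have h2 : D ≠ ⊥ := by
        rintro rfl
        rw [card_bot] at hDc
        exact absurd hDc (Nat.one_lt_pow (by norm_num) hpf.out.one_lt).ne
      obtain ⟨d, hd, hd1⟩ := exists_ne_one (inf_centralizer_ne_bot hP.isPGroup hDP hPD h2)
      exact ⟨d, hd.1, hd1, (centralizer_le hXP) hd.2⟩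
    obtain ⟨d, hdD, hd1, hdX⟩ := hcD
    have hdo : orderOf d = p := orderOf_eq_prime (hDe.2 d hdD) hd1
    have hdis : X ⊓ zpowers d = ⊥ := by
      rw [hx]
      apply Narrow.inf_eq_bot_of_prime hxo
      intro h
      apply hXD
      rw [hx, zpowers_le]
      exact zpowers_le.2 hdD h
    refine ⟨X ⊔ zpowers d, Narrow.ea_sup (le_centralizer_iff.1 (zpowers_le.2 hdX)) hXe
      (Narrow.ea_zpowers (hDe.2 d hdD)), ?_, le_sup_left⟩
    rw [H22.Basic.card_sup_of_inf_eq_bot _ hdis, Nat.card_zpowers, hdo, hX, sq]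
    rw [zpowers_le]
    exact centralizer_le_normalizer _ hdX

end Cfsg.Agent.H12.BG10
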