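import Cfsg.Agent.H1_Hall
import Cfsg.Agent.H22_PSolv

/-! `p`-complements in `p`-soluble groups -/

set_option autoImplicit false
open Pointwise

namespace Cfsg.Agent.H22.PComp
open Cfsg.Agent.H1.Basic Cfsg.Agent.H1.SZ Cfsg.Agent.H1.Coprime Cfsg.Agent.H1.Nilp
open Cfsg.Agent.H1.Factor Cfsg.Agent.H1.Hall Cfsg.Agent.H22.PSolv

universe u

variable {p : ℕ} [hp : Fact p.Prime]

/-- `H` is a `p`-complement -/
def IsPComp (p : ℕ) {G : Type*} [Group G] (H : Subgroup G) : Prop :=
  (Nat.card H).Coprime p ∧ ∃ n : ℕ, H.index = p ^ n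

theorem IsPComp.coprime {G : Type*} [Group G] {H : Subgroup G} (h : IsPComp p H) :
    (Nat.card H).Coprime H.index := by
  obtain ⟨h1, n, hn⟩ := h
  rw [hn]; exact h1.pow_right n

theorem le_of_coprime_index {G : Type*} [Group G] [Finite G] {N H : Subgroup G} [N.Normal]
    (hN : (Nat.card N).Coprime H.index) : N ≤ H := by
  rw [← Subgroup.relIndex_eq_one]
  have h1 : H.relIndex N ∣ Nat.card N := Subgroup.relIndex_dvd_card _ _
  have h2 : H.relIndex N ∣ H.index := by
    have h3 : H.relIndex (N ⊔ H) = H.relIndex N := by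
      apply relIndex_eq_of_factor le_sup_left
      intro l hl
      rw [← SetLike.mem_coe, Subgroup.normal_mul N H] at hl
      obtain ⟨x, hx, y, hy, rfl⟩ := Set.mem_mul.mp hl
      exact ⟨x, hx, by simpa using hy⟩
    rw [← h3]
    exact Subgroup.relIndex_dvd_index_of_le le_sup_right
  exact Nat.eq_one_of_dvd_coprimes hN h1 h2

theorem dominance_aux (n : ℕ) : ∀ (G : Type u) [Group G] [Finite G], Cfsg.IsPSolvable p G →
    Nat.card G = n → ∀ H K : Subgroup G, IsPComp p H →
    (Nat.card K).Coprime p → ∃ g : G, MulAut.conj g • K ≤ H := by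
  induction n using Nat.strong_induction_on with | _ n ih => ?_
  intro G _ _ hps hG H K hH hK
  rcases subsingleton_or_nontrivial G with hs | hnt
  · refine ⟨1, fun x hx => ?_⟩
    rw [Subsingleton.elim x 1]; exact H.one_mem
  have key : ∀ N : Subgroup G, N.Normal → N ≠ ⊥ → ∃ g : G, MulAut.conj g • K ≤ H ⊔ N := by
    intro N hNn hNb
    let f := QuotientGroup.mk' N
    have hf : Function.Surjective f := QuotientGroup.mk'_surjective N
    have hker : f.ker = N := QuotientGroup.ker_mk' N
    obtain ⟨m, hm⟩ := hH.2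
    obtain ⟨gbar, hgbar⟩ := ih (Nat.card (G ⧸ N)) (hG ▸ card_quotient_lt hNb) (G ⧸ N)
      (isPSolvable_quotient N hps) rfl
      (H.map f) (K.map f) ⟨hH.1.coprime_dvd_left (Subgroup.card_map_dvd H f), by
        have h1 := Subgroup.index_map_dvd H hf
        rw [hm] at h1
        obtain ⟨k, -, hk⟩ := (Nat.dvd_prime_pow hp.out).mp h1
        exact ⟨k, hk⟩⟩
      (hK.coprime_dvd_left (Subgroup.card_map_dvd K f))
    obtain ⟨g, rfl⟩ := hf gbar
    rw [← map_conj, Subgroup.map_le_iff_le_comap, Subgroup.comap_map_eq, hker] at hgbar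
    exact ⟨g, hgbar⟩
  rcases pCore_or_pPrimeCore_ne_bot hps with hN | hN
  · have hNn : (Cfsg.pCore p G).Normal := H1.Nilp.pCore_normal p
    have hNp : IsPGroup p (Cfsg.pCore p G) := H1.Nilp.pCore_isPGroup p
    obtain ⟨g, hgbar⟩ := key _ hNn hN
    generalize Cfsg.pCore p G = N at hNn hNp hgbar
    set K' := MulAut.conj g • K with hK'
    have hcK' : Nat.card K' = Nat.card K := card_conj g K
    suffices h : ∃ x : G, MulAut.conj x • K' ≤ H by
      obtain ⟨x, hx⟩ := h
      exact ⟨x * g, by rw [← conj_conj]; exact hx⟩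
    obtain ⟨k, hk⟩ := IsPGroup.iff_card.mp hNp
    have hcop : (Nat.card K').Coprime (Nat.card N) := by
      rw [hk, hcK']
      exact hK.pow_right k
    have hdHN : H ⊓ N = ⊥ := by
      apply disjoint_of_coprime_card
      rw [hk]
      exact hH.1.pow_right k
    -- `B = K'N ∩ H`
    set B := (K' ⊔ N) ⊓ H with hB
    have hBN : B ⊔ N = K' ⊔ N := by
      apply le_antisymm (sup_le inf_le_left le_sup_right)
      intro x hx
      rw [← SetLike.mem_coe, Subgroup.mul_normal K' N] at hx
      obtain ⟨y, hy, a, ha, rfl⟩ := Set.mem_mul.mp hx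
      have h1 : y ∈ H ⊔ N := hgbar hy
      rw [← SetLike.mem_coe, Subgroup.mul_normal H N] at h1
      obtain ⟨h, hh, b, hb, hhb⟩ := Set.mem_mul.mp h1
      have h2 : h ∈ B := by
        refine ⟨?_, hh⟩
        have : h = y * b⁻¹ := by rw [← hhb]; group
        rw [this]
        exact Subgroup.mul_mem _ (Subgroup.mem_sup_left hy)
          (Subgroup.mem_sup_right (N.inv_mem hb))
      rw [← hhb, mul_assoc]
      exact Subgroup.mul_mem _ (Subgroup.mem_sup_left h2)
        (Subgroup.mem_sup_right (N.mul_mem hb ha))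
    have hBd : B ⊓ N = ⊥ := by
      rw [eq_bot_iff, ← hdHN]
      exact inf_le_inf_right N inf_le_right
    have hcB : Nat.card B = Nat.card K' := by
      have h1 := card_sup_of_le_normalizer (A := B) (K := N) Subgroup.le_normalizer_of_normal hBd
      have h2 := card_sup_of_le_normalizer (A := K') (K := N) Subgroup.le_normalizer_of_normal
        (disjoint_of_coprime_card hcop)
      rw [hBN, h2] at h1
      exact (Nat.eq_of_mul_eq_mul_right Nat.card_pos h1).symm
    obtain ⟨x, -, hx⟩ := sz_internal (A := K') (B := B) (K := N)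
      Subgroup.le_normalizer_of_normal inf_le_left hcB hcop
      (Or.inr (by have := hNp.isNilpotent; infer_instance))
    exact ⟨x, by rw [hx]; exact inf_le_right⟩
  · have hNn : (Cfsg.pPrimeCore p G).Normal := H1.Nilp.pPrimeCore_normal p
    obtain ⟨g, hgbar⟩ := key _ hNn hN
    obtain ⟨m, hm⟩ := hH.2
    have hNH : Cfsg.pPrimeCore p G ≤ H := le_of_coprime_index (by
      rw [hm]; exact (H1.Nilp.pPrimeCore_coprime p).pow_right m)
    exact ⟨g, hgbar.trans (by rw [sup_eq_left.mpr hNH])⟩

theorem dominance {G : Type*} [Group G] [Finite G] (hG : Cfsg.IsPSolvable p G) {H K : Subgroup G}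
    (hH : IsPComp p H) (hK : (Nat.card K).Coprime p) : ∃ g : G, MulAut.conj g • K ≤ H :=
  dominance_aux _ G hG rfl H K hH hK

theorem exists_aux (n : ℕ) : ∀ (G : Type u) [Group G] [Finite G], Cfsg.IsPSolvable p G →
    Nat.card G = n → ∃ H : Subgroup G, IsPComp p H := by
  induction n using Nat.strong_induction_on with | _ n ih => ?_
  intro G _ _ hps hG
  rcases subsingleton_or_nontrivial G with hs | hnt
  · refine ⟨⊤, ?_, 0, by simp⟩
    have : Nat.card (⊤ : Subgroup G) = 1 := by
      rw [Subgroup.card_top, Nat.card_eq_one_iff_unique]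
      exact ⟨hs, ⟨1⟩⟩
    rw [this]; exact Nat.coprime_one_left p
  rcases pCore_or_pPrimeCore_ne_bot hps with hN | hN
  · have hNn : (Cfsg.pCore p G).Normal := H1.Nilp.pCore_normal p
    have hNp : IsPGroup p (Cfsg.pCore p G) := H1.Nilp.pCore_isPGroup p
    generalize Cfsg.pCore p G = N at hNn hNp hN
    obtain ⟨Hb, hHb, m, hm⟩ := ih (Nat.card (G ⧸ N)) (hG ▸ card_quotient_lt hN) (G ⧸ N)
      (isPSolvable_quotient N hps) rfl
    set L := Hb.comap (QuotientGroup.mk' N) with hL
    have hNL : N ≤ L := le_comap_mk N Hb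
    have hLi : L.index = p ^ m := by
      rw [hL, Subgroup.index_comap_of_surjective _ (QuotientGroup.mk'_surjective N), hm]
    obtain ⟨k, hk⟩ := IsPGroup.iff_card.mp hNp
    have hidx : (N.subgroupOf L).index = Nat.card Hb := by
      have := relIndex_comap_mk N Hb
      exact this
    have hcN : Nat.card (N.subgroupOf L) = Nat.card N := card_subgroupOf hNL
    obtain ⟨C, hC⟩ := Subgroup.exists_right_complement'_of_coprime (N := N.subgroupOf L) (by
      rw [hidx, hcN, hk]; exact (hHb.pow_right k).symm)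
    have hcC : Nat.card C = Nat.card Hb := by rw [← hidx, hC.symm.index_eq_card]
    have hCi : C.index = Nat.card N := by
      rw [← hcN]; exact hC.index_eq_card
    refine ⟨C.map L.subtype, ?_, k + m, ?_⟩
    · rw [Subgroup.card_map_of_injective L.subtype_injective, hcC]; exact hHb
    · have h1 := Subgroup.relIndex_mul_index (H := C.map L.subtype) (K := L) (Subgroup.map_subtype_le C)
      have h2 : (C.map L.subtype).relIndex L = C.index := by
        unfold Subgroup.relIndex Subgroup.subgroupOf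
        rw [Subgroup.comap_map_eq_self_of_injective L.subtype_injective]
      rw [← h1, h2, hCi, hk, hLi, pow_add]
  · have hNn : (Cfsg.pPrimeCore p G).Normal := H1.Nilp.pPrimeCore_normal p
    have hNc := H1.Nilp.pPrimeCore_coprime (G := G) p
    generalize Cfsg.pPrimeCore p G = N at hNn hNc hN
    obtain ⟨Hb, hHb, m, hm⟩ := ih (Nat.card (G ⧸ N)) (hG ▸ card_quotient_lt hN) (G ⧸ N)
      (isPSolvable_quotient N hps) rfl
    refine ⟨Hb.comap (QuotientGroup.mk' N), ?_, m, ?_⟩
    · rw [card_comap_mk]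
      first
        | exact Nat.Coprime.mul_left hNc hHb
        | exact Nat.Coprime.mul_left hHb hNc
    · rw [Subgroup.index_comap_of_surjective _ (QuotientGroup.mk'_surjective N), hm]

theorem exists_pComp {G : Type*} [Group G] [Finite G] (hG : Cfsg.IsPSolvable p G) :
    ∃ H : Subgroup G, IsPComp p H := exists_aux _ G hG rfl

theorem card_eq {G : Type*} [Group G] [Finite G] {H₁ H₂ : Subgroup G} (h₁ : IsPComp p H₁)
    (h₂ : IsPComp p H₂) : Nat.card H₁ = Nat.card H₂ := by
  obtain ⟨c₁, n, hn⟩ := h₁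
  obtain ⟨c₂, m, hm⟩ := h₂
  have e₁ := H₁.card_mul_index
  have e₂ := H₂.card_mul_index
  rw [hn] at e₁
  rw [hm] at e₂
  apply Nat.dvd_antisymm
  · exact Nat.Coprime.dvd_of_dvd_mul_right (c₁.pow_right m) (by rw [e₂, ← e₁]; exact dvd_mul_right _ _)
  · exact Nat.Coprime.dvd_of_dvd_mul_right (c₂.pow_right n) (by rw [e₁, ← e₂]; exact dvd_mul_right _ _)

theorem conj {G : Type*} [Group G] [Finite G] (hG : Cfsg.IsPSolvable p G) {H₁ H₂ : Subgroup G}
    (h₁ : IsPComp p H₁) (h₂ : IsPComp p H₂) : ∃ g : G, MulAut.conj g • H₁ = H₂ := by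
  obtain ⟨g, hg⟩ := dominance hG h₂ h₁.1
  exact ⟨g, eq_of_le_of_card_ge' hg (by rw [card_conj, card_eq h₁ h₂])⟩

end Cfsg.Agent.H22.PComp
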