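import Cfsg.Agent.H1_Hall
import Cfsg.Agent.H1_Coprime2
import Cfsg.Agent.H22_PComp
import Cfsg.Agent.H1_Wiel
import Cfsg.Agent.H11_FStar
import Cfsg.Agent.H22_Basic
import Cfsg.Prelude.Def_OddOrderLocal

/-! Hall subgroups relative to a solvable normal subgroup; invariant Hall subgroups -/

set_option autoImplicit false
open Pointwise

namespace Cfsg.Agent.H22.Hall
open Cfsg.Agent.H1.Basic Cfsg.Agent.H1.SZ Cfsg.Agent.H1.Coprime Cfsg.Agent.H1.Nilp
open Cfsg.Agent.H1.Factor Cfsg.Agent.H1.Hall

universe u

/-- a minimal normal subgroup which is solvable is an `r`-group -/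
theorem minimal_normal_isPGroup {G : Type*} [Group G] [Finite G]
    (N : Subgroup G) [hNn : N.Normal] (hsol : Group.IsSolvable N) (hN : N ≠ ⊥)
    (hmin : ∀ M : Subgroup G, M.Normal → M ≤ N → M = ⊥ ∨ M = N) :
    ∃ p : ℕ, p.Prime ∧ IsPGroup p N := by
  have hnt : Nontrivial N := (Subgroup.nontrivial_iff_ne_bot N).mpr hN
  have hcomm : IsMulCommutative N := by
    rw [← Subgroup.commutator_self_eq_bot_iff]
    rcases hmin ⁅N, N⁆ inferInstance (Subgroup.commutator_le_self N) with h | h
    · exact h
    · exfalso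
      have h1 : commutator N < ⊤ := Group.IsSolvable.commutator_lt_top_of_nontrivial N
      have h2 : (commutator N).map N.subtype = ⁅N, N⁆ := by
        rw [_root_.commutator_def, Subgroup.map_commutator, ← MonoidHom.range_eq_map, N.range_subtype]
      rw [h] at h2
      have h5 : Nat.card ((commutator N).map N.subtype) = Nat.card (commutator N) :=
        Subgroup.card_map_of_injective N.subtype_injective
      have h3 : Nat.card (commutator N) = Nat.card N := by
        rw [← h5, h2]
      exact h1.ne (Subgroup.eq_top_of_card_eq _ h3)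
  obtain ⟨p, hp, hdvd⟩ := Nat.exists_prime_and_dvd
    (Finite.one_lt_card_iff_nontrivial.mpr hnt).ne'
  have : Fact p.Prime := ⟨hp⟩
  refine ⟨p, hp, ?_⟩
  let P : Sylow p N := default
  have hnil : Group.IsNilpotent N := H11.FStar.isNilpotent_of_isMulCommutative hcomm
  have hPn := sylow_map_normal_of_nilpotent hNn hnil P
  rcases hmin _ hPn (Subgroup.map_subtype_le _) with h | h
  · exfalso
    rw [Subgroup.map_eq_bot_iff_of_injective _ N.subtype_injective] at h
    have h1 := P.card_eq_multiplicity
    rw [h, Subgroup.card_bot] at h1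
    have h2 : 0 < (Nat.card N).factorization p := hp.factorization_pos_of_dvd Nat.card_pos.ne' hdvd
    exact absurd h1.symm (Nat.one_lt_pow h2.ne' hp.one_lt).ne'
  · rw [← h]; exact P.2.map _

/-- Hall dominance relative to a normal solvable subgroup `L` containing all "`π'`-parts". -/
theorem dominance_aux (n : ℕ) : ∀ (G : Type u) [Group G] [Finite G],
    Nat.card G = n → ∀ L : Subgroup G, L.Normal → Group.IsSolvable L →
    ∀ H K : Subgroup G, (Nat.card H).Coprime H.index → L.index.Coprime H.index →
    (Nat.card K).Coprime H.index → ∃ g : G, MulAut.conj g • K ≤ H := by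
  induction n using Nat.strong_induction_on with | _ n ih => ?_
  intro G _ _ hG L hL hLs H K hH hLH hK
  by_cases hLb : L = ⊥
  · refine ⟨1, ?_⟩
    subst hLb
    rw [Subgroup.index_bot] at hLH
    have h1 : H.index = 1 := Nat.eq_one_of_dvd_coprimes hLH H.index_dvd_card dvd_rfl
    rw [Subgroup.index_eq_one] at h1
    rw [h1]; exact le_top
  obtain ⟨N, hNL, hNn, hNb, hmin⟩ := exists_minimal_normal hL hLb
  have hNs : Group.IsSolvable N := H1.Wiel.solvable_of_le hNL hLs
  obtain ⟨p, hp, hNp⟩ := minimal_normal_isPGroup N hNs hNb hmin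
  have : Fact p.Prime := ⟨hp⟩
  let f := QuotientGroup.mk' N
  have hf : Function.Surjective f := QuotientGroup.mk'_surjective N
  have hker : f.ker = N := QuotientGroup.ker_mk' N
  obtain ⟨gbar, hgbar⟩ := ih (Nat.card (G ⧸ N)) (hG ▸ card_quotient_lt hNb) (G ⧸ N) rfl
    (L.map f) (hL.map f hf) (H1.Wiel.solvable_map f hLs) (H.map f) (K.map f) (coprime_map f hf hH)
    ((hLH.coprime_dvd_left (Subgroup.index_map_dvd L hf)).coprime_dvd_right
      (Subgroup.index_map_dvd H hf))
    ((hK.coprime_dvd_left (Subgroup.card_map_dvd K f)).coprime_dvd_right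
      (Subgroup.index_map_dvd H hf))
  obtain ⟨g, rfl⟩ := hf gbar
  rw [← map_conj, Subgroup.map_le_iff_le_comap, Subgroup.comap_map_eq, hker] at hgbar
  set K' := MulAut.conj g • K with hK'
  have hcK' : Nat.card K' = Nat.card K := card_conj g K
  suffices h : ∃ x : G, MulAut.conj x • K' ≤ H by
    obtain ⟨x, hx⟩ := h
    exact ⟨x * g, by rw [← conj_conj]; exact hx⟩
  by_cases hpi : p ∣ H.index
  · obtain ⟨k, hk⟩ := IsPGroup.iff_card.mp hNp
    have hcop : (Nat.card K').Coprime (Nat.card N) := by
      rw [hk, hcK']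
      exact (hK.coprime_dvd_right hpi).pow_right k
    have hdHN : H ⊓ N = ⊥ := by
      apply disjoint_of_coprime_card
      rw [hk]
      exact (hH.coprime_dvd_right hpi).pow_right k
    set B := (K' ⊔ N) ⊓ H with hB
    have hBN : B ⊔ N = K' ⊔ N := by
      apply le_antisymm (sup_le inf_le_left le_sup_right)
      intro x hx
      rw [← SetLike.mem_coe, Subgroup.mul_normal K' N] at hx
      obtain ⟨y, hy, a, ha, rfl⟩ := Set.mem_mul.mp hx
      have h1 : y ∈ H ⊔ N := hgbar hy
      rw [← SetLike.mem_coe, Subgroup.mul_normal H N] at h1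
      obtain ⟨h, hh, b, hb, hhb⟩ := Set.mem_mul.mp h1
      have h2 : h ∈ B := by
        refine ⟨?_, hh⟩
        have : h = y * b⁻¹ := by rw [← hhb]; group
        rw [this]
        exact Subgroup.mul_mem _ (Subgroup.mem_sup_left hy)
          (Subgroup.mem_sup_right (N.inv_mem hb))
      rw [← hhb, mul_assoc]
      exact Subgroup.mul_mem _ (Subgroup.mem_sup_left h2)
        (Subgroup.mem_sup_right (N.mul_mem hb ha))
    have hBd : B ⊓ N = ⊥ := by
      rw [eq_bot_iff, ← hdHN]
      exact inf_le_inf_right N inf_le_right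
    have hcB : Nat.card B = Nat.card K' := by
      have h1 := card_sup_of_le_normalizer (A := B) (K := N) Subgroup.le_normalizer_of_normal hBd
      have h2 := card_sup_of_le_normalizer (A := K') (K := N) Subgroup.le_normalizer_of_normal
        (disjoint_of_coprime_card hcop)
      rw [hBN, h2] at h1
      exact (Nat.eq_of_mul_eq_mul_right Nat.card_pos h1).symm
    obtain ⟨x, -, hx⟩ := sz_internal (A := K') (B := B) (K := N)
      Subgroup.le_normalizer_of_normal inf_le_left hcB hcop (Or.inr hNs)
    exact ⟨x, by rw [hx]; exact inf_le_right⟩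
  · have hNH : N ≤ H := le_of_not_dvd_index hNp hpi
    refine ⟨1, ?_⟩
    rw [conj_one]
    exact hgbar.trans (by rw [sup_eq_left.mpr hNH])

theorem dominance {G : Type*} [Group G] [Finite G] {L H K : Subgroup G} (hL : L.Normal)
    (hLs : Group.IsSolvable L) (hH : (Nat.card H).Coprime H.index) (hLH : L.index.Coprime H.index)
    (hK : (Nat.card K).Coprime H.index) : ∃ g : G, MulAut.conj g • K ≤ H :=
  dominance_aux _ G rfl L hL hLs H K hH hLH hK

/-- existence of `π`-Hall subgroups of a solvable subgroup -/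
theorem exists_piHall {G : Type*} [Group G] [Finite G] {L : Subgroup G} (hL : Group.IsSolvable L)
    (π : Set ℕ) : ∃ H : Subgroup G, Cfsg.IsPiHallOf π H L := by
  classical
  -- the π-part of the order
  let m := ∏ q ∈ (Nat.card L).primeFactors with q ∈ π, q ^ (Nat.card L).factorization q
  let n := ∏ q ∈ (Nat.card L).primeFactors with q ∉ π, q ^ (Nat.card L).factorization q
  have hmn : Nat.card L = m * n := by
    rw [Finset.prod_filter_mul_prod_filter_not]
    exact (Nat.prod_factorization_pow_eq_self Nat.card_pos.ne').symm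
  have hcop : m.Coprime n := by
    apply Nat.Coprime.prod_left
    intro q hq
    apply Nat.Coprime.prod_right
    intro r hr
    simp only [Finset.mem_filter, Nat.mem_primeFactors] at hq hr
    apply Nat.Coprime.pow
    rw [Nat.coprime_primes hq.1.1 hr.1.1]
    rintro rfl
    exact hr.2 hq.2
  obtain ⟨H, hH⟩ := hall_exists (G := L) m n hmn hcop
  refine ⟨H.map L.subtype, Subgroup.map_subtype_le _, ?_, ?_⟩
  · intro p hp hd
    rw [Subgroup.card_map_of_injective L.subtype_injective, hH] at hd
    obtain ⟨q, hq, hd'⟩ := (hp.prime.dvd_finsetProd_iff _).mp hd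
    simp only [Finset.mem_filter, Nat.mem_primeFactors] at hq
    rw [(Nat.prime_dvd_prime_iff_eq hp hq.1.1).mp (hp.dvd_of_dvd_pow hd')]
    exact hq.2
  · intro p hp hpi hd
    have h2 : (H.map L.subtype).relIndex L = H.index := by
      unfold Subgroup.relIndex Subgroup.subgroupOf
      rw [Subgroup.comap_map_eq_self_of_injective L.subtype_injective]
    rw [h2] at hd
    have h3 : H.index = n := by
      have := H.card_mul_index
      rw [hH, hmn] at this
      have hm0 : 0 < m := by rw [← hH]; exact Nat.card_pos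
      exact Nat.eq_of_mul_eq_mul_left hm0 this
    rw [h3] at hd
    obtain ⟨q, hq, hd'⟩ := (hp.prime.dvd_finsetProd_iff _).mp hd
    simp only [Finset.mem_filter, Nat.mem_primeFactors] at hq
    rw [(Nat.prime_dvd_prime_iff_eq hp hq.1.1).mp (hp.dvd_of_dvd_pow hd')] at hpi
    exact hq.2 hpi

theorem piHall_coprime {G : Type*} [Group G] [Finite G] {H L : Subgroup G} {π : Set ℕ}
    (h : Cfsg.IsPiHallOf π H L) : (Nat.card H).Coprime (H.relIndex L) := by
  apply Nat.Coprime.symm
  apply Nat.coprime_of_dvd
  intro k hk hd1 hd2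
  exact h.2.2 k hk (h.2.1 k hk hd2) hd1

theorem piHall_card_eq {G : Type*} [Group G] [Finite G] {H K L : Subgroup G} {π : Set ℕ}
    (h : Cfsg.IsPiHallOf π H L) (h' : Cfsg.IsPiHallOf π K L) : Nat.card H = Nat.card K := by
  have key : ∀ H K : Subgroup G, Cfsg.IsPiHallOf π H L → Cfsg.IsPiHallOf π K L →
      Nat.card H ∣ Nat.card K := by
    intro H K h h'
    have e₁ := relIndex_mul_card h.1
    have e₂ := relIndex_mul_card h'.1
    have hc : (Nat.card H).Coprime (K.relIndex L) := by
      apply Nat.Coprime.symm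
      apply Nat.coprime_of_dvd
      intro k hk hd1 hd2
      exact h'.2.2 k hk (h.2.1 k hk hd2) hd1
    apply hc.dvd_of_dvd_mul_left
    rw [e₂, ← e₁]
    exact dvd_mul_left _ _
  exact Nat.dvd_antisymm (key H K h h') (key K H h' h)

theorem piHall_conj {G : Type*} [Group G] [Finite G] {H K L : Subgroup G} {π : Set ℕ}
    (hL : Group.IsSolvable L)
    (h : Cfsg.IsPiHallOf π H L) (h' : Cfsg.IsPiHallOf π K L) : ∃ l ∈ L, MulAut.conj l • H = K :=
  hall_conj_in hL h.1 h'.1 (piHall_card_eq h h') (piHall_coprime h)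

theorem piHall_of_conj {G : Type*} [Group G] [Finite G] {H L : Subgroup G} {π : Set ℕ} {g : G}
    (h : Cfsg.IsPiHallOf π H L) (hg : g ∈ Subgroup.normalizer (L : Set G)) :
    Cfsg.IsPiHallOf π (MulAut.conj g • H) L := by
  have e : MulAut.conj g • L = L := conj_eq_iff_mem_normalizer.mpr hg
  have hle : MulAut.conj g • H ≤ L := by
    rw [← e]
    exact conj_le_conj.mpr h.1
  refine ⟨hle, ?_, ?_⟩
  · intro p hp hd
    rw [card_conj] at hd
    exact h.2.1 p hp hd
  · intro p hp hpi hd
    apply h.2.2 p hp hpi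
    have e₁ := relIndex_mul_card h.1
    have e₂ := relIndex_mul_card hle
    rw [card_conj, ← e₁] at e₂
    rwa [← Nat.eq_of_mul_eq_mul_right Nat.card_pos e₂]

end Cfsg.Agent.H22.Hall
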