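import Mathlib
import Cfsg.Agent.H12_Core
import Cfsg.Agent.H22_Hall
import Cfsg.Agent.H13_Syl
import Cfsg.Agent.H1_Hall
import Cfsg.Agent.H1_HC
import Cfsg.Agent.H1_Coprime2
import Cfsg.Agent.H22_Basic

/-!
API for Hall subgroups of (solvable) subgroups: `IsPiHallOf`.
-/

set_option autoImplicit false
open Subgroup Cfsg
open scoped commutatorElement Pointwise

universe u

namespace Cfsg.Agent.H12.Hall

open H12.Core
open H13.Syl

variable {G : Type u} [Group G] {π ρ : Set ℕ} {H K L X : Subgroup G}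

theorem cj_eq_smul (g : G) (A : Subgroup G) : cj g A = MulAut.conj g • A := rfl

theorem relIndex_mul {A B : Subgroup G} (h : A ≤ B) : A.relIndex B * Nat.card A = Nat.card B := by
  rw [mul_comm]; exact H22.Basic.card_mul_relIndex h

theorem pi_mono (h : PiNum π (Nat.card X)) (hH : H ≤ X) : PiNum π (Nat.card H) :=
  h.dvd (Subgroup.card_dvd_of_le hH)

theorem le (h : IsPiHallOf π H L) : H ≤ L := h.1
theorem pi (h : IsPiHallOf π H L) : PiNum π (Nat.card H) := h.2.1
theorem index (h : IsPiHallOf π H L) : PiNum πᶜ (H.relIndex L) :=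
  fun p hp hd hpi => h.2.2 p hp hpi hd

theorem mk' (h1 : H ≤ L) (h2 : PiNum π (Nat.card H)) (h3 : PiNum πᶜ (H.relIndex L)) : IsPiHallOf π H L :=
  ⟨h1, h2, fun p hp hpi hd => h3 p hp hd hpi⟩

theorem congr (h : ∀ p : ℕ, p.Prime → (p ∈ π ↔ p ∈ ρ)) (hH : IsPiHallOf π H L) : IsPiHallOf ρ H L :=
  ⟨hH.1, fun p hp hd => (h p hp).1 (hH.2.1 p hp hd), fun p hp hpi => hH.2.2 p hp ((h p hp).2 hpi)⟩

theorem piNum_congr {n : ℕ} (h : ∀ p : ℕ, p.Prime → (p ∈ π ↔ p ∈ ρ)) (hH : PiNum π n) : PiNum ρ n :=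
  fun p hp hd => (h p hp).1 (hH p hp hd)

/-- Only the primes dividing `|L|` matter. -/
theorem congr' (h : ∀ p : ℕ, p.Prime → p ∣ Nat.card L → (p ∈ π ↔ p ∈ ρ)) [Finite G] (hH : IsPiHallOf π H L) :
    IsPiHallOf ρ H L := by
  refine ⟨hH.1, fun p hp hd => (h p hp (hd.trans (Subgroup.card_dvd_of_le hH.1))).1 (hH.2.1 p hp hd), ?_⟩
  intro p hp hpi hd
  have h1 : p ∣ Nat.card L := hd.trans (by
    rw [← relIndex_mul hH.1]
    exact Dvd.intro _ rfl)
  exact hH.2.2 p hp ((h p hp h1).2 hpi) hd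

theorem exists_hall [Finite G] (hL : Group.IsSolvable L) (π : Set ℕ) : ∃ H : Subgroup G, IsPiHallOf π H L :=
  H22.Hall.exists_piHall hL π

theorem coprime [Finite G] (h : IsPiHallOf π H L) : (Nat.card H).Coprime (H.relIndex L) :=
  (pi h).coprime (index h)

theorem hall_conj [Finite G] (hL : Group.IsSolvable L) (h : IsPiHallOf π H L) (h' : IsPiHallOf π K L) :
    ∃ l ∈ L, cj l H = K := H22.Hall.piHall_conj hL h h'

theorem card_eq [Finite G] (h : IsPiHallOf π H L) (h' : IsPiHallOf π K L) : Nat.card H = Nat.card K :=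
  H22.Hall.piHall_card_eq h h'

theorem conj [Finite G] {g : G} (h : IsPiHallOf π H L) : IsPiHallOf π (cj g H) (cj g L) := by
  refine ⟨H13.Syl.cj_mono h.1, ?_, ?_⟩
  · rw [show Nat.card (cj g H) = Nat.card H from H13.Syl.card_cj g H]; exact h.2.1
  · rw [show (cj g H).relIndex (cj g L) = H.relIndex L from H13.Syl.relIndex_cj g H L]; exact h.2.2

theorem conj_mem [Finite G] {g : G} (h : IsPiHallOf π H L) (hg : g ∈ normalizer (L : Set G)) :
    IsPiHallOf π (cj g H) L := by
  have h1 := conj (g := g) h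
  rwa [show cj g L = L from H13.Syl.cj_eq_of_mem_normalizer hg] at h1

theorem mono [Finite G] (h : IsPiHallOf π H L) (hHK : H ≤ K) (hKL : K ≤ L) : IsPiHallOf π H K :=
  mk' hHK (pi h) ((index h).dvd (by
    rw [← Subgroup.relIndex_mul_relIndex H K L hHK hKL]
    exact Dvd.intro _ rfl))

theorem trans [Finite G] (h : IsPiHallOf π H L) (hs : ρ ⊆ π) (h' : IsPiHallOf ρ K H) : IsPiHallOf ρ K L :=
  mk' (h'.1.trans h.1) (pi h') (by
    rw [← Subgroup.relIndex_mul_relIndex K H L h'.1 h.1]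
    exact (index h').mul ((index h).mono (Set.compl_subset_compl.2 hs)))

/-- Hall dominance inside a solvable subgroup. -/
theorem hall_dom [Finite G] (hL : Group.IsSolvable L) (h : IsPiHallOf π H L) (hX : PiNum π (Nat.card X)) (hXL : X ≤ L) :
    ∃ l ∈ L, cj l X ≤ H := by
  have h1 : (Nat.card (H.subgroupOf L)).Coprime (H.subgroupOf L).index := by
    rw [H23_card h.1]
    exact coprime h
  have h2 : (Nat.card (X.subgroupOf L)).Coprime (H.subgroupOf L).index := by
    rw [H23_card hXL]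
    exact hX.coprime (index h)
  obtain ⟨g, hg⟩ := H1.Hall.hall_dominance h1 h2
  refine ⟨g, g.2, ?_⟩
  rw [show cj (g : G) X ≤ H ↔ _ from H13.Syl.cj_le_iff_forall]
  intro a ha
  have h3 : (⟨a, hXL ha⟩ : L) ∈ X.subgroupOf L := Subgroup.mem_subgroupOf.2 ha
  have h4 : MulAut.conj g ⟨a, hXL ha⟩ ∈ H.subgroupOf L := hg (Subgroup.smul_mem_pointwise_smul _ _ _ h3)
  rw [Subgroup.mem_subgroupOf] at h4
  exact h4
where
  H23_card {A B : Subgroup G} (h : A ≤ B) : Nat.card (A.subgroupOf B) = Nat.card A :=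
    Nat.card_congr (Subgroup.subgroupOfEquivOfLe h).toEquiv

theorem exists_hall_ge [Finite G] (hL : Group.IsSolvable L) (hX : PiNum π (Nat.card X)) (hXL : X ≤ L) :
    ∃ H : Subgroup G, X ≤ H ∧ IsPiHallOf π H L := by
  obtain ⟨H, hH⟩ := exists_hall hL π
  obtain ⟨l, hl, h1⟩ := hall_dom hL hH hX hXL
  refine ⟨cj l⁻¹ H, ?_, conj_mem hH (Subgroup.le_normalizer (inv_mem hl))⟩
  rwa [← show cj l X ≤ H ↔ X ≤ cj l⁻¹ H from H13.Syl.cj_le_iff]

/-- A π-subgroup of the right size is Hall. -/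
theorem of_card [Finite G] (h : IsPiHallOf π H L) (hKL : K ≤ L) (hc : Nat.card K = Nat.card H) : IsPiHallOf π K L := by
  refine mk' hKL (by rw [hc]; exact pi h) ?_
  have h1 := relIndex_mul h.1
  have h2 := relIndex_mul hKL
  have h3 : K.relIndex L = H.relIndex L := by
    rw [hc, ← h1] at h2
    exact Nat.eq_of_mul_eq_mul_right Nat.card_pos h2
  rw [h3]
  exact index h

/-- a π-subgroup containing a Hall π-subgroup is equal to it -/
theorem eq_of_le [Finite G] (h : IsPiHallOf π H L) (hKL : K ≤ L) (hK : PiNum π (Nat.card K)) (hHK : H ≤ K) : K = H := by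
  have h1 : (H.relIndex K) = 1 := by
    have h2 : H.relIndex K ∣ H.relIndex L := by
      rw [← Subgroup.relIndex_mul_relIndex H K L hHK hKL]
      exact Dvd.intro _ rfl
    have h3 : H.relIndex K ∣ Nat.card K := by
      rw [← relIndex_mul hHK]
      exact Dvd.intro _ rfl
    exact Nat.Coprime.eq_one_of_dvd ((hK.dvd h3).coprime (index h)) h2
  exact le_antisymm (Subgroup.relIndex_eq_one.1 h1) hHK

theorem normal_le [Finite G] (h : IsPiHallOf π H L) (hKL : K ≤ L) (hK : PiNum π (Nat.card K))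
    (hn : L ≤ normalizer (K : Set G)) : K ≤ H := by
  have h1 : H ⊔ K = H := by
    refine eq_of_le h (sup_le h.1 hKL) ?_ le_sup_left
    exact piNum_sup (h.1.trans hn) (pi h) hK
  rw [← h1]; exact le_sup_right

/-- Hall subgroup meets a normal subgroup in a Hall subgroup. -/
theorem inf_normal [Finite G] (h : IsPiHallOf π H L) {N : Subgroup G} (hNL : N ≤ L) (hn : L ≤ normalizer (N : Set G)) :
    IsPiHallOf π (H ⊓ N) N := by
  refine mk' inf_le_right (pi_mono (pi h) inf_le_left) ((index h).dvd ?_)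
  rw [Subgroup.inf_relIndex_right]
  exact H1.HC.relIndex_dvd_relIndex_of_normal hNL hn

/-- The normal Hall subgroup is unique. -/
theorem eq_of_normal [Finite G] (h : IsPiHallOf π H L) (hn : L ≤ normalizer (H : Set G)) (hK : IsPiHallOf π K L) : K = H := by
  have h1 := normal_le hK h.1 (pi h) hn
  exact eq_of_le h hK.1 (pi hK) h1

theorem sylow_trans [Finite G] {p : ℕ} [hp : Fact p.Prime] {P : Subgroup G} (h : IsPiHallOf π H L) (hpi : p ∈ π) (hP : IsSylIn p P H) : IsSylIn p P L := by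
  refine ⟨hP.1.trans h.1, hP.2.1, ?_⟩
  rw [← Subgroup.relIndex_mul_relIndex P H L hP.1 h.1]
  intro hd
  rcases hp.out.dvd_mul.1 hd with hd | hd
  · exact hP.2.2 hd
  · exact h.2.2 p hp.out hpi hd

theorem sylow_conj_le [Finite G] {p : ℕ} [hp : Fact p.Prime] {P : Subgroup G} (h : IsPiHallOf π H L) (hpi : p ∈ π) (hP : IsPGroup p P) (hPL : P ≤ L) :
    ∃ l ∈ L, cj l P ≤ H := by
  obtain ⟨Q, hQ⟩ := exists_isSylIn (p := p) H
  have h1 := sylow_trans h hpi hQ
  obtain ⟨l, hl, h2⟩ := h1.exists_conj_le hP hPL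
  exact ⟨l, hl, h2.trans hQ.1⟩

theorem dvd_iff [Finite G] {p : ℕ} (hp : p.Prime) (h : IsPiHallOf π H L) (hpi : p ∈ π) : p ∣ Nat.card H ↔ p ∣ Nat.card L := by
  constructor
  · intro h1; exact h1.trans (Subgroup.card_dvd_of_le h.1)
  · intro h1
    rw [← relIndex_mul h.1] at h1
    exact (hp.dvd_mul.1 h1).resolve_left (h.2.2 p hp hpi)

/-- complement of a normal Hall subgroup -/
theorem inf_eq_bot [Finite G] {N : Subgroup G} (hN : PiNum π (Nat.card N)) (hK : PiNum πᶜ (Nat.card K)) : N ⊓ K = ⊥ :=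
  H22.Basic.inf_eq_bot_of_coprime (hN.coprime hK)

theorem card_mul [Finite G] {N : Subgroup G} (hN : IsPiHallOf π N L) (hK : IsPiHallOf πᶜ K L) :
    Nat.card N * Nat.card K = Nat.card L := by
  have h1 := relIndex_mul hN.1
  have h2 := relIndex_mul hK.1
  have h3 : (Nat.card N).Coprime (Nat.card K) := (pi hN).coprime (pi hK)
  have h4 : Nat.card N * Nat.card K ∣ Nat.card L :=
    h3.mul_dvd_of_dvd_of_dvd (Subgroup.card_dvd_of_le hN.1) (Subgroup.card_dvd_of_le hK.1)
  obtain ⟨m, hm⟩ := h4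
  have hm1 : m = 1 := by
    by_contra hne
    obtain ⟨q, hq, hqm⟩ := Nat.exists_prime_and_dvd hne
    by_cases hqpi : q ∈ π
    · refine hN.2.2 q hq hqpi ?_
      have h5 : N.relIndex L = Nat.card K * m := by
        have : N.relIndex L * Nat.card N = Nat.card K * m * Nat.card N := by rw [h1, hm]; ring
        exact Nat.eq_of_mul_eq_mul_right Nat.card_pos this
      rw [h5]; exact hqm.mul_left _
    · refine hK.2.2 q hq hqpi ?_
      have h5 : K.relIndex L = Nat.card N * m := by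
        have : K.relIndex L * Nat.card K = Nat.card N * m * Nat.card K := by rw [h2, hm]; ring
        exact Nat.eq_of_mul_eq_mul_right Nat.card_pos this
      rw [h5]; exact hqm.mul_left _
  rw [hm, hm1, mul_one]

theorem sup_eq [Finite G] {N : Subgroup G} (hN : IsPiHallOf π N L) (hK : IsPiHallOf πᶜ K L) (hn : L ≤ normalizer (N : Set G)) :
    K ⊔ N = L := by
  apply Subgroup.eq_of_le_of_card_ge (sup_le hK.1 hN.1)
  rw [H1.Coprime.card_sup_of_le_normalizer (hK.1.trans hn) (by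
    rw [inf_comm]; exact inf_eq_bot (pi hN) (pi hK)), ← card_mul hN hK, mul_comm]

theorem isComplIn [Finite G] {N : Subgroup G} (hN : IsPiHallOf π N L) (hK : IsPiHallOf πᶜ K L) (hn : L ≤ normalizer (N : Set G)) :
    IsComplIn K N L := by
  refine ⟨hK.1, hN.1, by rw [inf_comm]; exact inf_eq_bot (pi hN) (pi hK), ?_⟩
  intro m hm
  rw [← sup_eq hN hK hn, sup_comm, H22.Basic.mem_sup_of_le_normalizer' (hK.1.trans hn)] at hm
  obtain ⟨k, hk, n, hn, rfl⟩ := hm
  exact ⟨k, hk, n, hn, rfl⟩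

theorem compl_sup {A B M : Subgroup G} (h : IsComplIn A B M) : A ⊔ B = M := by
  apply le_antisymm (sup_le h.1 h.2.1)
  intro m hm
  obtain ⟨a, ha, b, hb, rfl⟩ := h.2.2.2 m hm
  exact mul_mem (le_sup_left (a := A) ha) (le_sup_right (a := A) hb)

/-- A complement to a Hall subgroup is a Hall subgroup for the complementary set. -/
theorem of_compl [Finite G] {N E M : Subgroup G} (hN : IsPiHallOf π N M) (hE : IsComplIn E N M) :
    IsPiHallOf πᶜ E M := by
  have h1 := IsComplIn_card hE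
  have h2 := relIndex_mul hN.1
  have h3 := relIndex_mul hE.1
  have h4 : Nat.card E = N.relIndex M := by
    rw [← h1] at h2
    exact (Nat.eq_of_mul_eq_mul_right Nat.card_pos h2).symm
  have h5 : E.relIndex M = Nat.card N := by
    rw [← h1, mul_comm] at h3
    exact Nat.eq_of_mul_eq_mul_left Nat.card_pos h3
  refine mk' hE.1 ?_ ?_
  · rw [h4]; exact index hN
  · rw [h5, compl_compl]; exact pi hN

/-- Hall's Frattini argument inside `L`. -/
theorem frattini [Finite G] {N : Subgroup G} (hsol : Group.IsSolvable N) (h : IsPiHallOf π H N) (hNL : N ≤ L) (hn : L ≤ normalizer (N : Set G)) :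
    ∀ g ∈ L, ∃ n ∈ N, ∃ m ∈ L ⊓ normalizer (H : Set G), g = n * m := by
  intro g hg
  have h1 := conj_mem h (hn hg)
  obtain ⟨l, hl, h2⟩ := hall_conj hsol h1 h
  refine ⟨l⁻¹, inv_mem hl, l * g, Subgroup.mem_inf.2 ⟨mul_mem (hNL hl) hg, ?_⟩, by group⟩
  rw [H13.Syl.mem_normalizer_iff_cj, H13.Syl.cj_mul]
  exact h2

theorem frattini_sup [Finite G] {N : Subgroup G} (hsol : Group.IsSolvable N) (h : IsPiHallOf π H N) (hNL : N ≤ L) (hn : L ≤ normalizer (N : Set G)) :
    N ⊔ (L ⊓ normalizer (H : Set G)) = L := by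
  apply le_antisymm (sup_le hNL inf_le_left)
  intro g hg
  obtain ⟨n, hn', m, hm, rfl⟩ := frattini hsol h hNL hn g hg
  exact mul_mem (le_sup_left (a := N) hn') (le_sup_right (a := N) hm)

theorem relIndex_map_dvd' {G' : Type*} [Group G'] (f : G →* G') {A B : Subgroup G} (_hAB : A ≤ B) :
    (A.map f).relIndex (B.map f) ∣ A.relIndex B := by
  have h1 : (A.subgroupOf B).map (f.subgroupMap B) ≤ (A.map f).subgroupOf (B.map f) := by
    rintro _ ⟨x, hx, rfl⟩
    rw [Subgroup.mem_subgroupOf]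
    exact ⟨x, Subgroup.mem_subgroupOf.1 hx, rfl⟩
  have h2 : ((A.map f).subgroupOf (B.map f)).index ∣ ((A.subgroupOf B).map (f.subgroupMap B)).index :=
    Subgroup.index_dvd_of_le h1
  exact h2.trans (Subgroup.index_map_dvd _ (f.subgroupMap_surjective B))

theorem map [Finite G] {G' : Type*} [Group G'] (f : G →* G') (h : IsPiHallOf π H L) : IsPiHallOf π (H.map f) (L.map f) := 
  ⟨Subgroup.map_mono h.1, (pi h).dvd (Subgroup.card_map_dvd H f), fun p hp hpi hd => 
    h.2.2 p hp hpi (hd.trans (relIndex_map_dvd' f h.1))⟩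

/-- `A`-invariant Hall subgroups under coprime action: existence -/
theorem inv_exists [Finite G] {A : Subgroup G} (hAK : A ≤ normalizer (K : Set G)) (hcop : (Nat.card A).Coprime (Nat.card K))
    (hsol : Group.IsSolvable K) (π : Set ℕ) : ∃ H, IsPiHallOf π H K ∧ A ≤ normalizer (H : Set G) := by
  obtain ⟨S, hS⟩ := exists_hall hsol π
  obtain ⟨k, hk, h1⟩ := H1.Coprime.exists_invariant_conj hAK hcop (Or.inr hsol) S (by
    intro a ha
    obtain ⟨l, hl, h2⟩ := hall_conj hsol hS (conj_mem hS (hAK ha))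
    exact ⟨l, hl, h2.symm⟩)
  exact ⟨_, conj_mem hS (Subgroup.le_normalizer hk), h1⟩

/-- ... conjugacy under `C_K(A)` -/
theorem inv_conj [Finite G] {A : Subgroup G} (hAK : A ≤ normalizer (K : Set G)) (hcop : (Nat.card A).Coprime (Nat.card K))
    (hsol : Group.IsSolvable K) {H₁ H₂ : Subgroup G} (h1 : IsPiHallOf π H₁ K) (h2 : IsPiHallOf π H₂ K)
    (n1 : A ≤ normalizer (H₁ : Set G)) (n2 : A ≤ normalizer (H₂ : Set G)) :
    ∃ c ∈ K ⊓ centralizer (A : Set G), cj c H₁ = H₂ := by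
  obtain ⟨k, hk, h3⟩ := hall_conj hsol h1 h2
  exact H1.Coprime.invariant_conj_centralizer hAK hcop (Or.inr hsol) n1 n2 hk h3

end Cfsg.Agent.H12.Hall
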