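import Mathlib
import Cfsg.Agent.H12_Core

/-!
Absolutely irreducible representations of groups of extraspecial type admitting an
automorphism of odd prime order centralizing the center (the dimension count behind the
fixed point theorem for odd solvable groups).
-/

set_option autoImplicit false
open Subgroup Cfsg
open scoped commutatorElement

namespace Cfsg.Agent.H12.RepE

section Burn
variable {k M : Type*} [Field k] [IsAlgClosed k] [AddCommGroup M] [Module k M] [FiniteDimensional k M]

/-- An endomorphism commuting with an irreducible set of endomorphisms is a scalar. -/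
theorem schur [Nontrivial M] (X : Set (Module.End k M))
    (hirr : ∀ W : Submodule k M, (∀ a ∈ X, ∀ w ∈ W, a w ∈ W) → W = ⊥ ∨ W = ⊤)
    (f : Module.End k M) (hf : ∀ a ∈ X, a * f = f * a) : ∃ c : k, f = c • (1 : Module.End k M) := by
  obtain ⟨c, hc⟩ := Module.End.exists_eigenvalue f
  refine ⟨c, ?_⟩
  have h1 := hirr (Module.End.eigenspace f c) (by
    intro a ha w hw
    rw [Module.End.mem_eigenspace_iff] at hw ⊢
    have := congrArg (fun g : Module.End k M => g w) (hf a ha)
    simp only [Module.End.mul_apply] at this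
    rw [← this, hw, map_smul])
  rcases h1 with h | h
  · exact absurd h hc
  · ext v
    have hv : v ∈ Module.End.eigenspace f c := by rw [h]; trivial
    rw [Module.End.mem_eigenspace_iff] at hv
    simpa using hv

/-- Burnside's theorem. -/
theorem burnside [Nontrivial M] (A : Subalgebra k (Module.End k M))
    (hirr : ∀ W : Submodule k M, (∀ a ∈ A, ∀ w ∈ W, a w ∈ W) → W = ⊥ ∨ W = ⊤) : A = ⊤ := by
  classical
  have hsim : IsSimpleModule A M := by
    have : IsSimpleOrder (Submodule A M) := by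
      refine { exists_pair_ne := ⟨⊥, ⊤, bot_ne_top⟩, eq_bot_or_eq_top := fun W => ?_ }
      rcases hirr (W.restrictScalars k) (fun a ha w hw => W.smul_mem (⟨a, ha⟩ : A) hw) with h | h
      · left
        rw [eq_bot_iff]
        intro x hx
        have : x ∈ W.restrictScalars k := hx
        rw [h] at this
        simpa using this
      · right
        rw [eq_top_iff]
        intro x _
        have : x ∈ W.restrictScalars k := by rw [h]; trivial
        exact this
    exact IsSimpleModule.mk
  have hsc : ∀ φ : Module.End A M, ∃ c : k, ∀ v : M, φ v = c • v := by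
    intro φ
    obtain ⟨c, hc⟩ := schur (A : Set (Module.End k M)) hirr (φ.restrictScalars k) (by
      intro a ha
      ext v
      show a (φ v) = φ (a v)
      exact (map_smul φ (⟨a, ha⟩ : A) v).symm)
    refine ⟨c, fun v => ?_⟩
    have := congrArg (fun g : Module.End k M => g v) hc
    simpa using this
  rw [eq_top_iff]
  intro f _
  let F : Module.End (Module.End A M) M :=
    { toFun := f
      map_add' := map_add f
      map_smul' := by
        intro φ v
        obtain ⟨c, hc⟩ := hsc φ
        show f (φ v) = φ (f v)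
        rw [hc, hc, map_smul] }
  let b := Module.finBasis k M
  obtain ⟨r, hr⟩ := jacobson_density (R := A) F (Finset.univ.image b)
  have : f = (r : Module.End k M) := by
    apply b.ext
    intro i
    exact hr (b i) (Finset.mem_image_of_mem _ (Finset.mem_univ i))
  rw [this]
  exact r.2

/-- A diagonalizable endomorphism has an eigenbasis. -/
theorem exists_eigenbasis (f : Module.End k M) (n : ℕ) (hn : (n : k) ≠ 0) (hf : f ^ n = 1) :
    ∃ (b : Module.Basis (Fin (Module.finrank k M)) k M) (ζ : Fin (Module.finrank k M) → k),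
      (∀ i, f (b i) = ζ i • b i) ∧ ∀ i, ζ i ^ n = 1 := by
  classical
  have hss : f.IsSemisimple := by
    apply Module.End.isSemisimple_of_squarefree_aeval_eq_zero
      (p := (Polynomial.X ^ n - 1 : Polynomial k))
    · have := Polynomial.separable_X_pow_sub_C (F := k) (n := n) 1 hn one_ne_zero
      simpa using this.squarefree
    · simp [hf]
  have htop := hss.iSup_eigenspace_eq_top
  have hind := f.eigenspaces_iSupIndep
  have hint : DirectSum.IsInternal (fun μ : k => f.eigenspace μ) :=
    DirectSum.isInternal_submodule_of_iSupIndep_of_iSup_eq_top hind htop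
  let B := hint.collectedBasis (fun μ => Module.finBasis k (f.eigenspace μ))
  have : Finite (Σ μ : k, Fin (Module.finrank k (f.eigenspace μ))) := Module.Finite.finite_basis B
  have : Fintype (Σ μ : k, Fin (Module.finrank k (f.eigenspace μ))) := Fintype.ofFinite _
  have hcard : Fintype.card (Σ μ : k, Fin (Module.finrank k (f.eigenspace μ)))
      = Module.finrank k M := (Module.finrank_eq_card_basis B).symm
  let e := Fintype.equivFinOfCardEq hcard
  have hB : ∀ a, f (B a) = a.1 • B a := by
    intro a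
    have : B a ∈ f.eigenspace a.1 := by
      exact hint.collectedBasis_mem _ a
    exact Module.End.mem_eigenspace_iff.mp this
  refine ⟨B.reindex e, fun i => (e.symm i).1, ?_, ?_⟩
  · intro i
    simp only [Module.Basis.reindex_apply]
    exact hB _
  · intro i
    have h1 : ∀ m : ℕ, (f ^ m) (B (e.symm i)) = ((e.symm i).1) ^ m • B (e.symm i) := by
      intro m
      induction m with
      | zero => simp
      | succ m ih =>
        rw [pow_succ, Module.End.mul_apply, hB, map_smul, ih, smul_smul, pow_succ, mul_comm]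
    have h2 := h1 n
    rw [hf] at h2
    have h3 : B (e.symm i) ≠ 0 := B.ne_zero _
    have h4 : ((1 : k) - (e.symm i).1 ^ n) • B (e.symm i) = 0 := by
      rw [sub_smul, one_smul, ← h2]; simp
    rcases smul_eq_zero.mp h4 with h | h
    · exact (sub_eq_zero.mp h).symm
    · exact absurd h h3

/-- If `s ^ r = 1` and the norm `∑ s ^ i` vanishes then the commutant of `s` is large. -/
theorem commutant_lower {r : ℕ} (hr : 2 ≤ r) (hrk : (r : k) ≠ 0) (s : Module.End k M) (hs : s ^ r = 1)
    (htr : ∑ i ∈ Finset.range r, s ^ i = 0) (C : Submodule k (Module.End k M))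
    (hC : ∀ a, s * a = a * s → a ∈ C) :
    Module.finrank k M ^ 2 ≤ (r - 1) * Module.finrank k C := by
  classical
  obtain ⟨d, hd0, b, ζ, hb, hζ⟩ : ∃ d, Module.finrank k M = d ∧
      ∃ (b : Module.Basis (Fin d) k M) (ζ : Fin d → k), (∀ i, s (b i) = ζ i • b i) ∧ ∀ i, ζ i ^ r = 1 := by
    obtain ⟨b, ζ, hb, hζ⟩ := exists_eigenbasis s r hrk hs
    exact ⟨_, rfl, b, ζ, hb, hζ⟩
  rw [hd0]
  have hpow : ∀ (m : ℕ) (i : Fin d), (s ^ m) (b i) = (ζ i) ^ m • b i := by
    intro m i
    induction m with
    | zero => simp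
    | succ m ih =>
      rw [pow_succ, Module.End.mul_apply, hb, map_smul, ih, smul_smul, pow_succ, mul_comm]
  have hζ1 : ∀ i, ζ i ≠ 1 := by
    intro i h1
    have h2 := congrArg (fun g : Module.End k M => g (b i)) htr
    simp only [LinearMap.sum_apply, hpow, h1, one_pow, one_smul, Finset.sum_const,
      Finset.card_range, LinearMap.zero_apply] at h2
    rw [← Nat.cast_smul_eq_nsmul k] at h2
    rcases smul_eq_zero.mp h2 with h | h
    · exact hrk h
    · exact b.ne_zero _ h
  -- the number of eigenvalues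
  set S : Finset k := Finset.univ.image ζ with hS
  have hScard : S.card ≤ r - 1 := by
    have h1 : S ⊆ (Polynomial.nthRootsFinset r (1 : k)).erase 1 := by
      intro x hx
      rw [hS, Finset.mem_image] at hx
      obtain ⟨i, -, rfl⟩ := hx
      rw [Finset.mem_erase]
      exact ⟨hζ1 i, (Polynomial.mem_nthRootsFinset (by omega) 1).mpr (hζ i)⟩
    have h2 := Finset.card_le_card h1
    have h3 : (1 : k) ∈ Polynomial.nthRootsFinset r (1 : k) :=
      (Polynomial.mem_nthRootsFinset (by omega) 1).mpr (one_pow _)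
    rw [Finset.card_erase_of_mem h3] at h2
    have h4 : (Polynomial.nthRootsFinset r (1 : k)).card ≤ r := by
      unfold Polynomial.nthRootsFinset
      exact (Multiset.toFinset_card_le _).trans (Polynomial.card_nthRoots r 1)
    omega
  -- the commuting matrix units
  let B := b.linearMap b
  have hB : ∀ p : {p : Fin d × Fin d // ζ p.1 = ζ p.2}, B p.1 ∈ C := by
    intro p
    apply hC
    apply b.ext
    intro l
    obtain ⟨⟨i, j⟩, hp⟩ := p
    simp only at hp
    rw [Module.End.mul_apply, Module.End.mul_apply, hb, map_smul,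
      Module.Basis.linearMap_apply_apply]
    simp only
    split_ifs with h
    · rw [hb, hp, h]
    · simp
  let v : {p : Fin d × Fin d // ζ p.1 = ζ p.2} → C := fun p => ⟨B p.1, hB p⟩
  have hv : LinearIndependent k v := by
    have h1 : LinearIndependent k (fun p : {p : Fin d × Fin d // ζ p.1 = ζ p.2} => B p.1) :=
      B.linearIndependent.comp _ Subtype.val_injective
    exact LinearIndependent.of_comp C.subtype h1
  have hcard := hv.fintype_card_le_finrank
  -- counting
  have hcount : Fintype.card {p : Fin d × Fin d // ζ p.1 = ζ p.2}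
      = ∑ x ∈ S, ((Finset.univ.filter (fun i => ζ i = x)).card) ^ 2 := by
    rw [Fintype.card_subtype]
    rw [Finset.card_eq_sum_card_fiberwise (f := fun p : Fin d × Fin d => ζ p.1) (t := S)]
    · apply Finset.sum_congr rfl
      intro x hx
      rw [pow_two, ← Finset.card_product]
      congr 1
      ext ⟨i, j⟩
      simp only [Finset.mem_filter, Finset.mem_univ, true_and, Finset.mem_product]
      constructor
      · rintro ⟨h1, h2⟩
        exact ⟨h2, by rw [← h1]; exact h2⟩
      · rintro ⟨h1, h2⟩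
        exact ⟨by rw [h1, h2], h1⟩
    · intro p _
      exact Finset.mem_image_of_mem _ (Finset.mem_univ _)
  have hd : d = ∑ x ∈ S, (Finset.univ.filter (fun i => ζ i = x)).card := by
    have h1 := Finset.card_eq_sum_card_fiberwise (s := (Finset.univ : Finset (Fin d))) (f := ζ) (t := S)
      (fun i _ => Finset.mem_image_of_mem _ (Finset.mem_univ _))
    rw [Finset.card_univ, Fintype.card_fin] at h1
    exact h1
  calc d ^ 2 = (∑ x ∈ S, (Finset.univ.filter (fun i => ζ i = x)).card) ^ 2 := by rw [← hd]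
    _ ≤ S.card * ∑ x ∈ S, ((Finset.univ.filter (fun i => ζ i = x)).card) ^ 2 :=
        sq_sum_le_card_mul_sum_sq
    _ = S.card * Fintype.card {p : Fin d × Fin d // ζ p.1 = ζ p.2} := by rw [hcount]
    _ ≤ (r - 1) * Module.finrank k C := Nat.mul_le_mul hScard hcard

end Burn

section Core
variable {k M K : Type*} [Field k] [AddCommGroup M] [Module k M] [Nontrivial M] [Group K]

omit [Nontrivial M] in
theorem exists_chi (ρ : K →* Module.End k M) (Z : Subgroup K)
    (hZs : ∀ z ∈ Z, ∃ c : k, ρ z = c • (1 : Module.End k M))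
    (hZc : ∀ x y : K, x * y * x⁻¹ * y⁻¹ ∈ Z) (y t : K) :
    ∃ χ : k, ρ y * ρ t = χ • (ρ t * ρ y) := by
  obtain ⟨c, hc⟩ := hZs _ (hZc y t)
  refine ⟨c, ?_⟩
  rw [← map_mul, ← map_mul, show y * t = (y * t * y⁻¹ * t⁻¹) * (t * y) from by group, map_mul, hc]
  simp

theorem unit_ne_zero (ρ : K →* Module.End k M) (x : K) : ρ x ≠ 0 := by
  intro h
  have h1 : ρ x * ρ x⁻¹ = 1 := by rw [← map_mul]; simp
  rw [h, zero_mul] at h1
  exact zero_ne_one h1

/-- Elements in distinct cosets of `Z` act by linearly independent endomorphisms. -/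
theorem li (ρ : K →* Module.End k M) (Z : Subgroup K)
    (hZs : ∀ z ∈ Z, ∃ c : k, ρ z = c • (1 : Module.End k M))
    (hZc : ∀ x y : K, x * y * x⁻¹ * y⁻¹ ∈ Z)
    (hnd : ∀ x, x ∉ Z → ∃ y, ρ (x * y * x⁻¹ * y⁻¹) ≠ 1) {ι : Type*} (S : Finset ι) (t : ι → K)
    (ht : ∀ i ∈ S, ∀ j ∈ S, i ≠ j → (t i)⁻¹ * t j ∉ Z) (c : ι → k)
    (h : ∑ i ∈ S, c i • ρ (t i) = 0) : ∀ i ∈ S, c i = 0 := by
  classical
  choose χ hχ using exists_chi ρ Z hZs hZc
  have hχ0 : ∀ y t, χ y t ≠ 0 := by
    intro y t h0
    have := hχ y t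
    rw [h0, zero_smul, ← map_mul] at this
    exact unit_ne_zero ρ _ this
  induction S using Finset.induction_on generalizing c with
  | empty => intro i hi; simp at hi
  | insert j S hj ih =>
    have key : ∀ y : K, ∑ i ∈ S, (c i * (χ y (t i) - χ y (t j))) • ρ (t i) = 0 := by
      intro y
      have h1 : ∑ i ∈ insert j S, (c i * χ y (t i)) • ρ (t i) = 0 := by
        have h2 : ρ y * (∑ i ∈ insert j S, c i • ρ (t i)) * ρ y⁻¹ = 0 := by rw [h]; simp
        rw [Finset.mul_sum, Finset.sum_mul] at h2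
        rw [← h2]
        apply Finset.sum_congr rfl
        intro i _
        rw [mul_smul_comm, hχ y (t i), smul_smul, smul_mul_assoc, mul_assoc, ← map_mul ρ y,
          mul_inv_cancel, map_one, mul_one]
      have h3 : ∑ i ∈ insert j S, (c i * (χ y (t i) - χ y (t j))) • ρ (t i) = 0 := by
        have : ∀ i, (c i * (χ y (t i) - χ y (t j))) • ρ (t i)
            = (c i * χ y (t i)) • ρ (t i) - χ y (t j) • (c i • ρ (t i)) := by
          intro i
          rw [smul_smul, ← sub_smul]
          congr 1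
          ring
        simp_rw [this]
        rw [Finset.sum_sub_distrib, h1, ← Finset.smul_sum, h]
        simp
      rw [Finset.sum_insert hj, sub_self, mul_zero, zero_smul, zero_add] at h3
      exact h3
    have hS : ∀ i ∈ S, c i = 0 := by
      intro i hi
      have hij : i ≠ j := fun e => hj (e ▸ hi)
      obtain ⟨y, hy⟩ := hnd _ (ht i (Finset.mem_insert_of_mem hi) j (Finset.mem_insert_self j S) hij)
      have h1 := ih (fun a ha b hb hab => ht a (Finset.mem_insert_of_mem ha) b
        (Finset.mem_insert_of_mem hb) hab) _ (key y) i hi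
      rcases mul_eq_zero.mp h1 with h2 | h2
      · exact h2
      · exfalso
        apply hy
        rw [sub_eq_zero] at h2
        -- ρ (y x) = ρ (x y)
        have e1 : ρ (t i) * ρ y = (χ y (t i))⁻¹ • (ρ y * ρ (t i)) := by
          rw [hχ y (t i), smul_smul, inv_mul_cancel₀ (hχ0 _ _), one_smul]
        have e2 : ρ y * ρ ((t i)⁻¹ * t j) = ρ ((t i)⁻¹ * t j) * ρ y := by
          calc ρ y * ρ ((t i)⁻¹ * t j)
              = ρ (t i)⁻¹ * (ρ (t i) * ρ y) * ρ ((t i)⁻¹ * t j) := by
                rw [← mul_assoc, ← map_mul ρ (t i)⁻¹, inv_mul_cancel, map_one, one_mul]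
            _ = ρ (t i)⁻¹ * ((χ y (t i))⁻¹ • (ρ y * ρ (t i))) * ρ ((t i)⁻¹ * t j) := by rw [e1]
            _ = (χ y (t i))⁻¹ • (ρ (t i)⁻¹ * (ρ y * (ρ (t i) * ρ ((t i)⁻¹ * t j)))) := by
                rw [mul_smul_comm, smul_mul_assoc]
                simp only [mul_assoc]
            _ = (χ y (t i))⁻¹ • (ρ (t i)⁻¹ * (ρ y * ρ (t j))) := by
                rw [← map_mul ρ (t i), mul_inv_cancel_left]
            _ = ρ (t i)⁻¹ * (ρ (t j) * ρ y) := by
                rw [hχ y (t j), h2, mul_smul_comm, smul_smul, inv_mul_cancel₀ (hχ0 _ _), one_smul]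
            _ = ρ ((t i)⁻¹ * t j) * ρ y := by rw [map_mul, mul_assoc]
        have e3 : (t i)⁻¹ * t j * y * ((t i)⁻¹ * t j)⁻¹ * y⁻¹
            = ((t i)⁻¹ * t j * y) * (y * ((t i)⁻¹ * t j))⁻¹ := by group
        rw [e3, map_mul, map_mul ρ ((t i)⁻¹ * t j) y, ← e2, ← map_mul, ← map_mul, mul_inv_cancel,
          map_one]
    intro i hi
    rcases Finset.mem_insert.mp hi with rfl | hi
    · rw [Finset.sum_insert hj, Finset.sum_eq_zero (fun i hi => by rw [hS i hi, zero_smul]),
        add_zero] at h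
      rcases smul_eq_zero.mp h with h | h
      · exact h
      · exact absurd h (unit_ne_zero ρ _)
    · exact hS i hi

/-- The canonical element implementing the automorphism `τ`. -/
noncomputable def fq (Z : Subgroup K) (τ : K ≃* K) (hτZ : ∀ z ∈ Z, τ z = z) : K ⧸ Z → K :=
  Quotient.lift (fun y => τ y * y⁻¹) (by
    intro a b hab
    have h1 : a⁻¹ * b ∈ Z := QuotientGroup.leftRel_apply.mp hab
    have h2 := hτZ _ h1
    rw [map_mul, map_inv] at h2
    show τ a * a⁻¹ = τ b * b⁻¹
    have h3 : τ b = τ a * (a⁻¹ * b) := by rw [← h2]; group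
    rw [h3]; group)

omit [Nontrivial M] in
theorem fq_mk (Z : Subgroup K) (τ : K ≃* K) (hτZ : ∀ z ∈ Z, τ z = z) (y : K) :
    fq Z τ hτZ (y : K ⧸ Z) = τ y * y⁻¹ := rfl

variable [IsAlgClosed k] [FiniteDimensional k M] [Finite K]

theorem span_range (ρ : K →* Module.End k M) (τ : K ≃* K) (s : Module.End k M) (s' : Module.End k M)
    (hss' : s * s' = 1) (hs's : s' * s = 1)
    (hcomm : ∀ x, s * ρ x = ρ (τ x) * s) (Z : Subgroup K) [Z.Normal]
    (hZs : ∀ z ∈ Z, ∃ c : k, ρ z = c • (1 : Module.End k M))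
    (hZc : ∀ x y : K, x * y * x⁻¹ * y⁻¹ ∈ Z)
    (hτZ : ∀ z ∈ Z, τ z = z) (hτfix : ∀ x, τ x * x⁻¹ ∈ Z → x ∈ Z)
    (hnd : ∀ x, x ∉ Z → ∃ y, ρ (x * y * x⁻¹ * y⁻¹) ≠ 1)
    (hirr : ∀ W : Submodule k M, (∀ x, ∀ w ∈ W, ρ x w ∈ W) → (∀ w ∈ W, s w ∈ W) → W = ⊥ ∨ W = ⊤) :
    Submodule.span k (Set.range ρ) = ⊤ := by
  classical
  have : Fintype (K ⧸ Z) := Fintype.ofFinite _
  set f := fq Z τ hτZ with hf
  set u : Module.End k M := ∑ c : K ⧸ Z, ρ (f c) with hu
  -- u implements τ
  have u1 : ∀ x, ρ (τ x) * u = u * ρ x := by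
    intro x
    have h1 : ∀ c : K ⧸ Z, τ x * f c = f ((x : K ⧸ Z) * c) * x := by
      intro c
      induction c using QuotientGroup.induction_on with
      | H y =>
        rw [← QuotientGroup.mk_mul, hf, fq_mk, fq_mk, map_mul]
        group
    rw [hu, Finset.mul_sum, Finset.sum_mul]
    rw [← Equiv.sum_comp (Equiv.mulLeft (x : K ⧸ Z)) (fun c => ρ (f c) * ρ x)]
    apply Finset.sum_congr rfl
    intro c _
    rw [← map_mul, h1, map_mul]
    rfl
  have hmapZ : Z.map (τ : K →* K) = Z := by
    ext z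
    constructor
    · rintro ⟨w, hw, rfl⟩
      show τ w ∈ Z
      rw [hτZ w hw]; exact hw
    · intro hz
      exact ⟨z, hz, hτZ z hz⟩
  set e : (K ⧸ Z) ≃* (K ⧸ Z) := QuotientGroup.congr Z Z τ hmapZ with he
  have u2 : s * u = u * s := by
    have h1 : ∀ c : K ⧸ Z, τ (f c) = f (e c) := by
      intro c
      induction c using QuotientGroup.induction_on with
      | H y =>
        rw [he, QuotientGroup.congr_mk, hf, fq_mk]
        show τ (τ y * y⁻¹) = τ (τ y) * (τ y)⁻¹
        rw [map_mul, map_inv]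
    rw [hu, Finset.mul_sum, Finset.sum_mul]
    rw [← Equiv.sum_comp e.toEquiv (fun c => ρ (f c) * s)]
    apply Finset.sum_congr rfl
    intro c _
    rw [hcomm, h1]
    rfl
  have u3 : u ≠ 0 := by
    intro h0
    have h1 := li ρ Z hZs hZc hnd (Finset.univ : Finset (K ⧸ Z)) f (by
      intro c _ d _ hcd
      induction c using QuotientGroup.induction_on with
      | H a =>
      induction d using QuotientGroup.induction_on with
      | H b =>
        intro hmem
        apply hcd
        rw [QuotientGroup.eq]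
        apply hτfix
        rw [hf, fq_mk, fq_mk] at hmem
        have h2 := Subgroup.Normal.conj_mem ‹Z.Normal› _ hmem a⁻¹
        have h3 : a⁻¹ * ((τ a * a⁻¹)⁻¹ * (τ b * b⁻¹)) * a⁻¹⁻¹ = τ (a⁻¹ * b) * (a⁻¹ * b)⁻¹ := by
          rw [map_mul, map_inv]; group
        rw [h3] at h2
        exact h2) (fun _ => 1) (by simpa [hu] using h0) (((1 : K) : K ⧸ Z)) (Finset.mem_univ _)
    exact one_ne_zero h1
  obtain ⟨c, hc⟩ := schur (Set.range ρ ∪ {s}) (by
    intro W hW
    apply hirr W
    · intro x w hw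
      exact hW _ (Or.inl ⟨x, rfl⟩) w hw
    · intro w hw
      exact hW _ (Or.inr rfl) w hw) (s' * u) (by
    rintro a (⟨x, rfl⟩ | rfl)
    · have h1 : ρ x * s' = s' * ρ (τ x) := by
        calc ρ x * s' = s' * (s * ρ x) * s' := by rw [← mul_assoc, hs's, one_mul]
          _ = s' * ρ (τ x) * (s * s') := by rw [hcomm]; simp only [mul_assoc]
          _ = s' * ρ (τ x) := by rw [hss', mul_one]
      rw [← mul_assoc, h1, mul_assoc, u1, mul_assoc]
    · rw [← mul_assoc, hss', one_mul, mul_assoc, ← u2, ← mul_assoc, hs's, one_mul])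
  have hu' : u = c • s := by
    calc u = (s * s') * u := by rw [hss', one_mul]
      _ = s * (s' * u) := by rw [mul_assoc]
      _ = c • s := by rw [hc]; simp
  have hc0 : c ≠ 0 := by
    rintro rfl
    rw [zero_smul] at hu'
    exact u3 hu'
  -- K irreducible
  have hirrK : ∀ W : Submodule k M, (∀ x, ∀ w ∈ W, ρ x w ∈ W) → W = ⊥ ∨ W = ⊤ := by
    intro W hW
    refine hirr W hW ?_
    intro w hw
    have h1 : s w = c⁻¹ • u w := by
      rw [hu']; simp [smul_smul, inv_mul_cancel₀ hc0]
    rw [h1]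
    apply W.smul_mem
    rw [hu, LinearMap.sum_apply]
    exact W.sum_mem fun d _ => hW _ w hw
  have hA := burnside (Algebra.adjoin k (Set.range ρ)) (by
    intro W hW
    exact hirrK W fun x w hw => hW _ (Algebra.subset_adjoin ⟨x, rfl⟩) w hw)
  have h1 := Algebra.adjoin_eq_span (R := k) (Set.range ρ)
  rw [hA] at h1
  have h2 : ((Submonoid.closure (Set.range ρ) : Submonoid (Module.End k M)) : Set (Module.End k M))
      = Set.range ρ := by
    have : Set.range ρ = ((MonoidHom.mrange ρ : Submonoid (Module.End k M)) : Set _) := by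
      rw [MonoidHom.coe_mrange]
    rw [this, Submonoid.closure_eq]
  rw [h2] at h1
  rw [← h1]
  rfl

omit [IsAlgClosed k] in
theorem card_eq_sq (ρ : K →* Module.End k M) (Z : Subgroup K) [Z.Normal]
    (hZs : ∀ z ∈ Z, ∃ c : k, ρ z = c • (1 : Module.End k M))
    (hZc : ∀ x y : K, x * y * x⁻¹ * y⁻¹ ∈ Z)
    (hnd : ∀ x, x ∉ Z → ∃ y, ρ (x * y * x⁻¹ * y⁻¹) ≠ 1)
    (hspan : Submodule.span k (Set.range ρ) = ⊤) : Nat.card (K ⧸ Z) = Module.finrank k M ^ 2 := by
  classical
  have : Fintype (K ⧸ Z) := Fintype.ofFinite _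
  rw [Nat.card_eq_fintype_card, pow_two, ← Module.finrank_linearMap (R := k) (S := k)]
  apply le_antisymm
  · apply LinearIndependent.fintype_card_le_finrank (R := k) (b := fun c : K ⧸ Z => ρ c.out)
    rw [Fintype.linearIndependent_iff]
    intro g hg i
    refine li ρ Z hZs hZc hnd Finset.univ (fun c : K ⧸ Z => c.out) ?_ g hg i (Finset.mem_univ i)
    intro a _ b _ hab hmem
    apply hab
    rw [← QuotientGroup.eq] at hmem
    simpa using hmem
  · have h1 : Submodule.span k (Set.range (fun c : K ⧸ Z => ρ c.out)) = ⊤ := by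
      rw [eq_top_iff, ← hspan, Submodule.span_le]
      rintro _ ⟨x, rfl⟩
      have h2 : ((x : K ⧸ Z).out)⁻¹ * x ∈ Z := by
        rw [← QuotientGroup.eq]; simp
      obtain ⟨c, hc⟩ := hZs _ h2
      have h3 : ρ x = c • ρ ((x : K ⧸ Z).out) := by
        calc ρ x = ρ ((x : K ⧸ Z).out) * ρ (((x : K ⧸ Z).out)⁻¹ * x) := by
              rw [← map_mul]; simp
          _ = c • ρ ((x : K ⧸ Z).out) := by rw [hc]; simp
      rw [h3]
      exact Submodule.smul_mem _ _ (Submodule.subset_span ⟨_, rfl⟩)
    have h4 := finrank_range_le_card (R := k) (fun c : K ⧸ Z => ρ c.out)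
    unfold Set.finrank at h4
    rw [h1, finrank_top] at h4
    exact h4

omit [IsAlgClosed k] in
/-- The commutant of `s` is spanned by the averages over orbit representatives. -/
theorem commutant_upper (ρ : K →* Module.End k M) (τ : K ≃* K) (s : Module.End k M) {r : ℕ} (hr : r.Prime)
    (hrk : (r : k) ≠ 0) (hs : s ^ r = 1) (hcomm : ∀ x, s * ρ x = ρ (τ x) * s) (Z : Subgroup K) [Z.Normal]
    (hZs : ∀ z ∈ Z, ∃ c : k, ρ z = c • (1 : Module.End k M))
    (e : Equiv.Perm (K ⧸ Z)) (he : ∀ y : K, e (y : K ⧸ Z) = (τ y : K ⧸ Z)) (her : e ^ r = 1)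
    (hspan : Submodule.span k (Set.range ρ) = ⊤) (C : Submodule k (Module.End k M))
    (hC : ∀ a ∈ C, s * a = a * s) [Fintype (MulAction.orbitRel.Quotient (zpowers e) (K ⧸ Z))] :
    Module.finrank k C ≤ Fintype.card (MulAction.orbitRel.Quotient (zpowers e) (K ⧸ Z)) := by
  classical
  set s' := s ^ (r - 1) with hs'
  have hss' : s * s' = 1 := by
    rw [hs', ← pow_succ', Nat.sub_add_cancel hr.one_lt.le, hs]
  have hs's : s' * s = 1 := by
    rw [hs', ← pow_succ, Nat.sub_add_cancel hr.one_lt.le, hs]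
  have hs'r : s' ^ r = 1 := by
    rw [hs', ← pow_mul, mul_comm, pow_mul, hs, one_pow]
  -- averaging
  let π : Module.End k M →ₗ[k] Module.End k M :=
    { toFun := fun a => ∑ i ∈ Finset.range r, s ^ i * a * s' ^ i
      map_add' := by
        intro a b
        simp only [mul_add, add_mul, Finset.sum_add_distrib]
      map_smul' := by
        intro c a
        simp only [mul_smul_comm, smul_mul_assoc, RingHom.id_apply, Finset.smul_sum] }
  have hπdef : ∀ a, π a = ∑ i ∈ Finset.range r, s ^ i * a * s' ^ i := fun _ => rfl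
  have hπ1 : ∀ a, π (s * a * s') = π a := by
    intro a
    rw [hπdef, hπdef]
    have h1 : ∀ i, s ^ i * (s * a * s') * s' ^ i = s ^ (i + 1) * a * s' ^ (i + 1) := by
      intro i
      rw [pow_succ s, pow_succ' s']
      simp only [mul_assoc]
    simp_rw [h1]
    have h2 := Finset.sum_range_succ' (fun i => s ^ i * a * s' ^ i) r
    have h3 := Finset.sum_range_succ (fun i => s ^ i * a * s' ^ i) r
    rw [h3] at h2
    simp only [hs, hs'r, one_mul, mul_one, pow_zero] at h2
    exact (add_right_cancel h2).symm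
  have hτs : ∀ x, ρ (τ x) = s * ρ x * s' := by
    intro x
    rw [hcomm, mul_assoc, hss', mul_one]
  have hπ2 : ∀ (i : ℕ) (x : K), π (ρ ((τ ^ i) x)) = π (ρ x) := by
    intro i x
    induction i with
    | zero => simp
    | succ i ih =>
      rw [pow_succ', MulAut.mul_apply, hτs, hπ1, ih]
  have hei : ∀ (i : ℕ) (x : K), (e ^ i) (x : K ⧸ Z) = (((τ ^ i) x : K) : K ⧸ Z) := by
    intro i x
    induction i with
    | zero => simp
    | succ i ih =>
      rw [pow_succ', pow_succ', Equiv.Perm.mul_apply, MulAut.mul_apply, ih, he]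
  let h : (MulAction.orbitRel.Quotient (zpowers e) (K ⧸ Z)) → Module.End k M :=
    fun ω => π (ρ (ω.out).out)
  have key : ∀ x : K, π (ρ x) ∈ Submodule.span k (Set.range h) := by
    intro x
    set ω : (MulAction.orbitRel.Quotient (zpowers e) (K ⧸ Z)) := Quotient.mk'' ((x : K ⧸ Z)) with hω
    have h1 : ω.out ∈ MulAction.orbit (zpowers e) ((x : K ⧸ Z)) := by
      have : (Quotient.mk'' ω.out : MulAction.orbitRel.Quotient (zpowers e) (K ⧸ Z))
          = Quotient.mk'' (x : K ⧸ Z) := by
        rw [← hω]; exact Quotient.out_eq' ω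
      exact Quotient.eq''.mp this
    obtain ⟨⟨g, hg⟩, hgx⟩ := h1
    have hg' : ∃ i : ℕ, g = e ^ i := by
      have hfin : IsOfFinOrder e := isOfFinOrder_iff_pow_eq_one.mpr ⟨r, hr.pos, her⟩
      obtain ⟨i, hi⟩ := (hfin.mem_powers_iff_mem_zpowers).mpr hg
      exact ⟨i, hi.symm⟩
    obtain ⟨i, rfl⟩ := hg'
    have h2 : ω.out = (((τ ^ i) x : K) : K ⧸ Z) := by
      rw [← hei]; exact hgx.symm
    have h3 : ((τ ^ i) x)⁻¹ * (ω.out).out ∈ Z := by
      rw [← QuotientGroup.eq, ← h2]; simp
    obtain ⟨c, hc⟩ := hZs _ h3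
    have hc0 : c ≠ 0 := by
      rintro rfl
      rw [zero_smul] at hc
      exact unit_ne_zero ρ _ hc
    have h4 : ρ (ω.out).out = c • ρ ((τ ^ i) x) := by
      calc ρ (ω.out).out = ρ ((τ ^ i) x) * ρ (((τ ^ i) x)⁻¹ * (ω.out).out) := by
            rw [← map_mul]; simp
        _ = c • ρ ((τ ^ i) x) := by rw [hc]; simp
    have h5 : π (ρ x) = c⁻¹ • h ω := by
      show π (ρ x) = c⁻¹ • π (ρ (ω.out).out)
      rw [h4, map_smul, hπ2, smul_smul, inv_mul_cancel₀ hc0, one_smul]
    rw [h5]
    exact Submodule.smul_mem _ _ (Submodule.subset_span ⟨_, rfl⟩)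
  have hle : C ≤ Submodule.span k (Set.range h) := by
    intro a ha
    have h1 : π a = (r : k) • a := by
      rw [hπdef]
      have h2 : ∀ i ∈ Finset.range r, s ^ i * a * s' ^ i = a := by
        intro i _
        have h3 : Commute (s ^ i) a := (show Commute s a from hC a ha).pow_left i
        rw [h3.eq, mul_assoc]
        have h4 : s ^ i * s' ^ i = 1 := by
          rw [← (show Commute s s' from hss'.trans hs's.symm).mul_pow, hss', one_pow]
        rw [h4, mul_one]
      rw [Finset.sum_congr rfl h2, Finset.sum_const, Finset.card_range, Nat.cast_smul_eq_nsmul]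
    have h2 : a = (r : k)⁻¹ • π a := by
      rw [h1, smul_smul, inv_mul_cancel₀ hrk, one_smul]
    rw [h2]
    apply Submodule.smul_mem
    have h3 : a ∈ Submodule.span k (Set.range ρ) := by rw [hspan]; trivial
    have h4 : (Submodule.span k (Set.range ρ)) ≤ (Submodule.span k (Set.range h)).comap π := by
      rw [Submodule.span_le]
      rintro _ ⟨x, rfl⟩
      exact key x
    exact h4 h3
  calc Module.finrank k C ≤ Module.finrank k (Submodule.span k (Set.range h)) :=
        Submodule.finrank_mono hle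
    _ ≤ _ := finrank_range_le_card h

omit [IsAlgClosed k] [FiniteDimensional k M] [Nontrivial M] [Finite K] in
/-- Counting orbits of a permutation of prime order with a unique fixed point. -/
theorem card_orbits {X : Type*} [Finite X] {r : ℕ} (hr : r.Prime) (e : Equiv.Perm X) (her : e ^ r = 1)
    (x0 : X) (hx0 : ∀ x, e x = x ↔ x = x0) (hX : Nat.card X ≠ 1)
    [Fintype (MulAction.orbitRel.Quotient (zpowers e) X)] :
    r * Fintype.card (MulAction.orbitRel.Quotient (zpowers e) X) = Nat.card X + (r - 1) := by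
  classical
  have : Fintype X := Fintype.ofFinite _
  have hrF : Fact r.Prime := ⟨hr⟩
  have he1 : e ≠ 1 := by
    rintro rfl
    apply hX
    have : Subsingleton X := ⟨fun a b => ((hx0 a).mp rfl).trans ((hx0 b).mp rfl).symm⟩
    exact Nat.card_of_subsingleton x0
  have hord : orderOf e = r := orderOf_eq_prime her he1
  have hcard : Fintype.card (zpowers e) = r := by
    rw [Fintype.card_zpowers, hord]
  have h := MulAction.sum_card_fixedBy_eq_card_orbits_mul_card_group (zpowers e) X
  rw [hcard] at h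
  rw [mul_comm, ← h, ← Finset.add_sum_erase _ _ (Finset.mem_univ (1 : zpowers e))]
  have h1 : Fintype.card (MulAction.fixedBy X (1 : zpowers e)) = Nat.card X := by
    rw [Nat.card_eq_fintype_card]
    exact Fintype.card_congr (Equiv.subtypeUnivEquiv (fun x => one_smul _ x))
  rw [h1]
  congr 1
  have h2 : ∀ g ∈ Finset.univ.erase (1 : zpowers e), Fintype.card (MulAction.fixedBy X g) = 1 := by
    rintro ⟨g, hg⟩ hg1
    rw [Finset.mem_erase] at hg1
    have hg1' : g ≠ 1 := fun h => hg1.1 (Subtype.ext h)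
    obtain ⟨i, rfl⟩ := mem_zpowers_iff.mp hg
    -- e is a power of g
    have h3 : e ∈ zpowers (e ^ i) := by
      have h4 : orderOf (e ^ i) = r := by
        apply orderOf_eq_prime _ hg1'
        rw [← zpow_natCast, ← zpow_mul, mul_comm, zpow_mul, zpow_natCast, her, one_zpow]
      have h5 : zpowers (e ^ i) = zpowers e := by
        apply Subgroup.eq_of_le_of_card_ge
        · rw [zpowers_le]; exact zpow_mem (mem_zpowers e) i
        · rw [Nat.card_zpowers, Nat.card_zpowers, h4, hord]
      rw [h5]; exact mem_zpowers e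
    obtain ⟨j, hj⟩ := mem_zpowers_iff.mp h3
    rw [Fintype.card_eq_one_iff]
    have h6 : ∀ (m : ℤ) (x : X), e x = x → (e ^ m) x = x := by
      intro m x hx
      have h7 : (⟨e ^ m, zpow_mem (mem_zpowers e) m⟩ : zpowers e) ∈ MulAction.stabilizer (zpowers e) x := by
        have h8 : (⟨e, mem_zpowers e⟩ : zpowers e) ∈ MulAction.stabilizer (zpowers e) x := hx
        exact zpow_mem h8 m
      exact h7
    refine ⟨⟨x0, h6 i x0 ((hx0 x0).mpr rfl)⟩, ?_⟩
    rintro ⟨x, hx⟩
    apply Subtype.ext
    show x = x0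
    rw [← hx0]
    have h7 : (⟨e ^ i, hg⟩ : zpowers e) ∈ MulAction.stabilizer (zpowers e) x := hx
    have h8 := zpow_mem h7 j
    have h9 : (⟨e ^ i, hg⟩ : zpowers e) ^ j = ⟨e, mem_zpowers e⟩ := by
      apply Subtype.ext
      show (e ^ i) ^ j = e
      exact hj
    rw [h9] at h8
    exact h8
  rw [Finset.sum_congr rfl h2, Finset.sum_const, Finset.card_erase_of_mem (Finset.mem_univ _),
    Finset.card_univ, hcard]
  simp

/-- **Core dimension count.** -/
theorem extra (ρ : K →* Module.End k M) (τ : K ≃* K) (s : Module.End k M) {r : ℕ} (hr : r.Prime)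
    (hrk : (r : k) ≠ 0) (hs : s ^ r = 1) (hcomm : ∀ x, s * ρ x = ρ (τ x) * s)
    (hτr : ∀ x, (τ ^ r) x = x) (Z : Subgroup K) [Z.Normal]
    (hZs : ∀ z ∈ Z, ∃ c : k, ρ z = c • (1 : Module.End k M))
    (hZc : ∀ x y : K, x * y * x⁻¹ * y⁻¹ ∈ Z)
    (hτZ : ∀ z ∈ Z, τ z = z) (hτfix : ∀ x, τ x * x⁻¹ ∈ Z → x ∈ Z)
    (hnd : ∀ x, x ∉ Z → ∃ y, ρ (x * y * x⁻¹ * y⁻¹) ≠ 1)
    (hirr : ∀ W : Submodule k M, (∀ x, ∀ w ∈ W, ρ x w ∈ W) → (∀ w ∈ W, s w ∈ W) → W = ⊥ ∨ W = ⊤)
    (htr : ∑ i ∈ Finset.range r, s ^ i = 0) :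
    Nat.card (K ⧸ Z) = 1 ∨ Nat.card (K ⧸ Z) = (r - 1) ^ 2 := by
  classical
  by_cases hN1 : Nat.card (K ⧸ Z) = 1
  · exact Or.inl hN1
  right
  have hspan := span_range ρ τ s (s ^ (r - 1))
    (by rw [← pow_succ', Nat.sub_add_cancel hr.one_lt.le, hs])
    (by rw [← pow_succ, Nat.sub_add_cancel hr.one_lt.le, hs]) hcomm Z hZs hZc hτZ hτfix hnd hirr
  have hN := card_eq_sq ρ Z hZs hZc hnd hspan
  have hmapZ : Z.map (τ : K →* K) = Z := by
    ext z
    constructor
    · rintro ⟨w, hw, rfl⟩
      show τ w ∈ Z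
      rw [hτZ w hw]; exact hw
    · intro hz
      exact ⟨z, hz, hτZ z hz⟩
  set e : Equiv.Perm (K ⧸ Z) := (QuotientGroup.congr Z Z τ hmapZ).toEquiv with he
  have he' : ∀ y : K, e (y : K ⧸ Z) = (τ y : K ⧸ Z) := fun y => rfl
  have hei : ∀ (i : ℕ) (x : K), (e ^ i) (x : K ⧸ Z) = (((τ ^ i) x : K) : K ⧸ Z) := by
    intro i x
    induction i with
    | zero => simp
    | succ i ih =>
      rw [pow_succ', pow_succ', Equiv.Perm.mul_apply, MulAut.mul_apply, ih, he']
  have her : e ^ r = 1 := by
    ext c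
    induction c using QuotientGroup.induction_on with
    | H y => rw [hei, hτr]; rfl
  have : Fintype (MulAction.orbitRel.Quotient (zpowers e) (K ⧸ Z)) := Fintype.ofFinite _
  have hfix : ∀ c : K ⧸ Z, e c = c ↔ c = 1 := by
    intro c
    induction c using QuotientGroup.induction_on with
    | H y =>
      rw [he', QuotientGroup.eq_one_iff]
      constructor
      · intro h
        apply hτfix
        rw [QuotientGroup.eq] at h
        have h2 := Subgroup.Normal.conj_mem ‹Z.Normal› _ (inv_mem h) y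
        have h4 : y * ((τ y)⁻¹ * y)⁻¹ * y⁻¹ = y * (y⁻¹ * τ y) * y⁻¹ := by group
        rw [h4] at h2
        simpa using h2
      · intro h
        rw [hτZ y h]
  have horb := card_orbits hr e her 1 hfix hN1
  set C : Submodule k (Module.End k M) :=
    { carrier := {a | s * a = a * s}
      add_mem' := by
        intro a b ha hb
        show s * (a + b) = (a + b) * s
        rw [mul_add, add_mul, show s * a = a * s from ha, show s * b = b * s from hb]
      zero_mem' := by show s * 0 = 0 * s; simp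
      smul_mem' := by
        intro c a ha
        show s * (c • a) = (c • a) * s
        rw [mul_smul_comm, smul_mul_assoc, show s * a = a * s from ha] } with hCdef
  have hup := commutant_upper ρ τ s hr hrk hs hcomm Z hZs e he' her hspan C (fun a ha => ha)
  have hlow := commutant_lower hr.two_le hrk s hs htr C (fun a ha => ha)
  set d := Module.finrank k M with hd
  set t := Fintype.card (MulAction.orbitRel.Quotient (zpowers e) (K ⧸ Z))
  have hdpos : 0 < d := Module.finrank_pos
  rw [hN] at horb hN1 ⊢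
  clear_value d t
  -- arithmetic
  have hr2 := hr.two_le
  obtain ⟨m, rfl⟩ : ∃ m, r = m + 1 := ⟨r - 1, by omega⟩
  simp only [Nat.add_sub_cancel] at *
  have h1 : (m + 1) * d ^ 2 ≤ m * (d ^ 2 + m) := by
    calc (m + 1) * d ^ 2 ≤ (m + 1) * (m * Module.finrank k C) := Nat.mul_le_mul_left _ hlow
      _ ≤ (m + 1) * (m * t) := Nat.mul_le_mul_left _ (Nat.mul_le_mul_left _ hup)
      _ = m * ((m + 1) * t) := by ring
      _ = m * (d ^ 2 + m) := by rw [horb]
  have h2 : d ^ 2 ≤ m ^ 2 := by nlinarith
  have h3 : d ≤ m := by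
    by_contra h; push Not at h
    nlinarith
  have h4 : 1 < d := by
    rcases Nat.lt_or_ge 1 d with h | h
    · exact h
    · exfalso
      interval_cases d
      · exact hN1 (by norm_num)
  -- r ∣ d^2 - 1
  have h5 : (m + 1) ∣ (d - 1) * (d + 1) := by
    obtain ⟨d', rfl⟩ : ∃ d', d = d' + 2 := ⟨d - 2, by omega⟩
    have h6 : (m + 1) * t = (d' + 2 - 1) * (d' + 2 + 1) + (m + 1) := by
      rw [horb]
      have : d' + 2 - 1 = d' + 1 := by omega
      rw [this]; ring
    have h7 : (m + 1) ∣ (d' + 2 - 1) * (d' + 2 + 1) + (m + 1) := ⟨t, h6.symm⟩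
    exact (Nat.dvd_add_left (dvd_refl _)).mp h7
  rcases (Nat.Prime.dvd_mul hr).mp h5 with h6 | h6
  · have := Nat.le_of_dvd (by omega) h6
    omega
  · have := Nat.le_of_dvd (by omega) h6
    have : d = m := by omega
    rw [this]

end Core

end Cfsg.Agent.H12.RepE
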