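import Mathlib
import Cfsg.Agent.H12_RepE
import Cfsg.Agent.H12_PStab
import Cfsg.Agent.H12_PStab2
import Cfsg.Agent.H22_Coprime3
import Cfsg.Agent.H1_Coprime2

/-!
The fixed point theorem: an operator of prime order `r` acting on a `q`-group (`q` odd) of linear
transformations and without fixed vectors must centralize the `q`-group.
-/

set_option autoImplicit false
open Subgroup Cfsg
open scoped commutatorElement TensorProduct

namespace Cfsg.Agent.H12.RepF

open Cfsg.Agent.H22.Coprime3 Cfsg.Agent.H12.RepE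

/-- A subgroup between the commutator subgroup and `K` is normalized by `K`. -/
theorem le_normalizer_of_commutator_le {F : Type*} [Group F] {K L : Subgroup F} (hLK : L ≤ K)
    (h : ⁅K, K⁆ ≤ L) : K ≤ normalizer (L : Set F) := by
  have key : ∀ k ∈ K, ∀ l ∈ L, k * l * k⁻¹ ∈ L := by
    intro k hk l hl
    have h1 : ⁅k, l⁆ ∈ L := h (Subgroup.commutator_mem_commutator hk (hLK hl))
    have h2 : k * l * k⁻¹ = ⁅k, l⁆ * l := by rw [commutatorElement_def]; group
    rw [h2]; exact mul_mem h1 hl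
  intro k hk
  rw [Subgroup.mem_normalizer_iff]
  intro l
  constructor
  · exact fun hl => key k hk l hl
  · intro hl
    have h2 := key k⁻¹ (inv_mem hk) _ hl
    have h3 : k⁻¹ * (k * l * k⁻¹) * k⁻¹⁻¹ = l := by group
    rwa [h3] at h2

/-- Structure of a minimal nonabelian coprime action. -/
theorem min_struct {F : Type*} [Group F] [Finite F] {q : ℕ} [Fact q.Prime] {A K : Subgroup F}
    (hAK : A ≤ normalizer (K : Set F)) (hK : IsPGroup q K) (hcop : (Nat.card A).Coprime (Nat.card K))
    (hA : ¬ A ≤ centralizer (K : Set F))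
    (hmin : ∀ L < K, A ≤ normalizer (L : Set F) → A ≤ centralizer (L : Set F))
    (hnab : ¬ K ≤ centralizer (K : Set F)) :
    ⁅K, A⁆ = K ∧ ⁅K, K⁆ ≤ centralizer (K : Set F) ∧ A ≤ centralizer ((K ⊓ centralizer (K : Set F) : Subgroup F) : Set F) ∧
      K ⊓ centralizer (A : Set F) ≤ centralizer (K : Set F) := by
  obtain ⟨h1, h2, h3, h4⟩ := minimal_action hAK hK hcop hA hmin
  refine ⟨h1, (commutator_le_map_frattini hK).trans h2, ?_, ?_⟩
  · apply hmin
    · refine lt_of_le_of_ne inf_le_left ?_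
      intro h
      apply hnab
      have h5 : K ⊓ centralizer (K : Set F) ≤ centralizer (K : Set F) := inf_le_right
      exact h.symm.le.trans h5
    · exact H22.Basic.le_normalizer_inf hAK (H22.Basic.le_normalizer_centralizer hAK)
  · set Φ := (frattini K).map K.subtype with hΦ
    have hΦK : Φ ≤ K := by
      rintro _ ⟨x, _, rfl⟩
      exact x.2
    have hKΦ : ⁅K, K⁆ ≤ Φ := commutator_le_map_frattini hK
    have hC : A ≤ normalizer ((K ⊓ centralizer (A : Set F) : Subgroup F) : Set F) :=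
      H1.Coprime.le_normalizer_of_le_centralizer (by
        rw [Subgroup.le_centralizer_iff]
        exact inf_le_right)
    have hL : A ≤ normalizer ((Φ ⊔ K ⊓ centralizer (A : Set F) : Subgroup F) : Set F) :=
      H22.Basic.le_normalizer_sup (le_normalizer_map_frattini hAK) hC
    have hLK : Φ ⊔ K ⊓ centralizer (A : Set F) ≤ K := sup_le hΦK inf_le_left
    by_cases heq : Φ ⊔ K ⊓ centralizer (A : Set F) = K
    · exfalso
      have hKN : K ≤ normalizer (Φ : Set F) := le_normalizer_of_commutator_le hΦK hKΦ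
      have h5 : ⁅Φ ⊔ K ⊓ centralizer (A : Set F), A⁆ ≤ Φ := by
        rw [Subgroup.commutator_le]
        intro x hx a ha
        obtain ⟨f, hf, c, hc, rfl⟩ := (H22.Basic.mem_sup_of_le_normalizer (inf_le_left.trans hKN)).mp hx
        have h6 : a * c = c * a := (Subgroup.mem_centralizer_iff.mp hc.2) a ha
        have h7 : ⁅f * c, a⁆ = f * (a * f⁻¹ * a⁻¹) := by
          rw [commutatorElement_def]
          calc f * c * a * (f * c)⁻¹ * a⁻¹ = f * (c * a) * c⁻¹ * f⁻¹ * a⁻¹ := by group
            _ = f * (a * c) * c⁻¹ * f⁻¹ * a⁻¹ := by rw [h6]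
            _ = f * (a * f⁻¹ * a⁻¹) := by group
        rw [h7]
        exact mul_mem hf (((Subgroup.mem_normalizer_iff.mp (le_normalizer_map_frattini hAK ha)) f⁻¹).mp
          (inv_mem hf))
      rw [heq, h1] at h5
      have h6 := map_frattini_lt (K := K) (by
        rintro rfl
        exact hnab bot_le)
      exact absurd h5 (not_le_of_gt h6)
    · have h5 := h4 _ (lt_of_le_of_ne hLK heq) hL
        (le_normalizer_of_commutator_le hLK (hKΦ.trans le_sup_left))
      exact le_sup_right.trans h5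

section
variable {k M F : Type*} [Field k] [AddCommGroup M] [Module k M] [Group F]

/-- The norm of a subgroup commutes with its normalizer. -/
theorem norm_comm (ρ : F →* Module.End k M) (Q : Subgroup F) [Fintype Q] (g : F)
    (hg : g ∈ normalizer (Q : Set F)) : ρ g * ∑ z : Q, ρ z = (∑ z : Q, ρ z) * ρ g := by
  rw [Finset.mul_sum, Finset.sum_mul]
  refine Fintype.sum_equiv (MulEquiv.toEquiv (Q.normalizerMonoidHom ⟨g, hg⟩)) _ _ ?_
  intro z
  rw [← map_mul, ← map_mul]
  congr 1
  show g * z = (g * z * g⁻¹) * g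
  group

theorem mul_norm (ρ : F →* Module.End k M) (Q : Subgroup F) [Fintype Q] (g : F)
    (hg : g ∈ Q) : ρ g * ∑ z : Q, ρ z = ∑ z : Q, ρ z := by
  rw [Finset.mul_sum]
  refine Fintype.sum_equiv (Equiv.mulLeft (⟨g, hg⟩ : Q)) _ _ ?_
  intro a
  rw [Equiv.coe_mulLeft, ← map_mul]; rfl

end

section
variable {k M F : Type*} [Field k] [IsAlgClosed k] [AddCommGroup M] [Module k M] [FiniteDimensional k M]
  [Group F] [Finite F]

/-- The nonabelian case. -/
theorem nonabelian_case (ρ : F →* Module.End k M) (hinj : Function.Injective ρ) {q : ℕ} [Fact q.Prime]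
    (hq2 : q ≠ 2) (hqk : (q : k) ≠ 0) {r : ℕ} (hr : r.Prime) (hqr : q ≠ r) (hrk : (r : k) ≠ 0)
    (σ : F) (hσ : orderOf σ = r) (htr : ∑ i ∈ Finset.range r, ρ σ ^ i = 0)
    (K : Subgroup F) (hK : IsPGroup q K) (hσK : zpowers σ ≤ normalizer (K : Set F))
    (hA : ¬ zpowers σ ≤ centralizer (K : Set F))
    (hmin : ∀ L < K, zpowers σ ≤ normalizer (L : Set F) → zpowers σ ≤ centralizer (L : Set F))
    (hnab : ¬ K ≤ centralizer (K : Set F)) : False := by
  classical
  have hcop : (Nat.card (zpowers σ)).Coprime (Nat.card K) := by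
    rw [Nat.card_zpowers, hσ]
    obtain ⟨n, hn⟩ := (IsPGroup.iff_card).mp hK
    rw [hn]
    exact Nat.Coprime.pow_right n ((Nat.coprime_primes hr (Fact.out : q.Prime)).mpr (Ne.symm hqr))
  obtain ⟨h1, h2, h3, h4⟩ := min_struct hσK hK hcop hA hmin hnab
  have hσN : σ ∈ normalizer (K : Set F) := hσK (mem_zpowers σ)
  -- the commutator subgroup
  set D : Subgroup F := ⁅K, K⁆ with hD
  have hDK : D ≤ K := H22.Basic.commutator_le_left le_normalizer
  have hKD : K ≤ normalizer (D : Set F) := H22.Basic.le_normalizer_commutator le_normalizer le_normalizer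
  have hσD : σ ∈ normalizer (D : Set F) :=
    H22.Basic.le_normalizer_commutator hσK hσK (mem_zpowers σ)
  have : Fintype D := Fintype.ofFinite D
  have hDcard : (Nat.card D : k) ≠ 0 := by
    obtain ⟨n, hn⟩ := (IsPGroup.iff_card).mp (hK.to_le hDK)
    rw [hn]
    push_cast
    exact pow_ne_zero _ hqk
  set N : Module.End k M := ∑ z : D, ρ z with hN
  have hzN : ∀ z ∈ D, ρ z * N = N := fun z hz => mul_norm ρ D z hz
  have hgN : ∀ g ∈ normalizer (D : Set F), ρ g * N = N * ρ g := fun g hg => norm_comm ρ D g hg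
  have hNN : ∀ v : M, (∀ z ∈ D, ρ z v = v) → N v = (Nat.card D : k) • v := by
    intro v hv
    rw [hN, LinearMap.sum_apply, Finset.sum_congr rfl (fun (z : D) _ => hv z z.2), Finset.sum_const,
      Finset.card_univ, Nat.card_eq_fintype_card, Nat.cast_smul_eq_nsmul]
  set W₀ : Submodule k M := LinearMap.ker N with hW₀
  have hW₀ne : W₀ ≠ ⊥ := by
    intro h0
    have hinjN : Function.Injective N := LinearMap.ker_eq_bot.mp h0
    apply hnab
    have hD1 : D = ⊥ := by
      rw [eq_bot_iff]
      intro z hz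
      rw [Subgroup.mem_bot]
      apply hinj
      rw [map_one]
      ext v
      apply hinjN
      have e1 := hgN z (hKD (hDK hz))
      rw [hzN z hz] at e1
      have := congrArg (fun f : Module.End k M => f v) e1
      exact this.symm
    rw [hD, Subgroup.commutator_eq_bot_iff_le_centralizer] at hD1
    exact hD1
  -- a minimal invariant subspace
  let S : Set (Submodule k M) := {W | W ≠ ⊥ ∧ W ≤ W₀ ∧ (∀ x ∈ K, ∀ w ∈ W, ρ x w ∈ W) ∧ ∀ w ∈ W, ρ σ w ∈ W}
  have hS : S.Nonempty := by
    refine ⟨W₀, hW₀ne, le_rfl, ?_, ?_⟩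
    · intro x hx w hw
      rw [hW₀, LinearMap.mem_ker] at hw ⊢
      have := congrArg (fun f : Module.End k M => f w) (hgN x (hKD hx))
      simp only [Module.End.mul_apply] at this
      rw [← this, hw, map_zero]
    · intro w hw
      rw [hW₀, LinearMap.mem_ker] at hw ⊢
      have := congrArg (fun f : Module.End k M => f w) (hgN σ hσD)
      simp only [Module.End.mul_apply] at this
      rw [← this, hw, map_zero]
  obtain ⟨W, hWS, hWmin⟩ := (wellFounded_lt (α := Submodule k M)).has_min S hS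
  obtain ⟨hW1, hW2, hW3, hW4⟩ := hWS
  have : Nontrivial W := Submodule.nontrivial_iff_ne_bot.mpr hW1
  -- the restricted representation
  let ρ₁ : K →* Module.End k W :=
    { toFun := fun x => (ρ x).restrict (fun w hw => hW3 x x.2 w hw)
      map_one' := by ext w; simp [LinearMap.restrict_apply]
      map_mul' := by
        intro x y
        ext w
        simp [LinearMap.restrict_apply] }
  let s : Module.End k W := (ρ σ).restrict hW4
  have hρ₁ : ∀ (x : K) (w : W), ((ρ₁ x w : W) : M) = ρ x w := fun _ _ => rfl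
  have hs₁ : ∀ (w : W), ((s w : W) : M) = ρ σ w := fun _ => rfl
  have hspow : ∀ (i : ℕ) (w : W), (((s ^ i) w : W) : M) = (ρ σ ^ i) w := by
    intro i
    induction i with
    | zero => intro w; rfl
    | succ i ih =>
      intro w
      rw [pow_succ, pow_succ, Module.End.mul_apply, Module.End.mul_apply, ih, hs₁]
  set τ : K ≃* K := K.normalizerMonoidHom ⟨σ, hσN⟩ with hτ
  have hτapp : ∀ x : K, ((τ x : K) : F) = σ * x * σ⁻¹ := fun _ => rfl
  have hcomm : ∀ x, s * ρ₁ x = ρ₁ (τ x) * s := by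
    intro x
    ext w
    rw [Module.End.mul_apply, Module.End.mul_apply, hs₁, hρ₁, hρ₁, hs₁, hτapp, ← Module.End.mul_apply,
      ← map_mul, ← Module.End.mul_apply, ← map_mul]
    have e : σ * (x : F) * σ⁻¹ * σ = σ * x := by group
    rw [e]
  have hs : s ^ r = 1 := by
    ext w
    rw [hspow, ← map_pow, ← hσ, pow_orderOf_eq_one, map_one]
    rfl
  have hτr : ∀ x, (τ ^ r) x = x := by
    intro x
    rw [hτ, ← map_pow]
    have : (⟨σ, hσN⟩ : normalizer (K : Set F)) ^ r = 1 := by
      apply Subtype.ext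
      show σ ^ r = 1
      rw [← hσ, pow_orderOf_eq_one]
    rw [this, map_one]; rfl
  -- irreducibility
  have hirr : ∀ V : Submodule k W, (∀ x, ∀ w ∈ V, ρ₁ x w ∈ V) → (∀ w ∈ V, s w ∈ V) → V = ⊥ ∨ V = ⊤ := by
    intro V hV1 hV2
    by_cases hV : V = ⊥
    · exact Or.inl hV
    right
    have hm : V.map W.subtype ∈ S := by
      refine ⟨?_, (Submodule.map_subtype_le W V).trans hW2, ?_, ?_⟩
      · intro h0
        apply hV
        apply Submodule.map_injective_of_injective W.subtype_injective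
        rw [h0, Submodule.map_bot]
      · rintro x hx _ ⟨w, hw, rfl⟩
        exact ⟨ρ₁ ⟨x, hx⟩ w, hV1 _ w hw, rfl⟩
      · rintro _ ⟨w, hw, rfl⟩
        exact ⟨s w, hV2 w hw, rfl⟩
    have h5 := hWmin _ hm
    have h6 : V.map W.subtype = W := by
      rcases lt_or_eq_of_le (Submodule.map_subtype_le W V) with h | h
      · exact absurd h h5
      · exact h
    rw [eq_top_iff]
    rintro ⟨w, hw⟩ _
    rw [← h6] at hw
    obtain ⟨w', hw', h7⟩ := hw
    have : w' = ⟨w, by rw [← h6]; exact ⟨w', hw', h7⟩⟩ := Subtype.ext h7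
    rw [← this]; exact hw'
  -- central elements are scalars
  have hZs : ∀ z ∈ center K, ∃ c : k, ρ₁ z = c • (1 : Module.End k W) := by
    intro z hz
    refine schur (Set.range ρ₁ ∪ {s}) ?_ (ρ₁ z) ?_
    · intro V hV
      exact hirr V (fun x w hw => hV _ (Or.inl ⟨x, rfl⟩) w hw) (fun w hw => hV _ (Or.inr rfl) w hw)
    · rintro a (⟨x, rfl⟩ | rfl)
      · rw [← map_mul, ← map_mul, (Subgroup.mem_center_iff.mp hz x)]
      · rw [hcomm]
        congr 2
        apply Subtype.ext
        rw [hτapp]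
        have h5 : (z : F) ∈ K ⊓ centralizer (K : Set F) := by
          refine ⟨z.2, ?_⟩
          show (z : F) ∈ centralizer (K : Set F)
          rw [Subgroup.mem_centralizer_iff]
          intro h hh
          exact congrArg Subtype.val (Subgroup.mem_center_iff.mp hz ⟨h, hh⟩)
        have h6 := (Subgroup.mem_centralizer_iff.mp (h3 (mem_zpowers σ))) z h5
        rw [← h6]; group
  have hmemZ : ∀ x : K, x ∈ center K ↔ (x : F) ∈ centralizer (K : Set F) := by
    intro x
    rw [Subgroup.mem_center_iff, Subgroup.mem_centralizer_iff]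
    constructor
    · intro h y hy
      exact congrArg Subtype.val (h ⟨y, hy⟩)
    · intro h y
      exact Subtype.ext (h y y.2)
  have hZc : ∀ x y : K, x * y * x⁻¹ * y⁻¹ ∈ center K := by
    intro x y
    rw [hmemZ]
    apply h2
    exact Subgroup.commutator_mem_commutator x.2 y.2
  have hτZ : ∀ z ∈ center K, τ z = z := by
    intro z hz
    apply Subtype.ext
    rw [hτapp]
    have h6 := (Subgroup.mem_centralizer_iff.mp (h3 (mem_zpowers σ))) z ⟨z.2, (hmemZ z).mp hz⟩
    rw [← h6]; group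
  have hfixmem : ∀ x : K, τ x = x → x ∈ center K := by
    intro x hx
    rw [hmemZ]
    apply h4
    refine ⟨x.2, ?_⟩
    show (x : F) ∈ centralizer (zpowers σ : Set F)
    rw [Subgroup.mem_centralizer_iff]
    have h5 : σ * (x : F) = x * σ := by
      have := congrArg Subtype.val hx
      rw [hτapp] at this
      calc σ * (x : F) = σ * x * σ⁻¹ * σ := by group
        _ = x * σ := by rw [this]
    have h6 : zpowers σ ≤ centralizer ({(x : F)} : Set F) := by
      rw [zpowers_le, Subgroup.mem_centralizer_singleton_iff]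
      exact h5
    intro g hg
    have h7 := Subgroup.mem_centralizer_singleton_iff.mp (h6 hg)
    exact h7
  have hτfix : ∀ x, τ x * x⁻¹ ∈ center K → x ∈ center K := by
    intro x hx
    apply hfixmem
    set z := τ x * x⁻¹ with hz
    have h5 : ∀ i : ℕ, (τ ^ i) x = z ^ i * x := by
      intro i
      induction i with
      | zero => simp
      | succ i ih =>
        rw [pow_succ', MulAut.mul_apply, ih, map_mul, map_pow, hτZ z hx, pow_succ]
        rw [hz]; group
    have h6 := h5 r
    rw [hτr] at h6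
    have h7 : z ^ r = 1 := by
      have : z ^ r * x = 1 * x := by rw [← h6, one_mul]
      exact mul_right_cancel this
    have h8 : z = 1 := by
      obtain ⟨n, hn⟩ := hK z
      have h9 : Nat.Coprime (q ^ n) r := Nat.Coprime.pow_left n
        ((Nat.coprime_primes (Fact.out : q.Prime) hr).mpr hqr)
      have h10 : orderOf z ∣ Nat.gcd (q ^ n) r :=
        Nat.dvd_gcd (orderOf_dvd_of_pow_eq_one hn) (orderOf_dvd_of_pow_eq_one h7)
      rw [h9] at h10
      exact orderOf_eq_one_iff.mp (Nat.dvd_one.mp h10)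
    have h9 : τ x = z * x := by rw [hz]; group
    rw [h9, h8, one_mul]
  -- no fixed vectors for D
  have hnofix : ∀ w : W, (∀ z ∈ D, ρ z (w : M) = w) → w = 0 := by
    intro w hw
    have h5 := hNN w hw
    have h6 : N w = 0 := LinearMap.mem_ker.mp (hW2 w.2)
    rw [h6] at h5
    rcases smul_eq_zero.mp h5.symm with h | h
    · exact absurd h hDcard
    · exact Subtype.ext h
  have hnd : ∀ x, x ∉ center K → ∃ y, ρ₁ (x * y * x⁻¹ * y⁻¹) ≠ 1 := by
    intro x hx
    by_contra hcon
    push Not at hcon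
    -- elements acting centrally
    let X : Subgroup F :=
      { carrier := {g | ∃ hg : g ∈ K, ∀ y : K, ρ₁ ⟨g, hg⟩ * ρ₁ y = ρ₁ y * ρ₁ ⟨g, hg⟩}
        one_mem' := ⟨one_mem K, fun y => by
          have : (⟨1, one_mem K⟩ : K) = 1 := rfl
          rw [this, map_one, one_mul, mul_one]⟩
        mul_mem' := by
          rintro a b ⟨ha, ha'⟩ ⟨hb, hb'⟩
          refine ⟨mul_mem ha hb, fun y => ?_⟩
          have : (⟨a * b, mul_mem ha hb⟩ : K) = ⟨a, ha⟩ * ⟨b, hb⟩ := rfl
          rw [this, map_mul, mul_assoc, hb', ← mul_assoc, ha', mul_assoc]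
        inv_mem' := by
          rintro a ⟨ha, ha'⟩
          refine ⟨inv_mem ha, fun y => ?_⟩
          have : (⟨a⁻¹, inv_mem ha⟩ : K) = ⟨a, ha⟩⁻¹ := rfl
          rw [this]
          have e1 : ρ₁ ⟨a, ha⟩⁻¹ * ρ₁ ⟨a, ha⟩ = 1 := by rw [← map_mul, inv_mul_cancel, map_one]
          have e2 : ρ₁ ⟨a, ha⟩ * ρ₁ ⟨a, ha⟩⁻¹ = 1 := by rw [← map_mul, mul_inv_cancel, map_one]
          calc ρ₁ ⟨a, ha⟩⁻¹ * ρ₁ y = ρ₁ ⟨a, ha⟩⁻¹ * (ρ₁ y * (ρ₁ ⟨a, ha⟩ * ρ₁ ⟨a, ha⟩⁻¹)) := by
                rw [e2, mul_one]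
            _ = ρ₁ ⟨a, ha⟩⁻¹ * (ρ₁ ⟨a, ha⟩ * ρ₁ y) * ρ₁ ⟨a, ha⟩⁻¹ := by
                rw [ha' y]; simp only [mul_assoc]
            _ = ρ₁ y * ρ₁ ⟨a, ha⟩⁻¹ := by rw [← mul_assoc, e1, one_mul] }
    have hXK : X ≤ K := fun g hg => hg.1
    have hXσ : zpowers σ ≤ normalizer (X : Set F) := by
      rw [zpowers_le]
      apply H22.Basic.mem_normalizer_of_cj_le
      intro g hg
      rw [H22.Basic.mem_cj] at hg
      obtain ⟨hg1, hg2⟩ := hg
      have hgK : g ∈ K := by
        have := ((Subgroup.mem_normalizer_iff.mp hσN) _).mp hg1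
        have e : σ * (σ⁻¹ * g * σ) * σ⁻¹ = g := by group
        rwa [e] at this
      refine ⟨hgK, fun y => ?_⟩
      have e1 : (⟨g, hgK⟩ : K) = τ ⟨σ⁻¹ * g * σ, hg1⟩ := by
        apply Subtype.ext
        rw [hτapp]
        show g = σ * (σ⁻¹ * g * σ) * σ⁻¹
        group
      obtain ⟨y', rfl⟩ := τ.surjective y
      rw [e1]
      -- multiply by s
      have e2 : ∀ a b : Module.End k W, a * s = b * s → a = b := by
        intro a b hab
        have : s * s ^ (r - 1) = 1 := by rw [← pow_succ', Nat.sub_add_cancel hr.one_lt.le, hs]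
        calc a = a * (s * s ^ (r - 1)) := by rw [this, mul_one]
          _ = b * (s * s ^ (r - 1)) := by rw [← mul_assoc, hab, mul_assoc]
          _ = b := by rw [this, mul_one]
      apply e2
      generalize (⟨σ⁻¹ * g * σ, hg1⟩ : K) = g' at hg2 ⊢
      calc ρ₁ (τ g') * ρ₁ (τ y') * s = ρ₁ (τ g') * (ρ₁ (τ y') * s) := by rw [mul_assoc]
        _ = (ρ₁ (τ g') * s) * ρ₁ y' := by rw [← hcomm, mul_assoc]
        _ = s * (ρ₁ g' * ρ₁ y') := by rw [← hcomm, mul_assoc]
        _ = (s * ρ₁ y') * ρ₁ g' := by rw [hg2, mul_assoc]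
        _ = ρ₁ (τ y') * (s * ρ₁ g') := by rw [hcomm, mul_assoc]
        _ = ρ₁ (τ y') * ρ₁ (τ g') * s := by rw [hcomm, mul_assoc]
    rcases lt_or_eq_of_le hXK with hlt | heq
    · have h5 := hmin X hlt hXσ
      apply hx
      rw [hmemZ]
      apply h4
      refine ⟨x.2, ?_⟩
      have hxX : (x : F) ∈ X := by
        refine ⟨x.2, fun y => ?_⟩
        have h6 := hcon y
        have h7 : x * y = (x * y * x⁻¹ * y⁻¹) * (y * x) := by group
        rw [← map_mul, ← map_mul]
        show ρ₁ (x * y) = ρ₁ (y * x)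
        rw [h7, map_mul, h6, one_mul]
      rw [Subgroup.le_centralizer_iff] at h5
      exact h5 hxX
    · -- D acts trivially on W
      have h5 : ∀ w : W, ∀ z ∈ D, ρ z (w : M) = w := by
        intro w z hz
        let T : Subgroup F :=
          { carrier := {g | ρ g (w : M) = w}
            one_mem' := by show ρ 1 (w : M) = w; rw [map_one]; rfl
            mul_mem' := by
              intro a b ha hb
              show ρ (a * b) (w : M) = w
              rw [map_mul, Module.End.mul_apply, show ρ b (w : M) = w from hb]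
              exact ha
            inv_mem' := by
              intro a ha
              show ρ a⁻¹ (w : M) = w
              have : ρ a⁻¹ (ρ a (w : M)) = w := by
                rw [← Module.End.mul_apply, ← map_mul, inv_mul_cancel, map_one]; rfl
              rwa [show ρ a (w : M) = w from ha] at this }
        have h6 : D ≤ T := by
          rw [hD, Subgroup.commutator_le]
          intro a ha b hb
          obtain ⟨ha1, ha2⟩ : a ∈ X := by rw [heq]; exact ha
          have h7 := ha2 ⟨b, hb⟩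
          show ρ ⁅a, b⁆ (w : M) = w
          have h8 : ρ₁ (⟨a, ha1⟩ * ⟨b, hb⟩ * (⟨b, hb⟩ * ⟨a, ha1⟩)⁻¹) w = w := by
            rw [map_mul, map_mul, h7, ← map_mul, ← map_mul, mul_inv_cancel, map_one]; rfl
          have h9 := congrArg Subtype.val h8
          rw [hρ₁] at h9
          have h10 : ⁅a, b⁆ = ((⟨a, ha1⟩ * ⟨b, hb⟩ * (⟨b, hb⟩ * ⟨a, ha1⟩)⁻¹ : K) : F) := by
            rw [commutatorElement_def]
            show a * b * a⁻¹ * b⁻¹ = a * b * (b * a)⁻¹
            group
          rw [h10]; exact h9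
        exact h6 hz
      obtain ⟨w, hw⟩ := exists_ne (0 : W)
      exact hw (hnofix w (h5 w))
  have htr₁ : ∑ i ∈ Finset.range r, s ^ i = 0 := by
    ext w
    have h5 := congrArg (fun f : Module.End k M => f (w : M)) htr
    simp only [LinearMap.sum_apply, LinearMap.zero_apply] at h5
    rw [LinearMap.sum_apply, LinearMap.zero_apply]
    rw [AddSubmonoidClass.coe_finsetSum]
    simp_rw [hspow]
    exact h5
  have hfinal := extra ρ₁ τ s hr hrk hs hcomm hτr (center K) hZs hZc hτZ hτfix hnd hirr htr₁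
  have hcard1 : Nat.card (K ⧸ center K) ≠ 1 := by
    intro h5
    apply hnab
    have h6 : center K = ⊤ := by
      rw [← Subgroup.index_eq_one]; exact h5
    intro x hx
    have : (⟨x, hx⟩ : K) ∈ center K := by rw [h6]; trivial
    exact (hmemZ _).mp this
  rcases hfinal with h5 | h5
  · exact hcard1 h5
  · obtain ⟨n, hn⟩ := (IsPGroup.iff_card).mp (hK.to_quotient (center K))
    rcases hr.eq_two_or_odd' with h6 | h6
    · rw [h6] at h5
      exact hcard1 (by simpa using h5)
    · have h7 : Odd (Nat.card (K ⧸ center K)) := by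
        rw [hn]
        exact ((Fact.out : q.Prime).odd_of_ne_two hq2).pow
      have h8 : Even (Nat.card (K ⧸ center K)) := by
        rw [h5]
        obtain ⟨m, hm⟩ := h6
        have : r - 1 = 2 * m := by omega
        rw [this]
        exact Even.pow_of_ne_zero (even_two_mul m) (by norm_num)
      exact (Nat.not_even_iff_odd.mpr h7) h8

/-- **Fixed point theorem**, representation form. -/
theorem fix_trivial_end (ρ : F →* Module.End k M) (hinj : Function.Injective ρ) {q : ℕ} [Fact q.Prime]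
    (hq2 : q ≠ 2) (hqk : (q : k) ≠ 0) {r : ℕ} (hr : r.Prime) (hqr : q ≠ r) (hrk : (r : k) ≠ 0)
    (σ : F) (hσ : σ ^ r = 1) (htr : ∑ i ∈ Finset.range r, ρ σ ^ i = 0)
    (K : Subgroup F) (hK : IsPGroup q K) (hσK : zpowers σ ≤ normalizer (K : Set F)) :
    zpowers σ ≤ centralizer (K : Set F) := by
  classical
  by_contra hA
  have hσ1 : σ ≠ 1 := by
    rintro rfl
    apply hA
    rw [zpowers_one_eq_bot]
    exact bot_le
  have hrF : Fact r.Prime := ⟨hr⟩
  have hσr : orderOf σ = r := orderOf_eq_prime hσ hσ1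
  obtain ⟨L, hLK, hσL, hAL, hmin⟩ := exists_minimal_action (p := q) hσK hA
  have hLq : IsPGroup q L := hK.to_le hLK
  by_cases hab : L ≤ centralizer (L : Set F)
  · have hcop : (Nat.card (zpowers σ)).Coprime (Nat.card L) := by
      rw [Nat.card_zpowers, hσr]
      obtain ⟨n, hn⟩ := (IsPGroup.iff_card).mp hLq
      rw [hn]
      exact Nat.Coprime.pow_right n ((Nat.coprime_primes hr (Fact.out : q.Prime)).mpr (Ne.symm hqr))
    obtain ⟨h1, -, -, -⟩ := minimal_action hσL hLq hcop hAL hmin
    have hcomm : IsMulCommutative L := ⟨⟨fun a b => Subtype.ext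
      (((Subgroup.mem_centralizer_iff.mp (hab b.2)) a a.2))⟩⟩
    have h2 := H1.Coprime.inf_commutator_eq_bot_of_abelian (zpowers σ) L hσL hcop
    rw [h1] at h2
    have h3 : ∀ i, 0 < i → i < r → ∀ a ∈ L, σ ^ i * a = a * σ ^ i → a = 1 := by
      intro i hi hir a ha hcom
      have h4 : a ∈ centralizer (zpowers σ : Set F) := by
        have h5 : zpowers (σ ^ i) = zpowers σ := by
          apply Subgroup.eq_of_le_of_card_ge
          · rw [zpowers_le]; exact pow_mem (mem_zpowers σ) i
          · rw [Nat.card_zpowers, Nat.card_zpowers, Nat.Coprime.orderOf_pow]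
            rw [hσr]
            exact (Nat.Prime.coprime_iff_not_dvd hr).mpr (fun hd => by
              have := Nat.le_of_dvd hi hd
              omega)
        rw [← h5]
        rw [Subgroup.mem_centralizer_iff]
        intro g hg
        have h6 : zpowers (σ ^ i) ≤ centralizer ({a} : Set F) := by
          rw [zpowers_le, Subgroup.mem_centralizer_singleton_iff]
          exact hcom
        exact Subgroup.mem_centralizer_singleton_iff.mp (h6 hg)
      have h5 : a ∈ (L ⊓ centralizer (zpowers σ : Set F)) ⊓ L := ⟨⟨ha, h4⟩, ha⟩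
      rw [h2] at h5
      exact Subgroup.mem_bot.mp h5
    apply hAL
    have hL1 : L = ⊥ := by
      rw [eq_bot_iff]
      intro b hb
      have h4 := PStab.fpf_trivial ρ L r hr.pos σ (hσL (mem_zpowers σ)) h3 htr b hb
      rw [Subgroup.mem_bot]
      apply hinj
      rw [map_one]
      have h5 : IsUnit ((Nat.card L : ℕ) : Module.End k M) := by
        obtain ⟨n, hn⟩ := (IsPGroup.iff_card).mp hLq
        have h6 : IsUnit ((Nat.card L : ℕ) : k) := by
          rw [hn]; push_cast
          exact (pow_ne_zero _ hqk).isUnit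
        have h7 := h6.map (algebraMap k (Module.End k M))
        rwa [map_natCast] at h7
      have h6 := (h5.mul_right_eq_zero).mp h4
      exact sub_eq_zero.mp h6
    rw [hL1]
    intro g _
    rw [Subgroup.mem_centralizer_iff]
    intro h hh
    have hh' : h = 1 := by simpa using hh
    rw [hh', one_mul, mul_one]
  · exact nonabelian_case ρ hinj hq2 hqk hr hqr hrk σ hσr htr L hLq hσL hAL hmin hab

end

/-- **Fixed point theorem**, module form over `ZMod p`. -/
theorem fix_trivial_zmod {p : ℕ} [hp : Fact p.Prime] {V F : Type*} [AddCommGroup V] [Module (ZMod p) V]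
    [FiniteDimensional (ZMod p) V] [Group F] [Finite F] (ρ : F →* Module.End (ZMod p) V)
    (hinj : Function.Injective ρ) {q : ℕ} [Fact q.Prime]
    (hq2 : q ≠ 2) (hqp : q ≠ p) {r : ℕ} (hr : r.Prime) (hqr : q ≠ r) (hrp : r ≠ p)
    (σ : F) (hσ : σ ^ r = 1) (hfix : ∀ v : V, ρ σ v = v → v = 0)
    (K : Subgroup F) (hK : IsPGroup q K) (hσK : zpowers σ ≤ normalizer (K : Set F)) :
    zpowers σ ≤ centralizer (K : Set F) := by
  set k := AlgebraicClosure (ZMod p)
  set β := Module.End.baseChangeHom (ZMod p) k V with hβ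
  have hβinj : Function.Injective β := by
    intro f g hfg
    ext v
    apply Module.FaithfullyFlat.tensorProduct_mk_injective (A := ZMod p) (B := k) V
    have := congrArg (fun F => F ((1 : k) ⊗ₜ[ZMod p] v)) hfg
    exact this
  have hne : ∀ n : ℕ, n.Prime → n ≠ p → (n : k) ≠ 0 := by
    intro n hn hnp h
    have : (n : ZMod p) ≠ 0 := by
      rw [Ne, ZMod.natCast_eq_zero_iff]
      intro hd
      exact hnp ((Nat.prime_dvd_prime_iff_eq hp.out hn).mp hd).symm
    apply this
    have h2 : algebraMap (ZMod p) k (n : ZMod p) = 0 := by rw [map_natCast]; exact h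
    exact (map_eq_zero (algebraMap (ZMod p) k)).mp h2
  have htr : ∑ i ∈ Finset.range r, ρ σ ^ i = 0 := by
    ext v
    apply hfix
    rw [← Module.End.mul_apply]
    congr 1
    rw [Finset.mul_sum]
    have h1 : ∀ i ∈ Finset.range r, ρ σ * ρ σ ^ i = ρ σ ^ (i + 1) := fun i _ => (pow_succ' _ _).symm
    rw [Finset.sum_congr rfl h1]
    have h2 := Finset.sum_range_succ' (fun i => ρ σ ^ i) r
    have h3 := Finset.sum_range_succ (fun i => ρ σ ^ i) r
    rw [h3] at h2
    rw [← map_pow, hσ, map_one, pow_zero] at h2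
    exact (add_right_cancel h2).symm
  refine fix_trivial_end (k := k) (M := k ⊗[ZMod p] V) ((β : _ →* _).comp ρ) (hβinj.comp hinj) hq2
    (hne q Fact.out hqp) hr hqr (hne r hr hrp) σ hσ ?_ K hK hσK
  show ∑ i ∈ Finset.range r, β (ρ σ) ^ i = 0
  rw [← map_zero β, ← htr, map_sum]
  exact Finset.sum_congr rfl (fun i _ => (map_pow β _ _).symm)

theorem fix_trivial_aut' {p : ℕ} [hp : Fact p.Prime] {V F : Type*} [CommGroup V] [Finite V]
    [Module (ZMod p) (Additive V)] [FiniteDimensional (ZMod p) (Additive V)] [Group F] [Finite F] (φ : F →* MulAut V)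
    (hinj : Function.Injective φ) {q : ℕ} [Fact q.Prime]
    (hq2 : q ≠ 2) (hqp : q ≠ p) {r : ℕ} (hr : r.Prime) (hqr : q ≠ r) (hrp : r ≠ p)
    (σ : F) (hσ : σ ^ r = 1) (hfix : ∀ v : V, φ σ v = v → v = 1)
    (K : Subgroup F) (hK : IsPGroup q K) (hσK : zpowers σ ≤ normalizer (K : Set F)) :
    zpowers σ ≤ centralizer (K : Set F) := by
  exact fix_trivial_zmod (V := Additive V) ((PStab.toEnd p V).comp φ) ((PStab.toEnd_injective p V).comp hinj)
    hq2 hqp hr hqr hrp σ hσ (fun v hv => hfix (Additive.toMul v) hv) K hK hσK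

/-- **Fixed point theorem**, automorphism form. -/
theorem fix_trivial_aut {p : ℕ} [hp : Fact p.Prime] {V F : Type*} [CommGroup V] [Finite V]
    (hVp : ∀ v : V, v ^ p = 1) [Group F] [Finite F] (φ : F →* MulAut V)
    (hinj : Function.Injective φ) {q : ℕ} [hq : Fact q.Prime]
    (hq2 : q ≠ 2) (hqp : q ≠ p) {r : ℕ} (hr : r.Prime) (hqr : q ≠ r) (hrp : r ≠ p)
    (σ : F) (hσ : σ ^ r = 1) (hfix : ∀ v : V, φ σ v = v → v = 1)
    (K : Subgroup F) (hK : IsPGroup q K) (hσK : zpowers σ ≤ normalizer (K : Set F)) :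
    zpowers σ ≤ centralizer (K : Set F) := by
  let i1 := AddCommGroup.zmodModule (n := p) (G := Additive V) (fun v => by
    have := hVp (Additive.toMul v : V)
    apply Additive.toMul.injective
    exact this)
  have : Finite (Additive V) := inferInstanceAs (Finite V)
  have i2 : FiniteDimensional (ZMod p) (Additive V) := Module.Finite.of_finite
  exact @fix_trivial_aut' p hp V F _ _ i1 i2 _ _ φ hinj q hq hq2 hqp r hr hqr hrp σ hσ hfix K hK hσK

/-- **Fixed point theorem** (BG 3.4 for `q`-groups), internal form. -/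
theorem fix_trivial {G : Type*} [Group G] [Finite G] {p q r : ℕ} [hp : Fact p.Prime] [hq : Fact q.Prime]
    (hr : r.Prime) (hq2 : q ≠ 2) (hqp : q ≠ p) (hqr : q ≠ r) (hrp : r ≠ p) {V K : Subgroup G}
    (hVab : V ≤ centralizer (V : Set G)) (hVp : ∀ v ∈ V, v ^ p = 1) (hK : IsPGroup q K)
    (hKV : K ≤ normalizer (V : Set G)) {σ : G} (hσ : σ ^ r = 1) (hσV : σ ∈ normalizer (V : Set G))
    (hσK : σ ∈ normalizer (K : Set G)) (hfix : V ⊓ centralizer ({σ} : Set G) = ⊥) :
    ⁅K, zpowers σ⁆ ≤ centralizer (V : Set G) := by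
  letI : CommGroup V := { (inferInstance : Group V) with
    mul_comm := fun a b => Subtype.ext ((Subgroup.mem_centralizer_iff.mp (hVab b.2)) a a.2) }
  set φ := V.normalizerMonoidHom with hφ
  set F := φ.range with hF
  have hVp' : ∀ v : V, v ^ p = 1 := fun v => Subtype.ext (hVp v v.2)
  set σ' : F := ⟨φ ⟨σ, hσV⟩, ⟨_, rfl⟩⟩ with hσ'
  set φ' := φ.rangeRestrict with hφ'
  set K' : Subgroup F := (K.subgroupOf (normalizer (V : Set G))).map φ' with hK'
  have hKq : IsPGroup q K' := by
    apply IsPGroup.map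
    exact hK.comap_of_injective _ (Subgroup.subtype_injective _)
  have h1 := fix_trivial_aut (p := p) hVp' F.subtype F.subtype_injective hq2 hqp hr hqr hrp σ'
    (by
      apply Subtype.ext
      show (φ ⟨σ, hσV⟩) ^ r = 1
      rw [← map_pow]
      have : (⟨σ, hσV⟩ : normalizer (V : Set G)) ^ r = 1 := Subtype.ext hσ
      rw [this, map_one])
    (by
      intro v hv
      have h2 : σ * (v : G) * σ⁻¹ = v := congrArg Subtype.val hv
      have h3 : (v : G) ∈ V ⊓ centralizer ({σ} : Set G) := by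
        refine ⟨v.2, ?_⟩
        show (v : G) ∈ centralizer ({σ} : Set G)
        rw [Subgroup.mem_centralizer_singleton_iff]
        calc (v : G) * σ = (σ * v * σ⁻¹) * σ := by rw [h2]
          _ = σ * v := by group
      rw [hfix] at h3
      exact Subtype.ext (Subgroup.mem_bot.mp h3))
    K' hKq (by
      rw [zpowers_le]
      apply H22.Basic.mem_normalizer_of_cj_le
      intro g hg
      rw [H22.Basic.mem_cj] at hg
      obtain ⟨x, hx, hx2⟩ := hg
      refine ⟨⟨σ, hσV⟩ * x * ⟨σ, hσV⟩⁻¹, ?_, ?_⟩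
      · show (σ * (x : G) * σ⁻¹) ∈ K
        exact ((Subgroup.mem_normalizer_iff.mp hσK) _).mp hx
      · rw [map_mul, map_mul, map_inv, hx2]
        show σ' * (σ'⁻¹ * g * σ') * σ'⁻¹ = g
        group)
  rw [Subgroup.commutator_le]
  intro k hk g hg
  have hgV : g ∈ normalizer (V : Set G) := (zpowers_le.mpr hσV) hg
  have h2 : φ' ⟨k, hKV hk⟩ * φ' ⟨g, hgV⟩ = φ' ⟨g, hgV⟩ * φ' ⟨k, hKV hk⟩ := by
    have h3 : φ' ⟨g, hgV⟩ ∈ zpowers σ' := by
      obtain ⟨i, rfl⟩ := mem_zpowers_iff.mp hg
      refine mem_zpowers_iff.mpr ⟨i, ?_⟩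
      have : (⟨σ ^ i, hgV⟩ : normalizer (V : Set G)) = ⟨σ, hσV⟩ ^ i := rfl
      rw [this, map_zpow]
      rfl
    exact (Subgroup.mem_centralizer_iff.mp (h1 h3)) _ ⟨⟨k, hKV hk⟩, hk, rfl⟩
  have h4 : φ' ⁅(⟨k, hKV hk⟩ : normalizer (V : Set G)), ⟨g, hgV⟩⁆ = 1 := by
    rw [map_commutatorElement, commutatorElement_eq_one_iff_mul_comm]
    exact h2
  have h5 : φ ⁅(⟨k, hKV hk⟩ : normalizer (V : Set G)), ⟨g, hgV⟩⁆ = 1 := congrArg Subtype.val h4
  rw [Subgroup.mem_centralizer_iff]
  intro v hv
  have h6 := congrArg (fun f : MulAut V => ((f ⟨v, hv⟩ : V) : G)) h5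
  have h7 : ⁅k, g⁆ * v * ⁅k, g⁆⁻¹ = v := h6
  calc v * ⁅k, g⁆ = (⁅k, g⁆ * v * ⁅k, g⁆⁻¹) * ⁅k, g⁆ := by rw [h7]
    _ = ⁅k, g⁆ * v := by group

end Cfsg.Agent.H12.RepF
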