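import Cfsg.Agent.H22_Coprime3
import Cfsg.Prelude.Def_Transfer

set_option autoImplicit false

/-!
Hall–Higman reduction: minimal nontrivial action of a normal `p'`-subgroup `A` of `B` on a `p`-group.
-/

namespace Cfsg.Agent.H22.Minimal

open Subgroup H22.Basic H22.Coprime3
open scoped commutatorElement

universe u

variable {X : Type u} [Group X] [Finite X]

/-- if `[P,A] = P` and `(|A|,|P|) = 1` then `C_P(A) ≤ [P,P]` -/
theorem centralizer_le_commutator {A P : Subgroup X} (hAP : A ≤ normalizer (P : Set X))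
    (hcop : (Nat.card A).Coprime (Nat.card P)) (h : ⁅P, A⁆ = P) :
    P ⊓ centralizer (A : Set X) ≤ ⁅P, P⁆ := by
  classical
  have : Fintype A := Fintype.ofFinite A
  let N : P →* Abelianization P :=
    { toFun := fun x => ∏ a : A, Abelianization.of (⟨(a : X) * x * (a : X)⁻¹,
        H1.Coprime.conj_mem_of_le_normalizer hAP a.2 x.2⟩ : P)
      map_one' := by
        apply Finset.prod_eq_one
        intro a _
        have : (⟨(a : X) * ((1 : P) : X) * (a : X)⁻¹,
          H1.Coprime.conj_mem_of_le_normalizer hAP a.2 (1 : P).2⟩ : P) = 1 := by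
          apply Subtype.ext; simp
        rw [this, map_one]
      map_mul' := fun x y => by
        rw [← Finset.prod_mul_distrib]
        apply Finset.prod_congr rfl
        intro a _
        rw [← map_mul]
        congr 1
        apply Subtype.ext
        simp only [coe_mul]
        group }
  have hN : ∀ x : P, N x = ∏ a : A, Abelianization.of (⟨(a : X) * x * (a : X)⁻¹,
        H1.Coprime.conj_mem_of_le_normalizer hAP a.2 x.2⟩ : P) := fun x => rfl
  have hNinv : ∀ (b : X) (hb : b ∈ A) (x : P),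
      N ⟨b * x * b⁻¹, H1.Coprime.conj_mem_of_le_normalizer hAP hb x.2⟩ = N x := by
    intro b hb x
    rw [hN, hN]
    have h1 := Equiv.prod_comp (Equiv.mulRight (⟨b, hb⟩ : A)) (fun a : A =>
      Abelianization.of (⟨(a : X) * x * (a : X)⁻¹, H1.Coprime.conj_mem_of_le_normalizer hAP a.2 x.2⟩ : P))
    rw [← h1]
    apply Finset.prod_congr rfl
    intro a _
    congr 1
    apply Subtype.ext
    simp only [Equiv.coe_mulRight, coe_mul]
    group
  have hker : ⁅P, A⁆ ≤ N.ker.map P.subtype := by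
    rw [commutator_le]
    intro x hx a ha
    have h1 : a * x⁻¹ * a⁻¹ ∈ P := H1.Coprime.conj_mem_of_le_normalizer hAP ha (P.inv_mem hx)
    refine ⟨⟨x, hx⟩ * ⟨a * x⁻¹ * a⁻¹, h1⟩, ?_, ?_⟩
    · rw [SetLike.mem_coe, MonoidHom.mem_ker, map_mul]
      have h2 := hNinv a ha (⟨x, hx⟩⁻¹ : P)
      have h3 : N ⟨a * x⁻¹ * a⁻¹, h1⟩ = N (⟨x, hx⟩⁻¹ : P) := h2
      rw [h3, map_inv, mul_inv_cancel]
    · show x * (a * x⁻¹ * a⁻¹) = ⁅x, a⁆
      rw [commutatorElement_def]; group
  have hN1 : ∀ x : P, N x = 1 := by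
    intro x
    have h1 : (x : X) ∈ N.ker.map P.subtype := hker (h.ge x.2)
    obtain ⟨y, hy, hyx⟩ := h1
    have : y = x := Subtype.ext hyx
    rw [← this]; exact hy
  intro c hc
  obtain ⟨hcP, hcA⟩ := mem_inf.mp hc
  have h1 := hN1 ⟨c, hcP⟩
  rw [hN] at h1
  have h2 : ∀ a : A, (⟨(a : X) * c * (a : X)⁻¹,
      H1.Coprime.conj_mem_of_le_normalizer hAP a.2 hcP⟩ : P) = ⟨c, hcP⟩ := by
    intro a
    apply Subtype.ext
    show (a : X) * c * (a : X)⁻¹ = c
    rw [mem_centralizer_iff.mp hcA a a.2]; group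
  have h3 : (Abelianization.of (⟨c, hcP⟩ : P)) ^ (Nat.card A) = 1 := by
    rw [← h1, Nat.card_eq_fintype_card, ← Finset.card_univ, ← Finset.prod_const]
    apply Finset.prod_congr rfl
    intro a _
    rw [h2 a]
  have h4 : (Abelianization.of (⟨c, hcP⟩ : P)) ^ (Nat.card P) = 1 := by
    rw [← map_pow, pow_card_eq_one', map_one]
  have h5 : orderOf (Abelianization.of (⟨c, hcP⟩ : P)) ∣ Nat.gcd (Nat.card A) (Nat.card P) :=
    Nat.dvd_gcd (orderOf_dvd_of_pow_eq_one h3) (orderOf_dvd_of_pow_eq_one h4)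
  rw [hcop, Nat.dvd_one, orderOf_eq_one_iff] at h5
  have h6 : (⟨c, hcP⟩ : P) ∈ _root_.commutator P := (QuotientGroup.eq_one_iff _).mp h5
  have h7 : c ∈ (_root_.commutator P).map P.subtype := ⟨_, h6, rfl⟩
  rwa [_root_.commutator_def, map_commutator, ← MonoidHom.range_eq_map, range_subtype] at h7

omit [Finite X] in
/-- three subgroups: if `[U,A] = 1`, `P` normalizes `U`, `[P,A] = P` then `U ≤ C(P)` -/
theorem le_centralizer_of_commutator_eq {A P U : Subgroup X} (hPU : P ≤ normalizer (U : Set X))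
    (hPA : ⁅P, A⁆ = P) (hUA : ⁅U, A⁆ = ⊥) : U ≤ centralizer (P : Set X) := by
  have h3 : ⁅⁅U, A⁆, P⁆ = ⊥ := by rw [hUA]; exact commutator_bot_left P
  have h4 : ⁅⁅P, U⁆, A⁆ = ⊥ := by
    rw [eq_bot_iff, ← hUA]
    apply commutator_mono _ le_rfl
    rw [commutator_comm]
    exact H1.Coprime.commutator_le_of_le_normalizer hPU
  have h5 : ⁅⁅A, P⁆, U⁆ = ⊥ := commutator_commutator_eq_bot_of_rotate h4 h3
  rw [commutator_comm A P, hPA] at h5
  exact commutator_eq_bot_iff'.mp h5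

/-- **Hall–Higman reduction**. -/
theorem reduction {p : ℕ} [hp : Fact p.Prime] {B A P : Subgroup X} (hP : IsPGroup p P)
    (hBP : B ≤ normalizer (P : Set X)) (hAB : A ≤ B) (hAn : B ≤ normalizer (A : Set X))
    (hAp : (Nat.card A).Coprime p) (hnt : ⁅P, A⁆ ≠ ⊥)
    (hmin : ∀ U : Subgroup X, U < P → B ≤ normalizer (U : Set X) → ⁅U, A⁆ = ⊥) :
    ⁅P, A⁆ = P ∧
    (∀ U < P, B ≤ normalizer (U : Set X) → P ≤ normalizer (U : Set X) → U ≤ centralizer (P : Set X)) ∧
    (∀ U < P, B ≤ normalizer (U : Set X) → U ≤ ⁅P, P⁆) ∧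
    (frattini P).map P.subtype = ⁅P, P⁆ ∧
    (frattini P).map P.subtype ≤ centralizer (P : Set X) ∧
    ⁅(frattini P).map P.subtype, A⁆ = ⊥ ∧
    (p ≠ 2 → ∀ x ∈ P, x ^ p = 1) := by
  have hAP : A ≤ normalizer (P : Set X) := hAB.trans hBP
  have hPsol : Group.IsSolvable P := by
    have := hP.isNilpotent
    infer_instance
  have hcop : (Nat.card A).Coprime (Nat.card P) := by
    obtain ⟨n, hn⟩ := IsPGroup.iff_card.mp hP
    rw [hn]; exact Nat.Coprime.pow_right n hAp
  have hPA : ⁅P, A⁆ = P := by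
    have hle : ⁅P, A⁆ ≤ P := H1.Coprime.commutator_le_of_le_normalizer hAP
    by_contra hne
    have h1 := hmin _ (lt_of_le_of_ne hle hne) (le_normalizer_commutator hBP hAn)
    rw [H1.Coprime.commutator_commutator_eq A P hAP hcop (Or.inr hPsol)] at h1
    exact hnt h1
  have hcen : ∀ U < P, B ≤ normalizer (U : Set X) → P ≤ normalizer (U : Set X) →
      U ≤ centralizer (P : Set X) :=
    fun U hU hBU hPU => le_centralizer_of_commutator_eq hPU hPA (hmin U hU hBU)
  have hPne : P ≠ ⊥ := by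
    rintro rfl
    exact hnt (commutator_bot_left A)
  have hcomm : ∀ U < P, B ≤ normalizer (U : Set X) → U ≤ ⁅P, P⁆ := by
    intro U hU hBU
    refine le_trans (le_inf hU.le ?_) (centralizer_le_commutator hAP hcop hPA)
    rw [le_centralizer_iff]
    exact commutator_eq_bot_iff'.mp (hmin U hU hBU)
  have hFlt := map_frattini_lt hPne
  have hBF := le_normalizer_map_frattini hBP
  have hFc := hcen _ hFlt hBF (le_normalizer_map_frattini le_normalizer)
  have hFA := hmin _ hFlt hBF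
  have hFeq : (frattini P).map P.subtype = ⁅P, P⁆ :=
    le_antisymm (hcomm _ hFlt hBF) (commutator_le_map_frattini hP)
  refine ⟨hPA, hcen, hcomm, hFeq, hFc, hFA, ?_⟩
  intro hp2
  -- the p-power map is a homomorphism on P
  have hpow : ∀ x ∈ P, ∀ y ∈ P, (x * y) ^ p = x ^ p * y ^ p := by
    intro x hx y hy
    have hc : y * x = x * y * ⁅y⁻¹, x⁻¹⁆ := by rw [commutatorElement_def]; group
    have hcm : ⁅y⁻¹, x⁻¹⁆ ∈ (frattini P).map P.subtype := by
      rw [hFeq]; exact commutator_mem_commutator (P.inv_mem hy) (P.inv_mem hx)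
    have hcx : Commute ⁅y⁻¹, x⁻¹⁆ x := (mem_centralizer_iff.mp (hFc hcm) x hx).symm
    have hcy : Commute ⁅y⁻¹, x⁻¹⁆ y := (mem_centralizer_iff.mp (hFc hcm) y hy).symm
    have hyp : y ^ p ∈ (frattini P).map P.subtype := pow_mem_map_frattini hP hy
    have hcp : ⁅y⁻¹, x⁻¹⁆ ^ p = 1 :=
      ClassTwo.pow_eq_one_of_central hc hcy (mem_centralizer_iff.mp (hFc hyp) x hx).symm
    exact ClassTwo.mul_pow_prime hp.out hp2 hc hcx hcy hcp
  let K : Subgroup X :=
    { carrier := {x | x ∈ P ∧ x ^ p = 1}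
      one_mem' := ⟨P.one_mem, one_pow p⟩
      mul_mem' := by
        rintro a b ⟨ha, ha'⟩ ⟨hb, hb'⟩
        exact ⟨P.mul_mem ha hb, by rw [hpow a ha b hb, ha', hb', mul_one]⟩
      inv_mem' := by
        rintro a ⟨ha, ha'⟩
        exact ⟨P.inv_mem ha, by rw [inv_pow, ha', inv_one]⟩ }
  have hK : ⁅P, A⁆ ≤ K := by
    rw [commutator_le]
    intro x hx a ha
    have hy : a * x⁻¹ * a⁻¹ ∈ P := H1.Coprime.conj_mem_of_le_normalizer hAP ha (P.inv_mem hx)
    have hz : ⁅x, a⁆ = x * (a * x⁻¹ * a⁻¹) := by rw [commutatorElement_def]; group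
    rw [hz]
    refine ⟨P.mul_mem hx hy, ?_⟩
    rw [hpow x hx _ hy, conj_pow]
    have h1 : (x⁻¹) ^ p ∈ (frattini P).map P.subtype := pow_mem_map_frattini hP (P.inv_mem hx)
    have h2 := mem_centralizer_iff.mp (commutator_eq_bot_iff'.mp hFA ha) _ h1
    rw [← h2, inv_pow]; group
  intro x hx
  rw [hPA] at hK
  exact (hK hx).2

end Cfsg.Agent.H22.Minimal
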