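import Mathlib

set_option autoImplicit false

namespace Cfsg.Agent.H9.SylowConj

open scoped Pointwise

/-- Two subgroups of `K` of the order of a Sylow `p`-subgroup of `K` are conjugate under `K`. -/
theorem exists_conj {G : Type*} [Group G] [Finite G] {p : ℕ} [Fact p.Prime] {K P Q : Subgroup G}
    (hP : P ≤ K) (hQ : Q ≤ K) (hPc : Nat.card P = p ^ (Nat.card K).factorization p)
    (hQc : Nat.card Q = p ^ (Nat.card K).factorization p) :
    ∃ z ∈ K, P.map (MulAut.conj z).toMonoidHom = Q := by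
  classical
  let P1 : Sylow p K := Sylow.ofCard (P.subgroupOf K) (by
    rw [Nat.card_congr (Subgroup.subgroupOfEquivOfLe hP).toEquiv, hPc])
  let Q1 : Sylow p K := Sylow.ofCard (Q.subgroupOf K) (by
    rw [Nat.card_congr (Subgroup.subgroupOfEquivOfLe hQ).toEquiv, hQc])
  obtain ⟨z, hz⟩ := MulAction.exists_smul_eq K P1 Q1
  refine ⟨z, z.2, ?_⟩
  have hle : P.map (MulAut.conj (z : G)).toMonoidHom ≤ Q := by
    rintro _ ⟨x, hx, rfl⟩
    have h1 : (⟨x, hP hx⟩ : K) ∈ (P1 : Subgroup K) := hx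
    have h2 : MulAut.conj z ⟨x, hP hx⟩ ∈ (Q1 : Subgroup K) := by
      rw [← hz, Sylow.coe_subgroup_smul]
      exact Subgroup.smul_mem_pointwise_smul _ (MulAut.conj z) _ h1
    exact h2
  refine Subgroup.eq_of_le_of_card_ge hle ?_
  rw [Subgroup.card_map_of_injective (MulAut.conj (z : G)).injective, hPc, hQc]

/-- A `p`-subgroup preserving a finite set of size prime to `p` fixes a point of it. -/
theorem exists_fixed {G : Type*} [Group G] {α : Type*} [MulAction G α] {p : ℕ}
    [Fact p.Prime] {R : Subgroup G} (hR : IsPGroup p R) (O : Set α) [Finite O]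
    (hO : ∀ r ∈ R, ∀ w ∈ O, r • w ∈ O) (hp : ¬ p ∣ Nat.card O) : ∃ w ∈ O, ∀ r ∈ R, r • w = w := by
  let X : SubMulAction R α := ⟨O, fun {c x} hx => hO c c.2 x hx⟩
  haveI : Finite X := ‹Finite O›
  obtain ⟨⟨w, hw⟩, hfix⟩ := hR.nonempty_fixed_point_of_prime_not_dvd_card X hp
  exact ⟨w, hw, fun r hr => congrArg Subtype.val (hfix ⟨r, hr⟩)⟩

theorem card_factorization_of_le {G : Type*} [Group G] [Finite G] {p : ℕ} [hp : Fact p.Prime] {P K H : Subgroup G}
    (h1 : P ≤ K) (h2 : K ≤ H) (hPc : Nat.card P = p ^ (Nat.card H).factorization p) :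
    Nat.card P = p ^ (Nat.card K).factorization p := by
  have hK : Nat.card K ≠ 0 := Nat.card_pos.ne'
  have hH : Nat.card H ≠ 0 := Nat.card_pos.ne'
  have e1 : (Nat.card H).factorization p ≤ (Nat.card K).factorization p := by
    rw [← hp.out.pow_dvd_iff_le_factorization hK, ← hPc]
    exact Subgroup.card_dvd_of_le h1
  have e2 : (Nat.card K).factorization p ≤ (Nat.card H).factorization p :=
    (Nat.factorization_le_iff_dvd hK hH).2 (Subgroup.card_dvd_of_le h2) p
  rw [hPc, le_antisymm e1 e2]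

end Cfsg.Agent.H9.SylowConj
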