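import Mathlib
import Cfsg.Agent.H12_RepF
import Cfsg.Agent.H22_Gen
import Cfsg.Agent.H22_Minimal
import Cfsg.Agent.H9_SylowConj

/-!
Representation theoretic lemmas for BG Theorem 3.6.
-/

set_option autoImplicit false
open Subgroup Cfsg
open scoped commutatorElement Pointwise

namespace Cfsg.Agent.H12.P36

open Cfsg.Agent.H22.Basic Cfsg.Agent.H22.Coprime3

section frob
variable {k V G : Type*} [Field k] [AddCommGroup V] [Module k V] [Group G] [Finite G]

/-- If `⟨σ⟩` acts fixed point freely on `Z`, `Z` has no fixed vectors and `σ` has a fixed space of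
dimension at most one, then the centralizer of `Z` acts commutatively. -/
theorem comm_of_frob (ρ : G →* Module.End k V) (Z : Subgroup G) (hZab : ∀ x ∈ Z, ∀ y ∈ Z, x * y = y * x)
    (σ : G) {r : ℕ} (hr : 0 < r) (hσr : σ ^ r = 1) (hσZ : σ ∈ normalizer (Z : Set G))
    (hfpf : ∀ i, 0 < i → i < r → ∀ a ∈ Z, σ ^ i * a = a * σ ^ i → a = 1)
    (hZk : (Nat.card Z : k) ≠ 0)
    (hone : ∀ v w, ρ σ v = v → ρ σ w = w → v ≠ 0 → ∃ c : k, w = c • v)
    (g h : G) (hg : g ∈ centralizer (Z : Set G)) (hh : h ∈ centralizer (Z : Set G)) [Fintype Z]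
    (v : V) (hv : (∑ z : Z, ρ z) v = 0) :
    ρ g (ρ h v) = ρ h (ρ g v) := by
  classical
  set N : Module.End k V := ∑ a : Z, ρ a with hN
  have hgN : ∀ g ∈ normalizer (Z : Set G), ∀ v, N v = 0 → N (ρ g v) = 0 := by
    intro g hg v hv
    have h1 := RepF.norm_comm ρ Z g hg
    rw [← hN] at h1
    rw [← Module.End.mul_apply, ← h1, Module.End.mul_apply, hv, map_zero]
  have hσi : ∀ i : ℕ, σ ^ i ∈ normalizer (Z : Set G) := fun i => pow_mem hσZ i
  set T : Module.End k V := ∑ i ∈ Finset.range r, ρ σ ^ i with hT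
  have hσT : ρ σ * T = T := by
    rw [hT, Finset.mul_sum]
    have h1 : ∀ i ∈ Finset.range r, ρ σ * ρ σ ^ i = ρ σ ^ (i + 1) := fun i _ => (pow_succ' _ _).symm
    rw [Finset.sum_congr rfl h1]
    have h2 := Finset.sum_range_succ' (fun i => ρ σ ^ i) r
    have h3 := Finset.sum_range_succ (fun i => ρ σ ^ i) r
    rw [h3] at h2
    rw [← map_pow, hσr, map_one, pow_zero] at h2
    exact (add_right_cancel h2).symm
  -- key identity
  have key : ∀ i, 0 < i → i < r → ∀ v, N v = 0 → (∑ a : Z, ρ a * ρ σ ^ i * ρ (a : G)⁻¹) v = 0 := by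
    intro i hi hir v hv
    have h1 : ∀ a : Z, ρ a * ρ σ ^ i * ρ (a : G)⁻¹ = ρ (a * (σ ^ i * (a : G)⁻¹ * (σ ^ i)⁻¹)) * ρ σ ^ i := by
      intro a
      rw [← map_pow, ← map_mul, ← map_mul, ← map_mul]
      congr 1; group
    simp_rw [h1]
    rw [← Finset.sum_mul]
    have hmem : ∀ a : Z, (a : G) * (σ ^ i * (a : G)⁻¹ * (σ ^ i)⁻¹) ∈ Z := by
      intro a
      apply mul_mem a.2
      have h2 : σ ^ i ∈ normalizer (Z : Set G) := pow_mem hσZ i
      exact ((Subgroup.mem_normalizer_iff.mp h2) _).mp (inv_mem a.2)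
    let f : Z → Z := fun a => ⟨(a : G) * (σ ^ i * (a : G)⁻¹ * (σ ^ i)⁻¹), hmem a⟩
    have hf : Function.Injective f := by
      intro a b hab
      have h2 : (a : G) * (σ ^ i * (a : G)⁻¹ * (σ ^ i)⁻¹) = b * (σ ^ i * (b : G)⁻¹ * (σ ^ i)⁻¹) :=
        congrArg Subtype.val hab
      have h3 : (b : G)⁻¹ * a = σ ^ i * ((b : G)⁻¹ * a) * (σ ^ i)⁻¹ := by
        calc (b : G)⁻¹ * a = (b : G)⁻¹ * ((a : G) * (σ ^ i * (a : G)⁻¹ * (σ ^ i)⁻¹)) * (σ ^ i * a * (σ ^ i)⁻¹) := by
              group
          _ = (b : G)⁻¹ * (b * (σ ^ i * (b : G)⁻¹ * (σ ^ i)⁻¹)) * (σ ^ i * a * (σ ^ i)⁻¹) := by rw [h2]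
          _ = σ ^ i * ((b : G)⁻¹ * a) * (σ ^ i)⁻¹ := by group
      have h4 := hfpf i hi hir _ (mul_mem (inv_mem b.2) a.2) (by
        calc σ ^ i * ((b : G)⁻¹ * a) = (σ ^ i * ((b : G)⁻¹ * a) * (σ ^ i)⁻¹) * σ ^ i := by group
          _ = (b : G)⁻¹ * a * σ ^ i := by rw [← h3])
      apply Subtype.ext
      exact (inv_mul_eq_one.mp h4).symm
    have hbij : Function.Bijective f := Finite.injective_iff_bijective.mp hf
    have h5 : ∑ a : Z, ρ (a * (σ ^ i * (a : G)⁻¹ * (σ ^ i)⁻¹)) = N := by
      rw [hN]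
      exact Fintype.sum_bijective f hbij _ _ (fun a => rfl)
    rw [h5, Module.End.mul_apply, ← map_pow]
    exact hgN _ (hσi i) v hv
  have key2 : ∀ v, N v = 0 → (∑ a : Z, ρ a * T * ρ (a : G)⁻¹) v = (Nat.card Z : k) • v := by
    intro v hv
    have h1 : ∀ a : Z, ρ a * T * ρ (a : G)⁻¹ = ∑ i ∈ Finset.range r, ρ a * ρ σ ^ i * ρ (a : G)⁻¹ := by
      intro a
      rw [hT, Finset.mul_sum, Finset.sum_mul]
    simp_rw [h1]
    rw [Finset.sum_comm, LinearMap.sum_apply]
    have h2 : ∀ i ∈ Finset.range r, i ≠ 0 → (∑ a : Z, ρ a * ρ σ ^ i * ρ (a : G)⁻¹) v = 0 :=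
      fun i hi hi0 => key i (Nat.pos_of_ne_zero hi0) (Finset.mem_range.mp hi) v hv
    rw [Finset.sum_eq_single_of_mem 0 (Finset.mem_range.mpr hr) h2]
    have h3 : ∀ a : Z, ρ a * ρ σ ^ 0 * ρ (a : G)⁻¹ = 1 := by
      intro a
      rw [pow_zero, mul_one, ← map_mul, mul_inv_cancel, map_one]
    simp_rw [h3]
    rw [Finset.sum_const, Finset.card_univ, Nat.card_eq_fintype_card, LinearMap.smul_apply,
      Module.End.one_apply, Nat.cast_smul_eq_nsmul]
  have hTN : ∀ v, N v = 0 → N (T v) = 0 := by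
    intro v hv
    have e : T v = ∑ i ∈ Finset.range r, (ρ σ ^ i) v := by rw [hT, LinearMap.sum_apply]
    rw [e, map_sum]
    apply Finset.sum_eq_zero
    intro i _
    rw [← map_pow]
    exact hgN _ (hσi i) v hv
  by_cases hV : ∀ v : V, ρ σ v = v → N v = 0 → v = 0
  · have h1 : (Nat.card Z : k) • v = 0 := by
      rw [← key2 v hv, LinearMap.sum_apply]
      apply Finset.sum_eq_zero
      intro a _
      rw [Module.End.mul_apply, Module.End.mul_apply]
      have h2 : T (ρ (a : G)⁻¹ v) = 0 := by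
        apply hV
        · rw [← Module.End.mul_apply, hσT]
        · exact hTN _ (hgN _ (inv_mem (le_normalizer a.2)) v hv)
      rw [h2, map_zero]
    have h2 : v = 0 := by
      rcases smul_eq_zero.mp h1 with h | h
      · exact absurd h hZk
      · exact h
    rw [h2]; simp only [map_zero]
  push Not at hV
  obtain ⟨v₀, hv₀, hNv₀, hv₀ne⟩ := hV
  have hTc : ∀ v, ∃ c : k, T v = c • v₀ := fun v => hone v₀ (T v) hv₀ (by
    rw [← Module.End.mul_apply, hσT]) hv₀ne
  -- every endomorphism commuting with `Z` is determined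
  have hspan : ∀ v : V, N v = 0 → ∃ c : Z → k, v = ∑ a : Z, c a • ρ a v₀ := by
    intro v hv
    choose c hc using fun a : Z => hTc (ρ (a : G)⁻¹ v)
    refine ⟨fun a => (Nat.card Z : k)⁻¹ * c a, ?_⟩
    have h1 := key2 v hv
    simp only [LinearMap.sum_apply, Module.End.mul_apply] at h1
    have h2 : ∀ a : Z, ρ a (T (ρ (a : G)⁻¹ v)) = c a • ρ a v₀ := by
      intro a
      rw [hc, map_smul]
    simp_rw [h2] at h1
    calc v = (Nat.card Z : k)⁻¹ • ((Nat.card Z : k) • v) := by
          rw [smul_smul, inv_mul_cancel₀ hZk, one_smul]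
      _ = (Nat.card Z : k)⁻¹ • ∑ a : Z, c a • ρ a v₀ := by rw [h1]
      _ = _ := by rw [Finset.smul_sum]; simp_rw [smul_smul]
  have hdet : ∀ x ∈ centralizer (Z : Set G), ∃ c : Z → k, ∀ v, N v = 0 → ρ x v = (∑ a : Z, c a • ρ (a : G)) v := by
    intro x hx
    have hxN : x ∈ normalizer (Z : Set G) := H1.Coprime.le_normalizer_of_le_centralizer le_rfl hx
    obtain ⟨c, hc⟩ := hspan (ρ x v₀) (hgN x hxN v₀ hNv₀)
    refine ⟨c, fun v hv => ?_⟩
    set A : Module.End k V := ∑ a : Z, c a • ρ (a : G) with hA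
    have hAv : A v₀ = ρ x v₀ := by
      rw [hc, hA, LinearMap.sum_apply]
      rfl
    have hAz : ∀ z : Z, A * ρ z = ρ z * A := by
      intro z
      rw [hA, Finset.sum_mul, Finset.mul_sum]
      apply Finset.sum_congr rfl
      intro a _
      rw [smul_mul_assoc, mul_smul_comm, ← map_mul, ← map_mul, hZab a a.2 z z.2]
    have hxz : ∀ z : Z, ρ x * ρ z = ρ z * ρ x := by
      intro z
      rw [← map_mul, ← map_mul, (Subgroup.mem_centralizer_iff.mp hx) z z.2]
    obtain ⟨d, hd⟩ := hspan v hv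
    rw [hd, map_sum, map_sum]
    apply Finset.sum_congr rfl
    intro a _
    rw [map_smul, map_smul, ← Module.End.mul_apply, hxz, Module.End.mul_apply, ← hAv,
      ← Module.End.mul_apply (ρ a) A, ← hAz, Module.End.mul_apply]
  obtain ⟨c, hc⟩ := hdet g hg
  obtain ⟨d, hd⟩ := hdet h hh
  have hgN' : g ∈ normalizer (Z : Set G) := H1.Coprime.le_normalizer_of_le_centralizer le_rfl hg
  have hhN' : h ∈ normalizer (Z : Set G) := H1.Coprime.le_normalizer_of_le_centralizer le_rfl hh
  rw [hc _ (hgN h hhN' v hv), hd _ hv, hd _ (hgN g hgN' v hv), hc _ hv, ← Module.End.mul_apply,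
    ← Module.End.mul_apply]
  congr 1
  rw [Finset.sum_mul, Finset.sum_mul]
  simp_rw [Finset.mul_sum]
  rw [Finset.sum_comm]
  apply Finset.sum_congr rfl
  intro a _
  apply Finset.sum_congr rfl
  intro b _
  rw [smul_mul_smul_comm, smul_mul_smul_comm, ← map_mul, ← map_mul, hZab b b.2 a a.2, mul_comm (c b)]

/-- Fixed vectors of `B` killed by the norm of `K`. -/
def Fixes (ρ : G →* Module.End k V) (K : Subgroup G) (B : Subgroup G) (v : V) : Prop :=
  (∀ b ∈ B, ρ b v = v) ∧ ∀ (_ : Fintype K), (∑ x : K, ρ x) v = 0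

theorem fixes_cj (ρ : G →* Module.End k V) {K B : Subgroup G} {v : V} (h : Fixes ρ K B v) (g : G)
    (hg : g ∈ normalizer (K : Set G)) :
    Fixes ρ K (cj g B) (ρ g v) := by
  refine ⟨?_, ?_⟩
  · intro b hb
    rw [mem_cj] at hb
    have h1 := h.1 _ hb
    calc ρ b (ρ g v) = ρ (g * (g⁻¹ * b * g)) v := by
          rw [← Module.End.mul_apply, ← map_mul]; congr 2; group
      _ = ρ g v := by rw [map_mul, Module.End.mul_apply, h1]
  · intro _
    rw [← Module.End.mul_apply, ← RepF.norm_comm ρ K g hg, Module.End.mul_apply, h.2, map_zero]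

end frob

/-- Operators on a cyclic group commute. -/
theorem comm_le_centralizer_of_cyclic {G : Type*} [Group G] {K A B : Subgroup G} (hK : IsCyclic K)
    (hA : A ≤ normalizer (K : Set G)) (hB : B ≤ normalizer (K : Set G)) : ⁅A, B⁆ ≤ centralizer (K : Set G) := by
  rw [Subgroup.commutator_le]
  intro a ha b hb
  set φ := K.normalizerMonoidHom
  obtain ⟨m, hm⟩ := MonoidHom.map_cyclic (φ ⟨a, hA ha⟩).toMonoidHom
  obtain ⟨n, hn⟩ := MonoidHom.map_cyclic (φ ⟨b, hB hb⟩).toMonoidHom
  have hm' : ∀ g : K, φ ⟨a, hA ha⟩ g = g ^ m := hm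
  have hn' : ∀ g : K, φ ⟨b, hB hb⟩ g = g ^ n := hn
  have h1 : φ ⁅(⟨a, hA ha⟩ : normalizer (K : Set G)), ⟨b, hB hb⟩⁆ = 1 := by
    rw [map_commutatorElement, commutatorElement_eq_one_iff_mul_comm]
    ext g
    rw [MulAut.mul_apply, MulAut.mul_apply, hn', hm', hm', hn', ← zpow_mul, ← zpow_mul, mul_comm]
  rw [Subgroup.mem_centralizer_iff]
  intro v hv
  have h6 := congrArg (fun f : MulAut K => ((f ⟨v, hv⟩ : K) : G)) h1
  have h7 : ⁅a, b⁆ * v * ⁅a, b⁆⁻¹ = v := h6
  calc v * ⁅a, b⁆ = (⁅a, b⁆ * v * ⁅a, b⁆⁻¹) * ⁅a, b⁆ := by rw [h7]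
    _ = ⁅a, b⁆ * v := by group

section orbit
variable {k V G : Type*} [Field k] [AddCommGroup V] [Module k V] [Group G] [Finite G]

/-- The parity argument on hyperplanes. -/
theorem orbit_contra (ρ : G →* Module.End k V) {p q r : ℕ} [hp : Fact p.Prime] [hq : Fact q.Prime]
    (hr : r.Prime) (hpr : p ≠ r) (hrodd : Odd r) (hrk : (r : k) ≠ 0)
    (K P : Subgroup G) (σ : G) (hKab : ∀ x ∈ K, ∀ y ∈ K, x * y = y * x) (hKexp : ∀ x ∈ K, x ^ q = 1)
    (hqk : (q : k) ≠ 0) (hPK : P ≤ normalizer (K : Set G)) (hσK : σ ∈ normalizer (K : Set G))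
    (hσP : σ ∈ normalizer (P : Set G)) (hPp : IsPGroup p P)
    (hσr : orderOf σ = r) (hPodd : Odd (Nat.card P)) (hPσ : P ⊓ centralizer ({σ} : Set G) = ⊥)
    (hPirr : ∀ U < P, σ ∈ normalizer (U : Set G) → U = ⊥) (hP1 : P ≠ ⊥)
    (hKirr : ∀ U < K, P ≤ normalizer (U : Set G) → σ ∈ normalizer (U : Set G) → U = ⊥)
    (hKP : ⁅K, P⁆ = K) (hPR : ⁅P, zpowers σ⁆ = P)
    (hex : ∃ B ≤ K, (∃ a ∈ K, B ⊔ zpowers a = K) ∧ ∃ v ≠ 0, Fixes ρ K B v)
    (hone : ∀ v w, ρ σ v = v → ρ σ w = w → v ≠ 0 → ∃ c : k, w = c • v) : False := by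
  classical
  have hFG : Fintype G := Fintype.ofFinite G
  have hKq : IsPGroup q K := fun x => ⟨1, by
    apply Subtype.ext
    show (x : G) ^ (q ^ 1) = 1
    rw [pow_one]; exact hKexp x x.2⟩
  have hcardk : ∀ B ≤ K, (Nat.card B : k) ≠ 0 := by
    intro B hB
    obtain ⟨n, hn⟩ := (IsPGroup.iff_card).mp (hKq.to_le hB)
    rw [hn]; push_cast
    exact pow_ne_zero _ hqk
  have hnofix : ∀ v, Fixes ρ K K v → v = 0 := by
    intro v hv
    have h1 := hv.2 inferInstance
    rw [LinearMap.sum_apply, Finset.sum_congr rfl (fun (b : K) _ => hv.1 b b.2), Finset.sum_const,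
      Finset.card_univ, ← Nat.cast_smul_eq_nsmul k, ← Nat.card_eq_fintype_card] at h1
    rcases smul_eq_zero.mp h1 with h | h
    · exact absurd h (hcardk K le_rfl)
    · exact h
  let Ω : Set (Subgroup G) := {B | B ≤ K ∧ B.relIndex K = q ∧ ∃ v ≠ 0, Fixes ρ K B v}
  have hNK : ∀ g ∈ normalizer (K : Set G), ∀ B ∈ Ω, cj g B ∈ Ω := by
    rintro g hg B ⟨hB1, hB2, v, hv, hBv⟩
    refine ⟨?_, ?_, ρ g v, ?_, fixes_cj ρ hBv g hg⟩
    · rw [← cj_eq_of_mem_normalizer hg]
      exact cj_mono hB1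
    · have h1 : (cj g B).relIndex (cj g K) = B.relIndex K := by
        have e1 := card_mul_relIndex hB1
        have e2 := card_mul_relIndex (cj_mono (g := g) hB1)
        rw [card_cj, card_cj] at e2
        have h0 : 0 < Nat.card B := Nat.card_pos
        exact Nat.eq_of_mul_eq_mul_left h0 (e2.trans e1.symm)
      rw [cj_eq_of_mem_normalizer hg] at h1
      rw [h1, hB2]
    · intro h0
      apply hv
      have : ρ g⁻¹ (ρ g v) = v := by
        rw [← Module.End.mul_apply, ← map_mul, inv_mul_cancel, map_one]; rfl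
      rw [← this, h0, map_zero]
  -- intermediate subgroups
  have hmax : ∀ B ∈ Ω, ∀ C, B ≤ C → C ≤ K → C = B ∨ C = K := by
    rintro B ⟨hB1, hB2, -⟩ C hBC hCK
    have h1 : B.relIndex C * C.relIndex K = q := by
      rw [Subgroup.relIndex_mul_relIndex _ _ _ hBC hCK, hB2]
    rcases (Nat.dvd_prime hq.out).mp ⟨_, h1.symm⟩ with h2 | h2
    · left
      exact le_antisymm (Subgroup.relIndex_eq_one.mp h2) hBC
    · right
      rw [h2] at h1
      have h3 : C.relIndex K = 1 := by
        have := hq.out.pos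
        exact Nat.eq_of_mul_eq_mul_left this (by rw [h1, mul_one])
      exact le_antisymm hCK (Subgroup.relIndex_eq_one.mp h3)
  have hlt : ∀ B ∈ Ω, B < K := by
    rintro B ⟨hB1, hB2, -⟩
    refine lt_of_le_of_ne hB1 ?_
    rintro rfl
    rw [Subgroup.relIndex_self] at hB2
    exact hq.out.one_lt.ne hB2
  have hcardB : ∀ B ∈ Ω, ∀ C ∈ Ω, Nat.card B = Nat.card C := by
    rintro B ⟨hB1, hB2, -⟩ C ⟨hC1, hC2, -⟩
    have e1 := card_mul_relIndex hB1
    have e2 := card_mul_relIndex hC1
    rw [hB2] at e1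
    rw [hC2] at e2
    exact Nat.eq_of_mul_eq_mul_right hq.out.pos (e1.trans e2.symm)
  have hsup : ∀ B ∈ Ω, ∀ C ∈ Ω, B ≠ C → B ⊔ C = K := by
    intro B hB C hC hne
    rcases hmax B hB (B ⊔ C) le_sup_left (sup_le hB.1 hC.1) with h | h
    · exfalso
      apply hne
      have h1 : C ≤ B := by rw [← h]; exact le_sup_right
      exact (eq_of_le_of_card_le h1 (hcardB B hB C hC).le).symm
    · exact h
  -- averaging operators
  let E : Subgroup G → V → V := fun B v => (∑ b : B, ρ b) v
  have hE : ∀ (B : Subgroup G) (v : V), E B v = ∑ b : B, ρ b v := by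
    intro B v; show (∑ b : B, ρ b) v = _; rw [LinearMap.sum_apply]
  have hE1 : ∀ B ∈ Ω, ∀ v, Fixes ρ K B v → E B v = (Nat.card B : k) • v := by
    intro B _ v hv
    rw [hE, Finset.sum_congr rfl (fun (b : B) _ => hv.1 b b.2), Finset.sum_const, Finset.card_univ,
      Nat.card_eq_fintype_card, Nat.cast_smul_eq_nsmul]
  have hE2 : ∀ B ∈ Ω, ∀ C ∈ Ω, B ≠ C → ∀ w, Fixes ρ K C w → E B w = 0 := by
    intro B hB C hC hne w hw
    apply hnofix
    have h1 : K ≤ ({ carrier := {g | g ∈ K ∧ ρ g (E B w) = E B w}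
                     one_mem' := ⟨one_mem K, by rw [map_one]; rfl⟩
                     mul_mem' := by
                       rintro a b ⟨ha1, ha2⟩ ⟨hb1, hb2⟩
                       refine ⟨mul_mem ha1 hb1, ?_⟩
                       rw [map_mul, Module.End.mul_apply, hb2, ha2]
                     inv_mem' := by
                       rintro a ⟨ha1, ha2⟩
                       refine ⟨inv_mem ha1, ?_⟩
                       have : ρ a⁻¹ (ρ a (E B w)) = E B w := by
                         rw [← Module.End.mul_apply, ← map_mul, inv_mul_cancel, map_one]; rfl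
                       rwa [ha2] at this } : Subgroup G) := by
      rw [← hsup B hB C hC hne]
      refine sup_le ?_ ?_
      · intro b hb
        refine ⟨by rw [← hsup B hB C hC hne] at *; exact (le_sup_left : B ≤ B ⊔ C) hb, ?_⟩
        show ρ b ((∑ b : B, ρ b) w) = (∑ b : B, ρ b) w
        rw [← Module.End.mul_apply, RepF.mul_norm ρ B b hb]
      · intro c hc
        have hcK : c ∈ K := hC.1 hc
        refine ⟨by rw [hsup B hB C hC hne]; exact hcK, ?_⟩
        show ρ c ((∑ b : B, ρ b) w) = (∑ b : B, ρ b) w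
        have h2 : ρ c * (∑ b : B, ρ b) = (∑ b : B, ρ b) * ρ c := by
          rw [Finset.mul_sum, Finset.sum_mul]
          apply Finset.sum_congr rfl
          intro b _
          rw [← map_mul, ← map_mul, hKab c hcK b (hB.1 b.2)]
        rw [← Module.End.mul_apply, h2, Module.End.mul_apply, hw.1 c hc]
    refine ⟨fun x hx => (h1 hx).2, fun _ => ?_⟩
    show (∑ x : K, ρ x) ((∑ b : B, ρ b) w) = 0
    have h2 : (∑ x : K, ρ x) * (∑ b : B, ρ b) = (∑ b : B, ρ b) * (∑ x : K, ρ x) := by
      rw [Finset.sum_mul, Finset.mul_sum]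
      apply Finset.sum_congr rfl
      intro x _
      rw [Finset.mul_sum, Finset.sum_mul]
      apply Finset.sum_congr rfl
      intro b _
      rw [← map_mul, ← map_mul, hKab x x.2 b (hB.1 b.2)]
    rw [← Module.End.mul_apply, h2, Module.End.mul_apply, hw.2, map_zero]
  -- the norm of σ
  set T : Module.End k V := ∑ i ∈ Finset.range r, ρ σ ^ i with hT
  have hσT : ρ σ * T = T := by
    rw [hT, Finset.mul_sum]
    have h1 : ∀ i ∈ Finset.range r, ρ σ * ρ σ ^ i = ρ σ ^ (i + 1) := fun i _ => (pow_succ' _ _).symm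
    rw [Finset.sum_congr rfl h1]
    have h2 := Finset.sum_range_succ' (fun i => ρ σ ^ i) r
    have h3 := Finset.sum_range_succ (fun i => ρ σ ^ i) r
    rw [h3] at h2
    rw [← map_pow, ← hσr, pow_orderOf_eq_one, map_one, pow_zero] at h2
    rw [hσr] at h2
    exact (add_right_cancel h2).symm
  have hTfix : ∀ v, ρ σ (T v) = T v := fun v => by rw [← Module.End.mul_apply, hσT]
  have hTv : ∀ v, T v = ∑ i ∈ Finset.range r, ρ (σ ^ i) v := by
    intro v
    rw [hT, LinearMap.sum_apply]
    apply Finset.sum_congr rfl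
    intro i _
    rw [map_pow]
  have hσiK : ∀ i : ℕ, σ ^ i ∈ normalizer (K : Set G) := fun i => pow_mem hσK i
  have hE3 : ∀ B ∈ Ω, ∀ C ∈ Ω, (∀ i < r, cj (σ ^ i) C ≠ B) → ∀ w, Fixes ρ K C w → E B (T w) = 0 := by
    intro B hB C hC hne w hw
    have h1 : E B (T w) = ∑ i ∈ Finset.range r, E B (ρ (σ ^ i) w) := by
      show (∑ b : B, ρ b) (T w) = _
      rw [hTv, map_sum]
    rw [h1]
    apply Finset.sum_eq_zero
    intro i hi
    exact hE2 B hB _ (hNK _ (hσiK i) C hC) (Ne.symm (hne i (Finset.mem_range.mp hi))) _ (fixes_cj ρ hw _ (hσiK i))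
  have hgen : ∀ i : ℕ, 0 < i → i < r → ∀ B : Subgroup G, cj (σ ^ i) B = B → cj σ B = B := by
    intro i hi hir B hB
    have h1 : σ ^ i ∈ normalizer (B : Set G) := mem_normalizer_iff_cj.mpr hB
    have h2 : zpowers (σ ^ i) = zpowers σ := by
      apply Subgroup.eq_of_le_of_card_ge
      · rw [zpowers_le]; exact pow_mem (mem_zpowers σ) i
      · rw [Nat.card_zpowers, Nat.card_zpowers, Nat.Coprime.orderOf_pow]
        rw [hσr]
        exact (Nat.Prime.coprime_iff_not_dvd hr).mpr (fun hd => by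
          have := Nat.le_of_dvd hi hd
          omega)
    have h3 : σ ∈ normalizer (B : Set G) := by
      have h4 : zpowers (σ ^ i) ≤ normalizer (B : Set G) := zpowers_le.mpr h1
      rw [h2] at h4
      exact h4 (mem_zpowers σ)
    exact mem_normalizer_iff_cj.mp h3
  have hE4 : ∀ B ∈ Ω, cj σ B ≠ B → ∀ v, Fixes ρ K B v → E B (T v) = (Nat.card B : k) • v := by
    intro B hB hne v hv
    have h1 : E B (T v) = ∑ i ∈ Finset.range r, E B (ρ (σ ^ i) v) := by
      show (∑ b : B, ρ b) (T v) = _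
      rw [hTv, map_sum]
    rw [h1, Finset.sum_eq_single_of_mem 0 (Finset.mem_range.mpr hr.pos)]
    · rw [pow_zero, map_one]; exact hE1 B hB v hv
    · intro i hi hi0
      refine hE2 B hB _ (hNK _ (hσiK i) B hB) ?_ _ (fixes_cj ρ hv _ (hσiK i))
      intro h
      exact hne (hgen i (Nat.pos_of_ne_zero hi0) (Finset.mem_range.mp hi) B h.symm)
  have hE5 : ∀ (B : Subgroup G) (c : k) (v : V), E B (c • v) = c • E B v := fun B c v => map_smul _ _ _
  -- noninvariant members are conjugate under σ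
  have hconj : ∀ B ∈ Ω, ∀ C ∈ Ω, cj σ B ≠ B → cj σ C ≠ C → ∃ i < r, cj (σ ^ i) C = B := by
    intro B hB C hC hBσ hCσ
    by_contra hcon
    push Not at hcon
    obtain ⟨-, -, v, hv, hBv⟩ := id hB
    obtain ⟨-, -, w, hw, hCw⟩ := id hC
    have hTw : T w ≠ 0 := by
      intro h0
      have h1 := hE4 C hC hCσ w hCw
      rw [h0] at h1
      have h2 : E C 0 = 0 := map_zero _
      rw [h2] at h1
      rcases smul_eq_zero.mp h1.symm with h | h
      · exact hcardk C hC.1 h
      · exact hw h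
    obtain ⟨c, hc⟩ := hone (T w) (T v) (hTfix w) (hTfix v) hTw
    have h1 := hE4 B hB hBσ v hBv
    rw [hc, hE5, hE3 B hB C hC hcon w hCw, smul_zero] at h1
    rcases smul_eq_zero.mp h1.symm with h | h
    · exact hcardk B hB.1 h
    · exact hv h
  -- the fixed space of a noninvariant member is one dimensional
  have hdim : ∀ B ∈ Ω, cj σ B ≠ B → ∀ v w, v ≠ 0 → Fixes ρ K B v → Fixes ρ K B w → ∃ c : k, w = c • v := by
    intro B hB hBσ v w hv hBv hBw
    have hTv0 : T v ≠ 0 := by
      intro h0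
      have h1 := hE4 B hB hBσ v hBv
      rw [h0] at h1
      have h2 : E B 0 = 0 := map_zero _
      rw [h2] at h1
      rcases smul_eq_zero.mp h1.symm with h | h
      · exact hcardk B hB.1 h
      · exact hv h
    obtain ⟨c, hc⟩ := hone (T v) (T w) (hTfix v) (hTfix w) hTv0
    refine ⟨c, ?_⟩
    have h1 := hE4 B hB hBσ w hBw
    rw [hc, hE5, hE4 B hB hBσ v hBv, smul_comm] at h1
    have h2 : (Nat.card B : k) • (w - c • v) = 0 := by rw [smul_sub, h1, sub_self]
    rcases smul_eq_zero.mp h2 with h | h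
    · exact absurd h (hcardk B hB.1)
    · exact sub_eq_zero.mp h
  -- `P` does not normalize noninvariant members
  have hPN : ∀ B ∈ Ω, cj σ B ≠ B → ¬ P ≤ normalizer (B : Set G) := by
    intro B hB hBσ hPB
    obtain ⟨-, -, v, hv, hBv⟩ := id hB
    have h1 : ⁅K, P⁆ ≤ B := by
      rw [Subgroup.commutator_le]
      intro x hx y hy
      -- stabilizer of v in K is B
      have hxB : x ∈ normalizer (B : Set G) := by
        have : K ≤ normalizer (B : Set G) := by
          apply H1.Coprime.le_normalizer_of_le_centralizer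
          intro z hz
          rw [Subgroup.mem_centralizer_iff]
          intro y hy
          exact hKab y (hB.1 hy) z hz
        exact this hx
      have hxv : ∃ c : k, ρ x v = c • v := hdim B hB hBσ v (ρ x v) hv hBv (by
        have := fixes_cj ρ hBv x (le_normalizer hx)
        rwa [cj_eq_of_mem_normalizer hxB] at this)
      have hyv : ∃ c : k, ρ y v = c • v := hdim B hB hBσ v (ρ y v) hv hBv (by
        have := fixes_cj ρ hBv y (hPK hy)
        rwa [cj_eq_of_mem_normalizer (hPB hy)] at this)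
      obtain ⟨c, hc⟩ := hxv
      obtain ⟨d, hd⟩ := hyv
      have hcv : ρ (x * y) v = ρ (y * x) v := by
        rw [map_mul, map_mul, Module.End.mul_apply, Module.End.mul_apply, hc, hd, map_smul, map_smul, hc, hd,
          smul_comm]
      have hcomv : ρ ⁅x, y⁆ v = v := by
        have e1 : ⁅x, y⁆ = (y * x)⁻¹⁻¹ * (y * x)⁻¹ * ((x * y) * (y * x)⁻¹) := by
          rw [commutatorElement_def]; group
        have e2 : ⁅x, y⁆ * (y * x) = x * y := by rw [commutatorElement_def]; group
        have h3 : ρ (y * x) v = (d * c) • v := by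
          rw [map_mul, Module.End.mul_apply, hc, map_smul, hd, smul_smul, mul_comm]
        have h4 : ρ ⁅x, y⁆ (ρ (y * x) v) = ρ (y * x) v := by
          rw [← Module.End.mul_apply, ← map_mul, e2, hcv]
        rw [h3, map_smul] at h4
        have hdc : d * c ≠ 0 := by
          intro h0
          rw [h0, zero_smul] at h3
          apply hv
          have : ρ (y * x)⁻¹ (ρ (y * x) v) = v := by
            rw [← Module.End.mul_apply, ← map_mul, inv_mul_cancel, map_one]; rfl
          rw [← this, h3, map_zero]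
        have h5 : (d * c) • (ρ ⁅x, y⁆ v - v) = 0 := by rw [smul_sub, h4, sub_self]
        rcases smul_eq_zero.mp h5 with h | h
        · exact absurd h hdc
        · exact sub_eq_zero.mp h
      have hcomK : ⁅x, y⁆ ∈ K := by
        rw [← hKP]; exact Subgroup.commutator_mem_commutator hx hy
      -- B ⊔ zpowers ⁅x,y⁆
      rcases hmax B hB (B ⊔ zpowers ⁅x, y⁆) le_sup_left (sup_le hB.1 (zpowers_le.mpr hcomK)) with h | h
      · rw [← h]; exact (le_sup_right : zpowers ⁅x, y⁆ ≤ B ⊔ zpowers ⁅x, y⁆) (mem_zpowers _)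
      · exfalso
        apply hv
        apply hnofix
        let S : Subgroup G :=
          { carrier := {g | ρ g v = v}
            one_mem' := by show ρ 1 v = v; rw [map_one]; rfl
            mul_mem' := by
              intro a b ha hb
              show ρ (a * b) v = v
              rw [map_mul, Module.End.mul_apply, show ρ b v = v from hb]
              exact ha
            inv_mem' := by
              intro a ha
              show ρ a⁻¹ v = v
              have : ρ a⁻¹ (ρ a v) = v := by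
                rw [← Module.End.mul_apply, ← map_mul, inv_mul_cancel, map_one]; rfl
              rwa [show ρ a v = v from ha] at this }
        have h6 : B ⊔ zpowers ⁅x, y⁆ ≤ S := sup_le (fun b hb => hBv.1 b hb) (zpowers_le.mpr hcomv)
        exact ⟨fun g hg => h6 (by rw [h]; exact hg), hBv.2⟩
    rw [hKP] at h1
    exact absurd h1 (not_le_of_gt (hlt B hB))
  -- a noninvariant member exists
  obtain ⟨B₀, hB₀K, ⟨a, ha, hBa⟩, v₀, hv₀, hB₀v⟩ := hex
  have hB₀Ω : B₀ ∈ Ω := by
    refine ⟨hB₀K, ?_, v₀, hv₀, hB₀v⟩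
    have hne : B₀ ≠ K := by
      rintro rfl
      exact hv₀ (hnofix v₀ hB₀v)
    have haN : zpowers a ≤ normalizer (B₀ : Set G) := by
      apply H1.Coprime.le_normalizer_of_le_centralizer
      rw [zpowers_le, Subgroup.mem_centralizer_iff]
      intro y hy
      exact hKab y (hB₀K hy) a ha
    have h1 : B₀.relIndex K ∣ q := by
      have h2 := H12.Core.card_sup_dvd haN
      rw [sup_comm, hBa, Nat.card_zpowers, ← card_mul_relIndex hB₀K, mul_comm] at h2
      exact (Nat.dvd_of_mul_dvd_mul_right Nat.card_pos h2).trans (orderOf_dvd_of_pow_eq_one (hKexp a ha))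
    rcases (Nat.dvd_prime hq.out).mp h1 with h2 | h2
    · exact absurd (le_antisymm hB₀K (Subgroup.relIndex_eq_one.mp h2)) hne
    · exact h2
  have hinvB : ∀ B ∈ Ω, ∀ x ∈ P, cj x B ∈ Ω := fun B hB x hx => hNK x (hPK hx) B hB
  have hex1 : ∃ B ∈ Ω, cj σ B ≠ B := by
    by_contra hcon
    push Not at hcon
    have hPB : P ≤ normalizer (B₀ : Set G) := by
      let S : Subgroup G := ⨅ x : P, normalizer ((cj (x : G) B₀ : Subgroup G) : Set G)
      have hσS : zpowers σ ≤ S := zpowers_le.mpr (Subgroup.mem_iInf.mpr fun x =>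
        mem_normalizer_iff_cj.mpr (hcon _ (hinvB B₀ hB₀Ω x x.2)))
      have hPS : P ≤ normalizer (S : Set G) := by
        intro y hy
        apply mem_normalizer_of_cj_le
        intro g hg
        rw [mem_cj] at hg
        rw [Subgroup.mem_iInf]
        intro x
        have h1 := (Subgroup.mem_iInf.mp hg) ⟨y⁻¹ * x, mul_mem (inv_mem hy) x.2⟩
        rw [mem_normalizer_iff_cj] at h1 ⊢
        have h2 := congrArg (cj y) h1
        rw [← cj_mul, ← cj_mul, ← cj_mul] at h2
        have e1 : y * (y⁻¹ * g * y) * (y⁻¹ * (x : G)) = g * x := by group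
        have e2 : y * (y⁻¹ * (x : G)) = x := by group
        simp only [] at h2
        rw [← cj_mul, ← e1]
        conv_rhs => rw [← e2]
        exact h2
      have h1 : ⁅P, zpowers σ⁆ ≤ S := (Subgroup.commutator_mono le_rfl hσS).trans (by
        rw [Subgroup.commutator_comm]; exact commutator_le_left hPS)
      rw [hPR] at h1
      have h2 := h1.trans (iInf_le _ (⟨1, one_mem P⟩ : P))
      simpa using h2
    have hB1 : B₀ = ⊥ := hKirr B₀ (hlt B₀ hB₀Ω) hPB (mem_normalizer_iff_cj.mpr (hcon B₀ hB₀Ω))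
    have hKc : Nat.card K = q := by
      have := hB₀Ω.2.1
      rw [hB1, Subgroup.relIndex_bot_left] at this
      exact this
    have hKcyc : IsCyclic K := isCyclic_of_prime_card hKc
    have h1 := comm_le_centralizer_of_cyclic hKcyc hPK (zpowers_le.mpr hσK)
    rw [hPR] at h1
    have h2 : ⁅K, P⁆ = ⊥ := by
      rw [Subgroup.commutator_comm]
      exact Subgroup.commutator_eq_bot_iff_le_centralizer.mpr h1
    rw [hKP] at h2
    rw [h2, Subgroup.card_bot] at hKc
    exact hq.out.one_lt.ne hKc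
  obtain ⟨B₁, hB₁, hB₁σ⟩ := hex1
  let Δ : Set (Subgroup G) := {B | B ∈ Ω ∧ cj σ B ≠ B}
  have hmemΔ : ∀ i : ℕ, cj (σ ^ i) B₁ ∈ Δ := by
    intro i
    refine ⟨hNK _ (hσiK i) B₁ hB₁, ?_⟩
    intro h
    apply hB₁σ
    rw [← cj_mul, ← pow_succ', pow_succ, cj_mul] at h
    exact cj_injective _ h
  have hΔcard : Nat.card Δ = r := by
    let f : Fin r → Δ := fun i => ⟨cj (σ ^ (i : ℕ)) B₁, hmemΔ i⟩
    have hinj : ∀ i j : ℕ, i < j → j < r → cj (σ ^ i) B₁ ≠ cj (σ ^ j) B₁ := by
      intro i j hij hjr h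
      apply hB₁σ
      apply hgen (j - i) (by omega) (by omega)
      have e : σ ^ j = σ ^ i * σ ^ (j - i) := by rw [← pow_add]; congr 1; omega
      rw [e, cj_mul] at h
      exact (cj_injective _ h).symm
    have hfb : Function.Bijective f := by
      constructor
      · intro i j hij
        have h1 : cj (σ ^ (i : ℕ)) B₁ = cj (σ ^ (j : ℕ)) B₁ := congrArg Subtype.val hij
        rcases lt_trichotomy (i : ℕ) j with h | h | h
        · exact absurd h1 (hinj _ _ h j.2)
        · exact Fin.ext h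
        · exact absurd h1.symm (hinj _ _ h i.2)
      · rintro ⟨B, hB, hBσ⟩
        obtain ⟨i, hi, hiB⟩ := hconj B hB B₁ hB₁ hBσ hB₁σ
        exact ⟨⟨i, hi⟩, Subtype.ext hiB⟩
    rw [← Nat.card_congr (Equiv.ofBijective f hfb), Nat.card_fin]
  by_cases hcase : ∀ x ∈ P, ∀ B ∈ Δ, cj x B ∈ Δ
  · have hR : IsPGroup p (P.map (MulAut.conj : G →* MulAut G)) := hPp.map _
    have hΔfin : Finite Δ := Set.toFinite Δ
    obtain ⟨B, hB, hBP⟩ := H9.SylowConj.exists_fixed (α := Subgroup G) hR Δ (by
      rintro _ ⟨x, hx, rfl⟩ B hB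
      exact hcase x hx B hB) (by
      rw [hΔcard]
      intro hd
      exact hpr ((Nat.prime_dvd_prime_iff_eq hp.out hr).mp hd))
    apply hPN B hB.1 hB.2
    intro x hx
    exact mem_normalizer_iff_cj.mpr (hBP _ ⟨x, hx, rfl⟩)
  · push Not at hcase
    obtain ⟨x, hx, B, hB, hxB⟩ := hcase
    have hB₂ : cj x B ∈ Ω := hinvB B hB.1 x hx
    set B₂ := cj x B with hB₂def
    have hB₂σ : cj σ B₂ = B₂ := by
      by_contra h
      exact hxB ⟨hB₂, h⟩
    have hD : P ⊓ normalizer (B₂ : Set G) = ⊥ := by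
      apply hPirr
      · refine lt_of_le_of_ne inf_le_left ?_
        intro h
        have h1 : P ≤ normalizer (B₂ : Set G) := inf_eq_left.mp h
        apply hPN B hB.1 hB.2
        intro y hy
        have h2 := h1 (mul_mem (mul_mem hx hy) (inv_mem hx))
        rw [mem_normalizer_iff_cj, hB₂def, ← cj_mul] at h2
        have e : x * y * x⁻¹ * x = x * y := by group
        rw [e, cj_mul] at h2
        exact mem_normalizer_iff_cj.mpr (cj_injective _ h2)
      · have h1 : zpowers σ ≤ normalizer ((P ⊓ normalizer (B₂ : Set G) : Subgroup G) : Set G) :=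
          le_normalizer_inf (zpowers_le.mpr hσP)
            (le_normalizer_normalizer (zpowers_le.mpr (mem_normalizer_iff_cj.mpr hB₂σ)))
        exact h1 (mem_zpowers σ)
    -- counting
    have hle : Nat.card P ≤ r + 1 := by
      let g : {y : P // y ≠ 1} → Δ := fun y => ⟨cj ((y : P) : G) B₂, hinvB B₂ hB₂ _ (y : P).2, by
        intro h
        apply y.2
        have h1 : (y : P) = (1 : P) := by
          apply Subtype.ext
          have hyP : ((y : P) : G) ∈ P := (y : P).2
          set z : G := ((y : P) : G) with hz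
          have h2 : z⁻¹ * (σ * z * σ⁻¹) ∈ P ⊓ normalizer (B₂ : Set G) := by
            refine Subgroup.mem_inf.mpr ⟨mul_mem (inv_mem hyP) (((Subgroup.mem_normalizer_iff.mp hσP) _).mp hyP), ?_⟩
            rw [mem_normalizer_iff_cj]
            have e : z⁻¹ * (σ * z * σ⁻¹) = z⁻¹ * (σ * (z * σ⁻¹)) := by group
            rw [e, cj_mul, cj_mul, cj_mul]
            have h3 : cj σ⁻¹ B₂ = B₂ := by
              conv_lhs => rw [← hB₂σ]
              rw [cj_inv_cj]
            rw [h3, h, cj_inv_cj]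
          rw [hD, Subgroup.mem_bot] at h2
          have h3 : z ∈ P ⊓ centralizer ({σ} : Set G) := by
            refine ⟨hyP, ?_⟩
            show z ∈ centralizer ({σ} : Set G)
            rw [Subgroup.mem_centralizer_singleton_iff]
            have h4 : σ * z * σ⁻¹ = z := (inv_mul_eq_one.mp h2).symm
            calc z * σ = (σ * z * σ⁻¹) * σ := by rw [h4]
              _ = σ * z := by group
          rw [hPσ] at h3
          exact Subgroup.mem_bot.mp h3
        exact h1⟩
      have hg : Function.Injective g := by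
        intro y z hyz
        have h1 : cj ((y : P) : G) B₂ = cj ((z : P) : G) B₂ := congrArg Subtype.val hyz
        apply Subtype.ext
        apply Subtype.ext
        have h2 : ((z : P) : G)⁻¹ * ((y : P) : G) ∈ P ⊓ normalizer (B₂ : Set G) := by
          refine Subgroup.mem_inf.mpr ⟨mul_mem (inv_mem (z : P).2) (y : P).2, ?_⟩
          rw [mem_normalizer_iff_cj, cj_mul, h1, cj_inv_cj]
        rw [hD, Subgroup.mem_bot] at h2
        exact (inv_mul_eq_one.mp h2).symm
      have hΔfin : Finite Δ := Set.toFinite Δ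
      have h1 := Nat.card_le_card_of_injective g hg
      rw [hΔcard] at h1
      have h2 : Nat.card {y : P // y ≠ 1} = Nat.card P - 1 := by
        rw [Nat.card_eq_fintype_card, Nat.card_eq_fintype_card, Fintype.card_subtype_compl,
          Fintype.card_subtype_eq]
      omega
    have hcardP : Nat.card P ≠ 1 := by
      intro h
      exact hP1 (Subgroup.card_eq_one.mp h)
    have horb := RepE.card_orbits hr (MulEquiv.toEquiv (P.normalizerMonoidHom ⟨σ, hσP⟩)) (by
        have h1 : ∀ (i : ℕ) (x : P), (((MulEquiv.toEquiv (P.normalizerMonoidHom ⟨σ, hσP⟩)) ^ i) x : P)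
            = (P.normalizerMonoidHom (⟨σ, hσP⟩ ^ i)) x := by
          intro i
          induction i with
          | zero => intro x; rw [pow_zero, pow_zero, map_one]; rfl
          | succ i ih =>
            intro x
            rw [pow_succ', pow_succ', Equiv.Perm.mul_apply, ih, map_mul]
            rfl
        ext x
        rw [h1]
        have h2 : (⟨σ, hσP⟩ : normalizer (P : Set G)) ^ r = 1 := by
          apply Subtype.ext
          show σ ^ r = 1
          rw [← hσr, pow_orderOf_eq_one]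
        rw [h2, map_one]; rfl) (1 : P) (by
        intro y
        constructor
        · intro h
          have h1 : σ * (y : G) * σ⁻¹ = y := congrArg Subtype.val h
          have h3 : (y : G) ∈ P ⊓ centralizer ({σ} : Set G) := by
            refine ⟨y.2, ?_⟩
            show (y : G) ∈ centralizer ({σ} : Set G)
            rw [Subgroup.mem_centralizer_singleton_iff]
            calc (y : G) * σ = (σ * y * σ⁻¹) * σ := by rw [h1]
              _ = σ * y := by group
          rw [hPσ] at h3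
          exact Subtype.ext (Subgroup.mem_bot.mp h3)
        · rintro rfl
          exact map_one (P.normalizerMonoidHom ⟨σ, hσP⟩)) hcardP
    obtain ⟨t, ht⟩ : ∃ t, t = Fintype.card (MulAction.orbitRel.Quotient
      (zpowers (MulEquiv.toEquiv (P.normalizerMonoidHom ⟨σ, hσP⟩))) P) := ⟨_, rfl⟩
    rw [← ht] at horb
    have hpos : 0 < Nat.card P := Nat.card_pos
    obtain ⟨a, ha⟩ := hrodd
    obtain ⟨b, hb⟩ := hPodd
    have hr1 := hr.one_lt
    rcases Nat.lt_or_ge t 2 with h | h
    · interval_cases t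
      · omega
      · omega
    · rcases Nat.lt_or_ge t 3 with h' | h'
      · have : t = 2 := by omega
        rw [this] at horb
        omega
      · have : r * 3 ≤ r * t := Nat.mul_le_mul_left _ h'
        omega

end orbit

end Cfsg.Agent.H12.P36
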