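import Mathlib
import Cfsg.Agent.H12_P36a

/-!
Internal forms of the representation theoretic lemmas for BG Theorem 3.6.
-/

set_option autoImplicit false
open Subgroup Cfsg
open scoped commutatorElement Pointwise

namespace Cfsg.Agent.H12.P36

open Cfsg.Agent.H22.Basic Cfsg.Agent.H22.Coprime3

section
variable {G : Type*} [Group G] [Finite G]

theorem comm_of_frob_aut' {p : ℕ} [hp : Fact p.Prime] {W : Type*} [CommGroup W]
    [Module (ZMod p) (Additive W)] (φ : G →* MulAut W) (Z : Subgroup G)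
    (hZab : ∀ x ∈ Z, ∀ y ∈ Z, x * y = y * x)
    (σ : G) {r : ℕ} (hr : 0 < r) (hσr : σ ^ r = 1) (hσZ : σ ∈ normalizer (Z : Set G))
    (hfpf : ∀ i, 0 < i → i < r → ∀ a ∈ Z, σ ^ i * a = a * σ ^ i → a = 1)
    (hZk : (Nat.card Z).Coprime p)
    (hone : ∀ v w : W, φ σ v = v → φ σ w = w → v ≠ 1 → ∃ c : ℕ, w = v ^ c)
    (g h : G) (hg : g ∈ centralizer (Z : Set G)) (hh : h ∈ centralizer (Z : Set G)) [Fintype Z]
    (v : W) (hv : ∏ z : Z, φ z v = 1) :
    φ g (φ h v) = φ h (φ g v) := by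
  refine comm_of_frob ((PStab.toEnd p W).comp φ) Z hZab σ hr hσr hσZ hfpf ?_ ?_ g h hg hh (Additive.ofMul v) ?_
  · intro h0
    rw [ZMod.natCast_eq_zero_iff] at h0
    have := Nat.Coprime.coprime_dvd_left h0 hZk
    rw [Nat.coprime_self] at this
    exact hp.out.ne_one this
  · intro v w hv hw hv0
    obtain ⟨c, hc⟩ := hone (Additive.toMul v) (Additive.toMul w) hv hw hv0
    refine ⟨(c : ZMod p), ?_⟩
    rw [Nat.cast_smul_eq_nsmul]
    exact hc
  · rw [LinearMap.sum_apply]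
    exact hv

theorem comm_of_frob_aut {p : ℕ} [hp : Fact p.Prime] {W : Type*} [CommGroup W]
    (hWp : ∀ v : W, v ^ p = 1) (φ : G →* MulAut W) (Z : Subgroup G)
    (hZab : ∀ x ∈ Z, ∀ y ∈ Z, x * y = y * x)
    (σ : G) {r : ℕ} (hr : 0 < r) (hσr : σ ^ r = 1) (hσZ : σ ∈ normalizer (Z : Set G))
    (hfpf : ∀ i, 0 < i → i < r → ∀ a ∈ Z, σ ^ i * a = a * σ ^ i → a = 1)
    (hZk : (Nat.card Z).Coprime p)
    (hone : ∀ v w : W, φ σ v = v → φ σ w = w → v ≠ 1 → ∃ c : ℕ, w = v ^ c)
    (g h : G) (hg : g ∈ centralizer (Z : Set G)) (hh : h ∈ centralizer (Z : Set G)) [Fintype Z]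
    (v : W) (hv : ∏ z : Z, φ z v = 1) :
    φ g (φ h v) = φ h (φ g v) := by
  let i1 := AddCommGroup.zmodModule (n := p) (G := Additive W) (fun v => by
    have := hWp (Additive.toMul v : W)
    apply Additive.toMul.injective
    exact this)
  exact @comm_of_frob_aut' G _ _ p hp W _ i1 φ Z hZab σ r hr hσr hσZ hfpf hZk hone g h hg hh _ v hv

theorem orbit_contra_aut' {p q r : ℕ} [hp : Fact p.Prime] [hq : Fact q.Prime] {W : Type*} [CommGroup W]
    [Module (ZMod p) (Additive W)] (φ : G →* MulAut W)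
    (hr : r.Prime) (hpr : p ≠ r) (hpq : p ≠ q) (hrodd : Odd r)
    (K P : Subgroup G) (σ : G) (hKab : ∀ x ∈ K, ∀ y ∈ K, x * y = y * x) (hKexp : ∀ x ∈ K, x ^ q = 1)
    (hPK : P ≤ normalizer (K : Set G)) (hσK : σ ∈ normalizer (K : Set G))
    (hσP : σ ∈ normalizer (P : Set G)) (hPp : IsPGroup p P)
    (hσr : orderOf σ = r) (hPodd : Odd (Nat.card P)) (hPσ : P ⊓ centralizer ({σ} : Set G) = ⊥)
    (hPirr : ∀ U < P, σ ∈ normalizer (U : Set G) → U = ⊥) (hP1 : P ≠ ⊥)
    (hKirr : ∀ U < K, P ≤ normalizer (U : Set G) → σ ∈ normalizer (U : Set G) → U = ⊥)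
    (hKP : ⁅K, P⁆ = K) (hPR : ⁅P, zpowers σ⁆ = P)
    (hex : ∃ B ≤ K, (∃ a ∈ K, B ⊔ zpowers a = K) ∧ ∃ v : W, v ≠ 1 ∧ (∀ z ∈ B, φ z v = v) ∧
      ∀ (_ : Fintype K), ∏ x : K, φ x v = 1)
    (hone : ∀ v w : W, φ σ v = v → φ σ w = w → v ≠ 1 → ∃ c : ℕ, w = v ^ c) : False := by
  have hne : ∀ n : ℕ, n.Prime → p ≠ n → (n : ZMod p) ≠ 0 := by
    intro n hn hpn h0
    rw [ZMod.natCast_eq_zero_iff] at h0
    exact hpn ((Nat.prime_dvd_prime_iff_eq hp.out hn).mp h0)
  refine orbit_contra (k := ZMod p) (V := Additive W) ((PStab.toEnd p W).comp φ) (p := p) (q := q) hr hpr hrodd (hne r hr hpr)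
    K P σ hKab hKexp (hne q hq.out hpq) hPK hσK hσP hPp hσr hPodd hPσ hPirr hP1 hKirr hKP hPR ?_ ?_
  · obtain ⟨B, hB, ha, v, hv, hBv, hBN⟩ := hex
    refine ⟨B, hB, ha, Additive.ofMul v, hv, hBv, fun _ => ?_⟩
    rw [LinearMap.sum_apply]
    exact hBN inferInstance
  · intro v w hv hw hv0
    obtain ⟨c, hc⟩ := hone (Additive.toMul v) (Additive.toMul w) hv hw hv0
    refine ⟨(c : ZMod p), ?_⟩
    rw [Nat.cast_smul_eq_nsmul]
    exact hc

theorem orbit_contra_aut {p q r : ℕ} [hp : Fact p.Prime] [hq : Fact q.Prime] {W : Type*} [CommGroup W]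
    (hWp : ∀ v : W, v ^ p = 1) (φ : G →* MulAut W)
    (hr : r.Prime) (hpr : p ≠ r) (hpq : p ≠ q) (hrodd : Odd r)
    (K P : Subgroup G) (σ : G) (hKab : ∀ x ∈ K, ∀ y ∈ K, x * y = y * x) (hKexp : ∀ x ∈ K, x ^ q = 1)
    (hPK : P ≤ normalizer (K : Set G)) (hσK : σ ∈ normalizer (K : Set G))
    (hσP : σ ∈ normalizer (P : Set G)) (hPp : IsPGroup p P)
    (hσr : orderOf σ = r) (hPodd : Odd (Nat.card P)) (hPσ : P ⊓ centralizer ({σ} : Set G) = ⊥)
    (hPirr : ∀ U < P, σ ∈ normalizer (U : Set G) → U = ⊥) (hP1 : P ≠ ⊥)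
    (hKirr : ∀ U < K, P ≤ normalizer (U : Set G) → σ ∈ normalizer (U : Set G) → U = ⊥)
    (hKP : ⁅K, P⁆ = K) (hPR : ⁅P, zpowers σ⁆ = P)
    (hex : ∃ B ≤ K, (∃ a ∈ K, B ⊔ zpowers a = K) ∧ ∃ v : W, v ≠ 1 ∧ (∀ z ∈ B, φ z v = v) ∧
      ∀ (_ : Fintype K), ∏ x : K, φ x v = 1)
    (hone : ∀ v w : W, φ σ v = v → φ σ w = w → v ≠ 1 → ∃ c : ℕ, w = v ^ c) : False := by
  let i1 := AddCommGroup.zmodModule (n := p) (G := Additive W) (fun v => by
    have := hWp (Additive.toMul v : W)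
    apply Additive.toMul.injective
    exact this)
  exact @orbit_contra_aut' G _ _ p q r hp hq W _ i1 φ hr hpr hpq hrodd K P σ hKab hKexp hPK hσK hσP hPp
    hσr hPodd hPσ hPirr hP1 hKirr hKP hPR hex hone

/-- fixed-point-free action of a Frobenius group -/
theorem frob_aut' {p : ℕ} [hp : Fact p.Prime] {W : Type*} [CommGroup W]
    [Module (ZMod p) (Additive W)] (φ : G →* MulAut W) (P : Subgroup G)
    (σ : G) {r : ℕ} (hr : 0 < r) (hσr : σ ^ r = 1) (hσP : σ ∈ normalizer (P : Set G))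
    (hfpf : ∀ i, 0 < i → i < r → ∀ a ∈ P, σ ^ i * a = a * σ ^ i → a = 1)
    (hPp : (Nat.card P).Coprime p) (hfix : ∀ v : W, φ σ v = v → v = 1) (b : G) (hb : b ∈ P) : φ b = 1 := by
  apply PStab.toEnd_injective p W
  rw [map_one]
  set ρ := (PStab.toEnd p W).comp φ with hρ
  have htr : ∑ i ∈ Finset.range r, ρ σ ^ i = 0 := by
    ext v
    apply hfix
    show ρ σ ((∑ i ∈ Finset.range r, ρ σ ^ i) v) = _
    rw [← Module.End.mul_apply]
    congr 1
    rw [Finset.mul_sum]
    have h1 : ∀ i ∈ Finset.range r, ρ σ * ρ σ ^ i = ρ σ ^ (i + 1) := fun i _ => (pow_succ' _ _).symm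
    rw [Finset.sum_congr rfl h1]
    have h2 := Finset.sum_range_succ' (fun i => ρ σ ^ i) r
    have h3 := Finset.sum_range_succ (fun i => ρ σ ^ i) r
    rw [h3] at h2
    rw [← map_pow, hσr, map_one, pow_zero] at h2
    exact (add_right_cancel h2).symm
  have h4 := PStab.fpf_trivial ρ P r hr σ hσP hfpf htr b hb
  have h5 : IsUnit ((Nat.card P : ℕ) : Module.End (ZMod p) (Additive W)) := by
    have h6 : IsUnit ((Nat.card P : ℕ) : ZMod p) := (ZMod.isUnit_iff_coprime _ _).mpr hPp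
    have h7 := h6.map (algebraMap (ZMod p) (Module.End (ZMod p) (Additive W)))
    rwa [map_natCast] at h7
  have h6 := (h5.mul_right_eq_zero).mp h4
  exact sub_eq_zero.mp h6

theorem frob_aut {p : ℕ} [hp : Fact p.Prime] {W : Type*} [CommGroup W]
    (hWp : ∀ v : W, v ^ p = 1) (φ : G →* MulAut W) (P : Subgroup G)
    (σ : G) {r : ℕ} (hr : 0 < r) (hσr : σ ^ r = 1) (hσP : σ ∈ normalizer (P : Set G))
    (hfpf : ∀ i, 0 < i → i < r → ∀ a ∈ P, σ ^ i * a = a * σ ^ i → a = 1)
    (hPp : (Nat.card P).Coprime p) (hfix : ∀ v : W, φ σ v = v → v = 1) (b : G) (hb : b ∈ P) : φ b = 1 := by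
  let i1 := AddCommGroup.zmodModule (n := p) (G := Additive W) (fun v => by
    have := hWp (Additive.toMul v : W)
    apply Additive.toMul.injective
    exact this)
  exact @frob_aut' G _ _ p hp W _ i1 φ P σ r hr hσr hσP hfpf hPp hfix b hb

/-- Frobenius action on an elementary abelian section `K / Z`. -/
theorem frob_section {q r : ℕ} [hq : Fact q.Prime] {K Z P : Subgroup G} {σ : G} (hr : r.Prime)
    (hZK : Z ≤ K) (hKc : ⁅K, K⁆ ≤ Z) (hKq : ∀ x ∈ K, x ^ q ∈ Z)
    (hPK : P ≤ normalizer (K : Set G)) (hPZ : P ≤ normalizer (Z : Set G))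
    (hσK : σ ∈ normalizer (K : Set G)) (hσZ : σ ∈ normalizer (Z : Set G)) (hσP : σ ∈ normalizer (P : Set G))
    (hσr : orderOf σ = r) (hPσ : P ⊓ centralizer ({σ} : Set G) = ⊥) (hPq : (Nat.card P).Coprime q)
    (hfix : ∀ x ∈ K, σ * x * σ⁻¹ * x⁻¹ ∈ Z → x ∈ Z) : ⁅K, P⁆ ≤ Z := by
  classical
  -- the acting group
  set N : Subgroup G := normalizer (K : Set G) ⊓ normalizer (Z : Set G) with hN
  have hKZ : K ≤ normalizer (Z : Set G) := RepF.le_normalizer_of_commutator_le hZK hKc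
  have hZn : (Z.subgroupOf K).Normal := H12.Core.normal_subgroupOf_of_le hKZ
  let W := K ⧸ (Z.subgroupOf K)
  have hcomm : ∀ a b : W, a * b = b * a := by
    intro a b
    induction a using QuotientGroup.induction_on with
    | H a =>
    induction b using QuotientGroup.induction_on with
    | H b =>
      rw [← QuotientGroup.mk_mul, ← QuotientGroup.mk_mul, QuotientGroup.eq, Subgroup.mem_subgroupOf]
      apply hKc
      have e : (((a * b)⁻¹ * (b * a) : K) : G) = ⁅((b : G)⁻¹), ((a : G)⁻¹)⁆ := by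
        rw [commutatorElement_def]
        push_cast
        group
      rw [e]
      exact Subgroup.commutator_mem_commutator (inv_mem b.2) (inv_mem a.2)
  letI : CommGroup W := { (inferInstance : Group W) with mul_comm := hcomm }
  have hWq : ∀ v : W, v ^ q = 1 := by
    intro v
    induction v using QuotientGroup.induction_on with
    | H a =>
      rw [← QuotientGroup.mk_pow, QuotientGroup.eq_one_iff, Subgroup.mem_subgroupOf]
      exact hKq a a.2
  have hN1 : ∀ g : N, (g : G) ∈ normalizer (K : Set G) := fun g => (Subgroup.mem_inf.mp g.2).1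
  have hN2 : ∀ g : N, (g : G) ∈ normalizer (Z : Set G) := fun g => (Subgroup.mem_inf.mp g.2).2
  have hact : ∀ g : N, (Z.subgroupOf K).map (K.normalizerMonoidHom ⟨g, hN1 g⟩ : K ≃* K).toMonoidHom
      = Z.subgroupOf K := by
    intro g
    ext x
    rw [Subgroup.mem_map, Subgroup.mem_subgroupOf]
    constructor
    · rintro ⟨y, hy, rfl⟩
      rw [Subgroup.mem_subgroupOf] at hy
      exact ((Subgroup.mem_normalizer_iff.mp (hN2 g)) _).mp hy
    · intro hx
      have h1 : (g : G)⁻¹ * x * g ∈ Z := by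
        have := ((Subgroup.mem_normalizer_iff.mp (inv_mem (hN2 g))) _).mp hx
        simpa using this
      refine ⟨⟨(g : G)⁻¹ * x * g, hZK h1⟩, ?_, ?_⟩
      · rw [Subgroup.mem_subgroupOf]; exact h1
      · apply Subtype.ext
        show (g : G) * ((g : G)⁻¹ * x * g) * (g : G)⁻¹ = x
        group
  let φ : N →* MulAut W :=
    { toFun := fun g => QuotientGroup.congr _ _ (K.normalizerMonoidHom ⟨g, hN1 g⟩) (hact g)
      map_one' := by
        ext v
        induction v using QuotientGroup.induction_on with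
        | H a =>
          show ((K.normalizerMonoidHom ⟨(1 : N), hN1 1⟩ a : K) : W) = (a : W)
          congr 1
          apply Subtype.ext
          show (1 : G) * a * (1 : G)⁻¹ = a
          group
      map_mul' := by
        intro g h
        ext v
        induction v using QuotientGroup.induction_on with
        | H a =>
          show ((K.normalizerMonoidHom ⟨(g * h : N), hN1 (g * h)⟩ a : K) : W)
            = ((K.normalizerMonoidHom ⟨g, hN1 g⟩ (K.normalizerMonoidHom ⟨h, hN1 h⟩ a) : K) : W)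
          congr 1
          apply Subtype.ext
          show ((g : G) * h) * a * ((g : G) * h)⁻¹ = g * (h * a * (h : G)⁻¹) * (g : G)⁻¹
          group }
  have hφ : ∀ (g : N) (a : K), φ g (a : W) = ((K.normalizerMonoidHom ⟨g, hN1 g⟩ a : K) : W) := fun g a => rfl
  have hσN : σ ∈ N := ⟨hσK, hσZ⟩
  have hPN : P ≤ N := le_inf hPK hPZ
  rw [Subgroup.commutator_le]
  intro x hx b hb
  have h1 := frob_aut (p := q) hWq φ (P.subgroupOf N) ⟨σ, hσN⟩ hr.pos (by
      apply Subtype.ext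
      show σ ^ r = 1
      rw [← hσr, pow_orderOf_eq_one]) (by
      have h2 : zpowers σ ≤ normalizer (P : Set G) := zpowers_le.mpr hσP
      apply mem_normalizer_of_cj_le
      intro g hg
      rw [mem_cj, Subgroup.mem_subgroupOf] at hg
      rw [Subgroup.mem_subgroupOf]
      have h3 : (g : G) = σ * (σ⁻¹ * g * σ) * σ⁻¹ := by group
      rw [h3]
      exact ((Subgroup.mem_normalizer_iff.mp hσP) _).mp hg) (by
      intro i hi hir a ha hcom
      rw [Subgroup.mem_subgroupOf] at ha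
      apply Subtype.ext
      show (a : G) = 1
      have hcom' : σ ^ i * (a : G) = a * σ ^ i := congrArg Subtype.val hcom
      have h5 : zpowers (σ ^ i) = zpowers σ := by
        apply Subgroup.eq_of_le_of_card_ge
        · rw [zpowers_le]; exact pow_mem (mem_zpowers σ) i
        · rw [Nat.card_zpowers, Nat.card_zpowers, Nat.Coprime.orderOf_pow]
          rw [hσr]
          exact (Nat.Prime.coprime_iff_not_dvd hr).mpr (fun hd => by
            have := Nat.le_of_dvd hi hd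
            omega)
      have h6 : zpowers (σ ^ i) ≤ centralizer ({(a : G)} : Set G) := by
        rw [zpowers_le, Subgroup.mem_centralizer_singleton_iff]
        exact hcom'
      rw [h5, zpowers_le, Subgroup.mem_centralizer_singleton_iff] at h6
      have h7 : (a : G) ∈ P ⊓ centralizer ({σ} : Set G) := by
        refine Subgroup.mem_inf.mpr ⟨ha, ?_⟩
        rw [Subgroup.mem_centralizer_singleton_iff]
        exact h6.symm
      rw [hPσ] at h7
      exact Subgroup.mem_bot.mp h7) (by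
      rw [card_subgroupOf_eq hPN]; exact hPq) (by
      intro v hv
      induction v using QuotientGroup.induction_on with
      | H a =>
        rw [QuotientGroup.eq_one_iff, Subgroup.mem_subgroupOf]
        apply hfix a a.2
        rw [hφ, QuotientGroup.eq, Subgroup.mem_subgroupOf] at hv
        have e1 : σ * (a : G) * σ⁻¹ * (a : G)⁻¹ = a * ((σ * (a : G) * σ⁻¹)⁻¹ * a)⁻¹ * (a : G)⁻¹ := by group
        rw [e1]
        exact ((Subgroup.mem_normalizer_iff.mp (hKZ a.2)) _).mp (inv_mem hv)) ⟨b, hPN hb⟩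
      (by rw [Subgroup.mem_subgroupOf]; exact hb)
  have h2 := congrArg (fun f : MulAut W => f ((⟨x, hx⟩ : K) : W)) h1
  simp only [MulAut.one_apply] at h2
  rw [hφ, QuotientGroup.eq, Subgroup.mem_subgroupOf] at h2
  have h3 : (b * x * b⁻¹)⁻¹ * x ∈ Z := h2
  have h4 : ⁅x, b⁆ = x * ((b * x * b⁻¹)⁻¹ * x) * x⁻¹ := by
    rw [commutatorElement_def]; group
  rw [h4]
  exact ((Subgroup.mem_normalizer_iff.mp (hKZ hx)) _).mp h3

end

end Cfsg.Agent.H12.P36
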