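import Mathlib
import Cfsg.Agent.H12_P36b

/-!
The core configuration of BG Theorem 3.6.
-/

set_option autoImplicit false
open Subgroup Cfsg
open scoped commutatorElement Pointwise

namespace Cfsg.Agent.H12.P36

open Cfsg.Agent.H22.Basic Cfsg.Agent.H22.Coprime3

section
variable {G : Type*} [Group G] [Finite G]

/-- Two subgroups of a cyclic group containing elements of order `p` intersect. -/
theorem cyclic_inf_ne_bot {C A B : Subgroup G} (hC : IsCyclic C) (hA : A ≤ C) (hB : B ≤ C) {p : ℕ}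
    {a b : G} (ha : a ∈ A) (hb : b ∈ B) (hap : orderOf a = p) (hbp : orderOf b = p) : a ∈ A ⊓ B := by
  have h1 : zpowers a = zpowers b := by
    apply H12.Core.cyclic_eq_of_card_eq' hC (zpowers_le.mpr (hA ha)) (zpowers_le.mpr (hB hb))
    rw [Nat.card_zpowers, Nat.card_zpowers, hap, hbp]
  refine Subgroup.mem_inf.mpr ⟨ha, ?_⟩
  have h2 : a ∈ zpowers b := by rw [← h1]; exact mem_zpowers a
  exact (zpowers_le.mpr hb) h2

/-- The norm over `K` kills `[V, K]`. -/
theorem norm_commutator {V K : Subgroup G} [V.Normal] (hVab : V ≤ centralizer (V : Set G)) :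
    letI : CommGroup V := { (inferInstance : Group V) with
      mul_comm := fun a b => Subtype.ext ((Subgroup.mem_centralizer_iff.mp (hVab b.2)) a a.2) }
    ∀ (v : V), (v : G) ∈ ⁅V, K⁆ → ∀ (_ : Fintype K), ∏ x : K, (MulAut.conjNormal (x : G) : MulAut V) v = 1 := by
  letI : CommGroup V := { (inferInstance : Group V) with
    mul_comm := fun a b => Subtype.ext ((Subgroup.mem_centralizer_iff.mp (hVab b.2)) a a.2) }
  intro v hv hK
  let Nm : V →* V :=
    { toFun := fun v => ∏ x : K, (MulAut.conjNormal (x : G) : MulAut V) v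
      map_one' := by simp
      map_mul' := by
        intro a b
        rw [← Finset.prod_mul_distrib]
        apply Finset.prod_congr rfl
        intro x _
        rw [map_mul] }
  have hNm : ∀ (y : K) (w : V), Nm ((MulAut.conjNormal (y : G) : MulAut V) w) = Nm w := by
    intro y w
    show ∏ x : K, (MulAut.conjNormal (x : G) : MulAut V) ((MulAut.conjNormal (y : G) : MulAut V) w)
      = ∏ x : K, (MulAut.conjNormal (x : G) : MulAut V) w
    refine Fintype.prod_equiv (Equiv.mulRight y) _ _ ?_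
    intro x
    rw [Equiv.coe_mulRight, ← MulAut.mul_apply, ← map_mul]
    rfl
  have h1 : ⁅V, K⁆ ≤ (Nm.ker).map V.subtype := by
    rw [Subgroup.commutator_le]
    intro w hw x hx
    have hmem : x * w⁻¹ * x⁻¹ ∈ V := Subgroup.Normal.conj_mem ‹V.Normal› _ (inv_mem hw) x
    refine ⟨⟨w, hw⟩ * ⟨x * w⁻¹ * x⁻¹, hmem⟩, ?_, ?_⟩
    · show Nm _ = 1
      rw [map_mul]
      have h2 : (⟨x * w⁻¹ * x⁻¹, hmem⟩ : V) = (MulAut.conjNormal ((⟨x, hx⟩ : K) : G) : MulAut V) (⟨w, hw⟩ : V)⁻¹ := by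
        apply Subtype.ext
        rw [MulAut.conjNormal_apply]
        rfl
      rw [h2, hNm, map_inv, mul_inv_cancel]
    · show w * (x * w⁻¹ * x⁻¹) = ⁅w, x⁆
      rw [commutatorElement_def]; group
  obtain ⟨u, hu, huv⟩ := h1 hv
  have : u = v := Subtype.ext huv
  rw [← this]
  exact hu

theorem core_nonab (hodd : Odd (Nat.card G)) {p q r : ℕ} [hp : Fact p.Prime] [hq : Fact q.Prime]
    (hr : r.Prime) (hpq : p ≠ q) (hpr : p ≠ r) (hqr : q ≠ r) (V K P : Subgroup G) (σ : G) [hVn : V.Normal]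
    (hVab : V ≤ centralizer (V : Set G)) (hVp : ∀ v ∈ V, v ^ p = 1) (hKq : IsPGroup q K) (hPp : IsPGroup p P)
    (hσr : orderOf σ = r) (hPK : P ≤ normalizer (K : Set G)) (hσK : zpowers σ ≤ normalizer (K : Set G))
    (hσP : zpowers σ ≤ normalizer (P : Set G))
    (hKP : ⁅K, P⁆ = K) (hKexp : ∀ x ∈ K, x ^ q = 1) (hKK : ⁅K, K⁆ ≤ centralizer (K : Set G))
    (hKKP : ⁅⁅K, K⁆, P⁆ = ⊥) (hKne : ¬ K ≤ centralizer (K : Set G))
    (hKV : K ⊓ centralizer (V : Set G) = ⊥)
    (hPσ : P ⊓ centralizer (zpowers σ : Set G) = ⊥)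
    (hone : ∀ v ∈ V, ∀ w ∈ V, σ * v * σ⁻¹ = v → σ * w * σ⁻¹ = w → v ≠ 1 → ∃ c : ℕ, w = v ^ c)
    (hz2 : IsCyclic ↥(K ⊓ centralizer (zpowers σ : Set G))) : False := by
  classical
  have hFG : Fintype G := Fintype.ofFinite G
  set Z := ⁅K, K⁆ with hZ
  have hcz : centralizer ({σ} : Set G) = centralizer (zpowers σ : Set G) := by
    rw [zpowers_eq_closure, Subgroup.centralizer_closure]
  have hcopR : ∀ {s : ℕ} (_ : s.Prime) (_ : s ≠ r) {H : Subgroup G} (_ : IsPGroup s H),
      (Nat.card (zpowers σ)).Coprime (Nat.card H) := by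
    intro s hs hsr H hH
    have : Fact s.Prime := ⟨hs⟩
    rw [Nat.card_zpowers, hσr]
    obtain ⟨n, hn⟩ := (IsPGroup.iff_card).mp hH
    rw [hn]
    exact Nat.Coprime.pow_right n ((Nat.coprime_primes hr hs).mpr (Ne.symm hsr))
  have hZK : Z ≤ K := commutator_le_left le_normalizer
  have hσZ : zpowers σ ≤ normalizer (Z : Set G) := le_normalizer_commutator hσK hσK
  have hPZ : P ≤ normalizer (Z : Set G) := le_normalizer_commutator hPK hPK
  have hKZ : K ≤ normalizer (Z : Set G) := le_normalizer_commutator le_normalizer le_normalizer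
  have hZ1 : Z ≠ ⊥ := by
    intro h
    exact hKne (Subgroup.commutator_eq_bot_iff_le_centralizer.mp h)
  have hPcard : (Nat.card P).Coprime q := by
    obtain ⟨n, hn⟩ := (IsPGroup.iff_card).mp hPp
    rw [hn]
    exact Nat.Coprime.pow_left n ((Nat.coprime_primes hp.out hq.out).mpr hpq)
  have hKcop := hcopR hq.out hqr hKq
  have hKsol : Group.IsSolvable K := by
    have := hKq.isNilpotent
    infer_instance
  -- σ acts fixed point freely on Z
  have hZσ : Z ⊓ centralizer (zpowers σ : Set G) = ⊥ := by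
    by_contra hne
    obtain ⟨z, hz1⟩ := (Subgroup.ne_bot_iff_exists_ne_one).mp hne
    have hzZ : (z : G) ∈ Z := (Subgroup.mem_inf.mp z.2).1
    have hzC : (z : G) ∈ centralizer (zpowers σ : Set G) := (Subgroup.mem_inf.mp z.2).2
    have hz1' : (z : G) ≠ 1 := fun h => hz1 (Subtype.ext h)
    have hzo : orderOf (z : G) = q := orderOf_eq_prime (hKexp _ (hZK hzZ)) hz1'
    have hCK : ∀ x ∈ K ⊓ centralizer (zpowers σ : Set G), x ∈ Z := by
      intro x hx
      by_cases hx1 : x = 1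
      · rw [hx1]; exact one_mem Z
      have hxo : orderOf x = q := orderOf_eq_prime (hKexp _ (Subgroup.mem_inf.mp hx).1) hx1
      have := cyclic_inf_ne_bot (A := zpowers x) (B := zpowers (z : G)) hz2 (zpowers_le.mpr hx)
        (zpowers_le.mpr (Subgroup.mem_inf.mpr ⟨hZK hzZ, hzC⟩)) (mem_zpowers x) (mem_zpowers _) hxo hzo
      exact (zpowers_le.mpr hzZ) (Subgroup.mem_inf.mp this).2
    have h1 := frob_section (q := q) (K := K) (Z := Z) (P := P) (σ := σ) hr hZK le_rfl
      (fun x hx => by rw [hKexp x hx]; exact one_mem Z) hPK hPZ (hσK (mem_zpowers σ)) (hσZ (mem_zpowers σ))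
      (hσP (mem_zpowers σ)) hσr (by rw [hcz]; exact hPσ) hPcard (by
        intro x hx hfx
        have h2 : ∀ a ∈ zpowers σ, a * x * a⁻¹ * x⁻¹ ∈ Z := by
          intro a ha
          let S : Subgroup G :=
            { carrier := {g | g ∈ normalizer (Z : Set G) ∧ g * x * g⁻¹ * x⁻¹ ∈ Z}
              one_mem' := ⟨one_mem _, by simp⟩
              mul_mem' := by
                rintro g h ⟨hg1, hg2⟩ ⟨hh1, hh2⟩
                refine ⟨mul_mem hg1 hh1, ?_⟩
                have e : g * h * x * (g * h)⁻¹ * x⁻¹ = (g * (h * x * h⁻¹ * x⁻¹) * g⁻¹) * (g * x * g⁻¹ * x⁻¹) := by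
                  group
                rw [e]
                exact mul_mem (((Subgroup.mem_normalizer_iff.mp hg1) _).mp hh2) hg2
              inv_mem' := by
                rintro g ⟨hg1, hg2⟩
                refine ⟨inv_mem hg1, ?_⟩
                have e : g⁻¹ * x * g⁻¹⁻¹ * x⁻¹ = g⁻¹ * (g * x * g⁻¹ * x⁻¹)⁻¹ * g⁻¹⁻¹ := by group
                rw [e]
                exact ((Subgroup.mem_normalizer_iff.mp (inv_mem hg1)) _).mp (inv_mem hg2) }
          have h3 : zpowers σ ≤ S := zpowers_le.mpr ⟨hσZ (mem_zpowers σ), hfx⟩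
          exact (h3 ha).2
        obtain ⟨c, hc, hxc⟩ := H1.Coprime.fixed_points_quotient (zpowers σ) K hσK hKcop (Or.inr hKsol) Z hZK
          hKZ hσZ x hx h2
        have h3 := hCK c hc
        have h4 : x = c * (x⁻¹ * c)⁻¹ := by group
        rw [h4]
        exact mul_mem h3 (inv_mem hxc))
    rw [hKP] at h1
    have h2 := eq_bot_of_le_commutator_of_isPGroup hKq h1
    apply hZ1
    rw [eq_bot_iff, ← h2]
    exact hZK
  letI : CommGroup V := { (inferInstance : Group V) with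
    mul_comm := fun a b => Subtype.ext ((Subgroup.mem_centralizer_iff.mp (hVab b.2)) a a.2) }
  have hZab : ∀ x ∈ Z, ∀ y ∈ Z, x * y = y * x := by
    intro x hx y hy
    exact (Subgroup.mem_centralizer_iff.mp (hKK hy)) x (hZK hx)
  have hZp : (Nat.card Z).Coprime p := by
    obtain ⟨n, hn⟩ := (IsPGroup.iff_card).mp (hKq.to_le hZK)
    rw [hn]
    exact Nat.Coprime.pow_left n ((Nat.coprime_primes hq.out hp.out).mpr (Ne.symm hpq))
  have hcomm : ∀ g ∈ K, ∀ h ∈ K, ∀ v : V, ∏ z : Z, (MulAut.conjNormal (z : G) : MulAut V) v = 1 →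
      (MulAut.conjNormal g : MulAut V) ((MulAut.conjNormal h : MulAut V) v)
        = (MulAut.conjNormal h : MulAut V) ((MulAut.conjNormal g : MulAut V) v) := by
    intro g hg h hh v hv
    have hKCZ : K ≤ centralizer (Z : Set G) := by
      rw [Subgroup.le_centralizer_iff]; exact hKK
    refine comm_of_frob_aut (p := p) (W := V) (fun v => Subtype.ext (hVp v v.2)) MulAut.conjNormal Z hZab σ
      hr.pos (by rw [← hσr, pow_orderOf_eq_one]) (hσZ (mem_zpowers σ)) ?_ hZp ?_ g h (hKCZ hg) (hKCZ hh) v hv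
    · intro i hi hir a ha hcom
      have h5 : zpowers (σ ^ i) = zpowers σ := by
        apply Subgroup.eq_of_le_of_card_ge
        · rw [zpowers_le]; exact pow_mem (mem_zpowers σ) i
        · rw [Nat.card_zpowers, Nat.card_zpowers, Nat.Coprime.orderOf_pow]
          rw [hσr]
          exact (Nat.Prime.coprime_iff_not_dvd hr).mpr (fun hd => by
            have := Nat.le_of_dvd hi hd
            omega)
      have h6 : zpowers (σ ^ i) ≤ centralizer ({a} : Set G) := by
        rw [zpowers_le, Subgroup.mem_centralizer_singleton_iff]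
        exact hcom
      rw [h5, zpowers_le, Subgroup.mem_centralizer_singleton_iff] at h6
      have h7 : a ∈ Z ⊓ centralizer (zpowers σ : Set G) := by
        refine Subgroup.mem_inf.mpr ⟨ha, ?_⟩
        rw [← hcz, Subgroup.mem_centralizer_singleton_iff]
        exact h6.symm
      rw [hZσ] at h7
      exact Subgroup.mem_bot.mp h7
    · intro v w hv hw hv1
      obtain ⟨c, hc⟩ := hone v v.2 w w.2 (congrArg Subtype.val hv) (congrArg Subtype.val hw)
        (fun h => hv1 (Subtype.ext h))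
      exact ⟨c, Subtype.ext hc⟩
  -- [V, Z] = 1
  have hVZ : ⁅V, Z⁆ = ⊥ := by
    rw [eq_bot_iff]
    intro v hv
    rw [Subgroup.mem_bot]
    have hvV : v ∈ V := commutator_le_left (H12.Core.le_normalizer_of_normal Z V) hv
    have hNm : ∏ z : Z, (MulAut.conjNormal (z : G) : MulAut V) ⟨v, hvV⟩ = 1 := norm_commutator hVab ⟨v, hvV⟩ hv _
    -- elements of Z fix v
    have hfixv : ∀ z ∈ Z, z * v * z⁻¹ = v := by
      have h1 : Z ≤ centralizer ({v} : Set G) := by
        rw [hZ, Subgroup.commutator_le]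
        intro g hg h hh
        rw [Subgroup.mem_centralizer_singleton_iff]
        -- use commutation on a suitable vector
        have hKN : ∀ k ∈ K, ∏ z : Z, (MulAut.conjNormal (z : G) : MulAut V) ((MulAut.conjNormal k : MulAut V) ⟨v, hvV⟩) = 1 := by
          intro k hk
          have e : ∀ z : Z, (MulAut.conjNormal (z : G) : MulAut V) ((MulAut.conjNormal k : MulAut V) ⟨v, hvV⟩)
              = (MulAut.conjNormal k : MulAut V) ((MulAut.conjNormal (z : G) : MulAut V) ⟨v, hvV⟩) := by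
            intro z
            rw [← MulAut.mul_apply, ← MulAut.mul_apply, ← map_mul, ← map_mul,
              (Subgroup.mem_centralizer_iff.mp (hKK z.2)) k hk]
          simp_rw [e]
          rw [← map_prod, hNm, map_one]
        have h2 := hcomm g hg h hh _ (hKN (h * g)⁻¹ (inv_mem (mul_mem hh hg)))
        have h3 := congrArg Subtype.val h2
        simp only [MulAut.conjNormal_apply] at h3
        have h4 : ⁅g, h⁆ * v * ⁅g, h⁆⁻¹ = v := by
          have e1 : g * (h * ((h * g)⁻¹ * v * (h * g)⁻¹⁻¹) * h⁻¹) * g⁻¹ = ⁅g, h⁆ * v * ⁅g, h⁆⁻¹ := by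
            rw [commutatorElement_def]; group
          have e2 : h * (g * ((h * g)⁻¹ * v * (h * g)⁻¹⁻¹) * g⁻¹) * h⁻¹ = v := by group
          rw [e1, e2] at h3
          exact h3
        calc ⁅g, h⁆ * v = (⁅g, h⁆ * v * ⁅g, h⁆⁻¹) * ⁅g, h⁆ := by group
          _ = v * ⁅g, h⁆ := by rw [h4]
      intro z hz
      have h2 := Subgroup.mem_centralizer_singleton_iff.mp (h1 hz)
      rw [h2]; group
    have h1 : (⟨v, hvV⟩ : V) ^ Nat.card Z = 1 := by
      have e : ∀ z : Z, (MulAut.conjNormal (z : G) : MulAut V) ⟨v, hvV⟩ = ⟨v, hvV⟩ := by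
        intro z
        apply Subtype.ext
        rw [MulAut.conjNormal_apply]
        exact hfixv z z.2
      simp_rw [e] at hNm
      rw [Finset.prod_const, Finset.card_univ, ← Nat.card_eq_fintype_card] at hNm
      exact hNm
    have h2 : v ^ Nat.card Z = 1 := congrArg Subtype.val h1
    have h3 : orderOf v ∣ Nat.gcd (Nat.card Z) p :=
      Nat.dvd_gcd (orderOf_dvd_of_pow_eq_one h2) (orderOf_dvd_of_pow_eq_one (hVp v hvV))
    rw [hZp] at h3
    exact orderOf_eq_one_iff.mp (Nat.dvd_one.mp h3)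
  have h1 : Z ≤ K ⊓ centralizer (V : Set G) := by
    refine le_inf hZK ?_
    rw [← Subgroup.commutator_eq_bot_iff_le_centralizer, Subgroup.commutator_comm]
    exact hVZ
  rw [hKV] at h1
  exact hZ1 (le_bot_iff.mp h1)

theorem core_ab (hodd : Odd (Nat.card G)) {p q r : ℕ} [hp : Fact p.Prime] [hq : Fact q.Prime]
    (hr : r.Prime) (hpq : p ≠ q) (hpr : p ≠ r) (V K P : Subgroup G) (σ : G) [hVn : V.Normal]
    (hVab : V ≤ centralizer (V : Set G)) (hVp : ∀ v ∈ V, v ^ p = 1) (hKq : IsPGroup q K) (hPp : IsPGroup p P)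
    (hσr : orderOf σ = r) (hPK : P ≤ normalizer (K : Set G)) (hσK : zpowers σ ≤ normalizer (K : Set G))
    (hσP : zpowers σ ≤ normalizer (P : Set G))
    (hKP : ⁅K, P⁆ = K) (hKexp : ∀ x ∈ K, x ^ q = 1) (hKab : K ≤ centralizer (K : Set G))
    (hPR : ⁅P, zpowers σ⁆ = P)
    (hPirr : ∀ U < P, zpowers σ ≤ normalizer (U : Set G) → U = ⊥) (hP1 : P ≠ ⊥)
    (hKirr : ∀ U < K, P ⊔ zpowers σ ≤ normalizer (U : Set G) → U = ⊥) (hK1 : K ≠ ⊥)
    (hKV : K ⊓ centralizer (V : Set G) = ⊥)
    (hPσ : P ⊓ centralizer (zpowers σ : Set G) = ⊥)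
    (hone : ∀ v ∈ V, ∀ w ∈ V, σ * v * σ⁻¹ = v → σ * w * σ⁻¹ = w → v ≠ 1 → ∃ c : ℕ, w = v ^ c) : False := by
  classical
  have hcz : centralizer ({σ} : Set G) = centralizer (zpowers σ : Set G) := by
    rw [zpowers_eq_closure, Subgroup.centralizer_closure]
  have hrodd : Odd r := by
    have : r ∣ Nat.card G := by rw [← hσr]; exact orderOf_dvd_natCard σ
    exact Odd.of_dvd_nat hodd this
  have hPodd : Odd (Nat.card P) := Odd.of_dvd_nat hodd (Subgroup.card_subgroup_dvd_card P)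
  have hVcard : (Nat.card K).Coprime (Nat.card V) := by
    have hVpg : IsPGroup p V := fun x => ⟨1, by
      apply Subtype.ext
      show (x : G) ^ (p ^ 1) = 1
      rw [pow_one]; exact hVp x x.2⟩
    obtain ⟨n, hn⟩ := (IsPGroup.iff_card).mp hVpg
    obtain ⟨m, hm⟩ := (IsPGroup.iff_card).mp hKq
    rw [hn, hm]
    exact Nat.Coprime.pow _ _ ((Nat.coprime_primes hq.out hp.out).mpr (Ne.symm hpq))
  have hab : ∀ x ∈ K, ∀ y ∈ K, x * y = y * x := fun x hx y hy =>
    (Subgroup.mem_centralizer_iff.mp (hKab hy)) x hx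
  letI : CommGroup V := { (inferInstance : Group V) with
    mul_comm := fun a b => Subtype.ext ((Subgroup.mem_centralizer_iff.mp (hVab b.2)) a a.2) }
  refine orbit_contra_aut (p := p) (q := q) (W := V) (fun v => Subtype.ext (hVp v v.2)) MulAut.conjNormal
    hr hpr hpq hrodd K P σ hab hKexp hPK (hσK (mem_zpowers σ)) (hσP (mem_zpowers σ)) hPp hσr hPodd
    (by rw [hcz]; exact hPσ) (fun U hU hσU => hPirr U hU (zpowers_le.mpr hσU)) hP1
    (fun U hU hPU hσU => hKirr U hU (sup_le hPU (zpowers_le.mpr hσU))) hKP hPR ?_ ?_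
  · by_contra hcon
    -- ⁅V, K⁆
    have hVK : ⁅V, K⁆ ≤ V := commutator_le_left (H12.Core.le_normalizer_of_normal K V)
    have hKN : K ≤ normalizer ((⁅V, K⁆ : Subgroup G) : Set G) := right_le_normalizer_commutator V K
    have h1 : ⁅V, K⁆ ≤ (⊥ : Subgroup G) := by
      refine H22.Gen.gen_cyclic hab hKN (Nat.Coprime.coprime_dvd_right (Subgroup.card_dvd_of_le hVK) hVcard) ?_
      intro B hB ha v hv
      rw [Subgroup.mem_bot]
      by_contra hv1
      apply hcon
      obtain ⟨hv2, hv3⟩ := Subgroup.mem_inf.mp hv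
      refine ⟨B, hB, ha, ⟨v, hVK hv2⟩, ?_, ?_, ?_⟩
      · intro h
        exact hv1 (congrArg Subtype.val h)
      · intro z hz
        apply Subtype.ext
        rw [MulAut.conjNormal_apply]
        show z * v * z⁻¹ = v
        rw [(Subgroup.mem_centralizer_iff.mp hv3) z hz]; group
      · exact norm_commutator hVab ⟨v, hVK hv2⟩ hv2
    apply hK1
    rw [eq_bot_iff, ← hKV]
    refine le_inf le_rfl ?_
    rw [← Subgroup.commutator_eq_bot_iff_le_centralizer, Subgroup.commutator_comm]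
    exact le_bot_iff.mp h1
  · intro v w hv hw hv1
    obtain ⟨c, hc⟩ := hone v v.2 w w.2 (congrArg Subtype.val hv) (congrArg Subtype.val hw)
      (fun h => hv1 (Subtype.ext h))
    exact ⟨c, Subtype.ext hc⟩

/-- **The core configuration** of BG Theorem 3.6 is impossible. -/
theorem core (hodd : Odd (Nat.card G)) {p q r : ℕ} [hp : Fact p.Prime] [hq : Fact q.Prime]
    (hr : r.Prime) (hpq : p ≠ q) (hpr : p ≠ r) (hqr : q ≠ r) (V K P : Subgroup G) (σ : G) [hVn : V.Normal]
    (hVab : V ≤ centralizer (V : Set G)) (hVp : ∀ v ∈ V, v ^ p = 1) (hKq : IsPGroup q K) (hPp : IsPGroup p P)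
    (hσr : orderOf σ = r) (hPK : P ≤ normalizer (K : Set G)) (hσK : zpowers σ ≤ normalizer (K : Set G))
    (hσP : zpowers σ ≤ normalizer (P : Set G))
    (hPnt : ⁅P, zpowers σ⁆ ≠ ⊥)
    (hPmin : ∀ U < P, zpowers σ ≤ normalizer (U : Set G) → ⁅U, zpowers σ⁆ = ⊥)
    (hKnt : ⁅K, P⁆ ≠ ⊥)
    (hKmin : ∀ U < K, P ⊔ zpowers σ ≤ normalizer (U : Set G) → ⁅U, P⁆ = ⊥)
    (hKV : K ⊓ centralizer (V : Set G) = ⊥) (hVP : V ⊓ P = ⊥)
    (hz1 : IsCyclic ↥((V ⊓ centralizer (zpowers σ : Set G)) ⊔ (P ⊓ centralizer (zpowers σ : Set G))))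
    (hz2 : IsCyclic ↥(K ⊓ centralizer (zpowers σ : Set G))) : False := by
  classical
  have hcz : centralizer ({σ} : Set G) = centralizer (zpowers σ : Set G) := by
    rw [zpowers_eq_closure, Subgroup.centralizer_closure]
  have hRp : (Nat.card (zpowers σ)).Coprime p := by
    rw [Nat.card_zpowers, hσr]; exact (Nat.coprime_primes hr hp.out).mpr (Ne.symm hpr)
  have hPq : (Nat.card P).Coprime q := by
    obtain ⟨n, hn⟩ := (IsPGroup.iff_card).mp hPp
    rw [hn]
    exact Nat.Coprime.pow_left n ((Nat.coprime_primes hp.out hq.out).mpr hpq)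
  obtain ⟨hPR, -, hPU, hPΦ, -, hPΦR, -⟩ := H22.Minimal.reduction (B := zpowers σ) (A := zpowers σ) hPp hσP le_rfl
    le_normalizer hRp hPnt hPmin
  obtain ⟨hKP, -, hKU, hKΦ, hKΦc, hKΦP, hKexp⟩ := H22.Minimal.reduction (B := P ⊔ zpowers σ) (A := P) hKq
    (sup_le hPK hσK) le_sup_left (sup_le le_normalizer hσP) hPq hKnt hKmin
  have hK1 : K ≠ ⊥ := by
    rintro rfl
    exact hKnt (Subgroup.commutator_bot_left P)
  have hP1 : P ≠ ⊥ := by
    rintro rfl
    exact hPnt (Subgroup.commutator_bot_left _)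
  have hq2 : q ≠ 2 := by
    rintro rfl
    have h1 : 2 ∣ Nat.card K := by
      obtain ⟨n, hn⟩ := (IsPGroup.iff_card).mp hKq
      have hn0 : n ≠ 0 := by
        rintro rfl
        exact hK1 (Subgroup.card_eq_one.mp (by simpa using hn))
      rw [hn]; exact dvd_pow_self 2 hn0
    have h2 := h1.trans (Subgroup.card_subgroup_dvd_card K)
    exact (Nat.not_even_iff_odd.mpr hodd) (even_iff_two_dvd.mpr h2)
  -- σ has nontrivial fixed points on V
  have hVσ : V ⊓ centralizer (zpowers σ : Set G) ≠ ⊥ := by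
    intro h0
    have h1 : ⁅K, zpowers σ⁆ ≤ centralizer (V : Set G) :=
      RepF.fix_trivial hr hq2 (Ne.symm hpq) hqr (Ne.symm hpr) hVab hVp hKq
        (H12.Core.le_normalizer_of_normal K V) (by rw [← hσr, pow_orderOf_eq_one])
        (H12.Core.le_normalizer_of_normal (zpowers σ) V (mem_zpowers σ)) (hσK (mem_zpowers σ))
        (by rw [hcz]; exact h0)
    have h2 : ⁅K, zpowers σ⁆ = ⊥ := by
      rw [eq_bot_iff, ← hKV]
      exact le_inf (commutator_le_left hσK) h1
    have h3 : ⁅⁅P, zpowers σ⁆, K⁆ = ⊥ := by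
      apply Subgroup.commutator_commutator_eq_bot_of_rotate
      · rw [Subgroup.commutator_comm (zpowers σ) K, h2, Subgroup.commutator_bot_left]
      · rw [hKP, h2]
    rw [hPR, Subgroup.commutator_comm] at h3
    exact hKnt h3
  obtain ⟨v, hv1⟩ := (Subgroup.ne_bot_iff_exists_ne_one).mp hVσ
  have hvV : (v : G) ∈ V := (Subgroup.mem_inf.mp v.2).1
  have hv1' : (v : G) ≠ 1 := fun h => hv1 (Subtype.ext h)
  have hvo : orderOf (v : G) = p := orderOf_eq_prime (hVp _ hvV) hv1'
  have hPσ : P ⊓ centralizer (zpowers σ : Set G) = ⊥ := by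
    by_contra hne
    have hpg : IsPGroup p ↥(P ⊓ centralizer (zpowers σ : Set G)) := hPp.to_le inf_le_left
    have hdvd : p ∣ Nat.card ↥(P ⊓ centralizer (zpowers σ : Set G)) := by
      obtain ⟨n, hn⟩ := (IsPGroup.iff_card).mp hpg
      have hn0 : n ≠ 0 := by
        rintro rfl
        exact hne (Subgroup.card_eq_one.mp (by simpa using hn))
      rw [hn]; exact dvd_pow_self p hn0
    obtain ⟨y, hy⟩ := exists_prime_orderOf_dvd_card' p hdvd
    have hyo : orderOf (y : G) = p := by rw [← hy]; exact Subgroup.orderOf_coe y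
    have h1 := cyclic_inf_ne_bot hz1 (le_sup_left (a := V ⊓ centralizer (zpowers σ : Set G)))
      le_sup_right v.2 y.2 hvo hyo
    obtain ⟨h2, h3⟩ := Subgroup.mem_inf.mp h1
    have h4 : (v : G) ∈ V ⊓ P := Subgroup.mem_inf.mpr ⟨hvV, (Subgroup.mem_inf.mp h3).1⟩
    rw [hVP] at h4
    exact hv1' (Subgroup.mem_bot.mp h4)
  have hPab : ⁅P, P⁆ = ⊥ := by
    rw [← hPΦ, eq_bot_iff, ← hPσ]
    refine le_inf ?_ ?_
    · rintro _ ⟨x, _, rfl⟩
      exact x.2
    · rw [Subgroup.le_centralizer_iff, ← commutator_eq_bot_iff']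
      exact hPΦR
  have hmemcz : ∀ x : G, σ * x * σ⁻¹ = x → x ∈ centralizer (zpowers σ : Set G) := by
    intro x hx
    rw [← hcz, Subgroup.mem_centralizer_singleton_iff]
    calc x * σ = (σ * x * σ⁻¹) * σ := by rw [hx]
      _ = σ * x := by group
  have hone : ∀ v ∈ V, ∀ w ∈ V, σ * v * σ⁻¹ = v → σ * w * σ⁻¹ = w → v ≠ 1 → ∃ c : ℕ, w = v ^ c := by
    intro v hv w hw hvf hwf hv1
    by_cases hw1 : w = 1
    · exact ⟨0, by rw [hw1, pow_zero]⟩
    have hvo : orderOf v = p := orderOf_eq_prime (hVp _ hv) hv1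
    have hwo : orderOf w = p := orderOf_eq_prime (hVp _ hw) hw1
    have h1 := cyclic_inf_ne_bot (A := zpowers w) (B := zpowers v) hz1
      ((zpowers_le.mpr (Subgroup.mem_inf.mpr ⟨hw, hmemcz w hwf⟩)).trans le_sup_left)
      ((zpowers_le.mpr (Subgroup.mem_inf.mpr ⟨hv, hmemcz v hvf⟩)).trans le_sup_left)
      (mem_zpowers w) (mem_zpowers v) hwo hvo
    have h2 := (Subgroup.mem_inf.mp h1).2
    have hfin : IsOfFinOrder v := isOfFinOrder_of_finite v
    obtain ⟨c, hc⟩ := (hfin.mem_powers_iff_mem_zpowers).mpr h2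
    exact ⟨c, hc.symm⟩
  by_cases hKab : K ≤ centralizer (K : Set G)
  · refine core_ab hodd hr hpq hpr V K P σ hVab hVp hKq hPp hσr hPK hσK hσP hKP (hKexp hq2) hKab hPR ?_ hP1 ?_
      hK1 hKV hPσ hone
    · intro U hU hσU
      have := hPU U hU hσU
      rw [hPab] at this
      exact le_bot_iff.mp this
    · intro U hU hBU
      have := hKU U hU hBU
      rw [Subgroup.commutator_eq_bot_iff_le_centralizer.mpr hKab] at this
      exact le_bot_iff.mp this
  · rw [hKΦ] at hKΦc hKΦP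
    exact core_nonab hodd hr hpq hpr hqr V K P σ hVab hVp hKq hPp hσr hPK hσK hσP hKP (hKexp hq2) hKΦc hKΦP hKab
      hKV hPσ hone hz2

end

end Cfsg.Agent.H12.P36
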