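import Cfsg.Agent.H22_PSolv

set_option autoImplicit false

/-!
`p`-solvable groups, continued: subadditivity of the `p`-length, extensions.
-/

namespace Cfsg.Agent.H22.PSolv

open Subgroup

universe u v

variable {p : ℕ}

theorem U_map_le {G : Type u} [Group G] [Finite G] [hp : Fact p.Prime] (φ : MulAut G) (i : ℕ) :
    (U p G i).map φ.toMonoidHom ≤ U p G i := by
  have hsurj : Function.Surjective φ.toMonoidHom := φ.surjective
  refine le_U (p := p) (n := i) (M := fun i => (U p G i).map φ.toMonoidHom) ?_ ?_ ?_ ?_ ?_ i le_rfl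
  · show (U p G 0).map _ = ⊥
    rw [U_zero]; exact Subgroup.map_bot _
  · intro j _; exact (U_normal j).map _ hsurj
  · intro j _; exact map_mono (U_le_succ j)
  · intro j _ hj
    exact Nat.Coprime.coprime_dvd_left (relIndex_map_dvd _ (U_le_succ j)) (relIndex_U_even hj)
  · intro j _ hj
    obtain ⟨m, hm⟩ := relIndex_U_odd (p := p) (G := G) hj
    obtain ⟨k, -, hk⟩ := (Nat.dvd_prime_pow hp.out).mp
      (hm ▸ relIndex_map_dvd φ.toMonoidHom (U_le_succ (p := p) j))
    exact ⟨k, hk⟩

instance U_characteristic {G : Type u} [Group G] [Finite G] [hp : Fact p.Prime] (i : ℕ) :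
    (U p G i).Characteristic := by
  rw [characteristic_iff_map_le]
  exact fun φ => U_map_le φ i

/-- `p`-length is subadditive -/
theorem plengthLE_add {G : Type u} [Group G] [Finite G] [hp : Fact p.Prime] {a b : ℕ}
    (N : Subgroup G) [hN : N.Normal] (ha : Cfsg.PLengthLE p a N) (hb : Cfsg.PLengthLE p b (G ⧸ N)) :
    Cfsg.PLengthLE p (a + b) G := by
  rw [plengthLE_iff]
  have hNa : (U p N (2 * a + 1)).map N.subtype = N := by
    have : U p N (2 * a + 1) = ⊤ := ha
    rw [this, ← MonoidHom.range_eq_map, range_subtype]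
  have hsurj := QuotientGroup.mk'_surjective N
  have hle : ∀ i, (U p N i).map N.subtype ≤ N := fun i => map_subtype_le _
  have hle' : ∀ j, N ≤ (U p (G ⧸ N) j).comap (QuotientGroup.mk' N) := fun j => H1.Hall.le_comap_mk _ _
  let M : ℕ → Subgroup G := fun i =>
    if i ≤ 2 * a then (U p N i).map N.subtype else (U p (G ⧸ N) (i - 2 * a)).comap (QuotientGroup.mk' N)
  have hM1 : ∀ i ≤ 2 * a, M i = (U p N i).map N.subtype := fun i hi => if_pos hi
  have hM2 : ∀ i, 2 * a < i → M i = (U p (G ⧸ N) (i - 2 * a)).comap (QuotientGroup.mk' N) :=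
    fun i hi => if_neg (not_le_of_gt hi)
  have hmid : (M (2 * a)).relIndex (M (2 * a + 1)) =
      (U p N (2 * a)).relIndex (U p N (2 * a + 1)) * (U p (G ⧸ N) 0).relIndex (U p (G ⧸ N) 1) := by
    have hs : (2 * a).succ - 2 * a = 1 := by omega
    rw [hM1 _ le_rfl, hM2 _ (Nat.lt_succ_self _), hs,
      ← relIndex_mul_relIndex _ _ _ (hle _) (hle' 1)]
    have e1 : ((U p N (2 * a)).map N.subtype).relIndex N =
        (U p N (2 * a)).relIndex (U p N (2 * a + 1)) := by
      rw [← relIndex_map_map_of_injective (U p N (2 * a)) (U p N (2 * a + 1)) N.subtype_injective, hNa]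
    have e2 : N.relIndex ((U p (G ⧸ N) 1).comap (QuotientGroup.mk' N)) =
        (U p (G ⧸ N) 0).relIndex (U p (G ⧸ N) 1) := by
      have h1 : (U p (G ⧸ N) 0).comap (QuotientGroup.mk' N) = N := by
        rw [U_zero]; exact QuotientGroup.ker_mk' N
      have h2 := relIndex_comap_comap hsurj (U p (G ⧸ N) 0) (U p (G ⧸ N) 1)
      rwa [h1] at h2
    rw [e1, e2]
  refine ⟨M, ?_, ?_, ?_, ?_, ?_, ?_⟩
  · rw [hM1 0 (Nat.zero_le _), U_zero]; exact Subgroup.map_bot _
  · rw [hM2 _ (by omega)]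
    have h1 : 2 * (a + b) + 1 - 2 * a = 2 * b + 1 := by omega
    have h2 : U p (G ⧸ N) (2 * b + 1) = ⊤ := hb
    rw [h1, h2]; rfl
  · intro i
    by_cases hi : i ≤ 2 * a
    · rw [hM1 i hi]; infer_instance
    · rw [hM2 i (not_le.mp hi)]; exact (U_normal _).comap _
  · intro i
    rcases lt_trichotomy i (2 * a) with hi | hi | hi
    · rw [hM1 i hi.le, hM1 (i + 1) hi]; exact map_mono (U_le_succ i)
    · subst hi
      rw [hM1 _ le_rfl, hM2 _ (Nat.lt_succ_self _)]
      exact (hle _).trans (hle' _)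
    · rw [hM2 i hi, hM2 (i + 1) (by omega)]
      have h1 : i + 1 - 2 * a = (i - 2 * a) + 1 := by omega
      rw [h1]; exact comap_mono (U_le_succ _)
  · intro i hev
    rcases lt_trichotomy i (2 * a) with hi | hi | hi
    · rw [hM1 i hi.le, hM1 (i + 1) hi, relIndex_map_map_of_injective _ _ N.subtype_injective]
      exact relIndex_U_even hev
    · subst hi
      rw [hmid]
      exact Nat.Coprime.mul_left (relIndex_U_even hev) (relIndex_U_even Even.zero)
    · rw [hM2 i hi, hM2 (i + 1) (by omega)]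
      have h1 : i + 1 - 2 * a = (i - 2 * a) + 1 := by omega
      rw [h1, relIndex_comap_comap hsurj]
      exact relIndex_U_even ((Nat.even_sub hi.le).mpr (by simp [hev]))
  · intro i hod
    rcases lt_trichotomy i (2 * a) with hi | hi | hi
    · rw [hM1 i hi.le, hM1 (i + 1) hi, relIndex_map_map_of_injective _ _ N.subtype_injective]
      exact relIndex_U_odd hod
    · subst hi
      exact absurd (even_two_mul a) hod
    · rw [hM2 i hi, hM2 (i + 1) (by omega)]
      have h1 : i + 1 - 2 * a = (i - 2 * a) + 1 := by omega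
      rw [h1, relIndex_comap_comap hsurj]
      refine relIndex_U_odd (fun h => hod ?_)
      exact ((Nat.even_sub hi.le).mp h).mpr (even_two_mul a)

/-- extensions of `p`-solvable groups -/
theorem isPSolvable_of_normal_quotient {G : Type u} [Group G] [Finite G] [hp : Fact p.Prime]
    (N : Subgroup G) [hN : N.Normal] (h1 : Cfsg.IsPSolvable p N) (h2 : Cfsg.IsPSolvable p (G ⧸ N)) :
    Cfsg.IsPSolvable p G := by
  obtain ⟨a, ha⟩ := exists_plengthLE h1
  obtain ⟨b, hb⟩ := exists_plengthLE h2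
  exact isPSolvable_of_plengthLE (plengthLE_add N ha hb)

/-- if `O_{p'}(G) = 1` and `G` has `p`-length at most `k+1` then `G/O_p(G)` has `p`-length at most `k` -/
theorem plengthLE_quotient_pCore {G : Type u} [Group G] [Finite G] [hp : Fact p.Prime] {k : ℕ}
    (h1 : Cfsg.pPrimeCore p G = ⊥) [(Cfsg.pCore p G).Normal] (h : Cfsg.PLengthLE p (k + 1) G) :
    Cfsg.PLengthLE p k (G ⧸ Cfsg.pCore p G) := by
  rw [plengthLE_iff] at h ⊢
  obtain ⟨M, h0, hk, hN, hm, he, ho⟩ := h
  have hM1 : M 1 = ⊥ := by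
    have h2 := he 0 Even.zero
    rw [h0, relIndex_bot_left] at h2
    rw [eq_bot_iff, ← h1]
    exact H1.Nilp.le_pPrimeCore (hN 1) h2
  have hM2 : M 2 ≤ Cfsg.pCore p G := by
    obtain ⟨m, hm'⟩ := ho 1 (by simp)
    rw [hM1, relIndex_bot_left] at hm'
    exact H1.Nilp.le_pCore (hN 2) (IsPGroup.of_card hm')
  have hsurj := QuotientGroup.mk'_surjective (Cfsg.pCore p G)
  refine ⟨fun i => (M (i + 2)).map (QuotientGroup.mk' (Cfsg.pCore p G)), ?_, ?_, ?_, ?_, ?_, ?_⟩
  · show (M 2).map _ = ⊥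
    rw [Subgroup.map_eq_bot_iff, QuotientGroup.ker_mk']; exact hM2
  · show (M (2 * k + 1 + 2)).map _ = ⊤
    have h3 : 2 * k + 1 + 2 = 2 * (k + 1) + 1 := by ring
    rw [h3, hk, ← MonoidHom.range_eq_map, MonoidHom.range_eq_top.mpr hsurj]
  · intro i; exact (hN _).map _ hsurj
  · intro i; exact map_mono (hm _)
  · intro i hi
    have := hN (i + 2)
    exact Nat.Coprime.coprime_dvd_left (relIndex_map_dvd _ (hm (i + 2)))
      (he _ (by rwa [Nat.even_add, iff_true_right even_two]))
  · intro i hi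
    have := hN (i + 2)
    obtain ⟨m, hm'⟩ := ho (i + 2) (by rwa [Nat.even_add, iff_true_right even_two])
    obtain ⟨j, -, hj⟩ := (Nat.dvd_prime_pow hp.out).mp
      (hm' ▸ relIndex_map_dvd (QuotientGroup.mk' (Cfsg.pCore p G)) (hm (i + 2)))
    exact ⟨j, hj⟩

end Cfsg.Agent.H22.PSolv
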