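import Mathlib
import Cfsg.Agent.H12_P36c
import Cfsg.Agent.H22_PSolv2
import Cfsg.Agent.H24_Basic

/-!
BG Theorem 3.6: reductions.
-/

set_option autoImplicit false
open Subgroup Cfsg
open scoped commutatorElement Pointwise

universe u

namespace Cfsg.Agent.H12.P36

open Cfsg.Agent.H22.Basic Cfsg.Agent.H22.Coprime3

/-- The hypotheses of Theorem 3.6. -/
structure Hyp {G : Type u} [Group G] (H R R₀ : Subgroup G) : Prop where
  norm : R ≤ normalizer (H : Set G)
  cop : (Nat.card H).Coprime (Nat.card R)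
  le : R₀ ≤ R
  prime : (Nat.card R₀).Prime
  z : IsZGroup ↥(H ⊓ centralizer (R₀ : Set G))

theorem isZGroup_of_le {G : Type u} [Group G] {A B : Subgroup G} (h : A ≤ B) (hB : IsZGroup B) : IsZGroup A :=
  IsZGroup.of_injective (f := Subgroup.inclusion h) (Subgroup.inclusion_injective h)

theorem Hyp.mono {G : Type u} [Group G] {H R R₀ : Subgroup G} [Finite G] (h : Hyp H R R₀) {H₁ R₁ : Subgroup G} (hH : H₁ ≤ H)
    (hR : R₁ ≤ R) (hR₀ : R₀ ≤ R₁) (hn : R₁ ≤ normalizer (H₁ : Set G)) : Hyp H₁ R₁ R₀ where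
  norm := hn
  cop := Nat.Coprime.coprime_dvd_left (Subgroup.card_dvd_of_le hH)
    (Nat.Coprime.coprime_dvd_right (Subgroup.card_dvd_of_le hR) h.cop)
  le := hR₀
  prime := h.prime
  z := isZGroup_of_le (inf_le_inf_right _ hH) h.z

theorem Hyp.sub {G : Type u} [Group G] {H R R₀ N : Subgroup G} (h : Hyp H R R₀) (hH : H ≤ N) (hR : R ≤ N) :
    Hyp (H.subgroupOf N) (R.subgroupOf N) (R₀.subgroupOf N) where
  norm := by
    intro x hx
    rw [Subgroup.mem_subgroupOf] at hx
    rw [Subgroup.mem_normalizer_iff]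
    intro y
    rw [Subgroup.mem_subgroupOf, Subgroup.mem_subgroupOf]
    exact (Subgroup.mem_normalizer_iff.mp (h.norm hx)) y
  cop := by rw [card_subgroupOf_eq hH, card_subgroupOf_eq hR]; exact h.cop
  le := by
    intro x hx
    rw [Subgroup.mem_subgroupOf] at hx ⊢
    exact h.le hx
  prime := by rw [card_subgroupOf_eq (h.le.trans hR)]; exact h.prime
  z := by
    have := h.z
    let f : ↥(H.subgroupOf N ⊓ centralizer ((R₀.subgroupOf N : Subgroup N) : Set N)) →*
        ↥(H ⊓ centralizer (R₀ : Set G)) :=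
      { toFun := fun x => ⟨((x : N) : G), by
          obtain ⟨h1, h2⟩ := Subgroup.mem_inf.mp x.2
          refine Subgroup.mem_inf.mpr ⟨Subgroup.mem_subgroupOf.mp h1, ?_⟩
          rw [Subgroup.mem_centralizer_iff]
          intro y hy
          have h3 := (Subgroup.mem_centralizer_iff.mp h2) ⟨y, hR (h.le hy)⟩ (Subgroup.mem_subgroupOf.mpr hy)
          exact congrArg Subtype.val h3⟩
        map_one' := rfl
        map_mul' := fun _ _ => rfl }
    refine IsZGroup.of_injective (f := f) ?_
    intro x y hxy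
    apply Subtype.ext
    apply Subtype.ext
    have h1 : (f x : G) = f y := by rw [hxy]
    exact h1

theorem card_map_eq {G : Type u} [Group G] [Finite G] {X A : Subgroup G} [X.Normal] (h : X ⊓ A = ⊥) :
    Nat.card (A.map (QuotientGroup.mk' X)) = Nat.card A := by
  have hinj : Function.Injective ((QuotientGroup.mk' X).subgroupMap A) := by
    rw [← MonoidHom.ker_eq_bot_iff, eq_bot_iff]
    intro x hx
    rw [MonoidHom.mem_ker] at hx
    have h1 : (QuotientGroup.mk' X) (x : G) = 1 := congrArg Subtype.val hx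
    rw [QuotientGroup.mk'_apply, QuotientGroup.eq_one_iff] at h1
    have h2 : (x : G) ∈ X ⊓ A := Subgroup.mem_inf.mpr ⟨h1, x.2⟩
    rw [h] at h2
    exact Subtype.ext (Subgroup.mem_bot.mp h2)
  exact (Nat.card_congr (Equiv.ofBijective _ ⟨hinj, (QuotientGroup.mk' X).subgroupMap_surjective A⟩)).symm

theorem Hyp.quot {G : Type u} [Group G] [Finite G] {H R R₀ X : Subgroup G} [X.Normal] (h : Hyp H R R₀)
    (hX : X ≤ H) (hsol : Group.IsSolvable H) :
    Hyp (H.map (QuotientGroup.mk' X)) (R.map (QuotientGroup.mk' X)) (R₀.map (QuotientGroup.mk' X)) where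
  norm := by
    rintro _ ⟨x, hx, rfl⟩
    apply mem_normalizer_of_cj_le
    intro y hy
    rw [mem_cj] at hy
    obtain ⟨z, hz, hzy⟩ := hy
    refine ⟨x * z * x⁻¹, ((Subgroup.mem_normalizer_iff.mp (h.norm hx)) z).mp hz, ?_⟩
    rw [map_mul, map_mul, map_inv, hzy]; group
  cop := Nat.Coprime.coprime_dvd_left (Subgroup.card_map_dvd _ _)
    (Nat.Coprime.coprime_dvd_right (Subgroup.card_map_dvd _ _) h.cop)
  le := Subgroup.map_mono h.le
  prime := by
    rw [card_map_eq]
    · exact h.prime
    · apply H22.Basic.inf_eq_bot_of_coprime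
      exact Nat.Coprime.coprime_dvd_left (Subgroup.card_dvd_of_le hX)
        (Nat.Coprime.coprime_dvd_right (Subgroup.card_dvd_of_le h.le) h.cop)
  z := by
    have hz := h.z
    have hle : H.map (QuotientGroup.mk' X) ⊓ centralizer ((R₀.map (QuotientGroup.mk' X) : Subgroup (G ⧸ X)) : Set (G ⧸ X))
        ≤ (H ⊓ centralizer (R₀ : Set G)).map (QuotientGroup.mk' X) := by
      intro y hy
      obtain ⟨⟨x, hx, rfl⟩, hy2⟩ := Subgroup.mem_inf.mp hy
      obtain ⟨c, hc, hxc⟩ := H1.Coprime.fixed_points_quotient R₀ H (h.le.trans h.norm)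
        (Nat.Coprime.coprime_dvd_left (Subgroup.card_dvd_of_le h.le) h.cop.symm) (Or.inr hsol) X hX
        (H12.Core.le_normalizer_of_normal _ _) (H12.Core.le_normalizer_of_normal _ _) x hx (by
          intro a ha
          have h1 := (Subgroup.mem_centralizer_iff.mp hy2) _ ⟨a, ha, rfl⟩
          have h2 : (QuotientGroup.mk' X) (a * x * a⁻¹ * x⁻¹) = 1 := by
            rw [map_mul, map_mul, map_mul, map_inv, map_inv, h1]; group
          exact (QuotientGroup.eq_one_iff _).mp h2)
      refine ⟨c, hc, ?_⟩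
      rw [QuotientGroup.mk'_apply, QuotientGroup.mk'_apply]
      exact (QuotientGroup.eq.mpr hxc).symm
    refine isZGroup_of_le hle ?_
    exact IsZGroup.of_surjective (f := (QuotientGroup.mk' X).subgroupMap (H ⊓ centralizer (R₀ : Set G)))
      ((QuotientGroup.mk' X).subgroupMap_surjective _)

theorem cyclic_of_z {G : Type u} [Group G] [Finite G] {p : ℕ} [Fact p.Prime] {Y C : Subgroup G} (hYC : Y ≤ C)
    (hC : IsZGroup C) (hY : IsPGroup p Y) : IsCyclic Y := by
  have h1 := isZGroup_of_le hYC hC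
  have h2 := hY.isNilpotent
  infer_instance

/-- An operator centralizing all invariant Sylow subgroups of `K` centralizes `K`. -/
theorem exists_sylow_of_not_centralize {G : Type u} [Group G] [Finite G] {A B K : Subgroup G}
    (hBK : B ≤ normalizer (K : Set G)) (hcop : (Nat.card B).Coprime (Nat.card K))
    (hsol : Group.IsSolvable K) (h : ⁅K, A⁆ ≠ ⊥) :
    ∃ (q : ℕ) (_ : q.Prime) (S : Subgroup G), S ≤ K ∧ IsPGroup q S ∧ B ≤ normalizer (S : Set G) ∧ ⁅S, A⁆ ≠ ⊥ := by
  by_contra hcon
  push Not at hcon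
  apply h
  rw [commutator_eq_bot_iff', Subgroup.le_centralizer_iff]
  have key : ∀ q : ℕ, q.Prime → q ^ (Nat.card K).factorization q ∣ Nat.card ↥(K ⊓ centralizer (A : Set G)) := by
    intro q hq
    have hqF : Fact q.Prime := ⟨hq⟩
    obtain ⟨S, hS⟩ := H1.Coprime.invariant_sylow_exists B K hBK hcop (Or.inr hsol) q
    set T := (S : Subgroup K).map K.subtype with hT
    have hTK : T ≤ K := by
      rintro _ ⟨x, _, rfl⟩
      exact x.2
    have h1 := hcon q hq T hTK (S.isPGroup'.map _) hS
    rw [commutator_eq_bot_iff', Subgroup.le_centralizer_iff] at h1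
    rw [← H1.Coprime.card_map_sylow S]
    exact Subgroup.card_dvd_of_le (le_inf hTK h1)
  have h2 : Nat.card K ∣ Nat.card ↥(K ⊓ centralizer (A : Set G)) := by
    rw [← Nat.factorization_le_iff_dvd Nat.card_pos.ne' Nat.card_pos.ne']
    intro q
    by_cases hq : q.Prime
    · exact (hq.pow_dvd_iff_le_factorization Nat.card_pos.ne').mp (key q hq)
    · rw [Nat.factorization_eq_zero_of_not_prime _ hq]; exact Nat.zero_le _
  have h3 : K ⊓ centralizer (A : Set G) = K :=
    eq_of_le_of_card_le inf_le_left (Nat.le_of_dvd Nat.card_pos h2)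
  rw [← h3]
  exact inf_le_right

end Cfsg.Agent.H12.P36
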