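import Mathlib
import Cfsg.Agent.H12_P36d

/-!
BG Theorem 3.6: the two cases.
-/

set_option autoImplicit false
open Subgroup Cfsg
open scoped commutatorElement Pointwise

universe u

namespace Cfsg.Agent.H12.P36

open Cfsg.Agent.H22.Basic Cfsg.Agent.H22.Coprime3

theorem exists_zpowers_eq {G : Type u} [Group G] {R : Subgroup G} (h : (Nat.card R).Prime) :
    ∃ σ : G, zpowers σ = R ∧ orderOf σ = Nat.card R := by
  have : Fact (Nat.card R).Prime := ⟨h⟩
  have hc : IsCyclic R := isCyclic_of_prime_card rfl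
  obtain ⟨g, hg⟩ := hc.exists_generator
  have h1 : zpowers (g : G) = R := by
    apply le_antisymm (zpowers_le.mpr g.2)
    intro x hx
    obtain ⟨i, hi⟩ := mem_zpowers_iff.mp (hg ⟨x, hx⟩)
    exact mem_zpowers_iff.mpr ⟨i, congrArg Subtype.val hi⟩
  refine ⟨g, h1, ?_⟩
  rw [← Nat.card_zpowers, h1]

theorem ne_two_of_odd {G : Type u} [Group G] [Finite G] (hodd : Odd (Nat.card G)) {q : ℕ} [hq : Fact q.Prime] {S : Subgroup G}
    (hS : IsPGroup q S) (h1 : S ≠ ⊥) : q ≠ 2 := by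
  rintro rfl
  have h2 : 2 ∣ Nat.card S := by
    obtain ⟨n, hn⟩ := (IsPGroup.iff_card).mp hS
    have hn0 : n ≠ 0 := by
      rintro rfl
      exact h1 (Subgroup.card_eq_one.mp (by simpa using hn))
    rw [hn]; exact dvd_pow_self 2 hn0
  have h3 := h2.trans (Subgroup.card_subgroup_dvd_card S)
  exact (Nat.not_even_iff_odd.mpr hodd) (even_iff_two_dvd.mpr h3)

theorem dvd_card_of_ne_bot {G : Type u} [Group G] [Finite G] {q : ℕ} [hq : Fact q.Prime] {S : Subgroup G}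
    (hS : IsPGroup q S) (h1 : S ≠ ⊥) : q ∣ Nat.card S := by
  obtain ⟨n, hn⟩ := (IsPGroup.iff_card).mp hS
  have hn0 : n ≠ 0 := by
    rintro rfl
    exact h1 (Subgroup.card_eq_one.mp (by simpa using hn))
  rw [hn]; exact dvd_pow_self q hn0

theorem exists_orderOf_eq {G : Type u} [Group G] [Finite G] {q : ℕ} [hq : Fact q.Prime] {S : Subgroup G}
    (hS : IsPGroup q S) (h1 : S ≠ ⊥) : ∃ x ∈ S, orderOf x = q := by
  obtain ⟨y, hy⟩ := exists_prime_orderOf_dvd_card' q (dvd_card_of_ne_bot hS h1)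
  exact ⟨y, y.2, by rw [← hy]; exact Subgroup.orderOf_coe y⟩

section
variable {G : Type u} [Group G] [Finite G]

theorem cop_sup {p : ℕ} [hp : Fact p.Prime] {H R R₀ K P : Subgroup G} (hyp : Hyp H R R₀) (hKH : K ≤ H) (hPH : P ≤ H)
    (hPp : IsPGroup p P) (hRP : R ≤ normalizer (P : Set G)) (hKp : (Nat.card K).Coprime p) :
    (Nat.card ↥(P ⊔ R)).Coprime (Nat.card K) := by
  have h1 := H12.Core.card_sup_dvd hRP
  rw [sup_comm] at h1
  refine Nat.Coprime.coprime_dvd_left h1 ?_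
  apply Nat.Coprime.mul_left
  · exact Nat.Coprime.coprime_dvd_right (Subgroup.card_dvd_of_le hKH) hyp.cop.symm
  · obtain ⟨n, hn⟩ := (IsPGroup.iff_card).mp hPp
    rw [hn]
    exact Nat.Coprime.pow_left n hKp.symm

theorem sup_isPGroup {p : ℕ} [hp : Fact p.Prime] {V P C : Subgroup G} [V.Normal] (hVp : IsPGroup p V)
    (hPp : IsPGroup p P) (hPC : P ≤ normalizer (C : Set G)) : IsPGroup p ↥((V ⊓ C) ⊔ P) := by
  have h1 : P ≤ normalizer ((V ⊓ C : Subgroup G) : Set G) :=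
    le_normalizer_inf (H12.Core.le_normalizer_of_normal _ _) hPC
  exact IsPGroup.to_sup_of_normal_left' (hVp.to_le inf_le_left) hPp h1

/-- Case A: `R₀` centralizes `P`. -/
theorem caseA (hodd : Odd (Nat.card G)) {p : ℕ} [hp : Fact p.Prime] (H R R₀ V K P : Subgroup G) [hVn : V.Normal]
    (hyp : Hyp H R R₀) (hVH : V ≤ H) (hKH : K ≤ H) (hPH : P ≤ H)
    (hVab : V ≤ centralizer (V : Set G)) (hVp : ∀ v ∈ V, v ^ p = 1) (hPp : IsPGroup p P)
    (hPK : P ≤ normalizer (K : Set G)) (hRK : R ≤ normalizer (K : Set G))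
    (hRP : R ≤ normalizer (P : Set G)) (hKp : (Nat.card K).Coprime p) (hKsol : Group.IsSolvable K)
    (hKV : K ⊓ centralizer (V : Set G) = ⊥) (hVP : V ⊓ P = ⊥)
    (hP₀ : ⁅P, R₀⁆ = ⊥) (hPR : ⁅P, R⁆ = P) (hKP : ⁅K, P⁆ ≠ ⊥) : False := by
  have hVpg : IsPGroup p V := fun x => ⟨1, by
    apply Subtype.ext
    show (x : G) ^ (p ^ 1) = 1
    rw [pow_one]; exact hVp x x.2⟩
  have hP1 : P ≠ ⊥ := by
    rintro rfl
    exact hKP (Subgroup.commutator_bot_right K)
  obtain ⟨q, hq, S, hSK, hSq, hBS, hSP⟩ := exists_sylow_of_not_centralize (A := P) (B := P ⊔ R) (K := K)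
    (sup_le hPK hRK) (cop_sup hyp hKH hPH hPp hRP hKp) hKsol hKP
  have hqF : Fact q.Prime := ⟨hq⟩
  have hS1 : S ≠ ⊥ := by
    rintro rfl
    exact hSP (Subgroup.commutator_bot_left P)
  have hq2 := ne_two_of_odd hodd hSq hS1
  obtain ⟨σ, hσ, hσo⟩ := exists_zpowers_eq hyp.prime
  have hqK : q ∣ Nat.card K := (dvd_card_of_ne_bot hSq hS1).trans (Subgroup.card_dvd_of_le hSK)
  have hqp : q ≠ p := by
    rintro rfl
    have := Nat.Coprime.coprime_dvd_left hqK hKp
    rw [Nat.coprime_self] at this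
    exact hq.ne_one this
  have hqr : q ≠ Nat.card R₀ := by
    intro h
    have h1 : q ∣ Nat.card H := hqK.trans (Subgroup.card_dvd_of_le hKH)
    have h2 : q ∣ Nat.card R := by rw [h]; exact Subgroup.card_dvd_of_le hyp.le
    have := Nat.Coprime.coprime_dvd_left h1 (Nat.Coprime.coprime_dvd_right h2 hyp.cop)
    rw [Nat.coprime_self] at this
    exact hq.ne_one this
  have hpH : p ∣ Nat.card H := (dvd_card_of_ne_bot hPp hP1).trans (Subgroup.card_dvd_of_le hPH)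
  have hrp : Nat.card R₀ ≠ p := by
    intro h
    have h2 : p ∣ Nat.card R := by rw [← h]; exact Subgroup.card_dvd_of_le hyp.le
    have := Nat.Coprime.coprime_dvd_left hpH (Nat.Coprime.coprime_dvd_right h2 hyp.cop)
    rw [Nat.coprime_self] at this
    exact hp.out.ne_one this
  have hcz : centralizer ({σ} : Set G) = centralizer (R₀ : Set G) := by
    rw [← hσ, zpowers_eq_closure, Subgroup.centralizer_closure]
  have hPC : P ≤ centralizer (R₀ : Set G) := by
    rw [← Subgroup.commutator_eq_bot_iff_le_centralizer]; exact hP₀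
  -- C_V(R₀) = 1
  have hVR : V ⊓ centralizer ({σ} : Set G) = ⊥ := by
    rw [hcz]
    by_contra hne
    have hY : (V ⊓ centralizer (R₀ : Set G)) ⊔ P ≤ H ⊓ centralizer (R₀ : Set G) :=
      sup_le (inf_le_inf_right _ hVH) (le_inf hPH hPC)
    have hPN : P ≤ normalizer (centralizer (R₀ : Set G) : Set G) := hPC.trans le_normalizer
    have hYc := cyclic_of_z hY hyp.z (sup_isPGroup hVpg hPp hPN)
    obtain ⟨x, hx, hxo⟩ := exists_orderOf_eq (hVpg.to_le inf_le_left) hne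
    obtain ⟨y, hy, hyo⟩ := exists_orderOf_eq hPp hP1
    have h1 := cyclic_inf_ne_bot hYc le_sup_left le_sup_right hx hy hxo hyo
    obtain ⟨h2, h3⟩ := Subgroup.mem_inf.mp h1
    have h4 : x ∈ V ⊓ P := Subgroup.mem_inf.mpr ⟨(Subgroup.mem_inf.mp h2).1, h3⟩
    rw [hVP, Subgroup.mem_bot] at h4
    rw [h4, orderOf_one] at hxo
    exact hp.out.one_lt.ne hxo
  have hRS : R ≤ normalizer (S : Set G) := le_sup_right.trans hBS
  have h1 : ⁅S, zpowers σ⁆ ≤ centralizer (V : Set G) :=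
    RepF.fix_trivial hyp.prime hq2 hqp hqr hrp hVab hVp hSq (H12.Core.le_normalizer_of_normal _ _)
      (by rw [← hσo, pow_orderOf_eq_one]) (H12.Core.le_normalizer_of_normal ⊤ V trivial)
      ((hyp.le.trans hRS) (by rw [← hσ]; exact mem_zpowers σ)) hVR
  rw [hσ] at h1
  have h2 : ⁅S, R₀⁆ = ⊥ := by
    rw [eq_bot_iff, ← hKV]
    exact le_inf ((commutator_le_left (hyp.le.trans hRS)).trans hSK) h1
  have h3 : S ≤ H ⊓ centralizer (R₀ : Set G) :=
    le_inf (hSK.trans hKH) (Subgroup.commutator_eq_bot_iff_le_centralizer.mp h2)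
  have h4 := cyclic_of_z h3 hyp.z hSq
  have h5 := comm_le_centralizer_of_cyclic h4 (le_sup_left.trans hBS) hRS
  rw [hPR] at h5
  apply hSP
  rw [Subgroup.commutator_comm]
  exact Subgroup.commutator_eq_bot_iff_le_centralizer.mpr h5

/-- Case B: `R = R₀` has prime order. -/
theorem caseB (hodd : Odd (Nat.card G)) {p : ℕ} [hp : Fact p.Prime] (H R V K P : Subgroup G) [hVn : V.Normal]
    (hyp : Hyp H R R) (hVH : V ≤ H) (hKH : K ≤ H) (hPH : P ≤ H)
    (hVab : V ≤ centralizer (V : Set G)) (hVp : ∀ v ∈ V, v ^ p = 1) (hPp : IsPGroup p P)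
    (hPK : P ≤ normalizer (K : Set G)) (hRK : R ≤ normalizer (K : Set G))
    (hRP : R ≤ normalizer (P : Set G)) (hKp : (Nat.card K).Coprime p) (hKsol : Group.IsSolvable K)
    (hKV : K ⊓ centralizer (V : Set G) = ⊥) (hVP : V ⊓ P = ⊥)
    (hPR : ⁅P, R⁆ ≠ ⊥) (hPmin : ∀ U < P, R ≤ normalizer (U : Set G) → ⁅U, R⁆ = ⊥)
    (hKP : ⁅K, P⁆ ≠ ⊥) : False := by
  have hVpg : IsPGroup p V := fun x => ⟨1, by
    apply Subtype.ext
    show (x : G) ^ (p ^ 1) = 1
    rw [pow_one]; exact hVp x x.2⟩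
  have hP1 : P ≠ ⊥ := by
    rintro rfl
    exact hKP (Subgroup.commutator_bot_right K)
  obtain ⟨q, hq, S, hSK, hSq, hBS, hSP⟩ := exists_sylow_of_not_centralize (A := P) (B := P ⊔ R) (K := K)
    (sup_le hPK hRK) (cop_sup hyp hKH hPH hPp hRP hKp) hKsol hKP
  have hqF : Fact q.Prime := ⟨hq⟩
  -- minimal invariant subgroup
  obtain ⟨K₁, ⟨hK₁S, hBK₁, hK₁P⟩, hK₁min⟩ := (wellFounded_lt (α := Subgroup G)).has_min
    {U : Subgroup G | U ≤ S ∧ P ⊔ R ≤ normalizer (U : Set G) ∧ ⁅U, P⁆ ≠ ⊥} ⟨S, le_rfl, hBS, hSP⟩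
  have hK₁min' : ∀ U < K₁, P ⊔ R ≤ normalizer (U : Set G) → ⁅U, P⁆ = ⊥ := by
    intro U hU hBU
    by_contra h
    exact hK₁min U ⟨hU.le.trans hK₁S, hBU, h⟩ hU
  have hK₁q : IsPGroup q K₁ := hSq.to_le hK₁S
  have hK₁1 : K₁ ≠ ⊥ := by
    rintro rfl
    exact hK₁P (Subgroup.commutator_bot_left P)
  obtain ⟨σ, hσ, hσo⟩ := exists_zpowers_eq hyp.prime
  have hK₁K : K₁ ≤ K := hK₁S.trans hSK
  have hqK : q ∣ Nat.card K := (dvd_card_of_ne_bot hK₁q hK₁1).trans (Subgroup.card_dvd_of_le hK₁K)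
  have hqp : q ≠ p := by
    rintro rfl
    have := Nat.Coprime.coprime_dvd_left hqK hKp
    rw [Nat.coprime_self] at this
    exact hq.ne_one this
  have hqr : q ≠ Nat.card R := by
    intro h
    have h1 : q ∣ Nat.card H := hqK.trans (Subgroup.card_dvd_of_le hKH)
    have h2 : q ∣ Nat.card R := by rw [h]
    have := Nat.Coprime.coprime_dvd_left h1 (Nat.Coprime.coprime_dvd_right h2 hyp.cop)
    rw [Nat.coprime_self] at this
    exact hq.ne_one this
  have hpH : p ∣ Nat.card H := (dvd_card_of_ne_bot hPp hP1).trans (Subgroup.card_dvd_of_le hPH)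
  have hrp : Nat.card R ≠ p := by
    intro h
    have h2 : p ∣ Nat.card R := by rw [← h]
    have := Nat.Coprime.coprime_dvd_left hpH (Nat.Coprime.coprime_dvd_right h2 hyp.cop)
    rw [Nat.coprime_self] at this
    exact hp.out.ne_one this
  have hPN : P ⊓ centralizer (R : Set G) ≤ normalizer (centralizer (R : Set G) : Set G) :=
    inf_le_right.trans le_normalizer
  refine core (p := p) (q := q) hodd hyp.prime (Ne.symm hqp) (Ne.symm hrp) hqr V K₁ P σ hVab hVp hK₁q hPp hσo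
    (le_sup_left.trans hBK₁) (by rw [hσ]; exact le_sup_right.trans hBK₁) (by rw [hσ]; exact hRP)
    (by rw [hσ]; exact hPR) (by rw [hσ]; exact hPmin) hK₁P (by rw [hσ]; exact hK₁min') ?_ hVP ?_ ?_
  · rw [eq_bot_iff, ← hKV]
    exact inf_le_inf_right _ hK₁K
  · rw [hσ]
    refine cyclic_of_z (C := H ⊓ centralizer (R : Set G)) ?_ hyp.z
      (sup_isPGroup hVpg (hPp.to_le inf_le_left) hPN)
    exact sup_le (inf_le_inf_right _ hVH) (inf_le_inf_right _ hPH)
  · rw [hσ]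
    exact cyclic_of_z (C := H ⊓ centralizer (R : Set G)) (inf_le_inf_right _ (hK₁K.trans hKH)) hyp.z
      (hK₁q.to_le inf_le_left)

end

end Cfsg.Agent.H12.P36
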