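import Mathlib
import Cfsg.Agent.H12_P36e
import Cfsg.Agent.H11_Cores
import Cfsg.Agent.H12_BG8a

/-!
BG Theorem 3.6: the upper p-series.
-/

set_option autoImplicit false
open Subgroup Cfsg
open scoped commutatorElement Pointwise

universe u

namespace Cfsg.Agent.H12.P36

open Cfsg.Agent.H22.Basic Cfsg.Agent.H22.Coprime3 Cfsg.Agent.H22.PSolv

section
variable {X : Type u} [Group X] [Finite X] {p : ℕ} [hp : Fact p.Prime]

theorem isPGroup_of_relIndex {A B : Subgroup X} (hA : IsPGroup p A) (hAB : A ≤ B) (h : ∃ m, A.relIndex B = p ^ m) :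
    IsPGroup p B := isPGroup_iff_relIndex hA hAB h

theorem U_one (h1 : pPrimeCore p X = ⊥) : U p X 1 = ⊥ := by
  rw [eq_bot_iff, ← h1]
  apply H11.Cores.le_pPrimeCore
  have := relIndex_U_even (p := p) (G := X) (i := 0) (by decide)
  rwa [U_zero, Subgroup.relIndex_bot_left] at this

theorem U_two (h1 : pPrimeCore p X = ⊥) : U p X 2 = pCore p X := by
  apply le_antisymm
  · apply H11.Cores.le_pCore
    have h2 := relIndex_U_odd (p := p) (G := X) (i := 1) (by decide)
    rw [U_one h1, Subgroup.relIndex_bot_left] at h2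
    obtain ⟨m, hm⟩ := h2
    exact IsPGroup.of_card hm
  · have h := le_U (p := p) (G := X) (n := 2)
      (M := fun i => if i ≤ 1 then ⊥ else pCore p X) (by simp)
      (by
        intro i _
        by_cases hi : i ≤ 1
        · simp only [hi, if_true]; infer_instance
        · simp only [hi, if_false]; exact H1.Nilp.pCore_normal p)
      (by
        intro i hi
        by_cases hi1 : i = 0
        · subst hi1; simp
        · have : i = 1 := by omega
          subst this; simp)
      (by
        intro i hi he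
        have : i = 0 := by
          rcases he with ⟨k, hk⟩; omega
        subst this; simp)
      (by
        intro i hi he
        have : i = 1 := by
          by_contra h
          have : i = 0 := by omega
          exact he (by rw [this]; decide)
        subst this
        obtain ⟨n, hn⟩ := IsPGroup.iff_card.mp (H1.Nilp.pCore_isPGroup (G := X) p)
        exact ⟨n, by simpa using hn⟩) 2 le_rfl
    simpa using h

/-- Maximality of `U 3`. -/
theorem le_U_three (h1 : pPrimeCore p X = ⊥) {D : Subgroup X} (hD : D.Normal) (hVD : pCore p X ≤ D)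
    (h : ((pCore p X).relIndex D).Coprime p) : D ≤ U p X 3 := by
  have h' := le_U (p := p) (G := X) (n := 3)
      (M := fun i => if i ≤ 1 then ⊥ else if i ≤ 2 then pCore p X else D) (by simp)
      (by
        intro i _
        by_cases hi : i ≤ 1
        · simp only [hi, if_true]; infer_instance
        · by_cases hi2 : i ≤ 2
          · simp only [hi, hi2, if_false, if_true]; exact H1.Nilp.pCore_normal p
          · simp only [hi, hi2, if_false]; exact hD)
      (by
        intro i hi
        interval_cases i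
        · simp
        · simp
        · simpa using hVD)
      (by
        intro i hi he
        interval_cases i
        · simp
        · exact absurd he (by decide)
        · simpa using h)
      (by
        intro i hi he
        interval_cases i
        · exact absurd (by decide) he
        · obtain ⟨n, hn⟩ := IsPGroup.iff_card.mp (H1.Nilp.pCore_isPGroup (G := X) p)
          exact ⟨n, by simpa using hn⟩
        · exact absurd (by decide) he) 3 le_rfl
  simpa using h'

theorem relIndex_UU (i : ℕ) : (U p X i).relIndex (U p X (i + 1)) * Nat.card (U p X i) = Nat.card (U p X (i + 1)) := by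
  rw [mul_comm]; exact card_mul_relIndex (U_le_succ i)

/-- `O_p(X / U 2) = 1`. -/
theorem pCore_quot_two (h1 : pPrimeCore p X = ⊥) : pCore p (X ⧸ U p X 2) = ⊥ := by
  have h4 : (pCore p (X ⧸ U p X 2)).comap (QuotientGroup.mk' (U p X 2)) ≤ U p X 2 := by
    conv_rhs => rw [U_two h1]
    have hn : ((pCore p (X ⧸ U p X 2)).comap (QuotientGroup.mk' (U p X 2))).Normal :=
      (H1.Nilp.pCore_normal p).comap _
    apply H11.Cores.le_pCore
    have h5 : IsPGroup p (U p X 2) := by rw [U_two h1]; exact H1.Nilp.pCore_isPGroup p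
    refine isPGroup_of_relIndex h5 (by
      intro x hx
      rw [Subgroup.mem_comap, QuotientGroup.mk'_apply, (QuotientGroup.eq_one_iff x).mpr hx]
      exact one_mem _) ?_
    obtain ⟨n, hn⟩ := IsPGroup.iff_card.mp (H1.Nilp.pCore_isPGroup (G := X ⧸ U p X 2) p)
    refine ⟨n, ?_⟩
    have h6 := relIndex_comap_comap (QuotientGroup.mk'_surjective (U p X 2)) ⊥ (pCore p (X ⧸ U p X 2))
    rw [Subgroup.relIndex_bot_left, hn] at h6
    rw [← h6]
    congr 1
    rw [MonoidHom.comap_bot, QuotientGroup.ker_mk']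
  rw [eq_bot_iff]
  intro y hy
  obtain ⟨x, rfl⟩ := QuotientGroup.mk'_surjective _ y
  have h5 := h4 (Subgroup.mem_comap.mpr hy)
  rw [Subgroup.mem_bot]
  exact (QuotientGroup.eq_one_iff x).mpr h5

/-- If `U 3 = U 2` then the group is a `p`-group. -/
theorem U_three_ne (hsol : Group.IsSolvable X) (h1 : pPrimeCore p X = ⊥) (h2 : U p X 2 ≠ ⊤) : U p X 3 ≠ U p X 2 := by
  intro h3
  have hnt : Nontrivial (X ⧸ U p X 2) := by
    rw [QuotientGroup.nontrivial_iff]
    exact h2
  have hps : IsPSolvable p (X ⧸ U p X 2) := isPSolvable_of_isSolvable inferInstance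
  rcases pCore_or_pPrimeCore_ne_bot hps with h | h
  · exact h (pCore_quot_two h1)
  · apply h
    have h4 := U_succ_even (p := p) (G := X) (i := 2) (by decide)
    have h5 : (pPrimeCore p (X ⧸ U p X 2)).comap (QuotientGroup.mk' (U p X 2)) = U p X 2 := by
      rw [← h4]; exact h3
    rw [eq_bot_iff]
    intro y hy
    obtain ⟨x, rfl⟩ := QuotientGroup.mk'_surjective _ y
    have h6 := Subgroup.mem_comap.mpr hy
    rw [h5] at h6
    rw [Subgroup.mem_bot]
    exact (QuotientGroup.eq_one_iff x).mpr h6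

/-- `O_{p'}(X / U 3) = 1`. -/
theorem pPrimeCore_quot_three (h1 : pPrimeCore p X = ⊥) : pPrimeCore p (X ⧸ U p X 3) = ⊥ := by
  set D := (pPrimeCore p (X ⧸ U p X 3)).comap (QuotientGroup.mk' (U p X 3)) with hD
  have hDn : D.Normal := (H1.Nilp.pPrimeCore_normal p).comap _
  have h3D : U p X 3 ≤ D := by
    intro x hx
    rw [hD, Subgroup.mem_comap, QuotientGroup.mk'_apply, (QuotientGroup.eq_one_iff x).mpr hx]
    exact one_mem _
  have hVD : pCore p X ≤ D := by
    rw [← U_two h1]; exact (U_mono (by norm_num)).trans h3D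
  have h6 : (U p X 3).relIndex D = Nat.card (pPrimeCore p (X ⧸ U p X 3)) := by
    have h7 := relIndex_comap_comap (QuotientGroup.mk'_surjective (U p X 3)) ⊥ (pPrimeCore p (X ⧸ U p X 3))
    rw [Subgroup.relIndex_bot_left] at h7
    rw [← h7]
    congr 1
    rw [MonoidHom.comap_bot, QuotientGroup.ker_mk']
  have h7 : D ≤ U p X 3 := by
    apply le_U_three h1 hDn hVD
    have h8 := Subgroup.relIndex_mul_relIndex (pCore p X) (U p X 3) D
      (by rw [← U_two h1]; exact U_mono (by norm_num)) h3D
    rw [← h8, h6]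
    apply Nat.Coprime.mul_left
    · have := relIndex_U_even (p := p) (G := X) (i := 2) (by decide)
      rw [U_two h1] at this
      exact this
    · exact H1.Nilp.pPrimeCore_coprime p
  rw [eq_bot_iff]
  intro y hy
  obtain ⟨x, rfl⟩ := QuotientGroup.mk'_surjective _ y
  have h5 := h7 (Subgroup.mem_comap.mpr hy)
  rw [Subgroup.mem_bot]
  exact (QuotientGroup.eq_one_iff x).mpr h5

/-- If `U 4 / U 3` is central then `U 4` is everything. -/
theorem U_four_eq_top (hsol : Group.IsSolvable X) (h1 : pPrimeCore p X = ⊥)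
    (hc : ∀ x ∈ U p X 4, ∀ y : X, ⁅x, y⁆ ∈ U p X 3) : U p X 4 = ⊤ := by
  have h2 := centralizer_pCore_le (isPSolvable_of_isSolvable (inferInstance : Group.IsSolvable (X ⧸ U p X 3)))
    (pPrimeCore_quot_three h1)
  have h4 := U_succ_odd (p := p) (G := X) (i := 3) (by decide)
  rw [eq_top_iff]
  intro y _
  show y ∈ U p X (3 + 1)
  rw [h4, Subgroup.mem_comap]
  apply h2
  rw [Subgroup.mem_centralizer_iff]
  intro z hz
  obtain ⟨x, rfl⟩ := QuotientGroup.mk'_surjective _ z
  have hx : x ∈ U p X 4 := by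
    show x ∈ U p X (3 + 1)
    rw [h4]; exact hz
  have h5 := hc x hx y
  rw [← map_mul, ← map_mul, QuotientGroup.mk'_apply, QuotientGroup.mk'_apply, QuotientGroup.eq]
  have h6 : (x * y)⁻¹ * (y * x) = (x * y)⁻¹ * ⁅x, y⁆⁻¹ * (x * y)⁻¹⁻¹ := by
    rw [commutatorElement_def]; group
  rw [h6]
  exact Subgroup.Normal.conj_mem (U_normal 3) _ (inv_mem h5) _

/-- `C_X(U 3 / U 2) ≤ U 3`. -/
theorem mem_U_three (hsol : Group.IsSolvable X) (h1 : pPrimeCore p X = ⊥) {x : X}
    (hx : ∀ y ∈ U p X 3, ⁅x, y⁆ ∈ U p X 2) : x ∈ U p X 3 := by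
  set Q := X ⧸ U p X 2 with hQ
  have hp0 : pCore p Q = ⊥ := pCore_quot_two h1
  -- centralizer of O_{p'}
  have hsQ : Group.IsSolvable (⊤ : Subgroup Q) := inferInstance
  have hF : fittingOf (⊤ : Subgroup Q) ≤ H12.Loc.Oc p (⊤ : Subgroup Q) := by
    rw [H12.Loc.fittingOf_le_iff]
    intro q hq
    by_cases hqp : q = p
    · subst hqp
      have h5 : H12.Loc.Oq q (⊤ : Subgroup Q) = ⊥ := by
        rw [eq_bot_iff, ← hp0]
        have hn : (H12.Loc.Oq q (⊤ : Subgroup Q)).Normal :=
          Subgroup.normalizer_eq_top_iff.mp (top_le_iff.mp (H12.Loc.le_normalizer_Oq q ⊤))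
        exact H11.Cores.le_pCore _ (H12.Loc.Oq_isPGroup hq ⊤)
      rw [h5]; exact bot_le
    · apply H12.Loc.le_Oc hp.out (H12.Loc.Oq_le q ⊤) (H12.Loc.le_normalizer_Oq q ⊤)
      have hqF : Fact q.Prime := ⟨hq⟩
      obtain ⟨n, hn⟩ := IsPGroup.iff_card.mp (H12.Loc.Oq_isPGroup hq (⊤ : Subgroup Q))
      rw [hn]
      exact Nat.Coprime.pow_left n ((Nat.coprime_primes hq hp.out).mpr hqp)
  have hC : centralizer (H12.Loc.Oc p (⊤ : Subgroup Q) : Set Q) ≤ H12.Loc.Oc p (⊤ : Subgroup Q) := by
    have h5 := H12.Core.inf_centralizer_fittingOf_le (⊤ : Subgroup Q) hsQ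
    rw [top_inf_eq] at h5
    exact (Subgroup.centralizer_le hF).trans (h5.trans hF)
  have hOc : H12.Loc.Oc p (⊤ : Subgroup Q) ≤ pPrimeCore p Q := by
    have hn : (H12.Loc.Oc p (⊤ : Subgroup Q)).Normal :=
      Subgroup.normalizer_eq_top_iff.mp (top_le_iff.mp (H12.Loc.le_normalizer_Oc p ⊤))
    exact H11.Cores.le_pPrimeCore _ (H12.Loc.Oc_coprime hp.out ⊤)
  have h4 := U_succ_even (p := p) (G := X) (i := 2) (by decide)
  show x ∈ U p X (2 + 1)
  rw [h4, Subgroup.mem_comap]
  apply hOc
  apply hC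
  rw [Subgroup.mem_centralizer_iff]
  intro z hz
  obtain ⟨y, rfl⟩ := QuotientGroup.mk'_surjective _ z
  have hy : y ∈ U p X 3 := by
    show y ∈ U p X (2 + 1)
    rw [h4]; exact hOc hz
  have h5 := hx y hy
  rw [← map_mul, ← map_mul, QuotientGroup.mk'_apply, QuotientGroup.mk'_apply, QuotientGroup.eq]
  have h6 : (y * x)⁻¹ * (x * y) = (y * x)⁻¹ * ⁅x, y⁆ * (y * x)⁻¹⁻¹ := by
    rw [commutatorElement_def]; group
  rw [h6]
  exact Subgroup.Normal.conj_mem (U_normal 2) _ h5 _

end

end Cfsg.Agent.H12.P36
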