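import Mathlib
import Cfsg.Agent.H12_P36f
import Cfsg.Agent.H2_Basic
import Cfsg.Agent.H1_HC

/-!
BG Theorem 3.6: main induction.
-/

set_option autoImplicit false
open Subgroup Cfsg
open scoped commutatorElement Pointwise

universe u

namespace Cfsg.Agent.H12.P36

open Cfsg.Agent.H22.Basic Cfsg.Agent.H22.Coprime3 Cfsg.Agent.H22.PSolv

theorem plength_congr {G : Type u} [Group G] [Finite G] {p : ℕ} [Fact p.Prime] {A B : Subgroup G} (h : A = B)
    {k : ℕ} (hA : PLengthLE p k A) : PLengthLE p k B := by subst h; exact hA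

/-- Elementary abelian from trivial Frattini subgroup. -/
theorem frattini_step {X : Type u} [Group X] [Finite X] (hsol : Group.IsSolvable X) {p : ℕ} [hp : Fact p.Prime]
    (h1 : pPrimeCore p X = ⊥) (h3 : U p X 3 ≠ ⊤) {Φ : Subgroup X} [hΦn : Φ.Normal]
    (hΦV : Φ ≤ pCore p X) (hfr : ∀ d : X, (orderOf d).Coprime p →
      (∀ a ∈ zpowers d, ∀ v ∈ pCore p X, a * v * a⁻¹ * v⁻¹ ∈ Φ) → zpowers d ≤ centralizer (pCore p X : Set X))
    (hpl : PLengthLE p 1 (X ⧸ Φ)) : False := by
  set V := pCore p X with hV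
  have hVn : V.Normal := H1.Nilp.pCore_normal p
  have hVp : IsPGroup p V := H1.Nilp.pCore_isPGroup p
  have hCV : centralizer (V : Set X) ≤ V := centralizer_pCore_le (isPSolvable_of_isSolvable hsol) h1
  -- O_{p'}(X/Φ) = 1
  have hQ : pPrimeCore p (X ⧸ Φ) = ⊥ := by
    set D := (pPrimeCore p (X ⧸ Φ)).comap (QuotientGroup.mk' Φ) with hD
    have hDn : D.Normal := (H1.Nilp.pPrimeCore_normal p).comap _
    have hkey : ∀ d ∈ D, (orderOf d).Coprime p → d = 1 := by
      intro d hd hdp
      have hdz : zpowers d ≤ D := zpowers_le.mpr hd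
      have h4 : zpowers d ≤ centralizer (V : Set X) := by
        refine hfr d hdp ?_
        · intro a ha v hv
          -- commutator of normal p'- and p-subgroups in X/Φ
          have h5 : (V.map (QuotientGroup.mk' Φ)) ⊓ pPrimeCore p (X ⧸ Φ) = ⊥ := by
            apply H12.Loc.inf_eq_bot_of_isPGroup hp.out (hVp.map _) (H1.Nilp.pPrimeCore_coprime p)
          have hVmn : (V.map (QuotientGroup.mk' Φ)).Normal := hVn.map _ (QuotientGroup.mk'_surjective Φ)
          have hPn : (pPrimeCore p (X ⧸ Φ)).Normal := H1.Nilp.pPrimeCore_normal p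
          have h6 : (QuotientGroup.mk' Φ) (a * v * a⁻¹ * v⁻¹) ∈ (V.map (QuotientGroup.mk' Φ)) ⊓ pPrimeCore p (X ⧸ Φ) := by
            refine Subgroup.mem_inf.mpr ⟨⟨a * v * a⁻¹ * v⁻¹, ?_, rfl⟩, ?_⟩
            · exact mul_mem (hVn.conj_mem v hv a) (inv_mem hv)
            · have h7 : (QuotientGroup.mk' Φ) a ∈ pPrimeCore p (X ⧸ Φ) := hdz ha
              have h8 : (QuotientGroup.mk' Φ) (a * v * a⁻¹ * v⁻¹)
                  = (QuotientGroup.mk' Φ) a * ((QuotientGroup.mk' Φ) v * ((QuotientGroup.mk' Φ) a)⁻¹ *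
                    ((QuotientGroup.mk' Φ) v)⁻¹) := by
                simp only [map_mul, map_inv]; group
              rw [h8]
              exact mul_mem h7 (hPn.conj_mem _ (inv_mem h7) _)
          rw [h5, Subgroup.mem_bot] at h6
          exact (QuotientGroup.eq_one_iff _).mp h6
      have h5 : d ∈ V := hCV (h4 (mem_zpowers d))
      obtain ⟨n, hn⟩ := hVp ⟨d, h5⟩
      have hn' : d ^ (p ^ n) = 1 := congrArg Subtype.val hn
      have h6 := Nat.dvd_gcd (dvd_refl (orderOf d)) (orderOf_dvd_of_pow_eq_one hn')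
      rw [(Nat.Coprime.pow_right n hdp)] at h6
      exact orderOf_eq_one_iff.mp (Nat.dvd_one.mp h6)
    rw [eq_bot_iff]
    intro y hy
    obtain ⟨x, rfl⟩ := QuotientGroup.mk'_surjective _ y
    rw [Subgroup.mem_bot]
    have hx : x ∈ D := hy
    obtain ⟨a, ha, b, hb, hab, -, ⟨n, hn⟩, hbp⟩ := H2.Basic.exists_p_decomp p x
    have hb1 : b = 1 := hkey b ((zpowers_le.mpr hx) hb) hbp
    rw [hb1, mul_one] at hab
    rw [hab] at hn
    have h5 : orderOf ((QuotientGroup.mk' Φ) x) ∣ p ^ n := by
      rw [← hn]; exact orderOf_map_dvd _ x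
    have h6 : orderOf ((QuotientGroup.mk' Φ) x) ∣ Nat.card (pPrimeCore p (X ⧸ Φ)) := by
      have := orderOf_dvd_natCard (⟨(QuotientGroup.mk' Φ) x, hy⟩ : pPrimeCore p (X ⧸ Φ))
      rwa [Subgroup.orderOf_mk] at this
    have h7 := Nat.dvd_gcd h5 h6
    have h8 : Nat.Coprime (p ^ n) (Nat.card (pPrimeCore p (X ⧸ Φ))) :=
      Nat.Coprime.pow_left n (H1.Nilp.pPrimeCore_coprime p).symm
    rw [h8] at h7
    exact orderOf_eq_one_iff.mp (Nat.dvd_one.mp h7)
  -- now p-length one gives normal Sylow
  have hpc : (pCore p (X ⧸ Φ)).Normal := H1.Nilp.pCore_normal p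
  have h4 := plengthLE_quotient_pCore hQ (k := 0) hpl
  rw [plengthLE_zero_iff] at h4
  apply h3
  rw [eq_top_iff]
  apply le_U_three h1 inferInstance le_top
  rw [Subgroup.relIndex_top_right]
  set E := (pCore p (X ⧸ Φ)).comap (QuotientGroup.mk' Φ) with hE
  have hEn : E.Normal := hpc.comap _
  have hΦE : Φ ≤ E := by
    intro x hx
    rw [hE, Subgroup.mem_comap, QuotientGroup.mk'_apply, (QuotientGroup.eq_one_iff x).mpr hx]
    exact one_mem _
  have hEV : E ≤ pCore p X := by
    apply H11.Cores.le_pCore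
    refine isPGroup_of_relIndex (hVp.to_le hΦV) hΦE ?_
    obtain ⟨n, hn⟩ := IsPGroup.iff_card.mp (H1.Nilp.pCore_isPGroup (G := X ⧸ Φ) p)
    refine ⟨n, ?_⟩
    have h6 := relIndex_comap_comap (QuotientGroup.mk'_surjective Φ) ⊥ (pCore p (X ⧸ Φ))
    rw [Subgroup.relIndex_bot_left, hn] at h6
    rw [← h6]
    congr 1
    rw [MonoidHom.comap_bot, QuotientGroup.ker_mk']
  have h5 : E.index = (pCore p (X ⧸ Φ)).index := Subgroup.index_comap_of_surjective _ (QuotientGroup.mk'_surjective Φ)
  have h6 : (pCore p X).index ∣ E.index := Subgroup.index_dvd_of_le hEV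
  exact Nat.Coprime.coprime_dvd_left (h6.trans (by rw [h5]; exact dvd_rfl)) h4

theorem main_step {G : Type u} [Group G] [Finite G] (hsol : Group.IsSolvable G) (hodd : Odd (Nat.card G))
    {p : ℕ} [hp : Fact p.Prime] (H R R₀ : Subgroup G) [hHn : H.Normal] (hHR : H ⊔ R = ⊤) (hyp : Hyp H R R₀)
    (hH : ⁅H, R⁆ = H)
    (quot : ∀ X : Subgroup G, X.Normal → X ≤ H → X ≠ ⊥ → ∀ (_ : (X.subgroupOf H).Normal), PLengthLE p 1 (H ⧸ X.subgroupOf H))
    (hR₀ : R₀ ≠ R → PLengthLE p 1 ↥⁅H, R₀⁆) : PLengthLE p 1 H := by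
  by_contra hn
  have hsolH : Group.IsSolvable H := inferInstance
  have hchar1 : (pPrimeCore p H).Characteristic := by
    rw [← H12.Core.piCore_compl hp.out]; infer_instance
  have hchar2 : (pCore p H).Characteristic := by
    rw [← H12.Core.piCore_singleton hp.out]; infer_instance
  have h3 : U p H 3 ≠ ⊤ := fun h => hn h
  -- O_{p'}(H) = 1
  have h1 : pPrimeCore p H = ⊥ := by
    by_contra hne
    set X := (pPrimeCore p H).map H.subtype with hX
    have hXn : X.Normal := H11.Cores.map_subtype_normal_of_characteristic H _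
    have hXe : X.subgroupOf H = pPrimeCore p H := H12.Core.subgroupOf_map_subtype_self _
    have hXn' : (X.subgroupOf H).Normal := by rw [hXe]; infer_instance
    have h4 := quot X hXn (by rintro _ ⟨x, _, rfl⟩; exact x.2) (by
      intro h
      apply hne
      rw [← hXe, h, Subgroup.bot_subgroupOf]) hXn'
    apply hn
    refine plengthLE_of_quotient_coprime (X.subgroupOf H) ?_ h4
    rw [hXe]; exact H1.Nilp.pPrimeCore_coprime p
  have hU2 : U p H 2 = pCore p H := U_two h1
  set V : Subgroup G := (pCore p H).map H.subtype with hV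
  have hVn : V.Normal := H11.Cores.map_subtype_normal_of_characteristic H _
  have hVH : V ≤ H := by rintro _ ⟨x, _, rfl⟩; exact x.2
  have hVe : V.subgroupOf H = pCore p H := H12.Core.subgroupOf_map_subtype_self _
  have hVp : IsPGroup p V := (H1.Nilp.pCore_isPGroup (G := H) p).map _
  have hmaxV : ∀ D : Subgroup G, D ≤ H → H ≤ normalizer (D : Set G) → IsPGroup p D → D ≤ V := by
    intro D hDH hHD hD
    have h4 : (D.subgroupOf H).Normal := H12.Core.normal_subgroupOf_of_le hHD
    have h5 : D.subgroupOf H ≤ pCore p H := by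
      apply H11.Cores.le_pCore
      exact hD.comap_of_injective _ H.subtype_injective
    rw [← map_subtype_subgroupOf hDH]
    exact Subgroup.map_mono h5
  have hCV : H ⊓ centralizer (V : Set G) ≤ V := by
    intro x hx
    obtain ⟨hxH, hxC⟩ := Subgroup.mem_inf.mp hx
    have h4 : (⟨x, hxH⟩ : H) ∈ centralizer (pCore p H : Set H) := by
      rw [Subgroup.mem_centralizer_iff]
      intro y hy
      apply Subtype.ext
      exact (Subgroup.mem_centralizer_iff.mp hxC) y ⟨y, hy, rfl⟩
    have h5 := centralizer_pCore_le (isPSolvable_of_isSolvable hsolH) h1 h4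
    exact ⟨_, h5, rfl⟩
  have hpH : p ∣ Nat.card H := by
    by_contra hnd
    apply hn
    exact plengthLE_mono (by norm_num) (plengthLE_zero_iff.mpr ((Nat.Prime.coprime_iff_not_dvd hp.out).mpr hnd).symm)
  have hV1 : V ≠ ⊥ := by
    intro h
    rw [h] at hCV
    have h4 : H = ⊥ := by
      rw [eq_bot_iff]
      refine le_trans ?_ hCV
      refine le_inf le_rfl ?_
      intro x _
      rw [Subgroup.mem_centralizer_iff]
      intro y hy
      have hy' : y = 1 := by simpa using hy
      rw [hy', one_mul, mul_one]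
    rw [h4, Subgroup.card_bot] at hpH
    exact hp.out.one_lt.ne' (Nat.dvd_one.mp hpH)
  -- V is elementary abelian
  have hΦ : (frattini V).map V.subtype = ⊥ := by
    by_contra hne
    set X := (frattini V).map V.subtype with hX
    have hXV : X ≤ V := by rintro _ ⟨x, _, rfl⟩; exact x.2
    have hXn : X.Normal := by
      apply Subgroup.normalizer_eq_top_iff.mp
      rw [eq_top_iff]
      exact le_normalizer_map_frattini (H12.Core.le_normalizer_of_normal ⊤ V)
    have hXn' : (X.subgroupOf H).Normal := inferInstance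
    have h4 := quot X hXn (hXV.trans hVH) hne hXn'
    refine frattini_step hsolH h1 h3 (Φ := X.subgroupOf H) ?_ ?_ h4
    · rw [← hVe]
      intro x hx
      exact hXV hx
    · intro d hdp hd
      have h5 : zpowers (d : G) ≤ centralizer (V : Set G) := by
        refine H1.Coprime.trivial_on_frattini_quotient (zpowers (d : G)) V (H12.Core.le_normalizer_of_normal _ _) ?_ ?_
        · rw [Nat.card_zpowers]
          have h5 : IsPGroup p (frattini V) := hVp.to_subgroup _
          obtain ⟨n, hn⟩ := IsPGroup.iff_card.mp h5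
          rw [hn]
          apply Nat.Coprime.pow_right
          rw [Subgroup.orderOf_coe]
          exact hdp
        · intro a ha v hv
          obtain ⟨i, rfl⟩ := mem_zpowers_iff.mp ha
          obtain ⟨w, hw, rfl⟩ := hv
          exact hd (d ^ i) (zpow_mem (mem_zpowers d) i) w hw
      rw [zpowers_le, Subgroup.mem_centralizer_iff] at h5 ⊢
      intro y hy
      apply Subtype.ext
      exact h5 y ⟨y, hy, rfl⟩
  have hVab : V ≤ centralizer (V : Set G) := by
    rw [← Subgroup.commutator_eq_bot_iff_le_centralizer, eq_bot_iff, ← hΦ]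
    exact commutator_le_map_frattini hVp
  have hVexp : ∀ v ∈ V, v ^ p = 1 := by
    intro v hv
    have := pow_mem_map_frattini hVp hv
    rw [hΦ] at this
    exact Subgroup.mem_bot.mp this
  -- the subgroup L
  have hUn : ∀ i, ((U p H i).map H.subtype).Normal := fun i => H11.Cores.map_subtype_normal_of_characteristic H _
  set L : Subgroup G := (U p H 3).map H.subtype with hL
  have hLn : L.Normal := hUn 3
  have hLH : L ≤ H := by rintro _ ⟨x, _, rfl⟩; exact x.2
  have hLe : L.subgroupOf H = U p H 3 := H12.Core.subgroupOf_map_subtype_self _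
  have hVL : V ≤ L := by rw [hV, ← hU2]; exact Subgroup.map_mono (U_mono (by norm_num))
  have hVLcop : (V.relIndex L).Coprime p := by
    have h4 := relIndex_U_even (p := p) (G := H) (i := 2) (by decide)
    rw [hV, hL, ← hU2, Subgroup.relIndex_map_map_of_injective _ _ H.subtype_injective]
    exact h4
  have hLV : L ≠ V := by
    intro h
    have h2 : U p H 2 ≠ ⊤ := by
      intro h2
      exact h3 (top_le_iff.mp (h2.symm.le.trans (U_mono (by norm_num))))
    apply U_three_ne hsolH h1 h2
    rw [← hLe, h, hVe, hU2]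
  have hLneH : ¬ H ≤ L := by
    intro h
    apply h3
    rw [← hLe]
    exact Subgroup.subgroupOf_eq_top.mpr h
  -- complement
  have hVc : (Nat.card V).Coprime (V.relIndex L) := by
    obtain ⟨n, hn⟩ := IsPGroup.iff_card.mp hVp
    rw [hn]; exact Nat.Coprime.pow_left n hVLcop.symm
  have hVsol : Group.IsSolvable V := inferInstance
  obtain ⟨B, hBL, hBc, hBV, hBsup⟩ := H1.Coprime.sz_exists hVL (H12.Core.le_normalizer_of_normal L V) hVc
  have hconjB : ∀ B : Subgroup G, B ≤ L → Nat.card B = V.relIndex L → B ⊔ V = L → ∀ g : G, ∃ v ∈ V, cj v B = cj g B := by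
    intro B hBL hBc hBsup g
    have hgL : cj g B ≤ L := by
      have := cj_mono (g := g) hBL
      rwa [cj_eq_of_mem_normalizer (g := g) (H := L) (by rw [Subgroup.normalizer_eq_top]; trivial)] at this
    exact H1.Coprime.sz_internal (H12.Core.le_normalizer_of_normal B V) (by rw [hBsup]; exact hgL) (card_cj g B)
      (by rw [hBc]; exact hVc.symm) (Or.inr hVsol)
  have hRL : (Nat.card R).Coprime (Nat.card L) :=
    Nat.Coprime.coprime_dvd_right (Subgroup.card_dvd_of_le hLH) hyp.cop.symm
  obtain ⟨k, hk, hRK⟩ := H1.Coprime.exists_invariant_conj (H12.Core.le_normalizer_of_normal R L) hRL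
    (Or.inr inferInstance) B (by
      intro a _
      obtain ⟨v, hv, h⟩ := hconjB B hBL hBc hBsup a
      exact ⟨v, hVL hv, h.symm⟩)
  set K : Subgroup G := MulAut.conj k • B with hK
  have hKL : K ≤ L := by
    have := cj_mono (g := k) hBL
    rwa [cj_eq_of_mem hk] at this
  have hKc : Nat.card K = V.relIndex L := by rw [hK]; exact (card_cj k B).trans hBc
  have hKV : K ⊓ V = ⊥ := H22.Basic.inf_eq_bot_of_coprime (by rw [hKc]; exact hVc.symm)
  have hKsup : K ⊔ V = L := by
    have h4 := congrArg (cj k) hBsup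
    rw [cj_sup, cj_eq_of_mem hk, cj_eq_of_mem_normalizer (g := k) (H := V) (by rw [Subgroup.normalizer_eq_top]; trivial)] at h4
    exact h4
  have hKp : (Nat.card K).Coprime p := by rw [hKc]; exact hVLcop
  have hK1 : K ≠ ⊥ := by
    intro h
    rw [h, bot_sup_eq] at hKsup
    exact hLV hKsup.symm
  have hKH : K ≤ H := hKL.trans hLH
  have hKsol : Group.IsSolvable K := inferInstance
  -- Frattini argument
  have hfrat : ∀ g : G, ∃ v ∈ V, ∃ n ∈ normalizer (K : Set G), g = v * n := by
    intro g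
    obtain ⟨v, hv, h⟩ := hconjB K hKL hKc hKsup g
    refine ⟨v, hv, v⁻¹ * g, ?_, by group⟩
    rw [mem_normalizer_iff_cj, cj_mul, ← h, cj_inv_cj]
  have hVKcop : (Nat.card K).Coprime (Nat.card V) := by rw [hKc]; exact hVc.symm
  have hVcom : IsMulCommutative V := ⟨⟨fun a b => Subtype.ext
    (((Subgroup.mem_centralizer_iff.mp (hVab b.2)) a a.2))⟩⟩
  -- C_V(K) = 1
  have hCVK : V ⊓ centralizer (K : Set G) = ⊥ := by
    by_contra hne
    have hn1 : (V ⊓ centralizer (K : Set G)).Normal := by
      apply Subgroup.normalizer_eq_top_iff.mp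
      rw [eq_top_iff]
      intro g _
      obtain ⟨v, hv, n, hn, rfl⟩ := hfrat g
      apply mul_mem
      · have h4 : V ≤ normalizer ((V ⊓ centralizer (K : Set G) : Subgroup G) : Set G) := by
          apply H1.Coprime.le_normalizer_of_le_centralizer
          rw [Subgroup.le_centralizer_iff]
          exact inf_le_left.trans hVab
        exact h4 hv
      · have h4 : normalizer (K : Set G) ≤ normalizer ((V ⊓ centralizer (K : Set G) : Subgroup G) : Set G) :=
          le_normalizer_inf (H12.Core.le_normalizer_of_normal _ _) (le_normalizer_centralizer le_rfl)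
        exact h4 hn
    have hDV : ⁅V, K⁆ ≤ V := commutator_le_left (H12.Core.le_normalizer_of_normal _ _)
    have hn2 : (⁅V, K⁆ : Subgroup G).Normal := by
      apply Subgroup.normalizer_eq_top_iff.mp
      rw [eq_top_iff]
      intro g _
      obtain ⟨v, hv, n, hn, rfl⟩ := hfrat g
      apply mul_mem
      · have h4 : V ≤ normalizer ((⁅V, K⁆ : Subgroup G) : Set G) := by
          apply H1.Coprime.le_normalizer_of_le_centralizer
          rw [Subgroup.le_centralizer_iff]
          exact hDV.trans hVab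
        exact h4 hv
      · have h4 : normalizer (K : Set G) ≤ normalizer ((⁅V, K⁆ : Subgroup G) : Set G) :=
          le_normalizer_commutator (H12.Core.le_normalizer_of_normal _ _) le_rfl
        exact h4 hn
    have hD1 : ⁅V, K⁆ ≠ ⊥ := by
      intro h
      apply hK1
      rw [eq_bot_iff, ← hKV]
      refine le_inf le_rfl (le_trans ?_ hCV)
      refine le_inf hKH ?_
      rw [← Subgroup.commutator_eq_bot_iff_le_centralizer, Subgroup.commutator_comm]
      exact h
    have hn1' : ((V ⊓ centralizer (K : Set G)).subgroupOf H).Normal := inferInstance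
    have hn2' : ((⁅V, K⁆ : Subgroup G).subgroupOf H).Normal := inferInstance
    have h4 := quot _ hn1 (inf_le_left.trans hVH) hne hn1'
    have h5 := quot _ hn2 (hDV.trans hVH) hD1 hn2'
    apply hn
    refine plengthLE_of_inf_eq_bot _ _ ?_ h4 h5
    have h6 := H1.Coprime.inf_commutator_eq_bot_of_abelian K V (H12.Core.le_normalizer_of_normal _ _) hVKcop
    rw [eq_bot_iff]
    intro x hx
    have h7 : (x : G) ∈ (V ⊓ centralizer (K : Set G)) ⊓ ⁅V, K⁆ := by
      obtain ⟨h8, h9⟩ := Subgroup.mem_inf.mp hx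
      exact Subgroup.mem_inf.mpr ⟨h8, h9⟩
    rw [h6] at h7
    rw [Subgroup.mem_bot]
    exact Subtype.ext (Subgroup.mem_bot.mp h7)
  have hVN : V ⊓ normalizer (K : Set G) = ⊥ := by
    rw [eq_bot_iff, ← hCVK]
    refine le_inf inf_le_left ?_
    intro x hx
    obtain ⟨hxV, hxN⟩ := Subgroup.mem_inf.mp hx
    rw [Subgroup.mem_centralizer_iff]
    intro y hy
    have h4 : x * y * x⁻¹ * y⁻¹ ∈ K ⊓ V := by
      refine Subgroup.mem_inf.mpr ⟨mul_mem (((Subgroup.mem_normalizer_iff.mp hxN) y).mp hy) (inv_mem hy), ?_⟩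
      have e : x * y * x⁻¹ * y⁻¹ = x * (y * x⁻¹ * y⁻¹) := by group
      rw [e]
      exact mul_mem hxV (hVn.conj_mem _ (inv_mem hxV) y)
    rw [hKV, Subgroup.mem_bot] at h4
    calc y * x = (x * y * x⁻¹ * y⁻¹)⁻¹ * (x * y) := by group
      _ = x * y := by rw [h4]; group
  -- the Hall-like complement
  set H₁ : Subgroup G := H ⊓ normalizer (K : Set G) with hH₁
  have hRH₁ : R ≤ normalizer (H₁ : Set G) := le_normalizer_inf hyp.norm (le_normalizer_normalizer hRK)
  have hVH₁ : V ⊓ H₁ = ⊥ := by
    rw [eq_bot_iff, ← hVN]; exact inf_le_inf_left _ inf_le_right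
  have hVsupH₁ : V ⊔ H₁ = H := by
    apply le_antisymm (sup_le hVH inf_le_left)
    intro h hh
    obtain ⟨v, hv, n, hn, rfl⟩ := hfrat h
    apply mul_mem
    · exact (le_sup_left : V ≤ V ⊔ H₁) hv
    · have h4 : n ∈ H := by
        have := mul_mem (inv_mem (hVH hv)) hh
        simpa using this
      exact (le_sup_right : H₁ ≤ V ⊔ H₁) (Subgroup.mem_inf.mpr ⟨h4, hn⟩)
  have hRH₁cop : (Nat.card R).Coprime (Nat.card H₁) :=
    Nat.Coprime.coprime_dvd_right (Subgroup.card_dvd_of_le inf_le_left) hyp.cop.symm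
  obtain ⟨S, hS⟩ := H1.Coprime.invariant_sylow_exists R H₁ hRH₁ hRH₁cop (Or.inr inferInstance) p
  set P₀ : Subgroup G := (S : Subgroup H₁).map H₁.subtype with hP₀
  have hP₀S : H13.Syl.IsSylIn p P₀ H₁ := H13.Syl.isSylIn_map_subtype S
  have hP₀H₁ : P₀ ≤ H₁ := hP₀S.le
  have hP₀p : IsPGroup p P₀ := hP₀S.isPGroup
  have hVP₀ : V ⊓ P₀ = ⊥ := by
    rw [eq_bot_iff, ← hVH₁]; exact inf_le_inf_left _ hP₀H₁
  -- normal subgroups with p-quotients over L
  have hLp : ∀ T : Subgroup G, T ≤ L → IsPGroup p T → T ≤ V := by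
    intro T hTL hT
    have h4 : (V.subgroupOf L).Normal := inferInstance
    have h5 : T.subgroupOf L ≤ V.subgroupOf L := by
      apply H1.HC.le_of_coprime_index
      have h6 : (V.subgroupOf L).index = V.relIndex L := rfl
      rw [h6]
      have h7 : IsPGroup p (T.subgroupOf L) := hT.comap_of_injective _ L.subtype_injective
      obtain ⟨n, hn⟩ := IsPGroup.iff_card.mp h7
      rw [hn]; exact Nat.Coprime.pow_left n hVLcop.symm
    intro x hx
    exact h5 (show (⟨x, hTL hx⟩ : L) ∈ T.subgroupOf L from hx)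
  -- faithful action on K
  have hfaith : ∀ T ≤ P₀, T ≠ ⊥ → ⁅K, T⁆ ≠ ⊥ := by
    intro T hT hT1 h
    apply hT1
    rw [eq_bot_iff, ← hVP₀]
    refine le_inf (hLp T ?_ (hP₀p.to_le hT)) hT
    intro x hx
    have hxH : x ∈ H := (Subgroup.mem_inf.mp (hP₀H₁ (hT hx))).1
    have h4 : (⟨x, hxH⟩ : H) ∈ U p H 3 := by
      apply mem_U_three hsolH h1
      intro y hy
      rw [hU2, ← hVe, Subgroup.mem_subgroupOf]
      have hyL : (y : G) ∈ L := ⟨y, hy, rfl⟩
      rw [← hKsup, sup_comm] at hyL
      obtain ⟨v, hv, κ, hκ, hvk⟩ := (mem_sup_of_le_normalizer (H12.Core.le_normalizer_of_normal K V)).mp hyL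
      have h5 : ⁅x, κ⁆ = 1 := by
        have : ⁅κ, x⁆ ∈ ⁅K, T⁆ := Subgroup.commutator_mem_commutator hκ hx
        rw [h, Subgroup.mem_bot] at this
        rw [← commutatorElement_inv, this, inv_one]
      show ((⁅(⟨x, hxH⟩ : H), y⁆ : H) : G) ∈ V
      have h6 : ((⁅(⟨x, hxH⟩ : H), y⁆ : H) : G) = ⁅x, (y : G)⁆ := rfl
      rw [h6, ← hvk]
      have h7 : ⁅x, v * κ⁆ = ⁅x, v⁆ * (v * ⁅x, κ⁆ * v⁻¹) := by
        simp only [commutatorElement_def]; group
      rw [h7, h5]
      have h8 : ⁅x, v⁆ ∈ V := by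
        rw [commutatorElement_def]
        exact mul_mem (hVn.conj_mem v hv x) (inv_mem hv)
      simpa using h8
    exact ⟨_, h4, rfl⟩
  -- R does not centralize P₀
  have hP₀R : ⁅P₀, R⁆ ≠ ⊥ := by
    intro h0
    have hV'n : (V.subgroupOf H).Normal := inferInstance
    have hpl2 : PLengthLE p (1 + 1) H := by
      refine plengthLE_add (V.subgroupOf H) ?_ (quot V hVn hVH hV1 hV'n)
      have h4 : IsPGroup p (V.subgroupOf H) := by rw [hVe]; exact H1.Nilp.pCore_isPGroup p
      obtain ⟨n, hn⟩ := IsPGroup.iff_card.mp h4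
      refine plengthLE_one_of ⊥ ⊤ bot_le (by simp) ⟨n, ?_⟩ (by simp)
      rw [Subgroup.relIndex_bot_left, Subgroup.card_top, hn]
    have hU5 : U p H 5 = ⊤ := hpl2
    set M : Subgroup G := (U p H 4).map H.subtype with hM
    have hMn : M.Normal := hUn 4
    have hMH : M ≤ H := by rintro _ ⟨x, _, rfl⟩; exact x.2
    have hMe : M.subgroupOf H = U p H 4 := H12.Core.subgroupOf_map_subtype_self _
    have hLM : L ≤ M := by rw [hL, hM]; exact Subgroup.map_mono (U_mono (by norm_num))
    have hMcop : (M.relIndex H).Coprime p := by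
      have h4 := relIndex_U_even (p := p) (G := H) (i := 4) (by decide)
      have h5 : M.relIndex H = (U p H 4).index := by
        show (M.subgroupOf H).index = _
        rw [hMe]
      rw [h5, ← Subgroup.relIndex_top_right, ← hU5]
      exact h4
    have hLMp : ∃ m, L.relIndex M = p ^ m := by
      have h4 := relIndex_U_odd (p := p) (G := H) (i := 3) (by decide)
      rw [hL, hM, Subgroup.relIndex_map_map_of_injective _ _ H.subtype_injective]
      exact h4
    -- V ⊔ P₀ is Sylow in H
    have hSyl : H13.Syl.IsSylIn p (V ⊔ P₀) H := by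
      have hc1 : Nat.card ↥(V ⊔ P₀) = Nat.card V * Nat.card P₀ :=
        card_sup_of_inf_eq_bot (H12.Core.le_normalizer_of_normal _ _) hVP₀
      have hc2 : Nat.card H = Nat.card V * Nat.card H₁ := by
        have := card_sup_of_inf_eq_bot (H12.Core.le_normalizer_of_normal H₁ V) hVH₁
        rwa [hVsupH₁] at this
      have hle : V ⊔ P₀ ≤ H := sup_le hVH (hP₀H₁.trans inf_le_left)
      refine ⟨hle, ?_, ?_⟩
      · exact IsPGroup.to_sup_of_normal_left' hVp hP₀p (H12.Core.le_normalizer_of_normal _ _)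
      · intro hd
        have h4 := card_mul_relIndex hle
        have h5 := card_mul_relIndex hP₀H₁
        rw [hc1, hc2, ← h5, mul_assoc] at h4
        have h6 : (V ⊔ P₀).relIndex H = P₀.relIndex H₁ := by
          have hpos : 0 < Nat.card V := Nat.card_pos
          have hpos' : 0 < Nat.card P₀ := Nat.card_pos
          exact Nat.eq_of_mul_eq_mul_left hpos' (Nat.eq_of_mul_eq_mul_left hpos h4)
        rw [h6] at hd
        exact hP₀S.not_dvd hd
    have hMsub : M ≤ L ⊔ P₀ := by
      have hI := hSyl.inf_of_le_normalizer hMH (H12.Core.le_normalizer_of_normal H M)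
      have hY : L ⊔ ((V ⊔ P₀) ⊓ M) ≤ M := sup_le hLM inf_le_right
      have h4 : (L ⊔ ((V ⊔ P₀) ⊓ M)).relIndex M ∣ L.relIndex M := Subgroup.relIndex_dvd_of_le_left M le_sup_left
      have h5 : (L ⊔ ((V ⊔ P₀) ⊓ M)).relIndex M ∣ ((V ⊔ P₀) ⊓ M).relIndex M :=
        Subgroup.relIndex_dvd_of_le_left M le_sup_right
      obtain ⟨m, hm⟩ := hLMp
      rw [hm] at h4
      have h6 : (L ⊔ ((V ⊔ P₀) ⊓ M)).relIndex M = 1 := by
        obtain ⟨j, hj, hj'⟩ := (Nat.dvd_prime_pow hp.out).mp h4
        rcases Nat.eq_zero_or_pos j with h | h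
        · rw [hj', h, pow_zero]
        · exfalso
          apply hI.not_dvd
          exact (dvd_pow_self p h.ne').trans (by rw [← hj']; exact h5)
      have h7 : M ≤ L ⊔ ((V ⊔ P₀) ⊓ M) := Subgroup.relIndex_eq_one.mp h6
      refine h7.trans (sup_le le_sup_left (inf_le_left.trans (sup_le (hVL.trans le_sup_left) le_sup_right)))
    have hMR : ⁅M, R⁆ ≤ L := by
      refine le_trans (Subgroup.commutator_mono hMsub le_rfl) ?_
      rw [Subgroup.commutator_le]
      intro x hx r hr
      obtain ⟨l, hl, y, hy, rfl⟩ := (mem_sup_of_le_normalizer (H12.Core.le_normalizer_of_normal P₀ L)).mp hx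
      have h5 : ⁅y, r⁆ = 1 := by
        have : ⁅y, r⁆ ∈ ⁅P₀, R⁆ := Subgroup.commutator_mem_commutator hy hr
        rw [h0] at this
        exact Subgroup.mem_bot.mp this
      have h6 : ⁅l * y, r⁆ = (l * ⁅y, r⁆ * l⁻¹) * ⁅l, r⁆ := by
        simp only [commutatorElement_def]; group
      rw [h6, h5]
      have h7 : ⁅l, r⁆ ∈ L := by
        have e : ⁅l, r⁆ = l * (r * l⁻¹ * r⁻¹) := by rw [commutatorElement_def]; group
        rw [e]
        exact mul_mem hl (hLn.conj_mem _ (inv_mem hl) r)
      simpa using h7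
    have h3s : ⁅⁅H, R⁆, M⁆ ≤ L := by
      apply H24.Basic.three_subgroups
      · rw [Subgroup.commutator_comm R M]
        exact (Subgroup.commutator_mono hMR le_rfl).trans (commutator_le_left (H12.Core.le_normalizer_of_normal H L))
      · exact (Subgroup.commutator_mono (commutator_le_left (H12.Core.le_normalizer_of_normal H M)) le_rfl).trans hMR
    rw [hH] at h3s
    have hU4 : U p H 4 = ⊤ := by
      apply U_four_eq_top hsolH h1
      intro x hx y
      rw [← hLe, Subgroup.mem_subgroupOf]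
      have h5 : ⁅(y : G), (x : G)⁆ ∈ L := h3s (Subgroup.commutator_mem_commutator y.2 ⟨x, hx, rfl⟩)
      have h6 : ((⁅x, y⁆ : H) : G) = ⁅(y : G), (x : G)⁆⁻¹ := by
        rw [commutatorElement_inv]; rfl
      rw [h6]; exact inv_mem h5
    have hMH' : M = H := by
      rw [hM, hU4, ← MonoidHom.range_eq_map, Subgroup.range_subtype]
    rw [hMH', hH] at hMR
    exact hLneH hMR
  have hRP₀ : R ≤ normalizer (P₀ : Set G) := hS
  have hKCV : K ⊓ centralizer (V : Set G) = ⊥ := by
    rw [eq_bot_iff, ← hKV]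
    refine le_inf inf_le_left (le_trans (inf_le_inf_right _ hKH) hCV)
  have hP₀K : P₀ ≤ normalizer (K : Set G) := hP₀H₁.trans inf_le_right
  have hP₀H : P₀ ≤ H := hP₀H₁.trans inf_le_left
  by_cases hRR : R₀ = R
  · subst hRR
    obtain ⟨P, hPP₀, hRP, hPnt, hPmin⟩ := exists_minimal_action (p := p) hRP₀ (by
      intro h
      apply hP₀R
      rw [commutator_eq_bot_iff']; exact h)
    have hP1 : P ≠ ⊥ := by
      rintro rfl
      apply hPnt
      rw [Subgroup.le_centralizer_iff]; exact bot_le
    exact caseB hodd H R₀ V K P hyp hVH hKH (hPP₀.trans hP₀H) hVab hVexp (hP₀p.to_le hPP₀) (hPP₀.trans hP₀K) hRK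
      hRP hKp hKsol hKCV (by rw [eq_bot_iff, ← hVP₀]; exact inf_le_inf_left _ hPP₀)
      (by rw [Ne, commutator_eq_bot_iff']; exact hPnt)
      (by
        intro W hW hRW
        rw [commutator_eq_bot_iff']; exact hPmin W hW hRW) (hfaith P hPP₀ hP1)
  · -- R₀ centralizes P₀
    have hR₀c : ⁅P₀, R₀⁆ = ⊥ := by
      have hpl := hR₀ hRR
      set W : Subgroup G := ⁅H, R₀⁆ with hW
      have hWH : W ≤ H := commutator_le_left (H12.Core.le_normalizer_of_normal R₀ H)
      have hHW : H ≤ normalizer (W : Set G) := left_le_normalizer_commutator _ _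
      have hWpp : pPrimeCore p W = ⊥ := by
        have h4 : H12.Loc.Oc p W ≤ H12.Loc.Oc p H := H12.Core.piCoreOf_le_piCoreOf hWH hHW
        rw [H12.Loc.Oc_eq_map hp.out, H12.Loc.Oc_eq_map hp.out, h1, Subgroup.map_bot] at h4
        rw [eq_bot_iff]
        intro x hx
        have h5 := h4 ⟨x, hx, rfl⟩
        rw [Subgroup.mem_bot] at h5 ⊢
        exact Subtype.ext h5
      have hWn : (pCore p W).Normal := H1.Nilp.pCore_normal p
      have h4 := plengthLE_quotient_pCore hWpp (k := 0) hpl
      rw [plengthLE_zero_iff] at h4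
      have hOq : H12.Loc.Oq p W ≤ V := by
        apply hmaxV _ ((H12.Loc.Oq_le p W).trans hWH)
        · exact hHW.trans (by
            intro x hx
            exact H12.Core.normalizer_le_normalizer_piCoreOf _ _ hx)
        · exact H12.Loc.Oq_isPGroup hp.out W
      set T : Subgroup G := ⁅P₀, R₀⁆ with hT
      have hTP₀ : T ≤ P₀ := commutator_le_left (hyp.le.trans hRP₀)
      have hTW : T ≤ W := Subgroup.commutator_mono hP₀H le_rfl
      have h5 : T.subgroupOf W ≤ pCore p W := by
        apply H1.HC.le_of_coprime_index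
        have h7 : IsPGroup p (T.subgroupOf W) := (hP₀p.to_le hTP₀).comap_of_injective _ W.subtype_injective
        obtain ⟨n, hn⟩ := IsPGroup.iff_card.mp h7
        rw [hn]; exact Nat.Coprime.pow_left n h4.symm
      rw [eq_bot_iff, ← hVP₀]
      refine le_inf (le_trans ?_ hOq) hTP₀
      rw [H12.Loc.Oq_eq_map hp.out]
      intro x hx
      exact ⟨⟨x, hTW hx⟩, h5 (show (⟨x, hTW hx⟩ : W) ∈ T.subgroupOf W from hx), rfl⟩
    have hRcop : (Nat.card R).Coprime (Nat.card P₀) :=
      Nat.Coprime.coprime_dvd_right (Subgroup.card_dvd_of_le hP₀H) hyp.cop.symm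
    have hle : ⁅P₀, R⁆ ≤ P₀ := commutator_le_left hRP₀
    exact caseA hodd H R R₀ V K ⁅P₀, R⁆ hyp hVH hKH (hle.trans hP₀H) hVab hVexp (hP₀p.to_le hle)
      (hle.trans hP₀K) hRK (right_le_normalizer_commutator _ _) hKp hKsol hKCV
      (by rw [eq_bot_iff, ← hVP₀]; exact inf_le_inf_left _ hle)
      (by rw [eq_bot_iff, ← hR₀c]; exact Subgroup.commutator_mono hle le_rfl)
      (H1.Coprime.commutator_commutator_eq R P₀ hRP₀ hRcop (Or.inr inferInstance))
      (hfaith _ hle hP₀R)

theorem plength_main {p : ℕ} [hp : Fact p.Prime] (n : ℕ) : ∀ (G : Type u) [Group G] [Finite G]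
    (_ : Group.IsSolvable G) (_ : Odd (Nat.card G)) (H R R₀ : Subgroup G) (_ : H.Normal) (_ : H ⊔ R = ⊤)
    (_ : Hyp H R R₀) (_ : Nat.card H + Nat.card R ≤ n), PLengthLE p 1 ↥⁅H, R⁆ := by
  induction n with
  | zero =>
    intro G _ _ _ _ H R R₀ _ _ _ hle
    have := Nat.card_pos (α := H)
    omega
  | succ n ih =>
    intro G _ _ hsol hodd H R R₀ hHn hHR hyp hle
    have gen : ∀ (H₁ R₁ : Subgroup G), Hyp H₁ R₁ R₀ → Nat.card H₁ + Nat.card R₁ ≤ n →
        PLengthLE p 1 ↥⁅H₁, R₁⁆ := by
      intro H₁ R₁ hyp₁ hle₁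
      set N := H₁ ⊔ R₁ with hN
      have hHN : H₁ ≤ N := le_sup_left
      have hRN : R₁ ≤ N := le_sup_right
      have hn : (H₁.subgroupOf N).Normal :=
        H12.Core.normal_subgroupOf_of_le (sup_le le_normalizer hyp₁.norm)
      have h1 := ih N inferInstance (Odd.of_dvd_nat hodd (Subgroup.card_subgroup_dvd_card N))
        (H₁.subgroupOf N) (R₁.subgroupOf N) (R₀.subgroupOf N) hn (by
          rw [eq_top_iff]
          intro x _
          have hx : (x : G) ∈ H₁ ⊔ R₁ := x.2
          obtain ⟨a, ha, b, hb, hab⟩ := (mem_sup_of_le_normalizer hyp₁.norm).mp hx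
          have e : x = (⟨a, hHN ha⟩ : N) * ⟨b, hRN hb⟩ := Subtype.ext hab.symm
          rw [e]
          exact mul_mem ((le_sup_left : H₁.subgroupOf N ≤ _) (Subgroup.mem_subgroupOf.mpr ha))
            ((le_sup_right : R₁.subgroupOf N ≤ _) (Subgroup.mem_subgroupOf.mpr hb)))
        (hyp₁.sub hHN hRN) (by rw [card_subgroupOf_eq hHN, card_subgroupOf_eq hRN]; exact hle₁)
      have h2 : (⁅H₁.subgroupOf N, R₁.subgroupOf N⁆).map N.subtype = ⁅H₁, R₁⁆ := by
        rw [Subgroup.map_commutator, map_subtype_subgroupOf hHN, map_subtype_subgroupOf hRN]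
      refine plength_congr h2 ?_
      exact plengthLE_of_mulEquiv (Subgroup.equivMapOfInjective _ N.subtype N.subtype_injective) h1
    have hcopR : (Nat.card R).Coprime (Nat.card H) := hyp.cop.symm
    have hsolH : Group.IsSolvable H := inferInstance
    by_cases hH : ⁅H, R⁆ = H
    · refine plength_congr hH.symm ?_
      refine main_step hsol hodd H R R₀ hHR hyp hH ?_ ?_
      · intro X hXn hXH hX1 hXn'
        have hlt : Nat.card (H.map (QuotientGroup.mk' X)) < Nat.card H := by
          have h1 := H11.Cores.card_eq_card_ker_inf_mul_card_map (QuotientGroup.mk' X) H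
          rw [QuotientGroup.ker_mk', inf_eq_left.mpr hXH] at h1
          have h2 : 1 < Nat.card X := by
            rw [Subgroup.one_lt_card_iff_ne_bot]; exact hX1
          have h3 : 0 < Nat.card (H.map (QuotientGroup.mk' X)) := Nat.card_pos
          rw [h1]
          nlinarith
        have hle' : Nat.card (R.map (QuotientGroup.mk' X)) ≤ Nat.card R :=
          Nat.le_of_dvd Nat.card_pos (Subgroup.card_map_dvd _ _)
        have h1 := ih (G ⧸ X) inferInstance (Odd.of_dvd_nat hodd (Subgroup.card_quotient_dvd_card X))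
          (H.map (QuotientGroup.mk' X)) (R.map (QuotientGroup.mk' X)) (R₀.map (QuotientGroup.mk' X))
          (hHn.map _ (QuotientGroup.mk'_surjective X))
          (by rw [← Subgroup.map_sup, hHR, ← MonoidHom.range_eq_map,
            MonoidHom.range_eq_top.mpr (QuotientGroup.mk'_surjective X)])
          (hyp.quot hXH hsolH) (by omega)
        rw [← Subgroup.map_commutator, hH] at h1
        have hker : ((QuotientGroup.mk' X).subgroupMap H).ker = X.subgroupOf H := by
          ext x
          rw [MonoidHom.mem_ker, Subgroup.mem_subgroupOf, ← QuotientGroup.eq_one_iff]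
          constructor
          · intro h; exact congrArg Subtype.val h
          · intro h; exact Subtype.ext h
        have e1 := QuotientGroup.quotientKerEquivOfSurjective ((QuotientGroup.mk' X).subgroupMap H)
          ((QuotientGroup.mk' X).subgroupMap_surjective H)
        have e2 := QuotientGroup.quotientMulEquivOfEq hker
        exact plengthLE_of_mulEquiv (e1.symm.trans e2) h1
      · intro hne
        have hlt : R₀ < R := lt_of_le_of_ne hyp.le hne
        have := card_lt_of_lt hlt
        exact gen H R₀ (hyp.mono le_rfl hyp.le le_rfl (hyp.le.trans hyp.norm)) (by omega)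
    · have hle' : ⁅H, R⁆ ≤ H := commutator_le_left hyp.norm
      have hlt : ⁅H, R⁆ < H := lt_of_le_of_ne hle' hH
      have h1 := card_lt_of_lt hlt
      have h2 := gen ⁅H, R⁆ R (hyp.mono hle' le_rfl hyp.le (right_le_normalizer_commutator H R)) (by omega)
      exact plength_congr (H1.Coprime.commutator_commutator_eq R H hyp.norm hcopR (Or.inr hsolH)) h2

/-- **BG Theorem 3.6.** -/
theorem thm36 {G : Type u} [Group G] [Finite G] (hsol : Group.IsSolvable G) (hodd : Odd (Nat.card G))
    {H R R₀ : Subgroup G} (hyp : Hyp H R R₀) (p : ℕ) [hp : Fact p.Prime] : PLengthLE p 1 ↥⁅H, R⁆ := by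
  set N := H ⊔ R with hN
  have hHN : H ≤ N := le_sup_left
  have hRN : R ≤ N := le_sup_right
  have hn : (H.subgroupOf N).Normal :=
    H12.Core.normal_subgroupOf_of_le (sup_le le_normalizer hyp.norm)
  have h1 := plength_main (p := p) _ N inferInstance (Odd.of_dvd_nat hodd (Subgroup.card_subgroup_dvd_card N))
    (H.subgroupOf N) (R.subgroupOf N) (R₀.subgroupOf N) hn (by
      rw [eq_top_iff]
      intro x _
      have hx : (x : G) ∈ H ⊔ R := x.2
      obtain ⟨a, ha, b, hb, hab⟩ := (mem_sup_of_le_normalizer hyp.norm).mp hx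
      have e : x = (⟨a, hHN ha⟩ : N) * ⟨b, hRN hb⟩ := Subtype.ext hab.symm
      rw [e]
      exact mul_mem ((le_sup_left : H.subgroupOf N ≤ _) (Subgroup.mem_subgroupOf.mpr ha))
        ((le_sup_right : R.subgroupOf N ≤ _) (Subgroup.mem_subgroupOf.mpr hb)))
    (hyp.sub hHN hRN) le_rfl
  have h2 : (⁅H.subgroupOf N, R.subgroupOf N⁆).map N.subtype = ⁅H, R⁆ := by
    rw [Subgroup.map_commutator, map_subtype_subgroupOf hHN, map_subtype_subgroupOf hRN]
  refine plength_congr h2 ?_
  exact plengthLE_of_mulEquiv (Subgroup.equivMapOfInjective _ N.subtype N.subtype_injective) h1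

end Cfsg.Agent.H12.P36
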