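import Mathlib
import Cfsg.Agent.H12_BG10c
import Cfsg.Agent.H12_P36g
import Cfsg.Agent.H12_Hall
import Cfsg.Agent.H22_PSolv2

/-! BG 10.6 (a) -/

set_option autoImplicit false
set_option linter.unusedSectionVars false

open Pointwise
open scoped commutatorElement

namespace Cfsg.Agent.H12.BG10

open Cfsg Subgroup H13.Syl H12.Loc H12.Trans H12.BG7 H12.Puig H12.BG9

universe u

variable {G : Type u} [Group G] [Finite G]

/-- If all Sylow subgroups of `M` lie in `K` then `M ≤ K`. -/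
theorem le_of_sylow {M K : Subgroup G} 
    (h : ∀ p : ℕ, p.Prime → p ∣ Nat.card M → ∀ P : Subgroup G, IsSylIn p P M → P ≤ K) : M ≤ K := by
  have h1 : (K ⊓ M).relIndex M = 1 := by
    by_contra hne
    obtain ⟨q, hq, hd⟩ := Nat.exists_prime_and_dvd hne
    have : Fact q.Prime := ⟨hq⟩
    have hqM : q ∣ Nat.card M := by
      rw [← Hall.relIndex_mul (inf_le_right : K ⊓ M ≤ M)]
      exact hd.mul_right _
    obtain ⟨P, hP⟩ := exists_isSylIn (p := q) M
    have h2 := h q hq hqM P hP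
    exact hP.not_dvd (hd.trans (Subgroup.relIndex_dvd_of_le_left _ (le_inf h2 hP.1)))
  exact (Subgroup.relIndex_eq_one.1 h1).trans inf_le_left

theorem not_le_commutator (hG : IsMinSimpleOddOrder G) {M : Subgroup G} (hM : M ≠ ⊤) (hMb : M ≠ ⊥) : ¬ M ≤ ⁅M, M⁆ := by
  intro h
  have hs : Group.IsSolvable M := solvable_of_ne_top hG hM
  have h1 : commutator M = ⊤ := by
    rw [eq_top_iff]
    intro x _
    have h2 : (x : G) ∈ (commutator M).map M.subtype := by
      rw [map_commutator_subtype]; exact h x.2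
    obtain ⟨y, hy, hyx⟩ := h2
    have h3 : y = x := Subtype.ext hyx
    rw [← h3]; exact hy
  have : Nontrivial M := (nontrivial_iff_ne_bot M).2 hMb
  exact (Group.IsSolvable.commutator_lt_top_of_nontrivial (G := M)).ne h1

theorem exists_not_sigma (hG : IsMinSimpleOddOrder G) {M : Subgroup G} (hM : IsCoatom M) :
    ∃ q : ℕ, q.Prime ∧ q ∣ Nat.card M ∧ q ∉ sigma M := by
  by_contra hne
  push Not at hne
  apply not_le_commutator hG hM.1 (ne_bot_of_isCoatom hG hM)
  apply le_of_sylow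
  intro p hp hd P hP
  exact sylow_le_commutator hG hM (hne p hp hd) hP

theorem alphaCore_le (M : Subgroup G) : alphaCore M ≤ M := Core.piCoreOf_le _ M
theorem sigmaCore_le (M : Subgroup G) : sigmaCore M ≤ M := Core.piCoreOf_le _ M
theorem le_normalizer_alphaCore (M : Subgroup G) : M ≤ normalizer (alphaCore M : Set G) := Core.le_normalizer_piCoreOf _ M
theorem le_normalizer_sigmaCore (M : Subgroup G) : M ≤ normalizer (sigmaCore M : Set G) := Core.le_normalizer_piCoreOf _ M

theorem sigmaCore_le_commutator (hG : IsMinSimpleOddOrder G) {M : Subgroup G} (hM : IsCoatom M) : sigmaCore M ≤ ⁅M, M⁆ := by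
  apply le_of_sylow
  intro p hp hd P hP
  have : Fact p.Prime := ⟨hp⟩
  have hps : p ∈ sigma M := (sigmaCore_hallOf hG hM).2.1 p hp hd
  exact sylow_le_commutator hG hM hps (Hall.sylow_trans (sigmaCore_hallOf hG hM) hps hP)

theorem sigmaCore_ne (hG : IsMinSimpleOddOrder G) {M : Subgroup G} (hM : IsCoatom M) : sigmaCore M ≠ M := by
  intro h
  have h1 := sigmaCore_le_commutator hG hM
  rw [h] at h1
  exact not_le_commutator hG hM.1 (ne_bot_of_isCoatom hG hM) h1

/-- **BG Theorem 3.6** with solvability of `H R` only. -/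
theorem thm36' {X : Type u} [Group X] [Finite X] {H R R₀ : Subgroup X} (hsol : Group.IsSolvable ↥(H ⊔ R)) (hodd : Odd (Nat.card X))
    (hyp : P36.Hyp H R R₀) (p : ℕ) [hp : Fact p.Prime] : PLengthLE p 1 ↥⁅H, R⁆ := by
  set N := H ⊔ R with hN
  have hHN : H ≤ N := le_sup_left
  have hRN : R ≤ N := le_sup_right
  have h1 := P36.thm36 (p := p) hsol (Odd.of_dvd_nat hodd (Subgroup.card_subgroup_dvd_card N)) (hyp.sub hHN hRN)
  have h2 : (⁅H.subgroupOf N, R.subgroupOf N⁆).map N.subtype = ⁅H, R⁆ := by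
    rw [Subgroup.map_commutator, H22.Basic.map_subtype_subgroupOf hHN, H22.Basic.map_subtype_subgroupOf hRN]
  refine P36.plength_congr h2 ?_
  exact H22.PSolv.plengthLE_of_mulEquiv (Subgroup.equivMapOfInjective _ N.subtype N.subtype_injective) h1

/-- `H = H' D` with `D` normal in the solvable group `H` implies `H = D`. -/
theorem le_of_le_commutator_sup {H D : Subgroup G} (hs : Group.IsSolvable H) (hDH : D ≤ H) (hn : H ≤ normalizer (D : Set G))
    (h : H ≤ ⁅H, H⁆ ⊔ D) : H ≤ D := by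
  have hDn : (D.subgroupOf H).Normal := Core.normal_subgroupOf_of_le hn
  have h1 : commutator (H ⧸ D.subgroupOf H) = ⊤ := by
    rw [eq_top_iff]
    rintro x -
    obtain ⟨y, rfl⟩ := QuotientGroup.mk'_surjective (D.subgroupOf H) x
    rw [← map_commutator_quot]
    have h2 := h y.2
    rw [sup_comm, H22.Basic.mem_sup_of_le_normalizer' ((Subgroup.commutator_le_self H).trans hn)] at h2
    obtain ⟨c, hc, d, hd, hcd⟩ := h2
    rw [← map_commutator_subtype] at hc
    obtain ⟨c', hc', rfl⟩ := hc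
    refine ⟨c', hc', ?_⟩
    rw [QuotientGroup.mk'_eq_mk']
    refine ⟨⟨d, hDH hd⟩, Subgroup.mem_subgroupOf.2 hd, ?_⟩
    exact Subtype.ext hcd
  have h2 : Subsingleton (H ⧸ D.subgroupOf H) := by
    by_contra hne
    rw [not_subsingleton_iff_nontrivial] at hne
    have hs' : Group.IsSolvable (H ⧸ D.subgroupOf H) := Group.isSolvable_of_surjective (QuotientGroup.mk'_surjective _)
    exact (Group.IsSolvable.commutator_lt_top_of_nontrivial (G := H ⧸ D.subgroupOf H)).ne h1
  have h3 := QuotientGroup.subgroup_eq_top_of_subsingleton _ h2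
  rw [Subgroup.subgroupOf_eq_top] at h3
  exact h3

/-- If `H ≤ L'` where `L = H K` then `[H, K] = H` (`H` solvable normal). -/
theorem commutator_eq_of_le {H K L : Subgroup G} (hs : Group.IsSolvable H) (hn : K ≤ normalizer (H : Set G)) (hL : H ⊔ K = L)
    (hinf : H ⊓ K = ⊥) (hle : H ≤ ⁅L, L⁆) : ⁅H, K⁆ = H := by
  set D := ⁅H, K⁆ with hD
  have hDH : D ≤ H := H22.Basic.commutator_le_left hn
  have h1 : H ≤ normalizer (D : Set G) := H22.Basic.left_le_normalizer_commutator H K
  have h2 : K ≤ normalizer (D : Set G) := H22.Basic.right_le_normalizer_commutator H K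
  -- `[H, H] ⊔ D ⊔ K`
  set E := ⁅H, H⁆ ⊔ D with hE
  have hEH : E ≤ H := sup_le (Subgroup.commutator_le_self H) hDH
  have hHE : H ≤ normalizer (E : Set G) := 
    H22.Basic.le_normalizer_sup (H22.Basic.le_normalizer_commutator Subgroup.le_normalizer Subgroup.le_normalizer) h1
  have hKE : K ≤ normalizer (E : Set G) := 
    H22.Basic.le_normalizer_sup (H22.Basic.le_normalizer_commutator hn hn) h2
  have hcomm : ∀ u ∈ H, ∀ v ∈ H, ⁅u, v⁆ ∈ E := fun u hu v hv =>
    (le_sup_left (a := ⁅H, H⁆) (Subgroup.commutator_mem_commutator hu hv))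
  have hcK : ∀ u ∈ H, ∀ v ∈ K, ⁅u, v⁆ ∈ E := fun u hu v hv =>
    (le_sup_right (a := ⁅H, H⁆) (Subgroup.commutator_mem_commutator hu hv))
  have hcL : ∀ u ∈ H, ∀ y ∈ L, ⁅u, y⁆ ∈ E := by
    intro u hu y hy
    rw [← hL, H22.Basic.mem_sup_of_le_normalizer hn] at hy
    obtain ⟨b, hb, l, hl, rfl⟩ := hy
    have e1 : ⁅u, b * l⁆ = ⁅u, b⁆ * (b * ⁅u, l⁆ * b⁻¹) := by simp only [commutatorElement_def]; group
    rw [e1]
    exact mul_mem (hcomm u hu b hb) ((Subgroup.mem_normalizer_iff.1 (hHE hb) _).1 (hcK u hu l hl))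
  have hEK : ∀ u ∈ H, ∀ z ∈ E ⊔ K, u * z * u⁻¹ ∈ E ⊔ K := by
    intro u hu z hz
    have e1 : u * z * u⁻¹ = ⁅u, z⁆ * z := by simp only [commutatorElement_def]; group
    rw [e1]
    refine mul_mem (le_sup_left (a := E) (hcL u hu z ?_)) hz
    rw [← hL]
    exact (sup_le_sup_right hEH K) hz
  have h3 : ⁅L, L⁆ ≤ E ⊔ K := by
    rw [Subgroup.commutator_le]
    intro x hx y hy
    have hy' := hy
    have hx' := hx
    rw [← hL, H22.Basic.mem_sup_of_le_normalizer hn] at hx' hy'
    obtain ⟨a, ha, k, hk, rfl⟩ := hx'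
    obtain ⟨b, hb, l, hl, rfl⟩ := hy'
    have e1 : ⁅a * k, b * l⁆ = (a * ⁅k, b * l⁆ * a⁻¹) * ⁅a, b * l⁆ := by
      simp only [commutatorElement_def]
      group
    have e2 : ⁅k, b * l⁆ = ⁅b, k⁆⁻¹ * (b * ⁅k, l⁆ * b⁻¹) := by
      simp only [commutatorElement_def]
      group
    rw [e1]
    refine mul_mem (hEK a ha _ ?_) (le_sup_left (a := E) (hcL a ha _ hy))
    rw [e2]
    exact mul_mem (inv_mem (le_sup_left (a := E) (hcK b hb k hk)))
      (hEK b hb _ (le_sup_right (a := E) (Subgroup.commutator_le_self K (Subgroup.commutator_mem_commutator hk hl))))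
  have h4 : H ≤ E := by
    intro x hx
    have h5 := h3 (hle hx)
    rw [H22.Basic.mem_sup_of_le_normalizer hKE] at h5
    obtain ⟨e, he, k, hk, rfl⟩ := h5
    have h6 : k ∈ H := by
      have := mul_mem (inv_mem (hEH he)) hx
      rwa [inv_mul_cancel_left] at this
    have h7 : k ∈ H ⊓ K := Subgroup.mem_inf.2 ⟨h6, hk⟩
    rw [hinf, Subgroup.mem_bot] at h7
    rw [h7, mul_one]; exact he
  exact le_antisymm hDH (le_of_le_commutator_sup hs hDH h1 h4)

theorem plengthLE_of_pPrimePCore {X : Type u} [Group X] [Finite X] {p : ℕ} [hp : Fact p.Prime] (h : ((pPrimePCore p X).index).Coprime p) :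
    PLengthLE p 1 X := by
  have hn : (pPrimePCore p X).Normal := by
    unfold pPrimePCore
    infer_instance
  have hn' : (pPrimeCore p X).Normal := H1.Nilp.pPrimeCore_normal p
  refine H22.PSolv.plengthLE_one_of (pPrimeCore p X) (pPrimePCore p X) ?_ (H1.Nilp.pPrimeCore_coprime p) ?_ h
  · exact H1.Hall.le_comap_mk _ _
  · have h1 : (pPrimePCore p X) = (pCore p (X ⧸ pPrimeCore p X)).comap (QuotientGroup.mk' (pPrimeCore p X)) := rfl
    rw [h1, H1.Hall.relIndex_comap_mk]
    exact IsPGroup.iff_card.mp (H1.Nilp.pCore_isPGroup p)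

/-- BG Theorem 10.6(a) for maximal subgroups. -/
theorem plength_max (hG : IsMinSimpleOddOrder G) {M : Subgroup G} (hM : IsCoatom M) (p : ℕ) [hp : Fact p.Prime] :
    PLengthLE p 1 M := by
  have hMs : Group.IsSolvable M := solvable_of_ne_top hG hM.1
  by_cases hpM : p ∣ Nat.card M
  swap
  · refine H22.PSolv.plengthLE_mono (Nat.zero_le 1) (H22.PSolv.plengthLE_zero_iff.2 ?_)
    exact ((Nat.Prime.coprime_iff_not_dvd hp.out).2 hpM).symm
  by_cases hr : PRankLE p 2 M
  · exact plengthLE_of_pPrimePCore (Rank2.thm418 (odd_card_subgroup hG M) hpM hr).2.2.2.2.2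
  · have hpa : p ∈ alpha M := ⟨hp.out, hr⟩
    obtain ⟨q, hq, hqM, hqs⟩ := exists_not_sigma hG hM
    have : Fact q.Prime := ⟨hq⟩
    set A := alphaCore M with hA
    have hAM : A ≤ M := alphaCore_le M
    have hMA : M ≤ normalizer (A : Set G) := le_normalizer_alphaCore M
    have hAh := alphaCore_hallOf hG hM
    have hqa : q ∉ alpha M := fun h => hqs (alpha_subset_sigma hG hM h)
    obtain ⟨Q, hQ⟩ := exists_isSylIn (p := q) M
    obtain ⟨x, hxQ, -, hxo, hxr, -⟩ := thm104 hG hM hqM hqs hQ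
    have hxM : zpowers x ≤ M := by
      rw [zpowers_le]; exact hQ.1 hxQ
    have hxpi : Core.PiNum (alpha M)ᶜ (Nat.card (zpowers x)) := by
      rw [Nat.card_zpowers, hxo]
      intro r hr hrq
      rw [Nat.prime_dvd_prime_iff_eq hr hq] at hrq
      rw [hrq]; exact hqa
    obtain ⟨K, hxK, hK⟩ := Hall.exists_hall_ge hMs hxpi hxM
    have hsup := Hall.sup_eq hAh hK hMA
    have hinf : A ⊓ K = ⊥ := Hall.inf_eq_bot (Hall.pi hAh) (Hall.pi hK)
    have hKA : K ≤ normalizer (A : Set G) := hK.1.trans hMA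
    have hAs : Group.IsSolvable A := BG1.isSolvable_of_le hAM hMs
    have h1 : ⁅A, K⁆ = A := commutator_eq_of_le hAs hKA (by rw [sup_comm]; exact hsup) hinf
      ((alphaCore_le_sigmaCore hG hM).trans (sigmaCore_le_commutator hG hM))
    have hLs : Group.IsSolvable ↥(A ⊔ K) := BG1.isSolvable_of_le (sup_le hAM hK.1) hMs
    have hodd : Odd (Nat.card G) := by
      have := odd_card_subgroup hG (⊤ : Subgroup G)
      rwa [Subgroup.card_top] at this
    have h2 : PLengthLE p 1 ↥⁅A, K⁆ := by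
      refine thm36' hLs hodd (R₀ := zpowers x) ⟨hKA, (Hall.pi hAh).coprime (Hall.pi hK), hxK, ?_, ?_⟩ p
      · rw [Nat.card_zpowers, hxo]; exact hq
      · refine isZGroup_of_rankLE_one hG ?_
        have e : centralizer (zpowers x : Set G) = centralizer ({x} : Set G) := H12.CN.centralizer_zpowers_eq x
        rw [e]; exact hxr
    rw [h1] at h2
    have hAn : (A.subgroupOf M).Normal := Core.normal_subgroupOf_of_le hMA
    have h3 : PLengthLE p 1 ↥(A.subgroupOf M) := 
      H22.PSolv.plengthLE_of_mulEquiv (Subgroup.subgroupOfEquivOfLe hAM).symm h2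
    have h4 : PLengthLE p 0 (M ⧸ A.subgroupOf M) := by
      rw [H22.PSolv.plengthLE_zero_iff, ← Subgroup.index_eq_card]
      exact ((Nat.Prime.coprime_iff_not_dvd hp.out).2 (hAh.2.2 p hp.out hpa)).symm
    exact H22.PSolv.plengthLE_add (A.subgroupOf M) h3 h4

/-- BG Theorem 10.6(a). -/
theorem plength_proper (hG : IsMinSimpleOddOrder G) {H : Subgroup G} (hH : H ≠ ⊤) (p : ℕ) [hp : Fact p.Prime] :
    PLengthLE p 1 H := by
  obtain ⟨M, hM, hHM⟩ := exists_isCoatom_ge hH
  have h1 := H22.PSolv.plengthLE_subgroup (H.subgroupOf M) (plength_max hG hM p)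
  exact H22.PSolv.plengthLE_of_mulEquiv (Subgroup.subgroupOfEquivOfLe hHM) h1

end Cfsg.Agent.H12.BG10
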