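import Mathlib
import Cfsg.Agent.H12_BG10d
import Cfsg.Agent.H12_BG6

/-! BG 10.7 -/

set_option autoImplicit false
set_option linter.unusedSectionVars false

open Pointwise
open scoped commutatorElement

namespace Cfsg.Agent.H12.BG10

open Cfsg Subgroup H13.Syl H12.Loc H12.Trans H12.BG7 H12.Puig H12.BG9

universe u

variable {G : Type u} [Group G] [Finite G]

/-- Fusion in a subgroup `X` of `p`-length one, internal form. -/
theorem fusion_plength {X P : Subgroup G} {p : ℕ} [hp : Fact p.Prime] (hpl : PLengthLE p 1 X) (hP : IsSylIn p P X) :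
    (P ≤ ⁅X, X⁆ → P ≤ ⁅X ⊓ normalizer (P : Set G), X ⊓ normalizer (P : Set G)⁆) ∧
      (∀ (Y : Set G) (x : G), Y ⊆ (P : Set G) → x ∈ X → (∀ y ∈ Y, x * y * x⁻¹ ∈ P) →
        ∃ g ∈ X ⊓ normalizer (P : Set G), ∃ c ∈ X ⊓ centralizer Y, g * c = x) := by
  obtain ⟨S, hS⟩ := hP.exists_sylow
  obtain ⟨h1, h2, -⟩ := BG6.plength_one_fusion hpl S
  have hN : (normalizer ((S : Subgroup X) : Set X)).map X.subtype = X ⊓ normalizer (P : Set G) := by
    rw [hS]
    ext g
    constructor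
    · rintro ⟨g', hg', rfl⟩
      refine Subgroup.mem_inf.2 ⟨g'.2, ?_⟩
      rw [Subgroup.mem_normalizer_iff]
      have hg'' := Subgroup.mem_normalizer_iff.1 hg'
      intro y
      constructor
      · intro hy
        have := (hg'' ⟨y, hP.1 hy⟩).1 (Subgroup.mem_subgroupOf.2 hy)
        rw [Subgroup.mem_subgroupOf] at this
        exact this
      · intro hy
        have hyX : y ∈ X := by
          have h3 := X.mul_mem (X.mul_mem (X.inv_mem g'.2) (hP.1 hy)) g'.2
          have e : (g' : G)⁻¹ * ((X.subtype g') * y * (X.subtype g')⁻¹) * g' = y := by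
            simp only [Subgroup.coe_subtype]; group
          rwa [e] at h3
        have := (hg'' ⟨y, hyX⟩).2 (by rw [Subgroup.mem_subgroupOf]; exact hy)
        rwa [Subgroup.mem_subgroupOf] at this
    · intro hg
      refine ⟨⟨g, (Subgroup.mem_inf.1 hg).1⟩, ?_, rfl⟩
      show (⟨g, (Subgroup.mem_inf.1 hg).1⟩ : X) ∈ normalizer ((P.subgroupOf X : Subgroup X) : Set X)
      rw [Subgroup.mem_normalizer_iff]
      intro y
      rw [Subgroup.mem_subgroupOf, Subgroup.mem_subgroupOf]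
      exact Subgroup.mem_normalizer_iff.1 (Subgroup.mem_inf.1 hg).2 y
  constructor
  · intro hle
    have h3 : (S : Subgroup X) ≤ commutator X := by
      rw [hS]
      intro x hx
      have h4 : (x : G) ∈ (commutator X).map X.subtype := by
        rw [map_commutator_subtype]; exact hle (Subgroup.mem_subgroupOf.1 hx)
      obtain ⟨y, hy, hyx⟩ := h4
      have h5 : y = x := Subtype.ext hyx
      rw [← h5]; exact hy
    have h4 := Subgroup.map_mono (f := X.subtype) (h1 h3)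
    rw [Subgroup.map_commutator, hN, hS, H22.Basic.map_subtype_subgroupOf hP.1] at h4
    exact h4
  · intro Y x hY hx hxY
    obtain ⟨g, hg, c, hc, hgc⟩ := h2 (X.subtype ⁻¹' Y) ⟨x, hx⟩ (by
        intro y hy
        rw [hS]
        exact Subgroup.mem_subgroupOf.2 (hY hy)) (by
        rintro _ ⟨y, hy, rfl⟩
        rw [hS]
        exact Subgroup.mem_subgroupOf.2 (hxY _ hy))
    refine ⟨g, ?_, c, Subgroup.mem_inf.2 ⟨c.2, ?_⟩, congrArg Subtype.val hgc⟩
    · rw [← hN]; exact ⟨g, hg, rfl⟩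
    · rw [Subgroup.mem_centralizer_iff]
      intro y hy
      have := Subgroup.mem_centralizer_iff.1 hc ⟨y, hP.1 (hY hy)⟩ hy
      exact congrArg Subtype.val this

/-- A nontrivial Sylow subgroup of `G` determines `σ`-membership for any maximal subgroup containing its normalizer -/
theorem exists_max_normalizer (hG : IsMinSimpleOddOrder G) {p : ℕ} [hp : Fact p.Prime] {P : Subgroup G} (hP : IsSylIn p P ⊤) (hPb : P ≠ ⊥) :
    ∃ M : Subgroup G, IsCoatom M ∧ normalizer (P : Set G) ≤ M ∧ IsSylIn p P M ∧ p ∈ sigma M := by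
  obtain ⟨M, hM, hNM⟩ := exists_isCoatom_ge (normalizer_ne_top hG hPb (ne_top_of_isPGroup hG hP.isPGroup))
  have hPM : IsSylIn p P M := hP.mono (le_normalizer.trans hNM) le_top
  refine ⟨M, hM, hNM, hPM, ?_⟩
  refine sigma_of_normalizer hp.out ?_ hPM hNM
  have h1 : p ∣ Nat.card P := by
    obtain ⟨k, hk⟩ := IsPGroup.iff_card.1 hP.isPGroup
    rw [hk]
    apply dvd_pow_self
    rintro rfl
    rw [pow_zero] at hk
    exact hPb (Subgroup.card_eq_one.1 hk)
  exact h1.trans (Subgroup.card_dvd_of_le hPM.1)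

/-- BG 10.7(a) -/
theorem sylow_le_commutator_normalizer (hG : IsMinSimpleOddOrder G) {p : ℕ} [hp : Fact p.Prime] {P : Subgroup G} (hP : IsSylIn p P ⊤) :
    P ≤ ⁅normalizer (P : Set G), normalizer (P : Set G)⁆ := by
  by_cases hPb : P = ⊥
  · intro x hx
    have : x ∈ (⊥ : Subgroup G) := by rw [← hPb]; exact hx
    rw [Subgroup.mem_bot] at this
    rw [this]; exact one_mem _
  obtain ⟨M, hM, hNM, hPM, hps⟩ := exists_max_normalizer hG hP hPb
  have h1 := (fusion_plength (plength_max hG hM p) hPM).1 (sylow_le_commutator hG hM hps hPM)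
  rwa [inf_eq_right.2 hNM] at h1

theorem thm107a (hG : IsMinSimpleOddOrder G) {p : ℕ} [hp : Fact p.Prime] {P V : Subgroup G} (hP : IsSylIn p P ⊤)
    (hV : IsComplIn P V (normalizer (P : Set G))) : P = ⁅P, V⁆ := by
  have h1 : Group.IsNilpotent P := Core.isNilpotent_of_isPGroup hP.isPGroup
  exact (commutator_eq_of_le (L := normalizer (P : Set G)) inferInstance hV.2.1 (Hall.compl_sup hV) hV.2.2.1
    (sylow_le_commutator_normalizer hG hP)).symm

/-- BG 10.7(c) -/
theorem thm107c (hG : IsMinSimpleOddOrder G) {p : ℕ} [hp : Fact p.Prime] {P Q : Subgroup G} (hP : IsSylIn p P ⊤) {x : G}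
    (hQ : Q ≤ P) (hx : cj x Q ≤ P) : ∃ y ∈ normalizer (P : Set G), cj x Q = cj y Q := by
  by_cases hQb : Q = ⊥
  · exact ⟨1, one_mem _, by rw [hQb, cj_bot, cj_bot]⟩
  have hPb : P ≠ ⊥ := fun h => hQb (le_bot_iff.1 (h ▸ hQ))
  obtain ⟨M, hM, hNM, hPM, hps⟩ := exists_max_normalizer hG hP hPb
  obtain ⟨h1, -⟩ := thm101 hG hM hps (hP.isPGroup.to_le hQ) hQb (hQ.trans hPM.1)
  obtain ⟨m, hm, c, hc, rfl⟩ := h1 x (hx.trans hPM.1)
  have hcQ : cj c Q = Q := by
    apply cj_eq_of_mem_normalizer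
    exact Subgroup.centralizer_le_normalizer _ hc
  have h2 : cj (m * c) Q = cj m Q := by rw [cj_mul, hcQ]
  rw [h2] at hx ⊢
  obtain ⟨g, hg, d, hd, rfl⟩ := (fusion_plength (plength_max hG hM p) hPM).2 (Q : Set G) m hQ hm (fun y hy => hx (conj_mem_cj hy))
  refine ⟨g, (Subgroup.mem_inf.1 hg).2, ?_⟩
  have h3 : cj d Q = Q := cj_eq_of_mem_normalizer (Subgroup.centralizer_le_normalizer _ (Subgroup.mem_inf.1 hd).2)
  rw [cj_mul, h3]

/-- BG 10.7(d) -/
theorem thm107d (hG : IsMinSimpleOddOrder G) {p : ℕ} [hp : Fact p.Prime] {P Q : Subgroup G} (hP : IsSylIn p P ⊤)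
    (hQ : Q ≤ P) : IsSylIn p (P ⊓ normalizer (Q : Set G)) (normalizer (Q : Set G)) := by
  obtain ⟨S, hS⟩ := exists_isSylIn (p := p) (normalizer (Q : Set G))
  obtain ⟨x, -, hx⟩ := hP.exists_conj_le hS.isPGroup le_top
  have hQp := hP.isPGroup.to_le hQ
  -- Q ≤ S
  have hQS : Q ≤ S := by
    have h1 : IsPGroup p ↥(S ⊔ Q) := by
      exact IsPGroup.to_sup_of_normal_right' hS.isPGroup hQp hS.1
    have h2 := hS.eq_of_le h1 (sup_le hS.1 le_normalizer) le_sup_left
    rw [← h2]; exact le_sup_right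
  obtain ⟨y, hy, hxy⟩ := thm107c hG hP hQ ((cj_mono hQS).trans hx)
  have h1 : y⁻¹ * x ∈ normalizer (Q : Set G) := by
    rw [mem_normalizer_iff_cj, cj_mul, hxy, cj_inv_cj]
  have h2 : cj (y⁻¹ * x) S ≤ P ⊓ normalizer (Q : Set G) := by
    refine le_inf ?_ ?_
    · rw [cj_mul]
      have h3 := cj_mono (g := y⁻¹) hx
      rwa [cj_eq_of_mem_normalizer (inv_mem hy)] at h3
    · have h3 := cj_mono (g := y⁻¹ * x) hS.1
      rwa [cj_eq_of_mem h1] at h3
  refine isSylIn_of_card_le hS inf_le_right (hP.isPGroup.to_le inf_le_left) ?_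
  rw [← card_cj (y⁻¹ * x) S]
  exact Nat.le_of_dvd Nat.card_pos (Subgroup.card_dvd_of_le h2)

/-- BG 10.7(e) -/
theorem thm107e (hG : IsMinSimpleOddOrder G) {p : ℕ} [hp : Fact p.Prime] {P Q R : Subgroup G} (hP : IsSylIn p P ⊤)
    (hR : IsPGroup p R) (hQP : Q ≤ P) (hQR : Q ≤ R) (hn : normalizer (P : Set G) ≤ normalizer (Q : Set G)) :
    normalizer (R : Set G) ≤ normalizer (Q : Set G) := by
  obtain ⟨x, -, hx⟩ := hP.exists_conj_le hR le_top
  have key : ∀ z : G, cj z R ≤ P → z ∈ normalizer (Q : Set G) := by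
    intro z hz
    obtain ⟨y, hy, hxy⟩ := thm107c hG hP hQP ((cj_mono hQR).trans hz)
    rw [mem_normalizer_iff_cj, hxy, ← mem_normalizer_iff_cj]
    exact hn hy
  intro g hg
  have h1 := key x hx
  have h2 := key (x * g) (by rwa [cj_mul, cj_eq_of_mem_normalizer hg])
  have := mul_mem (inv_mem h1) h2
  rwa [inv_mul_cancel_left] at this

end Cfsg.Agent.H12.BG10
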