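import Mathlib
import Cfsg.Agent.H12_BG10e
import Cfsg.Agent.H2_PFun
import Cfsg.Agent.H12_Narrow3

/-! BG 10.8 -/

set_option autoImplicit false
set_option linter.unusedSectionVars false

open Pointwise
open scoped commutatorElement

namespace Cfsg.Agent.H12.BG10

open Cfsg Subgroup H13.Syl H12.Loc H12.Trans H12.BG7 H12.Puig H12.BG9

universe u

/-- the common conclusion of 4.18 and 5.6 -/
def PStr (p : ℕ) (X : Type u) [Group X] : Prop :=
    (∀ q : ℕ, q.Prime → q ∣ (Cfsg.pPrimeCore p X).index → q ≤ p) ∧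
      ((p = 3 ∨ ∀ q : ℕ, q.Prime → q ∣ Nat.card X → p ≤ q) → Cfsg.HasNormalPComplement p X) ∧
      Cfsg.HasNormalPComplement p ↥(commutator X) ∧
      (∀ L : Subgroup ↥(commutator X), (Nat.card L).Coprime p → L ≤ Cfsg.pPrimeCore p ↥(commutator X)) ∧
      commutator X ≤ Cfsg.pPrimePCore p X ∧ ((Cfsg.pPrimePCore p X).index).Coprime p

theorem thm56_nar {X : Type u} [Group X] [Finite X] [Group.IsSolvable X] (hodd : Odd (Nat.card X)) {p : ℕ} [hpf : Fact p.Prime]
    (hpG : p ∣ Nat.card X) (S : Sylow p X) {E : Subgroup ↥(S : Subgroup X)} {x : ↥(S : Subgroup X)} (hx : Narrow.Nar p ↥(S : Subgroup X) E x)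
    (hpl : PLengthLE p 1 X) : PStr p X := by
  have hp2 : p ≠ 2 := by
    rintro rfl
    exact (Nat.not_even_iff_odd.2 hodd) (even_iff_two_dvd.2 hpG)
  obtain ⟨e⟩ := Narrow.exists_equiv_pCore hpl S
  have hnar := hx.map e
  have : Group.IsSolvable (X ⧸ pPrimeCore p X) := Group.isSolvable_of_surjective (QuotientGroup.mk'_surjective _)
  have hO := H11.Cores.pPrimeCore_quotient (G := X) p
  have hRp : IsPGroup p (pCore p (X ⧸ pPrimeCore p X)) := H1.Nilp.pCore_isPGroup p
  refine Fit.assemble hodd (Fit.commutator_isPGroup hO fun g hg => Narrow.comm_pow_of_nar hp2 hRp hnar g hg) ?_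
  intro q hq hqd
  by_cases hqp : q = p
  · exact hqp.le
  have : Fact q.Prime := ⟨hq⟩
  obtain ⟨x, hx⟩ := exists_prime_orderOf_dvd_card' (G := X ⧸ pPrimeCore p X) q hqd
  have h1 := Narrow.pow_of_nar hp2 hRp hnar x (by rw [hx]; exact (Nat.coprime_primes hq hpf.out).2 hqp)
  have h2 := H1.Hall.centralizer_pCore_le p hO h1
  obtain ⟨n, hn⟩ := hRp ⟨_, h2⟩
  have hn' : (x ^ (p - 1)) ^ (p ^ n) = 1 := congrArg Subtype.val hn
  rw [← pow_mul] at hn'
  have h3 := orderOf_dvd_of_pow_eq_one hn'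
  rw [hx] at h3
  rcases (Nat.Prime.dvd_mul hq).1 h3 with h4 | h4
  · have := Nat.le_of_dvd (by have := hpf.out.two_le; omega) h4
    omega
  · exact absurd ((Nat.prime_dvd_prime_iff_eq hq hpf.out).1 (hq.dvd_of_dvd_pow h4)) hqp

/-- Groups in which every prime outside `π` admits a normal complement. -/
theorem piCore_of_npc {X : Type u} [Group X] [Finite X] {π : Set ℕ} 
    (h : ∀ p : ℕ, p.Prime → p ∉ π → ∃ k, (pPrimeCore p X).index = p ^ k) :
    ∀ q : ℕ, q.Prime → q ∈ π → ¬ q ∣ (piCore π X).index := by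
  intro q hq hqpi hd
  have : Fact q.Prime := ⟨hq⟩
  set K : Subgroup X := ⨅ p ∈ {p : ℕ | p.Prime ∧ p ∉ π}, pPrimeCore p X with hK
  have hKn : K.Normal := by
    have : ∀ p, (pPrimeCore p X).Normal := fun p => H1.Nilp.pPrimeCore_normal p
    rw [hK]
    exact Subgroup.normal_iInf_normal fun p => Subgroup.normal_iInf_normal fun _ => this p
  have hKpi : Core.PiNum π (Nat.card K) := by
    intro r hr hrd
    by_contra hrn
    have h1 : K ≤ pPrimeCore r X := by
      rw [hK]
      exact iInf₂_le r ⟨hr, hrn⟩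
    have h2 := (H1.Nilp.pPrimeCore_coprime (G := X) r)
    exact Nat.Prime.not_coprime_iff_dvd.2 ⟨r, hr, hrd.trans (Subgroup.card_dvd_of_le h1), dvd_rfl⟩ h2
  have hKle := Core.le_piCore hKn hKpi
  obtain ⟨Q, hQ⟩ := exists_isSylIn (p := q) (⊤ : Subgroup X)
  have h1 : Q ≤ K := by
    rw [hK]
    refine le_iInf₂ ?_
    intro p hp
    have hn : (pPrimeCore p X).Normal := H1.Nilp.pPrimeCore_normal p
    obtain ⟨k, hk⟩ := h p hp.1 hp.2
    apply H1.HC.le_of_coprime_index
    rw [hk]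
    obtain ⟨m, hm⟩ := IsPGroup.iff_card.1 hQ.isPGroup
    rw [hm]
    apply Nat.Coprime.pow
    rw [Nat.coprime_primes hq hp.1]
    rintro rfl
    exact hp.2 hqpi
  have h2 := hQ.not_dvd
  rw [Subgroup.relIndex_top_right] at h2
  exact h2 (hd.trans (Subgroup.index_dvd_of_le (h1.trans hKle)))

theorem index_of_npc {X : Type u} [Group X] [Finite X] {p : ℕ} [hp : Fact p.Prime] (h : HasNormalPComplement p X) :
    ∃ k, (pPrimeCore p X).index = p ^ k := by
  obtain ⟨P, N, hN, hc⟩ := h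
  obtain ⟨k, hk⟩ := IsPGroup.iff_card.1 P.isPGroup'
  have h1 : N.index = p ^ k := by
    rw [← hk]; exact hc.symm.index_eq_card
  have h2 : (Nat.card N).Coprime p := by
    rw [Nat.coprime_comm, Nat.Prime.coprime_iff_not_dvd hp.out]
    intro hd
    have h3 := P.not_dvd_index
    rw [hc.index_eq_card] at h3
    exact h3 hd
  have h3 := H1.Nilp.le_pPrimeCore hN h2
  have h4 := Subgroup.index_dvd_of_le h3
  rw [h1] at h4
  obtain ⟨m, -, hm⟩ := (Nat.dvd_prime_pow hp.out).1 h4
  exact ⟨m, hm⟩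

theorem nilpotent_of_npc {X : Type u} [Group X] [Finite X] (h : ∀ p : ℕ, p.Prime → ∃ k, (pPrimeCore p X).index = p ^ k) :
    Group.IsNilpotent X := by
  have h1 : fittingSubgroup X = ⊤ := by
    apply H1.Nilp.eq_top_of_sylow_le
    intro p hp
    refine ⟨default, ?_⟩
    have hP := isSylIn_sylow_top (default : Sylow p X)
    refine le_trans ?_ (H1.Nilp.pCore_le_fitting p)
    have h2 := piCore_of_npc (X := X) (π := {p}) (fun q hq _ => h q hq) p hp.out rfl
    rw [Core.piCore_singleton hp.out] at h2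
    have hn : (pCore p X).Normal := H1.Nilp.pCore_normal p
    apply H1.HC.le_of_coprime_index
    obtain ⟨m, hm⟩ := IsPGroup.iff_card.1 hP.isPGroup
    rw [hm]
    exact ((Nat.Prime.coprime_iff_not_dvd hp.out).2 h2).pow_left m
  have h2 := H1.Nilp.fitting_nilpotent (G := X)
  rw [h1] at h2
  exact Group.nilpotent_of_surjective (Subgroup.topEquiv (G := X)).toMonoidHom (Subgroup.topEquiv (G := X)).surjective

variable {G : Type u} [Group G] [Finite G]

theorem npc_sub {p : ℕ} [hp : Fact p.Prime] {X Y : Subgroup G} (h : Y ≤ X) (hX : HasNormalPComplement p X) : HasNormalPComplement p Y :=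
  H2.PFun.npc_of_map (MonoidHom.id G) (by rwa [Subgroup.map_id]) hX

/-- BG 10.8 (c) in type form. -/
theorem pstr_max (hG : IsMinSimpleOddOrder G) {M : Subgroup G} (hM : IsCoatom M) {p : ℕ} [hp : Fact p.Prime] (hpM : p ∣ Nat.card M)
    (hpb : p ∉ beta M) : PStr p M := by
  have hMs : Group.IsSolvable M := solvable_of_ne_top hG hM.1
  have hodd := odd_card_subgroup hG M
  by_cases hr : PRankLE p 2 M
  · exact H12.Rank2.thm418 hodd hpM hr
  have hpa : p ∈ alpha M := ⟨hp.out, hr⟩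
  have hps := alpha_subset_sigma hG hM hpa
  obtain ⟨-, -, P₀, hP₀, hP₀', -⟩ := sigma_spec hps
  have hrG : ¬ PRankLE p 2 G := by
    intro h; exact hr (SCN.pRankLE_of_top h)
  have hni : ¬ IsIdealPrime p G := fun h => hpb ⟨hpa, h⟩
  unfold IsIdealPrime at hni
  push Not at hni
  obtain ⟨P, A, hAP, hAe, hAc, hmax⟩ := hni hp.out hrG
  have hP : IsSylIn p (P : Subgroup G) ⊤ := isSylIn_sylow_top P
  -- Nar for P
  have hAe' : IsElementaryAbelian p (A.subgroupOf (P : Subgroup G)) := by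
    constructor
    · have := hAe.1
      refine ⟨⟨fun a b => Subtype.ext (Subtype.ext ?_)⟩⟩
      have h1 : ((a : (P : Subgroup G)) : G) * ((b : (P : Subgroup G)) : G) = ((b : (P : Subgroup G)) : G) * ((a : (P : Subgroup G)) : G) :=
        congrArg Subtype.val (hAe.1.is_comm.comm (⟨a, Subgroup.mem_subgroupOf.1 a.2⟩ : A) ⟨b, Subgroup.mem_subgroupOf.1 b.2⟩)
      exact h1
    · intro a ha
      exact Subtype.ext (hAe.2 a (Subgroup.mem_subgroupOf.1 ha))
  have hrP : ¬ PRankLE p 2 (P : Subgroup G) := fun h => hrG (Narrow.pRankLE_of_sylow P h)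
  obtain ⟨x, hx⟩ := Narrow.nar_of_max P.isPGroup' hrP (A.subgroupOf (P : Subgroup G)) hAe'
    (by rw [H22.Basic.card_subgroupOf_eq hAP, hAc]) (by
      intro B hB hAB
      have h1 : A ≤ B.map (P : Subgroup G).subtype := by
        intro a ha
        exact ⟨⟨a, hAP ha⟩, hAB (Subgroup.mem_subgroupOf.2 ha), rfl⟩
      have h2 := hmax (B.map (P : Subgroup G).subtype) (Subgroup.map_subtype_le _) (by
        constructor
        · constructor
          constructor
          rintro ⟨_, a, ha, rfl⟩ ⟨_, b, hb, rfl⟩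
          have h1 : a * b = b * a := congrArg Subtype.val (hB.1.is_comm.comm (⟨a, ha⟩ : B) ⟨b, hb⟩)
          have h2 : (a : G) * (b : G) = b * a := congrArg Subtype.val h1
          exact Subtype.ext h2
        · rintro _ ⟨b, hb, rfl⟩
          exact congrArg Subtype.val (hB.2 b hb))
      have h3 : A = B.map (P : Subgroup G).subtype := by
        by_contra hne
        exact h2 (lt_of_le_of_ne h1 hne)
      rw [h3, Core.subgroupOf_map_subtype_self])
  -- transport to a Sylow subgroup of `M`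
  obtain ⟨S, hS⟩ := hP₀.exists_sylow
  obtain ⟨g, -, hg⟩ := hP₀'.exists_conj_eq hP
  have e1 : ↥(P : Subgroup G) ≃* ↥(cj g (P : Subgroup G)) := H22.Basic.cjEquiv g _
  have e2 : ↥(cj g (P : Subgroup G)) ≃* ↥P₀ := MulEquiv.subgroupCongr hg
  have e3 : ↥P₀ ≃* ↥(P₀.subgroupOf M) := (Subgroup.subgroupOfEquivOfLe hP₀.1).symm
  have e4 : ↥(P₀.subgroupOf M) ≃* ↥(S : Subgroup M) := MulEquiv.subgroupCongr hS.symm
  exact thm56_nar hodd hpM S (hx.map (e1.trans (e2.trans (e3.trans e4)))) (plength_max hG hM p)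

theorem npc_commutator (hG : IsMinSimpleOddOrder G) {M : Subgroup G} (hM : IsCoatom M) {p : ℕ} [hp : Fact p.Prime] 
    (hpb : p ∉ beta M) : HasNormalPComplement p ↥⁅M, M⁆ := by
  by_cases hpM : p ∣ Nat.card M
  · have h1 := (pstr_max hG hM hpM hpb).2.2.1
    exact H2.PFun.npc_of_map M.subtype (by rw [map_commutator_subtype]) h1
  · have h1 : ¬ p ∣ Nat.card ↥⁅M, M⁆ := fun h => hpM (h.trans (Subgroup.card_dvd_of_le (Subgroup.commutator_le_self M)))
    refine ⟨default, ⊤, inferInstance, ?_⟩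
    have h2 : ((default : Sylow p ↥⁅M, M⁆) : Subgroup ↥⁅M, M⁆) = ⊥ := by
      obtain ⟨k, hk⟩ := IsPGroup.iff_card.1 (default : Sylow p ↥⁅M, M⁆).isPGroup'
      rcases Nat.eq_zero_or_pos k with rfl | hk0
      · rw [pow_zero] at hk
        exact Subgroup.card_eq_one.1 hk
      · have h2 : p ∣ Nat.card ((default : Sylow p ↥⁅M, M⁆) : Subgroup ↥⁅M, M⁆) := by
          rw [hk]; exact dvd_pow_self p hk0.ne'
        exact absurd (h2.trans (Subgroup.card_subgroup_dvd_card _)) h1
    rw [h2]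
    exact Subgroup.isComplement'_top_bot

theorem beta_subset_alpha (M : Subgroup G) : beta M ⊆ alpha M := fun _ h => h.1

/-- normal Hall β-subgroup and nilpotent complement for a subgroup `L ≤ M'` -/
theorem hall_beta_of_le (hG : IsMinSimpleOddOrder G) {M : Subgroup G} (hM : IsCoatom M) {L : Subgroup G} (hL : L ≤ ⁅M, M⁆) :
    IsPiHallOf (beta M) (piCoreOf (beta M) L) L ∧ 
      ∀ H : Subgroup G, IsPiHallOf {q | q.Prime ∧ q ∉ beta M} H L → Group.IsNilpotent H := by
  constructor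
  · refine ⟨Core.piCoreOf_le _ _, Core.piCoreOf_piNum _ _, ?_⟩
    intro q hq hqb
    have h1 := piCore_of_npc (X := L) (π := beta M) (fun p hp hpb => by
      have : Fact p.Prime := ⟨hp⟩
      exact index_of_npc (npc_sub hL (npc_commutator hG hM hpb))) q hq hqb
    have h2 : (piCoreOf (beta M) L).relIndex L = (piCore (beta M) L).index := Core.relIndex_map_subtype_self _
    rwa [h2]
  · intro H hH
    apply nilpotent_of_npc
    intro p hp
    have : Fact p.Prime := ⟨hp⟩
    by_cases hpb : p ∈ beta M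
    · refine ⟨0, ?_⟩
      rw [pow_zero, Subgroup.index_eq_one, eq_top_iff]
      apply H1.Nilp.le_pPrimeCore inferInstance
      rw [Subgroup.card_top, Nat.coprime_comm, Nat.Prime.coprime_iff_not_dvd hp]
      intro hd
      exact (Hall.pi hH p hp hd).2 hpb
    · exact index_of_npc (npc_sub (hH.1.trans hL) (npc_commutator hG hM hpb))

theorem compl_beta_iff {π : Set ℕ} {p : ℕ} (hp : p.Prime) : (p ∈ {q : ℕ | q.Prime ∧ q ∉ π} ↔ p ∈ πᶜ) :=
  ⟨fun h => h.2, fun h => ⟨hp, h⟩⟩

theorem beta_subset_sigma (hG : IsMinSimpleOddOrder G) {M : Subgroup G} (hM : IsCoatom M) : beta M ⊆ sigma M :=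
  (beta_subset_alpha M).trans (alpha_subset_sigma hG hM)

/-- `M_β` -/
abbrev betaCore (M : Subgroup G) : Subgroup G := piCoreOf (beta M) M

theorem betaCore_eq (hG : IsMinSimpleOddOrder G) {M : Subgroup G} (hM : IsCoatom M) :
    piCoreOf (beta M) (sigmaCore M) = betaCore M ∧ IsPiHallOf (beta M) (betaCore M) M := by
  have h1 := (hall_beta_of_le hG hM (sigmaCore_le_commutator hG hM)).1
  have h2 := Hall.trans (sigmaCore_hallOf hG hM) (beta_subset_sigma hG hM) h1
  have h3 : piCoreOf (beta M) (sigmaCore M) ≤ betaCore M := Core.piCoreOf_le_piCoreOf (sigmaCore_le M) (le_normalizer_sigmaCore M)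
  have h4 := Hall.eq_of_le h2 (Core.piCoreOf_le _ _) (Core.piCoreOf_piNum _ _) h3
  refine ⟨h4.symm, ?_⟩
  show IsPiHallOf (beta M) (piCoreOf (beta M) M) M
  rw [h4]
  exact h2

theorem betaCore_le_sigmaCore (hG : IsMinSimpleOddOrder G) {M : Subgroup G} (hM : IsCoatom M) : betaCore M ≤ sigmaCore M := by
  rw [← (betaCore_eq hG hM).1]; exact Core.piCoreOf_le _ _

theorem betaCore_hall (hG : IsMinSimpleOddOrder G) {M : Subgroup G} (hM : IsCoatom M) : IsPiHall (beta M) (betaCore M) := by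
  refine ⟨(betaCore_eq hG hM).2.2.1, ?_⟩
  intro p hp hpb hd
  have hps := beta_subset_sigma hG hM hpb
  have h1 : (betaCore M).index = (betaCore M).relIndex (sigmaCore M) * (sigmaCore M).index :=
    (Subgroup.relIndex_mul_index (betaCore_le_sigmaCore hG hM)).symm
  rw [h1, hp.dvd_mul] at hd
  rcases hd with hd | hd
  · have h2 := (hall_beta_of_le hG hM (sigmaCore_le_commutator hG hM)).1
    rw [(betaCore_eq hG hM).1] at h2
    exact h2.2.2 p hp hpb hd
  · exact (sigmaCore_hall hG hM).2 p hp hps hd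

end Cfsg.Agent.H12.BG10
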