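import Mathlib
import Cfsg.Agent.H12_BG10f

/-! BG 10.9 -/

set_option autoImplicit false
set_option linter.unusedSectionVars false

open Pointwise
open scoped commutatorElement

namespace Cfsg.Agent.H12.BG10

open Cfsg Subgroup H13.Syl H12.Loc H12.Trans H12.BG7 H12.Puig H12.BG9

universe u

variable {G : Type u} [Group G] [Finite G]

/-- in a nilpotent group, elements of coprime prime-power order commute -/
theorem nilp_cent {p q : ℕ} [hp : Fact p.Prime] [hq : Fact q.Prime] (hpq : p ≠ q) {H A B : Subgroup G}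
    (hH : Group.IsNilpotent H) (hA : A ≤ H) (hB : B ≤ H) (hAp : IsPGroup p A) (hBq : IsPGroup q B) :
    A ≤ centralizer (B : Set G) := by
  have h1 : H ≤ fittingOf H := Core.le_fittingOf le_rfl le_normalizer hH
  have h2 := le_Oq_of_le_fittingOf hp.out (hA.trans h1) hAp
  have h3 := le_Oq_of_le_fittingOf hq.out (hB.trans h1) hBq
  exact (h2.trans (Oq_le_centralizer_Oq hp.out hq.out hpq H)).trans (centralizer_le h3)

/-- a Sylow subgroup of a nilpotent group is normal -/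
theorem nilp_sylow_normal {p : ℕ} [hp : Fact p.Prime] {H P : Subgroup G}
    (hH : Group.IsNilpotent H) (hP : IsSylIn p P H) : H ≤ normalizer (P : Set G) := by
  have h1 : H ≤ fittingOf H := Core.le_fittingOf le_rfl le_normalizer hH
  have h2 := le_Oq_of_le_fittingOf hp.out (hP.le.trans h1) hP.isPGroup
  have h3 : Oq p H = P := hP.eq_of_le (Oq_isPGroup hp.out H) (Oq_le p H) h2
  rw [← h3]
  exact le_normalizer_Oq p H

/-- A q-group is contained in `O_{p'}(M)` when `q` is prime to the index. -/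
theorem le_Oc_of_index {p q : ℕ} [hp : Fact p.Prime] [hq : Fact q.Prime] {M X : Subgroup G} (hX : IsPGroup q X) (hXM : X ≤ M)
    (h : ¬ q ∣ (pPrimeCore p M).index) : X ≤ Oc p M := by
  rw [Oc_eq_map hp.out]
  have h1 : (X.subgroupOf M).map (QuotientGroup.mk' (pPrimeCore p M)) = ⊥ := by
    rw [← Subgroup.card_eq_one]
    have hq1 : IsPGroup q ((X.subgroupOf M).map (QuotientGroup.mk' (pPrimeCore p M))) := by
      have : IsPGroup q (X.subgroupOf M) := by
        intro x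
        obtain ⟨k, hk⟩ := hX ⟨x.1.1, mem_subgroupOf.1 x.2⟩
        refine ⟨k, ?_⟩
        apply Subtype.ext; apply Subtype.ext
        have := congrArg Subtype.val hk
        simpa using this
      exact this.map _
    obtain ⟨n, hn⟩ := IsPGroup.iff_card.mp hq1
    rcases Nat.eq_zero_or_pos n with h0 | h0
    · rw [hn, h0, pow_zero]
    · exfalso
      apply h
      have h2 : Nat.card ((X.subgroupOf M).map (QuotientGroup.mk' (pPrimeCore p M))) ∣ Nat.card (M ⧸ pPrimeCore p M) :=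
        Subgroup.card_subgroup_dvd_card _
      rw [hn] at h2
      rw [Subgroup.index_eq_card]
      exact (dvd_pow_self q h0.ne').trans h2
  intro x hx
  have hxM := hXM hx
  refine ⟨⟨x, hxM⟩, ?_, rfl⟩
  have : (QuotientGroup.mk' (pPrimeCore p M)) ⟨x, hxM⟩ ∈ (X.subgroupOf M).map (QuotientGroup.mk' (pPrimeCore p M)) :=
    ⟨⟨x, hxM⟩, mem_subgroupOf.2 hx, rfl⟩
  rw [h1, mem_bot] at this
  exact (QuotientGroup.eq_one_iff _).1 this

/-- BG 10.9(a)(1) -/
theorem cent_sylow (hG : IsMinSimpleOddOrder G) {M : Subgroup G} (hM : IsCoatom M) {p q : ℕ} [hp : Fact p.Prime] [hq : Fact q.Prime]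
    (hpb : p ∉ beta M) (hqb : q ∉ beta M) {X : Subgroup G} (hX : IsPGroup q X) (hXM : X ≤ M)
    (h : (p ≠ q ∧ X ≤ ⁅M, M⁆) ∨ p < q) : ∃ P : Subgroup G, IsSylIn p P (sigmaCore M) ∧ X ≤ centralizer (P : Set G) := by
  have hL := hall_beta_of_le hG hM (le_refl ⁅M, M⁆)
  have hsM : Group.IsSolvable M := solvable_of_ne_top hG hM.1
  have hM'M : ⁅M, M⁆ ≤ M := commutator_le_self M
  have hsM' : Group.IsSolvable ↥⁅M, M⁆ := BG1.isSolvable_of_le hM'M hsM
  have hσ := sigmaCore_le_commutator hG hM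
  have hσn := le_normalizer_sigmaCore M
  rcases h with ⟨hpq, hXM'⟩ | hpq
  · obtain ⟨H, hXH, hH⟩ := Hall.exists_hall_ge (π := {q | q.Prime ∧ q ∉ beta M}) hsM' (X := X) (by
      obtain ⟨n, hn⟩ := IsPGroup.iff_card.mp hX
      rw [hn]
      exact Core.piNum_of_pow hq.out ⟨hq.out, hqb⟩) hXM'
    have hnil := hL.2 H hH
    obtain ⟨P₀, hP₀⟩ := exists_isSylIn (p := p) H
    have hP₀L : IsSylIn p P₀ ⁅M, M⁆ := Hall.sylow_trans hH ⟨hp.out, hpb⟩ hP₀
    refine ⟨P₀ ⊓ sigmaCore M, hP₀L.inf_of_le_normalizer hσ (hM'M.trans hσn), ?_⟩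
    exact (nilp_cent (Ne.symm hpq) hnil hXH hP₀.le hX hP₀.isPGroup).trans (centralizer_le inf_le_left)
  · have hpq' : p ≠ q := hpq.ne
    have hXN : X ≤ Oc p M := by
      by_cases hpM : p ∣ Nat.card M
      · apply le_Oc_of_index hX hXM
        intro hd
        have := (pstr_max hG hM hpM hpb).1 q hq.out hd
        omega
      · exact hXM.trans (le_Oc hp.out le_rfl le_normalizer (Nat.Coprime.symm ((Nat.Prime.coprime_iff_not_dvd hp.out).2 hpM)))
    obtain ⟨P, hP⟩ := exists_isSylIn (p := p) (sigmaCore M)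
    have hPM : P ≤ M := hP.le.trans (sigmaCore_le M)
    have hPN : P ≤ normalizer (Oc p M : Set G) := hPM.trans (le_normalizer_Oc p M)
    have hcop : (Nat.card P).Coprime (Nat.card (Oc p M)) := coprime_card_of_isPGroup hp.out hP.isPGroup (Oc_coprime hp.out M)
    obtain ⟨Q, hQn⟩ := H1.Coprime.invariant_sylow_exists P (Oc p M) hPN hcop (Or.inr (BG1.isSolvable_of_le (Oc_le p M) hsM)) q
    set Q₁ := (Q : Subgroup (Oc p M)).map (Oc p M).subtype with hQ₁
    have hQ₁s : IsSylIn q Q₁ (Oc p M) := isSylIn_map_subtype Q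
    obtain ⟨n, hn, hnX⟩ := hQ₁s.exists_conj_le hX hXN
    have hnM : n ∈ M := Oc_le p M hn
    -- P centralizes Q₁ ⊓ sigmaCore
    set Q₂ := Q₁ ⊓ sigmaCore M with hQ₂
    have hQ₁M : Q₁ ≤ M := hQ₁s.le.trans (Oc_le p M)
    have hPQ₂ : P ≤ normalizer (Q₂ : Set G) := H22.Basic.le_normalizer_inf hQn (hPM.trans hσn)
    have hQ₂q : IsPGroup q Q₂ := hQ₁s.isPGroup.to_le inf_le_left
    have hc2 : P ≤ centralizer (Q₂ : Set G) := by
      have hle : Q₂ ⊔ P ≤ ⁅M, M⁆ := sup_le (inf_le_right.trans hσ) (hP.le.trans hσ)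
      obtain ⟨H, hXH, hH⟩ := Hall.exists_hall_ge (π := {q | q.Prime ∧ q ∉ beta M}) hsM' (X := Q₂ ⊔ P) (by
        rw [sup_comm]
        apply Core.piNum_sup hPQ₂
        · obtain ⟨n, hn⟩ := IsPGroup.iff_card.mp hP.isPGroup
          rw [hn]
          exact Core.piNum_of_pow hp.out ⟨hp.out, hpb⟩
        · obtain ⟨n, hn⟩ := IsPGroup.iff_card.mp hQ₂q
          rw [hn]
          exact Core.piNum_of_pow hq.out ⟨hq.out, hqb⟩) hle
      exact nilp_cent hpq' (hL.2 H hH) (le_sup_right.trans hXH) (le_sup_left.trans hXH) hP.isPGroup hQ₂q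
    have hc1 : P ≤ centralizer (Q₁ : Set G) := by
      have h1 : ⁅Q₁, P⁆ ≤ Q₂ := by
        refine le_inf (H22.Basic.commutator_le_left hQn) ?_
        rw [commutator_comm]
        exact (H22.Basic.commutator_le_left (hQ₁M.trans hσn)).trans' (commutator_mono hP.le le_rfl)
      have h2 : ⁅⁅Q₁, P⁆, P⁆ = ⊥ := by
        rw [eq_bot_iff]
        refine (commutator_mono h1 le_rfl).trans ?_
        rw [commutator_comm, (commutator_eq_bot_iff_le_centralizer).2 hc2]
      have h3 : ⁅Q₁, P⁆ = ⊥ := by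
        rw [← H1.Coprime.commutator_commutator_eq P Q₁ hQn (by
          have := coprime_card_of_isPGroup hq.out hQ₁s.isPGroup (B := P) (by
            obtain ⟨n, hn⟩ := IsPGroup.iff_card.mp hP.isPGroup
            rw [hn]
            exact Nat.Coprime.pow_left _ ((Nat.coprime_primes hp.out hq.out).2 hpq'))
          exact this.symm) (Or.inr (BG1.isSolvable_of_le hQ₁M hsM))]
        exact h2
      rw [commutator_comm] at h3
      exact commutator_eq_bot_iff_le_centralizer.1 h3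
    have hc1' : Q₁ ≤ centralizer (P : Set G) := le_centralizer_iff.1 hc1
    refine ⟨cj n⁻¹ P, ?_, ?_⟩
    · have := hP.cj n⁻¹
      rwa [cj_eq_of_mem_normalizer (hσn (inv_mem hnM))] at this
    · rw [← cj_centralizer]
      have := hnX.trans hc1'
      exact cj_le_iff.1 this

/-- BG 10.9(a)(2) -/
theorem cent_inU (hG : IsMinSimpleOddOrder G) {M : Subgroup G} (hM : IsCoatom M) {p q : ℕ} [hp : Fact p.Prime] [hq : Fact q.Prime]
    (hpb : p ∉ beta M) (hqb : q ∉ beta M) (hpa : p ∈ alpha M) {X : Subgroup G} (hX : IsPGroup q X) (hXM : X ≤ M)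
    (h : (p ≠ q ∧ X ≤ ⁅M, M⁆) ∨ p < q) : InUniqueMaximal (M ⊓ centralizer (X : Set G)) := by
  obtain ⟨P, hP, hXP⟩ := cent_sylow hG hM hpb hqb hX hXM h
  have hPM : IsSylIn p P M := Hall.sylow_trans (sigmaCore_hallOf hG hM) (alpha_subset_sigma hG hM hpa) hP
  apply inU_of_not_pRankLE (p := p) hG (fun h => hM.1 (top_le_iff.1 (h ▸ inf_le_left)))
  intro hr
  apply hpa.2
  apply pRankLE_of_isSylIn hPM
  exact SCN.pRankLE_mono (le_inf hPM.le (le_centralizer_iff.1 hXP)) hr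

/-- A Frattini argument for 10.9. -/
theorem frattini_beta (hG : IsMinSimpleOddOrder G) {M : Subgroup G} (hM : IsCoatom M) {q : ℕ} [hq : Fact q.Prime]
    (hqb : q ∉ beta M) {X : Subgroup G} (hX : IsSylIn q X ⁅M, M⁆) : M = betaCore M ⊔ (M ⊓ normalizer (X : Set G)) := by
  have hL := hall_beta_of_le hG hM (le_refl ⁅M, M⁆)
  have hsM : Group.IsSolvable M := solvable_of_ne_top hG hM.1
  have hM'M : ⁅M, M⁆ ≤ M := commutator_le_self M
  have hsM' : Group.IsSolvable ↥⁅M, M⁆ := BG1.isSolvable_of_le hM'M hsM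
  have hM'n : M ≤ normalizer ((⁅M, M⁆ : Subgroup G) : Set G) := H22.Basic.right_le_normalizer_commutator M M
  have hβM : betaCore M ≤ M := Core.piCoreOf_le _ _
  have hβn : M ≤ normalizer (betaCore M : Set G) := Core.le_normalizer_piCoreOf _ _
  apply le_antisymm _ (sup_le hβM inf_le_left)
  intro g hg
  obtain ⟨H, hXH, hH⟩ := Hall.exists_hall_ge (π := {q | q.Prime ∧ q ∉ beta M}) hsM' (X := X) (by
      obtain ⟨n, hn⟩ := IsPGroup.iff_card.mp hX.isPGroup
      rw [hn]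
      exact Core.piNum_of_pow hq.out ⟨hq.out, hqb⟩) hX.le
  have hnil := hL.2 H hH
  have hXHs : IsSylIn q X H := hX.mono hXH (Hall.le hH)
  have hHX : H ≤ normalizer (X : Set G) := nilp_sylow_normal hnil hXHs
  have h1 : IsSylIn q (cj g X) ⁅M, M⁆ := by
    have := hX.cj g
    rwa [cj_eq_of_mem_normalizer (hM'n hg)] at this
  obtain ⟨h, hh, he⟩ := h1.exists_conj_eq hX
  -- h ∈ M' = β-core * H
  have hsup : ⁅M, M⁆ = piCoreOf (beta M) ⁅M, M⁆ ⊔ H := by
    rw [sup_comm]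
    refine (Hall.sup_eq hL.1 (Hall.congr (fun p hp => ?_) hH) (Core.le_normalizer_piCoreOf _ _)).symm
    exact compl_beta_iff hp
  have hβ' : piCoreOf (beta M) ⁅M, M⁆ ≤ betaCore M := Core.piCoreOf_le_piCoreOf hM'M hM'n
  rw [hsup] at hh
  obtain ⟨b, hb, k, hk, rfl⟩ := (H22.Basic.mem_sup_of_le_normalizer ((Hall.le hH).trans (Core.le_normalizer_piCoreOf _ _))).1 hh
  have hkX : cj k X = X := cj_eq_of_mem_normalizer (hHX hk)
  rw [cj_mul, hkX] at he
  -- cj b X = cj g X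
  have hbM : b ∈ M := hβM (hβ' hb)
  have h2 : b⁻¹ * g ∈ normalizer (X : Set G) := by
    rw [mem_normalizer_iff_cj, cj_mul, ← he, cj_inv_cj]
  have h3 : g = b * (b⁻¹ * g) := by group
  rw [h3]
  exact mul_mem ((le_sup_left : betaCore M ≤ _) (hβ' hb)) ((le_sup_right : M ⊓ normalizer (X : Set G) ≤ _) (mem_inf.2 ⟨mul_mem (inv_mem hbM) hg, h2⟩))

/-- BG 10.9(a)(3) -/
theorem sylow_comm (hG : IsMinSimpleOddOrder G) {M : Subgroup G} (hM : IsCoatom M) {p q : ℕ} [hp : Fact p.Prime] [hq : Fact q.Prime]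
    (hpb : p ∉ beta M) (hqb : q ∉ beta M) (hpq : p ≠ q) {X : Subgroup G} (hX : IsSylIn q X ⁅M, M⁆) :
    ∃ P : Subgroup G, IsSylIn p P ⁅M, M⁆ ∧ P ≤ ⁅M ⊓ normalizer (X : Set G), M ⊓ normalizer (X : Set G)⁆ := by
  have hL := hall_beta_of_le hG hM (le_refl ⁅M, M⁆)
  have hsM : Group.IsSolvable M := solvable_of_ne_top hG hM.1
  have hM'M : ⁅M, M⁆ ≤ M := commutator_le_self M
  have hsM' : Group.IsSolvable ↥⁅M, M⁆ := BG1.isSolvable_of_le hM'M hsM
  have hβn : M ≤ normalizer (betaCore M : Set G) := Core.le_normalizer_piCoreOf _ _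
  obtain ⟨H, hXH, hH⟩ := Hall.exists_hall_ge (π := {q | q.Prime ∧ q ∉ beta M}) hsM' (X := X) (by
      obtain ⟨n, hn⟩ := IsPGroup.iff_card.mp hX.isPGroup
      rw [hn]
      exact Core.piNum_of_pow hq.out ⟨hq.out, hqb⟩) hX.le
  have hnil := hL.2 H hH
  obtain ⟨P₀, hP₀⟩ := exists_isSylIn (p := p) H
  have hP₀L : IsSylIn p P₀ ⁅M, M⁆ := Hall.sylow_trans hH ⟨hp.out, hpb⟩ hP₀
  refine ⟨P₀, hP₀L, ?_⟩
  have hc : P₀ ≤ centralizer (X : Set G) := nilp_cent hpq hnil hP₀.le hXH hP₀.isPGroup hX.isPGroup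
  have hU : P₀ ≤ M ⊓ normalizer (X : Set G) := le_inf (hP₀L.le.trans hM'M) (hc.trans (centralizer_le_normalizer _))
  have := inf_commutator_rel (N := M) (K := betaCore M) (U := M ⊓ normalizer (X : Set G)) (H := P₀) (Core.piCoreOf_le _ _) inf_le_left hβn
    (frattini_beta hG hM hqb hX).symm hU (by
      obtain ⟨n, hn⟩ := IsPGroup.iff_card.mp hP₀.isPGroup
      have := Core.piCoreOf_piNum (beta M) M
      rw [hn]
      apply Nat.Coprime.pow_left
      rw [Nat.Prime.coprime_iff_not_dvd hp.out]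
      intro h
      exact hpb (this p hp.out h))
  rw [← inf_eq_left.2 hP₀L.le, this]
  exact inf_le_right

/-- BG 10.9(b) -/
theorem nonuniq_norm (hG : IsMinSimpleOddOrder G) {M H : Subgroup G} (hM : IsCoatom M) (hH : IsCoatom H) (hne : H ≠ M) {p : ℕ} [hp : Fact p.Prime]
    {S : Subgroup G} (hS : IsSylIn p S ⊤) (hN : normalizer (S : Set G) ≤ H ⊓ M) :
    betaCore M ≠ ⊥ ∧ M = betaCore M ⊔ (H ⊓ M) := by
  have hSH : S ≤ H := le_normalizer.trans (hN.trans inf_le_left)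
  have hSM : S ≤ M := le_normalizer.trans (hN.trans inf_le_right)
  have hSb : S ≠ ⊥ := by
    rintro rfl
    apply hM.1
    rw [← top_le_iff]
    refine le_trans ?_ (hN.trans inf_le_right)
    intro x _
    rw [mem_normalizer_iff_cj, cj_bot]
  have hSMs : IsSylIn p S M := hS.mono hSM le_top
  have hpM : p ∣ Nat.card M := dvd_card_of_le hS.isPGroup hSb hSM
  have hpσ : p ∈ sigma M := sigma_of_normalizer hp.out hpM hSMs (hN.trans inf_le_right)
  have hr : PRankLE p 2 S := by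
    by_contra hr
    exact hne ((normalizer_le_of_rank hG hM hS.isPGroup hSM hr).2 H hH hSH)
  have hpb : p ∉ beta M := fun h => (beta_subset_alpha M h).2 (pRankLE_of_isSylIn hSMs hr)
  have hSM' : S ≤ ⁅M, M⁆ := sylow_le_commutator hG hM hpσ hSMs
  have hSM's : IsSylIn p S ⁅M, M⁆ := hSMs.mono hSM' (commutator_le_self M)
  have h1 := frattini_beta hG hM hpb hSM's
  have h2 : M = betaCore M ⊔ (H ⊓ M) := by
    apply le_antisymm _ (sup_le (Core.piCoreOf_le _ _) inf_le_right)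
    conv_lhs => rw [h1]
    exact sup_le_sup_left (inf_le_right.trans hN) _
  refine ⟨fun hb => ?_, h2⟩
  rw [hb, bot_sup_eq] at h2
  have : M ≤ H := by rw [h2]; exact inf_le_left
  rcases hM.le_iff.1 this with h | h
  · exact hH.1 h
  · exact hne h

end Cfsg.Agent.H12.BG10
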