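import Mathlib
import Cfsg.Agent.H12_BG10g
import Cfsg.Agent.H24_Sub

/-! BG 10.10 -/

set_option autoImplicit false
set_option linter.unusedSectionVars false

open Pointwise
open scoped commutatorElement

namespace Cfsg.Agent.H12.BG10

open Cfsg Subgroup H13.Syl H12.Loc H12.Trans H12.BG7 H12.Puig H12.BG9

universe u

variable {G : Type u} [Group G] [Finite G]

/-- a maximal elementary abelian `p`-subgroup, of order `p²` -/
structure E2Max (p : ℕ) (A : Subgroup G) : Prop where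
  ea : IsElementaryAbelian p A
  card : Nat.card A = p ^ 2
  max : ∀ B : Subgroup G, IsElementaryAbelian p B → A ≤ B → B = A

theorem ea_isPGroup {p : ℕ} {A : Subgroup G} (h : IsElementaryAbelian p A) : IsPGroup p A := by
  intro x
  refine ⟨1, ?_⟩
  rw [pow_one]
  exact Subtype.ext (h.2 x x.2)

theorem E2Max.isPGroup {p : ℕ} {A : Subgroup G} (h : E2Max p A) : IsPGroup p A := ea_isPGroup h.ea

theorem E2Max.mem {p : ℕ} {A : Subgroup G} (h : E2Max p A) {x : G} (hx : x ∈ centralizer (A : Set G)) (hxp : x ^ p = 1) :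
    x ∈ A := Narrow.mem_of_max h.ea h.max hxp hx

theorem E2Max.iff {p : ℕ} {A : Subgroup G} (h : E2Max p A) : ∀ x ∈ Subgroup.centralizer (A : Set G), x ^ p = 1 ↔ x ∈ A :=
  fun x hx => ⟨fun hp => h.mem hx hp, fun hA => h.ea.2 x hA⟩

theorem E2Max.ne_bot {p : ℕ} [hp : Fact p.Prime] {A : Subgroup G} (h : E2Max p A) : A ≠ ⊥ := by
  rintro rfl
  have := h.card
  rw [card_bot] at this
  have h2 := hp.out.two_le
  nlinarith

theorem dvd_of_card_sq {p : ℕ} [hp : Fact p.Prime] {A : Subgroup G} (h : Nat.card A = p ^ 2) : p ∣ Nat.card G :=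
  (dvd_pow_self p two_ne_zero).trans (h ▸ Subgroup.card_subgroup_dvd_card A)

theorem ea_not_rankLE_one {p : ℕ} [hp : Fact p.Prime] {A : Subgroup G} (hA : IsElementaryAbelian p A) (h : Nat.card A = p ^ 2) :
    ¬ PRankLE p 1 A := by
  intro hr
  have := SCN.pRankLE_iff.1 hr A le_rfl hA
  rw [h, pow_one] at this
  have h2 := hp.out.two_le
  nlinarith

theorem E2Max.th (hG : IsMinSimpleOddOrder G) {p : ℕ} [hp : Fact p.Prime] {A : Subgroup G} (h : E2Max p A) :
    TransitivityHypothesis A :=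
  th_of_cases hG (dvd_of_card_sq h.card) h.isPGroup h.ea.1 (Or.inl ⟨h.iff, fun H hH => plength_proper hG hH p⟩)

theorem E2Max.pack (hG : IsMinSimpleOddOrder G) {p q : ℕ} [hp : Fact p.Prime] [hq : Fact q.Prime] (hpq : p ≠ q) {A P : Subgroup G}
    (h : E2Max p A) (hqC : q ∣ Nat.card (centralizer (A : Set G))) (hAP : A ≤ P) (hP : IsPGroup p P) : Pack A P q := by
  have hTH := h.th hG
  have hpA : ∀ r : ℕ, r.Prime → (r ∣ Nat.card A ↔ r = p) := by
    intro r hr
    rw [h.card]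
    constructor
    · intro h; exact (Nat.prime_dvd_prime_iff_eq hr hp.out).1 (hr.dvd_of_dvd_pow h)
    · rintro rfl
      exact dvd_pow_self r two_ne_zero
  have hqA : ¬ q ∣ Nat.card A := fun h => hpq ((hpA q hq.out).1 h).symm
  have hZ : ¬ RankLE 1 ↥(A ⊓ centralizer (A : Set G)) := by
    intro h'
    have hc := h.ea.1
    have h1 : A ⊓ centralizer (A : Set G) = A := inf_eq_left.2 (le_centralizer A)
    rw [h1] at h'
    exact ea_not_rankLE_one h.ea h.card (h' p hp.out)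
  have hAA : Pack A A q := ⟨hTH, rfl, fun Q₁ Q₂ h1 h2 => conj_of_rank_two hG hTH hZ hqA hqC h1 h2, fun Q hQ => hQ⟩
  have e : (A.subgroupOf P).map P.subtype = A := by
    rw [Subgroup.subgroupOf_map_subtype, inf_eq_left.mpr hAP]
  have hPn : Group.IsNilpotent P := hP.isNilpotent
  apply subnormal_pack hG hqA (ne_top_of_isPGroup hG hP) _ (A.subgroupOf P) (H24.Sub.isSubnormal_of_nilpotent hPn _)
  · rw [e]
  · rw [e]; exact hAA
  · intro r hr hrd
    obtain ⟨k, hk⟩ := IsPGroup.iff_card.1 hP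
    rw [hk] at hrd
    exact (hpA r hr).2 ((Nat.prime_dvd_prime_iff_eq hr hp.out).1 (hr.dvd_of_dvd_pow hrd))

/-- derived subgroups of odd solvable groups centralize narrow normal `q`-subgroups modulo `q`-elements -/
theorem cent_of_narrow {p q : ℕ} [hp : Fact p.Prime] [hq : Fact q.Prime] (hpq : p ≠ q) (hq2 : q ≠ 2) {X Q P : Subgroup G}
    (hX : Group.IsSolvable X) (hodd : Odd (Nat.card X)) (hQX : Q ≤ X) (hn : X ≤ normalizer (Q : Set G)) (hQ : IsPGroup q Q)
    (hnar : IsNarrow q Q) (hP : IsPGroup p P) (hPX : P ≤ ⁅X, X⁆) : P ≤ centralizer (Q : Set G) := by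
  have hnorm : (Q.subgroupOf X).Normal := Core.normal_subgroupOf_of_le hn
  have hQ' : IsPGroup q (Q.subgroupOf X) := by
    intro x
    obtain ⟨k, hk⟩ := hQ ⟨x.1.1, mem_subgroupOf.1 x.2⟩
    refine ⟨k, ?_⟩
    apply Subtype.ext; apply Subtype.ext
    have := congrArg Subtype.val hk
    simpa using this
  have key : ∀ g ∈ commutator X, ∃ n, g ^ (q ^ n) ∈ centralizer ((Q.subgroupOf X : Subgroup X) : Set X) := by
    by_cases hr : PRankLE q 2 Q
    · intro g hg
      refine Rank2.comm_pow_of_normal hodd hQ' ?_ g hg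
      exact SCN.pRankLE_of_injective (subgroupOfEquivOfLe hQX).toMonoidHom (subgroupOfEquivOfLe hQX).injective hr
    · obtain ⟨E, x, hx⟩ := Narrow.nar_of_isNarrow hQ hr hnar
      intro g hg
      exact Narrow.comm_pow_of_nar hq2 hQ' (hx.map (subgroupOfEquivOfLe hQX).symm) g hg
  intro g hg
  have h1 : g ∈ ⁅X, X⁆ := hPX hg
  rw [← map_commutator_subtype] at h1
  obtain ⟨g', hg', rfl⟩ := h1
  obtain ⟨n, hn⟩ := key g' hg'
  obtain ⟨m, hm⟩ := hP ⟨_, hg⟩
  have hm' : (g' : G) ^ (p ^ m) = 1 := by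
    have := congrArg Subtype.val hm
    simpa using this
  refine Fit.mem_centralizer_of_pow (p := p) (q := q) (n := m) (m := n) (C := centralizer (Q : Set G)) hp.out hq.out hpq hm' ?_
  rw [mem_centralizer_iff]
  intro y hy
  have := mem_centralizer_iff.1 hn ⟨y, hQX hy⟩ (mem_subgroupOf.2 hy)
  have := congrArg Subtype.val this
  simpa using this

/-- BG 10.10 -/
theorem thm1010 (hG : IsMinSimpleOddOrder G) {p q : ℕ} [hp : Fact p.Prime] [hq : Fact q.Prime] (hpq : p ≠ q) {A Q : Subgroup G}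
    (h : E2Max p A) (hqC : q ∣ Nat.card (centralizer (A : Set G))) (hQ : MaxInv A q Q) :
    ∃ P : Subgroup G, IsSylIn p P ⊤ ∧ A ≤ P ∧ P ≤ normalizer (Q : Set G) ∧
      normalizer (P : Set G) = O' P (centralizer (P : Set G)) ⊔ (normalizer (P : Set G) ⊓ normalizer (Q : Set G)) ∧
      P ≤ ⁅normalizer (Q : Set G), normalizer (Q : Set G)⁆ ∧ (IsNarrow q Q → P ≤ centralizer (Q : Set G)) := by
  obtain ⟨P₀, hAP₀, hP₀⟩ := exists_isSylIn_ge (p := p) (H := ⊤) h.isPGroup le_top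
  have hpk₀ := h.pack hG hpq hqC hAP₀ hP₀.isPGroup
  obtain ⟨Q₀, hQ₀, -⟩ := exists_maxInv_ge (A := P₀) (q := q) (R := ⊥) ⟨IsPGroup.of_bot, by
    intro x _
    rw [mem_normalizer_iff_cj, cj_bot]⟩
  have hAA := h.pack hG hpq hqC le_rfl h.isPGroup
  obtain ⟨k, hk, hkQ⟩ := hAA.tr Q₀ Q (hpk₀.sub Q₀ hQ₀) hQ
  have hkC : k ∈ centralizer (A : Set G) := O'_le _ _ hk
  have hP : IsSylIn p (cj k P₀) ⊤ := by
    have := hP₀.cj k
    rwa [cj_top] at this
  have hAP : A ≤ cj k P₀ := by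
    have := cj_mono (g := k) hAP₀
    rwa [cj_eq_of_mem_normalizer (centralizer_le_normalizer _ hkC)] at this
  have hpk := h.pack hG hpq hqC hAP hP.isPGroup
  have hQP : MaxInv (cj k P₀) q Q := by
    have hinv : cj k P₀ ≤ normalizer (Q : Set G) := by
      rw [hkQ, ← cj_normalizer]
      exact cj_mono hQ₀.1.2
    refine ⟨⟨hQ.1.1, hinv⟩, fun R hR hQR => hQ.2 R ⟨hR.1, hAP.trans hR.2⟩ hQR⟩
  obtain ⟨h1, h2⟩ := pack_frattini hpk.tr hQP
  have h3 : cj k P₀ ≤ ⁅normalizer (Q : Set G), normalizer (Q : Set G)⁆ :=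
    (le_inf le_rfl (sylow_le_commutator_normalizer hG hP)).trans h1
  refine ⟨cj k P₀, hP, hAP, hQP.1.2, h2, h3, fun hnar => ?_⟩
  by_cases hQb : Q = ⊥
  · rw [hQb]
    intro x _
    rw [mem_centralizer_iff]
    intro y hy
    have : y = 1 := by simpa using hy
    rw [this]; simp
  have hNt : normalizer (Q : Set G) ≠ ⊤ := normalizer_ne_top hG hQb (ne_top_of_isPGroup hG hQ.1.1)
  have hqG : q ∣ Nat.card G := dvd_card_of_le (X := ⊤) hQ.1.1 hQb le_top |>.trans (by rw [card_top])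
  exact cent_of_narrow hpq (prime_ne_two hG hqG) (solvable_of_ne_top hG hNt) (odd_card_subgroup hG _) le_normalizer le_rfl hQ.1.1 hnar
    hP.isPGroup h3

end Cfsg.Agent.H12.BG10
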