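import Mathlib
import Cfsg.Agent.H12_CN

/-! CN-groups II: maximal nilpotent subgroups -/

set_option autoImplicit false

open Pointwise
open scoped commutatorElement

namespace Cfsg.Agent.H12.CN

open Cfsg Subgroup H13.Syl

variable {G : Type*} [Group G]

/-- `H` is a maximal nilpotent subgroup. -/
def MaxNil (H : Subgroup G) : Prop :=
  Group.IsNilpotent H ∧ ∀ L : Subgroup G, Group.IsNilpotent L → H ≤ L → L = H

theorem isNilpotent_cj {H : Subgroup G} (h : Group.IsNilpotent H) (g : G) : Group.IsNilpotent (cj g H) := by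
  haveI := h
  exact Group.nilpotent_of_surjective (Subgroup.equivSMul (MulAut.conj g) H).toMonoidHom
    (Subgroup.equivSMul (MulAut.conj g) H).surjective

theorem maxNil_cj {H : Subgroup G} (h : MaxNil H) (g : G) : MaxNil (cj g H) := by
  refine ⟨isNilpotent_cj h.1 g, fun L hL hle => ?_⟩
  have h1 := h.2 (cj g⁻¹ L) (isNilpotent_cj hL _) (by
    rw [← cj_inv_cj g H]; exact cj_mono hle)
  rw [← h1, cj_cj_inv]

theorem exists_maxNil_ge [Finite G] (L : Subgroup G) (hL : Group.IsNilpotent L) : ∃ H, MaxNil H ∧ L ≤ H := by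
  have hfin : {M : Subgroup G | Group.IsNilpotent M ∧ L ≤ M}.Finite := Set.toFinite _
  obtain ⟨H, ⟨hH, hLH⟩, hmax⟩ := hfin.exists_maximal ⟨L, hL, le_rfl⟩
  exact ⟨H, ⟨hH, fun M hM hHM => le_antisymm (hmax ⟨hM, hLH.trans hHM⟩ hHM) hHM⟩, hLH⟩

/-- `H` nilpotent: `H` centralizes the centre of each of its Sylow subgroups. -/
theorem le_centralizer_of_mem_center_sylow [Finite G] {H Q : Subgroup G} {q : ℕ} [hq : Fact q.Prime]
    (hH : Group.IsNilpotent H) (hQ : IsSylIn q Q H) {z : G} (hz : z ∈ Q) (hz' : z ∈ centralizer (Q : Set G)) :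
    H ≤ centralizer {z} := by
  apply H1.Nilp.le_of_sylow_le
  intro s hs
  by_cases hsr : s = q
  · subst hsr
    obtain ⟨S, hS⟩ := hQ.exists_sylow
    refine ⟨S, ?_⟩
    rw [hS, Subgroup.map_subgroupOf_eq_of_le hQ.le]
    intro y hy
    rw [mem_centralizer_singleton_iff]
    exact (mem_centralizer_iff.mp hz') y hy
  · refine ⟨default, ?_⟩
    have h1 : (Nat.card (((default : Sylow s H) : Subgroup H).map H.subtype : Subgroup G)).Coprime q := by
      rw [Subgroup.card_map_of_injective H.subtype_injective]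
      obtain ⟨k, hk⟩ := IsPGroup.iff_card.mp (default : Sylow s H).isPGroup'
      rw [hk]
      exact ((Nat.coprime_primes hs.out hq.out).mpr hsr).pow_left k
    have h2 := le_centralizer_of_nilpotent hH hQ.isPGroup hQ.le (Subgroup.map_subtype_le _) h1
    refine h2.trans ?_
    apply Subgroup.centralizer_le
    rw [Set.singleton_subset_iff]; exact hz

theorem exists_mem_center_sylow [Finite G] {H : Subgroup G} {q : ℕ} [hq : Fact q.Prime]
    (hqH : q ∣ Nat.card H) : ∃ Q, IsSylIn q Q H ∧ ∃ z ∈ Q, z ∈ centralizer (Q : Set G) ∧ z ≠ 1 := by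
  obtain ⟨Q, hQ⟩ := exists_isSylIn (p := q) H
  refine ⟨Q, hQ, ?_⟩
  have hQb : Q ≠ ⊥ := by
    rintro rfl
    have := hQ.not_dvd
    rw [Subgroup.relIndex_bot_left] at this
    exact this hqH
  have := H1.Fpf.inf_centralizer_ne_bot hQ.isPGroup hQ.isPGroup hQb le_normalizer
  obtain ⟨z, hz, hz1⟩ := (Subgroup.bot_or_exists_ne_one _).resolve_left this
  exact ⟨z, hz.1, hz.2, hz1⟩

section
variable [Finite G] (hCN : IsCNGroup G)
include hCN

theorem maxNil_centralizer {H Q : Subgroup G} (hH : MaxNil H) {q : ℕ} [hq : Fact q.Prime] (hQ : IsSylIn q Q H)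
    {z : G} (hz : z ∈ Q) (hz' : z ∈ centralizer (Q : Set G)) (hz1 : z ≠ 1) : centralizer {z} = H :=
  hH.2 _ (hCN z hz1) (le_centralizer_of_mem_center_sylow hH.1 hQ hz hz')

/-- Sylow subgroups of maximal nilpotent subgroups are Sylow subgroups of `G`. -/
theorem maxNil_sylow {H Q : Subgroup G} (hH : MaxNil H) {q : ℕ} [hq : Fact q.Prime] (hqH : q ∣ Nat.card H)
    (hQ : IsSylIn q Q H) : IsSylIn q Q ⊤ := by
  obtain ⟨Q', hQ', z, hz, hz', hz1⟩ := exists_mem_center_sylow hqH
  obtain ⟨x, hx, hxQ⟩ := hQ.exists_conj_eq hQ'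
  have hHn := le_normalizer_sylow_of_nilpotent hH.1 hQ'
  rw [cj_eq_of_mem_normalizer (hHn hx)] at hxQ
  subst hxQ
  have hC := maxNil_centralizer hCN hH hQ hz hz' hz1
  obtain ⟨T, hQT, hT⟩ := exists_isSylIn_ge (p := q) hQ.isPGroup (le_top : Q' ≤ ⊤)
  have hTb : T ≠ ⊥ := by
    rintro rfl
    exact hz1 ((mem_bot).mp (hQT hz))
  obtain ⟨t, ht, ht1⟩ := (Subgroup.bot_or_exists_ne_one _).resolve_left
    (H1.Fpf.inf_centralizer_ne_bot hT.isPGroup hT.isPGroup hTb le_normalizer)
  have htH : t ∈ H := by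
    rw [← hC, mem_centralizer_singleton_iff]
    exact ((mem_centralizer_iff.mp ht.2) z (hQT hz)).symm
  have htQ : t ∈ Q' := by
    have h1 : zpowers t ≤ T := by rw [zpowers_le]; exact ht.1
    have h2 : IsPGroup q (zpowers t ⊔ Q' : Subgroup G) := hT.isPGroup.to_le (sup_le h1 hQT)
    have h3 := hQ.eq_of_le h2 (sup_le (by rw [zpowers_le]; exact htH) hQ.le) le_sup_right
    rw [← h3]; exact mem_sup_left (mem_zpowers t)
  have hC2 := maxNil_centralizer hCN hH hQ htQ ((Subgroup.centralizer_le hQT) ht.2) ht1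
  have hTH : T ≤ H := by
    rw [← hC2]
    intro y hy
    rw [mem_centralizer_singleton_iff]
    exact (mem_centralizer_iff.mp ht.2) y hy
  rw [← hQ.eq_of_le hT.isPGroup hTH hQT]
  exact hT

theorem maxNil_hall {H : Subgroup G} (hH : MaxNil H) : (Nat.card H).Coprime H.index := by
  apply Nat.coprime_of_dvd
  intro q hq hqH hqi
  haveI := Fact.mk hq
  obtain ⟨Q, hQ⟩ := exists_isSylIn (p := q) H
  have h1 := maxNil_sylow hCN hH hqH hQ
  have h2 := h1.not_dvd
  rw [Subgroup.relIndex_top_right] at h2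
  exact h2 (hqi.trans (Subgroup.index_dvd_of_le hQ.le))

theorem maxNil_ti {H : Subgroup G} (hH : MaxNil H) (hnp : ¬ IsPrimePow (Nat.card H)) (h1 : Nat.card H ≠ 1)
    (g : G) (hg : cj g H ≠ H) : H ⊓ cj g H = ⊥ := by
  by_contra hne
  apply hg
  obtain ⟨x, hx, hx1⟩ := (Subgroup.bot_or_exists_ne_one _).resolve_left hne
  -- replace x by an element of prime order
  obtain ⟨p, hp, hpd⟩ := Nat.exists_prime_and_dvd (show orderOf x ≠ 1 by rwa [Ne, orderOf_eq_one_iff])
  set y := x ^ (orderOf x / p) with hy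
  have hyo : orderOf y = p := orderOf_pow_orderOf_div (orderOf_pos x).ne' hpd
  have hyH : y ∈ H := H.pow_mem hx.1 _
  have hyH' : y ∈ cj g H := (cj g H).pow_mem hx.2 _
  haveI := Fact.mk hp
  have hy1 : y ≠ 1 := by
    intro h; rw [h, orderOf_one] at hyo; exact hp.ne_one hyo.symm
  have hyp : IsPGroup p (zpowers y) := IsPGroup.of_card (n := 1) (by rw [Nat.card_zpowers, hyo, pow_one])
  -- another prime q
  obtain ⟨q, hq, hqH, hqp⟩ : ∃ q, q.Prime ∧ q ∣ Nat.card H ∧ q ≠ p := by
    by_contra hcon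
    push Not at hcon
    apply hnp
    rw [isPrimePow_nat_iff]
    have h3 := Nat.eq_prime_pow_of_unique_prime_dvd (n := Nat.card H) (p := p) Nat.card_pos.ne' (fun {d} hd hdd => hcon d hd hdd)
    refine ⟨p, (Nat.card H).primeFactorsList.length, hp, ?_, h3.symm⟩
    by_contra h0
    have : (Nat.card H).primeFactorsList.length = 0 := by omega
    rw [this, pow_zero] at h3
    exact h1 h3
  haveI := Fact.mk hq
  obtain ⟨Q, hQ, z, hz, hz', hz1⟩ := exists_mem_center_sylow hqH
  have hQt := maxNil_sylow hCN hH hqH hQ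
  set C := centralizer ({y} : Set G) with hC
  have hCnil : Group.IsNilpotent C := hCN y hy1
  have hcop : ∀ R : Subgroup G, IsPGroup q R → (Nat.card R).Coprime p := by
    intro R hR
    obtain ⟨k, hk⟩ := IsPGroup.iff_card.mp hR
    rw [hk]; exact ((Nat.coprime_primes hq hp).mpr hqp).pow_left k
  have hQC : Q ≤ C := by
    rw [hC, ← centralizer_zpowers_eq]
    exact le_centralizer_of_nilpotent hH.1 hyp (by rwa [zpowers_le]) hQ.le (hcop Q hQ.isPGroup)
  have hQC' : cj g Q ≤ C := by
    rw [hC, ← centralizer_zpowers_eq]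
    exact le_centralizer_of_nilpotent (isNilpotent_cj hH.1 g) hyp (by rwa [zpowers_le]) (cj_mono hQ.le)
      (hcop _ (isPGroup_cj hQ.isPGroup))
  have hQ1 : IsSylIn q Q C := hQt.mono hQC le_top
  have hQ2 : IsSylIn q (cj g Q) C := by
    have := hQt.cj g
    rw [cj_top] at this
    exact this.mono hQC' le_top
  obtain ⟨c, hc, hcQ⟩ := hQ1.exists_conj_eq hQ2
  have hCn := le_normalizer_sylow_of_nilpotent hCnil hQ2
  rw [cj_eq_of_mem_normalizer (hCn hc)] at hcQ
  -- cj g Q = Q
  have e1 := maxNil_centralizer hCN hH hQ hz hz' hz1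
  have e2 := maxNil_centralizer hCN hH hQ (z := g * z * g⁻¹) (by rw [← hcQ]; exact conj_mem_cj hz) (by
      rw [← hcQ, ← cj_centralizer]; exact conj_mem_cj hz') (by
      intro h
      apply hz1
      have : z = g⁻¹ * (g * z * g⁻¹) * g := by group
      rw [this, h]; group)
  rw [← cj_centralizer_singleton, e1] at e2
  exact e2

theorem maxNil_centralizer_le {H : Subgroup G} (hH : MaxNil H)
    (hTI : ∀ g : G, cj g H ≠ H → H ⊓ cj g H = ⊥) {x : G} (hx : x ∈ H) (hx1 : x ≠ 1) : centralizer {x} ≤ H := by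
  have hHb : Nat.card H ≠ 1 := by
    intro h
    rw [Subgroup.card_eq_one] at h
    rw [h, mem_bot] at hx
    exact hx1 hx
  obtain ⟨p, hp, hpH⟩ := Nat.exists_prime_and_dvd hHb
  haveI := Fact.mk hp
  obtain ⟨P, hP, z, hz, hz', hz1⟩ := exists_mem_center_sylow hpH
  have hPt := maxNil_sylow hCN hH hpH hP
  have hCz := maxNil_centralizer hCN hH hP hz hz' hz1
  have hCx : Group.IsNilpotent (centralizer ({x} : Set G)) := hCN x hx1
  have hCN' : centralizer {x} ≤ normalizer (H : Set G) := by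
    intro g hg
    rw [mem_normalizer_iff_cj]
    by_contra hne
    have h1 := hTI g hne
    apply hx1
    rw [← mem_bot, ← h1]
    refine ⟨hx, ?_⟩
    show x ∈ cj g H
    rw [mem_cj]
    rw [mem_centralizer_singleton_iff] at hg
    have : g⁻¹ * x * g = x := by rw [mul_assoc, ← hg]; group
    rw [this]; exact hx
  have hHP : normalizer (H : Set G) ≤ normalizer (P : Set G) := by
    intro g hg
    rw [mem_normalizer_iff_cj] at hg ⊢
    have h2 : IsSylIn p (cj g P) H := by
      have := hP.cj g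
      rwa [hg] at this
    obtain ⟨c, hc, hcQ⟩ := hP.exists_conj_eq h2
    rw [cj_eq_of_mem_normalizer (le_normalizer_sylow_of_nilpotent hH.1 h2 hc)] at hcQ
    exact hcQ
  apply H1.Nilp.le_of_sylow_le
  intro s hs
  by_cases hsp : s = p
  · subst hsp
    refine ⟨default, ?_⟩
    set R := ((default : Sylow s (centralizer ({x} : Set G))) : Subgroup _).map (centralizer ({x} : Set G)).subtype with hR
    have hRp : IsPGroup s R := (default : Sylow s (centralizer ({x} : Set G))).isPGroup'.map _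
    have hRn : R ≤ normalizer (P : Set G) := (Subgroup.map_subtype_le _).trans (hCN'.trans hHP)
    have h1 : IsPGroup s (R ⊔ P : Subgroup G) := hRp.to_sup_of_normal_right' hPt.isPGroup hRn
    have h2 := hPt.eq_of_le h1 le_top le_sup_right
    rw [← h2] at hP
    exact le_sup_left.trans hP.le
  · refine ⟨default, ?_⟩
    rw [← hCz, ← centralizer_zpowers_eq z]
    have hzC : z ∈ centralizer ({x} : Set G) := by
      have h3 := le_centralizer_of_mem_center_sylow hH.1 hP hz hz' hx
      rw [mem_centralizer_singleton_iff] at h3 ⊢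
      exact h3.symm
    refine le_centralizer_of_nilpotent hCx (hP.isPGroup.to_le (by rwa [zpowers_le])) (by rwa [zpowers_le])
      (Subgroup.map_subtype_le _) ?_
    rw [Subgroup.card_map_of_injective (centralizer ({x} : Set G)).subtype_injective]
    obtain ⟨k, hk⟩ := IsPGroup.iff_card.mp (default : Sylow s (centralizer ({x} : Set G))).isPGroup'
    rw [hk]
    exact ((Nat.coprime_primes hs.out hp).mpr hsp).pow_left k

end

end Cfsg.Agent.H12.CN
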