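import Mathlib
import Cfsg.Agent.H2_PGroup
import Cfsg.Agent.H2_Class
import Cfsg.Agent.H1_Nilp
import Cfsg.Agent.H1_Fpf
import Cfsg.Agent.H12_Core

/-! p-group facts for odd p -/

set_option autoImplicit false

open Pointwise
open scoped commutatorElement

namespace Cfsg.Agent.H12.PG

open Cfsg Subgroup

/-- `p` odd: a finite `p`-group with all elementary abelian subgroups of order `≤ p` is cyclic. -/
theorem isCyclic_of_no_rank_two_aux {p : ℕ} [hp : Fact p.Prime] (hp2 : p ≠ 2) (n : ℕ) :
    ∀ (P : Type _) [Group P] [Finite P], Nat.card P = n → IsPGroup p P →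
    (∀ A : Subgroup P, IsMulCommutative A → (∀ x ∈ A, x ^ p = 1) → Nat.card A ≤ p) → IsCyclic P := by
  induction n using Nat.strong_induction_on with
  | _ n ih =>
    intro P _ _ hcard hP hA
    by_contra hnc
    -- proper subgroups are cyclic
    have hsub : ∀ M : Subgroup P, M ≠ ⊤ → IsCyclic M := by
      intro M hM
      refine ih (Nat.card M) (hcard ▸ H2.Card.card_lt_of_ne_top hM) M rfl (hP.to_subgroup M) ?_
      intro A hAc hAx
      have h1 := hA (A.map M.subtype) inferInstance (by
        rintro _ ⟨x, hx, rfl⟩
        exact congrArg Subtype.val (hAx x hx))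
      rwa [Subgroup.card_map_of_injective M.subtype_injective] at h1
    haveI hnil : Group.IsNilpotent P := hP.isNilpotent
    -- every x lies in proper cyclic; two distinct maximal subgroups
    have hmaxx : ∀ x : P, zpowers x ≠ ⊤ := by
      intro x hx
      apply hnc
      exact ⟨x, fun y => by
        have := (mem_top y : y ∈ (⊤ : Subgroup P))
        rw [← hx] at this
        exact this⟩
    obtain ⟨M, hxM, hMn, hMi⟩ := H2.PGroup.exists_index_p_of_ne_top (p := p) hP (hmaxx 1)
    have hMt : M ≠ ⊤ := by
      rintro rfl; rw [Subgroup.index_top] at hMi; exact hp.out.ne_one hMi.symm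
    obtain ⟨y, _, hyM⟩ := SetLike.exists_of_lt (lt_top_iff_ne_top.mpr hMt)
    obtain ⟨N, hyN, hNn, hNi⟩ := H2.PGroup.exists_index_p_of_ne_top (p := p) hP (hmaxx y)
    have hNt : N ≠ ⊤ := by
      rintro rfl; rw [Subgroup.index_top] at hNi; exact hp.out.ne_one hNi.symm
    have hMcoat := H2.PGroup.isCoatom_of_index (p := p) hMi
    have hNcoat := H2.PGroup.isCoatom_of_index (p := p) hNi
    have hMN : M ⊔ N = ⊤ := by
      apply hMcoat.2
      refine lt_of_le_of_ne le_sup_left ?_
      intro h
      apply hyM
      rw [h]; exact mem_sup_right (hyN (mem_zpowers y))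
    -- M ⊓ N central
    have hcen : M ⊓ N ≤ center P := by
      have hM := hsub M hMt
      have hN := hsub N hNt
      have h1 : M ≤ centralizer (M : Set P) := by
        letI := hM
        exact Subgroup.le_centralizer M
      have h2 : N ≤ centralizer (N : Set P) := by
        letI := hN
        exact Subgroup.le_centralizer N
      have h3 : M ⊔ N ≤ centralizer ((M ⊓ N : Subgroup P) : Set P) :=
        sup_le (h1.trans (centralizer_le (by exact inf_le_left))) (h2.trans (centralizer_le (by exact inf_le_right)))
      rw [hMN] at h3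
      intro z hz
      rw [mem_center_iff]
      intro g
      exact ((mem_centralizer_iff.mp (h3 (mem_top g))) z hz).symm
    have hpow : ∀ x : P, x ^ p ∈ M ⊓ N := fun x =>
      ⟨H2.PGroup.pow_mem_coatom (p := p) hP hMcoat x, H2.PGroup.pow_mem_coatom (p := p) hP hNcoat x⟩
    have hcomm : ∀ a b : P, ⁅a, b⁆ ∈ center P := by
      intro a b
      apply hcen
      have : ⁅a, b⁆ ∈ commutator P := by
        rw [_root_.commutator_def]
        exact Subgroup.commutator_mem_commutator (mem_top a) (mem_top b)
      exact ⟨H2.PGroup.commutator_le_coatom (p := p) hP hMcoat this, H2.PGroup.commutator_le_coatom (p := p) hP hNcoat this⟩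
    have hcp : ∀ x y : P, ⁅y, x⁆ ^ p = 1 := by
      intro x y
      rw [← H2.Class.comm_pow_left hcomm, commutatorElement_eq_one_iff_commute]
      exact (mem_center_iff.mp (hcen (hpow y)) x).symm
    let φ : P →* P :=
      { toFun := fun x => x ^ p
        map_one' := one_pow _
        map_mul' := fun x y => H2.Class.mul_pow_p hp.out hp2 hcomm x y (hcp x y) }
    have hrange : φ.range ≤ M ⊓ N := by
      rintro _ ⟨x, rfl⟩
      exact hpow x
    have hMNcard : Nat.card (M ⊓ N : Subgroup P) * p ^ 2 = Nat.card P := by
      have h1 := H1.Basic.card_sup_mul_card_inf (H := M) (K := N) (Core.le_normalizer_of_normal _ _)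
      rw [hMN, Subgroup.card_top] at h1
      have h2 := Subgroup.card_mul_index M
      have h3 := Subgroup.card_mul_index N
      rw [hMi] at h2
      rw [hNi] at h3
      have h4 : Nat.card P * (Nat.card (M ⊓ N : Subgroup P) * p ^ 2) = Nat.card P * Nat.card P := by
        calc Nat.card P * (Nat.card (M ⊓ N : Subgroup P) * p ^ 2) = (Nat.card P * Nat.card (M ⊓ N : Subgroup P)) * p ^ 2 := by ring
          _ = (Nat.card M * p) * (Nat.card N * p) := by rw [h1]; ring
          _ = _ := by rw [h2, h3]
      exact Nat.eq_of_mul_eq_mul_left Nat.card_pos h4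
    have hker : p ^ 2 ≤ Nat.card φ.ker := by
      have h1 : Nat.card φ.ker * Nat.card φ.range = Nat.card P := by
        rw [← Subgroup.index_ker, Subgroup.card_mul_index]
      have h2 : Nat.card φ.range ≤ Nat.card (M ⊓ N : Subgroup P) := Nat.le_of_dvd Nat.card_pos (card_dvd_of_le hrange)
      rw [← hMNcard] at h1
      by_contra hlt
      push Not at hlt
      have h3 : Nat.card φ.ker * Nat.card φ.range < p ^ 2 * Nat.card (M ⊓ N : Subgroup P) := by
        calc _ ≤ Nat.card φ.ker * Nat.card (M ⊓ N : Subgroup P) := Nat.mul_le_mul_left _ h2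
          _ < _ := Nat.mul_lt_mul_of_pos_right hlt Nat.card_pos
      rw [h1] at h3
      linarith
    -- find elementary abelian subgroup of order > p in ker
    have hkp : IsPGroup p φ.ker := hP.to_subgroup _
    have hkb : φ.ker ≠ ⊥ := by
      intro h
      rw [h, Subgroup.card_bot] at hker
      have := hp.out.one_lt
      nlinarith
    obtain ⟨z, hz, hz1⟩ := (Subgroup.bot_or_exists_ne_one _).resolve_left
      (H1.Fpf.inf_centralizer_ne_bot hkp hkp hkb le_normalizer)
    have hzc : Nat.card (zpowers z) = p := by
      rw [Nat.card_zpowers]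
      have : z ^ p = 1 := hz.1
      rcases (Nat.dvd_prime hp.out).mp (orderOf_dvd_of_pow_eq_one this) with h | h
      · exact absurd (orderOf_eq_one_iff.mp h) hz1
      · exact h
    have hlt : zpowers z < φ.ker := by
      refine lt_of_le_of_ne (by rw [zpowers_le]; exact hz.1) ?_
      intro h
      rw [← h, hzc] at hker
      have := hp.out.one_lt
      nlinarith
    obtain ⟨w, hw, hwz⟩ := SetLike.exists_of_lt hlt
    have hcz : Commute z w := ((mem_centralizer_iff.mp hz.2) w hw).symm
    have hnorm : zpowers w ≤ centralizer (zpowers z : Set P) := by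
      rw [zpowers_le]
      rw [mem_centralizer_iff]
      rintro _ ⟨k, rfl⟩
      exact hcz.zpow_left k
    have h5 := hA (zpowers z ⊔ zpowers w) (by
        rw [← le_centralizer_iff_isMulCommutative]
        refine sup_le ?_ ?_
        · rw [le_centralizer_iff]
          exact sup_le (Subgroup.le_centralizer _) hnorm
        · rw [le_centralizer_iff]
          refine sup_le ?_ (Subgroup.le_centralizer _)
          rw [le_centralizer_iff]; exact hnorm) (by
        intro a ha
        have : zpowers z ⊔ zpowers w ≤ φ.ker := sup_le hlt.le (by rw [zpowers_le]; exact hw)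
        exact this ha)
    rw [← hzc] at h5
    have h6 := H1.Basic.eq_of_le_of_card_ge' (le_sup_left : zpowers z ≤ zpowers z ⊔ zpowers w) h5
    apply hwz
    rw [h6]; exact mem_sup_right (mem_zpowers w)

theorem isCyclic_of_no_rank_two {P : Type*} [Group P] [Finite P] {p : ℕ} [hp : Fact p.Prime] (hp2 : p ≠ 2)
    (hP : IsPGroup p P)
    (hA : ∀ A : Subgroup P, IsMulCommutative A → (∀ x ∈ A, x ^ p = 1) → Nat.card A ≤ p) : IsCyclic P :=
  isCyclic_of_no_rank_two_aux hp2 _ P rfl hP hA

/-- internal version -/
theorem isCyclic_of_no_rank_two_int {G : Type*} [Group G] [Finite G] {p : ℕ} [hp : Fact p.Prime] (hp2 : p ≠ 2)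
    {P : Subgroup G} (hP : IsPGroup p P)
    (hA : ∀ A : Subgroup G, A ≤ P → IsMulCommutative A → (∀ x ∈ A, x ^ p = 1) → Nat.card A ≤ p) : IsCyclic P := by
  apply isCyclic_of_no_rank_two hp2 hP
  intro A hAc hAx
  have h1 := hA (A.map P.subtype) (Subgroup.map_subtype_le _) inferInstance (by
    rintro _ ⟨x, hx, rfl⟩
    exact congrArg Subtype.val (hAx x hx))
  rwa [Subgroup.card_map_of_injective P.subtype_injective] at h1

end Cfsg.Agent.H12.PG
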