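import Mathlib
import Cfsg.Agent.H12_CN2
import Cfsg.Agent.H12_PG

/-! CN-groups III: Frobenius-like CN-groups -/

set_option autoImplicit false

open Pointwise
open scoped commutatorElement

namespace Cfsg.Agent.H12.CN

open Cfsg Subgroup H13.Syl

variable {G : Type*} [Group G]

theorem card_le_of_fpf [Finite G] {A V : Subgroup G} [IsMulCommutative V] {p : ℕ} (hp : p.Prime) (hV : V ≠ ⊥)
    (hAV : A ≤ normalizer (V : Set G)) (hfpf : ∀ e ∈ A, e ≠ 1 → V ⊓ centralizer {e} = ⊥)
    (hAc : IsMulCommutative A) (hAx : ∀ x ∈ A, x ^ p = 1) : Nat.card A ≤ p := by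
  by_cases hAb : A = ⊥
  · rw [hAb, Subgroup.card_bot]; exact hp.one_lt.le
  · haveI := hAc
    exact (card_of_cyclic_exponent hp hAb (H1.Fpf.isCyclic_of_fpf_comm A V hV hAV hfpf) hAx).le

theorem sylow_cyclic_of_fpf [Finite G] {P V : Subgroup G} [IsMulCommutative V] {p : ℕ} [hp : Fact p.Prime]
    (hp2 : p ≠ 2) (hP : IsPGroup p P) (hV : V ≠ ⊥)
    (hAV : P ≤ normalizer (V : Set G)) (hfpf : ∀ e ∈ P, e ≠ 1 → V ⊓ centralizer {e} = ⊥) : IsCyclic P := by
  apply PG.isCyclic_of_no_rank_two_int hp2 hP
  intro A hAP hAc hAx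
  exact card_le_of_fpf hp.out hV (hAP.trans hAV) (fun e he => hfpf e (hAP he)) hAc hAx

/-- an involution acting fixed-point-freely on an abelian group inverts it -/
theorem inverts_of_fpf {V : Subgroup G} [hVc : IsMulCommutative V] {t : G} (ht : t * t = 1)
    (htV : t ∈ normalizer (V : Set G)) (hfpf : V ⊓ centralizer {t} = ⊥) : ∀ v ∈ V, t * v * t⁻¹ = v⁻¹ := by
  intro v hv
  have h1 : t * v * t⁻¹ ∈ V := (mem_normalizer_iff.mp htV v).mp hv
  have hti : t⁻¹ = t := inv_eq_of_mul_eq_one_left ht
  have hc : v * (t * v * t⁻¹) = (t * v * t⁻¹) * v := by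
    have := hVc.is_comm.comm ⟨v, hv⟩ ⟨_, h1⟩
    exact congrArg Subtype.val this
  have h2 : v * (t * v * t⁻¹) ∈ V ⊓ centralizer {t} := by
    refine ⟨V.mul_mem hv h1, ?_⟩
    show v * (t * v * t⁻¹) ∈ centralizer {t}
    rw [mem_centralizer_singleton_iff]
    calc v * (t * v * t⁻¹) * t = v * t * v := by group
      _ = (t * t) * (v * t * v) := by rw [ht, one_mul]
      _ = t * ((t * v * t) * v) := by group
      _ = t * ((t * v * t⁻¹) * v) := by rw [hti]
      _ = t * (v * (t * v * t⁻¹)) := by rw [hc]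
  rw [hfpf, mem_bot] at h2
  exact eq_inv_of_mul_eq_one_right h2

/-- In a CN-group a subgroup acting fixed-point-freely on a nontrivial abelian subgroup is nilpotent. -/
theorem nilpotent_of_fpf [Finite G] (hCN : IsCNGroup G) (E V : Subgroup G) [hVc : IsMulCommutative V] (hV : V ≠ ⊥)
    (hEV : E ≤ normalizer (V : Set G)) (hfpf : ∀ e ∈ E, e ≠ 1 → V ⊓ centralizer {e} = ⊥) :
    Group.IsNilpotent E := by
  by_cases hE2 : 2 ∣ Nat.card E
  · haveI : Fact (Nat.Prime 2) := ⟨Nat.prime_two⟩
    obtain ⟨t, ht⟩ := exists_prime_orderOf_dvd_card' (G := E) 2 hE2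
    have hto : orderOf (t : G) = 2 := by rw [Subgroup.orderOf_coe, ht]
    have htt : (t : G) * t = 1 := by rw [← pow_two, ← hto, pow_orderOf_eq_one]
    have ht1 : (t : G) ≠ 1 := by
      intro h; rw [h, orderOf_one] at hto; omega
    obtain ⟨v, hv, hv1⟩ := (Subgroup.bot_or_exists_ne_one V).resolve_left hV
    have hle : E ≤ centralizer {(t : G)} := by
      intro e he
      set t' := e * t * e⁻¹ with ht'
      have ht'E : t' ∈ E := E.mul_mem (E.mul_mem he t.2) (E.inv_mem he)
      have ht't' : t' * t' = 1 := by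
        rw [ht']
        calc e * t * e⁻¹ * (e * t * e⁻¹) = e * (t * t) * e⁻¹ := by group
          _ = 1 := by rw [htt]; group
      have ht'1 : t' ≠ 1 := by
        intro h
        apply ht1
        have : (t : G) = e⁻¹ * t' * e := by rw [ht']; group
        rw [this, h]; group
      have i1 := inverts_of_fpf htt (hEV t.2) (hfpf _ t.2 ht1)
      have i2 := inverts_of_fpf ht't' (hEV ht'E) (hfpf _ ht'E ht'1)
      have h3 : (t : G) * t' = 1 := by
        by_contra hne
        have h4 : v ∈ V ⊓ centralizer {(t : G) * t'} := by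
          refine ⟨hv, ?_⟩
          show v ∈ centralizer {(t : G) * t'}
          rw [mem_centralizer_singleton_iff]
          have h5 : (t : G) * (t' * v * t'⁻¹) * (t : G)⁻¹ = v := by
            rw [i2 v hv, i1 _ (V.inv_mem hv), inv_inv]
          calc v * (t * t') = ((t : G) * (t' * v * t'⁻¹) * (t : G)⁻¹) * (t * t') := by rw [h5]
            _ = t * t' * v := by group
        rw [hfpf _ (E.mul_mem t.2 ht'E) hne, mem_bot] at h4
        exact hv1 h4
      have h6 : t' = t := by
        have := eq_inv_of_mul_eq_one_right h3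
        rw [this]; exact inv_eq_of_mul_eq_one_left htt
      rw [mem_centralizer_singleton_iff]
      calc e * t = (e * t * e⁻¹) * e := by group
        _ = t * e := by rw [← ht', h6]
    exact nilpotent_of_le hle (hCN _ ht1)
  · -- odd case
    have hZ : IsZGroup E := by
      refine ⟨fun p hp P => ?_⟩
      haveI := Fact.mk hp
      by_cases hp2 : p = 2
      · subst hp2
        have h1 : Nat.card (P : Subgroup E) = 1 := by
          obtain ⟨k, hk⟩ := IsPGroup.iff_card.mp P.isPGroup'
          rcases Nat.eq_zero_or_pos k with h0 | h0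
          · rw [hk, h0, pow_zero]
          · exact absurd ((dvd_pow_self 2 h0.ne').trans (hk ▸ Subgroup.card_subgroup_dvd_card _)) hE2
        have h2 : (P : Subgroup E) = ⊥ := (Subgroup.card_eq_one).mp h1
        show IsCyclic (P : Subgroup E)
        rw [h2]; infer_instance
      · have h1 := sylow_cyclic_of_fpf (G := G) (P := (P : Subgroup E).map E.subtype) (V := V) hp2 (P.isPGroup'.map _) hV
          ((Subgroup.map_subtype_le _).trans hEV) (fun e he => hfpf e (Subgroup.map_subtype_le _ he))
        exact isCyclic_of_surjective (Subgroup.equivMapOfInjective (P : Subgroup E) E.subtype E.subtype_injective).symm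
          (Subgroup.equivMapOfInjective (P : Subgroup E) E.subtype E.subtype_injective).symm.surjective
    by_cases hEb : E = ⊥
    · subst hEb; infer_instance
    obtain ⟨A, q, hAE, hEA, hAb, hq, hAc, hAx⟩ := exists_minimal_normal_in E inferInstance hEb
    haveI := Fact.mk hq
    haveI := hAc
    have hAcyc := H1.Fpf.isCyclic_of_fpf_comm A V hV (hAE.trans hEV) (fun e he => hfpf e (hAE he))
    have hAcard := card_of_cyclic_exponent hq hAb hAcyc hAx
    have hAq : IsPGroup q A := H1.Hall.isPGroup_of_pow_eq_one hAx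
    obtain ⟨a, ha, ha1⟩ := (Subgroup.bot_or_exists_ne_one A).resolve_left hAb
    have hle : E ≤ centralizer (A : Set G) := by
      apply H1.Nilp.le_of_sylow_le
      intro s hs
      by_cases hsq : s = q
      · subst hsq
        obtain ⟨T, hAT, hT⟩ := exists_isSylIn_ge (p := s) hAq hAE
        obtain ⟨S, hS⟩ := hT.exists_sylow
        refine ⟨S, ?_⟩
        have hcyc : IsCyclic T := by
          have h2 : IsCyclic (S : Subgroup E) := inferInstance
          rw [hS] at h2
          exact isCyclic_of_surjective (Subgroup.subgroupOfEquivOfLe hT.le) (Subgroup.subgroupOfEquivOfLe hT.le).surjective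
        rw [hS, Subgroup.map_subgroupOf_eq_of_le hT.le]
        letI := hcyc
        exact (Subgroup.le_centralizer T).trans (centralizer_le hAT)
      · refine ⟨default, ?_⟩
        rintro _ ⟨y, hy, rfl⟩
        have hyE : (y : G) ∈ E := y.2
        obtain ⟨k, hk⟩ := (IsPGroup.iff_orderOf.mp (default : Sylow s E).isPGroup') ⟨y, hy⟩
        rw [Subgroup.orderOf_mk, ← Subgroup.orderOf_coe] at hk
        show (y : G) ∈ centralizer (A : Set G)
        by_cases hy1 : (y : G) = 1
        · rw [hy1]; exact Subgroup.one_mem _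
        -- y₀ of order s
        have hk0 : k ≠ 0 := by
          rintro rfl
          rw [pow_zero, orderOf_eq_one_iff] at hk
          exact hy1 hk
        have hsd : s ∣ orderOf (y : G) := hk ▸ dvd_pow_self s hk0
        set y0 := (y : G) ^ (orderOf (y : G) / s) with hy0
        have hy0o : orderOf y0 = s := orderOf_pow_orderOf_div (orderOf_pos _).ne' hsd
        have hy0E : y0 ∈ E := E.pow_mem hyE _
        have hy01 : y0 ≠ 1 := by
          intro h; rw [h, orderOf_one] at hy0o; exact hs.out.ne_one hy0o.symm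
        have hcop : (Nat.card A).Coprime (Nat.card (zpowers y0)) := by
          rw [hAcard, Nat.card_zpowers, hy0o]
          exact (Nat.coprime_primes hq hs.out).mpr (Ne.symm hsq)
        have hcard : Nat.card (A ⊔ zpowers y0 : Subgroup G) = q * s := by
          rw [H22.Basic.card_sup_of_coprime (by rw [zpowers_le]; exact hEA hy0E) hcop, hAcard, Nat.card_zpowers, hy0o]
        have hle' : A ⊔ zpowers y0 ≤ E := sup_le hAE (by rw [zpowers_le]; exact hy0E)
        have hcyc := H1.Fpf.isCyclic_of_fpf (A ⊔ zpowers y0) V hV (hle'.trans hEV)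
          (fun a ha => hfpf a (hle' ha)) (Or.inr ⟨q, s, hq, hs.out, hcard⟩)
        have hcomm : A ≤ centralizer ({y0} : Set G) := by
          letI := hcyc
          intro x hx
          rw [mem_centralizer_singleton_iff]
          have := mul_comm' (⟨x, mem_sup_left hx⟩ : (A ⊔ zpowers y0 : Subgroup G)) ⟨y0, mem_sup_right (mem_zpowers _)⟩
          exact congrArg Subtype.val this
        have hyc : zpowers (y : G) ≤ centralizer ({y0} : Set G) := by
          rw [zpowers_le, mem_centralizer_singleton_iff, hy0]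
          exact (Commute.self_pow _ _)
        have h3 := le_centralizer_of_nilpotent (hCN y0 hy01) hAq hcomm hyc (by
          rw [Nat.card_zpowers, hk]
          exact ((Nat.coprime_primes hs.out hq).mpr hsq).pow_left k)
        exact h3 (mem_zpowers _)
    refine nilpotent_of_le (hle.trans ?_) (hCN a ha1)
    apply centralizer_le
    rw [Set.singleton_subset_iff]; exact ha

/-- A normal complement `N` of `E` on which `E` acts fixed-point-freely: `E` is a TI-subgroup. -/
theorem ti_of_fpf {N E : Subgroup G} [hN : N.Normal] (hNE : N ⊔ E = ⊤) (hdis : N ⊓ E = ⊥)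
    (hfpf : ∀ e ∈ E, e ≠ 1 → N ⊓ centralizer {e} = ⊥) (g : G) (hg : g ∉ E) : E ⊓ MulAut.conj g • E = ⊥ := by
  rw [eq_bot_iff]
  intro x hx
  rw [mem_bot]
  by_contra hx1
  have hg' : g ∈ N ⊔ E := hNE ▸ mem_top g
  rw [H22.Basic.mem_sup_of_le_normalizer (Core.le_normalizer_of_normal _ _)] at hg'
  obtain ⟨n, hn, e, he, rfl⟩ := hg'
  have h1 : (n * e)⁻¹ * x * (n * e) ∈ E := H1.Basic.mem_conj.mp hx.2
  have h2 : n⁻¹ * x * n ∈ E := by
    have := E.mul_mem (E.mul_mem he h1) (E.inv_mem he)
    have e1 : e * ((n * e)⁻¹ * x * (n * e)) * e⁻¹ = n⁻¹ * x * n := by group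
    rwa [e1] at this
  have h3 : n⁻¹ * x * n * x⁻¹ ∈ N ⊓ E := by
    refine ⟨?_, E.mul_mem h2 (E.inv_mem hx.1)⟩
    have : n⁻¹ * (x * n * x⁻¹) ∈ N := N.mul_mem (N.inv_mem hn) (hN.conj_mem n hn x)
    have e1 : n⁻¹ * x * n * x⁻¹ = n⁻¹ * (x * n * x⁻¹) := by group
    rw [e1]; exact this
  rw [hdis, mem_bot] at h3
  have h4 : n ∈ N ⊓ centralizer {x} := by
    refine ⟨hn, ?_⟩
    show n ∈ centralizer {x}
    rw [mem_centralizer_singleton_iff]
    have : n⁻¹ * x * n = x := by rwa [mul_inv_eq_one] at h3
    calc n * x = n * (n⁻¹ * x * n) := by rw [this]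
      _ = x * n := by group
  rw [hfpf x hx.1 hx1, mem_bot] at h4
  subst h4
  apply hg
  rw [one_mul]; exact he

theorem exists_prime_order_pow {x : G} (hx : x ≠ 1) (hfin : orderOf x ≠ 0) : ∃ (p n : ℕ), p.Prime ∧ orderOf (x ^ n) = p := by
  obtain ⟨p, hp, hpd⟩ := Nat.exists_prime_and_dvd (show orderOf x ≠ 1 by rwa [Ne, orderOf_eq_one_iff])
  exact ⟨p, _, hp, orderOf_pow_orderOf_div hfin hpd⟩

/-- S1474 -/
theorem cn_normal_sylow [Finite G] (hCN : IsCNGroup G) (hnn : ¬ Group.IsNilpotent G) (p : ℕ) [hp : Fact p.Prime] (P : Sylow p G)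
    (hP1 : (P : Subgroup G) ≠ ⊥) (hPn : (P : Subgroup G).Normal) :
    fittingHall G ≠ ⊥ ∧ fittingHall G ≠ ⊤ ∧
      (∃ E : Subgroup G, Subgroup.IsComplement' (fittingHall G) E ∧ IsFrobeniusComplement E ∧
        ∀ e ∈ E, e ≠ 1 → fittingHall G ⊓ Subgroup.centralizer ({e} : Set G) = ⊥) ∧
      Group.IsNilpotent (G ⧸ fittingHall G) := by
  set F := fittingHall G with hF
  obtain ⟨hFn, hFnil, hFc⟩ := Core.fittingHall_spec (G := G)
  rw [← hF] at hFn hFnil hFc
  have hPF : (P : Subgroup G) ≤ F := by
    apply Core.le_fittingHall hPn P.isPGroup'.isNilpotent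
    obtain ⟨k, hk⟩ := IsPGroup.iff_card.mp P.isPGroup'
    rw [hk]
    apply Nat.Coprime.pow_left
    rw [hp.out.coprime_iff_not_dvd]
    exact P.not_dvd_index
  have hFb : F ≠ ⊥ := fun h => hP1 (le_bot_iff.mp (h ▸ hPF))
  have hFt : F ≠ ⊤ := by
    intro h
    apply hnn
    rw [h] at hFnil
    exact Group.nilpotent_of_surjective (Subgroup.topEquiv (G := G)).toMonoidHom (Subgroup.topEquiv (G := G)).surjective
  obtain ⟨E, hE⟩ := Subgroup.exists_right_complement'_of_coprime hFc
  have hEidx : Nat.card E = F.index := hE.symm.index_eq_card.symm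
  have hFE : F ⊔ E = ⊤ := hE.sup_eq_top
  have hFEd : F ⊓ E = ⊥ := hE.disjoint.eq_bot
  -- fixed point freeness
  have hfpf : ∀ e ∈ E, e ≠ 1 → F ⊓ centralizer ({e} : Set G) = ⊥ := by
    intro e0 he0 he01
    obtain ⟨r, n, hr, hen⟩ := exists_prime_order_pow he01 (orderOf_pos _).ne'
    haveI := Fact.mk hr
    set e := e0 ^ n with hedef
    have heE : e ∈ E := E.pow_mem he0 n
    have he1 : e ≠ 1 := by intro h; rw [h, orderOf_one] at hen; exact hr.ne_one hen.symm
    have hrE : r ∣ Nat.card E := by
      rw [← hen, ← Nat.card_zpowers]; exact card_dvd_of_le (by rwa [zpowers_le])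
    have hrF : ¬ r ∣ Nat.card F := by
      intro h
      rw [hEidx] at hrE
      exact Nat.not_coprime_of_dvd_of_dvd hr.one_lt h hrE hFc
    rw [eq_bot_iff]
    intro x0 hx0
    rw [mem_bot]
    by_contra hx01
    obtain ⟨s, m, hs, hxm⟩ := exists_prime_order_pow hx01 (orderOf_pos _).ne'
    haveI := Fact.mk hs
    set x := x0 ^ m with hxdef
    have hxF : x ∈ F := F.pow_mem hx0.1 m
    have hx1 : x ≠ 1 := by intro h; rw [h, orderOf_one] at hxm; exact hs.ne_one hxm.symm
    have hxe : x ∈ centralizer ({e} : Set G) :=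
      Subgroup.pow_mem _ (centralizer_singleton_le_pow e0 n hx0.2) m
    have hex : e ∈ centralizer ({x} : Set G) := by
      rw [mem_centralizer_singleton_iff] at hxe ⊢
      exact hxe.symm
    have hsF : s ∣ Nat.card F := by
      rw [← hxm, ← Nat.card_zpowers]; exact card_dvd_of_le (by rwa [zpowers_le])
    have hrs : r ≠ s := fun h => hrF (h ▸ hsF)
    have hxs : IsPGroup s (zpowers x) := IsPGroup.of_card (n := 1) (by rw [Nat.card_zpowers, hxm, pow_one])
    obtain ⟨S, hxS, hS⟩ := exists_isSylIn_ge (p := s) hxs (show zpowers x ≤ F by rwa [zpowers_le])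
    -- S normal in G
    have hSn : S.Normal := by
      refine ⟨fun y hy g => ?_⟩
      have h1 : IsSylIn s (cj g S) F := by
        have := hS.cj g
        rwa [cj_eq_of_normal g F] at this
      obtain ⟨c, hc, hcQ⟩ := hS.exists_conj_eq h1
      rw [cj_eq_of_mem_normalizer (le_normalizer_sylow_of_nilpotent hFnil h1 hc)] at hcQ
      rw [← hcQ]; exact conj_mem_cj hy
    have hSb : S ≠ ⊥ := by
      rintro rfl
      exact hx1 (mem_bot.mp (hxS (mem_zpowers x)))
    obtain ⟨z, hz, hz1⟩ := (Subgroup.bot_or_exists_ne_one _).resolve_left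
      (H1.Fpf.inf_centralizer_ne_bot hS.isPGroup hS.isPGroup hSb le_normalizer)
    have hcopR : ∀ R : Subgroup G, IsPGroup r R → (Nat.card R).Coprime s := by
      intro R hR
      obtain ⟨k, hk⟩ := IsPGroup.iff_card.mp hR
      rw [hk]; exact ((Nat.coprime_primes hr hs).mpr hrs).pow_left k
    have her : IsPGroup r (zpowers e) := IsPGroup.of_card (n := 1) (by rw [Nat.card_zpowers, hen, pow_one])
    -- e commutes with z
    have hez : zpowers e ≤ centralizer (zpowers z : Set G) := by
      apply le_centralizer_of_nilpotent (hCN x hx1) (hS.isPGroup.to_le (by rw [zpowers_le]; exact hz.1))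
      · rw [zpowers_le, mem_centralizer_singleton_iff]
        exact ((mem_centralizer_iff.mp hz.2) x (hxS (mem_zpowers x))).symm
      · rwa [zpowers_le]
      · exact hcopR _ her
    rw [centralizer_zpowers_eq] at hez
    have hSz : S ≤ centralizer ({z} : Set G) := by
      intro y hy
      rw [mem_centralizer_singleton_iff]
      exact (mem_centralizer_iff.mp hz.2) y hy
    have heS : zpowers e ≤ centralizer (S : Set G) :=
      le_centralizer_of_nilpotent (hCN z hz1) hS.isPGroup hSz hez (hcopR _ her)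
    -- D = C_G(S) normal nilpotent
    set D := centralizer (S : Set G) with hD
    haveI := hSn
    have hDn : D.Normal := inferInstance
    have hDnil : Group.IsNilpotent D := nilpotent_of_le (centralizer_le (by
      rw [Set.singleton_subset_iff]; exact hz.1)) (hCN z hz1)
    obtain ⟨R0, heR0, hR0⟩ := exists_isSylIn_ge (p := r) her heS
    have hR0n : R0.Normal := by
      refine ⟨fun y hy g => ?_⟩
      have h1 : IsSylIn r (cj g R0) D := by
        have := hR0.cj g
        rwa [cj_eq_of_normal g D] at this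
      obtain ⟨c, hc, hcQ⟩ := hR0.exists_conj_eq h1
      rw [cj_eq_of_mem_normalizer (le_normalizer_sylow_of_nilpotent hDnil h1 hc)] at hcQ
      rw [← hcQ]; exact conj_mem_cj hy
    have hR0b : R0 ≠ ⊥ := by
      rintro rfl
      exact he1 (mem_bot.mp (heR0 (mem_zpowers e)))
    obtain ⟨R, hR0R, hR⟩ := exists_isSylIn_ge (p := r) hR0.isPGroup (le_top : R0 ≤ ⊤)
    obtain ⟨u, hu, hu1⟩ := (Subgroup.bot_or_exists_ne_one _).resolve_left
      (H1.Fpf.inf_centralizer_ne_bot hR.isPGroup hR0.isPGroup hR0b (Core.le_normalizer_of_normal _ _))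
    have hRD : R ≤ D := by
      apply le_centralizer_of_nilpotent (hCN u hu1) hS.isPGroup _ _ (hcopR _ hR.isPGroup)
      · intro y hy
        rw [mem_centralizer_singleton_iff]
        exact (mem_centralizer_iff.mp (hR0.le hu.1)) y hy
      · intro y hy
        rw [mem_centralizer_singleton_iff]
        exact (mem_centralizer_iff.mp hu.2 y hy)
    have hRR0 := hR0.eq_of_le hR.isPGroup hRD hR0R
    have hRF : R ≤ F := by
      apply Core.le_fittingHall (hRR0 ▸ hR0n) hR.isPGroup.isNilpotent
      obtain ⟨k, hk⟩ := IsPGroup.iff_card.mp hR.isPGroup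
      rw [hk]
      apply Nat.Coprime.pow_left
      rw [hr.coprime_iff_not_dvd]
      have := hR.not_dvd
      rwa [Subgroup.relIndex_top_right] at this
    apply hrF
    have : r ∣ Nat.card R0 := by
      rw [← hen, ← Nat.card_zpowers]; exact card_dvd_of_le heR0
    exact this.trans (card_dvd_of_le (hR0R.trans hRF))
  have hEb : E ≠ ⊥ := by
    rintro rfl
    rw [Subgroup.card_bot] at hEidx
    exact hFt (Subgroup.index_eq_one.mp hEidx.symm)
  have hEt : E ≠ ⊤ := by
    rintro rfl
    rw [inf_top_eq] at hFEd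
    exact hFb hFEd
  refine ⟨hFb, hFt, ⟨E, hE, ⟨hEb, hEt, fun g hg => ti_of_fpf hFE hFEd hfpf g hg⟩, hfpf⟩, ?_⟩
  -- E nilpotent
  haveI := hFn
  haveI hVn : (F ⊓ centralizer (F : Set G)).Normal := inferInstance
  have hVc : IsMulCommutative (F ⊓ centralizer (F : Set G) : Subgroup G) := by
    rw [← le_centralizer_iff_isMulCommutative]
    exact inf_le_right.trans (centralizer_le inf_le_left)
  have hVb : F ⊓ centralizer (F : Set G) ≠ ⊥ := by
    haveI : Nontrivial F := (Subgroup.nontrivial_iff_ne_bot F).mpr hFb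
    haveI := hFnil
    have h1 := H1.Nilp.normal_inf_center_ne_bot (G := F) ⊤ top_ne_bot
    rw [top_inf_eq] at h1
    obtain ⟨z, hz, hz1⟩ := (Subgroup.bot_or_exists_ne_one (center F)).resolve_left h1
    intro h
    apply hz1
    have h2 : (z : G) ∈ F ⊓ centralizer (F : Set G) := by
      refine ⟨z.2, ?_⟩
      show (z : G) ∈ centralizer (F : Set G)
      rw [mem_centralizer_iff]
      intro y hy
      exact congrArg Subtype.val ((mem_center_iff.mp hz) ⟨y, hy⟩)
    rw [h, mem_bot] at h2
    exact Subtype.ext h2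
  have hEnil : Group.IsNilpotent E := by
    haveI := hVc
    apply nilpotent_of_fpf hCN E (F ⊓ centralizer (F : Set G)) hVb (Core.le_normalizer_of_normal _ _)
    intro e he he1
    rw [eq_bot_iff, ← hfpf e he he1]
    exact inf_le_inf_right _ inf_le_left
  haveI := hEnil
  exact Group.nilpotent_of_surjective (hE.symm.QuotientMulEquiv).symm.toMonoidHom (hE.symm.QuotientMulEquiv).symm.surjective

end Cfsg.Agent.H12.CN
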