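import Mathlib
import Cfsg.Prelude.Def_Solvable
import Cfsg.Agent.H1_Coprime2
import Cfsg.Agent.H1_Fpf
import Cfsg.Agent.H1_Fixed
import Cfsg.Agent.H23_PQuat

/-! Sylow subgroups of fixed-point-free complements. -/

namespace Cfsg.Agent.H24.FrobSyl

open Cfsg.Agent

variable {G : Type*} [Group G]

theorem coprime_of_fpf [Finite G] (K H : Subgroup G) [hKn : K.Normal]
    (hfpf : ∀ h ∈ H, h ≠ 1 → K ⊓ Subgroup.centralizer {h} = ⊥) :
    (Nat.card H).Coprime (Nat.card K) := by
  rw [Nat.coprime_iff_gcd_eq_one]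
  by_contra hne
  obtain ⟨p, hp, hdvd⟩ := Nat.exists_prime_and_dvd hne
  have : Fact p.Prime := ⟨hp⟩
  obtain ⟨x, hx⟩ := exists_prime_orderOf_dvd_card' (G := H) p (hdvd.trans (Nat.gcd_dvd_left _ _))
  have hx' : orderOf (x : G) = p := by rw [Subgroup.orderOf_coe]; exact hx
  have hx1 : (x : G) ≠ 1 := by
    intro h; rw [h, orderOf_one] at hx'; exact hp.one_lt.ne hx'
  -- x acts on K; |K| divisible by p: fixed points
  have hfp := hfpf x x.2 hx1
  let f : MulAut K := MulAut.conjNormal (x : G)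
  have h1 : Nat.card K ≡ 1 [MOD p] := by
    have hz : IsPGroup p (Subgroup.zpowers (x : G)) := by
      apply IsPGroup.of_card (n := 1)
      rw [Nat.card_zpowers, hx', pow_one]
    let act : MulAction (Subgroup.zpowers (x : G)) K :=
      MulAction.compHom K ((MulAut.conjNormal (H := K)).comp (Subgroup.zpowers (x : G)).subtype)
    have := hz.card_modEq_card_fixedPoints K
    have hfix : MulAction.fixedPoints (Subgroup.zpowers (x : G)) K = {1} := by
      ext k
      rw [MulAction.mem_fixedPoints, Set.mem_singleton_iff]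
      constructor
      · intro h
        have h2 := h ⟨x, Subgroup.mem_zpowers _⟩
        have h3 : (x : G) * k * (x : G)⁻¹ = k := congrArg Subtype.val h2
        have h4 : (k : G) ∈ K ⊓ Subgroup.centralizer {(x : G)} := by
          refine Subgroup.mem_inf.mpr ⟨k.2, ?_⟩
          rw [Subgroup.mem_centralizer_singleton_iff]
          exact (mul_inv_eq_iff_eq_mul.mp h3).symm
        rw [hfp, Subgroup.mem_bot] at h4
        exact Subtype.ext h4
      · rintro rfl g
        change MulAut.conjNormal (H := K) (g : G) 1 = 1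
        exact map_one _
    rw [hfix] at this
    simpa using this
  have h2 : p ∣ Nat.card K := hdvd.trans (Nat.gcd_dvd_right _ _)
  have h3 := (Nat.modEq_zero_iff_dvd.mpr h2).symm.trans h1
  have h4 := (Nat.modEq_iff_dvd' (Nat.zero_le 1)).mp h3
  exact hp.one_lt.ne' (Nat.dvd_one.mp h4)

/-- abelian subgroups of fixed-point-free operators are cyclic -/
theorem isCyclic_of_abelian [Finite G] (K H : Subgroup G) [hKn : K.Normal] (hK : K ≠ ⊥)
    (hfpf : ∀ h ∈ H, h ≠ 1 → K ⊓ Subgroup.centralizer {h} = ⊥) (A : Subgroup G) (hAH : A ≤ H)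
    [hA : IsMulCommutative A] : IsCyclic A := by
  have hcop := coprime_of_fpf K H hfpf
  have hcopA : (Nat.card A).Coprime (Nat.card K) :=
    Nat.Coprime.coprime_dvd_left (Subgroup.card_dvd_of_le hAH) hcop
  have hAK : A ≤ Subgroup.normalizer (K : Set G) := fun a _ => by
    rw [Subgroup.normalizer_eq_top]; trivial
  have hsolv : Group.IsSolvable A := Group.isSolvable_of_comm (fun a b => hA.is_comm.comm a b)
  obtain ⟨q, hq, hqK⟩ := Nat.exists_prime_and_dvd (Subgroup.one_lt_card_iff_ne_bot K |>.mpr hK).ne'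
  have : Fact q.Prime := ⟨hq⟩
  obtain ⟨Q, hQ⟩ := H1.Coprime.invariant_sylow_exists A K hAK hcopA (Or.inl hsolv) q
  set S : Subgroup G := (Q : Subgroup K).map K.subtype with hS
  have hScard : Nat.card S = Nat.card Q := Subgroup.card_map_of_injective K.subtype_injective
  have hQne : Nontrivial (Q : Subgroup K) := by
    rw [← Finite.one_lt_card_iff_nontrivial]
    exact (Subgroup.one_lt_card_iff_ne_bot _).mpr (Q.ne_bot_of_dvd_card hqK)
  have hSne : Nontrivial S := by
    rw [← Finite.one_lt_card_iff_nontrivial, hScard]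
    exact Finite.one_lt_card_iff_nontrivial.mpr hQne
  have hSp : IsPGroup q S := Q.isPGroup'.map K.subtype
  have hZ : Nontrivial (Subgroup.center S) := hSp.center_nontrivial
  let V : Subgroup G := (Subgroup.center S).map S.subtype
  have hVne : V ≠ ⊥ := by
    intro h
    have := (Subgroup.map_eq_bot_iff_of_injective _ S.subtype_injective).mp h
    exact (Subgroup.nontrivial_iff_ne_bot _).mp hZ this
  have hVcomm : IsMulCommutative V := by
    refine ⟨⟨?_⟩⟩
    rintro ⟨_, ⟨a, ha, rfl⟩⟩ ⟨_, ⟨b, hb, rfl⟩⟩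
    apply Subtype.ext
    have := (Subgroup.mem_center_iff.mp ha b)
    exact (congrArg Subtype.val this).symm
  have hAV : A ≤ Subgroup.normalizer (V : Set G) := by
    intro a ha
    have h1 := hQ ha
    have key : ∀ a ∈ Subgroup.normalizer (S : Set G), ∀ v ∈ V, a * v * a⁻¹ ∈ V := by
      rintro a ha _ ⟨v, hv, rfl⟩
      have h2 : a * (v : G) * a⁻¹ ∈ S := (Subgroup.mem_normalizer_iff.mp ha _).mp v.2
      refine ⟨⟨_, h2⟩, ?_, rfl⟩
      refine Subgroup.mem_center_iff.mpr (fun s => Subtype.ext ?_)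
      change (s : G) * (a * (v : G) * a⁻¹) = a * (v : G) * a⁻¹ * s
      have h3 : a⁻¹ * (s : G) * a ∈ S := by
        have := (Subgroup.mem_normalizer_iff.mp ((Subgroup.normalizer (S : Set G)).inv_mem ha) (s : G)).mp s.2
        rwa [inv_inv] at this
      have h4 := Subgroup.mem_center_iff.mp hv ⟨_, h3⟩
      have h5 : a⁻¹ * (s : G) * a * (v : G) = (v : G) * (a⁻¹ * (s : G) * a) := congrArg Subtype.val h4
      calc (s : G) * (a * (v : G) * a⁻¹) = a * (a⁻¹ * (s : G) * a * (v : G)) * a⁻¹ := by group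
        _ = a * ((v : G) * (a⁻¹ * (s : G) * a)) * a⁻¹ := by rw [h5]
        _ = _ := by group
    rw [Subgroup.mem_normalizer_iff]
    intro v
    constructor
    · exact fun hv => key a h1 v hv
    · intro hv
      have := key a⁻¹ ((Subgroup.normalizer (S : Set G)).inv_mem h1) _ hv
      have h6 : a⁻¹ * (a * v * a⁻¹) * a⁻¹⁻¹ = v := by group
      rwa [h6] at this
  have hVK : V ≤ K := by
    refine (Subgroup.map_subtype_le _).trans ?_
    exact Subgroup.map_subtype_le _
  exact H1.Fpf.isCyclic_of_fpf_comm A V hVne hAV (fun a ha ha1 => by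
    rw [eq_bot_iff, ← hfpf a (hAH ha) ha1]
    exact inf_le_inf_right _ hVK)

/-- `p`-subgroups of fixed-point-free operators are cyclic or generalized quaternion -/
theorem pgroup_type [Finite G] (K H : Subgroup G) [hKn : K.Normal] (hK : K ≠ ⊥)
    (hfpf : ∀ h ∈ H, h ≠ 1 → K ⊓ Subgroup.centralizer {h} = ⊥) (P : Subgroup G) (hPH : P ≤ H)
    {p : ℕ} [Fact p.Prime] (hP : IsPGroup p P) :
    IsCyclic P ∨ (p = 2 ∧ ∃ n : ℕ, Nonempty (P ≃* QuaternionGroup (2 ^ n))) := by
  apply H23.PQuat.cyclic_or_quaternion_of_abelian hP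
  intro A hA _
  have e := Subgroup.equivMapOfInjective A P.subtype P.subtype_injective
  have hA' : IsMulCommutative (A.map P.subtype) := by
    refine ⟨⟨?_⟩⟩
    rintro ⟨_, ⟨a, ha, rfl⟩⟩ ⟨_, ⟨b, hb, rfl⟩⟩
    apply Subtype.ext
    have := congrArg Subtype.val (hA.is_comm.comm ⟨a, ha⟩ ⟨b, hb⟩)
    have h2 : a * b = b * a := this
    exact congrArg P.subtype h2
  have := isCyclic_of_abelian K H hK hfpf (A.map P.subtype) ((Subgroup.map_subtype_le A).trans hPH)
  exact isCyclic_of_surjective e.symm e.symm.surjective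

end Cfsg.Agent.H24.FrobSyl
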