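import Mathlib
import Cfsg.Agent.H12_CN3
import Cfsg.Agent.H12_Hall
import Cfsg.Agent.H12_RepF
import Cfsg.Agent.H12_BG10c
import Cfsg.Agent.H24_FrobSyl
import Cfsg.Agent.H12_P36a
import Cfsg.Agent.H22_PSolv

/-! CN-groups IV: solvable CN-groups -/

set_option autoImplicit false
set_option linter.unusedSectionVars false

open Pointwise
open scoped commutatorElement

namespace Cfsg.Agent.H12.CN

open Cfsg Subgroup H13.Syl H12.BG10

universe u

variable {G : Type u} [Group G] [Finite G]

theorem coprime_of_isPGroup {q r : ℕ} (hq : q.Prime) (hr : r.Prime) (hqr : q ≠ r) {A : Subgroup G} (hA : IsPGroup q A) :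
    (Nat.card A).Coprime r := by
  have : Fact q.Prime := ⟨hq⟩
  obtain ⟨k, hk⟩ := IsPGroup.iff_card.mp hA
  rw [hk]; exact ((Nat.coprime_primes hq hr).mpr hqr).pow_left k

theorem sylow_le_pCore_of_nilpotent {N P : Subgroup G} (hN : N.Normal) (hnil : Group.IsNilpotent N) {p : ℕ} [hp : Fact p.Prime]
    (hP : IsPGroup p P) (hPN : P ≤ N) : P ≤ pCore p G := by
  obtain ⟨T, hPT, hT⟩ := exists_isSylIn_ge hP hPN
  obtain ⟨S, hS⟩ := hT.exists_sylow
  have h1 := H1.Nilp.sylow_map_normal_of_nilpotent hN hnil S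
  rw [hS, H22.Basic.map_subtype_subgroupOf hT.1] at h1
  exact hPT.trans (H1.Nilp.le_pCore h1 hT.isPGroup)

/-- A `p`-subgroup of full size equal to `pCore` gives a normal Sylow subgroup. -/
theorem sylow_eq_pCore {p : ℕ} [hp : Fact p.Prime] {P : Subgroup G} (hP : IsSylIn p P ⊤) (h : P ≤ pCore p G) : P = pCore p G :=
  (hP.eq_of_le (H1.Nilp.pCore_isPGroup p) le_top h).symm

theorem pCore_le_sylow {p : ℕ} [hp : Fact p.Prime] {P : Subgroup G} (hP : IsSylIn p P ⊤) : pCore p G ≤ P := by
  have hn : (pCore p G).Normal := H1.Nilp.pCore_normal p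
  have h1 : IsPGroup p ↥(P ⊔ pCore p G) :=
    IsPGroup.to_sup_of_normal_right' hP.isPGroup (H1.Nilp.pCore_isPGroup p) (Core.le_normalizer_of_normal _ _)
  have h2 := hP.eq_of_le h1 le_top le_sup_left
  rw [← h2]; exact le_sup_right

/-- one prime in the Fitting subgroup -/
theorem pCore_eq_bot_of_cn (hCN : IsCNGroup G) {p q : ℕ} [hp : Fact p.Prime] [hq : Fact q.Prime] (hpq : p ≠ q)
    (hns : ∀ P : Subgroup G, IsSylIn p P ⊤ → P.Normal → P = ⊥) (hpc : pCore p G ≠ ⊥) : pCore q G = ⊥ := by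
  by_contra hqc
  obtain ⟨P, hP⟩ := exists_isSylIn (p := p) (⊤ : Subgroup G)
  have hV := pCore_le_sylow hP
  have hVn : (pCore p G).Normal := H1.Nilp.pCore_normal p
  have hWn : (pCore q G).Normal := H1.Nilp.pCore_normal q
  obtain ⟨x, hx, hx1⟩ := exists_ne_one (inf_centralizer_ne_bot hP.isPGroup hV (Core.le_normalizer_of_normal _ _) hpc)
  obtain ⟨hxV, hxP⟩ := Subgroup.mem_inf.1 hx
  have hWp : (Nat.card (pCore q G)).Coprime p := coprime_of_isPGroup hq.out hp.out hpq.symm (H1.Nilp.pCore_isPGroup q)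
  have hWx : pCore q G ≤ centralizer ({x} : Set G) := by
    have h1 := Fit.pCore_le_centralizer (G := G) hpq.symm
    refine h1.trans (centralizer_le ?_)
    rw [Set.singleton_subset_iff]; exact hxV
  have hPx : P ≤ centralizer ({x} : Set G) := by
    intro y hy
    rw [mem_centralizer_singleton_iff]
    exact (mem_centralizer_iff.mp hxP) y hy
  have hWP : pCore q G ≤ centralizer (P : Set G) :=
    le_centralizer_of_nilpotent (hCN x hx1) hP.isPGroup hPx hWx hWp
  have hPW : P ≤ centralizer (pCore q G : Set G) := by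
    rwa [Subgroup.le_centralizer_iff] at hWP
  obtain ⟨y, hyW, hy1⟩ := exists_ne_one hqc
  have hCnil : Group.IsNilpotent ↥(centralizer (pCore q G : Set G)) :=
    nilpotent_of_le (centralizer_le (by rw [Set.singleton_subset_iff]; exact hyW)) (hCN y hy1)
  have hCn : (centralizer (pCore q G : Set G)).Normal := inferInstance
  have h1 := sylow_le_pCore_of_nilpotent hCn hCnil hP.isPGroup hPW
  have h2 := sylow_eq_pCore hP h1
  have h3 := hns P hP (h2 ▸ hVn)
  exact hpc (h2 ▸ h3)

/-- the fixed-point-free statement (*) -/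
structure Core1 (G : Type u) [Group G] (p : ℕ) (V W : Subgroup G) : Prop where
  hV : V = pCore p G
  hVb : V ≠ ⊥
  hfit : fittingSubgroup G = V
  hW : W ≤ V
  hWn : W.Normal
  hWb : W ≠ ⊥
  hWc : W ≤ centralizer (W : Set G)
  hWx : ∀ w ∈ W, w ^ p = 1
  hVW : V ≤ centralizer (W : Set G)
  hCW : centralizer (W : Set G) ≤ V

theorem exists_core1 (hCN : IsCNGroup G) {p : ℕ} [hp : Fact p.Prime]
    (hns : ∀ P : Subgroup G, IsSylIn p P ⊤ → P.Normal → P = ⊥) (hpc : pCore p G ≠ ⊥) :
    ∃ V W : Subgroup G, Core1 G p V W := by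
  have hVn : (pCore p G).Normal := H1.Nilp.pCore_normal p
  have hVp : IsPGroup p (pCore p G) := H1.Nilp.pCore_isPGroup p
  have hfit : fittingSubgroup G = pCore p G := by
    apply le_antisymm _ (H1.Nilp.pCore_le_fitting p)
    rw [H1.Nilp.fitting_eq_iSup]
    refine iSup_le fun q => ?_
    have : Fact (q : ℕ).Prime := ⟨q.2⟩
    by_cases hqp : p = (q : ℕ)
    · rw [hqp]
    · rw [pCore_eq_bot_of_cn hCN hqp hns hpc]; exact bot_le
  have hVnn : (⊤ : Subgroup G) ≤ normalizer (OZ p (pCore p G) : Set G) := by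
    refine le_trans ?_ (normalizer_le_OZ p (pCore p G))
    rw [Subgroup.normalizer_eq_top]
  have hWn : (OZ p (pCore p G)).Normal := by
    rw [← Subgroup.normalizer_eq_top_iff, eq_top_iff]; exact hVnn
  have hWb : OZ p (pCore p G) ≠ ⊥ := OZ_ne_bot hVp hpc
  refine ⟨pCore p G, OZ p (pCore p G), rfl, hpc, hfit, OZ_le p _, hWn, hWb, ?_, ?_, ?_, ?_⟩
  · intro x hx
    rw [mem_OZ] at hx
    exact centralizer_le (OZ_le p (pCore p G)) hx.2.1
  · intro w hw
    rw [mem_OZ] at hw
    exact hw.2.2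
  · rw [Subgroup.le_centralizer_iff]
    intro x hx
    rw [mem_OZ] at hx
    exact hx.2.1
  · obtain ⟨z, hz, hz1⟩ := exists_ne_one hWb
    have hnil : Group.IsNilpotent ↥(centralizer (OZ p (pCore p G) : Set G)) :=
      nilpotent_of_le (centralizer_le (by rw [Set.singleton_subset_iff]; exact hz)) (hCN z hz1)
    have h1 := (H1.Nilp.le_fitting_iff (N := centralizer (OZ p (pCore p G) : Set G)) inferInstance).2 hnil
    rwa [hfit] at h1

theorem Core1.fpf {p : ℕ} [hp : Fact p.Prime] {V W : Subgroup G} (h : Core1 G p V W) (hCN : IsCNGroup G) {A : Subgroup G}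
    (hA : (Nat.card A).Coprime p) : ∀ a ∈ A, a ≠ 1 → V ⊓ centralizer ({a} : Set G) = ⊥ := by
  intro a ha ha1
  rw [eq_bot_iff]
  intro v hv
  obtain ⟨hvV, hva⟩ := Subgroup.mem_inf.1 hv
  rw [Subgroup.mem_bot]
  by_contra hv1
  apply ha1
  have hVp : IsPGroup p V := by rw [h.hV]; exact H1.Nilp.pCore_isPGroup p
  have hac : (Nat.card (zpowers a)).Coprime p :=
    Nat.Coprime.coprime_dvd_left (Subgroup.card_dvd_of_le (by rwa [zpowers_le])) hA
  have h1 : W ≤ centralizer ({v} : Set G) := by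
    intro x hx
    rw [mem_centralizer_singleton_iff]
    exact ((mem_centralizer_iff.1 (h.hVW hvV)) x hx)
  have h2 : zpowers a ≤ centralizer ({v} : Set G) := by
    rw [zpowers_le, mem_centralizer_singleton_iff]
    rw [mem_centralizer_singleton_iff] at hva
    exact hva.symm
  have h3 := le_centralizer_of_nilpotent (hCN v hv1) (hVp.to_le h.hW) h1 h2 hac
  have h4 : zpowers a ≤ V := h3.trans h.hCW
  have h5 : zpowers a = ⊥ := by
    have h6 := H12.Loc.inf_eq_bot_of_isPGroup hp.out (hVp.to_le h4) hac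
    rwa [inf_idem] at h6
  rwa [zpowers_eq_bot] at h5

/-- Frobenius groups: outside the kernel everything is fixed-point-free. -/
theorem fpf_outside {K E : Subgroup G} [hK : K.Normal] (hc : Subgroup.IsComplement' K E) (hE : IsFrobeniusComplement E)
    (hfpf : ∀ e ∈ E, e ≠ 1 → K ⊓ centralizer ({e} : Set G) = ⊥) {x : G} (hx : x ∉ K) : K ⊓ centralizer ({x} : Set G) = ⊥ := by
  have h1 : (K : Set G) ⊆ frobeniusKernel E := by
    intro k hk
    by_cases hk1 : k = 1
    · left; exact hk1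
    · right
      intro g hg
      apply hk1
      obtain ⟨e, he, hge⟩ := hg
      have h2 : e ∈ K := by
        have : g * e * g⁻¹ = k := hge
        have h3 := hK.conj_mem k hk g⁻¹
        rw [← this] at h3
        have e1 : g⁻¹ * (g * e * g⁻¹) * g⁻¹⁻¹ = e := by group
        rwa [e1] at h3
      have h3 : e ∈ K ⊓ E := Subgroup.mem_inf.2 ⟨h2, he⟩
      rw [hc.disjoint.eq_bot, Subgroup.mem_bot] at h3
      have : g * e * g⁻¹ = k := hge
      rw [← this, h3]; group
  have h2 : (K : Set G) = frobeniusKernel E := by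
    apply Set.eq_of_subset_of_ncard_le h1 _ (Set.toFinite _)
    have h3 := H1.Frob.card_kernel hE
    rw [← Nat.card_coe_set_eq, ← Nat.card_coe_set_eq, h3, hc.index_eq_card]
    exact le_rfl
  have h3 : x ∈ (frobeniusKernel E)ᶜ := by rw [← h2]; exact hx
  rw [H1.Frob.compl_kernel] at h3
  obtain ⟨hx1, g, hg⟩ := h3
  obtain ⟨e, he, hge⟩ := hg
  have hge' : g * e * g⁻¹ = x := hge
  have he1 : e ≠ 1 := by
    rintro rfl
    apply hx1; rw [← hge']; group
  have h4 := congrArg (cj g) (hfpf e he he1)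
  rw [cj_inf, cj_bot, cj_eq_of_normal, cj_centralizer_singleton, hge'] at h4
  exact h4

/-- If `p ≠ 2`, the order of `G` is odd. -/
theorem Core1.odd {p : ℕ} [hp : Fact p.Prime] {V W : Subgroup G} (h : Core1 G p V W) (hCN : IsCNGroup G) [hVn : V.Normal]
    (hQ : IsCNGroup (G ⧸ V)) (hQn : ¬ Group.IsNilpotent (G ⧸ V)) (hp2 : p ≠ 2) : ¬ 2 ∣ Nat.card G := by
  intro h2
  have : Fact (Nat.Prime 2) := ⟨Nat.prime_two⟩
  obtain ⟨t, ht⟩ := exists_prime_orderOf_dvd_card' (G := G) 2 h2
  have hVp : IsPGroup p V := by rw [h.hV]; exact H1.Nilp.pCore_isPGroup p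
  have := h.hWn
  have hWc : IsMulCommutative W := ⟨⟨fun a b => Subtype.ext (Subgroup.mem_centralizer_iff.1 (h.hWc b.2) a a.2)⟩⟩
  have key : ∀ s : G, orderOf s = 2 → ∀ v ∈ W, s * v * s⁻¹ = v⁻¹ := by
    intro s hs
    have hs2 : s * s = 1 := by rw [← pow_two, ← hs, pow_orderOf_eq_one]
    have hs1 : s ≠ 1 := by
      rintro rfl
      rw [orderOf_one] at hs
      exact absurd hs (by decide)
    apply inverts_of_fpf hs2 (Core.le_normalizer_of_normal ⊤ W (Subgroup.mem_top s))
    have h3 := h.fpf hCN (A := zpowers s) (by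
      rw [Nat.card_zpowers, hs]
      exact (Nat.coprime_primes Nat.prime_two hp.out).2 hp2.symm) s (mem_zpowers s) hs1
    rw [eq_bot_iff] at h3 ⊢
    exact (inf_le_inf_right _ h.hW).trans h3
  have hcen : ∀ g : G, ⁅g, t⁆ ∈ V := by
    intro g
    apply h.hCW
    rw [Subgroup.mem_centralizer_iff]
    intro w hw
    have h3 := key t ht
    have h4 := key (g * t * g⁻¹) (by
      rw [← ht]
      exact (MulAut.conj g).orderOf_eq t)
    have h5 : ⁅g, t⁆ = (g * t * g⁻¹) * t⁻¹ := by simp only [commutatorElement_def]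
    have hti : t⁻¹ = t := by
      apply inv_eq_of_mul_eq_one_left
      rw [← pow_two, ← ht, pow_orderOf_eq_one]
    have h6 : t⁻¹ * w * t = w⁻¹ := by
      have := h3 w hw
      rw [hti]
      rw [hti] at this
      exact this
    have h7 := h4 (w⁻¹) (inv_mem hw)
    rw [inv_inv] at h7
    -- (gtg⁻¹) (t⁻¹ w t) (gtg⁻¹)⁻¹ = w
    rw [← h6] at h7
    rw [h5]
    have h8 : (g * t * g⁻¹) * t⁻¹ * w = w * ((g * t * g⁻¹) * t⁻¹) := by
      calc (g * t * g⁻¹) * t⁻¹ * w = ((g * t * g⁻¹) * (t⁻¹ * w * t) * (g * t * g⁻¹)⁻¹) * ((g * t * g⁻¹) * t⁻¹) := by group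
        _ = w * ((g * t * g⁻¹) * t⁻¹) := by rw [h7]
    exact h8.symm
  have htV : t ∉ V := by
    intro htV
    have h3 := H12.Loc.inf_eq_bot_of_isPGroup hp.out (hVp.to_le ((zpowers_le).2 htV)) (B := zpowers t) (by
      rw [Nat.card_zpowers, ht]
      exact (Nat.coprime_primes Nat.prime_two hp.out).2 hp2.symm)
    rw [inf_idem, zpowers_eq_bot] at h3
    rw [h3, orderOf_one] at ht
    exact absurd ht (by decide)
  have h3 := hQ (QuotientGroup.mk' V t) (by
    intro h3
    rw [← MonoidHom.mem_ker, QuotientGroup.ker_mk'] at h3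
    exact htV h3)
  have h4 : centralizer ({QuotientGroup.mk' V t} : Set (G ⧸ V)) = ⊤ := by
    rw [eq_top_iff]
    rintro x -
    obtain ⟨g, rfl⟩ := QuotientGroup.mk'_surjective V x
    rw [mem_centralizer_singleton_iff]
    have h5 := hcen g
    rw [← QuotientGroup.ker_mk' V, MonoidHom.mem_ker, map_commutatorElement, commutatorElement_eq_one_iff_mul_comm] at h5
    exact h5
  apply hQn
  rw [h4] at h3
  exact Group.nilpotent_of_surjective (Subgroup.topEquiv (G := G ⧸ V)).toMonoidHom (Subgroup.topEquiv (G := G ⧸ V)).surjective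

theorem three_step (hsol : Group.IsSolvable G) (hCN : IsCNGroup G) 
    (hns : ∀ p : ℕ, p.Prime → ∀ P : Subgroup G, IsSylIn p P ⊤ → P.Normal → P = ⊥) (hnt : Nontrivial G) :
    ∃ p : ℕ, p.Prime ∧ IsThreeStepGroup p G := by
  -- a prime with `O_p(G) ≠ 1`
  obtain ⟨p, hp, hpc⟩ : ∃ p : ℕ, p.Prime ∧ pCore p G ≠ ⊥ := by
    by_contra hne
    push Not at hne
    have h1 : fittingSubgroup G = ⊥ := by
      rw [eq_bot_iff, H1.Nilp.fitting_eq_iSup]
      refine iSup_le fun q => ?_
      rw [hne q q.2]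
    have h2 := H1.Hall.centralizer_fitting_le (G := G)
    rw [h1, ] at h2
    have h3 : centralizer ((⊥ : Subgroup G) : Set G) = ⊤ := by
      rw [eq_top_iff]
      intro x _
      rw [mem_centralizer_iff]
      intro y hy
      rw [Subgroup.mem_bot.1 hy, one_mul, mul_one]
    rw [h3, le_bot_iff] at h2
    exact (bot_ne_top (α := Subgroup G)) h2.symm
  have : Fact p.Prime := ⟨hp⟩
  obtain ⟨V, W, hc⟩ := exists_core1 hCN (hns p hp) hpc
  have hVn : V.Normal := by rw [hc.hV]; exact H1.Nilp.pCore_normal p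
  have hWn := hc.hWn
  have hVp : IsPGroup p V := by rw [hc.hV]; exact H1.Nilp.pCore_isPGroup p
  have hWab : IsMulCommutative W := ⟨⟨fun a b => Subtype.ext (Subgroup.mem_centralizer_iff.1 (hc.hWc b.2) a a.2)⟩⟩
  set π := QuotientGroup.mk' V with hπ
  have hπs : Function.Surjective π := QuotientGroup.mk'_surjective V
  have hQCN : IsCNGroup (G ⧸ V) := cn_quotient hCN V inferInstance
  have hQsol : Group.IsSolvable (G ⧸ V) := inferInstance
  have hpQ : p ∣ Nat.card (G ⧸ V) := by
    by_contra hd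
    have h1 : IsSylIn p V ⊤ := ⟨le_top, hVp, by rwa [Subgroup.relIndex_top_right, Subgroup.index_eq_card]⟩
    exact hc.hVb (hns p hp V h1 hVn)
  have hQp : pCore p (G ⧸ V) = ⊥ := by
    have hn' : (pCore p G).Normal := H1.Nilp.pCore_normal p
    have h1 := H22.PSolv.pCore_quotient (p := p) (G := G)
    have hVe := hc.hV
    subst hVe
    exact h1
  have hQn : ¬ Group.IsNilpotent (G ⧸ V) := by
    intro hnil
    obtain ⟨S, hS⟩ := exists_isSylIn (p := p) (⊤ : Subgroup (G ⧸ V))
    have hnil' : Group.IsNilpotent (⊤ : Subgroup (G ⧸ V)) := inferInstance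
    have h1 := sylow_le_pCore_of_nilpotent (N := ⊤) inferInstance hnil' hS.isPGroup le_top
    rw [hQp, le_bot_iff] at h1
    have h2 := hS.not_dvd
    rw [h1, Subgroup.relIndex_bot_left, Subgroup.card_top] at h2
    exact h2 hpQ
  have hodd : p ≠ 2 → ¬ 2 ∣ Nat.card G := hc.odd hCN hQCN hQn
  have hodd' : ∀ r : ℕ, r.Prime → r ≠ p → r ∣ Nat.card G → r ≠ 2 := by
    rintro r hr hrp hd rfl
    exact hodd (fun h => hrp h.symm) hd
  -- fixed-point-freeness on `W`
  have hfpfW : ∀ A : Subgroup G, (Nat.card A).Coprime p → ∀ a ∈ A, a ≠ 1 → W ⊓ centralizer ({a} : Set G) = ⊥ := by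
    intro A hA a ha ha1
    have h3 := hc.fpf hCN hA a ha ha1
    rw [eq_bot_iff] at h3 ⊢
    exact (inf_le_inf_right _ hc.hW).trans h3
  -- `K = F(G/V)`, `L` its preimage
  set K := fittingSubgroup (G ⧸ V) with hK
  have hKn : K.Normal := H1.Nilp.fitting_normal
  have hKnil : Group.IsNilpotent K := H1.Nilp.fitting_nilpotent
  have hQnt : Nontrivial (G ⧸ V) := by
    by_contra hne
    rw [not_nontrivial_iff_subsingleton] at hne
    apply hQn
    infer_instance
  have hCK : centralizer (K : Set (G ⧸ V)) ≤ K := H1.Hall.centralizer_fitting_le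
  have hKp : ¬ p ∣ Nat.card K := by
    intro hd
    obtain ⟨S, hS⟩ := exists_isSylIn (p := p) K
    have h1 := sylow_le_pCore_of_nilpotent hKn hKnil hS.isPGroup hS.1
    rw [hQp, le_bot_iff] at h1
    have h2 := hS.not_dvd
    rw [h1, Subgroup.relIndex_bot_left] at h2
    exact h2 hd
  set L := K.comap π with hL
  have hLn : L.Normal := hKn.comap π
  have hVL : V ≤ L := H1.Hall.le_comap_mk V K
  have hVLi : V.relIndex L = Nat.card K := H1.Hall.relIndex_comap_mk V K
  have hKcop : (Nat.card K).Coprime p := ((Nat.Prime.coprime_iff_not_dvd hp).2 hKp).symm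
  obtain ⟨k, hk⟩ := IsPGroup.iff_card.1 hVp
  obtain ⟨A, hAL, hAc, hAV, hAVL⟩ := H1.Coprime.sz_exists hVL (Core.le_normalizer_of_normal _ _) (by
    rw [hVLi, hk]; exact hKcop.symm.pow_left k)
  rw [hVLi] at hAc
  have hAp : (Nat.card A).Coprime p := by rw [hAc]; exact hKcop
  have hAK : A.map π = K := by
    have h1 : L.map π = K := Subgroup.map_comap_eq_self_of_surjective hπs K
    rw [← h1, ← hAVL, Subgroup.map_sup]
    have h2 : V.map π = ⊥ := by
      rw [Subgroup.map_eq_bot_iff, QuotientGroup.ker_mk']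
    rw [h2, sup_bot_eq]
  have hAinj : Function.Injective (π.subgroupMap A) := by
    rw [injective_iff_map_eq_one]
    intro a ha
    have h1 : π (a : G) = 1 := congrArg Subtype.val ha
    rw [← MonoidHom.mem_ker, QuotientGroup.ker_mk'] at h1
    have h2 : (a : G) ∈ A ⊓ V := Subgroup.mem_inf.2 ⟨a.2, h1⟩
    rw [hAV, Subgroup.mem_bot] at h2
    exact Subtype.ext h2
  have hAnil : Group.IsNilpotent A := by
    have h1 : Group.IsNilpotent ↥(A.map π) := by rw [hAK]; exact hKnil
    exact nilpotent_of_injective h1 _ hAinj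
  have hAnV : A ≤ normalizer (W : Set G) := Core.le_normalizer_of_normal _ _
  have hcycG : ∀ r : ℕ, r.Prime → r ≠ p → ∀ R : Subgroup G, IsPGroup r R → IsCyclic R := by
    intro r hr hrp R hR
    have : Fact r.Prime := ⟨hr⟩
    by_cases hRb : R = ⊥
    · rw [hRb]; infer_instance
    have hrd : r ∣ Nat.card G := by
      obtain ⟨m, hm⟩ := IsPGroup.iff_card.1 hR
      have h1 : r ∣ Nat.card R := by
        rw [hm]
        apply dvd_pow_self
        rintro rfl
        rw [pow_zero] at hm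
        exact hRb (Subgroup.card_eq_one.1 hm)
      exact h1.trans (Subgroup.card_subgroup_dvd_card R)
    refine sylow_cyclic_of_fpf (V := W) (hodd' r hr hrp hrd) hR hc.hWb (Core.le_normalizer_of_normal _ _) ?_
    exact hfpfW R (coprime_of_isPGroup hr hp hrp hR)
  have hAcyc : IsCyclic A := by
    have hZ : IsZGroup A := by
      constructor
      intro r hr S
      have : Fact r.Prime := ⟨hr⟩
      by_cases hrp : r = p
      · subst hrp
        have h1 : Nat.card S = 1 := by
          obtain ⟨m, hm⟩ := IsPGroup.iff_card.1 S.isPGroup'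
          rcases Nat.eq_zero_or_pos m with rfl | hm0
          · rw [hm, pow_zero]
          · exfalso
            have h2 : r ∣ Nat.card A := ((dvd_pow_self r hm0.ne').trans (hm ▸ dvd_rfl)).trans (Subgroup.card_subgroup_dvd_card (S : Subgroup A))
            exact (Nat.Prime.coprime_iff_not_dvd hr).1 hAp.symm h2
        have h2 : (S : Subgroup A) = ⊥ := Subgroup.card_eq_one.1 h1
        rw [h2]; infer_instance
      · have h1 := hcycG r hr hrp ((S : Subgroup A).map A.subtype) (S.isPGroup'.map _)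
        exact isCyclic_of_injective ((A.subtype.subgroupMap (S : Subgroup A))) (by
          intro a b hab
          have h2 : A.subtype (a : A) = A.subtype (b : A) := congrArg (fun z : ↥((S : Subgroup A).map A.subtype) => (z : G)) hab
          exact Subtype.ext (A.subtype_injective h2))
    infer_instance
  have hKcyc : IsCyclic K := by
    have h1 : IsCyclic ↥(A.map π) := isCyclic_of_surjective _ (π.subgroupMap_surjective A)
    rwa [hAK] at h1
  have hKab : ∀ x ∈ K, ∀ y ∈ K, x * y = y * x := by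
    intro x hx y hy
    have := IsCyclic.commGroup (α := K)
    exact congrArg Subtype.val (mul_comm' (⟨x, hx⟩ : K) ⟨y, hy⟩)
  have hcomm : commutator (G ⧸ V) ≤ K := by
    refine le_trans ?_ hCK
    exact P36.comm_le_centralizer_of_cyclic hKcyc (Core.le_normalizer_of_normal _ _) (Core.le_normalizer_of_normal _ _)
  -- `K` is Hall
  have hKsyl : ∀ q : ℕ, q.Prime → q ∣ Nat.card K → ∀ S : Subgroup (G ⧸ V), IsSylIn q S ⊤ → S ≤ K := by
    intro q hq hqK S hS
    have : Fact q.Prime := ⟨hq⟩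
    obtain ⟨T, hT⟩ := exists_isSylIn (p := q) K
    have h1 := sylow_le_pCore_of_nilpotent hKn hKnil hT.isPGroup hT.1
    have hTb : T ≠ ⊥ := by
      rintro rfl
      have := hT.not_dvd
      rw [Subgroup.relIndex_bot_left] at this
      exact this hqK
    have hcb : pCore q (G ⧸ V) ≠ ⊥ := fun h => hTb (le_bot_iff.1 (h ▸ h1))
    have hcn : (pCore q (G ⧸ V)).Normal := H1.Nilp.pCore_normal q
    obtain ⟨y, hy, hy1⟩ := exists_ne_one (inf_centralizer_ne_bot hS.isPGroup (pCore_le_sylow hS) (Core.le_normalizer_of_normal _ _) hcb)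
    obtain ⟨hyc, hyS⟩ := Subgroup.mem_inf.1 hy
    have hyK : y ∈ K := H1.Nilp.pCore_le_fitting q hyc
    have h2 : K ⊔ S ≤ centralizer ({y} : Set (G ⧸ V)) := by
      refine sup_le ?_ ?_
      · intro z hz
        rw [mem_centralizer_singleton_iff]
        exact hKab z hz y hyK
      · intro z hz
        rw [mem_centralizer_singleton_iff]
        exact (mem_centralizer_iff.mp hyS) z hz
    have h3 : (K ⊔ S).Normal := H1.Basic.normal_of_commutator_le (hcomm.trans le_sup_left)
    have h4 := (H1.Nilp.le_fitting_iff h3).2 (nilpotent_of_le h2 (hQCN y hy1))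
    exact le_sup_right.trans h4
  -- the fitting Hall subgroup
  have hKb : K ≠ ⊥ := by
    intro h0
    rw [h0] at hCK
    have h3 : centralizer ((⊥ : Subgroup (G ⧸ V)) : Set (G ⧸ V)) = ⊤ := by
      rw [eq_top_iff]
      intro x _
      rw [mem_centralizer_iff]
      intro y hy
      rw [Subgroup.mem_bot.1 hy, one_mul, mul_one]
    rw [h3, le_bot_iff] at hCK
    exact (bot_ne_top (α := Subgroup (G ⧸ V))) hCK.symm
  have hKHall : (Nat.card K).Coprime K.index := by
    apply coprime_of_forall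
    intro q hq hqK hqi
    have : Fact q.Prime := ⟨hq⟩
    obtain ⟨S, hS⟩ := exists_isSylIn (p := q) (⊤ : Subgroup (G ⧸ V))
    have h1 := hKsyl q hq hqK S hS
    have h2 : K.index ∣ S.index := Subgroup.index_dvd_of_le h1
    have h3 := hS.not_dvd
    rw [Subgroup.relIndex_top_right] at h3
    exact h3 (hqi.trans h2)
  have hFH : fittingHall (G ⧸ V) = K := by
    apply le_antisymm
    · obtain ⟨h1, h2, -⟩ := Core.fittingHall_spec (G := G ⧸ V)
      exact (H1.Nilp.le_fitting_iff h1).2 h2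
    · exact Core.le_fittingHall hKn hKnil hKHall
  obtain ⟨q0, hq0, hq0K⟩ := Nat.exists_prime_and_dvd (fun h => hKb (Subgroup.card_eq_one.1 h))
  have : Fact q0.Prime := ⟨hq0⟩
  obtain ⟨S0, hS0⟩ := exists_isSylIn (p := q0) (⊤ : Subgroup (G ⧸ V))
  have hS0K := hKsyl q0 hq0 hq0K S0 hS0
  have hS0n : S0.Normal := by
    have h1 := sylow_le_pCore_of_nilpotent hKn hKnil hS0.isPGroup hS0K
    rw [sylow_eq_pCore hS0 h1]
    exact H1.Nilp.pCore_normal q0
  obtain ⟨S0', hS0'⟩ := hS0.exists_sylow_top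
  obtain ⟨-, hKt, ⟨E, hE1, hE2, hE3⟩, -⟩ := cn_normal_sylow hQCN hQn q0 S0' (by
    rw [hS0']
    rintro rfl
    have := hS0.not_dvd
    rw [Subgroup.relIndex_bot_left, Subgroup.card_top] at this
    exact this (hq0K.trans (Subgroup.card_subgroup_dvd_card K))) (by rw [hS0']; exact hS0n)
  rw [hFH] at hKt hE1 hE3
  have hout : ∀ x : G ⧸ V, x ∉ K → K ⊓ centralizer ({x} : Set (G ⧸ V)) = ⊥ := fun x hx => fpf_outside hE1 hE2 hE3 hx
  -- `G/L` is a `p`-group
  have hLi : L.index = K.index := Subgroup.index_comap_of_surjective K hπs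
  have hidx : ∀ r : ℕ, r.Prime → r ∣ K.index → r = p := by
    intro r hr hrd
    by_contra hrp
    have : Fact r.Prime := ⟨hr⟩
    have hrG : r ∣ Nat.card G := by
      rw [← hLi] at hrd
      exact hrd.trans (Subgroup.index_dvd_card L)
    have hrK : ¬ r ∣ Nat.card K := fun h => Nat.Prime.not_coprime_iff_dvd.2 ⟨r, hr, h, hrd⟩ hKHall
    obtain ⟨e, he⟩ := exists_prime_orderOf_dvd_card' (G := G) r hrG
    have her : e ^ r = 1 := by rw [← he, pow_orderOf_eq_one]
    have heG : IsPGroup r (zpowers e) := IsPGroup.of_card (n := 1) (by rw [Nat.card_zpowers, he, pow_one])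
    have he1 : e ≠ 1 := by
      rintro rfl
      rw [orderOf_one] at he
      exact hr.one_lt.ne he
    have hecop : (Nat.card (zpowers e)).Coprime p := coprime_of_isPGroup hr hp hrp heG
    have heV : π e ≠ 1 := by
      intro h1
      rw [← MonoidHom.mem_ker, QuotientGroup.ker_mk'] at h1
      have h2 := H12.Loc.inf_eq_bot_of_isPGroup hp (hVp.to_le ((zpowers_le).2 h1)) hecop
      rw [inf_idem, zpowers_eq_bot] at h2
      exact he1 h2
    have heK : π e ∉ K := by
      intro h1
      apply hrK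
      have h2 : orderOf (π e) = r := by
        have h3 : (π e) ^ r = 1 := by rw [← map_pow, her, map_one]
        rcases (Nat.dvd_prime hr).1 (orderOf_dvd_of_pow_eq_one h3) with h4 | h4
        · rw [orderOf_eq_one_iff] at h4; exact absurd h4 heV
        · exact h4
      rw [← h2, ← Nat.card_zpowers]
      exact Subgroup.card_dvd_of_le ((zpowers_le).2 h1)
    -- an invariant Sylow `q0`-subgroup of `L`
    have hq0p : q0 ≠ p := by
      rintro rfl
      exact hKp hq0K
    have hq0r : q0 ≠ r := by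
      rintro rfl
      exact hrK hq0K
    have hLc : Nat.card L = Nat.card V * Nat.card K := by
      rw [← H22.Basic.card_mul_relIndex hVL, hVLi]
    have hcopL : (Nat.card (zpowers e)).Coprime (Nat.card L) := by
      rw [Nat.card_zpowers, he, hLc]
      refine Nat.Coprime.mul_right ?_ ((Nat.Prime.coprime_iff_not_dvd hr).2 hrK)
      rw [hk]
      exact ((Nat.coprime_primes hr hp).2 hrp).pow_right k
    have hLsol : Group.IsSolvable L := inferInstance
    obtain ⟨T, hT, heT⟩ := Hall.inv_exists (A := zpowers e) (K := L) (Core.le_normalizer_of_normal _ _) hcopL hLsol {q0}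
    have hTp : IsPGroup q0 T := (Core.isPGroup_iff_piNum hq0).2 (Hall.pi hT)
    have hq0T : q0 ∣ Nat.card T := (Hall.dvd_iff hq0 hT rfl).2 (hLc ▸ hq0K.mul_left _)
    have hTV : T ⊓ V = ⊥ := by
      rw [inf_comm]
      exact H12.Loc.inf_eq_bot_of_isPGroup hp hVp (coprime_of_isPGroup hq0 hp hq0p hTp)
    have h1 := RepF.fix_trivial (p := p) (q := q0) (r := r) hr (hodd' q0 hq0 hq0p (hq0T.trans (Subgroup.card_subgroup_dvd_card T)))
      hq0p hq0r hrp hc.hWc hc.hWx hTp (Core.le_normalizer_of_normal T W) her (Core.le_normalizer_of_normal ⊤ W (Subgroup.mem_top e))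
      (heT (mem_zpowers e)) (hfpfW (zpowers e) hecop e (mem_zpowers e) he1)
    have h2 : ⁅T, zpowers e⁆ ≤ T ⊓ V := le_inf (H22.Basic.commutator_le_left heT) (h1.trans hc.hCW)
    rw [hTV, le_bot_iff, Subgroup.commutator_eq_bot_iff_le_centralizer] at h2
    have hTb : T ≠ ⊥ := by
      rintro rfl
      rw [Subgroup.card_bot] at hq0T
      exact hq0.one_lt.ne' (Nat.dvd_one.1 hq0T)
    obtain ⟨t, ht, ht1⟩ := exists_ne_one hTb
    have h3 : π t ∈ K ⊓ centralizer ({π e} : Set (G ⧸ V)) := by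
      refine Subgroup.mem_inf.2 ⟨hT.1 ht, ?_⟩
      rw [mem_centralizer_singleton_iff]
      have h4 := Subgroup.mem_centralizer_iff.1 (h2 ht) e (mem_zpowers e)
      rw [← map_mul, ← map_mul]
      exact congrArg π h4.symm
    rw [hout _ heK, Subgroup.mem_bot, ← MonoidHom.mem_ker, QuotientGroup.ker_mk'] at h3
    have h4 : t ∈ T ⊓ V := Subgroup.mem_inf.2 ⟨ht, h3⟩
    rw [hTV, Subgroup.mem_bot] at h4
    exact ht1 h4
  have hidx' : ∃ n : ℕ, K.index = p ^ n := by
    refine ⟨_, Nat.eq_prime_pow_of_unique_prime_dvd Subgroup.index_ne_zero_of_finite ?_⟩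
    intro r hr hrd
    exact hidx r hr hrd
  obtain ⟨n, hn⟩ := hidx'
  refine ⟨p, hp, hpc, A, ?_, hAcyc, ?_, hAp, ?_, ?_, ⟨n, ?_⟩, ?_, ?_⟩
  · rintro rfl
    rw [Subgroup.map_bot] at hAK
    exact hKb hAK.symm
  · rcases Nat.even_or_odd (Nat.card A) with h | h
    · exfalso
      have h2 : 2 ∣ Nat.card A := even_iff_two_dvd.1 h
      have h2p : (2 : ℕ) ≠ p := by
        rintro rfl
        exact (Nat.Prime.coprime_iff_not_dvd hp).1 hAp.symm h2
      exact hodd h2p.symm (h2.trans (Subgroup.card_subgroup_dvd_card A))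
    · exact h
  · rw [← hc.hV, sup_comm, hAVL]; exact hLn
  · rw [← hc.hV, sup_comm, hAVL]
    intro hLt
    apply hKt
    rw [← Subgroup.map_comap_eq_self_of_surjective hπs K, ← hL, hLt, Subgroup.map_top_of_surjective _ hπs]
  · rw [← hc.hV, sup_comm, hAVL, hLi, hn]
  · rw [← hc.hV]
    exact hc.fpf hCN hAp
  · rw [← hc.hV, sup_comm, hAVL]
    intro x hx a ha ha1 hxa
    have hxK : π x ∉ K := hx
    have h1 : π a ∈ K ⊓ centralizer ({π x} : Set (G ⧸ V)) := by
      refine Subgroup.mem_inf.2 ⟨hAL ha, ?_⟩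
      rw [mem_centralizer_singleton_iff]
      have h2 : ⁅x, a⁆ ∈ V := hxa
      rw [← QuotientGroup.ker_mk' V, MonoidHom.mem_ker, map_commutatorElement, commutatorElement_eq_one_iff_mul_comm] at h2
      exact h2.symm
    rw [hout _ hxK, Subgroup.mem_bot, ← MonoidHom.mem_ker, QuotientGroup.ker_mk'] at h1
    have h2 : a ∈ A ⊓ V := Subgroup.mem_inf.2 ⟨ha, h1⟩
    rw [hAV, Subgroup.mem_bot] at h2
    exact ha1 h2

end Cfsg.Agent.H12.CN
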