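import Mathlib
import Cfsg.Agent.H12_CN4

/-! CN-groups V: trichotomy for solvable CN-groups -/

set_option autoImplicit false
set_option linter.unusedSectionVars false

open Pointwise
open scoped commutatorElement

namespace Cfsg.Agent.H12.CN

open Cfsg Subgroup H13.Syl H12.BG10

universe u

variable {G : Type u} [Group G] [Finite G]

theorem hall_of_isSylIn {p : ℕ} [hp : Fact p.Prime] {T E : Subgroup G} (hT : IsSylIn p T E) : IsPiHallOf {p} T E :=
  ⟨hT.1, (Core.isPGroup_iff_piNum hp.out).1 hT.isPGroup, fun q _ hqp => by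
    rw [Set.mem_singleton_iff.1 hqp]; exact hT.not_dvd⟩

theorem isSylIn_of_hall {p : ℕ} [hp : Fact p.Prime] {T E : Subgroup G} (hT : IsPiHallOf {p} T E) : IsSylIn p T E :=
  ⟨hT.1, (Core.isPGroup_iff_piNum hp.out).2 (Hall.pi hT), hT.2.2 p hp.out rfl⟩

theorem isZGroup_of {E : Subgroup G} (h : ∀ p : ℕ, p.Prime → ∀ S : Subgroup G, IsSylIn p S E → IsCyclic S) : IsZGroup E := by
  constructor
  intro r hr S
  have : Fact r.Prime := ⟨hr⟩
  have h1 := h r hr _ (isSylIn_map_subtype S)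
  exact isCyclic_of_injective ((E.subtype.subgroupMap (S : Subgroup E))) (by
    intro a b hab
    have h2 : E.subtype (a : E) = E.subtype (b : E) := congrArg (fun z : ↥((S : Subgroup E).map E.subtype) => (z : G)) hab
    exact Subtype.ext (E.subtype_injective h2))

theorem cyclic_of_nilpotent {E : Subgroup G} (hE : Group.IsNilpotent E)
    (h : ∀ p : ℕ, p.Prime → ∀ S : Subgroup G, IsSylIn p S E → IsCyclic S) : IsCyclic E := by
  have := isZGroup_of h
  infer_instance

theorem isCyclic_cj {S : Subgroup G} (g : G) (h : IsCyclic S) : IsCyclic (cj g S) :=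
  isCyclic_of_surjective ((MulAut.conj g).toMonoidHom.subgroupMap S) ((MulAut.conj g).toMonoidHom.subgroupMap_surjective S)

theorem complement_structure {F E : Subgroup G} [hF : F.Normal] (hFb : F ≠ ⊥) (hfpf : ∀ e ∈ E, e ≠ 1 → F ⊓ centralizer ({e} : Set G) = ⊥)
    (hE : Group.IsNilpotent E) :
    IsCyclic E ∨ ∃ C Q : Subgroup G, C ⊔ Q = E ∧ (∀ a ∈ C, ∀ b ∈ Q, a * b = b * a) ∧ IsCyclic C ∧ Odd (Nat.card C) ∧
          ∃ n : ℕ, Nonempty (↥Q ≃* QuaternionGroup (2 ^ n)) := by
  have h2 : Fact (Nat.Prime 2) := ⟨Nat.prime_two⟩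
  have hEs : Group.IsSolvable E := inferInstance
  obtain ⟨T, hT⟩ := exists_isSylIn (p := 2) E
  obtain ⟨C, hC⟩ := Hall.exists_hall hEs ({2} : Set ℕ)ᶜ
  have hn := le_normalizer_sylow_of_nilpotent hE hT
  have hsup := Hall.sup_eq (hall_of_isSylIn hT) hC hn
  have hodd : ∀ p : ℕ, p.Prime → p ≠ 2 → ∀ S : Subgroup G, IsSylIn p S E → IsCyclic S := by
    intro p hp hp2 S hS
    have : Fact p.Prime := ⟨hp⟩
    rcases H24.FrobSyl.pgroup_type F E hFb hfpf S hS.1 hS.isPGroup with h | h
    · exact h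
    · exact absurd h.1 hp2
  have hCc : (Nat.card C).Coprime 2 := (Core.piNum_singleton_compl Nat.prime_two).1 (Hall.pi hC)
  rcases H24.FrobSyl.pgroup_type F E hFb hfpf T hT.1 hT.isPGroup with h | ⟨-, n, hn'⟩
  · left
    apply cyclic_of_nilpotent hE
    intro p hp S hS
    have : Fact p.Prime := ⟨hp⟩
    by_cases hp2 : p = 2
    · subst hp2
      obtain ⟨x, -, hx⟩ := hS.exists_conj_eq hT
      rw [← hx]
      exact isCyclic_cj x h
    · exact hodd p hp hp2 S hS
  · right
    refine ⟨C, T, hsup, ?_, ?_, ?_, n, hn'⟩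
    · intro a ha b hb
      have h3 := le_centralizer_of_nilpotent hE hT.isPGroup hT.1 hC.1 hCc
      exact (Subgroup.mem_centralizer_iff.1 (h3 ha) b hb).symm
    · apply cyclic_of_nilpotent (nilpotent_of_le hC.1 hE)
      intro p hp S hS
      have : Fact p.Prime := ⟨hp⟩
      rcases H24.FrobSyl.pgroup_type F E hFb hfpf S (hS.1.trans hC.1) hS.isPGroup with h | ⟨h, -⟩
      · exact h
      · subst h
        have h4 : S = ⊥ := by
          have h5 := H12.Loc.inf_eq_bot_of_isPGroup Nat.prime_two hS.isPGroup hCc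
          rwa [inf_eq_left.2 hS.1] at h5
        rw [h4]; infer_instance
    · exact Nat.coprime_two_right.1 hCc

theorem trichotomy (hsol : Group.IsSolvable G) (hCN : IsCNGroup G) :
    Group.IsNilpotent G ∨
      (∃ K E : Subgroup G, K.Normal ∧ Subgroup.IsComplement' K E ∧ IsFrobeniusComplement E ∧
        K = fittingHall G ∧ (∀ e ∈ E, e ≠ 1 → K ⊓ centralizer ({e} : Set G) = ⊥) ∧ 
        (IsCyclic E ∨ ∃ C Q : Subgroup G, C ⊔ Q = E ∧ (∀ a ∈ C, ∀ b ∈ Q, a * b = b * a) ∧ IsCyclic C ∧ Odd (Nat.card C) ∧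
          ∃ n : ℕ, Nonempty (↥Q ≃* QuaternionGroup (2 ^ n)))) ∨
      ∃ p : ℕ, p.Prime ∧ IsThreeStepGroup p G := by
  by_cases hnn : Group.IsNilpotent G
  · left; exact hnn
  right
  by_cases hns : ∀ p : ℕ, p.Prime → ∀ P : Subgroup G, IsSylIn p P ⊤ → P.Normal → P = ⊥
  · right
    refine three_step hsol hCN hns ?_
    by_contra hne
    rw [not_nontrivial_iff_subsingleton] at hne
    exact hnn inferInstance
  · left
    push Not at hns
    obtain ⟨p, hp, P, hP, hPn, hPb⟩ := hns
    have : Fact p.Prime := ⟨hp⟩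
    obtain ⟨P', hP'⟩ := hP.exists_sylow_top
    obtain ⟨h1, h2, ⟨E, hE1, hE2, hE3⟩, h4⟩ := cn_normal_sylow hCN hnn p P' (by rwa [hP']) (by rwa [hP'])
    have hFn : (fittingHall G).Normal := (Core.fittingHall_spec (G := G)).1
    refine ⟨fittingHall G, E, hFn, hE1, hE2, rfl, hE3, ?_⟩
    apply complement_structure h1 hE3
    have h5 : Function.Injective ((QuotientGroup.mk' (fittingHall G)).comp E.subtype) := by
      rw [injective_iff_map_eq_one]
      intro a ha
      have h6 : QuotientGroup.mk' (fittingHall G) (a : G) = 1 := ha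
      rw [← MonoidHom.mem_ker, QuotientGroup.ker_mk'] at h6
      have h7 : (a : G) ∈ fittingHall G ⊓ E := Subgroup.mem_inf.2 ⟨h6, a.2⟩
      rw [hE1.disjoint.eq_bot, Subgroup.mem_bot] at h7
      exact Subtype.ext h7
    exact nilpotent_of_injective h4 _ h5

end Cfsg.Agent.H12.CN
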