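import Mathlib

/-! A Frobenius group acting on an abelian group: the complement has fixed points. -/

set_option autoImplicit false

open Subgroup

namespace Cfsg.Agent.H2.FrobAct

variable {F V : Type*} [Group F] [Finite F] [CommGroup V]

theorem prod_fixed (φ : F →* MulAut V) (L : Subgroup F) [Fintype L] (hL : ∀ v : V, (∀ l ∈ L, φ l v = v) → v = 1) (v : V) :
    ∏ l : L, φ (l : F) v = 1 := by
  apply hL
  intro l hl
  rw [map_prod]
  refine Fintype.prod_bijective (fun u : L => (⟨l, hl⟩ : L) * u) (Group.mulLeft_bijective _) _ _ ?_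
  intro u
  rw [← MulAut.mul_apply, ← map_mul]
  rfl

theorem trivial_of (φ : F →* MulAut V) [Finite V] (N H : Subgroup F) [hNn : N.Normal]
    (hN : ∀ v : V, (∀ n ∈ N, φ n v = v) → v = 1) (hH : ∀ v : V, (∀ h ∈ H, φ h v = v) → v = 1)
    (hNH : ∀ h ∈ H, h ≠ 1 → ∀ k ∈ N, k * h = h * k → k = 1)
    (hcop : (Nat.card N).Coprime (Nat.card V)) (v : V) : v = 1 := by
  classical
  have := Fintype.ofFinite N
  have := Fintype.ofFinite H
  have hE1 : ∏ k : N, ∏ h : H, φ (k * h * (k : F)⁻¹) v = 1 := by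
    apply Finset.prod_eq_one
    intro k _
    have h1 : ∀ h : H, φ (k * h * (k : F)⁻¹) v = φ k (φ h (φ (k : F)⁻¹ v)) := by
      intro h
      rw [map_mul, map_mul, MulAut.mul_apply, MulAut.mul_apply]
    simp_rw [h1]
    rw [← map_prod, prod_fixed φ H hH, map_one]
  rw [Finset.prod_comm] at hE1
  have h2 : ∀ h : H, h ≠ 1 → ∏ k : N, φ (k * h * (k : F)⁻¹) v = 1 := by
    intro h hh
    have h3 := prod_fixed φ N hN (φ h v)
    rw [← h3]
    have hmem : ∀ k : N, (k : F) * h * (k : F)⁻¹ * (h : F)⁻¹ ∈ N := by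
      intro k
      have h4 : (k : F) * h * (k : F)⁻¹ * (h : F)⁻¹ = k * ((h : F) * (k : F)⁻¹ * (h : F)⁻¹) := by group
      rw [h4]
      exact N.mul_mem k.2 (hNn.conj_mem _ (N.inv_mem k.2) _)
    have hinj : Function.Injective (fun k : N => (⟨(k : F) * h * (k : F)⁻¹ * (h : F)⁻¹, hmem k⟩ : N)) := by
      intro a b hab
      have h5 : (a : F) * h * (a : F)⁻¹ * (h : F)⁻¹ = (b : F) * h * (b : F)⁻¹ * (h : F)⁻¹ := congrArg Subtype.val hab
      have h6 : (a : F) * h * (a : F)⁻¹ = (b : F) * h * (b : F)⁻¹ := mul_right_cancel h5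
      have h7 : ((b : F)⁻¹ * a) * h = h * ((b : F)⁻¹ * a) := by
        calc ((b : F)⁻¹ * a) * h = (b : F)⁻¹ * ((a : F) * h * (a : F)⁻¹) * a := by group
          _ = (b : F)⁻¹ * ((b : F) * h * (b : F)⁻¹) * a := by rw [h6]
          _ = _ := by group
      have h8 := hNH h h.2 (fun h' => hh (Subtype.ext h')) ((b : F)⁻¹ * a) (N.mul_mem (N.inv_mem b.2) a.2) h7
      exact Subtype.ext (inv_mul_eq_one.1 h8).symm
    refine Fintype.prod_bijective _ (Finite.injective_iff_bijective.1 hinj) _ _ ?_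
    intro k
    rw [← MulAut.mul_apply, ← map_mul]
    congr 2
    group
  have h3 : ∏ h : H, ∏ k : N, φ (k * h * (k : F)⁻¹) v = v ^ (Nat.card N) := by
    rw [Finset.prod_eq_single (1 : H)]
    · have : ∀ k : N, φ (k * (1 : H) * (k : F)⁻¹) v = v := by
        intro k
        rw [OneMemClass.coe_one, mul_one, mul_inv_cancel, map_one]; rfl
      simp_rw [this]
      rw [Finset.prod_const, Finset.card_univ, Nat.card_eq_fintype_card]
    · intro h _ hh
      exact h2 h hh
    · intro h; exact absurd (Finset.mem_univ _) h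
  rw [h3] at hE1
  have h4 : orderOf v ∣ Nat.card N := orderOf_dvd_of_pow_eq_one hE1
  have h5 : orderOf v ∣ Nat.card V := orderOf_dvd_natCard v
  have h6 : orderOf v = 1 := Nat.eq_one_of_dvd_coprimes hcop h4 h5
  exact orderOf_eq_one_iff.1 h6

end Cfsg.Agent.H2.FrobAct
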