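import Mathlib
import Cfsg.Agent.H12_BG1
import Cfsg.Agent.H12_RepF
import Cfsg.Agent.H12_Trans1
import Cfsg.Agent.H2_FrobAct
import Cfsg.Agent.H12_Core
import Cfsg.Agent.H22_Basic

/-! A Frobenius group `KR` acting coprimely on a solvable group `M` with `C_M(R) = 1`: then `K` centralizes `M`. -/

set_option autoImplicit false
set_option linter.unusedSectionVars false

open Pointwise
open scoped commutatorElement

namespace Cfsg.Agent.H12.FrobK

open Cfsg Subgroup H22.Basic

universe u

variable {G : Type u} [Group G]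

/-- Frobenius group acting on the abelian section `M / Z`. -/
theorem frob_kill [Finite G] {M Z K R : Subgroup G} (hZM : Z ≤ M) (hMc : ⁅M, M⁆ ≤ Z)
    (hKM : K ≤ normalizer (M : Set G)) (hKZ' : K ≤ normalizer (Z : Set G))
    (hRM : R ≤ normalizer (M : Set G)) (hRZ : R ≤ normalizer (Z : Set G)) (hRK : R ≤ normalizer (K : Set G))
    (hfrob : ∀ r ∈ R, r ≠ 1 → ∀ k ∈ K, k * r = r * k → k = 1)
    (hcop : (Nat.card K).Coprime (Nat.card M))
    (hfK : ∀ x ∈ M, (∀ k ∈ K, k * x * k⁻¹ * x⁻¹ ∈ Z) → x ∈ Z)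
    (hfR : ∀ x ∈ M, (∀ r ∈ R, r * x * r⁻¹ * x⁻¹ ∈ Z) → x ∈ Z) : M ≤ Z := by
  classical
  set N : Subgroup G := normalizer (M : Set G) ⊓ normalizer (Z : Set G) ⊓ normalizer (K : Set G) with hN
  have hMZ : M ≤ normalizer (Z : Set G) := RepF.le_normalizer_of_commutator_le hZM hMc
  have hZn : (Z.subgroupOf M).Normal := H12.Core.normal_subgroupOf_of_le hMZ
  let W := M ⧸ (Z.subgroupOf M)
  have hcomm : ∀ a b : W, a * b = b * a := by
    intro a b
    induction a using QuotientGroup.induction_on with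
    | H a =>
    induction b using QuotientGroup.induction_on with
    | H b =>
      rw [← QuotientGroup.mk_mul, ← QuotientGroup.mk_mul, QuotientGroup.eq, Subgroup.mem_subgroupOf]
      apply hMc
      have e : (((a * b)⁻¹ * (b * a) : M) : G) = ⁅((b : G)⁻¹), ((a : G)⁻¹)⁆ := by
        rw [commutatorElement_def]
        push_cast
        group
      rw [e]
      exact Subgroup.commutator_mem_commutator (inv_mem b.2) (inv_mem a.2)
  letI : CommGroup W := { (inferInstance : Group W) with mul_comm := hcomm }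
  have hN1 : ∀ g : N, (g : G) ∈ normalizer (M : Set G) := fun g => (Subgroup.mem_inf.mp (Subgroup.mem_inf.mp g.2).1).1
  have hN2 : ∀ g : N, (g : G) ∈ normalizer (Z : Set G) := fun g => (Subgroup.mem_inf.mp (Subgroup.mem_inf.mp g.2).1).2
  have hact : ∀ g : N, (Z.subgroupOf M).map (M.normalizerMonoidHom ⟨g, hN1 g⟩ : M ≃* M).toMonoidHom
      = Z.subgroupOf M := by
    intro g
    ext x
    rw [Subgroup.mem_map, Subgroup.mem_subgroupOf]
    constructor
    · rintro ⟨y, hy, rfl⟩
      rw [Subgroup.mem_subgroupOf] at hy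
      exact ((Subgroup.mem_normalizer_iff.mp (hN2 g)) _).mp hy
    · intro hx
      have h1 : (g : G)⁻¹ * x * g ∈ Z := by
        have := ((Subgroup.mem_normalizer_iff.mp (inv_mem (hN2 g))) _).mp hx
        simpa using this
      refine ⟨⟨(g : G)⁻¹ * x * g, hZM h1⟩, ?_, ?_⟩
      · rw [Subgroup.mem_subgroupOf]; exact h1
      · apply Subtype.ext
        show (g : G) * ((g : G)⁻¹ * x * g) * (g : G)⁻¹ = x
        group
  let φ : N →* MulAut W :=
    { toFun := fun g => QuotientGroup.congr _ _ (M.normalizerMonoidHom ⟨g, hN1 g⟩) (hact g)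
      map_one' := by
        ext v
        induction v using QuotientGroup.induction_on with
        | H a =>
          show ((M.normalizerMonoidHom ⟨(1 : N), hN1 1⟩ a : M) : W) = (a : W)
          congr 1
          apply Subtype.ext
          show (1 : G) * a * (1 : G)⁻¹ = a
          group
      map_mul' := by
        intro g h
        ext v
        induction v using QuotientGroup.induction_on with
        | H a =>
          show ((M.normalizerMonoidHom ⟨(g * h : N), hN1 (g * h)⟩ a : M) : W)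
            = ((M.normalizerMonoidHom ⟨g, hN1 g⟩ (M.normalizerMonoidHom ⟨h, hN1 h⟩ a) : M) : W)
          congr 1
          apply Subtype.ext
          show ((g : G) * h) * a * ((g : G) * h)⁻¹ = g * (h * a * (h : G)⁻¹) * (g : G)⁻¹
          group }
  have hφ : ∀ (g : N) (a : M), φ g (a : W) = ((M.normalizerMonoidHom ⟨g, hN1 g⟩ a : M) : W) := fun g a => rfl
  have hKN : K ≤ N := le_inf (le_inf hKM hKZ') le_normalizer
  have hRN : R ≤ N := le_inf (le_inf hRM hRZ) hRK
  have hKn : (K.subgroupOf N).Normal := H12.Core.normal_subgroupOf_of_le inf_le_right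
  have hWc : Nat.card W ∣ Nat.card M := Subgroup.card_quotient_dvd_card _
  have hfin : Finite W := inferInstance
  have key : ∀ (g : N) (a : M), φ g (a : W) = (a : W) → (g : G) * a * (g : G)⁻¹ * (a : G)⁻¹ ∈ Z := by
    intro g a h
    rw [hφ, QuotientGroup.eq, Subgroup.mem_subgroupOf] at h
    have e1 : (g : G) * (a : G) * (g : G)⁻¹ * (a : G)⁻¹ = a * (((g : G) * (a : G) * (g : G)⁻¹)⁻¹ * a)⁻¹ * (a : G)⁻¹ := by group
    rw [e1]
    exact ((Subgroup.mem_normalizer_iff.mp (hMZ a.2)) _).mp (inv_mem h)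
  intro x hx
  have h1 := H2.FrobAct.trivial_of φ (K.subgroupOf N) (R.subgroupOf N) (by
      intro v hv
      induction v using QuotientGroup.induction_on with
      | H a =>
        rw [QuotientGroup.eq_one_iff, Subgroup.mem_subgroupOf]
        apply hfK a a.2
        intro k hk
        exact key ⟨k, hKN hk⟩ a (hv ⟨k, hKN hk⟩ (mem_subgroupOf.2 hk))) (by
      intro v hv
      induction v using QuotientGroup.induction_on with
      | H a =>
        rw [QuotientGroup.eq_one_iff, Subgroup.mem_subgroupOf]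
        apply hfR a a.2
        intro k hk
        exact key ⟨k, hRN hk⟩ a (hv ⟨k, hRN hk⟩ (mem_subgroupOf.2 hk))) (by
      intro r hr hr1 k hk h
      apply Subtype.ext
      exact hfrob r (mem_subgroupOf.1 hr) (fun h' => hr1 (Subtype.ext h')) k (mem_subgroupOf.1 hk) (congrArg Subtype.val h)) (by
      rw [card_subgroupOf_eq hKN]
      exact Nat.Coprime.coprime_dvd_right hWc hcop) ((⟨x, hx⟩ : M) : W)
  rw [QuotientGroup.eq_one_iff, Subgroup.mem_subgroupOf] at h1
  exact h1

/-- **Frobenius action**: the kernel acts trivially when the complement has no fixed points. -/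
theorem frob_trivial [Finite G] {M K R : Subgroup G} (hM : Group.IsSolvable M)
    (hKM : K ≤ normalizer (M : Set G)) (hRM : R ≤ normalizer (M : Set G)) (hRK : R ≤ normalizer (K : Set G))
    (hcK : (Nat.card K).Coprime (Nat.card M)) (hcR : (Nat.card R).Coprime (Nat.card M))
    (hfrob : ∀ r ∈ R, r ≠ 1 → ∀ k ∈ K, k * r = r * k → k = 1)
    (hfix : M ⊓ centralizer (R : Set G) = ⊥) : K ≤ centralizer (M : Set G) := by
  set M₁ := ⁅M, K⁆ with hM₁
  have hM₁M : M₁ ≤ M := H1.Coprime.commutator_le_of_le_normalizer hKM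
  have hKM₁ : K ≤ normalizer (M₁ : Set G) := right_le_normalizer_commutator M K
  have hRM₁ : R ≤ normalizer (M₁ : Set G) := le_normalizer_commutator hRM hRK
  have hM₁s : Group.IsSolvable M₁ := BG1.isSolvable_of_le hM₁M hM
  have hcK₁ : (Nat.card K).Coprime (Nat.card M₁) := Nat.Coprime.coprime_dvd_right (card_dvd_of_le hM₁M) hcK
  have hcR₁ : (Nat.card R).Coprime (Nat.card M₁) := Nat.Coprime.coprime_dvd_right (card_dvd_of_le hM₁M) hcR
  have hself : ⁅M₁, K⁆ = M₁ := H1.Coprime.commutator_commutator_eq K M hKM hcK (Or.inr hM)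
  set Z := ⁅M₁, M₁⁆ with hZ
  have hZM : Z ≤ M₁ := commutator_le_left le_normalizer
  have hcKZ : (Nat.card K).Coprime (Nat.card Z) := Nat.Coprime.coprime_dvd_right (card_dvd_of_le hZM) hcK₁
  have hcRZ : (Nat.card R).Coprime (Nat.card Z) := Nat.Coprime.coprime_dvd_right (card_dvd_of_le hZM) hcR₁
  have hKZ : K ≤ normalizer (Z : Set G) := le_normalizer_commutator hKM₁ hKM₁
  have hRZ : R ≤ normalizer (Z : Set G) := le_normalizer_commutator hRM₁ hRM₁
  have hZs : Group.IsSolvable Z := BG1.isSolvable_of_le hZM hM₁s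
  have hMZ : M₁ ≤ normalizer (Z : Set G) := right_le_normalizer_commutator M₁ M₁
  have conv : ∀ (g x : G), x ∈ M₁ → g * x * g⁻¹ * x⁻¹ ∈ Z → x⁻¹ * (g * x * g⁻¹) ∈ Z := by
    intro g x hx h
    have e : x⁻¹ * (g * x * g⁻¹) = x⁻¹ * (g * x * g⁻¹ * x⁻¹) * x⁻¹⁻¹ := by group
    rw [e]
    exact ((Subgroup.mem_normalizer_iff.mp (inv_mem (hMZ hx))) _).mp h
  have hle : M₁ ≤ Z := by
    refine frob_kill (M := M₁) (Z := Z) (K := K) (R := R) hZM le_rfl hKM₁ hKZ hRM₁ hRZ hRK hfrob hcK₁ ?_ ?_
    · intro x hx h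
      obtain ⟨d, hd, hxd⟩ := H1.Coprime.exists_mul_mem_centralizer hKZ hcKZ (Or.inr hZs) x
        (fun k hk => conv k x hx (h k hk))
      have h1 := Trans.inf_centralizer_le_rel hKM₁ hcK₁ hself (mem_inf.2 ⟨mul_mem hx (hZM hd), hxd⟩)
      have := mul_mem h1 (inv_mem hd)
      rwa [mul_inv_cancel_right] at this
    · intro x hx h
      obtain ⟨d, hd, hxd⟩ := H1.Coprime.exists_mul_mem_centralizer hRZ hcRZ (Or.inr hZs) x
        (fun k hk => conv k x hx (h k hk))
      have h1 : x * d ∈ M ⊓ centralizer (R : Set G) := mem_inf.2 ⟨hM₁M (mul_mem hx (hZM hd)), hxd⟩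
      rw [hfix, mem_bot] at h1
      have : x = d⁻¹ := eq_inv_of_mul_eq_one_left h1
      rw [this]
      exact inv_mem hd
  have hbot : M₁ = ⊥ := by
    by_contra hne
    have hnt : Nontrivial M₁ := (Subgroup.nontrivial_iff_ne_bot _).2 hne
    have h1 := (Group.IsSolvable.commutator_lt_top_of_nontrivial (G := M₁)).ne
    apply h1
    rw [eq_top_iff]
    intro x _
    have hx : (x : G) ∈ ⁅M₁, M₁⁆ := hle x.2
    have h2 : (commutator M₁).map M₁.subtype = ⁅M₁, M₁⁆ := by
      rw [_root_.commutator_def, map_commutator, ← MonoidHom.range_eq_map, range_subtype]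
    rw [← h2] at hx
    obtain ⟨y, hy, hyx⟩ := hx
    have : y = x := Subtype.ext hyx
    rwa [← this]
  rw [← commutator_eq_bot_iff_le_centralizer, commutator_comm]
  exact hbot

end Cfsg.Agent.H12.FrobK
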