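import Mathlib
import Cfsg.Agent.H12_BG10h
import Cfsg.Agent.H12_FrobK
import Cfsg.Agent.H12_CN5

/-! BG 10.11 -/

set_option autoImplicit false
set_option linter.unusedSectionVars false

open Pointwise
open scoped commutatorElement

namespace Cfsg.Agent.H12.BG10

open Cfsg Subgroup H13.Syl H12.Loc H12.Trans H12.BG7 H12.Puig H12.BG9

universe u

variable {G : Type u} [Group G] [Finite G]

theorem nilp_mono {A B : Subgroup G} (h : A ≤ B) (hB : Group.IsNilpotent B) : Group.IsNilpotent A :=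
  H1.Nilp.isNilpotent_of_le h hB

/-- `K` has no prime divisor in `σ(M)` -/
def SigmaC (M K : Subgroup G) : Prop := Core.PiNum (sigma M)ᶜ (Nat.card K)

theorem SigmaC.mono {M K L : Subgroup G} (h : SigmaC M K) (hL : L ≤ K) : SigmaC M L := Hall.pi_mono h hL

theorem SigmaC.inf_eq_bot {M K : Subgroup G} (h : SigmaC M K) : sigmaCore M ⊓ K = ⊥ :=
  Hall.inf_eq_bot (π := sigma M) (Core.piCoreOf_piNum (sigma M) M) h

theorem SigmaC.coprime {M K : Subgroup G} (h : SigmaC M K) : (Nat.card (sigmaCore M)).Coprime (Nat.card K) :=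
  Core.PiNum.coprime (Core.piCoreOf_piNum (sigma M) M) h

theorem pRankLE_two_of_not_sigma (hG : IsMinSimpleOddOrder G) {M : Subgroup G} (hM : IsCoatom M) {p : ℕ} (hp : p.Prime)
    (h : p ∉ sigma M) : PRankLE p 2 M := by
  by_contra hr
  exact h (alpha_subset_sigma hG hM ⟨hp, hr⟩)

/-- some prime `q ∈ σ(M)` with `O_q(M)` Sylow, if all `O_q(M)` have rank at most 2 -/
theorem exists_Oq_sigma (hG : IsMinSimpleOddOrder G) {M : Subgroup G} (hM : IsCoatom M)
    (hr : ∀ q : ℕ, q.Prime → PRankLE q 2 (Oq q M)) : ∃ q : ℕ, q.Prime ∧ q ∈ sigma M ∧ Oq q M ≠ ⊥ ∧ IsSylIn q (Oq q M) M := by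
  obtain ⟨q, hq, h1, h2⟩ := exists_Oq_sylow hG hM.1 (ne_bot_of_isCoatom hG hM) hr
  have : Fact q.Prime := ⟨hq⟩
  refine ⟨q, hq, ?_, h1, h2⟩
  have hN : normalizer (Oq q M : Set G) = M := normalizer_eq_of_isCoatom hG hM h1 (le_normalizer_Oq q M) (Oq_le q M)
  exact sigma_of_normalizer hq (dvd_card_of_le (Oq_isPGroup hq M) h1 (Oq_le q M)) h2 hN.le

/-- BG 10.11(a) -/
theorem sigmaC_not_inU (hG : IsMinSimpleOddOrder G) {M : Subgroup G} (hM : IsCoatom M) {K : Subgroup G} (hKM : K ≤ M)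
    (hK : SigmaC M K) : ¬ InUniqueMaximal K := by
  intro hU
  have hMs := solvable_of_ne_top hG hM.1
  obtain ⟨E, hKE, hE⟩ := Hall.exists_hall_ge hMs (π := (sigma M)ᶜ) hK hKM
  have hEM : E ≤ M := Hall.le hE
  have hEt : E ≠ ⊤ := fun h => hM.1 (top_le_iff.1 (h ▸ hEM))
  have hEb : E ≠ ⊥ := fun h => inU_ne_bot hG hU (le_bot_iff.1 (h ▸ hKE))
  have hEπ : SigmaC M E := Hall.pi hE
  have hrk : ∀ q : ℕ, q.Prime → PRankLE q 2 (Oq q E) := by
    intro q hq
    by_cases hd : q ∣ Nat.card E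
    · exact SCN.pRankLE_mono ((Oq_le q E).trans hEM) (pRankLE_two_of_not_sigma hG hM hq (hEπ q hq hd))
    · have : Oq q E = ⊥ := Oq_eq_bot_of_coprime hq (Nat.Coprime.symm ((Nat.Prime.coprime_iff_not_dvd hq).2 hd))
      rw [this, SCN.pRankLE_top_iff]
      intro F _
      have : Nat.card F = 1 := Nat.card_unique
      rw [this]
      exact Nat.one_le_pow _ _ hq.pos
  obtain ⟨q, hq, h1, h2⟩ := exists_Oq_sylow hG hEt hEb hrk
  have : Fact q.Prime := ⟨hq⟩
  have hqE : q ∣ Nat.card E := dvd_card_of_le (Oq_isPGroup hq E) h1 (Oq_le q E)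
  have hqσ : q ∉ sigma M := hEπ q hq hqE
  obtain ⟨M', hM', hEM', huniq⟩ := inU_iff.1 (inU_mono hU hKE hEt)
  have hMM : M = M' := huniq M hM hEM
  subst hMM
  have hN : normalizer (Oq q E : Set G) ≤ M :=
    le_of_inU huniq (le_normalizer_Oq q E) (normalizer_ne_top hG h1 (ne_top_of_isPGroup hG (Oq_isPGroup hq E)))
  apply hqσ
  exact sigma_of_normalizer hq (hqE.trans (card_dvd_of_le hEM)) (Hall.sylow_trans hE hqσ h2) hN

theorem alpha_eq_empty_of (hG : IsMinSimpleOddOrder G) {M : Subgroup G} (hM : IsCoatom M)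
    (h : ¬ InUniqueMaximal (sigmaCore M)) : ∀ q : ℕ, q ∉ alpha M := by
  intro q hq
  have : Fact q.Prime := ⟨hq.1⟩
  apply h
  obtain ⟨Q, hQ⟩ := exists_isSylIn (p := q) M
  apply inU_of_not_pRankLE (p := q) hG (fun h => hM.1 (top_le_iff.1 (h ▸ sigmaCore_le M)))
  intro hr
  apply hq.2
  exact pRankLE_of_isSylIn hQ (SCN.pRankLE_mono (sylow_le_sigmaCore hG hM (alpha_subset_sigma hG hM hq) hQ) hr)

theorem alphaCore_eq_bot_of {M : Subgroup G} (h : ∀ q : ℕ, q ∉ alpha M) : alphaCore M = ⊥ := by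
  have h1 : Core.PiNum (alpha M) (Nat.card (alphaCore M)) := Core.piCoreOf_piNum (alpha M) M
  by_contra hne
  have : Nat.card (alphaCore M) ≠ 1 := fun h => hne (eq_bot_of_card_eq _ h)
  obtain ⟨q, hq, hqd⟩ := Nat.exists_prime_and_dvd this
  exact h q (h1 q hq hqd)

theorem nilpotent_commutator_of (hG : IsMinSimpleOddOrder G) {M : Subgroup G} (hM : IsCoatom M) (h : alphaCore M = ⊥) :
    Group.IsNilpotent ↥⁅M, M⁆ := by
  have h1 := nilpotent_quot_alpha hG hM
  have h2 : piCore (alpha M) M = ⊥ := by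
    apply Subgroup.map_injective M.subtype_injective
    rw [Subgroup.map_bot]
    exact h
  have h3 : Function.Injective (QuotientGroup.mk' (piCore (alpha M) M)) := by
    rw [← MonoidHom.ker_eq_bot_iff, QuotientGroup.ker_mk', h2]
  have h4 : Group.IsNilpotent ↥(commutator M) :=
    (Group.isNilpotent_congr ((commutator M).equivMapOfInjective _ h3)).2 h1
  rw [← map_commutator_subtype]
  exact Core.isNilpotent_map_subtype h4

theorem normal_of_nilpotent_sylow {p : ℕ} [hp : Fact p.Prime] {N M P : Subgroup G} (hNM : N ≤ M) (hn : M ≤ normalizer (N : Set G))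
    (hnil : Group.IsNilpotent N) (hP : IsSylIn p P N) : M ≤ normalizer (P : Set G) := by
  have h1 : N ≤ fittingOf N := Core.le_fittingOf le_rfl le_normalizer hnil
  have h2 : Oq p N = P := hP.eq_of_le (Oq_isPGroup hp.out N) (Oq_le p N)
    (le_Oq_of_le_fittingOf hp.out (hP.le.trans h1) hP.isPGroup)
  rw [← h2]
  exact hn.trans (Core.normalizer_le_normalizer_piCoreOf _ _)

/-- BG 10.11(b) -/
theorem rank_cent_sigma (hG : IsMinSimpleOddOrder G) {M : Subgroup G} (hM : IsCoatom M) {K : Subgroup G} (hKM : K ≤ M)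
    (hK : SigmaC M K) : RankLE 1 ↥(K ⊓ centralizer (sigmaCore M : Set G)) := by
  intro p hp
  have : Fact p.Prime := ⟨hp⟩
  by_contra hr
  obtain ⟨A, hA, hAe, hAc⟩ := exists_ea_sq_of_not_rank_one hr
  have hAM : A ≤ M := hA.trans (inf_le_left.trans hKM)
  have hAπ : SigmaC M A := hK.mono (hA.trans inf_le_left)
  have hpA : p ∣ Nat.card A := hAc ▸ dvd_pow_self p two_ne_zero
  have hpσ : p ∉ sigma M := hAπ p hp hpA
  have hmax : E2Max p A := ⟨hAe, hAc, thm105a hG hM hpσ hAM hAe hAc⟩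
  have hAU := sigmaC_not_inU hG hM hAM hAπ
  have hc : A ≤ centralizer (sigmaCore M : Set G) := hA.trans inf_le_right
  have hσU : ¬ InUniqueMaximal (sigmaCore M) := by
    intro hU
    apply hAU
    exact thm92 hG hU hc (fun h => ea_not_rankLE_one hAe hAc (h p hp))
  have hα := alpha_eq_empty_of hG hM hσU
  have hMα := alphaCore_eq_bot_of hα
  have hnil := nilpotent_commutator_of hG hM hMα
  have hr2 : ∀ q : ℕ, q.Prime → PRankLE q 2 (Oq q M) := by
    intro q hq
    by_contra h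
    exact hα q ⟨hq, fun h' => h (SCN.pRankLE_mono (Oq_le q M) h')⟩
  obtain ⟨q, hq, hqσ, hQb, hQs⟩ := exists_Oq_sigma hG hM hr2
  have : Fact q.Prime := ⟨hq⟩
  have hpq : p ≠ q := fun h => hpσ (h ▸ hqσ)
  have hNQ : normalizer (Oq q M : Set G) = M := normalizer_eq_of_isCoatom hG hM hQb (le_normalizer_Oq q M) (Oq_le q M)
  have hQσ : Oq q M ≤ sigmaCore M := sylow_le_sigmaCore hG hM hqσ hQs
  have hQA : Oq q M ≤ centralizer (A : Set G) := (le_centralizer_iff.1 (hc.trans (centralizer_le hQσ)))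
  have hqC : q ∣ Nat.card (centralizer (A : Set G)) := dvd_card_of_le (Oq_isPGroup hq M) hQb hQA
  have hQmax : MaxInv A q (Oq q M) := by
    refine ⟨⟨Oq_isPGroup hq M, hAM.trans (le_normalizer_Oq q M)⟩, fun R hR hQR => ?_⟩
    by_contra hne
    have hlt : Oq q M < R := lt_of_le_of_ne hQR (Ne.symm hne)
    have h1 := lt_normalizer_of_lt hR.1 hlt
    have h2 : R ⊓ normalizer (Oq q M : Set G) = Oq q M :=
      hQs.eq_of_le (hR.1.to_le inf_le_left) (inf_le_right.trans hNQ.le) h1.le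
    exact absurd h1 (by rw [h2]; exact lt_irrefl _)
  obtain ⟨P, hP, hAP, -, -, hPc, -⟩ := thm1010 hG hpq hmax hqC hQmax
  rw [hNQ] at hPc
  have hPM : P ≤ M := hPc.trans (commutator_le_self M)
  have hPs : IsSylIn p P ⁅M, M⁆ := hP.mono hPc le_top
  have hPn : M ≤ normalizer (P : Set G) :=
    normal_of_nilpotent_sylow (commutator_le_self M) (H22.Basic.right_le_normalizer_commutator M M) hnil hPs
  have hPb : P ≠ ⊥ := fun h => hmax.ne_bot (le_bot_iff.1 (h ▸ hAP))
  have hN : normalizer (P : Set G) = M := normalizer_eq_of_isCoatom hG hM hPb hPn hPM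
  exact hpσ (sigma_of_normalizer hp (dvd_card_of_le hP.isPGroup hPb hPM) (hP.mono hPM le_top) hN.le)

/-- characteristic subgroups of a normal subgroup that is cyclic -/
theorem normal_of_cyclic {Y Z M : Subgroup G} (hZ : IsCyclic Z) (hYZ : Y ≤ Z) (hn : M ≤ normalizer (Z : Set G)) :
    M ≤ normalizer (Y : Set G) := by
  intro g hg
  rw [mem_normalizer_iff_cj]
  apply Core.cyclic_eq_of_card_eq' hZ _ hYZ (card_cj g Y)
  have := cj_mono (g := g) hYZ
  rwa [cj_eq_of_mem_normalizer (hn hg)] at this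

theorem isCyclic_of_rankLE_one (hG : IsMinSimpleOddOrder G) {X : Subgroup G} (hn : Group.IsNilpotent X) (h : RankLE 1 X) : IsCyclic X := by
  refine CN.cyclic_of_nilpotent hn fun p hp S hS => ?_
  have : Fact p.Prime := ⟨hp⟩
  have h1 : PRankLE p 1 S := SCN.pRankLE_mono hS.le (h p hp)
  by_cases hSb : S = ⊥
  · rw [hSb]; infer_instance
  apply PG.isCyclic_of_no_rank_two_int (prime_ne_two hG (dvd_card_of_le (X := ⊤) hS.isPGroup hSb le_top |>.trans (by rw [card_top]))) hS.isPGroup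
  intro A hAS hAc hAp
  have := SCN.pRankLE_iff.1 h1 A hAS ⟨hAc, hAp⟩
  rwa [pow_one] at this

/-- `M'` centralizes every cyclic normal subgroup of `M` -/
theorem commutator_cent_cyclic {Z M : Subgroup G} (hZ : IsCyclic Z) (hn : M ≤ normalizer (Z : Set G)) :
    ⁅M, M⁆ ≤ centralizer (Z : Set G) := by
  rw [commutator_le]
  intro a ha b hb
  have h1 := Narrow.mulAut_comm_of_cyclic hZ (Z.normalizerMonoidHom ⟨a, hn ha⟩) (Z.normalizerMonoidHom ⟨b, hn hb⟩)
  rw [mem_centralizer_iff]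
  intro z hz
  -- b⁻¹... compute
  have h2 : ∀ w : Z, Z.normalizerMonoidHom ⟨a, hn ha⟩ (Z.normalizerMonoidHom ⟨b, hn hb⟩ w) =
      Z.normalizerMonoidHom ⟨b, hn hb⟩ (Z.normalizerMonoidHom ⟨a, hn ha⟩ w) := fun w => by
    have := congrArg (fun f : MulAut Z => f w) h1
    simpa using this
  have h3 : ∀ w ∈ Z, a * (b * w * b⁻¹) * a⁻¹ = b * (a * w * a⁻¹) * b⁻¹ := fun w hw => congrArg Subtype.val (h2 ⟨w, hw⟩)
  have hz' : a⁻¹ * (b⁻¹ * z * b) * a ∈ Z := by
    have e1 : b⁻¹ * z * b ∈ Z := by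
      have := ((mem_normalizer_iff.1 (inv_mem (hn hb))) z).1 hz
      simpa using this
    have := ((mem_normalizer_iff.1 (inv_mem (hn ha))) _).1 e1
    simpa using this
  have h4 := h3 _ hz'
  have e2 : b * (a * (a⁻¹ * (b⁻¹ * z * b) * a) * a⁻¹) * b⁻¹ = z := by group
  rw [e2] at h4
  -- h4 : a * (b * (a⁻¹ * (b⁻¹ * z * b) * a) * b⁻¹) * a⁻¹ = z
  have e3 : a * (b * (a⁻¹ * (b⁻¹ * z * b) * a) * b⁻¹) * a⁻¹ = ⁅a, b⁆ * z * ⁅a, b⁆⁻¹ := by
    rw [commutatorElement_def]; group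
  rw [e3] at h4
  have h5 : ⁅a, b⁆ * z = z * ⁅a, b⁆ := by
    have := mul_inv_eq_iff_eq_mul.1 h4
    exact this
  exact h5.symm

/-- BG 10.11(c) -/
theorem cent_sigma_cyclic (hG : IsMinSimpleOddOrder G) {M : Subgroup G} (hM : IsCoatom M) {K : Subgroup G} (hKM : K ≤ M)
    (hK : SigmaC M K) : IsCyclic ↥(K ⊓ centralizer (sigmaCore M : Set G) ⊓ ⁅K, K⁆) ∧
      M ≤ normalizer ((K ⊓ centralizer (sigmaCore M : Set G) ⊓ ⁅K, K⁆ : Subgroup G) : Set G) := by
  set Z := piCoreOf (sigma M)ᶜ (fittingOf M) with hZ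
  have hZF : Z ≤ fittingOf M := Core.piCoreOf_le _ _
  have hZM : Z ≤ M := hZF.trans (Core.fittingOf_le M)
  have hZn : M ≤ normalizer (Z : Set G) := (Core.le_normalizer_fittingOf M).trans (Core.normalizer_le_normalizer_piCoreOf _ _)
  have hZπ : SigmaC M Z := Core.piCoreOf_piNum _ _
  have hZnil : Group.IsNilpotent Z := nilp_mono hZF (Core.fittingOf_isNilpotent M)
  have hZσ : Z ≤ centralizer (sigmaCore M : Set G) :=
    le_centralizer_of_inf ((hZM).trans (le_normalizer_sigmaCore M)) ((sigmaCore_le M).trans hZn) (by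
      rw [inf_comm]; exact hZπ.inf_eq_bot)
  have hZc : IsCyclic Z := by
    apply isCyclic_of_rankLE_one hG hZnil
    have := rank_cent_sigma hG hM hZM hZπ
    rwa [inf_eq_left.2 hZσ] at this
  have hM'Z : ⁅M, M⁆ ≤ centralizer (Z : Set G) := commutator_cent_cyclic hZc hZn
  set Y := K ⊓ centralizer (sigmaCore M : Set G) ⊓ ⁅K, K⁆ with hY
  have hYM : Y ≤ M := (inf_le_left.trans inf_le_left).trans hKM
  have hYF : Y ≤ centralizer (fittingOf M : Set G) := by
    rw [le_centralizer_fittingOf_iff]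
    intro q hq
    by_cases hqσ : q ∈ sigma M
    · have h1 : Oq q M ≤ sigmaCore M := Core.piCoreOf_mono_pi (by
        intro x hx
        rw [Set.mem_singleton_iff] at hx
        rw [hx]; exact hqσ) M
      exact (inf_le_left.trans inf_le_right).trans (centralizer_le h1)
    · have h1 : Oq q M ≤ Z := by
        apply Core.le_piCoreOf (Oq_le_fittingOf hq M) ((Core.fittingOf_le M).trans (le_normalizer_Oq q M))
        have : Fact q.Prime := ⟨hq⟩
        obtain ⟨n, hn⟩ := IsPGroup.iff_card.1 (Oq_isPGroup hq M)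
        rw [hn]
        exact Core.piNum_of_pow hq hqσ
      exact (inf_le_right.trans (commutator_mono hKM hKM)).trans (hM'Z.trans (centralizer_le h1))
  have hYF' : Y ≤ fittingOf M := (le_inf hYM hYF).trans (Core.inf_centralizer_fittingOf_le M (solvable_of_ne_top hG hM.1))
  have hYπ : SigmaC M Y := hK.mono (inf_le_left.trans inf_le_left)
  have hYZ : Y ≤ Z := by
    -- a σ'-subgroup of the nilpotent group F(M)
    have hFnil := Core.fittingOf_isNilpotent M
    apply le_of_sylow (M := Y) (K := Z)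
    intro p hp hpY P hP
    have : Fact p.Prime := ⟨hp⟩
    have hpσ : p ∉ sigma M := hYπ p hp hpY
    have h1 : P ≤ Oq p M := le_Oq_of_le_fittingOf hp (hP.le.trans hYF') hP.isPGroup
    refine h1.trans ?_
    apply Core.le_piCoreOf (Oq_le_fittingOf hp M) ((Core.fittingOf_le M).trans (le_normalizer_Oq p M))
    obtain ⟨n, hn⟩ := IsPGroup.iff_card.1 (Oq_isPGroup hp M)
    rw [hn]
    exact Core.piNum_of_pow hp hpσ
  refine ⟨?_, normal_of_cyclic hZc hYZ hZn⟩
  exact isCyclic_of_injective (inclusion hYZ) (inclusion_injective hYZ)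

/-- BG 10.11(d) -/
theorem comm_sigma_cyclic (hG : IsMinSimpleOddOrder G) {M : Subgroup G} (hM : IsCoatom M) {K : Subgroup G} (hKM : K ≤ M)
    (hK : SigmaC M K) (hKc : IsMulCommutative K) {p : ℕ} [hp : Fact p.Prime] (hpσ : p ∉ sigma M) (hpK : ¬ p ∣ Nat.card K)
    {P : Subgroup G} (hP : Nat.card P = p) (hPM : P ≤ M) (hPK : P ≤ normalizer (K : Set G))
    (hfix : sigmaCore M ⊓ centralizer (P : Set G) = ⊥) :
    ⁅K, P⁆ ≤ centralizer (sigmaCore M : Set G) ∧ IsCyclic ↥⁅K, P⁆ ∧ M ≤ normalizer ((⁅K, P⁆ : Subgroup G) : Set G) := by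
  have hMs := solvable_of_ne_top hG hM.1
  set K₀ := ⁅K, P⁆ with hK₀
  have hK₀K : K₀ ≤ K := H22.Basic.commutator_le_left hPK
  have hPK₀ : P ≤ normalizer (K₀ : Set G) := H22.Basic.right_le_normalizer_commutator K P
  have hcPK : (Nat.card P).Coprime (Nat.card K) := by rw [hP]; exact (Nat.Prime.coprime_iff_not_dvd hp.out).2 hpK
  have hPπ : SigmaC M P := by
    intro r hr hrd
    rw [hP] at hrd
    have := (Nat.prime_dvd_prime_iff_eq hr hp.out).1 hrd
    rw [this]; exact hpσ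
  have hcσ : K₀ ≤ centralizer (sigmaCore M : Set G) := by
    refine FrobK.frob_trivial (M := sigmaCore M) (K := K₀) (R := P) (BG1.isSolvable_of_le (sigmaCore_le M) hMs)
      ((hK₀K.trans hKM).trans (le_normalizer_sigmaCore M)) (hPM.trans (le_normalizer_sigmaCore M)) hPK₀
      ((hK.mono hK₀K).coprime.symm) hPπ.coprime.symm ?_ hfix
    intro r hr hr1 k hk hkr
    -- r generates P, k ∈ [K,P] ∩ C(P) = 1
    have hz : zpowers r = P := by
      apply Subgroup.eq_of_le_of_card_ge (zpowers_le.2 hr)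
      rw [Nat.card_zpowers, hP]
      have h1 : orderOf r ∣ p := by rw [← hP]; exact Subgroup.orderOf_dvd_natCard P hr
      rcases (Nat.dvd_prime hp.out).1 h1 with h | h
      · exact absurd (orderOf_eq_one_iff.1 h) hr1
      · exact h.ge
    have h2 : k ∈ centralizer (P : Set G) := by
      rw [← hz]
      rw [mem_centralizer_iff]
      intro y hy
      obtain ⟨n, rfl⟩ := mem_zpowers_iff.1 hy
      exact ((show Commute k r from hkr).zpow_right n).symm
    have h3 := H1.Coprime.inf_commutator_eq_bot_of_abelian P K hPK hcPK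
    have h4 : k ∈ (K ⊓ centralizer (P : Set G)) ⊓ ⁅K, P⁆ := mem_inf.2 ⟨mem_inf.2 ⟨hK₀K hk, h2⟩, hk⟩
    rw [h3, mem_bot] at h4
    exact h4
  have hKP : K ⊔ P ≤ M := sup_le hKM hPM
  have hKPπ : SigmaC M (K ⊔ P) := by
    unfold SigmaC
    rw [sup_comm]
    exact Core.piNum_sup hPK hPπ hK
  obtain ⟨h1, h2⟩ := cent_sigma_cyclic hG hM hKP hKPπ
  have h3 : K₀ ≤ (K ⊔ P) ⊓ centralizer (sigmaCore M : Set G) ⊓ ⁅K ⊔ P, K ⊔ P⁆ :=
    le_inf (le_inf (hK₀K.trans le_sup_left) hcσ) (commutator_mono le_sup_left le_sup_right)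
  exact ⟨hcσ, isCyclic_of_injective (inclusion h3) (inclusion_injective h3), normal_of_cyclic h1 h3 h2⟩

end Cfsg.Agent.H12.BG10
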