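import Mathlib
import Cfsg.Prelude.Def_Transfer
import Cfsg.Agent.H18_Qd
import Cfsg.Agent.H1_Frattini

set_option autoImplicit false

/-! Nonabelian groups of order `p³`; the Sylow `p`-subgroup of `Qd(p)`. -/

namespace Cfsg.Agent.H18.Qd

open Cfsg Matrix Subgroup
open Cfsg.Agent.H5.SL2 (S u l d w)
open scoped commutatorElement

universe u₁ v₁

variable {p : ℕ} [hp : Fact p.Prime]

theorem card_center_cube {Q : Type u₁} [Group Q] [Finite Q] (hc : Nat.card Q = p ^ 3)
    (hn : ∃ x y : Q, x * y ≠ y * x) : Nat.card (center Q) = p := by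
  have hQ : IsPGroup p Q := IsPGroup.of_card hc
  have hnt : Nontrivial Q := by
    rw [← Finite.one_lt_card_iff_nontrivial, hc]
    exact Nat.one_lt_pow (by norm_num) hp.out.one_lt
  have h1 : Nontrivial (center Q) := hQ.center_nontrivial
  have h2 : Nat.card (center Q) ∣ p ^ 3 := hc ▸ Subgroup.card_subgroup_dvd_card _
  obtain ⟨k, hk, hkc⟩ := (Nat.dvd_prime_pow hp.out).1 h2
  have hk0 : k ≠ 0 := by
    rintro rfl
    rw [pow_zero] at hkc
    rw [← Finite.one_lt_card_iff_nontrivial, hkc] at h1
    exact lt_irrefl _ h1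
  have hidx := (center Q).card_mul_index
  obtain ⟨x, y, hxy⟩ := hn
  have hk3 : k ≠ 3 := by
    rintro rfl
    have h3 : center Q = ⊤ := Subgroup.eq_top_of_card_eq _ (by rw [hkc, hc])
    apply hxy
    have : x ∈ center Q := by rw [h3]; trivial
    exact ((Subgroup.mem_center_iff.1 this) y).symm
  have hk2 : k ≠ 2 := by
    rintro rfl
    rw [hkc, hc] at hidx
    have h3 : (center Q).index = p := by
      have : p ^ 2 * (center Q).index = p ^ 2 * p := by rw [hidx]; ring
      exact Nat.eq_of_mul_eq_mul_left (pow_pos hp.out.pos 2) this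
    have h4 : IsCyclic (Q ⧸ center Q) := isCyclic_of_prime_card (p := p) h3
    apply hxy
    exact commutative_of_cyclic_center_quotient (QuotientGroup.mk' (center Q)) (by rw [QuotientGroup.ker_mk']) x y
  have : k = 1 := by omega
  rw [hkc, this, pow_one]

theorem extraspecial_cube {Q : Type u₁} [Group Q] [Finite Q] (hc : Nat.card Q = p ^ 3)
    (hn : ∃ x y : Q, x * y ≠ y * x) (he : ∀ x : Q, x ^ p = 1) : IsExtraspecial p Q := by
  have hQ : IsPGroup p Q := IsPGroup.of_card hc
  have hz := card_center_cube hc hn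
  have hidx := (center Q).card_mul_index
  rw [hz, hc] at hidx
  have h3 : Nat.card (Q ⧸ center Q) = p ^ 2 := by
    have : p * (center Q).index = p * p ^ 2 := by rw [hidx]; ring
    exact Nat.eq_of_mul_eq_mul_left hp.out.pos this
  have hcomm : commutator Q ≤ center Q := by
    rw [_root_.commutator_def, Subgroup.commutator_le]
    intro a _ b _
    rw [← QuotientGroup.eq_one_iff]
    have h4 := IsPGroup.commutative_of_card_eq_prime_sq h3 (a : Q ⧸ center Q) (b : Q ⧸ center Q)
    rw [commutatorElement_def, QuotientGroup.mk_mul, QuotientGroup.mk_mul, QuotientGroup.mk_mul, h4,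
      QuotientGroup.mk_inv, QuotientGroup.mk_inv]
    group
  have hcb : commutator Q ≠ ⊥ := by
    intro h
    obtain ⟨x, y, hxy⟩ := hn
    apply hxy
    have : ⁅x, y⁆ ∈ commutator Q := Subgroup.commutator_mem_commutator (mem_top x) (mem_top y)
    rw [h, Subgroup.mem_bot, commutatorElement_eq_one_iff_mul_comm] at this
    exact this
  have hce : commutator Q = center Q := by
    apply Subgroup.eq_of_le_of_card_ge hcomm
    rw [hz]
    have hd : Nat.card (commutator Q) ∣ p := (Subgroup.card_dvd_of_le hcomm).trans (dvd_of_eq hz)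
    rcases (Nat.dvd_prime hp.out).1 hd with h4 | h4
    · exact absurd (Subgroup.card_eq_one.1 h4) hcb
    · exact h4.ge
  refine ⟨⟨hQ, le_antisymm ?_ ?_, hce⟩, hz⟩
  · exact H1.Frattini.frattini_le_of_elementary (p := p) _ hcomm (fun x => by rw [he x]; exact one_mem _)
  · rw [← hce]
    exact (H1.Nilp.commutator_le_frattini hQ).1

namespace IsQd

variable {Y : Type u₁} [Group Y] {m : S (ZMod p) → (Fin 2 → ZMod p) → Y}

theorem E_pow (h : IsQd p m) (a : ZMod p × (Fin 2 → ZMod p)) (n : ℕ) :
    h.E a ^ n = h.E ((n : ZMod p) * a.1, ![n * a.2 0 + (n.choose 2 : ℕ) * (a.1 * a.2 1), n * a.2 1]) := by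
  induction n with
  | zero =>
    rw [pow_zero]
    apply Subtype.ext
    rw [h.E_coe]
    show (1 : Y) = _
    rw [← h.one]
    congr 1
    · simp [H5.SL2.u_zero]
    · ext i
      fin_cases i <;> simp
  | succ n ih =>
    rw [pow_succ, ih, h.E_mul]
    congr 1
    apply Prod.ext
    · simp [mulc]; ring
    · ext i
      fin_cases i
      · have : (n + 1).choose 2 = n + n.choose 2 := by
          rw [Nat.choose_succ_succ' n 1, Nat.choose_one_right]
        simp [mulc, this]; ring
      · simp [mulc]; ring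

theorem pow_p (h : IsQd p m) (hp2 : p ≠ 2) (t : h.T) : t ^ p = 1 := by
  obtain ⟨a, rfl⟩ := h.E.surjective t
  rw [h.E_pow]
  apply Subtype.ext
  rw [h.E_coe]
  show _ = (1 : Y)
  rw [← h.one]
  have h1 : ((p.choose 2 : ℕ) : ZMod p) = 0 := by
    rw [ZMod.natCast_eq_zero_iff]
    exact hp.out.dvd_choose_self (by norm_num) (lt_of_le_of_ne hp.out.two_le (Ne.symm hp2))
  congr 1
  · simp [H5.SL2.u_zero]
  · ext i
    fin_cases i
    · simp [h1]
    · simp

theorem T_noncomm (h : IsQd p m) : ∃ x y : h.T, x * y ≠ y * x := by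
  refine ⟨h.E (1, 0), h.E (0, ![0, 1]), fun hxy => ?_⟩
  rw [h.E_mul, h.E_mul] at hxy
  have h1 := h.E.injective hxy
  have h2 := congrArg (fun a : ZMod p × (Fin 2 → ZMod p) => a.2 0) h1
  simp [mulc] at h2

theorem T_extraspecial (h : IsQd p m) (hp2 : p ≠ 2) : IsExtraspecial p h.T := by
  have := h.finite
  exact extraspecial_cube h.card_T h.T_noncomm (h.pow_p hp2)

end IsQd

end Cfsg.Agent.H18.Qd
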