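import Mathlib
import Cfsg.Prelude.Def_FusionSystem
import Cfsg.Agent.H27_FusNorm2
import Cfsg.Agent.H27_FusEss
import Cfsg.Agent.H27_Model2

/-! Radical subgroups under conjugation; fusion systems on groups of Heisenberg type. -/

set_option autoImplicit false
set_option linter.all false
open Cfsg Cfsg.FusionSystem

namespace Cfsg.Agent.H1.FusA

open Cfsg.Agent.H27.Grp Cfsg.Agent.H27.Fus

universe u

variable {Ω : Type u} [Group Ω] {S : Subgroup Ω}
variable {F : FusionSystem S} {P Q R V : Subgroup Ω} {f g : Ω → Ω} {p : ℕ}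

section rad

variable [Fact p.Prime] [Finite S]

/-- a normal `p`-subgroup of `Aut_F(P)`, `P` radical, is inner -/
theorem rad_le (hr : F.IsRadical p P) {X : Subgroup (MulAut P)} (hXA : X ≤ F.autGroup P)
    (hXn : F.autGroup P ≤ Subgroup.normalizer (X : Set (MulAut P))) (hXp : IsPGroup p X) : X ≤ Inn P := by
  rw [← hr.2]
  intro a ha
  have hn : (X.subgroupOf (F.autGroup P)).Normal := by
    refine ⟨fun a ha g => ?_⟩
    exact (Subgroup.mem_normalizer_iff.1 (hXn g.2) a).1 ha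
  have h3 : X.subgroupOf (F.autGroup P) ≤ pCore p (F.autGroup P) :=
    le_pCore hn (hXp.comap_of_injective _ (Subgroup.subtype_injective _))
  exact ⟨⟨a, hXA ha⟩, h3 ha, rfl⟩

theorem rad_iff (hS : IsPGroup p S) : F.IsRadical p P ↔ P ≤ S ∧ ∀ X : Subgroup (MulAut P), X ≤ F.autGroup P →
    F.autGroup P ≤ Subgroup.normalizer (X : Set (MulAut P)) → IsPGroup p X → X ≤ Inn P := by
  constructor
  · intro h
    exact ⟨h.1, fun X h1 h2 h3 => rad_le h h1 h2 h3⟩
  · rintro ⟨hP, h⟩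
    refine ⟨hP, le_antisymm ?_ ?_⟩
    · refine h _ (Subgroup.map_subtype_le _) ?_ ((isPGroup_pCore' _ _).map _)
      have hn := pCore_normal' p (F.autGroup P)
      refine le_normalizer_of fun a ha y hy => ?_
      obtain ⟨x, hx, rfl⟩ := Subgroup.mem_map.1 hy
      have h1 : (⟨a, ha⟩ : F.autGroup P) * x * (⟨a, ha⟩ : F.autGroup P)⁻¹ ∈ pCore p (F.autGroup P) :=
        hn.conj_mem x hx _
      exact Subgroup.mem_map.2 ⟨_, h1, rfl⟩
    · have hle : Inn P ≤ F.autGroup P := (inn_le_autInducedBy hP).trans (autInducedBy_le_autGroup F hP)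
      have h1 : outK F P ≤ pCore p (F.autGroup P) := le_pCore inferInstance (isPGroup_outK hS hP)
      intro x hx
      exact ⟨⟨x, hle hx⟩, h1 (show _ ∈ outK F P from hx), rfl⟩

theorem rad_iso (hS : IsPGroup p S) (h : Iso F P Q f) (hr : F.IsRadical p P) : F.IsRadical p Q := by
  rw [rad_iff hS] at hr ⊢
  refine ⟨h.le', fun X hXA hXn hXp => ?_⟩
  set φ := MulAut.congr h.equiv with hφ
  have h1 := hr.2 (X.comap φ.toMonoidHom) ?_ ?_ ?_
  · rw [← h.map_inn]
    intro x hx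
    obtain ⟨y, rfl⟩ := φ.surjective x
    exact ⟨y, h1 hx, rfl⟩
  · intro x hx
    have : φ x ∈ F.autGroup Q := hXA hx
    rw [← h.map_autGroup] at this
    obtain ⟨y, hy, hyx⟩ := this
    have : y = x := φ.injective hyx
    rw [← this]; exact hy
  · refine le_normalizer_of ?_
    intro a ha x hx
    have h2 : φ a ∈ F.autGroup Q := by rw [← h.map_autGroup]; exact ⟨a, ha, rfl⟩
    have h3 : φ a * φ x * (φ a)⁻¹ ∈ X := (Subgroup.mem_normalizer_iff.1 (hXn h2) _).1 hx
    show φ (a * x * a⁻¹) ∈ X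
    rw [map_mul, map_mul, map_inv]; exact h3
  · exact hXp.comap_of_injective _ φ.injective

/-- a centric radical subgroup absorbs subgroups acting trivially on `C` and `P/C` -/
theorem le_of_radical2 (hS : IsPGroup p S) (hc : F.IsCentric P) (hr : F.IsRadical p P) (hQS : Q ≤ S)
    (hPQ : P ≤ Subgroup.normalizer (Q : Set Ω)) (C : Subgroup Ω) (hinv : AutInv F P C)
    (h : ∀ s ∈ Q, s ∈ Subgroup.normalizer (P : Set Ω) →
      (∀ x ∈ P, x ∈ C → s * x * s⁻¹ = x) ∧ ∀ x ∈ P, x⁻¹ * (s * x * s⁻¹) ∈ C) : Q ≤ P := by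
  let D : ℕ → Subgroup Ω := fun j => if j = 0 then ⊥ else if j = 1 then C else ⊤
  have hD0 : D 0 = ⊥ := by simp [D]
  have hD1 : D 1 = C := by simp [D]
  have hD2 : ∀ j, D (j + 2) = ⊤ := fun j => by simp [D]
  have hDm : ∀ j, D j ≤ D (j + 1) := by
    intro j
    rcases j with _ | _ | j
    · rw [hD0]; exact bot_le
    · rw [hD2]; exact le_top
    · rw [hD2 (j + 1)]; exact le_top
  have hDi : ∀ j, AutInv F P (D j) := by
    intro j
    rcases j with _ | _ | j
    · rw [hD0]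
      intro α hα x hx
      have : x = 1 := Subtype.ext (Subgroup.mem_bot.1 hx)
      rw [this, map_one]; exact Subgroup.one_mem _
    · rw [zero_add, hD1]; exact hinv
    · rw [hD2]; exact autInv_top
  refine le_of_radical hS hc hr hQS hPQ (X := ChainStab F P D hDm hDi) (fun α hα => hα.1)
      ChainStab_normal (ChainStab_isPGroup hS hc.1 2 (by rw [hD2 0]; exact le_top) (by
        rw [hD0]
        exact fun α _ => ⟨0, fun x hx => by
          have : x = 1 := Subtype.ext (Subgroup.mem_bot.1 hx)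
          rw [this, map_one]⟩)) ?_
  intro s hs hN
  refine ⟨autInducedBy_le_autGroup F hc.1 (cjA_mem hN (hQS hs)), fun j x hx => ?_⟩
  rw [cjA_apply]
  obtain ⟨h1, h2⟩ := h s hs hN
  rcases j with _ | _ | j
  · rw [zero_add, hD1] at hx
    rw [hD0, h1 x x.2 hx]
    simp
  · rw [zero_add, hD1]; exact h2 x x.2
  · rw [hD2]; trivial

/-- automorphisms in the system trivial on `Z` and on `V/Z` (`Z` not assumed invariant) -/
def St2 (F : FusionSystem S) (V Z : Subgroup Ω) : Subgroup (MulAut V) where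
  carrier := {α | α ∈ F.autGroup V ∧ (∀ x : V, (x : Ω)⁻¹ * (α x : Ω) ∈ Z) ∧ ∀ x : V, (x : Ω) ∈ Z → α x = x}
  one_mem' := ⟨Subgroup.one_mem _, fun x => by simp [Subgroup.one_mem], fun x _ => rfl⟩
  mul_mem' := by
    rintro a b ⟨ha, ha', ha''⟩ ⟨hb, hb', hb''⟩
    refine ⟨Subgroup.mul_mem _ ha hb, fun x => ?_, fun x hx => ?_⟩
    · have h1 := Z.mul_mem (hb' x) (ha' (b x))
      rw [MulAut.mul_apply]
      simpa [mul_assoc] using h1
    · rw [MulAut.mul_apply, hb'' x hx, ha'' x hx]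
  inv_mem' := by
    rintro a ⟨ha, ha', ha''⟩
    refine ⟨Subgroup.inv_mem _ ha, fun x => ?_, fun x hx => ?_⟩
    · have h3 := Z.inv_mem (ha' (a⁻¹ x))
      rw [MulAut.apply_inv_self] at h3
      simpa using h3
    · have := ha'' x hx
      calc a⁻¹ x = a⁻¹ (a x) := by rw [this]
        _ = x := MulAut.inv_apply_self _ _ _

theorem isPGroup_St2 (hS : IsPGroup p S) (hVS : V ≤ S) (Z : Subgroup Ω) : IsPGroup p (St2 F V Z) := by
  refine isPGroup_of_pow fun α hα => ?_
  obtain ⟨e, he⟩ := exists_pow_card hS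
  have hP : ∃ n, ∀ x ∈ V, x ^ (p ^ n) = 1 := ⟨e, fun x hx => he x (hVS hx)⟩
  let D : ℕ → Subgroup Ω := fun j => if j = 0 then ⊥ else if j = 1 then Z else ⊤
  have hD0 : D 0 = ⊥ := by simp [D]
  have hD1 : D 1 = Z := by simp [D]
  have hD2 : ∀ j, D (j + 2) = ⊤ := fun j => by simp [D]
  have hDm : ∀ j, D j ≤ D (j + 1) := by
    intro j
    rcases j with _ | _ | j
    · rw [hD0]; exact bot_le
    · rw [hD2]; exact le_top
    · rw [hD2 (j + 1)]; exact le_top
  obtain ⟨k, hk⟩ := exists_pow_chain hP (α := α) D hDm (by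
      rw [hD0]
      exact ⟨0, fun x hx => by
        have : x = 1 := Subtype.ext (Subgroup.mem_bot.1 hx)
        rw [this, map_one]⟩) (by
      intro j x hx
      rcases j with _ | _ | j
      · rw [zero_add, hD1] at hx
        rw [hD0, hα.2.2 x hx]
        simp
      · rw [zero_add, hD1]; exact hα.2.1 x
      · rw [hD2]; trivial) 2
  exact ⟨k, fun x => hk x (by rw [hD2 0]; trivial)⟩

/-- a `p`-element of `H` lies in every normal subgroup of `H` containing a Sylow `p`-subgroup -/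
theorem mem_of_syl {G : Type*} [Group G] {H N T : Subgroup G} [Finite H] (hT : IsSyl p T H) (hTN : T ≤ N)
    (hN : ∀ h ∈ H, ∀ n ∈ N, h * n * h⁻¹ ∈ N) {X : Subgroup G} (hX : IsPGroup p X) (hXH : X ≤ H) : X ≤ N := by
  obtain ⟨a, ha, haX⟩ := hT.conj hXH hX
  intro x hx
  have h1 : a * x * a⁻¹ ∈ N := hTN (haX (conj_mem_cj hx))
  have h2 := hN a⁻¹ (H.inv_mem ha) _ h1
  have h3 : a⁻¹ * (a * x * a⁻¹) * a⁻¹⁻¹ = x := by group
  rwa [h3] at h2

end rad

/-- groups of Heisenberg type -/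
structure HeisLike (S : Subgroup Ω) : Prop where
  c1 : ∀ x ∈ S, ∀ y ∈ S, x⁻¹ * (y * x * y⁻¹) ∈ centralizerIn S S
  c2 : ∀ x ∈ S, x ∉ centralizerIn S S → ∀ a ∈ S, ∀ b ∈ S, a * x = x * a → b * x = x * b → a * b = b * a
  c3 : ∀ x ∈ S, x ∉ centralizerIn S S → ∀ z ∈ centralizerIn S S, ∃ s ∈ S, s * x * s⁻¹ = x * z

theorem zc_le (hc : F.IsCentric P) : centralizerIn S S ≤ P :=
  (cen_anti hc.1).trans (IsCentric.cen_le hc)

/-- automorphisms fixing `Q` pointwise and `v` modulo `Q` -/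
def Hq (F : FusionSystem S) (V Q : Subgroup Ω) (v : V) : Subgroup (MulAut V) where
  carrier := {β | β ∈ F.autGroup V ∧ (∀ x : V, (x : Ω) ∈ Q → β x = x) ∧ (v : Ω)⁻¹ * (β v : V) ∈ Q}
  one_mem' := ⟨Subgroup.one_mem _, fun x _ => rfl, by simp [Subgroup.one_mem]⟩
  mul_mem' := by
    rintro a b ⟨ha, ha', ha''⟩ ⟨hb, hb', hb''⟩
    refine ⟨Subgroup.mul_mem _ ha hb, fun x hx => ?_, ?_⟩
    · rw [MulAut.mul_apply, hb' x hx, ha' x hx]
    · have h1 : b v = v * (v⁻¹ * b v) := by group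
      have h2 : a (v⁻¹ * b v) = v⁻¹ * b v := ha' _ hb''
      rw [MulAut.mul_apply, h1, map_mul, h2]
      have h3 := Q.mul_mem ha'' hb''
      simpa [mul_assoc] using h3
  inv_mem' := by
    rintro a ⟨ha, ha', ha''⟩
    have hfix : ∀ x : V, (x : Ω) ∈ Q → a⁻¹ x = x := fun x hx => by
      have := ha' x hx
      calc a⁻¹ x = a⁻¹ (a x) := by rw [this]
        _ = x := MulAut.inv_apply_self _ _ _
    refine ⟨Subgroup.inv_mem _ ha, hfix, ?_⟩
    have h1 : a (v * (v⁻¹ * a v)⁻¹) = v := by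
      rw [map_mul, map_inv, ha' (v⁻¹ * a v) ha'']; group
    have h2 : a⁻¹ v = v * (v⁻¹ * a v)⁻¹ := by
      calc a⁻¹ v = a⁻¹ (a (v * (v⁻¹ * a v)⁻¹)) := by rw [h1]
        _ = _ := MulAut.inv_apply_self _ _ _
    rw [h2]
    have h3 := Q.inv_mem ha''
    simpa [mul_assoc] using h3

section heis

variable [Fact p.Prime] [Finite S]

theorem heis_norm (hH : HeisLike S) (hZ : centralizerIn S S ≤ P) (hP : P ≤ S) {s : Ω} (hs : s ∈ S) :
    s ∈ Subgroup.normalizer (P : Set Ω) := by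
  have key : ∀ s ∈ S, ∀ x ∈ P, s * x * s⁻¹ ∈ P := by
    intro s hs x hx
    have h1 := P.mul_mem hx (hZ (hH.c1 x (hP hx) s hs))
    simpa [mul_assoc] using h1
  rw [Subgroup.mem_normalizer_iff]
  intro x
  refine ⟨key s hs x, fun h => ?_⟩
  have := key s⁻¹ (S.inv_mem hs) _ h
  simpa [mul_assoc] using this

theorem heis_norm_eq (hH : HeisLike S) (hZ : centralizerIn S S ≤ P) (hP : P ≤ S) : normalizerIn S P = S :=
  le_antisymm nrm_le fun s hs => ⟨hs, heis_norm hH hZ hP hs⟩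

/-- proper centric radical subgroups are abelian -/
theorem heis_abelian (hS : IsPGroup p S) (hH : HeisLike S) (hc : F.IsCentric P) (hr : F.IsRadical p P)
    (hne : P ≠ S) : ∀ a ∈ P, ∀ b ∈ P, a * b = b * a := by
  by_contra hab
  push Not at hab
  obtain ⟨a, ha, b, hb, hab⟩ := hab
  have hPS := hc.1
  have hZP : centralizerIn S S ≤ P := zc_le hc
  -- the centre of `P` is the centre of `S`
  have hZ : ∀ z ∈ P, (∀ y ∈ P, y * z = z * y) → z ∈ centralizerIn S S := by
    intro z hz hzP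
    by_contra hzn
    exact hab (hH.c2 z (hPS hz) hzn a (hPS ha) b (hPS hb) (hzP a ha) (hzP b hb))
  have hinv : AutInv F P (centralizerIn S S) := by
    intro α hα x hx
    refine hZ _ (α x).2 fun y hy => ?_
    have h1 : (α⁻¹ ⟨y, hy⟩) * x = x * α⁻¹ ⟨y, hy⟩ :=
      Subtype.ext (cen_comm hx (hPS (α⁻¹ ⟨y, hy⟩).2))
    have h2 := congrArg α h1
    rw [map_mul, map_mul, MulAut.apply_inv_self] at h2
    exact congrArg Subtype.val h2
  have hSP : S ≤ P := le_of_radical2 hS hc hr le_rfl (hPS.trans Subgroup.le_normalizer) (centralizerIn S S) hinv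
    fun s hs hN => ⟨fun x hx hxZ => by rw [cen_comm hxZ hs]; group, fun x hx => hH.c1 x (hPS hx) s hs⟩
  exact hne (le_antisymm hPS hSP)

theorem heis_exists (hS : IsPGroup p S) (hH : HeisLike S) (hc : F.IsCentric P) (hne : P ≠ S) :
    ∃ x ∈ P, x ∉ centralizerIn S S := by
  by_contra h
  push Not at h
  apply hne
  refine le_antisymm hc.1 fun s hs => IsCentric.cen_le hc (mem_cen.2 ⟨hs, fun y hy => ?_⟩)
  exact (cen_comm (h y hy) hs).symm

theorem heis_cen (hS : IsPGroup p S) (hH : HeisLike S) (hc : F.IsCentric P) (hr : F.IsRadical p P)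
    (hne : P ≠ S) {x : Ω} (hx : x ∈ P) (hxZ : x ∉ centralizerIn S S) {a : Ω} (ha : a ∈ S) (hax : a * x = x * a) :
    a ∈ P := by
  refine IsCentric.cen_le hc (mem_cen.2 ⟨ha, fun y hy => ?_⟩)
  exact hH.c2 x (hc.1 hx) hxZ y (hc.1 hy) a ha (heis_abelian hS hH hc hr hne y hy x hx) hax

theorem heis_inter (hS : IsPGroup p S) (hH : HeisLike S) (hc : F.IsCentric P) (hr : F.IsRadical p P)
    (hne : P ≠ S) (hc' : F.IsCentric Q) (hr' : F.IsRadical p Q) (hne' : Q ≠ S) (hPQ : P ≠ Q) :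
    P ⊓ Q ≤ centralizerIn S S := by
  rintro x ⟨hxP, hxQ⟩
  have hxP : x ∈ P := hxP
  have hxQ : x ∈ Q := hxQ
  by_contra hxZ
  apply hPQ
  apply le_antisymm
  · intro a ha
    exact heis_cen hS hH hc' hr' hne' hxQ hxZ (hc.1 ha) (heis_abelian hS hH hc hr hne a ha x hxP)
  · intro a ha
    exact heis_cen hS hH hc hr hne hxP hxZ (hc'.1 ha) (heis_abelian hS hH hc' hr' hne' a ha x hxQ)

/-- no nontrivial strongly closed central subgroup when there is a proper centric radical subgroup -/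
theorem heis_key (hS : IsPGroup p S) (hF : F.IsSaturated p) (hH : HeisLike S) (hc : F.IsCentric V)
    (hr : F.IsRadical p V) (hne : V ≠ S) (hQ : F.StronglyClosed Q) (hQZ : Q ≤ centralizerIn S S) : Q = ⊥ := by
  by_contra hQb
  have hVS := hc.1
  have hfV : Finite V := finite_of_le hVS
  have hZV : centralizerIn S S ≤ V := zc_le hc
  have hVab := heis_abelian hS hH hc hr hne
  have hfn : F.IsFullyNormalized V := by
    refine ⟨hVS, fun R hR => ?_⟩
    rw [heis_norm_eq hH hZV hVS]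
    exact card_le_of_le nrm_le
  have hsyl : IsSyl p (autInducedBy S V) (F.autGroup V) := (isFullyAutomized_iff.1 (fn_automized hS hF hfn)).2
  have hfA : Finite (F.autGroup V) := finite_autGroup hVS
  -- the Sylow subgroup is not normal
  have hnn : ¬ F.autGroup V ≤ Subgroup.normalizer (autInducedBy S V : Set (MulAut V)) := by
    intro hn
    have h1 := rad_le hr hsyl.le hn hsyl.isPGroup
    apply hne
    refine le_antisymm hVS fun s hs => ?_
    have hsN := heis_norm hH hZV hVS hs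
    have h2 := h1 (cjA_mem hsN hs)
    exact (cj_inn_iff (IsCentric.cen_le hc) hVS ⟨hs, hsN⟩ (fun x => rfl)).1 h2
  have hex : ∃ α ∈ F.autGroup V, ∃ τ ∈ autInducedBy S V, α * τ * α⁻¹ ∉ autInducedBy S V := by
    by_contra h
    push Not at h
    exact hnn (le_normalizer_of h)
  obtain ⟨α, hα, τ, hτ, hατ⟩ := hex
  obtain ⟨s₀, hs₀, hτs⟩ := mem_autInducedBy.1 hτ
  -- elements of `Aut_S(V)` lie in `St2`
  have hT1 : autInducedBy S V ≤ St2 F V (centralizerIn S S) := by
    intro β hβ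
    obtain ⟨s, hs, hβs⟩ := mem_autInducedBy.1 hβ
    refine ⟨hsyl.le hβ, fun x => ?_, fun x hx => ?_⟩
    · rw [hβs]; exact hH.c1 x (hVS x.2) s hs
    · apply Subtype.ext
      rw [hβs, cen_comm hx hs]; group
  have hz : ∃ z : V, (z : Ω) ∈ centralizerIn S S ∧ (α z : Ω) ∉ centralizerIn S S := by
    by_contra h
    push Not at h
    -- `α` preserves the centre
    have hbij : ∀ z : V, (z : Ω) ∈ centralizerIn S S → ((α⁻¹ z : V) : Ω) ∈ centralizerIn S S := by
      intro z hz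
      have hfin : Finite {z : V // (z : Ω) ∈ centralizerIn S S} := inferInstance
      let ψ : {z : V // (z : Ω) ∈ centralizerIn S S} → {z : V // (z : Ω) ∈ centralizerIn S S} :=
        fun z => ⟨α z.1, h z.1 z.2⟩
      have hψ : Function.Injective ψ := fun a b hab => Subtype.ext (α.injective (congrArg Subtype.val hab))
      obtain ⟨w, hw⟩ := (Finite.injective_iff_surjective.1 hψ) ⟨z, hz⟩
      have : α w.1 = z := congrArg Subtype.val hw
      rw [← this, MulAut.inv_apply_self]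
      exact w.2
    have h3 : autInducedBy S V = St2 F V (centralizerIn S S) :=
      hsyl.eq_of_le (fun β hβ => hβ.1) (isPGroup_St2 hS hVS _) hT1
    apply hατ
    rw [h3]
    obtain ⟨h4, h5, h6⟩ := hT1 hτ
    refine ⟨Subgroup.mul_mem _ (Subgroup.mul_mem _ hα h4) (Subgroup.inv_mem _ hα), fun x => ?_, fun x hx => ?_⟩
    · have h7 := h ((α⁻¹ x)⁻¹ * τ (α⁻¹ x)) (h5 (α⁻¹ x))
      rw [map_mul, map_inv, MulAut.apply_inv_self] at h7
      exact h7
    · show α (τ (α⁻¹ x)) = x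
      rw [h6 _ (hbij x hx), MulAut.apply_inv_self]
  obtain ⟨z, hz, hαz⟩ := hz
  obtain ⟨c, hcQ, hc1⟩ : ∃ c ∈ Q, c ≠ 1 := by
    by_contra h
    push Not at h
    exact hQb ((Subgroup.eq_bot_iff_forall _).2 h)
  -- the element `v`
  obtain ⟨s, hs, hsv⟩ := hH.c3 (α z : Ω) (hVS (α z).2) hαz c (hQZ hcQ)
  have hsN := heis_norm hH hZV hVS hs
  have hinv : ∀ β ∈ F.autGroup V, ∀ x : V, (x : Ω) ∈ Q → ((β x : V) : Ω) ∈ Q := autInv_of_strong hVS hQ
  have hHle : Hq F V Q (α z) ≤ F.autGroup V := fun β hβ => hβ.1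
  have hfH : Finite (Hq F V Q (α z)) := finite_of_le hHle
  -- the conjugate Sylow subgroup
  have hT2 : IsSyl p (cj α (autInducedBy S V)) (F.autGroup V) := hsyl.cj_mem hα
  let N : Subgroup (MulAut V) :=
    { carrier := {β | β ∈ Hq F V Q (α z) ∧ β (α z) = α z}
      one_mem' := ⟨Subgroup.one_mem _, rfl⟩
      mul_mem' := by
        rintro a b ⟨ha, ha'⟩ ⟨hb, hb'⟩
        exact ⟨Subgroup.mul_mem _ ha hb, by rw [MulAut.mul_apply, hb', ha']⟩
      inv_mem' := by
        rintro a ⟨ha, ha'⟩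
        refine ⟨Subgroup.inv_mem _ ha, ?_⟩
        calc a⁻¹ (α z) = a⁻¹ (a (α z)) := by rw [ha']
          _ = _ := MulAut.inv_apply_self _ _ _ }
  have hNH : N ≤ Hq F V Q (α z) := fun β hβ => hβ.1
  have hT2N : cj α (autInducedBy S V) ≤ N := by
    rintro _ ⟨β, hβ, rfl⟩
    obtain ⟨h4, h5, h6⟩ := hT1 hβ
    have hmem : α * β * α⁻¹ ∈ F.autGroup V := Subgroup.mul_mem _ (Subgroup.mul_mem _ hα h4) (Subgroup.inv_mem _ hα)
    have hfix : (α * β * α⁻¹) (α z) = α z := by
      show α (β (α⁻¹ (α z))) = α z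
      rw [MulAut.inv_apply_self, h6 z hz]
    refine ⟨⟨hmem, fun x hx => ?_, ?_⟩, hfix⟩
    · show α (β (α⁻¹ x)) = x
      rw [h6 _ (hQZ (hinv _ (Subgroup.inv_mem _ hα) x hx)), MulAut.apply_inv_self]
    · have h7 : (((α * β * α⁻¹) (α z) : V) : Ω) = (α z : V) := congrArg Subtype.val hfix
      show ((α z : V) : Ω)⁻¹ * (((α * β * α⁻¹) (α z) : V) : Ω) ∈ Q
      rw [h7, inv_mul_cancel]; exact Q.one_mem
  have hT2H : IsSyl p (cj α (autInducedBy S V)) (Hq F V Q (α z)) := hT2.mono (hT2N.trans hNH) hHle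
  have hNn : ∀ h ∈ Hq F V Q (α z), ∀ n ∈ N, h * n * h⁻¹ ∈ N := by
    intro h hh n hn
    refine ⟨Subgroup.mul_mem _ (Subgroup.mul_mem _ hh hn.1) (Subgroup.inv_mem _ hh), ?_⟩
    show h (n (h⁻¹ (α z))) = α z
    have h8 := (Subgroup.inv_mem _ hh : h⁻¹ ∈ Hq F V Q (α z)).2.2
    have h9 : h⁻¹ (α z) = α z * ((α z)⁻¹ * h⁻¹ (α z)) := by group
    have h10 : n (h⁻¹ (α z)) = h⁻¹ (α z) := by
      rw [h9, map_mul, hn.2, hn.1.2.1 _ h8]
    rw [h10, MulAut.apply_inv_self]
  have ht : cjA V s hsN ∈ Hq F V Q (α z) := by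
    refine ⟨hsyl.le (cjA_mem hsN hs), fun x hx => ?_, ?_⟩
    · apply Subtype.ext
      rw [cjA_apply, cen_comm (hQZ hx) hs]; group
    · rw [cjA_apply, hsv]
      simpa using hcQ
  have hX : Subgroup.zpowers (cjA V s hsN) ≤ N := by
    refine mem_of_syl hT2H hT2N hNn ?_ (Subgroup.zpowers_le.2 ht)
    exact isPGroup_mono hsyl.isPGroup (Subgroup.zpowers_le.2 (cjA_mem hsN hs))
  have h11 : (cjA V s hsN) (α z) = α z := (hX (Subgroup.mem_zpowers _)).2
  have h12 := congrArg Subtype.val h11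
  rw [cjA_apply, hsv] at h12
  exact hc1 (by simpa using h12)

/-- **Main theorem**: a saturated system on a Heisenberg type group which is not constrained has trivial core -/
theorem heis_core (hS : IsPGroup p S) (hF : F.IsSaturated p) (hH : HeisLike S)
    (hnc : ¬ ∃ R, F.IsNormal R ∧ F.IsCentric R) : F.core = ⊥ := by
  have hcore := core_normal F
  have h1 : ∃ V, F.IsCentric V ∧ F.IsRadical p V ∧ V ≠ S := by
    by_contra h
    push Not at h
    refine hnc ⟨S, normal_of_essential hS hF ?_, top_centric F⟩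
    rintro P (rfl | hP)
    · exact ⟨le_rfl, fun f hf => hf.im_eq⟩
    · have := h P hP.1 (essential_radical hS hP)
      exact absurd this (essential_ne_top hS hF hP)
  obtain ⟨V, hVc, hVr, hVne⟩ := h1
  have h2 : ∃ V', F.IsCentric V' ∧ F.IsRadical p V' ∧ V' ≠ S ∧ V ≠ V' := by
    by_contra h
    push Not at h
    refine hnc ⟨V, normal_of_essential hS hF ?_, hVc⟩
    rintro P (rfl | hP)
    · refine ⟨hVc.1, fun f hf => ?_⟩
      have h3 := hf.restrict hVc.1
      refine (h _ (IsCentric.conj hVc h3.isConj) (rad_iso hS h3 hVr) ?_).symm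
      intro h4
      apply hVne
      have h5 := h3.card
      rw [h4] at h5
      exact eq_of_le_of_card_le hVc.1 h5.ge
    · have := h P hP.1 (essential_radical hS hP) (essential_ne_top hS hF hP)
      subst this
      exact ⟨le_rfl, fun f hf => hf.im_eq⟩
  obtain ⟨V', hVc', hVr', hVne', hVV'⟩ := h2
  refine heis_key hS hF hH hVc hVr hVne (IsNormal.strong hcore) ?_
  exact (le_inf (normal_le_radical hS hcore hVc hVr) (normal_le_radical hS hcore hVc' hVr')).trans
    (heis_inter hS hH hVc hVr hVne hVc' hVr' hVne' hVV')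

end heis

end Cfsg.Agent.H1.FusA
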