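import Mathlib
import Cfsg.Agent.H1_FusA

/-! Groups of automorphisms of abelian `p`-groups generated by transvections (Oliver's lemma). -/

set_option autoImplicit false
set_option linter.all false
open Cfsg Cfsg.FusionSystem

namespace Cfsg.Agent.H1.FusT

open Cfsg.Agent.H27.Grp Cfsg.Agent.H27.Fus Cfsg.Agent.H1.FusA

universe u

variable {Ω : Type u} [Group Ω] {V R R' Z Z' : Subgroup Ω} {p : ℕ}

/-- stabiliser of a chain `1 ≤ D₁ ≤ D₂ ≤ V` -/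
def St3 (V D₁ D₂ : Subgroup Ω) (h : D₁ ≤ D₂) : Subgroup (MulAut V) where
  carrier := {α | (∀ x : V, (x : Ω) ∈ D₁ → α x = x) ∧ (∀ x : V, (x : Ω) ∈ D₂ → (x : Ω)⁻¹ * (α x : V) ∈ D₁) ∧
    ∀ x : V, (x : Ω)⁻¹ * (α x : V) ∈ D₂}
  one_mem' := ⟨fun x _ => rfl, fun x _ => by simp [Subgroup.one_mem], fun x => by simp [Subgroup.one_mem]⟩
  mul_mem' := by
    rintro a b ⟨h1, h2, h3⟩ ⟨k1, k2, k3⟩
    refine ⟨fun x hx => ?_, fun x hx => ?_, fun x => ?_⟩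
    · rw [MulAut.mul_apply, k1 x hx, h1 x hx]
    · have e1 : b x = x * (x⁻¹ * b x) := by group
      have e2 : a (x⁻¹ * b x) = x⁻¹ * b x := h1 _ (k2 x hx)
      rw [MulAut.mul_apply, e1, map_mul, e2]
      have h3 := D₁.mul_mem (h2 x hx) (k2 x hx)
      simpa [mul_assoc] using h3
    · have e1 : b x = x * (x⁻¹ * b x) := by group
      have e2 : (a (x⁻¹ * b x) : Ω) ∈ D₂ := by
        have e3 := D₂.mul_mem (k3 x) (h3 (x⁻¹ * b x))
        simpa [mul_assoc] using e3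
      rw [MulAut.mul_apply, e1, map_mul]
      have e4 := D₂.mul_mem (h3 x) e2
      simpa [mul_assoc] using e4
  inv_mem' := by
    rintro a ⟨h1, h2, h3⟩
    have k1 : ∀ x : V, (x : Ω) ∈ D₁ → a⁻¹ x = x := fun x hx => by
      calc a⁻¹ x = a⁻¹ (a x) := by rw [h1 x hx]
        _ = x := MulAut.inv_apply_self _ _ _
    have k2 : ∀ x : V, (x : Ω) ∈ D₂ → (x : Ω)⁻¹ * (a⁻¹ x : V) ∈ D₁ := by
      intro x hx
      have e1 : a (x * (x⁻¹ * a x)⁻¹) = x := by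
        rw [map_mul, map_inv, h1 (x⁻¹ * a x) (h2 x hx)]; group
      have e2 : a⁻¹ x = x * (x⁻¹ * a x)⁻¹ := by
        calc a⁻¹ x = a⁻¹ (a (x * (x⁻¹ * a x)⁻¹)) := by rw [e1]
          _ = _ := MulAut.inv_apply_self _ _ _
      rw [e2]
      have h3 := D₁.inv_mem (h2 x hx)
      simpa [mul_assoc] using h3
    refine ⟨k1, k2, fun x => ?_⟩
    have e5 : (a⁻¹ (x⁻¹ * a x) : Ω) ∈ D₂ := by
      have e3 := D₂.mul_mem (h3 x) (h (k2 (x⁻¹ * a x) (h3 x)))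
      simpa [mul_assoc] using e3
    have e6 := D₂.inv_mem e5
    have e7 : (a⁻¹ (x⁻¹ * a x))⁻¹ = x⁻¹ * a⁻¹ x := by
      rw [map_mul, map_inv, MulAut.inv_apply_self]; group
    have e8 : ((a⁻¹ (x⁻¹ * a x) : V) : Ω)⁻¹ = (x : Ω)⁻¹ * (a⁻¹ x : V) := congrArg Subtype.val e7
    rwa [← e8]

theorem isPGroup_St3 [Fact p.Prime] (hV : ∃ n, ∀ x ∈ V, x ^ (p ^ n) = 1) {D₁ D₂ : Subgroup Ω} (h : D₁ ≤ D₂) :
    IsPGroup p (St3 V D₁ D₂ h) := by
  refine isPGroup_of_pow fun α hα => ?_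
  let D : ℕ → Subgroup Ω := fun j => if j = 0 then ⊥ else if j = 1 then D₁ else if j = 2 then D₂ else ⊤
  have hD0 : D 0 = ⊥ := by simp [D]
  have hD1 : D 1 = D₁ := by simp [D]
  have hD2 : D 2 = D₂ := by simp [D]
  have hD3 : ∀ j, D (j + 3) = ⊤ := fun j => by simp [D]
  have hDm : ∀ j, D j ≤ D (j + 1) := by
    intro j
    rcases j with _ | _ | _ | j
    · rw [hD0]; exact bot_le
    · rw [zero_add, hD1, hD2]; exact h
    · rw [hD3 0]; exact le_top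
    · rw [hD3 (j + 1)]; exact le_top
  obtain ⟨k, hk⟩ := exists_pow_chain hV (α := α) D hDm (by
      rw [hD0]
      exact ⟨0, fun x hx => by
        have : x = 1 := Subtype.ext (Subgroup.mem_bot.1 hx)
        rw [this, map_one]⟩) (by
      intro j x hx
      rcases j with _ | _ | _ | j
      · rw [zero_add, hD1] at hx
        rw [hD0, hα.1 x hx]
        simp
      · rw [zero_add, hD1]
        rw [show (0 + 1 + 1 : ℕ) = 2 from rfl, hD2] at hx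
        exact hα.2.1 x hx
      · rw [show (0 + 1 + 1 : ℕ) = 2 from rfl, hD2]; exact hα.2.2 x
      · rw [hD3]; trivial) 3
  exact ⟨k, fun x => hk x (by rw [hD3 0]; trivial)⟩

/-- transvection groups -/
structure Tv (p : ℕ) (T : Subgroup (MulAut V)) (R Z : Subgroup Ω) : Prop where
  RZ : R ≤ Z
  ZV : Z ≤ V
  fix : ∀ τ ∈ T, ∀ x : V, (x : Ω) ∈ Z → τ x = x
  quo : ∀ τ ∈ T, ∀ x : V, (x : Ω)⁻¹ * (τ x : V) ∈ R
  cR : Nat.card R = p
  cZ : Nat.card V = p * Nat.card Z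
  mov : ∀ x : V, (x : Ω) ∉ Z → ∃ τ ∈ T, τ x ≠ x

variable {T T' : Subgroup (MulAut V)}

theorem Tv.pair [Fact p.Prime] (hV : ∃ n, ∀ x ∈ V, x ^ (p ^ n) = 1) (h : Tv p T R Z) (h' : Tv p T' R' Z')
    (hR : R' ≤ Z) : IsPGroup p (T ⊔ T' : Subgroup (MulAut V)) := by
  refine (isPGroup_St3 (p := p) hV (le_sup_right : R' ≤ R ⊔ R')).to_le (sup_le ?_ ?_)
  · intro τ hτ
    refine ⟨fun x hx => h.fix τ hτ x (hR hx), fun x hx => ?_, fun x => (le_sup_left : R ≤ R ⊔ R') (h.quo τ hτ x)⟩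
    rw [h.fix τ hτ x ((sup_le h.RZ hR) hx)]
    simp [Subgroup.one_mem]
  · intro τ hτ
    exact ⟨fun x hx => h'.fix τ hτ x (h'.RZ hx), fun x hx => h'.quo τ hτ x,
      fun x => (le_sup_right : R' ≤ R ⊔ R') (h'.quo τ hτ x)⟩

theorem inf_bot_of_prime [Fact p.Prime] {A B : Subgroup Ω} (hA : Nat.card A = p) (h : ¬ A ≤ B) : A ⊓ B = ⊥ := by
  have hfA : Finite A := Nat.finite_of_card_ne_zero (by rw [hA]; exact (Fact.out : p.Prime).ne_zero)
  have h1 : Nat.card ↥(A ⊓ B : Subgroup Ω) ∣ p := by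
    rw [← hA]; exact Subgroup.card_dvd_of_le inf_le_left
  rcases (Nat.dvd_prime Fact.out).1 h1 with h2 | h2
  · exact Subgroup.card_eq_one.1 h2
  · exfalso
    apply h
    have h3 : A ⊓ B = A := eq_of_le_of_card_le inf_le_left (by rw [h2, hA])
    exact inf_eq_left.1 h3

/-- complement of a subgroup of index `p` -/
theorem exists_mul [Finite V] [Fact p.Prime] (hRV : R ≤ V) (hZV : Z ≤ V) (hR : Nat.card R = p)
    (hZ : Nat.card V = p * Nat.card Z) (h : R ⊓ Z = ⊥) {x : Ω} (hx : x ∈ V) : ∃ r ∈ R, ∃ z ∈ Z, r * z = x := by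
  have hfR : Finite R := finite_of_le hRV
  have hfZ : Finite Z := finite_of_le hZV
  let φ : R × Z → V := fun a => ⟨a.1 * a.2, V.mul_mem (hRV a.1.2) (hZV a.2.2)⟩
  have hφ : Function.Injective φ := by
    rintro ⟨a, b⟩ ⟨c, d⟩ hab
    have h1 : (a : Ω) * b = c * d := congrArg Subtype.val hab
    have h2 : (c : Ω)⁻¹ * a = d * (b : Ω)⁻¹ := by
      rw [eq_mul_inv_iff_mul_eq, mul_assoc, h1, inv_mul_cancel_left]
    have h3 : (c : Ω)⁻¹ * a ∈ R ⊓ Z :=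
      ⟨R.mul_mem (R.inv_mem c.2) a.2, h2 ▸ Z.mul_mem d.2 (Z.inv_mem b.2)⟩
    rw [h, Subgroup.mem_bot] at h3
    have h4 : (a : Ω) = c := (inv_mul_eq_one.1 h3).symm
    rw [h4] at h1
    exact Prod.ext (Subtype.ext h4) (Subtype.ext (mul_left_cancel h1))
  have hbij : Function.Bijective φ := by
    rw [Nat.bijective_iff_injective_and_card]
    exact ⟨hφ, by rw [Nat.card_prod, hR, hZ]⟩
  obtain ⟨⟨a, b⟩, hab⟩ := hbij.2 ⟨x, hx⟩
  exact ⟨a, a.2, b, b.2, congrArg Subtype.val hab⟩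

theorem eq_zpowers [Fact p.Prime] {A : Subgroup Ω} (hA : Nat.card A = p) {a : Ω} (ha : a ∈ A) (h1 : a ≠ 1) :
    A = Subgroup.zpowers a := by
  have hfA : Finite A := Nat.finite_of_card_ne_zero (by rw [hA]; exact (Fact.out : p.Prime).ne_zero)
  have h2 : Nat.card (Subgroup.zpowers a) ∣ p := by
    rw [← hA]; exact Subgroup.card_dvd_of_le (Subgroup.zpowers_le.2 ha)
  rcases (Nat.dvd_prime Fact.out).1 h2 with h3 | h3
  · exact absurd (Subgroup.zpowers_eq_bot.1 (Subgroup.card_eq_one.1 h3)) h1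
  · exact (eq_of_le_of_card_le (Subgroup.zpowers_le.2 ha) (by rw [h3, hA])).symm

theorem exists_npow [Fact p.Prime] {A : Subgroup Ω} (hA : Nat.card A = p) {a b : Ω} (ha : a ∈ A) (h1 : a ≠ 1)
    (hb : b ∈ A) : ∃ k : ℕ, a ^ k = b := by
  have hfA : Finite A := Nat.finite_of_card_ne_zero (by rw [hA]; exact (Fact.out : p.Prime).ne_zero)
  rw [eq_zpowers hA ha h1] at hb
  have hfin : IsOfFinOrder a := by
    have : IsOfFinOrder (⟨a, ha⟩ : A) := isOfFinOrder_of_finite _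
    exact (Submonoid.isOfFinOrder_coe (H := A.toSubmonoid) (x := ⟨a, ha⟩)).2 this
  exact (hfin.mem_powers_iff_mem_zpowers.2 hb)

theorem pow_aut {α : MulAut V} {x s : V} (h : α x = x * s) (hs : α s = s) (k : ℕ) : (α ^ k) x = x * s ^ k := by
  induction k with
  | zero => simp
  | succ k ih =>
    rw [pow_succ', MulAut.mul_apply, ih, map_mul, map_pow, h, hs, pow_succ', mul_assoc]

/-- the element `-1` -/
theorem Tv.exists_neg [Finite V] [Fact p.Prime] (hab : ∀ a ∈ V, ∀ b ∈ V, a * b = b * a)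
    (h : Tv p T R Z) (h' : Tv p T' R' Z') (h1 : ¬ R' ≤ Z) (h2 : ¬ R ≤ Z') :
    ∃ ε ∈ (T ⊔ T' : Subgroup (MulAut V)), (∀ x : V, (x : Ω) ∈ R → ε x = x⁻¹) ∧ (∀ x : V, (x : Ω) ∈ R' → ε x = x⁻¹) ∧
      ∀ x : V, (x : Ω) ∈ Z → (x : Ω) ∈ Z' → ε x = x := by
  have hRV : R ≤ V := h.RZ.trans h.ZV
  have hR'V : R' ≤ V := h'.RZ.trans h'.ZV
  have hi1 := inf_bot_of_prime h'.cR h1
  have hi2 := inf_bot_of_prime h.cR h2
  -- generator of `R'`
  obtain ⟨r', hr'⟩ : ∃ r' : V, (r' : Ω) ∈ R' ∧ (r' : Ω) ∉ Z := by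
    by_contra hcon
    push Not at hcon
    exact h1 fun x hx => hcon ⟨x, hR'V hx⟩ hx
  obtain ⟨t, ht, htr⟩ := h.mov r' hr'.2
  set r : V := r'⁻¹ * t r' with hr
  have hrR : (r : Ω) ∈ R := h.quo t ht r'
  have htr' : t r' = r' * r := by rw [hr]; group
  have hr1 : r ≠ 1 := fun h0 => htr (by rw [htr', h0, mul_one])
  have hr1' : (r : Ω) ≠ 1 := fun h0 => hr1 (Subtype.ext h0)
  have hr'1 : (r' : Ω) ≠ 1 := fun h0 => hr'.2 (h0 ▸ Z.one_mem)
  have hrZ' : (r : Ω) ∉ Z' := by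
    intro h0
    have : (r : Ω) ∈ R ⊓ Z' := ⟨hrR, h0⟩
    rw [hi2, Subgroup.mem_bot] at this
    exact hr1' this
  obtain ⟨τ, hτ, hτr⟩ := h'.mov r hrZ'
  have hsR : ((r⁻¹ * τ r : V) : Ω) ∈ R' := h'.quo τ hτ r
  have hs1 : ((r⁻¹ * τ r : V) : Ω) ≠ 1 := by
    intro h0
    apply hτr
    have h3 : r⁻¹ * τ r = 1 := Subtype.ext h0
    exact (inv_mul_eq_one.1 h3).symm
  obtain ⟨k, hk⟩ := exists_npow h'.cR hsR hs1 (R'.inv_mem hr'.1)
  have hk' : (r⁻¹ * τ r) ^ k = r'⁻¹ := Subtype.ext hk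
  have ht' : (τ ^ k) r = r * r'⁻¹ := by
    rw [pow_aut (s := r⁻¹ * τ r) (by group) (h'.fix τ hτ _ (h'.RZ hsR)), hk']
  set t' := τ ^ k with ht'def
  have ht'T : t' ∈ T' := T'.pow_mem hτ k
  have htfr : t r = r := h.fix t ht r (h.RZ hrR)
  have htfr' : t' r' = r' := h'.fix t' ht'T r' (h'.RZ hr'.1)
  have hcomm : r * r' = r' * r := Subtype.ext (hab _ r.2 _ r'.2)
  set w := t * t' * t with hw
  have hwr : w r = r'⁻¹ := by
    show t (t' (t r)) = _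
    rw [htfr, ht', map_mul, map_inv, htfr, htr', mul_inv_rev, ← mul_assoc, mul_inv_cancel, one_mul]
  have hwr' : w r' = r := by
    show t (t' (t r')) = _
    rw [htr', map_mul, htfr', ht', ← mul_assoc, ← hcomm, mul_assoc, mul_inv_cancel, mul_one, htfr]
  have hwmem : w ∈ (T ⊔ T' : Subgroup (MulAut V)) :=
    Subgroup.mul_mem _ (Subgroup.mul_mem _ (Subgroup.mem_sup_left ht) (Subgroup.mem_sup_right ht'T))
      (Subgroup.mem_sup_left ht)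
  refine ⟨w * w, Subgroup.mul_mem _ hwmem hwmem, ?_, ?_, ?_⟩
  · intro x hx
    obtain ⟨j, hj⟩ := exists_npow h.cR hrR hr1' hx
    have hj' : r ^ j = x := Subtype.ext hj
    rw [← hj', map_pow, MulAut.mul_apply, hwr, map_inv, hwr', inv_pow]
  · intro x hx
    obtain ⟨j, hj⟩ := exists_npow h'.cR hr'.1 hr'1 hx
    have hj' : r' ^ j = x := Subtype.ext hj
    rw [← hj', map_pow, MulAut.mul_apply, hwr', hwr, inv_pow]
  · intro x hx hx'
    have h3 : w x = x := by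
      show t (t' (t x)) = x
      rw [h.fix t ht x hx, h'.fix t' ht'T x hx', h.fix t ht x hx]
    rw [MulAut.mul_apply, h3, h3]

/-- image of a subgroup of `V` under an automorphism -/
def aim (α : MulAut V) (R : Subgroup Ω) : Subgroup Ω := (R.subgroupOf V).map (V.subtype.comp α.toMonoidHom)

theorem mem_aim {α : MulAut V} {R : Subgroup Ω} {y : Ω} : y ∈ aim α R ↔ ∃ x : V, (x : Ω) ∈ R ∧ ((α x : V) : Ω) = y := Iff.rfl

theorem mem_aim' {α : MulAut V} {R : Subgroup Ω} {y : V} : (y : Ω) ∈ aim α R ↔ ((α⁻¹ y : V) : Ω) ∈ R := by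
  rw [mem_aim]
  constructor
  · rintro ⟨x, hx, hxy⟩
    have : α x = y := Subtype.ext hxy
    rw [← this, MulAut.inv_apply_self]; exact hx
  · intro h
    exact ⟨_, h, by rw [MulAut.apply_inv_self]⟩

theorem aim_le {α : MulAut V} {R : Subgroup Ω} : aim α R ≤ V := by
  rintro _ ⟨x, -, rfl⟩; exact (α x).2

theorem card_aim {α : MulAut V} (hR : R ≤ V) : Nat.card (aim α R) = Nat.card R := by
  have h1 : Function.Injective (V.subtype.comp α.toMonoidHom) := fun a b hab => α.injective (Subtype.ext hab)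
  unfold aim
  rw [← Nat.card_congr ((R.subgroupOf V).equivMapOfInjective _ h1).toEquiv]
  exact Nat.card_congr (Subgroup.subgroupOfEquivOfLe hR).toEquiv

theorem aim_mono {α : MulAut V} (h : R ≤ Z) : aim α R ≤ aim α Z := by
  rintro _ ⟨x, hx, rfl⟩; exact ⟨x, h hx, rfl⟩

theorem aim_one (hR : R ≤ V) : aim (1 : MulAut V) R = R := by
  ext y
  rw [mem_aim]
  constructor
  · rintro ⟨x, hx, rfl⟩; exact hx
  · intro h; exact ⟨⟨y, hR h⟩, h, rfl⟩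

theorem aim_mul (α β : MulAut V) : aim (α * β) R = aim α (aim β R) := by
  ext y
  rw [mem_aim, mem_aim]
  constructor
  · rintro ⟨x, hx, rfl⟩; exact ⟨β x, mem_aim.2 ⟨x, hx, rfl⟩, rfl⟩
  · rintro ⟨x, hx, rfl⟩
    obtain ⟨z, hz, hzx⟩ := mem_aim.1 hx
    have : β z = x := Subtype.ext hzx
    exact ⟨z, hz, by rw [MulAut.mul_apply, this]⟩

theorem Tv.cj (h : Tv p T R Z) (α : MulAut V) : Tv p (cj α T) (aim α R) (aim α Z) where
  RZ := aim_mono h.RZ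
  ZV := aim_le
  fix := by
    rintro _ ⟨τ, hτ, rfl⟩ x hx
    show α (τ (α⁻¹ x)) = x
    rw [h.fix τ hτ _ (mem_aim'.1 hx), MulAut.apply_inv_self]
  quo := by
    rintro _ ⟨τ, hτ, rfl⟩ x
    refine mem_aim.2 ⟨(α⁻¹ x)⁻¹ * τ (α⁻¹ x), h.quo τ hτ _, ?_⟩
    rw [map_mul, map_inv, MulAut.apply_inv_self]; rfl
  cR := by rw [card_aim (h.RZ.trans h.ZV), h.cR]
  cZ := by rw [card_aim h.ZV, h.cZ]
  mov := by
    intro x hx
    rw [mem_aim'] at hx
    obtain ⟨τ, hτ, hx⟩ := h.mov _ hx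
    refine ⟨α * τ * α⁻¹, conj_mem_cj hτ, fun h0 => hx ?_⟩
    have h1 : α (τ (α⁻¹ x)) = x := h0
    calc τ (α⁻¹ x) = α⁻¹ (α (τ (α⁻¹ x))) := (MulAut.inv_apply_self _ _ _).symm
      _ = _ := by rw [h1]

/-- the transvection group determines `R` -/
theorem Tv.R_eq [Fact p.Prime] (h : Tv p T R Z) (h' : Tv p T' R' Z') (hTT : T ≤ T') (hne : ∃ x : V, (x : Ω) ∉ Z) :
    R = R' := by
  obtain ⟨x, hx⟩ := hne
  obtain ⟨τ, hτ, hτx⟩ := h.mov x hx
  have h1 := h.quo τ hτ x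
  have h2 := h'.quo τ (hTT hτ) x
  have h3 : (x : Ω)⁻¹ * (τ x : V) ≠ 1 := fun h0 => hτx (Subtype.ext (inv_mul_eq_one.1 h0)).symm
  rw [eq_zpowers h.cR h1 h3, eq_zpowers h'.cR h2 h3]

theorem Tv.exists_not_mem [Finite V] [Fact p.Prime] (h : Tv p T R Z) : ∃ x : V, (x : Ω) ∉ Z := by
  by_contra hcon
  push Not at hcon
  have h1 : V ≤ Z := fun x hx => hcon ⟨x, hx⟩
  have h2 : V = Z := le_antisymm h1 h.ZV
  have h3 := h.cZ
  rw [← h2] at h3
  have h4 : 0 < Nat.card V := Nat.card_pos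
  have h5 := (Fact.out : p.Prime).one_lt
  nlinarith

/-- **Oliver's lemma**, Sylow version -/
theorem tv_main [Finite V] [Fact p.Prime] (hab : ∀ a ∈ V, ∀ b ∈ V, a * b = b * a)
    (hV : ∃ n, ∀ x ∈ V, x ^ (p ^ n) = 1) {A : Subgroup (MulAut V)} [Finite A] (hT : IsSyl p T A)
    (h : Tv p T R Z) (hnn : ¬ A ≤ Subgroup.normalizer (T : Set (MulAut V))) :
    ∃ W C : Subgroup Ω, W ≤ V ∧ C ≤ V ∧ R ≤ W ∧ C ≤ Z ∧ W ⊓ C = ⊥ ∧ (∀ x ∈ V, ∃ w ∈ W, ∃ c ∈ C, w * c = x) ∧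
      Nat.card W = p ^ 2 ∧ (∀ x ∈ W, x ^ p = 1) ∧
      (∀ α ∈ A, ∀ x : V, (x : Ω) ∈ W → ((α x : V) : Ω) ∈ W) ∧
      (∀ α ∈ A, ∀ x : V, (x : Ω) ∈ C → ((α x : V) : Ω) ∈ C) ∧
      (∀ α ∈ A, ∀ τ ∈ Cfsg.Agent.H27.Grp.cj α T, (∀ x : V, (x : Ω) ∈ C → τ x = x) ∧
        ∀ x : V, (x : Ω)⁻¹ * (τ x : V) ∈ W) ∧
      (∀ x : V, (∀ α ∈ A, ∀ τ ∈ T, (α * τ * α⁻¹) x = x) → (x : Ω) ∈ C) ∧
      ∃ ε ∈ A, (∀ x : V, (x : Ω) ∈ W → ε x = x⁻¹) ∧ ∀ x : V, (x : Ω) ∈ C → ε x = x := by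
  have hp := (Fact.out : p.Prime)
  have hRV : R ≤ V := h.RZ.trans h.ZV
  -- two conjugates: either contained or generate a non `p`-group
  have hdich : ∀ β ∈ A, ∀ γ ∈ A, ¬ Cfsg.Agent.H27.Grp.cj β T ≤ Cfsg.Agent.H27.Grp.cj γ T →
      ¬ IsPGroup p (Cfsg.Agent.H27.Grp.cj β T ⊔ Cfsg.Agent.H27.Grp.cj γ T : Subgroup (MulAut V)) := by
    intro β hβ γ hγ hle hpg
    apply hle
    have h1 : IsSyl p (Cfsg.Agent.H27.Grp.cj γ T) A := hT.cj_mem hγ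
    have h2 : Cfsg.Agent.H27.Grp.cj γ T = Cfsg.Agent.H27.Grp.cj β T ⊔ Cfsg.Agent.H27.Grp.cj γ T :=
      h1.eq_of_le (sup_le (hT.cj_mem hβ).le h1.le) hpg le_sup_right
    rw [h2]; exact le_sup_left
  have hsep : ∀ β ∈ A, ∀ γ ∈ A, ¬ Cfsg.Agent.H27.Grp.cj β T ≤ Cfsg.Agent.H27.Grp.cj γ T → ¬ aim γ R ≤ aim β Z := by
    intro β hβ γ hγ hle hR
    exact hdich β hβ γ hγ hle ((h.cj β).pair hV (h.cj γ) hR)
  have hcard : ∀ β γ : MulAut V, Cfsg.Agent.H27.Grp.cj β T ≤ Cfsg.Agent.H27.Grp.cj γ T → Cfsg.Agent.H27.Grp.cj γ T ≤ Cfsg.Agent.H27.Grp.cj β T := by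
    intro β γ hle
    have hf : Finite ↥(Cfsg.Agent.H27.Grp.cj γ T) := finite_of_le (K := ⊤) le_top
    rw [eq_of_le_of_card_le hle (by rw [card_cj, card_cj])]
  obtain ⟨α, hα, τ₀, hτ₀, hατ⟩ : ∃ α ∈ A, ∃ τ ∈ T, α * τ * α⁻¹ ∉ T := by
    by_contra hcon
    push Not at hcon
    exact hnn (le_normalizer_of hcon)
  have hnle : ¬ Cfsg.Agent.H27.Grp.cj α T ≤ Cfsg.Agent.H27.Grp.cj 1 T := by
    intro hle
    rw [cj_one] at hle
    exact hατ (hle (conj_mem_cj hτ₀))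
  have hnle' : ¬ Cfsg.Agent.H27.Grp.cj 1 T ≤ Cfsg.Agent.H27.Grp.cj α T := fun hle => hnle (hcard _ _ hle)
  have e1 : aim (1 : MulAut V) R = R := aim_one hRV
  have e2 : aim (1 : MulAut V) Z = Z := aim_one h.ZV
  have hR' : ¬ aim α R ≤ Z := by
    have := hsep 1 (Subgroup.one_mem _) α hα hnle'
    rwa [e2] at this
  have hR'' : ¬ R ≤ aim α Z := by
    have := hsep α hα 1 (Subgroup.one_mem _) hnle
    rwa [e1] at this
  have hα' := h.cj α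
  have hi1 : aim α R ⊓ Z = ⊥ := inf_bot_of_prime hα'.cR hR'
  have hi2 : R ⊓ aim α Z = ⊥ := inf_bot_of_prime h.cR hR''
  have hR'V : aim α R ≤ V := aim_le
  have hWV : R ⊔ aim α R ≤ V := sup_le hRV hR'V
  have hcommW : ∀ a ∈ V, ∀ b ∈ V, a * b = b * a := hab
  -- elements of `W`
  have hWmem : ∀ x, x ∈ R ⊔ aim α R ↔ ∃ a ∈ R, ∃ b ∈ aim α R, a * b = x := by
    intro x
    constructor
    · intro hx
      have hn : R ≤ Subgroup.normalizer (aim α R : Set Ω) := by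
        refine le_normalizer_of fun a ha y hy => ?_
        rw [hab a (hRV ha) y (hR'V hy), mul_inv_cancel_right]; exact hy
      exact mem_sup_nrm hn hx
    · rintro ⟨a, ha, b, hb, rfl⟩
      exact Subgroup.mul_mem _ (Subgroup.mem_sup_left ha) (Subgroup.mem_sup_right hb)
  -- every nontrivial element of `W` lies in some `R^γ ≤ W` with `C ≤ Z^γ`
  have hline : ∀ w ∈ R ⊔ aim α R, ∃ γ ∈ A, w ∈ aim γ R ∧ aim γ R ≤ R ⊔ aim α R ∧ Z ⊓ aim α Z ≤ aim γ Z := by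
    intro w hw
    obtain ⟨a, ha, b, hb, rfl⟩ := (hWmem w).1 hw
    by_cases hb1 : b = 1
    · refine ⟨1, Subgroup.one_mem _, ?_, ?_, ?_⟩
      · rw [e1, hb1, mul_one]; exact ha
      · rw [e1]; exact le_sup_left
      · rw [e2]; exact inf_le_left
    · have hbZ : b ∉ Z := by
        intro hbZ
        have : b ∈ aim α R ⊓ Z := ⟨hb, hbZ⟩
        rw [hi1, Subgroup.mem_bot] at this
        exact hb1 this
      obtain ⟨τ, hτ, hτb⟩ := h.mov ⟨b, hR'V hb⟩ hbZ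
      set b' : V := ⟨b, hR'V hb⟩ with hb'
      have hs := h.quo τ hτ b'
      have hs1 : ((b'⁻¹ * τ b' : V) : Ω) ≠ 1 := by
        intro h0
        apply hτb
        have h3 : b'⁻¹ * τ b' = 1 := Subtype.ext h0
        exact (inv_mul_eq_one.1 h3).symm
      obtain ⟨k, hk⟩ := exists_npow h.cR hs hs1 ha
      have h4 : (τ ^ k) b' = b' * (b'⁻¹ * τ b') ^ k := pow_aut (by group) (h.fix τ hτ _ (h.RZ hs)) k
      have h5 : (((τ ^ k) b' : V) : Ω) = a * b := by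
        rw [h4, Subgroup.coe_mul, Subgroup.coe_pow]
        have hk' : (((b'⁻¹ * τ b' : V) : Ω)) ^ k = a := hk
        rw [hk']
        exact hab _ b'.2 _ (hRV ha)
      refine ⟨τ ^ k * α, Subgroup.mul_mem _ (Subgroup.pow_mem _ (hT.le hτ) k) hα, ?_, ?_, ?_⟩
      · rw [aim_mul]
        exact mem_aim.2 ⟨b', hb, h5⟩
      · rw [aim_mul]
        intro y hy
        obtain ⟨x, hx, rfl⟩ := mem_aim.1 hy
        have h6 : (((τ ^ k) x : V) : Ω) = x * ((x : Ω)⁻¹ * ((τ ^ k) x : V)) := by group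
        rw [h6]
        exact Subgroup.mul_mem _ (Subgroup.mem_sup_right hx)
          (Subgroup.mem_sup_left (h.quo _ (T.pow_mem hτ k) x))
      · rw [aim_mul]
        rintro y ⟨hy1, hy2⟩
        have hy1 : y ∈ Z := hy1
        have hy2 : y ∈ aim α Z := hy2
        refine mem_aim.2 ⟨⟨y, h.ZV hy1⟩, hy2, ?_⟩
        rw [h.fix _ (T.pow_mem hτ k) ⟨y, h.ZV hy1⟩ hy1]
  have hcW : Nat.card ↥(R ⊔ aim α R : Subgroup Ω) = p ^ 2 := by
    have hfR : Finite R := finite_of_le hRV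
    have hfR' : Finite ↥(aim α R) := finite_of_le hR'V
    let φ : R × ↥(aim α R) → ↥(R ⊔ aim α R : Subgroup Ω) := fun a =>
      ⟨a.1 * a.2, Subgroup.mul_mem _ (Subgroup.mem_sup_left a.1.2) (Subgroup.mem_sup_right a.2.2)⟩
    have hφ : Function.Bijective φ := by
      constructor
      · rintro ⟨a, b⟩ ⟨c, d⟩ hab
        have h1 : (a : Ω) * b = c * d := congrArg Subtype.val hab
        have h2 : (c : Ω)⁻¹ * a = d * (b : Ω)⁻¹ := by
          rw [eq_mul_inv_iff_mul_eq, mul_assoc, h1, inv_mul_cancel_left]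
        have h3 : (c : Ω)⁻¹ * a ∈ aim α R ⊓ Z :=
          ⟨h2 ▸ (aim α R).mul_mem d.2 ((aim α R).inv_mem b.2), h.RZ (R.mul_mem (R.inv_mem c.2) a.2)⟩
        rw [hi1, Subgroup.mem_bot] at h3
        have h4 : (a : Ω) = c := (inv_mul_eq_one.1 h3).symm
        rw [h4] at h1
        exact Prod.ext (Subtype.ext h4) (Subtype.ext (mul_left_cancel h1))
      · rintro ⟨x, hx⟩
        obtain ⟨a, ha, b, hb, rfl⟩ := (hWmem x).1 hx
        exact ⟨(⟨a, ha⟩, ⟨b, hb⟩), rfl⟩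
    rw [← Nat.card_congr (Equiv.ofBijective φ hφ), Nat.card_prod, h.cR, hα'.cR, sq]
  -- Claim 3
  have hclaim3 : ∀ β ∈ A, aim β R ≤ R ⊔ aim α R := by
    intro β hβ
    by_contra hβR
    have hWZ : (R ⊔ aim α R) ⊓ aim β Z = ⊥ := by
      rw [Subgroup.eq_bot_iff_forall]
      rintro w ⟨hw1, hw2⟩
      have hw1 : w ∈ R ⊔ aim α R := hw1
      have hw2 : w ∈ aim β Z := hw2
      obtain ⟨γ, hγ, hwγ, hγW, -⟩ := hline w hw1
      have h1 : ¬ Cfsg.Agent.H27.Grp.cj β T ≤ Cfsg.Agent.H27.Grp.cj γ T := by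
        intro hle
        apply hβR
        rw [(h.cj β).R_eq (h.cj γ) hle (h.cj β).exists_not_mem]
        exact hγW
      have h2 := inf_bot_of_prime (h.cj γ).cR (hsep β hβ γ hγ h1)
      have h3 : w ∈ aim γ R ⊓ aim β Z := ⟨hwγ, hw2⟩
      rw [h2, Subgroup.mem_bot] at h3
      exact h3
    -- cardinalities
    have hfW : Finite ↥(R ⊔ aim α R : Subgroup Ω) := finite_of_le hWV
    have hZV' : aim β Z ≤ V := aim_le
    have hfZ : Finite ↥(aim β Z) := finite_of_le hZV'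
    let φ : ↥(R ⊔ aim α R : Subgroup Ω) × ↥(aim β Z) → V := fun a =>
      ⟨a.1 * a.2, V.mul_mem (hWV a.1.2) (hZV' a.2.2)⟩
    have hφ : Function.Injective φ := by
      rintro ⟨a, b⟩ ⟨c, d⟩ hab
      have h1 : (a : Ω) * b = c * d := congrArg Subtype.val hab
      have h2 : (c : Ω)⁻¹ * a = d * (b : Ω)⁻¹ := by
        rw [eq_mul_inv_iff_mul_eq, mul_assoc, h1, inv_mul_cancel_left]
      have h3 : (c : Ω)⁻¹ * a ∈ (R ⊔ aim α R) ⊓ aim β Z :=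
        ⟨Subgroup.mul_mem _ (Subgroup.inv_mem _ c.2) a.2, h2 ▸ Subgroup.mul_mem _ d.2 (Subgroup.inv_mem _ b.2)⟩
      rw [hWZ, Subgroup.mem_bot] at h3
      have h4 : (a : Ω) = c := (inv_mul_eq_one.1 h3).symm
      rw [h4] at h1
      exact Prod.ext (Subtype.ext h4) (Subtype.ext (mul_left_cancel h1))
    have h5 := Nat.card_le_card_of_injective φ hφ
    rw [Nat.card_prod, hcW, (h.cj β).cZ] at h5
    have h6 : 0 < Nat.card ↥(aim β Z) := Nat.card_pos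
    have h7 := hp.one_lt
    have h8 : p ^ 2 ≤ p := Nat.le_of_mul_le_mul_right h5 h6
    nlinarith
  -- Claim 4
  have hclaim4 : ∀ β ∈ A, Z ⊓ aim α Z ≤ aim β Z := by
    intro β hβ
    have hβ' := h.cj β
    have hfR : Finite ↥(aim β R) := finite_of_le aim_le
    obtain ⟨w, hwR, hw1⟩ : ∃ w ∈ aim β R, w ≠ 1 := by
      by_contra hcon
      push Not at hcon
      have h1 : aim β R = ⊥ := (Subgroup.eq_bot_iff_forall _).2 hcon
      have h2 := hβ'.cR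
      rw [h1, Subgroup.card_bot] at h2
      exact hp.one_lt.ne h2
    obtain ⟨γ, hγ, hwγ, hγW, hCγ⟩ := hline w (hclaim3 β hβ hwR)
    have hRR : aim β R = aim γ R := by
      rw [eq_zpowers hβ'.cR hwR hw1, eq_zpowers (h.cj γ).cR hwγ hw1]
    have h1 : Cfsg.Agent.H27.Grp.cj β T ≤ Cfsg.Agent.H27.Grp.cj γ T := by
      by_contra hle
      apply hsep β hβ γ hγ hle
      rw [← hRR]; exact hβ'.RZ
    intro x hx
    have hx1 : x ∈ aim γ Z := hCγ hx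
    have hxV : x ∈ V := aim_le hx1
    by_contra hxZ
    obtain ⟨τ, hτ, hτx⟩ := hβ'.mov ⟨x, hxV⟩ hxZ
    exact hτx ((h.cj γ).fix τ (h1 hτ) ⟨x, hxV⟩ hx1)
  refine ⟨R ⊔ aim α R, Z ⊓ aim α Z, hWV, inf_le_left.trans h.ZV, le_sup_left, inf_le_left, ?_, ?_, hcW, ?_, ?_, ?_, ?_, ?_, ?_⟩
  · rw [Subgroup.eq_bot_iff_forall]
    rintro w ⟨hw1, hw2, hw3⟩
    have hw1 : w ∈ R ⊔ aim α R := hw1
    have hw2 : w ∈ Z := hw2
    have hw3 : w ∈ aim α Z := hw3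
    obtain ⟨a, ha, b, hb, rfl⟩ := (hWmem w).1 hw1
    have hb2 : b ∈ Z := by
      have := Z.mul_mem (Z.inv_mem (h.RZ ha)) hw2
      rwa [inv_mul_cancel_left] at this
    have hb3 : b ∈ aim α R ⊓ Z := ⟨hb, hb2⟩
    rw [hi1, Subgroup.mem_bot] at hb3
    rw [hb3, mul_one] at hw3 ⊢
    have ha3 : a ∈ R ⊓ aim α Z := ⟨ha, hw3⟩
    rwa [hi2, Subgroup.mem_bot] at ha3
  · intro x hx
    obtain ⟨b, hb, z, hz, rfl⟩ := exists_mul hR'V h.ZV hα'.cR h.cZ hi1 hx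
    obtain ⟨a, ha, c, hc, rfl⟩ := exists_mul hRV hα'.ZV h.cR hα'.cZ hi2 (h.ZV hz)
    refine ⟨a * b, Subgroup.mul_mem _ (Subgroup.mem_sup_left ha) (Subgroup.mem_sup_right hb), c, ⟨?_, hc⟩, ?_⟩
    · have := Z.mul_mem (Z.inv_mem (h.RZ ha)) hz
      rwa [inv_mul_cancel_left] at this
    · rw [hab a (hRV ha) b (hR'V hb), mul_assoc]
  · intro w hw
    obtain ⟨a, ha, b, hb, rfl⟩ := (hWmem w).1 hw
    have h1 : Commute a b := hab a (hRV ha) b (hR'V hb)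
    have h2 : a ^ p = 1 := by
      have := pow_card_eq_one' (x := (⟨a, ha⟩ : R))
      rw [h.cR] at this
      exact congrArg Subtype.val this
    have h3 : b ^ p = 1 := by
      have := pow_card_eq_one' (x := (⟨b, hb⟩ : ↥(aim α R)))
      rw [hα'.cR] at this
      exact congrArg Subtype.val this
    rw [h1.mul_pow, h2, h3, mul_one]
  · intro β hβ x hx
    obtain ⟨a, ha, b, hb, hab'⟩ := (hWmem _).1 hx
    have h1 : x = (⟨a, hRV ha⟩ : V) * ⟨b, hR'V hb⟩ := Subtype.ext hab'.symm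
    rw [h1, map_mul]
    refine Subgroup.mul_mem _ (hclaim3 β hβ (mem_aim.2 ⟨⟨a, hRV ha⟩, ha, rfl⟩)) ?_
    have h2 : ((β ⟨b, hR'V hb⟩ : V) : Ω) ∈ aim (β * α) R := by
      rw [aim_mul]; exact mem_aim.2 ⟨⟨b, hR'V hb⟩, hb, rfl⟩
    exact hclaim3 _ (Subgroup.mul_mem _ hβ hα) h2
  · intro β hβ x hx
    have h1 := hclaim4 β⁻¹ (Subgroup.inv_mem _ hβ) hx
    have h2 := hclaim4 (β⁻¹ * α) (Subgroup.mul_mem _ (Subgroup.inv_mem _ hβ) hα) hx
    rw [mem_aim', inv_inv] at h1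
    rw [aim_mul, mem_aim', inv_inv] at h2
    exact ⟨h1, h2⟩
  · intro β hβ τ hτ
    exact ⟨fun x hx => (h.cj β).fix τ hτ x (hclaim4 β hβ hx), fun x => hclaim3 β hβ ((h.cj β).quo τ hτ x)⟩
  · intro x hx
    refine ⟨?_, ?_⟩
    · by_contra hxZ
      obtain ⟨τ, hτ, hτx⟩ := h.mov x hxZ
      have := hx 1 (Subgroup.one_mem _) τ hτ
      rw [one_mul, inv_one, mul_one] at this
      exact hτx this
    · by_contra hxZ
      obtain ⟨_, ⟨τ, hτ, rfl⟩, hτx⟩ := hα'.mov x hxZ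
      exact hτx (hx α hα τ hτ)
  · obtain ⟨ε, hε, h1, h2, h3⟩ := h.exists_neg hab hα' hR' hR''
    refine ⟨ε, (sup_le hT.le (hT.cj_mem hα).le) hε, fun x hx => ?_, fun x hx => h3 x hx.1 hx.2⟩
    obtain ⟨a, ha, b, hb, hab'⟩ := (hWmem _).1 hx
    have h4 : x = (⟨a, hRV ha⟩ : V) * ⟨b, hR'V hb⟩ := Subtype.ext hab'.symm
    have h5 : (⟨a, hRV ha⟩ : V)⁻¹ * (⟨b, hR'V hb⟩ : V)⁻¹ = (⟨b, hR'V hb⟩ : V)⁻¹ * (⟨a, hRV ha⟩ : V)⁻¹ :=
      Subtype.ext (hab _ (V.inv_mem (hRV ha)) _ (V.inv_mem (hR'V hb)))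
    rw [h4, map_mul, h1 _ ha, h2 _ hb, mul_inv_rev, h5]

end Cfsg.Agent.H1.FusT
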