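import Mathlib
import Cfsg.Agent.H1_FusT
import Cfsg.Agent.H18_Qd2
import Cfsg.Agent.H5_Dih

/-! `p`-groups whose centre has index at most `p²`. -/

set_option autoImplicit false
set_option linter.all false
open Cfsg Cfsg.FusionSystem

namespace Cfsg.Agent.H1.FusZ

open Cfsg.Agent.H27.Grp Cfsg.Agent.H27.Fus Cfsg.Agent.H1.FusA Cfsg.Agent.H1.FusT
open scoped commutatorElement

section grp

variable {X : Type*} [Group X] [Finite X] {p : ℕ} [hp : Fact p.Prime]

theorem index_eq (hX : IsPGroup p X) (hi : (Subgroup.center X).index ≤ p ^ 2) (hn : ∃ x y : X, x * y ≠ y * x) :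
    (Subgroup.center X).index = p ^ 2 := by
  obtain ⟨n, hn'⟩ := IsPGroup.iff_card.1 hX
  obtain ⟨k, hk, hkc⟩ := (Nat.dvd_prime_pow hp.out).1 (hn' ▸ (Subgroup.center X).index_dvd_card)
  have hp1 := hp.out.one_lt
  have hk2 : k ≤ 2 := by
    rw [hkc] at hi
    exact (Nat.pow_le_pow_iff_right hp1).1 hi
  obtain ⟨x, y, hxy⟩ := hn
  interval_cases k
  · exfalso
    rw [pow_zero, Subgroup.index_eq_one] at hkc
    have : x ∈ Subgroup.center X := by rw [hkc]; trivial
    exact hxy (Subgroup.mem_center_iff.1 this y).symm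
  · exfalso
    rw [pow_one] at hkc
    have h4 : IsCyclic (X ⧸ Subgroup.center X) := isCyclic_of_prime_card (p := p) hkc
    exact hxy (commutative_of_cyclic_center_quotient (QuotientGroup.mk' (Subgroup.center X))
      (by rw [QuotientGroup.ker_mk']) x y)
  · exact hkc

theorem comm_mem (hi : (Subgroup.center X).index = p ^ 2) (x y : X) : ⁅x, y⁆ ∈ Subgroup.center X := by
  rw [← QuotientGroup.eq_one_iff]
  have h4 := IsPGroup.commutative_of_card_eq_prime_sq (p := p) hi (x : X ⧸ Subgroup.center X) (y : X ⧸ Subgroup.center X)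
  rw [commutatorElement_def, QuotientGroup.mk_mul, QuotientGroup.mk_mul, QuotientGroup.mk_mul, h4,
    QuotientGroup.mk_inv, QuotientGroup.mk_inv]
  group

theorem pow_mem (hX : IsPGroup p X) (hi : (Subgroup.center X).index = p ^ 2) (hn : ∃ x y : X, x * y ≠ y * x) (x : X) :
    x ^ p ∈ Subgroup.center X := by
  rw [← QuotientGroup.eq_one_iff, QuotientGroup.mk_pow]
  have h1 : orderOf (x : X ⧸ Subgroup.center X) ∣ p ^ 2 := hi ▸ orderOf_dvd_natCard _
  obtain ⟨k, hk, hkc⟩ := (Nat.dvd_prime_pow hp.out).1 h1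
  have hk2 : k ≠ 2 := by
    rintro rfl
    have hc : IsCyclic (X ⧸ Subgroup.center X) := isCyclic_of_orderOf_eq_card _ (by rw [hkc]; exact hi.symm)
    obtain ⟨x, y, hxy⟩ := hn
    exact hxy (commutative_of_cyclic_center_quotient (QuotientGroup.mk' (Subgroup.center X))
      (by rw [QuotientGroup.ker_mk']) x y)
  have hk1 : k ≤ 1 := by omega
  rw [← orderOf_dvd_iff_pow_eq_one, hkc]
  calc p ^ k ∣ p ^ 1 := Nat.pow_dvd_pow _ hk1
    _ = p := pow_one p

/-- elements commuting with `a` -/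
theorem cen_form (hi : (Subgroup.center X).index = p ^ 2) {a x : X} (ha : a ∉ Subgroup.center X) (hx : x * a = a * x) :
    ∃ i : ℤ, ∃ z ∈ Subgroup.center X, x = a ^ i * z := by
  set C := Subgroup.centralizer ({a} : Set X) with hC
  have hZC : Subgroup.center X ≤ C := Subgroup.center_le_centralizer _
  have haC : a ∈ C := by
    rw [hC, Subgroup.mem_centralizer_singleton_iff]
  have h1 : C ≠ ⊤ := by
    intro h
    apply ha
    rw [Subgroup.mem_center_iff]
    intro g
    have : g ∈ C := by rw [h]; trivial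
    rw [hC, Subgroup.mem_centralizer_singleton_iff] at this
    exact this
  have h2 : (Subgroup.center X).relIndex C * C.index = p ^ 2 := by
    rw [Subgroup.relIndex_mul_index hZC, hi]
  have h3 : C.index ≠ 1 := fun h => h1 (Subgroup.index_eq_one.1 h)
  have h4 : (Subgroup.center X).relIndex C ≠ 1 := by
    intro h
    exact ha (Subgroup.relIndex_eq_one.1 h haC)
  have h5 : (Subgroup.center X).relIndex C = p := by
    have h6 : (Subgroup.center X).relIndex C ∣ p ^ 2 := ⟨_, h2.symm⟩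
    obtain ⟨k, hk, hkc⟩ := (Nat.dvd_prime_pow hp.out).1 h6
    interval_cases k
    · exact absurd hkc h4
    · rw [hkc, pow_one]
    · exfalso
      apply h3
      rw [hkc] at h2
      exact Nat.eq_of_mul_eq_mul_left (pow_pos hp.out.pos 2) (by rw [h2, mul_one])
  have h6 : Subgroup.zpowers a ⊔ Subgroup.center X = C := by
    apply le_antisymm (sup_le (Subgroup.zpowers_le.2 haC) hZC)
    have h7 : (Subgroup.center X).relIndex (Subgroup.zpowers a ⊔ Subgroup.center X) *
      (Subgroup.zpowers a ⊔ Subgroup.center X).relIndex C = p := by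
      rw [Subgroup.relIndex_mul_relIndex _ _ _ le_sup_right (sup_le (Subgroup.zpowers_le.2 haC) hZC), h5]
    have h8 : (Subgroup.center X).relIndex (Subgroup.zpowers a ⊔ Subgroup.center X) ≠ 1 := by
      intro h
      exact ha (Subgroup.relIndex_eq_one.1 h (Subgroup.mem_sup_left (Subgroup.mem_zpowers a)))
    rcases (Nat.dvd_prime hp.out).1 ⟨_, h7.symm⟩ with h9 | h9
    · exact absurd h9 h8
    · rw [h9] at h7
      exact Subgroup.relIndex_eq_one.1 (Nat.eq_of_mul_eq_mul_left hp.out.pos (by rw [h7, mul_one]))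
  have hxC : x ∈ Subgroup.zpowers a ⊔ Subgroup.center X := by
    rw [h6, hC, Subgroup.mem_centralizer_singleton_iff]; exact hx
  obtain ⟨y, hy, z, hz, rfl⟩ := Subgroup.mem_sup_of_normal_right.1 hxC
  obtain ⟨i, rfl⟩ := Subgroup.mem_zpowers_iff.1 hy
  exact ⟨i, z, hz, rfl⟩

theorem gen_form (hX : IsPGroup p X) (hi : (Subgroup.center X).index = p ^ 2) {a b : X} (hab : a * b ≠ b * a) (x : X) :
    ∃ j i : ℤ, ∃ z ∈ Subgroup.center X, x = b ^ j * (a ^ i * z) := by
  have ha : a ∉ Subgroup.center X := fun h => hab (Subgroup.mem_center_iff.1 h b).symm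
  set C := Subgroup.centralizer ({a} : Set X) with hC
  have hZC : Subgroup.center X ≤ C := Subgroup.center_le_centralizer _
  have haC : a ∈ C := by
    rw [hC, Subgroup.mem_centralizer_singleton_iff]
  have hbC : b ∉ C := by
    rw [hC, Subgroup.mem_centralizer_singleton_iff]; exact fun h => hab h.symm
  have h2 : (Subgroup.center X).relIndex C * C.index = p ^ 2 := by
    rw [Subgroup.relIndex_mul_index hZC, hi]
  have h4 : (Subgroup.center X).relIndex C ≠ 1 := by
    intro h
    exact ha (Subgroup.relIndex_eq_one.1 h haC)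
  have h5 : C.index = p := by
    have h6 : C.index ∣ p ^ 2 := ⟨_, (by rw [mul_comm]; exact h2.symm)⟩
    obtain ⟨k, hk, hkc⟩ := (Nat.dvd_prime_pow hp.out).1 h6
    interval_cases k
    · exfalso
      rw [pow_zero, Subgroup.index_eq_one] at hkc
      apply hbC; rw [hkc]; trivial
    · rw [hkc, pow_one]
    · exfalso
      apply h4
      rw [hkc] at h2
      exact Nat.eq_of_mul_eq_mul_right (pow_pos hp.out.pos 2) (by rw [h2, one_mul])
  have hCn : C.Normal := by
    refine ⟨fun c hc g => ?_⟩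
    have h1 : g * c * g⁻¹ = ⁅g, c⁆ * c := by rw [commutatorElement_def]; group
    rw [h1]
    exact C.mul_mem (hZC (comm_mem hi g c)) hc
  have h6 : Subgroup.zpowers b ⊔ C = ⊤ := by
    have h7 : C.relIndex (Subgroup.zpowers b ⊔ C) * (Subgroup.zpowers b ⊔ C).index = p := by
      rw [Subgroup.relIndex_mul_index le_sup_right, h5]
    have h8 : C.relIndex (Subgroup.zpowers b ⊔ C) ≠ 1 := by
      intro h
      exact hbC (Subgroup.relIndex_eq_one.1 h (Subgroup.mem_sup_left (Subgroup.mem_zpowers b)))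
    rcases (Nat.dvd_prime hp.out).1 ⟨_, h7.symm⟩ with h9 | h9
    · exact absurd h9 h8
    · rw [h9] at h7
      exact Subgroup.index_eq_one.1 (Nat.eq_of_mul_eq_mul_left hp.out.pos (by rw [h7, mul_one]))
  have hx : x ∈ Subgroup.zpowers b ⊔ C := by rw [h6]; trivial
  obtain ⟨y, hy, c, hc, rfl⟩ := Subgroup.mem_sup_of_normal_right.1 hx
  obtain ⟨j, rfl⟩ := Subgroup.mem_zpowers_iff.1 hy
  rw [hC, Subgroup.mem_centralizer_singleton_iff] at hc
  obtain ⟨i, z, hz, rfl⟩ := cen_form hi ha hc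
  exact ⟨j, i, z, hz, rfl⟩

theorem comm_mul_left (hc : ∀ x y : X, ⁅x, y⁆ ∈ Subgroup.center X) (x y z : X) : ⁅x * y, z⁆ = ⁅x, z⁆ * ⁅y, z⁆ := by
  have h1 := Subgroup.mem_center_iff.1 (hc y z) x
  have h3 : ⁅x * y, z⁆ = x * ⁅y, z⁆ * z * x⁻¹ * z⁻¹ := by
    simp only [commutatorElement_def]; group
  rw [h3, h1]
  have h4 : ⁅y, z⁆ * x * z * x⁻¹ * z⁻¹ = ⁅y, z⁆ * ⁅x, z⁆ := by simp only [commutatorElement_def]; group
  rw [h4]
  exact Subgroup.mem_center_iff.1 (hc x z) ⁅y, z⁆

theorem comm_mul_right (hc : ∀ x y : X, ⁅x, y⁆ ∈ Subgroup.center X) (x y z : X) : ⁅x, y * z⁆ = ⁅x, y⁆ * ⁅x, z⁆ := by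
  rw [← commutatorElement_inv, comm_mul_left hc, mul_inv_rev, commutatorElement_inv, commutatorElement_inv]
  exact Subgroup.mem_center_iff.1 (hc x y) ⁅x, z⁆

theorem comm_zpow (hX : IsPGroup p X) (hi : (Subgroup.center X).index = p ^ 2) {a b : X} (hab : a * b ≠ b * a) (x y : X) :
    ⁅x, y⁆ ∈ Subgroup.zpowers ⁅a, b⁆ := by
  have hc := comm_mem (X := X) hi
  have hcen : ∀ z ∈ Subgroup.center X, ∀ w : X, ⁅z, w⁆ = 1 := fun z hz w => by
    rw [commutatorElement_eq_one_iff_mul_comm]
    exact (Subgroup.mem_center_iff.1 hz w).symm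
  have hgen : ∀ L : Subgroup X, a ∈ L → b ∈ L → Subgroup.center X ≤ L → ∀ x, x ∈ L := by
    intro L ha hb hz x
    obtain ⟨j, i, z, hz', rfl⟩ := gen_form hX hi hab x
    exact L.mul_mem (L.zpow_mem hb _) (L.mul_mem (L.zpow_mem ha _) (hz hz'))
  let L (y : X) : Subgroup X :=
    { carrier := {x | ⁅x, y⁆ ∈ Subgroup.zpowers ⁅a, b⁆}
      one_mem' := by
        show ⁅(1 : X), y⁆ ∈ Subgroup.zpowers ⁅a, b⁆
        rw [commutatorElement_one_left]; exact Subgroup.one_mem _
      mul_mem' := by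
        intro u v hu hv
        show ⁅u * v, y⁆ ∈ Subgroup.zpowers ⁅a, b⁆
        rw [comm_mul_left hc]; exact Subgroup.mul_mem _ hu hv
      inv_mem' := by
        intro u hu
        show ⁅u⁻¹, y⁆ ∈ Subgroup.zpowers ⁅a, b⁆
        have h1 : ⁅u⁻¹, y⁆ * ⁅u, y⁆ = 1 := by
          rw [← comm_mul_left hc, inv_mul_cancel, commutatorElement_one_left]
        rw [eq_inv_of_mul_eq_one_left h1]
        exact Subgroup.inv_mem _ hu }
  have hL : ∀ x y, x ∈ L y ↔ ⁅x, y⁆ ∈ Subgroup.zpowers ⁅a, b⁆ := fun _ _ => Iff.rfl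
  have hsymm : ∀ x y, x ∈ L y → y ∈ L x := by
    intro x y h
    rw [hL, ← commutatorElement_inv x y]
    exact Subgroup.inv_mem _ h
  have hLa : ∀ x, x ∈ L a := by
    refine hgen _ ?_ ?_ ?_
    · rw [hL, commutatorElement_self]; exact Subgroup.one_mem _
    · rw [hL, ← commutatorElement_inv a b]; exact Subgroup.inv_mem _ (Subgroup.mem_zpowers _)
    · intro z hz
      rw [hL, hcen z hz]; exact Subgroup.one_mem _
  have hLb : ∀ x, x ∈ L b := by
    refine hgen _ ?_ ?_ ?_
    · rw [hL]; exact Subgroup.mem_zpowers _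
    · rw [hL, commutatorElement_self]; exact Subgroup.one_mem _
    · intro z hz
      rw [hL, hcen z hz]; exact Subgroup.one_mem _
  refine hgen (L y) (hsymm _ _ (hLa y)) (hsymm _ _ (hLb y)) ?_ x
  intro z hz
  rw [hL, hcen z hz]; exact Subgroup.one_mem _

theorem comm_pow (hX : IsPGroup p X) (hi : (Subgroup.center X).index = p ^ 2) (hn : ∃ x y : X, x * y ≠ y * x) (a b : X) :
    ⁅a, b⁆ ^ p = 1 := by
  have hc := comm_mem (X := X) hi
  have h1 : ∀ n : ℕ, ⁅a ^ n, b⁆ = ⁅a, b⁆ ^ n := by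
    intro n
    induction n with
    | zero => simp
    | succ n ih => rw [pow_succ, comm_mul_left hc, ih, pow_succ]
  rw [← h1, commutatorElement_eq_one_iff_mul_comm]
  exact (Subgroup.mem_center_iff.1 (pow_mem hX hi hn a) b).symm

/-- nonabelian groups of order `p³` are extraspecial -/
theorem extraspecial_of_cube (hc : Nat.card X = p ^ 3) (hn : ∃ x y : X, x * y ≠ y * x) : IsExtraspecial p X := by
  have hQ : IsPGroup p X := IsPGroup.of_card hc
  have hz := Cfsg.Agent.H18.Qd.card_center_cube hc hn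
  have hidx := (Subgroup.center X).card_mul_index
  rw [hz, hc] at hidx
  have h3 : (Subgroup.center X).index = p ^ 2 := by
    have : p * (Subgroup.center X).index = p * p ^ 2 := by rw [hidx]; ring
    exact Nat.eq_of_mul_eq_mul_left hp.out.pos this
  have hcomm : commutator X ≤ Subgroup.center X := by
    rw [_root_.commutator_def, Subgroup.commutator_le]
    intro a _ b _
    exact comm_mem h3 a b
  have hcb : commutator X ≠ ⊥ := by
    intro h
    obtain ⟨x, y, hxy⟩ := hn
    apply hxy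
    have : ⁅x, y⁆ ∈ commutator X := Subgroup.commutator_mem_commutator (Subgroup.mem_top x) (Subgroup.mem_top y)
    rw [h, Subgroup.mem_bot, commutatorElement_eq_one_iff_mul_comm] at this
    exact this
  have hce : commutator X = Subgroup.center X := by
    apply Subgroup.eq_of_le_of_card_ge hcomm
    rw [hz]
    have hd : Nat.card (commutator X) ∣ p := (Subgroup.card_dvd_of_le hcomm).trans (dvd_of_eq hz)
    rcases (Nat.dvd_prime hp.out).1 hd with h4 | h4
    · exact absurd (Subgroup.card_eq_one.1 h4) hcb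
    · exact h4.ge
  refine ⟨⟨hQ, le_antisymm ?_ ?_, hce⟩, hz⟩
  · exact H1.Frattini.frattini_le_of_elementary (p := p) _ hcomm (fun x => pow_mem hQ h3 hn x)
  · rw [← hce]
    exact (H1.Nilp.commutator_le_frattini hQ).1

end grp

end Cfsg.Agent.H1.FusZ
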