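import Mathlib
import Cfsg.Agent.H1_Frattini

set_option autoImplicit false

namespace Cfsg.Agent.H24.FratAut

open Subgroup

/-- a group acting freely on a finite set has order dividing the size of the set. -/
theorem card_dvd_of_free {A X : Type*} [Group A] [MulAction A X] [Finite X]
    (h : ∀ (a : A) (x : X), a • x = x → a = 1) : Nat.card A ∣ Nat.card X := by
  classical
  rcases isEmpty_or_nonempty X with hX | hX
  · simp
  · have hfinA : Finite A := by
      obtain ⟨x⟩ := hX
      exact Finite.of_injective (fun a : A => a • x) (fun a b hab => by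
        have : (b⁻¹ * a) • x = x := by
          rw [mul_smul]; simp only at hab; rw [hab, inv_smul_smul]
        have := h _ _ this
        rw [inv_mul_eq_one] at this
        exact this.symm)
    have e : X ≃ (MulAction.orbitRel.Quotient A X) × A := by
      refine (MulAction.selfEquivSigmaOrbits A X).trans ?_
      refine (Equiv.sigmaCongrRight (fun ω => ?_)).trans (Equiv.sigmaEquivProd _ _)
      refine (MulAction.orbitEquivQuotientStabilizer A (ω.out)).trans ?_
      have hs : MulAction.stabilizer A (ω.out) = ⊥ := by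
        rw [eq_bot_iff]
        intro a ha
        exact h a _ ha
      rw [hs]
      exact QuotientGroup.quotientBot.toEquiv
    rw [Nat.card_congr e, Nat.card_prod]
    exact dvd_mul_left _ _

variable {P : Type*} [Group P]

theorem card_dvd [Finite P] {p n r : ℕ} [Fact p.Prime] (hP : Nat.card P = p ^ n)
    (hr : (frattini P).index = p ^ r) (A : Subgroup (MulAut P))
    (hA : ∀ α ∈ A, ∀ x : P, α x * x⁻¹ ∈ frattini P) : Nat.card A ∣ p ^ (r * (n - r)) := by
  classical
  have := Fintype.ofFinite P
  have hPG : IsPGroup p P := IsPGroup.of_card hP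
  obtain ⟨T, -, hTc, hT⟩ := (Cfsg.Agent.H1.Frattini.burnside_basis p r hPG hr).1 Finset.univ (by
    rw [Finset.coe_univ]; exact Subgroup.closure_univ)
  have hΦ : Nat.card (frattini P) = p ^ (n - r) := by
    have h1 := (frattini P).card_mul_index
    rw [hr, hP] at h1
    have hrn : r ≤ n := by
      by_contra hlt
      push Not at hlt
      have h2 : p ^ n < p ^ r := Nat.pow_lt_pow_right (Fact.out : p.Prime).one_lt hlt
      have h3 : 0 < Nat.card (frattini P) := Nat.card_pos
      nlinarith
    have h4 : p ^ n = p ^ (n - r) * p ^ r := by rw [← pow_add]; congr 1; omega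
    rw [h4] at h1
    exact Nat.eq_of_mul_eq_mul_right (pow_pos (Fact.out : p.Prime).pos r) h1
  let X := {f : T → P // ∀ t, f t * (t : P)⁻¹ ∈ frattini P}
  let e : X ≃ (T → frattini P) :=
    { toFun := fun f t => ⟨f.1 t * (t : P)⁻¹, f.2 t⟩
      invFun := fun g => ⟨fun t => (g t : P) * t, fun t => by rw [mul_inv_cancel_right]; exact (g t).2⟩
      left_inv := fun f => by apply Subtype.ext; funext t; simp
      right_inv := fun g => by funext t; apply Subtype.ext; simp }
  have hXc : Nat.card X = p ^ (r * (n - r)) := by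
    rw [Nat.card_congr e, Nat.card_fun, hΦ, Nat.card_eq_fintype_card, Fintype.card_coe, hTc, ← pow_mul, mul_comm]
  haveI : Finite X := inferInstance
  let act : MulAction A X :=
    { smul := fun α f => ⟨fun t => (α : MulAut P) (f.1 t), fun t => by
        have h1 := hA α α.2 (f.1 t)
        have h2 := (frattini P).mul_mem h1 (f.2 t)
        rwa [← mul_assoc, inv_mul_cancel_right] at h2⟩
      one_smul := fun f => Subtype.ext (funext fun t => rfl)
      mul_smul := fun α β f => Subtype.ext (funext fun t => rfl) }
  have hsm : ∀ (α : A) (f : X) (t : T), (α • f).1 t = (α : MulAut P) (f.1 t) := fun _ _ _ => rfl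
  rw [← hXc]
  apply card_dvd_of_free
  intro α f hf
  have hfix : ∀ t : T, (α : MulAut P) (f.1 t) = f.1 t := by
    intro t
    rw [← hsm, hf]
  -- the values of f generate P
  have hgen : closure (Set.range f.1) = ⊤ := by
    apply frattini_nongenerating
    rw [eq_top_iff, ← hT, closure_le]
    intro t ht
    have h1 : f.1 ⟨t, ht⟩ ∈ closure (Set.range f.1) ⊔ frattini P :=
      mem_sup_left (subset_closure ⟨⟨t, ht⟩, rfl⟩)
    have h2 : f.1 ⟨t, ht⟩ * (t : P)⁻¹ ∈ closure (Set.range f.1) ⊔ frattini P :=
      mem_sup_right (f.2 ⟨t, ht⟩)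
    have h3 := mul_mem (inv_mem h2) h1
    have e3 : (f.1 ⟨t, ht⟩ * (t : P)⁻¹)⁻¹ * f.1 ⟨t, ht⟩ = t := by group
    rw [e3] at h3
    exact h3
  apply Subtype.ext
  apply MulEquiv.ext
  intro x
  have hx : x ∈ closure (Set.range f.1) := by rw [hgen]; trivial
  have hle : closure (Set.range f.1) ≤ ((α : MulAut P).toMonoidHom).eqLocus (MonoidHom.id P) := by
    rw [closure_le]
    rintro _ ⟨t, rfl⟩
    exact hfix t
  exact hle hx

/-- the map `Aut P → Aut (P/Φ(P))` -/
noncomputable def toQuot (P : Type*) [Group P] : MulAut P →* MulAut (P ⧸ frattini P) where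
  toFun α := QuotientGroup.congr (frattini P) (frattini P) α (frattini_characteristic.fixed α |> fun h => by
    rw [Subgroup.map_equiv_eq_comap_symm]
    exact frattini_characteristic.fixed α.symm)
  map_one' := by
    ext x
    obtain ⟨x, rfl⟩ := QuotientGroup.mk_surjective x
    rfl
  map_mul' α β := by
    ext x
    obtain ⟨x, rfl⟩ := QuotientGroup.mk_surjective x
    rfl

theorem mem_ker_toQuot {α : MulAut P} : α ∈ (toQuot P).ker ↔ ∀ x : P, α x * x⁻¹ ∈ frattini P := by
  rw [MonoidHom.mem_ker]
  constructor
  · intro h x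
    have h1 := congrArg (fun β : MulAut (P ⧸ frattini P) => β (QuotientGroup.mk x)) h
    have h2 : (QuotientGroup.mk (α x) : P ⧸ frattini P) = QuotientGroup.mk x := h1
    rw [← QuotientGroup.eq_one_iff, QuotientGroup.mk_mul, h2, QuotientGroup.mk_inv, mul_inv_cancel]
  · intro h
    ext x
    obtain ⟨x, rfl⟩ := QuotientGroup.mk_surjective x
    change (QuotientGroup.mk (α x) : P ⧸ frattini P) = QuotientGroup.mk x
    have h1 := (QuotientGroup.eq_one_iff _).mpr (h x)
    rw [QuotientGroup.mk_mul, QuotientGroup.mk_inv, mul_inv_eq_one] at h1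
    exact h1

end Cfsg.Agent.H24.FratAut
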