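import Mathlib
import Cfsg.Agent.H23_ZAction

/-!
The number of subgroups of order `p ^ β` is `1` modulo `p` (Wielandt's count); normal subgroups of `p`-groups.
-/

set_option autoImplicit false

namespace Cfsg.Agent.H23.Wielandt

open Subgroup

open scoped Pointwise

universe u v

/-- if all orbits of points with `P` have length divisible by `d` then so has the number of such points -/
theorem dvd_card_of_orbits {G : Type u} [Group G] {X : Type v} [MulAction G X] [Finite X] (P : X → Prop)
    (hP : ∀ (g : G) (x : X), P x → P (g • x)) (d : ℕ)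
    (hd : ∀ x, P x → d ∣ (MulAction.stabilizer G x).index) : d ∣ Nat.card {x // P x} := by
  classical
  have := Fintype.ofFinite X
  have : Finite (MulAction.orbitRel.Quotient G X) := Quotient.finite _
  have := Fintype.ofFinite (MulAction.orbitRel.Quotient G X)
  rw [Nat.card_eq_fintype_card, Fintype.card_subtype]
  rw [Finset.card_eq_sum_card_fiberwise (f := fun x => (Quotient.mk'' x : MulAction.orbitRel.Quotient G X))
    (t := Finset.univ) (by intro x _; simp)]
  apply Finset.dvd_sum
  intro ω _
  rw [Finset.filter_filter]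
  by_cases hω : ∃ x : X, P x ∧ (Quotient.mk'' x : MulAction.orbitRel.Quotient G X) = ω
  · obtain ⟨x, hx, rfl⟩ := hω
    have h := hd x hx
    rw [MulAction.index_stabilizer] at h
    have heq : ((Finset.univ.filter (fun z : X => P z ∧ (Quotient.mk'' z : MulAction.orbitRel.Quotient G X) =
        Quotient.mk'' x) : Finset X) : Set X) = MulAction.orbit G x := by
      ext z
      simp only [Finset.coe_filter, Finset.mem_univ, true_and, Set.mem_setOf_eq, Quotient.eq'']
      constructor
      · rintro ⟨_, h2⟩
        exact h2
      · intro h2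
        refine ⟨?_, h2⟩
        obtain ⟨g, rfl⟩ := h2
        exact hP g x hx
    rw [← heq, Set.ncard_coe_finset] at h
    exact h
  · rw [Finset.card_eq_zero.mpr]
    · exact dvd_zero _
    · rw [Finset.filter_eq_empty_iff]
      intro x _ hx
      exact hω ⟨x, hx⟩

/-- the stabilizer of a subset under left translations has order dividing the size -/
theorem card_stabilizer_dvd {G : Type u} [Group G] [Finite G] [DecidableEq G] (S : Finset G) :
    Nat.card (MulAction.stabilizer G S) ∣ S.card := by
  have h := dvd_card_of_orbits (G := MulAction.stabilizer G S) (X := G) (fun x => x ∈ S) (fun g x hx => by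
    have h1 : (g : G) • S = S := g.2
    have h2 : (g : G) • x ∈ (g : G) • S := Finset.smul_mem_smul_finset hx
    rw [h1] at h2
    exact h2) (Nat.card (MulAction.stabilizer G S)) (fun x _ => by
      have : MulAction.stabilizer (MulAction.stabilizer G S) x = ⊥ := by
        rw [eq_bot_iff]
        intro g hg
        rw [MulAction.mem_stabilizer_iff] at hg
        have h3 : (g : G) * x = x := hg
        rw [mem_bot]
        apply Subtype.ext
        simpa using h3
      rw [this, Subgroup.index_bot])
  have h2 : Nat.card {x // x ∈ S} = S.card := by simp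
  rw [h2] at h
  exact h

/-- for a subgroup `H`, the subsets of size `|H|` with left stabilizer `H` are the right cosets -/
theorem card_with_stabilizer {G : Type u} [Group G] [Finite G] [DecidableEq G] (H : Subgroup G) :
    Nat.card {S : Finset G // S.card = Nat.card H ∧ MulAction.stabilizer G S = H} = H.index := by
  classical
  have := Fintype.ofFinite G
  let f : G → Finset G := fun x => Finset.univ.filter (fun y => y * x⁻¹ ∈ H)
  have hf : ∀ x y, y ∈ f x ↔ y * x⁻¹ ∈ H := by intro x y; simp [f]
  have hfx : ∀ x, x ∈ f x := by intro x; rw [hf]; simp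
  have hfc : ∀ x, (f x).card = Nat.card H := by
    intro x
    have h0 : Nat.card {y // y ∈ f x} = (f x).card := by simp
    rw [← h0]
    refine Nat.card_congr
      { toFun := fun y => ⟨y.1 * x⁻¹, (hf x y.1).mp y.2⟩
        invFun := fun h => ⟨h.1 * x, (hf x _).mpr (by simp)⟩
        left_inv := fun y => by simp
        right_inv := fun h => by simp }
  have hfs : ∀ x, MulAction.stabilizer G (f x) = H := by
    intro x
    ext g
    rw [MulAction.mem_stabilizer_iff]
    constructor
    · intro hg
      have h1 : g • x ∈ g • f x := Finset.smul_mem_smul_finset (hfx x)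
      rw [hg, hf] at h1
      simpa using h1
    · intro hg
      have hsub : g • f x ⊆ f x := by
        intro y hy
        obtain ⟨z, hz, rfl⟩ := Finset.mem_smul_finset.mp hy
        rw [hf] at hz ⊢
        rw [smul_eq_mul, mul_assoc]
        exact mul_mem hg hz
      exact Finset.eq_of_subset_of_card_le hsub (by rw [Finset.card_smul_finset])
  have huniq : ∀ (S : Finset G), S.card = Nat.card H → MulAction.stabilizer G S = H → ∀ x ∈ S, S = f x := by
    intro S hS hst x hx
    symm
    apply Finset.eq_of_subset_of_card_le
    · intro y hy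
      rw [hf] at hy
      rw [← hst, MulAction.mem_stabilizer_iff] at hy
      have : (y * x⁻¹) • x ∈ (y * x⁻¹) • S := Finset.smul_mem_smul_finset hx
      rw [hy] at this
      simpa using this
    · rw [hS, hfc]
  have hcount : Nat.card (Σ S : {S : Finset G // S.card = Nat.card H ∧ MulAction.stabilizer G S = H},
      {x // x ∈ S.1}) = Nat.card G := by
    refine Nat.card_congr
      { toFun := fun q => q.2.1
        invFun := fun x => ⟨⟨f x, hfc x, hfs x⟩, ⟨x, hfx x⟩⟩
        left_inv := ?_
        right_inv := fun x => rfl }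
    rintro ⟨⟨S, hS, hst⟩, ⟨x, hx⟩⟩
    have h := huniq S hS hst x hx
    subst h
    rfl
  rw [Nat.card_sigma] at hcount
  have h2 : ∀ S : {S : Finset G // S.card = Nat.card H ∧ MulAction.stabilizer G S = H},
      Nat.card {x // x ∈ S.1} = Nat.card H := by
    intro S
    have h0 : Nat.card {y // y ∈ S.1} = (S.1).card := by simp
    rw [h0, S.2.1]
  rw [Finset.sum_congr rfl (fun S _ => h2 S), Finset.sum_const, Finset.card_univ, smul_eq_mul,
    ← Nat.card_eq_fintype_card] at hcount
  have h3 := Subgroup.card_mul_index H
  have h4 : 0 < Nat.card H := Nat.card_pos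
  nlinarith [hcount, h3, h4]

/-- total count -/
theorem choose_eq {G : Type u} [Group G] [Finite G] (p β : ℕ) (hp : p.Prime) (m : ℕ) (hm : Nat.card G = m * p ^ β) :
    ∃ t : ℕ, (Nat.card G).choose (p ^ β) = m * Nat.card {H : Subgroup G // Nat.card H = p ^ β} + m * p * t := by
  classical
  have := Fintype.ofFinite G
  have := Fintype.ofFinite (Subgroup G)
  have hpp : 0 < p ^ β := pow_pos hp.pos β
  -- sets with large stabilizer
  have h1 : Nat.card {S : Finset G // S.card = p ^ β ∧ Nat.card (MulAction.stabilizer G S) = p ^ β} =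
      m * Nat.card {H : Subgroup G // Nat.card H = p ^ β} := by
    rw [Nat.card_eq_fintype_card, Fintype.card_subtype,
      Finset.card_eq_sum_card_fiberwise (f := fun S => MulAction.stabilizer G S)
      (t := Finset.univ.filter (fun H : Subgroup G => Nat.card H = p ^ β)) (by
        intro S hS
        simp only [Finset.coe_filter, Finset.mem_univ, true_and, Set.mem_setOf_eq] at hS ⊢
        exact hS.2)]
    rw [Finset.sum_congr rfl (g := fun _ => m), Finset.sum_const, smul_eq_mul, mul_comm,
      Nat.card_eq_fintype_card, Fintype.card_subtype]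
    intro H hH
    rw [Finset.mem_filter] at hH
    have h2 := card_with_stabilizer H
    have h3 : H.index = m := by
      have := Subgroup.card_mul_index H
      rw [hH.2, hm, mul_comm] at this
      exact Nat.eq_of_mul_eq_mul_right hpp this
    rw [h3, Nat.card_eq_fintype_card, Fintype.card_subtype] at h2
    rw [Finset.filter_filter, ← h2]
    congr 1
    ext S
    simp only [Finset.mem_filter, Finset.mem_univ, true_and]
    constructor
    · rintro ⟨⟨h4, h5⟩, h6⟩
      exact ⟨h4.trans hH.2.symm, h6⟩
    · rintro ⟨h4, h6⟩
      exact ⟨⟨h4.trans hH.2, by rw [h6]; exact hH.2⟩, h6⟩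
  have h2 : m * p ∣ Nat.card {S : Finset G // S.card = p ^ β ∧ Nat.card (MulAction.stabilizer G S) ≠ p ^ β} := by
    apply dvd_card_of_orbits (G := G) (fun S : Finset G => S.card = p ^ β ∧ Nat.card (MulAction.stabilizer G S) ≠ p ^ β)
    · rintro g S ⟨h3, h4⟩
      refine ⟨by rw [Finset.card_smul_finset, h3], ?_⟩
      rw [MulAction.stabilizer_smul_eq_stabilizer_map_conj]
      rw [Nat.card_congr ((MulAction.stabilizer G S).equivMapOfInjective _ (MulAut.conj g).injective).toEquiv.symm]
      exact h4
    · rintro S ⟨h3, h4⟩
      have h5 := card_stabilizer_dvd S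
      rw [h3, Nat.dvd_prime_pow hp] at h5
      obtain ⟨j, hj, hj2⟩ := h5
      have hjlt : j < β := by
        rcases lt_or_eq_of_le hj with h | h
        · exact h
        · exact absurd (h ▸ hj2) h4
      have h6 := Subgroup.card_mul_index (MulAction.stabilizer G S)
      rw [hj2, hm] at h6
      refine ⟨p ^ (β - j - 1), ?_⟩
      have h7 : p ^ β = p ^ j * (p * p ^ (β - j - 1)) := by
        rw [← pow_succ', ← pow_add]
        congr 1
        omega
      rw [h7] at h6
      have h8 : p ^ j * (MulAction.stabilizer G S).index = p ^ j * (m * p * p ^ (β - j - 1)) := by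
        rw [h6]; ring
      exact Nat.eq_of_mul_eq_mul_left (pow_pos hp.pos j) h8
  obtain ⟨t, ht⟩ := h2
  refine ⟨t, ?_⟩
  rw [← h1, ← ht]
  have h3 : (Nat.card G).choose (p ^ β) = (Finset.univ.filter (fun S : Finset G => S.card = p ^ β)).card := by
    rw [Nat.card_eq_fintype_card, ← Finset.card_univ, ← Finset.card_powersetCard]
    congr 1
    ext S
    simp [Finset.mem_powersetCard]
  rw [h3, Nat.card_eq_fintype_card, Nat.card_eq_fintype_card, Fintype.card_subtype, Fintype.card_subtype,
    ← Finset.filter_filter, ← Finset.filter_filter]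
  exact (Finset.card_filter_add_card_filter_not _).symm

/-- **Frobenius--Wielandt**: the number of subgroups of order `p ^ β` is `1` mod `p`. -/
theorem card_modEq_one {G : Type u} [Group G] [Finite G] (p β : ℕ) (hp : p.Prime) (hdiv : p ^ β ∣ Nat.card G) :
    Nat.card {H : Subgroup G // Nat.card H = p ^ β} ≡ 1 [MOD p] := by
  haveI : Fact p.Prime := ⟨hp⟩
  obtain ⟨m, hm⟩ := hdiv
  rw [mul_comm] at hm
  have hG : 0 < Nat.card G := Nat.card_pos
  have hmpos : 0 < m := Nat.pos_of_ne_zero (by rintro rfl; omega)
  haveI : NeZero (Nat.card G) := ⟨hG.ne'⟩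
  obtain ⟨t, ht⟩ := choose_eq p β hp m hm
  have hC : Nat.card (Multiplicative (ZMod (Nat.card G))) = Nat.card G := by
    rw [Nat.card_congr Multiplicative.toAdd, Nat.card_zmod]
  obtain ⟨t', ht'⟩ := choose_eq (G := Multiplicative (ZMod (Nat.card G))) p β hp m (hC.trans hm)
  have h1 : Nat.card {H : Subgroup (Multiplicative (ZMod (Nat.card G))) // Nat.card H = p ^ β} = 1 := by
    rw [Nat.card_eq_one_iff_unique]
    constructor
    · constructor
      rintro ⟨H, hH⟩ ⟨K, hK⟩
      exact Subtype.ext (Cfsg.Agent.H23.ZAction.eq_of_card_eq (hH.trans hK.symm))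
    · obtain ⟨K, hK⟩ := Sylow.exists_subgroup_card_pow_prime (G := Multiplicative (ZMod (Nat.card G))) p
        (n := β) (by rw [hC, hm]; exact Dvd.intro_left _ rfl)
      exact ⟨⟨K, hK⟩⟩
  rw [h1, hC, ht] at ht'
  have h2 : Nat.card {H : Subgroup G // Nat.card H = p ^ β} + p * t = 1 + p * t' := by
    apply Nat.eq_of_mul_eq_mul_left hmpos
    calc m * (Nat.card {H : Subgroup G // Nat.card H = p ^ β} + p * t)
        = m * Nat.card {H : Subgroup G // Nat.card H = p ^ β} + m * p * t := by ring
      _ = m * 1 + m * p * t' := ht'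
      _ = m * (1 + p * t') := by ring
  have h3 : Nat.card {H : Subgroup G // Nat.card H = p ^ β} ≡
      Nat.card {H : Subgroup G // Nat.card H = p ^ β} + p * t [MOD p] := by
    exact (Nat.modEq_iff_dvd' (Nat.le_add_right _ _)).mpr (by simp)
  have h4 : 1 + p * t' ≡ 1 [MOD p] := ((Nat.modEq_iff_dvd' (Nat.le_add_right _ _)).mpr (by simp)).symm
  exact (h3.trans (h2 ▸ Nat.ModEq.refl _)).trans h4

/-- a `p`-subgroup acting by conjugation on the subgroups of order `k`: fixed points are the normalized ones -/
theorem card_modEq_normalized {G : Type u} [Group G] [Finite G] (p : ℕ) [Fact p.Prime] (P : Subgroup G)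
    (hP : IsPGroup p P) (Q : Subgroup G → Prop) (hQ : ∀ (g : G), g ∈ P → ∀ (H : Subgroup G), Q H → Q (MulAut.conj g • H)) :
    Nat.card {H : Subgroup G // Q H} ≡
      Nat.card {H : Subgroup G // Q H ∧ P ≤ Subgroup.normalizer (H : Set G)} [MOD p] := by
  letI act : MulAction P {H : Subgroup G // Q H} :=
    { smul := fun g H => ⟨MulAut.conj (g : G) • H.1, hQ g g.2 H.1 H.2⟩
      one_smul := fun H => Subtype.ext (by
        change MulAut.conj ((1 : P) : G) • H.1 = H.1
        rw [OneMemClass.coe_one, map_one, one_smul])
      mul_smul := fun a b H => Subtype.ext (by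
        change MulAut.conj ((a * b : P) : G) • H.1 = MulAut.conj (a : G) • (MulAut.conj (b : G) • H.1)
        rw [← mul_smul, ← map_mul]; rfl) }
  have h := hP.card_modEq_card_fixedPoints {H : Subgroup G // Q H}
  have h2 : Nat.card (MulAction.fixedPoints P {H : Subgroup G // Q H}) =
      Nat.card {H : Subgroup G // Q H ∧ P ≤ Subgroup.normalizer (H : Set G)} := by
    have key : ∀ H : {H : Subgroup G // Q H}, H ∈ MulAction.fixedPoints P {H : Subgroup G // Q H} ↔
        P ≤ Subgroup.normalizer (H.1 : Set G) := by
      intro H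
      constructor
      · intro hH g hg
        have h3 : MulAut.conj g • H.1 = H.1 := congrArg Subtype.val (hH ⟨g, hg⟩)
        rw [Subgroup.mem_normalizer_iff]
        intro x
        have h4 : MulAut.conj g • x = g * x * g⁻¹ := rfl
        rw [← h4]
        nth_rewrite 2 [← h3]
        exact (Subgroup.smul_mem_pointwise_smul_iff (a := MulAut.conj g)).symm
      · intro hH g
        apply Subtype.ext
        change MulAut.conj (g : G) • H.1 = H.1
        have h3 := hH g.2
        rw [Subgroup.mem_normalizer_iff] at h3
        ext x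
        rw [Subgroup.mem_pointwise_smul_iff_inv_smul_mem]
        rw [h3]
        have h4 : (g : G) * ((MulAut.conj (g : G))⁻¹ • x) * (g : G)⁻¹ = x := by
          have : (MulAut.conj (g : G)) • ((MulAut.conj (g : G))⁻¹ • x) = x := smul_inv_smul _ _
          exact this
        rw [h4]
    exact Nat.card_congr
      { toFun := fun H => ⟨H.1.1, H.1.2, (key H.1).mp H.2⟩
        invFun := fun H => ⟨⟨H.1, H.2.1⟩, (key ⟨H.1, H.2.1⟩).mpr H.2.2⟩
        left_inv := fun H => rfl
        right_inv := fun H => rfl }
  rw [← h2]
  exact h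

end Cfsg.Agent.H23.Wielandt
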