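import Mathlib

/-! Counting pencil-closed families of hyperplanes of a finite group modulo `p`. -/

set_option autoImplicit false
set_option linter.unusedSectionVars false
set_option linter.style.haveILetI false

open Subgroup

namespace Cfsg.Agent.H2.Pencil

variable {M : Type*} [Group M] [Finite M] {p : ℕ} [hp : Fact p.Prime]

/-- the dual group -/
abbrev Dual (p : ℕ) (M : Type*) [Group M] : Type _ := M →* Multiplicative (ZMod p)

theorem card_zp : Nat.card (Multiplicative (ZMod p)) = p := by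
  rw [Nat.card_congr Multiplicative.toAdd, Nat.card_zmod]

theorem ker_index {φ : Dual p M} (hφ : φ ≠ 1) : φ.ker.index = p := by
  rw [Subgroup.index_ker]
  have h1 : Nat.card φ.range ∣ p := by
    have := Subgroup.card_subgroup_dvd_card φ.range
    rwa [card_zp] at this
  rcases (Nat.dvd_prime hp.out).1 h1 with h | h
  · exfalso; apply hφ
    rw [Subgroup.card_eq_one, MonoidHom.range_eq_bot_iff] at h
    ext x
    have : x ∈ φ.ker := by rw [h]; trivial
    rw [MonoidHom.mem_ker.1 this]; rfl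
  · exact h

theorem exists_hom (N : Subgroup M) [hN : N.Normal] (h : N.index = p) : ∃ φ : Dual p M, φ.ker = N := by
  have h1 : Nat.card (M ⧸ N) = p := h
  let e : (M ⧸ N) ≃* Multiplicative (ZMod p) := mulEquivOfPrimeCardEq h1 card_zp
  refine ⟨e.toMonoidHom.comp (QuotientGroup.mk' N), ?_⟩
  ext x
  rw [MonoidHom.mem_ker, MonoidHom.comp_apply]
  change e (QuotientGroup.mk' N x) = 1 ↔ _
  rw [e.map_eq_one_iff]
  exact QuotientGroup.eq_one_iff x

theorem zp_pow (y : Multiplicative (ZMod p)) : y ^ p = 1 := by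
  have := pow_card_eq_one' (x := y)
  rwa [card_zp] at this

theorem card_fiber (N : Subgroup M) [hN : N.Normal] (h : N.index = p) :
    Nat.card {φ : Dual p M // φ.ker = N} = p - 1 := by
  obtain ⟨φ₁, hφ₁⟩ := exists_hom N h
  have hne : N ≠ ⊤ := by
    rintro rfl
    rw [Subgroup.index_top] at h
    exact hp.out.one_lt.ne h
  obtain ⟨m, hm⟩ := SetLike.exists_not_mem_of_ne_top N hne rfl
  have hm1 : φ₁ m ≠ 1 := by
    intro h1; apply hm; rw [← hφ₁]; exact h1
  have hgen : ∀ y : Multiplicative (ZMod p), ∃ k : ℕ, φ₁ m ^ k = y := by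
    intro y
    have h1 := mem_powers_of_prime_card (p := p) card_zp hm1 (g' := y)
    exact h1
  have hord : orderOf (φ₁ m) = p := orderOf_eq_prime (zp_pow _) hm1
  have hcyc : ∀ x : M, ∃ k : ℕ, ∃ n ∈ N, x = n * m ^ k := by
    intro x
    obtain ⟨k, hk⟩ := hgen (φ₁ x)
    refine ⟨k, x * (m ^ k)⁻¹, ?_, by group⟩
    rw [← hφ₁, MonoidHom.mem_ker, map_mul, map_inv, map_pow, hk, mul_inv_cancel]
  have h2 : Nat.card {y : Multiplicative (ZMod p) // y ≠ 1} = p - 1 := by
    classical
    haveI : Fintype (Multiplicative (ZMod p)) := Fintype.ofFinite _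
    rw [Nat.card_eq_fintype_card, Fintype.card_subtype_compl, Fintype.card_subtype_eq, ← Nat.card_eq_fintype_card, card_zp]
  rw [← h2]
  have hval : ∀ φ : {φ : Dual p M // φ.ker = N}, φ.1 m ≠ 1 := by
    rintro ⟨φ, hφ⟩ h3
    apply hm; rw [← hφ]; exact h3
  apply Nat.card_eq_of_bijective (fun φ : {φ : Dual p M // φ.ker = N} =>
    (⟨φ.1 m, hval φ⟩ : {y : Multiplicative (ZMod p) // y ≠ 1}))
  constructor
  · rintro ⟨φ, hφ⟩ ⟨ψ, hψ⟩ h3
    have h4 : φ m = ψ m := congrArg Subtype.val h3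
    apply Subtype.ext
    ext x : 1
    obtain ⟨k, n, hn, rfl⟩ := hcyc x
    have e1 : φ n = 1 := by rw [← MonoidHom.mem_ker, hφ]; exact hn
    have e2 : ψ n = 1 := by rw [← MonoidHom.mem_ker, hψ]; exact hn
    change φ (n * m ^ k) = ψ (n * m ^ k)
    rw [map_mul, map_mul, map_pow, map_pow, e1, e2, h4]
  · rintro ⟨y, hy⟩
    obtain ⟨k, rfl⟩ := hgen y
    have hk : ¬ p ∣ k := by
      rintro ⟨j, rfl⟩
      apply hy
      rw [pow_mul, zp_pow, one_pow]
    refine ⟨⟨φ₁ ^ k, ?_⟩, Subtype.ext rfl⟩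
    ext x
    rw [MonoidHom.mem_ker, ← hφ₁, MonoidHom.mem_ker]
    change (φ₁ x) ^ k = 1 ↔ _
    constructor
    · intro h3
      by_contra h4
      have h5 : orderOf (φ₁ x) = p := orderOf_eq_prime (zp_pow _) h4
      apply hk
      rw [← h5]; exact orderOf_dvd_of_pow_eq_one h3
    · intro h3; rw [h3, one_pow]

theorem card_family (𝔉 : Set (Subgroup M)) (h1 : ∀ N ∈ 𝔉, N.Normal ∧ N.index = p)
    (h2 : ∀ N₁ ∈ 𝔉, ∀ N₂ ∈ 𝔉, ∀ N : Subgroup M, N.Normal → N.index = p → N₁ ⊓ N₂ ≤ N → N ∈ 𝔉) (h3 : 𝔉.Nonempty) :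
    Nat.card 𝔉 ≡ 1 [MOD p] := by
  let F : Subgroup (Dual p M) :=
    { carrier := {φ | φ = 1 ∨ φ.ker ∈ 𝔉}
      one_mem' := Or.inl rfl
      mul_mem' := by
        rintro φ ψ (rfl | hφ) (rfl | hψ)
        · exact Or.inl (one_mul 1)
        · right; rw [one_mul]; exact hψ
        · right; rw [mul_one]; exact hφ
        · by_cases h : φ * ψ = 1
          · exact Or.inl h
          · right
            apply h2 _ hφ _ hψ _ inferInstance (ker_index h)
            rintro x ⟨hx1, hx2⟩
            rw [MonoidHom.mem_ker] at *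
            change φ x * ψ x = 1
            rw [MonoidHom.mem_ker.1 hx1, MonoidHom.mem_ker.1 hx2, one_mul]
      inv_mem' := by
        rintro φ (rfl | hφ)
        · exact Or.inl inv_one
        · right
          have : (φ⁻¹).ker = φ.ker := by
            ext x
            rw [MonoidHom.mem_ker, MonoidHom.mem_ker]
            change (φ x)⁻¹ = 1 ↔ _
            rw [inv_eq_one]
          rw [this]; exact hφ }
  haveI : Finite (Dual p M) := DFunLike.finite _
  -- `F` is a nontrivial `p`-group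
  have hFp : IsPGroup p F := by
    intro φ
    refine ⟨1, Subtype.ext ?_⟩
    rw [pow_one]
    change (φ : Dual p M) ^ p = 1
    ext x
    change (φ.1 x) ^ p = 1
    exact zp_pow _
  obtain ⟨k, hk⟩ := IsPGroup.iff_card.1 hFp
  have hk0 : k ≠ 0 := by
    rintro rfl
    rw [pow_zero, Subgroup.card_eq_one] at hk
    obtain ⟨N, hN⟩ := h3
    obtain ⟨hNn, hNi⟩ := h1 N hN
    obtain ⟨φ, hφ⟩ := exists_hom N hNi
    have h4 : φ ∈ F := Or.inr (by rw [hφ]; exact hN)
    rw [hk, mem_bot] at h4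
    subst h4
    have : N = ⊤ := by rw [← hφ]; ext x; simp
    rw [this, Subgroup.index_top] at hNi
    exact hp.out.one_lt.ne hNi
  have hpF : p ∣ Nat.card F := by rw [hk]; exact dvd_pow_self p hk0
  -- nontrivial elements of `F`
  have h4 : Nat.card {φ : Dual p M // φ.ker ∈ 𝔉} = Nat.card 𝔉 * (p - 1) := by
    let f : {φ : Dual p M // φ.ker ∈ 𝔉} → 𝔉 := fun φ => ⟨φ.1.ker, φ.2⟩
    rw [← Nat.card_congr (Equiv.sigmaFiberEquiv f)]
    haveI : Finite (Subgroup M) := inferInstance
    haveI : Finite 𝔉 := Subtype.finite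
    haveI : Fintype 𝔉 := Fintype.ofFinite _
    rw [Nat.card_sigma]
    have h6 : ∀ N : 𝔉, Nat.card {φ : {φ : Dual p M // φ.ker ∈ 𝔉} // f φ = N} = p - 1 := fun N => by
      haveI := (h1 N.1 N.2).1
      rw [← card_fiber N.1 (h1 N.1 N.2).2]
      apply Nat.card_congr
      exact
        { toFun := fun φ => ⟨φ.1.1, congrArg Subtype.val φ.2⟩
          invFun := fun φ => ⟨⟨φ.1, by rw [φ.2]; exact N.2⟩, Subtype.ext φ.2⟩
          left_inv := fun φ => rfl
          right_inv := fun φ => rfl }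
    rw [Finset.sum_congr rfl (fun N _ => h6 N), Finset.sum_const, Finset.card_univ, smul_eq_mul, Nat.card_eq_fintype_card]
  have h5 : Nat.card F = Nat.card {φ : Dual p M // φ.ker ∈ 𝔉} + 1 := by
    have hk1 : (1 : Dual p M).ker ∉ 𝔉 := by
      intro h
      have := (h1 _ h).2
      rw [MonoidHom.ker_one, Subgroup.index_top] at this
      exact hp.out.one_lt.ne this
    have e1 : {φ : Dual p M // φ.ker ∈ 𝔉} ≃ {φ : F // φ ≠ 1} :=
      { toFun := fun φ => ⟨⟨φ.1, Or.inr φ.2⟩, fun h => hk1 (by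
          have : φ.1 = 1 := congrArg Subtype.val h
          rw [← this]; exact φ.2)⟩
        invFun := fun φ => ⟨φ.1.1, by
          rcases φ.1.2 with h | h
          · exact absurd (Subtype.ext h) φ.2
          · exact h⟩
        left_inv := fun φ => rfl
        right_inv := fun φ => rfl }
    classical
    haveI : Fintype F := Fintype.ofFinite _
    rw [Nat.card_congr e1, Nat.card_eq_fintype_card, Nat.card_eq_fintype_card, Fintype.card_subtype_compl, Fintype.card_subtype_eq]
    have : 0 < Fintype.card F := Fintype.card_pos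
    omega
  rw [h5, h4] at hpF
  have h6 : ((Nat.card 𝔉 * (p - 1) + 1 : ℕ) : ZMod p) = 0 := (ZMod.natCast_eq_zero_iff _ _).2 hpF
  rw [← ZMod.natCast_eq_natCast_iff]
  have h7 : ((p - 1 : ℕ) : ZMod p) = -1 := by
    rw [Nat.cast_sub hp.out.one_lt.le, ZMod.natCast_self, Nat.cast_one, zero_sub]
  push_cast at h6
  rw [h7] at h6
  push_cast
  linear_combination -h6

end Cfsg.Agent.H2.Pencil
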