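import Mathlib
import Cfsg.Prelude
import Cfsg.Agent.H2_Card
import Cfsg.Agent.H2_Pencil

/-! Elementary abelian subgroups of order `p^4`: abelian subgroups of class two groups of exponent `p`. -/

set_option autoImplicit false
set_option linter.unusedSectionVars false
set_option linter.style.haveILetI false

open Subgroup Cfsg
open scoped commutatorElement

namespace Cfsg.Agent.H2.EA4

variable {C : Type*} [Group C] [Finite C] {p : ℕ} [hp : Fact p.Prime] {A : Subgroup C}

/-- class at most two, exponent `p` -/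
structure Cl (p : ℕ) {C : Type*} [Group C] (A : Subgroup C) : Prop where
  central : ∀ a ∈ A, ∀ c : C, a * c = c * a
  comm : ∀ x y : C, ⁅x, y⁆ ∈ A
  exp : ∀ x : C, x ^ p = 1

/-- commutation with `x` -/
def chom (h : Cl p A) (x : C) : C →* A where
  toFun g := ⟨⁅g, x⁆, h.comm g x⟩
  map_one' := Subtype.ext (by simp)
  map_mul' g k := Subtype.ext (by
    change ⁅g * k, x⁆ = ⁅g, x⁆ * ⁅k, x⁆
    have h1 := h.central _ (h.comm k x) g
    have h2 := h.central _ (h.comm k x) (x * g⁻¹ * x⁻¹)
    have e : ⁅g * k, x⁆ = (g * ⁅k, x⁆) * (x * g⁻¹ * x⁻¹) := by simp only [commutatorElement_def]; group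
    have e2 : ⁅g, x⁆ = g * (x * g⁻¹ * x⁻¹) := by simp only [commutatorElement_def]; group
    rw [e, e2, mul_assoc, h2]; group)

theorem card_le_of_comm (h : Cl p A) (x : C) (K R : Subgroup C) (hR : ∀ k ∈ K, ⁅k, x⁆ ∈ R) :
    Nat.card K ≤ Nat.card (K ⊓ centralizer ({x} : Set C) : Subgroup C) * Nat.card R := by
  set f : K →* A := (chom h x).comp K.subtype with hf
  have h1 : Nat.card f.ker * Nat.card f.range = Nat.card K := by
    rw [← Subgroup.index_ker, Subgroup.card_mul_index]
  have h2 : Nat.card f.ker = Nat.card (K ⊓ centralizer ({x} : Set C) : Subgroup C) := by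
    rw [← Subgroup.card_map_of_injective K.subtype_injective]
    congr 1
    have : f.ker.map K.subtype = K ⊓ centralizer ({x} : Set C) := by
      ext y
      constructor
      · rintro ⟨k, hk, rfl⟩
        refine mem_inf.2 ⟨k.2, mem_centralizer_singleton_iff.2 ?_⟩
        have h3 : ⁅(k : C), x⁆ = 1 := congrArg Subtype.val hk
        rw [commutatorElement_eq_one_iff_mul_comm] at h3
        exact h3
      · rintro ⟨hy, hc⟩
        refine ⟨⟨y, hy⟩, ?_, rfl⟩
        have h3 : y * x = x * y := mem_centralizer_singleton_iff.1 hc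
        apply Subtype.ext
        change ⁅y, x⁆ = 1
        rw [commutatorElement_eq_one_iff_mul_comm]
        exact h3
    rw [this]
  have h3 : Nat.card f.range ≤ Nat.card R := by
    rw [← Subgroup.card_map_of_injective A.subtype_injective]
    apply Nat.le_of_dvd Nat.card_pos (card_dvd_of_le _)
    rintro _ ⟨_, ⟨k, rfl⟩, rfl⟩
    exact hR k k.2
  rw [← h1, h2]
  exact Nat.mul_le_mul_left _ h3

/-- adding one element to an abelian subgroup -/
theorem sup_zpowers (B : Subgroup C) (hB : ∀ x ∈ B, ∀ y ∈ B, x * y = y * x) {x : C} (hx : ∀ b ∈ B, b * x = x * b)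
    (hxp : x ^ p = 1) (hxB : x ∉ B) :
    (∀ y ∈ B ⊔ zpowers x, ∀ z ∈ B ⊔ zpowers x, y * z = z * y) ∧ Nat.card (B ⊔ zpowers x : Subgroup C) = Nat.card B * p := by
  have hx1 : x ≠ 1 := fun h => hxB (h ▸ one_mem B)
  have hcent : zpowers x ≤ centralizer (B : Set C) := by
    rw [zpowers_le, mem_centralizer_iff]; exact hx
  have hn : zpowers x ≤ normalizer (B : Set C) := hcent.trans (centralizer_le_normalizer _)
  constructor
  · have h1 : B ⊔ zpowers x ≤ centralizer ((B ⊔ zpowers x : Subgroup C) : Set C) := by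
      have hBB : B ≤ centralizer (B : Set C) := fun b hb => mem_centralizer_iff.2 fun c hc => hB c hc b hb
      have hxx : zpowers x ≤ centralizer (zpowers x : Set C) := by
        rintro _ ⟨k, rfl⟩
        rw [mem_centralizer_iff]
        rintro _ ⟨l, rfl⟩
        exact zpow_mul_comm x l k
      apply sup_le
      · rw [le_centralizer_iff]
        exact sup_le hBB hcent
      · rw [le_centralizer_iff]
        refine sup_le ?_ hxx
        rw [le_centralizer_iff]; exact hcent
    intro y hy z hz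
    exact mem_centralizer_iff.1 (h1 hz) y hy
  · have h1 := Cfsg.Agent.H2.Card.card_sup_mul_card_inf hn
    have h2 : Nat.card (zpowers x) = p := by
      rw [Nat.card_zpowers, orderOf_eq_prime hxp hx1]
    have h3 : zpowers x ⊓ B = ⊥ := by
      have h4 : Nat.card (zpowers x ⊓ B : Subgroup C) ∣ p := by
        rw [← h2]; exact card_dvd_of_le inf_le_left
      rcases (Nat.dvd_prime hp.out).1 h4 with h5 | h5
      · exact Subgroup.card_eq_one.1 h5
      · exfalso
        have h6 : zpowers x ⊓ B = zpowers x := Cfsg.Agent.H2.Card.eq_of_le_of_card_eq inf_le_left (by rw [h5, h2])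
        exact hxB ((h6.ge (mem_zpowers x)).2)
    rw [h3, Subgroup.card_bot, mul_one, h2, sup_comm] at h1
    rw [h1, mul_comm]

theorem greedy (h : Cl p A) (b : ℕ)
    (hb : ∀ b' < b, (Nat.card A) ^ b' * (Nat.card A * p ^ b') < Nat.card C) :
    ∃ B : Subgroup C, A ≤ B ∧ (∀ x ∈ B, ∀ y ∈ B, x * y = y * x) ∧ Nat.card B = Nat.card A * p ^ b ∧
      Nat.card C ≤ (Nat.card A) ^ b * Nat.card (centralizer (B : Set C)) := by
  induction b with
  | zero =>
    refine ⟨A, le_rfl, fun x hx y _ => h.central x hx y, by simp, ?_⟩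
    have : centralizer (A : Set C) = ⊤ := by
      rw [eq_top_iff]
      intro x _
      rw [mem_centralizer_iff]
      intro a ha; exact h.central a ha x
    rw [this, Subgroup.card_top, pow_zero, one_mul]
  | succ b ih =>
    obtain ⟨B, hAB, hBc, hBcard, hCB⟩ := ih (fun b' hb' => hb b' (by omega))
    have h1 := hb b (by omega)
    have hBle : B ≤ centralizer (B : Set C) := fun x hx => mem_centralizer_iff.2 fun c hc => hBc c hc x hx
    have hlt : Nat.card B < Nat.card (centralizer (B : Set C)) := by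
      by_contra hle
      push Not at hle
      have h2 : Nat.card C ≤ (Nat.card A) ^ b * (Nat.card A * p ^ b) := by
        rw [← hBcard]
        exact hCB.trans (Nat.mul_le_mul_left _ hle)
      omega
    obtain ⟨x, hxc, hxB⟩ : ∃ x ∈ centralizer (B : Set C), x ∉ B := by
      by_contra hno
      push Not at hno
      have : centralizer (B : Set C) = B := le_antisymm hno hBle
      rw [this] at hlt
      exact lt_irrefl _ hlt
    obtain ⟨h2, h3⟩ := sup_zpowers (p := p) B hBc (x := x) (fun y hy => mem_centralizer_iff.1 hxc y hy) (h.exp x) hxB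
    refine ⟨B ⊔ zpowers x, hAB.trans le_sup_left, h2, by rw [h3, hBcard, pow_succ, mul_assoc], ?_⟩
    have h4 := card_le_of_comm h x (centralizer (B : Set C)) A (fun k _ => h.comm k x)
    have h5 : centralizer (B : Set C) ⊓ centralizer ({x} : Set C) ≤ centralizer ((B ⊔ zpowers x : Subgroup C) : Set C) := by
      rw [le_centralizer_iff]
      apply sup_le
      · rw [le_centralizer_iff]; exact inf_le_left
      · rw [zpowers_le, mem_centralizer_iff]
        rintro y ⟨-, hy⟩
        exact mem_centralizer_singleton_iff.1 hy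
    have h6 := Nat.le_of_dvd Nat.card_pos (card_dvd_of_le h5)
    calc Nat.card C ≤ (Nat.card A) ^ b * Nat.card (centralizer (B : Set C)) := hCB
      _ ≤ (Nat.card A) ^ b * (Nat.card (centralizer (B : Set C) ⊓ centralizer ({x} : Set C) : Subgroup C) * Nat.card A) :=
        Nat.mul_le_mul_left _ h4
      _ ≤ (Nat.card A) ^ b * (Nat.card (centralizer ((B ⊔ zpowers x : Subgroup C) : Set C)) * Nat.card A) := by gcongr
      _ = _ := by ring

theorem Cl.quot (h : Cl p A) (A₁ : Subgroup C) [A₁.Normal] : Cl p (A.map (QuotientGroup.mk' A₁)) := by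
  constructor
  · rintro _ ⟨a, ha, rfl⟩ c
    obtain ⟨c, rfl⟩ := QuotientGroup.mk'_surjective A₁ c
    rw [← map_mul, ← map_mul, h.central a ha c]
  · intro x y
    obtain ⟨x, rfl⟩ := QuotientGroup.mk'_surjective A₁ x
    obtain ⟨y, rfl⟩ := QuotientGroup.mk'_surjective A₁ y
    rw [← map_commutatorElement]
    exact ⟨_, h.comm x y, rfl⟩
  · intro x
    obtain ⟨x, rfl⟩ := QuotientGroup.mk'_surjective A₁ x
    rw [← map_pow, h.exp, map_one]

theorem card_map_mk {K A₁ : Subgroup C} [A₁.Normal] (hK : A₁ ≤ K) :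
    Nat.card (K.map (QuotientGroup.mk' A₁)) * Nat.card A₁ = Nat.card K := by
  set f : K →* C ⧸ A₁ := (QuotientGroup.mk' A₁).comp K.subtype with hf
  have h1 : Nat.card f.ker * Nat.card f.range = Nat.card K := by
    rw [← Subgroup.index_ker, Subgroup.card_mul_index]
  have h2 : f.range = K.map (QuotientGroup.mk' A₁) := by
    rw [hf, MonoidHom.range_comp, range_subtype]
  have h3 : f.ker = A₁.subgroupOf K := by
    ext x
    rw [MonoidHom.mem_ker, mem_subgroupOf]
    exact QuotientGroup.eq_one_iff _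
  rw [h2, h3, Cfsg.Agent.H2.Card.card_subgroupOf_of_le hK] at h1
  rw [mul_comm]; exact h1

theorem card_comap_mk {A₁ : Subgroup C} [A₁.Normal] (B : Subgroup (C ⧸ A₁)) :
    Nat.card (B.comap (QuotientGroup.mk' A₁)) = Nat.card B * Nat.card A₁ := by
  have h1 : A₁ ≤ B.comap (QuotientGroup.mk' A₁) := by
    intro x hx
    have : QuotientGroup.mk' A₁ x = 1 := (QuotientGroup.eq_one_iff x).2 hx
    rw [mem_comap, this]; exact one_mem B
  rw [← card_map_mk h1, map_comap_eq_self_of_surjective (QuotientGroup.mk'_surjective A₁)]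

theorem case_two (h : Cl p A) (hA : Nat.card A = p ^ 2) (hC : Nat.card C = p ^ 5) :
    ∃ B : Subgroup C, (∀ x ∈ B, ∀ y ∈ B, x * y = y * x) ∧ Nat.card B = p ^ 4 := by
  have hp1 := hp.out.one_lt
  obtain ⟨A₁', hA₁'⟩ := Sylow.exists_subgroup_card_pow_prime (G := A) p (n := 1) (by rw [hA]; exact pow_dvd_pow p (by norm_num))
  set A₁ : Subgroup C := A₁'.map A.subtype with hA₁
  have hA₁c : Nat.card A₁ = p := by
    rw [hA₁, Subgroup.card_map_of_injective A.subtype_injective, hA₁', pow_one]
  have hA₁A : A₁ ≤ A := map_subtype_le _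
  haveI hA₁n : A₁.Normal := ⟨fun x hx g => by
    rw [← h.central x (hA₁A hx) g, mul_inv_cancel_right]; exact hx⟩
  have hQ := h.quot A₁
  set Q := C ⧸ A₁ with hQdef
  have hcQA : Nat.card (A.map (QuotientGroup.mk' A₁)) = p := by
    have := card_map_mk hA₁A
    rw [hA₁c, hA, pow_two] at this
    exact Nat.eq_of_mul_eq_mul_right hp.out.pos this
  have hcQ : Nat.card Q = p ^ 4 := by
    have h1 := Subgroup.card_eq_card_quotient_mul_card_subgroup A₁
    rw [hC, hA₁c] at h1
    have : p ^ 5 = p ^ 4 * p := pow_succ p 4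
    rw [this] at h1
    exact (Nat.eq_of_mul_eq_mul_right hp.out.pos h1).symm
  obtain ⟨B', hAB', hB'c, hB'card, -⟩ := greedy hQ 2 (by
    intro b' hb'
    rw [hcQA, hcQ]
    have : b' = 0 ∨ b' = 1 := by omega
    rcases this with rfl | rfl
    · simp only [pow_zero, one_mul, mul_one]
      calc p = p ^ 1 := (pow_one p).symm
        _ < p ^ 4 := Nat.pow_lt_pow_right hp1 (by norm_num)
    · calc p ^ 1 * (p * p ^ 1) = p ^ 3 := by ring
        _ < p ^ 4 := Nat.pow_lt_pow_right hp1 (by norm_num))
  rw [hcQA] at hB'card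
  have hB'3 : Nat.card B' = p ^ 3 := by rw [hB'card]; ring
  -- an element outside
  obtain ⟨c', hc'⟩ : ∃ c' : Q, c' ∉ B' := by
    by_contra hno
    push Not at hno
    have : B' = ⊤ := eq_top_iff.2 fun x _ => hno x
    rw [this, Subgroup.card_top, hcQ] at hB'3
    exact (Nat.pow_lt_pow_right hp1 (by norm_num : 3 < 4)).ne' hB'3
  have h1 := card_le_of_comm hQ c' B' _ (fun k _ => hQ.comm k c')
  rw [hcQA, hB'3] at h1
  -- `d`
  have h2 : p ^ 2 ≤ Nat.card (B' ⊓ centralizer ({c'} : Set Q) : Subgroup Q) := by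
    have : p ^ 3 = p ^ 2 * p := pow_succ p 2
    rw [this] at h1
    exact Nat.le_of_mul_le_mul_right h1 hp.out.pos
  obtain ⟨d', hd', hd'A⟩ : ∃ d' ∈ B' ⊓ centralizer ({c'} : Set Q), d' ∉ A.map (QuotientGroup.mk' A₁) := by
    by_contra hno
    push Not at hno
    have h3 := Nat.le_of_dvd Nat.card_pos (card_dvd_of_le hno)
    rw [hcQA] at h3
    nlinarith
  have hd'c : centralizer ({d'} : Set Q) = ⊤ := by
    have h3 : B' < centralizer ({d'} : Set Q) := by
      rw [lt_iff_le_and_ne]
      refine ⟨fun b hb => mem_centralizer_singleton_iff.2 (hB'c b hb d' hd'.1), fun h4 => hc' ?_⟩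
      rw [h4, mem_centralizer_singleton_iff]
      exact (mem_centralizer_singleton_iff.1 hd'.2).symm
    have h4 := Cfsg.Agent.H2.Card.card_lt_of_lt h3
    have h5 : Nat.card (centralizer ({d'} : Set Q)) ∣ p ^ 4 := by rw [← hcQ]; exact Subgroup.card_subgroup_dvd_card _
    obtain ⟨k, hk, hk2⟩ := (Nat.dvd_prime_pow hp.out).1 h5
    rw [hB'3, hk2] at h4
    have h6 : 3 < k := (Nat.pow_lt_pow_iff_right hp1).1 h4
    have h7 : k = 4 := by omega
    apply Cfsg.Agent.H2.Card.eq_of_le_of_card_eq le_top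
    rw [hk2, h7, Subgroup.card_top, hcQ]
  obtain ⟨d, rfl⟩ := QuotientGroup.mk'_surjective A₁ d'
  have hdA : d ∉ A := fun hd => hd'A ⟨d, hd, rfl⟩
  have hdcomm : ∀ y : C, ⁅y, d⁆ ∈ A₁ := by
    intro y
    rw [← QuotientGroup.eq_one_iff]
    have h3 : QuotientGroup.mk' A₁ y ∈ centralizer ({QuotientGroup.mk' A₁ d} : Set Q) := by rw [hd'c]; trivial
    have h4 := mem_centralizer_singleton_iff.1 h3
    change QuotientGroup.mk' A₁ ⁅y, d⁆ = 1
    rw [map_commutatorElement, commutatorElement_eq_one_iff_mul_comm]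
    exact h4
  have h3 := card_le_of_comm h d ⊤ A₁ (fun k _ => hdcomm k)
  rw [top_inf_eq, Subgroup.card_top, hC, hA₁c] at h3
  have h4 : p ^ 4 ≤ Nat.card (centralizer ({d} : Set C)) := by
    have : p ^ 5 = p ^ 4 * p := pow_succ p 4
    rw [this] at h3
    exact Nat.le_of_mul_le_mul_right h3 hp.out.pos
  obtain ⟨h5, h6⟩ := sup_zpowers (p := p) A (fun x hx y _ => h.central x hx y) (x := d) (fun a ha => h.central a ha d)
    (h.exp d) hdA
  obtain ⟨e, hed, heA⟩ : ∃ e ∈ centralizer ({d} : Set C), e ∉ A ⊔ zpowers d := by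
    by_contra hno
    push Not at hno
    have h7 := Nat.le_of_dvd Nat.card_pos (card_dvd_of_le hno)
    rw [h6, hA] at h7
    have : p ^ 2 * p = p ^ 3 := (pow_succ p 2).symm
    rw [this] at h7
    have := Nat.pow_lt_pow_right hp1 (by norm_num : 3 < 4)
    omega
  obtain ⟨h7, h8⟩ := sup_zpowers (p := p) (A ⊔ zpowers d) h5 (x := e) (by
    have h9 : A ⊔ zpowers d ≤ centralizer ({e} : Set C) := by
      apply sup_le
      · intro a ha; exact mem_centralizer_singleton_iff.2 (h.central a ha e)
      · rw [zpowers_le]; exact mem_centralizer_singleton_iff.2 (mem_centralizer_singleton_iff.1 hed).symm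
    intro b hb
    exact mem_centralizer_singleton_iff.1 (h9 hb)) (h.exp e) heA
  refine ⟨_, h7, ?_⟩
  rw [h8, h6, hA]; ring

end Cfsg.Agent.H2.EA4
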