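import Mathlib
import Cfsg.Agent.H2_EA4
import Cfsg.Agent.H2_Quad
import Cfsg.Agent.H22_ClassTwo
import Cfsg.Agent.H23_Wielandt

/-! Elementary abelian subgroups of order `p^4`: normal ones exist. -/

set_option autoImplicit false
set_option linter.unusedSectionVars false
set_option linter.style.haveILetI false

open Subgroup Cfsg
open scoped commutatorElement Pointwise

namespace Cfsg.Agent.H2.EA4

open Cfsg.Agent.H2.Quad

variable {G : Type*} [Group G] [Finite G] {p : ℕ} [hp : Fact p.Prime]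

/-- elementary abelian of order `p^4` -/
def P4 (p : ℕ) (E : Subgroup G) : Prop := IsElementaryAbelian p E ∧ Nat.card E = p ^ 4

theorem ea_comm {E : Subgroup G} (h : IsElementaryAbelian p E) {x y : G} (hx : x ∈ E) (hy : y ∈ E) : x * y = y * x :=
  comm_of_ea h hx hy

theorem exists_in (hp2 : p ≠ 2) (hG : IsPGroup p G) {E₁ E₂ N : Subgroup G} [hn1 : E₁.Normal] [hn2 : E₂.Normal]
    (h1 : P4 p E₁) (h2 : P4 p E₂) (hN : N.index = p) (hle : E₁ ⊓ E₂ ≤ N) : ∃ E ≤ N, P4 p E := by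
  have hp1 := hp.out.one_lt
  set U : Subgroup G := E₁ ⊔ E₂ with hU
  have hmemU : ∀ x ∈ U, ∃ a ∈ E₁, ∃ b ∈ E₂, x = a * b := by
    intro x hx
    rw [hU, mem_sup_of_normal_left] at hx
    obtain ⟨a, ha, b, hb, h⟩ := hx
    exact ⟨a, ha, b, hb, h.symm⟩
  have hcommE : ∀ a ∈ E₁, ∀ b ∈ E₂, ⁅a, b⁆ ∈ E₁ ⊓ E₂ := by
    intro a ha b hb
    refine mem_inf.2 ⟨?_, ?_⟩
    · rw [commutatorElement_def, mul_assoc, mul_assoc]
      refine mul_mem ha ?_
      rw [← mul_assoc]
      exact hn1.conj_mem _ (inv_mem ha) b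
    · rw [commutatorElement_def]
      exact mul_mem (hn2.conj_mem _ hb a) (inv_mem hb)
  have hcent : ∀ a ∈ E₁ ⊓ E₂, ∀ u ∈ U, a * u = u * a := by
    intro a ha u hu
    obtain ⟨x, hx, y, hy, rfl⟩ := hmemU u hu
    have e1 := ea_comm h1.1 ha.1 hx
    have e2 := ea_comm h2.1 ha.2 hy
    calc a * (x * y) = (a * x) * y := by group
      _ = x * (a * y) := by rw [e1]; group
      _ = x * y * a := by rw [e2]; group
  have hcommU : ∀ x ∈ U, ∀ y ∈ U, ⁅x, y⁆ ∈ E₁ ⊓ E₂ := by
    have key : ∀ (E F : Subgroup G) [E.Normal], (∀ a ∈ F, ∀ b ∈ F, a * b = b * a) → ∀ x y : G,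
        (∃ a ∈ E, ∃ b ∈ F, x = a * b) → (∃ a ∈ E, ∃ b ∈ F, y = a * b) → ⁅x, y⁆ ∈ E := by
      rintro E F hE hF x y ⟨a, ha, b, hb, rfl⟩ ⟨c, hc, d, hd, rfl⟩
      rw [← QuotientGroup.eq_one_iff]
      change QuotientGroup.mk' E ⁅a * b, c * d⁆ = 1
      have ea : QuotientGroup.mk' E a = 1 := (QuotientGroup.eq_one_iff a).2 ha
      have ec : QuotientGroup.mk' E c = 1 := (QuotientGroup.eq_one_iff c).2 hc
      rw [map_commutatorElement, map_mul, map_mul, ea, ec, one_mul, one_mul, commutatorElement_eq_one_iff_mul_comm,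
        ← map_mul, ← map_mul, hF b hb d hd]
    intro x hx y hy
    refine mem_inf.2 ⟨?_, ?_⟩
    · exact key E₁ E₂ (fun a ha b hb => ea_comm h2.1 ha hb) x y (hmemU x hx) (hmemU y hy)
    · have hsw : ∀ z ∈ U, ∃ a ∈ E₂, ∃ b ∈ E₁, z = a * b := by
        intro z hz
        rw [hU, sup_comm, mem_sup_of_normal_left] at hz
        obtain ⟨a, ha, b, hb, h⟩ := hz
        exact ⟨a, ha, b, hb, h.symm⟩
      exact key E₂ E₁ (fun a ha b hb => ea_comm h1.1 ha hb) x y (hsw x hx) (hsw y hy)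
  have hexp : ∀ x ∈ U, x ^ p = 1 := by
    intro x hx
    obtain ⟨a, ha, b, hb, rfl⟩ := hmemU x hx
    have hc := hcommE a ha b hb
    have hc' : ⁅b⁻¹, a⁻¹⁆ ∈ E₁ ⊓ E₂ := by
      have := (E₁ ⊓ E₂).inv_mem (hcommE a⁻¹ (inv_mem ha) b⁻¹ (inv_mem hb))
      rwa [commutatorElement_inv] at this
    have haU : a ∈ U := (le_sup_left : E₁ ≤ U) ha
    have hbU : b ∈ U := (le_sup_right : E₂ ≤ U) hb
    have h3 := Cfsg.Agent.H22.ClassTwo.mul_pow_prime (x := a) (y := b) (c := ⁅b⁻¹, a⁻¹⁆) hp.out hp2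
      (by simp only [commutatorElement_def]; group) (hcent _ hc' a haU) (hcent _ hc' b hbU) (h1.1.2 _ hc'.1)
    rw [h3, h1.1.2 a ha, h2.1.2 b hb, one_mul]
  -- orders
  set I : Subgroup G := E₁ ⊓ E₂ with hI
  have hIU : I ≤ U := inf_le_left.trans le_sup_left
  set C : Subgroup G := N ⊓ U with hC
  have hIC : I ≤ C := le_inf hle hIU
  have hcardU : Nat.card U * Nat.card I = p ^ 8 := by
    have h3 := Cfsg.Agent.H2.Card.card_sup_mul_card_inf (H := E₁) (N := E₂) (by rw [normalizer_eq_top]; exact le_top)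
    rw [h1.2, h2.2, ← pow_add] at h3
    exact h3
  have hcardC : Nat.card U ≤ Nat.card C * p := by
    have h3 : (N ⊓ U).relIndex U ≤ p := by
      rw [inf_relIndex_right]
      have h4 : N.relIndex U ∣ N.index := by
        haveI : N.Normal := by
          apply Subgroup.normal_of_index_eq_minFac_card
          rw [hN]
          obtain ⟨n, hn⟩ := IsPGroup.iff_card.1 hG
          rw [hn]
          have hn0 : n ≠ 0 := by
            rintro rfl
            rw [pow_zero] at hn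
            have := Subgroup.card_mul_index N
            rw [hn, hN] at this
            have h5 := Nat.le_of_dvd one_pos (Dvd.intro_left _ this)
            omega
          rw [Nat.Prime.pow_minFac hp.out hn0]
        exact relIndex_dvd_index_of_normal N U
      exact (Nat.le_of_dvd (by rw [hN]; exact hp.out.pos) h4).trans hN.le
    have h4 := Cfsg.Agent.H2.Card.card_mul_relIndex (inf_le_right : N ⊓ U ≤ U)
    rw [← h4]
    exact Nat.mul_le_mul_left _ h3
  obtain ⟨c, hc⟩ := IsPGroup.iff_card.1 (hG.to_subgroup C)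
  obtain ⟨a, ha⟩ := IsPGroup.iff_card.1 (hG.to_subgroup I)
  have hca : 8 ≤ c + 1 + a := by
    have h3 : p ^ 8 ≤ p ^ (c + 1 + a) := by
      rw [← hcardU, pow_add, ← ha, pow_succ, ← hc]
      exact Nat.mul_le_mul_right _ hcardC
    exact (Nat.pow_le_pow_iff_right hp1).1 h3
  have ha4 : a ≤ 4 := by
    have h3 := Nat.le_of_dvd Nat.card_pos (card_dvd_of_le (inf_le_left : I ≤ E₁))
    rw [ha, h1.2] at h3
    exact (Nat.pow_le_pow_iff_right hp1).1 h3
  -- finishing lemma
  have fin : ∀ D : Subgroup G, D ≤ C → ∀ B : Subgroup D, (∀ x ∈ B, ∀ y ∈ B, x * y = y * x) → Nat.card B = p ^ 4 →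
      ∃ E ≤ N, P4 p E := by
    intro D hDC B hBc hB4
    refine ⟨B.map D.subtype, ?_, ⟨?_, ?_⟩, ?_⟩
    · exact (map_subtype_le _).trans (hDC.trans inf_le_left)
    · apply isMulCommutative_of_forall
      rintro _ ⟨x, hx, rfl⟩ _ ⟨y, hy, rfl⟩
      exact congrArg Subtype.val (hBc x hx y hy)
    · rintro _ ⟨x, hx, rfl⟩
      exact hexp _ (hDC x.2).2
    · rw [Subgroup.card_map_of_injective D.subtype_injective, hB4]
  have cl : ∀ D : Subgroup G, D ≤ C → I ≤ D → Cl p (I.subgroupOf D) := by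
    intro D hDC hID
    constructor
    · intro x hx y
      exact Subtype.ext (hcent x hx y (hDC y.2).2)
    · intro x y
      exact hcommU x (hDC x.2).2 y (hDC y.2).2
    · intro x
      exact Subtype.ext (hexp x (hDC x.2).2)
  have hIcard : ∀ D : Subgroup G, I ≤ D → Nat.card (I.subgroupOf D) = p ^ a := by
    intro D hID
    rw [Cfsg.Agent.H2.Card.card_subgroupOf_of_le hID, ha]
  have useGreedy : ∀ b : ℕ, a + b = 4 → (∀ b' < b, a * b' + a + b' < c) → ∃ E ≤ N, P4 p E := by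
    intro b hab hb
    obtain ⟨B, -, hBc, hB, -⟩ := greedy (cl C le_rfl hIC) b (by
      intro b' hb'
      rw [hIcard C hIC, hc, ← pow_mul, ← pow_add, ← pow_add]
      apply Nat.pow_lt_pow_right hp1
      have := hb b' hb'
      omega)
    refine fin C le_rfl B hBc ?_
    rw [hB, hIcard C hIC, ← pow_add, hab]
  have hcases : a = 0 ∨ a = 1 ∨ a = 2 ∨ a = 3 ∨ a = 4 := by omega
  rcases hcases with rfl | rfl | rfl | rfl | rfl
  · exact useGreedy 4 rfl (by intro b' hb'; omega)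
  · exact useGreedy 3 rfl (by intro b' hb'; omega)
  · -- rank two
    obtain ⟨D', hD', hID'⟩ := Sylow.exists_subgroup_card_pow_prime_le (G := C) p (n := 2) (m := 5)
      (by rw [hc]; exact pow_dvd_pow p (by omega)) (I.subgroupOf C) (hIcard C hIC) (by norm_num)
    set D : Subgroup G := D'.map C.subtype with hD
    have hDC : D ≤ C := map_subtype_le _
    have hID : I ≤ D := by
      intro x hx
      exact ⟨⟨x, hIC hx⟩, hID' hx, rfl⟩
    obtain ⟨B, hBc, hB⟩ := case_two (cl D hDC hID) (hIcard D hID) (by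
      rw [hD, Subgroup.card_map_of_injective C.subtype_injective, hD'])
    exact fin D hDC B hBc hB
  · exact useGreedy 1 rfl (by intro b' hb'; omega)
  · refine ⟨I, hle, ?_⟩
    have : I = E₁ := Cfsg.Agent.H2.Card.eq_of_le_of_card_eq inf_le_left (by rw [ha, h1.2])
    rw [this]; exact h1

end Cfsg.Agent.H2.EA4
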