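import Mathlib
import Cfsg.Agent.H2_EA4b

/-! The number of elementary abelian subgroups of order `p^4` of a `p`-group, `p` odd. -/

set_option autoImplicit false
set_option linter.unusedSectionVars false
set_option linter.style.haveILetI false

open Subgroup Cfsg
open scoped commutatorElement Pointwise

universe u

namespace Cfsg.Agent.H2.EA4

open Cfsg.Agent.H2.Quad Cfsg.Agent.H2.Pencil

section

variable {G : Type u} [Group G] [Finite G] {p : ℕ} [hp : Fact p.Prime]

theorem normal_of_index (hG : IsPGroup p G) {N : Subgroup G} (hN : N.index = p) : N.Normal := by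
  apply Subgroup.normal_of_index_eq_minFac_card
  rw [hN]
  obtain ⟨n, hn⟩ := IsPGroup.iff_card.1 hG
  rw [hn]
  have hn0 : n ≠ 0 := by
    rintro rfl
    rw [pow_zero] at hn
    have := Subgroup.card_mul_index N
    rw [hn, hN] at this
    have h5 := Nat.le_of_dvd one_pos (Dvd.intro_left _ this)
    have := hp.out.one_lt
    omega
  rw [Nat.Prime.pow_minFac hp.out hn0]

theorem exists_max (hG : IsPGroup p G) {E : Subgroup G} (hE : E ≠ ⊤) : ∃ N : Subgroup G, N.index = p ∧ E ≤ N := by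
  obtain ⟨n, hn⟩ := IsPGroup.iff_card.1 hG
  obtain ⟨e, he⟩ := IsPGroup.iff_card.1 (hG.to_subgroup E)
  have hlt := Cfsg.Agent.H2.Card.card_lt_of_ne_top hE
  rw [hn, he] at hlt
  have h1 : e < n := (Nat.pow_lt_pow_iff_right hp.out.one_lt).1 hlt
  obtain ⟨N, hN, hEN⟩ := Sylow.exists_subgroup_card_pow_prime_le (G := G) p (n := e) (m := n - 1)
    (by rw [hn]; exact pow_dvd_pow p (by omega)) E he (by omega)
  refine ⟨N, ?_, hEN⟩
  have h2 := Subgroup.card_mul_index N
  rw [hN, hn] at h2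
  have h3 : p ^ n = p ^ (n - 1) * p := by rw [← pow_succ]; congr 1; omega
  rw [h3] at h2
  exact Nat.eq_of_mul_eq_mul_left (pow_pos hp.out.pos _) h2

theorem P4.conj {E : Subgroup G} (h : P4 p E) (g : G) : P4 p (MulAut.conj g • E) := by
  refine ⟨⟨?_, ?_⟩, ?_⟩
  · apply isMulCommutative_of_forall
    rintro _ ⟨x, hx, rfl⟩ _ ⟨y, hy, rfl⟩
    have := ea_comm h.1 hx hy
    change g * x * g⁻¹ * (g * y * g⁻¹) = g * y * g⁻¹ * (g * x * g⁻¹)
    calc g * x * g⁻¹ * (g * y * g⁻¹) = g * (x * y) * g⁻¹ := by group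
      _ = g * (y * x) * g⁻¹ := by rw [this]
      _ = _ := by group
  · rintro _ ⟨x, hx, rfl⟩
    change (g * x * g⁻¹) ^ p = 1
    rw [conj_pow, h.1.2 x hx]; group
  · rw [← h.2]
    exact Subgroup.card_map_of_injective (MulAut.conj g).injective

/-- a normal one inside `N` from the count in `N` -/
theorem exists_normal (hG : IsPGroup p G) {N : Subgroup G} [hN : N.Normal]
    (h : Nat.card {E : Subgroup G // P4 p E ∧ E ≤ N} ≡ 1 [MOD p]) : ∃ E : Subgroup G, E.Normal ∧ P4 p E ∧ E ≤ N := by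
  have h1 := Cfsg.Agent.H23.Wielandt.card_modEq_normalized p (⊤ : Subgroup G) (hG.to_subgroup ⊤)
    (fun E => P4 p E ∧ E ≤ N) (by
      rintro g - E ⟨hE, hEN⟩
      refine ⟨hE.conj g, ?_⟩
      rintro _ ⟨x, hx, rfl⟩
      exact hN.conj_mem x (hEN hx) g)
  have h2 := h1.symm.trans h
  have h3 : Nat.card {E : Subgroup G // (P4 p E ∧ E ≤ N) ∧ ⊤ ≤ normalizer (E : Set G)} ≠ 0 := by
    intro h0
    rw [h0] at h2
    have h4 := (Nat.modEq_iff_dvd' (by norm_num : 0 ≤ 1)).1 h2
    have h5 := Nat.le_of_dvd one_pos h4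
    have := hp.out.one_lt
    omega
  obtain ⟨⟨E, hE, hEn⟩⟩ := (Nat.card_ne_zero.1 h3).1
  exact ⟨E, normalizer_eq_top_iff.1 (top_le_iff.1 hEn), hE.1, hE.2⟩

theorem card_transfer (N : Subgroup G) : Nat.card {E : Subgroup N // P4 p E} = Nat.card {E : Subgroup G // P4 p E ∧ E ≤ N} := by
  apply Nat.card_congr
  have hup : ∀ E : Subgroup N, P4 p E → P4 p (E.map N.subtype) := by
    intro E hE
    refine ⟨⟨?_, ?_⟩, ?_⟩
    · apply isMulCommutative_of_forall
      rintro _ ⟨x, hx, rfl⟩ _ ⟨y, hy, rfl⟩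
      exact congrArg Subtype.val (ea_comm hE.1 hx hy)
    · rintro _ ⟨x, hx, rfl⟩
      exact congrArg Subtype.val (hE.1.2 x hx)
    · rw [Subgroup.card_map_of_injective N.subtype_injective, hE.2]
  have hdown : ∀ E : Subgroup G, P4 p E → E ≤ N → P4 p (E.subgroupOf N) := by
    intro E hE hEN
    refine ⟨⟨?_, ?_⟩, ?_⟩
    · apply isMulCommutative_of_forall
      intro x hx y hy
      exact Subtype.ext (ea_comm hE.1 hx hy)
    · intro x hx
      exact Subtype.ext (hE.1.2 x hx)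
    · rw [Cfsg.Agent.H2.Card.card_subgroupOf_of_le hEN, hE.2]
  exact
    { toFun := fun E => ⟨E.1.map N.subtype, hup E.1 E.2, map_subtype_le _⟩
      invFun := fun E => ⟨E.1.subgroupOf N, hdown E.1 E.2.1 E.2.2⟩
      left_inv := fun E => Subtype.ext (by
        change (E.1.map N.subtype).subgroupOf N = E.1
        rw [subgroupOf, comap_map_eq_self_of_injective N.subtype_injective])
      right_inv := fun E => Subtype.ext (by
        change (E.1.subgroupOf N).map N.subtype = E.1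
        rw [subgroupOf_map_subtype, inf_eq_left.2 E.2.2]) }

end

variable {p : ℕ} [hp : Fact p.Prime]

theorem count (hp2 : p ≠ 2) (n : ℕ) : ∀ (G : Type u) [Group G] [Finite G], Nat.card G = n → IsPGroup p G →
    (∃ E : Subgroup G, P4 p E) → Nat.card {E : Subgroup G // P4 p E} ≡ 1 [MOD p] := by
  induction n using Nat.strong_induction_on with
  | _ n ih =>
  intro G _ _ hcard hG hex
  by_cases htop : ∃ E : Subgroup G, P4 p E ∧ E = ⊤
  · obtain ⟨E₀, hE₀, rfl⟩ := htop
    have h4 : Nat.card G = p ^ 4 := by rw [← Subgroup.card_top (G := G)]; exact hE₀.2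
    have : Nat.card {E : Subgroup G // P4 p E} = 1 := by
      rw [Nat.card_eq_one_iff_unique]
      refine ⟨⟨?_⟩, ⟨⟨⊤, hE₀⟩⟩⟩
      rintro ⟨E, hE⟩ ⟨F, hF⟩
      have e1 : E = ⊤ := Cfsg.Agent.H2.Card.eq_of_le_of_card_eq le_top (by rw [hE.2, Subgroup.card_top, h4])
      have e2 : F = ⊤ := Cfsg.Agent.H2.Card.eq_of_le_of_card_eq le_top (by rw [hF.2, Subgroup.card_top, h4])
      exact Subtype.ext (e1.trans e2.symm)
    rw [this]
  push Not at htop
  -- counting in a subgroup of index `p`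
  have hcount : ∀ N : Subgroup G, N.index = p → (∃ E, P4 p E ∧ E ≤ N) → Nat.card {E : Subgroup G // P4 p E ∧ E ≤ N} ≡ 1 [MOD p] := by
    rintro N hN ⟨E, hE, hEN⟩
    rw [← card_transfer]
    have hNt : N ≠ ⊤ := by
      rintro rfl
      rw [Subgroup.index_top] at hN
      exact hp.out.one_lt.ne hN
    apply ih (Nat.card N) (by rw [← hcard]; exact Cfsg.Agent.H2.Card.card_lt_of_ne_top hNt) N rfl (hG.to_subgroup N)
    have h1 : Nonempty {E : Subgroup G // P4 p E ∧ E ≤ N} := ⟨⟨E, hE, hEN⟩⟩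
    have h2 : Nat.card {E : Subgroup N // P4 p E} ≠ 0 := by
      rw [card_transfer]
      exact Nat.card_ne_zero.2 ⟨h1, inferInstance⟩
    obtain ⟨⟨E', hE'⟩⟩ := (Nat.card_ne_zero.1 h2).1
    exact ⟨E', hE'⟩
  classical
  haveI : Fintype (Subgroup G) := Fintype.ofFinite _
  set 𝒩 : Finset (Subgroup G) := Finset.univ.filter (fun N => N.index = p) with h𝒩
  set 𝔈 : Finset (Subgroup G) := Finset.univ.filter (fun E => P4 p E) with h𝔈
  have hdc : ∑ E ∈ 𝔈, (𝒩.filter (fun N => E ≤ N)).card = ∑ N ∈ 𝒩, (𝔈.filter (fun E => E ≤ N)).card :=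
    Finset.sum_card_bipartiteAbove_eq_sum_card_bipartiteBelow (fun E N => E ≤ N)
  have hcE : Nat.card {E : Subgroup G // P4 p E} = 𝔈.card := by
    rw [Nat.card_eq_fintype_card, Fintype.card_subtype]
  -- the left side
  have hleft : ∀ E ∈ 𝔈, ((𝒩.filter (fun N => E ≤ N)).card : ZMod p) = 1 := by
    intro E hE
    rw [h𝔈, Finset.mem_filter] at hE
    have h1 := card_family (p := p) {N : Subgroup G | N.index = p ∧ E ≤ N} (fun N hN => ⟨normal_of_index hG hN.1, hN.1⟩)
      (fun N₁ h1 N₂ h2 N _ hN hle => ⟨hN, (le_inf h1.2 h2.2).trans hle⟩) (by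
        obtain ⟨N, hN, hEN⟩ := exists_max hG (htop E hE.2)
        exact ⟨N, hN, hEN⟩)
    have h2 : Nat.card {N : Subgroup G | N.index = p ∧ E ≤ N} = (𝒩.filter (fun N => E ≤ N)).card := by
      rw [Nat.card_eq_fintype_card, h𝒩, Finset.filter_filter]
      exact Fintype.card_subtype _
    rw [h2] at h1
    have h3 := (ZMod.natCast_eq_natCast_iff _ _ _).2 h1
    rw [h3, Nat.cast_one]
  -- the right side
  set 𝔉 : Set (Subgroup G) := {N | N.index = p ∧ ∃ E, P4 p E ∧ E ≤ N} with h𝔉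
  have hF1 := card_family (p := p) 𝔉 (fun N hN => ⟨normal_of_index hG hN.1, hN.1⟩) (by
      rintro N₁ ⟨h1, h1'⟩ N₂ ⟨h2, h2'⟩ N _ hN hle
      haveI := normal_of_index hG h1
      haveI := normal_of_index hG h2
      obtain ⟨E₁, hE₁n, hE₁, hE₁N⟩ := exists_normal hG (hcount N₁ h1 h1')
      obtain ⟨E₂, hE₂n, hE₂, hE₂N⟩ := exists_normal hG (hcount N₂ h2 h2')
      obtain ⟨E, hEN, hE⟩ := exists_in hp2 hG hE₁ hE₂ hN ((inf_le_inf hE₁N hE₂N).trans hle)
      exact ⟨hN, E, hE, hEN⟩) (by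
      obtain ⟨E, hE⟩ := hex
      obtain ⟨N, hN, hEN⟩ := exists_max hG (htop E hE)
      exact ⟨N, hN, E, hE, hEN⟩)
  have hright : ∀ N ∈ 𝒩, ((𝔈.filter (fun E => E ≤ N)).card : ZMod p) = if (∃ E, P4 p E ∧ E ≤ N) then 1 else 0 := by
    intro N hN
    rw [h𝒩, Finset.mem_filter] at hN
    have h2 : Nat.card {E : Subgroup G // P4 p E ∧ E ≤ N} = (𝔈.filter (fun E => E ≤ N)).card := by
      rw [Nat.card_eq_fintype_card, h𝔈, Finset.filter_filter]
      exact Fintype.card_subtype _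
    split_ifs with h
    · have h1 := hcount N hN.2 h
      rw [h2] at h1
      have h3 := (ZMod.natCast_eq_natCast_iff _ _ _).2 h1
      rw [h3, Nat.cast_one]
    · have : (𝔈.filter (fun E => E ≤ N)) = ∅ := by
        rw [Finset.filter_eq_empty_iff]
        intro E hE hEN
        rw [h𝔈, Finset.mem_filter] at hE
        exact h ⟨E, hE.2, hEN⟩
      rw [this, Finset.card_empty, Nat.cast_zero]
  have h5 := congrArg (Nat.cast : ℕ → ZMod p) hdc
  push_cast at h5
  rw [Finset.sum_congr rfl hleft, Finset.sum_congr rfl hright, Finset.sum_const, nsmul_eq_mul, mul_one] at h5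
  rw [Finset.sum_ite, Finset.sum_const_zero, add_zero, Finset.sum_const, nsmul_eq_mul, mul_one] at h5
  have h6 : Nat.card 𝔉 = (𝒩.filter (fun N => ∃ E, P4 p E ∧ E ≤ N)).card := by
    rw [Nat.card_eq_fintype_card, h𝒩, Finset.filter_filter]
    exact Fintype.card_subtype _
  rw [← h6] at h5
  rw [hcE, ← ZMod.natCast_eq_natCast_iff, h5]
  exact (ZMod.natCast_eq_natCast_iff _ _ _).2 hF1

theorem exists_normal_p4 (hp2 : p ≠ 2) {G : Type u} [Group G] [Finite G] (hG : IsPGroup p G) (h : ∃ E : Subgroup G, P4 p E) :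
    ∃ E : Subgroup G, E.Normal ∧ P4 p E := by
  have h1 := count hp2 _ G rfl hG h
  have h2 : Nat.card {E : Subgroup G // P4 p E} = Nat.card {E : Subgroup G // P4 p E ∧ E ≤ (⊤ : Subgroup G)} := by
    simp
  rw [h2] at h1
  obtain ⟨E, hEn, hE, -⟩ := exists_normal hG h1
  exact ⟨E, hEn, hE⟩

end Cfsg.Agent.H2.EA4
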