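import Cfsg.Agent.H22_Gen
import Cfsg.Agent.H2_Card
import Cfsg.Prelude

set_option autoImplicit false

/-!
Coprime action of an elementary abelian group: generation by the fixed points of hyperplanes.
-/

namespace Cfsg.Agent.H18.Gen

open Subgroup

universe u
variable {G : Type u} [Group G] [Finite G] {p : ℕ} [hp : Fact p.Prime]

theorem relIndex_of_sup_zpowers {U B : Subgroup G} (hU : Cfsg.IsElementaryAbelian p U) (hB : B ≤ U) {a : G}
    (ha : a ∈ U) (h : B ⊔ zpowers a = U) : B = U ∨ B.relIndex U = p := by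
  have hc : ∀ x ∈ U, ∀ y ∈ U, x * y = y * x := fun x hx y hy => by
    have := hU.1.is_comm.comm ⟨x, hx⟩ ⟨y, hy⟩
    simpa using congrArg Subtype.val this
  have hn : zpowers a ≤ normalizer (B : Set G) := by
    rw [zpowers_le, mem_normalizer_iff]
    intro x
    constructor
    · intro hx
      have : a * x * a⁻¹ = x := by rw [hc a ha x (hB hx), mul_inv_cancel_right]
      rwa [this]
    · intro hx
      have h1 := hc a ha _ (hB hx)
      have : a * x * a⁻¹ = x := by
        have h2 : a⁻¹ * (a * (a * x * a⁻¹)) * a = a⁻¹ * (a * x * a⁻¹ * a) * a := by rw [h1]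
        have h3 : a * x * a⁻¹ * a = a * (a * x * a⁻¹) := h1.symm
        have h4 : a * x = a * (a * x * a⁻¹) := by rw [← h3]; group
        exact (mul_left_cancel h4).symm
      rwa [this] at hx
  have h1 := Cfsg.Agent.H2.Card.card_sup_mul_card_inf hn
  rw [sup_comm, h] at h1
  have h2 := Cfsg.Agent.H2.Card.card_mul_relIndex hB
  have h3 : Nat.card (zpowers a) ∣ p := by
    rw [Nat.card_zpowers]
    exact orderOf_dvd_of_pow_eq_one (hU.2 a ha)
  have h4 : B.relIndex U * Nat.card (zpowers a ⊓ B : Subgroup G) = Nat.card (zpowers a) := by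
    rw [← h2] at h1
    have : 0 < Nat.card B := Nat.card_pos
    apply Nat.eq_of_mul_eq_mul_left this
    rw [← mul_assoc, h1, mul_comm]
  have h5 : B.relIndex U ∣ p := (Dvd.intro _ h4).trans h3
  rcases (Nat.dvd_prime hp.out).mp h5 with h6 | h6
  · left
    exact le_antisymm hB (relIndex_eq_one.mp h6)
  · right; exact h6

theorem isCoatom_of_relIndex {U B : Subgroup G} (h : (B.relIndex U).Prime) : IsCoatom (B.subgroupOf U) := by
  refine ⟨?_, ?_⟩
  · intro h1
    have h2 : (B.subgroupOf U).index = 1 := by rw [h1]; exact index_top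
    change B.relIndex U = 1 at h2
    rw [h2] at h
    exact Nat.not_prime_one h
  · intro K hK
    have h1 := relIndex_mul_index hK.le
    have h2 : ((B.subgroupOf U).relIndex K * K.index).Prime := by
      rw [h1]; exact h
    rw [Nat.prime_mul_iff] at h2
    rcases h2 with ⟨_, h3⟩ | ⟨_, h3⟩
    · exact index_eq_one.mp h3
    · rw [relIndex_eq_one] at h3
      exact absurd h3 (not_le_of_gt hK)

/-- Generation: if `L` contains `C_R(B)` for every hyperplane `B` of the elementary abelian group
`U`, then `R ≤ L`. -/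
theorem le_of_hyperplanes {U R L : Subgroup G} (hU : Cfsg.IsElementaryAbelian p U) (hU1 : U ≠ ⊥)
    (hUR : U ≤ normalizer (R : Set G)) (hcop : (Nat.card U).Coprime (Nat.card R))
    (h : ∀ B ≤ U, B.relIndex U = p → IsCoatom (B.subgroupOf U) → R ⊓ centralizer (B : Set G) ≤ L) : R ≤ L := by
  have hc : ∀ x ∈ U, ∀ y ∈ U, x * y = y * x := fun x hx y hy => by
    have := hU.1.is_comm.comm ⟨x, hx⟩ ⟨y, hy⟩
    simpa using congrArg Subtype.val this
  have hUp : IsPGroup p U := fun x => ⟨1, by
    have := hU.2 x x.2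
    ext; simpa using this⟩
  apply Cfsg.Agent.H22.Gen.gen_cyclic hc hUR hcop
  rintro B hB ⟨a, ha, hBa⟩
  rcases relIndex_of_sup_zpowers hU hB ha hBa with h1 | h1
  · -- take a maximal subgroup
    subst h1
    have hnt : Nontrivial B := (Subgroup.nontrivial_iff_ne_bot B).mpr hU1
    obtain ⟨M, hM⟩ : ∃ M : Subgroup B, IsCoatom M := by
      obtain ⟨M, hM, _⟩ := (eq_top_or_exists_le_coatom (⊥ : Subgroup B)).resolve_left (by
        intro h; exact bot_ne_top h)
      exact ⟨M, hM⟩
    have h2 := Cfsg.Agent.H1.Nilp.index_eq_of_isCoatom_pgroup hUp hM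
    have h3 : (M.map B.subtype).subgroupOf B = M := by
      rw [subgroupOf, comap_map_eq_self_of_injective (subtype_injective _)]
    have h4 := h (M.map B.subtype) (map_subtype_le _) (by
      rw [relIndex, h3]; exact h2.2) (by rw [h3]; exact hM)
    refine le_trans ?_ h4
    exact inf_le_inf_left _ (centralizer_le (map_subtype_le _))
  · exact h B hB h1 (isCoatom_of_relIndex (by rw [h1]; exact hp.out))

end Cfsg.Agent.H18.Gen
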