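import Mathlib
import Cfsg.Agent.H2_Quad
import Cfsg.Agent.H2_Replace
import Cfsg.Agent.H2_Good1
import Cfsg.Agent.H1_Coprime2
import Cfsg.Agent.H18_Gen

/-! Failure of factorization I: best offenders acting faithfully on a `p'`-group. -/

set_option autoImplicit false
set_option linter.style.haveILetI false

open Subgroup Cfsg
open scoped commutatorElement

namespace Cfsg.Agent.H2.FF

open Cfsg.Agent.H2.Basic Cfsg.Agent.H2.Quad Cfsg.Agent.H2.Replace

variable {G : Type*} [Group G] {p : ℕ}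

/-! ### `[V, a]` for a single element -/

/-- the map `v ↦ [v, a]` on an abelian group -/
def cmap (V : Subgroup G) (a : G) (hV : IsElementaryAbelian p V) (ha : a ∈ normalizer (V : Set G)) : V →* V where
  toFun v := ⟨⁅(v : G), a⁆, comm_mem (H := zpowers a) (by rwa [zpowers_le]) (mem_zpowers a) v.2⟩
  map_one' := by
    apply Subtype.ext
    change ⁅(1 : G), a⁆ = 1
    simp
  map_mul' v w := by
    apply Subtype.ext
    change ⁅((v : G) * w), a⁆ = ⁅(v : G), a⁆ * ⁅(w : G), a⁆
    have h1 : ∀ x ∈ V, a * x * a⁻¹ ∈ V := fun x hx => (mem_normalizer_iff.1 ha x).1 hx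
    simp only [commutatorElement_def]
    have h2 := comm_of_ea hV (V.mul_mem w.2 (h1 _ (V.inv_mem w.2))) (h1 _ (V.inv_mem v.2))
    calc (v : G) * w * a * ((v : G) * w)⁻¹ * a⁻¹ = v * (w * (a * (w : G)⁻¹ * a⁻¹) * (a * (v : G)⁻¹ * a⁻¹)) := by group
      _ = v * a * (v : G)⁻¹ * a⁻¹ * (w * a * (w : G)⁻¹ * a⁻¹) := by rw [h2]; group

theorem commutator_zpowers_le' {V N : Subgroup G} {x : G} (hN : x ∈ normalizer (N : Set G)) (_hV : V ≤ normalizer (N : Set G))
    (hVx : x ∈ normalizer (V : Set G)) (h : ∀ v ∈ V, ⁅v, x⁆ ∈ N) : ⁅V, zpowers x⁆ ≤ N := by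
  let S : Subgroup G :=
    { carrier := {g | g ∈ normalizer (N : Set G) ∧ g ∈ normalizer (V : Set G) ∧ ∀ v ∈ V, ⁅v, g⁆ ∈ N}
      one_mem' := ⟨one_mem _, one_mem _, fun v _ => by simp⟩
      mul_mem' := by
        rintro g h ⟨g1, g2, g3⟩ ⟨h1, h2, h3⟩
        refine ⟨mul_mem g1 h1, mul_mem g2 h2, fun v hv => ?_⟩
        have e : ⁅v, g * h⁆ = ⁅v, g⁆ * (g * ⁅v, h⁆ * g⁻¹) := by
          simp only [commutatorElement_def]; group
        rw [e]
        exact N.mul_mem (g3 v hv) ((mem_normalizer_iff.1 g1 _).1 (h3 v hv))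
      inv_mem' := by
        rintro g ⟨g1, g2, g3⟩
        refine ⟨inv_mem g1, inv_mem g2, fun v hv => ?_⟩
        have e : ⁅v, g⁻¹⁆ = g⁻¹ * ⁅v, g⁆⁻¹ * g⁻¹⁻¹ := by
          simp only [commutatorElement_def]; group
        rw [e]
        exact (mem_normalizer_iff.1 (inv_mem g1) _).1 (N.inv_mem (g3 v hv)) }
  have hx : zpowers x ≤ S := by
    rw [zpowers_le]
    exact ⟨hN, hVx, h⟩
  rw [commutator_le]
  intro v hv g hg
  exact (hx hg).2.2 v hv

theorem cmap_range (V : Subgroup G) (a : G) (hV : IsElementaryAbelian p V) (ha : a ∈ normalizer (V : Set G)) :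
    ((cmap V a hV ha).range).map V.subtype = ⁅V, zpowers a⁆ := by
  apply le_antisymm
  · rintro _ ⟨_, ⟨v, rfl⟩, rfl⟩
    exact commutator_mem_commutator v.2 (mem_zpowers a)
  · have hz : zpowers a ≤ normalizer (V : Set G) := by rwa [zpowers_le]
    have hle : ((cmap V a hV ha).range).map V.subtype ≤ V := map_subtype_le _
    apply commutator_zpowers_le'
    · have h1 : ∀ g ∈ zpowers a, ∀ v ∈ ((cmap V a hV ha).range).map V.subtype, g * v * g⁻¹ ∈ ((cmap V a hV ha).range).map V.subtype := by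
        rintro g hg _ ⟨_, ⟨v, rfl⟩, rfl⟩
        have hga : g * a = a * g := by
          obtain ⟨k, rfl⟩ := hg
          exact ((Commute.refl a).zpow_left k).eq
        refine ⟨_, ⟨⟨g * v * g⁻¹, conj_mem hz hg v.2⟩, rfl⟩, ?_⟩
        change ⁅g * (v : G) * g⁻¹, a⁆ = g * ⁅(v : G), a⁆ * g⁻¹
        simp only [commutatorElement_def]
        calc g * (v : G) * g⁻¹ * a * (g * v * g⁻¹)⁻¹ * a⁻¹ = g * v * g⁻¹ * (a * g) * (v : G)⁻¹ * (g⁻¹ * a⁻¹) := by group
          _ = g * v * g⁻¹ * (g * a) * (v : G)⁻¹ * (g⁻¹ * a⁻¹) := by rw [hga]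
          _ = g * v * a * (v : G)⁻¹ * (a * g)⁻¹ := by group
          _ = g * v * a * (v : G)⁻¹ * (g * a)⁻¹ := by rw [hga]
          _ = g * (v * a * (v : G)⁻¹ * a⁻¹) * g⁻¹ := by group
      rw [mem_normalizer_iff]
      intro v
      refine ⟨h1 a (mem_zpowers a) v, fun h => ?_⟩
      have h2 := h1 a⁻¹ (inv_mem (mem_zpowers a)) _ h
      have e : a⁻¹ * (a * v * a⁻¹) * a⁻¹⁻¹ = v := by group
      rwa [e] at h2
    · exact (ea_le_centralizer hV).trans ((centralizer_le hle).trans (centralizer_le_normalizer _))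
    · exact ha
    · intro v hv
      exact ⟨_, ⟨⟨v, hv⟩, rfl⟩, rfl⟩

theorem card_comm_mul [Finite G] {V : Subgroup G} {a : G} (hV : IsElementaryAbelian p V) (ha : a ∈ normalizer (V : Set G)) :
    Nat.card (⁅V, zpowers a⁆ : Subgroup G) * Nat.card (CV V (zpowers a)) = Nat.card V := by
  have h1 : Nat.card (⁅V, zpowers a⁆ : Subgroup G) = Nat.card (cmap V a hV ha).range := by
    rw [← cmap_range V a hV ha, Subgroup.card_map_of_injective V.subtype_injective]
  have h2 : Nat.card (CV V (zpowers a)) = Nat.card (cmap V a hV ha).ker := by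
    have : (CV V (zpowers a)) = (cmap V a hV ha).ker.map V.subtype := by
      ext v
      constructor
      · rintro ⟨hv, hc⟩
        refine ⟨⟨v, hv⟩, ?_, rfl⟩
        change cmap V a hV ha ⟨v, hv⟩ = 1
        apply Subtype.ext
        change ⁅v, a⁆ = 1
        rw [commutatorElement_eq_one_iff_mul_comm]
        exact (mem_centralizer_iff.1 hc a (mem_zpowers a)).symm
      · rintro ⟨v, hv, rfl⟩
        refine ⟨v.2, mem_centralizer_iff.2 ?_⟩
        have h3 : ⁅(v : G), a⁆ = 1 := congrArg Subtype.val hv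
        rw [commutatorElement_eq_one_iff_mul_comm] at h3
        rintro _ ⟨k, rfl⟩
        have h4 : Commute a (v : G) := h3.symm
        exact (h4.zpow_left k).eq
    rw [this, Subgroup.card_map_of_injective V.subtype_injective]
  rw [h1, h2, ← Subgroup.index_ker, mul_comm, Subgroup.card_mul_index]

/-! ### Thompson's lemma -/

section Thompson

variable [Finite G] [hp : Fact p.Prime] {V Q : Subgroup G}

theorem CV_comm {A : Subgroup G} : V ⊓ centralizer (A : Set G) = CV V A := rfl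

/-- for a hyperplane `B` with `[C_Q(B), A] ≠ 1` the group `A` moves `C_V(B)` -/
theorem not_le_of_hyperplane (hV : IsElementaryAbelian p V) (hQV : Q ≤ normalizer (V : Set G))
    (hQp : (Nat.card Q).Coprime p) (hQf : Q ⊓ centralizer (V : Set G) = ⊥) {A B : Subgroup G}
    (hA : IsElementaryAbelian p A) (hAV : A ≤ normalizer (V : Set G)) (hAQ : A ≤ normalizer (Q : Set G))
    (hBA : B ≤ A) (hR : ¬ Q ⊓ centralizer (B : Set G) ≤ centralizer (A : Set G)) :
    ¬ CV V B ≤ centralizer (A : Set G) := by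
  intro hW
  apply hR
  set R : Subgroup G := Q ⊓ centralizer (B : Set G) with hRdef
  have hACB : A ≤ normalizer ((centralizer (B : Set G) : Subgroup G) : Set G) := by
    have h1 : A ≤ centralizer (B : Set G) := (ea_le_centralizer hA).trans (centralizer_le hBA)
    exact h1.trans le_normalizer
  have hAR : A ≤ normalizer (R : Set G) := by
    intro a ha
    rw [mem_normalizer_iff]
    intro x
    constructor
    · rintro ⟨h1, h2⟩
      exact ⟨(mem_normalizer_iff.1 (hAQ ha) x).1 h1, (mem_normalizer_iff.1 (hACB ha) x).1 h2⟩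
    · rintro ⟨h1, h2⟩
      exact ⟨(mem_normalizer_iff.1 (hAQ ha) x).2 h1, (mem_normalizer_iff.1 (hACB ha) x).2 h2⟩
  have hRV : R ≤ normalizer (V : Set G) := inf_le_left.trans hQV
  have hTR : ⁅R, A⁆ ≤ R := commutator_le_left_of_normalizes hAR
  have hRW : R ≤ normalizer ((CV V B : Subgroup G) : Set G) := by
    intro r hr
    have hrC : r ∈ centralizer (B : Set G) := hr.2
    have hrCC : r ∈ normalizer ((centralizer (B : Set G) : Subgroup G) : Set G) := le_normalizer hrC
    rw [mem_normalizer_iff]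
    intro x
    constructor
    · rintro ⟨h1, h2⟩
      exact ⟨(mem_normalizer_iff.1 (hRV hr) x).1 h1, (mem_normalizer_iff.1 hrCC x).1 h2⟩
    · rintro ⟨h1, h2⟩
      exact ⟨(mem_normalizer_iff.1 (hRV hr) x).2 h1, (mem_normalizer_iff.1 hrCC x).2 h2⟩
  have hTW : ⁅R, A⁆ ≤ centralizer ((CV V B : Subgroup G) : Set G) := by
    rw [commutator_le]
    intro r hr a ha
    rw [mem_centralizer_iff]
    intro w hw
    have h1 : ∀ w ∈ CV V B, a * w = w * a := fun w hw => mem_centralizer_iff.1 (hW hw) a ha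
    have h2 : r⁻¹ * w * r ∈ CV V B := by
      have := (mem_normalizer_iff.1 (inv_mem (hRW hr)) w).1 hw
      rwa [inv_inv] at this
    rw [commutatorElement_def]
    have e1 := h1 w hw
    have e2 := h1 _ h2
    have e3 : a⁻¹ * w = w * a⁻¹ := by
      calc a⁻¹ * w = a⁻¹ * (w * a) * a⁻¹ := by group
        _ = w * a⁻¹ := by rw [← e1]; group
    calc w * (r * a * r⁻¹ * a⁻¹) = r * ((r⁻¹ * w * r) * a) * r⁻¹ * a⁻¹ := by group
      _ = r * (a * (r⁻¹ * w * r)) * r⁻¹ * a⁻¹ := by rw [e2]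
      _ = r * a * r⁻¹ * (w * a⁻¹) := by group
      _ = r * a * r⁻¹ * (a⁻¹ * w) := by rw [e3]
      _ = r * a * r⁻¹ * a⁻¹ * w := by group
  have hTp : (Nat.card (⁅R, A⁆ : Subgroup G)).Coprime p :=
    Nat.Coprime.coprime_dvd_left (card_dvd_of_le (hTR.trans inf_le_left)) hQp
  have h1 : (⁅R, A⁆ : Subgroup G) ≤ centralizer (V : Set G) := by
    apply Cfsg.Agent.H1.Coprime.p_times_q p B (⁅R, A⁆ : Subgroup G) V (ea_isPGroup (ea_of_le hA hBA)) hTp (ea_isPGroup hV)
    · rw [le_centralizer_iff]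
      exact hTR.trans inf_le_right
    · exact hBA.trans hAV
    · exact hTR.trans hRV
    · rw [le_centralizer_iff]; exact hTW
  have h2 : (⁅R, A⁆ : Subgroup G) ≤ ⊥ := by
    rw [← hQf]
    exact le_inf (hTR.trans inf_le_left) h1
  rw [le_bot_iff, commutator_eq_bot_iff_le_centralizer] at h2
  exact h2

theorem card_coprime (hQp : (Nat.card Q).Coprime p) {A : Subgroup G} (hA : IsElementaryAbelian p A) :
    (Nat.card A).Coprime (Nat.card Q) := by
  obtain ⟨n, hn⟩ := IsPGroup.iff_card.1 (ea_isPGroup hA)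
  rw [hn]
  exact (hQp.symm).pow_left n

/-- existence of hyperplanes with `[C_Q(B), A] ≠ 1` avoiding a proper condition -/
theorem exists_hyperplane (hQp : (Nat.card Q).Coprime p) {A : Subgroup G}
    (hA : IsElementaryAbelian p A) (hAQ : A ≤ normalizer (Q : Set G)) {L : Subgroup G} (hL : centralizer (A : Set G) ≤ L)
    (hQL : ¬ Q ≤ L) : ∃ B ≤ A, B.relIndex A = p ∧ ¬ Q ⊓ centralizer (B : Set G) ≤ L ∧
      ¬ Q ⊓ centralizer (B : Set G) ≤ centralizer (A : Set G) := by
  by_contra hno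
  apply hQL
  have hA1 : A ≠ ⊥ := by
    rintro rfl
    apply hQL
    refine le_trans ?_ hL
    intro q _
    rw [mem_centralizer_iff]
    intro x hx
    rw [SetLike.mem_coe, mem_bot] at hx
    rw [hx, one_mul, mul_one]
  apply Cfsg.Agent.H18.Gen.le_of_hyperplanes hA hA1 hAQ (card_coprime hQp hA)
  intro B hBA hB _
  by_contra hBL
  exact hno ⟨B, hBA, hB, hBL, fun h => hBL (h.trans hL)⟩

/-- one step: the fixed points grow by a factor at least `p` -/
theorem step (hV : IsElementaryAbelian p V) (hQV : Q ≤ normalizer (V : Set G))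
    (hQp : (Nat.card Q).Coprime p) (hQf : Q ⊓ centralizer (V : Set G) = ⊥) {A B : Subgroup G}
    (hA : IsElementaryAbelian p A) (hAV : A ≤ normalizer (V : Set G)) (hAQ : A ≤ normalizer (Q : Set G))
    (hBA : B ≤ A) (hR : ¬ Q ⊓ centralizer (B : Set G) ≤ centralizer (A : Set G)) :
    p * Nat.card (CV V A) ≤ Nat.card (CV V B) := by
  have h1 := not_le_of_hyperplane hV hQV hQp hQf hA hAV hAQ hBA hR
  have h2 : CV V A ≤ CV V B := CV_anti V hBA
  have h3 := Cfsg.Agent.H2.Card.card_mul_relIndex h2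
  have h4 : (CV V A).relIndex (CV V B) ≠ 1 := by
    rw [Ne, relIndex_eq_one]
    intro h5
    exact h1 (h5.trans inf_le_right)
  have h5 : IsPGroup p (CV V B) := ea_isPGroup (ea_of_le hV inf_le_left)
  obtain ⟨n, hn⟩ := IsPGroup.iff_card.1 h5
  have h6 : (CV V A).relIndex (CV V B) ∣ p ^ n := by rw [← hn, ← h3]; exact Dvd.intro_left _ rfl
  obtain ⟨m, -, hm⟩ := (Nat.dvd_prime_pow hp.out).1 h6
  have h7 : p ≤ (CV V A).relIndex (CV V B) := by
    rw [hm] at h4 ⊢
    rcases m with _ | m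
    · exact absurd (pow_zero p) h4
    · rw [pow_succ]
      exact Nat.le_mul_of_pos_left p (pow_pos hp.out.pos m)
  rw [← h3, mul_comm]
  exact Nat.mul_le_mul_left _ h7

theorem CV_bot (V : Subgroup G) : CV V ⊥ = V := by
  rw [CV, inf_eq_left]
  intro v _
  rw [mem_centralizer_iff]
  intro x hx
  rw [SetLike.mem_coe, mem_bot] at hx
  rw [hx, one_mul, mul_one]

/-- Thompson's lemma -/
theorem lemT (hV : IsElementaryAbelian p V) (hQV : Q ≤ normalizer (V : Set G))
    (hQp : (Nat.card Q).Coprime p) (hQf : Q ⊓ centralizer (V : Set G) = ⊥) :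
    ∀ (n : ℕ) (A : Subgroup G), Nat.card A ≤ n → IsElementaryAbelian p A → A ≤ normalizer (V : Set G) →
      A ≤ normalizer (Q : Set G) → A ⊓ centralizer (Q : Set G) = ⊥ → Nat.card A * Nat.card (CV V A) ≤ Nat.card V := by
  intro n
  induction n with
  | zero =>
    intro A hn
    exact absurd (Nat.card_pos (α := A)) (by omega)
  | succ n ih =>
    intro A hn hA hAV hAQ hAf
    rcases eq_or_ne A ⊥ with rfl | hA1
    · rw [CV_bot, Subgroup.card_bot, one_mul]
    · have h1 : ¬ Q ≤ centralizer (A : Set G) := by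
        intro h
        rw [le_centralizer_iff] at h
        rw [inf_eq_left.2 h] at hAf
        exact hA1 hAf
      obtain ⟨B, hBA, hB, -, hBR⟩ := exists_hyperplane hQp hA hAQ le_rfl h1
      have h2 := Cfsg.Agent.H2.Card.card_mul_relIndex hBA
      rw [hB] at h2
      have h3 : Nat.card B ≤ n := by
        have h4 : 0 < Nat.card B := Nat.card_pos
        have h5 := hp.out.two_le
        have h6 : Nat.card B * 2 ≤ Nat.card B * p := Nat.mul_le_mul_left _ h5
        omega
      have h4 : B ⊓ centralizer (Q : Set G) = ⊥ := by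
        rw [eq_bot_iff, ← hAf]; exact inf_le_inf_right _ hBA
      have h5 := ih B h3 (ea_of_le hA hBA) (hBA.trans hAV) (hBA.trans hAQ) h4
      have h6 := step hV hQV hQp hQf hA hAV hAQ hBA hBR
      calc Nat.card A * Nat.card (CV V A) = Nat.card B * (p * Nat.card (CV V A)) := by rw [← h2]; ring
        _ ≤ Nat.card B * Nat.card (CV V B) := Nat.mul_le_mul_left _ h6
        _ ≤ Nat.card V := h5

/-- in the extremal case the hyperplane is extremal -/
theorem eq_of_hyperplane (hV : IsElementaryAbelian p V) (hQV : Q ≤ normalizer (V : Set G))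
    (hQp : (Nat.card Q).Coprime p) (hQf : Q ⊓ centralizer (V : Set G) = ⊥) {A B : Subgroup G}
    (hA : IsElementaryAbelian p A) (hAV : A ≤ normalizer (V : Set G)) (hAQ : A ≤ normalizer (Q : Set G))
    (hAf : A ⊓ centralizer (Q : Set G) = ⊥) (hBA : B ≤ A) (hB : B.relIndex A = p)
    (hR : ¬ Q ⊓ centralizer (B : Set G) ≤ centralizer (A : Set G))
    (he : Nat.card A * Nat.card (CV V A) = Nat.card V) : Nat.card B * Nat.card (CV V B) = Nat.card V := by
  have h1 := step hV hQV hQp hQf hA hAV hAQ hBA hR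
  have h2 := Cfsg.Agent.H2.Card.card_mul_relIndex hBA
  rw [hB] at h2
  have h4 : B ⊓ centralizer (Q : Set G) = ⊥ := by
    rw [eq_bot_iff, ← hAf]; exact inf_le_inf_right _ hBA
  apply le_antisymm (lemT hV hQV hQp hQf _ B le_rfl (ea_of_le hA hBA) (hBA.trans hAV) (hBA.trans hAQ) h4)
  calc Nat.card V = Nat.card B * (p * Nat.card (CV V A)) := by rw [← he, ← h2]; ring
    _ ≤ Nat.card B * Nat.card (CV V B) := Nat.mul_le_mul_left _ h1

end Thompson

end Cfsg.Agent.H2.FF
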