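import Mathlib
import Cfsg.Agent.H2_FF1
import Cfsg.Agent.H1_Nilp

/-! Failure of factorization II: the set-up with a self-centralizing `p'`-core, minimal offenders. -/

set_option autoImplicit false
set_option linter.style.haveILetI false

open Subgroup Cfsg
open scoped commutatorElement

namespace Cfsg.Agent.H2.FF

open Cfsg.Agent.H2.Basic Cfsg.Agent.H2.Quad Cfsg.Agent.H2.Replace

variable {G : Type*} [Group G] {p : ℕ}

/-- `V` elementary abelian, `H` faithful on `V` with self-centralizing `p'`-core. -/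
structure Setup (p : ℕ) (V H : Subgroup G) : Prop where
  hV : IsElementaryAbelian p V
  hHV : H ≤ normalizer (V : Set G)
  hf : H ⊓ centralizer (V : Set G) = ⊥
  hS1 : centralizer (pPrimeCore p ↥H : Set ↥H) ≤ pPrimeCore p ↥H

/-- the `p'`-core of `H` inside `G` -/
abbrev QQ (p : ℕ) (H : Subgroup G) : Subgroup G := (pPrimeCore p ↥H).map H.subtype

section

variable [Finite G] [hp : Fact p.Prime] {V H : Subgroup G}

theorem QQ_le : QQ p H ≤ H := map_subtype_le _

theorem QQ_coprime : (Nat.card (QQ p H)).Coprime p := by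
  rw [QQ, Subgroup.card_map_of_injective H.subtype_injective]
  exact Cfsg.Agent.H1.Nilp.pPrimeCore_coprime p

theorem le_normalizer_QQ : H ≤ normalizer (QQ p H : Set G) := by
  haveI := Cfsg.Agent.H1.Nilp.pPrimeCore_normal (G := H) p
  have := (inferInstance : (pPrimeCore p ↥H).Normal)
  have h1 : ((QQ p H).subgroupOf H).Normal := by
    rw [QQ, subgroupOf, comap_map_eq_self_of_injective H.subtype_injective]; exact this
  exact (normal_subgroupOf_iff_le_normalizer QQ_le).1 h1

namespace Setup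

theorem centralizer_le (S : Setup p V H) : H ⊓ centralizer (QQ p H : Set G) ≤ QQ p H := by
  rintro x ⟨hx, hc⟩
  have h1 : (⟨x, hx⟩ : H) ∈ centralizer (pPrimeCore p ↥H : Set ↥H) := by
    rw [mem_centralizer_iff]
    intro y hy
    apply Subtype.ext
    exact mem_centralizer_iff.1 hc y ⟨y, hy, rfl⟩
  exact ⟨⟨x, hx⟩, S.hS1 h1, rfl⟩

theorem QQ_faithful (S : Setup p V H) : QQ p H ⊓ centralizer (V : Set G) = ⊥ := by
  rw [eq_bot_iff, ← S.hf]; exact inf_le_inf_right _ QQ_le

theorem QQ_norm (S : Setup p V H) : QQ p H ≤ normalizer (V : Set G) := QQ_le.trans S.hHV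

theorem ea_inf (S : Setup p V H) {A : Subgroup G} (hAH : A ≤ H) (hA : IsElementaryAbelian p A) :
    A ⊓ centralizer (QQ p H : Set G) = ⊥ := by
  have h1 : A ⊓ centralizer (QQ p H : Set G) ≤ A ⊓ QQ p H :=
    le_inf inf_le_left ((inf_le_inf_right _ hAH).trans S.centralizer_le)
  have h2 : A ⊓ QQ p H = ⊥ := by
    rw [← disjoint_iff]
    exact Subgroup.disjoint_of_coprime_natCard (card_coprime QQ_coprime hA)
  rw [h2] at h1
  exact le_bot_iff.1 h1

theorem off_ea (S : Setup p V H) {A : Subgroup G} (hAH : A ≤ H) (hA : IsBestOffenderOn p V A) : IsElementaryAbelian p A := by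
  constructor
  · apply isMulCommutative_of_forall
    intro x hx y hy
    have h1 : ⁅x, y⁆ ∈ H ⊓ centralizer (V : Set G) :=
      ⟨by
        rw [commutatorElement_def]
        exact H.mul_mem (H.mul_mem (H.mul_mem (hAH hx) (hAH hy)) (H.inv_mem (hAH hx))) (H.inv_mem (hAH hy)),
        hA.2.1 (commutator_mem_commutator hx hy)⟩
    rw [S.hf, mem_bot, commutatorElement_eq_one_iff_mul_comm] at h1
    exact h1
  · intro a ha
    have h1 : a ^ p ∈ H ⊓ centralizer (V : Set G) := ⟨H.pow_mem (hAH ha) _, hA.2.2 a ha⟩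
    rwa [S.hf, mem_bot] at h1

theorem lemT' (S : Setup p V H) {A : Subgroup G} (hAH : A ≤ H) (hA : IsElementaryAbelian p A) :
    Nat.card A * Nat.card (CV V A) ≤ Nat.card V :=
  lemT S.hV S.QQ_norm QQ_coprime S.QQ_faithful _ A le_rfl hA (hAH.trans S.hHV) (hAH.trans le_normalizer_QQ) (S.ea_inf hAH hA)

theorem off_iff (S : Setup p V H) {A : Subgroup G} (hAH : A ≤ H) :
    IsBestOffenderOn p V A ↔ IsElementaryAbelian p A ∧ Nat.card A * Nat.card (CV V A) = Nat.card V := by
  constructor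
  · intro hA
    have h1 := S.off_ea hAH hA
    refine ⟨h1, le_antisymm (S.lemT' hAH h1) ?_⟩
    have h2 := hA.1 ⊥ bot_le
    rw [Subgroup.card_bot, one_mul] at h2
    have h3 := CV_bot V
    change Nat.card (CV V ⊥) ≤ _ at h2
    rw [h3] at h2
    exact h2
  · rintro ⟨h1, h2⟩
    refine ⟨?_, ?_, ?_⟩
    · intro B hB
      change _ * Nat.card (CV V B) ≤ _ * Nat.card (CV V A)
      rw [h2]
      exact S.lemT' (hB.trans hAH) (ea_of_le h1 hB)
    · rw [commutator_le]
      intro x hx y hy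
      rw [commutatorElement_eq_one_iff_mul_comm.2 (comm_of_ea h1 hx hy)]
      exact one_mem _
    · intro a ha
      rw [h1.2 a ha]; exact one_mem _

theorem comm_ne_bot (S : Setup p V H) {B : Subgroup G} (hBH : B ≤ H) : ⁅V, B⁆ ≠ ⊥ ↔ B ≠ ⊥ := by
  rw [not_iff_not]
  constructor
  · intro h
    rw [commutator_comm, commutator_eq_bot_iff_le_centralizer] at h
    rw [eq_bot_iff, ← S.hf]
    exact le_inf hBH h
  · rintro rfl
    exact commutator_bot_right V

/-- hyperplane offenders of an offender -/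
theorem exists_hyper (S : Setup p V H) {A : Subgroup G} (hAH : A ≤ H) (hA : IsBestOffenderOn p V A) (_hA1 : A ≠ ⊥)
    {L : Subgroup G} (hL : centralizer (A : Set G) ≤ L) (hQL : ¬ QQ p H ≤ L) :
    ∃ B ≤ A, B.relIndex A = p ∧ IsBestOffenderOn p V B ∧ ¬ QQ p H ⊓ centralizer (B : Set G) ≤ L := by
  have hE := (S.off_iff hAH).1 hA
  obtain ⟨B, hBA, hB, hBL, hBA'⟩ := exists_hyperplane QQ_coprime hE.1 (hAH.trans le_normalizer_QQ) hL hQL
  refine ⟨B, hBA, hB, ?_, hBL⟩
  rw [S.off_iff (hBA.trans hAH)]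
  exact ⟨ea_of_le hE.1 hBA, eq_of_hyperplane S.hV S.QQ_norm QQ_coprime S.QQ_faithful hE.1 (hAH.trans S.hHV)
    (hAH.trans le_normalizer_QQ) (S.ea_inf hAH hE.1) hBA hB hBA' hE.2⟩

theorem not_le_cent (S : Setup p V H) {A : Subgroup G} (hAH : A ≤ H) (hA : IsElementaryAbelian p A) (hA1 : A ≠ ⊥) :
    ¬ QQ p H ≤ centralizer (A : Set G) := by
  intro h
  apply hA1
  rw [← S.ea_inf hAH hA]
  rw [le_centralizer_iff] at h
  exact (inf_eq_left.2 h).symm

/-- `A` is a minimal nontrivially acting best offender -/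
def IsMin (p : ℕ) (V A : Subgroup G) : Prop := IsBestOffenderOn p V A ∧ ⁅V, A⁆ ≠ ⊥ ∧
  ∀ B : Subgroup G, B ≤ A → IsBestOffenderOn p V B → ⁅V, B⁆ ≠ ⊥ → B = A

theorem min_iff (S : Setup p V H) {A : Subgroup G} (hAH : A ≤ H) :
    IsMin p V A ↔ Nat.card A = p ∧ p * Nat.card (CV V A) = Nat.card V := by
  constructor
  · rintro ⟨hA, hAV, hmin⟩
    have hA1 := (S.comm_ne_bot hAH).1 hAV
    have hE := (S.off_iff hAH).1 hA
    obtain ⟨B, hBA, hB, hBo, -⟩ := S.exists_hyper hAH hA hA1 le_rfl (S.not_le_cent hAH hE.1 hA1)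
    have h1 := Cfsg.Agent.H2.Card.card_mul_relIndex hBA
    have hB1 : B = ⊥ := by
      by_contra hB1
      have h2 := hmin B hBA hBo ((S.comm_ne_bot (hBA.trans hAH)).2 hB1)
      rw [h2, relIndex_self] at hB
      exact hp.out.one_lt.ne hB
    rw [hB1, Subgroup.card_bot, one_mul] at h1
    rw [hB1] at hB
    rw [hB] at h1
    refine ⟨h1.symm, ?_⟩
    rw [← hE.2, ← h1]
  · rintro ⟨h1, h2⟩
    have hcyc : IsCyclic A := isCyclic_of_prime_card h1
    have hea : IsElementaryAbelian p A := by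
      refine ⟨⟨⟨fun x y => ?_⟩⟩, ?_⟩
      · haveI := hcyc
        exact (IsCyclic.isMulCommutative (α := A)).is_comm.comm x y
      · intro a ha
        have := pow_card_eq_one' (x := (⟨a, ha⟩ : A))
        rw [h1] at this
        exact congrArg Subtype.val this
    have hA1 : A ≠ ⊥ := by
      rintro rfl
      rw [Subgroup.card_bot] at h1
      exact hp.out.one_lt.ne h1
    refine ⟨(S.off_iff hAH).2 ⟨hea, by rw [h1]; exact h2⟩, (S.comm_ne_bot hAH).2 hA1, ?_⟩
    intro B hBA _ hBV
    have hB1 := (S.comm_ne_bot (hBA.trans hAH)).1 hBV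
    have h3 := card_dvd_of_le hBA
    rw [h1] at h3
    rcases (Nat.dvd_prime hp.out).1 h3 with h4 | h4
    · exact absurd (Subgroup.card_eq_one.1 h4) hB1
    · exact Cfsg.Agent.H2.Card.eq_of_le_of_card_eq hBA (by rw [h4, h1])

theorem min_comm (S : Setup p V H) {A : Subgroup G} (hAH : A ≤ H) (hA : Nat.card A = p) (hAV : p * Nat.card (CV V A) = Nat.card V) :
    Nat.card (⁅V, A⁆ : Subgroup G) = p := by
  obtain ⟨a, ha⟩ := (isCyclic_of_prime_card hA).exists_generator
  have hAz : A = zpowers (a : G) := by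
    apply le_antisymm
    · intro x hx
      obtain ⟨k, hk⟩ := ha ⟨x, hx⟩
      exact ⟨k, congrArg Subtype.val hk⟩
    · rw [zpowers_le]; exact a.2
  have h1 := card_comm_mul S.hV (a := (a : G)) (S.hHV (hAH a.2))
  rw [← hAz] at h1
  have h2 : 0 < Nat.card (CV V A) := Nat.card_pos
  rw [← hAV] at h1
  exact Nat.eq_of_mul_eq_mul_right h2 h1

/-- every offender is generated by minimal ones -/
theorem gen_min (S : Setup p V H) : ∀ (n : ℕ) (A : Subgroup G), Nat.card A ≤ n → A ≤ H → IsBestOffenderOn p V A →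
    A ≤ ⨆ B : {B : Subgroup G // B ≤ A ∧ IsMin p V B}, (B : Subgroup G) := by
  intro n
  induction n with
  | zero =>
    intro A hn
    exact absurd (Nat.card_pos (α := A)) (by omega)
  | succ n ih =>
    intro A hn hAH hA
    rcases eq_or_ne A ⊥ with rfl | hA1
    · exact bot_le
    have hE := (S.off_iff hAH).1 hA
    obtain ⟨B, hBA, hB, hBo, -⟩ := S.exists_hyper hAH hA hA1 le_rfl (S.not_le_cent hAH hE.1 hA1)
    have hsub : ∀ B ≤ A, (⨆ C : {C : Subgroup G // C ≤ B ∧ IsMin p V C}, (C : Subgroup G)) ≤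
        ⨆ C : {C : Subgroup G // C ≤ A ∧ IsMin p V C}, (C : Subgroup G) := by
      intro B hBA
      apply iSup_le
      rintro ⟨C, hC, hCm⟩
      exact le_iSup_of_le (⟨C, hC.trans hBA, hCm⟩ : {C : Subgroup G // C ≤ A ∧ IsMin p V C}) le_rfl
    have hlt : ∀ B ≤ A, B.relIndex A = p → Nat.card B ≤ n := by
      intro B hBA hB
      have h2 := Cfsg.Agent.H2.Card.card_mul_relIndex hBA
      rw [hB] at h2
      have h4 : 0 < Nat.card B := Nat.card_pos
      have h5 := hp.out.two_le
      have h6 : Nat.card B * 2 ≤ Nat.card B * p := Nat.mul_le_mul_left _ h5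
      omega
    rcases eq_or_ne B ⊥ with rfl | hB1
    · -- `|A| = p`
      have h1 := Cfsg.Agent.H2.Card.card_mul_relIndex hBA
      rw [hB, Subgroup.card_bot, one_mul] at h1
      have h2 : IsMin p V A := by
        rw [S.min_iff hAH]
        refine ⟨h1.symm, ?_⟩
        rw [← hE.2, ← h1]
      exact le_iSup_of_le (⟨A, le_rfl, h2⟩ : {C : Subgroup G // C ≤ A ∧ IsMin p V C}) le_rfl
    · obtain ⟨B', hB'A, hB', hBo', hBL⟩ := S.exists_hyper hAH hA hA1
        (Subgroup.centralizer_le (SetLike.coe_subset_coe.2 hBA)) (S.not_le_cent (hBA.trans hAH) (ea_of_le hE.1 hBA) hB1)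
      have hne : ¬ B' ≤ B := by
        intro h
        have h1 := Cfsg.Agent.H2.Card.card_mul_relIndex hBA
        have h2 := Cfsg.Agent.H2.Card.card_mul_relIndex hB'A
        rw [hB] at h1
        rw [hB', ← h1] at h2
        have h3 := Nat.eq_of_mul_eq_mul_right hp.out.pos h2
        have h4 := Cfsg.Agent.H2.Card.eq_of_le_of_card_eq h h3
        rw [h4] at hBL
        exact hBL inf_le_right
      have hsup : B ⊔ B' = A := by
        have h1 : B < B ⊔ B' := lt_of_le_of_ne le_sup_left (fun h => hne (by rw [h]; exact le_sup_right))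
        have h2 : B ⊔ B' ≤ A := sup_le hBA hB'A
        have h3 := relIndex_mul_relIndex B (B ⊔ B') A le_sup_left h2
        rw [hB] at h3
        rcases (Nat.prime_mul_iff.1 (h3 ▸ hp.out)) with ⟨-, h4⟩ | ⟨-, h4⟩
        · exact le_antisymm h2 (relIndex_eq_one.1 h4)
        · exact absurd (relIndex_eq_one.1 h4) (not_le_of_gt h1)
      rw [← hsup]
      have h1 := (ih B (hlt B hBA hB) (hBA.trans hAH) hBo).trans (hsub B hBA)
      have h2 := (ih B' (hlt B' hB'A hB') (hB'A.trans hAH) hBo').trans (hsub B' hB'A)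
      rw [hsup]
      calc A = B ⊔ B' := hsup.symm
        _ ≤ _ := sup_le h1 h2

/-- decomposition -/
theorem decomp (S : Setup p V H) {A : Subgroup G} (hAH : A ≤ H) (hA : IsBestOffenderOn p V A) :
    ∃ (k : ℕ) (B : Fin k → Subgroup G), (∀ i, B i ≤ A ∧ IsMin p V (B i)) ∧ iSupIndep B ∧ ⨆ i, B i = A := by
  classical
  -- a minimal set of minimal offenders generating `A`
  let P : Set (Subgroup G) → Prop := fun s => (∀ B ∈ s, B ≤ A ∧ IsMin p V B) ∧ A ≤ sSup s
  have hex : ∃ s, P s := by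
    refine ⟨{B | B ≤ A ∧ IsMin p V B}, fun B hB => hB, ?_⟩
    refine (S.gen_min _ A le_rfl hAH hA).trans ?_
    apply iSup_le
    rintro ⟨B, hB⟩
    exact le_sSup hB
  obtain ⟨s, hs⟩ := Set.Finite.exists_minimal (s := {s | P s}) (Set.toFinite _) hex
  have hind : sSupIndep s := by
    intro B hB
    rw [disjoint_iff]
    by_contra hne
    obtain ⟨hBA, hBm⟩ := hs.prop.1 B hB
    have hc := ((S.min_iff (hBA.trans hAH)).1 hBm).1
    have h1 : Nat.card (B ⊓ sSup (s \ {B}) : Subgroup G) ∣ p := by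
      rw [← hc]; exact card_dvd_of_le inf_le_left
    rcases (Nat.dvd_prime hp.out).1 h1 with h2 | h2
    · exact hne (Subgroup.card_eq_one.1 h2)
    · have h3 := Cfsg.Agent.H2.Card.eq_of_le_of_card_eq (inf_le_left : B ⊓ sSup (s \ {B}) ≤ B) (by rw [h2, hc])
      have h4 : B ≤ sSup (s \ {B}) := inf_eq_left.1 h3
      have h5 : P (s \ {B}) := by
        refine ⟨fun C hC => hs.prop.1 C hC.1, ?_⟩
        refine hs.prop.2.trans ?_
        apply sSup_le
        intro C hC
        rcases eq_or_ne C B with rfl | hCB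
        · exact h4
        · exact le_sSup ⟨hC, hCB⟩
      have h6 := hs.le_of_le h5 Set.sdiff_subset
      exact (h6 hB).2 rfl
  have hfin : Finite s := Set.toFinite s
  let e := (Finite.equivFin s).symm
  refine ⟨Nat.card s, fun i => (e i : Subgroup G), fun i => hs.prop.1 _ (e i).2, ?_, ?_⟩
  · exact ((sSupIndep_iff s).1 hind).comp e.injective
  · apply le_antisymm
    · apply iSup_le
      intro i
      exact (hs.prop.1 _ (e i).2).1
    · refine hs.prop.2.trans ?_
      apply sSup_le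
      intro C hC
      refine le_iSup_of_le (e.symm ⟨C, hC⟩) ?_
      change C ≤ (e (e.symm ⟨C, hC⟩) : Subgroup G)
      rw [e.apply_symm_apply]

end Setup

end

end Cfsg.Agent.H2.FF
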