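import Mathlib
import Cfsg.Agent.H2_FF1
import Cfsg.Agent.H5_SL2

/-! Two transvection groups on a plane generate `SL(2,p)`. -/

set_option autoImplicit false
set_option linter.style.haveILetI false

open Subgroup Cfsg
open scoped commutatorElement

namespace Cfsg.Agent.H2.Plane

open Cfsg.Agent.H2.Basic Cfsg.Agent.H2.Quad Cfsg.Agent.H2.Replace Cfsg.Agent.H5.SL2

variable {G : Type*} [Group G] {p : ℕ}

section Abstract

variable [hp : Fact p.Prime]

theorem abs_matrix_hom {M : Type*} [AddCommGroup M] [Module (ZMod p) M] [Finite M] (hcard : Nat.card M = p ^ 2)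
    {X : Type*} [Group X] (θ : X →* AddMonoid.End M) (v : Fin 2 → M) (hv0 : v 0 ≠ 0) (hv1 : ∀ n : ℕ, v 1 ≠ n • v 0) :
    ∃ χ : X →* Matrix (Fin 2) (Fin 2) (ZMod p), (∀ g, χ g = 1 ↔ ∀ w, θ g w = w) ∧
      ∀ (g : X) (x y z w : ℕ), θ g (v 0) = x • v 0 + z • v 1 → θ g (v 1) = y • v 0 + w • v 1 →
        χ g = !![(x : ZMod p), (y : ZMod p); (z : ZMod p), (w : ZMod p)] := by
  classical
  have hns : ∀ (n : ℕ) (w : M), ((n : ZMod p) • w) = n • w := fun n w => Nat.cast_smul_eq_nsmul (ZMod p) n w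
  haveI hfin : Module.Finite (ZMod p) M := Module.Finite.of_finite
  have hrank : Module.finrank (ZMod p) M = 2 := by
    have h3 := Module.natCard_eq_pow_finrank (K := ZMod p) (V := M)
    rw [hcard, Nat.card_zmod] at h3
    exact (Nat.pow_right_injective hp.out.two_le h3).symm
  have hli : LinearIndependent (ZMod p) v := by
    have hvv : v = ![v 0, v 1] := by ext i; fin_cases i <;> rfl
    rw [hvv, LinearIndependent.pair_iff]
    intro s t hst
    have ht : t = 0 := by
      by_contra ht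
      have h1 : v 1 = (-(t⁻¹ * s)) • v 0 := by
        have h2 : t • v 1 = (-s) • v 0 := by
          rw [neg_smul]; exact eq_neg_of_add_eq_zero_right hst
        calc v 1 = t⁻¹ • (t • v 1) := by rw [smul_smul, inv_mul_cancel₀ ht, one_smul]
          _ = (-(t⁻¹ * s)) • v 0 := by rw [h2, smul_smul]; congr 1; ring
      apply hv1 (-(t⁻¹ * s)).val
      rw [← hns, ZMod.natCast_zmod_val]; exact h1
    refine ⟨?_, ht⟩
    rw [ht, zero_smul, add_zero, smul_eq_zero] at hst
    exact hst.resolve_right hv0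
  let b : Module.Basis (Fin 2) (ZMod p) M := basisOfLinearIndependentOfCardEqFinrank hli (by rw [hrank]; simp)
  have hb : ∀ i, b i = v i := fun i => by
    change basisOfLinearIndependentOfCardEqFinrank hli _ i = _
    rw [coe_basisOfLinearIndependentOfCardEqFinrank]
  let ρ : X →* Module.End (ZMod p) M :=
    { toFun := fun g => AddMonoidHom.toZModLinearMap p (θ g)
      map_one' := by
        apply LinearMap.ext
        intro w
        change (θ 1) w = w
        rw [map_one]; rfl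
      map_mul' := fun g h => by
        apply LinearMap.ext
        intro w
        change (θ (g * h)) w = (θ g) ((θ h) w)
        rw [map_mul]; rfl }
  have hρ : ∀ g w, ρ g w = θ g w := fun g w => rfl
  refine ⟨((LinearMap.toMatrixAlgEquiv b).toAlgHom.toRingHom.toMonoidHom).comp ρ, ?_, ?_⟩
  · intro g
    have h3 : ((LinearMap.toMatrixAlgEquiv b).toAlgHom.toRingHom.toMonoidHom).comp ρ g = 1 ↔ ρ g = 1 := by
      change LinearMap.toMatrixAlgEquiv b (ρ g) = 1 ↔ ρ g = 1
      rw [map_eq_one_iff _ (LinearMap.toMatrixAlgEquiv b).injective]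
    rw [h3]
    constructor
    · intro h w
      rw [← hρ, h]; rfl
    · intro h
      apply LinearMap.ext
      intro w
      rw [hρ]; exact h w
  · intro g x y z w hx hy
    change LinearMap.toMatrixAlgEquiv b (ρ g) = _
    have hc0 : ρ g (b 0) = (x : ZMod p) • b 0 + (z : ZMod p) • b 1 := by
      rw [hns, hns, hb, hb, hρ, hx]
    have hc1 : ρ g (b 1) = (y : ZMod p) • b 0 + (w : ZMod p) • b 1 := by
      rw [hns, hns, hb, hb, hρ, hy]
    ext i j
    rw [LinearMap.toMatrixAlgEquiv_apply]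
    fin_cases j
    · change b.repr (ρ g (b 0)) i = _
      rw [hc0, map_add, map_smul, map_smul, b.repr_self, b.repr_self]
      fin_cases i <;> simp
    · change b.repr (ρ g (b 1)) i = _
      rw [hc1, map_add, map_smul, map_smul, b.repr_self, b.repr_self]
      fin_cases i <;> simp

end Abstract

/-- conjugation on a normalized subgroup -/
def conjHom (W X : Subgroup G) (hX : X ≤ normalizer (W : Set G)) : X →* Monoid.End W where
  toFun g :=
    { toFun := fun w => ⟨g * w * (g : G)⁻¹, (mem_normalizer_iff.1 (hX g.2) w).1 w.2⟩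
      map_one' := by apply Subtype.ext; simp
      map_mul' := fun x y => by apply Subtype.ext; simp [mul_assoc] }
  map_one' := by
    apply MonoidHom.ext
    intro w
    apply Subtype.ext
    change ((1 : X) : G) * w * ((1 : X) : G)⁻¹ = w
    simp
  map_mul' g h := by
    apply MonoidHom.ext
    intro w
    apply Subtype.ext
    change ((g * h : X) : G) * w * ((g * h : X) : G)⁻¹ = g * (h * w * (h : G)⁻¹) * (g : G)⁻¹
    rw [Subgroup.coe_mul]; group

theorem exists_matrix_hom [Finite G] [hp : Fact p.Prime] {W X : Subgroup G} (hX : X ≤ normalizer (W : Set G))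
    (hW : IsElementaryAbelian p W)
    (hcard : Nat.card W = p ^ 2) {e₁ e₂ : G} (h1 : e₁ ∈ W) (h2 : e₂ ∈ W) (h11 : e₁ ≠ 1) (h12 : e₂ ∉ zpowers e₁) :
    ∃ χ : X →* Matrix (Fin 2) (Fin 2) (ZMod p),
      (∀ g, χ g = 1 ↔ (g : G) ∈ centralizer (W : Set G)) ∧
      ∀ (g : X) (x y z w : ℕ), (g : G) * e₁ * (g : G)⁻¹ = e₁ ^ x * e₂ ^ z → (g : G) * e₂ * (g : G)⁻¹ = e₁ ^ y * e₂ ^ w →
        χ g = !![(x : ZMod p), (y : ZMod p); (z : ZMod p), (w : ZMod p)] := by
  letI : CommGroup W := { (inferInstance : Group W) with mul_comm := hW.1.is_comm.comm }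
  letI : Module (ZMod p) (Additive W) := AddCommGroup.zmodModule (n := p) (G := Additive W)
    (fun w => Subtype.ext (hW.2 _ (Additive.toMul w).2))
  let θ : X →* AddMonoid.End (Additive W) :=
    { toFun := fun g => MonoidHom.toAdditive (conjHom W X hX g)
      map_one' := by rw [map_one]; rfl
      map_mul' := fun g h => by rw [map_mul]; rfl }
  obtain ⟨χ, hχ1, hχ2⟩ := abs_matrix_hom (p := p) (M := Additive W) hcard θ
    ![Additive.ofMul (⟨e₁, h1⟩ : W), Additive.ofMul (⟨e₂, h2⟩ : W)]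
    (fun h => h11 (congrArg (fun z : Additive W => ((Additive.toMul z : W) : G)) h))
    (fun n h => h12 (by
      have h3 : e₂ = e₁ ^ n := congrArg (fun z : Additive W => ((Additive.toMul z : W) : G)) h
      rw [h3]; exact pow_mem (mem_zpowers _) _))
  refine ⟨χ, ?_, ?_⟩
  · intro g
    rw [hχ1, mem_centralizer_iff]
    constructor
    · intro h w hw
      have h5 : (g : G) * w * (g : G)⁻¹ = w :=
        congrArg (fun z : Additive W => ((Additive.toMul z : W) : G)) (h (Additive.ofMul (⟨w, hw⟩ : W)))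
      rw [mul_inv_eq_iff_eq_mul] at h5
      exact h5.symm
    · intro h w
      apply Additive.toMul.injective
      apply Subtype.ext
      change (g : G) * ((Additive.toMul w : W) : G) * (g : G)⁻¹ = ((Additive.toMul w : W) : G)
      rw [mul_inv_eq_iff_eq_mul]
      exact (h _ (Additive.toMul w).2).symm
  · intro g x y z w hx hy
    apply hχ2
    · apply Additive.toMul.injective
      apply Subtype.ext
      exact hx
    · apply Additive.toMul.injective
      apply Subtype.ext
      exact hy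

theorem surj_of_card {A F : Type*} [Finite A] [Finite F] (h : Nat.card A = Nat.card F) {f : A → F}
    (hf : Function.Injective f) : Function.Surjective f :=
  (hf.bijective_of_nat_card_le h.ge).2

theorem sl2_of_transvections [Finite G] [hp : Fact p.Prime] {W E A B : Subgroup G} (hE : E ≤ normalizer (W : Set G))
    (hW : IsElementaryAbelian p W) (hcard : Nat.card W = p ^ 2) (hf : E ⊓ centralizer (W : Set G) = ⊥)
    (hAE : A ≤ E) (hBE : B ≤ E) (hAB : E ≤ A ⊔ B) (hA : Nat.card A = p) (hB : Nat.card B = p) {e₁ e₂ : G}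
    (h1 : e₁ ∈ W) (h2 : e₂ ∈ W) (h11 : e₁ ≠ 1) (h12 : e₂ ∉ zpowers e₁)
    (hA1 : ∀ a ∈ A, a * e₁ * a⁻¹ = e₁) (hA2 : ∀ a ∈ A, a * e₂ * a⁻¹ * e₂⁻¹ ∈ zpowers e₁)
    (hB1 : ∀ b ∈ B, b * e₂ * b⁻¹ = e₂) (hB2 : ∀ b ∈ B, b * e₁ * b⁻¹ * e₁⁻¹ ∈ zpowers e₂) :
    ∃ φ : E ≃* Matrix.SpecialLinearGroup (Fin 2) (ZMod p), (∀ a : E, (a : G) ∈ A → ∃ x, φ a = u x) ∧
      (∀ b : E, (b : G) ∈ B → ∃ x, φ b = l x) := by
  obtain ⟨χ, hχ1, hχ2⟩ := exists_matrix_hom hE hW hcard h1 h2 h11 h12
  have hχA : ∀ a : E, (a : G) ∈ A → ∃ x : ZMod p, χ a = !![1, x; 0, 1] := by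
    intro a ha
    obtain ⟨y, hy⟩ := mem_powers_iff_mem_zpowers.2 (hA2 a ha)
    have hy' : e₁ ^ y = (a : G) * e₂ * (a : G)⁻¹ * e₂⁻¹ := hy
    refine ⟨y, ?_⟩
    have := hχ2 a 1 y 0 1 (by rw [hA1 a ha]; simp) (by rw [hy']; group)
    simpa using this
  have hχB : ∀ b : E, (b : G) ∈ B → ∃ x : ZMod p, χ b = !![1, 0; x, 1] := by
    intro b hb
    obtain ⟨y, hy⟩ := mem_powers_iff_mem_zpowers.2 (hB2 b hb)
    have hy' : e₂ ^ y = (b : G) * e₁ * (b : G)⁻¹ * e₁⁻¹ := hy
    refine ⟨y, ?_⟩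
    have hcomm : e₁ * e₂ ^ y = e₂ ^ y * e₁ := comm_of_ea hW h1 (pow_mem h2 y)
    have := hχ2 b 1 0 y 1 (by rw [pow_one, hcomm, hy']; group) (by rw [hB1 b hb]; simp)
    simpa using this
  have hdet : ∀ g : E, (χ g).det = 1 := by
    let δ : E →* ZMod p := (Matrix.detMonoidHom).comp χ
    have hle : E ≤ (δ.ker).map E.subtype := by
      refine hAB.trans (sup_le ?_ ?_)
      · intro a ha
        refine ⟨⟨a, hAE ha⟩, ?_, rfl⟩
        obtain ⟨x, hx⟩ := hχA ⟨a, hAE ha⟩ ha
        change (χ ⟨a, hAE ha⟩).det = 1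
        rw [hx]; simp [Matrix.det_fin_two]
      · intro b hb
        refine ⟨⟨b, hBE hb⟩, ?_, rfl⟩
        obtain ⟨x, hx⟩ := hχB ⟨b, hBE hb⟩ hb
        change (χ ⟨b, hBE hb⟩).det = 1
        rw [hx]; simp [Matrix.det_fin_two]
    intro g
    obtain ⟨g', hg', he⟩ := hle g.2
    have : g' = g := Subtype.ext he
    rw [← this]; exact hg'
  let φ₀ : E →* Matrix.SpecialLinearGroup (Fin 2) (ZMod p) :=
    { toFun := fun g => ⟨χ g, hdet g⟩
      map_one' := by apply Subtype.ext; change χ 1 = 1; exact map_one χ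
      map_mul' := fun g h => by apply Subtype.ext; change χ (g * h) = χ g * χ h; exact map_mul χ g h }
  have hinj : Function.Injective φ₀ := by
    rw [injective_iff_map_eq_one]
    intro g hg
    have h3 : χ g = 1 := congrArg Subtype.val hg
    rw [hχ1] at h3
    have h4 : (g : G) ∈ E ⊓ centralizer (W : Set G) := ⟨g.2, h3⟩
    rw [hf, mem_bot] at h4
    exact Subtype.ext h4
  have hφA : ∀ a : E, (a : G) ∈ A → ∃ x, φ₀ a = u x := by
    intro a ha
    obtain ⟨x, hx⟩ := hχA a ha
    exact ⟨x, Subtype.ext hx⟩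
  have hφB : ∀ b : E, (b : G) ∈ B → ∃ x, φ₀ b = l x := by
    intro b hb
    obtain ⟨x, hx⟩ := hχB b hb
    exact ⟨x, Subtype.ext hx⟩
  have hsurj : Function.Surjective φ₀ := by
    rw [← MonoidHom.range_eq_top]
    apply eq_top_of_ul
    · choose f hf' using fun a : A => hφA ⟨a, hAE a.2⟩ a.2
      have hfi : Function.Injective f := by
        intro a b hab
        have h3 : φ₀ ⟨a, hAE a.2⟩ = φ₀ ⟨b, hAE b.2⟩ := by rw [hf', hf', hab]
        have h4 := hinj h3
        exact Subtype.ext (congrArg (fun z : E => (z : G)) h4)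
      have hfs := surj_of_card (by rw [hA, Nat.card_zmod]) hfi
      intro x
      obtain ⟨a, rfl⟩ := hfs x
      exact ⟨_, hf' a⟩
    · choose f hf' using fun b : B => hφB ⟨b, hBE b.2⟩ b.2
      have hfi : Function.Injective f := by
        intro a b hab
        have h3 : φ₀ ⟨a, hBE a.2⟩ = φ₀ ⟨b, hBE b.2⟩ := by rw [hf', hf', hab]
        have h4 := hinj h3
        exact Subtype.ext (congrArg (fun z : E => (z : G)) h4)
      have hfs := surj_of_card (by rw [hB, Nat.card_zmod]) hfi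
      intro x
      obtain ⟨a, rfl⟩ := hfs x
      exact ⟨_, hf' a⟩
  exact ⟨MulEquiv.ofBijective φ₀ ⟨hinj, hsurj⟩, hφA, hφB⟩

end Cfsg.Agent.H2.Plane
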