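import Mathlib
import Cfsg.Agent.H2_FF2
import Cfsg.Agent.H2_Plane
import Cfsg.Agent.H2_Good2

/-! Failure of factorization III: two minimal offenders generating a non-`p`-group. -/

set_option autoImplicit false
set_option linter.style.haveILetI false
set_option linter.unusedSectionVars false

open Subgroup Cfsg
open scoped commutatorElement

namespace Cfsg.Agent.H2.FF

open Cfsg.Agent.H2.Basic Cfsg.Agent.H2.Quad Cfsg.Agent.H2.Replace

variable {G : Type*} [Group G] {p : ℕ}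

section

variable [Finite G] [hp : Fact p.Prime] {V : Subgroup G}

theorem exists_zpowers_of_card {A : Subgroup G} (hA : Nat.card A = p) : ∃ a ∈ A, A = zpowers a := by
  obtain ⟨a, ha⟩ := (isCyclic_of_prime_card hA).exists_generator
  refine ⟨a, a.2, ?_⟩
  apply le_antisymm
  · intro x hx
    obtain ⟨k, hk⟩ := ha ⟨x, hx⟩
    exact ⟨k, congrArg Subtype.val hk⟩
  · rw [zpowers_le]; exact a.2

theorem ea_of_card {A : Subgroup G} (hA : Nat.card A = p) : IsElementaryAbelian p A := by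
  refine ⟨⟨⟨fun x y => ?_⟩⟩, ?_⟩
  · haveI := isCyclic_of_prime_card hA
    exact (IsCyclic.isMulCommutative (α := A)).is_comm.comm x y
  · intro a ha
    have := pow_card_eq_one' (x := (⟨a, ha⟩ : A))
    rw [hA] at this
    exact congrArg Subtype.val this

theorem comm_card (hV : IsElementaryAbelian p V) {A : Subgroup G} (hAV : A ≤ normalizer (V : Set G)) (hA : Nat.card A = p)
    (hC : p * Nat.card (CV V A) = Nat.card V) : Nat.card (⁅V, A⁆ : Subgroup G) = p := by
  obtain ⟨a, ha, hAz⟩ := exists_zpowers_of_card hA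
  have h1 := card_comm_mul hV (a := a) (hAV ha)
  rw [← hAz] at h1
  have h2 : 0 < Nat.card (CV V A) := Nat.card_pos
  rw [← hC] at h1
  exact Nat.eq_of_mul_eq_mul_right h2 h1

/-- a group of order `p` inside `V` which is normalized by a `p`-group is centralized -/
theorem comm_bot_of_card (hV : IsElementaryAbelian p V) {A U : Subgroup G} (hAV : A ≤ normalizer (V : Set G))
    (hA : IsElementaryAbelian p A) (hU : U ≤ V) (hUc : Nat.card U = p) (hAU : A ≤ normalizer (U : Set G)) : ⁅U, A⁆ = ⊥ := by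
  have hU1 : U ≠ ⊥ := by
    rintro rfl
    rw [Subgroup.card_bot] at hUc
    exact hp.out.one_lt.ne hUc
  have h1 := not_le_commutator hV hAV (fun a ha => by rw [hA.2 a ha]; exact one_mem _) hU hU1
  have h2 : ⁅U, A⁆ ≤ U := commutator_le_left_of_normalizes hAU
  have h3 := card_dvd_of_le h2
  rw [hUc] at h3
  rcases (Nat.dvd_prime hp.out).1 h3 with h4 | h4
  · exact Subgroup.card_eq_one.1 h4
  · exact absurd (Cfsg.Agent.H2.Card.eq_of_le_of_card_eq h2 (by rw [h4, hUc])).ge h1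

theorem isPGroup_of_coprime_trivial {E : Subgroup G} (h : ∀ x ∈ E, (orderOf x).Coprime p → x = 1) : IsPGroup p E := by
  intro x
  obtain ⟨k, hk⟩ := Cfsg.Agent.H2.Good.exists_pow_coprime (p := p) (x : G)
  exact ⟨k, Subtype.ext (h _ (pow_mem x.2 _) hk)⟩

/-- a group acting with `[V, E, E, E] = 1` modulo the kernel is a `p`-group -/
theorem pgroup_of_chain (hV : IsPGroup p V) {E : Subgroup G} (hEV : E ≤ normalizer (V : Set G))
    (hf : E ⊓ centralizer (V : Set G) = ⊥) (h : ⁅⁅⁅V, E⁆, E⁆, E⁆ = ⊥) : IsPGroup p E := by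
  apply isPGroup_of_coprime_trivial
  intro x hx hxp
  have hz : zpowers x ≤ E := by rwa [zpowers_le]
  obtain ⟨n, hn⟩ := IsPGroup.iff_card.1 hV
  have hcop : (Nat.card (zpowers x)).Coprime (Nat.card V) := by
    rw [Nat.card_zpowers, hn]; exact hxp.pow_right n
  have h1 := Cfsg.Agent.H1.Coprime.commutator_commutator_eq (zpowers x) V (hz.trans hEV) hcop (Or.inl inferInstance)
  have h2 : ⁅⁅⁅V, zpowers x⁆, zpowers x⁆, zpowers x⁆ ≤ ⁅⁅⁅V, E⁆, E⁆, E⁆ :=
    commutator_mono (commutator_mono (commutator_mono le_rfl hz) hz) hz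
  rw [h, h1, h1, le_bot_iff, commutator_comm, commutator_eq_bot_iff_le_centralizer, zpowers_le] at h2
  have h3 : x ∈ E ⊓ centralizer (V : Set G) := ⟨hx, h2⟩
  rwa [hf, mem_bot] at h3

theorem commutator_sup_le {V A B N : Subgroup G} (hA : A ≤ normalizer (N : Set G)) (hB : B ≤ normalizer (N : Set G))
    (hAV : A ≤ normalizer (V : Set G)) (hBV : B ≤ normalizer (V : Set G))
    (h1 : ⁅V, A⁆ ≤ N) (h2 : ⁅V, B⁆ ≤ N) : ⁅V, A ⊔ B⁆ ≤ N := by
  let S : Subgroup G :=
    { carrier := {g | g ∈ normalizer (N : Set G) ∧ g ∈ normalizer (V : Set G) ∧ ∀ v ∈ V, ⁅v, g⁆ ∈ N}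
      one_mem' := ⟨one_mem _, one_mem _, fun v _ => by simp⟩
      mul_mem' := by
        rintro g h ⟨g1, g2, g3⟩ ⟨h1, h2, h3⟩
        refine ⟨mul_mem g1 h1, mul_mem g2 h2, fun v hv => ?_⟩
        have e : ⁅v, g * h⁆ = ⁅v, g⁆ * (g * ⁅v, h⁆ * g⁻¹) := by
          simp only [commutatorElement_def]; group
        rw [e]
        exact N.mul_mem (g3 v hv) ((mem_normalizer_iff.1 g1 _).1 (h3 v hv))
      inv_mem' := by
        rintro g ⟨g1, g2, g3⟩
        refine ⟨inv_mem g1, inv_mem g2, fun v hv => ?_⟩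
        have e : ⁅v, g⁻¹⁆ = g⁻¹ * ⁅v, g⁆⁻¹ * g⁻¹⁻¹ := by
          simp only [commutatorElement_def]; group
        rw [e]
        exact (mem_normalizer_iff.1 (inv_mem g1) _).1 (N.inv_mem (g3 v hv)) }
  have hAS : A ≤ S := fun a ha => ⟨hA ha, hAV ha, fun v hv => h1 (commutator_mem_commutator hv ha)⟩
  have hBS : B ≤ S := fun a ha => ⟨hB ha, hBV ha, fun v hv => h2 (commutator_mem_commutator hv ha)⟩
  rw [commutator_le]
  intro v hv g hg
  exact ((sup_le hAS hBS) hg).2.2 v hv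

/-- `A` normalizes any subgroup between `[V, A]` and `V` -/
theorem normalizes_of_comm_le (_hV : IsElementaryAbelian p V) {A N : Subgroup G} (hN : N ≤ V) (h : ⁅V, A⁆ ≤ N) :
    A ≤ normalizer (N : Set G) := by
  intro a ha
  apply mem_normalizer_fintype
  intro x hx
  have h1 : ⁅x, a⁆ ∈ N := h (commutator_mem_commutator (hN hx) ha)
  have h2 : a * x * a⁻¹ = (x⁻¹ * ⁅x, a⁆)⁻¹ := by rw [commutatorElement_def]; group
  rw [h2]
  exact N.inv_mem (N.mul_mem (N.inv_mem hx) h1)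

structure PlaneData (p : ℕ) [Fact p.Prime] (V A B : Subgroup G) : Prop where
  card : Nat.card (⁅V, A ⊔ B⁆ : Subgroup G) = p ^ 2
  eq : ⁅V, A ⊔ B⁆ = ⁅V, A⁆ ⊔ ⁅V, B⁆
  faithful : (A ⊔ B) ⊓ centralizer ((⁅V, A ⊔ B⁆ : Subgroup G) : Set G) = ⊥
  sl2 : ∃ φ : ↥(A ⊔ B) ≃* Matrix.SpecialLinearGroup (Fin 2) (ZMod p),
    ∀ a : ↥(A ⊔ B), (a : G) ∈ A → ∃ x, φ a = Cfsg.Agent.H5.SL2.u x
  inf_bot : ⁅V, A ⊔ B⁆ ⊓ CV V (A ⊔ B) = ⊥
  sup_top : ⁅V, A ⊔ B⁆ ⊔ CV V (A ⊔ B) = V
  centA : ⁅V, A ⊔ B⁆ ⊓ centralizer (A : Set G) = ⁅V, A⁆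
  centB : ⁅V, A ⊔ B⁆ ⊓ centralizer (B : Set G) = ⁅V, B⁆
  disj : ⁅V, A⁆ ⊓ ⁅V, B⁆ = ⊥

theorem plane (hV : IsElementaryAbelian p V) {A B : Subgroup G} (hAV : A ≤ normalizer (V : Set G))
    (hBV : B ≤ normalizer (V : Set G)) (hA : Nat.card A = p) (hB : Nat.card B = p)
    (hAC : p * Nat.card (CV V A) = Nat.card V) (hBC : p * Nat.card (CV V B) = Nat.card V)
    (hf : (A ⊔ B) ⊓ centralizer (V : Set G) = ⊥) (hnp : ¬ IsPGroup p (A ⊔ B : Subgroup G)) : PlaneData p V A B := by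
  set E : Subgroup G := A ⊔ B with hE
  have hEV : E ≤ normalizer (V : Set G) := sup_le hAV hBV
  have hAea := ea_of_card hA
  have hBea := ea_of_card hB
  have hAc := comm_card hV hAV hA hAC
  have hBc := comm_card hV hBV hB hBC
  have hAle : ⁅V, A⁆ ≤ V := commutator_le_left_of_normalizes hAV
  have hBle : ⁅V, B⁆ ≤ V := commutator_le_left_of_normalizes hBV
  have hAA : ⁅⁅V, A⁆, A⁆ = ⊥ := comm_bot_of_card hV hAV hAea hAle hAc (normalizes_of_comm_le hV hAle le_rfl)
  have hBB : ⁅⁅V, B⁆, B⁆ = ⊥ := comm_bot_of_card hV hBV hBea hBle hBc (normalizes_of_comm_le hV hBle le_rfl)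
  have hCA : ⁅V, A⁆ ≤ centralizer (A : Set G) := commutator_eq_bot_iff_le_centralizer.1 hAA
  have hCB : ⁅V, B⁆ ≤ centralizer (B : Set G) := commutator_eq_bot_iff_le_centralizer.1 hBB
  -- `[V, A] ≠ [V, B]`
  have hne : ⁅V, A⁆ ≠ ⁅V, B⁆ := by
    intro h
    apply hnp
    apply pgroup_of_chain (ea_isPGroup hV) hEV hf
    have h1 : ⁅V, E⁆ ≤ ⁅V, A⁆ := commutator_sup_le (normalizes_of_comm_le hV hAle le_rfl)
      (normalizes_of_comm_le hV hAle h.ge) hAV hBV le_rfl h.ge
    have h2 : ⁅⁅V, E⁆, E⁆ = ⊥ := by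
      rw [eq_bot_iff]
      refine (commutator_mono h1 le_rfl).trans ?_
      rw [le_bot_iff, commutator_eq_bot_iff_le_centralizer, hE, centralizer_sup]
      exact le_inf hCA (h.le.trans hCB)
    rw [h2, commutator_bot_left]
  have hdisj : ⁅V, A⁆ ⊓ ⁅V, B⁆ = ⊥ := by
    have h1 : Nat.card (⁅V, A⁆ ⊓ ⁅V, B⁆ : Subgroup G) ∣ p := by rw [← hAc]; exact card_dvd_of_le inf_le_left
    rcases (Nat.dvd_prime hp.out).1 h1 with h2 | h2
    · exact Subgroup.card_eq_one.1 h2
    · exfalso; apply hne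
      have h3 := Cfsg.Agent.H2.Card.eq_of_le_of_card_eq (inf_le_left : ⁅V, A⁆ ⊓ ⁅V, B⁆ ≤ ⁅V, A⁆) (by rw [h2, hAc])
      have h4 := Cfsg.Agent.H2.Card.eq_of_le_of_card_eq (inf_le_right : ⁅V, A⁆ ⊓ ⁅V, B⁆ ≤ ⁅V, B⁆) (by rw [h2, hBc])
      rw [← h3, h4]
  set W : Subgroup G := ⁅V, A⁆ ⊔ ⁅V, B⁆ with hW
  have hWV : W ≤ V := sup_le hAle hBle
  have hWcard : Nat.card W = p ^ 2 := by
    have h1 := Cfsg.Agent.H2.Card.card_sup_mul_card_inf (H := ⁅V, A⁆) (N := ⁅V, B⁆)
      (hAle.trans ((ea_le_centralizer hV).trans ((Subgroup.centralizer_le hBle).trans (centralizer_le_normalizer _))))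
    rw [hdisj, Subgroup.card_bot, mul_one, hAc, hBc] at h1
    rw [h1, pow_two]
  have hWE : ⁅V, E⁆ = W := by
    apply le_antisymm
    · exact commutator_sup_le (normalizes_of_comm_le hV hWV le_sup_left)
        (normalizes_of_comm_le hV hWV le_sup_right) hAV hBV le_sup_left le_sup_right
    · exact sup_le (commutator_mono le_rfl le_sup_left) (commutator_mono le_rfl le_sup_right)
  have hEW : E ≤ normalizer (W : Set G) := normalizes_of_comm_le hV hWV hWE.le
  -- neither `A` nor `B` centralizes `W`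
  have hnA : ¬ W ≤ centralizer (A : Set G) := by
    intro h
    apply hnp
    apply pgroup_of_chain (ea_isPGroup hV) hEV hf
    have h1 : ⁅W, E⁆ ≤ ⁅V, B⁆ := by
      apply commutator_sup_le _ (normalizes_of_comm_le hV hBle le_rfl)
        (le_sup_left.trans hEW) (le_sup_right.trans hEW)
      · rw [commutator_eq_bot_iff_le_centralizer.2 h]; exact bot_le
      · exact commutator_mono hWV le_rfl
      · have h2 : ⁅V, B⁆ ≤ centralizer (A : Set G) := le_sup_right.trans h
        rw [le_centralizer_iff] at h2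
        exact h2.trans (centralizer_le_normalizer _)
    rw [hWE, eq_bot_iff]
    refine (commutator_mono h1 le_rfl).trans ?_
    rw [le_bot_iff, commutator_eq_bot_iff_le_centralizer, hE, centralizer_sup]
    exact le_inf (le_sup_right.trans h) hCB
  have hnB : ¬ W ≤ centralizer (B : Set G) := by
    intro h
    apply hnp
    apply pgroup_of_chain (ea_isPGroup hV) hEV hf
    have h1 : ⁅W, E⁆ ≤ ⁅V, A⁆ := by
      apply commutator_sup_le (normalizes_of_comm_le hV hAle le_rfl) _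
        (le_sup_left.trans hEW) (le_sup_right.trans hEW)
      · exact commutator_mono hWV le_rfl
      · rw [commutator_eq_bot_iff_le_centralizer.2 h]; exact bot_le
      · have h2 : ⁅V, A⁆ ≤ centralizer (B : Set G) := le_sup_left.trans h
        rw [le_centralizer_iff] at h2
        exact h2.trans (centralizer_le_normalizer _)
    rw [hWE, eq_bot_iff]
    refine (commutator_mono h1 le_rfl).trans ?_
    rw [le_bot_iff, commutator_eq_bot_iff_le_centralizer, hE, centralizer_sup]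
    exact le_inf hCA (le_sup_left.trans h)
  have hcentX : ∀ (X U : Subgroup G), U ≤ W ⊓ centralizer (X : Set G) → Nat.card U = p → ¬ W ≤ centralizer (X : Set G) →
      W ⊓ centralizer (X : Set G) = U := by
    intro X U hU hUc hX
    have h1 : Nat.card (W ⊓ centralizer (X : Set G) : Subgroup G) ∣ p ^ 2 := by rw [← hWcard]; exact card_dvd_of_le inf_le_left
    obtain ⟨k, hk, hk'⟩ := (Nat.dvd_prime_pow hp.out).1 h1
    have h2 : k ≠ 2 := by
      rintro rfl
      apply hX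
      have h3 := Cfsg.Agent.H2.Card.eq_of_le_of_card_eq (inf_le_left : W ⊓ centralizer (X : Set G) ≤ W) (by rw [hk', hWcard])
      exact inf_eq_left.1 h3
    have h4 : Nat.card (W ⊓ centralizer (X : Set G) : Subgroup G) ∣ p := by
      rw [hk']
      have : k ≤ 1 := by omega
      calc p ^ k ∣ p ^ 1 := pow_dvd_pow p this
        _ = p := pow_one p
    symm
    apply Cfsg.Agent.H2.Card.eq_of_le_of_card_eq hU
    exact Nat.dvd_antisymm (card_dvd_of_le hU) (by rw [hUc]; exact h4)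
  have hcA : W ⊓ centralizer (A : Set G) = ⁅V, A⁆ := hcentX A _ (le_inf le_sup_left hCA) hAc hnA
  have hcB : W ⊓ centralizer (B : Set G) = ⁅V, B⁆ := hcentX B _ (le_inf le_sup_right hCB) hBc hnB
  have hinf : W ⊓ CV V E = ⊥ := by
    rw [eq_bot_iff, ← hdisj, ← hcA, ← hcB]
    rintro x ⟨hx, -, hxc⟩
    have h1 : x ∈ centralizer (A : Set G) ⊓ centralizer (B : Set G) := by rw [← centralizer_sup]; exact hxc
    exact ⟨⟨hx, h1.1⟩, ⟨hx, h1.2⟩⟩
  have hCVle : CV V E ≤ V := inf_le_left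
  have hsup : W ⊔ CV V E = V := by
    apply Cfsg.Agent.H2.Card.eq_of_le_of_card_eq (sup_le hWV hCVle)
    apply le_antisymm (card_le_of_le (sup_le hWV hCVle))
    have h1 := Cfsg.Agent.H2.Card.card_sup_mul_card_inf (H := W) (N := CV V E)
      (hWV.trans ((ea_le_centralizer hV).trans ((Subgroup.centralizer_le hCVle).trans (centralizer_le_normalizer _))))
    rw [hinf, Subgroup.card_bot, mul_one, hWcard] at h1
    rw [h1]
    have hr : ∀ {X : Subgroup G}, p * Nat.card (CV V X) = Nat.card V → (CV V X).relIndex V = p := by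
      intro X hX
      have h3 := Cfsg.Agent.H2.Card.card_mul_relIndex (H := CV V X) (K := V) inf_le_left
      have h4 : 0 < Nat.card (CV V X) := Nat.card_pos
      rw [← hX, mul_comm p] at h3
      exact Nat.eq_of_mul_eq_mul_left h4 h3
    have h2 : (CV V A ⊓ CV V B).relIndex V ≤ p * p := by
      refine relIndex_inf_le.trans ?_
      rw [hr hAC, hr hBC]
    have h3 := Cfsg.Agent.H2.Card.card_mul_relIndex (H := CV V E) (K := V) inf_le_left
    rw [hE, CV_sup] at h3 ⊢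
    calc Nat.card V = Nat.card (CV V A ⊓ CV V B : Subgroup G) * (CV V A ⊓ CV V B).relIndex V := h3.symm
      _ ≤ Nat.card (CV V A ⊓ CV V B : Subgroup G) * (p * p) := Nat.mul_le_mul_left _ h2
      _ = p ^ 2 * Nat.card (CV V A ⊓ CV V B : Subgroup G) := by ring
  have hfW : E ⊓ centralizer (W : Set G) = ⊥ := by
    rw [eq_bot_iff, ← hf]
    rintro x ⟨hx, hxW⟩
    refine ⟨hx, ?_⟩
    have h1 : V ≤ centralizer (zpowers x : Set G) := by
      rw [← hsup]
      apply sup_le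
      · rw [le_centralizer_iff, zpowers_le]; exact hxW
      · rw [le_centralizer_iff, zpowers_le]
        have h2 : CV V E ≤ centralizer (E : Set G) := inf_le_right
        rw [le_centralizer_iff] at h2
        exact h2 hx
    rw [le_centralizer_iff, zpowers_le] at h1
    exact h1
  obtain ⟨e₁, he1, hz1⟩ := exists_zpowers_of_card hAc
  obtain ⟨e₂, he2, hz2⟩ := exists_zpowers_of_card hBc
  have h11 : e₁ ≠ 1 := by
    rintro rfl
    rw [zpowers_one_eq_bot] at hz1
    rw [hz1, Subgroup.card_bot] at hAc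
    exact hp.out.one_lt.ne hAc
  have h12 : e₂ ∉ zpowers e₁ := by
    intro h
    rw [← hz1] at h
    have h3 : e₂ ∈ ⁅V, A⁆ ⊓ ⁅V, B⁆ := ⟨h, he2⟩
    rw [hdisj, mem_bot] at h3
    rw [h3, zpowers_one_eq_bot] at hz2
    rw [hz2, Subgroup.card_bot] at hBc
    exact hp.out.one_lt.ne hBc
  have hswap : ∀ (X : Subgroup G) (x v : G), x ∈ X → v ∈ V → x * v * x⁻¹ * v⁻¹ ∈ ⁅V, X⁆ := by
    intro X x v hx hv
    have : x * v * x⁻¹ * v⁻¹ = ⁅v, x⁆⁻¹ := by rw [commutatorElement_def]; group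
    rw [this]
    exact inv_mem (commutator_mem_commutator hv hx)
  obtain ⟨φ, hφ, -⟩ := Cfsg.Agent.H2.Plane.sl2_of_transvections hEW (ea_of_le hV hWV) hWcard hfW le_sup_left le_sup_right
    le_rfl hA hB ((le_sup_left : ⁅V, A⁆ ≤ W) he1) ((le_sup_right : ⁅V, B⁆ ≤ W) he2) h11 h12
    (fun a ha => by
      have := mem_centralizer_iff.1 (hCA he1) a ha
      rw [this]; group)
    (fun a ha => by rw [← hz1]; exact hswap A a e₂ ha (hBle he2))
    (fun b hb => by
      have := mem_centralizer_iff.1 (hCB he2) b hb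
      rw [this]; group)
    (fun b hb => by rw [← hz2]; exact hswap B b e₁ hb (hAle he1))
  exact ⟨by rw [hWE]; exact hWcard, hWE, by rw [hWE]; exact hfW, ⟨φ, hφ⟩, by rw [hWE]; exact hinf, by rw [hWE]; exact hsup,
    by rw [hWE]; exact hcA, by rw [hWE]; exact hcB, hdisj⟩

end

end Cfsg.Agent.H2.FF
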