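import Mathlib
import Cfsg.Prelude
import Cfsg.Agent.H1_Nilp
import Cfsg.Agent.H2_Card
import Cfsg.Agent.H2_EA4c
import Cfsg.Agent.H4_Dih
import Cfsg.Agent.H24_FratAut
import Cfsg.Agent.H22_ClassTwo
import Cfsg.Agent.H2_FF3

/-! Metacyclic 2-groups with an automorphism of odd order. -/

set_option autoImplicit false
set_option linter.unusedSectionVars false
set_option linter.style.haveILetI false

open Subgroup Cfsg
open scoped commutatorElement

universe u

namespace Cfsg.Agent.H2.Meta2

variable {X : Type u} [Group X]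

/-- no invariant subgroup of index two -/
def KP (α : MulAut X) : Prop := ∀ M : Subgroup X, M.index = 2 → ¬ ∀ x ∈ M, α x ∈ M

theorem metacyclic_of_surj {Y : Type u} [Group Y] (f : X →* Y) (hf : Function.Surjective f) (h : IsMetacyclic X) :
    IsMetacyclic Y := by
  obtain ⟨N, hN, hc, hq⟩ := h
  haveI : (N.map f).Normal := hN.map f hf
  refine ⟨N.map f, inferInstance, ?_, ?_⟩
  · exact isCyclic_of_surjective (f.subgroupMap N) (f.subgroupMap_surjective N)
  · refine isCyclic_of_surjective (QuotientGroup.map N (N.map f) f (le_comap_map f N)) ?_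
    intro y
    obtain ⟨y, rfl⟩ := QuotientGroup.mk'_surjective _ y
    obtain ⟨x, rfl⟩ := hf y
    exact ⟨QuotientGroup.mk' N x, rfl⟩

theorem card_le_of_exp [Finite X] {e : ℕ} (h : IsMetacyclic X) (he : ∀ x : X, x ^ e = 1) (he0 : 0 < e) : Nat.card X ≤ e * e := by
  obtain ⟨N, hN, hc, hq⟩ := h
  rw [Subgroup.card_eq_card_quotient_mul_card_subgroup N]
  apply Nat.mul_le_mul
  · obtain ⟨g, hg⟩ := hq.exists_generator
    obtain ⟨x, rfl⟩ := QuotientGroup.mk'_surjective N g
    rw [← orderOf_eq_card_of_forall_mem_zpowers hg]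
    apply Nat.le_of_dvd he0
    apply orderOf_dvd_of_pow_eq_one
    rw [← map_pow, he, map_one]
  · obtain ⟨g, hg⟩ := hc.exists_generator
    rw [← orderOf_eq_card_of_forall_mem_zpowers hg]
    apply Nat.le_of_dvd he0
    apply orderOf_dvd_of_pow_eq_one
    exact Subtype.ext (he g)

/-- passing to quotients -/
def quotAut (α : MulAut X) (N : Subgroup X) [N.Normal] (hN : N.map α.toMonoidHom = N) : MulAut (X ⧸ N) :=
  QuotientGroup.congr N N α hN

theorem quotAut_mk (α : MulAut X) (N : Subgroup X) [N.Normal] (hN : N.map α.toMonoidHom = N) (x : X) :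
    quotAut α N hN (QuotientGroup.mk' N x) = QuotientGroup.mk' N (α x) := rfl

theorem KP.quot {α : MulAut X} (h : KP α) (N : Subgroup X) [N.Normal] (hN : N.map α.toMonoidHom = N) :
    KP (quotAut α N hN) := by
  intro M hM hinv
  refine h (M.comap (QuotientGroup.mk' N)) ?_ ?_
  · rw [index_comap_of_surjective _ (QuotientGroup.mk'_surjective N)]; exact hM
  · intro x hx
    have := hinv _ hx
    rw [quotAut_mk] at this
    exact this

theorem map_eq_of_char (α : MulAut X) (N : Subgroup X) [hN : N.Characteristic] : N.map α.toMonoidHom = N :=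
  characteristic_iff_map_eq.1 hN α

/-- invariant homomorphisms are trivial -/
theorem KP.hom [Finite X] (hX : IsPGroup 2 X) {α : MulAut X} (h : KP α) {A : Type*} [Group A] (f : X →* A)
    (hf : ∀ x, f (α x) = f x) (x : X) : f x = 1 := by
  haveI : Fact (Nat.Prime 2) := ⟨Nat.prime_two⟩
  by_contra hne
  have hker : f.ker ≠ ⊤ := by
    intro h1
    apply hne
    rw [← MonoidHom.mem_ker, h1]; trivial
  obtain ⟨M, hM, hle⟩ := Cfsg.Agent.H2.EA4.exists_max hX hker
  refine h M hM ?_
  intro y hy
  have h1 : α y * y⁻¹ ∈ f.ker := by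
    rw [MonoidHom.mem_ker, map_mul, map_inv, hf, mul_inv_cancel]
  have := mul_mem (hle h1) hy
  rwa [inv_mul_cancel_right] at this

theorem mem_of_two_pow_index {Y : Type*} [Group Y] [Finite Y] {K : Subgroup Y} (hY : IsPGroup 2 Y) (h1 : K.index ≠ 1) (h2 : K.index ≠ 2) :
    4 ≤ K.index := by
  haveI : Fact (Nat.Prime 2) := ⟨Nat.prime_two⟩
  obtain ⟨n, hn⟩ := IsPGroup.iff_card.1 hY
  have h3 : K.index ∣ 2 ^ n := by rw [← hn]; exact K.index_dvd_card
  obtain ⟨k, -, hk⟩ := (Nat.dvd_prime_pow Nat.prime_two).1 h3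
  rw [hk] at h1 h2 ⊢
  have : k ≠ 0 ∧ k ≠ 1 := ⟨fun h => h1 (by rw [h]; rfl), fun h => h2 (by rw [h]; rfl)⟩
  calc 4 = 2 ^ 2 := rfl
    _ ≤ 2 ^ k := Nat.pow_le_pow_right (by norm_num) (by omega)

/-- the abelian case -/
theorem abelian_case [Finite X] (hX : IsPGroup 2 X) (hm : IsMetacyclic X) (hc : ∀ x y : X, x * y = y * x) {α : MulAut X}
    (h : KP α) : ∃ n : ℕ, Nat.card X = 2 ^ n * 2 ^ n ∧ (∀ x : X, x ^ 2 ^ n = 1) ∧
      Nonempty (X ≃* Multiplicative (ZMod (2 ^ n)) × Multiplicative (ZMod (2 ^ n))) := by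
  haveI : Fact (Nat.Prime 2) := ⟨Nat.prime_two⟩
  letI : CommGroup X := { ‹Group X› with mul_comm := hc }
  obtain ⟨n, hn⟩ : ∃ n, Monoid.exponent X = 2 ^ n := by
    obtain ⟨m, hm⟩ := IsPGroup.iff_card.1 hX
    have : Monoid.exponent X ∣ 2 ^ m := by rw [← hm]; exact Group.exponent_dvd_nat_card
    obtain ⟨k, -, hk⟩ := (Nat.dvd_prime_pow Nat.prime_two).1 this
    exact ⟨k, hk⟩
  have hexp : ∀ x : X, x ^ 2 ^ n = 1 := fun x => by rw [← hn]; exact Monoid.pow_exponent_eq_one x
  have hcle := card_le_of_exp hm hexp (by positivity)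
  have hcyc : ∀ (a : X), orderOf a = 2 ^ n → Nonempty (zpowers a ≃* Multiplicative (ZMod (2 ^ n))) := by
    intro a ha
    haveI : NeZero (2 ^ n) := ⟨by positivity⟩
    refine ⟨mulEquivOfCyclicCardEq ?_⟩
    rw [Nat.card_zpowers, ha, Nat.card_congr Multiplicative.toAdd, Nat.card_zmod]
  rcases Nat.eq_zero_or_pos n with rfl | hn0
  · have h1 : Nat.card X = 1 := by
      have : 0 < Nat.card X := Nat.card_pos
      simp only [pow_zero, mul_one] at hcle
      omega
    refine ⟨0, by rw [h1]; rfl, hexp, ?_⟩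
    haveI : Subsingleton X := (Nat.card_eq_one_iff_unique.1 h1).1
    haveI : Subsingleton (Multiplicative (ZMod (2 ^ 0))) := inferInstanceAs (Subsingleton (Fin 1))
    haveI : Unique (Multiplicative (ZMod (2 ^ 0)) × Multiplicative (ZMod (2 ^ 0))) :=
      ⟨⟨1⟩, fun x => Subsingleton.elim _ _⟩
    haveI : Unique X := ⟨⟨1⟩, fun x => Subsingleton.elim _ _⟩
    exact ⟨MulEquiv.ofUnique⟩
  -- the power map
  set φ : X →* X := powMonoidHom (2 ^ (n - 1)) with hφ
  have hφa : ∀ x, φ x = x ^ 2 ^ (n - 1) := fun x => rfl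
  have hidx1 : φ.ker.index ≠ 1 := by
    intro h1
    rw [Subgroup.index_eq_one] at h1
    have h2 : Monoid.exponent X ∣ 2 ^ (n - 1) := by
      rw [Monoid.exponent_dvd_iff_forall_pow_eq_one]
      intro x
      rw [← hφa, ← MonoidHom.mem_ker, h1]; trivial
    rw [hn] at h2
    have := (Nat.pow_dvd_pow_iff_le_right (by norm_num : 1 < 2)).1 h2
    omega
  have hidx2 : φ.ker.index ≠ 2 := by
    intro h1
    refine h _ h1 ?_
    intro x hx
    rw [MonoidHom.mem_ker, hφa, ← map_pow, ← hφa, MonoidHom.mem_ker.1 hx, map_one]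
  have hidx := mem_of_two_pow_index hX hidx1 hidx2
  rw [Subgroup.index_ker] at hidx
  obtain ⟨a, ha⟩ : ∃ a, φ a ≠ 1 := by
    by_contra hno
    push Not at hno
    apply hidx1
    rw [Subgroup.index_eq_one, eq_top_iff]
    intro x _; exact hno x
  obtain ⟨b, hb1, hb2⟩ : ∃ b, φ b ≠ 1 ∧ φ b ≠ φ a := by
    by_contra hno
    push Not at hno
    have h1 : (φ.range : Set X) ⊆ {1, φ a} := by
      rintro _ ⟨x, rfl⟩
      by_cases hx : φ x = 1
      · exact Or.inl hx
      · exact Or.inr (hno x hx)
    have h2 : Nat.card φ.range ≤ 2 := by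
      have h3 := Set.ncard_le_ncard h1 (Set.toFinite _)
      have h4 : (φ.range : Set X).ncard = Nat.card φ.range := rfl
      rw [h4] at h3
      exact h3.trans (Set.ncard_insert_le _ _ |>.trans (by rw [Set.ncard_singleton]))
    omega
  have hord : ∀ x : X, φ x ≠ 1 → orderOf x = 2 ^ n := by
    intro x hx
    have : n = n - 1 + 1 := by omega
    rw [this]
    apply orderOf_eq_prime_pow
    · exact hx
    · rw [← this]; exact hexp x
  have hinv : ∀ x : X, φ x ≠ 1 → ∀ t ∈ zpowers x, t ^ 2 = 1 → t = 1 ∨ t = φ x := by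
    intro x hx t ht ht2
    by_cases h1 : t = 1
    · exact Or.inl h1
    right
    obtain ⟨k, rfl⟩ := (isOfFinOrder_of_finite x).mem_powers_iff_mem_zpowers.2 ht
    change (x ^ k) ^ 2 = 1 at ht2
    change x ^ k = φ x
    rw [← pow_mul] at ht2
    have h2 := orderOf_dvd_of_pow_eq_one ht2
    rw [hord x hx] at h2
    have h3 : 2 ^ n = 2 ^ (n - 1) * 2 := by rw [← pow_succ]; congr 1; omega
    rw [h3] at h2
    obtain ⟨j, hj⟩ := Nat.dvd_of_mul_dvd_mul_right (by norm_num) h2
    rw [hj, pow_mul, ← hφa]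
    have hφ2 : φ x ^ 2 = 1 := by rw [hφa, ← pow_mul, ← h3]; exact hexp x
    rcases Nat.even_or_odd j with ⟨i, hi⟩ | ⟨i, hi⟩
    · exfalso; apply h1
      change x ^ k = 1
      rw [hj, pow_mul, ← hφa, hi, ← two_mul, pow_mul, hφ2, one_pow]
    · rw [hi, pow_succ, pow_mul, hφ2, one_pow, one_mul]
  have hbot : zpowers a ⊓ zpowers b = ⊥ := by
    by_contra hne
    have hp2 : IsPGroup 2 (zpowers a ⊓ zpowers b : Subgroup X) := hX.to_subgroup _
    haveI : Nontrivial (zpowers a ⊓ zpowers b : Subgroup X) := (Subgroup.nontrivial_iff_ne_bot _).2 hne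
    have hdvd : 2 ∣ Nat.card (zpowers a ⊓ zpowers b : Subgroup X) := by
      obtain ⟨k, hk⟩ := IsPGroup.iff_card.1 hp2
      rw [hk]
      apply dvd_pow_self
      rintro rfl
      rw [pow_zero] at hk
      exact (Subgroup.one_lt_card_iff_ne_bot _).2 hne |>.ne' hk
    obtain ⟨t, ht⟩ := exists_prime_orderOf_dvd_card' 2 hdvd
    have ht1 : (t : X) ≠ 1 := by
      intro h1
      have : t = 1 := Subtype.ext h1
      rw [this, orderOf_one] at ht
      norm_num at ht
    have ht2 : (t : X) ^ 2 = 1 := by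
      have := pow_orderOf_eq_one t
      rw [ht] at this
      exact congrArg Subtype.val this
    have e1 := (hinv a ha t t.2.1 ht2).resolve_left ht1
    have e2 := (hinv b hb1 t t.2.2 ht2).resolve_left ht1
    exact hb2 (e2.symm.trans e1)
  -- the isomorphism
  set Ψ : zpowers a × zpowers b →* X := MonoidHom.coprod (zpowers a).subtype (zpowers b).subtype with hΨ
  have hinj : Function.Injective Ψ := by
    rw [injective_iff_map_eq_one]
    rintro ⟨x, y⟩ hxy
    change (x : X) * y = 1 at hxy
    have hx : (x : X) ∈ zpowers a ⊓ zpowers b := by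
      refine mem_inf.2 ⟨x.2, ?_⟩
      rw [eq_inv_of_mul_eq_one_left hxy]; exact inv_mem y.2
    rw [hbot, mem_bot] at hx
    rw [hx, one_mul] at hxy
    exact Prod.ext (Subtype.ext hx) (Subtype.ext hxy)
  have hcardP : Nat.card (zpowers a × zpowers b) = 2 ^ n * 2 ^ n := by
    rw [Nat.card_prod, Nat.card_zpowers, Nat.card_zpowers, hord a ha, hord b hb1]
  have hcard : Nat.card X = 2 ^ n * 2 ^ n := by
    apply le_antisymm hcle
    rw [← hcardP]
    exact Nat.card_le_card_of_injective _ hinj
  have hbij : Function.Bijective Ψ := by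
    refine ⟨hinj, ?_⟩
    haveI : Fintype X := Fintype.ofFinite _
    haveI : Fintype (zpowers a × zpowers b) := Fintype.ofFinite _
    have := (Fintype.bijective_iff_injective_and_card Ψ).2 ⟨hinj, by
      rw [← Nat.card_eq_fintype_card, ← Nat.card_eq_fintype_card, hcardP, hcard]⟩
    exact this.2
  obtain ⟨e1⟩ := hcyc a (hord a ha)
  obtain ⟨e2⟩ := hcyc b (hord b hb1)
  exact ⟨n, hcard, hexp, ⟨(MulEquiv.ofBijective Ψ hbij).symm.trans (MulEquiv.prodCongr e1 e2)⟩⟩

/-- the nonabelian case -/
theorem nonabelian_case [Finite X] (hX : IsPGroup 2 X) (hm : IsMetacyclic X) (hna : ¬ ∀ x y : X, x * y = y * x)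
    {α : MulAut X} (h : KP α) : Nonempty (X ≃* QuaternionGroup 2) := by
  haveI : Fact (Nat.Prime 2) := ⟨Nat.prime_two⟩
  -- the commutator subgroup is cyclic
  have hX'cyc : IsCyclic (_root_.commutator X) := by
    obtain ⟨N, hN, hc, hq⟩ := hm
    have hle : _root_.commutator X ≤ N := by
      letI : CommGroup (X ⧸ N) := hq.commGroup
      exact (Abelianization.commutator_subset_ker (QuotientGroup.mk' N)).trans (by rw [QuotientGroup.ker_mk'])
    exact isCyclic_of_injective (inclusion hle) (inclusion_injective hle)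
  obtain ⟨⟨w, hwX⟩, hw⟩ := hX'cyc.exists_generator
  have hgen : ∀ y ∈ _root_.commutator X, ∃ k : ℕ, y = w ^ k := by
    intro y hy
    obtain ⟨k, hk⟩ := (isOfFinOrder_of_finite (⟨w, hwX⟩ : _root_.commutator X)).mem_powers_iff_mem_zpowers.2 (hw ⟨y, hy⟩)
    exact ⟨k, (congrArg Subtype.val hk).symm⟩
  have hαmem : ∀ y ∈ _root_.commutator X, α y ∈ _root_.commutator X := by
    intro y hy
    have := map_eq_of_char α (_root_.commutator X)
    rw [← this]; exact ⟨y, hy, rfl⟩
  have hαmem' : ∀ y ∈ _root_.commutator X, ∃ z ∈ _root_.commutator X, α z = y := by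
    intro y hy
    rw [← map_eq_of_char α (_root_.commutator X)] at hy
    exact hy
  -- `X'` is central
  have hcent : ∀ y ∈ _root_.commutator X, ∀ x : X, x * y = y * x := by
    have hinv : ∀ x, MulAut.conjNormal (H := _root_.commutator X) (α x) = MulAut.conjNormal (H := _root_.commutator X) x := by
      intro x
      ext ⟨y, hy⟩
      change α x * y * (α x)⁻¹ = x * y * x⁻¹
      -- both are the same power of `y`
      obtain ⟨z, hz, rfl⟩ := hαmem' y hy
      have hxw : x * w * x⁻¹ ∈ _root_.commutator X := (inferInstance : (_root_.commutator X).Normal).conj_mem w hwX x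
      obtain ⟨k, hk⟩ := hgen _ hxw
      have key : ∀ v ∈ _root_.commutator X, x * v * x⁻¹ = v ^ k := by
        intro v hv
        obtain ⟨l, rfl⟩ := hgen v hv
        rw [← conj_pow, hk, ← pow_mul, ← pow_mul, mul_comm]
      have e1 : α x * α z * (α x)⁻¹ = α (x * z * x⁻¹) := by rw [map_mul, map_mul, map_inv]
      rw [e1, key z hz, map_pow, key _ (hαmem z hz)]
    intro y hy x
    have h1 := h.hom hX (MulAut.conjNormal (H := _root_.commutator X)) hinv x
    have h2 : x * y * x⁻¹ = y := congrArg Subtype.val (DFunLike.congr_fun h1 (⟨y, hy⟩ : _root_.commutator X))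
    exact mul_inv_eq_iff_eq_mul.1 h2
  -- the abelianization
  have hmap' := map_eq_of_char α (_root_.commutator X)
  have hab : ∀ x y : X ⧸ _root_.commutator X, x * y = y * x := fun x y => mul_comm (G := Abelianization X) x y
  obtain ⟨n, hcardn, hexpn, -⟩ := abelian_case (hX.to_quotient _) (metacyclic_of_surj _ (QuotientGroup.mk'_surjective _) hm) hab
    (h.quot (_root_.commutator X) hmap')
  have hpow : ∀ x : X, x ^ 2 ^ n ∈ _root_.commutator X := by
    intro x
    rw [← QuotientGroup.eq_one_iff]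
    exact hexpn (QuotientGroup.mk' _ x)
  have hX'ne : _root_.commutator X ≠ ⊥ := by
    intro h1
    apply hna
    intro x y
    have h2 : ⁅x, y⁆ ∈ _root_.commutator X := commutator_mem_commutator (mem_top x) (mem_top y)
    rw [h1, mem_bot, commutatorElement_eq_one_iff_mul_comm] at h2
    exact h2
  have hwne : w ≠ 1 := by
    rintro rfl
    apply hX'ne
    rw [eq_bot_iff]
    intro y hy
    obtain ⟨k, rfl⟩ := hgen y hy
    rw [one_pow]; exact one_mem _
  -- the subgroup `K`
  have hwc : ∀ x : X, x * w = w * x := hcent w hwX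
  set K : Subgroup X := zpowers (w ^ 2) with hK
  have hKn : K.Normal := by
    refine ⟨fun y hy x => ?_⟩
    obtain ⟨k, rfl⟩ := hy
    have : Commute x w := hwc x
    have h2 : Commute x ((w ^ 2) ^ k) := (this.pow_right 2).zpow_right k
    change x * (w ^ 2) ^ k * x⁻¹ ∈ K
    rw [h2.eq, mul_inv_cancel_right]; exact zpow_mem_zpowers _ _
  have hKX' : K ≤ _root_.commutator X := by rw [hK, zpowers_le]; exact pow_mem hwX 2
  have hwK : w ∉ K := by
    intro hwK
    obtain ⟨k, hk⟩ := hwK
    change (w ^ 2) ^ k = w at hk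
    have h1 : w ^ (2 * k - 1) = 1 := by
      rw [zpow_sub, zpow_mul, zpow_one]
      have e2 : w ^ (2 : ℤ) = w ^ (2 : ℕ) := zpow_natCast w 2
      rw [e2, hk, mul_inv_cancel]
    obtain ⟨m, hm'⟩ := hX w
    have h2 : orderOf w ∣ 2 ^ m := orderOf_dvd_of_pow_eq_one hm'
    have h3 : (orderOf w : ℤ) ∣ 2 * k - 1 := orderOf_dvd_iff_zpow_eq_one.2 h1
    have h4 : (2 : ℕ) ∣ orderOf w := by
      obtain ⟨j, -, hj⟩ := (Nat.dvd_prime_pow Nat.prime_two).1 h2
      rw [hj]
      apply dvd_pow_self
      rintro rfl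
      rw [pow_zero, orderOf_eq_one_iff] at hj
      exact hwne hj
    have h5 : (2 : ℤ) ∣ 2 * k - 1 := (Int.natCast_dvd_natCast.2 h4).trans h3
    omega
  have hKmap : K.map α.toMonoidHom = K := by
    apply Cfsg.Agent.H2.Card.eq_of_le_of_card_eq
    · rw [hK, MonoidHom.map_zpowers, zpowers_le]
      change α (w ^ 2) ∈ zpowers (w ^ 2)
      obtain ⟨k, hk⟩ := hgen _ (hαmem w hwX)
      rw [map_pow, hk, ← pow_mul, mul_comm, pow_mul]
      exact pow_mem (mem_zpowers _) k
    · exact Subgroup.card_map_of_injective α.injective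
  have hX'K : ∀ y ∈ _root_.commutator X, y ∈ K ∨ w⁻¹ * y ∈ K := by
    intro y hy
    obtain ⟨k, rfl⟩ := hgen y hy
    rcases Nat.even_or_odd k with ⟨j, hj⟩ | ⟨j, hj⟩
    · left; rw [hj, ← two_mul, pow_mul]; exact pow_mem (mem_zpowers _) j
    · right; rw [hj, pow_succ', inv_mul_cancel_left, pow_mul]; exact pow_mem (mem_zpowers _) j
  have hcardK : Nat.card (_root_.commutator X) = 2 * Nat.card K := by
    have h1 := Cfsg.Agent.H2.Card.card_mul_relIndex hKX'
    have h2 : K.relIndex (_root_.commutator X) = 2 := by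
      rw [Subgroup.relIndex, Subgroup.index_eq_two_iff]
      refine ⟨⟨w, hwX⟩, ?_⟩
      rintro ⟨y, hy⟩
      rw [mem_subgroupOf, mem_subgroupOf]
      change Xor (y * w ∈ K) (y ∈ K)
      have hyw : y * w = w * y := hcent w hwX y
      rcases hX'K y hy with h3 | h3
      · right
        refine ⟨h3, fun h4 => hwK ?_⟩
        rw [hyw] at h4
        have := mul_mem h4 (inv_mem h3)
        rwa [mul_inv_cancel_right] at this
      · left
        have h5 : w ^ 2 ∈ K := mem_zpowers _
        refine ⟨?_, fun h4 => hwK ?_⟩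
        · have e : y * w = w ^ 2 * (w⁻¹ * y) := by rw [hyw]; group
          rw [e]; exact mul_mem h5 h3
        · have e : w = y * (w⁻¹ * y)⁻¹ := by
            rw [mul_inv_rev, inv_inv, ← mul_assoc, mul_inv_cancel, one_mul]
          rw [e]; exact mul_mem h4 (inv_mem h3)
    rw [← h1, h2, mul_comm]
  -- squares of commutators
  have hcomm2 : ∀ x y : X, ⁅x, y⁆ ^ 2 ∈ K := by
    intro x y
    obtain ⟨k, hk⟩ := hgen _ (commutator_mem_commutator (mem_top x) (mem_top y))
    rw [hk, ← pow_mul, mul_comm, pow_mul]; exact pow_mem (mem_zpowers _) k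
  have hn1 : n = 1 := by
    by_contra hn1
    have hn0 : n ≠ 0 := by
      rintro rfl
      have h1 : ∀ x : X, x ∈ _root_.commutator X := fun x => by have := hpow x; rwa [pow_zero, pow_one] at this
      apply hna
      intro x y
      exact hcent y (h1 y) x
    have hn2 : 2 ≤ n := by omega
    -- the power homomorphism
    let θ : X →* X ⧸ K :=
      { toFun := fun x => QuotientGroup.mk' K (x ^ 2 ^ n)
        map_one' := by rw [one_pow, map_one]
        map_mul' := by
          intro x y
          have hc := commutator_mem_commutator (mem_top y⁻¹) (mem_top x⁻¹) (G := X)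
          have h1 := Cfsg.Agent.H22.ClassTwo.mul_pow_of_central (x := x) (y := y) (c := ⁅y⁻¹, x⁻¹⁆)
            (by simp only [commutatorElement_def]; group) (hcent _ hc x).symm (hcent _ hc y).symm (2 ^ n)
          rw [h1, map_mul, map_mul]
          have h2 : QuotientGroup.mk' K (⁅y⁻¹, x⁻¹⁆ ^ (2 ^ n).choose 2) = 1 := by
            change ((⁅y⁻¹, x⁻¹⁆ ^ (2 ^ n).choose 2 : X) : X ⧸ K) = 1
            rw [QuotientGroup.eq_one_iff]
            have h3 : 2 ∣ (2 ^ n).choose 2 := by
              rw [Nat.choose_two_right]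
              obtain ⟨m, rfl⟩ : ∃ m, n = m + 2 := ⟨n - 2, by omega⟩
              have : 2 ^ (m + 2) * (2 ^ (m + 2) - 1) / 2 = 2 * (2 ^ m * (2 ^ (m + 2) - 1)) := by
                rw [show 2 ^ (m + 2) * (2 ^ (m + 2) - 1) = 2 * (2 * (2 ^ m * (2 ^ (m + 2) - 1))) by
                  rw [pow_add]; ring_nf, Nat.mul_div_cancel_left _ (by norm_num)]
              rw [this]; exact dvd_mul_right _ _
            obtain ⟨j, hj⟩ := h3
            rw [hj, pow_mul]
            exact pow_mem (hcomm2 _ _) j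
          rw [h2, mul_one] }
    have hθα : ∀ x, θ (α x) = θ x := by
      intro x
      change ((α x ^ 2 ^ n : X) : X ⧸ K) = ((x ^ 2 ^ n : X) : X ⧸ K)
      rw [← map_pow, QuotientGroup.eq]
      -- `α` acts trivially on `X'/K`
      have h1 : ∀ y ∈ _root_.commutator X, (α y)⁻¹ * y ∈ K := by
        intro y hy
        rcases hX'K y hy with h2 | h2
        · have h3 : α y ∈ K := by rw [← hKmap]; exact ⟨y, h2, rfl⟩
          exact mul_mem (inv_mem h3) h2
        · have hy' : y ∉ K := by
            intro h3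
            apply hwK
            have e : w = y * (w⁻¹ * y)⁻¹ := by group
            rw [e]; exact mul_mem h3 (inv_mem h2)
          have hαy : α y ∉ K := by
            intro h3
            rw [← hKmap] at h3
            obtain ⟨z, hz, hzy⟩ := h3
            have : z = y := α.injective hzy
            rw [this] at hz
            exact hy' hz
          have h4 := (hX'K (α y) (hαmem y hy)).resolve_left hαy
          have e : (α y)⁻¹ * y = (w⁻¹ * α y)⁻¹ * (w⁻¹ * y) := by group
          rw [e]; exact mul_mem (inv_mem h4) h2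
      exact h1 _ (hpow x)
    have hθ := h.hom hX θ hθα
    have hexpK : ∀ y : X ⧸ K, y ^ 2 ^ n = 1 := by
      intro y
      obtain ⟨x, rfl⟩ := QuotientGroup.mk'_surjective K y
      rw [← map_pow]; exact hθ x
    have hc1 := card_le_of_exp (metacyclic_of_surj _ (QuotientGroup.mk'_surjective K) hm) hexpK (by positivity)
    have hc2 := Subgroup.card_eq_card_quotient_mul_card_subgroup K
    have hc3 := Subgroup.card_eq_card_quotient_mul_card_subgroup (_root_.commutator X)
    rw [hcardn, hcardK] at hc3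
    have hKpos : 0 < Nat.card K := Nat.card_pos
    have h4 : 0 < 2 ^ n * 2 ^ n := by positivity
    rw [hc3] at hc2
    have h5 : Nat.card (X ⧸ K) = 2 ^ n * 2 ^ n * 2 := by
      apply Nat.eq_of_mul_eq_mul_right hKpos
      rw [← hc2]; ring
    rw [h5] at hc1
    omega
  subst hn1
  -- the commutator subgroup has order two
  have hw2 : w ^ 2 = 1 := by
    have h1 : ∀ x y : X, ⁅x, y⁆ ^ 2 = 1 := by
      intro x y
      have hc := commutator_mem_commutator (mem_top x) (mem_top y) (G := X)
      have h2 : Commute x ⁅x, y⁆ := hcent _ hc x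
      have e1 : x * y * x⁻¹ = ⁅x, y⁆ * y := by rw [commutatorElement_def]; group
      have e2 : x ^ 2 * y * (x ^ 2)⁻¹ = ⁅x, y⁆ ^ 2 * y := by
        rw [pow_two, pow_two]
        calc x * x * y * (x * x)⁻¹ = x * (x * y * x⁻¹) * x⁻¹ := by group
          _ = x * (⁅x, y⁆ * y) * x⁻¹ := by rw [e1]
          _ = (x * ⁅x, y⁆) * y * x⁻¹ := by group
          _ = ⁅x, y⁆ * (x * y * x⁻¹) := by rw [h2.eq, mul_assoc, mul_assoc, mul_assoc]
          _ = ⁅x, y⁆ * (⁅x, y⁆ * y) := by rw [e1]
          _ = _ := by rw [mul_assoc]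
      have h3 : x ^ 2 ∈ _root_.commutator X := by have := hpow x; rwa [pow_one] at this
      have h4 := hcent _ h3 y
      rw [← h4, mul_inv_cancel_right] at e2
      have := mul_right_cancel (a := (1 : X)) (b := y) (c := ⁅x, y⁆ ^ 2) (by rw [one_mul]; exact e2)
      exact this.symm
    have h2 : ∀ y ∈ _root_.commutator X, y ^ 2 = 1 := by
      intro y hy
      rw [_root_.commutator_def, Subgroup.commutator_def] at hy
      induction hy using closure_induction with
      | mem y hy =>
        obtain ⟨a, -, b, -, rfl⟩ := hy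
        exact h1 a b
      | one => exact one_pow 2
      | mul y z hy hz ihy ihz =>
        have hc : Commute y z := hcent z (by rw [_root_.commutator_def, Subgroup.commutator_def]; exact hz) y
        rw [hc.mul_pow, ihy, ihz, one_mul]
      | inv y _ ihy => rw [inv_pow, ihy, inv_one]
    exact h2 w hwX
  have hKbot : Nat.card K = 1 := by rw [hK, hw2, zpowers_one_eq_bot, Subgroup.card_bot]
  rw [hKbot, mul_one] at hcardK
  have hcardX : Nat.card X = 8 := by
    rw [Subgroup.card_eq_card_quotient_mul_card_subgroup (_root_.commutator X), hcardn, hcardK]; norm_num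
  have hX'two : ∀ y ∈ _root_.commutator X, y = 1 ∨ y = w := by
    intro y hy
    rcases hX'K y hy with h3 | h3
    · left
      rw [hK, hw2, zpowers_one_eq_bot, mem_bot] at h3; exact h3
    · right
      rw [hK, hw2, zpowers_one_eq_bot, mem_bot, inv_mul_eq_one] at h3; exact h3.symm
  obtain ⟨a, ha⟩ : ∃ a : X, a ^ 2 ≠ 1 := by
    by_contra hno
    push Not at hno
    apply hna
    intro x y
    have e1 := hno (x * y)
    have e2 := hno x
    have e3 := hno y
    rw [pow_two] at e1 e2 e3
    have e4 : y * x = x * (x * y * (x * y)) * y := by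
      calc y * x = (x * x) * (y * x) * (y * y) := by rw [e2, e3]; group
        _ = x * (x * y * (x * y)) * y := by group
    rw [e1, mul_one] at e4
    exact e4.symm
  have ha2 : a ^ 2 = w := (hX'two _ (by have := hpow a; rwa [pow_one] at this)).resolve_left ha
  have ha4 : a ^ 4 = 1 := by rw [show 4 = 2 * 2 from rfl, pow_mul, ha2, hw2]
  have horda : orderOf a = 4 := by
    have : orderOf a = 2 ^ (1 + 1) := orderOf_eq_prime_pow (by rw [pow_one]; exact ha) ha4
    exact this
  have hαw : α w = w := by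
    rcases hX'two _ (hαmem w hwX) with h1 | h1
    · exfalso; apply hwne
      apply α.injective; rw [h1, map_one]
    · exact h1
  set b := α a with hb
  have hb2 : b ^ 2 = w := by rw [hb, ← map_pow, ha2, hαw]
  have hidx : (zpowers a).index = 2 := by
    have := Subgroup.card_mul_index (zpowers a)
    rw [Nat.card_zpowers, horda, hcardX] at this
    omega
  have hba : b ∉ zpowers a := by
    intro hmem
    refine h _ hidx ?_
    intro x hx
    obtain ⟨k, rfl⟩ := hx
    change α (a ^ k) ∈ zpowers a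
    rw [map_zpow]
    exact zpow_mem hmem k
  -- closure
  have htop : closure ({b, a} : Set X) = ⊤ := by
    have h1 : zpowers a ≤ closure ({b, a} : Set X) := by
      rw [zpowers_le]; exact subset_closure (by simp)
    have h2 : b ∈ closure ({b, a} : Set X) := subset_closure (by simp)
    rw [eq_top_iff]
    intro x _
    by_cases hx : x ∈ zpowers a
    · exact h1 hx
    · have h3 : b⁻¹ * x ∈ zpowers a := by
        have h4 := (Subgroup.mul_mem_iff_of_index_two hidx (a := b⁻¹) (b := x)).2 (by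
          rw [inv_mem_iff]
          exact ⟨fun h => absurd h hba, fun h => absurd h hx⟩)
        exact h4
      have := mul_mem h2 (h1 h3)
      rwa [mul_inv_cancel_left] at this
  have hnc : ⁅b, a⁆ ≠ 1 := by
    intro h1
    rw [commutatorElement_eq_one_iff_mul_comm] at h1
    apply hna
    have h2 : ∀ x : X, x ∈ closure ({b, a} : Set X) := fun x => by rw [htop]; trivial
    have h3 : ∀ x ∈ ({b, a} : Set X), ∀ y ∈ ({b, a} : Set X), x * y = y * x := by
      rintro x (rfl | rfl) y (rfl | rfl)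
      · rfl
      · exact h1
      · exact h1.symm
      · rfl
    have h4 := Subgroup.isMulCommutative_closure h3
    intro x y
    exact congrArg Subtype.val (h4.is_comm.comm (⟨x, h2 x⟩ : closure ({b, a} : Set X)) ⟨y, h2 y⟩)
  have hbaw : ⁅b, a⁆ = w := (hX'two _ (commutator_mem_commutator (mem_top b) (mem_top a))).resolve_left hnc
  have hconj : b * a * b⁻¹ = a⁻¹ := by
    have e1 : b * a * b⁻¹ = ⁅b, a⁆ * a := by rw [commutatorElement_def]; group
    rw [e1, hbaw, ← ha2, eq_inv_iff_mul_eq_one]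
    have : a ^ 2 * a * a = a ^ 4 := by
      rw [mul_assoc, ← pow_two, ← pow_add]
    rw [this, ha4]
  have e := Cfsg.Agent.H4.Dih.quatEquiv 2 b a horda (by rw [← pow_two, hb2, ha2]) hconj hba
  exact ⟨(e.trans ((MulEquiv.subgroupCongr htop).trans Subgroup.topEquiv)).symm⟩

theorem eq_one_of_dvd_coprime {a b : ℕ} (h : a ∣ b) (hc : a.Coprime b) : a = 1 := by
  have := Nat.dvd_gcd (dvd_refl a) h
  rw [hc] at this
  exact Nat.dvd_one.1 this

theorem coatom_of_index {M : Subgroup X} (hM : M.index = 2) : IsCoatom M := by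
  refine ⟨?_, ?_⟩
  · rintro rfl
    rw [Subgroup.index_top] at hM
    norm_num at hM
  · intro N hN
    have h1 := Subgroup.relIndex_mul_index hN.le
    rw [hM] at h1
    have h2 : N.index ∣ 2 := Dvd.intro_left _ h1
    rcases (Nat.dvd_prime Nat.prime_two).1 h2 with h3 | h3
    · exact Subgroup.index_eq_one.1 h3
    · exfalso
      rw [h3] at h1
      have h4 : M.relIndex N = 1 := by omega
      rw [relIndex_eq_one] at h4
      exact absurd h4 (not_le_of_gt hN)

theorem diff_mem {Y : Type*} [Group Y] {H : Subgroup Y} (hH : H.index = 2) {a b : Y} (h : a ∈ H ↔ b ∈ H) : a * b⁻¹ ∈ H := by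
  rw [Subgroup.mul_mem_iff_of_index_two hH, inv_mem_iff]
  exact h

/-- an automorphism of odd order -/
theorem kp_of_odd [Finite X] (hX : IsPGroup 2 X) (hm : IsMetacyclic X) {α : MulAut X} (hα : (orderOf α).Coprime 2) (hne : α ≠ 1) :
    KP α := by
  haveI : Fact (Nat.Prime 2) := ⟨Nat.prime_two⟩
  intro M hM hinv
  have hΦ := Cfsg.Agent.H1.Nilp.commutator_le_frattini hX
  -- `|X/Φ| ≤ 4`
  have hle4 : Nat.card (X ⧸ frattini X) ≤ 2 * 2 := by
    apply card_le_of_exp (metacyclic_of_surj _ (QuotientGroup.mk'_surjective (frattini X)) hm) _ (by norm_num)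
    intro y
    obtain ⟨x, rfl⟩ := QuotientGroup.mk'_surjective _ y
    rw [← map_pow]
    exact (QuotientGroup.eq_one_iff _).2 (hΦ.2 x)
  have hΦM : frattini X ≤ M := frattini_le_coatom (coatom_of_index hM)
  have hMmap : M.map α.toMonoidHom = M := by
    apply Cfsg.Agent.H2.Card.eq_of_le_of_card_eq
    · rintro _ ⟨x, hx, rfl⟩; exact hinv x hx
    · exact Subgroup.card_map_of_injective α.injective
  have hMiff : ∀ x, α x ∈ M ↔ x ∈ M := by
    intro x
    refine ⟨fun h => ?_, hinv x⟩
    rw [← hMmap] at h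
    obtain ⟨y, hy, hyx⟩ := h
    rwa [← α.injective hyx]
  have hΦmap : (frattini X).map α.toMonoidHom = frattini X := map_eq_of_char α _
  have hΦiff : ∀ x, α x ∈ frattini X ↔ x ∈ frattini X := by
    intro x
    refine ⟨fun h => ?_, fun h => by rw [← hΦmap]; exact ⟨x, h, rfl⟩⟩
    rw [← hΦmap] at h
    obtain ⟨y, hy, hyx⟩ := h
    rwa [← α.injective hyx]
  have hd : ∀ x, α x * x⁻¹ ∈ M := fun x => diff_mem hM (hMiff x)
  have hrel : (frattini X).relIndex M ≤ 2 := by
    have h1 := Subgroup.relIndex_mul_index hΦM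
    have h2 : (frattini X).index ≤ 4 := hle4
    rw [hM] at h1
    omega
  have hdM : ∀ m ∈ M, α m * m⁻¹ ∈ frattini X := by
    intro m hm'
    have hpos : (frattini X).relIndex M ≠ 0 := Subgroup.FiniteIndex.index_ne_zero
    have hcases : (frattini X).relIndex M = 1 ∨ (frattini X).relIndex M = 2 := by omega
    rcases hcases with h1 | h1
    · rw [relIndex_eq_one] at h1
      exact h1 (mul_mem (hinv m hm') (inv_mem hm'))
    · exact diff_mem (H := (frattini X).subgroupOf M) (a := ⟨α m, hinv m hm'⟩) (b := ⟨m, hm'⟩) h1 (hΦiff m)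
  -- `α²` acts trivially on `X/Φ`
  have h2 : ∀ x, (α ^ 2) x * x⁻¹ ∈ frattini X := by
    intro x
    have e : (α ^ 2) x * x⁻¹ = (α (α x * x⁻¹) * (α x * x⁻¹)⁻¹) * (α x * x⁻¹) ^ 2 := by
      change α (α x) * x⁻¹ = _
      rw [map_mul, map_inv, pow_two]; group
    rw [e]
    exact mul_mem (hdM _ (hd x)) (hΦ.2 _)
  obtain ⟨n, hn⟩ := IsPGroup.iff_card.1 hX
  obtain ⟨r, hr⟩ : ∃ r, (frattini X).index = 2 ^ r := by
    obtain ⟨k, -, hk⟩ := (Nat.dvd_prime_pow Nat.prime_two).1 (by rw [← hn]; exact (frattini X).index_dvd_card : (frattini X).index ∣ 2 ^ n)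
    exact ⟨k, hk⟩
  have h3 := Cfsg.Agent.H24.FratAut.card_dvd hn hr (zpowers (α ^ 2)) (by
    let T : Subgroup (MulAut X) :=
      { carrier := {β | ∀ x, β x * x⁻¹ ∈ frattini X}
        one_mem' := fun x => by change x * x⁻¹ ∈ _; rw [mul_inv_cancel]; exact one_mem _
        mul_mem' := by
          intro β γ hβ hγ x
          change β (γ x) * x⁻¹ ∈ frattini X
          have e : β (γ x) * x⁻¹ = (β (γ x) * (γ x)⁻¹) * (γ x * x⁻¹) := by group
          rw [e]; exact mul_mem (hβ _) (hγ _)
        inv_mem' := by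
          intro β hβ x
          have h4 := hβ (β⁻¹ x)
          have h5 : β (β⁻¹ x) = x := β.apply_symm_apply x
          rw [h5] at h4
          have := inv_mem h4
          rwa [mul_inv_rev, inv_inv] at this }
    have : zpowers (α ^ 2) ≤ T := by rw [zpowers_le]; exact h2
    intro β hβ
    exact this hβ)
  rw [Nat.card_zpowers] at h3
  -- contradiction
  have h4 : (orderOf (α ^ 2)).Coprime 2 := hα.coprime_dvd_left (orderOf_pow_dvd 2)
  have h5 : orderOf (α ^ 2) = 1 := eq_one_of_dvd_coprime h3 (h4.pow_right _)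
  rw [orderOf_eq_one_iff] at h5
  have h6 := orderOf_dvd_of_pow_eq_one h5
  have h7 : orderOf α = 1 := eq_one_of_dvd_coprime h6 hα
  exact hne (orderOf_eq_one_iff.1 h7)

theorem main [Finite X] (hX : IsPGroup 2 X) (hm : IsMetacyclic X) (hA : ¬ IsPGroup 2 (MulAut X)) :
    Nonempty (X ≃* QuaternionGroup 2) ∨
      ∃ n : ℕ, Nonempty (X ≃* Multiplicative (ZMod (2 ^ n)) × Multiplicative (ZMod (2 ^ n))) := by
  haveI : Fact (Nat.Prime 2) := ⟨Nat.prime_two⟩
  haveI : Finite (MulAut X) := inferInstance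
  obtain ⟨α, hα, hne⟩ : ∃ α : MulAut X, (orderOf α).Coprime 2 ∧ α ≠ 1 := by
    by_contra hno
    push Not at hno
    apply hA
    have := Cfsg.Agent.H2.FF.isPGroup_of_coprime_trivial (p := 2) (E := (⊤ : Subgroup (MulAut X))) (fun x _ hx => hno x hx)
    exact this.of_equiv Subgroup.topEquiv
  have hK := kp_of_odd hX hm hα hne
  by_cases hc : ∀ x y : X, x * y = y * x
  · right
    obtain ⟨n, -, -, e⟩ := abelian_case hX hm hc hK
    exact ⟨n, e⟩
  · left
    exact nonabelian_case hX hm hc hK

end Cfsg.Agent.H2.Meta2
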