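import Mathlib

/-! The Hall–Petrescu formula. -/

set_option autoImplicit false
set_option linter.unusedSectionVars false

open Subgroup
open scoped commutatorElement

namespace Cfsg.Agent.H2.HallP

variable {G : Type*} [Group G]

/-- a filtration -/
structure Filt (F : ℕ → Subgroup G) : Prop where
  mono : ∀ i, F (i + 1) ≤ F i
  comm : ∀ i j, ∀ x ∈ F i, ∀ y ∈ F j, ⁅x, y⁆ ∈ F (i + j)

/-- cubes -/
def HK (F : ℕ → Subgroup G) : ℕ → ℕ → (List Bool → G) → Prop
  | 0, s, f => f [] ∈ F s
  | k + 1, s, f => HK F k s (fun l => f (false :: l)) ∧ HK F k (s + 1) (fun l => (f (false :: l))⁻¹ * f (true :: l))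

variable {F : ℕ → Subgroup G}

theorem Filt.le (h : Filt F) (s i : ℕ) : F (s + i) ≤ F s := by
  induction i with
  | zero => exact le_rfl
  | succ i ih => exact (h.mono (s + i)).trans ih

theorem HK.mono (h : Filt F) {k : ℕ} : ∀ {s : ℕ} {f : List Bool → G}, HK F k (s + 1) f → HK F k s f := by
  induction k with
  | zero => intro s f hf; exact h.mono s hf
  | succ k ih => intro s f hf; exact ⟨ih hf.1, ih hf.2⟩

theorem HK.mono' (h : Filt F) {k : ℕ} {s t : ℕ} (hst : s ≤ t) {f : List Bool → G} (hf : HK F k t f) : HK F k s f := by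
  obtain ⟨i, rfl⟩ := Nat.exists_eq_add_of_le hst
  clear hst
  induction i with
  | zero => exact hf
  | succ i ih => exact ih (HK.mono h hf)

theorem HK.one {k : ℕ} : ∀ {s : ℕ}, HK F k s (fun _ => 1) := by
  induction k with
  | zero => intro s; exact one_mem _
  | succ k ih =>
    intro s
    refine ⟨ih, ?_⟩
    simp only [inv_one, mul_one]
    exact ih

/-- the closure properties -/
structure Good (F : ℕ → Subgroup G) (k : ℕ) : Prop where
  mul : ∀ {s : ℕ} {f g : List Bool → G}, HK F k s f → HK F k s g → HK F k s (fun l => f l * g l)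
  inv : ∀ {s : ℕ} {f : List Bool → G}, HK F k s f → HK F k s (fun l => (f l)⁻¹)
  comm : ∀ {s t : ℕ} {f g : List Bool → G}, HK F k s f → HK F k t g → HK F k (s + t) (fun l => ⁅f l, g l⁆)

theorem Good.conj (h : Filt F) {k : ℕ} (hk : Good F k) {s t : ℕ} {f g : List Bool → G} (hf : HK F k s f) (hg : HK F k t g) :
    HK F k s (fun l => g l * f l * (g l)⁻¹) := by
  have h1 := hk.comm hg hf
  have h2 : HK F k s (fun l => ⁅g l, f l⁆) := HK.mono' h (by omega) h1
  have h3 := hk.mul h2 hf
  have e : (fun l => g l * f l * (g l)⁻¹) = fun l => ⁅g l, f l⁆ * f l := by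
    funext l; rw [commutatorElement_def]; group
  rw [e]; exact h3

theorem good (h : Filt F) (k : ℕ) : Good F k := by
  induction k with
  | zero =>
    exact ⟨fun hf hg => mul_mem hf hg, fun hf => inv_mem hf, fun hf hg => h.comm _ _ _ hf _ hg⟩
  | succ k ih =>
    constructor
    · rintro s f g ⟨hf0, hf1⟩ ⟨hg0, hg1⟩
      refine ⟨ih.mul hf0 hg0, ?_⟩
      have h1 := ih.mul (ih.conj h hf1 (ih.inv hg0)) hg1
      have e : (fun l => (f (false :: l) * g (false :: l))⁻¹ * (f (true :: l) * g (true :: l))) =
          fun l => ((g (false :: l))⁻¹ * ((f (false :: l))⁻¹ * f (true :: l)) * ((g (false :: l))⁻¹)⁻¹) *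
            ((g (false :: l))⁻¹ * g (true :: l)) := by
        funext l; group
      change HK F k (s + 1) (fun l => (f (false :: l) * g (false :: l))⁻¹ * (f (true :: l) * g (true :: l)))
      rw [e]; exact h1
    · rintro s f ⟨hf0, hf1⟩
      refine ⟨ih.inv hf0, ?_⟩
      have h1 := ih.conj h (ih.inv hf1) hf0
      have e : (fun l => ((f (false :: l))⁻¹)⁻¹ * (f (true :: l))⁻¹) =
          fun l => f (false :: l) * ((f (false :: l))⁻¹ * f (true :: l))⁻¹ * (f (false :: l))⁻¹ := by
        funext l; group
      change HK F k (s + 1) (fun l => ((f (false :: l))⁻¹)⁻¹ * (f (true :: l))⁻¹)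
      rw [e]; exact h1
    · rintro s t f g ⟨hf0, hf1⟩ ⟨hg0, hg1⟩
      refine ⟨ih.comm hf0 hg0, ?_⟩
      change HK F k (s + t + 1) (fun l => ⁅f (false :: l), g (false :: l)⁆⁻¹ * ⁅f (true :: l), g (true :: l)⁆)
      -- pieces
      have a1 : HK F k (s + t + 1) (fun l => ⁅(f (false :: l))⁻¹ * f (true :: l), g (false :: l)⁆) :=
        HK.mono' h (by omega) (ih.comm hf1 hg0)
      have a2 : HK F k (s + t + 1) (fun l => ⁅f (false :: l), (g (false :: l))⁻¹ * g (true :: l)⁆) :=
        HK.mono' h (by omega) (ih.comm hf0 hg1)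
      have a3 : HK F k (s + t + 1) (fun l => ⁅(f (false :: l))⁻¹ * f (true :: l), (g (false :: l))⁻¹ * g (true :: l)⁆) :=
        HK.mono' h (by omega) (ih.comm hf1 hg1)
      have w := ih.comm hf0 hg0
      have b1 : HK F k (s + t + 1) (fun l => f (false :: l) * ⁅(f (false :: l))⁻¹ * f (true :: l), g (false :: l)⁆ *
          (f (false :: l))⁻¹) := ih.conj h a1 hf0
      have b2 : HK F k (s + t + 1) (fun l => g (false :: l) * ⁅f (false :: l), (g (false :: l))⁻¹ * g (true :: l)⁆ *
          (g (false :: l))⁻¹) := ih.conj h a2 hg0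
      have b3 : HK F k (s + t + 1) (fun l => g (false :: l) * ⁅(f (false :: l))⁻¹ * f (true :: l), (g (false :: l))⁻¹ * g (true :: l)⁆ *
          (g (false :: l))⁻¹) := ih.conj h a3 hg0
      have b4 := ih.conj h b3 hf0
      -- assemble
      have c2 : HK F k (s + t + 1) (fun l => (⁅f (false :: l), g (false :: l)⁆)⁻¹ *
          ((f (false :: l) * ⁅(f (false :: l))⁻¹ * f (true :: l), g (false :: l)⁆ * (f (false :: l))⁻¹) *
            (f (false :: l) * (g (false :: l) * ⁅(f (false :: l))⁻¹ * f (true :: l), (g (false :: l))⁻¹ * g (true :: l)⁆ *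
          (g (false :: l))⁻¹) * (f (false :: l))⁻¹)) * ((⁅f (false :: l), g (false :: l)⁆)⁻¹)⁻¹) :=
        ih.conj h (ih.mul b1 b4) (ih.inv w)
      have c3 := ih.mul c2 b2
      have e : (fun l => ⁅f (false :: l), g (false :: l)⁆⁻¹ * ⁅f (true :: l), g (true :: l)⁆) =
        (fun l => (⁅f (false :: l), g (false :: l)⁆)⁻¹ *
          ((f (false :: l) * ⁅(f (false :: l))⁻¹ * f (true :: l), g (false :: l)⁆ * (f (false :: l))⁻¹) *
            (f (false :: l) * (g (false :: l) * ⁅(f (false :: l))⁻¹ * f (true :: l), (g (false :: l))⁻¹ * g (true :: l)⁆ *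
          (g (false :: l))⁻¹) * (f (false :: l))⁻¹)) * ((⁅f (false :: l), g (false :: l)⁆)⁻¹)⁻¹ *
          (g (false :: l) * ⁅f (false :: l), (g (false :: l))⁻¹ * g (true :: l)⁆ * (g (false :: l))⁻¹)) := by
        funext l
        simp only [commutatorElement_def]
        group
      rw [e]; exact c3

/-- all cubes of `g` -/
def Poly (F : ℕ → Subgroup G) (s : ℕ) (g : ℕ → G) : Prop := ∀ k n, HK F k s (fun l => g (n + l.count true))

theorem Poly.mul (h : Filt F) {s : ℕ} {f g : ℕ → G} (hf : Poly F s f) (hg : Poly F s g) : Poly F s (fun n => f n * g n) :=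
  fun k n => (good h k).mul (hf k n) (hg k n)

theorem Poly.inv (h : Filt F) {s : ℕ} {f : ℕ → G} (hf : Poly F s f) : Poly F s (fun n => (f n)⁻¹) :=
  fun k n => (good h k).inv (hf k n)

theorem const {k : ℕ} : ∀ {s : ℕ} {c : G}, c ∈ F s → HK F k s (fun _ => c) := by
  induction k with
  | zero => intro s c hc; exact hc
  | succ k ih =>
    intro s c hc
    refine ⟨ih hc, ?_⟩
    simp only [inv_mul_cancel]
    exact HK.one

theorem binom (h : Filt F) (i : ℕ) : ∀ (s : ℕ) (c : G), c ∈ F (s + i) → Poly F s (fun n => c ^ (n.choose i)) := by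
  induction i with
  | zero =>
    intro s c hc k n
    simp only [Nat.choose_zero_right, pow_one]
    exact const hc
  | succ i ih =>
    intro s c hc k
    induction k with
    | zero =>
      intro n
      exact pow_mem (h.le s (i + 1) hc) _
    | succ k ihk =>
      intro n
      refine ⟨?_, ?_⟩
      · have := ihk n
        simp only [List.count_cons, Bool.false_eq_true, beq_iff_eq, if_false, add_zero]
        exact this
      · have h1 := ih (s + 1) c (by rw [show s + 1 + i = s + (i + 1) by ring]; exact hc) k n
        have e : (fun l : List Bool => (c ^ ((n + (false :: l).count true).choose (i + 1)))⁻¹ *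
            c ^ ((n + (true :: l).count true).choose (i + 1))) = fun l => c ^ ((n + l.count true).choose i) := by
          funext l
          have e1 : (false :: l).count true = l.count true := by simp
          have e2 : (true :: l).count true = l.count true + 1 := by simp
          rw [e1, e2, ← add_assoc, Nat.choose_succ_succ, add_comm ((n + l.count true).choose i), pow_add, inv_mul_cancel_left]
        change HK F k (s + 1) (fun l : List Bool => (c ^ ((n + (false :: l).count true).choose (i + 1)))⁻¹ *
            c ^ ((n + (true :: l).count true).choose (i + 1)))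
        rw [e]; exact h1

theorem pow (h : Filt F) {a : G} (ha : a ∈ F 1) : Poly F 0 (fun n => a ^ n) := by
  have := binom h 1 0 a (by rw [zero_add]; exact ha)
  simpa only [Nat.choose_one_right] using this

/-- the last entry of a cube with trivial other entries -/
theorem last {k : ℕ} : ∀ {s : ℕ} {f : List Bool → G}, HK F k s f →
    (∀ l : List Bool, l.length = k → l ≠ List.replicate k true → f l = 1) → f (List.replicate k true) ∈ F (s + k) := by
  induction k with
  | zero => intro s f hf _; exact hf
  | succ k ih =>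
    rintro s f ⟨hf0, hf1⟩ hz
    have h0 : ∀ l : List Bool, l.length = k → f (false :: l) = 1 := by
      intro l hl
      apply hz
      · simp [hl]
      · rw [List.replicate_succ]; simp
    have h1 := ih hf1 (by
      intro l hl hne
      rw [h0 l hl, inv_one, one_mul]
      apply hz
      · simp [hl]
      · rw [List.replicate_succ]
        intro h; exact hne (List.cons.inj h).2)
    change (f (false :: List.replicate k true))⁻¹ * f (true :: List.replicate k true) ∈ F (s + 1 + k) at h1
    rw [h0 _ (by simp), inv_one, one_mul] at h1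
    rw [List.replicate_succ, show s + (k + 1) = s + 1 + k by ring]
    exact h1

theorem count_lt {k : ℕ} {l : List Bool} (hl : l.length = k) (hne : l ≠ List.replicate k true) : l.count true < k := by
  have h1 : l.count true ≤ k := by rw [← hl]; exact List.count_le_length
  rcases h1.lt_or_eq with h | h
  · exact h
  · exfalso
    apply hne
    rw [List.eq_replicate_iff]
    refine ⟨hl, ?_⟩
    rw [← hl] at h
    intro b hb
    exact (List.count_eq_length.1 h b hb).symm

/-- Taylor expansion -/
theorem taylor (h : Filt F) {g : ℕ → G} (hg : Poly F 0 g) (N : ℕ) : ∃ c : ℕ → G, (∀ i, c i ∈ F i) ∧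
    Poly F 0 (fun n => (((List.range N).map (fun i => c i ^ (n.choose i))).prod)⁻¹ * g n) ∧
    ∀ n < N, g n = ((List.range N).map (fun i => c i ^ (n.choose i))).prod := by
  induction N with
  | zero =>
    refine ⟨fun _ => 1, fun i => one_mem _, ?_, fun n hn => absurd hn (Nat.not_lt_zero n)⟩
    simpa using hg
  | succ N ih =>
    obtain ⟨c, hc, hP, hz⟩ := ih
    set v : ℕ → G := fun n => (((List.range N).map (fun i => c i ^ (n.choose i))).prod)⁻¹ * g n with hv
    have hv0 : ∀ n < N, v n = 1 := by
      intro n hn
      change (((List.range N).map (fun i => c i ^ (n.choose i))).prod)⁻¹ * g n = 1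
      rw [← hz n hn, inv_mul_cancel]
    have hvN : v N ∈ F N := by
      have h1 := last (hP N 0) (by
        intro l hl hne
        have := hv0 _ (count_lt hl hne)
        change v (0 + l.count true) = 1
        rw [zero_add]; exact this)
      have e : (List.replicate N true).count true = N := by simp
      rw [zero_add] at h1
      change v (0 + (List.replicate N true).count true) ∈ F N at h1
      rw [e, zero_add] at h1
      exact h1
    have key : ∀ n : ℕ, ((List.range (N + 1)).map (fun i => Function.update c N (v N) i ^ (n.choose i))).prod =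
        ((List.range N).map (fun i => c i ^ (n.choose i))).prod * (v N) ^ (n.choose N) := by
      intro n
      rw [List.prod_range_succ, Function.update_self]
      congr 2
      apply List.map_congr_left
      intro i hi
      rw [Function.update_of_ne (List.mem_range.1 hi).ne]
    refine ⟨Function.update c N (v N), ?_, ?_, ?_⟩
    · intro i
      by_cases hi : i = N
      · subst hi; rw [Function.update_self]; exact hvN
      · rw [Function.update_of_ne hi]; exact hc i
    · have h1 := Poly.mul h (Poly.inv h (binom h N 0 (v N) (by rw [zero_add]; exact hvN))) hP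
      have e : (fun n : ℕ => (((List.range (N + 1)).map (fun i => Function.update c N (v N) i ^ (n.choose i))).prod)⁻¹ * g n) =
          fun n : ℕ => ((v N) ^ (n.choose N))⁻¹ * v n := by
        funext n
        rw [key, mul_inv_rev, mul_assoc]
      rw [e]; exact h1
    · intro n hn
      rw [key]
      rcases (Nat.lt_succ_iff.1 hn).lt_or_eq with h1 | rfl
      · rw [Nat.choose_eq_zero_of_lt h1, pow_zero, mul_one]
        exact hz n h1
      · rw [Nat.choose_self, pow_one]
        change _ = _ * ((((List.range n).map (fun i => c i ^ (n.choose i))).prod)⁻¹ * g n)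
        rw [mul_inv_cancel_left]

/-- Hall–Petrescu -/
theorem hall_petrescu (h : Filt F) {a b : G} (ha : a ∈ F 1) (hb : b ∈ F 1) (N : ℕ) : ∃ c : ℕ → G, (∀ i, c i ∈ F i) ∧
    c 0 = 1 ∧ c 1 = 1 ∧ ∀ n ≤ N, (a * b) ^ n = a ^ n * b ^ n * ((List.range (N + 2)).map (fun i => c i ^ (n.choose i))).prod := by
  have hg : Poly F 0 (fun n => (b ^ n)⁻¹ * ((a ^ n)⁻¹ * (a * b) ^ n)) :=
    Poly.mul h (Poly.inv h (pow h hb)) (Poly.mul h (Poly.inv h (pow h ha)) (pow h (mul_mem ha hb)))
  obtain ⟨c, hc, -, hz⟩ := taylor h hg (N + 2)
  have e0 : c 0 = 1 := by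
    have h0 := hz 0 (by omega)
    rw [List.range_succ_eq_map, List.map_cons, List.prod_cons] at h0
    have : ((List.map Nat.succ (List.range (N + 1))).map (fun i => c i ^ (Nat.choose 0 i))).prod = 1 := by
      apply List.prod_eq_one
      intro x hx
      rw [List.mem_map] at hx
      obtain ⟨i, hi, rfl⟩ := hx
      rw [List.mem_map] at hi
      obtain ⟨j, -, rfl⟩ := hi
      simp
    rw [this] at h0
    simpa using h0.symm
  have e1 : c 1 = 1 := by
    have h0 := hz 1 (by omega)
    rw [List.range_succ_eq_map, List.map_cons, List.prod_cons, List.range_succ_eq_map, List.map_cons, List.map_cons,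
      List.prod_cons] at h0
    have : ((List.map Nat.succ (List.map Nat.succ (List.range N))).map (fun i => c i ^ (Nat.choose 1 i))).prod = 1 := by
      apply List.prod_eq_one
      intro x hx
      rw [List.mem_map] at hx
      obtain ⟨i, hi, rfl⟩ := hx
      rw [List.mem_map] at hi
      obtain ⟨j, hj, rfl⟩ := hi
      rw [List.mem_map] at hj
      obtain ⟨k, -, rfl⟩ := hj
      rw [Nat.choose_eq_zero_of_lt (by simp)]; simp
    rw [this, e0] at h0
    simp only [pow_one, one_pow, one_mul, mul_one, Nat.succ_eq_add_one, zero_add, Nat.choose_self] at h0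
    rw [← h0]; group
  refine ⟨c, hc, e0, e1, fun n hn => ?_⟩
  rw [← hz n (by omega)]
  group

end Cfsg.Agent.H2.HallP
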