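import Mathlib
import Cfsg.Prelude
import Cfsg.Agent.H1_Nilp
import Cfsg.Agent.H2_Card

/-! Regular `p`-groups. -/

set_option autoImplicit false
set_option linter.unusedSectionVars false
set_option linter.style.haveILetI false

open Subgroup Cfsg
open scoped commutatorElement

namespace Cfsg.Agent.H2.Reg

variable {G : Type*} [Group G]

/-- generated by the `q`-th powers -/
def PC (q : ℕ) (H : Subgroup G) : Subgroup G := closure {y : G | ∃ x ∈ H, y = x ^ q}

theorem powerClosure_eq (p n : ℕ) (H : Subgroup G) : powerClosure p n H = PC (p ^ n) H := rfl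

theorem PC_mono {q : ℕ} {H K : Subgroup G} (h : H ≤ K) : PC q H ≤ PC q K := by
  apply Subgroup.closure_mono
  rintro _ ⟨x, hx, rfl⟩
  exact ⟨x, h hx, rfl⟩

theorem pow_mem_PC {q : ℕ} {H : Subgroup G} {x : G} (hx : x ∈ H) : x ^ q ∈ PC q H := subset_closure ⟨x, hx, rfl⟩

/-- the pair subgroup -/
abbrev Pr (a b : G) : Subgroup G := closure ({a, b} : Set G)

theorem left_mem (a b : G) : a ∈ Pr a b := subset_closure (by simp)
theorem right_mem (a b : G) : b ∈ Pr a b := subset_closure (by simp)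

theorem pr_le {a b : G} {H : Subgroup G} (ha : a ∈ H) (hb : b ∈ H) : Pr a b ≤ H := by
  rw [closure_le]
  rintro x hx
  rcases hx with rfl | hx
  · exact ha
  · rw [Set.mem_singleton_iff] at hx; rw [hx]; exact hb

/-- regularity for the exponent `q` -/
def R (q : ℕ) (G : Type*) [Group G] : Prop := ∀ a b : G, ∃ c ∈ PC q ⁅Pr a b, Pr a b⁆, (a * b) ^ q = a ^ q * b ^ q * c

/-- commutators modulo a normalized subgroup -/
theorem comm_pr_le {a b : G} {N : Subgroup G} (hN : Pr a b ≤ normalizer (N : Set G)) (h : ⁅a, b⁆ ∈ N) :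
    ⁅Pr a b, Pr a b⁆ ≤ N := by
  have key : ∀ x ∈ Pr a b, ⁅x, a⁆ ∈ N → ⁅x, b⁆ ∈ N → ∀ y ∈ Pr a b, ⁅x, y⁆ ∈ N := by
    intro x hx hxa hxb y hy
    have hxN := hN hx
    induction hy using closure_induction with
    | mem y hy =>
      rcases hy with rfl | hy
      · exact hxa
      · rw [Set.mem_singleton_iff] at hy; rw [hy]; exact hxb
    | one => simp
    | mul y z hy hz ihy ihz =>
      have e : ⁅x, y * z⁆ = ⁅x, y⁆ * (y * ⁅x, z⁆ * y⁻¹) := by simp only [commutatorElement_def]; group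
      rw [e]
      exact mul_mem ihy ((mem_normalizer_iff.1 (hN hy) _).1 ihz)
    | inv y hy ihy =>
      have e : ⁅x, y⁻¹⁆ = y⁻¹ * ⁅x, y⁆⁻¹ * y⁻¹⁻¹ := by simp only [commutatorElement_def]; group
      rw [e]
      exact (mem_normalizer_iff.1 (inv_mem (hN hy)) _).1 (inv_mem ihy)
  have key2 : ∀ x y : G, ⁅x, y⁆ ∈ N → ⁅y, x⁆ ∈ N := by
    intro x y h
    rw [← commutatorElement_inv]; exact inv_mem h
  have ha := key a (left_mem a b) (by simp) h
  have hb := key b (right_mem a b) (key2 _ _ h) (by simp)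
  rw [commutator_le]
  intro x hx y hy
  exact key x hx (key2 _ _ (ha x hx)) (key2 _ _ (hb x hx)) y hy

theorem comm_le (H : Subgroup G) : ⁅H, H⁆ ≤ H := by
  rw [commutator_le]
  intro x hx y hy
  rw [commutatorElement_def]
  exact mul_mem (mul_mem (mul_mem hx hy) (inv_mem hx)) (inv_mem hy)

theorem comm_subgroupOf (H : Subgroup G) : ⁅H, H⁆.subgroupOf H = _root_.commutator H := by
  rw [_root_.commutator_def, subgroupOf, ← comap_map_eq_self_of_injective H.subtype_injective ⁅(⊤ : Subgroup H), ⊤⁆,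
    map_commutator, ← MonoidHom.range_eq_map, range_subtype]

theorem comm_norm (H : Subgroup G) : H ≤ normalizer ((⁅H, H⁆ : Subgroup G) : Set G) := by
  have : (⁅H, H⁆.subgroupOf H).Normal := by rw [comm_subgroupOf]; infer_instance
  exact (normal_subgroupOf_iff_le_normalizer (comm_le H)).1 this

section

variable [Finite G] {p : ℕ} [hp : Fact p.Prime]

theorem frat (hG : IsPGroup p G) {H L : Subgroup G} (hLH : L ≤ H) (h : H ≤ L ⊔ ⁅H, H⁆) : L = H := by
  have h1 : L.subgroupOf H ⊔ frattini H = ⊤ := by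
    rw [eq_top_iff]
    rintro ⟨x, hx⟩ _
    have hx' := h hx
    rw [Cfsg.Agent.H2.Card.mem_sup_iff (hLH.trans (comm_norm H))] at hx'
    obtain ⟨l, hl, c, hc, hlc⟩ := hx'
    have hcH : c ∈ H := comm_le H hc
    have h3 : (⟨c, hcH⟩ : H) ∈ _root_.commutator H := by
      rw [← comm_subgroupOf]; exact hc
    have h4 : (⟨x, hx⟩ : H) = ⟨l, hLH hl⟩ * ⟨c, hcH⟩ := Subtype.ext hlc.symm
    rw [h4]
    exact mul_mem ((le_sup_left : L.subgroupOf H ≤ L.subgroupOf H ⊔ frattini H) hl)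
      ((le_sup_right : frattini H ≤ L.subgroupOf H ⊔ frattini H)
        ((Cfsg.Agent.H1.Nilp.commutator_le_frattini (hG.to_subgroup H)).1 h3))
  have h2 := frattini_nongenerating h1
  rw [subgroupOf_eq_top] at h2
  exact le_antisymm hLH h2

/-- `⟨x⟩ H'` is proper in a nonabelian `p`-group `H`. -/
theorem proper (hG : IsPGroup p G) {H : Subgroup G} {a b : G} (ha : a ∈ H) (hb : b ∈ H) (hab : a * b ≠ b * a) {x : G} (hx : x ∈ H) :
    zpowers x ⊔ ⁅H, H⁆ < H := by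
  have hxH : zpowers x ≤ H := by rwa [zpowers_le]
  refine lt_of_le_of_ne (sup_le hxH (comm_le H)) fun h => ?_
  have h1 := frat hG hxH h.ge
  rw [← h1] at ha hb
  obtain ⟨k, rfl⟩ := ha
  obtain ⟨l, rfl⟩ := hb
  exact hab (zpow_mul_comm x k l)

theorem comm_lt (hG : IsPGroup p G) {H : Subgroup G} {a b : G} (ha : a ∈ H) (hb : b ∈ H) (hab : a * b ≠ b * a) : ⁅H, H⁆ < H :=
  lt_of_le_of_lt le_sup_right (proper hG ha hb hab ha)

variable {q : ℕ}

/-- products of powers are powers -/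
theorem mul_pow_aux (hG : IsPGroup p G) (hR : R q G) (n : ℕ) : ∀ a b : G, Nat.card (Pr a b) = n →
    ∃ d ∈ Pr a b, a ^ q * b ^ q = d ^ q := by
  induction n using Nat.strong_induction_on with
  | _ n ih =>
  intro a b hn
  have ha := left_mem a b
  have hb := right_mem a b
  by_cases hab : a * b = b * a
  · exact ⟨a * b, mul_mem ha hb, ((show Commute a b from hab).mul_pow q).symm⟩
  obtain ⟨c, hc, hcab⟩ := hR a b
  have hlt := comm_lt hG ha hb hab
  have ih' : ∀ K : Subgroup G, K < Pr a b → ∀ x ∈ K, ∀ y ∈ K, ∃ d ∈ K, x ^ q * y ^ q = d ^ q := by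
    intro K hK x hx y hy
    have h1 : Nat.card (Pr x y) < n := by
      rw [← hn]
      exact Cfsg.Agent.H2.Card.card_lt_of_lt (lt_of_le_of_lt (pr_le hx hy) hK)
    obtain ⟨d, hd, h⟩ := ih _ h1 x y rfl
    exact ⟨d, pr_le hx hy hd, h⟩
  have hpow : ∀ y ∈ PC q ⁅Pr a b, Pr a b⁆, ∃ t ∈ ⁅Pr a b, Pr a b⁆, y = t ^ q := by
    intro y hy
    induction hy using closure_induction with
    | mem y hy => exact hy
    | one => exact ⟨1, one_mem _, (one_pow q).symm⟩
    | mul y z _ _ hy hz =>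
      obtain ⟨s, hs, rfl⟩ := hy
      obtain ⟨t, ht, rfl⟩ := hz
      exact ih' _ hlt s hs t ht
    | inv y _ hy =>
      obtain ⟨s, hs, rfl⟩ := hy
      exact ⟨s⁻¹, inv_mem hs, (inv_pow s q).symm⟩
  obtain ⟨t, ht, htc⟩ := hpow c⁻¹ (inv_mem hc)
  have hpr := proper hG ha hb hab (mul_mem ha hb)
  obtain ⟨d, hd, hdd⟩ := ih' _ hpr (a * b) ((le_sup_left : zpowers (a * b) ≤ _) (mem_zpowers _)) t
    ((le_sup_right : ⁅Pr a b, Pr a b⁆ ≤ _) ht)
  refine ⟨d, hpr.le hd, ?_⟩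
  rw [← hdd, hcab, ← htc]; group

theorem mem_PC_iff (hG : IsPGroup p G) (hR : R q G) {H : Subgroup G} {y : G} : y ∈ PC q H ↔ ∃ x ∈ H, y = x ^ q := by
  constructor
  · intro hy
    induction hy using closure_induction with
    | mem y hy => exact hy
    | one => exact ⟨1, one_mem _, (one_pow q).symm⟩
    | mul y z _ _ hy hz =>
      obtain ⟨s, hs, rfl⟩ := hy
      obtain ⟨t, ht, rfl⟩ := hz
      obtain ⟨d, hd, h⟩ := mul_pow_aux hG hR _ s t rfl
      exact ⟨d, pr_le hs ht hd, h⟩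
    | inv y _ hy =>
      obtain ⟨s, hs, rfl⟩ := hy
      exact ⟨s⁻¹, inv_mem hs, (inv_pow s q).symm⟩
  · rintro ⟨x, hx, rfl⟩; exact pow_mem_PC hx

theorem PC_normalized {H K : Subgroup G} (h : K ≤ normalizer (H : Set G)) : K ≤ normalizer (PC q H : Set G) := by
  intro k hk
  apply mem_normalizer_fintype
  intro y hy
  have h1 : PC q H ≤ (PC q H).comap (MulAut.conj k).toMonoidHom := by
    rw [PC, closure_le]
    rintro _ ⟨x, hx, rfl⟩
    change k * x ^ q * k⁻¹ ∈ PC q H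
    rw [← conj_pow]
    exact pow_mem_PC ((mem_normalizer_iff.1 (h hk) x).1 hx)
  exact h1 hy

/-- the derived group of the power subgroup -/
theorem comm_PC_le (hG : IsPGroup p G) (hR : R q G) (H : Subgroup G) : ⁅PC q H, PC q H⁆ ≤ PC q ⁅H, H⁆ := by
  rw [commutator_le]
  intro x hx y hy
  obtain ⟨a, ha, rfl⟩ := (mem_PC_iff hG hR).1 hx
  obtain ⟨b, hb, rfl⟩ := (mem_PC_iff hG hR).1 hy
  have hbq : b ^ q ∈ H := pow_mem hb q
  have hab : ⁅a, b ^ q⁆ ∈ ⁅H, H⁆ := commutator_mem_commutator ha hbq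
  -- `[a^q, b^q] = a^q (b^q a b^{-q})^{-q}`
  have e1 : ⁅a ^ q, b ^ q⁆ = a ^ q * ((b ^ q * a * (b ^ q)⁻¹) ^ q)⁻¹ := by
    rw [conj_pow, commutatorElement_def]; group
  have e2 : b ^ q * a * (b ^ q)⁻¹ = ⁅b ^ q, a⁆ * a := by rw [commutatorElement_def]; group
  have hba : ⁅b ^ q, a⁆ ∈ ⁅H, H⁆ := commutator_mem_commutator hbq ha
  obtain ⟨c, hc, hcc⟩ := hR ⁅b ^ q, a⁆ a
  have hc' : c ∈ PC q ⁅H, H⁆ := by
    apply PC_mono _ hc
    exact commutator_mono (pr_le (comm_le H hba) ha) (pr_le (comm_le H hba) ha)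
  have hN : H ≤ normalizer (PC q ⁅H, H⁆ : Set G) := PC_normalized (comm_norm H)
  rw [e1, e2, hcc]
  have e3 : a ^ q * (⁅b ^ q, a⁆ ^ q * a ^ q * c)⁻¹ = a ^ q * c⁻¹ * (a ^ q)⁻¹ * (⁅b ^ q, a⁆ ^ q)⁻¹ := by group
  rw [e3]
  exact mul_mem ((mem_normalizer_iff.1 (hN (pow_mem ha q)) _).1 (inv_mem hc')) (inv_mem (pow_mem_PC hba))

/-- `a^q = b^q` implies `(a⁻¹ b)^q = 1` -/
theorem eq_aux (hG : IsPGroup p G) (hR : R q G) (n : ℕ) : ∀ a b : G, Nat.card (Pr a b) = n →
    a ^ q = b ^ q → (a⁻¹ * b) ^ q = 1 := by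
  induction n using Nat.strong_induction_on with
  | _ n ih =>
  intro a b hn h
  have ha := left_mem a b
  have hb := right_mem a b
  by_cases hab : a * b = b * a
  · have hc : Commute a⁻¹ b := (show Commute a b from hab).inv_left
    rw [hc.mul_pow, inv_pow, h, inv_mul_cancel]
  have ih' : ∀ K : Subgroup G, K < Pr a b → ∀ x ∈ K, ∀ y ∈ K, x ^ q = y ^ q → (x⁻¹ * y) ^ q = 1 := by
    intro K hK x hx y hy
    have h1 : Nat.card (Pr x y) < n := by
      rw [← hn]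
      exact Cfsg.Agent.H2.Card.card_lt_of_lt (lt_of_le_of_lt (pr_le hx hy) hK)
    exact ih _ h1 x y rfl
  have hlt := comm_lt hG ha hb hab
  -- `[a,b]^q = 1`
  have hpr := proper hG ha hb hab ha
  have hcom : ⁅b, a⁆ ∈ ⁅Pr a b, Pr a b⁆ := commutator_mem_commutator hb ha
  have h1 : (b * a * b⁻¹) ^ q = a ^ q := by
    rw [conj_pow, h]; group
  have h2 := ih' _ hpr a ((le_sup_left : zpowers a ≤ _) (mem_zpowers _)) (b * a * b⁻¹) (by
    have e : b * a * b⁻¹ = ⁅b, a⁆ * a := by rw [commutatorElement_def]; group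
    rw [e]
    exact mul_mem ((le_sup_right : ⁅Pr a b, Pr a b⁆ ≤ _) hcom) ((le_sup_left : zpowers a ≤ _) (mem_zpowers _))) h1.symm
  -- the subgroup of elements of order dividing `q` in the derived group
  let N : Subgroup G :=
    { carrier := {x | x ∈ ⁅Pr a b, Pr a b⁆ ∧ x ^ q = 1}
      one_mem' := ⟨one_mem _, one_pow q⟩
      mul_mem' := by
        rintro x y ⟨hx, hxq⟩ ⟨hy, hyq⟩
        refine ⟨mul_mem hx hy, ?_⟩
        have := ih' _ hlt x⁻¹ (inv_mem hx) y hy (by rw [inv_pow, hxq, hyq, inv_one])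
        rwa [inv_inv] at this
      inv_mem' := by
        rintro x ⟨hx, hxq⟩
        exact ⟨inv_mem hx, by rw [inv_pow, hxq, inv_one]⟩ }
  have hN : Pr a b ≤ normalizer (N : Set G) := by
    intro k hk
    apply mem_normalizer_fintype
    rintro y ⟨hy, hyq⟩
    refine ⟨(mem_normalizer_iff.1 (comm_norm _ hk) y).1 hy, ?_⟩
    rw [conj_pow, hyq]; group
  have h3 : ⁅Pr a b, Pr a b⁆ ≤ N := by
    apply comm_pr_le hN
    refine ⟨commutator_mem_commutator ha hb, ?_⟩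
    have e : ⁅a, b⁆ = a * (a⁻¹ * (b * a * b⁻¹))⁻¹ * a⁻¹ := by rw [commutatorElement_def]; group
    rw [e, conj_pow, inv_pow, h2]; group
  obtain ⟨c, hc, hcc⟩ := hR a⁻¹ b
  have hc1 : c = 1 := by
    have h4 : ⁅Pr a⁻¹ b, Pr a⁻¹ b⁆ ≤ ⁅Pr a b, Pr a b⁆ :=
      commutator_mono (pr_le (inv_mem ha) hb) (pr_le (inv_mem ha) hb)
    have h5 : PC q ⁅Pr a⁻¹ b, Pr a⁻¹ b⁆ ≤ ⊥ := by
      rw [PC, closure_le]
      rintro _ ⟨x, hx, rfl⟩
      rw [SetLike.mem_coe, mem_bot]
      exact (h3 (h4 hx)).2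
    exact mem_bot.1 (h5 hc)
  rw [hcc, hc1, inv_pow, h]; group

theorem eq_of (hG : IsPGroup p G) (hR : R q G) {a b : G} (h : a ^ q = b ^ q) : (a⁻¹ * b) ^ q = 1 := eq_aux hG hR _ a b rfl h

theorem omega_mul (hG : IsPGroup p G) (hR : R q G) {a b : G} (ha : a ^ q = 1) (hb : b ^ q = 1) : (a * b) ^ q = 1 := by
  have := eq_of hG hR (a := a⁻¹) (b := b) (by rw [inv_pow, ha, hb, inv_one])
  rwa [inv_inv] at this

/-- elements of order dividing `q` -/
def Om (hG : IsPGroup p G) (hR : R q G) : Subgroup G where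
  carrier := {x | x ^ q = 1}
  one_mem' := one_pow q
  mul_mem' := omega_mul hG hR
  inv_mem' := by
    intro x hx
    change x⁻¹ ^ q = 1
    rw [inv_pow, show x ^ q = 1 from hx, inv_one]

instance Om_char (hG : IsPGroup p G) (hR : R q G) : (Om hG hR).Characteristic := by
  rw [characteristic_iff_map_le]
  rintro φ _ ⟨x, hx, rfl⟩
  change (φ x) ^ q = 1
  rw [← map_pow, show x ^ q = 1 from hx, map_one]

theorem of_eq (hG : IsPGroup p G) (hR : R q G) {a b : G} (h : (a⁻¹ * b) ^ q = 1) : a ^ q = b ^ q := by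
  have hn : (Om hG hR).Normal := inferInstance
  set x := a⁻¹ * b with hx
  have hb : b = a * x := by rw [hx]; group
  obtain ⟨c, hc, hcc⟩ := hR a x
  have h1 : ⁅Pr a x, Pr a x⁆ ≤ Om hG hR := by
    apply comm_pr_le (by rw [normalizer_eq_top]; exact le_top)
    have e : ⁅a, x⁆ = (a * x * a⁻¹) * x⁻¹ := by rw [commutatorElement_def]
    rw [e]
    exact mul_mem (hn.conj_mem x h a) (inv_mem (show x ∈ Om hG hR from h))
  have hc1 : c = 1 := by
    have h5 : PC q ⁅Pr a x, Pr a x⁆ ≤ ⊥ := by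
      rw [PC, closure_le]
      rintro _ ⟨y, hy, rfl⟩
      rw [SetLike.mem_coe, mem_bot]
      exact h1 hy
    exact mem_bot.1 (h5 hc)
  rw [hb, hcc, hc1, h, mul_one, mul_one]

theorem eq_iff (hG : IsPGroup p G) (hR : R q G) {a b : G} : a ^ q = b ^ q ↔ (a⁻¹ * b) ^ q = 1 :=
  ⟨eq_of hG hR, of_eq hG hR⟩

theorem eq_iff' (hG : IsPGroup p G) (hR : R q G) {a b : G} : a ^ q = b ^ q ↔ (a * b⁻¹) ^ q = 1 := by
  have h1 := eq_iff hG hR (a := a⁻¹) (b := b⁻¹)
  rw [inv_pow, inv_pow, inv_inj, inv_inv] at h1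
  exact h1

theorem comm_iff (hG : IsPGroup p G) (hR : R q G) {a b : G} : a ^ q * b = b * a ^ q ↔ (a⁻¹ * b⁻¹ * a * b) ^ q = 1 := by
  have h1 := eq_iff hG hR (a := a) (b := b⁻¹ * a * b)
  have e : a⁻¹ * (b⁻¹ * a * b) = a⁻¹ * b⁻¹ * a * b := by group
  rw [e] at h1
  rw [← h1]
  have e2 : (b⁻¹ * a * b) ^ q = b⁻¹ * a ^ q * b := by
    have := conj_pow (a := b⁻¹) (b := a) (i := q)
    rwa [inv_inv] at this
  rw [e2]
  constructor
  · intro h; rw [mul_assoc, h]; group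
  · intro h; nth_rewrite 2 [h]; group

/-- regularity for all powers of `p` from regularity for `p` -/
theorem R_pow (hG : IsPGroup p G) (hR : R p G) (n : ℕ) : R (p ^ n) G := by
  induction n with
  | zero =>
    intro a b
    exact ⟨1, one_mem _, by simp⟩
  | succ n ih =>
    intro a b
    obtain ⟨c, hc, hcc⟩ := hR a b
    set H := Pr a b with hH
    have ha := left_mem a b
    have hb := right_mem a b
    obtain ⟨t, ht, rfl⟩ := (mem_PC_iff hG hR).1 hc
    have htH : t ∈ H := comm_le H ht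
    -- the inclusion
    have hinc : ∀ K : Subgroup G, K ≤ PC p H → PC (p ^ n) ⁅K, K⁆ ≤ PC (p ^ (n + 1)) ⁅H, H⁆ := by
      intro K hK
      rw [PC, closure_le]
      rintro _ ⟨x, hx, rfl⟩
      have h1 : x ∈ PC p ⁅H, H⁆ := comm_PC_le hG hR H (commutator_mono hK hK hx)
      obtain ⟨y, hy, rfl⟩ := (mem_PC_iff hG hR).1 h1
      rw [SetLike.mem_coe, ← pow_mul, ← pow_succ']
      exact pow_mem_PC hy
    have hap : a ^ p ∈ PC p H := pow_mem_PC ha
    have hbp : b ^ p ∈ PC p H := pow_mem_PC hb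
    have htp : t ^ p ∈ PC p H := pow_mem_PC htH
    obtain ⟨d₁, hd₁, h1⟩ := ih (a ^ p * b ^ p) (t ^ p)
    obtain ⟨d₂, hd₂, h2⟩ := ih (a ^ p) (b ^ p)
    have hd₁' := hinc _ (pr_le (mul_mem hap hbp) htp) hd₁
    have hd₂' := hinc _ (pr_le hap hbp) hd₂
    refine ⟨d₂ * (t ^ p) ^ p ^ n * d₁, ?_, ?_⟩
    · refine mul_mem (mul_mem hd₂' ?_) hd₁'
      rw [← pow_mul, ← pow_succ']
      exact pow_mem_PC ht
    · rw [pow_succ', pow_mul, hcc, h1, h2, pow_mul, pow_mul]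
      group

theorem regular_iff (hG : IsPGroup p G) : IsRegularPGroup p G ↔ R p G := by
  constructor
  · rintro ⟨-, h⟩ a b
    have := h a b 1
    rw [powerClosure_eq, pow_one] at this
    exact this
  · intro h
    exact ⟨hG, fun a b n => R_pow hG h n a b⟩

end

end Cfsg.Agent.H2.Reg
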