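import Mathlib
import Cfsg.Agent.H2_Reg
import Cfsg.Agent.H2_HallP
import Cfsg.Agent.S4206

/-! `p`-groups of class less than `p` are regular. -/

set_option autoImplicit false
set_option linter.unusedSectionVars false

open Subgroup Cfsg
open scoped commutatorElement

namespace Cfsg.Agent.H2.Reg

/-- the lower central filtration -/
def LF (G : Type*) [Group G] : ℕ → Subgroup G
  | 0 => ⊤
  | i + 1 => (⊤ : Subgroup G).lowerCentralSeries i

theorem LF_filt (G : Type*) [Group G] [Finite G] : HallP.Filt (LF G) := by
  have hn : ∀ i, (LF G i).Normal := by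
    rintro (_ | i)
    · change (⊤ : Subgroup G).Normal; infer_instance
    · change ((⊤ : Subgroup G).lowerCentralSeries i).Normal; infer_instance
  constructor
  · rintro (_ | i)
    · exact le_top
    · exact Subgroup.lowerCentralSeries_antitone _ (Nat.le_succ i)
  · rintro (_ | i) (_ | j) x hx y hy
    · trivial
    · rw [zero_add, commutatorElement_def]
      exact mul_mem ((hn (j + 1)).conj_mem y hy x) (inv_mem hy)
    · rw [add_zero, commutatorElement_def, mul_assoc, mul_assoc]
      refine mul_mem hx ?_
      rw [← mul_assoc]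
      exact (hn (i + 1)).conj_mem _ (inv_mem hx) y
    · have h1 := Cfsg.Agent.S4206.result (fun i => (⊤ : Subgroup G).lowerCentralSeries i) (fun i => inferInstance)
        (fun i => Subgroup.lowerCentralSeries_antitone _ (Nat.le_succ i)) ⊤ (fun i => le_rfl) i j
      have h2 := h1 (commutator_mem_commutator hx hy)
      rw [show i + 1 + (j + 1) = (i + j + 1) + 1 by ring]
      exact h2

theorem R_of_class {G : Type*} [Group G] [Finite G] {p : ℕ} [hp : Fact p.Prime]
    (hcl : (⊤ : Subgroup G).lowerCentralSeries (p - 1) = ⊥) : R p G := by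
  intro a b
  set H := Pr a b with hH
  set a' : H := ⟨a, left_mem a b⟩ with ha'
  set b' : H := ⟨b, right_mem a b⟩ with hb'
  obtain ⟨c, hc, c0, c1, hz⟩ := HallP.hall_petrescu (LF_filt H) (a := a') (b := b') (by trivial) (by trivial) p
  have h1 := hz p le_rfl
  have hcl' : (⊤ : Subgroup H).lowerCentralSeries (p - 1) = ⊥ := by
    apply Subgroup.map_injective H.subtype_injective
    rw [Subgroup.map_bot, eq_bot_iff, ← hcl, map_lowerCentralSeries]
    have : ∀ n, ((⊤ : Subgroup H).map H.subtype).lowerCentralSeries n ≤ (⊤ : Subgroup G).lowerCentralSeries n := by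
      intro n
      induction n with
      | zero => exact le_top
      | succ n ih =>
        rw [Subgroup.lowerCentralSeries_succ, Subgroup.lowerCentralSeries_succ]
        exact commutator_mono ih le_top
    exact this _
  set P := ((List.range (p + 2)).map (fun i => c i ^ (p.choose i))).prod with hP
  have hPmem : (P : G) ∈ PC p ⁅H, H⁆ := by
    have h2 : P ∈ (PC p ⁅H, H⁆).subgroupOf H := by
      apply list_prod_mem
      intro x hx
      rw [List.mem_map] at hx
      obtain ⟨i, hi, rfl⟩ := hx
      rw [List.mem_range] at hi
      have hpos := hp.out.pos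
      rcases Nat.lt_or_ge i 2 with h3 | h3
      · have : i = 0 ∨ i = 1 := by omega
        rcases this with rfl | rfl
        · rw [c0, one_pow]; exact one_mem _
        · rw [c1, one_pow]; exact one_mem _
      rcases Nat.lt_trichotomy i p with h4 | h4 | h4
      · obtain ⟨k, hk⟩ := hp.out.dvd_choose_self (by omega : i ≠ 0) h4
        rw [hk, mul_comm, pow_mul]
        have h5 : c i ^ k ∈ _root_.commutator H := by
          apply pow_mem
          obtain ⟨j, rfl⟩ : ∃ j, i = j + 2 := ⟨i - 2, by omega⟩
          have h6 : c (j + 2) ∈ (⊤ : Subgroup H).lowerCentralSeries (j + 1) := hc (j + 2)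
          have h7 : (⊤ : Subgroup H).lowerCentralSeries (j + 1) ≤ (⊤ : Subgroup H).lowerCentralSeries 1 :=
            Subgroup.lowerCentralSeries_antitone _ (by omega)
          exact h7 h6
        rw [mem_subgroupOf]
        change ((c i ^ k : H) : G) ^ p ∈ _
        apply pow_mem_PC
        rw [← comm_subgroupOf, mem_subgroupOf] at h5
        exact h5
      · obtain ⟨j, hj⟩ : ∃ j, i = j + 1 := ⟨i - 1, by omega⟩
        have h6 : c i ∈ LF H i := hc i
        rw [hj] at h6
        have h7 : c (j + 1) ∈ (⊤ : Subgroup H).lowerCentralSeries j := h6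
        have hjp : j = p - 1 := by omega
        rw [hjp, hcl', mem_bot, ← hjp, ← hj] at h7
        rw [h7, one_pow]; exact one_mem _
      · rw [Nat.choose_eq_zero_of_lt h4, pow_zero]; exact one_mem _
    exact h2
  exact ⟨P, hPmem, congrArg Subtype.val h1⟩

end Cfsg.Agent.H2.Reg
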