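import Cfsg.Statements.S0638
import Mathlib
import Cfsg.Agent.H2_Rank3

set_option autoImplicit false
open Cfsg

namespace Cfsg.Agent.S0638

open Subgroup Cfsg Cfsg.Agent.H2.Card

/-- For odd p, in a non-cyclic metacyclic p-group the elements of order dividing p generate an elementary abelian subgroup of order p². -/
theorem result {R : Type*} [Group R] [Finite R] {p : ℕ} [Fact p.Prime] (hp : p ≠ 2) (hR : IsPGroup p R) (hm : Cfsg.IsMetacyclic R) (hnc : ¬ IsCyclic R) : Cfsg.IsElementaryAbelian p (Cfsg.omegaOne p (⊤ : Subgroup R)) ∧ Nat.card ↥(Cfsg.omegaOne p (⊤ : Subgroup R)) = p ^ 2 := by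
  have hpp : p.Prime := Fact.out
  obtain ⟨A, -, hAn, hAe, hAc⟩ := Cfsg.Agent.H2.Rank2.exists_normal_rank_two hp hR ⊤ inferInstance (by
    intro h
    exact hnc (isCyclic_of_surjective (Subgroup.topEquiv (G := R)) (Subgroup.topEquiv (G := R)).surjective))
  obtain ⟨N, hN, hNc, hQ⟩ := hm
  have hmem : ∀ x : R, x ^ p = 1 → x ∈ A := by
    intro x hx
    by_contra hxA
    have h1 := Cfsg.Agent.H2.Rank3.exponent_sup hp hR A hAn hAe hAc.le hx
    have h2 := Cfsg.Agent.H2.Rank3.card_le_sq_of_metacyclic hN hNc hQ h1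
    have hlt : A < A ⊔ zpowers x := by
      refine lt_of_le_of_ne le_sup_left ?_
      intro h
      apply hxA
      rw [h]
      exact (le_sup_right : zpowers x ≤ A ⊔ zpowers x) (mem_zpowers x)
    have := card_lt_of_lt hlt
    omega
  have hom : omegaOne p (⊤ : Subgroup R) = A := by
    apply le_antisymm
    · rw [omegaOne, closure_le]
      rintro x ⟨-, hx⟩
      exact hmem x hx
    · intro a ha
      exact Subgroup.subset_closure ⟨mem_top _, hAe.2 a ha⟩
  rw [hom]
  exact ⟨hAe, hAc⟩

end Cfsg.Agent.S0638
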