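import Mathlib
import Cfsg.Prelude
import Cfsg.Agent.H2_Reg2
import Cfsg.Agent.H2_Meta2
import Cfsg.Agent.H2_PGroup
import Cfsg.Agent.H2_Card
import Cfsg.Agent.S0638
import Cfsg.Agent.H2_Alperin
import Cfsg.Agent.H1_Nilp

/-! Huppert's criterion for metacyclic p-groups; p-groups of rank two. -/

set_option autoImplicit false
set_option linter.unusedSectionVars false
set_option linter.style.haveILetI false

open Subgroup Cfsg
open scoped commutatorElement

universe u

namespace Cfsg.Agent.H2.Hup

open Cfsg.Agent.H2.Reg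

theorem PC_map {G G' : Type*} [Group G] [Group G'] (f : G →* G') (q : ℕ) (H : Subgroup G) :
    (PC q H).map f = PC q (H.map f) := by
  rw [PC, PC, MonoidHom.map_closure]
  congr 1
  ext y
  constructor
  · rintro ⟨_, ⟨x, hx, rfl⟩, rfl⟩
    exact ⟨f x, ⟨x, hx, rfl⟩, map_pow f x q⟩
  · rintro ⟨_, ⟨x, hx, rfl⟩, rfl⟩
    exact ⟨x ^ q, ⟨x, hx, rfl⟩, map_pow f x q⟩

theorem PC_le {G : Type*} [Group G] {q : ℕ} {H : Subgroup G} : PC q H ≤ H := by
  rw [PC, closure_le]
  rintro _ ⟨x, hx, rfl⟩
  exact pow_mem hx q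

theorem PC_subgroupOf {G : Type*} [Group G] {q : ℕ} {H : Subgroup G} : (PC q H).subgroupOf H = PC q (⊤ : Subgroup H) := by
  apply Subgroup.map_injective H.subtype_injective
  rw [PC_map, ← MonoidHom.range_eq_map, range_subtype, subgroupOf_map_subtype, inf_eq_left.2 PC_le]

theorem PC_char {G : Type*} [Group G] {q : ℕ} {H : Subgroup G} (hH : H.Characteristic) : (PC q H).Characteristic := by
  rw [characteristic_iff_map_eq]
  intro φ
  rw [PC_map, characteristic_iff_map_eq.1 hH φ]

theorem R_of_lcs {G : Type*} [Group G] [Finite G] {p : ℕ} [hp : Fact p.Prime]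
    (hcl : ∀ a b : G, (⊤ : Subgroup (Pr a b)).lowerCentralSeries (p - 1) ≤ PC p (_root_.commutator (Pr a b))) : R p G := by
  intro a b
  have hcl' := hcl a b
  set H := Pr a b with hH
  set a' : H := ⟨a, left_mem a b⟩ with ha'
  set b' : H := ⟨b, right_mem a b⟩ with hb'
  obtain ⟨c, hc, c0, c1, hz⟩ := HallP.hall_petrescu (LF_filt H) (a := a') (b := b') (by trivial) (by trivial) p
  have h1 := hz p le_rfl
  set P := ((List.range (p + 2)).map (fun i => c i ^ (p.choose i))).prod with hP
  have hPC : (PC p (_root_.commutator H)) ≤ (PC p ⁅H, H⁆).subgroupOf H := by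
    rw [← map_subtype_le_map_subtype, PC_map, subgroupOf_map_subtype, inf_eq_left.2 (PC_le.trans (comm_le H)),
      ← comm_subgroupOf, subgroupOf_map_subtype, inf_eq_left.2 (comm_le H)]
  have hPmem : (P : G) ∈ PC p ⁅H, H⁆ := by
    have h2 : P ∈ (PC p ⁅H, H⁆).subgroupOf H := by
      apply list_prod_mem
      intro x hx
      rw [List.mem_map] at hx
      obtain ⟨i, hi, rfl⟩ := hx
      rw [List.mem_range] at hi
      have hpos := hp.out.pos
      rcases Nat.lt_or_ge i 2 with h3 | h3
      · have : i = 0 ∨ i = 1 := by omega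
        rcases this with rfl | rfl
        · rw [c0, one_pow]; exact one_mem _
        · rw [c1, one_pow]; exact one_mem _
      rcases Nat.lt_trichotomy i p with h4 | h4 | h4
      · obtain ⟨k, hk⟩ := hp.out.dvd_choose_self (by omega : i ≠ 0) h4
        rw [hk, mul_comm, pow_mul]
        have h5 : c i ^ k ∈ _root_.commutator H := by
          apply pow_mem
          obtain ⟨j, rfl⟩ : ∃ j, i = j + 2 := ⟨i - 2, by omega⟩
          have h6 : c (j + 2) ∈ (⊤ : Subgroup H).lowerCentralSeries (j + 1) := hc (j + 2)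
          have h7 : (⊤ : Subgroup H).lowerCentralSeries (j + 1) ≤ (⊤ : Subgroup H).lowerCentralSeries 1 :=
            Subgroup.lowerCentralSeries_antitone _ (by omega)
          exact h7 h6
        exact hPC (pow_mem_PC h5)
      · obtain ⟨j, hj⟩ : ∃ j, i = j + 1 := ⟨i - 1, by omega⟩
        have h6 : c i ∈ LF H i := hc i
        rw [hj] at h6
        have h7 : c (j + 1) ∈ (⊤ : Subgroup H).lowerCentralSeries j := h6
        have hjp : j = p - 1 := by omega
        rw [hjp] at h7
        rw [← hjp, ← hj, hjp] at h7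
        exact pow_mem (hPC (hcl' h7)) _
      · rw [Nat.choose_eq_zero_of_lt h4, pow_zero]; exact one_mem _
    exact h2
  exact ⟨P, hPmem, congrArg Subtype.val h1⟩

/-- small normal subgroups -/
theorem small_normal {Q : Type*} [Group Q] [Finite Q] {p : ℕ} [hp : Fact p.Prime] (hQ : IsPGroup p Q) (A : Subgroup Q) [hA : A.Normal]
    (hc : Nat.card A ≤ p ^ 2) : ⁅⁅A, (⊤ : Subgroup Q)⁆, (⊤ : Subgroup Q)⁆ = ⊥ := by
  by_cases h0 : A = ⊥
  · rw [h0, commutator_bot_left, commutator_bot_left]
  have h1 := Cfsg.Agent.H2.PGroup.commutator_top_lt hQ h0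
  by_cases h2 : ⁅A, (⊤ : Subgroup Q)⁆ = ⊥
  · rw [h2, commutator_bot_left]
  have h3 := Cfsg.Agent.H2.PGroup.commutator_top_lt hQ h2
  obtain ⟨a, ha⟩ := IsPGroup.iff_card.1 (hQ.to_subgroup A)
  obtain ⟨b, hb⟩ := IsPGroup.iff_card.1 (hQ.to_subgroup ⁅A, (⊤ : Subgroup Q)⁆)
  obtain ⟨c, hcc⟩ := IsPGroup.iff_card.1 (hQ.to_subgroup ⁅⁅A, (⊤ : Subgroup Q)⁆, (⊤ : Subgroup Q)⁆)
  have hlt : ∀ {S T : Subgroup Q}, S < T → Nat.card S < Nat.card T := fun {S T} h => by
    apply lt_of_le_of_ne (Subgroup.card_le_of_le h.le)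
    intro he
    exact h.ne (Subgroup.eq_of_le_of_card_ge h.le he.ge)
  have l1 := hlt h1
  have l2 := hlt h3
  rw [ha, hb] at l1
  rw [hb, hcc] at l2
  rw [ha] at hc
  have e1 := (Nat.pow_lt_pow_iff_right hp.out.one_lt).1 l1
  have e2 := (Nat.pow_lt_pow_iff_right hp.out.one_lt).1 l2
  have e3 := (Nat.pow_le_pow_iff_right hp.out.one_lt).1 hc
  have e4 : c = 0 := by omega
  rw [e4, pow_zero] at hcc
  exact Subgroup.card_eq_one.1 hcc

/-- the lower central series of a group with small derived group -/
theorem lcs_le {H : Type*} [Group H] [Finite H] {p : ℕ} [hp : Fact p.Prime] (hH : IsPGroup p H) (hp5 : 5 ≤ p)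
    (hc : (PC p (_root_.commutator H)).relIndex (_root_.commutator H) ≤ p ^ 2) :
    (⊤ : Subgroup H).lowerCentralSeries (p - 1) ≤ PC p (_root_.commutator H) := by
  set K := PC p (_root_.commutator H) with hK
  haveI hKc : K.Characteristic := PC_char inferInstance
  haveI : K.Normal := inferInstance
  have hsurj := QuotientGroup.mk'_surjective K
  have h1 : Nat.card ((_root_.commutator H).map (QuotientGroup.mk' K)) ≤ p ^ 2 := by
    rw [← Subgroup.relIndex_ker, QuotientGroup.ker_mk']
    exact hc
  haveI : ((_root_.commutator H).map (QuotientGroup.mk' K)).Normal := Subgroup.Normal.map inferInstance _ hsurj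
  have h2 := small_normal (hH.to_quotient K) ((_root_.commutator H).map (QuotientGroup.mk' K)) h1
  have h3 : ((⊤ : Subgroup H).lowerCentralSeries 3).map (QuotientGroup.mk' K) = ⊥ := by
    rw [← h2]
    rw [Subgroup.lowerCentralSeries_succ, Subgroup.lowerCentralSeries_succ, map_commutator, map_commutator,
      ← MonoidHom.range_eq_map, MonoidHom.range_eq_top.2 hsurj]
    rfl
  have h4 : (⊤ : Subgroup H).lowerCentralSeries 3 ≤ K := by
    intro x hx
    have : QuotientGroup.mk' K x ∈ ((⊤ : Subgroup H).lowerCentralSeries 3).map (QuotientGroup.mk' K) := ⟨x, hx, rfl⟩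
    rw [h3, mem_bot] at this
    exact (QuotientGroup.eq_one_iff _).1 this
  exact (Subgroup.lowerCentralSeries_antitone _ (by omega)).trans h4

/-- the quotient of a metacyclic group by its p-th powers -/
theorem meta_index {M : Type u} [Group M] [Finite M] {p : ℕ} [hp : Fact p.Prime] (hM : IsMetacyclic M) :
    (PC p (⊤ : Subgroup M)).index ≤ p ^ 2 := by
  set K := PC p (⊤ : Subgroup M) with hK
  haveI hKc : K.Characteristic := PC_char inferInstance
  haveI : K.Normal := inferInstance
  rw [Subgroup.index_eq_card, pow_two]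
  apply Cfsg.Agent.H2.Meta2.card_le_of_exp (Cfsg.Agent.H2.Meta2.metacyclic_of_surj _ (QuotientGroup.mk'_surjective K) hM) _ hp.out.pos
  intro x
  obtain ⟨y, rfl⟩ := QuotientGroup.mk'_surjective K x
  rw [← map_pow]
  exact (QuotientGroup.eq_one_iff _).2 (pow_mem_PC (mem_top y))

theorem meta_relIndex {G : Type u} [Group G] [Finite G] {p : ℕ} [hp : Fact p.Prime] {M : Subgroup G} (hM : IsMetacyclic M) :
    (PC p M).relIndex M ≤ p ^ 2 := by
  rw [Subgroup.relIndex, PC_subgroupOf]
  exact meta_index hM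

/-- regularity from small derived groups -/
theorem R_of_small {G : Type u} [Group G] [Finite G] {p : ℕ} [hp : Fact p.Prime] (hG : IsPGroup p G) (hp5 : 5 ≤ p)
    (h : ∀ a b : G, IsMetacyclic ↥(⁅Pr a b, Pr a b⁆ : Subgroup G)) : R p G := by
  apply R_of_lcs
  intro a b
  apply lcs_le (hG.to_subgroup _) hp5
  have h1 := meta_relIndex (p := p) (h a b)
  have e : (⁅Pr a b, Pr a b⁆ : Subgroup G) = (_root_.commutator (Pr a b)).map (Pr a b).subtype := by
    rw [← comm_subgroupOf, subgroupOf_map_subtype, inf_eq_left.2 (comm_le _)]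
  rw [e, ← PC_map, Subgroup.relIndex_map_map_of_injective _ _ (Pr a b).subtype_injective] at h1
  exact h1

/-- the order formula -/
theorem card_Om {G : Type*} [Group G] [Finite G] {p q : ℕ} [hp : Fact p.Prime] (hG : IsPGroup p G) (hR : R q G) :
    Nat.card (Om hG hR) = (PC q (⊤ : Subgroup G)).index := by
  have hnOm : (Om hG hR).Normal := inferInstance
  let f : G ⧸ (Om hG hR) → PC q (⊤ : Subgroup G) := Quotient.lift (fun x => ⟨x ^ q, pow_mem_PC (mem_top x)⟩) (by
    intro a b hab
    have h1 : a⁻¹ * b ∈ Om hG hR := QuotientGroup.leftRel_apply.1 hab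
    exact Subtype.ext ((eq_iff hG hR).2 h1))
  have hf : Function.Bijective f := by
    constructor
    · intro x y hxy
      obtain ⟨a, rfl⟩ := QuotientGroup.mk_surjective x
      obtain ⟨b, rfl⟩ := QuotientGroup.mk_surjective y
      rw [QuotientGroup.eq]
      exact (eq_iff hG hR).1 (congrArg Subtype.val hxy)
    · rintro ⟨y, hy⟩
      obtain ⟨x, -, rfl⟩ := (mem_PC_iff hG hR).1 hy
      exact ⟨QuotientGroup.mk x, rfl⟩
  have h1 := Nat.card_eq_of_bijective f hf
  have h2 := Subgroup.card_eq_card_quotient_mul_card_subgroup (Om hG hR)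
  have h3 := (PC q (⊤ : Subgroup G)).card_mul_index
  rw [h1] at h2
  rw [h2] at h3
  exact (Nat.eq_of_mul_eq_mul_left Nat.card_pos h3).symm

theorem meta_of_gen {R : Type u} [Group R] {a b : R} (hn : (zpowers a).Normal) (h : closure ({a, b} : Set R) = ⊤) : IsMetacyclic R := by
  refine ⟨zpowers a, hn, inferInstance, ⟨⟨QuotientGroup.mk' (zpowers a) b, ?_⟩⟩⟩
  intro x
  obtain ⟨y, rfl⟩ := QuotientGroup.mk'_surjective (zpowers a) x
  have h1 : closure ({a, b} : Set R) ≤ (zpowers (QuotientGroup.mk' (zpowers a) b)).comap (QuotientGroup.mk' (zpowers a)) := by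
    rw [closure_le]
    rintro z (rfl | hz)
    · rw [SetLike.mem_coe, mem_comap]
      have : QuotientGroup.mk' (zpowers z) z = 1 := (QuotientGroup.eq_one_iff _).2 (mem_zpowers z)
      rw [this]; exact one_mem _
    · rw [Set.mem_singleton_iff] at hz
      subst hz
      exact mem_zpowers _
  rw [h] at h1
  exact h1 (mem_top y)

section

variable {R : Type u} [Group R] [Finite R] {p : ℕ} [hp : Fact p.Prime]

theorem index_pow (hR : IsPGroup p R) (H : Subgroup R) : ∃ k, H.index = p ^ k := by
  obtain ⟨n, hn⟩ := IsPGroup.iff_card.1 hR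
  have := H.index_dvd_card
  rw [hn] at this
  obtain ⟨k, -, hk⟩ := (Nat.dvd_prime_pow hp.out).1 this
  exact ⟨k, hk⟩

theorem index_lt {H K : Subgroup R} (h : H < K) : K.index < H.index := by
  apply Subgroup.index_strictAnti h

/-- extending an element outside the Frattini subgroup to a pair of generators -/
theorem exists_gen (hR : IsPGroup p R) (hΦ : (frattini R).index ≤ p ^ 2) {g : R} (hg : g ∉ frattini R) :
    ∃ b : R, closure ({g, b} : Set R) = ⊤ := by
  have hlt : frattini R < zpowers g ⊔ frattini R := by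
    refine lt_of_le_of_ne le_sup_right fun h => hg ?_
    rw [h]; exact (le_sup_left : zpowers g ≤ _) (mem_zpowers g)
  have hi := index_lt hlt
  by_cases htop : zpowers g ⊔ frattini R = ⊤
  · refine ⟨1, ?_⟩
    have h1 := frattini_nongenerating htop
    rw [eq_top_iff, ← h1, zpowers_le]
    exact Subgroup.subset_closure (by simp)
  · obtain ⟨b, hb⟩ : ∃ b, b ∉ zpowers g ⊔ frattini R := by
      by_contra hcon
      push Not at hcon
      exact htop (eq_top_iff.2 fun x _ => hcon x)
    refine ⟨b, ?_⟩
    apply frattini_nongenerating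
    have hlt2 : zpowers g ⊔ frattini R < closure ({g, b} : Set R) ⊔ frattini R := by
      refine lt_of_le_of_ne (sup_le_sup_right (by rw [zpowers_le]; exact Subgroup.subset_closure (by simp)) _) fun h => hb ?_
      rw [h]; exact (le_sup_left : Subgroup.closure _ ≤ _) (Subgroup.subset_closure (by simp))
    have hi2 := index_lt hlt2
    obtain ⟨k1, hk1⟩ := index_pow hR (frattini R)
    obtain ⟨k2, hk2⟩ := index_pow hR (zpowers g ⊔ frattini R)
    obtain ⟨k3, hk3⟩ := index_pow hR (closure ({g, b} : Set R) ⊔ frattini R)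
    rw [hk1, hk2] at hi
    rw [hk2, hk3] at hi2
    rw [hk1] at hΦ
    have e1 := (Nat.pow_lt_pow_iff_right hp.out.one_lt).1 hi
    have e2 := (Nat.pow_lt_pow_iff_right hp.out.one_lt).1 hi2
    have e3 := (Nat.pow_le_pow_iff_right hp.out.one_lt).1 hΦ
    have e4 : k3 = 0 := by omega
    rw [e4, pow_zero] at hk3
    exact Subgroup.index_eq_one.1 hk3

theorem PC_le_frattini (hR : IsPGroup p R) : PC p (⊤ : Subgroup R) ≤ frattini R := by
  rw [PC, closure_le]
  rintro _ ⟨x, -, rfl⟩
  exact Cfsg.Agent.H2.PGroup.pow_mem_frattini hR x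

theorem normal_of_comm {D : Subgroup R} (h : _root_.commutator R ≤ D) : D.Normal := by
  refine ⟨fun n hn g => ?_⟩
  have h1 : ⁅g, n⁆ ∈ D := h (by
    rw [_root_.commutator_def]; exact commutator_mem_commutator (mem_top _) (mem_top _))
  have h2 : g * n * g⁻¹ = ⁅g, n⁆ * n := by rw [commutatorElement_def]; group
  rw [h2]; exact mul_mem h1 hn

theorem frattini_ne_top [Nontrivial R] : frattini R ≠ ⊤ := by
  intro h
  have h1 := frattini_nongenerating (K := (⊥ : Subgroup R)) (by rw [bot_sup_eq]; exact h)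
  exact bot_ne_top h1

end

/-- Huppert: `|R : ℧₁(R)| ≤ p²` implies metacyclic for odd `p` -/
theorem meta_of_index {p : ℕ} [hp : Fact p.Prime] (hp2 : p ≠ 2) (n : ℕ) : ∀ (R : Type u) [Group R] [Finite R], Nat.card R ≤ n → IsPGroup p R →
    (PC p (⊤ : Subgroup R)).index ≤ p ^ 2 → IsMetacyclic R := by
  induction n with
  | zero =>
    intro R _ _ h
    exact absurd (Nat.card_pos (α := R)) (by omega)
  | succ n ih =>
  intro R _ _ hcard hR hidx
  classical
  rcases subsingleton_or_nontrivial R with hsub | hnt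
  · exact ⟨⊥, inferInstance, inferInstance, inferInstance⟩
  have hΦidx : (frattini R).index ≤ p ^ 2 := (Subgroup.index_antitone (PC_le_frattini hR)).trans hidx
  have hne := frattini_ne_top (R := R)
  obtain ⟨a, ha⟩ : ∃ a, a ∉ frattini R := by
    by_contra hcon
    push Not at hcon
    exact hne (eq_top_iff.2 fun x _ => hcon x)
  set D := _root_.commutator R with hD
  by_cases hab : D = ⊥
  · obtain ⟨b, hb⟩ := exists_gen hR hΦidx ha
    exact meta_of_gen (normal_of_comm (by rw [← hD, hab]; exact bot_le)) hb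
  -- nonabelian
  have hDcomm : D = ⁅(⊤ : Subgroup R), ⊤⁆ := rfl
  have hnc : ∀ g : R, zpowers g ≠ ⊤ := by
    intro g hg
    apply hab
    rw [hDcomm, eq_bot_iff, commutator_le]
    intro x _ y _
    have hx : x ∈ zpowers g := by rw [hg]; trivial
    have hy : y ∈ zpowers g := by rw [hg]; trivial
    obtain ⟨i, rfl⟩ := hx
    obtain ⟨j, rfl⟩ := hy
    rw [mem_bot, commutatorElement_eq_one_iff_mul_comm]
    exact (Commute.refl g).zpow_zpow i j
  have hΦeq : PC p (⊤ : Subgroup R) = frattini R := by
    have hlt : frattini R < zpowers a ⊔ frattini R := by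
      refine lt_of_le_of_ne le_sup_right fun h => ha ?_
      rw [h]; exact (le_sup_left : zpowers a ≤ _) (mem_zpowers a)
    have hlt2 : zpowers a ⊔ frattini R < ⊤ := by
      rw [lt_top_iff_ne_top]
      intro h
      exact hnc a (frattini_nongenerating h)
    have h1 := index_lt hlt
    have h2 := index_lt hlt2
    rw [Subgroup.index_top] at h2
    obtain ⟨k1, hk1⟩ := index_pow hR (frattini R)
    obtain ⟨k2, hk2⟩ := index_pow hR (zpowers a ⊔ frattini R)
    rw [hk1, hk2] at h1
    have e1 := (Nat.pow_lt_pow_iff_right hp.out.one_lt).1 h1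
    have e2 : k2 ≠ 0 := by rintro rfl; rw [hk2, pow_zero] at h2; exact lt_irrefl _ h2
    apply Cfsg.Agent.H2.Card.eq_of_le_of_index_eq (PC_le_frattini hR)
    apply le_antisymm
    · refine hidx.trans ?_
      rw [hk1]
      exact Nat.pow_le_pow_right hp.out.pos (by omega)
    · exact Subgroup.index_antitone (PC_le_frattini hR)
  have hDΦ : D ≤ frattini R := Cfsg.Agent.H2.PGroup.commutator_le_frattini hR
  haveI : D.Normal := by rw [hD]; infer_instance
  haveI hDc : D.Characteristic := by rw [hD]; infer_instance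
  haveI : (PC p D).Characteristic := PC_char hDc
  haveI : (PC p D).Normal := inferInstance
  set N := ⁅D, (⊤ : Subgroup R)⁆ ⊔ PC p D with hN
  haveI : N.Normal := by rw [hN]; infer_instance
  by_cases hN0 : N = ⊥
  · -- class two with derived group of exponent `p`
    have hcen : ∀ x ∈ D, ∀ y : R, x * y = y * x := by
      intro x hx y
      have h1 : ⁅x, y⁆ ∈ N := (le_sup_left : ⁅D, (⊤ : Subgroup R)⁆ ≤ N) (commutator_mem_commutator hx (mem_top y))
      rw [hN0, mem_bot, commutatorElement_eq_one_iff_mul_comm] at h1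
      exact h1
    have hexp : ∀ x ∈ D, x ^ p = 1 := by
      intro x hx
      have h1 : x ^ p ∈ N := (le_sup_right : PC p D ≤ N) (pow_mem_PC hx)
      rwa [hN0, mem_bot] at h1
    have hcD : ∀ x y : R, ⁅x, y⁆ ∈ D := fun x y => by
      rw [hDcomm]; exact commutator_mem_commutator (mem_top _) (mem_top _)
    have hpow : ∀ x y : R, (x * y) ^ p = x ^ p * y ^ p := by
      intro x y
      rw [Cfsg.Agent.H2.Alperin.mul_pow_local (x := x) (y := y) ((hcen _ (hcD y x) x).symm) ((hcen _ (hcD y x) y).symm)]
      have h3 : p ∣ p.choose 2 := by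
        have := Cfsg.Agent.H2.Alperin.dvd_choose_of_odd (n := 1) hp.out hp2
        simpa using this
      obtain ⟨k, hk⟩ := h3
      rw [hk, pow_mul, hexp _ (hcD y x), one_pow, mul_one]
    let f : R →* R := { toFun := fun x => x ^ p, map_one' := one_pow p, map_mul' := hpow }
    have hPC : ∀ g ∈ PC p (⊤ : Subgroup R), ∃ h, g = h ^ p := by
      have h1 : PC p (⊤ : Subgroup R) ≤ f.range := by
        rw [PC, closure_le]
        rintro _ ⟨x, -, rfl⟩
        exact ⟨x, rfl⟩
      intro g hg
      obtain ⟨h, hh⟩ := h1 hg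
      exact ⟨h, hh.symm⟩
    obtain ⟨b, hb⟩ := exists_gen hR hΦidx ha
    set c := ⁅a, b⁆ with hc
    have hcz : ∀ y : R, c * y = y * c := hcen c (hcD a b)
    haveI hcn : (zpowers c).Normal := by
      refine ⟨fun n hn g => ?_⟩
      obtain ⟨i, rfl⟩ := hn
      have : Commute (c ^ i) g := (show Commute c g from hcz g).zpow_left i
      have e : g * c ^ i * g⁻¹ = c ^ i := by rw [← this.eq, mul_inv_cancel_right]
      show g * c ^ i * g⁻¹ ∈ _
      rw [e]; exact zpow_mem (mem_zpowers c) i
    have hDle : D ≤ zpowers c := by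
      have h1 := comm_pr_le (a := a) (b := b) (N := zpowers c) (by rw [normalizer_eq_top_iff.2 hcn]; exact le_top) (mem_zpowers c)
      rw [Pr, hb] at h1
      exact h1
    have hc1 : c ≠ 1 := by
      intro h
      apply hab
      rw [h, zpowers_one_eq_bot] at hDle
      exact le_bot_iff.1 hDle
    obtain ⟨k, ⟨g, hg⟩, hk⟩ : ∃ k, (∃ g : R, g ^ p ^ k = c) ∧ ¬ ∃ g : R, g ^ p ^ (k + 1) = c := by
      by_contra hcon
      push Not at hcon
      have hall : ∀ k, ∃ g : R, g ^ p ^ k = c := by
        intro k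
        induction k with
        | zero => exact ⟨c, by simp⟩
        | succ k ihk => exact hcon k ihk
      obtain ⟨m, hm⟩ := IsPGroup.iff_card.1 hR
      obtain ⟨g, hg⟩ := hall m
      apply hc1
      rw [← hg, ← hm, pow_card_eq_one']
    have hgΦ : g ∉ frattini R := by
      intro h
      rw [← hΦeq] at h
      obtain ⟨h', hh'⟩ := hPC g h
      apply hk
      refine ⟨h', ?_⟩
      rw [pow_succ', pow_mul, ← hh', hg]
    obtain ⟨b', hb'⟩ := exists_gen hR hΦidx hgΦ
    refine meta_of_gen (normal_of_comm (hDle.trans ?_)) hb'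
    rw [zpowers_le, ← hg]
    exact pow_mem (mem_zpowers g) _
  · -- a central subgroup of order `p` in `N`
    have hNz := Cfsg.Agent.H2.PGroup.inf_center_ne_bot hR hN0
    obtain ⟨z, hzo⟩ : ∃ z : ↥(N ⊓ center R), orderOf z = p := by
      have hdvd : p ∣ Nat.card ↥(N ⊓ center R) := by
        obtain ⟨m, hm⟩ := IsPGroup.iff_card.1 (hR.to_subgroup (N ⊓ center R))
        rw [hm]
        apply dvd_pow_self
        rintro rfl
        rw [pow_zero] at hm
        exact hNz (card_eq_one.1 hm)
      exact exists_prime_orderOf_dvd_card' p hdvd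
    obtain ⟨z, hz⟩ := z
    have hzN : z ∈ N := hz.1
    have hzc : ∀ y : R, y * z = z * y := mem_center_iff.1 hz.2
    have hzp : z ^ p = 1 := by
      have := pow_orderOf_eq_one (⟨z, hz⟩ : ↥(N ⊓ center R))
      rw [hzo] at this
      exact congrArg Subtype.val this
    have hz1 : z ≠ 1 := by
      rintro rfl
      have : (⟨1, hz⟩ : ↥(N ⊓ center R)) = 1 := rfl
      rw [this, orderOf_one] at hzo
      exact hp.out.one_lt.ne hzo
    set Z := zpowers z with hZ
    haveI hZn : Z.Normal := by
      refine ⟨fun n hn g => ?_⟩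
      obtain ⟨i, rfl⟩ := hn
      have : Commute g (z ^ i) := (show Commute g z from hzc g).zpow_right i
      show g * z ^ i * g⁻¹ ∈ _
      rw [this.eq, mul_inv_cancel_right]
      exact zpow_mem (mem_zpowers z) i
    have hZb : Z ≠ ⊥ := by
      intro h
      apply hz1
      rw [hZ, zpowers_eq_bot] at h
      exact h
    set π := QuotientGroup.mk' Z with hπ
    have hsurj : Function.Surjective π := QuotientGroup.mk'_surjective Z
    have hcardlt := Cfsg.Agent.H2.Card.card_quotient_lt hZb
    have hidx' : (PC p (⊤ : Subgroup (R ⧸ Z))).index ≤ p ^ 2 := by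
      have h1 : (PC p (⊤ : Subgroup R)).map π = PC p (⊤ : Subgroup (R ⧸ Z)) := by
        rw [PC_map, ← MonoidHom.range_eq_map, MonoidHom.range_eq_top.2 hsurj]
      rw [← h1]
      have h2 := (PC p (⊤ : Subgroup R)).index_map_dvd hsurj
      exact (Nat.le_of_dvd (Nat.pos_of_ne_zero Subgroup.index_ne_zero_of_finite) h2).trans hidx
    obtain ⟨Lb, hLbn, hLbc, hLbq⟩ := ih (R ⧸ Z) (by omega) (hR.to_quotient Z) hidx'
    let f : R →* (R ⧸ Z) ⧸ Lb := (QuotientGroup.mk' Lb).comp π
    have hf : Function.Surjective f := (QuotientGroup.mk'_surjective Lb).comp hsurj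
    set L := f.ker with hL
    haveI : L.Normal := by rw [hL]; infer_instance
    have hLmem : ∀ x, x ∈ L ↔ π x ∈ Lb := by
      intro x
      rw [hL, MonoidHom.mem_ker]
      exact QuotientGroup.eq_one_iff (N := Lb) (π x)
    have hLq : IsCyclic (R ⧸ L) := isCyclic_of_injective
      (QuotientGroup.quotientKerEquivOfSurjective f hf).toMonoidHom (QuotientGroup.quotientKerEquivOfSurjective f hf).injective
    obtain ⟨⟨ab, hab'⟩, hgen⟩ := hLbc.exists_generator
    obtain ⟨a, rfl⟩ := hsurj ab
    have haL : a ∈ L := (hLmem a).2 hab'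
    have hLe : ∀ x ∈ L, ∃ i j : ℤ, x = a ^ i * z ^ j := by
      intro x hx
      obtain ⟨i, hi⟩ := hgen ⟨π x, (hLmem x).1 hx⟩
      have h1 : π (a ^ i) = π x := by
        have := congrArg Subtype.val hi
        simpa using this
      have h2 : (a ^ i)⁻¹ * x ∈ Z := QuotientGroup.eq.1 h1
      obtain ⟨j, hj⟩ := h2
      refine ⟨i, j, ?_⟩
      change z ^ j = _ at hj
      rw [hj]; group
    obtain ⟨bb, hbb⟩ := hLq.exists_generator
    obtain ⟨b, rfl⟩ := QuotientGroup.mk'_surjective L bb
    have hNΦ : N ≤ frattini R := by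
      rw [hN]
      exact sup_le ((commutator_le_left _ _).trans hDΦ) (PC_le.trans hDΦ)
    have hgen2 : closure ({a, b} : Set R) = ⊤ := by
      apply frattini_nongenerating
      rw [eq_top_iff]
      intro x _
      obtain ⟨i, hi⟩ := hbb (QuotientGroup.mk' L x)
      have h1 : (b ^ i)⁻¹ * x ∈ L := QuotientGroup.eq.1 hi
      obtain ⟨j, l, hjl⟩ := hLe _ h1
      have h2 : x = b ^ i * (a ^ j * z ^ l) := by rw [← hjl]; group
      rw [h2]
      refine mul_mem ?_ (mul_mem ?_ ?_)
      · exact zpow_mem ((le_sup_left : Subgroup.closure _ ≤ _) (Subgroup.subset_closure (by simp))) i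
      · exact zpow_mem ((le_sup_left : Subgroup.closure _ ≤ _) (Subgroup.subset_closure (by simp))) j
      · exact zpow_mem ((le_sup_right : frattini R ≤ _) (hNΦ hzN)) l
    set c := ⁅a, b⁆ with hc
    -- commutators with `b`
    have hLcomm : ∀ x ∈ L, ∀ y ∈ L, x * y = y * x := by
      intro x hx y hy
      obtain ⟨i, j, rfl⟩ := hLe x hx
      obtain ⟨k, l, rfl⟩ := hLe y hy
      have h1 : ∀ w : R, ∀ m : ℤ, Commute w (z ^ m) := fun w m => (show Commute w z from hzc w).zpow_right m
      have h2 : Commute (a ^ i) (a ^ k) := (Commute.refl a).zpow_zpow i k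
      exact ((h2.mul_right (h1 _ _)).mul_left ((h1 _ _).symm.mul_right ((h1 _ _).symm))).eq
    have hbc : ∀ i j : ℤ, ⁅a ^ i * z ^ j, b⁆ = c ^ i := by
      intro i j
      have h1 : ∀ w : R, ∀ m : ℤ, Commute w (z ^ m) := fun w m => (show Commute w z from hzc w).zpow_right m
      have h2 : ⁅a ^ i * z ^ j, b⁆ = ⁅a ^ i, b⁆ := by
        rw [commutatorElement_def, commutatorElement_def]
        have := (h1 b j).eq
        calc a ^ i * z ^ j * b * (a ^ i * z ^ j)⁻¹ * b⁻¹ = a ^ i * (z ^ j * b) * (z ^ j)⁻¹ * (a ^ i)⁻¹ * b⁻¹ := by group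
          _ = a ^ i * (b * z ^ j) * (z ^ j)⁻¹ * (a ^ i)⁻¹ * b⁻¹ := by rw [this]
          _ = a ^ i * b * (a ^ i)⁻¹ * b⁻¹ := by group
      rw [h2, hc, commutatorElement_def, commutatorElement_def]
      have h3 : Commute a (b * a⁻¹ * b⁻¹) := by
        have hm : b * a⁻¹ * b⁻¹ ∈ L := (inferInstance : L.Normal).conj_mem _ (inv_mem haL) b
        exact hLcomm a haL _ hm
      have h4 : a * b * a⁻¹ * b⁻¹ = a * (b * a⁻¹ * b⁻¹) := by group
      rw [h4, h3.mul_zpow, conj_zpow, inv_zpow]
      group
    haveI hcn : (zpowers c).Normal := by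
      have hcL : c ∈ L := by
        rw [hc, commutatorElement_def]
        have h1 : a * b * a⁻¹ * b⁻¹ = a * (b * a⁻¹ * b⁻¹) := by group
        rw [h1]
        exact mul_mem haL ((inferInstance : L.Normal).conj_mem _ (inv_mem haL) b)
      have h1 : closure ({a, b} : Set R) ≤ normalizer (zpowers c : Set R) := by
        rw [closure_le]
        have hlem : ∀ w : R, w * c * w⁻¹ ∈ zpowers c → w ∈ normalizer (zpowers c : Set R) := by
          intro w hw
          apply mem_normalizer_fintype
          rintro _ ⟨i, rfl⟩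
          show w * c ^ i * w⁻¹ ∈ _
          rw [← conj_zpow]
          exact zpow_mem hw i
        rintro w (rfl | hw)
        · apply hlem
          rw [hLcomm _ haL _ hcL, mul_inv_cancel_right]; exact mem_zpowers c
        · rw [Set.mem_singleton_iff] at hw
          subst hw
          apply hlem
          have hm : w * a * w⁻¹ ∈ L := (inferInstance : L.Normal).conj_mem _ haL w
          obtain ⟨i, j, hij⟩ := hLe _ hm
          have h2 : w * c * w⁻¹ = ⁅w * a * w⁻¹, w⁆ := by
            rw [hc, commutatorElement_def, commutatorElement_def]; group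
          rw [h2, hij, hbc]
          exact zpow_mem (mem_zpowers c) i
      rw [hgen2, top_le_iff] at h1
      exact normalizer_eq_top_iff.1 h1
    have hDle : D ≤ zpowers c := by
      have h1 := comm_pr_le (a := a) (b := b) (N := zpowers c) (by rw [normalizer_eq_top_iff.2 hcn]; exact le_top) (mem_zpowers c)
      rw [Pr, hgen2] at h1
      exact h1
    have hcD : c ∈ D := by rw [hDcomm]; exact commutator_mem_commutator (mem_top _) (mem_top _)
    have hlt : ⁅D, (⊤ : Subgroup R)⁆ < D := Cfsg.Agent.H2.PGroup.commutator_top_lt hR hab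
    have hNle : N ≤ zpowers (c ^ p) := by
      rw [hN]
      refine sup_le ?_ ?_
      · intro x hx
        obtain ⟨j, hj⟩ := hDle (hlt.le hx)
        change c ^ j = x at hj
        by_cases hpj : (p : ℤ) ∣ j
        · obtain ⟨k, rfl⟩ := hpj
          rw [← hj, zpow_mul, zpow_natCast]
          exact zpow_mem (mem_zpowers _) k
        · exfalso
          apply hlt.ne
          apply le_antisymm hlt.le
          refine hDle.trans ?_
          rw [zpowers_le]
          -- `c` is a power of `x`
          obtain ⟨m, hm⟩ := hR c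
          have hcop : IsCoprime j ((p : ℤ) ^ m) := by
            apply IsCoprime.pow_right
            exact ((Nat.prime_iff_prime_int.1 hp.out).coprime_iff_not_dvd.2 hpj).symm
          obtain ⟨u, v, huv⟩ := hcop
          have h1 : c = x ^ u := by
            calc c = c ^ (u * j + v * (p : ℤ) ^ m) := by rw [huv, zpow_one]
              _ = x ^ u := by
                rw [zpow_add, mul_comm u j, zpow_mul, hj, mul_comm v, zpow_mul]
                have : c ^ ((p : ℤ) ^ m) = 1 := by
                  have := hm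
                  rw [← zpow_natCast] at this
                  exact_mod_cast this
                rw [this, one_zpow, mul_one]
          rw [h1]
          exact zpow_mem hx u
      · rw [PC, closure_le]
        rintro _ ⟨x, hx, rfl⟩
        obtain ⟨j, hj⟩ := hDle hx
        change c ^ j = x at hj
        refine ⟨j, ?_⟩
        show (c ^ p) ^ j = x ^ p
        rw [← hj, ← zpow_natCast, ← zpow_natCast, ← zpow_mul, ← zpow_mul, mul_comm]
    have hza : z ∈ zpowers a := by
      have h1 := hNle hzN
      obtain ⟨m, hm⟩ := h1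
      change (c ^ p) ^ m = z at hm
      have hcL : c ∈ L := by
        rw [hc, commutatorElement_def]
        have h1 : a * b * a⁻¹ * b⁻¹ = a * (b * a⁻¹ * b⁻¹) := by group
        rw [h1]
        exact mul_mem haL ((inferInstance : L.Normal).conj_mem _ (inv_mem haL) b)
      obtain ⟨i, j, hij⟩ := hLe c hcL
      have h2 : c ^ p = (a ^ i) ^ p := by
        rw [hij]
        have hcm : Commute (a ^ i) (z ^ j) := (show Commute (a ^ i) z from hzc _).zpow_right j
        rw [hcm.mul_pow]
        have : (z ^ j) ^ p = 1 := by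
          rw [← zpow_natCast, ← zpow_mul, mul_comm, zpow_mul, zpow_natCast, hzp, one_zpow]
        rw [this, mul_one]
      rw [← hm, h2]
      exact zpow_mem (pow_mem (zpow_mem (mem_zpowers a) i) p) m
    have hLa : L = zpowers a := by
      apply le_antisymm
      · intro x hx
        obtain ⟨i, j, rfl⟩ := hLe x hx
        exact mul_mem (zpow_mem (mem_zpowers a) i) (zpow_mem hza j)
      · rw [zpowers_le]; exact haL
    refine ⟨L, inferInstance, ?_, hLq⟩
    rw [hLa]; infer_instance

/-- the elements of order dividing `p` -/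
abbrev OmS (R : Type u) [Group R] (p : ℕ) : Subgroup R := closure {x : R | x ^ p = 1}

theorem OmS_map_le {R : Type u} [Group R] {p : ℕ} (S : Subgroup R) : (OmS S p).map S.subtype ≤ OmS R p := by
  rw [OmS, MonoidHom.map_closure, closure_le]
  rintro _ ⟨x, hx, rfl⟩
  exact Subgroup.subset_closure (congrArg Subtype.val hx)

theorem card_OmS_le {R : Type u} [Group R] [Finite R] {p : ℕ} (S : Subgroup R) : Nat.card (OmS S p) ≤ Nat.card (OmS R p) := by
  rw [Nat.card_congr ((OmS S p).equivMapOfInjective S.subtype S.subtype_injective).toEquiv]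
  exact Subgroup.card_le_of_le (OmS_map_le S)

/-- Huppert's criterion -/
theorem meta_of_omega {p : ℕ} [hp : Fact p.Prime] (hp5 : 5 ≤ p) (n : ℕ) : ∀ (R : Type u) [Group R] [Finite R], Nat.card R ≤ n → IsPGroup p R →
    Nat.card (OmS R p) ≤ p ^ 2 → IsMetacyclic R := by
  induction n with
  | zero =>
    intro R _ _ h
    exact absurd (Nat.card_pos (α := R)) (by omega)
  | succ n ih =>
  intro R _ _ hcard hR hO
  rcases subsingleton_or_nontrivial R with hsub | hnt
  · exact ⟨⊥, inferInstance, inferInstance, inferInstance⟩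
  have hprop : ∀ S : Subgroup R, S ≠ ⊤ → IsMetacyclic S := by
    intro S hS
    have h1 := Cfsg.Agent.H2.Card.card_lt_of_ne_top hS
    exact ih S (by omega) (hR.to_subgroup S) ((card_OmS_le S).trans hO)
  have hreg : Reg.R p R := by
    apply R_of_small hR hp5
    intro a b
    apply hprop
    intro h
    have h1 : _root_.commutator R = ⊤ := by
      rw [eq_top_iff, ← h]
      exact commutator_mono le_top le_top
    have h2 : _root_.commutator R ≤ frattini R := Cfsg.Agent.H2.PGroup.commutator_le_frattini hR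
    rw [h1, top_le_iff] at h2
    exact frattini_ne_top h2
  have h1 := card_Om hR hreg
  apply meta_of_index (by omega) _ R le_rfl hR
  rw [← h1]
  refine (Subgroup.card_le_of_le ?_).trans hO
  intro x hx
  exact Subgroup.subset_closure hx

/-- `p`-groups of rank at most two for `p ≥ 5` are regular -/
theorem regular_of_rank {R : Type u} [Group R] [Finite R] {p : ℕ} [hp : Fact p.Prime] (hp5 : 5 ≤ p) (hR : IsPGroup p R)
    (hrk : ∀ E : Subgroup R, IsElementaryAbelian p E → Nat.card E ≤ p ^ 2) : Reg.R p R := by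
  have hf : {D : Subgroup R | D.Normal ∧ IsMulCommutative D ∧ ∀ b ∈ D, b ^ p ^ 1 = 1}.Finite := Set.toFinite _
  obtain ⟨A, hA⟩ := hf.exists_maximal ⟨⊥, inferInstance, inferInstance, fun b hb => by rw [mem_bot.1 hb, one_pow]⟩
  obtain ⟨hAn, hAc, hAe⟩ := hA.prop
  have hmem := Cfsg.Agent.H2.Alperin.mem_of_centralizes (n := 1) hR (by rw [pow_one]; omega) A hAn hAc hAe
    (fun B h1 h2 h3 h4 => le_antisymm (hA.2 ⟨h1, h2, h3⟩ h4) h4)
  simp only [pow_one] at hmem hAe
  have hAcard : Nat.card A ≤ p ^ 2 := hrk A ⟨hAc, hAe⟩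
  set C := centralizer (A : Set R) with hC
  have hCm : ∀ T : Subgroup R, T ≤ C → IsMetacyclic T := by
    intro T hT
    apply meta_of_omega hp5 _ T le_rfl (hR.to_subgroup T)
    refine le_trans ?_ hAcard
    rw [Nat.card_congr ((OmS T p).equivMapOfInjective T.subtype T.subtype_injective).toEquiv]
    apply Subgroup.card_le_of_le
    rw [OmS, MonoidHom.map_closure, closure_le]
    rintro _ ⟨x, hx, rfl⟩
    exact hmem x (hT x.2) (congrArg Subtype.val hx)
  have hRC : ⁅(⊤ : Subgroup R), ⊤⁆ ≤ C := by
    rw [hC, ← commutator_eq_bot_iff_le_centralizer]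
    have h1 := small_normal hR A hAcard
    apply commutator_commutator_eq_bot_of_rotate
    · rw [commutator_comm ⊤ A]; exact h1
    · exact h1
  apply R_of_small hR hp5
  intro a b
  exact hCm _ ((commutator_mono le_top le_top).trans hRC)

theorem omega_exp {R : Type u} [Group R] [Finite R] {p : ℕ} [hp : Fact p.Prime] (hp5 : 5 ≤ p) (hR : IsPGroup p R)
    (hrk : ∀ E : Subgroup R, IsElementaryAbelian p E → Nat.card E ≤ p ^ 2) {g : R} (hg : g ∈ OmS R p) : g ^ p = 1 := by
  have h1 := regular_of_rank hp5 hR hrk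
  have h2 : OmS R p ≤ Om hR h1 := by
    rw [OmS, closure_le]
    intro x hx
    exact hx
  exact h2 hg

theorem five_le {p : ℕ} [hp : Fact p.Prime] (h : 3 < p) : 5 ≤ p := by
  by_contra hlt
  have : p = 4 := by omega
  have h2 := hp.out
  rw [this] at h2
  norm_num at h2

theorem omegaOne_top {R : Type u} [Group R] {p : ℕ} : omegaOne p (⊤ : Subgroup R) = OmS R p := by
  rw [omegaOne, OmS]
  congr 1
  ext x
  simp

theorem omega_le_of_meta {R : Type u} [Group R] [Finite R] {p : ℕ} [hp : Fact p.Prime] (hp2 : p ≠ 2) (hR : IsPGroup p R) (hm : IsMetacyclic R) :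
    Nat.card (OmS R p) ≤ p ^ 2 := by
  by_cases hc : IsCyclic R
  · letI : CommGroup R := hc.commGroup
    have h1 : OmS R p ≤ (powMonoidHom p : R →* R).ker := by
      rw [OmS, closure_le]
      intro x hx
      exact hx
    refine (Subgroup.card_le_of_le h1).trans ?_
    have h2 : Nat.card (powMonoidHom p : R →* R).ker ≤ p := by
      haveI : IsCyclic (powMonoidHom p : R →* R).ker := inferInstance
      obtain ⟨g, hg⟩ := this.exists_generator
      rw [← orderOf_eq_card_of_forall_mem_zpowers hg]
      apply Nat.le_of_dvd hp.out.pos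
      apply orderOf_dvd_of_pow_eq_one
      exact Subtype.ext g.2
    exact h2.trans (Nat.le_self_pow (by norm_num) p)
  · have := (Cfsg.Agent.S0638.result hp2 hR hm hc).2
    rw [← omegaOne_top]
    exact this.le

theorem omega_quotient {R : Type u} [Group R] [Finite R] {p : ℕ} [hp : Fact p.Prime] (hp3 : 3 < p) (hR : IsPGroup p R)
    (hO : Nat.card ↥(omegaOne p (⊤ : Subgroup R)) ≤ p ^ 2) (T : Subgroup R) [T.Normal] :
    Nat.card ↥(omegaOne p (⊤ : Subgroup (R ⧸ T))) ≤ p ^ 2 := by
  rw [omegaOne_top] at hO ⊢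
  apply omega_le_of_meta (by omega) (hR.to_quotient T)
  exact Cfsg.Agent.H2.Meta2.metacyclic_of_surj _ (QuotientGroup.mk'_surjective T) (meta_of_omega (five_le hp3) _ R le_rfl hR hO)

end Cfsg.Agent.H2.Hup
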