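import Mathlib
import Cfsg.Prelude
import Cfsg.Agent.H2_Class2
import Cfsg.Agent.H2_Card
import Cfsg.Agent.H2_PGroup2
import Cfsg.Agent.H1_Frattini

set_option autoImplicit false

open Subgroup Cfsg
open scoped Pointwise commutatorElement

namespace Cfsg.Agent.H2.Extra

variable {p : ℕ}

/-- number of homs from an elementary abelian group to a group of order `p` -/
theorem card_hom_le {V Z : Type*} [Group V] [Group Z] [Finite V] [Finite Z] [hp : Fact p.Prime]
    (hZ : Nat.card Z = p) (hc : ∀ a b : V, a * b = b * a) (he : ∀ a : V, a ^ p = 1) :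
    Nat.card (V →* Z) ≤ Nat.card V := by
  classical
  have hV : IsPGroup p V := fun x => ⟨1, by rw [pow_one]; exact he x⟩
  have hfr : frattini V = ⊥ := by
    rw [eq_bot_iff]
    apply Cfsg.Agent.H1.Frattini.frattini_le_of_elementary (p := p)
    · rw [_root_.commutator_def, commutator_le]
      intro a _ b _
      rw [mem_bot, commutatorElement_eq_one_iff_mul_comm]
      exact hc a b
    · intro x; rw [he x]; exact one_mem _
  obtain ⟨n, hn⟩ := IsPGroup.iff_card.1 hV
  have hidx : (frattini V).index = p ^ n := by rw [hfr, index_bot, hn]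
  have : Fintype V := Fintype.ofFinite V
  obtain ⟨T, -, hTn, hT⟩ := (Cfsg.Agent.H1.Frattini.burnside_basis p n hV hidx).1 Finset.univ
    (by rw [Finset.coe_univ, Subgroup.closure_univ])
  let f : (V →* Z) → (T → Z) := fun φ t => φ t
  have hf : Function.Injective f := by
    intro φ ψ h
    apply MonoidHom.eq_of_eqOn_dense hT
    intro t ht
    exact congrFun h ⟨t, ht⟩
  have h1 := Nat.card_le_card_of_injective f hf
  rw [Nat.card_fun, hZ] at h1
  rw [hn, ← hTn]
  simpa using h1

/-- Perfect pairing: one half. -/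
theorem index_ker_le {X Y Z : Type*} [Group X] [Group Y] [CommGroup Z] [Finite Y] [Finite Z]
    [hp : Fact p.Prime] (hZ : Nat.card Z = p) (β : X →* Y →* Z) :
    β.ker.index ≤ β.flip.ker.index := by
  set K := β.flip.ker with hK
  have hkill : ∀ x : X, ∀ y ∈ K, β x y = 1 := by
    intro x y hy
    have : β.flip y = 1 := hy
    exact DFunLike.congr_fun this x
  have hzp : ∀ z : Z, z ^ p = 1 := by
    intro z
    rw [← hZ]; exact pow_card_eq_one'
  have hmem : ∀ y : Y, (∀ x, β x y = 1) → y ∈ K := by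
    intro y hy
    rw [hK, MonoidHom.mem_ker]
    ext x
    exact hy x
  have hcomm : ∀ a b : Y ⧸ K, a * b = b * a := by
    intro a b
    obtain ⟨a, rfl⟩ := QuotientGroup.mk_surjective a
    obtain ⟨b, rfl⟩ := QuotientGroup.mk_surjective b
    rw [← QuotientGroup.mk_mul, ← QuotientGroup.mk_mul, QuotientGroup.eq]
    apply hmem
    intro x
    simp only [map_mul, map_inv, mul_inv_rev]
    rw [mul_comm ((β x) b) ((β x) a)]
    group
  have hpow : ∀ a : Y ⧸ K, a ^ p = 1 := by
    intro a
    obtain ⟨a, rfl⟩ := QuotientGroup.mk_surjective a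
    rw [← QuotientGroup.mk_pow, QuotientGroup.eq_one_iff]
    apply hmem
    intro x
    rw [map_pow, hzp]
  have h1 := card_hom_le hZ hcomm hpow
  have h0 : Finite ((Y ⧸ K) →* Z) := DFunLike.finite _
  let g : β.range → ((Y ⧸ K) →* Z) := fun f => QuotientGroup.lift K f.1 (by
    obtain ⟨f, x, rfl⟩ := f
    exact fun y hy => hkill x y hy)
  have hg : Function.Injective g := by
    intro f f' h
    apply Subtype.ext
    ext y
    exact DFunLike.congr_fun h (y : Y ⧸ K)
  have h2 := Nat.card_le_card_of_injective g hg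
  rw [index_ker, index_eq_card]
  exact h2.trans h1

theorem index_ker_eq {X Y Z : Type*} [Group X] [Group Y] [CommGroup Z] [Finite X] [Finite Y] [Finite Z]
    [hp : Fact p.Prime] (hZ : Nat.card Z = p) (β : X →* Y →* Z) :
    β.ker.index = β.flip.ker.index :=
  le_antisymm (index_ker_le hZ β) (index_ker_le hZ β.flip)

variable {G : Type*} [Group G]

/-- The commutator pairing between two subgroups. -/
theorem relIndex_eq [Finite G] [hp : Fact p.Prime] (X Y Z : Subgroup G) (hZ : Nat.card Z = p)
    (hXY : ∀ x ∈ X, ∀ y ∈ Y, ⁅x, y⁆ ∈ Z) (hZX : ∀ z ∈ Z, ∀ x ∈ X, x * z = z * x)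
    (hZY : ∀ z ∈ Z, ∀ y ∈ Y, y * z = z * y) :
    (centralizer (Y : Set G)).relIndex X = (centralizer (X : Set G)).relIndex Y := by
  have hZc : ∀ a b : Z, a * b = b * a := by
    have : IsCyclic Z := isCyclic_of_prime_card hZ
    intro a b
    exact IsMulCommutative.is_comm.comm a b
  letI : CommGroup Z := { (inferInstance : Group Z) with mul_comm := hZc }
  let β : X →* Y →* Z :=
    { toFun := fun x =>
        { toFun := fun y => ⟨⁅(x : G), (y : G)⁆, hXY x x.2 y y.2⟩
          map_one' := by ext; simp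
          map_mul' := by
            intro y y'
            ext
            change ⁅(x : G), (y : G) * y'⁆ = ⁅(x : G), (y : G)⁆ * ⁅(x : G), (y' : G)⁆
            exact Cfsg.Agent.H2.Class.comm_mul_right' (hZY _ (hXY x x.2 y' y'.2) y y.2) }
      map_one' := by ext; simp
      map_mul' := by
        intro x x'
        ext y
        change ⁅(x : G) * x', (y : G)⁆ = ⁅(x : G), (y : G)⁆ * ⁅(x' : G), (y : G)⁆
        rw [Cfsg.Agent.H2.Class.comm_mul_left' (hZX _ (hXY x' x'.2 y y.2) x x.2)]
        exact congrArg Subtype.val (hZc ⟨⁅(x' : G), (y : G)⁆, hXY x' x'.2 y y.2⟩ ⟨⁅(x : G), (y : G)⁆, hXY x x.2 y y.2⟩) }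
  have h1 := index_ker_eq hZ β
  have h2 : β.ker = (centralizer (Y : Set G)).subgroupOf X := by
    ext x
    rw [MonoidHom.mem_ker, mem_subgroupOf, mem_centralizer_iff]
    constructor
    · intro h y hy
      have : (β x) ⟨y, hy⟩ = 1 := by rw [h]; rfl
      have h3 : ⁅(x : G), y⁆ = 1 := congrArg Subtype.val this
      exact (commutatorElement_eq_one_iff_mul_comm.1 h3).symm
    · intro h
      ext y
      change ⁅(x : G), (y : G)⁆ = 1
      rw [commutatorElement_eq_one_iff_mul_comm]
      exact (h y y.2).symm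
  have h3 : β.flip.ker = (centralizer (X : Set G)).subgroupOf Y := by
    ext y
    rw [MonoidHom.mem_ker, mem_subgroupOf, mem_centralizer_iff]
    constructor
    · intro h x hx
      have : (β.flip y) ⟨x, hx⟩ = 1 := by rw [h]; rfl
      have h3 : ⁅x, (y : G)⁆ = 1 := congrArg Subtype.val this
      exact commutatorElement_eq_one_iff_mul_comm.1 h3
    · intro h
      ext x
      change ⁅(x : G), (y : G)⁆ = 1
      rw [commutatorElement_eq_one_iff_mul_comm]
      exact h x x.2
  rw [h2, h3] at h1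
  exact h1

section ES

variable {E : Type*} [Group E] [Finite E] [hp : Fact p.Prime]

theorem comm_mem_center (hE : IsExtraspecial p E) (a b : E) : ⁅a, b⁆ ∈ center E := by
  rw [← hE.1.2.2, _root_.commutator_def]
  exact commutator_mem_commutator (mem_top a) (mem_top b)

theorem pow_mem_center (hE : IsExtraspecial p E) (a : E) : a ^ p ∈ center E := by
  rw [← hE.1.2.1]
  exact (Cfsg.Agent.H1.Nilp.commutator_le_frattini hE.1.1).2 a

omit [Finite E] hp in
theorem center_pow (hE : IsExtraspecial p E) {z : E} (hz : z ∈ center E) : z ^ p = 1 := by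
  have := pow_card_eq_one' (x := (⟨z, hz⟩ : center E))
  rw [hE.2] at this
  simpa using congrArg Subtype.val this

/-- `|X : C_X(Y)| = |Y : C_Y(X)|` in an extraspecial group. -/
theorem es_relIndex_eq (hE : IsExtraspecial p E) (X Y : Subgroup E) :
    (centralizer (Y : Set E)).relIndex X = (centralizer (X : Set E)).relIndex Y :=
  relIndex_eq X Y (center E) hE.2 (fun x _ y _ => comm_mem_center hE x y)
    (fun _ hz x _ => mem_center_iff.1 hz x) (fun _ hz y _ => mem_center_iff.1 hz y)

theorem es_index_centralizer (hE : IsExtraspecial p E) (Y : Subgroup E) :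
    (centralizer (Y : Set E)).index = (center E).relIndex Y := by
  have := es_relIndex_eq hE ⊤ Y
  rwa [relIndex_top_right, coe_top, centralizer_univ] at this

/-- `E = D C_E(D)` when `Z(D) = Z(E)`. -/
theorem es_split (hE : IsExtraspecial p E) (D : Subgroup E)
    (hDZ : D ⊓ centralizer (D : Set E) = center E) :
    D ⊔ centralizer (D : Set E) = ⊤ := by
  have hZD : center E ≤ D := by rw [← hDZ]; exact inf_le_left
  have hn : D ≤ normalizer ((centralizer (D : Set E) : Subgroup E) : Set E) := by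
    refine le_trans ?_ (centralizer_le_normalizer _)
    rw [le_centralizer_iff]
  have h1 := Cfsg.Agent.H2.Card.card_sup_mul_card_inf hn
  rw [hDZ] at h1
  have h2 := es_index_centralizer hE D
  have h3 := Cfsg.Agent.H2.Card.card_mul_relIndex hZD
  have h4 := card_mul_index (centralizer (D : Set E))
  apply eq_top_of_card_eq
  apply Nat.eq_of_mul_eq_mul_right (Nat.card_pos (α := center E))
  rw [h1, ← h3, ← h4, h2]
  ring

/-- A noncentral pair spans a nondegenerate subgroup. -/
theorem es_pair_center (hE : IsExtraspecial p E) {x y : E} (hxy : ⁅x, y⁆ ≠ 1) :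
    (closure {x, y} ⊓ centralizer ((closure {x, y} : Subgroup E) : Set E)) = center E := by
  have hcc := comm_mem_center hE
  have hZ : center E ≤ closure {x, y} := by
    have h1 : ⁅x, y⁆ ∈ closure ({x, y} : Set E) := by
      rw [commutatorElement_def]
      have hx : x ∈ closure ({x, y} : Set E) := Subgroup.subset_closure (by simp)
      have hy : y ∈ closure ({x, y} : Set E) := Subgroup.subset_closure (by simp)
      exact mul_mem (mul_mem (mul_mem hx hy) (inv_mem hx)) (inv_mem hy)
    have h2 : zpowers ⁅x, y⁆ = center E := by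
      apply eq_of_le_of_card_ge
      · rw [zpowers_le]; exact hcc x y
      · rw [hE.2, Nat.card_zpowers]
        have h3 : orderOf ⁅x, y⁆ = p :=
          orderOf_eq_prime (center_pow hE (hcc x y)) hxy
        rw [h3]
    rw [← h2, zpowers_le]; exact h1
  apply le_antisymm
  · rintro w ⟨hw, hwc⟩
    -- w = x^i y^j z
    have key : ∀ w ∈ closure ({x, y} : Set E), ∃ i j : ℤ, ∃ z ∈ center E, w = x ^ i * y ^ j * z := by
      intro w hw
      induction hw using Subgroup.closure_induction with
      | mem w hw =>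
        rcases hw with rfl | hw
        · exact ⟨1, 0, 1, one_mem _, by simp⟩
        · rw [Set.mem_singleton_iff] at hw
          exact ⟨0, 1, 1, one_mem _, by rw [hw]; simp⟩
      | one => exact ⟨0, 0, 1, one_mem _, by simp⟩
      | mul a b _ _ ha hb =>
        obtain ⟨i, j, z, hz, rfl⟩ := ha
        obtain ⟨i', j', z', hz', rfl⟩ := hb
        refine ⟨i + i', j + j', ⁅y ^ j, x ^ i'⁆ * z * z', mul_mem (mul_mem (hcc _ _) hz) hz', ?_⟩
        have c1 : ∀ g, g * z = z * g := mem_center_iff.1 hz
        have c2 : ∀ g, g * ⁅y ^ j, x ^ i'⁆ = ⁅y ^ j, x ^ i'⁆ * g := mem_center_iff.1 (hcc _ _)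
        have e1 : y ^ j * x ^ i' = ⁅y ^ j, x ^ i'⁆ * (x ^ i' * y ^ j) := by
          rw [commutatorElement_def]; group
        calc x ^ i * y ^ j * z * (x ^ i' * y ^ j' * z')
            = x ^ i * y ^ j * (z * (x ^ i' * y ^ j')) * z' := by group
          _ = x ^ i * (y ^ j * x ^ i') * y ^ j' * z * z' := by rw [← c1]; group
          _ = x ^ i * (⁅y ^ j, x ^ i'⁆ * (x ^ i' * y ^ j)) * y ^ j' * z * z' := by rw [← e1]
          _ = (x ^ i * ⁅y ^ j, x ^ i'⁆) * (x ^ i' * y ^ j * y ^ j') * z * z' := by group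
          _ = x ^ i * ((x ^ i' * y ^ j * y ^ j') * ⁅y ^ j, x ^ i'⁆) * z * z' := by
              rw [c2 (x ^ i' * y ^ j * y ^ j')]; group
          _ = _ := by rw [zpow_add, zpow_add]; group
      | inv a _ ha =>
        obtain ⟨i, j, z, hz, rfl⟩ := ha
        refine ⟨-i, -j, ⁅y ^ (-j), x ^ (-i)⁆ * z⁻¹, mul_mem (hcc _ _) (inv_mem hz), ?_⟩
        have c1 : ∀ g, g * z⁻¹ = z⁻¹ * g := mem_center_iff.1 (inv_mem hz)
        have c2 : ∀ g, g * ⁅y ^ (-j), x ^ (-i)⁆ = ⁅y ^ (-j), x ^ (-i)⁆ * g := mem_center_iff.1 (hcc _ _)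
        calc (x ^ i * y ^ j * z)⁻¹ = z⁻¹ * (y ^ (-j) * x ^ (-i)) := by group
          _ = (y ^ (-j) * x ^ (-i)) * z⁻¹ := by rw [← c1]
          _ = (⁅y ^ (-j), x ^ (-i)⁆ * (x ^ (-i) * y ^ (-j))) * z⁻¹ := by
              rw [commutatorElement_def]; group
          _ = _ := by rw [← c2]; group
    obtain ⟨i, j, z, hz, rfl⟩ := key w hw
    have hx : x ∈ closure ({x, y} : Set E) := Subgroup.subset_closure (by simp)
    have hy : y ∈ closure ({x, y} : Set E) := Subgroup.subset_closure (by simp)
    have hX := Cfsg.Agent.H2.Class.comm_mul_left hcc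
    have hzc : ∀ g : E, ⁅z, g⁆ = 1 := fun g => by
      rw [commutatorElement_eq_one_iff_mul_comm]; exact (mem_center_iff.1 hz g).symm
    have e1 : ⁅x ^ i * y ^ j * z, y⁆ = ⁅x, y⁆ ^ i := by
      rw [hX, hX, hzc, mul_one, Cfsg.Agent.H2.Class.comm_zpow_left hcc,
        Cfsg.Agent.H2.Class.comm_zpow_left hcc, commutatorElement_self, one_zpow, mul_one]
    have e2 : ⁅x ^ i * y ^ j * z, x⁆ = ⁅y, x⁆ ^ j := by
      rw [hX, hX, hzc, mul_one, Cfsg.Agent.H2.Class.comm_zpow_left hcc,
        Cfsg.Agent.H2.Class.comm_zpow_left hcc, commutatorElement_self, one_zpow, one_mul]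
    have f1 : ⁅x, y⁆ ^ i = 1 := by
      rw [← e1, commutatorElement_eq_one_iff_mul_comm]
      exact ((mem_centralizer_iff.1 hwc) y hy).symm
    have f2 : ⁅y, x⁆ ^ j = 1 := by
      rw [← e2, commutatorElement_eq_one_iff_mul_comm]
      exact ((mem_centralizer_iff.1 hwc) x hx).symm
    have ho : orderOf ⁅x, y⁆ = p := orderOf_eq_prime (center_pow hE (hcc x y)) hxy
    have ho' : orderOf ⁅y, x⁆ = p := by
      rw [← commutatorElement_inv, orderOf_inv, ho]
    have g1 : (p : ℤ) ∣ i := by rw [← ho]; exact orderOf_dvd_iff_zpow_eq_one.2 f1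
    have g2 : (p : ℤ) ∣ j := by rw [← ho']; exact orderOf_dvd_iff_zpow_eq_one.2 f2
    obtain ⟨i', rfl⟩ := g1
    obtain ⟨j', rfl⟩ := g2
    rw [zpow_mul, zpow_mul, zpow_natCast, zpow_natCast]
    exact mul_mem (mul_mem (zpow_mem (pow_mem_center hE x) _) (zpow_mem (pow_mem_center hE y) _)) hz
  · intro w hw
    refine mem_inf.2 ⟨hZ hw, ?_⟩
    rw [mem_centralizer_iff]
    exact fun g _ => mem_center_iff.1 hw g

end ES

end Cfsg.Agent.H2.Extra
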