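import Mathlib
import Cfsg.Prelude
import Cfsg.Agent.H2_Extra

set_option autoImplicit false

open Subgroup Cfsg
open scoped Pointwise commutatorElement

universe u v w

namespace Cfsg.Agent.H2.Extra

/-- Gluing two isomorphisms of central products. -/
theorem glue {G₁ G₂ : Type*} [Group G₁] [Group G₂] (A₁ B₁ : Subgroup G₁) (A₂ B₂ : Subgroup G₂)
    (hc₁ : ∀ a ∈ A₁, ∀ b ∈ B₁, Commute a b) (hc₂ : ∀ a ∈ A₂, ∀ b ∈ B₂, Commute a b)
    (ht₁ : A₁ ⊔ B₁ = ⊤) (ht₂ : A₂ ⊔ B₂ = ⊤) (φ : A₁ ≃* A₂) (ψ : B₁ ≃* B₂)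
    (h : ∀ (a : A₁) (b : B₁), (a : G₁) = b ↔ (φ a : G₂) = ψ b) :
    ∃ e : G₁ ≃* G₂, (∀ a : A₁, e a = φ a) ∧ ∀ b : B₁, e b = ψ b := by
  let f₁ : A₁ × B₁ →* G₁ := MonoidHom.noncommCoprod A₁.subtype B₁.subtype
    (fun a b => hc₁ a a.2 b b.2)
  let f₂ : A₁ × B₁ →* G₂ := MonoidHom.noncommCoprod (A₂.subtype.comp φ.toMonoidHom)
    (B₂.subtype.comp ψ.toMonoidHom) (fun a b => hc₂ _ (φ a).2 _ (ψ b).2)
  have hf₁ : ∀ a b, f₁ (a, b) = (a : G₁) * b := fun a b => rfl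
  have hf₂ : ∀ a b, f₂ (a, b) = (φ a : G₂) * ψ b := fun a b => rfl
  have hs₁ : Function.Surjective f₁ := by
    rw [← MonoidHom.range_eq_top, eq_top_iff, ← ht₁]
    apply sup_le
    · intro a ha; exact ⟨(⟨a, ha⟩, 1), by rw [hf₁]; simp⟩
    · intro b hb; exact ⟨(1, ⟨b, hb⟩), by rw [hf₁]; simp⟩
  have hs₂ : Function.Surjective f₂ := by
    rw [← MonoidHom.range_eq_top, eq_top_iff, ← ht₂]
    apply sup_le
    · intro a ha
      obtain ⟨x, hx⟩ := φ.surjective ⟨a, ha⟩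
      exact ⟨(x, 1), by rw [hf₂, hx]; simp⟩
    · intro b hb
      obtain ⟨x, hx⟩ := ψ.surjective ⟨b, hb⟩
      exact ⟨(1, x), by rw [hf₂, hx]; simp⟩
  have hk : f₁.ker = f₂.ker := by
    ext ⟨a, b⟩
    rw [MonoidHom.mem_ker, MonoidHom.mem_ker, hf₁, hf₂, mul_eq_one_iff_eq_inv, mul_eq_one_iff_eq_inv]
    have := h a b⁻¹
    rw [map_inv] at this
    exact this
  let e : G₁ ≃* G₂ := (QuotientGroup.quotientKerEquivOfSurjective f₁ hs₁).symm.trans
    ((QuotientGroup.quotientMulEquivOfEq hk).trans (QuotientGroup.quotientKerEquivOfSurjective f₂ hs₂))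
  have he : ∀ x, e (f₁ x) = f₂ x := by
    intro x
    have h1 : (QuotientGroup.quotientKerEquivOfSurjective f₁ hs₁).symm (f₁ x) = (x : _ ⧸ f₁.ker) := by
      rw [MulEquiv.symm_apply_eq]; rfl
    change (QuotientGroup.quotientKerEquivOfSurjective f₂ hs₂) ((QuotientGroup.quotientMulEquivOfEq hk)
      ((QuotientGroup.quotientKerEquivOfSurjective f₁ hs₁).symm (f₁ x))) = f₂ x
    rw [h1]; rfl
  refine ⟨e, fun a => ?_, fun b => ?_⟩
  · have := he (a, 1)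
    rw [hf₁, hf₂] at this
    simpa using this
  · have := he (1, b)
    rw [hf₁, hf₂] at this
    simpa using this

/-- Normal form in a class two group generated by two elements. -/
theorem normal_form {Γ : Type*} [Group Γ] (hcc : ∀ a b : Γ, ⁅a, b⁆ ∈ center Γ) (x y : Γ) {w : Γ}
    (hw : w ∈ closure ({x, y} : Set Γ)) : ∃ i j k : ℤ, w = x ^ i * y ^ j * ⁅x, y⁆ ^ k := by
  have hz : ∀ k : ℤ, ⁅x, y⁆ ^ k ∈ center Γ := fun k => zpow_mem (hcc x y) k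
  have hyx : ∀ i j : ℤ, ⁅y ^ j, x ^ i⁆ = ⁅x, y⁆ ^ (-(i * j)) := by
    intro i j
    rw [Cfsg.Agent.H2.Class.comm_zpow_left hcc, Cfsg.Agent.H2.Class.comm_zpow_right hcc,
      ← commutatorElement_inv x y, ← zpow_mul, inv_zpow, zpow_neg]
  induction hw using Subgroup.closure_induction with
  | mem w hw =>
    rcases hw with rfl | hw
    · exact ⟨1, 0, 0, by simp⟩
    · rw [Set.mem_singleton_iff] at hw
      exact ⟨0, 1, 0, by rw [hw]; simp⟩
  | one => exact ⟨0, 0, 0, by simp⟩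
  | mul a b _ _ ha hb =>
    obtain ⟨i, j, k, rfl⟩ := ha
    obtain ⟨i', j', k', rfl⟩ := hb
    refine ⟨i + i', j + j', -(i' * j) + (k + k'), ?_⟩
    have c1 : ∀ g, g * ⁅x, y⁆ ^ k = ⁅x, y⁆ ^ k * g := mem_center_iff.1 (hz k)
    have c2 : ∀ g, g * ⁅x, y⁆ ^ (-(i' * j)) = ⁅x, y⁆ ^ (-(i' * j)) * g := mem_center_iff.1 (hz _)
    have e1 : y ^ j * x ^ i' = ⁅x, y⁆ ^ (-(i' * j)) * (x ^ i' * y ^ j) := by
      rw [← hyx, commutatorElement_def]; group
    calc x ^ i * y ^ j * ⁅x, y⁆ ^ k * (x ^ i' * y ^ j' * ⁅x, y⁆ ^ k')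
        = x ^ i * y ^ j * (⁅x, y⁆ ^ k * (x ^ i' * y ^ j')) * ⁅x, y⁆ ^ k' := by
          simp only [mul_assoc]
      _ = x ^ i * (y ^ j * x ^ i') * y ^ j' * (⁅x, y⁆ ^ k * ⁅x, y⁆ ^ k') := by
          rw [← c1]; simp only [mul_assoc]
      _ = x ^ i * (⁅x, y⁆ ^ (-(i' * j)) * (x ^ i' * y ^ j)) * y ^ j' * (⁅x, y⁆ ^ k * ⁅x, y⁆ ^ k') := by
          rw [← e1]
      _ = x ^ i * (⁅x, y⁆ ^ (-(i' * j)) * (x ^ i' * y ^ j * y ^ j')) * (⁅x, y⁆ ^ k * ⁅x, y⁆ ^ k') := by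
          simp only [mul_assoc]
      _ = x ^ i * ((x ^ i' * y ^ j * y ^ j') * ⁅x, y⁆ ^ (-(i' * j))) * (⁅x, y⁆ ^ k * ⁅x, y⁆ ^ k') := by
          rw [← c2]
      _ = _ := by rw [zpow_add, zpow_add, zpow_add ⁅x, y⁆, zpow_add ⁅x, y⁆]; simp only [mul_assoc]
  | inv a _ ha =>
    obtain ⟨i, j, k, rfl⟩ := ha
    refine ⟨-i, -j, -(-i * -j) + -k, ?_⟩
    have c1 : ∀ g, g * ⁅x, y⁆ ^ (-k) = ⁅x, y⁆ ^ (-k) * g := mem_center_iff.1 (hz _)
    have c2 : ∀ g, g * ⁅x, y⁆ ^ (-(-i * -j)) = ⁅x, y⁆ ^ (-(-i * -j)) * g := mem_center_iff.1 (hz _)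
    calc (x ^ i * y ^ j * ⁅x, y⁆ ^ k)⁻¹ = ⁅x, y⁆ ^ (-k) * (y ^ (-j) * x ^ (-i)) := by
          simp only [mul_inv_rev, zpow_neg]
      _ = (y ^ (-j) * x ^ (-i)) * ⁅x, y⁆ ^ (-k) := by rw [← c1]
      _ = (⁅y ^ (-j), x ^ (-i)⁆ * (x ^ (-i) * y ^ (-j))) * ⁅x, y⁆ ^ (-k) := by
          rw [commutatorElement_def (y ^ (-j))]; group
      _ = (x ^ (-i) * y ^ (-j)) * (⁅x, y⁆ ^ (-(-i * -j)) * ⁅x, y⁆ ^ (-k)) := by
          rw [hyx, ← c2]; simp only [mul_assoc]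
      _ = _ := by rw [← zpow_add]

section

variable {p : ℕ} [hp : Fact p.Prime]

/-- In an extraspecial group the normal form exponents are unique mod `p`. -/
theorem dvd_of_eq_one {E : Type*} [Group E] [Finite E] (hE : IsExtraspecial p E) {x y : E}
    (hxy : ⁅x, y⁆ ≠ 1) {i j k : ℤ} (h : x ^ i * y ^ j * ⁅x, y⁆ ^ k = 1) : (p : ℤ) ∣ i ∧ (p : ℤ) ∣ j := by
  have hcc := comm_mem_center hE
  have hX := Cfsg.Agent.H2.Class.comm_mul_left hcc
  have hzc : ∀ g : E, ⁅⁅x, y⁆ ^ k, g⁆ = 1 := fun g => by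
    rw [commutatorElement_eq_one_iff_mul_comm]; exact (mem_center_iff.1 (zpow_mem (hcc x y) k) g).symm
  have e1 : ⁅x ^ i * y ^ j * ⁅x, y⁆ ^ k, y⁆ = ⁅x, y⁆ ^ i := by
    rw [hX, hX, hzc, mul_one, Cfsg.Agent.H2.Class.comm_zpow_left hcc,
      Cfsg.Agent.H2.Class.comm_zpow_left hcc, commutatorElement_self, one_zpow, mul_one]
  have e2 : ⁅x ^ i * y ^ j * ⁅x, y⁆ ^ k, x⁆ = ⁅y, x⁆ ^ j := by
    rw [hX, hX, hzc, mul_one, Cfsg.Agent.H2.Class.comm_zpow_left hcc,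
      Cfsg.Agent.H2.Class.comm_zpow_left hcc, commutatorElement_self, one_zpow, one_mul]
  rw [h, commutatorElement_one_left] at e1 e2
  have ho : orderOf ⁅x, y⁆ = p := orderOf_eq_prime (center_pow hE (hcc x y)) hxy
  have ho' : orderOf ⁅y, x⁆ = p := by
    rw [← commutatorElement_inv, orderOf_inv, ho]
  constructor
  · rw [← ho]; exact orderOf_dvd_iff_zpow_eq_one.2 e1.symm
  · rw [← ho']; exact orderOf_dvd_iff_zpow_eq_one.2 e2.symm

/-- Noncommuting pairs with matching relations generate isomorphic subgroups. -/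
theorem pair_iso {E₁ : Type u} {E₂ : Type v} [Group E₁] [Group E₂] [Finite E₁] [Finite E₂]
    (h₁ : IsExtraspecial p E₁) (h₂ : IsExtraspecial p E₂) {x₁ y₁ : E₁} {x₂ y₂ : E₂}
    (hxy₁ : ⁅x₁, y₁⁆ ≠ 1) (hxy₂ : ⁅x₂, y₂⁆ ≠ 1) (a b : ℕ)
    (ha₁ : x₁ ^ p = ⁅x₁, y₁⁆ ^ a) (hb₁ : y₁ ^ p = ⁅x₁, y₁⁆ ^ b)
    (ha₂ : x₂ ^ p = ⁅x₂, y₂⁆ ^ a) (hb₂ : y₂ ^ p = ⁅x₂, y₂⁆ ^ b) :
    ∃ e : closure ({x₁, y₁} : Set E₁) ≃* closure ({x₂, y₂} : Set E₂),
      ∀ w : closure ({x₁, y₁} : Set E₁), (w : E₁) = ⁅x₁, y₁⁆ → (e w : E₂) = ⁅x₂, y₂⁆ := by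
  have hcc : ∀ a b : E₁ × E₂, ⁅a, b⁆ ∈ center (E₁ × E₂) := by
    intro a b
    rw [mem_center_iff]
    intro g
    refine Prod.ext ?_ ?_
    · exact mem_center_iff.1 (comm_mem_center h₁ a.1 b.1) g.1
    · exact mem_center_iff.1 (comm_mem_center h₂ a.2 b.2) g.2
  set X : E₁ × E₂ := (x₁, x₂) with hX
  set Y : E₁ × E₂ := (y₁, y₂) with hY
  set H : Subgroup (E₁ × E₂) := closure {X, Y} with hH
  have hXY1 : (⁅X, Y⁆).1 = ⁅x₁, y₁⁆ := rfl
  have hXY2 : (⁅X, Y⁆).2 = ⁅x₂, y₂⁆ := rfl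
  have hr₁ : H.map (MonoidHom.fst E₁ E₂) = closure {x₁, y₁} := by
    rw [hH, MonoidHom.map_closure, Set.image_pair]; rfl
  have hr₂ : H.map (MonoidHom.snd E₁ E₂) = closure {x₂, y₂} := by
    rw [hH, MonoidHom.map_closure, Set.image_pair]; rfl
  -- key computation
  have hpow : ∀ {E : Type _} [Group E] [Finite E] (hE : IsExtraspecial p E) (x y : E) (hxy : ⁅x, y⁆ ≠ 1)
      (ha : x ^ p = ⁅x, y⁆ ^ a) (hb : y ^ p = ⁅x, y⁆ ^ b) (i j k : ℤ),
      x ^ ((p : ℤ) * i) * y ^ ((p : ℤ) * j) * ⁅x, y⁆ ^ k = ⁅x, y⁆ ^ ((a : ℤ) * i + b * j + k) := by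
    intro E _ _ hE x y hxy ha hb i j k
    rw [zpow_mul, zpow_mul, zpow_natCast, zpow_natCast, ha, hb, ← zpow_natCast, ← zpow_natCast,
      ← zpow_mul, ← zpow_mul, ← zpow_add, ← zpow_add]
  have hpow' : ∀ {E : Type v} [Group E] [Finite E] (hE : IsExtraspecial p E) (x y : E) (hxy : ⁅x, y⁆ ≠ 1)
      (ha : x ^ p = ⁅x, y⁆ ^ a) (hb : y ^ p = ⁅x, y⁆ ^ b) (i j k : ℤ),
      x ^ ((p : ℤ) * i) * y ^ ((p : ℤ) * j) * ⁅x, y⁆ ^ k = ⁅x, y⁆ ^ ((a : ℤ) * i + b * j + k) := by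
    intro E _ _ hE x y hxy ha hb i j k
    rw [zpow_mul, zpow_mul, zpow_natCast, zpow_natCast, ha, hb, ← zpow_natCast, ← zpow_natCast,
      ← zpow_mul, ← zpow_mul, ← zpow_add, ← zpow_add]
  have ho₁ : orderOf ⁅x₁, y₁⁆ = p := orderOf_eq_prime (center_pow h₁ (comm_mem_center h₁ x₁ y₁)) hxy₁
  have ho₂ : orderOf ⁅x₂, y₂⁆ = p := orderOf_eq_prime (center_pow h₂ (comm_mem_center h₂ x₂ y₂)) hxy₂
  have hinj₁ : Function.Injective ((MonoidHom.fst E₁ E₂).comp H.subtype) := by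
    rw [injective_iff_map_eq_one]
    rintro ⟨w, hw⟩ h
    obtain ⟨i, j, k, rfl⟩ := normal_form hcc X Y hw
    have h1 : x₁ ^ i * y₁ ^ j * ⁅x₁, y₁⁆ ^ k = 1 := h
    obtain ⟨⟨i', rfl⟩, ⟨j', rfl⟩⟩ := dvd_of_eq_one h₁ hxy₁ h1
    rw [hpow h₁ x₁ y₁ hxy₁ ha₁ hb₁] at h1
    have h2 := orderOf_dvd_iff_zpow_eq_one.2 h1
    rw [ho₁, ← ho₂] at h2
    have h3 := orderOf_dvd_iff_zpow_eq_one.1 h2
    rw [← hpow' h₂ x₂ y₂ hxy₂ ha₂ hb₂] at h3
    exact Subtype.ext (Prod.ext h h3)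
  have hinj₂ : Function.Injective ((MonoidHom.snd E₁ E₂).comp H.subtype) := by
    rw [injective_iff_map_eq_one]
    rintro ⟨w, hw⟩ h
    obtain ⟨i, j, k, rfl⟩ := normal_form hcc X Y hw
    have h1 : x₂ ^ i * y₂ ^ j * ⁅x₂, y₂⁆ ^ k = 1 := h
    obtain ⟨⟨i', rfl⟩, ⟨j', rfl⟩⟩ := dvd_of_eq_one h₂ hxy₂ h1
    rw [hpow' h₂ x₂ y₂ hxy₂ ha₂ hb₂] at h1
    have h2 := orderOf_dvd_iff_zpow_eq_one.2 h1
    rw [ho₂, ← ho₁] at h2
    have h3 := orderOf_dvd_iff_zpow_eq_one.1 h2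
    rw [← hpow h₁ x₁ y₁ hxy₁ ha₁ hb₁] at h3
    exact Subtype.ext (Prod.ext h3 h)
  have hrr₁ : ((MonoidHom.fst E₁ E₂).comp H.subtype).range = closure {x₁, y₁} := by
    rw [MonoidHom.range_comp, range_subtype, hr₁]
  have hrr₂ : ((MonoidHom.snd E₁ E₂).comp H.subtype).range = closure {x₂, y₂} := by
    rw [MonoidHom.range_comp, range_subtype, hr₂]
  let e₁ : H ≃* closure ({x₁, y₁} : Set E₁) := (MonoidHom.ofInjective hinj₁).trans (MulEquiv.subgroupCongr hrr₁)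
  let e₂ : H ≃* closure ({x₂, y₂} : Set E₂) := (MonoidHom.ofInjective hinj₂).trans (MulEquiv.subgroupCongr hrr₂)
  refine ⟨e₁.symm.trans e₂, fun w hw => ?_⟩
  obtain ⟨v, rfl⟩ := e₁.surjective w
  rw [MulEquiv.trans_apply, MulEquiv.symm_apply_apply]
  have hv1 : ((v : E₁ × E₂)).1 = ⁅x₁, y₁⁆ := hw
  change ((v : E₁ × E₂)).2 = ⁅x₂, y₂⁆
  have hXYH : ⁅X, Y⁆ ∈ H := by
    have hx : X ∈ H := Subgroup.subset_closure (by simp)
    have hy : Y ∈ H := Subgroup.subset_closure (by simp)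
    rw [commutatorElement_def]
    exact mul_mem (mul_mem (mul_mem hx hy) (inv_mem hx)) (inv_mem hy)
  have h3 : v = ⟨⁅X, Y⁆, hXYH⟩ := hinj₁ (by
    change ((v : E₁ × E₂)).1 = (⁅X, Y⁆).1
    rw [hv1]
    exact hXY1.symm)
  rw [h3]
  exact hXY2

omit hp in
theorem eq_of_le_of_prime [hp : Fact p.Prime] {G : Type*} [Group G] [Finite G] {H K : Subgroup G} (h : H ≤ K) (hK : Nat.card K = p)
    (hH : H ≠ ⊥) : H = K := by
  apply eq_of_le_of_card_ge h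
  have h1 : Nat.card H ∣ p := by rw [← hK]; exact card_dvd_of_le h
  rcases (Nat.dvd_prime hp.out).1 h1 with h2 | h2
  · exact absurd (card_eq_one.1 h2) hH
  · rw [h2, hK]

theorem isExtraspecial_of {C : Type*} [Group C] [Finite C] (hC : IsPGroup p C)
    (hcard : Nat.card (center C) = p) (hcomm : ∀ a b : C, ⁅a, b⁆ ∈ center C)
    (hpow : ∀ a : C, a ^ p ∈ center C) (hne : ∃ a b : C, ⁅a, b⁆ ≠ 1) : IsExtraspecial p C := by
  have h1 : commutator C ≤ center C := by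
    rw [_root_.commutator_def, commutator_le]
    exact fun a _ b _ => hcomm a b
  have h2 : commutator C = center C := by
    apply eq_of_le_of_prime h1 hcard
    intro h
    obtain ⟨a, b, hab⟩ := hne
    apply hab
    have : ⁅a, b⁆ ∈ commutator C := by
      rw [_root_.commutator_def]; exact commutator_mem_commutator (mem_top a) (mem_top b)
    rwa [h, mem_bot] at this
  have h3 : frattini C ≤ center C :=
    Cfsg.Agent.H1.Frattini.frattini_le_of_elementary (p := p) _ h1 hpow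
  have h4 := (Cfsg.Agent.H1.Nilp.commutator_le_frattini hC).1
  exact ⟨⟨hC, le_antisymm h3 (h2 ▸ h4), h2⟩, hcard⟩

/-- A nondegenerate subgroup with nonabelian ... is extraspecial. -/
theorem sub_extraspecial {E : Type*} [Group E] [Finite E] (hE : IsExtraspecial p E) (C : Subgroup E)
    (hC : C ⊓ centralizer (C : Set E) = center E) (hne : C ≠ center E) : IsExtraspecial p C := by
  have hcen : (center C).map C.subtype = center E := by
    rw [← hC]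
    apply le_antisymm
    · rintro _ ⟨c, hc, rfl⟩
      refine mem_inf.2 ⟨c.2, ?_⟩
      rw [mem_centralizer_iff]
      intro d hd
      exact congrArg Subtype.val ((mem_center_iff.1 hc) ⟨d, hd⟩)
    · intro c hc
      refine ⟨⟨c, (mem_inf.1 hc).1⟩, ?_, rfl⟩
      rw [SetLike.mem_coe, mem_center_iff]
      intro d
      exact Subtype.ext ((mem_centralizer_iff.1 (mem_inf.1 hc).2) d d.2)
  have hmem : ∀ c : C, (c : E) ∈ center E → c ∈ center C := by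
    intro c hc
    rw [mem_center_iff]
    intro g
    exact Subtype.ext (mem_center_iff.1 hc g)
  apply isExtraspecial_of (hE.1.1.to_subgroup C)
  · rw [← card_map_of_injective C.subtype_injective, hcen, hE.2]
  · intro a b
    exact hmem _ (comm_mem_center hE (a : E) b)
  · intro a
    exact hmem _ (pow_mem_center hE (a : E))
  · by_contra hcon
    push Not at hcon
    apply hne
    rw [← hC]
    symm
    rw [inf_eq_left]
    intro c hc
    rw [mem_centralizer_iff]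
    intro d hd
    have := hcon ⟨d, hd⟩ ⟨c, hc⟩
    exact congrArg Subtype.val (commutatorElement_eq_one_iff_mul_comm.1 this)

theorem centralizer_nondeg {E : Type*} [Group E] [Finite E] (hE : IsExtraspecial p E) (D : Subgroup E)
    (hD : D ⊓ centralizer (D : Set E) = center E) :
    centralizer (D : Set E) ⊓ centralizer ((centralizer (D : Set E) : Subgroup E) : Set E) = center E := by
  have h1 := es_split hE D hD
  apply le_antisymm
  · intro c hc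
    have h2 : D ⊔ centralizer (D : Set E) ≤ centralizer {c} := by
      apply sup_le
      · intro d hd
        rw [mem_centralizer_singleton_iff]
        exact ((mem_centralizer_iff.1 (mem_inf.1 hc).1) d hd)
      · intro d hd
        rw [mem_centralizer_singleton_iff]
        exact ((mem_centralizer_iff.1 (mem_inf.1 hc).2) d hd)
    rw [h1] at h2
    rw [mem_center_iff]
    intro g
    exact mem_centralizer_singleton_iff.1 (h2 (mem_top g))
  · intro c hc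
    refine mem_inf.2 ⟨?_, ?_⟩
    · rw [mem_centralizer_iff]; exact fun g _ => mem_center_iff.1 hc g
    · rw [mem_centralizer_iff]; exact fun g _ => mem_center_iff.1 hc g

theorem not_abelian {E : Type*} [Group E] [Finite E] (hE : IsExtraspecial p E) :
    ∃ x y : E, ⁅x, y⁆ ≠ 1 := by
  by_contra hcon
  push Not at hcon
  have h1 : commutator E = ⊥ := by
    rw [eq_bot_iff, _root_.commutator_def, commutator_le]
    intro a _ b _
    rw [mem_bot]; exact hcon a b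
  have h2 := hE.2
  rw [← hE.1.2.2, h1, card_bot] at h2
  exact hp.out.one_lt.ne h2

/-- self-centralizing abelian subgroup -/
theorem exists_self_centralizing {E : Type*} [Group E] [Finite E] (hE : IsExtraspecial p E) :
    ∃ A : Subgroup E, (∀ a ∈ A, ∀ b ∈ A, a * b = b * a) ∧ center E ≤ A ∧
      A.index = (center E).relIndex A := by
  have hf : {A : Subgroup E | A.Normal ∧ IsMulCommutative A}.Finite := Set.toFinite _
  obtain ⟨A, hA⟩ := hf.exists_maximal ⟨⊥, inferInstance, inferInstance⟩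
  have hAn := hA.prop.1
  have hAc := hA.prop.2
  have hnil : Group.IsNilpotent E := hE.1.1.isNilpotent
  have h1 := Cfsg.Agent.H1.Frattini.max_abelian_normal_self_centralizing A
    (fun M h1 h2 h3 => le_antisymm (hA.2 ⟨h1, h2⟩ h3) h3)
  refine ⟨A, fun a ha b hb => congrArg Subtype.val (hAc.is_comm.comm (⟨a, ha⟩ : A) ⟨b, hb⟩), ?_, ?_⟩
  · rw [← h1]
    intro c hc
    rw [mem_centralizer_iff]; exact fun g _ => mem_center_iff.1 hc g
  · have := es_index_centralizer hE A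
    rwa [h1] at this

theorem card_eq {E : Type*} [Group E] [Finite E] (hE : IsExtraspecial p E) :
    ∃ n : ℕ, 1 ≤ n ∧ Nat.card E = p ^ (2 * n + 1) ∧ ∃ A : Subgroup E, (∀ a ∈ A, ∀ b ∈ A, a * b = b * a) ∧
      Nat.card A = p ^ (n + 1) := by
  obtain ⟨A, hAc, hZA, hA⟩ := exists_self_centralizing hE
  have h1 : (center E).relIndex A ∣ Nat.card E := (Dvd.intro_left _ (Cfsg.Agent.H2.Card.card_mul_relIndex hZA)).trans (card_subgroup_dvd_card A)
  obtain ⟨m, hm⟩ := IsPGroup.iff_card.1 hE.1.1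
  rw [hm] at h1
  obtain ⟨n, -, hn⟩ := (Nat.dvd_prime_pow hp.out).1 h1
  have h2 := Cfsg.Agent.H2.Card.card_mul_relIndex hZA
  rw [hE.2, hn] at h2
  have h3 := card_mul_index A
  rw [hA, hn, ← h2] at h3
  refine ⟨n, ?_, ?_, A, hAc, ?_⟩
  · by_contra h0
    have : n = 0 := by omega
    subst this
    rw [pow_zero] at hn
    rw [hn, index_eq_one] at hA
    obtain ⟨x, y, hxy⟩ := not_abelian hE
    apply hxy
    rw [commutatorElement_eq_one_iff_mul_comm]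
    exact hAc x (hA ▸ mem_top x) y (hA ▸ mem_top y)
  · rw [← h3]; ring
  · rw [← h2]; ring

end

end Cfsg.Agent.H2.Extra
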