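import Mathlib
import Cfsg.Prelude
import Cfsg.Agent.H2_Extra2

set_option autoImplicit false

open Subgroup Cfsg
open scoped Pointwise commutatorElement

universe u v w

namespace Cfsg.Agent.H2.Extra

section

variable {p : ℕ} [hp : Fact p.Prime]

omit hp in
theorem comm_ne_symm {E : Type*} [Group E] {x y : E} (h : ⁅x, y⁆ ≠ 1) : ⁅y, x⁆ ≠ 1 := by
  rw [Ne, commutatorElement_eq_one_iff_mul_comm] at h ⊢
  exact fun h' => h h'.symm

theorem zpowers_eq_center {E : Type*} [Group E] [Finite E] (hE : IsExtraspecial p E) {z : E}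
    (hz : z ∈ center E) (h1 : z ≠ 1) : zpowers z = center E := by
  apply eq_of_le_of_prime (p := p) _ hE.2
  · rw [Ne, zpowers_eq_bot]; exact h1
  · rw [zpowers_le]; exact hz

/-- Given a central `z ≠ 1`, find a pair with commutator `z`. -/
theorem exists_pair {E : Type*} [Group E] [Finite E] (hE : IsExtraspecial p E) {z : E}
    (hz : z ∈ center E) (h1 : z ≠ 1) : ∃ x y : E, ⁅x, y⁆ = z := by
  obtain ⟨x, y, hxy⟩ := not_abelian hE
  have h2 := zpowers_eq_center hE (comm_mem_center hE x y) hxy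
  rw [← h2] at hz
  obtain ⟨k, rfl⟩ := hz
  exact ⟨x, y ^ k, Cfsg.Agent.H2.Class.comm_zpow_right (comm_mem_center hE) x y k⟩

theorem pair_center_le {E : Type*} [Group E] [Finite E] (hE : IsExtraspecial p E) {x y : E}
    (hxy : ⁅x, y⁆ ≠ 1) : center E ≤ closure {x, y} := by
  rw [← es_pair_center hE hxy]; exact inf_le_left

theorem comm_mem_closure {E : Type*} [Group E] (x y : E) : ⁅x, y⁆ ∈ closure ({x, y} : Set E) := by
  have hx : x ∈ closure ({x, y} : Set E) := Subgroup.subset_closure (by simp)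
  have hy : y ∈ closure ({x, y} : Set E) := Subgroup.subset_closure (by simp)
  rw [commutatorElement_def]
  exact mul_mem (mul_mem (mul_mem hx hy) (inv_mem hx)) (inv_mem hy)

theorem card_centralizer_mul {E : Type*} [Group E] [Finite E] (hE : IsExtraspecial p E) (D : Subgroup E)
    (hD : D ⊓ centralizer (D : Set E) = center E) :
    Nat.card D * Nat.card (centralizer (D : Set E)) = Nat.card E * p := by
  have hn : D ≤ normalizer ((centralizer (D : Set E) : Subgroup E) : Set E) := by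
    refine le_trans ?_ (centralizer_le_normalizer _)
    rw [le_centralizer_iff]
  have h1 := Cfsg.Agent.H2.Card.card_sup_mul_card_inf hn
  rw [hD, es_split hE D hD, card_top, hE.2] at h1
  exact h1.symm

/-- Assembling an isomorphism from isomorphic pairs and isomorphic centralizers. -/
theorem assemble {E₁ : Type u} {E₂ : Type v} [Group E₁] [Group E₂] [Finite E₁] [Finite E₂]
    (h₁ : IsExtraspecial p E₁) (h₂ : IsExtraspecial p E₂) {z₁ : E₁} {z₂ : E₂}
    (hz₁ : z₁ ∈ center E₁) (hz₂ : z₂ ∈ center E₂) (hz₁' : z₁ ≠ 1) (hz₂' : z₂ ≠ 1)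
    (D₁ : Subgroup E₁) (D₂ : Subgroup E₂) (hD₁ : D₁ ⊓ centralizer (D₁ : Set E₁) = center E₁)
    (hD₂ : D₂ ⊓ centralizer (D₂ : Set E₂) = center E₂) (φ : D₁ ≃* D₂)
    (hφ : ∀ w : D₁, (w : E₁) = z₁ → (φ w : E₂) = z₂)
    (ψ : centralizer (D₁ : Set E₁) ≃* centralizer (D₂ : Set E₂))
    (hψ : ∀ w : centralizer (D₁ : Set E₁), (w : E₁) = z₁ → (ψ w : E₂) = z₂) :
    ∃ e : E₁ ≃* E₂, e z₁ = z₂ := by
  have hZ₁ := zpowers_eq_center h₁ hz₁ hz₁'
  have hZ₂ := zpowers_eq_center h₂ hz₂ hz₂'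
  have hzD₁ : z₁ ∈ D₁ := by
    have : z₁ ∈ D₁ ⊓ centralizer (D₁ : Set E₁) := hD₁ ▸ hz₁
    exact (mem_inf.1 this).1
  have hzC₁ : z₁ ∈ centralizer (D₁ : Set E₁) := by
    have : z₁ ∈ D₁ ⊓ centralizer (D₁ : Set E₁) := hD₁ ▸ hz₁
    exact (mem_inf.1 this).2
  have hφk : ∀ (w : D₁) (k : ℤ), (w : E₁) = z₁ ^ k → (φ w : E₂) = z₂ ^ k := by
    intro w k hw
    have h1 : w = (⟨z₁, hzD₁⟩ : D₁) ^ k := Subtype.ext (by rw [hw]; rfl)
    rw [h1, map_zpow, ← hφ ⟨z₁, hzD₁⟩ rfl]; rfl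
  have hψk : ∀ (w : centralizer (D₁ : Set E₁)) (k : ℤ), (w : E₁) = z₁ ^ k → (ψ w : E₂) = z₂ ^ k := by
    intro w k hw
    have h1 : w = (⟨z₁, hzC₁⟩ : centralizer (D₁ : Set E₁)) ^ k := Subtype.ext (by rw [hw]; rfl)
    rw [h1, map_zpow, ← hψ ⟨z₁, hzC₁⟩ rfl]; rfl
  obtain ⟨e, he, -⟩ := glue D₁ (centralizer (D₁ : Set E₁)) D₂ (centralizer (D₂ : Set E₂))
    (fun a ha b hb => (mem_centralizer_iff.1 hb) a ha) (fun a ha b hb => (mem_centralizer_iff.1 hb) a ha)
    (es_split h₁ D₁ hD₁) (es_split h₂ D₂ hD₂) φ ψ (by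
      intro a b
      constructor
      · intro hab
        have h3 : (a : E₁) ∈ zpowers z₁ := by
          rw [hZ₁, ← hD₁]
          exact mem_inf.2 ⟨a.2, hab ▸ b.2⟩
        obtain ⟨k, hk⟩ := h3
        rw [hφk a k hk.symm, hψk b k (by rw [← hab]; exact hk.symm)]
      · intro hab
        have h3 : (φ a : E₂) ∈ zpowers z₂ := by
          rw [hZ₂, ← hD₂]
          exact mem_inf.2 ⟨(φ a).2, hab ▸ (ψ b).2⟩
        obtain ⟨k, hk⟩ := h3
        have h4 : a = (⟨z₁, hzD₁⟩ : D₁) ^ k := by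
          apply φ.injective
          apply Subtype.ext
          rw [← hk]
          exact (hφk _ k rfl).symm
        have h5 : b = (⟨z₁, hzC₁⟩ : centralizer (D₁ : Set E₁)) ^ k := by
          apply ψ.injective
          apply Subtype.ext
          rw [← hab, ← hk]
          exact (hψk _ k rfl).symm
        rw [h4, h5]; rfl)
  exact ⟨e, by rw [← hφ ⟨z₁, hzD₁⟩ rfl]; exact he ⟨z₁, hzD₁⟩⟩

/-- if `D = ⊤` an isomorphism of pairs is enough -/
theorem assemble_top {E₁ : Type u} {E₂ : Type v} [Group E₁] [Group E₂] {z₁ : E₁} {z₂ : E₂}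
    (D₁ : Subgroup E₁) (D₂ : Subgroup E₂) (hD₁ : D₁ = ⊤) (hD₂ : D₂ = ⊤) (φ : D₁ ≃* D₂)
    (hφ : ∀ w : D₁, (w : E₁) = z₁ → (φ w : E₂) = z₂) : ∃ e : E₁ ≃* E₂, e z₁ = z₂ := by
  subst hD₁
  subst hD₂
  refine ⟨topEquiv.symm.trans (φ.trans topEquiv), ?_⟩
  exact hφ ⟨z₁, mem_top _⟩ rfl

theorem iso_exp_p (n : ℕ) : ∀ (E₁ : Type u) (E₂ : Type v) [Group E₁] [Group E₂] [Finite E₁] [Finite E₂],
    Nat.card E₁ ≤ n → IsExtraspecial p E₁ → IsExtraspecial p E₂ → (∀ x : E₁, x ^ p = 1) →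
    (∀ x : E₂, x ^ p = 1) → Nat.card E₁ = Nat.card E₂ → ∀ z₁ ∈ center E₁, ∀ z₂ ∈ center E₂,
    z₁ ≠ 1 → z₂ ≠ 1 → ∃ e : E₁ ≃* E₂, e z₁ = z₂ := by
  induction n with
  | zero =>
    intro E₁ E₂ _ _ _ _ hn
    have := Nat.card_pos (α := E₁)
    omega
  | succ n ih =>
    intro E₁ E₂ _ _ _ _ hn h₁ h₂ he₁ he₂ hcard z₁ hz₁ z₂ hz₂ hz₁' hz₂'
    obtain ⟨x₁, y₁, hxy₁⟩ := exists_pair h₁ hz₁ hz₁'
    obtain ⟨x₂, y₂, hxy₂⟩ := exists_pair h₂ hz₂ hz₂'
    have hne₁ : ⁅x₁, y₁⁆ ≠ 1 := by rw [hxy₁]; exact hz₁'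
    have hne₂ : ⁅x₂, y₂⁆ ≠ 1 := by rw [hxy₂]; exact hz₂'
    have hD₁ := es_pair_center h₁ hne₁
    have hD₂ := es_pair_center h₂ hne₂
    obtain ⟨φ, hφ⟩ := pair_iso h₁ h₂ hne₁ hne₂ 0 0 (by rw [he₁, pow_zero]) (by rw [he₁, pow_zero])
      (by rw [he₂, pow_zero]) (by rw [he₂, pow_zero])
    rw [hxy₁, hxy₂] at hφ
    have hcD : Nat.card (closure ({x₁, y₁} : Set E₁)) = Nat.card (closure ({x₂, y₂} : Set E₂)) :=
      Nat.card_congr φ.toEquiv
    have c1 := card_centralizer_mul h₁ _ hD₁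
    have c2 := card_centralizer_mul h₂ _ hD₂
    by_cases htop : closure ({x₁, y₁} : Set E₁) = ⊤
    · have htop2 : closure ({x₂, y₂} : Set E₂) = ⊤ := by
        apply eq_top_of_card_eq
        rw [← hcD, htop, card_top, hcard]
      exact assemble_top _ _ htop htop2 φ hφ
    · have hcC : Nat.card (centralizer ((closure ({x₁, y₁} : Set E₁) : Subgroup E₁) : Set E₁)) =
          Nat.card (centralizer ((closure ({x₂, y₂} : Set E₂) : Subgroup E₂) : Set E₂)) := by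
        rw [hcD] at c1
        apply Nat.eq_of_mul_eq_mul_left (Nat.card_pos (α := closure ({x₂, y₂} : Set E₂)))
        rw [c1, c2, hcard]
      have hC₁ := centralizer_nondeg h₁ _ hD₁
      have hC₂ := centralizer_nondeg h₂ _ hD₂
      have hne1 : centralizer ((closure ({x₁, y₁} : Set E₁) : Subgroup E₁) : Set E₁) ≠ center E₁ := by
        intro h
        apply htop
        rw [h, h₁.2] at c1
        exact eq_top_of_card_eq _ (Nat.eq_of_mul_eq_mul_right hp.out.pos c1)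
      have hne2 : centralizer ((closure ({x₂, y₂} : Set E₂) : Subgroup E₂) : Set E₂) ≠ center E₂ := by
        intro h
        apply htop
        rw [h, h₂.2] at hcC
        rw [hcC] at c1
        exact eq_top_of_card_eq _ (Nat.eq_of_mul_eq_mul_right hp.out.pos c1)
      have hlt : Nat.card (centralizer ((closure ({x₁, y₁} : Set E₁) : Subgroup E₁) : Set E₁)) ≤ n := by
        have h3 : Nat.card (centralizer ((closure ({x₁, y₁} : Set E₁) : Subgroup E₁) : Set E₁)) < Nat.card E₁ := by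
          apply Cfsg.Agent.H2.Card.card_lt_of_ne_top
          intro h4
          have h5 : y₁ ∈ centralizer ((closure ({x₁, y₁} : Set E₁) : Subgroup E₁) : Set E₁) := by
            rw [h4]; exact mem_top _
          apply hne₁
          rw [commutatorElement_eq_one_iff_mul_comm]
          exact (mem_centralizer_iff.1 h5) x₁ (Subgroup.subset_closure (by simp))
        omega
      have hzC₁ : z₁ ∈ centralizer ((closure ({x₁, y₁} : Set E₁) : Subgroup E₁) : Set E₁) := by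
        rw [mem_centralizer_iff]; exact fun g _ => mem_center_iff.1 hz₁ g
      have hzC₂ : z₂ ∈ centralizer ((closure ({x₂, y₂} : Set E₂) : Subgroup E₂) : Set E₂) := by
        rw [mem_centralizer_iff]; exact fun g _ => mem_center_iff.1 hz₂ g
      obtain ⟨ψ, hψ⟩ := ih _ _ hlt (sub_extraspecial h₁ _ hC₁ hne1) (sub_extraspecial h₂ _ hC₂ hne2)
        (fun x => Subtype.ext (he₁ x)) (fun x => Subtype.ext (he₂ x)) hcC ⟨z₁, hzC₁⟩
        (by rw [mem_center_iff]; intro g; exact Subtype.ext (mem_center_iff.1 hz₁ g))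
        ⟨z₂, hzC₂⟩ (by rw [mem_center_iff]; intro g; exact Subtype.ext (mem_center_iff.1 hz₂ g))
        (fun h => hz₁' (congrArg Subtype.val h)) (fun h => hz₂' (congrArg Subtype.val h))
      refine assemble h₁ h₂ hz₁ hz₂ hz₁' hz₂' _ _ hD₁ hD₂ φ hφ ψ ?_
      intro w hw
      have : w = ⟨z₁, hzC₁⟩ := Subtype.ext hw
      rw [this, hψ]

end

/-! ### Extraspecial 2-groups -/

section Two

instance : Fact (Nat.Prime 2) := ⟨Nat.prime_two⟩

theorem two_center {E : Type*} [Group E] [Finite E] (hE : IsExtraspecial 2 E) {a b : E}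
    (ha : a ∈ center E) (hb : b ∈ center E) (ha1 : a ≠ 1) (hb1 : b ≠ 1) : a = b := by
  have h := zpowers_eq_center hE ha ha1
  rw [← h] at hb
  obtain ⟨k, rfl⟩ := hb
  have h2 : a ^ 2 = 1 := center_pow hE ha
  rcases Int.even_or_odd' k with ⟨m, rfl | rfl⟩
  · exfalso; apply hb1
    change a ^ (2 * m) = 1
    rw [zpow_mul]
    have : a ^ (2 : ℤ) = 1 := by exact_mod_cast h2
    rw [this, one_zpow]
  · change a = a ^ (2 * m + 1)
    rw [zpow_add, zpow_mul]
    have : a ^ (2 : ℤ) = 1 := by exact_mod_cast h2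
    rw [this, one_zpow]; simp

/-- dihedral type pair -/
def HasD (E : Type*) [Group E] : Prop := ∃ x y : E, ⁅x, y⁆ ≠ 1 ∧ x ^ 2 = 1 ∧ y ^ 2 = 1

theorem hasD_of {E : Type*} [Group E] [Finite E] (hE : IsExtraspecial 2 E) {x y : E}
    (hxy : ⁅x, y⁆ ≠ 1) (hx : x ^ 2 = 1) : HasD E := by
  by_cases hy : y ^ 2 = 1
  · exact ⟨x, y, hxy, hx, hy⟩
  · have hcc := comm_mem_center hE
    have h1 : y ^ 2 = ⁅y, x⁆ := by
      apply two_center hE (pow_mem_center hE y) (hcc y x) hy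
      exact comm_ne_symm hxy
    refine ⟨x, x * y, ?_, hx, ?_⟩
    · rw [Cfsg.Agent.H2.Class.comm_mul_right hcc, commutatorElement_self, one_mul]; exact hxy
    · rw [Cfsg.Agent.H2.Class.mul_pow_two hcc, hx, h1, one_mul]
      have : (Nat.choose 2 2) = 1 := rfl
      rw [this, pow_one, ← sq]
      exact center_pow hE (hcc y x)

theorem hasD_of_card {E : Type*} [Group E] [Finite E] (hE : IsExtraspecial 2 E)
    (hcard : 8 < Nat.card E) : HasD E := by
  obtain ⟨n, hn1, hn, A, hAc, hA⟩ := card_eq hE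
  have hn2 : 2 ≤ n := by
    by_contra h
    have : n = 1 := by omega
    subst this
    rw [hn] at hcard
    norm_num at hcard
  let f : A →* center E :=
    { toFun := fun a => ⟨(a : E) ^ 2, pow_mem_center hE a⟩
      map_one' := by ext; simp
      map_mul' := by
        intro a b
        ext
        change ((a : E) * b) ^ 2 = (a : E) ^ 2 * (b : E) ^ 2
        have : Commute (a : E) b := hAc a a.2 b b.2
        exact this.mul_pow 2 }
  have h1 : Nat.card f.ker * Nat.card f.range = Nat.card A := by rw [← index_ker, card_mul_index]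
  have h2 : Nat.card f.range ≤ 2 := by rw [← hE.2]; exact Nat.card_le_card_of_injective _ Subtype.val_injective
  have h3 : 4 ≤ Nat.card f.ker := by
    have h4 : 2 ^ 3 ≤ 2 ^ (n + 1) := Nat.pow_le_pow_right (by norm_num) (by omega)
    rw [← hA, ← h1] at h4
    have h5 : Nat.card f.ker * Nat.card f.range ≤ Nat.card f.ker * 2 := Nat.mul_le_mul_left _ h2
    omega
  -- there is an involution in A outside the center
  by_contra hcon
  have hle : f.ker.map A.subtype ≤ center E := by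
    rintro _ ⟨a, ha, rfl⟩
    have ha2 : (a : E) ^ 2 = 1 := congrArg Subtype.val ha
    rw [mem_center_iff]
    intro g
    by_contra hg
    apply hcon
    apply hasD_of hE (x := a) (y := g) _ ha2
    rw [Ne, commutatorElement_eq_one_iff_mul_comm]
    exact fun h => hg h.symm
  have h6 := Subgroup.card_le_of_le hle
  rw [card_map_of_injective A.subtype_injective, hE.2] at h6
  omega

theorem eight_le {E : Type*} [Group E] [Finite E] (hE : IsExtraspecial 2 E) : 8 ≤ Nat.card E := by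
  obtain ⟨n, hn1, hn, -⟩ := card_eq hE
  rw [hn]
  calc 8 = 2 ^ 3 := by norm_num
    _ ≤ _ := Nat.pow_le_pow_right (by norm_num) (by omega)

theorem pair_top_of_card {E : Type*} [Group E] [Finite E] (hE : IsExtraspecial 2 E)
    (h8 : Nat.card E = 8) {x y : E} (hxy : ⁅x, y⁆ ≠ 1) : closure ({x, y} : Set E) = ⊤ := by
  have hne : closure ({x, y} : Set E) ≠ center E := by
    intro h
    have h6 : x ∈ center E := by rw [← h]; exact Subgroup.subset_closure (by simp)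
    apply hxy
    rw [commutatorElement_eq_one_iff_mul_comm]
    exact (mem_center_iff.1 h6 y).symm
  have h1 := sub_extraspecial hE _ (es_pair_center hE hxy) hne
  have h2 := eight_le h1
  rw [← h8] at h2
  exact eq_top_of_le_card _ h2

theorem iso_of_hasD {E₁ : Type u} {E₂ : Type v} [Group E₁] [Group E₂] [Finite E₁] [Finite E₂]
    (h₁ : IsExtraspecial 2 E₁) (h₂ : IsExtraspecial 2 E₂) (hD₁ : HasD E₁) (hD₂ : HasD E₂)
    (hc₁ : Nat.card E₁ = 8) (hc₂ : Nat.card E₂ = 8) : Nonempty (E₁ ≃* E₂) := by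
  obtain ⟨x₁, y₁, hxy₁, hx₁, hy₁⟩ := hD₁
  obtain ⟨x₂, y₂, hxy₂, hx₂, hy₂⟩ := hD₂
  obtain ⟨φ, hφ⟩ := pair_iso h₁ h₂ hxy₁ hxy₂ 0 0 (by rw [hx₁, pow_zero]) (by rw [hy₁, pow_zero])
      (by rw [hx₂, pow_zero]) (by rw [hy₂, pow_zero])
  obtain ⟨e, -⟩ := assemble_top _ _ (pair_top_of_card h₁ hc₁ hxy₁) (pair_top_of_card h₂ hc₂ hxy₂) φ hφ
  exact ⟨e⟩

theorem iso_of_not_hasD {E₁ : Type u} {E₂ : Type v} [Group E₁] [Group E₂] [Finite E₁] [Finite E₂]
    (h₁ : IsExtraspecial 2 E₁) (h₂ : IsExtraspecial 2 E₂) (hD₁ : ¬ HasD E₁) (hD₂ : ¬ HasD E₂)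
    (hc₁ : Nat.card E₁ = 8) (hc₂ : Nat.card E₂ = 8) : Nonempty (E₁ ≃* E₂) := by
  have key : ∀ {E : Type u} [Group E] [Finite E], IsExtraspecial 2 E → ¬ HasD E → ∀ x y : E, ⁅x, y⁆ ≠ 1 →
      x ^ 2 = ⁅x, y⁆ ^ 1 ∧ y ^ 2 = ⁅x, y⁆ ^ 1 := by
    intro E _ _ hE hnD x y hxy
    rw [pow_one]
    constructor
    · apply two_center hE (pow_mem_center hE x) (comm_mem_center hE x y) _ hxy
      exact fun h => hnD (hasD_of hE hxy h)
    · apply two_center hE (pow_mem_center hE y) (comm_mem_center hE x y) _ hxy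
      intro h
      apply hnD
      apply hasD_of hE (x := y) (y := x) _ h
      exact comm_ne_symm hxy
  have key' : ∀ {E : Type v} [Group E] [Finite E], IsExtraspecial 2 E → ¬ HasD E → ∀ x y : E, ⁅x, y⁆ ≠ 1 →
      x ^ 2 = ⁅x, y⁆ ^ 1 ∧ y ^ 2 = ⁅x, y⁆ ^ 1 := by
    intro E _ _ hE hnD x y hxy
    rw [pow_one]
    constructor
    · apply two_center hE (pow_mem_center hE x) (comm_mem_center hE x y) _ hxy
      exact fun h => hnD (hasD_of hE hxy h)
    · apply two_center hE (pow_mem_center hE y) (comm_mem_center hE x y) _ hxy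
      intro h
      apply hnD
      apply hasD_of hE (x := y) (y := x) _ h
      exact comm_ne_symm hxy
  obtain ⟨x₁, y₁, hxy₁⟩ := not_abelian h₁
  obtain ⟨x₂, y₂, hxy₂⟩ := not_abelian h₂
  obtain ⟨a1, b1⟩ := key h₁ hD₁ x₁ y₁ hxy₁
  obtain ⟨a2, b2⟩ := key' h₂ hD₂ x₂ y₂ hxy₂
  obtain ⟨φ, hφ⟩ := pair_iso h₁ h₂ hxy₁ hxy₂ 1 1 a1 b1 a2 b2
  obtain ⟨e, -⟩ := assemble_top _ _ (pair_top_of_card h₁ hc₁ hxy₁) (pair_top_of_card h₂ hc₂ hxy₂) φ hφ
  exact ⟨e⟩

/-- nondegenerate proper pair data -/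
theorem step_data {E : Type*} [Group E] [Finite E] (hE : IsExtraspecial 2 E) (hcard : 8 < Nat.card E)
    {x y : E} (hxy : ⁅x, y⁆ ≠ 1) (hx : x ^ 2 = 1) (hy : y ^ 2 = 1) :
    IsExtraspecial 2 (centralizer ((closure ({x, y} : Set E) : Subgroup E) : Set E)) ∧
      Nat.card (centralizer ((closure ({x, y} : Set E) : Subgroup E) : Set E)) < Nat.card E ∧
      Nat.card (closure ({x, y} : Set E)) = 8 := by
  have hD := es_pair_center hE hxy
  have hne : closure ({x, y} : Set E) ≠ center E := by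
    intro h
    have h6 : x ∈ center E := by rw [← h]; exact Subgroup.subset_closure (by simp)
    apply hxy
    rw [commutatorElement_eq_one_iff_mul_comm]
    exact (mem_center_iff.1 h6 y).symm
  have h1 := sub_extraspecial hE _ hD hne
  have h8 := eight_le h1
  -- upper bound on the pair
  have h9 : Nat.card (closure ({x, y} : Set E)) ≤ 8 := by
    have hcc := comm_mem_center hE
    let f : Fin 2 × Fin 2 × Fin 2 → E := fun t => x ^ (t.1 : ℕ) * y ^ (t.2.1 : ℕ) * ⁅x, y⁆ ^ (t.2.2 : ℕ)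
    have hz2 : ⁅x, y⁆ ^ 2 = 1 := center_pow hE (hcc x y)
    have hred : ∀ (g : E), g ^ 2 = 1 → ∀ k : ℤ, ∃ t : Fin 2, g ^ k = g ^ (t : ℕ) := by
      intro g hg k
      have hg' : g ^ (2 : ℤ) = 1 := by exact_mod_cast hg
      rcases Int.even_or_odd' k with ⟨m, rfl | rfl⟩
      · exact ⟨0, by rw [zpow_mul, hg', one_zpow]; simp⟩
      · exact ⟨1, by rw [zpow_add, zpow_mul, hg', one_zpow]; simp⟩
    have hsub : ((closure ({x, y} : Set E) : Subgroup E) : Set E) ⊆ Set.range f := by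
      intro w hw
      obtain ⟨i, j, k, rfl⟩ := normal_form hcc x y hw
      obtain ⟨a, ha⟩ := hred x hx i
      obtain ⟨b, hb⟩ := hred y hy j
      obtain ⟨c, hc⟩ := hred _ hz2 k
      exact ⟨(a, b, c), by rw [ha, hb, hc]⟩
    have h10 := Set.ncard_le_ncard hsub (Set.toFinite _)
    refine le_trans h10 ?_
    rw [← Set.image_univ]
    refine (Set.ncard_image_le (Set.toFinite _)).trans ?_
    rw [Set.ncard_univ]
    simp
  have hc := card_centralizer_mul hE _ hD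
  have hcD : Nat.card (closure ({x, y} : Set E)) = 8 := le_antisymm h9 h8
  refine ⟨?_, ?_, hcD⟩
  · apply sub_extraspecial hE _ (centralizer_nondeg hE _ hD)
    intro h
    rw [h, hE.2, hcD] at hc
    omega
  · rw [hcD] at hc
    have := Nat.card_pos (α := E)
    omega

theorem assemble_two {E₁ : Type u} {E₂ : Type v} [Group E₁] [Group E₂] [Finite E₁] [Finite E₂]
    (h₁ : IsExtraspecial 2 E₁) (h₂ : IsExtraspecial 2 E₂) {x₁ y₁ : E₁} {x₂ y₂ : E₂}
    (hxy₁ : ⁅x₁, y₁⁆ ≠ 1) (hx₁ : x₁ ^ 2 = 1) (hy₁ : y₁ ^ 2 = 1)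
    (hxy₂ : ⁅x₂, y₂⁆ ≠ 1) (hx₂ : x₂ ^ 2 = 1) (hy₂ : y₂ ^ 2 = 1)
    (ψ : centralizer ((closure ({x₁, y₁} : Set E₁) : Subgroup E₁) : Set E₁) ≃*
      centralizer ((closure ({x₂, y₂} : Set E₂) : Subgroup E₂) : Set E₂)) : Nonempty (E₁ ≃* E₂) := by
  obtain ⟨φ, hφ⟩ := pair_iso h₁ h₂ hxy₁ hxy₂ 0 0 (by rw [hx₁, pow_zero]) (by rw [hy₁, pow_zero])
      (by rw [hx₂, pow_zero]) (by rw [hy₂, pow_zero])
  have hz₁ := comm_mem_center h₁ x₁ y₁
  have hz₂ := comm_mem_center h₂ x₂ y₂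
  obtain ⟨e, -⟩ := assemble h₁ h₂ hz₁ hz₂ hxy₁ hxy₂ _ _ (es_pair_center h₁ hxy₁)
    (es_pair_center h₂ hxy₂) φ hφ ψ (by
      intro w hw
      have hwc : ∀ v, v * w = w * v := by
        intro v
        apply Subtype.ext
        change (v : E₁) * w = w * v
        rw [hw]
        exact mem_center_iff.1 hz₁ v
      -- ψ w is central in E₂
      have h3 : (ψ w : E₂) ∈ center E₂ := by
        rw [← centralizer_nondeg h₂ _ (es_pair_center h₂ hxy₂)]
        refine mem_inf.2 ⟨(ψ w).2, ?_⟩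
        rw [mem_centralizer_iff]
        intro v hv
        obtain ⟨v', hv'⟩ := ψ.surjective ⟨v, hv⟩
        have h4 := congrArg ψ (hwc v')
        rw [map_mul, map_mul, hv'] at h4
        exact congrArg Subtype.val h4
      apply two_center h₂ h3 hz₂ _ hxy₂
      intro h5
      have h6 : w = 1 := by
        apply ψ.injective
        rw [map_one]; exact Subtype.ext h5
      apply hxy₁
      rw [← hw, h6]; rfl)
  exact ⟨e⟩

theorem three_iso (n : ℕ) : ∀ (E₁ : Type u) (E₂ : Type v) (E₃ : Type w) [Group E₁] [Group E₂] [Group E₃]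
    [Finite E₁] [Finite E₂] [Finite E₃], Nat.card E₁ ≤ n → IsExtraspecial 2 E₁ → IsExtraspecial 2 E₂ →
    IsExtraspecial 2 E₃ → Nat.card E₁ = Nat.card E₂ → Nat.card E₂ = Nat.card E₃ →
    Nonempty (E₁ ≃* E₂) ∨ Nonempty (E₂ ≃* E₃) ∨ Nonempty (E₁ ≃* E₃) := by
  induction n with
  | zero =>
    intro E₁ E₂ E₃ _ _ _ _ _ _ hn
    have := Nat.card_pos (α := E₁)
    omega
  | succ n ih =>
    intro E₁ E₂ E₃ _ _ _ _ _ _ hn h₁ h₂ h₃ h12 h23
    by_cases h8 : Nat.card E₁ = 8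
    · have h8' : Nat.card E₂ = 8 := by omega
      have h8'' : Nat.card E₃ = 8 := by omega
      by_cases d1 : HasD E₁ <;> by_cases d2 : HasD E₂ <;> by_cases d3 : HasD E₃
      · exact Or.inl (iso_of_hasD h₁ h₂ d1 d2 h8 h8')
      · exact Or.inl (iso_of_hasD h₁ h₂ d1 d2 h8 h8')
      · exact Or.inr (Or.inr (iso_of_hasD h₁ h₃ d1 d3 h8 h8''))
      · exact Or.inr (Or.inl (iso_of_not_hasD h₂ h₃ d2 d3 h8' h8''))
      · exact Or.inr (Or.inl (iso_of_hasD h₂ h₃ d2 d3 h8' h8''))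
      · exact Or.inr (Or.inr (iso_of_not_hasD h₁ h₃ d1 d3 h8 h8''))
      · exact Or.inl (iso_of_not_hasD h₁ h₂ d1 d2 h8 h8')
      · exact Or.inl (iso_of_not_hasD h₁ h₂ d1 d2 h8 h8')
    · have hc1 : 8 < Nat.card E₁ := lt_of_le_of_ne (eight_le h₁) (Ne.symm h8)
      have hc2 : 8 < Nat.card E₂ := by omega
      have hc3 : 8 < Nat.card E₃ := by omega
      obtain ⟨x₁, y₁, hxy₁, hx₁, hy₁⟩ := hasD_of_card h₁ hc1
      obtain ⟨x₂, y₂, hxy₂, hx₂, hy₂⟩ := hasD_of_card h₂ hc2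
      obtain ⟨x₃, y₃, hxy₃, hx₃, hy₃⟩ := hasD_of_card h₃ hc3
      obtain ⟨s1, t1, u1⟩ := step_data h₁ hc1 hxy₁ hx₁ hy₁
      obtain ⟨s2, t2, u2⟩ := step_data h₂ hc2 hxy₂ hx₂ hy₂
      obtain ⟨s3, t3, u3⟩ := step_data h₃ hc3 hxy₃ hx₃ hy₃
      have k1 := card_centralizer_mul h₁ _ (es_pair_center h₁ hxy₁)
      have k2 := card_centralizer_mul h₂ _ (es_pair_center h₂ hxy₂)
      have k3 := card_centralizer_mul h₃ _ (es_pair_center h₃ hxy₃)
      rw [u1] at k1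
      rw [u2] at k2
      rw [u3] at k3
      have m12 : Nat.card (centralizer ((closure ({x₁, y₁} : Set E₁) : Subgroup E₁) : Set E₁)) =
        Nat.card (centralizer ((closure ({x₂, y₂} : Set E₂) : Subgroup E₂) : Set E₂)) := by omega
      have m23 : Nat.card (centralizer ((closure ({x₂, y₂} : Set E₂) : Subgroup E₂) : Set E₂)) =
        Nat.card (centralizer ((closure ({x₃, y₃} : Set E₃) : Subgroup E₃) : Set E₃)) := by omega
      rcases ih _ _ _ (by omega) s1 s2 s3 m12 m23 with ⟨⟨ψ⟩⟩ | ⟨⟨ψ⟩⟩ | ⟨⟨ψ⟩⟩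
      · exact Or.inl (assemble_two h₁ h₂ hxy₁ hx₁ hy₁ hxy₂ hx₂ hy₂ ψ)
      · exact Or.inr (Or.inl (assemble_two h₂ h₃ hxy₂ hx₂ hy₂ hxy₃ hx₃ hy₃ ψ))
      · exact Or.inr (Or.inr (assemble_two h₁ h₃ hxy₁ hx₁ hy₁ hxy₃ hx₃ hy₃ ψ))

end Two

end Cfsg.Agent.H2.Extra
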