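import Cfsg.Statements.S0110
import Mathlib
import Cfsg.Agent.H2_Extra3

set_option autoImplicit false
open Cfsg

namespace Cfsg.Agent.S0110

open Subgroup
open scoped commutatorElement

/-- In a p-group G, an extraspecial subgroup E with [G, E] ≤ Z(E) satisfies G = E C_G(E). -/
theorem result {G : Type*} [Group G] [Finite G] {p : ℕ} [Fact p.Prime] (hG : IsPGroup p G) (E : Subgroup G) (hE : Cfsg.IsExtraspecial p E) (h : ⁅(⊤ : Subgroup G), E⁆ ≤ E ⊓ Subgroup.centralizer (E : Set G)) : E ⊔ Subgroup.centralizer (E : Set G) = ⊤ := by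
  have hpp : p.Prime := Fact.out
  set Z : Subgroup G := E ⊓ centralizer (E : Set G) with hZ
  have hEn : E.Normal := by
    have h1 : ⁅E, (⊤ : Subgroup G)⁆ ≤ E := by
      rw [commutator_comm]; exact h.trans inf_le_left
    rw [← le_normalizer_iff_commutator_le_left] at h1
    exact normalizer_eq_top_iff.1 (top_le_iff.1 h1)
  have hcen : (center E).map E.subtype = Z := by
    apply le_antisymm
    · rintro _ ⟨c, hc, rfl⟩
      refine mem_inf.2 ⟨c.2, ?_⟩
      rw [mem_centralizer_iff]
      intro d hd
      exact congrArg Subtype.val ((mem_center_iff.1 hc) ⟨d, hd⟩)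
    · intro c hc
      refine ⟨⟨c, (mem_inf.1 hc).1⟩, ?_, rfl⟩
      rw [SetLike.mem_coe, mem_center_iff]
      intro d
      exact Subtype.ext ((mem_centralizer_iff.1 (mem_inf.1 hc).2) d d.2)
  have hZcard : Nat.card Z = p := by
    rw [← hcen, card_map_of_injective E.subtype_injective, hE.2]
  have hZn : Z.Normal := inferInstance
  have hZne : Z ≠ ⊥ := by
    intro h0
    rw [h0, card_bot] at hZcard
    exact hpp.one_lt.ne hZcard
  have hZcen : Z ≤ center G := by
    have h1 := Cfsg.Agent.H2.PGroup.inf_center_ne_bot hG hZne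
    have h2 := Cfsg.Agent.H2.Extra.eq_of_le_of_prime (p := p) (inf_le_left : Z ⊓ center G ≤ Z) hZcard h1
    rw [← h2]; exact inf_le_right
  have h1 := Cfsg.Agent.H2.Extra.relIndex_eq (⊤ : Subgroup G) E Z hZcard
    (fun x _ y hy => h (commutator_mem_commutator (mem_top x) hy))
    (fun z hz x _ => mem_center_iff.1 (hZcen hz) x) (fun z hz x _ => mem_center_iff.1 (hZcen hz) x)
  rw [relIndex_top_right, coe_top, centralizer_univ] at h1
  have h2 : (center G).relIndex E = Z.relIndex E := by
    rw [← inf_relIndex_right (center G) E]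
    congr 1
    apply le_antisymm
    · refine le_inf inf_le_right ?_
      intro x hx
      rw [mem_centralizer_iff]; exact fun g _ => mem_center_iff.1 (mem_inf.1 hx).1 g
    · exact le_inf hZcen inf_le_left
  have hn : E ≤ normalizer ((centralizer (E : Set G) : Subgroup G) : Set G) := by
    refine le_trans ?_ (centralizer_le_normalizer _)
    rw [le_centralizer_iff]
  have h3 := Cfsg.Agent.H2.Card.card_sup_mul_card_inf hn
  rw [h2] at h1
  have h4 := Cfsg.Agent.H2.Card.card_mul_relIndex (inf_le_left : Z ≤ E)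
  have h5 := card_mul_index (centralizer (E : Set G))
  apply eq_top_of_card_eq
  apply Nat.eq_of_mul_eq_mul_right (Nat.card_pos (α := Z))
  rw [h3, ← h4, ← h5, h1]
  ring

end Cfsg.Agent.S0110
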