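import Mathlib
import Cfsg.Prelude
import Cfsg.Agent.H2_Hup
import Cfsg.Agent.H2_Class
import Cfsg.Agent.H2_Rank2
import Cfsg.Agent.H12_Trans1

/-! Coprime action on metacyclic p-groups. -/

set_option autoImplicit false
set_option linter.unusedSectionVars false
set_option linter.style.haveILetI false

open Subgroup Cfsg
open scoped commutatorElement

universe u

namespace Cfsg.Agent.H2.MetaAct

open Cfsg.Agent.H2.Reg Cfsg.Agent.H2.Hup

section

variable {R : Type u} [Group R] [Finite R] {p : ℕ} [hp : Fact p.Prime]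

theorem gen_of (hR : IsPGroup p R) (hΦ : (frattini R).index ≤ p ^ 2) {g b : R} (hg : g ∉ frattini R) (hb : b ∉ zpowers g ⊔ frattini R) :
    closure ({g, b} : Set R) = ⊤ := by
  have hlt : frattini R < zpowers g ⊔ frattini R := by
    refine lt_of_le_of_ne le_sup_right fun h => hg ?_
    rw [h]; exact (le_sup_left : zpowers g ≤ _) (mem_zpowers g)
  have hi := index_lt hlt
  apply frattini_nongenerating
  have hlt2 : zpowers g ⊔ frattini R < Subgroup.closure ({g, b} : Set R) ⊔ frattini R := by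
    refine lt_of_le_of_ne (sup_le_sup_right (by rw [zpowers_le]; exact Subgroup.subset_closure (by simp)) _) fun h => hb ?_
    rw [h]; exact (le_sup_left : Subgroup.closure _ ≤ _) (Subgroup.subset_closure (by simp))
  have hi2 := index_lt hlt2
  obtain ⟨k1, hk1⟩ := index_pow hR (frattini R)
  obtain ⟨k2, hk2⟩ := index_pow hR (zpowers g ⊔ frattini R)
  obtain ⟨k3, hk3⟩ := index_pow hR (Subgroup.closure ({g, b} : Set R) ⊔ frattini R)
  rw [hk1, hk2] at hi
  rw [hk2, hk3] at hi2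
  rw [hk1] at hΦ
  have e1 := (Nat.pow_lt_pow_iff_right hp.out.one_lt).1 hi
  have e2 := (Nat.pow_lt_pow_iff_right hp.out.one_lt).1 hi2
  have e3 := (Nat.pow_le_pow_iff_right hp.out.one_lt).1 hΦ
  have e4 : k3 = 0 := by omega
  rw [e4, pow_zero] at hk3
  exact Subgroup.index_eq_one.1 hk3

theorem rep (hR : IsPGroup p R) {g h : R} (hgh : closure ({g, h} : Set R) = ⊤) (x : R) :
    ∃ i j : ℤ, ∃ φ ∈ frattini R, x = g ^ i * (h ^ j * φ) := by
  have hDΦ : _root_.commutator R ≤ frattini R := Cfsg.Agent.H2.PGroup.commutator_le_frattini hR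
  haveI h1 : (zpowers h ⊔ frattini R).Normal := normal_of_comm (hDΦ.trans le_sup_right)
  haveI h2 : (frattini R).Normal := inferInstance
  have h3 : zpowers g ⊔ (zpowers h ⊔ frattini R) = ⊤ := by
    rw [eq_top_iff, ← hgh, Subgroup.closure_le]
    rintro y (rfl | hy)
    · exact (le_sup_left : zpowers y ≤ _) (mem_zpowers y)
    · rw [Set.mem_singleton_iff] at hy
      subst hy
      exact (le_sup_right : zpowers y ⊔ frattini R ≤ _) ((le_sup_left : zpowers y ≤ _) (mem_zpowers y))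
  have hx : x ∈ zpowers g ⊔ (zpowers h ⊔ frattini R) := by rw [h3]; trivial
  obtain ⟨_, ⟨i, rfl⟩, y, hy, rfl⟩ := Subgroup.mem_sup_of_normal_right.1 hx
  obtain ⟨_, ⟨j, rfl⟩, φ, hφ, rfl⟩ := Subgroup.mem_sup_of_normal_right.1 hy
  exact ⟨i, j, φ, hφ, rfl⟩

/-- integer powers and divisibility -/
theorem dvd_of_zpow {c : R} (hc : orderOf c = p) {i : ℤ} (h : c ^ i = 1) : (p : ℤ) ∣ i := by
  rw [← hc]; exact orderOf_dvd_iff_zpow_eq_one.2 h

theorem key' (hp2 : p ≠ 2) (hR : IsPGroup p R) (hidx : (PC p (⊤ : Subgroup R)).index ≤ p ^ 2)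
    (hcen : ∀ x ∈ _root_.commutator R, ∀ y : R, x * y = y * x) (hexp : ∀ x ∈ _root_.commutator R, x ^ p = 1)
    (hne : _root_.commutator R ≠ ⊥) (A : Set (MulAut R)) :
    (∃ M : Subgroup R, M ≠ ⊤ ∧ ∀ α ∈ A, ∀ x, α x * x⁻¹ ∈ M) ∨
    (∃ h, h ∉ frattini R ∧ ∀ α ∈ A, α h * h⁻¹ ∈ frattini R) := by
  classical
  set D := _root_.commutator R with hD
  have hDcomm : D = ⁅(⊤ : Subgroup R), ⊤⁆ := rfl
  have hcD : ∀ x y : R, ⁅x, y⁆ ∈ D := fun x y => by
    rw [hDcomm]; exact commutator_mem_commutator (mem_top _) (mem_top _)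
  have hcc : ∀ x y : R, ⁅x, y⁆ ∈ center R := fun x y => by
    rw [mem_center_iff]; intro g; exact (hcen _ (hcD x y) g).symm
  have hpow : ∀ x y : R, (x * y) ^ p = x ^ p * y ^ p := fun x y =>
    Cfsg.Agent.H2.Class.mul_pow_p hp.out hp2 hcc x y (hexp _ (hcD y x))
  have hpowk : ∀ (k : ℕ) (x y : R), (x * y) ^ p ^ k = x ^ p ^ k * y ^ p ^ k := by
    intro k
    induction k with
    | zero => intro x y; simp
    | succ k ih => intro x y; rw [pow_succ, pow_mul, ih, hpow, ← pow_mul, ← pow_mul]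
  have hzpowk : ∀ (k : ℕ) (x : R) (i : ℤ), (x ^ i) ^ p ^ k = (x ^ p ^ k) ^ i := by
    intro k x i
    rw [← zpow_natCast, ← zpow_natCast, ← zpow_mul, ← zpow_mul, mul_comm]
  -- p-th powers
  let f : R →* R := { toFun := fun x => x ^ p, map_one' := one_pow p, map_mul' := hpow }
  have hPC : ∀ g ∈ PC p (⊤ : Subgroup R), ∃ h, g = h ^ p := by
    have h1 : PC p (⊤ : Subgroup R) ≤ f.range := by
      rw [PC, Subgroup.closure_le]
      rintro _ ⟨x, -, rfl⟩
      exact ⟨x, rfl⟩
    intro g hg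
    obtain ⟨h, hh⟩ := h1 hg
    exact ⟨h, hh.symm⟩
  have hDΦ : D ≤ frattini R := Cfsg.Agent.H2.PGroup.commutator_le_frattini hR
  have hΦidx : (frattini R).index ≤ p ^ 2 := (Subgroup.index_antitone (PC_le_frattini hR)).trans hidx
  haveI : Nontrivial R := by
    by_contra hnt
    rw [not_nontrivial_iff_subsingleton] at hnt
    exact hne (Subsingleton.elim _ _)
  have hnc : ∀ g : R, zpowers g ≠ ⊤ := by
    intro g hg
    apply hne
    rw [hDcomm, eq_bot_iff, commutator_le]
    intro x _ y _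
    have hx : x ∈ zpowers g := by rw [hg]; trivial
    have hy : y ∈ zpowers g := by rw [hg]; trivial
    obtain ⟨i, rfl⟩ := hx
    obtain ⟨j, rfl⟩ := hy
    rw [mem_bot, commutatorElement_eq_one_iff_mul_comm]
    exact (Commute.refl g).zpow_zpow i j
  obtain ⟨a, ha⟩ : ∃ a, a ∉ frattini R := by
    by_contra hcon
    push Not at hcon
    exact frattini_ne_top (eq_top_iff.2 fun x _ => hcon x)
  have hΦeq : PC p (⊤ : Subgroup R) = frattini R := by
    have hlt : frattini R < zpowers a ⊔ frattini R := by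
      refine lt_of_le_of_ne le_sup_right fun h => ha ?_
      rw [h]; exact (le_sup_left : zpowers a ≤ _) (mem_zpowers a)
    have hlt2 : zpowers a ⊔ frattini R < ⊤ := by
      rw [lt_top_iff_ne_top]
      intro h
      exact hnc a (frattini_nongenerating h)
    have h1 := index_lt hlt
    have h2 := index_lt hlt2
    rw [Subgroup.index_top] at h2
    obtain ⟨k1, hk1⟩ := index_pow hR (frattini R)
    obtain ⟨k2, hk2⟩ := index_pow hR (zpowers a ⊔ frattini R)
    rw [hk1, hk2] at h1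
    have e1 := (Nat.pow_lt_pow_iff_right hp.out.one_lt).1 h1
    have e2 : k2 ≠ 0 := by rintro rfl; rw [hk2, pow_zero] at h2; exact lt_irrefl _ h2
    apply Cfsg.Agent.H2.Card.eq_of_le_of_index_eq (PC_le_frattini hR)
    apply le_antisymm
    · refine hidx.trans ?_
      rw [hk1]
      exact Nat.pow_le_pow_right hp.out.pos (by omega)
    · exact Subgroup.index_antitone (PC_le_frattini hR)
  have hΦpow : ∀ g ∈ frattini R, ∃ h, g = h ^ p := by rw [← hΦeq]; exact hPC
  -- the Frattini subgroup is central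
  have hΦcen : ∀ x ∈ frattini R, ∀ y : R, ⁅x, y⁆ = 1 ∧ ⁅y, x⁆ = 1 := by
    intro x hx y
    obtain ⟨h, rfl⟩ := hΦpow x hx
    rw [Cfsg.Agent.H2.Class.comm_pow_left hcc, Cfsg.Agent.H2.Class.comm_pow_right hcc]
    exact ⟨hexp _ (hcD _ _), hexp _ (hcD _ _)⟩
  -- a generator of the derived group
  have hDgen : ∀ a b : R, closure ({a, b} : Set R) = ⊤ → ∀ x ∈ D, ∃ i : ℤ, x = ⁅a, b⁆ ^ i := by
    intro a b hab x hx
    haveI hcn : (zpowers ⁅a, b⁆).Normal := by
      refine ⟨fun n hn g => ?_⟩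
      obtain ⟨i, rfl⟩ := hn
      have : Commute (⁅a, b⁆ ^ i) g := (show Commute ⁅a, b⁆ g from hcen _ (hcD a b) g).zpow_left i
      show g * ⁅a, b⁆ ^ i * g⁻¹ ∈ _
      rw [← this.eq, mul_inv_cancel_right]; exact zpow_mem (mem_zpowers _) i
    have h1 := comm_pr_le (a := a) (b := b) (N := zpowers ⁅a, b⁆) (by rw [normalizer_eq_top_iff.2 hcn]; exact le_top) (mem_zpowers _)
    rw [Pr, hab] at h1
    obtain ⟨i, hi⟩ := h1 hx
    exact ⟨i, hi.symm⟩
  have hord : ∀ a b : R, closure ({a, b} : Set R) = ⊤ → orderOf ⁅a, b⁆ = p := by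
    intro a b hab
    apply orderOf_eq_prime (hexp _ (hcD a b))
    intro h1
    apply hne
    rw [eq_bot_iff]
    intro x hx
    obtain ⟨i, hi⟩ := hDgen a b hab x hx
    rw [hi, h1, one_zpow]; exact one_mem _
  obtain ⟨b, hab⟩ := exists_gen hR hΦidx ha
  set c := ⁅a, b⁆ with hc
  have hco := hord a b hab
  rw [← hc] at hco
  have hc1 : c ≠ 1 := by
    intro h
    rw [h, orderOf_one] at hco
    exact hp.out.one_lt.ne hco
  obtain ⟨k, ⟨g, hg⟩, hk⟩ : ∃ k, (∃ g : R, g ^ p ^ k = c) ∧ ¬ ∃ g : R, g ^ p ^ (k + 1) = c := by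
    by_contra hcon
    push Not at hcon
    have hall : ∀ k, ∃ g : R, g ^ p ^ k = c := by
      intro k
      induction k with
      | zero => exact ⟨c, by simp⟩
      | succ k ihk => exact hcon k ihk
    obtain ⟨m, hm⟩ := IsPGroup.iff_card.1 hR
    obtain ⟨g, hg⟩ := hall m
    apply hc1
    rw [← hg, ← hm, pow_card_eq_one']
  -- no nontrivial element of `D` is a `p^(k+1)`-th power
  have hk' : ∀ w : R, w ^ p ^ (k + 1) ∈ D → w ^ p ^ (k + 1) = 1 := by
    intro w hw
    obtain ⟨i, hi⟩ := hDgen a b hab _ hw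
    rw [← hc] at hi
    by_contra hne1
    have hpi : ¬ (p : ℤ) ∣ i := by
      rintro ⟨m, rfl⟩
      apply hne1
      rw [hi, zpow_mul, zpow_natCast, hexp _ (hcD a b), one_zpow]
    have hcop : IsCoprime i (p : ℤ) := ((Nat.prime_iff_prime_int.1 hp.out).coprime_iff_not_dvd.2 hpi).symm
    obtain ⟨u, v, huv⟩ := hcop
    apply hk
    refine ⟨w ^ u, ?_⟩
    rw [hzpowk, hi, ← zpow_mul]
    calc c ^ (i * u) = c ^ (u * i + v * p) := by
          rw [zpow_add, mul_comm v, zpow_mul c (p : ℤ), zpow_natCast, hexp _ (hcD a b), one_zpow, mul_one, mul_comm]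
      _ = c := by rw [huv, zpow_one]
  have hΦk : ∀ φ ∈ frattini R, φ ^ p ^ k ∈ D → φ ^ p ^ k = 1 := by
    intro φ hφ h
    obtain ⟨w, rfl⟩ := hΦpow φ hφ
    rw [← pow_mul, ← pow_succ'] at h ⊢
    exact hk' w h
  have hcDm : c ∈ D := hcD a b
  have hgΦ : g ∉ frattini R := by
    intro h
    have := hΦk g h (by rw [hg]; exact hcDm)
    rw [hg] at this
    exact hc1 this
  -- the action on `D`
  have hδ : ∀ α : MulAut R, ∃ δ : ℤ, ¬ (p : ℤ) ∣ δ ∧ ∀ x ∈ D, α x = x ^ δ := by
    intro α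
    have h1 : α c ∈ D := by
      rw [hc, map_commutatorElement]; exact hcD _ _
    obtain ⟨δ, hδ⟩ := hDgen a b hab _ h1
    rw [← hc] at hδ
    refine ⟨δ, ?_, ?_⟩
    · rintro ⟨m, rfl⟩
      rw [zpow_mul, zpow_natCast, hexp _ (hcD a b), one_zpow] at hδ
      exact hc1 ((map_eq_one_iff α α.injective).1 hδ)
    · intro x hx
      obtain ⟨i, rfl⟩ := hDgen a b hab x hx
      rw [← hc, map_zpow, hδ, ← zpow_mul, ← zpow_mul, mul_comm]
  by_cases hT : ∀ t : R, t ^ p ^ k = 1 → t ∈ frattini R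
  · -- first case
    left
    set M := zpowers g ⊔ frattini R with hM
    haveI hMn : M.Normal := normal_of_comm (hDΦ.trans le_sup_right)
    refine ⟨M, fun h => hnc g (frattini_nongenerating h), fun α _ => ?_⟩
    obtain ⟨δ, hδp, hδ⟩ := hδ α
    obtain ⟨h, hgh⟩ := exists_gen hR hΦidx hgΦ
    have h1 : (g ^ δ)⁻¹ * α g ∈ frattini R := by
      apply hT
      rw [hpowk, inv_pow, hzpowk, hg, ← map_pow, hg, hδ c hcDm, inv_mul_cancel]
    set φ := (g ^ δ)⁻¹ * α g with hφ
    have hαg : α g = g ^ δ * φ := by rw [hφ]; group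
    obtain ⟨i, β, φ', hφ', hαh⟩ := rep hR hgh (α h)
    have h2 : α ⁅g, h⁆ = ⁅g, h⁆ ^ (δ * β) := by
      rw [map_commutatorElement, hαg, hαh, Cfsg.Agent.H2.Class.comm_mul_left hcc, (hΦcen φ h1 _).1, mul_one,
        Cfsg.Agent.H2.Class.comm_mul_right hcc, Cfsg.Agent.H2.Class.comm_mul_right hcc, (hΦcen φ' hφ' _).2, mul_one,
        Cfsg.Agent.H2.Class.comm_zpow_left hcc, Cfsg.Agent.H2.Class.comm_zpow_left hcc,
        Cfsg.Agent.H2.Class.comm_zpow_right hcc, Cfsg.Agent.H2.Class.comm_zpow_right hcc, commutatorElement_self, one_zpow,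
        one_zpow, one_mul, ← zpow_mul, mul_comm β δ]
    rw [hδ _ (hcD g h)] at h2
    have h3 : ⁅g, h⁆ ^ (δ * β - δ) = 1 := by rw [zpow_sub, ← h2, mul_inv_cancel]
    have h4 := dvd_of_zpow (hord g h hgh) h3
    have h5 : (p : ℤ) ∣ β - 1 := by
      have e : δ * β - δ = δ * (β - 1) := by ring
      rw [e] at h4
      exact ((Nat.prime_iff_prime_int.1 hp.out).dvd_or_dvd h4).resolve_left hδp
    obtain ⟨m, hm⟩ := h5
    -- the subgroup on which `α` is trivial modulo `M`
    let S : Subgroup R :=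
      { carrier := {x | α x * x⁻¹ ∈ M}
        one_mem' := by
          show α 1 * 1⁻¹ ∈ M
          rw [map_one, inv_one, mul_one]; exact one_mem _
        mul_mem' := by
          intro x y hx hy
          show α (x * y) * (x * y)⁻¹ ∈ M
          have e : α (x * y) * (x * y)⁻¹ = (α x * (α y * y⁻¹) * (α x)⁻¹) * (α x * x⁻¹) := by
            rw [map_mul]; group
          rw [e]
          exact mul_mem (hMn.conj_mem _ hy _) hx
        inv_mem' := by
          intro x hx
          show α x⁻¹ * x⁻¹⁻¹ ∈ M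
          have e : α x⁻¹ * x⁻¹⁻¹ = (α x)⁻¹ * (α x * x⁻¹)⁻¹ * (α x)⁻¹⁻¹ := by
            rw [map_inv]; group
          rw [e]
          exact hMn.conj_mem _ (inv_mem hx) _ }
    have hgM : g ∈ M := (le_sup_left : zpowers g ≤ M) (mem_zpowers g)
    have hS : S = ⊤ := by
      rw [eq_top_iff, ← hgh, Subgroup.closure_le]
      rintro x (rfl | hx)
      · show α x * x⁻¹ ∈ M
        rw [hαg]
        exact mul_mem (mul_mem (zpow_mem hgM δ) ((le_sup_right : frattini R ≤ M) h1)) (inv_mem hgM)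
      · rw [Set.mem_singleton_iff] at hx
        subst hx
        show α x * x⁻¹ ∈ M
        have hβ : β = 1 + p * m := by omega
        rw [hαh, hβ, zpow_add, zpow_one]
        have e : g ^ i * (x * x ^ ((p : ℤ) * m) * φ') * x⁻¹ = g ^ i * (x * (x ^ ((p : ℤ) * m) * φ') * x⁻¹) := by group
        rw [e]
        refine mul_mem (zpow_mem hgM i) (hMn.conj_mem _ (mul_mem ?_ ((le_sup_right : frattini R ≤ M) hφ')) x)
        rw [zpow_mul, zpow_natCast]
        exact zpow_mem ((le_sup_right : frattini R ≤ M) (Cfsg.Agent.H2.PGroup.pow_mem_frattini hR x)) m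
    intro x
    have : x ∈ S := by rw [hS]; trivial
    exact this
  · -- second case
    right
    push Not at hT
    obtain ⟨h, hhk, hhΦ⟩ := hT
    refine ⟨h, hhΦ, fun α _ => ?_⟩
    obtain ⟨δ, hδp, hδ⟩ := hδ α
    haveI hΦn : (frattini R).Normal := inferInstance
    have hgnot : g ∉ zpowers h ⊔ frattini R := by
      intro hmem
      obtain ⟨_, ⟨i, rfl⟩, φ, hφ, hgi⟩ := Subgroup.mem_sup_of_normal_right.1 hmem
      have h1 : φ ^ p ^ k = c := by
        rw [← hg, ← hgi, hpowk, hzpowk, hhk, one_zpow, one_mul]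
      have := hΦk φ hφ (by rw [h1]; exact hcDm)
      rw [h1] at this
      exact hc1 this
    have hhg := gen_of hR hΦidx hhΦ hgnot
    have hgh : closure ({g, h} : Set R) = ⊤ := by rw [Set.pair_comm]; exact hhg
    obtain ⟨i, β, φ', hφ', hαh⟩ := rep hR hgh (α h)
    -- `p ∣ i`
    have hαhk : (α h) ^ p ^ k = 1 := by rw [← map_pow, hhk, map_one]
    have h1 : c ^ i * φ' ^ p ^ k = 1 := by
      rw [hαh, hpowk, hpowk, hzpowk, hzpowk, hg, hhk, one_zpow, one_mul] at hαhk
      exact hαhk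
    have h2 : φ' ^ p ^ k = 1 := by
      apply hΦk φ' hφ'
      have : φ' ^ p ^ k = (c ^ i)⁻¹ := eq_inv_of_mul_eq_one_right h1
      rw [this]
      exact inv_mem (zpow_mem hcDm i)
    rw [h2, mul_one] at h1
    obtain ⟨i', hi'⟩ := dvd_of_zpow hco h1
    obtain ⟨j, l, φ'', hφ'', hαg⟩ := rep hR hgh (α g)
    have hαgk : (α g) ^ p ^ k = c ^ δ := by rw [← map_pow, hg, hδ c hcDm]
    have h3 : c ^ j * φ'' ^ p ^ k = c ^ δ := by
      rw [hαg, hpowk, hpowk, hzpowk, hzpowk, hg, hhk, one_zpow, one_mul] at hαgk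
      exact hαgk
    have h4 : φ'' ^ p ^ k = 1 := by
      apply hΦk φ'' hφ''
      have : φ'' ^ p ^ k = (c ^ j)⁻¹ * c ^ δ := by rw [← h3]; group
      rw [this]
      exact mul_mem (inv_mem (zpow_mem hcDm j)) (zpow_mem hcDm δ)
    rw [h4, mul_one] at h3
    have h5 : (p : ℤ) ∣ j - δ := by
      apply dvd_of_zpow hco
      rw [zpow_sub, h3, mul_inv_cancel]
    have h6 : α ⁅g, h⁆ = ⁅g, h⁆ ^ (j * β - l * i) := by
      rw [map_commutatorElement, hαg, hαh, Cfsg.Agent.H2.Class.comm_mul_left hcc, Cfsg.Agent.H2.Class.comm_mul_left hcc,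
        (hΦcen φ'' hφ'' _).1, mul_one, Cfsg.Agent.H2.Class.comm_mul_right hcc, Cfsg.Agent.H2.Class.comm_mul_right hcc,
        (hΦcen φ' hφ' _).2, mul_one, Cfsg.Agent.H2.Class.comm_mul_right hcc, Cfsg.Agent.H2.Class.comm_mul_right hcc,
        (hΦcen φ' hφ' _).2, mul_one]
      simp only [Cfsg.Agent.H2.Class.comm_zpow_left hcc, Cfsg.Agent.H2.Class.comm_zpow_right hcc, commutatorElement_self, one_zpow,
        one_mul, mul_one]
      have e : ⁅h, g⁆ = ⁅g, h⁆⁻¹ := (commutatorElement_inv g h).symm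
      rw [e, ← zpow_mul, inv_zpow, inv_zpow, ← zpow_mul, ← zpow_neg, ← zpow_add]
      congr 1
      ring
    rw [hδ _ (hcD g h)] at h6
    have h7 : ⁅g, h⁆ ^ (j * β - l * i - δ) = 1 := by rw [zpow_sub, ← h6, mul_inv_cancel]
    have h8 := dvd_of_zpow (hord g h hgh) h7
    have h9 : (p : ℤ) ∣ β - 1 := by
      obtain ⟨m1, hm1⟩ := h5
      obtain ⟨m2, hm2⟩ := h8
      have e : δ * (β - 1) = p * (m2 - m1 * β + l * i') := by
        have hj : j = δ + p * m1 := by linarith
        rw [hj, hi'] at hm2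
        linarith [hm2]
      exact ((Nat.prime_iff_prime_int.1 hp.out).dvd_or_dvd (Dvd.intro _ e.symm)).resolve_left hδp
    obtain ⟨m, hm⟩ := h9
    have hβ : β = 1 + p * m := by omega
    rw [hαh, hβ, zpow_add, zpow_one, hi']
    have e : g ^ ((p : ℤ) * i') * (h * h ^ ((p : ℤ) * m) * φ') * h⁻¹ = g ^ ((p : ℤ) * i') * (h * (h ^ ((p : ℤ) * m) * φ') * h⁻¹) := by group
    rw [e]
    refine mul_mem ?_ (hΦn.conj_mem _ (mul_mem ?_ hφ') h)
    · rw [zpow_mul, zpow_natCast]
      exact zpow_mem (Cfsg.Agent.H2.PGroup.pow_mem_frattini hR g) i'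
    · rw [zpow_mul, zpow_natCast]
      exact zpow_mem (Cfsg.Agent.H2.PGroup.pow_mem_frattini hR h) m

theorem key (hp2 : p ≠ 2) (hR : IsPGroup p R) (hm : IsMetacyclic R) (hna : _root_.commutator R ≠ ⊥) (A : Set (MulAut R)) :
    (∃ M : Subgroup R, M ≠ ⊤ ∧ ∀ α ∈ A, ∀ x, α x * x⁻¹ ∈ M) ∨
    (∃ h, h ∉ frattini R ∧ ∀ α ∈ A, α h * h⁻¹ ∈ frattini R) := by
  classical
  set D := _root_.commutator R with hD
  haveI hDc : D.Characteristic := by rw [hD]; infer_instance
  haveI : D.Normal := inferInstance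
  haveI : (PC p D).Characteristic := PC_char hDc
  haveI : (PC p D).Normal := inferInstance
  set N := ⁅D, (⊤ : Subgroup R)⁆ ⊔ PC p D with hN
  haveI hNc : N.Characteristic := by
    rw [characteristic_iff_map_eq]
    intro φ
    rw [hN, Subgroup.map_sup, map_commutator, characteristic_iff_map_eq.1 hDc φ, characteristic_iff_map_eq.1 (PC_char (q := p) hDc) φ,
      ← MonoidHom.range_eq_map, MonoidHom.range_eq_top.2 φ.surjective]
  haveI : N.Normal := inferInstance
  have hDΦ : D ≤ frattini R := Cfsg.Agent.H2.PGroup.commutator_le_frattini hR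
  have hND : N ≤ D := sup_le (commutator_le_left _ _) PC_le
  have hNΦ : N ≤ frattini R := hND.trans hDΦ
  have hNne : ¬ D ≤ N := by
    intro hle
    have hlt := Cfsg.Agent.H2.PGroup.commutator_top_lt hR hna
    have h1 : (⁅D, (⊤ : Subgroup R)⁆).subgroupOf D ≠ ⊤ := by
      rw [Ne, subgroupOf_eq_top]
      exact fun h => hlt.not_ge h
    obtain ⟨M, hM, hML⟩ := (eq_top_or_exists_le_coatom _).resolve_left h1
    apply hM.1
    rw [eq_top_iff]
    rintro ⟨x, hx⟩ _
    have h2 : N ≤ M.map D.subtype := by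
      refine sup_le ?_ ?_
      · intro y hy
        exact ⟨⟨y, hlt.le hy⟩, hML (mem_subgroupOf.2 hy), rfl⟩
      · rw [PC, Subgroup.closure_le]
        rintro _ ⟨y, hy, rfl⟩
        exact ⟨⟨y, hy⟩ ^ p, Cfsg.Agent.H2.PGroup.pow_mem_coatom (hR.to_subgroup D) hM ⟨y, hy⟩, rfl⟩
    obtain ⟨y, hy, hyx⟩ := h2 (hle hx)
    have : y = ⟨x, hx⟩ := Subtype.ext hyx
    rwa [← this]
  set π := QuotientGroup.mk' N with hπ
  have hsurj : Function.Surjective π := QuotientGroup.mk'_surjective N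
  have hcomQ : _root_.commutator (R ⧸ N) = D.map π := by
    rw [hD, _root_.commutator_def, _root_.commutator_def, map_commutator, ← MonoidHom.range_eq_map, MonoidHom.range_eq_top.2 hsurj]
  have hΦQ : ∀ x, π x ∈ frattini (R ⧸ N) ↔ x ∈ frattini R := by
    intro x
    constructor
    · intro hx
      rw [Cfsg.Agent.H1.Nilp.mem_frattini_iff] at hx ⊢
      intro M hM
      have hNM : N ≤ M := hNΦ.trans (frattini_le_coatom hM)
      have hcm : (M.map π).comap π = M := by
        rw [comap_map_eq, QuotientGroup.ker_mk']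
        exact sup_eq_left.2 hNM
      have hM' : IsCoatom (M.map π) := by
        refine ⟨?_, ?_⟩
        · intro h
          rw [h, comap_top] at hcm
          exact hM.1 hcm.symm
        · intro L hL
          have h1 : M < L.comap π := by
            rw [← hcm]
            refine lt_of_le_of_ne (comap_mono hL.le) ?_
            intro h
            exact hL.ne (comap_injective hsurj h)
          have h2 := hM.2 _ h1
          rw [eq_top_iff]
          intro y _
          obtain ⟨w, rfl⟩ := hsurj y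
          have : w ∈ L.comap π := by rw [h2]; trivial
          exact this
      have := hx _ hM'
      rw [← mem_comap, hcm] at this
      exact this
    · intro hx
      exact frattini_le_comap_frattini_of_surjective hsurj hx
  have hidx' : (PC p (⊤ : Subgroup (R ⧸ N))).index ≤ p ^ 2 :=
    meta_index (Cfsg.Agent.H2.Meta2.metacyclic_of_surj _ hsurj hm)
  have hchar := fun α : MulAut R => Cfsg.Agent.H2.Meta2.map_eq_of_char α N
  rcases key' hp2 (hR.to_quotient N) hidx' (by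
      rw [hcomQ]
      rintro _ ⟨d, hd, rfl⟩ y
      obtain ⟨y, rfl⟩ := hsurj y
      have h1 : ⁅d, y⁆ ∈ N := (le_sup_left : ⁅D, (⊤ : Subgroup R)⁆ ≤ N) (commutator_mem_commutator hd (mem_top y))
      have h2 : π ⁅d, y⁆ = 1 := (QuotientGroup.eq_one_iff _).2 h1
      rw [map_commutatorElement, commutatorElement_eq_one_iff_mul_comm] at h2
      exact h2) (by
      rw [hcomQ]
      rintro _ ⟨d, hd, rfl⟩
      rw [← map_pow]
      exact (QuotientGroup.eq_one_iff _).2 ((le_sup_right : PC p D ≤ N) (pow_mem_PC hd))) (by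
      rw [hcomQ]
      intro h
      apply hNne
      intro d hd
      have : π d ∈ D.map π := ⟨d, hd, rfl⟩
      rw [h, mem_bot] at this
      exact (QuotientGroup.eq_one_iff _).1 this)
      ((fun α => Cfsg.Agent.H2.Meta2.quotAut α N (hchar α)) '' A) with ⟨M, hM, h⟩ | ⟨h, hh, h'⟩
  · left
    refine ⟨M.comap π, ?_, ?_⟩
    · intro htop
      apply hM
      rw [eq_top_iff]
      intro y _
      obtain ⟨w, rfl⟩ := hsurj y
      have : w ∈ M.comap π := by rw [htop]; trivial
      exact this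
    · intro α hα x
      have := h _ ⟨α, hα, rfl⟩ (π x)
      rw [mem_comap, map_mul, map_inv]
      exact this
  · right
    obtain ⟨h, rfl⟩ := hsurj h
    refine ⟨h, fun hc => hh ((hΦQ h).2 hc), fun α hα => ?_⟩
    rw [← hΦQ, map_mul, map_inv]
    exact h' _ ⟨α, hα, rfl⟩

end

theorem meta_subgroup {G : Type u} [Group G] (hm : IsMetacyclic G) (S : Subgroup G) : IsMetacyclic S := by
  obtain ⟨N, hN, hc, hq⟩ := hm
  refine ⟨N.subgroupOf S, inferInstance, ?_, ?_⟩
  · let f : (N.subgroupOf S) →* N :=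
      { toFun := fun x => ⟨((x : S) : G), mem_subgroupOf.1 x.2⟩
        map_one' := rfl
        map_mul' := fun x y => rfl }
    exact isCyclic_of_injective f (fun x y h => Subtype.ext (Subtype.ext (congrArg (Subtype.val : N → G) h)))
  · let f : S →* G ⧸ N := (QuotientGroup.mk' N).comp S.subtype
    have hker : f.ker = N.subgroupOf S := by
      ext x
      rw [MonoidHom.mem_ker, mem_subgroupOf]
      exact QuotientGroup.eq_one_iff (N := N) (x : G)
    have h1 : IsCyclic (S ⧸ f.ker) := isCyclic_of_injective (QuotientGroup.kerLift f) (QuotientGroup.kerLift_injective f)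
    exact isCyclic_of_injective (QuotientGroup.quotientMulEquivOfEq hker.symm).toMonoidHom (QuotientGroup.quotientMulEquivOfEq hker.symm).injective

theorem meta_congr {G H : Type u} [Group G] [Group H] (e : G ≃* H) (hm : IsMetacyclic G) : IsMetacyclic H :=
  Cfsg.Agent.H2.Meta2.metacyclic_of_surj e.toMonoidHom e.surjective hm

theorem meta_le {G : Type u} [Group G] {S T : Subgroup G} (h : S ≤ T) (hm : IsMetacyclic T) : IsMetacyclic S :=
  meta_congr (subgroupOfEquivOfLe h) (meta_subgroup hm (S.subgroupOf T))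

section amb

variable {G : Type u} [Group G] [Finite G] {p : ℕ} [hp : Fact p.Prime]

theorem comm_ne (hp2 : p ≠ 2) {R A : Subgroup G} (hR : IsPGroup p R) (hm : IsMetacyclic R) (hna : ¬ IsMulCommutative R)
    (hA : A ≤ normalizer (R : Set G)) (hcop : (Nat.card A).Coprime p) : ⁅R, A⁆ ≠ R := by
  classical
  intro heq
  have hna' : _root_.commutator R ≠ ⊥ := by
    intro h
    apply hna
    refine ⟨⟨fun x y => ?_⟩⟩
    have h1 : ⁅x, y⁆ ∈ _root_.commutator R := by
      rw [_root_.commutator_def]; exact commutator_mem_commutator (mem_top _) (mem_top _)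
    rw [h, mem_bot, commutatorElement_eq_one_iff_mul_comm] at h1
    exact h1
  have hcop' : (Nat.card A).Coprime (Nat.card R) := by
    obtain ⟨n, hn⟩ := IsPGroup.iff_card.1 hR
    rw [hn]; exact hcop.pow_right n
  have hRs : Group.IsSolvable R := by haveI := hR.isNilpotent; infer_instance
  rcases key hp2 hR hm hna' {α | ∃ a : normalizer (R : Set G), (a : G) ∈ A ∧ α = R.normalizerMonoidHom a} with ⟨M, hM, h⟩ | ⟨h, hh, h'⟩
  · apply hM
    have h1 : ⁅R, A⁆ ≤ M.map R.subtype := by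
      rw [commutator_le]
      intro x hx a ha
      have h2 := h _ ⟨⟨a, hA ha⟩, ha, rfl⟩ ⟨x, hx⟩
      refine ⟨_, inv_mem h2, ?_⟩
      show (a * x * a⁻¹ * x⁻¹)⁻¹ = _
      rw [commutatorElement_def]; group
    rw [heq] at h1
    rw [eq_top_iff]
    rintro ⟨x, hx⟩ _
    obtain ⟨y, hy, hyx⟩ := h1 hx
    have : y = ⟨x, hx⟩ := Subtype.ext hyx
    rwa [← this]
  · obtain ⟨h, hhR⟩ := h
    set Φ := (frattini R).map R.subtype with hΦ
    have hΦR : Φ ≤ R := map_subtype_le _
    have hn : normalizer (R : Set G) ≤ normalizer (Φ : Set G) := Cfsg.Agent.H11.Cores.le_normalizer_map_subtype_of_characteristic R _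
    obtain ⟨c, hc, hcΦ⟩ := Cfsg.Agent.H1.Coprime.fixed_points_quotient A R hA hcop' (Or.inr hRs) Φ hΦR (le_normalizer.trans hn) (hA.trans hn)
      h hhR (fun a ha => ⟨_, h' _ ⟨⟨a, hA ha⟩, ha, rfl⟩, rfl⟩)
    have h1 := Cfsg.Agent.H12.Trans.inf_centralizer_le_rel hA hcop' heq hc
    have h2 : c ∈ Φ := by
      have h3 : ⁅R, R⁆ ≤ Φ := by
        have := Subgroup.map_mono (f := R.subtype) (Cfsg.Agent.H2.PGroup.commutator_le_frattini hR)
        rw [_root_.commutator_def, map_commutator, ← MonoidHom.range_eq_map, range_subtype] at this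
        exact this
      exact h3 h1
    apply hh
    have h3 : h ∈ Φ := by
      have := mul_mem h2 (inv_mem hcΦ)
      have e : c * (h⁻¹ * c)⁻¹ = h := by group
      rwa [e] at this
    obtain ⟨y, hy, hyx⟩ := h3
    have : y = ⟨h, hhR⟩ := Subtype.ext hyx
    rwa [← this]

/-- a noncyclic `p`-subgroup contains an elementary abelian group of order `p ^ 2` -/
theorem exists_ea (hp2 : p ≠ 2) {B : Subgroup G} (hB : IsPGroup p B) (hc : ¬ IsCyclic B) :
    ∃ E : Subgroup G, E ≤ B ∧ (∀ x ∈ E, x ^ p = 1) ∧ Nat.card E = p ^ 2 := by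
  obtain ⟨A, -, -, hAe, hAc⟩ := Cfsg.Agent.H2.Rank2.exists_normal_rank_two hp2 hB ⊤ inferInstance (by
    intro h
    exact hc (isCyclic_of_surjective (Subgroup.topEquiv (G := B)) (Subgroup.topEquiv (G := B)).surjective))
  refine ⟨A.map B.subtype, map_subtype_le _, ?_, ?_⟩
  · rintro _ ⟨x, hx, rfl⟩
    exact congrArg Subtype.val (hAe.2 x hx)
  · rw [← hAc]
    exact (Nat.card_congr (A.equivMapOfInjective B.subtype B.subtype_injective).toEquiv).symm

theorem exists_order {B : Subgroup G} (hB : IsPGroup p B) (hb : B ≠ ⊥) : ∃ x ∈ B, x ^ p = 1 ∧ x ≠ 1 := by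
  have hdvd : p ∣ Nat.card B := by
    obtain ⟨m, hm⟩ := IsPGroup.iff_card.1 hB
    rw [hm]
    apply dvd_pow_self
    rintro rfl
    rw [pow_zero] at hm
    exact hb (card_eq_one.1 hm)
  obtain ⟨x, hx⟩ := exists_prime_orderOf_dvd_card' p hdvd
  refine ⟨x, x.2, ?_, ?_⟩
  · have := pow_orderOf_eq_one x
    rw [hx] at this
    exact congrArg Subtype.val this
  · intro h
    have : x = 1 := Subtype.ext h
    rw [this, orderOf_one] at hx
    exact hp.out.one_lt.ne hx

theorem main (hp2 : p ≠ 2) (R A : Subgroup G) (hR : IsPGroup p R) (hRm : IsMetacyclic R)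
    (hA : A ≤ normalizer (R : Set G)) (hcop : (Nat.card A).Coprime p) :
    IsMulCommutative ↥⁅R, A⁆ ∧ ⁅R, A⁆ ⊔ (R ⊓ centralizer (A : Set G)) = R ∧ ⁅R, A⁆ ⊓ (R ⊓ centralizer (A : Set G)) = ⊥ ∧
      (¬ IsMulCommutative R → ¬ A ≤ centralizer (R : Set G) →
        ⁅R, A⁆ ≠ ⊥ ∧ IsCyclic ↥⁅R, A⁆ ∧ (R ⊓ centralizer (A : Set G)) ≠ ⊥ ∧ IsCyclic ↥(R ⊓ centralizer (A : Set G)) ∧ ⁅R, R⁆ ≤ ⁅R, A⁆) := by
  classical
  have hcop' : ∀ S : Subgroup G, S ≤ R → (Nat.card A).Coprime (Nat.card S) := by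
    intro S hS
    obtain ⟨n, hn⟩ := IsPGroup.iff_card.1 (hR.to_le hS)
    rw [hn]; exact hcop.pow_right n
  have hs : ∀ S : Subgroup G, S ≤ R → Group.IsSolvable S := by
    intro S hS
    haveI := (hR.to_le hS).isNilpotent
    infer_instance
  set B := ⁅R, A⁆ with hBdef
  set C := R ⊓ centralizer (A : Set G) with hCdef
  have hBR : B ≤ R := Cfsg.Agent.H1.Coprime.commutator_le_of_le_normalizer hA
  have hAB : A ≤ normalizer (B : Set G) := Subgroup.normalizer_commutator_ge_right _ _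
  have hBB : ⁅B, A⁆ = B := Cfsg.Agent.H1.Coprime.commutator_commutator_eq A R hA (hcop' R le_rfl) (Or.inr (hs R le_rfl))
  have hBc : IsMulCommutative ↥B := by
    by_contra hna
    exact comm_ne hp2 (hR.to_le hBR) (meta_le hBR hRm) hna hAB hcop hBB
  have hBC : B ⊔ C = R := Cfsg.Agent.H1.Coprime.commutator_sup_centralizer A R hA (hcop' R le_rfl) (Or.inr (hs R le_rfl))
  have hinf : B ⊓ C = ⊥ := by
    rw [eq_bot_iff]
    have h1 := Cfsg.Agent.H12.Trans.inf_centralizer_le_rel hAB (hcop' B hBR) hBB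
    have h2 : ⁅B, B⁆ = ⊥ := by
      rw [eq_bot_iff, commutator_le]
      intro x hx y hy
      rw [mem_bot, commutatorElement_eq_one_iff_mul_comm]
      exact congrArg Subtype.val (hBc.is_comm.comm (⟨x, hx⟩ : B) ⟨y, hy⟩)
    rw [h2] at h1
    rintro x ⟨hx1, hx2⟩
    exact h1 ⟨hx1, hx2.2⟩
  refine ⟨hBc, hBC, hinf, fun hna hnt => ?_⟩
  have hB1 : B ≠ ⊥ := by
    intro h
    apply hnt
    rw [hBdef, commutator_eq_bot_iff_le_centralizer] at h
    exact le_centralizer_iff.1 h
  have hC1 : C ≠ ⊥ := by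
    intro h
    rw [h, sup_bot_eq] at hBC
    apply hna
    rw [← hBC]; exact hBc
  have hOm : Nat.card (OmS R p) ≤ p ^ 2 := omega_le_of_meta hp2 hR hRm
  -- two subgroups with trivial intersection
  have hcyc : ∀ S T : Subgroup G, S ≤ R → T ≤ R → S ⊓ T = ⊥ → T ≠ ⊥ → IsCyclic S := by
    intro S T hS hT hST hT1
    by_contra hc
    obtain ⟨E, hES, hEe, hEc⟩ := exists_ea hp2 (hR.to_le hS) hc
    obtain ⟨x, hxT, hxp, hx1⟩ := exists_order (hR.to_le hT) hT1
    have hE : E.subgroupOf R = OmS R p := by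
      apply Subgroup.eq_of_le_of_card_ge
      · intro y hy
        exact Subgroup.subset_closure (Subtype.ext (hEe y hy))
      · rw [Cfsg.Agent.H2.Card.card_subgroupOf_of_le (hES.trans hS), hEc]; exact hOm
    have hx : (⟨x, hT hxT⟩ : R) ∈ E.subgroupOf R := by
      rw [hE]; exact Subgroup.subset_closure (Subtype.ext hxp)
    have : x ∈ S ⊓ T := ⟨hES hx, hxT⟩
    rw [hST, mem_bot] at this
    exact hx1 this
  have hCR : C ≤ R := inf_le_left
  have hCcyc : IsCyclic C := hcyc C B hCR hBR (by rw [inf_comm]; exact hinf) hB1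
  refine ⟨hB1, hcyc B C hBR hCR hinf hC1, hC1, hCcyc, ?_⟩
  -- `[R,R] ≤ B`
  have hRB : R ≤ normalizer (B : Set G) := Subgroup.normalizer_commutator_ge_left _ _
  haveI hBn : (B.subgroupOf R).Normal := normal_subgroupOf_of_le_normalizer hRB
  have hdec : ∀ x : R, ∃ c ∈ C, ∃ hcR : c ∈ R, QuotientGroup.mk' (B.subgroupOf R) x = QuotientGroup.mk' (B.subgroupOf R) ⟨c, hcR⟩ := by
    rintro ⟨x, hx⟩
    have hx' : x ∈ C ⊔ B := by rw [sup_comm, hBC]; exact hx
    obtain ⟨c, hc, b, hb, rfl⟩ := (Cfsg.Agent.H2.Card.mem_sup_iff (hCR.trans hRB)).1 hx'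
    refine ⟨c, hc, hCR hc, ?_⟩
    symm
    apply QuotientGroup.eq.2
    rw [mem_subgroupOf]
    show c⁻¹ * (c * b) ∈ B
    rw [inv_mul_cancel_left]; exact hb
  rw [commutator_le]
  intro x hx y hy
  obtain ⟨c, hc, hcR, e1⟩ := hdec ⟨x, hx⟩
  obtain ⟨d, hd, hdR, e2⟩ := hdec ⟨y, hy⟩
  have hcd : c * d = d * c := by
    letI : CommGroup C := hCcyc.commGroup
    exact congrArg Subtype.val (mul_comm (⟨c, hc⟩ : C) ⟨d, hd⟩)
  have h1 : QuotientGroup.mk' (B.subgroupOf R) ⁅(⟨x, hx⟩ : R), (⟨y, hy⟩ : R)⁆ = 1 := by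
    rw [map_commutatorElement, e1, e2, ← map_commutatorElement]
    have : ⁅(⟨c, hcR⟩ : R), (⟨d, hdR⟩ : R)⁆ = 1 := by
      rw [commutatorElement_eq_one_iff_mul_comm]; exact Subtype.ext hcd
    rw [this, map_one]
  exact mem_subgroupOf.1 ((QuotientGroup.eq_one_iff _).1 h1)

end amb

end Cfsg.Agent.H2.MetaAct
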