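import Mathlib
import Cfsg.Agent.H2_Hup
import Cfsg.Agent.H1_FusZ
import Cfsg.Agent.H12_PStab3
import Cfsg.Agent.S0129
import Cfsg.Agent.S0110
import Cfsg.Agent.S1447
import Cfsg.Agent.H12_Rank2d
import Cfsg.Agent.H12_CN5

/-! BG 4.16 (Blackburn) -/

set_option autoImplicit false
set_option linter.unusedSectionVars false

open Pointwise
open scoped commutatorElement

namespace Cfsg.Agent.H12.R416

open Cfsg Subgroup

universe u

theorem comm_pow_pow {P : Type*} [Group P] {x y : P} (h1 : Commute x ⁅x, y⁆) (h2 : Commute y ⁅x, y⁆) (i j : ℕ) :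
    ⁅x ^ i, y ^ j⁆ = ⁅x, y⁆ ^ (i * j) := by
  have e1 : ∀ j : ℕ, ⁅x, y ^ j⁆ = ⁅x, y⁆ ^ j := by
    intro j
    have h3 := PStab.commutator_pow_of_comm (x := x) (h := y) (by
      have : ⁅y, x⁆ = ⁅x, y⁆⁻¹ := (commutatorElement_inv _ _).symm
      rw [this]
      exact (h2.inv_right).eq) j
    have e : ⁅x, y ^ j⁆ = ⁅y ^ j, x⁆⁻¹ := (commutatorElement_inv _ _).symm
    rw [e, h3, ← inv_pow, commutatorElement_inv]
  have h4 := PStab.commutator_pow_of_comm (x := y ^ j) (h := x) (by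
    rw [e1]
    exact (h1.pow_right j).eq) i
  rw [h4, e1, ← pow_mul, mul_comm]

/-- the computation at the heart of 4.16 -/
theorem key {P : Type*} [Group P] {p : ℕ} [hp : Fact p.Prime] (α : MulAut P) {S L Z : Subgroup P} [hZn : Z.Normal]
    (hZ : Z ≤ center P) (hZc : Nat.card Z = p) (hLZ : ∀ l ∈ L, ∀ g : P, ⁅l, g⁆ ∈ Z) (hSS : ∀ s ∈ S, ∀ t ∈ S, ⁅s, t⁆ ∈ Z)
    (hLab : ∀ l ∈ L, ∀ l' ∈ L, l * l' = l' * l) (hLS : L ≤ S) {s w l₁ e : P} {i j : ℕ} (hs : s ∈ S) (hl₁ : l₁ ∈ L)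
    (he : ⁅s, e⁆ ∈ Z) (hl : ⁅s, w⁆ ∈ L) (hz : ⁅s, ⁅s, w⁆⁆ ≠ 1)
    (hLc : ∀ l' ∈ L, ∃ k : ℕ, ∃ z ∈ Z, l' = ⁅s, w⁆ ^ k * z) (cs : α s = s ^ i * l₁) (cw : α w = w ^ j * e)
    (hLp : ∀ l ∈ L, l ^ p = 1) {u : P} (hu : u ∈ L) (hu1 : u ≠ 1) (hau : α u = u ^ j) (hj : ¬ p ∣ j) :
    i ≡ 1 [MOD p] ∨ i * i ≡ 1 [MOD p] := by
  have hjc : j.Coprime p := (Nat.Coprime.symm ((Nat.Prime.coprime_iff_not_dvd hp.out).2 hj))
  set l := ⁅s, w⁆ with hldef
  set z := ⁅s, l⁆ with hzdef
  have hlS : l ∈ S := hLS hl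
  have hzZ : z ∈ Z := hSS s hs l hlS
  have hlnZ : l ∉ Z := by
    intro h
    apply hz
    rw [commutatorElement_eq_one_iff_mul_comm]
    exact (mem_center_iff.1 (hZ h) s)
  have hlZpow : ∀ k : ℕ, l ^ k ∈ Z → p ∣ k := by
    intro k hk
    by_contra hnd
    have hcop : k.Coprime p := Nat.Coprime.symm ((Nat.Prime.coprime_iff_not_dvd hp.out).2 hnd)
    apply hlnZ
    have h1 : l ^ (Nat.gcd k p : ℤ) ∈ Z := by
      rw [Nat.gcd_eq_gcd_ab, zpow_add, zpow_mul, zpow_mul, zpow_natCast, zpow_natCast, hLp l hl, one_zpow, mul_one]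
      exact zpow_mem hk _
    rwa [Nat.coprime_iff_gcd_eq_one.1 hcop, Nat.cast_one, zpow_one] at h1
  have hzord : orderOf z = p := by
    have h1 : orderOf z ∣ p := by rw [← hZc]; exact Subgroup.orderOf_dvd_natCard Z hzZ
    rcases (Nat.dvd_prime hp.out).1 h1 with h | h
    · exact absurd (orderOf_eq_one_iff.1 h) hz
    · exact h
  -- α l ≡ l ^ (i * j) mod Z
  have hαl : ∃ z' ∈ Z, α l = l ^ (i * j) * z' := by
    have h1 : α l = ⁅s ^ i * l₁, w ^ j * e⁆ := by
      rw [hldef, map_commutatorElement, cs, cw]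
    set q := QuotientGroup.mk' Z with hq
    have qker : ∀ x : P, x ∈ Z → q x = 1 := fun x hx => (QuotientGroup.eq_one_iff x).2 hx
    have hcomm : ∀ x y : P, ⁅x, y⁆ ∈ Z → Commute (q x) (q y) := by
      intro x y h
      have := qker _ h
      rw [map_commutatorElement, commutatorElement_eq_one_iff_mul_comm] at this
      exact this
    have hc1 : ∀ g : P, Commute (q l₁) (q g) := fun g => hcomm _ _ (hLZ l₁ hl₁ g)
    have hc2 : ∀ g : P, Commute (q l) (q g) := fun g => hcomm _ _ (hLZ l hl g)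
    have hc3 : Commute (q s) (q e) := hcomm _ _ he
    have h2 : q (α l) = q l ^ (i * j) := by
      rw [h1, map_commutatorElement, map_mul, map_mul, map_pow, map_pow]
      have e1 : ⁅q s ^ i * q l₁, q w ^ j * q e⁆ = ⁅q s ^ i, q w ^ j * q e⁆ := by
        have hc : Commute (q l₁) (q w ^ j * q e) := by
          rw [← map_pow, ← map_mul]; exact hc1 _
        rw [commutatorElement_def, commutatorElement_def, mul_inv_rev]
        calc q s ^ i * q l₁ * (q w ^ j * q e) * ((q l₁)⁻¹ * (q s ^ i)⁻¹) * (q w ^ j * q e)⁻¹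
            = q s ^ i * (q l₁ * (q w ^ j * q e)) * (q l₁)⁻¹ * (q s ^ i)⁻¹ * (q w ^ j * q e)⁻¹ := by group
          _ = q s ^ i * ((q w ^ j * q e) * q l₁) * (q l₁)⁻¹ * (q s ^ i)⁻¹ * (q w ^ j * q e)⁻¹ := by rw [hc.eq]
          _ = _ := by group
      have e2 : ⁅q s ^ i, q w ^ j * q e⁆ = ⁅q s ^ i, q w ^ j⁆ := by
        have hc : Commute (q s ^ i) (q e) := hc3.pow_left i
        have hc' : q e * (q s ^ i)⁻¹ = (q s ^ i)⁻¹ * q e := (hc.inv_left.eq).symm
        rw [commutatorElement_def, commutatorElement_def, mul_inv_rev]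
        calc q s ^ i * (q w ^ j * q e) * (q s ^ i)⁻¹ * ((q e)⁻¹ * (q w ^ j)⁻¹)
            = q s ^ i * q w ^ j * (q e * (q s ^ i)⁻¹) * (q e)⁻¹ * (q w ^ j)⁻¹ := by group
          _ = q s ^ i * q w ^ j * ((q s ^ i)⁻¹ * q e) * (q e)⁻¹ * (q w ^ j)⁻¹ := by rw [hc']
          _ = _ := by group
      rw [e1, e2]
      have e3 : q l = ⁅q s, q w⁆ := by rw [hldef, map_commutatorElement]
      rw [e3]
      apply comm_pow_pow
      · rw [← e3]; exact (hc2 s).symm
      · rw [← e3]; exact (hc2 w).symm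
    refine ⟨(l ^ (i * j))⁻¹ * α l, ?_, by group⟩
    rw [← map_pow] at h2
    exact QuotientGroup.eq.1 h2.symm
  -- α z = z ^ (i * (i * j))
  have hαz : α z = z ^ (i * (i * j)) := by
    obtain ⟨z', hz', hα⟩ := hαl
    have h1 : α z = ⁅s ^ i * l₁, l ^ (i * j) * z'⁆ := by
      rw [hzdef, map_commutatorElement, cs, hα]
    rw [h1]
    have hcz : ∀ g : P, Commute z' g := fun g => (mem_center_iff.1 (hZ hz') g).symm
    have hcz2 : ∀ g : P, Commute z g := fun g => (mem_center_iff.1 (hZ hzZ) g).symm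
    have hcl : Commute l₁ (l ^ (i * j)) := (show Commute l₁ l from hLab l₁ hl₁ l hl).pow_right _
    have e1 : ⁅s ^ i * l₁, l ^ (i * j) * z'⁆ = ⁅s ^ i, l ^ (i * j)⁆ := by
      have hc : Commute l₁ (l ^ (i * j) * z') := hcl.mul_right (hcz l₁).symm
      rw [commutatorElement_def, commutatorElement_def, mul_inv_rev]
      calc s ^ i * l₁ * (l ^ (i * j) * z') * (l₁⁻¹ * (s ^ i)⁻¹) * (l ^ (i * j) * z')⁻¹
          = s ^ i * (l₁ * (l ^ (i * j) * z')) * l₁⁻¹ * (s ^ i)⁻¹ * (l ^ (i * j) * z')⁻¹ := by group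
        _ = s ^ i * ((l ^ (i * j) * z') * l₁) * l₁⁻¹ * (s ^ i)⁻¹ * (l ^ (i * j) * z')⁻¹ := by rw [hc.eq]
        _ = s ^ i * l ^ (i * j) * (z' * (s ^ i)⁻¹) * z'⁻¹ * (l ^ (i * j))⁻¹ := by group
        _ = s ^ i * l ^ (i * j) * ((s ^ i)⁻¹ * z') * z'⁻¹ * (l ^ (i * j))⁻¹ := by rw [(hcz (s ^ i)⁻¹).eq]
        _ = _ := by group
    rw [e1]
    exact comm_pow_pow (hcz2 s).symm (hcz2 l).symm _ _
  -- case on u
  obtain ⟨k, z₀, hz₀, hku⟩ := hLc u hu
  by_cases huZ : u ∈ Z
  · right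
    -- u is a power of z
    have hzz : zpowers z = Z := by
      have : Finite Z := Nat.finite_of_card_ne_zero (by rw [hZc]; exact hp.out.ne_zero)
      apply Subgroup.eq_of_le_of_card_ge (zpowers_le.2 hzZ)
      rw [Nat.card_zpowers, hzord, hZc]
    rw [← hzz] at huZ
    obtain ⟨m, hm⟩ := mem_zpowers_iff.1 huZ
    have h1 : α u = u ^ (i * (i * j)) := by
      rw [← hm, map_zpow, hαz, ← zpow_natCast, ← zpow_mul, ← zpow_natCast, ← zpow_mul, mul_comm]
    rw [hau] at h1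
    have huo : orderOf u = p := by
      have h1 : orderOf u ∣ p := orderOf_dvd_of_pow_eq_one (hLp u hu)
      rcases (Nat.dvd_prime hp.out).1 h1 with h | h
      · exact absurd (orderOf_eq_one_iff.1 h) hu1
      · exact h
    have h2 := pow_eq_pow_iff_modEq.1 h1
    rw [huo] at h2
    -- j ≡ i * i * j
    have h3 : 1 * j ≡ (i * i) * j [MOD p] := by
      rw [one_mul, mul_assoc]; exact h2
    exact (Nat.ModEq.cancel_right_of_coprime (by rw [Nat.gcd_comm]; exact hjc) h3).symm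
  · left
    obtain ⟨z', hz', hα⟩ := hαl
    have hpk : ¬ p ∣ k := by
      rintro ⟨m, rfl⟩
      apply huZ
      rw [hku, pow_mul, hLp l hl, one_pow, one_mul]
      exact hz₀
    have hcz0 : ∀ g : P, Commute z₀ g := fun g => (mem_center_iff.1 (hZ hz₀) g).symm
    have hcz' : ∀ g : P, Commute z' g := fun g => (mem_center_iff.1 (hZ hz') g).symm
    have h1 : α u = l ^ (i * j * k) * (z' ^ k * α z₀) := by
      rw [hku, map_mul, map_pow, hα, (hcz' _).symm.mul_pow, ← pow_mul, mul_assoc]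
    have h2 : u ^ j = l ^ (k * j) * z₀ ^ j := by
      rw [hku, (hcz0 _).symm.mul_pow, ← pow_mul]
    have hαZ : α z₀ ∈ Z := by
      -- Z = ⟨z⟩ and α z ∈ Z
      have hzz : zpowers z = Z := by
        have : Finite Z := Nat.finite_of_card_ne_zero (by rw [hZc]; exact hp.out.ne_zero)
        apply Subgroup.eq_of_le_of_card_ge (zpowers_le.2 hzZ)
        rw [Nat.card_zpowers, hzord, hZc]
      rw [← hzz] at hz₀
      obtain ⟨m, hm⟩ := mem_zpowers_iff.1 hz₀
      rw [← hm, map_zpow, hαz]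
      exact zpow_mem (pow_mem hzZ _) _
    rw [hau, h2] at h1
    -- l ^ (k*j) * z₀^j = l ^ (i*j*k) * (...)
    have h3 : ∃ y ∈ Z, l ^ (k * j) = l ^ (i * j * k) * y := by
      refine ⟨z' ^ k * α z₀ * (z₀ ^ j)⁻¹, mul_mem (mul_mem (pow_mem hz' _) hαZ) (inv_mem (pow_mem hz₀ _)), ?_⟩
      rw [← mul_assoc, ← h1]; group
    obtain ⟨y, hy, hyl⟩ := h3
    have hlo : orderOf l = p := by
      have h1 : orderOf l ∣ p := orderOf_dvd_of_pow_eq_one (hLp l hl)
      rcases (Nat.dvd_prime hp.out).1 h1 with h | h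
      · exact absurd (orderOf_eq_one_iff.1 h) (fun h => hlnZ (h ▸ Z.one_mem))
      · exact h
    have h4 : (k * j : ℤ) ≡ (i * j * k : ℤ) [ZMOD p] := by
      rw [Int.modEq_iff_dvd]
      -- l ^ (i*j*k - k*j) ∈ Z
      have h5 : l ^ ((i * j * k : ℤ) - (k * j : ℤ)) ∈ Z := by
        rw [zpow_sub]
        have e1 : l ^ (i * j * k : ℤ) = l ^ (i * j * k) := by
          rw [← zpow_natCast]; push_cast; rfl
        have e2 : l ^ (k * j : ℤ) = l ^ (k * j) := by
          rw [← zpow_natCast]; push_cast; rfl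
        rw [e1, e2, hyl, mul_inv_rev]
        have : l ^ (i * j * k) * (y⁻¹ * (l ^ (i * j * k))⁻¹) = y⁻¹ := by
          have hcy : Commute y⁻¹ (l ^ (i * j * k))⁻¹ := ((mem_center_iff.1 (hZ (inv_mem hy)) _).symm)
          rw [hcy.eq]; group
        rw [this]
        exact inv_mem hy
      by_contra hnd
      apply hlnZ
      have hcop : IsCoprime ((i * j * k : ℤ) - (k * j : ℤ)) (p : ℤ) := by
        rw [isCoprime_comm]
        exact (Nat.prime_iff_prime_int.1 hp.out).coprime_iff_not_dvd.2 hnd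
      obtain ⟨a, b, hab⟩ := hcop
      have h6 : l ^ (a * ((i * j * k : ℤ) - (k * j : ℤ)) + b * p) ∈ Z := by
        rw [zpow_add, mul_comm a, zpow_mul, mul_comm b, zpow_mul, zpow_natCast, hLp l hl, one_zpow, mul_one]
        exact zpow_mem h5 _
      rwa [hab, zpow_one] at h6
    have h5 : 1 * (k * j) ≡ i * (k * j) [MOD p] := by
      rw [← Int.natCast_modEq_iff]
      push_cast
      rw [one_mul]
      have e : (i : ℤ) * (k * j) = i * j * k := by ring
      rw [e]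
      exact h4
    have hkj : Nat.gcd p (k * j) = 1 := by
      rw [Nat.gcd_comm]
      exact Nat.Coprime.mul_left (Nat.Coprime.symm ((Nat.Prime.coprime_iff_not_dvd hp.out).2 hpk)) hjc
    exact (Nat.ModEq.cancel_right_of_coprime hkj h5).symm

/-- cosets of a subgroup of prime index -/
theorem exists_pow_mul {P : Type*} [Group P] [Finite P] {p : ℕ} [hp : Fact p.Prime] {X Y : Subgroup P} (hYX : Y ≤ X)
    (hn : X ≤ normalizer (Y : Set P)) (hc : Nat.card X = p * Nat.card Y) {s : P} (hs : s ∈ X) (hsY : s ∉ Y) :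
    ∀ x ∈ X, ∃ i : ℕ, ∃ y ∈ Y, x = s ^ i * y := by
  have hz : zpowers s ≤ normalizer (Y : Set P) := (zpowers_le.2 hs).trans hn
  have h1 : Y ⊔ zpowers s = X := by
    apply Subgroup.eq_of_le_of_card_ge (sup_le hYX (zpowers_le.2 hs))
    have h2 : Nat.card Y ∣ Nat.card ↥(Y ⊔ zpowers s) := card_dvd_of_le le_sup_left
    have h3 : Nat.card ↥(Y ⊔ zpowers s) ∣ Nat.card X := card_dvd_of_le (sup_le hYX (zpowers_le.2 hs))
    obtain ⟨m, hm⟩ := h2
    rw [hm, hc, mul_comm p] at h3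
    have h4 : m ∣ p := Nat.dvd_of_mul_dvd_mul_left Nat.card_pos h3
    rcases (Nat.dvd_prime hp.out).1 h4 with h | h
    · exfalso
      apply hsY
      rw [h, mul_one] at hm
      have := Subgroup.eq_of_le_of_card_ge (le_sup_left : Y ≤ Y ⊔ zpowers s) hm.le
      rw [this]
      exact (le_sup_right : zpowers s ≤ Y ⊔ zpowers s) (mem_zpowers s)
    · rw [hc, hm, h, mul_comm]
  intro x hx
  rw [← h1] at hx
  obtain ⟨k, hk, y, hy, rfl⟩ := (H22.Basic.mem_sup_of_le_normalizer' hz).1 hx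
  obtain ⟨i, hi⟩ := (mem_powers_iff_mem_zpowers.2 hk)
  exact ⟨i, y, hy, by rw [← hi]⟩

/-- the configuration occurring in the proof of 4.16 -/
structure Conf (p : ℕ) (P : Type u) [Group P] (S L Z D E : Subgroup P) : Prop where
  Zc : Nat.card Z = p
  Zle : Z ≤ center P
  Sch : S.Characteristic
  Lch : L.Characteristic
  Zch : Z.Characteristic
  Dch : D.Characteristic
  Ech : E.Characteristic
  mem_S : ∀ x, x ∈ S ↔ x ^ p = 1
  Sc : Nat.card S = p ^ 3
  Lc : Nat.card L = p ^ 2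
  ZL : Z ≤ L
  LS : L ≤ S
  Lab : ∀ l ∈ L, ∀ l' ∈ L, l * l' = l' * l
  LZ : ∀ l ∈ L, ∀ g, ⁅l, g⁆ ∈ Z
  SL : ∀ s ∈ S, ∀ g, ⁅s, g⁆ ∈ L
  SS : ∀ s ∈ S, ∀ t ∈ S, ⁅s, t⁆ ∈ Z
  DS : D ⊓ S = L
  ED : E ≤ D
  EneD : E ≠ D
  memE : ∀ e ∈ E, ∀ s ∈ S, ⁅s, e⁆ ∈ Z
  gen : ∀ s ∈ S, s ∉ L → ∀ w ∈ D, w ∉ E → ∀ x ∈ D, ∃ k : ℕ, ∃ e ∈ E, x = w ^ k * e
  gen2 : ∀ r : P, ∃ t ∈ S, ∃ d ∈ D, r = t * d
  nz : ∀ s ∈ S, s ∉ L → ∀ w ∈ D, w ∉ E → ⁅s, w⁆ ∉ Z ∧ ⁅s, ⁅s, w⁆⁆ ≠ 1
  Dp : ∀ x ∈ D, x ^ p ∈ E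

theorem comm_mem_of {P : Type*} [Group P] {Z : Subgroup P} [Z.Normal] {x y g : P} (h1 : ⁅x, g⁆ ∈ Z) (h2 : ⁅y, g⁆ ∈ Z) :
    ⁅x * y, g⁆ ∈ Z := by
  have e : ⁅x * y, g⁆ = x * ⁅y, g⁆ * x⁻¹ * ⁅x, g⁆ := by
    rw [commutatorElement_def, commutatorElement_def, commutatorElement_def]; group
  rw [e]
  exact mul_mem (Subgroup.Normal.conj_mem inferInstance _ h2 x) h1

theorem comm_mem_inv {P : Type*} [Group P] {Z : Subgroup P} [Z.Normal] {x g : P} (h1 : ⁅x, g⁆ ∈ Z) :
    ⁅x⁻¹, g⁆ ∈ Z := by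
  have e : ⁅x⁻¹, g⁆ = x⁻¹ * ⁅x, g⁆⁻¹ * x⁻¹⁻¹ := by
    rw [commutatorElement_def, commutatorElement_def]; group
  rw [e]
  exact Subgroup.Normal.conj_mem inferInstance _ (inv_mem h1) x⁻¹

/-- elements whose commutators with `T` lie in `Z` -/
def CZ {P : Type*} [Group P] (Z : Subgroup P) [Z.Normal] (T : Set P) : Subgroup P where
  carrier := {x | ∀ g ∈ T, ⁅x, g⁆ ∈ Z}
  one_mem' := fun g _ => by rw [commutatorElement_one_left]; exact one_mem _
  mul_mem' := fun h1 h2 g hg => comm_mem_of (h1 g hg) (h2 g hg)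
  inv_mem' := fun h1 g hg => comm_mem_inv (h1 g hg)

theorem mem_CZ {P : Type*} [Group P] {Z : Subgroup P} [Z.Normal] {T : Set P} {x : P} : x ∈ CZ Z T ↔ ∀ g ∈ T, ⁅x, g⁆ ∈ Z := Iff.rfl

theorem mem_of_char {P : Type*} [Group P] {Z : Subgroup P} (h : Z.Characteristic) (α : MulAut P) {x : P} : α x ∈ Z ↔ x ∈ Z := by
  have := Subgroup.characteristic_iff_comap_eq.1 h α
  constructor
  · intro hx
    rw [← this]; exact hx
  · intro hx
    rw [← this] at hx; exact hx

theorem char_of {P : Type*} [Group P] {Z : Subgroup P} (h : ∀ α : MulAut P, ∀ x ∈ Z, α x ∈ Z) : Z.Characteristic := by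
  rw [Subgroup.characteristic_iff_map_le]
  rintro α _ ⟨x, hx, rfl⟩
  exact h α x hx

theorem CZ_char {P : Type*} [Group P] {Z : Subgroup P} [Z.Normal] (hZ : Z.Characteristic) {T : Subgroup P} (hT : T.Characteristic) :
    (CZ Z (T : Set P)).Characteristic := by
  apply char_of
  intro α x hx g hg
  have h1 : α.symm g ∈ T := (mem_of_char hT α.symm).2 hg
  have h2 := hx _ h1
  have h3 := (mem_of_char hZ α).2 h2
  rwa [map_commutatorElement, MulEquiv.apply_symm_apply] at h3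

theorem comm_symm_mem {P : Type*} [Group P] {Z : Subgroup P} {x y : P} (h : ⁅x, y⁆ ∈ Z) : ⁅y, x⁆ ∈ Z := by
  rw [← commutatorElement_inv]; exact inv_mem h

theorem conf_of {P : Type u} [Group P] [Finite P] {p : ℕ} [hp : Fact p.Prime] (hP : IsPGroup p P) {S : Subgroup P}
    (hS : ∀ x, x ∈ S ↔ x ^ p = 1) (hSc : Nat.card S = p ^ 3) (hSn : ∃ x y : S, x * y ≠ y * x)
    (hno : ¬ ∀ s ∈ S, ∀ g : P, ⁅s, g⁆ ∈ (center S).map S.subtype) : ∃ L Z D E : Subgroup P, Conf p P S L Z D E := by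
  have hpp := hp.out
  have hex := H1.FusZ.extraspecial_of_cube hSc hSn
  have hSch : S.Characteristic := char_of (fun α x hx => by
    rw [hS] at hx ⊢
    rw [← map_pow, hx, map_one])
  set Z : Subgroup P := (center S).map S.subtype with hZdef
  have hZc : Nat.card Z = p := by
    rw [hZdef, card_map_of_injective S.subtype_injective, hex.2]
  have hZS : Z ≤ S := map_subtype_le _
  have memZ : ∀ x, x ∈ Z ↔ x ∈ S ∧ ∀ y ∈ S, x * y = y * x := by
    intro x
    constructor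
    · rintro ⟨x, hx, rfl⟩
      exact ⟨x.2, fun y hy => (congrArg Subtype.val (mem_center_iff.1 hx ⟨y, hy⟩)).symm⟩
    · rintro ⟨hx, h⟩
      exact ⟨⟨x, hx⟩, mem_center_iff.2 fun y => Subtype.ext (h y y.2).symm, rfl⟩
  have hZch : Z.Characteristic := char_of (fun α x hx => by
    rw [memZ] at hx ⊢
    refine ⟨(mem_of_char hSch α).2 hx.1, fun y hy => ?_⟩
    have := hx.2 (α.symm y) ((mem_of_char hSch α.symm).2 hy)
    have := congrArg α this
    simpa using this)
  have hZle : Z ≤ center P := H2.Rank2.le_center_of_card_le hP inferInstance hZc.le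
  have hSSZ : ∀ s ∈ S, ∀ t ∈ S, ⁅s, t⁆ ∈ Z := by
    intro s hs t ht
    have h1 : ⁅(⟨s, hs⟩ : S), ⟨t, ht⟩⁆ ∈ commutator S := commutator_mem_commutator (mem_top _) (mem_top _)
    rw [hex.1.2.2] at h1
    exact ⟨_, h1, rfl⟩
  set L : Subgroup P := S ⊓ CZ Z (Set.univ) with hL
  have hLch : L.Characteristic := by
    have h1 : (CZ Z (((⊤ : Subgroup P)) : Set P)).Characteristic := CZ_char hZch inferInstance
    have h2 : CZ Z (Set.univ) = CZ Z (((⊤ : Subgroup P)) : Set P) := by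
      rw [coe_top]
    rw [hL, h2]
    exact char_of (fun α x hx => mem_inf.2 ⟨(mem_of_char hSch α).2 (mem_inf.1 hx).1, (mem_of_char h1 α).2 (mem_inf.1 hx).2⟩)
  have hZL : Z ≤ L := le_inf hZS (fun x hx g _ => by
    have : ⁅x, g⁆ = 1 := by
      rw [commutatorElement_eq_one_iff_mul_comm]
      exact (mem_center_iff.1 (hZle hx) g).symm
    rw [this]; exact one_mem _)
  have hLS : L ≤ S := inf_le_left
  have hLZ : ∀ l ∈ L, ∀ g, ⁅l, g⁆ ∈ Z := fun l hl g => (mem_inf.1 hl).2 g (Set.mem_univ g)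
  have hLneS : L ≠ S := by
    intro h
    apply hno
    intro s hs g
    exact hLZ s (by rw [h]; exact hs) g
  -- quotient mod Z
  set q := QuotientGroup.mk' Z with hq
  have hQp : IsPGroup p (P ⧸ Z) := hP.to_quotient Z
  have hZneS : Z ≠ S := by
    intro h
    rw [h, hSc] at hZc
    have := hpp.two_le
    nlinarith [Nat.pow_lt_pow_right hpp.one_lt (show 1 < 3 by norm_num), pow_one p]
  have hLneZ : L ≠ Z := by
    intro h
    have hSq : S.map q ≠ ⊥ := by
      intro h'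
      rw [Subgroup.map_eq_bot_iff, QuotientGroup.ker_mk'] at h'
      exact hZneS (le_antisymm hZS h')
    have hn : (S.map q).Normal := Subgroup.Normal.map inferInstance _ (QuotientGroup.mk'_surjective Z)
    have h1 := H2.PGroup.inf_center_ne_bot hQp hSq
    obtain ⟨⟨y, hy⟩, hyne⟩ := (Subgroup.ne_bot_iff_exists_ne_one).1 h1
    obtain ⟨s, hs, hsy⟩ := (mem_inf.1 hy).1
    have hsL : s ∈ L := by
      refine mem_inf.2 ⟨hs, fun g _ => ?_⟩
      have h2 := mem_center_iff.1 (mem_inf.1 hy).2 (q g)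
      rw [← hsy] at h2
      have h3 : q ⁅s, g⁆ = 1 := by
        rw [map_commutatorElement, commutatorElement_eq_one_iff_mul_comm]
        exact h2.symm
      exact (QuotientGroup.eq_one_iff _).1 h3
    rw [h] at hsL
    apply hyne
    apply Subtype.ext
    show y = 1
    rw [← hsy]
    exact (QuotientGroup.eq_one_iff _).2 hsL
  have hLc : Nat.card L = p ^ 2 := by
    obtain ⟨k, hk⟩ := IsPGroup.iff_card.1 (hP.to_subgroup L)
    have h1 : Nat.card Z < Nat.card L := H22.Basic.card_lt_of_lt (lt_of_le_of_ne hZL hLneZ.symm)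
    have h2 : Nat.card L < Nat.card S := H22.Basic.card_lt_of_lt (lt_of_le_of_ne hLS hLneS)
    rw [hZc, hk] at h1
    rw [hSc, hk] at h2
    have h3 : k < 3 := (Nat.pow_lt_pow_iff_right hpp.one_lt).1 h2
    have h4 : 1 < k := by
      apply (Nat.pow_lt_pow_iff_right hpp.one_lt).1
      rwa [pow_one]
    rw [hk]
    congr 1
    omega
  have hLab : ∀ l ∈ L, ∀ l' ∈ L, l * l' = l' * l := by
    intro l hl l' hl'
    exact congrArg Subtype.val (IsPGroup.commutative_of_card_eq_prime_sq hLc (⟨l, hl⟩ : L) ⟨l', hl'⟩)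
  -- S/L is central in P/L
  have hSL : ∀ s ∈ S, ∀ g, ⁅s, g⁆ ∈ L := by
    set qL := QuotientGroup.mk' L with hqL
    have hQLp : IsPGroup p (P ⧸ L) := hP.to_quotient L
    have hn : (S.map qL).Normal := Subgroup.Normal.map inferInstance _ (QuotientGroup.mk'_surjective L)
    have hcard : Nat.card (S.map qL) ≤ p := by
      have h1 : Nat.card (S.map qL) * Nat.card L = Nat.card S := by
        have := Subgroup.card_mul_index (L.subgroupOf S)
        have e1 : (L.subgroupOf S).index = Nat.card (S.map qL) := by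
          have h := Subgroup.relIndex_ker S qL
          rw [hqL, QuotientGroup.ker_mk'] at h
          exact h
        rw [e1, H22.Basic.card_subgroupOf_eq hLS, mul_comm] at this
        exact this
      rw [hLc, hSc] at h1
      have h2 : Nat.card (S.map qL) * p ^ 2 = p * p ^ 2 := by rw [h1]; ring
      exact (Nat.eq_of_mul_eq_mul_right (pow_pos hpp.pos 2) h2).le
    have hcen := H2.Rank2.le_center_of_card_le hQLp hn hcard
    intro s hs g
    have h2 := mem_center_iff.1 (hcen ⟨s, hs, rfl⟩) (qL g)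
    have h3 : qL ⁅s, g⁆ = 1 := by
      rw [map_commutatorElement, commutatorElement_eq_one_iff_mul_comm]
      exact h2.symm
    exact (QuotientGroup.eq_one_iff _).1 h3
  set D : Subgroup P := centralizer (L : Set P) with hD
  have hDch : D.Characteristic := by
    apply char_of
    intro α x hx
    rw [hD, mem_centralizer_iff] at hx ⊢
    intro y hy
    have := hx (α.symm y) ((mem_of_char hLch α.symm).2 hy)
    have := congrArg α this
    simpa using this
  have hLD : L ≤ D := by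
    intro l hl
    rw [hD, mem_centralizer_iff]
    intro y hy
    exact hLab y hy l hl
  have hcardSL : Nat.card S = p * Nat.card L := by rw [hSc, hLc]; ring
  have hcardLZ : Nat.card L = p * Nat.card Z := by rw [hLc, hZc]; ring
  have hSnL : S ≤ normalizer (L : Set P) := H12.Core.le_normalizer_of_normal _ _
  have hLnZ : L ≤ normalizer (Z : Set P) := H12.Core.le_normalizer_of_normal _ _
  -- elements of S commuting with L lie in L
  have hDS : D ⊓ S = L := by
    apply le_antisymm _ (le_inf hLD hLS)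
    intro x hx
    by_contra hxL
    apply hLneZ
    apply le_antisymm _ hZL
    intro l hl
    rw [memZ]
    refine ⟨hLS hl, fun y hy => ?_⟩
    obtain ⟨i, l', hl', rfl⟩ := exists_pow_mul hLS hSnL hcardSL (mem_inf.1 hx).2 hxL y hy
    have hc1 : Commute l x := mem_centralizer_iff.1 (mem_inf.1 hx).1 l hl
    have hc2 : Commute l l' := hLab l hl l' hl'
    exact ((hc1.pow_right i).mul_right hc2).eq
  set E : Subgroup P := D ⊓ CZ Z (S : Set P) with hE
  have hEch : E.Characteristic := by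
    have h1 := CZ_char hZch hSch
    exact char_of (fun α x hx => mem_inf.2 ⟨(mem_of_char hDch α).2 (mem_inf.1 hx).1, (mem_of_char h1 α).2 (mem_inf.1 hx).2⟩)
  have hmemE : ∀ e ∈ E, ∀ s ∈ S, ⁅s, e⁆ ∈ Z := fun e he s hs => comm_symm_mem ((mem_inf.1 he).2 s hs)
  -- e ∈ D with [s,e] ∈ Z for one s ∉ L is in E
  have hE1 : ∀ s ∈ S, s ∉ L → ∀ e ∈ D, ⁅s, e⁆ ∈ Z → e ∈ E := by
    intro s hs hsL e he hse
    refine mem_inf.2 ⟨he, fun t ht => comm_symm_mem ?_⟩
    obtain ⟨i, l', hl', rfl⟩ := exists_pow_mul hLS hSnL hcardSL hs hsL t ht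
    have h1 : s ∈ CZ Z ({e} : Set P) := fun g hg => by rw [Set.mem_singleton_iff.1 hg]; exact hse
    have h2 : l' ∈ CZ Z ({e} : Set P) := fun g hg => hLZ l' hl' g
    exact (mul_mem (pow_mem h1 i) h2) e rfl
  -- P = S D
  obtain ⟨s₀, hs₀, hs₀L⟩ : ∃ s ∈ S, s ∉ L := by
    by_contra h
    push Not at h
    exact hLneS (le_antisymm hLS h)
  obtain ⟨l₀, hl₀, hl₀Z⟩ : ∃ l ∈ L, l ∉ Z := by
    by_contra h
    push Not at h
    exact hLneZ (le_antisymm h hZL)
  have hgenZ : ∀ z ∈ Z, z ≠ 1 → ∀ y ∈ Z, ∃ k : ℕ, y = z ^ k := by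
    intro z hz hz1 y hy
    have hzz : zpowers z = Z := by
      apply Subgroup.eq_of_le_of_card_ge (zpowers_le.2 hz)
      rw [Nat.card_zpowers, hZc]
      have h1 : orderOf z ∣ p := by rw [← hZc]; exact Subgroup.orderOf_dvd_natCard Z hz
      rcases (Nat.dvd_prime hpp).1 h1 with h | h
      · exact absurd (orderOf_eq_one_iff.1 h) hz1
      · exact h.ge
    rw [← hzz] at hy
    obtain ⟨k, hk⟩ := mem_powers_iff_mem_zpowers.2 hy
    exact ⟨k, hk.symm⟩
  have hcenL : ∀ x : P, x * l₀ = l₀ * x → x ∈ D := by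
    intro x hx
    rw [hD, mem_centralizer_iff]
    intro y hy
    obtain ⟨i, z', hz', rfl⟩ := exists_pow_mul hZL hLnZ hcardLZ hl₀ hl₀Z y hy
    have hc1 : Commute x l₀ := hx
    have hc2 : Commute x z' := (mem_center_iff.1 (hZle hz') x)
    exact ((hc1.pow_right i).mul_right hc2).eq.symm
  have hgen2 : ∀ r : P, ∃ t ∈ S, ∃ d ∈ D, r = t * d := by
    intro r
    have hne : ⁅s₀, l₀⁆ ≠ 1 := by
      intro h
      rw [commutatorElement_eq_one_iff_mul_comm] at h
      apply hs₀L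
      rw [← hDS]
      exact mem_inf.2 ⟨hcenL s₀ h, hs₀⟩
    have hz1 : ⁅s₀, l₀⁆ ∈ Z := comm_symm_mem (hLZ l₀ hl₀ s₀)
    obtain ⟨k, hk⟩ := hgenZ _ hz1 hne ⁅r, l₀⁆ (comm_symm_mem (hLZ l₀ hl₀ r))
    refine ⟨s₀ ^ k, pow_mem hs₀ k, (s₀ ^ k)⁻¹ * r, ?_, by group⟩
    apply hcenL
    have h1 : ⁅s₀ ^ k, l₀⁆ = ⁅s₀, l₀⁆ ^ k := PStab.commutator_pow_of_comm ((mem_center_iff.1 (hZle hz1) s₀)) k
    have h2 : s₀ ^ k * l₀ * (s₀ ^ k)⁻¹ = r * l₀ * r⁻¹ := by
      have h3 : ⁅s₀ ^ k, l₀⁆ = ⁅r, l₀⁆ := by rw [h1, hk]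
      rw [commutatorElement_def, commutatorElement_def] at h3
      exact mul_right_cancel h3
    calc (s₀ ^ k)⁻¹ * r * l₀ = (s₀ ^ k)⁻¹ * (r * l₀ * r⁻¹) * r := by group
      _ = (s₀ ^ k)⁻¹ * (s₀ ^ k * l₀ * (s₀ ^ k)⁻¹) * r := by rw [h2]
      _ = _ := by group
  have hEneD : E ≠ D := by
    intro h
    apply hno
    intro s hs g
    obtain ⟨t, ht, d, hd, rfl⟩ := hgen2 g
    apply comm_symm_mem
    apply comm_mem_of
    · exact hSSZ t ht s hs
    · rw [← h] at hd
      exact comm_symm_mem (hmemE d hd s hs)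
  have hnz : ∀ s ∈ S, s ∉ L → ∀ w ∈ D, w ∉ E → ⁅s, w⁆ ∉ Z ∧ ⁅s, ⁅s, w⁆⁆ ≠ 1 := by
    intro s hs hsL w hw hwE
    have h1 : ⁅s, w⁆ ∉ Z := fun h => hwE (hE1 s hs hsL w hw h)
    refine ⟨h1, fun h2 => ?_⟩
    rw [commutatorElement_eq_one_iff_mul_comm] at h2
    apply hsL
    rw [← hDS]
    refine mem_inf.2 ⟨?_, hs⟩
    rw [hD, mem_centralizer_iff]
    intro y hy
    obtain ⟨i, z', hz', rfl⟩ := exists_pow_mul hZL hLnZ hcardLZ (hSL s hs w) h1 y hy
    have hc1 : Commute s ⁅s, w⁆ := h2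
    have hc2 : Commute s z' := (mem_center_iff.1 (hZle hz') s)
    exact ((hc1.pow_right i).mul_right hc2).eq.symm
  have hgen : ∀ s ∈ S, s ∉ L → ∀ w ∈ D, w ∉ E → ∀ x ∈ D, ∃ k : ℕ, ∃ e ∈ E, x = w ^ k * e := by
    intro s hs hsL w hw hwE x hx
    obtain ⟨h1, h2⟩ := hnz s hs hsL w hw hwE
    obtain ⟨k, z', hz', hk⟩ := exists_pow_mul hZL hLnZ hcardLZ (hSL s hs w) h1 ⁅s, x⁆ (hSL s hs x)
    refine ⟨k, (w ^ k)⁻¹ * x, hE1 s hs hsL _ (mul_mem (inv_mem (pow_mem hw k)) hx) ?_, by group⟩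
    -- compute modulo Z
    have hqc : ∀ g : P, Commute (q ⁅s, w⁆) (q g) := by
      intro g
      have h3 : q ⁅⁅s, w⁆, g⁆ = 1 := (QuotientGroup.eq_one_iff _).2 (hLZ _ (hSL s hs w) g)
      rw [map_commutatorElement, commutatorElement_eq_one_iff_mul_comm] at h3
      exact h3
    have h4 : q ⁅s, w ^ k⁆ = q ⁅s, w⁆ ^ k := by
      have e3 : q ⁅s, w⁆ = ⁅q s, q w⁆ := by rw [map_commutatorElement]
      have := comm_pow_pow (x := q s) (y := q w) (by rw [← e3]; exact (hqc s).symm) (by rw [← e3]; exact (hqc w).symm) 1 k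
      rw [pow_one, one_mul, ← map_pow, ← map_commutatorElement, ← e3] at this
      exact this
    have h5 : q ⁅s, x⁆ = q ⁅s, w⁆ ^ k := by
      rw [hk, map_mul, map_pow, (QuotientGroup.eq_one_iff z').2 hz' |> (fun h : q z' = 1 => h), mul_one]
    have h6 : ⁅s, w ^ k⁆⁻¹ * ⁅s, x⁆ ∈ Z := QuotientGroup.eq.1 (h4.trans h5.symm)
    have e : ⁅s, (w ^ k)⁻¹ * x⁆ = (w ^ k)⁻¹ * ((w ^ k * (s * (w ^ k)⁻¹ * s⁻¹)) * ⁅s, x⁆) * (w ^ k)⁻¹⁻¹ := by
      rw [commutatorElement_def, commutatorElement_def]; group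
    have e2 : w ^ k * (s * (w ^ k)⁻¹ * s⁻¹) = ⁅s, w ^ k⁆⁻¹ := by
      rw [commutatorElement_def]; group
    rw [e, e2]
    exact Subgroup.Normal.conj_mem inferInstance _ h6 _
  have hDp : ∀ x ∈ D, x ^ p ∈ E := by
    intro x hx
    refine mem_inf.2 ⟨pow_mem hx p, fun t ht => comm_symm_mem ?_⟩
    have hqc : ∀ g : P, Commute (q ⁅t, x⁆) (q g) := by
      intro g
      have h3 : q ⁅⁅t, x⁆, g⁆ = 1 := (QuotientGroup.eq_one_iff _).2 (hLZ _ (hSL t ht x) g)
      rw [map_commutatorElement, commutatorElement_eq_one_iff_mul_comm] at h3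
      exact h3
    have e3 : q ⁅t, x⁆ = ⁅q t, q x⁆ := by rw [map_commutatorElement]
    have := comm_pow_pow (x := q t) (y := q x) (by rw [← e3]; exact (hqc t).symm) (by rw [← e3]; exact (hqc x).symm) 1 p
    rw [pow_one, one_mul, ← map_pow, ← map_commutatorElement, ← e3, ← map_pow, (hS _).1 (hLS (hSL t ht x)), map_one] at this
    exact (QuotientGroup.eq_one_iff _).1 this
  exact ⟨L, Z, D, E, ⟨hZc, hZle, hSch, hLch, hZch, hDch, hEch, hS, hSc, hLc, hZL, hLS, hLab, hLZ, hSL, hSSZ, hDS, inf_le_left,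
    hEneD, hmemE, hgen, hgen2, hnz, hDp⟩⟩

theorem dvd_of_pow_mem {P : Type*} [Group P] {p : ℕ} [hp : Fact p.Prime] {E : Subgroup P} {w : P} (hw : w ∉ E) (hwp : w ^ p ∈ E)
    {k : ℤ} (hk : w ^ k ∈ E) : (p : ℤ) ∣ k := by
  by_contra hnd
  apply hw
  have hcop : IsCoprime k (p : ℤ) := by
    rw [isCoprime_comm]
    exact (Nat.prime_iff_prime_int.1 hp.out).coprime_iff_not_dvd.2 hnd
  obtain ⟨a, b, hab⟩ := hcop
  have h6 : w ^ (a * k + b * p) ∈ E := by
    rw [zpow_add, mul_comm a, zpow_mul, mul_comm b, zpow_mul, zpow_natCast]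
    exact mul_mem (zpow_mem hk _) (zpow_mem hwp _)
  rwa [hab, zpow_one] at h6

section conf
variable {P : Type u} [Group P] [Finite P] {p : ℕ} [hp : Fact p.Prime] {S L Z D E : Subgroup P}

theorem Conf.pow_j (h : Conf p P S L Z D E) (α : MulAut P) {s w : P} (hs : s ∈ S) (hsL : s ∉ L) (hw : w ∈ D) (hwE : w ∉ E) {j : ℕ} {e : P} (he : e ∈ E)
    (cw : α w = w ^ j * e) : ¬ p ∣ j ∧ ∀ x ∈ D, (x ^ j)⁻¹ * α x ∈ E := by
  have hEn : E.Normal := by
    have := h.Ech; infer_instance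
  constructor
  · rintro ⟨m, rfl⟩
    apply hwE
    rw [← mem_of_char h.Ech α, cw, pow_mul]
    exact mul_mem (pow_mem (h.Dp w hw) m) he
  · intro x hx
    obtain ⟨k, e', he', rfl⟩ := h.gen s hs hsL w hw hwE x hx
    rw [← QuotientGroup.eq]
    have h1 : ((α e' : P) : P ⧸ E) = 1 := (QuotientGroup.eq_one_iff _).2 ((mem_of_char h.Ech α).2 he')
    have h2 : (e' : P ⧸ E) = 1 := (QuotientGroup.eq_one_iff _).2 he'
    have h3 : (e : P ⧸ E) = 1 := (QuotientGroup.eq_one_iff _).2 he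
    rw [map_mul, map_pow, cw, QuotientGroup.mk_mul, h1, mul_one, QuotientGroup.mk_pow, QuotientGroup.mk_mul, h2, mul_one,
      QuotientGroup.mk_pow, QuotientGroup.mk_pow, QuotientGroup.mk_mul, h3, mul_one, QuotientGroup.mk_pow, ← pow_mul, ← pow_mul,
      mul_comm]

theorem Conf.act_triv (h : Conf p P S L Z D E) (α : MulAut P) {n : ℕ} (hn : Odd n) (hα : α ^ n = 1) {w : P} (hw : w ∈ D) (hwE : w ∉ E)
    {j : ℕ} {e : P} (he : e ∈ E) (cw : α w = w ^ j * e) {u : P} (hu : u ∈ D) (hu1 : u ≠ 1) (hup : u ^ p = 1) (hau : α u = u ^ j) :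
    ∀ t ∈ S, t⁻¹ * α t ∈ L := by
  have hLn : L.Normal := by have := h.Lch; infer_instance
  have hZn : Z.Normal := by have := h.Zch; infer_instance
  intro s hs
  by_cases hsL : s ∈ L
  · exact mul_mem (inv_mem hsL) ((mem_of_char h.Lch α).2 hsL)
  have hcardSL : Nat.card S = p * Nat.card L := by rw [h.Sc, h.Lc]; ring
  have hcardLZ : Nat.card L = p * Nat.card Z := by rw [h.Lc, h.Zc]; ring
  have hSnL : S ≤ normalizer (L : Set P) := H12.Core.le_normalizer_of_normal _ _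
  have hLnZ : L ≤ normalizer (Z : Set P) := H12.Core.le_normalizer_of_normal _ _
  obtain ⟨i, l₁, hl₁, cs⟩ := exists_pow_mul h.LS hSnL hcardSL hs hsL (α s) ((mem_of_char h.Sch α).2 hs)
  obtain ⟨h1, h2⟩ := h.nz s hs hsL w hw hwE
  have hj := (h.pow_j α hs hsL hw hwE he cw).1
  have huL : u ∈ L := by
    rw [← h.DS]
    exact mem_inf.2 ⟨hu, (h.mem_S u).2 hup⟩
  have hk := key α h.Zle h.Zc h.LZ h.SS h.Lab h.LS hs hl₁ (h.memE e he s hs) (h.SL s hs w) h2
    (exists_pow_mul h.ZL hLnZ hcardLZ (h.SL s hs w) h1) cs cw (fun l hl => (h.mem_S l).1 (h.LS hl)) huL hu1 hau hj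
  -- i ^ n ≡ 1
  have hpow : ∀ m : ℕ, (((α ^ m) s : P) : P ⧸ L) = (s : P ⧸ L) ^ (i ^ m) := by
    intro m
    induction m with
    | zero => simp
    | succ m ih =>
      have e1 : (α ^ (m + 1)) s = (α ^ m) (s ^ i * l₁) := by
        rw [pow_succ, MulAut.mul_apply, cs]
      have h3 : (((α ^ m) l₁ : P) : P ⧸ L) = 1 := (QuotientGroup.eq_one_iff _).2 ((mem_of_char h.Lch (α ^ m)).2 hl₁)
      rw [e1, map_mul, map_pow, QuotientGroup.mk_mul, h3, mul_one, QuotientGroup.mk_pow, ih, ← pow_mul, pow_succ]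
  have hn1 := hpow n
  rw [hα, MulAut.one_apply] at hn1
  have hsp : s ^ p ∈ L := by rw [(h.mem_S s).1 hs]; exact one_mem _
  have hin : i ^ n ≡ 1 [MOD p] := by
    rw [← Int.natCast_modEq_iff, Int.modEq_iff_dvd]
    push_cast
    apply dvd_of_pow_mem hsL hsp
    have h4 : s⁻¹ * s ^ (i ^ n) ∈ L := by
      apply QuotientGroup.eq.1
      rw [QuotientGroup.mk_pow]
      exact hn1
    have h5 : s ^ ((1 : ℤ) - (i : ℤ) ^ n) = (s⁻¹ * s ^ (i ^ n))⁻¹ := by
      rw [mul_inv_rev, inv_inv, zpow_sub, zpow_one]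
      have : s ^ ((i : ℤ) ^ n) = s ^ (i ^ n) := by
        rw [← zpow_natCast]; push_cast; rfl
      rw [this]
      exact ((Commute.refl s).pow_right (i ^ n)).inv_right.eq
    rw [h5]
    exact inv_mem h4
  have hi1 : i ≡ 1 [MOD p] := by
    rcases hk with hk | hk
    · exact hk
    · obtain ⟨m, hm⟩ := hn
      have h4 : i ^ n ≡ i [MOD p] := by
        rw [hm, pow_add, pow_one, pow_mul, pow_two]
        have := (hk.pow m).mul_right i
        rwa [one_pow, one_mul] at this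
      exact h4.symm.trans hin
  have hsi : s ^ i = s := by
    have h3 : orderOf s ∣ p := orderOf_dvd_of_pow_eq_one ((h.mem_S s).1 hs)
    have := pow_eq_pow_iff_modEq.2 (hi1.of_dvd h3)
    rwa [pow_one] at this
  rw [cs, hsi]
  have : s⁻¹ * (s * l₁) = l₁ := by group
  rw [this]
  exact hl₁

/-- an eigenvector of order `p` in the abelian case -/
theorem Conf.eig_comm (h : Conf p P S L Z D E) (hP : IsPGroup p P) (α : MulAut P) {s w : P} (hs : s ∈ S) (hsL : s ∉ L) (hw : w ∈ D) (hwE : w ∉ E) {j : ℕ} {e : P} (he : e ∈ E)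
    (cw : α w = w ^ j * e) (hDc : ∀ x ∈ D, ∀ y ∈ D, x * y = y * x) : ∃ u ∈ D, u ≠ 1 ∧ u ^ p = 1 ∧ α u = u ^ j := by
  have hpj := (h.pow_j α hs hsL hw hwE he cw).2
  have hαD : ∀ x ∈ D, α x ∈ D := fun x hx => (mem_of_char h.Dch α).2 hx
  let β : D →* D :=
    { toFun := fun x => ⟨((x : P) ^ j)⁻¹ * α x, mul_mem (inv_mem (pow_mem x.2 j)) (hαD x x.2)⟩
      map_one' := by apply Subtype.ext; simp
      map_mul' := by
        intro x y
        apply Subtype.ext
        show (((x : P) * y) ^ j)⁻¹ * α (x * y) = (((x : P) ^ j)⁻¹ * α x) * (((y : P) ^ j)⁻¹ * α y)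
        have hxy : Commute (x : P) y := hDc x x.2 y y.2
        rw [hxy.mul_pow, map_mul, mul_inv_rev]
        have c1 : Commute ((y : P) ^ j)⁻¹ (((x : P) ^ j)⁻¹ * α x) :=
          hDc _ (inv_mem (pow_mem y.2 j)) _ (mul_mem (inv_mem (pow_mem x.2 j)) (hαD x x.2))
        calc ((y : P) ^ j)⁻¹ * ((x : P) ^ j)⁻¹ * (α x * α y) = (((y : P) ^ j)⁻¹ * (((x : P) ^ j)⁻¹ * α x)) * α y := by group
          _ = ((((x : P) ^ j)⁻¹ * α x) * ((y : P) ^ j)⁻¹) * α y := by rw [c1.eq]
          _ = _ := by group }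
  have hns : ¬ Function.Surjective β := by
    intro hsurj
    apply h.EneD
    apply le_antisymm h.ED
    intro x hx
    obtain ⟨y, hy⟩ := hsurj ⟨x, hx⟩
    have : ((y : P) ^ j)⁻¹ * α y = x := congrArg Subtype.val hy
    rw [← this]
    exact hpj y y.2
  have hni : ¬ Function.Injective β := fun hi => hns (Finite.injective_iff_surjective.1 hi)
  rw [← MonoidHom.ker_eq_bot_iff] at hni
  obtain ⟨⟨x, hx⟩, hx1⟩ := (Subgroup.ne_bot_iff_exists_ne_one).1 hni
  have hxe : α x = (x : P) ^ j := by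
    have : ((x : P) ^ j)⁻¹ * α x = 1 := congrArg Subtype.val (MonoidHom.mem_ker.1 hx)
    exact (inv_mul_eq_one.1 this).symm
  have hx1' : (x : P) ≠ 1 := fun hh => hx1 (Subtype.ext (Subtype.ext hh))
  obtain ⟨m, hm⟩ := (IsPGroup.iff_orderOf.1 hP) (x : P)
  have hm0 : m ≠ 0 := by
    rintro rfl
    rw [pow_zero] at hm
    exact hx1' (orderOf_eq_one_iff.1 hm)
  obtain ⟨m, rfl⟩ := Nat.exists_eq_succ_of_ne_zero hm0
  refine ⟨(x : P) ^ (p ^ m), pow_mem x.2 _, ?_, ?_, ?_⟩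
  · intro hh
    have := orderOf_dvd_of_pow_eq_one hh
    rw [hm] at this
    have := (Nat.pow_dvd_pow_iff_le_right hp.out.one_lt).1 this
    omega
  · rw [← pow_mul, ← pow_succ]
    have : p ^ (m + 1) = orderOf (x : P) := hm.symm
    rw [this, pow_orderOf_eq_one]
  · rw [map_pow, hxe, ← pow_mul, ← pow_mul, mul_comm]

/-- an eigenvector of order `p` from an invariant cyclic subgroup -/
theorem Conf.eig_cyclic (h : Conf p P S L Z D E) (hP : IsPGroup p P) (α : MulAut P) {s w : P} (hs : s ∈ S) (hsL : s ∉ L) (hw : w ∈ D) (hwE : w ∉ E) {j : ℕ} {e : P} (he : e ∈ E)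
    (cw : α w = w ^ j * e) {x : P} (hx : x ∈ D) (hxE : x ∉ E) {i : ℕ} (hαx : α x = x ^ i) : (∃ u ∈ D, u ≠ 1 ∧ u ^ p = 1 ∧ α u = u ^ j) ∧ i ≡ j [MOD p] := by
  have hpj := (h.pow_j α hs hsL hw hwE he cw).2 x hx
  have hij : i ≡ j [MOD p] := by
    rw [← Int.natCast_modEq_iff, Int.modEq_iff_dvd]
    apply dvd_of_pow_mem hxE (h.Dp x hx)
    rw [hαx] at hpj
    have h5 : x ^ ((j : ℤ) - (i : ℤ)) = ((x ^ j)⁻¹ * x ^ i)⁻¹ := by
      rw [mul_inv_rev, inv_inv, zpow_sub, zpow_natCast, zpow_natCast]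
      exact ((Commute.refl x).pow_pow j i).inv_right.eq
    rw [h5]
    exact inv_mem hpj
  refine ⟨?_, hij⟩
  have hx1 : x ≠ 1 := fun hh => hxE (hh ▸ one_mem _)
  obtain ⟨m, hm⟩ := (IsPGroup.iff_orderOf.1 hP) x
  have hm0 : m ≠ 0 := by
    rintro rfl
    rw [pow_zero] at hm
    exact hx1 (orderOf_eq_one_iff.1 hm)
  obtain ⟨m, rfl⟩ := Nat.exists_eq_succ_of_ne_zero hm0
  have hup : (x ^ (p ^ m)) ^ p = 1 := by
    rw [← pow_mul, ← pow_succ]
    have : p ^ (m + 1) = orderOf x := hm.symm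
    rw [this, pow_orderOf_eq_one]
  refine ⟨x ^ (p ^ m), pow_mem hx _, ?_, hup, ?_⟩
  · intro hh
    have := orderOf_dvd_of_pow_eq_one hh
    rw [hm] at this
    have := (Nat.pow_dvd_pow_iff_le_right hp.out.one_lt).1 this
    omega
  · rw [map_pow, hαx, ← pow_mul, mul_comm i, pow_mul]
    apply pow_eq_pow_iff_modEq.2
    exact hij.of_dvd (orderOf_dvd_of_pow_eq_one hup)

end conf

/-- `R` has `p`-rank ≤ 2 and exponent `p`: order at most `p³` -/
theorem card_le_cube {P : Type u} [Group P] [Finite P] {p : ℕ} [hp : Fact p.Prime] (hP : IsPGroup p P) (hexp : ∀ x : P, x ^ p = 1)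
    (hrk : ∀ E : Subgroup P, IsElementaryAbelian p E → Nat.card E ≤ p ^ 2) : Nat.card P ≤ p ^ 3 := by
  obtain ⟨B, hB⟩ := (Set.toFinite {B : Subgroup P | B.Normal ∧ IsMulCommutative B}).exists_maximal ⟨⊥, inferInstance, inferInstance⟩
  have hBn : B.Normal := hB.1.1
  have hBc : IsMulCommutative B := hB.1.2
  have hBe : Nat.card B ≤ p ^ 2 := hrk B ⟨hBc, fun x _ => hexp x⟩
  obtain ⟨a, ha⟩ := IsPGroup.iff_card.1 (hP.to_subgroup B)
  have ha2 : a ≤ 2 := by
    rw [ha] at hBe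
    exact (Nat.pow_le_pow_iff_right hp.out.one_lt).1 hBe
  have h1 := Cfsg.Agent.S0129.result hP B hBc (fun C hC hCc hBC => le_antisymm (hB.2 ⟨hC, hCc⟩ hBC) hBC) a ha
  refine h1.trans (Nat.pow_le_pow_right hp.out.pos ?_)
  interval_cases a <;> norm_num

/-- BG 4.16 -/
theorem thm416 {G : Type u} [Group G] [Finite G] (p : ℕ) [hp : Fact p.Prime] (hp2 : p ≠ 2) (R A : Subgroup G) (hR : IsPGroup p R) (hR1 : R ≠ ⊥) (hr : Cfsg.PRankLE p 2 R)
    (hA : (A ≤ Subgroup.normalizer (R : Set G))) (hcop : (Nat.card A).Coprime p) (hAodd : Odd (Nat.card A)) (hRA : ⁅R, A⁆ = R) :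
    3 < p ∧ (IsMulCommutative R ∨ ∃ R₁ R₂ : Subgroup G, R₁ ⊔ R₂ = R ∧ (∀ a ∈ R₁, ∀ b ∈ R₂, a * b = b * a) ∧
        ¬ IsMulCommutative R₁ ∧ Nat.card R₁ = p ^ 3 ∧ Monoid.exponent R₁ = p ∧ IsCyclic R₂ ∧
        Subgroup.closure {x : G | x ∈ R₂ ∧ x ^ p = 1} = ⁅R₁, R₁⁆) := by
  have hpp := hp.out
  -- p > 3
  have hp3 : 3 < p := by
    set φ : A →* MulAut R := R.normalizerMonoidHom.comp (Subgroup.inclusion hA) with hφ
    have hne : φ.range ≠ ⊥ := by
      intro hbot
      apply hR1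
      rw [← hRA, commutator_comm, commutator_eq_bot_iff_le_centralizer]
      intro a ha
      rw [mem_centralizer_iff]
      intro r hr'
      have h1 : φ ⟨a, ha⟩ ∈ φ.range := ⟨_, rfl⟩
      rw [hbot, mem_bot] at h1
      have h2 : a * r * a⁻¹ = r := congrArg (fun f : MulAut R => ((f ⟨r, hr'⟩ : R) : G)) h1
      calc r * a = (a * r * a⁻¹) * a := by rw [h2]
        _ = a * r := by group
    have hc : Nat.card φ.range ≠ 1 := fun h => hne (Subgroup.eq_bot_of_card_eq _ h)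
    obtain ⟨q, hq, hqd⟩ := Nat.exists_prime_and_dvd hc
    have hqA : q ∣ Nat.card A := hqd.trans (Subgroup.card_range_dvd φ)
    have hqp : q ≠ p := by
      rintro rfl
      exact hq.one_lt.ne' (Nat.dvd_one.1 (hcop ▸ Nat.dvd_gcd hqA dvd_rfl))
    have hq2 : q ≠ 2 := by
      rintro rfl
      exact (Nat.not_even_iff_odd.2 hAodd) (even_iff_two_dvd.2 hqA)
    have h1 := (Rank2.prime_dvd_aut hp2 hR hr q hq hqp (hqd.trans (Subgroup.card_subgroup_dvd_card _))).2
    have h2 := hq.two_le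
    have h3 : q ≠ 3 ∨ p ≠ 3 := by
      by_contra h
      push Not at h
      exact hqp (h.1.trans h.2.symm)
    omega
  refine ⟨hp3, ?_⟩
  have hp5 : 5 ≤ p := H2.Hup.five_le hp3
  by_cases hcom : IsMulCommutative R
  · exact Or.inl hcom
  right
  have hrk : ∀ E : Subgroup R, IsElementaryAbelian p E → Nat.card E ≤ p ^ 2 := SCN.pRankLE_top_iff.1 hr
  have hnm : ¬ IsMetacyclic R := by
    intro hm
    have := (Cfsg.Agent.S1447.result p hp2 R A hR hm hA hcop).1
    rw [hRA] at this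
    exact hcom this
  -- the subgroup S
  set S : Subgroup R := H2.Hup.OmS R p with hSdef
  have hS : ∀ x : R, x ∈ S ↔ x ^ p = 1 := fun x =>
    ⟨fun hx => H2.Hup.omega_exp hp5 hR hrk hx, fun hx => Subgroup.subset_closure hx⟩
  have hSlow : p ^ 2 < Nat.card S := by
    by_contra hle
    push Not at hle
    exact hnm (H2.Hup.meta_of_omega hp5 _ R le_rfl hR hle)
  have hSup : Nat.card S ≤ p ^ 3 := by
    refine card_le_cube (hR.to_subgroup S) (fun x => Subtype.ext ((hS x).1 x.2)) fun E hE => ?_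
    have hEc := hE.1
    have h1 := hrk (E.map S.subtype) ⟨inferInstance, by
      rintro _ ⟨x, hx, rfl⟩
      rw [← map_pow, hE.2 x hx, map_one]⟩
    rwa [card_map_of_injective S.subtype_injective] at h1
  have hSc : Nat.card S = p ^ 3 := by
    obtain ⟨k, hk⟩ := IsPGroup.iff_card.1 (hR.to_subgroup S)
    rw [hk] at hSlow hSup ⊢
    have h1 := (Nat.pow_lt_pow_iff_right hpp.one_lt).1 hSlow
    have h2 := (Nat.pow_le_pow_iff_right hpp.one_lt).1 hSup
    congr 1
    omega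
  have hSn : ∃ x y : S, x * y ≠ y * x := by
    by_contra h
    push Not at h
    have : Nat.card S ≤ p ^ 2 := hrk S ⟨⟨⟨h⟩⟩, fun x hx => (hS x).1 hx⟩
    omega
  have hex := H1.FusZ.extraspecial_of_cube hSc hSn
  -- the key claim
  have hcl : ∀ s ∈ S, ∀ g : R, ⁅s, g⁆ ∈ (center S).map S.subtype := by
    by_contra hno
    obtain ⟨L, Z, D, E, h⟩ := conf_of hR hS hSc hSn hno
    have hDn : D.Normal := by have := h.Dch; infer_instance
    have hEn : E.Normal := by have := h.Ech; infer_instance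
    obtain ⟨w, hw, hwE⟩ : ∃ w ∈ D, w ∉ E := by
      by_contra hh
      push Not at hh
      exact h.EneD (le_antisymm h.ED hh)
    obtain ⟨s, hs, hsL⟩ : ∃ s ∈ S, s ∉ L := by
      by_contra hh
      push Not at hh
      have h1 := le_antisymm h.LS hh
      have h2 := h.Lc
      rw [h1, hSc] at h2
      have := Nat.pow_right_injective hpp.two_le h2
      omega
    -- automorphisms
    let al : A → MulAut R := fun a => R.normalizerMonoidHom ⟨a, hA a.2⟩
    have hal : ∀ (a : A) (x : R), ((al a x : R) : G) = a * x * (a : G)⁻¹ := fun a x => rfl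
    set D' : Subgroup G := D.map R.subtype with hD'
    have hD'R : D' ≤ R := map_subtype_le _
    have hAD' : A ≤ normalizer (D' : Set G) := by
      intro a ha
      apply H22.Basic.mem_normalizer_of_cj_le
      rintro x hx
      rw [H22.Basic.mem_cj] at hx
      obtain ⟨y, hy, hyx⟩ := hx
      refine ⟨al ⟨a, ha⟩ y, (mem_of_char h.Dch _).2 hy, ?_⟩
      show ((al ⟨a, ha⟩ y : R) : G) = x
      rw [hal]
      have : (y : G) = a⁻¹ * x * a := hyx
      rw [this]; group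
    have hD'p : IsPGroup p D' := hR.to_le hD'R
    have hD'm : IsMetacyclic D' := by
      apply H2.Hup.meta_of_omega hp5 _ D' le_rfl hD'p
      have h1 : (H2.Hup.OmS D' p).map D'.subtype ≤ L.map R.subtype := by
        rw [H2.Hup.OmS, MonoidHom.map_closure, closure_le]
        rintro _ ⟨x, hx, rfl⟩
        obtain ⟨y, hy, hyx⟩ := x.2
        refine ⟨y, ?_, hyx⟩
        rw [SetLike.mem_coe, ← h.DS]
        refine mem_inf.2 ⟨hy, (hS y).2 ?_⟩
        apply Subtype.ext
        have h2 : (x : G) ^ p = 1 := congrArg Subtype.val hx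
        have h3 : (y : G) = x := hyx
        rw [← h3] at h2
        exact h2
      have h2 : Nat.card (H2.Hup.OmS D' p) ≤ Nat.card (L.map R.subtype) := by
        rw [← card_map_of_injective D'.subtype_injective]
        exact H22.Basic.card_le_of_le h1
      rw [card_map_of_injective R.subtype_injective, h.Lc] at h2
      exact h2
    have h47 := Cfsg.Agent.S1447.result p hp2 D' A hD'p hD'm hAD' hcop
    have key2 : ∀ a : A, ∀ t ∈ S, t⁻¹ * al a t ∈ L := by
      intro a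
      obtain ⟨j, e, he, cw⟩ := h.gen s hs hsL w hw hwE (al a w) ((mem_of_char h.Dch _).2 hw)
      have hpow : (al a) ^ (Nat.card A) = 1 := by
        have : (al a) = (R.normalizerMonoidHom.comp (Subgroup.inclusion hA)) a := rfl
        rw [this, ← map_pow, pow_card_eq_one', map_one]
      have hu : ∃ u ∈ D, u ≠ 1 ∧ u ^ p = 1 ∧ (al a) u = u ^ j := by
        by_cases hDc : IsMulCommutative D'
        · refine h.eig_comm hR (al a) hs hsL hw hwE he cw fun x hx y hy => ?_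
          have := congrArg Subtype.val (hDc.is_comm.comm (⟨x, ⟨x, hx, rfl⟩⟩ : D') ⟨y, ⟨y, hy, rfl⟩⟩)
          exact Subtype.ext this
        by_cases hAc : A ≤ centralizer (D' : Set G)
        · -- a centralizes D
          have hfix : ∀ x ∈ D, al a x = x := by
            intro x hx
            apply Subtype.ext
            rw [hal]
            have := mem_centralizer_iff.1 (hAc a.2) x ⟨x, hx, rfl⟩
            rw [← this]; group
          have h1 := h.eig_cyclic hR (al a) hs hsL hw hwE he cw hw hwE (i := 1) (by rw [hfix w hw, pow_one])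
          exact h1.1
        obtain ⟨h1, h2, h3, h4, h5⟩ := h47.2.2.2 hDc hAc
        by_cases hC : ∀ y ∈ D' ⊓ centralizer (A : Set G), y ∈ E.map R.subtype
        · -- T₁ is not contained in E
          have hT : ¬ ⁅D', A⁆ ≤ E.map R.subtype := by
            intro hT
            have h6 : D' ≤ E.map R.subtype := by
              rw [← h47.2.1]
              exact sup_le hT hC
            apply h.EneD
            apply le_antisymm h.ED
            intro x hx
            obtain ⟨y, hy, hyx⟩ := h6 ⟨x, hx, rfl⟩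
            have : y = x := Subtype.ext hyx
            rwa [← this]
          obtain ⟨⟨x, hxT⟩, hx⟩ := h2.exists_generator
          have hxD' : x ∈ D' := (H22.Basic.commutator_le_left hAD') hxT
          obtain ⟨x, hxD, rfl⟩ := hxD'
          have hTz : ⁅D', A⁆ = zpowers (x : G) := by
            ext y
            constructor
            · intro hy
              obtain ⟨k, hk⟩ := mem_zpowers_iff.1 (hx ⟨y, hy⟩)
              exact mem_zpowers_iff.2 ⟨k, congrArg Subtype.val hk⟩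
            · intro hy
              exact (zpowers_le.2 hxT) hy
          have hxE : x ∉ E := by
            intro hxE
            apply hT
            rw [hTz, zpowers_le]
            exact ⟨x, hxE, rfl⟩
          have hαx : ((al a x : R) : G) ∈ zpowers (x : G) := by
            rw [← hTz, hal]
            have := H22.Basic.right_le_normalizer_commutator D' A a.2
            exact (mem_normalizer_iff.1 this _).1 hxT
          obtain ⟨i, hi⟩ := mem_powers_iff_mem_zpowers.2 hαx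
          have hi' : al a x = x ^ i := by
            apply Subtype.ext
            rw [← hi]; rfl
          exact (h.eig_cyclic hR (al a) hs hsL hw hwE he cw hxD hxE hi').1
        · push Not at hC
          obtain ⟨y, hy, hyE⟩ := hC
          obtain ⟨y, hyD, rfl⟩ := (mem_inf.1 hy).1
          have hyE' : y ∉ E := fun hh => hyE ⟨y, hh, rfl⟩
          have hfix : al a y = y := by
            apply Subtype.ext
            rw [hal]
            have := mem_centralizer_iff.1 (mem_inf.1 hy).2 a a.2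
            show (a : G) * y * (a : G)⁻¹ = y
            have e1 : (a : G) * y = y * a := this
            rw [e1]; group
          exact (h.eig_cyclic hR (al a) hs hsL hw hwE he cw hyD hyE' (i := 1) (by rw [hfix, pow_one])).1
      obtain ⟨u, hu, hu1, hup, hau⟩ := hu
      exact h.act_triv (al a) hAodd hpow hw hwE he cw hu hu1 hup hau
    -- now [R, A] ≤ D
    have hle : R ≤ D' := by
      conv_lhs => rw [← hRA]
      rw [commutator_le]
      intro r hr' a ha
      obtain ⟨t, ht, d, hd, hrt⟩ := h.gen2 ⟨r, hr'⟩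
      have h1 := key2 ⟨a, ha⟩ t ht
      -- r * (a r⁻¹ a⁻¹) 
      have h2 : (⟨r, hr'⟩ : R) * (al ⟨a, ha⟩ ⟨r, hr'⟩)⁻¹ ∈ D := by
        rw [hrt, map_mul, mul_inv_rev]
        have e1 : t * d * ((al ⟨a, ha⟩ d)⁻¹ * (al ⟨a, ha⟩ t)⁻¹)
            = t * ((d * (al ⟨a, ha⟩ d)⁻¹) * (t⁻¹ * al ⟨a, ha⟩ t)⁻¹) * t⁻¹ := by group
        rw [e1]
        apply hDn.conj_mem
        refine mul_mem (mul_mem hd (inv_mem ((mem_of_char h.Dch _).2 hd))) (inv_mem ?_)
        rw [← h.DS] at h1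
        exact (mem_inf.1 h1).1
      have e2 : ⁅r, a⁆ = (((⟨r, hr'⟩ : R) * (al ⟨a, ha⟩ ⟨r, hr'⟩)⁻¹ : R) : G) := by
        rw [commutatorElement_def]
        show r * a * r⁻¹ * a⁻¹ = r * (a * r * a⁻¹)⁻¹
        group
      rw [e2]
      exact ⟨_, h2, rfl⟩
    obtain ⟨y, hy, hys⟩ := hle s.2
    have : y = s := Subtype.ext hys
    rw [this] at hy
    apply hsL
    rw [← h.DS]
    exact mem_inf.2 ⟨hy, hs⟩
  -- conclusion
  have hcen : (center S).map S.subtype = S ⊓ centralizer (S : Set R) := by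
    ext x
    constructor
    · rintro ⟨x, hx, rfl⟩
      refine mem_inf.2 ⟨x.2, ?_⟩
      rw [mem_centralizer_iff]
      intro y hy
      exact congrArg Subtype.val (mem_center_iff.1 hx ⟨y, hy⟩)
    · intro hx
      exact ⟨⟨x, (mem_inf.1 hx).1⟩, mem_center_iff.2 fun y => Subtype.ext (mem_centralizer_iff.1 (mem_inf.1 hx).2 y y.2), rfl⟩
  have h10 := Cfsg.Agent.S0110.result hR S hex (by
    rw [commutator_le]
    intro g _ s hs
    rw [← hcen]
    exact comm_symm_mem (hcl s hs g))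
  set R₁ : Subgroup G := S.map R.subtype with hR₁
  set R₂ : Subgroup G := (centralizer (S : Set R)).map R.subtype with hR₂
  have hZc : Nat.card ↥((center S).map S.subtype) = p := by
    rw [card_map_of_injective S.subtype_injective, hex.2]
  have hR₂p : IsPGroup p R₂ := hR.to_le (map_subtype_le _)
  have hom : ∀ x ∈ R₂, x ^ p = 1 → x ∈ ((center S).map S.subtype).map R.subtype := by
    rintro _ ⟨x, hx, rfl⟩ hxp
    refine ⟨x, ?_, rfl⟩
    rw [hcen]
    exact mem_inf.2 ⟨(hS x).2 (Subtype.ext hxp), hx⟩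
  refine ⟨R₁, R₂, ?_, ?_, ?_, ?_, ?_, ?_, ?_⟩
  · rw [hR₁, hR₂, ← Subgroup.map_sup, h10, ← MonoidHom.range_eq_map, range_subtype]
  · rintro _ ⟨x, hx, rfl⟩ _ ⟨y, hy, rfl⟩
    exact congrArg Subtype.val (mem_centralizer_iff.1 hy x hx)
  · intro hc
    obtain ⟨x, y, hxy⟩ := hSn
    apply hxy
    have := congrArg Subtype.val (hc.is_comm.comm (⟨((x : R) : G), ⟨x, x.2, rfl⟩⟩ : R₁) ⟨((y : R) : G), ⟨y, y.2, rfl⟩⟩)
    exact Subtype.ext (Subtype.ext this)
  · rw [hR₁, card_map_of_injective R.subtype_injective, hSc]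
  · apply Nat.dvd_antisymm
    · apply Monoid.exponent_dvd_of_forall_pow_eq_one
      rintro ⟨_, ⟨x, hx, rfl⟩⟩
      apply Subtype.ext
      show (x : G) ^ p = 1
      have := congrArg Subtype.val ((hS x).1 hx)
      exact this
    · have : Nontrivial R₁ := by
        rw [← Finite.one_lt_card_iff_nontrivial, hR₁, card_map_of_injective R.subtype_injective, hSc]
        exact Nat.one_lt_pow (by norm_num) hpp.one_lt
      obtain ⟨x, hx⟩ := exists_ne (1 : R₁)
      have h1 : x ^ p = 1 := by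
        obtain ⟨y, hy, hyx⟩ := x.2
        apply Subtype.ext
        have := congrArg Subtype.val ((hS y).1 hy)
        have h2 : (y : G) ^ p = 1 := this
        have h3 : (y : G) = x := hyx
        rw [h3] at h2
        exact h2
      have h2 : orderOf x = p := by
        rcases (Nat.dvd_prime hpp).1 (orderOf_dvd_of_pow_eq_one h1) with h | h
        · exact absurd (orderOf_eq_one_iff.1 h) hx
        · exact h
      rw [← h2]
      exact Monoid.order_dvd_exponent x
  · apply PG.isCyclic_of_no_rank_two_int hp2 hR₂p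
    intro B hB hBc hBp
    rw [← hZc, ← card_map_of_injective R.subtype_injective]
    exact H22.Basic.card_le_of_le fun x hx => hom x (hB hx) (hBp x hx)
  · have h1 : (closure {x : G | x ∈ R₂ ∧ x ^ p = 1}) = ((center S).map S.subtype).map R.subtype := by
      apply le_antisymm
      · rw [closure_le]
        rintro x ⟨hx, hxp⟩
        exact hom x hx hxp
      · rintro _ ⟨x, hx, rfl⟩
        apply Subgroup.subset_closure
        rw [SetLike.mem_coe, hcen] at hx
        exact ⟨⟨x, (mem_inf.1 hx).2, rfl⟩, congrArg Subtype.val ((hS x).1 (mem_inf.1 hx).1)⟩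
    have h2 : (commutator S).map S.subtype = ⁅S, S⁆ := by
      rw [_root_.commutator_def, map_commutator, ← MonoidHom.range_eq_map, range_subtype]
    rw [h1, ← hex.1.2.2, h2, hR₁, map_commutator]

end Cfsg.Agent.H12.R416
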