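import Mathlib
import Cfsg.Agent.H12_BG10i
import Cfsg.Agent.H12_R416

/-! BG 10.7(b) -/

set_option autoImplicit false
set_option linter.unusedSectionVars false

open Pointwise
open scoped commutatorElement

namespace Cfsg.Agent.H12.BG10

open Cfsg Subgroup H13.Syl H12.Loc H12.Trans H12.BG7 H12.Puig H12.BG9

universe u

variable {G : Type u} [Group G] [Finite G]

theorem exists_compl_sylow {p : ℕ} [hp : Fact p.Prime] {P N : Subgroup G} (hP : IsSylIn p P N) (hn : N ≤ normalizer (P : Set G)) :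
    ∃ V : Subgroup G, IsComplIn P V N ∧ (Nat.card V).Coprime p := by
  have hcop : (Nat.card P).Coprime (P.relIndex N) := by
    obtain ⟨n, hn⟩ := IsPGroup.iff_card.1 hP.isPGroup
    rw [hn]
    exact Nat.Coprime.pow_left _ ((Nat.Prime.coprime_iff_not_dvd hp.out).2 hP.not_dvd)
  obtain ⟨V, hVN, hVc, hVP, hsup⟩ := H1.Coprime.sz_exists hP.le hn hcop
  refine ⟨V, ⟨hP.le, hVN, by rw [inf_comm]; exact hVP, ?_⟩, ?_⟩
  · intro m hm
    rw [← hsup, sup_comm] at hm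
    obtain ⟨a, ha, b, hb, he⟩ := (H22.Basic.mem_sup_of_le_normalizer (hVN.trans hn)).1 hm
    exact ⟨a, ha, b, hb, he.symm⟩
  · rw [hVc]
    exact Nat.Coprime.symm ((Nat.Prime.coprime_iff_not_dvd hp.out).2 hP.not_dvd)

theorem center_of_cube {p : ℕ} [hp : Fact p.Prime] {P₁ : Subgroup G} (hc : Nat.card P₁ = p ^ 3) (hn : ¬ IsMulCommutative P₁) :
    ⁅P₁, P₁⁆ = P₁ ⊓ centralizer (P₁ : Set G) ∧ Nat.card ↥⁅P₁, P₁⁆ = p := by
  have hn' : ∃ x y : P₁, x * y ≠ y * x := by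
    by_contra h
    push Not at h
    exact hn ⟨⟨h⟩⟩
  have hex := H1.FusZ.extraspecial_of_cube hc hn'
  have hcen : (center P₁).map P₁.subtype = P₁ ⊓ centralizer (P₁ : Set G) := by
    ext x
    constructor
    · rintro ⟨x, hx, rfl⟩
      refine mem_inf.2 ⟨x.2, ?_⟩
      rw [mem_centralizer_iff]
      intro y hy
      exact congrArg Subtype.val (mem_center_iff.1 hx ⟨y, hy⟩)
    · intro hx
      exact ⟨⟨x, (mem_inf.1 hx).1⟩, mem_center_iff.2 fun y => Subtype.ext (mem_centralizer_iff.1 (mem_inf.1 hx).2 y y.2), rfl⟩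
  have h2 : (commutator P₁).map P₁.subtype = ⁅P₁, P₁⁆ := by
    rw [_root_.commutator_def, map_commutator, ← MonoidHom.range_eq_map, range_subtype]
  constructor
  · rw [← hcen, ← hex.1.2.2, h2]
  · rw [← h2, card_map_of_injective P₁.subtype_injective, hex.1.2.2, hex.2]

/-- BG 10.7(b) -/
theorem thm107b (hG : IsMinSimpleOddOrder G) {p : ℕ} [hp : Fact p.Prime] {P : Subgroup G} (hP : IsSylIn p P ⊤) (hr : PRankLE p 2 P) :
    IsMulCommutative P ∨ ∃ P₁ P₂ : Subgroup G, P₁ ⊔ P₂ = P ∧ (∀ a ∈ P₁, ∀ b ∈ P₂, a * b = b * a) ∧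
        ¬ IsMulCommutative P₁ ∧ Nat.card P₁ = p ^ 3 ∧ Monoid.exponent P₁ = p ∧ IsCyclic P₂ ∧
        Subgroup.closure {x : G | x ∈ P₂ ∧ x ^ p = 1} = P₁ ⊓ Subgroup.centralizer (P₁ : Set G) := by
  by_cases hPb : P = ⊥
  · left
    rw [hPb]; infer_instance
  have hp2 : p ≠ 2 := prime_ne_two hG (dvd_card_of_le (X := ⊤) hP.isPGroup hPb le_top |>.trans (by rw [card_top]))
  obtain ⟨V, hV, hVp⟩ := exists_compl_sylow (hP.mono le_normalizer le_top) le_rfl
  have h1 := thm107a hG hP hV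
  obtain ⟨-, h2⟩ := R416.thm416 p hp2 P V hP.isPGroup hPb hr hV.2.1 hVp (odd_card_subgroup hG V) h1.symm
  rcases h2 with h2 | ⟨P₁, P₂, h3, h4, h5, h6, h7, h8, h9⟩
  · exact Or.inl h2
  · refine Or.inr ⟨P₁, P₂, h3, h4, h5, h6, h7, h8, ?_⟩
    rw [h9]
    exact (center_of_cube h6 h5).1

end Cfsg.Agent.H12.BG10
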