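import Mathlib
import Cfsg.Agent.H12_BG107b

/-! BG 10.12, 10.13 -/

set_option autoImplicit false
set_option linter.unusedSectionVars false

open Pointwise
open scoped commutatorElement

namespace Cfsg.Agent.H12.BG10

open Cfsg Subgroup H13.Syl H12.Loc H12.Trans H12.BG7 H12.Puig H12.BG9

universe u

variable {G : Type u} [Group G] [Finite G]

theorem comm_mono {H K : Subgroup G} (h : H ≤ K) (hK : IsMulCommutative K) : IsMulCommutative H := by
  refine ⟨⟨fun a b => Subtype.ext ?_⟩⟩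
  have h1 := hK.is_comm.comm (⟨a, h a.2⟩ : K) ⟨b, h b.2⟩
  have h2 : (a : G) * b = b * a := congrArg Subtype.val h1
  exact h2

/-- BG 10.12, common part -/
theorem sigma_common (hG : IsMinSimpleOddOrder G) {M H : Subgroup G} (hM : IsCoatom M) (hH : IsCoatom H)
    (hne : ∀ g : G, H ≠ cj g M) {p : ℕ} (hpM : p ∈ sigma M) (hpH : p ∈ sigma H) :
    p ∉ alpha M ∧ ¬ Group.IsNilpotent (sigmaCore M) := by
  have hp := (sigma_spec hpM).1
  have : Fact p.Prime := ⟨hp⟩
  obtain ⟨P, hP⟩ := exists_isSylIn (p := p) M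
  obtain ⟨Q, hQ⟩ := exists_isSylIn (p := p) H
  have hPM1 : IsSylIn p P (cj 1 M) := by rw [cj_one]; exact hP
  have hQH1 : IsSylIn p Q (cj 1 H) := by rw [cj_one]; exact hQ
  obtain ⟨hPt, hPN⟩ := sylow_conj hpM hPM1
  rw [cj_one] at hPN
  obtain ⟨hQt, -⟩ := sylow_conj hpH hQH1
  obtain ⟨x, -, hx⟩ := hPt.exists_conj_eq hQt
  have hPH : IsSylIn p P (cj x H) := by
    rw [← hx]; exact hQ.cj x
  obtain ⟨-, hPNH⟩ := sylow_conj hpH hPH
  have hneq : cj x H ≠ M := by
    intro h
    apply hne x⁻¹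
    rw [← h, cj_inv_cj]
  have hHx : IsCoatom (cj x H) := isCoatom_cj hH x
  constructor
  · intro ha
    have hr : ¬ PRankLE p 2 P := fun hr => ha.2 (pRankLE_of_isSylIn hP hr)
    exact hneq ((normalizer_le_of_rank hG hM hP.isPGroup hP.le hr).2 _ hHx hPH.le)
  · intro hnil
    have hPσ : IsSylIn p P (sigmaCore M) := hP.mono (sylow_le_sigmaCore hG hM hpM hP) (sigmaCore_le M)
    have hn := normal_of_nilpotent_sylow (sigmaCore_le M) (le_normalizer_sigmaCore M) hnil hPσ
    have hle : M ≤ cj x H := hn.trans hPNH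
    rcases hM.le_iff.1 hle with h | h
    · exact hHx.1 h
    · exact hneq h

/-- BG 10.12(a) -/
theorem thm1012a (hG : IsMinSimpleOddOrder G) {M H : Subgroup G} (hM : IsCoatom M) (hH : IsCoatom H)
    (hne : ∀ g : G, H ≠ cj g M) : (∀ p, p ∈ alpha M → p ∉ sigma H) ∧ alphaCore M ⊓ sigmaCore H = ⊥ := by
  have h1 : ∀ p, p ∈ alpha M → p ∉ sigma H := fun p hp hp' =>
    (sigma_common hG hM hH hne (alpha_subset_sigma hG hM hp) hp').1 hp
  refine ⟨h1, ?_⟩
  apply Hall.inf_eq_bot (π := alpha M)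
  · exact Core.piCoreOf_piNum (alpha M) M
  · intro p hp hpd
    have := Core.piCoreOf_piNum (sigma H) H p hp hpd
    exact fun h => h1 p h this

/-- BG 10.12(b) -/
theorem thm1012b (hG : IsMinSimpleOddOrder G) {M H : Subgroup G} (hM : IsCoatom M) (hH : IsCoatom H)
    (hne : ∀ g : G, H ≠ cj g M) (hnil : Group.IsNilpotent (sigmaCore M)) :
    (∀ p, p ∈ sigma M → p ∉ sigma H) ∧ sigmaCore M ⊓ sigmaCore H = ⊥ := by
  have h1 : ∀ p, p ∈ sigma M → p ∉ sigma H := fun p hp hp' => (sigma_common hG hM hH hne hp hp').2 hnil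
  refine ⟨h1, ?_⟩
  apply Hall.inf_eq_bot (π := sigma M)
  · exact Core.piCoreOf_piNum (sigma M) M
  · intro p hp hpd
    have := Core.piCoreOf_piNum (sigma H) H p hp hpd
    exact fun h => h1 p h this

theorem alpha_cj {M : Subgroup G} (g : G) (p : ℕ) : p ∈ alpha (cj g M) ↔ p ∈ alpha M := by
  have key : ∀ (g : G) (M : Subgroup G), p ∈ alpha M → p ∈ alpha (cj g M) := by
    rintro g M ⟨hp, hr⟩
    refine ⟨hp, fun h => hr ?_⟩
    exact SCN.pRankLE_of_injective (H22.Basic.cjEquiv g M).toMonoidHom (H22.Basic.cjEquiv g M).injective h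
  constructor
  · intro h
    have := key g⁻¹ _ h
    rwa [cj_inv_cj] at this
  · exact key g M

theorem sigma_cj {M : Subgroup G} (g : G) (p : ℕ) : p ∈ sigma (cj g M) ↔ p ∈ sigma M := by
  have key : ∀ (g : G) (M : Subgroup G), p ∈ sigma M → p ∈ sigma (cj g M) := by
    intro g M h
    obtain ⟨hp, hd, P, hP, hPt, hN⟩ := sigma_spec h
    have : Fact p.Prime := ⟨hp⟩
    refine sigma_of_normalizer hp (by rw [card_cj]; exact hd) (hP.cj g) ?_
    rw [← cj_normalizer]
    exact cj_mono hN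
  constructor
  · intro h
    have := key g⁻¹ _ h
    rwa [cj_inv_cj] at this
  · exact key g M

theorem sigmaCore_cj (M : Subgroup G) (g : G) : cj g (sigmaCore M) = sigmaCore (cj g M) := by
  have h1 := Core.conj_piCoreOf (sigma M) M g
  have h2 : sigma (cj g M) = sigma M := Set.ext fun p => sigma_cj g p
  have h3 : sigmaCore (cj g M) = piCoreOf (sigma M) (cj g M) := by
    show piCoreOf (sigma (cj g M)) (cj g M) = _
    rw [h2]
  rw [h3]
  exact h1

/-- a `p`-group acts trivially on a section of order `p` -/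
theorem comm_mem_of_prime {p : ℕ} [hp : Fact p.Prime] {N A Z : Subgroup G} (hN : IsPGroup p N) (hAN : A ≤ N) (hZA : Z ≤ A)
    (hA : N ≤ normalizer (A : Set G)) (hZ : N ≤ normalizer (Z : Set G)) (hc : Nat.card A = p * Nat.card Z) :
    ∀ a ∈ A, ∀ g ∈ N, ⁅a, g⁆ ∈ Z := by
  have hA' : (A.subgroupOf N).Normal := Core.normal_subgroupOf_of_le hA
  have hZ' : (Z.subgroupOf N).Normal := Core.normal_subgroupOf_of_le hZ
  set q := QuotientGroup.mk' (Z.subgroupOf N) with hq
  have hQ : IsPGroup p (N ⧸ Z.subgroupOf N) := hN.to_quotient _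
  have hn : ((A.subgroupOf N).map q).Normal := Subgroup.Normal.map hA' _ (QuotientGroup.mk'_surjective _)
  have hcard : Nat.card ((A.subgroupOf N).map q) ≤ p := by
    have h1 : (Z.subgroupOf N).relIndex (A.subgroupOf N) = Nat.card ((A.subgroupOf N).map q) := by
      have h := Subgroup.relIndex_ker (A.subgroupOf N) q
      rw [hq, QuotientGroup.ker_mk'] at h
      exact h
    have h2 : Nat.card (Z.subgroupOf N) * (Z.subgroupOf N).relIndex (A.subgroupOf N) = Nat.card (A.subgroupOf N) :=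
      H22.Basic.card_mul_relIndex (fun x hx => mem_subgroupOf.2 (hZA (mem_subgroupOf.1 hx)))
    rw [h1, H22.Basic.card_subgroupOf_eq (hZA.trans hAN), H22.Basic.card_subgroupOf_eq hAN, hc, mul_comm p] at h2
    exact (Nat.eq_of_mul_eq_mul_left Nat.card_pos h2).le
  have hcen := H2.Rank2.le_center_of_card_le hQ hn hcard
  intro a ha g hg
  have h2 := mem_center_iff.1 (hcen ⟨⟨a, hAN ha⟩, mem_subgroupOf.2 ha, rfl⟩) (q ⟨g, hg⟩)
  have h3 : q ⁅(⟨a, hAN ha⟩ : N), ⟨g, hg⟩⁆ = 1 := by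
    rw [map_commutatorElement, commutatorElement_eq_one_iff_mul_comm]
    exact h2.symm
  exact mem_subgroupOf.1 ((QuotientGroup.eq_one_iff _).1 h3)

theorem card_of_le_sq {p : ℕ} [hp : Fact p.Prime] {A B : Subgroup G} (hA : Nat.card A = p ^ 2) (hBA : B ≤ A) (hne : B ≠ A) (hb : B ≠ ⊥) :
    Nat.card B = p := by
  have h1 : Nat.card B ∣ p ^ 2 := hA ▸ card_dvd_of_le hBA
  obtain ⟨k, hk, hk2⟩ := (Nat.dvd_prime_pow hp.out).1 h1
  have h2 : k ≠ 2 := by
    rintro rfl
    apply hne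
    exact Subgroup.eq_of_le_of_card_ge hBA (by rw [hA, hk2])
  have h3 : k ≠ 0 := by
    rintro rfl
    rw [pow_zero] at hk2
    exact hb (eq_bot_of_card_eq _ hk2)
  have : k = 1 := by omega
  rw [hk2, this, pow_one]

theorem card_inf_le {p : ℕ} [hp : Fact p.Prime] {A B : Subgroup G} (hA : Nat.card A = p ^ 2) (h : ¬ A ≤ B) : Nat.card ↥(A ⊓ B) ≤ p := by
  by_cases hb : A ⊓ B = ⊥
  · rw [hb, card_bot]; exact hp.out.pos
  · exact (card_of_le_sq hA inf_le_left (fun h' => h (inf_eq_left.1 h')) hb).le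

theorem cs_struct (hG : IsMinSimpleOddOrder G) {p : ℕ} [hp : Fact p.Prime] {S A : Subgroup G} (hS : IsSylIn p S ⊤) (h : E2Max p A)
    (hAS : A ≤ S) (hn : ¬ IsMulCommutative S) : ∃ Y : Subgroup G, IsCyclic Y ∧ Y ≤ S ∧ Nat.card (OZ p S) = p ∧ OZ p S ≤ A ∧
      A ⊓ Y = OZ p S ∧ Y ≤ centralizer (A : Set G) ∧ S ⊓ centralizer (A : Set G) ≤ A ⊔ Y := by
  have hpp := hp.out
  have hp2 : p ≠ 2 := prime_ne_two hG (dvd_of_card_sq h.card)
  have hOZA : OZ p S ≤ A := fun x hx => h.mem (centralizer_le hAS hx.2.1) hx.2.2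
  by_cases hr : PRankLE p 2 S
  · rcases thm107b hG hS hr with hc | ⟨P₁, P₂, h1, h2, h3, h4, h5, h6, h7⟩
    · exact absurd hc hn
    have hP₁S : P₁ ≤ S := h1 ▸ le_sup_left
    have hP₂S : P₂ ≤ S := h1 ▸ le_sup_right
    have hP₂c : P₂ ≤ centralizer (P₁ : Set G) := by
      intro b hb
      rw [mem_centralizer_iff]
      exact fun a ha => h2 a ha b hb
    have hmem : ∀ x : G, x ∈ S ↔ ∃ a ∈ P₁, ∃ b ∈ P₂, a * b = x := by
      intro x
      rw [← h1]
      exact Narrow.mem_sup_of_le_centralizer hP₂c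
    have hP₂ab : ∀ a ∈ P₂, ∀ b ∈ P₂, a * b = b * a := H2.Rank2.comm_of_cyclic h6
    obtain ⟨h8, h9⟩ := center_of_cube h4 h3
    set Z := P₁ ⊓ centralizer (P₁ : Set G) with hZ
    have hZc : Nat.card Z = p := by rw [← h8]; exact h9
    have hZP₂ : Z ≤ P₂ := by
      rw [← h7, closure_le]
      exact fun x hx => hx.1
    have hexp : ∀ a ∈ P₁, a ^ p = 1 := by
      intro a ha
      have := Monoid.pow_exponent_eq_one (⟨a, ha⟩ : P₁)
      rw [h5] at this
      exact congrArg Subtype.val this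
    have hom : ∀ x ∈ S, x ^ p = 1 → x ∈ P₁ := by
      intro x hx hxp
      obtain ⟨a, ha, b, hb, rfl⟩ := (hmem x).1 hx
      have hc : Commute a b := h2 a ha b hb
      rw [hc.mul_pow, hexp a ha, one_mul] at hxp
      have : b ∈ Z := by
        rw [← h7]
        exact Subgroup.subset_closure ⟨hb, hxp⟩
      exact mul_mem ha (mem_inf.1 this).1
    have hAP₁ : A ≤ P₁ := fun x hx => hom x (hAS hx) (h.ea.2 x hx)
    have hZcen : Z ≤ centralizer (S : Set G) := by
      intro z hz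
      rw [mem_centralizer_iff]
      intro y hy
      obtain ⟨a, ha, b, hb, rfl⟩ := (hmem y).1 hy
      have e1 : Commute a z := mem_centralizer_iff.1 (mem_inf.1 hz).2 a ha
      have e2 : Commute b z := hP₂ab b hb z (hZP₂ hz)
      exact (e1.mul_left e2).eq
    have hOZ : OZ p S = Z := by
      apply le_antisymm
      · intro x hx
        exact mem_inf.2 ⟨hom x hx.1 hx.2.2, centralizer_le hP₁S hx.2.1⟩
      · intro z hz
        exact ⟨hP₁S (mem_inf.1 hz).1, hZcen hz, hexp z (mem_inf.1 hz).1⟩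
    have hAc : IsMulCommutative A := h.ea.1
    have hCA : P₁ ⊓ centralizer (A : Set G) = A := by
      by_contra hne
      have hle : A ≤ P₁ ⊓ centralizer (A : Set G) := le_inf hAP₁ (le_centralizer A)
      have h10 : P₁ ⊓ centralizer (A : Set G) = P₁ := by
        have hlt := H22.Basic.card_lt_of_lt (lt_of_le_of_ne hle (Ne.symm hne))
        have hd : Nat.card ↥(P₁ ⊓ centralizer (A : Set G)) ∣ p ^ 3 := h4 ▸ card_dvd_of_le inf_le_left
        obtain ⟨k, hk, hk2⟩ := (Nat.dvd_prime_pow hpp).1 hd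
        rw [h.card, hk2] at hlt
        have h11 := (Nat.pow_lt_pow_iff_right hpp.one_lt).1 hlt
        have h12 : k = 3 := by omega
        apply Subgroup.eq_of_le_of_card_ge inf_le_left
        rw [h4, hk2, h12]
      have h11 : A ≤ Z := le_inf hAP₁ (le_centralizer_iff.1 (inf_eq_left.1 h10))
      have h12 := H22.Basic.card_le_of_le h11
      rw [hZc, h.card] at h12
      nlinarith [hpp.two_le]
    refine ⟨P₂, h6, hP₂S, by rw [hOZ, hZc], hOZA, ?_, hP₂c.trans (centralizer_le hAP₁), ?_⟩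
    · rw [hOZ]
      apply le_antisymm
      · intro x hx
        rw [← h7]
        exact Subgroup.subset_closure ⟨(mem_inf.1 hx).2, h.ea.2 x (mem_inf.1 hx).1⟩
      · exact le_inf (hOZ ▸ hOZA) hZP₂
    · intro x hx
      obtain ⟨a, ha, b, hb, rfl⟩ := (hmem x).1 (mem_inf.1 hx).1
      have h10 : a ∈ A := by
        rw [← hCA]
        refine mem_inf.2 ⟨ha, ?_⟩
        have hb' : b ∈ centralizer (A : Set G) := (hP₂c.trans (centralizer_le hAP₁)) hb
        have := mul_mem (mem_inf.1 hx).2 (inv_mem hb')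
        rwa [mul_inv_cancel_right] at this
      exact mul_mem ((le_sup_left : A ≤ A ⊔ P₂) h10) ((le_sup_right : P₂ ≤ A ⊔ P₂) hb)
  · set E := A.subgroupOf S with hE
    have hEmap : E.map S.subtype = A := H22.Basic.map_subtype_subgroupOf hAS
    have hEe : IsElementaryAbelian p E := by
      have := h.ea.1
      refine ⟨inferInstance, fun x hx => Subtype.ext (h.ea.2 x (mem_subgroupOf.1 hx))⟩
    have hE2 : Nat.card E = p ^ 2 := by rw [hE, H22.Basic.card_subgroupOf_eq hAS, h.card]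
    have hEmax : ∀ B : Subgroup S, IsElementaryAbelian p B → E ≤ B → B = E := by
      intro B hB hEB
      apply Subgroup.map_injective S.subtype_injective
      rw [hEmap]
      apply h.max
      · have := hB.1
        refine ⟨inferInstance, ?_⟩
        rintro _ ⟨x, hx, rfl⟩
        rw [← map_pow, hB.2 x hx, map_one]
      · rw [← hEmap]; exact Subgroup.map_mono hEB
    obtain ⟨h1, h2, -, h3, h4⟩ := Narrow.main hp2 hS.isPGroup hr E hEe hE2 hEmax
    set T := Subgroup.centralizer ((Subgroup.closure {x : S | x ∈ Subgroup.upperCentralSeries S 2 ∧ x ^ p = 1} : Subgroup S) : Set S) with hT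
    set T' := T.map S.subtype with hT'
    have hT'S : T' ≤ S := map_subtype_le _
    have hAT : ¬ A ≤ T' := by
      intro hle
      apply h1
      intro x hx
      obtain ⟨y, hy, hyx⟩ := hle (mem_subgroupOf.1 hx)
      have : y = x := Subtype.ext hyx
      rwa [← this]
    have hOZc : Nat.card (OZ p S) = p := by
      have e : OZ p S = (Subgroup.closure {x : S | x ∈ Subgroup.center S ∧ x ^ p = 1}).map S.subtype := by
        ext x
        constructor
        · intro hx
          refine ⟨⟨x, hx.1⟩, Narrow.mem_Z.2 ⟨mem_center_iff.2 fun y => Subtype.ext (mem_centralizer_iff.1 hx.2.1 y y.2), Subtype.ext hx.2.2⟩, rfl⟩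
        · rintro ⟨y, hy, rfl⟩
          obtain ⟨h5, h6⟩ := Narrow.mem_Z.1 hy
          refine ⟨y.2, ?_, congrArg Subtype.val h6⟩
          show (y : G) ∈ centralizer (S : Set G)
          rw [mem_centralizer_iff]
          intro z hz
          exact congrArg Subtype.val (mem_center_iff.1 h5 ⟨z, hz⟩)
      rw [e, card_map_of_injective S.subtype_injective, h2]
    have hOZT : OZ p S ≤ T' := by
      intro x hx
      refine ⟨⟨x, hx.1⟩, ?_, rfl⟩
      rw [SetLike.mem_coe, hT, mem_centralizer_iff]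
      intro y _
      exact Subtype.ext (mem_centralizer_iff.1 hx.2.1 y y.2)
    have hOZC : OZ p S ≤ centralizer (A : Set G) := fun x hx => centralizer_le hAS hx.2.1
    set Y := T' ⊓ centralizer (A : Set G) with hY
    have hYS : Y ≤ S := inf_le_left.trans hT'S
    refine ⟨Y, ?_, hYS, hOZc, hOZA, ?_, inf_le_right, ?_⟩
    · apply PG.isCyclic_of_no_rank_two_int hp2 (hS.isPGroup.to_le hYS)
      intro B hB hBc hBp
      have h5 : B ≤ A ⊓ T' := fun b hb => mem_inf.2 ⟨h.mem (mem_inf.1 (hB hb)).2 (hBp b hb), (mem_inf.1 (hB hb)).1⟩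
      exact (H22.Basic.card_le_of_le h5).trans (card_inf_le h.card hAT)
    · symm
      apply Subgroup.eq_of_le_of_card_ge (le_inf hOZA (le_inf hOZT hOZC))
      rw [hOZc]
      refine (H22.Basic.card_le_of_le ?_).trans (card_inf_le h.card hAT)
      exact inf_le_inf_left _ inf_le_left
    · obtain ⟨a, ha, haT⟩ : ∃ a ∈ A, a ∉ T' := by
        by_contra hh
        push Not at hh
        exact hAT hh
      have hTn : T.Normal := by have := h3; infer_instance
      intro x hx
      have h5 : Nat.card (⊤ : Subgroup S) = p * Nat.card T := by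
        rw [card_top, ← T.card_mul_index, h4, mul_comm]
      obtain ⟨i, t, ht, he⟩ := R416.exists_pow_mul (X := (⊤ : Subgroup S)) (Y := T) le_top
        (by rw [normalizer_eq_top]) h5 (s := ⟨a, hAS ha⟩) (mem_top _) (fun hh => haT ⟨_, hh, rfl⟩) ⟨x, (mem_inf.1 hx).1⟩ (mem_top _)
      have he' : x = a ^ i * t := congrArg Subtype.val he
      have hAc : IsMulCommutative A := h.ea.1
      have h6 : (t : G) ∈ Y := by
        refine mem_inf.2 ⟨⟨t, ht, rfl⟩, ?_⟩
        have h7 : a ^ i ∈ centralizer (A : Set G) := pow_mem (le_centralizer A ha) i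
        have h8 := mul_mem (inv_mem h7) (mem_inf.1 hx).2
        rw [he'] at h8
        have e : (a ^ i)⁻¹ * (a ^ i * (t : G)) = t := by group
        rwa [e] at h8
      rw [he']
      exact mul_mem ((le_sup_left : A ≤ A ⊔ Y) (pow_mem ha i)) ((le_sup_right : Y ≤ A ⊔ Y) h6)

/-- BG 10.13 -/
theorem thm1013 (hG : IsMinSimpleOddOrder G) {p : ℕ} [hp : Fact p.Prime] {P A : Subgroup G} (hP : IsPGroup p P) (h : E2Max p A)
    (hAP : A ≤ P) (hn : ¬ IsMulCommutative P) : Nat.card (OZ p P) = p ∧ OZ p P ≤ A ∧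
      (∃ Y : Subgroup G, IsCyclic Y ∧ Y ≤ P ∧ OZ p P ≤ Y ∧ Y ≤ centralizer (A : Set G) ∧ ∀ A₀ : Subgroup G, A₀ ≤ A → Nat.card A₀ = p →
        A₀ ≠ OZ p P → A₀ ⊓ Y = ⊥ ∧ A₀ ⊔ Y = P ⊓ centralizer (A : Set G)) ∧
      ∀ A₀ A₁ : Subgroup G, A₀ ≤ A → A₁ ≤ A → Nat.card A₀ = p → Nat.card A₁ = p → A₀ ≠ OZ p P → A₁ ≠ OZ p P →
        ∃ g ∈ P ⊓ normalizer (A : Set G), cj g A₀ = A₁ := by
  have hpp := hp.out
  have hAc : IsMulCommutative A := h.ea.1
  obtain ⟨S, hPS, hS⟩ := exists_isSylIn_ge (p := p) (H := ⊤) hP le_top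
  have hSn : ¬ IsMulCommutative S := by
    intro hc
    apply hn
    exact comm_mono hPS hc
  obtain ⟨Y, hYc, hYS, hZc, hZA, hAY, hYA, hCS⟩ := cs_struct hG hS h (hAP.trans hPS) hSn
  have hZY : OZ p S ≤ Y := hAY ▸ inf_le_right
  have hOZA : OZ p P ≤ A := fun x hx => h.mem (centralizer_le hAP hx.2.1) hx.2.2
  have hle : OZ p S ≤ OZ p P := fun x hx => ⟨hAP (hZA hx), centralizer_le hPS hx.2.1, hx.2.2⟩
  -- P ⊓ C(A) = A ⊔ (P ⊓ Y) is abelian
  have hYab : IsMulCommutative Y := inferInstance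
  have hsup : IsMulCommutative ↥(A ⊔ Y) := by
    rw [sup_comm]
    exact Narrow.closure_comm_le hYA hYab hAc
  have hPC : P ⊓ centralizer (A : Set G) ≤ A ⊔ Y := (inf_le_inf_right _ hPS).trans hCS
  have hPne : ¬ P ≤ centralizer (A : Set G) := by
    intro hh
    apply hn
    have h1 : P ≤ A ⊔ Y := (le_inf le_rfl hh).trans hPC
    exact comm_mono h1 hsup
  have hOZne : OZ p P ≠ A := by
    intro he
    apply hPne
    rw [le_centralizer_iff, ← he]
    exact fun x hx => hx.2.1
  have hOZb : OZ p P ≠ ⊥ := by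
    intro hb
    rw [hb, le_bot_iff] at hle
    rw [hle, card_bot] at hZc
    exact hpp.one_lt.ne hZc
  have hOZc : Nat.card (OZ p P) = p := card_of_le_sq h.card hOZA hOZne hOZb
  have hZeq : OZ p S = OZ p P := Subgroup.eq_of_le_of_card_ge hle (by rw [hZc, hOZc])
  rw [hZeq] at hZc hZA hAY hZY
  -- A = A₀ ⊔ Z
  have hsplit : ∀ A₀ : Subgroup G, A₀ ≤ A → Nat.card A₀ = p → A₀ ≠ OZ p P → A₀ ⊓ OZ p P = ⊥ ∧ A₀ ⊔ OZ p P = A := by
    intro A₀ hA₀ hc hne
    have h1 : A₀ ⊓ OZ p P = ⊥ := by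
      by_contra hb
      have hd : Nat.card ↥(A₀ ⊓ OZ p P) ∣ p := hc ▸ card_dvd_of_le inf_le_left
      rcases (Nat.dvd_prime hpp).1 hd with h2 | h2
      · exact hb (eq_bot_of_card_eq _ h2)
      · have e1 : A₀ ⊓ OZ p P = A₀ := Subgroup.eq_of_le_of_card_ge inf_le_left (by rw [h2, hc])
        have e2 : A₀ ⊓ OZ p P = OZ p P := Subgroup.eq_of_le_of_card_ge inf_le_right (by rw [h2, hOZc])
        exact hne (e1.symm.trans e2)
    refine ⟨h1, ?_⟩
    apply Subgroup.eq_of_le_of_card_ge (sup_le hA₀ hOZA)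
    have h2 : OZ p P ≤ normalizer (A₀ : Set G) := by
      refine le_trans ?_ (centralizer_le_normalizer _)
      exact hOZA.trans ((le_centralizer A).trans (centralizer_le hA₀))
    rw [H22.Basic.card_sup_of_inf_eq_bot h2 h1, h.card, hc, hOZc, pow_two]
  refine ⟨hOZc, hOZA, ⟨P ⊓ Y, ?_, inf_le_left, le_inf (hOZA.trans hAP) hZY, inf_le_right.trans hYA, ?_⟩, ?_⟩
  · exact isCyclic_of_injective (inclusion (inf_le_right : P ⊓ Y ≤ Y)) (inclusion_injective _)
  · intro A₀ hA₀ hc hne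
    obtain ⟨h1, h2⟩ := hsplit A₀ hA₀ hc hne
    constructor
    · rw [eq_bot_iff, ← h1]
      refine le_inf inf_le_left ?_
      rw [← hAY]
      exact le_inf (inf_le_left.trans hA₀) (inf_le_right.trans inf_le_right)
    · apply le_antisymm
      · exact sup_le (le_inf (hA₀.trans hAP) (hA₀.trans (le_centralizer A))) (inf_le_inf_left _ hYA)
      · intro x hx
        have hYN : Y ≤ normalizer (A : Set G) := hYA.trans (centralizer_le_normalizer _)
        obtain ⟨a, ha, y, hy, rfl⟩ := (H22.Basic.mem_sup_of_le_normalizer hYN).1 (hPC hx)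
        have hyP : y ∈ P := by
          have := mul_mem (inv_mem (hAP ha)) (mem_inf.1 hx).1
          have e : a⁻¹ * (a * y) = y := by group
          rwa [e] at this
        refine mul_mem ?_ ((le_sup_right : P ⊓ Y ≤ A₀ ⊔ P ⊓ Y) (mem_inf.2 ⟨hyP, hy⟩))
        rw [← h2] at ha
        exact (sup_le_sup_left (le_inf (hOZA.trans hAP) hZY) A₀) ha
  · -- transitivity
    intro A₀ A₁ hA₀ hA₁ hc₀ hc₁ hne₀ hne₁
    obtain ⟨h1, h2⟩ := hsplit A₀ hA₀ hc₀ hne₀
    obtain ⟨h3, h4⟩ := hsplit A₁ hA₁ hc₁ hne₁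
    set B := P ⊓ centralizer (A : Set G) with hB
    have hBP : B < P := lt_of_le_of_ne inf_le_left (fun hh => hPne (inf_eq_left.1 hh))
    have hlt := lt_normalizer_of_lt hP hBP
    obtain ⟨g, hg, hgB⟩ := Set.exists_of_ssubset hlt
    have hgP : g ∈ P := (mem_inf.1 hg).1
    have hgN : g ∈ normalizer (B : Set G) := (mem_inf.1 hg).2
    have hgC : g ∉ centralizer (A : Set G) := fun hh => hgB (mem_inf.2 ⟨hgP, hh⟩)
    have hAB : A ≤ B := le_inf hAP (le_centralizer A)
    have hgA : g ∈ normalizer (A : Set G) := by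
      apply H22.Basic.mem_normalizer_of_cj_le
      intro x hx
      rw [H22.Basic.mem_cj] at hx
      have h5 : x ∈ B := by
        have := (mem_normalizer_iff.1 hgN _).1 (hAB hx)
        have e : g * (g⁻¹ * x * g) * g⁻¹ = x := by group
        rwa [e] at this
      refine h.mem (mem_inf.1 h5).2 ?_
      have h6 := h.ea.2 _ hx
      have e : x = g * (g⁻¹ * x * g) * g⁻¹ := by group
      rw [e, conj_pow, h6]; group
    -- a generator of A₀
    obtain ⟨a₀, ha₀, ha₀1⟩ := exists_ne_one (H := A₀) (fun hb => by rw [hb, card_bot] at hc₀; exact hpp.one_lt.ne hc₀)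
    have hN : IsPGroup p ↥(P ⊓ normalizer (A : Set G)) := hP.to_le inf_le_left
    have hZcent : ∀ z ∈ OZ p P, ∀ x ∈ P, x * z = z * x := fun z hz x hx => mem_centralizer_iff.1 hz.2.1 x hx
    have hcommZ := comm_mem_of_prime (N := P ⊓ normalizer (A : Set G)) (A := A) (Z := OZ p P) hN (le_inf hAP le_normalizer) hOZA inf_le_right
      (by
        refine (inf_le_left : _ ≤ P).trans (le_trans ?_ (centralizer_le_normalizer _))
        intro x hx
        rw [mem_centralizer_iff]
        intro z hz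
        exact (hZcent z hz x hx).symm) (by rw [h.card, hOZc, pow_two])
    set z := a₀⁻¹ * (g * a₀ * g⁻¹) with hz
    have hzZ : z ∈ OZ p P := by
      have h5 := hcommZ a₀⁻¹ (inv_mem (hA₀ ha₀)) g (mem_inf.2 ⟨hgP, hgA⟩)
      have e : z = ⁅a₀⁻¹, g⁆ := by rw [hz, commutatorElement_def]; group
      rw [e]; exact h5
    have hgz : g * a₀ * g⁻¹ = a₀ * z := by rw [hz]; group
    have hz1 : z ≠ 1 := by
      intro hh
      apply hgC
      -- g centralizes A₀ and Z
      rw [mem_centralizer_iff]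
      intro x hx
      have hx' : x ∈ A := hx
      rw [← h2] at hx'
      have hZN : OZ p P ≤ normalizer (A₀ : Set G) := by
        refine le_trans ?_ (centralizer_le_normalizer _)
        exact hOZA.trans ((le_centralizer A).trans (centralizer_le hA₀))
      obtain ⟨y, hy, w, hw, rfl⟩ := (H22.Basic.mem_sup_of_le_normalizer hZN).1 hx'
      have h5 : zpowers a₀ = A₀ := by
        apply Subgroup.eq_of_le_of_card_ge (zpowers_le.2 ha₀)
        rw [Nat.card_zpowers, hc₀]
        have h1 : orderOf a₀ ∣ p := by rw [← hc₀]; exact Subgroup.orderOf_dvd_natCard A₀ ha₀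
        rcases (Nat.dvd_prime hpp).1 h1 with h | h
        · exact absurd (orderOf_eq_one_iff.1 h) ha₀1
        · exact h.ge
      rw [← h5] at hy
      obtain ⟨n, rfl⟩ := mem_zpowers_iff.1 hy
      have c1 : Commute g a₀ := by
        have h6 : g * a₀ * g⁻¹ = a₀ := by rw [hgz, hh, mul_one]
        have : g * a₀ = a₀ * g := by
          calc g * a₀ = (g * a₀ * g⁻¹) * g := by group
            _ = a₀ * g := by rw [h6]
        exact this
      have c2 : Commute g w := hZcent w hw g hgP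
      exact ((c1.zpow_right n).mul_right c2).eq.symm
    -- b ∈ A₁ with b = a₀ * z^k
    have hZN₁ : OZ p P ≤ normalizer (A₁ : Set G) := by
      refine le_trans ?_ (centralizer_le_normalizer _)
      exact hOZA.trans ((le_centralizer A).trans (centralizer_le hA₁))
    obtain ⟨b, hb, w, hw, hbw⟩ := (H22.Basic.mem_sup_of_le_normalizer hZN₁).1 (by rw [h4]; exact hA₀ ha₀ : a₀ ∈ A₁ ⊔ OZ p P)
    have hzz : zpowers z = OZ p P := by
      apply Subgroup.eq_of_le_of_card_ge (zpowers_le.2 hzZ)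
      rw [Nat.card_zpowers, hOZc]
      have h1 : orderOf z ∣ p := by rw [← hOZc]; exact Subgroup.orderOf_dvd_natCard (OZ p P) hzZ
      rcases (Nat.dvd_prime hpp).1 h1 with h | h
      · exact absurd (orderOf_eq_one_iff.1 h) hz1
      · exact h.ge
    have hwz : w⁻¹ ∈ zpowers z := by rw [hzz]; exact inv_mem hw
    obtain ⟨k, hk⟩ := mem_powers_iff_mem_zpowers.2 hwz
    have hbe : b = a₀ * z ^ k := by
      have : z ^ k = w⁻¹ := hk
      rw [this, ← hbw]; group
    have hgk : ∀ k : ℕ, g ^ k * a₀ * (g ^ k)⁻¹ = a₀ * z ^ k := by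
      intro k
      induction k with
      | zero => simp
      | succ k ih =>
        have c2 : Commute g (z ^ k) := (show Commute g z from hZcent z hzZ g hgP).pow_right k
        calc g ^ (k + 1) * a₀ * (g ^ (k + 1))⁻¹ = g * (g ^ k * a₀ * (g ^ k)⁻¹) * g⁻¹ := by rw [pow_succ']; group
          _ = g * (a₀ * z ^ k) * g⁻¹ := by rw [ih]
          _ = (g * a₀ * g⁻¹) * (g * z ^ k) * g⁻¹ := by group
          _ = (a₀ * z) * (z ^ k * g) * g⁻¹ := by rw [hgz, c2.eq]
          _ = a₀ * (z * z ^ k) := by group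
          _ = a₀ * z ^ (k + 1) := by rw [← pow_succ']
    have hb1 : b ≠ 1 := by
      intro hh
      rw [hh, one_mul] at hbw
      have : a₀ ∈ A₀ ⊓ OZ p P := mem_inf.2 ⟨ha₀, hbw ▸ hw⟩
      rw [h1, mem_bot] at this
      exact ha₀1 this
    refine ⟨g ^ k, pow_mem (mem_inf.2 ⟨hgP, hgA⟩) k, ?_⟩
    have h5 : zpowers b = A₁ := by
      apply Subgroup.eq_of_le_of_card_ge (zpowers_le.2 hb)
      rw [Nat.card_zpowers, hc₁]
      have h1 : orderOf b ∣ p := by rw [← hc₁]; exact Subgroup.orderOf_dvd_natCard A₁ hb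
      rcases (Nat.dvd_prime hpp).1 h1 with h | h
      · exact absurd (orderOf_eq_one_iff.1 h) hb1
      · exact h.ge
    symm
    apply Subgroup.eq_of_le_of_card_ge
    · rw [← h5, zpowers_le, hbe, ← hgk k]
      exact conj_mem_cj ha₀
    · rw [card_cj, hc₀, hc₁]

end Cfsg.Agent.H12.BG10
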