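import Mathlib
import Cfsg.Agent.H12_BG10j

/-! BG 12.1 -/

set_option autoImplicit false
set_option linter.unusedSectionVars false

open Pointwise
open scoped commutatorElement

namespace Cfsg.Agent.H12.BG12

open Cfsg Subgroup H13.Syl H12.Loc H12.Trans H12.BG7 H12.Puig H12.BG9 H12.BG10

universe u

variable {G : Type u} [Group G] [Finite G]

theorem pRankLE_of_not_dvd {p k : ℕ} {X : Subgroup G} (hp : p.Prime) (h : ¬ p ∣ Nat.card X) : PRankLE p k X := by
  have : Fact p.Prime := ⟨hp⟩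
  rw [SCN.pRankLE_iff]
  intro F hF he
  have h1 : F = ⊥ := by
    by_contra hb
    exact h ((dvd_card_of_le (ea_isPGroup he) hb hF))
  rw [h1, card_bot]
  exact Nat.one_le_pow _ _ hp.pos

theorem rankLE_one_of {X : Subgroup G} (h : ∀ p : ℕ, p.Prime → p ∣ Nat.card X → PRankLE p 1 X) : RankLE 1 X := by
  intro p hp
  by_cases hd : p ∣ Nat.card X
  · exact h p hp hd
  · exact pRankLE_of_not_dvd hp hd

theorem normal_of_sylows {X L : Subgroup G} (h : ∀ p : ℕ, p.Prime → p ∣ Nat.card X → ∀ P : Subgroup G, IsSylIn p P X →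
    L ≤ normalizer (P : Set G)) : L ≤ normalizer (X : Set G) := by
  intro g hg
  rw [mem_normalizer_iff_cj]
  apply Subgroup.eq_of_le_of_card_ge
  · apply le_of_sylow
    intro p hp hd P hP
    have hP' : IsSylIn p (cj g⁻¹ P) X := by
      have := hP.cj g⁻¹
      rwa [cj_inv_cj] at this
    rw [card_cj] at hd
    have h1 := h p hp hd _ hP' hg
    rw [mem_normalizer_iff_cj, cj_cj_inv] at h1
    rw [h1]
    exact hP'.le
  · rw [card_cj]

theorem compl_hall (hG : IsMinSimpleOddOrder G) {M E : Subgroup G} (hM : IsCoatom M) (hE : IsComplIn E (sigmaCore M) M) :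
    IsPiHallOf (sigma M)ᶜ E M := Hall.of_compl (sigmaCore_hallOf hG hM) hE

theorem compl_sigmaC (hG : IsMinSimpleOddOrder G) {M E : Subgroup G} (hM : IsCoatom M) (hE : IsComplIn E (sigmaCore M) M) :
    SigmaC M E := Hall.pi (compl_hall hG hM hE)

theorem isCompl_of_hall (hG : IsMinSimpleOddOrder G) {M E : Subgroup G} (hM : IsCoatom M) (hE : IsPiHallOf (sigma M)ᶜ E M) :
    IsComplIn E (sigmaCore M) M := Hall.isComplIn (sigmaCore_hallOf hG hM) hE (le_normalizer_sigmaCore M)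

theorem comm_nilpotent (hG : IsMinSimpleOddOrder G) {M E : Subgroup G} (hM : IsCoatom M) (hEM : E ≤ M) (hE : SigmaC M E) :
    Group.IsNilpotent ↥⁅E, E⁆ := by
  have h1 := nilpotent_quot_alpha hG hM
  set q := QuotientGroup.mk' (piCore (alpha M) M) with hq
  have h2 : (alphaCore M) ⊓ E = ⊥ := by
    have := hE.inf_eq_bot
    rw [eq_bot_iff] at this ⊢
    exact (inf_le_inf_right _ (alphaCore_le_sigmaCore hG hM)).trans this
  set E' := E.subgroupOf M with hE'
  have hEmap : E'.map M.subtype = E := H22.Basic.map_subtype_subgroupOf hEM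
  have h3 : ⁅E', E'⁆.map M.subtype = ⁅E, E⁆ := by rw [map_commutator, hEmap]
  have h4 : Function.Injective (q.comp ⁅E', E'⁆.subtype) := by
    rw [← MonoidHom.ker_eq_bot_iff, eq_bot_iff]
    intro x hx
    rw [MonoidHom.mem_ker, MonoidHom.comp_apply] at hx
    have hx1 : (x : M) ∈ piCore (alpha M) M := (QuotientGroup.eq_one_iff _).1 hx
    have hx2 : ((x : M) : G) ∈ alphaCore M := ⟨_, hx1, rfl⟩
    have hx3 : ((x : M) : G) ∈ E := by
      have : (x : M) ∈ E' := (commutator_le_self E') x.2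
      exact mem_subgroupOf.1 this
    have hx4 : ((x : M) : G) ∈ (alphaCore M ⊓ E : Subgroup G) := ⟨hx2, hx3⟩
    rw [h2, mem_bot] at hx4
    rw [mem_bot]
    exact Subtype.ext (Subtype.ext hx4)
  have h5 : (q.comp (⁅E', E'⁆ : Subgroup M).subtype).range ≤ (commutator M).map q := by
    rintro _ ⟨x, rfl⟩
    exact ⟨x, (commutator_mono le_top le_top : ⁅E', E'⁆ ≤ ⁅(⊤ : Subgroup M), ⊤⁆) x.2, rfl⟩
  have h6 : Group.IsNilpotent (q.comp (⁅E', E'⁆ : Subgroup M).subtype).range := nilp_mono h5 h1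
  have h7 : Group.IsNilpotent ↥(⁅E', E'⁆ : Subgroup M) :=
    (Group.isNilpotent_congr (MonoidHom.ofInjective h4)).2 h6
  rw [← h3]
  exact Core.isNilpotent_map_subtype h7

theorem comm_le_sup (hG : IsMinSimpleOddOrder G) {M E : Subgroup G} (hM : IsCoatom M) (hE : IsComplIn E (sigmaCore M) M) :
    ⁅M, M⁆ ≤ ⁅E, E⁆ ⊔ sigmaCore M := by
  have h1 : E ⊔ sigmaCore M = M := Hall.compl_sup hE
  rw [commutator_le]
  intro a ha b hb
  obtain ⟨e, he, s, hs, rfl⟩ := hE.2.2.2 a ha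
  obtain ⟨f, hf, t, ht, rfl⟩ := hE.2.2.2 b hb
  have hn : (sigmaCore M).subgroupOf M |>.Normal := Core.normal_subgroupOf_of_le (le_normalizer_sigmaCore M)
  set q := QuotientGroup.mk' ((sigmaCore M).subgroupOf M) with hq
  have heM := hE.1 he
  have hfM := hE.1 hf
  have hsM := sigmaCore_le M hs
  have htM := sigmaCore_le M ht
  have e1 : q ⟨s, hsM⟩ = 1 := (QuotientGroup.eq_one_iff _).2 (mem_subgroupOf.2 hs)
  have e2 : q ⟨t, htM⟩ = 1 := (QuotientGroup.eq_one_iff _).2 (mem_subgroupOf.2 ht)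
  have e3 : q (⁅(⟨e, heM⟩ : M), ⟨f, hfM⟩⁆⁻¹ * ⁅(⟨e, heM⟩ * ⟨s, hsM⟩ : M), ⟨f, hfM⟩ * ⟨t, htM⟩⁆) = 1 := by
    rw [map_mul, map_inv, map_commutatorElement, map_commutatorElement, map_mul, map_mul, e1, e2, mul_one, mul_one, inv_mul_cancel]
  have e4 : ⁅e, f⁆⁻¹ * ⁅e * s, f * t⁆ ∈ sigmaCore M := mem_subgroupOf.1 ((QuotientGroup.eq_one_iff _).1 e3)
  have e5 : ⁅e * s, f * t⁆ = ⁅e, f⁆ * (⁅e, f⁆⁻¹ * ⁅e * s, f * t⁆) := by group
  rw [e5]
  exact mul_mem ((le_sup_left : ⁅E, E⁆ ≤ ⁅E, E⁆ ⊔ sigmaCore M) (commutator_mem_commutator he hf))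
    ((le_sup_right : sigmaCore M ≤ ⁅E, E⁆ ⊔ sigmaCore M) e4)

/-- cyclic Sylow subgroup: either it lies in the commutator or meets it trivially -/
theorem cyclic_sylow_le {p : ℕ} [hp : Fact p.Prime] {E P : Subgroup G} (hP : IsSylIn p P E) (hc : IsCyclic P)
    (hd : p ∣ Nat.card ↥⁅E, E⁆) : P ≤ ⁅E, E⁆ := by
  obtain ⟨S, hS⟩ := hP.exists_sylow
  have hc' : IsCyclic (S : Subgroup E) := by
    rw [hS]
    exact isCyclic_of_surjective _ (Subgroup.subgroupOfEquivOfLe hP.le).symm.surjective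
  have h1 : Nat.card (commutator E) = Nat.card ↥⁅E, E⁆ := by
    rw [← map_commutator_subtype, card_map_of_injective E.subtype_injective]
  have h2 := S.not_dvd_card_commutator_or_not_dvd_index_commutator
  rw [h1] at h2
  have h3 := h2.resolve_left (not_not.2 hd)
  have h4 : (S : Subgroup E) ≤ commutator E := by
    have h5 : (commutator E).relIndex (S : Subgroup E) ∣ (commutator E).index := Subgroup.relIndex_dvd_index_of_normal _ _
    obtain ⟨k, hk⟩ : ∃ k, (commutator E).relIndex (S : Subgroup E) = p ^ k := by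
      have h6 := S.2.index ((commutator E).subgroupOf S)
      exact h6
    rcases Nat.eq_zero_or_pos k with h7 | h7
    · rw [h7, pow_zero] at hk
      exact relIndex_eq_one.1 hk
    · exact absurd ((dvd_pow_self p h7.ne').trans (hk ▸ h5)) h3
  intro x hx
  have : (⟨x, hP.le hx⟩ : E) ∈ (S : Subgroup E) := by rw [hS]; exact mem_subgroupOf.2 hx
  have h8 := h4 this
  rw [← map_commutator_subtype]
  exact ⟨_, h8, rfl⟩

theorem cyclic_sylow (hG : IsMinSimpleOddOrder G) {p : ℕ} [hp : Fact p.Prime] {P : Subgroup G} (hP : IsPGroup p P) (h : PRankLE p 1 P) :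
    IsCyclic P := by
  by_cases hSb : P = ⊥
  · rw [hSb]; infer_instance
  apply PG.isCyclic_of_no_rank_two_int (prime_ne_two hG (dvd_card_of_le (X := ⊤) hP hSb le_top |>.trans (by rw [card_top]))) hP
  intro A hAS hAc hAp
  have := SCN.pRankLE_iff.1 h A hAS ⟨hAc, hAp⟩
  rwa [pow_one] at this

/-- Sylow `p`-subgroup of the complement for `p ∈ τ₃` -/
theorem tau3_sylow (hG : IsMinSimpleOddOrder G) {M E : Subgroup G} (hM : IsCoatom M) (hE : IsComplIn E (sigmaCore M) M) {p : ℕ}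
    [hp : Fact p.Prime] (h : p ∈ tau3 M) {P : Subgroup G} (hP : IsSylIn p P E) : P ≤ ⁅E, E⁆ := by
  obtain ⟨-, hσ, hd, hr⟩ := h
  apply cyclic_sylow_le hP (cyclic_sylow hG hP.isPGroup (SCN.pRankLE_mono (hP.le.trans hE.1) hr))
  have h1 : Nat.card ↥⁅M, M⁆ ∣ Nat.card ↥⁅E, E⁆ * Nat.card (sigmaCore M) := by
    refine (card_dvd_of_le (comm_le_sup hG hM hE)).trans (Core.card_sup_dvd ?_)
    exact (commutator_le_self E).trans (hE.1.trans (le_normalizer_sigmaCore M))
  rcases (hp.out.dvd_mul).1 (hd.trans h1) with h2 | h2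
  · exact h2
  · exact absurd (Core.piCoreOf_piNum (sigma M) M p hp.out h2) hσ

theorem tau1_cyclic (hG : IsMinSimpleOddOrder G) {M E₁ : Subgroup G} (hM : IsCoatom M) (hE : E₁ ≤ M)
    (h : ∀ p : ℕ, p.Prime → p ∣ Nat.card E₁ → p ∈ tau1 M) : IsCyclic E₁ := by
  have h1 : E₁ ⊓ ⁅M, M⁆ = ⊥ := by
    apply inf_eq_bot_of_coprime
    apply coprime_of_forall
    intro q hq hd hd'
    exact (h q hq hd).2.2.2.1 hd'
  have h2 : ⁅E₁, E₁⁆ = ⊥ := by
    rw [eq_bot_iff, ← h1]
    exact le_inf (commutator_le_self E₁) (commutator_mono hE hE)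
  have h3 : IsMulCommutative E₁ := by
    refine ⟨⟨fun a b => ?_⟩⟩
    have := commutator_mem_commutator a.2 b.2
    rw [h2, mem_bot, commutatorElement_eq_one_iff_mul_comm] at this
    exact Subtype.ext this
  have h4 : Group.IsNilpotent E₁ := by
    letI : CommGroup E₁ := { (inferInstance : Group E₁) with mul_comm := h3.is_comm.comm }
    infer_instance
  exact isCyclic_of_rankLE_one hG h4 (rankLE_one_of fun p hp hd => SCN.pRankLE_mono hE (h p hp hd).2.2.2.2)

theorem tau3_cyclic (hG : IsMinSimpleOddOrder G) {M E E₃ : Subgroup G} (hM : IsCoatom M) (hE : IsComplIn E (sigmaCore M) M)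
    (h : IsPiHallOf (tau3 M) E₃ E) : IsCyclic E₃ ∧ E₃ ≤ ⁅E, E⁆ ∧ E ≤ normalizer (E₃ : Set G) := by
  have hn := comm_nilpotent hG hM hE.1 (compl_sigmaC hG hM hE)
  have h3 : E₃ ≤ ⁅E, E⁆ := by
    apply le_of_sylow
    intro p hp hd P hP
    have : Fact p.Prime := ⟨hp⟩
    exact tau3_sylow hG hM hE (Hall.pi h p hp hd) (Hall.sylow_trans h (Hall.pi h p hp hd) hP)
  refine ⟨?_, h3, ?_⟩
  · apply isCyclic_of_rankLE_one hG (nilp_mono h3 hn)
    exact rankLE_one_of fun p hp hd => SCN.pRankLE_mono (h.1.trans hE.1) (Hall.pi h p hp hd).2.2.2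
  · apply normal_of_sylows
    intro p hp hd P hP
    have : Fact p.Prime := ⟨hp⟩
    have h4 := Hall.sylow_trans (Hall.mono h h3 (commutator_le_self E)) (Hall.pi h p hp hd) hP
    exact normal_of_nilpotent_sylow (commutator_le_self E) (H22.Basic.left_le_normalizer_commutator E E) hn h4

end Cfsg.Agent.H12.BG12
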