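import Mathlib
import Cfsg.Agent.H12_BG12a
import Cfsg.Agent.H3_Fpf

/-! BG section 11: exceptional maximal subgroups -/

set_option autoImplicit false
set_option linter.unusedSectionVars false

open Pointwise
open scoped commutatorElement

namespace Cfsg.Agent.H12.BG11

open Cfsg Subgroup H13.Syl H12.Loc H12.Trans H12.BG7 H12.Puig H12.BG9 H12.BG10 H12.BG12

universe u

variable {G : Type u} [Group G] [Finite G]

theorem nilpotent_of_fpf {p : ℕ} (hp : p.Prime) {N : Subgroup G} {σ : G} (hσ : σ ^ p = 1) (hσN : σ ∈ normalizer (N : Set G))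
    (hfix : N ⊓ centralizer ({σ} : Set G) = ⊥) : Group.IsNilpotent N := by
  set φ : MulAut N := N.normalizerMonoidHom ⟨σ, hσN⟩ with hφ
  refine H3.Fpf.nilpotent_of_fp p hp _ N φ rfl ⟨fun g hg => ?_, ?_⟩
  · have h1 : (g : G) ∈ (N ⊓ centralizer ({σ} : Set G) : Subgroup G) := by
      refine mem_inf.2 ⟨g.2, ?_⟩
      rw [mem_centralizer_singleton_iff]
      have h2 : σ * g * σ⁻¹ = g := congrArg Subtype.val hg
      calc (g : G) * σ = (σ * g * σ⁻¹) * σ := by rw [h2]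
        _ = σ * g := by group
    rw [hfix, mem_bot] at h1
    exact Subtype.ext h1
  · rw [hφ, ← map_pow]
    have : (⟨σ, hσN⟩ : normalizer (N : Set G)) ^ p = 1 := Subtype.ext hσ
    rw [this, map_one]

/-- BG hypothesis of section 11 -/
structure Exc (M : Subgroup G) (p : ℕ) (A A₀ : Subgroup G) : Prop where
  co : IsCoatom M
  ns : p ∉ sigma M
  e2 : E2Max p A
  le : A ≤ M
  le0 : A₀ ≤ A
  c0 : Nat.card A₀ = p
  n0 : normalizer (A₀ : Set G) ≤ M

theorem Exc.cent {M : Subgroup G} {p : ℕ} {A A₀ : Subgroup G} (h : Exc M p A A₀) : centralizer (A : Set G) ≤ M :=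
  (centralizer_le h.le0).trans ((centralizer_le_normalizer _).trans h.n0)

theorem O'_le_cent (A X : Subgroup G) : O' A X ≤ X := O'_le _ _

theorem mem_of_conj {M : Subgroup G} {q : ℕ} [hq : Fact q.Prime] (hqM : q ∈ sigma M) {Q₁ : Subgroup G} (h1 : IsSylIn q Q₁ M) {g k : G}
    (hk : k ∈ M) (h2 : IsSylIn q (cj k Q₁) (cj g M)) : g ∈ M := by
  have h3 : IsSylIn q (cj k Q₁) M := by
    have := h1.cj k
    rwa [cj_eq_of_mem hk] at this
  have h4 : IsSylIn q (cj g⁻¹ (cj k Q₁)) M := by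
    have := h2.cj g⁻¹
    rwa [cj_inv_cj] at this
  obtain ⟨m, hm, he⟩ := h3.exists_conj_eq h4
  have h5 : IsSylIn q (cj k Q₁) (cj 1 M) := by rwa [cj_one]
  have h6 := (sylow_conj hqM h5).2
  rw [cj_one] at h6
  have h7 : m * g⁻¹ ∈ normalizer ((cj k Q₁ : Subgroup G) : Set G) := by
    rw [mem_normalizer_iff_cj, cj_mul]
    exact he
  have h8 := mul_mem (inv_mem hm) (h6 h7)
  rw [inv_mul_cancel_left] at h8
  exact inv_mem_iff.1 h8

theorem maxInv_of_sylow {A Q : Subgroup G} {q : ℕ} [hq : Fact q.Prime] (hQ : IsSylIn q Q ⊤) (hA : A ≤ normalizer (Q : Set G)) :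
    MaxInv A q Q := ⟨⟨hQ.isPGroup, hA⟩, fun _ hR hle => hQ.eq_of_le hR.1 le_top hle⟩

theorem Exc.not_dvd {M : Subgroup G} {p : ℕ} {A A₀ : Subgroup G} (h : Exc M p A A₀) {q : ℕ} [hp : Fact p.Prime] (hq : q.Prime)
    (hqM : q ∈ sigma M) : ¬ q ∣ Nat.card A := by
  rw [h.e2.card]
  intro hd
  have := (Nat.prime_dvd_prime_iff_eq hq hp.out).1 (hq.dvd_of_dvd_pow hd)
  exact h.ns (this ▸ hqM)

/-- BG 11.1 -/
theorem Exc.thm111 (hG : IsMinSimpleOddOrder G) {M : Subgroup G} {p : ℕ} [hp : Fact p.Prime] {A A₀ : Subgroup G} (h : Exc M p A A₀)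
    {g : G} (hg : g ∉ M) (hAg : A ≤ cj g M) {q : ℕ} [hq : Fact q.Prime] (hqM : q ∈ sigma M) {Q₁ Q₂ : Subgroup G}
    (h1 : IsSylIn q Q₁ M) (h2 : IsSylIn q Q₂ (cj g M)) (hA1 : A ≤ normalizer (Q₁ : Set G)) (hA2 : A ≤ normalizer (Q₂ : Set G)) :
    Q₁ ⊓ Q₂ = ⊥ ∧ ∀ X ≤ A, X ≠ ⊥ → centralizer (X : Set G) ⊓ Q₁ = ⊥ ∨ centralizer (X : Set G) ⊓ Q₂ = ⊥ := by
  have h1' : IsSylIn q Q₁ (cj 1 M) := by rwa [cj_one]
  have ht1 := (sylow_conj hqM h1').1
  have ht2 := (sylow_conj hqM h2).1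
  have hm1 := maxInv_of_sylow ht1 hA1
  have hm2 := maxInv_of_sylow ht2 hA2
  have hTH := h.e2.th hG
  have hnd := h.not_dvd hq.out hqM
  have key : ∀ k ∈ O' A (centralizer (A : Set G)), Q₂ ≠ cj k Q₁ := by
    rintro k hk rfl
    exact hg (mem_of_conj hqM h1 (h.cent (O'_le _ _ hk)) h2)
  constructor
  · by_contra hne
    obtain ⟨k, hk, he⟩ := conj_of_inf hG hTH hnd hm1 hm2 hne
    exact key k hk he
  · intro X hXA hX
    by_contra hne
    push Not at hne
    have hAc : IsMulCommutative A := h.e2.ea.1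
    have hXt : centralizer (X : Set G) ≠ ⊤ := by
      intro ht
      have h3 : normalizer (X : Set G) ≠ ⊤ := normalizer_ne_top hG hX (ne_top_of_isPGroup hG (h.e2.isPGroup.to_le hXA))
      apply h3
      rw [eq_top_iff, ← ht]
      exact centralizer_le_normalizer _
    have hAX : A ≤ centralizer (X : Set G) := (le_centralizer A).trans (centralizer_le hXA)
    obtain ⟨k, hk, he⟩ := conj_of_proper hG hTH hnd hm1 hm2 hXt hAX hne.1 hne.2
    exact key k hk he

theorem isSolvable_sigmaCore (hG : IsMinSimpleOddOrder G) {M : Subgroup G} (hM : IsCoatom M) : Group.IsSolvable (sigmaCore M) :=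
  BG1.isSolvable_of_le (sigmaCore_le M) (solvable_of_ne_top hG hM.1)

/-- invariant Sylow of `M_σ` -/
theorem exists_inv_sylow (hG : IsMinSimpleOddOrder G) {M X A : Subgroup G} (hM : IsCoatom M) {q : ℕ} [hq : Fact q.Prime]
    (hqM : q ∈ sigma M) (hXM : X ≤ M) (hX : IsPGroup q X) (hAM : A ≤ M) (hAX : A ≤ normalizer (X : Set G))
    (hcop : (Nat.card A).Coprime (Nat.card (sigmaCore M))) :
    ∃ Q : Subgroup G, IsSylIn q Q M ∧ X ≤ Q ∧ A ≤ normalizer (Q : Set G) ∧ Q ≤ sigmaCore M := by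
  have hXσ : X ≤ sigmaCore M := by
    obtain ⟨T, hXT, hT⟩ := exists_isSylIn_ge (p := q) (H := M) hX hXM
    exact hXT.trans (sylow_le_sigmaCore hG hM hqM hT)
  obtain ⟨P, h1, h2⟩ := H1.Coprime.invariant_psubgroup_le A (sigmaCore M) (hAM.trans (le_normalizer_sigmaCore M)) hcop
    (Or.inr (isSolvable_sigmaCore hG hM)) q X hXσ hX hAX
  have h3 := isSylIn_map_subtype P
  exact ⟨_, Hall.sylow_trans (sigmaCore_hallOf hG hM) hqM h3, h1, h2, h3.le⟩

theorem isCoatom_of_cj {M : Subgroup G} (hM : IsCoatom M) (g : G) : IsCoatom (cj g M) := isCoatom_cj hM g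

theorem Exc.coprime {M : Subgroup G} {p : ℕ} {A A₀ : Subgroup G} (h : Exc M p A A₀) [hp : Fact p.Prime] (g : G) :
    (Nat.card A).Coprime (Nat.card (sigmaCore (cj g M))) := by
  rw [h.e2.card, ← sigmaCore_cj, card_cj]
  apply Nat.Coprime.pow_left
  rw [hp.out.coprime_iff_not_dvd]
  intro hd
  exact h.ns (Core.piCoreOf_piNum (sigma M) M p hp.out hd)

/-- BG 11.2 -/
theorem Exc.thm112 (hG : IsMinSimpleOddOrder G) {M : Subgroup G} {p : ℕ} [hp : Fact p.Prime] {A A₀ : Subgroup G} (h : Exc M p A A₀)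
    {g : G} (hg : g ∉ M) (hAg : A ≤ cj g M) :
    sigmaCore M ⊓ cj g M = ⊥ ∧ sigmaCore M ⊓ centralizer ((cj g A₀ : Subgroup G) : Set G) = ⊥ := by
  have h1 : sigmaCore M ⊓ cj g M = ⊥ := by
    by_contra hne
    obtain ⟨q, hq, hqd⟩ := Nat.exists_prime_and_dvd (mt (fun h => eq_bot_of_card_eq _ h) hne)
    haveI : Fact q.Prime := ⟨hq⟩
    have hqM : q ∈ sigma M := Core.piCoreOf_piNum (sigma M) M q hq (hqd.trans (card_dvd_of_le inf_le_left))
    have hN : A ≤ normalizer ((sigmaCore M ⊓ cj g M : Subgroup G) : Set G) := by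
      intro a ha
      rw [mem_normalizer_iff_cj, cj_inf, cj_eq_of_mem_normalizer (le_normalizer_sigmaCore M (h.le ha)), cj_eq_of_mem (hAg ha)]
    have hc1 : (Nat.card A).Coprime (Nat.card (sigmaCore M)) := by
      have := h.coprime 1
      rwa [cj_one] at this
    obtain ⟨X, hXN⟩ := H1.Coprime.invariant_sylow_exists A (sigmaCore M ⊓ cj g M) hN
      (Nat.Coprime.coprime_dvd_right (card_dvd_of_le inf_le_left) hc1)
      (Or.inr (BG1.isSolvable_of_le inf_le_left (isSolvable_sigmaCore hG h.co))) q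
    have hXs := isSylIn_map_subtype X
    obtain ⟨Q₁, hQ1, hXQ1, hAQ1, -⟩ := exists_inv_sylow hG h.co hqM (hXs.le.trans (inf_le_left.trans (sigmaCore_le M))) hXs.isPGroup
      h.le hXN hc1
    obtain ⟨Q₂, hQ2, hXQ2, hAQ2, -⟩ := exists_inv_sylow hG (isCoatom_cj h.co g) ((sigma_cj g q).2 hqM) (hXs.le.trans inf_le_right)
      hXs.isPGroup hAg hXN (h.coprime g)
    have h2 := (h.thm111 hG hg hAg hqM hQ1 hQ2 hAQ1 hAQ2).1
    have h3 : (X : Subgroup _).map (sigmaCore M ⊓ cj g M).subtype = ⊥ := by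
      rw [eq_bot_iff, ← h2]
      exact le_inf hXQ1 hXQ2
    apply hXs.not_dvd
    rw [h3, relIndex_bot_left]
    exact hqd
  refine ⟨h1, ?_⟩
  rw [eq_bot_iff, ← h1]
  refine inf_le_inf_left _ ((centralizer_le_normalizer _).trans ?_)
  rw [← cj_normalizer]
  exact cj_mono h.n0

/-- a Sylow subgroup of `M` and an element of `N(P)` outside `M` -/
theorem exists_not_mem {M P : Subgroup G} {p : ℕ} [hp : Fact p.Prime] (hns : p ∉ sigma M) (hP : IsSylIn p P M) (hd : p ∣ Nat.card M) :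
    ∃ g : G, g ∈ normalizer (P : Set G) ∧ g ∉ M := by
  by_contra hne
  push Not at hne
  exact hns (sigma_of_normalizer hp.out hd hP hne)

theorem Exc.dvd {M : Subgroup G} {p : ℕ} {A A₀ : Subgroup G} (h : Exc M p A A₀) : p ∣ Nat.card M := by
  have := card_dvd_of_le (h.le0.trans h.le)
  rwa [h.c0] at this

theorem exists_gen {p : ℕ} [hp : Fact p.Prime] {A₀ : Subgroup G} (hc : Nat.card A₀ = p) : ∃ a : G, zpowers a = A₀ ∧ a ^ p = 1 ∧ a ≠ 1 := by
  obtain ⟨a, ha, ha1⟩ := exists_ne_one (H := A₀) (by rintro rfl; rw [card_bot] at hc; exact hp.out.one_lt.ne hc)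
  have h1 : a ^ p = 1 := by
    have := pow_card_eq_one' (x := (⟨a, ha⟩ : A₀))
    rw [hc] at this
    exact congrArg Subtype.val this
  refine ⟨a, ?_, h1, ha1⟩
  apply Subgroup.eq_of_le_of_card_ge (by rwa [zpowers_le])
  rw [hc, Nat.card_zpowers, orderOf_eq_prime h1 ha1]

theorem centralizer_zpowers (a : G) : centralizer ((zpowers a : Subgroup G) : Set G) = centralizer ({a} : Set G) := by
  rw [zpowers_eq_closure, centralizer_closure]

/-- BG 11.3 -/
theorem Exc.thm113 (hG : IsMinSimpleOddOrder G) {M : Subgroup G} {p : ℕ} [hp : Fact p.Prime] {A A₀ : Subgroup G} (h : Exc M p A A₀) :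
    Group.IsNilpotent (sigmaCore M) := by
  obtain ⟨P, hAP, hP⟩ := exists_isSylIn_ge (p := p) (H := M) h.e2.isPGroup h.le
  obtain ⟨g, hgN, hg⟩ := exists_not_mem h.ns hP h.dvd
  have hPg : cj g P = P := cj_eq_of_mem_normalizer hgN
  have hAg : A ≤ cj g M := by
    rw [← hPg] at hAP
    exact hAP.trans (cj_mono hP.le)
  have h1 := (h.thm112 hG hg hAg).2
  have hc : Nat.card (cj g A₀) = p := by rw [card_cj]; exact h.c0
  obtain ⟨a, ha, hap, ha1⟩ := exists_gen hc
  have haM : a ∈ M := by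
    have : a ∈ cj g A₀ := ha ▸ mem_zpowers a
    have h2 : cj g A₀ ≤ cj g P := cj_mono (h.le0.trans hAP)
    rw [hPg] at h2
    exact hP.le (h2 this)
  apply nilpotent_of_fpf hp.out hap (le_normalizer_sigmaCore M haM)
  rw [← ha, centralizer_zpowers] at h1
  exact h1

/-- BG 11.4 -/
theorem Exc.thm114 (hG : IsMinSimpleOddOrder G) {M : Subgroup G} {p : ℕ} [hp : Fact p.Prime] {A A₀ : Subgroup G} (h : Exc M p A A₀)
    {H : Subgroup G} (hH : IsCoatom H) (hAH : A ≤ H) (hne : sigmaCore H ⊓ sigmaCore M ≠ ⊥) : H = M := by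
  by_cases hc : ∃ g : G, H = cj g M
  · obtain ⟨g, rfl⟩ := hc
    by_cases hg : g ∈ M
    · exact cj_eq_of_mem hg
    · exfalso
      apply hne
      have := (h.thm112 hG hg hAH).1
      rw [eq_bot_iff] at this ⊢
      rw [inf_comm]
      exact (inf_le_inf_left _ (sigmaCore_le _)).trans this
  · push Not at hc
    exfalso
    apply hne
    have := (thm1012b hG h.co hH hc (h.thm113 hG)).2
    rwa [inf_comm] at this

end Cfsg.Agent.H12.BG11
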