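import Mathlib
import Cfsg.Agent.H12_BG11

/-! BG section 11, continued: 11.5, 11.6 -/

set_option autoImplicit false
set_option linter.unusedSectionVars false

open Pointwise
open scoped commutatorElement

namespace Cfsg.Agent.H12.BG11

open Cfsg Subgroup H13.Syl H12.Loc H12.Trans H12.BG7 H12.Puig H12.BG9 H12.BG10 H12.BG12

universe u

variable {G : Type u} [Group G] [Finite G]

theorem exists_sigma (hG : IsMinSimpleOddOrder G) {M : Subgroup G} (hM : IsCoatom M) : ∃ q : ℕ, q ∈ sigma M := by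
  by_cases hr : ∀ q : ℕ, q.Prime → PRankLE q 2 (Oq q M)
  · obtain ⟨q, -, h, -⟩ := exists_Oq_sigma hG hM hr
    exact ⟨q, h⟩
  · push Not at hr
    obtain ⟨q, hq, h⟩ := hr
    refine ⟨q, alpha_subset_sigma hG hM ⟨hq, fun h' => h (SCN.pRankLE_mono (Oq_le q M) h')⟩⟩

theorem sigmaCore_ne_bot (hG : IsMinSimpleOddOrder G) {M : Subgroup G} (hM : IsCoatom M) : sigmaCore M ≠ ⊥ := by
  obtain ⟨q, hq⟩ := exists_sigma hG hM
  have : Fact q.Prime := ⟨(sigma_spec hq).1⟩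
  obtain ⟨P, hP, hPt, hN, hle⟩ := sigma_sylow hG hM hq
  intro hb
  rw [hb, le_bot_iff] at hle
  apply hP.not_dvd
  rw [hle, relIndex_bot_left]
  exact (sigma_spec hq).2.1

theorem cj_ea {p : ℕ} {A : Subgroup G} (h : IsElementaryAbelian p A) (g : G) : IsElementaryAbelian p (cj g A) := by
  have h1 := h.1
  refine ⟨⟨⟨fun a b => Subtype.ext ?_⟩⟩, ?_⟩
  · obtain ⟨_, x, hx, rfl⟩ := a
    obtain ⟨_, y, hy, rfl⟩ := b
    have : x * y = y * x := congrArg Subtype.val (h1.is_comm.comm (⟨x, hx⟩ : A) ⟨y, hy⟩)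
    show (MulAut.conj g) x * (MulAut.conj g) y = (MulAut.conj g) y * (MulAut.conj g) x
    rw [← map_mul, this, map_mul]
  · rintro _ ⟨x, hx, rfl⟩
    show ((MulAut.conj g) x) ^ p = 1
    rw [← map_pow, h.2 x hx, map_one]

theorem E2Max_cj {p : ℕ} {A : Subgroup G} (h : E2Max p A) (g : G) : E2Max p (cj g A) := by
  refine ⟨cj_ea h.ea g, by rw [card_cj]; exact h.card, ?_⟩
  intro B hB hle
  have h1 := h.max (cj g⁻¹ B) (cj_ea hB _) (by
    have := cj_mono (g := g⁻¹) hle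
    rwa [cj_inv_cj] at this)
  rw [← h1, cj_cj_inv]

/-- BG 11.5 -/
theorem Exc.thm115 (hG : IsMinSimpleOddOrder G) {M : Subgroup G} {p : ℕ} [hp : Fact p.Prime] {A A₀ : Subgroup G} (h : Exc M p A A₀)
    {P : Subgroup G} (hP : IsSylIn p P M) (hAP : A ≤ P) : IsMulCommutative P := by
  by_contra hn
  obtain ⟨hZc, hZA, -, -⟩ := thm1013 hG hP.isPGroup h.e2 hAP hn
  obtain ⟨g, hgN, hg⟩ := exists_not_mem h.ns hP h.dvd
  have hPg : cj g P = P := cj_eq_of_mem_normalizer hgN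
  have hZg : cj g (OZ p P) = OZ p P := cj_eq_of_mem_normalizer (normalizer_le_OZ p P hgN)
  have hA0 : A₀ ≠ OZ p P := by
    rintro he
    exact hg (h.n0 (he ▸ normalizer_le_OZ p P hgN))
  have hAg : A ≤ cj g M := by
    rw [← hPg] at hAP
    exact hAP.trans (cj_mono hP.le)
  obtain ⟨q, hqM⟩ := exists_sigma hG h.co
  haveI : Fact q.Prime := ⟨(sigma_spec hqM).1⟩
  obtain ⟨Q₁, hQ, hQt, -, hQσ⟩ := sigma_sylow hG h.co hqM
  have hnil := h.thm113 hG
  have hQn : M ≤ normalizer (Q₁ : Set G) :=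
    normal_of_nilpotent_sylow (sigmaCore_le M) (le_normalizer_sigmaCore M) hnil (hQ.mono hQσ (sigmaCore_le M))
  have hQ1b : Q₁ ≠ ⊥ := by
    rintro rfl
    apply hQ.not_dvd
    rw [relIndex_bot_left]
    exact (sigma_spec hqM).2.1
  have hQ2n : cj g M ≤ normalizer ((cj g Q₁ : Subgroup G) : Set G) := by
    rw [← cj_normalizer]; exact cj_mono hQn
  have hZb : OZ p P ≠ ⊥ := by
    intro hb; rw [hb, card_bot] at hZc; exact hp.out.one_lt.ne hZc
  have hCZ : centralizer (OZ p P : Set G) ⊓ Q₁ = ⊥ := by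
    rcases (h.thm111 hG hg hAg hqM hQ (hQ.cj g) (h.le.trans hQn) (hAg.trans hQ2n)).2 (OZ p P) hZA hZb with h1 | h1
    · exact h1
    · have h2 : cj g (centralizer (OZ p P : Set G) ⊓ Q₁) = ⊥ := by
        rw [cj_inf, cj_centralizer, hZg]; exact h1
      exact cj_eq_bot_iff.1 h2
  have key : ∀ B B₀ : Subgroup G, E2Max p B → B ≤ P → B₀ ≤ B → Nat.card B₀ = p → B₀ ≠ OZ p P → Q₁ ⊓ centralizer (B₀ : Set G) ≠ ⊥ := by
    intro B B₀ hB hBP hB₀ hc hne
    have hBab : ∀ a ∈ B, ∀ b ∈ B, a * b = b * a := fun a ha b hb =>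
      congrArg Subtype.val (hB.ea.1.is_comm.comm (⟨a, ha⟩ : B) ⟨b, hb⟩)
    have hcop : (Nat.card B).Coprime (Nat.card Q₁) := by
      have h1 := h.coprime (M := M) 1
      rw [cj_one, h.e2.card, ← hB.card] at h1
      exact Nat.Coprime.coprime_dvd_right (card_dvd_of_le hQσ) h1
    have hlt : p < Nat.card B := by
      rw [hB.card, pow_two]
      have := hp.out.two_le
      nlinarith
    obtain ⟨a, ha, ha1, hna⟩ := exists_one (D := ⊥) hBab hB.ea.2 hlt ((hBP.trans hP.le).trans hQn) hcop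
      (fun h' => hQ1b (le_bot_iff.1 h'))
    have hap : a ^ p = 1 := hB.ea.2 a ha
    have hac : Nat.card (zpowers a) = p := by rw [Nat.card_zpowers, orderOf_eq_prime hap ha1]
    have haZ : zpowers a ≠ OZ p P := by
      intro he
      apply hna
      rw [← centralizer_zpowers, he, inf_comm, hCZ]
    obtain ⟨-, -, -, htr⟩ := thm1013 hG hP.isPGroup hB hBP hn
    obtain ⟨x, hx, hxe⟩ := htr (zpowers a) B₀ (by rwa [zpowers_le]) hB₀ hac hc haZ hne
    intro hb
    apply hna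
    rw [le_bot_iff, ← centralizer_zpowers, ← cj_eq_bot_iff (g := x), cj_inf, cj_centralizer, hxe,
      cj_eq_of_mem_normalizer (hQn (hP.le (mem_inf.1 hx).1)), hb]
  have h3 := (h.thm112 hG hg hAg).2
  refine key (cj g A) (cj g A₀) (E2Max_cj h.e2 g) ?_ (cj_mono h.le0) (by rw [card_cj, h.c0]) ?_ ?_
  · rw [← hPg]; exact cj_mono hAP
  · intro he
    rw [← hZg] at he
    exact hA0 (cj_inj he)
  · rw [eq_bot_iff, ← h3]
    exact inf_le_inf_right _ hQσ

/-- BG 11.6 -/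
theorem Exc.thm116 (hG : IsMinSimpleOddOrder G) {M : Subgroup G} {p : ℕ} [hp : Fact p.Prime] {A A₀ : Subgroup G} (h : Exc M p A A₀)
    {P : Subgroup G} (hP : IsSylIn p P M) (hAP : A ≤ P) : (∀ x ∈ P, x ^ p = 1 → x ∈ A) ∧ normalizer (P : Set G) ≤ normalizer (A : Set G) ∧
      sigmaCore M ⊓ centralizer (A : Set G) = ⊥ ∧ ∃ A₁ A₂ : Subgroup G, A₁ ≤ A ∧ A₂ ≤ A ∧ Nat.card A₁ = p ∧ Nat.card A₂ = p ∧
        A₁ ≠ A₂ ∧ sigmaCore M ⊓ centralizer (A₁ : Set G) = ⊥ ∧ sigmaCore M ⊓ centralizer (A₂ : Set G) = ⊥ := by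
  have hab := h.thm115 hG hP hAP
  have h1 : ∀ x ∈ P, x ^ p = 1 → x ∈ A := fun x hx hxp => h.e2.mem (centralizer_le hAP (le_centralizer P hx)) hxp
  have h2 : normalizer (P : Set G) ≤ normalizer (A : Set G) := by
    intro g hg
    rw [mem_normalizer_iff_cj]
    apply Subgroup.eq_of_le_of_card_ge _ (by rw [card_cj])
    rw [cj_le_iff_forall]
    intro a ha
    apply h1
    · exact (mem_normalizer_iff.1 hg a).1 (hAP ha)
    · rw [conj_pow, h.e2.ea.2 a ha, mul_one, mul_inv_cancel]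
  obtain ⟨g, hgN, hg⟩ := exists_not_mem h.ns hP h.dvd
  have hPg : cj g P = P := cj_eq_of_mem_normalizer hgN
  have hle : ∀ y : G, y ∈ normalizer (P : Set G) → A ≤ cj y M := by
    intro y hy
    have : cj y P = P := cj_eq_of_mem_normalizer hy
    refine hAP.trans ?_
    rw [← this]
    exact cj_mono hP.le
  have hg' : g⁻¹ ∉ M := fun h' => hg (inv_mem_iff.1 h')
  have h3 := (h.thm112 hG hg (hle g hgN)).2
  have h4 := (h.thm112 hG hg' (hle g⁻¹ (inv_mem hgN))).2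
  have hAA : ∀ y : G, y ∈ normalizer (P : Set G) → cj y A₀ ≤ A := by
    intro y hy
    have : cj y A = A := cj_eq_of_mem_normalizer (h2 hy)
    rw [← this]
    exact cj_mono h.le0
  refine ⟨h1, h2, ?_, cj g A₀, cj g⁻¹ A₀, hAA g hgN, hAA _ (inv_mem hgN), by rw [card_cj, h.c0], by rw [card_cj, h.c0], ?_, h3, h4⟩
  · rw [eq_bot_iff, ← h3]
    exact inf_le_inf_left _ (centralizer_le (hAA g hgN))
  · intro he
    apply hg
    have h5 : g * g ∈ normalizer (A₀ : Set G) := by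
      rw [mem_normalizer_iff_cj, cj_mul, he, cj_cj_inv]
    have h6 : g ^ 2 ∈ M := by rw [pow_two]; exact h.n0 h5
    have hodd : Odd (orderOf g) := by
      have := hG.1
      exact Odd.of_dvd_nat this (orderOf_dvd_natCard g)
    obtain ⟨k, hk⟩ := hodd
    have h7 : g = (g ^ 2) ^ (k + 1) := by
      rw [← pow_mul]
      have : 2 * (k + 1) = orderOf g + 1 := by rw [hk]; ring
      rw [this, pow_succ, pow_orderOf_eq_one, one_mul]
    rw [h7]
    exact pow_mem h6 _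

end Cfsg.Agent.H12.BG11
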