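import Mathlib
import Cfsg.Agent.H12_FrobK

/-! Fixed point theorem (BG 3.4) for solvable modules, via sections. -/

set_option autoImplicit false
set_option linter.unusedSectionVars false

open Pointwise
open scoped commutatorElement

namespace Cfsg.Agent.H12.Sect

open Cfsg Subgroup H22.Basic

universe u

variable {G : Type u} [Group G]

/-- conjugation action of `N(M) ∩ N(Z)` on the section `M / Z` -/
noncomputable def sectHom (M Z : Subgroup G) (hZM : Z ≤ M) [hZn : (Z.subgroupOf M).Normal] :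
    ↥(normalizer (M : Set G) ⊓ normalizer (Z : Set G)) →* MulAut (M ⧸ Z.subgroupOf M) :=
  let hN1 : ∀ g : ↥(normalizer (M : Set G) ⊓ normalizer (Z : Set G)), (g : G) ∈ normalizer (M : Set G) :=
    fun g => (Subgroup.mem_inf.mp g.2).1
  have hN2 : ∀ g : ↥(normalizer (M : Set G) ⊓ normalizer (Z : Set G)), (g : G) ∈ normalizer (Z : Set G) :=
    fun g => (Subgroup.mem_inf.mp g.2).2
  have hact : ∀ g : ↥(normalizer (M : Set G) ⊓ normalizer (Z : Set G)),
      (Z.subgroupOf M).map (M.normalizerMonoidHom ⟨g, hN1 g⟩ : M ≃* M).toMonoidHom = Z.subgroupOf M := by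
    intro g
    ext x
    rw [Subgroup.mem_map, Subgroup.mem_subgroupOf]
    constructor
    · rintro ⟨y, hy, rfl⟩
      rw [Subgroup.mem_subgroupOf] at hy
      exact ((Subgroup.mem_normalizer_iff.mp (hN2 g)) _).mp hy
    · intro hx
      have h1 : (g : G)⁻¹ * x * g ∈ Z := by
        have := ((Subgroup.mem_normalizer_iff.mp (inv_mem (hN2 g))) _).mp hx
        simpa using this
      refine ⟨⟨(g : G)⁻¹ * x * g, hZM h1⟩, ?_, ?_⟩
      · rw [Subgroup.mem_subgroupOf]; exact h1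
      · apply Subtype.ext
        show (g : G) * ((g : G)⁻¹ * x * g) * (g : G)⁻¹ = x
        group
  { toFun := fun g => QuotientGroup.congr _ _ (M.normalizerMonoidHom ⟨g, hN1 g⟩) (hact g)
    map_one' := by
      ext v
      induction v using QuotientGroup.induction_on with
      | H a =>
        show ((M.normalizerMonoidHom ⟨_, hN1 1⟩ a : M) : M ⧸ Z.subgroupOf M) = (a : M ⧸ Z.subgroupOf M)
        congr 1
        apply Subtype.ext
        show (1 : G) * a * (1 : G)⁻¹ = a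
        group
    map_mul' := by
      intro g h
      ext v
      induction v using QuotientGroup.induction_on with
      | H a =>
        show ((M.normalizerMonoidHom ⟨_, hN1 (g * h)⟩ a : M) : M ⧸ Z.subgroupOf M)
          = ((M.normalizerMonoidHom ⟨g, hN1 g⟩ (M.normalizerMonoidHom ⟨h, hN1 h⟩ a) : M) : M ⧸ Z.subgroupOf M)
        congr 1
        apply Subtype.ext
        show ((g : G) * h) * a * ((g : G) * h)⁻¹ = g * (h * a * (h : G)⁻¹) * (g : G)⁻¹
        group }

theorem sectHom_apply {M Z : Subgroup G} (hZM : Z ≤ M) [hZn : (Z.subgroupOf M).Normal]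
    (g : ↥(normalizer (M : Set G) ⊓ normalizer (Z : Set G))) (a : M) :
    sectHom M Z hZM g (a : M ⧸ Z.subgroupOf M) =
      ((M.normalizerMonoidHom ⟨g, (Subgroup.mem_inf.mp g.2).1⟩ a : M) : M ⧸ Z.subgroupOf M) := rfl

theorem sectHom_fix_iff {M Z : Subgroup G} (hZM : Z ≤ M) [hZn : (Z.subgroupOf M).Normal] (hMZ : M ≤ normalizer (Z : Set G))
    (g : ↥(normalizer (M : Set G) ⊓ normalizer (Z : Set G))) (a : M) :
    sectHom M Z hZM g (a : M ⧸ Z.subgroupOf M) = (a : M ⧸ Z.subgroupOf M) ↔ (g : G) * a * (g : G)⁻¹ * (a : G)⁻¹ ∈ Z := by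
  rw [sectHom_apply, QuotientGroup.eq, Subgroup.mem_subgroupOf]
  have e0 : (((M.normalizerMonoidHom ⟨g, (Subgroup.mem_inf.mp g.2).1⟩ a : M)⁻¹ * a : M) : G)
      = ((g : G) * (a : G) * (g : G)⁻¹)⁻¹ * a := rfl
  rw [e0]
  constructor
  · intro h
    have e1 : (g : G) * (a : G) * (g : G)⁻¹ * (a : G)⁻¹ = a * (((g : G) * (a : G) * (g : G)⁻¹)⁻¹ * a)⁻¹ * (a : G)⁻¹ := by group
    rw [e1]
    exact ((Subgroup.mem_normalizer_iff.mp (hMZ a.2)) _).mp (inv_mem h)
  · intro h
    have e1 : ((g : G) * (a : G) * (g : G)⁻¹)⁻¹ * a = (a : G)⁻¹ * ((g : G) * (a : G) * (g : G)⁻¹ * (a : G)⁻¹)⁻¹ * (a : G)⁻¹⁻¹ := by group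
    rw [e1]
    exact ((Subgroup.mem_normalizer_iff.mp (inv_mem (hMZ a.2))) _).mp (inv_mem h)

/-- **Fixed point theorem** (BG 3.4 for `q`-groups), for elementary abelian sections. -/
theorem fix_section [Finite G] {p q r : ℕ} [hp : Fact p.Prime] [hq : Fact q.Prime]
    (hr : r.Prime) (hq2 : q ≠ 2) (hqp : q ≠ p) (hqr : q ≠ r) (hrp : r ≠ p) {V Z K : Subgroup G}
    (hZV : Z ≤ V) (hVc : ⁅V, V⁆ ≤ Z) (hVp : ∀ v ∈ V, v ^ p ∈ Z) (hK : IsPGroup q K)
    (hKV : K ≤ normalizer (V : Set G)) (hKZ : K ≤ normalizer (Z : Set G)) {σ : G} (hσ : σ ^ r = 1)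
    (hσV : σ ∈ normalizer (V : Set G)) (hσZ : σ ∈ normalizer (Z : Set G))
    (hσK : σ ∈ normalizer (K : Set G)) (hfix : ∀ x ∈ V, σ * x * σ⁻¹ * x⁻¹ ∈ Z → x ∈ Z) :
    ⁅V, ⁅K, zpowers σ⁆⁆ ≤ Z := by
  have hVZ : V ≤ normalizer (Z : Set G) := RepF.le_normalizer_of_commutator_le hZV hVc
  have hZn : (Z.subgroupOf V).Normal := H12.Core.normal_subgroupOf_of_le hVZ
  let W := V ⧸ (Z.subgroupOf V)
  have hcomm : ∀ a b : W, a * b = b * a := by
    intro a b
    induction a using QuotientGroup.induction_on with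
    | H a =>
    induction b using QuotientGroup.induction_on with
    | H b =>
      rw [← QuotientGroup.mk_mul, ← QuotientGroup.mk_mul, QuotientGroup.eq, Subgroup.mem_subgroupOf]
      apply hVc
      have e : (((a * b)⁻¹ * (b * a) : V) : G) = ⁅((b : G)⁻¹), ((a : G)⁻¹)⁆ := by
        rw [commutatorElement_def]
        push_cast
        group
      rw [e]
      exact Subgroup.commutator_mem_commutator (inv_mem b.2) (inv_mem a.2)
  letI : CommGroup W := { (inferInstance : Group W) with mul_comm := hcomm }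
  have hWq : ∀ v : W, v ^ p = 1 := by
    intro v
    induction v using QuotientGroup.induction_on with
    | H a =>
      rw [← QuotientGroup.mk_pow, QuotientGroup.eq_one_iff, Subgroup.mem_subgroupOf]
      exact hVp a a.2
  set N := normalizer (V : Set G) ⊓ normalizer (Z : Set G) with hN
  set φ := sectHom V Z hZV with hφ
  set F := φ.range with hF
  have hσN : σ ∈ N := mem_inf.2 ⟨hσV, hσZ⟩
  have hKN : K ≤ N := le_inf hKV hKZ
  set σ' : F := ⟨φ ⟨σ, hσN⟩, ⟨_, rfl⟩⟩ with hσ'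
  set φ' := φ.rangeRestrict with hφ'
  set K' : Subgroup F := (K.subgroupOf N).map φ' with hK'
  have hKq : IsPGroup q K' := by
    apply IsPGroup.map
    exact hK.comap_of_injective _ (Subgroup.subtype_injective _)
  have h1 := RepF.fix_trivial_aut (p := p) hWq F.subtype F.subtype_injective hq2 hqp hr hqr hrp σ'
    (by
      apply Subtype.ext
      show (φ ⟨σ, hσN⟩) ^ r = 1
      rw [← map_pow]
      have : (⟨σ, hσN⟩ : N) ^ r = 1 := Subtype.ext hσ
      rw [this, map_one])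
    (by
      intro v hv
      induction v using QuotientGroup.induction_on with
      | H a =>
        rw [QuotientGroup.eq_one_iff, Subgroup.mem_subgroupOf]
        apply hfix a a.2
        exact (sectHom_fix_iff hZV hVZ ⟨σ, hσN⟩ a).1 hv)
    K' hKq (by
      rw [zpowers_le]
      apply H22.Basic.mem_normalizer_of_cj_le
      intro g hg
      rw [H22.Basic.mem_cj] at hg
      obtain ⟨x, hx, hx2⟩ := hg
      refine ⟨⟨σ, hσN⟩ * x * ⟨σ, hσN⟩⁻¹, ?_, ?_⟩
      · show (σ * (x : G) * σ⁻¹) ∈ K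
        exact ((Subgroup.mem_normalizer_iff.mp hσK) _).mp hx
      · rw [map_mul, map_mul, map_inv, hx2]
        show σ' * (σ'⁻¹ * g * σ') * σ'⁻¹ = g
        group)
  -- the commutator acts trivially
  have h2 : ⁅K, zpowers σ⁆ ≤ N := by
    refine (commutator_mono hKN (zpowers_le.2 hσN)).trans ?_
    exact H22.Basic.commutator_le_left le_normalizer
  have h3 : ∀ c ∈ ⁅K, zpowers σ⁆, ∀ hc : c ∈ N, φ' ⟨c, hc⟩ = 1 := by
    intro c hc hcN
    have h4 : (⟨c, hcN⟩ : N) ∈ ⁅K.subgroupOf N, (zpowers σ).subgroupOf N⁆ := by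
      have : c ∈ (⁅K.subgroupOf N, (zpowers σ).subgroupOf N⁆).map N.subtype := by
        rw [map_commutator, map_subtype_subgroupOf hKN, map_subtype_subgroupOf (zpowers_le.2 hσN)]
        exact hc
      obtain ⟨y, hy, hyc⟩ := this
      have : y = ⟨c, hcN⟩ := Subtype.ext hyc
      rwa [← this]
    have h5 : φ' ⟨c, hcN⟩ ∈ (⁅K.subgroupOf N, (zpowers σ).subgroupOf N⁆).map φ' := ⟨_, h4, rfl⟩
    rw [map_commutator] at h5
    have h6 : ((zpowers σ).subgroupOf N).map φ' ≤ zpowers σ' := by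
      rintro _ ⟨y, hy, rfl⟩
      obtain ⟨i, hi⟩ := mem_zpowers_iff.mp (mem_subgroupOf.1 hy)
      refine mem_zpowers_iff.mpr ⟨i, ?_⟩
      have : y = ⟨σ, hσN⟩ ^ i := Subtype.ext hi.symm
      rw [this, map_zpow]
      rfl
    have h7 : ⁅(K.subgroupOf N).map φ', ((zpowers σ).subgroupOf N).map φ'⁆ = ⊥ := by
      rw [commutator_comm, commutator_eq_bot_iff_le_centralizer]
      exact h6.trans h1
    rw [h7] at h5
    exact mem_bot.1 h5
  rw [Subgroup.commutator_le]
  intro v hv c hc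
  have h8 : φ ⟨c, h2 hc⟩ = 1 := congrArg Subtype.val (h3 c hc (h2 hc))
  have h9 := (sectHom_fix_iff hZV hVZ ⟨c, h2 hc⟩ ⟨v, hv⟩).1 (by
    show φ ⟨c, h2 hc⟩ _ = _
    rw [h8]; rfl)
  have e : ⁅v, c⁆ = (c * v * c⁻¹ * v⁻¹)⁻¹ := by rw [commutatorElement_def]; group
  rw [e]
  exact inv_mem h9

/-- a proper characteristic-like subgroup with elementary abelian quotient -/
theorem exists_ea_quot [Finite G] {N : Subgroup G} (hs : Group.IsSolvable N) (hN : N ≠ ⊥) :
    ∃ (p : ℕ) (_ : p.Prime) (Z : Subgroup G), p ∣ Nat.card N ∧ Z ≤ N ∧ Z ≠ N ∧ ⁅N, N⁆ ≤ Z ∧ (∀ x ∈ N, x ^ p ∈ Z) ∧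
      normalizer (N : Set G) ≤ normalizer (Z : Set G) := by
  have hnt : Nontrivial N := (Subgroup.nontrivial_iff_ne_bot _).2 hN
  have h1 := (Group.IsSolvable.commutator_lt_top_of_nontrivial (G := N)).ne
  have hntA : Nontrivial (Abelianization N) := by
    rw [← not_subsingleton_iff_nontrivial]
    intro h
    apply h1
    rw [eq_top_iff]
    intro x _
    exact (QuotientGroup.eq_one_iff x).1 (h.elim (Abelianization.of x) 1)
  have hc1 : Nat.card (Abelianization N) ≠ 1 := (Finite.one_lt_card).ne'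
  obtain ⟨p, hp, hpd⟩ := Nat.exists_prime_and_dvd hc1
  have : Fact p.Prime := ⟨hp⟩
  -- the power subgroup
  set R : Subgroup (Abelianization N) := (powMonoidHom p : Abelianization N →* Abelianization N).range with hR
  have hRne : R ≠ ⊤ := by
    intro h
    have hsurj : Function.Surjective (powMonoidHom p : Abelianization N →* Abelianization N) := MonoidHom.range_eq_top.1 h
    have hinj := Finite.injective_iff_surjective.2 hsurj
    obtain ⟨x, hx⟩ := exists_prime_orderOf_dvd_card' (G := Abelianization N) p hpd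
    have : x = 1 := by
      apply hinj
      rw [map_one]
      show x ^ p = 1
      rw [← hx, pow_orderOf_eq_one]
    rw [this, orderOf_one] at hx
    exact hp.one_lt.ne hx
  set Z' : Subgroup N := R.comap Abelianization.of with hZ'
  have hmem : ∀ x : N, x ∈ Z' ↔ ∃ y : N, ∃ c ∈ commutator N, x = y ^ p * c := by
    intro x
    rw [hZ', mem_comap]
    constructor
    · rintro ⟨y, hy⟩
      obtain ⟨y, rfl⟩ := QuotientGroup.mk_surjective y
      refine ⟨y, (y ^ p)⁻¹ * x, ?_, by group⟩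
      have h2 : (Abelianization.of y) ^ p = Abelianization.of x := hy
      have h3 : Abelianization.of ((y ^ p)⁻¹ * x) = 1 := by
        rw [map_mul, map_inv, map_pow, h2, inv_mul_cancel]
      exact (QuotientGroup.eq_one_iff _).1 h3
    · rintro ⟨y, c, hc, rfl⟩
      refine ⟨Abelianization.of y, ?_⟩
      have h3 : Abelianization.of c = 1 := (QuotientGroup.eq_one_iff _).2 hc
      rw [map_mul, h3, mul_one, map_pow]
      rfl
  have hcom : (commutator N).map N.subtype = ⁅N, N⁆ := by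
    rw [_root_.commutator_def, map_commutator, ← MonoidHom.range_eq_map, range_subtype]
  have hmemZ : ∀ x : G, x ∈ Z'.map N.subtype ↔ ∃ y ∈ N, ∃ c ∈ ⁅N, N⁆, x = y ^ p * c := by
    intro x
    constructor
    · rintro ⟨x, hx, rfl⟩
      obtain ⟨y, c, hc, rfl⟩ := (hmem x).1 hx
      exact ⟨y, y.2, c, by rw [← hcom]; exact ⟨c, hc, rfl⟩, rfl⟩
    · rintro ⟨y, hy, c, hc, rfl⟩
      rw [← hcom] at hc
      obtain ⟨c, hc, rfl⟩ := hc
      exact ⟨⟨y, hy⟩ ^ p * c, (hmem _).2 ⟨⟨y, hy⟩, c, hc, rfl⟩, rfl⟩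
  refine ⟨p, hp, Z'.map N.subtype, hpd.trans (Subgroup.card_quotient_dvd_card _), map_subtype_le _, ?_, ?_, ?_, ?_⟩
  · intro h
    apply hRne
    rw [eq_top_iff]
    intro x _
    obtain ⟨x, rfl⟩ := QuotientGroup.mk_surjective x
    have : (x : G) ∈ Z'.map N.subtype := by rw [h]; exact x.2
    obtain ⟨y, hy, hyx⟩ := this
    have : y = x := Subtype.ext hyx
    rw [this] at hy
    exact hy
  · intro x hx
    exact (hmemZ x).2 ⟨1, one_mem _, x, hx, by simp⟩
  · intro x hx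
    exact (hmemZ _).2 ⟨x, hx, 1, one_mem _, by simp⟩
  · intro g hg
    apply H22.Basic.mem_normalizer_of_cj_le
    intro x hx
    rw [H22.Basic.mem_cj] at hx
    obtain ⟨y, hy, c, hc, he⟩ := (hmemZ _).1 hx
    have hgc : g ∈ normalizer ((⁅N, N⁆ : Subgroup G) : Set G) :=
      (H22.Basic.le_normalizer_commutator (A := zpowers g) (zpowers_le.2 hg) (zpowers_le.2 hg)) (mem_zpowers g)
    refine (hmemZ _).2 ⟨g * y * g⁻¹, ((mem_normalizer_iff.1 hg) y).1 hy, g * c * g⁻¹, ((mem_normalizer_iff.1 hgc) c).1 hc, ?_⟩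
    have e : x = g * (g⁻¹ * x * g) * g⁻¹ := by group
    rw [e, he, conj_pow]
    group

theorem fix_zpowers {Z : Subgroup G} {x σ : G} (hσ : σ ∈ normalizer (Z : Set G))
    (h : x⁻¹ * (σ * x * σ⁻¹) ∈ Z) : ∀ a ∈ zpowers σ, x⁻¹ * (a * x * a⁻¹) ∈ Z := by
  let H : Subgroup G :=
    { carrier := {a | a ∈ normalizer (Z : Set G) ∧ x⁻¹ * (a * x * a⁻¹) ∈ Z}
      one_mem' := ⟨one_mem _, by simp⟩
      mul_mem' := by
        rintro a b ⟨ha, ha'⟩ ⟨hb, hb'⟩
        refine ⟨mul_mem ha hb, ?_⟩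
        have e : x⁻¹ * (a * b * x * (a * b)⁻¹) = (x⁻¹ * (a * x * a⁻¹)) * (a * (x⁻¹ * (b * x * b⁻¹)) * a⁻¹) := by group
        rw [e]
        exact mul_mem ha' (((mem_normalizer_iff.1 ha) _).1 hb')
      inv_mem' := by
        rintro a ⟨ha, ha'⟩
        refine ⟨inv_mem ha, ?_⟩
        have e : x⁻¹ * (a⁻¹ * x * a⁻¹⁻¹) = a⁻¹ * (x⁻¹ * (a * x * a⁻¹))⁻¹ * a⁻¹⁻¹ := by group
        rw [e]
        exact ((mem_normalizer_iff.1 (inv_mem ha)) _).1 (inv_mem ha') }
  have h1 : zpowers σ ≤ H := zpowers_le.2 ⟨hσ, h⟩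
  exact fun a ha => (h1 ha).2

/-- **Fixed point theorem** (BG 3.4), solvable module. -/
theorem fix_solv [Finite G] {q r : ℕ} [hq : Fact q.Prime] (hr : r.Prime) (hq2 : q ≠ 2) (hqr : q ≠ r) {N K : Subgroup G}
    (hN : Group.IsSolvable N) (hqN : ¬ q ∣ Nat.card N) (hrN : ¬ r ∣ Nat.card N) (hK : IsPGroup q K)
    (hKN : K ≤ normalizer (N : Set G)) {σ : G} (hσ : σ ^ r = 1) (hσN : σ ∈ normalizer (N : Set G))
    (hσK : σ ∈ normalizer (K : Set G)) (hfix : N ⊓ centralizer ({σ} : Set G) = ⊥) :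
    ⁅K, zpowers σ⁆ ≤ centralizer (N : Set G) := by
  set D := ⁅K, zpowers σ⁆ with hD
  have hzσN : zpowers σ ≤ normalizer (N : Set G) := zpowers_le.2 hσN
  have hDK : D ≤ K := H22.Basic.commutator_le_left (zpowers_le.2 hσK)
  have hDN : D ≤ normalizer (N : Set G) := hDK.trans hKN
  have hKD : K ≤ normalizer (D : Set G) := H22.Basic.left_le_normalizer_commutator K (zpowers σ)
  have hσD : zpowers σ ≤ normalizer (D : Set G) := H22.Basic.right_le_normalizer_commutator K (zpowers σ)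
  set N₁ := ⁅N, D⁆ with hN₁
  have hN₁N : N₁ ≤ N := H22.Basic.commutator_le_left hDN
  have hKN₁ : K ≤ normalizer (N₁ : Set G) := H22.Basic.le_normalizer_commutator hKN hKD
  have hσN₁ : zpowers σ ≤ normalizer (N₁ : Set G) := H22.Basic.le_normalizer_commutator hzσN hσD
  have hcopD : (Nat.card D).Coprime (Nat.card N) := by
    obtain ⟨n, hn⟩ := IsPGroup.iff_card.1 (hK.to_le hDK)
    rw [hn]
    exact Nat.Coprime.pow_left _ ((Nat.Prime.coprime_iff_not_dvd hq.out).2 hqN)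
  have hself : ⁅N₁, D⁆ = N₁ := H1.Coprime.commutator_commutator_eq D N hDN hcopD (Or.inr hN)
  by_cases hne : N₁ = ⊥
  · rw [← commutator_eq_bot_iff_le_centralizer, commutator_comm]
    exact hne
  exfalso
  have hN₁s : Group.IsSolvable N₁ := BG1.isSolvable_of_le hN₁N hN
  obtain ⟨p, hp, Z, hpd, hZN, hZne, hZc, hZp, hZn⟩ := exists_ea_quot hN₁s hne
  have : Fact p.Prime := ⟨hp⟩
  have hpN : p ∣ Nat.card N := hpd.trans (card_dvd_of_le hN₁N)
  have hqp : q ≠ p := fun h => hqN (h ▸ hpN)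
  have hrp : r ≠ p := fun h => hrN (h ▸ hpN)
  have hσZ : zpowers σ ≤ normalizer (Z : Set G) := hσN₁.trans hZn
  have hcopZ : (Nat.card (zpowers σ)).Coprime (Nat.card Z) := by
    rw [Nat.card_zpowers]
    have h1 : orderOf σ ∣ r := orderOf_dvd_of_pow_eq_one hσ
    exact Nat.Coprime.coprime_dvd_left h1 (Nat.Coprime.coprime_dvd_right (card_dvd_of_le (hZN.trans hN₁N))
      ((Nat.Prime.coprime_iff_not_dvd hr).2 hrN))
  have hN₁Z : N₁ ≤ normalizer (Z : Set G) := RepF.le_normalizer_of_commutator_le hZN hZc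
  have h1 := fix_section (p := p) hr hq2 hqp hqr hrp hZN hZc hZp hK hKN₁ (hKN₁.trans hZn) hσ (hσN₁ (mem_zpowers σ))
    (hσZ (mem_zpowers σ)) hσK (by
      intro x hx h
      have h2 : x⁻¹ * (σ * x * σ⁻¹) ∈ Z := by
        have e : x⁻¹ * (σ * x * σ⁻¹) = x⁻¹ * (σ * x * σ⁻¹ * x⁻¹) * x⁻¹⁻¹ := by group
        rw [e]
        exact ((Subgroup.mem_normalizer_iff.mp (inv_mem (hN₁Z hx))) _).mp h
      obtain ⟨d, hd, hxd⟩ := H1.Coprime.exists_mul_mem_centralizer hσZ hcopZ
        (Or.inr (BG1.isSolvable_of_le hZN hN₁s)) x (fix_zpowers (hσZ (mem_zpowers σ)) h2)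
      have h3 : x * d ∈ N ⊓ centralizer ({σ} : Set G) := by
        refine mem_inf.2 ⟨hN₁N (mul_mem hx (hZN hd)), ?_⟩
        exact centralizer_le (Set.singleton_subset_iff.2 (mem_zpowers σ)) hxd
      rw [hfix, mem_bot] at h3
      have : x = d⁻¹ := eq_inv_of_mul_eq_one_left h3
      rw [this]
      exact inv_mem hd)
  apply hZne
  apply le_antisymm hZN
  have h4 : ⁅N₁, D⁆ ≤ Z := h1
  rwa [hself] at h4

end Cfsg.Agent.H12.Sect
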