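import Mathlib
import Cfsg.Agent.H12_BG11b
import Cfsg.Agent.H12_Sect

/-! BG section 11, continued: 11.7 -/

set_option autoImplicit false
set_option linter.unusedSectionVars false

open Pointwise
open scoped commutatorElement

namespace Cfsg.Agent.H12.BG11

open Cfsg Subgroup H13.Syl H12.Loc H12.Trans H12.BG7 H12.Puig H12.BG9 H12.BG10 H12.BG12

universe u

variable {G : Type u} [Group G] [Finite G]

/-- a variant of `cent_of_narrow` -/
theorem cent_of_nar {p q : ℕ} [hp : Fact p.Prime] [hq : Fact q.Prime] (hpq : p ≠ q) (hq2 : q ≠ 2) {X Q P : Subgroup G}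
    (hX : Group.IsSolvable X) (hodd : Odd (Nat.card X)) (hQX : Q ≤ X) (hn : X ≤ normalizer (Q : Set G)) (hQ : IsPGroup q Q)
    (hnar : PRankLE q 2 Q ∨ ∃ (E : Subgroup Q) (x : Q), Narrow.Nar q Q E x) (hP : IsPGroup p P) (hPX : P ≤ ⁅X, X⁆) :
    P ≤ centralizer (Q : Set G) := by
  have hnorm : (Q.subgroupOf X).Normal := Core.normal_subgroupOf_of_le hn
  have hQ' : IsPGroup q (Q.subgroupOf X) := by
    intro x
    obtain ⟨k, hk⟩ := hQ ⟨x.1.1, mem_subgroupOf.1 x.2⟩
    refine ⟨k, ?_⟩
    apply Subtype.ext; apply Subtype.ext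
    have := congrArg Subtype.val hk
    simpa using this
  have key : ∀ g ∈ commutator X, ∃ n, g ^ (q ^ n) ∈ centralizer ((Q.subgroupOf X : Subgroup X) : Set X) := by
    rcases hnar with hr | ⟨E, x, hx⟩
    · intro g hg
      refine Rank2.comm_pow_of_normal hodd hQ' ?_ g hg
      exact SCN.pRankLE_of_injective (subgroupOfEquivOfLe hQX).toMonoidHom (subgroupOfEquivOfLe hQX).injective hr
    · intro g hg
      exact Narrow.comm_pow_of_nar hq2 hQ' (hx.map (subgroupOfEquivOfLe hQX).symm) g hg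
  intro g hg
  have h1 : g ∈ ⁅X, X⁆ := hPX hg
  rw [← map_commutator_subtype] at h1
  obtain ⟨g', hg', rfl⟩ := h1
  obtain ⟨n, hn⟩ := key g' hg'
  obtain ⟨m, hm⟩ := hP ⟨_, hg⟩
  have hm' : (g' : G) ^ (p ^ m) = 1 := by
    have := congrArg Subtype.val hm
    simpa using this
  refine Fit.mem_centralizer_of_pow (p := p) (q := q) (n := m) (m := n) (C := centralizer (Q : Set G)) hp.out hq.out hpq hm' ?_
  rw [mem_centralizer_iff]
  intro y hy
  have := mem_centralizer_iff.1 hn ⟨y, hQX hy⟩ (mem_subgroupOf.2 hy)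
  have := congrArg Subtype.val this
  simpa using this

/-- a `q`-group with a subgroup of order `q` whose centralizer has rank at most 2 -/
theorem nar_of_cent {q : ℕ} [hq : Fact q.Prime] {Q D : Subgroup G} (hQ : IsPGroup q Q) (hDQ : D ≤ Q) (hD : IsElementaryAbelian q D)
    (hr : PRankLE q 2 ↥(Q ⊓ centralizer (D : Set G))) :
    PRankLE q 2 Q ∨ ∃ (E : Subgroup Q) (x : Q), Narrow.Nar q Q E x := by
  by_cases hr2 : PRankLE q 2 Q
  · exact Or.inl hr2
  right
  have hD' : IsElementaryAbelian q (D.subgroupOf Q) := by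
    refine ⟨⟨⟨fun a b => ?_⟩⟩, fun x hx => Subtype.ext (hD.2 x (mem_subgroupOf.1 hx))⟩
    apply Subtype.ext; apply Subtype.ext
    have : ((a : Q) : G) * ((b : Q) : G) = ((b : Q) : G) * ((a : Q) : G) :=
      congrArg Subtype.val (hD.1.is_comm.comm (⟨_, mem_subgroupOf.1 a.2⟩ : D) ⟨_, mem_subgroupOf.1 b.2⟩)
    simpa using this
  obtain ⟨E, hDE, hE, hmax⟩ := Narrow.exists_max_ge hD'
  have hE2 : Nat.card E ≤ q ^ 2 := by
    have h1 : E.map Q.subtype ≤ Q ⊓ centralizer (D : Set G) := by
      rintro _ ⟨x, hx, rfl⟩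
      refine mem_inf.2 ⟨x.2, ?_⟩
      rw [mem_centralizer_iff]
      intro y hy
      have hy' : (⟨y, hDQ hy⟩ : Q) ∈ E := hDE (mem_subgroupOf.2 hy)
      have : (⟨y, hDQ hy⟩ : Q) * x = x * ⟨y, hDQ hy⟩ :=
        congrArg Subtype.val (hE.1.is_comm.comm (⟨_, hy'⟩ : E) ⟨_, hx⟩)
      exact congrArg Subtype.val this
    have h2 := SCN.pRankLE_iff.1 hr _ h1 (by
      have := hE.1
      refine ⟨inferInstance, ?_⟩
      rintro _ ⟨x, hx, rfl⟩
      rw [← map_pow, hE.2 x hx, map_one])
    rwa [card_map_of_injective Q.subtype_injective] at h2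
  obtain ⟨x, hx⟩ := Narrow.nar_of_max hQ hr2 E hE hE2 hmax
  exact ⟨E, x, hx⟩

/-- primes acting on a group of rank at most 2 -/
theorem lt_of_act {p q : ℕ} [hp : Fact p.Prime] [hq : Fact q.Prime] (hp2 : p ≠ 2) (hqp : q ≠ p) {R Y : Subgroup G} (hR : IsPGroup p R)
    (hr : PRankLE p 2 R) (hY : IsPGroup q Y) (hn : Y ≤ normalizer (R : Set G)) (hc : ¬ Y ≤ centralizer (R : Set G)) : q < p := by
  obtain ⟨y, hy, hyc⟩ : ∃ y ∈ Y, y ∉ centralizer (R : Set G) := by
    by_contra h
    push Not at h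
    exact hc h
  set N := normalizer (R : Set G) with hN
  have hRN : R ≤ N := le_normalizer
  have hnorm : (R.subgroupOf N).Normal := Core.normal_subgroupOf_of_le le_rfl
  have hR' : IsPGroup p (R.subgroupOf N) := by
    intro x
    obtain ⟨k, hk⟩ := hR ⟨x.1.1, mem_subgroupOf.1 x.2⟩
    refine ⟨k, ?_⟩
    apply Subtype.ext; apply Subtype.ext
    have := congrArg Subtype.val hk
    simpa using this
  refine Rank2.prime_lt_of_normal hp2 hR' ?_ hq.out hqp (⟨y, hn hy⟩ : N) ?_ ?_
  · exact SCN.pRankLE_of_injective (subgroupOfEquivOfLe hRN).toMonoidHom (subgroupOfEquivOfLe hRN).injective hr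
  · obtain ⟨n, hn'⟩ := hY ⟨y, hy⟩
    refine ⟨n, Subtype.ext ?_⟩
    have := congrArg Subtype.val hn'
    simpa using this
  · intro h
    apply hyc
    rw [mem_centralizer_iff]
    intro z hz
    have := mem_centralizer_iff.1 h ⟨z, hRN hz⟩ (mem_subgroupOf.2 hz)
    exact congrArg Subtype.val this

theorem pRankLE_of_cyclic {q : ℕ} [hq : Fact q.Prime] {T : Subgroup G} (hT : IsCyclic T) : PRankLE q 1 T := by
  rw [SCN.pRankLE_iff]
  intro F hF he
  have h1 : IsCyclic F := isCyclic_of_injective (inclusion hF) (inclusion_injective hF)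
  obtain ⟨g, hg⟩ := h1.exists_generator
  have h2 : orderOf g = Nat.card F := orderOf_eq_card_of_forall_mem_zpowers hg
  have h3 : g ^ q = 1 := Subtype.ext (he.2 g g.2)
  rw [← h2, pow_one]
  exact Nat.le_of_dvd hq.out.pos (orderOf_dvd_of_pow_eq_one h3)

theorem pRankLE_le {p k l : ℕ} [hp : Fact p.Prime] (hkl : k ≤ l) {X : Subgroup G} (h : PRankLE p k X) : PRankLE p l X := by
  rw [SCN.pRankLE_iff] at h ⊢
  exact fun F hF he => (h F hF he).trans (Nat.pow_le_pow_right hp.out.pos hkl)

theorem comm_sup_le {T A₁ A₂ C : Subgroup G} (h1 : ⁅T, A₁⁆ ≤ C) (h2 : ⁅T, A₂⁆ ≤ C) (hn : A₁ ≤ normalizer (C : Set G))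
    (hn2 : A₂ ≤ normalizer (A₁ : Set G)) : ⁅T, A₁ ⊔ A₂⁆ ≤ C := by
  rw [commutator_le]
  intro t ht a ha
  obtain ⟨x, hx, y, hy, rfl⟩ := (H22.Basic.mem_sup_of_le_normalizer hn2).1 ha
  have e : ⁅t, x * y⁆ = ⁅t, x⁆ * (x * ⁅t, y⁆ * x⁻¹) := by simp only [commutatorElement_def]; group
  rw [e]
  exact mul_mem (h1 (commutator_mem_commutator ht hx)) ((mem_normalizer_iff.1 (hn hx) _).1 (h2 (commutator_mem_commutator ht hy)))

theorem sup_of_ne {p : ℕ} [hp : Fact p.Prime] {A A₁ A₂ : Subgroup G} (hA : IsMulCommutative A) (hc : Nat.card A = p ^ 2) (h1 : A₁ ≤ A) (h2 : A₂ ≤ A)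
    (c1 : Nat.card A₁ = p) (c2 : Nat.card A₂ = p) (hne : A₁ ≠ A₂) : A₁ ⊔ A₂ = A := by
  have h3 : A₁ ⊓ A₂ = ⊥ := by
    by_contra hb
    have hd : Nat.card ↥(A₁ ⊓ A₂) ∣ p := c1 ▸ card_dvd_of_le inf_le_left
    rcases (Nat.dvd_prime hp.out).1 hd with h | h
    · exact hb (eq_bot_of_card_eq _ h)
    · have e1 : A₁ ⊓ A₂ = A₁ := Subgroup.eq_of_le_of_card_ge inf_le_left (by rw [h, c1])
      have e2 : A₁ ⊓ A₂ = A₂ := Subgroup.eq_of_le_of_card_ge inf_le_right (by rw [h, c2])
      exact hne (e1.symm.trans e2)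
  apply Subgroup.eq_of_le_of_card_ge (sup_le h1 h2)
  have h4 : A₂ ≤ normalizer (A₁ : Set G) :=
    (h2.trans ((le_centralizer A).trans (centralizer_le h1))).trans (centralizer_le_normalizer _)
  rw [H22.Basic.card_sup_of_inf_eq_bot h4 h3, hc, c1, c2, pow_two]

theorem le_of_sylow_each {X L : Subgroup G} (hL : L ≤ X) (h : ∀ q : ℕ, q.Prime → q ∣ Nat.card X → ∃ T : Subgroup G, IsSylIn q T X ∧ T ≤ L) :
    X ≤ L := by
  rw [← relIndex_eq_one]
  by_contra hne
  obtain ⟨q, hq, hqd⟩ := Nat.exists_prime_and_dvd hne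
  have : Fact q.Prime := ⟨hq⟩
  have hd : q ∣ Nat.card X := hqd.trans (by rw [← Hall.relIndex_mul hL]; exact dvd_mul_right _ _)
  obtain ⟨T, hT, hTL⟩ := h q hq hd
  apply hT.not_dvd
  rw [← relIndex_mul_relIndex T L X hTL hL]
  exact hqd.mul_left _

set_option maxHeartbeats 1000000 in
/-- BG 11.7 -/
theorem Exc.thm117 (hG : IsMinSimpleOddOrder G) {M : Subgroup G} {p : ℕ} [hp : Fact p.Prime] {A A₀ : Subgroup G} (h : Exc M p A A₀)
    {K : Subgroup G} (hK : IsPiHallOf (sigma M)ᶜ K M) (hAK : A ≤ K) : K ≤ normalizer (A : Set G) ∧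
      M ≤ normalizer ((sigmaCore M ⊔ A : Subgroup G) : Set G) := by
  have hM := h.co
  have hp2 : p ≠ 2 := prime_ne_two hG (dvd_of_card_sq h.e2.card)
  have hKσ : SigmaC M K := Hall.pi hK
  have hKM : K ≤ M := Hall.le hK
  have hKt : K ≠ ⊤ := fun h' => hM.1 (top_le_iff.1 (h' ▸ hKM))
  have hKs : Group.IsSolvable K := solvable_of_ne_top hG hKt
  obtain ⟨P, hAP, hPK⟩ := exists_isSylIn_ge (p := p) (H := K) h.e2.isPGroup hAK
  have hPM : IsSylIn p P M := Hall.sylow_trans hK h.ns hPK
  have hPab := h.thm115 hG hPM hAP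
  obtain ⟨ha, hNPA, -, A₁, A₂, hA1, hA2, c1, c2, hne12, f1, f2⟩ := h.thm116 hG hPM hAP
  have hAab : IsMulCommutative A := h.e2.ea.1
  have hsup12 : A₁ ⊔ A₂ = A := sup_of_ne hAab h.e2.card hA1 hA2 c1 c2 hne12
  obtain ⟨hYc, hYn⟩ := cent_sigma_cyclic hG hM hKM hKσ
  set Y := K ⊓ centralizer (sigmaCore M : Set G) ⊓ ⁅K, K⁆ with hY
  have hMs := solvable_of_ne_top hG hM.1
  -- step 1
  have step1 : ∀ q : ℕ, q.Prime → q ≠ p → ∀ T : Subgroup G, IsSylIn q T (Oc p K) → A ≤ normalizer (T : Set G) → T ≤ centralizer (A : Set G) := by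
    intro q hq hqp T hT hAT
    haveI : Fact q.Prime := ⟨hq⟩
    by_contra hTne
    have hTK : T ≤ K := hT.le.trans (Oc_le p K)
    have hTb : T ≠ ⊥ := by rintro rfl; exact hTne bot_le
    have hqK : q ∣ Nat.card K := dvd_card_of_le hT.isPGroup hTb hTK
    have hqσ : q ∉ sigma M := hKσ q hq hqK
    have hqG : q ∣ Nat.card G := hqK.trans (card_subgroup_dvd_card K)
    have hq2 : q ≠ 2 := prime_ne_two hG hqG
    set D := ⁅T, A⁆ with hD
    have hDT : D ≤ T := H1.Coprime.commutator_le_of_le_normalizer hAT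
    have hcop : (Nat.card A).Coprime (Nat.card T) := by
      apply Nat.Coprime.symm
      apply coprime_of_prime hq _ hT.isPGroup
      rw [h.e2.card]
      intro hd
      exact hqp ((Nat.prime_dvd_prime_iff_eq hq hp.out).1 (hq.dvd_of_dvd_pow hd))
    have hAs : Group.IsSolvable A := BG1.isSolvable_of_le hAK hKs
    have hDD : ⁅D, A⁆ = D := H1.Coprime.commutator_commutator_eq A T hAT hcop (Or.inl hAs)
    have hDb : D ≠ ⊥ := by
      intro hb
      exact hTne (Subgroup.commutator_eq_bot_iff_le_centralizer.1 hb)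
    have hAD : A ≤ normalizer (D : Set G) := H22.Basic.right_le_normalizer_commutator T A
    have hDK : D ≤ K := hDT.trans hTK
    -- D centralizes M_σ
    have hpσ : ¬ p ∣ Nat.card (sigmaCore M) := fun hd => h.ns (Core.piCoreOf_piNum (sigma M) M p hp.out hd)
    have hqσ' : ¬ q ∣ Nat.card (sigmaCore M) := fun hd => hqσ (Core.piCoreOf_piNum (sigma M) M q hq hd)
    have hcen : ∀ B : Subgroup G, B ≤ A → Nat.card B = p → sigmaCore M ⊓ centralizer (B : Set G) = ⊥ →
        ⁅T, B⁆ ≤ centralizer (sigmaCore M : Set G) := by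
      intro B hBA hBc hBf
      obtain ⟨b, rfl, hbp, hb1⟩ := exists_gen hBc
      have hbA : b ∈ A := hBA (mem_zpowers b)
      refine Sect.fix_solv hp.out hq2 hqp (isSolvable_sigmaCore hG hM) hqσ' hpσ hT.isPGroup
        (hTK.trans (hKM.trans (le_normalizer_sigmaCore M))) hbp (le_normalizer_sigmaCore M (h.le hbA)) (hAT hbA) ?_
      rw [← centralizer_zpowers]; exact hBf
    have hMC : M ≤ normalizer (centralizer (sigmaCore M : Set G) : Set G) := by
      intro m hm
      rw [mem_normalizer_iff_cj, cj_centralizer, cj_eq_of_mem_normalizer (le_normalizer_sigmaCore M hm)]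
    have hDC : D ≤ centralizer (sigmaCore M : Set G) := by
      rw [hD, ← hsup12]
      refine comm_sup_le (hcen A₁ hA1 c1 f1) (hcen A₂ hA2 c2 f2) ((hA1.trans h.le).trans hMC) ?_
      exact (hA2.trans ((le_centralizer A).trans (centralizer_le hA1))).trans (centralizer_le_normalizer _)
    have hDY : D ≤ Y := le_inf (le_inf hDK hDC) (commutator_mono hTK hAK)
    have hDcyc : IsCyclic D := isCyclic_of_injective (inclusion hDY) (inclusion_injective hDY)
    have hMD : M ≤ normalizer (D : Set G) := normal_of_cyclic hYc hDY hYn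
    have hDp : IsPGroup q D := hT.isPGroup.to_le hDT
    by_cases hqC : q ∣ Nat.card (centralizer (A : Set G))
    · obtain ⟨Q, hQ, hDQ⟩ := exists_maxInv_ge (A := A) (q := q) (R := D) ⟨hDp, hAD⟩
      obtain ⟨P', hP', hAP', hPN', -, hPc', -⟩ := thm1010 hG hqp.symm h.e2 hqC hQ
      have hQb : Q ≠ ⊥ := fun hb => hDb (le_bot_iff.1 (hb ▸ hDQ))
      have hNt : normalizer (Q : Set G) ≠ ⊤ := normalizer_ne_top hG hQb (ne_top_of_isPGroup hG hQ.1.1)
      set D₁ := OZ q D with hD₁
      have hD₁b : D₁ ≠ ⊥ := OZ_ne_bot hDp hDb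
      have hND₁ : centralizer (D₁ : Set G) ≤ M := by
        have h1 : M ≤ normalizer (D₁ : Set G) := hMD.trans (normalizer_le_OZ q D)
        have h2 : normalizer (D₁ : Set G) = M :=
          normalizer_eq_of_isCoatom hG hM hD₁b h1 ((OZ_le q D).trans (hDK.trans hKM))
        rw [← h2]
        exact centralizer_le_normalizer _
      have hr2 : PRankLE q 2 ↥(Q ⊓ centralizer (D₁ : Set G)) :=
        SCN.pRankLE_mono (inf_le_right.trans hND₁) (pRankLE_two_of_not_sigma hG hM hq hqσ)
      have hnar := nar_of_cent hQ.1.1 ((OZ_le q D).trans hDQ) (OZ_ea q D) hr2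
      have h3 := cent_of_nar hqp.symm hq2 (solvable_of_ne_top hG hNt) (odd_card_subgroup hG _) le_normalizer le_rfl hQ.1.1 hnar
        hP'.isPGroup hPc'
      apply hDb
      rw [← hDD]
      rw [commutator_comm, Subgroup.commutator_eq_bot_iff_le_centralizer]
      exact (hAP'.trans h3).trans (centralizer_le hDQ)
    · -- case 2
      have hTC : T ⊓ centralizer (A : Set G) = ⊥ := by
        by_contra hb
        exact hqC (dvd_card_of_le (hT.isPGroup.to_le inf_le_left) hb inf_le_right)
      have hTD : D = T := by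
        have := H1.Coprime.commutator_sup_centralizer A T hAT hcop (Or.inl hAs)
        rwa [hTC, sup_bot_eq] at this
      have hpq : p < q := by
        refine lt_of_act (p := q) (q := p) hq2 hqp.symm (R := D) (Y := A) hDp
          (pRankLE_le (by norm_num) (pRankLE_of_cyclic (q := q) hDcyc)) h.e2.isPGroup hAD ?_
        intro hc
        apply hDb
        rw [← hDD, commutator_comm, Subgroup.commutator_eq_bot_iff_le_centralizer]
        exact hc
      have hAr : PRankLE p 2 A := by
        rw [SCN.pRankLE_iff]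
        intro F hF _
        rw [← h.e2.card]
        exact H22.Basic.card_le_of_le hF
      have hy : ¬ q ∣ Nat.card ↥(K ⊓ normalizer (P : Set G)) := by
        intro hd
        obtain ⟨y, hyo⟩ := exists_prime_orderOf_dvd_card' q hd
        have hyq : (y : G) ^ q = 1 := by
          have := pow_orderOf_eq_one y
          rw [hyo] at this
          exact congrArg Subtype.val this
        have hy1 : (y : G) ≠ 1 := by
          intro h1
          have : y = 1 := Subtype.ext h1
          rw [this, orderOf_one] at hyo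
          exact hq.one_lt.ne hyo
        have hyo' : orderOf (y : G) = q := orderOf_eq_prime hyq hy1
        have hYp : IsPGroup q (zpowers (y : G)) := by
          rw [IsPGroup.iff_card]
          exact ⟨1, by rw [Nat.card_zpowers, hyo', pow_one]⟩
        have hlt : q < p := by
          refine lt_of_act (p := p) (q := q) hp2 hqp (R := A) (Y := zpowers (y : G)) h.e2.isPGroup hAr hYp ?_ ?_
          · rw [zpowers_le]
            exact hNPA (mem_inf.1 y.2).2
          · intro hc
            apply hqC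
            have := card_dvd_of_le hc
            rwa [Nat.card_zpowers, hyo'] at this
        omega
      have hfr := frattini_rank_two hG hKt hPK (h.e2.card ▸ (dvd_pow_self p two_ne_zero) |>.trans (card_dvd_of_le hAK))
        (SCN.pRankLE_mono hKM (pRankLE_two_of_not_sigma hG hM hp.out h.ns))
      have hTKs : IsSylIn q T K := by
        refine ⟨hTK, hT.isPGroup, ?_⟩
        rw [← relIndex_mul_relIndex T (Oc p K) K hT.le (Oc_le p K), hq.dvd_mul]
        rintro (h1 | h1)
        · exact hT.not_dvd h1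
        · apply hy
          have h2 : K = (K ⊓ normalizer (P : Set G)) ⊔ Oc p K := by
            apply le_antisymm
            · rw [sup_comm]; exact hfr
            · exact sup_le inf_le_left (Oc_le p K)
          have h3 : (Oc p K).relIndex K = (Oc p K).relIndex (K ⊓ normalizer (P : Set G)) := by
            have hn : (K ⊓ normalizer (P : Set G)) ≤ normalizer (Oc p K : Set G) := inf_le_left.trans (le_normalizer_Oc p K)
            have h4 : (Oc p K).relIndex K = (Oc p K).relIndex ((K ⊓ normalizer (P : Set G)) ⊔ Oc p K) :=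
              congrArg (fun X => (Oc p K).relIndex X) h2
            exact h4.trans (H1.Basic.relIndex_sup_of_le_normalizer hn)
          rw [h3] at h1
          exact h1.trans (relIndex_dvd_card _ _)
      have hTM : IsSylIn q T M := Hall.sylow_trans hK hqσ hTKs
      rw [← hTD] at hTM
      have hN : normalizer (D : Set G) = M := normalizer_eq_of_isCoatom hG hM hDb hMD (hDK.trans hKM)
      exact hqσ (sigma_of_normalizer hq (hqK.trans (card_dvd_of_le hKM)) hTM hN.le)
  -- step 2
  have hAO : A ≤ normalizer (Oc p K : Set G) := hAK.trans (le_normalizer_Oc p K)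
  have hOs : Group.IsSolvable (Oc p K) := BG1.isSolvable_of_le (Oc_le p K) hKs
  have hcopO : (Nat.card A).Coprime (Nat.card (Oc p K)) := by
    rw [h.e2.card]
    exact Nat.Coprime.pow_left _ (Nat.Coprime.symm (Oc_coprime hp.out K))
  have step2 : Oc p K ≤ centralizer (A : Set G) := by
    refine (le_of_sylow_each (L := Oc p K ⊓ centralizer (A : Set G)) inf_le_left ?_).trans inf_le_right
    intro q hq hqd
    haveI : Fact q.Prime := ⟨hq⟩
    obtain ⟨T, hT⟩ := H1.Coprime.invariant_sylow_exists A (Oc p K) hAO hcopO (Or.inr hOs) q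
    have hTs := isSylIn_map_subtype T
    have hqp : q ≠ p := by
      rintro rfl
      have := Nat.Coprime.symm (Oc_coprime hp.out K)
      exact ((Nat.Prime.coprime_iff_not_dvd hp.out).1 this) hqd
    exact ⟨_, hTs, le_inf hTs.le (step1 q hq hqp _ hTs hT)⟩
  -- step 3
  have step3 : A ≤ Oq p K := by
    have h1 : fittingOf K ≤ centralizer (A : Set G) := by
      rw [fittingOf_le_iff]
      intro q hq
      haveI : Fact q.Prime := ⟨hq⟩
      by_cases hqp : q = p
      · subst hqp
        have h2 : Oq q K ≤ P := by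
          obtain ⟨x, hx, hxe⟩ := hPK.exists_conj_le (Oq_isPGroup hq K) (Oq_le q K)
          rwa [cj_eq_of_mem_normalizer (le_normalizer_Oq q K hx)] at hxe
        exact h2.trans ((le_centralizer P).trans (centralizer_le hAP))
      · refine le_trans ?_ step2
        apply le_Oc hp.out (Oq_le q K) (le_normalizer_Oq q K)
        exact coprime_of_prime hq (fun hd => hqp ((Nat.prime_dvd_prime_iff_eq hq hp.out).1 hd)) (Oq_isPGroup hq K)
    have h2 : A ≤ fittingOf K := (le_inf hAK (le_centralizer_iff.1 h1)).trans (Core.inf_centralizer_fittingOf_le K hKs)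
    exact le_Oq_of_le_fittingOf hp.out h2 h.e2.isPGroup
  have hKA : K ≤ normalizer (A : Set G) := by
    intro k hk
    rw [mem_normalizer_iff_cj]
    apply Subgroup.eq_of_le_of_card_ge _ (by rw [card_cj])
    rw [cj_le_iff_forall]
    intro a ha'
    have h2 : Oq p K ≤ P := by
      obtain ⟨x, hx, hxe⟩ := hPK.exists_conj_le (Oq_isPGroup hp.out K) (Oq_le p K)
      rwa [cj_eq_of_mem_normalizer (le_normalizer_Oq p K hx)] at hxe
    apply ha
    · exact h2 ((mem_normalizer_iff.1 (le_normalizer_Oq p K hk) a).1 (step3 ha'))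
    · rw [conj_pow, h.e2.ea.2 a ha', mul_one, mul_inv_cancel]
  refine ⟨hKA, ?_⟩
  have h5 : K ⊔ sigmaCore M = M := Hall.sup_eq (sigmaCore_hallOf hG hM) hK (le_normalizer_sigmaCore M)
  refine h5.symm.le.trans ?_
  apply sup_le
  · intro k hk
    rw [mem_normalizer_iff_cj, cj_sup, cj_eq_of_mem_normalizer (hKA hk), cj_eq_of_mem_normalizer (le_normalizer_sigmaCore M (hKM hk))]
  · exact le_sup_left.trans le_normalizer

end Cfsg.Agent.H12.BG11
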