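import Mathlib
import Cfsg.Agent.H12_BG11c

/-! BG 12.2, 12.3, 12.4 -/

set_option autoImplicit false
set_option linter.unusedSectionVars false

open Pointwise
open scoped commutatorElement

namespace Cfsg.Agent.H12.BG12

open Cfsg Subgroup H13.Syl H12.Loc H12.Trans H12.BG7 H12.Puig H12.BG9 H12.BG10 H12.BG11

universe u

variable {G : Type u} [Group G] [Finite G]

/-- `M` is the unique maximal subgroup containing `X` -/
def UMax (M X : Subgroup G) : Prop := X ≤ M ∧ ∀ L : Subgroup G, IsCoatom L → X ≤ L → L = M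

/-- BG 12.2(a) -/
theorem thm122a (hG : IsMinSimpleOddOrder G) {H X : Subgroup G} (hH : IsCoatom H) {p : ℕ} [hp : Fact p.Prime] (hX : IsPGroup p X)
    (hXb : X ≠ ⊥) (hN : normalizer (X : Set G) ≤ H) : p ∈ sigma H ∨ p ∈ tau2 H := by
  by_contra hne
  push Not at hne
  obtain ⟨hσ, hτ⟩ := hne
  have h2 := pRankLE_two_of_not_sigma hG hH hp.out hσ
  have h1 : PRankLE p 1 H := by
    by_contra h1
    exact hτ ⟨hp.out, hσ, h2, h1⟩
  obtain ⟨P, hXP, hP⟩ := exists_isSylIn_ge (p := p) (H := H) hX (le_normalizer.trans hN)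
  have hPc : IsCyclic P := cyclic_sylow hG hP.isPGroup (SCN.pRankLE_mono hP.le h1)
  have h3 : normalizer (P : Set G) ≤ normalizer (X : Set G) := normal_of_cyclic hPc hXP le_rfl
  exact hσ (sigma_of_normalizer hp.out (dvd_card_of_le hX hXb (le_normalizer.trans hN)) hP (h3.trans hN))

/-- BG 12.2(b) -/
theorem not_conj (hG : IsMinSimpleOddOrder G) {M H X : Subgroup G} (hM : IsCoatom M) (hne : H ≠ M) {p : ℕ} [hp : Fact p.Prime]
    (hX : IsPGroup p X) (hXb : X ≠ ⊥) (hXM : X ≤ M) (hN : normalizer (X : Set G) ≤ H) (hσ : p ∈ sigma M) : ∀ g : G, H ≠ cj g M := by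
  rintro g rfl
  have h1 : X ≤ cj g M := le_normalizer.trans hN
  have h2 : cj g⁻¹ X ≤ M := by
    rw [cj_le_iff, inv_inv]; exact h1
  obtain ⟨m, hm, c, hc, he⟩ := (thm101 hG hM hσ hX hXb hXM).1 g⁻¹ h2
  have h3 : cj g M = cj c⁻¹ M := by
    have : g = c⁻¹ * m⁻¹ := by rw [← mul_inv_rev, ← he, inv_inv]
    rw [this, cj_mul, cj_eq_of_mem (inv_mem hm)]
  have h4 : c ∈ cj g M := hN (centralizer_le_normalizer _ hc)
  rw [h3, mem_cj, inv_inv] at h4
  have h5 : c ∈ M := by
    have : c * c * c⁻¹ = c := by group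
    rwa [this] at h4
  apply hne
  rw [h3, cj_eq_of_mem (inv_mem h5)]

/-- a `p'`-subgroup of `N A`, `A` a `p`-group, lies in `N` -/
theorem le_of_sup {p : ℕ} [hp : Fact p.Prime] {N A Y : Subgroup G} (hA : IsPGroup p A) (hn : A ≤ normalizer (N : Set G)) (hY : Y ≤ A ⊔ N)
    (hp' : ¬ p ∣ Nat.card Y) : Y ≤ N := by
  set L := A ⊔ N with hL
  have hNL : N ≤ L := le_sup_right
  have h1 : L ≤ normalizer (N : Set G) := sup_le hn le_normalizer
  have h2 : (N.subgroupOf L).Normal := Core.normal_subgroupOf_of_le h1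
  have h3 : (N.subgroupOf L).relIndex (Y.subgroupOf L) ∣ (N.subgroupOf L).index := Subgroup.relIndex_dvd_index_of_normal _ _
  have h4 : (N.subgroupOf L).index = N.relIndex A := by
    have := H1.Basic.relIndex_sup_of_le_normalizer hn
    exact this
  have h5 : ∃ k, N.relIndex A = p ^ k := by
    obtain ⟨k, hk⟩ := IsPGroup.iff_card.1 hA
    have h6 := relIndex_dvd_card N A
    rw [hk] at h6
    obtain ⟨l, -, hl⟩ := (Nat.dvd_prime_pow hp.out).1 h6
    exact ⟨l, hl⟩
  obtain ⟨k, hk⟩ := h5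
  have h6 : (N.subgroupOf L).relIndex (Y.subgroupOf L) ∣ Nat.card Y := by
    have := relIndex_dvd_card (N.subgroupOf L) (Y.subgroupOf L)
    rwa [H22.Basic.card_subgroupOf_eq hY] at this
  have h7 : (N.subgroupOf L).relIndex (Y.subgroupOf L) = 1 := by
    apply Nat.eq_one_of_dvd_coprimes _ (h3.trans (by rw [h4, hk])) h6
    exact Nat.Coprime.pow_left _ ((Nat.Prime.coprime_iff_not_dvd hp.out).2 hp')
  intro y hy
  have h8 := relIndex_eq_one.1 h7 (mem_subgroupOf.2 hy : (⟨y, hY hy⟩ : L) ∈ Y.subgroupOf L)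
  exact mem_subgroupOf.1 h8

theorem exists_exc_compl (hG : IsMinSimpleOddOrder G) {M : Subgroup G} {p : ℕ} [hp : Fact p.Prime] {A A₀ : Subgroup G} (h : Exc M p A A₀) :
    ∃ K : Subgroup G, A ≤ K ∧ IsPiHallOf (sigma M)ᶜ K M := by
  have hMs := solvable_of_ne_top hG h.co.1
  refine Hall.exists_hall_ge hMs ?_ h.le
  intro q hq hd
  rw [h.e2.card] at hd
  rw [(Nat.prime_dvd_prime_iff_eq hq hp.out).1 (hq.dvd_of_dvd_pow hd)]
  exact h.ns

/-- 11.7 in the form: `M` normalizes `M_σ A` -/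
theorem Exc.normal (hG : IsMinSimpleOddOrder G) {M : Subgroup G} {p : ℕ} [hp : Fact p.Prime] {A A₀ : Subgroup G} (h : Exc M p A A₀) :
    M ≤ normalizer ((sigmaCore M ⊔ A : Subgroup G) : Set G) := by
  obtain ⟨K, hAK, hK⟩ := exists_exc_compl hG h
  exact (h.thm117 hG hK hAK).2

theorem ea_le_cent {p : ℕ} {A A₀ : Subgroup G} (hA : IsElementaryAbelian p A) (h : A₀ ≤ A) : A ≤ centralizer (A₀ : Set G) := by
  have := hA.1
  exact (le_centralizer A).trans (centralizer_le h)

theorem mk_exc (hG : IsMinSimpleOddOrder G) {H A A₀ : Subgroup G} (hH : IsCoatom H) {p : ℕ} [hp : Fact p.Prime] (hA : IsElementaryAbelian p A)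
    (hAc : Nat.card A = p ^ 2) (h0 : A₀ ≤ A) (hc : Nat.card A₀ = p) (hN : normalizer (A₀ : Set G) ≤ H) (hσ : p ∉ sigma H) : Exc H p A A₀ := by
  have hAH : A ≤ H := ((ea_le_cent hA h0).trans (centralizer_le_normalizer _)).trans hN
  exact ⟨hH, hσ, ⟨hA, hAc, thm105a hG hH hσ hAH hA hAc⟩, hAH, h0, hc, hN⟩

/-- 12.3, case `p ∉ σ(H)` -/
theorem thm123_aux (hG : IsMinSimpleOddOrder G) {M H A A₀ : Subgroup G} (hM : IsCoatom M) (hH : IsCoatom H) (hne : H ≠ M) {p : ℕ}
    [hp : Fact p.Prime] (hAM : A ≤ M) (hA : IsElementaryAbelian p A) (hAc : Nat.card A = p ^ 2) (h0 : A₀ ≤ A) (hc : Nat.card A₀ = p)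
    (hN : normalizer (A₀ : Set G) ≤ H) {X : Subgroup G} (hXσ : X ≤ sigmaCore M) (hXH : X ≤ H) (hAX : A ≤ normalizer (X : Set G))
    (hpX : ¬ p ∣ Nat.card X) (hσ : p ∉ sigma H) : X ≤ centralizer (A : Set G) := by
  have hexc := mk_exc hG hH hA hAc h0 hc hN hσ
  have hAH := hexc.le
  have hn := Exc.normal hG hexc
  have hYX : ⁅X, A⁆ ≤ X := H1.Coprime.commutator_le_of_le_normalizer hAX
  have hY1 : ⁅X, A⁆ ≤ A ⊔ sigmaCore H := by
    rw [sup_comm]
    refine (commutator_mono le_rfl (le_sup_right : A ≤ sigmaCore H ⊔ A)).trans ?_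
    rw [commutator_comm]
    exact H1.Coprime.commutator_le_of_le_normalizer (hXH.trans hn)
  have hY2 : ⁅X, A⁆ ≤ sigmaCore H := le_of_sup (ea_isPGroup hA) (hAH.trans (le_normalizer_sigmaCore H)) hY1
    (fun hd => hpX (hd.trans (card_dvd_of_le hYX)))
  by_contra hcon
  have hYb : ⁅X, A⁆ ≠ ⊥ := fun hb => hcon (Subgroup.commutator_eq_bot_iff_le_centralizer.1 hb)
  apply hne
  symm
  apply hexc.thm114 hG hM hAM
  intro hb
  apply hYb
  rw [eq_bot_iff, ← hb]
  exact le_inf (hYX.trans hXσ) hY2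

/-- in `H'`, elements of coprime order commute modulo `H_α` -/
theorem comm_le_alpha (hG : IsMinSimpleOddOrder G) {H A Y : Subgroup G} (hH : IsCoatom H)
    (hcop : (Nat.card A).Coprime (Nat.card Y)) (hAH : A ≤ ⁅H, H⁆) (hYH : Y ≤ ⁅H, H⁆) (hAY : A ≤ normalizer (Y : Set G)) :
    ⁅Y, A⁆ ≤ alphaCore H := by
  have h1 := nilpotent_quot_alpha hG hH
  set q := QuotientGroup.mk' (piCore (alpha H) H) with hq
  have hYH' : Y ≤ H := hYH.trans (commutator_le_self H)
  have hAH' : A ≤ H := hAH.trans (commutator_le_self H)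
  have key : ∀ X : Subgroup G, X ≤ ⁅H, H⁆ → (X.subgroupOf H).map q ≤ (commutator H).map q := by
    intro X hX
    apply Subgroup.map_mono
    intro x hx
    have h2 := hX (mem_subgroupOf.1 hx)
    rw [← map_commutator_subtype] at h2
    obtain ⟨z, hz, hze⟩ := h2
    have : z = x := Subtype.ext hze
    rwa [← this]
  have hcard : ∀ X : Subgroup G, X ≤ H → Nat.card ((X.subgroupOf H).map q) ∣ Nat.card X := by
    intro X hX
    rw [← H22.Basic.card_subgroupOf_eq hX]
    exact card_map_dvd _ _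
  have hn : (A.subgroupOf H).map q ≤ normalizer (((Y.subgroupOf H).map q : Subgroup _) : Set _) := by
    refine le_trans (Subgroup.map_mono ?_) (le_normalizer_map q)
    intro a ha
    rw [mem_normalizer_iff]
    intro x
    rw [mem_subgroupOf, mem_subgroupOf]
    exact mem_normalizer_iff.1 (hAY (mem_subgroupOf.1 ha)) x
  have h2 := Core.commutator_eq_bot_of_nilpotent_coprime h1 (key Y hYH) (key A hAH) hn
    (Nat.Coprime.coprime_dvd_left (hcard A hAH') (Nat.Coprime.coprime_dvd_right (hcard Y hYH') hcop))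
  rw [commutator_le]
  intro y hy a ha
  have h3 := mem_centralizer_iff.1 (h2 ⟨⟨a, hAH' ha⟩, mem_subgroupOf.2 ha, rfl⟩) (q ⟨y, hYH' hy⟩) ⟨_, mem_subgroupOf.2 hy, rfl⟩
  have h4 : q ⁅(⟨y, hYH' hy⟩ : H), ⟨a, hAH' ha⟩⁆ = 1 := by
    rw [map_commutatorElement, commutatorElement_eq_one_iff_mul_comm]
    exact h3
  exact ⟨_, (QuotientGroup.eq_one_iff _).1 h4, rfl⟩

theorem le_sigmaCore_of_pgroup (hG : IsMinSimpleOddOrder G) {H A : Subgroup G} (hH : IsCoatom H) {p : ℕ} [hp : Fact p.Prime]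
    (hA : IsPGroup p A) (hAH : A ≤ H) (hσ : p ∈ sigma H) : A ≤ sigmaCore H := by
  obtain ⟨T, hAT, hT⟩ := exists_isSylIn_ge (p := p) (H := H) hA hAH
  exact hAT.trans (sylow_le_sigmaCore hG hH hσ hT)

/-- BG 12.3(a) -/
theorem thm123a (hG : IsMinSimpleOddOrder G) {M H A A₀ : Subgroup G} (hM : IsCoatom M) (hH : IsCoatom H) (hne : H ≠ M) {p : ℕ}
    [hp : Fact p.Prime] (hAM : A ≤ M) (hA : IsElementaryAbelian p A) (hAc : Nat.card A = p ^ 2) (h0 : A₀ ≤ A) (hc : Nat.card A₀ = p)
    (hN : normalizer (A₀ : Set G) ≤ H) (hσ : p ∉ sigma M) : sigmaCore M ⊓ H ≤ centralizer (A : Set G) := by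
  have hAH : A ≤ H := ((ea_le_cent hA h0).trans (centralizer_le_normalizer _)).trans hN
  have hAX : A ≤ normalizer ((sigmaCore M ⊓ H : Subgroup G) : Set G) := by
    intro a ha
    rw [mem_normalizer_iff_cj, cj_inf, cj_eq_of_mem_normalizer (le_normalizer_sigmaCore M (hAM ha)), cj_eq_of_mem (hAH ha)]
  have hpσ : ¬ p ∣ Nat.card (sigmaCore M) := fun hd => hσ (Core.piCoreOf_piNum (sigma M) M p hp.out hd)
  have hpX : ¬ p ∣ Nat.card ↥(sigmaCore M ⊓ H) := fun hd => hpσ (hd.trans (card_dvd_of_le inf_le_left))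
  by_cases hσH : p ∈ sigma H
  · have hcop : (Nat.card A).Coprime (Nat.card ↥(sigmaCore M ⊓ H)) := by
      rw [hAc]
      exact Nat.Coprime.pow_left _ ((Nat.Prime.coprime_iff_not_dvd hp.out).2 hpX)
    have hAs : Group.IsSolvable A := solvable_of_ne_top hG (fun h => hM.1 (top_le_iff.1 (h ▸ hAM)))
    set X := sigmaCore M ⊓ H with hX
    have hYX : ⁅X, A⁆ ≤ X := H1.Coprime.commutator_le_of_le_normalizer hAX
    have hYY : ⁅⁅X, A⁆, A⁆ = ⁅X, A⁆ := H1.Coprime.commutator_commutator_eq A X hAX hcop (Or.inl hAs)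
    have hAσ := le_sigmaCore_of_pgroup hG hH (ea_isPGroup hA) hAH hσH
    have hYσ : ⁅X, A⁆ ≤ sigmaCore H := by
      refine (commutator_mono (inf_le_right : X ≤ H) hAσ).trans ?_
      rw [commutator_comm]
      exact H1.Coprime.commutator_le_of_le_normalizer (le_normalizer_sigmaCore H)
    have hc := sigmaCore_le_commutator hG hH
    have h1 := comm_le_alpha hG hH (Nat.Coprime.coprime_dvd_right (card_dvd_of_le hYX) hcop) (hAσ.trans hc) (hYσ.trans hc)
      (H22.Basic.right_le_normalizer_commutator X A)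
    rw [hYY] at h1
    have h2 : ∀ g : G, M ≠ cj g H := by
      rintro g rfl
      exact hσ ((sigma_cj g p).2 hσH)
    have h3 := (thm1012a hG hH hM h2).2
    rw [← Subgroup.commutator_eq_bot_iff_le_centralizer, eq_bot_iff, ← h3]
    exact le_inf h1 (hYX.trans inf_le_left)
  · exact thm123_aux hG hM hH hne hAM hA hAc h0 hc hN inf_le_left inf_le_right hAX hpX hσH

/-- BG 12.3(b) -/
theorem thm123b (hG : IsMinSimpleOddOrder G) {M H A A₀ : Subgroup G} (hM : IsCoatom M) (hH : IsCoatom H) (hne : H ≠ M) {p : ℕ}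
    [hp : Fact p.Prime] (hAM : A ≤ M) (hA : IsElementaryAbelian p A) (hAc : Nat.card A = p ^ 2) (h0 : A₀ ≤ A) (hc : Nat.card A₀ = p)
    (hN : normalizer (A₀ : Set G) ≤ H) (hα : p ∉ alpha M) : alphaCore M ⊓ H ≤ centralizer (A : Set G) := by
  by_cases hσ : p ∈ sigma M
  swap
  · exact (inf_le_inf_right _ (alphaCore_le_sigmaCore hG hM)).trans (thm123a hG hM hH hne hAM hA hAc h0 hc hN hσ)
  have hAH : A ≤ H := ((ea_le_cent hA h0).trans (centralizer_le_normalizer _)).trans hN
  have hAX : A ≤ normalizer ((alphaCore M ⊓ H : Subgroup G) : Set G) := by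
    intro a ha
    rw [mem_normalizer_iff_cj, cj_inf, cj_eq_of_mem_normalizer (le_normalizer_alphaCore M (hAM ha)), cj_eq_of_mem (hAH ha)]
  have hpσ : ¬ p ∣ Nat.card (alphaCore M) := fun hd => hα (Core.piCoreOf_piNum (alpha M) M p hp.out hd)
  have hpX : ¬ p ∣ Nat.card ↥(alphaCore M ⊓ H) := fun hd => hpσ (hd.trans (card_dvd_of_le inf_le_left))
  by_cases hσH : p ∈ sigma H
  · set X := alphaCore M ⊓ H with hX
    have hYX : ⁅X, A⁆ ≤ X := H1.Coprime.commutator_le_of_le_normalizer hAX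
    have hAσ := le_sigmaCore_of_pgroup hG hH (ea_isPGroup hA) hAH hσH
    have hYσ : ⁅X, A⁆ ≤ sigmaCore H := by
      refine (commutator_mono (inf_le_right : X ≤ H) hAσ).trans ?_
      rw [commutator_comm]
      exact H1.Coprime.commutator_le_of_le_normalizer (le_normalizer_sigmaCore H)
    have h0b : A₀ ≠ ⊥ := by
      rintro rfl
      rw [card_bot] at hc
      exact hp.out.one_lt.ne hc
    have h2 := not_conj hG hM hne ((ea_isPGroup hA).to_le h0) h0b (h0.trans hAM) hN hσ
    have h3 := (thm1012a hG hM hH h2).2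
    rw [← Subgroup.commutator_eq_bot_iff_le_centralizer, eq_bot_iff, ← h3]
    exact le_inf (hYX.trans inf_le_left) hYσ
  · exact thm123_aux hG hM hH hne hAM hA hAc h0 hc hN (inf_le_left.trans (alphaCore_le_sigmaCore hG hM)) inf_le_right hAX hpX hσH

/-- a maximal subgroup other than `M` over `N(A₀)` -/
theorem exists_other (hG : IsMinSimpleOddOrder G) {M X : Subgroup G} {p : ℕ} [hp : Fact p.Prime] (hX : IsPGroup p X) (hXb : X ≠ ⊥)
    (h : ¬ UMax M (normalizer (X : Set G))) : ∃ H : Subgroup G, IsCoatom H ∧ H ≠ M ∧ normalizer (X : Set G) ≤ H := by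
  have hNt : normalizer (X : Set G) ≠ ⊤ := normalizer_ne_top hG hXb (ne_top_of_isPGroup hG hX)
  by_cases h1 : normalizer (X : Set G) ≤ M
  · by_contra hcon
    push Not at hcon
    apply h
    refine ⟨h1, fun L hL hle => ?_⟩
    by_contra hne
    exact hcon L hL hne hle
  · obtain ⟨H, hH, hle⟩ := exists_isCoatom_ge hNt
    exact ⟨H, hH, fun he => h1 (he ▸ hle), hle⟩

theorem zp_card {p : ℕ} [hp : Fact p.Prime] {A : Subgroup G} (hA : IsElementaryAbelian p A) {a : G} (ha : a ∈ A) (ha1 : a ≠ 1) :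
    Nat.card (zpowers a) = p := by
  rw [Nat.card_zpowers, orderOf_eq_prime (hA.2 a ha) ha1]

theorem ea_comm {p : ℕ} {A : Subgroup G} (hA : IsElementaryAbelian p A) : ∀ a ∈ A, ∀ b ∈ A, a * b = b * a :=
  fun a ha b hb => congrArg Subtype.val (hA.1.is_comm.comm (⟨a, ha⟩ : A) ⟨b, hb⟩)

theorem lt_card_sq {p : ℕ} [hp : Fact p.Prime] {A : Subgroup G} (hAc : Nat.card A = p ^ 2) : p < Nat.card A := by
  rw [hAc, pow_two]
  have := hp.out.two_le
  nlinarith

/-- BG 12.4(b), extended -/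
theorem thm124b (hG : IsMinSimpleOddOrder G) {M A : Subgroup G} (hM : IsCoatom M) {p : ℕ} [hp : Fact p.Prime]
    (hAM : A ≤ M) (hA : IsElementaryAbelian p A) (hAc : Nat.card A = p ^ 2)
    (h : ∀ A₀ : Subgroup G, A₀ ≤ A → Nat.card A₀ = p → ¬ UMax M (normalizer (A₀ : Set G))) :
    p ∈ sigma M ∧ p ∉ alpha M ∧ alphaCore M = ⊥ ∧ Group.IsNilpotent (sigmaCore M) := by
  have hAp := ea_isPGroup hA
  have hcentral : ∀ X : Subgroup G, A ≤ normalizer (X : Set G) → ¬ p ∣ Nat.card X →
      (∀ H A₀ : Subgroup G, IsCoatom H → H ≠ M → A₀ ≤ A → Nat.card A₀ = p → normalizer (A₀ : Set G) ≤ H →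
        X ⊓ H ≤ centralizer (A : Set G)) → X ≤ centralizer (A : Set G) := by
    intro X hAX hpX hX
    by_contra hcon
    have hcop : (Nat.card A).Coprime (Nat.card X) := by
      rw [hAc]
      exact Nat.Coprime.pow_left _ ((Nat.Prime.coprime_iff_not_dvd hp.out).2 hpX)
    obtain ⟨a, ha, ha1, hna⟩ := exists_one (ea_comm hA) hA.2 (lt_card_sq hAc) hAX hcop hcon
    have hac := zp_card hA ha ha1
    have haA : zpowers a ≤ A := by rwa [zpowers_le]
    obtain ⟨H, hH, hne, hNH⟩ := exists_other hG (hAp.to_le haA) (by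
      intro hb; rw [hb, card_bot] at hac; exact hp.out.one_lt.ne hac) (h (zpowers a) haA hac)
    apply hna
    refine le_trans (inf_le_inf_left _ ?_) (hX H (zpowers a) hH hne haA hac hNH)
    rw [← centralizer_zpowers]
    exact (centralizer_le_normalizer _).trans hNH
  have hσ : p ∈ sigma M := by
    by_contra hσ
    have h1 : sigmaCore M ≤ centralizer (A : Set G) := by
      apply hcentral _ (hAM.trans (le_normalizer_sigmaCore M)) (fun hd => hσ (Core.piCoreOf_piNum (sigma M) M p hp.out hd))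
      intro H A₀ hH hne h0 hc hN
      exact thm123a hG hM hH hne hAM hA hAc h0 hc hN hσ
    have h2 : SigmaC M A := by
      intro q hq hd
      rw [hAc] at hd
      rw [(Nat.prime_dvd_prime_iff_eq hq hp.out).1 (hq.dvd_of_dvd_pow hd)]
      exact hσ
    have h3 := rank_cent_sigma hG hM hAM h2 p hp.out
    rw [inf_eq_left.2 (le_centralizer_iff.1 h1)] at h3
    exact ea_not_rankLE_one hA hAc h3
  have hα : p ∉ alpha M := by
    intro hα
    obtain ⟨P, hAP, hP⟩ := exists_isSylIn_ge (p := p) (H := M) hAp hAM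
    have hr : ¬ PRankLE p 2 P := fun hr => hα.2 (pRankLE_of_isSylIn hP hr)
    have hAb : A ≠ ⊥ := by
      rintro rfl
      rw [card_bot] at hAc
      have := Nat.one_lt_pow (n := 2) two_ne_zero hp.out.one_lt
      omega
    by_cases hrC : PRankLE p 2 ↥(centralizer (A : Set G))
    · have hOZA : OZ p P ≤ A := by
        have h1 : IsElementaryAbelian p (A ⊔ OZ p P : Subgroup G) := by
          apply Narrow.ea_sup _ hA (OZ_ea p P)
          intro a ha
          rw [mem_centralizer_iff]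
          intro z hz
          exact (mem_centralizer_iff.1 hz.2.1 a (hAP ha)).symm
        have h2 : (A ⊔ OZ p P : Subgroup G) ≤ centralizer (A : Set G) := by
          have := hA.1
          exact sup_le (le_centralizer A) (fun z hz => centralizer_le hAP hz.2.1)
        have h3 := SCN.pRankLE_iff.1 hrC _ h2 h1
        have h4 : A = A ⊔ OZ p P := Subgroup.eq_of_le_of_card_ge le_sup_left (by rw [hAc]; exact h3)
        rw [h4]; exact le_sup_right
      have hPb : P ≠ ⊥ := fun hb => hAb (le_bot_iff.1 (hb ▸ hAP))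
      obtain ⟨z, hz, hz1⟩ := exists_ne_one (OZ_ne_bot hP.isPGroup hPb)
      have hzA := hOZA hz
      apply h (zpowers z) (by rwa [zpowers_le]) (zp_card hA hzA hz1)
      have h5 : P ≤ normalizer (zpowers z : Set G) := by
        refine le_trans ?_ (centralizer_le_normalizer _)
        rw [centralizer_zpowers]
        intro x hx
        rw [mem_centralizer_singleton_iff]
        exact mem_centralizer_iff.1 hz.2.1 x hx
      have h6 := (normalizer_le_of_rank hG hM hP.isPGroup hP.le hr).2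
      have hNt : normalizer (zpowers z : Set G) ≠ ⊤ := by
        apply normalizer_ne_top hG
        · rw [Ne, zpowers_eq_bot]; exact hz1
        · exact ne_top_of_isPGroup hG (hAp.to_le (by rwa [zpowers_le]))
      exact ⟨le_of_inU h6 h5 hNt, fun L hL hle => h6 L hL (h5.trans hle)⟩
    · have hU : InUniqueMaximal A := by
        apply uniqueness hG (ne_top_of_isPGroup hG hAp)
        · intro h1
          exact ea_not_rankLE_one hA hAc (h1 p hp.out)
        · right
          intro h1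
          exact hrC (h1 p hp.out)
      obtain ⟨D, hD, hAD, hDu⟩ := inU_iff.1 hU
      have hMD : M = D := hDu M hM hAM
      subst hMD
      obtain ⟨a, ha, ha1⟩ := exists_ne_one hAb
      apply h (zpowers a) (by rwa [zpowers_le]) (zp_card hA ha ha1)
      have h5 : A ≤ normalizer (zpowers a : Set G) :=
        (ea_le_cent hA (by rwa [zpowers_le])).trans (centralizer_le_normalizer _)
      have hNt : normalizer (zpowers a : Set G) ≠ ⊤ := by
        apply normalizer_ne_top hG
        · rw [Ne, zpowers_eq_bot]; exact ha1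
        · exact ne_top_of_isPGroup hG (hAp.to_le (by rwa [zpowers_le]))
      exact ⟨le_of_inU hDu h5 hNt, fun L hL hle => hDu L hL (h5.trans hle)⟩
  have hMα : alphaCore M = ⊥ := by
    by_contra hb
    have h1 : alphaCore M ≤ centralizer (A : Set G) := by
      apply hcentral _ (hAM.trans (le_normalizer_alphaCore M)) (fun hd => hα (Core.piCoreOf_piNum (alpha M) M p hp.out hd))
      intro H A₀ hH hne h0 hc hN
      exact thm123b hG hM hH hne hAM hA hAc h0 hc hN hα
    have h2 : ¬ RankLE 1 (alphaCore M) := by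
      intro h2
      obtain ⟨q, hq, hqd⟩ := Nat.exists_prime_and_dvd (mt (fun h => eq_bot_of_card_eq _ h) hb)
      haveI : Fact q.Prime := ⟨hq⟩
      have hqα : q ∈ alpha M := Core.piCoreOf_piNum (alpha M) M q hq hqd
      obtain ⟨T, hT⟩ := exists_isSylIn (p := q) (alphaCore M)
      have hTM := Hall.sylow_trans (alphaCore_hallOf hG hM) hqα hT
      apply hqα.2
      apply pRankLE_of_isSylIn hTM
      exact pRankLE_le (by norm_num) (SCN.pRankLE_mono hT.le (h2 q hq))
    have h3 : InUniqueMaximal (M ⊓ centralizer (A : Set G)) := by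
      apply thm103 hG hM hAM
      · intro q hq hd
        rw [hAc] at hd
        rw [(Nat.prime_dvd_prime_iff_eq hq hp.out).1 (hq.dvd_of_dvd_pow hd)]
        exact hα
      · rw [inf_eq_left.2 h1]; exact h2
    obtain ⟨D, hD, hAD, hDu⟩ := inU_iff.1 h3
    have hMD : M = D := hDu M hM inf_le_left
    subst hMD
    obtain ⟨a, ha, ha1⟩ := exists_ne_one (H := A) (by
      rintro rfl
      rw [card_bot] at hAc
      have := Nat.one_lt_pow (n := 2) two_ne_zero hp.out.one_lt
      omega)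
    apply h (zpowers a) (by rwa [zpowers_le]) (zp_card hA ha ha1)
    have h5 : M ⊓ centralizer (A : Set G) ≤ normalizer (zpowers a : Set G) :=
      (inf_le_right.trans (centralizer_le (show zpowers a ≤ A by rwa [zpowers_le]))).trans (centralizer_le_normalizer _)
    have hNt : normalizer (zpowers a : Set G) ≠ ⊤ := by
      apply normalizer_ne_top hG
      · rw [Ne, zpowers_eq_bot]; exact ha1
      · exact ne_top_of_isPGroup hG (hAp.to_le (by rwa [zpowers_le]))
    exact ⟨le_of_inU hDu h5 hNt, fun L hL hle => hDu L hL (h5.trans hle)⟩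
  exact ⟨hσ, hα, hMα, nilp_mono (sigmaCore_le_commutator hG hM) (nilpotent_commutator_of hG hM hMα)⟩

/-- BG 12.4(a) -/
theorem thm124a (hG : IsMinSimpleOddOrder G) {M A : Subgroup G} (hM : IsCoatom M) {p : ℕ} [hp : Fact p.Prime]
    (hAM : A ≤ M) (hA : IsElementaryAbelian p A) (hAc : Nat.card A = p ^ 2) : centralizer (A : Set G) ≤ M := by
  by_cases h : ∀ A₀ : Subgroup G, A₀ ≤ A → Nat.card A₀ = p → ¬ UMax M (normalizer (A₀ : Set G))
  · obtain ⟨hσ, hα, -, hnil⟩ := thm124b hG hM hAM hA hAc h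
    have hAp := ea_isPGroup hA
    obtain ⟨P, hAP, hP⟩ := exists_isSylIn_ge (p := p) (H := M) hAp hAM
    have hPσ := sylow_le_sigmaCore hG hM hσ hP
    have hMP : M ≤ normalizer (P : Set G) :=
      normal_of_nilpotent_sylow (sigmaCore_le M) (le_normalizer_sigmaCore M) hnil (hP.mono hPσ (sigmaCore_le M))
    have hP1 : IsSylIn p P (cj 1 M) := by rwa [cj_one]
    have hPt := (sylow_conj hσ hP1).1
    have hr : PRankLE p 2 M := by
      by_contra hr
      exact hα ⟨hp.out, hr⟩
    have hOZA : OZ p P ≤ A := by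
      have h1 : IsElementaryAbelian p (A ⊔ OZ p P : Subgroup G) := by
        apply Narrow.ea_sup _ hA (OZ_ea p P)
        intro a ha
        rw [mem_centralizer_iff]
        intro z hz
        exact (mem_centralizer_iff.1 hz.2.1 a (hAP ha)).symm
      have h2 : (A ⊔ OZ p P : Subgroup G) ≤ M := sup_le hAM ((OZ_le p P).trans hP.le)
      have h3 := SCN.pRankLE_iff.1 hr _ h2 h1
      have h4 : A = A ⊔ OZ p P := Subgroup.eq_of_le_of_card_ge le_sup_left (by rw [hAc]; exact h3)
      rw [h4]; exact le_sup_right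
    have hAb : A ≠ ⊥ := by
      rintro rfl
      rw [card_bot] at hAc
      have := Nat.one_lt_pow (n := 2) two_ne_zero hp.out.one_lt
      omega
    have hPb : P ≠ ⊥ := fun hb => hAb (le_bot_iff.1 (hb ▸ hAP))
    have h5 := thm107e hG hPt hAp (OZ_le p P) hOZA (normalizer_le_OZ p P)
    have h6 : normalizer (OZ p P : Set G) = M := normalizer_eq_of_isCoatom hG hM (OZ_ne_bot hP.isPGroup hPb)
      (hMP.trans (normalizer_le_OZ p P)) ((OZ_le p P).trans hP.le)
    exact (centralizer_le_normalizer _).trans (h5.trans h6.le)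
  · push Not at h
    obtain ⟨A₀, h0, -, h1⟩ := h
    exact ((centralizer_le h0).trans (centralizer_le_normalizer _)).trans h1.1

end Cfsg.Agent.H12.BG12
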