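import Mathlib
import Cfsg.Agent.H12_BG12b

/-! BG 12.5, 12.6 -/

set_option autoImplicit false
set_option linter.unusedSectionVars false

open Pointwise
open scoped commutatorElement

namespace Cfsg.Agent.H12.BG12

open Cfsg Subgroup H13.Syl H12.Loc H12.Trans H12.BG7 H12.Puig H12.BG9 H12.BG10 H12.BG11

universe u

variable {G : Type u} [Group G] [Finite G]

theorem exists_exc (hG : IsMinSimpleOddOrder G) {M A : Subgroup G} (hM : IsCoatom M) {p : ℕ} [hp : Fact p.Prime] (hσ : p ∉ sigma M)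
    (hAM : A ≤ M) (hA : IsElementaryAbelian p A) (hAc : Nat.card A = p ^ 2) : ∃ A₀ : Subgroup G, Exc M p A A₀ := by
  by_contra hcon
  push Not at hcon
  apply hσ
  refine (thm124b hG hM hAM hA hAc fun A₀ h0 hc hU => ?_).1
  exact hcon A₀ (mk_exc hG hM hA hAc h0 hc hU.1 hσ)

/-- BG 12.5(b) -/
theorem thm125b (hG : IsMinSimpleOddOrder G) {M : Subgroup G} (hM : IsCoatom M) {p : ℕ} [hp : Fact p.Prime] (hτ : p ∈ tau2 M) {P : Subgroup G}
    (hP : IsSylIn p P M) : IsMulCommutative P := by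
  have hr : ¬ PRankLE p 1 P := fun hr => hτ.2.2.2 (pRankLE_of_isSylIn hP hr)
  obtain ⟨A, hAP, hA, hAc⟩ := exists_ea_sq_of_not_rank_one hr
  obtain ⟨A₀, h⟩ := exists_exc hG hM hτ.2.1 (hAP.trans hP.le) hA hAc
  exact h.thm115 hG hP hAP

/-- BG 12.5(e) -/
theorem thm125e (hG : IsMinSimpleOddOrder G) {M A A₀ : Subgroup G} {p : ℕ} [hp : Fact p.Prime] (h : Exc M p A A₀)
    {H : Subgroup G} (hH : IsCoatom H) (hne : H ≠ M) (hAH : A ≤ H) : sigmaCore M ⊓ H = ⊥ := by
  have hM := h.co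
  have hA := h.e2.ea
  have hAc := h.e2.card
  obtain ⟨P, hAP, hP⟩ := exists_isSylIn_ge (p := p) (H := M) h.e2.isPGroup h.le
  obtain ⟨-, -, hfix, -⟩ := h.thm116 hG hP hAP
  set X := sigmaCore M ⊓ H with hX
  have hAX : A ≤ normalizer (X : Set G) := by
    intro a ha
    rw [mem_normalizer_iff_cj, cj_inf, cj_eq_of_mem_normalizer (le_normalizer_sigmaCore M (h.le ha)), cj_eq_of_mem (hAH ha)]
  have hpσ : ¬ p ∣ Nat.card (sigmaCore M) := fun hd => h.ns (Core.piCoreOf_piNum (sigma M) M p hp.out hd)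
  have hpX : ¬ p ∣ Nat.card X := fun hd => hpσ (hd.trans (card_dvd_of_le inf_le_left))
  have hcop : (Nat.card A).Coprime (Nat.card X) := by
    rw [hAc]
    exact Nat.Coprime.pow_left _ ((Nat.Prime.coprime_iff_not_dvd hp.out).2 hpX)
  have hAs : Group.IsSolvable A := solvable_of_ne_top hG (fun h' => hM.1 (top_le_iff.1 (h' ▸ h.le)))
  have hXX : ⁅X, A⁆ = X := by
    have h1 := H1.Coprime.commutator_sup_centralizer A X hAX hcop (Or.inl hAs)
    have h2 : X ⊓ centralizer (A : Set G) = ⊥ := by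
      rw [eq_bot_iff, ← hfix]
      exact inf_le_inf_right _ inf_le_left
    rwa [h2, sup_bot_eq] at h1
  have hXH : X ≤ sigmaCore H := by
    by_cases hσH : p ∈ sigma H
    · have hAσ := le_sigmaCore_of_pgroup hG hH h.e2.isPGroup hAH hσH
      rw [← hXX]
      refine (commutator_mono (inf_le_right : X ≤ H) hAσ).trans ?_
      rw [commutator_comm]
      exact H1.Coprime.commutator_le_of_le_normalizer (le_normalizer_sigmaCore H)
    · obtain ⟨A₁, h'⟩ := exists_exc hG hH hσH hAH hA hAc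
      have hn := Exc.normal hG h'
      have hY1 : X ≤ A ⊔ sigmaCore H := by
        rw [← hXX, sup_comm]
        refine (commutator_mono le_rfl (le_sup_right : A ≤ sigmaCore H ⊔ A)).trans ?_
        rw [commutator_comm]
        exact H1.Coprime.commutator_le_of_le_normalizer ((inf_le_right : X ≤ H).trans hn)
      exact le_of_sup h.e2.isPGroup (hAH.trans (le_normalizer_sigmaCore H)) hY1 hpX
  by_contra hb
  apply hne
  apply h.thm114 hG hH hAH
  intro hb2
  apply hb
  rw [eq_bot_iff, ← hb2]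
  exact le_inf hXH inf_le_left

theorem exc_compl_le (hG : IsMinSimpleOddOrder G) {M A A₀ E : Subgroup G} {p : ℕ} [hp : Fact p.Prime] (h : Exc M p A A₀)
    (hE : IsComplIn E (sigmaCore M) M) (hAE : A ≤ E) : E ≤ normalizer (A : Set G) :=
  (h.thm117 hG (compl_hall hG h.co hE) hAE).1

/-- BG 12.6(a) -/
theorem thm126a (hG : IsMinSimpleOddOrder G) {M A A₀ E : Subgroup G} {p : ℕ} [hp : Fact p.Prime] (h : Exc M p A A₀)
    (hE : IsComplIn E (sigmaCore M) M) (hAE : A ≤ E) {X : Subgroup G} (hXE : X ≤ E) (hXp : ∀ x ∈ X, x ^ p = 1) : X ≤ A := by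
  have hEA := exc_compl_le hG h hE hAE
  intro x hx
  have hxp : IsPGroup p (zpowers x) := by
    rintro ⟨y, hy⟩
    obtain ⟨k, rfl⟩ := mem_zpowers_iff.1 hy
    refine ⟨1, Subtype.ext ?_⟩
    show (x ^ k) ^ (p ^ 1) = 1
    rw [pow_one, ← zpow_natCast, ← zpow_mul, mul_comm, zpow_mul, zpow_natCast, hXp x hx, one_zpow]
  obtain ⟨P, hxP, hP⟩ := exists_isSylIn_ge (p := p) (H := E) hxp (by rw [zpowers_le]; exact hXE hx)
  have hAP : A ≤ P := by
    obtain ⟨y, hy, hye⟩ := hP.exists_conj_le h.e2.isPGroup hAE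
    rwa [cj_eq_of_mem_normalizer (hEA hy)] at hye
  have hPM : IsSylIn p P M := Hall.sylow_trans (compl_hall hG h.co hE) h.ns hP
  exact (h.thm116 hG hPM hAP).1 x (hxP (mem_zpowers x)) (hXp x hx)

/-- BG 12.6(b) -/
theorem thm126b (hG : IsMinSimpleOddOrder G) {M A A₀ E : Subgroup G} {p : ℕ} [hp : Fact p.Prime] (h : Exc M p A A₀)
    (hE : IsComplIn E (sigmaCore M) M) (hAE : A ≤ E) : centralizer (A : Set G) ≤ E ∧ M ⊓ normalizer (A : Set G) = E ∧
      ¬ normalizer (A : Set G) ≤ M := by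
  have hM := h.co
  have hEA := exc_compl_le hG h hE hAE
  obtain ⟨P, hAP, hP⟩ := exists_isSylIn_ge (p := p) (H := M) h.e2.isPGroup h.le
  obtain ⟨-, hNPA, hfix, -⟩ := h.thm116 hG hP hAP
  have h1 : M ⊓ normalizer (A : Set G) = E := by
    apply le_antisymm
    · intro m hm
      obtain ⟨e, he, s, hs, rfl⟩ := hE.2.2.2 m (mem_inf.1 hm).1
      have hsN : s ∈ normalizer (A : Set G) := by
        have := mul_mem (inv_mem (hEA he)) (mem_inf.1 hm).2
        rwa [inv_mul_cancel_left] at this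
      have hsC : s ∈ centralizer (A : Set G) := by
        rw [mem_centralizer_iff]
        intro a ha
        have h2 : s * a * s⁻¹ * a⁻¹ ∈ (E ⊓ sigmaCore M : Subgroup G) := by
          refine mem_inf.2 ⟨hAE ?_, ?_⟩
          · exact mul_mem ((mem_normalizer_iff.1 hsN a).1 ha) (inv_mem ha)
          · have h3 := (mem_normalizer_iff.1 (le_normalizer_sigmaCore M (h.le ha)) s⁻¹).1 (inv_mem hs)
            have h4 := mul_mem hs h3
            have e : s * (a * s⁻¹ * a⁻¹) = s * a * s⁻¹ * a⁻¹ := by group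
            rwa [e] at h4
        rw [hE.2.2.1, mem_bot] at h2
        calc a * s = (s * a * s⁻¹ * a⁻¹)⁻¹ * (s * a) := by group
          _ = s * a := by rw [h2]; group
      have h5 : s ∈ (sigmaCore M ⊓ centralizer (A : Set G) : Subgroup G) := mem_inf.2 ⟨hs, hsC⟩
      rw [hfix, mem_bot] at h5
      rw [h5, mul_one]
      exact he
    · exact le_inf hE.1 hEA
  refine ⟨?_, h1, ?_⟩
  · rw [← h1]
    exact le_inf h.cent (centralizer_le_normalizer _)
  · intro hle
    obtain ⟨g, hg, hgM⟩ := exists_not_mem h.ns hP h.dvd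
    exact hgM (hle (hNPA hg))

/-- BG 12.6(c) -/
theorem thm126c (hG : IsMinSimpleOddOrder G) {M A A₀ : Subgroup G} {p : ℕ} [hp : Fact p.Prime] (h : Exc M p A A₀)
    {X : Subgroup G} (hXb : X ≠ ⊥) (hAX : A ≤ centralizer (X : Set G)) (hXt : X ≠ ⊤)
    (hne : sigmaCore M ⊓ centralizer (X : Set G) ≠ ⊥) : UMax M (centralizer (X : Set G)) := by
  have hNt : normalizer (X : Set G) ≠ ⊤ := normalizer_ne_top hG hXb hXt
  have hCt : centralizer (X : Set G) ≠ ⊤ := fun ht => hNt (by
    rw [eq_top_iff, ← ht]; exact centralizer_le_normalizer _)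
  have key : ∀ L : Subgroup G, IsCoatom L → centralizer (X : Set G) ≤ L → L = M := by
    intro L hL hle
    by_contra hLM
    apply hne
    rw [eq_bot_iff, ← thm125e hG h hL hLM (hAX.trans hle)]
    exact inf_le_inf_left _ hle
  exact ⟨le_of_inU key le_rfl hCt, key⟩

end Cfsg.Agent.H12.BG12
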