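import Mathlib
import Cfsg.Agent.H12_BG12c

/-! BG 12.7 -/

set_option autoImplicit false
set_option linter.unusedSectionVars false

open Pointwise
open scoped commutatorElement

namespace Cfsg.Agent.H12.BG12

open Cfsg Subgroup H13.Syl H12.Loc H12.Trans H12.BG7 H12.Puig H12.BG9 H12.BG10 H12.BG11

universe u

variable {G : Type u} [Group G] [Finite G]

theorem comm_cj {S : Subgroup G} (h : IsMulCommutative S) (x : G) : IsMulCommutative (cj x S) := by
  refine ⟨⟨fun a b => Subtype.ext ?_⟩⟩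
  obtain ⟨_, a, ha, rfl⟩ := a
  obtain ⟨_, b, hb, rfl⟩ := b
  have : a * b = b * a := congrArg Subtype.val (h.is_comm.comm (⟨a, ha⟩ : S) ⟨b, hb⟩)
  show (MulAut.conj x) a * (MulAut.conj x) b = (MulAut.conj x) b * (MulAut.conj x) a
  rw [← map_mul, this, map_mul]

theorem comm_of_sylow {p : ℕ} [hp : Fact p.Prime] {S T X : Subgroup G} (hS : IsSylIn p S X) (hT : IsSylIn p T X) (h : IsMulCommutative S) :
    IsMulCommutative T := by
  obtain ⟨x, -, he⟩ := hT.exists_conj_eq hS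
  rw [← he]
  exact comm_cj h x

theorem exists_pow_prime {p : ℕ} {v : G} (hv : ∃ k, v ^ (p ^ k) = 1) (h1 : v ≠ 1) : ∃ w ∈ zpowers v, w ≠ 1 ∧ w ^ p = 1 := by
  obtain ⟨k, hk⟩ := hv
  induction k with
  | zero => rw [pow_zero, pow_one] at hk; exact absurd hk h1
  | succ k ih =>
    by_cases h : v ^ (p ^ k) = 1
    · exact ih h
    · refine ⟨v ^ (p ^ k), pow_mem (mem_zpowers v) _, h, ?_⟩
      rw [← pow_mul, ← pow_succ, hk]

theorem umax_cj {M X : Subgroup G} (h : UMax M X) (g : G) : UMax (cj g M) (cj g X) := by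
  refine ⟨cj_mono h.1, fun L hL hle => ?_⟩
  have h1 := h.2 (cj g⁻¹ L) (isCoatom_cj hL g⁻¹) (cj_le_iff.1 hle)
  rw [← h1, cj_cj_inv]

theorem nar_of_e2max {q : ℕ} [hq : Fact q.Prime] {Q B : Subgroup G} (hQ : IsPGroup q Q) (hB : E2Max q B) (hBQ : B ≤ Q) :
    PRankLE q 2 Q ∨ ∃ (E : Subgroup Q) (x : Q), Narrow.Nar q Q E x := by
  apply nar_of_cent hQ hBQ hB.ea
  rw [SCN.pRankLE_iff]
  intro F hF he
  rw [← hB.card]
  exact H22.Basic.card_le_of_le fun x hx => hB.mem (mem_inf.1 (hF hx)).2 (he.2 x hx)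

theorem exists_ea_compl (hG : IsMinSimpleOddOrder G) {M E : Subgroup G} (hM : IsCoatom M) (hE : IsComplIn E (sigmaCore M) M) {q : ℕ}
    [hq : Fact q.Prime] (hτ : q ∈ tau2 M) : ∃ B : Subgroup G, B ≤ E ∧ IsElementaryAbelian q B ∧ Nat.card B = q ^ 2 := by
  apply exists_ea_sq_of_not_rank_one
  intro h1
  obtain ⟨T, hT⟩ := exists_isSylIn (p := q) E
  have hTM := Hall.sylow_trans (compl_hall hG hM hE) hτ.2.1 hT
  exact hτ.2.2.2 (pRankLE_of_isSylIn hTM (SCN.pRankLE_mono hT.le h1))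

theorem inf_eq_bot_of_primes {p q : ℕ} [hp : Fact p.Prime] [hq : Fact q.Prime] (hpq : p ≠ q) {A B : Subgroup G} (hA : IsPGroup p A)
    (hB : IsPGroup q B) : A ⊓ B = ⊥ := by
  apply H22.Basic.inf_eq_bot_of_coprime
  obtain ⟨k, hk⟩ := IsPGroup.iff_card.1 hA
  obtain ⟨l, hl⟩ := IsPGroup.iff_card.1 hB
  rw [hk, hl]
  exact Nat.coprime_pow_primes _ _ hp.out hq.out hpq

theorem comm_of_normal {A B E : Subgroup G} (hA : A ≤ E) (hB : B ≤ E) (hEA : E ≤ normalizer (A : Set G)) (hEB : E ≤ normalizer (B : Set G))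
    (hd : A ⊓ B = ⊥) : B ≤ centralizer (A : Set G) := by
  have h1 : ⁅A, B⁆ ≤ A ⊓ B := by
    apply le_inf
    · exact H1.Coprime.commutator_le_of_le_normalizer (hB.trans hEA)
    · rw [commutator_comm]
      exact H1.Coprime.commutator_le_of_le_normalizer (hA.trans hEB)
  rw [hd, le_bot_iff, Subgroup.commutator_eq_bot_iff_le_centralizer] at h1
  exact le_centralizer_iff.1 h1

/-- BG 12.7(a) -/
theorem tau2_eq_of_nonabelian (hG : IsMinSimpleOddOrder G) {M : Subgroup G} {p : ℕ} [hp : Fact p.Prime] (hM : IsCoatom M) (hp2 : p ∈ tau2 M)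
    (hn : ∀ S : Subgroup G, IsSylIn p S ⊤ → ¬ IsMulCommutative S) : ∀ q ∈ tau2 M, q = p := by
  intro q hqτ
  by_contra hqp
  haveI : Fact q.Prime := ⟨hqτ.1⟩
  have hMs := solvable_of_ne_top hG hM.1
  obtain ⟨E, hEh⟩ := Hall.exists_hall hMs (sigma M)ᶜ
  have hE := isCompl_of_hall hG hM hEh
  obtain ⟨A, hAE, hA, hAc⟩ := exists_ea_compl hG hM hE hp2
  obtain ⟨B, hBE, hB, hBc⟩ := exists_ea_compl hG hM hE hqτ
  obtain ⟨A₀, h⟩ := exists_exc hG hM hp2.2.1 (hAE.trans hE.1) hA hAc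
  obtain ⟨B₀, h'⟩ := exists_exc hG hM hqτ.2.1 (hBE.trans hE.1) hB hBc
  have hBC : B ≤ centralizer (A : Set G) := comm_of_normal hAE hBE (exc_compl_le hG h hE hAE) (exc_compl_le hG h' hE hBE)
    (inf_eq_bot_of_primes (Ne.symm hqp) h.e2.isPGroup h'.e2.isPGroup)
  have hqC : q ∣ Nat.card (centralizer (A : Set G)) := by
    refine Dvd.dvd.trans ?_ (card_dvd_of_le hBC)
    rw [hBc]
    exact dvd_pow_self q two_ne_zero
  obtain ⟨Q, hQ, hBQ⟩ := exists_maxInv_ge (A := A) (q := q) (R := B) ⟨h'.e2.isPGroup, (le_centralizer_iff.1 hBC).trans (centralizer_le_normalizer _)⟩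
  obtain ⟨P', hP', hAP', hPN', -, hPc', -⟩ := thm1010 hG (Ne.symm hqp) h.e2 hqC hQ
  have hQb : Q ≠ ⊥ := fun hb => h'.e2.ne_bot (le_bot_iff.1 (hb ▸ hBQ))
  have hNt : normalizer (Q : Set G) ≠ ⊤ := normalizer_ne_top hG hQb (ne_top_of_isPGroup hG hQ.1.1)
  have hq2 : q ≠ 2 := prime_ne_two hG (dvd_of_card_sq h'.e2.card)
  have h3 := cent_of_nar (Ne.symm hqp) hq2 (solvable_of_ne_top hG hNt) (odd_card_subgroup hG _) le_normalizer le_rfl hQ.1.1
    (nar_of_e2max hQ.1.1 h'.e2 hBQ) hP'.isPGroup hPc'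
  have h4 : P' ≤ M := (h3.trans (centralizer_le hBQ)).trans ((thm126b hG h' hE hBE).1.trans hE.1)
  exact hn P' hP' (thm125b hG hM hp2 (hP'.mono h4 le_top))

/-- BG 12.7 -/
theorem thm127 (hG : IsMinSimpleOddOrder G) {M A A₁ E : Subgroup G} {p : ℕ} [hp : Fact p.Prime] (h : Exc M p A A₁) (hp2 : p ∈ tau2 M)
    (hE : IsComplIn E (sigmaCore M) M) (hAE : A ≤ E) (hn : ∀ S : Subgroup G, IsSylIn p S ⊤ → ¬ IsMulCommutative S) :
    Nat.card ↥(A ⊓ centralizer (sigmaCore M : Set G)) = p ∧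
      fittingOf M = sigmaCore M ⊔ (A ⊓ centralizer (sigmaCore M : Set G)) ∧
      (∀ X : Subgroup G, X ≤ A → Nat.card X = p → X ≠ A ⊓ centralizer (sigmaCore M : Set G) →
        sigmaCore M ⊓ centralizer (X : Set G) = ⊥ ∧ ¬ centralizer (X : Set G) ≤ M) ∧
      normalizer ((A ⊓ centralizer (sigmaCore M : Set G) : Subgroup G) : Set G) = M := by
  have hM := h.co
  have hA := h.e2.ea
  have hAc := h.e2.card
  have hAab : IsMulCommutative A := hA.1
  have hpσ : ¬ p ∣ Nat.card (sigmaCore M) := fun hd => h.ns (Core.piCoreOf_piNum (sigma M) M p hp.out hd)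
  have hcop : (Nat.card A).Coprime (Nat.card (sigmaCore M)) := by
    rw [hAc]
    exact Nat.Coprime.pow_left _ ((Nat.Prime.coprime_iff_not_dvd hp.out).2 hpσ)
  have hAn := h.le.trans (le_normalizer_sigmaCore M)
  have hEA := exc_compl_le hG h hE hAE
  obtain ⟨P, hAP, hP⟩ := exists_isSylIn_ge (p := p) (H := M) h.e2.isPGroup h.le
  obtain ⟨S, hPS, hS⟩ := exists_isSylIn_ge (p := p) (H := ⊤) hP.isPGroup le_top
  have hPab := h.thm115 hG hP hAP
  obtain ⟨hPA, -, hfix, -⟩ := h.thm116 hG hP hAP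
  have hSM : ¬ S ≤ M := by
    intro hle
    exact hn S hS (thm125b hG hM hp2 (hS.mono hle le_top))
  have hPint : ∀ x ∈ S, x ∈ M → x ∈ P := by
    intro x hx hxM
    have h1 : P ≤ S ⊓ M := le_inf hPS hP.le
    have h2 : S ⊓ M = P := hP.eq_of_le (hS.isPGroup.to_le inf_le_left) inf_le_right h1
    rw [← h2]; exact mem_inf.2 ⟨hx, hxM⟩
  have hAS := hAP.trans hPS
  obtain ⟨hZc, hZA, ⟨Y, hYc, hYS, hZY, hYC, hYs⟩, htr⟩ := thm1013 hG hS.isPGroup h.e2 hAS (hn S hS)
  have hSCZ : S ≤ centralizer (OZ p S : Set G) := by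
    rw [le_centralizer_iff]
    exact fun z hz => hz.2.1
  have hcb : ∀ X : Subgroup G, Nat.card X = p → X ≠ ⊥ := by
    rintro X hX rfl
    rw [card_bot] at hX
    exact hp.out.one_lt.ne hX
  have hum : ∀ X : Subgroup G, X ≤ A → Nat.card X = p → sigmaCore M ⊓ centralizer (X : Set G) ≠ ⊥ → UMax M (centralizer (X : Set G)) :=
    fun X hX hc hne => thm126c hG h (hcb X hc) (ea_le_cent hA hX) (ne_top_of_isPGroup hG (h.e2.isPGroup.to_le hX)) hne
  have hZM : ¬ centralizer (OZ p S : Set G) ≤ M := fun hle => hSM (hSCZ.trans hle)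
  have hZf : sigmaCore M ⊓ centralizer (OZ p S : Set G) = ⊥ := by
    by_contra hne
    exact hZM (hum _ hZA hZc hne).1
  have hσb := sigmaCore_ne_bot hG hM
  obtain ⟨a, ha, ha1, hna⟩ := exists_one (D := ⊥) (ea_comm hA) hA.2 (lt_card_sq hAc) hAn hcop (fun h' => hσb (le_bot_iff.1 h'))
  set A₀ := zpowers a with hA₀
  have h0A : A₀ ≤ A := by rwa [hA₀, zpowers_le]
  have h0c : Nat.card A₀ = p := zp_card hA ha ha1
  have h0f : sigmaCore M ⊓ centralizer (A₀ : Set G) ≠ ⊥ := by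
    intro hb
    apply hna
    rw [← centralizer_zpowers, ← hA₀, hb]
  have h0Z : A₀ ≠ OZ p S := by
    intro he
    rw [he] at h0f
    exact h0f hZf
  have h0u := hum A₀ h0A h0c h0f
  have hMb : normalizer (M : Set G) = M := normalizer_eq_self_of_isCoatom hG hM (ne_bot_of_isCoatom hG hM)
  -- conjugates
  have hconj : ∀ X : Subgroup G, X ≤ A → Nat.card X = p → X ≠ A₀ → UMax M (centralizer (X : Set G)) ∨ centralizer (X : Set G) ≤ M → False := by
    intro X hXA hXc hX0 hU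
    have hle : centralizer (X : Set G) ≤ M := by
      rcases hU with hU | hU
      · exact hU.1
      · exact hU
    by_cases hXZ : X = OZ p S
    · exact hZM (hXZ ▸ hle)
    obtain ⟨r, hr, hre⟩ := htr A₀ X h0A hXA h0c hXc h0Z hXZ
    have h1 := umax_cj h0u r
    rw [cj_centralizer, hre] at h1
    have h2 := h1.2 M hM hle
    have h3 : r ∈ M := by
      rw [← hMb, mem_normalizer_iff_cj]
      exact h2.symm
    have h4 : r ∈ P := hPint r (mem_inf.1 hr).1 h3
    apply hX0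
    rw [← hre]
    have h5 : r ∈ centralizer (A₀ : Set G) := centralizer_le (h0A.trans hAP) (le_centralizer P h4)
    exact cj_eq_of_mem_normalizer (centralizer_le_normalizer _ h5)
  have hfix' : ∀ X : Subgroup G, X ≤ A → Nat.card X = p → X ≠ A₀ → sigmaCore M ⊓ centralizer (X : Set G) = ⊥ := by
    intro X hXA hXc hX0
    by_contra hne
    exact hconj X hXA hXc hX0 (Or.inl (hum X hXA hXc hne))
  have hσ0 : sigmaCore M ≤ centralizer (A₀ : Set G) := by
    by_contra hcon
    obtain ⟨b, hb, hb1, hnb⟩ := exists_one (ea_comm hA) hA.2 (lt_card_sq hAc) hAn hcop hcon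
    apply hnb
    have hbA : zpowers b ≤ A := by rwa [zpowers_le]
    by_cases he : zpowers b = A₀
    · rw [← centralizer_zpowers, he]; exact inf_le_right
    · rw [← centralizer_zpowers, hfix' _ hbA (zp_card hA hb hb1) he]; exact bot_le
  have h0eq : A ⊓ centralizer (sigmaCore M : Set G) = A₀ := by
    apply le_antisymm
    · intro b hb
      by_cases hb1 : b = 1
      · rw [hb1]; exact one_mem _
      have hbA : zpowers b ≤ A := by rw [zpowers_le]; exact (mem_inf.1 hb).1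
      by_cases he : zpowers b = A₀
      · rw [← he]; exact mem_zpowers b
      · exfalso
        apply hσb
        rw [← hfix' _ hbA (zp_card hA (mem_inf.1 hb).1 hb1) he, eq_comm, inf_eq_left, le_centralizer_iff, zpowers_le]
        exact (mem_inf.1 hb).2
    · exact le_inf h0A (le_centralizer_iff.1 hσ0)
  rw [h0eq]
  have hMA₀ : M ≤ normalizer (A₀ : Set G) := by
    have h1 : E ⊔ sigmaCore M = M := Hall.compl_sup hE
    refine h1.symm.le.trans (sup_le ?_ (hσ0.trans (centralizer_le_normalizer _)))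
    intro e he
    rw [mem_normalizer_iff_cj, ← h0eq, cj_inf, cj_centralizer, cj_eq_of_mem_normalizer (hEA he),
      cj_eq_of_mem_normalizer (le_normalizer_sigmaCore M (hE.1 he))]
  have hN0 : normalizer (A₀ : Set G) = M := normalizer_eq_of_isCoatom hG hM (hcb _ h0c) hMA₀ (h0A.trans h.le)
  refine ⟨h0c, ?_, ?_, hN0⟩
  · apply le_antisymm
    · rw [fittingOf_le_iff]
      intro q hq
      haveI : Fact q.Prime := ⟨hq⟩
      set Q := Oq q M with hQ
      have hQp : IsPGroup q Q := Oq_isPGroup hq M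
      have hQn : M ≤ normalizer (Q : Set G) := le_normalizer_Oq q M
      by_cases hqσ : q ∈ sigma M
      · exact (le_sigmaCore_of_pgroup hG hM hQp (Oq_le q M) hqσ).trans le_sup_left
      by_cases hQb : Q = ⊥
      · rw [hQb]; exact bot_le
      have hQC : Q ≤ centralizer (sigmaCore M : Set G) := by
        apply comm_of_normal (sigmaCore_le M) (Oq_le q M) (le_normalizer_sigmaCore M) hQn
        apply H22.Basic.inf_eq_bot_of_coprime
        apply Nat.Coprime.symm
        apply coprime_of_prime hq _ hQp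
        exact fun hd => hqσ (Core.piCoreOf_piNum (sigma M) M q hq hd)
      have hNQ : normalizer (Q : Set G) = M := normalizer_eq_of_isCoatom hG hM hQb hQn (Oq_le q M)
      have hqτ : q ∈ tau2 M := (thm122a hG hM hQp hQb hNQ.le).resolve_left hqσ
      have hqp := tau2_eq_of_nonabelian hG hM hp2 hn q hqτ
      subst hqp
      refine le_trans ?_ le_sup_right
      have hQP : Q ≤ P := by
        obtain ⟨x, hx, hxe⟩ := hP.exists_conj_le hQp (Oq_le q M)
        rwa [cj_eq_of_mem_normalizer (hQn hx)] at hxe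
      have hm : ∀ w ∈ Q, w ^ q = 1 → w ∈ A₀ := by
        intro w hw hwq
        rw [← h0eq]
        exact mem_inf.2 ⟨hPA w (hQP hw) hwq, hQC hw⟩
      obtain ⟨hY1, hY2⟩ := hYs A₀ h0A h0c h0Z
      intro y hy
      apply hm y hy
      by_contra hyq
      have hyS : y ∈ S ⊓ centralizer (A : Set G) := mem_inf.2 ⟨hPS (hQP hy), centralizer_le hAP (le_centralizer P (hQP hy))⟩
      rw [← hY2] at hyS
      have hYN : Y ≤ normalizer (A₀ : Set G) := (hYC.trans (centralizer_le h0A)).trans (centralizer_le_normalizer _)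
      obtain ⟨b, hb, z, hz, hbz⟩ := (H22.Basic.mem_sup_of_le_normalizer hYN).1 hyS
      have hcomm : Commute b z := (mem_centralizer_iff.1 (hYC hz) b (h0A hb))
      have hyz : y ^ q = z ^ q := by
        rw [← hbz, hcomm.mul_pow, hA.2 b (h0A hb), one_mul]
      obtain ⟨w, hw, hw1, hwq⟩ := exists_pow_prime (p := q) (v := y ^ q) (by
        obtain ⟨k, hk⟩ := hQp ⟨y ^ q, pow_mem hy q⟩
        exact ⟨k, congrArg Subtype.val hk⟩) hyq
      have hwQ : w ∈ Q := by
        have : zpowers (y ^ q) ≤ Q := by rw [zpowers_le]; exact pow_mem hy q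
        exact this hw
      have hwY : w ∈ Y := by
        have : zpowers (y ^ q) ≤ Y := by rw [zpowers_le, hyz]; exact pow_mem hz q
        exact this hw
      have h6 : w ∈ (A₀ ⊓ Y : Subgroup G) := mem_inf.2 ⟨hm w hwQ hwq, hwY⟩
      rw [hY1, mem_bot] at h6
      exact hw1 h6
    · apply sup_le
      · exact Core.le_fittingOf (sigmaCore_le M) (le_normalizer_sigmaCore M) (h.thm113 hG)
      · exact Core.le_fittingOf (h0A.trans h.le) hMA₀ (Core.isNilpotent_of_isPGroup (h.e2.isPGroup.to_le h0A))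
  · intro X hXA hXc hX0
    exact ⟨hfix' X hXA hXc hX0, fun hle => hconj X hXA hXc hX0 (Or.inr hle)⟩

end Cfsg.Agent.H12.BG12
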