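import Mathlib
import Cfsg.Agent.H12_BG12d

/-! BG 12.8, 12.9, 12.10 -/

set_option autoImplicit false
set_option linter.unusedSectionVars false

open Pointwise
open scoped commutatorElement

namespace Cfsg.Agent.H12.BG12

open Cfsg Subgroup H13.Syl H12.Loc H12.Trans H12.BG7 H12.Puig H12.BG9 H12.BG10 H12.BG11

universe u

variable {G : Type u} [Group G] [Finite G]

theorem nilp_of_comm {N : Subgroup G} (h : IsMulCommutative N) : Group.IsNilpotent N := by
  letI : CommGroup N := { (inferInstance : Group N) with mul_comm := h.is_comm.comm }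
  infer_instance

/-- `H' ≤ F(H)` for odd solvable `H` whose Fitting subgroup has rank at most 2 -/
theorem comm_le_fittingOf (hG : IsMinSimpleOddOrder G) {H : Subgroup G} (hH : H ≠ ⊤)
    (h : ∀ q : ℕ, q.Prime → PRankLE q 2 (Oq q H)) : ⁅H, H⁆ ≤ fittingOf H := by
  have hs : Group.IsSolvable H := solvable_of_ne_top hG hH
  have h1 : commutator H ≤ fittingSubgroup H := by
    refine Rank2.commutator_le_fitting (odd_card_subgroup hG H) ?_
    intro q hq
    have h2 := h q hq
    rw [Oq_eq_map hq] at h2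
    exact SCN.pRankLE_of_injective ((pCore q H).equivMapOfInjective _ H.subtype_injective).toMonoidHom
      ((pCore q H).equivMapOfInjective _ H.subtype_injective).injective h2
  rw [← map_commutator_subtype]
  exact Subgroup.map_mono h1

/-- nilpotent groups with abelian Sylow subgroups are abelian -/
theorem comm_of_nilpotent {N : Subgroup G} (hN : Group.IsNilpotent N)
    (h : ∀ p : ℕ, p.Prime → p ∣ Nat.card N → ∀ P : Subgroup G, IsSylIn p P N → IsMulCommutative P) : IsMulCommutative N := by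
  have key : N ≤ centralizer (N : Set G) := by
    apply le_of_sylow
    intro p hp hd P hP
    haveI : Fact p.Prime := ⟨hp⟩
    rw [le_centralizer_iff]
    apply le_of_sylow
    intro q hq hdq Q hQ
    haveI : Fact q.Prime := ⟨hq⟩
    by_cases hqp : q = p
    · subst hqp
      have h1 := nilp_sylow_normal hN hP
      have h2 : Q = P := by
        obtain ⟨x, hx, hxe⟩ := hQ.exists_conj_eq hP
        rw [← hxe, cj_eq_of_mem_normalizer (h1 hx)]
      rw [h2]
      have := h q hq hd P hP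
      exact le_centralizer P
    · exact nilp_cent hqp hN hQ.le hP.le hQ.isPGroup hP.isPGroup
  refine ⟨⟨fun a b => Subtype.ext ?_⟩⟩
  exact (mem_centralizer_iff.1 (key b.2) a a.2)

/-- BG 12.10(a) -/
theorem thm1210a (hG : IsMinSimpleOddOrder G) {M N : Subgroup G} (hM : IsCoatom M) (hNM : N ≤ M) (hN : Group.IsNilpotent N)
    (hσ : SigmaC M N) : IsMulCommutative N := by
  apply comm_of_nilpotent hN
  intro p hp hd T hT
  haveI : Fact p.Prime := ⟨hp⟩
  have hpσ := hσ p hp hd
  by_cases h1 : PRankLE p 1 M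
  · have : IsCyclic T := cyclic_sylow hG hT.isPGroup (SCN.pRankLE_mono (hT.le.trans hNM) h1)
    infer_instance
  · obtain ⟨P, hTP, hP⟩ := exists_isSylIn_ge (p := p) (H := M) hT.isPGroup (hT.le.trans hNM)
    exact comm_mono hTP (thm125b hG hM ⟨hp, hpσ, pRankLE_two_of_not_sigma hG hM hp hpσ, h1⟩ hP)

/-- BG 12.10(d) -/
theorem thm1210d (hG : IsMinSimpleOddOrder G) {M P : Subgroup G} (hM : IsCoatom M) {p : ℕ} [hp : Fact p.Prime] (hσ : p ∈ sigma M)
    (hP : IsPGroup p P) (hPM : P ≤ M) (hnc : ¬ IsCyclic P) : normalizer (P : Set G) ≤ M := by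
  have hr : ¬ PRankLE p 1 P := fun hr => hnc (cyclic_sylow hG hP hr)
  obtain ⟨A, hAP, hA, hAc⟩ := exists_ea_sq_of_not_rank_one hr
  have hPb : P ≠ ⊥ := by
    rintro rfl
    exact hnc inferInstance
  have h1 := (thm101 hG hM hσ hP hPb hPM).2
  rw [h1]
  exact sup_le inf_le_left ((centralizer_le hAP).trans (thm124a hG hM (hAP.trans hPM) hA hAc))

/-- BG 12.8(c) -/
theorem thm128c (hG : IsMinSimpleOddOrder G) {M A A₁ E S : Subgroup G} {p : ℕ} [hp : Fact p.Prime] (h : Exc M p A A₁)
    (hE : IsComplIn E (sigmaCore M) M) (hAE : A ≤ E) (hS : IsSylIn p S ⊤) (hAS : A ≤ S) (hab : IsMulCommutative S) :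
    S ≤ ⁅normalizer (S : Set G), normalizer (S : Set G)⁆ ∧ ⁅normalizer (S : Set G), normalizer (S : Set G)⁆ ≤ fittingOf E ∧
      fittingOf E ≤ centralizer (S : Set G) ∧ centralizer (S : Set G) ≤ E ∧ fittingOf (normalizer (A : Set G)) = fittingOf E ∧
      normalizer (A : Set G) = normalizer (S : Set G) := by
  have hM := h.co
  have hA := h.e2.ea
  obtain ⟨hCE, hNE, hNM⟩ := thm126b hG h hE hAE
  have hEA := exc_compl_le hG h hE hAE
  have hSC : S ≤ centralizer (A : Set G) := (le_centralizer S).trans (centralizer_le hAS)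
  have hSE : S ≤ E := hSC.trans hCE
  have hab' : ∀ T : Subgroup G, IsPGroup p T → IsMulCommutative T := by
    intro T hT
    obtain ⟨T', hTT, hT'⟩ := exists_isSylIn_ge (p := p) (H := ⊤) hT le_top
    exact comm_mono hTT (comm_of_sylow hS hT' hab)
  set H := normalizer (A : Set G) with hH
  have hHt : H ≠ ⊤ := normalizer_ne_top hG h.e2.ne_bot (ne_top_of_isPGroup hG h.e2.isPGroup)
  have hAH : A ≤ H := le_normalizer
  have hNSA : normalizer (S : Set G) ≤ H := by
    intro g hg
    rw [hH, mem_normalizer_iff_cj]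
    apply Subgroup.eq_of_le_of_card_ge _ (by rw [card_cj])
    rw [cj_le_iff_forall]
    intro a ha
    apply h.e2.mem
    · exact hSC ((mem_normalizer_iff.1 hg a).1 (hAS ha))
    · rw [conj_pow, hA.2 a ha, mul_one, mul_inv_cancel]
  -- F(X) ≤ C(A) for A normal in X
  have hFC : ∀ X : Subgroup G, A ≤ X → X ≤ normalizer (A : Set G) → fittingOf X ≤ centralizer (A : Set G) := by
    intro X hAX hXA
    rw [fittingOf_le_iff]
    intro q hq
    haveI : Fact q.Prime := ⟨hq⟩
    by_cases hqp : q = p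
    · subst hqp
      have h1 : A ≤ Oq q X := le_Oq hq hAX hXA h.e2.isPGroup
      have := hab' _ (Oq_isPGroup hq X)
      exact (le_centralizer _).trans (centralizer_le h1)
    · exact comm_of_normal hAX (Oq_le q X) hXA (le_normalizer_Oq q X)
        (inf_eq_bot_of_primes (Ne.symm hqp) h.e2.isPGroup (Oq_isPGroup hq X))
  have hFE := hFC E hAE hEA
  have hFH := hFC H hAH le_rfl
  have hEH : E ≤ H := hEA
  have hFHE : fittingOf H ≤ fittingOf E := Core.le_fittingOf (hFH.trans hCE) (hEH.trans (Core.le_normalizer_fittingOf H))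
    (Core.fittingOf_isNilpotent H)
  have hCH : H ≤ normalizer (centralizer (A : Set G) : Set G) := by
    intro g hg
    rw [mem_normalizer_iff_cj, cj_centralizer, cj_eq_of_mem_normalizer hg]
  have hFEH : fittingOf E ≤ fittingOf H := by
    have h1 : fittingOf E ≤ fittingOf (centralizer (A : Set G)) :=
      Core.le_fittingOf hFE (hCE.trans (Core.le_normalizer_fittingOf E)) (Core.fittingOf_isNilpotent E)
    refine h1.trans ?_
    apply Core.le_fittingOf ((Core.fittingOf_le _).trans (centralizer_le_normalizer _)) _ (Core.fittingOf_isNilpotent _)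
    exact hCH.trans (Core.normalizer_le_normalizer_fittingOf _)
  have hEσ := compl_sigmaC hG hM hE
  have hHcomm : ⁅H, H⁆ ≤ fittingOf H := by
    apply comm_le_fittingOf hG hHt
    intro q hq
    haveI : Fact q.Prime := ⟨hq⟩
    have h1 : Oq q H ≤ E := (Oq_le_fittingOf hq H).trans (hFH.trans hCE)
    by_cases hb : Oq q H = ⊥
    · rw [hb]
      exact pRankLE_of_not_dvd hq (by rw [card_bot]; exact hq.one_lt.ne' ∘ Nat.dvd_one.1)
    · have hqE : q ∣ Nat.card E := dvd_card_of_le (Oq_isPGroup hq H) hb h1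
      exact SCN.pRankLE_mono (h1.trans hE.1) (pRankLE_two_of_not_sigma hG hM hq (hEσ q hq hqE))
  have hSN := sylow_le_commutator_normalizer hG hS
  have hNN : ⁅normalizer (S : Set G), normalizer (S : Set G)⁆ ≤ fittingOf E := (commutator_mono hNSA hNSA).trans (hHcomm.trans hFHE)
  have hSF : S ≤ fittingOf E := hSN.trans hNN
  have hFn := Core.fittingOf_isNilpotent E
  have hSFs : IsSylIn p S (fittingOf E) := hS.mono hSF le_top
  have hFCS : fittingOf E ≤ centralizer (S : Set G) := by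
    apply le_of_sylow
    intro q hq hd Q hQ
    haveI : Fact q.Prime := ⟨hq⟩
    by_cases hqp : q = p
    · subst hqp
      have h2 : Q = S := by
        obtain ⟨x, hx, hxe⟩ := hQ.exists_conj_eq hSFs
        rw [← hxe, cj_eq_of_mem_normalizer (nilp_sylow_normal hFn hSFs hx)]
      rw [h2]
      exact le_centralizer S
    · exact nilp_cent hqp hFn hQ.le hSF hQ.isPGroup hS.isPGroup
  have hFeq : fittingOf H = fittingOf E := le_antisymm hFHE hFEH
  refine ⟨hSN, hNN, hFCS, (centralizer_le hAS).trans hCE, hFeq, le_antisymm ?_ hNSA⟩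
  refine normal_of_nilpotent_sylow (p := p) (N := fittingOf H) (Core.fittingOf_le H) (Core.le_normalizer_fittingOf H) (Core.fittingOf_isNilpotent H) ?_
  rw [hFeq]; exact hSFs

/-- every `τ₂`-subgroup of `E` lies in `F(E)` when the Sylow `p`-subgroups are abelian -/
theorem tau2_le_fitting (hG : IsMinSimpleOddOrder G) {M A A₁ E S : Subgroup G} {p : ℕ} [hp : Fact p.Prime] (h : Exc M p A A₁) (hp2 : p ∈ tau2 M)
    (hE : IsComplIn E (sigmaCore M) M) (hAE : A ≤ E) (hS : IsSylIn p S ⊤) (hAS : A ≤ S) (hab : IsMulCommutative S) {X : Subgroup G}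
    (hXE : X ≤ E) (hX : ∀ q : ℕ, q.Prime → q ∣ Nat.card X → q ∈ tau2 M) : X ≤ fittingOf E := by
  have hM := h.co
  apply le_of_sylow
  intro q hq hd Q hQ
  haveI : Fact q.Prime := ⟨hq⟩
  have hqτ := hX q hq hd
  obtain ⟨B, hBE, hB, hBc⟩ := exists_ea_compl hG hM hE hqτ
  obtain ⟨B₁, h'⟩ := exists_exc hG hM hqτ.2.1 (hBE.trans hE.1) hB hBc
  obtain ⟨T, hBT, hT⟩ := exists_isSylIn_ge (p := q) (H := ⊤) h'.e2.isPGroup le_top
  have hTab : IsMulCommutative T := by
    by_contra hn
    have hn' : ∀ T' : Subgroup G, IsSylIn q T' ⊤ → ¬ IsMulCommutative T' := fun T' hT' hc => hn (comm_of_sylow hT' hT hc)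
    have h1 := tau2_eq_of_nonabelian hG hM hqτ hn' p hp2
    subst h1
    exact hn (comm_of_sylow hS hT hab)
  obtain ⟨c1, c2, -, c4, -, -⟩ := thm128c hG h' hE hBE hT hBT hTab
  have hTF : T ≤ fittingOf E := c1.trans c2
  have hTE : IsSylIn q T E := hT.mono (hTF.trans (Core.fittingOf_le E)) le_top
  obtain ⟨x, hx, hxe⟩ := hTE.exists_conj_le hQ.isPGroup (hQ.le.trans hXE)
  have h2 : cj x Q ≤ fittingOf E := hxe.trans hTF
  have h3 : x⁻¹ ∈ normalizer (fittingOf E : Set G) := inv_mem (Core.le_normalizer_fittingOf E hx)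
  rw [cj_le_iff, cj_eq_of_mem_normalizer h3] at h2
  exact h2

/-- BG 12.10(e) -/
theorem thm1210e (hG : IsMinSimpleOddOrder G) {M X : Subgroup G} (hM : IsCoatom M) (hXM : X ≤ M) (hXb : X ≠ ⊥) (hXs : Group.IsNilpotent X)
    (hX : ∀ q : ℕ, q.Prime → q ∣ Nat.card X → q ∈ tau2 M) (hne : sigmaCore M ⊓ centralizer (X : Set G) ≠ ⊥) :
    UMax M (centralizer (X : Set G)) := by
  have hMs := solvable_of_ne_top hG hM.1
  obtain ⟨E, hXE, hEh⟩ := Hall.exists_hall_ge hMs (π := (sigma M)ᶜ) (X := X) (fun q hq hd => (hX q hq hd).2.1) hXM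
  have hE := isCompl_of_hall hG hM hEh
  obtain ⟨p, hp', hpd⟩ := Nat.exists_prime_and_dvd (mt (fun h => eq_bot_of_card_eq _ h) hXb)
  haveI : Fact p.Prime := ⟨hp'⟩
  have hpτ := hX p hp' hpd
  obtain ⟨A, hAE, hA, hAc⟩ := exists_ea_compl hG hM hE hpτ
  obtain ⟨A₁, h⟩ := exists_exc hG hM hpτ.2.1 (hAE.trans hE.1) hA hAc
  have hXt : X ≠ ⊤ := fun ht => hM.1 (top_le_iff.1 (ht ▸ hXM))
  refine thm126c hG h hXb ?_ hXt hne
  rw [le_centralizer_iff]
  obtain ⟨P, hAP, hP⟩ := exists_isSylIn_ge (p := p) (H := E) h.e2.isPGroup hAE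
  obtain ⟨S, hPS, hS⟩ := exists_isSylIn_ge (p := p) (H := ⊤) hP.isPGroup le_top
  by_cases hab : IsMulCommutative S
  · obtain ⟨c1, c2, c3, c4, -, -⟩ := thm128c hG h hE hAE hS (hAP.trans hPS) hab
    have h1 := tau2_le_fitting hG h hpτ hE hAE hS (hAP.trans hPS) hab hXE hX
    exact (h1.trans c3).trans (centralizer_le (hAP.trans hPS))
  · have hn : ∀ T' : Subgroup G, IsSylIn p T' ⊤ → ¬ IsMulCommutative T' := fun T' hT' hc => hab (comm_of_sylow hT' hS hc)
    have h1 := tau2_eq_of_nonabelian hG hM hpτ hn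
    have hXp : IsPGroup p X := by
      rw [Core.isPGroup_iff_piNum hp']
      intro q hq hd
      exact h1 q (hX q hq hd)
    have hPM : IsSylIn p P M := Hall.sylow_trans hEh hpτ.2.1 hP
    have hPab := thm125b hG hM hpτ hPM
    obtain ⟨x, hx, hxe⟩ := hP.exists_conj_le hXp hXE
    have h2 : cj x X ≤ centralizer (A : Set G) := (hxe.trans (le_centralizer P)).trans (centralizer_le hAP)
    have h3 : x⁻¹ ∈ normalizer (A : Set G) := inv_mem (exc_compl_le hG h hE hAE hx)
    rw [cj_le_iff, cj_centralizer, cj_eq_of_mem_normalizer h3] at h2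
    exact h2

end Cfsg.Agent.H12.BG12
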