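import Mathlib
import Cfsg.Agent.H12_BG12e

/-! BG 12.13 -/

set_option autoImplicit false
set_option linter.unusedSectionVars false

open Pointwise
open scoped commutatorElement

namespace Cfsg.Agent.H12.BG12

open Cfsg Subgroup H13.Syl H12.Loc H12.Trans H12.BG7 H12.Puig H12.BG9 H12.BG10 H12.BG11

universe u

variable {G : Type u} [Group G] [Finite G]

/-- generation by fixed points modulo a central subgroup -/
theorem exists_one_mod {p : ℕ} [hp : Fact p.Prime] {P₁ Z V D : Subgroup G} (hZP : Z ≤ P₁) (hc : ⁅P₁, P₁⁆ ≤ Z) (hexp : ∀ x ∈ P₁, x ^ p ∈ Z)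
    (hcard : p * Nat.card Z < Nat.card P₁) (hPZ : P₁ ≤ centralizer (Z : Set G)) (hVZ : V ≤ centralizer (Z : Set G))
    (hPV : P₁ ≤ normalizer (V : Set G)) (hcop : (Nat.card P₁).Coprime (Nat.card V)) (hD : ¬ V ≤ D) :
    ∃ y ∈ P₁, y ∉ Z ∧ ¬ V ⊓ centralizer ({y} : Set G) ≤ D := by
  set H := centralizer (Z : Set G) with hH
  have hZH : Z ≤ H := hZP.trans hPZ
  have hn : (Z.subgroupOf H).Normal := Core.normal_subgroupOf_of_le (centralizer_le_normalizer _)
  set π := QuotientGroup.mk' (Z.subgroupOf H) with hπ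
  have hZV : Z ⊓ V = ⊥ := H22.Basic.inf_eq_bot_of_coprime (Nat.Coprime.coprime_dvd_left (card_dvd_of_le hZP) hcop)
  set E' := (P₁.subgroupOf H).map π with hE'
  set V' := (V.subgroupOf H).map π with hV'
  set D' := ((D ⊓ V).subgroupOf H).map π with hD'
  have key : ∀ x : H, π x = 1 ↔ (x : G) ∈ Z := fun x => (QuotientGroup.eq_one_iff x).trans mem_subgroupOf
  have hEc : ∀ a ∈ E', ∀ b ∈ E', a * b = b * a := by
    rintro _ ⟨x, hx, rfl⟩ _ ⟨y, hy, rfl⟩
    rw [← commutatorElement_eq_one_iff_mul_comm, ← map_commutatorElement, key]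
    exact hc (commutator_mem_commutator (mem_subgroupOf.1 hx) (mem_subgroupOf.1 hy))
  have hEp : ∀ a ∈ E', a ^ p = 1 := by
    rintro _ ⟨x, hx, rfl⟩
    rw [← map_pow, key]
    exact hexp _ (mem_subgroupOf.1 hx)
  have hEcard : p < Nat.card E' := by
    have h1 : (Z.subgroupOf H).relIndex (P₁.subgroupOf H) = Nat.card E' := by
      have h := Subgroup.relIndex_ker (P₁.subgroupOf H) π
      rw [hπ, QuotientGroup.ker_mk'] at h
      exact h
    have h2 : Nat.card (Z.subgroupOf H) * (Z.subgroupOf H).relIndex (P₁.subgroupOf H) = Nat.card (P₁.subgroupOf H) :=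
      H22.Basic.card_mul_relIndex (fun x hx => mem_subgroupOf.2 (hZP (mem_subgroupOf.1 hx)))
    rw [h1, H22.Basic.card_subgroupOf_eq hZH, H22.Basic.card_subgroupOf_eq hPZ] at h2
    rw [← h2, mul_comm] at hcard
    exact Nat.lt_of_mul_lt_mul_left hcard
  have hEV : E' ≤ normalizer (V' : Set _) := by
    refine le_trans (Subgroup.map_mono ?_) (le_normalizer_map π)
    intro a ha
    rw [mem_normalizer_iff]
    intro x
    rw [mem_subgroupOf, mem_subgroupOf]
    exact mem_normalizer_iff.1 (hPV (mem_subgroupOf.1 ha)) x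
  have hcop' : (Nat.card E').Coprime (Nat.card V') := by
    have h1 : Nat.card E' ∣ Nat.card P₁ := by
      rw [← H22.Basic.card_subgroupOf_eq hPZ]; exact card_map_dvd _ _
    have h2 : Nat.card V' ∣ Nat.card V := by
      rw [← H22.Basic.card_subgroupOf_eq hVZ]; exact card_map_dvd _ _
    exact Nat.Coprime.coprime_dvd_left h1 (Nat.Coprime.coprime_dvd_right h2 hcop)
  have hDn : ¬ V' ≤ D' := by
    intro hle
    apply hD
    intro v hv
    obtain ⟨d, hd, hde⟩ := hle ⟨⟨v, hVZ hv⟩, mem_subgroupOf.2 hv, rfl⟩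
    have h1 : π (d⁻¹ * ⟨v, hVZ hv⟩) = 1 := by rw [map_mul, map_inv, hde, inv_mul_cancel]
    rw [key] at h1
    have hd' : (d : G) ∈ D ⊓ V := mem_subgroupOf.1 hd
    have h2 : ((d : G)⁻¹ * v) ∈ (Z ⊓ V : Subgroup G) := mem_inf.2 ⟨h1, mul_mem (inv_mem (mem_inf.1 hd').2) hv⟩
    rw [hZV, mem_bot, inv_mul_eq_one] at h2
    rw [← h2]
    exact (mem_inf.1 hd').1
  obtain ⟨a', ⟨y, hy, rfl⟩, ha1, hna⟩ := exists_one hEc hEp hEcard hEV hcop' hDn
  have hyP : (y : G) ∈ P₁ := mem_subgroupOf.1 hy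
  refine ⟨y, hyP, fun hyZ => ha1 ((key y).2 hyZ), fun hle => hna ?_⟩
  rintro _ ⟨⟨v, hv, rfl⟩, hvc⟩
  have hvV : (v : G) ∈ V := mem_subgroupOf.1 hv
  have h1 : π ⁅v, y⁆ = 1 := by
    rw [map_commutatorElement, commutatorElement_eq_one_iff_mul_comm]
    exact mem_centralizer_singleton_iff.1 hvc
  rw [key] at h1
  have h2 : (⁅v, y⁆ : H) = ⁅(v : G), (y : G)⁆ := rfl
  have h3 : ⁅(v : G), (y : G)⁆ ∈ (Z ⊓ V : Subgroup G) := by
    refine mem_inf.2 ⟨h1, ?_⟩
    have h4 := (mem_normalizer_iff.1 (hPV hyP) _).1 (inv_mem hvV)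
    have h5 := mul_mem hvV h4
    have e : (v : G) * ((y : G) * (v : G)⁻¹ * (y : G)⁻¹) = ⁅(v : G), (y : G)⁆ := by
      rw [commutatorElement_def]; group
    rwa [e] at h5
  rw [hZV, mem_bot, commutatorElement_eq_one_iff_mul_comm] at h3
  have h6 : (v : G) ∈ V ⊓ centralizer ({(y : G)} : Set G) := mem_inf.2 ⟨hvV, mem_centralizer_singleton_iff.2 h3⟩
  exact ⟨v, mem_subgroupOf.2 (mem_inf.2 ⟨hle h6, hvV⟩), rfl⟩

theorem e2max_of_rank {p : ℕ} [hp : Fact p.Prime] {R A : Subgroup G} (hR : IsSylIn p R ⊤) (hr : PRankLE p 2 R) (hA : IsElementaryAbelian p A)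
    (hAc : Nat.card A = p ^ 2) : E2Max p A := by
  refine ⟨hA, hAc, fun B hB hAB => ?_⟩
  obtain ⟨x, -, hx⟩ := hR.exists_conj_le (ea_isPGroup hB) le_top
  have h1 := SCN.pRankLE_iff.1 hr _ hx (cj_ea hB x)
  rw [card_cj] at h1
  exact (Subgroup.eq_of_le_of_card_ge hAB (by rw [hAc]; exact h1)).symm

/-- main step of 12.13 -/
theorem key1213 (hG : IsMinSimpleOddOrder G) {M H R : Subgroup G} (hM : IsCoatom M) (hH : IsCoatom H) (hne : H ≠ M) {p : ℕ} [hp : Fact p.Prime]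
    (hR : IsSylIn p R ⊤) (hRM : R ≤ M) (hRH : R ≤ H) (hr : PRankLE p 2 R) (hn : ¬ IsMulCommutative R)
    (hαH : alphaCore H ≠ ⊥) (hMf : M ≤ alphaCore M ⊔ (H ⊓ M)) (hU : UMax M (normalizer (OZ p R : Set G))) : False := by
  have hpp := hp.out
  have hRsM : IsSylIn p R M := hR.mono hRM le_top
  have hα : p ∉ alpha M := fun h => h.2 (pRankLE_of_isSylIn hRsM hr)
  have hpα : ¬ p ∣ Nat.card (alphaCore M) := fun hd => hα (Core.piCoreOf_piNum (alpha M) M p hpp hd)
  -- for every `A`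
  have keyA : ∀ A : Subgroup G, A ≤ R → IsElementaryAbelian p A → Nat.card A = p ^ 2 → OZ p R ≤ A ∧ Nat.card (OZ p R) = p ∧
      (∀ X : Subgroup G, X ≤ A → Nat.card X = p → X ≠ OZ p R → normalizer (X : Set G) ≤ H) ∧ alphaCore M ⊓ H ≤ centralizer (A : Set G) := by
    intro A hAR hA hAc
    have hE2 := e2max_of_rank hR hr hA hAc
    obtain ⟨hZc, hZA, -, htr⟩ := thm1013 hG hR.isPGroup hE2 hAR hn
    obtain ⟨A₁, h1A, h1c, h1U⟩ : ∃ A₁ ≤ A, Nat.card A₁ = p ∧ UMax H (normalizer (A₁ : Set G)) := by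
      by_contra hcon
      push Not at hcon
      exact hαH (thm124b hG hH (hAR.trans hRH) hA hAc hcon).2.2.1
    have h1Z : A₁ ≠ OZ p R := by
      rintro rfl
      exact hne (hU.2 H hH h1U.1)
    have h2 : ∀ X : Subgroup G, X ≤ A → Nat.card X = p → X ≠ OZ p R → normalizer (X : Set G) ≤ H := by
      intro X hXA hXc hXZ
      obtain ⟨x, hx, hxe⟩ := htr A₁ X h1A hXA h1c hXc h1Z hXZ
      rw [← hxe, ← cj_normalizer, cj_le_iff, cj_eq_of_mem (inv_mem (hRH (mem_inf.1 hx).1))]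
      exact h1U.1
    refine ⟨hZA, hZc, h2, ?_⟩
    exact thm123b hG hM hH hne (hAR.trans hRM) hA hAc h1A h1c (h2 A₁ h1A h1c h1Z) hα
  rcases thm107b hG hR hr with hc | ⟨P₁, P₂, h1, h2, h3, h4, h5, h6, h7⟩
  · exact hn hc
  have hP₁R : P₁ ≤ R := h1 ▸ le_sup_left
  obtain ⟨h8, h9⟩ := center_of_cube h4 h3
  have hr1 : ¬ PRankLE p 1 R := by
    intro h
    have := cyclic_sylow hG hR.isPGroup h
    exact hn inferInstance
  obtain ⟨A, hAR, hA, hAc⟩ := exists_ea_sq_of_not_rank_one hr1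
  obtain ⟨hZA, hZc, hNX, hMH⟩ := keyA A hAR hA hAc
  have hP₂c : P₂ ≤ centralizer (P₁ : Set G) := by
    intro b hb
    rw [mem_centralizer_iff]
    exact fun a ha => h2 a ha b hb
  have hZeq : P₁ ⊓ centralizer (P₁ : Set G) = OZ p R := by
    have hexp : ∀ a ∈ P₁, a ^ p = 1 := by
      intro a ha
      have := Monoid.pow_exponent_eq_one (⟨a, ha⟩ : P₁)
      rw [h5] at this
      exact congrArg Subtype.val this
    have hZP₂ : P₁ ⊓ centralizer (P₁ : Set G) ≤ P₂ := by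
      rw [← h7, closure_le]
      exact fun x hx => hx.1
    apply Subgroup.eq_of_le_of_card_ge
    · intro z hz
      refine ⟨hP₁R (mem_inf.1 hz).1, ?_, hexp z (mem_inf.1 hz).1⟩
      show z ∈ centralizer (R : Set G)
      rw [mem_centralizer_iff]
      intro y hy
      rw [SetLike.mem_coe, ← h1] at hy
      obtain ⟨a, ha, b, hb, rfl⟩ := (Narrow.mem_sup_of_le_centralizer hP₂c).1 hy
      have e1 : Commute a z := mem_centralizer_iff.1 (mem_inf.1 hz).2 a ha
      have e2 : Commute b z := H2.Rank2.comm_of_cyclic h6 b hb z (hZP₂ hz)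
      exact (e1.mul_left e2).eq
    · rw [hZc, ← h9, h8]
  have hexp : ∀ a ∈ P₁, a ^ p = 1 := by
    intro a ha
    have := Monoid.pow_exponent_eq_one (⟨a, ha⟩ : P₁)
    rw [h5] at this
    exact congrArg Subtype.val this
  -- `M_α ≤ C(Z₀)`
  have hcop : ∀ X : Subgroup G, IsPGroup p X → (Nat.card X).Coprime (Nat.card (alphaCore M)) := fun X hX =>
    coprime_of_prime hpp hpα hX
  have hαZ : alphaCore M ≤ centralizer (OZ p R : Set G) := by
    by_contra hcon
    obtain ⟨a, ha, ha1, hna⟩ := exists_one (ea_comm hA) hA.2 (lt_card_sq hAc) ((hAR.trans hRM).trans (le_normalizer_alphaCore M))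
      (hcop A (ea_isPGroup hA)) hcon
    apply hna
    rw [← centralizer_zpowers]
    by_cases he : zpowers a = OZ p R
    · rw [he]; exact inf_le_right
    · refine le_trans (inf_le_inf_left _ ?_) (hMH.trans (centralizer_le hZA))
      exact (centralizer_le_normalizer _).trans (hNX (zpowers a) (by rwa [zpowers_le]) (zp_card hA ha ha1) he)
  have hOZP : OZ p R ≤ P₁ := hZeq ▸ inf_le_left
  have hαH' : alphaCore M ≤ H := by
    by_contra hcon
    obtain ⟨y, hy, hyZ, hna⟩ := exists_one_mod (p := p) (P₁ := P₁) (Z := OZ p R) (V := alphaCore M) (D := H) hOZP (by rw [h8, hZeq])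
      (fun x hx => by rw [hexp x hx]; exact one_mem _) (by rw [hZc, h4]; have := hpp.one_lt; nlinarith [pow_pos hpp.pos 2])
      (by rw [← hZeq, le_centralizer_iff]; exact inf_le_right) hαZ ((hP₁R.trans hRM).trans (le_normalizer_alphaCore M))
      (hcop P₁ (hR.isPGroup.to_le hP₁R)) hcon
    apply hna
    have hy1 : y ≠ 1 := by rintro rfl; exact hyZ (one_mem _)
    have hyp := hexp y hy
    have hyc : Nat.card (zpowers y) = p := by rw [Nat.card_zpowers, orderOf_eq_prime hyp hy1]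
    have hyZ' : zpowers y ≠ OZ p R := by
      intro he
      exact hyZ (he ▸ mem_zpowers y)
    have hinf : OZ p R ⊓ zpowers y = ⊥ := by
      by_contra hb
      have hd : Nat.card ↥(OZ p R ⊓ zpowers y) ∣ p :=
        (card_dvd_of_le (inf_le_left : OZ p R ⊓ zpowers y ≤ OZ p R)).trans (by rw [hZc])
      rcases (Nat.dvd_prime hpp).1 hd with h | h
      · exact hb (eq_bot_of_card_eq _ h)
      · have e1 : OZ p R ⊓ zpowers y = OZ p R := Subgroup.eq_of_le_of_card_ge inf_le_left (by rw [h, hZc])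
        have e2 : OZ p R ⊓ zpowers y = zpowers y := Subgroup.eq_of_le_of_card_ge inf_le_right (by rw [h, hyc])
        exact hyZ' (e2.symm.trans e1)
    have hyR : zpowers y ≤ R := by rw [zpowers_le]; exact hP₁R hy
    have hyC : zpowers y ≤ centralizer (OZ p R : Set G) := by
      rw [le_centralizer_iff]
      intro z hz
      exact centralizer_le hyR hz.2.1
    have hEA : IsElementaryAbelian p (OZ p R ⊔ zpowers y : Subgroup G) :=
      Narrow.ea_sup (le_centralizer_iff.1 hyC) (OZ_ea p R) (Narrow.ea_zpowers hyp)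
    have hEc : Nat.card (OZ p R ⊔ zpowers y : Subgroup G) = p ^ 2 := by
      rw [H22.Basic.card_sup_of_inf_eq_bot (hyC.trans (centralizer_le_normalizer _)) hinf, hZc, hyc, pow_two]
    obtain ⟨-, -, hN', -⟩ := keyA _ (sup_le (OZ_le p R) hyR) hEA hEc
    refine le_trans inf_le_right ?_
    rw [← centralizer_zpowers]
    exact (centralizer_le_normalizer _).trans (hN' (zpowers y) le_sup_right hyc hyZ')
  have hMH' : M ≤ H := hMf.trans (sup_le hαH' inf_le_left)
  rcases hM.le_iff.1 hMH' with h | h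
  · exact hH.1 h
  · exact hne h

/-- BG 12.13 -/
theorem thm1213 (hG : IsMinSimpleOddOrder G) {P : Subgroup G} {p : ℕ} [hp : Fact p.Prime] (hP : IsPGroup p P) (hn : ¬ IsMulCommutative P) :
    InUniqueMaximal P := by
  obtain ⟨M, hM, hPM⟩ := exists_isCoatom_ge (ne_top_of_isPGroup hG hP)
  rw [inU_iff]
  refine ⟨M, hM, hPM, fun H hH hPH => ?_⟩
  by_contra hne
  obtain ⟨R, hPR, hR⟩ := exists_isSylIn_ge (p := p) (H := M ⊓ H) hP (le_inf hPM hPH)
  have hRM : R ≤ M := hR.le.trans inf_le_left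
  have hRH : R ≤ H := hR.le.trans inf_le_right
  have hRn : ¬ IsMulCommutative R := fun h => hn (comm_mono hPR h)
  have hRnc : ¬ IsCyclic R := fun h => hRn inferInstance
  have hRb : R ≠ ⊥ := by rintro rfl; exact hRnc inferInstance
  have hσ : ∀ L : Subgroup G, IsCoatom L → R ≤ L → p ∈ sigma L := by
    intro L hL hRL
    by_contra hσ
    apply hRn
    refine thm1210a hG hL hRL (Core.isNilpotent_of_isPGroup hR.isPGroup) ?_
    intro q hq hd
    obtain ⟨k, hk⟩ := IsPGroup.iff_card.1 hR.isPGroup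
    rw [hk] at hd
    rw [(Nat.prime_dvd_prime_iff_eq hq hp.out).1 (hq.dvd_of_dvd_pow hd)]
    exact hσ
  have hNM := thm1210d hG hM (hσ M hM hRM) hR.isPGroup hRM hRnc
  have hNH := thm1210d hG hH (hσ H hH hRH) hR.isPGroup hRH hRnc
  have hRt : IsSylIn p R ⊤ := by
    apply isSylIn_of_isSylIn_normalizer
    rw [top_inf_eq]
    exact hR.mono le_normalizer (le_inf hNM hNH)
  have hr : PRankLE p 2 R := by
    by_contra hr
    exact hne ((normalizer_le_of_rank hG hM hR.isPGroup hRM hr).2 H hH hRH)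
  obtain ⟨hβM, hMf⟩ := nonuniq_norm hG hM hH hne hRt (le_inf hNH hNM)
  obtain ⟨hβH, hHf⟩ := nonuniq_norm hG hH hM (Ne.symm hne) hRt (le_inf hNM hNH)
  have hle : ∀ L : Subgroup G, IsCoatom L → betaCore L ≤ alphaCore L := fun L hL =>
    Core.piCoreOf_mono_pi (beta_subset_alpha L) L
  have hMf' : M ≤ alphaCore M ⊔ (H ⊓ M) := hMf.le.trans (sup_le_sup_right (hle M hM) _)
  have hHf' : H ≤ alphaCore H ⊔ (M ⊓ H) := hHf.le.trans (sup_le_sup_right (hle H hH) _)
  have hαM : alphaCore M ≠ ⊥ := fun hb => hβM (le_bot_iff.1 (hb ▸ hle M hM))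
  have hαH : alphaCore H ≠ ⊥ := fun hb => hβH (le_bot_iff.1 (hb ▸ hle H hH))
  have hr1 : ¬ PRankLE p 1 R := by
    intro h
    have := cyclic_sylow hG hR.isPGroup h
    exact hRn inferInstance
  obtain ⟨A, hAR, hA, hAc⟩ := exists_ea_sq_of_not_rank_one hr1
  have hE2 := e2max_of_rank hRt hr hA hAc
  obtain ⟨hZc, hZA, -, htr⟩ := thm1013 hG hRt.isPGroup hE2 hAR hRn
  obtain ⟨A₀, h0A, h0c, h0U⟩ : ∃ A₀ ≤ A, Nat.card A₀ = p ∧ UMax M (normalizer (A₀ : Set G)) := by
    by_contra hcon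
    push Not at hcon
    exact hαM (thm124b hG hM (hAR.trans hRM) hA hAc hcon).2.2.1
  obtain ⟨A₁, h1A, h1c, h1U⟩ : ∃ A₁ ≤ A, Nat.card A₁ = p ∧ UMax H (normalizer (A₁ : Set G)) := by
    by_contra hcon
    push Not at hcon
    exact hαH (thm124b hG hH (hAR.trans hRH) hA hAc hcon).2.2.1
  by_cases h0Z : A₀ = OZ p R
  · subst h0Z
    exact key1213 hG hM hH hne hRt hRM hRH hr hRn hαH hMf' h0U
  by_cases h1Z : A₁ = OZ p R
  · subst h1Z
    exact key1213 hG hH hM (Ne.symm hne) hRt hRH hRM hr hRn hαM hHf' h1U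
  obtain ⟨x, hx, hxe⟩ := htr A₀ A₁ h0A h1A h0c h1c h0Z h1Z
  have h2 : normalizer (A₁ : Set G) ≤ M := by
    rw [← hxe, ← cj_normalizer, cj_le_iff, cj_eq_of_mem (inv_mem (hRM (mem_inf.1 hx).1))]
    exact h0U.1
  exact hne (h1U.2 M hM h2).symm

end Cfsg.Agent.H12.BG12
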