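import Mathlib
import Cfsg.Agent.H12_BG12f

/-! BG 12.14 -/

set_option autoImplicit false
set_option linter.unusedSectionVars false

open Pointwise
open scoped commutatorElement

namespace Cfsg.Agent.H12.BG12

open Cfsg Subgroup H13.Syl H12.Loc H12.Trans H12.BG7 H12.Puig H12.BG9 H12.BG10 H12.BG11

universe u

variable {G : Type u} [Group G] [Finite G]

theorem comm_le_of_sup {K P L : Subgroup G} (hK : K ≤ L) (hn : L ≤ normalizer (K : Set G)) (hs : K ⊔ P = L) : ⁅L, L⁆ ≤ ⁅P, P⁆ ⊔ K := by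
  have hPL : P ≤ L := hs ▸ le_sup_right
  have hN : (K.subgroupOf L).Normal := Core.normal_subgroupOf_of_le hn
  set q := QuotientGroup.mk' (K.subgroupOf L) with hq
  have key : ∀ a ∈ L, ∃ k ∈ K, ∃ x ∈ P, a = k * x := by
    intro a ha
    rw [← hs] at ha
    obtain ⟨k, hk, x, hx, he⟩ := (H22.Basic.mem_sup_of_le_normalizer (hPL.trans hn)).1 ha
    exact ⟨k, hk, x, hx, he.symm⟩
  rw [commutator_le]
  intro a ha b hb
  obtain ⟨k, hk, x, hx, rfl⟩ := key a ha
  obtain ⟨l, hl, y, hy, rfl⟩ := key b hb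
  have e1 : q ⟨k, hK hk⟩ = 1 := (QuotientGroup.eq_one_iff _).2 (mem_subgroupOf.2 hk)
  have e2 : q ⟨l, hK hl⟩ = 1 := (QuotientGroup.eq_one_iff _).2 (mem_subgroupOf.2 hl)
  have e3 : q (⁅(⟨x, hPL hx⟩ : L), ⟨y, hPL hy⟩⁆⁻¹ * ⁅(⟨k, hK hk⟩ * ⟨x, hPL hx⟩ : L), ⟨l, hK hl⟩ * ⟨y, hPL hy⟩⁆) = 1 := by
    rw [map_mul, map_inv, map_commutatorElement, map_commutatorElement, map_mul, map_mul, e1, e2, one_mul, one_mul, inv_mul_cancel]
  have e4 : ⁅x, y⁆⁻¹ * ⁅k * x, l * y⁆ ∈ K := mem_subgroupOf.1 ((QuotientGroup.eq_one_iff _).1 e3)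
  have e5 : ⁅k * x, l * y⁆ = ⁅x, y⁆ * (⁅x, y⁆⁻¹ * ⁅k * x, l * y⁆) := by group
  rw [e5]
  exact mul_mem ((le_sup_left : ⁅P, P⁆ ≤ ⁅P, P⁆ ⊔ K) (commutator_mem_commutator hx hy)) ((le_sup_right : K ≤ ⁅P, P⁆ ⊔ K) e4)

theorem npc_data {p : ℕ} [hp : Fact p.Prime] {L : Subgroup G} (h : HasNormalPComplement p L) :
    ∃ K : Subgroup G, K ≤ L ∧ L ≤ normalizer (K : Set G) ∧ ¬ p ∣ Nat.card K ∧ ∀ P : Subgroup G, IsSylIn p P L → K ⊔ P = L := by
  obtain ⟨P₁, N, hN, hc⟩ := h
  have hcardN : Nat.card (N.map L.subtype) = Nat.card N := card_map_of_injective L.subtype_injective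
  have hLN : L ≤ normalizer ((N.map L.subtype : Subgroup G) : Set G) := by
    intro l hl
    rw [mem_normalizer_iff_cj]
    apply Subgroup.eq_of_le_of_card_ge _ (by rw [card_cj])
    rw [cj_le_iff_forall]
    rintro _ ⟨n, hn, rfl⟩
    exact ⟨⟨l, hl⟩ * n * ⟨l, hl⟩⁻¹, hN.conj_mem n hn ⟨l, hl⟩, rfl⟩
  have hmul : Nat.card N * Nat.card (P₁ : Subgroup L) = Nat.card L := hc.card_mul
  have hndvd : ¬ p ∣ Nat.card N := by
    intro hd
    apply P₁.not_dvd_index
    have h1 : Nat.card N = (P₁ : Subgroup L).index := by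
      have h2 := (P₁ : Subgroup L).card_mul_index
      rw [← hmul, mul_comm (Nat.card N)] at h2
      exact (Nat.eq_of_mul_eq_mul_left Nat.card_pos h2).symm
    rwa [← h1]
  refine ⟨N.map L.subtype, map_subtype_le _, hLN, by rwa [hcardN], fun P hP => ?_⟩
  apply Subgroup.eq_of_le_of_card_ge (sup_le (map_subtype_le _) hP.le)
  have hcop : (Nat.card (N.map L.subtype)).Coprime (Nat.card P) := by
    rw [hcardN]
    exact (coprime_of_prime hp.out hndvd hP.isPGroup).symm
  have h1 : Nat.card P = Nat.card (P₁ : Subgroup L) := by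
    have h2 := hP.card_eq (isSylIn_map_subtype P₁)
    rwa [card_map_of_injective L.subtype_injective] at h2
  rw [H22.Basic.card_sup_of_inf_eq_bot (hP.le.trans hLN) (H22.Basic.inf_eq_bot_of_coprime hcop), hcardN, h1, hmul]

/-- focal subgroup for groups with a normal `p`-complement -/
theorem npc_inf {p : ℕ} [hp : Fact p.Prime] {L P : Subgroup G} (h : HasNormalPComplement p L) (hP : IsSylIn p P L) :
    P ⊓ ⁅L, L⁆ ≤ ⁅P, P⁆ := by
  obtain ⟨K, hKL, hn, hK, hs⟩ := npc_data h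
  have hKP : K ⊓ P = ⊥ := H22.Basic.inf_eq_bot_of_coprime (coprime_of_prime hp.out hK hP.isPGroup).symm
  intro x hx
  have h1 := comm_le_of_sup hKL hn (hs P hP) (mem_inf.1 hx).2
  have hPK : (⁅P, P⁆ : Subgroup G) ≤ normalizer (K : Set G) := (commutator_le_self P).trans (hP.le.trans hn)
  rw [sup_comm] at h1
  obtain ⟨k, hk, y, hy, he⟩ := (H22.Basic.mem_sup_of_le_normalizer hPK).1 h1
  have hyP : y ∈ P := commutator_le_self P hy
  have hk' : k ∈ (K ⊓ P : Subgroup G) := by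
    refine mem_inf.2 ⟨hk, ?_⟩
    have : k = x * y⁻¹ := by rw [← he]; group
    rw [this]
    exact mul_mem (mem_inf.1 hx).1 (inv_mem hyP)
  rw [hKP, mem_bot] at hk'
  rw [← he, hk', one_mul]
  exact hy

theorem umax_of_inU {M P : Subgroup G} (hM : IsCoatom M) (hP : P ≤ M) (h : InUniqueMaximal P) : UMax M P := by
  obtain ⟨D, hD, hPD, hu⟩ := inU_iff.1 h
  have := hu M hM hP
  subst this
  exact ⟨hP, hu⟩

theorem umax_mono {M X Y : Subgroup G} (h : UMax M X) (hXY : X ≤ Y) (hY : Y ≠ ⊤) : UMax M Y :=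
  ⟨le_of_inU h.2 hXY hY, fun L hL hle => h.2 L hL (hXY.trans hle)⟩

theorem cent_ne_top (hG : IsMinSimpleOddOrder G) {X : Subgroup G} (hX : X ≠ ⊥) (hXt : X ≠ ⊤) : centralizer (X : Set G) ≠ ⊤ := by
  intro ht
  apply normalizer_ne_top hG hX hXt
  rw [eq_top_iff, ← ht]
  exact centralizer_le_normalizer _

/-- rank of the centralizer, ideal primes -/
theorem rank_cent_ideal {p : ℕ} [hp : Fact p.Prime] (hi : IsIdealPrime p G) {P X : Subgroup G} (hP : IsSylIn p P ⊤)
    (hXP : X ≤ P) (hXc : Nat.card X = p) : ¬ PRankLE p 2 ↥(P ⊓ centralizer (X : Set G)) := by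
  intro hr
  have hpp := hp.out
  have hXea : IsElementaryAbelian p X := by
    obtain ⟨x, hx, hxp, -⟩ := exists_gen hXc
    rw [← hx]
    exact Narrow.ea_zpowers hxp
  have hrP : ¬ PRankLE p 2 P := fun h => hi.2.1 (by
    rw [SCN.pRankLE_top_iff]
    intro F hF
    obtain ⟨x, -, hx⟩ := hP.exists_conj_le (ea_isPGroup hF) le_top
    have h1 := SCN.pRankLE_iff.1 h _ hx (cj_ea hF x)
    rwa [card_cj] at h1)
  have hXC : ¬ P ≤ centralizer (X : Set G) := by
    intro hle
    rw [inf_eq_left.2 hle] at hr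
    exact hrP hr
  have hPb : P ≠ ⊥ := by
    rintro rfl
    rw [le_bot_iff] at hXP
    rw [hXP, card_bot] at hXc
    exact hpp.one_lt.ne hXc
  obtain ⟨z, hz, hz1⟩ := exists_ne_one (OZ_ne_bot hP.isPGroup hPb)
  have hzX : z ∉ X := by
    intro h
    apply hXC
    have h1 : zpowers z = X := by
      apply Subgroup.eq_of_le_of_card_ge (by rwa [zpowers_le])
      rw [hXc, Nat.card_zpowers, orderOf_eq_prime hz.2.2 hz1]
    rw [← h1, centralizer_zpowers]
    intro x hx
    rw [mem_centralizer_singleton_iff]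
    exact mem_centralizer_iff.1 hz.2.1 x hx
  have hzC : zpowers z ≤ centralizer (X : Set G) := by
    rw [zpowers_le]
    exact centralizer_le hXP hz.2.1
  set E := X ⊔ zpowers z with hE
  have hEea : IsElementaryAbelian p E := Narrow.ea_sup (le_centralizer_iff.1 hzC) hXea (Narrow.ea_zpowers hz.2.2)
  have hEP : E ≤ P := sup_le hXP (by rw [zpowers_le]; exact hz.1)
  have hEC : ∀ F : Subgroup G, IsElementaryAbelian p F → X ≤ F → F ≤ P → Nat.card F ≤ p ^ 2 := by
    intro F hF hXF hFP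
    exact SCN.pRankLE_iff.1 hr F (le_inf hFP (ea_le_cent hF hXF)) hF
  have hEcard : Nat.card E = p ^ 2 := by
    have hinf : X ⊓ zpowers z = ⊥ := by
      by_contra hb
      have hd : Nat.card ↥(X ⊓ zpowers z) ∣ p := (card_dvd_of_le (inf_le_left : X ⊓ zpowers z ≤ X)).trans (by rw [hXc])
      rcases (Nat.dvd_prime hpp).1 hd with h | h
      · exact hb (eq_bot_of_card_eq _ h)
      · have e2 : X ⊓ zpowers z = zpowers z := Subgroup.eq_of_le_of_card_ge inf_le_right (by
          rw [h, Nat.card_zpowers, orderOf_eq_prime hz.2.2 hz1])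
        apply hzX
        have : z ∈ X ⊓ zpowers z := by rw [e2]; exact mem_zpowers z
        exact (mem_inf.1 this).1
    rw [hE, H22.Basic.card_sup_of_inf_eq_bot (hzC.trans (centralizer_le_normalizer _)) hinf, hXc, Nat.card_zpowers,
      orderOf_eq_prime hz.2.2 hz1, pow_two]
  obtain ⟨S, hS⟩ := hP.exists_sylow_top
  obtain ⟨B, hBS, hB, hEB⟩ := hi.2.2 S E (by rw [hS]; exact hEP) hEea hEcard
  rw [hS] at hBS
  have h1 := hEC B hB (le_sup_left.trans hEB.le) hBS
  have h2 := H22.Basic.card_lt_of_lt hEB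
  rw [hEcard] at h2
  omega

/-- rank of the centralizer of a subgroup of order `p` of `P'` -/
theorem rank_cent_comm {p : ℕ} [hp : Fact p.Prime] (hp2 : p ≠ 2) {P X : Subgroup G} (hP : IsPGroup p P) (hrP : ¬ PRankLE p 2 P)
    (hXP : X ≤ ⁅P, P⁆) (hXc : Nat.card X = p) : ¬ PRankLE p 2 ↥(P ⊓ centralizer (X : Set G)) := by
  intro hr
  have hpp := hp.out
  have hXP' : X ≤ P := hXP.trans (commutator_le_self P)
  have hXea : IsElementaryAbelian p X := by
    obtain ⟨x, hx, hxp, -⟩ := exists_gen hXc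
    rw [← hx]
    exact Narrow.ea_zpowers hxp
  -- maximal elementary abelian subgroup of `P` containing `X`
  have hX' : IsElementaryAbelian p (X.subgroupOf P) := by
    refine ⟨⟨⟨fun a b => ?_⟩⟩, fun x hx => Subtype.ext (hXea.2 x (mem_subgroupOf.1 hx))⟩
    apply Subtype.ext; apply Subtype.ext
    exact ea_comm hXea _ (mem_subgroupOf.1 a.2) _ (mem_subgroupOf.1 b.2)
  obtain ⟨E, hXE, hE, hmax⟩ := Narrow.exists_max_ge hX'
  have hbound : ∀ F : Subgroup P, IsElementaryAbelian p F → X.subgroupOf P ≤ F → Nat.card F ≤ p ^ 2 := by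
    intro F hF hXF
    have h1 : F.map P.subtype ≤ P ⊓ centralizer (X : Set G) := by
      rintro _ ⟨x, hx, rfl⟩
      refine mem_inf.2 ⟨x.2, ?_⟩
      rw [mem_centralizer_iff]
      intro y hy
      have hy' : (⟨y, hXP' hy⟩ : P) ∈ F := hXF (mem_subgroupOf.2 hy)
      exact congrArg Subtype.val (ea_comm hF _ hy' _ hx)
    have h2 := SCN.pRankLE_iff.1 hr _ h1 (by
      have := hF.1
      refine ⟨inferInstance, ?_⟩
      rintro _ ⟨x, hx, rfl⟩
      rw [← map_pow, hF.2 x hx, map_one])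
    rwa [card_map_of_injective P.subtype_injective] at h2
  have hrR : ¬ PRankLE p 2 P := hrP
  obtain ⟨x, hxn⟩ := Narrow.nar_of_max hP hrR E hE (hbound E hE hXE) hmax
  have hEc : Nat.card E = p ^ 2 := hxn.card
  obtain ⟨m1, m2, ⟨m3, m4⟩, m5, m6⟩ := Narrow.main hp2 hP hrR E hE hEc hmax
  set W := Subgroup.closure {x : P | x ∈ Subgroup.upperCentralSeries P 2 ∧ x ^ p = 1} with hW
  set T := Subgroup.centralizer (W : Set P) with hT
  have hTn : T.Normal := by have := m5; infer_instance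
  have hcommT : commutator P ≤ T := by
    rw [_root_.commutator_def, commutator_le]
    refine comm_mem_of_prime (p := p) (N := (⊤ : Subgroup P)) (A := ⊤) (Z := T) (hP.to_subgroup ⊤) le_top le_top ?_ ?_ ?_
    · rw [normalizer_eq_top]
    · rw [normalizer_eq_top]
    · rw [card_top, ← T.card_mul_index, m6, mul_comm]
  have hX'T : X.subgroupOf P ≤ T := by
    intro y hy
    apply hcommT
    have h1 := hXP (mem_subgroupOf.1 hy)
    rw [← map_commutator_subtype] at h1
    obtain ⟨z, hz, hze⟩ := h1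
    have : z = y := Subtype.ext hze
    rwa [← this]
  have hWb : ∀ F : Subgroup P, IsElementaryAbelian p F → X.subgroupOf P ≤ F → W ≤ F → F = W := fun F hF hXF hWF =>
    (Subgroup.eq_of_le_of_card_ge hWF (by rw [m4]; exact hbound F hF hXF)).symm
  have hXW : X.subgroupOf P ≤ W := by
    have h1 : IsElementaryAbelian p (X.subgroupOf P ⊔ W : Subgroup P) := Narrow.ea_sup hX'T hX' m3
    have h2 := hWb _ h1 le_sup_left le_sup_right
    rw [← h2]; exact le_sup_left
  obtain ⟨B, hB, hBc⟩ : ∃ B : Subgroup P, IsElementaryAbelian p B ∧ p ^ 2 < Nat.card B := by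
    by_contra hcon
    push Not at hcon
    apply hrP
    intro F h1 h2
    exact hcon F ⟨h1, h2⟩
  have hWc : W ≤ T := by
    have := m3.1
    exact le_centralizer W
  have hBT : IsElementaryAbelian p (B ⊓ T : Subgroup P) := by
    refine ⟨comm_mono inf_le_left hB.1, fun x hx => hB.2 x (mem_inf.1 hx).1⟩
  have h1 : IsElementaryAbelian p ((B ⊓ T) ⊔ W : Subgroup P) := Narrow.ea_sup inf_le_right hBT m3
  have h2 := hWb _ h1 (hXW.trans le_sup_right) le_sup_right
  have h3 : B ⊓ T ≤ W := by rw [← h2]; exact le_sup_left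
  have h4 : (B ⊓ T).relIndex B ∣ p := by
    have h5 := Subgroup.relIndex_dvd_index_of_normal T B
    rw [m6] at h5
    rwa [inf_comm, inf_relIndex_right]
  have h5 : Nat.card ↥(B ⊓ T) * (B ⊓ T).relIndex B = Nat.card B := H22.Basic.card_mul_relIndex inf_le_left
  have h6 : Nat.card B ≤ Nat.card ↥(B ⊓ T) * p := by
    rw [← h5]
    exact Nat.mul_le_mul_left _ (Nat.le_of_dvd hpp.pos h4)
  obtain ⟨k, hk⟩ := IsPGroup.iff_card.1 (ea_isPGroup hB)
  rw [hk] at hBc h6
  have hk3 : 3 ≤ k := (Nat.pow_lt_pow_iff_right hpp.one_lt).1 hBc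
  have h7 : p ^ 2 ≤ Nat.card ↥(B ⊓ T) := by
    have h8 : p ^ 2 * p ≤ Nat.card ↥(B ⊓ T) * p := by
      refine le_trans ?_ h6
      rw [← pow_succ]
      exact Nat.pow_le_pow_right hpp.pos hk3
    exact Nat.le_of_mul_le_mul_right h8 hpp.pos
  have h8 : B ⊓ T = W := Subgroup.eq_of_le_of_card_ge h3 (by rw [m4]; exact h7)
  have h9 : W ≤ B := h8 ▸ inf_le_left
  have h10 : B ≤ T := ea_le_cent hB h9
  rw [inf_eq_left.2 h10] at h8
  rw [h8, m4] at hk
  rw [← hk] at hBc
  exact lt_irrefl _ hBc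

/-- in rank at most 2 the commutator subgroup of a nonabelian Sylow subgroup is central of order `p` -/
theorem comm_central (hG : IsMinSimpleOddOrder G) {p : ℕ} [hp : Fact p.Prime] {R : Subgroup G} (hR : IsSylIn p R ⊤) (hr : PRankLE p 2 R) :
    ⁅R, R⁆ ≤ centralizer (R : Set G) := by
  rcases thm107b hG hR hr with hc | ⟨P₁, P₂, h1, h2, h3, h4, h5, h6, h7⟩
  · exact (commutator_le_self R).trans (le_centralizer R)
  have hP₁R : P₁ ≤ R := h1 ▸ le_sup_left
  obtain ⟨h8, h9⟩ := center_of_cube h4 h3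
  have hP₂c : P₂ ≤ centralizer (P₁ : Set G) := by
    intro b hb
    rw [mem_centralizer_iff]
    exact fun a ha => h2 a ha b hb
  have hmem : ∀ x ∈ R, ∃ a ∈ P₁, ∃ b ∈ P₂, a * b = x := by
    intro x hx
    rw [← h1] at hx
    exact (Narrow.mem_sup_of_le_centralizer hP₂c).1 hx
  have hP₂ab := H2.Rank2.comm_of_cyclic h6
  have hZP₂ : P₁ ⊓ centralizer (P₁ : Set G) ≤ P₂ := by
    rw [← h7, closure_le]
    exact fun x hx => hx.1
  have hZ : P₁ ⊓ centralizer (P₁ : Set G) ≤ centralizer (R : Set G) := by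
    intro z hz
    rw [mem_centralizer_iff]
    intro y hy
    obtain ⟨a, ha, b, hb, rfl⟩ := hmem y hy
    have e1 : Commute a z := mem_centralizer_iff.1 (mem_inf.1 hz).2 a ha
    have e2 : Commute b z := hP₂ab b hb z (hZP₂ hz)
    exact (e1.mul_left e2).eq
  refine le_trans ?_ hZ
  rw [← h8, commutator_le]
  intro x hx y hy
  obtain ⟨a, ha, b, hb, rfl⟩ := hmem x hx
  obtain ⟨c, hc, d, hd, rfl⟩ := hmem y hy
  have e1 : Commute a d := h2 a ha d hd
  have e2 : Commute c b := h2 c hc b hb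
  have e3 : Commute b d := hP₂ab b hb d hd
  have e4 : ⁅a * b, c * d⁆ = ⁅a, c⁆ := by
    have e5 : Commute b c := e2.symm
    have f1 : a * b * (c * d) = a * c * (b * d) := by
      calc a * b * (c * d) = a * (b * c) * d := by group
        _ = a * (c * b) * d := by rw [e5.eq]
        _ = a * c * (b * d) := by group
    have f2 : c * d * (a * b) = c * a * (b * d) := by
      calc c * d * (a * b) = c * (d * a) * b := by group
        _ = c * (a * d) * b := by rw [e1.eq]
        _ = c * a * (d * b) := by group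
        _ = c * a * (b * d) := by rw [e3.eq]
    calc ⁅a * b, c * d⁆ = (a * b * (c * d)) * (c * d * (a * b))⁻¹ := by rw [commutatorElement_def]; group
      _ = (a * c * (b * d)) * (c * a * (b * d))⁻¹ := by rw [f1, f2]
      _ = ⁅a, c⁆ := by rw [commutatorElement_def]; group
  rw [e4]
  exact commutator_mem_commutator ha hc

/-- BG 12.14 -/
theorem thm1214 (hG : IsMinSimpleOddOrder G) {M X : Subgroup G} (hM : IsCoatom M) {p : ℕ} [hp : Fact p.Prime] (hσ : p ∈ sigma M)
    (hXM : X ≤ M) (hXc : Nat.card X = p) (h : p ∈ beta M ∨ X ≤ ⁅sigmaCore M, sigmaCore M⁆) :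
    UMax M (centralizer (X : Set G)) ∧ ∀ P : Subgroup G, IsSylIn p P (sigmaCore M) → UMax M P := by
  have hpp := hp.out
  have hXb : X ≠ ⊥ := by
    rintro rfl
    rw [card_bot] at hXc
    exact hpp.one_lt.ne hXc
  have hXp : IsPGroup p X := IsPGroup.iff_card.2 ⟨1, by rw [hXc, pow_one]⟩
  have hXσ := le_sigmaCore_of_pgroup hG hM hXp hXM hσ
  have hXt : X ≠ ⊤ := ne_top_of_isPGroup hG hXp
  have hCt := cent_ne_top hG hXb hXt
  obtain ⟨P, hXP, hPσ⟩ := exists_isSylIn_ge (p := p) (H := sigmaCore M) hXp hXσ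
  have hsyl : ∀ Q : Subgroup G, IsSylIn p Q (sigmaCore M) → IsSylIn p Q M ∧ IsSylIn p Q ⊤ := by
    intro Q hQ
    have h1 := Hall.sylow_trans (sigmaCore_hallOf hG hM) hσ hQ
    refine ⟨h1, ?_⟩
    have h2 : IsSylIn p Q (cj 1 M) := by rwa [cj_one]
    exact (sylow_conj hσ h2).1
  obtain ⟨hPM, hPt⟩ := hsyl P hPσ
  have hp2 : p ≠ 2 := prime_ne_two hG (by
    have := card_dvd_of_le (le_top : X ≤ ⊤)
    rwa [hXc, card_top] at this)
  by_cases hr : PRankLE p 2 P
  · have hβ : p ∉ beta M := fun hb => hb.1.2 (pRankLE_of_isSylIn hPM hr)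
    have hXc' := h.resolve_left hβ
    have hnpc : HasNormalPComplement p (sigmaCore M) := npc_sub (sigmaCore_le_commutator hG hM) (npc_commutator hG hM hβ)
    have hXPP : X ≤ ⁅P, P⁆ := (le_inf hXP hXc').trans (npc_inf hnpc hPσ)
    have hPn : ¬ IsMulCommutative P := by
      intro hc
      have : ⁅P, P⁆ = ⊥ := Subgroup.commutator_eq_bot_iff_le_centralizer.2 (le_centralizer P)
      rw [this, le_bot_iff] at hXPP
      exact hXb hXPP
    have hPU := umax_of_inU hM hPM.le (thm1213 hG hPt.isPGroup hPn)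
    refine ⟨umax_mono hPU ?_ hCt, ?_⟩
    · exact le_centralizer_iff.1 (hXPP.trans (comm_central hG hPt hr))
    · intro Q hQ
      have hQn : ¬ IsMulCommutative Q := fun hc => hPn (comm_of_sylow hQ hPσ hc)
      exact umax_of_inU hM (hsyl Q hQ).1.le (thm1213 hG hQ.isPGroup hQn)
  · have hQr : ∀ Q : Subgroup G, IsSylIn p Q (sigmaCore M) → UMax M Q := by
      intro Q hQ
      have hQM := (hsyl Q hQ).1
      have hr' : ¬ PRankLE p 2 Q := fun h' => hr (SCN.pRankLE_mono hPσ.le (pRankLE_of_isSylIn hQ h'))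
      exact ⟨hQM.le, (normalizer_le_of_rank hG hM hQ.isPGroup hQM.le hr').2⟩
    refine ⟨?_, hQr⟩
    have hrC : ¬ PRankLE p 2 ↥(P ⊓ centralizer (X : Set G)) := by
      by_cases hβ : p ∈ beta M
      · exact rank_cent_ideal hβ.2 hPt hXP hXc
      · have hXc' := h.resolve_left hβ
        have hnpc : HasNormalPComplement p (sigmaCore M) := npc_sub (sigmaCore_le_commutator hG hM) (npc_commutator hG hM hβ)
        have hXPP : X ≤ ⁅P, P⁆ := (le_inf hXP hXc').trans (npc_inf hnpc hPσ)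
        exact rank_cent_comm hp2 hPt.isPGroup hr hXPP hXc
    have h1 := normalizer_le_of_rank hG hM (hPt.isPGroup.to_le inf_le_left) (inf_le_left.trans hPM.le) hrC
    exact umax_mono ⟨inf_le_left.trans hPM.le, h1.2⟩ inf_le_right hCt

end Cfsg.Agent.H12.BG12
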