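import Mathlib
import Cfsg.Agent.H12_BG12g

/-! BG 12.15, 12.16, 12.17 -/

set_option autoImplicit false
set_option linter.unusedSectionVars false

open Pointwise
open scoped commutatorElement

namespace Cfsg.Agent.H12.BG12

open Cfsg Subgroup H13.Syl H12.Loc H12.Trans H12.BG7 H12.Puig H12.BG9 H12.BG10 H12.BG11

universe u

variable {G : Type u} [Group G] [Finite G]

theorem sigma_sylow_top {M S : Subgroup G} {q : ℕ} [hq : Fact q.Prime] (hσ : q ∈ sigma M) (hS : IsSylIn q S M) :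
    IsSylIn q S ⊤ ∧ normalizer (S : Set G) ≤ M := by
  have h : IsSylIn q S (cj 1 M) := by rwa [cj_one]
  have := sylow_conj hσ h
  rwa [cj_one] at this

theorem grow {L H S : Subgroup G} {q : ℕ} [hq : Fact q.Prime] (hS : IsSylIn q S (L ⊓ H)) (hN : normalizer (S : Set G) ≤ L) : IsSylIn q S H := by
  obtain ⟨T, hST, hT⟩ := exists_isSylIn_ge (p := q) (H := H) hS.isPGroup (hS.le.trans inf_le_right)
  rcases hST.lt_or_eq with h | h
  · exfalso
    have h1 := lt_normalizer_of_lt hT.isPGroup h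
    have h2 := hS.eq_of_le (hT.isPGroup.to_le inf_le_left) (le_inf (inf_le_right.trans hN) (inf_le_left.trans hT.le)) h1.le
    exact h1.ne h2.symm
  · rw [h]; exact hT

/-- BG 12.15 (b), (c) -/
theorem thm1215 (hG : IsMinSimpleOddOrder G) {M H X S : Subgroup G} (hM : IsCoatom M) {q : ℕ} [hq : Fact q.Prime]
    (hσ : q ∈ sigma M) (hN : normalizer (X : Set G) ≤ H) (hS : IsSylIn q S (M ⊓ H)) (hXS : X ≤ S) :
    normalizer (S : Set G) ≤ M ∧ IsSylIn q S H := by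
  have hNM : normalizer (S : Set G) ≤ M := by
    by_cases hc : IsCyclic S
    · have h1 : normalizer (S : Set G) ≤ H := (normal_of_cyclic hc hXS le_rfl).trans hN
      have h2 : IsSylIn q S M := grow (L := H) (H := M) (by rwa [inf_comm]) h1
      exact (sigma_sylow_top hσ h2).2
    · exact thm1210d hG hM hσ hS.isPGroup (hS.le.trans inf_le_left) hc
  exact ⟨hNM, grow hS hNM⟩

/-- BG 12.15 (d1) -/
theorem thm1215d (hG : IsMinSimpleOddOrder G) {M H X S : Subgroup G} (hM : IsCoatom M) (hH : IsCoatom H) (hne : H ≠ M) {q : ℕ}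
    [hq : Fact q.Prime] (hσ : q ∈ sigma M) (hN : normalizer (X : Set G) ≤ H) (hS : IsSylIn q S (M ⊓ H)) (hXS : X ≤ S) (hσH : q ∈ sigma H) :
    betaCore H ≠ ⊥ ∧ H = betaCore H ⊔ (M ⊓ H) ∧ betaCore M ≠ ⊥ ∧ M = betaCore M ⊔ (H ⊓ M) := by
  obtain ⟨h1, h2⟩ := thm1215 hG hM hσ hN hS hXS
  obtain ⟨h3, h4⟩ := sigma_sylow_top hσH h2
  obtain ⟨h5, h6⟩ := nonuniq_norm hG hH hM (Ne.symm hne) h3 (le_inf h1 h4)
  obtain ⟨h7, h8⟩ := nonuniq_norm hG hM hH hne h3 (le_inf h4 h1)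
  exact ⟨h5, h6, h7, h8⟩

/-- BG 12.15 (e) -/
theorem thm1215e (hG : IsMinSimpleOddOrder G) {M H X S : Subgroup G} (hM : IsCoatom M) (hH : IsCoatom H) (hne : H ≠ M) {q : ℕ}
    [hq : Fact q.Prime] (hσ : q ∈ sigma M) (hX : IsPGroup q X) (hXb : X ≠ ⊥) (hN : normalizer (X : Set G) ≤ H) (hS : IsSylIn q S (M ⊓ H))
    (hXS : X ≤ S) (hσH : q ∉ sigma H) : q ∈ tau2 H ∧ IsPiHallOf (sigma H)ᶜ (M ⊓ H) H ∧ sigmaCore H ⊓ M = ⊥ ∧
      Group.IsNilpotent (sigmaCore H) := by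
  obtain ⟨h1, h2⟩ := thm1215 hG hM hσ hN hS hXS
  have hτ := (thm122a hG hH hX hXb hN).resolve_left hσH
  have hr : ¬ PRankLE q 1 S := fun hr => hτ.2.2.2 (pRankLE_of_isSylIn h2 hr)
  obtain ⟨A, hAS, hA, hAc⟩ := exists_ea_sq_of_not_rank_one hr
  have hAM : A ≤ M := hAS.trans (hS.le.trans inf_le_left)
  have hAH : A ≤ H := hAS.trans (hS.le.trans inf_le_right)
  obtain ⟨A₀, h⟩ := exists_exc hG hH hσH hAH hA hAc
  have hint := thm125e hG h hM (Ne.symm hne) hAM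
  have hAnc : ¬ IsCyclic A := by
    intro hc
    exact ea_not_rankLE_one hA hAc (pRankLE_of_cyclic hc)
  have hNA := thm1210d hG hM hσ (ea_isPGroup hA) hAM hAnc
  obtain ⟨K, hAK, hK⟩ := exists_exc_compl hG h
  have hKc := isCompl_of_hall hG hH hK
  obtain ⟨-, hNK, -⟩ := thm126b hG h hKc hAK
  have hKM : K ≤ M ⊓ H := by
    rw [← hNK]
    exact le_inf (inf_le_right.trans hNA) inf_le_left
  have hKeq : M ⊓ H = K := by
    apply le_antisymm _ hKM
    intro m hm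
    obtain ⟨e, he, s, hs, rfl⟩ := hKc.2.2.2 m (mem_inf.1 hm).2
    have hsM : s ∈ M := by
      have := mul_mem (inv_mem (mem_inf.1 (hKM he)).1) (mem_inf.1 hm).1
      rwa [inv_mul_cancel_left] at this
    have : s ∈ (sigmaCore H ⊓ M : Subgroup G) := mem_inf.2 ⟨hs, hsM⟩
    rw [hint, mem_bot] at this
    rw [this, mul_one]
    exact he
  refine ⟨hτ, ?_, hint, h.thm113 hG⟩
  rw [hKeq]; exact hK

theorem le_sigmaCore_of_group (hG : IsMinSimpleOddOrder G) {M Y : Subgroup G} (hM : IsCoatom M) (hYM : Y ≤ M)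
    (hY : ∀ p : ℕ, p.Prime → p ∣ Nat.card Y → p ∈ sigma M) : Y ≤ sigmaCore M := by
  apply le_of_sylow
  intro p hp hd P hP
  haveI : Fact p.Prime := ⟨hp⟩
  exact le_sigmaCore_of_pgroup hG hM hP.isPGroup (hP.le.trans hYM) (hY p hp hd)

/-- BG 12.16 -/
theorem thm1216 (hG : IsMinSimpleOddOrder G) {M Y : Subgroup G} (hM : IsCoatom M) (hYb : Y ≠ ⊥)
    (hY : ∀ p : ℕ, p.Prime → p ∣ Nat.card Y → p ∈ sigma M) : ∃ g : G, cj g Y ≤ sigmaCore M := by
  have hYt : Y ≠ ⊤ := by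
    rintro rfl
    obtain ⟨q, hq, hqd, hqn⟩ := exists_not_sigma hG hM
    exact hqn (hY q hq (by rw [card_top]; exact hqd.trans (card_subgroup_dvd_card M)))
  have hYs := solvable_of_ne_top hG hYt
  obtain ⟨q, hq, hqb⟩ := exists_Oq_ne_bot hYs hYb
  haveI : Fact q.Prime := ⟨hq⟩
  have hXp := Oq_isPGroup hq Y
  have hqσ : q ∈ sigma M := hY q hq (dvd_card_of_le hXp hqb (Oq_le q Y))
  obtain ⟨P, hP, hPt, -, hPσ⟩ := sigma_sylow hG hM hqσ
  obtain ⟨g, -, hg⟩ := hPt.exists_conj_le hXp le_top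
  -- replace `Y` by a conjugate
  set Y' := cj g Y with hY'
  set X := cj g (Oq q Y) with hX
  have hXM : X ≤ M := hg.trans hP.le
  have hXb : X ≠ ⊥ := fun h => hqb (cj_eq_bot_iff.1 h)
  have hXp' : IsPGroup q X := isPGroup_cj hXp
  have hYX : Y' ≤ normalizer (X : Set G) := by
    rw [hY', hX, ← cj_normalizer]
    exact cj_mono (le_normalizer_Oq q Y)
  have hYπ : ∀ p : ℕ, p.Prime → p ∣ Nat.card Y' → p ∈ sigma M := by
    intro p hp hd
    rw [hY', card_cj] at hd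
    exact hY p hp hd
  suffices hsuff : ∃ h : G, cj h Y' ≤ M by
    obtain ⟨h, hh⟩ := hsuff
    refine ⟨h * g, ?_⟩
    rw [cj_mul]
    apply le_sigmaCore_of_group hG hM hh
    intro p hp hd
    rw [card_cj] at hd
    exact hYπ p hp hd
  by_cases hNM : normalizer (X : Set G) ≤ M
  · exact ⟨1, by rw [cj_one]; exact hYX.trans hNM⟩
  have hNt : normalizer (X : Set G) ≠ ⊤ := normalizer_ne_top hG hXb (ne_top_of_isPGroup hG hXp')
  obtain ⟨H, hH, hNH⟩ := exists_isCoatom_ge hNt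
  have hne : H ≠ M := fun he => hNM (he ▸ hNH)
  have hYH : Y' ≤ H := hYX.trans hNH
  have hHs := solvable_of_ne_top hG hH.1
  obtain ⟨S, hXS, hS⟩ := exists_isSylIn_ge (p := q) (H := M ⊓ H) hXp' (le_inf hXM (le_normalizer.trans hNH))
  have hnc := not_conj hG hM hne hXp' hXb hXM hNH hqσ
  have hnc' : ∀ g : G, M ≠ cj g H := by
    intro g hg
    apply hnc g⁻¹
    rw [hg, cj_inv_cj]
  by_cases hσH : q ∈ sigma H
  · obtain ⟨-, hHβ, -, -⟩ := thm1215d hG hM hH hne hqσ hNH hS hXS hσH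
    have hMHs : Group.IsSolvable ↥(M ⊓ H) := BG1.isSolvable_of_le inf_le_right hHs
    obtain ⟨K, hK⟩ := Hall.exists_hall hMHs (beta H)ᶜ
    have hKH : IsPiHallOf (beta H)ᶜ K H := by
      refine Hall.mk' ((Hall.le hK).trans inf_le_right) (Hall.pi hK) ?_
      rw [compl_compl, ← relIndex_mul_relIndex K (M ⊓ H) H (Hall.le hK) inf_le_right]
      have h1 := Hall.index hK
      rw [compl_compl] at h1
      apply h1.mul
      have h2 : (M ⊓ H).relIndex H ∣ Nat.card (betaCore H) := by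
        have h3 : (M ⊓ H).relIndex (betaCore H ⊔ (M ⊓ H)) = (M ⊓ H).relIndex H := by rw [← hHβ]
        rw [← h3]
        have h4 : Nat.card (M ⊓ H : Subgroup G) * (M ⊓ H).relIndex (betaCore H ⊔ (M ⊓ H)) = Nat.card ↥(betaCore H ⊔ (M ⊓ H)) :=
          H22.Basic.card_mul_relIndex le_sup_right
        have h5 : Nat.card ↥(betaCore H ⊔ (M ⊓ H)) ∣ Nat.card (M ⊓ H : Subgroup G) * Nat.card (betaCore H) := by
          rw [sup_comm]
          exact Core.card_sup_dvd (inf_le_right.trans (Core.le_normalizer_piCoreOf _ _))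
        rw [← h4] at h5
        exact Nat.dvd_of_mul_dvd_mul_left Nat.card_pos h5
      exact (Core.piCoreOf_piNum (beta H) H).dvd h2
    have hYβ : Core.PiNum (beta H)ᶜ (Nat.card Y') := by
      intro p hp hd hβ
      exact (thm1012a hG hH hM hnc').1 p (beta_subset_alpha H hβ) (hYπ p hp hd)
    obtain ⟨h, -, hh⟩ := Hall.hall_dom hHs hKH hYβ hYH
    exact ⟨h, hh.trans ((Hall.le hK).trans inf_le_left)⟩
  · obtain ⟨-, hK, -, hnil⟩ := thm1215e hG hM hH hne hqσ hXp' hXb hNH hS hXS hσH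
    have hYσ : Core.PiNum (sigma H)ᶜ (Nat.card Y') := by
      intro p hp hd hσ
      exact (thm1012b hG hH hM hnc' hnil).1 p hσ (hYπ p hp hd)
    obtain ⟨h, -, hh⟩ := Hall.hall_dom hHs hK hYσ hYH
    exact ⟨h, hh.trans inf_le_left⟩

/-- fusion of a `σ(M)`-subgroup in conjugates of `M` -/
theorem cj_eq_of_le (hG : IsMinSimpleOddOrder G) {M X : Subgroup G} (hM : IsCoatom M) {p : ℕ} [hp : Fact p.Prime] (hσ : p ∈ sigma M)
    (hX : IsPGroup p X) (hXb : X ≠ ⊥) (hXM : X ≤ M) {g : G} (hXg : X ≤ cj g M) (hC : centralizer (X : Set G) ≤ M) : g ∈ M := by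
  have h2 : cj g⁻¹ X ≤ M := by
    rw [cj_le_iff, inv_inv]; exact hXg
  obtain ⟨m, hm, c, hc, he⟩ := (thm101 hG hM hσ hX hXb hXM).1 g⁻¹ h2
  have : g⁻¹ ∈ M := he ▸ mul_mem hm (hC hc)
  exact inv_mem_iff.1 this

/-- BG 12.17 -/
theorem thm1217 (hG : IsMinSimpleOddOrder G) {M : Subgroup G} (hM : IsCoatom M) {g : G} (hg : g ∉ M) :
    IsCyclic ↥(sigmaCore M ⊓ cj g M) ∧ (∀ p : ℕ, p.Prime → p ∣ Nat.card ↥(sigmaCore M ⊓ cj g M) → p ∉ beta M) ∧
      sigmaCore M ⊓ cj g M ⊓ ⁅sigmaCore M, sigmaCore M⁆ = ⊥ := by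
  set D := sigmaCore M ⊓ cj g M with hD
  have hDM : D ≤ M := inf_le_left.trans (sigmaCore_le M)
  have hπ : ∀ p : ℕ, p.Prime → p ∣ Nat.card D → p ∈ sigma M := fun p hp hd =>
    Core.piCoreOf_piNum (sigma M) M p hp (hd.trans (card_dvd_of_le inf_le_left))
  have key : ∀ p : ℕ, p.Prime → ∀ X : Subgroup G, X ≤ D → Nat.card X = p → p ∉ beta M ∧ ¬ X ≤ ⁅sigmaCore M, sigmaCore M⁆ := by
    intro p hp X hXD hXc
    haveI : Fact p.Prime := ⟨hp⟩
    have hσ : p ∈ sigma M := hπ p hp (hXc ▸ card_dvd_of_le hXD)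
    have hXb : X ≠ ⊥ := by
      rintro rfl
      rw [card_bot] at hXc
      exact hp.one_lt.ne hXc
    have hXp : IsPGroup p X := IsPGroup.iff_card.2 ⟨1, by rw [hXc, pow_one]⟩
    by_contra hcon
    have hcon' : p ∈ beta M ∨ X ≤ ⁅sigmaCore M, sigmaCore M⁆ := by
      by_contra h
      push Not at h
      exact hcon h
    have h1 := (thm1214 hG hM hσ (hXD.trans hDM) hXc hcon').1
    exact hg (cj_eq_of_le hG hM hσ hXp hXb (hXD.trans hDM) (hXD.trans inf_le_right) h1.1)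
  have h3 : D ⊓ ⁅sigmaCore M, sigmaCore M⁆ = ⊥ := by
    by_contra hb
    obtain ⟨p, hp, hpd⟩ := Nat.exists_prime_and_dvd (mt (fun h => eq_bot_of_card_eq _ h) hb)
    haveI : Fact p.Prime := ⟨hp⟩
    obtain ⟨x, hx⟩ := exists_prime_orderOf_dvd_card' p hpd
    have hxo : orderOf (x : G) = p := by rw [orderOf_coe]; exact hx
    refine (key p hp (zpowers (x : G)) ?_ (by rw [Nat.card_zpowers, hxo])).2 ?_
    · rw [zpowers_le]; exact (mem_inf.1 x.2).1
    · rw [zpowers_le]; exact (mem_inf.1 x.2).2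
  have hab : IsMulCommutative D := by
    have h4 : ⁅D, D⁆ = ⊥ := by
      rw [eq_bot_iff, ← h3]
      exact le_inf (commutator_le_self D) (commutator_mono inf_le_left inf_le_left)
    refine ⟨⟨fun a b => Subtype.ext ?_⟩⟩
    have := commutator_mem_commutator a.2 b.2
    rw [h4, mem_bot, commutatorElement_eq_one_iff_mul_comm] at this
    exact this
  refine ⟨?_, ?_, h3⟩
  · apply isCyclic_of_rankLE_one hG (nilp_of_comm hab)
    intro p hp
    haveI : Fact p.Prime := ⟨hp⟩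
    by_contra hr
    obtain ⟨A, hAD, hA, hAc⟩ := exists_ea_sq_of_not_rank_one hr
    have hσ : p ∈ sigma M := hπ p hp ((hAc ▸ dvd_pow_self p two_ne_zero : p ∣ Nat.card A).trans (card_dvd_of_le hAD))
    have hAb : A ≠ ⊥ := by
      rintro rfl
      rw [card_bot] at hAc
      have := Nat.one_lt_pow (n := 2) two_ne_zero hp.one_lt
      omega
    exact hg (cj_eq_of_le hG hM hσ (ea_isPGroup hA) hAb (hAD.trans hDM) (hAD.trans inf_le_right)
      (thm124a hG hM (hAD.trans hDM) hA hAc))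
  · intro p hp hd
    haveI : Fact p.Prime := ⟨hp⟩
    obtain ⟨x, hx⟩ := exists_prime_orderOf_dvd_card' p hd
    have hxo : orderOf (x : G) = p := by rw [orderOf_coe]; exact hx
    exact (key p hp (zpowers (x : G)) (by rw [zpowers_le]; exact x.2) (by rw [Nat.card_zpowers, hxo])).1

/-- BG 12.17, first part -/
theorem thm1217a (hG : IsMinSimpleOddOrder G) {M E : Subgroup G} (hM : IsCoatom M) (hE : IsComplIn E (sigmaCore M) M) :
    ⁅sigmaCore M, E⁆ = sigmaCore M ∧ sigmaCore M ⊓ centralizer (E : Set G) ≤ ⁅sigmaCore M, sigmaCore M⁆ := by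
  have hs := isSolvable_sigmaCore hG hM
  have hn : E ≤ normalizer (sigmaCore M : Set G) := hE.1.trans (le_normalizer_sigmaCore M)
  have h1 : ⁅sigmaCore M, E⁆ = sigmaCore M := by
    refine commutator_eq_of_le hs hn (L := M) ?_ ?_ (sigmaCore_le_commutator hG hM)
    · rw [sup_comm]; exact Hall.compl_sup hE
    · rw [inf_comm]; exact hE.2.2.1
  refine ⟨h1, ?_⟩
  have hcop : (Nat.card (sigmaCore M)).Coprime (Nat.card E) := (compl_sigmaC hG hM hE).coprime
  exact Trans.inf_centralizer_le_rel hn hcop.symm h1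

end Cfsg.Agent.H12.BG12
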