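import Mathlib
import Cfsg.Agent.H12_BG12h

/-! BG 12.6 (d)(e), 12.15 (d2)(d3)(e2), 12.16 (b)(c), 12.19 -/

set_option autoImplicit false
set_option linter.unusedSectionVars false

open Pointwise
open scoped commutatorElement

namespace Cfsg.Agent.H12.BG12

open Cfsg Subgroup H13.Syl H12.Loc H12.Trans H12.BG7 H12.Puig H12.BG9 H12.BG10 H12.BG11

universe u

variable {G : Type u} [Group G] [Finite G]

/-- primes acting on a narrow `p`-group -/
theorem lt_of_act_nar {p q : ℕ} [hp : Fact p.Prime] [hq : Fact q.Prime] (hp2 : p ≠ 2) (hqp : q ≠ p) {R Y : Subgroup G} (hR : IsPGroup p R)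
    (hr : PRankLE p 2 R ∨ ∃ (E : Subgroup R) (x : R), Narrow.Nar p R E x) (hY : IsPGroup q Y) (hn : Y ≤ normalizer (R : Set G))
    (hc : ¬ Y ≤ centralizer (R : Set G)) : q < p := by
  rcases hr with hr | ⟨E, x, hx⟩
  · exact lt_of_act hp2 hqp hR hr hY hn hc
  obtain ⟨y, hy, hyc⟩ : ∃ y ∈ Y, y ∉ centralizer (R : Set G) := by
    by_contra h
    push Not at h
    exact hc h
  set N := normalizer (R : Set G) with hN
  have hRN : R ≤ N := le_normalizer
  have hnorm : (R.subgroupOf N).Normal := Core.normal_subgroupOf_of_le le_rfl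
  have hR' : IsPGroup p (R.subgroupOf N) := by
    intro x
    obtain ⟨k, hk⟩ := hR ⟨x.1.1, mem_subgroupOf.1 x.2⟩
    refine ⟨k, ?_⟩
    apply Subtype.ext; apply Subtype.ext
    have := congrArg Subtype.val hk
    simpa using this
  obtain ⟨n, hn'⟩ := hY ⟨y, hy⟩
  have hyn : y ^ (q ^ n) = 1 := congrArg Subtype.val hn'
  have hyo : (orderOf (⟨y, hn hy⟩ : N)).Coprime p := by
    rw [← Subgroup.orderOf_coe]
    show (orderOf y).Coprime p
    refine Nat.Coprime.coprime_dvd_left (orderOf_dvd_of_pow_eq_one hyn) ?_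
    exact Nat.Coprime.pow_left _ ((Nat.coprime_primes hq.out hp.out).2 hqp)
  have h1 := Narrow.pow_of_nar hp2 hR' (hx.map (subgroupOfEquivOfLe hRN).symm) (⟨y, hn hy⟩ : N) hyo
  have h2 : y ^ (p - 1) ∈ centralizer (R : Set G) := by
    rw [mem_centralizer_iff]
    intro z hz
    have := mem_centralizer_iff.1 h1 ⟨z, hRN hz⟩ (mem_subgroupOf.2 hz)
    exact congrArg Subtype.val this
  by_contra hlt
  push Not at hlt
  have hcop : (p - 1).Coprime (q ^ n) := by
    apply Nat.Coprime.pow_right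
    apply Nat.Coprime.symm
    rw [Nat.Prime.coprime_iff_not_dvd hq.out]
    intro hd
    have h3 := Nat.le_of_dvd (by have := hp.out.two_le; omega) hd
    have := hp.out.two_le
    omega
  apply hyc
  have h4 : ((p - 1 : ℕ) : ℤ) * Nat.gcdA (p - 1) (q ^ n) + ((q ^ n : ℕ) : ℤ) * Nat.gcdB (p - 1) (q ^ n) = 1 := by
    rw [← Nat.gcd_eq_gcd_ab, hcop.gcd_eq_one]; rfl
  have h5 : y = (y ^ (p - 1)) ^ Nat.gcdA (p - 1) (q ^ n) * (y ^ (q ^ n)) ^ Nat.gcdB (p - 1) (q ^ n) := by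
    rw [← zpow_natCast y (p - 1), ← zpow_natCast y (q ^ n), ← zpow_mul, ← zpow_mul, ← zpow_add, h4, zpow_one]
  rw [h5, hyn, one_zpow, mul_one]
  exact zpow_mem h2 _

/-- `β(M)'`-subgroups of `M'` are nilpotent -/
theorem nilp_of_beta' (hG : IsMinSimpleOddOrder G) {M L : Subgroup G} (hM : IsCoatom M) (hL : L ≤ ⁅M, M⁆)
    (hβ : ∀ q : ℕ, q.Prime → q ∣ Nat.card L → q ∉ beta M) : Group.IsNilpotent L := by
  refine (hall_beta_of_le hG hM hL).2 L ⟨le_rfl, fun q hq hd => ⟨hq, hβ q hq hd⟩, fun q hq _ => ?_⟩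
  rw [relIndex_self]
  exact hq.one_lt.ne' ∘ Nat.dvd_one.1

/-- BG 12.19 -/
theorem thm1219 (hG : IsMinSimpleOddOrder G) {M E : Subgroup G} (hM : IsCoatom M) (hE : IsComplIn E (sigmaCore M) M) :
    ∃ H : Subgroup G, IsPiHallOf (beta M)ᶜ H (sigmaCore M) ∧ ⁅E, E⁆ ≤ centralizer (H : Set G) := by
  have hMs := solvable_of_ne_top hG hM.1
  have hM's : Group.IsSolvable ↥⁅M, M⁆ := BG1.isSolvable_of_le (commutator_le_self M) hMs
  have hσ := compl_sigmaC hG hM hE
  have hEσ : ∀ q : ℕ, q.Prime → q ∣ Nat.card ↥⁅E, E⁆ → q ∉ sigma M := fun q hq hd =>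
    hσ q hq (hd.trans (card_dvd_of_le (commutator_le_self E)))
  obtain ⟨K, hEK, hK⟩ := Hall.exists_hall_ge hM's (π := (beta M)ᶜ) (X := ⁅E, E⁆)
    (fun q hq hd hb => hEσ q hq hd (beta_subset_sigma hG hM hb)) (commutator_mono hE.1 hE.1)
  have hKn := nilp_of_beta' hG hM (Hall.le hK) (fun q hq hd => Hall.pi hK q hq hd)
  have hKM : K ≤ M := (Hall.le hK).trans (commutator_le_self M)
  have hH : IsPiHallOf (beta M)ᶜ (K ⊓ sigmaCore M) (sigmaCore M) := Hall.inf_normal hK (sigmaCore_le_commutator hG hM)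
    ((commutator_le_self M).trans (le_normalizer_sigmaCore M))
  refine ⟨K ⊓ sigmaCore M, hH, ?_⟩
  apply Core.commutator_eq_bot_of_nilpotent_coprime hKn inf_le_left hEK
  · intro e he
    rw [mem_normalizer_iff_cj, cj_inf, cj_eq_of_mem (hEK he), cj_eq_of_mem_normalizer (le_normalizer_sigmaCore M (hKM (hEK he)))]
  · apply coprime_of_forall
    intro q hq hd hd2
    exact hEσ q hq hd (Core.piCoreOf_piNum (sigma M) M q hq (hd2.trans (card_dvd_of_le inf_le_right)))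

theorem relIndex_dvd_of_sup {M N L : Subgroup G} (h : M = N ⊔ L) (hn : L ≤ normalizer (N : Set G)) : L.relIndex M ∣ Nat.card N := by
  have h4 : Nat.card L * L.relIndex M = Nat.card M := H22.Basic.card_mul_relIndex (h ▸ le_sup_right)
  have h5 : Nat.card M ∣ Nat.card L * Nat.card N := by
    have : M = L ⊔ N := by rw [sup_comm]; exact h
    rw [this]
    exact Core.card_sup_dvd hn
  rw [← h4] at h5
  exact Nat.dvd_of_mul_dvd_mul_left Nat.card_pos h5

theorem syl_of_factor {r : ℕ} [hr : Fact r.Prime] {M N L T : Subgroup G} (h : M = N ⊔ L) (hn : L ≤ normalizer (N : Set G))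
    (hN : ¬ r ∣ Nat.card N) (hT : IsSylIn r T L) : IsSylIn r T M := by
  have hLM : L ≤ M := h ▸ le_sup_right
  refine ⟨hT.le.trans hLM, hT.isPGroup, ?_⟩
  rw [← relIndex_mul_relIndex T L M hT.le hLM, hr.out.dvd_mul]
  rintro (h1 | h1)
  · exact hT.not_dvd h1
  · exact hN (h1.trans (relIndex_dvd_of_sup h hn))

theorem comm_of_factor {r : ℕ} (hr : r.Prime) {M N L : Subgroup G} (h : M = N ⊔ L) (hN : N ≤ M) (hn : M ≤ normalizer (N : Set G))
    (hrN : ¬ r ∣ Nat.card N) (hL : ¬ r ∣ Nat.card ↥⁅L, L⁆) : ¬ r ∣ Nat.card ↥⁅M, M⁆ := by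
  intro hd
  have hLM : L ≤ M := h ▸ le_sup_right
  have h1 := (card_dvd_of_le (comm_le_of_sup hN hn h.symm)).trans
    (Core.card_sup_dvd ((commutator_le_self L).trans (hLM.trans hn)))
  rcases (hr.dvd_mul).1 (hd.trans h1) with h2 | h2
  · exact hL h2
  · exact hrN h2

/-- BG 12.6 (d)(e) -/
theorem thm126d (hG : IsMinSimpleOddOrder G) {M A A₀ X : Subgroup G} {p q : ℕ} [hp : Fact p.Prime] [hq : Fact q.Prime] (h : Exc M p A A₀)
    (hXA : X ≤ centralizer (A : Set G)) (hXc : Nat.card X = q) (hσ : q ∉ sigma M) (hτ : q ∉ tau2 M) :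
    sigmaCore M ⊓ centralizer (X : Set G) = ⊥ := by
  by_contra hne
  have hXb : X ≠ ⊥ := by
    rintro rfl
    rw [card_bot] at hXc
    exact hq.out.one_lt.ne hXc
  have hXp : IsPGroup q X := IsPGroup.iff_card.2 ⟨1, by rw [hXc, pow_one]⟩
  have hNt : normalizer (X : Set G) ≠ ⊤ := normalizer_ne_top hG hXb (ne_top_of_isPGroup hG hXp)
  obtain ⟨H, hH, hNH⟩ := exists_isCoatom_ge hNt
  have hAH : A ≤ H := ((le_centralizer_iff.1 hXA).trans (centralizer_le_normalizer _)).trans hNH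
  have hHM : H = M := by
    by_contra hHM
    apply hne
    rw [eq_bot_iff, ← thm125e hG h hH hHM hAH]
    exact inf_le_inf_left _ ((centralizer_le_normalizer _).trans hNH)
  subst hHM
  rcases thm122a hG hH hXp hXb hNH with h1 | h1
  · exact hσ h1
  · exact hτ h1

/-- Sylow subgroups for `σ(H) ∖ β(H)` are narrow -/
theorem nar_of_not_beta {H T : Subgroup G} {r : ℕ} [hr : Fact r.Prime] (hσ : r ∈ sigma H) (hβ : r ∉ beta H) (hT : IsSylIn r T H) :
    PRankLE r 2 T ∨ ∃ (E : Subgroup T) (x : T), Narrow.Nar r T E x := by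
  by_cases hrk : PRankLE r 2 T
  · exact Or.inl hrk
  have hTt := (sigma_sylow_top hσ hT).1
  have hα : r ∈ alpha H := ⟨hr.out, fun h => hrk (SCN.pRankLE_mono hT.le h)⟩
  have hni : ¬ IsIdealPrime r G := fun h => hβ ⟨hα, h⟩
  have hG2 : ¬ PRankLE r 2 G := by
    rw [SCN.pRankLE_top_iff]
    intro h
    apply hrk
    rw [SCN.pRankLE_iff]
    exact fun F _ he => h F he
  have : ∃ (P : Sylow r G) (A : Subgroup G), A ≤ (P : Subgroup G) ∧ IsElementaryAbelian r A ∧ Nat.card A = r ^ 2 ∧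
      ∀ B : Subgroup G, B ≤ (P : Subgroup G) → IsElementaryAbelian r B → ¬ A < B := by
    by_contra hcon
    push Not at hcon
    exact hni ⟨hr.out, hG2, hcon⟩
  obtain ⟨P, A, hAP, hA, hAc, hmax⟩ := this
  have hPs := isSylIn_sylow_top P
  obtain ⟨x, -, hx⟩ := hTt.exists_conj_eq hPs
  have hA'T : cj x A ≤ T := hx ▸ cj_mono hAP
  apply nar_of_cent hT.isPGroup hA'T (cj_ea hA x)
  rw [SCN.pRankLE_iff]
  intro F hF he
  have h1 : IsElementaryAbelian r (cj x A ⊔ F : Subgroup G) := Narrow.ea_sup (le_centralizer_iff.1 (hF.trans inf_le_right)) (cj_ea hA x) he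
  have h2 : cj x⁻¹ (cj x A ⊔ F) ≤ (P : Subgroup G) := by
    rw [cj_le_iff, inv_inv, hx]
    exact sup_le hA'T (hF.trans inf_le_left)
  have h3 : A ≤ cj x⁻¹ (cj x A ⊔ F) := by
    rw [← cj_inv_cj x A]
    exact cj_mono (by rw [cj_inv_cj]; exact le_sup_left)
  have h4 := hmax _ h2 (cj_ea h1 _)
  have h5 : A = cj x⁻¹ (cj x A ⊔ F) := by
    rcases h3.lt_or_eq with h | h
    · exact absurd h h4
    · exact h
  have h6 : F ≤ cj x A := by
    have : cj x A = cj x A ⊔ F := by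
      conv_lhs => rw [h5]
      rw [cj_cj_inv]
    rw [this]; exact le_sup_right
  have := H22.Basic.card_le_of_le h6
  rwa [card_cj, hAc] at this

/-- BG 12.15 (d2) -/
theorem thm1215d2 (hG : IsMinSimpleOddOrder G) {M H : Subgroup G} (hM : IsCoatom M) (hH : IsCoatom H) 
    (hHf : H = betaCore H ⊔ (M ⊓ H)) (hMf : M = betaCore M ⊔ (H ⊓ M)) {r : ℕ} (hr : r ∈ tau1 H) : r ∈ tau1 M ∨ r ∈ beta M := by
  obtain ⟨hrp, hσ, hd, hnd, hrk⟩ := hr
  haveI : Fact r.Prime := ⟨hrp⟩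
  by_cases hβ : r ∈ beta M
  · exact Or.inr hβ
  left
  have hβM : ¬ r ∣ Nat.card (betaCore M) := fun h => hβ (Core.piCoreOf_piNum (beta M) M r hrp h)
  have hβH : ¬ r ∣ Nat.card (betaCore H) := fun h => hσ (beta_subset_sigma hG hH (Core.piCoreOf_piNum (beta H) H r hrp h))
  have hnM : M ≤ normalizer (betaCore M : Set G) := Core.le_normalizer_piCoreOf _ _
  have hnH : H ≤ normalizer (betaCore H : Set G) := Core.le_normalizer_piCoreOf _ _
  obtain ⟨T, hT⟩ := exists_isSylIn (p := r) (H ⊓ M)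
  have hTM : IsSylIn r T M := syl_of_factor hMf (inf_le_right.trans hnM) hβM hT
  have hTH : IsSylIn r T H := syl_of_factor hHf (inf_le_right.trans hnH) hβH (by rwa [inf_comm])
  have hTb : T ≠ ⊥ := by
    rintro rfl
    apply hTH.not_dvd
    rwa [relIndex_bot_left]
  have hrM : r ∣ Nat.card M := dvd_card_of_le hTM.isPGroup hTb hTM.le
  have h1 : ¬ r ∣ Nat.card ↥⁅M, M⁆ := comm_of_factor hrp hMf (Core.piCoreOf_le _ _) hnM hβM
    (fun h => hnd (h.trans (card_dvd_of_le (commutator_mono inf_le_left inf_le_left))))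
  refine ⟨hrp, ?_, hrM, h1, pRankLE_of_isSylIn hTM (SCN.pRankLE_mono hTH.le hrk)⟩
  intro hσM
  apply h1
  exact (dvd_card_of_le hTM.isPGroup hTb ((sylow_le_sigmaCore hG hM hσM hTM).trans (sigmaCore_le_commutator hG hM)))

/-- BG 12.15 (d3) -/
theorem thm1215d3 (hG : IsMinSimpleOddOrder G) {M H : Subgroup G} (hM : IsCoatom M) (hH : IsCoatom H) (hne : H ≠ M)
    (hMf : M = betaCore M ⊔ (H ⊓ M)) : alpha M ⊆ beta M := by
  intro r hr
  by_contra hβ
  have hrp := hr.1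
  haveI : Fact r.Prime := ⟨hrp⟩
  have hβM : ¬ r ∣ Nat.card (betaCore M) := fun h => hβ (Core.piCoreOf_piNum (beta M) M r hrp h)
  have hnM : M ≤ normalizer (betaCore M : Set G) := Core.le_normalizer_piCoreOf _ _
  obtain ⟨T, hT⟩ := exists_isSylIn (p := r) (H ⊓ M)
  have hTM : IsSylIn r T M := syl_of_factor hMf (inf_le_right.trans hnM) hβM hT
  have hrk : ¬ PRankLE r 2 T := fun h => hr.2 (pRankLE_of_isSylIn hTM h)
  exact hne ((normalizer_le_of_rank hG hM hTM.isPGroup hTM.le hrk).2 H hH (hT.le.trans inf_le_left))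

end Cfsg.Agent.H12.BG12
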