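import Mathlib
import Cfsg.Agent.H12_BG12i

/-! BG 12.15 (e2), 12.16 (b)(c) -/

set_option autoImplicit false
set_option linter.unusedSectionVars false

open Pointwise
open scoped commutatorElement

namespace Cfsg.Agent.H12.BG12

open Cfsg Subgroup H13.Syl H12.Loc H12.Trans H12.BG7 H12.Puig H12.BG9 H12.BG10 H12.BG11

universe u

variable {G : Type u} [Group G] [Finite G]

/-- BG 12.15 (e2) -/
theorem thm1215e2 (hG : IsMinSimpleOddOrder G) {M H X S : Subgroup G} (hM : IsCoatom M) (hH : IsCoatom H) (hne : H ≠ M) {q : ℕ}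
    [hq : Fact q.Prime] (hσ : q ∈ sigma M) (hX : IsPGroup q X) (hXb : X ≠ ⊥) (hN : normalizer (X : Set G) ≤ H) (hS : IsSylIn q S (M ⊓ H))
    (hXS : X ≤ S) (hσH : q ∉ sigma H) {r : ℕ} (hrH : r ∈ sigma H) (hrM : r ∣ Nat.card M) : r ∈ beta H := by
  by_contra hβ
  have hrp := (sigma_spec hrH).1
  haveI : Fact r.Prime := ⟨hrp⟩
  obtain ⟨h1, h2⟩ := thm1215 hG hM hσ hN hS hXS
  obtain ⟨hτ, -, hint, hnil⟩ := thm1215e hG hM hH hne hσ hX hXb hN hS hXS hσH
  have hrk : ¬ PRankLE q 1 S := fun hr => hτ.2.2.2 (pRankLE_of_isSylIn h2 hr)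
  obtain ⟨A, hAS, hA, hAc⟩ := exists_ea_sq_of_not_rank_one hrk
  have hAM : A ≤ M := hAS.trans (hS.le.trans inf_le_left)
  have hAH : A ≤ H := hAS.trans (hS.le.trans inf_le_right)
  obtain ⟨A₀, h⟩ := exists_exc hG hH hσH hAH hA hAc
  obtain ⟨K, hAK, hK⟩ := exists_exc_compl hG h
  have hKc := isCompl_of_hall hG hH hK
  have hCK := (thm126b hG h hKc hAK).1
  have hXM : X ≤ M := hXS.trans (hS.le.trans inf_le_left)
  have hnc := not_conj hG hM hne hX hXb hXM hN hσ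
  have hnc' : ∀ g : G, M ≠ cj g H := by
    intro g hg
    apply hnc g⁻¹
    rw [hg, cj_inv_cj]
  have hrσ : r ∉ sigma M := (thm1012b hG hH hM hnc' hnil).1 r hrH
  have hqr : q ≠ r := by rintro rfl; exact hrσ hσ
  have hAσ := le_sigmaCore_of_pgroup hG hM (ea_isPGroup hA) hAM hσ
  obtain ⟨Q, hAQ, hQ⟩ := exists_isSylIn_ge (p := q) (H := sigmaCore M) (ea_isPGroup hA) hAσ
  -- `r` divides `N_M(Q)`
  have hfr : M = sigmaCore M ⊔ (M ⊓ normalizer (Q : Set G)) := by
    apply le_antisymm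
    · intro m hm
      obtain ⟨n, hn, k, hk, rfl⟩ := hQ.frattini (sigmaCore_le M) (le_normalizer_sigmaCore M) hm
      exact mul_mem ((le_sup_left : sigmaCore M ≤ sigmaCore M ⊔ (M ⊓ normalizer (Q : Set G))) hn)
        ((le_sup_right : M ⊓ normalizer (Q : Set G) ≤ _) hk)
    · exact sup_le (sigmaCore_le M) inf_le_left
  have hrN : r ∣ Nat.card ↥(M ⊓ normalizer (Q : Set G)) := by
    have h3 := relIndex_dvd_of_sup hfr (inf_le_left.trans (le_normalizer_sigmaCore M))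
    have h4 : Nat.card ↥(M ⊓ normalizer (Q : Set G)) * (M ⊓ normalizer (Q : Set G)).relIndex M = Nat.card M :=
      H22.Basic.card_mul_relIndex inf_le_left
    rw [← h4] at hrM
    rcases (hrp.dvd_mul).1 hrM with h5 | h5
    · exact h5
    · exact absurd (Core.piCoreOf_piNum (sigma M) M r hrp (h5.trans h3)) hrσ
  obtain ⟨y, hy⟩ := exists_prime_orderOf_dvd_card' r hrN
  have hyo : orderOf (y : G) = r := by rw [orderOf_coe]; exact hy
  have hYp : IsPGroup r (zpowers (y : G)) := by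
    rw [IsPGroup.iff_card]
    exact ⟨1, by rw [Nat.card_zpowers, hyo, pow_one]⟩
  have hYN : zpowers (y : G) ≤ normalizer (Q : Set G) := by rw [zpowers_le]; exact (mem_inf.1 y.2).2
  have hQσ := hQ
  have hqG : q ∣ Nat.card G := dvd_of_card_sq hAc
  have hq2 : q ≠ 2 := prime_ne_two hG hqG
  have hr2 : r ≠ 2 := prime_ne_two hG (hrM.trans (card_subgroup_dvd_card M))
  have hlt : r < q := by
    apply lt_of_act_nar hq2 hqr.symm hQ.isPGroup (nar_of_e2max hQ.isPGroup h.e2 hAQ) hYp hYN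
    intro hc
    have h5 : zpowers (y : G) ≤ K := (hc.trans (centralizer_le hAQ)).trans hCK
    have h6 : r ∣ Nat.card K := by
      have := card_dvd_of_le h5
      rwa [Nat.card_zpowers, hyo] at this
    exact Hall.pi hK r hrp h6 hrH
  obtain ⟨T, hT⟩ := exists_isSylIn (p := r) H
  have hTσ := sylow_le_sigmaCore hG hH hrH hT
  have hTn : H ≤ normalizer (T : Set G) :=
    normal_of_nilpotent_sylow (sigmaCore_le H) (le_normalizer_sigmaCore H) hnil (hT.mono hTσ (sigmaCore_le H))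
  have hTb : T ≠ ⊥ := by
    rintro rfl
    apply hT.not_dvd
    rw [relIndex_bot_left]
    exact (sigma_spec hrH).2.1
  obtain ⟨P, hAP, hP⟩ := exists_isSylIn_ge (p := q) (H := H) h.e2.isPGroup h.le
  obtain ⟨-, -, hfix, -⟩ := h.thm116 hG hP hAP
  have hlt2 : q < r := by
    apply lt_of_act_nar hr2 hqr hT.isPGroup (nar_of_not_beta hrH hβ hT) (ea_isPGroup hA) (hAH.trans hTn)
    intro hc
    apply hTb
    rw [eq_bot_iff, ← hfix]
    exact le_inf hTσ (le_centralizer_iff.1 hc)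
  omega

/-- core of 12.16 (b)(c) -/
theorem thm1216_core (hG : IsMinSimpleOddOrder G) {M H X K : Subgroup G} (hM : IsCoatom M) (hH : IsCoatom H) (hne : H ≠ M) {q : ℕ}
    [hq : Fact q.Prime] (hσ : q ∈ sigma M) (hX : IsPGroup q X) (hXb : X ≠ ⊥) (hXM : X ≤ M) (hXH : X ≤ H) (hKH : K ≤ H)
    (hKX : K ≤ normalizer (X : Set G)) {p : ℕ} (hp : p.Prime) (hpM : p ∣ Nat.card M) (hpσ : p ∉ sigma M) (hpi : ¬ IsIdealPrime p G) :
    PRankLE p 1 K ∧ (p ∈ tau1 M → ¬ p ∣ Nat.card ↥⁅K, K⁆) := by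
  haveI : Fact p.Prime := ⟨hp⟩
  have hXσ := le_sigmaCore_of_pgroup hG hM hX hXM hσ
  by_cases hNM : normalizer (X : Set G) ≤ M
  · have hKM := hKX.trans hNM
    constructor
    · by_contra hr
      obtain ⟨A, hAK, hA, hAc⟩ := exists_ea_sq_of_not_rank_one hr
      obtain ⟨A₀, h⟩ := exists_exc hG hM hpσ (hAK.trans hKM) hA hAc
      apply hXb
      rw [eq_bot_iff, ← thm125e hG h hH hne (hAK.trans hKH)]
      exact le_inf hXσ hXH
    · intro ht hd
      exact ht.2.2.2.1 (hd.trans (card_dvd_of_le (commutator_mono hKM hKM)))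
  · have hNt : normalizer (X : Set G) ≠ ⊤ := normalizer_ne_top hG hXb (ne_top_of_isPGroup hG hX)
    obtain ⟨L, hL, hNL⟩ := exists_isCoatom_ge hNt
    have hLM : L ≠ M := fun he => hNM (he ▸ hNL)
    have hXL : X ≤ L := le_normalizer.trans hNL
    have hKL : K ≤ L := hKX.trans hNL
    obtain ⟨S, hXS, hS⟩ := exists_isSylIn_ge (p := q) (H := M ⊓ L) hX (le_inf hXM hXL)
    obtain ⟨N, hNle, hNn, hN, hpN⟩ : ∃ N : Subgroup G, N ≤ L ∧ L ≤ normalizer (N : Set G) ∧ L = N ⊔ (M ⊓ L) ∧ ¬ p ∣ Nat.card N := by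
      by_cases hσL : q ∈ sigma L
      · obtain ⟨-, h1, -, -⟩ := thm1215d hG hM hL hLM hσ hNL hS hXS hσL
        refine ⟨betaCore L, Core.piCoreOf_le _ _, Core.le_normalizer_piCoreOf _ _, h1, fun hd => ?_⟩
        exact hpi (Core.piCoreOf_piNum (beta L) L p hp hd).2
      · obtain ⟨-, h1, -, -⟩ := thm1215e hG hM hL hLM hσ hX hXb hNL hS hXS hσL
        refine ⟨sigmaCore L, sigmaCore_le L, le_normalizer_sigmaCore L, ?_, fun hd => ?_⟩
        · rw [sup_comm]
          exact (Hall.sup_eq (sigmaCore_hallOf hG hL) h1 (le_normalizer_sigmaCore L)).symm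
        · have hpσL := Core.piCoreOf_piNum (sigma L) L p hp hd
          exact hpi (thm1215e2 hG hM hL hLM hσ hX hXb hNL hS hXS hσL hpσL hpM).2
    constructor
    · by_contra hr
      obtain ⟨A, hAK, hA, hAc⟩ := exists_ea_sq_of_not_rank_one hr
      obtain ⟨T, hT⟩ := exists_isSylIn (p := p) (M ⊓ L)
      have hTL := syl_of_factor hN (inf_le_right.trans hNn) hpN hT
      obtain ⟨l, hl, hle⟩ := hTL.exists_conj_le (ea_isPGroup hA) (hAK.trans hKL)
      have hA' := cj_ea hA l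
      have hAc' : Nat.card (cj l A) = p ^ 2 := by rw [card_cj]; exact hAc
      obtain ⟨A₀, h⟩ := exists_exc hG hM hpσ (hle.trans (hT.le.trans inf_le_left)) hA' hAc'
      apply hXb
      rw [eq_bot_iff, ← thm125e hG h hL hLM (hle.trans (hT.le.trans inf_le_right))]
      exact le_inf hXσ hXL
    · intro ht hd
      have h1 : ¬ p ∣ Nat.card ↥⁅L, L⁆ := comm_of_factor hp hN hNle hNn hpN
        (fun h => ht.2.2.2.1 (h.trans (card_dvd_of_le (commutator_mono inf_le_left inf_le_left))))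
      exact h1 (hd.trans (card_dvd_of_le (commutator_mono hKL hKL)))

/-- BG 12.16 (b)(c) -/
theorem thm1216bc (hG : IsMinSimpleOddOrder G) {M H Y : Subgroup G} (hM : IsCoatom M) (hH : IsCoatom H) (hne : ∀ g : G, H ≠ cj g M)
    (hYb : Y ≠ ⊥) (hY : ∀ p : ℕ, p.Prime → p ∣ Nat.card Y → p ∈ sigma M) (hYH : Y ≤ H) {p : ℕ} (hp : p.Prime) (hpM : p ∣ Nat.card M)
    (hpσ : p ∉ sigma M) (hpi : ¬ IsIdealPrime p G) :
    PRankLE p 1 ↥(H ⊓ normalizer (Y : Set G)) ∧
      (p ∈ tau1 M → ¬ p ∣ Nat.card ↥⁅H ⊓ normalizer (Y : Set G), H ⊓ normalizer (Y : Set G)⁆) := by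
  have hYt : Y ≠ ⊤ := fun h => hH.1 (top_le_iff.1 (h ▸ hYH))
  have hYs := solvable_of_ne_top hG hYt
  obtain ⟨q, hq, hqb⟩ := exists_Oq_ne_bot hYs hYb
  haveI : Fact q.Prime := ⟨hq⟩
  have hXp := Oq_isPGroup hq Y
  have hqσ : q ∈ sigma M := hY q hq (dvd_card_of_le hXp hqb (Oq_le q Y))
  obtain ⟨P, hP, hPt, -, hPσ⟩ := sigma_sylow hG hM hqσ
  obtain ⟨g, -, hg⟩ := hPt.exists_conj_le hXp le_top
  set K := H ⊓ normalizer (Y : Set G) with hK
  have hNY : normalizer (Y : Set G) ≤ normalizer (Oq q Y : Set G) := Core.normalizer_le_normalizer_piCoreOf _ _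
  have hne' : cj g H ≠ M := by
    intro he
    apply hne g⁻¹
    rw [← he, cj_inv_cj]
  obtain ⟨h1, h2⟩ := thm1216_core hG (K := cj g K) hM (isCoatom_cj hH g) hne' hqσ (isPGroup_cj hXp) (fun h => hqb (cj_eq_bot_iff.1 h))
    (hg.trans hP.le) (cj_mono ((Oq_le q Y).trans hYH)) (cj_mono inf_le_left) (by
      rw [← cj_normalizer]; exact cj_mono (inf_le_right.trans hNY)) hp hpM hpσ hpi
  constructor
  · exact SCN.pRankLE_of_injective (H22.Basic.cjEquiv g K).toMonoidHom (H22.Basic.cjEquiv g K).injective h1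
  · intro ht
    have := h2 ht
    rwa [← cj_commutator, card_cj] at this

end Cfsg.Agent.H12.BG12
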