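import Mathlib
import Cfsg.Agent.H12_BG12j

/-! BG 13.1, 13.2 -/

set_option autoImplicit false
set_option linter.unusedSectionVars false

open Pointwise
open scoped commutatorElement

namespace Cfsg.Agent.H12.BG13

open Cfsg Subgroup H13.Syl H12.Loc H12.Trans H12.BG7 H12.Puig H12.BG9 H12.BG10 H12.BG11 H12.BG12

universe u

variable {G : Type u} [Group G] [Finite G]

theorem cent_of_cc {A K : Subgroup G} (hAK : A ≤ normalizer (K : Set G)) (hcop : (Nat.card A).Coprime (Nat.card K))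
    (hs : Group.IsSolvable A ∨ Group.IsSolvable K) (h : A ≤ centralizer ((⁅K, A⁆ : Subgroup G) : Set G)) :
    A ≤ centralizer (K : Set G) := by
  have h1 := H1.Coprime.commutator_commutator_eq A K hAK hcop hs
  rw [(commutator_comm ⁅K, A⁆ A).trans (commutator_eq_bot_iff_le_centralizer.2 h)] at h1
  have h2 : ⁅A, K⁆ = ⊥ := by rw [commutator_comm]; exact h1.symm
  exact commutator_eq_bot_iff_le_centralizer.1 h2

theorem coprime_of_pi {π : Set ℕ} {A B : Subgroup G} (hA : Core.PiNum π (Nat.card A)) {p : ℕ} [hp : Fact p.Prime]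
    (hB : IsPGroup p B) (hπ : p ∉ π) : (Nat.card B).Coprime (Nat.card A) := by
  obtain ⟨n, hn⟩ := hB.exists_card_eq
  rw [hn]
  apply Nat.Coprime.pow_left
  rw [hp.out.coprime_iff_not_dvd]
  exact fun h => hπ (hA p hp.out h)

theorem inter_normal (M H : Subgroup G) : M ⊓ H ≤ normalizer ((sigmaCore M ⊓ H : Subgroup G) : Set G) :=
  H22.Basic.le_normalizer_inf (inf_le_left.trans (le_normalizer_sigmaCore M)) (inf_le_right.trans le_normalizer)

theorem sigmaCore_pi (M : Subgroup G) : Core.PiNum (sigma M) (Nat.card (sigmaCore M)) := Core.piCoreOf_piNum (sigma M) M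

theorem not_conj_symm {M H : Subgroup G} (hne : ∀ g : G, H ≠ cj g M) : ∀ g : G, M ≠ cj g H := by
  intro g hg
  apply hne g⁻¹
  rw [hg, cj_inv_cj]

/-- Dedekind for the complement of `H_σ` : the part of `H'` in `E` is `E'` -/
theorem le_comm_of_le (hG : IsMinSimpleOddOrder G) {H K R : Subgroup G} (hH : IsCoatom H) (hK : IsComplIn K (sigmaCore H) H)
    (hRK : R ≤ K) (hR : R ≤ ⁅H, H⁆) : R ≤ ⁅K, K⁆ := by
  intro r hr
  have h1 := comm_le_sup hG hH hK (hR hr)
  have hn : sigmaCore H ⊔ ⁅K, K⁆ = sigmaCore H ⊔ ⁅K, K⁆ := rfl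
  have hKn : ⁅K, K⁆ ≤ normalizer (sigmaCore H : Set G) :=
    ((commutator_le_self K).trans hK.1).trans (le_normalizer_sigmaCore H)
  rw [sup_comm] at h1
  rw [H22.Basic.mem_sup_of_le_normalizer' hKn] at h1
  obtain ⟨k, hk, n, hn, rfl⟩ := h1
  have h2 : n ∈ K ⊓ sigmaCore H := by
    refine mem_inf.2 ⟨?_, hn⟩
    have := mul_mem (inv_mem (commutator_le_self K hk)) (hRK hr)
    rwa [inv_mul_cancel_left] at this
  rw [hK.2.2.1, mem_bot] at h2
  rw [h2, mul_one]
  exact hk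

/-- BG 13.1 -/
theorem thm131 (hG : IsMinSimpleOddOrder G) {M H : Subgroup G} (hM : IsCoatom M) (hH : IsCoatom H)
    (hne : ∀ g : G, H ≠ cj g M) {p : ℕ} (hp : p.Prime) (hpM : p ∣ Nat.card M) (hpσ : p ∉ sigma M)
    (hpH : p ∣ Nat.card H) (hp1 : p ∉ tau1 H) (hc : ⁅sigmaCore M ⊓ H, M ⊓ H⁆ ≠ ⊥) :
    (∀ P : Subgroup G, IsPGroup p P → P ≤ M ⊓ H → P ≤ centralizer ((sigmaCore M ⊓ H : Subgroup G) : Set G)) ∧
    p ∉ tau2 H ∧ (p ∈ tau1 M → IsIdealPrime p G) := by
  haveI : Fact p.Prime := ⟨hp⟩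
  have hne' := not_conj_symm hne
  have hnM : H ≠ M := by
    intro h
    apply hne 1
    rw [cj_one]; exact h
  have hXn := inter_normal M H
  have hXpi : Core.PiNum (sigma M) (Nat.card ↥(sigmaCore M ⊓ H)) := Hall.pi_mono (sigmaCore_pi M) inf_le_left
  have hαH := (thm1012a hG hH hM hne').1
  have hRX : ⁅sigmaCore M ⊓ H, M ⊓ H⁆ ≤ sigmaCore M ⊓ H := H1.Coprime.commutator_le_of_le_normalizer hXn
  have hRH' : ⁅sigmaCore M ⊓ H, M ⊓ H⁆ ≤ ⁅H, H⁆ := commutator_mono inf_le_right inf_le_right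
  -- (b)
  have hb : p ∉ tau2 H := by
    intro hτ
    obtain ⟨A, hAH, hA, hAc⟩ := exists_ea_sq_of_not_rank_one hτ.2.2.2
    obtain ⟨A₀, hAe⟩ := exists_exc hG hH hτ.2.1 hAH hA hAc
    have hnil := hAe.thm113 hG
    have hσd := (thm1012b hG hH hM hne' hnil).1
    have hRpi : Core.PiNum (sigma H)ᶜ (Nat.card ↥⁅sigmaCore M ⊓ H, M ⊓ H⁆) := by
      intro q hq hd hqH
      exact hσd q hqH (Hall.pi_mono hXpi hRX q hq hd)
    have hHs : Group.IsSolvable H := solvable_of_ne_top hG hH.1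
    obtain ⟨K, hRK, hK⟩ := Hall.exists_hall_ge hHs hRpi (hRX.trans inf_le_right)
    have hKc := isCompl_of_hall hG hH hK
    obtain ⟨B, hBK, hB, hBc⟩ := exists_ea_compl hG hH hKc hτ
    obtain ⟨B₀, hBe⟩ := exists_exc hG hH hτ.2.1 (hBK.trans hKc.1) hB hBc
    have hKB := exc_compl_le hG hBe hKc hBK
    have hRD := le_comm_of_le hG hH hKc hRK hRH'
    have hRp : (Nat.card ↥⁅sigmaCore M ⊓ H, M ⊓ H⁆).Coprime (Nat.card B) :=
      (coprime_of_pi (Hall.pi_mono hXpi hRX) (ea_isPGroup hB) hpσ).symm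
    have hBs : Group.IsSolvable B := solvable_of_ne_top hG (ne_top_of_isPGroup hG (ea_isPGroup hB))
    have hRn := hRK.trans hKB
    have h1 : ⁅sigmaCore M ⊓ H, M ⊓ H⁆ ≤ centralizer ((⁅B, ⁅sigmaCore M ⊓ H, M ⊓ H⁆⁆ : Subgroup G) : Set G) := by
      apply Core.commutator_eq_bot_of_nilpotent_coprime (comm_nilpotent hG hH hKc.1 (compl_sigmaC hG hH hKc)) _ hRD
        (H22.Basic.right_le_normalizer_commutator _ _)
      · exact hRp.coprime_dvd_right (card_dvd_of_le (H1.Coprime.commutator_le_of_le_normalizer hRn))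
      · exact commutator_mono hBK hRK
    have h2 := cent_of_cc hRn hRp (Or.inr hBs) h1
    have h3 : B ≤ H ⊓ normalizer ((⁅sigmaCore M ⊓ H, M ⊓ H⁆ : Subgroup G) : Set G) :=
      le_inf (hBK.trans hKc.1) ((le_centralizer_iff.1 h2).trans (centralizer_le_normalizer _))
    have h4 := (thm1216bc hG hM hH hne hc (Hall.pi_mono hXpi hRX) (hRX.trans inf_le_right) hp hpM hpσ
      (not_ideal_of_max hB hBc hBe.e2.max)).1
    exact ea_not_rankLE_one hB hBc (SCN.pRankLE_mono h3 h4)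
  have hpH' : p ∣ Nat.card ↥⁅H, H⁆ := by
    by_cases hs : p ∈ sigma H
    · obtain ⟨P, hP, -, -, hPσ⟩ := sigma_sylow hG hH hs
      have h1 : p ∣ Nat.card P := by
        by_contra h
        apply hP.not_dvd
        have := H22.Basic.card_mul_relIndex hP.le
        rw [← this] at hpH
        exact (hp.dvd_mul.1 hpH).resolve_left h
      exact h1.trans (card_dvd_of_le (hPσ.trans (sigmaCore_le_commutator hG hH)))
    · by_contra hd
      have h2 := pRankLE_two_of_not_sigma hG hH hp hs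
      by_cases h3 : PRankLE p 1 H
      · exact hp1 ⟨hp, hs, hpH, hd, h3⟩
      · exact hb ⟨hp, hs, h2, h3⟩
  refine ⟨?_, hb, ?_⟩
  · intro P hP hPMH
    have hPn := hPMH.trans hXn
    have hcop : (Nat.card P).Coprime (Nat.card ↥(sigmaCore M ⊓ H)) := coprime_of_pi hXpi hP hpσ
    have hPs : Group.IsSolvable P := solvable_of_ne_top hG (ne_top_of_isPGroup hG hP)
    apply cent_of_cc hPn hcop (Or.inl hPs)
    -- `P ≤ H'`
    have hPH' : P ≤ ⁅H, H⁆ := by
      by_cases hs : p ∈ sigma H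
      · exact (le_sigmaCore_of_pgroup hG hH hP (hPMH.trans inf_le_right) hs).trans (sigmaCore_le_commutator hG hH)
      · have h2 := pRankLE_two_of_not_sigma hG hH hp hs
        have h3 : PRankLE p 1 H := by
          by_contra h3
          exact hb ⟨hp, hs, h2, h3⟩
        obtain ⟨T, hPT, hT⟩ := exists_isSylIn_ge (p := p) (H := H) hP (hPMH.trans inf_le_right)
        exact hPT.trans (cyclic_sylow_le hT (cyclic_sylow hG hT.isPGroup (SCN.pRankLE_mono hT.le h3)) hpH')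
    have hYX : ⁅sigmaCore M ⊓ H, P⁆ ≤ sigmaCore M ⊓ H := H1.Coprime.commutator_le_of_le_normalizer hPn
    by_cases hβ : p ∈ beta H
    · have h1 : P ≤ betaCore H := by
        obtain ⟨T, hPT, hT⟩ := exists_isSylIn_ge (p := p) (H := H) hP (hPMH.trans inf_le_right)
        have h2 := (betaCore_eq hG hH).2
        obtain ⟨l, hl, hle⟩ := Hall.sylow_conj_le h2 hβ hP (hPMH.trans inf_le_right)
        rw [cj_le_iff] at hle
        rwa [cj_eq_of_mem_normalizer (Core.le_normalizer_piCoreOf _ _ (inv_mem hl))] at hle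
      have h2 : ⁅sigmaCore M ⊓ H, P⁆ ≤ betaCore H := by
        apply (commutator_mono (inf_le_right : sigmaCore M ⊓ H ≤ H) h1).trans
        rw [commutator_comm]
        exact H1.Coprime.commutator_le_of_le_normalizer (Core.le_normalizer_piCoreOf _ _)
      have h3 : ⁅sigmaCore M ⊓ H, P⁆ = ⊥ := by
        rw [eq_bot_iff, ← Hall.inf_eq_bot (π := beta H) (Core.piCoreOf_piNum (beta H) H)
          (K := sigmaCore M ⊓ H) (fun q hq hd hβ' => hαH q (beta_subset_alpha H hβ') (hXpi q hq hd))]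
        exact le_inf h2 hYX
      rw [h3]
      intro x _
      rw [mem_centralizer_iff]
      intro y hy
      rw [show y = 1 from hy, one_mul, mul_one]
    · -- `Y P` nilpotent
      have hYn : P ≤ normalizer ((⁅sigmaCore M ⊓ H, P⁆ : Subgroup G) : Set G) := H22.Basic.right_le_normalizer_commutator _ _
      have hL : P ⊔ ⁅sigmaCore M ⊓ H, P⁆ ≤ ⁅H, H⁆ :=
        sup_le hPH' (commutator_mono inf_le_right (hPMH.trans inf_le_right))
      have hnil : Group.IsNilpotent ↥(P ⊔ ⁅sigmaCore M ⊓ H, P⁆) := by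
        apply nilp_of_beta' hG hH hL
        have h1 : Core.PiNum (beta H)ᶜ (Nat.card ↥(P ⊔ ⁅sigmaCore M ⊓ H, P⁆)) := by
          apply Core.piNum_sup hYn
          · obtain ⟨n, hn⟩ := hP.exists_card_eq
            rw [hn]
            exact Core.piNum_of_pow hp hβ
          · intro q hq hd hβ'
            exact hαH q (beta_subset_alpha H hβ') (Hall.pi_mono hXpi hYX q hq hd)
        exact fun q hq hd => h1 q hq hd
      exact Core.commutator_eq_bot_of_nilpotent_coprime hnil le_sup_right le_sup_left hYn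
        (hcop.coprime_dvd_right (card_dvd_of_le hYX))
  · intro hτ1
    by_contra hi
    have hpβ : p ∉ beta H := fun h => hi h.2
    have hR1 : Nat.card ↥⁅sigmaCore M ⊓ H, M ⊓ H⁆ ≠ 1 := fun h => hc (Subgroup.card_eq_one.1 h)
    obtain ⟨q, hq, hqR⟩ := Nat.exists_prime_and_dvd hR1
    haveI : Fact q.Prime := ⟨hq⟩
    have hqσ : q ∈ sigma M := Hall.pi_mono hXpi hRX q hq hqR
    have hqβ : q ∉ beta H := fun h => hαH q (beta_subset_alpha H h) hqσ
    have hpq : p ≠ q := by rintro rfl; exact hpσ hqσ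
    obtain ⟨Q, hQ⟩ := exists_isSylIn (p := q) ⁅H, H⁆
    obtain ⟨P, hP, hPle⟩ := sylow_comm hG hH hpβ hqβ hpq hQ
    have hQb : Q ≠ ⊥ := by
      rintro rfl
      apply hQ.not_dvd
      rw [relIndex_bot_left]
      exact hqR.trans (card_dvd_of_le hRH')
    have hQpi : ∀ r : ℕ, r.Prime → r ∣ Nat.card Q → r ∈ sigma M := by
      intro r hr hd
      obtain ⟨n, hn⟩ := hQ.isPGroup.exists_card_eq
      rw [hn] at hd
      rw [(Nat.prime_dvd_prime_iff_eq hr hq).1 (hr.dvd_of_dvd_pow hd)]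
      exact hqσ
    have h1 := (thm1216bc hG hM hH hne hQb hQpi (hQ.le.trans (commutator_le_self H)) hp hpM hpσ hi).2 hτ1
    apply h1
    have h2 : p ∣ Nat.card P := by
      by_contra h
      apply hP.not_dvd
      have := H22.Basic.card_mul_relIndex hP.le
      rw [← this] at hpH'
      exact (hp.dvd_mul.1 hpH').resolve_left h
    exact h2.trans (card_dvd_of_le hPle)

theorem rank_cj {p k : ℕ} {M : Subgroup G} {g : G} (h : PRankLE p k M) : PRankLE p k (cj g M) := by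
  rw [SCN.pRankLE_iff]
  intro A hAM hA
  have h1 : cj g⁻¹ A ≤ M := by rw [cj_le_iff, inv_inv]; exact hAM
  have h2 := (SCN.pRankLE_iff.1 h) (cj g⁻¹ A) h1 (cj_ea hA g⁻¹)
  rwa [card_cj] at h2

/-- BG 13.2 -/
theorem thm132 (hG : IsMinSimpleOddOrder G) {M H P : Subgroup G} (hM : IsCoatom M) (hH : IsCoatom H) {p : ℕ} [hp : Fact p.Prime]
    (hτ : p ∈ tau1 M ∨ p ∈ tau3 M) (hP : IsPGroup p P) (hPb : P ≠ ⊥) (hPM : P ≤ M) (hN : normalizer (P : Set G) ≤ H) :
    (∀ g : G, H ≠ cj g M) ∧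
    (∀ Q : Subgroup G, IsPGroup p Q → Q ≤ M ⊓ H → Q ≤ centralizer ((sigmaCore M ⊓ H : Subgroup G) : Set G)) ∧
    (∀ X : Subgroup G, X ≤ M ⊓ H → (∀ r : ℕ, r.Prime → r ∣ Nat.card X → r ∉ sigma M ∧ r ∉ tau1 H) →
      X ≤ centralizer ((sigmaCore M ⊓ H : Subgroup G) : Set G)) ∧
    (⁅sigmaCore M ⊓ H, M ⊓ H⁆ ≠ ⊥ → p ∈ sigma H ∧ (p ∈ tau1 M → p ∈ beta H)) := by
  have hpσ : p ∉ sigma M := by
    rcases hτ with h | h
    · exact h.2.1
    · exact h.2.1
  have hr1 : PRankLE p 1 M := by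
    rcases hτ with h | h
    · exact h.2.2.2.2
    · exact h.2.2.2
  have hH2 := thm122a hG hH hP hPb hN
  have hPH : P ≤ H := le_normalizer.trans hN
  have hne : ∀ g : G, H ≠ cj g M := by
    intro g hg
    rcases hH2 with h | h
    · rw [hg, sigma_cj] at h
      exact hpσ h
    · apply h.2.2.2
      rw [hg]
      exact rank_cj hr1
  have hpP : p ∣ Nat.card P := by
    obtain ⟨n, hn⟩ := hP.exists_card_eq
    rcases Nat.eq_zero_or_pos n with rfl | hn0
    · rw [pow_zero] at hn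
      exact absurd (Subgroup.card_eq_one.1 hn) hPb
    · rw [hn]; exact dvd_pow_self p hn0.ne'
  have hpM : p ∣ Nat.card M := hpP.trans (card_dvd_of_le hPM)
  have hpH : p ∣ Nat.card H := hpP.trans (card_dvd_of_le hPH)
  have hp1 : p ∉ tau1 H := by
    intro h
    rcases hH2 with h2 | h2
    · exact h.2.1 h2
    · exact h2.2.2.2 h.2.2.2.2
  by_cases hc : ⁅sigmaCore M ⊓ H, M ⊓ H⁆ = ⊥
  · have hall : M ⊓ H ≤ centralizer ((sigmaCore M ⊓ H : Subgroup G) : Set G) := by
      rw [← commutator_eq_bot_iff_le_centralizer, commutator_comm]; exact hc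
    exact ⟨hne, fun Q _ hQ => hQ.trans hall, fun X hX _ => hX.trans hall, fun h => absurd hc h⟩
  · obtain ⟨h1, h2, h3⟩ := thm131 hG hM hH hne hp.out hpM hpσ hpH hp1 hc
    refine ⟨hne, h1, ?_, fun _ => ?_⟩
    · intro X hX hr
      apply le_of_sylow
      intro r hrp hd T hT
      haveI : Fact r.Prime := ⟨hrp⟩
      obtain ⟨h4, h5⟩ := hr r hrp hd
      exact (thm131 hG hM hH hne hrp (hd.trans (card_dvd_of_le (hX.trans inf_le_left))) h4
        (hd.trans (card_dvd_of_le (hX.trans inf_le_right))) h5 hc).1 T hT.isPGroup (hT.le.trans hX)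
    · have hσH : p ∈ sigma H := by
        rcases hH2 with h | h
        · exact h
        · exact absurd h h2
      refine ⟨hσH, fun ht => ?_⟩
      have hi := h3 ht
      refine ⟨⟨hp.out, fun hr => ?_⟩, hi⟩
      obtain ⟨T, hT, hTt, -⟩ := sigma_sylow hG hH hσH
      have h6 := pRankLE_of_isSylIn hTt (SCN.pRankLE_mono hT.le hr)
      apply hi.2.1
      rw [SCN.pRankLE_top_iff]
      intro E hE
      exact (SCN.pRankLE_iff.1 h6) E le_top hE

/-- BG 13.3 (a) -/
theorem thm133a (hG : IsMinSimpleOddOrder G) {M S : Subgroup G} (hM : IsCoatom M) {p : ℕ} [hp : Fact p.Prime]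
    (hτ : p ∈ tau1 M ∨ p ∈ tau3 M) (hS : IsPGroup p S) (hSM : S ≤ M) {x : G} (hx : x ∈ S) (hx1 : x ≠ 1) :
    sigmaCore M ⊓ centralizer ({x} : Set G) ≤ centralizer (S : Set G) := by
  have hr1 : PRankLE p 1 M := by
    rcases hτ with h | h
    · exact h.2.2.2.2
    · exact h.2.2.2
  have hSc : IsCyclic S := cyclic_sylow hG hS (SCN.pRankLE_mono hSM hr1)
  have hv : ∃ k, x ^ (p ^ k) = 1 := by
    obtain ⟨k, hk⟩ := hS ⟨x, hx⟩
    exact ⟨k, by simpa using congrArg Subtype.val hk⟩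
  obtain ⟨w, hw, hw1, hwp⟩ := exists_pow_prime hv hx1
  have hwS : zpowers w ≤ S := by rw [zpowers_le]; exact (zpowers_le.2 hx) hw
  have hwb : zpowers w ≠ ⊥ := by rw [Ne, zpowers_eq_bot]; exact hw1
  have hwP : IsPGroup p (zpowers w) := hS.to_le hwS
  have hNt : normalizer ((zpowers w : Subgroup G) : Set G) ≠ ⊤ := normalizer_ne_top hG hwb (ne_top_of_isPGroup hG hwP)
  obtain ⟨H, hH, hNH⟩ := exists_isCoatom_ge hNt
  obtain ⟨-, h1, -, -⟩ := thm132 hG hM hH hτ hwP hwb (hwS.trans hSM) hNH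
  have hcomm : S ≤ centralizer ((zpowers w : Subgroup G) : Set G) := by
    intro s hs
    rw [mem_centralizer_iff]
    intro y hy
    have := hSc
    obtain ⟨g, hg⟩ := IsCyclic.exists_generator (α := S)
    obtain ⟨m, hm⟩ := hg ⟨y, hwS hy⟩
    obtain ⟨n, hn⟩ := hg ⟨s, hs⟩
    have h1 : (g : G) ^ m = y := by simpa using congrArg Subtype.val hm
    have h2 : (g : G) ^ n = s := by simpa using congrArg Subtype.val hn
    rw [← h1, ← h2, ← zpow_add, ← zpow_add, add_comm]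
  have hSH : S ≤ H := hcomm.trans ((centralizer_le_normalizer _).trans hNH)
  have h2 := h1 S hS (le_inf hSM hSH)
  rw [le_centralizer_iff] at h2
  refine le_trans (le_inf inf_le_left ?_) h2
  intro y hy
  apply hNH
  apply centralizer_le_normalizer
  rw [centralizer_zpowers, mem_centralizer_singleton_iff]
  obtain ⟨n, rfl⟩ := hw
  have h3 := (mem_centralizer_singleton_iff.1 (mem_inf.1 hy).2)
  exact ((show Commute y x from h3).zpow_right n).eq

/-- BG 13.3 (b) -/
theorem thm133b (hG : IsMinSimpleOddOrder G) {M E E₃ : Subgroup G} (hM : IsCoatom M) (hE : IsComplIn E (sigmaCore M) M)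
    (hE₃ : IsPiHallOf (tau3 M) E₃ E) {x : G} (hx : x ∈ E₃) (hx1 : x ≠ 1) :
    sigmaCore M ⊓ centralizer ({x} : Set G) ≤ centralizer (E₃ : Set G) := by
  obtain ⟨hc, hd, hn⟩ := tau3_cyclic hG hM hE hE₃
  obtain ⟨p, hp, hpo⟩ := Nat.exists_prime_and_dvd (fun h : orderOf x = 1 => hx1 (orderOf_eq_one_iff.1 h))
  haveI : Fact p.Prime := ⟨hp⟩
  obtain ⟨w, hw, hwo⟩ : ∃ w ∈ zpowers x, orderOf w = p := by
    rw [← Nat.card_zpowers] at hpo
    obtain ⟨w, hw⟩ := exists_prime_orderOf_dvd_card' p hpo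
    exact ⟨w, w.2, by rw [orderOf_coe]; exact hw⟩
  have hw1 : w ≠ 1 := by
    rintro rfl
    rw [orderOf_one] at hwo
    exact hp.one_lt.ne hwo
  have hwE : zpowers w ≤ E₃ := by rw [zpowers_le]; exact (zpowers_le.2 hx) hw
  have hwb : zpowers w ≠ ⊥ := by rw [Ne, zpowers_eq_bot]; exact hw1
  have hwP : IsPGroup p (zpowers w) := by
    rw [IsPGroup.iff_card]
    exact ⟨1, by rw [Nat.card_zpowers, hwo, pow_one]⟩
  have hτ : p ∈ tau3 M := hE₃.2.1 p hp (by
    have h1 := card_dvd_of_le hwE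
    rwa [Nat.card_zpowers, hwo] at h1)
  have hE₃M : E₃ ≤ M := hE₃.1.trans hE.1
  have hNt : normalizer ((zpowers w : Subgroup G) : Set G) ≠ ⊤ := normalizer_ne_top hG hwb (ne_top_of_isPGroup hG hwP)
  obtain ⟨H, hH, hNH⟩ := exists_isCoatom_ge hNt
  have hEH : E ≤ H := (normal_of_cyclic hc hwE hn).trans hNH
  obtain ⟨-, -, h1, -⟩ := thm132 hG hM hH (Or.inr hτ) hwP hwb (hwE.trans hE₃M) hNH
  have h2 := h1 E₃ (le_inf hE₃M (hE₃.1.trans hEH)) (by
    intro r hr hrd
    refine ⟨(hE₃.2.1 r hr hrd).2.1, fun h => h.2.2.2.1 ?_⟩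
    exact hrd.trans (card_dvd_of_le (hd.trans (commutator_mono hEH hEH))))
  rw [le_centralizer_iff] at h2
  refine le_trans (le_inf inf_le_left ?_) h2
  intro y hy
  apply hNH
  apply centralizer_le_normalizer
  rw [centralizer_zpowers, mem_centralizer_singleton_iff]
  obtain ⟨n, rfl⟩ := hw
  have h3 := (mem_centralizer_singleton_iff.1 (mem_inf.1 hy).2)
  exact ((show Commute y x from h3).zpow_right n).eq

end Cfsg.Agent.H12.BG13
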