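import Mathlib
import Cfsg.Agent.H12_BG13a

/-! BG 12.18 -/

set_option autoImplicit false
set_option linter.unusedSectionVars false

open Pointwise
open scoped commutatorElement

namespace Cfsg.Agent.H12.BG13

open Cfsg Subgroup H13.Syl H12.Loc H12.Trans H12.BG7 H12.Puig H12.BG9 H12.BG10 H12.BG11 H12.BG12

universe u

variable {G : Type u} [Group G] [Finite G]

/-- **Frobenius action**: the kernel acts trivially when it centralizes the fixed points of the complement. -/
theorem frob_trivial' {M K R : Subgroup G} (hM : Group.IsSolvable M)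
    (hKM : K ≤ normalizer (M : Set G)) (hRM : R ≤ normalizer (M : Set G)) (hRK : R ≤ normalizer (K : Set G))
    (hcK : (Nat.card K).Coprime (Nat.card M)) (hcR : (Nat.card R).Coprime (Nat.card M))
    (hfrob : ∀ r ∈ R, r ≠ 1 → ∀ k ∈ K, k * r = r * k → k = 1)
    (hfix : M ⊓ centralizer (R : Set G) ≤ centralizer (K : Set G)) : K ≤ centralizer (M : Set G) := by
  set M₁ := ⁅M, K⁆ with hM₁
  have hM₁M : M₁ ≤ M := H1.Coprime.commutator_le_of_le_normalizer hKM
  have hKM₁ : K ≤ normalizer (M₁ : Set G) := H22.Basic.right_le_normalizer_commutator M K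
  have hRM₁ : R ≤ normalizer (M₁ : Set G) := H22.Basic.le_normalizer_commutator hRM hRK
  have hM₁s : Group.IsSolvable M₁ := BG1.isSolvable_of_le hM₁M hM
  have hcK₁ : (Nat.card K).Coprime (Nat.card M₁) := Nat.Coprime.coprime_dvd_right (card_dvd_of_le hM₁M) hcK
  have hcR₁ : (Nat.card R).Coprime (Nat.card M₁) := Nat.Coprime.coprime_dvd_right (card_dvd_of_le hM₁M) hcR
  have hself : ⁅M₁, K⁆ = M₁ := H1.Coprime.commutator_commutator_eq K M hKM hcK (Or.inr hM)
  set Z := ⁅M₁, M₁⁆ with hZ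
  have hZM : Z ≤ M₁ := commutator_le_self M₁
  have hcKZ : (Nat.card K).Coprime (Nat.card Z) := Nat.Coprime.coprime_dvd_right (card_dvd_of_le hZM) hcK₁
  have hcRZ : (Nat.card R).Coprime (Nat.card Z) := Nat.Coprime.coprime_dvd_right (card_dvd_of_le hZM) hcR₁
  have hKZ : K ≤ normalizer (Z : Set G) := H22.Basic.le_normalizer_commutator hKM₁ hKM₁
  have hRZ : R ≤ normalizer (Z : Set G) := H22.Basic.le_normalizer_commutator hRM₁ hRM₁
  have hZs : Group.IsSolvable Z := BG1.isSolvable_of_le hZM hM₁s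
  have hMZ : M₁ ≤ normalizer (Z : Set G) := H22.Basic.right_le_normalizer_commutator M₁ M₁
  have conv : ∀ (g x : G), x ∈ M₁ → g * x * g⁻¹ * x⁻¹ ∈ Z → x⁻¹ * (g * x * g⁻¹) ∈ Z := by
    intro g x hx h
    have e : x⁻¹ * (g * x * g⁻¹) = x⁻¹ * (g * x * g⁻¹ * x⁻¹) * x⁻¹⁻¹ := by group
    rw [e]
    exact ((Subgroup.mem_normalizer_iff.mp (inv_mem (hMZ hx))) _).mp h
  have hle : M₁ ≤ Z := by
    refine FrobK.frob_kill (M := M₁) (Z := Z) (K := K) (R := R) hZM le_rfl hKM₁ hKZ hRM₁ hRZ hRK hfrob hcK₁ ?_ ?_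
    · intro x hx h
      obtain ⟨d, hd, hxd⟩ := H1.Coprime.exists_mul_mem_centralizer hKZ hcKZ (Or.inr hZs) x
        (fun k hk => conv k x hx (h k hk))
      have h1 := Trans.inf_centralizer_le_rel hKM₁ hcK₁ hself (mem_inf.2 ⟨mul_mem hx (hZM hd), hxd⟩)
      have := mul_mem h1 (inv_mem hd)
      rwa [mul_inv_cancel_right] at this
    · intro x hx h
      obtain ⟨d, hd, hxd⟩ := H1.Coprime.exists_mul_mem_centralizer hRZ hcRZ (Or.inr hZs) x
        (fun k hk => conv k x hx (h k hk))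
      have h0 : x * d ∈ M₁ := mul_mem hx (hZM hd)
      have h1 : x * d ∈ centralizer (K : Set G) := hfix (mem_inf.2 ⟨hM₁M h0, hxd⟩)
      have h2 := Trans.inf_centralizer_le_rel hKM₁ hcK₁ hself (mem_inf.2 ⟨h0, h1⟩)
      have := mul_mem h2 (inv_mem hd)
      rwa [mul_inv_cancel_right] at this
  have hbot : M₁ = ⊥ := by
    by_contra hne
    have hnt : Nontrivial M₁ := (Subgroup.nontrivial_iff_ne_bot _).2 hne
    have h1 := (Group.IsSolvable.commutator_lt_top_of_nontrivial (G := M₁)).ne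
    apply h1
    rw [eq_top_iff]
    intro x _
    have hx : (x : G) ∈ ⁅M₁, M₁⁆ := hle x.2
    have h2 : (commutator M₁).map M₁.subtype = ⁅M₁, M₁⁆ := by
      rw [_root_.commutator_def, map_commutator, ← MonoidHom.range_eq_map, range_subtype]
    rw [← h2] at hx
    obtain ⟨y, hy, hyx⟩ := hx
    have : y = x := Subtype.ext hyx
    rwa [← this]
  rw [← commutator_eq_bot_iff_le_centralizer, commutator_comm]
  exact hbot

/-- a group of prime order acting without fixed points -/
theorem frob_of_prime {p : ℕ} [hp : Fact p.Prime] {P Q : Subgroup G} (hPc : Nat.card P = p) (hfix : Q ⊓ centralizer (P : Set G) = ⊥) :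
    ∀ r ∈ P, r ≠ 1 → ∀ k ∈ Q, k * r = r * k → k = 1 := by
  intro r hr hr1 k hk hkr
  have h1 : zpowers r = P := by
    apply H22.Basic.eq_of_le_of_card_le (by rwa [zpowers_le])
    have h2 : Nat.card (zpowers r) ∣ p := by
      rw [← hPc]
      exact card_dvd_of_le (by rwa [zpowers_le])
    rcases (Nat.dvd_prime hp.out).1 h2 with h3 | h3
    · exact absurd (Subgroup.card_eq_one.1 h3) (by rw [zpowers_eq_bot]; exact hr1)
    · rw [h3, hPc]
  have h2 : k ∈ Q ⊓ centralizer (P : Set G) := by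
    refine mem_inf.2 ⟨hk, ?_⟩
    rw [← h1, centralizer_zpowers, mem_centralizer_singleton_iff]
    exact hkr
  rw [hfix] at h2
  exact h2

/-- rank of `C_{M_α}(P)` -/
theorem rank_cent_alpha (hG : IsMinSimpleOddOrder G) {M P : Subgroup G} (hM : IsCoatom M) {p : ℕ} [hp : Fact p.Prime]
    (hpσ : p ∉ sigma M) (hr1 : PRankLE p 1 M) (hPM : P ≤ M) (hPc : Nat.card P = p) :
    RankLE 1 ↥(alphaCore M ⊓ centralizer (P : Set G)) ∧ ¬ UMax M (centralizer (P : Set G)) := by
  have hPp : IsPGroup p P := by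
    rw [IsPGroup.iff_card]
    exact ⟨1, by rw [hPc, pow_one]⟩
  obtain ⟨T, hPT, hT⟩ := exists_isSylIn_ge (p := p) (H := M) hPp hPM
  have hpM : p ∣ Nat.card M := by
    rw [← hPc]; exact card_dvd_of_le hPM
  obtain ⟨x, hx, -, hxo, hxr, hxU⟩ := thm104 hG hM hpM hpσ hT
  have hTc := cyclic_sylow hG hT.isPGroup (SCN.pRankLE_mono hT.le hr1)
  have h1 : zpowers x = P := by
    apply Core.cyclic_eq_of_card_eq' hTc (by rwa [zpowers_le]) hPT
    rw [Nat.card_zpowers, hxo, hPc]
  rw [← h1, centralizer_zpowers]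
  exact ⟨hxr, hxU⟩

theorem rank_alphaCore (hG : IsMinSimpleOddOrder G) {M R : Subgroup G} (hM : IsCoatom M) {r : ℕ} [hr : Fact r.Prime]
    (hR : IsSylIn r R (alphaCore M)) (hrα : r ∈ alpha M) : ¬ PRankLE r 2 R := by
  intro h
  exact hrα.2 (pRankLE_of_isSylIn (Hall.sylow_trans (alphaCore_hallOf hG hM) hrα hR) h)

theorem pgroup_pi {p : ℕ} [hp : Fact p.Prime] {π : Set ℕ} {Q : Subgroup G} (hQ : IsPGroup p Q) (h : p ∈ π) :
    Core.PiNum π (Nat.card Q) := by
  obtain ⟨n, hn⟩ := hQ.exists_card_eq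
  rw [hn]
  exact Core.piNum_of_pow hp.out h

theorem not_umax_of_rank (hG : IsMinSimpleOddOrder G) {M Q R : Subgroup G} (hM : IsCoatom M) {q r : ℕ} [hq : Fact q.Prime] [hr : Fact r.Prime]
    (hQ : IsPGroup q Q) (hQb : Q ≠ ⊥) (hQM : Q ≤ M) (hN : ¬ UMax M (normalizer (Q : Set G))) (hqα : q ∉ alpha M)
    (hRα : R ≤ alphaCore M) (hRr : ¬ PRankLE r 2 R) (hc : R ≤ centralizer (Q : Set G)) : False := by
  apply hN
  have h1 : InUniqueMaximal (M ⊓ centralizer (Q : Set G)) := by
    apply thm103 hG hM hQM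
    · intro s hs hd
      have h2 := pgroup_pi (π := {q}) hQ rfl s hs hd
      rw [Set.mem_singleton_iff] at h2
      rw [h2]; exact hqα
    · intro h
      exact hRr (pRankLE_le (by norm_num) (SCN.pRankLE_mono (le_inf hRα hc) (h r hr.out)))
  have h2 := umax_of_inU hM inf_le_left h1
  have h3 := normalizer_ne_top hG hQb (ne_top_of_isPGroup hG hQ)
  exact umax_mono h2 (inf_le_right.trans (centralizer_le_normalizer _)) h3

/-- BG 12.18 (a) -/
theorem thm1218a (hG : IsMinSimpleOddOrder G) {M P Q : Subgroup G} (hM : IsCoatom M) {p q : ℕ} [hp : Fact p.Prime] [hq : Fact q.Prime]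
    (hpσ : p ∉ sigma M) (hr1 : PRankLE p 1 M) (hPM : P ≤ M) (hPc : Nat.card P = p)
    (hQ : IsPGroup q Q) (hQb : Q ≠ ⊥) (hQM : Q ≤ M) (hPQ : P ≤ normalizer (Q : Set G)) (hfix : Q ⊓ centralizer (P : Set G) = ⊥)
    (hN : ¬ UMax M (normalizer (Q : Set G))) (hqα : q ∉ alpha M) :
    (alphaCore M ≠ ⊥ → alphaCore M ⊓ centralizer (P : Set G) ≠ ⊥) ∧
    alphaCore M ⊓ centralizer (P : Set G) ⊓ centralizer (Q : Set G) = ⊥ := by
  have hαs : Group.IsSolvable (alphaCore M) := BG1.isSolvable_of_le (alphaCore_le_sigmaCore hG hM) (isSolvable_sigmaCore hG hM)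
  have hαn := le_normalizer_alphaCore M
  have hPp : IsPGroup p P := by
    rw [IsPGroup.iff_card]
    exact ⟨1, by rw [hPc, pow_one]⟩
  have hpα : p ∉ alpha M := fun h => hpσ (alpha_subset_sigma hG hM h)
  have hαpi : Core.PiNum (alpha M) (Nat.card (alphaCore M)) := Core.piCoreOf_piNum (alpha M) M
  have hcP : (Nat.card P).Coprime (Nat.card (alphaCore M)) := coprime_of_pi hαpi hPp hpα
  have hcQ : (Nat.card Q).Coprime (Nat.card (alphaCore M)) := coprime_of_pi hαpi hQ hqα
  have hfrob := frob_of_prime hPc hfix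
  constructor
  · intro hb hCb
    have h1 := frob_trivial' hαs (hQM.trans hαn) (hPM.trans hαn) hPQ hcQ hcP hfrob (by rw [hCb]; exact bot_le)
    obtain ⟨r, hr, hrd⟩ := Nat.exists_prime_and_dvd (fun h => hb (Subgroup.card_eq_one.1 h))
    haveI : Fact r.Prime := ⟨hr⟩
    obtain ⟨R, hR⟩ := exists_isSylIn (p := r) (alphaCore M)
    exact not_umax_of_rank hG hM hQ hQb hQM hN hqα hR.le (rank_alphaCore hG hM hR (hαpi r hr hrd))
      (hR.le.trans (le_centralizer_iff.1 h1))
  · by_contra hb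
    obtain ⟨r, hr, hrd⟩ := Nat.exists_prime_and_dvd (fun h => hb (Subgroup.card_eq_one.1 h))
    haveI : Fact r.Prime := ⟨hr⟩
    obtain ⟨x, hx⟩ := exists_prime_orderOf_dvd_card' r hrd
    have hxo : orderOf (x : G) = r := by rw [orderOf_coe]; exact hx
    have hxα : (x : G) ∈ alphaCore M := (mem_inf.1 (mem_inf.1 x.2).1).1
    have hxP : (x : G) ∈ centralizer (P : Set G) := (mem_inf.1 (mem_inf.1 x.2).1).2
    have hxQ : (x : G) ∈ centralizer (Q : Set G) := (mem_inf.1 x.2).2
    have hrα : r ∈ alpha M := hαpi r hr (hrd.trans (card_dvd_of_le (inf_le_left.trans inf_le_left)))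
    have hXp : IsPGroup r (zpowers (x : G)) := by
      rw [IsPGroup.iff_card]
      exact ⟨1, by rw [Nat.card_zpowers, hxo, pow_one]⟩
    have hXc : P ⊔ Q ≤ centralizer ((zpowers (x : G) : Subgroup G) : Set G) := by
      rw [le_centralizer_iff, zpowers_le]
      rw [mem_centralizer_iff]
      intro y hy
      have h1 : P ⊔ Q ≤ centralizer ({(x : G)} : Set G) := by
        apply sup_le
        · intro z hz
          rw [mem_centralizer_singleton_iff]
          exact (mem_centralizer_iff.1 hxP z hz)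
        · intro z hz
          rw [mem_centralizer_singleton_iff]
          exact (mem_centralizer_iff.1 hxQ z hz)
      exact mem_centralizer_singleton_iff.1 (h1 hy)
    have hcPQ : (Nat.card ↥(P ⊔ Q)).Coprime (Nat.card (alphaCore M)) :=
      Nat.Coprime.coprime_dvd_left (Core.card_sup_dvd hPQ) (Nat.Coprime.mul_left hcP hcQ)
    obtain ⟨R₀, hXR, hRn⟩ := H1.Coprime.invariant_psubgroup_le (P ⊔ Q) (alphaCore M) ((sup_le hPM hQM).trans hαn) hcPQ
      (Or.inr hαs) r (zpowers (x : G)) (by rw [zpowers_le]; exact hxα) hXp (hXc.trans (centralizer_le_normalizer _))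
    have hR := isSylIn_map_subtype R₀
    set R := (R₀ : Subgroup (alphaCore M)).map (alphaCore M).subtype with hRdef
    have hrR := rank_alphaCore hG hM hR hrα
    have hr2 : r ≠ 2 := by
      apply prime_ne_two hG
      exact hrd.trans (card_subgroup_dvd_card _)
    obtain ⟨K', hKc, hK1, hK2, hK3⟩ := Rank2.exists_crit hr2 hR.isPGroup
    set K := K'.map R.subtype with hKdef
    have hKR : K ≤ R := map_subtype_le _
    have hKn : normalizer (R : Set G) ≤ normalizer (K : Set G) := H11.Cores.le_normalizer_map_subtype_of_characteristic R K'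
    -- `C_K(P) ≤ ⟨x⟩`
    have hrk := (rank_cent_alpha hG hM hpσ hr1 hPM hPc).1
    have hCc : IsCyclic ↥(R ⊓ centralizer (P : Set G)) := by
      apply cyclic_sylow hG (hR.isPGroup.to_le inf_le_left)
      exact SCN.pRankLE_mono (inf_le_inf_right _ hR.le) (hrk r hr)
    have hKx : K ⊓ centralizer (P : Set G) ≤ zpowers (x : G) := by
      intro y hy
      by_cases hy1 : y = 1
      · rw [hy1]; exact one_mem _
      · have hyo : orderOf y = r := orderOf_eq_prime (hK1 y (mem_inf.1 hy).1) hy1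
        have h1 : zpowers y = zpowers (x : G) := by
          apply Core.cyclic_eq_of_card_eq' hCc
          · rw [zpowers_le]; exact mem_inf.2 ⟨hKR (mem_inf.1 hy).1, (mem_inf.1 hy).2⟩
          · rw [zpowers_le]; exact mem_inf.2 ⟨hXR (mem_zpowers _), hxP⟩
          · rw [Nat.card_zpowers, Nat.card_zpowers, hyo, hxo]
        rw [← h1]; exact mem_zpowers y
    have hcK : Nat.card K ∣ Nat.card (alphaCore M) := card_dvd_of_le (hKR.trans hR.le)
    have h1 := frob_trivial' (M := K) (K := Q) (R := P) (BG1.isSolvable_of_le (hKR.trans hR.le) hαs)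
      ((le_sup_right.trans hRn).trans hKn) ((le_sup_left.trans hRn).trans hKn) hPQ (hcQ.coprime_dvd_right hcK) (hcP.coprime_dvd_right hcK)
      hfrob (hKx.trans (by rw [zpowers_le]; exact hxQ))
    have h2 : Q ≤ centralizer (R : Set G) := by
      apply hK3 Q (le_sup_right.trans hRn) _ h1
      have h3 : r ∣ Nat.card (alphaCore M) := hrd.trans (card_dvd_of_le (inf_le_left.trans inf_le_left))
      exact hcQ.coprime_dvd_right h3
    exact not_umax_of_rank hG hM hQ hQb hQM hN hqα hR.le hrR (le_centralizer_iff.1 h2)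

/-- BG 12.18 (b) -/
theorem thm1218b (hG : IsMinSimpleOddOrder G) {M P Q : Subgroup G} (hM : IsCoatom M) {p q : ℕ} [hp : Fact p.Prime] [hq : Fact q.Prime]
    (hpq : p ≠ q) (hPM : P ≤ M) (hP : IsPGroup p P)
    (hQ : IsSylIn q Q M) (hPQ : P ≤ normalizer (Q : Set G)) (hfix : Q ⊓ centralizer (P : Set G) = ⊥)
    (hN : ¬ UMax M (normalizer (Q : Set G))) (hQb : Q ≠ ⊥) :
    q ∉ alpha M ∧ betaCore M ≠ ⊥ ∧ alpha M ⊆ beta M := by
  have hQp := hQ.isPGroup
  have hQt := ne_top_of_isPGroup hG hQp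
  have hNt := normalizer_ne_top hG hQb hQt
  have hqα : q ∉ alpha M := by
    intro h
    have h1 : ¬ PRankLE q 2 Q := fun h2 => h.2 (pRankLE_of_isSylIn hQ h2)
    apply hN
    obtain ⟨h2, h3⟩ := normalizer_le_of_rank hG hM hQp hQ.le h1
    exact ⟨h2, fun L hL hle => h3 L hL (le_normalizer.trans hle)⟩
  have hcop : (Nat.card P).Coprime (Nat.card Q) := coprime_of_pi (π := {q}) (pgroup_pi hQp rfl) hP (by
    rw [Set.mem_singleton_iff]; exact hpq)
  have hQs : Group.IsSolvable Q := solvable_of_ne_top hG hQt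
  have hQQ : ⁅Q, P⁆ = Q := by
    have h1 := H1.Coprime.commutator_sup_centralizer P Q hPQ hcop (Or.inr hQs)
    rw [hfix] at h1
    simpa using h1
  have hQM' : Q ≤ ⁅M, M⁆ := by
    rw [← hQQ]; exact commutator_mono hQ.le hPM
  have hQM'' := hQ.mono hQM' (commutator_le_self M)
  have hqβ : q ∉ beta M := fun h => hqα (beta_subset_alpha M h)
  have hfr := frattini_beta hG hM hqβ hQM''
  have hβ : betaCore M ≠ ⊥ := by
    intro hb
    rw [hb, bot_sup_eq] at hfr
    have h1 : M ≤ normalizer (Q : Set G) := by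
      rw [hfr]; exact inf_le_right
    have h2 : normalizer (Q : Set G) = M := by
      rcases hM.le_iff.1 h1 with h3 | h3
      · exact absurd h3 hNt
      · exact h3
    apply hN
    rw [h2]
    exact ⟨le_rfl, fun L hL hle => by
      rcases hM.le_iff.1 hle with h3 | h3
      · exact absurd h3 hL.1
      · exact h3⟩
  refine ⟨hqα, hβ, ?_⟩
  intro r hrα
  by_contra hrβ
  have hr := hrα.1
  haveI : Fact r.Prime := ⟨hr⟩
  obtain ⟨H, hH, hHM, hNH⟩ := exists_other hG hQp hQb hN
  obtain ⟨R, hR⟩ := exists_isSylIn (p := r) (M ⊓ normalizer (Q : Set G))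
  have hrβ' : ¬ r ∣ Nat.card (betaCore M) := fun h => hrβ (Core.piCoreOf_piNum (beta M) M r hr h)
  have hRM := syl_of_factor hfr (inf_le_left.trans (Core.le_normalizer_piCoreOf _ _)) hrβ' hR
  have h1 : ¬ PRankLE r 2 R := fun h2 => hrα.2 (pRankLE_of_isSylIn hRM h2)
  have h2 := (normalizer_le_of_rank hG hM hRM.isPGroup hRM.le h1).2 H hH ((hR.le.trans inf_le_right).trans hNH)
  exact hHM h2

end Cfsg.Agent.H12.BG13
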