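import Mathlib
import Cfsg.Agent.H12_BG13b

/-! BG 13.4 -/

set_option autoImplicit false
set_option linter.unusedSectionVars false

open Pointwise
open scoped commutatorElement

namespace Cfsg.Agent.H12.BG13

open Cfsg Subgroup H13.Syl H12.Loc H12.Trans H12.BG7 H12.Puig H12.BG9 H12.BG10 H12.BG11 H12.BG12

universe u

variable {G : Type u} [Group G] [Finite G]

theorem pgroup_of_card {p : ℕ} {P : Subgroup G} [hp : Fact p.Prime] (h : Nat.card P = p) : IsPGroup p P := by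
  rw [IsPGroup.iff_card]
  exact ⟨1, by rw [h, pow_one]⟩

theorem ne_bot_of_card {p : ℕ} {P : Subgroup G} [hp : Fact p.Prime] (h : Nat.card P = p) : P ≠ ⊥ := by
  rintro rfl
  rw [Subgroup.card_bot] at h
  exact hp.out.one_lt.ne h

theorem not_inU_of_two {M H X : Subgroup G} (hM : IsCoatom M) (hH : IsCoatom H) (hne : H ≠ M) (h1 : X ≤ M) (h2 : X ≤ H) :
    ¬ InUniqueMaximal X := by
  rintro ⟨L, -, hL⟩
  exact hne ((hL H ⟨hH, h2⟩).trans (hL M ⟨hM, h1⟩).symm)

theorem core134 (hG : IsMinSimpleOddOrder G) {M H P R Q₀ : Subgroup G} (hM : IsCoatom M) (hH : IsCoatom H) {p r q : ℕ}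
    [hpf : Fact p.Prime] [hrf : Fact r.Prime] [hqf : Fact q.Prime] (hp : p ∈ tau1 M) (hPM : P ≤ M) (hPc : Nat.card P = p)
    (hRM : R ≤ M) (hRc : Nat.card R = r) (hrσ : r ∉ sigma M) (hRP : R ≤ centralizer (P : Set G)) (hN : normalizer (P : Set G) ≤ H)
    (hQ : IsPGroup q Q₀) (hQσ : Q₀ ≤ sigmaCore M) (hQP : Q₀ ≤ centralizer (P : Set G)) (hRQ : R ≤ normalizer (Q₀ : Set G))
    (hne : ⁅Q₀, R⁆ ≠ ⊥) : (∀ g : G, H ≠ cj g M) ∧ r ∈ tau1 H ∧ p ∈ beta H ∧ q ∈ sigma M ∧ q ∈ sigma H ∧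
      ⁅Q₀, R⁆ ⊓ centralizer (R : Set G) = ⊥ ∧ normalizer ((⁅Q₀, R⁆ : Subgroup G) : Set G) ≤ H := by
  have hCH : centralizer (P : Set G) ≤ H := (centralizer_le_normalizer _).trans hN
  have hPp := pgroup_of_card hPc
  have hPb := ne_bot_of_card hPc
  obtain ⟨hnc, -, h3, h4⟩ := thm132 hG hM hH (Or.inl hp) hPp hPb hPM hN
  have hHM : H ≠ M := by
    intro h
    apply hnc 1
    rw [cj_one]; exact h
  have hQH := hQP.trans hCH
  have hRH := hRP.trans hCH
  have hQM := hQσ.trans (sigmaCore_le M)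
  have hRp := pgroup_of_card hRc
  have hQb : Q₀ ≠ ⊥ := by
    rintro rfl
    apply hne
    exact commutator_bot_left R
  have hqσ : q ∈ sigma M := by
    have h1 : q ∣ Nat.card Q₀ := by
      obtain ⟨n, hn⟩ := hQ.exists_card_eq
      rcases Nat.eq_zero_or_pos n with rfl | hn0
      · rw [pow_zero] at hn
        exact absurd (Subgroup.card_eq_one.1 hn) hQb
      · rw [hn]; exact dvd_pow_self q hn0.ne'
    exact sigmaCore_pi M q hqf.out (h1.trans (card_dvd_of_le hQσ))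
  have hcomm : ⁅sigmaCore M ⊓ H, M ⊓ H⁆ ≠ ⊥ := by
    intro h
    apply hne
    rw [eq_bot_iff, ← h]
    exact commutator_mono (le_inf hQσ hQH) (le_inf hRM hRH)
  obtain ⟨hpσH, hpβ⟩ := h4 hcomm
  have hpβH := hpβ hp
  have hrτ : r ∈ tau1 H := by
    by_contra hr
    have h5 := h3 R (le_inf hRM hRH) (by
      intro s hs hd
      rw [hRc] at hd
      rw [(Nat.prime_dvd_prime_iff_eq hs hrf.out).1 hd]
      exact ⟨hrσ, hr⟩)
    apply hne
    rw [commutator_comm, commutator_eq_bot_iff_le_centralizer]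
    exact h5.trans (centralizer_le (le_inf hQσ hQH))
  have hab : IsMulCommutative Q₀ := by
    by_contra h
    exact not_inU_of_two hM hH hHM hQM hQH (thm1213 hG hQ h)
  have hcop : (Nat.card R).Coprime (Nat.card Q₀) := by
    apply coprime_of_pi (π := sigma M) _ hRp hrσ
    exact pgroup_pi hQ hqσ
  have hfix : ⁅Q₀, R⁆ ⊓ centralizer (R : Set G) = ⊥ := by
    have h1 := H1.Coprime.inf_commutator_eq_bot_of_abelian R Q₀ hRQ hcop
    rw [eq_bot_iff, ← h1]
    have h2 : ⁅Q₀, R⁆ ≤ Q₀ := H1.Coprime.commutator_le_of_le_normalizer hRQ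
    exact le_inf (le_inf (inf_le_left.trans h2) inf_le_right) inf_le_left
  have hQQ : ⁅Q₀, R⁆ ≤ Q₀ := H1.Coprime.commutator_le_of_le_normalizer hRQ
  have hαH := (thm1012a hG hH hM (not_conj_symm hnc)).1
  have hU : UMax H (normalizer ((⁅Q₀, R⁆ : Subgroup G) : Set G)) := by
    by_contra hU
    have h5 := (thm1218a hG hH hrτ.2.1 hrτ.2.2.2.2 hRH hRc (hQ.to_le hQQ) hne (hQQ.trans hQH)
      (H22.Basic.right_le_normalizer_commutator _ _) hfix hU (fun h => hαH q h hqσ)).2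
    apply hPb
    rw [eq_bot_iff, ← h5]
    refine le_inf (le_inf ?_ ?_) ?_
    · have hPH : P ≤ H := le_normalizer.trans hN
      have h6 := alphaCore_hallOf hG hH
      obtain ⟨l, hl, hle⟩ := Hall.sylow_conj_le h6 (beta_subset_alpha H hpβH) hPp hPH
      rw [cj_le_iff] at hle
      rwa [cj_eq_of_mem_normalizer (le_normalizer_alphaCore H (inv_mem hl))] at hle
    · exact le_centralizer_iff.1 hRP
    · exact le_centralizer_iff.1 (hQQ.trans hQP)
  refine ⟨hnc, hrτ, hpβH, hqσ, ?_, hfix, hU.1⟩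
  by_contra hqH
  obtain ⟨S, hXS, hS⟩ := exists_isSylIn_ge (p := q) (H := M ⊓ H) (hQ.to_le hQQ) (le_inf (hQQ.trans hQM) (hQQ.trans hQH))
  obtain ⟨-, h6, -, -⟩ := thm1215e hG hM hH hHM hqσ (hQ.to_le hQQ) hne hU.1 hS hXS hqH
  have hPH : P ≤ H := le_normalizer.trans hN
  have h7 : p ∣ Nat.card ↥(M ⊓ H) := by
    have := card_dvd_of_le (le_inf hPM hPH)
    rwa [hPc] at this
  exact Hall.pi h6 p hpf.out h7 hpσH

/-- `A` centralizes `D` when it centralizes all its `A`-invariant `q`-subgroups -/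
theorem cent_of_inv {A D : Subgroup G} (hAD : A ≤ normalizer (D : Set G)) (hcop : (Nat.card A).Coprime (Nat.card D))
    (hs : Group.IsSolvable D) (h : ∀ q : ℕ, q.Prime → q ∣ Nat.card D → ∀ Q : Subgroup G, IsPGroup q Q → Q ≤ D →
      A ≤ normalizer (Q : Set G) → ⁅Q, A⁆ = ⊥) : A ≤ centralizer (D : Set G) := by
  have h1 : D ≤ D ⊓ centralizer (A : Set G) := by
    apply le_of_sylow_each inf_le_left
    intro q hq hd
    haveI : Fact q.Prime := ⟨hq⟩
    obtain ⟨Q₀, hQn⟩ := H1.Coprime.invariant_sylow_exists A D hAD hcop (Or.inr hs) q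
    have hQ := isSylIn_map_subtype Q₀
    refine ⟨_, hQ, le_inf hQ.le ?_⟩
    have h2 := h q hq hd _ hQ.isPGroup hQ.le hQn
    exact commutator_eq_bot_iff_le_centralizer.1 h2
  exact le_centralizer_iff.1 (h1.trans inf_le_right)

theorem cent_alpha134 (hG : IsMinSimpleOddOrder G) {M P R : Subgroup G} (hM : IsCoatom M) {p r : ℕ}
    [hpf : Fact p.Prime] [hrf : Fact r.Prime] (hp : p ∈ tau1 M) (hPM : P ≤ M) (hPc : Nat.card P = p)
    (hRM : R ≤ M) (hRc : Nat.card R = r) (hrσ : r ∉ sigma M) (hRP : R ≤ centralizer (P : Set G)) :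
    alphaCore M ⊓ centralizer (P : Set G) ≤ centralizer (R : Set G) := by
  have hPp := pgroup_of_card hPc
  have hPb := ne_bot_of_card hPc
  have hRp := pgroup_of_card hRc
  obtain ⟨H, hH, hN⟩ := exists_isCoatom_ge (normalizer_ne_top hG hPb (ne_top_of_isPGroup hG hPp))
  have hασ := alphaCore_le_sigmaCore hG hM
  rw [le_centralizer_iff]
  have hn : R ≤ normalizer ((alphaCore M ⊓ centralizer (P : Set G) : Subgroup G) : Set G) :=
    H22.Basic.le_normalizer_inf (hRM.trans (le_normalizer_alphaCore M)) (hRP.trans le_normalizer)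
  have hpi : Core.PiNum (sigma M) (Nat.card ↥(alphaCore M ⊓ centralizer (P : Set G))) :=
    Hall.pi_mono (sigmaCore_pi M) (inf_le_left.trans hασ)
  apply cent_of_inv hn (coprime_of_pi hpi hRp hrσ) (BG1.isSolvable_of_le (inf_le_left.trans hασ) (isSolvable_sigmaCore hG hM))
  intro q hq hd Q hQ hQle hRQ
  haveI : Fact q.Prime := ⟨hq⟩
  by_contra hne
  obtain ⟨hnc, -, -, -, hqH, -, -⟩ := core134 hG hM hH hp hPM hPc hRM hRc hrσ hRP hN hQ (hQle.trans (inf_le_left.trans hασ))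
    (hQle.trans inf_le_right) hRQ hne
  have hqα : q ∈ alpha M := Core.piCoreOf_piNum (alpha M) M q hq (hd.trans (card_dvd_of_le inf_le_left))
  exact (thm1012a hG hM hH hnc).1 q hqα hqH

/-- BG 13.4 -/
theorem thm134 (hG : IsMinSimpleOddOrder G) {M P R : Subgroup G} (hM : IsCoatom M) {p r : ℕ}
    [hpf : Fact p.Prime] [hrf : Fact r.Prime] (hp : p ∈ tau1 M) (hPM : P ≤ M) (hPc : Nat.card P = p)
    (hRM : R ≤ M) (hRc : Nat.card R = r) (hrσ : r ∉ sigma M) (hRP : R ≤ centralizer (P : Set G)) :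
    sigmaCore M ⊓ centralizer (P : Set G) ≤ centralizer (R : Set G) := by
  have hPp := pgroup_of_card hPc
  have hPb := ne_bot_of_card hPc
  have hRp := pgroup_of_card hRc
  obtain ⟨H, hH, hN⟩ := exists_isCoatom_ge (normalizer_ne_top hG hPb (ne_top_of_isPGroup hG hPp))
  rw [le_centralizer_iff]
  have hn : R ≤ normalizer ((sigmaCore M ⊓ centralizer (P : Set G) : Subgroup G) : Set G) :=
    H22.Basic.le_normalizer_inf (hRM.trans (le_normalizer_sigmaCore M)) (hRP.trans le_normalizer)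
  have hpi : Core.PiNum (sigma M) (Nat.card ↥(sigmaCore M ⊓ centralizer (P : Set G))) :=
    Hall.pi_mono (sigmaCore_pi M) inf_le_left
  apply cent_of_inv hn (coprime_of_pi hpi hRp hrσ) (BG1.isSolvable_of_le inf_le_left (isSolvable_sigmaCore hG hM))
  intro q hq hd Q₀ hQ hQle hRQ
  haveI : Fact q.Prime := ⟨hq⟩
  by_contra hne
  have hQσ := hQle.trans inf_le_left
  have hQP := hQle.trans inf_le_right
  obtain ⟨hnc, hrH, hpβ, hqσ, hqH, hfix, hNQ⟩ := core134 hG hM hH hp hPM hPc hRM hRc hrσ hRP hN hQ hQσ hQP hRQ hne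
  have hHM : H ≠ M := by
    intro h
    apply hnc 1
    rw [cj_one]; exact h
  have hqα : q ∉ alpha M := fun h => (thm1012a hG hM hH hnc).1 q h hqH
  have hQQ : ⁅Q₀, R⁆ ≤ Q₀ := H1.Coprime.commutator_le_of_le_normalizer hRQ
  have hQM := hQσ.trans (sigmaCore_le M)
  have hCH : centralizer (P : Set G) ≤ H := (centralizer_le_normalizer _).trans hN
  have hQH := hQP.trans hCH
  obtain ⟨S, hXS, hS⟩ := exists_isSylIn_ge (p := q) (H := M ⊓ H) (hQ.to_le hQQ) (le_inf (hQQ.trans hQM) (hQQ.trans hQH))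
  obtain ⟨-, hHf, hβM, hMf⟩ := thm1215d hG hM hH hHM hqσ hNQ hS hXS hqH
  have hrτ : r ∈ tau1 M := by
    rcases thm1215d2 hG hM hH hHf hMf hrH with h | h
    · exact h
    · exact absurd (beta_subset_sigma hG hM h) hrσ
  have hαb : alphaCore M ≠ ⊥ := by
    intro h
    apply hβM
    rw [eq_bot_iff, ← h]
    exact Core.piCoreOf_mono_pi (beta_subset_alpha M) M
  have hcR := cent_alpha134 hG hM hp hPM hPc hRM hRc hrσ hRP
  have hcP := cent_alpha134 hG hM hrτ hRM hRc hPM hPc hp.2.1 (le_centralizer_iff.1 hRP)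
  have hnU : ¬ UMax M (normalizer ((⁅Q₀, R⁆ : Subgroup G) : Set G)) := fun h => hHM (h.2 H hH hNQ)
  obtain ⟨h1, h2⟩ := thm1218a hG hM hrσ hrτ.2.2.2.2 hRM hRc (hQ.to_le hQQ) hne (hQQ.trans hQM)
    (H22.Basic.right_le_normalizer_commutator _ _) hfix hnU hqα
  apply h1 hαb
  rw [eq_bot_iff]
  refine le_trans (le_inf le_rfl ?_) h2.le
  -- `[Q₀, R]` centralizes `D = C_{M_α}(R) = C_{M_α}(P)`
  set D := alphaCore M ⊓ centralizer (R : Set G) with hD
  have hDP : D ≤ centralizer (P : Set G) := hcP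
  have hQD : Q₀ ≤ normalizer (D : Set G) := by
    have hDe : D = alphaCore M ⊓ centralizer (P : Set G) :=
      le_antisymm (le_inf inf_le_left hcP) (le_inf inf_le_left hcR)
    rw [hDe]
    exact H22.Basic.le_normalizer_inf (hQM.trans (le_normalizer_alphaCore M)) (hQP.trans le_normalizer)
  have hRD : ⁅D, R⁆ = ⊥ := commutator_eq_bot_iff_le_centralizer.2 inf_le_right
  have e1 : ⁅⁅D, Q₀⁆, R⁆ = ⊥ := by
    rw [eq_bot_iff, ← hRD]
    exact commutator_mono (H1.Coprime.commutator_le_of_le_normalizer hQD) le_rfl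
  have e2 : ⁅⁅R, D⁆, Q₀⁆ = ⊥ := by
    rw [commutator_comm R D, hRD, commutator_bot_left]
  have e3 : ⁅⁅Q₀, R⁆, D⁆ = ⊥ := commutator_commutator_eq_bot_of_rotate e2 e1
  rw [le_centralizer_iff]
  exact commutator_eq_bot_iff_le_centralizer.1 e3

end Cfsg.Agent.H12.BG13
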