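import Mathlib
import Cfsg.Agent.H12_BG13c

/-! BG 13.5, 13.6 -/

set_option autoImplicit false
set_option linter.unusedSectionVars false
set_option linter.style.haveILetI false

open Pointwise
open scoped commutatorElement

namespace Cfsg.Agent.H12.BG13

open Cfsg Subgroup H13.Syl H12.Loc H12.Trans H12.BG7 H12.Puig H12.BG9 H12.BG10 H12.BG11 H12.BG12

universe u

variable {G : Type u} [Group G] [Finite G]

theorem exists_prime_sub {X : Subgroup G} {x : G} (hx : x ∈ X) (hx1 : x ≠ 1) :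
    ∃ p : ℕ, p.Prime ∧ ∃ w ∈ X, orderOf w = p ∧ w ∈ zpowers x := by
  obtain ⟨p, hp, hpo⟩ := Nat.exists_prime_and_dvd (fun h : orderOf x = 1 => hx1 (orderOf_eq_one_iff.1 h))
  haveI : Fact p.Prime := ⟨hp⟩
  rw [← Nat.card_zpowers] at hpo
  obtain ⟨w, hw⟩ := exists_prime_orderOf_dvd_card' p hpo
  exact ⟨p, hp, w, (zpowers_le.2 hx) w.2, by rw [orderOf_coe]; exact hw, w.2⟩

theorem cent_zp_le {x w : G} (hw : w ∈ zpowers x) : centralizer ({x} : Set G) ≤ centralizer ((zpowers w : Subgroup G) : Set G) := by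
  intro y hy
  rw [centralizer_zpowers, mem_centralizer_singleton_iff]
  obtain ⟨n, rfl⟩ := hw
  have h3 := mem_centralizer_singleton_iff.1 hy
  exact ((show Commute y x from h3).zpow_right n).eq

theorem ne_one_of_order {w : G} {p : ℕ} (hp : p.Prime) (h : orderOf w = p) : w ≠ 1 := by
  rintro rfl
  rw [orderOf_one] at h
  exact hp.one_lt.ne h

/-- BG 13.5 -/
theorem thm135 (hG : IsMinSimpleOddOrder G) {M E₁ : Subgroup G} (hM : IsCoatom M) (hEM : E₁ ≤ M)
    (hE : ∀ p : ℕ, p.Prime → p ∣ Nat.card E₁ → p ∈ tau1 M) {x : G} (hx : x ∈ E₁) (hx1 : x ≠ 1) :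
    sigmaCore M ⊓ centralizer ({x} : Set G) ≤ centralizer (E₁ : Set G) := by
  have hcyc := tau1_cyclic hG hM hEM hE
  have hab : E₁ ≤ centralizer (E₁ : Set G) := by
    intro a ha
    rw [mem_centralizer_iff]
    intro b hb
    obtain ⟨g, hg⟩ := IsCyclic.exists_generator (α := E₁)
    obtain ⟨m, hm⟩ := hg ⟨a, ha⟩
    obtain ⟨n, hn⟩ := hg ⟨b, hb⟩
    have h1 : (g : G) ^ m = a := by simpa using congrArg Subtype.val hm
    have h2 : (g : G) ^ n = b := by simpa using congrArg Subtype.val hn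
    rw [← h1, ← h2, ← zpow_add, ← zpow_add, add_comm]
  obtain ⟨p, hp, w, hw, hwo, hwx⟩ := exists_prime_sub hx hx1
  haveI : Fact p.Prime := ⟨hp⟩
  have hwc : Nat.card (zpowers w) = p := by rw [Nat.card_zpowers, hwo]
  have hwE : zpowers w ≤ E₁ := by rwa [zpowers_le]
  have hpτ : p ∈ tau1 M := hE p hp (by rw [← hwc]; exact card_dvd_of_le hwE)
  refine (inf_le_inf_left _ (cent_zp_le hwx)).trans ?_
  rw [le_centralizer_iff]
  apply le_of_sylow
  intro r hr hd T hT
  haveI : Fact r.Prime := ⟨hr⟩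
  have hTd : r ∣ Nat.card T := by
    by_contra h
    apply hT.not_dvd
    have := H22.Basic.card_mul_relIndex hT.le
    rw [← this] at hd
    exact (hr.dvd_mul.1 hd).resolve_left h
  obtain ⟨v, hv⟩ := exists_prime_orderOf_dvd_card' r hTd
  have hvo : orderOf (v : G) = r := by rw [orderOf_coe]; exact hv
  have hvc : Nat.card (zpowers (v : G)) = r := by rw [Nat.card_zpowers, hvo]
  have hvE : zpowers (v : G) ≤ E₁ := by rw [zpowers_le]; exact hT.le v.2
  have hrτ := hE r hr hd
  have h1 := thm134 hG hM hpτ (hwE.trans hEM) hwc (hvE.trans hEM) hvc hrτ.2.1 ((hvE.trans hab).trans (centralizer_le hwE))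
  have h2 := thm133a hG hM (Or.inl hrτ) hT.isPGroup (hT.le.trans hEM) v.2 (ne_one_of_order hr hvo)
  rw [le_centralizer_iff]
  refine le_trans (le_inf inf_le_left ?_) h2
  rw [← centralizer_zpowers]
  exact h1

/-- a `q`-subgroup of `A ⊔ N`, with `q` prime to `|A|`, lies in `N` -/
theorem le_of_sup' {q : ℕ} [hq : Fact q.Prime] {N A Y : Subgroup G} (hY : IsPGroup q Y) (hn : A ≤ normalizer (N : Set G))
    (hle : Y ≤ A ⊔ N) (hA : ¬ q ∣ Nat.card A) : Y ≤ N := by
  have hLn : A ⊔ N ≤ normalizer (N : Set G) := sup_le hn le_normalizer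
  haveI : (N.subgroupOf (A ⊔ N)).Normal := Core.normal_subgroupOf_of_le hLn
  have hd : N.relIndex (A ⊔ N) ∣ Nat.card A := by
    rw [H1.Basic.relIndex_sup_of_le_normalizer hn]
    exact relIndex_dvd_card _ _
  intro y hy
  have h1 : (⟨y, hle hy⟩ : ↥(A ⊔ N)) ^ (N.subgroupOf (A ⊔ N)).index ∈ N.subgroupOf (A ⊔ N) := Subgroup.pow_index_mem _ _
  have h2 : y ^ (N.relIndex (A ⊔ N)) ∈ N := by
    have := mem_subgroupOf.1 h1
    simpa [relIndex] using this
  obtain ⟨k, hk⟩ := hY ⟨y, hy⟩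
  have hk' : y ^ (q ^ k) = 1 := by simpa using congrArg Subtype.val hk
  have hcop : (q ^ k).Coprime (N.relIndex (A ⊔ N)) := by
    apply Nat.Coprime.pow_left
    rw [hq.out.coprime_iff_not_dvd]
    exact fun h => hA (h.trans hd)
  have h3 : (orderOf y).Coprime (N.relIndex (A ⊔ N)) := hcop.coprime_dvd_left (orderOf_dvd_of_pow_eq_one hk')
  obtain ⟨m, hm⟩ := exists_pow_eq_self_of_coprime h3.symm
  rw [← hm]
  exact pow_mem h2 m

theorem prime_le_normal (hG : IsMinSimpleOddOrder G) {p : ℕ} [hp : Fact p.Prime] {P N E : Subgroup G} (hNE : N ≤ E)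
    (hn : E ≤ normalizer (N : Set G)) (hr1 : PRankLE p 1 E) (hPE : P ≤ E) (hPc : Nat.card P = p) (hd : p ∣ Nat.card N) : P ≤ N := by
  obtain ⟨y, hy⟩ := exists_prime_orderOf_dvd_card' p hd
  have hyo : orderOf (y : G) = p := by rw [orderOf_coe]; exact hy
  have hyc : Nat.card (zpowers (y : G)) = p := by rw [Nat.card_zpowers, hyo]
  have hyN : zpowers (y : G) ≤ N := by rw [zpowers_le]; exact y.2
  obtain ⟨T, hPT, hT⟩ := exists_isSylIn_ge (p := p) (H := E) (pgroup_of_card hPc) hPE
  obtain ⟨e, he, hle⟩ := hT.exists_conj_le (pgroup_of_card hyc) (hyN.trans hNE)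
  have hTc := cyclic_sylow hG hT.isPGroup (SCN.pRankLE_mono hT.le hr1)
  have h1 : cj e (zpowers (y : G)) = P := by
    apply Core.cyclic_eq_of_card_eq' hTc hle hPT
    rw [card_cj, hyc, hPc]
  rw [← h1]
  have h2 := cj_mono (g := e) hyN
  rwa [cj_eq_of_mem_normalizer (hn he)] at h2

theorem exists_order_pow {p : ℕ} [hp : Fact p.Prime] {S : Subgroup G} (hS : IsPGroup p S) {b : G} (hb : b ∈ S) (hb1 : b ≠ 1) :
    ∃ w ∈ zpowers b, orderOf w = p := by
  have hv : ∃ k, b ^ (p ^ k) = 1 := by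
    obtain ⟨k, hk⟩ := hS ⟨b, hb⟩
    exact ⟨k, by simpa using congrArg Subtype.val hk⟩
  obtain ⟨w, hw, hw1, hwp⟩ := exists_pow_prime hv hb1
  exact ⟨w, hw, orderOf_eq_prime hwp hw1⟩

/-- the `τ₂`-part of `E` acts on `M_σ` like a part of `E'` when a prime order `τ₁`-subgroup acts nonregularly -/
theorem tau2_part (hG : IsMinSimpleOddOrder G) {M E P : Subgroup G} (hM : IsCoatom M) (hE : IsComplIn E (sigmaCore M) M) {p r : ℕ}
    [hpf : Fact p.Prime] [hrf : Fact r.Prime] (hp : p ∈ tau1 M) (hPE : P ≤ E) (hPc : Nat.card P = p)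
    (hC : sigmaCore M ⊓ centralizer (P : Set G) ≠ ⊥) (hr : r ∈ tau2 M) :
    ∃ T : Subgroup G, IsSylIn r T E ∧ T ≤ ⁅E, E⁆ ⊔ (E ⊓ centralizer (sigmaCore M : Set G)) := by
  obtain ⟨A, hAE, hA, hAc⟩ := exists_ea_compl hG hM hE hr
  obtain ⟨A₀, h⟩ := exists_exc hG hM hr.2.1 (hAE.trans hE.1) hA hAc
  have hEA := exc_compl_le hG h hE hAE
  obtain ⟨hCA, -, hNA⟩ := thm126b hG h hE hAE
  have hfixA : sigmaCore M ⊓ centralizer (A : Set G) = ⊥ := by
    obtain ⟨P', hAP', hP'⟩ := exists_isSylIn_ge (p := r) (H := M) (ea_isPGroup hA) (hAE.trans hE.1)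
    exact (h.thm116 hG hP' hAP').2.2.1
  have hpr : p ≠ r := by
    rintro rfl
    exact hr.2.2.2 hp.2.2.2.2
  -- `R ≤ C(P)` of order `r`
  have h134 : ∀ w : G, w ∈ E → orderOf w = r → w ∈ centralizer (P : Set G) →
      sigmaCore M ⊓ centralizer (P : Set G) ≤ centralizer ((zpowers w : Subgroup G) : Set G) := by
    intro w hw hwo hwP
    exact thm134 hG hM hp (hPE.trans hE.1) hPc (by rw [zpowers_le]; exact hE.1 hw) (by rw [Nat.card_zpowers, hwo]) hr.2.1
      (by rwa [zpowers_le])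
  have hAC : ¬ A ≤ centralizer (P : Set G) := by
    intro hAC
    apply hC
    rw [eq_bot_iff, ← hfixA]
    refine le_inf inf_le_left ?_
    rw [le_centralizer_iff]
    intro a ha
    by_cases ha1 : a = 1
    · rw [ha1]; exact one_mem _
    · have hao : orderOf a = r := orderOf_eq_prime (hA.2 a ha) ha1
      have h1 := h134 a (hAE ha) hao (hAC ha)
      rw [le_centralizer_iff] at h1
      exact h1 (mem_zpowers a)
  have hnCA : E ≤ normalizer (centralizer (A : Set G) : Set G) := H22.Basic.le_normalizer_centralizer hEA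
  have hpCA : ¬ p ∣ Nat.card (centralizer (A : Set G)) := by
    intro hd
    exact hAC (le_centralizer_iff.1 (prime_le_normal hG hCA hnCA (SCN.pRankLE_mono hE.1 hp.2.2.2.2) hPE hPc hd))
  have hcop : (Nat.card P).Coprime (Nat.card (centralizer (A : Set G))) := by
    rw [hPc, hpf.out.coprime_iff_not_dvd]; exact hpCA
  have hPs : Group.IsSolvable P := solvable_of_ne_top hG (ne_top_of_isPGroup hG (pgroup_of_card hPc))
  obtain ⟨T₀, hPT⟩ := H1.Coprime.invariant_sylow_exists P (centralizer (A : Set G)) (hPE.trans hnCA) hcop (Or.inl hPs) r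
  have hTC := isSylIn_map_subtype T₀
  set T := (T₀ : Subgroup (centralizer (A : Set G))).map (centralizer (A : Set G)).subtype with hTdef
  have hEh := compl_hall hG hM hE
  -- `T` is a Sylow subgroup of `E`
  have hTE : IsSylIn r T E := by
    obtain ⟨T', hAT', hT'⟩ := exists_isSylIn_ge (p := r) (H := E) (ea_isPGroup hA) hAE
    have hT'M := Hall.sylow_trans hEh hr.2.1 hT'
    have hT'c : T' ≤ centralizer (A : Set G) := by
      have h1 := thm125b hG hM hr hT'M
      intro t ht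
      rw [mem_centralizer_iff]
      intro a ha
      exact setLike_mul_comm (hAT' ha) ht
    have h2 := hT'.mono hT'c hCA
    exact isSylIn_of_card_le hT' (hTC.le.trans hCA) hTC.isPGroup (h2.card_eq hTC).le
  refine ⟨T, hTE, ?_⟩
  have hTM := Hall.sylow_trans hEh hr.2.1 hTE
  have hTab := thm125b hG hM hr hTM
  have hAT : A ≤ T := by
    have h1 : IsSylIn r (T ⊓ A) A := hTE.inf_of_le_normalizer hAE hEA
    have h2 := h1.eq_of_le (ea_isPGroup hA) le_rfl inf_le_right
    rw [h2]; exact inf_le_left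
  have hcopT : (Nat.card P).Coprime (Nat.card T) := hcop.coprime_dvd_right (card_dvd_of_le hTC.le)
  have hTs := H1.Coprime.commutator_sup_centralizer P T hPT hcopT (Or.inl hPs)
  have key : T ⊓ centralizer (P : Set G) ≤ centralizer (sigmaCore M : Set G) := by
    intro b hb
    by_cases hb1 : b = 1
    · rw [hb1]; exact one_mem _
    obtain ⟨hbT, hbP⟩ := mem_inf.1 hb
    -- elements of order `r` in `⟨b⟩`
    have hw : ∀ w : G, w ∈ zpowers b → orderOf w = r → w ∈ A ∧ UMax M (centralizer ((zpowers w : Subgroup G) : Set G)) ∧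
        sigmaCore M ⊓ centralizer ((zpowers w : Subgroup G) : Set G) ≠ ⊥ ∧ w ∈ centralizer (P : Set G) := by
      intro w hwb hwo
      have hwT : w ∈ T := (zpowers_le.2 hbT) hwb
      have hwP : w ∈ centralizer (P : Set G) := (zpowers_le.2 hbP) hwb
      have hwA : w ∈ A := h.e2.mem (hTC.le hwT) (by rw [← hwo]; exact pow_orderOf_eq_one w)
      have h1 := h134 w (hAE hwA) hwo hwP
      have h2 : sigmaCore M ⊓ centralizer ((zpowers w : Subgroup G) : Set G) ≠ ⊥ := by
        intro h3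
        apply hC
        rw [eq_bot_iff, ← h3]
        exact le_inf inf_le_left h1
      have hwc : Nat.card (zpowers w) = r := by rw [Nat.card_zpowers, hwo]
      refine ⟨hwA, ?_, h2, hwP⟩
      apply thm126c hG h (ne_bot_of_card hwc) _ (ne_top_of_isPGroup hG (pgroup_of_card hwc)) h2
      exact ea_le_cent hA (by rwa [zpowers_le])
    obtain ⟨w, hwb, hwo⟩ := exists_order_pow hTC.isPGroup hbT hb1
    obtain ⟨hwA, hwU, hwn, hwP⟩ := hw w hwb hwo
    have hwc : Nat.card (zpowers w) = r := by rw [Nat.card_zpowers, hwo]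
    by_cases hab : ∃ S : Subgroup G, IsSylIn r S ⊤ ∧ IsMulCommutative S
    · exfalso
      obtain ⟨S', hS', hS'ab⟩ := hab
      obtain ⟨S, hAS, hS⟩ := exists_isSylIn_ge (p := r) (H := (⊤ : Subgroup G)) (ea_isPGroup hA) le_top
      have hSab := comm_of_sylow hS' hS hS'ab
      obtain ⟨h1, h2, h3, h4, h5, h6⟩ := thm128c hG h hE hAE hS hAS hSab
      have hcent : ⁅normalizer (A : Set G), normalizer (A : Set G)⁆ ≤ centralizer (A : Set G) := by
        rw [h6]
        exact (h2.trans h3).trans (centralizer_le hAS)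
      have hn : normalizer (A : Set G) ≤ normalizer ((A ⊓ centralizer (P : Set G) : Subgroup G) : Set G) := by
        intro n hn
        apply H22.Basic.mem_normalizer_of_cj_le
        show cj n _ ≤ _
        rw [cj_le_iff_forall]
        intro a ha
        obtain ⟨haA, haP⟩ := mem_inf.1 ha
        refine mem_inf.2 ⟨(mem_normalizer_iff.1 hn a).1 haA, ?_⟩
        rw [mem_centralizer_iff]
        intro x hx
        have hxN : x ∈ normalizer (A : Set G) := hEA (hPE hx)
        have hc : x⁻¹ * n⁻¹ * x * n ∈ centralizer (A : Set G) := by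
          apply hcent
          have h7 := commutator_mem_commutator (inv_mem hxN) (inv_mem hn)
          rw [commutatorElement_def, inv_inv, inv_inv] at h7
          exact h7
        have e1 : (x⁻¹ * n⁻¹ * x * n) * a = a * (x⁻¹ * n⁻¹ * x * n) := (mem_centralizer_iff.1 hc a haA).symm
        have e2 : x * a = a * x := mem_centralizer_iff.1 haP x hx
        have e3 : x * n = n * x * (x⁻¹ * n⁻¹ * x * n) := by group
        calc x * (n * a * n⁻¹) = (x * n) * a * n⁻¹ := by group
          _ = n * x * ((x⁻¹ * n⁻¹ * x * n) * a) * n⁻¹ := by rw [e3]; group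
          _ = n * (x * a) * (x⁻¹ * n⁻¹ * x * n) * n⁻¹ := by rw [e1]; group
          _ = n * a * n⁻¹ * x := by rw [e2]; group
      have hAP : A ⊓ centralizer (P : Set G) = zpowers w := by
        have h7 : A ⊓ centralizer (P : Set G) ≠ A := fun h => hAC (inf_eq_left.1 h)
        have h8 : zpowers w ≤ A ⊓ centralizer (P : Set G) := by
          rw [zpowers_le]; exact mem_inf.2 ⟨hwA, hwP⟩
        have h9 := card_of_le_sq hAc inf_le_left h7 (fun h => by
          rw [h, le_bot_iff] at h8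
          exact ne_bot_of_card hwc h8)
        exact (H22.Basic.eq_of_le_of_card_le h8 (by rw [h9, hwc])).symm
      rw [hAP] at hn
      apply hNA
      refine hn.trans ?_
      have h10 := umax_mono hwU (centralizer_le_normalizer _)
        (normalizer_ne_top hG (ne_bot_of_card hwc) (ne_top_of_isPGroup hG (pgroup_of_card hwc)))
      exact h10.1
    · have hnab : ∀ S : Subgroup G, IsSylIn r S ⊤ → ¬ IsMulCommutative S := fun S hS hc => hab ⟨S, hS, hc⟩
      obtain ⟨hZc, -, hZo, hZN⟩ := thm127 hG h hr hE hAE hnab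
      have hwZ : ∀ w : G, w ∈ zpowers b → orderOf w = r → zpowers w = A ⊓ centralizer (sigmaCore M : Set G) := by
        intro w hwb hwo
        obtain ⟨h1, -, h2, -⟩ := hw w hwb hwo
        by_contra hne
        exact h2 (hZo (zpowers w) (by rwa [zpowers_le]) (by rw [Nat.card_zpowers, hwo]) hne).1
      by_cases hbr : b ^ r = 1
      · have h1 := hwZ b (mem_zpowers b) (orderOf_eq_prime hbr hb1)
        have h2 : b ∈ A ⊓ centralizer (sigmaCore M : Set G) := by rw [← h1]; exact mem_zpowers b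
        exact (mem_inf.1 h2).2
      · exfalso
        obtain ⟨v, hv, hvo⟩ := exists_order_pow hTC.isPGroup (pow_mem hbT r) hbr
        have hvb : v ∈ zpowers b := (zpowers_le.2 (pow_mem (mem_zpowers b) r)) hv
        have hvZ := hwZ v hvb hvo
        obtain ⟨S, hTS, hS⟩ := exists_isSylIn_ge (p := r) (H := (⊤ : Subgroup G)) hTC.isPGroup le_top
        obtain ⟨-, -, ⟨Y, -, -, -, hYA, hY⟩, -⟩ := thm1013 hG hS.isPGroup h.e2 (hAT.trans hTS) (hnab S hS)
        have hZne : A ⊓ centralizer (sigmaCore M : Set G) ≠ OZ r S := by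
          intro he
          have h1 : normalizer (S : Set G) ≤ M := by
            refine (normalizer_le_OZ r S).trans ?_
            rw [← he, hZN]
          have h2 : IsSylIn r S M := hS.mono (le_normalizer.trans h1) le_top
          exact hr.2.1 (sigma_of_normalizer hrf.out h.dvd h2 h1)
        obtain ⟨h1, h2⟩ := hY _ inf_le_left hZc hZne
        have hbm : b ∈ (A ⊓ centralizer (sigmaCore M : Set G)) ⊔ Y := by
          rw [h2]
          exact mem_inf.2 ⟨hTS hbT, hTC.le hbT⟩
        have hYc : Y ≤ normalizer ((A ⊓ centralizer (sigmaCore M : Set G) : Subgroup G) : Set G) :=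
          (hYA.trans (centralizer_le inf_le_left)).trans (centralizer_le_normalizer _)
        obtain ⟨z, hz, y, hy, rfl⟩ := (H22.Basic.mem_sup_of_le_normalizer hYc).1 hbm
        have hzy : Commute z y := by
          have := mem_centralizer_iff.1 (hYA hy) z (mem_inf.1 hz).1
          exact this
        have h3 : (z * y) ^ r = y ^ r := by
          rw [hzy.mul_pow, hA.2 z (mem_inf.1 hz).1, one_mul]
        rw [h3] at hv
        have h4 : v ∈ A ⊓ centralizer (sigmaCore M : Set G) ⊓ Y := by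
          refine mem_inf.2 ⟨?_, (zpowers_le.2 (pow_mem hy r)) hv⟩
          rw [← hvZ]; exact mem_zpowers v
        rw [h1] at h4
        exact ne_one_of_order hrf.out hvo h4
  rw [← hTs]
  apply sup_le
  · exact (commutator_mono hTE.le hPE).trans le_sup_left
  · exact (le_inf (inf_le_left.trans hTE.le) key).trans le_sup_right

/-- the centralizer of a nonregular `E₁` lies in `M_σ'` up to the `β`-part -/
theorem cent_le136 (hG : IsMinSimpleOddOrder G) {M E E₁ P X : Subgroup G} (hM : IsCoatom M) (hE : IsComplIn E (sigmaCore M) M)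
    (hE₁ : IsPiHallOf (tau1 M) E₁ E) (hPE : P ≤ E₁) {p q : ℕ} [hpf : Fact p.Prime] [hqf : Fact q.Prime] (hPc : Nat.card P = p)
    (hX : X ≤ sigmaCore M) (hXb : X ≠ ⊥) (hXq : IsPGroup q X) (hXP : X ≤ centralizer (P : Set G)) (hqβ : q ∉ beta M) :
    X ≤ ⁅sigmaCore M, sigmaCore M⁆ := by
  have hE₁E := hE₁.1
  have hEM := hE.1
  have hC : sigmaCore M ⊓ centralizer (P : Set G) ≠ ⊥ := by
    intro h
    apply hXb
    rw [eq_bot_iff, ← h]
    exact le_inf hX hXP
  have hpτ : p ∈ tau1 M := hE₁.2.1 p hpf.out (by rw [← hPc]; exact card_dvd_of_le hPE)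
  have hσn := hEM.trans (le_normalizer_sigmaCore M)
  -- `X` is centralized by `E₁`
  have hXE : X ≤ centralizer (E₁ : Set G) := by
    obtain ⟨x, hx, hx1⟩ := exists_ne_one (ne_bot_of_card hPc)
    have h1 := thm135 hG hM (hE₁E.trans hEM) hE₁.2.1 (hPE hx) hx1
    refine le_trans (le_inf hX ?_) h1
    intro y hy
    rw [mem_centralizer_singleton_iff]
    exact (mem_centralizer_iff.1 (hXP hy) x hx).symm
  -- `E = E₁ E' C_E(M_σ)`
  set N := ⁅E, E⁆ ⊔ (E ⊓ centralizer (sigmaCore M : Set G)) with hNdef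
  have hNE : N ≤ E := sup_le (commutator_le_self E) inf_le_left
  have hEN : E ≤ normalizer (N : Set G) :=
    H22.Basic.le_normalizer_sup (H22.Basic.le_normalizer_commutator le_normalizer le_normalizer)
      (H22.Basic.le_normalizer_inf le_normalizer (H22.Basic.le_normalizer_centralizer hσn))
  have hEh := compl_hall hG hM hE
  have hEN₁ : E ≤ E₁ ⊔ N := by
    apply le_of_sylow_each (sup_le hE₁E hNE)
    intro s hs hd
    haveI : Fact s.Prime := ⟨hs⟩
    have hsσ : s ∉ sigma M := Hall.pi hEh s hs hd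
    have hsM : s ∣ Nat.card M := hd.trans (card_dvd_of_le hEM)
    have hr2 := pRankLE_two_of_not_sigma hG hM hs hsσ
    by_cases hr1 : PRankLE s 1 M
    · by_cases hs3 : s ∣ Nat.card ↥⁅M, M⁆
      · obtain ⟨T, hT⟩ := exists_isSylIn (p := s) E
        exact ⟨T, hT, ((tau3_sylow hG hM hE ⟨hs, hsσ, hs3, hr1⟩ hT).trans le_sup_left).trans le_sup_right⟩
      · obtain ⟨T, hT⟩ := exists_isSylIn (p := s) E₁
        exact ⟨T, Hall.sylow_trans hE₁ ⟨hs, hsσ, hsM, hs3, hr1⟩ hT, hT.le.trans le_sup_left⟩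
    · obtain ⟨T, hT, hTN⟩ := tau2_part hG hM hE hpτ (hPE.trans hE₁E) hPc hC (r := s) ⟨hs, hsσ, hr2, hr1⟩
      exact ⟨T, hT, hTN.trans le_sup_right⟩
  -- the fixed points of `E'`
  obtain ⟨H₀, hH₀, hEH⟩ := thm1219 hG hM hE
  set C := sigmaCore M ⊓ centralizer ((⁅E, E⁆ : Subgroup G) : Set G) with hCdef
  have hH₀C : H₀ ≤ C := le_inf hH₀.1 (le_centralizer_iff.1 hEH)
  have hβh : IsPiHallOf (beta M) (betaCore M) (sigmaCore M) :=
    Hall.mono (betaCore_eq hG hM).2 (betaCore_le_sigmaCore hG hM) (sigmaCore_le M)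
  have hβn : sigmaCore M ≤ normalizer (betaCore M : Set G) := (sigmaCore_le M).trans (Core.le_normalizer_piCoreOf _ _)
  have hsup : H₀ ⊔ betaCore M = sigmaCore M := Hall.sup_eq hβh hH₀ hβn
  have hCE : C ⊓ centralizer (E₁ : Set G) ≤ centralizer (E : Set G) := by
    rw [le_centralizer_iff]
    refine hEN₁.trans (sup_le ?_ (sup_le ?_ ?_))
    · rw [le_centralizer_iff]; exact inf_le_right
    · rw [le_centralizer_iff]; exact inf_le_left.trans inf_le_right
    · rw [le_centralizer_iff]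
      refine inf_le_left.trans (inf_le_left.trans ?_)
      rw [le_centralizer_iff]; exact inf_le_right
  have h17 := (thm1217a hG hM hE).2
  have hE₁C : E₁ ≤ normalizer (C : Set G) :=
    H22.Basic.le_normalizer_inf (hE₁E.trans hσn) (H22.Basic.le_normalizer_centralizer
      (hE₁E.trans (H22.Basic.le_normalizer_commutator le_normalizer le_normalizer)))
  have hE₁D : E₁ ≤ normalizer ((betaCore M ⊓ C : Subgroup G) : Set G) :=
    H22.Basic.le_normalizer_inf ((hE₁E.trans hEM).trans (Core.le_normalizer_piCoreOf _ _)) hE₁C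
  have hcopD : (Nat.card E₁).Coprime (Nat.card ↥(betaCore M ⊓ C)) := by
    have h1 : Core.PiNum (sigma M) (Nat.card ↥(betaCore M ⊓ C)) :=
      Hall.pi_mono (sigmaCore_pi M) (inf_le_right.trans inf_le_left)
    have h2 : Core.PiNum (sigma M)ᶜ (Nat.card E₁) := Hall.pi_mono (Hall.pi hEh) hE₁E
    exact (h1.coprime h2).symm
  have hDs : Group.IsSolvable ↥(betaCore M ⊓ C) :=
    BG1.isSolvable_of_le (inf_le_right.trans inf_le_left) (isSolvable_sigmaCore hG hM)
  have hXle : X ≤ betaCore M ⊔ ⁅sigmaCore M, sigmaCore M⁆ := by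
    intro x hx
    have h1 : x ∈ betaCore M ⊔ H₀ := by rw [sup_comm, hsup]; exact hX hx
    obtain ⟨m, hm, c, hc, hmc⟩ := (H22.Basic.mem_sup_of_le_normalizer (hH₀.1.trans hβn)).1 h1
    have hcC := hH₀C hc
    obtain ⟨d, hd, hcd⟩ := H1.Coprime.exists_mul_mem_centralizer hE₁D hcopD (Or.inr hDs) c (by
      intro a ha
      have hac : a * c * a⁻¹ ∈ C := (mem_normalizer_iff.1 (hE₁C ha) c).1 hcC
      refine mem_inf.2 ⟨?_, mul_mem (inv_mem hcC) hac⟩
      have hax : a * x * a⁻¹ = x := by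
        have := mem_centralizer_iff.1 (hXE hx) a ha
        rw [this, mul_inv_cancel_right]
      have haβ : a ∈ normalizer (betaCore M : Set G) := Core.le_normalizer_piCoreOf _ _ (hEM (hE₁E ha))
      have hcm : c = m⁻¹ * x := by rw [← hmc]; group
      have e1 : c⁻¹ * (a * c * a⁻¹) = x⁻¹ * (m * (a * m⁻¹ * a⁻¹)) * x := by
        have e2 : a * c * a⁻¹ = (a * m⁻¹ * a⁻¹) * (a * x * a⁻¹) := by rw [hcm]; group
        rw [e2, hax, hcm]; group
      rw [e1]
      have e3 : m * (a * m⁻¹ * a⁻¹) ∈ betaCore M := mul_mem hm ((mem_normalizer_iff.1 haβ _).1 (inv_mem hm))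
      have e4 := (mem_normalizer_iff.1 (inv_mem (hβn (hX hx))) _).1 e3
      rwa [inv_inv] at e4)
    have h3 : c * d ∈ ⁅sigmaCore M, sigmaCore M⁆ := by
      apply h17
      have h4 : c * d ∈ C := mul_mem hcC (mem_inf.1 hd).2
      exact mem_inf.2 ⟨(mem_inf.1 h4).1, hCE (mem_inf.2 ⟨h4, hcd⟩)⟩
    have h5 : m * (c * d) * d⁻¹ ∈ betaCore M ⊔ ⁅sigmaCore M, sigmaCore M⁆ :=
      mul_mem (mul_mem (mem_sup_left hm) (mem_sup_right h3)) (mem_sup_left (inv_mem (mem_inf.1 hd).1))
    have e5 : m * (c * d) * d⁻¹ = x := by rw [← hmc]; group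
    rwa [e5] at h5
  exact le_of_sup' hXq ((betaCore_le_sigmaCore hG hM).trans (H22.Basic.le_normalizer_commutator le_normalizer le_normalizer)) hXle
    (fun h => hqβ (Core.piCoreOf_piNum (beta M) M q hqf.out h))

/-- BG 13.6 -/
theorem thm136 (hG : IsMinSimpleOddOrder G) {M E E₁ P X : Subgroup G} (hM : IsCoatom M) (hE : IsComplIn E (sigmaCore M) M)
    (hE₁ : IsPiHallOf (tau1 M) E₁ E) (hPE : P ≤ E₁) (hPb : P ≠ ⊥) {q : ℕ} [hqf : Fact q.Prime] (hXc : Nat.card X = q)
    (hX : X ≤ sigmaCore M) (hXP : X ≤ centralizer (P : Set G)) :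
    UMax M (centralizer (X : Set G)) ∧ ∀ S : Subgroup G, IsSylIn q S (sigmaCore M) → UMax M S := by
  have hqσ : q ∈ sigma M := sigmaCore_pi M q hqf.out (by rw [← hXc]; exact card_dvd_of_le hX)
  apply thm1214 hG hM hqσ (hX.trans (sigmaCore_le M)) hXc
  by_cases hqβ : q ∈ beta M
  · exact Or.inl hqβ
  · right
    obtain ⟨x, hx, hx1⟩ := exists_ne_one hPb
    obtain ⟨p, hp, w, hw, hwo, hwx⟩ := exists_prime_sub hx hx1
    haveI : Fact p.Prime := ⟨hp⟩
    have hwc : Nat.card (zpowers w) = p := by rw [Nat.card_zpowers, hwo]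
    have hwP : zpowers w ≤ P := by rwa [zpowers_le]
    exact cent_le136 hG hM hE hE₁ (P := zpowers w) (hwP.trans hPE) hwc hX (ne_bot_of_card hXc) (pgroup_of_card hXc)
      (hXP.trans (centralizer_le hwP)) hqβ

end Cfsg.Agent.H12.BG13
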