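import Mathlib
import Cfsg.Agent.H12_BG13d

/-! BG 13.8 -/

set_option autoImplicit false
set_option linter.unusedSectionVars false
set_option linter.style.haveILetI false

open Pointwise
open scoped commutatorElement

namespace Cfsg.Agent.H12.BG13

open Cfsg Subgroup H13.Syl H12.Loc H12.Trans H12.BG7 H12.Puig H12.BG9 H12.BG10 H12.BG11 H12.BG12

universe u

variable {G : Type u} [Group G] [Finite G]

theorem exists_compl_ge (hG : IsMinSimpleOddOrder G) {M X : Subgroup G} (hM : IsCoatom M) (hX : X ≤ M)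
    (hpi : Core.PiNum (sigma M)ᶜ (Nat.card X)) : ∃ E : Subgroup G, X ≤ E ∧ IsComplIn E (sigmaCore M) M := by
  obtain ⟨E, hXE, hE⟩ := Hall.exists_hall_ge (solvable_of_ne_top hG hM.1) hpi hX
  exact ⟨E, hXE, isCompl_of_hall hG hM hE⟩

theorem prime_pi {π : Set ℕ} {X : Subgroup G} {p : ℕ} (hp : p.Prime) (h : Nat.card X = p) (hπ : p ∈ π) : Core.PiNum π (Nat.card X) := by
  intro q hq hd
  rw [h] at hd
  rw [(Nat.prime_dvd_prime_iff_eq hq hp).1 hd]
  exact hπ

/-- BG 13.6 for a subgroup of prime order in `τ₁` -/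
theorem thm136' (hG : IsMinSimpleOddOrder G) {M P X : Subgroup G} (hM : IsCoatom M) {p q : ℕ} [hpf : Fact p.Prime] [hqf : Fact q.Prime]
    (hp : p ∈ tau1 M) (hPM : P ≤ M) (hPc : Nat.card P = p) (hXc : Nat.card X = q)
    (hX : X ≤ sigmaCore M) (hXP : X ≤ centralizer (P : Set G)) :
    UMax M (centralizer (X : Set G)) ∧ ∀ S : Subgroup G, IsSylIn q S (sigmaCore M) → UMax M S := by
  obtain ⟨E, hPE, hE⟩ := exists_compl_ge hG hM hPM (prime_pi hpf.out hPc hp.2.1)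
  obtain ⟨E₁, hPE₁, hE₁⟩ := Hall.exists_hall_ge (BG1.isSolvable_of_le hE.1 (solvable_of_ne_top hG hM.1)) (prime_pi hpf.out hPc hp) hPE
  exact thm136 hG hM hE hE₁ hPE₁ (ne_bot_of_card hPc) hXc hX hXP

theorem prime_conj (hG : IsMinSimpleOddOrder G) {p : ℕ} [hp : Fact p.Prime] {P₁ P₂ L : Subgroup G} (h1 : P₁ ≤ L) (h2 : P₂ ≤ L)
    (c1 : Nat.card P₁ = p) (c2 : Nat.card P₂ = p) (hr : PRankLE p 1 L) : ∃ l ∈ L, cj l P₁ = P₂ := by
  obtain ⟨T, hPT, hT⟩ := exists_isSylIn_ge (p := p) (H := L) (pgroup_of_card c2) h2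
  obtain ⟨l, hl, hle⟩ := hT.exists_conj_le (pgroup_of_card c1) h1
  refine ⟨l, hl, ?_⟩
  apply Core.cyclic_eq_of_card_eq' (cyclic_sylow hG hT.isPGroup (SCN.pRankLE_mono hT.le hr)) hle hPT
  rw [card_cj, c1, c2]

theorem hall_of_factor {π : Set ℕ} {M N L J : Subgroup G} (h : M = N ⊔ L) (hn : L ≤ normalizer (N : Set G))
    (hN : Core.PiNum π (Nat.card N)) (hJ : IsPiHallOf πᶜ J L) : IsPiHallOf πᶜ J M := by
  have hLM : L ≤ M := by rw [h]; exact le_sup_right
  apply Hall.mk' (hJ.1.trans hLM) (Hall.pi hJ)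
  rw [← relIndex_mul_relIndex J L M hJ.1 hLM]
  have h1 := Hall.index hJ
  have h2 : Core.PiNum πᶜᶜ (L.relIndex M) := by
    rw [compl_compl]
    exact hN.dvd (relIndex_dvd_of_sup h hn)
  exact h1.mul h2

/-- the configuration of BG 13.8 -/
structure Conf (M N P Q R : Subgroup G) (p q r : ℕ) : Prop where
  hM : IsCoatom M
  hN : IsCoatom N
  hne : ∀ g : G, N ≠ cj g M
  pM : p ∈ tau1 M
  pN : p ∈ tau1 N
  PM : P ≤ M
  PN : P ≤ N
  Pc : Nat.card P = p
  sQ : IsSylIn q Q (M ⊓ N)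
  PQ : P ≤ normalizer (Q : Set G)
  Qf : Q ⊓ centralizer (P : Set G) = ⊥
  NQ : normalizer (Q : Set G) ≤ N
  Qb : Q ≠ ⊥
  sR : IsSylIn r R (M ⊓ N)
  PR : P ≤ normalizer (R : Set G)
  Rf : R ⊓ centralizer (P : Set G) = ⊥
  NR : normalizer (R : Set G) ≤ M
  Rb : R ≠ ⊥

theorem Conf.symm {M N P Q R : Subgroup G} {p q r : ℕ} (h : Conf M N P Q R p q r) : Conf N M P R Q p r q :=
  ⟨h.hN, h.hM, not_conj_symm h.hne, h.pN, h.pM, h.PN, h.PM, h.Pc, by rw [inf_comm]; exact h.sR, h.PR, h.Rf, h.NR, h.Rb,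
    by rw [inf_comm]; exact h.sQ, h.PQ, h.Qf, h.NQ, h.Qb⟩

theorem Conf.ne {M N P Q R : Subgroup G} {p q r : ℕ} (h : Conf M N P Q R p q r) : N ≠ M := by
  intro he
  apply h.hne 1
  rw [cj_one]; exact he

theorem Conf.facts (hG : IsMinSimpleOddOrder G) {M N P Q R : Subgroup G} {p q r : ℕ} [hpf : Fact p.Prime] [hqf : Fact q.Prime]
    (h : Conf M N P Q R p q r) :
    IsSylIn q Q M ∧ q ∉ alpha M ∧ alpha M ⊆ beta M ∧ M = betaCore M ⊔ (M ⊓ normalizer (Q : Set G)) ∧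
    alphaCore M ⊓ centralizer (P : Set G) ≠ ⊥ ∧ alphaCore M ⊓ centralizer (P : Set G) ⊓ centralizer (Q : Set G) = ⊥ := by
  have hQM : IsSylIn q Q M := grow (by rw [inf_comm]; exact h.sQ) h.NQ
  have hpq : p ≠ q := by
    rintro rfl
    have h1 : IsPGroup p ↥(P ⊔ Q) := by
      have := Core.card_sup_dvd h.PQ
      obtain ⟨n, hn⟩ := hQM.isPGroup.exists_card_eq
      rw [h.Pc, hn, ← pow_succ'] at this
      obtain ⟨k, -, hk⟩ := (Nat.dvd_prime_pow hpf.out).1 this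
      exact IsPGroup.of_card hk
    have h2 := hQM.eq_of_le h1 (sup_le h.PM hQM.le) le_sup_right
    have h3 : P ≤ Q := by rw [← h2]; exact le_sup_left
    have h4 : P ≤ centralizer (P : Set G) := by
      obtain ⟨x, hx, -⟩ := exists_gen h.Pc
      rw [← hx, centralizer_zpowers, zpowers_le]
      rw [mem_centralizer_singleton_iff]
    apply ne_bot_of_card h.Pc
    rw [eq_bot_iff, ← h.Qf]
    exact le_inf h3 h4
  have hnU : ¬ UMax M (normalizer (Q : Set G)) := fun hU => h.ne (hU.2 N h.hN h.NQ)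
  obtain ⟨h1, h2, h3⟩ := thm1218b hG h.hM hpq h.PM (pgroup_of_card h.Pc) hQM h.PQ h.Qf hnU h.Qb
  obtain ⟨h4, h5⟩ := thm1218a hG h.hM h.pM.2.1 h.pM.2.2.2.2 h.PM h.Pc hQM.isPGroup h.Qb hQM.le h.PQ h.Qf hnU h1
  refine ⟨hQM, h1, h3, ?_, h4 ?_, h5⟩
  · have hcop : (Nat.card P).Coprime (Nat.card Q) := coprime_of_pi (π := {q}) (pgroup_pi hQM.isPGroup rfl) (pgroup_of_card h.Pc) (by
      rw [Set.mem_singleton_iff]; exact hpq)
    have hQs : Group.IsSolvable Q := solvable_of_ne_top hG (ne_top_of_isPGroup hG hQM.isPGroup)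
    have hQQ : ⁅Q, P⁆ = Q := by
      have h1 := H1.Coprime.commutator_sup_centralizer P Q h.PQ hcop (Or.inr hQs)
      rw [h.Qf] at h1
      simpa using h1
    have hQM' : Q ≤ ⁅M, M⁆ := by
      rw [← hQQ]; exact commutator_mono hQM.le h.PM
    exact frattini_beta hG h.hM (fun h' => h1 (beta_subset_alpha M h')) (hQM.mono hQM' (commutator_le_self M))
  · intro hb
    apply h2
    rw [eq_bot_iff, ← hb]
    exact Core.piCoreOf_mono_pi (beta_subset_alpha M) M

/-- an `α(N)`-element of `C_M(P)` is impossible -/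
theorem Conf.not_alpha (hG : IsMinSimpleOddOrder G) {M N P Q R : Subgroup G} {p q r : ℕ} [hpf : Fact p.Prime] [hqf : Fact q.Prime]
    [hrf : Fact r.Prime] (h : Conf M N P Q R p q r) {W P' : Subgroup G} {w : ℕ} [hwf : Fact w.Prime] (hWc : Nat.card W = w)
    (hw : w ∈ alpha N) (hWM : W ≤ M) (hP'M : P' ≤ M) (hP'c : Nat.card P' = p) (hWP : W ≤ centralizer (P' : Set G)) : False := by
  obtain ⟨hQM, hqα, -, hfr, hKb, hKQ⟩ := h.facts hG
  obtain ⟨hRN, hrα, -, hfrN, hKb', hKR⟩ := h.symm.facts hG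
  have hM := h.hM
  have hN := h.hN
  have hσMN := (thm1012a hG hM hN h.hne)
  have hσNM := (thm1012a hG hN hM (not_conj_symm h.hne))
  have hwσ : w ∉ sigma M := hσNM.1 w hw
  -- conjugate into `N_M(Q)`
  set L := M ⊓ normalizer (Q : Set G) with hL
  have hLM : L ≤ M := inf_le_left
  have hMs : Group.IsSolvable M := solvable_of_ne_top hG hM.1
  obtain ⟨J, hJ⟩ := Hall.exists_hall (BG1.isSolvable_of_le hLM hMs) (sigma M)ᶜ
  have hβn : L ≤ normalizer (betaCore M : Set G) := hLM.trans (Core.le_normalizer_piCoreOf _ _)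
  have hβσ : Core.PiNum (sigma M) (Nat.card (betaCore M)) := (Core.piCoreOf_piNum (beta M) M).mono (beta_subset_sigma hG hM)
  have hJM := hall_of_factor hfr hβn hβσ hJ
  have hWP'pi : Core.PiNum (sigma M)ᶜ (Nat.card ↥(W ⊔ P')) :=
    Core.piNum_sup (hWP.trans (centralizer_le_normalizer _)) (prime_pi hwf.out hWc hwσ) (prime_pi hpf.out hP'c h.pM.2.1)
  obtain ⟨m, hm, hle⟩ := Hall.hall_dom hMs hJM hWP'pi (sup_le hWM hP'M)
  rw [cj_sup] at hle
  have hmP : cj m P' ≤ L := (le_sup_right.trans hle).trans hJ.1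
  have hmW : cj m W ≤ L := (le_sup_left.trans hle).trans hJ.1
  obtain ⟨l, hl, hlP⟩ := prime_conj hG hmP (le_inf h.PM h.PQ) (by rw [card_cj, hP'c]) h.Pc (SCN.pRankLE_mono hLM h.pM.2.2.2.2)
  have hW' : cj l (cj m W) ≤ L := by
    have := cj_mono (g := l) hmW
    rwa [cj_eq_of_mem hl] at this
  have hW'c : Nat.card ↥(cj l (cj m W)) = w := by rw [card_cj, card_cj, hWc]
  have hW'P : cj l (cj m W) ≤ centralizer (P : Set G) := by
    rw [← hlP, ← cj_centralizer, ← cj_centralizer]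
    exact cj_mono (cj_mono hWP)
  have hwp := pgroup_of_card hW'c
  have hW'N : cj l (cj m W) ≤ N := (hW'.trans inf_le_right).trans h.NQ
  have hW'α : cj l (cj m W) ≤ alphaCore N := by
    obtain ⟨n, hn, hle⟩ := Hall.sylow_conj_le (alphaCore_hallOf hG hN) hw hwp hW'N
    rw [cj_le_iff] at hle
    rwa [cj_eq_of_mem_normalizer (le_normalizer_alphaCore N (inv_mem hn))] at hle
  have hU := (thm136' hG hN h.pN h.PN h.Pc hW'c (hW'α.trans (alphaCore_le_sigmaCore hG hN)) hW'P).1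
  -- `K ≤ N`
  have hK := thm134 hG hM h.pM h.PM h.Pc (hW'.trans hLM) hW'c hwσ hW'P
  have hKN : alphaCore M ⊓ centralizer (P : Set G) ≤ N :=
    ((inf_le_inf_right _ (alphaCore_le_sigmaCore hG hM)).trans hK).trans hU.1
  have hNR := thm122a hG hM h.sR.isPGroup h.Rb h.NR
  rcases hNR with hrσ | hrτ
  · -- `K* ≤ M`
    obtain ⟨x, hx, hx1⟩ := exists_ne_one hKb
    obtain ⟨s, hs, v, hv, hvo, -⟩ := exists_prime_sub hx hx1
    haveI : Fact s.Prime := ⟨hs⟩
    have hvc : Nat.card (zpowers v) = s := by rw [Nat.card_zpowers, hvo]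
    have hvα : zpowers v ≤ alphaCore M := by rw [zpowers_le]; exact (mem_inf.1 hv).1
    have hvP : zpowers v ≤ centralizer (P : Set G) := by rw [zpowers_le]; exact (mem_inf.1 hv).2
    have hvN : zpowers v ≤ N := by rw [zpowers_le]; exact hKN hv
    have hsα : s ∈ alpha M := Core.piCoreOf_piNum (alpha M) M s hs (by rw [← hvc]; exact card_dvd_of_le hvα)
    have hU2 := (thm136' hG hM h.pM h.PM h.Pc hvc (hvα.trans (alphaCore_le_sigmaCore hG hM)) hvP).1
    have hK2 := thm134 hG hN h.pN h.PN h.Pc hvN hvc (hσMN.1 s hsα) hvP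
    have hK2M : alphaCore N ⊓ centralizer (P : Set G) ≤ M :=
      ((inf_le_inf_right _ (alphaCore_le_sigmaCore hG hN)).trans hK2).trans hU2.1
    -- `R` centralizes `N_α ∩ M`
    have hRM := h.sR.le.trans inf_le_left
    have hRN' := h.sR.le.trans inf_le_right
    have hRσ := le_sigmaCore_of_pgroup hG hM h.sR.isPGroup hRM hrσ
    have h1 : ⁅alphaCore N ⊓ M, R⁆ = ⊥ := by
      rw [eq_bot_iff, ← hσNM.2]
      apply le_inf
      · exact (commutator_mono inf_le_left le_rfl).trans (H1.Coprime.commutator_le_of_le_normalizer (hRN'.trans (le_normalizer_alphaCore N)))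
      · apply (commutator_mono inf_le_right hRσ).trans
        rw [commutator_comm]
        exact H1.Coprime.commutator_le_of_le_normalizer (le_normalizer_sigmaCore M)
    apply hKb'
    rw [eq_bot_iff]
    refine le_trans (le_inf le_rfl ?_) hKR.le
    exact (le_inf inf_le_left hK2M).trans (commutator_eq_bot_iff_le_centralizer.1 h1)
  · -- `r ∈ τ₂(M)`
    have hRM : IsSylIn r R M := by
      have h1 : M = betaCore M ⊔ (M ⊓ N) := by
        apply le_antisymm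
        · exact hfr.le.trans (sup_le_sup_left (inf_le_inf_left _ h.NQ) _)
        · exact sup_le (Core.piCoreOf_le _ _) inf_le_left
      have hrβ : ¬ r ∣ Nat.card (betaCore M) := fun hd => hrτ.2.1 (hβσ r hrf.out hd)
      exact syl_of_factor h1 (inf_le_left.trans (Core.le_normalizer_piCoreOf _ _)) hrβ h.sR
    have hrk : ¬ PRankLE r 1 R := fun hr => hrτ.2.2.2 (pRankLE_of_isSylIn hRM hr)
    obtain ⟨A, hAR, hA, hAc⟩ := exists_ea_sq_of_not_rank_one hrk
    obtain ⟨A₀, hAe⟩ := exists_exc hG hM hrτ.2.1 (hAR.trans hRM.le) hA hAc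
    have h2 := thm125e hG hAe hN h.ne (hAR.trans (h.sR.le.trans inf_le_right))
    apply hKb
    rw [eq_bot_iff, ← h2]
    exact le_inf (inf_le_left.trans (alphaCore_le_sigmaCore hG hM)) hKN

theorem cyclic_le_cent {C A B : Subgroup G} (hC : IsCyclic C) (hA : A ≤ C) (hB : B ≤ C) : A ≤ centralizer (B : Set G) := by
  intro a ha
  rw [mem_centralizer_iff]
  intro b hb
  obtain ⟨g, hg⟩ := IsCyclic.exists_generator (α := C)
  obtain ⟨m, hm⟩ := hg ⟨a, hA ha⟩
  obtain ⟨n, hn⟩ := hg ⟨b, hB hb⟩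
  have h1 : (g : G) ^ m = a := by simpa using congrArg Subtype.val hm
  have h2 : (g : G) ^ n = b := by simpa using congrArg Subtype.val hn
  rw [← h1, ← h2, ← zpow_add, ← zpow_add, add_comm]

/-- a subgroup of `M` normalizing a subgroup of order `p ∈ τ₁(M)` centralizes it -/
theorem cent_of_tau1 {M P W : Subgroup G} {p : ℕ} [hpf : Fact p.Prime] (hp : p ∈ tau1 M) (hPM : P ≤ M) (hPc : Nat.card P = p)
    (hWM : W ≤ M) (hWP : W ≤ normalizer (P : Set G)) : W ≤ centralizer (P : Set G) := by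
  have h1 : ⁅P, W⁆ ≤ P := H1.Coprime.commutator_le_of_le_normalizer hWP
  have h2 : ⁅P, W⁆ ≤ ⁅M, M⁆ := commutator_mono hPM hWM
  have h3 : P ⊓ ⁅M, M⁆ = ⊥ := by
    apply H22.Basic.inf_eq_bot_of_coprime
    rw [hPc, hpf.out.coprime_iff_not_dvd]
    exact hp.2.2.2.1
  have h4 : ⁅W, P⁆ = ⊥ := by
    rw [commutator_comm, eq_bot_iff, ← h3]
    exact le_inf h1 h2
  exact commutator_eq_bot_iff_le_centralizer.1 h4

theorem step_norm (hG : IsMinSimpleOddOrder G) {M H X W : Subgroup G} (hH : IsCoatom H) {p w : ℕ}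
    [hpf : Fact p.Prime] [hwf : Fact w.Prime] (hp : p ∈ tau1 M) (hWH : W ≤ H) (hWM : W ≤ M) (hWX : W ≤ normalizer (X : Set G))
    (hWc : Nat.card W = w) (hwσ : w ∉ sigma H) (hC : sigmaCore H ⊓ centralizer (X : Set G) ≤ M)
    (hpC : p ∣ Nat.card ↥(sigmaCore H ⊓ centralizer (X : Set G))) :
    ∃ P' : Subgroup G, P' ≤ M ∧ Nat.card P' = p ∧ W ≤ centralizer (P' : Set G) := by
  have hn : W ≤ normalizer ((sigmaCore H ⊓ centralizer (X : Set G) : Subgroup G) : Set G) :=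
    H22.Basic.le_normalizer_inf (hWH.trans (le_normalizer_sigmaCore H)) (H22.Basic.le_normalizer_centralizer hWX)
  have hpi : Core.PiNum (sigma H) (Nat.card ↥(sigmaCore H ⊓ centralizer (X : Set G))) :=
    Hall.pi_mono (sigmaCore_pi H) inf_le_left
  have hcop := coprime_of_pi hpi (pgroup_of_card hWc) hwσ
  have hCs : Group.IsSolvable ↥(sigmaCore H ⊓ centralizer (X : Set G)) :=
    BG1.isSolvable_of_le inf_le_left (isSolvable_sigmaCore hG hH)
  obtain ⟨T₀, hWT⟩ := H1.Coprime.invariant_sylow_exists W _ hn hcop (Or.inr hCs) p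
  have hT := isSylIn_map_subtype T₀
  set T := (T₀ : Subgroup ↥(sigmaCore H ⊓ centralizer (X : Set G))).map (sigmaCore H ⊓ centralizer (X : Set G)).subtype with hTdef
  have hTd : p ∣ Nat.card T := by
    by_contra h
    apply hT.not_dvd
    have := H22.Basic.card_mul_relIndex hT.le
    rw [← this] at hpC
    exact (hpf.out.dvd_mul.1 hpC).resolve_left h
  obtain ⟨v, hv⟩ := exists_prime_orderOf_dvd_card' p hTd
  have hvo : orderOf (v : G) = p := by rw [orderOf_coe]; exact hv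
  have hvc : Nat.card (zpowers (v : G)) = p := by rw [Nat.card_zpowers, hvo]
  have hvT : zpowers (v : G) ≤ T := by rw [zpowers_le]; exact v.2
  have hTM : T ≤ M := hT.le.trans hC
  have hTc := cyclic_sylow hG hT.isPGroup (SCN.pRankLE_mono hTM hp.2.2.2.2)
  exact ⟨zpowers (v : G), hvT.trans hTM, hvc, cent_of_tau1 hp (hvT.trans hTM) hvc hWM (normal_of_cyclic hTc hvT hWT)⟩

theorem tau_cases (hG : IsMinSimpleOddOrder G) {H : Subgroup G} (hH : IsCoatom H) {x : ℕ} (hx : x.Prime) (hxH : x ∣ Nat.card H)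
    (hxσ : x ∉ sigma H) : x ∈ tau1 H ∨ x ∈ tau2 H ∨ x ∈ tau3 H := by
  by_cases hr1 : PRankLE x 1 H
  · by_cases hd : x ∣ Nat.card ↥⁅H, H⁆
    · exact Or.inr (Or.inr ⟨hx, hxσ, hd, hr1⟩)
    · exact Or.inl ⟨hx, hxσ, hxH, hd, hr1⟩
  · exact Or.inr (Or.inl ⟨hx, hxσ, pRankLE_two_of_not_sigma hG hH hx hxσ, hr1⟩)

/-- elements of `H` of order `x ∈ τ₂(H)` lie in an `A ∈ ℰ_x²(E)`; and `H_σ ∩ M = 1` if `C(X) ≤ M ≠ H` -/
theorem tau2_inf (hG : IsMinSimpleOddOrder G) {M H X : Subgroup G} (hM : IsCoatom M) (hH : IsCoatom H) (hne : M ≠ H) {x : ℕ}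
    [hxf : Fact x.Prime] (hτ : x ∈ tau2 H) (hXH : X ≤ H) (hXc : Nat.card X = x) (hC : centralizer (X : Set G) ≤ M) :
    sigmaCore H ⊓ M = ⊥ := by
  obtain ⟨E, hXE, hE⟩ := exists_compl_ge hG hH hXH (prime_pi hxf.out hXc hτ.2.1)
  obtain ⟨B, hBE, hB, hBc⟩ := exists_ea_compl hG hH hE hτ
  obtain ⟨B₀, hBe⟩ := exists_exc hG hH hτ.2.1 (hBE.trans hE.1) hB hBc
  have hXB : X ≤ B := by
    apply thm126a hG hBe hE hBE hXE
    intro y hy
    have h1 := pow_card_eq_one' (G := X) (x := ⟨y, hy⟩)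
    rw [hXc] at h1
    simpa using congrArg Subtype.val h1
  exact thm125e hG hBe hM hne ((ea_le_cent hB hXB).trans hC)

theorem choose_conj (hG : IsMinSimpleOddOrder G) {H X Y : Subgroup G} (hH : IsCoatom H) {x y : ℕ}
    [hxf : Fact x.Prime] [hyf : Fact y.Prime] (hX : X ≤ H) (hY : Y ≤ H) (hXc : Nat.card X = x) (hYc : Nat.card Y = y)
    (hx : x ∈ tau1 H ∨ x ∈ tau3 H) (hy : y ∈ tau1 H ∨ y ∈ tau3 H) :
    ∃ h ∈ H, cj h Y ≤ normalizer (X : Set G) ∨ cj h X ≤ normalizer (Y : Set G) := by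
  have hHs : Group.IsSolvable H := solvable_of_ne_top hG hH.1
  have key : ∀ (X Y : Subgroup G) (x y : ℕ) [Fact x.Prime] [Fact y.Prime], X ≤ H → Y ≤ H → Nat.card X = x → Nat.card Y = y →
      x ∈ tau3 H → y ∉ sigma H → ∃ h ∈ H, cj h Y ≤ normalizer (X : Set G) := by
    intro X Y x y hxf hyf hX hY hXc hYc hx hy
    obtain ⟨E, hXE, hE⟩ := exists_compl_ge hG hH hX (prime_pi hxf.out hXc hx.2.1)
    obtain ⟨E₃, hXE₃, hE₃⟩ := Hall.exists_hall_ge (BG1.isSolvable_of_le hE.1 hHs) (prime_pi hxf.out hXc hx) hXE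
    obtain ⟨h1, -, h2⟩ := tau3_cyclic hG hH hE hE₃
    obtain ⟨h, hh, hle⟩ := Hall.hall_dom hHs (compl_hall hG hH hE) (prime_pi hyf.out hYc hy) hY
    exact ⟨h, hh, hle.trans (normal_of_cyclic h1 hXE₃ h2)⟩
  rcases hx with hx | hx
  · rcases hy with hy | hy
    · obtain ⟨E, hXE, hE⟩ := exists_compl_ge hG hH hX (prime_pi hxf.out hXc hx.2.1)
      obtain ⟨E₁, hXE₁, hE₁⟩ := Hall.exists_hall_ge (BG1.isSolvable_of_le hE.1 hHs) (prime_pi hxf.out hXc hx) hXE
      have hE₁H := Hall.trans (compl_hall hG hH hE) (fun p hp => hp.2.1) hE₁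
      obtain ⟨h, hh, hle⟩ := Hall.hall_dom hHs hE₁H (prime_pi hyf.out hYc hy) hY
      have hc := tau1_cyclic hG hH hE₁H.1 hE₁H.2.1
      exact ⟨h, hh, Or.inl (hle.trans (normal_of_cyclic hc hXE₁ le_normalizer))⟩
    · obtain ⟨h, hh, hle⟩ := key Y X y x hY hX hYc hXc hy hx.2.1
      exact ⟨h, hh, Or.inr hle⟩
  · obtain ⟨h, hh, hle⟩ := key X Y x y hX hY hXc hYc hx (by
      rcases hy with hy | hy
      · exact hy.2.1
      · exact hy.2.1)
    exact ⟨h, hh, Or.inl hle⟩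

/-- the case `p ∈ τ₂(H)`, `N(P) ≤ H` -/
theorem case2 (hG : IsMinSimpleOddOrder G) {M H P X : Subgroup G} (hM : IsCoatom M) (hH : IsCoatom H) {p x : ℕ}
    [hpf : Fact p.Prime] [hxf : Fact x.Prime] (hτ : p ∈ tau2 H) (hr1 : PRankLE p 1 M) (hPc : Nat.card P = p) (hPH : P ≤ H)
    (hXH : X ≤ H) (hXP : X ≤ centralizer (P : Set G)) (hXc : Nat.card X = x) (hxσ : x ∉ sigma H) (hNX : normalizer (X : Set G) ≤ M) :
    x ∈ tau1 H ∧ ∃ E B B₀ : Subgroup G, X ≤ E ∧ P ≤ E ∧ IsComplIn E (sigmaCore H) H ∧ Exc H p B B₀ ∧ B ≤ E ∧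
      E ≤ normalizer (B : Set G) ∧ B ⊓ centralizer (X : Set G) = P ∧ ¬ B ≤ M := by
  have hHs : Group.IsSolvable H := solvable_of_ne_top hG hH.1
  have hpi : Core.PiNum (sigma H)ᶜ (Nat.card ↥(X ⊔ P)) :=
    Core.piNum_sup (hXP.trans (centralizer_le_normalizer _)) (prime_pi hxf.out hXc hxσ) (prime_pi hpf.out hPc hτ.2.1)
  obtain ⟨E, hXPE, hE⟩ := exists_compl_ge hG hH (sup_le hXH hPH) hpi
  have hXE := le_sup_left.trans hXPE
  have hPE := le_sup_right.trans hXPE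
  obtain ⟨B, hBE, hB, hBc⟩ := exists_ea_compl hG hH hE hτ
  obtain ⟨B₀, hBe⟩ := exists_exc hG hH hτ.2.1 (hBE.trans hE.1) hB hBc
  have hEB := exc_compl_le hG hBe hE hBE
  have hexp : ∀ (X : Subgroup G) (x : ℕ), Nat.card X = x → ∀ y ∈ X, y ^ x = 1 := by
    intro X x hXc y hy
    have h1 := pow_card_eq_one' (G := X) (x := ⟨y, hy⟩)
    rw [hXc] at h1
    simpa using congrArg Subtype.val h1
  have hPB : P ≤ B := thm126a hG hBe hE hBE hPE (hexp P p hPc)
  have hBM : ¬ B ≤ M := fun hle => ea_not_rankLE_one hB hBc (SCN.pRankLE_mono hle hr1)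
  have hCX : centralizer (X : Set G) ≤ M := (centralizer_le_normalizer _).trans hNX
  have hBX : ¬ B ≤ centralizer (X : Set G) := fun hle => hBM (hle.trans hCX)
  have hxH : x ∣ Nat.card H := by rw [← hXc]; exact card_dvd_of_le hXH
  have hxp : x ≠ p := by
    rintro rfl
    have hXB : X ≤ B := thm126a hG hBe hE hBE hXE (hexp X _ hXc)
    exact hBX (ea_le_cent hB hXB)
  refine ⟨?_, E, B, B₀, hXE, hPE, hE, hBe, hBE, hEB, ?_, hBM⟩
  · rcases tau_cases hG hH hxf.out hxH hxσ with h1 | h1 | h1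
    · exact h1
    · exfalso
      obtain ⟨C, hCE, hC, hCc⟩ := exists_ea_compl hG hH hE h1
      obtain ⟨C₀, hCe⟩ := exists_exc hG hH h1.2.1 (hCE.trans hE.1) hC hCc
      have hEC := exc_compl_le hG hCe hE hCE
      have hXC : X ≤ C := thm126a hG hCe hE hCE hXE (hexp X x hXc)
      have hd : C ⊓ B = ⊥ := inf_eq_bot_of_primes hxp (ea_isPGroup hC) (ea_isPGroup hB)
      exact hBX ((comm_of_normal hCE hBE hEC hEB hd).trans (centralizer_le hXC))
    · exfalso
      obtain ⟨E₃, hXE₃, hE₃⟩ := Hall.exists_hall_ge (BG1.isSolvable_of_le hE.1 hHs) (prime_pi hxf.out hXc h1) hXE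
      obtain ⟨h2, -, h3⟩ := tau3_cyclic hG hH hE hE₃
      exact hBM ((hBE.trans (normal_of_cyclic h2 hXE₃ h3)).trans hNX)
  · have h7 : B ⊓ centralizer (X : Set G) ≠ B := fun h => hBX (inf_eq_left.1 h)
    have h8 : P ≤ B ⊓ centralizer (X : Set G) := le_inf hPB (le_centralizer_iff.1 hXP)
    have h9 := card_of_le_sq hBc inf_le_left h7 (fun h => by
      rw [h, le_bot_iff] at h8
      exact ne_bot_of_card hPc h8)
    exact (H22.Basic.eq_of_le_of_card_le h8 (by rw [h9, hPc])).symm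

theorem umax_normalizer (hG : IsMinSimpleOddOrder G) {M X : Subgroup G} {x : ℕ} [hxf : Fact x.Prime] (hXc : Nat.card X = x)
    (h : UMax M (centralizer (X : Set G))) : UMax M (normalizer (X : Set G)) :=
  umax_mono h (centralizer_le_normalizer _) (normalizer_ne_top hG (ne_bot_of_card hXc) (ne_top_of_isPGroup hG (pgroup_of_card hXc)))

/-- BG 13.8 -/
theorem thm138 (hG : IsMinSimpleOddOrder G) {M N P Q R : Subgroup G} {p q r : ℕ} [hpf : Fact p.Prime] [hqf : Fact q.Prime]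
    [hrf : Fact r.Prime] (h : Conf M N P Q R p q r) : False := by
  obtain ⟨-, -, -, -, hKb, -⟩ := h.facts hG
  obtain ⟨-, -, -, -, hKb', -⟩ := h.symm.facts hG
  have hM := h.hM
  have hN := h.hN
  have hPp := pgroup_of_card h.Pc
  have hPb := ne_bot_of_card h.Pc
  obtain ⟨H, hH, hNH⟩ := exists_isCoatom_ge (normalizer_ne_top hG hPb (ne_top_of_isPGroup hG hPp))
  obtain ⟨hnc1, -, -, -⟩ := thm132 hG hM hH (Or.inl h.pM) hPp hPb h.PM hNH
  obtain ⟨hnc2, -, -, -⟩ := thm132 hG hN hH (Or.inl h.pN) hPp hPb h.PN hNH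
  have hHM : M ≠ H := by
    rintro rfl
    exact hnc1 1 (cj_one _).symm
  have hHN : N ≠ H := by
    rintro rfl
    exact hnc2 1 (cj_one _).symm
  have hPH : P ≤ H := le_normalizer.trans hNH
  have hCH : centralizer (P : Set G) ≤ H := (centralizer_le_normalizer _).trans hNH
  have get : ∀ M : Subgroup G, IsCoatom M → p ∈ tau1 M → P ≤ M → (∀ g : G, H ≠ cj g M) →
      alphaCore M ⊓ centralizer (P : Set G) ≠ ⊥ → ∃ (X : Subgroup G) (x : ℕ), x.Prime ∧ Nat.card X = x ∧ x ∈ alpha M ∧ X ≤ H ∧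
        X ≤ centralizer (P : Set G) ∧ x ∉ sigma H ∧ UMax M (normalizer (X : Set G)) := by
    intro M hM hpM hPM hnc hKb
    obtain ⟨z, hz, hz1⟩ := exists_ne_one hKb
    obtain ⟨s, hs, v, hv, hvo, -⟩ := exists_prime_sub hz hz1
    haveI : Fact s.Prime := ⟨hs⟩
    have hvc : Nat.card (zpowers v) = s := by rw [Nat.card_zpowers, hvo]
    have hvα : zpowers v ≤ alphaCore M := by rw [zpowers_le]; exact (mem_inf.1 hv).1
    have hvP : zpowers v ≤ centralizer (P : Set G) := by rw [zpowers_le]; exact (mem_inf.1 hv).2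
    have hsα : s ∈ alpha M := Core.piCoreOf_piNum (alpha M) M s hs (by rw [← hvc]; exact card_dvd_of_le hvα)
    exact ⟨zpowers v, s, hs, hvc, hsα, hvP.trans hCH, hvP, (thm1012a hG hM hH hnc).1 s hsα,
      umax_normalizer hG hvc (thm136' hG hM hpM hPM h.Pc hvc (hvα.trans (alphaCore_le_sigmaCore hG hM)) hvP).1⟩
  obtain ⟨X, x, hx, hXc, hxα, hXH, hXP, hxσ, hUX⟩ := get M hM h.pM h.PM hnc1 hKb
  obtain ⟨Y, y, hy, hYc, hyα, hYH, hYP, hyσ, hUY⟩ := get N hN h.pN h.PN hnc2 hKb'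
  haveI : Fact x.Prime := ⟨hx⟩
  haveI : Fact y.Prime := ⟨hy⟩
  have hCX : centralizer (X : Set G) ≤ M := (centralizer_le_normalizer _).trans hUX.1
  have hCY : centralizer (Y : Set G) ≤ N := (centralizer_le_normalizer _).trans hUY.1
  rcases thm122a hG hH hPp hPb hNH with hpH | hpH
  · have hPσ := le_sigmaCore_of_pgroup hG hH hPp hPH hpH
    have tau : ∀ (M X : Subgroup G) (x : ℕ) [Fact x.Prime], IsCoatom M → M ≠ H → P ≤ M → X ≤ H → Nat.card X = x → x ∉ sigma H →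
        centralizer (X : Set G) ≤ M → x ∈ tau1 H ∨ x ∈ tau3 H := by
      intro M X x hxf hM hne hPM hXH hXc hxσ hCX
      rcases tau_cases hG hH hxf.out (by rw [← hXc]; exact card_dvd_of_le hXH) hxσ with h1 | h1 | h1
      · exact Or.inl h1
      · exfalso
        apply hPb
        rw [eq_bot_iff, ← tau2_inf hG hM hH hne h1 hXH hXc hCX]
        exact le_inf hPσ hPM
      · exact Or.inr h1
    have hxτ := tau M X x hM hHM h.PM hXH hXc hxσ hCX
    have hyτ := tau N Y y hN hHN h.PN hYH hYc hyσ hCY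
    obtain ⟨g, hg, hgl | hgr⟩ := choose_conj hG hH hXH hYH hXc hYc hxτ hyτ
    · have hpC : p ∣ Nat.card ↥(sigmaCore H ⊓ centralizer (X : Set G)) := by
        rw [← h.Pc]; exact card_dvd_of_le (le_inf hPσ (le_centralizer_iff.1 hXP))
      have hWH : cj g Y ≤ H := by
        have := cj_mono (g := g) hYH
        rwa [cj_eq_of_mem hg] at this
      have hWc : Nat.card (cj g Y) = y := by rw [card_cj, hYc]
      obtain ⟨P', h1, h2, h3⟩ := step_norm hG hH h.pM hWH (hgl.trans hUX.1) hgl hWc hyσ (inf_le_right.trans hCX) hpC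
      exact h.not_alpha hG hWc hyα (hgl.trans hUX.1) h1 h2 h3
    · have hpC : p ∣ Nat.card ↥(sigmaCore H ⊓ centralizer (Y : Set G)) := by
        rw [← h.Pc]; exact card_dvd_of_le (le_inf hPσ (le_centralizer_iff.1 hYP))
      have hWH : cj g X ≤ H := by
        have := cj_mono (g := g) hXH
        rwa [cj_eq_of_mem hg] at this
      have hWc : Nat.card (cj g X) = x := by rw [card_cj, hXc]
      obtain ⟨P', h1, h2, h3⟩ := step_norm hG hH h.pN hWH (hgr.trans hUY.1) hgr hWc hxσ (inf_le_right.trans hCY) hpC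
      exact h.symm.not_alpha hG hWc hxα (hgr.trans hUY.1) h1 h2 h3
  · obtain ⟨hxτ, E, B, B₀, hXE, hPE, hE, hBe, hBE, hEB, hBX, hBM⟩ :=
      case2 hG hM hH hpH h.pM.2.2.2.2 h.Pc hPH hXH hXP hXc hxσ hUX.1
    have hyτ := (case2 hG hN hH hpH h.pN.2.2.2.2 h.Pc hPH hYH hYP hYc hyσ hUY.1).1
    have hHs : Group.IsSolvable H := solvable_of_ne_top hG hH.1
    obtain ⟨E₁, hXE₁, hE₁⟩ := Hall.exists_hall_ge (BG1.isSolvable_of_le hE.1 hHs) (prime_pi hx hXc hxτ) hXE
    have hE₁H := Hall.trans (compl_hall hG hH hE) (fun p hp => hp.2.1) hE₁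
    obtain ⟨g, hg, hle⟩ := Hall.hall_dom hHs hE₁H (prime_pi hy hYc hyτ) hYH
    have hc := tau1_cyclic hG hH hE₁H.1 hE₁H.2.1
    have hWc : Nat.card (cj g Y) = y := by rw [card_cj, hYc]
    have hWX : cj g Y ≤ centralizer (X : Set G) := cyclic_le_cent hc hle hXE₁
    have hWM := hWX.trans hCX
    have hWP : cj g Y ≤ normalizer (P : Set G) := by
      rw [← hBX]
      exact H22.Basic.le_normalizer_inf ((hle.trans hE₁.1).trans hEB)
        (H22.Basic.le_normalizer_centralizer (hWX.trans (centralizer_le_normalizer _)))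
    exact h.not_alpha hG hWc hyα hWM h.PM h.Pc (cent_of_tau1 h.pM h.PM h.Pc hWM hWP)

end Cfsg.Agent.H12.BG13
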