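import Mathlib
import Cfsg.Agent.H12_BG13e

/-! BG 13.9 -/

set_option autoImplicit false
set_option linter.unusedSectionVars false
set_option linter.style.haveILetI false

open Pointwise
open scoped commutatorElement

namespace Cfsg.Agent.H12.BG13

open Cfsg Subgroup H13.Syl H12.Loc H12.Trans H12.BG7 H12.Puig H12.BG9 H12.BG10 H12.BG11 H12.BG12

universe u

variable {G : Type u} [Group G] [Finite G]

theorem dvd_of_pgroup {p : ℕ} [hp : Fact p.Prime] {P : Subgroup G} (hP : IsPGroup p P) (hPb : P ≠ ⊥) : p ∣ Nat.card P := by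
  obtain ⟨n, hn⟩ := hP.exists_card_eq
  rcases Nat.eq_zero_or_pos n with rfl | hn0
  · rw [pow_zero] at hn
    exact absurd (Subgroup.card_eq_one.1 hn) hPb
  · rw [hn]; exact dvd_pow_self p hn0.ne'

theorem exists_order_sub {p : ℕ} [hp : Fact p.Prime] {X : Subgroup G} (h : p ∣ Nat.card X) :
    ∃ v ∈ X, orderOf v = p ∧ Nat.card (zpowers v) = p ∧ zpowers v ≤ X := by
  obtain ⟨v, hv⟩ := exists_prime_orderOf_dvd_card' p h
  have hvo : orderOf (v : G) = p := by rw [orderOf_coe]; exact hv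
  exact ⟨v, v.2, hvo, by rw [Nat.card_zpowers, hvo], by rw [zpowers_le]; exact v.2⟩

/-- `M_σ` nilpotent as soon as `τ₂(M)` is nonempty -/
theorem nilp_of_tau2 (hG : IsMinSimpleOddOrder G) {M : Subgroup G} (hM : IsCoatom M) {r : ℕ} (hr : r ∈ tau2 M) :
    Group.IsNilpotent (sigmaCore M) := by
  haveI : Fact r.Prime := ⟨hr.1⟩
  obtain ⟨A, hAM, hA, hAc⟩ := exists_ea_sq_of_not_rank_one hr.2.2.2
  obtain ⟨A₀, h⟩ := exists_exc hG hM hr.2.1 hAM hA hAc
  exact h.thm113 hG

/-- `τ₁(M)` is nonempty if `τ₂(M)` is empty -/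
theorem exists_tau1 (hG : IsMinSimpleOddOrder G) {M : Subgroup G} (hM : IsCoatom M) (h2 : ∀ r, r ∉ tau2 M) : ∃ p, p ∈ tau1 M := by
  by_contra h1
  push Not at h1
  obtain ⟨E, -, hE⟩ := exists_compl_ge (X := ⊥) hG hM bot_le (by rw [Subgroup.card_bot]; exact Core.PiNum.one)
  have hEt : E ≠ ⊤ := fun h => hM.1 (top_le_iff.1 (h ▸ hE.1))
  have hEb : E ≠ ⊥ := by
    rintro rfl
    obtain ⟨q, hq, hqM, hqσ⟩ := exists_not_sigma hG hM
    have h3 := Hall.compl_sup hE
    rw [bot_sup_eq] at h3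
    exact sigmaCore_ne hG hM h3
  apply not_le_commutator hG hEt hEb
  apply le_of_sylow
  intro p hp hd T hT
  haveI : Fact p.Prime := ⟨hp⟩
  have hpσ : p ∉ sigma M := Hall.pi (compl_hall hG hM hE) p hp hd
  rcases tau_cases hG hM hp (hd.trans (card_dvd_of_le hE.1)) hpσ with h | h | h
  · exact absurd h (h1 p)
  · exact absurd h (h2 p)
  · exact tau3_sylow hG hM hE h hT

/-- BG 13.9 -/
theorem thm139 (hG : IsMinSimpleOddOrder G) {M H : Subgroup G} (hM : IsCoatom M) (hH : IsCoatom H) (hne : ∀ g : G, H ≠ cj g M)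
    {q : ℕ} (hqM : q ∈ sigma M) : q ∉ sigma H := by
  intro hqH
  have hq := (sigma_spec hqM).1
  haveI : Fact q.Prime := ⟨hq⟩
  obtain ⟨Q, hQM, hQt, hNQ, hQσ⟩ := sigma_sylow hG hM hqM
  obtain ⟨Q', hQ'H, hQ't, hNQ', hQ'σ⟩ := sigma_sylow hG hH hqH
  obtain ⟨g, -, hg⟩ := hQt.exists_conj_eq hQ't
  -- replace `H` by a conjugate
  have hN : IsCoatom (cj g H) := isCoatom_of_cj hH g
  set N := cj g H with hNdef
  have hneN : ∀ g' : G, N ≠ cj g' M := by
    intro g' he
    apply hne (g⁻¹ * g')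
    rw [cj_mul, ← he, hNdef, cj_inv_cj]
  have hqN : q ∈ sigma N := (sigma_cj g q).2 hqH
  have hNQN : normalizer (Q : Set G) ≤ N := by
    have h1 := cj_mono (g := g) hNQ'
    rwa [cj_normalizer, hg] at h1
  have hQN : Q ≤ N := le_normalizer.trans hNQN
  have hNM : N ≠ M := by
    intro he
    apply hneN 1
    rw [cj_one]; exact he
  have hQb : Q ≠ ⊥ := by
    rintro rfl
    apply hQM.not_dvd
    rw [relIndex_bot_left]
    exact (sigma_spec hqM).2.1
  obtain ⟨hqαM, hnilM⟩ := sigma_common hG hM hN hneN hqM hqN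
  obtain ⟨hqαN, -⟩ := sigma_common hG hN hM (not_conj_symm hneN) hqN hqM
  obtain ⟨p, hp⟩ := exists_tau1 hG hM (fun r hr => hnilM (nilp_of_tau2 hG hM hr))
  haveI : Fact p.Prime := ⟨hp.1⟩
  -- `P ≤ N(Q)` of order `p`
  have hQM' : IsSylIn q Q ⁅M, M⁆ := hQM.mono (hQσ.trans (sigmaCore_le_commutator hG hM)) (commutator_le_self M)
  have hfr := frattini_beta hG hM (fun h => hqαM (beta_subset_alpha M h)) hQM'
  have hpN : p ∣ Nat.card ↥(M ⊓ normalizer (Q : Set G)) := by
    have h1 := relIndex_dvd_of_sup hfr (inf_le_left.trans (Core.le_normalizer_piCoreOf _ _))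
    have h2 := H22.Basic.card_mul_relIndex (inf_le_left : M ⊓ normalizer (Q : Set G) ≤ M)
    have h3 := hp.2.2.1
    rw [← h2] at h3
    rcases hp.1.dvd_mul.1 h3 with h4 | h4
    · exact h4
    · exact absurd (beta_subset_sigma hG hM (Core.piCoreOf_piNum (beta M) M p hp.1 (h4.trans h1))) hp.2.1
  obtain ⟨v, hv, hvo, hvc, hvN⟩ := exists_order_sub hpN
  have hPM : zpowers v ≤ M := hvN.trans inf_le_left
  have hPQ : zpowers v ≤ normalizer (Q : Set G) := hvN.trans inf_le_right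
  have hPN : zpowers v ≤ N := hPQ.trans hNQN
  have hPp := pgroup_of_card hvc
  have hfix : Q ⊓ centralizer ((zpowers v : Subgroup G) : Set G) = ⊥ := by
    by_contra hb
    have h1 : q ∣ Nat.card ↥(Q ⊓ centralizer ((zpowers v : Subgroup G) : Set G)) := dvd_of_pgroup (hQM.isPGroup.to_le inf_le_left) hb
    obtain ⟨w, hw, hwo, hwc, hwQ⟩ := exists_order_sub h1
    have h2 := (thm136' hG hM hp hPM hvc hwc ((hwQ.trans inf_le_left).trans hQσ) (hwQ.trans inf_le_right)).2 Q
      (hQM.mono hQσ (sigmaCore_le M))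
    exact hNM (h2.2 N hN hQN)
  obtain ⟨hβM, hMf⟩ := nonuniq_norm hG hM hN hNM hQt (le_inf hNQN hNQ)
  obtain ⟨hβN, hNf⟩ := nonuniq_norm hG hN hM hNM.symm hQt (le_inf hNQ hNQN)
  have hpN1 : p ∈ tau1 N := by
    have hdj := thm1215d2 (H := M) (M := N) hG hN hM
    rcases thm1215d2 hG hN hM hMf hNf hp with h | h
    · exact h
    · exfalso
      -- `P ≤ N_β` centralizes `Q`
      have hPβ : zpowers v ≤ betaCore N := by
        obtain ⟨l, hl, hle⟩ := Hall.sylow_conj_le (betaCore_eq hG hN).2 h hPp hPN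
        rw [cj_le_iff] at hle
        rwa [cj_eq_of_mem_normalizer (Core.le_normalizer_piCoreOf _ _ (inv_mem hl))] at hle
      have h1 : ⁅Q, zpowers v⁆ = ⊥ := by
        have h2 : ⁅Q, zpowers v⁆ ≤ Q := H1.Coprime.commutator_le_of_le_normalizer hPQ
        have h3 : ⁅Q, zpowers v⁆ ≤ betaCore N := by
          apply (commutator_mono hQN hPβ).trans
          rw [commutator_comm]
          exact H1.Coprime.commutator_le_of_le_normalizer (Core.le_normalizer_piCoreOf _ _)
        have h4 : Q ⊓ betaCore N = ⊥ := by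
          apply H22.Basic.inf_eq_bot_of_coprime
          exact coprime_of_pi (Core.piCoreOf_piNum (beta N) N) hQM.isPGroup (fun h => hqαN (beta_subset_alpha N h))
        rw [eq_bot_iff, ← h4]
        exact le_inf h2 h3
      apply hQb
      rw [eq_bot_iff, ← hfix]
      exact le_inf le_rfl (commutator_eq_bot_iff_le_centralizer.1 h1)
  have hQMN : IsSylIn q Q (M ⊓ N) := hQM.mono (le_inf hQM.le hQN) inf_le_left
  exact thm138 hG (M := M) (N := N) (P := zpowers v) (Q := Q) (R := Q) (p := p) (q := q) (r := q)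
    ⟨hM, hN, hneN, hp, hpN1, hPM, hPN, hvc, hQMN, hPQ, hfix, hNQN, hQb, hQMN, hPQ, hfix, hNQ, hQb⟩

end Cfsg.Agent.H12.BG13
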