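import Mathlib
import Cfsg.Agent.H12_BG13f

/-! BG 13.11 (first part), 13.13 -/

set_option autoImplicit false
set_option linter.unusedSectionVars false
set_option linter.style.haveILetI false

open Pointwise
open scoped commutatorElement

namespace Cfsg.Agent.H12.BG13

open Cfsg Subgroup H13.Syl H12.Loc H12.Trans H12.BG7 H12.Puig H12.BG9 H12.BG10 H12.BG11 H12.BG12

universe u

variable {G : Type u} [Group G] [Finite G]

theorem sylow_central_false {E T : Subgroup G} {p : ℕ} [hp : Fact p.Prime] (hEs : Group.IsSolvable E) (hT : IsSylIn p T E)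
    (hTE : T ≤ ⁅E, E⁆) (hc : E ≤ centralizer (T : Set G)) (hTb : T ≠ ⊥) : False := by
  obtain ⟨F, hF⟩ := Hall.exists_hall hEs {p}ᶜ
  have hTh : IsPiHallOf {p} T E := by
    refine ⟨hT.le, ?_, ?_⟩
    · exact pgroup_pi hT.isPGroup rfl
    · intro q hq hqp hd
      rw [Set.mem_singleton_iff] at hqp
      rw [hqp] at hd
      exact hT.not_dvd hd
  have hTn : E ≤ normalizer (T : Set G) := hc.trans (centralizer_le_normalizer _)
  have hs := Hall.sup_eq hTh hF hTn
  have hTF : T ≤ centralizer (F : Set G) := le_centralizer_iff.1 (hF.1.trans hc)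
  have hEF : E ≤ normalizer (F : Set G) := by
    rw [← hs]
    exact sup_le le_normalizer (hTF.trans (centralizer_le_normalizer _))
  have h1 := comm_le_of_sup hF.1 hEF hs
  have h2 : ⁅T, T⁆ = ⊥ := commutator_eq_bot_iff_le_centralizer.2 (hT.le.trans hc)
  rw [h2, bot_sup_eq] at h1
  apply hTb
  have h3 : T ⊓ F = ⊥ := Hall.inf_eq_bot (π := {p}) (Hall.pi hTh) (Hall.pi hF)
  rw [eq_bot_iff, ← h3]
  exact le_inf le_rfl (hTE.trans h1)

theorem exists_inv_ne {A D : Subgroup G} (hAD : A ≤ normalizer (D : Set G)) (hcop : (Nat.card A).Coprime (Nat.card D))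
    (hs : Group.IsSolvable D) (h : ¬ A ≤ centralizer (D : Set G)) :
    ∃ q : ℕ, q.Prime ∧ ∃ Q : Subgroup G, IsSylIn q Q D ∧ A ≤ normalizer (Q : Set G) ∧ ⁅Q, A⁆ ≠ ⊥ := by
  by_contra hall
  push Not at hall
  apply h
  have h1 : D ≤ D ⊓ centralizer (A : Set G) := by
    apply le_of_sylow_each inf_le_left
    intro q hq hd
    haveI : Fact q.Prime := ⟨hq⟩
    obtain ⟨Q₀, hQn⟩ := H1.Coprime.invariant_sylow_exists A D hAD hcop (Or.inr hs) q
    have hQ := isSylIn_map_subtype Q₀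
    exact ⟨_, hQ, le_inf hQ.le (commutator_eq_bot_iff_le_centralizer.1 (hall q hq _ hQ hQn))⟩
  exact le_centralizer_iff.1 (h1.trans inf_le_right)

theorem hall_inf {π : Set ℕ} {N L K : Subgroup G} (h : IsPiHallOf π N L) (hn : L ≤ normalizer (N : Set G)) (hK : K ≤ L) :
    IsPiHallOf π (N ⊓ K) K := by
  apply Hall.mk' inf_le_right (Hall.pi_mono (Hall.pi h) inf_le_left)
  apply (Hall.index h).dvd
  have hnm : (N.subgroupOf L).Normal := Core.normal_subgroupOf_of_le hn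
  have h1 : (N.subgroupOf L).relIndex (K.subgroupOf L) ∣ (N.subgroupOf L).index := Subgroup.relIndex_dvd_index_of_normal _ _
  rw [relIndex_subgroupOf hK] at h1
  rw [inf_relIndex_right]
  exact h1

/-- coprime action on a cyclic `q`-group -/
theorem cyc_fix {Q A : Subgroup G} {q : ℕ} [hq : Fact q.Prime] (hQ : IsPGroup q Q) (hc : IsCyclic Q) (hAQ : A ≤ normalizer (Q : Set G))
    (hcop : (Nat.card A).Coprime (Nat.card Q)) (hne : ⁅Q, A⁆ ≠ ⊥) : Q ⊓ centralizer (A : Set G) = ⊥ := by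
  by_contra hb
  have hQQ : ⁅Q, A⁆ ≤ Q := H1.Coprime.commutator_le_of_le_normalizer hAQ
  obtain ⟨w, hw, hwo, hwc, hwQ⟩ := exists_order_sub (dvd_of_pgroup (hQ.to_le inf_le_left) hb)
  obtain ⟨w', hw', hwo', hwc', hwQ'⟩ := exists_order_sub (dvd_of_pgroup (hQ.to_le hQQ) hne)
  haveI : IsMulCommutative Q := by
    have := hc
    exact ⟨⟨fun a b => by
      have := cyclic_le_cent hc (le_refl Q) (le_refl Q) a.2
      exact Subtype.ext (mem_centralizer_iff.1 this b b.2).symm⟩⟩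
  have h1 := H1.Coprime.inf_commutator_eq_bot_of_abelian A Q hAQ hcop
  have h2 : zpowers w = zpowers w' := Core.cyclic_eq_of_card_eq' hc (hwQ.trans inf_le_left) (hwQ'.trans hQQ) (by rw [hwc, hwc'])
  apply ne_bot_of_card hwc
  rw [eq_bot_iff, ← h1]
  exact le_inf hwQ (by rw [h2]; exact hwQ')

/-- BG 13.11, first part -/
theorem thm1311i (hG : IsMinSimpleOddOrder G) {M E E₃ : Subgroup G} (hM : IsCoatom M) (hE : IsComplIn E (sigmaCore M) M)
    (hE₃ : IsPiHallOf (tau3 M) E₃ E) (hb : E₃ ≠ ⊥) (hY : sigmaCore M ⊓ centralizer (E₃ : Set G) ≠ ⊥) :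
    (∀ r, r ∉ tau2 M) ∧ E ≤ centralizer ((sigmaCore M ⊓ centralizer (E₃ : Set G) : Subgroup G) : Set G) := by
  obtain ⟨hcyc, hE₃', hEn⟩ := tau3_cyclic hG hM hE hE₃
  have hEM := hE.1
  have hE₃E := hE₃.1
  have hEh := compl_hall hG hM hE
  have hMs : Group.IsSolvable M := solvable_of_ne_top hG hM.1
  have hEs : Group.IsSolvable E := BG1.isSolvable_of_le hEM hMs
  -- `P₃`
  obtain ⟨z, hz, hz1⟩ := exists_ne_one hb
  obtain ⟨s, hs, v, hv, hvo, -⟩ := exists_prime_sub hz hz1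
  haveI : Fact s.Prime := ⟨hs⟩
  have hvc : Nat.card (zpowers v) = s := by rw [Nat.card_zpowers, hvo]
  have hPE₃ : zpowers v ≤ E₃ := by rwa [zpowers_le]
  have hPp := pgroup_of_card hvc
  have hPb := ne_bot_of_card hvc
  have hsτ : s ∈ tau3 M := hE₃.2.1 s hs (by rw [← hvc]; exact card_dvd_of_le hPE₃)
  have hEP : E ≤ normalizer ((zpowers v : Subgroup G) : Set G) := normal_of_cyclic hcyc hPE₃ hEn
  obtain ⟨H, hH, hNH⟩ := exists_isCoatom_ge (normalizer_ne_top hG hPb (ne_top_of_isPGroup hG hPp))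
  have hEH := hEP.trans hNH
  have hPM := hPE₃.trans (hE₃E.trans hEM)
  obtain ⟨hnc, ha, hbb, hcc⟩ := thm132 hG hM hH (Or.inr hsτ) hPp hPb hPM hNH
  have hMH : M ≠ H := by
    rintro rfl
    exact hnc 1 (cj_one _).symm
  set Y := sigmaCore M ⊓ centralizer (E₃ : Set G) with hYdef
  have hYH : Y ≤ H := (inf_le_right.trans (centralizer_le hPE₃)).trans ((centralizer_le_normalizer _).trans hNH)
  have hPMH : zpowers v ≤ M ⊓ H := le_inf hPM (le_normalizer.trans hNH)
  have hMσH : sigmaCore M ⊓ H = Y := by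
    apply le_antisymm
    · refine le_inf inf_le_left ?_
      have h1 := ha (zpowers v) hPp hPMH
      refine le_trans (le_inf inf_le_left ?_) (thm133b hG hM hE hE₃ hv (ne_one_of_order hs hvo))
      rw [← centralizer_zpowers]
      exact le_centralizer_iff.1 h1
    · exact le_inf inf_le_left hYH
  have hτ2 : ∀ r, r ∉ tau2 M := by
    intro r hr
    haveI : Fact r.Prime := ⟨hr.1⟩
    obtain ⟨A, hAE, hA, hAc⟩ := exists_ea_compl hG hM hE hr
    obtain ⟨A₀, h⟩ := exists_exc hG hM hr.2.1 (hAE.trans hEM) hA hAc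
    apply hY
    rw [← hMσH]
    exact thm125e hG h hH hMH.symm (hAE.trans hEH)
  refine ⟨hτ2, ?_⟩
  by_contra hnot
  obtain ⟨E₁, hE₁⟩ := Hall.exists_hall hEs (tau1 M)
  have hE₁E := hE₁.1
  have hE₁M := hE₁E.trans hEM
  have hEE : E ≤ E₁ ⊔ E₃ := by
    apply le_of_sylow_each (sup_le hE₁E hE₃E)
    intro t ht hd
    haveI : Fact t.Prime := ⟨ht⟩
    have htσ : t ∉ sigma M := Hall.pi hEh t ht hd
    rcases tau_cases hG hM ht (hd.trans (card_dvd_of_le hEM)) htσ with h | h | h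
    · obtain ⟨T, hT⟩ := exists_isSylIn (p := t) E₁
      exact ⟨T, Hall.sylow_trans hE₁ h hT, hT.le.trans le_sup_left⟩
    · exact absurd h (hτ2 t)
    · obtain ⟨T, hT⟩ := exists_isSylIn (p := t) E₃
      exact ⟨T, Hall.sylow_trans hE₃ h hT, hT.le.trans le_sup_right⟩
  have hE₁Y : ¬ E₁ ≤ centralizer (Y : Set G) := by
    intro h
    exact hnot (hEE.trans (sup_le h (le_centralizer_iff.1 inf_le_right)))
  have hprime : ∀ w ∈ E₁, w ≠ 1 → ¬ zpowers w ≤ centralizer (Y : Set G) := by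
    intro w hw hw1 hle
    apply hE₁Y
    have h1 := thm135 hG hM hE₁M hE₁.2.1 hw hw1
    rw [le_centralizer_iff]
    refine le_trans (le_inf inf_le_left ?_) h1
    rw [← centralizer_zpowers]
    exact le_centralizer_iff.1 hle
  have hE₁b : E₁ ≠ ⊥ := by
    rintro rfl
    exact hE₁Y bot_le
  obtain ⟨z₁, hz₁, hz₁1⟩ := exists_ne_one hE₁b
  obtain ⟨p, hp, u, hu, huo, -⟩ := exists_prime_sub hz₁ hz₁1
  haveI : Fact p.Prime := ⟨hp⟩
  have huc : Nat.card (zpowers u) = p := by rw [Nat.card_zpowers, huo]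
  have huE₁ : zpowers u ≤ E₁ := by rwa [zpowers_le]
  have huE := huE₁.trans hE₁E
  have huM := huE.trans hEM
  have huH := huE.trans hEH
  have hpτ : p ∈ tau1 M := hE₁.2.1 p hp (by rw [← huc]; exact card_dvd_of_le huE₁)
  have huY := hprime u hu (ne_one_of_order hp huo)
  have hcomm : ⁅sigmaCore M ⊓ H, M ⊓ H⁆ ≠ ⊥ := by
    intro h
    apply hnot
    rw [commutator_comm, commutator_eq_bot_iff_le_centralizer, hMσH] at h
    exact (le_inf hEM hEH).trans h
  have hsH := (hcc hcomm).1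
  have hPσ := le_sigmaCore_of_pgroup hG hH hPp (hPMH.trans inf_le_right) hsH
  have hτ1H : ∀ t : ℕ, t.Prime → t ∣ Nat.card E₁ → t ∈ tau1 H := by
    intro t ht hd
    haveI : Fact t.Prime := ⟨ht⟩
    by_contra htH
    obtain ⟨w, hw, hwo, hwc, hwE⟩ := exists_order_sub hd
    apply hprime w hw (ne_one_of_order ht hwo)
    rw [← hMσH]
    apply hbb (zpowers w) (le_inf (hwE.trans hE₁M) ((hwE.trans hE₁E).trans hEH))
    intro r hr hrd
    rw [hwc] at hrd
    rw [(Nat.prime_dvd_prime_iff_eq hr ht).1 hrd]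
    exact ⟨(hE₁.2.1 t ht hd).2.1, htH⟩
  have hpH := hτ1H p hp (by rw [← huc]; exact card_dvd_of_le huE₁)
  have hσn := hEM.trans (le_normalizer_sigmaCore M)
  have hEY : E ≤ normalizer (Y : Set G) := H22.Basic.le_normalizer_inf hσn (H22.Basic.le_normalizer_centralizer hEn)
  have hYpi : Core.PiNum (sigma M) (Nat.card Y) := Hall.pi_mono (sigmaCore_pi M) inf_le_left
  have hYs : Group.IsSolvable Y := BG1.isSolvable_of_le inf_le_left (isSolvable_sigmaCore hG hM)
  obtain ⟨y, hy, Q₀, hQ₀, hQn, hQne⟩ := exists_inv_ne (huE.trans hEY) (coprime_of_pi hYpi (pgroup_of_card huc) hpτ.2.1) hYs huY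
  haveI : Fact y.Prime := ⟨hy⟩
  have hQb : Q₀ ≠ ⊥ := by
    rintro rfl
    exact hQne (commutator_bot_left _)
  have hyQ := dvd_of_pgroup hQ₀.isPGroup hQb
  have hyσ : y ∈ sigma M := hYpi y hy (hyQ.trans (card_dvd_of_le hQ₀.le))
  have hQMσ : Q₀ ≤ sigmaCore M := hQ₀.le.trans inf_le_left
  have hQM := hQMσ.trans (sigmaCore_le M)
  have hQH := hQ₀.le.trans hYH
  have hQMH : IsSylIn y Q₀ (M ⊓ H) := by
    have h1 := hall_inf (sigmaCore_hallOf hG hM) (le_normalizer_sigmaCore M) (inf_le_left : M ⊓ H ≤ M)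
    have h2 : sigmaCore M ⊓ (M ⊓ H) = Y := by
      rw [← inf_assoc, inf_eq_left.2 (sigmaCore_le M), hMσH]
    rw [h2] at h1
    exact Hall.sylow_trans h1 hyσ hQ₀
  have hNQ : normalizer (Q₀ : Set G) ≤ M := by
    by_cases hyβ : y ∈ beta M
    · obtain ⟨w, hw, hwo, hwc, hwQ⟩ := exists_order_sub hyQ
      have h1 := (thm1214 hG hM hyσ (hwQ.trans hQM) hwc (Or.inl hyβ)).1.1
      have h2 := (thm101 hG hM hyσ hQ₀.isPGroup hQb hQM).2
      rw [h2]
      exact sup_le inf_le_left ((centralizer_le hwQ).trans h1)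
    · obtain ⟨H₀, hH₀, hEH₀⟩ := thm1219 hG hM hE
      have hH₀Y : H₀ ≤ Y := le_inf hH₀.1 (le_centralizer_iff.1 (hE₃'.trans hEH₀))
      obtain ⟨T, hT⟩ := exists_isSylIn (p := y) H₀
      have hTσ := Hall.sylow_trans hH₀ hyβ hT
      have hTY := hTσ.mono (hT.le.trans hH₀Y) inf_le_left
      have hQσ : IsSylIn y Q₀ (sigmaCore M) := isSylIn_of_card_le hTσ hQMσ hQ₀.isPGroup (hTY.card_eq hQ₀).le
      exact (sigma_sylow_top hyσ (Hall.sylow_trans (sigmaCore_hallOf hG hM) hyσ hQσ)).2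
  have hQHs : IsSylIn y Q₀ H := grow hQMH hNQ
  have hyH : y ∉ sigma H := thm139 hG hM hH hnc hyσ
  have hQr : PRankLE y 1 Q₀ := by
    by_contra hr
    obtain ⟨A, hAQ, hA, hAc⟩ := exists_ea_sq_of_not_rank_one hr
    obtain ⟨A₀, hAe⟩ := exists_exc hG hH hyH (hAQ.trans hQH) hA hAc
    apply hPb
    rw [eq_bot_iff, ← thm125e hG hAe hM hMH (hAQ.trans hQM)]
    exact le_inf hPσ hPM
  have hQc := cyclic_sylow hG hQ₀.isPGroup hQr
  have hcopQ : (Nat.card (zpowers u)).Coprime (Nat.card Q₀) :=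
    coprime_of_pi (Hall.pi_mono hYpi hQ₀.le) (pgroup_of_card huc) hpτ.2.1
  have hQf := cyc_fix hQ₀.isPGroup hQc hQn hcopQ hQne
  -- `T₃`
  obtain ⟨T, hPT, hT⟩ := exists_isSylIn_ge (p := s) (H := E₃) hPp hPE₃
  have hTE := Hall.sylow_trans hE₃ hsτ hT
  have hTM := Hall.sylow_trans hEh hsτ.2.1 hTE
  have hTMH : IsSylIn s T (M ⊓ H) := hTM.mono (le_inf hTM.le (hTE.le.trans hEH)) inf_le_left
  have hTc := cyclic_sylow hG hT.isPGroup (SCN.pRankLE_mono hTM.le hsτ.2.2.2)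
  have hET : E ≤ normalizer (T : Set G) := normal_of_cyclic hcyc hT.le hEn
  have hTb : T ≠ ⊥ := by
    rintro rfl
    exact hPb (le_bot_iff.1 hPT)
  have hNT : normalizer (T : Set G) ≤ H := (normal_of_cyclic hTc hPT le_rfl).trans hNH
  have hps : p ≠ s := by
    rintro rfl
    exact hpτ.2.2.2.1 hsτ.2.2.1
  have hTf : T ⊓ centralizer ((zpowers u : Subgroup G) : Set G) = ⊥ := by
    by_contra hTf
    have hcopT : (Nat.card (zpowers u)).Coprime (Nat.card T) :=
      coprime_of_pi (π := {s}) (pgroup_pi hT.isPGroup rfl) (pgroup_of_card huc) (by rw [Set.mem_singleton_iff]; exact hps)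
    have h1 : ⁅T, zpowers u⁆ = ⊥ := by
      by_contra h
      exact hTf (cyc_fix hT.isPGroup hTc (huE.trans hET) hcopT h)
    have h2 : T ≤ centralizer ((zpowers u : Subgroup G) : Set G) := commutator_eq_bot_iff_le_centralizer.1 h1
    have h3 : zpowers v ≤ centralizer (E₁ : Set G) := by
      refine le_trans (le_inf hPσ ?_) (thm135 hG hH (hE₁E.trans hEH) hτ1H hu (ne_one_of_order hp huo))
      rw [← centralizer_zpowers]
      exact hPT.trans h2
    have hcopT₁ : (Nat.card E₁).Coprime (Nat.card T) := by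
      apply coprime_of_forall
      intro q hq hq1 hq2
      have h4 := pgroup_pi (π := {s}) hT.isPGroup rfl q hq hq2
      rw [Set.mem_singleton_iff] at h4
      rw [h4] at hq1
      exact (hE₁.2.1 s hs hq1).2.2.2.1 hsτ.2.2.1
    have h5 : ⁅T, E₁⁆ = ⊥ := by
      by_contra h
      have h6 := cyc_fix hT.isPGroup hTc (hE₁E.trans hET) hcopT₁ h
      apply hPb
      rw [eq_bot_iff, ← h6]
      exact le_inf hPT h3
    have h7 : E ≤ centralizer (T : Set G) := by
      refine hEE.trans (sup_le ?_ (cyclic_le_cent hcyc le_rfl hT.le))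
      rw [← commutator_eq_bot_iff_le_centralizer, commutator_comm]
      exact h5
    exact sylow_central_false hEs hTE (hT.le.trans hE₃') h7 hTb
  exact thm138 hG (M := M) (N := H) (P := zpowers u) (Q := T) (R := Q₀) (p := p) (q := s) (r := y)
    ⟨hM, hH, hnc, hpτ, hpH, huM, huH, huc, hTMH, huE.trans hET, hTf, hNT, hTb, hQMH, hQn, hQf, hNQ, hQb⟩

/-- 13.6 for `τ₁ ∪ τ₃` -/
theorem uniq13 (hG : IsMinSimpleOddOrder G) {M P X : Subgroup G} (hM : IsCoatom M) {p x : ℕ} [hpf : Fact p.Prime] [hxf : Fact x.Prime]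
    (hp : p ∈ tau1 M ∨ p ∈ tau3 M) (hPM : P ≤ M) (hPc : Nat.card P = p) (hXc : Nat.card X = x)
    (hX : X ≤ sigmaCore M) (hXP : X ≤ centralizer (P : Set G)) :
    UMax M (centralizer (X : Set G)) ∧ ∀ S : Subgroup G, IsSylIn x S (sigmaCore M) → UMax M S := by
  rcases hp with hp | hp
  · exact thm136' hG hM hp hPM hPc hXc hX hXP
  · obtain ⟨E, hPE, hE⟩ := exists_compl_ge hG hM hPM (prime_pi hpf.out hPc hp.2.1)
    obtain ⟨E₃, hPE₃, hE₃⟩ := Hall.exists_hall_ge (BG1.isSolvable_of_le hE.1 (solvable_of_ne_top hG hM.1)) (prime_pi hpf.out hPc hp) hPE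
    obtain ⟨v, hv, -, hv1⟩ := exists_gen hPc
    have hvP : v ∈ P := by rw [← hv]; exact mem_zpowers v
    have h1 : X ≤ sigmaCore M ⊓ centralizer (E₃ : Set G) := by
      refine le_inf hX (le_trans (le_inf hX ?_) (thm133b hG hM hE hE₃ (hPE₃ hvP) hv1))
      rw [← centralizer_zpowers, hv]
      exact hXP
    have hE₃b : E₃ ≠ ⊥ := by
      rintro rfl
      exact ne_bot_of_card hPc (le_bot_iff.1 hPE₃)
    obtain ⟨h2, h3⟩ := thm1311i hG hM hE hE₃ hE₃b (fun h => by
      rw [h, le_bot_iff] at h1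
      exact ne_bot_of_card hXc h1)
    obtain ⟨t, ht⟩ := exists_tau1 hG hM h2
    haveI : Fact t.Prime := ⟨ht.1⟩
    have htE : t ∣ Nat.card E := by
      rw [Hall.dvd_iff ht.1 (compl_hall hG hM hE) ht.2.1]
      exact ht.2.2.1
    obtain ⟨w, hw, hwo, hwc, hwE⟩ := exists_order_sub htE
    exact thm136' hG hM ht (hwE.trans hE.1) hwc hXc hX (h1.trans (le_centralizer_iff.1 (hwE.trans h3)))

end Cfsg.Agent.H12.BG13
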