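import Mathlib
import Cfsg.Agent.H12_BG13g

/-! BG 13.13, 13.11, 13.12 -/

set_option autoImplicit false
set_option linter.unusedSectionVars false
set_option linter.style.haveILetI false

open Pointwise
open scoped commutatorElement

namespace Cfsg.Agent.H12.BG13

open Cfsg Subgroup H13.Syl H12.Loc H12.Trans H12.BG7 H12.Puig H12.BG9 H12.BG10 H12.BG11 H12.BG12

universe u

variable {G : Type u} [Group G] [Finite G]

/-- `N(A)` normalizes `C_A(X)` when `N(A)' ≤ C(A)` -/
theorem normalizer_le_inf_cent {A X : Subgroup G} (hXA : X ≤ normalizer (A : Set G))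
    (hcent : ⁅normalizer (A : Set G), normalizer (A : Set G)⁆ ≤ centralizer (A : Set G)) :
    normalizer (A : Set G) ≤ normalizer ((A ⊓ centralizer (X : Set G) : Subgroup G) : Set G) := by
  intro n hn
  apply H22.Basic.mem_normalizer_of_cj_le
  show cj n _ ≤ _
  rw [cj_le_iff_forall]
  intro a ha
  obtain ⟨haA, haP⟩ := mem_inf.1 ha
  refine mem_inf.2 ⟨(mem_normalizer_iff.1 hn a).1 haA, ?_⟩
  rw [mem_centralizer_iff]
  intro x hx
  have hxN : x ∈ normalizer (A : Set G) := hXA hx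
  have hc : x⁻¹ * n⁻¹ * x * n ∈ centralizer (A : Set G) := by
    apply hcent
    have h7 := commutator_mem_commutator (inv_mem hxN) (inv_mem hn)
    rw [commutatorElement_def, inv_inv, inv_inv] at h7
    exact h7
  have e1 : (x⁻¹ * n⁻¹ * x * n) * a = a * (x⁻¹ * n⁻¹ * x * n) := (mem_centralizer_iff.1 hc a haA).symm
  have e2 : x * a = a * x := mem_centralizer_iff.1 haP x hx
  have e3 : x * n = n * x * (x⁻¹ * n⁻¹ * x * n) := by group
  calc x * (n * a * n⁻¹) = (x * n) * a * n⁻¹ := by group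
    _ = n * x * ((x⁻¹ * n⁻¹ * x * n) * a) * n⁻¹ := by rw [e3]; group
    _ = n * (x * a) * (x⁻¹ * n⁻¹ * x * n) * n⁻¹ := by rw [e1]; group
    _ = n * a * n⁻¹ * x := by rw [e2]; group

/-- BG 13.13 -/
theorem thm1313 (hG : IsMinSimpleOddOrder G) {M P H : Subgroup G} (hM : IsCoatom M) (hH : IsCoatom H) {p : ℕ} [hpf : Fact p.Prime]
    (hp : p ∈ tau1 M ∨ p ∈ tau3 M) (hPM : P ≤ M) (hPc : Nat.card P = p)
    (hC : sigmaCore M ⊓ centralizer (P : Set G) ≠ ⊥) (hN : normalizer (P : Set G) ≤ H) : p ∈ sigma H := by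
  have hPp := pgroup_of_card hPc
  have hPb := ne_bot_of_card hPc
  have hPH : P ≤ H := le_normalizer.trans hN
  have hCH : centralizer (P : Set G) ≤ H := (centralizer_le_normalizer _).trans hN
  rcases thm122a hG hH hPp hPb hN with h | hτ
  · exact h
  exfalso
  have hpσ : p ∉ sigma M := by
    rcases hp with h | h
    · exact h.2.1
    · exact h.2.1
  have hr1 : PRankLE p 1 M := by
    rcases hp with h | h
    · exact h.2.2.2.2
    · exact h.2.2.2
  obtain ⟨hnc, -, -, -⟩ := thm132 hG hM hH hp hPp hPb hPM hN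
  obtain ⟨z, hz, hz1⟩ := exists_ne_one hC
  obtain ⟨x, hx, v, hv, hvo, -⟩ := exists_prime_sub hz hz1
  haveI : Fact x.Prime := ⟨hx⟩
  have hXc : Nat.card (zpowers v) = x := by rw [Nat.card_zpowers, hvo]
  have hXle : zpowers v ≤ sigmaCore M ⊓ centralizer (P : Set G) := by rwa [zpowers_le]
  have hXσ := hXle.trans inf_le_left
  have hXP := hXle.trans inf_le_right
  have hxM : x ∈ sigma M := sigmaCore_pi M x hx (by rw [← hXc]; exact card_dvd_of_le hXσ)
  have hxH : x ∉ sigma H := thm139 hG hM hH hnc hxM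
  have hU := (uniq13 hG hM hp hPM hPc hXc hXσ hXP).1
  have hUN := umax_normalizer hG hXc hU
  obtain ⟨hxτ, E, B, B₀, hXE, hPE, hE, hBe, hBE, hEB, hBX, hBM⟩ :=
    case2 hG hM hH hτ hr1 hPc hPH (hXP.trans hCH) hXP hXc hxH hUN.1
  obtain ⟨-, -, hNB⟩ := thm126b hG hBe hE hBE
  have hBp := hBe.e2.isPGroup
  obtain ⟨S, hBS, hS⟩ := exists_isSylIn_ge (p := p) (H := (⊤ : Subgroup G)) hBp le_top
  by_cases hab : ∃ S : Subgroup G, IsSylIn p S ⊤ ∧ IsMulCommutative S
  · obtain ⟨S', hS', hS'ab⟩ := hab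
    have hSab := comm_of_sylow hS' hS hS'ab
    obtain ⟨h1, h2, h3, h4, h5, h6⟩ := thm128c hG hBe hE hBE hS hBS hSab
    have hcent : ⁅normalizer (B : Set G), normalizer (B : Set G)⁆ ≤ centralizer (B : Set G) := by
      rw [h6]
      exact (h2.trans h3).trans (centralizer_le hBS)
    have h7 := normalizer_le_inf_cent (hXE.trans hEB) hcent
    rw [hBX] at h7
    exact hNB (h7.trans hN)
  · have hnab : ∀ S : Subgroup G, IsSylIn p S ⊤ → ¬ IsMulCommutative S := fun S hS hc => hab ⟨S, hS, hc⟩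
    have hZN := normalizer_le_OZ p S
    obtain ⟨hOc, hOB, -, -⟩ := thm1013 hG hS.isPGroup hBe.e2 hBS (hnab S hS)
    have hZ := ne_bot_of_card hOc
    obtain ⟨L, hL, hNL⟩ := exists_isCoatom_ge (normalizer_ne_top hG hZ (ne_top_of_isPGroup hG (pgroup_of_card hOc)))
    have hSN : normalizer (S : Set G) ≤ L := hZN.trans hNL
    have hSL : S ≤ L := le_normalizer.trans hSN
    have hBL : normalizer (B : Set G) ≤ L := (thm107e hG hS hBp (OZ_le p S) hOB hZN).trans hNL
    have hPB : P ≤ B := by rw [← hBX]; exact inf_le_left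
    have hPL : P ≤ L := (hPB.trans hBS).trans hSL
    have hpL : p ∣ Nat.card L := by
      rw [← hPc]; exact card_dvd_of_le hPL
    have hpσL : p ∈ sigma L := sigma_of_normalizer hpf.out hpL (hS.mono hSL le_top) hSN
    have hncM : ∀ g : G, L ≠ cj g M := by
      intro g he
      rw [he, sigma_cj] at hpσL
      exact hpσ hpσL
    have hLH : L ≠ H := by
      rintro rfl
      exact hτ.2.1 hpσL
    have hML : M ≠ L := by
      rintro rfl
      exact hpσ hpσL
    have hxL : x ∉ sigma L := thm139 hG hM hL hncM hxM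
    have hXL : zpowers v ≤ L := (hXE.trans hEB).trans hBL
    have hPσ := le_sigmaCore_of_pgroup hG hL hPp hPL hpσL
    rcases tau_cases hG hL hx (by rw [← hXc]; exact card_dvd_of_le hXL) hxL with h | h | h
    · have h1 := (uniq13 hG hL (Or.inl h) hXL hXc hPc hPσ (le_centralizer_iff.1 hXP)).1
      exact hLH (h1.2 H hH hCH).symm
    · apply hPb
      rw [eq_bot_iff, ← tau2_inf hG hM hL hML h hXL hXc hU.1]
      exact le_inf hPσ hPM
    · have h1 := (uniq13 hG hL (Or.inr h) hXL hXc hPc hPσ (le_centralizer_iff.1 hXP)).1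
      exact hLH (h1.2 H hH hCH).symm

/-- subgroups of prime order of `τ₁ ∪ τ₃` do not centralize `M_σ` -/
theorem not_cent_sigma (hG : IsMinSimpleOddOrder G) {M P : Subgroup G} (hM : IsCoatom M) {p : ℕ} [hpf : Fact p.Prime]
    (hp : p ∈ tau3 M) (hPM : P ≤ M) (hPc : Nat.card P = p) : ¬ P ≤ centralizer (sigmaCore M : Set G) := by
  intro hPC
  obtain ⟨E, hPE, hE⟩ := exists_compl_ge hG hM hPM (prime_pi hpf.out hPc hp.2.1)
  obtain ⟨E₃, hPE₃, hE₃⟩ := Hall.exists_hall_ge (BG1.isSolvable_of_le hE.1 (solvable_of_ne_top hG hM.1)) (prime_pi hpf.out hPc hp) hPE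
  obtain ⟨h1, -, h3⟩ := tau3_cyclic hG hM hE hE₃
  have hEP := normal_of_cyclic h1 hPE₃ h3
  have hMP : M ≤ normalizer (P : Set G) := by
    rw [← Hall.compl_sup hE]
    exact sup_le hEP ((le_centralizer_iff.1 hPC).trans (centralizer_le_normalizer _))
  have hPp := pgroup_of_card hPc
  have hPb := ne_bot_of_card hPc
  have hN : normalizer (P : Set G) = M := by
    rcases hM.le_iff.1 hMP with h | h
    · exact absurd h (normalizer_ne_top hG hPb (ne_top_of_isPGroup hG hPp))
    · exact h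
  rcases thm122a hG hM hPp hPb hN.le with h | h
  · exact hp.2.1 h
  · exact h.2.2.2 hp.2.2.2

/-- BG 13.11, second part -/
theorem thm1311ii (hG : IsMinSimpleOddOrder G) {M E E₃ P₁ : Subgroup G} (hM : IsCoatom M) (hE : IsComplIn E (sigmaCore M) M)
    (hE₃ : IsPiHallOf (tau3 M) E₃ E) (hb : E₃ ≠ ⊥) (hY : sigmaCore M ⊓ centralizer (E₃ : Set G) ≠ ⊥)
    {p : ℕ} [hpf : Fact p.Prime] (hp : p ∈ tau1 M) (hPE : P₁ ≤ E) (hPc : Nat.card P₁ = p) :
    P₁ ≤ centralizer (E₃ : Set G) ∧ sigmaCore M ⊓ centralizer (P₁ : Set G) = sigmaCore M ⊓ centralizer (E₃ : Set G) := by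
  obtain ⟨hcyc, hE₃', hEn⟩ := tau3_cyclic hG hM hE hE₃
  obtain ⟨hτ2, hEY⟩ := thm1311i hG hM hE hE₃ hb hY
  set Y := sigmaCore M ⊓ centralizer (E₃ : Set G) with hYdef
  have hEM := hE.1
  have hE₃E := hE₃.1
  have hPp := pgroup_of_card hPc
  have hPb := ne_bot_of_card hPc
  have hPM := hPE.trans hEM
  -- `P₁` centralizes each subgroup of prime order of `E₃`
  have key : ∀ v ∈ E₃, (orderOf v).Prime → P₁ ≤ centralizer ((zpowers v : Subgroup G) : Set G) := by
    intro v hv hs
    haveI : Fact (orderOf v).Prime := ⟨hs⟩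
    have hvc : Nat.card (zpowers v) = orderOf v := Nat.card_zpowers v
    have hVE₃ : zpowers v ≤ E₃ := by rwa [zpowers_le]
    have hVE := hVE₃.trans hE₃E
    have hVM := hVE.trans hEM
    have hVp := pgroup_of_card hvc
    have hVb := ne_bot_of_card hvc
    have hsτ : orderOf v ∈ tau3 M := hE₃.2.1 _ hs (by rw [← hvc]; exact card_dvd_of_le hVE₃)
    by_contra hnc
    have hEV : E ≤ normalizer ((zpowers v : Subgroup G) : Set G) := normal_of_cyclic hcyc hVE₃ hEn
    have hPV := hPE.trans hEV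
    obtain ⟨H, hH, hNH⟩ := exists_isCoatom_ge (normalizer_ne_top hG hVb (ne_top_of_isPGroup hG hVp))
    have hEH := hEV.trans hNH
    obtain ⟨hncj, -, -, -⟩ := thm132 hG hM hH (Or.inr hsτ) hVp hVb hVM hNH
    have hMH : M ≠ H := by
      rintro rfl
      exact hncj 1 (cj_one _).symm
    have hCV : sigmaCore M ⊓ centralizer ((zpowers v : Subgroup G) : Set G) ≠ ⊥ := by
      intro h
      apply hY
      rw [eq_bot_iff, ← h]
      exact inf_le_inf_left _ (centralizer_le hVE₃)
    have hsH := thm1313 hG hM hH (Or.inr hsτ) hVM hvc hCV hNH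
    have hVσ := le_sigmaCore_of_pgroup hG hH hVp (hVE.trans hEH) hsH
    -- `X ≤ Y`
    obtain ⟨z, hz, hz1⟩ := exists_ne_one hY
    obtain ⟨x, hx, w, hw, hwo, -⟩ := exists_prime_sub hz hz1
    haveI : Fact x.Prime := ⟨hx⟩
    have hXc : Nat.card (zpowers w) = x := by rw [Nat.card_zpowers, hwo]
    have hXY : zpowers w ≤ Y := by rwa [zpowers_le]
    have hXσ := hXY.trans inf_le_left
    have hXE : zpowers w ≤ centralizer (E : Set G) := hXY.trans (le_centralizer_iff.1 hEY)
    have hxM : x ∈ sigma M := sigmaCore_pi M x hx (by rw [← hXc]; exact card_dvd_of_le hXσ)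
    have hxH : x ∉ sigma H := thm139 hG hM hH hncj hxM
    have hU := (uniq13 hG hM (Or.inl hp) hPM hPc hXc hXσ (hXE.trans (centralizer_le hPE))).1
    have hXH : zpowers w ≤ H := (hXE.trans (centralizer_le hVE)).trans ((centralizer_le_normalizer _).trans hNH)
    have hXV : zpowers w ≤ centralizer ((zpowers v : Subgroup G) : Set G) := hXE.trans (centralizer_le hVE)
    have hxτ : x ∈ tau1 H ∨ x ∈ tau3 H := by
      rcases tau_cases hG hH hx (by rw [← hXc]; exact card_dvd_of_le hXH) hxH with h | h | h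
      · exact Or.inl h
      · exfalso
        apply hVb
        rw [eq_bot_iff, ← tau2_inf hG hM hH hMH h hXH hXc hU.1]
        exact le_inf hVσ hVM
      · exact Or.inr h
    have hPH := hPE.trans hEH
    have hXP : zpowers w ≤ centralizer (P₁ : Set G) := hXE.trans (centralizer_le hPE)
    by_cases hpH : p ∈ sigma H
    · -- `N(P₁) ≤ H`
      have hPσ := le_sigmaCore_of_pgroup hG hH hPp hPH hpH
      have hU1 := (uniq13 hG hH hxτ hXH hXc hPc hPσ (le_centralizer_iff.1 hXP)).1
      have hNP := (umax_normalizer hG hPc hU1).1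
      obtain ⟨-, ha, -, -⟩ := thm132 hG hM hH (Or.inl hp) hPp hPb hPM hNP
      obtain ⟨-, ha', -, -⟩ := thm132 hG hM hH (Or.inr hsτ) hVp hVb hVM hNH
      have h1 : sigmaCore M ⊓ centralizer (P₁ : Set G) ≤ centralizer ((zpowers v : Subgroup G) : Set G) := by
        have h2 : sigmaCore M ⊓ centralizer (P₁ : Set G) ≤ sigmaCore M ⊓ H :=
          inf_le_inf_left _ ((centralizer_le_normalizer _).trans hNP)
        exact h2.trans (le_centralizer_iff.1 (ha' _ hVp (le_inf hVM (hVE.trans hEH))))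
      -- Frobenius action
      have hps : p ≠ orderOf v := by
        intro h
        rw [← h] at hsτ
        exact hp.2.2.2.1 hsτ.2.2.1
      have hfr : zpowers v ⊓ centralizer (P₁ : Set G) = ⊥ := by
        have hcop : (Nat.card P₁).Coprime (Nat.card (zpowers v)) := by
          rw [hPc, hvc]
          exact (Nat.coprime_primes hpf.out hs).2 hps
        apply cyc_fix hVp (cyclic_sylow hG hVp (SCN.pRankLE_mono hVM hsτ.2.2.2)) hPV hcop
        intro h
        apply hnc
        rw [← commutator_eq_bot_iff_le_centralizer, commutator_comm]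
        exact h
      have hcV := coprime_of_pi (sigmaCore_pi M) hVp hsτ.2.1
      have hcP := coprime_of_pi (sigmaCore_pi M) hPp hp.2.1
      have h3 := frob_trivial' (isSolvable_sigmaCore hG hM) (hVM.trans (le_normalizer_sigmaCore M))
        (hPM.trans (le_normalizer_sigmaCore M)) hPV hcV hcP (frob_of_prime hPc hfr) h1
      exact not_cent_sigma hG hM hsτ hVM hvc h3
    · -- `p ∉ σ(H)`
      rcases hxτ with hxτ | hxτ
      · have h1 := thm134 hG hH hxτ hXH hXc hPH hPc hpH (le_centralizer_iff.1 hXP)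
        apply hnc
        rw [le_centralizer_iff]
        exact (le_inf hVσ (le_centralizer_iff.1 hXV)).trans h1
      · have hpi : Core.PiNum (sigma H)ᶜ (Nat.card ↥(zpowers w ⊔ P₁)) :=
          Core.piNum_sup (hXP.trans (centralizer_le_normalizer _)) (prime_pi hx hXc hxH) (prime_pi hpf.out hPc hpH)
        obtain ⟨F, hXF, hF⟩ := exists_compl_ge hG hH (sup_le hXH hPH) hpi
        obtain ⟨F₃, hXF₃, hF₃⟩ := Hall.exists_hall_ge (BG1.isSolvable_of_le hF.1 (solvable_of_ne_top hG hH.1))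
          (prime_pi hx hXc hxτ) (le_sup_left.trans hXF)
        have hwF : w ∈ F₃ := hXF₃ (mem_zpowers w)
        have h4 : zpowers v ≤ sigmaCore H ⊓ centralizer (F₃ : Set G) := by
          refine le_inf hVσ (le_trans (le_inf hVσ ?_) (thm133b hG hH hF hF₃ hwF (ne_one_of_order hx hwo)))
          rw [← centralizer_zpowers]
          exact le_centralizer_iff.1 hXV
        have h5 : F₃ ≠ ⊥ := by
          rintro rfl
          exact ne_bot_of_card hXc (le_bot_iff.1 hXF₃)
        obtain ⟨-, h6⟩ := thm1311i hG hH hF hF₃ h5 (fun h => by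
          rw [h, le_bot_iff] at h4
          exact hVb h4)
        exact hnc (((le_sup_right.trans hXF).trans h6).trans (centralizer_le h4))
  -- `P₁` centralizes `E₃`
  have hcop : (Nat.card P₁).Coprime (Nat.card E₃) := by
    rw [hPc, hpf.out.coprime_iff_not_dvd]
    intro h
    exact hp.2.2.2.1 (hE₃.2.1 p hpf.out h).2.2.1
  have hEs : Group.IsSolvable E := BG1.isSolvable_of_le hEM (solvable_of_ne_top hG hM.1)
  have hPE₃ : P₁ ≤ centralizer (E₃ : Set G) := by
    by_contra hne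
    obtain ⟨q, hq, Q, hQ, hQn, hQne⟩ := exists_inv_ne (hPE.trans hEn) hcop (BG1.isSolvable_of_le hE₃E hEs) hne
    haveI : Fact q.Prime := ⟨hq⟩
    have hQb : Q ≠ ⊥ := by
      rintro rfl
      exact hQne (commutator_bot_left _)
    obtain ⟨v, hv, hvo, hvc, hvQ⟩ := exists_order_sub (dvd_of_pgroup hQ.isPGroup hQb)
    have hqτ : q ∈ tau3 M := hE₃.2.1 q hq (by rw [← hvc]; exact card_dvd_of_le (hvQ.trans hQ.le))
    have hQc := cyclic_sylow hG hQ.isPGroup (SCN.pRankLE_mono ((hQ.le.trans hE₃E).trans hEM) hqτ.2.2.2)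
    have h1 := key v (hQ.le hv) (by rw [hvo]; exact hq)
    have h2 := cyc_fix hQ.isPGroup hQc hQn (hcop.coprime_dvd_right (card_dvd_of_le hQ.le)) hQne
    apply ne_bot_of_card hvc
    rw [eq_bot_iff, ← h2]
    exact le_inf hvQ (le_centralizer_iff.1 h1)
  refine ⟨hPE₃, le_antisymm (le_inf inf_le_left ?_) (le_inf inf_le_left ?_)⟩
  · obtain ⟨z, hz, hz1⟩ := exists_ne_one hb
    obtain ⟨s, hs, v, hv, hvo, -⟩ := exists_prime_sub hz hz1
    haveI : Fact s.Prime := ⟨hs⟩
    have hvc : Nat.card (zpowers v) = s := by rw [Nat.card_zpowers, hvo]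
    have hVE₃ : zpowers v ≤ E₃ := by rwa [zpowers_le]
    have hsτ : s ∈ tau3 M := hE₃.2.1 _ hs (by rw [← hvc]; exact card_dvd_of_le hVE₃)
    have h1 := thm134 hG hM hp hPM hPc (hVE₃.trans (hE₃E.trans hEM)) hvc hsτ.2.1
      ((hVE₃.trans (le_centralizer_iff.1 hPE₃)))
    refine le_trans (le_inf inf_le_left ?_) (thm133b hG hM hE hE₃ hv (ne_one_of_order hs hvo))
    rw [← centralizer_zpowers]
    exact h1
  · exact le_centralizer_iff.1 (hPE.trans hEY)

/-- BG 13.12 -/
theorem thm1312 (hG : IsMinSimpleOddOrder G) {M E P A : Subgroup G} (hM : IsCoatom M) (hE : IsComplIn E (sigmaCore M) M)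
    {p q : ℕ} [hpf : Fact p.Prime] [hqf : Fact q.Prime] (hp : p ∈ tau1 M) (hPE : P ≤ E) (hPc : Nat.card P = p)
    (hq : q ∈ tau2 M) (hAE : A ≤ E) (hA : IsElementaryAbelian q A) (hAc : Nat.card A = q ^ 2)
    (hAP : A ⊓ centralizer (P : Set G) ≠ ⊥) : sigmaCore M ⊓ centralizer (P : Set G) = ⊥ := by
  by_contra hC
  obtain ⟨A₀, h⟩ := exists_exc hG hM hq.2.1 (hAE.trans hE.1) hA hAc
  have hEA := exc_compl_le hG h hE hAE
  have hPM := hPE.trans hE.1
  have hPp := pgroup_of_card hPc
  have hPb := ne_bot_of_card hPc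
  obtain ⟨H, hH, hNH⟩ := exists_isCoatom_ge (normalizer_ne_top hG hPb (ne_top_of_isPGroup hG hPp))
  have hpH := thm1313 hG hM hH (Or.inl hp) hPM hPc hC hNH
  obtain ⟨hnc, -, -, -⟩ := thm132 hG hM hH (Or.inl hp) hPp hPb hPM hNH
  have hMH : M ≠ H := by
    rintro rfl
    exact hnc 1 (cj_one _).symm
  have hCH : centralizer (P : Set G) ≤ H := (centralizer_le_normalizer _).trans hNH
  have hPσ := le_sigmaCore_of_pgroup hG hH hPp (le_normalizer.trans hNH) hpH
  -- an element `w` of order `q` of `C_A(P)`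
  obtain ⟨w, hw, hwo, hwc, hwle⟩ := exists_order_sub (dvd_of_pgroup (h.e2.isPGroup.to_le inf_le_left) hAP)
  have hWA := hwle.trans inf_le_left
  have hWP := hwle.trans inf_le_right
  have hWM := hWA.trans (hAE.trans hE.1)
  have h134 := thm134 hG hM hp hPM hPc hWM hwc hq.2.1 hWP
  have hCW : sigmaCore M ⊓ centralizer ((zpowers w : Subgroup G) : Set G) ≠ ⊥ := by
    intro h3
    apply hC
    rw [eq_bot_iff, ← h3]
    exact le_inf inf_le_left h134
  have hWp := pgroup_of_card hwc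
  have hWb := ne_bot_of_card hwc
  have hWU : UMax M (centralizer ((zpowers w : Subgroup G) : Set G)) :=
    thm126c hG h hWb (ea_le_cent hA hWA) (ne_top_of_isPGroup hG hWp) hCW
  have hWN := (umax_normalizer hG hwc hWU).1
  have hWH := hWP.trans hCH
  by_cases hqH : q ∈ sigma H
  · -- 12.15 (e) for `H`
    have hqM : q ∉ sigma M := hq.2.1
    obtain ⟨S, hXS, hS⟩ := exists_isSylIn_ge (p := q) (H := H ⊓ M) hWp (le_inf hWH hWM)
    obtain ⟨-, -, h1, -⟩ := thm1215e hG hH hM hMH hqH hWp hWb hWN hS hXS hqM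
    apply hC
    rw [eq_bot_iff, ← h1]
    exact inf_le_inf_left _ hCH
  · have hqd : q ∣ Nat.card H := by rw [← hwc]; exact card_dvd_of_le hWH
    have hCHW : sigmaCore H ⊓ centralizer ((zpowers w : Subgroup G) : Set G) ≠ ⊥ := by
      intro h1
      apply hPb
      rw [eq_bot_iff, ← h1]
      exact le_inf hPσ (le_centralizer_iff.1 hWP)
    rcases tau_cases hG hH hqf.out hqd hqH with h1 | h1 | h1
    · exact hq.2.1 (thm1313 hG hH hM (Or.inl h1) hWH hwc hCHW hWN)
    · apply hPb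
      rw [eq_bot_iff, ← tau2_inf hG hM hH hMH h1 hWH hwc hWU.1]
      exact le_inf hPσ hPM
    · exact hq.2.1 (thm1313 hG hH hM (Or.inr h1) hWH hwc hCHW hWN)

end Cfsg.Agent.H12.BG13
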