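import Mathlib
import Cfsg.Agent.H12_BG13h

/-! BG 13.11 assembled -/

set_option autoImplicit false
set_option linter.unusedSectionVars false
set_option linter.style.haveILetI false

open Pointwise
open scoped commutatorElement

namespace Cfsg.Agent.H12.BG13

open Cfsg Subgroup H13.Syl H12.Loc H12.Trans H12.BG7 H12.Puig H12.BG9 H12.BG10 H12.BG11 H12.BG12

universe u

variable {G : Type u} [Group G] [Finite G]

/-- `E = E₁ E₃` when `τ₂(M)` is empty -/
theorem sup_of_tau2_empty (hG : IsMinSimpleOddOrder G) {M E E₁ E₃ : Subgroup G} (hM : IsCoatom M) (hE : IsComplIn E (sigmaCore M) M)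
    (hE₁ : IsPiHallOf (tau1 M) E₁ E) (hE₃ : IsPiHallOf (tau3 M) E₃ E) (hτ2 : ∀ r, r ∉ tau2 M) : E ≤ E₁ ⊔ E₃ := by
  apply le_of_sylow_each (sup_le hE₁.1 hE₃.1)
  intro t ht hd
  haveI : Fact t.Prime := ⟨ht⟩
  have htσ : t ∉ sigma M := Hall.pi (compl_hall hG hM hE) t ht hd
  rcases tau_cases hG hM ht (hd.trans (card_dvd_of_le hE.1)) htσ with h | h | h
  · obtain ⟨T, hT⟩ := exists_isSylIn (p := t) E₁
    exact ⟨T, Hall.sylow_trans hE₁ h hT, hT.le.trans le_sup_left⟩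
  · exact absurd h (hτ2 t)
  · obtain ⟨T, hT⟩ := exists_isSylIn (p := t) E₃
    exact ⟨T, Hall.sylow_trans hE₃ h hT, hT.le.trans le_sup_right⟩

/-- BG 13.11 -/
theorem thm1311 (hG : IsMinSimpleOddOrder G) {M E E₃ : Subgroup G} (hM : IsCoatom M) (hE : IsComplIn E (sigmaCore M) M)
    (hE₃ : IsPiHallOf (tau3 M) E₃ E) (hx : ∃ x ∈ E₃, x ≠ 1 ∧ sigmaCore M ⊓ centralizer ({x} : Set G) ≠ ⊥) :
    (∃ p, p ∈ tau1 M) ∧ (∀ p, p ∉ tau2 M) ∧
      (∀ x ∈ E, x ≠ 1 → sigmaCore M ⊓ centralizer ({x} : Set G) = sigmaCore M ⊓ centralizer (E : Set G)) ∧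
      ∀ X : Subgroup G, X ≤ E → (Nat.card X).Prime → E ≤ normalizer (X : Set G) := by
  obtain ⟨x₀, hx₀, hx₀1, hx₀c⟩ := hx
  obtain ⟨hcyc, hE₃', hEn⟩ := tau3_cyclic hG hM hE hE₃
  have hb : E₃ ≠ ⊥ := by
    rintro rfl
    exact hx₀1 (mem_bot.1 hx₀)
  have hY : sigmaCore M ⊓ centralizer (E₃ : Set G) ≠ ⊥ := by
    intro h
    apply hx₀c
    rw [eq_bot_iff, ← h]
    exact le_inf inf_le_left (thm133b hG hM hE hE₃ hx₀ hx₀1)
  obtain ⟨hτ2, hEY⟩ := thm1311i hG hM hE hE₃ hb hY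
  have hEh := compl_hall hG hM hE
  have hmem : ∀ X : Subgroup G, X ≤ E → ∀ s : ℕ, s.Prime → Nat.card X = s → s ∈ tau3 M → X ≤ E₃ := by
    intro X hXE s hs hXc hsτ
    haveI : Fact s.Prime := ⟨hs⟩
    obtain ⟨l, hl, hle⟩ := Hall.sylow_conj_le hE₃ hsτ (pgroup_of_card hXc) hXE
    rw [cj_le_iff] at hle
    rwa [cj_eq_of_mem_normalizer (hEn (inv_mem hl))] at hle
  have hcases : ∀ X : Subgroup G, X ≤ E → ∀ s : ℕ, s.Prime → Nat.card X = s → s ∈ tau1 M ∨ s ∈ tau3 M := by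
    intro X hXE s hs hXc
    have hsE : s ∣ Nat.card E := by rw [← hXc]; exact card_dvd_of_le hXE
    rcases tau_cases hG hM hs (hsE.trans (card_dvd_of_le hE.1)) (Hall.pi hEh s hs hsE) with h | h | h
    · exact Or.inl h
    · exact absurd h (hτ2 s)
    · exact Or.inr h
  refine ⟨exists_tau1 hG hM hτ2, hτ2, ?_, ?_⟩
  · intro x hx hx1
    apply le_antisymm
    · refine le_inf inf_le_left ?_
      obtain ⟨s, hs, w, hw, hwo, hwx⟩ := exists_prime_sub hx hx1
      haveI : Fact s.Prime := ⟨hs⟩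
      have hwc : Nat.card (zpowers w) = s := by rw [Nat.card_zpowers, hwo]
      have hwE : zpowers w ≤ E := by rwa [zpowers_le]
      have h1 : sigmaCore M ⊓ centralizer ({x} : Set G) ≤ sigmaCore M ⊓ centralizer ((zpowers w : Subgroup G) : Set G) :=
        inf_le_inf_left _ (cent_zp_le hwx)
      have h2 : sigmaCore M ⊓ centralizer ((zpowers w : Subgroup G) : Set G) ≤ sigmaCore M ⊓ centralizer (E₃ : Set G) := by
        rcases hcases _ hwE s hs hwc with h | h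
        · exact (thm1311ii hG hM hE hE₃ hb hY h hwE hwc).2.le
        · have h3 := hmem _ hwE s hs hwc h
          rw [centralizer_zpowers]
          exact le_inf inf_le_left (thm133b hG hM hE hE₃ (h3 (mem_zpowers w)) (ne_one_of_order hs hwo))
      exact (h1.trans h2).trans (le_centralizer_iff.1 hEY)
    · exact inf_le_inf_left _ (centralizer_le (by simpa using hx))
  · intro X hXE hXc
    haveI : Fact (Nat.card X).Prime := ⟨hXc⟩
    rcases hcases X hXE _ hXc rfl with h | h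
    · obtain ⟨E₁, hXE₁, hE₁⟩ := Hall.exists_hall_ge (BG1.isSolvable_of_le hE.1 (solvable_of_ne_top hG hM.1)) (prime_pi hXc rfl h) hXE
      have h1 := (thm1311ii hG hM hE hE₃ hb hY h hXE rfl).1
      have h2 := tau1_cyclic hG hM (hE₁.1.trans hE.1) hE₁.2.1
      refine (sup_of_tau2_empty hG hM hE hE₁ hE₃ hτ2).trans (sup_le ?_ ?_)
      · exact normal_of_cyclic h2 hXE₁ le_normalizer
      · exact (le_centralizer_iff.1 h1).trans (centralizer_le_normalizer _)
    · exact normal_of_cyclic hcyc (hmem X hXE _ hXc rfl h) hEn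

end Cfsg.Agent.H12.BG13
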