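import Mathlib
import Cfsg.Agent.H12_BG12e

/-!
Contract file for the odd order analysis: the statements of BG §12 (end) and §13 that §14 uses.
`Con13 G` is the conjunction (a structure of hypotheses) over all maximal subgroups of `G`.
-/

set_option autoImplicit false
set_option linter.unusedSectionVars false

open Pointwise
open scoped commutatorElement

namespace Cfsg.Agent.H2.Con13

open Cfsg Subgroup H13.Syl H12.BG10 H12.BG12

universe u

structure Con13 (G : Type u) [Group G] [Finite G] : Prop where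
  /-- 12.16: sigma(M)-subgroups are conjugate into `M_sigma` -/
  h1216 : ∀ (M Y : Subgroup G), IsCoatom M → (∀ p : ℕ, p.Prime → p ∣ Nat.card Y → p ∈ sigma M) →
    ∃ g : G, cj g Y ≤ sigmaCore M
  /-- 12.17: `[M_sigma, E] = M_sigma` -/
  h1217 : ∀ (M E : Subgroup G), IsCoatom M → IsComplIn E (sigmaCore M) M → ⁅sigmaCore M, E⁆ = sigmaCore M
  /-- 13.4 -/
  h134 : ∀ (M E P R : Subgroup G) (p : ℕ), IsCoatom M → IsComplIn E (sigmaCore M) M → p ∈ tau1 M → P ≤ E → Nat.card P = p →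
    R ≤ E → R ≤ centralizer (P : Set G) → (Nat.card R).Prime →
    sigmaCore M ⊓ centralizer (P : Set G) ≤ centralizer (R : Set G)
  /-- 13.5: a Hall tau_1-subgroup acts in a prime manner -/
  h135 : ∀ (M E E₁ : Subgroup G), IsCoatom M → IsComplIn E (sigmaCore M) M → IsPiHallOf (tau1 M) E₁ E →
    ∀ x ∈ E₁, x ≠ 1 → sigmaCore M ⊓ centralizer ({x} : Set G) = sigmaCore M ⊓ centralizer (E₁ : Set G)
  /-- 13.6 -/
  h136 : ∀ (M E E₁ P X : Subgroup G) (q : ℕ), IsCoatom M → IsComplIn E (sigmaCore M) M → IsPiHallOf (tau1 M) E₁ E →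
    P ≤ E₁ → P ≠ ⊥ → q.Prime → Nat.card X = q → X ≤ sigmaCore M → X ≤ centralizer (P : Set G) →
    UMax M (centralizer (X : Set G)) ∧ ∀ S : Subgroup G, IsSylIn q S (sigmaCore M) → UMax M S
  /-- 13.9 -/
  h139 : ∀ (M H : Subgroup G), IsCoatom M → IsCoatom H → (∀ g : G, H ≠ cj g M) → ∀ p ∈ sigma M, p ∉ sigma H
  /-- 13.11 -/
  h1311 : ∀ (M E E₃ : Subgroup G), IsCoatom M → IsComplIn E (sigmaCore M) M → IsPiHallOf (tau3 M) E₃ E →
    (∃ x ∈ E₃, x ≠ 1 ∧ sigmaCore M ⊓ centralizer ({x} : Set G) ≠ ⊥) →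
    (∃ p, p ∈ tau1 M) ∧ (∀ p, p ∉ tau2 M) ∧
      (∀ x ∈ E, x ≠ 1 → sigmaCore M ⊓ centralizer ({x} : Set G) = sigmaCore M ⊓ centralizer (E : Set G)) ∧
      ∀ X : Subgroup G, X ≤ E → (Nat.card X).Prime → E ≤ normalizer (X : Set G)
  /-- 13.12 -/
  h1312 : ∀ (M E P A : Subgroup G) (p q : ℕ), IsCoatom M → IsComplIn E (sigmaCore M) M → p ∈ tau1 M → P ≤ E → Nat.card P = p →
    q ∈ tau2 M → A ≤ E → IsElementaryAbelian q A → Nat.card A = q ^ 2 → A ⊓ centralizer (P : Set G) ≠ ⊥ →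
    sigmaCore M ⊓ centralizer (P : Set G) = ⊥
  /-- 13.13 -/
  h1313 : ∀ (M E P H : Subgroup G) (p : ℕ), IsCoatom M → IsComplIn E (sigmaCore M) M → p ∈ tau1 M ∨ p ∈ tau3 M → P ≤ E →
    Nat.card P = p → sigmaCore M ⊓ centralizer (P : Set G) ≠ ⊥ → IsCoatom H → normalizer (P : Set G) ≤ H → p ∈ sigma H

end Cfsg.Agent.H2.Con13
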