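import Mathlib
import Cfsg.Agent.H12_BG13i
import Cfsg.Agent.H2_Con13

/-! the contract `Con13` for the minimal simple group of odd order -/

set_option autoImplicit false
set_option linter.unusedSectionVars false
set_option linter.style.haveILetI false

open Pointwise
open scoped commutatorElement

namespace Cfsg.Agent.H12.BG13

open Cfsg Subgroup H13.Syl H12.Loc H12.Trans H12.BG7 H12.Puig H12.BG9 H12.BG10 H12.BG11 H12.BG12

universe u

variable {G : Type u} [Group G] [Finite G]

theorem con13 (hG : IsMinSimpleOddOrder G) : H2.Con13.Con13 G where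
  h1216 := by
    intro M Y hM hY
    by_cases hYb : Y = ⊥
    · exact ⟨1, by rw [hYb, cj_bot]; exact bot_le⟩
    · exact thm1216 hG hM hYb hY
  h1217 := fun M E hM hE => (thm1217a hG hM hE).1
  h134 := by
    intro M E P R p hM hE hp hPE hPc hRE hRP hR
    haveI : Fact p.Prime := ⟨hp.1⟩
    haveI : Fact (Nat.card R).Prime := ⟨hR⟩
    exact thm134 hG hM hp (hPE.trans hE.1) hPc (hRE.trans hE.1) rfl
      (Hall.pi (compl_hall hG hM hE) _ hR (card_dvd_of_le hRE)) hRP
  h135 := by
    intro M E E₁ hM hE hE₁ x hx hx1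
    apply le_antisymm
    · exact le_inf inf_le_left (thm135 hG hM (hE₁.1.trans hE.1) hE₁.2.1 hx hx1)
    · exact inf_le_inf_left _ (centralizer_le (by simpa using hx))
  h136 := by
    intro M E E₁ P X q hM hE hE₁ hPE hPb hq hXc hX hXP
    haveI : Fact q.Prime := ⟨hq⟩
    exact thm136 hG hM hE hE₁ hPE hPb hXc hX hXP
  h139 := fun M H hM hH hne p hp => thm139 hG hM hH hne hp
  h1311 := fun M E E₃ hM hE hE₃ hx => thm1311 hG hM hE hE₃ hx
  h1312 := by
    intro M E P A p q hM hE hp hPE hPc hq hAE hA hAc hAP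
    haveI : Fact p.Prime := ⟨hp.1⟩
    haveI : Fact q.Prime := ⟨hq.1⟩
    exact thm1312 hG hM hE hp hPE hPc hq hAE hA hAc hAP
  h1313 := by
    intro M E P H p hM hE hp hPE hPc hC hH hN
    haveI : Fact p.Prime := ⟨by rcases hp with h | h <;> exact h.1⟩
    exact thm1313 hG hM hH hp (hPE.trans hE.1) hPc hC hN

end Cfsg.Agent.H12.BG13
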