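import Mathlib
import Cfsg.Agent.H12_BG13h

/-! BG 3.8 (prime action, `[K, R] ≤ F(K)`) -/

set_option autoImplicit false
set_option linter.unusedSectionVars false
set_option linter.style.haveILetI false

open Pointwise
open scoped commutatorElement

namespace Cfsg.Agent.H12.BG38

open Cfsg Subgroup H13.Syl H12.Loc H12.Trans H12.BG7 H12.Puig H12.BG9 H12.BG10 H12.BG11 H12.BG12

universe u

variable {G : Type u} [Group G] [Finite G]

/-- nilpotency from central sections outside `q` -/
theorem nilp_of_central {q : ℕ} [hq : Fact q.Prime] {C Z : Subgroup G} (hZC : Z ≤ C)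
    (hc : C ≤ centralizer (Z : Set G)) (hidx : ∀ r : ℕ, r.Prime → r ≠ q → ¬ r ∣ Z.relIndex C) :
    Group.IsNilpotent C := by
  haveI hn : (Z.subgroupOf C).Normal := Core.normal_subgroupOf_of_le
    (hc.trans (centralizer_le_normalizer _))
  have h1 : IsPGroup q (C ⧸ Z.subgroupOf C) := by
    have h2 : Nat.card (C ⧸ Z.subgroupOf C) = Z.relIndex C := rfl
    have h3 : Nat.card (C ⧸ Z.subgroupOf C) ≠ 0 := Nat.card_pos.ne'
    have h4 := Nat.eq_prime_pow_of_unique_prime_dvd (p := q) h3 (by
      intro r hr hd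
      by_contra hne
      exact hidx r hr hne (h2 ▸ hd))
    exact IsPGroup.of_card h4
  haveI : Group.IsNilpotent (C ⧸ Z.subgroupOf C) := h1.isNilpotent
  refine Subgroup.isNilpotent_of_ker_le_center (QuotientGroup.mk' (Z.subgroupOf C)) ?_
  rw [QuotientGroup.ker_mk']
  intro z hz
  rw [mem_center_iff]
  intro c
  have h1 := mem_centralizer_iff.1 (hc c.2) z (mem_subgroupOf.1 hz)
  exact Subtype.ext h1.symm

theorem comap_map_mk' {X : Type u} [Group X] {F K : Subgroup X} [F.Normal] (hFK : F ≤ K) :
    (K.map (QuotientGroup.mk' F)).comap (QuotientGroup.mk' F) = K := by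
  rw [comap_map_eq, QuotientGroup.ker_mk', sup_eq_left.2 hFK]

/-- BG 3.8 for the whole group -/
theorem thm38_top (hodd : Odd (Nat.card G)) (K R : Subgroup G) [hKn : K.Normal]
    (hKs : Group.IsSolvable K)
    (hcop : (Nat.card K).Coprime (Nat.card R))
    (hprime : ∀ x ∈ R, x ≠ 1 → K ⊓ centralizer ({x} : Set G) = (K ⊓ centralizer (R : Set G)))
    (hF : fittingOf K ⊓ centralizer (R : Set G) = ⊥) :
    ⁅K, R⁆ ≤ fittingOf K := by
  classical
  set F := fittingOf K with hFdef
  have hKtop : normalizer (K : Set G) = ⊤ := normalizer_eq_top_iff.2 hKn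
  have hFtop : normalizer (F : Set G) = ⊤ := by
    rw [eq_top_iff, ← hKtop]; exact Core.normalizer_le_normalizer_fittingOf K
  haveI hFn : F.Normal := normalizer_eq_top_iff.1 hFtop
  have hFK : F ≤ K := Core.fittingOf_le K
  have hFnil : Group.IsNilpotent F := Core.fittingOf_isNilpotent K
  rcases eq_or_ne R ⊥ with hR | hR
  · rw [hR, commutator_bot_right]; exact bot_le
  obtain ⟨x₀, hx₀R, hx₀1⟩ := exists_ne_one hR
  obtain ⟨p, hp, x, hxR, hxo, -⟩ := BG13.exists_prime_sub hx₀R hx₀1
  have hx1 : x ≠ 1 := BG13.ne_one_of_order hp hxo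
  set π := QuotientGroup.mk' F with hπ
  have hπs : Function.Surjective π := QuotientGroup.mk'_surjective F
  suffices hmain : R.map π ≤ centralizer ((K.map π : Subgroup (G ⧸ F)) : Set (G ⧸ F)) by
    rw [commutator_le]
    intro k hk r hr
    have h1 := mem_centralizer_iff.1 (hmain (mem_map_of_mem π hr)) (π k) (mem_map_of_mem π hk)
    have h2 : π ⁅k, r⁆ = 1 := by
      rw [map_commutatorElement, commutatorElement_eq_one_iff_mul_comm]; exact h1
    rwa [← MonoidHom.mem_ker, QuotientGroup.ker_mk'] at h2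
  have hKs' : Group.IsSolvable ↥(K.map π) := by
    haveI := hKs
    exact Group.isSolvable_of_surjective (f := π.subgroupMap K) (π.subgroupMap_surjective K)
  have hcop' : (Nat.card ↥(R.map π)).Coprime (Nat.card ↥(K.map π)) := by
    have h1 : Nat.card ↥(R.map π) ∣ Nat.card R := card_map_dvd R π
    have h2 : Nat.card ↥(K.map π) ∣ Nat.card K := card_map_dvd K π
    exact (Nat.Coprime.coprime_dvd_left h2 (Nat.Coprime.coprime_dvd_right h1 hcop)).symm
  haveI hKn' : (K.map π).Normal := hKn.map π hπs
  have hKtop' : normalizer ((K.map π : Subgroup (G ⧸ F)) : Set (G ⧸ F)) = ⊤ :=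
    normalizer_eq_top_iff.2 hKn'
  refine le_centralizer_of_fitting hKs' (by rw [hKtop']; exact le_top) hcop' ?_
  rw [le_centralizer_fittingOf_iff]
  intro q hq
  haveI : Fact q.Prime := ⟨hq⟩
  by_cases hqK : q ∣ Nat.card K
  swap
  · have h1 : Oq q (K.map π) = ⊥ := Oq_eq_bot_of_coprime hq (by
      rw [Nat.coprime_comm, hq.coprime_iff_not_dvd]
      exact fun h => hqK (h.trans (card_map_dvd K π)))
    rw [h1]
    intro z _
    rw [mem_centralizer_iff]
    intro y hy
    rw [mem_bot.1 hy, one_mul, mul_one]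
  have hq2 : q ≠ 2 := by
    rintro rfl
    have h1 : Odd (Nat.card K) := Odd.of_dvd_nat hodd (card_subgroup_dvd_card K)
    exact (Nat.not_even_iff_odd.2 h1) (even_iff_two_dvd.2 hqK)
  have hpR : p ∣ Nat.card R := by
    rw [← hxo, ← Nat.card_zpowers]
    exact card_dvd_of_le (by rwa [zpowers_le])
  have hpK : ¬ p ∣ Nat.card K := fun h => Nat.not_coprime_of_dvd_of_dvd hp.one_lt h hpR hcop
  have hqp : q ≠ p := by rintro rfl; exact hpK hqK
  -- the preimage `T` of `O_q(K/F)`
  set T := (Oq q (K.map π)).comap π with hT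
  have hTn : T.Normal := by
    have h1 : (Oq q (K.map π)).Normal := by
      rw [← normalizer_eq_top_iff, eq_top_iff, ← hKtop']
      exact Core.normalizer_le_normalizer_piCoreOf _ _
    exact h1.comap π
  have hTtop : normalizer (T : Set G) = ⊤ := normalizer_eq_top_iff.2 hTn
  have hFT : F ≤ T := by
    intro f hf
    rw [hT, mem_comap, show π f = 1 from (QuotientGroup.eq_one_iff f).2 hf]
    exact one_mem _
  have hTK : T ≤ K := by
    rw [← comap_map_mk' hFK]
    exact comap_mono (Oq_le q _)
  have hTmap : T.map π = Oq q (K.map π) := by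
    rw [hT, map_comap_eq_self_of_surjective hπs]
  have hidx : ∃ m, F.relIndex T = q ^ m := by
    have h1 : IsPGroup q ↥(T.map π) := by rw [hTmap]; exact Oq_isPGroup hq _
    obtain ⟨m, hm⟩ := IsPGroup.iff_card.1 h1
    refine ⟨m, ?_⟩
    have h2 := relIndex_ker (K := T) π
    rw [QuotientGroup.ker_mk'] at h2
    rw [h2, hm]
  -- `V = O_{q'}(F)`
  set V := Oc q F with hV
  have hVF : V ≤ F := Oc_le q F
  have hVtop : normalizer (V : Set G) = ⊤ := by
    rw [eq_top_iff, ← hFtop]; exact Core.normalizer_le_normalizer_piCoreOf _ _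
  have hVq : ¬ q ∣ Nat.card V := by
    have h1 := Oc_coprime hq F
    rwa [Nat.coprime_comm, hq.coprime_iff_not_dvd] at h1
  set C := T ⊓ centralizer (V : Set G) with hC
  have hCK : C ≤ K := inf_le_left.trans hTK
  have hCn : K ≤ normalizer (C : Set G) := by
    apply H22.Basic.le_normalizer_inf
    · rw [hTtop]; exact le_top
    · exact H22.Basic.le_normalizer_centralizer (by rw [hVtop]; exact le_top)
  have hCnil : Group.IsNilpotent C := by
    refine nilp_of_central (q := q) (Z := C ⊓ V) inf_le_left ?_ ?_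
    · exact inf_le_right.trans (centralizer_le inf_le_right)
    · intro r hr hrq hd
      haveI : Fact r.Prime := ⟨hr⟩
      obtain ⟨P, hP⟩ := exists_isSylIn (p := r) C
      have hPF : P ≤ F := by
        obtain ⟨m, hm⟩ := hidx
        have hPT : P ≤ T := hP.le.trans inf_le_left
        have h1 : (F.relIndex (F ⊔ P)) ∣ q ^ m := by
          rw [← hm]
          exact Dvd.intro _ (relIndex_mul_relIndex F (F ⊔ P) T le_sup_left (sup_le hFT hPT))
        have h2 : (F.relIndex (F ⊔ P)) = (F ⊓ P).relIndex P := by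
          rw [relIndex_sup_left, inf_relIndex_right]
        obtain ⟨k, hk⟩ := IsPGroup.iff_card.1 hP.isPGroup
        have h3 : (F ⊓ P).relIndex P ∣ r ^ k := by rw [← hk]; exact relIndex_dvd_card _ _
        have h4 : (F ⊓ P).relIndex P = 1 := by
          have h5 : (q ^ m).Coprime (r ^ k) :=
            Nat.Coprime.pow _ _ ((Nat.coprime_primes hq hr).2 (Ne.symm hrq))
          exact Nat.eq_one_of_dvd_coprimes h5 (h2 ▸ h1) h3
        exact (relIndex_eq_one.1 h4).trans inf_le_left
      have hPV : P ≤ V := by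
        have h1 : P ≤ Oq r F := by
          have h2 : F ≤ fittingOf K := le_rfl
          have h3 : P ≤ Oq r K := le_Oq_of_le_fittingOf hr hPF hP.isPGroup
          refine (h3).trans (le_Oq hr ?_ ?_ (Oq_isPGroup hr K))
          · exact Oq_le_fittingOf hr K
          · exact hFK.trans (le_normalizer_Oq r K)
        refine h1.trans (le_Oc hq (Oq_le r F) (le_normalizer_Oq r F) ?_)
        obtain ⟨k, hk⟩ := IsPGroup.iff_card.1 (Oq_isPGroup hr F)
        rw [hk]
        exact Nat.Coprime.pow_left _ ((Nat.coprime_primes hr hq).2 hrq)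
      exact hP.not_dvd (hd.trans (relIndex_dvd_of_le_left _ (le_inf hP.le hPV)))
  have hCF : C ≤ F := Core.le_fittingOf hCK hCn hCnil
  -- invariant Sylow subgroup of `T`
  have hTs : Group.IsSolvable T := by
    haveI := hKs
    exact Group.isSolvable_of_isSolvable_injective (inclusion_injective hTK)
  have hcopT : (Nat.card R).Coprime (Nat.card T) :=
    (Nat.Coprime.coprime_dvd_left (card_dvd_of_le hTK) hcop).symm
  obtain ⟨S', hS'⟩ := H1.Coprime.invariant_sylow_exists R T (by rw [hTtop]; exact le_top) hcopT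
    (Or.inr hTs) q
  set S := (S' : Subgroup T).map T.subtype with hS
  have hST : IsSylIn q S T := isSylIn_map_subtype S'
  have hkey : ⁅S, zpowers x⁆ ≤ centralizer (V : Set G) := by
    have hVs : Group.IsSolvable V := by
      haveI := hKs
      exact Group.isSolvable_of_isSolvable_injective (inclusion_injective (hVF.trans hFK))
    refine Sect.fix_solv (q := q) (r := p) hp hq2 hqp hVs hVq ?_ hST.isPGroup
      (by rw [hVtop]; exact le_top) (σ := x) ?_ (by rw [hVtop]; trivial) (hS' hxR) ?_
    · exact fun h => hpK (h.trans (card_dvd_of_le (hVF.trans hFK)))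
    · rw [← hxo]; exact pow_orderOf_eq_one x
    · rw [eq_bot_iff, ← hF]
      refine le_inf (inf_le_left.trans hVF) ?_
      intro v hv
      have h1 : v ∈ K ⊓ centralizer ({x} : Set G) :=
        ⟨(hVF.trans hFK) (mem_inf.1 hv).1, (mem_inf.1 hv).2⟩
      rw [hprime x hxR hx1] at h1
      exact h1.2
  have hzR : zpowers x ≤ R := by rwa [zpowers_le]
  have hSF : ⁅S, zpowers x⁆ ≤ F := by
    refine le_trans (le_inf ?_ hkey) hCF
    exact (H1.Coprime.commutator_le_of_le_normalizer (hzR.trans hS')).trans hST.le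
  have hTeq : F ⊔ S = T := BG6.eq_sup_of_isSylIn hST hFT hidx
  have hSmap : Oq q (K.map π) = S.map π := by
    rw [← hTmap, ← hTeq, Subgroup.map_sup]
    have h1 : F.map π = ⊥ := by
      rw [Subgroup.map_eq_bot_iff, QuotientGroup.ker_mk']
    rw [h1, bot_sup_eq]
  rw [hSmap]
  have hSs : Group.IsSolvable S := by
    haveI := hKs
    exact Group.isSolvable_of_isSolvable_injective (inclusion_injective (hST.le.trans hTK))
  have hcopS : (Nat.card (zpowers x)).Coprime (Nat.card S) :=
    (Nat.Coprime.coprime_dvd_left (card_dvd_of_le hzR)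
      (Nat.Coprime.coprime_dvd_right (card_dvd_of_le hST.le) hcopT))
  have hfac := H1.Coprime.commutator_sup_centralizer (zpowers x) S (hzR.trans hS') hcopS
    (Or.inr hSs)
  rw [← hfac, Subgroup.map_sup]
  have h1 : (⁅S, zpowers x⁆).map π = ⊥ := by
    rw [Subgroup.map_eq_bot_iff, QuotientGroup.ker_mk']; exact hSF
  rw [h1, bot_sup_eq]
  rintro _ ⟨r, hr, rfl⟩
  rw [mem_centralizer_iff]
  rintro _ ⟨s, hs, rfl⟩
  have h2 : s ∈ K ⊓ centralizer ({x} : Set G) := by
    refine ⟨(hST.le.trans hTK) (mem_inf.1 hs).1, ?_⟩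
    rw [← centralizer_zpowers]; exact (mem_inf.1 hs).2
  rw [hprime x hxR hx1] at h2
  have h3 := mem_centralizer_iff.1 h2.2 r hr
  rw [← map_mul, ← map_mul, h3]

theorem fittingOf_map_le {L : Subgroup G} (K' : Subgroup L) :
    (fittingOf K').map L.subtype ≤ fittingOf (K'.map L.subtype) := by
  refine Core.le_fittingOf (map_mono (Core.fittingOf_le K')) ?_
    (Core.isNilpotent_map_subtype (Core.fittingOf_isNilpotent K'))
  exact (map_mono (Core.le_normalizer_fittingOf K')).trans (le_normalizer_map _)

/-- BG 3.8, relative form -/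
theorem thm38 (hodd : Odd (Nat.card G)) {K R : Subgroup G} (hKs : Group.IsSolvable K)
    (hRK : R ≤ normalizer (K : Set G))
    (hcop : (Nat.card K).Coprime (Nat.card R))
    (hprime : ∀ x ∈ R, x ≠ 1 → K ⊓ centralizer ({x} : Set G) ≤ centralizer (R : Set G))
    (hF : fittingOf K ⊓ centralizer (R : Set G) = ⊥) :
    ⁅K, R⁆ ≤ fittingOf K := by
  classical
  set L := K ⊔ R with hL
  have hKL : K ≤ L := le_sup_left
  have hRL : R ≤ L := le_sup_right
  have hLn : L ≤ normalizer (K : Set G) := sup_le le_normalizer hRK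
  haveI : (K.subgroupOf L).Normal := Core.normal_subgroupOf_of_le hLn
  have eK : (K.subgroupOf L).map L.subtype = K := by
    rw [subgroupOf_map_subtype, inf_eq_left.2 hKL]
  have eR : (R.subgroupOf L).map L.subtype = R := by
    rw [subgroupOf_map_subtype, inf_eq_left.2 hRL]
  have hodd' : Odd (Nat.card L) := Odd.of_dvd_nat hodd (card_subgroup_dvd_card L)
  have hfit : (fittingOf (K.subgroupOf L)).map L.subtype ≤ fittingOf K := by
    have h1 := fittingOf_map_le (K.subgroupOf L)
    rwa [eK] at h1
  have hKs' : Group.IsSolvable (K.subgroupOf L) := by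
    haveI := hKs
    exact Group.isSolvable_of_isSolvable_injective (f := (subgroupOfEquivOfLe hKL).toMonoidHom)
      (subgroupOfEquivOfLe hKL).injective
  have h1 := thm38_top hodd' (K.subgroupOf L) (R.subgroupOf L) hKs'
    (by rw [H22.Basic.card_subgroupOf_eq hKL, H22.Basic.card_subgroupOf_eq hRL]; exact hcop)
    (by
      intro x hx hx1
      have hx' : (x : G) ∈ R := mem_subgroupOf.1 hx
      have hx1' : (x : G) ≠ 1 := fun h => hx1 (Subtype.ext h)
      apply le_antisymm
      · intro k hk
        refine mem_inf.2 ⟨(mem_inf.1 hk).1, ?_⟩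
        have h2 : (k : G) ∈ K ⊓ centralizer ({(x : G)} : Set G) := by
          refine ⟨mem_subgroupOf.1 (mem_inf.1 hk).1, ?_⟩
          have h3 := mem_centralizer_iff.1 (mem_inf.1 hk).2 x rfl
          refine mem_centralizer_iff.2 ?_
          rintro y rfl
          exact congrArg Subtype.val h3
        have h4 := mem_centralizer_iff.1 (hprime x hx' hx1' h2)
        refine mem_centralizer_iff.2 ?_
        intro r hr
        exact Subtype.ext (h4 r (mem_subgroupOf.1 hr))
      · refine inf_le_inf_left _ (centralizer_le ?_)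
        rintro y rfl
        exact hx)
    (by
      rw [eq_bot_iff]
      intro k hk
      have h2 : (k : G) ∈ fittingOf K ⊓ centralizer (R : Set G) := by
        refine ⟨hfit (mem_map_of_mem L.subtype (mem_inf.1 hk).1), ?_⟩
        refine mem_centralizer_iff.2 ?_
        intro r hr
        have h3 := mem_centralizer_iff.1 (mem_inf.1 hk).2 (⟨r, hRL hr⟩ : L)
          (mem_subgroupOf.2 hr)
        exact congrArg Subtype.val h3
      rw [hF, mem_bot] at h2
      exact mem_bot.2 (Subtype.ext h2))
  have h2 : (⁅K.subgroupOf L, R.subgroupOf L⁆).map L.subtype ≤ fittingOf K :=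
    (map_mono h1).trans hfit
  rwa [map_commutator, eK, eR] at h2

end Cfsg.Agent.H12.BG38
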