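import Cfsg.Statements.S1446
import Cfsg.Agent.H10_FrF9

set_option autoImplicit false
open Cfsg

namespace Cfsg.Agent.S1446

open Cfsg.Agent.H10.FrF5 Cfsg.Agent.H10.FrF7 Cfsg.Agent.H10.FrF9
open scoped commutatorElement

/-- Let X be a finite group with subgroups K, R, M such that: K and R are nontrivial, K ∩ R = 1, R normalizes K, no non-identity element of R centralizes a non-identity element of K, K ⊔ R is solvable of odd order; M is nilpotent and nontrivial, normalized by K and by R, with order coprime to that of K ⊔ R, M ∩ C(K) = 1, and M ∩ C(x) = M ∩ C(R) for all non-identity x ∈ R. Then R has prime order p, #M = #(M ∩ C(R)) ^ p, and if M ∩ C(R) is cyclic then [K, K] centralizes M. -/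
theorem result {X : Type*} [Group X] [Finite X] (K R M : Subgroup X) (hK1 : K ≠ ⊥) (hR1 : R ≠ ⊥) (hKR : K ⊓ R = ⊥)
    (hRK : R ≤ Subgroup.normalizer (K : Set X)) (hfrob : ∀ r ∈ R, r ≠ 1 → K ⊓ Subgroup.centralizer ({r} : Set X) = ⊥)
    (hsolv : Group.IsSolvable ↥(K ⊔ R)) (hodd : Odd (Nat.card ↥(K ⊔ R)))
    (hM1 : M ≠ ⊥) (hMn : Group.IsNilpotent M) (hKM : K ≤ Subgroup.normalizer (M : Set X)) (hRM : R ≤ Subgroup.normalizer (M : Set X))
    (hcop : (Nat.card ↥(K ⊔ R)).Coprime (Nat.card M)) (hCK : M ⊓ Subgroup.centralizer (K : Set X) = ⊥)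
    (hpr : ∀ x ∈ R, x ≠ 1 → M ⊓ Subgroup.centralizer ({x} : Set X) = M ⊓ Subgroup.centralizer (R : Set X)) :
    (Nat.card R).Prime ∧ Nat.card M = Nat.card ↥(M ⊓ Subgroup.centralizer (R : Set X)) ^ Nat.card R ∧
      (IsCyclic ↥(M ⊓ Subgroup.centralizer (R : Set X)) → ⁅K, K⁆ ≤ Subgroup.centralizer (M : Set X)) := by
  classical
  have hfpf : ∀ e ∈ R, e ≠ 1 → ∀ u ∈ K, e * u = u * e → u = 1 := by
    intro e he he1 u hu h
    have h1 : u ∈ K ⊓ Subgroup.centralizer ({e} : Set X) := ⟨hu, Subgroup.mem_centralizer_singleton_iff.2 (by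
      first
        | exact h
        | exact h.symm)⟩
    rw [hfrob e he he1, Subgroup.mem_bot] at h1
    exact h1
  have hUn : ∀ e ∈ R, ∀ u ∈ K, e * u * e⁻¹ ∈ K := fun e he u hu => (Subgroup.mem_normalizer_iff.1 (hRK he) u).1 hu
  have hMn' : ∀ x ∈ K ⊔ R, ∀ h ∈ M, x * h * x⁻¹ ∈ M := fun x hx h hh =>
    (Subgroup.mem_normalizer_iff.1 ((sup_le hKM hRM) hx) h).1 hh
  haveI := hMn
  have hsM : Group.IsSolvable M := inferInstance
  have hcopM : ∀ R₀ : Subgroup X, R₀ ≤ R → Nat.Coprime (Nat.card M) (Nat.card ↥(K ⊔ R₀)) := fun R₀ h =>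
    (Nat.Coprime.coprime_dvd_left (Subgroup.card_dvd_of_le (sup_le_sup_left h K)) hcop).symm
  have hform : ∀ R₀ : Subgroup X, R₀ ≤ R → R₀ ≠ ⊥ → Nat.card M = Nat.card ↥(M ⊓ Subgroup.centralizer (R₀ : Set X)) ^ Nat.card R₀ := by
    intro R₀ hR₀ hR₀1
    have h1 := main K R₀ M hK1 hR₀1 (fun e he => hUn e (hR₀ he)) (fun e he => hfpf e (hR₀ he))
      (fun x hx => hMn' x (sup_le_sup_left hR₀ K hx)) hsM (hcopM R₀ hR₀)
    have h2 : M ⊓ Subgroup.centralizer ((K ⊔ R₀ : Subgroup X) : Set X) = ⊥ := by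
      rw [eq_bot_iff, ← hCK]
      exact inf_le_inf_left M (Subgroup.centralizer_le (SetLike.coe_subset_coe.2 le_sup_left))
    rw [h2, hCK, Subgroup.card_bot, one_pow, one_mul, mul_one] at h1
    exact h1
  have hb := hform R le_rfl hR1
  have hc1 : 1 < Nat.card ↥(M ⊓ Subgroup.centralizer (R : Set X)) := by
    by_contra h
    have h2 : Nat.card ↥(M ⊓ Subgroup.centralizer (R : Set X)) = 1 := le_antisymm (not_lt.1 h) Nat.card_pos
    rw [h2, one_pow] at hb
    exact hM1 (Subgroup.eq_bot_of_card_eq _ hb)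
  have hcE : 1 < Nat.card R := (Subgroup.one_lt_card_iff_ne_bot _).2 hR1
  obtain ⟨p, hp, hpd⟩ := Nat.exists_prime_and_dvd hcE.ne'
  haveI := Fact.mk hp
  obtain ⟨r, hr⟩ := exists_prime_orderOf_dvd_card' (G := R) p hpd
  have hr1 : (r : X) ≠ 1 := by
    intro h
    have h2 : r = 1 := Subtype.ext h
    rw [h2, orderOf_one] at hr
    exact hp.one_lt.ne hr
  have hz : Subgroup.zpowers (r : X) ≤ R := by rw [Subgroup.zpowers_le]; exact r.2
  have hcard : Nat.card (Subgroup.zpowers (r : X)) = p := by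
    rw [Nat.card_zpowers, Subgroup.orderOf_coe, hr]
  have hp' := hform (Subgroup.zpowers (r : X)) hz (by
    rw [Ne, Subgroup.zpowers_eq_bot]; exact hr1)
  have hcen : Subgroup.centralizer ((Subgroup.zpowers (r : X) : Subgroup X) : Set X) = Subgroup.centralizer ({(r : X)} : Set X) := by
    rw [Subgroup.zpowers_eq_closure, Subgroup.centralizer_closure]
  rw [hcen, hpr r r.2 hr1, hcard] at hp'
  have hRp : Nat.card R = p := Nat.pow_right_injective hc1 (hb.symm.trans hp')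
  refine ⟨by rw [hRp]; exact hp, hb, ?_⟩
  intro hcyc
  have hUU : K ≤ K ⊔ R := le_sup_left
  have hEE : R ≤ K ⊔ R := le_sup_right
  haveI hUnorm : (K.subgroupOf (K ⊔ R)).Normal := by
    rw [Subgroup.normal_subgroupOf_iff_le_normalizer hUU, sup_le_iff]
    exact ⟨Subgroup.le_normalizer, hRK⟩
  have hnil := nilp_of_fpf K R hK1 hR1 hUn hfpf
  have hnil' : Group.IsNilpotent (K.subgroupOf (K ⊔ R)) := by
    haveI := hnil
    exact Group.nilpotent_of_mulEquiv (Subgroup.subgroupOfEquivOfLe hUU).symm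
  have hcyc' : IsCyclic (fx (conjAct (K ⊔ R) M hMn') (R.subgroupOf (K ⊔ R))) := by
    haveI := hcyc
    let e : fx (conjAct (K ⊔ R) M hMn') (R.subgroupOf (K ⊔ R)) →* ↥(M ⊓ Subgroup.centralizer (R : Set X)) :=
      { toFun := fun x => ⟨(x.1 : X), x.1.2, Subgroup.mem_centralizer_iff.2 fun b hb =>
          mul_inv_eq_iff_eq_mul.1 (congrArg Subtype.val (x.2 ⟨b, hEE hb⟩ (Subgroup.mem_subgroupOf.2 hb)))⟩
        map_one' := rfl
        map_mul' := fun _ _ => rfl }
    exact isCyclic_of_injective e (fun a b hab => Subtype.ext (Subtype.ext (congrArg (fun x : ↥(M ⊓ Subgroup.centralizer (R : Set X)) => (x : X)) hab)))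
  have hmain := comm_trivial (K.subgroupOf (K ⊔ R)) (R.subgroupOf (K ⊔ R)) hnil' (by
      intro e he he1 u hu h
      apply Subtype.ext
      apply hfpf e (Subgroup.mem_subgroupOf.1 he) (fun h => he1 (Subtype.ext h)) u (Subgroup.mem_subgroupOf.1 hu)
      exact mul_inv_eq_iff_eq_mul.1 (congrArg Subtype.val h)) (conjAct (K ⊔ R) M hMn') hMn hcop.symm hcyc'
  rw [Subgroup.commutator_le]
  intro x hx y hy
  rw [Subgroup.mem_centralizer_iff]
  intro m hm
  have h1 := congrArg Subtype.val (hmain ⁅(⟨x, hUU hx⟩ : ↥(K ⊔ R)), ⟨y, hUU hy⟩⁆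
    (Subgroup.commutator_mem_commutator (Subgroup.mem_subgroupOf.2 hx) (Subgroup.mem_subgroupOf.2 hy)) ⟨m, hm⟩)
  have h2 : ⁅x, y⁆ * m * ⁅x, y⁆⁻¹ = m := h1
  exact (mul_inv_eq_iff_eq_mul.1 h2).symm

end Cfsg.Agent.S1446
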