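import Mathlib
import Cfsg.Agent.H12_BG38
import Cfsg.Agent.S1446

/-! sections `A Z / Z` of a group, and the Frobenius theorem S1446 for sections -/

set_option autoImplicit false
set_option linter.unusedSectionVars false
set_option linter.style.haveILetI false

open Pointwise
open scoped commutatorElement

namespace Cfsg.Agent.H12.BG15

open Cfsg Subgroup H13.Syl H12.Loc H12.Trans H12.BG7 H12.Puig H12.BG9 H12.BG10 H12.BG11 H12.BG12

universe u

variable {G : Type u} [Group G] [Finite G]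

instance barNormal (Z : Subgroup G) : (Z.subgroupOf (normalizer (Z : Set G))).Normal :=
  Core.normal_subgroupOf_of_le le_rfl

/-- the quotient `N(Z)/Z` -/
abbrev NQ (Z : Subgroup G) : Type u := ↥(normalizer (Z : Set G)) ⧸ Z.subgroupOf (normalizer (Z : Set G))

/-- the image of `A` in `N(Z)/Z` -/
def bar (Z A : Subgroup G) : Subgroup (NQ Z) :=
  (A.subgroupOf (normalizer (Z : Set G))).map (QuotientGroup.mk' (Z.subgroupOf (normalizer (Z : Set G))))

/-- the element map -/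
def bq (Z : Subgroup G) (a : G) (h : a ∈ normalizer (Z : Set G)) : NQ Z :=
  QuotientGroup.mk' (Z.subgroupOf (normalizer (Z : Set G))) ⟨a, h⟩

theorem mem_bar {Z A : Subgroup G} {y : NQ Z} :
    y ∈ bar Z A ↔ ∃ a ∈ A, ∃ h : a ∈ normalizer (Z : Set G), bq Z a h = y := by
  constructor
  · rintro ⟨⟨a, h⟩, ha, rfl⟩
    exact ⟨a, mem_subgroupOf.1 ha, h, rfl⟩
  · rintro ⟨a, ha, h, rfl⟩
    exact ⟨⟨a, h⟩, mem_subgroupOf.2 ha, rfl⟩

theorem bq_mem {Z A : Subgroup G} {a : G} (ha : a ∈ A) (h : a ∈ normalizer (Z : Set G)) :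
    bq Z a h ∈ bar Z A := mem_bar.2 ⟨a, ha, h, rfl⟩

theorem bq_eq_one {Z : Subgroup G} {a : G} (h : a ∈ normalizer (Z : Set G)) :
    bq Z a h = 1 ↔ a ∈ Z := by
  rw [bq, QuotientGroup.mk'_apply, QuotientGroup.eq_one_iff]
  exact mem_subgroupOf

theorem bq_mul {Z : Subgroup G} {a b : G} (ha : a ∈ normalizer (Z : Set G))
    (hb : b ∈ normalizer (Z : Set G)) : bq Z a ha * bq Z b hb = bq Z (a * b) (mul_mem ha hb) := rfl

theorem bq_inv {Z : Subgroup G} {a : G} (ha : a ∈ normalizer (Z : Set G)) :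
    (bq Z a ha)⁻¹ = bq Z a⁻¹ (inv_mem ha) := rfl

theorem bq_eq_iff {Z : Subgroup G} {a b : G} (ha : a ∈ normalizer (Z : Set G))
    (hb : b ∈ normalizer (Z : Set G)) : bq Z a ha = bq Z b hb ↔ a * b⁻¹ ∈ Z := by
  rw [← mul_inv_eq_one, bq_inv, bq_mul, bq_eq_one]

theorem bq_comm_iff {Z : Subgroup G} {a b : G} (ha : a ∈ normalizer (Z : Set G))
    (hb : b ∈ normalizer (Z : Set G)) :
    bq Z a ha * bq Z b hb = bq Z b hb * bq Z a ha ↔ a * b * a⁻¹ * b⁻¹ ∈ Z := by
  rw [bq_mul, bq_mul, bq_eq_iff, mul_inv_rev, ← mul_assoc]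

theorem card_bar {Z A : Subgroup G} (hA : A ≤ normalizer (Z : Set G)) :
    Nat.card (bar Z A) = Z.relIndex A := by
  have h1 := relIndex_ker (K := A.subgroupOf (normalizer (Z : Set G)))
    (QuotientGroup.mk' (Z.subgroupOf (normalizer (Z : Set G))))
  rw [QuotientGroup.ker_mk'] at h1
  rw [bar, ← h1, relIndex_subgroupOf hA]

theorem bar_eq_bot {Z A : Subgroup G} (hA : A ≤ normalizer (Z : Set G)) :
    bar Z A = ⊥ ↔ A ≤ Z := by
  rw [← Subgroup.card_eq_one, card_bar hA, relIndex_eq_one]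

theorem bar_mono {Z A B : Subgroup G} (h : A ≤ B) : bar Z A ≤ bar Z B :=
  map_mono (subgroupOf_mono _ h)

theorem bar_sup {Z A B : Subgroup G} (hA : A ≤ normalizer (Z : Set G))
    (hB : B ≤ normalizer (Z : Set G)) : bar Z (A ⊔ B) = bar Z A ⊔ bar Z B := by
  rw [bar, subgroupOf_sup hA hB, Subgroup.map_sup]
  rfl

theorem bar_normalizer {Z A B : Subgroup G} (h : A ≤ normalizer (B : Set G)) :
    bar Z A ≤ normalizer (bar Z B : Set (NQ Z)) := by
  intro y hy
  obtain ⟨a, ha, haN, rfl⟩ := mem_bar.1 hy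
  apply H22.Basic.mem_normalizer_of_cj_le
  show cj _ _ ≤ _
  rw [cj_le_iff_forall]
  intro z hz
  obtain ⟨b, hb, hbN, rfl⟩ := mem_bar.1 hz
  rw [bq_mul, bq_inv, bq_mul]
  exact bq_mem ((mem_normalizer_iff.1 (h ha) b).1 hb) _

theorem bar_commutator {Z A B : Subgroup G} (hA : A ≤ normalizer (Z : Set G))
    (hB : B ≤ normalizer (Z : Set G)) : bar Z ⁅A, B⁆ ≤ ⁅bar Z A, bar Z B⁆ := by
  have h1 : (⁅A.subgroupOf (normalizer (Z : Set G)), B.subgroupOf (normalizer (Z : Set G))⁆).map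
      (normalizer (Z : Set G)).subtype = ⁅A, B⁆ := by
    rw [map_commutator, subgroupOf_map_subtype, subgroupOf_map_subtype, inf_eq_left.2 hA,
      inf_eq_left.2 hB]
  rintro y ⟨a, ha, rfl⟩
  have h2 : (a : G) ∈ ⁅A, B⁆ := mem_subgroupOf.1 ha
  rw [← h1] at h2
  obtain ⟨a', ha', he⟩ := h2
  have h3 : a' = a := Subtype.ext he
  subst h3
  have h4 := mem_map_of_mem (QuotientGroup.mk' (Z.subgroupOf (normalizer (Z : Set G)))) ha'
  rwa [map_commutator] at h4

theorem commutator_bar {Z A B : Subgroup G} : ⁅bar Z A, bar Z B⁆ ≤ bar Z ⁅A, B⁆ := by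
  rw [commutator_le]
  intro x hx y hy
  obtain ⟨a, ha, haN, rfl⟩ := mem_bar.1 hx
  obtain ⟨b, hb, hbN, rfl⟩ := mem_bar.1 hy
  rw [commutatorElement_def, bq_mul, bq_inv, bq_mul, bq_inv, bq_mul]
  exact bq_mem (by rw [← commutatorElement_def]; exact commutator_mem_commutator ha hb) _

/-- membership of the centralizer of a bar -/
theorem bq_mem_cent {Z A : Subgroup G} (hA : A ≤ normalizer (Z : Set G)) {b : G}
    (hb : b ∈ normalizer (Z : Set G)) :
    bq Z b hb ∈ centralizer (bar Z A : Set (NQ Z)) ↔ ∀ a ∈ A, a * b * a⁻¹ * b⁻¹ ∈ Z := by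
  rw [mem_centralizer_iff]
  constructor
  · intro h a ha
    have h1 := h (bq Z a (hA ha)) (bq_mem ha _)
    exact (bq_comm_iff _ _).1 h1
  · intro h y hy
    obtain ⟨a, ha, haN, rfl⟩ := mem_bar.1 hy
    exact (bq_comm_iff _ _).2 (h a ha)

theorem isNilpotent_bar_of {Z A : Subgroup G} (hA : A ≤ normalizer (Z : Set G))
    (h : Group.IsNilpotent A) : Group.IsNilpotent (bar Z A) := by
  haveI := Core.isNilpotent_subgroupOf hA h
  exact Group.nilpotent_of_surjective _ ((QuotientGroup.mk' (Z.subgroupOf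
    (normalizer (Z : Set G)))).subgroupMap_surjective (A.subgroupOf (normalizer (Z : Set G))))

theorem isSolvable_bar_of {Z A : Subgroup G} (h : Group.IsSolvable A) :
    Group.IsSolvable (bar Z A) := by
  have h1 : Group.IsSolvable (A.subgroupOf (normalizer (Z : Set G))) := by
    have h3 : ∀ a : A.subgroupOf (normalizer (Z : Set G)), ((a : normalizer (Z : Set G)) : G) ∈ A :=
      fun a => mem_subgroupOf.1 a.2
    let f : A.subgroupOf (normalizer (Z : Set G)) →* A :=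
      { toFun := fun a => ⟨_, h3 a⟩
        map_one' := rfl
        map_mul' := fun _ _ => rfl }
    have hf : Function.Injective f := by
      intro a b hab
      have := congrArg Subtype.val hab
      exact Subtype.ext (Subtype.ext this)
    haveI := h
    exact Group.isSolvable_of_isSolvable_injective hf
  haveI := h1
  exact Group.isSolvable_of_surjective ((QuotientGroup.mk' (Z.subgroupOf
    (normalizer (Z : Set G)))).subgroupMap_surjective (A.subgroupOf (normalizer (Z : Set G))))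

theorem card_bar_dvd {Z A : Subgroup G} (hA : A ≤ normalizer (Z : Set G)) :
    Nat.card (bar Z A) ∣ Nat.card A := by
  rw [card_bar hA]
  exact relIndex_dvd_card _ _

/-- S1446 for a section `B/Z` -/
theorem sect1446 {Z B D K C : Subgroup G} (hodd : Odd (Nat.card G))
    (hZB : Z ≤ B) (hne : ¬ B ≤ Z) (hBnil : Group.IsNilpotent B)
    (hBZ : B ≤ normalizer (Z : Set G)) (hDZ : D ≤ normalizer (Z : Set G))
    (hKZ : K ≤ normalizer (Z : Set G))
    (hDB : D ≤ normalizer (B : Set G)) (hKB : K ≤ normalizer (B : Set G))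
    (hKD : K ≤ normalizer (D : Set G)) (hK1 : K ≠ ⊥) (hD1 : D ≠ ⊥)
    (hfrob : ∀ k ∈ K, k ≠ 1 → ∀ d ∈ D, d * k = k * d → d = 1)
    (hcD : (Nat.card D).Coprime (Nat.card B)) (hcK : (Nat.card K).Coprime (Nat.card B))
    (hcDK : (Nat.card D).Coprime (Nat.card K))
    (hsol : Group.IsSolvable ↥(D ⊔ K))
    (hfD : ∀ b ∈ B, (∀ d ∈ D, d * b * d⁻¹ * b⁻¹ ∈ Z) → b ∈ Z)
    (hfK : ∀ x ∈ K, x ≠ 1 → ∀ b ∈ B, x * b * x⁻¹ * b⁻¹ ∈ Z → ∀ k ∈ K, k * b * k⁻¹ * b⁻¹ ∈ Z)
    (hCB : C ≤ B) (hC : ∀ b ∈ B, b ∈ C ↔ ∀ k ∈ K, k * b * k⁻¹ * b⁻¹ ∈ Z) :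
    (Nat.card K).Prime ∧ Nat.card B = Nat.card Z * (Z.relIndex C) ^ (Nat.card K) ∧
      ((Z.relIndex C).Prime → ∀ d ∈ ⁅D, D⁆, ∀ b ∈ B, d * b * d⁻¹ * b⁻¹ ∈ Z) := by
  classical
  have hcZD : (Nat.card Z).Coprime (Nat.card D) :=
    (Nat.Coprime.coprime_dvd_right (card_dvd_of_le hZB) hcD).symm
  have hcZK : (Nat.card Z).Coprime (Nat.card K) :=
    (Nat.Coprime.coprime_dvd_right (card_dvd_of_le hZB) hcK).symm
  have hDKZ : D ⊔ K ≤ normalizer (Z : Set G) := sup_le hDZ hKZ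
  have hbars : bar Z (D ⊔ K) = bar Z D ⊔ bar Z K := bar_sup hDZ hKZ
  have hDZ1 : D ⊓ Z = ⊥ := H22.Basic.inf_eq_bot_of_coprime hcZD.symm
  have hKZ1 : K ⊓ Z = ⊥ := H22.Basic.inf_eq_bot_of_coprime hcZK.symm
  have hcopDK : (Nat.card ↥(D ⊔ K)).Coprime (Nat.card B) := by
    have h1 : Nat.card ↥(D ⊔ K) = Nat.card D * Nat.card K :=
      H22.Basic.card_sup_of_coprime hKD hcDK
    rw [h1]
    exact Nat.Coprime.mul_left hcD hcK
  have hK1' : bar Z K ≠ ⊥ := by
    rw [Ne, bar_eq_bot hKZ]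
    intro h
    apply hK1
    rw [eq_bot_iff, ← hKZ1]
    exact le_inf le_rfl h
  have hD1' : bar Z D ≠ ⊥ := by
    rw [Ne, bar_eq_bot hDZ]
    intro h
    apply hD1
    rw [eq_bot_iff, ← hDZ1]
    exact le_inf le_rfl h
  have hcb : (Nat.card (bar Z D)).Coprime (Nat.card (bar Z K)) :=
    Nat.Coprime.coprime_dvd_left (card_bar_dvd hDZ)
      (Nat.Coprime.coprime_dvd_right (card_bar_dvd hKZ) hcDK)
  have hfr : ∀ r ∈ bar Z K, r ≠ 1 → bar Z D ⊓ centralizer ({r} : Set (NQ Z)) = ⊥ := by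
    intro r hr hr1
    obtain ⟨k, hk, hkN, rfl⟩ := mem_bar.1 hr
    rw [eq_bot_iff]
    intro y hy
    obtain ⟨hy1, hy2⟩ := mem_inf.1 hy
    obtain ⟨d, hd, hdN, rfl⟩ := mem_bar.1 hy1
    have h1 := mem_centralizer_iff.1 hy2 _ rfl
    rw [bq_comm_iff] at h1
    have hk1 : k ≠ 1 := by
      rintro rfl
      exact hr1 ((bq_eq_one _).2 (one_mem _))
    have h2 : k * d * k⁻¹ * d⁻¹ ∈ D := mul_mem ((mem_normalizer_iff.1 (hKD hk) d).1 hd) (inv_mem hd)
    have h3 : k * d * k⁻¹ * d⁻¹ = 1 := by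
      have : k * d * k⁻¹ * d⁻¹ ∈ D ⊓ Z := ⟨h2, h1⟩
      rw [hDZ1] at this
      exact mem_bot.1 this
    have h4 : d * k = k * d := by
      have : k * d * k⁻¹ = d := mul_inv_eq_one.1 h3
      calc d * k = (k * d * k⁻¹) * k := by rw [this]
        _ = k * d := by group
    rw [mem_bot, bq_eq_one, hfrob k hk hk1 d hd h4]
    exact one_mem _
  have hbarC : bar Z B ⊓ centralizer (bar Z K : Set (NQ Z)) = bar Z C := by
    apply le_antisymm
    · intro y hy
      obtain ⟨hy1, hy2⟩ := mem_inf.1 hy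
      obtain ⟨b, hb, hbN, rfl⟩ := mem_bar.1 hy1
      exact bq_mem ((hC b hb).2 ((bq_mem_cent hKZ hbN).1 hy2)) _
    · intro y hy
      obtain ⟨c, hc, hcN, rfl⟩ := mem_bar.1 hy
      exact mem_inf.2 ⟨bq_mem (hCB hc) _, (bq_mem_cent hKZ hcN).2 ((hC c (hCB hc)).1 hc)⟩
  have hcardC : Nat.card ↥(bar Z B ⊓ centralizer (bar Z K : Set (NQ Z))) = Z.relIndex C := by
    rw [hbarC, card_bar (hCB.trans hBZ)]
  have h := S1446.result (bar Z D) (bar Z K) (bar Z B) hD1' hK1'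
    (H22.Basic.inf_eq_bot_of_coprime hcb) (bar_normalizer hKD) hfr
    (by rw [← hbars]; exact isSolvable_bar_of hsol)
    (by
      rw [← hbars]
      refine Odd.of_dvd_nat hodd ((card_bar_dvd hDKZ).trans (card_subgroup_dvd_card _)))
    (by rw [Ne, bar_eq_bot hBZ]; exact hne)
    (isNilpotent_bar_of hBZ hBnil) (bar_normalizer hDB) (bar_normalizer hKB)
    (by
      rw [← hbars]
      exact Nat.Coprime.coprime_dvd_left (card_bar_dvd hDKZ)
        (Nat.Coprime.coprime_dvd_right (card_bar_dvd hBZ) hcopDK))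
    (by
      rw [eq_bot_iff]
      intro y hy
      obtain ⟨hy1, hy2⟩ := mem_inf.1 hy
      obtain ⟨b, hb, hbN, rfl⟩ := mem_bar.1 hy1
      exact (bq_eq_one _).2 (hfD b hb ((bq_mem_cent hDZ hbN).1 hy2)))
    (by
      intro x hx hx1
      apply le_antisymm
      · intro y hy
        obtain ⟨hy1, hy2⟩ := mem_inf.1 hy
        obtain ⟨b, hb, hbN, rfl⟩ := mem_bar.1 hy1
        obtain ⟨k, hk, hkN, rfl⟩ := mem_bar.1 hx
        have hk1 : k ≠ 1 := by
          rintro rfl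
          exact hx1 ((bq_eq_one _).2 (one_mem _))
        have h1 := mem_centralizer_iff.1 hy2 _ rfl
        rw [bq_comm_iff] at h1
        exact mem_inf.2 ⟨hy1, (bq_mem_cent hKZ hbN).2 (hfK k hk hk1 b hb h1)⟩
      · refine inf_le_inf_left _ (centralizer_le ?_)
        rintro y rfl
        exact hx)
  obtain ⟨h1, h2, h3⟩ := h
  have hKcard : Nat.card (bar Z K) = Nat.card K := by
    rw [card_bar hKZ, ← inf_relIndex_right, inf_comm, hKZ1, relIndex_bot_left]
  rw [hKcard] at h1 h2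
  rw [hcardC] at h2
  refine ⟨h1, ?_, ?_⟩
  · rw [← h2, card_bar hBZ]
    exact (H22.Basic.card_mul_relIndex hZB).symm
  · intro hp d hd b hb
    have hcyc : IsCyclic ↥(bar Z B ⊓ centralizer (bar Z K : Set (NQ Z))) := by
      haveI := Fact.mk hp
      exact isCyclic_of_prime_card hcardC
    have h4 := h3 hcyc
    have hdN : d ∈ normalizer (Z : Set G) :=
      hDZ ((commutator_le_self D) hd)
    have h5 : bq Z d hdN ∈ ⁅bar Z D, bar Z D⁆ := bar_commutator hDZ hDZ (bq_mem hd hdN)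
    have h6 := mem_centralizer_iff.1 (h4 h5) (bq Z b (hBZ hb)) (bq_mem hb _)
    exact (bq_comm_iff _ _).1 h6.symm

end Cfsg.Agent.H12.BG15
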