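import Mathlib
import Cfsg.Agent.H12_BG15a
import Cfsg.Agent.H22_Coprime3
import Cfsg.Agent.H17_Frat

/-! the structure of `Q` in BG 15.2 -/

set_option autoImplicit false
set_option linter.unusedSectionVars false
set_option linter.style.haveILetI false

open Pointwise
open scoped commutatorElement

namespace Cfsg.Agent.H12.BG15

open Cfsg Subgroup H13.Syl H12.Loc H12.Trans H12.BG7 H12.Puig H12.BG9 H12.BG10 H12.BG11 H12.BG12

universe u

variable {G : Type u} [Group G] [Finite G]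

/-- Frattini subgroup of `[Q, D]` -/
def PhiB (Q D : Subgroup G) : Subgroup G := (frattini ↥⁅Q, D⁆).map (⁅Q, D⁆ : Subgroup G).subtype

/-- the hypotheses on `Q`, `D`, `K` -/
structure QDK (q : ℕ) (Q D K : Subgroup G) : Prop where
  odd : Odd (Nat.card G)
  Qp : IsPGroup q Q
  DQ : D ≤ normalizer (Q : Set G)
  KQ : K ≤ normalizer (Q : Set G)
  KD : K ≤ normalizer (D : Set G)
  K1 : K ≠ ⊥
  frob : ∀ k ∈ K, k ≠ 1 → ∀ d ∈ D, d * k = k * d → d = 1
  cD : (Nat.card D).Coprime (Nat.card Q)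
  cK : (Nat.card K).Coprime (Nat.card Q)
  cDK : (Nat.card D).Coprime (Nat.card K)
  sol : Group.IsSolvable ↥(D ⊔ K)
  st : Nat.card ↥(Q ⊓ centralizer (K : Set G)) = q
  pr : ∀ x ∈ K, x ≠ 1 → Q ⊓ centralizer ({x} : Set G) ≤ centralizer (K : Set G)
  nc : ¬ D ≤ centralizer (Q : Set G)

theorem nongen {B W : Subgroup G} (hW : W ≤ B) (h : B ≤ W ⊔ (frattini B).map B.subtype) : B ≤ W := by
  have h1 : W.subgroupOf B ⊔ frattini B = ⊤ := by
    apply map_injective B.subtype_injective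
    rw [Subgroup.map_sup, subgroupOf_map_subtype, inf_eq_left.2 hW, ← MonoidHom.range_eq_map,
      range_subtype]
    exact le_antisymm (sup_le hW (map_subtype_le _)) h
  have h2 := frattini_nongenerating h1
  intro b hb
  have h3 : (⟨b, hb⟩ : B) ∈ W.subgroupOf B := by rw [h2]; trivial
  exact mem_subgroupOf.1 h3

namespace QDK

variable {q : ℕ} [hq : Fact q.Prime] {Q D K : Subgroup G}

theorem solD (h : QDK q Q D K) : Group.IsSolvable D := by
  haveI := h.sol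
  exact Group.isSolvable_of_isSolvable_injective (inclusion_injective (le_sup_left : D ≤ D ⊔ K))

theorem D1 (h : QDK q Q D K) : D ≠ ⊥ := by
  rintro rfl
  exact h.nc bot_le

theorem B_le (h : QDK q Q D K) : ⁅Q, D⁆ ≤ Q := H1.Coprime.commutator_le_of_le_normalizer h.DQ

theorem B_ne (h : QDK q Q D K) : ⁅Q, D⁆ ≠ ⊥ := by
  intro hb
  apply h.nc
  rw [commutator_comm] at hb
  exact commutator_eq_bot_iff_le_centralizer.1 hb

theorem Bp (h : QDK q Q D K) : IsPGroup q ↥⁅Q, D⁆ := h.Qp.to_le h.B_le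

theorem F_lt (h : QDK q Q D K) : PhiB Q D < ⁅Q, D⁆ := H22.Coprime3.map_frattini_lt h.B_ne

theorem QB (_h : QDK q Q D K) : Q ≤ normalizer ((⁅Q, D⁆ : Subgroup G) : Set G) :=
  H22.Basic.left_le_normalizer_commutator Q D

theorem DB (_h : QDK q Q D K) : D ≤ normalizer ((⁅Q, D⁆ : Subgroup G) : Set G) :=
  H22.Basic.right_le_normalizer_commutator Q D

theorem KB (h : QDK q Q D K) : K ≤ normalizer ((⁅Q, D⁆ : Subgroup G) : Set G) :=
  H22.Basic.le_normalizer_commutator h.KQ h.KD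

omit hq in
theorem NF {A : Subgroup G} (hA : A ≤ normalizer ((⁅Q, D⁆ : Subgroup G) : Set G)) :
    A ≤ normalizer (PhiB Q D : Set G) := H22.Coprime3.le_normalizer_map_frattini hA

theorem BBF (h : QDK q Q D K) : ⁅(⁅Q, D⁆ : Subgroup G), ⁅Q, D⁆⁆ ≤ PhiB Q D :=
  H22.Coprime3.commutator_le_map_frattini h.Bp

theorem BDB (h : QDK q Q D K) : ⁅(⁅Q, D⁆ : Subgroup G), D⁆ = ⁅Q, D⁆ :=
  H1.Coprime.commutator_commutator_eq D Q h.DQ h.cD (Or.inl h.solD)

theorem cB (h : QDK q Q D K) {A B' : Subgroup G} (hA : (Nat.card A).Coprime (Nat.card Q))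
    (hB' : B' ≤ Q) : (Nat.card A).Coprime (Nat.card B') :=
  Nat.Coprime.coprime_dvd_right (card_dvd_of_le hB') hA

/-- `C_B(D) ≤ Φ(B)` -/
theorem BcD (h : QDK q Q D K) : (⁅Q, D⁆ : Subgroup G) ⊓ centralizer (D : Set G) ≤ PhiB Q D :=
  (Trans.inf_centralizer_le_rel h.DB (h.cB h.cD h.B_le) h.BDB).trans h.BBF

theorem solK (h : QDK q Q D K) : Group.IsSolvable K := by
  haveI := h.sol
  exact Group.isSolvable_of_isSolvable_injective (inclusion_injective (le_sup_right : K ≤ D ⊔ K))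

/-- the chain lemma -/
theorem chain (h : QDK q Q D K) {B' : Subgroup G} (hF : PhiB Q D ≤ B') (hB : B' ≤ ⁅Q, D⁆)
    (hDB : D ≤ normalizer (B' : Set G)) (hKB : K ≤ normalizer (B' : Set G)) (hne : ¬ B' ≤ PhiB Q D) :
    (Nat.card K).Prime ∧ Nat.card B' = Nat.card (PhiB Q D) * q ^ Nat.card K ∧
      (∀ d ∈ ⁅D, D⁆, ∀ b ∈ B', d * b * d⁻¹ * b⁻¹ ∈ PhiB Q D) ∧ PhiB Q D ⊓ centralizer (K : Set G) = ⊥ := by
  have hB'Q : B' ≤ Q := hB.trans h.B_le
  have hBF : B' ≤ normalizer (PhiB Q D : Set G) := hB.trans (NF le_normalizer)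
  have hB'p : IsPGroup q B' := h.Qp.to_le hB'Q
  have hFQ : PhiB Q D ≤ Q := h.F_lt.le.trans h.B_le
  have hFs : Group.IsSolvable (PhiB Q D) := by
    haveI := (h.Qp.to_le hFQ).isNilpotent
    infer_instance
  set C : Subgroup G := PhiB Q D ⊔ (B' ⊓ centralizer (K : Set G)) with hCdef
  have hcn : B' ⊓ centralizer (K : Set G) ≤ normalizer (PhiB Q D : Set G) := inf_le_left.trans hBF
  have hCB : C ≤ B' := sup_le hF inf_le_left
  have hC : ∀ b ∈ B', b ∈ C ↔ ∀ k ∈ K, k * b * k⁻¹ * b⁻¹ ∈ PhiB Q D := by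
    intro b hb
    constructor
    · intro hbC k hk
      obtain ⟨f, hf, c, hc, rfl⟩ := (H22.Basic.mem_sup_of_le_normalizer hcn).1 hbC
      have h1 : k * c = c * k := mem_centralizer_iff.1 (mem_inf.1 hc).2 k hk
      have h2 : k * (f * c) * k⁻¹ * (f * c)⁻¹ = (k * f * k⁻¹) * f⁻¹ := by
        have : k * c * k⁻¹ = c := by rw [h1]; group
        calc k * (f * c) * k⁻¹ * (f * c)⁻¹ = (k * f * k⁻¹) * (k * c * k⁻¹) * c⁻¹ * f⁻¹ := by group
          _ = (k * f * k⁻¹) * f⁻¹ := by rw [this]; group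
      rw [h2]
      exact mul_mem ((mem_normalizer_iff.1 (NF h.KB hk) f).1 hf) (inv_mem hf)
    · intro hk
      obtain ⟨f, hf, hfc⟩ := H1.Coprime.exists_mul_mem_centralizer (A := K) (D := PhiB Q D)
        (NF h.KB) (h.cB h.cK hFQ) (Or.inr hFs) b (by
          intro a ha
          have h1 := hk a ha
          have h2 : b⁻¹ * (a * b * a⁻¹) = b⁻¹ * (a * b * a⁻¹ * b⁻¹) * b⁻¹⁻¹ := by group
          rw [h2]
          exact (mem_normalizer_iff.1 (inv_mem (hBF hb)) _).1 h1)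
      have h3 : b = (b * f) * f⁻¹ := by group
      rw [h3]
      refine mul_mem ((le_sup_right : _ ≤ C) (mem_inf.2 ⟨mul_mem hb (hF hf), hfc⟩))
        ((le_sup_left : _ ≤ C) (inv_mem hf))
  have hres := sect1446 (Z := PhiB Q D) (B := B') (D := D) (K := K) (C := C) h.odd hF hne
    hB'p.isNilpotent hBF (NF h.DB) (NF h.KB) hDB hKB h.KD h.K1 h.D1 h.frob
    (h.cB h.cD hB'Q) (h.cB h.cK hB'Q) h.cDK h.sol
    (by
      intro b hb hd
      obtain ⟨f, hf, hfc⟩ := H1.Coprime.exists_mul_mem_centralizer (A := D) (D := PhiB Q D)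
        (NF h.DB) (h.cB h.cD hFQ) (Or.inr hFs) b (by
          intro a ha
          have h1 := hd a ha
          have h2 : b⁻¹ * (a * b * a⁻¹) = b⁻¹ * (a * b * a⁻¹ * b⁻¹) * b⁻¹⁻¹ := by group
          rw [h2]
          exact (mem_normalizer_iff.1 (inv_mem (hBF hb)) _).1 h1)
      have h4 : b * f ∈ PhiB Q D := h.BcD ⟨mul_mem (hB hb) (h.F_lt.le hf), hfc⟩
      have h3 : b = (b * f) * f⁻¹ := by group
      rw [h3]
      exact mul_mem h4 (inv_mem hf))
    (by
      intro x hx hx1 b hb hxb k hk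
      have hzx : zpowers x ≤ K := by rwa [zpowers_le]
      obtain ⟨f, hf, hfc⟩ := H1.Coprime.exists_mul_mem_centralizer (A := zpowers x) (D := PhiB Q D)
        (hzx.trans (NF h.KB)) (h.cB (Nat.Coprime.coprime_dvd_left (card_dvd_of_le hzx) h.cK) hFQ)
        (Or.inr hFs) b (by
          refine Sect.fix_zpowers (NF h.KB hx) ?_
          have h2 : b⁻¹ * (x * b * x⁻¹) = b⁻¹ * (x * b * x⁻¹ * b⁻¹) * b⁻¹⁻¹ := by group
          rw [h2]
          exact (mem_normalizer_iff.1 (inv_mem (hBF hb)) _).1 hxb)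
      rw [centralizer_zpowers] at hfc
      have h4 : b * f ∈ C := (le_sup_right : _ ≤ C) (mem_inf.2 ⟨mul_mem hb (hF hf),
        h.pr x hx hx1 ⟨mul_mem (hB'Q hb) (hFQ hf), hfc⟩⟩)
      have h3 : b = (b * f) * f⁻¹ := by group
      have h5 : b ∈ C := by
        rw [h3]
        exact mul_mem h4 ((le_sup_left : _ ≤ C) (inv_mem hf))
      exact (hC b hb).1 h5 k hk)
    hCB hC
  obtain ⟨hKp, hcard, hDD⟩ := hres
  -- the index of `F` in `C`
  have hidx : (PhiB Q D).relIndex C = (PhiB Q D).relIndex (B' ⊓ centralizer (K : Set G)) := by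
    rw [hCdef, sup_comm]
    exact H1.Basic.relIndex_sup_of_le_normalizer hcn
  have hst : B' ⊓ centralizer (K : Set G) ≤ Q ⊓ centralizer (K : Set G) :=
    inf_le_inf_right _ hB'Q
  have hd : (PhiB Q D).relIndex C ∣ q := by
    rw [hidx, ← h.st]
    exact (relIndex_dvd_card _ _).trans (card_dvd_of_le hst)
  have h1 : (PhiB Q D).relIndex C ≠ 1 := by
    intro h1
    rw [h1, one_pow, mul_one] at hcard
    exact hne (H22.Basic.eq_of_le_of_card_le hF hcard.le).ge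
  have hq1 : (PhiB Q D).relIndex C = q := (hq.out.eq_one_or_self_of_dvd _ hd).resolve_left h1
  rw [hq1] at hcard
  refine ⟨hKp, hcard, hDD (hq1 ▸ hq.out), ?_⟩
  -- `F ∩ C(K) = 1`
  have hcc : Nat.card ↥(B' ⊓ centralizer (K : Set G)) = q := by
    have h2 : q ∣ Nat.card ↥(B' ⊓ centralizer (K : Set G)) := by
      rw [← hq1, hidx]; exact relIndex_dvd_card _ _
    have h3 : Nat.card ↥(B' ⊓ centralizer (K : Set G)) ∣ q := by
      rw [← h.st]; exact card_dvd_of_le hst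
    exact Nat.dvd_antisymm h3 h2
  have h4 : (PhiB Q D ⊓ (B' ⊓ centralizer (K : Set G))).relIndex (B' ⊓ centralizer (K : Set G)) = q := by
    rw [inf_relIndex_right, ← hidx, hq1]
  have h5 := H22.Basic.card_mul_relIndex
    (inf_le_right : PhiB Q D ⊓ (B' ⊓ centralizer (K : Set G)) ≤ B' ⊓ centralizer (K : Set G))
  rw [h4, hcc] at h5
  have h6 : Nat.card ↥(PhiB Q D ⊓ (B' ⊓ centralizer (K : Set G))) = 1 := by
    have := hq.out.pos
    exact Nat.eq_of_mul_eq_mul_right this (by rw [h5, one_mul])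
  rw [Subgroup.card_eq_one] at h6
  rw [eq_bot_iff, ← h6]
  exact le_inf inf_le_left (le_inf (inf_le_left.trans hF) inf_le_right)

theorem Kprime (h : QDK q Q D K) : (Nat.card K).Prime :=
  (h.chain h.F_lt.le le_rfl h.DB h.KB (not_le_of_gt h.F_lt)).1

theorem cardB (h : QDK q Q D K) : Nat.card ↥⁅Q, D⁆ = Nat.card (PhiB Q D) * q ^ Nat.card K :=
  (h.chain h.F_lt.le le_rfl h.DB h.KB (not_le_of_gt h.F_lt)).2.1

theorem FQ (h : QDK q Q D K) : PhiB Q D ≤ Q := h.F_lt.le.trans h.B_le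

theorem FcD (h : QDK q Q D K) : PhiB Q D ≤ centralizer (D : Set G) := by
  have h1 := (h.chain h.F_lt.le le_rfl h.DB h.KB (not_le_of_gt h.F_lt)).2.2.2
  have hFs : Group.IsSolvable (PhiB Q D) := by
    haveI := (h.Qp.to_le h.FQ).isNilpotent
    infer_instance
  have h2 := FrobK.frob_trivial (M := PhiB Q D) (K := D) (R := K) hFs (NF h.DB) (NF h.KB) h.KD
    (h.cB h.cD h.FQ) (h.cB h.cK h.FQ) h.frob h1
  exact le_centralizer_iff.1 h2

theorem BQF (h : QDK q Q D K) : ⁅(⁅Q, D⁆ : Subgroup G), Q⁆ ≤ PhiB Q D := by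
  by_contra hcon
  set W : Subgroup G := ⁅(⁅Q, D⁆ : Subgroup G), Q⁆ ⊔ PhiB Q D with hW
  have hWn : ∀ A : Subgroup G, A ≤ normalizer (Q : Set G) → A ≤ normalizer ((⁅Q, D⁆ : Subgroup G) : Set G) →
      A ≤ normalizer (W : Set G) := fun A h1 h2 =>
    H22.Basic.le_normalizer_sup (H22.Basic.le_normalizer_commutator h2 h1) (NF h2)
  have hWB : W ≤ ⁅Q, D⁆ := sup_le (H22.Basic.commutator_le_left h.QB) h.F_lt.le
  have h1 := h.chain (B' := W) le_sup_right hWB (hWn D h.DQ h.DB) (hWn K h.KQ h.KB)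
    (fun hh => hcon ((le_sup_left : _ ≤ W).trans hh))
  have h2 : W = ⁅Q, D⁆ := H22.Basic.eq_of_le_of_card_le hWB (by rw [h1.2.1, h.cardB])
  have h3 : (⁅Q, D⁆ : Subgroup G) ≤ ⁅(⁅Q, D⁆ : Subgroup G), Q⁆ :=
    nongen (H22.Basic.commutator_le_left h.QB) h2.ge
  exact H1.Coprime.commutator_lt_of_nilpotent h.Qp.isNilpotent h.B_le h.B_ne h3

/-- `Q₀ = C_Q(D)` contains `Φ(B)` -/
theorem F_le (h : QDK q Q D K) : PhiB Q D ≤ Q ⊓ centralizer (D : Set G) := le_inf h.FQ h.FcD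

theorem supB (h : QDK q Q D K) : (⁅Q, D⁆ : Subgroup G) ⊔ (Q ⊓ centralizer (D : Set G)) = Q :=
  H1.Coprime.commutator_sup_centralizer D Q h.DQ h.cD (Or.inl h.solD)

theorem BQ0 (h : QDK q Q D K) :
    (⁅Q, D⁆ : Subgroup G) ≤ normalizer ((Q ⊓ centralizer (D : Set G) : Subgroup G) : Set G) := by
  intro b hb
  apply H22.Basic.mem_normalizer_of_cj_le
  show cj b _ ≤ _
  rw [cj_le_iff_forall]
  intro c hc
  have h1 : ⁅b, c⁆ ∈ PhiB Q D := h.BQF (commutator_mem_commutator hb (mem_inf.1 hc).1)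
  have h2 : b * c * b⁻¹ = ⁅b, c⁆ * c := by rw [commutatorElement_def]; group
  rw [h2]
  exact mul_mem (h.F_le h1) hc

/-- `Q` normalizes `Q₀` -/
theorem QQ0 (h : QDK q Q D K) :
    Q ≤ normalizer ((Q ⊓ centralizer (D : Set G) : Subgroup G) : Set G) := by
  have h1 := sup_le h.BQ0 (le_normalizer (H := Q ⊓ centralizer (D : Set G)))
  rwa [h.supB] at h1

theorem DQ0 (h : QDK q Q D K) :
    D ≤ normalizer ((Q ⊓ centralizer (D : Set G) : Subgroup G) : Set G) :=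
  H22.Basic.le_normalizer_inf h.DQ (H22.Basic.le_normalizer_centralizer le_normalizer)

theorem KQ0 (h : QDK q Q D K) :
    K ≤ normalizer ((Q ⊓ centralizer (D : Set G) : Subgroup G) : Set G) :=
  H22.Basic.le_normalizer_inf h.KQ (H22.Basic.le_normalizer_centralizer h.KD)

theorem infB (h : QDK q Q D K) :
    (Q ⊓ centralizer (D : Set G)) ⊓ (⁅Q, D⁆ : Subgroup G) = PhiB Q D := by
  apply le_antisymm
  · exact le_trans (le_inf inf_le_right (inf_le_left.trans inf_le_right)) h.BcD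
  · exact le_inf h.F_le h.F_lt.le

theorem cardQ (h : QDK q Q D K) :
    Nat.card Q = Nat.card ↥(Q ⊓ centralizer (D : Set G)) * q ^ Nat.card K := by
  have h1 := H1.Basic.relIndex_sup_of_le_normalizer h.BQ0
  rw [h.supB, ← inf_relIndex_right _ (⁅Q, D⁆ : Subgroup G), h.infB] at h1
  have h2 := H22.Basic.card_mul_relIndex h.F_lt.le
  rw [h.cardB] at h2
  have h3 : (PhiB Q D).relIndex ⁅Q, D⁆ = q ^ Nat.card K :=
    Nat.eq_of_mul_eq_mul_left Nat.card_pos h2
  rw [h3] at h1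
  rw [← h1]
  exact (H22.Basic.card_mul_relIndex inf_le_left).symm

theorem commQ0 (h : QDK q Q D K) : ⁅Q, Q⁆ ≤ Q ⊓ centralizer (D : Set G) := by
  have h1 := comm_le_of_sup (K := Q ⊓ centralizer (D : Set G)) (P := ⁅Q, D⁆) (L := Q) inf_le_left
    h.QQ0 (by rw [sup_comm]; exact h.supB)
  exact h1.trans (sup_le (h.BBF.trans h.F_le) le_rfl)

theorem powQ0 (h : QDK q Q D K) {a : G} (ha : a ∈ Q) : a ^ q ∈ Q ⊓ centralizer (D : Set G) := by
  have h1 : a ∈ (⁅Q, D⁆ : Subgroup G) ⊔ (Q ⊓ centralizer (D : Set G)) := by rw [h.supB]; exact ha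
  obtain ⟨c, hc, b, hb, rfl⟩ := (H22.Basic.mem_sup_of_le_normalizer' h.BQ0).1
    (by rw [sup_comm] at h1; exact h1)
  have h2 := h.commQ0 (H17.Base.pow_mul_mem_commutator (P := Q) (h.B_le hc) (mem_inf.1 hb).1 q)
  have h3 : b ^ q ∈ Q ⊓ centralizer (D : Set G) := pow_mem hb q
  have h4 : c ^ q ∈ Q ⊓ centralizer (D : Set G) :=
    h.F_le (H22.Coprime3.pow_mem_map_frattini h.Bp hc)
  have h5 : (c * b) ^ q = ((c * b) ^ q * (b ^ q)⁻¹ * (c ^ q)⁻¹) * c ^ q * b ^ q := by group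
  rw [h5]
  exact mul_mem (mul_mem h2 h4) h3

theorem irr (h : QDK q Q D K) {N : Subgroup G} (h1 : Q ⊓ centralizer (D : Set G) ≤ N) (h2 : N ≤ Q)
    (hDN : D ≤ normalizer (N : Set G)) (hKN : K ≤ normalizer (N : Set G)) :
    N = Q ⊓ centralizer (D : Set G) ∨ N = Q := by
  have hded := H22.Basic.dedekind (N := Q ⊓ centralizer (D : Set G)) (K := ⁅Q, D⁆) (M := N)
    h.BQ0 h1 (by rw [sup_comm, h.supB]; exact h2)
  by_cases hc : (⁅Q, D⁆ : Subgroup G) ⊓ N ≤ PhiB Q D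
  · left
    apply le_antisymm _ h1
    rw [hded]
    exact sup_le le_rfl (hc.trans h.F_le)
  · right
    have h3 := h.chain (B' := (⁅Q, D⁆ : Subgroup G) ⊓ N) (le_inf h.F_lt.le (h.F_le.trans h1))
      inf_le_left (H22.Basic.le_normalizer_inf h.DB hDN) (H22.Basic.le_normalizer_inf h.KB hKN) hc
    have h4 : (⁅Q, D⁆ : Subgroup G) ⊓ N = ⁅Q, D⁆ := H22.Basic.eq_of_le_of_card_le inf_le_left
      (by rw [h3.2.1, h.cardB])
    apply le_antisymm h2
    rw [← h.supB]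
    exact sup_le (inf_eq_left.1 h4) h1

theorem commD (h : QDK q Q D K) : ⁅D, D⁆ ≤ centralizer (Q : Set G) := by
  rw [le_centralizer_iff, ← h.supB]
  have hDD : ⁅D, D⁆ ≤ D := commutator_le_self D
  have hFs : Group.IsSolvable (PhiB Q D) := by
    haveI := (h.Qp.to_le h.FQ).isNilpotent
    infer_instance
  apply sup_le
  · intro b hb
    have h1 := (h.chain h.F_lt.le le_rfl h.DB h.KB (not_le_of_gt h.F_lt)).2.2.1
    obtain ⟨f, hf, hfc⟩ := H1.Coprime.exists_mul_mem_centralizer (A := ⁅D, D⁆) (D := PhiB Q D)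
        (hDD.trans (NF h.DB)) (h.cB (Nat.Coprime.coprime_dvd_left (card_dvd_of_le hDD) h.cD) h.FQ)
        (Or.inr hFs) b (by
          intro a ha
          have h3 := h1 a ha b hb
          have h2 : b⁻¹ * (a * b * a⁻¹) = b⁻¹ * (a * b * a⁻¹ * b⁻¹) * b⁻¹⁻¹ := by group
          rw [h2]
          exact (mem_normalizer_iff.1 (inv_mem (NF le_normalizer hb)) _).1 h3)
    have h4 : b = (b * f) * f⁻¹ := by group
    rw [h4]
    exact mul_mem hfc (inv_mem ((centralizer_le hDD) (h.FcD hf)))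
  · exact inf_le_right.trans (centralizer_le hDD)

theorem Q0_lt (h : QDK q Q D K) : Q ⊓ centralizer (D : Set G) < Q := by
  refine lt_of_le_of_ne inf_le_left fun he => h.nc ?_
  rw [le_centralizer_iff]
  exact inf_eq_left.1 he

end QDK

end Cfsg.Agent.H12.BG15
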