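import Mathlib
import Cfsg.Agent.H2_Con13

/-! BG §14: basics on `kappa`, Proposition 14.1 -/

set_option autoImplicit false
set_option linter.unusedSectionVars false

open Pointwise
open scoped commutatorElement

namespace Cfsg.Agent.H2.BG14

open Cfsg Subgroup H13.Syl H12.Loc H12.BG7 H12.BG10 H12.BG11 H12.BG12 

universe u

variable {G : Type u} [Group G] [Finite G]

/-- a prime dividing `|M|` outside `sigma M` is in one of the `tau_i` -/
theorem tau_cases (hG : IsMinSimpleOddOrder G) {M : Subgroup G} (hM : IsCoatom M) {p : ℕ} (hp : p.Prime)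
    (hpM : p ∣ Nat.card M) (hσ : p ∉ sigma M) : p ∈ tau2 M ∨ (PRankLE p 1 M ∧ (p ∈ tau1 M ∨ p ∈ tau3 M)) := by
  have h2 := pRankLE_two_of_not_sigma hG hM hp hσ
  by_cases h1 : PRankLE p 1 M
  · refine Or.inr ⟨h1, ?_⟩
    by_cases h3 : p ∣ Nat.card ↥⁅M, M⁆
    · exact Or.inr ⟨hp, hσ, h3, h1⟩
    · exact Or.inl ⟨hp, hσ, hpM, h3, h1⟩
  · exact Or.inl ⟨hp, hσ, h2, h1⟩

theorem comm_le_self (M : Subgroup G) : ⁅M, M⁆ ≤ M := by
  rw [Subgroup.commutator_le]
  intro a ha b hb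
  exact commutatorElement_def a b ▸ mul_mem (mul_mem (mul_mem ha hb) (inv_mem ha)) (inv_mem hb)

theorem tau1_dvd {M : Subgroup G} {p : ℕ} (h : p ∈ tau1 M) : p ∣ Nat.card M := h.2.2.1

theorem tau3_dvd {M : Subgroup G} {p : ℕ} (h : p ∈ tau3 M) : p ∣ Nat.card M :=
  h.2.2.1.trans (card_dvd_of_le (comm_le_self M))

theorem tau2_dvd {M : Subgroup G} {p : ℕ} (h : p ∈ tau2 M) : p ∣ Nat.card M :=
  dvd_of_not_pRankLE h.1 h.2.2.2

theorem sylow_cyclic (hG : IsMinSimpleOddOrder G) {p : ℕ} [Fact p.Prime] {P M : Subgroup G} (hP : IsSylIn p P M)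
    (h : PRankLE p 1 M) : IsCyclic P :=
  cyclic_sylow hG hP.isPGroup (H12.SCN.pRankLE_mono hP.le h)

/-- the subgroup of order `p` of a cyclic `p`-group lies in every nontrivial cyclic subgroup -/
theorem le_zpowers_of_cyclic {p : ℕ} [hp : Fact p.Prime] {P X : Subgroup G} (hP : IsPGroup p P) (hc : IsCyclic P) (hXP : X ≤ P)
    (hX : Nat.card X = p) {x : G} (hx : x ∈ P) (hx1 : x ≠ 1) : X ≤ zpowers x := by
  obtain ⟨k, hk⟩ := hP ⟨x, hx⟩
  have hk' : x ^ p ^ k = 1 := by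
    have := congrArg Subtype.val hk
    simpa using this
  obtain ⟨w, hw, hw1, hwp⟩ := exists_pow_prime ⟨k, hk'⟩ hx1
  have hwP : w ∈ P := (zpowers_le.2 hx) hw
  have hcw : Nat.card (zpowers w) = p := by
    rw [Nat.card_zpowers]
    exact orderOf_eq_prime hwp hw1
  have : X = zpowers w := H12.Core.cyclic_eq_of_card_eq' hc hXP (zpowers_le.2 hwP) (by rw [hX, hcw])
  rw [this, zpowers_le]
  exact hw

theorem kappa_of (hG : IsMinSimpleOddOrder G) {M : Subgroup G} {p : ℕ} [hp : Fact p.Prime]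
    (hσ : p ∉ sigma M) (h1 : PRankLE p 1 M) {X : Subgroup G} (hXM : X ≤ M) (hX : Nat.card X = p)
    (hne : sigmaCore M ⊓ centralizer (X : Set G) ≠ ⊥) : p ∈ kappa M := by
  refine ⟨hp.out, hX ▸ card_dvd_of_le hXM, hσ, fun P => ?_⟩
  have hT := isSylIn_map_subtype P
  have hcyc := sylow_cyclic hG hT h1
  have e : (P : Subgroup M) ≃* ((P : Subgroup M).map M.subtype) := (P : Subgroup M).equivMapOfInjective _ M.subtype_injective
  refine ⟨(e.symm.isCyclic).1 hcyc, ?_⟩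
  have hXp : IsPGroup p X := IsPGroup.of_card (n := 1) (by rw [hX, pow_one])
  obtain ⟨m, hm, hmX⟩ := hT.exists_conj_le hXp hXM
  obtain ⟨a, ha, ha1⟩ := exists_ne_one (H := X) (by
    rintro rfl
    rw [card_bot] at hX
    exact hp.out.one_lt.ne hX)
  obtain ⟨y, hy, hy1⟩ := exists_ne_one hne
  obtain ⟨x, hx, hxe⟩ := hmX (conj_mem_cj ha)
  refine ⟨x, hx, ?_, m * y * m⁻¹, ?_, ?_, ?_⟩
  · rintro rfl
    apply ha1
    simp only [map_one] at hxe
    exact (conj_eq_one_iff.1 hxe.symm)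
  · exact (mem_normalizer_iff.1 (le_normalizer_sigmaCore M hm) y).1 (mem_inf.1 hy).1
  · rwa [Ne, conj_eq_one_iff]
  · have h2 := mem_centralizer_iff.1 (mem_inf.1 hy).2 a ha
    have h3 : (x : G) = m * a * m⁻¹ := hxe
    rw [h3]
    calc m * a * m⁻¹ * (m * y * m⁻¹) = m * (a * y) * m⁻¹ := by group
      _ = m * (y * a) * m⁻¹ := by rw [h2]
      _ = m * y * m⁻¹ * (m * a * m⁻¹) := by group

theorem kappa_spec (hG : IsMinSimpleOddOrder G) {M : Subgroup G} {p : ℕ} (h : p ∈ kappa M) :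
    p.Prime ∧ p ∣ Nat.card M ∧ p ∉ sigma M ∧ PRankLE p 1 M ∧ (p ∈ tau1 M ∨ p ∈ tau3 M) ∧
      ∀ X : Subgroup G, X ≤ M → Nat.card X = p → sigmaCore M ⊓ centralizer (X : Set G) ≠ ⊥ := by
  obtain ⟨hp, hd, hσ, hall⟩ := h
  haveI : Fact p.Prime := ⟨hp⟩
  have h1 : PRankLE p 1 M := by
    obtain ⟨S⟩ : Nonempty (Sylow p M) := inferInstance
    have hS := isSylIn_map_subtype S
    refine pRankLE_of_isSylIn hS ?_
    have e : (S : Subgroup M) ≃* ((S : Subgroup M).map M.subtype) := (S : Subgroup M).equivMapOfInjective _ M.subtype_injective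
    exact pRankLE_of_cyclic ((e.isCyclic).1 (hall S).1)
  refine ⟨hp, hd, hσ, h1, ?_, ?_⟩
  · by_cases h3 : p ∣ Nat.card ↥⁅M, M⁆
    · exact Or.inr ⟨hp, hσ, h3, h1⟩
    · exact Or.inl ⟨hp, hσ, hd, h3, h1⟩
  · intro X hXM hX
    have hXp : IsPGroup p X := IsPGroup.of_card (n := 1) (by rw [hX, pow_one])
    obtain ⟨T, hXT, hT⟩ := exists_isSylIn_ge hXp hXM
    obtain ⟨S, hS⟩ := hT.exists_sylow
    have hc := sylow_cyclic hG hT h1
    obtain ⟨-, x, hxS, hx1, y, hy, hy1, hxy⟩ := hall S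
    have hxT : (x : G) ∈ T := by
      have := (show x ∈ (S : Subgroup M) from hxS)
      rw [hS] at this
      exact mem_subgroupOf.1 this
    have hle := le_zpowers_of_cyclic hT.isPGroup hc hXT hX hxT (fun h => hx1 (Subtype.ext h))
    intro hb
    apply hy1
    have : y ∈ sigmaCore M ⊓ centralizer (X : Set G) := by
      refine mem_inf.2 ⟨hy, mem_centralizer_iff.2 fun z hz => ?_⟩
      obtain ⟨k, rfl⟩ := mem_zpowers_iff.1 (hle hz)
      exact (Commute.zpow_left (show Commute (x : G) y from hxy) k).eq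
    rw [hb] at this
    exact mem_bot.1 this

/-- if `p` is outside `sigma M` and `kappa M` and the rank is 1 then `Omega_1` of a Sylow acts freely on `M_sigma` -/
theorem free_of_not_kappa (hG : IsMinSimpleOddOrder G) {M : Subgroup G} {p : ℕ} [hp : Fact p.Prime]
    (hσ : p ∉ sigma M) (h1 : PRankLE p 1 M) (hk : p ∉ kappa M) {X : Subgroup G} (hXM : X ≤ M) (hX : Nat.card X = p) :
    sigmaCore M ⊓ centralizer (X : Set G) = ⊥ := by
  by_contra h
  exact hk (kappa_of hG hσ h1 hXM hX h)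

/-- **Proposition 14.1** -/
theorem thm141 (hG : IsMinSimpleOddOrder G) {M : Subgroup G} (hM : IsCoatom M) {p : ℕ} [hp : Fact p.Prime]
    (hpM : p ∣ Nat.card M) (hσ : p ∉ sigma M) (hk : p ∉ kappa M) {S : Subgroup G} (hS : IsSylIn p S M) :
    ∃ A : Subgroup G, A ≤ S ∧ IsElementaryAbelian p A ∧ (∀ x ∈ S, x ^ p = 1 → x ∈ A) ∧ Nat.card A ≤ p ^ 2 ∧ A ≠ ⊥ ∧
      sigmaCore M ⊓ centralizer (A : Set G) = ⊥ ∧ Group.IsNilpotent (sigmaCore M) := by
  have hS1 : S ≠ ⊥ := by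
    rintro rfl
    apply hS.not_dvd
    rwa [relIndex_bot_left]
  rcases tau_cases hG hM hp.out hpM hσ with h2 | ⟨h1, h13⟩
  · -- tau2
    obtain ⟨A, hAM, hA, hAc⟩ := exists_ea_sq_of_not_rank_one h2.2.2.2
    obtain ⟨m, hm, hmS⟩ := hS.exists_conj_le (ea_isPGroup hA) hAM
    have hA' := cj_ea hA m
    have hAc' : Nat.card (cj m A) = p ^ 2 := by rw [card_cj, hAc]
    have hAM' : cj m A ≤ M := hmS.trans hS.le
    obtain ⟨A₀, hexc⟩ := exists_exc hG hM hσ hAM' hA' hAc'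
    obtain ⟨ho, -, hcent, -⟩ := hexc.thm116 hG hS hmS
    exact ⟨cj m A, hmS, hA', ho, hAc'.le, fun hb => by
      rw [hb, card_bot] at hAc'
      exact absurd hAc' (Nat.one_lt_pow two_ne_zero hp.out.one_lt).ne, hcent, hexc.thm113 hG⟩
  · have hc := sylow_cyclic hG hS h1
    obtain ⟨s, hs, hs1⟩ := exists_ne_one hS1
    obtain ⟨k, hk'⟩ := hS.isPGroup ⟨s, hs⟩
    have hk' : s ^ p ^ k = 1 := by
      have := congrArg Subtype.val hk'
      simpa using this
    obtain ⟨w, hw, hw1, hwp⟩ := exists_pow_prime ⟨k, hk'⟩ hs1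
    have hwS : w ∈ S := (zpowers_le.2 hs) hw
    have hcw : Nat.card (zpowers w) = p := by
      rw [Nat.card_zpowers]
      exact orderOf_eq_prime hwp hw1
    have hfree := free_of_not_kappa hG hσ h1 hk (zpowers_le.2 (hS.le hwS)) hcw
    refine ⟨zpowers w, zpowers_le.2 hwS, ⟨inferInstance, ?_⟩, ?_, ?_, ?_, hfree, ?_⟩
    · intro x hx
      obtain ⟨j, rfl⟩ := mem_zpowers_iff.1 hx
      rw [← zpow_natCast, ← zpow_mul, mul_comm, zpow_mul, zpow_natCast, hwp, one_zpow]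
    · intro x hx hxp
      by_cases hx1 : x = 1
      · rw [hx1]; exact one_mem _
      have hcx : Nat.card (zpowers x) = p := by
        rw [Nat.card_zpowers]
        exact orderOf_eq_prime hxp hx1
      have : zpowers x = zpowers w := H12.Core.cyclic_eq_of_card_eq' hc (zpowers_le.2 hx) (zpowers_le.2 hwS) (by rw [hcx, hcw])
      rw [← this]
      exact mem_zpowers x
    · rw [hcw]
      exact Nat.le_self_pow two_ne_zero p
    · intro hb
      rw [hb, card_bot] at hcw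
      exact hp.out.one_lt.ne hcw
    · refine nilpotent_of_fpf hp.out (σ := w) hwp (le_normalizer_sigmaCore M (hS.le hwS)) ?_
      rwa [← centralizer_zpowers]

end Cfsg.Agent.H2.BG14
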