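import Cfsg.Statements.S1454
import Cfsg.Agent.H12_BG107b

set_option autoImplicit false
open Cfsg

namespace Cfsg.Agent.S1454
open Subgroup Cfsg.Agent.H12
open scoped commutatorElement



/-- Let G be a finite group, p an odd prime, R a narrow p-subgroup and A a solvable subgroup of odd order normalizing R with A ∩ C_G(R) = 1. Then [A, A] ≤ O_p(A) and the index of O_p(A) in A is coprime to p; if R has an elementary abelian subgroup of order p ^ 3 then the order of every element of A of order coprime to p divides p − 1; and if the order of A is a prime not dividing p(p − 1), then 2·#A divides p + 1, and if in addition [R, A] = R and R is non-abelian then #R = p ^ 3. -/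
theorem result {G : Type*} [Group G] [Finite G] (p : ℕ) [Fact p.Prime] (hp : p ≠ 2) (R A : Subgroup G) (hR : IsPGroup p R) (hRn : Cfsg.IsNarrow p R)
    (hA : (A ≤ Subgroup.normalizer (R : Set G))) (hAs : Group.IsSolvable A) (hAodd : Odd (Nat.card A)) (hfaith : A ⊓ Subgroup.centralizer (R : Set G) = ⊥) :
    (commutator ↥A ≤ Cfsg.pCore p ↥A ∧ ((Cfsg.pCore p ↥A).index).Coprime p) ∧
      (¬ Cfsg.PRankLE p 2 R → ∀ a ∈ A, (orderOf a).Coprime p → orderOf a ∣ p - 1) ∧
      ((Nat.card A).Prime → ¬ Nat.card A ∣ p * (p - 1) →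
        2 * Nat.card A ∣ p + 1 ∧ (⁅R, A⁆ = R → ¬ IsMulCommutative R → Nat.card R = p ^ 3)) := by
  have hpp : p.Prime := Fact.out
  set φ : A →* MulAut R := R.normalizerMonoidHom.comp (Subgroup.inclusion hA) with hφ
  have hφa : ∀ (a : A) (x : R), ((φ a x : R) : G) = a * x * (a : G)⁻¹ := fun a x => rfl
  have hinj : Function.Injective φ := by
    rw [injective_iff_map_eq_one]
    intro a ha
    have h1 : (a : G) ∈ A ⊓ Subgroup.centralizer (R : Set G) := by
      refine Subgroup.mem_inf.2 ⟨a.2, ?_⟩
      rw [Subgroup.mem_centralizer_iff]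
      intro r hr
      have h2 : (a : G) * r * (a : G)⁻¹ = r := by
        have := hφa a ⟨r, hr⟩
        rw [ha] at this
        exact this.symm
      calc r * a = ((a : G) * r * (a : G)⁻¹) * a := by rw [h2]
        _ = a * r := by group
    rw [hfaith, Subgroup.mem_bot] at h1
    exact Subtype.ext h1
  have hcomm : ∀ g ∈ commutator A, ∃ n, g ^ (p ^ n) = 1 := by
    intro g hg
    by_cases hr : PRankLE p 2 R
    · have hg' : (g : G) ∈ ⁅A, A⁆ := by
        have h2 : (commutator A).map A.subtype = ⁅A, A⁆ := by
          rw [_root_.commutator_def, map_commutator, ← MonoidHom.range_eq_map, range_subtype]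
        rw [← h2]
        exact ⟨g, hg, rfl⟩
      obtain ⟨n, hn⟩ := Rank2.comm_pow_mem_centralizer hp hR hr hA hAs hAodd (g : G) hg'
      refine ⟨n, ?_⟩
      have h1 : (g : G) ^ (p ^ n) ∈ A ⊓ Subgroup.centralizer (R : Set G) := Subgroup.mem_inf.2 ⟨pow_mem g.2 _, hn⟩
      rw [hfaith, Subgroup.mem_bot] at h1
      exact Subtype.ext h1
    · obtain ⟨E, x, hx⟩ := Narrow.nar_of_isNarrow hR hr hRn
      have h1 : φ g ∈ commutator (MulAut R) := by
        have h2 : (commutator A).map φ ≤ commutator (MulAut R) := by
          rw [_root_.commutator_def, _root_.commutator_def, map_commutator]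
          exact commutator_mono le_top le_top
        exact h2 ⟨g, hg, rfl⟩
      obtain ⟨n, hn⟩ := (Narrow.narrow_aut hp hR hx).1 _ h1
      refine ⟨n, hinj ?_⟩
      rw [map_pow, hn, map_one]
  have hb : ¬ Cfsg.PRankLE p 2 R → ∀ a ∈ A, (orderOf a).Coprime p → orderOf a ∣ p - 1 := by
    intro hr a ha hac
    obtain ⟨E, x, hx⟩ := Narrow.nar_of_isNarrow hR hr hRn
    have ho : orderOf (φ ⟨a, ha⟩) = orderOf a := by
      rw [orderOf_injective φ hinj, Subgroup.orderOf_mk]
    have h1 := (Narrow.narrow_aut hp hR hx).2 (φ ⟨a, ha⟩) (by rw [ho]; exact hac)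
    rw [← ho]
    exact orderOf_dvd_of_pow_eq_one h1
  refine ⟨⟨?_, ?_⟩, hb, ?_⟩
  · have h1 : IsPGroup p (commutator A) := by
      rintro ⟨g, hg⟩
      obtain ⟨n, hn⟩ := hcomm g hg
      exact ⟨n, Subtype.ext hn⟩
    exact Cfsg.Agent.H1.Nilp.le_pCore inferInstance h1
  · have h1 : IsPGroup p (commutator A) := by
      rintro ⟨g, hg⟩
      obtain ⟨n, hn⟩ := hcomm g hg
      exact ⟨n, Subtype.ext hn⟩
    have h2 := Cfsg.Agent.H1.Nilp.le_pCore inferInstance h1
    obtain ⟨P⟩ : Nonempty (Sylow p A) := inferInstance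
    have h3 : pCore p A ≤ P := Cfsg.Agent.H12.CN.pCore_le_sylow (Cfsg.Agent.H13.Syl.isSylIn_sylow_top P)
    have h4 : (P : Subgroup A).Normal := by
      have h5 : commutator A ≤ P := h2.trans h3
      refine ⟨fun n hn g => ?_⟩
      have h6 : g * n * g⁻¹ * n⁻¹ ∈ commutator A := commutator_mem_commutator (mem_top g) (mem_top n)
      have := mul_mem (h5 h6) hn
      rwa [inv_mul_cancel_right] at this
    have h5 : (P : Subgroup A) ≤ pCore p A := Cfsg.Agent.H1.Nilp.le_pCore h4 P.isPGroup'
    have h6 : pCore p A = P := le_antisymm h3 h5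
    rw [h6]
    exact Nat.Coprime.symm ((Nat.Prime.coprime_iff_not_dvd hpp).2 P.not_dvd_index)
  · intro hq hqd
    set q := Nat.card A with hqA
    have hqF : Fact q.Prime := ⟨hq⟩
    have hqp : q ≠ p := fun h => hqd (h ▸ dvd_mul_right _ _)
    have hqp1 : ¬ q ∣ p - 1 := fun h => hqd (h.mul_left p)
    have hcop : (Nat.card A).Coprime p := (Nat.coprime_primes hq hpp).2 hqp
    have hr : PRankLE p 2 R := by
      by_contra hr
      obtain ⟨a, ha⟩ := exists_prime_orderOf_dvd_card' (G := A) q dvd_rfl
      apply hqp1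
      have := hb hr (a : G) a.2 (by rw [Subgroup.orderOf_coe, ha]; exact hcop)
      rwa [Subgroup.orderOf_coe, ha] at this
    have hq2 : q ≠ 2 := by
      intro h
      rw [h] at hAodd
      exact (Nat.not_even_iff_odd.2 hAodd) even_two
    have hp1 : 1 ≤ p := hpp.one_lt.le
    have hqq : q ∣ p + 1 := by
      have h1 := (Rank2.prime_dvd_aut hp hR hr q hq hqp (by
        have := Subgroup.card_range_dvd φ
        have h2 : Nat.card φ.range = q := by
          rw [hqA]
          exact (Nat.card_congr (MonoidHom.ofInjective hinj).toEquiv).symm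
        rw [← h2]
        exact Subgroup.card_subgroup_dvd_card _)).1
      have h2 : p ^ 2 - 1 = (p + 1) * (p - 1) := by
        have := Nat.sq_sub_sq p 1
        simpa using this
      rw [h2] at h1
      exact ((Nat.Prime.dvd_mul hq).1 h1).resolve_right hqp1
    constructor
    · have h2 : 2 ∣ p + 1 := by
        rcases hpp.eq_two_or_odd' with h | h
        · exact absurd h hp
        · exact even_iff_two_dvd.1 (h.add_odd odd_one)
      have h3 : Nat.Coprime 2 q := (Nat.coprime_primes Nat.prime_two hq).2 (Ne.symm hq2)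
      exact h3.mul_dvd_of_dvd_of_dvd h2 hqq
    · intro hRA hnc
      have hR1 : R ≠ ⊥ := by
        rintro rfl
        exact hnc inferInstance
      obtain ⟨-, h2⟩ := R416.thm416 p hp R A hR hR1 hr hA hcop hAodd hRA
      rcases h2 with h2 | ⟨P₁, P₂, h3, h4, h5, h6, h7, h8, h9⟩
      · exact absurd h2 hnc
      -- P₂ = Z(R)
      have hP₁R : P₁ ≤ R := h3 ▸ le_sup_left
      have hP₂R : P₂ ≤ R := h3 ▸ le_sup_right
      have hP₂c : P₂ ≤ Subgroup.centralizer (P₁ : Set G) := by
        intro b hb
        rw [mem_centralizer_iff]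
        exact fun a ha => h4 a ha b hb
      have hmem : ∀ x : G, x ∈ R ↔ ∃ a ∈ P₁, ∃ b ∈ P₂, a * b = x := by
        intro x
        rw [← h3]
        exact Narrow.mem_sup_of_le_centralizer hP₂c
      have hP₂ab : ∀ a ∈ P₂, ∀ b ∈ P₂, a * b = b * a := Cfsg.Agent.H2.Rank2.comm_of_cyclic h8
      have hZ : R ⊓ Subgroup.centralizer (R : Set G) = P₂ := by
        apply le_antisymm
        · intro x hx
          obtain ⟨a, ha, b, hb, rfl⟩ := (hmem x).1 (mem_inf.1 hx).1
          have h10 : a ∈ P₁ ⊓ Subgroup.centralizer (P₁ : Set G) := by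
            refine mem_inf.2 ⟨ha, ?_⟩
            rw [mem_centralizer_iff]
            intro y hy
            have h11 : y * (a * b) = (a * b) * y := mem_centralizer_iff.1 (mem_inf.1 hx).2 y (hP₁R hy)
            have h12 : y * b = b * y := h4 y hy b hb
            have : (y * a) * b = (a * y) * b := by
              calc (y * a) * b = y * (a * b) := by group
                _ = a * (b * y) := by rw [h11]; group
                _ = (a * y) * b := by rw [← h12]; group
            exact mul_right_cancel this
          have h11 := (Cfsg.Agent.H12.BG10.center_of_cube h6 h5).1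
          rw [← h11, ← h9] at h10
          refine mul_mem ?_ hb
          have h12 : Subgroup.closure {x : G | x ∈ P₂ ∧ x ^ p = 1} ≤ P₂ := by
            rw [closure_le]
            exact fun x hx => hx.1
          exact h12 h10
        · intro b hb
          refine mem_inf.2 ⟨hP₂R hb, ?_⟩
          rw [mem_centralizer_iff]
          intro y hy
          obtain ⟨a, ha, b', hb', rfl⟩ := (hmem y).1 hy
          have e1 : Commute a b := h4 a ha b hb
          have e2 : Commute b' b := hP₂ab b' hb' b hb
          exact (e1.mul_left e2).eq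
      -- A centralizes P₂
      have hAP₂ : A ≤ Subgroup.normalizer (P₂ : Set G) := by
        rw [← hZ]
        exact Cfsg.Agent.H22.Basic.le_normalizer_inf hA (Cfsg.Agent.H22.Basic.le_normalizer_centralizer hA)
      have hP₂p : IsPGroup p P₂ := hR.to_le hP₂R
      have hAc : A ≤ Subgroup.centralizer (P₂ : Set G) := by
        set ψ : A →* MulAut P₂ := P₂.normalizerMonoidHom.comp (Subgroup.inclusion hAP₂) with hψ
        have hrange : Nat.card ψ.range ∣ q := Subgroup.card_range_dvd ψ
        have hrange2 : Nat.card ψ.range ∣ Nat.card (MulAut P₂) := Subgroup.card_subgroup_dvd_card _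
        have hcardaut : Nat.card (MulAut P₂) = Nat.totient (Nat.card P₂) := by
          have := h8
          exact IsCyclic.card_mulAut P₂
        have hone : Nat.card ψ.range = 1 := by
          rcases (Nat.dvd_prime hq).1 hrange with h | h
          · exact h
          · exfalso
            rw [h, hcardaut] at hrange2
            obtain ⟨k, hk⟩ := IsPGroup.iff_card.1 hP₂p
            rw [hk] at hrange2
            rcases Nat.eq_zero_or_pos k with hk0 | hk0
            · rw [hk0, pow_zero, Nat.totient_one] at hrange2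
              exact hq.one_lt.ne' (Nat.dvd_one.1 hrange2)
            · rw [Nat.totient_prime_pow hpp hk0] at hrange2
              rcases (Nat.Prime.dvd_mul hq).1 hrange2 with h' | h'
              · exact hqp ((Nat.prime_dvd_prime_iff_eq hq hpp).1 (hq.dvd_of_dvd_pow h'))
              · exact hqp1 h'
        have hbot := Subgroup.eq_bot_of_card_eq _ hone
        intro a ha
        rw [mem_centralizer_iff]
        intro x hx
        have h1 : ψ ⟨a, ha⟩ ∈ ψ.range := ⟨_, rfl⟩
        rw [hbot, mem_bot] at h1
        have h2 : a * x * a⁻¹ = x := congrArg (fun f : MulAut P₂ => ((f ⟨x, hx⟩ : P₂) : G)) h1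
        calc x * a = (a * x * a⁻¹) * a := by rw [h2]
          _ = a * x := by group
      have hcopR : (Nat.card A).Coprime (Nat.card R) := by
        obtain ⟨k, hk⟩ := IsPGroup.iff_card.1 hR
        rw [hk]
        exact Nat.Coprime.pow_right _ hcop
      have h13 := Trans.inf_centralizer_le_rel hA hcopR hRA
      have h14 : ⁅R, R⁆ ≤ P₁ := by
        rw [commutator_le]
        intro x hx y hy
        obtain ⟨a, ha, b, hb, rfl⟩ := (hmem x).1 hx
        obtain ⟨a', ha', b', hb', rfl⟩ := (hmem y).1 hy
        have c1 : Commute a b := h4 a ha b hb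
        have c2 : Commute a' b' := h4 a' ha' b' hb'
        have c3 : Commute a b' := h4 a ha b' hb'
        have c4 : Commute a' b := h4 a' ha' b hb
        have c5 : Commute b b' := hP₂ab b hb b' hb'
        have e : ⁅a * b, a' * b'⁆ = ⁅a, a'⁆ := by
          rw [commutatorElement_def, commutatorElement_def, mul_inv_rev, mul_inv_rev]
          calc a * b * (a' * b') * (b⁻¹ * a⁻¹) * (b'⁻¹ * a'⁻¹)
              = a * (b * (a' * b')) * b⁻¹ * a⁻¹ * (b'⁻¹ * a'⁻¹) := by group
            _ = a * ((a' * b') * b) * b⁻¹ * a⁻¹ * (b'⁻¹ * a'⁻¹) := by rw [(c4.symm.mul_right c5).eq]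
            _ = a * a' * (b' * a⁻¹) * b'⁻¹ * a'⁻¹ := by group
            _ = a * a' * (a⁻¹ * b') * b'⁻¹ * a'⁻¹ := by rw [(c3.inv_left).eq]
            _ = _ := by group
        rw [e]
        exact mul_mem (mul_mem (mul_mem ha ha') (inv_mem ha)) (inv_mem ha')
      have h15 : P₂ ≤ P₁ := by
        refine le_trans ?_ h14
        refine le_trans (le_inf hP₂R ?_) h13
        exact le_centralizer_iff.1 hAc
      have h16 : P₁ = R := by rw [← h3, sup_eq_left.2 h15]
      rw [← h16]
      exact h6

end Cfsg.Agent.S1454
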