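import Mathlib
import Cfsg.Agent.H2_BG14a
import Cfsg.Agent.H12_BG12h
import Cfsg.Agent.S1446
import Cfsg.Agent.S1454

/-! BG §14: Proposition 14.2 -/

set_option autoImplicit false
set_option linter.unusedSectionVars false

open Pointwise
open scoped commutatorElement

namespace Cfsg.Agent.H2.BG14

open Cfsg Subgroup H13.Syl H12.Loc H12.BG7 H12.BG10 H12.BG11 H12.BG12 H2.Con13

universe u

variable {G : Type u} [Group G] [Finite G]

theorem fus {M N E X : Subgroup G} (hE : IsComplIn E N M) (hn : M ≤ normalizer (N : Set G)) (hX : X ≤ E) {m : G} (hm : m ∈ M)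
    (h : cj m X ≤ E) : ∃ e ∈ E, ∃ c ∈ N ⊓ centralizer (X : Set G), m = e * c := by
  obtain ⟨e, he, s, hs, rfl⟩ := hE.2.2.2 m hm
  refine ⟨e, he, s, mem_inf.2 ⟨hs, ?_⟩, rfl⟩
  rw [mem_centralizer_iff]
  intro x hx
  have h1 : (e * s) * x * (e * s)⁻¹ ∈ E := h (conj_mem_cj hx)
  have h2 : s * x * s⁻¹ ∈ E := by
    have := E.mul_mem (E.mul_mem (E.inv_mem he) h1) he
    convert this using 1
    group
  have h3 : s * x * s⁻¹ * x⁻¹ ∈ E := E.mul_mem h2 (E.inv_mem (hX hx))
  have h4 : s * x * s⁻¹ * x⁻¹ ∈ N := by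
    have h5 : x * s⁻¹ * x⁻¹ ∈ N := (mem_normalizer_iff.1 (hn (hE.1 (hX hx))) _).1 (N.inv_mem hs)
    have := N.mul_mem hs h5
    convert this using 1
    group
  have h6 : s * x * s⁻¹ * x⁻¹ ∈ E ⊓ N := mem_inf.2 ⟨h3, h4⟩
  rw [hE.2.2.1, mem_bot] at h6
  have h7 : s * x = x * s := by
    have := congrArg (fun t => t * x * s) h6
    simp only [one_mul] at this
    calc s * x = s * x * s⁻¹ * x⁻¹ * x * s := by group
      _ = x * s := this
  exact h7.symm

theorem card_dvd_prime {n m : ℕ} (h : ∀ p : ℕ, p.Prime → p ∣ n → ¬ p ∣ m) : n.Coprime m :=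
  Nat.Coprime.symm (Nat.Coprime.symm (by
    by_contra hc
    obtain ⟨p, hp, h1, h2⟩ := Nat.Prime.not_coprime_iff_dvd.1 hc
    exact h p hp h1 h2))

/-- an element of prime order in every nontrivial subgroup -/
theorem exists_prime_elt {X : Subgroup G} (h : X ≠ ⊥) : ∃ p : ℕ, p.Prime ∧ ∃ x ∈ X, orderOf x = p ∧ p ∣ Nat.card X := by
  have h1 : 1 < Nat.card X := (one_lt_card_iff_ne_bot X).2 h
  obtain ⟨p, hp, hd⟩ := Nat.exists_prime_and_dvd h1.ne'
  haveI := Fact.mk hp
  obtain ⟨x, hx⟩ := exists_prime_orderOf_dvd_card' (G := X) p hd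
  exact ⟨p, hp, x, x.2, by rw [orderOf_coe, hx], hd⟩

theorem exists_elt_of_dvd {X : Subgroup G} {p : ℕ} [hp : Fact p.Prime] (h : p ∣ Nat.card X) : ∃ x ∈ X, orderOf x = p := by
  obtain ⟨x, hx⟩ := exists_prime_orderOf_dvd_card' (G := X) p h
  exact ⟨x, x.2, by rw [orderOf_coe, hx]⟩

/-- a power of prime order -/
theorem exists_prime_pow {x : G} (hx : x ≠ 1) : ∃ p : ℕ, p.Prime ∧ p ∣ orderOf x ∧ ∃ y ∈ zpowers x, orderOf y = p := by
  have h : zpowers x ≠ ⊥ := by rwa [Ne, zpowers_eq_bot]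
  obtain ⟨p, hp, y, hy, hyo, hd⟩ := exists_prime_elt h
  rw [Nat.card_zpowers] at hd
  exact ⟨p, hp, hd, y, hy, hyo⟩

theorem cent_zp_le {x y : G} (h : y ∈ zpowers x) : centralizer ({x} : Set G) ≤ centralizer ({y} : Set G) := by
  intro z hz
  rw [mem_centralizer_singleton_iff] at hz ⊢
  obtain ⟨k, rfl⟩ := mem_zpowers_iff.1 h
  exact ((Commute.zpow_right (show Commute z x from hz) k).eq)

structure KS (M K E U : Subgroup G) : Prop where
  co : IsCoatom M
  hall : IsPiHallOf (kappa M) K M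
  ne : K ≠ ⊥
  hE : IsComplIn E (sigmaCore M) M
  hU : IsComplIn K U E
  nU : E ≤ normalizer (U : Set G)
  free : ∀ k ∈ K, k ≠ 1 → U ⊓ centralizer ({k} : Set G) = ⊥
  comm : IsMulCommutative U
  nX : ∀ X : Subgroup G, X ≤ K → (Nat.card X).Prime → K ≤ normalizer (X : Set G)
  prime : ∀ k ∈ K, k ≠ 1 → sigmaCore M ⊓ centralizer ({k} : Set G) = sigmaCore M ⊓ centralizer (K : Set G)
  neS : sigmaCore M ⊓ centralizer (K : Set G) ≠ ⊥
  c6 : ∃ E₁ P : Subgroup G, IsPiHallOf (tau1 M) E₁ E ∧ P ≤ E₁ ∧ P ≠ ⊥ ∧ P ≤ K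
  cyc : (U ≠ ⊥ ∨ kappa M = tau1 M) → IsCyclic K ∧ kappa M = tau1 M
  ab : IsMulCommutative K → kappa M = tau1 M
  hUq : IsPiHallOf {q | q.Prime ∧ q ∉ kappa M ∧ q ∉ sigma M} U M

theorem kappa_sigmaC {M K : Subgroup G} (hall : IsPiHallOf (kappa M) K M) : SigmaC M K := by
  intro p hp hd
  exact (hall.2.1 p hp hd).2.2.1

theorem ne_top_of_coatom {M : Subgroup G} (hM : IsCoatom M) : M ≠ ⊤ := hM.1

/-- `K` lies in a complement -/
theorem exists_E (hG : IsMinSimpleOddOrder G) {M K : Subgroup G} (hM : IsCoatom M) (hKM : K ≤ M) (hK : SigmaC M K) :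
    ∃ E : Subgroup G, K ≤ E ∧ IsComplIn E (sigmaCore M) M := by
  obtain ⟨E, hKE, hE⟩ := H12.Hall.exists_hall_ge (solvable_of_ne_top hG hM.1) hK hKM
  exact ⟨E, hKE, isCompl_of_hall hG hM hE⟩

theorem solv_le (hG : IsMinSimpleOddOrder G) {M X : Subgroup G} (hM : IsCoatom M) (h : X ≤ M) : Group.IsSolvable X :=
  solvable_of_ne_top hG (fun he => hM.1 (top_le_iff.1 (he ▸ h)))

theorem exists_KS (hG : IsMinSimpleOddOrder G) (hC : Con13 G) {M K : Subgroup G} (hM : IsCoatom M) (hall : IsPiHallOf (kappa M) K M)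
    (hne : K ≠ ⊥) {E : Subgroup G} (hKE : K ≤ E) (hE : IsComplIn E (sigmaCore M) M) : ∃ U : Subgroup G, KS M K E U := by
  have hEhall := compl_hall hG hM hE
  have hEM : E ≤ M := hE.1
  have hEs := solv_le hG hM hEM
  have hKEh : IsPiHallOf (kappa M) K E := H12.Hall.mono hall hKE hEM
  have hEsig := compl_sigmaC hG hM hE
  obtain ⟨E₃, hE₃⟩ := H12.Hall.exists_hall (L := E) hEs (tau3 M)
  obtain ⟨p₀, hp₀, x₀, hx₀K, hx₀o, hd₀⟩ := exists_prime_elt hne
  have hκp₀ : p₀ ∈ kappa M := hall.2.1 p₀ hp₀ hd₀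
  have hx₀1 : x₀ ≠ 1 := by
    rintro rfl
    rw [orderOf_one] at hx₀o
    exact hp₀.one_lt.ne hx₀o
  have hcx₀ : sigmaCore M ⊓ centralizer ({x₀} : Set G) ≠ ⊥ := by
    have := (kappa_spec hG hκp₀).2.2.2.2.2 (zpowers x₀) (zpowers_le.2 (hEM (hKE hx₀K))) (by rw [Nat.card_zpowers, hx₀o])
    rwa [centralizer_zpowers] at this
  by_cases hreg : ∃ x ∈ E₃, x ≠ 1 ∧ sigmaCore M ⊓ centralizer ({x} : Set G) ≠ ⊥
  · -- case A
    obtain ⟨⟨p₁, hp₁⟩, hτ2, hpr, hnorm⟩ := hC.h1311 M E E₃ hM hE hE₃ hreg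
    have hx₀E := hKE hx₀K
    have hCE : sigmaCore M ⊓ centralizer (E : Set G) ≠ ⊥ := by
      rw [← hpr x₀ hx₀E hx₀1]; exact hcx₀
    have hEκ : H12.Core.PiNum (kappa M) (Nat.card E) := by
      intro p hp hd
      haveI := Fact.mk hp
      have hσ : p ∉ sigma M := hEsig p hp hd
      obtain ⟨x, hx, hxo⟩ := exists_elt_of_dvd hd
      rcases tau_cases hG hM hp (hd.trans (card_dvd_of_le hEM)) hσ with h2 | ⟨h1, -⟩
      · exact absurd h2 (hτ2 p)
      · refine kappa_of hG hσ h1 (X := zpowers x) (zpowers_le.2 (hEM hx)) (by rw [Nat.card_zpowers, hxo]) ?_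
        intro hb
        apply hCE
        rw [eq_bot_iff, ← hb]
        exact inf_le_inf_left _ (centralizer_le (SetLike.coe_subset_coe.2 (zpowers_le.2 hx)))
    have hEK : E = K := H12.Hall.eq_of_le hKEh le_rfl hEκ hKE
    subst hEK
    obtain ⟨E₁, hE₁⟩ := H12.Hall.exists_hall (L := E) hEs (tau1 M)
    haveI := Fact.mk hp₁.1
    have hp₁E : p₁ ∣ Nat.card E := by
      have h1 := tau1_dvd hp₁
      have h2 := (H12.Hall.dvd_iff hp₁.1 hEhall (show p₁ ∈ (sigma M)ᶜ from hp₁.2.1)).2 h1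
      exact h2
    have hE₁ne : E₁ ≠ ⊥ := by
      rintro rfl
      have := (H12.Hall.dvd_iff hp₁.1 hE₁ hp₁).2 hp₁E
      rw [card_bot] at this
      exact hp₁.1.one_lt.ne' (Nat.dvd_one.1 this)
    have hU0 : IsPiHallOf {q | q.Prime ∧ q ∉ kappa M ∧ q ∉ sigma M} (⊥ : Subgroup G) M := by
      refine ⟨bot_le, ?_, ?_⟩
      · intro p hp hd
        rw [card_bot] at hd
        exact absurd (Nat.dvd_one.1 hd) hp.one_lt.ne'
      · rintro p hp ⟨-, hpk, hpσ⟩ hd
        rw [relIndex_bot_left] at hd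
        have h2 := (H12.Hall.dvd_iff hp hEhall (show p ∈ (sigma M)ᶜ from hpσ)).2 hd
        exact hpk (hEκ p hp h2)
    refine ⟨⊥, hM, hall, hne, hE, ⟨le_rfl, bot_le, inf_bot_eq _, fun m hm => ⟨m, hm, 1, one_mem _, (mul_one m).symm⟩⟩, ?_, ?_, ?_, hnorm,
      hpr, hCE, ⟨E₁, E₁, hE₁, le_rfl, hE₁ne, hE₁.1⟩, ?_, ?_, hU0⟩
    · intro g _
      rw [mem_normalizer_iff]
      intro h
      simp only [mem_bot]
      constructor
      · rintro rfl; group
      · intro h'
        exact conj_eq_one_iff.1 h'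
    · intro k _ _
      exact bot_inf_eq _
    · exact ⟨⟨fun a b => Subsingleton.elim _ _⟩⟩
    · rintro (h | h)
      · exact absurd rfl h
      · refine ⟨tau1_cyclic hG hM hEM ?_, h⟩
        intro p hp hd
        rw [← h]
        exact hEκ p hp hd
    · intro hab
      exfalso
      obtain ⟨x, hx, hx1, -⟩ := hreg
      have h1 := (tau3_cyclic hG hM hE hE₃).2.1 hx
      rw [commutator_eq_bot_iff_le_centralizer.2 (le_centralizer E)] at h1
      exact hx1 (mem_bot.1 h1)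
  · -- case B
    push Not at hreg
    have hE₃c := tau3_cyclic hG hM hE hE₃
    have hκ1 : ∀ p, p ∈ kappa M → p ∈ tau1 M := by
      intro p hp
      obtain ⟨hpp, hpd, hpσ, hr1, h13, hX⟩ := kappa_spec hG hp
      haveI := Fact.mk hpp
      rcases h13 with h | h
      · exact h
      · exfalso
        have h2 := (H12.Hall.dvd_iff hpp hEhall (show p ∈ (sigma M)ᶜ from hpσ)).2 hpd
        have h3 := (H12.Hall.dvd_iff hpp hE₃ h).2 h2
        obtain ⟨x, hx, hxo⟩ := exists_elt_of_dvd h3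
        have h4 := hX (zpowers x) (zpowers_le.2 (hEM (hE₃.1 hx))) (by rw [Nat.card_zpowers, hxo])
        rw [centralizer_zpowers] at h4
        refine h4 (hreg x hx ?_)
        rintro rfl
        rw [orderOf_one] at hxo
        exact hpp.one_lt.ne hxo
    have hKτ : H12.Core.PiNum (tau1 M) (Nat.card K) := fun p hp hd => hκ1 p (hall.2.1 p hp hd)
    obtain ⟨E₁, hKE₁, hE₁⟩ := H12.Hall.exists_hall_ge hEs hKτ hKE
    have hpr := hC.h135 M E E₁ hM hE hE₁
    have hCE₁ : sigmaCore M ⊓ centralizer (E₁ : Set G) ≠ ⊥ := by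
      rw [← hpr x₀ (hKE₁ hx₀K) hx₀1]; exact hcx₀
    have hτκ : ∀ p, p ∈ tau1 M → p ∈ kappa M := by
      intro p hp
      haveI := Fact.mk hp.1
      have h2 := (H12.Hall.dvd_iff hp.1 hEhall (show p ∈ (sigma M)ᶜ from hp.2.1)).2 (tau1_dvd hp)
      have h3 := (H12.Hall.dvd_iff hp.1 hE₁ hp).2 h2
      obtain ⟨x, hx, hxo⟩ := exists_elt_of_dvd h3
      refine kappa_of hG hp.2.1 hp.2.2.2.2 (X := zpowers x) (zpowers_le.2 (hEM (hE₁.1 hx))) (by rw [Nat.card_zpowers, hxo]) ?_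
      intro hb
      apply hCE₁
      rw [eq_bot_iff, ← hb]
      exact inf_le_inf_left _ (centralizer_le (SetLike.coe_subset_coe.2 (zpowers_le.2 hx)))
    have hEq : kappa M = tau1 M := Set.ext fun p => ⟨hκ1 p, hτκ p⟩
    have hKE₁' : E₁ = K := by
      refine H12.Hall.eq_of_le hKEh hE₁.1 ?_ hKE₁
      rw [hEq]; exact hE₁.2.1
    subst hKE₁'
    -- U
    obtain ⟨U, hU⟩ := H12.Hall.exists_hall (L := E) hEs (tau1 M)ᶜ
    have hE'1 : H12.Core.PiNum (tau1 M)ᶜ (Nat.card ↥⁅E, E⁆) := by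
      intro p hp hd hτ
      exact hτ.2.2.2.1 (hd.trans (card_dvd_of_le (Subgroup.commutator_mono hEM hEM)))
    have hE'U : ⁅E, E⁆ ≤ U := H12.Hall.normal_le hU (comm_le_self E) hE'1 (by
      intro e he
      rw [mem_normalizer_iff_cj, cj_commutator, cj_eq_of_mem he])
    have hnU : E ≤ normalizer (U : Set G) := by
      intro e he
      rw [mem_normalizer_iff]
      intro u
      have key : ∀ e ∈ E, ∀ u ∈ U, e * u * e⁻¹ ∈ U := by
        intro e he u hu
        have h1 : ⁅e, u⁆ ∈ U := hE'U (commutator_mem_commutator he (hU.1 hu))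
        have := U.mul_mem h1 hu
        rw [commutatorElement_def] at this
        simpa using this
      refine ⟨key e he u, fun h => ?_⟩
      have := key e⁻¹ (E.inv_mem he) _ h
      convert this using 1
      group
    have hKU : IsComplIn E₁ U E := by
      refine H12.Hall.isComplIn (π := (tau1 M)ᶜ) hU ?_ hnU
      rw [compl_compl]
      exact hE₁
    have hUσ : SigmaC M U := hEsig.mono hU.1
    have hfree : ∀ k ∈ E₁, k ≠ 1 → U ⊓ centralizer ({k} : Set G) = ⊥ := by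
      intro k hk hk1
      by_contra hcon
      obtain ⟨p, hp, hpk, y, hy, hyo⟩ := exists_prime_pow hk1
      haveI := Fact.mk hp
      have hyE₁ : y ∈ E₁ := (zpowers_le.2 hk) hy
      have hpτ : p ∈ tau1 M := hE₁.2.1 p hp (by rw [← hyo, ← orderOf_mk y hyE₁]; exact orderOf_dvd_natCard _)
      have hcy : U ⊓ centralizer ({y} : Set G) ≠ ⊥ := fun hb => hcon (by
        rw [eq_bot_iff, ← hb]
        exact inf_le_inf_left _ (cent_zp_le hy))
      obtain ⟨r, hr, u, hu, huo, -⟩ := exists_prime_elt hcy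
      haveI := Fact.mk hr
      have huU := (mem_inf.1 hu).1
      have hrU : r ∣ Nat.card U := by rw [← huo, ← orderOf_mk u huU]; exact orderOf_dvd_natCard _
      have hrσ : r ∉ sigma M := hUσ r hr hrU
      have hrτ1 : r ∉ tau1 M := hU.2.1 r hr hrU
      have hcu : Nat.card (zpowers u) = r := by rw [Nat.card_zpowers, huo]
      have hcyz : Nat.card (zpowers y) = p := by rw [Nat.card_zpowers, hyo]
      have hcomm : y * u = u * y := by
        have := mem_centralizer_singleton_iff.1 (mem_inf.1 hu).2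
        exact this.symm
      have hyne : y ≠ 1 := by
        rintro rfl
        rw [orderOf_one] at hyo
        exact hp.one_lt.ne hyo
      have hCy : sigmaCore M ⊓ centralizer ((zpowers y : Subgroup G) : Set G) ≠ ⊥ := by
        rw [centralizer_zpowers, hpr y hyE₁ hyne]; exact hCE₁
      rcases tau_cases hG hM hr (hrU.trans (card_dvd_of_le (hU.1.trans hEM))) hrσ with h2 | ⟨-, h1 | h3⟩
      · obtain ⟨A, hAE, hA, hAc⟩ := exists_ea_compl hG hM hE h2
        obtain ⟨A₀, hexc⟩ := exists_exc hG hM hrσ (hAE.trans hEM) hA hAc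
        have huA : u ∈ A := thm126a hG hexc hE hAE (X := zpowers u) (zpowers_le.2 (hU.1 huU)) (by
          intro x hx
          obtain ⟨j, rfl⟩ := mem_zpowers_iff.1 hx
          rw [← zpow_natCast, ← zpow_mul, mul_comm, zpow_mul, zpow_natCast, ← huo, pow_orderOf_eq_one, one_zpow]) (mem_zpowers u)
        refine hCy (hC.h1312 M E (zpowers y) A p r hM hE hpτ (zpowers_le.2 (hE₁.1 hyE₁)) hcyz h2 hAE hA hAc ?_)
        intro hb
        have : u ∈ A ⊓ centralizer ((zpowers y : Subgroup G) : Set G) := by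
          refine mem_inf.2 ⟨huA, ?_⟩
          rw [centralizer_zpowers]
          exact (mem_inf.1 hu).2
        rw [hb, mem_bot] at this
        rw [this, orderOf_one] at huo
        exact hr.one_lt.ne huo
      · exact hrτ1 h1
      · have hu₃ : u ∈ E₃ := by
          have hs : zpowers u ≤ E₃ := by
            obtain ⟨l, hl, hle⟩ := H12.Hall.sylow_conj_le hE₃ h3 (P := zpowers u)
              (IsPGroup.of_card (n := 1) (by rw [hcu, pow_one])) (zpowers_le.2 (hU.1 huU))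
            have := cj_le_iff.1 hle
            rwa [cj_eq_of_mem_normalizer (inv_mem (hE₃c.2.2 hl))] at this
          exact hs (mem_zpowers u)
        have h134 := hC.h134 M E (zpowers y) (zpowers u) p hM hE hpτ (zpowers_le.2 (hE₁.1 hyE₁)) hcyz (zpowers_le.2 (hU.1 huU)) (by
            rw [zpowers_le, centralizer_zpowers]
            exact (mem_inf.1 hu).2) (by rw [hcu]; exact hr)
        have hune : u ≠ 1 := by
          rintro rfl
          rw [orderOf_one] at huo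
          exact hr.one_lt.ne huo
        have h5 := hreg u hu₃ hune
        apply hCy
        rw [eq_bot_iff, ← h5]
        refine le_inf inf_le_left ?_
        rw [← centralizer_zpowers u]
        exact h134
    have hnilp : Group.IsNilpotent U := by
      have hx₀U := hfree x₀ hx₀K hx₀1
      refine nilpotent_of_fpf hp₀ (σ := x₀) ?_ (hnU (hE₁.1 hx₀K)) hx₀U
      rw [← hx₀o]; exact pow_orderOf_eq_one x₀
    have hcyc : IsCyclic E₁ := tau1_cyclic hG hM (hE₁.1.trans hEM) hE₁.2.1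
    refine ⟨U, hM, hall, hne, hE, hKU, hnU, hfree, thm1210a hG hM (hU.1.trans hEM) hnilp hUσ, ?_, hpr, hCE₁,
      ⟨E₁, E₁, hE₁, le_rfl, hne, le_rfl⟩, fun _ => ⟨hcyc, hEq⟩, fun _ => hEq, ?_⟩
    · intro X hX _
      exact normal_of_cyclic hcyc hX le_normalizer
    · refine H12.Hall.congr' (π := (tau1 M)ᶜ ∩ (sigma M)ᶜ) ?_ ?_
      · intro p hp _
        constructor
        · rintro ⟨h1, h2⟩
          exact ⟨hp, fun h => h1 (hκ1 p h), h2⟩
        · rintro ⟨-, h1, h2⟩
          exact ⟨fun h => h1 (hτκ p h), h2⟩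
      · refine ⟨hU.1.trans hEM, fun p hp hd => ⟨hU.2.1 p hp hd, hUσ p hp hd⟩, ?_⟩
        rintro p hp ⟨h1, h2⟩ hd
        have h3 := hU.2.2 p hp h1
        have h4 := hEhall.2.2 p hp h2
        rw [← relIndex_mul_relIndex _ _ _ hU.1 hEM] at hd
        rcases hp.dvd_mul.1 hd with h | h
        · exact h3 h
        · exact h4 h

end Cfsg.Agent.H2.BG14
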