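import Mathlib
import Cfsg.Agent.H2_BG14b
import Cfsg.Agent.H12_BG12i

/-! BG §14: Proposition 14.2, consequences -/

set_option autoImplicit false
set_option linter.unusedSectionVars false

open Pointwise
open scoped commutatorElement

namespace Cfsg.Agent.H2.BG14

open Cfsg Subgroup H13.Syl H12.Loc H12.BG7 H12.BG10 H12.BG11 H12.BG12 H2.Con13

universe u

variable {G : Type u} [Group G] [Finite G]

/-- `K* = C_{M_sigma}(K)` -/
abbrev st (M K : Subgroup G) : Subgroup G := sigmaCore M ⊓ centralizer (K : Set G)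

theorem le_normalizer_map_of_normal {M : Subgroup G} {N : Subgroup M} (hN : N.Normal) : M ≤ normalizer ((N.map M.subtype : Subgroup G) : Set G) := by
  rw [← normal_subgroupOf_iff_le_normalizer (map_subtype_le _), H12.Core.subgroupOf_map_subtype_self]
  exact hN

theorem isPGroup_of_prime {X : Subgroup G} {p : ℕ} [Fact p.Prime] (h : Nat.card X = p) : IsPGroup p X :=
  IsPGroup.of_card (n := 1) (by rw [h, pow_one])

theorem ne_bot_of_prime {X : Subgroup G} (h : (Nat.card X).Prime) : X ≠ ⊥ := by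
  rintro rfl
  rw [card_bot] at h
  exact Nat.not_prime_one h

theorem st_le (M K : Subgroup G) : st M K ≤ M := inf_le_left.trans (sigmaCore_le M)

theorem sigmaCore_pi (M : Subgroup G) : H12.Core.PiNum (sigma M) (Nat.card (sigmaCore M)) := H12.Core.piCoreOf_piNum _ M

theorem st_sigma {M K : Subgroup G} : H12.Core.PiNum (sigma M) (Nat.card (st M K)) :=
  (sigmaCore_pi M).dvd (card_dvd_of_le inf_le_left)

namespace KS

variable {M K E U : Subgroup G}

theorem hKE (h : KS M K E U) : K ≤ E := h.hU.1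
theorem hEM (h : KS M K E U) : E ≤ M := h.hE.1
theorem hKM (h : KS M K E U) : K ≤ M := h.hKE.trans h.hEM
theorem hUE (h : KS M K E U) : U ≤ E := h.hU.2.1
theorem hUM (h : KS M K E U) : U ≤ M := h.hUE.trans h.hEM

theorem cent_le (h : KS M K E U) {X : Subgroup G} (hX : X ≤ K) (hXne : X ≠ ⊥) :
    sigmaCore M ⊓ centralizer (X : Set G) = st M K := by
  obtain ⟨x, hx, hx1⟩ := exists_ne_one hXne
  apply le_antisymm
  · show _ ≤ sigmaCore M ⊓ centralizer (K : Set G)
    rw [← h.prime x (hX hx) hx1]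
    exact inf_le_inf_left _ (centralizer_le (Set.singleton_subset_iff.2 hx))
  · exact inf_le_inf_left _ (centralizer_le (SetLike.coe_subset_coe.2 hX))

theorem norm (h : KS M K E U) {X : Subgroup G} (hX : X ≤ K) (hXne : X ≠ ⊥) (hn : K ≤ normalizer (X : Set G)) :
    M ⊓ normalizer (X : Set G) = K ⊔ st M K := by
  apply le_antisymm
  · intro m hm
    obtain ⟨hmM, hmX⟩ := mem_inf.1 hm
    obtain ⟨e, he, c, hc, rfl⟩ := fus h.hE (le_normalizer_sigmaCore M) (hX.trans h.hKE) hmM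
      (by rw [cj_eq_of_mem_normalizer hmX]; exact hX.trans h.hKE)
    have hc' : c ∈ st M K := by rw [← h.cent_le hX hXne]; exact hc
    have hcn : c ∈ normalizer (X : Set G) := centralizer_le_normalizer (X : Set G) (mem_inf.1 hc).2
    have hen : e ∈ normalizer (X : Set G) := by
      have := mul_mem hmX (inv_mem hcn)
      simpa using this
    obtain ⟨k, hk, u, hu, rfl⟩ := h.hU.2.2.2 e he
    have hun : u ∈ normalizer (X : Set G) := by
      have := mul_mem (inv_mem (hn hk)) hen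
      simpa using this
    have hu1 : u = 1 := by
      obtain ⟨x, hx, hx1⟩ := exists_ne_one hXne
      have h1 : u * x * u⁻¹ * x⁻¹ ∈ K := hX (mul_mem ((mem_normalizer_iff.1 hun x).1 hx) (inv_mem hx))
      have h2 : u * x * u⁻¹ * x⁻¹ ∈ U := by
        have h3 := (mem_normalizer_iff.1 (h.nU (h.hKE (hX hx))) _).1 (inv_mem hu)
        have := mul_mem hu h3
        convert this using 1
        group
      have h4 : u * x * u⁻¹ * x⁻¹ ∈ K ⊓ U := mem_inf.2 ⟨h1, h2⟩
      rw [h.hU.2.2.1, mem_bot] at h4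
      have h5 : u ∈ U ⊓ centralizer ({x} : Set G) := by
        refine mem_inf.2 ⟨hu, mem_centralizer_singleton_iff.2 ?_⟩
        have := congrArg (fun t => t * x * u) h4
        simp only [one_mul] at this
        calc u * x = u * x * u⁻¹ * x⁻¹ * x * u := by group
          _ = x * u := this
      rw [h.free x (hX hx) hx1, mem_bot] at h5
      exact h5
    rw [hu1, mul_one]
    exact mul_mem (mem_sup_left hk) (mem_sup_right hc')
  · refine sup_le (le_inf h.hKM hn) (le_inf (st_le M K) ?_)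
    refine inf_le_right.trans ((centralizer_le (SetLike.coe_subset_coe.2 hX)).trans (centralizer_le_normalizer _))

theorem normK (h : KS M K E U) : M ⊓ normalizer (K : Set G) = K ⊔ st M K := h.norm le_rfl h.ne le_normalizer

theorem b1 (h : KS M K E U) {X : Subgroup G} (hX : X ≤ K) (hXp : (Nat.card X).Prime) :
    M ⊓ normalizer (X : Set G) = K ⊔ st M K := h.norm hX (ne_bot_of_prime hXp) (h.nX X hX hXp)

theorem b2 (hG : IsMinSimpleOddOrder G) (hC : Con13 G) (h : KS M K E U) {X : Subgroup G} (hX : X ≤ K) (hXp : (Nat.card X).Prime)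
    {H : Subgroup G} (hH : IsCoatom H) (hN : normalizer (X : Set G) ≤ H) : Nat.card X ∈ sigma H ∧ X ≤ sigmaCore H := by
  haveI := Fact.mk hXp
  have hκ := h.hall.2.1 _ hXp (card_dvd_of_le hX)
  have hs := kappa_spec hG hκ
  have hσ : Nat.card X ∈ sigma H := hC.h1313 M E X H _ h.co h.hE hs.2.2.2.2.1 (hX.trans h.hKE) rfl
    (hs.2.2.2.2.2 X (hX.trans h.hKM) rfl) hH hN
  exact ⟨hσ, le_sigmaCore_of_pgroup hG hH (isPGroup_of_prime rfl) (le_normalizer.trans hN) hσ⟩

theorem c (hC : Con13 G) (h : KS M K E U) {X : Subgroup G} (hX : X ≤ st M K) (hXp : (Nat.card X).Prime) :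
    UMax M (centralizer (X : Set G)) := by
  obtain ⟨E₁, P, hE₁, hPE₁, hP, hPK⟩ := h.c6
  refine (hC.h136 M E E₁ P X _ h.co h.hE hE₁ hPE₁ hP hXp rfl (hX.trans inf_le_left) ?_).1
  exact hX.trans (inf_le_right.trans (centralizer_le (SetLike.coe_subset_coe.2 hPK)))

theorem e1 (hC : Con13 G) (h : KS M K E U) {p : ℕ} (hp : p.Prime) (hd : p ∣ Nat.card (st M K)) {S : Subgroup G}
    (hS : IsSylIn p S (sigmaCore M)) : UMax M S := by
  haveI := Fact.mk hp
  obtain ⟨E₁, P, hE₁, hPE₁, hP, hPK⟩ := h.c6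
  obtain ⟨x, hx, hxo⟩ := exists_elt_of_dvd hd
  have hz : zpowers x ≤ st M K := zpowers_le.2 hx
  refine (hC.h136 M E E₁ P (zpowers x) p h.co h.hE hE₁ hPE₁ hP hp (by rw [Nat.card_zpowers, hxo]) (hz.trans inf_le_left) ?_).2 S hS
  exact hz.trans (inf_le_right.trans (centralizer_le (SetLike.coe_subset_coe.2 hPK)))

theorem d1 (hG : IsMinSimpleOddOrder G) (hC : Con13 G) (h : KS M K E U) {g : G} (hg : g ∉ M) : st M K ⊓ cj g M = ⊥ := by
  by_contra hb
  obtain ⟨p, hp, x, hx, hxo, -⟩ := exists_prime_elt hb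
  haveI := Fact.mk hp
  have hcard : Nat.card (zpowers x) = p := by rw [Nat.card_zpowers, hxo]
  have hxs := (mem_inf.1 hx).1
  have hσ : p ∈ sigma M := st_sigma (M := M) (K := K) p hp (by rw [← hxo, ← orderOf_mk x hxs]; exact orderOf_dvd_natCard _)
  have hz : zpowers x ≤ st M K := zpowers_le.2 hxs
  have hU := h.c hC hz (by rw [hcard]; exact hp)
  exact hg (cj_eq_of_le hG h.co hσ (isPGroup_of_prime hcard) (ne_bot_of_prime (by rw [hcard]; exact hp)) (hz.trans (st_le M K))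
    (zpowers_le.2 (mem_inf.1 hx).2) hU.1)

theorem cent_le_M (hC : Con13 G) (h : KS M K E U) {y : G} (hy : y ∈ st M K) (hy1 : y ≠ 1) : centralizer ({y} : Set G) ≤ M := by
  obtain ⟨p, hp, -, x, hx, hxo⟩ := exists_prime_pow hy1
  have hcard : Nat.card (zpowers x) = p := by rw [Nat.card_zpowers, hxo]
  have hU := h.c hC (X := zpowers x) (zpowers_le.2 ((zpowers_le.2 hy) hx)) (by rw [hcard]; exact hp)
  rw [centralizer_zpowers] at hU
  exact (cent_zp_le hx).trans hU.1

theorem norm_le_M (hG : IsMinSimpleOddOrder G) (hC : Con13 G) (h : KS M K E U) {Y : Subgroup G} (hY : Y ≤ st M K) (hY1 : Y ≠ ⊥) : normalizer (Y : Set G) ≤ M := by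
  intro g hg
  by_contra hgM
  have h1 := h.d1 hG hC hgM
  apply hY1
  rw [eq_bot_iff, ← h1]
  refine le_inf hY ?_
  have h2 : cj g Y = Y := cj_eq_of_mem_normalizer hg
  calc Y = cj g Y := h2.symm
    _ ≤ cj g M := cj_mono (hY.trans (st_le M K))

theorem d2 (hG : IsMinSimpleOddOrder G) (h : KS M K E U) {g : G} (hgM : g ∈ M) (hg : g ∉ K ⊔ st M K) : K ⊓ cj g K = ⊥ := by
  by_contra hb
  obtain ⟨p, hp, x, hx, hxo, -⟩ := exists_prime_elt hb
  haveI := Fact.mk hp
  have hcard : Nat.card (zpowers x) = p := by rw [Nat.card_zpowers, hxo]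
  have hX : zpowers x ≤ K := zpowers_le.2 (mem_inf.1 hx).1
  have hX' : cj g⁻¹ (zpowers x) ≤ K := by
    rw [cj_le_iff, inv_inv]
    exact zpowers_le.2 (mem_inf.1 hx).2
  have hcard' : Nat.card (cj g⁻¹ (zpowers x)) = p := by rw [card_cj, hcard]
  have hκ : p ∈ kappa M := h.hall.2.1 p hp (by rw [← hcard]; exact card_dvd_of_le hX)
  have hr := (kappa_spec hG hκ).2.2.2.1
  have hn := h.nX _ hX (by rw [hcard]; exact hp)
  have hn' := h.nX _ hX' (by rw [hcard']; exact hp)
  have heq : cj g⁻¹ (zpowers x) = zpowers x := by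
    obtain ⟨T, hXT, hT⟩ := exists_isSylIn_ge (isPGroup_of_prime hcard) hX
    obtain ⟨k, hk, hkT⟩ := hT.exists_conj_le (isPGroup_of_prime hcard') hX'
    rw [cj_eq_of_mem_normalizer (hn' hk)] at hkT
    have hTc : IsCyclic T := cyclic_sylow hG hT.isPGroup (H12.SCN.pRankLE_mono (hT.le.trans h.hKM) hr)
    exact H12.Core.cyclic_eq_of_card_eq' hTc hkT hXT (by rw [hcard, hcard'])
  apply hg
  rw [← h.b1 hX (by rw [hcard]; exact hp)]
  refine mem_inf.2 ⟨hgM, ?_⟩
  have := mem_normalizer_iff_cj.2 heq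
  simpa using inv_mem this

theorem U_eq (hG : IsMinSimpleOddOrder G) (h : KS M K E U) : ⁅U, K⁆ = U := by
  have hKn : K ≤ normalizer (U : Set G) := h.hKE.trans h.nU
  have hcop : (Nat.card K).Coprime (Nat.card U) := by
    apply card_dvd_prime
    intro p hp h1 h2
    exact (h.hUq.2.1 p hp h2).2.1 (h.hall.2.1 p hp h1)
  have h1 := H1.Coprime.commutator_sup_centralizer K U hKn hcop (Or.inl (solv_le hG h.co h.hKM))
  obtain ⟨k, hk, hk1⟩ := exists_ne_one h.ne
  have h2 : U ⊓ centralizer (K : Set G) = ⊥ := by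
    rw [eq_bot_iff, ← h.free k hk hk1]
    exact inf_le_inf_left _ (centralizer_le (Set.singleton_subset_iff.2 hk))
  rwa [h2, sup_bot_eq] at h1

theorem M_le_of_normal (hG : IsMinSimpleOddOrder G) (hC : Con13 G) (h : KS M K E U) {D : Subgroup G} (hD : M ≤ normalizer (D : Set G))
    (hK : K ≤ D) : M ≤ D := by
  have hU : U ≤ D := by
    rw [← h.U_eq hG, commutator_comm]
    exact (commutator_mono hK le_rfl).trans (le_normalizer_iff_commutator_le_left.1 (h.hUM.trans hD))
  have hE : E ≤ D := by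
    intro e he
    obtain ⟨k, hk, u, hu, rfl⟩ := h.hU.2.2.2 e he
    exact mul_mem (hK hk) (hU hu)
  have hS : sigmaCore M ≤ D := by
    rw [← hC.h1217 M E h.co h.hE, commutator_comm]
    exact (commutator_mono hE le_rfl).trans (le_normalizer_iff_commutator_le_left.1 ((sigmaCore_le M).trans hD))
  intro m hm
  obtain ⟨e, he, s, hs, rfl⟩ := h.hE.2.2.2 m hm
  exact mul_mem (hE he) (hS hs)

theorem e2 (hG : IsMinSimpleOddOrder G) (hC : Con13 G) (h : KS M K E U) {p : ℕ} [hp : Fact p.Prime] {S : Subgroup G}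
    (hS : IsSylIn p S (sigmaCore M)) (hSb : S ≠ ⊥) : ¬ S ≤ st M K := by
  intro hle
  have hd : p ∣ Nat.card S := by
    rcases (IsPGroup.iff_card.1 hS.isPGroup) with ⟨n, hn⟩
    rcases n with _ | n
    · rw [pow_zero] at hn
      exact absurd (eq_bot_of_card_eq S hn) hSb
    · rw [hn]
      exact dvd_pow_self p n.succ_ne_zero
  have hσ : p ∈ sigma M := sigmaCore_pi M p hp.out (hd.trans (card_dvd_of_le hS.le))
  have hSM : IsSylIn p S M := H12.Hall.sylow_trans (sigmaCore_hallOf hG h.co) hσ hS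
  obtain ⟨hStop, hSN⟩ := sigma_sylow_top hσ hSM
  obtain ⟨N, hNM, hMN, hcN, hMNS⟩ : ∃ N : Subgroup G, N ≤ M ∧ M ≤ normalizer (N : Set G) ∧ (Nat.card N).Coprime p ∧
      M ≤ normalizer ((N ⊔ S : Subgroup G) : Set G) := by
    obtain ⟨N', L', hN', hL', hc', hNL', ⟨m, hm⟩, hLi⟩ := H12.BG6.exists_of_plength_one (plength_max hG h.co p)
    refine ⟨N'.map M.subtype, map_subtype_le _, ?_, by rwa [card_map_of_injective M.subtype_injective], ?_⟩
    · exact le_normalizer_map_of_normal hN'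
    · have hSL : S ≤ L'.map M.subtype := by
        have h1 := H12.BG6.sylow_le_of_index_coprime hLi (S := S.subgroupOf M) (hS := hSM.isPGroup.comap_of_injective M.subtype M.subtype_injective)
        have h2 := Subgroup.map_mono (f := M.subtype) h1
        rwa [H22.Basic.map_subtype_subgroupOf hSM.le] at h2
      have hSL' : IsSylIn p S (L'.map M.subtype) := hSM.mono hSL (map_subtype_le _)
      have h3 := H12.BG6.eq_sup_of_isSylIn hSL' (K := N'.map M.subtype) (map_mono hNL') ⟨m, by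
        rw [relIndex_map_map_of_injective _ _ M.subtype_injective]; exact hm⟩
      rw [h3]
      exact le_normalizer_map_of_normal hL'
  let D : Subgroup G :=
    { carrier := {m | m ∈ M ∧ ∀ s ∈ S, m * s * m⁻¹ * s⁻¹ ∈ N}
      one_mem' := ⟨one_mem _, fun s _ => by simp [one_mem]⟩
      mul_mem' := by
        rintro a b ⟨ha, ha'⟩ ⟨hb, hb'⟩
        refine ⟨mul_mem ha hb, fun s hs => ?_⟩
        have h1 := (mem_normalizer_iff.1 (hMN ha) _).1 (hb' s hs)
        have := mul_mem h1 (ha' s hs)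
        convert this using 1
        group
      inv_mem' := by
        rintro a ⟨ha, ha'⟩
        refine ⟨inv_mem ha, fun s hs => ?_⟩
        have h1 := (mem_normalizer_iff.1 (hMN (inv_mem ha)) _).1 (inv_mem (ha' s hs))
        convert h1 using 1
        group }
  have hKD : K ≤ D := by
    intro k hk
    refine ⟨h.hKM hk, fun s hs => ?_⟩
    have h1 := mem_centralizer_iff.1 (mem_inf.1 (hle hs)).2 k hk
    rw [h1, mul_inv_cancel_right, mul_inv_cancel]
    exact one_mem _
  have hMD : M ≤ normalizer (D : Set G) := by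
    have key : ∀ g ∈ M, ∀ m ∈ D, g * m * g⁻¹ ∈ D := by
      rintro g hg m ⟨hm, hm'⟩
      refine ⟨mul_mem (mul_mem hg hm) (inv_mem hg), fun s hs => ?_⟩
      have h1 : g⁻¹ * s * g⁻¹⁻¹ ∈ N ⊔ S := (mem_normalizer_iff.1 (hMNS (inv_mem hg)) s).1 (mem_sup_right hs)
      obtain ⟨n, hn, s', hs', he⟩ := (H22.Basic.mem_sup_of_le_normalizer (hSM.le.trans hMN)).1 h1
      have h2 : m * n * m⁻¹ * n⁻¹ ∈ N := mul_mem ((mem_normalizer_iff.1 (hMN hm) n).1 hn) (inv_mem hn)
      have h3 : n * (m * s' * m⁻¹ * s'⁻¹) * n⁻¹ ∈ N := mul_mem (mul_mem hn (hm' s' hs')) (inv_mem hn)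
      have h4 := mul_mem h2 h3
      have h5 := (mem_normalizer_iff.1 (hMN hg) _).1 h4
      have e1 : g * m * g⁻¹ * s * (g * m * g⁻¹)⁻¹ * s⁻¹ = g * (m * (g⁻¹ * s * g⁻¹⁻¹) * m⁻¹ * (g⁻¹ * s * g⁻¹⁻¹)⁻¹) * g⁻¹ := by group
      rw [e1, ← he]
      convert h5 using 1
      group
    intro g hg
    rw [mem_normalizer_iff]
    intro m
    refine ⟨key g hg m, fun hh => ?_⟩
    have := key g⁻¹ (inv_mem hg) _ hh
    convert this using 1
    group
  have hMleD := h.M_le_of_normal hG hC hMD hKD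
  have hNC : normalizer (S : Set G) ≤ centralizer (S : Set G) := by
    intro n hn
    rw [mem_centralizer_iff]
    intro s hs
    have h1 : n * s * n⁻¹ * s⁻¹ ∈ N := (hMleD (hSN hn)).2 s hs
    have h2 : n * s * n⁻¹ * s⁻¹ ∈ S := mul_mem ((mem_normalizer_iff.1 hn s).1 hs) (inv_mem hs)
    have h3 : n * s * n⁻¹ * s⁻¹ ∈ S ⊓ N := mem_inf.2 ⟨h2, h1⟩
    rw [inf_eq_bot_of_isPGroup hp.out hS.isPGroup hcN, mem_bot] at h3
    have := congrArg (fun t => t * s * n) h3
    simp only [one_mul] at this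
    rw [← this]
    group
  obtain ⟨V, hV, -⟩ := exists_compl_sylow (P := S) (N := normalizer (S : Set G)) (p := p) (hStop.mono le_normalizer le_top) le_rfl
  · have h1 := thm107a hG hStop hV
    apply hSb
    rw [eq_bot_iff, h1]
    have h2 : V ≤ centralizer (S : Set G) := hV.2.1.trans hNC
    rw [commutator_comm, commutator_eq_bot_iff_le_centralizer.2 h2]

theorem f (hG : IsMinSimpleOddOrder G) (hC : Con13 G) (h : KS M K E U) {Y : Subgroup G}
    (hY : ∀ p : ℕ, p.Prime → p ∣ Nat.card Y → p ∈ sigma M) (hne : Y ⊓ st M K ≠ ⊥) : Y ≤ sigmaCore M := by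
  have hYb : Y ≠ ⊥ := by
    rintro rfl
    exact hne (bot_inf_eq _)
  obtain ⟨g, hg⟩ := thm1216 hG h.co hYb hY
  have h1 : Y ≤ cj g⁻¹ (sigmaCore M) := cj_le_iff.1 hg
  have h2 : g⁻¹ ∈ M := by
    by_contra hgM
    have h3 := h.d1 hG hC hgM
    apply hne
    rw [eq_bot_iff, ← h3]
    exact le_inf inf_le_right (inf_le_left.trans (h1.trans (cj_mono (sigmaCore_le M))))
  rwa [cj_eq_of_mem_normalizer (le_normalizer_sigmaCore M h2)] at h1

theorem U_le_comm (hG : IsMinSimpleOddOrder G) (h : KS M K E U) : U ≤ ⁅M, M⁆ := by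
  rw [← h.U_eq hG]
  exact commutator_mono h.hUM h.hKM

/-- 14.2(g) -/
theorem g (hG : IsMinSimpleOddOrder G) (h : KS M K E U) (hU : U ≠ ⊥) :
    (∀ p, p ∈ sigma M → p ∈ beta M) ∧ (Nat.card K).Prime ∧ Group.IsNilpotent (sigmaCore M) ∧
      Nat.card (sigmaCore M) = Nat.card (st M K) ^ Nat.card K ∧ sigmaCore M ⊓ centralizer (U : Set G) = ⊥ := by
  obtain ⟨r, hr, u, hu, huo, hrU⟩ := exists_prime_elt hU
  haveI := Fact.mk hr
  obtain ⟨hr1, hrk, hrσ⟩ := h.hUq.2.1 r hr hrU
  obtain ⟨R, hR⟩ := exists_isSylIn (p := r) U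
  have hRM : IsSylIn r R M := H12.Hall.sylow_trans h.hUq ⟨hr1, hrk, hrσ⟩ hR
  obtain ⟨A, hAR, hA, hAall, hAc, hAb, hAcent, hnil⟩ := thm141 hG h.co (hrU.trans (card_dvd_of_le h.hUM)) hrσ hrk hRM
  have hCU : sigmaCore M ⊓ centralizer (U : Set G) = ⊥ := by
    rw [eq_bot_iff, ← hAcent]
    exact inf_le_inf_left _ (centralizer_le (SetLike.coe_subset_coe.2 (hAR.trans hR.le)))
  have hEs := compl_sigmaC hG h.co h.hE
  have hUK : U ⊔ K ≤ E := sup_le h.hUE h.hKE
  have hcop : (Nat.card ↥(U ⊔ K)).Coprime (Nat.card (sigmaCore M)) := (hEs.mono hUK).coprime.symm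
  have hs := S1446.result U K (sigmaCore M) hU h.ne (by rw [inf_comm]; exact h.hU.2.2.1) (h.hKE.trans h.nU) h.free
    (solv_le hG h.co (hUK.trans h.hEM)) (odd_card_subgroup hG _) (sigmaCore_ne_bot hG h.co) hnil
    (h.hUM.trans (le_normalizer_sigmaCore M)) (h.hKM.trans (le_normalizer_sigmaCore M)) hcop hCU h.prime
  refine ⟨?_, hs.1, hnil, hs.2.1, hCU⟩
  intro q hq
  by_contra hqβ
  haveI := Fact.mk hq.1
  obtain ⟨Q, hQM, -, -, hQs⟩ := sigma_sylow hG h.co hq
  have hQsyl : IsSylIn q Q (sigmaCore M) := hQM.mono hQs (sigmaCore_le M)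
  have hnar := nar_of_not_beta hq hqβ hQM
  have hQn : M ≤ normalizer (Q : Set G) := normal_of_nilpotent_sylow (sigmaCore_le M) (le_normalizer_sigmaCore M) hnil hQsyl
  have hrq : r ≠ q := by
    rintro rfl
    exact hrσ hq
  have hq2 : q ≠ 2 := prime_ne_two hG (hq.2.1.trans (card_subgroup_dvd_card M))
  have h1 : R ≤ centralizer (Q : Set G) := cent_of_nar hrq hq2 (solvable_of_ne_top hG h.co.1) (odd_card_subgroup hG M) hQM.le hQn hQM.isPGroup hnar
    hR.isPGroup (hR.le.trans (h.U_le_comm hG))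
  have h2 : Q ≤ sigmaCore M ⊓ centralizer (A : Set G) := le_inf hQs (by
    rw [le_centralizer_iff]
    exact hAR.trans h1)
  rw [hAcent, le_bot_iff] at h2
  subst h2
  apply hQM.not_dvd
  rw [relIndex_bot_left]
  exact hq.2.1

end KS

end Cfsg.Agent.H2.BG14
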