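import Mathlib
import Cfsg.Agent.H2_BG14c
import Cfsg.Agent.H12_BG12j

/-! BG §14: 14.3, 14.4 -/

set_option autoImplicit false
set_option linter.unusedSectionVars false

open Pointwise
open scoped commutatorElement

namespace Cfsg.Agent.H2.BG14

open Cfsg Subgroup H13.Syl H12.Loc H12.BG7 H12.BG10 H12.BG11 H12.BG12 H2.Con13

universe u

variable {G : Type u} [Group G] [Finite G]

theorem tau2_norm (hG : IsMinSimpleOddOrder G) {M E A A₁ B B₁ S T : Subgroup G} {p q : ℕ} [hp : Fact p.Prime] [hq : Fact q.Prime]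
    (hM : IsCoatom M) (h : Exc M p A A₁) (h' : Exc M q B B₁)
    (hE : IsComplIn E (sigmaCore M) M) (hAE : A ≤ E) (hBE : B ≤ E) (hS : IsSylIn p S ⊤) (hAS : A ≤ S) (hSab : IsMulCommutative S)
    (hT : IsSylIn q T ⊤) (hBT : B ≤ T) (hTab : IsMulCommutative T) : normalizer (S : Set G) ≤ normalizer (T : Set G) := by
  obtain ⟨a1, a2, a3, a4, a5, a6⟩ := thm128c hG h hE hAE hS hAS hSab
  obtain ⟨b1, b2, b3, b4, b5, b6⟩ := thm128c hG h' hE hBE hT hBT hTab
  have hTF : T ≤ fittingOf E := b1.trans b2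
  have hTsyl : IsSylIn q T (fittingOf E) := hT.mono hTF le_top
  have hTn : normalizer (A : Set G) ≤ normalizer (T : Set G) := by
    refine normal_of_nilpotent_sylow (N := fittingOf E) ?_ ?_ (H12.Core.fittingOf_isNilpotent E) hTsyl
    · rw [← a5]; exact H12.Core.fittingOf_le _
    · rw [← a5]; exact H12.Core.le_normalizer_fittingOf _
  rw [← a6]
  exact hTn

theorem exists_sylow_top_ge {p : ℕ} [hp : Fact p.Prime] {A : Subgroup G} (hA : IsPGroup p A) : ∃ S : Subgroup G, IsSylIn p S ⊤ ∧ A ≤ S := by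
  obtain ⟨S, h1, h2⟩ := exists_isSylIn_ge hA (le_top : A ≤ ⊤)
  exact ⟨S, h2, h1⟩

/-- Corollary 14.3 -/
theorem thm143 (hG : IsMinSimpleOddOrder G) (hC : Con13 G) {M : Subgroup G} (hM : IsCoatom M) {x x' : G} (hx : x ∈ sigmaCore M)
    (hx1 : x ≠ 1) (hx'M : x' ∈ M) (hx' : x' ∈ centralizer ({x} : Set G)) (hx'1 : x' ≠ 1)
    (hσ : ∀ p : ℕ, p.Prime → p ∣ orderOf x' → p ∉ sigma M) :
    ((∀ p : ℕ, p.Prime → p ∣ orderOf x' → p ∈ kappa M) ∧ centralizer ({x} : Set G) ≤ M ∧
      ∃ K E U : Subgroup G, KS M K E U ∧ x' ∈ K ∧ x ∈ st M K) ∨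
    ((∀ p : ℕ, p.Prime → p ∣ orderOf x' → p ∈ tau2 M) ∧
      (∃ L : Subgroup G, IsCoatom L ∧ ∀ p : ℕ, p.Prime → p ∣ orderOf x' → p ∈ sigma L) ∧ UMax M (centralizer ({x'} : Set G))) := by
  have hx'C : x' * x = x * x' := mem_centralizer_singleton_iff.1 hx'
  have hSC : SigmaC M (zpowers x') := by
    intro p hp hd
    rw [Nat.card_zpowers] at hd
    exact hσ p hp hd
  obtain ⟨E, hx'E, hE⟩ := exists_E hG hM (zpowers_le.2 hx'M) hSC
  have hx'E : x' ∈ E := hx'E (mem_zpowers x')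
  have hEM := hE.1
  have hEs := solv_le hG hM hEM
  by_cases hκ : ∃ p : ℕ, p.Prime ∧ p ∣ orderOf x' ∧ p ∈ kappa M
  · left
    obtain ⟨p, hp, hpd, hpκ⟩ := hκ
    haveI := Fact.mk hp
    obtain ⟨y, hy, hyo⟩ := exists_elt_of_dvd (X := zpowers x') (p := p) (by rw [Nat.card_zpowers]; exact hpd)
    have hcy : Nat.card (zpowers y) = p := by rw [Nat.card_zpowers, hyo]
    have hyE : y ∈ E := (zpowers_le.2 hx'E) hy
    obtain ⟨K, hyK, hK⟩ := H12.Hall.exists_hall_ge (π := kappa M) (X := zpowers y) hEs (by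
      rw [hcy]
      have := H12.Core.piNum_of_pow (k := 1) hp hpκ
      rwa [pow_one] at this) (zpowers_le.2 hyE)
    have hyK' : y ∈ K := hyK (mem_zpowers y)
    have hKM : IsPiHallOf (kappa M) K M := by
      refine H12.Hall.trans (compl_hall hG hM hE) (fun r hr => hr.2.2.1) hK
    have hKb : K ≠ ⊥ := by
      rintro rfl
      rw [mem_bot] at hyK'
      rw [hyK', orderOf_one] at hyo
      exact hp.one_lt.ne hyo
    obtain ⟨U, h⟩ := exists_KS hG hC hM hKM hKb hK.1 hE
    have hy1 : y ≠ 1 := by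
      rintro rfl
      rw [orderOf_one] at hyo
      exact hp.one_lt.ne hyo
    have hxst : x ∈ st M K := by
      show x ∈ sigmaCore M ⊓ centralizer (K : Set G)
      rw [← h.prime y hyK' hy1]
      refine mem_inf.2 ⟨hx, mem_centralizer_singleton_iff.2 ?_⟩
      obtain ⟨k, rfl⟩ := mem_zpowers_iff.1 hy
      exact ((Commute.zpow_left (show Commute x' x from hx'C) k).eq).symm
    have hx'K : x' ∈ K := by
      have h1 : x' ∈ K ⊔ st M K := by
        rw [← h.b1 hyK (by rw [hcy]; exact hp)]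
        refine mem_inf.2 ⟨hx'M, centralizer_le_normalizer _ ?_⟩
        rw [centralizer_zpowers, mem_centralizer_singleton_iff]
        obtain ⟨k, rfl⟩ := mem_zpowers_iff.1 hy
        exact ((Commute.zpow_right (Commute.refl x') k).eq)
      have hstn : K ≤ normalizer ((st M K : Subgroup G) : Set G) := by
        refine le_trans ?_ (centralizer_le_normalizer _)
        rw [le_centralizer_iff]
        exact inf_le_right
      obtain ⟨k, hk, s, hs, he⟩ := (H22.Basic.mem_sup_of_le_normalizer' (N := st M K) (K := K) hstn).1 (by rwa [sup_comm] at h1)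
      have hsE : s ∈ E := by
        have h2 := mul_mem (inv_mem (hK.1 hk)) hx'E
        rw [← he] at h2
        simpa using h2
      have h3 : s ∈ E ⊓ sigmaCore M := mem_inf.2 ⟨hsE, (mem_inf.1 hs).1⟩
      rw [hE.2.2.1, mem_bot] at h3
      rw [h3, mul_one] at he
      rwa [← he]
    refine ⟨?_, h.cent_le_M hC hxst hx1, K, E, U, h, hx'K, hxst⟩
    intro q hq hqd
    exact hKM.2.1 q hq (hqd.trans (by rw [← orderOf_mk x' hx'K]; exact orderOf_dvd_natCard _))
  · right
    push Not at hκ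
    have hτ : ∀ p : ℕ, p.Prime → p ∣ orderOf x' → p ∈ tau2 M := by
      intro p hp hpd
      haveI := Fact.mk hp
      have hpM : p ∣ Nat.card M := hpd.trans (by rw [← orderOf_mk x' hx'M]; exact orderOf_dvd_natCard _)
      rcases tau_cases hG hM hp hpM (hσ p hp hpd) with h | ⟨h, -⟩
      · exact h
      · exfalso
        obtain ⟨y, hy, hyo⟩ := exists_elt_of_dvd (X := zpowers x') (p := p) (by rw [Nat.card_zpowers]; exact hpd)
        refine hκ p hp hpd (kappa_of hG (hσ p hp hpd) h (X := zpowers y) (zpowers_le.2 ((zpowers_le.2 hx'M) hy))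
          (by rw [Nat.card_zpowers, hyo]) ?_)
        intro hb
        have : x ∈ sigmaCore M ⊓ centralizer ((zpowers y : Subgroup G) : Set G) := by
          refine mem_inf.2 ⟨hx, ?_⟩
          rw [centralizer_zpowers, mem_centralizer_singleton_iff]
          obtain ⟨k, rfl⟩ := mem_zpowers_iff.1 hy
          exact ((Commute.zpow_left (show Commute x' x from hx'C) k).eq).symm
        rw [hb, mem_bot] at this
        exact hx1 this
    refine ⟨hτ, ?_, ?_⟩
    · obtain ⟨p, hp, hpd, -⟩ := exists_prime_pow hx'1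
      haveI := Fact.mk hp
      have hpτ := hτ p hp hpd
      by_cases hab : ∃ S : Subgroup G, IsSylIn p S ⊤ ∧ IsMulCommutative S
      · obtain ⟨S₀, hS₀, hS₀ab⟩ := hab
        obtain ⟨A, hAE, hA, hAc⟩ := exists_ea_compl hG hM hE hpτ
        obtain ⟨A₁, hexc⟩ := exists_exc hG hM hpτ.2.1 (hAE.trans hEM) hA hAc
        obtain ⟨S, hS, hAS⟩ := exists_sylow_top_ge (ea_isPGroup hA)
        have hSab := comm_of_sylow hS₀ hS hS₀ab
        have hSb : S ≠ ⊥ := by
          rintro rfl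
          rw [le_bot_iff] at hAS
          rw [hAS, card_bot] at hAc
          exact absurd hAc (Nat.one_lt_pow two_ne_zero hp.one_lt).ne
        obtain ⟨L, hL, hSL, hSLs, hpL⟩ := exists_max_normalizer hG hS hSb
        refine ⟨L, hL, ?_⟩
        intro q hq hqd
        haveI := Fact.mk hq
        by_cases hqp : q = p
        · rw [hqp]; exact hpL
        have hqτ := hτ q hq hqd
        obtain ⟨B, hBE, hB, hBc⟩ := exists_ea_compl hG hM hE hqτ
        obtain ⟨B₁, hexc'⟩ := exists_exc hG hM hqτ.2.1 (hBE.trans hEM) hB hBc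
        obtain ⟨T, hT, hBT⟩ := exists_sylow_top_ge (ea_isPGroup hB)
        have hTab : IsMulCommutative T := by
          by_contra hn
          have := tau2_eq_of_nonabelian hG hM hqτ (fun T' hT' h' => hn (comm_of_sylow hT' hT h')) p hpτ
          exact hqp this.symm
        have hTS := tau2_norm hG hM hexc' hexc hE hBE hAE hT hBT hTab hS hAS hSab
        have hTL : T ≤ L := le_normalizer.trans (hTS.trans hSL)
        have hqG : q ∣ Nat.card L := by
          have h1 : Nat.card B ∣ Nat.card L := card_dvd_of_le (hBT.trans hTL)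
          exact ((dvd_pow_self q two_ne_zero).trans (hBc ▸ dvd_rfl)).trans h1
        exact sigma_of_normalizer hq hqG (hT.mono hTL le_top) (hTS.trans hSL)
      · push Not at hab
        have honly := tau2_eq_of_nonabelian hG hM hpτ hab
        obtain ⟨S, hS, -⟩ := exists_sylow_top_ge (p := p) (A := (⊥ : Subgroup G)) (IsPGroup.of_bot)
        have hSb : S ≠ ⊥ := by
          rintro rfl
          exact hab ⊥ hS ⟨⟨fun a b => Subsingleton.elim _ _⟩⟩
        obtain ⟨L, hL, hSL, hSLs, hpL⟩ := exists_max_normalizer hG hS hSb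
        refine ⟨L, hL, fun q hq hqd => ?_⟩
        rw [honly q (hτ q hq hqd)]
        exact hpL
    · have hXs : Group.IsNilpotent (zpowers x') := nilp_of_comm inferInstance
      have h1 := thm1210e hG hM (X := zpowers x') (zpowers_le.2 hx'M) (by rwa [Ne, zpowers_eq_bot]) hXs (by
        intro q hq hd
        rw [Nat.card_zpowers] at hd
        exact hτ q hq hd) (by
        intro hb
        have : x ∈ sigmaCore M ⊓ centralizer ((zpowers x' : Subgroup G) : Set G) := by
          refine mem_inf.2 ⟨hx, ?_⟩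
          rw [centralizer_zpowers, mem_centralizer_singleton_iff]
          exact hx'C.symm
        rw [hb, mem_bot] at this
        exact hx1 this)
      rwa [centralizer_zpowers] at h1

/-- the data of 14.4 -/
structure ND (M N : Subgroup G) (x : G) : Prop where
  co : IsCoatom N
  um : UMax N (centralizer ({x} : Set G))
  tau : ∀ p : ℕ, p.Prime → p ∣ orderOf x → p ∈ tau2 N
  inf : sigmaCore N ⊓ M = ⊥
  cmp : IsComplIn (M ⊓ N) (sigmaCore N) N
  nil : Group.IsNilpotent (sigmaCore N)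
  ne : sigmaCore N ⊓ centralizer ({x} : Set G) ≠ ⊥
  nc : ∀ g : G, N ≠ cj g M
  nX : ∀ X : Subgroup G, X ≤ zpowers x → (Nat.card X).Prime → normalizer (X : Set G) ≤ N
  t2 : ∀ r, r ∈ tau2 N → r ∈ sigma M
  bt : ∀ r, r ∈ sigma N → r ∣ Nat.card M → r ∈ beta N

theorem order_sigma {M : Subgroup G} {x : G} (hx : x ∈ sigmaCore M) {p : ℕ} (hp : p.Prime) (hd : p ∣ orderOf x) : p ∈ sigma M :=
  sigmaCore_pi M p hp (hd.trans (by rw [← orderOf_mk x hx]; exact orderOf_dvd_natCard _))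

theorem orderOf_ne {x : G} {p : ℕ} (hp : p.Prime) (h : orderOf x = p) : x ≠ 1 := by
  rintro rfl
  rw [orderOf_one] at h
  exact hp.one_lt.ne h

theorem nd_aux (hG : IsMinSimpleOddOrder G) (hC : Con13 G) {M : Subgroup G} (hM : IsCoatom M) {x : G} (hx : x ∈ sigmaCore M)
    (hx1 : x ≠ 1) (hxM : ¬ centralizer ({x} : Set G) ≤ M) {q : ℕ} [hq : Fact q.Prime] {y : G} (hy : y ∈ zpowers x) (hyo : orderOf y = q)
    {H : Subgroup G} (hH : IsCoatom H) (hN : normalizer ((zpowers y : Subgroup G) : Set G) ≤ H) :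
    UMax H (centralizer ({x} : Set G)) ∧ (∀ p : ℕ, p.Prime → p ∣ orderOf x → p ∈ tau2 H) ∧ sigmaCore H ⊓ M = ⊥ ∧
      IsComplIn (M ⊓ H) (sigmaCore H) H ∧ Group.IsNilpotent (sigmaCore H) ∧ sigmaCore H ⊓ centralizer ({x} : Set G) ≠ ⊥ ∧
      (∀ g : G, H ≠ cj g M) ∧ (∀ r, r ∈ sigma H → r ∣ Nat.card M → r ∈ beta H) := by
  have hcy : Nat.card (zpowers y) = q := by rw [Nat.card_zpowers, hyo]
  have hxM' : x ∈ M := sigmaCore_le M hx
  have hyM : y ∈ M := (zpowers_le.2 hxM') hy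
  have hyx : centralizer ({x} : Set G) ≤ centralizer ({y} : Set G) := cent_zp_le hy
  have hCyH : centralizer ({y} : Set G) ≤ H := by
    rw [← centralizer_zpowers]
    exact (centralizer_le_normalizer _).trans hN
  have hCxH : centralizer ({x} : Set G) ≤ H := hyx.trans hCyH
  have hne : H ≠ M := by
    rintro rfl
    exact hxM hCxH
  have hσ : q ∈ sigma M := sigmaCore_pi M q hq.out (by
    rw [← hcy]; exact card_dvd_of_le (zpowers_le.2 ((zpowers_le.2 hx) hy)))
  have hyp : IsPGroup q (zpowers y) := isPGroup_of_prime hcy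
  have hyb : zpowers y ≠ ⊥ := ne_bot_of_prime (by rw [hcy]; exact hq.out)
  have hzM : zpowers y ≤ M := zpowers_le.2 hyM
  have hzH : zpowers y ≤ H := le_normalizer.trans hN
  have hnc := not_conj hG hM hne hyp hyb hzM hN hσ
  have hσH : q ∉ sigma H := hC.h139 M H hM hH hnc q hσ
  obtain ⟨S, hXS, hS⟩ := exists_isSylIn_ge hyp (le_inf hzM hzH)
  obtain ⟨hτ, hhall, hinf, hnil⟩ := thm1215e hG hM hH hne hσ hyp hyb hN hS hXS hσH
  have hcmp := isCompl_of_hall hG hH hhall
  have hxH : x ∈ H := hCxH (mem_centralizer_singleton_iff.2 rfl)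
  have hxE : x ∈ M ⊓ H := mem_inf.2 ⟨hxM', hxH⟩
  have hCne : sigmaCore H ⊓ centralizer ({x} : Set G) ≠ ⊥ := by
    intro hb
    apply hxM
    intro c hc
    obtain ⟨e, he, s, hs, rfl⟩ := fus hcmp (le_normalizer_sigmaCore H) (X := zpowers x) (zpowers_le.2 hxE) (hCxH hc) (by
      rw [cj_le_iff_forall]
      intro a ha
      obtain ⟨k, rfl⟩ := mem_zpowers_iff.1 ha
      have h1 : c * x ^ k * c⁻¹ = x ^ k := by
        have := (Commute.zpow_right (show Commute c x from mem_centralizer_singleton_iff.1 hc) k).eq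
        rw [this]; group
      rw [h1]
      exact zpow_mem hxE k)
    rw [centralizer_zpowers, hb, mem_bot] at hs
    rw [hs, mul_one]
    exact (mem_inf.1 he).1
  obtain ⟨w, hw, hw1⟩ := exists_ne_one hCne
  have hxσH : ∀ p : ℕ, p.Prime → p ∣ orderOf x → p ∉ sigma H := fun p hp hd => hC.h139 M H hM hH hnc p (order_sigma hx hp hd)
  have hqx : q ∣ orderOf x := by
    rw [← hcy, ← Nat.card_zpowers x]
    exact card_dvd_of_le (zpowers_le.2 hy)
  rcases thm143 hG hC hH (mem_inf.1 hw).1 hw1 hxH (by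
      rw [mem_centralizer_singleton_iff]
      exact (mem_centralizer_singleton_iff.1 (mem_inf.1 hw).2).symm) hx1 hxσH with ⟨hk, -⟩ | ⟨ht, -, hu⟩
  · exact absurd (kappa_spec hG (hk q hq.out hqx)).2.2.2.1 hτ.2.2.2
  · exact ⟨hu, ht, hinf, hcmp, hnil, hCne, hnc, fun r hr hd => thm1215e2 hG hM hH hne hσ hyp hyb hN hS hXS hσH hr hd⟩

theorem exists_ND (hG : IsMinSimpleOddOrder G) (hC : Con13 G) {M : Subgroup G} (hM : IsCoatom M) {x : G} (hx : x ∈ sigmaCore M)
    (hx1 : x ≠ 1) (hxM : ¬ centralizer ({x} : Set G) ≤ M) : ∃ N : Subgroup G, ND M N x := by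
  obtain ⟨q, hq, hqd, y, hy, hyo⟩ := exists_prime_pow hx1
  haveI := Fact.mk hq
  have hcy : Nat.card (zpowers y) = q := by rw [Nat.card_zpowers, hyo]
  have hzt : ∀ y : G, y ≠ 1 → normalizer ((zpowers y : Subgroup G) : Set G) ≠ ⊤ := fun y hy => normalizer_ne_top hG (by rwa [Ne, zpowers_eq_bot])
    (ne_top_of_solvable hG (by haveI := nilp_of_comm (N := zpowers y) inferInstance; infer_instance))
  obtain ⟨H, hH, hN⟩ := exists_isCoatom_ge (hzt y (orderOf_ne hq hyo))
  obtain ⟨hu, ht, hinf, hcmp, hnil, hCne, hnc, hbt⟩ := nd_aux hG hC hM hx hx1 hxM hy hyo hH hN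
  refine ⟨H, hH, hu, ht, hinf, hcmp, hnil, hCne, hnc, ?_, ?_, hbt⟩
  · intro X hX hXp
    obtain ⟨z, hz1, hzp, hz⟩ : ∃ z : G, z ≠ 1 ∧ orderOf z = Nat.card X ∧ zpowers z = X := by
      haveI := Fact.mk hXp
      obtain ⟨z, hz, hzp, hz1⟩ := exists_gen (p := Nat.card X) (A₀ := X) rfl
      exact ⟨z, hz1, by rw [← hz, Nat.card_zpowers], hz⟩
    haveI := Fact.mk hXp
    have hzx : z ∈ zpowers x := hX (by rw [← hz]; exact mem_zpowers z)
    obtain ⟨H', hH', hN'⟩ := exists_isCoatom_ge (hzt z hz1)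
    obtain ⟨hu', -⟩ := nd_aux hG hC hM hx hx1 hxM hzx hzp hH' hN'
    have : H' = H := hu.2 H' hH' hu'.1
    rw [hz, this] at hN'
    exact hN'
  · -- tau2 H ⊆ sigma M
    intro r hr
    have hqτ := ht q hq hqd
    have hqσ := order_sigma hx hq hqd
    by_cases hrq : r = q
    · rw [hrq]; exact hqσ
    haveI := Fact.mk hr.1
    obtain ⟨A, hAE, hA, hAc⟩ := exists_ea_compl hG hH hcmp hqτ
    obtain ⟨A₁, hexc⟩ := exists_exc hG hH hqτ.2.1 (hAE.trans hcmp.1) hA hAc
    obtain ⟨S, hS, hAS⟩ := exists_sylow_top_ge (ea_isPGroup hA)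
    have hSab : IsMulCommutative S := by
      by_contra hn
      exact hrq (tau2_eq_of_nonabelian hG hH hqτ (fun T' hT' h' => hn (comm_of_sylow hT' hS h')) r hr)
    obtain ⟨B, hBE, hB, hBc⟩ := exists_ea_compl hG hH hcmp hr
    obtain ⟨B₁, hexc'⟩ := exists_exc hG hH hr.2.1 (hBE.trans hcmp.1) hB hBc
    obtain ⟨T, hT, hBT⟩ := exists_sylow_top_ge (ea_isPGroup hB)
    have hTab : IsMulCommutative T := by
      by_contra hn
      exact hrq (tau2_eq_of_nonabelian hG hH hr (fun T' hT' h' => hn (comm_of_sylow hT' hT h')) q hqτ).symm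
    have hTS := tau2_norm hG hH hexc' hexc hcmp hBE hAE hT hBT hTab hS hAS hSab
    have h4 := thm128c hG hexc hcmp hAE hS hAS hSab
    have hSE : S ≤ M ⊓ H := (h4.1.trans h4.2.1).trans (H12.Core.fittingOf_le _)
    have hSM : IsSylIn q S M := hS.mono (hSE.trans inf_le_left) le_top
    have hNS := (sigma_sylow_top hqσ hSM).2
    have hTM : T ≤ M := le_normalizer.trans (hTS.trans hNS)
    have hrM : r ∣ Nat.card M := by
      have h1 : Nat.card B ∣ Nat.card M := card_dvd_of_le (hBT.trans hTM)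
      exact ((dvd_pow_self r two_ne_zero).trans (hBc ▸ dvd_rfl)).trans h1
    exact sigma_of_normalizer hr.1 hrM (hT.mono hTM le_top) (hTS.trans hNS)

/-- transitivity -/
theorem trans_gen (hG : IsMinSimpleOddOrder G) {M : Subgroup G} (hM : IsCoatom M) {x y : G} (hx : x ∈ sigmaCore M)
    {q : ℕ} [hq : Fact q.Prime] (hy : y ∈ zpowers x) (hyo : orderOf y = q) {N : Subgroup G} (hN : ND M N y) {g : G} (hg : x ∈ cj g M) :
    ∃ n ∈ sigmaCore N ⊓ centralizer ({x} : Set G), cj n M = cj g M := by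
  have hcy : Nat.card (zpowers y) = q := by rw [Nat.card_zpowers, hyo]
  have hyp : IsPGroup q (zpowers y) := isPGroup_of_prime hcy
  have hyb : zpowers y ≠ ⊥ := ne_bot_of_prime (by rw [hcy]; exact hq.out)
  have hxM' : x ∈ M := sigmaCore_le M hx
  have hzM : zpowers y ≤ M := zpowers_le.2 ((zpowers_le.2 hxM') hy)
  have hσ : q ∈ sigma M := sigmaCore_pi M q hq.out (by
    rw [← hcy]; exact card_dvd_of_le (zpowers_le.2 ((zpowers_le.2 hx) hy)))
  have h1 : cj g⁻¹ (zpowers y) ≤ M := by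
    rw [cj_le_iff, inv_inv]
    exact zpowers_le.2 ((zpowers_le.2 hg) hy)
  obtain ⟨m, hm, c, hc, hgc⟩ := (thm101 hG hM hσ hyp hyb hzM).1 g⁻¹ h1
  have hgM : cj g M = cj c⁻¹ M := by
    have : g = c⁻¹ * m⁻¹ := by
      rw [← inv_inv g, hgc]; group
    rw [this, cj_mul, cj_eq_of_mem (inv_mem hm)]
  have hcN : c⁻¹ ∈ N := by
    rw [centralizer_zpowers] at hc
    exact hN.um.1 (inv_mem hc)
  obtain ⟨e, he, n, hn, hcen⟩ := hN.cmp.2.2.2 _ (inv_mem hcN)
  -- c = e * n, so c⁻¹ = n⁻¹ e⁻¹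
  have hc2 : c⁻¹ = n⁻¹ * e⁻¹ := by
    rw [inv_inv] at hcen
    rw [hcen]; group
  have hgM2 : cj g M = cj n⁻¹ M := by
    rw [hgM, hc2, cj_mul, cj_eq_of_mem (inv_mem (mem_inf.1 he).1)]
  refine ⟨n⁻¹, mem_inf.2 ⟨inv_mem hn, ?_⟩, hgM2.symm⟩
  have hxN : x ∈ N := hN.um.1 (by
    rw [mem_centralizer_singleton_iff]
    obtain ⟨k, rfl⟩ := mem_zpowers_iff.1 hy
    exact ((Commute.zpow_right (Commute.refl x) k).eq))
  rw [hgM2, mem_cj, inv_inv] at hg
  have h3 : n * x * n⁻¹ ∈ M ⊓ N := mem_inf.2 ⟨hg, by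
    have hnN := sigmaCore_le N hn
    exact mul_mem (mul_mem hnN hxN) (inv_mem hnN)⟩
  have h4 : n * x * n⁻¹ * x⁻¹ ∈ M ⊓ N := mul_mem h3 (inv_mem (mem_inf.2 ⟨hxM', hxN⟩))
  have h5 : n * x * n⁻¹ * x⁻¹ ∈ sigmaCore N := by
    have h6 := (mem_normalizer_iff.1 (le_normalizer_sigmaCore N hxN) _).1 (inv_mem hn)
    have := mul_mem hn h6
    convert this using 1
    group
  have h6 : n * x * n⁻¹ * x⁻¹ ∈ (M ⊓ N) ⊓ sigmaCore N := mem_inf.2 ⟨h4, h5⟩
  rw [hN.cmp.2.2.1, mem_bot] at h6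
  have h7 : n * x = x * n := by
    have := congrArg (fun t => t * x * n) h6
    simp only [one_mul] at this
    calc n * x = n * x * n⁻¹ * x⁻¹ * x * n := by group
      _ = x * n := this
  apply inv_mem
  rw [mem_centralizer_singleton_iff]
  exact h7

/-- if `x ∈ M_sigma` has `C_G(x) ≤ M`, then `M` is the only conjugate containing `x` -/
theorem cj_eq_of_cent_le (hG : IsMinSimpleOddOrder G) (hC : Con13 G) {M : Subgroup G} (hM : IsCoatom M) {x : G} (hx : x ∈ sigmaCore M)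
    (hx1 : x ≠ 1) (hxM : centralizer ({x} : Set G) ≤ M) {g : G} (hg : x ∈ cj g M) : cj g M = M := by
  obtain ⟨q, hq, hqd, y, hy, hyo⟩ := exists_prime_pow hx1
  haveI := Fact.mk hq
  by_cases hyM : centralizer ({y} : Set G) ≤ M
  · have hcy : Nat.card (zpowers y) = q := by rw [Nat.card_zpowers, hyo]
    have hzx : zpowers y ≤ zpowers x := zpowers_le.2 hy
    have h1 := cj_eq_of_le hG hM (order_sigma hx hq hqd) (isPGroup_of_prime hcy) (ne_bot_of_prime (by rw [hcy]; exact hq))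
      (hzx.trans (zpowers_le.2 (sigmaCore_le M hx))) (hzx.trans (zpowers_le.2 hg)) (by rwa [centralizer_zpowers])
    exact cj_eq_of_mem h1
  · obtain ⟨N, hN⟩ := exists_ND hG hC hM (x := y) ((zpowers_le.2 hx) hy) (orderOf_ne hq hyo) hyM
    obtain ⟨n, hn, hnM⟩ := trans_gen hG hM hx hy hyo hN hg
    have : n ∈ sigmaCore N ⊓ M := mem_inf.2 ⟨(mem_inf.1 hn).1, hxM (mem_inf.1 hn).2⟩
    rw [hN.inf, mem_bot] at this
    rw [← hnM, this, cj_one]

theorem nd_unique {M N N' : Subgroup G} {x y : G} (hN : ND M N x) (hN' : ND M N' y) (hle : centralizer ({x} : Set G) ≤ centralizer ({y} : Set G)) :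
    N' = N := hN.um.2 N' hN'.co (hle.trans hN'.um.1)

/-- Theorem 14.4(a) -/
theorem nd_trans (hG : IsMinSimpleOddOrder G) (hC : Con13 G) {M : Subgroup G} (hM : IsCoatom M) {x : G} (hx : x ∈ sigmaCore M)
    (hx1 : x ≠ 1) (hxM : ¬ centralizer ({x} : Set G) ≤ M) {N : Subgroup G} (hN : ND M N x) {g : G} (hg : x ∈ cj g M) :
    ∃ n ∈ sigmaCore N ⊓ centralizer ({x} : Set G), cj n M = cj g M := by
  obtain ⟨q, hq, hqd, y, hy, hyo⟩ := exists_prime_pow hx1
  haveI := Fact.mk hq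
  have hyM : ¬ centralizer ({y} : Set G) ≤ M := fun h => hxM ((cent_zp_le hy).trans h)
  obtain ⟨N', hN'⟩ := exists_ND hG hC hM (x := y) ((zpowers_le.2 hx) hy) (orderOf_ne hq hyo) hyM
  have := nd_unique hN hN' (cent_zp_le hy)
  subst this
  exact trans_gen hG hM hx hy hyo hN' hg

end Cfsg.Agent.H2.BG14
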