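import Mathlib
import Cfsg.Agent.H2_BG14d

/-! BG §14: `supportR`, Lemma 14.5, counting -/

set_option autoImplicit false
set_option linter.unusedSectionVars false

open Pointwise
open scoped commutatorElement

namespace Cfsg.Agent.H2.BG14

open Cfsg Subgroup H13.Syl H12.Loc H12.BG7 H12.BG10 H12.BG11 H12.BG12 H2.Con13

universe u

variable {G : Type u} [Group G] [Finite G]

theorem fittingHallOf_le_sigmaCore (hG : IsMinSimpleOddOrder G) {M : Subgroup G} (hM : IsCoatom M) : fittingHallOf M ≤ sigmaCore M := by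
  refine H12.Core.le_piCoreOf (H12.Core.fittingHallOf_le M) (H12.Core.le_normalizer_fittingHallOf M) ?_
  intro p hp hd
  haveI := Fact.mk hp
  obtain ⟨P, hP⟩ := exists_isSylIn (p := p) (fittingHallOf M)
  have hPb : P ≠ ⊥ := by
    rintro rfl
    apply hP.not_dvd
    rwa [relIndex_bot_left]
  have hn := normal_of_nilpotent_sylow (H12.Core.fittingHallOf_le M) (H12.Core.le_normalizer_fittingHallOf M)
    (H12.Core.fittingHallOf_isNilpotent M) hP
  have hPM : IsSylIn p P M := by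
    refine ⟨hP.le.trans (H12.Core.fittingHallOf_le M), hP.isPGroup, ?_⟩
    rw [← relIndex_mul_relIndex _ _ _ hP.le (H12.Core.fittingHallOf_le M)]
    intro h
    rcases hp.dvd_mul.1 h with h | h
    · exact hP.not_dvd h
    · exact (Nat.Prime.coprime_iff_not_dvd hp).1 (Nat.Coprime.coprime_dvd_left hd (H12.Core.fittingHallOf_coprime M)) h
  exact sigma_of_normalizer hp (hd.trans (card_dvd_of_le (H12.Core.fittingHallOf_le M))) hPM
    (normalizer_eq_of_isCoatom hG hM hPb hn hPM.le).le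

theorem sigmaCore_eq_fittingHallOf (hG : IsMinSimpleOddOrder G) {M : Subgroup G} (hM : IsCoatom M) (h : Group.IsNilpotent (sigmaCore M)) :
    sigmaCore M = fittingHallOf M := by
  refine le_antisymm ?_ (fittingHallOf_le_sigmaCore hG hM)
  exact H12.Core.le_fittingHallOf (sigmaCore_le M) (le_normalizer_sigmaCore M) h (H12.Hall.coprime (sigmaCore_hallOf hG hM))

theorem supportR_of_le {M : Subgroup G} {x : G} (h : centralizer ({x} : Set G) ≤ M) : supportR M x = ⊥ := by
  unfold supportR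
  rw [dif_neg]
  rintro ⟨h1, -⟩
  exact h1 h

theorem supportR_of_ND (hG : IsMinSimpleOddOrder G) {M N : Subgroup G} {x : G} (hN : ND M N x) (hx : ¬ centralizer ({x} : Set G) ≤ M) :
    supportR M x = sigmaCore N ⊓ centralizer ({x} : Set G) := by
  have hu : ∃! L : Subgroup G, IsCoatom L ∧ centralizer ({x} : Set G) ≤ L :=
    ⟨N, ⟨hN.co, hN.um.1⟩, fun L hL => hN.um.2 L hL.1 hL.2⟩
  have hc : ¬ centralizer ({x} : Set G) ≤ M ∧ ∃! L : Subgroup G, IsCoatom L ∧ centralizer ({x} : Set G) ≤ L := ⟨hx, hu⟩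
  unfold supportR
  rw [dif_pos hc]
  have h1 : Classical.choose hc.2.exists = N := by
    have := Classical.choose_spec hc.2.exists
    exact hN.um.2 _ this.1 this.2
  rw [h1, sigmaCore_eq_fittingHallOf hG hN.co hN.nil]

theorem supportR_cases (hG : IsMinSimpleOddOrder G) (hC : Con13 G) {M : Subgroup G} (hM : IsCoatom M) {x : G} (hx : x ∈ sigmaCore M)
    (hx1 : x ≠ 1) : (centralizer ({x} : Set G) ≤ M ∧ supportR M x = ⊥) ∨
      ∃ N : Subgroup G, ND M N x ∧ (¬ centralizer ({x} : Set G) ≤ M) ∧ supportR M x = sigmaCore N ⊓ centralizer ({x} : Set G) := by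
  by_cases h : centralizer ({x} : Set G) ≤ M
  · exact Or.inl ⟨h, supportR_of_le h⟩
  · obtain ⟨N, hN⟩ := exists_ND hG hC hM hx hx1 h
    exact Or.inr ⟨N, hN, h, supportR_of_ND hG hN h⟩

theorem parts_unique {a b a' b' : G} (hab : Commute a b) (hab' : Commute a' b') (h : a * b = a' * b')
    (hcop : (orderOf a * orderOf a').Coprime (orderOf b * orderOf b')) : a = a' := by
  obtain ⟨k, hk1, hk2⟩ := Nat.chineseRemainder hcop 1 0
  have e1 : ∀ c d : G, Commute c d → orderOf c ∣ orderOf a * orderOf a' → orderOf d ∣ orderOf b * orderOf b' → (c * d) ^ k = c := by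
    intro c d hcd h1 h2
    rw [hcd.mul_pow]
    have h3 : c ^ k = c := by
      have : k ≡ 1 [MOD orderOf c] := hk1.of_dvd h1
      have h4 := pow_eq_pow_iff_modEq.2 this
      rwa [pow_one] at h4
    have h5 : d ^ k = 1 := by
      have : k ≡ 0 [MOD orderOf d] := hk2.of_dvd h2
      have h6 := pow_eq_pow_iff_modEq.2 this
      rwa [pow_zero] at h6
    rw [h3, h5, mul_one]
  have h1 := e1 a b hab (dvd_mul_right _ _) (dvd_mul_right _ _)
  have h2 := e1 a' b' hab' (dvd_mul_left _ _) (dvd_mul_left _ _)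
  rw [← h1, h, h2]

/-- coprimality of orders from disjoint sets of primes -/
theorem coprime_of_pi {π : Set ℕ} {a b c d : G} (ha : ∀ p : ℕ, p.Prime → p ∣ orderOf a → p ∈ π) (hb : ∀ p : ℕ, p.Prime → p ∣ orderOf b → p ∈ π)
    (hc : ∀ p : ℕ, p.Prime → p ∣ orderOf c → p ∉ π) (hd : ∀ p : ℕ, p.Prime → p ∣ orderOf d → p ∉ π) :
    (orderOf a * orderOf b).Coprime (orderOf c * orderOf d) := by
  apply card_dvd_prime
  intro p hp h1 h2
  have h3 : p ∈ π := by
    rcases hp.dvd_mul.1 h1 with h | h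
    · exact ha p hp h
    · exact hb p hp h
  rcases hp.dvd_mul.1 h2 with h | h
  · exact hc p hp h h3
  · exact hd p hp h h3

theorem one_pi {π : Set ℕ} : ∀ p : ℕ, p.Prime → p ∣ orderOf (1 : G) → p ∉ π := by
  intro p hp h
  rw [orderOf_one] at h
  exact absurd (Nat.dvd_one.1 h) hp.one_lt.ne'

theorem sigma_disj (hC : Con13 G) {M H : Subgroup G} (hM : IsCoatom M) (hH : IsCoatom H) {p : ℕ} (h1 : p ∈ sigma M) (h2 : p ∈ sigma H) :
    ∃ g : G, H = cj g M := by
  by_contra hcon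
  push Not at hcon
  exact hC.h139 M H hM hH hcon p h1 h2

/-- **Lemma 14.5** -/
theorem thm145 (hG : IsMinSimpleOddOrder G) (hC : Con13 G) {M M₂ : Subgroup G} (hM : IsCoatom M) (hM₂ : IsCoatom M₂) {x y : G}
    (hx : x ∈ sigmaCore M) (hy : y ∈ sigmaCore M₂) (hx1 : x ≠ 1) (hy1 : y ≠ 1) {r s : G} (hr : r ∈ supportR M x) (hs : s ∈ supportR M₂ y)
    (heq : x * r = y * s) : x = y := by
  -- r is a sigma(M)'-element commuting with x
  have key : ∀ {M : Subgroup G} {x r : G}, IsCoatom M → x ∈ sigmaCore M → x ≠ 1 → r ∈ supportR M x → Commute x r ∧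
      (∀ p : ℕ, p.Prime → p ∣ orderOf r → p ∉ sigma M) ∧ (r = 1 ∨ ∃ N : Subgroup G, ND M N x ∧ r ∈ sigmaCore N ∧ ¬ centralizer ({x} : Set G) ≤ M) := by
    intro M x r hM hx hx1 hr
    rcases supportR_cases hG hC hM hx hx1 with ⟨-, h⟩ | ⟨N, hN, hnc, h⟩
    · rw [h, mem_bot] at hr
      subst hr
      exact ⟨Commute.one_right x, one_pi, Or.inl rfl⟩
    · rw [h] at hr
      obtain ⟨hr1, hr2⟩ := mem_inf.1 hr
      refine ⟨(mem_centralizer_singleton_iff.1 hr2).symm, ?_, Or.inr ⟨N, hN, hr1, hnc⟩⟩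
      intro p hp hd h2
      exact hC.h139 M N hM hN.co hN.nc p h2 (order_sigma hr1 hp hd)
  obtain ⟨cx, rσ, hr'⟩ := key hM hx hx1 hr
  obtain ⟨cy, sσ, hs'⟩ := key hM₂ hy hy1 hs
  have xσ : ∀ p : ℕ, p.Prime → p ∣ orderOf x → p ∈ sigma M := fun p hp hd => order_sigma hx hp hd
  have yσ : ∀ p : ℕ, p.Prime → p ∣ orderOf y → p ∈ sigma M₂ := fun p hp hd => order_sigma hy hp hd
  by_cases hconj : ∃ g : G, M₂ = cj g M
  · obtain ⟨g, rfl⟩ := hconj
    simp only [sigma_cj] at sσ yσ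
    exact parts_unique cx cy heq (coprime_of_pi xσ yσ rσ sσ)
  · push Not at hconj
    exfalso
    have hdis := hC.h139 M M₂ hM hM₂ hconj
    -- y = r
    have yne : ¬ (∀ p : ℕ, p.Prime → p ∣ orderOf y → p ∉ sigma M₂) := by
      intro h
      obtain ⟨p, hp, hd, -⟩ := exists_prime_pow hy1
      exact h p hp hd (yσ p hp hd)
    have xne : ¬ (∀ p : ℕ, p.Prime → p ∣ orderOf x → p ∉ sigma M) := by
      intro h
      obtain ⟨p, hp, hd, -⟩ := exists_prime_pow hx1
      exact h p hp hd (xσ p hp hd)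
    have xσ₂ : ∀ p : ℕ, p.Prime → p ∣ orderOf x → p ∉ sigma M₂ := fun p hp hd => hdis p (xσ p hp hd)
    have yσ₁ : ∀ p : ℕ, p.Prime → p ∣ orderOf y → p ∉ sigma M := fun p hp hd h => hdis p h (yσ p hp hd)
    have step : ∀ {M M₂ : Subgroup G} {x y r s : G}, IsCoatom M₂ → Commute x r → Commute y s → x * r = y * s →
        (∀ p : ℕ, p.Prime → p ∣ orderOf x → p ∉ sigma M₂) → (∀ p : ℕ, p.Prime → p ∣ orderOf y → p ∈ sigma M₂) → y ≠ 1 →
        (∀ p : ℕ, p.Prime → p ∣ orderOf s → p ∉ sigma M₂) → (r = 1 ∨ ∃ N : Subgroup G, ND M N x ∧ r ∈ sigmaCore N ∧ ¬ centralizer ({x} : Set G) ≤ M) →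
        y = r ∧ x = s ∧ ∃ N : Subgroup G, ND M N x ∧ r ∈ sigmaCore N ∧ (¬ centralizer ({x} : Set G) ≤ M) := by
      intro M M₂ x y r s hM₂ cx cy heq xσ₂ yσ hy1 sσ hr'
      have hy_absurd : y = 1 → False := hy1
      rcases hr' with rfl | ⟨N, hN, hrN, hnc⟩
      · exfalso
        apply hy1
        refine (parts_unique (a := 1) (b := x) (a' := y) (b' := s) (Commute.one_left x) cy (by rw [one_mul, ← heq, mul_one])
          (coprime_of_pi (π := sigma M₂) ?_ yσ xσ₂ sσ)).symm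
        intro p hp h
        rw [orderOf_one] at h
        exact absurd (Nat.dvd_one.1 h) hp.one_lt.ne'
      · have hrσ : ∀ p : ℕ, p.Prime → p ∣ orderOf r → p ∈ sigma N := fun p hp hd => order_sigma hrN hp hd
        have hconjN : ∃ g : G, M₂ = cj g N := by
          by_contra hcon
          push Not at hcon
          have hd2 := hC.h139 N M₂ hN.co hM₂ hcon
          apply hy1
          have hxr : ∀ p : ℕ, p.Prime → p ∣ orderOf (x * r) → p ∉ sigma M₂ := by
            intro p hp hd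
            have h1 : orderOf (x * r) ∣ orderOf x * orderOf r := cx.orderOf_mul_dvd_mul_orderOf
            rcases hp.dvd_mul.1 (hd.trans h1) with h | h
            · exact xσ₂ p hp h
            · exact hd2 p (hrσ p hp h)
          refine (parts_unique (a := 1) (b := x * r) (a' := y) (b' := s) (Commute.one_left _) cy (by rw [one_mul, ← heq])
            (coprime_of_pi (π := sigma M₂) ?_ yσ hxr sσ)).symm
          intro p hp h
          rw [orderOf_one] at h
          exact absurd (Nat.dvd_one.1 h) hp.one_lt.ne'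
        obtain ⟨g, rfl⟩ := hconjN
        simp only [sigma_cj] at yσ sσ xσ₂
        have h1 : r = y := parts_unique (a := r) (b := x) (a' := y) (b' := s) cx.symm cy (by rw [← heq, cx.eq])
          (coprime_of_pi hrσ yσ xσ₂ sσ)
        subst h1
        refine ⟨rfl, ?_, N, hN, hrN, hnc⟩
        have h2 : x * r = s * r := by rw [heq, cy.eq]
        exact mul_right_cancel h2
    obtain ⟨e1, e2, N, hN, hrN, hnc⟩ := step hM₂ cx cy heq xσ₂ yσ hy1 sσ hr'
    obtain ⟨-, -, N₂, hN₂, hsN₂, hnc₂⟩ := step hM cy cx heq.symm yσ₁ xσ hx1 rσ hs'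
    subst e1
    subst e2
    -- x ∈ sigmaCore N₂, y ∈ sigmaCore N
    have hxN₂ : ¬ centralizer ({x} : Set G) ≤ N₂ := by
      intro hle
      have h1 : N₂ = N := hN.um.2 N₂ hN₂.co hle
      rw [h1] at hsN₂
      obtain ⟨p, hp, hd, -⟩ := exists_prime_pow hx1
      exact (hN.tau p hp hd).2.1 (order_sigma hsN₂ hp hd)
    obtain ⟨N', hN'⟩ := exists_ND hG hC hN₂.co hsN₂ hx1 hxN₂
    have h2 : N' = N := hN.um.2 N' hN'.co hN'.um.1
    subst h2
    have h3 : y ∈ sigmaCore N' ⊓ N₂ := mem_inf.2 ⟨hrN, hN₂.um.1 (mem_centralizer_singleton_iff.2 rfl)⟩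
    rw [hN'.inf, mem_bot] at h3
    exact hy1 h3

end Cfsg.Agent.H2.BG14
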