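import Mathlib
import Cfsg.Agent.H2_BG14e

/-! BG §14: counting for `tildeOf` -/

set_option autoImplicit false
set_option linter.unusedSectionVars false

open Pointwise
open scoped commutatorElement

namespace Cfsg.Agent.H2.BG14

open Cfsg Subgroup H13.Syl H12.Loc H12.BG7 H12.BG10 H12.BG11 H12.BG12 H2.Con13

universe u

variable {G : Type u} [Group G] [Finite G]

theorem sc_cj (M : Subgroup G) (g : G) : cj g (sigmaCore M) = sigmaCore (cj g M) := sigmaCore_cj M g

theorem mem_sigmaCore_of_mem (hG : IsMinSimpleOddOrder G) {M : Subgroup G} (hM : IsCoatom M) {x : G} (hx : x ∈ M)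
    (h : ∀ p : ℕ, p.Prime → p ∣ orderOf x → p ∈ sigma M) : x ∈ sigmaCore M := by
  refine le_sigmaCore_of_group hG hM (Y := zpowers x) (zpowers_le.2 hx) ?_ (mem_zpowers x)
  intro p hp hd
  rw [Nat.card_zpowers] at hd
  exact h p hp hd

theorem mem_cj_sigmaCore (hG : IsMinSimpleOddOrder G) {M : Subgroup G} (hM : IsCoatom M) {x : G} (hx : x ∈ sigmaCore M) {g : G}
    (hg : x ∈ cj g M) : x ∈ sigmaCore (cj g M) := by
  refine mem_sigmaCore_of_mem hG (isCoatom_of_cj hM g) hg ?_
  intro p hp hd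
  rw [sigma_cj]
  exact order_sigma hx hp hd

theorem supportR_indep (hG : IsMinSimpleOddOrder G) (hC : Con13 G) {M : Subgroup G} (hM : IsCoatom M) {x : G} (hx : x ∈ sigmaCore M)
    (hx1 : x ≠ 1) {g : G} (hg : x ∈ cj g M) : supportR (cj g M) x = supportR M x := by
  have hxg := mem_cj_sigmaCore hG hM hx hg
  rcases supportR_cases hG hC hM hx hx1 with ⟨h, -⟩ | ⟨N, hN, hnc, h⟩
  · rw [cj_eq_of_cent_le hG hC hM hx hx1 h hg]
  · have hnc' : ¬ centralizer ({x} : Set G) ≤ cj g M := by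
      intro hle
      have h1 : x ∈ cj g⁻¹ (cj g M) := by rw [cj_inv_cj]; exact sigmaCore_le M hx
      have h2 := cj_eq_of_cent_le hG hC (isCoatom_of_cj hM g) hxg hx1 hle h1
      rw [cj_inv_cj] at h2
      rw [← h2] at hle
      exact hnc hle
    obtain ⟨N', hN'⟩ := exists_ND hG hC (isCoatom_of_cj hM g) hxg hx1 hnc'
    have h1 : N' = N := hN.um.2 N' hN'.co hN'.um.1
    subst h1
    rw [supportR_of_ND hG hN' hnc', h]

theorem cent_cj_le {M : Subgroup G} {x g : G} (h : centralizer ({x} : Set G) ≤ M) : centralizer ({g * x * g⁻¹} : Set G) ≤ cj g M := by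
  rw [← cj_centralizer_singleton]
  exact cj_mono h

theorem supportR_equiv (hG : IsMinSimpleOddOrder G) (hC : Con13 G) {M : Subgroup G} (hM : IsCoatom M) {x : G} (hx : x ∈ sigmaCore M)
    (hx1 : x ≠ 1) (g : G) : supportR (cj g M) (g * x * g⁻¹) = cj g (supportR M x) := by
  have hxg : g * x * g⁻¹ ∈ sigmaCore (cj g M) := by rw [← sc_cj]; exact conj_mem_cj hx
  rcases supportR_cases hG hC hM hx hx1 with ⟨h, h'⟩ | ⟨N, hN, hnc, h⟩
  · rw [h', cj_bot]
    exact supportR_of_le (cent_cj_le h)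
  · have hnc' : ¬ centralizer ({g * x * g⁻¹} : Set G) ≤ cj g M := by
      rw [← cj_centralizer_singleton, cj_le_cj_iff]
      exact hnc
    obtain ⟨N', hN'⟩ := exists_ND hG hC (isCoatom_of_cj hM g) hxg (by rwa [Ne, conj_eq_one_iff]) hnc'
    have h1 : cj g N = N' := hN'.um.2 _ (isCoatom_of_cj hN.co g) (cent_cj_le hN.um.1)
    rw [supportR_of_ND hG hN' hnc', h, cj_inf, sc_cj, cj_centralizer_singleton, h1]

theorem cj_eq_self_iff (hG : IsMinSimpleOddOrder G) {M : Subgroup G} (hM : IsCoatom M) {g : G} : cj g M = M ↔ g ∈ M := by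
  rw [← mem_normalizer_iff_cj, normalizer_eq_self_of_isCoatom hG hM (ne_bot_of_isCoatom hG hM)]

theorem cj_eq_cj_iff (hG : IsMinSimpleOddOrder G) {M : Subgroup G} (hM : IsCoatom M) {g h : G} : cj g M = cj h M ↔ h⁻¹ * g ∈ M := by
  rw [← cj_eq_self_iff hG hM, cj_mul]
  constructor
  · intro e; rw [e, cj_inv_cj]
  · intro e
    have := congrArg (cj h) e
    rwa [cj_cj_inv] at this

theorem smul_mk_eq_iff {M : Subgroup G} {x g : G} : x • (g : G ⧸ M) = (g : G ⧸ M) ↔ x ∈ cj g M := by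
  rw [mem_cj]
  change ((x * g : G) : G ⧸ M) = (g : G ⧸ M) ↔ _
  rw [QuotientGroup.eq]
  constructor
  · intro h
    have := inv_mem h
    convert this using 1
    group
  · intro h
    have := inv_mem h
    convert this using 1
    group

theorem smul_eq_iff {M : Subgroup G} {x : G} {q : G ⧸ M} : x • q = q ↔ x ∈ cj q.out M := by
  rw [← smul_mk_eq_iff, QuotientGroup.out_eq']

theorem mk_eq_of_cj (hG : IsMinSimpleOddOrder G) {M : Subgroup G} (hM : IsCoatom M) {g h : G} (e : cj g M = cj h M) :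
    (g : G ⧸ M) = (h : G ⧸ M) := by
  have e1 := (cj_eq_cj_iff hG hM).1 e
  exact (QuotientGroup.eq.2 e1).symm

/-- the number of conjugates of `M` containing `x` is `|R(x)|` -/
theorem card_supportR (hG : IsMinSimpleOddOrder G) (hC : Con13 G) {M : Subgroup G} (hM : IsCoatom M) {x : G} (hx : x ∈ sigmaCore M)
    (hx1 : x ≠ 1) : Nat.card {q : G ⧸ M // x • q = q} = Nat.card (supportR M x) := by
  rcases supportR_cases hG hC hM hx hx1 with ⟨h, h'⟩ | ⟨N, hN, hnc, h⟩
  · rw [h', card_bot, Nat.card_eq_one_iff_unique]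
    refine ⟨⟨fun a b => ?_⟩, ⟨⟨((1 : G) : G ⧸ M), by rw [smul_mk_eq_iff, cj_one]; exact sigmaCore_le M hx⟩⟩⟩
    apply Subtype.ext
    have ha := cj_eq_of_cent_le hG hC hM hx hx1 h (smul_eq_iff.1 a.2)
    have hb := cj_eq_of_cent_le hG hC hM hx hx1 h (smul_eq_iff.1 b.2)
    have e2 := mk_eq_of_cj hG hM (ha.trans hb.symm)
    rw [QuotientGroup.out_eq', QuotientGroup.out_eq'] at e2
    exact e2
  · have key : ∀ n ∈ sigmaCore N ⊓ centralizer ({x} : Set G), x • (n : G ⧸ M) = (n : G ⧸ M) := by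
      intro n hn
      rw [smul_mk_eq_iff, mem_cj]
      have h1 := mem_centralizer_singleton_iff.1 (mem_inf.1 hn).2
      have : n⁻¹ * x * n = x := by
        rw [mul_assoc, ← h1]; group
      rw [this]
      exact sigmaCore_le M hx
    rw [h]
    symm
    refine Nat.card_congr (Equiv.ofBijective (fun n : ↥(sigmaCore N ⊓ centralizer ({x} : Set G)) => (⟨((n : G) : G ⧸ M), key n n.2⟩ : {q : G ⧸ M // x • q = q})) ⟨?_, ?_⟩)
    · intro a b hab
      have h1 : ((a : G) : G ⧸ M) = ((b : G) : G ⧸ M) := congrArg Subtype.val hab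
      have h2 := QuotientGroup.eq.1 h1
      have h3 : (a : G)⁻¹ * b ∈ sigmaCore N ⊓ M := mem_inf.2 ⟨mul_mem (inv_mem (mem_inf.1 a.2).1) (mem_inf.1 b.2).1, h2⟩
      rw [hN.inf, mem_bot] at h3
      exact Subtype.ext (by rw [inv_mul_eq_one] at h3; exact h3)
    · rintro ⟨q, hq⟩
      obtain ⟨n, hn, hne⟩ := nd_trans hG hC hM hx hx1 hnc hN (smul_eq_iff.1 hq)
      refine ⟨⟨n, hn⟩, Subtype.ext ?_⟩
      have e2 := mk_eq_of_cj hG hM hne
      rw [QuotientGroup.out_eq'] at e2
      exact e2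

theorem card_supportR' (hG : IsMinSimpleOddOrder G) (hC : Con13 G) {M : Subgroup G} (hM : IsCoatom M) {x g : G} (hx : x ∈ sigmaCore (cj g M))
    (hx1 : x ≠ 1) : Nat.card {q : G ⧸ M // x • q = q} = Nat.card (supportR (cj g M) x) := by
  obtain ⟨y, hy, hyx⟩ : ∃ y ∈ sigmaCore M, x = g * y * g⁻¹ := by
    rw [← sc_cj, mem_cj] at hx
    exact ⟨_, hx, by group⟩
  subst hyx
  have hy1 : y ≠ 1 := by
    rintro rfl
    apply hx1; group
  rw [supportR_equiv hG hC hM hy hy1, card_cj, ← card_supportR hG hC hM hy hy1]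
  refine (Nat.card_congr (Equiv.subtypeEquiv (MulAction.toPerm g) ?_)).symm
  intro q
  rw [MulAction.toPerm_apply, smul_smul]
  have : g * y * g⁻¹ * g = g * y := by group
  rw [this, mul_smul]
  exact (smul_left_cancel_iff g).symm

theorem supportR_comm (hG : IsMinSimpleOddOrder G) (hC : Con13 G) {M : Subgroup G} (hM : IsCoatom M) {x r : G} (hx : x ∈ sigmaCore M)
    (hx1 : x ≠ 1) (hr : r ∈ supportR M x) : Commute x r := by
  rcases supportR_cases hG hC hM hx hx1 with ⟨-, h⟩ | ⟨N, hN, hnc, h⟩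
  · rw [h, mem_bot] at hr
    rw [hr]; exact Commute.one_right x
  · rw [h] at hr
    exact (mem_centralizer_singleton_iff.1 (mem_inf.1 hr).2).symm

/-- the count of 14.5 -/
theorem card_tilde (hG : IsMinSimpleOddOrder G) (hC : Con13 G) {M : Subgroup G} (hM : IsCoatom M) :
    Set.ncard (tildeOf M ((sigmaCore M : Set G) \ {1})) = (Nat.card (sigmaCore M) - 1) * M.index := by
  classical
  haveI := Fintype.ofFinite G
  haveI := Fintype.ofFinite (G ⧸ M)
  let P : Finset G := Finset.univ.filter fun x => x ≠ 1 ∧ ∃ g : G, x ∈ sigmaCore (cj g M)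
  have hP : ∀ x, x ∈ P ↔ x ≠ 1 ∧ ∃ g : G, x ∈ sigmaCore (cj g M) := fun x => by simp [P]
  let c : G → G := fun x => if h : ∃ g : G, x ∈ sigmaCore (cj g M) then h.choose else 1
  have hc : ∀ x ∈ P, x ∈ sigmaCore (cj (c x) M) := by
    intro x hx
    have h := ((hP x).1 hx).2
    have : c x = h.choose := dif_pos h
    rw [this]
    exact h.choose_spec
  let R : G → Finset G := fun x => Finset.univ.filter fun t => x⁻¹ * t ∈ supportR (cj (c x) M) x
  have hR : ∀ x t, t ∈ R x ↔ x⁻¹ * t ∈ supportR (cj (c x) M) x := fun x t => by simp [R]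
  have hRcard : ∀ x ∈ P, (R x).card = (Finset.univ.filter fun q : G ⧸ M => x • q = q).card := by
    intro x hx
    have hx1 := ((hP x).1 hx).1
    have h1 : Nat.card {t : G // t ∈ R x} = Nat.card (supportR (cj (c x) M) x) := by
      refine Nat.card_congr (Equiv.subtypeEquiv (Equiv.mulLeft x⁻¹) ?_)
      intro t
      exact hR x t
    rw [Nat.card_eq_fintype_card, Fintype.card_coe] at h1
    rw [h1, ← card_supportR' hG hC hM (hc x hx) hx1, ← Fintype.card_subtype, ← Nat.card_eq_fintype_card]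
  have hT : (tildeOf M ((sigmaCore M : Set G) \ {1})) = (P.biUnion R : Set G) := by
    ext t
    simp only [Finset.coe_biUnion, Set.mem_iUnion, Finset.mem_coe]
    constructor
    · rintro ⟨a, ⟨ha, ha1⟩, r, hr, y, rfl⟩
      have ha1' : a ≠ 1 := ha1
      have hya : y * a * y⁻¹ ∈ sigmaCore (cj y M) := by rw [← sc_cj]; exact conj_mem_cj ha
      have hyaP : y * a * y⁻¹ ∈ P := (hP _).2 ⟨by rwa [Ne, conj_eq_one_iff], y, hya⟩
      refine ⟨y * a * y⁻¹, hyaP, ?_⟩
      rw [hR]
      have hcP := hc _ hyaP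
      have e1 : cj (c (y * a * y⁻¹)) M = cj (c (y * a * y⁻¹) * y⁻¹) (cj y M) := by
        rw [← cj_mul]; congr 1; group
      rw [e1, supportR_indep hG hC (isCoatom_of_cj hM y) hya (by rwa [Ne, conj_eq_one_iff]) (by
        rw [← e1]; exact sigmaCore_le _ hcP), supportR_equiv hG hC hM ha ha1']
      have : (y * a * y⁻¹)⁻¹ * (y * (a * r) * y⁻¹) = y * r * y⁻¹ := by group
      rw [this]
      exact conj_mem_cj hr
    · rintro ⟨x, hx, ht⟩
      rw [hR] at ht
      have hx1 := ((hP x).1 hx).1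
      have hcx := hc x hx
      obtain ⟨a, ha, hax⟩ : ∃ a ∈ sigmaCore M, x = c x * a * (c x)⁻¹ := by
        have h1 := hcx
        rw [← sc_cj, mem_cj] at h1
        exact ⟨_, h1, by group⟩
      have ha1 : a ≠ 1 := by
        rintro rfl
        apply hx1
        rw [hax]; group
      have h2 := ht
      rw [show supportR (cj (c x) M) x = supportR (cj (c x) M) (c x * a * (c x)⁻¹) by rw [← hax], supportR_equiv hG hC hM ha ha1, mem_cj] at h2
      refine ⟨a, ⟨ha, ha1⟩, _, h2, c x, ?_⟩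
      have e2 : (x⁻¹ : G) = c x * a⁻¹ * (c x)⁻¹ := by
        conv_lhs => rw [hax]
        group
      rw [e2]; group
  have hdisj : ∀ x ∈ P, ∀ y ∈ P, x ≠ y → Disjoint (R x) (R y) := by
    intro x hx y hy hxy
    rw [Finset.disjoint_left]
    intro t htx hty
    rw [hR] at htx hty
    apply hxy
    exact thm145 hG hC (isCoatom_of_cj hM _) (isCoatom_of_cj hM _) (hc x hx) (hc y hy) ((hP x).1 hx).1 ((hP y).1 hy).1 htx hty (by group)
  rw [hT, Set.ncard_coe_finset, Finset.card_biUnion hdisj, Finset.sum_congr rfl hRcard]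
  have h1 : ∑ x ∈ P, (Finset.univ.filter fun q : G ⧸ M => x • q = q).card = ∑ q : G ⧸ M, (P.filter fun x => x • q = q).card := by
    simp only [Finset.card_filter]
    rw [Finset.sum_comm]
  rw [h1]
  have h2 : ∀ q : G ⧸ M, (P.filter fun x => x • q = q).card = Nat.card (sigmaCore M) - 1 := by
    intro q
    have h3 : (P.filter fun x => x • q = q) = ((sigmaCore (cj q.out M) : Set G).toFinset.erase 1) := by
      ext x
      rw [Finset.mem_filter, hP, Finset.mem_erase, Set.mem_toFinset, SetLike.mem_coe, smul_eq_iff]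
      constructor
      · rintro ⟨⟨hx1, g, hg⟩, hxq⟩
        refine ⟨hx1, ?_⟩
        have e1 : cj q.out M = cj (q.out * g⁻¹) (cj g M) := by
          rw [← cj_mul]; congr 1; group
        rw [e1] at hxq ⊢
        exact mem_cj_sigmaCore hG (isCoatom_of_cj hM g) hg hxq
      · rintro ⟨hx1, hx⟩
        exact ⟨⟨hx1, _, hx⟩, sigmaCore_le _ hx⟩
    rw [h3, Finset.card_erase_of_mem (by rw [Set.mem_toFinset]; exact one_mem _), Set.toFinset_card, ← Nat.card_eq_fintype_card]
    have h4 : Nat.card ((sigmaCore (cj q.out M) : Subgroup G) : Set G) = Nat.card (sigmaCore M) := by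
      rw [← sc_cj]
      exact card_cj _ _
    rw [h4]
  rw [Finset.sum_congr rfl (fun q _ => h2 q), Finset.sum_const, Finset.card_univ, smul_eq_mul, mul_comm]
  congr 1
  rw [← Nat.card_eq_fintype_card]
  rfl

end Cfsg.Agent.H2.BG14
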