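import Mathlib
import Cfsg.Agent.H2_BG14f

/-! BG §14: towards Theorem 14.7 -/

set_option autoImplicit false
set_option linter.unusedSectionVars false

open Pointwise
open scoped commutatorElement

namespace Cfsg.Agent.H2.BG14

open Cfsg Subgroup H13.Syl H12.Loc H12.BG7 H12.BG10 H12.BG11 H12.BG12 H2.Con13

universe u

variable {G : Type u} [Group G] [Finite G]

theorem cj_st (M K : Subgroup G) (g : G) : cj g (st M K) = st (cj g M) (cj g K) := by
  show cj g (sigmaCore M ⊓ centralizer (K : Set G)) = sigmaCore (cj g M) ⊓ centralizer ((cj g K : Subgroup G) : Set G)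
  rw [cj_inf, sc_cj, cj_centralizer]

namespace KS

variable {M K E U : Subgroup G}

theorem nc_of_norm (hG : IsMinSimpleOddOrder G) (hC : Con13 G) (h : KS M K E U) {X : Subgroup G} (hX : X ≤ K) (hXp : (Nat.card X).Prime)
    {H : Subgroup G} (hH : IsCoatom H) (hN : normalizer (X : Set G) ≤ H) : ∀ g : G, H ≠ cj g M := by
  rintro g rfl
  have h1 := (h.b2 hG hC hX hXp hH hN).1
  rw [sigma_cj] at h1
  exact (kappa_spec hG (h.hall.2.1 _ hXp (card_dvd_of_le hX))).2.2.1 h1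

/-- the embedding lemma -/
theorem embed (hG : IsMinSimpleOddOrder G) (hC : Con13 G) (h : KS M K E U) {X : Subgroup G} (hX : X ≤ K) (hXp : (Nat.card X).Prime)
    {H : Subgroup G} (hH : IsCoatom H) (hN : normalizer (X : Set G) ≤ H) :
    ∃ L E' U' : Subgroup G, KS H L E' U' ∧ st M K ≤ L ∧ X ≤ st H L ∧ K ⊔ st M K ≤ L ⊔ st H L := by
  have hnc := h.nc_of_norm hG hC hX hXp hH hN
  obtain ⟨hσX, hXH⟩ := h.b2 hG hC hX hXp hH hN
  have hXb := ne_bot_of_prime hXp
  obtain ⟨x, hx, hx1⟩ := exists_ne_one hXb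
  have hxH : x ∈ sigmaCore H := hXH hx
  have hstX : st M K ≤ centralizer (X : Set G) := inf_le_right.trans (centralizer_le (SetLike.coe_subset_coe.2 hX))
  have hstH : st M K ≤ H := hstX.trans ((centralizer_le_normalizer _).trans hN)
  have hdis : ∀ p, p ∈ sigma M → p ∉ sigma H := hC.h139 M H h.co hH hnc
  have hMH : M ≠ H := by
    rintro rfl
    exact hnc 1 (cj_one _).symm
  have hκ : ∀ y ∈ st M K, y ≠ 1 → ∀ p : ℕ, p.Prime → p ∣ orderOf y → p ∈ kappa H := by
    intro y hy hy1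
    have hyM := (mem_inf.1 hy).1
    rcases thm143 hG hC hH hxH hx1 (hstH hy) (by
        rw [mem_centralizer_singleton_iff]
        exact (mem_centralizer_iff.1 (hstX hy) x hx).symm) hy1 (fun p hp hd => hdis p (order_sigma hyM hp hd)) with ⟨hk, -⟩ | ⟨-, -, hu⟩
    · exact hk
    · exact absurd (hu.2 M h.co (h.cent_le_M hC hy hy1)) hMH
  have hstκ : H12.Core.PiNum (kappa H) (Nat.card (st M K)) := by
    intro p hp hd
    haveI := Fact.mk hp
    obtain ⟨y, hy, hyo⟩ := exists_elt_of_dvd hd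
    exact hκ y hy (orderOf_ne hp hyo) p hp (by rw [hyo])
  have hstσ : SigmaC H (st M K) := fun p hp hd => (hstκ p hp hd).2.2.1
  obtain ⟨E', hstE, hE'⟩ := exists_E hG hH hstH hstσ
  obtain ⟨L, hstL, hL⟩ := H12.Hall.exists_hall_ge (solv_le hG hH hE'.1) hstκ hstE
  have hLH : IsPiHallOf (kappa H) L H := H12.Hall.trans (compl_hall hG hH hE') (fun r hr => hr.2.2.1) hL
  have hLb : L ≠ ⊥ := by
    rintro rfl
    exact h.neS (le_bot_iff.1 hstL)
  obtain ⟨U', h'⟩ := exists_KS hG hC hH hLH hLb hL.1 hE'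
  obtain ⟨y, hy, hy1⟩ := exists_ne_one h.neS
  have hyL : y ∈ L := hstL hy
  have hXst : X ≤ st H L := by
    show X ≤ sigmaCore H ⊓ centralizer (L : Set G)
    rw [← h'.prime y hyL hy1]
    refine le_inf hXH ?_
    intro z hz
    rw [mem_centralizer_singleton_iff]
    exact mem_centralizer_iff.1 (hstX hy) z hz
  refine ⟨L, E', U', h', hstL, hXst, sup_le ?_ (hstL.trans le_sup_left)⟩
  obtain ⟨q, hq, w, hw, hwo, -⟩ := exists_prime_elt h.neS
  have hwc : Nat.card (zpowers w) = q := by rw [Nat.card_zpowers, hwo]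
  rw [← h'.b1 (X := zpowers w) (zpowers_le.2 (hstL hw)) (by rw [hwc]; exact hq)]
  refine le_inf ((h.nX X hX hXp).trans hN) ?_
  refine le_trans ?_ (centralizer_le_normalizer _)
  rw [centralizer_zpowers]
  intro k hk
  rw [mem_centralizer_singleton_iff]
  exact mem_centralizer_iff.1 (mem_inf.1 hw).2 k hk

theorem sup_card_le (hG : IsMinSimpleOddOrder G) (h : KS M K E U) {K' E' U' : Subgroup G} (h' : KS M K' E' U') :
    Nat.card ↥(K' ⊔ st M K') = Nat.card ↥(K ⊔ st M K) := by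
  obtain ⟨m, hm, hmK⟩ := H12.Hall.hall_conj (solvable_of_ne_top hG h.co.1) h.hall h'.hall
  have h1 : K' ⊔ st M K' = cj m (K ⊔ st M K) := by
    rw [cj_sup, cj_st, hmK, cj_eq_of_mem hm]
  rw [h1, card_cj]

theorem embed_eq (hG : IsMinSimpleOddOrder G) (hC : Con13 G) (h : KS M K E U) {X : Subgroup G} (hX : X ≤ K) (hXp : (Nat.card X).Prime)
    {H : Subgroup G} (hH : IsCoatom H) (hN : normalizer (X : Set G) ≤ H) :
    ∃ L E' U' : Subgroup G, KS H L E' U' ∧ st M K ≤ L ∧ X ≤ st H L ∧ K ⊔ st M K = L ⊔ st H L := by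
  obtain ⟨L, E', U', h', hstL, hXst, hle⟩ := h.embed hG hC hX hXp hH hN
  refine ⟨L, E', U', h', hstL, hXst, ?_⟩
  obtain ⟨q, hq, w, hw, hwo, -⟩ := exists_prime_elt h.neS
  have hwc : Nat.card (zpowers w) = q := by rw [Nat.card_zpowers, hwo]
  have hz : zpowers w ≤ st M K := zpowers_le.2 hw
  obtain ⟨L₂, E₂, U₂, h₂, -, -, hle₂⟩ := h'.embed hG hC (X := zpowers w) (hz.trans hstL) (by rw [hwc]; exact hq) h.co
    (h.norm_le_M hG hC hz (ne_bot_of_prime (by rw [hwc]; exact hq)))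
  refine eq_of_le_of_card_ge hle ?_
  rw [← h.sup_card_le hG h₂]
  exact Nat.le_of_dvd Nat.card_pos (card_dvd_of_le hle₂)

end KS

/-- membership in the family attached to `Z` -/
def Mem (Z H : Subgroup G) : Prop := ∃ L E U : Subgroup G, KS H L E U ∧ L ⊔ st H L = Z

/-- data for a member -/
structure MD (Z H L : Subgroup G) : Prop where
  ks : ∃ E U : Subgroup G, KS H L E U
  eq : L ⊔ st H L = Z

namespace MD

variable {Z H L : Subgroup G}

theorem co (h : MD Z H L) : IsCoatom H := by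
  obtain ⟨E, U, h'⟩ := h.ks
  exact h'.co

theorem sigmaC (h : MD Z H L) : SigmaC H L := by
  obtain ⟨E, U, h'⟩ := h.ks
  exact kappa_sigmaC h'.hall

theorem decomp (h : MD Z H L) {z : G} (hz : z ∈ Z) : ∃ l ∈ L, ∃ s ∈ st H L, l * s = z ∧ Commute l s := by
  have hstn : L ≤ normalizer ((st H L : Subgroup G) : Set G) := by
    refine le_trans ?_ (centralizer_le_normalizer _)
    rw [le_centralizer_iff]
    exact inf_le_right
  rw [← h.eq, sup_comm] at hz
  obtain ⟨k, hk, s, hs, he⟩ := (H22.Basic.mem_sup_of_le_normalizer' (N := st H L) (K := L) hstn).1 hz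
  exact ⟨k, hk, s, hs, he, mem_centralizer_iff.1 (mem_inf.1 hs).2 k hk⟩

theorem st_le (h : MD Z H L) : st H L ≤ Z := by rw [← h.eq]; exact le_sup_right
theorem L_le (h : MD Z H L) : L ≤ Z := by rw [← h.eq]; exact le_sup_left

theorem order_L (h : MD Z H L) {l : G} (hl : l ∈ L) : ∀ p : ℕ, p.Prime → p ∣ orderOf l → p ∉ sigma H :=
  fun p hp hd => h.sigmaC p hp (hd.trans (by rw [← orderOf_mk l hl]; exact orderOf_dvd_natCard _))

theorem order_st {s : G} (hs : s ∈ st H L) : ∀ p : ℕ, p.Prime → p ∣ orderOf s → p ∈ sigma H :=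
  fun _ hp hd => order_sigma (mem_inf.1 hs).1 hp hd

theorem parts {l s l' s' : G} (h : MD Z H L) (hc : Commute l s) (hc' : Commute l' s') (he : l * s = l' * s')
    (h1 : ∀ p : ℕ, p.Prime → p ∣ orderOf l → p ∉ sigma H) (h2 : ∀ p : ℕ, p.Prime → p ∣ orderOf s → p ∈ sigma H)
    (h3 : ∀ p : ℕ, p.Prime → p ∣ orderOf l' → p ∉ sigma H) (h4 : ∀ p : ℕ, p.Prime → p ∣ orderOf s' → p ∈ sigma H) :
    l = l' ∧ s = s' := by
  have e1 : s = s' := parts_unique hc.symm hc'.symm (by rw [← hc.eq, he, hc'.eq]) (coprime_of_pi h2 h4 h1 h3)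
  subst e1
  exact ⟨mul_right_cancel he, rfl⟩

theorem inf_eq (h : MD Z H L) : Z ⊓ sigmaCore H = st H L := by
  apply le_antisymm
  · intro z hz
    obtain ⟨hz1, hz2⟩ := mem_inf.1 hz
    obtain ⟨l, hl, s, hs, he, hc⟩ := h.decomp hz1
    obtain ⟨e1, e2⟩ := h.parts hc (Commute.one_left z) (by rw [he, one_mul]) (h.order_L hl) (order_st hs) one_pi
      (fun p hp hd => order_sigma hz2 hp hd)
    rw [← e2]; exact hs
  · exact le_inf h.st_le inf_le_left

theorem mem_L (h : MD Z H L) {z : G} (hz : z ∈ Z) (ho : ∀ p : ℕ, p.Prime → p ∣ orderOf z → p ∉ sigma H) : z ∈ L := by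
  obtain ⟨l, hl, s, hs, he, hc⟩ := h.decomp hz
  obtain ⟨e1, e2⟩ := h.parts hc (Commute.one_right z) (by rw [he, mul_one]) (h.order_L hl) (order_st hs) ho
    (by
      intro p hp hd
      rw [orderOf_one] at hd
      exact absurd (Nat.dvd_one.1 hd) hp.one_lt.ne')
  rw [← e1]; exact hl

theorem mem_st (h : MD Z H L) {z : G} (hz : z ∈ Z) (ho : ∀ p : ℕ, p.Prime → p ∣ orderOf z → p ∈ sigma H) : z ∈ st H L := by
  obtain ⟨l, hl, s, hs, he, hc⟩ := h.decomp hz
  obtain ⟨e1, e2⟩ := h.parts hc (Commute.one_left z) (by rw [he, one_mul]) (h.order_L hl) (order_st hs) one_pi ho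
  rw [← e2]; exact hs

theorem inf_bot (h : MD Z H L) : L ⊓ st H L = ⊥ := by
  rw [eq_bot_iff]
  intro z hz
  have h1 := h.sigmaC.inf_eq_bot
  have : z ∈ sigmaCore H ⊓ L := mem_inf.2 ⟨(mem_inf.1 (mem_inf.1 hz).2).1, (mem_inf.1 hz).1⟩
  rw [h1] at this
  exact this

theorem card_eq (h : MD Z H L) : Nat.card L * Nat.card (st H L) = Nat.card Z := by
  have hcomp : IsComplIn L (st H L) Z := ⟨h.L_le, h.st_le, h.inf_bot, fun z hz => by
    obtain ⟨l, hl, s, hs, he, -⟩ := h.decomp hz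
    exact ⟨l, hl, s, hs, he.symm⟩⟩
  exact H12.Core.IsComplIn_card hcomp

theorem conj_mem (hG : IsMinSimpleOddOrder G) (hC : Con13 G) (h : MD Z H L) {z g : G} (hz : z ∈ Z) (hg : g * z * g⁻¹ ∈ Z) {l s : G}
    (hl : l ∈ L) (hs : s ∈ st H L) (he : l * s = z) (hl1 : l ≠ 1) (hs1 : s ≠ 1) : g ∈ Z := by
  obtain ⟨E, U, hk⟩ := h.ks
  obtain ⟨l', hl', s', hs', he', hc'⟩ := h.decomp hg
  have hc : Commute l s := mem_centralizer_iff.1 (mem_inf.1 hs).2 l hl
  have e0 : l' * s' = (g * l * g⁻¹) * (g * s * g⁻¹) := by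
    rw [he', ← he]; group
  have hc2 : Commute (g * l * g⁻¹) (g * s * g⁻¹) := by
    show (g * l * g⁻¹) * (g * s * g⁻¹) = (g * s * g⁻¹) * (g * l * g⁻¹)
    have := hc.eq
    calc (g * l * g⁻¹) * (g * s * g⁻¹) = g * (l * s) * g⁻¹ := by group
      _ = g * (s * l) * g⁻¹ := by rw [this]
      _ = _ := by group
  obtain ⟨e1, e2⟩ := h.parts hc' hc2 e0 (h.order_L hl') (order_st hs') (by
      intro p hp hd
      rw [show g * l * g⁻¹ = MulAut.conj g l from rfl, MulEquiv.orderOf_eq] at hd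
      exact h.order_L hl p hp hd) (by
      intro p hp hd
      rw [show g * s * g⁻¹ = MulAut.conj g s from rfl, MulEquiv.orderOf_eq] at hd
      exact order_st hs p hp hd)
  have hgH : g ∈ H := by
    by_contra hgH
    have h1 := hk.d1 hG hC hgH
    have h2 : g * s * g⁻¹ ∈ st H L ⊓ cj g H := mem_inf.2 ⟨e2 ▸ hs', conj_mem_cj (BG14.st_le H L hs)⟩
    rw [h1, mem_bot, conj_eq_one_iff] at h2
    exact hs1 h2
  by_contra hgZ
  rw [← h.eq] at hgZ
  have h1 := hk.d2 hG hgH hgZ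
  have h2 : g * l * g⁻¹ ∈ L ⊓ cj g L := mem_inf.2 ⟨e1 ▸ hl', conj_mem_cj hl⟩
  rw [h1, mem_bot, conj_eq_one_iff] at h2
  exact hl1 h2

end MD

theorem KS.md {M K E U : Subgroup G} (h : KS M K E U) : MD (K ⊔ st M K) M K := ⟨⟨E, U, h⟩, rfl⟩

theorem MD.nonconj (hG : IsMinSimpleOddOrder G) (hC : Con13 G) {Z H L H' L' : Subgroup G} (h : MD Z H L) (h' : MD Z H' L')
    (hne : H ≠ H') : ∀ g : G, H' ≠ cj g H := by
  rintro g rfl
  apply hne
  obtain ⟨E, U, hk⟩ := h.ks
  obtain ⟨E', U', hk'⟩ := h'.ks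
  obtain ⟨q, hq, w, hw, hwo, -⟩ := exists_prime_elt hk.neS
  have hwc : Nat.card (zpowers w) = q := by rw [Nat.card_zpowers, hwo]
  have hw' : w ∈ st (cj g H) L' := by
    apply h'.mem_st (h.st_le hw)
    intro p hp hd
    rw [sigma_cj]
    exact MD.order_st hw p hp hd
  have h1 := hk.c hC (X := zpowers w) (zpowers_le.2 hw) (by rw [hwc]; exact hq)
  have h2 := hk'.c hC (X := zpowers w) (zpowers_le.2 hw') (by rw [hwc]; exact hq)
  exact h2.2 H h.co h1.1

theorem MD.disj (hG : IsMinSimpleOddOrder G) (hC : Con13 G) {Z H L H' L' : Subgroup G} (h : MD Z H L) (h' : MD Z H' L')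
    (hne : H ≠ H') : ∀ p, p ∈ sigma H → p ∉ sigma H' := hC.h139 H H' h.co h'.co (h.nonconj hG hC h' hne)

theorem MD.st_le_L (hG : IsMinSimpleOddOrder G) (hC : Con13 G) {Z H L H' L' : Subgroup G} (h : MD Z H L) (h' : MD Z H' L')
    (hne : H ≠ H') : st H' L' ≤ L := by
  intro s hs
  exact h.mem_L (h'.st_le hs) (fun p hp hd hσ => h.disj hG hC h' hne p hσ (MD.order_st hs p hp hd))

/-- every prime dividing `|Z|` is in `sigma H` for a member `H` -/
theorem exists_member (hG : IsMinSimpleOddOrder G) (hC : Con13 G) {M K E U : Subgroup G} (h : KS M K E U) {p : ℕ} (hp : p.Prime)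
    (hd : p ∣ Nat.card ↥(K ⊔ st M K)) : ∃ H L : Subgroup G, MD (K ⊔ st M K) H L ∧ p ∈ sigma H := by
  haveI := Fact.mk hp
  rw [← h.md.card_eq] at hd
  rcases hp.dvd_mul.1 hd with h1 | h1
  · obtain ⟨x, hx, hxo⟩ := exists_elt_of_dvd h1
    have hxc : Nat.card (zpowers x) = p := by rw [Nat.card_zpowers, hxo]
    have hx1 := orderOf_ne hp hxo
    have hzt : normalizer ((zpowers x : Subgroup G) : Set G) ≠ ⊤ := normalizer_ne_top hG (by rwa [Ne, zpowers_eq_bot])
      (ne_top_of_solvable hG (by haveI := nilp_of_comm (N := zpowers x) inferInstance; infer_instance))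
    obtain ⟨H, hH, hN⟩ := exists_isCoatom_ge hzt
    have hX : zpowers x ≤ K := zpowers_le.2 hx
    have hXp : (Nat.card (zpowers x)).Prime := by rw [hxc]; exact hp
    obtain ⟨L, E', U', h', -, -, heq⟩ := h.embed_eq hG hC hX hXp hH hN
    refine ⟨H, L, ⟨⟨E', U', h'⟩, heq.symm⟩, ?_⟩
    have := (h.b2 hG hC hX hXp hH hN).1
    rwa [hxc] at this
  · exact ⟨M, K, h.md, st_sigma p hp h1⟩

end Cfsg.Agent.H2.BG14
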