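import Mathlib
import Cfsg.Agent.H2_BG14g

/-! BG §14: the counting argument of Theorem 14.7 -/

set_option autoImplicit false
set_option linter.unusedSectionVars false

open Pointwise
open scoped commutatorElement

namespace Cfsg.Agent.H2.BG14

open Cfsg Subgroup H13.Syl H12.Loc H12.BG7 H12.BG10 H12.BG11 H12.BG12 H2.Con13

universe u

variable {G : Type u} [Group G] [Finite G]

theorem card_conj_TI (Z : Subgroup G) (T : Set G) (h1 : ∀ z ∈ T, ∀ g ∈ Z, g * z * g⁻¹ ∈ T)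
    (h2 : ∀ z ∈ T, ∀ g : G, g * z * g⁻¹ ∈ T → g ∈ Z) :
    Nat.card Z * Set.ncard {w : G | ∃ g : G, ∃ z ∈ T, w = g * z * g⁻¹} = Set.ncard T * Nat.card G := by
  classical
  haveI := Fintype.ofFinite G
  let F : Finset (G × G) := Finset.univ ×ˢ T.toFinset
  let C : Finset G := (Set.toFinset {w : G | ∃ g : G, ∃ z ∈ T, w = g * z * g⁻¹})
  have hF : F.card = Set.ncard T * Nat.card G := by
    rw [Finset.card_product, Finset.card_univ, Set.ncard_eq_toFinset_card', Nat.card_eq_fintype_card, mul_comm]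
  have hmap : ∀ a ∈ F, a.1 * a.2 * a.1⁻¹ ∈ C := by
    intro a ha
    have ha2 : a.2 ∈ T := by
      have := (Finset.mem_product.1 ha).2
      simpa using this
    rw [Set.mem_toFinset]
    exact ⟨a.1, a.2, ha2, rfl⟩
  have hfib : ∀ w ∈ C, (F.filter fun a => a.1 * a.2 * a.1⁻¹ = w).card = Nat.card Z := by
    intro w hw
    rw [Set.mem_toFinset] at hw
    obtain ⟨g₀, z₀, hz₀, rfl⟩ := hw
    rw [Nat.card_eq_fintype_card, ← Fintype.card_coe]
    refine Fintype.card_congr ⟨fun a => ⟨g₀⁻¹ * a.1.1, ?_⟩, fun c => ⟨(g₀ * c, (c : G)⁻¹ * z₀ * c), ?_⟩, ?_, ?_⟩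
    · have ha := Finset.mem_filter.1 a.2
      have ha2 : a.1.2 ∈ T := by
        have := (Finset.mem_product.1 ha.1).2
        simpa using this
      refine h2 a.1.2 ha2 _ ?_
      have : g₀⁻¹ * a.1.1 * a.1.2 * (g₀⁻¹ * a.1.1)⁻¹ = z₀ := by
        have h3 := ha.2
        calc g₀⁻¹ * a.1.1 * a.1.2 * (g₀⁻¹ * a.1.1)⁻¹ = g₀⁻¹ * (a.1.1 * a.1.2 * a.1.1⁻¹) * g₀ := by group
          _ = g₀⁻¹ * (g₀ * z₀ * g₀⁻¹) * g₀ := by rw [h3]
          _ = z₀ := by group
      rw [this]; exact hz₀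
    · rw [Finset.mem_filter]
      refine ⟨Finset.mem_product.2 ⟨Finset.mem_univ _, ?_⟩, by group⟩
      rw [Set.mem_toFinset]
      have := h1 z₀ hz₀ _ (inv_mem c.2)
      simpa using this
    · intro a
      apply Subtype.ext
      have ha := Finset.mem_filter.1 a.2
      have h3 := ha.2
      apply Prod.ext
      · simp
      · show (g₀⁻¹ * a.1.1)⁻¹ * z₀ * (g₀⁻¹ * a.1.1) = a.1.2
        calc (g₀⁻¹ * a.1.1)⁻¹ * z₀ * (g₀⁻¹ * a.1.1) = a.1.1⁻¹ * (g₀ * z₀ * g₀⁻¹) * a.1.1 := by group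
          _ = a.1.1⁻¹ * (a.1.1 * a.1.2 * a.1.1⁻¹) * a.1.1 := by rw [h3]
          _ = a.1.2 := by group
    · intro c
      apply Subtype.ext
      simp
  have h3 := Finset.card_eq_sum_card_fiberwise hmap
  rw [Finset.sum_congr rfl hfib, Finset.sum_const, smul_eq_mul, hF] at h3
  rw [h3, Set.ncard_eq_toFinset_card']
  exact mul_comm _ _

namespace MD

variable {Z H L : Subgroup G}

theorem le (h : MD Z H L) : Z ≤ H := by
  obtain ⟨E, U, hk⟩ := h.ks
  rw [← h.eq]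
  exact sup_le hk.hKM (BG14.st_le H L)

theorem ne (hG : IsMinSimpleOddOrder G) (hC : Con13 G) (h : MD Z H L) : Z ≠ H := by
  intro he
  obtain ⟨E, U, hk⟩ := h.ks
  obtain ⟨q, hq, w, hw, hwo, hd⟩ := exists_prime_elt hk.neS
  haveI := Fact.mk hq
  obtain ⟨S, hS⟩ := exists_isSylIn (p := q) (sigmaCore H)
  have hdσ : q ∣ Nat.card (sigmaCore H) := hd.trans (card_dvd_of_le inf_le_left)
  have hSb : S ≠ ⊥ := by
    rintro rfl
    apply hS.not_dvd
    rwa [relIndex_bot_left]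
  refine hk.e2 hG hC hS hSb ?_
  intro s hs
  refine h.mem_st (he ▸ sigmaCore_le H (hS.le hs)) (fun p hp hd => order_sigma (hS.le hs) hp hd)

theorem three_le (hG : IsMinSimpleOddOrder G) (hC : Con13 G) (h : MD Z H L) : 3 * Nat.card Z ≤ Nat.card H := by
  have h1 : Z.relIndex H * Nat.card Z = Nat.card H := H12.Hall.relIndex_mul h.le
  have h2 : Z.relIndex H ≠ 1 := by
    intro h2
    rw [relIndex_eq_one] at h2
    exact h.ne hG hC (le_antisymm h.le h2)
  have h3 : Odd (Z.relIndex H) := by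
    have := odd_card_subgroup hG H
    rw [← h1] at this
    exact (Nat.odd_mul.1 this).1
  have h4 : 3 ≤ Z.relIndex H := by
    rcases h3 with ⟨k, hk⟩
    omega
  rw [← h1]
  exact Nat.mul_le_mul_right _ h4

end MD

theorem tilde_inter (hG : IsMinSimpleOddOrder G) (hC : Con13 G) {M N : Subgroup G} (hM : IsCoatom M) (hN : IsCoatom N)
    (hnc : ∀ g : G, N ≠ cj g M) {w : G} (h1 : w ∈ tildeOf M ((sigmaCore M : Set G) \ {1})) (h2 : w ∈ tildeOf N ((sigmaCore N : Set G) \ {1})) : False := by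
  obtain ⟨a, ⟨ha, ha1⟩, r, hr, y, hy⟩ := h1
  obtain ⟨b, ⟨hb, hb1⟩, s, hs, z, hz⟩ := h2
  have ha1' : a ≠ 1 := ha1
  have hb1' : b ≠ 1 := hb1
  have e1 : (y * a * y⁻¹) * (y * r * y⁻¹) = (z * b * z⁻¹) * (z * s * z⁻¹) := by
    rw [hy] at hz
    calc (y * a * y⁻¹) * (y * r * y⁻¹) = y * (a * r) * y⁻¹ := by group
      _ = z * (b * s) * z⁻¹ := hz
      _ = _ := by group
  have hya : y * a * y⁻¹ ∈ sigmaCore (cj y M) := by rw [← sc_cj]; exact conj_mem_cj ha
  have hzb : z * b * z⁻¹ ∈ sigmaCore (cj z N) := by rw [← sc_cj]; exact conj_mem_cj hb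
  have h3 := thm145 hG hC (isCoatom_of_cj hM y) (isCoatom_of_cj hN z) hya hzb (by rwa [Ne, conj_eq_one_iff]) (by rwa [Ne, conj_eq_one_iff])
    (r := y * r * y⁻¹) (s := z * s * z⁻¹) (by rw [supportR_equiv hG hC hM ha ha1']; exact conj_mem_cj hr)
    (by rw [supportR_equiv hG hC hN hb hb1']; exact conj_mem_cj hs) e1
  obtain ⟨p, hp, hd, -⟩ := exists_prime_pow (x := y * a * y⁻¹) (by rwa [Ne, conj_eq_one_iff])
  have h4 := order_sigma hya hp hd
  rw [h3] at hd
  have h5 := order_sigma hzb hp hd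
  rw [sigma_cj] at h4 h5
  exact hC.h139 M N hM hN hnc p h4 h5

theorem one_not_mem_tilde (hG : IsMinSimpleOddOrder G) (hC : Con13 G) {M : Subgroup G} (hM : IsCoatom M) :
    (1 : G) ∉ tildeOf M ((sigmaCore M : Set G) \ {1}) := by
  rintro ⟨a, ⟨ha, ha1⟩, r, hr, y, hy⟩
  have ha1' : a ≠ 1 := ha1
  have h1 : a * r = 1 := conj_eq_one_iff.1 hy.symm
  rcases supportR_cases hG hC hM ha ha1' with ⟨-, h⟩ | ⟨N, hN, -, h⟩
  · rw [h, mem_bot] at hr
    rw [hr, mul_one] at h1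
    exact ha1' h1
  · rw [h] at hr
    obtain ⟨p, hp, hd, -⟩ := exists_prime_pow ha1'
    have h2 := order_sigma ha hp hd
    have h3 : a = r⁻¹ := mul_eq_one_iff_eq_inv.1 h1
    rw [h3, orderOf_inv] at hd
    exact hC.h139 M N hM hN.co hN.nc p h2 (order_sigma (mem_inf.1 hr).1 hp hd)

/-- the elements of `Z` outside all the `Z ⊓ H_sigma` are not in the tilde sets of members -/
theorem zhat_tilde (hG : IsMinSimpleOddOrder G) (hC : Con13 G) {Z H L : Subgroup G} (h : MD Z H L) {z : G} (hz : z ∈ Z)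
    (hzs : z ∉ sigmaCore H) {g : G} (ht : g * z * g⁻¹ ∈ tildeOf H ((sigmaCore H : Set G) \ {1})) : False := by
  obtain ⟨a, ⟨ha, ha1⟩, r, hr, y, hy⟩ := ht
  have ha1' : a ≠ 1 := ha1
  obtain ⟨l, hl, s, hs, he, hc⟩ := h.decomp hz
  have hcar := supportR_comm hG hC h.co ha ha1' hr
  have hrσ : ∀ p : ℕ, p.Prime → p ∣ orderOf r → p ∉ sigma H := by
    rcases supportR_cases hG hC h.co ha ha1' with ⟨-, h'⟩ | ⟨N, hN, -, h'⟩
    · rw [h', mem_bot] at hr
      rw [hr]; exact one_pi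
    · rw [h'] at hr
      intro p hp hd h2
      exact hC.h139 H N h.co hN.co hN.nc p h2 (order_sigma (mem_inf.1 hr).1 hp hd)
  let k := g⁻¹ * y
  have e0 : l * s = (k * r * k⁻¹) * (k * a * k⁻¹) := by
    have h1 : z = g⁻¹ * (y * (a * r) * y⁻¹) * g := by rw [← hy]; group
    rw [he, h1]
    have h2 : a * r = r * a := hcar.eq
    rw [h2]
    simp only [k]; group
  have hc2 : Commute (k * r * k⁻¹) (k * a * k⁻¹) := by
    show (k * r * k⁻¹) * (k * a * k⁻¹) = (k * a * k⁻¹) * (k * r * k⁻¹)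
    calc (k * r * k⁻¹) * (k * a * k⁻¹) = k * (r * a) * k⁻¹ := by group
      _ = k * (a * r) * k⁻¹ := by rw [hcar.eq]
      _ = _ := by group
  obtain ⟨e1, e2⟩ := h.parts hc hc2 e0 (h.order_L hl) (MD.order_st hs) (by
      intro p hp hd
      rw [show k * r * k⁻¹ = MulAut.conj k r from rfl, MulEquiv.orderOf_eq] at hd
      exact hrσ p hp hd) (by
      intro p hp hd
      rw [show k * a * k⁻¹ = MulAut.conj k a from rfl, MulEquiv.orderOf_eq] at hd
      exact order_sigma ha hp hd)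
  obtain ⟨E, U, hk⟩ := h.ks
  have hkH : k ∈ H := by
    by_contra hkH
    have h1 := hk.d1 hG hC hkH
    have h2 : s ∈ st H L ⊓ cj k H := mem_inf.2 ⟨hs, by rw [e2]; exact conj_mem_cj (sigmaCore_le H ha)⟩
    rw [h1, mem_bot] at h2
    rw [h2] at e2
    exact ha1' (conj_eq_one_iff.1 e2.symm)
  have hs1 : s ≠ 1 := by
    rintro rfl
    exact ha1' (conj_eq_one_iff.1 e2.symm)
  have h3 : centralizer ({s} : Set G) ≤ H := hk.cent_le_M hC hs hs1
  have h4 : supportR H a = ⊥ := by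
    apply supportR_of_le
    have h5 : cj k (centralizer ({a} : Set G)) ≤ cj k H := by
      rw [cj_centralizer_singleton, ← e2, cj_eq_of_mem hkH]
      exact h3
    rwa [cj_le_cj_iff] at h5
  rw [h4, mem_bot] at hr
  rw [hr] at e1
  have e3 : l = 1 := by rw [e1]; group
  apply hzs
  rw [← he, e3, one_mul]
  exact (mem_inf.1 hs).1

end Cfsg.Agent.H2.BG14
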