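import Mathlib
import Cfsg.Agent.H2_BG14h

/-! BG §14: Theorem 14.7, the count -/

set_option autoImplicit false
set_option linter.unusedSectionVars false

open Pointwise
open scoped commutatorElement

namespace Cfsg.Agent.H2.BG14

open Cfsg Subgroup H13.Syl H12.Loc H12.BG7 H12.BG10 H12.BG11 H12.BG12 H2.Con13

universe u

variable {G : Type u} [Group G] [Finite G]

theorem ncard_toFinset' {α : Type*} (s : Set α) [Fintype s] : s.ncard = s.toFinset.card := Set.ncard_eq_toFinset_card' s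

/-- some member has nontrivial `U` -/
theorem exists_type2 (hG : IsMinSimpleOddOrder G) (hC : Con13 G) {M K E U : Subgroup G} (h : KS M K E U) :
    ∃ H L E' U' : Subgroup G, MD (K ⊔ st M K) H L ∧ KS H L E' U' ∧ U' ≠ ⊥ := by
  classical
  by_contra hcon
  push Not at hcon
  set Z := K ⊔ st M K with hZ
  haveI := Fintype.ofFinite G
  haveI := Fintype.ofFinite (Subgroup G)
  let F : Finset (Subgroup G) := Finset.univ.filter fun H => ∃ L, MD Z H L
  have hF : ∀ H, H ∈ F ↔ ∃ L, MD Z H L := fun H => by simp [F]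
  -- T
  let T : Set G := {z | z ∈ Z ∧ ∀ H ∈ F, z ∉ sigmaCore H}
  have hMF : M ∈ F := (hF M).2 ⟨K, h.md⟩
  have hT1 : (1 : G) ∉ T := fun hh => hh.2 M hMF (one_mem _)
  have hTZ : ∀ z ∈ T, ∀ g ∈ Z, g * z * g⁻¹ ∈ T := by
    rintro z ⟨hz, hz'⟩ g hg
    refine ⟨mul_mem (mul_mem hg hz) (inv_mem hg), fun H hH hh => hz' H hH ?_⟩
    obtain ⟨L, hL⟩ := (hF H).1 hH
    exact (mem_normalizer_iff.1 (le_normalizer_sigmaCore H (hL.le hg)) z).2 hh
  have hTTI : ∀ z ∈ T, ∀ g : G, g * z * g⁻¹ ∈ T → g ∈ Z := by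
    rintro z ⟨hz, hz'⟩ g ⟨hg, -⟩
    have hz1 : z ≠ 1 := by
      rintro rfl
      exact hT1 ⟨hz, hz'⟩
    obtain ⟨p, hp, hd, -⟩ := exists_prime_pow hz1
    obtain ⟨H, L, hL, hpσ⟩ := exists_member hG hC h hp (hd.trans (by rw [← orderOf_mk z hz]; exact orderOf_dvd_natCard _))
    obtain ⟨l, hl, s, hs, he, hc⟩ := hL.decomp hz
    refine hL.conj_mem hG hC hz hg hl hs he ?_ ?_
    · rintro rfl
      rw [one_mul] at he
      exact hz' H ((hF H).2 ⟨L, hL⟩) (he ▸ (mem_inf.1 hs).1)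
    · rintro rfl
      rw [mul_one] at he
      exact hL.order_L hl p hp (he ▸ hd) hpσ
  have hTcount := card_conj_TI Z T hTZ hTTI
  let CT : Finset G := (Set.toFinset {w : G | ∃ g : G, ∃ z ∈ T, w = g * z * g⁻¹})
  let TL : Subgroup G → Finset G := fun H => (tildeOf H ((sigmaCore H : Set G) \ {1})).toFinset
  have hCTc : Set.ncard {w : G | ∃ g : G, ∃ z ∈ T, w = g * z * g⁻¹} = CT.card := ncard_toFinset' _
  -- pairwise disjoint
  have hdis : ∀ H ∈ F, ∀ H' ∈ F, H ≠ H' → Disjoint (TL H) (TL H') := by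
    intro H hH H' hH' hne
    obtain ⟨L, hL⟩ := (hF H).1 hH
    obtain ⟨L', hL'⟩ := (hF H').1 hH'
    rw [Finset.disjoint_left]
    intro w h1 h2
    rw [Set.mem_toFinset] at h1 h2
    exact tilde_inter hG hC hL.co hL'.co (hL.nonconj hG hC hL' hne) h1 h2
  have hdis2 : Disjoint CT (F.biUnion TL) := by
    rw [Finset.disjoint_left]
    intro w h1 h2
    rw [Finset.mem_biUnion] at h2
    obtain ⟨H, hH, h2⟩ := h2
    obtain ⟨L, hL⟩ := (hF H).1 hH
    rw [Set.mem_toFinset] at h1 h2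
    obtain ⟨g, z, ⟨hz, hz'⟩, rfl⟩ := h1
    exact zhat_tilde hG hC hL hz (hz' H hH) h2
  have hone : CT ∪ F.biUnion TL ⊆ Finset.univ.erase 1 := by
    intro w hw
    rw [Finset.mem_erase]
    refine ⟨?_, Finset.mem_univ _⟩
    rintro rfl
    rcases Finset.mem_union.1 hw with h1 | h1
    · rw [Set.mem_toFinset] at h1
      obtain ⟨g, z, hz, he⟩ := h1
      rw [conj_eq_one_iff.1 he.symm] at hz
      exact hT1 hz
    · rw [Finset.mem_biUnion] at h1
      obtain ⟨H, hH, h2⟩ := h1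
      obtain ⟨L, hL⟩ := (hF H).1 hH
      rw [Set.mem_toFinset] at h2
      exact one_not_mem_tilde hG hC hL.co h2
  have hle : CT.card + ∑ H ∈ F, (TL H).card ≤ Nat.card G - 1 := by
    have h1 := Finset.card_le_card hone
    rw [Finset.card_union_of_disjoint hdis2, Finset.card_biUnion hdis, Finset.card_erase_of_mem (Finset.mem_univ _), Finset.card_univ,
      ← Nat.card_eq_fintype_card] at h1
    exact h1
  have hTLc : ∀ H ∈ F, (TL H).card = (Nat.card (sigmaCore H) - 1) * H.index := by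
    intro H hH
    obtain ⟨L, hL⟩ := (hF H).1 hH
    rw [← card_tilde hG hC hL.co, ncard_toFinset']
  -- |Z| - 1 = |T| + sum
  let SZ : Subgroup G → Finset G := fun H => ((Z ⊓ sigmaCore H : Subgroup G) : Set G).toFinset.erase 1
  have hSZd : ∀ H ∈ F, ∀ H' ∈ F, H ≠ H' → Disjoint (SZ H) (SZ H') := by
    intro H hH H' hH' hne
    obtain ⟨L, hL⟩ := (hF H).1 hH
    obtain ⟨L', hL'⟩ := (hF H').1 hH'
    rw [Finset.disjoint_left]
    intro w h1 h2
    rw [Finset.mem_erase, Set.mem_toFinset, SetLike.mem_coe] at h1 h2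
    obtain ⟨p, hp, hd, -⟩ := exists_prime_pow h1.1
    exact hL.disj hG hC hL' hne p (order_sigma (mem_inf.1 h1.2).2 hp hd) (order_sigma (mem_inf.1 h2.2).2 hp hd)
  have hSZc : ∀ H ∈ F, (SZ H).card = Nat.card ↥(Z ⊓ sigmaCore H) - 1 := by
    intro H hH
    rw [Finset.card_erase_of_mem (by rw [Set.mem_toFinset]; exact one_mem _), Set.toFinset_card, ← Nat.card_eq_fintype_card]
    rfl
  have hTd : Disjoint T.toFinset (F.biUnion SZ) := by
    rw [Finset.disjoint_left]
    intro w h1 h2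
    rw [Finset.mem_biUnion] at h2
    obtain ⟨H, hH, h2⟩ := h2
    rw [Finset.mem_erase, Set.mem_toFinset, SetLike.mem_coe] at h2
    rw [Set.mem_toFinset] at h1
    exact h1.2 H hH (mem_inf.1 h2.2).2
  have hZu : (Z : Set G).toFinset.erase 1 = T.toFinset ∪ F.biUnion SZ := by
    ext w
    rw [Finset.mem_erase, Set.mem_toFinset, SetLike.mem_coe, Finset.mem_union, Set.mem_toFinset, Finset.mem_biUnion]
    constructor
    · rintro ⟨hw1, hwZ⟩
      by_cases hh : ∀ H ∈ F, w ∉ sigmaCore H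
      · exact Or.inl ⟨hwZ, hh⟩
      · push Not at hh
        obtain ⟨H, hH, hwH⟩ := hh
        refine Or.inr ⟨H, hH, ?_⟩
        rw [Finset.mem_erase, Set.mem_toFinset, SetLike.mem_coe]
        exact ⟨hw1, mem_inf.2 ⟨hwZ, hwH⟩⟩
    · rintro (hw | ⟨H, hH, hw⟩)
      · exact ⟨fun e => hT1 (e ▸ hw), hw.1⟩
      · rw [Finset.mem_erase, Set.mem_toFinset, SetLike.mem_coe] at hw
        exact ⟨hw.1, (mem_inf.1 hw.2).1⟩
  have hZcard : Nat.card Z - 1 = Set.ncard T + ∑ H ∈ F, (Nat.card ↥(Z ⊓ sigmaCore H) - 1) := by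
    have h1 := congrArg Finset.card hZu
    rw [Finset.card_erase_of_mem (by rw [Set.mem_toFinset]; exact one_mem _), Set.toFinset_card, ← Nat.card_eq_fintype_card,
      Finset.card_union_of_disjoint hTd, Finset.card_biUnion hSZd, Finset.sum_congr rfl hSZc, ← ncard_toFinset'] at h1
    exact h1
  -- two members
  have htwo : 2 ≤ F.card := by
    obtain ⟨p, hp, x, hx, hxo, hd⟩ := exists_prime_elt h.ne
    obtain ⟨H, L, hL, hpσ⟩ := exists_member hG hC h hp (hd.trans (card_dvd_of_le le_sup_left))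
    have hne : H ≠ M := by
      rintro rfl
      exact kappa_sigmaC h.hall p hp hd hpσ
    exact Finset.one_lt_card.2 ⟨H, (hF H).2 ⟨L, hL⟩, M, hMF, hne⟩
  -- rational computation
  have hgpos : (0 : ℚ) < Nat.card G := by exact_mod_cast Nat.card_pos
  have hzpos : (0 : ℚ) < Nat.card Z := by exact_mod_cast Nat.card_pos
  have hmem : ∀ H ∈ F, ((Nat.card (sigmaCore H) - 1 : ℕ) : ℚ) * H.index =
      (Nat.card G : ℚ) / Nat.card Z * Nat.card ↥(Z ⊓ sigmaCore H) - H.index := by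
    intro H hH
    obtain ⟨L, hL⟩ := (hF H).1 hH
    obtain ⟨E', U', hk⟩ := hL.ks
    have hU' := hcon H L E' U' hL hk
    have h1 : Nat.card L * Nat.card ↥(Z ⊓ sigmaCore H) = Nat.card Z := by
      rw [hL.inf_eq]; exact hL.card_eq
    have h2 : E' = L := by
      apply le_antisymm _ hk.hKE
      intro e he
      obtain ⟨k, hk', u, hu, rfl⟩ := hk.hU.2.2.2 e he
      rw [hU', mem_bot] at hu
      rw [hu, mul_one]; exact hk'
    have h3 : Nat.card L * Nat.card (sigmaCore H) = Nat.card H := by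
      rw [← h2]; exact H12.Core.IsComplIn_card hk.hE
    have h4 : Nat.card H * H.index = Nat.card G := H.card_mul_index
    have h5 : 1 ≤ Nat.card (sigmaCore H) := Nat.card_pos
    rw [Nat.cast_sub h5, Nat.cast_one, sub_mul, one_mul]
    congr 1
    have h1' : (Nat.card L : ℚ) * Nat.card ↥(Z ⊓ sigmaCore H) = Nat.card Z := by exact_mod_cast h1
    have h3' : (Nat.card L : ℚ) * Nat.card (sigmaCore H) = Nat.card H := by exact_mod_cast h3
    have h4' : (Nat.card H : ℚ) * H.index = Nat.card G := by exact_mod_cast h4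
    have hLpos : (0 : ℚ) < Nat.card L := by exact_mod_cast Nat.card_pos
    rw [div_mul_eq_mul_div, eq_div_iff hzpos.ne', ← h4', ← h3', ← h1']
    ring
  have hidx : ∀ H ∈ F, (H.index : ℚ) ≤ Nat.card G / (3 * Nat.card Z) := by
    intro H hH
    obtain ⟨L, hL⟩ := (hF H).1 hH
    have h1 := hL.three_le hG hC
    have h4 : Nat.card H * H.index = Nat.card G := H.card_mul_index
    rw [le_div_iff₀ (by positivity)]
    have h4' : (Nat.card H : ℚ) * H.index = Nat.card G := by exact_mod_cast h4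
    have h1' : (3 : ℚ) * Nat.card Z ≤ Nat.card H := by exact_mod_cast h1
    rw [← h4', mul_comm (Nat.card H : ℚ)]
    exact mul_le_mul_of_nonneg_left h1' (by positivity)
  have hCTq : (CT.card : ℚ) = (Nat.card G : ℚ) / Nat.card Z * Set.ncard T := by
    rw [hCTc] at hTcount
    have : (Nat.card Z : ℚ) * CT.card = Set.ncard T * Nat.card G := by exact_mod_cast hTcount
    rw [div_mul_eq_mul_div, eq_div_iff hzpos.ne']
    linarith
  have hle' : (CT.card : ℚ) + ∑ H ∈ F, ((Nat.card G : ℚ) / Nat.card Z * Nat.card ↥(Z ⊓ sigmaCore H) - H.index) ≤ Nat.card G - 1 := by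
    have h1 : (CT.card : ℚ) + ∑ H ∈ F, ((TL H).card : ℚ) ≤ ((Nat.card G - 1 : ℕ) : ℚ) := by exact_mod_cast hle
    rw [Nat.cast_sub Nat.card_pos, Nat.cast_one] at h1
    refine le_trans (le_of_eq ?_) h1
    congr 1
    refine Finset.sum_congr rfl fun H hH => ?_
    rw [hTLc H hH, Nat.cast_mul, hmem H hH]
  have hZq : (Nat.card Z : ℚ) - 1 = Set.ncard T + (∑ H ∈ F, (Nat.card ↥(Z ⊓ sigmaCore H) : ℚ) - F.card) := by
    have h1 : ((Nat.card Z - 1 : ℕ) : ℚ) = Set.ncard T + ∑ H ∈ F, ((Nat.card ↥(Z ⊓ sigmaCore H) - 1 : ℕ) : ℚ) := by exact_mod_cast hZcard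
    rw [Nat.cast_sub Nat.card_pos, Nat.cast_one] at h1
    rw [h1]
    congr 1
    rw [Finset.sum_congr rfl (fun H _ => by rw [Nat.cast_sub (Nat.card_pos (α := ↥(Z ⊓ sigmaCore H))), Nat.cast_one]),
      Finset.sum_sub_distrib, Finset.sum_const, nsmul_eq_mul, mul_one]
  rw [Finset.sum_sub_distrib, ← Finset.mul_sum, hCTq] at hle'
  have hsumidx : ∑ H ∈ F, (H.index : ℚ) ≤ F.card * (Nat.card G / (3 * Nat.card Z)) := by
    have := Finset.sum_le_sum hidx
    rwa [Finset.sum_const, nsmul_eq_mul] at this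
  have hF2 : (2 : ℚ) ≤ F.card := by exact_mod_cast htwo
  set a : ℚ := (Nat.card G : ℚ) / Nat.card Z with ha
  have hapos : 0 < a := div_pos hgpos hzpos
  have haz : a * Nat.card Z = Nat.card G := div_mul_cancel₀ _ hzpos.ne'
  have h3 : (Nat.card G : ℚ) / (3 * Nat.card Z) = a / 3 := by
    rw [ha]; field_simp
  rw [h3] at hsumidx
  set S : ℚ := ∑ H ∈ F, (Nat.card ↥(Z ⊓ sigmaCore H) : ℚ) with hS
  have h4 : a * (Set.ncard T + S) = a * (Nat.card Z - 1 + F.card) := by
    congr 1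
    linarith
  have h5 : a * Set.ncard T + a * S = Nat.card G - a + a * F.card := by
    rw [← mul_add, h4, ← haz]; ring
  nlinarith [mul_le_mul_of_nonneg_left hF2 hapos.le]

end Cfsg.Agent.H2.BG14
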