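import Mathlib
import Cfsg.Agent.H2_BG14i

/-! BG §14: Theorem 14.7 -/

set_option autoImplicit false
set_option linter.unusedSectionVars false

open Pointwise
open scoped commutatorElement

namespace Cfsg.Agent.H2.BG14

open Cfsg Subgroup H13.Syl H12.Loc H12.BG7 H12.BG10 H12.BG11 H12.BG12 H2.Con13

universe u

variable {G : Type u} [Group G] [Finite G]

theorem MD.L_unique {Z H L L' : Subgroup G} (h : MD Z H L) (h' : MD Z H L') : L = L' :=
  le_antisymm (fun _ hz => h'.mem_L (h.L_le hz) (h.order_L hz)) (fun _ hz => h.mem_L (h'.L_le hz) (h'.order_L hz))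

theorem KS.U_card {M K E U K' E' U' : Subgroup G} (h : KS M K E U) (h' : KS M K' E' U') : Nat.card U = Nat.card U' :=
  H12.Hall.card_eq h.hUq h'.hUq

theorem card_ne_bot {X Y : Subgroup G} (h : Nat.card X = Nat.card Y) (hX : X ≠ ⊥) : Y ≠ ⊥ := by
  rintro rfl
  rw [card_bot] at h
  exact hX (eq_bot_of_card_eq X h)

theorem KS.pair (hG : IsMinSimpleOddOrder G) (hC : Con13 G) {M K E U : Subgroup G} (h : KS M K E U) {X : Subgroup G} (hX : X ≤ K)
    (hXp : (Nat.card X).Prime) {H : Subgroup G} (hH : IsCoatom H) (hN : normalizer (X : Set G) ≤ H) :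
    ∃ E' U' : Subgroup G, KS H (st M K) E' U' ∧ st H (st M K) = K ∧ (U ≠ ⊥ ∨ U' ≠ ⊥) := by
  have hncH := h.nc_of_norm hG hC hX hXp hH hN
  have hMH : M ≠ H := by
    rintro rfl
    exact hncH 1 (cj_one _).symm
  obtain ⟨L, E', U', h', hstL, hXst, heq⟩ := h.embed_eq hG hC hX hXp hH hN
  have hmM : MD (K ⊔ st M K) M K := h.md
  have hmH : MD (K ⊔ st M K) H L := ⟨⟨E', U', h'⟩, heq.symm⟩
  obtain ⟨H₀, L₀, E₀, U₀, hm₀, h₀, hU₀⟩ := exists_type2 hG hC h
  have hpr := (h₀.g hG hU₀).2.1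
  have key : ∀ H₁ L₁ : Subgroup G, MD (K ⊔ st M K) H₁ L₁ → H₁ ≠ H₀ → st H₁ L₁ = L₀ ∧ L₁ = st H₀ L₀ := by
    intro H₁ L₁ hm₁ hne
    have h1 := hm₀.st_le_L hG hC hm₁ hne.symm
    obtain ⟨E₁, U₁, h₁⟩ := hm₁.ks
    have h2 : st H₁ L₁ = L₀ := by
      refine eq_of_le_of_card_ge h1 ?_
      have h3 := (Nat.dvd_prime hpr).1 (card_dvd_of_le h1)
      rcases h3 with h3 | h3
      · exact absurd (eq_bot_of_card_eq _ h3) h₁.neS
      · rw [h3]
    refine ⟨h2, (eq_of_le_of_card_ge (hm₁.st_le_L hG hC hm₀ hne) ?_).symm⟩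
    have h4 := hm₀.card_eq
    have h5 := hm₁.card_eq
    rw [h2, ← h4, mul_comm] at h5
    exact (Nat.eq_of_mul_eq_mul_left Nat.card_pos h5).le
  by_cases hM0 : M = H₀
  · subst hM0
    have hL0 : K = L₀ := hmM.L_unique hm₀
    subst hL0
    obtain ⟨e1, e2⟩ := key H L hmH hMH.symm
    subst e2
    exact ⟨E', U', h', e1, Or.inl (card_ne_bot (h₀.U_card h) hU₀)⟩
  · obtain ⟨e1, e2⟩ := key M K hmM hM0
    by_cases hH0 : H = H₀
    · subst hH0
      have hL0 : L = L₀ := hmH.L_unique hm₀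
      subst hL0
      subst e1
      exact ⟨E', U', h', e2.symm, Or.inr (card_ne_bot (h₀.U_card h') hU₀)⟩
    · exfalso
      obtain ⟨e3, e4⟩ := key H L hmH hH0
      have h5 := hmM.disj hG hC hmH hMH
      obtain ⟨q, hq, w, hw, hwo, hd⟩ := exists_prime_elt h.neS
      have h6 := MD.order_st hw q hq (by rw [hwo])
      have hw' : w ∈ st H L := by rw [e3, ← e1]; exact hw
      exact h5 q h6 (MD.order_st hw' q hq (by rw [hwo]))

/-- a pair of partners -/
structure PR (M K E U M' K' E' U' : Subgroup G) : Prop where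
  h : KS M K E U
  h' : KS M' K' E' U'
  e : st M K = K'
  e' : st M' K' = K
  u : U ≠ ⊥ ∨ U' ≠ ⊥
  nc : ∀ g : G, M' ≠ cj g M

theorem PR.symm {M K E U M' K' E' U' : Subgroup G} (h : PR M K E U M' K' E' U') : PR M' K' E' U' M K E U := by
  refine ⟨h.h', h.h, h.e', h.e, h.u.symm, fun g hg => h.nc g⁻¹ ?_⟩
  rw [hg, cj_inv_cj]

theorem KS.exists_PR (hG : IsMinSimpleOddOrder G) (hC : Con13 G) {M K E U : Subgroup G} (h : KS M K E U) {X : Subgroup G} (hX : X ≤ K)
    (hXp : (Nat.card X).Prime) {H : Subgroup G} (hH : IsCoatom H) (hN : normalizer (X : Set G) ≤ H) :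
    ∃ E' U' : Subgroup G, PR M K E U H (st M K) E' U' := by
  obtain ⟨E', U', h1, h2, h3⟩ := h.pair hG hC hX hXp hH hN
  exact ⟨E', U', h, h1, rfl, h2, h3, h.nc_of_norm hG hC hX hXp hH hN⟩

theorem KS.exists_PR' (hG : IsMinSimpleOddOrder G) (hC : Con13 G) {M K E U : Subgroup G} (h : KS M K E U) :
    ∃ H E' U' : Subgroup G, PR M K E U H (st M K) E' U' := by
  obtain ⟨p, hp, x, hx, hxo, hd⟩ := exists_prime_elt h.ne
  have hxc : Nat.card (zpowers x) = p := by rw [Nat.card_zpowers, hxo]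
  have hx1 := orderOf_ne hp hxo
  have hzt : normalizer ((zpowers x : Subgroup G) : Set G) ≠ ⊤ := normalizer_ne_top hG (by rwa [Ne, zpowers_eq_bot])
    (ne_top_of_solvable hG (by haveI := nilp_of_comm (N := zpowers x) inferInstance; infer_instance))
  obtain ⟨H, hH, hN⟩ := exists_isCoatom_ge hzt
  obtain ⟨E', U', h'⟩ := h.exists_PR hG hC (X := zpowers x) (zpowers_le.2 hx) (by rw [hxc]; exact hp) hH hN
  exact ⟨H, E', U', h'⟩

/-- uniqueness of the partner -/
theorem KS.partner_unique (hG : IsMinSimpleOddOrder G) (hC : Con13 G) {M K E U : Subgroup G} (h : KS M K E U) {H H' : Subgroup G} (hH : IsCoatom H)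
    (hH' : IsCoatom H') (hK : K = st H (st M K)) (hK' : K = st H' (st M K)) (hh : IsPiHallOf (kappa H) (st M K) H)
    (hh' : IsPiHallOf (kappa H') (st M K) H') : H = H' := by
  obtain ⟨p, hp, x, hx, hxo, hd⟩ := exists_prime_elt h.ne
  have hxc : Nat.card (zpowers x) = p := by rw [Nat.card_zpowers, hxo]
  have key : ∀ H : Subgroup G, IsCoatom H → K = st H (st M K) → IsPiHallOf (kappa H) (st M K) H → UMax H (centralizer ((zpowers x : Subgroup G) : Set G)) := by
    intro H hH hK hh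
    obtain ⟨E', hE, hE'⟩ := exists_E hG hH hh.1 (kappa_sigmaC hh)
    obtain ⟨U', h'⟩ := exists_KS hG hC hH hh h.neS hE hE'
    exact h'.c hC (X := zpowers x) (by rw [← hK]; exact zpowers_le.2 hx) (by rw [hxc]; exact hp)
  have h1 := key H hH hK hh
  have h2 := key H' hH' hK' hh'
  exact h2.2 H hH h1.1

theorem KS.exists_PR_of (hG : IsMinSimpleOddOrder G) (hC : Con13 G) {M K E U : Subgroup G} (h : KS M K E U) {H : Subgroup G} (hH : IsCoatom H)
    (hK : K = st H (st M K)) (hh : IsPiHallOf (kappa H) (st M K) H) : ∃ E' U' : Subgroup G, PR M K E U H (st M K) E' U' := by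
  obtain ⟨H', E', U', h'⟩ := h.exists_PR' hG hC
  have : H' = H := h.partner_unique hG hC h'.h'.co hH h'.e'.symm hK h'.h'.hall hh
  subst this
  exact ⟨E', U', h'⟩

namespace PR

variable {M K E U M' K' E' U' : Subgroup G}

theorem K_cyclic_aux (hG : IsMinSimpleOddOrder G) (hU : U ≠ ⊥) (h : PR M K E U M' K' E' U') : IsCyclic K ∧ IsCyclic K' := by
  obtain ⟨-, hp, hnil, -⟩ := h.h.g hG hU
  refine ⟨(h.h.cyc (Or.inl hU)).1, ?_⟩
  refine isCyclic_of_rankLE_one hG ?_ ?_
  · refine nilp_mono ?_ hnil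
    rw [← h.e]; exact inf_le_left
  · refine rankLE_one_of fun p hp hd => ?_
    exact H12.SCN.pRankLE_mono h.h'.hKM (kappa_spec hG (h.h'.hall.2.1 p hp hd)).2.2.2.1

theorem K_cyclic (hG : IsMinSimpleOddOrder G) (h : PR M K E U M' K' E' U') : IsCyclic K ∧ IsCyclic K' := by
  rcases h.u with hu | hu
  · exact h.K_cyclic_aux hG hu
  · exact (h.symm.K_cyclic_aux hG hu).symm

theorem kappa_eq (hG : IsMinSimpleOddOrder G) (h : PR M K E U M' K' E' U') : kappa M = tau1 M := by
  haveI := (h.K_cyclic hG).1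
  exact h.h.ab inferInstance

theorem comm_le (h : PR M K E U M' K' E' U') : K' ≤ centralizer (K : Set G) := by
  rw [← h.e]; exact inf_le_right

theorem hdis (hC : Con13 G) (h : PR M K E U M' K' E' U') : ∀ p, p ∈ sigma M → p ∉ sigma M' := hC.h139 M M' h.h.co h.h'.co h.nc

theorem K'_sigma (h : PR M K E U M' K' E' U') : H12.Core.PiNum (sigma M) (Nat.card K') := by
  rw [← h.e]; exact st_sigma

theorem K_sigma (h : PR M K E U M' K' E' U') : H12.Core.PiNum (sigma M') (Nat.card K) := h.symm.K'_sigma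

theorem coprime (h : PR M K E U M' K' E' U') : (Nat.card K).Coprime (Nat.card K') := by
  apply card_dvd_prime
  intro p hp h1 h2
  exact kappa_sigmaC h.h.hall p hp h1 (h.K'_sigma p hp h2)

theorem Z_cyclic (hG : IsMinSimpleOddOrder G) (h : PR M K E U M' K' E' U') : IsCyclic ↥(K ⊔ K') := by
  haveI h1 := (h.K_cyclic hG).1
  haveI h2 := (h.K_cyclic hG).2
  obtain ⟨k, hk⟩ := (Subgroup.isCyclic_iff_exists_zpowers_eq_top K).1 h1
  obtain ⟨k', hk'⟩ := (Subgroup.isCyclic_iff_exists_zpowers_eq_top K').1 h2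
  have hkK : k ∈ K := by rw [← hk]; exact mem_zpowers k
  have hkK' : k' ∈ K' := by rw [← hk']; exact mem_zpowers k'
  have hc : Commute k k' := mem_centralizer_iff.1 (h.comm_le hkK') k hkK
  have hco : (orderOf k).Coprime (orderOf k') := by
    rw [← Nat.card_zpowers, ← Nat.card_zpowers, hk, hk']
    exact h.coprime
  rw [Subgroup.isCyclic_iff_exists_zpowers_eq_top]
  refine ⟨k * k', le_antisymm ?_ ?_⟩
  · exact zpowers_le.2 (mul_mem (mem_sup_left hkK) (mem_sup_right hkK'))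
  · obtain ⟨n, hn1, hn2⟩ := Nat.chineseRemainder hco 1 0
    have h3 : (k * k') ^ n = k := by
      rw [hc.mul_pow]
      have e1 := pow_eq_pow_iff_modEq.2 hn1
      have e2 := pow_eq_pow_iff_modEq.2 hn2
      rw [e1, e2, pow_one, pow_zero, mul_one]
    have h4 : k ∈ zpowers (k * k') := by
      have := pow_mem (mem_zpowers (k * k')) n
      rwa [h3] at this
    have h5 : k' ∈ zpowers (k * k') := by
      have := mul_mem (inv_mem h4) (mem_zpowers (k * k'))
      simpa using this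
    rw [← hk, ← hk']
    exact sup_le (zpowers_le.2 h4) (zpowers_le.2 h5)

theorem md (h : PR M K E U M' K' E' U') : MD (K ⊔ K') M K := by
  have := h.h.md
  rwa [h.e] at this

theorem sup_le_inf (h : PR M K E U M' K' E' U') : K ⊔ K' ≤ M ⊓ M' := by
  refine le_inf h.md.le ?_
  rw [sup_comm]; exact h.symm.md.le

/-- `M ⊓ M' = Z` -/
theorem inf_eq (hG : IsMinSimpleOddOrder G) (hC : Con13 G) (h : PR M K E U M' K' E' U') : M ⊓ M' = K ⊔ K' := by
  apply le_antisymm _ h.sup_le_inf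
  have hD1 : M ⊓ M' ≤ normalizer ((sigmaCore M ⊓ M' : Subgroup G) : Set G) := by
    refine le_trans ?_ (inf_normalizer_le_normalizer_inf)
    exact inf_le_inf (le_normalizer_sigmaCore M) le_normalizer
  have hD2 : M ⊓ M' ≤ normalizer ((sigmaCore M' ⊓ M : Subgroup G) : Set G) := by
    refine le_trans ?_ (inf_normalizer_le_normalizer_inf)
    rw [inf_comm]
    exact inf_le_inf (le_normalizer_sigmaCore M') le_normalizer
  have hinf : sigmaCore M ⊓ sigmaCore M' = ⊥ := by
    rw [eq_bot_iff]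
    intro x hx
    rw [mem_bot]
    by_contra hx1
    obtain ⟨p, hp, hd, -⟩ := exists_prime_pow hx1
    exact h.hdis hC p (order_sigma (mem_inf.1 hx).1 hp hd) (order_sigma (mem_inf.1 hx).2 hp hd)
  have hcomm : sigmaCore M ⊓ M' ≤ centralizer ((sigmaCore M' ⊓ M : Subgroup G) : Set G) := by
    refine le_centralizer_of_inf ?_ ?_ ?_
    · exact (le_inf (inf_le_left.trans (sigmaCore_le M)) inf_le_right).trans hD2
    · exact (le_inf inf_le_right (inf_le_left.trans (sigmaCore_le M'))).trans hD1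
    · rw [eq_bot_iff, ← hinf]
      exact inf_le_inf inf_le_left inf_le_left
  have hK : K ≤ sigmaCore M' ⊓ M := le_inf (by rw [← h.e']; exact inf_le_left) h.h.hKM
  have hK' : K' ≤ sigmaCore M ⊓ M' := le_inf (by rw [← h.e]; exact inf_le_left) h.h'.hKM
  have h1 : sigmaCore M ⊓ M' = K' := by
    apply le_antisymm _ hK'
    rw [← h.e]
    exact le_inf inf_le_left (hcomm.trans (centralizer_le (SetLike.coe_subset_coe.2 hK)))
  rw [h1] at hD1
  have h2 := h.h'.normK
  rw [h.e'] at h2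
  rw [sup_comm, ← h2]
  exact le_inf inf_le_right hD1

theorem cent_eq (hG : IsMinSimpleOddOrder G) (h : PR M K E U M' K' E' U') {x : G} (hx : x ∈ K) (hx1 : x ≠ 1) :
    M ⊓ centralizer ({x} : Set G) = K ⊔ K' := by
  apply le_antisymm
  · obtain ⟨p, hp, -, y, hy, hyo⟩ := exists_prime_pow hx1
    have hyc : Nat.card (zpowers y) = p := by rw [Nat.card_zpowers, hyo]
    have hyK : zpowers y ≤ K := zpowers_le.2 ((zpowers_le.2 hx) hy)
    rw [← h.e, ← h.h.b1 hyK (by rw [hyc]; exact hp)]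
    refine inf_le_inf_left _ ?_
    refine (cent_zp_le hy).trans ?_
    rw [← centralizer_zpowers]
    exact centralizer_le_normalizer _
  · refine le_inf h.md.le ?_
    haveI := h.Z_cyclic hG
    have h1 : K ⊔ K' ≤ centralizer ((K ⊔ K' : Subgroup G) : Set G) := le_centralizer _
    exact h1.trans (centralizer_le (Set.singleton_subset_iff.2 (mem_sup_left hx)))

theorem cent_mul_eq (hG : IsMinSimpleOddOrder G) (hC : Con13 G) (h : PR M K E U M' K' E' U') {x y : G} (hx : x ∈ K) (hx1 : x ≠ 1)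
    (hy : y ∈ K') (hy1 : y ≠ 1) : centralizer ({x * y} : Set G) = K ⊔ K' := by
  have hc : Commute x y := mem_centralizer_iff.1 (h.comm_le hy) x hx
  have hco : (orderOf x).Coprime (orderOf y) := by
    refine Nat.Coprime.coprime_dvd_left ?_ (Nat.Coprime.coprime_dvd_right ?_ h.coprime)
    · rw [← orderOf_mk x hx]; exact orderOf_dvd_natCard _
    · rw [← orderOf_mk y hy]; exact orderOf_dvd_natCard _
  obtain ⟨n, hn1, hn2⟩ := Nat.chineseRemainder hco 1 0
  have h3 : (x * y) ^ n = x := by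
    rw [hc.mul_pow]
    have e1 := pow_eq_pow_iff_modEq.2 hn1
    have e2 := pow_eq_pow_iff_modEq.2 hn2
    rw [e1, e2, pow_one, pow_zero, mul_one]
  have h4 : x ∈ zpowers (x * y) := by
    have := pow_mem (mem_zpowers (x * y)) n
    rwa [h3] at this
  have h5 : y ∈ zpowers (x * y) := by
    have := mul_mem (inv_mem h4) (mem_zpowers (x * y))
    simpa using this
  apply le_antisymm
  · rw [← h.cent_eq hG hx hx1]
    refine le_inf ((cent_zp_le h5).trans ?_) (cent_zp_le h4)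
    exact h.h.cent_le_M hC (by rw [h.e]; exact hy) hy1
  · haveI := h.Z_cyclic hG
    have h1 : K ⊔ K' ≤ centralizer ((K ⊔ K' : Subgroup G) : Set G) := le_centralizer _
    exact h1.trans (centralizer_le (Set.singleton_subset_iff.2 (mul_mem (mem_sup_left hx) (mem_sup_right hy))))

/-- `K'` is a Hall `sigma M`-subgroup of `M'` -/
theorem hall_sigma (hG : IsMinSimpleOddOrder G) (hC : Con13 G) (h : PR M K E U M' K' E' U') : IsPiHallOf (sigma M) K' M' := by
  refine ⟨h.h'.hKM, h.K'_sigma, ?_⟩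
  intro q hq hqσ hd
  have hqM' : q ∣ Nat.card M' := hd.trans (relIndex_dvd_card K' M')
  have hqκ : q ∉ kappa M' := fun hk => h.h'.hall.2.2 q hq hk hd
  have hqσ' : q ∉ sigma M' := h.hdis hC q hqσ
  haveI := Fact.mk hq
  have hqU : q ∣ Nat.card U' := (H12.Hall.dvd_iff hq h.h'.hUq ⟨hq, hqκ, hqσ'⟩).2 hqM'
  obtain ⟨Q, hQ⟩ := exists_isSylIn (p := q) U'
  have hQb : Q ≠ ⊥ := by
    rintro rfl
    apply hQ.not_dvd
    rwa [relIndex_bot_left]
  have hUn : Group.IsNilpotent U' := nilp_of_comm h.h'.comm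
  have hK'Q : K' ≤ normalizer (Q : Set G) := (normal_of_nilpotent_sylow h.h'.hUE h.h'.nU hUn hQ).trans' h.h'.hKE
  have h1 : Q ⊔ K' ≤ sigmaCore M := by
    refine h.h.f hG hC ?_ ?_
    · intro p hp hpd
      have h2 : H12.Core.PiNum (sigma M) (Nat.card ↥(K' ⊔ Q)) := H12.Core.piNum_sup hK'Q h.K'_sigma (by
        intro r hr hrd
        obtain ⟨n, hn⟩ := IsPGroup.iff_card.1 hQ.isPGroup
        rw [hn] at hrd
        rw [(Nat.prime_dvd_prime_iff_eq hr hq).1 (hr.dvd_of_dvd_pow hrd)]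
        exact hqσ)
      rw [sup_comm] at hpd
      exact h2 p hp hpd
    · rw [h.e]
      intro hb
      exact h.h'.ne (le_bot_iff.1 (hb ▸ le_inf le_sup_right le_rfl))
  have h2 : Q ≤ K ⊔ K' := by
    rw [← h.inf_eq hG hC]
    exact le_inf ((le_sup_left.trans h1).trans (sigmaCore_le M)) (hQ.le.trans h.h'.hUM)
  have h3 : Q ≤ st M K := fun x hx => h.md.mem_st (h2 hx) (fun p hp hpd => order_sigma (h1 (mem_sup_left hx)) hp hpd)
  rw [h.e] at h3
  apply hQb
  rw [eq_bot_iff, ← h.h'.hU.2.2.1]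
  exact le_inf h3 hQ.le

end PR

end Cfsg.Agent.H2.BG14
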