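import Mathlib
import Cfsg.Agent.H2_BG14j

/-! BG §14/§16: decompositions, rows S1351-S1354, S1366-S1368, S1430, S1431, S1434 in terms of `Con13` -/

set_option autoImplicit false
set_option linter.unusedSectionVars false

open Pointwise
open scoped commutatorElement

namespace Cfsg.Agent.H2.BG14

open Cfsg Subgroup H13.Syl H12.Loc H12.BG7 H12.BG10 H12.BG11 H12.BG12 H2.Con13

universe u

variable {G : Type u} [Group G] [Finite G]

theorem exists_KS' (hG : IsMinSimpleOddOrder G) (hC : Con13 G) {M K : Subgroup G} (hM : IsCoatom M) (hall : IsPiHallOf (kappa M) K M)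
    (hne : K ≠ ⊥) : ∃ E U : Subgroup G, KS M K E U := by
  obtain ⟨E, hKE, hE⟩ := exists_E hG hM hall.1 (kappa_sigmaC hall)
  obtain ⟨U, h⟩ := exists_KS hG hC hM hall hne hKE hE
  exact ⟨E, U, h⟩

theorem KS.decomp {M K E U : Subgroup G} (h : KS M K E U) (hc : IsCyclic K) : IsSigmaDecomposition M K U := by
  have hKn : K ≤ normalizer (sigmaCore M : Set G) := h.hKM.trans (le_normalizer_sigmaCore M)
  refine ⟨hc, h.hall, ⟨h.hUM, sup_le h.hKM (sigmaCore_le M), ?_, ?_⟩, h.hKE.trans h.nU⟩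
  · rw [eq_bot_iff]
    intro x hx
    obtain ⟨hxU, hx2⟩ := mem_inf.1 hx
    rw [sup_comm] at hx2
    obtain ⟨k, hk, s, hs, he⟩ := (H22.Basic.mem_sup_of_le_normalizer' hKn).1 hx2
    have hsE : s ∈ E := by
      have := mul_mem (inv_mem (h.hKE hk)) (h.hUE hxU)
      rw [← he] at this
      simpa using this
    have h1 : s ∈ E ⊓ sigmaCore M := mem_inf.2 ⟨hsE, hs⟩
    rw [h.hE.2.2.1, mem_bot] at h1
    rw [h1, mul_one] at he
    have h2 : x ∈ K ⊓ U := mem_inf.2 ⟨he ▸ hk, hxU⟩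
    rw [h.hU.2.2.1] at h2
    exact h2
  · intro m hm
    obtain ⟨e, he, s, hs, rfl⟩ := h.hE.2.2.2 m hm
    obtain ⟨k, hk, u, hu, rfl⟩ := h.hU.2.2.2 e he
    refine ⟨k * u * k⁻¹, (mem_normalizer_iff.1 (h.nU (h.hKE hk)) u).1 hu, k * s, mul_mem (mem_sup_left hk) (mem_sup_right hs), by group⟩

theorem decomp_E (hG : IsMinSimpleOddOrder G) {M K U : Subgroup G} (h : IsSigmaDecomposition M K U) :
    IsComplIn (U ⊔ K) (sigmaCore M) M := by
  have hKM : K ≤ M := h.hall.1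
  have hKS : sigmaCore M ⊓ K = ⊥ := (kappa_sigmaC h.hall).inf_eq_bot
  refine ⟨sup_le h.compl.1 hKM, sigmaCore_le M, ?_, ?_⟩
  · rw [eq_bot_iff]
    intro x hx
    obtain ⟨hx1, hx2⟩ := mem_inf.1 hx
    obtain ⟨u, hu, k, hk, he⟩ := (H22.Basic.mem_sup_of_le_normalizer h.normal).1 hx1
    have h1 : u ∈ K ⊔ sigmaCore M := by
      have := mul_mem (mem_sup_right hx2 : x ∈ K ⊔ sigmaCore M) (inv_mem (mem_sup_left hk : k ∈ K ⊔ sigmaCore M))
      rw [← he] at this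
      simpa using this
    have h2 : u ∈ U ⊓ (K ⊔ sigmaCore M) := mem_inf.2 ⟨hu, h1⟩
    rw [h.compl.2.2.1, mem_bot] at h2
    rw [h2, one_mul] at he
    have h3 : x ∈ sigmaCore M ⊓ K := mem_inf.2 ⟨hx2, he ▸ hk⟩
    rw [hKS] at h3
    exact h3
  · intro m hm
    obtain ⟨u, hu, c, hc, rfl⟩ := h.compl.2.2.2 m hm
    have hKn : K ≤ normalizer (sigmaCore M : Set G) := hKM.trans (le_normalizer_sigmaCore M)
    rw [sup_comm] at hc
    obtain ⟨k, hk, s, hs, rfl⟩ := (H22.Basic.mem_sup_of_le_normalizer' hKn).1 hc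
    exact ⟨u * k, mul_mem (mem_sup_left hu) (mem_sup_right hk), s, hs, by group⟩

theorem decomp_card (hG : IsMinSimpleOddOrder G) {M K U : Subgroup G} (h : IsSigmaDecomposition M K U) :
    Nat.card U * (Nat.card K * Nat.card (sigmaCore M)) = Nat.card M := by
  have h1 := H12.Core.IsComplIn_card h.compl
  have hKS : sigmaCore M ⊓ K = ⊥ := (kappa_sigmaC h.hall).inf_eq_bot
  have hKn : K ≤ normalizer (sigmaCore M : Set G) := h.hall.1.trans (le_normalizer_sigmaCore M)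
  have h2 := H22.Basic.card_sup_of_inf_eq_bot hKn hKS
  rw [← h1, sup_comm, h2, mul_comm (Nat.card K)]

theorem KS_of_decomp (hG : IsMinSimpleOddOrder G) (hC : Con13 G) {M K U : Subgroup G} (hM : IsCoatom M) (h : IsSigmaDecomposition M K U)
    (hK : K ≠ ⊥) : KS M K (U ⊔ K) U := by
  have hE := decomp_E hG h
  obtain ⟨U₁, h₁⟩ := exists_KS hG hC hM h.hall hK le_sup_right hE
  have hc1 := decomp_card hG h
  have hc2 := decomp_card hG (h₁.decomp h.cyclic)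
  have hcard : Nat.card U = Nat.card U₁ := by
    rw [← hc2] at hc1
    exact Nat.eq_of_mul_eq_mul_right (Nat.mul_pos Nat.card_pos Nat.card_pos) hc1
  have hU₁E : IsPiHallOf {q | q.Prime ∧ q ∉ kappa M ∧ q ∉ sigma M} U₁ (U ⊔ K) := H12.Hall.mono h₁.hUq h₁.hUE h₁.hEM
  have hUE : IsPiHallOf {q | q.Prime ∧ q ∉ kappa M ∧ q ∉ sigma M} U (U ⊔ K) := H12.Hall.of_card hU₁E le_sup_left hcard
  have : U = U₁ := H12.Hall.eq_of_normal hU₁E h₁.nU hUE
  subst this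
  exact h₁

/-- for `K = ⊥`, `U` is a complement of `M_sigma` -/
theorem decomp_bot {M U : Subgroup G} (h : IsSigmaDecomposition M ⊥ U) : IsComplIn U (sigmaCore M) M := by
  have := h.compl
  rwa [bot_sup_eq] at this

theorem kappa_empty (hG : IsMinSimpleOddOrder G) {M : Subgroup G} (h : IsPiHallOf (kappa M) ⊥ M) : kappa M = ∅ := by
  rw [Set.eq_empty_iff_forall_notMem]
  intro p hp
  obtain ⟨hpp, hpd, -⟩ := kappa_spec hG hp
  have := (H12.Hall.dvd_iff hpp h hp).2 hpd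
  rw [card_bot] at this
  exact hpp.one_lt.ne' (Nat.dvd_one.1 this)

theorem K_cyc (hG : IsMinSimpleOddOrder G) (hC : Con13 G) {M K : Subgroup G} (hM : IsCoatom M) (hall : IsPiHallOf (kappa M) K M) : IsCyclic K := by
  by_cases hK : K = ⊥
  · subst hK; infer_instance
  · obtain ⟨E, U, h⟩ := exists_KS' hG hC hM hall hK
    obtain ⟨H, E', U', h'⟩ := h.exists_PR' hG hC
    exact (h'.K_cyclic hG).1

theorem s1351 (hG : IsMinSimpleOddOrder G) (hC : Con13 G) (M : Subgroup G) (hM : IsCoatom M) :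
    (∃ K : Subgroup G, Cfsg.IsPiHallOf (Cfsg.kappa M) K M) ∧
      ∀ K : Subgroup G, Cfsg.IsPiHallOf (Cfsg.kappa M) K M → IsCyclic K :=
  ⟨H12.Hall.exists_hall (solvable_of_ne_top hG hM.1) _, fun _ h => K_cyc hG hC hM h⟩

theorem norm_US (hG : IsMinSimpleOddOrder G) (hC : Con13 G) {M K U : Subgroup G} (hM : IsCoatom M) (h : IsSigmaDecomposition M K U) :
    M ≤ normalizer ((U ⊔ sigmaCore M : Subgroup G) : Set G) := by
  by_cases hK : K = ⊥
  · subst hK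
    have := H12.Hall.compl_sup (decomp_bot h)
    rw [this]
    exact le_normalizer
  · have hk := KS_of_decomp hG hC hM h hK
    have hn : M ≤ normalizer (sigmaCore M : Set G) := le_normalizer_sigmaCore M
    intro m hm
    obtain ⟨e, he, s, hs, rfl⟩ := hk.hE.2.2.2 m hm
    refine mul_mem ?_ (le_normalizer (mem_sup_right hs))
    rw [mem_normalizer_iff_cj, cj_sup, cj_eq_of_mem_normalizer (hk.nU he), cj_eq_of_mem_normalizer (hn (hk.hEM he))]

theorem s1352 (hG : IsMinSimpleOddOrder G) (hC : Con13 G) (M : Subgroup G) (hM : IsCoatom M) (K : Subgroup G)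
    (hKc : IsCyclic K) (hK : Cfsg.IsPiHallOf (Cfsg.kappa M) K M) :
    (∃ U : Subgroup G, Cfsg.IsSigmaDecomposition M K U) ∧
      ∀ U : Subgroup G, Cfsg.IsSigmaDecomposition M K U → M ≤ Subgroup.normalizer ((U ⊔ Cfsg.sigmaCore M : Subgroup G) : Set G) := by
  refine ⟨?_, fun U hU => norm_US hG hC hM hU⟩
  by_cases hK1 : K = ⊥
  · subst hK1
    obtain ⟨E, -, hE⟩ := exists_E hG hM (K := ⊥) bot_le (kappa_sigmaC hK)
    exact ⟨E, hKc, hK, by rwa [bot_sup_eq], bot_le⟩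
  · obtain ⟨E, U, h⟩ := exists_KS' hG hC hM hK hK1
    exact ⟨U, h.decomp hKc⟩

theorem s1353 (hG : IsMinSimpleOddOrder G) (hC : Con13 G) (M : Subgroup G) (hM : IsCoatom M) (K U : Subgroup G) (hKU : Cfsg.IsSigmaDecomposition M K U) :
    ∀ k ∈ K, k ≠ 1 → U ⊓ Subgroup.centralizer ({k} : Set G) = ⊥ := by
  intro k hk hk1
  have hK : K ≠ ⊥ := by
    rintro rfl
    exact hk1 (mem_bot.1 hk)
  exact (KS_of_decomp hG hC hM hKU hK).free k hk hk1

theorem s1354 (hG : IsMinSimpleOddOrder G) (hC : Con13 G) (M : Subgroup G) (hM : IsCoatom M) (K : Subgroup G)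
    (hKc : IsCyclic K) (hK : Cfsg.IsPiHallOf (Cfsg.kappa M) K M) :
    Cfsg.sigmaCore M ⊓ Subgroup.centralizer (K : Set G) ≠ ⊥ ∧
      (K ≠ ⊥ → ∀ k ∈ K, k ≠ 1 →
        M ⊓ Subgroup.centralizer ({k} : Set G) = K ⊔ (Cfsg.sigmaCore M ⊓ Subgroup.centralizer (K : Set G))) := by
  by_cases hK1 : K = ⊥
  · refine ⟨?_, fun h => absurd hK1 h⟩
    have : sigmaCore M ⊓ centralizer (K : Set G) = sigmaCore M := by
      rw [inf_eq_left]
      intro x _
      rw [mem_centralizer_iff]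
      intro k hk
      rw [hK1] at hk
      rw [mem_bot.1 hk, one_mul, mul_one]
    rw [this]
    exact sigmaCore_ne_bot hG hM
  · obtain ⟨E, U, h⟩ := exists_KS' hG hC hM hK hK1
    obtain ⟨H, E', U', h'⟩ := h.exists_PR' hG hC
    exact ⟨h.neS, fun _ k hk hk1 => h'.cent_eq hG hk hk1⟩

theorem s1366 (hG : IsMinSimpleOddOrder G) (hC : Con13 G)
    (M : Subgroup G) (hM : IsCoatom M) (K U : Subgroup G) (hKU : Cfsg.IsSigmaDecomposition M K U) (hK1 : K ≠ ⊥) :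
    ∃! Mstar : Subgroup G, IsCoatom Mstar ∧ K = Cfsg.sigmaCore Mstar ⊓ Subgroup.centralizer ((Cfsg.sigmaCore M ⊓ Subgroup.centralizer (K : Set G)) : Set G) ∧
        Cfsg.IsPiHallOf (Cfsg.kappa Mstar) (Cfsg.sigmaCore M ⊓ Subgroup.centralizer (K : Set G)) Mstar := by
  have h := KS_of_decomp hG hC hM hKU hK1
  obtain ⟨H, E', U', h'⟩ := h.exists_PR' hG hC
  refine ⟨H, ⟨h'.h'.co, h'.e'.symm, h'.h'.hall⟩, ?_⟩
  rintro H' ⟨h1, h2, h3⟩
  exact h.partner_unique hG hC h1 h'.h'.co h2 h'.e'.symm h3 h'.h'.hall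

theorem PR_of (hG : IsMinSimpleOddOrder G) (hC : Con13 G)
    {M : Subgroup G} (hM : IsCoatom M) {K U : Subgroup G} (hKU : Cfsg.IsSigmaDecomposition M K U) (hK1 : K ≠ ⊥) {Mstar : Subgroup G} (hMstar : IsCoatom Mstar)
    (hKst : K = Cfsg.sigmaCore Mstar ⊓ Subgroup.centralizer ((Cfsg.sigmaCore M ⊓ Subgroup.centralizer (K : Set G)) : Set G))
    (hKstH : Cfsg.IsPiHallOf (Cfsg.kappa Mstar) (Cfsg.sigmaCore M ⊓ Subgroup.centralizer (K : Set G)) Mstar) :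
    ∃ E' U' : Subgroup G, PR M K (U ⊔ K) U Mstar (st M K) E' U' :=
  (KS_of_decomp hG hC hM hKU hK1).exists_PR_of hG hC hMstar hKst hKstH

theorem s1367 (hG : IsMinSimpleOddOrder G) (hC : Con13 G)
    (M : Subgroup G) (hM : IsCoatom M) (K U : Subgroup G) (hKU : Cfsg.IsSigmaDecomposition M K U) (hK1 : K ≠ ⊥) (Mstar : Subgroup G) (hMstar : IsCoatom Mstar)
    (hKst : K = Cfsg.sigmaCore Mstar ⊓ Subgroup.centralizer ((Cfsg.sigmaCore M ⊓ Subgroup.centralizer (K : Set G)) : Set G))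
    (hKstH : Cfsg.IsPiHallOf (Cfsg.kappa Mstar) (Cfsg.sigmaCore M ⊓ Subgroup.centralizer (K : Set G)) Mstar) :
    (∀ X : Subgroup G, X ≤ (Cfsg.sigmaCore M ⊓ Subgroup.centralizer (K : Set G)) → (Nat.card X).Prime →
        Subgroup.centralizer (X : Set G) ≤ M ∧ ∀ L : Subgroup G, IsCoatom L → Subgroup.centralizer (X : Set G) ≤ L → L = M) ∧
      (∀ Y : Subgroup G, Y ≤ K → (Nat.card Y).Prime →
        Subgroup.centralizer (Y : Set G) ≤ Mstar ∧ ∀ L : Subgroup G, IsCoatom L → Subgroup.centralizer (Y : Set G) ≤ L → L = Mstar) := by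
  obtain ⟨E', U', h⟩ := PR_of hG hC hM hKU hK1 hMstar hKst hKstH
  refine ⟨fun X hX hXp => h.h.c hC hX hXp, fun Y hY hYp => h.h'.c hC (by rw [h.e']; exact hY) hYp⟩

theorem s1368 (hG : IsMinSimpleOddOrder G) (hC : Con13 G)
    (M : Subgroup G) (hM : IsCoatom M) (K U : Subgroup G) (hKU : Cfsg.IsSigmaDecomposition M K U) (hK1 : K ≠ ⊥) (Mstar : Subgroup G) (hMstar : IsCoatom Mstar)
    (hKst : K = Cfsg.sigmaCore Mstar ⊓ Subgroup.centralizer ((Cfsg.sigmaCore M ⊓ Subgroup.centralizer (K : Set G)) : Set G))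
    (hKstH : Cfsg.IsPiHallOf (Cfsg.kappa Mstar) (Cfsg.sigmaCore M ⊓ Subgroup.centralizer (K : Set G)) Mstar) :
    M ⊓ Mstar = K ⊔ (Cfsg.sigmaCore M ⊓ Subgroup.centralizer (K : Set G)) ∧ IsCyclic ↥(K ⊔ (Cfsg.sigmaCore M ⊓ Subgroup.centralizer (K : Set G))) := by
  obtain ⟨E', U', h⟩ := PR_of hG hC hM hKU hK1 hMstar hKst hKstH
  exact ⟨h.inf_eq hG hC, h.Z_cyclic hG⟩

theorem s1430 (hG : IsMinSimpleOddOrder G) (hC : Con13 G)
    (M : Subgroup G) (hM : IsCoatom M) (K : Subgroup G) (hK : Cfsg.IsPiHallOf (Cfsg.kappa M) K M) (hK1 : K ≠ ⊥) :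
    (∀ k ∈ K, k ≠ 1 → Cfsg.sigmaCore M ⊓ Subgroup.centralizer ({k} : Set G) = (Cfsg.sigmaCore M ⊓ Subgroup.centralizer (K : Set G))) ∧
      (∃ U : Subgroup G, IsMulCommutative U ∧ Cfsg.IsPiHallOf {q | q.Prime ∧ q ∉ Cfsg.kappa M ∧ q ∉ Cfsg.sigma M} U M ∧
        K ≤ Subgroup.normalizer (U : Set G) ∧ ∀ k ∈ K, k ≠ 1 → U ⊓ Subgroup.centralizer ({k} : Set G) = ⊥) ∧
      ∀ X : Subgroup G, X ≤ K → (Nat.card X).Prime →
        M ⊓ Subgroup.normalizer (X : Set G) = K ⊔ (Cfsg.sigmaCore M ⊓ Subgroup.centralizer (K : Set G)) ∧ M ⊓ Subgroup.normalizer (K : Set G) = K ⊔ (Cfsg.sigmaCore M ⊓ Subgroup.centralizer (K : Set G)) ∧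
        ∀ Mstar : Subgroup G, IsCoatom Mstar → Subgroup.normalizer (X : Set G) ≤ Mstar → X ≤ Cfsg.sigmaCore Mstar := by
  obtain ⟨E, U, h⟩ := exists_KS' hG hC hM hK hK1
  exact ⟨h.prime, ⟨U, h.comm, h.hUq, h.hKE.trans h.nU, h.free⟩, fun X hX hXp => ⟨h.b1 hX hXp, h.normK, fun Mstar hMs hN => (h.b2 hG hC hX hXp hMs hN).2⟩⟩

theorem s1431 (hG : IsMinSimpleOddOrder G) (hC : Con13 G)
    (M : Subgroup G) (hM : IsCoatom M) (K : Subgroup G) (hK : Cfsg.IsPiHallOf (Cfsg.kappa M) K M) (hK1 : K ≠ ⊥) :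
    (∀ g : G, g ∉ M → (Cfsg.sigmaCore M ⊓ Subgroup.centralizer (K : Set G)) ⊓ M.map (MulAut.conj g).toMonoidHom = ⊥) ∧
      (∀ g ∈ M, g ∉ K ⊔ (Cfsg.sigmaCore M ⊓ Subgroup.centralizer (K : Set G)) → K ⊓ K.map (MulAut.conj g).toMonoidHom = ⊥) ∧
      (∀ (p : ℕ), p.Prime → p ∣ Nat.card ↥(Cfsg.sigmaCore M ⊓ Subgroup.centralizer (K : Set G)) → ∀ S : Sylow p ↥(Cfsg.sigmaCore M),
        Cfsg.InUniqueMaximal ((S : Subgroup ↥(Cfsg.sigmaCore M)).map (Cfsg.sigmaCore M).subtype) ∧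
        (S : Subgroup ↥(Cfsg.sigmaCore M)).map (Cfsg.sigmaCore M).subtype ≤ M ∧
        ¬ (S : Subgroup ↥(Cfsg.sigmaCore M)).map (Cfsg.sigmaCore M).subtype ≤ (Cfsg.sigmaCore M ⊓ Subgroup.centralizer (K : Set G))) ∧
      ∀ Y : Subgroup G, (∀ p : ℕ, p.Prime → p ∣ Nat.card Y → p ∈ Cfsg.sigma M) → Y ⊓ (Cfsg.sigmaCore M ⊓ Subgroup.centralizer (K : Set G)) ≠ ⊥ → Y ≤ Cfsg.sigmaCore M := by
  obtain ⟨E, U, h⟩ := exists_KS' hG hC hM hK hK1
  refine ⟨fun g hg => h.d1 hG hC hg, fun g hgM hg => h.d2 hG hgM hg, ?_, fun Y hY hne => h.f hG hC hY hne⟩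
  intro p hp hd S
  haveI := Fact.mk hp
  have hS := isSylIn_map_subtype S
  have hu := h.e1 hC hp hd hS
  refine ⟨⟨M, ⟨hM, hu.1⟩, fun L hL => hu.2 L hL.1 hL.2⟩, hu.1, h.e2 hG hC hS ?_⟩
  intro hb
  have hdσ : p ∣ Nat.card (sigmaCore M) := hd.trans (card_dvd_of_le inf_le_left)
  apply hS.not_dvd
  rw [hb, relIndex_bot_left]
  exact hdσ

end Cfsg.Agent.H2.BG14
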