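import Mathlib
import Cfsg.Agent.H12_BG15b
import Cfsg.Agent.H12_Con13
import Cfsg.Agent.H2_BG14k

/-! BG 15.2 -/

set_option autoImplicit false
set_option linter.unusedSectionVars false
set_option linter.style.haveILetI false

open Pointwise
open scoped commutatorElement

namespace Cfsg.Agent.H12.BG15

open Cfsg Subgroup H13.Syl H12.Loc H12.Trans H12.BG7 H12.Puig H12.BG9 H12.BG10 H12.BG11 H12.BG12
open H12.BG13 H2.BG14

universe u

variable {G : Type u} [Group G] [Finite G]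

/-- if `M_σ` is not nilpotent then all primes outside `σ(M)` lie in `κ(M)` -/
theorem kappa_of_nn (hG : IsMinSimpleOddOrder G) {M : Subgroup G} (hM : IsCoatom M)
    (hnn : ¬ Group.IsNilpotent (sigmaCore M)) {p : ℕ} (hp : p.Prime) (hd : p ∣ Nat.card M)
    (hσ : p ∉ sigma M) : p ∈ kappa M := by
  haveI := Fact.mk hp
  by_contra hk
  obtain ⟨S, hS⟩ := exists_isSylIn (p := p) M
  obtain ⟨A, -, -, -, -, -, -, h⟩ := thm141 hG hM hd hσ hk hS
  exact hnn h

theorem U_bot_of_nn (hG : IsMinSimpleOddOrder G) {M K E U : Subgroup G} (h : KS M K E U)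
    (hnn : ¬ Group.IsNilpotent (sigmaCore M)) : U = ⊥ := by
  by_contra hU
  obtain ⟨p, hp, x, hx, hxo, hd⟩ := exists_prime_elt hU
  have h1 := h.hUq.2.1 p hp hd
  exact h1.2.1 (kappa_of_nn hG h.co hnn hp (hd.trans (card_dvd_of_le h.hUM)) h1.2.2)

theorem K_ne_of_nn (hG : IsMinSimpleOddOrder G) {M K : Subgroup G} (hM : IsCoatom M)
    (hall : IsPiHallOf (kappa M) K M) (hnn : ¬ Group.IsNilpotent (sigmaCore M)) : K ≠ ⊥ := by
  rintro rfl
  obtain ⟨q, hq, hd, hσ⟩ := exists_not_sigma hG hM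
  have h1 := kappa_of_nn hG hM hnn hq hd hσ
  rw [kappa_empty hG hall] at h1
  exact h1

theorem E_eq_of_bot {K E : Subgroup G} (h : IsComplIn K ⊥ E) : E = K := by
  apply le_antisymm _ h.1
  intro e he
  obtain ⟨k, hk, u, hu, rfl⟩ := h.2.2.2 e he
  rw [mem_bot.1 hu, mul_one]
  exact hk

theorem nilp_of_sup {Q D L : Subgroup G} (hL : Q ⊔ D = L) (hQ : Group.IsNilpotent Q)
    (hD : Group.IsNilpotent D) (hc : D ≤ centralizer (Q : Set G)) : Group.IsNilpotent L := by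
  have hQL : Q ≤ L := hL ▸ le_sup_left
  have hDL : D ≤ L := hL ▸ le_sup_right
  have n1 : L ≤ normalizer (Q : Set G) := by
    rw [← hL]
    exact sup_le le_normalizer (hc.trans (centralizer_le_normalizer _))
  have n2 : L ≤ normalizer (D : Set G) := by
    rw [← hL]
    exact sup_le ((le_centralizer_iff.1 hc).trans (centralizer_le_normalizer _)) le_normalizer
  have h1 : L ≤ fittingOf L := by
    conv_lhs => rw [← hL]
    exact sup_le (Core.le_fittingOf hQL n1 hQ) (Core.le_fittingOf hDL n2 hD)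
  exact nilp_mono h1 (Core.fittingOf_isNilpotent L)

/-- a fixed-point-free element of prime order on `N/Z` -/
theorem nilp_bar {N Z : Subgroup G} {p : ℕ} (hp : p.Prime) {x : G} (hx : x ^ p = 1)
    (hZN : Z ≤ N) (hNZ : N ≤ normalizer (Z : Set G)) (hxN : x ∈ normalizer (N : Set G))
    (hxZ : x ∈ normalizer (Z : Set G)) (hZs : Group.IsSolvable Z) (hpZ : ¬ p ∣ Nat.card Z)
    (hfix : N ⊓ centralizer ({x} : Set G) ≤ Z) : Group.IsNilpotent (bar Z N) := by
  have hzx : zpowers x ≤ normalizer (Z : Set G) := by rwa [zpowers_le]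
  have hcop : (Nat.card (zpowers x)).Coprime (Nat.card Z) := by
    rw [Nat.card_zpowers]
    exact Nat.Coprime.coprime_dvd_left (orderOf_dvd_of_pow_eq_one hx)
      ((Nat.Prime.coprime_iff_not_dvd hp).2 hpZ)
  refine nilpotent_of_fpf hp (σ := bq Z x hxZ) ?_ ?_ ?_
  · have h1 : bq Z x hxZ ^ p = bq Z (x ^ p) (pow_mem hxZ p) := rfl
    rw [h1, bq_eq_one, hx]
    exact one_mem _
  · have h1 : x ∈ (zpowers x : Subgroup G) := mem_zpowers x
    have h2 := bar_normalizer (Z := Z) (A := zpowers x) (B := N) (by rwa [zpowers_le])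
    exact h2 (bq_mem h1 hxZ)
  · rw [eq_bot_iff]
    intro y hy
    obtain ⟨hy1, hy2⟩ := mem_inf.1 hy
    obtain ⟨m, hm, hmZ, rfl⟩ := mem_bar.1 hy1
    have h1 := mem_centralizer_iff.1 hy2 _ rfl
    rw [bq_comm_iff] at h1
    obtain ⟨d, hd, hdc⟩ := H1.Coprime.exists_mul_mem_centralizer (A := zpowers x) (D := Z) hzx hcop
      (Or.inr hZs) m (by
        refine Sect.fix_zpowers hxZ ?_
        have h2 : m⁻¹ * (x * m * x⁻¹) = m⁻¹ * (x * m * x⁻¹ * m⁻¹) * m⁻¹⁻¹ := by group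
        rw [h2]
        exact (mem_normalizer_iff.1 (inv_mem hmZ) _).1 h1)
    rw [centralizer_zpowers] at hdc
    have h3 : m * d ∈ Z := hfix ⟨mul_mem hm (hZN hd), hdc⟩
    have h4 : m = (m * d) * d⁻¹ := by group
    rw [mem_bot, bq_eq_one, h4]
    exact mul_mem h3 (inv_mem hd)

/-- if `N/Z` is nilpotent then Sylow subgroups of `N` containing `Z` are normal in `N` -/
theorem sylow_normal_of_bar {N Z S : Subgroup G} {q : ℕ} [hq : Fact q.Prime] (hZS : Z ≤ S)
    (hNZ : N ≤ normalizer (Z : Set G)) (hnil : Group.IsNilpotent (bar Z N)) (hS : IsSylIn q S N) :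
    N ≤ normalizer (S : Set G) := by
  have h1 : IsSylIn q (bar Z S) (bar Z N) := by
    refine ⟨bar_mono hS.le, ?_, ?_⟩
    · exact ((hS.isPGroup.comap_of_injective (normalizer (Z : Set G)).subtype
        Subtype.coe_injective)).map _
    · intro hd
      apply hS.not_dvd
      have h2 := H12.Hall.relIndex_map_dvd' (QuotientGroup.mk' (Z.subgroupOf
        (normalizer (Z : Set G)))) (subgroupOf_mono (normalizer (Z : Set G)) hS.le)
      rw [relIndex_subgroupOf hNZ] at h2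
      exact hd.trans h2
  have h2 := nilp_sylow_normal hnil h1
  intro n hn
  apply H22.Basic.mem_normalizer_of_cj_le
  show cj n _ ≤ _
  rw [cj_le_iff_forall]
  intro s hs
  have hsZ : s ∈ normalizer (Z : Set G) := hNZ (hS.le hs)
  have h3 := (mem_normalizer_iff.1 (h2 (bq_mem hn (hNZ hn))) (bq Z s hsZ)).1 (bq_mem hs hsZ)
  rw [bq_mul, bq_inv, bq_mul] at h3
  obtain ⟨s', hs', hs'Z, he⟩ := mem_bar.1 h3
  rw [bq_eq_iff] at he
  have h4 : n * s * n⁻¹ = (s' * (n * s * n⁻¹)⁻¹)⁻¹ * s' := by group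
  rw [h4]
  exact mul_mem (inv_mem (hZS he)) hs'

/-- the data of BG 15.2 -/
structure NS (M K Q D : Subgroup G) (q : ℕ) : Prop where
  qp : q.Prime
  st : Nat.card ↥(sigmaCore M ⊓ centralizer (K : Set G)) = q
  qσ : q ∈ sigma M
  qβ : q ∈ beta M
  Kp : (Nat.card K).Prime
  SQ : IsSylIn q Q (sigmaCore M)
  MQ : M ≤ normalizer (Q : Set G)
  HD : IsPiHallOf {q}ᶜ D (sigmaCore M)
  KD : K ≤ normalizer (D : Set G)
  Dn : Group.IsNilpotent D
  qdk : QDK q Q D K
  MK : sigmaCore M ⊔ K = M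

theorem thm152 (hG : IsMinSimpleOddOrder G) {M K E U : Subgroup G} (h : KS M K E U)
    (hnn : ¬ Group.IsNilpotent (sigmaCore M)) :
    U = ⊥ ∧ ∃ (q : ℕ) (Q D : Subgroup G), NS M K Q D q := by
  have hC := con13 hG
  have hM := h.co
  have hU := U_bot_of_nn hG h hnn
  subst hU
  refine ⟨rfl, ?_⟩
  have hEK : E = K := E_eq_of_bot h.hU
  subst hEK
  -- partner
  obtain ⟨H, E', U', pr⟩ := h.exists_PR' hG hC
  have hU' : U' ≠ ⊥ := pr.u.resolve_left (fun h => h rfl)
  have hqp : (Nat.card (H2.BG14.st M E)).Prime := (pr.h'.g hG hU').2.1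
  set q := Nat.card (H2.BG14.st M E) with hqdef
  haveI : Fact q.Prime := ⟨hqp⟩
  have hstσ : H2.BG14.st M E ≤ sigmaCore M := inf_le_left
  have hqσ : q ∈ sigma M := H12.BG13.sigmaCore_pi M q hqp (card_dvd_of_le hstσ)
  have hsσ := isSolvable_sigmaCore hG hM
  have hKn : E ≤ normalizer (sigmaCore M : Set G) := h.hEM.trans (le_normalizer_sigmaCore M)
  have hsc : SigmaC M E := kappa_sigmaC h.hall
  have hcop : (Nat.card (sigmaCore M)).Coprime (Nat.card E) := hsc.coprime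
  -- `F(M_σ) ∩ C(K) ≠ 1`
  have hFst : fittingOf (sigmaCore M) ⊓ centralizer (E : Set G) ≠ ⊥ := by
    intro hb
    have h1 := BG38.thm38 (K := sigmaCore M) (R := E) hG.1 hsσ hKn hcop
      (by
        intro x hx hx1
        rw [h.prime x hx hx1]
        exact inf_le_right) hb
    rw [(thm1217a hG hM h.hE).1] at h1
    exact hnn (nilp_mono h1 (Core.fittingOf_isNilpotent _))
  have hstF : H2.BG14.st M E ≤ fittingOf (sigmaCore M) := by
    have h1 : fittingOf (sigmaCore M) ⊓ centralizer (E : Set G) ≤ H2.BG14.st M E :=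
      inf_le_inf_right _ (Core.fittingOf_le _)
    have h2 : Nat.card ↥(fittingOf (sigmaCore M) ⊓ centralizer (E : Set G)) = q := by
      have h3 := card_dvd_of_le h1
      refine ((Nat.dvd_prime hqp).1 h3).resolve_left fun h4 => hFst ?_
      rwa [Subgroup.card_eq_one] at h4
    have h5 : fittingOf (sigmaCore M) ⊓ centralizer (E : Set G) = H2.BG14.st M E :=
      H22.Basic.eq_of_le_of_card_le h1 (by rw [h2])
    rw [← h5]
    exact inf_le_left
  have hstp : IsPGroup q (H2.BG14.st M E) := pgroup_of_card rfl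
  set Q := Oq q (sigmaCore M) with hQ
  have hstQ : H2.BG14.st M E ≤ Q := le_Oq_of_le_fittingOf hqp hstF hstp
  have hQσ : Q ≤ sigmaCore M := Oq_le q _
  have hQp : IsPGroup q Q := Oq_isPGroup hqp _
  have hMQ : M ≤ normalizer (Q : Set G) :=
    (le_normalizer_sigmaCore M).trans (Core.normalizer_le_normalizer_piCoreOf _ _)
  have hQs : Group.IsSolvable Q := by
    haveI := hQp.isNilpotent
    infer_instance
  -- an element of prime order in `K`
  obtain ⟨p, hp, x, hx, hxo, hd⟩ := exists_prime_elt h.ne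
  have hx1 := orderOf_ne hp hxo
  have hxp : x ^ p = 1 := by rw [← hxo]; exact pow_orderOf_eq_one x
  have hpσ : ¬ p ∣ Nat.card (sigmaCore M) := fun hh =>
    Nat.not_coprime_of_dvd_of_dvd hp.one_lt hh hd hcop
  have hfixx : sigmaCore M ⊓ centralizer ({x} : Set G) ≤ Q := by
    rw [h.prime x hx hx1]
    exact hstQ
  have hnilbar : Group.IsNilpotent (bar Q (sigmaCore M)) :=
    nilp_bar hp hxp hQσ ((sigmaCore_le M).trans hMQ) (hKn hx) (hMQ (h.hEM hx)) hQs
      (fun hh => hpσ (hh.trans (card_dvd_of_le hQσ))) hfixx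
  -- `Q` is a Sylow subgroup
  obtain ⟨S, hQS, hS⟩ := exists_isSylIn_ge hQp hQσ
  have hSn : sigmaCore M ≤ normalizer (S : Set G) :=
    sylow_normal_of_bar hQS ((sigmaCore_le M).trans hMQ) hnilbar hS
  have hSQ : S = Q := le_antisymm (le_Oq hqp hS.le hSn hS.isPGroup) hQS
  rw [hSQ] at hS hSn
  -- `D`
  obtain ⟨D, hD, hKD⟩ := H12.Hall.inv_exists (A := E) (K := sigmaCore M) hKn hcop.symm hsσ {q}ᶜ
  have hDσ : D ≤ sigmaCore M := hD.1
  have hDq : (Nat.card D).Coprime q := (Core.piNum_singleton_compl hqp).1 hD.2.1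
  have hcDS : (Nat.card D).Coprime (Nat.card Q) := by
    obtain ⟨n, hn⟩ := IsPGroup.iff_card.1 hS.isPGroup
    rw [hn]
    exact Nat.Coprime.pow_right _ hDq
  have hDS : D ⊓ Q = ⊥ := H22.Basic.inf_eq_bot_of_coprime hcDS
  have hfrob : ∀ k ∈ E, k ≠ 1 → ∀ d ∈ D, d * k = k * d → d = 1 := by
    intro k hk hk1 d hd hdk
    have h1 : d ∈ sigmaCore M ⊓ centralizer ({k} : Set G) :=
      ⟨hDσ hd, mem_centralizer_singleton_iff.2 hdk⟩
    rw [h.prime k hk hk1] at h1
    have h2 : d ∈ D ⊓ Q := ⟨hd, hstQ h1⟩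
    rw [hDS] at h2
    exact mem_bot.1 h2
  have hDn : Group.IsNilpotent D := by
    refine nilpotent_of_fpf hp hxp (hKD hx) ?_
    rw [eq_bot_iff]
    intro d hd
    rw [mem_bot]
    exact hfrob x hx hx1 d (mem_inf.1 hd).1 (mem_centralizer_singleton_iff.1 (mem_inf.1 hd).2)
  have hSD : Q ⊔ D = sigmaCore M := by
    have h1 : IsPiHallOf {q} Q (sigmaCore M) := by
      refine ⟨hS.le, (Core.isPGroup_iff_piNum hqp).1 hS.isPGroup, ?_⟩
      intro r hr hrq
      rw [Set.mem_singleton_iff] at hrq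
      subst hrq
      exact hS.not_dvd
    have h2 := H12.Hall.sup_eq h1 hD hSn
    rwa [sup_comm] at h2
  have hnc : ¬ D ≤ centralizer (Q : Set G) := fun hc =>
    hnn (nilp_of_sup hSD hS.isPGroup.isNilpotent hDn hc)
  have hDM : D ≤ M := hDσ.trans (sigmaCore_le M)
  have hqdk : QDK q Q D E :=
    { odd := hG.1
      Qp := hS.isPGroup
      DQ := hDM.trans hMQ
      KQ := h.hEM.trans hMQ
      KD := hKD
      K1 := h.ne
      frob := hfrob
      cD := hcDS
      cK := (Nat.Coprime.coprime_dvd_left (card_dvd_of_le hQσ) hcop).symm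
      cDK := Nat.Coprime.coprime_dvd_left (card_dvd_of_le hDσ) hcop
      sol := solv_le hG hM (sup_le hDM h.hEM)
      st := by
        have h1 : Q ⊓ centralizer (E : Set G) = H2.BG14.st M E :=
          le_antisymm (inf_le_inf_right _ hQσ) (le_inf hstQ inf_le_right)
        rw [h1]
      pr := by
        intro k hk hk1
        refine (inf_le_inf_right _ hQσ).trans ?_
        rw [h.prime k hk hk1]
        exact inf_le_right
      nc := hnc }
  have hqβ : q ∈ beta M := by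
    by_contra hqβ
    have h1 := npc_sub (sigmaCore_le_commutator hG hM) (npc_commutator hG hM hqβ)
    obtain ⟨N₀, hN₀, hnN₀, hqN₀, hsup⟩ := npc_data h1
    have h2 := hsup Q hS
    have h3 : IsPiHallOf {q}ᶜ N₀ (sigmaCore M) := by
      refine ⟨hN₀, ?_, ?_⟩
      · refine (Core.piNum_singleton_compl hqp).2 ?_
        rw [Nat.coprime_comm]
        exact (Nat.Prime.coprime_iff_not_dvd hqp).2 hqN₀
      · intro r hr hrq hdr
        have h4 := H1.Basic.relIndex_sup_of_le_normalizer (H := Q) (K := N₀) (hS.le.trans hnN₀)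
        rw [sup_comm, h2] at h4
        rw [h4] at hdr
        have h5 := hdr.trans (relIndex_dvd_card _ _)
        obtain ⟨n, hn⟩ := IsPGroup.iff_card.1 hS.isPGroup
        rw [hn] at h5
        exact hrq ((Nat.prime_dvd_prime_iff_eq hr hqp).1 (hr.dvd_of_dvd_pow h5))
    have h4 : D = N₀ := H12.Hall.eq_of_normal h3 hnN₀ hD
    subst h4
    apply hnc
    exact le_centralizer_of_inf (hDM.trans hMQ) (hS.le.trans hnN₀) hDS
  refine ⟨q, Q, D, hqp, rfl, hqσ, hqβ, hqdk.Kprime, hS, hMQ, hD, hKD, hDn, hqdk, ?_⟩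
  rw [sup_comm]
  exact H12.Hall.compl_sup h.hE

namespace NS

variable {M K Q D : Subgroup G} {q : ℕ}

theorem Qσ (h : NS M K Q D q) : Q ≤ sigmaCore M := h.SQ.le
theorem Dσ (h : NS M K Q D q) : D ≤ sigmaCore M := h.HD.1
theorem QM (h : NS M K Q D q) : Q ≤ M := h.Qσ.trans (sigmaCore_le M)
theorem DM (h : NS M K Q D q) : D ≤ M := h.Dσ.trans (sigmaCore_le M)
theorem KM (h : NS M K Q D q) : K ≤ M := by
  have h1 : K ≤ sigmaCore M ⊔ K := le_sup_right
  rwa [h.MK] at h1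

theorem QHall (h : NS M K Q D q) : IsPiHallOf {q} Q (sigmaCore M) := by
  refine ⟨h.Qσ, (Core.isPGroup_iff_piNum h.qp).1 h.SQ.isPGroup, ?_⟩
  intro r hr hrq
  rw [Set.mem_singleton_iff] at hrq
  subst hrq
  exact h.SQ.not_dvd

theorem QD (h : NS M K Q D q) : Q ⊔ D = sigmaCore M := by
  have h2 := H12.Hall.sup_eq h.QHall h.HD ((sigmaCore_le M).trans h.MQ)
  rwa [sup_comm] at h2

theorem QDKM (h : NS M K Q D q) : (Q ⊔ D) ⊔ K = M := by rw [h.QD, h.MK]

theorem norm_of (h : NS M K Q D q) {A : Subgroup G} (h1 : Q ≤ normalizer (A : Set G))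
    (h2 : D ≤ normalizer (A : Set G)) (h3 : K ≤ normalizer (A : Set G)) :
    M ≤ normalizer (A : Set G) := by
  have h4 := sup_le (sup_le h1 h2) h3
  rwa [h.QDKM] at h4

theorem MQ0 (h : NS M K Q D q) :
    M ≤ normalizer ((Q ⊓ centralizer (D : Set G) : Subgroup G) : Set G) := by
  haveI : Fact q.Prime := ⟨h.qp⟩
  exact h.norm_of h.qdk.QQ0 h.qdk.DQ0 h.qdk.KQ0

theorem SM (hG : IsMinSimpleOddOrder G) (hM : IsCoatom M) (h : NS M K Q D q) : IsSylIn q Q M := by
  haveI : Fact q.Prime := ⟨h.qp⟩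
  exact H12.Hall.sylow_trans (sigmaCore_hallOf hG hM) h.qσ h.SQ

theorem Q_le_F (hG : IsMinSimpleOddOrder G) (hM : IsCoatom M) (h : NS M K Q D q) :
    Q ≤ fittingHallOf M := by
  haveI : Fact q.Prime := ⟨h.qp⟩
  have hS := h.SM hG hM
  refine Core.le_fittingHallOf hS.le h.MQ hS.isPGroup.isNilpotent ?_
  obtain ⟨n, hn⟩ := IsPGroup.iff_card.1 hS.isPGroup
  rw [hn]
  exact Nat.Coprime.pow_left _ ((Nat.Prime.coprime_iff_not_dvd h.qp).2 hS.not_dvd)

theorem Q_ne (h : NS M K Q D q) : Q ≠ ⊥ := by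
  intro hb
  apply h.qdk.nc
  rw [hb]
  intro d _
  rw [mem_centralizer_iff]
  intro y hy
  rw [mem_bot.1 hy, one_mul, mul_one]

theorem comm_eq (hG : IsMinSimpleOddOrder G) (hM : IsCoatom M) (h : NS M K Q D q) :
    sigmaCore M = ⁅M, M⁆ := by
  haveI := Fact.mk h.Kp
  apply le_antisymm (sigmaCore_le_commutator hG hM)
  have h1 := comm_le_of_sup (K := sigmaCore M) (P := K) (L := M) (sigmaCore_le M)
    (le_normalizer_sigmaCore M) h.MK
  have h2 : IsCyclic K := isCyclic_of_prime_card rfl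
  have h3 : ⁅K, K⁆ = ⊥ := commutator_eq_bot_iff_le_centralizer.2 (cyclic_le_cent h2 le_rfl le_rfl)
  rw [h3, bot_sup_eq] at h1
  exact h1

/-- all complements are conjugate -/
theorem compl_conj (hG : IsMinSimpleOddOrder G) (hM : IsCoatom M) (h : NS M K Q D q)
    {D' : Subgroup G} (hD' : IsComplIn Q D' (sigmaCore M)) :
    ∃ m ∈ sigmaCore M, cj m D = D' := by
  have h1 : IsComplIn D' Q (sigmaCore M) := by
    refine ⟨hD'.2.1, hD'.1, by rw [inf_comm]; exact hD'.2.2.1, ?_⟩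
    intro m hm
    obtain ⟨a, ha, b, hb, he⟩ := hD'.2.2.2 m⁻¹ (inv_mem hm)
    refine ⟨b⁻¹, inv_mem hb, a⁻¹, inv_mem ha, ?_⟩
    rw [← mul_inv_rev, ← he, inv_inv]
  have h2 := H12.Hall.of_compl h.QHall h1
  exact H12.Hall.hall_conj (isSolvable_sigmaCore hG hM) h.HD h2

theorem Q0_cj (h : NS M K Q D q) {m : G} (hm : m ∈ M) :
    Q ⊓ centralizer ((cj m D : Subgroup G) : Set G) = Q ⊓ centralizer (D : Set G) := by
  rw [← cj_centralizer]
  have h1 : cj m Q = Q := cj_eq_of_mem_normalizer (h.MQ hm)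
  have h2 : cj m (Q ⊓ centralizer (D : Set G)) = Q ⊓ centralizer (D : Set G) :=
    cj_eq_of_mem_normalizer (h.MQ0 hm)
  rw [cj_inf, h1] at h2
  exact h2

end NS

theorem s1437 (hG : IsMinSimpleOddOrder G)
    (M : Subgroup G) (hM : IsCoatom M) (K U : Subgroup G) (hKU : Cfsg.IsSigmaDecomposition M K U) (hne : Cfsg.fittingHallOf M ≠ Cfsg.sigmaCore M) :
    U = ⊥ ∧ Cfsg.sigmaCore M = ⁅M, M⁆ ∧ (Nat.card K).Prime ∧ (Nat.card ↥(Cfsg.sigmaCore M ⊓ Subgroup.centralizer (K : Set G))).Prime ∧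
      Nat.card ↥(Cfsg.sigmaCore M ⊓ Subgroup.centralizer (K : Set G)) ∣ Nat.card (Cfsg.fittingHallOf M) ∧ Nat.card ↥(Cfsg.sigmaCore M ⊓ Subgroup.centralizer (K : Set G)) ∈ Cfsg.beta M ∧
      ∃ Q : Subgroup G, Q ≤ Cfsg.fittingHallOf M ∧ M ≤ Subgroup.normalizer (Q : Set G) ∧ IsPGroup (Nat.card ↥(Cfsg.sigmaCore M ⊓ Subgroup.centralizer (K : Set G))) Q ∧
        ¬ Nat.card ↥(Cfsg.sigmaCore M ⊓ Subgroup.centralizer (K : Set G)) ∣ Q.relIndex (Cfsg.sigmaCore M) ∧
        ∀ D : Subgroup G, Cfsg.IsComplIn Q D (Cfsg.sigmaCore M) →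
          Group.IsNilpotent D ∧ M ≤ Subgroup.normalizer ((Q ⊓ Subgroup.centralizer (D : Set G) : Subgroup G) : Set G) ∧
          Q ⊓ Subgroup.centralizer (D : Set G) < Q ∧
          Nat.card Q = Nat.card ↥(Q ⊓ Subgroup.centralizer (D : Set G)) * Nat.card ↥(Cfsg.sigmaCore M ⊓ Subgroup.centralizer (K : Set G)) ^ Nat.card K ∧
          (∀ a ∈ Q, ∀ b ∈ Q, a ^ Nat.card ↥(Cfsg.sigmaCore M ⊓ Subgroup.centralizer (K : Set G)) ∈ Q ⊓ Subgroup.centralizer (D : Set G) ∧
            a * b * a⁻¹ * b⁻¹ ∈ Q ⊓ Subgroup.centralizer (D : Set G)) ∧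
          ∀ N : Subgroup G, Q ⊓ Subgroup.centralizer (D : Set G) < N → N < Q → ¬ M ≤ Subgroup.normalizer (N : Set G) := by
  have hC := con13 hG
  have hnn : ¬ Group.IsNilpotent (sigmaCore M) := fun hn => hne (sigmaCore_eq_fittingHallOf hG hM hn).symm
  have hK := K_ne_of_nn hG hM hKU.hall hnn
  have hks := KS_of_decomp hG hC hM hKU hK
  obtain ⟨hU, q, Q, D₀, h⟩ := thm152 hG hks hnn
  haveI : Fact q.Prime := ⟨h.qp⟩
  rw [h.st]
  refine ⟨hU, h.comm_eq hG hM, h.Kp, h.qp, ?_, h.qβ, Q, h.Q_le_F hG hM, h.MQ, h.SQ.isPGroup,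
    h.SQ.not_dvd, ?_⟩
  · exact (dvd_of_pgroup h.SQ.isPGroup h.Q_ne).trans (card_dvd_of_le (h.Q_le_F hG hM))
  · intro D hD
    obtain ⟨m, hm, rfl⟩ := h.compl_conj hG hM hD
    have hmM : m ∈ M := sigmaCore_le M hm
    rw [h.Q0_cj hmM]
    refine ⟨?_, h.MQ0, h.qdk.Q0_lt, h.qdk.cardQ, ?_, ?_⟩
    · haveI := h.Dn
      exact Group.nilpotent_of_surjective (Subgroup.equivSMul (MulAut.conj m) D₀).toMonoidHom
        (Subgroup.equivSMul (MulAut.conj m) D₀).surjective
    · intro a ha b hb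
      refine ⟨h.qdk.powQ0 ha, ?_⟩
      have h1 := h.qdk.commQ0 (commutator_mem_commutator ha hb)
      rwa [commutatorElement_def] at h1
    · intro N h1 h2 h3
      rcases h.qdk.irr h1.le h2.le (h.DM.trans h3) (h.KM.trans h3) with h4 | h4
      · exact h1.ne' h4
      · exact h2.ne h4

end Cfsg.Agent.H12.BG15
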