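import Mathlib
import Cfsg.Agent.H12_BG15c

/-! BG 15.3 -/

set_option autoImplicit false
set_option linter.unusedSectionVars false
set_option linter.style.haveILetI false

open Pointwise
open scoped commutatorElement

namespace Cfsg.Agent.H12.BG15

open Cfsg Subgroup H13.Syl H12.Loc H12.Trans H12.BG7 H12.Puig H12.BG9 H12.BG10 H12.BG11 H12.BG12
open H12.BG13 H2.BG14

universe u

variable {G : Type u} [Group G] [Finite G]

/-- coprime index makes `H` a Hall subgroup -/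
theorem hall_of_coprime {H L : Subgroup G} (hH : H ≤ L) (hc : (Nat.card H).Coprime (H.relIndex L)) :
    IsPiHallOf {p | p ∣ Nat.card H} H L := by
  refine ⟨hH, fun p _ h => h, ?_⟩
  intro p hp hpH hd
  exact Nat.not_coprime_of_dvd_of_dvd hp.one_lt hpH hd hc

theorem cent_hall (hG : IsMinSimpleOddOrder G) {M H X : Subgroup G} (hM : IsCoatom M)
    (hH : H ≤ sigmaCore M) (hH1 : H ≠ ⊥) (hHall : (Nat.card H).Coprime (H.relIndex (sigmaCore M)))
    (hXM : X ≤ M) (hXH : X ≤ centralizer (H : Set G)) (hX : SigmaC M X) :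
    IsCyclic X ∧ ∀ p : ℕ, p.Prime → p ∣ Nat.card X → p ∈ tau2 M := by
  have hhall := hall_of_coprime hH hHall
  -- primes lie in `τ₂`
  have hτ : ∀ p : ℕ, p.Prime → p ∣ Nat.card X → p ∈ tau2 M := by
    intro p hp hd
    haveI := Fact.mk hp
    by_contra h2
    have h13 : p ∈ tau1 M ∨ p ∈ tau3 M := by
      rcases H12.BG13.tau_cases hG hM hp (hd.trans (card_dvd_of_le hXM)) (hX p hp hd) with h | h | h
      · exact Or.inl h
      · exact absurd h h2
      · exact Or.inr h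
    obtain ⟨w, hw, hwo, hwc, hwX⟩ := exists_order_sub hd
    obtain ⟨r, hr, v, hv, hvo, hdr⟩ := exists_prime_elt hH1
    haveI := Fact.mk hr
    obtain ⟨R, hR⟩ := exists_isSylIn (p := r) H
    have hRσ : IsSylIn r R (sigmaCore M) := H12.Hall.sylow_trans hhall hdr hR
    have hzv : zpowers v ≤ H := zpowers_le.2 hv
    have h1 := (uniq13 hG hM h13 (hwX.trans hXM) hwc (x := r) (X := zpowers v)
      (by rw [Nat.card_zpowers, hvo]) (hzv.trans hH)
      (by
        rw [le_centralizer_iff]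
        exact (hwX.trans hXH).trans (centralizer_le hzv))).2 R hRσ
    have hwb : zpowers w ≠ ⊥ := ne_bot_of_card hwc
    have hwt : normalizer ((zpowers w : Subgroup G) : Set G) ≠ ⊤ := normalizer_ne_top hG hwb
      (ne_top_of_isPGroup hG (pgroup_of_card hwc))
    obtain ⟨L, hL, hNL⟩ := exists_isCoatom_ge hwt
    have hRN : R ≤ normalizer ((zpowers w : Subgroup G) : Set G) := by
      refine le_trans ?_ (centralizer_le_normalizer _)
      rw [le_centralizer_iff]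
      exact (hwX.trans hXH).trans (centralizer_le hR.le)
    have hLM : L = M := h1.2 L hL (hRN.trans hNL)
    subst hLM
    have hne : sigmaCore L ⊓ centralizer ((zpowers w : Subgroup G) : Set G) ≠ ⊥ := by
      intro hb
      apply hH1
      rw [eq_bot_iff, ← hb]
      refine le_inf hH ?_
      rw [le_centralizer_iff]
      exact hwX.trans hXH
    exact hX p hp hd (thm1313 hG hM hM h13 (hwX.trans hXM) hwc hne hNL)
  refine ⟨?_, hτ⟩
  -- rank one
  have hr : RankLE 1 X := by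
    apply rankLE_one_of
    intro p hp hd
    haveI := Fact.mk hp
    by_contra hr
    obtain ⟨A, hAX, hA, hAc⟩ := exists_ea_sq_of_not_rank_one hr
    have hσ := hX p hp hd
    obtain ⟨A₀, hexc⟩ := exists_exc hG hM hσ (hAX.trans hXM) hA hAc
    obtain ⟨S, hAS, hS⟩ := exists_isSylIn_ge (ea_isPGroup hA) (hAX.trans hXM)
    have h1 := (hexc.thm116 hG hS hAS).2.2.1
    apply hH1
    rw [eq_bot_iff, ← h1]
    refine le_inf hH ?_
    rw [le_centralizer_iff]
    exact hAX.trans hXH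
  -- nilpotent
  have hn : Group.IsNilpotent X := by
    by_cases hXb : X = ⊥
    · subst hXb; infer_instance
    obtain ⟨p, hp, v, hv, hvo, hd⟩ := exists_prime_elt hXb
    haveI := Fact.mk hp
    have hp2 := hτ p hp hd
    obtain ⟨E, hXE, hE⟩ := exists_compl_ge hG hM hXM hX
    obtain ⟨A, hAE, hA, hAc⟩ := exists_ea_compl hG hM hE hp2
    have hEM : E ≤ M := hE.1
    obtain ⟨A₀, hexc⟩ := exists_exc hG hM hp2.2.1 (hAE.trans hEM) hA hAc
    obtain ⟨S, hAS, hS⟩ := exists_isSylIn_ge (ea_isPGroup hA) (le_top : A ≤ ⊤)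
    by_cases hab : IsMulCommutative S
    · have h1 := tau2_le_fitting hG hexc hp2 hE hAE hS hAS hab hXE hτ
      exact nilp_mono h1 (Core.fittingOf_isNilpotent E)
    · have h1 := tau2_eq_of_nonabelian hG hM hp2 (fun T hT hTc => hab (comm_of_sylow hT hS hTc))
      have h2 : IsPGroup p X := by
        rw [Core.isPGroup_iff_piNum hp]
        intro r hr hrd
        exact h1 r (hτ r hr hrd)
      exact h2.isNilpotent
  exact isCyclic_of_rankLE_one hG hn hr

/-- 15.3 (a) -/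
theorem thm153a (hG : IsMinSimpleOddOrder G) {M H : Subgroup G} (hM : IsCoatom M)
    (hH : H ≤ sigmaCore M) (hH1 : H ≠ ⊥) (hHall : (Nat.card H).Coprime (H.relIndex (sigmaCore M))) :
    ∃ X : Subgroup G, IsCyclic X ∧ (∀ p : ℕ, p.Prime → p ∣ Nat.card X → p ∈ Cfsg.tau2 M) ∧
        M ⊓ Subgroup.centralizer (H : Set G) = (Cfsg.sigmaCore M ⊓ Subgroup.centralizer (H : Set G)) ⊔ X := by
  set C := M ⊓ Subgroup.centralizer (H : Set G) with hC
  have hCM : C ≤ M := inf_le_left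
  have hCs : Group.IsSolvable C := solv_le hG hM hCM
  obtain ⟨X, hX⟩ := H12.Hall.exists_hall hCs (sigma M)ᶜ
  have h1 := hall_inf (sigmaCore_hallOf hG hM) (le_normalizer_sigmaCore M) hCM
  have hXC : X ≤ C := hX.1
  have hXσ : SigmaC M X := fun p hp hd => hX.2.1 p hp hd
  obtain ⟨h2, h3⟩ := cent_hall hG hM hH hH1 hHall (hXC.trans hCM) (hXC.trans inf_le_right) hXσ
  refine ⟨X, h2, h3, ?_⟩
  have h4 : sigmaCore M ⊓ C = sigmaCore M ⊓ centralizer (H : Set G) := by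
    rw [hC, ← inf_assoc, inf_eq_left.2 (sigmaCore_le M)]
  have h5 := H12.Hall.sup_eq h1 hX (by
    refine H22.Basic.le_normalizer_inf (hCM.trans (le_normalizer_sigmaCore M)) le_normalizer)
  rw [h4, sup_comm] at h5
  exact h5.symm

/-- `G`-conjugate elements of `M_σ` are `M`-conjugate -/
theorem fusion_M (hG : IsMinSimpleOddOrder G) {M : Subgroup G} (hM : IsCoatom M) {x g : G}
    (hx : x ∈ sigmaCore M) (hx1 : x ≠ 1) (hg : g * x * g⁻¹ ∈ M) :
    ∃ m ∈ M, ∃ c ∈ centralizer ({x} : Set G), g = m * c := by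
  have hC := con13 hG
  have h1 : x ∈ cj g⁻¹ M := by
    rw [mem_cj, inv_inv]; exact hg
  have h2 : ∃ c ∈ centralizer ({x} : Set G), cj c M = cj g⁻¹ M := by
    by_cases hxM : centralizer ({x} : Set G) ≤ M
    · exact ⟨1, one_mem _, by rw [cj_one, cj_eq_of_cent_le hG hC hM hx hx1 hxM h1]⟩
    · obtain ⟨N, hN⟩ := exists_ND hG hC hM hx hx1 hxM
      obtain ⟨n, hn, he⟩ := nd_trans hG hC hM hx hx1 hxM hN h1
      exact ⟨n, (mem_inf.1 hn).2, he⟩
  obtain ⟨c, hc, he⟩ := h2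
  have h3 : g * c ∈ M := by
    rw [← cj_eq_self_iff hG hM, cj_mul, he, cj_cj_inv]
  exact ⟨g * c, h3, c⁻¹, inv_mem hc, by group⟩

/-- Sylow-wise normality of Hall subgroups of nilpotent groups -/
theorem hall_normal {H N L : Subgroup G} (hH : H ≤ N) (hHall : (Nat.card H).Coprime (H.relIndex N))
    (hN : Group.IsNilpotent N) (hNL : N ≤ L) (hLN : L ≤ normalizer (N : Set G)) :
    L ≤ normalizer (H : Set G) := by
  apply normal_of_sylows
  intro p hp hd P hP
  haveI := Fact.mk hp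
  exact normal_of_nilpotent_sylow hNL hLN hN (H12.Hall.sylow_trans (hall_of_coprime hH hHall) hd hP)

/-- 15.3 (b) -/
theorem thm153b (hG : IsMinSimpleOddOrder G) {M H : Subgroup G} (hM : IsCoatom M)
    (hH : H ≤ sigmaCore M) (hHall : (Nat.card H).Coprime (H.relIndex (sigmaCore M))) :
    ∀ x ∈ H, ∀ g : G, g * x * g⁻¹ ∈ H → ∃ n ∈ M ⊓ Subgroup.normalizer (H : Set G), n * x * n⁻¹ = g * x * g⁻¹ := by
  intro x hx g hg
  have hC := con13 hG
  by_cases hx1 : x = 1
  · subst hx1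
    exact ⟨1, one_mem _, by group⟩
  obtain ⟨m, hm, c, hc, rfl⟩ := fusion_M hG hM (hH hx) hx1 (sigmaCore_le M (hH hg))
  have hcx : c * x * c⁻¹ = x := by
    have := mem_centralizer_singleton_iff.1 hc
    rw [this]; group
  have hmx : m * c * x * (m * c)⁻¹ = m * x * m⁻¹ := by
    calc m * c * x * (m * c)⁻¹ = m * (c * x * c⁻¹) * m⁻¹ := by group
      _ = m * x * m⁻¹ := by rw [hcx]
  rw [hmx] at hg ⊢
  by_cases hnil : Group.IsNilpotent (sigmaCore M)
  · have h1 : M ≤ normalizer (H : Set G) :=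
      hall_normal hH hHall hnil (sigmaCore_le M) (le_normalizer_sigmaCore M)
    exact ⟨m, ⟨hm, h1 hm⟩, rfl⟩
  obtain ⟨K, hK⟩ := H12.Hall.exists_hall (solvable_of_ne_top hG hM.1) (kappa M)
  obtain ⟨E, U, hks⟩ := exists_KS' hG hC hM hK (K_ne_of_nn hG hM hK hnil)
  obtain ⟨-, q, Q, D, h⟩ := thm152 hG hks hnil
  haveI : Fact q.Prime := ⟨h.qp⟩
  have hDs : Group.IsSolvable D := solv_le hG hM h.DM
  have hsσ := isSolvable_sigmaCore hG hM
  have hDK : D ⊔ K ≤ normalizer (D : Set G) := sup_le le_normalizer h.KD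
  have hcards : Nat.card Q * Nat.card D = Nat.card (sigmaCore M) := by
    rw [← h.QD]
    have h1 := H22.Basic.card_sup_of_coprime (N := Q) (K := D) h.qdk.DQ h.qdk.cD.symm
    exact h1.symm
  by_cases hqH : q ∣ Nat.card H
  · -- `Q ≤ H`
    have hhall := hall_of_coprime hH hHall
    obtain ⟨R, hR⟩ := exists_isSylIn (p := q) H
    have hRσ : IsSylIn q R (sigmaCore M) := H12.Hall.sylow_trans hhall hqH hR
    have hQH : Q ≤ H := by
      obtain ⟨y, hy, hyR⟩ := h.SQ.exists_conj_eq hRσ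
      have h1 : cj y⁻¹ Q = R := by rw [← hyR, cj_inv_cj]
      have h2 : cj y⁻¹ Q = Q := cj_eq_of_mem_normalizer (inv_mem (h.MQ (sigmaCore_le M hy)))
      rw [← h2, h1]
      exact hR.le
    have hded : H = Q ⊔ (D ⊓ H) := H22.Basic.dedekind h.qdk.DQ hQH (by rw [h.QD]; exact hH)
    have hcard2 : Nat.card H = Nat.card Q * Nat.card ↥(D ⊓ H) := by
      conv_lhs => rw [hded]
      exact H22.Basic.card_sup_of_coprime (inf_le_left.trans h.qdk.DQ)
        (Nat.Coprime.coprime_dvd_right (card_dvd_of_le inf_le_left) h.qdk.cD.symm)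
    have hidx : (D ⊓ H).relIndex D = H.relIndex (sigmaCore M) := by
      have h1 := H22.Basic.card_mul_relIndex (inf_le_left : D ⊓ H ≤ D)
      have h2 := H22.Basic.card_mul_relIndex hH
      rw [← hcards, hcard2, mul_assoc] at h2
      have h3 := Nat.eq_of_mul_eq_mul_left Nat.card_pos h2
      rw [← h1] at h3
      exact (Nat.eq_of_mul_eq_mul_left Nat.card_pos h3).symm
    have hDHall : (Nat.card ↥(D ⊓ H)).Coprime ((D ⊓ H).relIndex D) := by
      rw [hidx]
      exact Nat.Coprime.coprime_dvd_left (card_dvd_of_le inf_le_right) hHall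
    have h1 : D ⊔ K ≤ normalizer ((D ⊓ H : Subgroup G) : Set G) :=
      hall_normal inf_le_left hDHall h.Dn le_sup_left hDK
    have h2 : M ≤ normalizer (H : Set G) := by
      refine h.norm_of (hQH.trans le_normalizer) ?_ ?_
      · rw [hded]
        exact H22.Basic.le_normalizer_sup h.qdk.DQ (le_sup_left.trans h1)
      · rw [hded]
        exact H22.Basic.le_normalizer_sup h.qdk.KQ (le_sup_right.trans h1)
    exact ⟨m, ⟨hm, h2 hm⟩, rfl⟩
  · -- `H` is conjugate to a subgroup of `D`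
    have hHpi : Core.PiNum {q}ᶜ (Nat.card H) :=
      (Core.piNum_singleton_compl h.qp).2 (by
        rw [Nat.coprime_comm]; exact (Nat.Prime.coprime_iff_not_dvd h.qp).2 hqH)
    obtain ⟨m₀, hm₀, hle⟩ := H12.Hall.hall_dom hsσ h.HD hHpi hH
    have hm₀M : m₀ ∈ M := sigmaCore_le M hm₀
    set H₁ := cj m₀ H with hH₁
    have hcard1 : Nat.card H₁ = Nat.card H := card_cj _ _
    have hH₁Hall : (Nat.card H₁).Coprime (H₁.relIndex D) := by
      have h1 := H22.Basic.card_mul_relIndex hle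
      have h2 := H22.Basic.card_mul_relIndex hH
      have h3 : H₁.relIndex D ∣ H.relIndex (sigmaCore M) := by
        rw [← hcards, ← h1, hcard1] at h2
        have h4 : Nat.card H * H.relIndex (sigmaCore M) = Nat.card H * (Nat.card Q * H₁.relIndex D) := by
          rw [h2]; ring
        have h5 := Nat.eq_of_mul_eq_mul_left Nat.card_pos h4
        rw [h5]
        exact Dvd.intro_left _ rfl
      rw [hcard1]
      exact Nat.Coprime.coprime_dvd_right h3 hHall
    have h1 : D ⊔ K ≤ normalizer (H₁ : Set G) := hall_normal hle hH₁Hall h.Dn le_sup_left hDK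
    have hMf : Q ⊔ (D ⊔ K) = M := by rw [← sup_assoc]; exact h.QDKM
    have hDKM : D ⊔ K ≤ M := sup_le h.DM h.KM
    have hm₁ : m₀ * m * m₀⁻¹ ∈ Q ⊔ (D ⊔ K) := by
      rw [hMf]; exact mul_mem (mul_mem hm₀M hm) (inv_mem hm₀M)
    obtain ⟨n, hn, u, hu, he⟩ := (H22.Basic.mem_sup_of_le_normalizer' (hDKM.trans h.MQ)).1 hm₁
    have hx₁ : m₀ * x * m₀⁻¹ ∈ H₁ := conj_mem_cj hx
    have hx₂ : (n * u) * (m₀ * x * m₀⁻¹) * (n * u)⁻¹ ∈ H₁ := by
      rw [he]
      have : m₀ * m * m₀⁻¹ * (m₀ * x * m₀⁻¹) * (m₀ * m * m₀⁻¹)⁻¹ = m₀ * (m * x * m⁻¹) * m₀⁻¹ := by group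
      rw [this]
      exact conj_mem_cj hg
    have hx₃ : u * (m₀ * x * m₀⁻¹) * u⁻¹ ∈ H₁ := by
      have h9 : n⁻¹ ∈ normalizer (H₁ : Set G) := inv_mem (h1 hn)
      have h2 := (mem_normalizer_iff.1 h9 _).1 hx₂
      have h3 : n⁻¹ * (n * u * (m₀ * x * m₀⁻¹) * (n * u)⁻¹) * n⁻¹⁻¹ = u * (m₀ * x * m₀⁻¹) * u⁻¹ := by
        group
      rwa [h3] at h2
    have hQH₁ : Q ⊓ H₁ = ⊥ := by
      rw [eq_bot_iff]
      refine le_trans (inf_le_inf_left _ hle) ?_
      rw [inf_comm, H22.Basic.inf_eq_bot_of_coprime h.qdk.cD]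
    have hx₄ : u * (m₀ * x * m₀⁻¹) * u⁻¹ * (m₀ * x * m₀⁻¹)⁻¹ = 1 := by
      have h2 : u * (m₀ * x * m₀⁻¹) * u⁻¹ * (m₀ * x * m₀⁻¹)⁻¹ ∈ Q ⊓ H₁ := by
        refine mem_inf.2 ⟨?_, mul_mem hx₃ (inv_mem hx₁)⟩
        have h3 : u * (m₀ * x * m₀⁻¹) * u⁻¹ * (m₀ * x * m₀⁻¹)⁻¹
          = u * ((m₀ * x * m₀⁻¹) * u⁻¹ * (m₀ * x * m₀⁻¹)⁻¹) := by group
        rw [h3]
        refine mul_mem hu ?_
        have h4 : m₀ * x * m₀⁻¹ ∈ normalizer (Q : Set G) :=
          h.MQ (mul_mem (mul_mem hm₀M (sigmaCore_le M (hH hx))) (inv_mem hm₀M))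
        have h9 : u⁻¹ ∈ Q := inv_mem hu
        exact (mem_normalizer_iff.1 h4 _).1 h9
      rw [hQH₁] at h2
      exact mem_bot.1 h2
    have hx₅ : u * (m₀ * x * m₀⁻¹) * u⁻¹ = m₀ * x * m₀⁻¹ := mul_inv_eq_one.1 hx₄
    have hnM : n ∈ M := hDKM hn
    refine ⟨m₀⁻¹ * n * m₀, mem_inf.2 ⟨mul_mem (mul_mem (inv_mem hm₀M) hnM) hm₀M, ?_⟩, ?_⟩
    · have h2 : cj (m₀⁻¹ * n * m₀) H = H := by
        rw [cj_mul, ← hH₁, cj_mul, cj_eq_of_mem_normalizer (h1 hn), hH₁, cj_inv_cj]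
      exact mem_normalizer_iff_cj.2 h2
    · have h2 : m * x * m⁻¹ = m₀⁻¹ * ((m₀ * m * m₀⁻¹) * (m₀ * x * m₀⁻¹) * (m₀ * m * m₀⁻¹)⁻¹) * m₀ := by
        group
      rw [h2, ← he]
      have h3 : (n * u) * (m₀ * x * m₀⁻¹) * (n * u)⁻¹ = n * (u * (m₀ * x * m₀⁻¹) * u⁻¹) * n⁻¹ := by
        group
      rw [h3, hx₅]
      group

end Cfsg.Agent.H12.BG15
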