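import Mathlib
import Cfsg.Agent.H12_BG15d

/-! S1439, S1355, S1356, S1364, S1365, S1373 -/

set_option autoImplicit false
set_option linter.unusedSectionVars false
set_option linter.style.haveILetI false

open Pointwise
open scoped commutatorElement

namespace Cfsg.Agent.H12.BG15

open Cfsg Subgroup H13.Syl H12.Loc H12.Trans H12.BG7 H12.Puig H12.BG9 H12.BG10 H12.BG11 H12.BG12
open H12.BG13 H2.BG14

universe u

variable {G : Type u} [Group G] [Finite G]

/-- `Y = O_{σ'}(F(M))` -/
abbrev YM (M : Subgroup G) : Subgroup G := piCoreOf {q | q.Prime ∧ q ∉ sigma M} (fittingOf M)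

theorem YM_le (M : Subgroup G) : YM M ≤ fittingOf M := Core.piCoreOf_le _ _

theorem YM_sigmaC (M : Subgroup G) : SigmaC M (YM M) := fun p hp hd =>
  (Core.piCoreOf_piNum _ (fittingOf M) p hp hd).2

theorem M_le_YM (M : Subgroup G) : M ≤ normalizer (YM M : Set G) :=
  (Core.le_normalizer_fittingOf M).trans (Core.normalizer_le_normalizer_piCoreOf _ _)

/-- S1439 -/
theorem s1439 (hG : IsMinSimpleOddOrder G) {M : Subgroup G} (hM : IsCoatom M) :
    IsCyclic ↥(YM M) ∧ (∀ p : ℕ, p.Prime → p ∣ Nat.card ↥(YM M) → p ∈ tau2 M) ∧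
      fittingOf M = fittingOf (sigmaCore M) ⊔ YM M := by
  have hYM : YM M ≤ M := (YM_le M).trans (Core.fittingOf_le M)
  have hYσ := YM_sigmaC M
  have hb := sigmaCore_ne_bot hG hM
  have hYc : YM M ≤ centralizer (sigmaCore M : Set G) := by
    apply le_centralizer_of_inf (hYM.trans (le_normalizer_sigmaCore M))
      ((sigmaCore_le M).trans (M_le_YM M))
    rw [inf_comm]
    exact hYσ.inf_eq_bot
  obtain ⟨h1, h2⟩ := cent_hall hG hM le_rfl hb (by rw [relIndex_self]; exact Nat.coprime_one_right _)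
    hYM hYc hYσ
  refine ⟨h1, h2, ?_⟩
  have hFn := Core.fittingOf_isNilpotent M
  apply le_antisymm
  · apply le_of_sylow
    intro p hp hd P hP
    haveI := Fact.mk hp
    have hMP : M ≤ normalizer (P : Set G) :=
      normal_of_nilpotent_sylow (Core.fittingOf_le M) (Core.le_normalizer_fittingOf M) hFn hP
    by_cases hσ : p ∈ sigma M
    · refine le_trans ?_ le_sup_left
      have h3 : P ≤ sigmaCore M := le_sigmaCore_of_pgroup hG hM hP.isPGroup
        (hP.le.trans (Core.fittingOf_le M)) hσ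
      exact Core.le_fittingOf h3 ((sigmaCore_le M).trans hMP) hP.isPGroup.isNilpotent
    · refine le_trans ?_ le_sup_right
      refine Core.le_piCoreOf hP.le ((Core.fittingOf_le M).trans hMP) ?_
      exact pgroup_pi hP.isPGroup ⟨hp, hσ⟩
  · refine sup_le ?_ (YM_le M)
    refine Core.le_fittingOf ((Core.fittingOf_le _).trans (sigmaCore_le M)) ?_
      (Core.fittingOf_isNilpotent _)
    exact (le_normalizer_sigmaCore M).trans (Core.normalizer_le_normalizer_fittingOf _)

/-- `M_σ = M_F` or the structure of 15.2 -/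
theorem cases (hG : IsMinSimpleOddOrder G) {M : Subgroup G} (hM : IsCoatom M) :
    (Group.IsNilpotent (sigmaCore M) ∧ sigmaCore M = fittingHallOf M) ∨
      (¬ Group.IsNilpotent (sigmaCore M) ∧ ∃ (K Q D : Subgroup G) (q : ℕ), NS M K Q D q ∧
        IsPiHallOf (kappa M) K M) := by
  have hC := con13 hG
  by_cases hnil : Group.IsNilpotent (sigmaCore M)
  · exact Or.inl ⟨hnil, sigmaCore_eq_fittingHallOf hG hM hnil⟩
  · right
    obtain ⟨K, hK⟩ := H12.Hall.exists_hall (solvable_of_ne_top hG hM.1) (kappa M)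
    obtain ⟨E, U, hks⟩ := exists_KS' hG hC hM hK (K_ne_of_nn hG hM hK hnil)
    obtain ⟨-, q, Q, D, h⟩ := thm152 hG hks hnil
    exact ⟨hnil, K, Q, D, q, h, hK⟩

theorem fittingHallOf_ne (hG : IsMinSimpleOddOrder G) {M : Subgroup G} (hM : IsCoatom M) :
    fittingHallOf M ≠ ⊥ := by
  rcases cases hG hM with ⟨-, h⟩ | ⟨-, K, Q, D, q, h, -⟩
  · rw [← h]; exact sigmaCore_ne_bot hG hM
  · intro hb
    apply h.Q_ne
    rw [eq_bot_iff, ← hb]
    exact h.Q_le_F hG hM

/-- nilpotency of `L N/N` from a nilpotent complement -/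
theorem nilp_quot {X : Type u} [Group X] [Finite X] {N : Subgroup X} [N.Normal] {L D : Subgroup X}
    (h : L ≤ D ⊔ N) (hD : Group.IsNilpotent D) :
    Group.IsNilpotent ↥(L.map (QuotientGroup.mk' N)) := by
  have h1 : L.map (QuotientGroup.mk' N) ≤ D.map (QuotientGroup.mk' N) := by
    refine (map_mono h).trans ?_
    rw [Subgroup.map_sup]
    refine sup_le le_rfl ?_
    have h2 : N.map (QuotientGroup.mk' N) = ⊥ := by
      rw [Subgroup.map_eq_bot_iff, QuotientGroup.ker_mk']
    rw [h2]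
    exact bot_le
  have h2 : Group.IsNilpotent ↥(D.map (QuotientGroup.mk' N)) := by
    haveI := hD
    exact Group.nilpotent_of_surjective _ ((QuotientGroup.mk' N).subgroupMap_surjective D)
  exact nilp_mono h1 h2

/-- S1355, last part -/
theorem nilp_comm_quot (hG : IsMinSimpleOddOrder G) {M : Subgroup G} (hM : IsCoatom M) :
    Group.IsNilpotent ↥((commutator ↥M).map (QuotientGroup.mk' (fittingHall ↥M))) := by
  -- find nilpotent `D ≤ M` with `M' ≤ D M_F`
  have key : ∃ D : Subgroup G, D ≤ M ∧ Group.IsNilpotent D ∧ ⁅M, M⁆ ≤ D ⊔ fittingHallOf M := by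
    rcases cases hG hM with ⟨-, h⟩ | ⟨-, K, Q, D, q, h, -⟩
    · obtain ⟨E, hE⟩ := H12.Hall.exists_hall (solvable_of_ne_top hG hM.1) (sigma M)ᶜ
      have hE' := isCompl_of_hall hG hM hE
      have h1 := comm_le_sup hG hM hE'
      refine ⟨⁅E, E⁆, (commutator_le_self E).trans hE.1, comm_nilpotent hG hM hE.1
        (compl_sigmaC hG hM hE'), ?_⟩
      rwa [← h]
    · refine ⟨D, h.DM, h.Dn, ?_⟩
      rw [← h.comm_eq hG hM, ← h.QD]
      exact sup_le ((h.Q_le_F hG hM).trans le_sup_right) le_sup_left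
  obtain ⟨D, hDM, hD, hle⟩ := key
  have hDn : Group.IsNilpotent (D.subgroupOf M) := Core.isNilpotent_subgroupOf hDM hD
  refine nilp_quot (D := D.subgroupOf M) ?_ hDn
  have h1 : (commutator ↥M).map M.subtype ≤ (D.subgroupOf M ⊔ fittingHall ↥M).map M.subtype := by
    rw [map_commutator_subtype, Subgroup.map_sup, subgroupOf_map_subtype, inf_eq_left.2 hDM]
    exact hle
  exact (map_subtype_le_map_subtype).1 h1

theorem s1355 (hG : IsMinSimpleOddOrder G) (M : Subgroup G) (hM : IsCoatom M) :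
    Cfsg.fittingHallOf M ≠ ⊥ ∧ Cfsg.fittingHallOf M ≤ Cfsg.sigmaCore M ∧ Cfsg.sigmaCore M ≤ ⁅M, M⁆ ∧ ⁅M, M⁆ < M ∧
      Group.IsNilpotent ↥((commutator ↥M).map (QuotientGroup.mk' (Cfsg.fittingHall ↥M))) := by
  refine ⟨fittingHallOf_ne hG hM, fittingHallOf_le_sigmaCore hG hM, sigmaCore_le_commutator hG hM,
    ?_, nilp_comm_quot hG hM⟩
  refine lt_of_le_of_ne (commutator_le_self M) fun h => ?_
  exact not_le_commutator hG hM.1 (ne_bot_of_isCoatom hG hM) h.ge

/-- central extension of a nilpotent section -/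
theorem nilp_cent_quot {N Z D : Subgroup G} (h : N ≤ D ⊔ Z) (hD : Group.IsNilpotent D)
    (hDZ : D ≤ normalizer (Z : Set G)) (hc : N ≤ centralizer (Z : Set G)) :
    Group.IsNilpotent N := by
  have hNZ : N ≤ normalizer (Z : Set G) := hc.trans (centralizer_le_normalizer _)
  let f : N →* NQ Z := (QuotientGroup.mk' (Z.subgroupOf (normalizer (Z : Set G)))).comp
    (Subgroup.inclusion hNZ)
  have hf : ∀ n : N, f n = bq Z n (hNZ n.2) := fun n => rfl
  have h1 : f.range ≤ bar Z D := by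
    rintro _ ⟨n, rfl⟩
    have h2 : f n ∈ bar Z (D ⊔ Z) := by
      rw [hf]
      exact bq_mem (h n.2) _
    rw [bar_sup hDZ le_normalizer] at h2
    have h3 : bar Z Z = ⊥ := (bar_eq_bot le_normalizer).2 le_rfl
    rwa [h3, sup_bot_eq] at h2
  haveI : Group.IsNilpotent f.range := nilp_mono h1 (isNilpotent_bar_of hDZ hD)
  refine Subgroup.isNilpotent_of_ker_le_center f.rangeRestrict ?_
  rw [MonoidHom.ker_rangeRestrict]
  intro n hn
  have h2 : f n = 1 := hn
  rw [hf, bq_eq_one] at h2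
  rw [mem_center_iff]
  intro m
  have h3 := mem_centralizer_iff.1 (hc m.2) n h2
  exact Subtype.ext h3.symm

theorem kappa_not_tau2 (hG : IsMinSimpleOddOrder G) {M : Subgroup G} {p : ℕ} (h : p ∈ kappa M) :
    p ∉ tau2 M := fun h2 => h2.2.2.2 (kappa_spec hG h).2.2.2.1

theorem s1356a (hG : IsMinSimpleOddOrder G) {M : Subgroup G} (hM : IsCoatom M) :
    ⁅⁅M, M⁆, ⁅M, M⁆⁆ ≤ fittingOf M := by
  rcases cases hG hM with ⟨hn, -⟩ | ⟨-, K, Q, D, q, h, -⟩
  · obtain ⟨E, hE⟩ := H12.Hall.exists_hall (solvable_of_ne_top hG hM.1) (sigma M)ᶜ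
    have hE' := isCompl_of_hall hG hM hE
    have h1 := comm_le_sup hG hM hE'
    have h2 : IsMulCommutative ↥⁅E, E⁆ := by
      have h3 := compl_sigmaC hG hM hE'
      exact thm1210a hG hM ((commutator_le_self E).trans hE.1) (comm_nilpotent hG hM hE.1 h3)
        (h3.mono (commutator_le_self E))
    have h4 : (⁅(⁅E, E⁆ : Subgroup G), ⁅E, E⁆⁆ : Subgroup G) = ⊥ :=
      commutator_eq_bot_iff_le_centralizer.2 (le_centralizer _)
    have h5 := comm_le_of_sup (K := sigmaCore M) (P := ⁅E, E⁆) (L := ⁅E, E⁆ ⊔ sigmaCore M)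
      le_sup_right (sup_le (((commutator_le_self E).trans hE.1).trans (le_normalizer_sigmaCore M))
        le_normalizer) (sup_comm _ _)
    rw [h4, bot_sup_eq] at h5
    exact ((commutator_mono h1 h1).trans h5).trans
      (Core.le_fittingOf (sigmaCore_le M) (le_normalizer_sigmaCore M) hn)
  · rw [← h.comm_eq hG hM]
    have hσQ : sigmaCore M ≤ normalizer (Q : Set G) := (sigmaCore_le M).trans h.MQ
    have h1 := comm_le_of_sup (K := Q) (P := D) (L := sigmaCore M) h.Qσ hσQ h.QD
    have h2 : Q ⊔ ⁅D, D⁆ = Q ⊔ ⁅sigmaCore M, sigmaCore M⁆ := by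
      apply le_antisymm
      · exact sup_le_sup_left (commutator_mono h.Dσ h.Dσ) _
      · exact sup_le le_sup_left (h1.trans (sup_comm _ _).le)
    have h3 : M ≤ normalizer ((Q ⊔ ⁅D, D⁆ : Subgroup G) : Set G) := by
      rw [h2]
      exact H22.Basic.le_normalizer_sup h.MQ (H22.Basic.le_normalizer_commutator
        (le_normalizer_sigmaCore M) (le_normalizer_sigmaCore M))
    haveI : Fact q.Prime := ⟨h.qp⟩
    have h4 : Group.IsNilpotent ↥(Q ⊔ ⁅D, D⁆) := nilp_of_sup rfl h.SQ.isPGroup.isNilpotent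
      (nilp_mono (commutator_le_self D) h.Dn) h.qdk.commD
    have h5 : Q ⊔ ⁅D, D⁆ ≤ fittingOf M :=
      Core.le_fittingOf (sup_le h.QM ((commutator_le_self D).trans h.DM)) h3 h4
    refine le_trans ?_ h5
    rw [h2]
    exact le_sup_right

theorem s1356b (hG : IsMinSimpleOddOrder G) {M : Subgroup G} (hM : IsCoatom M) :
    fittingOf M = (M ⊓ centralizer (fittingHallOf M : Set G)) ⊔ fittingHallOf M := by
  have hFn := Core.fittingOf_isNilpotent M
  have hMF : M ≤ normalizer (fittingHallOf M : Set G) := Core.le_normalizer_fittingHallOf M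
  apply le_antisymm
  · apply le_of_sylow
    intro p hp hd P hP
    haveI := Fact.mk hp
    have hMP : M ≤ normalizer (P : Set G) :=
      normal_of_nilpotent_sylow (Core.fittingOf_le M) (Core.le_normalizer_fittingOf M) hFn hP
    have hPM : P ≤ M := hP.le.trans (Core.fittingOf_le M)
    by_cases hpF : p ∣ Nat.card (fittingHallOf M)
    · refine le_trans ?_ le_sup_right
      have h1 := hall_of_coprime (Core.fittingHallOf_le M) (Core.fittingHallOf_coprime M)
      obtain ⟨m, hm, hle⟩ := H12.Hall.sylow_conj_le h1 hpF hP.isPGroup hPM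
      rwa [cj_eq_of_mem_normalizer (hMP hm)] at hle
    · refine le_trans (le_inf hPM ?_) le_sup_left
      apply le_centralizer_of_inf (hPM.trans hMF) ((Core.fittingHallOf_le M).trans hMP)
      apply H22.Basic.inf_eq_bot_of_coprime
      obtain ⟨n, hn⟩ := IsPGroup.iff_card.1 hP.isPGroup
      rw [hn]
      exact Nat.Coprime.pow_left _ ((Nat.Prime.coprime_iff_not_dvd hp).2 hpF)
  · refine sup_le ?_ (Core.fittingHallOf_le_fittingOf M)
    refine Core.le_fittingOf inf_le_left (H22.Basic.le_normalizer_inf le_normalizer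
      (H22.Basic.le_normalizer_centralizer hMF)) ?_
    have hcopσ : (Nat.card (fittingHallOf M)).Coprime ((fittingHallOf M).relIndex (sigmaCore M)) := by
      refine Nat.Coprime.coprime_dvd_right ?_ (Core.fittingHallOf_coprime M)
      exact Dvd.intro _ (relIndex_mul_relIndex _ _ _ (fittingHallOf_le_sigmaCore hG hM) (sigmaCore_le M))
    obtain ⟨X, hX, hXτ, hXe⟩ := thm153a hG hM (fittingHallOf_le_sigmaCore hG hM)
      (fittingHallOf_ne hG hM) hcopσ
    have hXn : Group.IsNilpotent X := by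
      haveI := hX
      exact nilp_of_comm inferInstance
    rcases cases hG hM with ⟨hn, he⟩ | ⟨hnn, K, Q, D, q, h, hK⟩
    · rw [hXe, ← he]
      refine nilp_of_sup rfl (nilp_mono inf_le_left hn) hXn ?_
      have h1 : X ≤ centralizer (sigmaCore M : Set G) := by
        have h2 : X ≤ M ⊓ centralizer (fittingHallOf M : Set G) := by
          rw [hXe]; exact le_sup_right
        rw [he]
        exact h2.trans inf_le_right
      exact h1.trans (centralizer_le inf_le_left)
    · have hXb : X = ⊥ := by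
        by_contra hXb
        obtain ⟨p, hp, v, hv, hvo, hd⟩ := exists_prime_elt hXb
        have h1 := hXτ p hp hd
        have h2 : X ≤ M := by
          have h2 : X ≤ M ⊓ centralizer (fittingHallOf M : Set G) := by
            rw [hXe]; exact le_sup_right
          exact h2.trans inf_le_left
        exact kappa_not_tau2 hG (kappa_of_nn hG hM hnn hp (hd.trans (card_dvd_of_le h2)) h1.2.1) h1
      rw [hXe, hXb, sup_bot_eq]
      refine nilp_cent_quot (Z := Q) (D := D) ?_ h.Dn h.qdk.DQ ?_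
      · rw [sup_comm, h.QD]; exact inf_le_left
      · exact inf_le_right.trans (centralizer_le (h.Q_le_F hG hM))

/-- `M' = U M_σ` -/
theorem comm_eq_sup (hG : IsMinSimpleOddOrder G) {M K E U : Subgroup G} (h : KS M K E U) :
    ⁅M, M⁆ = U ⊔ sigmaCore M := by
  have hC := con13 hG
  obtain ⟨H, E', U', pr⟩ := h.exists_PR' hG hC
  have hcyc := (pr.K_cyclic hG).1
  have hdec := h.decomp hcyc
  have hn : M ≤ normalizer ((U ⊔ sigmaCore M : Subgroup G) : Set G) := norm_US hG hC h.co hdec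
  have hUM : U ⊔ sigmaCore M ≤ M := sup_le h.hUM (sigmaCore_le M)
  have hKe : K ⊔ U = E := by
    apply le_antisymm (sup_le h.hKE h.hUE)
    intro e he
    obtain ⟨k, hk, u, hu, rfl⟩ := h.hU.2.2.2 e he
    exact mul_mem ((le_sup_left : K ≤ K ⊔ U) hk) ((le_sup_right : U ≤ K ⊔ U) hu)
  have hsup : (U ⊔ sigmaCore M) ⊔ K = M := by
    rw [sup_comm, ← sup_assoc, hKe]
    exact H12.Hall.compl_sup h.hE
  apply le_antisymm
  · have h1 := comm_le_of_sup hUM hn hsup
    have h3 : ⁅K, K⁆ = ⊥ := commutator_eq_bot_iff_le_centralizer.2 (cyclic_le_cent hcyc le_rfl le_rfl)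
    rw [h3, bot_sup_eq] at h1
    exact h1
  · exact sup_le (h.U_le_comm hG) (sigmaCore_le_commutator hG h.co)

theorem sup_K (hG : IsMinSimpleOddOrder G) {M K E U : Subgroup G} (h : KS M K E U) :
    K ⊔ ⁅M, M⁆ = M := by
  rw [comm_eq_sup hG h]
  have hKe : K ⊔ U = E := by
    apply le_antisymm (sup_le h.hKE h.hUE)
    intro e he
    obtain ⟨k, hk, u, hu, rfl⟩ := h.hU.2.2.2 e he
    exact mul_mem ((le_sup_left : K ≤ K ⊔ U) hk) ((le_sup_right : U ≤ K ⊔ U) hu)
  rw [← sup_assoc, hKe]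
  exact H12.Hall.compl_sup h.hE

theorem s1356c (hG : IsMinSimpleOddOrder G) {M : Subgroup G} (hM : IsCoatom M)
    (hκ : (kappa M).Nonempty) : fittingOf M ≤ ⁅M, M⁆ := by
  have hC := con13 hG
  obtain ⟨h1, h2, h3⟩ := s1439 hG hM
  rw [h3]
  refine sup_le ((Core.fittingOf_le _).trans (sigmaCore_le_commutator hG hM)) ?_
  obtain ⟨K, hK⟩ := H12.Hall.exists_hall (solvable_of_ne_top hG hM.1) (kappa M)
  have hKb : K ≠ ⊥ := by
    rintro rfl
    obtain ⟨p, hp⟩ := hκ
    rw [kappa_empty hG hK] at hp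
    exact hp
  obtain ⟨E, U, hks⟩ := exists_KS' hG hC hM hK hKb
  apply le_of_sylow
  intro p hp hd P hP
  haveI := Fact.mk hp
  have hpK : ¬ p ∣ Nat.card K := fun hh => kappa_not_tau2 hG (hK.2.1 p hp hh) (h2 p hp hd)
  have hPM : P ≤ M := (hP.le.trans (YM_le M)).trans (Core.fittingOf_le M)
  refine le_of_sup' hP.isPGroup (A := K) ?_ (by rw [sup_K hG hks]; exact hPM) hpK
  exact hks.hKM.trans (H22.Basic.le_normalizer_commutator le_normalizer le_normalizer)

theorem s1365 (hG : IsMinSimpleOddOrder G) {M K E U : Subgroup G} (h : KS M K E U) :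
    H2.BG14.st M K ≤ ⁅⁅M, M⁆, ⁅M, M⁆⁆ := by
  have hM := h.co
  by_cases hU : U = ⊥
  · subst hU
    have hEK : E = K := E_eq_of_bot h.hU
    subst hEK
    refine (thm1217a hG hM h.hE).2.trans ?_
    exact commutator_mono (sigmaCore_le_commutator hG hM) (sigmaCore_le_commutator hG hM)
  · obtain ⟨-, -, -, -, hb⟩ := h.g hG hU
    have hUn : U ≤ normalizer (sigmaCore M : Set G) := h.hUM.trans (le_normalizer_sigmaCore M)
    have hUσ : SigmaC M U := fun p hp hd => (h.hUq.2.1 p hp hd).2.2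
    have h1 := H1.Coprime.commutator_sup_centralizer U (sigmaCore M) hUn hUσ.coprime.symm
      (Or.inr (isSolvable_sigmaCore hG hM))
    rw [hb, sup_bot_eq] at h1
    refine (inf_le_left : _ ≤ sigmaCore M).trans ?_
    conv_lhs => rw [← h1]
    exact commutator_mono (sigmaCore_le_commutator hG hM) (h.U_le_comm hG)

theorem s1373 (hG : IsMinSimpleOddOrder G) {M K E U : Subgroup G} (h : KS M K E U) (hU : U = ⊥) :
    (Nat.card (H2.BG14.st M K)).Prime := by
  have hC := con13 hG
  obtain ⟨H, E', U', pr⟩ := h.exists_PR' hG hC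
  have hU' : U' ≠ ⊥ := pr.u.resolve_left (fun h => h hU)
  exact (pr.h'.g hG hU').2.1

theorem s1364 (hG : IsMinSimpleOddOrder G) {M K E U : Subgroup G} (h : KS M K E U) :
    IsCyclic (H2.BG14.st M K) ∧ H2.BG14.st M K ≤ fittingHallOf M ∧ ¬ IsCyclic (fittingHallOf M) := by
  have hC := con13 hG
  have hM := h.co
  obtain ⟨H, E', U', pr⟩ := h.exists_PR' hG hC
  have hcyc := (pr.K_cyclic hG).2
  have hle : H2.BG14.st M K ≤ fittingHallOf M := by
    by_cases hn : Group.IsNilpotent (sigmaCore M)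
    · rw [← sigmaCore_eq_fittingHallOf hG hM hn]; exact inf_le_left
    · obtain ⟨-, q, Q, D, hns⟩ := thm152 hG h hn
      haveI : Fact q.Prime := ⟨hns.qp⟩
      have h1 : IsPGroup q (H2.BG14.st M K) := pgroup_of_card hns.st
      have h2 : H2.BG14.st M K ≤ Q := by
        obtain ⟨m, hm, hle⟩ := hns.SQ.exists_conj_le h1 inf_le_left
        rw [cj_le_iff] at hle
        rwa [cj_eq_of_mem_normalizer (inv_mem (hns.MQ (sigmaCore_le M hm)))] at hle
      exact h2.trans (hns.Q_le_F hG hM)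
  refine ⟨hcyc, hle, ?_⟩
  intro hF
  obtain ⟨q, hq, v, hv, hvo, hd⟩ := exists_prime_elt h.neS
  haveI := Fact.mk hq
  obtain ⟨S, hvS, hS⟩ := exists_isSylIn_ge (p := q) (A := zpowers v) (H := fittingHallOf M)
    (pgroup_of_card (by rw [Nat.card_zpowers, hvo])) (zpowers_le.2 (hle hv))
  have hcopσ : (Nat.card (fittingHallOf M)).Coprime ((fittingHallOf M).relIndex (sigmaCore M)) := by
    refine Nat.Coprime.coprime_dvd_right ?_ (Core.fittingHallOf_coprime M)
    exact Dvd.intro _ (relIndex_mul_relIndex _ _ _ (fittingHallOf_le_sigmaCore hG hM) (sigmaCore_le M))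
  have hdF : q ∣ Nat.card (fittingHallOf M) := hd.trans (card_dvd_of_le hle)
  have hSσ : IsSylIn q S (sigmaCore M) := H12.Hall.sylow_trans
    (hall_of_coprime (fittingHallOf_le_sigmaCore hG hM) hcopσ) hdF hS
  have hScyc : IsCyclic S := by
    haveI := hF
    exact isCyclic_of_injective (Subgroup.inclusion hS.le) (Subgroup.inclusion_injective hS.le)
  have hKS : K ≤ normalizer (S : Set G) := h.hKM.trans (normal_of_nilpotent_sylow
    (Core.fittingHallOf_le M) (Core.le_normalizer_fittingHallOf M) (Core.fittingHallOf_isNilpotent M) hS)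
  have hSb : S ≠ ⊥ := by
    rintro rfl
    have h1 : v = 1 := mem_bot.1 (hvS (mem_zpowers v))
    exact orderOf_ne hq hvo h1
  have hcop : (Nat.card K).Coprime (Nat.card S) :=
    Nat.Coprime.coprime_dvd_right (card_dvd_of_le hSσ.le) (kappa_sigmaC h.hall).coprime.symm
  have hc : ⁅S, K⁆ = ⊥ := by
    by_contra hne
    have h1 := cyc_fix hS.isPGroup hScyc hKS hcop hne
    have h2 : v ∈ S ⊓ centralizer (K : Set G) := ⟨hvS (mem_zpowers v), (mem_inf.1 hv).2⟩
    rw [h1, mem_bot] at h2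
    exact orderOf_ne hq hvo h2
  apply h.e2 hG hC hSσ hSb
  refine le_inf hSσ.le ?_
  exact commutator_eq_bot_iff_le_centralizer.1 hc

end Cfsg.Agent.H12.BG15
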