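import Mathlib
import Cfsg.Agent.H12_BG15e
import Cfsg.Agent.H1_Gaschutz

/-! BG 12.12 -/

set_option autoImplicit false
set_option linter.unusedSectionVars false
set_option linter.style.haveILetI false

open Pointwise
open scoped commutatorElement

namespace Cfsg.Agent.H12.BG1212

open Cfsg Subgroup H13.Syl H12.Loc H12.Trans H12.BG7 H12.Puig H12.BG9 H12.BG10 H12.BG11 H12.BG12
open H12.BG13 H2.BG14 H12.BG15

universe u

variable {G : Type u} [Group G] [Finite G]

/-- the hypothesis of 12.12 -/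
def Free (M E : Subgroup G) : Prop :=
  ∀ w ∈ E, ∀ q : ℕ, q.Prime → orderOf w = q → q ∉ tau2 M → sigmaCore M ⊓ centralizer ({w} : Set G) = ⊥

theorem exists_pow_order {e : G} {q : ℕ} (hq : q.Prime) (hd : q ∣ orderOf e) :
    ∃ w ∈ zpowers e, orderOf w = q := by
  refine ⟨e ^ (orderOf e / q), pow_mem (mem_zpowers e) _, ?_⟩
  exact orderOf_pow_orderOf_div (orderOf_pos e).ne' hd

theorem cent_mono {e w : G} (hw : w ∈ zpowers e) :
    centralizer ({e} : Set G) ≤ centralizer ({w} : Set G) := by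
  rw [← centralizer_zpowers e, ← centralizer_zpowers w]
  exact centralizer_le (zpowers_le.2 hw)

theorem mem_tau2_of {M E : Subgroup G} (hF : Free M E) {e x : G} (he : e ∈ E) (hx : x ∈ sigmaCore M)
    (hx1 : x ≠ 1) (hc : e ∈ centralizer ({x} : Set G)) {q : ℕ} (hq : q.Prime) (hd : q ∣ orderOf e) :
    q ∈ tau2 M := by
  by_contra hn
  obtain ⟨w, hw, hwo⟩ := exists_pow_order hq hd
  have h1 := hF w (zpowers_le.2 he hw) q hq hwo hn
  have h2 : x ∈ sigmaCore M ⊓ centralizer ({w} : Set G) := by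
    refine mem_inf.2 ⟨hx, cent_mono hw ?_⟩
    rw [mem_centralizer_singleton_iff] at hc ⊢
    exact hc.symm
  rw [h1, mem_bot] at h2
  exact hx1 h2

theorem exists_free {M : Subgroup G} {e : G} (h1 : e ≠ 1) (hne : sigmaCore M ⊓ centralizer ({e} : Set G) ≠ ⊥) :
    ∃ q : ℕ, q.Prime ∧ ∃ w ∈ zpowers e, orderOf w = q ∧ sigmaCore M ⊓ centralizer ({w} : Set G) ≠ ⊥ := by
  have ho : orderOf e ≠ 1 := by rwa [Ne, orderOf_eq_one_iff]
  obtain ⟨q, hq, hd⟩ := Nat.exists_prime_and_dvd ho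
  obtain ⟨w, hw, hwo⟩ := exists_pow_order hq hd
  refine ⟨q, hq, w, hw, hwo, fun h => hne ?_⟩
  exact le_bot_iff.1 (h ▸ inf_le_inf_left _ (cent_mono hw))

theorem cj_zp (g u : G) : cj g (zpowers u) = zpowers (g * u * g⁻¹) := by
  show (zpowers u).map _ = _
  rw [MonoidHom.map_zpowers]
  simp

theorem le_cent_self {S : Subgroup G} (h : IsMulCommutative S) : S ≤ centralizer (S : Set G) := by
  intro x hx
  rw [mem_centralizer_iff]
  intro y hy
  exact congrArg Subtype.val (h.is_comm.comm ⟨y, hy⟩ ⟨x, hx⟩)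

/-- the abelian Sylow situation -/
structure Ab (M E : Subgroup G) (p : ℕ) (A S : Subgroup G) : Prop where
  hE : IsComplIn E (sigmaCore M) M
  exc : ∃ A₁ : Subgroup G, Exc M p A A₁
  ae : A ≤ E
  asl : A ≤ S
  syl : IsSylIn p S ⊤
  ab : IsMulCommutative S
  t2 : p ∈ tau2 M

theorem Ab.facts (hG : IsMinSimpleOddOrder G) {M E A S : Subgroup G} {p : ℕ} [hp : Fact p.Prime] (h : Ab M E p A S) :
    ⁅normalizer (S : Set G), normalizer (S : Set G)⁆ ≤ fittingOf E ∧ fittingOf E ≤ centralizer (S : Set G) ∧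
    centralizer (S : Set G) ≤ E ∧ normalizer (A : Set G) = normalizer (S : Set G) ∧
    ¬ normalizer (S : Set G) ≤ M ∧ E ≤ normalizer (S : Set G) ∧ S ≤ E := by
  obtain ⟨A₁, hexc⟩ := h.exc
  obtain ⟨h1, h2, h3, h4, h5, h6⟩ := thm128c hG hexc h.hE h.ae h.syl h.asl h.ab
  have h7 := (thm126b hG hexc h.hE h.ae).2.2
  have hSS : S ≤ centralizer (S : Set G) := le_cent_self h.ab
  refine ⟨h2, h3, h4, h6, h6 ▸ h7, h6 ▸ exc_compl_le hG hexc h.hE h.ae, hSS.trans h4⟩

/-- invariant subgroups of order `p` act freely -/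
theorem Ab.inv_free (hG : IsMinSimpleOddOrder G) {M E A S : Subgroup G} {p : ℕ} [hp : Fact p.Prime] (h : Ab M E p A S)
    {X : Subgroup G} (hXS : X ≤ S) (hXc : Nat.card X = p) (hn : normalizer (S : Set G) ≤ normalizer (X : Set G)) :
    sigmaCore M ⊓ centralizer (X : Set G) = ⊥ := by
  by_contra hne
  obtain ⟨f1, f2, f3, f4, f5, f6, f7⟩ := h.facts hG
  obtain ⟨A₁, hexc⟩ := h.exc
  have hXb : X ≠ ⊥ := by
    rintro rfl
    rw [card_bot] at hXc
    exact hp.out.one_lt.ne hXc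
  have hXp : IsPGroup p X := h.syl.isPGroup.to_le hXS
  have hXt : X ≠ ⊤ := ne_top_of_isPGroup hG hXp
  have hAX : A ≤ centralizer (X : Set G) :=
    h.asl.trans ((le_cent_self h.ab).trans (centralizer_le hXS))
  have h1 := thm126c hG hexc hXb hAX hXt hne
  obtain ⟨L, hL, hNL⟩ := exists_isCoatom_ge (normalizer_ne_top hG hXb hXt)
  have h2 := h1.2 L hL ((centralizer_le_normalizer _).trans hNL)
  exact f5 (hn.trans (h2 ▸ hNL))

/-- the conclusion for one prime of `τ₂` -/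
def Good (M E : Subgroup G) (p : ℕ) (S Z : Subgroup G) : Prop :=
  Z ≤ S ∧ E ≤ normalizer (Z : Set G) ∧ IsCyclic Z ∧ (∀ s ∈ S, orderOf s ∣ Nat.card Z) ∧
    ∀ z ∈ Z, orderOf z = p → sigmaCore M ⊓ centralizer ({z} : Set G) = ⊥

theorem exists_max_order {S : Subgroup G} {p : ℕ} [hp : Fact p.Prime] (hS : IsPGroup p S) :
    ∃ z ∈ S, ∀ s ∈ S, orderOf s ∣ orderOf z := by
  obtain ⟨z, hz⟩ := Finite.exists_max (fun s : S => orderOf (s : G))
  refine ⟨z, z.2, fun s hs => ?_⟩
  obtain ⟨a, ha⟩ := (IsPGroup.iff_orderOf.1 hS) ⟨s, hs⟩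
  obtain ⟨b, hb⟩ := (IsPGroup.iff_orderOf.1 hS) z
  have h1 := hz ⟨s, hs⟩
  rw [orderOf_mk] at ha
  rw [← orderOf_coe] at hb
  simp only [] at h1
  rw [ha, hb] at h1 ⊢
  exact pow_dvd_pow p ((Nat.pow_le_pow_iff_right hp.out.one_lt).1 h1)

/-- the case where `E` centralizes `S` -/
theorem Ab.good_of_cent (hG : IsMinSimpleOddOrder G) {M E A S : Subgroup G} {p : ℕ} [hp : Fact p.Prime] (h : Ab M E p A S)
    (hES : E ≤ centralizer (S : Set G)) : ∃ Z : Subgroup G, Good M E p S Z := by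
  obtain ⟨f1, f2, f3, f4, f5, f6, f7⟩ := h.facts hG
  obtain ⟨A₁, hexc⟩ := h.exc
  have hM := hexc.co
  obtain ⟨z, hz, hmax⟩ := exists_max_order h.syl.isPGroup
  -- a helper: the order-`p` elements of `⟨y⟩` all act alike
  have key : ∀ y ∈ S, (∃ v ∈ zpowers y, orderOf v = p ∧ sigmaCore M ⊓ centralizer ({v} : Set G) ≠ ⊥) →
      UMax M (centralizer (zpowers (y ^ (orderOf y / p)) : Set G)) := by
    rintro y hy ⟨v, hv, hvo, hne⟩
    have hd : p ∣ orderOf y := hvo ▸ orderOf_dvd_of_mem_zpowers hv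
    have hyo : orderOf (y ^ (orderOf y / p)) = p := orderOf_pow_orderOf_div (orderOf_pos y).ne' hd
    have h1 : zpowers v = zpowers (y ^ (orderOf y / p)) := by
      apply Core.cyclic_eq_of_card_eq' (C := zpowers y) inferInstance (zpowers_le.2 hv)
        (zpowers_le.2 (pow_mem (mem_zpowers y) _))
      rw [Nat.card_zpowers, Nat.card_zpowers, hvo, hyo]
    rw [← h1]
    have hvS : zpowers v ≤ S := (zpowers_le.2 hv).trans (zpowers_le.2 hy)
    have hvb : zpowers v ≠ ⊥ := by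
      intro hb
      rw [zpowers_eq_bot] at hb
      rw [hb, orderOf_one] at hvo
      exact hp.out.one_lt.ne hvo
    refine thm126c hG hexc hvb (h.asl.trans ((le_cent_self h.ab).trans (centralizer_le hvS)))
      (ne_top_of_isPGroup hG (h.syl.isPGroup.to_le hvS)) ?_
    rwa [centralizer_zpowers]
  have mk : ∀ y ∈ S, orderOf y = orderOf z → (¬ ∃ v ∈ zpowers y, orderOf v = p ∧
      sigmaCore M ⊓ centralizer ({v} : Set G) ≠ ⊥) → Good M E p S (zpowers y) := by
    intro y hy hyo hno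
    refine ⟨zpowers_le.2 hy, ?_, inferInstance, fun s hs => ?_, fun v hv hvo => ?_⟩
    · exact (hES.trans (centralizer_le (zpowers_le.2 hy))).trans (centralizer_le_normalizer _)
    · rw [Nat.card_zpowers, hyo]; exact hmax s hs
    · by_contra hne
      exact hno ⟨v, hv, hvo, hne⟩
  by_cases hc : ∃ v ∈ zpowers z, orderOf v = p ∧ sigmaCore M ⊓ centralizer ({v} : Set G) ≠ ⊥
  · obtain ⟨g, hg, hgM⟩ := SetLike.not_le_iff_exists.1 f5
    have hgz : g * z * g⁻¹ ∈ S := (mem_normalizer_iff.1 hg z).1 hz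
    have hgo : orderOf (g * z * g⁻¹) = orderOf z := by
      have := orderOf_injective (MulAut.conj g).toMonoidHom (MulAut.conj g).injective z
      simpa using this
    refine ⟨zpowers (g * z * g⁻¹), mk _ hgz hgo ?_⟩
    intro hc'
    have u1 := key z hz hc
    have u2 := key _ hgz hc'
    have e1 : (g * z * g⁻¹) ^ (orderOf (g * z * g⁻¹) / p) = g * z ^ (orderOf z / p) * g⁻¹ := by
      rw [hgo, conj_pow]
    rw [e1] at u2
    have u3 := umax_cj u1 g
    rw [cj_centralizer, cj_zp] at u3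
    have h4 : cj g M = M := u2.2 _ (isCoatom_of_cj hM g) u3.1
    apply hgM
    have h5 : g ∈ normalizer (M : Set G) := mem_normalizer_iff_cj.2 h4
    rwa [normalizer_eq_self_of_isCoatom hG hM (ne_bot_of_isCoatom hG hM)] at h5
  · exact ⟨_, mk z hz rfl hc⟩

/-- an element of prime order acting freely on `M_σ` and on `T` -/
theorem cent_of_free (hG : IsMinSimpleOddOrder G) {M T : Subgroup G} (hM : IsCoatom M) (hTM : T ≤ M) (hσ : SigmaC M T)
    {z : G} {q : ℕ} (hq : q.Prime) (hzM : z ∈ M) (hzo : z ^ q = 1) (hzT : z ∈ normalizer (T : Set G))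
    (h1 : sigmaCore M ⊓ centralizer ({z} : Set G) = ⊥) (h2 : T ⊓ centralizer ({z} : Set G) = ⊥) :
    T ≤ centralizer (sigmaCore M : Set G) := by
  have hTn : T ≤ normalizer (sigmaCore M : Set G) := hTM.trans (le_normalizer_sigmaCore M)
  have hzn : z ∈ normalizer (sigmaCore M : Set G) := le_normalizer_sigmaCore M hzM
  have hinf : sigmaCore M ⊓ T = ⊥ := hσ.inf_eq_bot
  have hnil : Group.IsNilpotent ↥(sigmaCore M ⊔ T) := by
    refine nilpotent_of_fpf hq hzo ?_ ?_
    · rw [mem_normalizer_iff_cj, cj_sup, cj_eq_of_mem_normalizer hzn, cj_eq_of_mem_normalizer hzT]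
    · rw [eq_bot_iff]
      rintro x hx
      obtain ⟨hx1, hx2⟩ := mem_inf.1 hx
      rw [H22.Basic.mem_sup_of_le_normalizer hTn] at hx1
      obtain ⟨m, hm, t, ht, rfl⟩ := hx1
      have e1 : (z * m * z⁻¹) * (z * t * z⁻¹) = m * t := by
        rw [mem_centralizer_singleton_iff] at hx2
        rw [show (z * m * z⁻¹) * (z * t * z⁻¹) = z * (m * t) * z⁻¹ by group, ← hx2]
        group
      have hm' : z * m * z⁻¹ ∈ sigmaCore M := (mem_normalizer_iff.1 hzn m).1 hm
      have ht' : z * t * z⁻¹ ∈ T := (mem_normalizer_iff.1 hzT t).1 ht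
      have e2 : m⁻¹ * (z * m * z⁻¹) = t * (z * t * z⁻¹)⁻¹ := by
        rw [inv_mul_eq_iff_eq_mul, ← mul_assoc, eq_mul_inv_iff_mul_eq, e1]
      have e3 : m⁻¹ * (z * m * z⁻¹) ∈ sigmaCore M ⊓ T :=
        mem_inf.2 ⟨mul_mem (inv_mem hm) hm', e2 ▸ mul_mem ht (inv_mem ht')⟩
      rw [hinf, mem_bot] at e3
      have e4 : z * m * z⁻¹ = m := (inv_mul_eq_one.1 e3).symm
      have e5 : z * t * z⁻¹ = t := by
        rw [e4] at e1
        exact mul_left_cancel e1
      have hm1 : m ∈ sigmaCore M ⊓ centralizer ({z} : Set G) := by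
        refine mem_inf.2 ⟨hm, ?_⟩
        rw [mem_centralizer_singleton_iff]
        exact (mul_inv_eq_iff_eq_mul.1 e4).symm
      have ht1 : t ∈ T ⊓ centralizer ({z} : Set G) := by
        refine mem_inf.2 ⟨ht, ?_⟩
        rw [mem_centralizer_singleton_iff]
        exact (mul_inv_eq_iff_eq_mul.1 e5).symm
      rw [h1, mem_bot] at hm1
      rw [h2, mem_bot] at ht1
      rw [hm1, ht1, mul_one]
      exact one_mem _
  exact Core.commutator_eq_bot_of_nilpotent_coprime hnil le_sup_left le_sup_right hTn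
    hσ.coprime.symm

theorem normalizer_le_comm {A D : Subgroup G} (hD : D ≤ normalizer (A : Set G))
    (hcent : ⁅normalizer (A : Set G), normalizer (A : Set G)⁆ ≤ centralizer (A : Set G)) :
    normalizer (A : Set G) ≤ normalizer ((⁅A, D⁆ : Subgroup G) : Set G) := by
  have hCn : normalizer (A : Set G) ≤ normalizer ((centralizer (A : Set G) : Subgroup G) : Set G) := by
    intro g hg
    rw [mem_normalizer_iff_cj, cj_centralizer, cj_eq_of_mem_normalizer hg]
  have h1 : ⁅A, D⁆ ≤ A := H1.Coprime.commutator_le_of_le_normalizer hD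
  have e1 : ⁅A, centralizer (A : Set G) ⊔ D⁆ = ⁅A, D⁆ := by
    apply le_antisymm
    · apply comm_sup_le
      · rw [commutator_comm, commutator_eq_bot_iff_le_centralizer.2 le_rfl]
        exact bot_le
      · exact le_rfl
      · exact (centralizer_le h1).trans (centralizer_le_normalizer _)
      · exact hD.trans hCn
    · exact commutator_mono le_rfl le_sup_right
  rw [← e1]
  intro g hg
  rw [mem_normalizer_iff_cj, cj_commutator, cj_eq_of_mem_normalizer hg, cj_sup,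
    cj_eq_of_mem_normalizer (hCn hg)]
  have e2 : centralizer (A : Set G) ⊔ cj g D = centralizer (A : Set G) ⊔ D := by
    apply le_antisymm
    · apply sup_le le_sup_left
      rw [cj_le_iff_forall]
      intro d hd
      have h2 : g * d * g⁻¹ = (g * d * g⁻¹ * d⁻¹) * d := by group
      rw [h2]
      exact mul_mem (mem_sup_left (hcent (by
        have := commutator_mem_commutator hg (hD hd)
        rwa [commutatorElement_def] at this))) (mem_sup_right hd)
    · apply sup_le le_sup_left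
      intro d hd
      have h2 : d = (g * d * g⁻¹ * d⁻¹)⁻¹ * (g * d * g⁻¹) := by group
      rw [h2]
      exact mul_mem (mem_sup_left (inv_mem (hcent (by
        have := commutator_mem_commutator hg (hD hd)
        rwa [commutatorElement_def] at this)))) (mem_sup_right (conj_mem_cj hd))
  rw [e2]

theorem Ab.hM {M E A S : Subgroup G} {p : ℕ} (h : Ab M E p A S) : IsCoatom M := by
  obtain ⟨_, h⟩ := h.exc
  exact h.co

theorem Ab.comm_cent (hG : IsMinSimpleOddOrder G) {M E A S : Subgroup G} {p : ℕ} [hp : Fact p.Prime] (h : Ab M E p A S) :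
    ⁅normalizer (S : Set G), normalizer (S : Set G)⁆ ≤ centralizer (S : Set G) :=
  (h.facts hG).1.trans (h.facts hG).2.1

theorem coprime_zp {z : G} {p q : ℕ} [hp : Fact p.Prime] [hq : Fact q.Prime] (hne : p ≠ q) (hz : orderOf z = q)
    {S : Subgroup G} (hS : IsPGroup p S) : (Nat.card (zpowers z)).Coprime (Nat.card S) := by
  rw [Nat.card_zpowers, hz]
  obtain ⟨n, hn⟩ := IsPGroup.iff_card.1 hS
  rw [hn]
  exact Nat.Coprime.pow_right n ((Nat.coprime_primes hq.out hp.out).2 hne.symm)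

/-- (C0) -/
theorem Ab.c0 (hG : IsMinSimpleOddOrder G) {M E A S : Subgroup G} {p : ℕ} [hp : Fact p.Prime] (h : Ab M E p A S)
    (hF : Free M E) {z : G} {q : ℕ} (hq : q.Prime) (hz : z ∈ E) (hzo : orderOf z = q) (hqt : q ∉ tau2 M) :
    z ∈ centralizer (S : Set G) := by
  haveI := Fact.mk hq
  obtain ⟨f1, f2, f3, f4, f5, f6, f7⟩ := h.facts hG
  have hM := h.hM
  have hpq : p ≠ q := by
    rintro rfl
    exact hqt h.t2
  have hcop := coprime_zp hpq hzo h.syl.isPGroup
  have hzS : zpowers z ≤ normalizer (S : Set G) := (zpowers_le.2 hz).trans f6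
  haveI := h.ab
  set T := ⁅S, zpowers z⁆ with hT
  have hTS : T ≤ S := H1.Coprime.commutator_le_of_le_normalizer hzS
  have hTE : T ≤ E := hTS.trans f7
  have hsE := compl_sigmaC hG hM h.hE
  by_contra hc
  have hTb : T ≠ ⊥ := by
    intro hb
    apply hc
    rw [hT, commutator_eq_bot_iff_le_centralizer] at hb
    rw [mem_centralizer_iff]
    intro s hs
    exact ((mem_centralizer_iff.1 (hb hs)) z (mem_zpowers z)).symm
  have h0 := H1.Coprime.inf_commutator_eq_bot_of_abelian (zpowers z) S hzS hcop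
  have hNT : normalizer (S : Set G) ≤ normalizer (T : Set G) := normalizer_le_comm hzS (h.comm_cent hG)
  have h1 : T ≤ centralizer (sigmaCore M : Set G) := by
    refine cent_of_free hG hM (hTE.trans h.hE.1) (hsE.mono hTE) hq (h.hE.1 hz) (hzo ▸ pow_orderOf_eq_one z)
      (hNT (f6 hz)) (hF z hz q hq hzo hqt) ?_
    rw [eq_bot_iff, ← h0, centralizer_zpowers]
    exact le_inf (inf_le_inf_right _ hTS) inf_le_left
  have hMT : M ≤ normalizer (T : Set G) := by
    rw [← H12.Hall.compl_sup h.hE]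
    apply sup_le (f6.trans hNT)
    exact (le_centralizer_iff.1 h1).trans (centralizer_le_normalizer _)
  have h2 := normalizer_eq_of_isCoatom hG hM hTb hMT (hTE.trans h.hE.1)
  exact f5 (h2 ▸ hNT)

/-- all primes of `τ₂` are of abelian type -/
def AllAb (M E : Subgroup G) : Prop := ∀ r ∈ tau2 M, ∃ A S : Subgroup G, Ab M E r A S

theorem solv_E (hG : IsMinSimpleOddOrder G) {M E : Subgroup G} (hM : IsCoatom M) (hEM : E ≤ M) : Group.IsSolvable E :=
  solvable_of_ne_top hG (fun h => hM.1 (top_le_iff.1 (h ▸ hEM)))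

/-- elements of prime order `q ∈ τ₁ ∪ τ₃` generate normal subgroups of `E` -/
theorem zp_normal (hG : IsMinSimpleOddOrder G) {M E : Subgroup G} (hM : IsCoatom M) (hE : IsComplIn E (sigmaCore M) M)
    (hF : Free M E) (hA : AllAb M E) {z : G} {q : ℕ} (hq : q.Prime) (hz : z ∈ E) (hzo : orderOf z = q)
    (hqt : q ∉ tau2 M) : E ≤ normalizer (zpowers z : Set G) := by
  haveI := Fact.mk hq
  have hsE := compl_sigmaC hG hM hE
  have hEs : Group.IsSolvable E := solv_E hG hM hE.1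
  have hzE : zpowers z ≤ E := zpowers_le.2 hz
  have hdE : q ∣ Nat.card E := by
    rw [← hzo, ← Nat.card_zpowers]
    exact card_dvd_of_le hzE
  obtain ⟨E₃, hE₃⟩ := H12.Hall.exists_hall hEs (tau3 M)
  obtain ⟨hc3, hc3', hn3⟩ := tau3_cyclic hG hM hE hE₃
  have hpi : ∀ {π : Set ℕ}, q ∈ π → Core.PiNum π (Nat.card (zpowers z)) := by
    intro π hπ
    rw [Nat.card_zpowers, hzo]
    intro r hr hd
    rwa [(Nat.prime_dvd_prime_iff_eq hr hq).1 hd]
  rcases H12.BG13.tau_cases hG hM hq (hdE.trans (card_dvd_of_le hE.1)) (hsE q hq hdE) with h1 | h2 | h3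
  · -- `τ₁`
    have hz3 : z ∈ centralizer (E₃ : Set G) := by
      have hzE3 : zpowers z ≤ normalizer (E₃ : Set G) := hzE.trans hn3
      have hcop : (Nat.card (zpowers z)).Coprime (Nat.card E₃) := by
        rw [Nat.card_zpowers, hzo]
        refine (Nat.Prime.coprime_iff_not_dvd hq).2 fun hd => ?_
        have := H12.Hall.pi hE₃ q hq hd
        exact h1.2.2.2.1 this.2.2.1
      haveI := hc3
      haveI : IsMulCommutative E₃ := ⟨⟨fun a b => by
        obtain ⟨g, hg⟩ := IsCyclic.exists_generator (α := E₃)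
        exact (IsCyclic.commGroup.mul_comm a b)⟩⟩
      set T := ⁅E₃, zpowers z⁆ with hT
      have hTS : T ≤ E₃ := H1.Coprime.commutator_le_of_le_normalizer hzE3
      by_contra hc
      have hTb : T ≠ ⊥ := by
        intro hb
        apply hc
        rw [hT, commutator_eq_bot_iff_le_centralizer] at hb
        rw [mem_centralizer_iff]
        intro s hs
        exact ((mem_centralizer_iff.1 (hb hs)) z (mem_zpowers z)).symm
      have h0 := H1.Coprime.inf_commutator_eq_bot_of_abelian (zpowers z) E₃ hzE3 hcop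
      have hTE : T ≤ E := hTS.trans hE₃.1
      have hzT : z ∈ normalizer (T : Set G) := (normal_of_cyclic hc3 hTS hn3) hz
      have h4 : T ≤ centralizer (sigmaCore M : Set G) := by
        refine cent_of_free hG hM (hTE.trans hE.1) (hsE.mono hTE) hq (hE.1 hz) (hzo ▸ pow_orderOf_eq_one z)
          hzT (hF z hz q hq hzo hqt) ?_
        rw [eq_bot_iff, ← h0, centralizer_zpowers]
        exact le_inf (inf_le_inf_right _ hTS) inf_le_left
      obtain ⟨r, hr, w, hw, hwo, hdr⟩ := exists_prime_elt hTb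
      have hr3 : r ∈ tau3 M := H12.Hall.pi hE₃ r hr (hdr.trans (card_dvd_of_le hTS))
      have h5 := hF w (hTE hw) r hr hwo (fun h2 => h2.2.2.2 hr3.2.2.2)
      apply sigmaCore_ne_bot hG hM
      rw [← h5]
      symm
      rw [inf_eq_left]
      intro x hx
      rw [mem_centralizer_singleton_iff]
      exact mem_centralizer_iff.1 (h4 hw) x hx
    obtain ⟨E₁, hzE1, hE₁⟩ := H12.Hall.exists_hall_ge (π := tau1 M) hEs (hpi h1) hzE
    have hc1 : IsCyclic E₁ := tau1_cyclic hG hM (hE₁.1.trans hE.1) (H12.Hall.pi hE₁)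
    have hall : E ≤ E ⊓ centralizer ({z} : Set G) := by
      apply le_of_sylow_each inf_le_left
      intro r hr hd
      haveI := Fact.mk hr
      rcases H12.BG13.tau_cases hG hM hr (hd.trans (card_dvd_of_le hE.1)) (hsE r hr hd) with g1 | g2 | g3
      · obtain ⟨T, hT⟩ := exists_isSylIn (p := r) E₁
        refine ⟨T, H12.Hall.sylow_trans hE₁ g1 hT, le_inf (hT.le.trans hE₁.1) ?_⟩
        intro t ht
        rw [mem_centralizer_singleton_iff]
        haveI := hc1
        exact congrArg Subtype.val (IsCyclic.commGroup.mul_comm (⟨t, hT.le ht⟩ : E₁) ⟨z, hzE1 (mem_zpowers z)⟩)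
      · obtain ⟨A, S, hAS⟩ := hA r g2
        obtain ⟨f1, f2, f3, f4, f5, f6, f7⟩ := hAS.facts hG
        refine ⟨S, hAS.syl.mono f7 le_top, le_inf f7 ?_⟩
        have := hAS.c0 hG hF hq hz hzo hqt
        intro s hs
        rw [mem_centralizer_singleton_iff]
        exact mem_centralizer_iff.1 this s hs
      · obtain ⟨T, hT⟩ := exists_isSylIn (p := r) E₃
        refine ⟨T, H12.Hall.sylow_trans hE₃ g3 hT, le_inf (hT.le.trans hE₃.1) ?_⟩
        intro t ht
        rw [mem_centralizer_singleton_iff]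
        exact mem_centralizer_iff.1 hz3 t (hT.le ht)
    have h6 : E ≤ centralizer (zpowers z : Set G) := by
      rw [centralizer_zpowers]
      exact hall.trans inf_le_right
    exact h6.trans (centralizer_le_normalizer _)
  · exact absurd h2 hqt
  · have h4 : zpowers z ≤ E₃ := by
      obtain ⟨l, hl, h5⟩ := H12.Hall.hall_dom hEs hE₃ (hpi h3) hzE
      rw [cj_le_iff, cj_eq_of_mem_normalizer (hn3 (inv_mem hl))] at h5
      exact h5
    exact normal_of_cyclic hc3 h4 hn3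

theorem Ab.cyc_of (hG : IsMinSimpleOddOrder G) {M E A S : Subgroup G} {p : ℕ} [hp : Fact p.Prime] (h : Ab M E p A S)
    {X Y : Subgroup G} (hX : X ≤ S) (hY : Y ≤ S) (hd : X ⊓ Y = ⊥) (hYb : Y ≠ ⊥) : IsCyclic X := by
  obtain ⟨f1, f2, f3, f4, f5, f6, f7⟩ := h.facts hG
  obtain ⟨A₁, hexc⟩ := h.exc
  apply cyclic_sylow hG (h.syl.isPGroup.to_le hX)
  by_contra hr
  obtain ⟨B, hBX, hB, hBc⟩ := exists_ea_sq_of_not_rank_one hr
  have hBA : B ≤ A := thm126a hG hexc h.hE h.ae ((hBX.trans hX).trans f7) hB.2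
  have hBA' : B = A := by
    apply eq_of_le_of_card_ge hBA
    rw [hBc, hexc.e2.card]
  obtain ⟨r, hr, y, hy, hyo, hdr⟩ := exists_prime_elt hYb
  have hYp : IsPGroup p Y := h.syl.isPGroup.to_le hY
  have hrp : r = p := by
    obtain ⟨n, hn⟩ := IsPGroup.iff_card.1 hYp
    rw [hn] at hdr
    exact (Nat.prime_dvd_prime_iff_eq hr hp.out).1 (hr.dvd_of_dvd_pow hdr)
  subst hrp
  have h1 : zpowers y ≤ A := by
    apply thm126a hG hexc h.hE h.ae ((zpowers_le.2 hy).trans (hY.trans f7))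
    intro x hx
    obtain ⟨k, rfl⟩ := mem_zpowers_iff.1 hx
    rw [← zpow_natCast, ← zpow_mul, mul_comm, zpow_mul, zpow_natCast, ← hyo, pow_orderOf_eq_one, one_zpow]
  have h2 : y ∈ X ⊓ Y := mem_inf.2 ⟨hBX (hBA' ▸ h1 (mem_zpowers y)), hy⟩
  rw [hd, mem_bot] at h2
  rw [h2, orderOf_one] at hyo
  exact hp.out.one_lt.ne hyo

theorem Ab.free_cyc (hG : IsMinSimpleOddOrder G) {M E A S : Subgroup G} {p : ℕ} [hp : Fact p.Prime] (h : Ab M E p A S)
    {Z : Subgroup G} (hZ : Z ≤ S) (hc : IsCyclic Z) (hn : normalizer (S : Set G) ≤ normalizer (Z : Set G)) :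
    ∀ z ∈ Z, orderOf z = p → sigmaCore M ⊓ centralizer ({z} : Set G) = ⊥ := by
  intro z hz hzo
  rw [← centralizer_zpowers]
  apply h.inv_free hG ((zpowers_le.2 hz).trans hZ) (by rw [Nat.card_zpowers, hzo])
  exact normal_of_cyclic hc (zpowers_le.2 hz) hn

theorem Ab.good_of_d (hG : IsMinSimpleOddOrder G) {M E A S : Subgroup G} {p : ℕ} [hp : Fact p.Prime] (h : Ab M E p A S)
    {d : G} (hd : d ∈ normalizer (S : Set G)) (hcop : (Nat.card (zpowers d)).Coprime (Nat.card S))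
    (hdc : d ∉ centralizer (S : Set G)) (hne : S ⊓ centralizer ({d} : Set G) ≠ ⊥) : ∃ Z : Subgroup G, Good M E p S Z := by
  obtain ⟨f1, f2, f3, f4, f5, f6, f7⟩ := h.facts hG
  haveI := h.ab
  have hdS : zpowers d ≤ normalizer (S : Set G) := zpowers_le.2 hd
  have hcc := h.comm_cent hG
  have h0 := H1.Coprime.inf_commutator_eq_bot_of_abelian (zpowers d) S hdS hcop
  have h1 := H1.Coprime.commutator_sup_centralizer (zpowers d) S hdS hcop (Or.inl inferInstance)
  have h2S : ⁅S, zpowers d⁆ ≤ S := H1.Coprime.commutator_le_of_le_normalizer hdS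
  have h1S : S ⊓ centralizer (zpowers d : Set G) ≤ S := inf_le_left
  have h2b : ⁅S, zpowers d⁆ ≠ ⊥ := by
    intro hb
    apply hdc
    rw [commutator_eq_bot_iff_le_centralizer] at hb
    rw [mem_centralizer_iff]
    intro s hs
    exact ((mem_centralizer_iff.1 (hb hs)) d (mem_zpowers d)).symm
  have h1b : S ⊓ centralizer (zpowers d : Set G) ≠ ⊥ := by rwa [centralizer_zpowers]
  have c1 := h.cyc_of hG h1S h2S h0 h2b
  have c2 := h.cyc_of hG h2S h1S (by rw [inf_comm]; exact h0) h1b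
  have n1 := normalizer_le_inf_cent hdS hcc
  have n2 := normalizer_le_comm hdS hcc
  have fr1 := h.free_cyc hG h1S c1 n1
  have fr2 := h.free_cyc hG h2S c2 n2
  obtain ⟨a, ha⟩ := IsPGroup.iff_card.1 (h.syl.isPGroup.to_le h1S)
  obtain ⟨b, hb⟩ := IsPGroup.iff_card.1 (h.syl.isPGroup.to_le h2S)
  have hord : ∀ s ∈ S, orderOf s ∣ p ^ max a b := by
    intro s hs
    rw [← h1] at hs
    have hn12 : S ⊓ centralizer (zpowers d : Set G) ≤ normalizer ((⁅S, zpowers d⁆ : Subgroup G) : Set G) :=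
      (h1S.trans (le_normalizer)).trans n2
    obtain ⟨t, ht, c, hc, rfl⟩ := (H22.Basic.mem_sup_of_le_normalizer hn12).1 hs
    have hcomm : Commute t c := mem_centralizer_iff.1 (le_cent_self h.ab (h1S hc)) t (h2S ht)
    refine (hcomm.orderOf_mul_dvd_lcm).trans (Nat.lcm_dvd ?_ ?_)
    · refine (Subgroup.orderOf_dvd_natCard _ ht).trans ?_
      rw [hb]
      exact pow_dvd_pow p (le_max_right a b)
    · refine (Subgroup.orderOf_dvd_natCard _ hc).trans ?_
      rw [ha]
      exact pow_dvd_pow p (le_max_left a b)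
  rcases le_total a b with hab | hab
  · refine ⟨_, h2S, f6.trans n2, c2, ?_, fr2⟩
    rw [hb]
    rwa [max_eq_right hab] at hord
  · refine ⟨_, h1S, f6.trans n1, c1, ?_, fr1⟩
    rw [ha]
    rwa [max_eq_left hab] at hord

theorem exists_last {p : ℕ} {e : G} {C : Subgroup G} (he : ∃ k, e ^ (p ^ k) = 1) (hn : e ∉ C) :
    ∃ e' ∈ zpowers e, e' ∉ C ∧ e' ^ p ∈ C := by
  classical
  have hex : ∃ k, e ^ (p ^ k) ∈ C := by
    obtain ⟨k, hk⟩ := he
    exact ⟨k, hk ▸ one_mem C⟩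
  have h1 := Nat.find_spec hex
  have h0 : Nat.find hex ≠ 0 := by
    intro h
    rw [h, pow_zero, pow_one] at h1
    exact hn h1
  refine ⟨e ^ (p ^ (Nat.find hex - 1)), pow_mem (mem_zpowers e) _, Nat.find_min hex (by omega), ?_⟩
  rw [← pow_mul, ← pow_succ, Nat.sub_add_cancel (Nat.one_le_iff_ne_zero.2 h0)]
  exact h1

theorem Ab.exists_d (hG : IsMinSimpleOddOrder G) {M E A S : Subgroup G} {p : ℕ} [hp : Fact p.Prime] (h : Ab M E p A S)
    (hF : Free M E) (hAll : AllAb M E) (hES : ¬ E ≤ centralizer (S : Set G)) :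
    ∃ d ∈ normalizer (S : Set G), (Nat.card (zpowers d)).Coprime (Nat.card S) ∧ d ∉ centralizer (S : Set G) ∧
      S ⊓ centralizer ({d} : Set G) ≠ ⊥ := by
  obtain ⟨f1, f2, f3, f4, f5, f6, f7⟩ := h.facts hG
  obtain ⟨A₁, hexc⟩ := h.exc
  have hM := h.hM
  have hSE : IsSylIn p S E := h.syl.mono f7 le_top
  have hsE := compl_sigmaC hG hM h.hE
  have hSc := le_cent_self h.ab
  have hSb : S ≠ ⊥ := by
    rintro rfl
    have := h.asl
    rw [le_bot_iff] at this
    have h2 := hexc.e2.card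
    rw [this, card_bot] at h2
    have := hp.out.one_lt
    nlinarith
  have hSt : S ≠ ⊤ := ne_top_of_isPGroup hG h.syl.isPGroup
  -- a `q`-element outside the centralizer
  obtain ⟨q, hq, T, hT, hTS⟩ : ∃ q : ℕ, q.Prime ∧ ∃ T : Subgroup G, IsSylIn q T E ∧ ¬ T ≤ centralizer (S : Set G) := by
    by_contra hcon
    push Not at hcon
    exact hES (le_of_sylow fun q hq _ T hT => hcon q hq T hT)
  haveI := Fact.mk hq
  have hqp : q ≠ p := by
    rintro rfl
    have : T = S := by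
      obtain ⟨x, hx, hxe⟩ := hSE.exists_conj_eq hT
      rw [cj_eq_iff, cj_eq_of_mem_normalizer (f6 (inv_mem hx))] at hxe
      exact hxe
    exact hTS (this ▸ hSc)
  obtain ⟨e, heT, heS⟩ := SetLike.not_le_iff_exists.1 hTS
  have heE : e ∈ E := hT.le heT
  have hcopq : ∀ X : Subgroup G, IsPGroup q X → (Nat.card X).Coprime (Nat.card S) := by
    intro X hX
    obtain ⟨m, hm⟩ := IsPGroup.iff_card.1 hX
    obtain ⟨n, hn⟩ := IsPGroup.iff_card.1 h.syl.isPGroup
    rw [hm, hn]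
    exact Nat.Coprime.pow _ _ ((Nat.coprime_primes hq hp.out).2 hqp)
  have heq : IsPGroup q (zpowers e) := hT.isPGroup.to_le (zpowers_le.2 heT)
  by_cases hce : S ⊓ centralizer ({e} : Set G) = ⊥
  swap
  · exact ⟨e, f6 heE, hcopq _ heq, heS, hce⟩
  have he1 : e ≠ 1 := by
    rintro rfl
    exact heS (one_mem _)
  -- `q ∉ τ₂`
  have hqτ : q ∉ tau2 M := by
    intro hqt
    apply hTS
    refine le_trans ?_ f2
    apply tau2_le_fitting hG hexc h.t2 h.hE h.ae h.syl h.asl h.ab hT.le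
    intro r hr hd
    obtain ⟨n, hn⟩ := IsPGroup.iff_card.1 hT.isPGroup
    rw [hn] at hd
    rw [(Nat.prime_dvd_prime_iff_eq hr hq).1 (hr.dvd_of_dvd_pow hd)]
    exact hqt
  have hdo : q ∣ orderOf e := by
    obtain ⟨n, hn⟩ := (IsPGroup.iff_orderOf.1 heq) ⟨e, mem_zpowers e⟩
    rw [orderOf_mk] at hn
    rw [hn]
    apply dvd_pow_self
    rintro rfl
    rw [pow_zero, orderOf_eq_one_iff] at hn
    exact he1 hn
  have hdE : q ∣ Nat.card E := hdo.trans (Subgroup.orderOf_dvd_natCard _ heE)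
  have hr1 : PRankLE q 1 M := by
    rcases H12.BG13.tau_cases hG hM hq (hdE.trans (card_dvd_of_le h.hE.1)) (hsE q hq hdE) with g1 | g2 | g3
    · exact g1.2.2.2.2
    · exact absurd g2 hqτ
    · exact g3.2.2.2
  obtain ⟨z, hz, hzo⟩ := exists_pow_order hq hdo
  have hzE : z ∈ E := zpowers_le.2 heE hz
  have hzS : z ∈ centralizer (S : Set G) := h.c0 hG hF hq hzE hzo hqτ
  have hzn : E ≤ normalizer (zpowers z : Set G) := zp_normal hG hM h.hE hF hAll hq hzE hzo hqτ
  -- `N(S) ≤ N(⟨z⟩)`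
  have hNz : normalizer (S : Set G) ≤ normalizer (zpowers z : Set G) := by
    intro g hg
    rw [mem_normalizer_iff_cj]
    have h1 : cj g (zpowers z) ≤ E := by
      have h2 : zpowers z ≤ centralizer (S : Set G) := zpowers_le.2 hzS
      have h3 := cj_mono (g := g) h2
      rw [cj_centralizer, cj_eq_of_mem_normalizer hg] at h3
      exact h3.trans f3
    obtain ⟨l, hl, hle⟩ := prime_conj (p := q) hG (zpowers_le.2 hzE) h1 (by rw [Nat.card_zpowers, hzo])
      (by rw [card_cj, Nat.card_zpowers, hzo]) (SCN.pRankLE_mono h.hE.1 hr1)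
    rw [← hle, cj_eq_of_mem_normalizer (hzn hl)]
  have hzb : zpowers z ≠ ⊥ := by
    intro hb
    rw [zpowers_eq_bot] at hb
    rw [hb, orderOf_one] at hzo
    exact hq.one_lt.ne hzo
  have hzp : IsPGroup q (zpowers z) := heq.to_le (zpowers_le.2 hz)
  obtain ⟨L, hL, hNL⟩ := exists_isCoatom_ge (normalizer_ne_top hG hzb (ne_top_of_isPGroup hG hzp))
  have hSNL : normalizer (S : Set G) ≤ L := hNz.trans hNL
  have hSL : S ≤ L := le_normalizer.trans hSNL
  have hSsL : IsSylIn p S L := h.syl.mono hSL le_top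
  have hpS : p ∣ Nat.card S := by
    have : p ^ 2 ∣ Nat.card S := hexc.e2.card ▸ card_dvd_of_le h.asl
    exact (dvd_pow_self p two_ne_zero).trans this
  have hpσL : p ∈ sigma L := sigma_of_normalizer hp.out (hpS.trans (card_dvd_of_le hSL)) hSsL hSNL
  have heL : e ∈ L := hSNL (f6 heE)
  -- `p ∉ β(L)`
  have hpβ : p ∉ beta L := by
    intro hβ
    have h1 : p ∈ alpha L := beta_subset_alpha L hβ
    apply h1.2
    exact pRankLE_of_isSylIn hSsL (SCN.pRankLE_mono (f7.trans h.hE.1) h.t2.2.2.1)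
  -- `q ∉ σ(L)`
  have hqσL : q ∉ sigma L := by
    intro hqσ
    have h1 : zpowers e ≤ ⁅L, L⁆ :=
      (le_sigmaCore_of_pgroup hG hL heq (zpowers_le.2 heL) hqσ).trans (sigmaCore_le_commutator hG hL)
    have h2 : S ≤ ⁅L, L⁆ :=
      (le_sigmaCore_of_pgroup hG hL h.syl.isPGroup hSL hpσL).trans (sigmaCore_le_commutator hG hL)
    have h3 := npc_inf (npc_commutator hG hL hpβ) (hSsL.mono h2 (commutator_le_self L))
    have h4 : ⁅S, S⁆ = ⊥ := commutator_eq_bot_iff_le_centralizer.2 hSc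
    rw [h4] at h3
    apply heS
    have h5 : ⁅S, zpowers e⁆ ≤ S ⊓ ⁅⁅L, L⁆, ⁅L, L⁆⁆ :=
      le_inf (H1.Coprime.commutator_le_of_le_normalizer ((zpowers_le.2 heE).trans f6)) (commutator_mono h2 h1)
    have h6 : ⁅S, zpowers e⁆ = ⊥ := le_bot_iff.1 (h5.trans h3)
    rw [commutator_eq_bot_iff_le_centralizer] at h6
    rw [mem_centralizer_iff]
    intro s hs
    exact ((mem_centralizer_iff.1 (h6 hs)) e (mem_zpowers e)).symm
  have hqτL : q ∈ tau2 L := (thm122a hG hL hzp hzb hNL).resolve_left hqσL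
  -- the Sylow subgroup `Q`
  have hLf : sigmaCore L ⊔ normalizer (S : Set G) = L := by
    apply le_antisymm (sup_le (sigmaCore_le L) hSNL)
    have hS0 : S ≤ sigmaCore L := le_sigmaCore_of_pgroup hG hL h.syl.isPGroup hSL hpσL
    intro g hg
    obtain ⟨n, hn, m, hm, rfl⟩ := (hSsL.mono hS0 (sigmaCore_le L)).frattini (sigmaCore_le L) (le_normalizer_sigmaCore L) hg
    exact mul_mem (mem_sup_left hn) (mem_sup_right (mem_inf.1 hm).2)
  obtain ⟨Q, heQ, hQN⟩ := exists_isSylIn_ge (p := q) (H := normalizer (S : Set G)) heq ((zpowers_le.2 heE).trans f6)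
  have hQL : IsSylIn q Q L := by
    refine syl_of_factor hLf.symm (hSNL.trans (le_normalizer_sigmaCore L)) ?_ hQN
    intro hd
    exact hqσL (H12.BG13.sigmaCore_pi L q hq hd)
  have hQab : IsMulCommutative Q := thm125b hG hL hqτL hQL
  have hQc := le_cent_self hQab
  have hcomm : ∀ x ∈ Q, ∀ y ∈ Q, Commute x y := fun x hx y hy => mem_centralizer_iff.1 (hQc hy) x hx
  have heQ' : e ∈ Q := heQ (mem_zpowers e)
  have hzQ : z ∈ Q := heQ hz
  -- `b`
  obtain ⟨b, hbQ, hbq, hbM⟩ : ∃ b ∈ Q, b ^ q = 1 ∧ b ∉ M := by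
    by_contra hcon
    push Not at hcon
    have h1 : ¬ PRankLE q 1 Q := fun hh => hqτL.2.2.2 (pRankLE_of_isSylIn hQL hh)
    obtain ⟨B, hBQ, hB, hBc⟩ := exists_ea_sq_of_not_rank_one h1
    have h2 : B ≤ M := fun b hb => hcon b (hBQ hb) (hB.2 b hb)
    have h3 := SCN.pRankLE_iff.1 hr1 B h2 hB
    rw [hBc] at h3
    have := hq.one_lt
    nlinarith
  -- the group `P₁`
  let P₁ : Subgroup G :=
    { carrier := {x | x ∈ Q ∧ x ^ q ∈ centralizer (S : Set G)}
      mul_mem' := by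
        rintro x y ⟨hx, hx'⟩ ⟨hy, hy'⟩
        refine ⟨mul_mem hx hy, ?_⟩
        rw [(hcomm x hx y hy).mul_pow]
        exact mul_mem hx' hy'
      one_mem' := ⟨one_mem _, by rw [one_pow]; exact one_mem _⟩
      inv_mem' := by
        rintro x ⟨hx, hx'⟩
        refine ⟨inv_mem hx, ?_⟩
        rw [inv_pow]
        exact inv_mem hx' }
  have hP₁ : ∀ x, x ∈ P₁ ↔ x ∈ Q ∧ x ^ q ∈ centralizer (S : Set G) := fun x => Iff.rfl
  have hP₁Q : P₁ ≤ Q := fun x hx => ((hP₁ x).1 hx).1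
  set Z := Q ⊓ centralizer (S : Set G) with hZ
  have hZP : Z ≤ P₁ := fun x hx => (hP₁ x).2 ⟨(mem_inf.1 hx).1, pow_mem (mem_inf.1 hx).2 _⟩
  have hZM : Z ≤ M := inf_le_right.trans (f3.trans h.hE.1)
  have hcard : q * Nat.card Z < Nat.card P₁ := by
    by_contra hle
    push Not at hle
    have hbP : b ∈ P₁ := (hP₁ b).2 ⟨hbQ, by rw [hbq]; exact one_mem _⟩
    have hb1 : b ≠ 1 := by rintro rfl; exact hbM (one_mem _)
    have hbo : orderOf b = q := orderOf_eq_prime hbq hb1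
    have hbprime : ∀ k : ℤ, b ^ k ∈ M → b ^ k = 1 := by
      intro k hk
      by_contra hk1
      apply hbM
      have h1 : zpowers (b ^ k) = zpowers b := by
        apply eq_of_le_of_card_ge (zpowers_le.2 (zpow_mem (mem_zpowers b) k))
        rw [Nat.card_zpowers, Nat.card_zpowers, hbo]
        have h2 : orderOf (b ^ k) = q := by
          apply orderOf_eq_prime _ hk1
          rw [← zpow_natCast, ← zpow_mul, mul_comm, zpow_mul, zpow_natCast, hbq, one_zpow]
        rw [h2]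
      have h3 : b ∈ zpowers (b ^ k) := h1 ▸ mem_zpowers b
      exact (zpowers_le.2 hk) h3
    have hdisj : Z ⊓ zpowers b = ⊥ := by
      rw [eq_bot_iff]
      intro x hx
      obtain ⟨hx1, hx2⟩ := mem_inf.1 hx
      obtain ⟨k, rfl⟩ := mem_zpowers_iff.1 hx2
      rw [mem_bot]
      exact hbprime k (hZM hx1)
    have hbZ : zpowers b ≤ normalizer (Z : Set G) := by
      have h1 : zpowers b ≤ centralizer (Z : Set G) :=
        (zpowers_le.2 hbQ).trans (hQc.trans (centralizer_le inf_le_left))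
      exact h1.trans (centralizer_le_normalizer _)
    have hcs := H22.Basic.card_sup_of_inf_eq_bot hbZ hdisj
    have heq2 : Z ⊔ zpowers b = P₁ := by
      apply eq_of_le_of_card_ge (sup_le hZP (zpowers_le.2 hbP))
      rw [hcs, Nat.card_zpowers, hbo, mul_comm]
      exact hle
    obtain ⟨e', he'e, he'S, he'q⟩ := exists_last (p := q) (C := centralizer (S : Set G))
      (by obtain ⟨k, hk⟩ := heq ⟨e, mem_zpowers e⟩
          exact ⟨k, by simpa using congrArg Subtype.val hk⟩) heS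
    have he'P : e' ∈ P₁ := (hP₁ e').2 ⟨heQ he'e, he'q⟩
    rw [← heq2] at he'P
    obtain ⟨c, hc, w, hw, hcw⟩ := (H22.Basic.mem_sup_of_le_normalizer hbZ).1 he'P
    obtain ⟨k, rfl⟩ := mem_zpowers_iff.1 hw
    have he'M : e' ∈ M := h.hE.1 (zpowers_le.2 heE he'e)
    have hbk : b ^ k ∈ M := by
      have h1 : b ^ k = c⁻¹ * e' := by rw [← hcw]; group
      rw [h1]
      exact mul_mem (inv_mem (hZM hc)) he'M
    apply he'S
    rw [← hcw, hbprime k hbk, mul_one]
    exact (mem_inf.1 hc).2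
  obtain ⟨y, hyP, hyZ, hyS⟩ := exists_one_mod (p := q) (P₁ := P₁) (Z := Z) (V := S) (D := ⊥) hZP
    (by
      have : ⁅P₁, P₁⁆ ≤ ⁅Q, Q⁆ := commutator_mono hP₁Q hP₁Q
      rw [commutator_eq_bot_iff_le_centralizer.2 hQc] at this
      exact this.trans bot_le)
    (fun x hx => mem_inf.2 ⟨pow_mem (hP₁Q hx) _, ((hP₁ x).1 hx).2⟩) hcard
    (hP₁Q.trans (hQc.trans (centralizer_le inf_le_left)))
    (le_centralizer_iff.1 inf_le_right) (hP₁Q.trans hQN.le) (hcopq _ (hQN.isPGroup.to_le hP₁Q))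
    (fun hh => hSb (le_bot_iff.1 hh))
  refine ⟨y, hQN.le (hP₁Q hyP), hcopq _ (hQN.isPGroup.to_le (zpowers_le.2 (hP₁Q hyP))), ?_, fun hh => hyS hh.le⟩
  intro hyc
  exact hyZ (mem_inf.2 ⟨hP₁Q hyP, hyc⟩)

theorem Ab.good (hG : IsMinSimpleOddOrder G) {M E A S : Subgroup G} {p : ℕ} [hp : Fact p.Prime] (h : Ab M E p A S)
    (hF : Free M E) (hAll : AllAb M E) : ∃ Z : Subgroup G, Good M E p S Z := by
  by_cases hES : E ≤ centralizer (S : Set G)
  · exact h.good_of_cent hG hES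
  · obtain ⟨d, h1, h2, h3, h4⟩ := h.exists_d hG hF hAll hES
    exact h.good_of_d hG h1 h2 h3 h4

theorem exponent_dvd_of {E E₀ : Subgroup G}
    (h : ∀ (q k : ℕ), q.Prime → ∀ e ∈ E, orderOf e = q ^ k → ∃ e₀ ∈ E₀, orderOf e ∣ orderOf e₀) :
    Monoid.exponent E ∣ Monoid.exponent E₀ := by
  rw [Monoid.exponent_dvd]
  intro e
  rw [Nat.dvd_iff_prime_pow_dvd_dvd]
  intro q k hq hd
  have hd' : q ^ k ∣ orderOf (e : G) := by rwa [orderOf_coe]
  have h1 : orderOf ((e : G) ^ (orderOf (e : G) / q ^ k)) = q ^ k :=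
    orderOf_pow_orderOf_div (orderOf_pos _).ne' hd'
  obtain ⟨e₀, he₀, h2⟩ := h q k hq _ (pow_mem e.2 _) h1
  rw [h1] at h2
  refine h2.trans ?_
  have h3 := Monoid.order_dvd_exponent (⟨e₀, he₀⟩ : E₀)
  rwa [orderOf_mk] at h3

theorem exponent_dvd_of_le {E E₀ : Subgroup G} (h : E₀ ≤ E) : Monoid.exponent E₀ ∣ Monoid.exponent E := by
  rw [Monoid.exponent_dvd]
  intro e
  have h3 := Monoid.order_dvd_exponent (⟨e, h e.2⟩ : E)
  rwa [orderOf_mk, orderOf_coe] at h3

theorem mem_of_sup {p : ℕ} [hp : Fact p.Prime] {Z W : Subgroup G} (hZ : IsPGroup p Z) (hn : W ≤ normalizer (Z : Set G))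
    (hW : ¬ p ∣ Nat.card W) {y : G} (hy : y ∈ Z ⊔ W) (hyp : IsPGroup p (zpowers y)) : y ∈ Z := by
  have hS : IsSylIn p Z (Z ⊔ W) := by
    refine ⟨le_sup_left, hZ, fun hd => hW (hd.trans ?_)⟩
    have h1 := H12.Hall.relIndex_mul (A := Z) (B := Z ⊔ W) le_sup_left
    have h2 := Core.card_sup_dvd (A := W) (B := Z) hn
    rw [sup_comm W Z, ← h1] at h2
    exact Nat.dvd_of_mul_dvd_mul_right Nat.card_pos h2
  obtain ⟨x, hx, hle⟩ := hS.exists_conj_le hyp (zpowers_le.2 hy)
  have hxn : x ∈ normalizer (Z : Set G) := (sup_le le_normalizer hn) hx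
  rw [cj_le_iff, cj_eq_of_mem_normalizer (inv_mem hxn)] at hle
  exact hle (mem_zpowers y)

theorem pg_of_order {p k : ℕ} {y : G} (h : orderOf y = p ^ k) : IsPGroup p (zpowers y) := by
  apply IsPGroup.of_card (n := k)
  rw [Nat.card_zpowers, h]

/-- 12.12 (b) in the abelian case -/
theorem exists_E0_ab (hG : IsMinSimpleOddOrder G) {M E : Subgroup G} (hM : IsCoatom M) (hE : IsComplIn E (sigmaCore M) M)
    (hF : Free M E) (hAll : AllAb M E) : ∃ E₀ : Subgroup G, E₀ ≤ E ∧ Monoid.exponent E₀ = Monoid.exponent E ∧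
      ∀ e ∈ E₀, e ≠ 1 → sigmaCore M ⊓ centralizer ({e} : Set G) = ⊥ := by
  classical
  have hEs : Group.IsSolvable E := solv_E hG hM hE.1
  have key : ∀ p : ℕ, ∃ S Z : Subgroup G, Z ≤ E ∧ E ≤ normalizer (Z : Set G) ∧ (p ∉ tau2 M → Z = ⊥) ∧
      (p ∈ tau2 M → E ≤ normalizer (S : Set G) ∧ IsSylIn p S E ∧ Good M E p S Z) := by
    intro p
    by_cases hp : p ∈ tau2 M
    · haveI := Fact.mk hp.1
      obtain ⟨A, S, hAS⟩ := hAll p hp
      obtain ⟨f1, f2, f3, f4, f5, f6, f7⟩ := hAS.facts hG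
      obtain ⟨Z, hZ⟩ := hAS.good hG hF hAll
      exact ⟨S, Z, hZ.1.trans f7, hZ.2.1, fun h => absurd hp h, fun _ => ⟨f6, hAS.syl.mono f7 le_top, hZ⟩⟩
    · exact ⟨⊥, ⊥, bot_le, Core.le_normalizer_of_normal E ⊥, fun _ => rfl, fun h => absurd h hp⟩
  choose S Z hZE hEZ hZb hgood using key
  have hZp : ∀ p : ℕ, p.Prime → IsPGroup p (Z p) := by
    intro p hp
    by_cases h : p ∈ tau2 M
    · obtain ⟨h1, h2, h3⟩ := hgood p h
      exact h2.isPGroup.to_le h3.1
    · rw [hZb p h]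
      exact IsPGroup.of_bot
  obtain ⟨H, hH⟩ := H12.Hall.exists_hall hEs (tau2 M)ᶜ
  have hHE : H ≤ E := hH.1
  have hE₀E : H ⊔ ⨆ p, Z p ≤ E := sup_le hHE (iSup_le hZE)
  have hmem : ∀ p ∈ tau2 M, ∀ y ∈ H ⊔ ⨆ p, Z p, orderOf y = p → y ∈ Z p := by
    intro p hp y hy hyo
    haveI := Fact.mk hp.1
    have hOc := Oc_coprime hp.1 E
    refine mem_of_sup (W := Oc p E ⊔ H) (hZp p hp.1) ?_ ?_ ?_ (pg_of_order (k := 1) (by rw [hyo, pow_one]))
    · exact (sup_le (Oc_le p E) hHE).trans (hEZ p)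
    · have h1 := Core.card_sup_dvd (A := H) (B := Oc p E) (hHE.trans (le_normalizer_Oc p E))
      rw [sup_comm]
      intro hd
      rcases (Nat.Prime.dvd_mul hp.1).1 (hd.trans h1) with h2 | h2
      · exact H12.Hall.pi hH p hp.1 h2 hp
      · exact (Nat.Prime.coprime_iff_not_dvd hp.1).1 hOc.symm h2
    · have h2 : H ⊔ ⨆ p, Z p ≤ Z p ⊔ (Oc p E ⊔ H) := by
        apply sup_le (le_sup_right.trans le_sup_right)
        apply iSup_le
        intro r
        by_cases hrp : r = p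
        · rw [hrp]; exact le_sup_left
        · by_cases hr : r ∈ tau2 M
          · refine le_trans ?_ (le_sup_left.trans le_sup_right)
            apply le_Oc hp.1 (hZE r) (hEZ r)
            obtain ⟨n, hn⟩ := (haveI := Fact.mk hr.1; IsPGroup.iff_card.1 (hZp r hr.1))
            rw [hn]
            exact Nat.Coprime.pow_left n ((Nat.coprime_primes hr.1 hp.1).2 hrp)
          · rw [hZb r hr]; exact bot_le
      exact h2 hy
  refine ⟨H ⊔ ⨆ p, Z p, hE₀E, ?_, ?_⟩
  · apply Nat.dvd_antisymm (exponent_dvd_of_le hE₀E)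
    apply exponent_dvd_of
    intro q k hq e he heo
    haveI := Fact.mk hq
    by_cases hqt : q ∈ tau2 M
    · obtain ⟨h1, h2, h3⟩ := hgood q hqt
      have heS : e ∈ S q := by
        obtain ⟨x, hx, hle⟩ := h2.exists_conj_le (pg_of_order heo) (zpowers_le.2 he)
        rw [cj_le_iff, cj_eq_of_mem_normalizer (h1 (inv_mem hx))] at hle
        exact hle (mem_zpowers e)
      haveI := h3.2.2.1
      obtain ⟨g, hg⟩ := IsCyclic.exists_ofOrder_eq_natCard (α := Z q)
      refine ⟨g, mem_sup_right (mem_iSup_of_mem q g.2), ?_⟩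
      rw [orderOf_coe, hg]
      exact h3.2.2.2.1 e heS
    · obtain ⟨l, hl, hle⟩ := H12.Hall.hall_dom (X := zpowers e) hEs hH (by
        rw [Nat.card_zpowers, heo]
        intro r hr hd
        rw [(Nat.prime_dvd_prime_iff_eq hr hq).1 (hr.dvd_of_dvd_pow hd)]
        exact hqt) (zpowers_le.2 he)
      refine ⟨l * e * l⁻¹, mem_sup_left (hle (conj_mem_cj (mem_zpowers e))), ?_⟩
      have := orderOf_injective (MulAut.conj l).toMonoidHom (MulAut.conj l).injective e
      simp only [MulEquiv.toMonoidHom_eq_coe, MonoidHom.coe_coe, MulAut.conj_apply] at this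
      rw [this]
  · intro e he he1
    by_contra hne
    obtain ⟨q, hq, w, hw, hwo, hwne⟩ := exists_free he1 hne
    have hw0 := zpowers_le.2 he hw
    by_cases hqt : q ∈ tau2 M
    · exact hwne ((hgood q hqt).2.2.2.2.2.2 w (hmem q hqt w hw0 hwo) hwo)
    · exact hwne (hF w (hE₀E hw0) q hq hwo hqt)

/-- 12.12 (a) in the abelian case -/
theorem cent_le_ab (hG : IsMinSimpleOddOrder G) {M E : Subgroup G} (hE : IsComplIn E (sigmaCore M) M)
    (hF : Free M E) (hAll : AllAb M E) {x : G} (hx : x ∈ sigmaCore M) (hx1 : x ≠ 1) :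
    E ⊓ centralizer ({x} : Set G) ≤ fittingOf E := by
  intro e he
  obtain ⟨he1, he2⟩ := mem_inf.1 he
  by_cases h1 : e = 1
  · rw [h1]; exact one_mem _
  have hτ : ∀ q : ℕ, q.Prime → q ∣ orderOf e → q ∈ tau2 M := fun q hq hd => mem_tau2_of hF he1 hx hx1 he2 hq hd
  obtain ⟨p, hp, hd⟩ := Nat.exists_prime_and_dvd (n := orderOf e) (by rwa [Ne, orderOf_eq_one_iff])
  haveI := Fact.mk hp
  obtain ⟨A, S, hAS⟩ := hAll p (hτ p hp hd)
  obtain ⟨A₁, hexc⟩ := hAS.exc
  have := tau2_le_fitting hG hexc hAS.t2 hE hAS.ae hAS.syl hAS.asl hAS.ab (X := zpowers e) (zpowers_le.2 he1)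
    (by rw [Nat.card_zpowers]; exact hτ)
  exact this (mem_zpowers e)

/-- the nonabelian case: structure of a Sylow subgroup -/
theorem nonab_struct (hG : IsMinSimpleOddOrder G) {M E A A₁ P : Subgroup G} {p : ℕ} [hp : Fact p.Prime]
    (hexc : Exc M p A A₁) (hp2 : p ∈ tau2 M) (hE : IsComplIn E (sigmaCore M) M) (hAP : A ≤ P) (hP : IsSylIn p P E)
    (hn : ∀ S : Subgroup G, IsSylIn p S ⊤ → ¬ IsMulCommutative S) :
    ∃ Y : Subgroup G, IsCyclic Y ∧ Y ≤ P ∧ (A ⊓ centralizer (sigmaCore M : Set G)) ⊓ Y = ⊥ ∧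
      (A ⊓ centralizer (sigmaCore M : Set G)) ⊔ Y = P ∧ p ∣ Nat.card Y := by
  have hpp := hp.out
  have hM := hexc.co
  have hAE : A ≤ E := hAP.trans hP.le
  have hPM : IsSylIn p P M := H12.Hall.sylow_trans (compl_hall hG hM hE) hp2.2.1 hP
  obtain ⟨h1, h2, h3, h4⟩ := thm127 hG hexc hp2 hE hAE hn
  obtain ⟨S, hPS, hS⟩ := exists_isSylIn_ge (p := p) (H := ⊤) hP.isPGroup le_top
  obtain ⟨k1, k2, ⟨Y, k3, k4, k5, k6, k7⟩, k8⟩ := thm1013 hG hS.isPGroup hexc.e2 (hAP.trans hPS) (hn S hS)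
  set A₀ := A ⊓ centralizer (sigmaCore M : Set G) with hA₀
  have hne : A₀ ≠ OZ p S := by
    intro he
    have h5 : normalizer (S : Set G) ≤ M := by
      rw [← h4, he]
      exact normalizer_le_OZ p S
    have h6 : S ≤ M := le_normalizer.trans h5
    have h7 : IsSylIn p S M := hS.mono h6 le_top
    apply hp2.2.1
    apply sigma_of_normalizer hpp _ h7 h5
    have h8 : p ∣ Nat.card S := by
      have : p ^ 2 ∣ Nat.card S := hexc.e2.card ▸ card_dvd_of_le (hAP.trans hPS)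
      exact (dvd_pow_self p two_ne_zero).trans this
    exact h8.trans (card_dvd_of_le h6)
  obtain ⟨m1, m2⟩ := k7 A₀ inf_le_left h1 hne
  have hPab : IsMulCommutative P := thm125b hG hM hp2 hPM
  have hSC : S ⊓ centralizer (A : Set G) = P := by
    apply hP.eq_of_le (hS.isPGroup.to_le inf_le_left)
    · exact inf_le_right.trans (thm126b hG hexc hE hAE).1
    · exact le_inf hPS ((le_cent_self hPab).trans (centralizer_le hAP))
  refine ⟨Y, k3, ?_, m1, m2.trans hSC, ?_⟩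
  · rw [← hSC, ← m2]; exact le_sup_right
  · rw [← k1]
    exact card_dvd_of_le k5

/-- `C_E(x) ≤ A₀` in the nonabelian case -/
theorem nonab_cent (hG : IsMinSimpleOddOrder G) {M E A A₁ : Subgroup G} {p : ℕ} [hp : Fact p.Prime]
    (hexc : Exc M p A A₁) (hp2 : p ∈ tau2 M) (hE : IsComplIn E (sigmaCore M) M) (hAE : A ≤ E)
    (hn : ∀ S : Subgroup G, IsSylIn p S ⊤ → ¬ IsMulCommutative S) (hF : Free M E)
    (ht : ∀ q ∈ tau2 M, q = p) {x : G} (hx : x ∈ sigmaCore M) (hx1 : x ≠ 1) :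
    E ⊓ centralizer ({x} : Set G) ≤ A ⊓ centralizer (sigmaCore M : Set G) := by
  have hpp := hp.out
  have hM := hexc.co
  obtain ⟨P, hAP, hP⟩ := exists_isSylIn_ge (p := p) (H := E) (ea_isPGroup hexc.e2.ea) hAE
  obtain ⟨Y, y1, y2, y3, y4, y5⟩ := nonab_struct hG hexc hp2 hE hAP hP hn
  obtain ⟨h1, h2, h3, h4⟩ := thm127 hG hexc hp2 hE hAE hn
  set A₀ := A ⊓ centralizer (sigmaCore M : Set G) with hA₀
  have hPM : IsSylIn p P M := H12.Hall.sylow_trans (compl_hall hG hM hE) hp2.2.1 hP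
  have hPab : IsMulCommutative P := thm125b hG hM hp2 hPM
  have hPA : ∀ x ∈ P, x ^ p = 1 → x ∈ A := (hexc.thm116 hG hPM hAP).1
  have hA₀P : A₀ ≤ P := inf_le_left.trans hAP
  -- the claim for elements of `P`
  have claim : ∀ e ∈ P, ∀ x ∈ sigmaCore M, x ≠ 1 → e ∈ centralizer ({x} : Set G) → e ∈ A₀ := by
    intro e he x hx hx1 hex
    by_contra heA
    have he1 : e ≠ 1 := by rintro rfl; exact heA (one_mem _)
    have hwA : ∀ w ∈ zpowers e, w ^ p = 1 → w ≠ 1 → w ∈ A₀ ∧ zpowers w = A₀ := by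
      intro w hw hwp hw1
      have hwo : orderOf w = p := orderOf_eq_prime hwp hw1
      have hwP : w ∈ P := zpowers_le.2 he hw
      have hwA := hPA w hwP hwp
      have hwA₀ : zpowers w = A₀ := by
        by_contra hne
        have h5 := (h3 (zpowers w) (zpowers_le.2 hwA) (by rw [Nat.card_zpowers, hwo]) hne).1
        rw [centralizer_zpowers] at h5
        have h6 : x ∈ sigmaCore M ⊓ centralizer ({w} : Set G) := by
          refine mem_inf.2 ⟨hx, cent_mono hw ?_⟩
          rw [mem_centralizer_singleton_iff] at hex ⊢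
          exact hex.symm
        rw [h5, mem_bot] at h6
        exact hx1 h6
      exact ⟨hwA₀ ▸ mem_zpowers w, hwA₀⟩
    by_cases hep : e ^ p = 1
    · exact heA (hwA e (mem_zpowers e) hep he1).1
    · -- `e ^ p ∈ Y`
      obtain ⟨n, hn'⟩ := (IsPGroup.iff_orderOf.1 hP.isPGroup) ⟨e ^ p, pow_mem he _⟩
      rw [orderOf_mk] at hn'
      have hd : p ∣ orderOf (e ^ p) := by
        rw [hn']
        apply dvd_pow_self
        rintro rfl
        rw [pow_zero, orderOf_eq_one_iff] at hn'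
        exact hep hn'
      obtain ⟨w, hw, hwo⟩ := exists_pow_order hpp hd
      have hw1 : w ≠ 1 := by
        rintro rfl
        rw [orderOf_one] at hwo
        exact hpp.one_lt.ne hwo
      have hwe : w ∈ zpowers e := (zpowers_le.2 (pow_mem (mem_zpowers e) p)) hw
      have h5 := (hwA w hwe (hwo ▸ pow_orderOf_eq_one w) hw1).1
      have h6 : e ^ p ∈ Y := by
        have he' := he
        rw [← y4] at he'
        have hYn : Y ≤ normalizer (A₀ : Set G) := by
          refine (y2.trans ((le_cent_self hPab).trans (centralizer_le hA₀P))).trans (centralizer_le_normalizer _)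
        obtain ⟨a, ha, y, hy, rfl⟩ := (H22.Basic.mem_sup_of_le_normalizer hYn).1 he'
        have hcomm : Commute a y := mem_centralizer_iff.1 (le_cent_self hPab (y2 hy)) a (hA₀P ha)
        rw [hcomm.mul_pow, hexc.e2.ea.2 a (mem_inf.1 ha).1, one_mul]
        exact pow_mem hy p
      have h7 : w ∈ A₀ ⊓ Y := mem_inf.2 ⟨h5, (zpowers_le.2 h6) hw⟩
      rw [y3, mem_bot] at h7
      exact hw1 h7
  intro e he
  obtain ⟨he1, he2⟩ := mem_inf.1 he
  have hτ : ∀ q : ℕ, q.Prime → q ∣ orderOf e → q = p := fun q hq hd => ht q (mem_tau2_of hF he1 hx hx1 he2 hq hd)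
  have hep : IsPGroup p (zpowers e) := by
    rw [Core.isPGroup_iff_piNum hpp, Nat.card_zpowers]
    exact fun q hq hd => hτ q hq hd
  obtain ⟨g, hg, hle⟩ := hP.exists_conj_le hep (zpowers_le.2 he1)
  have hgM : g ∈ M := hE.1 hg
  have h5 := claim (g * e * g⁻¹) (hle (conj_mem_cj (mem_zpowers e))) (g * x * g⁻¹)
    ((mem_normalizer_iff.1 (le_normalizer_sigmaCore M hgM) x).1 hx) (by
      intro h
      apply hx1
      have : x = g⁻¹ * (g * x * g⁻¹) * g := by group
      rw [this, h]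
      group) (by
      rw [mem_centralizer_singleton_iff] at he2 ⊢
      rw [show g * e * g⁻¹ * (g * x * g⁻¹) = g * (e * x) * g⁻¹ by group, he2]
      group)
  have h6 : g ∈ normalizer (A₀ : Set G) := h4 ▸ hgM
  exact (mem_normalizer_iff.1 h6 e).2 h5

theorem exists_E0_nonab (hG : IsMinSimpleOddOrder G) {M E A A₁ : Subgroup G} {p : ℕ} [hp : Fact p.Prime]
    (hexc : Exc M p A A₁) (hp2 : p ∈ tau2 M) (hE : IsComplIn E (sigmaCore M) M) (hAE : A ≤ E)
    (hn : ∀ S : Subgroup G, IsSylIn p S ⊤ → ¬ IsMulCommutative S) (hF : Free M E)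
    (ht : ∀ q ∈ tau2 M, q = p) : ∃ E₀ : Subgroup G, E₀ ≤ E ∧ Monoid.exponent E₀ = Monoid.exponent E ∧
      ∀ e ∈ E₀, e ≠ 1 → sigmaCore M ⊓ centralizer ({e} : Set G) = ⊥ := by
  have hpp := hp.out
  have hM := hexc.co
  obtain ⟨P, hAP, hP⟩ := exists_isSylIn_ge (p := p) (H := E) (ea_isPGroup hexc.e2.ea) hAE
  obtain ⟨Y, y1, y2, y3, y4, y5⟩ := nonab_struct hG hexc hp2 hE hAP hP hn
  obtain ⟨h1, h2, h3, h4⟩ := thm127 hG hexc hp2 hE hAE hn
  have hcent := fun {x : G} (hx : x ∈ sigmaCore M) (hx1 : x ≠ 1) =>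
    nonab_cent hG hexc hp2 hE hAE hn hF ht (x := x) hx hx1
  set A₀ := A ⊓ centralizer (sigmaCore M : Set G) with hA₀
  have hPM : IsSylIn p P M := H12.Hall.sylow_trans (compl_hall hG hM hE) hp2.2.1 hP
  have hPab : IsMulCommutative P := thm125b hG hM hp2 hPM
  have hA₀P : A₀ ≤ P := inf_le_left.trans hAP
  have hA₀E : A₀ ≤ E := inf_le_left.trans hAE
  have hEA₀ : E ≤ normalizer (A₀ : Set G) := h4 ▸ hE.1
  have hA₀ab : IsMulCommutative A₀ := comm_mono hA₀P hPab
  haveI : (A₀.subgroupOf E).Normal := Core.normal_subgroupOf_of_le hEA₀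
  haveI : IsMulCommutative (A₀.subgroupOf E) := by
    constructor
    constructor
    rintro ⟨⟨a, ha⟩, ha'⟩ ⟨⟨b, hb⟩, hb'⟩
    apply Subtype.ext
    apply Subtype.ext
    have h5 : a * b = b * a := congrArg Subtype.val (hA₀ab.is_comm.comm (⟨a, ha'⟩ : A₀) ⟨b, hb'⟩)
    exact h5
  obtain ⟨H, hH⟩ := H1.Gaschutz.gaschutz_exists (A₀.subgroupOf E) (P.subgroupOf E)
    (by intro x hx; exact hA₀P hx)
    (by
      rw [show Nat.card (A₀.subgroupOf E) = p by rw [Nat.card_congr (subgroupOfEquivOfLe hA₀E).toEquiv, h1]]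
      exact (Nat.Prime.coprime_iff_not_dvd hpp).2 hP.not_dvd)
    (Y.subgroupOf E) (by intro x hx; exact y2 hx)
    (by
      rw [eq_bot_iff]
      rintro ⟨x, hx⟩ hx'
      have : x ∈ A₀ ⊓ Y := mem_inf.2 ⟨hx'.2, hx'.1⟩
      rw [y3, mem_bot] at this
      rw [mem_bot]
      exact Subtype.ext this)
    (by
      apply map_injective E.subtype_injective
      rw [Subgroup.map_sup, subgroupOf_map_subtype, subgroupOf_map_subtype, subgroupOf_map_subtype,
        inf_eq_left.2 hA₀E, inf_eq_left.2 (y2.trans hP.le), inf_eq_left.2 hP.le, y4])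
  set E₀ := H.map E.subtype with hE₀
  have hE₀E : E₀ ≤ E := map_subtype_le H
  have hdis : A₀ ⊓ E₀ = ⊥ := by
    rw [eq_bot_iff]
    intro x hx
    obtain ⟨hx1, hx2⟩ := mem_inf.1 hx
    obtain ⟨y, hy, rfl⟩ := hx2
    have h5 : y ∈ A₀.subgroupOf E ⊓ H := mem_inf.2 ⟨hx1, hy⟩
    rw [hH.disjoint.eq_bot, mem_bot] at h5
    rw [h5]
    exact one_mem _
  have hfac : ∀ e ∈ E, ∃ a ∈ A₀, ∃ h ∈ E₀, a * h = e := by
    intro e he
    obtain ⟨⟨a, h⟩, hah⟩ := hH.2 ⟨e, he⟩
    exact ⟨(a : E), a.2, (h : E), ⟨h, h.2, rfl⟩, congrArg Subtype.val hah⟩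
  -- equal orders
  have hord : ∀ e ∈ E, zpowers e ⊓ A₀ = ⊥ → ∃ h ∈ E₀, orderOf h = orderOf e := by
    intro e he hd
    obtain ⟨a, ha, h, hh, rfl⟩ := hfac e he
    refine ⟨h, hh, ?_⟩
    have hhN : h ∈ normalizer (A₀ : Set G) := hEA₀ (hE₀E hh)
    have hpow : ∀ n : ℕ, ∃ b ∈ A₀, (a * h) ^ n = b * h ^ n := by
      intro n
      induction n with
      | zero => exact ⟨1, one_mem _, by simp⟩
      | succ n ih =>
        obtain ⟨b, hb, hbn⟩ := ih
        refine ⟨b * (h ^ n * a * (h ^ n)⁻¹), mul_mem hb ?_, ?_⟩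
        · exact (mem_normalizer_iff.1 (pow_mem hhN n) a).1 ha
        · rw [pow_succ, hbn, pow_succ]
          group
    apply orderOf_eq_orderOf_iff.2
    intro n
    obtain ⟨b, hb, hbn⟩ := hpow n
    constructor
    · intro hn1
      have h5 : (a * h) ^ n ∈ zpowers (a * h) ⊓ A₀ := by
        refine mem_inf.2 ⟨pow_mem (mem_zpowers _) n, ?_⟩
        rw [hbn, hn1, mul_one]
        exact hb
      rwa [hd, mem_bot] at h5
    · intro hn1
      rw [hbn] at hn1
      have h5 : h ^ n ∈ A₀ ⊓ E₀ := by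
        refine mem_inf.2 ⟨?_, pow_mem hh n⟩
        rw [show h ^ n = b⁻¹ by rw [eq_inv_iff_mul_eq_one]; rw [mul_eq_one_iff_eq_inv] at hn1; rw [hn1]; group]
        exact inv_mem hb
      rwa [hdis, mem_bot] at h5
  refine ⟨E₀, hE₀E, ?_, ?_⟩
  · apply Nat.dvd_antisymm (exponent_dvd_of_le hE₀E)
    apply exponent_dvd_of
    intro q k hq e he heo
    by_cases hqp : q = p
    · subst hqp
      -- exponent of `P`
      obtain ⟨g, hg, hle⟩ := hP.exists_conj_le (pg_of_order heo) (zpowers_le.2 he)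
      have hgP : g * e * g⁻¹ ∈ P := hle (conj_mem_cj (mem_zpowers e))
      have hgo : orderOf (g * e * g⁻¹) = orderOf e := by
        have := orderOf_injective (MulAut.conj g).toMonoidHom (MulAut.conj g).injective e
        simpa using this
      haveI := y1
      obtain ⟨y, hy⟩ := IsCyclic.exists_ofOrder_eq_natCard (α := Y)
      have hyo : orderOf (y : G) = Nat.card Y := by rw [orderOf_coe, hy]
      obtain ⟨h, hh, hho⟩ := hord (y : G) (hP.le (y2 y.2)) (by
        rw [eq_bot_iff, ← y3, inf_comm A₀ Y]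
        exact inf_le_inf_right _ (zpowers_le.2 y.2))
      refine ⟨h, hh, ?_⟩
      rw [hho, hyo, ← hgo]
      rw [← y4] at hgP
      have hYn : Y ≤ normalizer (A₀ : Set G) := by
        refine (y2.trans ((le_cent_self hPab).trans (centralizer_le hA₀P))).trans (centralizer_le_normalizer _)
      obtain ⟨a, ha, v, hv, hav⟩ := (H22.Basic.mem_sup_of_le_normalizer hYn).1 hgP
      have hcomm : Commute a v := mem_centralizer_iff.1 (le_cent_self hPab (y2 hv)) a (hA₀P ha)
      rw [← hav]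
      refine (hcomm.orderOf_mul_dvd_lcm).trans (Nat.lcm_dvd ?_ (Subgroup.orderOf_dvd_natCard _ hv))
      exact (orderOf_dvd_of_pow_eq_one (hexc.e2.ea.2 a (mem_inf.1 ha).1)).trans y5
    · obtain ⟨h, hh, hho⟩ := hord e he (by
        haveI := Fact.mk hq
        exact inf_eq_bot_of_primes hqp (pg_of_order heo) (hP.isPGroup.to_le hA₀P))
      exact ⟨h, hh, by rw [hho]⟩
  · intro e he he1
    by_contra hne
    obtain ⟨x, hx, hx1⟩ := exists_ne_one hne
    obtain ⟨hxσ, hxe⟩ := mem_inf.1 hx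
    have h5 : e ∈ A₀ := by
      apply hcent hxσ hx1
      refine mem_inf.2 ⟨hE₀E he, ?_⟩
      rw [mem_centralizer_singleton_iff] at hxe ⊢
      exact hxe.symm
    have h6 : e ∈ A₀ ⊓ E₀ := mem_inf.2 ⟨h5, he⟩
    rw [hdis, mem_bot] at h6
    exact he1 h6

/-- BG 12.12 -/
theorem thm1212 (hG : IsMinSimpleOddOrder G) {M E : Subgroup G} (hM : IsCoatom M) (hE : IsComplIn E (sigmaCore M) M)
    (hF : Free M E) : (∃ A₀ : Subgroup G, A₀ ≤ E ∧ E ≤ normalizer (A₀ : Set G) ∧ IsMulCommutative A₀ ∧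
        ∀ x ∈ sigmaCore M, x ≠ 1 → E ⊓ centralizer ({x} : Set G) ≤ A₀) ∧
      ∃ E₀ : Subgroup G, E₀ ≤ E ∧ Monoid.exponent E₀ = Monoid.exponent E ∧
        ∀ e ∈ E₀, e ≠ 1 → sigmaCore M ⊓ centralizer ({e} : Set G) = ⊥ := by
  by_cases hcase : ∃ p ∈ tau2 M, ∀ S : Subgroup G, IsSylIn p S ⊤ → ¬ IsMulCommutative S
  · obtain ⟨p, hp2, hn⟩ := hcase
    haveI := Fact.mk hp2.1
    obtain ⟨A, hAE, hA, hAc⟩ := exists_ea_compl hG hM hE hp2
    obtain ⟨A₁, hexc⟩ := exists_exc hG hM hp2.2.1 (hAE.trans hE.1) hA hAc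
    have ht := tau2_eq_of_nonabelian hG hM hp2 hn
    refine ⟨⟨A ⊓ centralizer (sigmaCore M : Set G), inf_le_left.trans hAE, ?_, comm_mono inf_le_left hA.1, ?_⟩, ?_⟩
    · rw [(thm127 hG hexc hp2 hE hAE hn).2.2.2]
      exact hE.1
    · intro x hx hx1
      exact nonab_cent hG hexc hp2 hE hAE hn hF ht hx hx1
    · exact exists_E0_nonab hG hexc hp2 hE hAE hn hF ht
  · push Not at hcase
    have hAll : AllAb M E := by
      intro p hp2
      haveI := Fact.mk hp2.1
      obtain ⟨S, hS, hSab⟩ := hcase p hp2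
      obtain ⟨A, hAE, hA, hAc⟩ := exists_ea_compl hG hM hE hp2
      obtain ⟨A₁, hexc⟩ := exists_exc hG hM hp2.2.1 (hAE.trans hE.1) hA hAc
      obtain ⟨S', hAS, hS'⟩ := exists_isSylIn_ge (p := p) (H := ⊤) (ea_isPGroup hA) le_top
      exact ⟨A, S', hE, ⟨A₁, hexc⟩, hAE, hAS, hS', comm_of_sylow hS hS' hSab, hp2⟩
    refine ⟨⟨fittingOf E, Core.fittingOf_le E, Core.le_normalizer_fittingOf E, ?_, ?_⟩, ?_⟩
    · exact thm1210a hG hM ((Core.fittingOf_le E).trans hE.1) (Core.fittingOf_isNilpotent E)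
        ((compl_sigmaC hG hM hE).mono (Core.fittingOf_le E))
    · intro x hx hx1
      exact cent_le_ab hG hE hF hAll hx hx1
    · exact exists_E0_ab hG hM hE hF hAll

end Cfsg.Agent.H12.BG1212
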