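import Mathlib
import Cfsg.Agent.H12_BG1212
import Cfsg.Agent.H12_BG107b

/-! BG 15.7 (weak form) -/

set_option autoImplicit false
set_option linter.unusedSectionVars false
set_option linter.style.haveILetI false

open Pointwise
open scoped commutatorElement

namespace Cfsg.Agent.H12.BG157

open Cfsg Subgroup H13.Syl H12.Loc H12.Trans H12.BG7 H12.Puig H12.BG9 H12.BG10 H12.BG11 H12.BG12
open H12.BG13 H2.BG14 H12.BG15 H12.BG1212

universe u

variable {G : Type u} [Group G] [Finite G]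

/-- a prime order element of `F(M) ∩ F(M)^g` -/
structure NT (M : Subgroup G) (g x : G) (p : ℕ) : Prop where
  hM : IsCoatom M
  hg : g ∉ M
  hp : p.Prime
  xF : x ∈ fittingOf M
  xFg : x ∈ cj g (fittingOf M)
  xo : orderOf x = p

theorem NT.x1 {M : Subgroup G} {g x : G} {p : ℕ} (h : NT M g x p) : x ≠ 1 := by
  rintro rfl
  have := h.xo
  rw [orderOf_one] at this
  exact h.hp.one_lt.ne this

theorem NT.zb {M : Subgroup G} {g x : G} {p : ℕ} (h : NT M g x p) : zpowers x ≠ ⊥ := by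
  rw [Ne, zpowers_eq_bot]
  exact h.x1

theorem NT.zc {M : Subgroup G} {g x : G} {p : ℕ} (h : NT M g x p) : Nat.card (zpowers x) = p := by
  rw [Nat.card_zpowers, h.xo]

theorem NT.norm_M (hG : IsMinSimpleOddOrder G) {M : Subgroup G} {g x : G} {p : ℕ} (h : NT M g x p) :
    normalizer (M : Set G) = M :=
  normalizer_eq_self_of_isCoatom hG h.hM (ne_bot_of_isCoatom hG h.hM)

/-- the prime is in `σ` -/
theorem NT.sig (hG : IsMinSimpleOddOrder G) {M : Subgroup G} {g x : G} {p : ℕ} (h : NT M g x p) : p ∈ sigma M := by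
  haveI := Fact.mk h.hp
  by_contra hσ
  have hxp : IsPGroup p (zpowers x) := IsPGroup.of_card (n := 1) (by rw [h.zc, pow_one])
  have hYc := (s1439 hG h.hM).1
  have key : ∀ y ∈ fittingOf M, orderOf y = p → M ≤ normalizer (zpowers y : Set G) := by
    intro y hy hyo
    have hyp : IsPGroup p (zpowers y) := IsPGroup.of_card (n := 1) (by rw [Nat.card_zpowers, hyo, pow_one])
    have hyY : zpowers y ≤ YM M := by
      have h1 : Oq p (fittingOf M) ≤ YM M := by
        apply Core.le_piCoreOf (Oq_le _ _) (le_normalizer_Oq _ _)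
        intro q hq hd
        obtain ⟨n, hn⟩ := IsPGroup.iff_card.1 (Oq_isPGroup h.hp (fittingOf M))
        rw [hn] at hd
        rw [(Nat.prime_dvd_prime_iff_eq hq h.hp).1 (hq.dvd_of_dvd_pow hd)]
        exact ⟨h.hp, hσ⟩
      refine le_trans ?_ h1
      have hFn := Core.fittingOf_isNilpotent M
      obtain ⟨P, hyP, hP⟩ := exists_isSylIn_ge (p := p) (H := fittingOf M) hyp (zpowers_le.2 hy)
      refine hyP.trans (le_Oq h.hp hP.le (nilp_sylow_normal hFn hP) hP.isPGroup)
    exact normal_of_cyclic hYc hyY (M_le_YM M)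
  have h1 := key x h.xF h.xo
  have h2 : g⁻¹ * x * g ∈ fittingOf M := mem_cj.1 h.xFg
  have h2o : orderOf (g⁻¹ * x * g) = p := by
    have := orderOf_injective (MulAut.conj g⁻¹).toMonoidHom (MulAut.conj g⁻¹).injective x
    simp only [MulEquiv.toMonoidHom_eq_coe, MonoidHom.coe_coe, MulAut.conj_apply, inv_inv] at this
    rw [this, h.xo]
  have h3 := key _ h2 h2o
  have e1 : normalizer (zpowers x : Set G) = M :=
    normalizer_eq_of_isCoatom hG h.hM h.zb h1 ((zpowers_le.2 h.xF).trans (Core.fittingOf_le M))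
  have h2b : zpowers (g⁻¹ * x * g) ≠ ⊥ := by
    intro hb
    have := Nat.card_zpowers (g⁻¹ * x * g)
    rw [hb, card_bot, h2o] at this
    exact h.hp.one_lt.ne this
  have e2 : normalizer (zpowers (g⁻¹ * x * g) : Set G) = M :=
    normalizer_eq_of_isCoatom hG h.hM h2b h3 ((zpowers_le.2 h2).trans (Core.fittingOf_le M))
  have e3 : cj g (zpowers (g⁻¹ * x * g)) = zpowers x := by
    rw [cj_zp]
    congr 1
    group
  have e4 : cj g M = M := by
    calc cj g M = cj g (normalizer (zpowers (g⁻¹ * x * g) : Set G)) := by rw [e2]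
      _ = normalizer ((cj g (zpowers (g⁻¹ * x * g)) : Subgroup G) : Set G) := cj_normalizer _ _
      _ = M := by rw [e3, e1]
  apply h.hg
  rw [← h.norm_M hG, mem_normalizer_iff_cj]
  exact e4

theorem NT.mem_M {M : Subgroup G} {g x : G} {p : ℕ} (h : NT M g x p) : x ∈ M := Core.fittingOf_le M h.xF

theorem NT.mem_sig (hG : IsMinSimpleOddOrder G) {M : Subgroup G} {g x : G} {p : ℕ} (h : NT M g x p) : x ∈ sigmaCore M := by
  haveI := Fact.mk h.hp
  have hxp : IsPGroup p (zpowers x) := IsPGroup.of_card (n := 1) (by rw [h.zc, pow_one])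
  exact le_sigmaCore_of_pgroup hG h.hM hxp (zpowers_le.2 h.mem_M) (h.sig hG) (mem_zpowers x)

theorem NT.mem_cjM {M : Subgroup G} {g x : G} {p : ℕ} (h : NT M g x p) : x ∈ cj g M :=
  cj_mono (Core.fittingOf_le M) h.xFg

/-- `C(x) ⊄ M` -/
theorem NT.not_le (hG : IsMinSimpleOddOrder G) {M : Subgroup G} {g x : G} {p : ℕ} (h : NT M g x p) :
    ¬ centralizer ({x} : Set G) ≤ M := by
  haveI := Fact.mk h.hp
  intro hc
  have hxp : IsPGroup p (zpowers x) := IsPGroup.of_card (n := 1) (by rw [h.zc, pow_one])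
  apply h.hg
  refine cj_eq_of_le hG h.hM (h.sig hG) hxp h.zb (zpowers_le.2 h.mem_M) (zpowers_le.2 h.mem_cjM) ?_
  rwa [centralizer_zpowers]

theorem NT.not_beta (hG : IsMinSimpleOddOrder G) {M : Subgroup G} {g x : G} {p : ℕ} (h : NT M g x p) : p ∉ beta M := by
  haveI := Fact.mk h.hp
  apply (thm1217 hG h.hM h.hg).2.1 p h.hp
  rw [← h.xo]
  exact Subgroup.orderOf_dvd_natCard _ (mem_inf.2 ⟨h.mem_sig hG, h.mem_cjM⟩)

/-- a subgroup of `M` centralizing `x` is not of uniqueness -/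
theorem NT.not_umax (hG : IsMinSimpleOddOrder G) {M : Subgroup G} {g x : G} {p : ℕ} (h : NT M g x p) {Q : Subgroup G}
    (hQ : Q ≤ centralizer ({x} : Set G)) : ¬ UMax M Q := by
  intro hU
  have hxt : zpowers x ≠ ⊤ := by
    intro ht
    apply h.hM.1
    rw [← top_le_iff, ← ht]
    exact zpowers_le.2 h.mem_M
  have h1 := umax_mono hU (Y := centralizer (zpowers x : Set G)) (by rwa [centralizer_zpowers]) (cent_ne_top hG h.zb hxt)
  rw [centralizer_zpowers] at h1
  exact h.not_le hG h1.1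

/-- Sylow subgroups for other primes centralize `x` -/
theorem NT.cent_other {M : Subgroup G} {g x : G} {p : ℕ} (h : NT M g x p) {q : ℕ} (hq : q.Prime) (hqp : q ≠ p)
    {Q : Subgroup G} (hQ : Q ≤ fittingOf M) (hQq : IsPGroup q Q) : Q ≤ centralizer ({x} : Set G) := by
  haveI := Fact.mk h.hp
  haveI := Fact.mk hq
  have hxp : IsPGroup p (zpowers x) := IsPGroup.of_card (n := 1) (by rw [h.zc, pow_one])
  rw [← centralizer_zpowers]
  exact nilp_cent hqp (Core.fittingOf_isNilpotent M) hQ (zpowers_le.2 h.xF) hQq hxp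

/-- `M_σ` is nilpotent -/
theorem NT.nil (hG : IsMinSimpleOddOrder G) {M : Subgroup G} {g x : G} {p : ℕ} (h : NT M g x p) :
    Group.IsNilpotent (sigmaCore M) := by
  haveI := Fact.mk h.hp
  rcases cases hG h.hM with h1 | ⟨h1, K, Q, D, q, hN, hK⟩
  · exact h1.1
  exfalso
  haveI := Fact.mk hN.qp
  have hqp : q ≠ p := by
    rintro rfl
    exact h.not_beta hG hN.qβ
  have hQM : Q ≤ M := hN.SQ.le.trans (sigmaCore_le M)
  have hQF : Q ≤ fittingOf M := Core.le_fittingOf hQM hN.MQ hN.SQ.isPGroup.isNilpotent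
  have hqd : q ∣ Nat.card Q := by
    have h1 := hN.SQ
    have hQσ : IsSylIn q Q M := by
      have := H12.Hall.sylow_trans (π := sigma M) (sigmaCore_hallOf hG h.hM) hN.qσ h1
      exact this
    rcases (Nat.Prime.dvd_mul hN.qp).1 (show q ∣ Q.relIndex M * Nat.card Q by
      rw [H12.Hall.relIndex_mul hQM]; exact hN.qσ.2.1) with h2 | h2
    · exact absurd h2 hQσ.not_dvd
    · exact h2
  obtain ⟨v, hv, hvo, hvc, hvQ⟩ := exists_order_sub hqd
  have hU := (thm1214 hG h.hM hN.qσ (X := zpowers v) (hvQ.trans hQM) hvc (Or.inl hN.qβ)).2 Q hN.SQ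
  exact h.not_umax hG (h.cent_other hN.qp hqp hQF hN.SQ.isPGroup) hU

/-- from a nontrivial intersection -/
theorem exists_NT {M : Subgroup G} (hM : IsCoatom M) {g : G} (hg : g ∉ M)
    {x : G} (hx : x ∈ fittingOf M) (hxg : x ∈ cj g (fittingOf M)) (hx1 : x ≠ 1) : ∃ (y : G) (p : ℕ), NT M g y p := by
  obtain ⟨p, hp, hd⟩ := Nat.exists_prime_and_dvd (n := orderOf x) (by rwa [Ne, orderOf_eq_one_iff])
  obtain ⟨w, hw, hwo⟩ := exists_pow_order hp hd
  exact ⟨w, p, hM, hg, hp, zpowers_le.2 hx hw, zpowers_le.2 hxg hw, hwo⟩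

theorem norm_fitting (hG : IsMinSimpleOddOrder G) {M : Subgroup G} (hM : IsCoatom M) :
    normalizer (fittingOf M : Set G) = M := by
  apply normalizer_eq_of_isCoatom hG hM _ (Core.le_normalizer_fittingOf M) (Core.fittingOf_le M)
  intro hb
  have h1 := Core.fittingHallOf_le_fittingOf M
  rw [hb, le_bot_iff] at h1
  exact fittingHallOf_ne hG hM h1

theorem ti_or (hG : IsMinSimpleOddOrder G) {M : Subgroup G} (hM : IsCoatom M) :
    IsTISubset (fittingOf M : Set G) ∨ ∃ (g x : G) (p : ℕ), NT M g x p := by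
  by_cases h : IsTISubset (fittingOf M : Set G)
  · exact Or.inl h
  · right
    unfold IsTISubset at h
    push Not at h
    obtain ⟨g, hg, x, hx, hx', hx1⟩ := h
    have hgM : g⁻¹ ∉ M := by
      intro h1
      apply hg
      rw [norm_fitting hG hM]
      exact (inv_mem_iff).1 h1
    have hx2 : x ∈ cj g⁻¹ (fittingOf M) := by
      rw [mem_cj, inv_inv]
      exact hx'
    obtain ⟨y, p, hy⟩ := exists_NT hM hgM hx hx2 hx1
    exact ⟨_, y, p, hy⟩

theorem s1372 (hG : IsMinSimpleOddOrder G) {M K U : Subgroup G} (hM : IsCoatom M) (hKU : IsSigmaDecomposition M K U)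
    (hK1 : K ≠ ⊥) (hU1 : U ≠ ⊥) :
    (Nat.card K).Prime ∧ IsTISubset (fittingOf M : Set G) ∧ sigmaCore M ≤ fittingOf M := by
  have hks := KS_of_decomp hG (con13 hG) hM hKU hK1
  obtain ⟨h1, h2, h3, h4, h5⟩ := KS.g hG hks hU1
  refine ⟨h2, ?_, Core.le_fittingOf (sigmaCore_le M) (le_normalizer_sigmaCore M) h3⟩
  rcases ti_or hG hM with h | ⟨g, x, p, h⟩
  · exact h
  · exact absurd (h1 p (h.sig hG)) (h.not_beta hG)

theorem s1357 (hG : IsMinSimpleOddOrder G) {M K U : Subgroup G} (hM : IsCoatom M) (hKU : IsSigmaDecomposition M K U)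
    (hne : fittingHallOf M ≠ sigmaCore M) :
    U = ⊥ ∧ IsTISubset (fittingOf M : Set G) ∧ (Nat.card K).Prime := by
  have hnn : ¬ Group.IsNilpotent (sigmaCore M) := fun h => hne (sigmaCore_eq_fittingHallOf hG hM h).symm
  have hK1 : K ≠ ⊥ := K_ne_of_nn hG hM hKU.hall hnn
  have hks := KS_of_decomp hG (con13 hG) hM hKU hK1
  obtain ⟨hU, q, Q, D, hN⟩ := thm152 hG hks hnn
  refine ⟨hU, ?_, hN.Kp⟩
  rcases ti_or hG hM with h | ⟨g, x, p, h⟩
  · exact h
  · exact absurd (h.nil hG) hnn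

end Cfsg.Agent.H12.BG157
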