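import Mathlib
import Cfsg.Agent.H12_BG15a
import Cfsg.Agent.H12_Rank2
import Cfsg.Agent.H24_FratAut
import Cfsg.Agent.H12_R416
import Cfsg.Agent.H12_BG13f

/-! cyclic groups acting freely on an extraspecial group of order `p ^ 3` modulo its centre -/

set_option autoImplicit false
set_option linter.unusedSectionVars false
set_option linter.style.haveILetI false

open Pointwise
open scoped commutatorElement

namespace Cfsg.Agent.H12.SL2

open Cfsg Subgroup H13.Syl H12.BG15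

universe u

section
open Polynomial

theorem eig0 {V : Type*} [CommGroup V] [Finite V] [Nontrivial V] {p : ℕ} [hp : Fact p.Prime] 
    [Module (ZMod p) (Additive V)] [FiniteDimensional (ZMod p) (Additive V)]
    (φ : MulAut V) (hφ : φ ^ p = φ) : ∃ v : V, v ≠ 1 ∧ ∃ a : ℕ, φ v = v ^ a := by
  set f : Module.End (ZMod p) (Additive V) := PStab.toEnd p V φ with hf
  have hfa : ∀ v : Additive V, f v = Additive.ofMul (φ v.toMul) := fun v => rfl
  have h1 : f ^ p = f := by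
    rw [hf, ← map_pow, hφ]
  have hd : minpoly (ZMod p) f ∣ (X ^ p - X : (ZMod p)[X]) := by
    apply minpoly.dvd
    simp [h1]
  have hs : (minpoly (ZMod p) f).Splits := by
    have h2 := Polynomial.splits_X_pow_nat_card_sub_X (K := ZMod p)
    rw [Nat.card_zmod] at h2
    exact h2.of_dvd (FiniteField.X_pow_card_sub_X_ne_zero _ hp.out.one_lt) hd
  obtain ⟨μ, hμ⟩ := hs.exists_eval_eq_zero (by
    rw [Polynomial.degree_eq_natDegree (minpoly.ne_zero (Algebra.IsIntegral.isIntegral f))]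
    have := minpoly.natDegree_pos (A := ZMod p) (x := f) (Algebra.IsIntegral.isIntegral f)
    exact_mod_cast this.ne')
  have h3 := Module.End.hasEigenvalue_of_isRoot (f := f) hμ
  obtain ⟨v, hv⟩ := h3.exists_hasEigenvector
  refine ⟨v.toMul, fun h => hv.2 ?_, μ.val, ?_⟩
  · exact congrArg Additive.ofMul h
  · have h4 := hv.apply_eq_smul
    rw [hfa] at h4
    have h5 : μ • v = μ.val • v := by
      conv_lhs => rw [← ZMod.natCast_zmod_val μ]
      rw [Nat.cast_smul_eq_nsmul]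
    rw [h5] at h4
    exact congrArg Additive.toMul h4

theorem eig1 {V : Type*} [CommGroup V] [Finite V] [Nontrivial V] {p : ℕ} [hp : Fact p.Prime] (hV : ∀ v : V, v ^ p = 1)
    (φ : MulAut V) (hφ : φ ^ p = φ) : ∃ v : V, v ≠ 1 ∧ ∃ a : ℕ, φ v = v ^ a := by
  let i1 := AddCommGroup.zmodModule (n := p) (G := Additive V) (fun v => by
      have := hV (Additive.toMul v : V)
      apply Additive.toMul.injective
      exact this)
  have : Finite (Additive V) := inferInstanceAs (Finite V)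
  have i2 : FiniteDimensional (ZMod p) (Additive V) := Module.Finite.of_finite
  exact @eig0 V _ _ _ p hp i1 i2 φ hφ

theorem eig2 {V : Type*} [Group V] [Finite V] [Nontrivial V] {p : ℕ} [hp : Fact p.Prime] (hc : ∀ a b : V, a * b = b * a)
    (hV : ∀ v : V, v ^ p = 1) (φ : MulAut V) (hφ : φ ^ p = φ) : ∃ v : V, v ≠ 1 ∧ ∃ a : ℕ, φ v = v ^ a := by
  let i : CommGroup V := { ‹Group V› with mul_comm := hc }
  exact eig1 hV φ hφ

end

variable {X : Type u} [Group X] [Finite X]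

theorem eig {V : Subgroup X} {p : ℕ} [hp : Fact p.Prime] (hV : IsElementaryAbelian p V) (hVb : V ≠ ⊥) {t : X}
    (ht : t ∈ normalizer (V : Set X)) (htp : t ^ (p - 1) ∈ centralizer (V : Set X)) :
    ∃ v ∈ V, v ≠ 1 ∧ ∃ a : ℕ, t * v * t⁻¹ = v ^ a := by
  haveI : Nontrivial V := (nontrivial_iff_ne_bot V).2 hVb
  have h1 : (V.normalizerMonoidHom ⟨t, ht⟩) ^ (p - 1) = 1 := by
    rw [← map_pow]
    ext v
    rw [H12.Rank2.normalizerHom_apply]
    have := mem_centralizer_iff.1 htp v v.2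
    show t ^ (p - 1) * v * (t ^ (p - 1))⁻¹ = v
    rw [← this]
    group
  have h2 : (V.normalizerMonoidHom ⟨t, ht⟩) ^ p = V.normalizerMonoidHom ⟨t, ht⟩ := by
    have : p = (p - 1) + 1 := (Nat.sub_add_cancel hp.out.one_le).symm
    conv_lhs => rw [this]
    rw [pow_succ, h1, one_mul]
  obtain ⟨v, hv, a, ha⟩ := eig2 (p := p) (V := V) (fun a b => hV.1.is_comm.comm a b)
    (fun v => Subtype.ext (by simpa using hV.2 v v.2)) _ h2
  refine ⟨v, v.2, fun h => hv (Subtype.ext h), a, ?_⟩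
  have h3 := congrArg (fun w : V => (w : X)) ha
  simp only [SubmonoidClass.coe_pow] at h3
  rw [H12.Rank2.normalizerHom_apply] at h3
  exact h3

/-- a group acting freely on `V` has order dividing `|V| - 1` -/
theorem card_dvd_free {V K : Subgroup X} (hKV : K ≤ normalizer (V : Set X))
    (hfree : ∀ k ∈ K, k ≠ 1 → V ⊓ centralizer ({k} : Set X) = ⊥) : Nat.card K ∣ Nat.card V - 1 := by
  classical
  let Y := {v : V // v ≠ 1}
  let act : MulAction K Y :=
    { smul := fun k v => ⟨⟨k * v.1 * (k : X)⁻¹, (mem_normalizer_iff.1 (hKV k.2) v.1).1 v.1.2⟩, fun h => v.2 (by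
        have h1 : (k : X) * v.1 * (k : X)⁻¹ = 1 := congrArg Subtype.val h
        apply Subtype.ext
        have h2 : ((v.1 : V) : X) = (k : X)⁻¹ * ((k : X) * v.1 * (k : X)⁻¹) * k := by group
        rw [h2, h1]
        simp)⟩
      one_smul := fun v => Subtype.ext (Subtype.ext (by
        show ((1 : K) : X) * v.1 * ((1 : K) : X)⁻¹ = v.1
        simp))
      mul_smul := fun k l v => Subtype.ext (Subtype.ext (by
        show ((k * l : K) : X) * v.1 * ((k * l : K) : X)⁻¹ = (k : X) * ((l : X) * v.1 * (l : X)⁻¹) * (k : X)⁻¹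
        simp [mul_assoc])) }
  have h1 : Nat.card K ∣ Nat.card Y := by
    apply H24.FratAut.card_dvd_of_free
    intro k v hk
    by_contra hk1
    have hk1' : (k : X) ≠ 1 := fun h => hk1 (Subtype.ext h)
    have h2 := hfree k k.2 hk1'
    have h3 : (k : X) * v.1 * (k : X)⁻¹ = v.1 := congrArg (fun w : Y => ((w.1 : V) : X)) hk
    have h4 : ((v.1 : V) : X) ∈ V ⊓ centralizer ({(k : X)} : Set X) := by
      refine mem_inf.2 ⟨v.1.2, ?_⟩
      rw [mem_centralizer_singleton_iff]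
      exact (mul_inv_eq_iff_eq_mul.1 h3).symm
    rw [h2, mem_bot] at h4
    exact v.2 (Subtype.ext h4)
  have h2 : Nat.card Y = Nat.card V - 1 := by
    have := Fintype.ofFinite V
    rw [Nat.card_eq_fintype_card, Nat.card_eq_fintype_card, Fintype.card_subtype_compl, Fintype.card_subtype_eq]
  rwa [h2] at h1

theorem eig_case {V K : Subgroup X} {p : ℕ} [hp : Fact p.Prime] (hV : IsElementaryAbelian p V) (hVc : Nat.card V = p ^ 2)
    (hKV : K ≤ normalizer (V : Set X)) (hKc : ∀ a ∈ K, ∀ b ∈ K, a * b = b * a)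
    (hfree : ∀ k ∈ K, k ≠ 1 → V ⊓ centralizer ({k} : Set X) = ⊥) {t : X} (ht : t ∈ K) (htp : t ^ (p - 1) = 1) :
    Nat.card K ∣ p - 1 ∨ ∃ a : ℕ, ∀ v ∈ V, t * v * t⁻¹ = v ^ a := by
  have hVb : V ≠ ⊥ := by
    rintro rfl
    rw [card_bot] at hVc
    have := hp.out.one_lt
    nlinarith
  obtain ⟨v, hv, hv1, a, ha⟩ := eig hV hVb (hKV ht) (htp ▸ one_mem _)
  have hcomm : ∀ x ∈ V, ∀ y ∈ V, Commute x y := fun x hx y hy =>
    congrArg Subtype.val (hV.1.is_comm.comm (⟨x, hx⟩ : V) ⟨y, hy⟩)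
  let W : Subgroup X :=
    { carrier := {x | x ∈ V ∧ t * x * t⁻¹ = x ^ a}
      mul_mem' := by
        rintro x y ⟨hx, hx'⟩ ⟨hy, hy'⟩
        refine ⟨mul_mem hx hy, ?_⟩
        rw [(hcomm x hx y hy).mul_pow, ← hx', ← hy']
        group
      one_mem' := ⟨one_mem _, by simp⟩
      inv_mem' := by
        rintro x ⟨hx, hx'⟩
        refine ⟨inv_mem hx, ?_⟩
        rw [inv_pow, ← hx']
        group }
  have hW : ∀ x, x ∈ W ↔ x ∈ V ∧ t * x * t⁻¹ = x ^ a := fun x => Iff.rfl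
  have hWV : W ≤ V := fun x hx => ((hW x).1 hx).1
  by_cases hVW : V ≤ W
  · exact Or.inr ⟨a, fun x hx => ((hW x).1 (hVW hx)).2⟩
  left
  have hWb : W ≠ ⊥ := by
    intro hb
    have h1 : v ∈ W := (hW v).2 ⟨hv, ha⟩
    rw [hb, mem_bot] at h1
    exact hv1 h1
  have hWc : Nat.card W = p := by
    have h1 : Nat.card W ∣ p ^ 2 := hVc ▸ card_dvd_of_le hWV
    obtain ⟨k, hk, hk'⟩ := (Nat.dvd_prime_pow hp.out).1 h1
    interval_cases k
    · rw [pow_zero] at hk'
      exact absurd ((Subgroup.card_eq_one).1 hk') hWb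
    · rw [pow_one] at hk'; exact hk'
    · exact absurd (eq_of_le_of_card_ge hWV (by rw [hVc, hk'])).ge hVW
  have hKW : K ≤ normalizer (W : Set X) := by
    intro k hk
    apply H22.Basic.mem_normalizer_of_cj_le
    show cj k _ ≤ _
    rw [cj_le_iff_forall]
    intro x hx
    obtain ⟨hx1, hx2⟩ := (hW x).1 hx
    refine (hW _).2 ⟨(mem_normalizer_iff.1 (hKV hk) x).1 hx1, ?_⟩
    rw [conj_pow, ← hx2]
    have := hKc t ht k hk
    calc t * (k * x * k⁻¹) * t⁻¹ = (t * k) * x * (t * k)⁻¹ := by group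
      _ = (k * t) * x * (k * t)⁻¹ := by rw [this]
      _ = k * (t * x * t⁻¹) * k⁻¹ := by group
  have h2 := card_dvd_free hKW (fun k hk hk1 => le_bot_iff.1 ((inf_le_inf_right _ hWV).trans (hfree k hk hk1).le))
  rwa [hWc] at h2

theorem sl2_case {P Z K : Subgroup X} {p : ℕ} [hp : Fact p.Prime] (hPc : Nat.card P = p ^ 3) (hZc : Nat.card Z = p) (hZP : Z ≤ P)
    (hcomm : ⁅P, P⁆ ≤ Z) (hPn : ¬ IsMulCommutative P) (hexp : ∀ x ∈ P, x ^ p ∈ Z) (hKP : K ≤ normalizer (P : Set X))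
    (hPZ : P ≤ centralizer (Z : Set X)) (hKZ : K ≤ centralizer (Z : Set X)) (hKc : ∀ a ∈ K, ∀ b ∈ K, a * b = b * a)
    (hodd : Odd (Nat.card K)) (hcop : (Nat.card K).Coprime p)
    (hfree : ∀ k ∈ K, k ≠ 1 → P ⊓ centralizer ({k} : Set X) ≤ Z) : Nat.card K ∣ p - 1 ∨ Nat.card K ∣ p + 1 := by
  have hpp := hp.out
  have hPN : P ≤ normalizer (Z : Set X) := hPZ.trans (centralizer_le_normalizer _)
  have hKN : K ≤ normalizer (Z : Set X) := hKZ.trans (centralizer_le_normalizer _)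
  have hdis : Z ⊓ K = ⊥ := by
    rw [inf_comm]
    exact inf_eq_bot_of_coprime (by rw [hZc]; exact hcop)
  -- freeness modulo `Z`
  have hfm : ∀ k ∈ K, k ≠ 1 → ∀ x ∈ P, k * x * k⁻¹ * x⁻¹ ∈ Z → x ∈ Z := by
    intro k hk hk1 x hx hkx
    have hbc : Commute (bq Z x (hPN hx)) (bq Z k (hKN hk)) := ((bq_comm_iff (hKN hk) (hPN hx)).2 hkx).symm
    have hzK : zpowers k ≤ K := zpowers_le.2 hk
    obtain ⟨d, hd, hxd⟩ := H1.Coprime.exists_mul_mem_centralizer (A := zpowers k) (D := Z) (hzK.trans hKN)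
      (Nat.Coprime.coprime_dvd_left (card_dvd_of_le hzK) (hZc ▸ hcop)) (Or.inl inferInstance) x (by
        intro a ha
        obtain ⟨n, rfl⟩ := mem_zpowers_iff.1 ha
        have h1 : Commute (bq Z (k ^ n) (zpow_mem (hKN hk) n)) (bq Z x (hPN hx)) := by
          have : bq Z (k ^ n) (zpow_mem (hKN hk) n) = bq Z k (hKN hk) ^ n := rfl
          rw [this]
          exact (hbc.symm.zpow_left n)
        have h2 := (bq_comm_iff _ _).1 h1.eq
        have h3 := (mem_normalizer_iff.1 (inv_mem (hPN hx)) _).1 h2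
        have e : x⁻¹ * (k ^ n * x * (k ^ n)⁻¹) = x⁻¹ * (k ^ n * x * (k ^ n)⁻¹ * x⁻¹) * x⁻¹⁻¹ := by group
        rw [e]
        exact h3)
    have h4 : x * d ∈ Z := by
      apply hfree k hk hk1
      refine mem_inf.2 ⟨mul_mem hx (hZP hd), ?_⟩
      rw [mem_centralizer_singleton_iff]
      exact (mem_centralizer_iff.1 hxd k (mem_zpowers k)).symm
    have h5 : x = x * d * d⁻¹ := by group
    rw [h5]
    exact mul_mem h4 (inv_mem hd)
  -- the quotient
  set V := bar Z P with hVdef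
  set L := bar Z K with hLdef
  have hVc : Nat.card V = p ^ 2 := by
    rw [hVdef, card_bar hPN]
    have h1 := H12.Hall.relIndex_mul hZP
    rw [hPc, hZc] at h1
    have : p ^ 3 = p ^ 2 * p := by ring
    rw [this] at h1
    exact Nat.eq_of_mul_eq_mul_right hpp.pos h1
  have hLc : Nat.card L = Nat.card K := by
    rw [hLdef, card_bar hKN, ← inf_relIndex_right, hdis, relIndex_bot_left]
  have hV : IsElementaryAbelian p V := by
    refine ⟨?_, ?_⟩
    · constructor
      constructor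
      rintro ⟨a, ha⟩ ⟨b, hb⟩
      apply Subtype.ext
      obtain ⟨x, hx, hxN, rfl⟩ := mem_bar.1 ha
      obtain ⟨y, hy, hyN, rfl⟩ := mem_bar.1 hb
      show bq Z x hxN * bq Z y hyN = bq Z y hyN * bq Z x hxN
      rw [bq_comm_iff]
      exact hcomm (by have := commutator_mem_commutator hx hy; rwa [commutatorElement_def] at this)
    · intro a ha
      obtain ⟨x, hx, hxN, rfl⟩ := mem_bar.1 ha
      have : bq Z x hxN ^ p = bq Z (x ^ p) (pow_mem hxN p) := rfl
      rw [this, bq_eq_one]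
      exact hexp x hx
  have hLV : L ≤ normalizer (V : Set (NQ Z)) := bar_normalizer hKP
  have hLab : ∀ a ∈ L, ∀ b ∈ L, a * b = b * a := by
    intro a ha b hb
    obtain ⟨x, hx, hxN, rfl⟩ := mem_bar.1 ha
    obtain ⟨y, hy, hyN, rfl⟩ := mem_bar.1 hb
    rw [bq_comm_iff, hKc x hx y hy]
    simp
  have hLf : ∀ k ∈ L, k ≠ 1 → V ⊓ centralizer ({k} : Set (NQ Z)) = ⊥ := by
    intro k hk hk1
    obtain ⟨l, hl, hlN, rfl⟩ := mem_bar.1 hk
    rw [eq_bot_iff]
    intro v hv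
    obtain ⟨hv1, hv2⟩ := mem_inf.1 hv
    obtain ⟨x, hx, hxN, rfl⟩ := mem_bar.1 hv1
    rw [mem_bot, bq_eq_one]
    rw [mem_centralizer_singleton_iff] at hv2
    refine hfm l hl ?_ x hx ((bq_comm_iff hlN hxN).1 hv2.symm)
    rintro rfl
    apply hk1
    rw [bq_eq_one]
    exact one_mem _
  have hdiv : Nat.card K ∣ (p + 1) * (p - 1) := by
    have h1 := card_dvd_free hLV hLf
    rw [hLc, hVc] at h1
    have : p ^ 2 - 1 = (p + 1) * (p - 1) := by
      have := Nat.sq_sub_sq p 1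
      simpa using this
    rwa [this] at h1
  by_cases hc : (Nat.card K).Coprime (p - 1)
  · right
    exact hc.dvd_of_dvd_mul_right hdiv
  · left
    obtain ⟨r, hr, hrK, hrp⟩ := Nat.Prime.not_coprime_iff_dvd.1 hc
    haveI := Fact.mk hr
    obtain ⟨t, ht, hto, htc, htK⟩ := H12.BG13.exists_order_sub hrK
    have hr2 : r ≠ 2 := by
      rintro rfl
      rw [Nat.odd_iff] at hodd
      omega
    have htN := hKN ht
    have htL : bq Z t htN ∈ L := bq_mem ht htN
    have htp : bq Z t htN ^ (p - 1) = 1 := by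
      have : bq Z t htN ^ (p - 1) = bq Z (t ^ (p - 1)) (pow_mem htN _) := rfl
      rw [this, bq_eq_one, orderOf_dvd_iff_pow_eq_one.1 (hto ▸ hrp)]
      exact one_mem _
    rcases eig_case hV hVc hLV hLab hLf htL htp with h | ⟨a, ha⟩
    · rwa [hLc] at h
    exfalso
    -- scalar action
    obtain ⟨x, hx, y, hy, hxy⟩ : ∃ x ∈ P, ∃ y ∈ P, ⁅x, y⁆ ≠ 1 := by
      by_contra hcon
      push Not at hcon
      apply hPn
      constructor
      constructor
      rintro ⟨x, hx⟩ ⟨y, hy⟩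
      exact Subtype.ext (commutatorElement_eq_one_iff_mul_comm.1 (hcon x hx y hy))
    have hcZ : ⁅x, y⁆ ∈ Z := hcomm (commutator_mem_commutator hx hy)
    have hcen : ∀ z ∈ Z, ∀ w ∈ P, z * w = w * z := fun z hz w hw => mem_centralizer_iff.1 (hPZ hw) z hz
    have hsc : ∀ w ∈ P, ∃ z ∈ Z, t * w * t⁻¹ = w ^ a * z := by
      intro w hw
      have h1 := ha (bq Z w (hPN hw)) (bq_mem hw _)
      have h2 : bq Z (t * w * t⁻¹) (mul_mem (mul_mem htN (hPN hw)) (inv_mem htN)) = bq Z (w ^ a) (pow_mem (hPN hw) a) := h1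
      rw [bq_eq_iff] at h2
      have h3 := (mem_normalizer_iff.1 (inv_mem (pow_mem (hPN hw) a)) _).1 h2
      refine ⟨_, h3, ?_⟩
      group
    obtain ⟨z, hz, hzx⟩ := hsc x hx
    obtain ⟨z', hz', hzy⟩ := hsc y hy
    have hxa : x ^ a ∈ P := pow_mem hx a
    have hya : y ^ a ∈ P := pow_mem hy a
    have e1 : ⁅x, y⁆ = ⁅x ^ a, y ^ a⁆ := by
      have h1 : t * ⁅x, y⁆ * t⁻¹ = ⁅x, y⁆ := by
        rw [mul_inv_eq_iff_eq_mul]
        exact (mem_centralizer_iff.1 (hKZ ht) _ hcZ).symm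
      have h2 : t * ⁅x, y⁆ * t⁻¹ = ⁅t * x * t⁻¹, t * y * t⁻¹⁆ := by
        simp only [commutatorElement_def]; group
      rw [h1, hzx, hzy] at h2
      rw [h2]
      simp only [commutatorElement_def]
      have c1 := hcen z hz (x ^ a) hxa
      have c2 := hcen z hz (y ^ a) hya
      have c3 := hcen z' hz' (x ^ a) hxa
      have c4 := hcen z' hz' (y ^ a) hya
      have c5 := hcen z hz z' (hZP hz')
      have c6 : z * (x ^ a)⁻¹ = (x ^ a)⁻¹ * z := hcen z hz _ (inv_mem hxa)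
      have c7 : z' * (x ^ a)⁻¹ = (x ^ a)⁻¹ * z' := hcen z' hz' _ (inv_mem hxa)
      calc x ^ a * z * (y ^ a * z') * (x ^ a * z)⁻¹ * (y ^ a * z')⁻¹
          = x ^ a * (z * y ^ a) * z' * z⁻¹ * (x ^ a)⁻¹ * z'⁻¹ * (y ^ a)⁻¹ := by group
        _ = x ^ a * y ^ a * (z * z') * z⁻¹ * (x ^ a)⁻¹ * z'⁻¹ * (y ^ a)⁻¹ := by rw [c2]; group
        _ = x ^ a * y ^ a * (z' * (x ^ a)⁻¹) * z'⁻¹ * (y ^ a)⁻¹ := by rw [c5]; group
        _ = x ^ a * y ^ a * (x ^ a)⁻¹ * (y ^ a)⁻¹ := by rw [c7]; group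
    have hcx : Commute x ⁅x, y⁆ := (hcen _ hcZ x hx).symm
    have hcy : Commute y ⁅x, y⁆ := (hcen _ hcZ y hy).symm
    have e2 : ⁅x ^ a, y ^ a⁆ = ⁅x, y⁆ ^ (a * a) := H12.R416.comm_pow_pow hcx hcy a a
    have e3 : ⁅x, y⁆ ^ (a * a) = ⁅x, y⁆ := by rw [← e2, ← e1]
    have hco : orderOf ⁅x, y⁆ = p := by
      have h1 : orderOf ⁅x, y⁆ ∣ p := hZc ▸ Subgroup.orderOf_dvd_natCard Z hcZ
      rcases (Nat.dvd_prime hpp).1 h1 with h2 | h2
      · exact absurd (orderOf_eq_one_iff.1 h2) hxy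
      · exact h2
    have hmod : a * a ≡ 1 [MOD p] := by
      rw [← hco, ← pow_eq_pow_iff_modEq, pow_one]
      exact e3
    have hsq : V ≤ centralizer ({bq Z t htN ^ 2} : Set (NQ Z)) := by
      intro v hv
      rw [mem_centralizer_singleton_iff]
      have hva := ha v hv
      have h1 : bq Z t htN ^ 2 * v * (bq Z t htN ^ 2)⁻¹ = v ^ (a * a) := by
        have h2 := ha (v ^ a) (pow_mem hv a)
        rw [pow_two]
        calc bq Z t htN * bq Z t htN * v * (bq Z t htN * bq Z t htN)⁻¹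
            = bq Z t htN * (bq Z t htN * v * (bq Z t htN)⁻¹) * (bq Z t htN)⁻¹ := by group
          _ = (v ^ a) ^ a := by rw [hva, h2]
          _ = v ^ (a * a) := by rw [pow_mul]
      have h3 : v ^ (a * a) = v := by
        have h4 : a * a ≡ 1 [MOD orderOf v] := hmod.of_dvd (orderOf_dvd_of_pow_eq_one (hV.2 v hv))
        have := pow_eq_pow_iff_modEq.2 h4
        rwa [pow_one] at this
      rw [h3] at h1
      exact (mul_inv_eq_iff_eq_mul.1 h1).symm
    have ht2 : bq Z t htN ^ 2 ≠ 1 := by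
      intro h1
      have h2 : bq Z t htN ^ 2 = bq Z (t ^ 2) (pow_mem htN 2) := rfl
      rw [h2, bq_eq_one] at h1
      have h3 : t ^ 2 ∈ Z ⊓ K := mem_inf.2 ⟨h1, pow_mem ht 2⟩
      rw [hdis, mem_bot] at h3
      have h4 : r ∣ 2 := hto ▸ orderOf_dvd_of_pow_eq_one h3
      exact hr2 ((Nat.prime_dvd_prime_iff_eq hr Nat.prime_two).1 h4)
    have h5 := hLf _ (pow_mem htL 2) ht2
    rw [inf_eq_left.2 hsq] at h5
    rw [h5, card_bot] at hVc
    have := hpp.one_lt
    nlinarith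

end Cfsg.Agent.H12.SL2
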