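import Mathlib
import Cfsg.Agent.H2_BG14k

/-! BG §14: rows S1432, S1433, S1377, S1378, S1358, S1374, S1375 in terms of `Con13` -/

set_option autoImplicit false
set_option linter.unusedSectionVars false

open Pointwise
open scoped commutatorElement

namespace Cfsg.Agent.H2.BG14

open Cfsg Subgroup H13.Syl H12.Loc H12.BG7 H12.BG10 H12.BG11 H12.BG12 H2.Con13

universe u

variable {G : Type u} [Group G] [Finite G]

theorem s1432 (hG : Cfsg.IsMinSimpleOddOrder G) (hC : Con13 G)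
    (M : Subgroup G) (hM : IsCoatom M) (x : G) (hx : x ∈ Cfsg.sigmaCore M) (hx1 : x ≠ 1) (x' : G) (hx' : x' ∈ M ⊓ Subgroup.centralizer ({x} : Set G)) (hx'1 : x' ≠ 1)
    (hσ : ∀ p : ℕ, p.Prime → p ∣ orderOf x' → p ∉ Cfsg.sigma M) :
    ((∀ p : ℕ, p.Prime → p ∣ orderOf x' → p ∈ Cfsg.kappa M) ∧ Subgroup.centralizer ({x} : Set G) ≤ M) ∨
      ((∀ p : ℕ, p.Prime → p ∣ orderOf x' → p ∈ Cfsg.tau2 M) ∧
        (∃ L : Subgroup G, IsCoatom L ∧ ∀ p : ℕ, p.Prime → p ∣ orderOf x' → p ∈ Cfsg.sigma L) ∧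
        (Subgroup.centralizer ({x'} : Set G) ≤ M ∧ ∀ L : Subgroup G, IsCoatom L → Subgroup.centralizer ({x'} : Set G) ≤ L → L = M)) := by
  rcases thm143 hG hC hM hx hx1 (mem_inf.1 hx').1 (mem_inf.1 hx').2 hx'1 hσ with h | h
  · exact Or.inl ⟨h.1, h.2.1⟩
  · exact Or.inr h

theorem s1433 (hG : Cfsg.IsMinSimpleOddOrder G) (hC : Con13 G)
    (M N : Subgroup G) (hM : IsCoatom M) (hN : IsCoatom N) (x y : G) (hx : x ∈ Cfsg.sigmaCore M) (hy : y ∈ Cfsg.sigmaCore N)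
    (hx1 : x ≠ 1) (hy1 : y ≠ 1) (hxy : x ≠ y) :
    ∀ r ∈ Cfsg.supportR M x, ∀ s ∈ Cfsg.supportR N y, x * r ≠ y * s :=
  fun r hr s hs he => hxy (thm145 hG hC hM hN hx hy hx1 hy1 hr hs he)

theorem s1377 (hG : Cfsg.IsMinSimpleOddOrder G) (hC : Con13 G)
    (M : Subgroup G) (hM : IsCoatom M) :
    Set.ncard (Cfsg.tildeOf M ((Cfsg.sigmaCore M : Set G) \ {1})) = (Nat.card (Cfsg.sigmaCore M) - 1) * M.index :=
  card_tilde hG hC hM

theorem s1378 (hG : Cfsg.IsMinSimpleOddOrder G) (hC : Con13 G) :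
    (∀ p : ℕ, p.Prime → p ∣ Nat.card G → ∃ M : Subgroup G, IsCoatom M ∧ p ∈ Cfsg.sigma M) ∧
      ∀ M N : Subgroup G, IsCoatom M → IsCoatom N → (Cfsg.sigma M ∩ Cfsg.sigma N).Nonempty → ∃ g : G, N = M.map (MulAut.conj g).toMonoidHom := by
  refine ⟨fun p hp hd => ?_, fun M N hM hN hne => ?_⟩
  · have : Fact p.Prime := ⟨hp⟩
    obtain ⟨S, hS, -⟩ := exists_sylow_top_ge (p := p) (A := (⊥ : Subgroup G)) IsPGroup.of_bot
    have hSb : S ≠ ⊥ := by
      rintro rfl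
      have h := hS.not_dvd
      rw [relIndex_bot_left, card_top] at h
      exact h hd
    obtain ⟨M, hM, -, -, h⟩ := exists_max_normalizer hG hS hSb
    exact ⟨M, hM, h⟩
  · obtain ⟨p, h1, h2⟩ := hne
    exact sigma_disj hC hM hN h1 h2

theorem s1358 (hG : Cfsg.IsMinSimpleOddOrder G)
    (M : Subgroup G) (hM : IsCoatom M) (K U : Subgroup G) (hKU : Cfsg.IsSigmaDecomposition M K U) :
    ∀ (p : ℕ), p.Prime → ∀ P : Sylow p U, IsMulCommutative (P : Subgroup U) ∧ Cfsg.PRankLE p 2 (P : Subgroup U) := by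
  intro p hp P
  have : Fact p.Prime := ⟨hp⟩
  have hU : SigmaC M U := (compl_sigmaC hG hM (decomp_E hG hKU)).mono le_sup_left
  have hPU : (P : Subgroup U).map U.subtype ≤ U := map_subtype_le _
  have hPp : IsPGroup p ((P : Subgroup U).map U.subtype) := P.2.map _
  have hcomm : IsMulCommutative ((P : Subgroup U).map U.subtype) :=
    thm1210a hG hM (hPU.trans hKU.compl.1) (H12.Core.isNilpotent_of_isPGroup hPp) (hU.mono hPU)
  refine ⟨⟨⟨fun a b => ?_⟩⟩, ?_⟩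
  · have h1 := hcomm.is_comm.comm ⟨_, mem_map_of_mem U.subtype a.2⟩ ⟨_, mem_map_of_mem U.subtype b.2⟩
    exact Subtype.ext (Subtype.ext (congrArg (fun z : ↥((P : Subgroup U).map U.subtype) => (z : G)) h1))
  · by_cases hpU : p ∣ Nat.card U
    · have h1 : PRankLE p 2 U := H12.SCN.pRankLE_mono hKU.compl.1 (pRankLE_two_of_not_sigma hG hM hp (hU p hp hpU))
      exact H12.SCN.pRankLE_of_top h1
    · exact H12.SCN.pRankLE_of_top (pRankLE_of_not_dvd hp hpU)

theorem US_card (hG : IsMinSimpleOddOrder G) {M K U : Subgroup G} (h : IsSigmaDecomposition M K U) :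
    Nat.card ↥(U ⊔ sigmaCore M) = Nat.card U * Nat.card (sigmaCore M) := by
  have hUS : sigmaCore M ⊓ U = ⊥ := by
    rw [eq_bot_iff]
    intro x hx
    have : x ∈ U ⊓ (K ⊔ sigmaCore M) := mem_inf.2 ⟨(mem_inf.1 hx).2, mem_sup_right (mem_inf.1 hx).1⟩
    rwa [h.compl.2.2.1] at this
  rw [sup_comm, H22.Basic.card_sup_of_inf_eq_bot (h.compl.1.trans (le_normalizer_sigmaCore M)) hUS, mul_comm]

theorem US_hall (hG : IsMinSimpleOddOrder G) {M K U : Subgroup G} (h : IsSigmaDecomposition M K U) :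
    IsPiHallOf (kappa M)ᶜ (U ⊔ sigmaCore M) M := by
  have hc := decomp_card hG h
  have hU := US_card hG h
  have hle : U ⊔ sigmaCore M ≤ M := sup_le h.compl.1 (sigmaCore_le M)
  have hK1 := H12.Hall.relIndex_mul h.hall.1
  have hU1 := H12.Hall.relIndex_mul hle
  have e1 : K.relIndex M = Nat.card ↥(U ⊔ sigmaCore M) := by
    rw [hU]
    apply Nat.eq_of_mul_eq_mul_right (Nat.card_pos (α := K))
    rw [hK1, ← hc]; ring
  have e2 : (U ⊔ sigmaCore M).relIndex M = Nat.card K := by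
    apply Nat.eq_of_mul_eq_mul_right (Nat.card_pos (α := ↥(U ⊔ sigmaCore M)))
    rw [hU1, ← hc, hU]; ring
  refine H12.Hall.mk' hle ?_ ?_
  · rw [← e1]; exact H12.Hall.index h.hall
  · rw [e2, compl_compl]; exact H12.Hall.pi h.hall

theorem mem_US (hG : IsMinSimpleOddOrder G) (hC : Con13 G) {M K U : Subgroup G} (hM : IsCoatom M) (h : IsSigmaDecomposition M K U)
    {x : G} (hx : x ∈ M) (ho : ∀ p : ℕ, p.Prime → p ∣ orderOf x → p ∉ kappa M) : x ∈ U ⊔ sigmaCore M := by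
  have h1 : H12.Core.PiNum (kappa M)ᶜ (Nat.card (zpowers x)) := by rw [Nat.card_zpowers]; exact ho
  obtain ⟨l, hl, hX⟩ := H12.Hall.hall_dom (solvable_of_ne_top hG hM.1) (US_hall hG h) h1 (zpowers_le.2 hx)
  have h2 : l * x * l⁻¹ ∈ U ⊔ sigmaCore M := hX ⟨x, mem_zpowers x, rfl⟩
  exact (mem_normalizer_iff.1 (norm_US hG hC hM h hl) x).2 h2

theorem pi_of_mem_US (hG : IsMinSimpleOddOrder G) {M K U : Subgroup G} (h : IsSigmaDecomposition M K U)
    {x : G} (hx : x ∈ U ⊔ sigmaCore M) : ∀ p : ℕ, p.Prime → p ∣ orderOf x → p ∉ kappa M := by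
  intro p hp hd
  exact H12.Hall.pi (US_hall hG h) p hp (hd.trans (Subgroup.orderOf_dvd_natCard _ hx))

theorem le_normalizer_inf {L A B : Subgroup G} (h1 : L ≤ normalizer (A : Set G)) (h2 : L ≤ normalizer (B : Set G)) :
    L ≤ normalizer ((A ⊓ B : Subgroup G) : Set G) := fun c hc => mem_normalizer_iff.2 fun y => by
  rw [mem_inf, mem_inf, ← mem_normalizer_iff.1 (h1 hc) y, ← mem_normalizer_iff.1 (h2 hc) y]

theorem ND.centNorm {M N : Subgroup G} {x : G} (hN : ND M N x) :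
    centralizer ({x} : Set G) ≤ normalizer ((sigmaCore N ⊓ centralizer ({x} : Set G) : Subgroup G) : Set G) :=
  le_normalizer_inf (hN.um.1.trans (le_normalizer_sigmaCore N)) le_normalizer

theorem mem_cent_zpowers {x c : G} (hc : c ∈ centralizer ({x} : Set G)) : c ∈ centralizer ((zpowers x : Subgroup G) : Set G) := by
  rw [mem_centralizer_iff]
  rintro y ⟨k, rfl⟩
  have h1 : Commute x c := mem_centralizer_iff.1 hc x rfl
  exact (h1.zpow_left k)

theorem ND.mem {M N : Subgroup G} {x : G} (hN : ND M N x) (hx : x ∈ M) : x ∈ M ⊓ N :=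
  mem_inf.2 ⟨hx, hN.um.1 (mem_centralizer_iff.2 fun y hy => by rw [Set.mem_singleton_iff.1 hy])⟩

theorem ND.centCompl {M N : Subgroup G} {x : G} (hN : ND M N x) (hx : x ∈ M) :
    IsComplIn (M ⊓ centralizer ({x} : Set G)) (sigmaCore N ⊓ centralizer ({x} : Set G)) (centralizer ({x} : Set G)) := by
  refine ⟨inf_le_right, inf_le_right, ?_, ?_⟩
  · rw [eq_bot_iff]
    intro y hy
    have h1 : y ∈ sigmaCore N ⊓ M := mem_inf.2 ⟨(mem_inf.1 (mem_inf.1 hy).2).1, (mem_inf.1 (mem_inf.1 hy).1).1⟩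
    rwa [hN.inf] at h1
  · intro c hc
    have hcz := mem_cent_zpowers hc
    have hX : zpowers x ≤ M ⊓ N := zpowers_le.2 (hN.mem hx)
    have hcX : cj c (zpowers x) ≤ M ⊓ N := by
      rw [cj_eq_of_mem_normalizer (centralizer_le_normalizer _ hcz)]
      exact hX
    obtain ⟨e, he, c', hc', rfl⟩ := fus hN.cmp (le_normalizer_sigmaCore N) hX (hN.um.1 hc) hcX
    have hc2 : c' ∈ centralizer ({x} : Set G) := by
      rw [mem_centralizer_iff]
      intro y hy
      rw [Set.mem_singleton_iff.1 hy]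
      exact mem_centralizer_iff.1 (mem_inf.1 hc').2 x (mem_zpowers x)
    have he2 : e ∈ centralizer ({x} : Set G) := by
      have := mul_mem hc (inv_mem hc2)
      simpa using this
    exact ⟨e, mem_inf.2 ⟨(mem_inf.1 he).1, he2⟩, c', mem_inf.2 ⟨(mem_inf.1 hc').1, hc2⟩, rfl⟩

theorem s1374 (hG : Cfsg.IsMinSimpleOddOrder G) (hC : Con13 G)
    (M : Subgroup G) (hM : IsCoatom M) (x : G) (hx : x ∈ Cfsg.sigmaCore M) (hx1 : x ≠ 1) :
    (Nat.card ↥(M ⊓ Subgroup.centralizer ({x} : Set G))).Coprime ((M ⊓ Subgroup.centralizer ({x} : Set G)).relIndex (Subgroup.centralizer ({x} : Set G))) ∧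
      ∃ R : Subgroup G, Subgroup.centralizer ({x} : Set G) ≤ Subgroup.normalizer (R : Set G) ∧ Cfsg.IsComplIn (M ⊓ Subgroup.centralizer ({x} : Set G)) R (Subgroup.centralizer ({x} : Set G)) ∧
        ∀ g : G, x ∈ M.map (MulAut.conj g).toMonoidHom → ∃! r : G, r ∈ R ∧ M.map (MulAut.conj r).toMonoidHom = M.map (MulAut.conj g).toMonoidHom := by
  rcases supportR_cases hG hC hM hx hx1 with ⟨h1, -⟩ | ⟨N, hN, h1, -⟩
  · have e : M ⊓ centralizer ({x} : Set G) = centralizer ({x} : Set G) := inf_eq_right.2 h1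
    refine ⟨by rw [e, relIndex_self]; exact Nat.coprime_one_right _, ⊥, ?_, ⟨inf_le_right, bot_le, inf_bot_eq _, ?_⟩, ?_⟩
    · exact fun c _ => mem_normalizer_iff.2 fun y => by
        rw [mem_bot, mem_bot]
        constructor
        · rintro rfl; group
        · intro h
          have := congrArg (fun z => c⁻¹ * z * c) h
          simpa [mul_assoc] using this
    · intro m hm
      exact ⟨m, by rw [e]; exact hm, 1, one_mem _, (mul_one m).symm⟩
    · intro g hg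
      have h2 : cj g M = M := cj_eq_of_cent_le hG hC hM hx hx1 h1 hg
      refine ⟨1, ⟨one_mem _, ?_⟩, fun r hr => mem_bot.1 hr.1⟩
      change cj 1 M = cj g M
      rw [h2, cj_one]
  · have hxM : x ∈ M := sigmaCore_le M hx
    have hcompl := hN.centCompl hxM
    refine ⟨?_, sigmaCore N ⊓ centralizer ({x} : Set G), hN.centNorm, hcompl, ?_⟩
    · have h2 : (M ⊓ centralizer ({x} : Set G)).relIndex (centralizer ({x} : Set G)) = Nat.card ↥(sigmaCore N ⊓ centralizer ({x} : Set G)) := by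
        have e1 := H12.Core.IsComplIn_card hcompl
        have e2 := H12.Hall.relIndex_mul hcompl.1
        apply Nat.eq_of_mul_eq_mul_right (Nat.card_pos (α := ↥(M ⊓ centralizer ({x} : Set G))))
        rw [e2, ← e1, mul_comm]
      rw [h2]
      have h3 : SigmaC N (M ⊓ centralizer ({x} : Set G)) :=
        (compl_sigmaC hG hN.co hN.cmp).mono (le_inf inf_le_left (inf_le_right.trans hN.um.1))
      have h4 : H12.Core.PiNum (sigma N) (Nat.card ↥(sigmaCore N ⊓ centralizer ({x} : Set G))) := st_sigma (M := N) (K := zpowers x) |> fun h => by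
        exact H12.Hall.pi_mono (sigmaCore_pi N) inf_le_left
      exact (H12.Core.PiNum.coprime h4 h3).symm
    · intro g hg
      obtain ⟨n, hn, he⟩ := nd_trans hG hC hM hx hx1 h1 hN hg
      refine ⟨n, ⟨hn, he⟩, ?_⟩
      rintro r ⟨hr, hr'⟩
      have h5 : cj r M = cj n M := hr'.trans he.symm
      have h6 := (cj_eq_cj_iff hG hM).1 h5
      have h7 : n⁻¹ * r ∈ sigmaCore N ⊓ M := mem_inf.2 ⟨mul_mem (inv_mem (mem_inf.1 hn).1) (mem_inf.1 hr).1, h6⟩
      rw [hN.inf, mem_bot] at h7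
      exact (inv_mul_eq_one.1 h7).symm

theorem s1375 (hG : Cfsg.IsMinSimpleOddOrder G) (hC : Con13 G)
    (M : Subgroup G) (hM : IsCoatom M) (x : G) (hx : x ∈ Cfsg.sigmaCore M) (hx1 : x ≠ 1) (hxM : ¬ Subgroup.centralizer ({x} : Set G) ≤ M) :
    ∃ N : Subgroup G, (IsCoatom N ∧ Subgroup.centralizer ({x} : Set G) ≤ N) ∧ (∀ L : Subgroup G, IsCoatom L → Subgroup.centralizer ({x} : Set G) ≤ L → L = N) ∧
        Cfsg.sigmaCore N = Cfsg.fittingHallOf N ∧
        Subgroup.centralizer ({x} : Set G) ≤ Subgroup.normalizer ((Cfsg.sigmaCore N ⊓ Subgroup.centralizer ({x} : Set G) : Subgroup G) : Set G) ∧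
        Cfsg.IsComplIn (M ⊓ Subgroup.centralizer ({x} : Set G)) (Cfsg.sigmaCore N ⊓ Subgroup.centralizer ({x} : Set G)) (Subgroup.centralizer ({x} : Set G)) ∧
        Cfsg.IsComplIn (M ⊓ N) (Cfsg.sigmaCore N) N ∧
        ∀ K' U' : Subgroup G, Cfsg.IsSigmaDecomposition N K' U' → U' ≠ ⊥ ∧ x ∈ Cfsg.sigmaA N U' ∧ x ∉ Cfsg.sigmaCore N := by
  obtain ⟨N, hN⟩ := exists_ND hG hC hM hx hx1 hxM
  have hxM' : x ∈ M := sigmaCore_le M hx
  refine ⟨N, ⟨hN.co, hN.um.1⟩, hN.um.2, sigmaCore_eq_fittingHallOf hG hN.co hN.nil, hN.centNorm, hN.centCompl hxM', hN.cmp, ?_⟩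
  intro K' U' hd
  obtain ⟨p, hp, hpx, -⟩ := exists_prime_pow hx1
  have hpt := hN.tau p hp hpx
  refine ⟨?_, ⟨⟨(mem_inf.1 (hN.mem hxM')).2, ?_⟩, ?_⟩, ?_⟩
  · rintro rfl
    have h1 := decomp_card hG hd
    rw [card_bot, one_mul] at h1
    have h2 : p ∣ Nat.card K' * Nat.card (sigmaCore N) := by rw [h1]; exact tau2_dvd hpt
    rcases hp.dvd_mul.1 h2 with h3 | h3
    · obtain ⟨-, -, -, h4, -⟩ := kappa_spec hG (hd.hall.2.1 p hp h3)
      exact hpt.2.2.2 h4
    · exact hpt.2.1 (sigmaCore_pi N p hp h3)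
  · obtain ⟨y, hy⟩ := (Subgroup.ne_bot_iff_exists_ne_one.1 hN.ne)
    obtain ⟨h1, h2⟩ := mem_inf.1 y.2
    exact ⟨y, h1, fun h => hy (Subtype.ext h), mem_centralizer_iff.1 h2 x rfl⟩
  · refine mem_US hG hC hN.co hd (mem_inf.1 (hN.mem hxM')).2 ?_
    intro q hq hqx hk
    obtain ⟨-, -, -, h4, -⟩ := kappa_spec hG hk
    exact (hN.tau q hq hqx).2.2.2 h4
  · intro h
    exact hpt.2.1 (order_sigma h hp hpx)

end Cfsg.Agent.H2.BG14
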