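import Mathlib
import Cfsg.Agent.H2_BG14l

/-! BG §14: rows S1434, S1369, S1370, S1371, S1379 in terms of `Con13` -/

set_option autoImplicit false
set_option linter.unusedSectionVars false

open Pointwise
open scoped commutatorElement

namespace Cfsg.Agent.H2.BG14

open Cfsg Subgroup H13.Syl H12.Loc H12.BG7 H12.BG10 H12.BG11 H12.BG12 H2.Con13

universe u

variable {G : Type u} [Group G] [Finite G]

theorem mem_zpowers_mul {l s : G} (hc : Commute l s) (hcop : (orderOf l).Coprime (orderOf s)) : s ∈ zpowers (l * s) := by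
  have h1 : (l * s) ^ orderOf l = s ^ orderOf l := by rw [hc.mul_pow, pow_orderOf_eq_one, one_mul]
  have h2 : s ∈ zpowers (s ^ orderOf l) := mem_zpowers_pow_iff.2 (by simpa using hcop)
  rw [← h1] at h2
  exact (zpowers_le.2 (pow_mem (mem_zpowers _) _) : zpowers ((l * s) ^ orderOf l) ≤ zpowers (l * s)) h2

/-- the exceptional set -/
abbrev zhat (K K' : Subgroup G) : Set G := ((K ⊔ K' : Subgroup G) : Set G) \ ((K : Set G) ∪ (K' : Set G))

namespace MD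

variable {Z H L : Subgroup G}

theorem cop (h : MD Z H L) {l s : G} (hl : l ∈ L) (hs : s ∈ st H L) : (orderOf l).Coprime (orderOf s) :=
  card_dvd_prime fun p hp h1 h2 => h.order_L hl p hp h1 (order_st hs p hp h2)

theorem hat (h : MD Z H L) {z : G} (hz : z ∈ Z) (h1 : z ∉ L) (h2 : z ∉ st H L) :
    ∃ l ∈ L, ∃ s ∈ st H L, l * s = z ∧ Commute l s ∧ l ≠ 1 ∧ s ≠ 1 := by
  obtain ⟨l, hl, s, hs, he, hc⟩ := h.decomp hz
  refine ⟨l, hl, s, hs, he, hc, ?_, ?_⟩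
  · rintro rfl
    rw [one_mul] at he
    exact h2 (he ▸ hs)
  · rintro rfl
    rw [mul_one] at he
    exact h1 (he ▸ hl)

theorem hat_mul (h : MD Z H L) {l s : G} (hl : l ∈ L) (hs : s ∈ st H L) (hl1 : l ≠ 1) (hs1 : s ≠ 1) :
    l * s ∈ Z ∧ l * s ∉ L ∧ l * s ∉ st H L := by
  refine ⟨mul_mem (h.L_le hl) (h.st_le hs), fun h1 => ?_, fun h1 => ?_⟩
  · have h2 : s ∈ L ⊓ st H L := mem_inf.2 ⟨by simpa using mul_mem (inv_mem hl) h1, hs⟩
    rw [h.inf_bot] at h2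
    exact hs1 (mem_bot.1 h2)
  · have h2 : l ∈ L ⊓ st H L := mem_inf.2 ⟨hl, by simpa using mul_mem h1 (inv_mem hs)⟩
    rw [h.inf_bot] at h2
    exact hl1 (mem_bot.1 h2)

theorem comm_LS (h : MD Z H L) : L ≤ centralizer ((st H L : Subgroup G) : Set G) := by
  rw [le_centralizer_iff]
  exact inf_le_right

/-- `Z` normalizes `L` and `st H L` -/
theorem norm_L (h : MD Z H L) : Z ≤ normalizer (L : Set G) := by
  rw [← h.eq]
  exact sup_le le_normalizer (inf_le_right.trans (centralizer_le_normalizer _))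

theorem norm_st (h : MD Z H L) : Z ≤ normalizer ((st H L : Subgroup G) : Set G) := by
  rw [← h.eq]
  exact sup_le (h.comm_LS.trans (centralizer_le_normalizer _)) le_normalizer

theorem hat_conj (h : MD Z H L) {z g : G} (hg : g ∈ Z) (hz : z ∈ Z) (h1 : z ∉ L) (h2 : z ∉ st H L) :
    g * z * g⁻¹ ∈ Z ∧ g * z * g⁻¹ ∉ L ∧ g * z * g⁻¹ ∉ st H L :=
  ⟨mul_mem (mul_mem hg hz) (inv_mem hg), fun h3 => h1 ((mem_normalizer_iff.1 (h.norm_L hg) z).2 h3),
    fun h3 => h2 ((mem_normalizer_iff.1 (h.norm_st hg) z).2 h3)⟩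

theorem ncard_hat (h : MD Z H L) : Set.ncard ((Z : Set G) \ ((L : Set G) ∪ ((st H L : Subgroup G) : Set G))) =
    Nat.card L * Nat.card (st H L) - Nat.card L - Nat.card (st H L) + 1 := by
  have h1 : ((L : Set G) ∪ ((st H L : Subgroup G) : Set G)) ⊆ (Z : Set G) := Set.union_subset h.L_le h.st_le
  rw [Set.ncard_diff h1 (Set.toFinite _)]
  have h2 := Set.ncard_union_add_ncard_inter (L : Set G) ((st H L : Subgroup G) : Set G) (Set.toFinite _) (Set.toFinite _)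
  have h3 : (L : Set G) ∩ ((st H L : Subgroup G) : Set G) = {1} := by
    have := congrArg (fun X : Subgroup G => (X : Set G)) h.inf_bot
    simpa using this
  rw [h3, Set.ncard_singleton] at h2
  have e1 : (L : Set G).ncard = Nat.card L := (Nat.card_coe_set_eq _).symm
  have e2 : ((st H L : Subgroup G) : Set G).ncard = Nat.card (st H L) := (Nat.card_coe_set_eq _).symm
  have e3 : (Z : Set G).ncard = Nat.card Z := (Nat.card_coe_set_eq _).symm
  rw [e1, e2] at h2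
  rw [e3, ← h.card_eq]
  obtain ⟨E, U, hk⟩ := h.ks
  have p1 : 1 < Nat.card L := by
    rw [Subgroup.one_lt_card_iff_ne_bot]; exact hk.ne
  have p2 : 1 < Nat.card (st H L) := by
    rw [Subgroup.one_lt_card_iff_ne_bot]; exact hk.neS
  generalize Nat.card L = a at *
  generalize Nat.card (st H L) = b at *
  have h4 : a + b ≤ a * b := by nlinarith
  omega

end MD

theorem odd_card (hG : IsMinSimpleOddOrder G) (X : Subgroup G) : Odd (Nat.card X) := by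
  have h1 : Odd (Nat.card G) := hG.1
  exact h1.of_dvd_nat (card_subgroup_dvd_card X)

theorem MD.big (hG : IsMinSimpleOddOrder G) (hC : Con13 G) {Z H L : Subgroup G} (h : MD Z H L) :
    Nat.card L * Nat.card (st H L) * Set.ncard {a : G | ∃ g : G, ∃ z ∈ ((Z : Set G) \ ((L : Set G) ∪ ((st H L : Subgroup G) : Set G))), a = g * z * g⁻¹} =
        (Nat.card L * Nat.card (st H L) - Nat.card L - Nat.card (st H L) + 1) * Nat.card G ∧
      Nat.card G < 2 * Set.ncard {a : G | ∃ g : G, ∃ z ∈ ((Z : Set G) \ ((L : Set G) ∪ ((st H L : Subgroup G) : Set G))), a = g * z * g⁻¹} := by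
  have h1 := card_conj_TI Z ((Z : Set G) \ ((L : Set G) ∪ ((st H L : Subgroup G) : Set G))) (by
      rintro z ⟨hz, hz2⟩ g hg
      simp only [Set.mem_union, not_or] at hz2
      obtain ⟨a, b, c⟩ := h.hat_conj hg hz hz2.1 hz2.2
      exact ⟨a, by simp only [Set.mem_union, not_or]; exact ⟨b, c⟩⟩) (by
      rintro z ⟨hz, hz2⟩ g ⟨hg, hg2⟩
      simp only [Set.mem_union, not_or] at hz2
      obtain ⟨l, hl, s, hs, he, hc, hl1, hs1⟩ := h.hat hz hz2.1 hz2.2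
      exact h.conj_mem hG hC hz hg hl hs he hl1 hs1)
  rw [h.ncard_hat, ← h.card_eq] at h1
  refine ⟨h1, ?_⟩
  obtain ⟨E, U, hk⟩ := h.ks
  have p1 : 1 < Nat.card L := by
    rw [Subgroup.one_lt_card_iff_ne_bot]; exact hk.ne
  have p2 : 1 < Nat.card (st H L) := by
    rw [Subgroup.one_lt_card_iff_ne_bot]; exact hk.neS
  have o1 := odd_card hG L
  have o2 := odd_card hG (st H L)
  have hcop : (Nat.card L).Coprime (Nat.card (st H L)) := (H12.Core.PiNum.coprime (st_sigma (M := H) (K := L)) h.sigmaC).symm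
  have hG0 : 0 < Nat.card G := Nat.card_pos
  generalize Set.ncard {a : G | ∃ g : G, ∃ z ∈ ((Z : Set G) \ ((L : Set G) ∪ ((st H L : Subgroup G) : Set G))), a = g * z * g⁻¹} = n at *
  generalize Nat.card L = a at *
  generalize Nat.card (st H L) = b at *
  generalize Nat.card G = c at *
  obtain ⟨a', rfl⟩ := o1
  obtain ⟨b', rfl⟩ := o2
  have ha' : 1 ≤ a' := by omega
  have hb' : 1 ≤ b' := by omega
  have hne : a' ≠ b' := by
    rintro rfl
    rw [Nat.coprime_self] at hcop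
    omega
  have e : (2 * a' + 1) * (2 * b' + 1) - (2 * a' + 1) - (2 * b' + 1) + 1 = 4 * (a' * b') := by
    have : (2 * a' + 1) * (2 * b' + 1) = 4 * (a' * b') + 2 * a' + 2 * b' + 1 := by ring
    have h5 : 1 ≤ a' * b' := Nat.mul_pos ha' hb'
    omega
  rw [e] at h1
  have hab : a' + b' + 1 ≤ 2 * (a' * b') := by
    obtain ⟨e', rfl⟩ := Nat.exists_eq_add_of_le ha'
    obtain ⟨f', rfl⟩ := Nat.exists_eq_add_of_le hb'
    have h6 : 2 * ((1 + e') * (1 + f')) = 2 + 2 * e' + 2 * f' + 2 * (e' * f') := by ring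
    omega
  by_contra hn
  rw [not_lt] at hn
  have h7 : (2 * a' + 1) * (2 * b' + 1) < 8 * (a' * b') := by
    have : (2 * a' + 1) * (2 * b' + 1) = 4 * (a' * b') + 2 * a' + 2 * b' + 1 := by ring
    omega
  have h9 : (2 * a' + 1) * (2 * b' + 1) * (2 * n) ≤ (2 * a' + 1) * (2 * b' + 1) * c := Nat.mul_le_mul_left _ hn
  have h10 : (2 * a' + 1) * (2 * b' + 1) * (2 * n) = 8 * (a' * b') * c := by
    calc (2 * a' + 1) * (2 * b' + 1) * (2 * n) = 2 * ((2 * a' + 1) * (2 * b' + 1) * n) := by ring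
      _ = 2 * (4 * (a' * b') * c) := by rw [h1]
      _ = _ := by ring
  have h11 : (2 * a' + 1) * (2 * b' + 1) * c < 8 * (a' * b') * c := Nat.mul_lt_mul_of_pos_right h7 hG0
  omega

theorem KS.hat_not_mem (hG : IsMinSimpleOddOrder G) (hC : Con13 G) {M K E U : Subgroup G} (h : KS M K E U) {g : G} (hg : g ∉ M)
    {z : G} (hz : z ∈ K ⊔ st M K) (h1 : z ∉ K) (h2 : z ∉ st M K) : z ∉ cj g M := by
  intro hzg
  obtain ⟨l, hl, s, hs, rfl, hc, hl1, hs1⟩ := h.md.hat hz h1 h2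
  have h3 := mem_zpowers_mul hc (h.md.cop hl hs)
  have h4 : s ∈ cj g M := zpowers_le.2 hzg h3
  have h5 : s ∈ st M K ⊓ cj g M := mem_inf.2 ⟨hs, h4⟩
  rw [h.d1 hG hC hg] at h5
  exact hs1 (mem_bot.1 h5)

theorem s1434 (hG : Cfsg.IsMinSimpleOddOrder G) (hC : Con13 G)
    (M : Subgroup G) (hM : IsCoatom M) (K U : Subgroup G) (hKU : Cfsg.IsSigmaDecomposition M K U) (hK1 : K ≠ ⊥) (Mstar : Subgroup G) (hMstar : IsCoatom Mstar)
    (hKst : K = Cfsg.sigmaCore Mstar ⊓ Subgroup.centralizer ((Cfsg.sigmaCore M ⊓ Subgroup.centralizer (K : Set G)) : Set G))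
    (hKstH : Cfsg.IsPiHallOf (Cfsg.kappa Mstar) (Cfsg.sigmaCore M ⊓ Subgroup.centralizer (K : Set G)) Mstar) :
    Cfsg.kappa M = Cfsg.tau1 M ∧ Cfsg.IsPiHallOf (Cfsg.sigma M) (Cfsg.sigmaCore M ⊓ Subgroup.centralizer (K : Set G)) Mstar ∧
      (∀ x ∈ K, x ≠ 1 → ∀ y ∈ (Cfsg.sigmaCore M ⊓ Subgroup.centralizer (K : Set G)), y ≠ 1 →
        M ⊓ Subgroup.centralizer ({x} : Set G) = K ⊔ (Cfsg.sigmaCore M ⊓ Subgroup.centralizer (K : Set G)) ∧ Mstar ⊓ Subgroup.centralizer ({y} : Set G) = K ⊔ (Cfsg.sigmaCore M ⊓ Subgroup.centralizer (K : Set G)) ∧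
        Subgroup.centralizer ({x * y} : Set G) = K ⊔ (Cfsg.sigmaCore M ⊓ Subgroup.centralizer (K : Set G))) ∧
      (∀ g : G, g ∉ M → ∀ z ∈ ((↑(K ⊔ (Cfsg.sigmaCore M ⊓ Subgroup.centralizer (K : Set G))) : Set G) \ ((K : Set G) ∪ ↑(Cfsg.sigmaCore M ⊓ Subgroup.centralizer (K : Set G)))), z ∉ M.map (MulAut.conj g).toMonoidHom) ∧
      Nat.card K * Nat.card ↥(Cfsg.sigmaCore M ⊓ Subgroup.centralizer (K : Set G)) * Set.ncard {a : G | ∃ g : G, ∃ z ∈ ((↑(K ⊔ (Cfsg.sigmaCore M ⊓ Subgroup.centralizer (K : Set G))) : Set G) \ ((K : Set G) ∪ ↑(Cfsg.sigmaCore M ⊓ Subgroup.centralizer (K : Set G)))), a = g * z * g⁻¹} =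
        (Nat.card K * Nat.card ↥(Cfsg.sigmaCore M ⊓ Subgroup.centralizer (K : Set G)) - Nat.card K - Nat.card ↥(Cfsg.sigmaCore M ⊓ Subgroup.centralizer (K : Set G)) + 1) * Nat.card G ∧
      Nat.card G < 2 * Set.ncard {a : G | ∃ g : G, ∃ z ∈ ((↑(K ⊔ (Cfsg.sigmaCore M ⊓ Subgroup.centralizer (K : Set G))) : Set G) \ ((K : Set G) ∪ ↑(Cfsg.sigmaCore M ⊓ Subgroup.centralizer (K : Set G)))), a = g * z * g⁻¹} := by
  obtain ⟨E', U', h⟩ := PR_of hG hC hM hKU hK1 hMstar hKst hKstH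
  obtain ⟨b1, b2⟩ := h.h.md.big hG hC
  refine ⟨h.kappa_eq hG, h.hall_sigma hG hC, ?_, ?_, b1, b2⟩
  · intro x hx hx1 y hy hy1
    refine ⟨h.cent_eq hG hx hx1, ?_, h.cent_mul_eq hG hC hx hx1 hy hy1⟩
    have := h.symm.cent_eq hG hy hy1
    rw [this, sup_comm]
  · intro g hg z hz
    obtain ⟨hz1, hz2⟩ := hz
    simp only [Set.mem_union, not_or] at hz2
    exact h.h.hat_not_mem hG hC hg hz1 hz2.1 hz2.2

theorem s1370 (hG : Cfsg.IsMinSimpleOddOrder G) (hC : Con13 G)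
    (M : Subgroup G) (hM : IsCoatom M) (K U : Subgroup G) (hKU : Cfsg.IsSigmaDecomposition M K U) (hK1 : K ≠ ⊥) :
    Cfsg.IsTISubset ((↑(K ⊔ (Cfsg.sigmaCore M ⊓ Subgroup.centralizer (K : Set G))) : Set G) \ ((K : Set G) ∪ ↑(Cfsg.sigmaCore M ⊓ Subgroup.centralizer (K : Set G)))) ∧ Subgroup.normalizer ((↑(K ⊔ (Cfsg.sigmaCore M ⊓ Subgroup.centralizer (K : Set G))) : Set G) \ ((K : Set G) ∪ ↑(Cfsg.sigmaCore M ⊓ Subgroup.centralizer (K : Set G)))) = K ⊔ (Cfsg.sigmaCore M ⊓ Subgroup.centralizer (K : Set G)) := by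
  have h := KS_of_decomp hG hC hM hKU hK1
  have hmd := h.md
  have hle : K ⊔ st M K ≤ Subgroup.normalizer ((↑(K ⊔ st M K) : Set G) \ ((K : Set G) ∪ ↑(st M K))) := by
    intro g hg z
    constructor
    · rintro ⟨hz, hz2⟩
      simp only [Set.mem_union, not_or] at hz2
      obtain ⟨a, b, c⟩ := hmd.hat_conj hg hz hz2.1 hz2.2
      exact ⟨a, by simp only [Set.mem_union, not_or]; exact ⟨b, c⟩⟩
    · rintro ⟨hz, hz2⟩
      simp only [Set.mem_union, not_or] at hz2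
      obtain ⟨a, b, c⟩ := hmd.hat_conj (inv_mem hg) hz hz2.1 hz2.2
      have e : g⁻¹ * (g * z * g⁻¹) * g⁻¹⁻¹ = z := by group
      rw [e] at a b c
      exact ⟨a, by simp only [Set.mem_union, not_or]; exact ⟨b, c⟩⟩
  have key : ∀ z ∈ ((↑(K ⊔ st M K) : Set G) \ ((K : Set G) ∪ ↑(st M K))), ∀ g : G, g * z * g⁻¹ ∈ ((↑(K ⊔ st M K) : Set G) \ ((K : Set G) ∪ ↑(st M K))) → g ∈ K ⊔ st M K := by
    rintro z ⟨hz, hz2⟩ g ⟨hg, hg2⟩
    simp only [Set.mem_union, not_or] at hz2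
    obtain ⟨l, hl, s, hs, he, hc, hl1, hs1⟩ := hmd.hat hz hz2.1 hz2.2
    exact hmd.conj_mem hG hC hz hg hl hs he hl1 hs1
  refine ⟨fun g hg z hz hgz => absurd (hle (key z hz g hgz)) hg, le_antisymm ?_ hle⟩
  intro g hg
  obtain ⟨x, hx, hx1⟩ := exists_ne_one hK1
  obtain ⟨y, hy, hy1⟩ := exists_ne_one h.neS
  obtain ⟨a, b, c⟩ := hmd.hat_mul hx hy hx1 hy1
  have hz : x * y ∈ ((↑(K ⊔ st M K) : Set G) \ ((K : Set G) ∪ ↑(st M K))) := ⟨a, by simp only [Set.mem_union, not_or]; exact ⟨b, c⟩⟩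
  exact key _ hz g ((hg _).1 hz)

/-- the classification of maximal subgroups with nonempty kappa -/
theorem PR.two_classes (hG : IsMinSimpleOddOrder G) (hC : Con13 G) {M K E U M' K' E' U' : Subgroup G} (h : PR M K E U M' K' E' U')
    {H L E₂ U₂ : Subgroup G} (h₂ : KS H L E₂ U₂) : ∃ g : G, H = cj g M ∨ H = cj g M' := by
  have b1 := (h.md.big hG hC).2
  have b2 := (h₂.md.big hG hC).2
  set A := {a : G | ∃ g : G, ∃ z ∈ (((K ⊔ K' : Subgroup G) : Set G) \ ((K : Set G) ∪ ((st M K : Subgroup G) : Set G))), a = g * z * g⁻¹} with hA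
  set B := {a : G | ∃ g : G, ∃ z ∈ (((L ⊔ st H L : Subgroup G) : Set G) \ ((L : Set G) ∪ ((st H L : Subgroup G) : Set G))), a = g * z * g⁻¹} with hB
  have hne : (A ∩ B).Nonempty := by
    by_contra hemp
    rw [Set.not_nonempty_iff_eq_empty] at hemp
    have h3 := Set.ncard_union_add_ncard_inter A B (Set.toFinite _) (Set.toFinite _)
    rw [hemp, Set.ncard_empty] at h3
    have h4 : (A ∪ B).ncard ≤ Nat.card G := by
      rw [← Set.ncard_univ]
      exact Set.ncard_le_ncard (Set.subset_univ _) (Set.toFinite _)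
    omega
  obtain ⟨a, ⟨g₁, z₁, ⟨hz₁, hz₁'⟩, rfl⟩, ⟨g₂, z₂, ⟨hz₂, hz₂'⟩, he⟩⟩ := hne
  simp only [Set.mem_union, not_or] at hz₁' hz₂'
  obtain ⟨l₁, hl₁, s₁, hs₁, e₁, hc₁, -, -⟩ := h.md.hat hz₁ hz₁'.1 hz₁'.2
  obtain ⟨l₂, hl₂, s₂, hs₂, e₂, hc₂, -, hs21⟩ := h₂.md.hat hz₂ hz₂'.1 hz₂'.2
  obtain ⟨p, hp, hps, -⟩ := exists_prime_pow hs21
  have hpσ : p ∈ sigma H := MD.order_st hs₂ p hp hps
  have hcop₂ := h₂.md.cop hl₂ hs₂
  have hcop₁ := h.md.cop hl₁ hs₁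
  have h5 : p ∣ orderOf z₂ := by
    rw [← e₂, hc₂.orderOf_mul_eq_mul_orderOf_of_coprime hcop₂]
    exact hps.mul_left _
  have h6 : orderOf z₁ = orderOf z₂ := by
    have e3 : orderOf (g₁ * z₁ * g₁⁻¹) = orderOf z₁ := by
      rw [← MulAut.conj_apply]; exact orderOf_injective (MulAut.conj g₁).toMonoidHom (MulAut.conj g₁).injective z₁
    have e4 : orderOf (g₂ * z₂ * g₂⁻¹) = orderOf z₂ := by
      rw [← MulAut.conj_apply]; exact orderOf_injective (MulAut.conj g₂).toMonoidHom (MulAut.conj g₂).injective z₂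
    rw [← e3, he, e4]
  rw [← h6, ← e₁, hc₁.orderOf_mul_eq_mul_orderOf_of_coprime hcop₁] at h5
  rcases hp.dvd_mul.1 h5 with h7 | h7
  · have h8 : p ∈ sigma M' := h.K_sigma p hp (h7.trans (Subgroup.orderOf_dvd_natCard _ hl₁))
    obtain ⟨g, hg⟩ := sigma_disj hC h.h'.co h₂.co h8 hpσ
    exact ⟨g, Or.inr hg⟩
  · have h8 : p ∈ sigma M := MD.order_st hs₁ p hp h7
    obtain ⟨g, hg⟩ := sigma_disj hC h.h.co h₂.co h8 hpσ
    exact ⟨g, Or.inl hg⟩

theorem exists_KS_of_kappa (hG : IsMinSimpleOddOrder G) (hC : Con13 G) {M : Subgroup G} (hM : IsCoatom M) (hk : (kappa M).Nonempty) :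
    ∃ K E U : Subgroup G, KS M K E U := by
  obtain ⟨K, hK⟩ := H12.Hall.exists_hall (solvable_of_ne_top hG hM.1) (kappa M)
  have hKb : K ≠ ⊥ := by
    rintro rfl
    have := kappa_empty hG hK
    rw [this] at hk
    exact Set.not_nonempty_empty hk
  obtain ⟨E, U, h⟩ := exists_KS' hG hC hM hK hKb
  exact ⟨K, E, U, h⟩

theorem s1369 (hG : Cfsg.IsMinSimpleOddOrder G) (hC : Con13 G)
    (M : Subgroup G) (hM : IsCoatom M) (K U : Subgroup G) (hKU : Cfsg.IsSigmaDecomposition M K U) (hK1 : K ≠ ⊥) (Mstar : Subgroup G) (hMstar : IsCoatom Mstar)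
    (hKst : K = Cfsg.sigmaCore Mstar ⊓ Subgroup.centralizer ((Cfsg.sigmaCore M ⊓ Subgroup.centralizer (K : Set G)) : Set G))
    (hKstH : Cfsg.IsPiHallOf (Cfsg.kappa Mstar) (Cfsg.sigmaCore M ⊓ Subgroup.centralizer (K : Set G)) Mstar) :
    (U ≠ ⊥ ∨ ∀ Ustar : Subgroup G, Cfsg.IsSigmaDecomposition Mstar (Cfsg.sigmaCore M ⊓ Subgroup.centralizer (K : Set G)) Ustar → Ustar ≠ ⊥) ∧
      ∀ H : Subgroup G, IsCoatom H → (Cfsg.kappa H).Nonempty →
        ∃ g : G, H = M.map (MulAut.conj g).toMonoidHom ∨ H = Mstar.map (MulAut.conj g).toMonoidHom := by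
  obtain ⟨E', U', h⟩ := PR_of hG hC hM hKU hK1 hMstar hKst hKstH
  refine ⟨?_, ?_⟩
  · rcases h.u with hu | hu
    · exact Or.inl hu
    · right
      intro Us hUs
      have h1 := KS_of_decomp hG hC hMstar hUs h.h'.ne
      exact card_ne_bot (h.h'.U_card h1) hu
  · intro H hH hk
    obtain ⟨L, E₂, U₂, h₂⟩ := exists_KS_of_kappa hG hC hH hk
    exact h.two_classes hG hC h₂

end Cfsg.Agent.H2.BG14
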