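import Mathlib
import Cfsg.Agent.H12_BG157
import Cfsg.Agent.H24_FratAut
import Cfsg.Agent.H12_SL2
import Cfsg.Agent.H2_BG14m

/-! BG 15.7 (weak form), continued -/

set_option autoImplicit false
set_option linter.unusedSectionVars false
set_option linter.style.haveILetI false

open Pointwise
open scoped commutatorElement

namespace Cfsg.Agent.H12.BG157

open Cfsg Subgroup H13.Syl H12.Loc H12.Trans H12.BG7 H12.Puig H12.BG9 H12.BG10 H12.BG11 H12.BG12
open H12.BG13 H2.BG14 H12.BG15 H12.BG1212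

universe u

variable {G : Type u} [Group G] [Finite G]

theorem cyclic_of_nilp (hG : IsMinSimpleOddOrder G) {N : Subgroup G} (hN : Group.IsNilpotent N) (hr : RankLE 1 N) :
    IsCyclic N := by
  haveI := isZGroup_of_rankLE_one hG hr
  haveI := hN
  infer_instance

/-- Sylow subgroups of `M_σ` for other primes are abelian of rank at most 2 -/
theorem NT.other (hG : IsMinSimpleOddOrder G) {M : Subgroup G} {g x : G} {p : ℕ} (h : NT M g x p) {q : ℕ} (hq : q ∈ sigma M)
    (hqp : q ≠ p) {Q : Subgroup G} (hQ : IsSylIn q Q (sigmaCore M)) : IsMulCommutative Q ∧ PRankLE q 2 Q ∧ q ∉ beta M := by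
  haveI := Fact.mk hq.1
  have hn := h.nil hG
  have hQM : Q ≤ M := hQ.le.trans (sigmaCore_le M)
  have hσF : sigmaCore M ≤ fittingOf M := Core.le_fittingOf (sigmaCore_le M) (le_normalizer_sigmaCore M) hn
  have hQc := h.cent_other hq.1 hqp (hQ.le.trans hσF) hQ.isPGroup
  have hnu := h.not_umax hG hQc
  have hQt : Q ≠ ⊤ := ne_top_of_isPGroup hG hQ.isPGroup
  refine ⟨?_, ?_, ?_⟩
  · by_contra hc
    exact hnu (umax_of_inU h.hM hQM (thm1213 hG hQ.isPGroup hc))
  · by_contra hc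
    exact hnu (umax_of_inU h.hM hQM (inU_of_not_pRankLE hG hQt hc))
  · intro hβ
    have hQσ : IsSylIn q Q M := H12.Hall.sylow_trans (sigmaCore_hallOf hG h.hM) hq hQ
    have hqd : q ∣ Nat.card Q := by
      rcases (Nat.Prime.dvd_mul hq.1).1 (show q ∣ Q.relIndex M * Nat.card Q by
        rw [H12.Hall.relIndex_mul hQM]; exact hq.2.1) with h2 | h2
      · exact absurd h2 hQσ.not_dvd
      · exact h2
    obtain ⟨v, hv, hvo, hvc, hvQ⟩ := exists_order_sub hqd
    exact hnu ((thm1214 hG h.hM hq (X := zpowers v) (hvQ.trans hQM) hvc (Or.inl hβ)).2 Q hQ)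

theorem NT.beta_empty (hG : IsMinSimpleOddOrder G) {M : Subgroup G} {g x : G} {p : ℕ} (h : NT M g x p) {q : ℕ} (hq : q ∈ sigma M) :
    q ∉ beta M := by
  by_cases hqp : q = p
  · subst hqp; exact h.not_beta hG
  · haveI := Fact.mk hq.1
    obtain ⟨Q, hQ⟩ := exists_isSylIn (p := q) (sigmaCore M)
    exact (h.other hG hq hqp hQ).2.2

/-- `M' ≤ F(M)` -/
theorem NT.comm_le (hG : IsMinSimpleOddOrder G) {M : Subgroup G} {g x : G} {p : ℕ} (h : NT M g x p) : ⁅M, M⁆ ≤ fittingOf M := by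
  have hM := h.hM
  have hn := h.nil hG
  obtain ⟨E, hE⟩ : ∃ E : Subgroup G, IsComplIn E (sigmaCore M) M := by
    obtain ⟨E, -, hE⟩ := exists_E hG hM (K := ⊥) bot_le (by intro q hq hd; rw [card_bot] at hd; exact absurd (Nat.dvd_one.1 hd) hq.one_lt.ne')
    exact ⟨E, hE⟩
  obtain ⟨H, hH, hEH⟩ := thm1219 hG hM hE
  have hHe : H = sigmaCore M := by
    apply (H12.Hall.eq_of_le hH le_rfl ?_ hH.1).symm
    intro q hq hd
    exact h.beta_empty hG (H12.BG13.sigmaCore_pi M q hq hd)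
  rw [hHe] at hEH
  have hEE : ⁅E, E⁆ ≤ M := (comm_le_self E).trans hE.1
  have hEn := comm_nilpotent hG hM hE.1 (compl_sigmaC hG hM hE)
  have hsup : M ≤ normalizer ((⁅E, E⁆ ⊔ sigmaCore M : Subgroup G) : Set G) := by
    have e1 := (H12.Hall.compl_sup hE).symm
    refine e1.le.trans (sup_le ?_ ?_)
    · intro e he
      rw [mem_normalizer_iff_cj, cj_sup, cj_eq_of_mem_normalizer (le_normalizer_sigmaCore M (hE.1 he)), cj_commutator,
        cj_eq_of_mem he]
    · exact (le_sup_right (a := ⁅E, E⁆)).trans le_normalizer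
  have hnil : Group.IsNilpotent ↥(⁅E, E⁆ ⊔ sigmaCore M : Subgroup G) :=
    nilp_of_sup rfl hEn hn (le_centralizer_iff.1 hEH)
  exact (comm_le_sup hG hM hE).trans (Core.le_fittingOf (sup_le hEE (sigmaCore_le M)) hsup hnil)

theorem pg_x {M : Subgroup G} {g x : G} {p : ℕ} (h : NT M g x p) : IsPGroup p (zpowers x) := by
  haveI := Fact.mk h.hp
  exact IsPGroup.of_card (n := 1) (by rw [h.zc, pow_one])

/-- a normal Sylow subgroup of `M_σ` contains all `q`-subgroups of `M` -/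
theorem le_normal_sylow (hG : IsMinSimpleOddOrder G) {M : Subgroup G} (hM : IsCoatom M) (hn : Group.IsNilpotent (sigmaCore M))
    {q : ℕ} (hq : q ∈ sigma M) {Q : Subgroup G} (hQ : IsSylIn q Q (sigmaCore M)) :
    M ≤ normalizer (Q : Set G) ∧ IsSylIn q Q M ∧ IsSylIn q Q ⊤ ∧ ∀ X : Subgroup G, X ≤ M → IsPGroup q X → X ≤ Q := by
  haveI := Fact.mk hq.1
  have hQσ : IsSylIn q Q M := H12.Hall.sylow_trans (sigmaCore_hallOf hG hM) hq hQ
  have hMQ : M ≤ normalizer (Q : Set G) := normal_of_nilpotent_sylow (sigmaCore_le M) (le_normalizer_sigmaCore M) hn hQ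
  refine ⟨hMQ, hQσ, (sigma_sylow_top hq hQσ).1, ?_⟩
  intro X hX hXq
  obtain ⟨m, hm, hle⟩ := hQσ.exists_conj_le hXq hX
  rwa [cj_le_iff, cj_eq_of_mem_normalizer (hMQ (inv_mem hm))] at hle

/-- the second maximal subgroup and the `E2Max` subgroup of `P` -/
theorem NT.data (hG : IsMinSimpleOddOrder G) {M : Subgroup G} {g x : G} {p : ℕ} [hp : Fact p.Prime] (h : NT M g x p)
    {P : Subgroup G} (hP : IsSylIn p P (sigmaCore M)) :
    ∃ L B B₁ : Subgroup G, ND M L x ∧ p ∈ tau2 L ∧ Exc L p B B₁ ∧ B ≤ P ∧ B ≤ M ⊓ L ∧ x ∈ P := by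
  have hM := h.hM
  obtain ⟨L, hL⟩ := exists_ND hG (con13 hG) hM (h.mem_sig hG) h.x1 (h.not_le hG)
  have hτ : p ∈ tau2 L := hL.tau p h.hp (by rw [h.xo])
  obtain ⟨B, hBE, hB, hBc⟩ := exists_ea_compl hG hL.co hL.cmp hτ
  obtain ⟨B₁, hexc⟩ := exists_exc hG hL.co hτ.2.1 (hBE.trans inf_le_right) hB hBc
  obtain ⟨h1, h2, h3, h4⟩ := le_normal_sylow hG hM (h.nil hG) (h.sig hG) hP
  exact ⟨L, B, B₁, hL, hτ, hexc, h4 B (hBE.trans inf_le_left) (ea_isPGroup hB), hBE,
    h4 _ (zpowers_le.2 h.mem_M) (pg_x h) (mem_zpowers x)⟩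

/-- case (1) -/
theorem NT.abel (hG : IsMinSimpleOddOrder G) {M : Subgroup G} {g x : G} {p : ℕ} [hp : Fact p.Prime] (h : NT M g x p)
    {P : Subgroup G} (hP : IsSylIn p P (sigmaCore M)) (hPab : IsMulCommutative P) :
    IsMulCommutative (fittingHallOf M) ∧ RankLE 2 (fittingHallOf M) ∧ ¬ RankLE 1 (fittingHallOf M) ∧ kappa M = ∅ := by
  have hM := h.hM
  have hn := h.nil hG
  obtain ⟨L, B, B₁, hL, hτ, hexc, hBP, hBE, hxP⟩ := h.data hG hP
  obtain ⟨h1, h2, h3, h4⟩ := le_normal_sylow hG hM hn (h.sig hG) hP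
  have hNP : normalizer (P : Set G) = M := le_antisymm (sigma_sylow_top (h.sig hG) h2).2 h1
  obtain ⟨c1, c2, c3, c4, c5, c6⟩ := thm128c hG hexc hL.cmp hBE h3 hBP hPab
  rw [hNP] at c1 c2
  have hFab : IsMulCommutative (fittingOf (M ⊓ L)) :=
    thm1210a hG hL.co ((Core.fittingOf_le _).trans inf_le_right) (Core.fittingOf_isNilpotent _)
      ((compl_sigmaC hG hL.co hL.cmp).mono (Core.fittingOf_le _))
  have hM'ab : IsMulCommutative ↥⁅M, M⁆ := comm_mono c2 hFab
  have hHe := sigmaCore_eq_fittingHallOf hG hM hn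
  have hPL : P ≤ L := (le_cent_self hPab).trans (c4.trans inf_le_right)
  refine ⟨?_, ?_, ?_, ?_⟩
  · rw [← hHe]
    exact comm_mono (sigmaCore_le_commutator hG hM) hM'ab
  · rw [← hHe]
    intro q hq
    haveI := Fact.mk hq
    by_cases hd : q ∣ Nat.card (sigmaCore M)
    · have hqσ := H12.BG13.sigmaCore_pi M q hq hd
      by_cases hqp : q = p
      · subst hqp
        exact pRankLE_of_isSylIn hP (SCN.pRankLE_mono hPL hτ.2.2.1)
      · obtain ⟨Q, hQ⟩ := exists_isSylIn (p := q) (sigmaCore M)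
        exact pRankLE_of_isSylIn hQ (h.other hG hqσ hqp hQ).2.1
    · exact pRankLE_of_not_dvd hq hd
  · intro hr
    rw [← hHe] at hr
    have h5 := SCN.pRankLE_iff.1 (hr p hp.out) B (hBP.trans hP.le) hexc.e2.ea
    rw [hexc.e2.card] at h5
    have := hp.out.one_lt
    nlinarith
  · by_contra hne
    obtain ⟨q, hq⟩ := Set.nonempty_iff_ne_empty.2 hne
    obtain ⟨K, E, U, hks⟩ := exists_KS_of_kappa hG (con13 hG) hM ⟨q, hq⟩
    have h5 := s1365 hG hks
    have h6 : ⁅⁅M, M⁆, ⁅M, M⁆⁆ = ⊥ := commutator_eq_bot_iff_le_centralizer.2 (le_cent_self hM'ab)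
    rw [h6, le_bot_iff] at h5
    exact hks.neS h5

theorem fermat {V : Subgroup G} {q : ℕ} (hq : q.Prime) (hV : Nat.card V = q) {e : G} (he : e ∈ normalizer (V : Set G)) :
    e ^ (q - 1) ∈ centralizer (V : Set G) := by
  haveI := Fact.mk hq
  haveI : IsCyclic V := isCyclic_of_prime_card hV
  have h1 : (V.normalizerMonoidHom ⟨e, he⟩) ^ (q - 1) = 1 := by
    have h2 := IsCyclic.card_mulAut V
    rw [hV, Nat.totient_prime hq] at h2
    rw [← h2]
    exact pow_card_eq_one'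
  rw [← map_pow] at h1
  rw [mem_centralizer_iff]
  intro v hv
  have h3 := congrArg (fun a : MulAut V => ((a ⟨v, hv⟩ : V) : G)) h1
  simp only [MulAut.one_apply] at h3
  rw [H12.Rank2.normalizerHom_apply] at h3
  have h4 : e ^ (q - 1) * v * (e ^ (q - 1))⁻¹ = v := h3
  exact (mul_inv_eq_iff_eq_mul.1 h4).symm

/-- case B: `O_{p'}(M_σ)` is cyclic -/
theorem NT.cyc (hG : IsMinSimpleOddOrder G) {M : Subgroup G} {g x : G} {p : ℕ} [hp : Fact p.Prime] (h : NT M g x p)
    {P : Subgroup G} (hP : IsSylIn p P (sigmaCore M)) (hPn : ¬ IsMulCommutative P) :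
    IsCyclic ↥(Oc p (sigmaCore M)) := by
  have hM := h.hM
  have hn := h.nil hG
  obtain ⟨h1, h2, h3, h4⟩ := le_normal_sylow hG hM hn (h.sig hG) hP
  have hxP : x ∈ P := h4 _ (zpowers_le.2 h.mem_M) (pg_x h) (mem_zpowers x)
  have hPO : P ≤ Oq p (sigmaCore M) := le_Oq hp.out hP.le ((sigmaCore_le M).trans h1) hP.isPGroup
  have hWP : Oc p (sigmaCore M) ≤ centralizer (P : Set G) :=
    (Oc_le_centralizer_Oq hp.out _).trans (centralizer_le hPO)
  have hWn : Group.IsNilpotent ↥(Oc p (sigmaCore M)) := nilp_mono (Oc_le _ _) hn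
  apply cyclic_of_nilp hG hWn
  by_contra hr
  have hU := thm92 hG (thm1213 hG hP.isPGroup hPn) hWP hr
  apply h.not_umax hG ?_ (umax_of_inU hM ((Oc_le _ _).trans (sigmaCore_le M)) hU)
  refine hWP.trans ?_
  rw [← centralizer_zpowers]
  exact centralizer_le (zpowers_le.2 hxP)

theorem NT.cyc' (hG : IsMinSimpleOddOrder G) {M : Subgroup G} {g x : G} {p : ℕ} [hp : Fact p.Prime] (h : NT M g x p)
    {P : Subgroup G} (hP : IsSylIn p P (sigmaCore M)) (hPn : ¬ IsMulCommutative P) :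
    IsCyclic (pPrimeCore p ↥(fittingHallOf M)) := by
  have h1 := h.cyc hG hP hPn
  rw [sigmaCore_eq_fittingHallOf hG h.hM (h.nil hG), Oc_eq_map hp.out] at h1
  haveI := h1
  exact isCyclic_of_surjective _
    ((pPrimeCore p ↥(fittingHallOf M)).equivMapOfInjective _ (fittingHallOf M).subtype_injective).symm.surjective

/-- the free action of `E` on `M_σ` when `κ = ∅` -/
theorem free_of_kappa (hG : IsMinSimpleOddOrder G) {M E : Subgroup G} (hM : IsCoatom M) (hE : IsComplIn E (sigmaCore M) M)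
    (hκ : kappa M = ∅) : Free M E := by
  intro w hw q hq hwo hqt
  haveI := Fact.mk hq
  have hdE : q ∣ Nat.card E := by
    rw [← hwo]
    exact Subgroup.orderOf_dvd_natCard _ hw
  have hσ := compl_sigmaC hG hM hE q hq hdE
  have hr1 : PRankLE q 1 M := by
    rcases H12.BG13.tau_cases hG hM hq (hdE.trans (card_dvd_of_le hE.1)) hσ with g1 | g2 | g3
    · exact g1.2.2.2.2
    · exact absurd g2 hqt
    · exact g3.2.2.2
  rw [← centralizer_zpowers]
  exact free_of_not_kappa hG hσ hr1 (by rw [hκ]; exact fun h => h) (zpowers_le.2 (hE.1 hw)) (by rw [Nat.card_zpowers, hwo])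

/-- normal subgroups of prime order in `M_σ` -/
theorem NT.exists_V (hG : IsMinSimpleOddOrder G) {M : Subgroup G} {g x : G} {p : ℕ} [hp : Fact p.Prime] (h : NT M g x p)
    {P : Subgroup G} (hP : IsSylIn p P (sigmaCore M)) (hPn : ¬ IsMulCommutative P) {q : ℕ} (hq : q ∈ sigma M) :
    ∃ V : Subgroup G, V ≤ sigmaCore M ∧ Nat.card V = q ∧ M ≤ normalizer (V : Set G) := by
  have hM := h.hM
  have hn := h.nil hG
  haveI := Fact.mk hq.1
  obtain ⟨h1, h2, h3, h4⟩ := le_normal_sylow hG hM hn (h.sig hG) hP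
  by_cases hqp : q = p
  · subst hqp
    obtain ⟨L, B, B₁, hL, hτ, hexc, hBP, hBE, hxP⟩ := h.data hG hP
    have k1 := (thm1013 hG hP.isPGroup hexc.e2 hBP hPn).1
    exact ⟨OZ q P, (OZ_le q P).trans hP.le, k1, h1.trans (normalizer_le_OZ q P)⟩
  · have hd : q ∣ Nat.card (sigmaCore M) := by
      have := sigmaCore_hallOf hG hM
      exact (H12.Hall.dvd_iff hq.1 this hq).2 hq.2.1
    obtain ⟨v, hv, hvo, hvc, hvW⟩ := exists_order_sub hd
    have hvO : zpowers v ≤ Oc p (sigmaCore M) := by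
      obtain ⟨Q, hQ⟩ := exists_isSylIn (p := q) (sigmaCore M)
      obtain ⟨k1, k2, k3, k4⟩ := le_normal_sylow hG hM hn hq hQ
      have hvp : IsPGroup q (zpowers v) := IsPGroup.of_card (n := 1) (by rw [hvc, pow_one])
      refine (k4 _ (hvW.trans (sigmaCore_le M)) hvp).trans ?_
      apply le_Oc hp.out hQ.le ((sigmaCore_le M).trans k1)
      obtain ⟨n, hn'⟩ := IsPGroup.iff_card.1 hQ.isPGroup
      rw [hn']
      exact Nat.Coprime.pow_left n ((Nat.coprime_primes hq.1 hp.out).2 hqp)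
    refine ⟨zpowers v, hvW, hvc, ?_⟩
    exact normal_of_cyclic (h.cyc hG hP hPn) hvO
      ((le_normalizer_sigmaCore M).trans (Core.normalizer_le_normalizer_piCoreOf _ _))

/-- exponents in the case `κ = ∅` -/
theorem NT.expo (hG : IsMinSimpleOddOrder G) {M : Subgroup G} {g x : G} {p : ℕ} [hp : Fact p.Prime] (h : NT M g x p)
    {P : Subgroup G} (hP : IsSylIn p P (sigmaCore M)) (hPn : ¬ IsMulCommutative P) (hκ : kappa M = ∅)
    {E : Subgroup G} (hE : IsComplIn E (sigmaCore M) M) {q : ℕ} (hq : q ∈ sigma M) : Monoid.exponent E ∣ q - 1 := by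
  have hM := h.hM
  obtain ⟨-, E₀, h1, h2, h3⟩ := thm1212 hG hM hE (free_of_kappa hG hM hE hκ)
  obtain ⟨V, hV, hVc, hVn⟩ := h.exists_V hG hP hPn hq
  rw [← h2]
  apply Monoid.exponent_dvd_of_forall_pow_eq_one
  intro e
  have h4 := fermat hq.1 hVc (hVn (hE.1 (h1 e.2)))
  by_contra hne
  have h5 := h3 ((e : G) ^ (q - 1)) (pow_mem e.2 _) (fun h6 => hne (Subtype.ext (by simpa using h6)))
  have h6 : V ≤ sigmaCore M ⊓ centralizer ({(e : G) ^ (q - 1)} : Set G) := by
    refine le_inf hV ?_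
    intro v hv
    rw [mem_centralizer_singleton_iff]
    exact mem_centralizer_iff.1 h4 v hv
  rw [h5, le_bot_iff] at h6
  rw [h6, card_bot] at hVc
  exact hq.1.one_lt.ne hVc

theorem cyc_comm {K : Subgroup G} (h : IsCyclic K) : ∀ a ∈ K, ∀ b ∈ K, a * b = b * a := by
  intro a ha b hb
  haveI := h
  exact congrArg Subtype.val (IsCyclic.commGroup.mul_comm (⟨a, ha⟩ : K) ⟨b, hb⟩)

/-- the case `κ ≠ ∅` -/
theorem NT.kdvd (hG : IsMinSimpleOddOrder G) {M : Subgroup G} {g x : G} {p : ℕ} [hp : Fact p.Prime] (h : NT M g x p)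
    {P : Subgroup G} (hP : IsSylIn p P (sigmaCore M)) (hPn : ¬ IsMulCommutative P) {K E U : Subgroup G} (hk : KS M K E U) :
    U = ⊥ ∧ (Nat.card K ∣ p - 1 ∨ (Nat.card P = p ^ 3 ∧ Nat.card K ∣ p + 1)) := by
  have hpp := hp.out
  have hM := h.hM
  have hC := con13 hG
  have hn := h.nil hG
  have hpσ := h.sig hG
  have hU : U = ⊥ := by
    by_contra hU
    exact h.not_beta hG ((KS.g hG hk hU).1 p hpσ)
  refine ⟨hU, ?_⟩
  obtain ⟨L, B, B₁, hL, hτ, hexc, hBP, hBE, hxP⟩ := h.data hG hP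
  obtain ⟨h1, h2, h3, h4⟩ := le_normal_sylow hG hM hn hpσ hP
  obtain ⟨k1, k2, -, -⟩ := thm1013 hG hP.isPGroup hexc.e2 hBP hPn
  have hKc : IsCyclic K := K_cyc hG hC hM hk.hall
  have hKcc := cyc_comm hKc
  have hKM : K ≤ M := hk.hall.1
  have hKP : K ≤ normalizer (P : Set G) := hKM.trans h1
  have hKZ : K ≤ normalizer (OZ p P : Set G) := hKP.trans (normalizer_le_OZ p P)
  have hKσ : SigmaC M K := kappa_sigmaC hk.hall
  have hKcop : (Nat.card K).Coprime p := by
    refine ((Nat.Prime.coprime_iff_not_dvd hpp).2 fun hd => ?_).symm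
    exact hKσ p hpp hd hpσ
  have hPb : P ≠ ⊥ := by
    rintro rfl
    rw [mem_bot] at hxP
    exact h.x1 hxP
  by_cases hcz : ∃ k ∈ K, k ≠ 1 ∧ OZ p P ≤ centralizer ({k} : Set G)
  swap
  · left
    have h5 : Nat.card K ∣ Nat.card (OZ p P) - 1 := by
      apply SL2.card_dvd_free hKZ
      intro k hk hk1
      by_contra hne
      apply hcz
      refine ⟨k, hk, hk1, ?_⟩
      have h6 : Nat.card ↥(OZ p P ⊓ centralizer ({k} : Set G)) ∣ p := by
        have := card_dvd_of_le (inf_le_left : OZ p P ⊓ centralizer ({k} : Set G) ≤ OZ p P)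
        rwa [k1] at this
      rcases (Nat.dvd_prime hpp).1 h6 with h7 | h7
      · exact absurd (Subgroup.card_eq_one.1 h7) hne
      · have h8 := eq_of_le_of_card_ge (inf_le_left : OZ p P ⊓ centralizer ({k} : Set G) ≤ OZ p P) (by rw [k1, h7])
        exact h8 ▸ inf_le_right
    rwa [k1] at h5
  obtain ⟨k, hkK, hk1, hkZ⟩ := hcz
  have hZst : OZ p P = st M K := by
    have h5 : OZ p P ≤ st M K := by
      show OZ p P ≤ sigmaCore M ⊓ centralizer (K : Set G)
      rw [← hk.prime k hkK hk1]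
      exact le_inf ((OZ_le p P).trans hP.le) hkZ
    apply eq_of_le_of_card_ge h5
    have h6 := s1373 hG hk hU
    have h7 : Nat.card (OZ p P) ∣ Nat.card (st M K) := card_dvd_of_le h5
    rw [k1] at h7 ⊢
    exact ((Nat.prime_dvd_prime_iff_eq hpp h6).1 h7).ge
  have hKOZ : K ≤ centralizer (OZ p P : Set G) := by
    rw [hZst]
    exact le_centralizer_iff.1 inf_le_right
  rcases nar_of_not_beta hpσ (h.not_beta hG) h2 with hr | ⟨F, y, hnar⟩
  · -- rank two
    rcases thm107b hG h3 hr with hab | ⟨P₁, P₂, p1, p2, p3, p4, p5, p6, p7⟩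
    · exact absurd hab hPn
    have hP₁P : P₁ ≤ P := p1 ▸ le_sup_left
    have hP₂P : P₂ ≤ P := p1 ▸ le_sup_right
    have hZPab : IsMulCommutative ↥(P ⊓ centralizer (P : Set G)) := by
      constructor
      constructor
      rintro ⟨a, ha⟩ ⟨b, hb⟩
      exact Subtype.ext (mem_centralizer_iff.1 (mem_inf.1 hb).2 a (mem_inf.1 ha).1)
    have hKZP : K ≤ normalizer ((P ⊓ centralizer (P : Set G) : Subgroup G) : Set G) := by
      intro k hk
      rw [mem_normalizer_iff_cj, cj_inf, cj_centralizer, cj_eq_of_mem_normalizer (hKP hk)]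
    have hcopP : (Nat.card K).Coprime (Nat.card ↥(P ⊓ centralizer (P : Set G))) := by
      obtain ⟨n, hn'⟩ := IsPGroup.iff_card.1 (hP.isPGroup.to_le (inf_le_left : P ⊓ centralizer (P : Set G) ≤ P))
      rw [hn']
      exact Nat.Coprime.pow_right n hKcop
    have hKZ' : K ≤ centralizer ((P ⊓ centralizer (P : Set G) : Subgroup G) : Set G) := by
      haveI := hZPab
      apply H1.Coprime.abelian_trivial_of_prime_order K _ hKZP hcopP
      intro v hv hvo a ha
      have hvp : orderOf v = p := by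
        obtain ⟨n, hn'⟩ := (IsPGroup.iff_orderOf.1 hP.isPGroup) ⟨v, (mem_inf.1 hv).1⟩
        rw [orderOf_mk] at hn'
        rw [hn'] at hvo ⊢
        rw [Nat.Prime.eq_one_of_pow hvo, pow_one]
      have hvZ : v ∈ OZ p P := mem_OZ.2 ⟨(mem_inf.1 hv).1, (mem_inf.1 hv).2, hvp ▸ pow_orderOf_eq_one v⟩
      exact (mem_centralizer_iff.1 (hKOZ ha) v hvZ).symm
    have hZP : P ⊓ centralizer (P : Set G) ≤ OZ p P := by
      rw [hZst]
      exact le_inf (inf_le_left.trans hP.le) (le_centralizer_iff.1 hKZ')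
    have hP₂Z : P₂ ≤ OZ p P := by
      refine le_trans (le_inf hP₂P ?_) hZP
      rw [le_centralizer_iff, ← p1]
      refine sup_le ?_ (le_cent_self ⟨⟨fun a b => Subtype.ext (cyc_comm p6 a a.2 b b.2)⟩⟩)
      intro a ha
      rw [mem_centralizer_iff]
      intro b hb
      exact (p2 a ha b hb).symm
    obtain ⟨q1, q2⟩ := center_of_cube p4 p3
    have hc1 : P₁ ⊓ centralizer (P₁ : Set G) ≤ P₂ := by
      rw [← p7]
      exact (closure_le _).2 fun x hx => hx.1
    have hc2 : P₁ ⊓ centralizer (P₁ : Set G) = P₂ := by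
      apply eq_of_le_of_card_ge hc1
      rw [← q1, q2, ← k1]
      exact card_le_of_le hP₂Z
    have hPP : P = P₁ := by
      rw [← p1, ← hc2]
      exact sup_eq_left.2 inf_le_left
    subst hPP
    have h9 : Nat.card K ∣ p - 1 ∨ Nat.card K ∣ p + 1 := by
      apply SL2.sl2_case (Z := OZ p P) (P := P) p4 k1 (OZ_le p P) (q1.le.trans hZP) p3 ?_ hKP ?_ hKOZ hKcc
        (odd_card_subgroup hG K) hKcop ?_
      · intro v hv
        have : v ^ p = 1 := by
          have h5 := Monoid.pow_exponent_eq_one (⟨v, hv⟩ : P)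
          rw [p5] at h5
          exact congrArg Subtype.val h5
        rw [this]
        exact one_mem _
      · rw [le_centralizer_iff]
        intro v hv
        exact (mem_OZ.1 hv).2.1
      · intro l hl hl1
        rw [hZst]
        show P ⊓ centralizer ({l} : Set G) ≤ sigmaCore M ⊓ centralizer (K : Set G)
        rw [← hk.prime l hl hl1]
        exact inf_le_inf_right _ hP.le
    rcases h9 with h9 | h9
    · exact Or.inl h9
    · exact Or.inr ⟨p4, h9⟩
  · -- narrow of larger rank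
    left
    have hp2 : p ≠ 2 := by
      rintro rfl
      have h5 := odd_card_subgroup hG (OZ 2 P)
      rw [k1] at h5
      exact absurd h5 (by decide)
    have key : ∀ l ∈ K, l ^ (p - 1) = 1 := by
      intro l hl
      by_contra hne
      have h5 : (P.normalizerMonoidHom ⟨l, hKP hl⟩) ^ (p - 1) = 1 := by
        apply (Narrow.narrow_aut hp2 hP.isPGroup hnar).2
        refine Nat.Coprime.coprime_dvd_left ((orderOf_map_dvd _ _).trans ?_) hKcop
        rw [orderOf_mk]
        exact Subgroup.orderOf_dvd_natCard _ hl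
      rw [← map_pow] at h5
      have h6 : P ≤ centralizer ({l ^ (p - 1)} : Set G) := by
        intro v hv
        have h7 := congrArg (fun a : MulAut P => ((a ⟨v, hv⟩ : P) : G)) h5
        simp only [MulAut.one_apply] at h7
        rw [H12.Rank2.normalizerHom_apply] at h7
        have h8 : l ^ (p - 1) * v * (l ^ (p - 1))⁻¹ = v := h7
        rw [mem_centralizer_singleton_iff]
        exact (mul_inv_eq_iff_eq_mul.1 h8).symm
      apply KS.e2 hG hC hk hP hPb
      show P ≤ sigmaCore M ⊓ centralizer (K : Set G)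
      rw [← hk.prime _ (pow_mem hl _) hne]
      exact le_inf hP.le h6
    haveI := hKc
    obtain ⟨y, hy⟩ := IsCyclic.exists_ofOrder_eq_natCard (α := K)
    rw [← hy, ← orderOf_coe]
    exact orderOf_dvd_of_pow_eq_one (key y y.2)

/-- weak form of BG 15.7: the trichotomy -/
theorem NT.tri (hG : IsMinSimpleOddOrder G) {M : Subgroup G} {g x : G} {p : ℕ} [hp : Fact p.Prime] (h : NT M g x p) :
    (IsMulCommutative (fittingHallOf M) ∧ RankLE 2 (fittingHallOf M) ∧ ¬ RankLE 1 (fittingHallOf M) ∧ kappa M = ∅) ∨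
    (p ∣ Nat.card (fittingHallOf M) ∧ IsCyclic (pPrimeCore p ↥(fittingHallOf M)) ∧
      ((kappa M = ∅ ∧ ∀ E : Subgroup G, IsComplIn E (sigmaCore M) M → ∀ q ∈ sigma M, Monoid.exponent E ∣ q - 1) ∨
       (∀ K E U : Subgroup G, KS M K E U → U = ⊥ ∧ (Nat.card K ∣ p - 1 ∨
        (Nat.card (pCore p ↥(fittingHallOf M)) = p ^ 3 ∧ Nat.card K ∣ p + 1))))) := by
  have hM := h.hM
  have hn := h.nil hG
  obtain ⟨P, hP⟩ := exists_isSylIn (p := p) (sigmaCore M)
  by_cases hPab : IsMulCommutative P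
  · exact Or.inl (h.abel hG hP hPab)
  right
  have hHe := sigmaCore_eq_fittingHallOf hG hM hn
  obtain ⟨h1, h2, h3, h4⟩ := le_normal_sylow hG hM hn (h.sig hG) hP
  refine ⟨?_, h.cyc' hG hP hPab, ?_⟩
  · rw [← hHe]
    exact (H12.Hall.dvd_iff hp.out (sigmaCore_hallOf hG hM) (h.sig hG)).2 (h.sig hG).2.1
  · by_cases hκ : kappa M = ∅
    · exact Or.inl ⟨hκ, fun E hE q hq => h.expo hG hP hPab hκ hE hq⟩
    · right
      intro K E U hk
      obtain ⟨h5, h6⟩ := h.kdvd hG hP hPab hk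
      refine ⟨h5, ?_⟩
      rcases h6 with h6 | ⟨h6, h7⟩
      · exact Or.inl h6
      · right
        refine ⟨?_, h7⟩
        have h8 : Oq p (sigmaCore M) = P := by
          apply le_antisymm
          · exact h4 _ ((Oq_le _ _).trans (sigmaCore_le M)) (Oq_isPGroup hp.out _)
          · exact le_Oq hp.out hP.le ((sigmaCore_le M).trans h1) hP.isPGroup
        rw [← h6, ← h8, hHe, Oq_eq_map hp.out]
        exact (Nat.card_congr ((pCore p ↥(fittingHallOf M)).equivMapOfInjective _ (fittingHallOf M).subtype_injective).toEquiv)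

end Cfsg.Agent.H12.BG157
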