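import Mathlib
import Cfsg.Agent.H24_Class

/-!
Frobenius' theorem (general form): the number of `x` with `x ^ n` conjugate to `c` is a multiple of
`gcd (h * n) |G|`, `h` the size of the class of `c`.
-/

set_option autoImplicit false

namespace Cfsg.Agent.H23.Count

open Subgroup

universe u

variable {G : Type u} [Group G]

theorem card_conj_pow [Finite G] (c : G) (n : ℕ) :
    Nat.card {x : G // IsConj c (x ^ n)} = Nat.card {y : G // IsConj c y} * Nat.card {x : G // x ^ n = c} := by
  classical
  choose g hg using fun y : {y : G // IsConj c y} => isConj_iff.mp y.2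
  rw [← Nat.card_prod]
  refine Nat.card_congr
    { toFun := fun x => (⟨x.1 ^ n, x.2⟩, ⟨(g ⟨x.1 ^ n, x.2⟩)⁻¹ * x.1 * g ⟨x.1 ^ n, x.2⟩, ?_⟩)
      invFun := fun q => ⟨g q.1 * q.2.1 * (g q.1)⁻¹, ?_⟩
      left_inv := ?_
      right_inv := ?_ }
  · have h := hg ⟨x.1 ^ n, x.2⟩
    have h2 : ((g ⟨x.1 ^ n, x.2⟩)⁻¹ * x.1 * g ⟨x.1 ^ n, x.2⟩) ^ n =
        (g ⟨x.1 ^ n, x.2⟩)⁻¹ * x.1 ^ n * g ⟨x.1 ^ n, x.2⟩ := by
      have := conj_pow (i := n) (a := (g ⟨x.1 ^ n, x.2⟩)⁻¹) (b := x.1)
      simpa using this
    rw [h2]
    have h3 : (x.1 ^ n) = g ⟨x.1 ^ n, x.2⟩ * c * (g ⟨x.1 ^ n, x.2⟩)⁻¹ := h.symm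
    calc (g ⟨x.1 ^ n, x.2⟩)⁻¹ * x.1 ^ n * g ⟨x.1 ^ n, x.2⟩
        = (g ⟨x.1 ^ n, x.2⟩)⁻¹ * (g ⟨x.1 ^ n, x.2⟩ * c * (g ⟨x.1 ^ n, x.2⟩)⁻¹) * g ⟨x.1 ^ n, x.2⟩ := by
          rw [h]
      _ = c := by group
  · rw [conj_pow, q.2.2]
    exact isConj_iff.mpr ⟨g q.1, rfl⟩
  · intro x
    apply Subtype.ext
    simp only
    group
  · rintro ⟨y, x⟩
    have h1 : (g y * x.1 * (g y)⁻¹) ^ n = y.1 := by
      rw [conj_pow, x.2, hg y]
    have h2 : ∀ (z : {y : G // IsConj c y}), z = y → (g z)⁻¹ * (g y * x.1 * (g y)⁻¹) * g z = x.1 := by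
      rintro z rfl
      group
    refine Prod.ext (Subtype.ext h1) (Subtype.ext ?_)
    exact h2 _ (Subtype.ext h1)

theorem orderOf_of_pow [Finite G] {x c : G} {n : ℕ} (hn : 0 < n) (hx : x ^ n = c)
    (hp : ∀ p : ℕ, p.Prime → p ∣ n → p ∣ orderOf c) : orderOf x = n * orderOf c := by
  have hc : 0 < orderOf c := orderOf_pos c
  refine orderOf_eq_of_pow_and_pow_div_prime (Nat.mul_pos hn hc) ?_ ?_
  · rw [pow_mul, hx, pow_orderOf_eq_one]
  · intro p hpp hdvd
    have h1 : p ∣ orderOf c := by
      rcases (Nat.Prime.dvd_mul hpp).mp hdvd with h | h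
      · exact hp p hpp h
      · exact h
    rw [Nat.mul_div_assoc _ h1, pow_mul, hx]
    intro h
    have h2 := orderOf_dvd_of_pow_eq_one h
    have h3 : orderOf c / p < orderOf c := Nat.div_lt_self hc hpp.one_lt
    have h4 : 0 < orderOf c / p := Nat.div_pos (Nat.le_of_dvd hc h1) hpp.pos
    exact absurd (Nat.le_of_dvd h4 h2) (not_le.mpr h3)

theorem card_pow_eq_one_cyclic (K : Type u) [Group K] [IsCyclic K] [Finite K] (n : ℕ) :
    Nat.card {u : K // u ^ n = 1} = (Nat.card K).gcd n := by
  letI := IsCyclic.commGroup (α := K)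
  rw [← IsCyclic.card_powMonoidHom_ker]
  exact Nat.card_congr (Equiv.subtypeEquivRight (fun u => by rw [MonoidHom.mem_ker, powMonoidHom_apply]))

theorem card_fiber [Finite G] {x c : G} {n : ℕ} (hn : 0 < n) (hx : x ^ n = c)
    (hp : ∀ p : ℕ, p.Prime → p ∣ n → p ∣ orderOf c) :
    Nat.card {y : G // y ^ n = c ∧ zpowers y = zpowers x} = n := by
  have hk : Nat.card {u : zpowers x // u ^ n = 1} = n := by
    rw [card_pow_eq_one_cyclic, Nat.card_zpowers, orderOf_of_pow hn hx hp]
    exact Nat.gcd_eq_right (Dvd.intro _ rfl)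
  have hcomm : ∀ u : zpowers x, Commute x (u : G) := by
    intro u
    obtain ⟨k, hk⟩ := mem_zpowers_iff.mp u.2
    rw [← hk]
    exact (Commute.refl x).zpow_right k
  have hpow : ∀ u : {u : zpowers x // u ^ n = 1}, (x * ((u : zpowers x) : G)) ^ n = c := by
    intro u
    rw [(hcomm u).mul_pow, hx]
    have h2 : (((u : zpowers x) : G)) ^ n = 1 := by
      have := congrArg (Subtype.val) u.2
      simpa using this
    rw [h2, mul_one]
  have hz : ∀ y : G, y ∈ zpowers x → y ^ n = c → zpowers y = zpowers x := by
    intro y hy hyn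
    apply Subgroup.eq_of_le_of_card_ge
    · rw [zpowers_le]; exact hy
    · rw [Nat.card_zpowers, Nat.card_zpowers, orderOf_of_pow hn hx hp, orderOf_of_pow hn hyn hp]
  refine (Nat.card_congr (Equiv.ofBijective
    (fun u : {u : zpowers x // u ^ n = 1} =>
      (⟨x * ((u : zpowers x) : G), hpow u, hz _ (mul_mem (mem_zpowers x) (u : zpowers x).2) (hpow u)⟩ :
        {y : G // y ^ n = c ∧ zpowers y = zpowers x})) ⟨?_, ?_⟩)).symm.trans hk
  · intro u v huv
    have := congrArg Subtype.val huv
    simp only [mul_right_inj] at this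
    exact Subtype.ext (Subtype.ext this)
  · rintro ⟨y, hy1, hy2⟩
    have hyx : y ∈ zpowers x := hy2 ▸ mem_zpowers y
    have hu : x⁻¹ * y ∈ zpowers x := mul_mem (inv_mem (mem_zpowers x)) hyx
    refine ⟨⟨⟨x⁻¹ * y, hu⟩, ?_⟩, ?_⟩
    · apply Subtype.ext
      simp only [SubmonoidClass.mk_pow, OneMemClass.coe_one]
      rw [Commute.mul_pow, hy1, inv_pow, hx, inv_mul_cancel]
      exact (hcomm ⟨y, hyx⟩).inv_left
    · apply Subtype.ext
      simp

theorem dvd_card_pow_eq [Finite G] {c : G} {n : ℕ} (hn : 0 < n)
    (hp : ∀ p : ℕ, p.Prime → p ∣ n → p ∣ orderOf c) :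
    n ∣ Nat.card {x : G // x ^ n = c} := by
  classical
  have := Fintype.ofFinite G
  have := Fintype.ofFinite (Subgroup G)
  rw [Nat.card_eq_fintype_card, Fintype.card_subtype]
  rw [Finset.card_eq_sum_card_fiberwise (f := fun x => zpowers x) (t := Finset.univ) (by intro x _; simp)]
  apply Finset.dvd_sum
  intro K _
  by_cases hK : ∃ x : G, x ^ n = c ∧ zpowers x = K
  · obtain ⟨x, hx, rfl⟩ := hK
    have h := card_fiber hn hx hp
    rw [Nat.card_eq_fintype_card, Fintype.card_subtype] at h
    rw [Finset.filter_filter, h]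
  · rw [Finset.filter_filter]
    rw [Finset.card_eq_zero.mpr]
    · exact dvd_zero _
    · rw [Finset.filter_eq_empty_iff]
      intro x _ hx
      exact hK ⟨x, hx⟩

theorem dvd_card_of_classes [Finite G] (D : Set G) (hD : ∀ y z : G, IsConj y z → y ∈ D → z ∈ D) (a k : ℕ)
    (hk : ∀ y ∈ D, k ∣ Nat.card {x : G // IsConj y (x ^ a)}) : k ∣ Nat.card {x : G // x ^ a ∈ D} := by
  classical
  have := Fintype.ofFinite G
  have : Finite (ConjClasses G) := Quotient.finite _
  have := Fintype.ofFinite (ConjClasses G)
  rw [Nat.card_eq_fintype_card, Fintype.card_subtype]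
  rw [Finset.card_eq_sum_card_fiberwise (f := fun x => ConjClasses.mk (x ^ a)) (t := Finset.univ)
    (by intro x _; simp)]
  apply Finset.dvd_sum
  intro K _
  by_cases hK : ∃ x : G, x ^ a ∈ D ∧ ConjClasses.mk (x ^ a) = K
  · obtain ⟨x, hx, rfl⟩ := hK
    have h := hk _ hx
    rw [Nat.card_eq_fintype_card, Fintype.card_subtype] at h
    rw [Finset.filter_filter]
    have heq : (Finset.univ.filter (fun z : G => z ^ a ∈ D ∧ ConjClasses.mk (z ^ a) = ConjClasses.mk (x ^ a))) =
        Finset.univ.filter (fun z : G => IsConj (x ^ a) (z ^ a)) := by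
      ext z
      simp only [Finset.mem_filter, Finset.mem_univ, true_and, ConjClasses.mk_eq_mk_iff_isConj]
      constructor
      · rintro ⟨_, h2⟩
        exact h2.symm
      · intro h2
        exact ⟨hD _ _ h2 hx, h2.symm⟩
    rw [heq]
    exact h
  · rw [Finset.filter_filter]
    rw [Finset.card_eq_zero.mpr]
    · exact dvd_zero _
    · rw [Finset.filter_eq_empty_iff]
      intro x _ hx
      exact hK ⟨x, hx⟩

theorem card_class (g : G) : Nat.card {z : G // IsConj g z} = (centralizer ({g} : Set G)).index :=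
  Cfsg.Agent.H24.Class.card_conjugatesOf g

/-- class size of a power divides the class size -/
theorem card_class_pow_dvd (c y : G) (b : ℕ) (h : IsConj c (y ^ b)) :
    Nat.card {z : G // IsConj c z} ∣ Nat.card {z : G // IsConj y z} := by
  have h1 : Nat.card {z : G // IsConj c z} = Nat.card {z : G // IsConj (y ^ b) z} := by
    apply Nat.card_congr
    exact Equiv.subtypeEquivRight (fun z => ⟨fun hz => h.symm.trans hz, fun hz => h.trans hz⟩)
  rw [h1, card_class, card_class]
  apply Subgroup.index_dvd_of_le
  intro g hg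
  rw [mem_centralizer_singleton_iff] at hg ⊢
  exact (show Commute g y from hg).pow_right b

theorem step_coprime_aux [Finite G] (a b : ℕ) (c : G)
    (ha : ∀ c : G, Nat.gcd (Nat.card {y : G // IsConj c y} * a) (Nat.card G) ∣ Nat.card {x : G // IsConj c (x ^ a)}) :
    Nat.gcd (Nat.card {y : G // IsConj c y} * a) (Nat.card G) ∣ Nat.card {x : G // IsConj c (x ^ (a * b))} := by
  have h := dvd_card_of_classes {y : G | IsConj c (y ^ b)} (fun y z hyz hy => by
      obtain ⟨g, rfl⟩ := isConj_iff.mp hyz
      refine IsConj.trans hy ?_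
      rw [conj_pow]
      exact isConj_iff.mpr ⟨g, rfl⟩) a (Nat.gcd (Nat.card {y : G // IsConj c y} * a) (Nat.card G)) (fun y hy => by
      refine dvd_trans ?_ (ha y)
      apply Nat.gcd_dvd_gcd_of_dvd_left
      exact Nat.mul_dvd_mul_right (card_class_pow_dvd c y b hy) a)
  simpa [← pow_mul] using h

theorem step_coprime [Finite G] (a b : ℕ) (hab : Nat.Coprime a b)
    (ha : ∀ c : G, Nat.gcd (Nat.card {y : G // IsConj c y} * a) (Nat.card G) ∣ Nat.card {x : G // IsConj c (x ^ a)})
    (hb : ∀ c : G, Nat.gcd (Nat.card {y : G // IsConj c y} * b) (Nat.card G) ∣ Nat.card {x : G // IsConj c (x ^ b)})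
    (c : G) :
    Nat.gcd (Nat.card {y : G // IsConj c y} * (a * b)) (Nat.card G) ∣ Nat.card {x : G // IsConj c (x ^ (a * b))} := by
  have h1 := step_coprime_aux a b c ha
  have h2 := step_coprime_aux b a c hb
  rw [mul_comm b a] at h2
  set T := Nat.card {x : G // IsConj c (x ^ (a * b))}
  set h := Nat.card {y : G // IsConj c y}
  set g := Nat.card G
  have h3 : Nat.gcd (h * (a * b)) g ∣ b * T := by
    refine dvd_trans ?_ (Nat.mul_dvd_mul_left b h1)
    rw [← Nat.gcd_mul_left]
    have e : b * (h * a) = h * (a * b) := by ring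
    rw [e]
    exact Nat.gcd_dvd_gcd_of_dvd_right _ (Dvd.intro_left _ rfl)
  have h4 : Nat.gcd (h * (a * b)) g ∣ a * T := by
    refine dvd_trans ?_ (Nat.mul_dvd_mul_left a h2)
    rw [← Nat.gcd_mul_left]
    have e : a * (h * b) = h * (a * b) := by ring
    rw [e]
    exact Nat.gcd_dvd_gcd_of_dvd_right _ (Dvd.intro_left _ rfl)
  have h5 := Nat.dvd_gcd h4 h3
  rw [Nat.gcd_mul_right, hab, one_mul] at h5
  exact h5

/-- roots of central `p'`-elements -/
theorem card_root_central [Finite G] (B : Subgroup G) (hB : B ≤ center G) (n : ℕ)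
    (hn : (Nat.card B).Coprime n) : Nat.card {x : G // x ^ n ∈ B} = Nat.card B * Nat.card {x : G // x ^ n = 1} := by
  rw [← Nat.card_prod]
  let r := (powCoprime hn).symm
  have hr : ∀ b : B, ((r b : B) : G) ^ n = b := by
    intro b
    have : (powCoprime hn) (r b) = b := Equiv.apply_symm_apply _ _
    rw [powCoprime_apply] at this
    have := congrArg Subtype.val this
    simpa using this
  have hcomm : ∀ (b : B) (x : G), Commute x (b : G) := fun b x => (mem_center_iff.mp (hB b.2) x)
  have hpow : ∀ (b : B) (x : G), (x * ((r b : B) : G)) ^ n = x ^ n * b := by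
    intro b x
    rw [(hcomm _ _).mul_pow, hr]
  refine Nat.card_congr
    { toFun := fun x => (⟨x.1 ^ n, x.2⟩, ⟨x.1 * ((r ⟨x.1 ^ n, x.2⟩ : B) : G)⁻¹, ?_⟩)
      invFun := fun q => ⟨q.2.1 * ((r q.1 : B) : G), ?_⟩
      left_inv := ?_
      right_inv := ?_ }
  · rw [((hcomm _ _).inv_right).mul_pow, inv_pow, hr]
    exact mul_inv_cancel _
  · rw [hpow, q.2.2, one_mul]
    exact q.1.2
  · intro x
    apply Subtype.ext
    simp
  · rintro ⟨b, x⟩
    have h1 : (x.1 * ((r b : B) : G)) ^ n = b := by rw [hpow, x.2, one_mul]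
    refine Prod.ext (Subtype.ext h1) (Subtype.ext ?_)
    have h2 : ∀ b' : B, b' = b → x.1 * ((r b : B) : G) * ((r b' : B) : G)⁻¹ = x.1 := by
      rintro b' rfl
      group
    exact h2 _ (Subtype.ext h1)

theorem card_root_eq [Finite G] (B : Subgroup G) (hB : B ≤ center G) (n : ℕ)
    (hn : (Nat.card B).Coprime n) (c : G) (hc : c ∈ B) : Nat.card {x : G // x ^ n = c} = Nat.card {x : G // x ^ n = 1} := by
  let r := (powCoprime hn).symm ⟨c, hc⟩
  have hr : (r : G) ^ n = c := by
    have : (powCoprime hn) r = ⟨c, hc⟩ := Equiv.apply_symm_apply _ _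
    rw [powCoprime_apply] at this
    have := congrArg Subtype.val this
    simpa using this
  have hcomm : ∀ (x : G), Commute x (r : G) := fun x => (mem_center_iff.mp (hB r.2) x)
  refine Nat.card_congr
    { toFun := fun x => ⟨x.1 * (r : G)⁻¹, ?_⟩
      invFun := fun x => ⟨x.1 * r, ?_⟩
      left_inv := ?_
      right_inv := ?_ }
  · rw [((hcomm _).inv_right).mul_pow, inv_pow, hr, x.2, mul_inv_cancel]
  · rw [(hcomm _).mul_pow, hr, x.2, one_mul]
  · intro x
    apply Subtype.ext
    simp
  · intro x
    apply Subtype.ext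
    simp

theorem gcd_dvd_aux {n g h T : ℕ} (hT : Nat.gcd (h * n) g ∣ T) : Nat.gcd n g ∣ T :=
  dvd_trans (Nat.gcd_dvd_gcd_of_dvd_left _ (Dvd.intro_left _ rfl)) hT

theorem class_eq_one_iff [Finite G] (c : G) : Nat.card {y : G // IsConj c y} = 1 ↔ c ∈ center G := by
  rw [card_class, Subgroup.index_eq_one]
  constructor
  · intro h
    rw [mem_center_iff]
    intro g
    have : g ∈ centralizer ({c} : Set G) := h ▸ mem_top g
    exact mem_centralizer_singleton_iff.mp this
  · intro h
    rw [eq_top_iff]
    intro g _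
    rw [mem_centralizer_singleton_iff]
    exact mem_center_iff.mp h g

theorem main (N : ℕ) : ∀ (G : Type u) [Group G] [Finite G], Nat.card G < N → ∀ (n : ℕ) (c : G),
    Nat.gcd (Nat.card {y : G // IsConj c y} * n) (Nat.card G) ∣ Nat.card {x : G // IsConj c (x ^ n)} := by
  induction N with
  | zero => intro G _ _ h; omega
  | succ N ih =>
    intro G _ _ hGN n
    induction n using Nat.recOnPosPrimePosCoprime with
    | zero =>
      intro c
      by_cases hc : IsConj c 1
      · have : Nat.card {x : G // IsConj c (x ^ 0)} = Nat.card G := by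
          apply Nat.card_congr
          exact (Equiv.subtypeUnivEquiv (fun x => by rw [pow_zero]; exact hc))
        rw [this]
        exact Nat.gcd_dvd_right _ _
      · have : Nat.card {x : G // IsConj c (x ^ 0)} = 0 := by
          have : IsEmpty {x : G // IsConj c (x ^ 0)} := ⟨fun x => hc (by simpa using x.2)⟩
          exact Nat.card_of_isEmpty
        rw [this]
        exact dvd_zero _
    | one =>
      intro c
      simp only [mul_one, pow_one]
      exact Nat.gcd_dvd_left _ _
    | prime_pow p e hp he =>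
      have hn0 : 0 < p ^ e := pow_pos hp.pos e
      -- first the non-central or p-singular c
      have key : ∀ c : G, (p ∣ orderOf c ∨ c ∉ center G) →
          Nat.gcd (Nat.card {y : G // IsConj c y} * p ^ e) (Nat.card G) ∣ Nat.card {x : G // IsConj c (x ^ (p ^ e))} := by
        intro c hc
        by_cases hpc : p ∣ orderOf c
        · have h1 : p ^ e ∣ Nat.card {x : G // x ^ (p ^ e) = c} := by
            apply dvd_card_pow_eq hn0
            intro q hq hqd
            rw [(Nat.prime_dvd_prime_iff_eq hq hp).mp (hq.dvd_of_dvd_pow hqd)]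
            exact hpc
          rw [card_conj_pow]
          exact dvd_trans (Nat.gcd_dvd_left _ _) (Nat.mul_dvd_mul_left _ h1)
        · have hnc : c ∉ center G := by
            rcases hc with h | h
            · exact absurd h hpc
            · exact h
          set C := centralizer ({c} : Set G) with hC
          have hcC : c ∈ C := by rw [hC, mem_centralizer_singleton_iff]
          have hCne : C ≠ ⊤ := by
            intro h
            apply hnc
            rw [← class_eq_one_iff, card_class, Subgroup.index_eq_one]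
            exact h
          have hlt : Nat.card C < N := by
            have h1 : Nat.card C < Nat.card G := by
              apply lt_of_le_of_ne (Nat.le_of_dvd Nat.card_pos (Subgroup.card_subgroup_dvd_card C))
              intro h
              exact hCne (Subgroup.eq_top_of_card_eq C h)
            omega
          have hh := ih C hlt (p ^ e) ⟨c, hcC⟩
          rw [card_conj_pow] at hh
          have hcc : Nat.card {y : C // IsConj (⟨c, hcC⟩ : C) y} = 1 := by
            rw [class_eq_one_iff, mem_center_iff]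
            intro g
            apply Subtype.ext
            have : (g : G) * c = c * g :=
              mem_centralizer_singleton_iff.mp (show (g : G) ∈ centralizer ({c} : Set G) from g.2)
            simpa using this
          rw [hcc, one_mul, one_mul] at hh
          have hroots : Nat.card {x : C // x ^ (p ^ e) = ⟨c, hcC⟩} = Nat.card {x : G // x ^ (p ^ e) = c} := by
            refine Nat.card_congr
              { toFun := fun x => ⟨x.1.1, by have := congrArg Subtype.val x.2; simpa using this⟩
                invFun := fun x => ⟨⟨x.1, ?_⟩, ?_⟩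
                left_inv := fun x => rfl
                right_inv := fun x => rfl }
            · rw [hC, mem_centralizer_singleton_iff]
              have : Commute x.1 (x.1 ^ (p ^ e)) := (Commute.refl x.1).pow_right _
              rw [x.2] at this
              exact this
            · apply Subtype.ext
              simpa using x.2
          rw [hroots] at hh
          rw [card_conj_pow, card_class, ← hC]
          have hcard : Nat.card G = C.index * Nat.card C := by rw [mul_comm, Subgroup.card_mul_index]
          rw [hcard, Nat.gcd_mul_left]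
          exact Nat.mul_dvd_mul_left _ hh
      -- the central p'-elements
      let B : Subgroup G :=
        { carrier := {c | c ∈ center G ∧ ¬ p ∣ orderOf c}
          one_mem' := ⟨one_mem _, by rw [orderOf_one]; exact hp.not_dvd_one⟩
          mul_mem' := by
            rintro a b ⟨ha, ha'⟩ ⟨hb, hb'⟩
            refine ⟨mul_mem ha hb, fun h => ?_⟩
            have hab : Commute a b := (mem_center_iff.mp hb a)
            have h2 := hab.orderOf_mul_dvd_mul_orderOf
            rcases (Nat.Prime.dvd_mul hp).mp (h.trans h2) with h3 | h3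
            · exact ha' h3
            · exact hb' h3
          inv_mem' := by
            rintro a ⟨ha, ha'⟩
            exact ⟨inv_mem ha, by rwa [orderOf_inv]⟩ }
      have hBc : B ≤ center G := fun x hx => hx.1
      have hBcop : (Nat.card B).Coprime (p ^ e) := by
        apply Nat.Coprime.pow_right
        rw [Nat.coprime_comm, hp.coprime_iff_not_dvd]
        intro h
        haveI : Fact p.Prime := ⟨hp⟩
        obtain ⟨x, hx⟩ := exists_prime_orderOf_dvd_card' p h
        have := x.2.2
        apply this
        rw [Subgroup.orderOf_coe, hx]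
      have h1 : Nat.gcd (p ^ e) (Nat.card G) ∣ Nat.card {x : G // x ^ (p ^ e) ∈ (B : Set G)ᶜ} := by
        apply dvd_card_of_classes
        · intro y z hyz hy hz
          apply hy
          obtain ⟨g, rfl⟩ := isConj_iff.mp hyz
          have hz2 : g * y * g⁻¹ ∈ center G := hz.1
          have : y = g * y * g⁻¹ := by
            have := mem_center_iff.mp hz2 g
            have h2 : g * (g * y * g⁻¹) = g * y := by rw [this]; group
            exact (mul_left_cancel h2).symm
          rw [this]
          exact hz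
        · intro y hy
          apply gcd_dvd_aux (h := Nat.card {z : G // IsConj y z})
          apply key
          by_contra hcon
          rw [not_or, not_not] at hcon
          exact hy ⟨hcon.2, hcon.1⟩
      have h2 : Nat.card {x : G // x ^ (p ^ e) ∈ B} + Nat.card {x : G // x ^ (p ^ e) ∈ (B : Set G)ᶜ} = Nat.card G := by
        classical
        have := Fintype.ofFinite G
        simp only [Nat.card_eq_fintype_card, Fintype.card_subtype]
        have := Finset.card_filter_add_card_filter_not (s := (Finset.univ : Finset G)) (fun x => x ^ (p ^ e) ∈ B)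
        simpa using this
      have h3 : Nat.gcd (p ^ e) (Nat.card G) ∣ Nat.card {x : G // x ^ (p ^ e) ∈ B} := by
        have h4 : Nat.gcd (p ^ e) (Nat.card G) ∣ Nat.card {x : G // x ^ (p ^ e) ∈ B} +
          Nat.card {x : G // x ^ (p ^ e) ∈ (B : Set G)ᶜ} := by
          rw [h2]; exact Nat.gcd_dvd_right _ _
        exact (Nat.dvd_add_iff_left h1).mpr h4
      rw [card_root_central B hBc _ hBcop] at h3
      have h4 : Nat.gcd (p ^ e) (Nat.card G) ∣ Nat.card {x : G // x ^ (p ^ e) = 1} := by
        refine Nat.Coprime.dvd_of_dvd_mul_left ?_ h3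
        exact (Nat.Coprime.coprime_dvd_right (Nat.gcd_dvd_left _ _) hBcop).symm
      intro c
      by_cases hc : p ∣ orderOf c ∨ c ∉ center G
      · exact key c hc
      · rw [not_or, not_not] at hc
        rw [card_conj_pow, (class_eq_one_iff c).mpr hc.2, one_mul, one_mul,
          card_root_eq B hBc _ hBcop c ⟨hc.2, hc.1⟩]
        exact h4
    | coprime a b ha hb hab iha ihb =>
      intro c
      exact step_coprime a b hab iha ihb c

/-- **Frobenius' theorem**, general form -/
theorem frobenius_general [Finite G] (c : G) (n : ℕ) :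
    Nat.gcd (Nat.card {y : G // IsConj c y} * n) (Nat.card G) ∣ Nat.card {x : G // IsConj c (x ^ n)} :=
  main _ G (Nat.lt_succ_self _) n c

/-- **Frobenius' theorem** -/
theorem frobenius [Finite G] (m : ℕ) (hm : m ∣ Nat.card G) : m ∣ Nat.card {g : G // g ^ m = 1} := by
  have h := frobenius_general (1 : G) m
  have h1 : Nat.card {y : G // IsConj (1 : G) y} = 1 := (class_eq_one_iff 1).mpr (one_mem _)
  rw [h1, one_mul, Nat.gcd_eq_left hm] at h
  refine h.trans (dvd_of_eq (Nat.card_congr (Equiv.subtypeEquivRight (fun x => ?_))))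
  exact isConj_one_right

theorem frobenius_gcd [Finite G] (m : ℕ) : Nat.gcd m (Nat.card G) ∣ Nat.card {g : G // g ^ m = 1} := by
  have h := frobenius_general (1 : G) m
  have h1 : Nat.card {y : G // IsConj (1 : G) y} = 1 := (class_eq_one_iff 1).mpr (one_mem _)
  rw [h1, one_mul] at h
  refine h.trans (dvd_of_eq (Nat.card_congr (Equiv.subtypeEquivRight (fun x => ?_))))
  exact isConj_one_right

end Cfsg.Agent.H23.Count
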