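import Mathlib
import Cfsg.Agent.H23_Count

/-!
Decomposition `g = g^u * g^v` of elements for a coprime factorization of the exponent; sums over classes.
-/

set_option autoImplicit false

namespace Cfsg.Agent.H23.PiPart

open Subgroup

universe u

variable {G : Type u} [Group G]

/-- idempotent exponents -/
theorem exists_exponents (a b : ℕ) (hab : Nat.Coprime a b) :
    ∃ u v : ℕ, u ≡ 1 [MOD a] ∧ b ∣ u ∧ v ≡ 1 [MOD b] ∧ a ∣ v ∧ u + v ≡ 1 [MOD a * b] := by
  obtain ⟨u, hu⟩ := Nat.chineseRemainder hab 1 0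
  obtain ⟨v, hv⟩ := Nat.chineseRemainder hab 0 1
  refine ⟨u, v, hu.1, (Nat.modEq_zero_iff_dvd).mp hu.2, hv.2, (Nat.modEq_zero_iff_dvd).mp hv.1, ?_⟩
  rw [← Nat.modEq_and_modEq_iff_modEq_mul hab]
  constructor
  · simpa using hu.1.add hv.1
  · simpa using hu.2.add hv.2

theorem pow_modEq {g : G} {n x y : ℕ} (hg : g ^ n = 1) (h : x ≡ y [MOD n]) : g ^ x = g ^ y := by
  rw [pow_eq_pow_iff_modEq]
  exact h.of_dvd (orderOf_dvd_of_pow_eq_one hg)

/-- the fibre of `g ↦ g ^ u` -/
theorem card_fiber (a b u v : ℕ) (hG : ∀ g : G, g ^ (a * b) = 1) (hu : u ≡ 1 [MOD a]) (hu' : b ∣ u)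
    (hv : v ≡ 1 [MOD b]) (hv' : a ∣ v) (huv : u + v ≡ 1 [MOD a * b]) (y : G) (hy : y ^ a = 1) :
    Nat.card {g : G // g ^ u = y} = Nat.card {z : centralizer ({y} : Set G) // z ^ b = 1} := by
  have hz : ∀ z : {z : centralizer ({y} : Set G) // z ^ b = 1}, Commute y ((z : centralizer ({y} : Set G)) : G) :=
    fun z => (mem_centralizer_singleton_iff.mp z.1.2).symm
  have hzb : ∀ z : {z : centralizer ({y} : Set G) // z ^ b = 1}, ((z : centralizer ({y} : Set G)) : G) ^ b = 1 :=
    fun z => by simpa using congrArg Subtype.val z.2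
  refine Nat.card_congr
    { toFun := fun g => ⟨⟨g.1 ^ v, ?_⟩, ?_⟩
      invFun := fun z => ⟨y * ((z : centralizer ({y} : Set G)) : G), ?_⟩
      left_inv := ?_
      right_inv := ?_ }
  · rw [mem_centralizer_singleton_iff]
    have h := (Commute.refl g.1).pow_pow v u
    rw [g.2] at h
    exact h
  · apply Subtype.ext
    simp only [SubmonoidClass.mk_pow, OneMemClass.coe_one]
    rw [← pow_mul]
    obtain ⟨k, hk⟩ := hv'
    rw [hk, mul_assoc, mul_comm k b, ← mul_assoc, pow_mul, hG, one_pow]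
  · rw [(hz z).mul_pow, pow_modEq hy hu, pow_one]
    obtain ⟨k, hk⟩ := hu'
    rw [hk, pow_mul, hzb, one_pow, mul_one]
  · rintro ⟨g, hg⟩
    apply Subtype.ext
    simp only
    rw [← hg, ← pow_add, pow_modEq (hG g) huv, pow_one]
  · intro z
    apply Subtype.ext
    apply Subtype.ext
    simp only
    rw [(hz z).mul_pow, pow_modEq (hzb z) hv, pow_one]
    obtain ⟨k, hk⟩ := hv'
    rw [hk, pow_mul, hy, one_pow, one_mul]

/-- sums of class functions over unions of classes -/
theorem dvd_sum_of_classes [Fintype G] (D : Finset G) (hD : ∀ y z : G, IsConj y z → y ∈ D → z ∈ D)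
    (f : G → ℕ) (hf : ∀ y z : G, IsConj y z → f y = f z) (d : ℕ)
    (hd : ∀ y ∈ D, d ∣ (centralizer ({y} : Set G)).index * f y) : d ∣ ∑ y ∈ D, f y := by
  classical
  have : Finite (ConjClasses G) := Quotient.finite _
  have := Fintype.ofFinite (ConjClasses G)
  rw [← Finset.sum_fiberwise D (fun x => ConjClasses.mk x)]
  apply Finset.dvd_sum
  intro K _
  by_cases hK : ∃ x ∈ D, ConjClasses.mk x = K
  · obtain ⟨x, hx, rfl⟩ := hK
    have heq : D.filter (fun z => ConjClasses.mk z = ConjClasses.mk x) = Finset.univ.filter (fun z => IsConj x z) := by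
      ext z
      simp only [Finset.mem_filter, Finset.mem_univ, true_and, ConjClasses.mk_eq_mk_iff_isConj]
      exact ⟨fun h => h.2.symm, fun h => ⟨hD _ _ h hx, h.symm⟩⟩
    rw [heq, Finset.sum_congr rfl (g := fun _ => f x), Finset.sum_const, smul_eq_mul]
    · have h := Cfsg.Agent.H23.Count.card_class x
      rw [Nat.card_eq_fintype_card, Fintype.card_subtype] at h
      rw [h]
      exact hd x hx
    · intro z hz
      rw [Finset.mem_filter] at hz
      exact (hf _ _ hz.2).symm
  · rw [Finset.sum_eq_zero]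
    · exact dvd_zero _
    · intro x hx
      rw [Finset.mem_filter] at hx
      exact absurd ⟨x, hx.1, hx.2⟩ hK

end Cfsg.Agent.H23.PiPart
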