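import Mathlib
import Cfsg.Agent.H23_PiPart
import Cfsg.Agent.H2_Basic

/-!
Counting conjugacy classes of `π`-elements.
-/

set_option autoImplicit false

namespace Cfsg.Agent.H23.PiClasses

open Subgroup

universe u

/-- `π`-element -/
def El (S : Set ℕ) {G : Type u} [Group G] (g : G) : Prop := ∀ q : ℕ, q.Prime → q ∣ orderOf g → q ∈ S

/-- class of `π`-elements -/
def Cl (S : Set ℕ) {G : Type u} [Group G] (C : ConjClasses G) : Prop :=
  ∀ q : ℕ, q.Prime → (∃ g : G, ConjClasses.mk g = C ∧ q ∣ orderOf g) → q ∈ S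

variable {G : Type u} [Group G]

theorem orderOf_conj (g x : G) : orderOf (g * x * g⁻¹) = orderOf x := by
  have := orderOf_injective (MulAut.conj g).toMonoidHom (MulAut.conj g).injective x
  simpa using this

theorem orderOf_eq_of_isConj {x y : G} (h : IsConj x y) : orderOf x = orderOf y := by
  obtain ⟨g, rfl⟩ := isConj_iff.mp h
  exact (orderOf_conj g x).symm

theorem cl_mk_iff (S : Set ℕ) (g : G) : Cl S (ConjClasses.mk g) ↔ El S g := by
  constructor
  · intro h q hq hd
    exact h q hq ⟨g, rfl, hd⟩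
  · rintro h q hq ⟨x, hx, hd⟩
    rw [ConjClasses.mk_eq_mk_iff_isConj] at hx
    rw [orderOf_eq_of_isConj hx] at hd
    exact h q hq hd

theorem El.conj {S : Set ℕ} {x : G} (h : El S x) (g : G) : El S (g * x * g⁻¹) := by
  intro q hq hd
  rw [orderOf_conj] at hd
  exact h q hq hd

/-- `p`-part and `p'`-part -/
theorem exists_decomp [Finite G] (p : ℕ) (hp : p.Prime) (T : Set ℕ) (g : G) (hg : El (insert p T) g) :
    ∃ a b : G, a * b = g ∧ Commute a b ∧ El {p} a ∧ El T b := by
  have ho : orderOf g ≠ 0 := (orderOf_pos g).ne'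
  set e := (orderOf g).factorization p with he
  have h1 : orderOf g = p ^ e * (orderOf g / p ^ e) := (Nat.mul_div_cancel' (Nat.ordProj_dvd _ p)).symm
  have hcop : Nat.Coprime (p ^ e) (orderOf g / p ^ e) := by
    apply Nat.Coprime.pow_left
    exact Nat.coprime_ordCompl hp ho
  obtain ⟨u, v, hu, hu', hv, hv', huv⟩ := PiPart.exists_exponents _ _ hcop
  rw [← h1] at huv
  refine ⟨g ^ u, g ^ v, ?_, (Commute.refl g).pow_pow u v, ?_, ?_⟩
  · rw [← pow_add, PiPart.pow_modEq (pow_orderOf_eq_one g) huv, pow_one]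
  · intro q hq hd
    have h2 : orderOf (g ^ u) ∣ p ^ e := by
      apply orderOf_dvd_of_pow_eq_one
      obtain ⟨k, hk⟩ := hu'
      rw [← pow_mul, hk]
      have : orderOf g / p ^ e * k * p ^ e = orderOf g * k := by
        conv_rhs => rw [h1]
        ring
      rw [this, pow_mul, pow_orderOf_eq_one, one_pow]
    exact (Nat.prime_dvd_prime_iff_eq hq hp).mp (hq.dvd_of_dvd_pow (hd.trans h2))
  · intro q hq hd
    have h2 : orderOf (g ^ v) ∣ orderOf g / p ^ e := by
      apply orderOf_dvd_of_pow_eq_one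
      obtain ⟨k, hk⟩ := hv'
      rw [← pow_mul, hk]
      have : p ^ e * k * (orderOf g / p ^ e) = orderOf g * k := by
        conv_rhs => rw [h1]
        ring
      rw [this, pow_mul, pow_orderOf_eq_one, one_pow]
    have h3 : q ∣ orderOf g := hd.trans (orderOf_pow_dvd v)
    rcases hg q hq h3 with h4 | h4
    · exfalso
      rw [h4] at hd
      have h5 := hd.trans h2
      have h6 : ¬ p ∣ orderOf g / p ^ e := Nat.not_dvd_ordCompl hp ho
      exact h6 h5
    · exact h4

/-- the number of classes of `p`-elements is at most the order of a Sylow subgroup -/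
theorem card_p_classes_le [Finite G] (p : ℕ) (hp : p.Prime) :
    Nat.card {C : ConjClasses G // Cl {p} C} ≤ p ^ (Nat.card G).factorization p := by
  haveI : Fact p.Prime := ⟨hp⟩
  obtain ⟨P⟩ : Nonempty (Sylow p G) := inferInstance
  rw [← P.card_eq_multiplicity]
  have hel : ∀ x : P, El {p} (x : G) := by
    intro x q hq hd
    obtain ⟨k, hk⟩ := (IsPGroup.iff_orderOf.mp P.isPGroup') x
    rw [← Subgroup.orderOf_coe] at hk
    rw [hk] at hd
    exact (Nat.prime_dvd_prime_iff_eq hq hp).mp (hq.dvd_of_dvd_pow hd)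
  have : Finite (ConjClasses G) := Quotient.finite _
  refine Nat.card_le_card_of_surjective
    (fun x : P => (⟨ConjClasses.mk (x : G), (cl_mk_iff _ _).mpr (hel x)⟩ : {C : ConjClasses G // Cl {p} C})) ?_
  rintro ⟨C, hC⟩
  obtain ⟨g, rfl⟩ := ConjClasses.exists_rep C
  rw [cl_mk_iff] at hC
  have hpg : IsPGroup p (zpowers g) := by
    rw [IsPGroup.iff_card]
    refine ⟨(orderOf g).factorization p, ?_⟩
    rw [Nat.card_zpowers]
    refine (Nat.eq_prime_pow_of_unique_prime_dvd (orderOf_pos g).ne' (fun {d} hd hdd => hC d hd hdd)).trans ?_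
    congr 1
    have h1 := Nat.eq_prime_pow_of_unique_prime_dvd (orderOf_pos g).ne' (fun {d} hd hdd => hC d hd hdd)
    conv_rhs => rw [h1]
    rw [hp.factorization_pow]
    simp
  obtain ⟨Q, hQ⟩ := hpg.exists_le_sylow
  obtain ⟨t, ht⟩ := MulAction.exists_smul_eq G Q P
  refine ⟨⟨t * g * t⁻¹, ?_⟩, ?_⟩
  · rw [← ht]
    have h2 : g ∈ Q := hQ (mem_zpowers g)
    exact (Cfsg.Agent.H2.Basic.mem_smul_sylow Q t _).mpr (by simpa [mul_assoc] using h2)
  · apply Subtype.ext
    exact ConjClasses.mk_eq_mk_iff_isConj.mpr (isConj_iff.mpr ⟨t, rfl⟩).symm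

theorem main (T : Finset ℕ) : (∀ q ∈ T, q.Prime) → ∀ (G : Type u) [Group G] [Finite G],
    Nat.card {C : ConjClasses G // Cl (T : Set ℕ) C} ≤ ∏ q ∈ T, q ^ (Nat.card G).factorization q := by
  induction T using Finset.induction_on with
  | empty =>
    intro _ G _ _
    rw [Finset.prod_empty]
    rw [Finite.card_le_one_iff_subsingleton]
    constructor
    rintro ⟨C, hC⟩ ⟨D, hD⟩
    apply Subtype.ext
    simp only
    have key : ∀ C : ConjClasses G, Cl ((∅ : Finset ℕ) : Set ℕ) C → C = ConjClasses.mk 1 := by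
      intro C hC
      obtain ⟨g, rfl⟩ := ConjClasses.exists_rep C
      rw [cl_mk_iff] at hC
      have : orderOf g = 1 := by
        by_contra hne
        obtain ⟨q, hq, hqd⟩ := Nat.exists_prime_and_dvd hne
        have := hC q hq hqd
        simp at this
      rw [orderOf_eq_one_iff] at this
      rw [this]
    rw [key C hC, key D hD]
  | insert p T hpT ih =>
    intro hprime G _ _
    have hp : p.Prime := hprime p (Finset.mem_insert_self _ _)
    have ih' := ih (fun q hq => hprime q (Finset.mem_insert_of_mem hq))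
    have hfc : Finite (ConjClasses G) := Quotient.finite _
    have := Fintype.ofFinite {C : ConjClasses G // Cl {p} C}
    rw [Finset.prod_insert hpT]
    -- the surjection
    let X := Σ K : {C : ConjClasses G // Cl {p} C},
      {D : ConjClasses (centralizer ({K.1.out} : Set G)) // Cl (T : Set ℕ) D}
    have hfin : ∀ K : {C : ConjClasses G // Cl {p} C},
      Finite {D : ConjClasses (centralizer ({K.1.out} : Set G)) // Cl (T : Set ℕ) D} := by
      intro K
      have : Finite (ConjClasses (centralizer ({K.1.out} : Set G))) := Quotient.finite _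
      exact Subtype.finite
    have hout : ∀ (H : Type u) [Group H] (C : ConjClasses H), ConjClasses.mk (Quotient.out C) = C :=
      fun H _ C => Quotient.out_eq C
    have hX : Nat.card X ≤ p ^ (Nat.card G).factorization p * ∏ q ∈ T, q ^ (Nat.card G).factorization q := by
      rw [Nat.card_sigma]
      have h1 : ∀ K : {C : ConjClasses G // Cl {p} C},
          Nat.card {D : ConjClasses (centralizer ({K.1.out} : Set G)) // Cl (T : Set ℕ) D} ≤
            ∏ q ∈ T, q ^ (Nat.card G).factorization q := by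
        intro K
        refine (ih' _).trans ?_
        apply Finset.prod_le_prod'
        intro q hq
        apply Nat.pow_le_pow_right (hprime q (Finset.mem_insert_of_mem hq)).pos
        exact (Nat.factorization_le_iff_dvd Nat.card_pos.ne' Nat.card_pos.ne').mpr
          (Subgroup.card_subgroup_dvd_card _) q
      refine (Finset.sum_le_card_nsmul _ _ _ (fun K _ => h1 K)).trans ?_
      rw [smul_eq_mul, Finset.card_univ, ← Nat.card_eq_fintype_card]
      exact Nat.mul_le_mul_right _ (card_p_classes_le p hp)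
    refine le_trans ?_ hX
    have hcomm : ∀ (K : {C : ConjClasses G // Cl {p} C}) (z : centralizer ({K.1.out} : Set G)),
        Commute K.1.out (z : G) := fun K z => (mem_centralizer_singleton_iff.mp z.2).symm
    have hfX : Finite X := inferInstance
    have hel : ∀ x : X, Cl ((insert p T : Finset ℕ) : Set ℕ) (ConjClasses.mk (x.1.1.out * ((x.2.1.out : _) : G))) := by
      rintro ⟨K, D⟩
      rw [cl_mk_iff]
      intro q hq hd
      have h1 : El {p} (K.1.out) := by
        rw [← cl_mk_iff, hout]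
        exact K.2
      have h2 : El (T : Set ℕ) (D.1.out) := by
        rw [← cl_mk_iff, hout]
        exact D.2
      have h3 := (hcomm K D.1.out).orderOf_mul_dvd_mul_orderOf
      rcases (Nat.Prime.dvd_mul hq).mp (hd.trans h3) with h4 | h4
      · have := h1 q hq h4
        simp at this
        simp [this]
      · rw [Subgroup.orderOf_coe] at h4
        have := h2 q hq h4
        simp only [Finset.coe_insert, Set.mem_insert_iff]
        right
        exact this
    refine Nat.card_le_card_of_surjective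
      (fun x : X => (⟨_, hel x⟩ : {C : ConjClasses G // Cl ((insert p T : Finset ℕ) : Set ℕ) C})) ?_
    rintro ⟨C, hC⟩
    obtain ⟨g, rfl⟩ := ConjClasses.exists_rep C
    rw [cl_mk_iff, Finset.coe_insert] at hC
    obtain ⟨a, b, rfl, hab, ha, hb⟩ := exists_decomp p hp (T : Set ℕ) g hC
    let K : {C : ConjClasses G // Cl {p} C} := ⟨ConjClasses.mk a, (cl_mk_iff _ _).mpr ha⟩
    have hK : IsConj a K.1.out := ConjClasses.mk_eq_mk_iff_isConj.mp (hout G (ConjClasses.mk a)).symm
    obtain ⟨t, ht⟩ := isConj_iff.mp hK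
    have hbm : t * b * t⁻¹ ∈ centralizer ({K.1.out} : Set G) := by
      rw [mem_centralizer_singleton_iff, ← ht]
      calc t * b * t⁻¹ * (t * a * t⁻¹) = t * (b * a) * t⁻¹ := by group
        _ = t * (a * b) * t⁻¹ := by rw [hab.eq]
        _ = _ := by group
    let D : {D : ConjClasses (centralizer ({K.1.out} : Set G)) // Cl (T : Set ℕ) D} :=
      ⟨ConjClasses.mk ⟨t * b * t⁻¹, hbm⟩, by
        rw [cl_mk_iff]
        intro q hq hd
        rw [← Subgroup.orderOf_coe, orderOf_conj] at hd
        exact hb q hq hd⟩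
    refine ⟨⟨K, D⟩, ?_⟩
    apply Subtype.ext
    simp only
    rw [ConjClasses.mk_eq_mk_iff_isConj]
    have hD : IsConj (⟨t * b * t⁻¹, hbm⟩ : centralizer ({K.1.out} : Set G)) D.1.out :=
      ConjClasses.mk_eq_mk_iff_isConj.mp (hout _ _).symm
    obtain ⟨c, hc⟩ := isConj_iff.mp hD
    have hc2 : (c : G) * (t * b * t⁻¹) * (c : G)⁻¹ = (D.1.out : _) := congrArg Subtype.val hc
    rw [isConj_comm, isConj_iff]
    refine ⟨c * t, ?_⟩
    rw [← hc2]
    have h5 : (c : G) * K.1.out = K.1.out * c := mem_centralizer_singleton_iff.mp c.2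
    calc (c : G) * t * (a * b) * ((c : G) * t)⁻¹ = ((c : G) * (t * a * t⁻¹)) * (t * b * t⁻¹) * (c : G)⁻¹ := by group
      _ = (c : G) * K.1.out * (t * b * t⁻¹) * (c : G)⁻¹ := by rw [ht]
      _ = K.1.out * c * (t * b * t⁻¹) * (c : G)⁻¹ := by rw [h5]
      _ = _ := by group

/-- commuting pairs with first component in a union of classes -/
theorem card_comm_pairs [Finite G] (P : G → Prop) (hP : ∀ x y : G, IsConj x y → P x → P y) :
    Nat.card {q : G × G // P q.1 ∧ Commute q.1 q.2} =
      Nat.card {C : ConjClasses G // ∃ g, ConjClasses.mk g = C ∧ P g} * Nat.card G := by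
  classical
  have := Fintype.ofFinite G
  have hfc : Finite (ConjClasses G) := Quotient.finite _
  have := Fintype.ofFinite (ConjClasses G)
  rw [Nat.card_eq_fintype_card, Fintype.card_subtype,
    Finset.card_eq_sum_card_fiberwise (f := fun q => ConjClasses.mk q.1)
      (t := Finset.univ.filter (fun C : ConjClasses G => ∃ g, ConjClasses.mk g = C ∧ P g)) (by
        intro q hq
        simp only [Finset.coe_filter, Finset.mem_univ, true_and, Set.mem_ofPred_eq] at hq ⊢
        exact ⟨q.1, rfl, hq.1⟩)]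
  have h0 : (Finset.univ.filter (fun C : ConjClasses G => ∃ g, ConjClasses.mk g = C ∧ P g)).card =
      Nat.card {C : ConjClasses G // ∃ g, ConjClasses.mk g = C ∧ P g} := by
    rw [Nat.card_eq_fintype_card, Fintype.card_subtype]
  rw [Finset.sum_congr rfl (g := fun _ => Nat.card G), Finset.sum_const, smul_eq_mul, h0]
  intro C hC
  simp only [Finset.mem_filter, Finset.mem_univ, true_and] at hC
  obtain ⟨g, rfl, hg⟩ := hC
  rw [Finset.filter_filter, ← Fintype.card_subtype, ← Nat.card_eq_fintype_card]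
  have h1 : Nat.card {q : G × G // (P q.1 ∧ Commute q.1 q.2) ∧ ConjClasses.mk q.1 = ConjClasses.mk g} =
      Nat.card (Σ x : {x : G // IsConj g x}, centralizer ({x.1} : Set G)) := by
    refine Nat.card_congr
      { toFun := fun q => ⟨⟨q.1.1, (ConjClasses.mk_eq_mk_iff_isConj.mp q.2.2).symm⟩,
          ⟨q.1.2, mem_centralizer_singleton_iff.mpr q.2.1.2.symm⟩⟩
        invFun := fun x => ⟨(x.1.1, x.2.1), ⟨hP _ _ x.1.2 hg, (mem_centralizer_singleton_iff.mp x.2.2).symm⟩,
          ConjClasses.mk_eq_mk_iff_isConj.mpr x.1.2.symm⟩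
        left_inv := fun q => rfl
        right_inv := fun x => rfl }
  rw [h1, Nat.card_sigma]
  have h2 : ∀ x : {x : G // IsConj g x}, Nat.card (centralizer ({x.1} : Set G)) = Nat.card (centralizer ({g} : Set G)) := by
    intro x
    have h3 := Subgroup.card_mul_index (centralizer ({x.1} : Set G))
    have h4 := Subgroup.card_mul_index (centralizer ({g} : Set G))
    have h5 : (centralizer ({x.1} : Set G)).index = (centralizer ({g} : Set G)).index := by
      rw [← Count.card_class, ← Count.card_class]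
      exact Nat.card_congr (Equiv.subtypeEquivRight (fun z => ⟨fun hz => x.2.trans hz, fun hz => x.2.symm.trans hz⟩))
    rw [h5, ← h4] at h3
    exact Nat.eq_of_mul_eq_mul_right (Nat.pos_of_ne_zero Subgroup.index_ne_zero_of_finite) h3
  rw [Finset.sum_congr rfl (fun x _ => h2 x), Finset.sum_const, smul_eq_mul, Finset.card_univ,
    ← Nat.card_eq_fintype_card, Count.card_class, mul_comm, Subgroup.card_mul_index]

/-- `π`-part and `π'`-part of a number -/
theorem exists_pi_parts (S : Set ℕ) (n : ℕ) (hn : 0 < n) : ∃ a b : ℕ, a * b = n ∧ Nat.Coprime a b ∧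
    (∀ q : ℕ, q.Prime → q ∣ a → q ∈ S) ∧ (∀ q : ℕ, q.Prime → q ∣ b → q ∉ S) := by
  classical
  have h1 : ∀ q : ℕ, q.Prime → q ∣ ∏ r ∈ n.primeFactors.filter (fun r => r ∈ S), r ^ n.factorization r → q ∈ S := by
    intro q hq hd
    obtain ⟨r, hr, hqr⟩ := (hq.prime.dvd_finset_prod_iff _).mp hd
    rw [Finset.mem_filter] at hr
    rw [(Nat.prime_dvd_prime_iff_eq hq (Nat.prime_of_mem_primeFactors hr.1)).mp (hq.dvd_of_dvd_pow hqr)]
    exact hr.2
  have h2 : ∀ q : ℕ, q.Prime → q ∣ ∏ r ∈ n.primeFactors.filter (fun r => ¬ r ∈ S), r ^ n.factorization r → q ∉ S := by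
    intro q hq hd
    obtain ⟨r, hr, hqr⟩ := (hq.prime.dvd_finset_prod_iff _).mp hd
    rw [Finset.mem_filter] at hr
    rw [(Nat.prime_dvd_prime_iff_eq hq (Nat.prime_of_mem_primeFactors hr.1)).mp (hq.dvd_of_dvd_pow hqr)]
    exact hr.2
  refine ⟨_, _, ?_, ?_, h1, h2⟩
  · rw [Finset.prod_filter_mul_prod_filter_not]
    exact Nat.factorization_prod_pow_eq_self hn.ne'
  · rw [Nat.coprime_iff_gcd_eq_one]
    by_contra hne
    obtain ⟨q, hq, hqd⟩ := Nat.exists_prime_and_dvd hne
    exact h2 q hq (hqd.trans (Nat.gcd_dvd_right _ _)) (h1 q hq (hqd.trans (Nat.gcd_dvd_left _ _)))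

theorem el_iff {S : Set ℕ} {a b : ℕ} (ha : ∀ q : ℕ, q.Prime → q ∣ a → q ∈ S)
    (hb : ∀ q : ℕ, q.Prime → q ∣ b → q ∉ S) {H : Type u} [Group H] {g : H} (hg : g ^ (a * b) = 1) :
    El S g ↔ g ^ a = 1 := by
  constructor
  · intro h
    rw [← orderOf_dvd_iff_pow_eq_one]
    have h1 : orderOf g ∣ a * b := orderOf_dvd_of_pow_eq_one hg
    refine Nat.Coprime.dvd_of_dvd_mul_right ?_ h1
    rw [Nat.coprime_iff_gcd_eq_one]
    by_contra hne
    obtain ⟨q, hq, hqd⟩ := Nat.exists_prime_and_dvd hne
    exact hb q hq (hqd.trans (Nat.gcd_dvd_right _ _)) (h q hq (hqd.trans (Nat.gcd_dvd_left _ _)))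
  · intro h q hq hd
    exact ha q hq (hd.trans (orderOf_dvd_of_pow_eq_one h))

theorem cl_iff_exists (S : Set ℕ) (C : ConjClasses G) : Cl S C ↔ ∃ g, ConjClasses.mk g = C ∧ El S g := by
  obtain ⟨g, rfl⟩ := ConjClasses.exists_rep C
  rw [cl_mk_iff]
  constructor
  · intro h
    exact ⟨g, rfl, h⟩
  · rintro ⟨x, hx, h⟩ q hq hd
    rw [ConjClasses.mk_eq_mk_iff_isConj] at hx
    rw [← orderOf_eq_of_isConj hx] at hd
    exact h q hq hd

theorem El.isConj {S : Set ℕ} {x y : G} (hxy : IsConj x y) (h : El S x) : El S y := by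
  obtain ⟨g, rfl⟩ := isConj_iff.mp hxy
  exact h.conj g

theorem card_comm_pairs_el [Finite G] (S : Set ℕ) :
    Nat.card {q : G × G // El S q.1 ∧ Commute q.1 q.2} = Nat.card {C : ConjClasses G // Cl S C} * Nat.card G := by
  rw [card_comm_pairs _ (fun x y h => El.isConj h)]
  congr 1
  exact Nat.card_congr (Equiv.subtypeEquivRight (fun C => (cl_iff_exists S C).symm))

end Cfsg.Agent.H23.PiClasses
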