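import Mathlib
import Cfsg.Agent.H2_BG14m
import Cfsg.Agent.H23_PiClasses

/-! BG §14: rows S1371, S1379 in terms of `Con13` -/

set_option autoImplicit false
set_option linter.unusedSectionVars false

open Pointwise
open scoped commutatorElement

namespace Cfsg.Agent.H2.BG14

open Cfsg Subgroup H13.Syl H12.Loc H12.BG7 H12.BG10 H12.BG11 H12.BG12 H2.Con13

universe u

variable {G : Type u} [Group G] [Finite G]

theorem pi_parts (π : Set ℕ) (g : G) : ∃ y ∈ zpowers g, ∃ x ∈ zpowers g, g = y * x ∧ (∀ p : ℕ, p.Prime → p ∣ orderOf y → p ∈ π) ∧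
    (∀ p : ℕ, p.Prime → p ∣ orderOf x → p ∉ π) := by
  obtain ⟨a, b, hab, hcop, ha, hb⟩ := H23.PiClasses.exists_pi_parts π (orderOf g) (orderOf_pos g)
  have hbez := Nat.gcd_eq_gcd_ab a b
  rw [hcop, Nat.cast_one] at hbez
  refine ⟨g ^ ((b : ℤ) * a.gcdB b), zpow_mem (mem_zpowers g) _, g ^ ((a : ℤ) * a.gcdA b), zpow_mem (mem_zpowers g) _, ?_, ?_, ?_⟩
  · rw [← zpow_add, add_comm, ← hbez, zpow_one]
  · intro p hp hd
    refine ha p hp (hd.trans (orderOf_dvd_of_pow_eq_one ?_))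
    rw [← zpow_natCast, ← zpow_mul, show (b : ℤ) * a.gcdB b * (a : ℤ) = ((a * b : ℕ) : ℤ) * a.gcdB b by push_cast; ring, hab,
      zpow_mul, zpow_natCast, pow_orderOf_eq_one, one_zpow]
  · intro p hp hd
    refine hb p hp (hd.trans (orderOf_dvd_of_pow_eq_one ?_))
    rw [← zpow_natCast, ← zpow_mul, show (a : ℤ) * a.gcdA b * (b : ℤ) = ((a * b : ℕ) : ℤ) * a.gcdA b by push_cast; ring, hab,
      zpow_mul, zpow_natCast, pow_orderOf_eq_one, one_zpow]

theorem orderOf_conj (m z : G) : orderOf (m * z * m⁻¹) = orderOf z := by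
  rw [← MulAut.conj_apply]; exact orderOf_injective (MulAut.conj m).toMonoidHom (MulAut.conj m).injective z

theorem s1371 (hG : Cfsg.IsMinSimpleOddOrder G) (hC : Con13 G)
    (M : Subgroup G) (hM : IsCoatom M) (K U : Subgroup G) (hKU : Cfsg.IsSigmaDecomposition M K U) (hK1 : K ≠ ⊥) :
    {a : G | ∃ m ∈ M, ∃ z ∈ ((↑(K ⊔ (Cfsg.sigmaCore M ⊓ Subgroup.centralizer (K : Set G))) : Set G) \ ((K : Set G) ∪ ↑(Cfsg.sigmaCore M ⊓ Subgroup.centralizer (K : Set G)))), a = m * z * m⁻¹} = Cfsg.sigmaA0 M K \ Cfsg.sigmaA M U ∧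
      Cfsg.IsTISubset (Cfsg.sigmaA0 M K \ Cfsg.sigmaA M U) := by
  have h := KS_of_decomp hG hC hM hKU hK1
  have hmd := h.md
  have hZM : K ⊔ st M K ≤ M := sup_le h.hKM (st_le M K)
  have heq : {a : G | ∃ m ∈ M, ∃ z ∈ ((↑(K ⊔ st M K) : Set G) \ ((K : Set G) ∪ ↑(st M K))), a = m * z * m⁻¹} = Cfsg.sigmaA0 M K \ Cfsg.sigmaA M U := by
    ext a
    constructor
    · rintro ⟨m, hm, z, ⟨hz, hz2⟩, rfl⟩
      simp only [Set.mem_union, not_or] at hz2
      obtain ⟨l, hl, s, hs, he, hc, hl1, hs1⟩ := hmd.hat hz hz2.1 hz2.2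
      have hord : orderOf z = orderOf l * orderOf s := by
        rw [← he, hc.orderOf_mul_eq_mul_orderOf_of_coprime (hmd.cop hl hs)]
      have hmn : m ∈ normalizer (sigmaCore M : Set G) := le_normalizer_sigmaCore M hm
      refine ⟨⟨⟨mul_mem (mul_mem hm (hZM hz)) (inv_mem hm), m * s * m⁻¹, (mem_normalizer_iff.1 hmn s).1 (mem_inf.1 hs).1, ?_, ?_⟩, ?_⟩, ?_⟩
      · rwa [Ne, conj_eq_one_iff]
      · have h1 : z * s = s * z := by rw [← he]; exact (hc.mul_left (Commute.refl s))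
        calc m * z * m⁻¹ * (m * s * m⁻¹) = m * (z * s) * m⁻¹ := by group
          _ = m * (s * z) * m⁻¹ := by rw [h1]
          _ = _ := by group
      · rintro ⟨k, hk, hk1, m', hm', he'⟩
        obtain ⟨p, hp, hps, -⟩ := exists_prime_pow hs1
        have h1 : orderOf z = orderOf k := by rw [← orderOf_conj m z, he', orderOf_conj]
        have h2 : p ∣ orderOf k := by rw [← h1, hord]; exact hps.mul_left _
        exact hmd.order_L hk p hp h2 (MD.order_st hs p hp hps)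
      · rintro ⟨-, h1⟩
        obtain ⟨p, hp, hpl, -⟩ := exists_prime_pow hl1
        have h2 := pi_of_mem_US hG hKU h1 p hp (by rw [orderOf_conj, hord]; exact hpl.mul_right _)
        exact h2 (h.hall.2.1 p hp (hpl.trans (Subgroup.orderOf_dvd_natCard _ hl)))
    · rintro ⟨⟨⟨haM, y, hy, hy1, hay⟩, hna⟩, hnA⟩
      have h1 : ¬ ∀ p : ℕ, p.Prime → p ∣ orderOf a → p ∉ kappa M := fun h1 =>
        hnA ⟨⟨haM, y, hy, hy1, hay⟩, mem_US hG hC hM hKU haM h1⟩
      push Not at h1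
      obtain ⟨p, hp, hpa, hpk⟩ := h1
      haveI := Fact.mk hp
      obtain ⟨-, -, hpσ, hr1, -⟩ := kappa_spec hG hpk
      obtain ⟨x', hx', hxo⟩ := exists_elt_of_dvd (X := zpowers a) (p := p) (by rw [Nat.card_zpowers]; exact hpa)
      have hx'M : x' ∈ M := zpowers_le.2 haM hx'
      have hx'1 : x' ≠ 1 := orderOf_ne hp hxo
      have hx'a : Commute x' a := by
        obtain ⟨k, rfl⟩ := hx'
        exact (Commute.refl a).zpow_left k
      have hx'y : x' ∈ centralizer ({y} : Set G) := by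
        rw [mem_centralizer_singleton_iff]
        obtain ⟨k, rfl⟩ := hx'
        have : Commute a y := hay
        first
          | exact (this.zpow_left k)
          | exact (this.zpow_left k).symm
      rcases thm143 hG hC hM hy hy1 hx'M hx'y hx'1 (fun q hq hd => by
          rw [hxo] at hd
          rw [(Nat.prime_dvd_prime_iff_eq hq hp).1 hd]; exact hpσ) with ⟨-, -, K₁, E₁, U₁, h₁, hxK, -⟩ | ⟨h2, -⟩
      · obtain ⟨H, E', U', hpr⟩ := h₁.exists_PR' hG hC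
        have h3 : a ∈ M ⊓ centralizer ({x'} : Set G) := mem_inf.2 ⟨haM, by
          rw [mem_centralizer_singleton_iff]
          first
            | exact hx'a
            | exact hx'a.symm⟩
        rw [hpr.cent_eq hG hxK hx'1] at h3
        obtain ⟨m, hm, hmK⟩ := H12.Hall.hall_conj (solvable_of_ne_top hG hM.1) h.hall h₁.hall
        have h4 : K₁ ⊔ st M K₁ = cj m (K ⊔ st M K) := by
          rw [cj_sup, cj_st, hmK, cj_eq_of_mem hm]
        rw [h4] at h3
        obtain ⟨z, hz, rfl⟩ := h3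
        have hz' : (MulAut.conj m).toMonoidHom z = m * z * m⁻¹ := rfl
        refine ⟨m, hm, z, ⟨hz, ?_⟩, rfl⟩
        rw [hz', orderOf_conj] at hpa
        simp only [Set.mem_union, not_or]
        refine ⟨fun hzK => hna ⟨z, hzK, ?_, m, hm, rfl⟩, fun hzs => ?_⟩
        · rintro rfl
          rw [orderOf_one] at hpa
          exact hp.one_lt.ne' (Nat.dvd_one.1 hpa)
        · exact hpσ (MD.order_st hzs p hp hpa)
      · exact absurd hr1 (h2 p hp (by rw [hxo])).2.2.2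
  refine ⟨heq, ?_⟩
  rw [← heq]
  intro g hg x hx hgx
  exfalso
  apply hg
  have hgM : g ∈ M := by
    obtain ⟨m, hm, z, ⟨hz, hz2⟩, rfl⟩ := hx
    obtain ⟨m', hm', z', ⟨hz', hz2'⟩, he⟩ := hgx
    simp only [Set.mem_union, not_or] at hz2
    obtain ⟨l, hl, s, hs, hls, hc, hl1, hs1⟩ := hmd.hat hz hz2.1 hz2.2
    have h1 : (m'⁻¹ * g * m) * z * (m'⁻¹ * g * m)⁻¹ = z' := by
      calc (m'⁻¹ * g * m) * z * (m'⁻¹ * g * m)⁻¹ = m'⁻¹ * (g * (m * z * m⁻¹) * g⁻¹) * m' := by group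
        _ = m'⁻¹ * (m' * z' * m'⁻¹) * m' := by rw [he]
        _ = z' := by group
    have h2 := hmd.conj_mem hG hC hz (g := m'⁻¹ * g * m) (by rw [h1]; exact hz') hl hs hls hl1 hs1
    have h3 := mul_mem (mul_mem hm' (hZM h2)) (inv_mem hm)
    have h4 : m' * (m'⁻¹ * g * m) * m⁻¹ = g := by group
    rwa [h4] at h3
  intro w
  constructor
  · rintro ⟨m, hm, z, hz, rfl⟩
    exact ⟨g * m, mul_mem hgM hm, z, hz, by group⟩
  · rintro ⟨m, hm, z, hz, he⟩
    refine ⟨g⁻¹ * m, mul_mem (inv_mem hgM) hm, z, hz, ?_⟩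
    calc w = g⁻¹ * (g * w * g⁻¹) * g := by group
      _ = g⁻¹ * (m * z * m⁻¹) * g := by rw [he]
      _ = _ := by group

/-- the covering step -/
theorem cover_aux (hG : IsMinSimpleOddOrder G) (hC : Con13 G) {M : Subgroup G} (hM : IsCoatom M) {y x' : G} (hy : y ∈ sigmaCore M)
    (hy1 : y ≠ 1) (hx'M : x' ∈ M) (hc : Commute y x') (hσ : ∀ p : ℕ, p.Prime → p ∣ orderOf x' → p ∉ sigma M) :
    (∃ N : Subgroup G, IsCoatom N ∧ y * x' ∈ tildeOf N ((sigmaCore N : Set G) \ {1})) ∨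
      (centralizer ({y} : Set G) ≤ M ∧ ∃ K E U : Subgroup G, KS M K E U ∧ x' ∈ K ∧ y ∈ st M K ∧ x' ≠ 1) := by
  by_cases hx1 : x' = 1
  · subst hx1
    exact Or.inl ⟨M, hM, y, ⟨hy, hy1⟩, 1, one_mem _, 1, by group⟩
  rcases thm143 hG hC hM hy hy1 hx'M (by rw [mem_centralizer_singleton_iff]; exact hc.symm) hx1 hσ with
    ⟨-, h0, K, E, U, h1, h2, h3⟩ | ⟨h1, ⟨L, hL, hLσ⟩, hum⟩
  · exact Or.inr ⟨h0, K, E, U, h1, h2, h3, hx1⟩
  · left
    obtain ⟨g, hg⟩ := hC.h1216 L (zpowers x') hL (fun p hp hd => hLσ p hp (by rwa [Nat.card_zpowers] at hd))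
    have hx'L : x' ∈ sigmaCore (cj g⁻¹ L) := by
      rw [← sc_cj]
      have h4 : g * x' * g⁻¹ ∈ sigmaCore L := hg (conj_mem_cj (mem_zpowers x'))
      have h5 := conj_mem_cj (g := g⁻¹) h4
      simpa [mul_assoc] using h5
    have hL' := isCoatom_of_cj hL g⁻¹
    have hne : M ≠ cj g⁻¹ L := by
      rintro rfl
      obtain ⟨p, hp, hpx, -⟩ := exists_prime_pow hx1
      exact hσ p hp hpx (order_sigma hx'L hp hpx)
    have hnc : ¬ centralizer ({x'} : Set G) ≤ cj g⁻¹ L := fun h4 => hne (hum.2 _ hL' h4).symm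
    obtain ⟨N, hN⟩ := exists_ND hG hC hL' hx'L hx1 hnc
    have hNM : M = N := hN.um.2 M hM hum.1
    subst hNM
    refine ⟨cj g⁻¹ L, hL', x', ⟨hx'L, hx1⟩, y, ?_, 1, ?_⟩
    · rw [supportR_of_ND hG hN hnc]
      exact mem_inf.2 ⟨hy, by rw [mem_centralizer_singleton_iff]; exact hc⟩
    · rw [hc.eq]; group

theorem tilde_conj {M : Subgroup G} {A : Set G} {w : G} (c : G) (h : c * w * c⁻¹ ∈ tildeOf M A) : w ∈ tildeOf M A := by
  obtain ⟨a, ha, r, hr, y, hy⟩ := h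
  refine ⟨a, ha, r, hr, c⁻¹ * y, ?_⟩
  calc w = c⁻¹ * (c * w * c⁻¹) * c := by group
    _ = c⁻¹ * (y * (a * r) * y⁻¹) * c := by rw [hy]
    _ = _ := by group

theorem tilde_cj (hG : IsMinSimpleOddOrder G) (hC : Con13 G) {M : Subgroup G} (hM : IsCoatom M) {g w : G}
    (h : w ∈ tildeOf (cj g M) ((sigmaCore (cj g M) : Set G) \ {1})) : w ∈ tildeOf M ((sigmaCore M : Set G) \ {1}) := by
  obtain ⟨a, ⟨ha, ha1⟩, r, hr, y, hy⟩ := h
  have ha2 : a ∈ cj g (sigmaCore M) := by rw [sc_cj]; exact ha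
  obtain ⟨a₀, ha₀, rfl⟩ := ha2
  change r ∈ supportR (cj g M) (g * a₀ * g⁻¹) at hr
  change w = y * ((g * a₀ * g⁻¹) * r) * y⁻¹ at hy
  have ha₀1 : a₀ ≠ 1 := by
    rintro rfl
    exact ha1 (by simp)
  rw [supportR_equiv hG hC hM ha₀ ha₀1] at hr
  obtain ⟨r₀, hr₀, rfl⟩ := hr
  change w = y * ((g * a₀ * g⁻¹) * (g * r₀ * g⁻¹)) * y⁻¹ at hy
  refine ⟨a₀, ⟨ha₀, ha₀1⟩, r₀, hr₀, y * g, ?_⟩
  rw [hy]; group

theorem zpowers_comm {g a b : G} (ha : a ∈ zpowers g) (hb : b ∈ zpowers g) : Commute a b := by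
  obtain ⟨k, rfl⟩ := ha
  obtain ⟨l, rfl⟩ := hb
  exact (Commute.refl g).zpow_zpow k l

theorem cover (hG : IsMinSimpleOddOrder G) (hC : Con13 G) {g : G} (hg : g ≠ 1) :
    (∃ N : Subgroup G, IsCoatom N ∧ g ∈ tildeOf N ((sigmaCore N : Set G) \ {1})) ∨
      ∃ M K E U : Subgroup G, KS M K E U ∧ ∃ l ∈ K, ∃ s ∈ st M K, l ≠ 1 ∧ s ≠ 1 ∧ g = l * s := by
  obtain ⟨p, hp, hpg, -⟩ := exists_prime_pow hg
  obtain ⟨M₀, hM₀, hpσ⟩ := (s1378 hG hC).1 p hp (hpg.trans (orderOf_dvd_natCard g))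
  obtain ⟨y, hy, x', hx', he, hyσ, hxσ⟩ := pi_parts (sigma M₀) g
  have hy1 : y ≠ 1 := by
    rintro rfl
    rw [one_mul] at he
    rw [← he] at hxσ
    exact hxσ p hp hpg hpσ
  obtain ⟨t, ht⟩ := hC.h1216 M₀ (zpowers y) hM₀ (fun q hq hd => hyσ q hq (by rwa [Nat.card_zpowers] at hd))
  have hM := isCoatom_of_cj hM₀ t⁻¹
  set M := cj t⁻¹ M₀ with hMdef
  have hyM : y ∈ sigmaCore M := by
    rw [hMdef, ← sc_cj]
    have h4 : t * y * t⁻¹ ∈ sigmaCore M₀ := ht (conj_mem_cj (mem_zpowers y))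
    have h5 := conj_mem_cj (g := t⁻¹) h4
    simpa [mul_assoc] using h5
  have hxσ' : ∀ q : ℕ, q.Prime → q ∣ orderOf x' → q ∉ sigma M := by
    intro q hq hd
    rw [hMdef, sigma_cj]
    exact hxσ q hq hd
  have hcyx : Commute y x' := zpowers_comm hy hx'
  have hcx : x' ∈ centralizer ({y} : Set G) := by rw [mem_centralizer_singleton_iff]; exact hcyx.symm
  by_cases hcM : centralizer ({y} : Set G) ≤ M
  · rcases cover_aux hG hC hM hyM hy1 (hcM hcx) hcyx hxσ' with ⟨N, hN, h1⟩ | ⟨-, K, E, U, h1, h2, h3, h4⟩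
    · exact Or.inl ⟨N, hN, by rw [he]; exact h1⟩
    · exact Or.inr ⟨M, K, E, U, h1, x', h2, y, h3, h4, hy1, by rw [he]; exact hcyx.eq⟩
  left
  obtain ⟨N, hN⟩ := exists_ND hG hC hM hyM hy1 hcM
  obtain ⟨u, hu, w, hw, hx'e, huσ, hwσ⟩ := pi_parts (sigma N) x'
  have huw : Commute u w := zpowers_comm hu hw
  by_cases hw1 : w = 1
  · subst hw1
    rw [mul_one] at hx'e
    subst hx'e
    have h1 : x' ∈ sigmaCore N := mem_sigmaCore_of_mem hG hN.co (hN.um.1 hcx) huσ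
    refine ⟨M, hM, y, ⟨hyM, hy1⟩, x', ?_, 1, by rw [he]; group⟩
    rw [supportR_of_ND hG hN hcM]
    exact mem_inf.2 ⟨h1, hcx⟩
  · have hyM' : y ∈ M := sigmaCore_le M hyM
    have hcompl := hN.centCompl hyM'
    have hRπ : H12.Core.PiNum (sigma N) (Nat.card ↥(sigmaCore N ⊓ centralizer ({y} : Set G))) := H12.Hall.pi_mono (sigmaCore_pi N) inf_le_left
    have hCπ : H12.Core.PiNum (sigma N)ᶜ (Nat.card ↥(M ⊓ centralizer ({y} : Set G))) :=
      (compl_sigmaC hG hN.co hN.cmp).mono (le_inf inf_le_left (inf_le_right.trans hN.um.1))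
    have hcard := H12.Core.IsComplIn_card hcompl
    have hrel := H12.Hall.relIndex_mul hcompl.1
    have hrel' : (M ⊓ centralizer ({y} : Set G)).relIndex (centralizer ({y} : Set G)) = Nat.card ↥(sigmaCore N ⊓ centralizer ({y} : Set G)) := by
      apply Nat.eq_of_mul_eq_mul_right (Nat.card_pos (α := ↥(M ⊓ centralizer ({y} : Set G))))
      rw [hrel, ← hcard, mul_comm]
    have hHall : IsPiHallOf (sigma N)ᶜ (M ⊓ centralizer ({y} : Set G)) (centralizer ({y} : Set G)) :=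
      H12.Hall.mk' hcompl.1 hCπ (by rw [hrel', compl_compl]; exact hRπ)
    have hwC : w ∈ centralizer ({y} : Set G) := zpowers_le.2 hcx hw
    obtain ⟨c, hc, hcw⟩ := H12.Hall.hall_dom (solv_le hG hN.co hN.um.1) hHall (X := zpowers w)
      (by rw [Nat.card_zpowers]; exact hwσ) (zpowers_le.2 hwC)
    have hw' : c * w * c⁻¹ ∈ M ⊓ centralizer ({y} : Set G) := hcw (conj_mem_cj (mem_zpowers w))
    have hwx : ∀ q : ℕ, q.Prime → q ∣ orderOf w → q ∣ orderOf x' := by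
      intro q hq hd
      exact hd.trans (orderOf_dvd_of_mem_zpowers hw)
    rcases thm143 hG hC hM hyM hy1 (mem_inf.1 hw').1 (mem_inf.1 hw').2 (by rwa [Ne, conj_eq_one_iff]) (fun q hq hd => by
        rw [orderOf_conj] at hd
        exact hxσ' q hq (hwx q hq hd)) with ⟨-, h2, -⟩ | ⟨-, -, hum⟩
    · exact absurd h2 hcM
    · have hcy : c * y * c⁻¹ = y := by
        have := mem_centralizer_singleton_iff.1 hc
        rw [this]; group
      have hgw : Commute w g := by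
        have h1 : w ∈ zpowers g := zpowers_le.2 hx' hw
        exact zpowers_comm h1 (mem_zpowers g)
      have hg' : c * g * c⁻¹ ∈ M := by
        apply hum.1
        rw [mem_centralizer_singleton_iff]
        calc c * g * c⁻¹ * (c * w * c⁻¹) = c * (g * w) * c⁻¹ := by group
          _ = c * (w * g) * c⁻¹ := by rw [hgw.eq]
          _ = _ := by group
      have hx'' : c * x' * c⁻¹ ∈ M := by
        have h1 : c * x' * c⁻¹ = y⁻¹ * (c * g * c⁻¹) := by
          rw [he]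
          calc c * x' * c⁻¹ = y⁻¹ * y * (c * x' * c⁻¹) := by group
            _ = y⁻¹ * (c * y * c⁻¹) * (c * x' * c⁻¹) := by rw [hcy]
            _ = _ := by group
        rw [h1]
        exact mul_mem (inv_mem hyM') hg'
      have hcomm : Commute y (c * x' * c⁻¹) := by
        have h1 : Commute (c * y * c⁻¹) (c * x' * c⁻¹) := by
          show c * y * c⁻¹ * (c * x' * c⁻¹) = c * x' * c⁻¹ * (c * y * c⁻¹)
          calc c * y * c⁻¹ * (c * x' * c⁻¹) = c * (y * x') * c⁻¹ := by group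
            _ = c * (x' * y) * c⁻¹ := by rw [hcyx.eq]
            _ = _ := by group
        rwa [hcy] at h1
      rcases cover_aux hG hC hM hyM hy1 hx'' hcomm (fun q hq hd => hxσ' q hq (by rwa [orderOf_conj] at hd)) with ⟨N', hN', h1⟩ | ⟨h1, -⟩
      · refine ⟨N', hN', tilde_conj c ?_⟩
        have h2 : c * g * c⁻¹ = y * (c * x' * c⁻¹) := by
          rw [he]
          calc c * (y * x') * c⁻¹ = (c * y * c⁻¹) * (c * x' * c⁻¹) := by group
            _ = _ := by rw [hcy]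
        rw [h2]; exact h1
      · exact absurd h1 hcM

end Cfsg.Agent.H2.BG14
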