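import Mathlib
import Cfsg.Agent.H2_BG14n
import Cfsg.Agent.H12_BG13a

/-! BG §14: row S1379 in terms of `Con13` -/

set_option autoImplicit false
set_option linter.unusedSectionVars false

open Pointwise
open scoped commutatorElement

namespace Cfsg.Agent.H2.BG14

open Cfsg Subgroup H13.Syl H12.Loc H12.BG7 H12.BG10 H12.BG11 H12.BG12 H2.Con13

universe u

variable {G : Type u} [Group G] [Finite G]

theorem kappa_nonempty {M K E U : Subgroup G} (h : KS M K E U) : (kappa M).Nonempty := by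
  obtain ⟨p, hp, x, hx, hxo, hd⟩ := exists_prime_elt h.ne
  exact ⟨p, h.hall.2.1 p hp hd⟩

/-- conjugate Hall data -/
theorem KS.conj_eq (hG : IsMinSimpleOddOrder G) {M K E U L E₂ U₂ : Subgroup G} (h : KS M K E U) {g : G} (h₂ : KS (cj g M) L E₂ U₂) :
    ∃ t : G, cj t M = cj g M ∧ L = cj t K ∧ st (cj g M) L = cj t (st M K) := by
  have h1 := H12.Hall.conj (g := g) h.hall
  have h2 : IsPiHallOf (kappa (cj g M)) (cj g K) (cj g M) := by
    refine H12.Hall.congr' ?_ h1
    intro p hp hd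
    constructor
    · intro hk
      obtain ⟨h3, h4, h5, h6, h7, h8⟩ := kappa_spec hG hk
      haveI := Fact.mk hp
      obtain ⟨x, hx, hxo⟩ := exists_elt_of_dvd (p := p) (by rw [card_cj] at hd; exact hd)
      have hXc : Nat.card (zpowers x) = p := by rw [Nat.card_zpowers, hxo]
      have hne := h8 (zpowers x) (zpowers_le.2 hx) hXc
      refine kappa_of hG (by rw [sigma_cj]; exact h5) (H12.BG13.rank_cj h6) (X := cj g (zpowers x)) (cj_mono (zpowers_le.2 hx)) (by rw [card_cj, hXc]) ?_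
      intro hb
      apply hne
      have : cj g (st M (zpowers x)) = ⊥ := by rw [cj_st]; exact hb
      rwa [cj_eq_bot_iff] at this
    · intro hk
      obtain ⟨h3, h4, h5, h6, h7, h8⟩ := kappa_spec hG hk
      haveI := Fact.mk hp
      rw [card_cj] at hd
      obtain ⟨x, hx, hxo⟩ := exists_elt_of_dvd (p := p) hd
      have hXc : Nat.card (zpowers x) = p := by rw [Nat.card_zpowers, hxo]
      have hne := h8 (cj g (zpowers x)) (cj_mono (zpowers_le.2 hx)) (by rw [card_cj, hXc])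
      have h6' : PRankLE p 1 M := by
        have := H12.BG13.rank_cj (g := g⁻¹) h6
        rwa [cj_inv_cj] at this
      refine kappa_of hG (by rw [← sigma_cj g]; exact h5) h6' (X := zpowers x) (zpowers_le.2 hx) hXc ?_
      intro hb
      apply hne
      have : cj g (st M (zpowers x)) = ⊥ := by rw [cj_eq_bot_iff]; exact hb
      rwa [cj_st] at this
  obtain ⟨l, hl, hlK⟩ := H12.Hall.hall_conj (solvable_of_ne_top hG h₂.co.1) h2 h₂.hall
  refine ⟨l * g, ?_, ?_, ?_⟩
  · rw [cj_mul, cj_eq_of_mem hl]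
  · rw [cj_mul, hlK]
  · rw [cj_st, cj_mul, cj_mul, hlK, cj_eq_of_mem hl]

theorem s1379 (hG : Cfsg.IsMinSimpleOddOrder G) (hC : Con13 G) :
    (∀ M N : Subgroup G, IsCoatom M → IsCoatom N → (∀ g : G, N ≠ M.map (MulAut.conj g).toMonoidHom) → Cfsg.tildeOf M ((Cfsg.sigmaCore M : Set G) \ {1}) ∩ Cfsg.tildeOf N ((Cfsg.sigmaCore N : Set G) \ {1}) = ∅) ∧
      ((∀ M : Subgroup G, IsCoatom M → Cfsg.kappa M = ∅) →
        ∀ g : G, g ≠ 1 → ∃ M : Subgroup G, IsCoatom M ∧ g ∈ Cfsg.tildeOf M ((Cfsg.sigmaCore M : Set G) \ {1})) ∧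
      ∀ (M K U : Subgroup G), IsCoatom M → Cfsg.IsSigmaDecomposition M K U → K ≠ ⊥ →
        (∀ g : G, g ≠ 1 → (∃ N : Subgroup G, IsCoatom N ∧ g ∈ Cfsg.tildeOf N ((Cfsg.sigmaCore N : Set G) \ {1})) ∨
            ∃ y : G, ∃ z ∈ ((↑(K ⊔ (Cfsg.sigmaCore M ⊓ Subgroup.centralizer (K : Set G))) : Set G) \ ((K : Set G) ∪ ↑(Cfsg.sigmaCore M ⊓ Subgroup.centralizer (K : Set G)))), g = y * z * y⁻¹) ∧
        ∀ N : Subgroup G, IsCoatom N → ∀ y : G, ∀ z ∈ ((↑(K ⊔ (Cfsg.sigmaCore M ⊓ Subgroup.centralizer (K : Set G))) : Set G) \ ((K : Set G) ∪ ↑(Cfsg.sigmaCore M ⊓ Subgroup.centralizer (K : Set G)))), y * z * y⁻¹ ∉ Cfsg.tildeOf N ((Cfsg.sigmaCore N : Set G) \ {1}) := by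
  refine ⟨?_, ?_, ?_⟩
  · intro M N hM hN hnc
    rw [Set.eq_empty_iff_forall_notMem]
    rintro w ⟨h1, h2⟩
    exact tilde_inter hG hC hM hN hnc h1 h2
  · intro hk g hg
    rcases cover hG hC hg with h | ⟨M, K, E, U, h, -⟩
    · exact h
    · exfalso
      have h1 := kappa_nonempty h
      rw [hk M h.co] at h1
      exact Set.not_nonempty_empty h1
  · intro M K U hM hKU hK1
    have hks := KS_of_decomp hG hC hM hKU hK1
    obtain ⟨M', E', U', hpr⟩ := hks.exists_PR' hG hC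
    refine ⟨?_, ?_⟩
    · intro g hg
      rcases cover hG hC hg with h | ⟨H, L, E₂, U₂, h, l, hl, s, hs, hl1, hs1, rfl⟩
      · exact Or.inl h
      · right
        obtain ⟨t₀, ht₀⟩ := hpr.two_classes hG hC h
        rcases ht₀ with rfl | rfl
        · obtain ⟨t, -, h2, h3⟩ := hks.conj_eq hG h
          rw [h2] at hl
          rw [h3] at hs
          obtain ⟨l₀, hl₀, rfl⟩ := hl
          obtain ⟨s₀, hs₀, rfl⟩ := hs
          have hl01 : l₀ ≠ 1 := by
            rintro rfl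
            exact hl1 (map_one _)
          have hs01 : s₀ ≠ 1 := by
            rintro rfl
            exact hs1 (map_one _)
          obtain ⟨a, b, c⟩ := hks.md.hat_mul hl₀ hs₀ hl01 hs01
          refine ⟨t, l₀ * s₀, ⟨a, by simp only [Set.mem_union, not_or]; exact ⟨b, c⟩⟩, ?_⟩
          show t * l₀ * t⁻¹ * (t * s₀ * t⁻¹) = _
          group
        · obtain ⟨t, -, h2, h3⟩ := hpr.h'.conj_eq hG h
          rw [h2] at hl
          rw [h3, hpr.e'] at hs
          obtain ⟨l₀, hl₀, rfl⟩ := hl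
          obtain ⟨s₀, hs₀, rfl⟩ := hs
          have hl01 : l₀ ≠ 1 := by
            rintro rfl
            exact hl1 (map_one _)
          have hs01 : s₀ ≠ 1 := by
            rintro rfl
            exact hs1 (map_one _)
          obtain ⟨a, b, c⟩ := hks.md.hat_mul hs₀ hl₀ hs01 hl01
          refine ⟨t, s₀ * l₀, ⟨a, by simp only [Set.mem_union, not_or]; exact ⟨b, c⟩⟩, ?_⟩
          have hcomm : l₀ * s₀ = s₀ * l₀ := (mem_centralizer_iff.1 (mem_inf.1 hl₀).2 s₀ hs₀).symm
          show t * l₀ * t⁻¹ * (t * s₀ * t⁻¹) = _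
          calc t * l₀ * t⁻¹ * (t * s₀ * t⁻¹) = t * (l₀ * s₀) * t⁻¹ := by group
            _ = _ := by rw [hcomm]
    · rintro N hN y z ⟨hz, hz2⟩ ht
      simp only [Set.mem_union, not_or] at hz2
      obtain ⟨l, hl, s, hs, he, hc, hl1, hs1⟩ := hks.md.hat hz hz2.1 hz2.2
      have hord : orderOf z = orderOf l * orderOf s := by
        rw [← he, hc.orderOf_mul_eq_mul_orderOf_of_coprime (hks.md.cop hl hs)]
      have ht' := ht
      obtain ⟨a, ⟨ha, ha1⟩, r, hr, w, hw⟩ := ht'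
      have ha1' : a ≠ 1 := ha1
      have hcar := supportR_comm hG hC hN ha ha1' hr
      have hrσ : ∀ p : ℕ, p.Prime → p ∣ orderOf r → p ∉ sigma N := by
        rcases supportR_cases hG hC hN ha ha1' with ⟨-, h'⟩ | ⟨N', hN', -, h'⟩
        · rw [h', mem_bot] at hr
          rw [hr]; exact one_pi
        · rw [h'] at hr
          intro p hp hd h2
          exact hC.h139 N N' hN hN'.co hN'.nc p h2 (order_sigma (mem_inf.1 hr).1 hp hd)
      obtain ⟨p, hp, hpa, -⟩ := exists_prime_pow ha1'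
      have hpN := order_sigma ha hp hpa
      have hcop : (orderOf a).Coprime (orderOf r) := card_dvd_prime fun q hq h1 h2 => hrσ q hq h2 (order_sigma ha hq h1)
      have hpz : p ∣ orderOf z := by
        rw [← orderOf_conj y z, hw, orderOf_conj, hcar.orderOf_mul_eq_mul_orderOf_of_coprime hcop]
        exact hpa.mul_right _
      rw [hord] at hpz
      rcases hp.dvd_mul.1 hpz with h1 | h1
      · have h2 : p ∈ sigma M' := hpr.K_sigma p hp (h1.trans (Subgroup.orderOf_dvd_natCard _ hl))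
        obtain ⟨t, rfl⟩ := sigma_disj hC hpr.h'.co hN h2 hpN
        refine zhat_tilde hG hC hpr.symm.md (z := z) (by rw [sup_comm]; exact hz) ?_ (tilde_cj hG hC hpr.h'.co ht)
        intro hzM
        have h3 : z ∈ (st M K ⊔ K) ⊓ sigmaCore M' := mem_inf.2 ⟨by rw [sup_comm]; exact hz, hzM⟩
        rw [hpr.symm.md.inf_eq, hpr.e'] at h3
        exact hz2.1 h3
      · have h2 : p ∈ sigma M := MD.order_st hs p hp h1
        obtain ⟨t, rfl⟩ := sigma_disj hC hM hN h2 hpN
        refine zhat_tilde hG hC hks.md (z := z) hz ?_ (tilde_cj hG hC hM ht)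
        intro hzM
        have h3 : z ∈ (K ⊔ st M K) ⊓ sigmaCore M := mem_inf.2 ⟨hz, hzM⟩
        rw [hks.md.inf_eq] at h3
        exact hz2.2 h3

end Cfsg.Agent.H2.BG14
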