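import Mathlib
import Cfsg.Agent.H2_BG14o
import Cfsg.Agent.H12_BG13b
import Cfsg.Agent.H12_CN2

/-! BG 14.13: row S1436 in terms of `Con13` -/

set_option autoImplicit false
set_option linter.unusedSectionVars false

open Pointwise
open scoped commutatorElement

namespace Cfsg.Agent.H2.BG14

open Cfsg Subgroup H13.Syl H12.Loc H12.BG7 H12.BG10 H12.BG11 H12.BG12 H2.Con13

universe u

variable {G : Type u} [Group G] [Finite G]

theorem not_ideal_of_tau2 (hG : IsMinSimpleOddOrder G) {M : Subgroup G} (hM : IsCoatom M) {p : ℕ} (h : p ∈ tau2 M) : ¬ IsIdealPrime p G := by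
  haveI : Fact p.Prime := ⟨h.1⟩
  obtain ⟨A, hAM, hA, hAc⟩ := exists_ea_sq_of_not_rank_one h.2.2.2
  obtain ⟨A₀, hE⟩ := exists_exc hG hM h.2.1 hAM hA hAc
  exact not_ideal_of_max hE.e2.ea hE.e2.card hE.e2.max

theorem kappa_cj (hG : IsMinSimpleOddOrder G) {M : Subgroup G} {g : G} {p : ℕ} : p ∈ kappa (cj g M) ↔ p ∈ kappa M := by
  have aux : ∀ (M : Subgroup G) (g : G), p ∈ kappa M → p ∈ kappa (cj g M) := by
    intro M g hk
    obtain ⟨h3, h4, h5, h6, h7, h8⟩ := kappa_spec hG hk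
    haveI := Fact.mk h3
    obtain ⟨x, hx, hxo⟩ := exists_elt_of_dvd (p := p) h4
    have hXc : Nat.card (zpowers x) = p := by rw [Nat.card_zpowers, hxo]
    have hne := h8 (zpowers x) (zpowers_le.2 hx) hXc
    refine kappa_of hG (by rw [sigma_cj]; exact h5) (H12.BG13.rank_cj h6) (X := cj g (zpowers x)) (cj_mono (zpowers_le.2 hx)) (by rw [card_cj, hXc]) ?_
    intro hb
    apply hne
    have : cj g (st M (zpowers x)) = ⊥ := by rw [cj_st]; exact hb
    rwa [cj_eq_bot_iff] at this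
  refine ⟨fun h => ?_, aux M g⟩
  have := aux _ g⁻¹ h
  rwa [cj_inv_cj] at this

theorem KS.dvd_K (hG : IsMinSimpleOddOrder G) {M K E U : Subgroup G} (h : KS M K E U) (hU : U = ⊥) {q : ℕ} (hq : q.Prime)
    (hd : q ∣ Nat.card M) (hσ : q ∉ sigma M) : q ∣ Nat.card K := by
  by_cases hk : q ∈ kappa M
  · exact (H12.Hall.dvd_iff hq h.hall hk).2 hd
  · exfalso
    have h1 := (H12.Hall.dvd_iff hq h.hUq ⟨hq, hk, hσ⟩).2 hd
    rw [hU, card_bot] at h1
    exact hq.one_lt.ne' (Nat.dvd_one.1 h1)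

/-- the element `x` shows that `U = ⊥` -/
theorem KS.U_bot (hG : IsMinSimpleOddOrder G) {M K E U : Subgroup G} (h : KS M K E U) {N : Subgroup G} {x : G} (hx : x ∈ sigmaCore M)
    (hx1 : x ≠ 1) (hN : ND M N x) : U = ⊥ := by
  by_contra hU
  obtain ⟨p, hp, hpx, -⟩ := exists_prime_pow hx1
  exact not_ideal_of_tau2 hG hN.co (hN.tau p hp hpx) ((h.g hG hU).1 p (order_sigma hx hp hpx)).2

theorem kappa_part (hG : IsMinSimpleOddOrder G) (hC : Con13 G) {M N : Subgroup G} (hM : IsCoatom M) {x : G} (hx : x ∈ sigmaCore M)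
    (hx1 : x ≠ 1) (hN : ND M N x) {q : ℕ} (hq : q ∈ sigma N) (hqM : q ∣ Nat.card M) : kappa M = ∅ := by
  by_contra hk
  obtain ⟨K, E, U, h⟩ := exists_KS_of_kappa hG hC hM (Set.nonempty_iff_ne_empty.2 hk)
  obtain ⟨M', E', U', hpr⟩ := h.exists_PR' hG hC
  have hU := h.U_bot hG hx hx1 hN
  have hqp := (sigma_spec hq).1
  have hqσ : q ∉ sigma M := fun h1 => hC.h139 M N hM hN.co hN.nc q h1 hq
  have hqK := h.dvd_K hG hU hqp hqM hqσ
  obtain ⟨g, rfl⟩ := sigma_disj hC hpr.h'.co hN.co (hpr.K_sigma q hqp hqK) hq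
  obtain ⟨r, hr, w, hw, hwo, hrd⟩ := exists_prime_elt h.neS
  haveI := Fact.mk hr
  have hrσ : r ∈ sigma M := st_sigma (M := M) (K := K) r hr hrd
  have hrk' : r ∈ kappa M' := hpr.h'.hall.2.1 r hr hrd
  have hrN : r ∉ sigma (cj g M') := hC.h139 M _ hM hN.co hN.nc r hrσ
  have hcard := H12.Core.IsComplIn_card hN.cmp
  have hrd2 : r ∣ Nat.card ↥(M ⊓ cj g M') := by
    have h1 : r ∣ Nat.card ↥(M ⊓ cj g M') * Nat.card (sigmaCore (cj g M')) := by
      rw [hcard, card_cj]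
      exact (kappa_spec hG hrk').2.1
    rcases hr.dvd_mul.1 h1 with h2 | h2
    · exact h2
    · exact absurd (sigmaCore_pi _ r hr h2) hrN
  obtain ⟨y, hy, hyo⟩ := exists_elt_of_dvd hrd2
  have hy1 := orderOf_ne hr hyo
  obtain ⟨hyM, hyN⟩ := mem_inf.1 hy
  -- conjugate `y` into `cj g K'`
  have hHall : IsPiHallOf (kappa M') (cj g (st M K)) (cj g M') := H12.Hall.conj hpr.h'.hall
  obtain ⟨n, hn, hnX⟩ := H12.Hall.hall_dom (solvable_of_ne_top hG hN.co.1) hHall (X := zpowers y)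
    (by
      rw [Nat.card_zpowers, hyo]
      intro p hp hd
      rw [(Nat.prime_dvd_prime_iff_eq hp hr).1 hd]; exact hrk') (zpowers_le.2 hyN)
  have h2 : n * y * n⁻¹ ∈ cj g (st M K) := hnX (conj_mem_cj (mem_zpowers y))
  have h3 : (g⁻¹ * n) * y * (g⁻¹ * n)⁻¹ ∈ st M K := by
    have h4 := conj_mem_cj (g := g⁻¹) h2
    rw [cj_inv_cj] at h4
    have h5 : g⁻¹ * (n * y * n⁻¹) * g⁻¹⁻¹ = (g⁻¹ * n) * y * (g⁻¹ * n)⁻¹ := by group
    rwa [h5] at h4
  have ht : g⁻¹ * n ∈ M := by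
    by_contra ht
    have h4 := h.d1 hG hC ht
    have h5 : (g⁻¹ * n) * y * (g⁻¹ * n)⁻¹ ∈ st M K ⊓ cj (g⁻¹ * n) M := mem_inf.2 ⟨h3, conj_mem_cj hyM⟩
    rw [h4, mem_bot, conj_eq_one_iff] at h5
    exact hy1 h5
  have h6 : cj (g⁻¹ * n)⁻¹ M' = cj g M' := by
    rw [mul_inv_rev, inv_inv, cj_mul, cj_eq_of_mem (inv_mem hn)]
  have h7 : cj (g⁻¹ * n)⁻¹ K ≤ sigmaCore (cj g M') ⊓ M := by
    refine le_inf ?_ ?_
    · rw [← h6, ← sc_cj]
      refine cj_mono ?_
      rw [← hpr.e']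
      exact inf_le_left
    · have h8 := cj_mono (g := (g⁻¹ * n)⁻¹) h.hKM
      rwa [cj_eq_of_mem (inv_mem ht)] at h8
  rw [hN.inf, le_bot_iff, cj_eq_bot_iff] at h7
  exact h.ne h7

theorem tau2_part (hG : IsMinSimpleOddOrder G) (hC : Con13 G) {M N : Subgroup G} (hM : IsCoatom M) {x : G} (hx : x ∈ sigmaCore M)
    (hN : ND M N x) {q : ℕ} (hq : q ∈ sigma N) (hqM : q ∣ Nat.card M) (hκ : kappa M = ∅) : tau2 M = ∅ := by
  rw [Set.eq_empty_iff_forall_notMem]
  intro r hr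
  have hqp := (sigma_spec hq).1
  haveI := Fact.mk hqp
  haveI : Fact r.Prime := ⟨hr.1⟩
  have hqσ : q ∉ sigma M := fun h1 => hC.h139 M N hM hN.co hN.nc q h1 hq
  have hqβ := hN.bt q hq hqM
  have hqτ : q ∉ tau2 M := fun h => not_ideal_of_tau2 hG hM h hqβ.2
  have hr1 : PRankLE q 1 M := by
    rcases tau_cases hG hM hqp hqM hqσ with h | h
    · exact absurd h hqτ
    · exact h.1
  have hqr : q ≠ r := by rintro rfl; exact hqτ hr
  obtain ⟨E, -, hE⟩ := exists_E hG hM (K := ⊥) bot_le (by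
    intro p hp hd
    rw [card_bot] at hd
    exact absurd (Nat.dvd_one.1 hd) hp.one_lt.ne')
  obtain ⟨A, hAE, hA, hAc⟩ := exists_ea_compl hG hM hE hr
  have hAM : A ≤ M := hAE.trans hE.1
  obtain ⟨A', hExc⟩ := exists_exc hG hM hr.2.1 hAM hA hAc
  have hcard := H12.Core.IsComplIn_card hE
  have hqE : q ∣ Nat.card E := by
    rw [← hcard] at hqM
    rcases hqp.dvd_mul.1 hqM with h | h
    · exact h
    · exact absurd (sigmaCore_pi M q hqp h) hqσ
  obtain ⟨y, hyE, hyo⟩ := exists_elt_of_dvd hqE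
  have hy1 := orderOf_ne hqp hyo
  have hyM : y ∈ M := hE.1 hyE
  have hQc : Nat.card (zpowers y) = q := by rw [Nat.card_zpowers, hyo]
  have hQE : zpowers y ≤ E := zpowers_le.2 hyE
  have hfree : sigmaCore M ⊓ centralizer ((zpowers y : Subgroup G) : Set G) = ⊥ :=
    free_of_not_kappa hG hqσ hr1 (by rw [hκ]; exact Set.notMem_empty q) (hQE.trans hE.1) hQc
  obtain ⟨g, hg⟩ := hC.h1216 N (zpowers y) hN.co (fun p hp hd => by
    rw [hQc] at hd
    rw [(Nat.prime_dvd_prime_iff_eq hp hqp).1 hd]; exact hq)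
  have hH := isCoatom_of_cj hN.co g⁻¹
  set H := cj g⁻¹ N with hHdef
  have hyH : y ∈ sigmaCore H := by
    rw [hHdef, ← sc_cj]
    have h4 : g * y * g⁻¹ ∈ sigmaCore N := hg (conj_mem_cj (mem_zpowers y))
    have h5 := conj_mem_cj (g := g⁻¹) h4
    simpa [mul_assoc] using h5
  have hqH : q ∈ sigma H := by rw [hHdef, sigma_cj]; exact hq
  have hqβH : q ∈ beta H := ⟨by rw [hHdef, alpha_cj]; exact hqβ.1, hqβ.2⟩
  obtain ⟨hU1, hU2⟩ := thm1214 hG hH hqH (X := zpowers y) (zpowers_le.2 (sigmaCore_le H hyH)) hQc (Or.inl hqβH)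
  have hHM : H ≠ M := fun h => hqσ (h ▸ hqH)
  have hEA := exc_compl_le hG hExc hE hAE
  have hAp := ea_isPGroup hA
  -- if `A ≤ H` then `r ∈ σ(H)`
  have hrH : A ≤ H → r ∈ sigma H := by
    intro hAH
    by_contra hr
    obtain ⟨A₂, hExc₂⟩ := exists_exc hG hH hr hAH hA hAc
    have h1 := thm125e hG hExc₂ hM hHM.symm hAM
    have h2 : y ∈ sigmaCore H ⊓ M := mem_inf.2 ⟨hyH, hyM⟩
    rw [h1, mem_bot] at h2
    exact hy1 h2
  have hsM := sigmaCore_ne_bot hG hM
  by_cases hAQ : A ≤ centralizer ((zpowers y : Subgroup G) : Set G)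
  · have hAH := hAQ.trans hU1.1
    have hrσ := hrH hAH
    have hAσ := le_sigmaCore_of_pgroup hG hH hAp hAH hrσ
    have hnil : Group.IsNilpotent (sigmaCore H) := by
      rw [hHdef, ← sc_cj]
      exact H12.CN.isNilpotent_cj hN.nil _
    obtain ⟨T, hT⟩ := exists_isSylIn (p := q) (sigmaCore H)
    have hTn := normal_of_nilpotent_sylow (sigmaCore_le H) (le_normalizer_sigmaCore H) hnil hT
    have hcop : (Nat.card A).Coprime (Nat.card T) := by
      obtain ⟨k, hk⟩ := IsPGroup.iff_card.1 hT.isPGroup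
      rw [hAc, hk]
      exact Nat.Coprime.pow _ _ ((Nat.coprime_primes hr.1 hqp).2 hqr.symm)
    have h1 := H12.Core.commutator_eq_bot_of_nilpotent_coprime hnil hT.le hAσ (hAH.trans hTn) hcop
    have h2 : T ≤ centralizer (A : Set G) := le_centralizer_iff.1 h1
    have h3 := h2.trans ((thm126b hG hExc hE hAE).1.trans hE.1)
    exact hHM ((hU2 T hT).2 M hM h3).symm
  · have hQA : zpowers y ≤ normalizer (A : Set G) := hQE.trans hEA
    have hcop : (Nat.card (zpowers y)).Coprime (Nat.card A) := by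
      rw [hQc, hAc]
      exact Nat.Coprime.pow_right _ ((Nat.coprime_primes hqp hr.1).2 hqr)
    have hsol : Group.IsSolvable (zpowers y) := solv_le hG hM (hQE.trans hE.1)
    have hsup := H1.Coprime.commutator_sup_centralizer (zpowers y) A hQA hcop (Or.inl hsol)
    haveI := hA.1
    have hdis := H1.Coprime.inf_commutator_eq_bot_of_abelian (zpowers y) A hQA hcop
    set A₁ := ⁅A, zpowers y⁆ with hA₁
    have hA₁A : A₁ ≤ A := H1.Coprime.commutator_le_of_le_normalizer hQA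
    have hA₁b : A₁ ≠ ⊥ := by
      intro h
      rw [hA₁, commutator_eq_bot_iff_le_centralizer] at h
      exact hAQ h
    have hA₁M := hA₁A.trans hAM
    have hQA₁ : zpowers y ≤ normalizer (A₁ : Set G) := H22.Basic.right_le_normalizer_commutator A (zpowers y)
    have hfix : A₁ ⊓ centralizer ((zpowers y : Subgroup G) : Set G) = ⊥ := by
      rw [eq_bot_iff, ← hdis]
      exact le_inf (inf_le_inf_right _ hA₁A) inf_le_left
    have hcA : (Nat.card A₁).Coprime (Nat.card (sigmaCore M)) :=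
      (((compl_sigmaC hG hM hE).mono (hA₁A.trans hAE)).coprime).symm
    have hcQ : (Nat.card (zpowers y)).Coprime (Nat.card (sigmaCore M)) :=
      (((compl_sigmaC hG hM hE).mono hQE).coprime).symm
    have hcent : A₁ ≤ centralizer (sigmaCore M : Set G) := by
      refine H12.BG13.frob_trivial' (M := sigmaCore M) (K := A₁) (R := zpowers y) (solv_le hG hM (sigmaCore_le M))
        (hA₁M.trans (le_normalizer_sigmaCore M)) ((hQE.trans hE.1).trans (le_normalizer_sigmaCore M)) hQA₁ hcA hcQ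
        (H12.BG13.frob_of_prime hQc hfix) ?_
      rw [hfree]; exact bot_le
    have hcent' : sigmaCore M ≤ centralizer (A₁ : Set G) := le_centralizer_iff.1 hcent
    have hA₁ne : A₁ ≠ A := by
      intro h
      rw [h] at hcent'
      have h1 := hcent'.trans (thm126b hG hExc hE hAE).1
      have h2 : sigmaCore M ≤ E ⊓ sigmaCore M := le_inf h1 le_rfl
      rw [hE.2.2.1, le_bot_iff] at h2
      exact hsM h2
    have hA₁c := card_of_le_sq hAc hA₁A hA₁ne hA₁b
    -- `A₁ ≤ M ⊓ N`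
    have hxc : A₁ ≤ centralizer ({x} : Set G) := hcent.trans (centralizer_le (Set.singleton_subset_iff.2 hx))
    have hA₁N : A₁ ≤ N := hxc.trans hN.um.1
    have hrN : r ∉ sigma N := compl_sigmaC hG hN.co hN.cmp r hr.1 (by
      have := card_dvd_of_le (le_inf hA₁M hA₁N)
      rwa [hA₁c] at this)
    have hrH' : r ∉ sigma H := by rw [hHdef, sigma_cj]; exact hrN
    have hum : UMax M (centralizer (A₁ : Set G)) := by
      refine thm126c hG hExc hA₁b (ea_le_cent hA hA₁A) (fun h => hM.1 (top_le_iff.1 (h ▸ hA₁M))) ?_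
      rw [inf_eq_left.2 hcent']; exact hsM
    -- an element of `C_A(Q)`
    have hA₀ : A ⊓ centralizer ((zpowers y : Subgroup G) : Set G) ≠ ⊥ := by
      intro h
      rw [h, sup_bot_eq] at hsup
      exact hA₁ne hsup
    obtain ⟨a, ha, ha1⟩ := exists_ne_one hA₀
    obtain ⟨haA, haQ⟩ := mem_inf.1 ha
    have hao : orderOf a = r := by
      refine orderOf_eq_prime (hA.2 a haA) ha1
    have hay : a ∈ centralizer ({y} : Set G) := by
      rw [mem_centralizer_singleton_iff]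
      exact (mem_centralizer_iff.1 haQ y (mem_zpowers y)).symm
    have haH : a ∈ H := hU1.1 haQ
    rcases thm143 hG hC hH hyH hy1 haH hay ha1 (fun p hp hd => by
        rw [hao] at hd
        rw [(Nat.prime_dvd_prime_iff_eq hp hr.1).1 hd]; exact hrH') with ⟨h1, -⟩ | ⟨-, -, h2⟩
    · have h3 := h1 r hr.1 (by rw [hao])
      rw [hHdef, kappa_cj hG] at h3
      obtain ⟨-, -, -, -, -, h8⟩ := kappa_spec hG h3
      apply h8 A₁ hA₁N hA₁c
      rw [eq_bot_iff, ← hN.inf]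
      exact inf_le_inf_left _ hum.1
    · have h3 : A ≤ H := by
        refine le_trans ?_ h2.1
        intro b hb
        rw [mem_centralizer_singleton_iff]
        exact ea_comm hA b hb a haA
      exact hrH' (hrH h3)

theorem s1436 (hG : Cfsg.IsMinSimpleOddOrder G) (hC : Con13 G)
    (M : Subgroup G) (hM : IsCoatom M) (x : G) (hx : x ∈ Cfsg.sigmaCore M) (hx1 : x ≠ 1) (hxM : ¬ Subgroup.centralizer ({x} : Set G) ≤ M)
    (N : Subgroup G) (hN : IsCoatom N) (hxN : Subgroup.centralizer ({x} : Set G) ≤ N) :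
    ((∃ p ∈ Cfsg.sigma N, p ∣ Nat.card M) → Cfsg.kappa M = ∅ ∧ Cfsg.tau2 M = ∅) ∧
      ∀ (y : G) (N' : Subgroup G) (g : G), y ∈ Cfsg.sigmaCore M → y ≠ 1 → ¬ Subgroup.centralizer ({y} : Set G) ≤ M → IsCoatom N' → Subgroup.centralizer ({y} : Set G) ≤ N' →
        N'.map (MulAut.conj g).toMonoidHom = N → ∃ m ∈ M, N'.map (MulAut.conj m).toMonoidHom = N := by
  obtain ⟨N₀, hN₀⟩ := exists_ND hG hC hM hx hx1 hxM
  have e := hN₀.um.2 N hN hxN
  subst e
  refine ⟨?_, ?_⟩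
  · rintro ⟨q, hq, hqM⟩
    have h1 := kappa_part hG hC hM hx hx1 hN₀ hq hqM
    exact ⟨h1, tau2_part hG hC hM hx hN₀ hq hqM h1⟩
  · intro y N' g hy hy1 hyM hN' hyN' hg
    obtain ⟨N₁, hN₁⟩ := exists_ND hG hC hM hy hy1 hyM
    have e := hN₁.um.2 N' hN' hyN'
    subst e
    change cj g N' = N at hg
    have hs : sigma N' = sigma N := by
      rw [← hg]
      ext p
      exact (sigma_cj g p).symm
    have h1 : IsPiHallOf (sigma N)ᶜ (cj g (M ⊓ N')) N := by
      have h2 := H12.Hall.conj (g := g) (compl_hall hG hN₁.co hN₁.cmp)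
      rwa [hs, hg] at h2
    obtain ⟨n, hn, hnc⟩ := H12.Hall.hall_conj (solvable_of_ne_top hG hN.1) h1 (compl_hall hG hN₀.co hN₀.cmp)
    have h2 : cj (n * g) N' = N := by rw [cj_mul, hg, cj_eq_of_mem hn]
    have h3 : cj (n * g) (M ⊓ N') = M ⊓ N := by rw [cj_mul, hnc]
    have hyMN := hN₁.mem (sigmaCore_le M hy)
    have h4 : y ∈ cj (n * g)⁻¹ M := by
      have h5 : (n * g) * y * (n * g)⁻¹ ∈ M ⊓ N := by
        rw [← h3]; exact conj_mem_cj hyMN
      have h6 := conj_mem_cj (g := (n * g)⁻¹) (mem_inf.1 h5).1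
      have h7 : (n * g)⁻¹ * (n * g * y * (n * g)⁻¹) * (n * g)⁻¹⁻¹ = y := by group
      rwa [h7] at h6
    obtain ⟨t, ht, hte⟩ := nd_trans hG hC hM hy hy1 hyM hN₁ h4
    refine ⟨(n * g) * t, ?_, ?_⟩
    · rw [← cj_eq_self_iff hG hM, cj_mul, hte, cj_cj_inv]
    · change cj ((n * g) * t) N' = N
      rw [cj_mul, cj_eq_of_mem (sigmaCore_le N' (mem_inf.1 ht).1), h2]

end Cfsg.Agent.H2.BG14
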