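import Mathlib
import Cfsg.Agent.H2_BG14p

/-! BG 14.12: the key lemma -/

set_option autoImplicit false
set_option linter.unusedSectionVars false

open Pointwise
open scoped commutatorElement

namespace Cfsg.Agent.H2.BG14

open Cfsg Subgroup H13.Syl H12.Loc H12.BG7 H12.BG10 H12.BG11 H12.BG12 H2.Con13

universe u

variable {G : Type u} [Group G] [Finite G]

/-- Frobenius action on `sigmaCore H` -/
theorem frob_sigma (hG : IsMinSimpleOddOrder G) {H K Y : Subgroup G} (hH : IsCoatom H) (hKH : K ≤ H) (hYH : Y ≤ H)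
    (hKp : (Nat.card K).Prime) (hKσ : SigmaC H K) (hYσ : SigmaC H Y) (hn : K ≤ normalizer (Y : Set G))
    (hfree : Y ⊓ centralizer (K : Set G) = ⊥) (hfix : sigmaCore H ⊓ centralizer (K : Set G) = ⊥) :
    Y ≤ centralizer (sigmaCore H : Set G) := by
  haveI := Fact.mk hKp
  refine H12.BG13.frob_trivial' (M := sigmaCore H) (K := Y) (R := K) (solv_le hG hH (sigmaCore_le H))
    (hYH.trans (le_normalizer_sigmaCore H)) (hKH.trans (le_normalizer_sigmaCore H)) hn hYσ.coprime.symm hKσ.coprime.symm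
    (H12.BG13.frob_of_prime rfl hfree) ?_
  rw [hfix]; exact bot_le

theorem cent_ea_bot (hG : IsMinSimpleOddOrder G) {H D : Subgroup G} (hH : IsCoatom H) {q : ℕ} (hqσ : q ∉ sigma H) (hqp : q.Prime)
    (hDH : D ≤ H) (hD : IsElementaryAbelian q D) (hDc : Nat.card D = q ^ 2) : sigmaCore H ⊓ centralizer (D : Set G) = ⊥ := by
  haveI := Fact.mk hqp
  obtain ⟨A, hExc⟩ := exists_exc hG hH hqσ hDH hD hDc
  obtain ⟨P, hDP, hP⟩ := exists_isSylIn_ge (p := q) (ea_isPGroup hD) hDH
  exact (hExc.thm116 hG hP hDP).2.2.1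

/-- the key lemma of 14.12 -/
theorem lemX (hG : IsMinSimpleOddOrder G) (hC : Con13 G) {M K E U M' K' E' U' : Subgroup G} (hpr : PR M K E U M' K' E' U') (hU : U ≠ ⊥)
    {H EH D X : Subgroup G} (hH : IsCoatom H) (hKE : K ≤ EH) (hEH : IsComplIn EH (sigmaCore H) H) {q : ℕ} (hq : q ∈ tau2 H)
    (hDE : D ≤ EH) (hD : IsElementaryAbelian q D) (hDc : Nat.card D = q ^ 2)
    (hfix : sigmaCore H ⊓ centralizer (K : Set G) = ⊥) (hX : X ≤ D) (hXb : X ≠ ⊥) (hKX : K ≤ normalizer (X : Set G))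
    (hXK : X ⊓ centralizer (K : Set G) = ⊥) : False := by
  have hKp : (Nat.card K).Prime := (hpr.h.g hG hU).2.1
  haveI := Fact.mk hKp
  haveI : Fact q.Prime := ⟨hq.1⟩
  have hM' := hpr.h'.co
  have hEσ := compl_sigmaC hG hH hEH
  have hKH : K ≤ H := hKE.trans hEH.1
  have hDH : D ≤ H := hDE.trans hEH.1
  have hpM' : Nat.card K ∈ sigma M' := hpr.K_sigma _ hKp dvd_rfl
  have hpH : Nat.card K ∉ sigma H := (hEσ.mono hKE) _ hKp dvd_rfl
  have hHM' : H ≠ M' := by rintro rfl; exact hpH hpM'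
  have hK' : K ≤ sigmaCore M' := by
    have := hpr.e'
    rw [← this]; exact inf_le_left
  have hKM' : K ≤ M' := hK'.trans (sigmaCore_le M')
  obtain ⟨k, hk, hk1⟩ := exists_ne_one hpr.h.ne
  obtain ⟨A, hExc⟩ := exists_exc hG hH hq.2.1 hDH hD hDc
  have hsH := sigmaCore_ne_bot hG hH
  have hqp : q ≠ Nat.card K := by
    intro h
    have h1 : K ≤ D := thm126a hG hExc hEH hDE hKE (fun x hx => by
      have h2 : orderOf x ∣ q := by rw [h]; exact Subgroup.orderOf_dvd_natCard _ hx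
      exact orderOf_dvd_iff_pow_eq_one.1 h2)
    have h2 : X ≤ centralizer (K : Set G) := hX.trans (ea_le_cent hD h1)
    rw [inf_eq_left.2 h2] at hXK
    exact hXb hXK
  have hqi := not_ideal_of_tau2 hG hH hq
  have hXH := hX.trans hDH
  have hXc : X ≤ centralizer (sigmaCore H : Set G) :=
    frob_sigma hG hH hKH hXH hKp (hEσ.mono hKE) (hEσ.mono (hX.trans hDE)) hKX hXK hfix
  have hum : UMax H (centralizer (X : Set G)) := by
    refine thm126c hG hExc hXb (ea_le_cent hD hX) (fun h => hH.1 (top_le_iff.1 (h ▸ hXH))) ?_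
    rw [inf_eq_left.2 (le_centralizer_iff.1 hXc)]; exact hsH
  have hKD : K ≤ normalizer (D : Set G) := hKE.trans (exc_compl_le hG hExc hEH hDE)
  have hD₀ : D ⊓ centralizer (K : Set G) ≠ ⊥ := by
    intro h
    have h1 : D ≤ centralizer (sigmaCore H : Set G) :=
      frob_sigma hG hH hKH hDH hKp (hEσ.mono hKE) (hEσ.mono hDE) hKD h hfix
    have h2 := cent_ea_bot hG hH hq.2.1 hq.1 hDH hD hDc
    rw [inf_eq_left.2 (le_centralizer_iff.1 h1)] at h2
    exact hsH h2
  obtain ⟨d, hd, hd1⟩ := exists_ne_one hD₀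
  obtain ⟨hdD, hdK⟩ := mem_inf.1 hd
  have hdo : orderOf d = q := orderOf_eq_prime (hD.2 d hdD) hd1
  have hst' : K ≤ st M' K' := by rw [hpr.e']
  have hCK : centralizer (K : Set G) ≤ M' := (hpr.h'.c hC hst' hKp).1
  have hdM' : d ∈ M' := hCK hdK
  have hDd : D ≤ centralizer ({d} : Set G) := fun b hb => by
    rw [mem_centralizer_singleton_iff]; exact ea_comm hD b hb d hdD
  have hKd : K ≤ centralizer ({d} : Set G) := fun b hb => by
    rw [mem_centralizer_singleton_iff]; exact mem_centralizer_iff.1 hdK b hb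
  -- `X ≤ M'` is impossible if `q ∈ σ(M')`
  have claim : X ≤ M' → q ∈ sigma M' → False := by
    intro hXM' hqσ'
    have hXσ := le_sigmaCore_of_pgroup hG hM' ((ea_isPGroup hD).to_le hX) hXM' hqσ'
    have hqβ : q ∉ beta M' := fun h => hqi h.2
    have hL : sigmaCore M' ≤ ⁅M', M'⁆ := sigmaCore_le_commutator hG hM'
    obtain ⟨W, hWL, hWn, hWq, hWs⟩ := npc_data (npc_commutator hG hM' hqβ)
    obtain ⟨P, hP⟩ := exists_isSylIn (p := q) ⁅M', M'⁆
    have hsup := hWs P hP
    have hKW : K ≤ W := by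
      refine le_of_sup hP.isPGroup (hP.le.trans hWn) (Y := K) ?_ ?_
      · rw [sup_comm, hsup]; exact hK'.trans hL
      · intro h
        exact hqp ((Nat.prime_dvd_prime_iff_eq hq.1 hKp).1 h)
    have h1 : ⁅X, K⁆ ≤ X ⊓ W := by
      refine le_inf (H1.Coprime.commutator_le_of_le_normalizer hKX) ?_
      exact (commutator_mono le_rfl hKW).trans (le_normalizer_iff_commutator_le_right.1 ((hXσ.trans hL).trans hWn))
    have h2 : X ⊓ W = ⊥ := by
      apply inf_eq_bot_of_coprime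
      obtain ⟨n, hn⟩ := IsPGroup.iff_card.1 ((ea_isPGroup hD).to_le hX)
      rw [hn]
      exact Nat.Coprime.pow_left _ ((Nat.Prime.coprime_iff_not_dvd hq.1).2 hWq)
    rw [h2, le_bot_iff, commutator_eq_bot_iff_le_centralizer] at h1
    rw [inf_eq_left.2 h1] at hXK
    exact hXb hXK
  by_cases hqσ' : q ∈ sigma M'
  · have hdσ : d ∈ sigmaCore M' := mem_sigmaCore_of_mem hG hM' hdM' (fun p hp hpd => by
      rw [hdo] at hpd
      rw [(Nat.prime_dvd_prime_iff_eq hp hq.1).1 hpd]; exact hqσ')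
    by_cases hdc : centralizer ({d} : Set G) ≤ M'
    · exact claim (hX.trans (hDd.trans hdc)) hqσ'
    · obtain ⟨N, hN⟩ := exists_ND hG hC hM' hdσ hd1 hdc
      have hDN := hDd.trans hN.um.1
      have hXN := hX.trans hDN
      have hKN := hKd.trans hN.um.1
      have hpN : Nat.card K ∉ sigma N := by
        intro h
        have h1 := kappa_part hG hC hM' hdσ hd1 hN h (card_dvd_of_le hKM')
        have h2 := kappa_nonempty hpr.h'
        rw [h1] at h2
        exact Set.not_nonempty_empty h2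
      have hqN : q ∈ tau2 N := hN.tau q hq.1 (by rw [hdo])
      have hfixN : sigmaCore N ⊓ centralizer (K : Set G) = ⊥ := by
        rw [eq_bot_iff, ← hN.inf]
        exact inf_le_inf_left _ hCK
      have hKσN : SigmaC N K := by
        intro p hp hpd
        rw [(Nat.prime_dvd_prime_iff_eq hp hKp).1 hpd]; exact hpN
      have hDσN : SigmaC N D := by
        intro p hp hpd
        rw [hDc] at hpd
        rw [(Nat.prime_dvd_prime_iff_eq hp hq.1).1 (hp.dvd_of_dvd_pow hpd)]; exact hqN.2.1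
      have hXcN : X ≤ centralizer (sigmaCore N : Set G) :=
        frob_sigma hG hN.co hKN hXN hKp hKσN (hDσN.mono hX) hKX hXK hfixN
      have hNH : N = H := by
        by_contra hne
        obtain ⟨A₂, hExc₂⟩ := exists_exc hG hN.co hqN.2.1 hDN hD hDc
        have h1 := thm125e hG hExc₂ hH (Ne.symm hne) hDH
        have h2 : sigmaCore N ≤ H := (le_centralizer_iff.1 hXcN).trans hum.1
        rw [inf_eq_left.2 h2] at h1
        exact sigmaCore_ne_bot hG hN.co h1
      subst hNH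
      refine claim ?_ hqσ'
      obtain ⟨h, hh, hhX⟩ := H12.Hall.hall_dom (solvable_of_ne_top hG hH.1) (compl_hall hG hH hN.cmp) (X := X)
        (hEσ.mono (hX.trans hDE)) hXH
      obtain ⟨a, ha, b, hb, rfl⟩ := hN.cmp.2.2.2 h hh
      have h1 : cj b X = X := cj_eq_of_mem_normalizer (centralizer_le_normalizer _ (le_centralizer_iff.1 hXc hb))
      rw [cj_mul, h1, cj_le_iff, cj_eq_of_mem (inv_mem ha)] at hhX
      exact hhX.trans inf_le_left
  · rcases thm143 hG hC hM' (hK' hk) hk1 hdM' (by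
        rw [mem_centralizer_singleton_iff]; exact (mem_centralizer_iff.1 hdK k hk).symm) hd1 (fun p hp hpd => by
        rw [hdo] at hpd
        rw [(Nat.prime_dvd_prime_iff_eq hp hq.1).1 hpd]; exact hqσ') with ⟨h1, -⟩ | ⟨-, -, h2⟩
    · have h3 : q ∈ kappa M' := h1 q hq.1 (by rw [hdo])
      have h4 : q ∣ Nat.card K' := (H12.Hall.dvd_iff hq.1 hpr.h'.hall h3).2 (kappa_spec hG h3).2.1
      have h5 : q ∈ sigma M := hpr.K'_sigma q hq.1 h4
      exact hqi ((hpr.h.g hG hU).1 q h5).2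
    · have hDM' := hDd.trans h2.1
      obtain ⟨A₂, hExc₂⟩ := exists_exc hG hM' hqσ' hDM' hD hDc
      have h3 := thm125e hG hExc₂ hH hHM' hDH
      have h4 : k ∈ sigmaCore M' ⊓ H := mem_inf.2 ⟨hK' hk, hKH hk⟩
      rw [h3, mem_bot] at h4
      exact hk1 h4

end Cfsg.Agent.H2.BG14
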