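import Mathlib
import Cfsg.Agent.H2_BG14q
import Cfsg.Agent.H12_BG13c
import Cfsg.Agent.H1_Schmidt

/-! BG 14.12: row S1435 in terms of `Con13` -/

set_option autoImplicit false
set_option linter.unusedSectionVars false

open Pointwise
open scoped commutatorElement

namespace Cfsg.Agent.H2.BG14

open Cfsg Subgroup H13.Syl H12.Loc H12.BG7 H12.BG10 H12.BG11 H12.BG12 H2.Con13

universe u

variable {G : Type u} [Group G] [Finite G]

/-- the data of 14.12 -/
structure SD (M K E H : Subgroup G) (r : ℕ) : Prop where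
  co : IsCoatom H
  kap : kappa H = ∅
  ne : H ≠ M
  EH : E ≤ H
  pσ : Nat.card K ∉ sigma H
  inf : sigmaCore M ⊓ H = ⊥
  eq : M ⊓ H = E
  fix : sigmaCore H ⊓ centralizer (K : Set G) = ⊥
  rσ : r ∈ sigma H

theorem exists_SD (hG : IsMinSimpleOddOrder G) (hC : Con13 G) {M K E U M' K' E' U' : Subgroup G} (hpr : PR M K E U M' K' E' U') (hU : U ≠ ⊥)
    {r : ℕ} (hr : r.Prime) (hrU : r ∣ Nat.card U) {R : Subgroup G} (hR : IsSylIn r R U) {H : Subgroup G} (hH : IsCoatom H)
    (hN : normalizer (R : Set G) ≤ H) : SD M K E H r := by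
  haveI := Fact.mk hr
  have h := hpr.h
  have hM := h.co
  have hM' := hpr.h'.co
  have hKp : (Nat.card K).Prime := (h.g hG hU).2.1
  haveI := Fact.mk hKp
  obtain ⟨-, hrκ, hrσ⟩ := h.hUq.2.1 r hr hrU
  have hRM : IsSylIn r R M := H12.Hall.sylow_trans h.hUq ⟨hr, hrκ, hrσ⟩ hR
  have hEs := compl_sigmaC hG hM h.hE
  have hUnil : Group.IsNilpotent U := nilp_of_comm h.comm
  have hER : E ≤ normalizer (R : Set G) := normal_of_nilpotent_sylow h.hUE h.nU hUnil hR
  have hEH : E ≤ H := hER.trans hN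
  have hKH := h.hKE.trans hEH
  have hRH : R ≤ H := (hR.le.trans h.hUE).trans hEH
  have hrM : r ∣ Nat.card M := hrU.trans (card_dvd_of_le h.hUM)
  have hHM : H ≠ M := by
    rintro rfl
    exact hrσ (sigma_of_normalizer hr hrM hRM hN)
  obtain ⟨u, hu, huo⟩ := exists_elt_of_dvd (X := R) (p := r) (by
    have h1 : ¬ r ∣ R.relIndex U := hR.not_dvd
    have h2 := H12.Hall.relIndex_mul hR.le
    rw [← h2] at hrU
    exact (hr.dvd_mul.1 hrU).resolve_left h1)
  have hu1 := orderOf_ne hr huo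
  have huU : u ∈ U := hR.le hu
  have hK' : K ≤ sigmaCore M' := by
    have := hpr.e'
    rw [← this]; exact inf_le_left
  have hst' : K ≤ st M' K' := by rw [hpr.e']
  have hpM' : Nat.card K ∈ sigma M' := hpr.K_sigma _ hKp dvd_rfl
  -- `p ∉ σ(H)`
  have hpH : Nat.card K ∉ sigma H := by
    intro hpH
    obtain ⟨g, rfl⟩ := sigma_disj hC hM' hH hpM' hpH
    have hg : g ∈ M' := by
      by_contra hg
      have h1 := hpr.h'.d1 hG hC hg
      rw [hpr.e', inf_eq_left.2 hKH] at h1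
      exact h.ne h1
    rw [cj_eq_of_mem hg] at hEH
    have h1 : u ∈ K ⊔ K' := by
      rw [← hpr.inf_eq hG hC]
      exact mem_inf.2 ⟨h.hUM huU, hEH (h.hUE huU)⟩
    have h2 := Subgroup.orderOf_dvd_natCard _ h1
    rw [huo, ← hpr.md.card_eq, hpr.e] at h2
    rcases hr.dvd_mul.1 h2 with h3 | h3
    · exact hrκ (h.hall.2.1 r hr h3)
    · exact hrσ (hpr.K'_sigma r hr h3)
  have hκ : kappa H = ∅ := by
    by_contra hk
    obtain ⟨L, E₂, U₂, h₂⟩ := exists_KS_of_kappa hG hC hH (Set.nonempty_iff_ne_empty.2 hk)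
    obtain ⟨g, rfl | rfl⟩ := hpr.two_classes hG hC h₂
    · have h1 : IsSylIn r (cj g R) (cj g M) := hRM.cj g
      obtain ⟨y, hy, hyR⟩ := h1.exists_conj_le hR.isPGroup hRH
      have h2 : cj y R = cj g R := by
        apply SetLike.ext'
        apply Set.eq_of_subset_of_ncard_le hyR _ (Set.toFinite _)
        have e1 : ((cj g R : Subgroup G) : Set G).ncard = Nat.card ↥(cj g R) := (Nat.card_coe_set_eq _).symm
        have e2 : ((cj y R : Subgroup G) : Set G).ncard = Nat.card ↥(cj y R) := (Nat.card_coe_set_eq _).symm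
        rw [e1, e2, card_cj, card_cj]
      have h3 : y⁻¹ * g ∈ normalizer (R : Set G) := by
        rw [mem_normalizer_iff_cj, cj_mul, ← h2, cj_inv_cj]
      have h4 : g ∈ cj g M := by
        have := mul_mem hy (hN h3)
        simpa using this
      rw [mem_cj] at h4
      have h5 : g ∈ M := by simpa using h4
      exact hHM (cj_eq_of_mem h5)
    · exact hpH (by rw [sigma_cj]; exact hpM')
  have hHM' : H ≠ M' := by rintro rfl; exact hpH hpM'
  have hinf : sigmaCore M ⊓ H = ⊥ := by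
    rcases tau_cases hG hM hr hrM hrσ with hτ | ⟨hr1, hτ⟩
    · have hrk : ¬ PRankLE r 1 R := fun hr' => hτ.2.2.2 (pRankLE_of_isSylIn hRM hr')
      obtain ⟨A, hAR, hA, hAc⟩ := exists_ea_sq_of_not_rank_one hrk
      obtain ⟨A₀, hExc⟩ := exists_exc hG hM hrσ (hAR.trans hRM.le) hA hAc
      exact thm125e hG hExc hH hHM (hAR.trans hRH)
    · have hRb : R ≠ ⊥ := by
        rintro rfl
        exact hu1 (mem_bot.1 hu)
      have h1 := (H12.BG13.thm132 hG hM hH hτ hR.isPGroup hRb hRM.le hN).2.1 R hR.isPGroup (le_inf hRM.le hRH)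
      have h2 := free_of_not_kappa hG hrσ hr1 hrκ (X := zpowers u) (zpowers_le.2 (hRM.le hu)) (by rw [Nat.card_zpowers, huo])
      rw [eq_bot_iff, ← h2]
      refine le_inf inf_le_left ((le_centralizer_iff.1 h1).trans (centralizer_le ?_))
      exact SetLike.coe_subset_coe.2 (zpowers_le.2 hu)
  have heq : M ⊓ H = E := by
    apply le_antisymm
    · intro m hm
      obtain ⟨e, he, s, hs, rfl⟩ := h.hE.2.2.2 m (mem_inf.1 hm).1
      have h1 : s ∈ sigmaCore M ⊓ H := mem_inf.2 ⟨hs, by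
        have := mul_mem (inv_mem (hEH he)) (mem_inf.1 hm).2
        simpa using this⟩
      rw [hinf, mem_bot] at h1
      rw [h1, mul_one]; exact he
    · exact le_inf h.hEM hEH
  have hKσ : SigmaC H K := by
    intro p hp hpd
    rw [(Nat.prime_dvd_prime_iff_eq hp hKp).1 hpd]; exact hpH
  have hCK : centralizer (K : Set G) ≤ M' := (hpr.h'.c hC hst' hKp).1
  have hpdH : Nat.card K ∣ Nat.card H := card_dvd_of_le hKH
  have hfix : sigmaCore H ⊓ centralizer (K : Set G) = ⊥ := by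
    rcases tau_cases hG hH hKp hpdH hpH with hτ | ⟨hr1, -⟩
    · obtain ⟨EH, hKE, hEH'⟩ := exists_E hG hH hKH hKσ
      obtain ⟨B, hBE, hB, hBc⟩ := exists_ea_compl hG hH hEH' hτ
      obtain ⟨A₀, hExc⟩ := exists_exc hG hH hpH (hBE.trans hEH'.1) hB hBc
      have hKB : K ≤ B := thm126a hG hExc hEH' hBE hKE (fun x hx =>
        orderOf_dvd_iff_pow_eq_one.1 (Subgroup.orderOf_dvd_natCard _ hx))
      have h1 := thm125e hG hExc hM' hHM'.symm ((ea_le_cent hB hKB).trans hCK)
      rw [eq_bot_iff, ← h1]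
      exact inf_le_inf_left _ hCK
    · exact free_of_not_kappa hG hpH hr1 (by rw [hκ]; exact Set.notMem_empty _) hKH rfl
  refine ⟨hH, hκ, hHM, hEH, hpH, hinf, heq, hfix, ?_⟩
  have hRb : R ≠ ⊥ := by
    rintro rfl
    exact hu1 (mem_bot.1 hu)
  rcases thm122a hG hH hR.isPGroup hRb hN with h1 | h1
  · exact h1
  · exfalso
    have hKR : K ≤ normalizer (R : Set G) := h.hKE.trans hER
    have hKRσ : SigmaC H (R ⊔ K) := by
      intro p hp hpd
      rw [sup_comm] at hpd
      have h2 := hpd.trans (H12.Core.card_sup_dvd hKR)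
      rcases hp.dvd_mul.1 h2 with h3 | h3
      · exact hKσ p hp h3
      · obtain ⟨n, hn⟩ := IsPGroup.iff_card.1 hR.isPGroup
        rw [hn] at h3
        rw [(Nat.prime_dvd_prime_iff_eq hp hr).1 (hp.dvd_of_dvd_pow h3)]
        exact h1.2.1
    obtain ⟨EH, hKE, hEH'⟩ := exists_E hG hH (sup_le hRH hKH) hKRσ
    obtain ⟨D, hDE, hD, hDc⟩ := exists_ea_compl hG hH hEH' h1
    obtain ⟨A₀, hExc⟩ := exists_exc hG hH h1.2.1 (hDE.trans hEH'.1) hD hDc
    have huD : zpowers u ≤ D := thm126a hG hExc hEH' hDE ((zpowers_le.2 hu).trans (le_sup_left.trans hKE)) (fun x hx => by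
      refine orderOf_dvd_iff_pow_eq_one.1 ?_
      rw [← huo]; exact orderOf_dvd_of_mem_zpowers hx)
    obtain ⟨k, hk, hk1⟩ := exists_ne_one h.ne
    refine lemX hG hC hpr hU hH (le_sup_right.trans hKE) hEH' h1 hDE hD hDc hfix (X := R ⊓ D) inf_le_right ?_
      (le_normalizer_inf hKR ((le_sup_right.trans hKE).trans (exc_compl_le hG hExc hEH' hDE))) ?_
    · intro hb
      have : u ∈ R ⊓ D := mem_inf.2 ⟨hu, zpowers_le.1 huD⟩
      rw [hb] at this
      exact hu1 (mem_bot.1 this)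
    · rw [eq_bot_iff, ← h.free k hk hk1]
      exact inf_le_inf (inf_le_left.trans hR.le) (centralizer_le (Set.singleton_subset_iff.2 hk))

end Cfsg.Agent.H2.BG14
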