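import Mathlib
import Cfsg.Agent.H2_BG14r

/-! BG 14.12: row S1435 in terms of `Con13` -/

set_option autoImplicit false
set_option linter.unusedSectionVars false

open Pointwise
open scoped commutatorElement

namespace Cfsg.Agent.H2.BG14

open Cfsg Subgroup H13.Syl H12.Loc H12.BG7 H12.BG10 H12.BG11 H12.BG12 H2.Con13

universe u

variable {G : Type u} [Group G] [Finite G]

theorem sylow_ne_bot {r : ℕ} (hr : r.Prime) {R U : Subgroup G} (hR : IsSylIn r R U) (hrU : r ∣ Nat.card U) :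
    ∃ u ∈ R, orderOf u = r := by
  haveI := Fact.mk hr
  refine exists_elt_of_dvd (X := R) (p := r) ?_
  have h1 : ¬ r ∣ R.relIndex U := hR.not_dvd
  have h2 := H12.Hall.relIndex_mul hR.le
  rw [← h2] at hrU
  exact (hr.dvd_mul.1 hrU).resolve_left h1

theorem U_free {M K E U : Subgroup G} (h : KS M K E U) {Y : Subgroup G} (hY : Y ≤ U) : Y ⊓ centralizer (K : Set G) = ⊥ := by
  obtain ⟨k, hk, hk1⟩ := exists_ne_one h.ne
  rw [eq_bot_iff, ← h.free k hk hk1]
  exact inf_le_inf hY (centralizer_le (Set.singleton_subset_iff.2 hk))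

theorem sigmaC_prime {H K : Subgroup G} (hKp : (Nat.card K).Prime) (hpH : Nat.card K ∉ sigma H) : SigmaC H K := by
  intro p hp hpd
  rw [(Nat.prime_dvd_prime_iff_eq hp hKp).1 hpd]; exact hpH

theorem sigmaC_pgroup {H R : Subgroup G} {r : ℕ} (hr : r.Prime) (hR : IsPGroup r R) (hpH : r ∉ sigma H) : SigmaC H R := by
  haveI := Fact.mk hr
  intro p hp hpd
  obtain ⟨n, hn⟩ := IsPGroup.iff_card.1 hR
  rw [hn] at hpd
  rw [(Nat.prime_dvd_prime_iff_eq hp hr).1 (hp.dvd_of_dvd_pow hpd)]; exact hpH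

theorem U_le_sigma (hG : IsMinSimpleOddOrder G) (hC : Con13 G) {M K E U M' K' E' U' : Subgroup G} (hpr : PR M K E U M' K' E' U') (hU : U ≠ ⊥)
    {r : ℕ} (hr : r.Prime) (hrU : r ∣ Nat.card U) {R : Subgroup G} (hR : IsSylIn r R U) {H : Subgroup G} (hH : IsCoatom H)
    (hN : normalizer (R : Set G) ≤ H) : U ≤ sigmaCore H := by
  haveI := Fact.mk hr
  have h := hpr.h
  have hKp : (Nat.card K).Prime := (h.g hG hU).2.1
  have sd := exists_SD hG hC hpr hU hr hrU hR hH hN
  have hUnil : Group.IsNilpotent U := nilp_of_comm h.comm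
  have hUH : U ≤ H := h.hUE.trans sd.EH
  have hKH : K ≤ H := h.hKE.trans sd.EH
  refine le_sigmaCore_of_group hG hH hUH ?_
  intro q hq hqU
  by_contra hqσ
  haveI := Fact.mk hq
  obtain ⟨R', hR'⟩ := exists_isSylIn (p := q) U
  obtain ⟨u', hu', hu'o⟩ := sylow_ne_bot hq hR' hqU
  have hR'b : R' ≠ ⊥ := by
    rintro rfl
    exact orderOf_ne hq hu'o (mem_bot.1 hu')
  obtain ⟨H', hH', hN'⟩ := exists_isCoatom_ge (normalizer_ne_top hG hR'b (ne_top_of_isPGroup hG hR'.isPGroup))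
  have sd' := exists_SD hG hC hpr hU hq hqU hR' hH' hN'
  have hER' : E ≤ normalizer (R' : Set G) := normal_of_nilpotent_sylow h.hUE h.nU hUnil hR'
  have hER : E ≤ normalizer (R : Set G) := normal_of_nilpotent_sylow h.hUE h.nU hUnil hR
  have h1 : R' ≤ centralizer (sigmaCore H : Set G) :=
    frob_sigma hG hH hKH (hR'.le.trans hUH) hKp (sigmaC_prime hKp sd.pσ) (sigmaC_pgroup hq hR'.isPGroup hqσ)
      (h.hKE.trans hER') (U_free h hR'.le) sd.fix
  have h2 : sigmaCore H ≤ H' := ((le_centralizer_iff.1 h1).trans (centralizer_le_normalizer _)).trans hN'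
  have hnc : ∀ g : G, H' ≠ cj g H := by
    rintro g rfl
    have h3 := sd'.rσ
    rw [sigma_cj] at h3
    exact hqσ h3
  have hdis := hC.h139 H H' hH hH' hnc
  have hrσ' : r ∉ sigma H' := hdis r sd.rσ
  have hKH' : K ≤ H' := h.hKE.trans sd'.EH
  have h3 : R ≤ centralizer (sigmaCore H' : Set G) :=
    frob_sigma hG hH' hKH' (hR.le.trans (h.hUE.trans sd'.EH)) hKp (sigmaC_prime hKp sd'.pσ) (sigmaC_pgroup hr hR.isPGroup hrσ')
      (h.hKE.trans hER) (U_free h hR.le) sd'.fix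
  have h4 : sigmaCore H' ≤ H := ((le_centralizer_iff.1 h3).trans (centralizer_le_normalizer _)).trans hN
  have h5 : sigmaCore H ⊓ sigmaCore H' = ⊥ :=
    H12.Hall.inf_eq_bot (π := sigma H) (sigmaCore_pi H) (fun p hp hd h6 => hdis p h6 (sigmaCore_pi H' p hp hd))
  have h6 : sigmaCore H' ≤ centralizer (sigmaCore H : Set G) := by
    rw [← commutator_eq_bot_iff_le_centralizer, eq_bot_iff, ← h5]
    refine le_inf ?_ ?_
    · exact le_normalizer_iff_commutator_le_right.1 (h4.trans (le_normalizer_sigmaCore H))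
    · exact le_normalizer_iff_commutator_le_left.1 (h2.trans (le_normalizer_sigmaCore H'))
  obtain ⟨T, hTM, hTtop, -, hTσ⟩ := sigma_sylow hG hH sd.rσ
  obtain ⟨t, ht, hto⟩ := sylow_ne_bot hr hTM ((sigma_spec sd.rσ).2.1)
  have hTH' : IsSylIn r T H' := hTtop.mono (hTσ.trans h2) le_top
  have hsH' := sigmaCore_ne_bot hG hH'
  have h7 : sigmaCore H' ≤ centralizer (T : Set G) := h6.trans (centralizer_le (SetLike.coe_subset_coe.2 hTσ))
  have hrH' : r ∣ Nat.card H' := by
    have := Subgroup.orderOf_dvd_natCard _ (hTH'.le ht)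
    rwa [hto] at this
  rcases tau_cases hG hH' hr hrH' hrσ' with hτ | ⟨hr1, -⟩
  · have hrk : ¬ PRankLE r 1 T := fun hr' => hτ.2.2.2 (pRankLE_of_isSylIn hTH' hr')
    obtain ⟨A, hAT, hA, hAc⟩ := exists_ea_sq_of_not_rank_one hrk
    have h8 := cent_ea_bot hG hH' hrσ' hr (hAT.trans hTH'.le) hA hAc
    rw [inf_eq_left.2 (h7.trans (centralizer_le (SetLike.coe_subset_coe.2 hAT)))] at h8
    exact hsH' h8
  · have h8 := free_of_not_kappa hG hrσ' hr1 (by rw [sd'.kap]; exact Set.notMem_empty _) (X := zpowers t) (zpowers_le.2 (hTH'.le ht))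
      (by rw [Nat.card_zpowers, hto])
    rw [inf_eq_left.2 (h7.trans (centralizer_le (SetLike.coe_subset_coe.2 (zpowers_le.2 ht))))] at h8
    exact hsH' h8

theorem not_norm_le (hG : IsMinSimpleOddOrder G) {M K E U M' K' E' U' : Subgroup G} (hpr : PR M K E U M' K' E' U') (hU : U ≠ ⊥)
    {r : ℕ} {H : Subgroup G} (sd : SD M K E H r) (hUσ : U ≤ sigmaCore H) : ¬ H ⊓ normalizer (U : Set G) ≤ M := by
  have h := hpr.h
  have hKp : (Nat.card K).Prime := (h.g hG hU).2.1
  haveI := Fact.mk hKp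
  have hKH : K ≤ H := h.hKE.trans sd.EH
  intro hle
  obtain ⟨S, hS⟩ := exists_isSylIn (p := Nat.card K) H
  obtain ⟨A, -, -, -, -, -, -, hnil⟩ := thm141 hG sd.co (card_dvd_of_le hKH) sd.pσ (by rw [sd.kap]; exact Set.notMem_empty _) hS
  have hUeq : sigmaCore H ⊓ M = U := by
    apply le_antisymm
    · intro x hx
      obtain ⟨hxσ, hxM⟩ := mem_inf.1 hx
      have hxE : x ∈ E := by
        rw [← sd.eq]; exact mem_inf.2 ⟨hxM, sigmaCore_le H hxσ⟩
      obtain ⟨k, hk, u, hu, rfl⟩ := h.hU.2.2.2 x hxE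
      have h1 : k ∈ sigmaCore H ⊓ K := mem_inf.2 ⟨by
        have := mul_mem hxσ (inv_mem (hUσ hu))
        simpa using this, hk⟩
      rw [(sigmaC_prime hKp sd.pσ).inf_eq_bot, mem_bot] at h1
      rw [h1, one_mul]; exact hu
    · exact le_inf hUσ h.hUM
  rcases eq_or_lt_of_le hUσ with he | hlt
  · have h1 : H ≤ M := by
      refine le_trans (le_inf le_rfl ?_) hle
      rw [he]; exact le_normalizer_sigmaCore H
    exact sd.ne ((sd.co.le_iff.1 h1).resolve_left h.co.1).symm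
  · have h1 := H1.Schmidt.lt_inf_normalizer hlt hnil
    have h2 : sigmaCore H ⊓ normalizer (U : Set G) ≤ U := by
      rw [← hUeq]
      refine le_inf inf_le_left ?_
      refine le_trans ?_ hle
      rw [hUeq]
      exact inf_le_inf_right _ (sigmaCore_le H)
    exact absurd h1 (not_lt_of_ge h2)

end Cfsg.Agent.H2.BG14
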