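import Mathlib
import Cfsg.Agent.H2_BG14s

/-! BG 14.12: row S1435 in terms of `Con13` -/

set_option autoImplicit false
set_option linter.unusedSectionVars false

open Pointwise
open scoped commutatorElement

namespace Cfsg.Agent.H2.BG14

open Cfsg Subgroup H13.Syl H12.Loc H12.BG7 H12.BG10 H12.BG11 H12.BG12 H2.Con13

universe u

variable {G : Type u} [Group G] [Finite G]

/-- the case `p ∈ τ₁(H)` -/
theorem tau1_case (hG : IsMinSimpleOddOrder G) (hC : Con13 G) {M K E U M' K' E' U' : Subgroup G} (hpr : PR M K E U M' K' E' U') (hU : U ≠ ⊥)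
    {H EH : Subgroup G} (hH : IsCoatom H) (hκ : kappa H = ∅) (hKE : K ≤ EH) (hEH : IsComplIn EH (sigmaCore H) H)
    (hfix : sigmaCore H ⊓ centralizer (K : Set G) = ⊥) (hr1 : PRankLE (Nat.card K) 1 H) (hτ : Nat.card K ∈ tau1 H) :
    EH ≤ centralizer (K : Set G) := by
  have h := hpr.h
  have hKp : (Nat.card K).Prime := (h.g hG hU).2.1
  haveI := Fact.mk hKp
  have hEσ := compl_sigmaC hG hH hEH
  have hEs := solv_le hG hH hEH.1
  have hKH := hKE.trans hEH.1
  have hsH := sigmaCore_ne_bot hG hH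
  obtain ⟨W, hW⟩ := H12.Hall.exists_hall hEs {Nat.card K}ᶜ
  have hcomm : ⁅EH, EH⁆ ≤ W := by
    refine H12.Hall.normal_le hW (comm_le_self EH) ?_ (H22.Basic.right_le_normalizer_commutator EH EH)
    intro p hp hd
    have h0 : ¬ Nat.card K ∣ Nat.card ↥⁅H, H⁆ := hτ.2.2.2.1
    have h1 : Nat.card ↥⁅EH, EH⁆ ∣ Nat.card ↥⁅H, H⁆ := card_dvd_of_le (commutator_mono hEH.1 hEH.1)
    have h2 : p ≠ Nat.card K := fun hpe => h0 (hpe ▸ hd.trans h1)
    exact h2
  have hEW : EH ≤ normalizer (W : Set G) := by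
    rw [le_normalizer_iff_commutator_le_right]
    exact (commutator_mono le_rfl hW.1).trans hcomm
  have hpW : ¬ Nat.card K ∣ Nat.card W := fun hd => hW.2.1 _ hKp hd (Set.mem_singleton _)
  have hKW : K ≤ centralizer (W : Set G) := by
    refine H12.BG13.cent_of_inv (hKE.trans hEW) ((Nat.Prime.coprime_iff_not_dvd hKp).2 hpW) (solv_le hG hH (hW.1.trans hEH.1)) ?_
    intro q hq hqW Q hQ hQW hKQ
    haveI := Fact.mk hq
    by_contra hne
    have hqp : q ≠ Nat.card K := by rintro rfl; exact hpW hqW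
    have hQE : Q ≤ EH := hQW.trans hW.1
    have hQH := hQE.trans hEH.1
    haveI : IsMulCommutative Q := thm1210a hG hH hQH (H12.Core.isNilpotent_of_isPGroup hQ) (hEσ.mono hQE)
    have hcop : (Nat.card K).Coprime (Nat.card Q) := by
      obtain ⟨n, hn⟩ := IsPGroup.iff_card.1 hQ
      rw [hn]
      exact Nat.Coprime.pow_right _ ((Nat.coprime_primes hKp hq).2 hqp.symm)
    have hdis := H1.Coprime.inf_commutator_eq_bot_of_abelian K Q hKQ hcop
    set Q₁ := ⁅Q, K⁆ with hQ₁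
    have hQ₁Q : Q₁ ≤ Q := H1.Coprime.commutator_le_of_le_normalizer hKQ
    have hfix1 : Q₁ ⊓ centralizer (K : Set G) = ⊥ := by
      rw [eq_bot_iff, ← hdis]
      exact le_inf (inf_le_inf_right _ hQ₁Q) inf_le_left
    have hKQ₁ : K ≤ normalizer (Q₁ : Set G) := H22.Basic.right_le_normalizer_commutator Q K
    have hQ₁H := hQ₁Q.trans hQH
    have h1 : Q₁ ≤ centralizer (sigmaCore H : Set G) :=
      frob_sigma hG hH hKH hQ₁H hKp (hEσ.mono hKE) (hEσ.mono (hQ₁Q.trans hQE)) hKQ₁ hfix1 hfix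
    have h1' : sigmaCore H ≤ centralizer (Q₁ : Set G) := le_centralizer_iff.1 h1
    have hQ₁p : IsPGroup q Q₁ := hQ.to_le hQ₁Q
    have hqQ₁ : q ∣ Nat.card Q₁ := by
      obtain ⟨n, hn⟩ := IsPGroup.iff_card.1 hQ₁p
      rw [hn]
      apply dvd_pow_self
      rintro rfl
      rw [pow_zero, Subgroup.card_eq_one] at hn
      exact hne hn
    obtain ⟨y, hy, hyo⟩ := exists_elt_of_dvd hqQ₁
    have hy1 := orderOf_ne hq hyo
    have hqH : q ∣ Nat.card H := hqQ₁.trans (card_dvd_of_le hQ₁H)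
    have hqσ : q ∉ sigma H := (hEσ.mono (hQ₁Q.trans hQE)) q hq hqQ₁
    rcases tau_cases hG hH hq hqH hqσ with h2 | ⟨h2, -⟩
    · obtain ⟨D, hDE, hD, hDc⟩ := exists_ea_compl hG hH hEH h2
      obtain ⟨A₀, hExc⟩ := exists_exc hG hH hqσ (hDE.trans hEH.1) hD hDc
      have hyD : zpowers y ≤ D := thm126a hG hExc hEH hDE ((zpowers_le.2 hy).trans (hQ₁Q.trans hQE)) (fun x hx => by
        refine orderOf_dvd_iff_pow_eq_one.1 ?_
        rw [← hyo]; exact orderOf_dvd_of_mem_zpowers hx)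
      refine lemX hG hC hpr hU hH hKE hEH h2 hDE hD hDc hfix (X := Q₁ ⊓ D) inf_le_right ?_
        (le_normalizer_inf hKQ₁ (hKE.trans (exc_compl_le hG hExc hEH hDE))) ?_
      · intro hb
        have : y ∈ Q₁ ⊓ D := mem_inf.2 ⟨hy, zpowers_le.1 hyD⟩
        rw [hb] at this
        exact hy1 (mem_bot.1 this)
      · rw [eq_bot_iff, ← hfix1]
        exact inf_le_inf_right _ inf_le_left
    · have h3 := free_of_not_kappa hG hqσ h2 (by rw [hκ]; exact Set.notMem_empty _) (X := zpowers y) (zpowers_le.2 (hQ₁H hy))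
        (by rw [Nat.card_zpowers, hyo])
      rw [inf_eq_left.2 (h1'.trans (centralizer_le (SetLike.coe_subset_coe.2 (zpowers_le.2 hy))))] at h3
      exact hsH h3
  -- the Sylow subgroup
  obtain ⟨P, hKP, hP⟩ := H12.Hall.exists_hall_ge hEs (π := {Nat.card K}) (X := K) (by
    intro p hp hd
    exact Set.mem_singleton_iff.2 ((Nat.prime_dvd_prime_iff_eq hp hKp).1 hd)) hKE
  have hPp : IsPGroup (Nat.card K) P := by
    rw [H12.Core.isPGroup_iff_piNum hKp]
    exact H12.Hall.pi hP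
  have hPc : IsCyclic P := cyclic_sylow hG hPp (H12.SCN.pRankLE_mono (hP.1.trans hEH.1) hr1)
  have hPK : P ≤ centralizer (K : Set G) := by
    have h1 : P ≤ centralizer (P : Set G) := by
      haveI := hPc
      haveI : IsMulCommutative P := ⟨⟨fun a b => (IsCyclic.commGroup (α := P)).mul_comm a b⟩⟩
      exact le_centralizer P
    exact h1.trans (centralizer_le (SetLike.coe_subset_coe.2 hKP))
  have hsup : P ⊔ W = EH := H12.Hall.sup_eq hW (by rw [compl_compl]; exact hP) hEW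
  rw [← hsup]
  exact sup_le hPK (le_centralizer_iff.1 hKW)

theorem compl_data (hG : IsMinSimpleOddOrder G) (hC : Con13 G) {M K E U M' K' E' U' : Subgroup G} (hpr : PR M K E U M' K' E' U') (hU : U ≠ ⊥)
    {r : ℕ} {H : Subgroup G} (sd : SD M K E H r) : K ≤ fittingOf (H ⊓ M') ∧ IsComplIn (H ⊓ M') (sigmaCore H) H := by
  have h := hpr.h
  have hH := sd.co
  have hM' := hpr.h'.co
  have hKp : (Nat.card K).Prime := (h.g hG hU).2.1
  haveI := Fact.mk hKp
  have hKH : K ≤ H := h.hKE.trans sd.EH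
  have hst' : K ≤ st M' K' := by rw [hpr.e']
  have hCK : centralizer (K : Set G) ≤ M' := (hpr.h'.c hC hst' hKp).1
  have hNK : normalizer (K : Set G) ≤ M' := hpr.h'.norm_le_M hG hC hst' h.ne
  have hK' : K ≤ sigmaCore M' := hst'.trans inf_le_left
  have hpM' : Nat.card K ∈ sigma M' := hpr.K_sigma _ hKp dvd_rfl
  obtain ⟨EH, hKE, hEH⟩ := exists_E hG hH hKH (sigmaC_prime hKp sd.pσ)
  have hEσ := compl_sigmaC hG hH hEH
  have key : EH ≤ M' ∧ K ≤ fittingOf EH := by
    rcases tau_cases hG hH hKp (card_dvd_of_le hKH) sd.pσ with hτ | ⟨hr1, hτ | hτ⟩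
    · obtain ⟨B, hBE, hB, hBc⟩ := exists_ea_compl hG hH hEH hτ
      obtain ⟨A₀, hExc⟩ := exists_exc hG hH sd.pσ (hBE.trans hEH.1) hB hBc
      have hKB : K ≤ B := thm126a hG hExc hEH hBE hKE (fun x hx =>
        orderOf_dvd_iff_pow_eq_one.1 (Subgroup.orderOf_dvd_natCard _ hx))
      have hEB := exc_compl_le hG hExc hEH hBE
      have hBM' : B ≤ M' := (ea_le_cent hB hKB).trans hCK
      have hBnc : ¬ IsCyclic B := by
        intro hc
        have h1 := pRankLE_of_cyclic (q := Nat.card K) hc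
        have h2 := h1 ⊤ ⟨⟨fun a b => Subtype.ext (Subtype.ext (ea_comm hB _ a.1.2 _ b.1.2))⟩⟩
          (fun a _ => Subtype.ext (hB.2 _ a.2))
        rw [Subgroup.card_top, hBc, pow_one] at h2
        have h3 := Nat.pow_lt_pow_right hKp.one_lt (show 1 < 2 by norm_num)
        rw [pow_one] at h3
        omega
      refine ⟨hEB.trans (thm1210d hG hM' hpM' (ea_isPGroup hB) hBM' hBnc), hKB.trans ?_⟩
      exact H12.Core.le_fittingOf hBE hEB (H12.Core.isNilpotent_of_isPGroup (ea_isPGroup hB))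
    · have h1 := tau1_case hG hC hpr hU hH sd.kap hKE hEH sd.fix hr1 hτ
      refine ⟨h1.trans hCK, ?_⟩
      exact H12.Core.le_fittingOf hKE (h1.trans (centralizer_le_normalizer _)) (H12.Core.isNilpotent_of_isPGroup (isPGroup_of_prime rfl))
    · obtain ⟨E₃, hE₃⟩ := H12.Hall.exists_hall (solv_le hG hH hEH.1) (tau3 H)
      obtain ⟨hcyc, -, hn⟩ := tau3_cyclic hG hH hEH hE₃
      have hKE₃ : K ≤ E₃ := by
        obtain ⟨l, hl, hle⟩ := H12.Hall.hall_dom (solv_le hG hH hEH.1) hE₃ (X := K) (by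
          intro p hp hd
          rw [(Nat.prime_dvd_prime_iff_eq hp hKp).1 hd]; exact hτ) hKE
        rw [cj_le_iff, cj_eq_of_mem_normalizer (inv_mem (hn hl))] at hle
        exact hle
      have h1 : EH ≤ normalizer (K : Set G) := by
        intro e he
        rw [mem_normalizer_iff_cj]
        have h2 : cj e K ≤ E₃ := by
          have := cj_mono (g := e) hKE₃
          rwa [cj_eq_of_mem_normalizer (hn he)] at this
        exact H12.Core.cyclic_eq_of_card_eq' hcyc h2 hKE₃ (card_cj e K)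
      exact ⟨h1.trans hNK, H12.Core.le_fittingOf hKE h1 (H12.Core.isNilpotent_of_isPGroup (isPGroup_of_prime rfl))⟩
  have hnc : ∀ g : G, H ≠ cj g M' := by
    rintro g he
    apply sd.pσ
    rw [he, sigma_cj]; exact hpM'
  have hσσ : sigmaCore M' ⊓ sigmaCore H = ⊥ :=
    H12.Hall.inf_eq_bot (π := sigma M') (sigmaCore_pi M') (fun p hp hd h6 => hC.h139 M' H hM' hH hnc p h6 (sigmaCore_pi H p hp hd))
  have hMσ : M' ⊓ sigmaCore H = ⊥ := by
    rw [eq_bot_iff, ← sd.fix]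
    refine le_inf inf_le_right ?_
    rw [← commutator_eq_bot_iff_le_centralizer, eq_bot_iff, ← hσσ]
    refine le_inf ?_ ?_
    · exact (commutator_mono inf_le_left hK').trans (le_normalizer_iff_commutator_le_right.1 (le_normalizer_sigmaCore M'))
    · exact (commutator_mono inf_le_right hKH).trans (le_normalizer_iff_commutator_le_left.1 (le_normalizer_sigmaCore H))
  have heq : H ⊓ M' = EH := by
    apply le_antisymm
    · intro m hm
      obtain ⟨e, he, s, hs, rfl⟩ := hEH.2.2.2 m (mem_inf.1 hm).1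
      have h1 : s ∈ M' ⊓ sigmaCore H := mem_inf.2 ⟨by
        have := mul_mem (inv_mem (key.1 he)) (mem_inf.1 hm).2
        simpa using this, hs⟩
      rw [hMσ, mem_bot] at h1
      rw [h1, mul_one]; exact he
    · exact le_inf hEH.1 key.1
  rw [heq]
  exact ⟨key.2, hEH⟩

theorem s1435 (hG : Cfsg.IsMinSimpleOddOrder G) (hC : Con13 G)
    (M : Subgroup G) (hM : IsCoatom M) (K U : Subgroup G) (hKU : Cfsg.IsSigmaDecomposition M K U) (hK1 : K ≠ ⊥) (hU1 : U ≠ ⊥) (Mstar : Subgroup G) (hMstar : IsCoatom Mstar)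
    (hKst : K = Cfsg.sigmaCore Mstar ⊓ Subgroup.centralizer ((Cfsg.sigmaCore M ⊓ Subgroup.centralizer (K : Set G)) : Set G))
    (hKstH : Cfsg.IsPiHallOf (Cfsg.kappa Mstar) (Cfsg.sigmaCore M ⊓ Subgroup.centralizer (K : Set G)) Mstar)
    (r : ℕ) [Fact r.Prime] (hr : r ∣ Nat.card U) (R : Sylow r U) (H : Subgroup G) (hH : IsCoatom H)
    (hNR : Subgroup.normalizer (((R : Subgroup U).map U.subtype : Subgroup G) : Set G) ≤ H) :
    Cfsg.kappa H = ∅ ∧ U ≤ Cfsg.sigmaCore H ∧ M ⊓ H = U ⊔ K ∧ ¬ H ⊓ Subgroup.normalizer (U : Set G) ≤ M ∧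
      K ≤ Cfsg.fittingOf (H ⊓ Mstar) ∧ Cfsg.IsComplIn (H ⊓ Mstar) (Cfsg.sigmaCore H) H := by
  obtain ⟨E', U', hpr⟩ := PR_of hG hC hM hKU hK1 hMstar hKst hKstH
  have hR := isSylIn_map_subtype R
  have sd := exists_SD hG hC hpr hU1 (Fact.out : r.Prime) hr hR hH hNR
  have h1 := U_le_sigma hG hC hpr hU1 (Fact.out : r.Prime) hr hR hH hNR
  obtain ⟨h2, h3⟩ := compl_data hG hC hpr hU1 sd
  exact ⟨sd.kap, h1, sd.eq, not_norm_le hG hpr hU1 sd h1, h2, h3⟩

theorem s1363 (hG : Cfsg.IsMinSimpleOddOrder G) (hC : Con13 G)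
    (M : Subgroup G) (hM : IsCoatom M) (K U : Subgroup G) (hKU : Cfsg.IsSigmaDecomposition M K U) (hK1 : K ≠ ⊥) :
    IsMulCommutative U ∧ ¬ Subgroup.normalizer (U : Set G) ≤ M := by
  have hks := KS_of_decomp hG hC hM hKU hK1
  refine ⟨hks.comm, ?_⟩
  by_cases hU : U = ⊥
  · intro hle
    apply hM.1
    rw [eq_top_iff]
    refine le_trans ?_ hle
    intro g _
    rw [mem_normalizer_iff_cj, hU, cj_bot]
  · obtain ⟨M', E', U', hpr⟩ := hks.exists_PR' hG hC
    obtain ⟨r, hr, x, hx, hxo, hrU⟩ := exists_prime_elt hU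
    haveI := Fact.mk hr
    obtain ⟨R, hR⟩ := exists_isSylIn (p := r) U
    obtain ⟨u, hu, huo⟩ := sylow_ne_bot hr hR hrU
    have hRb : R ≠ ⊥ := by
      rintro rfl
      exact orderOf_ne hr huo (mem_bot.1 hu)
    obtain ⟨H, hH, hN⟩ := exists_isCoatom_ge (normalizer_ne_top hG hRb (ne_top_of_isPGroup hG hR.isPGroup))
    have sd := exists_SD hG hC hpr hU hr hrU hR hH hN
    have h1 := U_le_sigma hG hC hpr hU hr hrU hR hH hN
    intro hle
    exact not_norm_le hG hpr hU sd h1 (inf_le_right.trans hle)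

end Cfsg.Agent.H2.BG14
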