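import Mathlib
import Cfsg.Agent.H2_BG14t
import Cfsg.Agent.H12_BG15e
import Cfsg.Agent.H12_CN5

/-! BG 15.9: row S1376 -/

set_option autoImplicit false
set_option linter.unusedSectionVars false

open Pointwise
open scoped commutatorElement

namespace Cfsg.Agent.H2.BG14

open Cfsg Subgroup H13.Syl H12.Loc H12.BG7 H12.BG10 H12.BG11 H12.BG12 H2.Con13

universe u

variable {G : Type u} [Group G] [Finite G]

theorem pSigmaCore {M : Subgroup G} {X : Subgroup G} {p : ℕ} (hp : p.Prime) (hX : Nat.card X = p) (hσ : p ∉ sigma M) : SigmaC M X := by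
  intro q hq hd
  rw [hX] at hd
  rw [(Nat.prime_dvd_prime_iff_eq hq hp).1 hd]; exact hσ

/-- the set-up of 15.9 -/
structure SU (M N L K U K' E' U' : Subgroup G) (r : ℕ) : Prop where
  pr : PR N K (M ⊓ N) U L K' E' U'
  U1 : U ≠ ⊥
  sd : SD N K (M ⊓ N) M r
  Uσ : U ≤ sigmaCore M
  KF : K ≤ fittingOf (M ⊓ L)
  hF : IsComplIn (M ⊓ L) (sigmaCore M) M
  rM : r ∈ sigma M
  rβ : r ∉ beta M
  rp : r.Prime

theorem exists_SU (hG : IsMinSimpleOddOrder G) {M : Subgroup G} (hM : IsCoatom M) {x : G} (hx : x ∈ sigmaCore M)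
    (hx1 : x ≠ 1) {N : Subgroup G} (hN : ND M N x) (hκ : (kappa N).Nonempty) :
    ∃ L K U K' E' U' : Subgroup G, ∃ r : ℕ, SU M N L K U K' E' U' r := by
  have hC := H12.BG13.con13 hG
  have hcmp := hN.cmp
  have hEs : Group.IsSolvable ↥(M ⊓ N) := solv_le hG hM inf_le_left
  obtain ⟨K, hK⟩ := H12.Hall.exists_hall hEs (kappa N)
  have hsub : kappa N ⊆ (sigma N)ᶜ := fun p hp => (kappa_spec hG hp).2.2.1
  have hKN : IsPiHallOf (kappa N) K N := H12.Hall.trans (compl_hall hG hN.co hcmp) hsub hK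
  obtain ⟨p₀, hp₀⟩ := hκ
  have hKb : K ≠ ⊥ := by
    rintro rfl
    have h1 := kappa_empty hG hKN
    rw [h1] at hp₀
    exact hp₀
  obtain ⟨U, h⟩ := exists_KS hG hC hN.co hKN hKb hK.1 hcmp
  obtain ⟨L, E', U', hpr⟩ := h.exists_PR' hG hC
  obtain ⟨r, hr, hrd, y, hy, hyo⟩ := exists_prime_pow hx1
  haveI := Fact.mk hr
  have hrτ := hN.tau r hr hrd
  have hrσ : r ∈ sigma M := order_sigma hx hr hrd
  have hrN : r ∣ Nat.card N := tau2_dvd hrτ
  have hrκ : r ∉ kappa N := fun hh => H12.BG15.kappa_not_tau2 hG hh hrτ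
  have hrU : r ∣ Nat.card U := (H12.Hall.dvd_iff hr h.hUq ⟨hr, hrκ, hrτ.2.1⟩).2 hrN
  obtain ⟨u, hu, huo⟩ := exists_elt_of_dvd hrU
  have hU1 : U ≠ ⊥ := by
    rintro rfl
    exact orderOf_ne hr huo (mem_bot.1 hu)
  obtain ⟨R, hR⟩ := exists_isSylIn (p := r) U
  have hRN : IsSylIn r R N := H12.Hall.sylow_trans h.hUq ⟨hr, hrκ, hrτ.2.1⟩ hR
  have hRM : R ≤ M := (hR.le.trans h.hUE).trans inf_le_left
  have hRc : ¬ IsCyclic R := by
    intro hc
    apply hrτ.2.2.2
    refine pRankLE_of_isSylIn hRN ?_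
    exact pRankLE_of_cyclic hc
  have hNR : normalizer (R : Set G) ≤ M := thm1210d hG hM hrσ hR.isPGroup hRM hRc
  have sd := exists_SD hG hC hpr hU1 hr hrU hR hM hNR
  obtain ⟨h1, h2⟩ := compl_data hG hC hpr hU1 sd
  exact ⟨L, K, U, _, E', U', r, hpr, hU1, sd, U_le_sigma hG hC hpr hU1 hr hrU hR hM hNR, h1, h2, hrσ,
    fun hb => not_ideal_of_tau2 hG hN.co hrτ hb.2, hr⟩

theorem comm_of_sylow {q : ℕ} [Fact q.Prime] {S T : Subgroup G} (hS : IsSylIn q S ⊤) (hSab : IsMulCommutative S) (hT : IsPGroup q T) :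
    IsMulCommutative T := by
  obtain ⟨x, -, hx⟩ := hS.exists_conj_le hT le_top
  refine ⟨⟨fun a b => Subtype.ext ?_⟩⟩
  have ha := hx (conj_mem_cj (g := x) a.2)
  have hb := hx (conj_mem_cj (g := x) b.2)
  have h1 := congrArg Subtype.val (hSab.is_comm.comm (⟨_, ha⟩ : S) ⟨_, hb⟩)
  have h2 : x * (a : G) * x⁻¹ * (x * b * x⁻¹) = x * b * x⁻¹ * (x * a * x⁻¹) := h1
  have h3 : x * ((a : G) * b) * x⁻¹ = x * ((b : G) * a) * x⁻¹ := by
    calc x * ((a : G) * b) * x⁻¹ = x * (a : G) * x⁻¹ * (x * b * x⁻¹) := by group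
      _ = x * b * x⁻¹ * (x * a * x⁻¹) := h2
      _ = _ := by group
  have h4 := mul_right_cancel h3
  exact mul_left_cancel h4

theorem pgroup_commutator_bot {T : Subgroup G} (h : IsMulCommutative T) : ⁅T, T⁆ = ⊥ := by
  haveI := h
  exact commutator_eq_bot_iff_le_centralizer.2 (le_centralizer T)

theorem ns_case (hG : IsMinSimpleOddOrder G) {M F D A₀ L K' Q Dc K : Subgroup G} {q p : ℕ} [hq : Fact q.Prime] (hL : IsCoatom L)
    (hExc : Exc M q D A₀) (hF : IsComplIn F (sigmaCore M) M) (hDF : D ≤ F) (hDL : D ≤ sigmaCore L)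
    (hDp : IsPGroup q D) (hqp : q ≠ p) (ns : H12.BG15.NS L K' Q Dc p) (hst : st L K' = K)
    (hDK : D ≤ centralizer (K : Set G)) (hab : ∀ T : Subgroup G, IsPGroup q T → IsMulCommutative T) :
    Q ≤ centralizer (D : Set G) := by
  haveI : Fact p.Prime := ⟨ns.qp⟩
  have hLs : Group.IsSolvable (sigmaCore L) := solv_le hG hL (sigmaCore_le L)
  obtain ⟨k, hk⟩ := IsPGroup.iff_card.1 hDp
  obtain ⟨m, hm, hmD⟩ := H12.Hall.hall_dom hLs ns.HD (X := D) (by
    intro s hs hsd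
    rw [hk] at hsd
    have h1 := (Nat.prime_dvd_prime_iff_eq hs hq.out).1 (hs.dvd_of_dvd_pow hsd)
    rw [h1]
    simpa using hqp) hDL
  have hmL : m ∈ L := sigmaCore_le L hm
  set D₁ := cj m D with hD₁
  have hD₁p : IsPGroup q D₁ := by
    refine IsPGroup.of_card (n := k) ?_
    rw [hD₁, card_cj, hk]
  obtain ⟨T, hDT, hT⟩ := exists_isSylIn_ge hD₁p hmD
  have hTab := hab T hT.isPGroup
  have hnT : normalizer (Dc : Set G) ≤ normalizer (T : Set G) :=
    normal_of_nilpotent_sylow le_normalizer le_rfl ns.Dn hT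
  have key : ∀ y ∈ T, y ^ q = 1 → y ∈ D₁ := by
    intro y hy hyq
    have h1 : y ∈ centralizer (D₁ : Set G) := by
      rw [mem_centralizer_iff]
      intro d hd
      exact congrArg Subtype.val (hTab.is_comm.comm (⟨d, hDT hd⟩ : T) ⟨y, hy⟩)
    have h2 : m⁻¹ * y * m⁻¹⁻¹ ∈ cj m⁻¹ (centralizer (D₁ : Set G)) := conj_mem_cj h1
    rw [cj_centralizer, hD₁, cj_inv_cj] at h2
    have h3 := (thm126b hG hExc hF hDF).1 h2
    have h4 : zpowers (m⁻¹ * y * m⁻¹⁻¹) ≤ D := by
      refine thm126a hG hExc hF hDF (zpowers_le.2 h3) ?_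
      intro z hz
      refine orderOf_dvd_iff_pow_eq_one.1 ((orderOf_dvd_of_mem_zpowers hz).trans ?_)
      rw [orderOf_conj]
      exact orderOf_dvd_of_pow_eq_one hyq
    have h5 := conj_mem_cj (g := m) (h4 (mem_zpowers _))
    have h6 : m * (m⁻¹ * y * m⁻¹⁻¹) * m⁻¹ = y := by group
    rwa [h6] at h5
  have hD₁q : ∀ y ∈ D₁, y ^ q = 1 := by
    intro y hy
    have h1 := conj_mem_cj (g := m⁻¹) hy
    rw [hD₁, cj_inv_cj] at h1
    have h2 := (hExc.e2.1).2 _ h1
    rw [conj_pow] at h2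
    exact conj_eq_one_iff.1 h2
  have hnD₁ : normalizer (T : Set G) ≤ normalizer (D₁ : Set G) := by
    intro n hn
    rw [mem_normalizer_iff_cj]
    have h1 : cj n D₁ ≤ D₁ := by
      intro y hy
      have hyT : y ∈ T := by
        have h2 := cj_mono (g := n) hDT hy
        rwa [cj_eq_of_mem_normalizer hn] at h2
      refine key y hyT ?_
      have h3 := conj_mem_cj (g := n⁻¹) hy
      rw [cj_inv_cj] at h3
      have h4 := hD₁q _ h3
      rw [conj_pow] at h4
      exact conj_eq_one_iff.1 h4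
    exact Subgroup.eq_of_le_of_card_ge h1 (card_cj n D₁).ge
  have hqdk := ns.qdk
  have hDcN : Dc ≤ normalizer (D₁ : Set G) := (le_normalizer.trans hnT).trans hnD₁
  have hK'N : K' ≤ normalizer (D₁ : Set G) := (ns.KD.trans hnT).trans hnD₁
  have hirr := hqdk.irr (N := Q ⊓ centralizer (D₁ : Set G)) (inf_le_inf_left _ (centralizer_le (SetLike.coe_subset_coe.2 hmD))) inf_le_left
    (H22.Basic.le_normalizer_inf hqdk.DQ (H22.Basic.le_normalizer_centralizer hDcN))
    (H22.Basic.le_normalizer_inf hqdk.KQ (H22.Basic.le_normalizer_centralizer hK'N))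
  rcases hirr with h1 | h1
  · exfalso
    have hKQ : K ≤ Q := by
      have hKc : Nat.card K = p := (congrArg (fun X : Subgroup G => Nat.card X) hst).symm.trans ns.st
      have hKp : IsPGroup p K := isPGroup_of_prime hKc
      have hKL : K ≤ sigmaCore L := by rw [← hst]; exact inf_le_left
      obtain ⟨T', hKT', hT'⟩ := exists_isSylIn_ge hKp hKL
      have h2 := H12.Hall.eq_of_normal ns.QHall ((sigmaCore_le L).trans ns.MQ) (H12.CN.hall_of_isSylIn hT')
      rwa [h2] at hKT'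
    have hKC : K ≤ centralizer (D : Set G) := le_centralizer_iff.1 hDK
    have h2 : cj m K ≤ Q ⊓ centralizer (D₁ : Set G) := by
      refine le_inf ?_ ?_
      · have h3 := cj_mono (g := m) hKQ
        rwa [cj_eq_of_mem_normalizer (ns.MQ hmL)] at h3
      · have h3 := cj_mono (g := m) hKC
        rwa [cj_centralizer] at h3
    rw [h1, cj_le_iff, cj_eq_of_mem_normalizer (inv_mem (ns.MQ0 hmL))] at h2
    apply hqdk.nc
    refine H12.BG13.frob_trivial' (M := Q) (K := Dc) (R := K') (solv_le hG hL ns.QM) hqdk.DQ hqdk.KQ ns.KD hqdk.cD hqdk.cK hqdk.frob ?_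
    refine le_trans ?_ (h2.trans inf_le_right)
    rw [← hst]
    exact inf_le_inf_right _ ns.Qσ
  · have h2 : Q ≤ centralizer (D₁ : Set G) := by rw [← h1]; exact inf_le_right
    have h3 := cj_mono (g := m⁻¹) h2
    rwa [cj_eq_of_mem_normalizer (inv_mem (ns.MQ hmL)), cj_centralizer, hD₁, cj_inv_cj] at h3

theorem SU.tau2 (hG : IsMinSimpleOddOrder G) {M N L K U K' E' U' : Subgroup G} {r : ℕ} (su : SU M N L K U K' E' U' r)
    {x : G} (hx : x ∈ sigmaCore M) (hxN : centralizer ({x} : Set G) ≤ N) : tau2 M = ∅ := by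
  have hC := H12.BG13.con13 hG
  have hM := su.sd.co
  have hL := su.pr.h'.co
  have h := su.pr.h
  have h' := su.pr.h'
  have hKp : (Nat.card K).Prime := (h.g hG su.U1).2.1
  haveI := Fact.mk hKp
  have hst : st L K' = K := su.pr.e'
  have hKL : K ≤ sigmaCore L := by rw [← hst]; exact inf_le_left
  have hML : M ≠ L := by rintro rfl; exact su.sd.pσ (su.pr.K_sigma _ hKp dvd_rfl)
  rw [Set.eq_empty_iff_forall_notMem]
  intro q hq
  haveI : Fact q.Prime := ⟨hq.1⟩
  obtain ⟨D, hDF, hD, hDc⟩ := exists_ea_compl hG hM su.hF hq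
  obtain ⟨A₀, hExc⟩ := exists_exc hG hM hq.2.1 (hDF.trans su.hF.1) hD hDc
  have hFσ := compl_sigmaC hG hM su.hF
  have hFD := exc_compl_le hG hExc su.hF hDF
  have hKF : K ≤ M ⊓ L := su.KF.trans (H12.Core.fittingOf_le _)
  have hDp := ea_isPGroup hD
  have hDfit : D ≤ fittingOf (M ⊓ L) := H12.Core.le_fittingOf hDF hFD (H12.Core.isNilpotent_of_isPGroup hDp)
  have hDK : D ≤ centralizer (K : Set G) := by
    by_cases hqp : q = Nat.card K
    · refine ea_le_cent hD (thm126a hG hExc su.hF hDF hKF ?_)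
      intro y hy
      rw [hqp]
      exact orderOf_dvd_iff_pow_eq_one.1 (Subgroup.orderOf_dvd_natCard _ hy)
    · rw [le_centralizer_iff]
      refine H12.Core.commutator_eq_bot_of_nilpotent_coprime (H12.Core.fittingOf_isNilpotent (M ⊓ L)) hDfit su.KF (hKF.trans hFD) ?_
      rw [hDc]
      exact Nat.Coprime.pow_right _ ((Nat.coprime_primes hKp hq.1).2 (Ne.symm hqp))
  have hqL : q ∈ sigma L := by
    by_contra hqL
    obtain ⟨A₂, hExc₂⟩ := exists_exc hG hL hqL (hDF.trans inf_le_right) hD hDc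
    have h1 := thm125e hG hExc₂ hM hML (hDF.trans inf_le_left)
    have h2 : K ≤ sigmaCore L ⊓ M := le_inf hKL (hKF.trans inf_le_left)
    rw [h1, le_bot_iff] at h2
    exact h.ne h2
  have hKne : ∀ X : Subgroup G, Nat.card X = q → sigmaCore M ≤ centralizer (X : Set G) → X ≤ M ⊓ N → False := by
    intro X hX hXM hXE
    have hqU : ¬ q ∣ Nat.card U := fun hd => hq.2.1 (sigmaCore_pi M q hq.1 (hd.trans (card_dvd_of_le su.Uσ)))
    have hcard := H12.Core.IsComplIn_card h.hU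
    have hqE : q ∣ Nat.card ↥(M ⊓ N) := by
      have := card_dvd_of_le hXE
      rwa [hX] at this
    rw [← hcard] at hqE
    have hqK : q ∣ Nat.card K := (hq.1.dvd_mul.1 hqE).resolve_right hqU
    have hqK' : q = Nat.card K := (Nat.prime_dvd_prime_iff_eq hq.1 hKp).1 hqK
    have hKs : IsSylIn q K (M ⊓ N) := by
      refine ⟨h.hKE, isPGroup_of_prime hqK'.symm, ?_⟩
      intro hd
      have h1 := H12.Hall.relIndex_mul h.hKE
      rw [← hcard, mul_comm] at h1
      have h2 := Nat.eq_of_mul_eq_mul_left (Nat.card_pos) h1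
      rw [h2] at hd
      exact hqU hd
    obtain ⟨e, he, heX⟩ := hKs.exists_conj_le (isPGroup_of_prime hX) hXE
    have h1 : cj e X = K := Subgroup.eq_of_le_of_card_ge heX (by rw [card_cj, hX, hqK'])
    have h2 := cj_mono (g := e) hXM
    rw [cj_centralizer, h1, cj_eq_of_mem_normalizer (le_normalizer_sigmaCore M (mem_inf.1 he).1)] at h2
    have h3 := su.sd.fix
    rw [inf_eq_left.2 h2] at h3
    exact sigmaCore_ne_bot hG hM h3
  by_cases hn : ∀ S : Subgroup G, IsSylIn q S ⊤ → ¬ IsMulCommutative S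
  · obtain ⟨h1, -, -, -⟩ := thm127 hG hExc hq su.hF hDF hn
    refine hKne _ h1 (le_centralizer_iff.1 inf_le_right) ?_
    exact le_inf ((inf_le_left.trans hDF).trans inf_le_left)
      ((inf_le_right.trans (centralizer_le (Set.singleton_subset_iff.2 hx))).trans hxN)
  push Not at hn
  obtain ⟨S, hS, hSab⟩ := hn
  have hab : ∀ T : Subgroup G, IsPGroup q T → IsMulCommutative T := fun T hT => comm_of_sylow hS hSab hT
  by_cases hqp : q = Nat.card K
  · have hβ : q ∉ beta L := fun hb => not_ideal_of_tau2 hG hM hq hb.2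
    have hU' : U' = ⊥ := by
      by_contra hU'
      exact hβ ((h'.g hG hU').1 q hqL)
    have hE' : E' = K' := by
      have := h'.hU
      rw [hU'] at this
      exact H12.BG15.E_eq_of_bot this
    obtain ⟨-, h1⟩ := thm1217a hG hL h'.hE
    have h2 : K ≤ ⁅sigmaCore L, sigmaCore L⁆ := by
      refine le_trans ?_ h1
      rw [← hst, hE']
    have hnpc : HasNormalPComplement q (sigmaCore L) := npc_sub (sigmaCore_le_commutator hG hL) (npc_commutator hG hL hβ)
    have hKq : IsPGroup q K := isPGroup_of_prime hqp.symm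
    obtain ⟨T, hKT, hT⟩ := exists_isSylIn_ge hKq hKL
    have h3 : K ≤ ⁅T, T⁆ := (le_inf hKT h2).trans (npc_inf hnpc hT)
    rw [pgroup_commutator_bot (hab T hT.isPGroup), le_bot_iff] at h3
    exact h.ne h3
  · have hDσ : D ≤ sigmaCore L := le_sigmaCore_of_pgroup hG hL hDp (hDF.trans inf_le_right) hqL
    have hfin : ∀ T : Subgroup G, IsSylIn (Nat.card K) T (sigmaCore L) → T ≤ centralizer (D : Set G) → False := by
      intro T hT hTD
      have h1 := h'.e1 hC hKp (by rw [hst]) hT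
      exact hML (h1.2 M hM (hTD.trans hExc.cent))
    by_cases hnil : Group.IsNilpotent (sigmaCore L)
    · obtain ⟨T, hT⟩ := exists_isSylIn (p := Nat.card K) (sigmaCore L)
      refine hfin T hT ?_
      have hTn := normal_of_nilpotent_sylow (sigmaCore_le L) (le_normalizer_sigmaCore L) hnil hT
      rw [le_centralizer_iff]
      refine H12.Core.commutator_eq_bot_of_nilpotent_coprime hnil hT.le hDσ ((hDF.trans inf_le_right).trans hTn) ?_
      obtain ⟨k, hk⟩ := IsPGroup.iff_card.1 hT.isPGroup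
      rw [hDc, hk]
      exact Nat.Coprime.pow _ _ ((Nat.coprime_primes hq.1 hKp).2 hqp)
    · obtain ⟨-, p', Q, Dc, ns⟩ := H12.BG15.thm152 hG h' hnil
      have hp' : p' = Nat.card K := by rw [← ns.st, ← hst]
      subst hp'
      exact hfin Q ns.SQ (ns_case hG hL hExc su.hF hDF hDσ hDp hqp ns hst hDK hab)

theorem cyclic_of_ab (hG : IsMinSimpleOddOrder G) {E : Subgroup G} (hE : IsMulCommutative E) (h : ∀ p : ℕ, p.Prime → PRankLE p 1 E) :
    IsCyclic E := by
  refine H12.CN.cyclic_of_nilpotent (nilp_of_comm hE) ?_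
  intro p hp S hS
  haveI := Fact.mk hp
  exact cyclic_sylow hG hS.isPGroup (H12.SCN.pRankLE_mono hS.le (h p hp))

/-- semiregular action of a complement -/
theorem frob_inter {M E N : Subgroup G} (hE : IsComplIn E N M) (hn : M ≤ normalizer (N : Set G))
    (hfree : ∀ e ∈ E, e ≠ 1 → N ⊓ centralizer ({e} : Set G) = ⊥) {g : G} (hg : g ∈ M) (hgE : g ∉ E) : E ⊓ cj g E = ⊥ := by
  rw [eq_bot_iff]
  intro y hy
  rw [mem_bot]
  by_contra hy1
  obtain ⟨hy1', hy2⟩ := mem_inf.1 hy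
  have h1 : g⁻¹ * y * g ∈ E := by
    rw [mem_cj] at hy2
    exact hy2
  have hne : g⁻¹ * y * g ≠ 1 := by
    intro h
    apply hy1
    have := congrArg (fun z => g * z * g⁻¹) h
    simpa [mul_assoc] using this
  obtain ⟨e, he, c, hc, hgc⟩ := fus hE hn (X := zpowers (g⁻¹ * y * g)) (zpowers_le.2 h1) hg (by
    intro z hz
    obtain ⟨w, hw, rfl⟩ := hz
    obtain ⟨k, rfl⟩ := mem_zpowers_iff.1 hw
    have h3 : (MulAut.conj g).toMonoidHom ((g⁻¹ * y * g) ^ k) = y ^ k := by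
      rw [map_zpow]
      congr 1
      simp [mul_assoc]
    rw [h3]
    exact zpow_mem hy1' k)
  have h2 : c ∈ N ⊓ centralizer ({g⁻¹ * y * g} : Set G) :=
    mem_inf.2 ⟨(mem_inf.1 hc).1, centralizer_le (Set.singleton_subset_iff.2 (mem_zpowers _)) (mem_inf.1 hc).2⟩
  rw [hfree _ h1 hne, mem_bot] at h2
  rw [h2, mul_one] at hgc
  exact hgE (hgc ▸ he)

theorem frob_compl {M E N : Subgroup G} (hE : IsComplIn E N M) (hn : M ≤ normalizer (N : Set G)) (hEb : E ≠ ⊥) (hNb : N ≠ ⊥)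
    (hfree : ∀ e ∈ E, e ≠ 1 → N ⊓ centralizer ({e} : Set G) = ⊥) : IsFrobeniusComplement (E.subgroupOf M) := by
  refine ⟨?_, ?_, ?_⟩
  · intro h
    rw [subgroupOf_eq_bot] at h
    apply hEb
    rw [← le_bot_iff]
    exact h.le_bot.trans' (le_inf le_rfl hE.1) |>.trans le_rfl
  · intro h
    rw [subgroupOf_eq_top] at h
    apply hNb
    have h1 : N ≤ E ⊓ N := le_inf (hE.2.1.trans h) le_rfl
    rwa [hE.2.2.1, le_bot_iff] at h1
  · intro g hg
    rw [mem_subgroupOf] at hg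
    have h1 := frob_inter hE hn hfree g.2 hg
    rw [eq_bot_iff]
    intro y hy
    obtain ⟨hy1, hy2⟩ := mem_inf.1 hy
    rw [Subgroup.mem_pointwise_smul_iff_inv_smul_mem] at hy2
    have h2 : (y : G) ∈ E ⊓ cj (g : G) E := by
      refine mem_inf.2 ⟨mem_subgroupOf.1 hy1, mem_cj.2 ?_⟩
      have h3 := mem_subgroupOf.1 hy2
      rw [← map_inv] at h3
      simpa [MulAut.smul_def] using h3
    rw [h1, mem_bot] at h2
    rw [mem_bot]
    exact Subtype.ext h2

theorem SU.s1376 (hG : IsMinSimpleOddOrder G) {M N L K U K' E' U' : Subgroup G} {r : ℕ} (su : SU M N L K U K' E' U' r)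
    {x : G} (hx : x ∈ sigmaCore M) (hx1 : x ≠ 1) (hxM : ¬ centralizer ({x} : Set G) ≤ M) (hxN : centralizer ({x} : Set G) ≤ N) :
    kappa M = ∅ ∧ (∃ E : Subgroup G, IsComplIn E (sigmaCore M) M ∧ IsCyclic E ∧ E ≠ ⊥ ∧
      ∀ e ∈ E, e ≠ 1 → sigmaCore M ⊓ centralizer ({e} : Set G) = ⊥) ∧ Group.IsNilpotent (sigmaCore M) ∧
      ¬ IsTISubset (fittingHallOf M : Set G) := by
  have hM := su.sd.co
  have hτ := su.tau2 hG hx hxN
  have hκ := su.sd.kap
  have hKp : (Nat.card K).Prime := (su.pr.h.g hG su.U1).2.1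
  haveI := Fact.mk hKp
  have hFσ := compl_sigmaC hG hM su.hF
  have hKF : K ≤ M ⊓ L := su.KF.trans (H12.Core.fittingOf_le _)
  have hKM : K ≤ M := hKF.trans inf_le_left
  obtain ⟨S, hS⟩ := exists_isSylIn (p := Nat.card K) M
  obtain ⟨A, -, -, -, -, -, -, hnil⟩ := thm141 hG hM (card_dvd_of_le hKM) su.sd.pσ (by rw [hκ]; exact Set.notMem_empty _) hS
  have hrank : ∀ p : ℕ, p.Prime → p ∣ Nat.card ↥(M ⊓ L) → p ∉ sigma M ∧ PRankLE p 1 M := by
    intro p hp hd
    have hσ := hFσ p hp hd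
    refine ⟨hσ, ?_⟩
    rcases tau_cases hG hM hp (hd.trans (card_dvd_of_le inf_le_left)) hσ with h1 | h1
    · rw [hτ] at h1; exact absurd h1 (Set.notMem_empty _)
    · exact h1.1
  have hfree : ∀ e ∈ M ⊓ L, e ≠ 1 → sigmaCore M ⊓ centralizer ({e} : Set G) = ⊥ := by
    intro e he he1
    obtain ⟨p, hp, hpe, y, hy, hyo⟩ := exists_prime_pow he1
    haveI := Fact.mk hp
    have hyF : y ∈ M ⊓ L := zpowers_le.2 he hy
    have hpF : p ∣ Nat.card ↥(M ⊓ L) := by
      rw [← hyo]; exact Subgroup.orderOf_dvd_natCard _ hyF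
    obtain ⟨h1, h2⟩ := hrank p hp hpF
    have h3 := free_of_not_kappa hG h1 h2 (by rw [hκ]; exact Set.notMem_empty _) (X := zpowers y) (zpowers_le.2 (mem_inf.1 hyF).1)
      (by rw [Nat.card_zpowers, hyo])
    rw [centralizer_zpowers] at h3
    rw [eq_bot_iff, ← h3]
    exact inf_le_inf_left _ (cent_zp_le hy)
  obtain ⟨H, hH, hHc⟩ := thm1219 hG hM su.hF
  have hrM : r ∣ Nat.card M := (sigma_spec su.rM).2.1
  have hrH : r ∣ Nat.card H := (H12.Hall.dvd_iff su.rp hH su.rβ).2 ((H12.Hall.dvd_iff su.rp (sigmaCore_hallOf hG hM) su.rM).2 hrM)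
  have hHb : H ≠ ⊥ := by
    rintro rfl
    rw [card_bot] at hrH
    exact su.rp.one_lt.ne' (Nat.dvd_one.1 hrH)
  have hcomm : ⁅M ⊓ L, M ⊓ L⁆ = ⊥ := by
    rw [eq_bot_iff]
    intro e he
    rw [mem_bot]
    by_contra he1
    have h1 := hfree e (comm_le_self _ he) he1
    apply hHb
    rw [eq_bot_iff, ← h1]
    refine le_inf hH.1 ?_
    have h2 : ⁅M ⊓ L, M ⊓ L⁆ ≤ centralizer (H : Set G) := hHc
    exact (le_centralizer_iff.1 h2).trans (centralizer_le (Set.singleton_subset_iff.2 he))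
  have hFab : IsMulCommutative ↥(M ⊓ L) := by
    rw [commutator_eq_bot_iff_le_centralizer] at hcomm
    refine ⟨⟨fun a b => Subtype.ext ?_⟩⟩
    exact (mem_centralizer_iff.1 (hcomm b.2) a a.2)
  have hFcyc : IsCyclic ↥(M ⊓ L) := by
    refine cyclic_of_ab hG hFab ?_
    intro p hp
    by_cases hd : p ∣ Nat.card ↥(M ⊓ L)
    · exact H12.SCN.pRankLE_mono inf_le_left (hrank p hp hd).2
    · exact pRankLE_of_not_dvd hp hd
  refine ⟨hκ, ⟨M ⊓ L, su.hF, hFcyc, ?_, hfree⟩, hnil, ?_⟩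
  · intro h
    rw [h, le_bot_iff] at hKF
    exact su.pr.h.ne hKF
  · intro hTI
    obtain ⟨g, hg, hgM⟩ := SetLike.not_le_iff_exists.1 hxM
    rw [← sigmaCore_eq_fittingHallOf hG hM hnil] at hTI
    have hgn : g ∉ normalizer (sigmaCore M : Set G) := by
      intro h
      rw [H12.Loc.normalizer_eq_of_isCoatom hG hM (sigmaCore_ne_bot hG hM) (le_normalizer_sigmaCore M) (sigmaCore_le M)] at h
      exact hgM h
    have h1 : g * x * g⁻¹ = x := by
      rw [mem_centralizer_singleton_iff] at hg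
      rw [hg]; group
    exact hx1 (hTI g hgn x hx (by rw [h1]; exact hx))

theorem s1376 (hG : Cfsg.IsMinSimpleOddOrder G)
    (M : Subgroup G) (hM : IsCoatom M) (x : G) (hx : x ∈ Cfsg.sigmaCore M) (hx1 : x ≠ 1) (hxM : ¬ Subgroup.centralizer ({x} : Set G) ≤ M)
    (N : Subgroup G) (hN : IsCoatom N) (hxN : Subgroup.centralizer ({x} : Set G) ≤ N) (hkN : (Cfsg.kappa N).Nonempty) :
    Cfsg.kappa M = ∅ ∧ (∃ E : Subgroup ↥M, Cfsg.IsFrobeniusComplement E ∧ IsCyclic E) ∧ ¬ Cfsg.IsTISubset (Cfsg.fittingHallOf M : Set G) := by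
  have hC := H12.BG13.con13 hG
  obtain ⟨N₀, hN₀⟩ := exists_ND hG hC hM hx hx1 hxM
  have e := hN₀.um.2 N hN hxN
  subst e
  obtain ⟨L, K, U, K', E', U', r, su⟩ := exists_SU hG hM hx hx1 hN₀ hkN
  obtain ⟨h1, ⟨E, hE, hEc, hEb, hfree⟩, -, h2⟩ := su.s1376 hG hx hx1 hxM hxN
  refine ⟨h1, ⟨E.subgroupOf M, frob_compl hE (le_normalizer_sigmaCore M) hEb (sigmaCore_ne_bot hG hM) hfree, ?_⟩, h2⟩
  exact isCyclic_of_injective (subgroupOfEquivOfLe hE.1).toMonoidHom (subgroupOfEquivOfLe hE.1).injective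

end Cfsg.Agent.H2.BG14
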