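import Mathlib
import Cfsg.Agent.H2_BG14u

/-! BG 15/B: rows S1361, S1362 -/

set_option autoImplicit false
set_option linter.unusedSectionVars false

open Pointwise
open scoped commutatorElement

namespace Cfsg.Agent.H2.BG14

open Cfsg Subgroup H13.Syl H12.Loc H12.BG7 H12.BG10 H12.BG11 H12.BG12 H2.Con13

universe u

variable {G : Type u} [Group G] [Finite G]

theorem exists_sylow_ab {p : ℕ} [Fact p.Prime] {A : Subgroup G} (hA : IsPGroup p A)
    (hn : ¬ ∀ S : Subgroup G, IsSylIn p S ⊤ → ¬ IsMulCommutative S) : ∃ S : Subgroup G, IsSylIn p S ⊤ ∧ A ≤ S ∧ IsMulCommutative S := by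
  push Not at hn
  obtain ⟨S, hS, hSab⟩ := hn
  obtain ⟨S', hS', hAS'⟩ := exists_sylow_top_ge hA
  exact ⟨S', hS', hAS', comm_of_sylow hS hSab hS'.isPGroup⟩

theorem tau2_nilp (hG : IsMinSimpleOddOrder G) {M E X : Subgroup G} (hM : IsCoatom M) (hE : IsComplIn E (sigmaCore M) M) (hXE : X ≤ E)
    (hX : ∀ q : ℕ, q.Prime → q ∣ Nat.card X → q ∈ tau2 M) : Group.IsNilpotent X := by
  by_cases hXb : X = ⊥
  · subst hXb
    infer_instance
  obtain ⟨p, hp, -, -, -, hpd⟩ := exists_prime_elt hXb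
  haveI := Fact.mk hp
  have hp2 := hX p hp hpd
  obtain ⟨A, hAE, hA, hAc⟩ := exists_ea_compl hG hM hE hp2
  obtain ⟨A₀, hExc⟩ := exists_exc hG hM hp2.2.1 (hAE.trans hE.1) hA hAc
  by_cases hn : ∀ S : Subgroup G, IsSylIn p S ⊤ → ¬ IsMulCommutative S
  · have h1 := tau2_eq_of_nonabelian hG hM hp2 hn
    have h2 : IsPGroup p X := (H12.Core.isPGroup_iff_piNum hp).2 (fun q hq hd => Set.mem_singleton_iff.2 (h1 q (hX q hq hd)))
    exact H12.Core.isNilpotent_of_isPGroup h2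
  · obtain ⟨S, hS, hAS, hSab⟩ := exists_sylow_ab (ea_isPGroup hA) hn
    exact H12.CN.nilpotent_of_le (tau2_le_fitting hG hExc hp2 hE hAE hS hAS hSab hXE hX) (H12.Core.fittingOf_isNilpotent E)

theorem u_primes (hG : IsMinSimpleOddOrder G) {M K U : Subgroup G} (hM : IsCoatom M) (hKU : IsSigmaDecomposition M K U) {p : ℕ} (hp : p.Prime)
    (hd : p ∣ Nat.card U) : p ∉ sigma M ∧ p ∉ kappa M := by
  refine ⟨?_, ?_⟩
  · exact compl_sigmaC hG hM (decomp_E hG hKU) p hp (hd.trans (card_dvd_of_le le_sup_left))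
  · exact (US_hall hG hKU).2.1 p hp (hd.trans (card_dvd_of_le le_sup_left))

/-- an element of `U` (or of `U ⊔ σ`, σ'-order) meeting `sigmaHat` is a τ₂-element -/
theorem hat_tau2 (hG : IsMinSimpleOddOrder G) {M : Subgroup G} (hM : IsCoatom M) {x y : G} (hxM : x ∈ M) (hx1 : x ≠ 1)
    (hp : ∀ p : ℕ, p.Prime → p ∣ orderOf x → p ∉ sigma M ∧ p ∉ kappa M) (hy : y ∈ sigmaCore M) (hy1 : y ≠ 1) (hxy : x * y = y * x) :
    (∀ p : ℕ, p.Prime → p ∣ orderOf x → p ∈ tau2 M) ∧ UMax M (centralizer ({x} : Set G)) := by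
  have hC := H12.BG13.con13 hG
  rcases thm143 hG hC hM hy hy1 hxM (mem_centralizer_singleton_iff.2 hxy) hx1 (fun p h1 h2 => (hp p h1 h2).1) with ⟨h1, -⟩ | ⟨h1, -, h2⟩
  · exfalso
    obtain ⟨p, hp1, hp2, -⟩ := exists_prime_pow hx1
    exact (hp p hp1 hp2).2 (h1 p hp1 hp2)
  · exact ⟨h1, h2⟩

theorem s1361 (hG : Cfsg.IsMinSimpleOddOrder G)
    (M : Subgroup G) (hM : IsCoatom M) (K U : Subgroup G) (hKU : Cfsg.IsSigmaDecomposition M K U) (X : Subgroup G) (hXU : X ≤ U) (hX : X ≠ ⊥)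
    (hXc : Cfsg.sigmaCore M ⊓ Subgroup.centralizer (X : Set G) ≠ ⊥) :
    Subgroup.centralizer (X : Set G) ≤ M ∧ ∀ L : Subgroup G, IsCoatom L → Subgroup.centralizer (X : Set G) ≤ L → L = M := by
  have hE := decomp_E hG hKU
  have hXE : X ≤ U ⊔ K := hXU.trans le_sup_left
  have hXM : X ≤ M := hXE.trans hE.1
  obtain ⟨y, hy, hy1⟩ := exists_ne_one hXc
  obtain ⟨hyσ, hyX⟩ := mem_inf.1 hy
  have h1 : ∀ q : ℕ, q.Prime → q ∣ Nat.card X → q ∈ tau2 M := by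
    intro q hq hd
    haveI := Fact.mk hq
    obtain ⟨x, hx, hxo⟩ := exists_elt_of_dvd hd
    refine (hat_tau2 hG hM (hXM hx) (orderOf_ne hq hxo) ?_ hyσ hy1 (mem_centralizer_iff.1 hyX x hx)).1 q hq (by rw [hxo])
    intro p hp hpd
    rw [hxo] at hpd
    rw [(Nat.prime_dvd_prime_iff_eq hp hq).1 hpd]
    exact u_primes hG hM hKU hq (hd.trans (card_dvd_of_le hXU))
  exact thm1210e hG hM hXM hX (tau2_nilp hG hM hE hXE h1) h1 hXc

theorem s1362 (hG : Cfsg.IsMinSimpleOddOrder G)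
    (M : Subgroup G) (hM : IsCoatom M) (K U : Subgroup G) (hKU : Cfsg.IsSigmaDecomposition M K U) :
    Cfsg.IsTISubset (Cfsg.sigmaA M U \ (Cfsg.sigmaCore M : Set G)) := by
  have hC := H12.BG13.con13 hG
  have hn := norm_US hG hC hM hKU
  intro g hg x hx hgx
  exfalso
  -- the prime part
  have key : ∀ z ∈ (Cfsg.sigmaA M U \ (Cfsg.sigmaCore M : Set G)), ∀ z' ∈ zpowers z, z' ≠ 1 →
      (∀ p : ℕ, p.Prime → p ∣ orderOf z' → p ∉ sigma M) → UMax M (centralizer ({z'} : Set G)) := by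
    intro z hz z' hz' hz1 hzσ
    obtain ⟨⟨⟨hzM, y, hy, hy1, hyz⟩, hzU⟩, -⟩ := hz
    refine (hat_tau2 hG hM (zpowers_le.2 hzM hz') hz1 ?_ hy hy1 ?_).2
    · intro p hp hd
      exact ⟨hzσ p hp hd, pi_of_mem_US hG hKU (zpowers_le.2 hzU hz') p hp hd⟩
    · obtain ⟨k, rfl⟩ := mem_zpowers_iff.1 hz'
      exact (Commute.zpow_left (show Commute z y from hyz) k)
  obtain ⟨y, hy, x', hx', hxe, hyπ, hx'π⟩ := pi_parts (sigma M) x
  have hx'1 : x' ≠ 1 := by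
    rintro rfl
    rw [mul_one] at hxe
    rw [← hxe] at hyπ
    exact hx.2 (mem_sigmaCore_of_mem hG hM hx.1.1.1 hyπ)
  have h1 := key x hx x' hx' hx'1 hx'π
  have h2 := key _ hgx (g * x' * g⁻¹) (by
    obtain ⟨k, rfl⟩ := mem_zpowers_iff.1 hx'
    exact mem_zpowers_iff.2 ⟨k, by rw [conj_zpow]⟩) (by rw [Ne, conj_eq_one_iff]; exact hx'1) (by
    intro p hp hd
    rw [orderOf_conj] at hd
    exact hx'π p hp hd)
  have h3 := h2.2 (cj g M) (isCoatom_of_cj hM g) (cent_cj_le h1.1)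
  have hgM : g ∈ M := (cj_eq_self_iff hG hM).1 h3
  apply hg
  have hconj : ∀ m ∈ M, ∀ z ∈ (Cfsg.sigmaA M U \ (Cfsg.sigmaCore M : Set G)), m * z * m⁻¹ ∈ (Cfsg.sigmaA M U \ (Cfsg.sigmaCore M : Set G)) := by
    intro m hm z hz
    obtain ⟨⟨⟨hzM, y, hy, hy1, hyz⟩, hzU⟩, hzσ⟩ := hz
    refine ⟨⟨⟨mul_mem (mul_mem hm hzM) (inv_mem hm), m * y * m⁻¹, ?_, ?_, ?_⟩, ?_⟩, ?_⟩
    · exact (mem_normalizer_iff.1 (le_normalizer_sigmaCore M hm) y).1 hy
    · rw [Ne, conj_eq_one_iff]; exact hy1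
    · calc m * z * m⁻¹ * (m * y * m⁻¹) = m * (z * y) * m⁻¹ := by group
        _ = m * (y * z) * m⁻¹ := by rw [hyz]
        _ = _ := by group
    · exact (mem_normalizer_iff.1 (hn hm) z).1 hzU
    · intro h
      exact hzσ ((mem_normalizer_iff.1 (le_normalizer_sigmaCore M hm) z).2 h)
  rw [mem_set_normalizer_iff]
  intro z
  refine ⟨hconj g hgM z, fun h => ?_⟩
  have := hconj g⁻¹ (inv_mem hgM) _ h
  simpa [mul_assoc] using this

end Cfsg.Agent.H2.BG14
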