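import Mathlib
import Cfsg.Agent.H2_BG14v
import Cfsg.Agent.H12_BG1212

/-! Theorem B: rows S1359, S1360 -/

set_option autoImplicit false
set_option linter.unusedSectionVars false

open Pointwise
open scoped commutatorElement

namespace Cfsg.Agent.H2.BG14

open Cfsg Subgroup H13.Syl H12.Loc H12.BG7 H12.BG10 H12.BG11 H12.BG12 H2.Con13
open H12.BG1212

universe u

variable {G : Type u} [Group G] [Finite G]

/-- the conclusion for one prime of `τ₂`, without normality -/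
def Good' (M : Subgroup G) (p : ℕ) (S Z : Subgroup G) : Prop :=
  Z ≤ S ∧ IsCyclic Z ∧ (∀ s ∈ S, orderOf s ∣ Nat.card Z) ∧
    ∀ z ∈ Z, orderOf z = p → sigmaCore M ⊓ centralizer ({z} : Set G) = ⊥

theorem Ab.good' (hG : IsMinSimpleOddOrder G) {M E A S : Subgroup G} {p : ℕ} [hp : Fact p.Prime] (h : Ab M E p A S) :
    ∃ Z : Subgroup G, Good' M p S Z := by
  obtain ⟨f1, f2, f3, f4, f5, f6, f7⟩ := h.facts hG
  obtain ⟨A₁, hexc⟩ := h.exc
  have hM := hexc.co
  obtain ⟨z, hz, hmax⟩ := exists_max_order h.syl.isPGroup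
  have key : ∀ y ∈ S, (∃ v ∈ zpowers y, orderOf v = p ∧ sigmaCore M ⊓ centralizer ({v} : Set G) ≠ ⊥) →
      UMax M (centralizer (zpowers (y ^ (orderOf y / p)) : Set G)) := by
    rintro y hy ⟨v, hv, hvo, hne⟩
    have hd : p ∣ orderOf y := hvo ▸ orderOf_dvd_of_mem_zpowers hv
    have hyo : orderOf (y ^ (orderOf y / p)) = p := orderOf_pow_orderOf_div (orderOf_pos y).ne' hd
    have h1 : zpowers v = zpowers (y ^ (orderOf y / p)) := by
      apply H12.Core.cyclic_eq_of_card_eq' (C := zpowers y) inferInstance (zpowers_le.2 hv)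
        (zpowers_le.2 (pow_mem (mem_zpowers y) _))
      rw [Nat.card_zpowers, Nat.card_zpowers, hvo, hyo]
    rw [← h1]
    have hvS : zpowers v ≤ S := (zpowers_le.2 hv).trans (zpowers_le.2 hy)
    have hvb : zpowers v ≠ ⊥ := by
      intro hb
      rw [zpowers_eq_bot] at hb
      rw [hb, orderOf_one] at hvo
      exact hp.out.one_lt.ne hvo
    refine thm126c hG hexc hvb (h.asl.trans ((le_cent_self h.ab).trans (centralizer_le hvS)))
      (ne_top_of_isPGroup hG (h.syl.isPGroup.to_le hvS)) ?_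
    rwa [centralizer_zpowers]
  have mk : ∀ y ∈ S, orderOf y = orderOf z → (¬ ∃ v ∈ zpowers y, orderOf v = p ∧
      sigmaCore M ⊓ centralizer ({v} : Set G) ≠ ⊥) → Good' M p S (zpowers y) := by
    intro y hy hyo hno
    refine ⟨zpowers_le.2 hy, inferInstance, fun s hs => ?_, fun v hv hvo => ?_⟩
    · rw [Nat.card_zpowers, hyo]; exact hmax s hs
    · by_contra hne
      exact hno ⟨v, hv, hvo, hne⟩
  by_cases hc : ∃ v ∈ zpowers z, orderOf v = p ∧ sigmaCore M ⊓ centralizer ({v} : Set G) ≠ ⊥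
  · obtain ⟨g, hg, hgM⟩ := SetLike.not_le_iff_exists.1 f5
    have hgz : g * z * g⁻¹ ∈ S := (mem_normalizer_iff.1 hg z).1 hz
    have hgo : orderOf (g * z * g⁻¹) = orderOf z := orderOf_conj g z
    refine ⟨zpowers (g * z * g⁻¹), mk _ hgz hgo ?_⟩
    intro hc'
    have u1 := key z hz hc
    have u2 := key _ hgz hc'
    have e1 : (g * z * g⁻¹) ^ (orderOf (g * z * g⁻¹) / p) = g * z ^ (orderOf z / p) * g⁻¹ := by
      rw [hgo, conj_pow]
    rw [e1] at u2
    have u3 := umax_cj u1 g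
    rw [cj_centralizer, cj_zp] at u3
    have h4 : cj g M = M := u2.2 _ (isCoatom_of_cj hM g) u3.1
    exact hgM ((cj_eq_self_iff hG hM).1 h4)
  · exact ⟨_, mk z hz rfl hc⟩

theorem nonab_good' (hG : IsMinSimpleOddOrder G) {M E A A₁ P : Subgroup G} {p : ℕ} [hp : Fact p.Prime]
    (hexc : Exc M p A A₁) (hp2 : p ∈ tau2 M) (hE : IsComplIn E (sigmaCore M) M) (hAP : A ≤ P) (hP : IsSylIn p P E)
    (hn : ∀ S : Subgroup G, IsSylIn p S ⊤ → ¬ IsMulCommutative S) : ∃ Z : Subgroup G, Good' M p P Z := by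
  have hM := hexc.co
  have hAE : A ≤ E := hAP.trans hP.le
  obtain ⟨Y, y1, y2, y3, y4, y5⟩ := nonab_struct hG hexc hp2 hE hAP hP hn
  obtain ⟨h1, h2, h3, h4⟩ := thm127 hG hexc hp2 hE hAE hn
  set A₀ := A ⊓ centralizer (sigmaCore M : Set G) with hA₀
  have hPM : IsSylIn p P M := H12.Hall.sylow_trans (compl_hall hG hM hE) hp2.2.1 hP
  have hPab : IsMulCommutative P := thm125b hG hM hp2 hPM
  have hPA : ∀ x ∈ P, x ^ p = 1 → x ∈ A := (hexc.thm116 hG hPM hAP).1
  have hA₀P : A₀ ≤ P := inf_le_left.trans hAP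
  refine ⟨Y, y2, y1, ?_, ?_⟩
  · intro s hs
    rw [← y4] at hs
    have hYn : Y ≤ normalizer (A₀ : Set G) := by
      refine (y2.trans ((le_cent_self hPab).trans (centralizer_le hA₀P))).trans (centralizer_le_normalizer _)
    obtain ⟨a, ha, v, hv, hav⟩ := (H22.Basic.mem_sup_of_le_normalizer hYn).1 hs
    have hcomm : Commute a v := mem_centralizer_iff.1 (le_cent_self hPab (y2 hv)) a (hA₀P ha)
    rw [← hav]
    refine (hcomm.orderOf_mul_dvd_lcm).trans (Nat.lcm_dvd ?_ (Subgroup.orderOf_dvd_natCard _ hv))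
    exact (orderOf_dvd_of_pow_eq_one (hexc.e2.ea.2 a (mem_inf.1 ha).1)).trans y5
  · intro z hz hzo
    have hz1 := orderOf_ne hp.out hzo
    have hzA : z ∈ A := hPA z (y2 hz) (by rw [← hzo]; exact pow_orderOf_eq_one z)
    have h5 := (h3 (zpowers z) (zpowers_le.2 hzA) (by rw [Nat.card_zpowers, hzo]) (by
      intro he
      have : z ∈ A₀ ⊓ Y := mem_inf.2 ⟨he ▸ mem_zpowers z, hz⟩
      rw [y3, mem_bot] at this
      exact hz1 this)).1
    rwa [centralizer_zpowers] at h5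

theorem ab_exponent {M U : Subgroup G} (hUs : Group.IsSolvable U) (hUab : IsMulCommutative U) (T : Set ℕ) (hT : ∀ p ∈ T, p.Prime)
    (hgood : ∀ p ∈ T, ∃ S Z : Subgroup G, IsSylIn p S U ∧ Good' M p S Z)
    (hF : ∀ w ∈ U, ∀ q : ℕ, q.Prime → orderOf w = q → q ∉ T → sigmaCore M ⊓ centralizer ({w} : Set G) = ⊥) :
    ∃ E₀ : Subgroup G, E₀ ≤ U ∧ Monoid.exponent E₀ = Monoid.exponent U ∧
      ∀ e ∈ E₀, e ≠ 1 → sigmaCore M ⊓ centralizer ({e} : Set G) = ⊥ := by
  classical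
  have hUc : U ≤ centralizer (U : Set G) := le_cent_self hUab
  have hnorm : ∀ Z : Subgroup G, Z ≤ U → U ≤ normalizer (Z : Set G) := fun Z hZ =>
    (hUc.trans (centralizer_le hZ)).trans (centralizer_le_normalizer _)
  have key : ∀ p : ℕ, ∃ S Z : Subgroup G, Z ≤ U ∧ (p ∉ T → Z = ⊥) ∧
      (p ∈ T → IsSylIn p S U ∧ Good' M p S Z) := by
    intro p
    by_cases hp : p ∈ T
    · obtain ⟨S, Z, h1, h2⟩ := hgood p hp
      exact ⟨S, Z, h2.1.trans h1.le, fun h => absurd hp h, fun _ => ⟨h1, h2⟩⟩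
    · exact ⟨⊥, ⊥, bot_le, fun _ => rfl, fun h => absurd h hp⟩
  choose S Z hZE hZb hgood using key
  have hEZ := fun p => hnorm (Z p) (hZE p)
  have hZp : ∀ p : ℕ, p.Prime → IsPGroup p (Z p) := by
    intro p hp
    by_cases h : p ∈ T
    · obtain ⟨h2, h3⟩ := hgood p h
      exact h2.isPGroup.to_le h3.1
    · rw [hZb p h]
      exact IsPGroup.of_bot
  obtain ⟨H, hH⟩ := H12.Hall.exists_hall hUs Tᶜ
  have hHE : H ≤ U := hH.1
  have hE₀E : H ⊔ ⨆ p, Z p ≤ U := sup_le hHE (iSup_le hZE)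
  have hmem : ∀ p ∈ T, ∀ y ∈ H ⊔ ⨆ p, Z p, orderOf y = p → y ∈ Z p := by
    intro p hpT y hy hyo
    have hpp := hT p hpT
    haveI := Fact.mk hpp
    have hOc := Oc_coprime hpp U
    refine mem_of_sup (W := Oc p U ⊔ H) (hZp p hpp) ?_ ?_ ?_ (pg_of_order (k := 1) (by rw [hyo, pow_one]))
    · exact (sup_le (Oc_le p U) hHE).trans (hEZ p)
    · have h1 := H12.Core.card_sup_dvd (A := H) (B := Oc p U) (hHE.trans (le_normalizer_Oc p U))
      rw [sup_comm]
      intro hd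
      rcases (Nat.Prime.dvd_mul hpp).1 (hd.trans h1) with h2 | h2
      · exact H12.Hall.pi hH p hpp h2 hpT
      · exact (Nat.Prime.coprime_iff_not_dvd hpp).1 hOc.symm h2
    · have h2 : H ⊔ ⨆ p, Z p ≤ Z p ⊔ (Oc p U ⊔ H) := by
        apply sup_le (le_sup_right.trans le_sup_right)
        apply iSup_le
        intro r
        by_cases hrp : r = p
        · rw [hrp]; exact le_sup_left
        · by_cases hr : r ∈ T
          · refine le_trans ?_ (le_sup_left.trans le_sup_right)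
            apply le_Oc hpp (hZE r) (hEZ r)
            obtain ⟨n, hn⟩ := (haveI := Fact.mk (hT r hr); IsPGroup.iff_card.1 (hZp r (hT r hr)))
            rw [hn]
            exact Nat.Coprime.pow_left n ((Nat.coprime_primes (hT r hr) hpp).2 hrp)
          · rw [hZb r hr]; exact bot_le
      exact h2 hy
  refine ⟨H ⊔ ⨆ p, Z p, hE₀E, ?_, ?_⟩
  · apply Nat.dvd_antisymm (exponent_dvd_of_le hE₀E)
    apply exponent_dvd_of
    intro q k hq e he heo
    haveI := Fact.mk hq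
    by_cases hqt : q ∈ T
    · obtain ⟨h2, h3⟩ := hgood q hqt
      have heS : e ∈ S q := by
        obtain ⟨x, hx, hle⟩ := h2.exists_conj_le (pg_of_order heo) (zpowers_le.2 he)
        rw [cj_le_iff, cj_eq_of_mem_normalizer (hnorm _ h2.le (inv_mem hx))] at hle
        exact hle (mem_zpowers e)
      haveI := h3.2.1
      obtain ⟨g, hg⟩ := IsCyclic.exists_ofOrder_eq_natCard (α := Z q)
      refine ⟨g, mem_sup_right (mem_iSup_of_mem q g.2), ?_⟩
      rw [orderOf_coe, hg]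
      exact h3.2.2.1 e heS
    · obtain ⟨l, hl, hle⟩ := H12.Hall.hall_dom (X := zpowers e) hUs hH (by
        rw [Nat.card_zpowers, heo]
        intro r hr hd
        rw [(Nat.prime_dvd_prime_iff_eq hr hq).1 (hr.dvd_of_dvd_pow hd)]
        exact hqt) (zpowers_le.2 he)
      refine ⟨l * e * l⁻¹, mem_sup_left (hle (conj_mem_cj (mem_zpowers e))), ?_⟩
      rw [orderOf_conj]
  · intro e he he1
    by_contra hne
    obtain ⟨q, hq, w, hw, hwo, hwne⟩ := exists_free he1 hne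
    have hw0 := zpowers_le.2 he hw
    by_cases hqt : q ∈ T
    · exact hwne ((hgood q hqt).2.2.2.2 w (hmem q hqt w hw0 hwo) hwo)
    · exact hwne (hF w (hE₀E hw0) q hq hwo hqt)

/-- the group `U₀` in the case `K ≠ 1` -/
theorem KS.exists_U0 (hG : IsMinSimpleOddOrder G) {M K E U : Subgroup G} (h : KS M K E U) :
    ∃ U₀ : Subgroup G, U₀ ≤ U ∧ Monoid.exponent U₀ = Monoid.exponent U ∧
      ∀ e ∈ U₀, e ≠ 1 → sigmaCore M ⊓ centralizer ({e} : Set G) = ⊥ := by
  have hM := h.co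
  have hEs := solv_le hG hM h.hEM
  have hσE := compl_sigmaC hG hM h.hE
  have hUE : IsPiHallOf {q | q.Prime ∧ q ∉ kappa M ∧ q ∉ sigma M} U E := H12.Hall.mono h.hUq h.hUE h.hEM
  have hSU : ∀ (p : ℕ), p ∈ tau2 M → ∀ S : Subgroup G, IsPGroup p S → S ≤ E → S ≤ U := by
    intro p hp S hS hSE
    haveI := Fact.mk hp.1
    obtain ⟨n, hn⟩ := IsPGroup.iff_card.1 hS
    obtain ⟨l, hl, hle⟩ := H12.Hall.hall_dom hEs hUE (X := S) (by
      intro r hr hd
      rw [hn] at hd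
      rw [(Nat.prime_dvd_prime_iff_eq hr hp.1).1 (hr.dvd_of_dvd_pow hd)]
      exact ⟨hp.1, fun hk => H12.BG15.kappa_not_tau2 hG hk hp, hp.2.1⟩) hSE
    rwa [cj_le_iff, cj_eq_of_mem_normalizer (h.nU (inv_mem hl))] at hle
  refine ab_exponent (solv_le hG hM h.hUM) h.comm (tau2 M) (fun p hp => hp.1) ?_ ?_
  · intro p hp
    haveI := Fact.mk hp.1
    obtain ⟨A, hAE, hA, hAc⟩ := exists_ea_compl hG hM h.hE hp
    obtain ⟨A₁, hexc⟩ := exists_exc hG hM hp.2.1 (hAE.trans h.hE.1) hA hAc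
    by_cases hn : ∀ S : Subgroup G, IsSylIn p S ⊤ → ¬ IsMulCommutative S
    · obtain ⟨P, hAP, hP⟩ := exists_isSylIn_ge (p := p) (H := E) (ea_isPGroup hexc.e2.ea) hAE
      obtain ⟨Z, hZ⟩ := nonab_good' hG hexc hp h.hE hAP hP hn
      exact ⟨P, Z, hP.mono (hSU p hp P hP.isPGroup hP.le) h.hUE, hZ⟩
    · obtain ⟨S, hS, hAS, hSab⟩ := exists_sylow_ab (ea_isPGroup hA) hn
      have hAb : Ab M E p A S := ⟨h.hE, ⟨A₁, hexc⟩, hAE, hAS, hS, hSab, hp⟩
      obtain ⟨f1, f2, f3, f4, f5, f6, f7⟩ := hAb.facts hG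
      obtain ⟨Z, hZ⟩ := Ab.good' hG hAb
      exact ⟨S, Z, hS.mono (hSU p hp S hS.isPGroup f7) le_top, hZ⟩
  · intro w hw q hq hwo hqt
    haveI := Fact.mk hq
    have hqU : q ∣ Nat.card U := by rw [← hwo]; exact Subgroup.orderOf_dvd_natCard _ hw
    obtain ⟨-, h1, h2⟩ := h.hUq.2.1 q hq hqU
    rcases tau_cases hG hM hq (hqU.trans (card_dvd_of_le h.hUM)) h2 with h3 | h3
    · exact absurd h3 hqt
    · have h4 := free_of_not_kappa hG h2 h3.1 h1 (X := zpowers w) (zpowers_le.2 (h.hUM hw)) (by rw [Nat.card_zpowers, hwo])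
      rwa [centralizer_zpowers] at h4

theorem free_of_kappa_empty (hG : IsMinSimpleOddOrder G) {M E : Subgroup G} (hM : IsCoatom M) (hE : IsComplIn E (sigmaCore M) M)
    (hκ : kappa M = ∅) : Free M E := by
  intro w hw q hq hwo hqt
  haveI := Fact.mk hq
  have hqE : q ∣ Nat.card E := by rw [← hwo]; exact Subgroup.orderOf_dvd_natCard _ hw
  have hσ := compl_sigmaC hG hM hE q hq hqE
  rcases tau_cases hG hM hq (hqE.trans (card_dvd_of_le hE.1)) hσ with h3 | h3
  · exact absurd h3 hqt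
  · have h4 := free_of_not_kappa hG hσ h3.1 (by rw [hκ]; exact Set.notMem_empty _) (X := zpowers w) (zpowers_le.2 (hE.1 hw))
      (by rw [Nat.card_zpowers, hwo])
    rwa [centralizer_zpowers] at h4

theorem s1359 (hG : Cfsg.IsMinSimpleOddOrder G)
    (M : Subgroup G) (hM : IsCoatom M) (K U : Subgroup G) (hKU : Cfsg.IsSigmaDecomposition M K U) :
    IsMulCommutative (Subgroup.closure ((U : Set G) ∩ Cfsg.sigmaHat M)) := by
  have hC := H12.BG13.con13 hG
  by_cases hK : K = ⊥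
  · subst hK
    have hE := decomp_bot hKU
    have hκ := kappa_empty hG hKU.hall
    obtain ⟨⟨A₀, h1, h2, h3, h4⟩, -⟩ := thm1212 hG hM hE (free_of_kappa_empty hG hM hE hκ)
    refine comm_mono (K := A₀) ?_ h3
    rw [closure_le]
    rintro u ⟨hu, -, y, hy, hy1, huy⟩
    exact h4 y hy hy1 (mem_inf.2 ⟨hu, mem_centralizer_singleton_iff.2 huy⟩)
  · have h := KS_of_decomp hG hC hM hKU hK
    refine comm_mono (K := U) ?_ h.comm
    rw [closure_le]
    exact Set.inter_subset_left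

theorem exists_U0 (hG : IsMinSimpleOddOrder G) {M K U : Subgroup G} (hM : IsCoatom M) (hKU : IsSigmaDecomposition M K U) :
    ∃ U₀ : Subgroup G, U₀ ≤ U ∧ Monoid.exponent U₀ = Monoid.exponent U ∧
      ∀ e ∈ U₀, e ≠ 1 → sigmaCore M ⊓ centralizer ({e} : Set G) = ⊥ := by
  have hC := H12.BG13.con13 hG
  by_cases hK : K = ⊥
  · subst hK
    have hE := decomp_bot hKU
    have hκ := kappa_empty hG hKU.hall
    exact (thm1212 hG hM hE (free_of_kappa_empty hG hM hE hκ)).2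
  · exact (KS_of_decomp hG hC hM hKU hK).exists_U0 hG

theorem s1360 (hG : Cfsg.IsMinSimpleOddOrder G)
    (M : Subgroup G) (hM : IsCoatom M) (K U : Subgroup G) (hKU : Cfsg.IsSigmaDecomposition M K U) :
    ∃ U₀ : Subgroup G, U₀ ≤ U ∧ Monoid.exponent U₀ = Monoid.exponent U ∧ ∀ u ∈ U₀, u ∈ Cfsg.sigmaHat M → u = 1 := by
  obtain ⟨U₀, h1, h2, h3⟩ := exists_U0 hG hM hKU
  refine ⟨U₀, h1, h2, ?_⟩
  rintro u hu ⟨-, y, hy, hy1, huy⟩
  by_contra hu1
  have h4 := h3 u hu hu1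
  have : y ∈ sigmaCore M ⊓ centralizer ({u} : Set G) := mem_inf.2 ⟨hy, mem_centralizer_singleton_iff.2 huy.symm⟩
  rw [h4, mem_bot] at this
  exact hy1 this

end Cfsg.Agent.H2.BG14
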