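import Mathlib
import Cfsg.Agent.H2_BG14w

/-! κ/σ-language for BG §16 and Peterfalvi §8 ff. -/

set_option autoImplicit false
set_option linter.unusedSectionVars false

open Pointwise
open scoped commutatorElement

namespace Cfsg.Agent.H2.Ty

open Cfsg Subgroup H13.Syl H12.Loc H12.BG7 H12.BG10 H12.BG11 H12.BG12 H2.Con13 H2.BG14

universe u

variable {G : Type u} [Group G]

/-- `A₁(M)` -/
def tA1 (M : Subgroup G) : Set G := (sigmaCore M : Set G) \ {1}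

/-- `A(M)` -/
def tA (M : Subgroup G) : Set G :=
  {a | a ∈ M ∧ a ≠ 1 ∧ (∀ p : ℕ, p.Prime → p ∣ orderOf a → p ∉ kappa M) ∧ ∃ x ∈ sigmaCore M, x ≠ 1 ∧ a * x = x * a}

/-- `A₀(M)` -/
def tA0 (M : Subgroup G) : Set G :=
  tA M ∪ {v | ∃ K : Subgroup G, IsPiHallOf (kappa M) K M ∧ K ≠ ⊥ ∧ ∃ m ∈ M, ∃ w ∈ K ⊔ st M K, w ∉ K ∧ w ∉ st M K ∧ v = m * w * m⁻¹}

/-- all that is known about a maximal subgroup with `κ(M) = ∅` ("type I") -/
structure TyF (M U U₁ U₀ : Subgroup G) : Prop where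
  kap : kappa M = ∅
  nil : Group.IsNilpotent (sigmaCore M)
  fh : fittingHallOf M = sigmaCore M
  cmp : IsComplIn U (sigmaCore M) M
  ne : U ≠ ⊥
  U₁le : U₁ ≤ U
  U₁n : U ≤ normalizer (U₁ : Set G)
  U₁ab : IsMulCommutative U₁
  U₁c : ∀ x ∈ sigmaCore M, x ≠ 1 → U ⊓ centralizer ({x} : Set G) ≤ U₁
  U₀le : U₀ ≤ U
  U₀e : Monoid.exponent U₀ = Monoid.exponent U
  U₀f : ∀ e ∈ U₀, e ≠ 1 → sigmaCore M ⊓ centralizer ({e} : Set G) = ⊥

/-- the three possibilities for `M_σ` in type I -/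
def TyAlt (M U : Subgroup G) : Prop :=
  IsTISubset (sigmaCore M : Set G) ∨
    (IsMulCommutative (sigmaCore M) ∧ RankLE 2 (sigmaCore M) ∧ ¬ RankLE 1 (sigmaCore M)) ∨
    (∀ q : ℕ, q.Prime → q ∣ Nat.card (sigmaCore M) → Monoid.exponent U ∣ q - 1)

end Cfsg.Agent.H2.Ty
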