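import Mathlib
import Cfsg.Agent.H2_Ty
import Cfsg.Agent.H12_BG157b

/-! BG §16: Theorem II (S1391 in κ-language) -/

set_option autoImplicit false
set_option linter.unusedSectionVars false
set_option linter.style.haveILetI false

open Pointwise
open scoped commutatorElement

namespace Cfsg.Agent.H12.D16

open Cfsg Subgroup H13.Syl H12.Loc H12.Trans H12.BG7 H12.Puig H12.BG9 H12.BG10 H12.BG11 H12.BG12
open H12.BG13 H2.BG14 H12.BG15 H12.BG1212 H12.BG157 H2.Ty

universe u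

variable {G : Type u} [Group G] [Finite G]

theorem zhat (hG : IsMinSimpleOddOrder G) {M K : Subgroup G} (hM : IsCoatom M) (hK : IsPiHallOf (kappa M) K M) (hKb : K ≠ ⊥)
    {w : G} (hw : w ∈ K ⊔ st M K) (hwK : w ∉ K) (hwS : w ∉ st M K) :
    w ∈ M ∧ centralizer ({w} : Set G) ≤ M ∧ (∀ g : G, w ∈ cj g M → g ∈ M) ∧ ∃ p ∈ kappa M, p ∣ orderOf w := by
  have hC := con13 hG
  obtain ⟨E, U, hk⟩ := exists_KS' hG hC hM hK hKb
  have hdec := hk.decomp (K_cyc hG hC hM hK)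
  obtain ⟨H, E', U', hpr⟩ := hk.exists_PR' hG hC
  have h34 := s1434 hG hC M hM K U hdec hKb H hpr.h'.co hpr.e'.symm hpr.h'.hall
  have hKM : K ≤ M := hK.1
  have hSM : st M K ≤ M := inf_le_left.trans (sigmaCore_le M)
  have hn : st M K ≤ normalizer (K : Set G) := inf_le_right.trans (centralizer_le_normalizer _)
  have hwM : w ∈ M := (sup_le hKM hSM) hw
  obtain ⟨x, hx, y, hy, hxy⟩ := (H22.Basic.mem_sup_of_le_normalizer hn).1 hw
  have hx1 : x ≠ 1 := by
    rintro rfl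
    apply hwS
    rw [← hxy, one_mul]
    exact hy
  have hy1 : y ≠ 1 := by
    rintro rfl
    apply hwK
    rw [← hxy, mul_one]
    exact hx
  have hcomm : Commute x y := mem_centralizer_iff.1 (mem_inf.1 hy).2 x hx
  refine ⟨hwM, ?_, ?_, ?_⟩
  · rw [← hxy, PR.cent_mul_eq hG hC hpr hx hx1 hy hy1]
    exact sup_le hKM hSM
  · intro g hg
    by_contra hgM
    exact h34.2.2.2.1 g hgM w ⟨hw, fun h => h.elim hwK hwS⟩ hg
  · obtain ⟨p, hp, hd, -⟩ := exists_prime_pow hx1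
    refine ⟨p, hK.2.1 p hp (hd.trans (Subgroup.orderOf_dvd_natCard _ hx)), ?_⟩
    have hcop : (orderOf x).Coprime (orderOf y) := by
      apply coprime_of_forall
      intro q hq h1 h2
      have h3 := hK.2.1 q hq (h1.trans (Subgroup.orderOf_dvd_natCard _ hx))
      have h4 := H12.BG13.sigmaCore_pi M q hq (h2.trans (Subgroup.orderOf_dvd_natCard _ (mem_inf.1 hy).1))
      exact h3.2.2.1 h4
    rw [← hxy, hcomm.orderOf_mul_eq_mul_orderOf_of_coprime hcop]
    exact hd.mul_right _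

/-- elements of `A(M)` outside `M_σ` -/
theorem tA_out (hG : IsMinSimpleOddOrder G) {M : Subgroup G} (hM : IsCoatom M) {x : G} (hx : x ∈ tA M) (hxσ : x ∉ sigmaCore M) :
    centralizer ({x} : Set G) ≤ M ∧ ∀ g : G, g * x * g⁻¹ ∈ tA M → g ∈ M := by
  have key : ∀ x ∈ tA M, x ∉ sigmaCore M → ∀ y ∈ zpowers x, ∀ z ∈ zpowers x, x = y * z →
      (∀ p : ℕ, p.Prime → p ∣ orderOf y → p ∈ sigma M) → (∀ p : ℕ, p.Prime → p ∣ orderOf z → p ∉ sigma M) →
      UMax M (centralizer ({z} : Set G)) := by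
    intro x hx hxσ y hy z hz hyz h1 h2
    obtain ⟨hxM, hx1, hxκ, v, hv, hv1, hvx⟩ := hx
    have hz1 : z ≠ 1 := by
      rintro rfl
      apply hxσ
      rw [mul_one] at hyz
      have h3 : zpowers y ≤ sigmaCore M := by
        apply le_sigmaCore_of_group hG hM (zpowers_le.2 ((zpowers_le.2 hxM) hy))
        intro p hp hd
        rw [Nat.card_zpowers] at hd
        exact h1 p hp hd
      rw [hyz]
      exact h3 (mem_zpowers y)
    have hvz : z * v = v * z := by
      have h3 : x ∈ centralizer ({v} : Set G) := mem_centralizer_singleton_iff.2 hvx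
      exact mem_centralizer_singleton_iff.1 ((zpowers_le.2 h3) hz)
    refine (hat_tau2 hG hM ((zpowers_le.2 hxM) hz) hz1 ?_ hv hv1 hvz).2
    intro p hp hd
    exact ⟨h2 p hp hd, hxκ p hp (hd.trans (orderOf_dvd_of_mem_zpowers hz))⟩
  obtain ⟨y, hy, z, hz, hyz, h1, h2⟩ := pi_parts (sigma M) x
  have hU := key x hx hxσ y hy z hz hyz h1 h2
  refine ⟨(cent_mono hz).trans hU.1, ?_⟩
  intro g hg
  have hgσ : g * x * g⁻¹ ∉ sigmaCore M := by
    intro h3
    -- `z` would be a `σ`-element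
    have h4 : g * z * g⁻¹ ∈ sigmaCore M := by
      obtain ⟨n, rfl⟩ := mem_zpowers_iff.1 hz
      rw [← conj_zpow]
      exact zpow_mem h3 n
    have hz1 : z ≠ 1 := by
      rintro rfl
      obtain ⟨hxM, -⟩ := hx
      apply hxσ
      rw [mul_one] at hyz
      have h3 : zpowers y ≤ sigmaCore M := by
        apply le_sigmaCore_of_group hG hM (zpowers_le.2 ((zpowers_le.2 hxM) hy))
        intro p hp hd
        rw [Nat.card_zpowers] at hd
        exact h1 p hp hd
      rw [hyz]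
      exact h3 (mem_zpowers y)
    obtain ⟨p, hp, hd, -⟩ := exists_prime_pow hz1
    apply h2 p hp hd
    have h5 := orderOf_injective (MulAut.conj g).toMonoidHom (MulAut.conj g).injective z
    simp only [MulEquiv.toMonoidHom_eq_coe, MonoidHom.coe_coe, MulAut.conj_apply] at h5
    rw [← h5] at hd
    exact H12.BG13.sigmaCore_pi M p hp (hd.trans (Subgroup.orderOf_dvd_natCard _ h4))
  have conj_ord : ∀ w : G, orderOf (g * w * g⁻¹) = orderOf w := by
    intro w
    have h5 := orderOf_injective (MulAut.conj g).toMonoidHom (MulAut.conj g).injective w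
    simpa using h5
  have hmem : ∀ w ∈ zpowers x, g * w * g⁻¹ ∈ zpowers (g * x * g⁻¹) := by
    intro w hw
    obtain ⟨n, rfl⟩ := mem_zpowers_iff.1 hw
    rw [← conj_zpow]
    exact zpow_mem (mem_zpowers _) n
  have hU' := key _ hg hgσ (g * y * g⁻¹) (hmem y hy) (g * z * g⁻¹) (hmem z hz) (by rw [hyz]; group)
    (by intro p hp hd; rw [conj_ord] at hd; exact h1 p hp hd) (by intro p hp hd; rw [conj_ord] at hd; exact h2 p hp hd)
  have hUg := umax_cj hU g
  rw [cj_centralizer_singleton] at hUg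
  have h4 : cj g M = M := hU'.2 _ (isCoatom_of_cj hM g) hUg.1
  have h5 : g ∈ normalizer (M : Set G) := mem_normalizer_iff_cj.2 h4
  rwa [normalizer_eq_self_of_isCoatom hG hM (ne_bot_of_isCoatom hG hM)] at h5

theorem tA_sub (M : Subgroup G) : tA M ⊆ tA0 M := fun _ h => Or.inl h

theorem mem_M_of {M : Subgroup G} {x : G} (hx : x ∈ tA0 M) : x ∈ M := by
  rcases hx with h | ⟨K, hK, hKb, m, hm, w, hw, hwK, hwS, rfl⟩
  · exact h.1
  · have hKM : K ≤ M := hK.1
    have hSM : st M K ≤ M := inf_le_left.trans (sigmaCore_le M)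
    exact mul_mem (mul_mem hm ((sup_le hKM hSM) hw)) (inv_mem hm)

theorem ne_one_of {M : Subgroup G} {x : G} (hx : x ∈ tA0 M) : x ≠ 1 := by
  rcases hx with h | ⟨K, hK, hKb, m, hm, w, hw, hwK, hwS, rfl⟩
  · exact h.2.1
  · intro h1
    apply hwK
    have : w = m⁻¹ * (m * w * m⁻¹) * m := by group
    rw [this, h1]
    simp

/-- the two kinds of elements of `A₀(M)` outside `M_σ` have `C(x) ≤ M` -/
theorem cent_le_of (hG : IsMinSimpleOddOrder G) {M : Subgroup G} (hM : IsCoatom M) {x : G} (hx : x ∈ tA0 M)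
    (hxσ : x ∉ sigmaCore M) : centralizer ({x} : Set G) ≤ M := by
  rcases hx with h | ⟨K, hK, hKb, m, hm, w, hw, hwK, hwS, rfl⟩
  · exact (tA_out hG hM h hxσ).1
  · obtain ⟨h1, h2, h3, h4⟩ := zhat hG hM hK hKb hw hwK hwS
    rw [← cj_centralizer_singleton]
    have := cj_mono (g := m) h2
    rwa [cj_eq_of_mem hm] at this

theorem fusion (hG : IsMinSimpleOddOrder G) {M : Subgroup G} (hM : IsCoatom M) {x : G} (hx : x ∈ tA0 M) {g : G}
    (hg : g * x * g⁻¹ ∈ tA0 M) : ∃ m ∈ M, m * x * m⁻¹ = g * x * g⁻¹ := by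
  have hgM := mem_M_of hg
  by_cases hxσ : x ∈ sigmaCore M
  · obtain ⟨m, hm, c, hc, rfl⟩ := fusion_M hG hM hxσ (ne_one_of hx) hgM
    refine ⟨m, hm, ?_⟩
    rw [mem_centralizer_singleton_iff] at hc
    calc m * x * m⁻¹ = m * (x * c) * c⁻¹ * m⁻¹ := by group
      _ = m * (c * x) * c⁻¹ * m⁻¹ := by rw [hc]
      _ = m * c * x * (m * c)⁻¹ := by group
  · refine ⟨g, ?_, rfl⟩
    have conj_ord : orderOf (g * x * g⁻¹) = orderOf x := by
      have h5 := orderOf_injective (MulAut.conj g).toMonoidHom (MulAut.conj g).injective x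
      simpa using h5
    have hzord : ∀ y : G, y ∈ tA0 M → y ∉ tA M → ∃ p ∈ kappa M, p ∣ orderOf y := by
      intro y hy hyA
      rcases hy with h | ⟨K, hK, hKb, m, hm, w, hw, hwK, hwS, rfl⟩
      · exact absurd h hyA
      · obtain ⟨h1, h2, h3, p, h4, h5⟩ := zhat hG hM hK hKb hw hwK hwS
        refine ⟨p, h4, ?_⟩
        have h6 := orderOf_injective (MulAut.conj m).toMonoidHom (MulAut.conj m).injective w
        simp only [MulEquiv.toMonoidHom_eq_coe, MonoidHom.coe_coe, MulAut.conj_apply] at h6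
        rwa [h6]
    by_cases hxA : x ∈ tA M
    · by_cases hgA : g * x * g⁻¹ ∈ tA M
      · exact (tA_out hG hM hxA hxσ).2 g hgA
      · exfalso
        obtain ⟨p, hp, hd⟩ := hzord _ hg hgA
        rw [conj_ord] at hd
        exact hxA.2.2.1 p (kappa_spec hG hp).1 hd hp
    · rcases hx with h | ⟨K, hK, hKb, m, hm, w, hw, hwK, hwS, rfl⟩
      · exact absurd h hxA
      · obtain ⟨h1, h2, h3, h4⟩ := zhat hG hM hK hKb hw hwK hwS
        have h5 : w ∈ cj (m⁻¹ * g⁻¹) M := by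
          rw [mem_cj]
          have : (m⁻¹ * g⁻¹)⁻¹ * w * (m⁻¹ * g⁻¹) = g * (m * w * m⁻¹) * g⁻¹ := by group
          rw [this]
          exact hgM
        have h6 := h3 _ h5
        have h7 : g = (m * (m⁻¹ * g⁻¹))⁻¹ := by group
        rw [h7]
        exact inv_mem (mul_mem hm h6)

theorem compl_flip {A B M : Subgroup G} (h : IsComplIn A B M) (hn : M ≤ normalizer (B : Set G)) : IsComplIn B A M := by
  refine ⟨h.2.1, h.1, by rw [inf_comm]; exact h.2.2.1, ?_⟩
  intro m hm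
  obtain ⟨a, ha, b, hb, rfl⟩ := h.2.2.2 m hm
  refine ⟨a * b * a⁻¹, (mem_normalizer_iff.1 (hn (h.1 ha)) b).1 hb, a, ha, by group⟩

/-- the coprimality statement -/
theorem coprime_cent (hG : IsMinSimpleOddOrder G) {M L : Subgroup G} (hM : IsCoatom M) {x : G} (hx : x ∈ sigmaCore M)
    (hx1 : x ≠ 1) (hxM : ¬ centralizer ({x} : Set G) ≤ M) (hL : ND M L x) {y : G} (hy : y ∈ tA0 M) :
    (Nat.card (sigmaCore L)).Coprime (Nat.card ↥(M ⊓ centralizer ({y} : Set G))) := by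
  have hC := con13 hG
  apply coprime_of_forall
  intro r hr h1 h2
  haveI := Fact.mk hr
  have hrσ := H12.BG13.sigmaCore_pi L r hr h1
  obtain ⟨hκ, hτ⟩ := (s1436 hG hC M hM x hx hx1 hxM L hL.co hL.um.1).1
    ⟨r, hrσ, h2.trans (card_dvd_of_le inf_le_left)⟩
  have hrM : r ∉ sigma M := by
    intro h3
    obtain ⟨g, hg⟩ := sigma_disj hC hM hL.co h3 hrσ
    exact hL.nc g hg
  rcases hy with hy | ⟨K, hK, hKb, -⟩
  swap
  · obtain ⟨p, hp, v, hv, hvo, hd⟩ := exists_prime_elt hKb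
    have := hK.2.1 p hp hd
    rw [hκ] at this
    exact this
  obtain ⟨hyM, hy1, hyκ, v, hv, hv1, hyv⟩ := hy
  have hyσ : y ∈ sigmaCore M := by
    obtain ⟨a, ha, z, hz, hyz, k1, k2⟩ := pi_parts (sigma M) y
    have hz1 : z = 1 := by
      by_contra hz1
      have hvz : z * v = v * z := by
        have h3 : y ∈ centralizer ({v} : Set G) := mem_centralizer_singleton_iff.2 hyv
        exact mem_centralizer_singleton_iff.1 ((zpowers_le.2 h3) hz)
      have h3 := (hat_tau2 hG hM ((zpowers_le.2 hyM) hz) hz1 (fun p hp hd => ⟨k2 p hp hd, by rw [hκ]; exact fun h => h⟩)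
        hv hv1 hvz).1
      obtain ⟨p, hp, hd, -⟩ := exists_prime_pow hz1
      have h4 := h3 p hp hd
      rw [hτ] at h4
      exact h4
    rw [hz1, mul_one] at hyz
    have h3 : zpowers a ≤ sigmaCore M := by
      apply le_sigmaCore_of_group hG hM (zpowers_le.2 ((zpowers_le.2 hyM) ha))
      intro p hp hd
      rw [Nat.card_zpowers] at hd
      exact k1 p hp hd
    rw [hyz]
    exact h3 (mem_zpowers a)
  obtain ⟨w, hw, hwo, hwc, hwX⟩ := exists_order_sub h2
  obtain ⟨hwM, hwy⟩ := mem_inf.1 hw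
  have hw1 : w ≠ 1 := orderOf_ne hr hwo
  have hprimes : ∀ p : ℕ, p.Prime → p ∣ orderOf w → p = r := by
    intro p hp hd
    rw [hwo] at hd
    exact (Nat.prime_dvd_prime_iff_eq hp hr).1 hd
  have h3 := (hat_tau2 hG hM hwM hw1 (fun p hp hd => ⟨hprimes p hp hd ▸ hrM, by rw [hκ]; exact fun h => h⟩) hyσ hy1
    (mem_centralizer_singleton_iff.1 hwy)).1 r hr (by rw [hwo])
  rw [hτ] at h3
  exact h3

/-- the structure at `x ∈ D` -/
theorem data (hG : IsMinSimpleOddOrder G) {M : Subgroup G} (hM : IsCoatom M) {x : G} (hx : x ∈ sigmaCore M)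
    (hx1 : x ≠ 1) (hxM : ¬ centralizer ({x} : Set G) ≤ M) {L : Subgroup G} (hLc : IsCoatom L)
    (hxL : centralizer ({x} : Set G) ≤ L) : ND M L x ∧ fittingHallOf L = sigmaCore L ∧
      IsComplIn (fittingHallOf L) (M ⊓ L) L ∧
      centralizer ({x} : Set G) ≤ normalizer ((fittingHallOf L ⊓ centralizer ({x} : Set G) : Subgroup G) : Set G) ∧
      IsComplIn (fittingHallOf L ⊓ centralizer ({x} : Set G)) (M ⊓ centralizer ({x} : Set G)) (centralizer ({x} : Set G)) ∧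
      (∀ y ∈ tA0 M, (Nat.card (fittingHallOf L)).Coprime (Nat.card ↥(M ⊓ centralizer ({y} : Set G)))) ∧
      (x ∈ tA L ∧ x ∉ sigmaCore L) ∧
      (kappa L = ∅ ∨ ∃ K E U : Subgroup G, KS L K E U ∧ U ≠ ⊥) ∧
      ((kappa L).Nonempty → kappa M = ∅ ∧ Group.IsNilpotent (sigmaCore M) ∧
        ∃ E : Subgroup G, IsComplIn E (sigmaCore M) M ∧ IsCyclic E ∧ E ≠ ⊥ ∧
          ∀ e ∈ E, e ≠ 1 → sigmaCore M ⊓ centralizer ({e} : Set G) = ⊥) := by
  have hC := con13 hG
  obtain ⟨L', hL'⟩ := exists_ND hG hC hM hx hx1 hxM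
  have hLe : L = L' := hL'.um.2 L hLc hxL
  subst hLe
  have hLf : fittingHallOf L = sigmaCore L := (sigmaCore_eq_fittingHallOf hG hLc hL'.nil).symm
  have hLn := le_normalizer_sigmaCore L
  have hxLm : x ∈ L := hxL (mem_centralizer_singleton_iff.2 rfl)
  have hxM' : x ∈ M := sigmaCore_le M hx
  have hflip := compl_flip hL'.cmp hLn
  have hnorm : centralizer ({x} : Set G) ≤
      normalizer ((sigmaCore L ⊓ centralizer ({x} : Set G) : Subgroup G) : Set G) := by
    intro c hc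
    rw [mem_normalizer_iff_cj, cj_inf, cj_eq_of_mem_normalizer (hLn (hxL hc)), cj_eq_of_mem hc]
  have hxσL : x ∉ sigmaCore L := by
    intro h
    have h1 : x ∈ sigmaCore L ⊓ M := mem_inf.2 ⟨h, hxM'⟩
    rw [hL'.inf, mem_bot] at h1
    exact hx1 h1
  refine ⟨hL', hLf, hLf ▸ hflip, hLf ▸ hnorm, ?_, ?_, ⟨?_, hxσL⟩, ?_, ?_⟩
  · rw [hLf]
    refine ⟨inf_le_right, inf_le_right, ?_, ?_⟩
    · rw [eq_bot_iff, ← hL'.inf]
      exact le_inf (inf_le_left.trans inf_le_left) (inf_le_right.trans inf_le_left)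
    · intro c hc
      obtain ⟨a, ha, b, hb, rfl⟩ := hflip.2.2.2 c (hxL hc)
      have hxn := mem_normalizer_iff.1 (hLn hxLm) a
      have e1 : (x * a * x⁻¹) * (x * b * x⁻¹) = a * b := by
        rw [mem_centralizer_singleton_iff] at hc
        rw [show (x * a * x⁻¹) * (x * b * x⁻¹) = x * (a * b) * x⁻¹ by group, ← hc]
        group
      have ha' : x * a * x⁻¹ ∈ sigmaCore L := hxn.1 ha
      have hb' : x * b * x⁻¹ ∈ M ⊓ L :=
        mul_mem (mul_mem (mem_inf.2 ⟨hxM', hxLm⟩) hb) (inv_mem (mem_inf.2 ⟨hxM', hxLm⟩))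
      have e2 : a⁻¹ * (x * a * x⁻¹) = b * (x * b * x⁻¹)⁻¹ := by
        rw [inv_mul_eq_iff_eq_mul, ← mul_assoc, eq_mul_inv_iff_mul_eq, e1]
      have e3 : a⁻¹ * (x * a * x⁻¹) ∈ sigmaCore L ⊓ (M ⊓ L) :=
        mem_inf.2 ⟨mul_mem (inv_mem ha) ha', e2 ▸ mul_mem hb (inv_mem hb')⟩
      rw [hflip.2.2.1, mem_bot] at e3
      have e4 : x * a * x⁻¹ = a := (inv_mul_eq_one.1 e3).symm
      have e5 : x * b * x⁻¹ = b := by
        rw [e4] at e1
        exact mul_left_cancel e1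
      refine ⟨a, mem_inf.2 ⟨ha, mem_centralizer_singleton_iff.2 (mul_inv_eq_iff_eq_mul.1 e4).symm⟩, b,
        mem_inf.2 ⟨(mem_inf.1 hb).1, mem_centralizer_singleton_iff.2 (mul_inv_eq_iff_eq_mul.1 e5).symm⟩, rfl⟩
  · intro y hy
    rw [hLf]
    exact coprime_cent hG hM hx hx1 hxM hL' hy
  · refine ⟨hxLm, hx1, ?_, ?_⟩
    · intro p hp hd hk
      exact kappa_not_tau2 hG hk (hL'.tau p hp hd)
    · obtain ⟨v, hv, hv1⟩ := exists_ne_one hL'.ne
      obtain ⟨hv2, hv3⟩ := mem_inf.1 hv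
      exact ⟨v, hv2, hv1, (mem_centralizer_singleton_iff.1 hv3).symm⟩
  · by_cases hκ : kappa L = ∅
    · exact Or.inl hκ
    · right
      obtain ⟨K, E, U, hk⟩ := exists_KS_of_kappa hG hC hLc (Set.nonempty_iff_ne_empty.2 hκ)
      refine ⟨K, E, U, hk, ?_⟩
      rintro rfl
      obtain ⟨p, hp, hd, -⟩ := exists_prime_pow hx1
      have hτ := hL'.tau p hp hd
      have hpL : p ∣ Nat.card L := hd.trans (Subgroup.orderOf_dvd_natCard _ hxLm)
      have h1 := hk.hUq.2.2 p hp ⟨hp, fun h => kappa_not_tau2 hG h hτ, hτ.2.1⟩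
      rw [relIndex_bot_left] at h1
      exact h1 hpL
  · intro hκ
    obtain ⟨L₂, K, U, K', E', U', r, su⟩ := exists_SU hG hM hx hx1 hL' hκ
    obtain ⟨h1, ⟨E, h2, h3, h4, h5⟩, h6, h7⟩ := su.s1376 hG hx hx1 hxM hL'.um.1
    exact ⟨h1, h6, E, h2, h3, h4, h5⟩

end Cfsg.Agent.H12.D16
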