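import Mathlib
import Cfsg.Prelude.Def_OddOrderLocal

/-! Contract file for BG §16 / PF §8-§14: "weak type I" `TyI` (= `IsOfTypeI` without the clause
`O_{p'}(M)` cyclic, which is not provable by local analysis: only `O_{p'}(M_F)` cyclic is), the sets
`tA`, `tA0` (= `typeA`, `typeA0` with `TyI` for `IsOfTypeI`), and the statements C1380 .. C1391. -/

set_option autoImplicit false
set_option linter.unusedSectionVars false

namespace Cfsg.Agent.H12.Ty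

open Cfsg Subgroup

universe u

/-- weak Type I -/
def TyI {G : Type u} [Group G] (M : Subgroup G) : Prop :=
  IsOfTypeF M ∧
  ( IsTISubset (fittingHallOf M : Set G) ∨
    (IsMulCommutative (fittingHallOf M) ∧ RankLE 2 (fittingHallOf M) ∧ ¬ RankLE 1 (fittingHallOf M)) ∨
    (∀ p : ℕ, p.Prime → p ∣ Nat.card (fittingHallOf M) → Monoid.exponent (M ⧸ fittingHall M) ∣ p - 1) )

theorem TyI.of_typeI {G : Type u} [Group G] {M : Subgroup G} (h : IsOfTypeI M) : TyI M :=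
  ⟨h.1, h.2.imp id (Or.imp id fun h => h.1)⟩

open scoped Classical in
noncomputable def tA {G : Type u} [Group G] (M : Subgroup G) : Set G :=
  if TyI M then
    {a | a ∈ M ∧ a ≠ 1 ∧ ∃ x ∈ fittingHallOf M, x ≠ 1 ∧ a * x = x * a}
  else
    {a | a ∈ ⁅M, M⁆ ∧ a ≠ 1 ∧ ∃ x ∈ typeCore M, x ≠ 1 ∧ a * x = x * a}

noncomputable def tA0 {G : Type u} [Group G] (M : Subgroup G) : Set G :=
  tA M ∪ {v | ¬ TyI M ∧ ∃ W₁ U W₂ : Subgroup G, IsTypePWith M W₁ U W₂ ∧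
    ∃ m ∈ M, ∃ w ∈ W₁ ⊔ W₂, w ∉ W₁ ∧ w ∉ W₂ ∧ v = m * w * m⁻¹}

theorem tA_eq {G : Type u} [Group G] {M : Subgroup G} (h : TyI M → IsOfTypeI M) : tA M = typeA M := by
  by_cases h1 : TyI M
  · rw [tA, typeA, if_pos h1, if_pos (h h1)]
  · rw [tA, typeA, if_neg h1, if_neg (fun h2 => h1 (TyI.of_typeI h2))]

theorem tA0_eq {G : Type u} [Group G] {M : Subgroup G} (h : TyI M → IsOfTypeI M) : tA0 M = typeA0 M := by
  have h1 : (¬ TyI M) ↔ ¬ IsOfTypeI M := ⟨fun h2 h3 => h2 (TyI.of_typeI h3), fun h2 h3 => h2 (h h3)⟩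
  rw [tA0, typeA0, tA_eq h]
  simp only [h1]

/-- `L` supports `M` -/
def Supp {G : Type u} [Group G] (L M : Subgroup G) : Prop :=
  IsCoatom L ∧ ∃ x ∈ tA0 M, ¬ Subgroup.centralizer ({x} : Set G) ≤ M ∧
    Subgroup.centralizer ({x} : Set G) ≤ L

variable (G : Type u) [Group G]

def C1380 : Prop := ∀ (M : Subgroup G), IsCoatom M → ∀ (K U : Subgroup G), IsSigmaDecomposition M K U →
    (TyI M ↔ (K = ⊥ ∧ U ≠ ⊥))

def C1381 : Prop := ∀ (M : Subgroup G), IsCoatom M → ∀ (K U : Subgroup G), IsSigmaDecomposition M K U →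
    (IsOfTypeII M ↔ (K ≠ ⊥ ∧ U ≠ ⊥))

def C1382 : Prop := ∀ (M : Subgroup G), IsCoatom M → ∀ (K U : Subgroup G), IsSigmaDecomposition M K U →
    ((IsOfTypeIII M ∨ IsOfTypeIV M) ↔ (K ≠ ⊥ ∧ U = ⊥ ∧ fittingHallOf M ≠ sigmaCore M))

def C1383 : Prop := ∀ (M : Subgroup G), IsCoatom M → ∀ (K U : Subgroup G), IsSigmaDecomposition M K U →
    (IsOfTypeV M ↔ (K ≠ ⊥ ∧ U = ⊥ ∧ fittingHallOf M = sigmaCore M))

def C1385 : Prop :=
    (∀ M : Subgroup G, IsCoatom M → TyI M) ∨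
      ∃ W₁ W₂ S T : Subgroup G, IsSelfNormalizingCyclic W₁ W₂ ∧ IsCoatom S ∧ IsCoatom T ∧
        IsComplIn ⁅S, S⁆ W₁ S ∧ IsComplIn ⁅T, T⁆ W₂ T ∧ S ⊓ T = W₁ ⊔ W₂ ∧
        (IsOfTypeII S ∨ IsOfTypeII T) ∧
        (IsOfTypeII S ∨ IsOfTypeIII S ∨ IsOfTypeIV S ∨ IsOfTypeV S) ∧
        (IsOfTypeII T ∨ IsOfTypeIII T ∨ IsOfTypeIV T ∨ IsOfTypeV T) ∧
        ∀ M : Subgroup G, IsCoatom M → TyI M ∨ ∃ g : G, M = S.map (MulAut.conj g).toMonoidHom ∨ M = T.map (MulAut.conj g).toMonoidHom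

def C1389 : Prop := ∀ (M : Subgroup G), IsCoatom M →
    (∀ (p : ℕ), p.Prime → ∀ (P : Sylow p ↥(typeCore M)), (P : Subgroup ↥(typeCore M)) ≠ ⊥ →
        Subgroup.normalizer ((((P : Subgroup ↥(typeCore M)).map (typeCore M).subtype : Subgroup G)) : Set G) ≤ M) ∧
      (Nat.card (fittingHallOf M)).Coprime (fittingHallOf M).index ∧
      (Nat.card (typeCore M)).Coprime (typeCore M).index

def C1390 : Prop := ∀ (M : Subgroup G), IsCoatom M → ∀ (U : Subgroup G),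
    ((TyI M ∧ IsComplIn (fittingHallOf M) U M) ∨ (IsOfTypeII M ∧ IsComplIn (fittingHallOf M) U ⁅M, M⁆)) →
    (∀ (p : ℕ), p.Prime → ∀ P : Sylow p U, IsMulCommutative (P : Subgroup U) ∧ PRankLE p 2 (P : Subgroup U)) ∧
      (∀ X : Set G, X ⊆ (U : Set G) \ {1} → X.Nonempty → fittingHallOf M ⊓ Subgroup.centralizer X ≠ ⊥ →
        Subgroup.centralizer X ≤ M ∧ ∀ L : Subgroup G, IsCoatom L → Subgroup.centralizer X ≤ L → L = M) ∧
      IsTISubset (tA M \ typeA1 M)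

def C1391 : Prop := ∀ (M : Subgroup G), IsCoatom M → ∀ (X : Set G), (X = tA M ∨ X = tA0 M) →
    (∀ x ∈ X, ∀ g : G, g * x * g⁻¹ ∈ X → ∃ m ∈ M, m * x * m⁻¹ = g * x * g⁻¹) ∧
      (∀ x ∈ X, ¬ Subgroup.centralizer ({x} : Set G) ≤ M → x ∈ typeA1 M ∧ ∃! L : Subgroup G, IsCoatom L ∧ Subgroup.centralizer ({x} : Set G) ≤ L) ∧
      ∀ x ∈ X, ¬ Subgroup.centralizer ({x} : Set G) ≤ M → ∀ L : Subgroup G, IsCoatom L → Subgroup.centralizer ({x} : Set G) ≤ L →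
        IsComplIn (fittingHallOf L) (M ⊓ L) L ∧
        Subgroup.centralizer ({x} : Set G) ≤ Subgroup.normalizer ((fittingHallOf L ⊓ Subgroup.centralizer ({x} : Set G) : Subgroup G) : Set G) ∧
        IsComplIn (fittingHallOf L ⊓ Subgroup.centralizer ({x} : Set G)) (M ⊓ Subgroup.centralizer ({x} : Set G)) (Subgroup.centralizer ({x} : Set G)) ∧
        (∀ y ∈ X, (Nat.card (fittingHallOf L)).Coprime (Nat.card ↥(M ⊓ Subgroup.centralizer ({y} : Set G)))) ∧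
        (x ∈ tA L ∧ x ∉ typeA1 L) ∧
        (TyI L ∨ IsOfTypeII L) ∧
        (IsOfTypeII L → ∃ E : Subgroup ↥M, IsFrobeniusComplement E ∧ frobeniusKernel E = ((fittingHall ↥M : Subgroup ↥M) : Set ↥M))

end Cfsg.Agent.H12.Ty
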