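import Mathlib
import Cfsg.Agent.H2_Ty

/-! types of maximal subgroups: type I and the type P data -/

set_option autoImplicit false
set_option linter.unusedSectionVars false

open Pointwise
open scoped commutatorElement

namespace Cfsg.Agent.H2.Ty

open Cfsg Subgroup H13.Syl H12.Loc H12.BG7 H12.BG10 H12.BG11 H12.BG12 H2.Con13 H2.BG14
open H12.BG1212

universe u

variable {G : Type u} [Group G] [Finite G]

theorem sigmaCore_lt (hG : IsMinSimpleOddOrder G) {M : Subgroup G} (hM : IsCoatom M) : sigmaCore M < M := by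
  obtain ⟨-, -, h1, h2, -⟩ := H12.BG15.s1355 hG M hM
  exact lt_of_le_of_lt h1 h2

theorem exists_TyF (hG : IsMinSimpleOddOrder G) {M U : Subgroup G} (hM : IsCoatom M) (hκ : kappa M = ∅) (hU : IsComplIn U (sigmaCore M) M) :
    ∃ U₁ U₀ : Subgroup G, TyF M U U₁ U₀ := by
  have hnil : Group.IsNilpotent (sigmaCore M) := by
    by_contra hnn
    have hall : IsPiHallOf (kappa M) ⊥ M := by
      refine ⟨bot_le, ?_, ?_⟩
      · intro p hp hd
        rw [card_bot] at hd
        exact absurd (Nat.dvd_one.1 hd) hp.one_lt.ne'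
      · intro p hp hpk
        rw [hκ] at hpk
        exact absurd hpk (Set.notMem_empty _)
    exact H12.BG15.K_ne_of_nn hG hM hall hnn rfl
  obtain ⟨⟨U₁, h1, h2, h3, h4⟩, U₀, h5, h6, h7⟩ := thm1212 hG hM hU (free_of_kappa_empty hG hM hU hκ)
  refine ⟨U₁, U₀, hκ, hnil, (sigmaCore_eq_fittingHallOf hG hM hnil).symm, hU, ?_, h1, h2, h3, h4, h5, h6, h7⟩
  rintro rfl
  have h8 := H12.Hall.compl_sup hU
  rw [bot_sup_eq] at h8
  exact (sigmaCore_lt hG hM).ne h8

/-- the type P complement `U'` of `M_F` in `M'` -/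
structure PU (M K E U U' : Subgroup G) : Prop where
  ks : KS M K E U
  nil : Group.IsNilpotent U'
  nK : K ≤ normalizer (U' : Set G)
  cmp : IsComplIn (fittingHallOf M) U' ⁅M, M⁆
  eqU : fittingHallOf M = sigmaCore M → U' = U
  neU : fittingHallOf M ≠ sigmaCore M → U = ⊥ ∧ U' ≠ ⊥ ∧ U' ≤ sigmaCore M ∧ IsPiHallOf {p | ¬ p ∣ Nat.card (fittingHallOf M)} U' (sigmaCore M)

theorem isComplIn_symm {A B M : Subgroup G} (h : IsComplIn A B M) : IsComplIn B A M := by
  refine ⟨h.2.1, h.1, by rw [inf_comm]; exact h.2.2.1, ?_⟩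
  intro m hm
  obtain ⟨a, ha, b, hb, he⟩ := h.2.2.2 m⁻¹ (inv_mem hm)
  exact ⟨b⁻¹, inv_mem hb, a⁻¹, inv_mem ha, by rw [← inv_inv m, he]; group⟩

theorem exists_PU (hG : IsMinSimpleOddOrder G) {M K E U : Subgroup G} (h : KS M K E U) : ∃ U' : Subgroup G, PU M K E U U' := by
  have hM := h.co
  have hcomm := H12.BG15.comm_eq_sup hG h
  have hFσ := fittingHallOf_le_sigmaCore hG hM
  by_cases hF : fittingHallOf M = sigmaCore M
  · refine ⟨U, h, nilp_of_comm h.comm, h.hKE.trans h.nU, ?_, fun _ => rfl, fun hn => absurd hF hn⟩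
    rw [hF, hcomm]
    have hUn : U ≤ normalizer (sigmaCore M : Set G) := h.hUM.trans (le_normalizer_sigmaCore M)
    refine ⟨le_sup_right, le_sup_left, ?_, ?_⟩
    · rw [eq_bot_iff, ← h.hE.2.2.1, inf_comm]
      exact inf_le_inf_right _ h.hUE
    · intro m hm
      rw [sup_comm] at hm
      obtain ⟨s, hs, u, hu, he⟩ := (H22.Basic.mem_sup_of_le_normalizer hUn).1 hm
      exact ⟨s, hs, u, hu, he.symm⟩
  · have hnn : ¬ Group.IsNilpotent (sigmaCore M) := fun hn => hF (sigmaCore_eq_fittingHallOf hG hM hn).symm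
    obtain ⟨hU, q, Q, D, ns⟩ := H12.BG15.thm152 hG h hnn
    have hcomm' : ⁅M, M⁆ = sigmaCore M := by rw [hcomm, hU, bot_sup_eq]
    have hcop : (Nat.card K).Coprime (Nat.card (sigmaCore M)) := ((kappa_sigmaC h.hall).coprime).symm
    have hsol := solv_le hG hM (sigmaCore_le M)
    obtain ⟨U', hU', hKU'⟩ := H12.Hall.inv_exists (A := K) (K := sigmaCore M) (h.hKM.trans (le_normalizer_sigmaCore M)) hcop hsol
      {p | ¬ p ∣ Nat.card (fittingHallOf M)}
    have hFc := H12.Core.fittingHallOf_coprime M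
    have hFhall : IsPiHallOf {p | ¬ p ∣ Nat.card (fittingHallOf M)}ᶜ (fittingHallOf M) (sigmaCore M) := by
      refine ⟨hFσ, ?_, ?_⟩
      · intro p hp hd
        simpa using hd
      · intro p hp hpm hd
        have h1 : p ∣ Nat.card (fittingHallOf M) := by simpa using hpm
        have h2 : (fittingHallOf M).relIndex (sigmaCore M) ∣ (fittingHallOf M).relIndex M :=
          ⟨_, (relIndex_mul_relIndex _ _ _ hFσ (sigmaCore_le M)).symm⟩
        exact Nat.not_coprime_of_dvd_of_dvd hp.one_lt h1 (hd.trans h2) hFc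
    have hcmp : IsComplIn U' (fittingHallOf M) (sigmaCore M) :=
      H12.Hall.isComplIn hFhall (by rw [compl_compl]; exact hU') ((sigmaCore_le M).trans (H12.Core.le_normalizer_fittingHallOf M))
    have hnil : Group.IsNilpotent U' := by
      obtain ⟨l, hl, hle⟩ := H12.Hall.hall_dom hsol ns.HD (X := U') (by
        intro p hp hd
        have h1 := hU'.2.1 p hp hd
        have h2 : q ∣ Nat.card (fittingHallOf M) := by
          haveI := Fact.mk ns.qp
          obtain ⟨n, hn⟩ := IsPGroup.iff_card.1 ns.qdk.Qp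
          have h3 : q ∣ Nat.card Q := by
            rw [hn]
            apply dvd_pow_self
            rintro rfl
            rw [pow_zero, Subgroup.card_eq_one] at hn
            exact ns.Q_ne hn
          exact h3.trans (card_dvd_of_le (ns.Q_le_F hG hM))
        intro h3
        rw [Set.mem_singleton_iff.1 h3] at h1
        exact h1 h2) hU'.1
      have h2 := H12.CN.nilpotent_of_le hle ns.Dn
      have h3 := H12.CN.isNilpotent_cj h2 l⁻¹
      rwa [cj_inv_cj] at h3
    refine ⟨U', h, hnil, hKU', ?_, fun he => absurd he hF, fun _ => ⟨hU, ?_, hU'.1, hU'⟩⟩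
    · rw [hcomm']
      exact isComplIn_symm hcmp
    · rintro rfl
      have h1 := H12.Hall.compl_sup hcmp
      rw [bot_sup_eq] at h1
      exact hF h1

theorem self_norm (hG : IsMinSimpleOddOrder G) {M K E U : Subgroup G} (h : KS M K E U) : IsSelfNormalizingCyclic K (st M K) := by
  have hC := H12.BG13.con13 hG
  obtain ⟨M', E', U', hpr⟩ := h.exists_PR' hG hC
  have hcyc : IsCyclic ↥(K ⊔ st M K) := hpr.Z_cyclic hG
  have md := h.md
  refine ⟨h.ne, h.neS, md.inf_bot, ?_, hcyc, ?_⟩
  · intro a ha b hb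
    exact mem_centralizer_iff.1 (mem_inf.1 hb).2 a ha
  · intro X hX hne
    apply le_antisymm
    · intro g hg
      obtain ⟨z, hz⟩ := hne
      obtain ⟨hzZ, hz2⟩ := hX hz
      have h1 := (hX ((mem_set_normalizer_iff.1 hg z).1 hz)).1
      obtain ⟨l, hl, s, hs, he, -⟩ := md.decomp hzZ
      refine md.conj_mem hG hC hzZ h1 hl hs he ?_ ?_
      · rintro rfl
        apply hz2
        right
        rw [← he, one_mul]; exact hs
      · rintro rfl
        apply hz2
        left
        rw [← he, mul_one]; exact hl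
    · intro g hg
      rw [mem_set_normalizer_iff]
      have hab : ∀ a ∈ K ⊔ st M K, ∀ b ∈ K ⊔ st M K, a * b = b * a := by
        intro a ha b hb
        haveI := hcyc
        exact congrArg Subtype.val ((IsCyclic.commGroup (α := ↥(K ⊔ st M K))).mul_comm ⟨a, ha⟩ ⟨b, hb⟩)
      intro z
      constructor
      · intro hz
        rw [hab g hg z (hX hz).1, mul_inv_cancel_right]; exact hz
      · intro hz
        have h1 := hX hz
        have h2 : z ∈ K ⊔ st M K := by
          have := mul_mem (mul_mem (inv_mem hg) h1.1) hg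
          simpa [mul_assoc] using this
        rwa [hab g hg z h2, mul_inv_cancel_right] at hz

theorem PU.pw (hG : IsMinSimpleOddOrder G) {M K E U U' : Subgroup G} (h : PU M K E U U') : IsTypePWith M K U' (st M K) := by
  have hC := H12.BG13.con13 hG
  have hks := h.ks
  have hM := hks.co
  obtain ⟨M', E', U'', hpr⟩ := hks.exists_PR' hG hC
  have hcomm := H12.BG15.comm_eq_sup hG hks
  have hcyc := (hpr.K_cyclic hG).1
  have hdec := hks.decomp hcyc
  obtain ⟨c1, c2, c3⟩ := H12.BG15.s1364 hG hks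
  have hKM' : K ⊓ ⁅M, M⁆ = ⊥ := by
    refine H12.Hall.inf_eq_bot (π := kappa M) (H12.Hall.pi hks.hall) ?_
    have h1 := US_hall hG hdec
    rw [hcomm]
    exact H12.Hall.pi h1
  refine ⟨hks.ne, hcyc, H12.Hall.coprime hks.hall, ?_, h.nil, h.nK, h.cmp, c3, ?_, ?_, H12.BG15.s1356c hG hM (kappa_nonempty hks), ?_, ?_, self_norm hG hks⟩
  · refine ⟨comm_le_self M, hks.hKM, by rw [inf_comm]; exact hKM', ?_⟩
    intro m hm
    rw [← H12.BG15.sup_K hG hks, sup_comm] at hm
    have hn : K ≤ normalizer ((⁅M, M⁆ : Subgroup G) : Set G) := hks.hKM.trans (H22.Basic.right_le_normalizer_commutator M M)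
    obtain ⟨s, hs, u, hu, he⟩ := (H22.Basic.mem_sup_of_le_normalizer hn).1 hm
    exact ⟨s, hs, u, hu, he.symm⟩
  · rw [sup_comm, ← H12.BG15.s1356b hG hM]
    exact H12.BG15.s1356a hG hM
  · rw [sup_comm, ← H12.BG15.s1356b hG hM]
  · exact le_inf c2 (H12.BG15.s1365 hG hks)
  · intro x hx hx1
    apply le_antisymm
    · intro y hy
      obtain ⟨hy1, hy2⟩ := mem_inf.1 hy
      have h1 : y ∈ M ⊓ centralizer ({x} : Set G) := mem_inf.2 ⟨comm_le_self M hy1, hy2⟩
      rw [hpr.cent_eq hG hx hx1] at h1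
      obtain ⟨l, hl, s, hs, rfl, -⟩ := hks.md.decomp h1
      have hsM' : s ∈ ⁅M, M⁆ := by
        rw [hcomm]; exact mem_sup_right (mem_inf.1 hs).1
      have h2 : l ∈ K ⊓ ⁅M, M⁆ := mem_inf.2 ⟨hl, by
        have := mul_mem hy1 (inv_mem hsM')
        simpa using this⟩
      rw [hKM', mem_bot] at h2
      rw [h2, one_mul]; exact hs
    · refine le_inf ?_ (inf_le_right.trans (centralizer_le (Set.singleton_subset_iff.2 hx)))
      rw [hcomm]
      exact inf_le_left.trans le_sup_right

end Cfsg.Agent.H2.Ty
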