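import Mathlib
import Cfsg.Agent.H2_Ty1
import Cfsg.Agent.H12_Ty
import Cfsg.Agent.H12_BG157

/-! types of maximal subgroups: S1381, S1382, S1384 -/

set_option autoImplicit false
set_option linter.unusedSectionVars false

open Pointwise
open scoped commutatorElement

namespace Cfsg.Agent.H2.Ty

open Cfsg Subgroup H13.Syl H12.Loc H12.BG7 H12.BG10 H12.BG11 H12.BG12 H2.Con13 H2.BG14
open H12.BG1212

universe u

variable {G : Type u} [Group G] [Finite G]

/-- BG 15.4 and 15.5 -/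
theorem s1384 (hG : IsMinSimpleOddOrder G) (H : Subgroup G) (hHn : Group.IsNilpotent H) (hHall : (Nat.card H).Coprime H.index) :
    ∀ x ∈ H, ∀ g : G, g * x * g⁻¹ ∈ H → ∃ n ∈ Subgroup.normalizer (H : Set G), n * x * n⁻¹ = g * x * g⁻¹ := by
  by_cases hHb : H = ⊥
  · subst hHb
    intro x hx g _
    rw [mem_bot] at hx
    refine ⟨1, one_mem _, ?_⟩
    rw [hx]; simp
  obtain ⟨p, hp, y, hy, hyo, hpH⟩ := exists_prime_elt hHb
  haveI := Fact.mk hp
  have hsylG : ∀ {q : ℕ} [Fact q.Prime] {Q : Subgroup G}, q ∣ Nat.card H → IsSylIn q Q H → IsSylIn q Q ⊤ := by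
    intro q hq Q hqH hQ
    refine ⟨le_top, hQ.isPGroup, ?_⟩
    intro hd
    rw [← relIndex_mul_relIndex Q H ⊤ hQ.le le_top, relIndex_top_right] at hd
    rcases hq.out.dvd_mul.1 hd with h1 | h1
    · exact hQ.not_dvd h1
    · exact Nat.not_coprime_of_dvd_of_dvd hq.out.one_lt hqH h1 hHall
  obtain ⟨S, hS⟩ := exists_isSylIn (p := p) H
  have hStop := hsylG hpH hS
  obtain ⟨s, hs, hso⟩ := sylow_ne_bot hp hS hpH
  have hSb : S ≠ ⊥ := by
    rintro rfl
    exact orderOf_ne hp hso (mem_bot.1 hs)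
  obtain ⟨M, hM, hNM⟩ := exists_isCoatom_ge (normalizer_ne_top hG hSb (ne_top_of_isPGroup hG hS.isPGroup))
  have hSH : normalizer (H : Set G) ≤ normalizer (S : Set G) := normal_of_nilpotent_sylow le_normalizer le_rfl hHn hS
  have hHM : H ≤ M := (le_normalizer.trans hSH).trans hNM
  have hSM : IsSylIn p S M := hStop.mono (hS.le.trans hHM) le_top
  have hpσ : p ∈ sigma M := sigma_of_normalizer hp (hpH.trans (card_dvd_of_le hHM)) hSM hNM
  have hSσ : S ≤ sigmaCore M := le_sigmaCore_of_pgroup hG hM hS.isPGroup hSM.le hpσ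
  have hSHall : (Nat.card S).Coprime (S.relIndex (sigmaCore M)) := by
    have h1 : IsSylIn p S (sigmaCore M) := hSM.mono hSσ (sigmaCore_le M)
    obtain ⟨n, hn⟩ := IsPGroup.iff_card.1 hS.isPGroup
    rw [hn]
    exact Nat.Coprime.pow_left _ ((Nat.Prime.coprime_iff_not_dvd hp).2 h1.not_dvd)
  have hHσ : H ≤ sigmaCore M := by
    refine le_sigmaCore_of_group hG hM hHM ?_
    intro q hq hqH
    by_contra hqσ
    haveI := Fact.mk hq
    obtain ⟨Q, hQ⟩ := exists_isSylIn (p := q) H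
    obtain ⟨z, hz, hzo⟩ := sylow_ne_bot hq hQ hqH
    have hqp : q ≠ p := by rintro rfl; exact hqσ hpσ
    have hQM : IsSylIn q Q M := (hsylG hqH hQ).mono (hQ.le.trans hHM) le_top
    have hQS : Q ≤ centralizer (S : Set G) := by
      refine H12.Core.commutator_eq_bot_of_nilpotent_coprime hHn hS.le hQ.le ((hQ.le.trans le_normalizer).trans hSH) ?_
      obtain ⟨a, ha⟩ := IsPGroup.iff_card.1 hQ.isPGroup
      obtain ⟨b, hb⟩ := IsPGroup.iff_card.1 hS.isPGroup
      rw [ha, hb]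
      exact Nat.Coprime.pow _ _ ((Nat.coprime_primes hq hp).2 hqp)
    obtain ⟨h1, h2⟩ := H12.BG15.cent_hall hG hM hSσ hSb hSHall hQM.le hQS (sigmaC_pgroup hq hQ.isPGroup hqσ)
    have h3 := h2 q hq (by rw [← hzo]; exact Subgroup.orderOf_dvd_natCard _ hz)
    exact h3.2.2.2 (pRankLE_of_isSylIn hQM (pRankLE_of_cyclic h1))
  intro x hx g hg
  have hHall' : (Nat.card H).Coprime (H.relIndex (sigmaCore M)) :=
    Nat.Coprime.coprime_dvd_right (relIndex_dvd_index_of_le hHσ) hHall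
  obtain ⟨n, hn, he⟩ := H12.BG15.thm153b hG hM hHσ hHall' x hx g hg
  exact ⟨n, (mem_inf.1 hn).2, he⟩

/-- κ(M) is nonempty for every type P datum -/
theorem kappa_of_P (hG : IsMinSimpleOddOrder G) {M W₁ V W₂ : Subgroup G} (hM : IsCoatom M) (h : IsTypePWith M W₁ V W₂) :
    ∀ p : ℕ, p.Prime → p ∣ Nat.card W₁ → p ∈ kappa M := by
  intro p hp hd
  haveI := Fact.mk hp
  have hW₁M : W₁ ≤ M := h.W₁_compl.2.1
  have hcard := H12.Core.IsComplIn_card h.W₁_compl
  have hrel := H12.Hall.relIndex_mul hW₁M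
  have hidx : W₁.relIndex M = Nat.card ↥⁅M, M⁆ := by
    rw [← hcard] at hrel
    exact Nat.eq_of_mul_eq_mul_right Nat.card_pos hrel
  have hpM' : ¬ p ∣ Nat.card ↥⁅M, M⁆ := by
    intro h1
    rw [← hidx] at h1
    exact Nat.not_coprime_of_dvd_of_dvd hp.one_lt hd h1 h.W₁_hall
  have hpσ : p ∉ sigma M := by
    intro h1
    apply hpM'
    have h2 := (H12.Hall.dvd_iff hp (sigmaCore_hallOf hG hM) h1).2 (hd.trans (card_dvd_of_le hW₁M))
    exact h2.trans (card_dvd_of_le (sigmaCore_le_commutator hG hM))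
  have hhall : IsPiHallOf {q | q ∣ Nat.card W₁} W₁ M := H12.BG15.hall_of_coprime hW₁M h.W₁_hall
  obtain ⟨P, hP⟩ := exists_isSylIn (p := p) W₁
  have hPM : IsSylIn p P M := H12.Hall.sylow_trans hhall hd hP
  have hPc : IsCyclic P := by
    haveI := h.W₁_cyclic
    exact isCyclic_of_injective (inclusion hP.le) (inclusion_injective hP.le)
  have hr1 : PRankLE p 1 M := pRankLE_of_isSylIn hPM (pRankLE_of_cyclic hPc)
  obtain ⟨x, hx, hxo⟩ := exists_elt_of_dvd hd
  refine kappa_of hG hpσ hr1 (X := zpowers x) (zpowers_le.2 (hW₁M hx)) (by rw [Nat.card_zpowers, hxo]) ?_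
  intro hb
  apply h.selfNormalizing.2.1
  rw [eq_bot_iff, ← hb, centralizer_zpowers]
  refine le_inf ((h.W₂_le.trans inf_le_left).trans (fittingHallOf_le_sigmaCore hG hM)) ?_
  rw [← h.W₂_centralizer x hx (orderOf_ne hp hxo)]
  exact inf_le_right

theorem K_ne_of_P (hG : IsMinSimpleOddOrder G) {M W₁ V W₂ K : Subgroup G} (hM : IsCoatom M) (h : IsTypePWith M W₁ V W₂)
    (hK : IsPiHallOf (kappa M) K M) : K ≠ ⊥ := by
  rintro rfl
  have h1 := kappa_empty hG hK
  obtain ⟨p, hp, x, hx, hxo, hd⟩ := exists_prime_elt h.W₁_ne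
  have h2 := kappa_of_P hG hM h p hp hd
  rw [h1] at h2
  exact h2

/-- Hall subgroups of `M_σ` have their normalizer in `M` -/
theorem norm_le_of_hall (hG : IsMinSimpleOddOrder G) {M V : Subgroup G} (hM : IsCoatom M) (hVσ : V ≤ sigmaCore M) (hVb : V ≠ ⊥)
    (hVn : Group.IsNilpotent V) (hVh : (Nat.card V).Coprime (V.relIndex (sigmaCore M))) : normalizer (V : Set G) ≤ M := by
  obtain ⟨p, hp, x, hx, hxo, hd⟩ := exists_prime_elt hVb
  haveI := Fact.mk hp
  obtain ⟨P, hP⟩ := exists_isSylIn (p := p) V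
  have hPσ : IsSylIn p P (sigmaCore M) := H12.Hall.sylow_trans (H12.BG15.hall_of_coprime hVσ hVh) hd hP
  have hpσ : p ∈ sigma M := sigmaCore_pi M p hp (hd.trans (card_dvd_of_le hVσ))
  have hPM : IsSylIn p P M := H12.Hall.sylow_trans (sigmaCore_hallOf hG hM) hpσ hPσ
  have h1 : normalizer (V : Set G) ≤ normalizer (P : Set G) := normal_of_nilpotent_sylow le_normalizer le_rfl hVn hP
  exact h1.trans (sigma_sylow_top hpσ hPM).2

theorem coprime_symm_of_compl {A B L : Subgroup G} (h : IsComplIn A B L) (hc : (Nat.card A).Coprime (A.relIndex L)) :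
    (Nat.card B).Coprime (B.relIndex L) := by
  have h1 := H12.Core.IsComplIn_card h
  have h2 := H12.Hall.relIndex_mul h.1
  have h3 := H12.Hall.relIndex_mul h.2.1
  have h4 : A.relIndex L = Nat.card B := by
    rw [← h1, mul_comm] at h2
    exact Nat.eq_of_mul_eq_mul_left Nat.card_pos h2
  have h5 : B.relIndex L = Nat.card A := by
    rw [← h1] at h3
    exact Nat.eq_of_mul_eq_mul_right Nat.card_pos h3
  rw [h5, ← h4]
  exact hc.symm

theorem fh_relIndex_coprime {M L : Subgroup G} (h1 : fittingHallOf M ≤ L) (h2 : L ≤ M) :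
    (Nat.card (fittingHallOf M)).Coprime ((fittingHallOf M).relIndex L) :=
  Nat.Coprime.coprime_dvd_right ⟨_, (relIndex_mul_relIndex _ _ _ h1 h2).symm⟩ (H12.Core.fittingHallOf_coprime M)

end Cfsg.Agent.H2.Ty
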