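import Mathlib
import Cfsg.Agent.H2_Ty2

/-! types of maximal subgroups: S1381, S1382, half of S1383, C1380 (except the alternatives) -/

set_option autoImplicit false
set_option linter.unusedSectionVars false

open Pointwise
open scoped commutatorElement

namespace Cfsg.Agent.H2.Ty

open Cfsg Subgroup H13.Syl H12.Loc H12.BG7 H12.BG10 H12.BG11 H12.BG12 H2.Con13 H2.BG14
open H12.BG1212 H12.Ty

universe u

variable {G : Type u} [Group G] [Finite G]

theorem exponent_subgroupOf {U L : Subgroup G} (h : U ≤ L) : Monoid.exponent ↥(U.subgroupOf L) = Monoid.exponent U :=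
  Monoid.exponent_eq_of_mulEquiv (subgroupOfEquivOfLe h)

/-- building Frobenius type -/
theorem typeF_of {L U U₁ U₀ : Subgroup G} (hs : Group.IsSolvable L) (ho : Odd (Nat.card L)) (hH : fittingHallOf L ≠ ⊥)
    (hU : IsComplIn (fittingHallOf L) U L) (hUb : U ≠ ⊥) (h1 : U₁ ≤ U) (h2 : U ≤ normalizer (U₁ : Set G)) (h3 : IsMulCommutative U₁)
    (h4 : ∀ x ∈ fittingHallOf L, x ≠ 1 → U ⊓ centralizer ({x} : Set G) ≤ U₁) (h5 : U₀ ≤ U)
    (h6 : Monoid.exponent U₀ = Monoid.exponent U)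
    (h7 : ∀ e ∈ U₀, e ≠ 1 → fittingHallOf L ⊓ centralizer ({e} : Set G) = ⊥) : IsOfTypeF ↥L := by
  have hUL := hU.2.1
  have hsub : (fittingHallOf L).subgroupOf L = fittingHall ↥L := H12.Core.subgroupOf_map_subtype_self _
  have hc := (H12.Core.isComplIn_iff hU.1 hUL).1 hU
  rw [hsub] at hc
  have hUb' : U.subgroupOf L ≠ ⊥ := by
    intro h
    apply hUb
    rw [eq_bot_iff]
    intro x hx
    have : (⟨x, hUL hx⟩ : L) ∈ U.subgroupOf L := mem_subgroupOf.2 hx
    rw [h, mem_bot] at this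
    exact mem_bot.2 (congrArg Subtype.val this)
  refine ⟨hs, ho, ?_, ?_, U.subgroupOf L, hUb', hc, ⟨U₁.subgroupOf L, ?_, ?_, ?_, ?_⟩, U₀.subgroupOf L, ?_, ?_, ?_⟩
  · intro h
    apply hH
    rw [fittingHallOf, h, Subgroup.map_bot]
  · intro h
    apply hUb'
    rw [h] at hc
    exact (isComplement'_top_left.1 hc)
  · exact fun x hx => h1 hx
  · intro u hu
    rw [mem_normalizer_iff]
    intro x
    exact mem_normalizer_iff.1 (h2 (mem_subgroupOf.1 hu)) (x : G)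
  · refine ⟨⟨fun a b => ?_⟩⟩
    have := h3.is_comm.comm (⟨(a : L), mem_subgroupOf.1 a.2⟩ : U₁) ⟨(b : L), mem_subgroupOf.1 b.2⟩
    have h' : ((a : L) : G) * ((b : L) : G) = ((b : L) : G) * ((a : L) : G) := congrArg Subtype.val this
    exact Subtype.ext (Subtype.ext h')
  · intro x hx hx1 u hu
    obtain ⟨hu1, hu2⟩ := mem_inf.1 hu
    refine h4 (x : G) ?_ (fun h => hx1 (Subtype.ext h)) (mem_inf.2 ⟨hu1, ?_⟩)
    · exact mem_map_of_mem _ hx
    · rw [mem_centralizer_singleton_iff] at hu2 ⊢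
      exact congrArg Subtype.val hu2
  · exact fun x hx => h5 hx
  · rw [exponent_subgroupOf (h5.trans hUL), exponent_subgroupOf hUL, h6]
  · intro u hu hu1 x hx hux
    have h8 := h7 (u : G) hu (fun h => hu1 (Subtype.ext h))
    have h9 : (x : G) ∈ fittingHallOf L ⊓ centralizer ({(u : G)} : Set G) :=
      mem_inf.2 ⟨mem_map_of_mem _ hx, mem_centralizer_singleton_iff.2 (congrArg Subtype.val hux.symm)⟩
    rw [h8, mem_bot] at h9
    exact Subtype.ext h9

theorem cardK_eq {M K E U : Subgroup G} (hG : IsMinSimpleOddOrder G) (h : KS M K E U) {U' : Subgroup G} (hp : PU M K E U U') :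
    (Nat.card ↥⁅M, M⁆).Coprime ((⁅M, M⁆ : Subgroup G).relIndex M) := by
  have h1 := hp.pw hG
  exact coprime_symm_of_compl (isComplIn_symm h1.W₁_compl) h1.W₁_hall

/-- `(M')_F = M_F` -/
theorem comm_fh (hG : IsMinSimpleOddOrder G) {M K E U : Subgroup G} (h : KS M K E U) : fittingHallOf ⁅M, M⁆ = fittingHallOf M := by
  obtain ⟨U', hp⟩ := exists_PU hG h
  have hM := h.co
  have hcop := cardK_eq hG h hp
  have hFM' : fittingHallOf M ≤ ⁅M, M⁆ := (fittingHallOf_le_sigmaCore hG hM).trans (sigmaCore_le_commutator hG hM)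
  have hMM' : ⁅M, M⁆ ≤ M := comm_le_self M
  apply le_antisymm
  · have h1 : fittingHallOf ⁅M, M⁆ ≤ ⁅M, M⁆ := H12.Core.fittingHallOf_le _
    refine H12.Core.le_fittingHallOf (h1.trans hMM') ?_ (H12.Core.fittingHallOf_isNilpotent _) ?_
    · exact (H22.Basic.right_le_normalizer_commutator M M).trans (H12.Core.normalizer_le_normalizer_fittingHallOf _)
    · rw [← relIndex_mul_relIndex _ _ _ h1 hMM']
      exact Nat.Coprime.mul_right (H12.Core.fittingHallOf_coprime _) (Nat.Coprime.coprime_dvd_left (card_dvd_of_le h1) hcop)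
  · exact H12.Core.le_fittingHallOf hFM' (hMM'.trans (H12.Core.le_normalizer_fittingHallOf M)) (H12.Core.fittingHallOf_isNilpotent M)
      (fh_relIndex_coprime hFM' hMM')

theorem odd_sub (hG : IsMinSimpleOddOrder G) (L : Subgroup G) : Odd (Nat.card L) := odd_card_subgroup hG L

theorem typeII_of (hG : IsMinSimpleOddOrder G) {M K U : Subgroup G} (hM : IsCoatom M) (hKU : IsSigmaDecomposition M K U)
    (hK : K ≠ ⊥) (hU : U ≠ ⊥) : IsOfTypeII M := by
  have hC := H12.BG13.con13 hG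
  have h := KS_of_decomp hG hC hM hKU hK
  obtain ⟨g1, g2, g3, g4, g5⟩ := h.g hG hU
  obtain ⟨k1, k2, k3⟩ := H12.BG157.s1372 hG hM hKU hK hU
  obtain ⟨-, n2⟩ := s1363 hG hC M hM K U hKU hK
  obtain ⟨U', hp⟩ := exists_PU hG h
  have hF : fittingHallOf M = sigmaCore M := (sigmaCore_eq_fittingHallOf hG hM g3).symm
  have hU' := hp.eqU hF
  subst hU'
  have hF' := comm_fh hG h
  obtain ⟨U₀, u1, u2, u3⟩ := h.exists_U0 hG
  refine ⟨K, _, _, hp.pw hG, hU, g2, k2, h.comm, n2, ?_, hF'⟩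
  refine typeF_of (U₁ := _) (U₀ := U₀) (solv_le hG hM (comm_le_self M)) (odd_sub hG _) ?_ ?_ hU le_rfl le_normalizer h.comm ?_ u1 u2 ?_
  · rw [hF', hF]; exact sigmaCore_ne_bot hG hM
  · rw [hF']; exact hp.cmp
  · intro x _ _; exact inf_le_left
  · rw [hF', hF]; exact u3

theorem U_bot_iff (hG : IsMinSimpleOddOrder G) {M K E U : Subgroup G} (h : KS M K E U) : U = ⊥ ↔ ⁅M, M⁆ = sigmaCore M := by
  rw [H12.BG15.comm_eq_sup hG h]
  constructor
  · rintro rfl
    rw [bot_sup_eq]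
  · intro he
    have h1 : U ≤ sigmaCore M := by rw [← he]; exact le_sup_left
    have h2 : U ≤ E ⊓ sigmaCore M := le_inf h.hUE h1
    rwa [h.hE.2.2.1, le_bot_iff] at h2

/-- the type-P complement in the case `M' = M_σ` has its normalizer in `M` -/
theorem norm_V (hG : IsMinSimpleOddOrder G) {M V : Subgroup G} (hM : IsCoatom M) (hc : ⁅M, M⁆ = sigmaCore M)
    (hV : IsComplIn (fittingHallOf M) V ⁅M, M⁆) (hVn : Group.IsNilpotent V) (hVb : V ≠ ⊥) : normalizer (V : Set G) ≤ M := by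
  rw [hc] at hV
  exact norm_le_of_hall hG hM hV.2.1 hVb hVn (coprime_symm_of_compl hV (fh_relIndex_coprime hV.1 (sigmaCore_le M)))

theorem c1381 (hG : IsMinSimpleOddOrder G) (M : Subgroup G) (hM : IsCoatom M) (K U : Subgroup G) (hKU : IsSigmaDecomposition M K U) :
    IsOfTypeII M ↔ (K ≠ ⊥ ∧ U ≠ ⊥) := by
  have hC := H12.BG13.con13 hG
  constructor
  · rintro ⟨W₁, V, W₂, hP, hVb, -, -, -, hVn, -, -⟩
    have hK := K_ne_of_P hG hM hP hKU.hall
    refine ⟨hK, ?_⟩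
    intro hU
    have h := KS_of_decomp hG hC hM hKU hK
    exact hVn (norm_V hG hM ((U_bot_iff hG h).1 hU) hP.U_compl hP.U_nilpotent hVb)
  · rintro ⟨h1, h2⟩
    exact typeII_of hG hM hKU h1 h2

/-- two complements of `M_σ = M_F` in `M'` are conjugate in `M` -/
theorem compl_conj (hG : IsMinSimpleOddOrder G) {M K E U V : Subgroup G} (h : KS M K E U) (hF : fittingHallOf M = sigmaCore M)
    (hV : IsComplIn (fittingHallOf M) V ⁅M, M⁆) : ∃ m ∈ M, cj m V = U := by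
  have hM := h.co
  obtain ⟨U', hp⟩ := exists_PU hG h
  have hU' := hp.eqU hF
  subst hU'
  have hFc := fh_relIndex_coprime hV.1 (comm_le_self M)
  have hFh := H12.BG15.hall_of_coprime hV.1 hFc
  have h1 := H12.Hall.of_compl hFh (isComplIn_symm hV)
  have h2 := H12.Hall.of_compl hFh (isComplIn_symm hp.cmp)
  obtain ⟨m, hm, he⟩ := H12.Hall.hall_conj (solv_le hG hM (comm_le_self M)) h1 h2
  exact ⟨m, comm_le_self M hm, he⟩

theorem c1382 (hG : IsMinSimpleOddOrder G) (M : Subgroup G) (hM : IsCoatom M) (K U : Subgroup G) (hKU : IsSigmaDecomposition M K U) :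
    (IsOfTypeIII M ∨ IsOfTypeIV M) ↔ (K ≠ ⊥ ∧ U = ⊥ ∧ fittingHallOf M ≠ sigmaCore M) := by
  have hC := H12.BG13.con13 hG
  have key : ∀ W₁ V W₂ : Subgroup G, IsTypePWith M W₁ V W₂ → V ≠ ⊥ → normalizer (V : Set G) ≤ M →
      (K ≠ ⊥ ∧ U = ⊥ ∧ fittingHallOf M ≠ sigmaCore M) := by
    intro W₁ V W₂ hP hVb hVn
    have hK := K_ne_of_P hG hM hP hKU.hall
    have h := KS_of_decomp hG hC hM hKU hK
    have hU : U = ⊥ := by
      by_contra hU
      obtain ⟨g1, g2, g3, g4, g5⟩ := h.g hG hU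
      have hF : fittingHallOf M = sigmaCore M := (sigmaCore_eq_fittingHallOf hG hM g3).symm
      obtain ⟨m, hm, he⟩ := compl_conj hG h hF hP.U_compl
      apply (s1363 hG hC M hM K U hKU hK).2
      rw [← he]
      intro g hg
      have h1 : m⁻¹ * g * m ∈ normalizer (V : Set G) := by
        rw [mem_normalizer_iff_cj] at hg ⊢
        rw [cj_mul, cj_mul, hg, cj_inv_cj]
      have h2 := hVn h1
      have h3 := mul_mem (mul_mem hm h2) (inv_mem hm)
      have h4 : m * (m⁻¹ * g * m) * m⁻¹ = g := by group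
      rwa [h4] at h3
    refine ⟨hK, hU, ?_⟩
    intro hF
    have h1 := hP.U_compl
    rw [hF, (U_bot_iff hG h).1 hU] at h1
    apply hVb
    rw [eq_bot_iff, ← h1.2.2.1]
    exact le_inf h1.2.1 le_rfl
  constructor
  · rintro (⟨W₁, V, W₂, hP, hVb, -, -, -, hVn⟩ | ⟨W₁, V, W₂, hP, hVb, -, -, -, hVn⟩)
    · exact key W₁ V W₂ hP hVb hVn
    · exact key W₁ V W₂ hP hVb hVn
  · rintro ⟨hK, hU, hF⟩
    have h := KS_of_decomp hG hC hM hKU hK
    obtain ⟨U', hp⟩ := exists_PU hG h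
    obtain ⟨n1, n2, n3, n4⟩ := hp.neU hF
    obtain ⟨k1, k2, k3⟩ := H12.BG157.s1357 hG hM hKU hF
    have hn := norm_V hG hM ((U_bot_iff hG h).1 hU) hp.cmp hp.nil n2
    by_cases hab : IsMulCommutative U'
    · exact Or.inl ⟨K, U', _, hp.pw hG, n2, k3, k2, hab, hn⟩
    · exact Or.inr ⟨K, U', _, hp.pw hG, n2, k3, k2, hab, hn⟩

theorem c1383_mp (hG : IsMinSimpleOddOrder G) (M : Subgroup G) (hM : IsCoatom M) (K U : Subgroup G) (hKU : IsSigmaDecomposition M K U)
    (hV : IsOfTypeV M) : K ≠ ⊥ ∧ U = ⊥ ∧ fittingHallOf M = sigmaCore M := by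
  have hC := H12.BG13.con13 hG
  obtain ⟨W₁, V, W₂, hP, hVb, -⟩ := hV
  have hK := K_ne_of_P hG hM hP hKU.hall
  have h := KS_of_decomp hG hC hM hKU hK
  have h1 := H12.Hall.compl_sup hP.U_compl
  rw [hVb, sup_bot_eq] at h1
  have h2 := fittingHallOf_le_sigmaCore hG hM
  have h3 := sigmaCore_le_commutator hG hM
  have h4 : fittingHallOf M = sigmaCore M := le_antisymm h2 (by rw [h1]; exact h3)
  exact ⟨hK, (U_bot_iff hG h).2 (h1.symm.trans h4), h4⟩

/-- Frobenius type implies `κ(M) = ∅` -/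
theorem kappa_of_typeF (hG : IsMinSimpleOddOrder G) {M : Subgroup G} (hM : IsCoatom M) (hF : IsOfTypeF ↥M) : kappa M = ∅ := by
  have hC := H12.BG13.con13 hG
  by_contra hk
  obtain ⟨K, E, U, h⟩ := exists_KS_of_kappa hG hC hM (Set.nonempty_iff_ne_empty.2 hk)
  obtain ⟨p, hp, k, hk, hko, hpK⟩ := exists_prime_elt h.ne
  haveI := Fact.mk hp
  have hpκ : p ∈ kappa M := h.hall.2.1 p hp hpK
  obtain ⟨-, -, hFb, hFt, V, hVb, hVc, -, V₀, hV₀, hexp, hfree⟩ := hF
  have hpσ : p ∉ sigma M := (kappa_spec hG hpκ).2.2.1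
  have hpM : p ∣ Nat.card M := (kappa_spec hG hpκ).2.1
  have hpF : ¬ p ∣ Nat.card (fittingHall ↥M) := by
    intro hd
    have h1 : Nat.card (fittingHallOf M) = Nat.card (fittingHall ↥M) := card_map_of_injective M.subtype_injective
    rw [← h1] at hd
    exact hpσ (sigmaCore_pi M p hp (hd.trans (card_dvd_of_le (fittingHallOf_le_sigmaCore hG hM))))
  have hpV : p ∣ Nat.card V := by
    have h1 := hVc.card_mul
    rw [← h1] at hpM
    exact (hp.dvd_mul.1 hpM).resolve_left hpF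
  obtain ⟨v, hv⟩ := exists_prime_orderOf_dvd_card' (G := V) p hpV
  have hpe : p ∣ Monoid.exponent V := by rw [← hv]; exact Monoid.order_dvd_exponent v
  rw [← hexp] at hpe
  have hpV₀ : p ∣ Nat.card V₀ := hpe.trans Group.exponent_dvd_nat_card
  obtain ⟨w, hw⟩ := exists_prime_orderOf_dvd_card' (G := V₀) p hpV₀
  have hwo : orderOf ((w : M) : G) = p := by rw [orderOf_coe, orderOf_coe, hw]
  have hwM : ((w : M) : G) ∈ M := (w : M).2
  have hw1 : (w : M) ≠ 1 := by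
    intro h1
    rw [h1] at hwo
    simp at hwo
    exact hp.one_lt.ne hwo
  obtain ⟨m, hm, hle⟩ := H12.Hall.hall_dom (solvable_of_ne_top hG hM.1) h.hall (X := zpowers ((w : M) : G)) (by
    rw [Nat.card_zpowers, hwo]
    intro q hq hd
    rw [(Nat.prime_dvd_prime_iff_eq hq hp).1 hd]; exact hpκ) (zpowers_le.2 hwM)
  have hmw : m * ((w : M) : G) * m⁻¹ ∈ K := hle (conj_mem_cj (mem_zpowers _))
  obtain ⟨y, hy, hy1⟩ := exists_ne_one h.neS
  have hyF : y ∈ fittingHallOf M := (H12.BG15.s1364 hG h).2.1 hy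
  have hyc := mem_centralizer_iff.1 (mem_inf.1 hy).2 _ hmw
  have h2 : m⁻¹ * y * m ∈ fittingHallOf M := by
    have := (mem_normalizer_iff.1 (H12.Core.le_normalizer_fittingHallOf M (inv_mem hm)) y).1 hyF
    simpa using this
  obtain ⟨f, hf, hfe⟩ := h2
  have h3 : (w : M) * f = f * (w : M) := by
    apply Subtype.ext
    show ((w : M) : G) * (f : G) = (f : G) * ((w : M) : G)
    have hfe' : (f : G) = m⁻¹ * y * m := hfe
    rw [hfe']
    have h4 : ((w : M) : G) * (m⁻¹ * y * m) = m⁻¹ * ((m * ((w : M) : G) * m⁻¹) * y) * m := by group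
    have h5 : (m⁻¹ * y * m) * ((w : M) : G) = m⁻¹ * (y * (m * ((w : M) : G) * m⁻¹)) * m := by group
    rw [h4, h5, hyc]
  have h6 := hfree (w : M) w.2 hw1 f hf h3
  apply hy1
  have hfe' : (f : G) = m⁻¹ * y * m := hfe
  rw [h6] at hfe'
  have h7 : y = m * (m⁻¹ * y * m) * m⁻¹ := by group
  rw [h7, ← hfe']
  simp

theorem exp_quot {M F U : Subgroup G} (hF : F ≤ M) [(F.subgroupOf M).Normal] (hU : IsComplIn F U M) :
    Monoid.exponent (↥M ⧸ F.subgroupOf M) ∣ Monoid.exponent U := by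
  apply Monoid.exponent_dvd_of_forall_pow_eq_one
  intro q
  obtain ⟨⟨m, hm⟩, rfl⟩ := QuotientGroup.mk_surjective q
  obtain ⟨f, hf, u, hu, rfl⟩ := hU.2.2.2 m hm
  have h1 : ((⟨f * u, hm⟩ : M) : ↥M ⧸ F.subgroupOf M) = ((⟨u, hU.2.1 hu⟩ : M) : ↥M ⧸ F.subgroupOf M) := by
    have h2 : (⟨f * u, hm⟩ : M) = ⟨f, hU.1 hf⟩ * ⟨u, hU.2.1 hu⟩ := rfl
    rw [h2, QuotientGroup.mk_mul, (QuotientGroup.eq_one_iff _).2 (mem_subgroupOf.2 hf), one_mul]
  rw [h1, ← QuotientGroup.mk_pow, QuotientGroup.eq_one_iff]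
  have h3 : (⟨u, hU.2.1 hu⟩ : M) ^ Monoid.exponent U = 1 := by
    have h4 := Monoid.pow_exponent_eq_one (⟨u, hu⟩ : U)
    have h5 : u ^ Monoid.exponent U = 1 := congrArg Subtype.val h4
    exact Subtype.ext h5
  rw [h3]
  exact one_mem _

theorem typeF_of_kappa (hG : IsMinSimpleOddOrder G) {M U : Subgroup G} (hM : IsCoatom M) (hκ : kappa M = ∅)
    (hU : IsComplIn U (sigmaCore M) M) : IsOfTypeF ↥M := by
  obtain ⟨U₁, U₀, h⟩ := exists_TyF hG hM hκ hU
  refine typeF_of (U := U) (U₁ := U₁) (U₀ := U₀) (solvable_of_ne_top hG hM.1) (odd_sub hG _) ?_ ?_ h.ne h.U₁le h.U₁n h.U₁ab ?_ h.U₀le h.U₀e ?_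
  · rw [h.fh]; exact sigmaCore_ne_bot hG hM
  · rw [h.fh]; exact isComplIn_symm h.cmp
  · rw [h.fh]; exact h.U₁c
  · rw [h.fh]; exact h.U₀f

end Cfsg.Agent.H2.Ty
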