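import Mathlib
import Cfsg.Agent.H2_Ty3
import Cfsg.Agent.H12_BG157b

/-! types of maximal subgroups: C1380, C1383, C1385, the bridge `TyI ↔ κ = ∅` -/

set_option autoImplicit false
set_option linter.unusedSectionVars false

open Pointwise
open scoped commutatorElement

namespace Cfsg.Agent.H2.Ty

open Cfsg Subgroup H13.Syl H12.Loc H12.BG7 H12.BG10 H12.BG11 H12.BG12 H2.Con13 H2.BG14
open H12.BG1212 H12.Ty

universe u

variable {G : Type u} [Group G] [Finite G]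

theorem ti_fh (hG : IsMinSimpleOddOrder G) {M : Subgroup G} (hM : IsCoatom M) (h : IsTISubset (fittingOf M : Set G)) :
    IsTISubset (fittingHallOf M : Set G) := by
  intro g hg x hx hgx
  have hle : fittingHallOf M ≤ fittingOf M := H12.Core.fittingHallOf_le_fittingOf M
  have hn := H12.BG157.norm_fitting hG hM
  refine h g (fun h1 => hg ?_) x (hle hx) (hle hgx)
  rw [hn] at h1
  exact H12.Core.le_normalizer_fittingHallOf M h1

theorem exp_quot' {M U : Subgroup G} (N : Subgroup M) [N.Normal] (hU : IsComplIn (N.map M.subtype) U M) :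
    Monoid.exponent (↥M ⧸ N) ∣ Monoid.exponent U := by
  apply Monoid.exponent_dvd_of_forall_pow_eq_one
  intro q
  obtain ⟨⟨m, hm⟩, rfl⟩ := QuotientGroup.mk_surjective q
  obtain ⟨f, hf, u, hu, rfl⟩ := hU.2.2.2 m hm
  obtain ⟨f', hf', hfe⟩ := hf
  have h1 : ((⟨f * u, hm⟩ : M) : ↥M ⧸ N) = ((⟨u, hU.2.1 hu⟩ : M) : ↥M ⧸ N) := by
    have h2 : (⟨f * u, hm⟩ : M) = f' * ⟨u, hU.2.1 hu⟩ := Subtype.ext (by
      show f * u = (f' : G) * u
      rw [← hfe]; rfl)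
    rw [h2, QuotientGroup.mk_mul, (QuotientGroup.eq_one_iff _).2 hf', one_mul]
  rw [h1, ← QuotientGroup.mk_pow, QuotientGroup.eq_one_iff]
  have h3 : (⟨u, hU.2.1 hu⟩ : M) ^ Monoid.exponent U = 1 := by
    have h4 := Monoid.pow_exponent_eq_one (⟨u, hu⟩ : U)
    have h5 : u ^ Monoid.exponent U = 1 := congrArg Subtype.val h4
    exact Subtype.ext h5
  rw [h3]
  exact one_mem _

theorem tyI_of_kappa (hG : IsMinSimpleOddOrder G) {M : Subgroup G} (hM : IsCoatom M) (hκ : kappa M = ∅) : TyI M := by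
  obtain ⟨E, -, hE⟩ := exists_E hG hM (K := ⊥) bot_le (by
    intro p hp hd
    rw [Subgroup.card_bot] at hd
    exact absurd (Nat.dvd_one.1 hd) hp.one_lt.ne')
  obtain ⟨U₁, U₀, hT⟩ := exists_TyF hG hM hκ hE
  refine ⟨typeF_of_kappa hG hM hκ hE, ?_⟩
  rcases H12.BG157.ti_or hG hM with h | ⟨g, x, p, h⟩
  · exact Or.inl (ti_fh hG hM h)
  · haveI := Fact.mk h.hp
    obtain ⟨P, hP⟩ := exists_isSylIn (p := p) (sigmaCore M)
    by_cases hPab : IsMulCommutative P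
    · obtain ⟨h1, h2, h3, -⟩ := h.abel hG hP hPab
      exact Or.inr (Or.inl ⟨h1, h2, h3⟩)
    · right; right
      intro q hq hd
      have hqσ : q ∈ sigma M := sigmaCore_pi M q hq (hd.trans (card_dvd_of_le (fittingHallOf_le_sigmaCore hG hM)))
      have h1 := h.expo hG hP hPab hκ hE hqσ
      refine (exp_quot' (U := E) (fittingHall ↥M) ?_).trans h1
      have h2 : (fittingHall ↥M).map M.subtype = sigmaCore M := hT.fh
      rw [h2]
      exact isComplIn_symm hE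

theorem tyI_iff (hG : IsMinSimpleOddOrder G) {M : Subgroup G} (hM : IsCoatom M) : TyI M ↔ kappa M = ∅ :=
  ⟨fun h => kappa_of_typeF hG hM h.1, tyI_of_kappa hG hM⟩

theorem K_bot_of_kappa (hG : IsMinSimpleOddOrder G) {M K : Subgroup G} (hκ : kappa M = ∅) (hK : IsPiHallOf (kappa M) K M) : K = ⊥ := by
  by_contra hne
  obtain ⟨p, hp, x, hx, hxo, hd⟩ := exists_prime_elt hne
  have := hK.2.1 p hp hd
  rw [hκ] at this
  exact this

theorem c1380 (hG : IsMinSimpleOddOrder G) (M : Subgroup G) (hM : IsCoatom M) (K U : Subgroup G) (hKU : IsSigmaDecomposition M K U) :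
    TyI M ↔ (K = ⊥ ∧ U ≠ ⊥) := by
  rw [tyI_iff hG hM]
  constructor
  · intro hκ
    have hK := K_bot_of_kappa hG hκ hKU.hall
    refine ⟨hK, ?_⟩
    rintro rfl
    subst hK
    have h1 := H12.Hall.compl_sup (decomp_bot hKU)
    rw [bot_sup_eq] at h1
    exact (sigmaCore_lt hG hM).ne h1
  · rintro ⟨hK, -⟩
    subst hK
    exact kappa_empty hG hKU.hall

theorem c1383 (hG : IsMinSimpleOddOrder G) (M : Subgroup G) (hM : IsCoatom M) (K U : Subgroup G) (hKU : IsSigmaDecomposition M K U) :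
    IsOfTypeV M ↔ (K ≠ ⊥ ∧ U = ⊥ ∧ fittingHallOf M = sigmaCore M) := by
  refine ⟨c1383_mp hG M hM K U hKU, ?_⟩
  rintro ⟨hK, hU, hF⟩
  have hC := H12.BG13.con13 hG
  have h := KS_of_decomp hG hC hM hKU hK
  obtain ⟨U', hp⟩ := exists_PU hG h
  have hU' : U' = ⊥ := (hp.eqU hF).trans hU
  refine ⟨K, U', _, hp.pw hG, hU', ?_⟩
  rcases H12.BG157.ti_or hG hM with h1 | ⟨g, x, p, h1⟩
  · exact Or.inl (ti_fh hG hM h1)
  · have hne : kappa M ≠ ∅ := (kappa_nonempty h).ne_empty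
    haveI := Fact.mk h1.hp
    rcases h1.tri hG with ⟨-, -, -, h2⟩ | ⟨h2, h3, h4⟩
    · exact absurd h2 hne
    · rcases h4 with ⟨h4, -⟩ | h4
      · exact absurd h4 hne
      · obtain ⟨-, h5⟩ := h4 K _ U h
        rcases h5 with h5 | ⟨h5, h6⟩
        · exact Or.inr (Or.inl ⟨p, h1.hp, h2, h5, h3⟩)
        · exact Or.inr (Or.inr ⟨p, h1.hp, h2, h5, h6, h3⟩)

theorem types_of_KS (hG : IsMinSimpleOddOrder G) {M K E U : Subgroup G} (h : KS M K E U) :
    IsOfTypeII M ∨ IsOfTypeIII M ∨ IsOfTypeIV M ∨ IsOfTypeV M := by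
  have hC := H12.BG13.con13 hG
  have hd := h.decomp (K_cyc hG hC h.co h.hall)
  by_cases hU : U = ⊥
  · by_cases hF : fittingHallOf M = sigmaCore M
    · exact Or.inr (Or.inr (Or.inr ((c1383 hG M h.co K U hd).2 ⟨h.ne, hU, hF⟩)))
    · rcases (c1382 hG M h.co K U hd).2 ⟨h.ne, hU, hF⟩ with h1 | h1
      · exact Or.inr (Or.inl h1)
      · exact Or.inr (Or.inr (Or.inl h1))
  · exact Or.inl ((c1381 hG M h.co K U hd).2 ⟨h.ne, hU⟩)

/-- the dichotomy, with all the data -/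
theorem dichotomy (hG : IsMinSimpleOddOrder G) : (∀ M : Subgroup G, IsCoatom M → kappa M = ∅) ∨
    ∃ S T W₁ W₂ E U E' U' V V' : Subgroup G, PR S W₁ E U T W₂ E' U' ∧ PU S W₁ E U V ∧ PU T W₂ E' U' V' ∧
      IsTypePWith S W₁ V W₂ ∧ IsTypePWith T W₂ V' W₁ := by
  have hC := H12.BG13.con13 hG
  by_cases h : ∀ M : Subgroup G, IsCoatom M → kappa M = ∅
  · exact Or.inl h
  · right
    push Not at h
    obtain ⟨S, hS, hk⟩ := h
    obtain ⟨K, E, U, hKS⟩ := exists_KS_of_kappa hG hC hS hk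
    obtain ⟨T, E', U', hpr⟩ := hKS.exists_PR' hG hC
    obtain ⟨V, hV⟩ := exists_PU hG hpr.h
    obtain ⟨V', hV'⟩ := exists_PU hG hpr.h'
    refine ⟨S, T, K, st S K, E, U, E', U', V, V', hpr, hV, hV', hV.pw hG, ?_⟩
    have := hV'.pw hG
    rwa [hpr.e'] at this

theorem c1385 (hG : IsMinSimpleOddOrder G) : C1385 G := by
  have hC := H12.BG13.con13 hG
  rcases dichotomy hG with h | ⟨S, T, W₁, W₂, E, U, E', U', V, V', hpr, hV, hV', h1, h2⟩
  · exact Or.inl fun M hM => tyI_of_kappa hG hM (h M hM)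
  · right
    refine ⟨W₁, W₂, S, T, h1.selfNormalizing, hpr.h.co, hpr.h'.co, h1.W₁_compl, h2.W₁_compl, hpr.inf_eq hG hC, ?_, types_of_KS hG hpr.h, types_of_KS hG hpr.h', ?_⟩
    · rcases hpr.u with h3 | h3
      · exact Or.inl ((c1381 hG S hpr.h.co W₁ U (hpr.h.decomp h1.W₁_cyclic)).2 ⟨hpr.h.ne, h3⟩)
      · exact Or.inr ((c1381 hG T hpr.h'.co W₂ U' (hpr.h'.decomp h2.W₁_cyclic)).2 ⟨hpr.h'.ne, h3⟩)
    · intro M hM
      by_cases hκ : kappa M = ∅
      · exact Or.inl (tyI_of_kappa hG hM hκ)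
      · right
        obtain ⟨K, E₂, U₂, h3⟩ := exists_KS_of_kappa hG hC hM (Set.nonempty_iff_ne_empty.2 hκ)
        exact hpr.two_classes hG hC h3

/-- `M_s = M_σ` -/
theorem typeCore_eq (hG : IsMinSimpleOddOrder G) {M : Subgroup G} (hM : IsCoatom M) : typeCore M = sigmaCore M := by
  have hC := H12.BG13.con13 hG
  by_cases hκ : kappa M = ∅
  · obtain ⟨E, -, hE⟩ := exists_E hG hM (K := ⊥) bot_le (by
      intro p hp hd
      rw [Subgroup.card_bot] at hd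
      exact absurd (Nat.dvd_one.1 hd) hp.one_lt.ne')
    obtain ⟨U₁, U₀, hT⟩ := exists_TyF hG hM hκ hE
    rw [typeCore, if_neg, hT.fh]
    intro h
    have h1 : ∃ W₁ U W₂ : Subgroup G, IsTypePWith M W₁ U W₂ := by
      rcases h with ⟨a, b, c, h, -⟩ | ⟨a, b, c, h, -⟩
      · exact ⟨a, b, c, h⟩
      · exact ⟨a, b, c, h⟩
    obtain ⟨a, b, c, h1⟩ := h1
    obtain ⟨p, hp, x, hx, hxo, hd⟩ := exists_prime_elt h1.W₁_ne
    have := kappa_of_P hG hM h1 p hp hd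
    rw [hκ] at this
    exact this
  · obtain ⟨K, E, U, h⟩ := exists_KS_of_kappa hG hC hM (Set.nonempty_iff_ne_empty.2 hκ)
    have hd := h.decomp (K_cyc hG hC h.co h.hall)
    by_cases h34 : IsOfTypeIII M ∨ IsOfTypeIV M
    · rw [typeCore, if_pos h34]
      exact (U_bot_iff hG h).1 ((c1382 hG M hM K U hd).1 h34).2.1
    · rw [typeCore, if_neg h34]
      by_contra hF
      obtain ⟨U', hp⟩ := exists_PU hG h
      exact h34 ((c1382 hG M hM K U hd).2 ⟨h.ne, (hp.neU hF).1, hF⟩)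

theorem typeA1_eq (hG : IsMinSimpleOddOrder G) {M : Subgroup G} (hM : IsCoatom M) : typeA1 M = (sigmaCore M : Set G) \ {1} := by
  rw [typeA1, typeCore_eq hG hM]

theorem tA_kappa_empty (hG : IsMinSimpleOddOrder G) {M : Subgroup G} (hM : IsCoatom M) (hκ : kappa M = ∅) :
    H12.Ty.tA M = {a | a ∈ M ∧ a ≠ 1 ∧ ∃ x ∈ sigmaCore M, x ≠ 1 ∧ a * x = x * a} := by
  obtain ⟨E, -, hE⟩ := exists_E hG hM (K := ⊥) bot_le (by
      intro p hp hd
      rw [Subgroup.card_bot] at hd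
      exact absurd (Nat.dvd_one.1 hd) hp.one_lt.ne')
  obtain ⟨U₁, U₀, hT⟩ := exists_TyF hG hM hκ hE
  rw [H12.Ty.tA, if_pos (tyI_of_kappa hG hM hκ), hT.fh]

theorem tA_kappa_ne (hG : IsMinSimpleOddOrder G) {M : Subgroup G} (hM : IsCoatom M) (hκ : kappa M ≠ ∅) :
    H12.Ty.tA M = {a | a ∈ ⁅M, M⁆ ∧ a ≠ 1 ∧ ∃ x ∈ sigmaCore M, x ≠ 1 ∧ a * x = x * a} := by
  rw [H12.Ty.tA, if_neg (fun h => hκ ((tyI_iff hG hM).1 h)), typeCore_eq hG hM]

theorem mem_tA_iff (hG : IsMinSimpleOddOrder G) {M K U : Subgroup G} (hM : IsCoatom M) (hKU : IsSigmaDecomposition M K U) {a : G} :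
    a ∈ H12.Ty.tA M ↔ a ∈ sigmaA M U ∧ a ≠ 1 := by
  have hC := H12.BG13.con13 hG
  by_cases hκ : kappa M = ∅
  · have hK := K_bot_of_kappa hG hκ hKU.hall
    subst hK
    rw [tA_kappa_empty hG hM hκ]
    have h1 := H12.Hall.compl_sup (decomp_bot hKU)
    constructor
    · rintro ⟨h2, h3, h4⟩
      exact ⟨⟨⟨h2, h4⟩, by rw [h1]; exact h2⟩, h3⟩
    · rintro ⟨⟨⟨h2, h4⟩, -⟩, h3⟩
      exact ⟨h2, h3, h4⟩
  · have hK : K ≠ ⊥ := by
      rintro rfl
      exact hκ (kappa_empty hG hKU.hall)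
    have h := KS_of_decomp hG hC hM hKU hK
    have hcomm := H12.BG15.comm_eq_sup hG h
    rw [tA_kappa_ne hG hM hκ, hcomm]
    constructor
    · rintro ⟨h2, h3, h4⟩
      exact ⟨⟨⟨by rw [← hcomm] at h2; exact comm_le_self M h2, h4⟩, h2⟩, h3⟩
    · rintro ⟨⟨⟨h2, h4⟩, h5⟩, h3⟩
      exact ⟨h5, h3, h4⟩

/-- uniqueness of type `P` data up to conjugacy -/
theorem P_unique (hG : IsMinSimpleOddOrder G) {M K E U : Subgroup G} (h : KS M K E U) {W₁ V W₂ : Subgroup G} (hP : IsTypePWith M W₁ V W₂) :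
    ∃ m ∈ M, W₁ = cj m K ∧ W₂ = cj m (st M K) := by
  obtain ⟨U', hp⟩ := exists_PU hG h
  have hpw := hp.pw hG
  have c1 := H12.Core.IsComplIn_card hP.W₁_compl
  have c2 := H12.Core.IsComplIn_card hpw.W₁_compl
  have hcard : Nat.card W₁ = Nat.card K := by
    rw [← c2] at c1
    exact Nat.eq_of_mul_eq_mul_left Nat.card_pos c1
  obtain ⟨m, hm, hle⟩ := H12.Hall.hall_dom (solvable_of_ne_top hG h.co.1) h.hall (X := W₁)
    (fun p hp hd => kappa_of_P hG h.co hP p hp hd) hP.W₁_compl.2.1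
  have h1 : cj m W₁ = K := by
    apply SetLike.coe_injective
    refine Set.eq_of_subset_of_ncard_le (fun x hx => hle hx) ?_ (Set.toFinite _)
    have e1 : Nat.card (cj m W₁) = Nat.card K := by rw [card_cj, hcard]
    have e2 : ((cj m W₁ : Subgroup G) : Set G).ncard = Nat.card (cj m W₁) := rfl
    have e3 : ((K : Subgroup G) : Set G).ncard = Nat.card K := rfl
    rw [e2, e3, e1]
  have h2 : W₁ = cj m⁻¹ K := by rw [← h1, cj_inv_cj]
  refine ⟨m⁻¹, inv_mem hm, h2, ?_⟩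
  obtain ⟨k, hk, hk1⟩ := exists_ne_one h.ne
  have h3 : m⁻¹ * k * m⁻¹⁻¹ ∈ W₁ := by
    rw [h2]
    exact conj_mem_cj (g := m⁻¹) hk
  have h4 : m⁻¹ * k * m⁻¹⁻¹ ≠ 1 := by
    intro h5
    apply hk1
    have : k = m * (m⁻¹ * k * m⁻¹⁻¹) * m⁻¹ := by group
    rw [this, h5]; simp
  rw [← hP.W₂_centralizer _ h3 h4, ← hpw.W₂_centralizer k hk hk1, cj_inf, cj_centralizer_singleton]
  have hn : cj m⁻¹ ⁅M, M⁆ = ⁅M, M⁆ := cj_eq_of_mem_normalizer (H22.Basic.right_le_normalizer_commutator M M (inv_mem hm))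
  rw [hn]

theorem KS.cj_st {M K : Subgroup G} {m : G} (hm : m ∈ M) : cj m (st M K) = st M (cj m K) := by
  rw [st, st, cj_inf, cj_centralizer, cj_eq_of_mem_normalizer (le_normalizer_sigmaCore M hm)]

theorem mem_tA0_iff (hG : IsMinSimpleOddOrder G) {M K U : Subgroup G} (hM : IsCoatom M) (hKU : IsSigmaDecomposition M K U) {a : G} :
    a ∈ H12.Ty.tA0 M ↔ a ∈ sigmaA0 M K ∧ a ≠ 1 := by
  have hC := H12.BG13.con13 hG
  by_cases hκ : kappa M = ∅
  · have hK := K_bot_of_kappa hG hκ hKU.hall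
    subst hK
    have h1 := H12.Hall.compl_sup (decomp_bot hKU)
    constructor
    · rintro (h2 | ⟨h2, -⟩)
      · obtain ⟨h3, h4⟩ := (mem_tA_iff hG hM hKU).1 h2
        refine ⟨⟨h3.1, ?_⟩, h4⟩
        rintro ⟨k, hk, hk1, -⟩
        exact hk1 (mem_bot.1 hk)
      · exact absurd (tyI_of_kappa hG hM hκ) h2
    · rintro ⟨h2, h3⟩
      left
      refine (mem_tA_iff hG hM hKU).2 ⟨⟨h2.1, ?_⟩, h3⟩
      rw [h1]; exact h2.1.1
  · have hK : K ≠ ⊥ := by
      rintro rfl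
      exact hκ (kappa_empty hG hKU.hall)
    have h := KS_of_decomp hG hC hM hKU hK
    have hcomm := H12.BG15.comm_eq_sup hG h
    obtain ⟨h71, -⟩ := s1371 hG hC M hM K U hKU hK
    obtain ⟨V, hV⟩ := exists_PU hG h
    have hpw := hV.pw hG
    have hnT : ¬ TyI M := fun h1 => hκ ((tyI_iff hG hM).1 h1)
    have hat : (∃ W₁ U W₂ : Subgroup G, IsTypePWith M W₁ U W₂ ∧
        ∃ m ∈ M, ∃ w ∈ W₁ ⊔ W₂, w ∉ W₁ ∧ w ∉ W₂ ∧ a = m * w * m⁻¹) ↔ a ∈ sigmaA0 M K \ sigmaA M U := by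
      rw [← h71]
      constructor
      · rintro ⟨W₁, V', W₂, hP, m, hm, w, hw, hw1, hw2, rfl⟩
        obtain ⟨t, ht, rfl, rfl⟩ := P_unique hG h hP
        rw [← cj_sup] at hw
        refine ⟨m * t, mul_mem hm ht, t⁻¹ * w * t, ⟨mem_cj.1 hw, ?_⟩, by group⟩
        rintro (h1 | h1)
        · exact hw1 (mem_cj.2 h1)
        · exact hw2 (mem_cj.2 h1)
      · rintro ⟨m, hm, z, ⟨hz, hz1⟩, rfl⟩
        exact ⟨K, V, st M K, hpw, m, hm, z, hz, fun h1 => hz1 (Or.inl h1), fun h1 => hz1 (Or.inr h1), rfl⟩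
    have hAA0 : a ∈ sigmaA M U → a ∈ sigmaA0 M K := by
      rintro ⟨h1, h2⟩
      refine ⟨h1, ?_⟩
      rintro ⟨k, hk, hk1, m, hm, rfl⟩
      apply hk1
      have h3 := pi_of_mem_US hG hKU h2
      rw [← orderOf_eq_one_iff]
      by_contra h4
      obtain ⟨p, hp, hd⟩ := Nat.exists_prime_and_dvd h4
      refine h3 p hp (by rw [orderOf_conj]; exact hd) (hKU.hall.2.1 p hp (hd.trans (Subgroup.orderOf_dvd_natCard _ hk)))
    constructor
    · rintro (h2 | ⟨-, h2⟩)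
      · obtain ⟨h3, h4⟩ := (mem_tA_iff hG hM hKU).1 h2
        exact ⟨hAA0 h3, h4⟩
      · have h3 := hat.1 h2
        refine ⟨h3.1, ?_⟩
        rintro rfl
        apply h3.2
        exact ⟨h3.1.1, one_mem _⟩
    · rintro ⟨h2, h3⟩
      by_cases h4 : a ∈ sigmaA M U
      · left
        exact (mem_tA_iff hG hM hKU).2 ⟨h4, h3⟩
      · right
        exact ⟨hnT, hat.2 ⟨h2, h4⟩⟩

end Cfsg.Agent.H2.Ty
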