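import Mathlib
import Cfsg.Agent.H12_D16
import Cfsg.Agent.H12_Ty
import Cfsg.Agent.H23_FrobKer
import Cfsg.Agent.H2_Ty4

/-! BG §16: pieces of Theorems I and II (S1389, S1390, S1391) -/

set_option autoImplicit false
set_option linter.unusedSectionVars false
set_option linter.style.haveILetI false

open Pointwise
open scoped commutatorElement

namespace Cfsg.Agent.H12.D16

open Cfsg Subgroup H13.Syl H12.Loc H12.Trans H12.BG7 H12.Puig H12.BG9 H12.BG10 H12.BG11 H12.BG12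
open H12.BG13 H2.BG14 H12.BG15 H12.BG1212 H12.BG157 H2.Ty

universe u

variable {G : Type u} [Group G] [Finite G]

theorem hall_top {M H : Subgroup G} (hG : IsMinSimpleOddOrder G) (hM : IsCoatom M) (hH : H ≤ sigmaCore M)
    (hc : (Nat.card H).Coprime (H.relIndex M)) : (Nat.card H).Coprime H.index := by
  have hHM := hH.trans (sigmaCore_le M)
  rw [← Subgroup.relIndex_mul_index hHM]
  apply Nat.Coprime.mul_right hc
  apply coprime_of_forall
  intro p hp h1 h2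
  haveI := Fact.mk hp
  have hpσ := H12.BG13.sigmaCore_pi M p hp (h1.trans (card_dvd_of_le hH))
  obtain ⟨P, hP⟩ := exists_isSylIn (p := p) M
  have h3 := (sigma_sylow_top hpσ hP).1
  apply h3.not_dvd
  rw [relIndex_top_right, ← Subgroup.relIndex_mul_index hP.le]
  exact h2.mul_left _

theorem c1389' (hG : IsMinSimpleOddOrder G) {M : Subgroup G} (hM : IsCoatom M) (hcore : typeCore M = sigmaCore M) :
    (∀ (p : ℕ), p.Prime → ∀ (P : Sylow p ↥(Cfsg.typeCore M)), (P : Subgroup ↥(Cfsg.typeCore M)) ≠ ⊥ →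
        Subgroup.normalizer ((((P : Subgroup ↥(Cfsg.typeCore M)).map (Cfsg.typeCore M).subtype : Subgroup G)) : Set G) ≤ M) ∧
      (Nat.card (Cfsg.fittingHallOf M)).Coprime (Cfsg.fittingHallOf M).index ∧
      (Nat.card (Cfsg.typeCore M)).Coprime (Cfsg.typeCore M).index := by
  rw [hcore]
  refine ⟨?_, ?_, ?_⟩
  · intro p hp P hPb
    haveI := Fact.mk hp
    have h1 : IsSylIn p ((P : Subgroup ↥(sigmaCore M)).map (sigmaCore M).subtype) (sigmaCore M) := isSylIn_map_subtype P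
    have h2 : p ∣ Nat.card (sigmaCore M) := by
      by_contra hd
      apply hPb
      have h3 := P.isPGroup'
      obtain ⟨n, hn⟩ := IsPGroup.iff_card.1 h3
      rcases Nat.eq_zero_or_pos n with h0 | h0
      · rw [h0, pow_zero] at hn
        exact Subgroup.card_eq_one.1 hn
      · exfalso
        apply hd
        have : p ∣ Nat.card (P : Subgroup ↥(sigmaCore M)) := by rw [hn]; exact dvd_pow_self p h0.ne'
        exact this.trans (Subgroup.card_subgroup_dvd_card _)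
    have hpσ := H12.BG13.sigmaCore_pi M p hp h2
    exact (sigma_sylow_top hpσ (H12.Hall.sylow_trans (sigmaCore_hallOf hG hM) hpσ h1)).2
  · exact hall_top hG hM (fittingHallOf_le_sigmaCore hG hM) (H12.Core.fittingHallOf_coprime M)
  · exact hall_top hG hM le_rfl (H12.Hall.coprime (sigmaCore_hallOf hG hM))

/-- the two situations of C1390, in κ-language -/
theorem c1390_aux (hG : IsMinSimpleOddOrder G) {M U : Subgroup G} (hM : IsCoatom M) (hUM : U ≤ M)
    (hf : fittingHallOf M = sigmaCore M)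
    (hU : ∀ p : ℕ, p.Prime → p ∣ Nat.card U → p ∉ sigma M ∧ p ∉ kappa M) :
    (∀ (p : ℕ), p.Prime → ∀ P : Sylow p U, IsMulCommutative (P : Subgroup U) ∧ Cfsg.PRankLE p 2 (P : Subgroup U)) ∧
      (∀ X : Set G, X ⊆ (U : Set G) \ {1} → X.Nonempty → Cfsg.fittingHallOf M ⊓ Subgroup.centralizer X ≠ ⊥ →
        Subgroup.centralizer X ≤ M ∧ ∀ L : Subgroup G, IsCoatom L → Subgroup.centralizer X ≤ L → L = M) := by
  refine ⟨?_, ?_⟩
  · intro p hp P
    haveI := Fact.mk hp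
    have h1 : IsSylIn p ((P : Subgroup U).map U.subtype) U := isSylIn_map_subtype P
    by_cases hd : p ∣ Nat.card U
    · obtain ⟨hpσ, hpκ⟩ := hU p hp hd
      obtain ⟨S, hPS, hS⟩ := exists_isSylIn_ge (p := p) (H := M) h1.isPGroup (h1.le.trans hUM)
      have hr2 : PRankLE p 2 M := pRankLE_two_of_not_sigma hG hM hp hpσ
      have hSab : IsMulCommutative S := by
        rcases H12.BG13.tau_cases hG hM hp (hd.trans (card_dvd_of_le hUM)) hpσ with h2 | h2 | h2
        · have h3 := cyclic_sylow hG hS.isPGroup (SCN.pRankLE_mono hS.le h2.2.2.2.2)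
          exact ⟨⟨fun a b => (IsCyclic.commGroup (α := S)).mul_comm a b⟩⟩
        · exact thm125b hG hM h2 hS
        · have h3 := cyclic_sylow hG hS.isPGroup (SCN.pRankLE_mono hS.le h2.2.2.2)
          exact ⟨⟨fun a b => (IsCyclic.commGroup (α := S)).mul_comm a b⟩⟩
      refine ⟨?_, ?_⟩
      · refine ⟨⟨fun a b => ?_⟩⟩
        apply Subtype.ext
        apply Subtype.ext
        have ha : (((a : U) : G)) ∈ S := hPS (mem_map_of_mem _ a.2)
        have hb : (((b : U) : G)) ∈ S := hPS (mem_map_of_mem _ b.2)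
        have h9 := congrArg Subtype.val (hSab.is_comm.comm (⟨_, ha⟩ : S) ⟨_, hb⟩)
        exact h9
      · exact SCN.pRankLE_of_injective ((inclusion hUM).comp (P : Subgroup U).subtype)
          ((inclusion_injective hUM).comp (P : Subgroup U).subtype_injective) hr2
    · have hPb : (P : Subgroup U) = ⊥ := by
        obtain ⟨n, hn⟩ := IsPGroup.iff_card.1 P.isPGroup'
        rcases Nat.eq_zero_or_pos n with h0 | h0
        · rw [h0, pow_zero] at hn
          exact Subgroup.card_eq_one.1 hn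
        · exfalso
          apply hd
          have : p ∣ Nat.card (P : Subgroup U) := by rw [hn]; exact dvd_pow_self p h0.ne'
          exact this.trans (Subgroup.card_subgroup_dvd_card _)
      rw [hPb]
      refine ⟨inferInstance, ?_⟩
      intro A _ _
      have : Nat.card A ∣ Nat.card (⊥ : Subgroup U) := Subgroup.card_subgroup_dvd_card _
      rw [card_bot, Nat.dvd_one] at this
      rw [this]
      exact Nat.one_le_pow _ _ hp.pos
  · intro X hXU hXn hXc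
    rw [hf] at hXc
    have hXU' : closure X ≤ U := (closure_le U).2 fun x hx => (hXU hx).1
    have hXM : closure X ≤ M := hXU'.trans hUM
    have hXb : closure X ≠ ⊥ := by
      obtain ⟨x, hx⟩ := hXn
      intro hb
      have := subset_closure hx
      rw [hb] at this
      exact (hXU hx).2 (mem_bot.1 this)
    have hXc' : sigmaCore M ⊓ centralizer (closure X : Set G) ≠ ⊥ := by
      rwa [centralizer_closure]
    obtain ⟨y, hy, hy1⟩ := exists_ne_one hXc'
    obtain ⟨hyσ, hyX⟩ := mem_inf.1 hy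
    have h1 : ∀ q : ℕ, q.Prime → q ∣ Nat.card (closure X) → q ∈ tau2 M := by
      intro q hq hd
      haveI := Fact.mk hq
      obtain ⟨x, hx, hxo⟩ := exists_elt_of_dvd hd
      refine (hat_tau2 hG hM (hXM hx) (orderOf_ne hq hxo) ?_ hyσ hy1 (mem_centralizer_iff.1 hyX x hx)).1 q hq (by rw [hxo])
      intro p hp hpd
      rw [hxo] at hpd
      rw [(Nat.prime_dvd_prime_iff_eq hp hq).1 hpd]
      exact hU q hq (hd.trans (card_dvd_of_le hXU'))
    obtain ⟨E, hXE, hE⟩ := exists_compl_ge hG hM hXM (fun q hq hd => (h1 q hq hd).2.1)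
    have h2 := thm1210e hG hM hXM hXb (tau2_nilp hG hM hE hXE h1) h1 hXc'
    rw [centralizer_closure] at h2
    exact h2

theorem mem_comm_iff (hG : IsMinSimpleOddOrder G) {M K E U : Subgroup G} (h : KS M K E U) {a : G} :
    a ∈ ⁅M, M⁆ ↔ a ∈ M ∧ ∀ p : ℕ, p.Prime → p ∣ orderOf a → p ∉ kappa M := by
  have hC := con13 hG
  have hd := h.decomp (K_cyc hG hC h.co h.hall)
  have hcomm := H12.BG15.comm_eq_sup hG h
  constructor
  · intro ha
    refine ⟨comm_le_self M ha, ?_⟩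
    rw [hcomm] at ha
    exact pi_of_mem_US hG hd ha
  · rintro ⟨h1, h2⟩
    have h3 := US_hall hG hd
    rw [← hcomm] at h3
    obtain ⟨l, hl, h4⟩ := H12.Hall.hall_dom (solvable_of_ne_top hG h.co.1) h3 (X := zpowers a)
      (fun p hp hdv => h2 p hp (by rwa [Nat.card_zpowers] at hdv)) (zpowers_le.2 h1)
    have h5 : l * a * l⁻¹ ∈ ⁅M, M⁆ := h4 (conj_mem_cj (mem_zpowers a))
    have h6 := H22.Basic.right_le_normalizer_commutator M M hl
    exact (mem_normalizer_iff.1 h6 a).2 h5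

theorem tA_eq' (hG : IsMinSimpleOddOrder G) {M : Subgroup G} (hM : IsCoatom M) : H12.Ty.tA M = tA M := by
  by_cases hκ : kappa M = ∅
  · rw [tA_kappa_empty hG hM hκ]
    ext a
    constructor
    · rintro ⟨h1, h2, h3⟩
      exact ⟨h1, h2, fun p _ _ => by rw [hκ]; exact fun h => h, h3⟩
    · rintro ⟨h1, h2, -, h3⟩
      exact ⟨h1, h2, h3⟩
  · rw [tA_kappa_ne hG hM hκ]
    obtain ⟨K, E, U, h⟩ := exists_KS_of_kappa hG (con13 hG) hM (Set.nonempty_iff_ne_empty.2 hκ)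
    ext a
    constructor
    · rintro ⟨h1, h2, h3⟩
      obtain ⟨h4, h5⟩ := (mem_comm_iff hG h).1 h1
      exact ⟨h4, h2, h5, h3⟩
    · rintro ⟨h1, h2, h4, h3⟩
      exact ⟨(mem_comm_iff hG h).2 ⟨h1, h4⟩, h2, h3⟩

theorem tA0_eq' (hG : IsMinSimpleOddOrder G) {M : Subgroup G} (hM : IsCoatom M) : H12.Ty.tA0 M = tA0 M := by
  have hC := con13 hG
  rw [H12.Ty.tA0, tA0, tA_eq' hG hM]
  congr 1
  ext v
  constructor
  · rintro ⟨h1, W₁, V, W₂, hP, m, hm, w, hw, hw1, hw2, rfl⟩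
    have hκ : kappa M ≠ ∅ := fun h => h1 ((tyI_iff hG hM).2 h)
    obtain ⟨K, E, U, h⟩ := exists_KS_of_kappa hG hC hM (Set.nonempty_iff_ne_empty.2 hκ)
    obtain ⟨n, hn, rfl, rfl⟩ := P_unique hG h hP
    rw [KS.cj_st hn] at hw hw2
    exact ⟨cj n K, H12.Hall.conj_mem h.hall (le_normalizer hn), (fun h5 => h.ne (cj_eq_bot_iff.1 h5)), m, hm, w, hw, hw1, hw2, rfl⟩
  · rintro ⟨K, hK, hKb, m, hm, w, hw, hw1, hw2, rfl⟩
    obtain ⟨E, U, h⟩ := exists_KS' hG hC hM hK hKb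
    obtain ⟨U', hp⟩ := exists_PU hG h
    refine ⟨fun h1 => ?_, K, U', st M K, hp.pw hG, m, hm, w, hw, hw1, hw2, rfl⟩
    have := (tyI_iff hG hM).1 h1
    obtain ⟨q, hq, x, hx, hxo, hd⟩ := exists_prime_elt hKb
    have h3 := hK.2.1 q hq hd
    rw [this] at h3
    exact h3

theorem fh_of_kappa_empty (hG : IsMinSimpleOddOrder G) {M : Subgroup G} (hM : IsCoatom M) (hκ : kappa M = ∅) :
    fittingHallOf M = sigmaCore M ∧ Group.IsNilpotent (sigmaCore M) := by
  obtain ⟨E, -, hE⟩ := exists_E hG hM (K := ⊥) bot_le (by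
    intro p hp hd
    rw [Subgroup.card_bot] at hd
    exact absurd (Nat.dvd_one.1 hd) hp.one_lt.ne')
  obtain ⟨U₁, U₀, hT⟩ := exists_TyF hG hM hκ hE
  exact ⟨hT.fh, hT.nil⟩

theorem fh_of_KS (hG : IsMinSimpleOddOrder G) {M K E U : Subgroup G} (h : KS M K E U) (hU : U ≠ ⊥) :
    fittingHallOf M = sigmaCore M ∧ Group.IsNilpotent (sigmaCore M) := by
  have hd := h.decomp (K_cyc hG (con13 hG) h.co h.hall)
  have h1 : Group.IsNilpotent (sigmaCore M) := by
    by_contra hn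
    exact hU (thm152 hG h hn).1
  exact ⟨(sigmaCore_eq_fittingHallOf hG h.co h1).symm, h1⟩

theorem tA_conj (hG : IsMinSimpleOddOrder G) {M : Subgroup G} {m a : G} (hm : m ∈ M) (ha : a ∈ tA M) : m * a * m⁻¹ ∈ tA M := by
  obtain ⟨h1, h2, h3, x, hx, hx1, hxa⟩ := ha
  have ho : orderOf (m * a * m⁻¹) = orderOf a := by
    have h5 := orderOf_injective (MulAut.conj m).toMonoidHom (MulAut.conj m).injective a
    simpa using h5
  refine ⟨mul_mem (mul_mem hm h1) (inv_mem hm), ?_, ?_, m * x * m⁻¹,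
    (mem_normalizer_iff.1 (le_normalizer_sigmaCore M hm) x).1 hx, ?_, ?_⟩
  · intro h; exact h2 (conj_eq_one_iff.1 h)
  · rw [ho]; exact h3
  · intro h; exact hx1 (conj_eq_one_iff.1 h)
  · calc m * a * m⁻¹ * (m * x * m⁻¹) = m * (a * x) * m⁻¹ := by group
      _ = m * (x * a) * m⁻¹ := by rw [hxa]
      _ = m * x * m⁻¹ * (m * a * m⁻¹) := by group

theorem tA_diff_ti (hG : IsMinSimpleOddOrder G) {M : Subgroup G} (hM : IsCoatom M) :
    IsTISubset (tA M \ (sigmaCore M : Set G)) := by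
  intro g hg x hx hgx
  exfalso
  apply hg
  have h1 := (tA_out hG hM hx.1 hx.2).2 g hgx.1
  have key : ∀ m ∈ M, ∀ y ∈ tA M \ (sigmaCore M : Set G), m * y * m⁻¹ ∈ tA M \ (sigmaCore M : Set G) := by
    intro m hm y hy
    refine ⟨tA_conj hG hm hy.1, fun h => hy.2 ?_⟩
    exact (mem_normalizer_iff.1 (le_normalizer_sigmaCore M hm) y).2 h
  rw [mem_set_normalizer_iff]
  intro y
  constructor
  · exact key g h1 y
  · intro h
    have := key g⁻¹ (inv_mem h1) _ h
    have e : g⁻¹ * (g * y * g⁻¹) * g⁻¹⁻¹ = y := by group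
    rwa [e] at this

theorem c1390 (hG : IsMinSimpleOddOrder G) (M : Subgroup G) (hM : IsCoatom M) (U : Subgroup G)
    (h : (H12.Ty.TyI M ∧ IsComplIn (fittingHallOf M) U M) ∨ (IsOfTypeII M ∧ IsComplIn (fittingHallOf M) U ⁅M, M⁆)) :
    (∀ p : ℕ, p.Prime → ∀ P : Sylow p U, IsMulCommutative (P : Subgroup U) ∧ PRankLE p 2 (P : Subgroup U)) ∧
      (∀ X : Set G, X ⊆ (U : Set G) \ {1} → X.Nonempty → fittingHallOf M ⊓ Subgroup.centralizer X ≠ ⊥ →
        Subgroup.centralizer X ≤ M ∧ ∀ L : Subgroup G, IsCoatom L → Subgroup.centralizer X ≤ L → L = M) ∧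
      IsTISubset (H12.Ty.tA M \ typeA1 M) := by
  have hC := con13 hG
  have hTI : IsTISubset (H12.Ty.tA M \ typeA1 M) := by
    rw [tA_eq' hG hM, typeA1_eq hG hM]
    have : tA M \ ((sigmaCore M : Set G) \ {1}) = tA M \ (sigmaCore M : Set G) := by
      ext x
      constructor
      · rintro ⟨h1, h2⟩
        exact ⟨h1, fun h3 => h2 ⟨h3, h1.2.1⟩⟩
      · rintro ⟨h1, h2⟩
        exact ⟨h1, fun h3 => h2 h3.1⟩
    rw [this]
    exact tA_diff_ti hG hM
  rcases h with ⟨h1, h2⟩ | ⟨h1, h2⟩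
  · have hκ := (tyI_iff hG hM).1 h1
    obtain ⟨hf, -⟩ := fh_of_kappa_empty hG hM hκ
    have h3 : IsComplIn U (sigmaCore M) M := hf ▸ isComplIn_symm h2
    obtain ⟨h4, h5⟩ := c1390_aux hG hM h3.1 hf (fun p hp hd => ⟨compl_sigmaC hG hM h3 p hp hd, by rw [hκ]; exact fun h => h⟩)
    exact ⟨h4, h5, hTI⟩
  · obtain ⟨K, U₀, hd⟩ : ∃ K U₀, IsSigmaDecomposition M K U₀ := by
      obtain ⟨W₁, V, W₂, hP, -⟩ := h1
      obtain ⟨p, hp, x, hx, hxo, hd⟩ := exists_prime_elt hP.W₁_ne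
      obtain ⟨K, E, U, h⟩ := exists_KS_of_kappa hG hC hM ⟨p, kappa_of_P hG hM hP p hp hd⟩
      exact ⟨K, U, h.decomp (K_cyc hG hC h.co h.hall)⟩
    obtain ⟨hK, hU⟩ := (c1381 hG M hM K U₀ hd).1 h1
    have hks := KS_of_decomp hG hC hM hd hK
    obtain ⟨hf, -⟩ := fh_of_KS hG hks hU
    obtain ⟨m, hm, hmU⟩ := compl_conj hG hks hf h2
    obtain ⟨h4, h5⟩ := c1390_aux hG hM (h2.2.1.trans (comm_le_self M)) hf (fun p hp hdv => by
      rw [← card_cj m U, hmU] at hdv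
      exact u_primes hG hM hd hp hdv)
    exact ⟨h4, h5, hTI⟩

theorem kappa_of_II (hG : IsMinSimpleOddOrder G) {M : Subgroup G} (hM : IsCoatom M) (h : IsOfTypeII M) : (kappa M).Nonempty := by
  obtain ⟨W₁, V, W₂, hP, -⟩ := h
  obtain ⟨p, hp, x, hx, hxo, hd⟩ := exists_prime_elt hP.W₁_ne
  exact ⟨p, kappa_of_P hG hM hP p hp hd⟩

theorem frob_sub (hG : IsMinSimpleOddOrder G) {M E : Subgroup G} (hM : IsCoatom M) (hf : fittingHallOf M = sigmaCore M)
    (hE : IsComplIn E (sigmaCore M) M) (hEb : E ≠ ⊥) (hfree : ∀ e ∈ E, e ≠ 1 → sigmaCore M ⊓ centralizer ({e} : Set G) = ⊥) :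
    IsFrobeniusComplement (E.subgroupOf M) ∧
      frobeniusKernel (E.subgroupOf M) = ((fittingHall ↥M : Subgroup ↥M) : Set ↥M) := by
  have h1 := frob_compl hE (le_normalizer_sigmaCore M) hEb (sigmaCore_ne_bot hG hM) hfree
  refine ⟨h1, ?_⟩
  have hsub : (fittingHallOf M).subgroupOf M = fittingHall ↥M := H12.Core.subgroupOf_map_subtype_self _
  have hc := (H12.Core.isComplIn_iff (hf ▸ sigmaCore_le M) hE.1).1 (hf ▸ isComplIn_symm hE : IsComplIn (fittingHallOf M) E M)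
  rw [hsub] at hc
  exact H23.FrobKer.kernel_eq (fittingHall ↥M) _ hc h1

theorem c1391 (hG : IsMinSimpleOddOrder G) (M : Subgroup G) (hM : IsCoatom M) (X : Set G)
    (hX : X = H12.Ty.tA M ∨ X = H12.Ty.tA0 M) :
    (∀ x ∈ X, ∀ g : G, g * x * g⁻¹ ∈ X → ∃ m ∈ M, m * x * m⁻¹ = g * x * g⁻¹) ∧
      (∀ x ∈ X, ¬ Subgroup.centralizer ({x} : Set G) ≤ M → x ∈ typeA1 M ∧ ∃! L : Subgroup G, IsCoatom L ∧ Subgroup.centralizer ({x} : Set G) ≤ L) ∧
      ∀ x ∈ X, ¬ Subgroup.centralizer ({x} : Set G) ≤ M → ∀ L : Subgroup G, IsCoatom L → Subgroup.centralizer ({x} : Set G) ≤ L →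
        IsComplIn (fittingHallOf L) (M ⊓ L) L ∧
        Subgroup.centralizer ({x} : Set G) ≤ Subgroup.normalizer ((fittingHallOf L ⊓ Subgroup.centralizer ({x} : Set G) : Subgroup G) : Set G) ∧
        IsComplIn (fittingHallOf L ⊓ Subgroup.centralizer ({x} : Set G)) (M ⊓ Subgroup.centralizer ({x} : Set G)) (Subgroup.centralizer ({x} : Set G)) ∧
        (∀ y ∈ X, (Nat.card (fittingHallOf L)).Coprime (Nat.card ↥(M ⊓ Subgroup.centralizer ({y} : Set G)))) ∧
        (x ∈ H12.Ty.tA L ∧ x ∉ typeA1 L) ∧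
        (H12.Ty.TyI L ∨ IsOfTypeII L) ∧
        (IsOfTypeII L → ∃ E : Subgroup ↥M, IsFrobeniusComplement E ∧ frobeniusKernel E = ((fittingHall ↥M : Subgroup ↥M) : Set ↥M)) := by
  have hC := con13 hG
  have hX0 : ∀ x ∈ X, x ∈ tA0 M := by
    intro x hx
    rcases hX with rfl | rfl
    · rw [tA_eq' hG hM] at hx
      exact tA_sub M hx
    · rwa [tA0_eq' hG hM] at hx
  refine ⟨fun x hx g hg => fusion hG hM (hX0 x hx) (hX0 _ hg), ?_, ?_⟩
  · intro x hx hxM
    have hx0 := hX0 x hx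
    have hxσ : x ∈ sigmaCore M := by
      by_contra h
      exact hxM (cent_le_of hG hM hx0 h)
    obtain ⟨L, hL⟩ := exists_ND hG hC hM hxσ (ne_one_of hx0) hxM
    refine ⟨?_, L, ⟨hL.co, hL.um.1⟩, fun L' hL' => hL.um.2 L' hL'.1 hL'.2⟩
    rw [typeA1_eq hG hM]
    exact ⟨hxσ, ne_one_of hx0⟩
  · intro x hx hxM L hL hxL
    have hx0 := hX0 x hx
    have hxσ : x ∈ sigmaCore M := by
      by_contra h
      exact hxM (cent_le_of hG hM hx0 h)
    obtain ⟨-, h1, h2, h3, h4, h5, ⟨h6, h7⟩, h8, h9⟩ := data hG hM hxσ (ne_one_of hx0) hxM hL hxL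
    refine ⟨h2, h3, h4, fun y hy => h5 y (hX0 y hy), ⟨by rw [tA_eq' hG hL]; exact h6, ?_⟩, ?_, ?_⟩
    · rw [typeA1_eq hG hL]
      exact fun h => h7 h.1
    · rcases h8 with h8 | ⟨K, E, U, h8, h10⟩
      · exact Or.inl ((tyI_iff hG hL).2 h8)
      · exact Or.inr (typeII_of hG hL (h8.decomp (K_cyc hG hC h8.co h8.hall)) h8.ne h10)
    · intro hII
      obtain ⟨k1, k2, E, k3, k4, k5, k6⟩ := h9 (kappa_of_II hG hL hII)
      exact ⟨E.subgroupOf M, frob_sub hG hM (sigmaCore_eq_fittingHallOf hG hM k2).symm k3 k5 k6⟩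

theorem C1391 (hG : IsMinSimpleOddOrder G) : H12.Ty.C1391 G := c1391 hG

theorem C1390 (hG : IsMinSimpleOddOrder G) : H12.Ty.C1390 G := c1390 hG

theorem C1389 (hG : IsMinSimpleOddOrder G) : H12.Ty.C1389 G := fun _ hM => c1389' hG hM (typeCore_eq hG hM)

theorem s1389 (hG : IsMinSimpleOddOrder G) (M : Subgroup G) (hM : IsCoatom M) :
    (∀ (p : ℕ), p.Prime → ∀ (P : Sylow p ↥(Cfsg.typeCore M)), (P : Subgroup ↥(Cfsg.typeCore M)) ≠ ⊥ →
        Subgroup.normalizer ((((P : Subgroup ↥(Cfsg.typeCore M)).map (Cfsg.typeCore M).subtype : Subgroup G)) : Set G) ≤ M) ∧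
      (Nat.card (Cfsg.fittingHallOf M)).Coprime (Cfsg.fittingHallOf M).index ∧
      (Nat.card (Cfsg.typeCore M)).Coprime (Cfsg.typeCore M).index := c1389' hG hM (typeCore_eq hG hM)

theorem s1390 (hG : IsMinSimpleOddOrder G) (M : Subgroup G) (hM : IsCoatom M) (U : Subgroup G)
    (hU : (Cfsg.IsOfTypeI M ∧ Cfsg.IsComplIn (Cfsg.fittingHallOf M) U M) ∨ (Cfsg.IsOfTypeII M ∧ Cfsg.IsComplIn (Cfsg.fittingHallOf M) U ⁅M, M⁆)) :
    (∀ (p : ℕ), p.Prime → ∀ P : Sylow p U, IsMulCommutative (P : Subgroup U) ∧ Cfsg.PRankLE p 2 (P : Subgroup U)) ∧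
      (∀ X : Set G, X ⊆ (U : Set G) \ {1} → X.Nonempty → Cfsg.fittingHallOf M ⊓ Subgroup.centralizer X ≠ ⊥ →
        Subgroup.centralizer X ≤ M ∧ ∀ L : Subgroup G, IsCoatom L → Subgroup.centralizer X ≤ L → L = M) ∧
      Cfsg.IsTISubset (Cfsg.typeA M \ Cfsg.typeA1 M) := by
  have h1 : (H12.Ty.TyI M ∧ Cfsg.IsComplIn (Cfsg.fittingHallOf M) U M) ∨ (Cfsg.IsOfTypeII M ∧ Cfsg.IsComplIn (Cfsg.fittingHallOf M) U ⁅M, M⁆) :=
    hU.imp (fun h => ⟨H12.Ty.TyI.of_typeI h.1, h.2⟩) id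
  have h2 : H12.Ty.TyI M → IsOfTypeI M := by
    intro h3
    rcases hU with h | h
    · exact h.1
    · exfalso
      have h4 := kappa_of_II hG hM h.1
      rw [(tyI_iff hG hM).1 h3] at h4
      exact Set.not_nonempty_empty h4
  have h3 := c1390 hG M hM U h1
  rwa [H12.Ty.tA_eq h2] at h3

end Cfsg.Agent.H12.D16
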