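import Mathlib
import Cfsg.Agent.H2_BG14p
import Cfsg.Agent.H2_BG14l
import Cfsg.Agent.H2_BG14h
import Cfsg.Agent.H12_Con13
import Cfsg.Agent.S1351
import Cfsg.Agent.S1352
import Cfsg.Agent.S1355
import Cfsg.Agent.S1365
import Cfsg.Agent.S1432
import Cfsg.Agent.S1436
import Cfsg.Agent.S1437
import Cfsg.Prelude.Def_OddOrderChar
import Cfsg.Agent.H12_D17

set_option autoImplicit false
set_option linter.all false

/-! Peterfalvi §8: Dade hypotheses attached to maximal subgroups of a minimal simple group of odd order. -/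

open Pointwise
open scoped commutatorElement

namespace Cfsg.Agent.H1.PG8

open Cfsg Subgroup Cfsg.Agent.H13.Syl Cfsg.Agent.H12.BG10 Cfsg.Agent.H12.BG11 Cfsg.Agent.H12.BG12 Cfsg.Agent.H2.BG14 Cfsg.Agent.H2.Con13 Cfsg.Agent.H12.Ty

universe u

/-- contract: the results of BG §16 used here, in their frozen shapes -/
structure Con16 (G : Type u) [Group G] [Finite G] : Prop where
  h1380 : ∀ (M : Subgroup G) (hM : IsCoatom M) (K U : Subgroup G) (hKU : Cfsg.IsSigmaDecomposition M K U),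
    TyI M ↔ (K = ⊥ ∧ U ≠ ⊥)
  h1381 : ∀ (M : Subgroup G) (hM : IsCoatom M) (K U : Subgroup G) (hKU : Cfsg.IsSigmaDecomposition M K U),
    Cfsg.IsOfTypeII M ↔ (K ≠ ⊥ ∧ U ≠ ⊥)
  h1382 : ∀ (M : Subgroup G) (hM : IsCoatom M) (K U : Subgroup G) (hKU : Cfsg.IsSigmaDecomposition M K U),
    (Cfsg.IsOfTypeIII M ∨ Cfsg.IsOfTypeIV M) ↔ (K ≠ ⊥ ∧ U = ⊥ ∧ Cfsg.fittingHallOf M ≠ Cfsg.sigmaCore M)
  h1383 : ∀ (M : Subgroup G) (hM : IsCoatom M) (K U : Subgroup G) (hKU : Cfsg.IsSigmaDecomposition M K U),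
    Cfsg.IsOfTypeV M ↔ (K ≠ ⊥ ∧ U = ⊥ ∧ Cfsg.fittingHallOf M = Cfsg.sigmaCore M)
  h1391 : ∀ (M : Subgroup G) (hM : IsCoatom M) (X : Set G) (hX : X = tA M ∨ X = tA0 M),
    (∀ x ∈ X, ∀ g : G, g * x * g⁻¹ ∈ X → ∃ m ∈ M, m * x * m⁻¹ = g * x * g⁻¹) ∧
      (∀ x ∈ X, ¬ Subgroup.centralizer ({x} : Set G) ≤ M → x ∈ Cfsg.typeA1 M ∧ ∃! L : Subgroup G, IsCoatom L ∧ Subgroup.centralizer ({x} : Set G) ≤ L) ∧
      ∀ x ∈ X, ¬ Subgroup.centralizer ({x} : Set G) ≤ M → ∀ L : Subgroup G, IsCoatom L → Subgroup.centralizer ({x} : Set G) ≤ L →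
        Cfsg.IsComplIn (Cfsg.fittingHallOf L) (M ⊓ L) L ∧
        Subgroup.centralizer ({x} : Set G) ≤ Subgroup.normalizer ((Cfsg.fittingHallOf L ⊓ Subgroup.centralizer ({x} : Set G) : Subgroup G) : Set G) ∧
        Cfsg.IsComplIn (Cfsg.fittingHallOf L ⊓ Subgroup.centralizer ({x} : Set G)) (M ⊓ Subgroup.centralizer ({x} : Set G)) (Subgroup.centralizer ({x} : Set G)) ∧
        (∀ y ∈ X, (Nat.card (Cfsg.fittingHallOf L)).Coprime (Nat.card ↥(M ⊓ Subgroup.centralizer ({y} : Set G)))) ∧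
        (x ∈ tA L ∧ x ∉ Cfsg.typeA1 L) ∧
        (TyI L ∨ Cfsg.IsOfTypeII L) ∧
        (Cfsg.IsOfTypeII L → ∃ E : Subgroup ↥M, Cfsg.IsFrobeniusComplement E ∧ Cfsg.frobeniusKernel E = ((Cfsg.fittingHall ↥M : Subgroup ↥M) : Set ↥M))

variable {G : Type u} [Group G] [Finite G]

theorem exists_decomp (hG : IsMinSimpleOddOrder G) {M : Subgroup G} (hM : IsCoatom M) : ∃ K U, IsSigmaDecomposition M K U := by
  obtain ⟨⟨K, hK⟩, hKc⟩ := Cfsg.Agent.S1351.result hG M hM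
  obtain ⟨⟨U, hU⟩, -⟩ := Cfsg.Agent.S1352.result hG M hM K (hKc K hK) hK
  exact ⟨K, U, hU⟩

/-- `M_s = M_σ` in all cases -/
theorem typeCore_eq (hG : IsMinSimpleOddOrder G) (hC : Con16 G) {M : Subgroup G} (hM : IsCoatom M) : typeCore M = sigmaCore M := by
  obtain ⟨K, U, h⟩ := exists_decomp hG hM
  have h3 := hC.h1382 M hM K U h
  unfold typeCore
  by_cases he : fittingHallOf M = sigmaCore M
  · rw [if_neg (fun hc => (h3.1 hc).2.2 he), he]
  · obtain ⟨hU, hs, hKp, -⟩ := Cfsg.Agent.S1437.result hG M hM K U h he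
    have hK : K ≠ ⊥ := fun hb => by rw [hb, card_bot] at hKp; exact Nat.not_prime_one hKp
    rw [if_pos (h3.2 ⟨hK, hU, he⟩), hs]

theorem fh_of_typeI (hG : IsMinSimpleOddOrder G) (hC : Con16 G) {M : Subgroup G} (hM : IsCoatom M) (hI : TyI M) :
    fittingHallOf M = sigmaCore M := by
  obtain ⟨K, U, h⟩ := exists_decomp hG hM
  by_contra he
  exact ((hC.h1380 M hM K U h).1 hI).2 (Cfsg.Agent.S1437.result hG M hM K U h he).1

theorem kappa_of_typeI (hG : IsMinSimpleOddOrder G) (hC : Con16 G) {M : Subgroup G} (hM : IsCoatom M) (hI : TyI M) :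
    kappa M = ∅ := by
  obtain ⟨K, U, h⟩ := exists_decomp hG hM
  have h1 := ((hC.h1380 M hM K U h).1 hI).1
  subst h1
  exact kappa_empty hG h.hall

theorem sigmaCore_ne_top' (hG : IsMinSimpleOddOrder G) {M : Subgroup G} (hM : IsCoatom M) : sigmaCore M < M := by
  have h := Cfsg.Agent.S1355.result hG M hM
  exact lt_of_le_of_lt h.2.2.1 h.2.2.2.1

theorem K_ne_of_not_typeI (hG : IsMinSimpleOddOrder G) (hC : Con16 G) {M K U : Subgroup G} (hM : IsCoatom M)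
    (h : IsSigmaDecomposition M K U) (hI : ¬ TyI M) : K ≠ ⊥ := by
  rintro rfl
  apply hI
  refine (hC.h1380 M hM ⊥ U h).2 ⟨rfl, ?_⟩
  rintro rfl
  have h1 := decomp_bot h
  apply (sigmaCore_ne_top' hG hM).ne
  apply le_antisymm (sigmaCore_ne_top' hG hM).le
  intro m hm
  obtain ⟨a, ha, b, hb, rfl⟩ := h1.2.2.2 m hm
  rw [mem_bot.1 ha, one_mul]; exact hb

/-- a characterisation of `A(M)` -/
theorem mem_typeA (hG : IsMinSimpleOddOrder G) (hC : Con16 G) {M : Subgroup G} (hM : IsCoatom M) {a : G} :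
    a ∈ tA M ↔ a ∈ M ∧ a ≠ 1 ∧ (∀ p : ℕ, p.Prime → p ∣ orderOf a → p ∉ kappa M) ∧
      ∃ x ∈ sigmaCore M, x ≠ 1 ∧ a * x = x * a := by
  unfold tA
  by_cases hI : TyI M
  · rw [if_pos hI, fh_of_typeI hG hC hM hI, kappa_of_typeI hG hC hM hI]
    constructor
    · rintro ⟨h1, h2, h3⟩
      exact ⟨h1, h2, fun _ _ _ => Set.notMem_empty _, h3⟩
    · rintro ⟨h1, h2, -, h3⟩
      exact ⟨h1, h2, h3⟩
  · rw [if_neg hI, typeCore_eq hG hC hM]
    obtain ⟨K, U, h⟩ := exists_decomp hG hM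
    have h1 := (Cfsg.Agent.S1365.result hG M hM K U h (K_ne_of_not_typeI hG hC hM h hI)).1
    rw [Set.mem_setOf_eq, h1]
    constructor
    · rintro ⟨h2, h3, h4⟩
      have h5 : U ⊔ sigmaCore M ≤ M := sup_le h.compl.1 (sigmaCore_le M)
      exact ⟨h5 h2, h3, pi_of_mem_US hG h h2, h4⟩
    · rintro ⟨h2, h3, h4, h5⟩
      exact ⟨mem_US hG (H12.BG13.con13 hG) hM h h2 h4, h3, h5⟩

theorem mem_typeA1 (hG : IsMinSimpleOddOrder G) (hC : Con16 G) {M : Subgroup G} (hM : IsCoatom M) {a : G} :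
    a ∈ typeA1 M ↔ a ∈ sigmaCore M ∧ a ≠ 1 := by
  unfold typeA1
  rw [typeCore_eq hG hC hM]
  exact Iff.rfl

theorem not_kappa_of_sigmaCore {M : Subgroup G} {a : G} (ha : a ∈ sigmaCore M) {p : ℕ} (hp : p.Prime) (hd : p ∣ orderOf a) :
    p ∉ kappa M := fun h => h.2.2.1 (order_sigma ha hp hd)

theorem typeA1_subset (hG : IsMinSimpleOddOrder G) (hC : Con16 G) {M : Subgroup G} (hM : IsCoatom M) : typeA1 M ⊆ tA M := by
  intro a ha
  rw [mem_typeA1 hG hC hM] at ha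
  rw [mem_typeA hG hC hM]
  exact ⟨sigmaCore_le M ha.1, ha.2, fun p hp hd => not_kappa_of_sigmaCore ha.1 hp hd, a, ha.1, ha.2, rfl⟩

theorem typeA_subset0 {M : Subgroup G} : tA M ⊆ tA0 M := Set.subset_union_left

theorem kappa_cj' (hG : IsMinSimpleOddOrder G) {M : Subgroup G} {g : G} {p : ℕ} : p ∈ kappa (cj g M) ↔ p ∈ kappa M := kappa_cj hG

theorem conj_typeA (hG : IsMinSimpleOddOrder G) (hC : Con16 G) {M : Subgroup G} (hM : IsCoatom M) {a : G} (ha : a ∈ tA M)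
    (g : G) : g * a * g⁻¹ ∈ tA (cj g M) := by
  rw [mem_typeA hG hC hM] at ha
  rw [mem_typeA hG hC (isCoatom_of_cj hM g)]
  obtain ⟨h1, h2, h3, x, hx, hx1, hax⟩ := ha
  refine ⟨conj_mem_cj h1, by rwa [Ne, conj_eq_one_iff], ?_, g * x * g⁻¹, ?_, by rwa [Ne, conj_eq_one_iff], ?_⟩
  · intro p hp hd
    rw [kappa_cj hG]
    refine h3 p hp ?_
    have : orderOf (g * a * g⁻¹) = orderOf a := (MulAut.conj g).orderOf_eq a
    rwa [this] at hd
  · rw [← sc_cj]; exact conj_mem_cj hx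
  · calc g * a * g⁻¹ * (g * x * g⁻¹) = g * (a * x) * g⁻¹ := by group
      _ = g * (x * a) * g⁻¹ := by rw [hax]
      _ = _ := by group

theorem conj_typeA1 (hG : IsMinSimpleOddOrder G) (hC : Con16 G) {M : Subgroup G} (hM : IsCoatom M) {a : G} (ha : a ∈ typeA1 M)
    (g : G) : g * a * g⁻¹ ∈ typeA1 (cj g M) := by
  rw [mem_typeA1 hG hC hM] at ha
  rw [mem_typeA1 hG hC (isCoatom_of_cj hM g), ← sc_cj]
  exact ⟨conj_mem_cj ha.1, by rw [Ne, conj_eq_one_iff]; exact ha.2⟩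

theorem cj_self (M : Subgroup G) {m : G} (hm : m ∈ M) : cj m M = M := by
  apply le_antisymm
  · rintro _ ⟨x, hx, rfl⟩
    exact M.mul_mem (M.mul_mem hm hx) (M.inv_mem hm)
  · intro x hx
    refine ⟨m⁻¹ * x * m, M.mul_mem (M.mul_mem (M.inv_mem hm) hx) hm, ?_⟩
    show m * (m⁻¹ * x * m) * m⁻¹ = x
    group

theorem conj_typeA0 (hG : IsMinSimpleOddOrder G) (hC : Con16 G) {M : Subgroup G} (hM : IsCoatom M) {a : G} (ha : a ∈ tA0 M)
    {m : G} (hm : m ∈ M) : m * a * m⁻¹ ∈ tA0 M := by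
  rcases ha with ha | ⟨hI, W₁, U, W₂, hW, n, hn, w, hw, hw1, hw2, rfl⟩
  · left
    have := conj_typeA hG hC hM ha m
    rwa [cj_self M hm] at this
  · right
    refine ⟨hI, W₁, U, W₂, hW, m * n, M.mul_mem hm hn, w, hw, hw1, hw2, ?_⟩
    group

/-! ### S1537 -/

theorem one_not_mem0 (hG : IsMinSimpleOddOrder G) {M : Subgroup G} : (1 : G) ∉ tA0 M := by
  rintro (h | ⟨hI, W₁, U, W₂, hW, n, hn, w, hw, hw1, hw2, h⟩)
  · unfold tA at h
    split_ifs at h
    · exact h.2.1 rfl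
    · exact h.2.1 rfl
  · apply hw1
    have : w = 1 := by rw [eq_comm] at h; exact conj_eq_one_iff.1 h
    rw [this]; exact W₁.one_mem

theorem subset0 {M : Subgroup G} : tA0 M ⊆ (M : Set G) := by
  rintro a (h | ⟨hI, W₁, U, W₂, hW, n, hn, w, hw, hw1, hw2, rfl⟩)
  · unfold tA at h
    split_ifs at h
    · exact h.1
    · exact (H2.BG14.comm_le_self M) h.1
  · have h1 : W₁ ⊔ W₂ ≤ M := by
      refine sup_le hW.W₁_compl.2.1 (hW.W₂_le.trans (inf_le_left.trans ?_))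
      exact Subgroup.map_subtype_le _
    exact M.mul_mem (M.mul_mem hn (h1 hw)) (M.inv_mem hn)

theorem A_cases {M : Subgroup G} {A : Set G} (hG : IsMinSimpleOddOrder G) (hC : Con16 G) (hM : IsCoatom M)
    (hA : A = typeA1 M ∨ A = tA M ∨ A = tA0 M) : A ⊆ tA0 M ∧ typeA1 M ⊆ A := by
  rcases hA with rfl | rfl | rfl
  · exact ⟨(typeA1_subset hG hC hM).trans typeA_subset0, le_rfl⟩
  · exact ⟨typeA_subset0, typeA1_subset hG hC hM⟩
  · exact ⟨le_rfl, (typeA1_subset hG hC hM).trans typeA_subset0⟩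

theorem conj_A {M : Subgroup G} {A : Set G} (hG : IsMinSimpleOddOrder G) (hC : Con16 G) (hM : IsCoatom M)
    (hA : A = typeA1 M ∨ A = tA M ∨ A = tA0 M) {a : G} (ha : a ∈ A) {m : G} (hm : m ∈ M) : m * a * m⁻¹ ∈ A := by
  rcases hA with rfl | rfl | rfl
  · have := conj_typeA1 hG hC hM ha m
    rwa [cj_self M hm] at this
  · have := conj_typeA hG hC hM ha m
    rwa [cj_self M hm] at this
  · exact conj_typeA0 hG hC hM ha hm

theorem A1_nonempty (hG : IsMinSimpleOddOrder G) (hC : Con16 G) {M : Subgroup G} (hM : IsCoatom M) : (typeA1 M).Nonempty := by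
  have h1 := Cfsg.Agent.S1355.result hG M hM
  have h2 : sigmaCore M ≠ ⊥ := by
    intro hb
    rw [hb] at h1
    exact h1.1 (le_bot_iff.1 h1.2.1)
  obtain ⟨⟨x, hx⟩, hx1⟩ := (Subgroup.ne_bot_iff_exists_ne_one).1 h2
  exact ⟨x, (mem_typeA1 hG hC hM).2 ⟨hx, fun h => hx1 (Subtype.ext h)⟩⟩

theorem normalizer_A (hG : IsMinSimpleOddOrder G) (hC : Con16 G) {M : Subgroup G} (hM : IsCoatom M) {A : Set G}
    (hA : A = typeA1 M ∨ A = tA M ∨ A = tA0 M) : Subgroup.normalizer A = M := by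
  obtain ⟨hsub, hsup⟩ := A_cases hG hC hM hA
  have hle : M ≤ Subgroup.normalizer A := by
    intro m hm
    rw [Subgroup.mem_set_normalizer_iff]
    intro x
    refine ⟨fun hx => conj_A hG hC hM hA hx hm, fun hx => ?_⟩
    have := conj_A hG hC hM hA hx (M.inv_mem hm)
    have e : m⁻¹ * (m * x * m⁻¹) * m⁻¹⁻¹ = x := by group
    rwa [e] at this
  rcases hM.le_iff.1 hle with h | h
  · exfalso
    have hn : (Subgroup.closure A).Normal := by
      refine ⟨fun x hx g => ?_⟩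
      have h1 : Subgroup.closure A ≤ (Subgroup.closure A).comap (MulAut.conj g).toMonoidHom := by
        rw [Subgroup.closure_le]
        intro a ha
        apply Subgroup.subset_closure
        have : g ∈ Subgroup.normalizer A := by rw [h]; trivial
        exact (Subgroup.mem_set_normalizer_iff.1 this a).1 ha
      exact h1 hx
    haveI : IsSimpleGroup G := hG.2.1
    obtain ⟨x, hx⟩ := A1_nonempty hG hC hM
    rcases hn.eq_bot_or_eq_top with h2 | h2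
    · have : x ∈ Subgroup.closure A := Subgroup.subset_closure (hsup hx)
      rw [h2, mem_bot] at this
      exact ((mem_typeA1 hG hC hM).1 hx).2 this
    · apply hM.1
      rw [eq_top_iff, ← h2, Subgroup.closure_le]
      exact hsub.trans subset0
  · exact h

/-- everything is proved -/
theorem con16 (hG : IsMinSimpleOddOrder G) : Con16 G :=
  ⟨H2.Ty.c1380 hG, H2.Ty.c1381 hG, H2.Ty.c1382 hG, H2.Ty.c1383 hG, H12.D16.c1391 hG⟩

end Cfsg.Agent.H1.PG8
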