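import Mathlib
import Cfsg.Agent.H1_PG8a

set_option autoImplicit false
set_option linter.all false

/-! Peterfalvi §8, continued: (8.15)-(8.18) -/

open Pointwise
open scoped commutatorElement

namespace Cfsg.Agent.H1.PG8

open Cfsg Subgroup Cfsg.Agent.H13.Syl Cfsg.Agent.H12.BG10 Cfsg.Agent.H12.BG11 Cfsg.Agent.H12.BG12 Cfsg.Agent.H2.BG14 Cfsg.Agent.H2.Con13 Cfsg.Agent.H12.Ty

universe u

variable {G : Type u} [Group G] [Finite G]

/-- the data attached to `a ∈ A₀(M)` with `C_G(a)` not in `M` -/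
structure RD (M L : Subgroup G) (a : G) : Prop where
  not_le : ¬ Subgroup.centralizer ({a} : Set G) ≤ M
  memA1 : a ∈ typeA1 M
  co : IsCoatom L
  le : Subgroup.centralizer ({a} : Set G) ≤ L
  uniq : ∀ L' : Subgroup G, IsCoatom L' → Subgroup.centralizer ({a} : Set G) ≤ L' → L' = L
  sup : supportR M a = fittingHallOf L ⊓ Subgroup.centralizer ({a} : Set G)
  cmpl : IsComplIn (fittingHallOf L) (M ⊓ L) L
  norm : Subgroup.centralizer ({a} : Set G) ≤
    Subgroup.normalizer ((fittingHallOf L ⊓ Subgroup.centralizer ({a} : Set G) : Subgroup G) : Set G)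
  cmplC : IsComplIn (fittingHallOf L ⊓ Subgroup.centralizer ({a} : Set G)) (M ⊓ Subgroup.centralizer ({a} : Set G))
    (Subgroup.centralizer ({a} : Set G))
  cop : ∀ y ∈ tA0 M, (Nat.card (fittingHallOf L)).Coprime (Nat.card ↥(M ⊓ Subgroup.centralizer ({y} : Set G)))
  memA : a ∈ tA L
  not_memA1 : a ∉ typeA1 L
  types : TyI L ∨ IsOfTypeII L
  frob : IsOfTypeII L → ∃ E : Subgroup ↥M, IsFrobeniusComplement E ∧ frobeniusKernel E = ((fittingHall ↥M : Subgroup ↥M) : Set ↥M)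

theorem supportR_spec (hC : Con16 G) {M : Subgroup G} (hM : IsCoatom M) {a : G} (ha : a ∈ tA0 M) :
    (Subgroup.centralizer ({a} : Set G) ≤ M ∧ supportR M a = ⊥) ∨ ∃ L, RD M L a := by
  by_cases h : Subgroup.centralizer ({a} : Set G) ≤ M
  · exact Or.inl ⟨h, supportR_of_le h⟩
  · right
    obtain ⟨f1, f2, f3⟩ := hC.h1391 M hM (tA0 M) (Or.inr rfl)
    obtain ⟨h1, hu⟩ := f2 a ha h
    have hcond : ¬ Subgroup.centralizer ({a} : Set G) ≤ M ∧
      ∃! L : Subgroup G, IsCoatom L ∧ Subgroup.centralizer ({a} : Set G) ≤ L := ⟨h, hu⟩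
    have hs := Classical.choose_spec hcond.2.exists
    obtain ⟨g1, g2, g3, g4, g5, g6, g7⟩ := f3 a ha h _ hs.1 hs.2
    exact ⟨Classical.choose hcond.2.exists, ⟨h, h1, hs.1, hs.2, fun L' hL' hc => hu.unique ⟨hL', hc⟩ hs,
      by unfold supportR; rw [dif_pos hcond], g1, g2, g3, g4, g5.1, g5.2, g6, g7⟩⟩

/-- the data for any maximal `L` containing `C_G(a)` -/
theorem exists_RD (hC : Con16 G) {M : Subgroup G} (hM : IsCoatom M) {a : G} (ha : a ∈ tA0 M)
    (h : ¬ Subgroup.centralizer ({a} : Set G) ≤ M) {L : Subgroup G} (hL : IsCoatom L) (hc : Subgroup.centralizer ({a} : Set G) ≤ L) :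
    RD M L a := by
  rcases supportR_spec hC hM ha with h1 | ⟨L', hL'⟩
  · exact absurd h1.1 h
  · have := hL'.uniq L hL hc
    rwa [← this] at hL'

/-- **S1537** -/
theorem main1537 (hG : IsMinSimpleOddOrder G) (hC : Con16 G) (M : Subgroup G) (hM : IsCoatom M) (A : Set G)
    (hA : A = typeA1 M ∨ A = tA M ∨ A = tA0 M) :
    Subgroup.normalizer A = M ∧ DadeHypothesis A M (supportR M) := by
  refine ⟨normalizer_A hG hC hM hA, ?_⟩
  obtain ⟨hsub, hsup⟩ := A_cases hG hC hM hA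
  obtain ⟨f1, f2, f3⟩ := hC.h1391 M hM (tA0 M) (Or.inr rfl)
  refine ⟨?_, ?_, ?_, ?_, ?_, ?_, ?_, ?_, ?_⟩
  · exact fun h => one_not_mem0 hG (hsub h)
  · exact hsub.trans subset0
  · intro x hx a ha
    exact conj_A hG hC hM hA ha hx
  · intro a ha g hg
    exact f1 a (hsub ha) g (hsub hg)
  · intro a ha
    rcases supportR_spec hC hM (hsub ha) with ⟨-, h⟩ | ⟨L, h⟩
    · rw [h]; exact bot_le
    · rw [h.sup]; exact inf_le_right
  · intro a ha c hc u hu
    rcases supportR_spec hC hM (hsub ha) with ⟨-, h⟩ | ⟨L, h⟩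
    · rw [h, mem_bot] at hu ⊢
      subst hu; group
    · rw [h.sup] at hu ⊢
      exact (Subgroup.mem_set_normalizer_iff.1 (h.norm hc) u).1 hu
  · intro a ha
    rcases supportR_spec hC hM (hsub ha) with ⟨-, h⟩ | ⟨L, h⟩
    · rw [h]; exact bot_inf_eq _
    · rw [h.sup]; exact h.cmplC.2.2.1
  · intro a ha
    rcases supportR_spec hC hM (hsub ha) with ⟨h', h⟩ | ⟨L, h⟩
    · rw [h, bot_sup_eq]; exact inf_eq_right.2 h'
    · rw [h.sup]
      apply le_antisymm
      · exact sup_le h.cmplC.1 h.cmplC.2.1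
      · intro c hc
        obtain ⟨x, hx, y, hy, rfl⟩ := h.cmplC.2.2.2 c hc
        exact mul_mem_sup hx hy
  · intro a ha b hb
    rcases supportR_spec hC hM (hsub ha) with ⟨-, h⟩ | ⟨L, h⟩
    · rw [h, card_bot]; exact Nat.coprime_one_left _
    · rw [h.sup]
      exact Nat.Coprime.coprime_dvd_left (Subgroup.card_dvd_of_le inf_le_left) (h.cop b (hsub hb))

/-! ### S1538 -/

theorem normalizer_eq_of_normalized (hG : IsMinSimpleOddOrder G) {M N : Subgroup G} (hM : IsCoatom M) (hN : M ≤ Subgroup.normalizer (N : Set G))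
    (hNM : N ≤ M) (hb : N ≠ ⊥) : Subgroup.normalizer (N : Set G) = M := by
  rcases hM.le_iff.1 hN with h | h
  · exfalso
    have hn : N.Normal := Subgroup.normalizer_eq_top_iff.1 h
    haveI : IsSimpleGroup G := hG.2.1
    rcases hn.eq_bot_or_eq_top with h2 | h2
    · exact hb h2
    · exact hM.1 (top_le_iff.1 (h2 ▸ hNM))
  · exact h

theorem fh_of_typeII (hG : IsMinSimpleOddOrder G) (hC : Con16 G) {M : Subgroup G} (hM : IsCoatom M) (hI : IsOfTypeII M) :
    fittingHallOf M = sigmaCore M := by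
  obtain ⟨K, U, h⟩ := exists_decomp hG hM
  by_contra he
  exact ((hC.h1381 M hM K U h).1 hI).2 (Cfsg.Agent.S1437.result hG M hM K U h he).1

theorem fh_le_fitting {M : Subgroup G} : fittingHallOf M ≤ fittingOf M := by
  unfold fittingHallOf fittingOf
  refine Subgroup.map_mono ?_
  unfold fittingHall
  refine sSup_le ?_
  rintro N ⟨h1, h2, -⟩
  unfold fittingSubgroup
  first
    | exact le_sSup ⟨h1, h2⟩
    | exact le_sSup ⟨h2, h1⟩

theorem normalized_map {M : Subgroup G} (N : Subgroup M) [hN : N.Normal] :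
    M ≤ Subgroup.normalizer ((N.map M.subtype : Subgroup G) : Set G) := by
  have h := Subgroup.le_normalizer_map (H := N) M.subtype
  rw [Subgroup.normalizer_eq_top, ← MonoidHom.range_eq_map, Subgroup.range_subtype] at h
  exact h

theorem fitting_normalized {M : Subgroup G} : M ≤ Subgroup.normalizer (fittingOf M : Set G) := by
  haveI : (fittingSubgroup M).Normal := Subgroup.sSup_normal _ (fun _ h => h.1)
  exact normalized_map (fittingSubgroup M)

theorem cent_le_of_typeII (hG : IsMinSimpleOddOrder G) (hC : Con16 G) {M : Subgroup G} (hM : IsCoatom M) (hII : IsOfTypeII M)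
    {x : G} (hx : x ∈ tA0 M) : Subgroup.centralizer ({x} : Set G) ≤ M := by
  rcases supportR_spec hC hM hx with h | ⟨L, h⟩
  · exact h.1
  · have h1 := (mem_typeA1 hG hC hM).1 h.memA1
    rw [← fh_of_typeII hG hC hM hII] at h1
    have h2 : x ∈ fittingOf M := fh_le_fitting h1.1
    obtain ⟨W₁, U, W₂, -, -, -, hTI, -⟩ := hII
    have h3 : Subgroup.normalizer (fittingOf M : Set G) = M := by
      refine normalizer_eq_of_normalized hG hM fitting_normalized (Subgroup.map_subtype_le _) ?_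
      intro hb
      rw [hb, mem_bot] at h2
      exact h1.2 h2
    intro g hg
    rw [← h3]
    by_contra hcon
    refine h1.2 (hTI g hcon x h2 ?_)
    have : g * x * g⁻¹ = x := by
      rw [mem_centralizer_singleton_iff.1 hg]; group
    rw [this]; exact h2

theorem ti_of_cent (hG : IsMinSimpleOddOrder G) (hC : Con16 G) {M : Subgroup G} (hM : IsCoatom M) {A : Set G}
    (hA : A = typeA1 M ∨ A = tA M ∨ A = tA0 M) (hc : ∀ x ∈ A, Subgroup.centralizer ({x} : Set G) ≤ M) :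
    IsTISubset A ∧ Subgroup.normalizer A = M := by
  have hD := main1537 hG hC M hM A hA
  refine ⟨?_, hD.1⟩
  intro g hg x hx hgx
  exfalso
  rw [hD.1] at hg
  obtain ⟨m, hm, he⟩ := hD.2.fusion x hx g hgx
  apply hg
  have h1 : m⁻¹ * g ∈ Subgroup.centralizer ({x} : Set G) := by
    rw [mem_centralizer_singleton_iff]
    have h2 : m⁻¹ * (m * x * m⁻¹) * m = m⁻¹ * (g * x * g⁻¹) * m := by rw [he]
    have h3 : x = m⁻¹ * g * x * g⁻¹ * m := by
      calc x = m⁻¹ * (m * x * m⁻¹) * m := by group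
        _ = m⁻¹ * (g * x * g⁻¹) * m := h2
        _ = _ := by group
    calc m⁻¹ * g * x = (m⁻¹ * g * x * g⁻¹ * m) * (m⁻¹ * g) := by group
      _ = x * (m⁻¹ * g) := by rw [← h3]
  have h4 := M.mul_mem hm (hc x hx h1)
  rwa [mul_inv_cancel_left] at h4

/-- **S1538** -/
theorem main1538 (hG : IsMinSimpleOddOrder G) (hC : Con16 G) (M : Subgroup G) (hM : IsCoatom M) (hII : IsOfTypeII M) :
    (IsTISubset (tA0 M) ∧ Subgroup.normalizer (tA0 M) = M) ∧ (IsTISubset (tA M) ∧ Subgroup.normalizer (tA M) = M) ∧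
      (IsTISubset (typeA1 M) ∧ Subgroup.normalizer (typeA1 M) = M) := by
  refine ⟨ti_of_cent hG hC hM (Or.inr (Or.inr rfl)) fun x hx => cent_le_of_typeII hG hC hM hII hx,
    ti_of_cent hG hC hM (Or.inr (Or.inl rfl)) fun x hx => cent_le_of_typeII hG hC hM hII (typeA_subset0 hx),
    ti_of_cent hG hC hM (Or.inl rfl) fun x hx => cent_le_of_typeII hG hC hM hII (typeA_subset0 (typeA1_subset hG hC hM hx))⟩

/-! ### S1539 -/

theorem part2 (hG : IsMinSimpleOddOrder G) (hC : Con16 G) {S T : Subgroup G} (hS : IsCoatom S) (hT : IsCoatom T)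
    (hnc : ∀ g : G, cj g T ≠ S) {x : G} (hx : x ∈ typeA1 S ∩ tA T) :
    (¬ Subgroup.centralizer ({x} : Set G) ≤ S ∧ Subgroup.centralizer ({x} : Set G) ≤ T) ∧
      (∀ p : ℕ, p.Prime → p ∣ orderOf x → p ∈ tau2 T) := by
  obtain ⟨h1, h2⟩ := hx
  rw [mem_typeA1 hG hC hS] at h1
  rw [mem_typeA hG hC hT] at h2
  obtain ⟨hxT, hx1, hκ, y, hy, hy1, hxy⟩ := h2
  have hdis := (H12.BG13.con13 hG : Con13 G).h139 T S hT hS (fun g h => hnc g h.symm)
  have hσ : ∀ p : ℕ, p.Prime → p ∣ orderOf x → p ∉ sigma T := fun p hp hd h3 => hdis p h3 (order_sigma h1.1 hp hd)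
  have hmem : x ∈ T ⊓ Subgroup.centralizer ({y} : Set G) := mem_inf.2 ⟨hxT, mem_centralizer_singleton_iff.2 hxy⟩
  rcases Cfsg.Agent.S1432.result hG T hT y hy hy1 x hmem hx1 hσ with ⟨h3, -⟩ | ⟨h3, -, h4, h5⟩
  · exfalso
    obtain ⟨p, hp, hd, -⟩ := exists_prime_pow hx1
    exact hκ p hp hd (h3 p hp hd)
  · refine ⟨⟨?_, h4⟩, h3⟩
    intro hle
    exact hnc 1 (by rw [cj_one]; exact (h5 S hS hle).symm)

theorem part1 (hG : IsMinSimpleOddOrder G) (hC : Con16 G) {S T : Subgroup G} (hS : IsCoatom S) (hT : IsCoatom T)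
    (hnc : ∀ g : G, cj g T ≠ S) : Supp T S ↔ (typeA1 S ∩ tA T).Nonempty := by
  constructor
  · rintro ⟨-, x, hx, h1, h2⟩
    have h := exists_RD hC hS hx h1 hT h2
    exact ⟨x, h.memA1, h.memA⟩
  · rintro ⟨x, hx⟩
    have h := (part2 hG hC hS hT hnc hx).1
    exact ⟨hT, x, typeA_subset0 (typeA1_subset hG hC hS hx.1), h.1, h.2⟩

theorem nc_cj {S T : Subgroup G} (hnc : ∀ g : G, cj g T ≠ S) (h : G) : ∀ g : G, cj g (cj h T) ≠ S := by
  intro g hg
  rw [← cj_mul] at hg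
  exact hnc _ hg

theorem key_RD (hG : IsMinSimpleOddOrder G) {S : Subgroup G} (hS : IsCoatom S) {a r : G} (ha : a ∈ sigmaCore S) (ha1 : a ≠ 1)
    (hr : r ∈ supportR S a) : Commute a r ∧ (∀ p : ℕ, p.Prime → p ∣ orderOf r → p ∉ sigma S) := by
  have hC : Con13 G := H12.BG13.con13 hG
  rcases supportR_cases hG hC hS ha ha1 with ⟨-, h⟩ | ⟨N, hN, hnc, h⟩
  · rw [h, mem_bot] at hr
    subst hr
    exact ⟨Commute.one_right _, one_pi⟩
  · rw [h] at hr
    obtain ⟨hr1, hr2⟩ := mem_inf.1 hr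
    refine ⟨(mem_centralizer_singleton_iff.1 hr2).symm, ?_⟩
    intro p hp hd h2
    exact hC.h139 S N hS hN.co hN.nc p h2 (order_sigma hr1 hp hd)

theorem mem_zpowers_of_coprime {a r : G} (hc : Commute a r) (hcop : (orderOf a).Coprime (orderOf r)) : a ∈ zpowers (a * r) := by
  obtain ⟨k, hk1, hk2⟩ := Nat.chineseRemainder hcop 1 0
  refine ⟨(k : ℤ), ?_⟩
  show (a * r) ^ (k : ℤ) = a
  rw [zpow_natCast, hc.mul_pow]
  have h4 := pow_eq_pow_iff_modEq.2 hk1
  have h6 := pow_eq_pow_iff_modEq.2 hk2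
  rw [h4, h6, pow_one, pow_zero, mul_one]

theorem part3 (hG : IsMinSimpleOddOrder G) (hC : Con16 G) {S T : Subgroup G} (hS : IsCoatom S) (hT : IsCoatom T)
    (hnc : ∀ g : G, cj g T ≠ S) :
    (∃ g : G, Supp (cj g T) S) ↔ (tildeOf S (typeA1 S) ∩ tildeOf T (tA T)).Nonempty := by
  have hC13 : Con13 G := H12.BG13.con13 hG
  constructor
  · rintro ⟨g, hg⟩
    obtain ⟨x, hx1, hx2⟩ := (part1 hG hC hS (isCoatom_of_cj hT g) (nc_cj hnc g)).1 hg
    refine ⟨x, ⟨x, hx1, 1, one_mem _, 1, by group⟩, ⟨g⁻¹ * x * g, ?_, 1, one_mem _, g, by group⟩⟩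
    have h := conj_typeA hG hC (isCoatom_of_cj hT g) hx2 g⁻¹
    rw [cj_inv_cj, inv_inv] at h
    exact h
  · rintro ⟨z, ⟨a, ha, r, hr, y₁, hy₁⟩, ⟨b, hb, s, hs, y₂, hy₂⟩⟩
    have ha' := (mem_typeA1 hG hC hS).1 ha
    rcases supportR_spec hC hT (typeA_subset0 hb) with ⟨h1, h2⟩ | ⟨L, h⟩
    · rw [h2, mem_bot] at hs
      subst hs
      set g := y₁⁻¹ * y₂ with hg
      have he : a * r = g * b * g⁻¹ := by
        have : y₁ * (a * r) * y₁⁻¹ = y₂ * (b * 1) * y₂⁻¹ := by rw [← hy₁, ← hy₂]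
        calc a * r = y₁⁻¹ * (y₁ * (a * r) * y₁⁻¹) * y₁ := by group
          _ = y₁⁻¹ * (y₂ * (b * 1) * y₂⁻¹) * y₁ := by rw [this]
          _ = _ := by rw [hg]; group
      have hb' := conj_typeA hG hC hT hb g
      rw [← he] at hb'
      obtain ⟨hcomm, hσ⟩ := key_RD hG hS ha'.1 ha'.2 hr
      have hcop : (orderOf a).Coprime (orderOf r) := by
        apply Nat.Coprime.symm
        rw [Nat.coprime_iff_gcd_eq_one]
        by_contra hne
        obtain ⟨p, hp, hd⟩ := Nat.exists_prime_and_dvd hne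
        exact hσ p hp (hd.trans (Nat.gcd_dvd_left _ _)) (order_sigma ha'.1 hp (hd.trans (Nat.gcd_dvd_right _ _)))
      obtain ⟨k, hk⟩ := mem_zpowers_of_coprime hcomm hcop
      have hk' : (a * r) ^ k = a := hk
      have hTg := isCoatom_of_cj hT g
      have haT : a ∈ tA (cj g T) := by
        rw [mem_typeA hG hC hTg] at hb' ⊢
        obtain ⟨c1, c2, c3, y, hy, hy1, hcy⟩ := hb'
        refine ⟨?_, ha'.2, ?_, y, hy, hy1, ?_⟩
        · rw [← hk']; exact zpow_mem c1 k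
        · intro p hp hd
          refine c3 p hp (hd.trans ?_)
          exact orderOf_dvd_of_mem_zpowers ⟨k, hk⟩
        · have : Commute (a * r) y := hcy
          have h3 := this.zpow_left k
          rw [hk'] at h3
          exact h3.eq
      exact ⟨g, (part1 hG hC hS hTg (nc_cj hnc g)).2 ⟨a, ha, haT⟩⟩
    · exfalso
      have hb1 := (mem_typeA1 hG hC hT).1 h.memA1
      refine tilde_inter hG hC13 (M := S) (N := T) (w := z) hS hT ?_ ⟨a, ⟨ha'.1, ha'.2⟩, r, hr, y₁, hy₁⟩ ⟨b, ⟨hb1.1, hb1.2⟩, s, hs, y₂, hy₂⟩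
      intro g hg
      apply hnc g⁻¹
      rw [hg, cj_inv_cj]

theorem tau2_cj' {M : Subgroup G} {g : G} {p : ℕ} (h : p ∈ tau2 (cj g M)) : p ∈ tau2 M := by
  obtain ⟨h1, h2, h3, h4⟩ := h
  refine ⟨h1, fun h => h2 ((sigma_cj g p).2 h), ?_, ?_⟩
  · have := H12.BG13.rank_cj (g := g⁻¹) h3
    rwa [cj_inv_cj] at this
  · exact fun h => h4 (H12.BG13.rank_cj h)

/-- **S1539** -/
theorem main1539 (hG : IsMinSimpleOddOrder G) (hC : Con16 G) (S T : Subgroup G) (hS : IsCoatom S) (hT : IsCoatom T)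
    (hnc : ∀ g : G, T.map (MulAut.conj g).toMonoidHom ≠ S) :
    (Supp T S ↔ (typeA1 S ∩ tA T).Nonempty) ∧
    (∀ x ∈ typeA1 S ∩ tA T, ¬ Subgroup.centralizer ({x} : Set G) ≤ S ∧ Subgroup.centralizer ({x} : Set G) ≤ T) ∧
    ((∃ g : G, Supp (T.map (MulAut.conj g).toMonoidHom) S) ↔ (tildeOf S (typeA1 S) ∩ tildeOf T (tA T)).Nonempty) ∧
    (tildeOf S (typeA1 S) ∩ tildeOf T (tA T) = ∅ ∨ tildeOf T (typeA1 T) ∩ tildeOf S (tA S) = ∅) := by
  refine ⟨part1 hG hC hS hT hnc, fun x hx => (part2 hG hC hS hT hnc hx).1, part3 hG hC hS hT hnc, ?_⟩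
  by_contra hcon
  push Not at hcon
  obtain ⟨h1, h2⟩ := hcon
  have hnc' : ∀ g : G, cj g S ≠ T := by
    intro g hg
    apply hnc g⁻¹
    rw [← hg]; exact cj_inv_cj g S
  obtain ⟨g, hg⟩ := (part3 hG hC hS hT hnc).2 h1
  obtain ⟨g', hg'⟩ := (part3 hG hC hT hS hnc').2 h2
  have hTg := isCoatom_of_cj hT g
  have hSg := isCoatom_of_cj hS g'
  obtain ⟨x, hx⟩ := (part1 hG hC hS hTg (nc_cj hnc g)).1 hg
  obtain ⟨x', hx'⟩ := (part1 hG hC hT hSg (nc_cj hnc' g')).1 hg'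
  have e1 := (part2 hG hC hS hTg (nc_cj hnc g) hx).1
  have e2 := (part2 hG hC hT hSg (nc_cj hnc' g') hx').2
  have hx1 := (mem_typeA1 hG hC hS).1 hx.1
  have hx1' := (mem_typeA1 hG hC hT).1 hx'.1
  obtain ⟨p, hp, hd, -⟩ := exists_prime_pow hx1'.2
  have hpT : p ∈ sigma T := order_sigma hx1'.1 hp hd
  have hxS : x' ∈ cj g' S := ((mem_typeA hG hC hSg).1 hx'.2).1
  have hpS : p ∣ Nat.card S := by
    have h3 : orderOf x' ∣ Nat.card (cj g' S) := by
      rw [← Nat.card_zpowers]; exact card_dvd_of_le (zpowers_le.2 hxS)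
    rw [card_cj] at h3
    exact hd.trans h3
  have h5 := (Cfsg.Agent.S1436.result hG S hS x hx1.1 hx1.2 e1.1 (cj g T) hTg e1.2).1 ⟨p, (sigma_cj g p).2 hpT, hpS⟩
  have h6 : p ∈ tau2 S := tau2_cj' (e2 p hp hd)
  rw [h5.2] at h6
  exact h6

end Cfsg.Agent.H1.PG8
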