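import Mathlib
import Cfsg.Agent.H1_PG8b
import Cfsg.Agent.H10_PrD4

/-! Peterfalvi §8: the prime Dade hypothesis for maximal subgroups of type P -/

set_option autoImplicit false
set_option linter.all false

open Pointwise
open scoped commutatorElement

namespace Cfsg.Agent.H1.PG8

open Cfsg Subgroup Cfsg.Agent.H13.Syl Cfsg.Agent.H12.BG10 Cfsg.Agent.H12.BG11 Cfsg.Agent.H12.BG12 Cfsg.Agent.H2.BG14 Cfsg.Agent.H2.Con13 Cfsg.Agent.H12.Ty
open Cfsg.Agent.H10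

universe u

variable {G : Type u} [Group G] [Finite G]

theorem kappa_ne_of_P (hG : IsMinSimpleOddOrder G) {M W₁ U W₂ : Subgroup G} (hM : IsCoatom M) (hP : IsTypePWith M W₁ U W₂) :
    (kappa M).Nonempty := by
  obtain ⟨p, hp, hd⟩ := Nat.exists_prime_and_dvd (n := Nat.card W₁) (fun h => hP.W₁_ne (Subgroup.card_eq_one.1 h))
  exact ⟨p, H2.Ty.kappa_of_P hG hM hP p hp hd⟩

theorem not_TyI_of_P (hG : IsMinSimpleOddOrder G) {M W₁ U W₂ : Subgroup G} (hM : IsCoatom M) (hP : IsTypePWith M W₁ U W₂) :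
    ¬ TyI M := fun h => (kappa_ne_of_P hG hM hP).ne_empty ((H2.Ty.tyI_iff hG hM).1 h)

/-- type P data are unique up to conjugacy (`W₁`, `W₂` only) -/
theorem P_unique' (hG : IsMinSimpleOddOrder G) {M W₁ U W₂ W₁' U' W₂' : Subgroup G} (hM : IsCoatom M) (hP : IsTypePWith M W₁ U W₂)
    (hP' : IsTypePWith M W₁' U' W₂') : ∃ m ∈ M, W₁' = cj m W₁ ∧ W₂' = cj m W₂ := by
  obtain ⟨K, E, V, hks⟩ := exists_KS_of_kappa hG (H12.BG13.con13 hG) hM (kappa_ne_of_P hG hM hP)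
  obtain ⟨m, hm, h1, h2⟩ := H2.Ty.P_unique hG hks hP
  obtain ⟨m', hm', h1', h2'⟩ := H2.Ty.P_unique hG hks hP'
  refine ⟨m' * m⁻¹, mul_mem hm' (inv_mem hm), ?_, ?_⟩
  · rw [h1, h1', cj_mul, cj_inv_cj]
  · rw [h2, h2', cj_mul, cj_inv_cj]

theorem tA0_eq_A0 (hG : IsMinSimpleOddOrder G) {M W₁ U W₂ : Subgroup G} (hM : IsCoatom M) (hP : IsTypePWith M W₁ U W₂) :
    tA0 M = PrD4.A0 M W₁ W₂ (tA M) := by
  unfold tA0 PrD4.A0
  congr 1
  ext v
  constructor
  · rintro ⟨-, W₁', U', W₂', hP', m, hm, w, hw, hw1, hw2, rfl⟩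
    obtain ⟨n, hn, rfl, rfl⟩ := P_unique' hG hM hP hP'
    rw [← cj_sup, mem_cj] at hw
    rw [mem_cj] at hw1 hw2
    refine ⟨m * n, mul_mem hm hn, n⁻¹ * w * n, ⟨hw, fun h => ?_⟩, by group⟩
    rcases h with h | h
    · exact hw1 h
    · exact hw2 h
  · rintro ⟨m, hm, w, hw, rfl⟩
    exact ⟨not_TyI_of_P hG hM hP, W₁, U, W₂, hP, m, hm, w, hw.1, fun h => hw.2 (Or.inl h), fun h => hw.2 (Or.inr h), rfl⟩

theorem comm_subgroupOf' {X : Type*} [Group X] (H : Subgroup X) : ⁅H, H⁆.subgroupOf H = commutator H := by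
  have h1 : (commutator H).map H.subtype = ⁅H, H⁆ := by
    rw [_root_.commutator_def, Subgroup.map_commutator, ← MonoidHom.range_eq_map, Subgroup.range_subtype]
  rw [← h1, H12.Core.subgroupOf_map_subtype_self]

theorem pt_P (hG : IsMinSimpleOddOrder G) {M W₁ U W₂ : Subgroup G} (hP : IsTypePWith M W₁ U W₂) :
    PrD2.PT M (⁅M, M⁆.subgroupOf M) W₁ W₂ := by
  have hc := hP.W₁_compl
  have hM' : ⁅M, M⁆ ≤ M := hc.1
  have hW2' : W₂ ≤ ⁅M, M⁆ := hP.W₂_le.trans (inf_le_left.trans hP.U_compl.1)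
  refine ⟨?_, hc.2.1, hW2'.trans hM', ?_, ?_, ?_, ?_, ?_, hP.selfNormalizing, hG.1⟩
  · rw [comm_subgroupOf']
    infer_instance
  · rw [eq_bot_iff]
    rintro ⟨m, hm⟩ hx
    have h1 : m ∈ ⁅M, M⁆ ⊓ W₁ := mem_inf.2 ⟨(mem_inf.1 hx).1, (mem_inf.1 hx).2⟩
    rw [hc.2.2.1, mem_bot] at h1
    exact mem_bot.2 (Subtype.ext h1)
  · rw [eq_top_iff]
    rintro ⟨m, hm⟩ -
    obtain ⟨a, ha, b, hb, rfl⟩ := hc.2.2.2 m hm
    exact Subgroup.mul_mem_sup (x := (⟨a, hM' ha⟩ : M)) (y := ⟨b, hc.2.1 hb⟩) ha hb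
  · have h1 := H12.Core.IsComplIn_card hc
    have h2 : W₁.relIndex M * Nat.card W₁ = Nat.card M := H1.Basic.relIndex_mul_card hc.2.1
    have h3 : Nat.card ↥(⁅M, M⁆.subgroupOf M) = W₁.relIndex M := by
      rw [H1.Basic.card_subgroupOf hM']
      exact Nat.eq_of_mul_eq_mul_right Nat.card_pos (h1.trans h2.symm)
    rw [h3]
    exact hP.W₁_hall
  · exact fun x hx => hW2' hx
  · intro x hx hx1
    have h1 := hP.W₂_centralizer x hx (fun e => hx1 (Subtype.ext e))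
    ext y
    constructor
    · intro hy
      obtain ⟨hy1, hy2⟩ := mem_inf.1 hy
      show (y : G) ∈ W₂
      rw [← h1]
      exact mem_inf.2 ⟨hy1, mem_centralizer_singleton_iff.2 (congrArg Subtype.val (mem_centralizer_singleton_iff.1 hy2))⟩
    · intro hy
      have hy' : (y : G) ∈ W₂ := hy
      rw [← h1] at hy'
      obtain ⟨hy1, hy2⟩ := mem_inf.1 hy'
      exact mem_inf.2 ⟨hy1, mem_centralizer_singleton_iff.2 (Subtype.ext (mem_centralizer_singleton_iff.1 hy2))⟩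

theorem pd_gen (hG : IsMinSimpleOddOrder G) {M W₁ U W₂ H : Subgroup G} (hM : IsCoatom M) (hP : IsTypePWith M W₁ U W₂)
    (h1 : fittingHallOf M ≤ H) (h2 : H ≤ typeCore M) (h3 : M ≤ normalizer (H : Set G)) :
    PrD4.PD M (⁅M, M⁆.subgroupOf M) (H.subgroupOf M) W₁ W₂ (tA M) (supportR M) := by
  have hI := not_TyI_of_P hG hM hP
  have hs := typeCore_eq hG (con16 hG) hM
  have hsM : sigmaCore M ≤ ⁅M, M⁆ := (Cfsg.Agent.S1355.result hG M hM).2.2.1
  have hHM' : H ≤ ⁅M, M⁆ := h2.trans (hs ▸ hsM)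
  have hc := hP.W₁_compl
  refine ⟨pt_P hG hP, normal_subgroupOf_of_le_normalizer h3, ?_, ?_, ?_, ?_, ?_, ?_⟩
  · exact fun x hx => hHM' hx
  · exact fun x hx => h1 ((hP.W₂_le.trans inf_le_left) hx)
  · intro a ha
    unfold tA at ha
    rw [if_neg hI] at ha
    exact ⟨⟨a, hc.1 ha.1⟩, ha.1, rfl⟩
  · intro x hx a ha
    have := conj_typeA hG (con16 hG) hM ha x
    rwa [cj_self M hx] at this
  · rintro k hk hk1 ⟨z, hz, hz1, hkz⟩
    unfold tA
    rw [if_neg hI]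
    exact ⟨hk, fun e => hk1 (Subtype.ext e), z, h2 hz, fun e => hz1 (Subtype.ext e), congrArg Subtype.val hkz⟩
  · rw [← tA0_eq_A0 hG hM hP]
    exact (main1537 hG (con16 hG) M hM (tA0 M) (Or.inr (Or.inr rfl))).2

theorem fh_le_core (hG : IsMinSimpleOddOrder G) {M : Subgroup G} (hM : IsCoatom M) : fittingHallOf M ≤ typeCore M := by
  rw [typeCore_eq hG (con16 hG) hM]
  exact (Cfsg.Agent.S1355.result hG M hM).2.1

/-- the prime Dade hypothesis with `H = M_s` -/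
theorem pd_core (hG : IsMinSimpleOddOrder G) {M W₁ U W₂ : Subgroup G} (hM : IsCoatom M) (hP : IsTypePWith M W₁ U W₂) :
    PrD4.PD M (⁅M, M⁆.subgroupOf M) ((typeCore M).subgroupOf M) W₁ W₂ (tA M) (supportR M) := by
  refine pd_gen hG hM hP (fh_le_core hG hM) le_rfl ?_
  rw [typeCore_eq hG (con16 hG) hM]
  exact le_normalizer_sigmaCore M

/-- the prime Dade hypothesis with `H = M_F` -/
theorem pd_fh (hG : IsMinSimpleOddOrder G) {M W₁ U W₂ : Subgroup G} (hM : IsCoatom M) (hP : IsTypePWith M W₁ U W₂) :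
    PrD4.PD M (⁅M, M⁆.subgroupOf M) ((fittingHallOf M).subgroupOf M) W₁ W₂ (tA M) (supportR M) :=
  pd_gen hG hM hP le_rfl (fh_le_core hG hM) (H12.Core.le_normalizer_fittingHallOf M)

theorem dade_tA0 (hG : IsMinSimpleOddOrder G) {M : Subgroup G} (hM : IsCoatom M) : DadeHypothesis (tA0 M) M (supportR M) :=
  (main1537 hG (con16 hG) M hM (tA0 M) (Or.inr (Or.inr rfl))).2

/-- the support is trivial on `M_F^#` when `F(M)` is a TI-subset (types II, III, IV) -/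
theorem R_bot_of_ti (hG : IsMinSimpleOddOrder G) {M : Subgroup G} (hM : IsCoatom M) (hTI : IsTISubset (fittingOf M : Set G)) {x : G}
    (hx : x ∈ fittingOf M) (hx1 : x ≠ 1) : centralizer ({x} : Set G) ≤ M ∧ supportR M x = ⊥ := by
  have h3 : Subgroup.normalizer (fittingOf M : Set G) = M := by
    refine normalizer_eq_of_normalized hG hM fitting_normalized (Subgroup.map_subtype_le _) ?_
    intro hb
    rw [hb, mem_bot] at hx
    exact hx1 hx
  have h4 : centralizer ({x} : Set G) ≤ M := by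
    intro g hg
    rw [← h3]
    by_contra hcon
    refine hx1 (hTI g hcon x hx ?_)
    have : g * x * g⁻¹ = x := by
      rw [mem_centralizer_singleton_iff.1 hg]; group
    rw [this]; exact hx
  exact ⟨h4, supportR_of_le h4⟩

/-- type II: all supports are trivial -/
theorem R_bot_of_II (hG : IsMinSimpleOddOrder G) {M : Subgroup G} (hM : IsCoatom M) (hII : IsOfTypeII M) {x : G} (hx : x ∈ tA0 M) :
    centralizer ({x} : Set G) ≤ M ∧ supportR M x = ⊥ := by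
  have h4 := cent_le_of_typeII hG (con16 hG) hM hII hx
  exact ⟨h4, supportR_of_le h4⟩

end Cfsg.Agent.H1.PG8
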