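import Mathlib
import Cfsg.Prelude.Def_OddOrderLocal
import Cfsg.Agent.H12_Core
import Cfsg.Agent.H12_BG1

/-! Elementary facts on type-P data -/

set_option autoImplicit false

open Pointwise
open scoped commutatorElement

namespace Cfsg.Agent.H12.TypeP

open Cfsg Subgroup

variable {G : Type*} [Group G]

/-- In a self-normalizing cyclic pair, the centralizer of a "mixed" element is `W₁ ⊔ W₂`. -/
theorem centralizer_mixed {W₁ W₂ : Subgroup G} (hW : IsSelfNormalizingCyclic W₁ W₂) {a b : G} (ha : a ∈ W₁)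
    (hb : b ∈ W₂) (ha1 : a ≠ 1) (hb1 : b ≠ 1) : centralizer {a * b} = W₁ ⊔ W₂ := by
  obtain ⟨_, _, h12, hc, _, hN⟩ := hW
  have hmem : a * b ∈ W₁ ⊔ W₂ := Subgroup.mul_mem_sup ha hb
  have h1 : a * b ∉ W₁ := by
    intro h
    have hb' : b ∈ W₁ := by
      have := W₁.mul_mem (W₁.inv_mem ha) h
      simpa using this
    have : b ∈ W₁ ⊓ W₂ := ⟨hb', hb⟩
    rw [h12, mem_bot] at this
    exact hb1 this
  have h2 : a * b ∉ W₂ := by
    intro h
    have ha' : a ∈ W₂ := by
      have := W₂.mul_mem h (W₂.inv_mem hb)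
      simpa using this
    have : a ∈ W₁ ⊓ W₂ := ⟨ha, ha'⟩
    rw [h12, mem_bot] at this
    exact ha1 this
  have := hN {a * b} (by
    intro x hx
    rw [Set.mem_singleton_iff] at hx
    subst hx
    exact ⟨hmem, fun h => h.elim h1 h2⟩) (Set.singleton_nonempty _)
  rw [← this]
  ext g
  rw [mem_centralizer_singleton_iff, mem_set_normalizer_iff]
  constructor
  · intro h x
    rw [Set.mem_singleton_iff, Set.mem_singleton_iff]
    constructor
    · rintro rfl
      rw [h]; group
    · intro hx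
      have : x = g⁻¹ * (a * b) * g := by rw [← hx]; group
      rw [this, mul_assoc, ← h]; group
  · intro h
    have := (h (a * b)).mp rfl
    rw [Set.mem_singleton_iff] at this
    calc g * (a * b) = g * (a * b) * g⁻¹ * g := by group
      _ = _ := by rw [this]

theorem card_sup_of_pair [Finite G] {W₁ W₂ : Subgroup G} (hW : IsSelfNormalizingCyclic W₁ W₂) :
    Nat.card (W₁ ⊔ W₂ : Subgroup G) = Nat.card W₁ * Nat.card W₂ := by
  apply H22.Basic.card_sup_of_inf_eq_bot
  · apply H1.Coprime.le_normalizer_of_le_centralizer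
    intro x hx y hy
    exact hW.2.2.2.1 y hy x hx
  · exact hW.2.2.1

/-- S1386 -/
theorem w2_eq [Finite G] (W₁ W₂ S U W₂' : Subgroup G) (hW : IsSelfNormalizingCyclic W₁ W₂)
    (hSW : IsComplIn ⁅S, S⁆ W₁ S) (hW₂S : W₂ ≤ S) (hP : IsTypePWith S W₁ U W₂') : W₂' = W₂ := by
  have hW' := hP.selfNormalizing
  obtain ⟨a, ha, ha1⟩ := (Subgroup.bot_or_exists_ne_one W₁).resolve_left hW.1
  obtain ⟨b, hb, hb1⟩ := (Subgroup.bot_or_exists_ne_one W₂).resolve_left hW.2.1
  -- W₂ ≤ W₁ ⊔ W₂'
  have h1 : W₂ ≤ W₁ ⊔ W₂' := by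
    intro x hx
    obtain ⟨s, hs, w, hw, rfl⟩ := hSW.2.2.2 x (hW₂S hx)
    have hac : a * (s * w) = (s * w) * a := hW.2.2.2.1 a ha _ hx
    have haw : a * w = w * a := by
      have hcyc := hW'.2.2.2.2.1
      have hcomm : IsMulCommutative (W₁ ⊔ W₂' : Subgroup G) := by
        letI := hcyc
        infer_instance
      have := hcomm.is_comm.comm ⟨a, mem_sup_left ha⟩ ⟨w, mem_sup_left hw⟩
      exact congrArg Subtype.val this
    have hs' : s ∈ W₂' := by
      rw [← hP.W₂_centralizer a ha ha1]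
      refine ⟨hs, ?_⟩
      have : a * s * w = s * a * w := by
        rw [mul_assoc, hac, mul_assoc, ← haw, ← mul_assoc]
      exact mem_centralizer_singleton_iff.mpr (mul_right_cancel this).symm
    exact Subgroup.mul_mem _ (mem_sup_right hs') (mem_sup_left hw)
  have h2 : W₁ ⊔ W₂' ≤ W₁ ⊔ W₂ := by
    rw [← centralizer_mixed hW ha hb ha1 hb1]
    intro x hx
    rw [mem_centralizer_singleton_iff]
    have hcomm : IsMulCommutative (W₁ ⊔ W₂' : Subgroup G) := by
      letI := hW'.2.2.2.2.1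
      infer_instance
    have := hcomm.is_comm.comm ⟨x, hx⟩ ⟨a * b, Subgroup.mul_mem _ (mem_sup_left ha) (h1 hb)⟩
    exact congrArg Subtype.val this
  have h3 : W₁ ⊔ W₂' = W₁ ⊔ W₂ := le_antisymm h2 (sup_le le_sup_left h1)
  have h4 : Nat.card W₂' = Nat.card W₂ := by
    have e1 := card_sup_of_pair hW
    have e2 := card_sup_of_pair hW'
    rw [h3, e1] at e2
    exact (Nat.eq_of_mul_eq_mul_left Nat.card_pos e2).symm
  exact Core.cyclic_eq_of_card_eq' hW.2.2.2.2.1 (h3 ▸ le_sup_right) le_sup_right h4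

section
variable [Finite G] {M W₁ U W₂ : Subgroup G} (hP : IsTypePWith M W₁ U W₂)
include hP

theorem commutator_le_self : ⁅M, M⁆ ≤ M := by
  rw [commutator_le]
  intro a ha b hb
  exact M.mul_mem (M.mul_mem (M.mul_mem ha hb) (M.inv_mem ha)) (M.inv_mem hb)

theorem card_U_dvd : Nat.card U ∣ (fittingHallOf M).relIndex M := by
  have h1 := Core.IsComplIn_card hP.U_compl
  have h2 := H1.Basic.relIndex_mul_card (Core.fittingHallOf_le M)
  have h3 : Nat.card ↥⁅M, M⁆ ∣ Nat.card M := card_dvd_of_le (commutator_le_self hP)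
  rw [← h1, ← h2, mul_comm] at h3
  exact Nat.dvd_of_mul_dvd_mul_right Nat.card_pos h3

theorem coprime_U : (Nat.card U).Coprime (Nat.card (fittingHallOf M)) :=
  (Nat.Coprime.coprime_dvd_right (card_U_dvd hP) (Core.fittingHallOf_coprime M)).symm

theorem U_le_M : U ≤ M := hP.U_compl.2.1.trans (commutator_le_self hP)

theorem U_le_normalizer : U ≤ normalizer (fittingHallOf M : Set G) :=
  (U_le_M hP).trans (Core.le_normalizer_fittingHallOf M)

/-- S1387 -/
theorem fitting_eq : fittingOf M = fittingHallOf M ⊔ (U ⊓ centralizer (fittingHallOf M : Set G)) := by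
  apply le_antisymm
  · have hF := Core.fittingOf_isNilpotent M
    have h1 : fittingOf M ⊓ U ≤ centralizer (fittingHallOf M : Set G) := by
      apply Core.commutator_eq_bot_of_nilpotent_coprime hF (Core.fittingHallOf_le_fittingOf M) inf_le_left
      · exact inf_le_right.trans (U_le_normalizer hP)
      · exact Nat.Coprime.coprime_dvd_left (card_dvd_of_le inf_le_right) (coprime_U hP)
    intro f hf
    obtain ⟨h, hh, u, hu, rfl⟩ := hP.U_compl.2.2.2 f (hP.fitting_le hf)
    have hu' : u ∈ fittingOf M := by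
      have := (fittingOf M).mul_mem ((fittingOf M).inv_mem (Core.fittingHallOf_le_fittingOf M hh)) hf
      simpa using this
    exact Subgroup.mul_mem_sup hh ⟨hu, h1 ⟨hu', hu⟩⟩
  · refine sup_le (Core.fittingHallOf_le_fittingOf M) ?_
    rw [← hP.fitting_eq]
    exact le_sup_of_le_right (inf_le_inf_right _ (U_le_M hP))

theorem derived_U : ⁅U, U⁆ ≤ centralizer (fittingHallOf M : Set G) := by
  have hUU : ⁅U, U⁆ ≤ U := by
    rw [commutator_le]
    intro a ha b hb
    exact U.mul_mem (U.mul_mem (U.mul_mem ha hb) (U.inv_mem ha)) (U.inv_mem hb)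
  have h1 : ⁅U, U⁆ ≤ fittingOf M := by
    refine (commutator_mono hP.U_compl.2.1 hP.U_compl.2.1).trans ?_
    rw [← hP.fitting_eq]
    exact hP.derived_two_le
  rw [fitting_eq hP] at h1
  intro x hx
  have hx1 := h1 hx
  rw [H22.Basic.mem_sup_of_le_normalizer (inf_le_left.trans (U_le_normalizer hP))] at hx1
  obtain ⟨n, hn, k, hk, rfl⟩ := hx1
  have hn' : n ∈ fittingHallOf M ⊓ U := by
    refine ⟨hn, ?_⟩
    have := U.mul_mem (hUU hx) (U.inv_mem hk.1)
    simpa using this
  rw [hP.U_compl.2.2.1, mem_bot] at hn'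
  subst hn'
  rw [one_mul]
  exact hk.2

theorem U_not_centralizes (hU : U ≠ ⊥) : ¬ U ≤ centralizer (fittingHallOf M : Set G) := by
  intro h
  apply hU
  -- M' = H × U is nilpotent
  have hsup : fittingHallOf M ⊔ U = ⁅M, M⁆ := by
    apply le_antisymm (sup_le hP.U_compl.1 hP.U_compl.2.1)
    intro m hm
    obtain ⟨a, ha, b, hb, rfl⟩ := hP.U_compl.2.2.2 m hm
    exact Subgroup.mul_mem_sup ha hb
  have hF : fittingOf M = ⁅M, M⁆ := by
    rw [fitting_eq hP, inf_eq_left.mpr h, hsup]
  have hnil : Group.IsNilpotent ↥⁅M, M⁆ := hF ▸ Core.fittingOf_isNilpotent M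
  have hcop : (Nat.card ↥⁅M, M⁆).Coprime (⁅M, M⁆.relIndex M) := by
    have h1 := Core.IsComplIn_card hP.W₁_compl
    have h2 := H1.Basic.relIndex_mul_card (commutator_le_self hP)
    have h3 := H1.Basic.relIndex_mul_card hP.W₁_compl.2.1
    have h4 : ⁅M, M⁆.relIndex M = Nat.card W₁ := by
      rw [← h1, mul_comm] at h2
      exact Nat.eq_of_mul_eq_mul_left Nat.card_pos h2
    have h5 : W₁.relIndex M = Nat.card ↥⁅M, M⁆ := by
      rw [← h1] at h3
      exact Nat.eq_of_mul_eq_mul_right Nat.card_pos h3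
    rw [h4, ← h5]
    exact hP.W₁_hall.symm
  have h6 : ⁅M, M⁆ ≤ fittingHallOf M := by
    apply Core.le_fittingHallOf (commutator_le_self hP) _ hnil hcop
    exact H22.Basic.le_normalizer_commutator le_normalizer le_normalizer
  rw [eq_bot_iff, ← hP.U_compl.2.2.1]
  exact le_inf (hP.U_compl.2.1.trans h6) le_rfl

end

end Cfsg.Agent.H12.TypeP
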