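import Mathlib

set_option autoImplicit false

namespace Cfsg.Agent.H20.FieldRep

open Polynomial

universe u v

variable {H : Type u} [Group H] {p : ℕ} [hp : Fact p.Prime] {V : Type v} [AddCommGroup V] [Module (ZMod p) V]

/-- If an abelian normal subgroup `F` of `H` acts irreducibly on a finite `F_p H`-module `V`, then there is a field `K` with
`|K| = |V|`, a homomorphism `f` from `F` to `K`, and a compatible homomorphism `φ` from `H` to `Gal(K/F_p)`. -/
theorem exists_field [Finite V] [Nontrivial V] (ρ : H →* Module.End (ZMod p) V) (F : Subgroup H) [hF : F.Normal]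
    (hab : ∀ a ∈ F, ∀ b ∈ F, ρ a * ρ b = ρ b * ρ a)
    (hirr : ∀ W : Submodule (ZMod p) V, (∀ a ∈ F, ∀ v ∈ W, ρ a v ∈ W) → W = ⊥ ∨ W = ⊤) :
    ∃ (K : Type v) (_ : Field K) (_ : Algebra (ZMod p) K) (f : F →* K) (φ : H →* (K ≃ₐ[ZMod p] K)),
      Finite K ∧ Nat.card K = Nat.card V ∧ (∀ a : F, f a = 1 ↔ ρ a = 1) ∧
      (∀ (h : H) (a : F), f ⟨h * a * h⁻¹, hF.conj_mem a a.2 h⟩ = φ h (f a)) ∧
      (∀ h : H, φ h = 1 ↔ ∀ a ∈ F, ρ (h * a * h⁻¹) = ρ a) ∧
      Algebra.adjoin (ZMod p) (Set.range f) = ⊤ := by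
  classical
  set S : Set (Module.End (ZMod p) V) := ρ '' (F : Set H) with hS
  have hcomm : ∀ a ∈ S, ∀ b ∈ S, a * b = b * a := by
    rintro _ ⟨a, ha, rfl⟩ _ ⟨b, hb, rfl⟩
    exact hab a ha b hb
  let R := Algebra.adjoin (ZMod p) S
  let instCR : CommRing R := Algebra.adjoinCommRingOfComm (ZMod p) hcomm
  have hker : ∀ x : R, x ≠ 0 → ∀ v : V, (x : Module.End (ZMod p) V) v = 0 → v = 0 := by
    intro x hx v hv
    have hk := hirr (LinearMap.ker (x : Module.End (ZMod p) V)) (by
      intro a ha w hw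
      rw [LinearMap.mem_ker] at hw ⊢
      have h1 : x * ⟨ρ a, Algebra.subset_adjoin ⟨a, ha, rfl⟩⟩ = ⟨ρ a, Algebra.subset_adjoin ⟨a, ha, rfl⟩⟩ * x := mul_comm _ _
      have h2 := congrArg (fun z : R => (z : Module.End (ZMod p) V) w) h1
      change (x : Module.End (ZMod p) V) (ρ a w) = ρ a ((x : Module.End (ZMod p) V) w) at h2
      rw [h2, hw, map_zero])
    rcases hk with hk | hk
    · have : v ∈ LinearMap.ker (x : Module.End (ZMod p) V) := hv
      rw [hk, Submodule.mem_bot] at this
      exact this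
    · exfalso
      apply hx
      apply Subtype.ext
      rw [LinearMap.ker_eq_top] at hk
      exact hk
  have : NoZeroDivisors R := ⟨by
    intro x y hxy
    by_cases hx : x = 0
    · exact Or.inl hx
    · right
      apply Subtype.ext
      ext v
      have h2 := congrArg (fun z : R => (z : Module.End (ZMod p) V) v) hxy
      exact hker x hx _ h2⟩
  have : Nontrivial R := ⟨⟨0, 1, by
    intro h
    obtain ⟨v, hv⟩ := exists_ne (0 : V)
    have h2 := congrArg (fun z : R => (z : Module.End (ZMod p) V) v) h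
    exact hv h2.symm⟩⟩
  have : IsDomain R := NoZeroDivisors.to_isDomain R
  have : Finite (Module.End (ZMod p) V) := Finite.of_injective (fun f : Module.End (ZMod p) V => (f : V → V)) DFunLike.coe_injective
  have hfinR : Finite R := inferInstance
  have hfield : IsField R := Finite.isField_of_domain R
  -- conjugation
  have hρinv : ∀ h : H, ρ h * ρ h⁻¹ = 1 := fun h => by rw [← map_mul, mul_inv_cancel, map_one]
  have hρinv' : ∀ h : H, ρ h⁻¹ * ρ h = 1 := fun h => by rw [← map_mul, inv_mul_cancel, map_one]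
  have hconj : ∀ h : H, ∀ x ∈ R, ρ h * x * ρ h⁻¹ ∈ R := by
    intro h x hx
    induction hx using Algebra.adjoin_induction with
    | mem x hx =>
      obtain ⟨a, ha, rfl⟩ := hx
      apply Algebra.subset_adjoin
      exact ⟨h * a * h⁻¹, hF.conj_mem a ha h, by rw [map_mul, map_mul]⟩
    | algebraMap r =>
      have : ρ h * (algebraMap (ZMod p) (Module.End (ZMod p) V) r) * ρ h⁻¹ = algebraMap (ZMod p) (Module.End (ZMod p) V) r := by
        rw [← Algebra.commutes, mul_assoc, hρinv, mul_one]
      rw [this]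
      exact Subalgebra.algebraMap_mem _ _
    | add x y _ _ hx hy =>
      rw [mul_add, add_mul]
      exact Subalgebra.add_mem _ hx hy
    | mul x y _ _ hx hy =>
      have : ρ h * (x * y) * ρ h⁻¹ = (ρ h * x * ρ h⁻¹) * (ρ h * y * ρ h⁻¹) := by
        calc ρ h * (x * y) * ρ h⁻¹ = ρ h * x * 1 * y * ρ h⁻¹ := by simp only [mul_assoc, mul_one, one_mul]
          _ = ρ h * x * (ρ h⁻¹ * ρ h) * y * ρ h⁻¹ := by rw [hρinv']
          _ = _ := by simp only [mul_assoc]
      rw [this]
      exact Subalgebra.mul_mem _ hx hy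
  let c : H → (R →ₐ[ZMod p] R) := fun h =>
    { toFun := fun x => ⟨ρ h * x * ρ h⁻¹, hconj h x x.2⟩
      map_one' := by
        apply Subtype.ext
        show ρ h * 1 * ρ h⁻¹ = 1
        rw [mul_one, hρinv]
      map_mul' := fun x y => by
        apply Subtype.ext
        show ρ h * ((x : Module.End (ZMod p) V) * y) * ρ h⁻¹ = (ρ h * x * ρ h⁻¹) * (ρ h * y * ρ h⁻¹)
        calc ρ h * (x * y) * ρ h⁻¹ = ρ h * x * 1 * y * ρ h⁻¹ := by simp only [mul_assoc, mul_one, one_mul]
          _ = ρ h * x * (ρ h⁻¹ * ρ h) * y * ρ h⁻¹ := by rw [hρinv']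
          _ = _ := by simp only [mul_assoc]
      map_zero' := by
        apply Subtype.ext
        show ρ h * 0 * ρ h⁻¹ = 0
        rw [mul_zero, zero_mul]
      map_add' := fun x y => by
        apply Subtype.ext
        show ρ h * ((x : Module.End (ZMod p) V) + y) * ρ h⁻¹ = (ρ h * x * ρ h⁻¹) + (ρ h * y * ρ h⁻¹)
        rw [mul_add, add_mul]
      commutes' := fun r => by
        apply Subtype.ext
        show ρ h * (algebraMap (ZMod p) (Module.End (ZMod p) V) r) * ρ h⁻¹ = algebraMap (ZMod p) (Module.End (ZMod p) V) r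
        rw [← Algebra.commutes, mul_assoc, hρinv, mul_one] }
  let φ0 : H →* (R →ₐ[ZMod p] R) :=
    { toFun := c
      map_one' := by
        apply AlgHom.ext
        intro x
        apply Subtype.ext
        show ρ 1 * (x : Module.End (ZMod p) V) * ρ 1⁻¹ = x
        rw [inv_one, map_one, mul_one, one_mul]
      map_mul' := fun g h => by
        apply AlgHom.ext
        intro x
        apply Subtype.ext
        show ρ (g * h) * (x : Module.End (ZMod p) V) * ρ (g * h)⁻¹ = ρ g * (ρ h * x * ρ h⁻¹) * ρ g⁻¹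
        rw [mul_inv_rev, map_mul, map_mul]
        simp only [mul_assoc] }
  let φ : H →* (R ≃ₐ[ZMod p] R) := (AlgEquiv.algHomUnitsEquiv (ZMod p) R).toMonoidHom.comp φ0.toHomUnits
  let f : F →* R :=
    { toFun := fun a => ⟨ρ a, Algebra.subset_adjoin ⟨a, a.2, rfl⟩⟩
      map_one' := by
        apply Subtype.ext
        exact map_one ρ
      map_mul' := fun a b => by
        apply Subtype.ext
        exact map_mul ρ (a : H) (b : H) }
  have hφ : ∀ h x, ((φ h x : R) : Module.End (ZMod p) V) = ρ h * x * ρ h⁻¹ := fun h x => rfl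
  refine ⟨R, hfield.toField, inferInstance, f, φ, hfinR, ?_, ?_, ?_, ?_, ?_⟩
  · -- card
    obtain ⟨v, hv⟩ := exists_ne (0 : V)
    apply Nat.card_congr
    apply Equiv.ofBijective (fun x : R => (x : Module.End (ZMod p) V) v)
    constructor
    · intro x y hxy
      by_contra hne
      have h1 : x - y ≠ 0 := sub_ne_zero.2 hne
      apply hv
      apply hker (x - y) h1
      show (x : Module.End (ZMod p) V) v - (y : Module.End (ZMod p) V) v = 0
      exact sub_eq_zero.2 hxy
    · let W : Submodule (ZMod p) V :=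
        { carrier := Set.range (fun x : R => (x : Module.End (ZMod p) V) v)
          zero_mem' := ⟨0, rfl⟩
          add_mem' := by
            rintro _ _ ⟨x, rfl⟩ ⟨y, rfl⟩
            exact ⟨x + y, rfl⟩
          smul_mem' := by
            rintro r _ ⟨x, rfl⟩
            exact ⟨r • x, rfl⟩ }
      have hW := hirr W (by
        rintro a ha _ ⟨x, rfl⟩
        exact ⟨⟨ρ a, Algebra.subset_adjoin ⟨a, ha, rfl⟩⟩ * x, rfl⟩)
      rcases hW with hW | hW
      · exfalso
        have : v ∈ W := ⟨1, rfl⟩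
        rw [hW, Submodule.mem_bot] at this
        exact hv this
      · intro w
        have : w ∈ W := hW ▸ Submodule.mem_top
        exact this
  · intro a
    constructor
    · intro h
      exact congrArg Subtype.val h
    · intro h
      apply Subtype.ext
      exact h
  · intro h a
    apply Subtype.ext
    show ρ (h * a * h⁻¹) = ρ h * ρ a * ρ h⁻¹
    rw [map_mul, map_mul]
  · intro h
    constructor
    · intro hh a ha
      have h1 := hφ h (f ⟨a, ha⟩)
      rw [hh] at h1
      have h2 : ρ a = ρ h * ρ a * ρ h⁻¹ := h1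
      rw [map_mul, map_mul, ← h2]
    · intro hh
      apply AlgEquiv.ext
      intro x
      apply Subtype.ext
      rw [hφ]
      show ρ h * (x : Module.End (ZMod p) V) * ρ h⁻¹ = x
      have key : ∀ x ∈ R, ρ h * x * ρ h⁻¹ = x := by
        intro x hx
        induction hx using Algebra.adjoin_induction with
        | mem x hx =>
          obtain ⟨a, ha, rfl⟩ := hx
          have := hh a ha
          rwa [map_mul, map_mul] at this
        | algebraMap r =>
          rw [← Algebra.commutes, mul_assoc, hρinv, mul_one]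
        | add x y _ _ hx hy =>
          rw [mul_add, add_mul, hx, hy]
        | mul x y _ _ hx hy =>
          have : ρ h * (x * y) * ρ h⁻¹ = (ρ h * x * ρ h⁻¹) * (ρ h * y * ρ h⁻¹) := by
            calc ρ h * (x * y) * ρ h⁻¹ = ρ h * x * 1 * y * ρ h⁻¹ := by simp only [mul_assoc, mul_one, one_mul]
              _ = ρ h * x * (ρ h⁻¹ * ρ h) * y * ρ h⁻¹ := by rw [hρinv']
              _ = _ := by simp only [mul_assoc]
          rw [this, hx, hy]
      exact key x x.2
  · -- adjoin range f = top
    have key : ∀ x (hx : x ∈ R), (⟨x, hx⟩ : R) ∈ Algebra.adjoin (ZMod p) (Set.range f) := by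
      intro x hx
      induction hx using Algebra.adjoin_induction with
      | mem x hx1 =>
        obtain ⟨a, ha, rfl⟩ := hx1
        exact Algebra.subset_adjoin ⟨⟨a, ha⟩, rfl⟩
      | algebraMap r => exact Subalgebra.algebraMap_mem _ r
      | add x y hx1 hy1 hx2 hy2 => exact Subalgebra.add_mem _ hx2 hy2
      | mul x y hx1 hy1 hx2 hy2 => exact Subalgebra.mul_mem _ hx2 hy2
    rw [eq_top_iff]
    intro x _
    exact key x x.2

theorem toRep (c : H → V →+ V) (h1 : ∀ v, c 1 v = v) (hm : ∀ g h v, c (g * h) v = c g (c h v)) :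
    ∃ ρ : H →* Module.End (ZMod p) V, ∀ h v, ρ h v = c h v :=
  ⟨{ toFun := fun h => (c h).toZModLinearMap p
     map_one' := by
        apply LinearMap.ext
        intro v
        exact h1 v
     map_mul' := fun g h => by
        apply LinearMap.ext
        intro v
        exact hm g h v }, fun h v => rfl⟩

/-- multiplicative version -/
theorem exists_field_mul_aux {A : Type v} [CommGroup A] [Finite A] [Nontrivial A] [Module (ZMod p) (Additive A)]
    (σ : H →* MulAut A) (F : Subgroup H) [hF : F.Normal] (hab : ∀ a ∈ F, ∀ b ∈ F, a * b = b * a)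
    (hirr : ∀ L : Subgroup A, (∀ a ∈ F, ∀ x ∈ L, σ a x ∈ L) → L = ⊥ ∨ L = ⊤) :
    ∃ (K : Type v) (_ : Field K) (_ : Algebra (ZMod p) K) (f : F →* K) (φ : H →* (K ≃ₐ[ZMod p] K)),
      Finite K ∧ Nat.card K = Nat.card A ∧ (∀ a : F, f a = 1 ↔ σ a = 1) ∧
      (∀ (h : H) (a : F), f ⟨h * a * h⁻¹, hF.conj_mem a a.2 h⟩ = φ h (f a)) ∧
      (∀ h : H, φ h = 1 ↔ ∀ a ∈ F, σ (h * a * h⁻¹) = σ a) ∧
      Algebra.adjoin (ZMod p) (Set.range f) = ⊤ := by
  obtain ⟨ρ, hρ'⟩ := toRep (H := H) (V := Additive A) (p := p) (fun h => MonoidHom.toAdditive (σ h : A →* A)) (by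
      intro v
      show Additive.ofMul (σ 1 (Additive.toMul v)) = v
      rw [map_one]; rfl) (by
      intro g h v
      show Additive.ofMul (σ (g * h) (Additive.toMul v)) = Additive.ofMul (σ g (σ h (Additive.toMul v)))
      rw [map_mul]; rfl)
  have hρ : ∀ h v, ρ h v = Additive.ofMul (σ h (Additive.toMul v)) := fun h v => hρ' h v
  have hρeq : ∀ g h, ρ g = ρ h ↔ σ g = σ h := by
    intro g h
    constructor
    · intro hh
      ext a
      have h1 := hρ g (Additive.ofMul a)
      rw [hh, hρ] at h1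
      exact h1.symm
    · intro hh
      apply LinearMap.ext
      intro v
      rw [hρ, hρ, hh]
  have hρ1 : ∀ g, ρ g = 1 ↔ σ g = 1 := by
    intro g
    have := hρeq g 1
    rwa [map_one, map_one] at this
  have hntA : Nontrivial (Additive A) := inferInstance
  obtain ⟨K, instK, instA, f, φ, h1, h2, h3, h4, h5, h6⟩ := exists_field ρ F
    (fun a ha b hb => by rw [← map_mul, hab a ha b hb, map_mul]) (by
    intro W hW
    let L : Subgroup A :=
      { carrier := {x | Additive.ofMul x ∈ W}
        one_mem' := W.zero_mem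
        mul_mem' := fun ha hb => W.add_mem ha hb
        inv_mem' := fun ha => W.neg_mem ha }
    rcases hirr L (fun a ha x hx => by
      have h3 := hW a ha (Additive.ofMul x) hx
      rw [hρ] at h3
      exact h3) with h | h
    · left
      rw [eq_bot_iff]
      intro v hv
      have h3 : Additive.toMul v ∈ L := hv
      rw [h, Subgroup.mem_bot] at h3
      exact h3
    · right
      rw [eq_top_iff]
      intro v _
      have h3 : Additive.toMul v ∈ L := h ▸ Subgroup.mem_top _
      exact h3)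
  refine ⟨K, instK, instA, f, φ, h1, h2, fun a => (h3 a).trans (hρ1 a), h4, fun h => (h5 h).trans ?_, h6⟩
  constructor
  · intro hh a ha
    exact (hρeq _ _).1 (hh a ha)
  · intro hh a ha
    exact (hρeq _ _).2 (hh a ha)

theorem exists_field_mul {A : Type v} [CommGroup A] [Finite A] [Nontrivial A] (he : ∀ a : A, a ^ p = 1)
    (σ : H →* MulAut A) (F : Subgroup H) [hF : F.Normal] (hab : ∀ a ∈ F, ∀ b ∈ F, a * b = b * a)
    (hirr : ∀ L : Subgroup A, (∀ a ∈ F, ∀ x ∈ L, σ a x ∈ L) → L = ⊥ ∨ L = ⊤) :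
    ∃ (K : Type v) (_ : Field K) (_ : Algebra (ZMod p) K) (f : F →* K) (φ : H →* (K ≃ₐ[ZMod p] K)),
      Finite K ∧ Nat.card K = Nat.card A ∧ (∀ a : F, f a = 1 ↔ σ a = 1) ∧
      (∀ (h : H) (a : F), f ⟨h * a * h⁻¹, hF.conj_mem a a.2 h⟩ = φ h (f a)) ∧
      (∀ h : H, φ h = 1 ↔ ∀ a ∈ F, σ (h * a * h⁻¹) = σ a) ∧
      Algebra.adjoin (ZMod p) (Set.range f) = ⊤ := by
  let instM : Module (ZMod p) (Additive A) := AddCommGroup.zmodModule (n := p) (by
    intro x
    exact he x.toMul)
  exact exists_field_mul_aux σ F hab hirr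

/-- internal version -/
theorem exists_field_conj {G : Type v} [Group G] [Finite G] (N : Subgroup G) [hN : N.Normal] (hne : N ≠ ⊥)
    (hNab : ∀ a ∈ N, ∀ b ∈ N, a * b = b * a) (hpow : ∀ x ∈ N, x ^ p = 1) (H : Subgroup G) (F : Subgroup H) [hF : F.Normal]
    (hab : ∀ a ∈ F, ∀ b ∈ F, a * b = b * a)
    (hirr : ∀ L : Subgroup G, L ≤ N → (∀ a ∈ F, ∀ x ∈ L, (a : G) * x * (a : G)⁻¹ ∈ L) → L = ⊥ ∨ L = N) :
    ∃ (K : Type v) (_ : Field K) (_ : Algebra (ZMod p) K) (f : F →* K) (φ : H →* (K ≃ₐ[ZMod p] K)),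
      Finite K ∧ Nat.card K = Nat.card N ∧ (∀ a : F, f a = 1 ↔ ∀ n ∈ N, (a : G) * n = n * a) ∧
      (∀ (h : H) (a : F), f ⟨h * a * h⁻¹, hF.conj_mem a a.2 h⟩ = φ h (f a)) ∧
      (∀ h : H, φ h = 1 ↔ ∀ a ∈ F, ∀ n ∈ N, ((h * a * h⁻¹ * a⁻¹ : H) : G) * n = n * (h * a * h⁻¹ * a⁻¹ : H)) ∧
      Algebra.adjoin (ZMod p) (Set.range f) = ⊤ := by
  let _ : CommGroup N := { (inferInstance : Group N) with mul_comm := fun a b => Subtype.ext (hNab a a.2 b b.2) }
  have hnt : Nontrivial N := (Subgroup.nontrivial_iff_ne_bot N).2 hne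
  have key : ∀ g : G, MulAut.conjNormal (H := N) g = 1 ↔ ∀ n ∈ N, g * n = n * g := by
    intro g
    constructor
    · intro h n hn
      have h1 := congrArg (fun z : MulAut N => ((z ⟨n, hn⟩ : N) : G)) h
      have h2 : g * n * g⁻¹ = n := h1
      calc g * n = g * n * g⁻¹ * g := by group
        _ = n * g := by rw [h2]
    · intro h
      ext n
      show g * (n : G) * g⁻¹ = n
      rw [h n n.2]
      group
  obtain ⟨K, instK, instA, f, φ, h1, h2, h3, h4, h5, h6⟩ := exists_field_mul (p := p) (A := N) (fun a => Subtype.ext (hpow a a.2))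
    ((MulAut.conjNormal (H := N)).comp H.subtype) F hab (by
      intro L hL
      rcases hirr (L.map N.subtype) (Subgroup.map_subtype_le _) (by
        rintro a ha _ ⟨x, hx, rfl⟩
        exact ⟨_, hL a ha x hx, rfl⟩) with h | h
      · left
        exact (Subgroup.map_eq_bot_iff_of_injective _ N.subtype_injective).1 h
      · right
        rw [eq_top_iff]
        intro x _
        have : (x : G) ∈ L.map N.subtype := by rw [h]; exact x.2
        obtain ⟨y, hy, e⟩ := this
        have : y = x := Subtype.ext e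
        exact this ▸ hy)
  refine ⟨K, instK, instA, f, φ, h1, h2, fun a => (h3 a).trans (key _), h4, fun h => (h5 h).trans ?_, h6⟩
  constructor
  · intro hh a ha
    rw [← key]
    have := hh a ha
    show ((MulAut.conjNormal (H := N)).comp H.subtype) (h * a * h⁻¹ * a⁻¹) = 1
    rw [map_mul, this, ← map_mul, mul_inv_cancel, map_one]
  · intro hh a ha
    have h7 := (key _).2 (hh a ha)
    have h8 : ((MulAut.conjNormal (H := N)).comp H.subtype) (h * a * h⁻¹ * a⁻¹) = 1 := h7
    rw [map_mul, map_inv, mul_inv_eq_one] at h8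
    exact h8

end Cfsg.Agent.H20.FieldRep
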