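import Mathlib

/-! PF (9.7), linear part: an irreducible commuting family of operators makes `V` a one-dimensional
vector space over a finite field. -/

set_option autoImplicit false

namespace Cfsg.Agent.HL.P9

theorem field_lin {p : ℕ} [hp : Fact p.Prime] {V : Type*} [AddCommGroup V] [Module (ZMod p) V] [Finite V]
    {n : ℕ} (hn : n ≠ 0) (hV : Nat.card V = p ^ n)
    {Y : Type*} [Group Y] (ρ : Y →* Module.End (ZMod p) V) (U : Subgroup Y)
    (hab : ∀ a ∈ U, ∀ b ∈ U, ρ a * ρ b = ρ b * ρ a)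
    (hirr : ∀ W : Submodule (ZMod p) V, (∀ a ∈ U, ∀ v ∈ W, ρ a v ∈ W) → W = ⊥ ∨ W = ⊤)
    (v₀ : V) (hv₀ : v₀ ≠ 0) :
    ∃ (F : Type) (_ : Field F) (_ : Fintype F) (f : V ≃+ F) (ψ : Y → F),
      Fintype.card F = p ^ n ∧ f v₀ = 1 ∧
      (∀ u ∈ U, ψ u ≠ 0 ∧ ∀ v, f (ρ u v) = ψ u * f v) ∧
      (∀ y : Y, (∀ u ∈ U, y * u * y⁻¹ ∈ U) → ρ y v₀ = v₀ → ∃ τ : F →+* F, ∀ v, f (ρ y v) = τ (f v)) := by
  classical
  set S : Set (Module.End (ZMod p) V) := ρ '' (U : Set Y) with hS
  have hcomm : ∀ a ∈ S, ∀ b ∈ S, a * b = b * a := by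
    rintro _ ⟨a, ha, rfl⟩ _ ⟨b, hb, rfl⟩
    exact hab a ha b hb
  let R := Algebra.adjoin (ZMod p) S
  let instCR : CommRing R := Algebra.adjoinCommRingOfComm (ZMod p) hcomm
  have hker : ∀ x : R, x ≠ 0 → ∀ v : V, (x : Module.End (ZMod p) V) v = 0 → v = 0 := by
    intro x hx v hv
    have hk := hirr (LinearMap.ker (x : Module.End (ZMod p) V)) (by
      intro a ha w hw
      rw [LinearMap.mem_ker] at hw ⊢
      have h1 : x * ⟨ρ a, Algebra.subset_adjoin ⟨a, ha, rfl⟩⟩ = ⟨ρ a, Algebra.subset_adjoin ⟨a, ha, rfl⟩⟩ * x := mul_comm _ _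
      have h2 := congrArg (fun z : R => (z : Module.End (ZMod p) V) w) h1
      change (x : Module.End (ZMod p) V) (ρ a w) = ρ a ((x : Module.End (ZMod p) V) w) at h2
      rw [h2, hw, map_zero])
    rcases hk with hk | hk
    · have : v ∈ LinearMap.ker (x : Module.End (ZMod p) V) := hv
      rw [hk, Submodule.mem_bot] at this
      exact this
    · exfalso
      apply hx
      apply Subtype.ext
      rw [LinearMap.ker_eq_top] at hk
      exact hk
  have : NoZeroDivisors R := ⟨by
    intro x y hxy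
    by_cases hx : x = 0
    · exact Or.inl hx
    · right
      apply Subtype.ext
      ext v
      have h2 := congrArg (fun z : R => (z : Module.End (ZMod p) V) v) hxy
      exact hker x hx _ h2⟩
  have : Nontrivial R := ⟨⟨0, 1, by
    intro h
    have h2 := congrArg (fun z : R => (z : Module.End (ZMod p) V) v₀) h
    exact hv₀ h2.symm⟩⟩
  have : IsDomain R := NoZeroDivisors.to_isDomain R
  have hfinE : Finite (Module.End (ZMod p) V) := Finite.of_injective (fun f : Module.End (ZMod p) V => (f : V → V)) DFunLike.coe_injective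
  have hfinR : Finite R := inferInstance
  have hfield : IsField R := Finite.isField_of_domain R
  -- evaluation at v₀
  let ev : R →ₗ[ZMod p] V :=
    { toFun := fun a => (a : Module.End (ZMod p) V) v₀
      map_add' := fun a b => rfl
      map_smul' := fun c a => rfl }
  have hevi : Function.Injective ev := by
    rw [injective_iff_map_eq_zero]
    intro a ha
    by_contra h
    exact hv₀ (hker a h v₀ ha)
  have hevs : Function.Surjective ev := by
    have h1 := hirr (LinearMap.range ev) (by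
      rintro a ha _ ⟨b, rfl⟩
      exact ⟨⟨ρ a, Algebra.subset_adjoin ⟨a, ha, rfl⟩⟩ * b, rfl⟩)
    rcases h1 with h1 | h1
    · exfalso
      apply hv₀
      have : v₀ ∈ LinearMap.range ev := ⟨1, rfl⟩
      rw [h1, Submodule.mem_bot] at this
      exact this
    · exact LinearMap.range_eq_top.1 h1
  let E : R ≃ₗ[ZMod p] V := LinearEquiv.ofBijective ev ⟨hevi, hevs⟩
  have hEapp : ∀ a : R, E a = (a : Module.End (ZMod p) V) v₀ := fun a => rfl
  have hcardR : Nat.card R = p ^ n := by rw [← hV]; exact Nat.card_congr E.toEquiv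
  letI instF : Field R := hfield.toField
  haveI : Fintype R := Fintype.ofFinite R
  haveI hch : CharP R p := by
    haveI : CharP (ZMod p) p := inferInstance
    exact charP_of_injective_algebraMap (algebraMap (ZMod p) R).injective p
  haveI : Fintype (GaloisField p n) := Fintype.ofFinite _
  have hcardG : Fintype.card (GaloisField p n) = p ^ n := by
    rw [← Nat.card_eq_fintype_card, GaloisField.card p n hn]
  obtain ⟨e⟩ : Nonempty (R ≃+* GaloisField p n) :=
    ⟨FiniteField.ringEquivOfCardEq (by rw [hcardG, ← hcardR, Nat.card_eq_fintype_card])⟩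
  have hρinv : ∀ h : Y, ρ h * ρ h⁻¹ = 1 := fun h => by rw [← map_mul, mul_inv_cancel, map_one]
  have hρinv' : ∀ h : Y, ρ h⁻¹ * ρ h = 1 := fun h => by rw [← map_mul, inv_mul_cancel, map_one]
  let f : V ≃+ GaloisField p n := E.symm.toAddEquiv.trans e.toAddEquiv
  have hf : ∀ a : R, f ((a : Module.End (ZMod p) V) v₀) = e a := by
    intro a
    show e (E.symm ((a : Module.End (ZMod p) V) v₀)) = e a
    rw [← hEapp, E.symm_apply_apply]
  refine ⟨GaloisField p n, inferInstance, inferInstance, f,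
    fun y => if h : ρ y ∈ R then e ⟨ρ y, h⟩ else 0, hcardG, ?_, ?_, ?_⟩
  · have := hf 1
    rw [map_one] at this
    exact this
  · intro u hu
    have hmem : ρ u ∈ R := Algebra.subset_adjoin ⟨u, hu, rfl⟩
    have hmem' : ρ u⁻¹ ∈ R := Algebra.subset_adjoin ⟨u⁻¹, U.inv_mem hu, rfl⟩
    simp only [hmem, dif_pos]
    refine ⟨?_, ?_⟩
    · intro h0
      have h1 : (⟨ρ u, hmem⟩ : R) = 0 := by
        apply e.injective; rw [h0, map_zero]
      have h2 : ρ u = 0 := congrArg Subtype.val h1
      have h3 := hρinv u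
      rw [h2, zero_mul] at h3
      have h4 := congrArg (fun z : Module.End (ZMod p) V => z v₀) h3
      exact hv₀ h4.symm
    · intro v
      obtain ⟨a, rfl⟩ := hevs v
      show f (ρ u ((a : Module.End (ZMod p) V) v₀)) = e ⟨ρ u, hmem⟩ * f ((a : Module.End (ZMod p) V) v₀)
      rw [hf a, ← map_mul, ← hf (⟨ρ u, hmem⟩ * a)]
      rfl
  · intro y hy hyv
    have hconj : ∀ x ∈ R, ρ y * x * ρ y⁻¹ ∈ R := by
      intro x hx
      induction hx using Algebra.adjoin_induction with
      | mem x hx =>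
        obtain ⟨a, ha, rfl⟩ := hx
        apply Algebra.subset_adjoin
        exact ⟨y * a * y⁻¹, hy a ha, by rw [map_mul, map_mul]⟩
      | algebraMap r =>
        have : ρ y * (algebraMap (ZMod p) (Module.End (ZMod p) V) r) * ρ y⁻¹ = algebraMap (ZMod p) (Module.End (ZMod p) V) r := by
          rw [← Algebra.commutes, mul_assoc, hρinv, mul_one]
        rw [this]
        exact Subalgebra.algebraMap_mem _ _
      | add x z _ _ h1 h2 =>
        rw [mul_add, add_mul]; exact R.add_mem h1 h2
      | mul x z _ _ h1 h2 =>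
        have : ρ y * (x * z) * ρ y⁻¹ = (ρ y * x * ρ y⁻¹) * (ρ y * z * ρ y⁻¹) := by
          calc ρ y * (x * z) * ρ y⁻¹ = ρ y * x * 1 * z * ρ y⁻¹ := by simp only [mul_assoc, mul_one, one_mul]
            _ = _ := by rw [← hρinv' y]; simp only [mul_assoc]
        rw [this]; exact R.mul_mem h1 h2
    let T : R →+* R :=
      { toFun := fun a => ⟨ρ y * a * ρ y⁻¹, hconj a a.2⟩
        map_one' := by
          apply Subtype.ext
          show ρ y * 1 * ρ y⁻¹ = 1
          rw [mul_one, hρinv]
        map_zero' := by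
          apply Subtype.ext
          show ρ y * 0 * ρ y⁻¹ = 0
          rw [mul_zero, zero_mul]
        map_add' := fun a b => by
          apply Subtype.ext
          show ρ y * (a + b : Module.End (ZMod p) V) * ρ y⁻¹ = ρ y * a * ρ y⁻¹ + ρ y * b * ρ y⁻¹
          rw [mul_add, add_mul]
        map_mul' := fun x z => by
          apply Subtype.ext
          show ρ y * (x * z : Module.End (ZMod p) V) * ρ y⁻¹ = (ρ y * x * ρ y⁻¹) * (ρ y * z * ρ y⁻¹)
          calc ρ y * (x * z : Module.End (ZMod p) V) * ρ y⁻¹ = ρ y * x * 1 * z * ρ y⁻¹ := by simp only [mul_assoc, mul_one, one_mul]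
            _ = _ := by rw [← hρinv' y]; simp only [mul_assoc] }
    refine ⟨(e : R →+* GaloisField p n).comp (T.comp (e.symm : GaloisField p n →+* R)), ?_⟩
    intro v
    obtain ⟨a, rfl⟩ := hevs v
    show f (ρ y ((a : Module.End (ZMod p) V) v₀)) = e (T (e.symm (f ((a : Module.End (ZMod p) V) v₀))))
    rw [hf a, e.symm_apply_apply, ← hf (T a)]
    congr 1
    show ρ y ((a : Module.End (ZMod p) V) v₀) = (ρ y * a * ρ y⁻¹ : Module.End (ZMod p) V) v₀
    have h1 : ρ y⁻¹ v₀ = v₀ := by
      conv_lhs => rw [← hyv]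
      have := congrArg (fun z : Module.End (ZMod p) V => z v₀) (hρinv' y)
      exact this
    show _ = ρ y ((a : Module.End (ZMod p) V) (ρ y⁻¹ v₀))
    rw [h1]

end Cfsg.Agent.HL.P9
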