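import Mathlib
import Cfsg.Prelude.Def_Transfer
import Cfsg.Agent.HL_P9a
import Cfsg.Agent.H20_Field
import Cfsg.Agent.H22_Basic

/-! PF (9.7), internal form of the Galois case. -/

set_option autoImplicit false
open scoped commutatorElement

namespace Cfsg.Agent.HL.P9

open Subgroup


theorem galois_mul {p : ℕ} [hp : Fact p.Prime] {A : Type*} [CommGroup A] [Finite A] [Module (ZMod p) (Additive A)]
    {n : ℕ} (hn : n ≠ 0) (hA : Nat.card A = p ^ n) {Y : Type*} [Group Y] (σ : Y →* MulAut A) (U : Subgroup Y)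
    (hab : ∀ a ∈ U, ∀ b ∈ U, σ a * σ b = σ b * σ a)
    (hirr : ∀ L : Subgroup A, (∀ a ∈ U, ∀ x ∈ L, σ a x ∈ L) → L = ⊥ ∨ L = ⊤) (v₀ : A) (hv₀ : v₀ ≠ 1) :
    ∃ (F : Type) (_ : Field F) (_ : Fintype F) (f : Additive A ≃+ F) (ψ : Y → F),
      Fintype.card F = p ^ n ∧ f (Additive.ofMul v₀) = 1 ∧
      (∀ u ∈ U, ψ u ≠ 0 ∧ ∀ v : A, f (Additive.ofMul (σ u v)) = ψ u * f (Additive.ofMul v)) ∧
      (∀ y : Y, (∀ u ∈ U, y * u * y⁻¹ ∈ U) → σ y v₀ = v₀ →
        ∃ τ : F →+* F, ∀ v : A, f (Additive.ofMul (σ y v)) = τ (f (Additive.ofMul v))) := by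
  obtain ⟨ρ, hρ'⟩ := Cfsg.Agent.H20.FieldRep.toRep (H := Y) (V := Additive A) (p := p)
    (fun h => MonoidHom.toAdditive (σ h : A →* A)) (by
      intro v
      show Additive.ofMul (σ 1 (Additive.toMul v)) = v
      rw [map_one]; rfl) (by
      intro g h v
      show Additive.ofMul (σ (g * h) (Additive.toMul v)) = Additive.ofMul (σ g (σ h (Additive.toMul v)))
      rw [map_mul]; rfl)
  have hρ : ∀ h v, ρ h v = Additive.ofMul (σ h (Additive.toMul v)) := fun h v => hρ' h v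
  haveI : Finite (Additive A) := inferInstanceAs (Finite A)
  obtain ⟨F, iF, iFt, f, ψ, hFc, hf0, hfψ, hfτ⟩ := field_lin (p := p) (V := Additive A) (n := n) hn
    (by rw [← hA]; rfl) ρ U (by
      intro a ha b hb
      have hc : ρ (a * b) = ρ (b * a) := by
        apply LinearMap.ext
        intro v
        rw [hρ, hρ, map_mul, map_mul, hab a ha b hb]
      rw [← map_mul, ← map_mul, hc])
    (by
      intro W hW
      let L : Subgroup A :=
        { carrier := {x | Additive.ofMul x ∈ W}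
          one_mem' := W.zero_mem
          mul_mem' := fun ha hb => W.add_mem ha hb
          inv_mem' := fun ha => W.neg_mem ha }
      rcases hirr L (fun a ha x hx => by
        have h3 := hW a ha (Additive.ofMul x) hx
        rw [hρ] at h3
        exact h3) with h | h
      · left
        rw [eq_bot_iff]
        intro v hv
        have h3 : Additive.toMul v ∈ L := hv
        rw [h, Subgroup.mem_bot] at h3
        exact h3
      · right
        rw [eq_top_iff]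
        intro v _
        have h3 : Additive.toMul v ∈ L := h ▸ Subgroup.mem_top _
        exact h3)
    (Additive.ofMul v₀) (by
      intro h
      exact hv₀ h)
  refine ⟨F, iF, iFt, f, ψ, hFc, hf0, ?_, ?_⟩
  · intro u hu
    refine ⟨(hfψ u hu).1, fun v => ?_⟩
    have := (hfψ u hu).2 (Additive.ofMul v)
    rw [hρ] at this
    exact this
  · intro y hy hyv
    obtain ⟨τ, hτ⟩ := hfτ y hy (by rw [hρ]; exact congrArg Additive.ofMul hyv)
    refine ⟨τ, fun v => ?_⟩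
    have := hτ (Additive.ofMul v)
    rw [hρ] at this
    exact this

theorem galois_mul' {p : ℕ} (hp : p.Prime) {A : Type*} [CommGroup A] [Finite A] (he : ∀ a : A, a ^ p = 1)
    {n : ℕ} (hn : n ≠ 0) (hA : Nat.card A = p ^ n) {Y : Type*} [Group Y] (σ : Y →* MulAut A) (U : Subgroup Y)
    (hab : ∀ a ∈ U, ∀ b ∈ U, σ a * σ b = σ b * σ a)
    (hirr : ∀ L : Subgroup A, (∀ a ∈ U, ∀ x ∈ L, σ a x ∈ L) → L = ⊥ ∨ L = ⊤) (v₀ : A) (hv₀ : v₀ ≠ 1) :
    ∃ (F : Type) (_ : Field F) (_ : Fintype F) (f : A → F) (ψ : Y → F),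
      Fintype.card F = p ^ n ∧ Function.Bijective f ∧ (∀ v w : A, f (v * w) = f v + f w) ∧ f v₀ = 1 ∧
      (∀ u ∈ U, ψ u ≠ 0 ∧ ∀ v : A, f (σ u v) = ψ u * f v) ∧
      (∀ y : Y, (∀ u ∈ U, y * u * y⁻¹ ∈ U) → σ y v₀ = v₀ →
        ∃ τ : F →+* F, ∀ v : A, f (σ y v) = τ (f v)) := by
  haveI : Fact p.Prime := ⟨hp⟩
  letI : Module (ZMod p) (Additive A) := AddCommGroup.zmodModule (n := p) (by
    intro x
    exact he x.toMul)
  obtain ⟨F, iF, iFt, f, ψ, hFc, hf0, hfψ, hfτ⟩ := galois_mul hn hA σ U hab hirr v₀ hv₀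
  refine ⟨F, iF, iFt, fun v => f (Additive.ofMul v), ψ, hFc, f.bijective, fun v w => ?_, hf0, hfψ, hfτ⟩
  show f (Additive.ofMul (v * w)) = _
  rw [ofMul_mul, map_add]

/-- the field structure on an elementary abelian group `P` on which `U` acts irreducibly, with
abelian image -/
theorem galois_int {X : Type*} [Group X] [Finite X] {p n : ℕ} (hp : p.Prime) (hn : n ≠ 0) (P U : Subgroup X)
    (hP : Cfsg.IsElementaryAbelian p P) (hcard : Nat.card P = p ^ n) (hUP : U ≤ normalizer (P : Set X))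
    (hder : ⁅U, U⁆ ≤ centralizer (P : Set X))
    (hirr : ∀ N : Subgroup X, N ≤ P → N ≠ ⊥ → U ≤ normalizer (N : Set X) → N = P)
    (x₀ : X) (hx₀ : x₀ ∈ P) (hx₀1 : x₀ ≠ 1) :
    ∃ (F : Type) (_ : Field F) (_ : Fintype F) (f ψ : X → F), Fintype.card F = p ^ n ∧
      Set.BijOn f (P : Set X) Set.univ ∧ (∀ x ∈ P, ∀ y ∈ P, f (x * y) = f x + f y) ∧ f x₀ = 1 ∧
      (∀ u ∈ U, ψ u ≠ 0 ∧ ∀ x ∈ P, f (u * x * u⁻¹) = ψ u * f x) ∧
      (∀ y ∈ normalizer (P : Set X), y ∈ normalizer (U : Set X) → y * x₀ * y⁻¹ = x₀ →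
        ∃ τ : F →+* F, ∀ x ∈ P, f (y * x * y⁻¹) = τ (f x)) := by
  classical
  let σ : ↥(normalizer (P : Set X)) →* MulAut P := P.normalizerMonoidHom
  have hσ : ∀ (g : ↥(normalizer (P : Set X))) (x : P), ((σ g x : P) : X) = g * x * (g : X)⁻¹ := fun g x => rfl
  letI : CommGroup P := { (inferInstance : Group P) with mul_comm := fun a b => hP.1.is_comm.comm a b }
  obtain ⟨F, iF, iFt, f, ψ, hFc, hfb, hfa, hf0, hfψ, hfτ⟩ := galois_mul' (A := P) hp (by
      intro a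
      exact Subtype.ext (hP.2 a a.2)) hn hcard (Y := ↥(normalizer (P : Set X))) σ (U.subgroupOf (normalizer (P : Set X))) (by
      intro a ha b hb
      rw [← map_mul, ← map_mul]
      apply MulEquiv.ext
      intro v
      apply Subtype.ext
      rw [hσ, hσ]
      have h1 : ⁅(a : X)⁻¹, (b : X)⁻¹⁆ ∈ centralizer (P : Set X) :=
        hder (commutator_mem_commutator (U.inv_mem ha) (U.inv_mem hb))
      have h2 := mem_centralizer_iff.1 h1 _ (v : P).2
      rw [commutatorElement_def, inv_inv, inv_inv] at h2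
      show (a * b : X) * v * (a * b : X)⁻¹ = (b * a : X) * v * (b * a : X)⁻¹
      have h3 : (a * b : X) * v * (a * b : X)⁻¹ = (b * a : X) * (((a : X)⁻¹ * (b : X)⁻¹ * a * b) * v) * ((a : X)⁻¹ * (b : X)⁻¹ * a * b)⁻¹ * (b * a : X)⁻¹ := by
        group
      rw [h3, ← h2]
      group)
    (by
      intro L' hL'
      by_contra hcon
      rw [not_or] at hcon
      set L : Subgroup X := L'.map P.subtype with hLdef
      have hmem : ∀ x : X, x ∈ L ↔ ∃ hx : x ∈ P, (⟨x, hx⟩ : P) ∈ L' := by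
        intro x
        rw [hLdef, Subgroup.mem_map]
        constructor
        · rintro ⟨y, hy, rfl⟩
          exact ⟨y.2, hy⟩
        · rintro ⟨hx, h⟩
          exact ⟨⟨x, hx⟩, h, rfl⟩
      have hLP : L ≤ P := fun x hx => ((hmem x).1 hx).1
      have hLU : ∀ u ∈ U, ∀ x ∈ L, u * x * u⁻¹ ∈ L := by
        intro u hu x hx
        obtain ⟨hxP, hxW⟩ := (hmem x).1 hx
        have h1 := hL' ⟨u, hUP hu⟩ hu _ hxW
        exact (hmem _).2 ⟨(mem_normalizer_iff.1 (hUP hu) x).1 hxP, h1⟩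
      have h2 : L = P := by
        apply hirr L hLP
        · intro h
          apply hcon.1
          rw [eq_bot_iff]
          intro v hv
          have h3 : (v : X) ∈ L := (hmem _).2 ⟨v.2, hv⟩
          rw [h, Subgroup.mem_bot] at h3
          rw [Subgroup.mem_bot]
          exact Subtype.ext h3
        · intro u hu
          rw [mem_normalizer_iff]
          intro x
          refine ⟨hLU u hu x, fun h => ?_⟩
          have h3 := hLU u⁻¹ (U.inv_mem hu) _ h
          have h4 : u⁻¹ * (u * x * u⁻¹) * u⁻¹⁻¹ = x := by group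
          rwa [h4] at h3
      apply hcon.2
      rw [eq_top_iff]
      intro v _
      have h3 : (v : X) ∈ L := by rw [h2]; exact v.2
      exact ((hmem _).1 h3).2)
    (⟨x₀, hx₀⟩ : P) (by
      intro h
      exact hx₀1 (congrArg Subtype.val h))
  obtain ⟨f', hf'⟩ : ∃ f' : X → F, ∀ (x : X) (h : x ∈ P), f' x = f ⟨x, h⟩ :=
    ⟨fun x => if h : x ∈ P then f ⟨x, h⟩ else 0, fun x h => dif_pos h⟩
  obtain ⟨ψ', hψ'⟩ : ∃ ψ' : X → F, ∀ (x : X) (h : x ∈ normalizer (P : Set X)), ψ' x = ψ ⟨x, h⟩ :=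
    ⟨fun x => if h : x ∈ normalizer (P : Set X) then ψ ⟨x, h⟩ else 0, fun x h => dif_pos h⟩
  refine ⟨F, iF, iFt, f', ψ', hFc, ?_, ?_, ?_, ?_, ?_⟩
  · refine ⟨fun _ _ => Set.mem_univ _, ?_, ?_⟩
    · intro x hx y hy hxy
      have hx' : x ∈ P := hx
      have hy' : y ∈ P := hy
      rw [hf' x hx', hf' y hy'] at hxy
      exact congrArg Subtype.val (hfb.1 hxy)
    · intro a _
      obtain ⟨v, hv⟩ := hfb.2 a
      refine ⟨(v : X), v.2, ?_⟩
      rw [hf' _ v.2]
      exact hv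
  · intro x hx y hy
    rw [hf' _ hx, hf' _ hy, hf' _ (P.mul_mem hx hy)]
    exact hfa ⟨x, hx⟩ ⟨y, hy⟩
  · rw [hf' _ hx₀]
    exact hf0
  · intro u hu
    have h1 : u ∈ normalizer (P : Set X) := hUP hu
    have h2 := hfψ ⟨u, h1⟩ hu
    rw [hψ' _ h1]
    refine ⟨h2.1, ?_⟩
    intro x hx
    have h3 : u * x * u⁻¹ ∈ P := (mem_normalizer_iff.1 h1 x).1 hx
    rw [hf' _ h3, hf' _ hx]
    exact h2.2 ⟨x, hx⟩
  · intro y hyP hyU hyx
    obtain ⟨τ, hτ⟩ := hfτ ⟨y, hyP⟩ (by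
      intro u hu
      exact (mem_normalizer_iff.1 hyU u).1 hu) (Subtype.ext hyx)
    refine ⟨τ, ?_⟩
    intro x hx
    have h3 : y * x * y⁻¹ ∈ P := (mem_normalizer_iff.1 hyP x).1 hx
    rw [hf' _ h3, hf' _ hx]
    exact hτ ⟨x, hx⟩

end Cfsg.Agent.HL.P9
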