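import Mathlib
import Cfsg.Prelude.Def_Transfer
import Cfsg.Agent.HL_P9b
import Cfsg.Agent.H1_Coprime2
import Cfsg.Agent.H22_Basic
import Cfsg.Agent.S1446

/-! PF (9.4)-(9.7), the situation in `H/H₀` : `P` elementary abelian, `U W₁` a Frobenius group acting
irreducibly, `W₂ = C_P(x)` cyclic for all `1 ≠ x ∈ W₁`. -/

set_option autoImplicit false
open scoped commutatorElement

namespace Cfsg.Agent.HL.P9

open Subgroup

variable {X : Type*} [Group X] [Finite X]

structure Cfg (p q : ℕ) (P U W₁ W₂ : Subgroup X) : Prop where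
  hp : p.Prime
  hq : q.Prime
  ea : Cfsg.IsElementaryAbelian p P
  ne : P ≠ ⊥
  UP : U ≤ normalizer (P : Set X)
  WP : W₁ ≤ normalizer (P : Set X)
  WU : W₁ ≤ normalizer (U : Set X)
  cU : (Nat.card U).Coprime p
  cqp : q.Coprime p
  cUq : (Nat.card U).Coprime q
  cW : Nat.card W₁ = q
  CU : P ⊓ centralizer (U : Set X) = ⊥
  frob : ∀ x ∈ W₁, x ≠ 1 → U ⊓ centralizer ({x} : Set X) = ⊥
  fix : ∀ x ∈ W₁, x ≠ 1 → P ⊓ centralizer ({x} : Set X) = W₂
  cyc : IsCyclic W₂
  der : ⁅U, U⁆ ≤ centralizer (P : Set X)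
  irr : ∀ N : Subgroup X, N ≤ P → N ≠ ⊥ → U ≤ normalizer (N : Set X) → W₁ ≤ normalizer (N : Set X) → N = P
  oddU : Odd (Nat.card U)
  oddq : Odd q
  solU : Group.IsSolvable U

namespace Cfg

variable {p q : ℕ} {P U W₁ W₂ : Subgroup X} (h : Cfg p q P U W₁ W₂)
include h

theorem W_ne : W₁ ≠ ⊥ := by
  intro h0
  have h1 := h.cW
  rw [h0, Subgroup.card_bot] at h1
  exact h.hq.one_lt.ne h1

theorem exists_w : ∃ w ∈ W₁, w ≠ 1 := (Subgroup.bot_or_exists_ne_one W₁).resolve_left h.W_ne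

theorem centralizer_W {w : X} (hw : w ∈ W₁) (hw1 : w ≠ 1) : centralizer ({w} : Set X) = centralizer (W₁ : Set X) := by
  have hz : zpowers w = W₁ := by
    have h1 : zpowers w ≤ W₁ := by rwa [zpowers_le]
    apply Cfsg.Agent.H22.Basic.eq_of_le_of_card_le h1
    have h2 : Nat.card (zpowers w) ∣ q := by rw [← h.cW]; exact Subgroup.card_dvd_of_le h1
    rcases (Nat.dvd_prime h.hq).1 h2 with h3 | h3
    · exfalso
      apply hw1
      have h4 := Subgroup.eq_bot_of_card_eq _ h3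
      rwa [zpowers_eq_bot] at h4
    · rw [h3, h.cW]
  rw [← hz]
  ext x
  rw [mem_centralizer_singleton_iff, mem_centralizer_iff]
  constructor
  · intro h1 y hy
    obtain ⟨k, rfl⟩ := mem_zpowers_iff.1 hy
    exact ((show Commute x w from h1).zpow_right k).symm.eq
  · intro h1
    exact (h1 w (mem_zpowers w)).symm

theorem U_ne : U ≠ ⊥ := by
  intro h0
  apply h.ne
  rw [← h.CU, h0]
  rw [eq_comm, inf_eq_left]
  intro x _
  rw [mem_centralizer_iff]
  intro y hy
  have hy1 : y = 1 := by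
    have : y ∈ (⊥ : Subgroup X) := hy
    rwa [Subgroup.mem_bot] at this
  rw [hy1, one_mul, mul_one]

theorem card_P_pow : ∃ n, Nat.card P = p ^ n := by
  haveI : Fact p.Prime := ⟨h.hp⟩
  have hP : IsPGroup p P := by
    intro x
    refine ⟨1, ?_⟩
    rw [pow_one]
    exact Subtype.ext (h.ea.2 x x.2)
  exact (IsPGroup.iff_card.1 hP)

theorem inf_W : U ⊓ W₁ = ⊥ := Cfsg.Agent.H22.Basic.inf_eq_bot_of_coprime (by rw [h.cW]; exact h.cUq)

theorem card_sup : Nat.card ↥(U ⊔ W₁) = Nat.card U * q := by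
  rw [Cfsg.Agent.H22.Basic.card_sup_of_inf_eq_bot h.WU h.inf_W, h.cW]

theorem W₂_eq : P ⊓ centralizer (W₁ : Set X) = W₂ := by
  obtain ⟨w, hw, hw1⟩ := h.exists_w
  rw [← h.centralizer_W hw hw1, h.fix w hw hw1]

theorem W₂_le : W₂ ≤ P := by
  rw [← h.W₂_eq]; exact inf_le_left

theorem main1446 : Nat.card P = Nat.card W₂ ^ q := by
  obtain ⟨n, hn⟩ := h.card_P_pow
  have hcopP : (Nat.card P).Coprime (Nat.card U * q) := by
    rw [hn]
    exact Nat.Coprime.mul_right (Nat.Coprime.pow_left _ h.cU.symm) (Nat.Coprime.pow_left _ h.cqp.symm)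
  have hsolW : Group.IsSolvable W₁ := by
    haveI : Fact q.Prime := ⟨h.hq⟩
    haveI : IsCyclic W₁ := isCyclic_of_prime_card h.cW
    infer_instance
  have hnilP : Group.IsNilpotent P := by
    haveI := h.ea.1
    letI : CommGroup P := { (inferInstance : Group P) with mul_comm := fun a b => h.ea.1.is_comm.comm a b }
    infer_instance
  have h1 := Cfsg.Agent.S1446.result U W₁ P h.U_ne h.W_ne h.inf_W h.WU h.frob
    (by
      -- solvable
      haveI := h.solU
      haveI := hsolW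
      let N : Subgroup ↥(U ⊔ W₁) := U.subgroupOf (U ⊔ W₁)
      haveI hN : N.Normal := by
        have : U ⊔ W₁ ≤ normalizer (U : Set X) := sup_le le_normalizer h.WU
        exact (Subgroup.normal_subgroupOf_iff_le_normalizer le_sup_left).2 this
      haveI h2 : Group.IsSolvable N := Group.isSolvable_of_isSolvable_injective
        (f := (Subgroup.subgroupOfEquivOfLe (le_sup_left : U ≤ U ⊔ W₁)).toMonoidHom) (MulEquiv.injective _)
      have h3 : Nat.card (↥(U ⊔ W₁) ⧸ N) = q := by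
        have h4 := Subgroup.card_eq_card_quotient_mul_card_subgroup N
        rw [h.card_sup, Cfsg.Agent.H22.Basic.card_subgroupOf_eq le_sup_left, mul_comm] at h4
        exact (Nat.eq_of_mul_eq_mul_right Nat.card_pos h4).symm
      haveI : Fact q.Prime := ⟨h.hq⟩
      haveI : IsCyclic (↥(U ⊔ W₁) ⧸ N) := isCyclic_of_prime_card h3
      haveI h5 : Group.IsSolvable (↥(U ⊔ W₁) ⧸ N) := inferInstance
      exact Group.isSolvable_of_ker_le_range N.subtype (QuotientGroup.mk' N) (by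
        rw [QuotientGroup.ker_mk', Subgroup.range_subtype]))
    (by rw [h.card_sup]; exact h.oddU.mul h.oddq)
    h.ne hnilP h.UP h.WP (by rw [h.card_sup]; exact hcopP.symm) h.CU (by
      intro x hx hx1
      rw [h.centralizer_W hx hx1])
  have h2 := h1.2.1
  rw [h.W₂_eq, h.cW] at h2
  exact h2

theorem card_W₂ : Nat.card W₂ = p := by
  have h1 := h.main1446
  have h2 : Nat.card W₂ ≠ 1 := by
    intro h0
    rw [h0, one_pow] at h1
    exact h.ne (Subgroup.eq_bot_of_card_eq _ h1)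
  haveI := h.cyc
  obtain ⟨g, hg⟩ := IsCyclic.exists_generator (α := W₂)
  have h3 : orderOf g = Nat.card W₂ := orderOf_eq_card_of_forall_mem_zpowers hg
  have h4 : g ^ p = 1 := Subtype.ext (h.ea.2 g (h.W₂_le g.2))
  have h5 : orderOf g ∣ p := orderOf_dvd_of_pow_eq_one h4
  rw [h3] at h5
  exact ((Nat.dvd_prime h.hp).1 h5).resolve_left h2

theorem card_P : Nat.card P = p ^ q := by rw [h.main1446, h.card_W₂]

/-- `C = C_U(P)` -/
theorem mem_of_comm {w u : X} (hw : w ∈ W₁) (hw1 : w ≠ 1) (hu : u ∈ U)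
    (hc : w * u * w⁻¹ * u⁻¹ ∈ centralizer (P : Set X)) : u ∈ centralizer (P : Set X) := by
  haveI := h.solU
  set C : Subgroup X := U ⊓ centralizer (P : Set X) with hC
  have hnC : ∀ g ∈ normalizer (P : Set X), g ∈ normalizer ((centralizer (P : Set X) : Subgroup X) : Set X) := by
    intro g hg
    exact (Cfsg.Agent.H22.Basic.le_normalizer_centralizer (A := normalizer (P : Set X)) (B := P) le_rfl) hg
  have hUC : U ≤ normalizer (C : Set X) :=
    Cfsg.Agent.H22.Basic.le_normalizer_inf le_normalizer (fun g hg => hnC g (h.UP hg))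
  have hWC : W₁ ≤ normalizer (C : Set X) :=
    Cfsg.Agent.H22.Basic.le_normalizer_inf h.WU (fun g hg => hnC g (h.WP hg))
  have hz : zpowers w ≤ W₁ := by rwa [zpowers_le]
  have hzc : Nat.card (zpowers w) = q := by
    have h2 : Nat.card (zpowers w) ∣ q := by rw [← h.cW]; exact Subgroup.card_dvd_of_le hz
    rcases (Nat.dvd_prime h.hq).1 h2 with h3 | h3
    · exfalso
      apply hw1
      have h4 := Subgroup.eq_bot_of_card_eq _ h3
      rwa [zpowers_eq_bot] at h4
    · exact h3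
  have hzW : zpowers w = W₁ := Cfsg.Agent.H22.Basic.eq_of_le_of_card_le hz (by rw [hzc, h.cW])
  -- all of W₁ fixes the coset
  have hfix : ∀ a ∈ W₁, a * u * a⁻¹ * u⁻¹ ∈ C := by
    have key : ∀ n : ℕ, w ^ n * u * (w ^ n)⁻¹ * u⁻¹ ∈ C := by
      intro n
      induction n with
      | zero => simp [C.one_mem]
      | succ n ih =>
        have e1 : w ^ (n + 1) * u * (w ^ (n + 1))⁻¹ * u⁻¹ =
            (w * (w ^ n * u * (w ^ n)⁻¹ * u⁻¹) * w⁻¹) * (w * u * w⁻¹ * u⁻¹) := by
          rw [pow_succ']; group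
        rw [e1]
        apply C.mul_mem
        · exact (mem_normalizer_iff.1 (hWC hw) _).1 ih
        · exact ⟨U.mul_mem ((mem_normalizer_iff.1 (h.WU hw) _).1 hu) (U.inv_mem hu), hc⟩
    intro a ha
    rw [← hzW] at ha
    obtain ⟨n, rfl⟩ := (isOfFinOrder_of_finite w).mem_powers_iff_mem_zpowers.2 ha
    exact key n
  obtain ⟨c, hc1, hc2⟩ := Cfsg.Agent.H1.Coprime.fixed_points_quotient W₁ U h.WU (by rw [h.cW]; exact h.cUq.symm)
    (Or.inr h.solU) C inf_le_left hUC hWC u hu hfix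
  have h3 : c ∈ U ⊓ centralizer ({w} : Set X) := by
    rw [h.centralizer_W hw hw1]; exact hc1
  rw [h.frob w hw hw1, Subgroup.mem_bot] at h3
  rw [h3, mul_one] at hc2
  have h4 := C.inv_mem hc2
  rw [inv_inv] at h4
  exact h4.2

end Cfg

end Cfsg.Agent.HL.P9
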