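import Mathlib
import Cfsg.Agent.HL_P9c

/-! PF (9.7) Galois case. -/

set_option autoImplicit false
open scoped commutatorElement

namespace Cfsg.Agent.HL.P9

open Subgroup

variable {X : Type*} [Group X] [Finite X]

/-- the output of the Galois case: `P` is (the additive group of) a field `F` of order `p ^ q`, `U` acts by
multiplications, `W₂` is the prime field -/
structure GalData (p q : ℕ) (P U W₂ : Subgroup X) (F : Type) [Field F] [Fintype F] (f ψ : X → F) : Prop where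
  card : Fintype.card F = p ^ q
  bij : Set.BijOn f (P : Set X) Set.univ
  add : ∀ x ∈ P, ∀ y ∈ P, f (x * y) = f x + f y
  ne : ∀ u ∈ U, ψ u ≠ 0
  act : ∀ u ∈ U, ∀ x ∈ P, f (u * x * u⁻¹) = ψ u * f x
  mul : ∀ u ∈ U, ∀ v ∈ U, ψ (u * v) = ψ u * ψ v
  ker : ∀ u ∈ U, ψ u = 1 ↔ u ∈ centralizer (P : Set X)
  W₂ : ∀ x ∈ P, x ∈ W₂ ↔ f x ^ p = f x
  prime : ∀ u ∈ U, ψ u ^ p = ψ u → ψ u = 1

theorem fix_iff {F : Type*} [Field F] [Fintype F] {p : ℕ} (hp : p.Prime) (τ : F →+* F)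
    (hc : Nat.card {a : F // τ a = a} = p) (a : F) : τ a = a ↔ a ^ p = a := by
  classical
  let K : Subring F := RingHom.eqLocus τ (RingHom.id F)
  have hKmem : ∀ a : F, a ∈ K ↔ τ a = a := fun a => Iff.rfl
  have hKc : Nat.card K = p := hc
  haveI : Fintype K := Fintype.ofFinite K
  have hfield : IsField K := Finite.isField_of_domain K
  letI : Field K := hfield.toField
  have h1 : ∀ a : F, τ a = a → a ^ p = a := by
    intro a ha
    have h2 := FiniteField.pow_card (⟨a, ha⟩ : K)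
    rw [← Nat.card_eq_fintype_card, hKc] at h2
    exact congrArg Subtype.val h2
  refine ⟨h1 a, fun ha => ?_⟩
  by_contra hne
  -- the polynomial X^p - X has more than p roots
  let g : Polynomial F := Polynomial.X ^ p - Polynomial.X
  have hg : g ≠ 0 := FiniteField.X_pow_card_sub_X_ne_zero F hp.one_lt
  have hdeg : g.natDegree = p := FiniteField.X_pow_card_sub_X_natDegree_eq F hp.one_lt
  let S : Finset F := insert a (Finset.univ.filter (fun b => τ b = b))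
  have hS : S ⊆ g.roots.toFinset := by
    intro b hb
    rw [Multiset.mem_toFinset, Polynomial.mem_roots hg, Polynomial.IsRoot.def]
    have hb' : b ^ p = b := by
      rcases Finset.mem_insert.1 hb with rfl | hb
      · exact ha
      · exact h1 b (Finset.mem_filter.1 hb).2
    simp [g, hb']
  have h3 : S.card = p + 1 := by
    rw [Finset.card_insert_of_notMem (by simpa using hne)]
    congr 1
    rw [← hc, Nat.card_eq_fintype_card, Fintype.card_subtype]
  have h4 := (Finset.card_le_card hS).trans (Multiset.toFinset_card_le _)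
  have h5 := Polynomial.card_roots' g
  omega

theorem Cfg.galois {p q : ℕ} {P U W₁ W₂ : Subgroup X} (h : Cfg p q P U W₁ W₂)
    (hgal : ∀ N : Subgroup X, N ≤ P → N ≠ ⊥ → U ≤ normalizer (N : Set X) → N = P) :
    ∃ (F : Type) (_ : Field F) (_ : Fintype F) (f ψ : X → F), GalData p q P U W₂ F f ψ := by
  classical
  have hW₂ne : W₂ ≠ ⊥ := by
    intro h0
    have h1 := h.card_W₂
    rw [h0, Subgroup.card_bot] at h1
    exact h.hp.one_lt.ne h1
  obtain ⟨x₀, hx₀, hx₀1⟩ := (Subgroup.bot_or_exists_ne_one W₂).resolve_left hW₂ne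
  obtain ⟨w, hw, hw1⟩ := h.exists_w
  obtain ⟨F, iF, iFt, f, ψ, hFc, hfb, hfa, hf0, hfψ, hfτ⟩ := galois_int h.hp h.hq.ne_zero P U h.ea h.card_P h.UP h.der
    hgal x₀ (h.W₂_le hx₀) hx₀1
  have hwx : w * x₀ * w⁻¹ = x₀ := by
    have h1 : x₀ ∈ P ⊓ centralizer ({w} : Set X) := by rw [h.fix w hw hw1]; exact hx₀
    have h2 := mem_centralizer_singleton_iff.1 h1.2
    rw [← h2]; group
  obtain ⟨τ, hτ⟩ := hfτ w (h.WP hw) (h.WU hw) hwx
  have hmul : ∀ u ∈ U, ∀ v ∈ U, ψ (u * v) = ψ u * ψ v := by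
    intro u hu v hv
    have hx₀P := h.W₂_le hx₀
    have h1 := (hfψ (u * v) (U.mul_mem hu hv)).2 x₀ hx₀P
    have h2 : u * v * x₀ * (u * v)⁻¹ = u * (v * x₀ * v⁻¹) * u⁻¹ := by group
    have h3 : v * x₀ * v⁻¹ ∈ P := (mem_normalizer_iff.1 (h.UP hv) x₀).1 hx₀P
    rw [h2, (hfψ u hu).2 _ h3, (hfψ v hv).2 _ hx₀P, hf0, mul_one, mul_one] at h1
    exact h1.symm
  have hker : ∀ u ∈ U, ψ u = 1 ↔ u ∈ centralizer (P : Set X) := by
    intro u hu
    rw [mem_centralizer_iff]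
    constructor
    · intro h1 x hx
      have h2 := (hfψ u hu).2 x hx
      rw [h1, one_mul] at h2
      have h3 : u * x * u⁻¹ ∈ P := (mem_normalizer_iff.1 (h.UP hu) x).1 hx
      have h4 := hfb.2.1 h3 hx h2
      rw [mul_inv_eq_iff_eq_mul] at h4
      exact h4.symm
    · intro h1
      have hx₀P := h.W₂_le hx₀
      have h2 := (hfψ u hu).2 x₀ hx₀P
      have h3 : u * x₀ * u⁻¹ = x₀ := by rw [← h1 x₀ hx₀P]; group
      rw [h3, hf0, mul_one] at h2
      exact h2.symm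
  have hfixτ : ∀ x ∈ P, x ∈ W₂ ↔ τ (f x) = f x := by
    intro x hx
    rw [← hτ x hx]
    constructor
    · intro h1
      have h2 : x ∈ P ⊓ centralizer ({w} : Set X) := by rw [h.fix w hw hw1]; exact h1
      have h3 := mem_centralizer_singleton_iff.1 h2.2
      congr 1
      rw [← h3]; group
    · intro h1
      have h3 : w * x * w⁻¹ ∈ P := (mem_normalizer_iff.1 (h.WP hw) x).1 hx
      have h4 := hfb.2.1 h3 hx h1
      rw [← h.fix w hw hw1]
      refine ⟨hx, mem_centralizer_singleton_iff.2 ?_⟩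
      rw [mul_inv_eq_iff_eq_mul] at h4
      exact h4.symm
  have hcτ : Nat.card {a : F // τ a = a} = p := by
    rw [← h.card_W₂]
    symm
    refine Nat.card_congr (Equiv.ofBijective (fun x : W₂ => (⟨f x, (hfixτ x (h.W₂_le x.2)).1 x.2⟩ : {a : F // τ a = a})) ⟨?_, ?_⟩)
    · intro x y hxy
      apply Subtype.ext
      exact hfb.2.1 (h.W₂_le x.2) (h.W₂_le y.2) (congrArg Subtype.val hxy)
    · rintro ⟨a, ha⟩
      obtain ⟨x, hx, rfl⟩ := hfb.2.2 (Set.mem_univ a)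
      exact ⟨⟨x, (hfixτ x hx).2 ha⟩, rfl⟩
  have hp1 := fix_iff h.hp τ hcτ
  refine ⟨F, iF, iFt, f, ψ, ⟨hFc, hfb, hfa, fun u hu => (hfψ u hu).1, fun u hu => (hfψ u hu).2, hmul, hker, ?_, ?_⟩⟩
  · intro x hx
    rw [hfixτ x hx, hp1]
  · intro u hu hup
    have hτu : τ (ψ u) = ψ u := (hp1 _).2 hup
    have hx₀P := h.W₂_le hx₀
    have hwu : w * u * w⁻¹ ∈ U := (mem_normalizer_iff.1 (h.WU hw) u).1 hu
    have h1 := (hfψ (w * u * w⁻¹) hwu).2 x₀ hx₀P
    have hwx' : w⁻¹ * x₀ * w = x₀ := by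
      nth_rewrite 1 [← hwx]; group
    have h2 : w * u * w⁻¹ * x₀ * (w * u * w⁻¹)⁻¹ = w * (u * x₀ * u⁻¹) * w⁻¹ := by
      calc w * u * w⁻¹ * x₀ * (w * u * w⁻¹)⁻¹ = w * (u * (w⁻¹ * x₀ * w) * u⁻¹) * w⁻¹ := by group
        _ = _ := by rw [hwx']
    have h3 : u * x₀ * u⁻¹ ∈ P := (mem_normalizer_iff.1 (h.UP hu) x₀).1 hx₀P
    rw [h2, hτ _ h3, (hfψ u hu).2 _ hx₀P, hf0, mul_one, mul_one, hτu] at h1
    -- ψ (w u w⁻¹) = ψ u
    have h4 : ψ (w * u * w⁻¹ * u⁻¹) = 1 := by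
      have h5 := hmul (w * u * w⁻¹ * u⁻¹) (U.mul_mem hwu (U.inv_mem hu)) u hu
      rw [inv_mul_cancel_right, ← h1] at h5
      have h6 := (hfψ u hu).1
      have h7 : (ψ (w * u * w⁻¹ * u⁻¹) - 1) * ψ u = 0 := by rw [sub_mul, one_mul, ← h5, sub_self]
      rcases mul_eq_zero.1 h7 with h8 | h8
      · exact sub_eq_zero.1 h8
      · exact absurd h8 h6
    have h5 := (hker _ (U.mul_mem hwu (U.inv_mem hu))).1 h4
    exact (hker u hu).2 (h.mem_of_comm hw hw1 hu h5)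

/-- numerical consequences -/
theorem GalData.exists_hom {p q : ℕ} {P U W₂ : Subgroup X} {F : Type} [Field F] [Fintype F] {f ψ : X → F}
    (d : GalData p q P U W₂ F f ψ) : ∃ Ψ : U →* Fˣ, (∀ u : U, (Ψ u : F) = ψ u) ∧
      Ψ.ker = (U ⊓ centralizer (P : Set X)).subgroupOf U := by
  have h1 : ψ 1 = 1 := by
    have h2 := d.mul 1 U.one_mem 1 U.one_mem
    rw [one_mul] at h2
    have h3 := d.ne 1 U.one_mem
    have h4 : ψ 1 * (ψ 1 - 1) = 0 := by rw [mul_sub, mul_one, ← h2, sub_self]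
    rcases mul_eq_zero.1 h4 with h5 | h5
    · exact absurd h5 h3
    · exact sub_eq_zero.1 h5
  let Ψ : U →* Fˣ :=
    { toFun := fun u => Units.mk0 (ψ u) (d.ne u u.2)
      map_one' := Units.ext h1
      map_mul' := fun u v => Units.ext (d.mul u u.2 v v.2) }
  refine ⟨Ψ, fun u => rfl, ?_⟩
  ext u
  rw [MonoidHom.mem_ker, mem_subgroupOf]
  have h2 : Ψ u = 1 ↔ ψ u = 1 := by
    rw [Units.ext_iff]
    exact Iff.rfl
  rw [h2, d.ker u u.2]
  exact ⟨fun h => ⟨u.2, h⟩, fun h => h.2⟩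

theorem GalData.card_range {p q : ℕ} (hp : p.Prime) {P U W₂ : Subgroup X} {F : Type} [Field F] [Fintype F] {f ψ : X → F}
    (d : GalData p q P U W₂ F f ψ) :
    (Nat.Coprime ((U ⊓ centralizer (P : Set X)).relIndex U) (p - 1)) ∧
      (U ⊓ centralizer (P : Set X)).relIndex U ∣ (p ^ q - 1) / (p - 1) ∧
      (∃ u₀ ∈ U, ∀ u ∈ U, ∃ n : ℕ, (u₀ ^ n)⁻¹ * u ∈ centralizer (P : Set X)) ∧
      ∀ u ∈ U, ∀ x ∈ P, x ≠ 1 → u * x = x * u → u ∈ centralizer (P : Set X) := by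
  classical
  obtain ⟨Ψ, hΨ, hker⟩ := d.exists_hom
  have hidx : (U ⊓ centralizer (P : Set X)).relIndex U = Nat.card Ψ.range := by
    rw [relIndex, ← hker, Subgroup.index_ker]
  have hcop : Nat.Coprime (Nat.card Ψ.range) (p - 1) := by
    rw [Nat.coprime_iff_gcd_eq_one]
    by_contra hne
    obtain ⟨r, hr, hrd⟩ := Nat.exists_prime_and_dvd hne
    haveI : Fact r.Prime := ⟨hr⟩
    obtain ⟨g, hg⟩ := exists_prime_orderOf_dvd_card' (G := Ψ.range) r (hrd.trans (Nat.gcd_dvd_left _ _))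
    obtain ⟨u, hu⟩ := g.2
    have h1 : (g : Fˣ) ^ (p - 1) = 1 := by
      have h2 : orderOf g ∣ p - 1 := by rw [hg]; exact hrd.trans (Nat.gcd_dvd_right _ _)
      have h3 := orderOf_dvd_iff_pow_eq_one.1 h2
      exact congrArg Subtype.val h3
    have h2 : ψ u ^ p = ψ u := by
      have h3 := congrArg Units.val h1
      rw [Units.val_pow_eq_pow_val, ← hu, hΨ, Units.val_one] at h3
      have h4 : p = (p - 1) + 1 := (Nat.sub_add_cancel hp.one_lt.le).symm
      calc ψ u ^ p = ψ u ^ (p - 1 + 1) := by rw [← h4]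
        _ = ψ u := by rw [pow_succ, h3, one_mul]
    have h3 := d.prime u u.2 h2
    have h4 : g = 1 := by
      apply Subtype.ext
      rw [← hu]
      apply Units.ext
      rw [hΨ, h3]; rfl
    rw [h4, orderOf_one] at hg
    exact hr.one_lt.ne hg
  have hdvd : Nat.card Ψ.range ∣ p ^ q - 1 := by
    have h1 := Subgroup.card_subgroup_dvd_card Ψ.range
    rw [Nat.card_eq_fintype_card (α := Fˣ), Fintype.card_units, d.card] at h1
    exact h1
  rw [hidx]
  refine ⟨hcop, ?_, ?_, ?_⟩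
  · have h1 : p - 1 ∣ p ^ q - 1 := by
      have := Nat.sub_dvd_pow_sub_pow p 1 q
      rwa [one_pow] at this
    obtain ⟨c, hc⟩ := h1
    have hp0 : 0 < p - 1 := Nat.sub_pos_of_lt hp.one_lt
    rw [hc, Nat.mul_div_cancel_left c hp0]
    rw [hc] at hdvd
    exact Nat.Coprime.dvd_of_dvd_mul_left hcop hdvd
  · haveI : IsCyclic Ψ.range := inferInstance
    obtain ⟨g, hg⟩ := IsCyclic.exists_generator (α := Ψ.range)
    obtain ⟨u₀, hu₀⟩ := g.2
    refine ⟨u₀, u₀.2, fun u hu => ?_⟩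
    have h1 := hg ⟨Ψ ⟨u, hu⟩, ⟨⟨u, hu⟩, rfl⟩⟩
    obtain ⟨n, hn⟩ := (isOfFinOrder_of_finite g).mem_powers_iff_mem_zpowers.2 h1
    have h2 : (g : Fˣ) ^ n = Ψ ⟨u, hu⟩ := congrArg Subtype.val hn
    refine ⟨n, ?_⟩
    have h3 : (u₀ ^ n)⁻¹ * ⟨u, hu⟩ ∈ Ψ.ker := by
      rw [MonoidHom.mem_ker, map_mul, map_inv, map_pow, hu₀, h2, inv_mul_cancel]
    rw [hker, mem_subgroupOf] at h3
    exact h3.2
  · intro u hu x hx hx1 hux
    rw [← d.ker u hu]
    have h1 := d.act u hu x hx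
    rw [hux, mul_inv_cancel_right] at h1
    have h2 : f x ≠ 0 := by
      intro h0
      apply hx1
      have h3 : f 1 = 0 := by
        have h4 := d.add 1 P.one_mem 1 P.one_mem
        rw [mul_one] at h4
        exact left_eq_add.1 h4
      exact d.bij.2.1 hx P.one_mem (by rw [h0, h3])
    have h3 : (ψ u - 1) * f x = 0 := by rw [sub_mul, one_mul, ← h1, sub_self]
    rcases mul_eq_zero.1 h3 with h4 | h4
    · exact sub_eq_zero.1 h4
    · exact absurd h4 h2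

end Cfsg.Agent.HL.P9
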