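import Mathlib
import Cfsg.Agent.HL_P9c

/-! PF (9.6) non-Galois case. -/

set_option autoImplicit false
open scoped commutatorElement

namespace Cfsg.Agent.HL.P9

open Subgroup Cfsg.Agent.H22.Basic

variable {X : Type*} [Group X] [Finite X]

/-- join of the conjugates of `A` under `w ^ i`, `i ∈ S` -/
def TT (w : X) (A : Subgroup X) (S : Finset ℕ) : Subgroup X := S.sup fun i => cj (w ^ i) A

theorem TT_empty (w : X) (A : Subgroup X) : TT w A ∅ = ⊥ := Finset.sup_empty

theorem TT_insert (w : X) (A : Subgroup X) (i : ℕ) (S : Finset ℕ) :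
    TT w A (insert i S) = cj (w ^ i) A ⊔ TT w A S := Finset.sup_insert

theorem TT_union (w : X) (A : Subgroup X) (S T : Finset ℕ) : TT w A (S ∪ T) = TT w A S ⊔ TT w A T :=
  Finset.sup_union

theorem le_TT (w : X) (A : Subgroup X) {i : ℕ} {S : Finset ℕ} (hi : i ∈ S) : cj (w ^ i) A ≤ TT w A S :=
  Finset.le_sup (f := fun i => cj (w ^ i) A) hi

theorem cj_le_of {P : Subgroup X} {w : X} (hw : w ∈ normalizer (P : Set X)) {A : Subgroup X} (hA : A ≤ P) (i : ℕ) :
    cj (w ^ i) A ≤ P := by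
  have h1 : cj (w ^ i) P = P := cj_eq_of_mem_normalizer ((normalizer (P : Set X)).pow_mem hw i)
  rw [← h1]
  exact cj_mono hA

theorem TT_le {P : Subgroup X} {w : X} (hw : w ∈ normalizer (P : Set X)) {A : Subgroup X} (hA : A ≤ P) (S : Finset ℕ) :
    TT w A S ≤ P := Finset.sup_le fun i _ => cj_le_of hw hA i

theorem ab_normalizer {P : Subgroup X} (hP : IsMulCommutative P) {A B : Subgroup X} (hA : A ≤ P) (hB : B ≤ P) :
    A ≤ normalizer (B : Set X) := by
  intro a ha
  rw [mem_normalizer_iff]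
  intro b
  have key : ∀ c ∈ P, a * c * a⁻¹ = c := by
    intro c hc
    have h1 := congrArg Subtype.val (hP.is_comm.comm (⟨a, hA ha⟩ : P) ⟨c, hc⟩)
    have h2 : a * c = c * a := h1
    rw [h2]; group
  constructor
  · intro hb
    rw [key b (hB hb)]; exact hb
  · intro hb
    have h1 : a * b * a⁻¹ ∈ P := hB hb
    have h2 : b ∈ P := by
      have := P.mul_mem (P.mul_mem (P.inv_mem (hA ha)) h1) (hA ha)
      have e : a⁻¹ * (a * b * a⁻¹) * a = b := by group
      rwa [e] at this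
    rwa [key b h2] at hb

theorem card_TT_le {P : Subgroup X} (hP : IsMulCommutative P) {w : X} (hw : w ∈ normalizer (P : Set X)) {A : Subgroup X}
    (hA : A ≤ P) (S : Finset ℕ) : Nat.card (TT w A S) ≤ Nat.card A ^ S.card := by
  classical
  induction S using Finset.induction_on with
  | empty => rw [TT_empty]; simp
  | insert i S hi ih =>
    rw [TT_insert, Finset.card_insert_of_notMem hi, pow_succ']
    have h1 := Cfsg.Agent.H1.Basic.card_sup_mul_card_inf (H := cj (w ^ i) A) (K := TT w A S)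
      (ab_normalizer hP (cj_le_of hw hA i) (TT_le hw hA S))
    have h2 : Nat.card ↥(cj (w ^ i) A ⊔ TT w A S) ≤ Nat.card (cj (w ^ i) A) * Nat.card (TT w A S) := by
      rw [← h1]
      exact Nat.le_mul_of_pos_right _ Nat.card_pos
    rw [card_cj] at h2
    exact h2.trans (Nat.mul_le_mul_left _ ih)

namespace Cfg

variable {p q : ℕ} {P U W₁ W₂ : Subgroup X} (h : Cfg p q P U W₁ W₂)
include h

theorem zpow_eq {w : X} (hw : w ∈ W₁) (hw1 : w ≠ 1) : zpowers w = W₁ := by
  have h1 : zpowers w ≤ W₁ := by rwa [zpowers_le]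
  apply eq_of_le_of_card_le h1
  have h2 : Nat.card (zpowers w) ∣ q := by rw [← h.cW]; exact Subgroup.card_dvd_of_le h1
  rcases (Nat.dvd_prime h.hq).1 h2 with h3 | h3
  · exfalso
    apply hw1
    have h4 := Subgroup.eq_bot_of_card_eq _ h3
    rwa [zpowers_eq_bot] at h4
  · rw [h3, h.cW]

theorem pow_w {w : X} (hw : w ∈ W₁) : w ^ q = 1 := by
  have h1 : (⟨w, hw⟩ : W₁) ^ Nat.card W₁ = 1 := pow_card_eq_one'
  rw [h.cW] at h1
  exact congrArg Subtype.val h1

/-- `U` normalizes conjugates by elements of `W₁` of subgroups it normalizes -/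
theorem U_cj {w : X} (hw : w ∈ W₁) {A : Subgroup X} (hA : U ≤ normalizer (A : Set X)) (i : ℕ) :
    U ≤ normalizer (cj (w ^ i) A : Set X) := by
  have h1 : cj (w ^ i) U = U := cj_eq_of_mem_normalizer (h.WU (W₁.pow_mem hw i))
  rw [normalizer_cj, ← h1]
  exact cj_mono hA

theorem U_TT {w : X} (hw : w ∈ W₁) {A : Subgroup X} (hA : U ≤ normalizer (A : Set X)) (S : Finset ℕ) :
    U ≤ normalizer (TT w A S : Set X) := by
  classical
  induction S using Finset.induction_on with
  | empty =>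
    rw [TT_empty]
    have : normalizer ((⊥ : Subgroup X) : Set X) = ⊤ := by
      rw [normalizer_eq_top_iff]; infer_instance
    rw [this]; exact le_top
  | insert i S hi ih =>
    rw [TT_insert]
    exact le_normalizer_sup (h.U_cj hw hA i) ih

theorem TT_eq {w : X} (hw : w ∈ W₁) (hw1 : w ≠ 1) {A : Subgroup X} (hAP : A ≤ P) (hA1 : A ≠ ⊥)
    (hA : U ≤ normalizer (A : Set X)) : TT w A (Finset.range q) = P := by
  apply h.irr _ (TT_le (h.WP hw) hAP _)
  · intro h0
    apply hA1
    have h1 := le_TT w A (Finset.mem_range.2 h.hq.pos)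
    rw [h0, pow_zero, le_bot_iff] at h1
    rw [← h1]
    exact (cj_eq_of_mem (Subgroup.one_mem A)).symm
  · exact h.U_TT hw hA _
  · rw [← h.zpow_eq hw hw1, zpowers_le]
    apply mem_normalizer_of_cj_le
    -- cj w (sup) ≤ sup
    have : ∀ S : Finset ℕ, S ⊆ Finset.range q → cj w (TT w A S) ≤ TT w A (Finset.range q) := by
      classical
      intro S
      induction S using Finset.induction_on with
      | empty =>
        intro _
        rw [TT_empty]
        have : cj w (⊥ : Subgroup X) = ⊥ := Subgroup.map_bot _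
        rw [this]; exact bot_le
      | insert i S hi ih =>
        intro hS
        rw [TT_insert, cj_sup]
        refine sup_le ?_ (ih ((Finset.subset_insert _ _).trans hS))
        rw [← cj_mul, ← pow_succ']
        have hi' : i < q := Finset.mem_range.1 (hS (Finset.mem_insert_self _ _))
        rcases Nat.lt_or_ge (i + 1) q with h2 | h2
        · exact le_TT w A (Finset.mem_range.2 h2)
        · have h3 : i + 1 = q := by omega
          rw [h3, h.pow_w hw]
          have := le_TT w A (Finset.mem_range.2 h.hq.pos)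
          rwa [pow_zero] at this
    exact this _ (le_refl _)

/-- the partial sums are powers -/
theorem card_TT_pow {w : X} (hw : w ∈ W₁) {A : Subgroup X} (hAP : A ≤ P)
    (hA : U ≤ normalizer (A : Set X)) (hmin : ∀ B : Subgroup X, B ≤ A → B ≠ ⊥ → U ≤ normalizer (B : Set X) → B = A) (S : Finset ℕ) :
    ∃ m, Nat.card (TT w A S) = Nat.card A ^ m := by
  classical
  induction S using Finset.induction_on with
  | empty => exact ⟨0, by rw [TT_empty]; simp⟩
  | insert i S hi ih =>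
    obtain ⟨m, hm⟩ := ih
    rw [TT_insert]
    have h1 := Cfsg.Agent.H1.Basic.card_sup_mul_card_inf (H := cj (w ^ i) A) (K := TT w A S)
      (ab_normalizer h.ea.1 (cj_le_of (h.WP hw) hAP i) (TT_le (h.WP hw) hAP S))
    rw [card_cj, hm] at h1
    by_cases h2 : cj (w ^ i) A ⊓ TT w A S = ⊥
    · rw [h2, Subgroup.card_bot, mul_one] at h1
      exact ⟨m + 1, by rw [h1, pow_succ']⟩
    · have h3 : cj (w ^ i) A ⊓ TT w A S = cj (w ^ i) A := by
        have h4 := hmin (cj (w ^ i)⁻¹ (cj (w ^ i) A ⊓ TT w A S)) (by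
          have := cj_mono (g := (w ^ i)⁻¹) (inf_le_left : cj (w ^ i) A ⊓ TT w A S ≤ cj (w ^ i) A)
          rwa [cj_inv_cj] at this) (by
          intro h0
          apply h2
          have := congrArg (cj (w ^ i)) h0
          rw [cj_cj_inv] at this
          rw [this]
          exact Subgroup.map_bot _) (by
          have hn : U ≤ normalizer ((cj (w ^ i) A ⊓ TT w A S : Subgroup X) : Set X) :=
            le_normalizer_inf (h.U_cj hw hA i) (h.U_TT hw hA S)
          rw [normalizer_cj]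
          have h5 : cj (w ^ i)⁻¹ U = U := cj_eq_of_mem_normalizer ((normalizer (U : Set X)).inv_mem (h.WU (W₁.pow_mem hw i)))
          rw [← h5]
          exact cj_mono hn)
        have := congrArg (cj (w ^ i)) h4
        rwa [cj_cj_inv] at this
      rw [sup_eq_right.2 (inf_eq_left.1 h3)]
      exact ⟨m, hm⟩

theorem nongalois {w : X} (hw : w ∈ W₁) (hw1 : w ≠ 1) {N : Subgroup X} (hNP : N ≤ P) (hN1 : N ≠ ⊥)
    (hN : U ≤ normalizer (N : Set X)) (hNne : N ≠ P) :
    ∃ P₁ : Subgroup X, P₁ ≤ N ∧ Nat.card P₁ = p ∧ U ≤ normalizer (P₁ : Set X) ∧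
      (∀ S ⊆ Finset.range q, Nat.card (TT w P₁ S) = p ^ S.card) ∧ TT w P₁ (Finset.range q) = P ∧
      (∀ S ⊆ Finset.range q, ∀ T ⊆ Finset.range q, Disjoint S T → TT w P₁ S ⊓ TT w P₁ T = ⊥) := by
  classical
  -- minimal U-invariant subgroup of N
  obtain ⟨A, hA⟩ : ∃ A : Subgroup X, (A ≤ N ∧ A ≠ ⊥ ∧ U ≤ normalizer (A : Set X)) ∧
      ∀ B : Subgroup X, (B ≤ N ∧ B ≠ ⊥ ∧ U ≤ normalizer (B : Set X)) → B ≤ A → B = A := by
    have hfin : Set.Finite {A : Subgroup X | A ≤ N ∧ A ≠ ⊥ ∧ U ≤ normalizer (A : Set X)} := Set.toFinite _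
    obtain ⟨A, hA⟩ := hfin.exists_minimal ⟨N, le_refl _, hN1, hN⟩
    exact ⟨A, hA.1, fun B hB hBA => le_antisymm hBA (hA.2 hB hBA)⟩
  obtain ⟨⟨hAN, hA1, hAU⟩, hmin⟩ := hA
  have hAP : A ≤ P := hAN.trans hNP
  have hmin' : ∀ B : Subgroup X, B ≤ A → B ≠ ⊥ → U ≤ normalizer (B : Set X) → B = A :=
    fun B h1 h2 h3 => hmin B ⟨h1.trans hAN, h2, h3⟩ h1
  haveI : Fact p.Prime := ⟨h.hp⟩
  have hpA : ∃ d, Nat.card A = p ^ d := by
    have hpg : IsPGroup p A := by
      intro x
      refine ⟨1, ?_⟩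
      rw [pow_one]
      exact Subtype.ext (h.ea.2 x (hAP x.2))
    exact IsPGroup.iff_card.1 hpg
  obtain ⟨d, hd⟩ := hpA
  have hTq := h.TT_eq hw hw1 hAP hA1 hAU
  obtain ⟨m, hm⟩ := h.card_TT_pow hw hAP hAU hmin' (Finset.range q)
  rw [hTq, h.card_P, hd, ← pow_mul] at hm
  have hqm : q = d * m := Nat.pow_right_injective h.hp.two_le hm
  have hd1 : d = 1 := by
    rcases (Nat.dvd_prime h.hq).1 ⟨m, hqm⟩ with h1 | h1
    · exact h1
    · exfalso
      -- A = P
      have h2 : A = P := eq_of_le_of_card_le hAP (by rw [h.card_P, hd, h1])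
      exact hNne (le_antisymm hNP (h2 ▸ hAN))
  have hcA : Nat.card A = p := by rw [hd, hd1, pow_one]
  have hcard : ∀ S ⊆ Finset.range q, Nat.card (TT w A S) = p ^ S.card := by
    intro S hS
    have h1 := card_TT_le h.ea.1 (h.WP hw) hAP S
    have h2 := card_TT_le h.ea.1 (h.WP hw) hAP (Finset.range q \ S)
    have h3 := Cfsg.Agent.H1.Basic.card_sup_mul_card_inf (H := TT w A S) (K := TT w A (Finset.range q \ S))
      (ab_normalizer h.ea.1 (TT_le (h.WP hw) hAP S) (TT_le (h.WP hw) hAP _))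
    rw [← TT_union, Finset.union_sdiff_of_subset hS, hTq, h.card_P] at h3
    have h4 : p ^ q ≤ Nat.card (TT w A S) * Nat.card (TT w A (Finset.range q \ S)) := by
      rw [← h3]; exact Nat.le_mul_of_pos_right _ Nat.card_pos
    rw [hcA] at h1 h2
    have h5 : (Finset.range q \ S).card = q - S.card := by
      rw [Finset.card_sdiff_of_subset hS, Finset.card_range]
    rw [h5] at h2
    have h6 : S.card ≤ q := by
      have := Finset.card_le_card hS
      rwa [Finset.card_range] at this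
    have h7 : p ^ q ≤ Nat.card (TT w A S) * p ^ (q - S.card) := h4.trans (Nat.mul_le_mul_left _ h2)
    have h8 : p ^ q = p ^ S.card * p ^ (q - S.card) := by rw [← pow_add]; congr 1; omega
    rw [h8] at h7
    exact le_antisymm h1 (Nat.le_of_mul_le_mul_right h7 (pow_pos h.hp.pos _))
  refine ⟨A, hAN, hcA, hAU, hcard, hTq, ?_⟩
  intro S hS T hT hd
  have h3 := Cfsg.Agent.H1.Basic.card_sup_mul_card_inf (H := TT w A S) (K := TT w A T)
    (ab_normalizer h.ea.1 (TT_le (h.WP hw) hAP S) (TT_le (h.WP hw) hAP _))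
  rw [← TT_union, hcard _ (Finset.union_subset hS hT), hcard S hS, hcard T hT, Finset.card_union_of_disjoint hd,
    pow_add] at h3
  have h4 : 0 < p ^ S.card * p ^ T.card := Nat.mul_pos (pow_pos h.hp.pos _) (pow_pos h.hp.pos _)
  have h5 : Nat.card ↥(TT w A S ⊓ TT w A T) = 1 := Nat.eq_of_mul_eq_mul_left h4 (by rw [h3, mul_one])
  exact Subgroup.eq_bot_of_card_eq _ h5

/-- the action of `U` on a `U`-invariant subgroup of order `p` -/
theorem line {P₁ : Subgroup X} (hP₁ : P₁ ≤ P) (hc : Nat.card P₁ = p) (hU : U ≤ normalizer (P₁ : Set X)) :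
    (U ⊓ centralizer (P₁ : Set X)).relIndex U ∣ p - 1 ∧ (U ⊓ centralizer (P₁ : Set X)).relIndex U ≠ 1 ∧
      (∃ u₀ ∈ U, ∀ u ∈ U, ∃ n : ℕ, (u₀ ^ n)⁻¹ * u ∈ centralizer (P₁ : Set X)) ∧
      ∀ u ∈ U, ∀ x ∈ P₁, x ≠ 1 → u * x = x * u → u ∈ centralizer (P₁ : Set X) := by
  classical
  haveI : Fact p.Prime := ⟨h.hp⟩
  haveI hcyc : IsCyclic P₁ := isCyclic_of_prime_card hc
  haveI : IsCyclic (ZMod (Nat.card P₁))ˣ := by rw [hc]; infer_instance
  haveI hA : IsCyclic (MulAut P₁) := isCyclic_of_surjective (IsCyclic.mulAutMulEquiv P₁).symm (MulEquiv.surjective _)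
  have hcA : Nat.card (MulAut P₁) = p - 1 := by
    rw [Nat.card_congr (IsCyclic.mulAutMulEquiv P₁).toEquiv, hc, Nat.card_eq_fintype_card, ZMod.card_units]
  let φ : U →* MulAut P₁ := P₁.normalizerMonoidHom.comp (Subgroup.inclusion hU)
  have hφ : ∀ (u : U) (x : P₁), ((φ u x : P₁) : X) = u * x * (u : X)⁻¹ := fun u x => rfl
  have hker : φ.ker = (U ⊓ centralizer (P₁ : Set X)).subgroupOf U := by
    ext u
    rw [MonoidHom.mem_ker, mem_subgroupOf]
    constructor
    · intro h1
      refine ⟨u.2, mem_centralizer_iff.2 ?_⟩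
      intro x hx
      have h2 := congrArg (fun e : MulAut P₁ => ((e ⟨x, hx⟩ : P₁) : X)) h1
      have h3 : (u : X) * x * (u : X)⁻¹ = x := h2
      rw [mul_inv_eq_iff_eq_mul] at h3
      exact h3.symm
    · intro h1
      apply MulEquiv.ext
      intro x
      apply Subtype.ext
      rw [hφ]
      have h2 := mem_centralizer_iff.1 h1.2 x x.2
      rw [← h2]
      show (x : X) * u * (u : X)⁻¹ = x
      group
  have hidx : (U ⊓ centralizer (P₁ : Set X)).relIndex U = Nat.card φ.range := by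
    rw [relIndex, ← hker, Subgroup.index_ker]
  refine ⟨?_, ?_, ?_, ?_⟩
  · rw [hidx, ← hcA]
    exact Subgroup.card_subgroup_dvd_card _
  · intro h1
    have h2 : U ≤ U ⊓ centralizer (P₁ : Set X) := relIndex_eq_one.1 h1
    have h3 : P₁ ≤ P ⊓ centralizer (U : Set X) := by
      intro x hx
      refine ⟨hP₁ hx, mem_centralizer_iff.2 ?_⟩
      intro u hu
      exact (mem_centralizer_iff.1 (h2 hu).2 x hx).symm
    rw [h.CU, le_bot_iff] at h3
    rw [h3, Subgroup.card_bot] at hc
    exact h.hp.one_lt.ne hc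
  · haveI : IsCyclic φ.range := inferInstance
    obtain ⟨g, hg⟩ := IsCyclic.exists_generator (α := φ.range)
    obtain ⟨u₀, hu₀⟩ := g.2
    refine ⟨u₀, u₀.2, fun u hu => ?_⟩
    have h1 := hg ⟨φ ⟨u, hu⟩, ⟨⟨u, hu⟩, rfl⟩⟩
    obtain ⟨n, hn⟩ := (isOfFinOrder_of_finite g).mem_powers_iff_mem_zpowers.2 h1
    have h2 : (g : MulAut P₁) ^ n = φ ⟨u, hu⟩ := congrArg Subtype.val hn
    refine ⟨n, ?_⟩
    have h3 : (u₀ ^ n)⁻¹ * ⟨u, hu⟩ ∈ φ.ker := by
      rw [MonoidHom.mem_ker, map_mul, map_inv, map_pow, hu₀, h2, inv_mul_cancel]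
    rw [hker, mem_subgroupOf] at h3
    exact h3.2
  · intro u hu x hx hx1 hux
    rw [mem_centralizer_iff]
    have hz : zpowers x = P₁ := by
      have h1 : zpowers x ≤ P₁ := by rwa [zpowers_le]
      apply eq_of_le_of_card_le h1
      have h2 : Nat.card (zpowers x) ∣ p := by rw [← hc]; exact Subgroup.card_dvd_of_le h1
      rcases (Nat.dvd_prime h.hp).1 h2 with h3 | h3
      · exfalso
        apply hx1
        have h4 := Subgroup.eq_bot_of_card_eq _ h3
        rwa [zpowers_eq_bot] at h4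
      · rw [h3, hc]
    intro y hy
    have hy' : y ∈ P₁ := hy
    rw [← hz] at hy'
    obtain ⟨k, rfl⟩ := mem_zpowers_iff.1 hy'
    exact ((show Commute u x from hux).zpow_right k).symm.eq

end Cfg

end Cfsg.Agent.HL.P9
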