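import Mathlib
import Cfsg.Prelude.Def_OddOrderLocal
import Cfsg.Agent.HL_P9d
import Cfsg.Agent.HL_P9e
import Cfsg.Agent.H12_TypeP
import Cfsg.Agent.H1_FratFit

/-! PF (9.4): the chief factor `H/H₀` with `C_H(U) ≤ H₀`, and the configuration `Cfg` in `M/H₀`. -/

set_option autoImplicit false
open scoped commutatorElement

namespace Cfsg.Agent.HL.P9

open Subgroup Cfsg Cfsg.Agent.H12

variable {G : Type*} [Group G] [Finite G]

/-- the hypotheses of PF §9 on type P data -/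
structure N5 (M W₁ U W₂ : Subgroup G) : Prop where
  P : IsTypePWith M W₁ U W₂
  U_ne : U ≠ ⊥
  prime : (Nat.card W₁).Prime
  sol : Group.IsSolvable M
  odd : Odd (Nat.card M)

/-- `H/H₀` is a chief factor of `M` with `C_H(U) ≤ H₀` -/
structure Ch (M U H₀ : Subgroup G) : Prop where
  lt : H₀ < fittingHallOf M
  nM : M ≤ normalizer (H₀ : Set G)
  CU : fittingHallOf M ⊓ centralizer (U : Set G) ≤ H₀
  der : ⁅fittingHallOf M, fittingHallOf M⁆ ≤ H₀
  max : ∀ N : Subgroup G, H₀ ≤ N → N ≤ fittingHallOf M → M ≤ normalizer (N : Set G) → N = H₀ ∨ N = fittingHallOf M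

namespace N5

variable {M W₁ U W₂ : Subgroup G} (h : N5 M W₁ U W₂)
include h

theorem HM : fittingHallOf M ≤ M := Core.fittingHallOf_le M
theorem M'M : ⁅M, M⁆ ≤ M := TypeP.commutator_le_self h.P
theorem UM : U ≤ M := TypeP.U_le_M h.P
theorem WM : W₁ ≤ M := h.P.W₁_compl.2.1
theorem MH : M ≤ normalizer (fittingHallOf M : Set G) := Core.le_normalizer_fittingHallOf M
theorem W₂H : W₂ ≤ fittingHallOf M := h.P.W₂_le.trans inf_le_left
theorem inf_UH {x : G} (h1 : x ∈ fittingHallOf M) (h2 : x ∈ U) : x = 1 := by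
  have : x ∈ fittingHallOf M ⊓ U := ⟨h1, h2⟩
  rwa [h.P.U_compl.2.2.1, mem_bot] at this

theorem decomp {m : G} (hm : m ∈ M) : ∃ a ∈ fittingHallOf M, ∃ u ∈ U, ∃ w ∈ W₁, m = a * u * w := by
  obtain ⟨a, ha, w, hw, rfl⟩ := h.P.W₁_compl.2.2.2 m hm
  obtain ⟨b, hb, u, hu, rfl⟩ := h.P.U_compl.2.2.2 a ha
  exact ⟨b, hb, u, hu, w, hw, rfl⟩

theorem card_M' : Nat.card ↥⁅M, M⁆ = Nat.card (fittingHallOf M) * Nat.card U := (Core.IsComplIn_card h.P.U_compl).symm
theorem card_M : Nat.card M = Nat.card ↥⁅M, M⁆ * Nat.card W₁ := (Core.IsComplIn_card h.P.W₁_compl).symm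

theorem cop_UH : (Nat.card U).Coprime (Nat.card (fittingHallOf M)) := TypeP.coprime_U h.P

theorem cop_W : (Nat.card W₁).Coprime (Nat.card ↥⁅M, M⁆) := by
  have h1 := h.P.W₁_hall
  have h3 := Cfsg.Agent.H1.Basic.relIndex_mul_card h.P.W₁_compl.2.1
  rw [h.card_M] at h3
  have h5 : W₁.relIndex M = Nat.card ↥⁅M, M⁆ := Nat.eq_of_mul_eq_mul_right Nat.card_pos h3
  rwa [h5] at h1

theorem cop_WH : (Nat.card W₁).Coprime (Nat.card (fittingHallOf M)) :=
  Nat.Coprime.coprime_dvd_right (Subgroup.card_dvd_of_le h.P.U_compl.1) h.cop_W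

theorem cop_WU : (Nat.card W₁).Coprime (Nat.card U) :=
  Nat.Coprime.coprime_dvd_right (Subgroup.card_dvd_of_le h.P.U_compl.2.1) h.cop_W

theorem normalizer_of {N : Subgroup G} (h1 : fittingHallOf M ≤ normalizer (N : Set G)) (h2 : U ≤ normalizer (N : Set G))
    (h3 : W₁ ≤ normalizer (N : Set G)) : M ≤ normalizer (N : Set G) := by
  intro m hm
  obtain ⟨a, ha, u, hu, w, hw, rfl⟩ := h.decomp hm
  exact mul_mem (mul_mem (h1 ha) (h2 hu)) (h3 hw)

theorem exists_Ch : ∃ H₀, Ch M U H₀ := by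
  set H := fittingHallOf M with hH
  have hUH : U ≤ normalizer (H : Set G) := h.UM.trans h.MH
  have hWH : W₁ ≤ normalizer (H : Set G) := h.WM.trans h.MH
  set K : Subgroup G := (H ⊓ centralizer (U : Set G)) ⊔ ⁅H, H⁆ with hK
  have hKH : K ≤ H := sup_le inf_le_left (commutator_le_self H)
  have hder : ∀ N : Subgroup G, ⁅H, H⁆ ≤ N → N ≤ H → H ≤ normalizer (N : Set G) := by
    intro N h1 h2 x hx
    rw [mem_normalizer_iff]
    intro y
    have key : ∀ z : G, z ∈ H → (x * z * x⁻¹) * z⁻¹ ∈ N := fun z hz => h1 (commutator_mem_commutator hx hz)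
    constructor
    · intro hy
      have h3 := N.mul_mem (key y (h2 hy)) hy
      rwa [inv_mul_cancel_right] at h3
    · intro hy
      have hyH : y ∈ H := by
        have := H.mul_mem (H.mul_mem (H.inv_mem hx) (h2 hy)) hx
        have e : x⁻¹ * (x * y * x⁻¹) * x = y := by group
        rwa [e] at this
      have h3 := N.mul_mem (N.inv_mem (key y hyH)) hy
      have e : ((x * y * x⁻¹) * y⁻¹)⁻¹ * (x * y * x⁻¹) = y := by group
      rwa [e] at h3
  have hHder : ∀ A : Subgroup G, A ≤ normalizer (H : Set G) → A ≤ normalizer ((⁅H, H⁆ : Subgroup G) : Set G) :=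
    fun A hA => Cfsg.Agent.H22.Basic.le_normalizer_commutator hA hA
  have hKM : M ≤ normalizer (K : Set G) := by
    apply h.normalizer_of
    · exact hder K le_sup_right hKH
    · apply Cfsg.Agent.H22.Basic.le_normalizer_sup _ (hHder U hUH)
      exact Cfsg.Agent.H22.Basic.le_normalizer_inf hUH (Cfsg.Agent.H22.Basic.le_normalizer_centralizer le_normalizer)
    · apply Cfsg.Agent.H22.Basic.le_normalizer_sup _ (hHder W₁ hWH)
      exact Cfsg.Agent.H22.Basic.le_normalizer_inf hWH (Cfsg.Agent.H22.Basic.le_normalizer_centralizer h.P.U_normal)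
  have hKne : K ≠ H := by
    intro h0
    have hnil : Group.IsNilpotent H := Core.fittingHallOf_isNilpotent M
    -- H = C_H(U) [H,H] implies C_H(U) = H
    set C : Subgroup G := H ⊓ centralizer (U : Set G) with hC
    have h1 : (C.subgroupOf H) ⊔ commutator H = ⊤ := by
      apply Subgroup.map_injective H.subtype_injective
      rw [Subgroup.map_sup, ← MonoidHom.range_eq_map, H.range_subtype]
      have e1 : (C.subgroupOf H).map H.subtype = C := Cfsg.Agent.H22.Basic.map_subtype_subgroupOf inf_le_left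
      have e2 : (commutator H).map H.subtype = ⁅H, H⁆ := by
        rw [commutator_def, Subgroup.map_commutator, ← MonoidHom.range_eq_map, H.range_subtype]
      rw [e1, e2]
      exact h0
    have h2 : commutator H ≤ frattini H := by
      haveI := hnil
      exact Cfsg.Agent.H1.FratFit.commutator_le_frattini_of_nilpotent
    have h3 : C.subgroupOf H = ⊤ := by
      apply frattini_nongenerating
      rw [eq_top_iff, ← h1]
      exact sup_le_sup_left h2 _
    have h4 : H ≤ C := by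
      rw [subgroupOf_eq_top] at h3
      exact h3
    apply TypeP.U_not_centralizes h.P h.U_ne
    rw [le_centralizer_iff]
    exact fun x hx => (h4 hx).2
  have hKlt : K < H := lt_of_le_of_ne hKH hKne
  -- maximal element
  obtain ⟨H₀, hH₀⟩ : ∃ A : Subgroup G, (K ≤ A ∧ A < H ∧ M ≤ normalizer (A : Set G)) ∧
      ∀ B : Subgroup G, (K ≤ B ∧ B < H ∧ M ≤ normalizer (B : Set G)) → A ≤ B → B = A := by
    have hfin : Set.Finite {A : Subgroup G | K ≤ A ∧ A < H ∧ M ≤ normalizer (A : Set G)} := Set.toFinite _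
    obtain ⟨A, hA⟩ := hfin.exists_maximal ⟨K, le_refl _, hKlt, hKM⟩
    exact ⟨A, hA.1, fun B hB hBA => le_antisymm (hA.2 hB hBA) hBA⟩
  obtain ⟨⟨hK1, hlt, hn⟩, hmax⟩ := hH₀
  refine ⟨H₀, ⟨hlt, hn, le_sup_left.trans hK1, le_sup_right.trans hK1, ?_⟩⟩
  intro N h1 h2 h3
  rcases lt_or_eq_of_le h2 with h4 | h4
  · exact Or.inl (hmax N ⟨hK1.trans h1, h4, h3⟩ h1)
  · exact Or.inr h4

end N5

/-- image of a subgroup of `M` in `M / H₀` -/
def img (M H₀ : Subgroup G) [(H₀.subgroupOf M).Normal] (A : Subgroup G) : Subgroup (M ⧸ H₀.subgroupOf M) :=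
  (A.subgroupOf M).map (QuotientGroup.mk' (H₀.subgroupOf M))

theorem mem_img {M H₀ : Subgroup G} [(H₀.subgroupOf M).Normal] {A : Subgroup G} (hA : A ≤ M) {x : M ⧸ H₀.subgroupOf M} :
    x ∈ img M H₀ A ↔ ∃ a, ∃ ha : a ∈ A, QuotientGroup.mk' (H₀.subgroupOf M) ⟨a, hA ha⟩ = x := by
  rw [img, Subgroup.mem_map]
  constructor
  · rintro ⟨⟨a, ha⟩, h1, rfl⟩
    exact ⟨a, h1, rfl⟩
  · rintro ⟨a, ha, rfl⟩
    exact ⟨⟨a, hA ha⟩, ha, rfl⟩

theorem mk_eq_one {M H₀ : Subgroup G} [(H₀.subgroupOf M).Normal] {a : M} :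
    QuotientGroup.mk' (H₀.subgroupOf M) a = 1 ↔ (a : G) ∈ H₀ := by
  rw [← MonoidHom.mem_ker, QuotientGroup.ker_mk']
  rfl

theorem img_normalizer {M H₀ : Subgroup G} [(H₀.subgroupOf M).Normal] {A B : Subgroup G} (hA : A ≤ M) (hB : B ≤ M)
    (h : A ≤ normalizer (B : Set G)) : img M H₀ A ≤ normalizer (img M H₀ B : Set (M ⧸ H₀.subgroupOf M)) := by
  intro x hx
  obtain ⟨a, ha, rfl⟩ := (mem_img hA).1 hx
  apply Cfsg.Agent.H22.Basic.mem_normalizer_of_cj_le
  intro y hy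
  rw [Cfsg.Agent.H22.Basic.mem_cj] at hy
  obtain ⟨b, hb, hb'⟩ := (mem_img hB).1 hy
  rw [mem_img hB]
  refine ⟨a * b * a⁻¹, (mem_normalizer_iff.1 (h ha) b).1 hb, ?_⟩
  have e : (⟨a * b * a⁻¹, hB ((mem_normalizer_iff.1 (h ha) b).1 hb)⟩ : M) = ⟨a, hA ha⟩ * ⟨b, hB hb⟩ * ⟨a, hA ha⟩⁻¹ := rfl
  rw [e, map_mul, map_mul, hb', map_inv]
  group

theorem card_img_dvd {M H₀ : Subgroup G} [(H₀.subgroupOf M).Normal] {A : Subgroup G} (hA : A ≤ M) :
    Nat.card (img M H₀ A) ∣ Nat.card A := by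
  have h1 := Subgroup.card_map_dvd (f := QuotientGroup.mk' (H₀.subgroupOf M)) (A.subgroupOf M)
  rwa [Cfsg.Agent.H22.Basic.card_subgroupOf_eq hA] at h1

end Cfsg.Agent.HL.P9
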