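import Mathlib
import Cfsg.Agent.HL_P9f

/-! PF (9.4)-(9.5): `Cfg` holds in `M/H₀`. -/

set_option autoImplicit false
open scoped commutatorElement

namespace Cfsg.Agent.HL.P9

open Subgroup Cfsg Cfsg.Agent.H12

variable {G : Type*} [Group G] [Finite G] {M W₁ U W₂ H₀ : Subgroup G}

theorem Ch.normal (c : Ch M U H₀) : (H₀.subgroupOf M).Normal :=
  Core.normal_subgroupOf_of_le c.nM

/-- (F1) -/
theorem Ch.F1 (h : N5 M W₁ U W₂) (c : Ch M U H₀) {x : G} (hx : x ∈ fittingHallOf M)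
    (hc : ∀ u ∈ U, u * x * u⁻¹ * x⁻¹ ∈ H₀) : x ∈ H₀ := by
  haveI := h.P.U_nilpotent
  have hUH : U ≤ normalizer (fittingHallOf M : Set G) := h.UM.trans h.MH
  obtain ⟨d, hd, hd2⟩ := Cfsg.Agent.H1.Coprime.fixed_points_quotient U (fittingHallOf M) hUH h.cop_UH
    (Or.inl inferInstance) H₀ c.lt.le (h.HM.trans c.nM) (h.UM.trans c.nM) x hx hc
  have h1 := c.CU hd
  have h2 : x = d * (x⁻¹ * d)⁻¹ := by group
  rw [h2]
  exact H₀.mul_mem h1 (H₀.inv_mem hd2)

/-- (F2) -/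
theorem Ch.F2 (h : N5 M W₁ U W₂) (c : Ch M U H₀) {w u : G} (hw : w ∈ W₁) (hw1 : w ≠ 1) (hu : u ∈ U)
    (hc : w * u * w⁻¹ * u⁻¹ ∈ H₀) : u = 1 := by
  have h1 : w * u * w⁻¹ * u⁻¹ ∈ U := U.mul_mem ((mem_normalizer_iff.1 (h.P.U_normal hw) u).1 hu) (U.inv_mem hu)
  have h2 := h.inf_UH (c.lt.le hc) h1
  rw [mul_inv_eq_one, mul_inv_eq_iff_eq_mul] at h2
  have h3 : u ∈ ⁅M, M⁆ ⊓ centralizer ({w} : Set G) :=
    ⟨h.P.U_compl.2.1 hu, mem_centralizer_singleton_iff.2 h2.symm⟩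
  rw [h.P.W₂_centralizer w hw hw1] at h3
  exact h.inf_UH (h.W₂H h3) hu

theorem N5.zpow_eq (h : N5 M W₁ U W₂) {w : G} (hw : w ∈ W₁) (hw1 : w ≠ 1) : zpowers w = W₁ := by
  have h1 : zpowers w ≤ W₁ := by rwa [zpowers_le]
  apply Cfsg.Agent.H22.Basic.eq_of_le_of_card_le h1
  have h2 : Nat.card (zpowers w) ∣ Nat.card W₁ := Subgroup.card_dvd_of_le h1
  rcases (Nat.dvd_prime h.prime).1 h2 with h3 | h3
  · exfalso
    apply hw1
    have h4 := Subgroup.eq_bot_of_card_eq _ h3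
    rwa [zpowers_eq_bot] at h4
  · rw [h3]

theorem N5.cent_W (h : N5 M W₁ U W₂) : fittingHallOf M ⊓ centralizer (W₁ : Set G) = W₂ := by
  obtain ⟨w, hw, hw1⟩ := (Subgroup.bot_or_exists_ne_one W₁).resolve_left h.P.W₁_ne
  have h1 : centralizer (W₁ : Set G) = centralizer ({w} : Set G) := by
    rw [← h.zpow_eq hw hw1]
    ext x
    rw [mem_centralizer_singleton_iff, mem_centralizer_iff]
    constructor
    · intro h1
      exact (h1 w (mem_zpowers w)).symm
    · intro h1 y hy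
      obtain ⟨k, rfl⟩ := mem_zpowers_iff.1 hy
      exact ((show Commute x w from h1).zpow_right k).symm.eq
  rw [h1]
  apply le_antisymm
  · rw [← h.P.W₂_centralizer w hw hw1]
    exact inf_le_inf_right _ h.P.U_compl.1
  · refine le_inf h.W₂H ?_
    rw [← h.P.W₂_centralizer w hw hw1]
    exact inf_le_right

theorem Ch.inj (h : N5 M W₁ U W₂) (c : Ch M U H₀) [(H₀.subgroupOf M).Normal] {A : Subgroup G} (hA : A ≤ M)
    (hcop : (Nat.card A).Coprime (Nat.card (fittingHallOf M))) : Nat.card (img M H₀ A) = Nat.card A := by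
  have h0 : ∀ a ∈ A, a ∈ H₀ → a = 1 := by
    intro a ha ha0
    have h1 : A ⊓ fittingHallOf M = ⊥ := Cfsg.Agent.H22.Basic.inf_eq_bot_of_coprime hcop
    have h2 : a ∈ A ⊓ fittingHallOf M := ⟨ha, c.lt.le ha0⟩
    rwa [h1, mem_bot] at h2
  have h1 : Function.Injective (((QuotientGroup.mk' (H₀.subgroupOf M)).subgroupMap (A.subgroupOf M))) := by
    rw [injective_iff_map_eq_one]
    rintro ⟨⟨a, ha⟩, ha'⟩ h2
    have h3 : QuotientGroup.mk' (H₀.subgroupOf M) ⟨a, ha⟩ = 1 := congrArg Subtype.val h2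
    rw [mk_eq_one] at h3
    have h4 := h0 a ha' h3
    apply Subtype.ext; apply Subtype.ext; exact h4
  have h2 : Function.Bijective (((QuotientGroup.mk' (H₀.subgroupOf M)).subgroupMap (A.subgroupOf M))) :=
    ⟨h1, MonoidHom.subgroupMap_surjective _ _⟩
  have h3 := Nat.card_congr (Equiv.ofBijective _ h2)
  rw [Cfsg.Agent.H22.Basic.card_subgroupOf_eq hA] at h3
  exact h3.symm

theorem mk_comm [(H₀.subgroupOf M).Normal] {a b : M}
    (hab : QuotientGroup.mk' (H₀.subgroupOf M) a * QuotientGroup.mk' (H₀.subgroupOf M) b =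
      QuotientGroup.mk' (H₀.subgroupOf M) b * QuotientGroup.mk' (H₀.subgroupOf M) a) :
    (a : G) * b * (a : G)⁻¹ * (b : G)⁻¹ ∈ H₀ := by
  have h2 : QuotientGroup.mk' (H₀.subgroupOf M) (a * b * a⁻¹ * b⁻¹) = 1 := by
    rw [map_mul, map_mul, map_mul, hab, map_inv, map_inv]; group
  exact mk_eq_one.1 h2

theorem Ch.cfg (h : N5 M W₁ U W₂) (c : Ch M U H₀) [hn : (H₀.subgroupOf M).Normal] :
    ∃ p, Cfg p (Nat.card W₁) (img M H₀ (fittingHallOf M)) (img M H₀ U) (img M H₀ W₁) (img M H₀ W₂) := by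
  classical
  haveI := h.sol
  set H := fittingHallOf M with hH
  set π := QuotientGroup.mk' (H₀.subgroupOf M) with hπ
  have hπs : Function.Surjective π := QuotientGroup.mk'_surjective _
  have hHM := h.HM
  have hUM := h.UM
  have hWM := h.WM
  have hW₂M : W₂ ≤ M := h.W₂H.trans hHM
  have hUH : U ≤ normalizer (H : Set G) := hUM.trans h.MH
  have hWH : W₁ ≤ normalizer (H : Set G) := hWM.trans h.MH
  haveI hPn : (img M H₀ H).Normal := by
    haveI : (H.subgroupOf M).Normal := Core.normal_subgroupOf_of_le h.MH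
    exact Subgroup.Normal.map inferInstance _ hπs
  have hPne : img M H₀ H ≠ ⊥ := by
    intro h0
    apply c.lt.not_ge
    intro x hx
    have h1 : π ⟨x, hHM hx⟩ ∈ img M H₀ H := (mem_img hHM).2 ⟨x, hx, rfl⟩
    rw [h0, mem_bot, mk_eq_one] at h1
    exact h1
  -- pull back of subgroups of P
  have hmin : ∀ N : Subgroup (M ⧸ H₀.subgroupOf M), N.Normal → N ≤ img M H₀ H → N = ⊥ ∨ N = img M H₀ H := by
    intro N hN hNP
    set N' : Subgroup G := (N.comap π).map M.subtype with hN'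
    have hmem : ∀ (x : G) (hx : x ∈ M), x ∈ N' ↔ π ⟨x, hx⟩ ∈ N := by
      intro x hx
      rw [hN', Subgroup.mem_map]
      constructor
      · rintro ⟨y, hy, rfl⟩; exact hy
      · intro h1; exact ⟨⟨x, hx⟩, h1, rfl⟩
    have hN'M : N' ≤ M := Subgroup.map_subtype_le _
    have hN'H : N' ≤ H := by
      intro x hx
      have h1 := hNP ((hmem x (hN'M hx)).1 hx)
      obtain ⟨a, ha, h2⟩ := (mem_img hHM).1 h1
      have h3 : π (⟨a, hHM ha⟩⁻¹ * ⟨x, hN'M hx⟩) = 1 := by rw [map_mul, map_inv, h2, inv_mul_cancel]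
      rw [mk_eq_one] at h3
      have h4 : a⁻¹ * x ∈ H₀ := h3
      have h5 : x = a * (a⁻¹ * x) := by group
      rw [h5]
      exact H.mul_mem ha (c.lt.le h4)
    have h1 : H₀ ≤ N' := by
      intro x hx
      have hxM : x ∈ M := hHM (c.lt.le hx)
      rw [hmem x hxM]
      have : π ⟨x, hxM⟩ = 1 := mk_eq_one.2 hx
      rw [this]; exact N.one_mem
    have h2 : M ≤ normalizer (N' : Set G) := by
      intro m hm
      apply Cfsg.Agent.H22.Basic.mem_normalizer_of_cj_le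
      intro y hy
      rw [Cfsg.Agent.H22.Basic.mem_cj] at hy
      have hyM : y ∈ M := by
        have := M.mul_mem (M.mul_mem hm (hN'M hy)) (M.inv_mem hm)
        have e : m * (m⁻¹ * y * m) * m⁻¹ = y := by group
        rwa [e] at this
      rw [hmem _ (hN'M hy)] at hy
      rw [hmem y hyM]
      have h3 := hN.conj_mem _ hy (π ⟨m, hm⟩)
      rw [← map_inv, ← map_mul, ← map_mul] at h3
      have e : (⟨m, hm⟩ * ⟨m⁻¹ * y * m, hN'M ((hmem _ (by
        exact M.mul_mem (M.mul_mem (M.inv_mem hm) hyM) hm)).2 hy)⟩ * ⟨m, hm⟩⁻¹ : M) = ⟨y, hyM⟩ := by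
        apply Subtype.ext
        show m * (m⁻¹ * y * m) * m⁻¹ = y
        group
      rwa [e] at h3
    rcases c.max N' h1 hN'H h2 with h3 | h3
    · left
      rw [eq_bot_iff]
      intro x hx
      obtain ⟨y, rfl⟩ := hπs x
      have h4 : (y : G) ∈ N' := (hmem y y.2).2 hx
      rw [h3] at h4
      rw [mem_bot]
      exact mk_eq_one.2 h4
    · right
      apply le_antisymm hNP
      intro x hx
      obtain ⟨a, ha, rfl⟩ := (mem_img hHM).1 hx
      have ha' : a ∈ N' := by rw [h3]; exact ha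
      exact (hmem a _).1 ha'
  obtain ⟨hcomm, p, hp, hpow⟩ := Cfsg.Agent.H1.Hall.minimal_normal_elementary (img M H₀ H) hPne hmin
  haveI : Fact p.Prime := ⟨hp⟩
  have hpH : p ∣ Nat.card H := by
    refine dvd_trans ?_ (card_img_dvd (H₀ := H₀) hHM)
    haveI : Nontrivial (img M H₀ H) := (Subgroup.nontrivial_iff_ne_bot _).2 hPne
    obtain ⟨x, hx⟩ := exists_ne (1 : img M H₀ H)
    have h1 : orderOf x ∣ p := orderOf_dvd_of_pow_eq_one (Subtype.ext (hpow x x.2))
    have h2 : orderOf x ≠ 1 := by rwa [Ne, orderOf_eq_one_iff]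
    have h3 := ((Nat.dvd_prime hp).1 h1).resolve_left h2
    rw [← h3]
    exact orderOf_dvd_natCard x
  have hcop : ∀ {n : ℕ}, n.Coprime (Nat.card H) → n.Coprime p := fun h1 => Nat.Coprime.coprime_dvd_right hpH h1
  have hcUi : Nat.card (img M H₀ U) = Nat.card U := c.inj h hUM h.cop_UH
  have hcWi : Nat.card (img M H₀ W₁) = Nat.card W₁ := c.inj h hWM h.cop_WH
  have hfrobaux : ∀ x ∈ img M H₀ W₁, x ≠ 1 → ∃ w, ∃ hw : w ∈ W₁, w ≠ 1 ∧ π ⟨w, hWM hw⟩ = x := by
    intro x hx hx1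
    obtain ⟨w, hw, rfl⟩ := (mem_img hWM).1 hx
    refine ⟨w, hw, ?_, rfl⟩
    rintro rfl
    apply hx1
    rw [mk_eq_one]
    exact H₀.one_mem
  refine ⟨p, ?_⟩
  refine
    { hp := hp
      hq := h.prime
      ea := ⟨hcomm, hpow⟩
      ne := hPne
      UP := img_normalizer hUM hHM hUH
      WP := img_normalizer hWM hHM hWH
      WU := img_normalizer hWM hUM h.P.U_normal
      cU := by rw [hcUi]; exact hcop h.cop_UH
      cqp := hcop h.cop_WH
      cUq := by rw [hcUi]; exact h.cop_WU.symm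
      cW := hcWi
      CU := ?_
      frob := ?_
      fix := ?_
      cyc := ?_
      der := ?_
      irr := ?_
      oddU := by rw [hcUi]; exact Odd.of_dvd_nat h.odd (Subgroup.card_dvd_of_le hUM)
      oddq := Odd.of_dvd_nat h.odd (Subgroup.card_dvd_of_le hWM)
      solU := ?_ }
  · -- CU
    rw [eq_bot_iff]
    rintro x ⟨hx, hxc⟩
    obtain ⟨a, ha, rfl⟩ := (mem_img hHM).1 hx
    rw [mem_bot, mk_eq_one]
    apply c.F1 h ha
    intro u hu
    have h1 := mem_centralizer_iff.1 hxc (π ⟨u, hUM hu⟩) ((mem_img hUM).2 ⟨u, hu, rfl⟩)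
    exact mk_comm h1
  · -- frob
    intro x hx hx1
    obtain ⟨w, hw, hw1, rfl⟩ := hfrobaux x hx hx1
    rw [eq_bot_iff]
    rintro y ⟨hy, hyc⟩
    obtain ⟨u, hu, rfl⟩ := (mem_img hUM).1 hy
    have h1 := mem_centralizer_singleton_iff.1 hyc
    have h2 := mk_comm h1.symm
    have h3 := c.F2 h hw hw1 hu h2
    rw [mem_bot, mk_eq_one]
    show u ∈ H₀
    rw [h3]; exact H₀.one_mem
  · -- fix
    intro x hx hx1
    obtain ⟨w, hw, hw1, rfl⟩ := hfrobaux x hx hx1
    apply le_antisymm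
    · rintro y ⟨hy, hyc⟩
      obtain ⟨a, ha, rfl⟩ := (mem_img hHM).1 hy
      have h1 := mem_centralizer_singleton_iff.1 hyc
      have hfix : ∀ v ∈ W₁, v * a * v⁻¹ * a⁻¹ ∈ H₀ := by
        intro v hv
        rw [← h.zpow_eq hw hw1] at hv
        obtain ⟨k, rfl⟩ := mem_zpowers_iff.1 hv
        have h2 : Commute (π ⟨a, hHM ha⟩) (π ⟨w, hWM hw⟩) := h1
        have h3 := h2.zpow_right k
        rw [← map_zpow] at h3
        have h4 := mk_comm h3.eq.symm
        have h5 : (((⟨w, hWM hw⟩ : M) ^ k : M) : G) = w ^ k := rfl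
        rwa [h5] at h4
      haveI : IsCyclic W₁ := h.P.W₁_cyclic
      obtain ⟨d, hd, hd2⟩ := Cfsg.Agent.H1.Coprime.fixed_points_quotient W₁ H hWH h.cop_WH
        (Or.inl inferInstance) H₀ c.lt.le (hHM.trans c.nM) (hWM.trans c.nM) a ha hfix
      rw [h.cent_W] at hd
      rw [mem_img hW₂M]
      refine ⟨d, hd, ?_⟩
      have h6 : π (⟨a, hHM ha⟩⁻¹ * ⟨d, hW₂M hd⟩) = 1 := mk_eq_one.2 hd2
      rw [map_mul, map_inv, inv_mul_eq_one] at h6
      exact h6.symm
    · rintro y hy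
      obtain ⟨a, ha, rfl⟩ := (mem_img hW₂M).1 hy
      refine ⟨(mem_img hHM).2 ⟨a, h.W₂H ha, rfl⟩, mem_centralizer_singleton_iff.2 ?_⟩
      have h1 : a ∈ ⁅M, M⁆ ⊓ centralizer ({w} : Set G) := by rw [h.P.W₂_centralizer w hw hw1]; exact ha
      have h2 := mem_centralizer_singleton_iff.1 h1.2
      rw [← map_mul, ← map_mul]
      congr 1
      exact Subtype.ext h2
  · -- cyclic
    haveI : IsCyclic ↥(W₁ ⊔ W₂) := h.P.selfNormalizing.2.2.2.2.1
    haveI : IsCyclic W₂ := isCyclic_of_injective (Subgroup.inclusion (le_sup_right : W₂ ≤ W₁ ⊔ W₂)) (Subgroup.inclusion_injective _)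
    haveI : IsCyclic (W₂.subgroupOf M) := isCyclic_of_injective (Subgroup.subgroupOfEquivOfLe hW₂M).toMonoidHom (MulEquiv.injective _)
    exact isCyclic_of_surjective (π.subgroupMap (W₂.subgroupOf M)) (MonoidHom.subgroupMap_surjective _ _)
  · -- der
    rw [commutator_le]
    intro x hx y hy
    obtain ⟨a, ha, rfl⟩ := (mem_img hUM).1 hx
    obtain ⟨b, hb, rfl⟩ := (mem_img hUM).1 hy
    rw [mem_centralizer_iff]
    intro z hz
    obtain ⟨t, ht, rfl⟩ := (mem_img hHM).1 hz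
    have h1 := TypeP.derived_U h.P (commutator_mem_commutator ha hb)
    have h2 := mem_centralizer_iff.1 h1 t ht
    rw [← map_commutatorElement, ← map_mul, ← map_mul]
    congr 1
    exact Subtype.ext h2
  · -- irr
    intro N hNP hN1 hU hW
    have hnorm : N.Normal := by
      have h1 : normalizer (N : Set (M ⧸ H₀.subgroupOf M)) = ⊤ := by
        rw [eq_top_iff]
        intro x _
        obtain ⟨m, rfl⟩ := hπs x
        obtain ⟨a, ha, u, hu, w, hw, hm⟩ := h.decomp m.2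
        have h2 : m = ⟨a, hHM ha⟩ * ⟨u, hUM hu⟩ * ⟨w, hWM hw⟩ := Subtype.ext hm
        rw [h2, map_mul, map_mul]
        refine mul_mem (mul_mem ?_ (hU ((mem_img hUM).2 ⟨u, hu, rfl⟩))) (hW ((mem_img hWM).2 ⟨w, hw, rfl⟩))
        exact ab_normalizer hcomm le_rfl hNP ((mem_img hHM).2 ⟨a, ha, rfl⟩)
      rwa [normalizer_eq_top_iff] at h1
    exact (hmin N hnorm hNP).resolve_left hN1
  · haveI := h.P.U_nilpotent
    haveI h1 : Group.IsSolvable U := inferInstance
    haveI h2 : Group.IsSolvable (U.subgroupOf M) := Group.isSolvable_of_isSolvable_injective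
      (f := (Subgroup.subgroupOfEquivOfLe hUM).toMonoidHom) (MulEquiv.injective _)
    exact Group.isSolvable_of_surjective (f := π.subgroupMap (U.subgroupOf M)) (MonoidHom.subgroupMap_surjective _ _)

end Cfsg.Agent.HL.P9
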