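import Mathlib
import Cfsg.Agent.HL_P9g
import Cfsg.Agent.H12_D17
import Cfsg.Agent.H2_Ty4

/-! Uniqueness (up to conjugacy in `M`) of type P data; PF (9.3). -/

set_option autoImplicit false
open scoped commutatorElement Pointwise

namespace Cfsg.Agent.HL.P9

open Subgroup Cfsg Cfsg.Agent.H12 Cfsg.Agent.H22.Basic

universe u
variable {G : Type u} [Group G] [Finite G] {M W₁ U W₂ W₁' U' W₂' : Subgroup G}

theorem smul_eq_cj (g : G) (A : Subgroup G) : MulAut.conj g • A = cj g A := rfl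

theorem cj_commutator_self {m : G} (hm : m ∈ M) : cj m ⁅M, M⁆ = ⁅M, M⁆ := by
  rw [commutator_cj, cj_eq_of_mem hm]

theorem cj_fh {m : G} (hm : m ∈ M) : cj m (fittingHallOf M) = fittingHallOf M :=
  cj_eq_of_mem_normalizer (Core.le_normalizer_fittingHallOf M hm)

/-- conjugate complements to `M'` -/
theorem W_conj (sol : Group.IsSolvable M) (h1 : IsTypePWith M W₁ U W₂) (h2 : IsTypePWith M W₁' U' W₂') :
    ∃ m ∈ M, cj m W₁ = W₁' := by
  have e1 := Core.IsComplIn_card h1.W₁_compl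
  have e2 := Core.IsComplIn_card h2.W₁_compl
  exact Cfsg.Agent.H1.Hall.hall_conj_in sol h1.W₁_compl.2.1 h2.W₁_compl.2.1
    (Nat.eq_of_mul_eq_mul_left Nat.card_pos (e1.trans e2.symm)) h1.W₁_hall

theorem sup_W_card (sol : Group.IsSolvable M) (odd : Odd (Nat.card M)) (h1 : IsTypePWith M W₁ U W₂) :
    Nat.card ↥(U ⊔ W₁) = Nat.card U * Nat.card W₁ ∧ (Nat.card ↥(U ⊔ W₁)).Coprime (Nat.card (fittingHallOf M)) ∧
      U ⊔ W₁ ≤ M ∧ Nat.card (fittingHallOf M) * Nat.card ↥(U ⊔ W₁) = Nat.card M ∧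
      (U ⊔ W₁) ⊓ ⁅M, M⁆ = U := by
  have e1 := Core.IsComplIn_card h1.W₁_compl
  have e2 := Core.IsComplIn_card h1.U_compl
  have hUM' := h1.U_compl.2.1
  have hM'M : ⁅M, M⁆ ≤ M := TypeP.commutator_le_self h1
  have h3 := Cfsg.Agent.H1.Basic.relIndex_mul_card h1.W₁_compl.2.1
  have h5 : W₁.relIndex M = Nat.card ↥⁅M, M⁆ := Nat.eq_of_mul_eq_mul_right Nat.card_pos (h3.trans e1.symm)
  have hW : (Nat.card W₁).Coprime (Nat.card ↥⁅M, M⁆) := by
    have := h1.W₁_hall
    rwa [h5] at this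
  have hUW : U ⊓ W₁ = ⊥ := by
    rw [eq_bot_iff, ← h1.W₁_compl.2.2.1]
    exact inf_le_inf_right _ hUM'
  have hc : Nat.card ↥(U ⊔ W₁) = Nat.card U * Nat.card W₁ := card_sup_of_inf_eq_bot h1.U_normal hUW
  refine ⟨hc, ?_, sup_le (hUM'.trans hM'M) h1.W₁_compl.2.1, ?_, ?_⟩
  · rw [hc]
    exact Nat.Coprime.mul_left (TypeP.coprime_U h1)
      (Nat.Coprime.coprime_dvd_right (Subgroup.card_dvd_of_le h1.U_compl.1) hW)
  · rw [hc, ← mul_assoc, e2, e1]
  · apply le_antisymm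
    · rintro x ⟨hx, hx'⟩
      obtain ⟨u, hu, w, hw, rfl⟩ := (mem_sup_of_le_normalizer h1.U_normal).1 hx
      have h4 : w ∈ ⁅M, M⁆ ⊓ W₁ := by
        refine ⟨?_, hw⟩
        have := ⁅M, M⁆.mul_mem (⁅M, M⁆.inv_mem (hUM' hu)) hx'
        rwa [inv_mul_cancel_left] at this
      rw [h1.W₁_compl.2.2.1, mem_bot] at h4
      rw [h4, mul_one]; exact hu
    · exact le_inf le_sup_left hUM'

/-- type P data of `M` are conjugate in `M` -/
theorem data_conj (sol : Group.IsSolvable M) (odd : Odd (Nat.card M)) (h1 : IsTypePWith M W₁ U W₂)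
    (h2 : IsTypePWith M W₁' U' W₂') : ∃ m ∈ M, cj m W₁ = W₁' ∧ cj m U = U' ∧ cj m W₂ = W₂' := by
  obtain ⟨c1, c2, c3, c4, c5⟩ := sup_W_card sol odd h1
  obtain ⟨d1, d2, d3, d4, d5⟩ := sup_W_card sol odd h2
  have hcard : Nat.card ↥(U ⊔ W₁) = Nat.card ↥(U' ⊔ W₁') :=
    Nat.eq_of_mul_eq_mul_left Nat.card_pos (c4.trans d4.symm)
  have hrel : (U ⊔ W₁).relIndex M = Nat.card (fittingHallOf M) := by
    have h3 := Cfsg.Agent.H1.Basic.relIndex_mul_card c3
    rw [← c4] at h3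
    exact Nat.eq_of_mul_eq_mul_right Nat.card_pos h3
  obtain ⟨m, hm, h3⟩ := Cfsg.Agent.H1.Hall.hall_conj_in sol c3 d3 hcard (by rw [hrel]; exact c2)
  rw [smul_eq_cj] at h3
  -- cj m U = U'
  have hU : cj m U = U' := by
    rw [← c5, cj_inf, h3, cj_commutator_self hm, d5]
  -- cj m W₁ and W₁' are complements to U' in U' W₁'
  have hW1 : cj m W₁ ≤ U' ⊔ W₁' := by rw [← h3]; exact cj_mono le_sup_right
  have e1 := Core.IsComplIn_card h1.W₁_compl
  have e2 := Core.IsComplIn_card h2.W₁_compl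
  have hWW : Nat.card W₁ = Nat.card W₁' := Nat.eq_of_mul_eq_mul_left Nat.card_pos (e1.trans e2.symm)
  have hsolUW : Group.IsSolvable ↥(U' ⊔ W₁') := Group.isSolvable_of_isSolvable_injective
    (f := Subgroup.inclusion d3) (Subgroup.inclusion_injective _)
  have hWrel : W₁'.relIndex (U' ⊔ W₁') = Nat.card U' := by
    have h4 := Cfsg.Agent.H1.Basic.relIndex_mul_card (le_sup_right : W₁' ≤ U' ⊔ W₁')
    rw [d1] at h4
    exact Nat.eq_of_mul_eq_mul_right Nat.card_pos h4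
  have hcopW : (Nat.card W₁').Coprime (Nat.card U') := by
    have h3 := Cfsg.Agent.H1.Basic.relIndex_mul_card h2.W₁_compl.2.1
    have h5 : W₁'.relIndex M = Nat.card ↥⁅M, M⁆ := Nat.eq_of_mul_eq_mul_right Nat.card_pos (h3.trans e2.symm)
    have h6 := h2.W₁_hall
    rw [h5] at h6
    exact Nat.Coprime.coprime_dvd_right (Subgroup.card_dvd_of_le h2.U_compl.2.1) h6
  obtain ⟨l, hl, h4⟩ := Cfsg.Agent.H1.Hall.hall_conj_in hsolUW (le_sup_right : W₁' ≤ U' ⊔ W₁') hW1
    (by rw [card_cj, hWW]) (by rw [hWrel]; exact hcopW)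
  rw [smul_eq_cj] at h4
  -- l = u w
  obtain ⟨u, hu, w, hw, rfl⟩ := (mem_sup_of_le_normalizer h2.U_normal).1 hl
  have h5 : cj u W₁' = cj m W₁ := by
    rw [← h4, cj_mul, cj_eq_of_mem hw]
  refine ⟨u⁻¹ * m, M.mul_mem (M.inv_mem (d3 (mem_sup_left hu))) hm, ?_, ?_, ?_⟩
  · rw [cj_mul, ← h5, cj_inv_cj]
  · rw [cj_mul, hU]; exact cj_eq_of_mem (U'.inv_mem hu)
  · have hW : cj (u⁻¹ * m) W₁ = W₁' := by rw [cj_mul, ← h5, cj_inv_cj]
    set g := u⁻¹ * m with hg
    have hgM : g ∈ M := M.mul_mem (M.inv_mem (d3 (mem_sup_left hu))) hm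
    obtain ⟨a, ha, ha1⟩ := (Subgroup.bot_or_exists_ne_one W₁).resolve_left h1.W₁_ne
    have h6 := h1.W₂_centralizer a ha ha1
    have h7 := h2.W₂_centralizer (g * a * g⁻¹) (by rw [← hW]; exact conj_mem_cj ha) (by
      intro h0
      apply ha1
      have := congrArg (fun z => g⁻¹ * z * g) h0
      simpa [mul_assoc] using this)
    rw [← h6, ← h7, cj_inf, cj_commutator_self hgM]
    congr 1
    ext x
    rw [mem_cj, mem_centralizer_singleton_iff, mem_centralizer_singleton_iff]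
    constructor
    · intro h8
      calc x * (g * a * g⁻¹) = g * (g⁻¹ * x * g * a) * g⁻¹ := by group
        _ = g * (a * (g⁻¹ * x * g)) * g⁻¹ := by rw [h8]
        _ = g * a * g⁻¹ * x := by group
    · intro h8
      calc g⁻¹ * x * g * a = g⁻¹ * (x * (g * a * g⁻¹)) * g := by group
        _ = g⁻¹ * (g * a * g⁻¹ * x) * g := by rw [h8]
        _ = a * (g⁻¹ * x * g) := by group

theorem normalizer_le_conj {m : G} (hm : m ∈ M) {A : Subgroup G} :
    normalizer (cj m A : Set G) ≤ M ↔ normalizer (A : Set G) ≤ M := by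
  rw [normalizer_cj]
  constructor
  · intro h
    have := cj_mono (g := m⁻¹) h
    rwa [cj_inv_cj, cj_eq_of_mem (M.inv_mem hm)] at this
  · intro h
    have := cj_mono (g := m) h
    rwa [cj_eq_of_mem hm] at this

theorem comm_cj {m : G} {A : Subgroup G} : IsMulCommutative (cj m A) ↔ IsMulCommutative A := by
  constructor
  · intro h
    have e := cjEquiv m A
    exact ⟨⟨fun a b => e.injective (by rw [map_mul, map_mul]; exact h.is_comm.comm _ _)⟩⟩
  · intro h
    have e := (cjEquiv m A).symm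
    exact ⟨⟨fun a b => e.injective (by rw [map_mul, map_mul]; exact h.is_comm.comm _ _)⟩⟩

theorem cj_ne_bot {m : G} {A : Subgroup G} : cj m A ≠ ⊥ ↔ A ≠ ⊥ := by
  rw [not_iff_not]
  constructor
  · intro h
    have := congrArg (cj m⁻¹) h
    rw [cj_inv_cj] at this
    rw [this]; exact Subgroup.map_bot _
  · rintro rfl
    exact Subgroup.map_bot _

/-- type II: all type P data have the type II properties -/
theorem dataII (sol : Group.IsSolvable M) (odd : Odd (Nat.card M)) (hII : IsOfTypeII M) (h : IsTypePWith M W₁ U W₂) :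
    U ≠ ⊥ ∧ (Nat.card W₁).Prime ∧ IsTISubset (fittingOf M : Set G) ∧ IsMulCommutative U ∧
      ¬ normalizer (U : Set G) ≤ M ∧ IsOfTypeF ↥⁅M, M⁆ ∧ fittingHallOf ⁅M, M⁆ = fittingHallOf M := by
  obtain ⟨W, V, W', h1, h2, h3, h4, h5, h6, h7, h8⟩ := hII
  obtain ⟨m, hm, e1, e2, e3⟩ := data_conj sol odd h1 h
  refine ⟨?_, ?_, h4, ?_, ?_, h7, h8⟩
  · rw [← e2]; exact cj_ne_bot.2 h2
  · rw [← e1, card_cj]; exact h3
  · rw [← e2]; exact comm_cj.2 h5
  · rw [← e2, normalizer_le_conj hm]; exact h6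

theorem dataIII (sol : Group.IsSolvable M) (odd : Odd (Nat.card M)) (hII : IsOfTypeIII M) (h : IsTypePWith M W₁ U W₂) :
    U ≠ ⊥ ∧ (Nat.card W₁).Prime ∧ IsTISubset (fittingOf M : Set G) ∧ IsMulCommutative U ∧
      normalizer (U : Set G) ≤ M := by
  obtain ⟨W, V, W', h1, h2, h3, h4, h5, h6⟩ := hII
  obtain ⟨m, hm, e1, e2, e3⟩ := data_conj sol odd h1 h
  refine ⟨?_, ?_, h4, ?_, ?_⟩
  · rw [← e2]; exact cj_ne_bot.2 h2
  · rw [← e1, card_cj]; exact h3
  · rw [← e2]; exact comm_cj.2 h5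
  · rw [← e2, normalizer_le_conj hm]; exact h6

theorem dataIV (sol : Group.IsSolvable M) (odd : Odd (Nat.card M)) (hII : IsOfTypeIV M) (h : IsTypePWith M W₁ U W₂) :
    U ≠ ⊥ ∧ (Nat.card W₁).Prime ∧ IsTISubset (fittingOf M : Set G) ∧ ¬ IsMulCommutative U ∧
      normalizer (U : Set G) ≤ M := by
  obtain ⟨W, V, W', h1, h2, h3, h4, h5, h6⟩ := hII
  obtain ⟨m, hm, e1, e2, e3⟩ := data_conj sol odd h1 h
  refine ⟨?_, ?_, h4, ?_, ?_⟩
  · rw [← e2]; exact cj_ne_bot.2 h2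
  · rw [← e1, card_cj]; exact h3
  · rw [← e2, comm_cj]; exact h5
  · rw [← e2, normalizer_le_conj hm]; exact h6

theorem sol_of (hG : IsMinSimpleOddOrder G) (hM : IsCoatom M) : Group.IsSolvable M := H12.BG7.solvable_of_ne_top hG hM.1

theorem odd_of (hG : IsMinSimpleOddOrder G) (L : Subgroup G) : Odd (Nat.card L) :=
  Odd.of_dvd_nat hG.1 (Subgroup.card_subgroup_dvd_card L)

theorem centralizer_diff (U : Subgroup G) : centralizer ((U : Set G) \ {1}) = centralizer (U : Set G) := by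
  ext x
  rw [mem_centralizer_iff, mem_centralizer_iff]
  constructor
  · intro h y hy
    by_cases h1 : y = 1
    · rw [h1, one_mul, mul_one]
    · exact h y ⟨hy, h1⟩
  · intro h y hy
    exact h y hy.1

/-- PF (9.3) for type II, first part -/
theorem typeII_CU (hG : IsMinSimpleOddOrder G) (hM : IsCoatom M) (hII : IsOfTypeII M) (h : IsTypePWith M W₁ U W₂) :
    fittingHallOf M ⊓ centralizer (U : Set G) = ⊥ := by
  by_contra hne
  obtain ⟨d1, d2, d3, d4, d5, d6, d7⟩ := dataII (sol_of hG hM) (odd_of hG M) hII h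
  apply d5
  have h1 := (H12.D16.c1390 hG M hM U (Or.inr ⟨hII, h.U_compl⟩)).2.1 ((U : Set G) \ {1}) le_rfl (by
    obtain ⟨u, hu, hu1⟩ := (Subgroup.bot_or_exists_ne_one U).resolve_left d1
    exact ⟨u, hu, hu1⟩) (by rw [centralizer_diff]; exact hne)
  rw [centralizer_diff] at h1
  intro g hg
  have h2 : cj g M = M := by
    apply h1.2 _ (H12.BG9.isCoatom_cj hM g)
    have h3 : cj g (centralizer (U : Set G)) = centralizer (U : Set G) := by
      rw [← centralizer_cj, cj_eq_of_mem_normalizer hg]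
    rw [← h3]
    exact cj_mono h1.1
  rw [← H12.BG10.normalizer_eq_self_of_isCoatom hG hM (H12.BG10.ne_bot_of_isCoatom hG hM)]
  exact mem_normalizer_iff_cj.2 h2

/-- PF (9.3) for type II -/
theorem typeII_card (hG : IsMinSimpleOddOrder G) (hM : IsCoatom M) (hII : IsOfTypeII M) (h : IsTypePWith M W₁ U W₂) :
    Nat.card (fittingHallOf M) = Nat.card W₂ ^ Nat.card W₁ := by
  have sol := sol_of hG hM
  obtain ⟨d1, d2, d3, d4, d5, d6, d7⟩ := dataII sol (odd_of hG M) hII h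
  have h5 : N5 M W₁ U W₂ := ⟨h, d1, d2, sol, odd_of hG M⟩
  have hsup := sup_W_card sol (odd_of hG M) h
  have hUW : U ⊓ W₁ = ⊥ := H22.Basic.inf_eq_bot_of_coprime h5.cop_WU.symm
  have hcent : ∀ x ∈ W₁, x ≠ 1 → centralizer ({x} : Set G) = centralizer (W₁ : Set G) := by
    intro w hw hw1
    rw [← h5.zpow_eq hw hw1]
    ext x
    rw [mem_centralizer_singleton_iff, mem_centralizer_iff]
    constructor
    · intro h1 y hy
      obtain ⟨k, rfl⟩ := mem_zpowers_iff.1 hy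
      exact ((show Commute x w from h1).zpow_right k).symm.eq
    · intro h1
      exact (h1 w (mem_zpowers w)).symm
  have h1 := Cfsg.Agent.S1446.result U W₁ (fittingHallOf M) d1 h.W₁_ne hUW h.U_normal (by
      intro r hr hr1
      rw [eq_bot_iff]
      rintro x ⟨hx, hx'⟩
      have h6 : x ∈ ⁅M, M⁆ ⊓ centralizer ({r} : Set G) := ⟨h.U_compl.2.1 hx, hx'⟩
      rw [h.W₂_centralizer r hr hr1] at h6
      exact h5.inf_UH (h5.W₂H h6) hx)
    (Group.isSolvable_of_isSolvable_injective (f := Subgroup.inclusion hsup.2.2.1) (Subgroup.inclusion_injective _))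
    (odd_of hG _) (by
      intro h0
      apply h.H_not_cyclic
      rw [h0]; infer_instance) (Core.fittingHallOf_isNilpotent M) (h5.UM.trans h5.MH) (h5.WM.trans h5.MH)
    hsup.2.1 (typeII_CU hG hM hII h) (by
      intro x hx hx1
      rw [hcent x hx hx1])
  have h2 := h1.2.1
  rwa [h5.cent_W] at h2

end Cfsg.Agent.HL.P9
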