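import Mathlib
import Cfsg.Agent.H10_PrF4
import Cfsg.Agent.H1_PG8c
import Cfsg.Agent.HL_P9h

/-!
H10_PrF5: the elements of order not prime to `w₁`, from the partner `T` of type II.
-/

set_option autoImplicit false
set_option linter.all false

open scoped commutatorElement

namespace Cfsg.Agent.H10.PrF5

open Cfsg Subgroup Cfsg.Agent.H12.Ty Cfsg.Agent.H10.PrD4 Cfsg.Agent.H10.PrF4 Cfsg.Agent.H22.Basic
open Cfsg.Agent.H10.CycTI3 Cfsg.Agent.H10.CycTI2

section Union

variable {G : Type*} [Group G] [Fintype G]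

/-- elements conjugate into `S` -/
noncomputable def Cl (S : Finset G) : Finset G := (Set.toFinite {g : G | ∃ y : G, y * g * y⁻¹ ∈ S}).toFinset

theorem mem_Cl {S : Finset G} {g : G} : g ∈ Cl S ↔ ∃ y : G, y * g * y⁻¹ ∈ S := by
  rw [Cl, Set.Finite.mem_toFinset]; rfl

theorem union_bound (S : Finset G) (N : Subgroup G) (hN : ∀ n ∈ N, ∀ s ∈ S, n * s * n⁻¹ ∈ S) :
    (Cl S).card * Nat.card N ≤ Nat.card G * S.card := by
  classical
  let F : Finset (G × G) := Finset.univ ×ˢ S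
  let f : G × G → G := fun p => p.1⁻¹ * p.2 * p.1
  have hcard : F.card = Nat.card G * S.card := by
    rw [Finset.card_product, Finset.card_univ, ← Nat.card_eq_fintype_card]
  have hmaps : ∀ x ∈ F, f x ∈ Cl S := by
    rintro ⟨y, s⟩ hx
    rw [Finset.mem_product] at hx
    rw [mem_Cl]
    refine ⟨y, ?_⟩
    have : y * (y⁻¹ * s * y) * y⁻¹ = s := by group
    show y * (y⁻¹ * s * y) * y⁻¹ ∈ S
    rw [this]; exact hx.2
  have h1 := Finset.card_eq_sum_card_fiberwise (f := f) (s := F) (t := Cl S) hmaps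
  rw [← hcard, h1]
  have h2 : ∀ g ∈ Cl S, Nat.card N ≤ (F.filter (fun x => f x = g)).card := by
    intro g hg
    obtain ⟨y, hy⟩ := mem_Cl.1 hg
    haveI := Fintype.ofFinite N
    rw [Nat.card_eq_fintype_card, ← Finset.card_univ]
    apply Finset.card_le_card_of_injOn (fun n : N => ((n : G) * y, (n : G) * (y * g * y⁻¹) * (n : G)⁻¹))
    · intro n _
      rw [Finset.mem_coe, Finset.mem_filter, Finset.mem_product]
      refine ⟨⟨Finset.mem_univ _, hN n n.2 _ hy⟩, ?_⟩
      show ((n : G) * y)⁻¹ * ((n : G) * (y * g * y⁻¹) * (n : G)⁻¹) * ((n : G) * y) = g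
      group
    · intro n _ m _ he
      have := congrArg Prod.fst he
      exact Subtype.ext (mul_right_cancel this)
  have h3 := Finset.card_nsmul_le_sum _ _ _ h2
  rwa [smul_eq_mul] at h3

end Union

section Free

variable {G : Type*} [Group G] [Finite G]

/-- if `Q` meets `C(a)` trivially, the coset `Q a` consists of conjugates of `a` -/
theorem coset_conj {Q : Subgroup G} {a : G} (ha : ∀ q ∈ Q, a * q * a⁻¹ ∈ Q) (hfree : Q ⊓ centralizer ({a} : Set G) = ⊥) {q : G} (hq : q ∈ Q) :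
    ∃ x ∈ Q, q * a = x * a * x⁻¹ := by
  classical
  have hinj : Function.Injective (fun x : Q => (⟨(x : G) * (a * (x : G)⁻¹ * a⁻¹), Q.mul_mem x.2 (ha _ (Q.inv_mem x.2))⟩ : Q)) := by
    intro x y hxy
    have h1 : (x : G) * (a * (x : G)⁻¹ * a⁻¹) = (y : G) * (a * (y : G)⁻¹ * a⁻¹) := congrArg Subtype.val hxy
    have h2 : (y : G)⁻¹ * x ∈ Q ⊓ centralizer ({a} : Set G) := by
      refine ⟨Q.mul_mem (Q.inv_mem y.2) x.2, mem_centralizer_singleton_iff.2 ?_⟩
      have h3 : (y : G)⁻¹ * ((x : G) * (a * (x : G)⁻¹ * a⁻¹)) * a * x = (y : G)⁻¹ * ((y : G) * (a * (y : G)⁻¹ * a⁻¹)) * a * x := by rw [h1]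
      have e1 : (y : G)⁻¹ * ((x : G) * (a * (x : G)⁻¹ * a⁻¹)) * a * x = (y : G)⁻¹ * x * a := by group
      have e2 : (y : G)⁻¹ * ((y : G) * (a * (y : G)⁻¹ * a⁻¹)) * a * x = a * ((y : G)⁻¹ * x) := by group
      rw [e1, e2] at h3
      first
        | exact h3
        | exact h3.symm
    rw [hfree, mem_bot] at h2
    exact Subtype.ext (inv_mul_eq_one.1 h2).symm
  have hsurj := Finite.surjective_of_injective hinj
  obtain ⟨x, hx⟩ := hsurj ⟨q, hq⟩
  refine ⟨x, x.2, ?_⟩
  have h1 : (x : G) * (a * (x : G)⁻¹ * a⁻¹) = q := congrArg Subtype.val hx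
  rw [← h1]; group

end Free


section Mod

variable {G : Type*} [Group G] [Finite G]

/-- a group of prime order acting without fixed points -/
theorem modEq_one {W A : Subgroup G} (hW : (Nat.card W).Prime) (hn : W ≤ normalizer (A : Set G))
    (hfix : ∀ w ∈ W, w ≠ 1 → A ⊓ centralizer ({w} : Set G) = ⊥) : Nat.card A ≡ 1 [MOD Nat.card W] := by
  classical
  haveI := Fact.mk hW
  letI : MulAction W A :=
    { smul := fun w a => ⟨w * a * (w : G)⁻¹, (mem_normalizer_iff.1 (hn w.2) a).1 a.2⟩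
      one_smul := fun a => Subtype.ext (by show ((1 : W) : G) * a * ((1 : W) : G)⁻¹ = a; simp)
      mul_smul := fun x y a => Subtype.ext (by
        show ((x * y : W) : G) * a * ((x * y : W) : G)⁻¹ = x * (y * a * (y : G)⁻¹) * (x : G)⁻¹
        rw [Subgroup.coe_mul]; group) }
  have hpg : IsPGroup (Nat.card W) W := IsPGroup.of_card (n := 1) (by rw [pow_one])
  have h1 := hpg.card_modEq_card_fixedPoints A
  obtain ⟨w, hw⟩ : ∃ w : W, w ≠ 1 := by
    haveI : Nontrivial W := Finite.one_lt_card_iff_nontrivial.1 hW.one_lt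
    exact exists_ne 1
  have h2 : Nat.card (MulAction.fixedPoints W A) = 1 := by
    rw [Nat.card_eq_one_iff_unique]
    refine ⟨⟨?_⟩, ⟨⟨1, fun w => Subtype.ext (by show (w : G) * ((1 : A) : G) * (w : G)⁻¹ = 1; simp)⟩⟩⟩
    have key : ∀ a : A, a ∈ MulAction.fixedPoints W A → a = 1 := by
      intro a ha
      have h3 : (w : G) * a * (w : G)⁻¹ = a := congrArg Subtype.val (ha w)
      have h4 : (a : G) ∈ A ⊓ centralizer ({(w : G)} : Set G) := by
        refine ⟨a.2, ?_⟩
        show (a : G) ∈ centralizer ({(w : G)} : Set G)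
        rw [mem_centralizer_singleton_iff]
        rw [mul_inv_eq_iff_eq_mul] at h3
        exact h3.symm
      rw [hfix w w.2 (fun h => hw (Subtype.ext h)), mem_bot] at h4
      exact Subtype.ext h4
    rintro ⟨a, ha⟩ ⟨b, hb⟩
    exact Subtype.ext ((key a ha).trans (key b hb).symm)
  rwa [h2] at h1

/-- the action of the first factor on the complement `V` -/
theorem V_bound {T X₁ V X₂ : Subgroup G} (odd : Odd (Nat.card G)) (hP : IsTypePWith T X₁ V X₂) (hV : V ≠ ⊥) (hX : (Nat.card X₁).Prime) :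
    2 * Nat.card X₁ + 1 ≤ Nat.card V := by
  have h1 : Nat.card V ≡ 1 [MOD Nat.card X₁] := by
    refine modEq_one hX hP.U_normal ?_
    intro w hw hw1
    rw [eq_bot_iff, ← hP.U_compl.2.2.1]
    rintro x ⟨hx, hxc⟩
    refine ⟨?_, hx⟩
    have h2 : x ∈ ⁅T, T⁆ ⊓ centralizer ({w} : Set G) := ⟨hP.U_compl.2.1 hx, hxc⟩
    rw [hP.W₂_centralizer w hw hw1] at h2
    exact (hP.W₂_le h2).1
  have h2 : Nat.card V ≠ 1 := fun h => hV (Subgroup.card_eq_one.1 h)
  have h3 : Odd (Nat.card V) := Odd.of_dvd_nat odd (Subgroup.card_subgroup_dvd_card V)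
  have h4 : Odd (Nat.card X₁) := Odd.of_dvd_nat odd (Subgroup.card_subgroup_dvd_card X₁)
  have h5 : 0 < Nat.card V := Nat.card_pos
  have h6 := (Nat.modEq_iff_dvd' (by omega : 1 ≤ Nat.card V)).1 h1.symm
  obtain ⟨k, hk⟩ := h6
  have h7 : k ≠ 0 := by rintro rfl; omega
  have h8 : k ≠ 1 := by
    rintro rfl
    rw [Nat.odd_iff] at h3 h4
    omega
  have h9 : 2 ≤ k := by omega
  have h10 : Nat.card X₁ * 2 ≤ Nat.card X₁ * k := Nat.mul_le_mul_left _ h9
  omega

end Mod

section TSide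

universe u
variable {G : Type u} [Group G] [Fintype G] {T X₁ V X₂ : Subgroup G}

/-- the elements of `T'` of order not prime to `r` -/
noncomputable def Bs (T : Subgroup G) (r : ℕ) : Finset G := (Set.toFinite {x : G | x ∈ ⁅T, T⁆ ∧ ¬ (orderOf x).Coprime r}).toFinset

theorem mem_Bs {T : Subgroup G} {r : ℕ} {x : G} : x ∈ Bs T r ↔ x ∈ ⁅T, T⁆ ∧ ¬ (orderOf x).Coprime r := by
  rw [Bs, Set.Finite.mem_toFinset]; rfl

noncomputable def Vs (X₁ X₂ : Subgroup G) : Finset G := (Set.toFinite {x : G | x ∈ X₁ ⊔ X₂ ∧ x ∉ X₁ ∧ x ∉ X₂}).toFinset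

theorem mem_Vs {X₁ X₂ : Subgroup G} {x : G} : x ∈ Vs X₁ X₂ ↔ x ∈ X₁ ⊔ X₂ ∧ x ∉ X₁ ∧ x ∉ X₂ := by
  rw [Vs, Set.Finite.mem_toFinset]; rfl

noncomputable def NF (T V : Subgroup G) : Finset G :=
  (Set.toFinite {a : G | a ∈ V ∧ fittingHallOf T ⊓ centralizer ({a} : Set G) ≠ ⊥}).toFinset

theorem mem_NF {T V : Subgroup G} {a : G} : a ∈ NF T V ↔ a ∈ V ∧ fittingHallOf T ⊓ centralizer ({a} : Set G) ≠ ⊥ := by
  rw [NF, Set.Finite.mem_toFinset]; rfl

/-- an element of prime order `r` is conjugate into a Hall subgroup of order divisible by `r` -/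
theorem conj_hall {H : Subgroup G} (hH : (Nat.card H).Coprime H.index) {r : ℕ} (hr : r.Prime) (hd : r ∣ Nat.card H) {y : G}
    (hy : orderOf y = r) : ∃ z : G, z⁻¹ * y * z ∈ H := by
  haveI := Fact.mk hr
  have h1 : IsPGroup r (zpowers y) := IsPGroup.of_card (n := 1) (by rw [Nat.card_zpowers, hy, pow_one])
  have h2 : ¬ r ∣ Nat.card (G ⧸ H) := by
    intro h
    have := Nat.dvd_gcd hd h
    rw [show Nat.card (G ⧸ H) = H.index from rfl, Nat.Coprime.gcd_eq_one hH] at this
    exact hr.one_lt.ne' (Nat.dvd_one.1 this)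
  obtain ⟨q, hq⟩ := h1.nonempty_fixed_point_of_prime_not_dvd_card (G ⧸ H) h2
  obtain ⟨z, rfl⟩ := QuotientGroup.mk_surjective q
  refine ⟨z, ?_⟩
  have h3 := hq ⟨y, mem_zpowers y⟩
  have h4 : ((y * z : G) : G ⧸ H) = (z : G ⧸ H) := h3
  rw [eq_comm, QuotientGroup.eq] at h4
  have e : z⁻¹ * y * z = z⁻¹ * (y * z) := by group
  rw [e]; exact h4

theorem noncop_conj (hG : IsMinSimpleOddOrder G) (hT : IsCoatom T) (hII : IsOfTypeII T) (hP : IsTypePWith T X₁ V X₂)
    {g : G} (hg : ¬ (orderOf g).Coprime (Nat.card X₂)) : g ∈ Cl (Vs X₁ X₂) ∨ g ∈ Cl (Bs T (Nat.card X₂)) := by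
  obtain ⟨d1, d2, d3, d4, d5, d6, d7⟩ := HL.P9.dataII (HL.P9.sol_of hG hT) (HL.P9.odd_of hG T) hII hP
  obtain ⟨r, hr, hr1, hr2⟩ := Nat.Prime.not_coprime_iff_dvd.1 hg
  have hcard := HL.P9.typeII_card hG hT hII hP
  have hrF : r ∣ Nat.card (fittingHallOf T) := hcard ▸ (hr2.trans (dvd_pow_self _ Nat.card_pos.ne'))
  have hcop : (Nat.card (fittingHallOf T)).Coprime (fittingHallOf T).index := (H12.D16.C1389 hG T hT).2.1
  have hy : orderOf (g ^ (orderOf g / r)) = r := orderOf_pow_orderOf_div (orderOf_pos g).ne' hr1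
  obtain ⟨z, hz⟩ := conj_hall hcop hr hrF hy
  set g' := z⁻¹ * g * z with hg'
  have hpow : z⁻¹ * g ^ (orderOf g / r) * z = g' ^ (orderOf g / r) := by
    rw [hg']
    have := (conj_pow (a := z⁻¹) (b := g) (i := orderOf g / r))
    rw [inv_inv] at this
    exact this.symm
  rw [hpow] at hz
  have hord : orderOf g' = orderOf g := by
    rw [hg']
    have := (MulAut.conj z⁻¹).orderOf_eq g
    rw [MulAut.conj_apply, inv_inv] at this
    exact this
  have hgT : g' ∈ T := by
    have hle : fittingHallOf T ≤ fittingOf T := by rw [← hP.fitting_eq]; exact le_sup_left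
    have h1 := (H1.PG8.R_bot_of_ti hG hT d3 (hle hz) (by
      intro h1
      have h2 : orderOf (g' ^ (orderOf g / r)) = r := by
        rw [← hord] at hr1 ⊢
        exact orderOf_pow_orderOf_div (orderOf_pos g').ne' hr1
      rw [h1, orderOf_one] at h2
      exact hr.one_lt.ne h2)).1
    apply h1
    rw [mem_centralizer_singleton_iff]
    exact (Commute.self_pow g' _).eq
  have hcl : ∀ S : Finset G, g' ∈ Cl S → g ∈ Cl S := by
    intro S hS
    obtain ⟨y, hy⟩ := mem_Cl.1 hS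
    refine mem_Cl.2 ⟨y * z⁻¹, ?_⟩
    have e : y * z⁻¹ * g * (y * z⁻¹)⁻¹ = y * g' * y⁻¹ := by rw [hg']; group
    rw [e]; exact hy
  by_cases hgT' : g' ∈ ⁅T, T⁆
  · right
    apply hcl
    refine mem_Cl.2 ⟨1, ?_⟩
    rw [one_mul, inv_one, mul_one, mem_Bs, hord]
    exact ⟨hgT', hg⟩
  · left
    apply hcl
    have hpt := H1.PG8.pt_P hG hP
    obtain ⟨y, w, hw, hw2, e⟩ := conj_W hpt (x := ⟨g', hgT⟩) (fun h => hgT' h)
    have e' : (y : G) * g' * (y : G)⁻¹ = w := congrArg Subtype.val e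
    refine mem_Cl.2 ⟨y, ?_⟩
    rw [e', mem_Vs]
    refine ⟨hw, ?_, hw2⟩
    intro hw1
    have h1 : orderOf (w : G) = orderOf g := by
      rw [← e', ← hord]
      exact (MulAut.conj (y : G)).orderOf_eq g'
    have h2 : orderOf (w : G) ∣ Nat.card X₁ := by
      rw [← Subgroup.orderOf_mk (w : G) hw1]
      exact orderOf_dvd_natCard _
    have h3 : r ∣ Nat.card X₁ := (h1 ▸ hr1).trans h2
    have h4 := Nat.dvd_gcd h3 hr2
    rw [Nat.Coprime.gcd_eq_one (coprime_card hpt.self)] at h4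
    exact hr.one_lt.ne' (Nat.dvd_one.1 h4)

theorem card_le_three (hG : IsMinSimpleOddOrder G) (hT : IsCoatom T) (hII : IsOfTypeII T) (hP : IsTypePWith T X₁ V X₂) :
    Nat.card G ≤ (Cop (G := G) (Nat.card X₂)).card + ((Cl (Vs X₁ X₂)).card + (Cl (Bs T (Nat.card X₂))).card) := by
  classical
  have h1 : (Finset.univ : Finset G) ⊆ Cop (G := G) (Nat.card X₂) ∪ (Cl (Vs X₁ X₂) ∪ Cl (Bs T (Nat.card X₂))) := by
    intro g _
    by_cases hg : (orderOf g).Coprime (Nat.card X₂)
    · exact Finset.mem_union_left _ (mem_Cop.2 hg)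
    · exact Finset.mem_union_right _ (Finset.mem_union.2 (noncop_conj hG hT hII hP hg))
  have h2 := Finset.card_le_card h1
  rw [Finset.card_univ, ← Nat.card_eq_fintype_card] at h2
  exact h2.trans ((Finset.card_union_le _ _).trans (Nat.add_le_add_left (Finset.card_union_le _ _) _))

theorem card_Vs (hT : PrD2.PT T (⁅T, T⁆.subgroupOf T) X₁ X₂) : (Vs X₁ X₂).card ≤ (Nat.card X₁ - 1) * (Nat.card X₂ - 1) := by
  classical
  let S₁ : Finset G := (Set.toFinite ((X₁ : Set G) \ {1})).toFinset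
  let S₂ : Finset G := (Set.toFinite ((X₂ : Set G) \ {1})).toFinset
  have hS : ∀ X : Subgroup G, ((Set.toFinite ((X : Set G) \ {1})).toFinset : Finset G).card = Nat.card X - 1 := by
    intro X
    rw [← Set.ncard_eq_toFinset_card, Set.ncard_diff_singleton_of_mem X.one_mem]
    rfl
  have h1 : Vs X₁ X₂ ⊆ (S₁ ×ˢ S₂).image (fun p => p.1 * p.2) := by
    intro x hx
    obtain ⟨h1, h2, h3⟩ := mem_Vs.1 hx
    have hc : X₁ ≤ normalizer (X₂ : Set G) := by
      intro a ha
      apply Subgroup.centralizer_le_normalizer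
      rw [mem_centralizer_iff]
      exact fun b hb => (hcomm hT.self a ha b hb).symm
    rw [sup_comm] at h1
    obtain ⟨b, hb, a, ha, e⟩ := (H22.Basic.mem_sup_of_le_normalizer hc).1 h1
    have hab : a * b = x := by rw [← e]; exact hcomm hT.self a ha b hb
    refine Finset.mem_image.2 ⟨(a, b), Finset.mem_product.2 ⟨?_, ?_⟩, hab⟩
    · refine (Set.Finite.mem_toFinset _).2 ⟨ha, fun h => h3 ?_⟩
      rw [Set.mem_singleton_iff] at h
      have : a = 1 := h
      rw [← hab, this, one_mul]; exact hb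
    · refine (Set.Finite.mem_toFinset _).2 ⟨hb, fun h => h2 ?_⟩
      have : b = 1 := h
      rw [← hab, this, mul_one]; exact ha
  refine (Finset.card_le_card h1).trans (Finset.card_image_le.trans ?_)
  rw [Finset.card_product, hS, hS]

theorem card_Bs (hG : IsMinSimpleOddOrder G) (hT : IsCoatom T) (hII : IsOfTypeII T) (hP : IsTypePWith T X₁ V X₂) :
    (Bs T (Nat.card X₂)).card ≤ Nat.card (fittingHallOf T) * (NF T V).card := by
  classical
  let S : Finset G := (Set.toFinite (fittingHallOf T : Set G)).toFinset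
  have hS : S.card = Nat.card (fittingHallOf T) := by
    show (Set.toFinite (fittingHallOf T : Set G)).toFinset.card = _
    rw [← Set.ncard_eq_toFinset_card]; rfl
  have hcard := HL.P9.typeII_card hG hT hII hP
  have hVQ : (Nat.card V).Coprime (Nat.card X₂) := by
    have h1 := H12.TypeP.coprime_U hP
    rw [hcard] at h1
    exact Nat.Coprime.coprime_dvd_right (dvd_pow_self _ Nat.card_pos.ne') h1
  have h1 : Bs T (Nat.card X₂) ⊆ (S ×ˢ NF T V).image (fun p => p.1 * p.2) := by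
    intro x hx
    obtain ⟨hx1, hx2⟩ := mem_Bs.1 hx
    obtain ⟨q, hq, a, ha, e⟩ := hP.U_compl.2.2.2 x hx1
    refine Finset.mem_image.2 ⟨(q, a), Finset.mem_product.2 ⟨(Set.Finite.mem_toFinset _).2 hq, ?_⟩, e.symm⟩
    rw [mem_NF]
    refine ⟨ha, fun hfree => hx2 ?_⟩
    have haT : a ∈ T := H12.TypeP.U_le_M hP ha
    obtain ⟨y, hy, hy2⟩ := coset_conj (Q := fittingHallOf T) (a := a) (fun b hb =>
      (mem_normalizer_iff.1 (H12.Core.le_normalizer_fittingHallOf T haT) b).1 hb) hfree hq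
    have h2 : orderOf x = orderOf a := by
      rw [e, hy2]
      exact (MulAut.conj y).orderOf_eq a
    rw [h2]
    refine Nat.Coprime.coprime_dvd_left ?_ hVQ
    rw [← Subgroup.orderOf_mk a ha]
    exact orderOf_dvd_natCard _
  refine (Finset.card_le_card h1).trans (Finset.card_image_le.trans ?_)
  rw [Finset.card_product, hS]

theorem card_NF (hG : IsMinSimpleOddOrder G) (hT : IsCoatom T) (hII : IsOfTypeII T) (hP : IsTypePWith T X₁ V X₂) :
    2 * (NF T V).card ≤ Nat.card V + 1 := by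
  classical
  obtain ⟨d1, d2, d3, d4, d5, d6, d7⟩ := HL.P9.dataII (HL.P9.sol_of hG hT) (HL.P9.odd_of hG T) hII hP
  obtain ⟨n, hn, hnT⟩ := Set.not_subset.1 d5
  let S : Finset G := (Set.toFinite (V : Set G)).toFinset
  have hS : S.card = Nat.card V := by
    show (Set.toFinite (V : Set G)).toFinset.card = _
    rw [← Set.ncard_eq_toFinset_card]; rfl
  have hmS : ∀ x, x ∈ S ↔ x ∈ V := fun x => Set.Finite.mem_toFinset _
  have hsub : NF T V ⊆ S := fun x hx => (hmS x).2 (mem_NF.1 hx).1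
  have h90 := (H12.D16.c1390 hG T hT V (Or.inr ⟨hII, hP.U_compl⟩)).2.1
  have hun : ∀ a ∈ NF T V, a ≠ 1 → centralizer ({a} : Set G) ≤ T ∧ ∀ L : Subgroup G, IsCoatom L → centralizer ({a} : Set G) ≤ L → L = T := by
    intro a ha ha1
    obtain ⟨h1, h2⟩ := mem_NF.1 ha
    exact h90 {a} (by rw [Set.singleton_subset_iff]; exact ⟨h1, ha1⟩) (Set.singleton_nonempty a) h2
  have h1 : ((NF T V).erase 1).image (fun a => n * a * n⁻¹) ⊆ S \ NF T V := by
    intro x hx
    obtain ⟨a, ha, rfl⟩ := Finset.mem_image.1 hx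
    obtain ⟨ha1, ha2⟩ := Finset.mem_erase.1 ha
    have haV := (mem_NF.1 ha2).1
    refine Finset.mem_sdiff.2 ⟨(hmS _).2 ((mem_normalizer_iff.1 hn a).1 haV), fun hc => hnT ?_⟩
    have h2 := hun a ha2 ha1
    have h3 := hun _ hc (fun h => ha1 (conj_eq_one_iff.1 h))
    have h4 : cj n⁻¹ T = T := by
      apply h2.2 _ (H12.BG9.isCoatom_cj hT n⁻¹)
      intro c hc
      rw [mem_cj, inv_inv]
      apply h3.1
      rw [mem_centralizer_singleton_iff] at hc ⊢
      calc n * c * n⁻¹ * (n * a * n⁻¹) = n * (c * a) * n⁻¹ := by group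
        _ = n * (a * c) * n⁻¹ := by rw [hc]
        _ = n * a * n⁻¹ * (n * c * n⁻¹) := by group
    have h5 : n⁻¹ ∈ normalizer (T : Set G) := mem_normalizer_iff_cj.2 h4
    rw [H12.BG10.normalizer_eq_self_of_isCoatom hG hT (H12.BG10.ne_bot_of_isCoatom hG hT)] at h5
    exact (inv_mem_iff).1 h5
  have h2 : (((NF T V).erase 1).image (fun a => n * a * n⁻¹)).card = ((NF T V).erase 1).card :=
    Finset.card_image_of_injective _ (fun a b h => by
      have := congrArg (fun z => n⁻¹ * z * n) h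
      simpa [mul_assoc] using this)
  have h3 := Finset.card_le_card h1
  rw [h2, Finset.card_sdiff_of_subset hsub, hS] at h3
  have h4 : (NF T V).card ≤ S.card := Finset.card_le_card hsub
  rw [hS] at h4
  have h5 := Finset.pred_card_le_card_erase (s := NF T V) (a := 1)
  omega

/-- the bound of the number of elements of order not prime to `|X₂|` -/
theorem tside (hG : IsMinSimpleOddOrder G) (hT : IsCoatom T) (hII : IsOfTypeII T) (hP : IsTypePWith T X₁ V X₂) :
    (Nat.card X₁).Prime ∧ 2 * Nat.card X₁ + 1 ≤ Nat.card V ∧ (Nat.card X₁).Coprime (Nat.card X₂) ∧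
    (Nat.card G : ℝ) ≤ (Cop (G := G) (Nat.card X₂)).card + Nat.card G * ((Nat.card X₁ - 1) * (Nat.card X₂ - 1) / (Nat.card X₁ * Nat.card X₂) +
      (Nat.card V + 1) / (2 * Nat.card V * Nat.card X₁)) := by
  classical
  obtain ⟨d1, d2, d3, d4, d5, d6, d7⟩ := HL.P9.dataII (HL.P9.sol_of hG hT) (HL.P9.odd_of hG T) hII hP
  have hpt := H1.PG8.pt_P hG hP
  refine ⟨d2, V_bound hG.1 hP d1 d2, coprime_card hpt.self, ?_⟩
  have h1 := card_le_three hG hT hII hP
  have hc := Nat.card_pos (α := G)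
  -- the first set
  have h2 := union_bound (Vs X₁ X₂) (X₁ ⊔ X₂) (by
    intro n hn s hs
    obtain ⟨a1, a2, a3⟩ := mem_Vs.1 hs
    haveI : IsCyclic ↥(X₁ ⊔ X₂) := hpt.self.2.2.2.2.1
    have hcm : n * s * n⁻¹ = s := by
      have h3 : n * s = s * n := congrArg Subtype.val (hab hpt.self ⟨n, hn⟩ ⟨s, a1⟩)
      rw [h3]; group
    rw [hcm]; exact hs)
  have h3 := card_Vs hpt
  have hcX : Nat.card ↥(X₁ ⊔ X₂) = Nat.card X₁ * Nat.card X₂ := by
    have hc : X₂ ≤ normalizer (X₁ : Set G) := by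
      intro b hb
      apply Subgroup.centralizer_le_normalizer
      rw [mem_centralizer_iff]
      exact fun a ha => (hcomm hpt.self a ha b hb)
    exact H22.Basic.card_sup_of_coprime hc (coprime_card hpt.self)
  rw [hcX] at h2
  -- the second set
  have h4 := union_bound (Bs T (Nat.card X₂)) T (by
    intro n hn s hs
    obtain ⟨a1, a2⟩ := mem_Bs.1 hs
    refine mem_Bs.2 ⟨?_, ?_⟩
    · exact (mem_normalizer_iff.1 (H22.Basic.right_le_normalizer_commutator T T hn) s).1 a1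
    · have : orderOf (n * s * n⁻¹) = orderOf s := (MulAut.conj n).orderOf_eq s
      rw [this]; exact a2)
  have h5 := card_Bs hG hT hII hP
  have h6 := card_NF hG hT hII hP
  have h7 := H12.Core.IsComplIn_card hP.W₁_compl
  have h8 := H12.Core.IsComplIn_card hP.U_compl
  rw [← h7, ← h8] at h4
  have hp : (0 : ℝ) < Nat.card X₁ := by exact_mod_cast Nat.card_pos
  have hr : (0 : ℝ) < Nat.card X₂ := by exact_mod_cast Nat.card_pos
  have hv : (0 : ℝ) < Nat.card V := by exact_mod_cast Nat.card_pos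
  have hQ : (0 : ℝ) < Nat.card (fittingHallOf T) := by exact_mod_cast Nat.card_pos
  have hg : (0 : ℝ) < Nat.card G := by exact_mod_cast Nat.card_pos
  have hp1 : 1 ≤ Nat.card X₁ := Nat.card_pos
  have hr1 : 1 ≤ Nat.card X₂ := Nat.card_pos
  have e1 : ((Cl (Vs X₁ X₂)).card : ℝ) ≤ Nat.card G * ((Nat.card X₁ - 1) * (Nat.card X₂ - 1) / (Nat.card X₁ * Nat.card X₂)) := by
    have a1 : ((Cl (Vs X₁ X₂)).card : ℝ) * (Nat.card X₁ * Nat.card X₂) ≤ Nat.card G * (Vs X₁ X₂).card := by exact_mod_cast h2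
    have a2 : ((Vs X₁ X₂).card : ℝ) ≤ (Nat.card X₁ - 1) * (Nat.card X₂ - 1) := by
      have := (Nat.cast_le (α := ℝ)).2 h3
      rwa [Nat.cast_mul, Nat.cast_sub hp1, Nat.cast_sub hr1, Nat.cast_one] at this
    rw [← mul_div_assoc, le_div_iff₀ (by positivity)]
    exact a1.trans (mul_le_mul_of_nonneg_left a2 hg.le)
  have e2 : ((Cl (Bs T (Nat.card X₂))).card : ℝ) ≤ Nat.card G * ((Nat.card V + 1) / (2 * Nat.card V * Nat.card X₁)) := by
    have a1 : ((Cl (Bs T (Nat.card X₂))).card : ℝ) * (Nat.card (fittingHallOf T) * Nat.card V * Nat.card X₁) ≤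
        Nat.card G * (Bs T (Nat.card X₂)).card := by exact_mod_cast h4
    have a2 : ((Bs T (Nat.card X₂)).card : ℝ) ≤ Nat.card (fittingHallOf T) * (NF T V).card := by exact_mod_cast h5
    have a3 : (2 : ℝ) * (NF T V).card ≤ Nat.card V + 1 := by exact_mod_cast h6
    rw [← mul_div_assoc, le_div_iff₀ (by positivity)]
    have a4 : ((Cl (Bs T (Nat.card X₂))).card : ℝ) * (Nat.card (fittingHallOf T) * Nat.card V * Nat.card X₁) ≤
        Nat.card G * (Nat.card (fittingHallOf T) * (NF T V).card) := a1.trans (mul_le_mul_of_nonneg_left a2 hg.le)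
    have a5 : (Nat.card (fittingHallOf T) : ℝ) * (((Cl (Bs T (Nat.card X₂))).card : ℝ) * (2 * Nat.card V * Nat.card X₁)) ≤
        Nat.card (fittingHallOf T) * (Nat.card G * (Nat.card V + 1)) := by
      have a6 : (Nat.card G : ℝ) * Nat.card (fittingHallOf T) * (2 * (NF T V).card) ≤ Nat.card G * Nat.card (fittingHallOf T) * (Nat.card V + 1) :=
        mul_le_mul_of_nonneg_left a3 (by positivity)
      nlinarith
    exact le_of_mul_le_mul_left a5 hQ
  have e3 : (Nat.card G : ℝ) ≤ (Cop (G := G) (Nat.card X₂)).card + ((Cl (Vs X₁ X₂)).card + (Cl (Bs T (Nat.card X₂))).card) := by exact_mod_cast h1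
  rw [mul_add]
  linarith

end TSide

end Cfsg.Agent.H10.PrF5
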