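import Mathlib
import Cfsg.Agent.H10_PrF4

/-!
H10_PrF6: (10.1) existence of `ζ`, the condition `hT` from a coherent extension, and the counting inequality.
-/

set_option autoImplicit false
set_option linter.all false

open scoped commutatorElement

namespace Cfsg.Agent.H10.PrF6

open Cfsg Cfsg.Agent.H3.CharIrr Cfsg.Agent.H3.CharComplete Cfsg.Agent.H3.CharInd Cfsg.Agent.H3.CharMult
  Cfsg.Agent.H3.CharBasic Cfsg.Agent.H3.CharCalc Cfsg.Agent.H3.Clifford Cfsg.Agent.H3.CharInt Cfsg.Agent.H3.CharQuot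
  Cfsg.Agent.H10.CycTI Cfsg.Agent.H10.CycTI2 Cfsg.Agent.H10.CycTI3 Cfsg.Agent.H10.CycTI4 Cfsg.Agent.H10.PrD2
  Cfsg.Agent.H10.PrD3 Cfsg.Agent.H10.PrD4 Cfsg.Agent.H10.PrD5 Cfsg.Agent.H10.Dade Cfsg.Agent.H10.PM Cfsg.Agent.H10.Coh
  Cfsg.Agent.H10.Coh2 Cfsg.Agent.H10.Coh3 Cfsg.Agent.H10.Coh4 Cfsg.Agent.H10.IndSet2 Cfsg.Agent.H10.OOClif Cfsg.Agent.H10.PrD6
  Cfsg.Agent.H10.PrD7 Cfsg.Agent.H10.PrD8 Cfsg.Agent.H10.PrF1 Cfsg.Agent.H10.PrF2 Cfsg.Agent.H10.PrF3 Cfsg.Agent.H10.PrF4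
  Cfsg.Agent.H10.PrE5
open scoped ComplexConjugate

section Basic

variable {L : Type*} [Group L] [Fintype L] (K : Subgroup L)

/-- an irreducible character constant on `K` is principal -/
theorem const_one {K : Type*} [Group K] [Finite K] {θ : K → ℂ} (hθ : IsIrrCharacter K θ) (h : ∀ k : K, θ k = θ 1) : θ = fun _ => 1 := by
  haveI := Fintype.ofFinite K
  by_contra hne
  have h1 := ci_irr_ne hθ isIrr_one hne
  have h2 : θ = θ 1 • (fun _ => (1 : ℂ)) := by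
    funext k; rw [Pi.smul_apply, smul_eq_mul, mul_one, h k]
  have h3 : classInner θ (fun _ => 1 : K → ℂ) = θ 1 := by
    conv_lhs => rw [h2]
    rw [ci_smul_left, ci_irr_self isIrr_one, mul_one]
  rw [h1] at h3
  exact IsIrr.one_ne_zero hθ h3.symm

theorem eqD : inducedIrrAbove K ⊥ = indD K K ⊥ := by
  ext χ
  constructor
  · rintro ⟨θ, hθ, h1, h2, e⟩
    refine ⟨θ, hθ, ?_, h2, e⟩
    by_contra hc
    push Not at hc
    exact h1 (const_one hθ fun k => hc k k.2)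
  · rintro ⟨θ, hθ, ⟨k, -, hk⟩, h2, e⟩
    refine ⟨θ, hθ, ?_, h2, e⟩
    rintro rfl
    exact hk rfl

end Basic

variable {G : Type*} [Group G] [Fintype G] {L : Subgroup G} [Fintype L] {K : Subgroup L} {W₁ W₂ : Subgroup G} {A : Set G}
  {R : G → Subgroup G} (h : PD L K K W₁ W₂ A R)
  {μ : (↥(W₁ ⊔ W₂) →* ℂˣ) → (L → ℂ)} {δ : (↥(W₁ ⊔ W₂) →* ℂˣ) → ℂ} (hμ : MU K W₁ W₂ μ δ)
include h hμ

/-- (10.1) -/
theorem exists_zeta (hW2 : W₂.subgroupOf L ≤ ⁅K, K⁆) (hsol : Group.IsSolvable K) (hK : K ≠ ⊥) :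
    ∃ ζ : L → ℂ, IsIrrCharacter L ζ ∧ ζ ∈ indD K K ⊥ ∧ ζ 1 = Nat.card W₁ := by
  haveI := Fintype.ofFinite K
  obtain ⟨n, hn, hev⟩ := exists_n h hμ hW2
  have hbt : (⊥ : Subgroup K) ≠ ⊤ := by
    intro hc
    apply hK
    rw [Subgroup.eq_bot_iff_forall]
    intro x hx
    have : (⟨x, hx⟩ : K) ∈ (⊥ : Subgroup K) := by rw [hc]; trivial
    exact congrArg Subtype.val (Subgroup.mem_bot.1 this)
  obtain ⟨f, hf, -⟩ := Cfsg.Agent.H10.IndSet.exists_linear hsol hbt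
  set θ : K → ℂ := fun k => (f k : ℂ) with hθd
  have hθ : IsIrrCharacter K θ := isIrr_of_hom_units f
  have hθ1 : θ 1 = 1 := by rw [hθd]; simp
  have hne : ∃ k : K, θ k ≠ θ 1 := by
    by_contra hc
    push Not at hc
    apply hf
    ext k
    have h1 := hc k
    rw [hθ1] at h1
    exact h1
  refine ⟨indFun K θ, hμ.classify θ hθ ?_, ⟨θ, hθ, ?_, ?_, rfl⟩, ?_⟩
  · intro ω hω he
    by_cases hω1 : ω = 1
    · obtain ⟨k, hk⟩ := hne
      apply hk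
      rw [← he, hω1]
      show μ 1 k = μ 1 (1 : K)
      rw [(hμ.lin 1 (X1_one)).2.1 k k.2, (hμ.lin 1 (X1_one)).2.1 (1 : K) (1 : K).2]
    · have h1 : μ ω 1 = 1 := by
        have := congrFun he 1
        rw [hθ1] at this
        exact this
      have h2 := hn ω
      obtain ⟨-, h3⟩ := hev ω hω hω1
      rw [h1] at h2
      have hw := Nat.card_pos (α := W₁)
      rcases hμ.sign ω with e | e
      · rw [e] at h2
        have h4 : (n ω : ℂ) * Nat.card W₁ = 0 := by linear_combination -h2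
        have h5 : n ω * (Nat.card W₁ : ℤ) = 0 := by exact_mod_cast h4
        rcases mul_eq_zero.1 h5 with h6 | h6
        · omega
        · omega
      · rw [e] at h2
        have h4 : (n ω : ℂ) * Nat.card W₁ = 2 := by linear_combination -h2
        have h5 : n ω * (Nat.card W₁ : ℤ) = 2 := by exact_mod_cast h4
        have hw3 : 3 ≤ Nat.card W₁ := three_W1 h.toPT
        nlinarith
  · obtain ⟨k, hk⟩ := hne
    exact ⟨k, k.2, hk⟩
  · intro k hk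
    have : k = 1 := Subtype.ext (Subgroup.mem_bot.1 hk)
    rw [this]
  · rw [ind_one, index_K h.toPT]
    show _ * θ 1 = _
    rw [hθ1, mul_one]

variable {ζ : L → ℂ} (hζ : IsIrrCharacter L ζ) (hζD : ζ ∈ indD K K ⊥) (hζ1 : ζ 1 = Nat.card W₁)
  {η : (↥(W₁ ⊔ W₂) →* ℂˣ) → (G → ℂ)} (hη : IsCyclicTIFamily W₁ W₂ η)

include hζ hζD hζ1 in
theorem hT_coh {τ₁ : (L → ℂ) → (G → ℂ)} (e : Ext (indD K K ⊥) (dadeIsometry (A0 L W₁ W₂ A) L R) τ₁)
    {n : (↥(W₁ ⊔ W₂) →* ℂˣ) → ℤ} (hB : BR L K W₁ W₂ A R μ δ η ζ (τ₁ ζ) n) (θ : K → ℂ) (hθ : IsIrrCharacter K θ) :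
    classInner (dadeIsometry (A0 L W₁ W₂ A) L R (indFun K θ - θ 1 • ζ)) (τ₁ ζ) = classInner (indFun K θ - θ 1 • ζ) ζ := by
  classical
  haveI := Fintype.ofFinite K
  have hZZ : classInner (τ₁ ζ) (τ₁ ζ) = 1 := hB.zt.norm
  by_cases hc : ∀ k : K, θ k = θ 1
  · have hθ1 := const_one hθ hc
    have e1 : indFun K θ - θ 1 • ζ = bet K μ ζ := by
      rw [bet_def, hθ1]
      have : (fun k : K => μ (1 : ↥(W₁ ⊔ W₂) →* ℂˣ) k) = fun _ => 1 := by
        funext k; exact (hμ.lin 1 X1_one).2.1 k k.2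
      rw [red, this]
      simp
    rw [e1, hB.bet, bet_def, ci_sub_left, ci_sub_left, hZZ, ci_irr_self hζ]
    have h1 : classInner (etaC η 1) (τ₁ ζ) = 0 := by
      rw [etaC]
      rw [ci_sum_left]
      exact Finset.sum_eq_zero fun ω _ => by
        rw [← ci_conj_symm, hB.zt.orth, map_zero]
    have h2 : classInner (red K μ 1) ζ = 0 := by
      rw [red_sum h.toPT hμ, ci_sum_left]
      exact Finset.sum_eq_zero fun ω _ => by
        rw [← ci_conj_symm, zeta_mu h hμ hζ hζD, map_zero]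
    rw [h1, h2]
  · push Not at hc
    obtain ⟨k, hk⟩ := hc
    have hχ : indFun K θ ∈ indD K K ⊥ := ⟨θ, hθ, ⟨k, k.2, hk⟩, fun k hk => by
      have : k = 1 := Subtype.ext (Subgroup.mem_bot.1 hk)
      rw [this], rfl⟩
    obtain ⟨m, -, hm⟩ := IsIrr.one_eq_nat hθ
    have hdeg : indFun K θ 1 = ((m : ℤ) : ℂ) * ζ 1 := by
      rw [ind_one, index_K h.toPT, hζ1]
      have : θ 1 = (m : ℂ) := hm
      rw [this]; push_cast; ring
    have e1 : indFun K θ - θ 1 • ζ = indFun K θ - (m : ℤ) • ζ := by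
      rw [zc, hm]; push_cast; rfl
    rw [e1, ext_sub_m e hχ hζD hdeg, zc, zc, ci_sub_left, ci_sub_left, ci_smul_left, ci_smul_left, hZZ, ci_irr_self hζ,
      e.1.2.2.1 _ (zs_sub hχ) _ (zs_sub hζD)]

include hη in
/-- if the set of characters of `L` is coherent, then few elements have order prime to `w₁` -/
theorem coh_cop (hW2 : W₂.subgroupOf L ≤ ⁅K, K⁆) (hsol : Group.IsSolvable K) (hK : K ≠ ⊥) 
    (hcoh : IsCoherent (inducedIrrAbove K ⊥) {1}ᶜ (dadeIsometry (A0 L W₁ W₂ A) L R)) :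
    ((Cop (G := G) (Nat.card W₁)).card : ℝ) * Nat.card L ≤ Nat.card G * (Nat.card K - 1 + Nat.card W₁ ^ 2) := by
  obtain ⟨ζ, hζ, hζD, hζ1⟩ := exists_zeta h hμ hW2 hsol hK
  rw [eqD] at hcoh
  obtain ⟨-, τ₁, e1, e2⟩ := hcoh
  have e : Ext (indD K K ⊥) (dadeIsometry (A0 L W₁ W₂ A) L R) τ₁ := ⟨e1, e2⟩
  obtain ⟨n, hB⟩ := br_coh h hμ hζ hζD hζ1 hη (S₀ := indD K K ⊥) (fun _ hx => hx) hζD (indD_conj h hζD) e
    (fun ψ h1 h2 => red_mem h hμ h1 h2) hW2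
  exact cop_le h hμ hζ hζD hζ1 hη hB (hT_coh h hμ hζ hζD hζ1 e hB)

end Cfsg.Agent.H10.PrF6
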