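import Mathlib
import Cfsg.Agent.H2_Ty4
import Cfsg.Agent.H12_TypeP
import Cfsg.Agent.H10_FrF7
import Cfsg.Agent.H10_FrF9
import Cfsg.Agent.S1373

/-! PF §11: group theory of maximal subgroups of types III, IV -/

set_option autoImplicit false
set_option linter.unusedSectionVars false

open Pointwise
open scoped commutatorElement

namespace Cfsg.Agent.H2.PF11

open Cfsg Subgroup H13.Syl H12.Loc H12.BG7 H12.BG10 H12.BG11 H12.BG12 H2.Con13 H2.BG14 H2.Ty
open H12.BG1212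

universe u

variable {G : Type u} [Group G] [Finite G]

/-- types III, IV -/
structure T34 (M W₁ U W₂ : Subgroup G) : Prop where
  co : IsCoatom M
  ty : IsOfTypeIII M ∨ IsOfTypeIV M
  pw : IsTypePWith M W₁ U W₂
  q : (Nat.card W₁).Prime
  p : (Nat.card W₂).Prime
  core : sigmaCore M = ⁅M, M⁆
  fh : fittingHallOf M ≠ ⁅M, M⁆
  solv : Group.IsSolvable M
  odd : Odd (Nat.card G)

theorem T34.of (hG : IsMinSimpleOddOrder G) {M W₁ U W₂ : Subgroup G} (hM : IsCoatom M) (h : IsOfTypeIII M ∨ IsOfTypeIV M)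
    (hP : IsTypePWith M W₁ U W₂) : T34 M W₁ U W₂ := by
  have hC := H12.BG13.con13 hG
  have hκ : (kappa M).Nonempty := by
    obtain ⟨p, hp, x, hx, hxo, hd⟩ := exists_prime_elt hP.W₁_ne
    exact ⟨p, kappa_of_P hG hM hP p hp hd⟩
  obtain ⟨K, E, U₀, hks⟩ := exists_KS_of_kappa hG hC hM hκ
  have hd := hks.decomp (K_cyc hG hC hM hks.hall)
  obtain ⟨h1, h2, h3⟩ := (c1382 hG M hM K U₀ hd).1 h
  have h4 := (U_bot_iff hG hks).1 h2
  obtain ⟨m, hm, e1, e2⟩ := P_unique hG hks hP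
  have hq : (Nat.card K).Prime := by
    rcases h with ⟨A, B, C, h5, -, h6, -⟩ | ⟨A, B, C, h5, -, h6, -⟩
    · obtain ⟨m', hm', e3, -⟩ := P_unique hG hks h5
      rwa [e3, card_cj] at h6
    · obtain ⟨m', hm', e3, -⟩ := P_unique hG hks h5
      rwa [e3, card_cj] at h6
  have hp := Cfsg.Agent.S1373.result hG M hM K U₀ hd hks.ne h2
  refine ⟨hM, h, hP, ?_, ?_, h4.symm, ?_, solvable_of_ne_top hG hM.1, hG.1⟩
  · rw [e1, card_cj]; exact hq
  · rw [e2, card_cj]; exact hp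
  · rw [h4]; exact h3

namespace T34

variable {M W₁ U W₂ : Subgroup G}

theorem sup_HU (h : T34 M W₁ U W₂) : fittingHallOf M ⊔ U = ⁅M, M⁆ := H12.Hall.compl_sup h.pw.U_compl

theorem sup_M (h : T34 M W₁ U W₂) : ⁅M, M⁆ ⊔ W₁ = M := H12.Hall.compl_sup h.pw.W₁_compl

theorem U_ne (h : T34 M W₁ U W₂) : U ≠ ⊥ := by
  rintro rfl
  have := h.sup_HU
  rw [sup_bot_eq] at this
  exact h.fh this

theorem HU_bot (h : T34 M W₁ U W₂) : fittingHallOf M ⊓ U = ⊥ := h.pw.U_compl.2.2.1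

theorem W₁M (h : T34 M W₁ U W₂) : W₁ ≤ M := h.pw.W₁_compl.2.1

theorem UM (h : T34 M W₁ U W₂) : U ≤ M := H12.TypeP.U_le_M h.pw

theorem UWM (h : T34 M W₁ U W₂) : U ⊔ W₁ ≤ M := sup_le h.UM h.W₁M

theorem M_eq (h : T34 M W₁ U W₂) : fittingHallOf M ⊔ (U ⊔ W₁) = M := by
  rw [← sup_assoc, h.sup_HU, h.sup_M]

theorem hfpf (h : T34 M W₁ U W₂) : ∀ e ∈ W₁, e ≠ 1 → ∀ u ∈ U, e * u = u * e → u = 1 := by
  intro e he he1 u hu hc
  have h1 : u ∈ ⁅M, M⁆ ⊓ centralizer ({e} : Set G) :=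
    mem_inf.2 ⟨h.pw.U_compl.2.1 hu, mem_centralizer_singleton_iff.2 hc.symm⟩
  rw [h.pw.W₂_centralizer e he he1] at h1
  have h2 : u ∈ fittingHallOf M ⊓ U := mem_inf.2 ⟨(h.pw.W₂_le h1).1, hu⟩
  rw [h.HU_bot] at h2
  exact mem_bot.1 h2

theorem hUn (h : T34 M W₁ U W₂) : ∀ e ∈ W₁, ∀ u ∈ U, e * u * e⁻¹ ∈ U := by
  intro e he u hu
  exact (mem_normalizer_iff.1 (h.pw.U_normal he) u).1 hu

theorem UWU (h : T34 M W₁ U W₂) : U ⊔ W₁ ≤ normalizer (U : Set G) := sup_le le_normalizer h.pw.U_normal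

theorem copHW (h : T34 M W₁ U W₂) : (Nat.card (fittingHallOf M)).Coprime (Nat.card W₁) := by
  have h1 := H12.Core.IsComplIn_card h.pw.W₁_compl
  have h2 : W₁.relIndex M = Nat.card ↥⁅M, M⁆ := by
    have h3 := H12.Hall.relIndex_mul h.W₁M
    rw [← h1] at h3
    exact Nat.eq_of_mul_eq_mul_right Nat.card_pos h3
  have h3 := h.pw.W₁_hall
  rw [h2] at h3
  exact (Nat.Coprime.coprime_dvd_right (card_dvd_of_le h.pw.U_compl.1) h3).symm

theorem copUW (h : T34 M W₁ U W₂) : (Nat.card U).Coprime (Nat.card W₁) := by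
  have h1 := H12.Core.IsComplIn_card h.pw.W₁_compl
  have h2 : W₁.relIndex M = Nat.card ↥⁅M, M⁆ := by
    have h3 := H12.Hall.relIndex_mul h.W₁M
    rw [← h1] at h3
    exact Nat.eq_of_mul_eq_mul_right Nat.card_pos h3
  have h3 := h.pw.W₁_hall
  rw [h2] at h3
  exact (Nat.Coprime.coprime_dvd_right (card_dvd_of_le h.pw.U_compl.2.1) h3).symm

theorem cardUW (h : T34 M W₁ U W₂) : Nat.card ↥(U ⊔ W₁) = Nat.card U * Nat.card W₁ :=
  H22.Basic.card_sup_of_coprime h.pw.U_normal h.copUW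

theorem copHUW (h : T34 M W₁ U W₂) : (Nat.card (fittingHallOf M)).Coprime (Nat.card ↥(U ⊔ W₁)) := by
  rw [h.cardUW]
  exact Nat.Coprime.mul_right (H12.TypeP.coprime_U h.pw).symm h.copHW

theorem HW (h : T34 M W₁ U W₂) : fittingHallOf M ⊓ centralizer (W₁ : Set G) = W₂ := by
  apply le_antisymm
  · obtain ⟨x, hx, hx1⟩ := exists_ne_one h.pw.W₁_ne
    rw [← h.pw.W₂_centralizer x hx hx1]
    exact inf_le_inf h.pw.U_compl.1 (centralizer_le (Set.singleton_subset_iff.2 hx))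
  · refine le_inf (h.pw.W₂_le.trans inf_le_left) ?_
    intro y hy
    rw [mem_centralizer_iff]
    intro x hx
    exact h.pw.selfNormalizing.2.2.2.1 x hx y hy

theorem nilH (_h : T34 M W₁ U W₂) : Group.IsNilpotent (fittingHallOf M) := H12.Core.fittingHallOf_isNilpotent M

/-- Wielandt's formula for invariant subgroups of `H` -/
theorem wiel (h : T34 M W₁ U W₂) {N : Subgroup G} (hN : N ≤ fittingHallOf M) (hn : U ⊔ W₁ ≤ normalizer (N : Set G)) :
    Nat.card ↥(N ⊓ centralizer ((U ⊔ W₁ : Subgroup G) : Set G)) ^ Nat.card W₁ * Nat.card N =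
      Nat.card ↥(N ⊓ centralizer (W₁ : Set G)) ^ Nat.card W₁ * Nat.card ↥(N ⊓ centralizer (U : Set G)) := by
  refine H10.FrF7.main U W₁ N h.U_ne h.pw.W₁_ne h.hUn h.hfpf ?_ ?_ ?_
  · intro x hx n hnn
    exact (mem_normalizer_iff.1 (hn hx) n).1 hnn
  · haveI := H12.CN.nilpotent_of_le hN h.nilH
    infer_instance
  · exact Nat.Coprime.coprime_dvd_left (card_dvd_of_le hN) h.copHUW

theorem UWH (h : T34 M W₁ U W₂) : U ⊔ W₁ ≤ normalizer (fittingHallOf M : Set G) :=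
  h.UWM.trans (H12.Core.le_normalizer_fittingHallOf M)

theorem p_pos (h : T34 M W₁ U W₂) : 0 < Nat.card W₂ := Nat.card_pos

theorem cHUW (h : T34 M W₁ U W₂) : fittingHallOf M ⊓ centralizer ((U ⊔ W₁ : Subgroup G) : Set G) = ⊥ := by
  by_contra hne
  have hle : fittingHallOf M ⊓ centralizer ((U ⊔ W₁ : Subgroup G) : Set G) ≤ W₂ := by
    rw [← h.HW]
    exact inf_le_inf_left _ (centralizer_le (fun x hx => mem_sup_right hx))
  have heq : fittingHallOf M ⊓ centralizer ((U ⊔ W₁ : Subgroup G) : Set G) = W₂ := by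
    have hd := card_dvd_of_le hle
    rcases (Nat.dvd_prime h.p).1 hd with h1 | h1
    · exact absurd (Subgroup.card_eq_one.1 h1) hne
    · exact H22.Basic.eq_of_le_of_card_le hle h1.ge
  have h1 := h.wiel le_rfl h.UWH
  rw [heq, h.HW] at h1
  have h2 := Nat.eq_of_mul_eq_mul_left (pow_pos h.p_pos _) h1
  have h3 : fittingHallOf M ⊓ centralizer (U : Set G) = fittingHallOf M := H22.Basic.eq_of_le_of_card_le inf_le_left h2.le
  refine H12.TypeP.U_not_centralizes h.pw h.U_ne ?_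
  rw [le_centralizer_iff]
  exact inf_eq_left.1 h3

/-- `H₀ = C_H(U)` -/
def H0 (M U : Subgroup G) : Subgroup G := fittingHallOf M ⊓ centralizer (U : Set G)

theorem card_H (h : T34 M W₁ U W₂) : Nat.card (fittingHallOf M) = Nat.card W₂ ^ Nat.card W₁ * Nat.card (H0 M U) := by
  have h1 := h.wiel le_rfl h.UWH
  rw [h.cHUW, h.HW, Subgroup.card_bot, one_pow, one_mul] at h1
  exact h1

theorem H0_le : H0 M U ≤ fittingHallOf M := inf_le_left

theorem UW_H0 (h : T34 M W₁ U W₂) : U ⊔ W₁ ≤ normalizer (H0 M U : Set G) :=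
  H22.Basic.le_normalizer_inf h.UWH (H22.Basic.le_normalizer_centralizer h.UWU)

theorem relH0 (h : T34 M W₁ U W₂) : (H0 M U).relIndex (fittingHallOf M) = Nat.card W₂ ^ Nat.card W₁ := by
  have h1 := H12.Hall.relIndex_mul (H0_le (M := M) (U := U))
  rw [h.card_H] at h1
  exact Nat.eq_of_mul_eq_mul_right Nat.card_pos h1

theorem H0_ne (h : T34 M W₁ U W₂) : H0 M U < fittingHallOf M := by
  refine lt_of_le_of_ne H0_le ?_
  intro he
  have h1 := h.relH0
  rw [he, relIndex_self] at h1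
  have h2 := Nat.one_lt_pow h.q.ne_zero h.p.one_lt
  omega

/-- `H / H₀` is `UW₁`-irreducible -/
theorem irr (h : T34 M W₁ U W₂) {N : Subgroup G} (h0 : H0 M U ≤ N) (hN : N < fittingHallOf M)
    (hn : U ⊔ W₁ ≤ normalizer (N : Set G)) : N = H0 M U := by
  have h1 := h.wiel hN.le hn
  have e1 : N ⊓ centralizer ((U ⊔ W₁ : Subgroup G) : Set G) = ⊥ := by
    rw [eq_bot_iff, ← h.cHUW]
    exact inf_le_inf_right _ hN.le
  have e2 : N ⊓ centralizer (U : Set G) = H0 M U := by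
    apply le_antisymm
    · exact inf_le_inf_right _ hN.le
    · exact le_inf h0 inf_le_right
  have e3 : N ⊓ centralizer (W₁ : Set G) ≤ W₂ := by
    rw [← h.HW]
    exact inf_le_inf_right _ hN.le
  rw [e1, e2, Subgroup.card_bot, one_pow, one_mul] at h1
  rcases (Nat.dvd_prime h.p).1 (card_dvd_of_le e3) with h2 | h2
  · rw [h2, one_pow, one_mul] at h1
    exact (H22.Basic.eq_of_le_of_card_le h0 h1.le).symm
  · rw [h2, ← h.card_H] at h1
    exact absurd (H22.Basic.eq_of_le_of_card_le hN.le h1.ge) hN.ne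

theorem H_H0 (h : T34 M W₁ U W₂) : fittingHallOf M ≤ normalizer (H0 M U : Set G) := by
  have h1 : U ⊔ W₁ ≤ normalizer ((fittingHallOf M ⊓ normalizer (H0 M U : Set G) : Subgroup G) : Set G) :=
    H22.Basic.le_normalizer_inf h.UWH (H22.Basic.le_normalizer_normalizer h.UW_H0)
  by_contra hne
  have h2 : fittingHallOf M ⊓ normalizer (H0 M U : Set G) < fittingHallOf M := lt_of_le_of_ne inf_le_left (fun he => hne (inf_eq_left.1 he))
  have h3 := h.irr (le_inf H0_le le_normalizer) h2 h1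
  -- normalizers grow
  have h4 : (H0 M U).subgroupOf (fittingHallOf M) ≠ ⊤ := by
    rw [Ne, subgroupOf_eq_top]
    exact h.H0_ne.not_ge
  have h5 := @normalizerCondition_of_isNilpotent (fittingHallOf M) _ h.nilH _ (lt_top_iff_ne_top.2 h4)
  have h6 : normalizer (((H0 M U).subgroupOf (fittingHallOf M) : Subgroup (fittingHallOf M)) : Set (fittingHallOf M)) ≤ (H0 M U).subgroupOf (fittingHallOf M) := by
    intro x hx
    rw [mem_subgroupOf, ← h3]
    refine mem_inf.2 ⟨x.2, ?_⟩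
    rw [mem_normalizer_iff]
    intro y
    have hx' := mem_normalizer_iff.1 hx
    constructor
    · intro hy
      exact (hx' ⟨y, H0_le hy⟩).1 hy
    · intro hy
      have hyH : y ∈ fittingHallOf M := by
        have := mul_mem (mul_mem (inv_mem x.2) (H0_le hy)) x.2
        simpa [mul_assoc] using this
      exact (hx' ⟨y, hyH⟩).2 hy
  exact h5.not_ge h6

theorem M_H0 (h : T34 M W₁ U W₂) : M ≤ normalizer (H0 M U : Set G) := by
  conv_lhs => rw [← h.M_eq]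
  exact sup_le h.H_H0 h.UW_H0

theorem comm_H (h : T34 M W₁ U W₂) : ⁅fittingHallOf M, fittingHallOf M⁆ ≤ H0 M U := by
  have hcH : ⁅fittingHallOf M, fittingHallOf M⁆ ≤ fittingHallOf M := comm_le_self _
  have h1 : U ⊔ W₁ ≤ normalizer ((⁅fittingHallOf M, fittingHallOf M⁆ ⊔ H0 M U : Subgroup G) : Set G) :=
    H22.Basic.le_normalizer_sup (H22.Basic.le_normalizer_commutator h.UWH h.UWH) h.UW_H0
  have h2 : ⁅fittingHallOf M, fittingHallOf M⁆ ⊔ H0 M U < fittingHallOf M := by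
    refine lt_of_le_of_ne (sup_le hcH H0_le) ?_
    intro he
    have h4 : (H0 M U).subgroupOf (fittingHallOf M) ≠ ⊤ := by
      rw [Ne, subgroupOf_eq_top]
      exact h.H0_ne.not_ge
    obtain ⟨T, hT, hTle⟩ := exists_isCoatom_ge h4
    obtain ⟨-, r, -, h5, -⟩ := H10.FrF9.coatom_facts h.nilH hT
    apply hT.1
    rw [eq_top_iff]
    intro x _
    have hx := x.2
    have h6 : ⁅fittingHallOf M, fittingHallOf M⁆ ⊔ H0 M U ≤ T.map (fittingHallOf M).subtype := by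
      refine sup_le ?_ ?_
      · rw [commutator_le]
        intro a ha b hb
        exact ⟨_, h5 ⟨a, ha⟩ ⟨b, hb⟩, rfl⟩
      · intro y hy
        exact ⟨⟨y, H0_le hy⟩, hTle hy, rfl⟩
    rw [he] at h6
    obtain ⟨y, hy, hye⟩ := h6 hx
    have : y = x := Subtype.ext hye
    rwa [← this]
  have h3 := h.irr le_sup_right h2 h1
  rw [← h3]
  exact le_sup_left

/-- `C = C_U(H)` -/
def CU (M U : Subgroup G) : Subgroup G := U ⊓ centralizer (fittingHallOf M : Set G)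

theorem F_eq (h : T34 M W₁ U W₂) : fittingOf M = fittingHallOf M ⊔ CU M U := H12.TypeP.fitting_eq h.pw

theorem derU (h : T34 M W₁ U W₂) : ⁅U, U⁆ ≤ CU M U := le_inf (comm_le_self U) (H12.TypeP.derived_U h.pw)

theorem M_CU (h : T34 M W₁ U W₂) : M ≤ normalizer (CU M U : Set G) := by
  conv_lhs => rw [← h.M_eq]
  have h1 : U ⊔ W₁ ≤ normalizer (CU M U : Set G) := H22.Basic.le_normalizer_inf h.UWU (H22.Basic.le_normalizer_centralizer h.UWH)
  refine sup_le ?_ h1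
  have h2 : fittingHallOf M ≤ centralizer (CU M U : Set G) := by
    rw [le_centralizer_iff]
    exact inf_le_right
  exact h2.trans (centralizer_le_normalizer _)

theorem CU_lt (h : T34 M W₁ U W₂) : CU M U < U := by
  refine lt_of_le_of_ne inf_le_left ?_
  intro he
  exact H12.TypeP.U_not_centralizes h.pw h.U_ne (inf_eq_left.1 he)

/-- `H₀C` -/
def N0 (M U : Subgroup G) : Subgroup G := H0 M U ⊔ CU M U

theorem M_N0 (h : T34 M W₁ U W₂) : M ≤ normalizer (N0 M U : Set G) := H22.Basic.le_normalizer_sup h.M_H0 h.M_CU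

theorem M_F (_h : T34 M W₁ U W₂) : M ≤ normalizer (fittingOf M : Set G) := H12.Core.le_normalizer_fittingOf M

theorem N0_le_F (h : T34 M W₁ U W₂) : N0 M U ≤ fittingOf M := by
  rw [h.F_eq]
  exact sup_le_sup_right H0_le _

theorem F_le (h : T34 M W₁ U W₂) : fittingOf M ≤ ⁅M, M⁆ := h.pw.fitting_le

theorem comm2_le (h : T34 M W₁ U W₂) : ⁅⁅M, M⁆, ⁅M, M⁆⁆ ≤ fittingOf M := by
  rw [← h.pw.fitting_eq]
  exact h.pw.derived_two_le

theorem CU_H (h : T34 M W₁ U W₂) : CU M U ≤ centralizer (fittingHallOf M : Set G) := inf_le_right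

theorem card_F (h : T34 M W₁ U W₂) : Nat.card (fittingOf M) = Nat.card (fittingHallOf M) * Nat.card (CU M U) := by
  rw [h.F_eq]
  exact H22.Basic.card_sup_of_coprime (h.CU_H.trans (centralizer_le_normalizer _))
    (Nat.Coprime.coprime_dvd_right (card_dvd_of_le inf_le_left) (H12.TypeP.coprime_U h.pw).symm)

theorem card_N0 (h : T34 M W₁ U W₂) : Nat.card (N0 M U) = Nat.card (H0 M U) * Nat.card (CU M U) := by
  refine H22.Basic.card_sup_of_coprime ?_ ?_
  · exact (inf_le_left.trans h.UM).trans h.M_H0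
  · exact Nat.Coprime.coprime_dvd_left (card_dvd_of_le H0_le)
      (Nat.Coprime.coprime_dvd_right (card_dvd_of_le inf_le_left) (H12.TypeP.coprime_U h.pw).symm)

theorem relN0 (h : T34 M W₁ U W₂) : (N0 M U).relIndex (fittingOf M) = Nat.card W₂ ^ Nat.card W₁ := by
  have h1 := H12.Hall.relIndex_mul h.N0_le_F
  rw [h.card_F, h.card_N0, h.card_H, mul_assoc] at h1
  exact Nat.eq_of_mul_eq_mul_right (Nat.mul_pos Nat.card_pos Nat.card_pos) h1

theorem card_M' (h : T34 M W₁ U W₂) : Nat.card ↥⁅M, M⁆ = Nat.card (fittingHallOf M) * Nat.card U :=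
  (H12.Core.IsComplIn_card h.pw.U_compl).symm

/-- `u = |U : C|` -/
theorem relF (h : T34 M W₁ U W₂) : (fittingOf M).relIndex ⁅M, M⁆ = (CU M U).relIndex U := by
  have h1 := H12.Hall.relIndex_mul h.F_le
  have h2 : (CU M U).relIndex U * Nat.card (CU M U) = Nat.card U := H12.Hall.relIndex_mul inf_le_left
  rw [h.card_M', h.card_F, ← h2] at h1
  have h3 : (fittingOf M).relIndex ⁅M, M⁆ * (Nat.card (fittingHallOf M) * Nat.card (CU M U)) =
      (CU M U).relIndex U * (Nat.card (fittingHallOf M) * Nat.card (CU M U)) := by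
    rw [h1]; ring
  exact Nat.eq_of_mul_eq_mul_right (Nat.mul_pos Nat.card_pos Nat.card_pos) h3

theorem comm_FN0 (h : T34 M W₁ U W₂) : ⁅fittingOf M, fittingOf M⁆ ≤ N0 M U := by
  rw [h.F_eq]
  have hc1 : ⁅CU M U, fittingHallOf M⁆ = ⊥ := commutator_eq_bot_iff_le_centralizer.2 h.CU_H
  have hn : fittingHallOf M ⊔ CU M U ≤ normalizer (N0 M U : Set G) := by
    rw [← h.F_eq]; exact (h.F_le.trans (comm_le_self M)).trans h.M_N0
  rw [commutator_le]
  intro a ha b hb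
  rw [H22.Basic.mem_sup_of_le_normalizer (h.CU_H.trans (centralizer_le_normalizer _))] at ha hb
  obtain ⟨x, hx, c, hc, rfl⟩ := ha
  obtain ⟨y, hy, d, hd, rfl⟩ := hb
  have e1 : c * y = y * c := (mem_centralizer_iff.1 (h.CU_H hc) y hy).symm
  have e2 : d * x = x * d := (mem_centralizer_iff.1 (h.CU_H hd) x hx).symm
  have e3 : c * x = x * c := (mem_centralizer_iff.1 (h.CU_H hc) x hx).symm
  have e4 : d * y = y * d := (mem_centralizer_iff.1 (h.CU_H hd) y hy).symm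
  have e5 : ⁅x * c, y * d⁆ = ⁅x, y⁆ * ⁅c, d⁆ := by
    have f1 : c * y⁻¹ = y⁻¹ * c := by
      rw [eq_inv_mul_iff_mul_eq, ← mul_assoc, ← e1, mul_inv_cancel_right]
    have f2 : c⁻¹ * y = y * c⁻¹ := by
      rw [inv_mul_eq_iff_eq_mul, ← mul_assoc, e1, mul_inv_cancel_right]
    have f3 : c⁻¹ * x⁻¹ = x⁻¹ * c⁻¹ := by rw [← mul_inv_rev, ← mul_inv_rev, e3]
    have f4 : d * x⁻¹ = x⁻¹ * d := by
      rw [eq_inv_mul_iff_mul_eq, ← mul_assoc, ← e2, mul_inv_cancel_right]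
    have f5 : d⁻¹ * y⁻¹ = y⁻¹ * d⁻¹ := by rw [← mul_inv_rev, ← mul_inv_rev, e4]
    have f6 : d * y⁻¹ = y⁻¹ * d := by
      rw [eq_inv_mul_iff_mul_eq, ← mul_assoc, ← e4, mul_inv_cancel_right]
    have f7 : c * x⁻¹ = x⁻¹ * c := by
      rw [eq_inv_mul_iff_mul_eq, ← mul_assoc, ← e3, mul_inv_cancel_right]
    have f8 : c⁻¹ * y⁻¹ = y⁻¹ * c⁻¹ := by rw [← mul_inv_rev, ← mul_inv_rev, e1]
    calc ⁅x * c, y * d⁆ = x * (c * y) * d * (c⁻¹ * x⁻¹) * (d⁻¹ * y⁻¹) := by rw [commutatorElement_def]; group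
      _ = x * (y * c) * d * (x⁻¹ * c⁻¹) * (y⁻¹ * d⁻¹) := by rw [e1, f3, f5]
      _ = x * y * c * (d * x⁻¹) * (c⁻¹ * y⁻¹) * d⁻¹ := by group
      _ = x * y * c * (x⁻¹ * d) * (y⁻¹ * c⁻¹) * d⁻¹ := by rw [f4, f8]
      _ = x * y * (c * x⁻¹) * (d * y⁻¹) * c⁻¹ * d⁻¹ := by group
      _ = x * y * (x⁻¹ * c) * (y⁻¹ * d) * c⁻¹ * d⁻¹ := by rw [f7, f6]
      _ = x * y * x⁻¹ * (c * y⁻¹) * d * c⁻¹ * d⁻¹ := by group
      _ = x * y * x⁻¹ * (y⁻¹ * c) * d * c⁻¹ * d⁻¹ := by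
        have : c * y⁻¹ = y⁻¹ * c := f1
        rw [this]
      _ = ⁅x, y⁆ * ⁅c, d⁆ := by rw [commutatorElement_def, commutatorElement_def]; group
  rw [e5]
  refine mul_mem (mem_sup_left (h.comm_H (commutator_mem_commutator hx hy))) (mem_sup_right ?_)
  exact comm_le_self _ (commutator_mem_commutator hc hd)

end T34

end Cfsg.Agent.H2.PF11
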