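import Mathlib
import Cfsg.Agent.H10_PrF5
import Cfsg.Agent.H10_PrF6
import Cfsg.Agent.H10_Sib2
import Cfsg.Agent.H10_CycEx4
import Cfsg.Agent.H10_CycTI5
import Cfsg.Agent.H2_PF11a
import Cfsg.Agent.H1_Nilp

/-!
H10_PrF7: Peterfalvi (10.8): the characters of a maximal subgroup of type III, IV, V are not coherent.
-/

set_option autoImplicit false
set_option linter.all false

open scoped commutatorElement

namespace Cfsg.Agent.H10.PrF7

open Cfsg Subgroup Cfsg.Agent.H12.Ty Cfsg.Agent.H10.PrD2 Cfsg.Agent.H10.PrD4 Cfsg.Agent.H10.PrF4 Cfsg.Agent.H10.PrF5 Cfsg.Agent.H10.PrF6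
  Cfsg.Agent.H22.Basic Cfsg.Agent.H10.CycTI3 Cfsg.Agent.H10.CycTI2 Cfsg.Agent.H10.CycTI5 Cfsg.Agent.H2.BG14 Cfsg.Agent.H2.Con13 Cfsg.Agent.H2.Ty

section Arith

theorem arith_final {g c k p w v : ℝ} (hg : 0 < g) (hp : 3 ≤ p) (hw5 : (w = 3 ∧ 5 ≤ p) ∨ 5 ≤ w) (hv : 2 * p + 1 ≤ v)
    (hk : p * (2 * w - 1) ^ 2 ≤ k) (h1 : c * (w * k) ≤ g * (k - 1 + w ^ 2))
    (h2 : g ≤ c + g * ((p - 1) * (w - 1) / (p * w) + (v + 1) / (2 * v * p))) : False := by
  have hw : 3 ≤ w := by rcases hw5 with h | h <;> linarith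
  have hv0 : 0 < v := by linarith
  have hp0 : 0 < p := by linarith
  have hw0 : 0 < w := by linarith
  have hk0 : 0 < k := by
    have : 0 < p * (2 * w - 1) ^ 2 := by
      apply mul_pos hp0
      apply pow_pos
      linarith
    linarith
  have e1 : (p - 1) * (w - 1) / (p * w) + (v + 1) / (2 * v * p) = ((p - 1) * (w - 1) * (2 * v) + (v + 1) * w) / (2 * v * p * w) := by
    field_simp
  rw [e1] at h2
  have h3 : g * (2 * v * p * w) ≤ c * (2 * v * p * w) + g * ((p - 1) * (w - 1) * (2 * v) + (v + 1) * w) := by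
    have := mul_le_mul_of_nonneg_right h2 (by positivity : (0 : ℝ) ≤ 2 * v * p * w)
    have e2 : (c + g * (((p - 1) * (w - 1) * (2 * v) + (v + 1) * w) / (2 * v * p * w))) * (2 * v * p * w) =
      c * (2 * v * p * w) + g * ((p - 1) * (w - 1) * (2 * v) + (v + 1) * w) := by
      field_simp
    rwa [e2] at this
  -- multiply by k
  have h4 : g * (2 * v * p * w) * k ≤ g * (k - 1 + w ^ 2) * (2 * v * p) + g * ((p - 1) * (w - 1) * (2 * v) + (v + 1) * w) * k := by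
    have a1 := mul_le_mul_of_nonneg_right h3 hk0.le
    have a2 := mul_le_mul_of_nonneg_right h1 (by positivity : (0 : ℝ) ≤ 2 * v * p)
    nlinarith
  have h5 : (2 * v * p * w) * k ≤ (k - 1 + w ^ 2) * (2 * v * p) + ((p - 1) * (w - 1) * (2 * v) + (v + 1) * w) * k := by
    have : g * ((2 * v * p * w) * k) ≤ g * ((k - 1 + w ^ 2) * (2 * v * p) + ((p - 1) * (w - 1) * (2 * v) + (v + 1) * w) * k) := by nlinarith
    exact le_of_mul_le_mul_left this hg
  have h6 : k * (v * (w - 2) - w) ≤ 2 * v * p * (w ^ 2 - 1) := by nlinarith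
  have h7 : 0 ≤ v * (w - 2) - w := by nlinarith
  have h8 : p * (2 * w - 1) ^ 2 * (v * (w - 2) - w) ≤ 2 * v * p * (w ^ 2 - 1) := (mul_le_mul_of_nonneg_right hk h7).trans h6
  have h9 : (2 * w - 1) ^ 2 * (v * (w - 2) - w) ≤ 2 * v * (w ^ 2 - 1) := by
    have : p * ((2 * w - 1) ^ 2 * (v * (w - 2) - w)) ≤ p * (2 * v * (w ^ 2 - 1)) := by nlinarith
    exact le_of_mul_le_mul_left this hp0
  rcases hw5 with ⟨h10, h11⟩ | h10
  · subst h10
    nlinarith
  · have hv7 : 7 ≤ v := by linarith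
    have h11 : v * (16 / 7) ≤ v * (w - 2) - w := by nlinarith
    have h12 : (2 * w - 1) ^ 2 * (v * (16 / 7)) ≤ (2 * w - 1) ^ 2 * (v * (w - 2) - w) := mul_le_mul_of_nonneg_left h11 (by positivity)
    have h13 : (2 * w - 1) ^ 2 * (v * (16 / 7)) ≤ 2 * v * (w ^ 2 - 1) := h12.trans h9
    have h14 : v * ((2 * w - 1) ^ 2 * (16 / 7)) ≤ v * (2 * (w ^ 2 - 1)) := by nlinarith
    have h15 := le_of_mul_le_mul_left h14 hv0
    nlinarith

theorem three_pow_ge {w : ℕ} (hw : 1 ≤ w) : 2 * w - 1 ≤ 3 ^ (w - 1) := by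
  obtain ⟨k, rfl⟩ : ∃ k, w = k + 1 := ⟨w - 1, by omega⟩
  rw [Nat.add_sub_cancel]
  induction k with
  | zero => norm_num
  | succ k ih =>
    have := ih (by omega)
    rw [pow_succ]
    omega

end Arith

section Nil

theorem p_le_center {K : Type*} [Group K] [Finite K] (hK : Group.IsNilpotent K) {p : ℕ} (hp : p.Prime) (hd : p ∣ Nat.card K) :
    p ≤ Nat.card (Subgroup.center K) := by
  haveI := Fact.mk hp
  let P : Sylow p K := default
  haveI h1 : (P : Subgroup K).Normal := inferInstance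
  have hPb : (P : Subgroup K) ≠ ⊥ := P.ne_bot_of_dvd_card hd
  have h2 := H1.Nilp.normal_inf_center_ne_bot (P : Subgroup K) hPb
  have h3 : IsPGroup p ↥((P : Subgroup K) ⊓ Subgroup.center K) := P.2.to_le inf_le_left
  have h4 : p ∣ Nat.card ↥((P : Subgroup K) ⊓ Subgroup.center K) := by
    rcases h3.card_eq_or_dvd with h5 | h5
    · exact absurd (Subgroup.card_eq_one.1 h5) h2
    · exact h5
  have h5 : Nat.card ↥((P : Subgroup K) ⊓ Subgroup.center K) ∣ Nat.card (Subgroup.center K) := Subgroup.card_dvd_of_le inf_le_right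
  exact Nat.le_of_dvd Nat.card_pos (h4.trans h5)

end Nil

section MuDeg

variable {G : Type*} [Group G] [Fintype G] {L : Subgroup G} [Fintype L] {K : Subgroup L} {W₁ W₂ : Subgroup G} {A : Set G}
  {R : G → Subgroup G} (h : PD L K K W₁ W₂ A R)
  {μ : (↥(W₁ ⊔ W₂) →* ℂˣ) → (L → ℂ)} {δ : (↥(W₁ ⊔ W₂) →* ℂˣ) → ℂ} (hμ : MU K W₁ W₂ μ δ)
include h hμ

theorem nil_bound (hW2 : W₂.subgroupOf L ≤ ⁅K, K⁆) (hnil : Group.IsNilpotent K) (hp : (Nat.card W₂).Prime) :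
    Nat.card W₂ * (2 * Nat.card W₁ - 1) ^ 2 ≤ Nat.card K := by
  haveI := Fintype.ofFinite K
  obtain ⟨n, hn, hev⟩ := PrF2.exists_n h hμ hW2
  obtain ⟨ψ, ψ', hψ, -, hψ1, -, -⟩ := exists_two2 h.self (odd_W h.toPT)
  obtain ⟨-, hn2⟩ := hev ψ hψ hψ1
  have h1 := hn ψ
  set Z : Subgroup L := (Subgroup.center K).map K.subtype with hZ
  have hZK : Z ≤ K := Subgroup.map_subtype_le _
  have h2 := Sib2.central_deg (K := K) (Z := Z) (by
    rintro _ ⟨z, hz, rfl⟩ k hk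
    exact (congrArg Subtype.val (Subgroup.mem_center_iff.1 hz ⟨k, hk⟩)).symm) (hμ.res_irr ψ)
  have hw3 : 3 ≤ Nat.card W₁ := three_W1 h.toPT
  have h3 : (2 * Nat.card W₁ - 1 : ℝ) ≤ (μ ψ 1).re := by
    rw [h1]
    have hd : ((n ψ : ℂ) * (Nat.card W₁ : ℂ)).re = n ψ * Nat.card W₁ := by
      have : ((n ψ : ℂ) * (Nat.card W₁ : ℂ)) = ((n ψ * Nat.card W₁ : ℝ) : ℂ) := by push_cast; ring
      rw [this, Complex.ofReal_re]
    have hn2' : (2 : ℝ) ≤ n ψ := by exact_mod_cast hn2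
    have hw3' : (3 : ℝ) ≤ Nat.card W₁ := by exact_mod_cast hw3
    rcases hμ.sign ψ with e | e
    · rw [e, Complex.add_re, hd, Complex.one_re]
      nlinarith
    · rw [e, Complex.add_re, hd, Complex.neg_re, Complex.one_re]
      nlinarith
  have hw3' : (3 : ℝ) ≤ Nat.card W₁ := by exact_mod_cast hw3
  have h4 : (2 * Nat.card W₁ - 1 : ℝ) ^ 2 ≤ Z.relIndex K := by
    refine le_trans ?_ h2
    exact pow_le_pow_left₀ (by linarith) h3 2
  have h5 : Nat.card W₂ ≤ Nat.card Z := by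
    have h6 : Nat.card W₂ ∣ Nat.card K := by
      have := Subgroup.card_dvd_of_le h.W₂K
      rwa [Nat.card_congr (Subgroup.subgroupOfEquivOfLe h.W₂_le).toEquiv] at this
    have h7 := p_le_center hnil hp h6
    rwa [hZ, Subgroup.card_map_of_injective K.subtype_injective]
  have h6 : Z.relIndex K * Nat.card Z = Nat.card K := H1.Basic.relIndex_mul_card hZK
  have h7 : (2 * Nat.card W₁ - 1) ^ 2 ≤ Z.relIndex K := by
    have h8 : (((2 * Nat.card W₁ - 1) ^ 2 : ℕ) : ℝ) ≤ Z.relIndex K := by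
      rw [Nat.cast_pow, Nat.cast_sub (by omega)]
      push_cast
      exact h4
    exact_mod_cast h8
  rw [← h6, mul_comm]
  exact Nat.mul_le_mul h7 h5

end MuDeg

section Main

universe u
variable {G : Type u} [Group G]

/-- the partner of type II -/
theorem partner [Finite G] (hG : IsMinSimpleOddOrder G) {M W₁ U W₂ : Subgroup G} (hM : IsCoatom M) (hP : IsTypePWith M W₁ U W₂)
    (h345 : IsOfTypeIII M ∨ IsOfTypeIV M ∨ IsOfTypeV M) : ∃ T V : Subgroup G, IsCoatom T ∧ IsOfTypeII T ∧ IsTypePWith T W₂ V W₁ := by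
  have hC := H12.BG13.con13 hG
  have hκ : (kappa M).Nonempty := by
    obtain ⟨p, hp, x, hx, hxo, hd⟩ := exists_prime_elt hP.W₁_ne
    exact ⟨p, kappa_of_P hG hM hP p hp hd⟩
  obtain ⟨K, E, U₀, hks⟩ := exists_KS_of_kappa hG hC hM hκ
  obtain ⟨m, hm, e1, e2⟩ := P_unique hG hks hP
  have hall : IsPiHallOf (kappa M) W₁ M := by
    have h1 : IsPiHallOf (kappa M) (H13.Syl.cj m K) (H13.Syl.cj m M) := H12.Hall.conj hks.hall
    rw [e1]
    have h2 : H13.Syl.cj m M = M := H1.PG8.cj_self M hm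
    rwa [h2] at h1
  obtain ⟨E', U', hks'⟩ := exists_KS' hG hC hM hall hP.W₁_ne
  have hst : st M W₁ = W₂ := by rw [e1, ← KS.cj_st hm, ← e2]
  have hd := hks'.decomp (K_cyc hG hC hM hks'.hall)
  have hU' : U' = ⊥ := by
    rcases h345 with h | h | h
    · exact ((c1382 hG M hM W₁ U' hd).1 (Or.inl h)).2.1
    · exact ((c1382 hG M hM W₁ U' hd).1 (Or.inr h)).2.1
    · exact ((c1383 hG M hM W₁ U' hd).1 h).2.1
  obtain ⟨T, E₂, U₂, hpr⟩ := hks'.exists_PR' hG hC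
  have hU₂ : U₂ ≠ ⊥ := hpr.u.resolve_left (fun h => h hU')
  have hT := hpr.h'.co
  have hII : IsOfTypeII T := (c1381 hG T hT _ U₂ (hpr.h'.decomp (K_cyc hG hC hT hpr.h'.hall))).2 ⟨hpr.h'.ne, hU₂⟩
  obtain ⟨V, hV⟩ := exists_PU hG hpr.h'
  have hpw := hV.pw hG
  rw [hpr.e', hst] at hpw
  exact ⟨T, V, hT, hII, hpw⟩

theorem bound34 [Finite G] (hG : IsMinSimpleOddOrder G) {M W₁ U W₂ : Subgroup G} (hM : IsCoatom M) (hP : IsTypePWith M W₁ U W₂)
    (h34 : IsOfTypeIII M ∨ IsOfTypeIV M) : Nat.card W₂ * (2 * Nat.card W₁ - 1) ^ 2 ≤ Nat.card ↥⁅M, M⁆ := by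
  have h := H2.PF11.T34.of hG hM h34 hP
  have h1 := H12.Core.IsComplIn_card hP.U_compl
  have h2 := V_bound hG.1 hP h.U_ne h.q
  rw [h.card_H] at h1
  have h3 : 1 ≤ Nat.card (H2.PF11.T34.H0 M U) := Nat.card_pos
  have hpt := H1.PG8.pt_P hG hP
  have h4 := three_W1 hpt
  have h5 := three_W2 hpt
  have h6 := three_pow_ge (w := Nat.card W₁) (by omega)
  have h7 : 3 ^ (Nat.card W₁ - 1) ≤ Nat.card W₂ ^ (Nat.card W₁ - 1) := Nat.pow_le_pow_left h5 _
  have h8 : Nat.card W₂ ^ Nat.card W₁ = Nat.card W₂ * Nat.card W₂ ^ (Nat.card W₁ - 1) := by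
    rw [← pow_succ']
    congr 1
    omega
  rw [← h1, h8]
  have h9 : 2 * Nat.card W₁ - 1 ≤ Nat.card U := by omega
  calc Nat.card W₂ * (2 * Nat.card W₁ - 1) ^ 2 = Nat.card W₂ * (2 * Nat.card W₁ - 1) * (2 * Nat.card W₁ - 1) := by ring
    _ ≤ Nat.card W₂ * Nat.card W₂ ^ (Nat.card W₁ - 1) * Nat.card U :=
        Nat.mul_le_mul (Nat.mul_le_mul_left _ (h6.trans h7)) h9
    _ ≤ Nat.card W₂ * Nat.card W₂ ^ (Nat.card W₁ - 1) * Nat.card (H2.PF11.T34.H0 M U) * Nat.card U :=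
        Nat.mul_le_mul_right _ (Nat.le_mul_of_pos_right _ h3)

theorem typeCore_comm [Finite G] (hG : IsMinSimpleOddOrder G) {M : Subgroup G} (hM : IsCoatom M) {W₁ U W₂ : Subgroup G} (hP : IsTypePWith M W₁ U W₂)
    (h345 : IsOfTypeIII M ∨ IsOfTypeIV M ∨ IsOfTypeV M) : typeCore M = ⁅M, M⁆ := by
  by_cases h : IsOfTypeIII M ∨ IsOfTypeIV M
  · rw [typeCore, if_pos h]
  · rw [typeCore, if_neg h]
    have hV : IsOfTypeV M := by
      rcases h345 with h1 | h1 | h1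
      · exact absurd (Or.inl h1) h
      · exact absurd (Or.inr h1) h
      · exact h1
    obtain ⟨W, V, W', hp, hb, -⟩ := hV
    have h1 := H12.Core.IsComplIn_card hp.U_compl
    rw [hb, Subgroup.card_bot, mul_one] at h1
    exact Subgroup.eq_of_le_of_card_ge hp.U_compl.1 h1.ge

/-- **(10.8)** -/
theorem noncoh_P [Fintype G] (hG : IsMinSimpleOddOrder G) {M W₁ U W₂ : Subgroup G} [Fintype M] (hM : IsCoatom M) (hP : IsTypePWith M W₁ U W₂)
    (h345 : IsOfTypeIII M ∨ IsOfTypeIV M ∨ IsOfTypeV M) :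
    ¬ IsCoherent (inducedIrrAbove (⁅M, M⁆.subgroupOf M) ⊥) {1}ᶜ (dadeIsometry (H12.Ty.tA0 M) M (supportR M)) := by
  intro hcoh
  obtain ⟨T, V, hT, hII, hPT⟩ := partner hG hM hP h345
  obtain ⟨hp, hv, hcop, hts⟩ := tside hG hT hII hPT
  have hcore := typeCore_comm hG hM hP h345
  have h0 := H1.PG8.pd_core hG hM hP
  rw [hcore] at h0
  obtain ⟨μ, δ, hμ⟩ := exists_MU h0.toPT
  obtain ⟨η, hη⟩ := CycEx4.exists_family h0.self (odd_W h0.toPT)
  have hsolM : Group.IsSolvable M := HL.P9.sol_of hG hM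
  have hsol : Group.IsSolvable ↥(⁅M, M⁆.subgroupOf M) := inferInstance
  have hW2 : W₂.subgroupOf M ≤ ⁅⁅M, M⁆.subgroupOf M, ⁅M, M⁆.subgroupOf M⁆ := by
    intro x hx
    have h1 : (x : G) ∈ ⁅⁅M, M⁆, ⁅M, M⁆⁆ := (hP.W₂_le hx).2
    have h2 : (⁅⁅M, M⁆.subgroupOf M, ⁅M, M⁆.subgroupOf M⁆).map M.subtype = ⁅⁅M, M⁆, ⁅M, M⁆⁆ := by
      rw [Subgroup.map_commutator, Subgroup.map_subgroupOf_eq_of_le hP.W₁_compl.1]
    rw [← h2] at h1
    obtain ⟨y, hy, e⟩ := h1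
    have : y = x := Subtype.ext e
    rwa [← this]
  have hK : ⁅M, M⁆.subgroupOf M ≠ ⊥ := by
    intro hb
    have h1 : W₂.subgroupOf M ≤ ⊥ := h0.W₂K.trans hb.le
    apply h0.self.2.1
    rw [eq_bot_iff]
    intro x hx
    have h2 : (⟨x, h0.W₂_le hx⟩ : M) ∈ W₂.subgroupOf M := hx
    exact Subgroup.mem_bot.2 (congrArg Subtype.val (Subgroup.mem_bot.1 (h1 h2)))
  rw [H1.PG8.tA0_eq_A0 hG hM hP] at hcoh
  have hcop2 := coh_cop h0 hμ hη hW2 hsol hK hcoh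
  have hcK : Nat.card ↥(⁅M, M⁆.subgroupOf M) = Nat.card ↥⁅M, M⁆ := Nat.card_congr (Subgroup.subgroupOfEquivOfLe hP.W₁_compl.1).toEquiv
  have hbound : Nat.card W₂ * (2 * Nat.card W₁ - 1) ^ 2 ≤ Nat.card ↥⁅M, M⁆ := by
    by_cases h34 : IsOfTypeIII M ∨ IsOfTypeIV M
    · exact bound34 hG hM hP h34
    · have hF : fittingHallOf M = ⁅M, M⁆ := by
        rw [← hcore, typeCore, if_neg h34]
      have hnil : Group.IsNilpotent ↥(⁅M, M⁆.subgroupOf M) := by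
        haveI : Group.IsNilpotent ↥⁅M, M⁆ := hF ▸ H12.Core.fittingHallOf_isNilpotent M
        exact Group.nilpotent_of_mulEquiv (Subgroup.subgroupOfEquivOfLe hP.W₁_compl.1).symm
      have := nil_bound h0 hμ hW2 hnil hp
      rwa [hcK] at this
  have h7 := H12.Core.IsComplIn_card hP.W₁_compl
  have hw3 := three_W1 h0.toPT
  have hp3 := three_W2 h0.toPT
  have hwo := odd_W1 h0.toPT
  have hpo := odd_W2 h0.toPT
  rw [hcK, ← h7] at hcop2
  have hG0 : (0 : ℝ) < Nat.card G := by exact_mod_cast Nat.card_pos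
  refine arith_final (g := Nat.card G) (c := (Cop (G := G) (Nat.card W₁)).card) (k := Nat.card ↥⁅M, M⁆) (p := Nat.card W₂) (w := Nat.card W₁)
    (v := Nat.card V) hG0 (by exact_mod_cast hp3) ?_ (by exact_mod_cast hv) ?_ ?_ hts
  · by_cases h5 : 5 ≤ Nat.card W₁
    · right; exact_mod_cast h5
    · left
      have h6 : Nat.card W₁ = 3 := by
        rw [Nat.odd_iff] at hwo
        omega
      refine ⟨by exact_mod_cast h6, ?_⟩
      have h8 : Nat.card W₂ ≠ 3 := by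
        intro h9
        rw [h6, h9] at hcop
        norm_num at hcop
      have h9 : 5 ≤ Nat.card W₂ := by
        rw [Nat.odd_iff] at hpo
        omega
      exact_mod_cast h9
  · have h8 := (Nat.cast_le (α := ℝ)).2 hbound
    rw [Nat.cast_mul, Nat.cast_pow, Nat.cast_sub (by omega)] at h8
    push_cast at h8
    exact h8
  · rw [Nat.cast_mul] at hcop2
    rw [mul_comm (Nat.card W₁ : ℝ)]
    exact hcop2

theorem noncoh [Fintype G] (hG : IsMinSimpleOddOrder G) (M : Subgroup G) [Fintype M] (hM : IsCoatom M)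
    (h345 : IsOfTypeIII M ∨ IsOfTypeIV M ∨ IsOfTypeV M) :
    ¬ IsCoherent (inducedIrrAbove (⁅M, M⁆.subgroupOf M) ⊥) {1}ᶜ (dadeIsometry (H12.Ty.tA0 M) M (supportR M)) := by
  obtain ⟨W₁, U, W₂, hP⟩ : ∃ W₁ U W₂, IsTypePWith M W₁ U W₂ := by
    rcases h345 with ⟨a, b, c, h, -⟩ | ⟨a, b, c, h, -⟩ | ⟨a, b, c, h, -⟩
    · exact ⟨a, b, c, h⟩
    · exact ⟨a, b, c, h⟩
    · exact ⟨a, b, c, h⟩
  exact noncoh_P hG hM hP h345

/-- **[C108]** -/
theorem c108 [Fintype G] (hG : IsMinSimpleOddOrder G) (M : Subgroup G) [Fintype M] (hM : IsCoatom M) (h34 : IsOfTypeIII M ∨ IsOfTypeIV M) :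
    ¬ IsCoherent (inducedIrrAbove (⁅M, M⁆.subgroupOf M) ⊥) {1}ᶜ (dadeIsometry (H12.Ty.tA0 M) M (supportR M)) :=
  noncoh hG M hM (h34.elim Or.inl fun h => Or.inr (Or.inl h))

end Main

end Cfsg.Agent.H10.PrF7
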