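import Mathlib
import Cfsg.Prelude.Def_Transfer
import Cfsg.Agent.H10_PPart
import Cfsg.Agent.H10_Homo
import Cfsg.Agent.H4_Util
import Cfsg.Agent.H2_Fusion3

/-!
H10_Q8: Sylow 2-subgroups which are quaternion of order eight.
-/

set_option autoImplicit false
set_option linter.style.haveILetI false
set_option linter.unusedSectionVars false

namespace Cfsg.Agent.H10.Q8

open Cfsg.Agent.H10.PPart Cfsg.Agent.H10.Homo

section quat

abbrev Q := QuaternionGroup 2
abbrev T : Q := QuaternionGroup.a 2

instance : DecidableEq Q := inferInstance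

theorem q1 : T ≠ 1 ∧ T * T = 1 ∧ (∀ x : Q, x * T = T * x) ∧ (∀ x : Q, x = 1 ∨ x = T ∨ x * x = T) := by
  decide

theorem q2 : ∀ x y : Q, x * x = T → y * y = T → y = x ∨ y = x * T ∨ x * y * x⁻¹ = y * T := by decide

set_option maxRecDepth 4000 in
theorem q3 : ∀ x y z : Q, x * x = T → y * y = T → z * z = T → y = x ∨ y = x * T ∨
    z = x ∨ z = x * T ∨ z = y ∨ z = y * T ∨ z = x * y ∨ z = x * y * T := by decide

theorem q4 : ∃ x y : Q, x * x = T ∧ y * y = T ∧ y ≠ x ∧ y ≠ x * T := by decide

end quat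


variable {G : Type*} [Group G]

/-- quaternion data -/
structure QD (S : Subgroup G) (t : G) : Prop where
  ht : t ∈ S
  t1 : t ≠ 1
  tt : t * t = 1
  tc : ∀ x ∈ S, x * t = t * x
  cs : ∀ x ∈ S, x = 1 ∨ x = t ∨ x * x = t
  f2 : ∀ x ∈ S, ∀ y ∈ S, x * x = t → y * y = t → y = x ∨ y = x * t ∨ x * y * x⁻¹ = y * t
  f3 : ∀ x ∈ S, ∀ y ∈ S, ∀ z ∈ S, x * x = t → y * y = t → z * z = t → y = x ∨ y = x * t ∨
    z = x ∨ z = x * t ∨ z = y ∨ z = y * t ∨ z = x * y ∨ z = x * y * t
  f4 : ∃ x ∈ S, ∃ y ∈ S, x * x = t ∧ y * y = t ∧ y ≠ x ∧ y ≠ x * t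
  card : Nat.card S = 8

theorem QD.of_equiv {S : Subgroup G} (e : S ≃* QuaternionGroup 2) : ∃ t, QD S t := by
  set t : S := e.symm T with ht
  have het : e t = T := by rw [ht]; exact e.apply_symm_apply T
  have hval : ∀ {a b : S}, (a : G) = b ↔ a = b := fun {a b} => Subtype.ext_iff.symm
  have hinj : ∀ {a b : S}, a = b ↔ e a = e b := fun {a b} => e.injective.eq_iff.symm
  refine ⟨t, t.2, ?_, ?_, ?_, ?_, ?_, ?_, ?_, ?_⟩
  · rw [← Subgroup.coe_one S, Ne, hval, hinj, het, map_one]; exact q1.1
  · rw [← Subgroup.coe_mul, ← Subgroup.coe_one S, hval, hinj, map_mul, het, map_one]; exact q1.2.1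
  · intro x hx
    lift x to S using hx
    rw [← Subgroup.coe_mul, ← Subgroup.coe_mul, hval, hinj, map_mul, map_mul, het]
    exact q1.2.2.1 _
  · intro x hx
    lift x to S using hx
    rw [← Subgroup.coe_mul, ← Subgroup.coe_one S, hval, hval, hval, hinj, hinj, hinj, map_mul, het, map_one]
    exact q1.2.2.2 _
  · intro x hx y hy
    lift x to S using hx
    lift y to S using hy
    simp only [← Subgroup.coe_mul, ← Subgroup.coe_inv, hval, hinj, map_mul, map_inv, het]
    exact q2 _ _
  · intro x hx y hy z hz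
    lift x to S using hx
    lift y to S using hy
    lift z to S using hz
    simp only [← Subgroup.coe_mul, ← Subgroup.coe_inv, hval, hinj, map_mul, map_inv, het]
    exact q3 _ _ _
  · obtain ⟨x, y, h1, h2, h3, h4⟩ := q4
    refine ⟨e.symm x, (e.symm x).2, e.symm y, (e.symm y).2, ?_, ?_, ?_, ?_⟩
    · rw [← Subgroup.coe_mul, hval, ← map_mul, h1]
    · rw [← Subgroup.coe_mul, hval, ← map_mul, h2]
    · rw [Ne, hval]; exact fun h => h3 (e.symm.injective h)
    · rw [ht, ← Subgroup.coe_mul, Ne, hval, ← map_mul]; exact fun h => h4 (e.symm.injective h)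
  · rw [Nat.card_congr e.toEquiv, Nat.card_eq_fintype_card, QuaternionGroup.card]

namespace QD

variable {S : Subgroup G} {t : G}

theorem t_order (h : QD S t) : orderOf t = 2 := orderOf_eq_prime (by rw [sq]; exact h.tt) h.t1

theorem isP (h : QD S t) : IsPGroup 2 S := IsPGroup.of_card (n := 3) (by rw [h.card]; norm_num)

theorem order_four (h : QD S t) {x : G} (hx : x * x = t) : orderOf x = 4 := by
  have h1 : orderOf x = 2 ^ 2 := by
    apply orderOf_eq_prime_pow
    · rw [pow_one, sq, hx]; exact h.t1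
    · rw [show 2 ^ (1 + 1) = 2 + 2 by norm_num, pow_add, sq, hx]; exact h.tt
  rw [h1]; norm_num

theorem unique_invol (h : QD S t) {x : G} (hx : x ∈ S) (h2 : orderOf x = 2) : x = t := by
  rcases h.cs x hx with h1 | h1 | h1
  · rw [h1, orderOf_one] at h2; exact absurd h2 (by norm_num)
  · exact h1
  · rw [h.order_four h1] at h2; exact absurd h2 (by norm_num)

theorem four_iff (h : QD S t) {x : G} (hx : x ∈ S) : x * x = t ↔ orderOf x = 4 := by
  refine ⟨h.order_four, fun h4 => ?_⟩
  rcases h.cs x hx with h1 | h1 | h1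
  · rw [h1, orderOf_one] at h4; exact absurd h4 (by norm_num)
  · rw [h1, h.t_order] at h4; exact absurd h4 (by norm_num)
  · exact h1

theorem comm_t [Finite G] (h : QD S t) {g : G} {Q : Subgroup G} (hQ : Q ≤ S) (hg : g ∈ Subgroup.normalizer (Q : Set G))
    (ht : t ∈ Q) : Commute g t := by
  have h1 : g * t * g⁻¹ ∈ Q := (Subgroup.mem_normalizer_iff.1 hg t).1 ht
  have h2 := h.unique_invol (hQ h1) (by rw [orderOf_conj, h.t_order])
  rwa [mul_inv_eq_iff_eq_mul] at h2

theorem commute_of_approx [Finite G] (h : QD S t) {g x : G} (hg : ¬ 2 ∣ orderOf g) (hgt : Commute g t)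
    (hgx : g * x * g⁻¹ = x ∨ g * x * g⁻¹ = x * t) : Commute g x := by
  rcases hgx with h1 | h1
  · rwa [mul_inv_eq_iff_eq_mul] at h1
  · apply commute_of_sq hg
    have h2 : g * t * g⁻¹ = t := by rw [hgt.eq, mul_inv_cancel_right]
    have h3 : g * g * x * (g * g)⁻¹ = x := by
      calc g * g * x * (g * g)⁻¹ = g * (g * x * g⁻¹) * g⁻¹ := by group
        _ = g * (x * t) * g⁻¹ := by rw [h1]
        _ = (g * x * g⁻¹) * (g * t * g⁻¹) := by group
        _ = x * t * t := by rw [h1, h2]
        _ = x := by rw [mul_assoc, h.tt, mul_one]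
    show g * g * x = x * (g * g)
    rwa [mul_inv_eq_iff_eq_mul] at h3

/-- odd elements normalizing a proper subgroup of S centralize it -/
theorem centralizes_proper [Finite G] (h : QD S t) {Q : Subgroup G} (hQ : Q ≤ S) (hne : Q ≠ S) {g : G}
    (hg : g ∈ Subgroup.normalizer (Q : Set G)) (hgo : ¬ 2 ∣ orderOf g) : g ∈ Subgroup.centralizer (Q : Set G) := by
  classical
  have hcard : Nat.card Q ≤ 4 := by
    have h1 : Nat.card Q ∣ 8 := by rw [← h.card]; exact Subgroup.card_dvd_of_le hQ
    have h2 : Nat.card Q ≠ 8 := by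
      intro h2
      apply hne
      exact Subgroup.eq_of_le_of_card_ge hQ (by rw [h2, h.card])
    have h3 : Nat.card Q ≤ 8 := Nat.le_of_dvd (by norm_num) h1
    by_contra h4
    push Not at h4
    interval_cases hh : Nat.card Q <;> omega
  rw [Subgroup.mem_centralizer_iff]
  intro x hx
  symm
  show Commute g x
  rcases h.cs x (hQ hx) with h1 | h1 | h1
  · rw [h1]; exact Commute.one_right g
  · rw [h1]; exact h.comm_t hQ hg (h1 ▸ hx)
  · have htQ : t ∈ Q := by rw [← h1]; exact Q.mul_mem hx hx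
    apply h.commute_of_approx hgo (h.comm_t hQ hg htQ)
    have hy : g * x * g⁻¹ ∈ Q := (Subgroup.mem_normalizer_iff.1 hg x).1 hx
    by_contra hno
    push Not at hno
    have hx1 : x ≠ 1 := by rintro rfl; rw [mul_one] at h1; exact h.t1 h1.symm
    have hxt : x ≠ t := by rintro rfl; exact h.t1 (h1.symm.trans h.tt)
    have hxt1 : x * t ≠ 1 := by
      intro h2
      have : x = t := by
        calc x = x * (t * t) := by rw [h.tt, mul_one]
          _ = (x * t) * t := by rw [mul_assoc]
          _ = t := by rw [h2, one_mul]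
      exact hxt this
    set y := g * x * g⁻¹ with hyd
    have hyo : orderOf y = 4 := by rw [hyd, orderOf_conj]; exact h.order_four h1
    have hy1 : y ≠ 1 := by intro h2; rw [h2, orderOf_one] at hyo; exact absurd hyo (by norm_num)
    have hyt : y ≠ t := by intro h2; rw [h2, h.t_order] at hyo; exact absurd hyo (by norm_num)
    have hsub : ({1, t, x, x * t, y} : Finset G) ⊆ (Set.toFinite (Q : Set G)).toFinset := by
      intro z hz
      rw [Set.Finite.mem_toFinset]
      simp only [Finset.mem_insert, Finset.mem_singleton] at hz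
      rcases hz with rfl | rfl | rfl | rfl | rfl
      · exact Q.one_mem
      · exact htQ
      · exact hx
      · exact Q.mul_mem hx htQ
      · exact hy
    have hc5 : ({1, t, x, x * t, y} : Finset G).card = 5 := by
      rw [Finset.card_insert_of_notMem, Finset.card_insert_of_notMem, Finset.card_insert_of_notMem,
        Finset.card_insert_of_notMem, Finset.card_singleton]
      · simp only [Finset.mem_singleton]; exact hno.2.symm
      · simp only [Finset.mem_insert, Finset.mem_singleton, not_or]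
        refine ⟨fun h2 => h.t1 ?_, hno.1.symm⟩
        exact mul_eq_left.1 h2.symm
      · simp only [Finset.mem_insert, Finset.mem_singleton, not_or]
        refine ⟨hxt.symm, fun h2 => hx1 ?_, hyt.symm⟩
        exact mul_eq_right.1 h2.symm
      · simp only [Finset.mem_insert, Finset.mem_singleton, not_or]
        exact ⟨h.t1.symm, hx1.symm, hxt1.symm, hy1.symm⟩
    have h6 := Finset.card_le_card hsub
    rw [hc5, ← Set.ncard_eq_toFinset_card] at h6
    rw [← Nat.card_coe_set_eq] at h6
    exact absurd (h6.trans hcard) (by norm_num)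


theorem exists_mover [Finite G] (P : Sylow 2 G) {t : G} (h : QD (P : Subgroup G) t)
    (hnc : ¬ HasNormalPComplement 2 G) :
    ∃ g ∈ Subgroup.normalizer ((P : Subgroup G) : Set G), ¬ 2 ∣ orderOf g ∧ Commute g t ∧
      ∀ x ∈ (P : Subgroup G), x * x = t → ¬ (g * x * g⁻¹ = x ∨ g * x * g⁻¹ = x * t) := by
  obtain ⟨Q, hQ, g, hg, hgo, hgC⟩ : ∃ Q : Subgroup G, Q ≤ P ∧ ∃ g ∈ Subgroup.normalizer (Q : Set G),
      (orderOf g).Coprime 2 ∧ g ∉ Subgroup.centralizer (Q : Set G) := by
    by_contra hno
    push Not at hno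
    exact hnc (Cfsg.Agent.H2.Fusion3.npc_of_frobenius_sylow P fun Q hQ g hg hgo => hno Q hQ g hg hgo)
  have hgo' : ¬ 2 ∣ orderOf g := (Nat.Prime.coprime_iff_not_dvd Nat.prime_two).1 hgo.symm
  have hQP : Q = P := by
    by_contra hne
    exact hgC (h.centralizes_proper hQ hne hg hgo')
  subst hQP
  have hgt : Commute g t := h.comm_t le_rfl hg h.ht
  refine ⟨g, hg, hgo', hgt, ?_⟩
  intro x hx hxx hcon
  have hgx : Commute g x := h.commute_of_approx hgo' hgt hcon
  have e_x : g * x * g⁻¹ = x := by rw [hgx.eq, mul_inv_cancel_right]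
  have e_t : g * t * g⁻¹ = t := by rw [hgt.eq, mul_inv_cancel_right]
  apply hgC
  rw [Subgroup.mem_centralizer_iff]
  intro y hy
  symm
  show Commute g y
  rcases h.cs y hy with h1 | h1 | h1
  · rw [h1]; exact Commute.one_right g
  · rw [h1]; exact hgt
  · set y1 := g * y * g⁻¹ with hy1
    have hy1P : y1 ∈ (P : Subgroup G) := (Subgroup.mem_normalizer_iff.1 hg y).1 hy
    have hy11 : y1 * y1 = t := by
      rw [hy1]
      calc g * y * g⁻¹ * (g * y * g⁻¹) = g * (y * y) * g⁻¹ := by group
        _ = t := by rw [h1, e_t]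
    have key : ∀ z : G, y1 = z → g * z * g⁻¹ = y * t → Commute g y := by
      intro z hz hgz
      apply commute_of_sq hgo'
      have h3 : g * g * y * (g * g)⁻¹ = y * t := by
        calc g * g * y * (g * g)⁻¹ = g * (g * y * g⁻¹) * g⁻¹ := by group
          _ = y * t := by rw [← hy1, hz, hgz]
      apply commute_of_sq (n := g * g)
      · intro hd
        apply hgo'
        have : orderOf (g * g) ∣ orderOf g := by rw [← sq]; exact orderOf_pow_dvd 2
        exact hd.trans this
      · have h4 : g * g * t * (g * g)⁻¹ = t := by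
          calc g * g * t * (g * g)⁻¹ = g * (g * t * g⁻¹) * g⁻¹ := by group
            _ = t := by rw [e_t, e_t]
        have h5 : g * g * (g * g) * y * (g * g * (g * g))⁻¹ = y := by
          calc g * g * (g * g) * y * (g * g * (g * g))⁻¹ = g * g * (g * g * y * (g * g)⁻¹) * (g * g)⁻¹ := by group
            _ = g * g * (y * t) * (g * g)⁻¹ := by rw [h3]
            _ = (g * g * y * (g * g)⁻¹) * (g * g * t * (g * g)⁻¹) := by group
            _ = y * t * t := by rw [h3, h4]
            _ = y := by rw [mul_assoc, h.tt, mul_one]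
        show g * g * (g * g) * y = y * (g * g * (g * g))
        rwa [mul_inv_eq_iff_eq_mul] at h5
    have hxinv : ∀ w : G, g * (x * w) * g⁻¹ = x * (g * w * g⁻¹) := by
      intro w
      calc g * (x * w) * g⁻¹ = (g * x * g⁻¹) * (g * w * g⁻¹) := by group
        _ = _ := by rw [e_x]
    rcases h.f3 x hx y hy y1 hy1P hxx h1 hy11 with h2 | h2 | h2 | h2 | h2 | h2 | h2 | h2
    · rw [h2]; exact hgx
    · rw [h2]; exact hgx.mul_right hgt
    · -- y1 = x
      have : g * y * g⁻¹ = g * x * g⁻¹ := by rw [← hy1, h2, e_x]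
      rw [mul_left_cancel (mul_right_cancel this)]; exact hgx
    · have : g * y * g⁻¹ = g * (x * t) * g⁻¹ := by rw [hxinv, e_t, ← hy1, h2]
      rw [mul_left_cancel (mul_right_cancel this)]; exact hgx.mul_right hgt
    · exact h.commute_of_approx hgo' hgt (Or.inl h2)
    · exact h.commute_of_approx hgo' hgt (Or.inr h2)
    · apply key _ h2
      rw [hxinv, ← hy1, h2, ← mul_assoc, hxx, h.tc y hy]
    · apply key _ h2
      have e1 : g * (x * y * t) * g⁻¹ = x * (g * y * g⁻¹) * (g * t * g⁻¹) := by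
        rw [mul_assoc x y t, hxinv]; group
      rw [e1, e_t, ← hy1, h2]
      calc x * (x * y * t) * t = (x * x) * y * (t * t) := by group
        _ = y * t := by rw [hxx, h.tt, mul_one, h.tc y hy]

/-- N(P) moves any element of order four to any other, up to inversion -/
theorem trans_four [Finite G] (P : Sylow 2 G) {t : G} (h : QD (P : Subgroup G) t)
    (hnc : ¬ HasNormalPComplement 2 G) {x y : G} (hx : x ∈ (P : Subgroup G)) (hxx : x * x = t)
    (hy : y ∈ (P : Subgroup G)) (hyy : y * y = t) :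
    ∃ n ∈ Subgroup.normalizer ((P : Subgroup G) : Set G), y = n * x * n⁻¹ ∨ y = n * x * n⁻¹ * t := by
  obtain ⟨g, hg, hgo, hgt, hmove⟩ := exists_mover P h hnc
  have e_t : g * t * g⁻¹ = t := by rw [hgt.eq, mul_inv_cancel_right]
  by_cases hxy : y = x ∨ y = x * t
  · refine ⟨1, Subgroup.one_mem _, ?_⟩
    simpa using hxy
  push Not at hxy
  set x1 := g * x * g⁻¹ with hx1
  have hx1P : x1 ∈ (P : Subgroup G) := (Subgroup.mem_normalizer_iff.1 hg x).1 hx
  have hx11 : x1 * x1 = t := by
    rw [hx1]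
    calc g * x * g⁻¹ * (g * x * g⁻¹) = g * (x * x) * g⁻¹ := by group
      _ = t := by rw [hxx, e_t]
  set x2 := g * x1 * g⁻¹ with hx2
  have hx2P : x2 ∈ (P : Subgroup G) := (Subgroup.mem_normalizer_iff.1 hg x1).1 hx1P
  have hx22 : x2 * x2 = t := by
    rw [hx2]
    calc g * x1 * g⁻¹ * (g * x1 * g⁻¹) = g * (x1 * x1) * g⁻¹ := by group
      _ = t := by rw [hx11, e_t]
  have hm0 := hmove x hx hxx
  have hm1 := hmove x1 hx1P hx11
  rw [← hx1] at hm0
  rw [← hx2] at hm1
  push Not at hm0 hm1
  have hm2 : ¬ (x2 = x ∨ x2 = x * t) := by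
    intro hcon
    have hgg : ¬ 2 ∣ orderOf (g * g) := by
      intro hd
      apply hgo
      have : orderOf (g * g) ∣ orderOf g := by rw [← sq]; exact orderOf_pow_dvd 2
      exact hd.trans this
    have h3 : g * g * x * (g * g)⁻¹ = x2 := by rw [hx2, hx1]; group
    have h4 : Commute (g * g) x := by
      apply h.commute_of_approx hgg (hgt.mul_left hgt)
      rw [h3]; exact hcon
    have h5 : Commute g x := commute_of_sq hgo h4
    apply hm0.1
    rw [hx1, h5.eq, mul_inv_cancel_right]
  push Not at hm2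
  -- x2 ≈ x * x1
  have hxx1t : ∀ z : G, z = x * x1 ∨ z = x * x1 * t → x2 = x * x1 ∨ x2 = x * x1 * t → z = x2 ∨ z = x2 * t := by
    intro z hz hz2
    rcases hz with hz | hz <;> rcases hz2 with hz2 | hz2 <;> rw [hz, hz2]
    · left; rfl
    · right; rw [mul_assoc, h.tt, mul_one]
    · right; rfl
    · left; rfl
  have hx2' : x2 = x * x1 ∨ x2 = x * x1 * t := by
    rcases h.f3 x hx x1 hx1P x2 hx2P hxx hx11 hx22 with h2 | h2 | h2 | h2 | h2 | h2 | h2 | h2
    · exact absurd h2 hm0.1
    · exact absurd h2 hm0.2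
    · exact absurd h2 hm2.1
    · exact absurd h2 hm2.2
    · exact absurd h2 hm1.1
    · exact absurd h2 hm1.2
    · exact Or.inl h2
    · exact Or.inr h2
  have hy' : y = x1 ∨ y = x1 * t ∨ y = x2 ∨ y = x2 * t := by
    rcases h.f3 x hx x1 hx1P y hy hxx hx11 hyy with h2 | h2 | h2 | h2 | h2 | h2 | h2 | h2
    · exact absurd h2 hm0.1
    · exact absurd h2 hm0.2
    · exact absurd h2 hxy.1
    · exact absurd h2 hxy.2
    · exact Or.inl h2
    · exact Or.inr (Or.inl h2)
    · exact Or.inr (Or.inr (hxx1t y (Or.inl h2) hx2'))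
    · exact Or.inr (Or.inr (hxx1t y (Or.inr h2) hx2'))
  rcases hy' with h2 | h2 | h2 | h2
  · exact ⟨g, hg, Or.inl h2⟩
  · exact ⟨g, hg, Or.inr h2⟩
  · refine ⟨g * g, Subgroup.mul_mem _ hg hg, Or.inl ?_⟩
    rw [h2, hx2, hx1]; group
  · refine ⟨g * g, Subgroup.mul_mem _ hg hg, Or.inr ?_⟩
    rw [h2, hx2, hx1]; group


theorem sub_four [Finite G] {S : Subgroup G} {t : G} (h : QD S t) {A : Subgroup G} (hA : A ≤ S)
    (hA4 : Nat.card A = 4) : ∃ x ∈ A, x * x = t ∧ A = Subgroup.zpowers x := by
  classical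
  obtain ⟨x, hx, hxx⟩ : ∃ x ∈ A, x * x = t := by
    by_contra hno
    push Not at hno
    have hsub : (A : Set G) ⊆ {1, t} := by
      intro z hz
      rcases h.cs z (hA hz) with h1 | h1 | h1
      · left; exact h1
      · right; exact h1
      · exact absurd h1 (hno z hz)
    have h1 := Set.ncard_le_ncard hsub (Set.toFinite _)
    have h2 : ({1, t} : Set G).ncard ≤ 2 := by
      have : ({1, t} : Set G) = (({1, t} : Finset G) : Set G) := by simp
      rw [this, Set.ncard_coe_finset]; exact Finset.card_le_two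
    rw [← Nat.card_coe_set_eq] at h1
    have h3 : Nat.card A ≤ 2 := h1.trans h2
    omega
  refine ⟨x, hx, hxx, ?_⟩
  symm
  apply Subgroup.eq_of_le_of_card_ge
  · rw [Subgroup.zpowers_le]; exact hx
  · rw [hA4, Nat.card_zpowers, h.order_four hxx]

theorem sub_conj [Finite G] (P : Sylow 2 G) {t : G} (h : QD (P : Subgroup G) t)
    (hnc : ¬ HasNormalPComplement 2 G) {A B : Subgroup G} (hA : A ≤ P) (hB : B ≤ P)
    (hA4 : Nat.card A = 4) (hB4 : Nat.card B = 4) :
    ∃ n ∈ Subgroup.normalizer ((P : Subgroup G) : Set G), B = A.map (MulAut.conj n).toMonoidHom := by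
  obtain ⟨x, hx, hxx, hAx⟩ := sub_four h hA hA4
  obtain ⟨y, hy, hyy, hBy⟩ := sub_four h hB hB4
  obtain ⟨n, hn, hyn⟩ := trans_four P h hnc (hA hx) hxx (hB hy) hyy
  refine ⟨n, hn, ?_⟩
  have hz : n * x * n⁻¹ ∈ B := by
    rcases hyn with h1 | h1
    · rw [← h1]; exact hy
    · have htB : t ∈ B := by rw [← hyy]; exact B.mul_mem hy hy
      have : n * x * n⁻¹ = y * t := by rw [h1, mul_assoc (n * x * n⁻¹), h.tt, mul_one]
      rw [this]; exact B.mul_mem hy htB
  have ho : orderOf (n * x * n⁻¹) = 4 := by rw [orderOf_conj, h.order_four hxx]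
  have e1 : Subgroup.zpowers (n * x * n⁻¹) = B := by
    apply Subgroup.eq_of_le_of_card_ge
    · rw [Subgroup.zpowers_le]; exact hz
    · rw [hB4, Nat.card_zpowers, ho]
  have e2 : Subgroup.zpowers (n * x * n⁻¹) = A.map (MulAut.conj n).toMonoidHom := by
    apply Subgroup.eq_of_le_of_card_ge
    · rw [Subgroup.zpowers_le]; exact ⟨x, hx, rfl⟩
    · rw [Subgroup.card_map_of_injective (MulAut.conj n).injective, hA4, Nat.card_zpowers, ho]
  rw [← e1, e2]

theorem of_sylow [Finite G] (P P' : Sylow 2 G) (e : (P : Subgroup G) ≃* QuaternionGroup 2) :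
    ∃ t, QD (P' : Subgroup G) t :=
  QD.of_equiv ((Sylow.equiv P' P).trans e)

/-- every element of 2-power order of G lies in a Sylow subgroup with quaternion data -/
theorem exists_sylow_mem [Finite G] (P : Sylow 2 G) (e : (P : Subgroup G) ≃* QuaternionGroup 2)
    {K : Subgroup G} (hK : IsPGroup 2 K) : ∃ P' : Sylow 2 G, K ≤ P' ∧ ∃ t, QD (P' : Subgroup G) t := by
  obtain ⟨P', hP'⟩ := hK.exists_le_sylow
  exact ⟨P', hP', of_sylow P P' e⟩

/-- the centralizer of an element of order four has a normal 2-complement of index four -/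
theorem compl_four [Finite G] (P : Sylow 2 G) (e : (P : Subgroup G) ≃* QuaternionGroup 2) {x : G}
    (hx : orderOf x = 4) : ∃ K : Subgroup (Subgroup.centralizer ({x} : Set G)), K.Normal ∧
      ¬ 2 ∣ Nat.card K ∧ K.index = 4 := by
  obtain ⟨R⟩ : Nonempty (Sylow 2 (Subgroup.centralizer ({x} : Set G))) := inferInstance
  have hRmap : IsPGroup 2 ((R : Subgroup (Subgroup.centralizer ({x} : Set G))).map (Subgroup.centralizer ({x} : Set G)).subtype) :=
    R.isPGroup'.map _
  obtain ⟨P', hP', t, h⟩ := exists_sylow_mem P e hRmap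
  have hxC : x ∈ Subgroup.centralizer ({x} : Set G) := Subgroup.mem_centralizer_singleton_iff.2 rfl
  have hxR : (⟨x, hxC⟩ : Subgroup.centralizer ({x} : Set G)) ∈ (R : Subgroup (Subgroup.centralizer ({x} : Set G))) := by
    apply Cfsg.Agent.H4.Util.mem_sylow_of_central R (k := 2)
    · intro g
      apply Subtype.ext
      exact Subgroup.mem_centralizer_singleton_iff.1 g.2
    · rw [Subgroup.orderOf_mk, hx]; norm_num
  have hxP : x ∈ (P' : Subgroup G) := hP' ⟨_, hxR, rfl⟩
  have hxx : x * x = t := (h.four_iff hxP).2 hx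
  -- every element of R is 1, t, x or x t
  have hR : ∀ r ∈ (R : Subgroup (Subgroup.centralizer ({x} : Set G))), (r : G) = 1 ∨ (r : G) = t ∨ (r : G) = x ∨ (r : G) = x * t := by
    intro r hr
    have hrP : (r : G) ∈ (P' : Subgroup G) := hP' ⟨r, hr, rfl⟩
    rcases h.cs r hrP with h1 | h1 | h1
    · exact Or.inl h1
    · exact Or.inr (Or.inl h1)
    · rcases h.f2 x hxP r hrP hxx h1 with h2 | h2 | h2
      · exact Or.inr (Or.inr (Or.inl h2))
      · exact Or.inr (Or.inr (Or.inr h2))
      · exfalso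
        have h3 : (r : G) * x = x * r := Subgroup.mem_centralizer_singleton_iff.1 r.2
        rw [← h3, mul_inv_cancel_right] at h2
        exact h.t1 (mul_eq_left.1 h2.symm)
  have hcentral : ∀ r ∈ (R : Subgroup (Subgroup.centralizer ({x} : Set G))), ∀ g : Subgroup.centralizer ({x} : Set G), g * r = r * g := by
    intro r hr g
    apply Subtype.ext
    show (g : G) * r = r * g
    have hgx : (g : G) * x = x * g := Subgroup.mem_centralizer_singleton_iff.1 g.2
    have hgt : (g : G) * t = t * g := by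
      rw [← hxx]
      calc (g : G) * (x * x) = (g * x) * x := by rw [mul_assoc]
        _ = x * (g * x) := by rw [hgx, mul_assoc]; rw [hgx]
        _ = x * x * g := by rw [hgx, mul_assoc]
    rcases hR r hr with h1 | h1 | h1 | h1
    · rw [h1, mul_one, one_mul]
    · rw [h1, hgt]
    · rw [h1, hgx]
    · rw [h1]
      calc (g : G) * (x * t) = (g * x) * t := by group
        _ = x * (g * t) := by rw [hgx]; group
        _ = x * t * g := by rw [hgt]; group
  have hN : Subgroup.normalizer ((R : Subgroup (Subgroup.centralizer ({x} : Set G))) : Set (Subgroup.centralizer ({x} : Set G))) ≤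
      Subgroup.centralizer ((R : Subgroup (Subgroup.centralizer ({x} : Set G))) : Set (Subgroup.centralizer ({x} : Set G))) := by
    intro g _
    rw [Subgroup.mem_centralizer_iff]
    intro r hr
    exact (hcentral r hr g).symm
  refine ⟨(MonoidHom.transferSylow R hN).ker, inferInstance, MonoidHom.not_dvd_card_ker_transferSylow R hN, ?_⟩
  rw [(MonoidHom.ker_transferSylow_isComplement' R hN).symm.index_eq_card]
  have h5 : (R : Subgroup (Subgroup.centralizer ({x} : Set G))) = Subgroup.zpowers (⟨x, hxC⟩ : Subgroup.centralizer ({x} : Set G)) := by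
    apply le_antisymm
    · intro r hr
      have hx2 : (⟨x, hxC⟩ : Subgroup.centralizer ({x} : Set G)) * ⟨x, hxC⟩ = (⟨t, by
          rw [← hxx]; exact Subgroup.mul_mem _ hxC hxC⟩ : Subgroup.centralizer ({x} : Set G)) := Subtype.ext hxx
      rcases hR r hr with h1 | h1 | h1 | h1
      · have : r = 1 := Subtype.ext h1
        rw [this]; exact Subgroup.one_mem _
      · refine ⟨2, ?_⟩
        apply Subtype.ext
        show x ^ (2 : ℤ) = (r : G)
        rw [h1, ← hxx]; exact (zpow_natCast x 2).trans (pow_two x)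
      · refine ⟨1, ?_⟩
        apply Subtype.ext
        show x ^ (1 : ℤ) = (r : G)
        rw [h1, zpow_one]
      · refine ⟨3, ?_⟩
        apply Subtype.ext
        show x ^ (3 : ℤ) = (r : G)
        rw [h1, ← hxx, ← mul_assoc]
        exact (zpow_natCast x 3).trans (pow_three' x)
    · rw [Subgroup.zpowers_le]; exact hxR
  rw [h5, Nat.card_zpowers, Subgroup.orderOf_mk, hx]

/-- all involutions are conjugate -/
theorem conj_two [Finite G] (P : Sylow 2 G) {t : G} (h : QD (P : Subgroup G) t) {s : G} (hs : orderOf s = 2) :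
    IsConj s t := by
  obtain ⟨a, ha⟩ := conj_into_sylow P (s := s) ⟨1, by rw [hs, pow_one]⟩
  have := h.unique_invol ha (by rw [orderOf_conj, hs])
  exact isConj_iff.2 ⟨a, this⟩

/-- all elements of order four are conjugate -/
theorem conj_four [Finite G] (P : Sylow 2 G) {t : G} (h : QD (P : Subgroup G) t)
    (hnc : ¬ HasNormalPComplement 2 G) {x y : G} (hx : orderOf x = 4) (hy : orderOf y = 4) : IsConj x y := by
  have key : ∀ u : G, orderOf u = 4 → ∃ v ∈ (P : Subgroup G), v * v = t ∧ IsConj u v := by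
    intro u hu
    obtain ⟨a, ha⟩ := conj_into_sylow P (s := u) ⟨2, by rw [hu]; norm_num⟩
    exact ⟨_, ha, (h.four_iff ha).2 (by rw [orderOf_conj, hu]), isConj_iff.2 ⟨a, rfl⟩⟩
  obtain ⟨x', hx', hxx, hxc⟩ := key x hx
  obtain ⟨y', hy', hyy, hyc⟩ := key y hy
  obtain ⟨n, hn, h1⟩ := trans_four P h hnc hx' hxx hy' hyy
  have h2 : IsConj x' y' := by
    rcases h1 with h1 | h1
    · exact isConj_iff.2 ⟨n, h1.symm⟩
    · -- y' = (n x' n⁻¹) t; invert using an element of P
      have hyt : n * x' * n⁻¹ = y' * t := by rw [h1, mul_assoc (n * x' * n⁻¹), h.tt, mul_one]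
      obtain ⟨u, hu, v, hv, huu, hvv, huv1, huv2⟩ := h.f4
      -- find w in P with w y' w⁻¹ = y' t
      have hw : ∃ w : G, w * y' * w⁻¹ = y' * t := by
        rcases h.f2 u hu y' hy' huu hyy with h3 | h3 | h3
        · rcases h.f2 v hv y' hy' hvv hyy with h4 | h4 | h4
          · exact absurd (h4.symm.trans h3) huv1
          · exfalso
            apply huv2
            rw [← h3, h4, mul_assoc, h.tt, mul_one]
          · exact ⟨v, h4⟩
        · rcases h.f2 v hv y' hy' hvv hyy with h4 | h4 | h4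
          · exact absurd (h4.symm.trans h3) huv2
          · exfalso
            apply huv1
            have : v * t = u * t := h4.symm.trans h3
            exact mul_right_cancel this
          · exact ⟨v, h4⟩
        · exact ⟨u, h3⟩
      obtain ⟨w, hw⟩ := hw
      have h5 : IsConj x' (y' * t) := isConj_iff.2 ⟨n, hyt⟩
      have h6 : IsConj y' (y' * t) := isConj_iff.2 ⟨w, hw⟩
      exact h5.trans h6.symm
  exact (hxc.trans h2).trans hyc.symm

end QD

end Cfsg.Agent.H10.Q8
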