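import Cfsg.Agent.H11_PT4

set_option autoImplicit false
open Cfsg

/-!
`IsComponentOf` (component of a subgroup): conjugation, commuting.
-/

namespace Cfsg.Agent.H11.CompOf

universe u

open Subgroup Cfsg.Agent.H11.Cores Cfsg.Agent.H11.Components Cfsg.Agent.H13.Syl

variable {G : Type u} [Group G]

theorem isComponentOf_cj {K H : Subgroup G} (h : IsComponentOf K H) (g : G) :
    IsComponentOf (cj g K) (cj g H) := by
  refine ⟨cj_mono h.1, ?_⟩
  let e : H ≃* ↥(cj g H) := H.equivMapOfInjective (MulAut.conj g).toMonoidHom (MulAut.conj g).injective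
  have h1 := (isComponent_map_equiv e (K.subgroupOf H)).mpr h.2
  have h2 : (K.subgroupOf H).map e.toMonoidHom = (cj g K).subgroupOf (cj g H) := by
    ext x
    constructor
    · rintro ⟨y, hy, rfl⟩
      rw [mem_subgroupOf]
      exact ⟨y, mem_subgroupOf.mp hy, rfl⟩
    · intro hx
      rw [mem_subgroupOf] at hx
      obtain ⟨k, hk, hkx⟩ := hx
      refine ⟨⟨k, h.1 hk⟩, mem_subgroupOf.mpr hk, ?_⟩
      apply Subtype.ext
      exact hkx
  rwa [h2] at h1

theorem commutator_of_ne [Finite G] {K L H : Subgroup G} (hK : IsComponentOf K H)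
    (hL : IsComponentOf L H) (hne : K ≠ L) : ⁅K, L⁆ = ⊥ := by
  have h1 : K.subgroupOf H ≠ L.subgroupOf H := by
    intro h
    apply hne
    have := congrArg (Subgroup.map H.subtype) h
    rwa [map_subgroupOf_eq_of_le hK.1, map_subgroupOf_eq_of_le hL.1] at this
  exact (commutator_subgroupOf_eq_bot_iff hK.1 hL.1).mp (commutator_eq_bot_of_ne hK.2 hL.2 h1)

theorem isQuasisimple_of {K H : Subgroup G} (hK : IsComponentOf K H) : IsQuasisimple K :=
  IsQuasisimple.of_mulEquiv hK.2.2 (subgroupOfEquivOfLe hK.1)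

theorem mono_of {K H M : Subgroup G} (hK : IsComponentOf K H) (hKM : K ≤ M) (hMH : M ≤ H) :
    IsComponentOf K M := by
  refine ⟨hKM, ?_⟩
  have h1 : (M.subgroupOf H : Subgroup H) = M.subgroupOf H := rfl
  have h2 : IsComponent ((K.subgroupOf H).subgroupOf (M.subgroupOf H)) :=
    IsComponent.subgroupOf hK.2 (by
      intro x hx
      rw [mem_subgroupOf] at hx ⊢
      exact hKM hx)
  let e : ↥(M.subgroupOf H) ≃* M := subgroupOfEquivOfLe hMH
  have h3 := (isComponent_map_equiv e _).mpr h2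
  have h4 : ((K.subgroupOf H).subgroupOf (M.subgroupOf H)).map e.toMonoidHom = K.subgroupOf M := by
    ext x
    constructor
    · rintro ⟨y, hy, rfl⟩
      have hy' : y ∈ (K.subgroupOf H).subgroupOf (M.subgroupOf H) := hy
      rw [mem_subgroupOf] at hy' ⊢
      exact mem_subgroupOf.mp hy'
    · intro hx
      rw [mem_subgroupOf] at hx
      refine ⟨⟨⟨x, hMH x.2⟩, mem_subgroupOf.mpr x.2⟩, ?_, rfl⟩
      change _ ∈ (K.subgroupOf H).subgroupOf (M.subgroupOf H)
      rw [mem_subgroupOf, mem_subgroupOf]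
      exact hx
  rwa [h4] at h3

end Cfsg.Agent.H11.CompOf
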