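import Mathlib
import Cfsg.Prelude.Def_Local
import Cfsg.Agent.H11_LB

/-!
# Pump-ups: the position of a `p`-component of `C_G(x)` inside the layer of `G`
-/

set_option autoImplicit false
set_option linter.all false

namespace Cfsg.Agent.H11.Dich

universe u v

open Subgroup Cfsg Cfsg.Agent.H11.Cores Cfsg.Agent.H11.Components Cfsg.Agent.H11.FStar
  Cfsg.Agent.H11.AxB Cfsg.Agent.H11.Local Cfsg.Agent.H13.Syl
  Cfsg.Agent.H11.PComp Cfsg.Agent.H11.Bal Cfsg.Agent.H11.PT Cfsg.Agent.H11.LB
open scoped commutatorElement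

variable {G : Type u} [Group G]

/-- The orbit product. -/
abbrev EO (x : G) (D : Subgroup G) : Subgroup G := EL (zpowers x) D

theorem cj_EO (x : G) (D : Subgroup G) : cj x (EO x D) = EO x D :=
  cj_EL_of_mem (mem_zpowers x)

theorem EO_eq_of_conj {x : G} {D M : Subgroup G} (h : ∃ u ∈ zpowers x, M = cj u D) :
    EO x M = EO x D := by
  obtain ⟨u, hu, rfl⟩ := h
  have h1 := cj_EL (P := zpowers x) (L := D) (x := u) (le_normalizer hu)
  rw [cj_EL_of_mem hu] at h1
  exact h1.symm

theorem layer_le_sup [Finite G] {x : G} {D : Subgroup G} (hD : IsComponent D) :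
    layer G ≤ EO x D ⊔ centralizer (EO x D : Set G) := by
  rw [layer_le_iff]
  intro M hM
  by_cases h : ∃ u ∈ zpowers x, M = cj u D
  · obtain ⟨u, hu, rfl⟩ := h
    exact (cj_le_EL hu).trans le_sup_left
  · have h1 := commute_EL hD hM h
    rw [commutator_eq_bot_iff_le_centralizer] at h1
    exact ((le_EL (zpowers x) M).trans h1).trans le_sup_right

/-- Perfect subgroups of the layer centralizing `x` are "diagonal" on each orbit. -/
theorem le_fixed_sup [Finite G] {x : G} {K D : Subgroup G} (hD : IsComponent D)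
    (hK : ⁅K, K⁆ = K) (hKl : K ≤ layer G) (hKx : K ≤ centralizer ({x} : Set G)) :
    K ≤ (EO x D ⊓ centralizer ({x} : Set G)) ⊔ centralizer (EO x D : Set G) := by
  have hEn : EO x D ≤ normalizer (EO x D : Set G) := le_normalizer
  have hCn : centralizer (EO x D : Set G) ≤ normalizer (EO x D : Set G) :=
    centralizer_le_normalizer _
  have hdec : ∀ k ∈ K, ∃ e ∈ EO x D, ∃ r ∈ centralizer (EO x D : Set G), k = e * r := by
    intro k hk
    have h1 := layer_le_sup (x := x) hD (hKl hk)
    rw [Cfsg.Agent.H1.Basic.mem_sup_iff_of_le_normalizer hCn] at h1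
    obtain ⟨e, he, r, hr, h2⟩ := h1
    exact ⟨e, he, r, hr, h2.symm⟩
  have hxE : ∀ e ∈ EO x D, x * e * x⁻¹ ∈ EO x D := by
    intro e he
    have := conj_mem_cj (g := x) he
    rwa [cj_EO] at this
  have hxC : ∀ r ∈ centralizer (EO x D : Set G), x * r * x⁻¹ ∈ centralizer (EO x D : Set G) := by
    intro r hr
    have := conj_mem_cj (g := x) hr
    rwa [cj_centralizer, cj_EO] at this
  -- `[e, x]` is central
  have hz : ∀ k ∈ K, ∀ e ∈ EO x D, ∀ r ∈ centralizer (EO x D : Set G), k = e * r →
      ∃ z ∈ EO x D ⊓ centralizer (EO x D : Set G), x * e * x⁻¹ = e * z := by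
    intro k hk e he r hr hker
    have m1 : e⁻¹ * (x * e * x⁻¹) ∈ EO x D := mul_mem (inv_mem he) (hxE e he)
    refine ⟨e⁻¹ * (x * e * x⁻¹), ⟨m1, ?_⟩, by group⟩
    have h1 : k * x = x * k := mem_centralizer_singleton_iff.mp (hKx hk)
    have h2 : x * k * x⁻¹ = k := by rw [← h1]; group
    have h3 : e⁻¹ * (x * e * x⁻¹) = r * (x * r * x⁻¹)⁻¹ := by
      have h4 : (x * e * x⁻¹) * (x * r * x⁻¹) = e * r := by
        rw [← hker, ← h2, hker]; group
      calc e⁻¹ * (x * e * x⁻¹) = e⁻¹ * ((x * e * x⁻¹) * (x * r * x⁻¹)) * (x * r * x⁻¹)⁻¹ := by group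
        _ = e⁻¹ * (e * r) * (x * r * x⁻¹)⁻¹ := by rw [h4]
        _ = _ := by group
    show e⁻¹ * (x * e * x⁻¹) ∈ centralizer (EO x D : Set G)
    rw [h3]
    exact mul_mem hr (inv_mem (hxC r hr))
  conv_lhs => rw [← hK]
  rw [commutator_le]
  intro k hk k' hk'
  obtain ⟨e, he, r, hr, hker⟩ := hdec k hk
  obtain ⟨e', he', r', hr', hker'⟩ := hdec k' hk'
  obtain ⟨z, hzm, hez⟩ := hz k hk e he r hr hker
  obtain ⟨z', hzm', hez'⟩ := hz k' hk' e' he' r' hr' hker'
  have c1 : ∀ a ∈ EO x D, ∀ b ∈ centralizer (EO x D : Set G), Commute a b :=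
    fun a ha b hb => mem_centralizer_iff.mp hb a ha
  have hsplit : ⁅k, k'⁆ = ⁅e, e'⁆ * ⁅r, r'⁆ := by
    rw [hker, hker', commutatorElement_def, commutatorElement_def, commutatorElement_def]
    have a1 := c1 e' he' r hr
    have a2 := c1 e he r hr
    have a3 := c1 e' he' r' hr'
    have a4 := c1 e he r' hr'
    calc e * r * (e' * r') * (e * r)⁻¹ * (e' * r')⁻¹
        = e * (r * e') * r' * r⁻¹ * e⁻¹ * r'⁻¹ * e'⁻¹ := by group
      _ = e * (e' * r) * r' * r⁻¹ * e⁻¹ * r'⁻¹ * e'⁻¹ := by rw [a1.eq]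
      _ = e * e' * (r * r' * r⁻¹ * e⁻¹) * r'⁻¹ * e'⁻¹ := by group
      _ = e * e' * (e⁻¹ * (r * r' * r⁻¹)) * r'⁻¹ * e'⁻¹ := by
          have : Commute (e⁻¹) (r * r' * r⁻¹) :=
            ((a2.inv_left.mul_right a4.inv_left).mul_right a2.inv_left.inv_right)
          rw [this.eq]
      _ = e * e' * e⁻¹ * ((r * r' * r⁻¹ * r'⁻¹) * e'⁻¹) := by group
      _ = e * e' * e⁻¹ * (e'⁻¹ * (r * r' * r⁻¹ * r'⁻¹)) := by
          have : Commute (e'⁻¹) (r * r' * r⁻¹ * r'⁻¹) :=
            (((a1.inv_left.mul_right a3.inv_left).mul_right a1.inv_left.inv_right).mul_right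
              a3.inv_left.inv_right)
          rw [this.eq]
      _ = e * e' * e⁻¹ * e'⁻¹ * (r * r' * r⁻¹ * r'⁻¹) := by group
  rw [hsplit]
  refine mul_mem (mem_sup_left ?_) (mem_sup_right ?_)
  · have hE1 : ⁅e, e'⁆ ∈ EO x D := by
      rw [commutatorElement_def]
      exact mul_mem (mul_mem (mul_mem he he') (inv_mem he)) (inv_mem he')
    refine ⟨hE1, ?_⟩
    refine mem_centralizer_singleton_iff.mpr ?_
    have h5 : x * ⁅e, e'⁆ * x⁻¹ = ⁅e, e'⁆ := by
      have h6 : x * ⁅e, e'⁆ * x⁻¹ = ⁅x * e * x⁻¹, x * e' * x⁻¹⁆ := by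
        rw [commutatorElement_def, commutatorElement_def]; group
      rw [h6, hez, hez', commutatorElement_def, commutatorElement_def]
      have b1 := c1 e he z hzm.2
      have b2 := c1 e' he' z hzm.2
      have b3 := c1 e he z' hzm'.2
      have b4 := c1 e' he' z' hzm'.2
      have b5 := c1 z hzm.1 z' hzm'.2
      calc e * z * (e' * z') * (e * z)⁻¹ * (e' * z')⁻¹
          = e * (z * (e' * z')) * z⁻¹ * e⁻¹ * z'⁻¹ * e'⁻¹ := by group
        _ = e * ((e' * z') * z) * z⁻¹ * e⁻¹ * z'⁻¹ * e'⁻¹ := by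
            rw [(b2.symm.mul_right b5).eq]
        _ = e * e' * (z' * e⁻¹) * z'⁻¹ * e'⁻¹ := by group
        _ = e * e' * (e⁻¹ * z') * z'⁻¹ * e'⁻¹ := by rw [(b3.inv_left).eq]
        _ = e * e' * e⁻¹ * e'⁻¹ := by group
    have h7 := mul_inv_eq_iff_eq_mul.mp h5
    exact h7.symm
  · rw [commutatorElement_def]
    exact mul_mem (mul_mem (mul_mem hr hr') (inv_mem hr)) (inv_mem hr')

/-- Simultaneous correction on all orbits. -/
theorem exists_correction_fixed [Finite G] {x k : G}
    (h : ∀ D : Subgroup G, IsComponent D →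
      k ∈ (EO x D ⊓ centralizer ({x} : Set G)) ⊔ centralizer (EO x D : Set G)) :
    ∃ e ∈ ⨆ D : {D : Subgroup G // IsComponent D}, EO x (D : Subgroup G) ⊓ centralizer ({x} : Set G),
      ∀ D : Subgroup G, IsComponent D → k * e⁻¹ ∈ centralizer (EO x D : Set G) := by
  classical
  have key : ∀ S : Finset (Subgroup G), (∀ D ∈ S, IsComponent D) →
      ∃ e ∈ ⨆ D : {D : Subgroup G // D ∈ S}, EO x (D : Subgroup G) ⊓ centralizer ({x} : Set G),
        ∀ D ∈ S, k * e⁻¹ ∈ centralizer (EO x D : Set G) := by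
    intro S
    induction S using Finset.induction_on with
    | empty =>
      intro _
      exact ⟨1, one_mem _, fun D hD => absurd hD (Finset.notMem_empty D)⟩
    | insert D S hDS ih =>
      intro hS
      have hD := hS D (Finset.mem_insert_self D S)
      obtain ⟨e, he, hc⟩ := ih (fun M hM => hS M (Finset.mem_insert_of_mem hM))
      have hmono : (⨆ M : {M : Subgroup G // M ∈ S}, EO x (M : Subgroup G) ⊓
          centralizer ({x} : Set G)) ≤ ⨆ M : {M : Subgroup G // M ∈ insert D S},
            EO x (M : Subgroup G) ⊓ centralizer ({x} : Set G) := by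
        apply iSup_le
        rintro ⟨M, hM⟩
        exact le_iSup (fun M : {M : Subgroup G // M ∈ insert D S} => EO x (M : Subgroup G) ⊓
          centralizer ({x} : Set G)) ⟨M, Finset.mem_insert_of_mem hM⟩
      by_cases hex : ∃ M ∈ S, ∃ u ∈ zpowers x, D = cj u M
      · obtain ⟨M, hM, hu⟩ := hex
        refine ⟨e, hmono he, ?_⟩
        intro N hN
        rcases Finset.mem_insert.mp hN with rfl | hN'
        · rw [EO_eq_of_conj hu]; exact hc M hM
        · exact hc N hN'
      · push Not at hex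
        -- `E_D` commutes with the previous ones
        have hcomm : ∀ M ∈ S, EO x D ≤ centralizer (EO x M : Set G) := by
          intro M hM
          rw [← commutator_eq_bot_iff_le_centralizer]
          apply commute_EL (hS M (Finset.mem_insert_of_mem hM)) hD
          rintro ⟨u, hu, he⟩
          exact hex M hM u hu he
        obtain ⟨c, hcm, r, hr, hk⟩ : ∃ c ∈ EO x D ⊓ centralizer ({x} : Set G),
            ∃ r ∈ centralizer (EO x D : Set G), c * r = k := by
          have h1 := h D hD
          rw [sup_comm, Cfsg.Agent.H1.Basic.mem_sup_iff_of_le_normalizer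
            (inf_le_left.trans (le_normalizer.trans
              (normalizer_le_normalizer_centralizer _)))] at h1
          obtain ⟨r, hr, c, hc', h2⟩ := h1
          refine ⟨c, hc', r, hr, ?_⟩
          rw [← h2]
          exact mem_centralizer_iff.mp hr c hc'.1
        have heD : e ∈ centralizer (EO x D : Set G) := by
          have h1 : (⨆ M : {M : Subgroup G // M ∈ S}, EO x (M : Subgroup G) ⊓
              centralizer ({x} : Set G)) ≤ centralizer (EO x D : Set G) := by
            apply iSup_le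
            rintro ⟨M, hM⟩
            refine inf_le_left.trans ?_
            rw [le_centralizer_iff]
            exact hcomm M hM
          exact h1 he
        have hce : c * e = e * c := mem_centralizer_iff.mp heD c hcm.1
        refine ⟨c * e, mul_mem ?_ (hmono he), ?_⟩
        · exact (le_iSup (fun M : {M : Subgroup G // M ∈ insert D S} => EO x (M : Subgroup G) ⊓
            centralizer ({x} : Set G)) ⟨D, Finset.mem_insert_self D S⟩) hcm
        · intro N hN
          rcases Finset.mem_insert.mp hN with rfl | hN'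
          · have h3 : k * (c * e)⁻¹ = r * e⁻¹ := by
              have h4 : c * r = r * c := mem_centralizer_iff.mp hr c hcm.1
              rw [← hk, h4, hce]; group
            rw [h3]
            exact mul_mem hr (inv_mem heD)
          · have h3 : k * (c * e)⁻¹ = (k * e⁻¹) * c⁻¹ := by group
            rw [h3]
            exact mul_mem (hc N hN') (inv_mem (hcomm N hN' hcm.1))
  haveI : Fintype {D : Subgroup G // IsComponent D} := Fintype.ofFinite _
  obtain ⟨e, he, hc⟩ := key (Finset.univ.image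
    (fun D : {D : Subgroup G // IsComponent D} => (D : Subgroup G))) (by
      intro D hD
      obtain ⟨⟨D', hD'⟩, _, rfl⟩ := Finset.mem_image.mp hD
      exact hD')
  refine ⟨e, ?_, fun D hD => hc D (Finset.mem_image.mpr ⟨⟨D, hD⟩, Finset.mem_univ _, rfl⟩)⟩
  have hmono : (⨆ M : {M : Subgroup G // M ∈ Finset.univ.image
      (fun D : {D : Subgroup G // IsComponent D} => (D : Subgroup G))}, EO x (M : Subgroup G) ⊓
          centralizer ({x} : Set G)) ≤ ⨆ D : {D : Subgroup G // IsComponent D},
            EO x (D : Subgroup G) ⊓ centralizer ({x} : Set G) := by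
    apply iSup_le
    rintro ⟨M, hM⟩
    obtain ⟨⟨D', hD'⟩, _, rfl⟩ := Finset.mem_image.mp hM
    exact le_iSup (fun D : {D : Subgroup G // IsComponent D} => EO x (D : Subgroup G) ⊓
      centralizer ({x} : Set G)) ⟨D', hD'⟩
  exact hmono he

/-- A `p`-component of `C_G(x)` inside the layer of `G` lies in a single orbit product. -/
theorem exists_orbit [Finite G] {p : ℕ} [hp : Fact p.Prime] {x : G} {K : Subgroup G}
    (hK : RelPC p K (centralizer ({x} : Set G))) (hKl : K ≤ layer G) :
    ∃ D : Subgroup G, IsComponent D ∧ K ≤ EO x D := by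
  by_contra hcon
  push Not at hcon
  have hperf := relPC_perfect hK
  have hKx := hK.1
  -- for all `D`, `[K, E_D ⊓ C(x)] ≤ O`
  have h1 : ∀ D : Subgroup G, IsComponent D →
      ⁅K, EO x D ⊓ centralizer ({x} : Set G)⁆ ≤ OO p (centralizer ({x} : Set G)) := by
    intro D hD
    have hn : ((EO x D ⊓ centralizer ({x} : Set G)).subgroupOf
        (centralizer ({x} : Set G))).IsSubnormal := by
      rw [inf_subgroupOf_right]
      exact (EL_isSubnormal hD).subgroupOf
    rcases hK.commutator_or_le (D := EO x D ⊓ centralizer ({x} : Set G)) inf_le_right hn with h | h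
    · exact absurd (h.trans inf_le_left) (hcon D hD)
    · exact h
  have hOn : centralizer ({x} : Set G) ≤ normalizer (OO p (centralizer ({x} : Set G)) : Set G) :=
    le_normalizer.trans (normalizer_le_normalizer_OO p _)
  -- the subgroup of elements commuting with `K` modulo `O`
  let Y : Subgroup G := {
    carrier := {y | y ∈ centralizer ({x} : Set G) ∧
      ∀ k ∈ K, ⁅k, y⁆ ∈ OO p (centralizer ({x} : Set G))}
    mul_mem' := by
      rintro a b ⟨ha, ha'⟩ ⟨hb, hb'⟩
      refine ⟨mul_mem ha hb, fun k hk => ?_⟩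
      have e1 : ⁅k, a * b⁆ = ⁅k, a⁆ * (a * ⁅k, b⁆ * a⁻¹) := by
        rw [commutatorElement_def, commutatorElement_def, commutatorElement_def]; group
      rw [e1]
      exact mul_mem (ha' k hk) ((mem_normalizer_iff.mp (hOn ha) _).mp (hb' k hk))
    one_mem' := ⟨one_mem _, fun k _ => by rw [commutatorElement_one_right]; exact one_mem _⟩
    inv_mem' := by
      rintro a ⟨ha, ha'⟩
      refine ⟨inv_mem ha, fun k hk => ?_⟩
      have e1 : ⁅k, a⁻¹⁆ = a⁻¹ * ⁅k, a⁆⁻¹ * a⁻¹⁻¹ := by
        rw [commutatorElement_def, commutatorElement_def]; group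
      rw [e1]
      exact (mem_normalizer_iff.mp (hOn (inv_mem ha)) _).mp (inv_mem (ha' k hk)) }
  have hY : ∀ y, y ∈ Y ↔ y ∈ centralizer ({x} : Set G) ∧
      ∀ k ∈ K, ⁅k, y⁆ ∈ OO p (centralizer ({x} : Set G)) := fun y => Iff.rfl
  have hKY : K ≤ Y := by
    intro k hk
    obtain ⟨e, he, hc⟩ := exists_correction_fixed (x := x) (k := k)
      (fun D hD => le_fixed_sup hD hperf hKl hKx hk)
    have heY : e ∈ Y := by
      have h2 : (⨆ D : {D : Subgroup G // IsComponent D}, EO x (D : Subgroup G) ⊓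
          centralizer ({x} : Set G)) ≤ Y := by
        apply iSup_le
        rintro ⟨D, hD⟩ y hy
        exact ⟨hy.2, fun k' hk' => h1 D hD (commutator_mem_commutator hk' hy)⟩
      exact h2 he
    have h3 : k * e⁻¹ ∈ Y := by
      refine ⟨mul_mem (hKx hk) (inv_mem heY.1), fun k' hk' => ?_⟩
      have h4 : layer G ≤ centralizer ({k * e⁻¹} : Set G) := by
        rw [layer_le_iff]
        intro D hD d hd
        rw [mem_centralizer_singleton_iff]
        exact mem_centralizer_iff.mp (hc D hD) d (le_EL _ _ hd)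
      have h5 := mem_centralizer_singleton_iff.mp (h4 (hKl hk'))
      have h6 : ⁅k', k * e⁻¹⁆ = 1 := by
        rw [commutatorElement_eq_one_iff_mul_comm]; exact h5
      rw [h6]; exact one_mem _
    have h7 : k = (k * e⁻¹) * e := by group
    rw [h7]
    exact mul_mem h3 heY
  have hKO : K ≤ OO p (centralizer ({x} : Set G)) := by
    conv_lhs => rw [← hperf]
    rw [commutator_le]
    intro k hk k' hk'
    exact (hKY hk').2 k hk
  -- contradiction
  apply IsComponent.ne_bot hK.2.2.1
  rw [Subgroup.map_eq_bot_iff, pr_ker]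
  intro y hy
  have h8 := hKO hy
  obtain ⟨z, hz, hzy⟩ := h8
  have : z = y := Subtype.ext hzy
  rwa [← this]

end Cfsg.Agent.H11.Dich
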