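import Mathlib
import Cfsg.Prelude.Def_Local
import Cfsg.Agent.H11_Dich

/-!
# Pump-ups: diagonal case
-/

set_option autoImplicit false
set_option linter.all false

namespace Cfsg.Agent.H11.Dich

universe u v

open Subgroup Cfsg Cfsg.Agent.H11.Cores Cfsg.Agent.H11.Components Cfsg.Agent.H11.FStar
  Cfsg.Agent.H11.AxB Cfsg.Agent.H11.Local Cfsg.Agent.H13.Syl
  Cfsg.Agent.H11.PComp Cfsg.Agent.H11.Bal Cfsg.Agent.H11.PT Cfsg.Agent.H11.LB
open scoped commutatorElement

variable {G : Type u} [Group G]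

/-- Data of the diagonal embedding. -/
structure IsPhi (p : ℕ) (x : G) (L : Subgroup G) (φ : L →* G) : Prop where
  eq : ∀ l : L, φ l = ((l : G) * x) ^ p
  cent : ∀ l : L, φ l ∈ centralizer ({x} : Set G)
  fac : ∀ l : L, ∃ m ∈ centralizer (L : Set G), m ∈ EO x L ∧ φ l = l * m
  ker : φ.ker ≤ center L

theorem not_normalizes_distinct [Finite G] {p : ℕ} [hp : Fact p.Prime] {x : G}
    (hx : orderOf x = p) {L : Subgroup G} (h : x ∉ normalizer (L : Set G)) :
    ∀ j, 0 < j → j < p → cj (x ^ j) L ≠ L := by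
  intro j hj0 hjp he
  apply h
  have h1 : x ^ j ∈ normalizer (L : Set G) := mem_normalizer_iff_cj.mpr he
  have h2 : j.Coprime (orderOf x) := by
    rw [hx]
    exact (Nat.coprime_of_lt_prime hj0.ne' hjp hp.out).symm
  obtain ⟨m, hm⟩ := exists_pow_eq_self_of_coprime h2
  rw [← hm]
  exact pow_mem h1 m

theorem exists_phi [Finite G] (p : ℕ) [hp : Fact p.Prime]
    {x : G} (hx : orderOf x = p) {L : Subgroup G} (hL : IsComponent L)
    (h : x ∉ normalizer (L : Set G)) : ∃ φ : L →* G, IsPhi p x L φ := by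
  -- distinct conjugates
  have hdist : ∀ j, 0 < j → j < p → ⁅L, cj (x ^ j) L⁆ = ⊥ := by
    intro j hj0 hjp
    exact commutator_eq_bot_of_ne hL (isComponent_cj hL _)
      (not_normalizes_distinct hx h j hj0 hjp).symm
  have hcomm : ∀ i j, i < j → j < p → ∀ l ∈ L, ∀ l' ∈ L,
      Commute (x ^ i * l * (x ^ i)⁻¹) (x ^ j * l' * (x ^ j)⁻¹) := by
    intro i j hij hjp l hl l' hl'
    have h1 := hdist (j - i) (Nat.sub_pos_of_lt hij) (by omega)
    have h2 : ⁅l, x ^ (j - i) * l' * (x ^ (j - i))⁻¹⁆ ∈ ⁅L, cj (x ^ (j - i)) L⁆ :=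
      Subgroup.commutator_mem_commutator hl (conj_mem_cj hl')
    rw [h1, Subgroup.mem_bot, commutatorElement_eq_one_iff_mul_comm] at h2
    have h3 : x ^ j = x ^ i * x ^ (j - i) := by rw [← pow_add]; congr 1; omega
    have h4 : x ^ j * l' * (x ^ j)⁻¹ = x ^ i * (x ^ (j - i) * l' * (x ^ (j - i))⁻¹) * (x ^ i)⁻¹ := by
      rw [h3]; group
    rw [h4]
    unfold Commute SemiconjBy
    calc x ^ i * l * (x ^ i)⁻¹ * (x ^ i * (x ^ (j - i) * l' * (x ^ (j - i))⁻¹) * (x ^ i)⁻¹)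
        = x ^ i * (l * (x ^ (j - i) * l' * (x ^ (j - i))⁻¹)) * (x ^ i)⁻¹ := by group
      _ = x ^ i * ((x ^ (j - i) * l' * (x ^ (j - i))⁻¹) * l) * (x ^ i)⁻¹ := by rw [h2]
      _ = _ := by group
  have hB : ∀ k, ∀ j, k ≤ j → j < p → ∀ l ∈ L, ∀ l' ∈ L,
      Commute (tw x k l) (x ^ j * l' * (x ^ j)⁻¹) := by
    intro k
    induction k with
    | zero => intro j _ _ l _ l' _; rw [tw_zero]; exact Commute.one_left _
    | succ k ih =>
      intro j hkj hjp l hl l' hl'
      rw [tw_succ]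
      exact (ih j (by omega) hjp l hl l' hl').mul_left (hcomm k j (by omega) hjp l hl l' hl')
  have hC : ∀ k, k ≤ p → ∀ l ∈ L, ∀ l' ∈ L, tw x k (l * l') = tw x k l * tw x k l' := by
    intro k
    induction k with
    | zero => intro _ l _ l' _; simp [tw_zero]
    | succ k ih =>
      intro hk l hl l' hl'
      rw [tw_succ, tw_succ, tw_succ, ih (by omega) l hl l' hl']
      have h1 := hB k k le_rfl (by omega) l' hl' l hl
      have h2 : x ^ k * (l * l') * (x ^ k)⁻¹ =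
          (x ^ k * l * (x ^ k)⁻¹) * (x ^ k * l' * (x ^ k)⁻¹) := by group
      rw [h2]
      calc tw x k l * tw x k l' * ((x ^ k * l * (x ^ k)⁻¹) * (x ^ k * l' * (x ^ k)⁻¹))
          = tw x k l * (tw x k l' * (x ^ k * l * (x ^ k)⁻¹)) * (x ^ k * l' * (x ^ k)⁻¹) := by group
        _ = tw x k l * ((x ^ k * l * (x ^ k)⁻¹) * tw x k l') * (x ^ k * l' * (x ^ k)⁻¹) := by
          rw [h1.eq]
        _ = _ := by group
  have hxE : ∀ k : ℕ, ∀ l ∈ L, x ^ k * l * (x ^ k)⁻¹ ∈ EO x L := by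
    intro k l hl
    exact cj_le_EL (P := zpowers x) ⟨(k : ℤ), by simp⟩ (conj_mem_cj hl)
  have hD : ∀ k, k < p → ∀ l ∈ L, ∃ m, (∀ l' ∈ L, Commute m l') ∧ m ∈ EO x L ∧
      tw x (k + 1) l = l * m := by
    intro k
    induction k with
    | zero =>
      intro _ l hl
      refine ⟨1, fun l' _ => Commute.one_left _, one_mem _, ?_⟩
      rw [tw_succ, tw_zero]; simp
    | succ k ih =>
      intro hk l hl
      obtain ⟨m, hm, hmE, he⟩ := ih (by omega) l hl
      refine ⟨m * (x ^ (k + 1) * l * (x ^ (k + 1))⁻¹), fun l' hl' => ?_,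
        mul_mem hmE (hxE _ l hl), ?_⟩
      · apply (hm l' hl').mul_left
        have := hcomm 0 (k + 1) (by omega) hk l' hl' l hl
        simpa using this.symm
      · rw [tw_succ, he]; group
  have hp0 : 0 < p := hp.out.pos
  have hDp : ∀ l ∈ L, ∃ m, (∀ l' ∈ L, Commute m l') ∧ m ∈ EO x L ∧ tw x p l = l * m := by
    intro l hl
    have := hD (p - 1) (by omega) l hl
    rwa [Nat.sub_add_cancel hp0] at this
  have hxp : x ^ p = 1 := by rw [← hx]; exact pow_orderOf_eq_one x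
  -- the homomorphism
  let φ : L →* G := MonoidHom.mk' (fun l => tw x p (l : G)) (fun a b => hC p le_rfl a a.2 b b.2)
  have hφ : ∀ l : L, φ l = ((l : G) * x) ^ p := by
    intro l
    show tw x p (l : G) = _
    unfold tw
    rw [hxp, inv_one, mul_one]
  refine ⟨φ, hφ, ?_, ?_, ?_⟩
  · intro l
    rw [Subgroup.mem_centralizer_singleton_iff]
    obtain ⟨m, hm, hmE, he⟩ := hDp l l.2
    have h1 : φ l = (l : G) * m := he
    have h2 : x * φ l * x⁻¹ = (l : G)⁻¹ * φ l * (l : G) := by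
      have e1 : x * φ l * x⁻¹ = (x * ((l : G) * x) * x⁻¹) ^ p := by rw [hφ, conj_pow]
      have e2 : (l : G)⁻¹ * φ l * (l : G) = ((l : G)⁻¹ * ((l : G) * x) * ((l : G)⁻¹)⁻¹) ^ p := by
        rw [hφ, conj_pow, inv_inv]
      rw [e1, e2]
      congr 1
      group
    have h3 : (l : G)⁻¹ * φ l * (l : G) = φ l := by
      rw [h1]
      have := (hm l l.2).eq
      rw [inv_mul_cancel_left, this]
    rw [h3] at h2
    exact (mul_inv_eq_iff_eq_mul.mp h2).symm
  · intro l
    obtain ⟨m, hm, hmE, he⟩ := hDp l l.2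
    refine ⟨m, ?_, hmE, he⟩
    rw [mem_centralizer_iff]
    intro l' hl'
    exact (hm l' hl').symm.eq
  · intro l hl
    obtain ⟨m, hm, hmE, he⟩ := hDp l l.2
    have h1 : (l : G) * m = 1 := by rw [← he]; exact hl
    rw [Subgroup.mem_center_iff]
    intro g
    apply Subtype.ext
    have h2 : (l : G) = m⁻¹ := eq_inv_of_mul_eq_one_left h1
    show (g : G) * (l : G) = (l : G) * (g : G)
    rw [h2]
    exact ((hm g g.2).inv_left.eq).symm

/-- equivariance -/
theorem IsPhi.conj {p : ℕ} {x : G} {L : Subgroup G} {φ : L →* G} (h : IsPhi p x L φ) {w : G}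
    (hwx : w * x = x * w) (hwL : w ∈ normalizer (L : Set G)) (l : L) :
    w * φ l * w⁻¹ = φ ⟨w * l * w⁻¹, (Subgroup.mem_normalizer_iff.mp hwL l).mp l.2⟩ := by
  rw [h.eq, h.eq, ← conj_pow]
  congr 1
  show w * ((l : G) * x) * w⁻¹ = w * (l : G) * w⁻¹ * x
  have h1 : w⁻¹ * x = x * w⁻¹ := by
    calc w⁻¹ * x = w⁻¹ * (x * w) * w⁻¹ := by group
      _ = w⁻¹ * (w * x) * w⁻¹ := by rw [hwx]
      _ = x * w⁻¹ := by group
  calc w * ((l : G) * x) * w⁻¹ = w * (l : G) * (x * w⁻¹) := by group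
    _ = w * (l : G) * (w⁻¹ * x) := by rw [h1]
    _ = _ := by group

theorem IsPhi.mem_EO {p : ℕ} {x : G} {L : Subgroup G} {φ : L →* G} (h : IsPhi p x L φ) (l : L) :
    φ l ∈ EO x L := by
  obtain ⟨m, _, hmE, he⟩ := h.fac l
  rw [he]
  exact mul_mem (le_EL _ _ l.2) hmE

theorem IsPhi.perfect {p : ℕ} {x : G} {L : Subgroup G} {φ : L →* G} (hL : IsComponent L) :
    ⁅φ.range, φ.range⁆ = φ.range := by
  have h1 : ⁅(⊤ : Subgroup L), (⊤ : Subgroup L)⁆ = ⊤ := hL.2.1.commutator_eq_top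
  rw [MonoidHom.range_eq_map, ← Subgroup.map_commutator, h1]

theorem isSubnormal_eq_bot_of_center {K : Subgroup G} {M : Subgroup G} (hK : ⁅K, K⁆ = K)
    (hM : K ≤ centralizer (M : Set G)) (hKM : K ≤ M) : K = ⊥ := by
  rw [← hK, eq_bot_iff]
  refine (commutator_mono hKM le_rfl).trans ?_
  rw [commutator_comm, commutator_eq_bot_iff_le_centralizer.mpr hM]

theorem mem_cent_EO_of {x w : G} {L : Subgroup G} (hw : w ∈ centralizer (L : Set G))
    (hwx : w * x = x * w) : w ∈ centralizer (EO x L : Set G) := by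
  have h1 : EO x L ≤ centralizer ({w} : Set G) := by
    unfold EO EL
    rw [sSup_le_iff]
    rintro _ ⟨u, ⟨n, rfl⟩, rfl⟩
    rintro _ ⟨l, hl, rfl⟩
    rw [mem_centralizer_singleton_iff]
    show x ^ n * l * (x ^ n)⁻¹ * w = w * (x ^ n * l * (x ^ n)⁻¹)
    have h2 : Commute w (x ^ n) := (show Commute w x from hwx).zpow_right n
    have h3 : Commute w l := (mem_centralizer_iff.mp hw l hl).symm
    exact ((h2.mul_right h3).mul_right h2.inv_right).symm.eq
  rw [mem_centralizer_iff]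
  intro y hy
  exact mem_centralizer_singleton_iff.mp (h1 hy)

theorem layer_le_sup' [Finite G] {D : Subgroup G} (hD : IsComponent D) :
    layer G ≤ centralizer (D : Set G) ⊔ D := by
  rw [layer_le_iff]
  intro M hM
  by_cases h : M = D
  · rw [h]; exact le_sup_right
  · have h1 := commutator_eq_bot_of_ne hM hD h
    rw [commutator_eq_bot_iff_le_centralizer] at h1
    exact h1.trans le_sup_left

theorem EO_le_layer [Finite G] {x : G} {D : Subgroup G} (hD : IsComponent D) : EO x D ≤ layer G :=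
  EL_le_layer hD

/-- fixed points of `x` on the orbit product. -/
theorem IsPhi.fixed [Finite G] {p : ℕ} {x : G} {L : Subgroup G} {φ : L →* G} (h : IsPhi p x L φ)
    (hL : IsComponent L) {e : G} (he : e ∈ EO x L) (hex : e ∈ centralizer ({x} : Set G)) :
    ∃ l : L, e * (φ l)⁻¹ ∈ centralizer (EO x L : Set G) := by
  have h1 := layer_le_sup' hL (EO_le_layer hL he)
  rw [Cfsg.Agent.H1.Basic.mem_sup_iff_of_le_normalizer
    ((le_normalizer (H := L)).trans (normalizer_le_normalizer_centralizer L))] at h1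
  obtain ⟨r, hr, l, hl, rfl⟩ := h1
  refine ⟨⟨l, hl⟩, ?_⟩
  obtain ⟨m, hm, hmE, hfac⟩ := h.fac ⟨l, hl⟩
  apply mem_cent_EO_of
  · rw [hfac]
    have : r * l * ((⟨l, hl⟩ : L) * m)⁻¹ = r * (l * m⁻¹ * l⁻¹) := by
      show r * l * (l * m)⁻¹ = _
      group
    rw [this]
    have hn := (le_normalizer (H := L)).trans (normalizer_le_normalizer_centralizer L) hl
    exact mul_mem hr ((mem_normalizer_iff.mp hn _).mp (inv_mem hm))
  · have h2 := mem_centralizer_singleton_iff.mp hex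
    have h3 := mem_centralizer_singleton_iff.mp (h.cent ⟨l, hl⟩)
    exact ((show Commute (r * l) x from h2).mul_left
      (show Commute (φ ⟨l, hl⟩) x from h3).inv_left).eq

theorem IsPhi.eq_range [Finite G] {p : ℕ} [hp : Fact p.Prime] {x : G} {L : Subgroup G}
    {φ : L →* G} (h : IsPhi p x L φ) (hL : IsComponent L) {K : Subgroup G}
    (hK : RelPC p K (centralizer ({x} : Set G))) (hKE : K ≤ EO x L) : K = φ.range := by
  have hperf := relPC_perfect hK
  have hle : K ≤ φ.range := by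
    conv_lhs => rw [← hperf]
    rw [commutator_le]
    intro k hk k' hk'
    obtain ⟨l, hl⟩ := h.fixed hL (hKE hk) (hK.1 hk)
    obtain ⟨l', hl'⟩ := h.fixed hL (hKE hk') (hK.1 hk')
    set z := k * (φ l)⁻¹ with hz
    set z' := k' * (φ l')⁻¹ with hz'
    have hk2 : k = z * φ l := by rw [hz]; group
    have hk2' : k' = z' * φ l' := by rw [hz']; group
    have hzE' : z' ∈ EO x L := mul_mem (hKE hk') (inv_mem (h.mem_EO l'))
    have c1 : Commute z (φ l') := (mem_centralizer_iff.mp hl _ (h.mem_EO l')).symm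
    have c2 : Commute z z' := (mem_centralizer_iff.mp hl _ hzE').symm
    have c3 : Commute z' (φ l) := (mem_centralizer_iff.mp hl' _ (h.mem_EO l)).symm
    have c4 : Commute z (φ l) := (mem_centralizer_iff.mp hl _ (h.mem_EO l)).symm
    have h5 : ⁅k, k'⁆ = ⁅φ l, φ l'⁆ := by
      rw [hk2, hk2', commutatorElement_def, commutatorElement_def]
      calc z * φ l * (z' * φ l') * (z * φ l)⁻¹ * (z' * φ l')⁻¹
          = z * (φ l * z') * φ l' * (φ l)⁻¹ * z⁻¹ * (φ l')⁻¹ * z'⁻¹ := by group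
        _ = z * (z' * φ l) * φ l' * (φ l)⁻¹ * z⁻¹ * (φ l')⁻¹ * z'⁻¹ := by rw [c3.eq]
        _ = (z * z') * (φ l * φ l' * (φ l)⁻¹) * z⁻¹ * (φ l')⁻¹ * z'⁻¹ := by group
        _ = (z' * z) * (φ l * φ l' * (φ l)⁻¹) * z⁻¹ * (φ l')⁻¹ * z'⁻¹ := by rw [c2.eq]
        _ = z' * (z * (φ l * φ l' * (φ l)⁻¹)) * z⁻¹ * (φ l')⁻¹ * z'⁻¹ := by group
        _ = z' * ((φ l * φ l' * (φ l)⁻¹) * z) * z⁻¹ * (φ l')⁻¹ * z'⁻¹ := by
            rw [((c4.mul_right c1).mul_right c4.inv_right).eq]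
        _ = z' * (φ l * φ l' * (φ l)⁻¹ * (φ l')⁻¹) * z'⁻¹ := by group
        _ = (φ l * φ l' * (φ l)⁻¹ * (φ l')⁻¹) * z' * z'⁻¹ := by
            have c5 : Commute z' (φ l') := (mem_centralizer_iff.mp hl' _ (h.mem_EO l')).symm
            rw [(((c3.mul_right c5).mul_right c3.inv_right).mul_right c5.inv_right).eq]
        _ = _ := by group
    rw [h5, ← map_commutatorElement]
    exact ⟨_, rfl⟩
  have hnb : K ≠ ⊥ := by
    rintro rfl
    apply IsComponent.ne_bot hK.2.2.1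
    rw [bot_subgroupOf, Subgroup.map_bot]
  have hrc : φ.range ≤ centralizer ({x} : Set G) := by
    rintro _ ⟨l, rfl⟩
    exact h.cent l
  have hnt : Nontrivial φ.range := by
    rw [Subgroup.nontrivial_iff_ne_bot]
    intro hb
    rw [hb, le_bot_iff] at hle
    exact hnb hle
  have hq : IsQuasisimple φ.range :=
    IsQuasisimple.of_surjective hL.2 φ.rangeRestrict φ.rangeRestrict_surjective
  have hsn := subgroupOf_isSubnormal_of_le ((relPC_iff p).mp hK).2.1 hrc
  rcases IsQuasisimple.isSubnormal_eq_top_or_le_center hq _ hsn with h1 | h1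
  · exact le_antisymm hle (subgroupOf_eq_top.mp h1)
  · exfalso
    apply hnb
    apply isSubnormal_eq_bot_of_center hperf _ hle
    intro k hk
    rw [mem_centralizer_iff]
    intro r hr
    have h2 := h1 (x := ⟨k, hle hk⟩) (mem_subgroupOf.mpr hk)
    exact congrArg Subtype.val (mem_center_iff.mp h2 ⟨r, hr⟩)

/-- The pump-up dichotomy. -/
theorem dichotomy [Finite G] {p : ℕ} [hp : Fact p.Prime] {x : G} (hx : orderOf x = p)
    {K : Subgroup G} (hK : RelPC p K (centralizer ({x} : Set G))) (hKl : K ≤ layer G) :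
    ∃ D : Subgroup G, IsComponent D ∧ ((x ∈ normalizer (D : Set G) ∧ K ≤ D) ∨
      (x ∉ normalizer (D : Set G) ∧ ∃ φ : D →* G, IsPhi p x D φ ∧ K = φ.range)) := by
  obtain ⟨D, hD, hKD⟩ := exists_orbit hK hKl
  refine ⟨D, hD, ?_⟩
  by_cases h : x ∈ normalizer (D : Set G)
  · left
    refine ⟨h, hKD.trans ?_⟩
    unfold EO EL
    rw [sSup_le_iff]
    rintro _ ⟨u, hu, rfl⟩
    rw [cj_eq_of_mem_normalizer ((zpowers_le.mpr h) hu)]
  · right
    obtain ⟨φ, hφ⟩ := exists_phi p hx hD h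
    exact ⟨h, φ, hφ, hφ.eq_range hD hK hKD⟩

end Cfsg.Agent.H11.Dich
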