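import Mathlib
import Cfsg.Agent.H11_J1C

set_option autoImplicit false
set_option maxRecDepth 100000

/-!
The group `J1` as a matrix group: order, cosets of the subgroup of order 660.
-/

namespace Cfsg.Agent.H11.J1

open Cfsg Cfsg.Agent.H11.KMat Subgroup

abbrev U := (Matrix (Fin 7) (Fin 7) (ZMod 11))ˣ

theorem J1_eq : Spor.J1 = Subgroup.closure {x | x ∈ Gs} := by
  have : ({x | x ∈ Gs} : Set U) = {Spor.jankoX, Spor.jankoY} := by
    ext x; simp [Gs]
  rw [this]; rfl

theorem wg_append {G : Type*} [Group G] (Gs : List G) (a b : List ℕ) : wg Gs (a ++ b) = wg Gs a * wg Gs b := by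
  induction a with
  | nil => rw [List.nil_append, wg, one_mul]
  | cons i a ih => rw [List.cons_append, wg, wg, ih, mul_assoc]

/-- the letters of a word are `0` and `1` -/
def lt2 (l : List ℕ) : Bool := l.all (fun i => Nat.blt i 2)

/-- the element of `J1` given by a word -/
def jw (l : List ℕ) : ↥Spor.J1 := ⟨wg Gs l, by
  rw [J1_eq]; exact wg_mem (fun x hx => Subgroup.subset_closure hx) l⟩

theorem jw_append (a b : List ℕ) : jw (a ++ b) = jw a * jw b := Subtype.ext (wg_append _ _ _)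

theorem jw_nil : jw [] = 1 := rfl

theorem jw_eq (a b : List ℕ) (h : ((lt2 a && lt2 b) && Nat.beq (wc PJ gs a) (wc PJ gs b)) = true) : jw a = jw b := by
  rw [Bool.and_eq_true, Bool.and_eq_true] at h
  apply Subtype.ext
  exact ((rep_w a h.1.1).code_iff okJ (rep_w b h.1.2)).1 (Nat.eq_of_beq_eq_true h.2)

theorem jw_ne (a b : List ℕ) (h : ((lt2 a && lt2 b) && !(Nat.beq (wc PJ gs a) (wc PJ gs b))) = true) : jw a ≠ jw b := by
  rw [Bool.and_eq_true, Bool.and_eq_true] at h
  intro e
  have h1 := ((rep_w a h.1.1).code_iff okJ (rep_w b h.1.2)).2 (congrArg Subtype.val e)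
  rw [h1] at h
  simp at h

/-- representatives of the cosets -/
def rr (i : ℕ) : U := wg Gs (WR.getD i [])

theorem rr_mem (i : ℕ) : rr i ∈ Spor.J1 := (jw (WR.getD i [])).2

theorem rr_zero : rr 0 = 1 := rfl

theorem len_WR : WR.length = 266 := by decide +kernel

theorem WR_lt2 : WR.all lt2 = true := by decide +kernel

theorem rep_rr (i : ℕ) (hi : i < 266) : Rep PJ (rr i) (rs.getD i 0) := by
  have hi' : i < WR.length := by rw [len_WR]; exact hi
  have h1 : rs.getD i 0 = wc PJ gs (WR.getD i []) := by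
    rw [← words_R, List.getD_eq_getElem _ _ (by rw [List.length_map]; exact hi'), List.getElem_map,
      List.getD_eq_getElem _ _ hi']
  rw [h1]
  apply rep_w
  have := List.all_eq_true.1 WR_lt2 (WR.getD i []) (by
    rw [List.getD_eq_getElem _ _ hi']; exact List.getElem_mem _)
  exact this

theorem cchk_spec {a : ℕ} {l : List ℕ} {k : List (ℕ × ℕ)} (h : cchk a l k = true) (i : ℕ) (hi : i < l.length) :
    TL.mem (k.getD i (0, 0)).2 = true ∧
      mul PJ a (l.getD i 0) = mul PJ (rs.getD (k.getD i (0, 0)).1 0) (k.getD i (0, 0)).2 := by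
  induction l generalizing k i with
  | nil => simp at hi
  | cons r l ih =>
    cases k with
    | nil => simp [cchk] at h
    | cons c k =>
      rw [cchk, Bool.and_eq_true, Bool.and_eq_true] at h
      cases i with
      | zero =>
        rw [List.getD_cons_zero, List.getD_cons_zero]
        exact ⟨h.1.1, Nat.eq_of_beq_eq_true h.1.2⟩
      | succ i =>
        rw [List.getD_cons_succ, List.getD_cons_succ]
        exact ih h.2 i (by simpa using hi)

def pX (i : ℕ) : ℕ := (cosX.getD i (0, 0)).1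
def pY (i : ℕ) : ℕ := (cosY.getD i (0, 0)).1

theorem pX_lt : (List.range 266).all (fun i => Nat.blt (pX i) 266) = true := by decide +kernel
theorem pY_lt : (List.range 266).all (fun i => Nat.blt (pY i) 266) = true := by decide +kernel

theorem len_rs : rs.length = 266 := by decide +kernel

theorem step_X (i : ℕ) (hi : i < 266) : pX i < 266 ∧ ∃ l ∈ LL, Spor.jankoX * rr i = rr (pX i) * l := by
  have h1 : pX i < 266 := by
    have := List.all_eq_true.1 pX_lt i (List.mem_range.2 hi)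
    rwa [Nat.blt_eq] at this
  refine ⟨h1, ?_⟩
  obtain ⟨h2, h3⟩ := cchk_spec chk_X i (by rw [len_rs]; exact hi)
  obtain ⟨l, hl, hr⟩ := isTree_L.rep _ (Tr.mem_toList h2)
  refine ⟨l, hl, ?_⟩
  exact ((repX.mul okJ (rep_rr i hi)).code_iff okJ ((rep_rr _ h1).mul okJ hr)).1 h3

theorem step_Y (i : ℕ) (hi : i < 266) : pY i < 266 ∧ ∃ l ∈ LL, Spor.jankoY * rr i = rr (pY i) * l := by
  have h1 : pY i < 266 := by
    have := List.all_eq_true.1 pY_lt i (List.mem_range.2 hi)
    rwa [Nat.blt_eq] at this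
  refine ⟨h1, ?_⟩
  obtain ⟨h2, h3⟩ := cchk_spec chk_Y i (by rw [len_rs]; exact hi)
  obtain ⟨l, hl, hr⟩ := isTree_L.rep _ (Tr.mem_toList h2)
  refine ⟨l, hl, ?_⟩
  exact ((repY.mul okJ (rep_rr i hi)).code_iff okJ ((rep_rr _ h1).mul okJ hr)).1 h3

/-- the action of words on the cosets -/
def act : List ℕ → ℕ → ℕ
  | [], i => i
  | (a :: w), i => bif Nat.beq a 0 then pX (act w i) else pY (act w i)

theorem act_spec (w : List ℕ) (hw : lt2 w = true) (i : ℕ) (hi : i < 266) :
    act w i < 266 ∧ ∃ l ∈ LL, wg Gs w * rr i = rr (act w i) * l := by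
  induction w with
  | nil => exact ⟨hi, 1, one_mem _, by rw [wg, act, one_mul, mul_one]⟩
  | cons a w ih =>
    unfold lt2 at hw ih
    rw [List.all_cons, Bool.and_eq_true, Nat.blt_eq] at hw
    obtain ⟨h1, l, hl, h2⟩ := ih hw.2
    have ha : a = 0 ∨ a = 1 := by omega
    rcases ha with rfl | rfl
    · obtain ⟨h3, l', hl', h4⟩ := step_X _ h1
      refine ⟨h3, l' * l, mul_mem hl' hl, ?_⟩
      rw [wg, mul_assoc, h2, ← mul_assoc]
      show Spor.jankoX * rr (act w i) * l = rr (pX (act w i)) * (l' * l)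
      rw [h4, mul_assoc]
    · obtain ⟨h3, l', hl', h4⟩ := step_Y _ h1
      refine ⟨h3, l' * l, mul_mem hl' hl, ?_⟩
      rw [wg, mul_assoc, h2, ← mul_assoc]
      show Spor.jankoY * rr (act w i) * l = rr (pY (act w i)) * (l' * l)
      rw [h4, mul_assoc]

theorem dec (g : U) (hg : g ∈ Spor.J1) : ∃ i < 266, ∃ l ∈ LL, g = rr i * l := by
  rw [Spor.J1, ← Subgroup.mem_toSubmonoid, Subgroup.closure_toSubmonoid_of_finite] at hg
  induction hg using Submonoid.closure_induction_left with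
  | one => exact ⟨0, by norm_num, 1, one_mem _, by rw [rr_zero, one_mul]⟩
  | mul_left x hx y hy ih =>
    obtain ⟨i, hi, l, hl, rfl⟩ := ih
    rcases hx with rfl | hx
    · obtain ⟨h3, l', hl', h4⟩ := step_X i hi
      exact ⟨_, h3, l' * l, mul_mem hl' hl, by rw [← mul_assoc, h4, mul_assoc]⟩
    · rw [Set.mem_singleton_iff] at hx
      subst hx
      obtain ⟨h3, l', hl', h4⟩ := step_Y i hi
      exact ⟨_, h3, l' * l, mul_mem hl' hl, by rw [← mul_assoc, h4, mul_assoc]⟩

theorem exists_phi : ∃ φ : ↥Spor.J1 → Fin 266 × ↥LL, ∀ g : ↥Spor.J1, (g : U) = rr (φ g).1 * (φ g).2 := by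
  have h : ∀ g : ↥Spor.J1, ∃ p : Fin 266 × ↥LL, (g : U) = rr p.1 * p.2 := by
    intro g
    obtain ⟨i, hi, l, hl, h1⟩ := dec g g.2
    exact ⟨(⟨i, hi⟩, ⟨l, hl⟩), h1⟩
  choose φ hφ using h
  exact ⟨φ, hφ⟩

theorem card_prod : Nat.card (Fin 266 × ↥LL) = 175560 := by
  rw [Nat.card_prod, card_L, Nat.card_eq_fintype_card, Fintype.card_fin]

theorem card_le : Nat.card ↥Spor.J1 ≤ 175560 := by
  obtain ⟨φ, hφ⟩ := exists_phi
  rw [← card_prod]
  refine Nat.card_le_card_of_injective φ ?_
  intro a b hab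
  apply Subtype.ext
  rw [hφ a, hφ b, hab]

/-! ### Elements of small order -/

def wpow (w : List ℕ) : ℕ → List ℕ
  | 0 => []
  | (k + 1) => wpow w k ++ w

theorem jw_pow (w : List ℕ) (k : ℕ) : jw (wpow w k) = jw w ^ k := by
  induction k with
  | zero => rfl
  | succ k ih => rw [wpow, jw_append, ih, pow_succ]

theorem order_jw (w : List ℕ) (p : ℕ) [hp : Fact p.Prime]
    (h1 : ((lt2 (wpow w p) && lt2 []) && Nat.beq (wc PJ gs (wpow w p)) (wc PJ gs [])) = true)
    (h2 : ((lt2 w && lt2 []) && !(Nat.beq (wc PJ gs w) (wc PJ gs []))) = true) : orderOf (jw w) = p := by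
  apply orderOf_eq_prime
  · rw [← jw_pow]; exact jw_eq _ _ h1
  · exact jw_ne _ _ h2

/-- an involution -/
def wt : List ℕ := [0,1,0,1,0,0,1,1,0,1,0,0,1,1,1,0,0,1,0]
/-- an element of order 7 normalizing a Sylow 2-subgroup containing `wt` -/
def wd : List ℕ := [1,1,0,0,0,1,0,0,1,0,0]
def wt2 : List ℕ := [0,0,1,1,0,1,0,0,1,0,1,1,0,0,1]
def wt3 : List ℕ := [0,1,1,0,1,0,1,0,0,0,0,1,0,1,1,0,0,1]
/-- order 11 -/
def ws : List ℕ := [1,1,0]
/-- order 19 -/
def we : List ℕ := [1,0,0,0]
/-- order 10 -/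
def wu : List ℕ := [0,0,1,0,1,1,0,1]
/-- order 3 -/
def wc3 : List ℕ := [0,1,0,0,0,1,0,1]

instance : Fact (Nat.Prime 19) := ⟨by norm_num⟩
instance : Fact (Nat.Prime 11) := ⟨by norm_num⟩
instance : Fact (Nat.Prime 7) := ⟨by norm_num⟩
instance : Fact (Nat.Prime 5) := ⟨by norm_num⟩

theorem o_t : orderOf (jw wt) = 2 := order_jw _ _ (by decide +kernel) (by decide +kernel)
theorem o_d : orderOf (jw wd) = 7 := order_jw _ _ (by decide +kernel) (by decide +kernel)
theorem o_s : orderOf (jw ws) = 11 := order_jw _ _ (by decide +kernel) (by decide +kernel)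
theorem o_e : orderOf (jw we) = 19 := order_jw _ _ (by decide +kernel) (by decide +kernel)
theorem o_y : orderOf (jw [1]) = 5 := order_jw _ _ (by decide +kernel) (by decide +kernel)
theorem o_x : orderOf (jw [0]) = 7 := order_jw _ _ (by decide +kernel) (by decide +kernel)
theorem o_c3 : orderOf (jw wc3) = 3 := order_jw _ _ (by decide +kernel) (by decide +kernel)

end Cfsg.Agent.H11.J1
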