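import Mathlib
import Cfsg.Agent.H11_J1D

set_option autoImplicit false
set_option maxRecDepth 100000

/-!
The group `J1` as a matrix group: the order and the Sylow 2-subgroups.
-/

namespace Cfsg.Agent.H11.J1

open Cfsg Cfsg.Agent.H11.KMat Subgroup

/-- the nontrivial elements of a Sylow 2-subgroup, permuted by `jw wd` -/
def wS : List (List ℕ) := [[], wt, wt2, wt3, wt ++ wt2, wt2 ++ wt3, wt ++ wt2 ++ wt3, wt ++ wt3]

theorem nodup_jw (W : List (List ℕ)) (h : W.all lt2 = true) (h2 : (W.map (wc PJ gs)).Nodup) : (W.map jw).Nodup := by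
  rw [List.nodup_map_iff_inj_on (List.Nodup.of_map _ h2)]
  intro a ha b hb hab
  have h3 := (List.nodup_map_iff_inj_on (List.Nodup.of_map _ h2)).1 h2 a ha b hb
  apply h3
  exact ((rep_w a (List.all_eq_true.1 h a ha)).code_iff okJ (rep_w b (List.all_eq_true.1 h b hb))).2
    (congrArg Subtype.val hab)

theorem nodup_S : (wS.map jw).Nodup := nodup_jw _ (by decide +kernel) (by decide +kernel)

/-- the Sylow 2-subgroup -/
def SS : Subgroup ↥Spor.J1 := Subgroup.closure {jw wt, jw wt2, jw wt3}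

theorem c12 : jw wt * jw wt2 = jw wt2 * jw wt := by
  rw [← jw_append, ← jw_append]; exact jw_eq _ _ (by decide +kernel)
theorem c13 : jw wt * jw wt3 = jw wt3 * jw wt := by
  rw [← jw_append, ← jw_append]; exact jw_eq _ _ (by decide +kernel)
theorem c23 : jw wt2 * jw wt3 = jw wt3 * jw wt2 := by
  rw [← jw_append, ← jw_append]; exact jw_eq _ _ (by decide +kernel)

theorem sq_t : jw wt ^ 2 = 1 := by rw [← jw_pow]; exact jw_eq (wpow wt 2) [] (by decide +kernel)
theorem sq_t2 : jw wt2 ^ 2 = 1 := by rw [← jw_pow]; exact jw_eq (wpow wt2 2) [] (by decide +kernel)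
theorem sq_t3 : jw wt3 ^ 2 = 1 := by rw [← jw_pow]; exact jw_eq (wpow wt3 2) [] (by decide +kernel)

/-- commuting involutions generate an elementary abelian group -/
theorem comm_sq {G : Type*} [Group G] (S : Set G) (hc : ∀ x ∈ S, ∀ y ∈ S, x * y = y * x) (h2 : ∀ x ∈ S, x ^ 2 = 1) :
    (∀ x ∈ Subgroup.closure S, ∀ y ∈ Subgroup.closure S, x * y = y * x) ∧ ∀ x ∈ Subgroup.closure S, x ^ 2 = 1 := by
  have h1 : ∀ x ∈ Subgroup.closure S, ∀ y ∈ Subgroup.closure S, x * y = y * x := by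
    have h3 : Subgroup.closure S ≤ Subgroup.centralizer (S : Set G) := by
      rw [Subgroup.closure_le]
      intro x hx
      rw [SetLike.mem_coe, Subgroup.mem_centralizer_iff]
      exact fun y hy => hc y hy x hx
    have h4 : Subgroup.closure S ≤ Subgroup.centralizer (Subgroup.closure S : Set G) := by
      rw [Subgroup.closure_le]
      intro x hx
      rw [SetLike.mem_coe, Subgroup.mem_centralizer_iff]
      intro y hy
      exact ((Subgroup.mem_centralizer_iff.1 (h3 hy)) x hx).symm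
    intro x hx y hy
    exact (Subgroup.mem_centralizer_iff.1 (h4 hy)) x hx
  refine ⟨h1, ?_⟩
  intro x hx
  induction hx using Subgroup.closure_induction with
  | mem x hx => exact h2 x hx
  | one => exact one_pow 2
  | mul x y hx hy ihx ihy =>
    have : Commute x y := h1 x hx y hy
    rw [this.mul_pow, ihx, ihy, one_mul]
  | inv x hx ih => rw [inv_pow, ih, inv_one]

theorem SS_comm_sq : (∀ x ∈ SS, ∀ y ∈ SS, x * y = y * x) ∧ ∀ x ∈ SS, x ^ 2 = 1 := by
  apply comm_sq
  · rintro x (rfl | rfl | rfl) y (rfl | rfl | rfl)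
    · rfl
    · exact c12
    · exact c13
    · exact c12.symm
    · rfl
    · exact c23
    · exact c13.symm
    · exact c23.symm
    · rfl
  · rintro x (rfl | rfl | rfl)
    · exact sq_t
    · exact sq_t2
    · exact sq_t3

theorem mem_S : ∀ w ∈ wS, jw w ∈ SS := by
  have h1 : jw wt ∈ SS := Subgroup.subset_closure (by simp)
  have h2 : jw wt2 ∈ SS := Subgroup.subset_closure (by simp)
  have h3 : jw wt3 ∈ SS := Subgroup.subset_closure (by simp)
  intro w hw
  simp only [wS, List.mem_cons, List.not_mem_nil, or_false] at hw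
  rcases hw with rfl | rfl | rfl | rfl | rfl | rfl | rfl | rfl
  · exact one_mem _
  · exact h1
  · exact h2
  · exact h3
  · rw [jw_append]; exact mul_mem h1 h2
  · rw [jw_append]; exact mul_mem h2 h3
  · rw [jw_append, jw_append]; exact mul_mem (mul_mem h1 h2) h3
  · rw [jw_append]; exact mul_mem h1 h3

theorem isPGroup_SS : IsPGroup 2 SS := fun x => ⟨1, Subtype.ext (SS_comm_sq.2 x x.2)⟩

theorem card_S_ge : 8 ≤ Nat.card SS := by
  classical
  have h1 : ((wS.map jw).toFinset : Set ↥Spor.J1) ⊆ SS := by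
    intro x hx
    rw [Finset.mem_coe, List.mem_toFinset, List.mem_map] at hx
    obtain ⟨w, hw, rfl⟩ := hx
    exact mem_S w hw
  have h2 : (wS.map jw).toFinset.card = 8 := by
    rw [List.toFinset_card_of_nodup nodup_S]; rfl
  rw [← h2]
  have h3 := Nat.card_mono (Set.toFinite (SS : Set ↥Spor.J1)) h1
  rw [Nat.card_coe_set_eq, Set.ncard_coe_finset] at h3
  exact h3

theorem eight_dvd_S : 8 ∣ Nat.card SS := by
  have : Fact (Nat.Prime 2) := ⟨Nat.prime_two⟩
  obtain ⟨k, hk⟩ := isPGroup_SS.exists_card_eq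
  have h1 := card_S_ge
  rw [hk] at h1 ⊢
  have h2 : 3 ≤ k := by
    by_contra h
    have : k ≤ 2 := by omega
    have : 2 ^ k ≤ 2 ^ 2 := Nat.pow_le_pow_right (by norm_num) this
    omega
  exact pow_dvd_pow 2 h2

theorem card_J1 : Nat.card ↥Spor.J1 = 175560 := by
  have h2 : 8 ∣ Nat.card ↥Spor.J1 := dvd_trans eight_dvd_S (Subgroup.card_subgroup_dvd_card _)
  have h3 : 3 ∣ Nat.card ↥Spor.J1 := by
    have := _root_.orderOf_dvd_natCard (jw wc3)
    rwa [o_c3] at this
  have h5 : 5 ∣ Nat.card ↥Spor.J1 := by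
    have := _root_.orderOf_dvd_natCard (jw [1])
    rwa [o_y] at this
  have h7 : 7 ∣ Nat.card ↥Spor.J1 := by
    have := _root_.orderOf_dvd_natCard (jw [0])
    rwa [o_x] at this
  have h11 : 11 ∣ Nat.card ↥Spor.J1 := by
    have := _root_.orderOf_dvd_natCard (jw ws)
    rwa [o_s] at this
  have h19 : 19 ∣ Nat.card ↥Spor.J1 := by
    have := _root_.orderOf_dvd_natCard (jw we)
    rwa [o_e] at this
  have h : 175560 ∣ Nat.card ↥Spor.J1 := by
    have e : 175560 = 8 * 3 * 5 * 7 * 11 * 19 := by norm_num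
    rw [e]
    refine Nat.Coprime.mul_dvd_of_dvd_of_dvd (by norm_num) ?_ h19
    refine Nat.Coprime.mul_dvd_of_dvd_of_dvd (by norm_num) ?_ h11
    refine Nat.Coprime.mul_dvd_of_dvd_of_dvd (by norm_num) ?_ h7
    refine Nat.Coprime.mul_dvd_of_dvd_of_dvd (by norm_num) ?_ h5
    exact Nat.Coprime.mul_dvd_of_dvd_of_dvd (by norm_num) h2 h3
  exact le_antisymm card_le (Nat.le_of_dvd Nat.card_pos h)

theorem card_SS : Nat.card SS = 8 := by
  have : Fact (Nat.Prime 2) := ⟨Nat.prime_two⟩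
  obtain ⟨k, hk⟩ := isPGroup_SS.exists_card_eq
  have h1 := card_S_ge
  have h2 : Nat.card SS ∣ 175560 := card_J1 ▸ Subgroup.card_subgroup_dvd_card SS
  rw [hk] at h1 h2 ⊢
  have h3 : k < 4 := by
    by_contra h
    have h4 : (2 : ℕ) ^ 4 ∣ 2 ^ k := pow_dvd_pow 2 (by omega)
    have := dvd_trans h4 h2
    norm_num at this
  have h4 : 2 < k := by
    by_contra h
    have : k ≤ 2 := by omega
    have : 2 ^ k ≤ 2 ^ 2 := Nat.pow_le_pow_right (by norm_num) this
    omega
  have : k = 3 := by omega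
  rw [this]; norm_num

/-- the elements of the Sylow 2-subgroup -/
theorem mem_SS {x : ↥Spor.J1} (hx : x ∈ SS) : ∃ w ∈ wS, x = jw w := by
  classical
  have h1 : ((wS.map jw).toFinset : Set ↥Spor.J1) ⊆ SS := by
    intro x hx
    rw [Finset.mem_coe, List.mem_toFinset, List.mem_map] at hx
    obtain ⟨w, hw, rfl⟩ := hx
    exact mem_S w hw
  have h2 : ((wS.map jw).toFinset : Set ↥Spor.J1) = SS := by
    apply Set.eq_of_subset_of_ncard_le h1
    rw [Set.ncard_coe_finset, List.toFinset_card_of_nodup nodup_S]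
    have : (SS : Set ↥Spor.J1).ncard = 8 := by
      rw [← Nat.card_coe_set_eq]; exact card_SS
    rw [this]; exact le_rfl
  have h3 : x ∈ ((wS.map jw).toFinset : Set ↥Spor.J1) := by rw [h2]; exact hx
  rw [Finset.mem_coe, List.mem_toFinset, List.mem_map] at h3
  obtain ⟨w, hw, rfl⟩ := h3
  exact ⟨w, hw, rfl⟩

theorem conj_step {a b : List ℕ} (h : ((lt2 (wd ++ a) && lt2 (b ++ wd)) && Nat.beq (wc PJ gs (wd ++ a)) (wc PJ gs (b ++ wd))) = true) :
    jw wd * jw a * (jw wd)⁻¹ = jw b := by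
  have := jw_eq _ _ h
  rw [jw_append, jw_append] at this
  rw [this, mul_inv_cancel_right]

/-- all nontrivial elements of the Sylow 2-subgroup are conjugate -/
theorem conj_SS {x : ↥Spor.J1} (hx : x ∈ SS) (h1 : x ≠ 1) : ∃ k : ℕ, x = jw wd ^ k * jw wt * (jw wd ^ k)⁻¹ := by
  have s0 : jw wt = jw wd ^ 0 * jw wt * (jw wd ^ 0)⁻¹ := by simp
  have step : ∀ {a b : List ℕ} {k : ℕ}, jw a = jw wd ^ k * jw wt * (jw wd ^ k)⁻¹ → jw wd * jw a * (jw wd)⁻¹ = jw b →
      jw b = jw wd ^ (k + 1) * jw wt * (jw wd ^ (k + 1))⁻¹ := by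
    intro a b k ha hb
    rw [← hb, ha, pow_succ']
    group
  have s1 := step s0 (conj_step (a := wt) (b := wt2) (by decide +kernel))
  have s2 := step s1 (conj_step (a := wt2) (b := wt3) (by decide +kernel))
  have s3 := step s2 (conj_step (a := wt3) (b := wt ++ wt2) (by decide +kernel))
  have s4 := step s3 (conj_step (a := wt ++ wt2) (b := wt2 ++ wt3) (by decide +kernel))
  have s5 := step s4 (conj_step (a := wt2 ++ wt3) (b := wt ++ wt2 ++ wt3) (by decide +kernel))
  have s6 := step s5 (conj_step (a := wt ++ wt2 ++ wt3) (b := wt ++ wt3) (by decide +kernel))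
  obtain ⟨w, hw, rfl⟩ := mem_SS hx
  simp only [wS, List.mem_cons, List.not_mem_nil, or_false] at hw
  rcases hw with rfl | rfl | rfl | rfl | rfl | rfl | rfl | rfl
  · exact absurd rfl h1
  · exact ⟨_, s0⟩
  · exact ⟨_, s1⟩
  · exact ⟨_, s2⟩
  · exact ⟨_, s3⟩
  · exact ⟨_, s4⟩
  · exact ⟨_, s5⟩
  · exact ⟨_, s6⟩

/-- all involutions are conjugate -/
theorem conj_inv {z : ↥Spor.J1} (hz : orderOf z = 2) : ∃ g : ↥Spor.J1, z = g * jw wt * g⁻¹ := by
  have : Fact (Nat.Prime 2) := ⟨Nat.prime_two⟩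
  have hc : ¬ 2 ∣ SS.index := by
    have h := SS.card_mul_index
    rw [card_SS, card_J1] at h
    have : SS.index = 21945 := by omega
    rw [this]; norm_num
  let Q : Sylow 2 ↥Spor.J1 := isPGroup_SS.toSylow hc
  have hp : IsPGroup 2 (zpowers z) := by
    apply IsPGroup.of_card (n := 1)
    rw [Nat.card_zpowers, hz, pow_one]
  obtain ⟨R, hR⟩ := hp.exists_le_sylow
  obtain ⟨g, hg⟩ := MulAction.exists_smul_eq ↥Spor.J1 R Q
  have h1 : g * z * g⁻¹ ∈ SS := by
    have h2 : g * z * g⁻¹ ∈ ((g • R : Sylow 2 ↥Spor.J1) : Subgroup ↥Spor.J1) := by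
      rw [Sylow.coe_subgroup_smul]
      exact ⟨z, hR (mem_zpowers z), rfl⟩
    rw [hg] at h2
    exact h2
  obtain ⟨k, hk⟩ := conj_SS h1 (by
    intro h
    have : z = 1 := by
      have := congrArg (fun x => g⁻¹ * x * g) h
      simpa [mul_assoc] using this
    rw [this, orderOf_one] at hz
    norm_num at hz)
  refine ⟨g⁻¹ * jw wd ^ k, ?_⟩
  have h3 : z = g⁻¹ * (g * z * g⁻¹) * g := by group
  rw [h3, hk]
  group

end Cfsg.Agent.H11.J1
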