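import Mathlib
import Cfsg.Agent.H11_J1E
import Cfsg.Agent.H14_Out

set_option autoImplicit false
set_option maxRecDepth 100000

/-!
The group `J1` as a matrix group: centralizers.
-/

namespace Cfsg.Agent.H11.J1

open Cfsg Cfsg.Agent.H11.KMat Subgroup

theorem LL_le : LL ≤ Spor.J1 := by
  unfold LL
  rw [Subgroup.closure_le]
  intro x hx
  have hx' : x = g1 ∨ x = g2 := by simpa [Ls] using hx
  rcases hx' with rfl | rfl
  · exact (jw [1, 1, 0]).2
  · exact (jw [1, 1, 1, 0, 0, 1, 0, 0, 0]).2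

/-- uniqueness of the coset -/
theorem uniq {i j : ℕ} (hi : i < 266) (hj : j < 266) {l l' : U} (hl : l ∈ LL) (hl' : l' ∈ LL)
    (h : rr i * l = rr j * l') : i = j := by
  obtain ⟨φ, hφ⟩ := exists_phi
  have hinj : Function.Injective φ := by
    intro a b hab
    apply Subtype.ext
    rw [hφ a, hφ b, hab]
  have hbij : Function.Bijective φ := by
    rw [Nat.bijective_iff_injective_and_card]
    exact ⟨hinj, by rw [card_prod, card_J1]⟩
  obtain ⟨a, ha⟩ := hbij.2 (⟨i, hi⟩, ⟨l, hl⟩)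
  obtain ⟨b, hb⟩ := hbij.2 (⟨j, hj⟩, ⟨l', hl'⟩)
  have h1 := hφ a
  have h2 := hφ b
  rw [ha] at h1
  rw [hb] at h2
  have h3 : a = b := Subtype.ext (by rw [h1, h2]; exact h)
  rw [h3, hb] at ha
  have := congrArg (fun p => (p.1 : ℕ)) ha
  simpa using this.symm

def fixs (w : List ℕ) : Finset ℕ := (Finset.range 266).filter (fun i => act w i = i)

theorem cent_le (w : List ℕ) (a b : ℕ) (hw : lt2 w = true) (hmem : TL.mem (wc PJ gs w) = true)
    (ha : (fixs w).card = a) (hb : TL.count (fun x => Nat.beq (mul PJ x (wc PJ gs w)) (mul PJ (wc PJ gs w) x)) = b) :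
    Nat.card (Subgroup.centralizer {jw w}) ≤ a * b := by
  classical
  have hrep := rep_w w hw
  have hxL : (jw w : U) ∈ LL := by
    obtain ⟨g, hg, hr⟩ := isTree_L.rep _ (Tr.mem_toList hmem)
    have : g = wg Gs w := hr.ext okJ hrep
    have h5 : (jw w : U) = g := this.symm
    rw [h5]
    exact hg
  have hcL : Nat.card {g : U // g ∈ LL ∧ g * (jw w : U) = (jw w : U) * g} = b := by
    rw [← hb]
    apply isTree_L.card_filter okJ
    intro g hg c hc
    have h1 := ((hc.mul okJ hrep).code_iff okJ (hrep.mul okJ hc))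
    constructor
    · intro h; exact Nat.beq_eq ▸ h1.2 h
    · intro h; exact h1.1 (Nat.eq_of_beq_eq_true h)
  obtain ⟨φ, hφ⟩ := exists_phi
  have hcomm : ∀ g : Subgroup.centralizer {jw w}, (g : ↥Spor.J1) * jw w = jw w * g := by
    intro g
    exact (Subgroup.mem_centralizer_singleton_iff.1 g.2)
  have hfix : ∀ g : Subgroup.centralizer {jw w}, ((φ g).1 : ℕ) ∈ fixs w := by
    intro g
    have hi : ((φ g).1 : ℕ) < 266 := (φ g).1.2
    rw [fixs, Finset.mem_filter, Finset.mem_range]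
    refine ⟨hi, ?_⟩
    obtain ⟨h1, l, hl, h2⟩ := act_spec w hw _ hi
    have h3 := hφ (g : ↥Spor.J1)
    have h4 : (g : U) * (jw w : U) = (jw w : U) * g := congrArg Subtype.val (hcomm g)
    rw [h3] at h4
    have h5 : wg Gs w = (jw w : U) := rfl
    have h6 : rr (act w ↑(φ ↑g).1) * (l * (φ g).2) = rr (φ g).1 * ((φ g).2 * (jw w : U)) := by
      rw [← mul_assoc, ← h2, h5, mul_assoc, ← h4, mul_assoc]
    exact uniq h1 hi (mul_mem hl (φ g).2.2) (mul_mem (φ g).2.2 hxL) h6
  let r0 : Fin 266 → Subgroup.centralizer {jw w} := fun i =>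
    if h : ∃ g : Subgroup.centralizer {jw w}, (φ g).1 = i then h.choose else 1
  have hr0 : ∀ g : Subgroup.centralizer {jw w}, (φ (r0 (φ g).1)).1 = (φ g).1 := by
    intro g
    have h : ∃ g' : Subgroup.centralizer {jw w}, (φ g').1 = (φ g).1 := ⟨g, rfl⟩
    simp only [r0, dif_pos h]
    exact h.choose_spec
  have hmemL : ∀ g : Subgroup.centralizer {jw w}, (((r0 (φ g).1)⁻¹ * g : Subgroup.centralizer {jw w}) : U) ∈ LL ∧
      (((r0 (φ g).1)⁻¹ * g : Subgroup.centralizer {jw w}) : U) * (jw w : U) =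
      (jw w : U) * (((r0 (φ g).1)⁻¹ * g : Subgroup.centralizer {jw w}) : U) := by
    intro g
    constructor
    · have h1 := hφ (r0 (φ g).1 : ↥Spor.J1)
      have h2 := hφ (g : ↥Spor.J1)
      rw [hr0 g] at h1
      have h3 : (((r0 (φ g).1)⁻¹ * g : Subgroup.centralizer {jw w}) : U) = ((r0 (φ g).1 : ↥Spor.J1) : U)⁻¹ * (g : U) := rfl
      rw [h3, h1, h2, mul_inv_rev, mul_assoc, inv_mul_cancel_left]
      exact mul_mem (inv_mem (φ _).2.2) (φ _).2.2
    · exact congrArg Subtype.val (hcomm _)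
  let ψ : Subgroup.centralizer {jw w} → ↥(fixs w) × {g : U // g ∈ LL ∧ g * (jw w : U) = (jw w : U) * g} :=
    fun g => (⟨_, hfix g⟩, ⟨_, hmemL g⟩)
  have hψ : Function.Injective ψ := by
    intro g g' h
    have h1 : ((φ g).1 : ℕ) = (φ g').1 := congrArg (fun p => (p.1 : ℕ)) h
    have h2 : (((r0 (φ g).1)⁻¹ * g : Subgroup.centralizer {jw w}) : U) =
        (((r0 (φ g').1)⁻¹ * g' : Subgroup.centralizer {jw w}) : U) := congrArg (fun p => (p.2 : U)) h
    rw [Fin.ext h1] at h2
    have h3 := Subtype.ext (Subtype.ext h2)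
    exact mul_left_cancel h3
  have h1 := Nat.card_le_card_of_injective ψ hψ
  rw [Nat.card_prod, hcL, Nat.card_eq_fintype_card (α := ↥(fixs w)), Fintype.card_coe, ha] at h1
  exact h1

theorem c2_le : Nat.card (Subgroup.centralizer {jw [1, 1, 1, 0, 0, 1, 0, 0, 0]}) ≤ 120 :=
  cent_le _ 10 12 (by decide +kernel) (by decide +kernel) (by decide +kernel) (by decide +kernel)
theorem c3_le : Nat.card (Subgroup.centralizer {jw wc3}) ≤ 30 :=
  cent_le _ 5 6 (by decide +kernel) (by decide +kernel) (by decide +kernel) (by decide +kernel)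
theorem c5_le : Nat.card (Subgroup.centralizer {jw [0, 0, 0, 0, 1, 0, 1]}) ≤ 30 :=
  cent_le _ 6 5 (by decide +kernel) (by decide +kernel) (by decide +kernel) (by decide +kernel)
theorem c11_le : Nat.card (Subgroup.centralizer {jw ws}) ≤ 22 :=
  cent_le _ 2 11 (by decide +kernel) (by decide +kernel) (by decide +kernel) (by decide +kernel)

end Cfsg.Agent.H11.J1
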