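import Mathlib
import Cfsg.Agent.H11_J1F

set_option autoImplicit false
set_option maxRecDepth 100000

/-!
The group `J1` as a matrix group: the centralizer of an involution.
-/

namespace Cfsg.Agent.H11.J1

open Cfsg Cfsg.Agent.H11.KMat Subgroup Matrix

theorem card_cent_conj {G : Type*} [Group G] (g t : G) :
    Nat.card (Subgroup.centralizer {g * t * g⁻¹}) = Nat.card (Subgroup.centralizer {t}) := by
  refine Nat.card_congr ?_
  refine ⟨fun x => ⟨g⁻¹ * x * g, ?_⟩, fun x => ⟨g * x * g⁻¹, ?_⟩, ?_, ?_⟩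
  · rw [Subgroup.mem_centralizer_singleton_iff]
    have h := Subgroup.mem_centralizer_singleton_iff.1 x.2
    calc g⁻¹ * x * g * t = g⁻¹ * (x * (g * t * g⁻¹)) * g := by group
      _ = g⁻¹ * ((g * t * g⁻¹) * x) * g := by rw [h]
      _ = t * (g⁻¹ * x * g) := by group
  · rw [Subgroup.mem_centralizer_singleton_iff]
    have h := Subgroup.mem_centralizer_singleton_iff.1 x.2
    calc g * x * g⁻¹ * (g * t * g⁻¹) = g * (x * t) * g⁻¹ := by group
      _ = g * (t * x) * g⁻¹ := by rw [h]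
      _ = g * t * g⁻¹ * (g * x * g⁻¹) := by group
  · intro x; apply Subtype.ext; simp only; group
  · intro x; apply Subtype.ext; simp only; group

/-- the elements `a` (order 2) and `b` (order 3) generating the subgroup isomorphic to the alternating group -/
def wa : List ℕ := [1,1,1,0,0,0,1,0,0,1,0,1]
def wb : List ℕ := [1,1,1,0,0,0,0,1,1,0,1,0]

def V : Fin 5 → Fin 7 → ZMod 11 := ![![0,3,8,4,7,8,0], ![1,10,0,4,5,9,1], ![4,9,0,3,0,6,4], ![7,1,4,1,2,7,4], ![10,10,10,10,8,3,2]]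

def pa : Equiv.Perm (Fin 5) := ⟨![4,2,1,3,0], ![4,2,1,3,0], by decide, by decide⟩
def pb : Equiv.Perm (Fin 5) := ⟨![3,1,0,2,4], ![2,1,3,0,4], by decide, by decide⟩

def sa : alternatingGroup (Fin 5) := ⟨pa, Equiv.Perm.mem_alternatingGroup.2 (by decide)⟩
def sb : alternatingGroup (Fin 5) := ⟨pb, Equiv.Perm.mem_alternatingGroup.2 (by decide)⟩

theorem V_inj : ∀ i j : Fin 5, V i = V j → i = j := by decide +kernel
theorem V_neg : ∀ i j : Fin 5, V i ≠ - V j := by decide +kernel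

theorem act_a : ∀ i : Fin 5, mat 24 7 11 (wc PJ gs wa) *ᵥ V i = V (pa i) := by decide +kernel
theorem act_b : ∀ i : Fin 5, mat 24 7 11 (wc PJ gs wb) *ᵥ V i = V (pb i) := by decide +kernel
theorem act_t : ∀ i : Fin 5, mat 24 7 11 (wc PJ gs wt) *ᵥ V i = - V i := by decide +kernel

theorem comm_ta : jw wa * jw wt = jw wt * jw wa := by
  rw [← jw_append, ← jw_append]; exact jw_eq _ _ (by decide +kernel)
theorem comm_tb : jw wb * jw wt = jw wt * jw wb := by
  rw [← jw_append, ← jw_append]; exact jw_eq _ _ (by decide +kernel)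

def W60 : List (List ℕ) := [[], [0], [1], [1,0], [0,1], [1,1], [0,1,0], [1,1,0], [1,0,1], [0,1,1], [1,0,1,0], [0,1,1,0], [0,1,0,1], [1,1,0,1], [1,0,1,1], [0,1,0,1,0], [1,1,0,1,0], [1,0,1,1,0], [1,0,1,0,1], [0,1,1,0,1], [0,1,0,1,1], [1,1,0,1,1], [1,0,1,0,1,0], [0,1,1,0,1,0], [0,1,0,1,1,0], [1,1,0,1,1,0], [1,1,0,1,0,1], [1,0,1,1,0,1], [1,0,1,0,1,1], [1,1,0,1,0,1,0], [1,0,1,1,0,1,0], [1,0,1,0,1,1,0], [0,1,1,0,1,0,1], [0,1,0,1,1,0,1], [1,1,0,1,1,0,1], [1,1,0,1,0,1,1], [0,1,1,0,1,0,1,0], [0,1,0,1,1,0,1,0], [1,1,0,1,1,0,1,0], [1,1,0,1,0,1,1,0], [1,0,1,1,0,1,0,1], [1,0,1,0,1,1,0,1], [0,1,1,0,1,0,1,1], [1,0,1,1,0,1,0,1,0], [1,0,1,0,1,1,0,1,0], [0,1,1,0,1,0,1,1,0], [0,1,0,1,1,0,1,0,1], [1,1,0,1,1,0,1,0,1], [1,1,0,1,0,1,1,0,1], [1,0,1,1,0,1,0,1,1], [0,1,0,1,1,0,1,0,1,0], [1,1,0,1,1,0,1,0,1,0], [1,1,0,1,0,1,1,0,1,0], [1,0,1,1,0,1,0,1,1,0], [0,1,1,0,1,0,1,1,0,1], [0,1,0,1,1,0,1,0,1,1], [0,1,1,0,1,0,1,1,0,1,0], [0,1,0,1,1,0,1,0,1,1,0],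 [1,0,1,1,0,1,0,1,1,0,1], [1,0,1,1,0,1,0,1,1,0,1,0]]

theorem surj60 : ∀ σ : Equiv.Perm (Fin 5), Equiv.Perm.sign σ = 1 → ∃ w ∈ W60, wg [pa, pb] w = σ := by decide +kernel

/-- the graph of an isomorphism -/
def KK : Subgroup (↥Spor.J1 × ↥(alternatingGroup (Fin 5))) := Subgroup.closure {(jw wa, sa), (jw wb, sb)}

theorem KK_vec {p : ↥Spor.J1 × ↥(alternatingGroup (Fin 5))} (hp : p ∈ KK) :
    (∀ i, ((p.1 : U) : Matrix (Fin 7) (Fin 7) (ZMod 11)) *ᵥ V i = V ((p.2 : Equiv.Perm (Fin 5)) i)) ∧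
      p.1 * jw wt = jw wt * p.1 := by
  unfold KK at hp
  induction hp using Subgroup.closure_induction with
  | mem x hx =>
    rcases hx with rfl | hx
    · refine ⟨fun i => ?_, comm_ta⟩
      have h : ((jw wa : U) : Matrix (Fin 7) (Fin 7) (ZMod 11)) = mat 24 7 11 (wc PJ gs wa) := (rep_w wa (by decide)).eq
      rw [h]; exact act_a i
    · rw [Set.mem_singleton_iff] at hx
      subst hx
      refine ⟨fun i => ?_, comm_tb⟩
      have h : ((jw wb : U) : Matrix (Fin 7) (Fin 7) (ZMod 11)) = mat 24 7 11 (wc PJ gs wb) := (rep_w wb (by decide)).eq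
      rw [h]; exact act_b i
  | one => exact ⟨fun i => by simp, by simp⟩
  | mul x y hx hy ihx ihy =>
    refine ⟨fun i => ?_, ?_⟩
    · show (((x.1 : U) : Matrix (Fin 7) (Fin 7) (ZMod 11)) * ((y.1 : U) : Matrix (Fin 7) (Fin 7) (ZMod 11))) *ᵥ V i = _
      rw [← mulVec_mulVec, ihy.1, ihx.1]; rfl
    · show x.1 * y.1 * jw wt = jw wt * (x.1 * y.1)
      rw [mul_assoc, ihy.2, ← mul_assoc, ihx.2, mul_assoc]
  | inv x hx ih =>
    refine ⟨fun i => ?_, ?_⟩
    · have h1 := ih.1 ((x.2 : Equiv.Perm (Fin 5))⁻¹ i)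
      have h0 : (x.2 : Equiv.Perm (Fin 5)) ((x.2 : Equiv.Perm (Fin 5))⁻¹ i) = i := Equiv.apply_symm_apply _ i
      rw [h0] at h1
      have h2 : (((x⁻¹).1 : U) : Matrix (Fin 7) (Fin 7) (ZMod 11)) * ((x.1 : U) : Matrix (Fin 7) (Fin 7) (ZMod 11)) = 1 := by
        have : (x⁻¹).1 * x.1 = 1 := inv_mul_cancel x.1
        have := congrArg (fun g : ↥Spor.J1 => ((g : U) : Matrix (Fin 7) (Fin 7) (ZMod 11))) this
        exact this
      rw [← h1, mulVec_mulVec, h2, one_mulVec]; rfl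
    · show x.1⁻¹ * jw wt = jw wt * x.1⁻¹
      rw [inv_mul_eq_iff_eq_mul, ← mul_assoc, ih.2, mul_inv_cancel_right]

theorem KK_snd_surj (σ : ↥(alternatingGroup (Fin 5))) : ∃ p ∈ KK, p.2 = σ := by
  obtain ⟨w, -, hw⟩ := surj60 σ (Equiv.Perm.mem_alternatingGroup.1 σ.2)
  refine ⟨wg [(jw wa, sa), (jw wb, sb)] w, wg_mem (fun x hx => Subgroup.subset_closure (by simpa using hx)) w, ?_⟩
  apply Subtype.ext
  rw [← hw]
  have : ∀ w : List ℕ, (((wg [(jw wa, sa), (jw wb, sb)] w).2 : ↥(alternatingGroup (Fin 5))) : Equiv.Perm (Fin 5)) = wg [pa, pb] w := by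
    intro w
    induction w with
    | nil => rfl
    | cons i w ih =>
      rw [wg, wg]
      show ((([(jw wa, sa), (jw wb, sb)].getD i 1).2 : ↥(alternatingGroup (Fin 5))) : Equiv.Perm (Fin 5)) * _ = _
      rw [ih]
      congr 1
      match i with
      | 0 => rfl
      | 1 => rfl
      | (n + 2) => rfl
  exact this w

theorem cent_t_le : Nat.card (Subgroup.centralizer {jw wt}) ≤ 120 := by
  have h2 : orderOf (jw [1, 1, 1, 0, 0, 1, 0, 0, 0]) = 2 := order_jw _ _ (by decide +kernel) (by decide +kernel)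
  obtain ⟨g, hg⟩ := conj_inv h2
  have h := c2_le
  rw [hg, card_cent_conj] at h
  exact h

abbrev CT := Subgroup.centralizer ({jw wt} : Set ↥Spor.J1)

def tC : ↥CT := ⟨jw wt, by rw [Subgroup.mem_centralizer_singleton_iff]⟩

def kC : ↥KK →* ↥CT where
  toFun k := ⟨k.1.1, by rw [Subgroup.mem_centralizer_singleton_iff]; exact (KK_vec k.2).2⟩
  map_one' := rfl
  map_mul' _ _ := rfl

theorem tC_comm (z : ↥(zpowers tC)) (k : ↥KK) : Commute ((zpowers tC).subtype z) (kC k) := by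
  obtain ⟨z, hz⟩ := z
  obtain ⟨n, rfl⟩ := Subgroup.mem_zpowers_iff.1 hz
  apply Commute.zpow_left
  apply Subtype.ext
  exact (KK_vec k.2).2.symm

def Phi : ↥(zpowers tC) × ↥KK →* ↥CT := MonoidHom.noncommCoprod (zpowers tC).subtype kC tC_comm

theorem o_tC : orderOf tC = 2 := by
  rw [← Subgroup.orderOf_coe]; exact o_t

theorem Phi_inj : Function.Injective Phi := by
  rw [injective_iff_map_eq_one]
  rintro ⟨⟨z, hz⟩, k⟩ h
  have h1 : z * kC k = 1 := h
  have h2 : z = 1 ∨ z = tC := by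
    obtain ⟨n, rfl⟩ := Subgroup.mem_zpowers_iff.1 hz
    rcases Int.even_or_odd' n with ⟨m, rfl | rfl⟩
    · left
      rw [_root_.zpow_mul]
      have : tC ^ (2 : ℤ) = 1 := by
        have := pow_orderOf_eq_one tC
        rw [o_tC] at this
        exact_mod_cast this
      rw [this, _root_.one_zpow]
    · right
      rw [_root_.zpow_add, _root_.zpow_mul]
      have : tC ^ (2 : ℤ) = 1 := by
        have := pow_orderOf_eq_one tC
        rw [o_tC] at this
        exact_mod_cast this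
      rw [this, _root_.one_zpow, one_mul, zpow_one]
  have hv := (KK_vec k.2).1
  rcases h2 with rfl | rfl
  · have h3 : kC k = 1 := by rwa [one_mul] at h1
    have h4 : k.1.1 = 1 := congrArg Subtype.val h3
    have h5 : k.1.2 = 1 := by
      apply Subtype.ext
      ext i
      have := hv i
      rw [h4] at this
      have h6 : V i = V ((k.1.2 : Equiv.Perm (Fin 5)) i) := by simpa using this
      have := V_inj _ _ h6
      exact congrArg Fin.val this.symm
    have h6 : k = 1 := Subtype.ext (Prod.ext h4 h5)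
    rw [h6]; rfl
  · exfalso
    have h3 : jw wt * k.1.1 = 1 := congrArg Subtype.val h1
    have h4 : ((jw wt : U) : Matrix (Fin 7) (Fin 7) (ZMod 11)) * ((k.1.1 : U) : Matrix (Fin 7) (Fin 7) (ZMod 11)) = 1 :=
      congrArg (fun g : ↥Spor.J1 => ((g : U) : Matrix (Fin 7) (Fin 7) (ZMod 11))) h3
    have h5 := congrArg (fun M => M *ᵥ V 0) h4
    have h6 : ((jw wt : U) : Matrix (Fin 7) (Fin 7) (ZMod 11)) = mat 24 7 11 (wc PJ gs wt) := (rep_w wt (by decide)).eq
    simp only [← mulVec_mulVec, hv 0, one_mulVec, h6, act_t] at h5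
    exact V_neg _ _ h5.symm

theorem card_A5 : Nat.card ↥(alternatingGroup (Fin 5)) = 60 := by
  rw [nat_card_alternatingGroup]
  simp [Nat.factorial]

def sndK : ↥KK →* ↥(alternatingGroup (Fin 5)) := (MonoidHom.snd _ _).comp KK.subtype

theorem sndK_surj : Function.Surjective sndK := by
  intro σ
  obtain ⟨p, hp, h⟩ := KK_snd_surj σ
  exact ⟨⟨p, hp⟩, h⟩

theorem card_KK : Nat.card KK = 60 := by
  apply le_antisymm
  · have h1 := Nat.card_le_card_of_injective Phi Phi_inj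
    rw [Nat.card_prod, Nat.card_zpowers, o_tC] at h1
    have h2 : Nat.card CT ≤ 120 := cent_t_le
    have h3 := h1.trans h2
    omega
  · rw [← card_A5]
    exact Nat.card_le_card_of_surjective _ sndK_surj

theorem card_CT : Nat.card CT = 120 := by
  apply le_antisymm cent_t_le
  have h1 := Nat.card_le_card_of_injective Phi Phi_inj
  rw [Nat.card_prod, Nat.card_zpowers, o_tC, card_KK] at h1
  exact h1

theorem Phi_bij : Function.Bijective Phi := by
  rw [Nat.bijective_iff_injective_and_card]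
  exact ⟨Phi_inj, by rw [Nat.card_prod, Nat.card_zpowers, o_tC, card_KK, card_CT]⟩

theorem sndK_bij : Function.Bijective sndK := by
  rw [Nat.bijective_iff_surjective_and_card]
  exact ⟨sndK_surj, by rw [card_KK, card_A5]⟩

theorem iso_CT : Nonempty (↥CT ≃* Multiplicative (ZMod 2) × ↥(alternatingGroup (Fin 5))) := by
  have : Fact (Nat.Prime 2) := ⟨Nat.prime_two⟩
  have e1 : ↥(zpowers tC) ≃* Multiplicative (ZMod 2) :=
    mulEquivOfPrimeCardEq (p := 2) (by rw [Nat.card_zpowers, o_tC]) (by simp)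
  exact ⟨(MulEquiv.ofBijective Phi Phi_bij).symm.trans (MulEquiv.prodCongr e1 (MulEquiv.ofBijective sndK sndK_bij))⟩

theorem card_cent_inv {z : ↥Spor.J1} (hz : orderOf z = 2) : Nat.card (Subgroup.centralizer {z}) = 120 := by
  obtain ⟨g, rfl⟩ := conj_inv hz
  rw [card_cent_conj, card_CT]

end Cfsg.Agent.H11.J1
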