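import Mathlib

/-!
# H26_Cnt1: local counting around a Sylow subgroup of prime order
-/

set_option autoImplicit false

namespace Cfsg.Agent.H26.Cnt

variable {G : Type*} [Group G] [Finite G] {p : ℕ} [hp : Fact p.Prime]

theorem centralizer_zpowers (x : G) : Subgroup.centralizer ((Subgroup.zpowers x : Subgroup G) : Set G) = Subgroup.centralizer ({x} : Set G) := by
  ext g
  rw [Subgroup.mem_centralizer_iff, Subgroup.mem_centralizer_singleton_iff]
  constructor
  · intro h; exact (h x (Subgroup.mem_zpowers x)).symm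
  · rintro h _ ⟨k, rfl⟩
    have hc : Commute g x := h
    exact (hc.zpow_right k).eq.symm

/-- the `j`-th power automorphism -/
theorem exists_pow_aut {x : G} {j : ℕ} (hj : (orderOf x).Coprime j) :
    ∃ α : MulAut (Subgroup.zpowers x), ∀ y, α y = y ^ j := by
  have hcard : (Nat.card (Subgroup.zpowers x)).Coprime j := by rwa [Nat.card_zpowers]
  refine ⟨{ toFun := fun y => y ^ j
            invFun := (powCoprime hcard).symm
            left_inv := (powCoprime hcard).left_inv
            right_inv := (powCoprime hcard).right_inv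
            map_mul' := fun a b => ?_ }, fun _ => rfl⟩
  have hc : Commute a b := mul_comm' a b
  exact hc.mul_pow j

/-- the group of automorphisms of `⟨x⟩` induced by the normalizer -/
noncomputable def autG (x : G) : Subgroup (MulAut (Subgroup.zpowers x)) :=
  (Subgroup.zpowers x).normalizerMonoidHom.range

theorem mem_autG {x : G} {α : MulAut (Subgroup.zpowers x)} (h : α ∈ autG x) :
    ∃ n : G, ∀ y : Subgroup.zpowers x, n * y * n⁻¹ = (α y : G) := by
  obtain ⟨n, rfl⟩ := h
  exact ⟨n, fun y => rfl⟩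

theorem card_normalizer (x : G) : Nat.card (Subgroup.normalizer ((Subgroup.zpowers x : Subgroup G) : Set G)) =
    Nat.card (Subgroup.centralizer ({x} : Set G)) * Nat.card (autG x) := by
  have h1 := Subgroup.card_mul_index (Subgroup.zpowers x).normalizerMonoidHom.ker
  rw [Subgroup.index_ker, Subgroup.normalizerMonoidHom_ker, centralizer_zpowers] at h1
  have h2 : Nat.card ((Subgroup.centralizer ({x} : Set G)).subgroupOf (Subgroup.normalizer ((Subgroup.zpowers x : Subgroup G) : Set G))) =
      Nat.card (Subgroup.centralizer ({x} : Set G)) := by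
    apply Nat.card_congr
    apply (Subgroup.subgroupOfEquivOfLe _).toEquiv
    rw [← centralizer_zpowers]
    exact Subgroup.centralizer_le_normalizer _
  rw [h2] at h1
  exact h1.symm

theorem card_autG_dvd {x : G} (hx : orderOf x = p) : Nat.card (autG x) ∣ p - 1 := by
  have h1 : Nat.card (MulAut (Subgroup.zpowers x)) = p - 1 := by
    rw [IsCyclic.card_mulAut, Nat.card_zpowers, hx, Nat.totient_prime hp.out]
  rw [← h1]
  exact Subgroup.card_subgroup_dvd_card _

/-- if all automorphisms are induced, all generators are conjugate -/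
theorem conj_of_full {x : G} (hx : orderOf x = p) (h : Nat.card (autG x) = p - 1) {j : ℕ} (hj : ¬ p ∣ j) : IsConj (x ^ j) x := by
  have hcop : (orderOf x).Coprime j := by rw [hx]; exact (Nat.Prime.coprime_iff_not_dvd hp.out).2 hj
  obtain ⟨α, hα⟩ := exists_pow_aut hcop
  have h1 : Nat.card (MulAut (Subgroup.zpowers x)) = p - 1 := by
    rw [IsCyclic.card_mulAut, Nat.card_zpowers, hx, Nat.totient_prime hp.out]
  have htop : autG x = ⊤ := Subgroup.eq_top_of_card_eq _ (by rw [h, h1])
  obtain ⟨n, hn⟩ := mem_autG (x := x) (α := α) (by rw [htop]; trivial)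
  have h2 := hn ⟨x, Subgroup.mem_zpowers x⟩
  rw [hα] at h2
  rw [isConj_comm, isConj_iff]
  exact ⟨n, h2⟩

/-- index two, odd order -/
theorem conj_of_half {x : G} (hx : orderOf x = p) (h : 2 * Nat.card (autG x) = p - 1) (hodd : Odd (Nat.card (autG x))) :
    (∀ j : ℕ, ¬ p ∣ j → IsConj (x ^ j) x ∨ IsConj (x ^ j) x⁻¹) ∧ ¬ IsConj x x⁻¹ := by
  have h1 : Nat.card (MulAut (Subgroup.zpowers x)) = p - 1 := by
    rw [IsCyclic.card_mulAut, Nat.card_zpowers, hx, Nat.totient_prime hp.out]
  have hidx : (autG x).index = 2 := by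
    have h2 := Subgroup.card_mul_index (autG x)
    rw [h1, ← h, mul_comm 2] at h2
    exact Nat.eq_of_mul_eq_mul_left Nat.card_pos h2
  have hp1 : ¬ p ∣ (p - 1) := by
    intro hd
    have h3 := hp.out.two_le
    exact absurd (Nat.le_of_dvd (by omega) hd) (by omega)
  obtain ⟨ι, hι⟩ := exists_pow_aut (x := x) (j := p - 1) (by rw [hx]; exact (Nat.Prime.coprime_iff_not_dvd hp.out).2 hp1)
  have hinv : ∀ y : Subgroup.zpowers x, ι y = y⁻¹ := by
    intro y
    rw [hι, eq_inv_iff_mul_eq_one, ← pow_succ]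
    have h3 : p - 1 + 1 = Nat.card (Subgroup.zpowers x) := by
      rw [Nat.card_zpowers, hx]; have := hp.out.two_le; omega
    rw [h3, pow_card_eq_one']
  have hιι : ι * ι = 1 := by
    ext y
    rw [MulAut.mul_apply, hinv, hinv, inv_inv]; rfl
  have hp3 : 2 < p := by
    have := Nat.card_pos (α := autG x)
    have := hp.out.two_le
    omega
  have hι1 : ι ≠ 1 := by
    intro h3
    have h4 := hinv ⟨x, Subgroup.mem_zpowers x⟩
    rw [h3, MulAut.one_apply] at h4
    have h5 : x = x⁻¹ := congrArg Subtype.val h4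
    have h6 : x ^ 2 = 1 := by rw [sq]; nth_rewrite 2 [h5]; exact mul_inv_cancel x
    have h7 := orderOf_dvd_of_pow_eq_one h6
    rw [hx] at h7
    exact absurd (Nat.le_of_dvd (by norm_num) h7) (by omega)
  have hιn : ι ∉ autG x := by
    intro h3
    have h4 : orderOf (⟨ι, h3⟩ : autG x) = 2 := by
      rw [Subgroup.orderOf_mk, orderOf_eq_prime_iff]
      exact ⟨by rw [sq]; exact hιι, hι1⟩
    have h5 := orderOf_dvd_natCard (⟨ι, h3⟩ : autG x)
    rw [h4] at h5
    exact (Nat.not_even_iff_odd.2 hodd) (even_iff_two_dvd.2 h5)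
  constructor
  · intro j hj
    have hcop : (orderOf x).Coprime j := by rw [hx]; exact (Nat.Prime.coprime_iff_not_dvd hp.out).2 hj
    obtain ⟨α, hα⟩ := exists_pow_aut hcop
    by_cases h3 : α ∈ autG x
    · left
      obtain ⟨n, hn⟩ := mem_autG h3
      have h2 := hn ⟨x, Subgroup.mem_zpowers x⟩
      rw [hα] at h2
      rw [isConj_comm, isConj_iff]
      exact ⟨n, h2⟩
    · right
      have h4 : ι * α ∈ autG x := by
        rw [Subgroup.mul_mem_iff_of_index_two hidx]
        exact ⟨fun h => absurd h hιn, fun h => absurd h h3⟩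
      obtain ⟨n, hn⟩ := mem_autG h4
      have h2 := hn ⟨x, Subgroup.mem_zpowers x⟩
      rw [MulAut.mul_apply, hinv, hα] at h2
      rw [isConj_comm, isConj_iff]
      refine ⟨n, ?_⟩
      have h5 : n * x⁻¹ * n⁻¹ = (n * x * n⁻¹)⁻¹ := by group
      rw [h5]
      have h6 : n * x * n⁻¹ = (x ^ j)⁻¹ := h2
      rw [h6, inv_inv]
  · intro hc
    obtain ⟨n, hn⟩ := isConj_iff.1 hc
    apply hιn
    have hnN : n ∈ Subgroup.normalizer ((Subgroup.zpowers x : Subgroup G) : Set G) := by
      rw [Subgroup.mem_normalizer_iff]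
      intro y
      have hmap : ∀ y ∈ Subgroup.zpowers x, n * y * n⁻¹ = y⁻¹ := by
        rintro _ ⟨k, rfl⟩
        change n * x ^ k * n⁻¹ = (x ^ k)⁻¹
        rw [← conj_zpow, hn, inv_zpow]
      constructor
      · intro hy
        rw [hmap y hy]; exact inv_mem hy
      · intro hy
        have h3 := hmap _ (inv_mem hy)
        have h4 : y = (n⁻¹ * (n * y * n⁻¹) * n) := by group
        -- conjugation by `n` is an involution on the cyclic group
        have h5 : n * (n * y * n⁻¹)⁻¹ * n⁻¹ = n * y * n⁻¹ := by rw [h3, inv_inv]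
        have h6 : (n * y * n⁻¹)⁻¹ = y := by
          have := mul_right_cancel h5
          exact mul_left_cancel this
        rw [← h6]; exact inv_mem hy
    refine ⟨⟨n, hnN⟩, ?_⟩
    ext y
    rw [hinv]
    obtain ⟨k, hk⟩ := y.2
    change n * (y : G) * n⁻¹ = (y : G)⁻¹
    rw [← hk]
    change n * x ^ k * n⁻¹ = (x ^ k)⁻¹
    rw [← conj_zpow, hn, inv_zpow]

/-- Sylow counting -/
theorem sylow_count {x : G} (hx : orderOf x = p) (hG : ¬ p ^ 2 ∣ Nat.card G) :
    ∃ n : ℕ, n ≡ 1 [MOD p] ∧ Nat.card G = n * (Nat.card (Subgroup.centralizer ({x} : Set G)) * Nat.card (autG x)) := by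
  have hP : IsPGroup p (Subgroup.zpowers x) := IsPGroup.of_card (n := 1) (by rw [Nat.card_zpowers, hx, pow_one])
  obtain ⟨P, hPx⟩ := hP.exists_le_sylow
  have hcardP : Nat.card (P : Subgroup G) ∣ p := by
    obtain ⟨k, hk⟩ := IsPGroup.iff_card.1 P.isPGroup'
    rw [hk]
    have h1 : k ≤ 1 := by
      by_contra h
      apply hG
      exact (pow_dvd_pow p (by omega : 2 ≤ k)).trans (hk ▸ Subgroup.card_subgroup_dvd_card (P : Subgroup G))
    calc p ^ k ∣ p ^ 1 := pow_dvd_pow p h1
      _ = p := pow_one p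
  have heq : Subgroup.zpowers x = (P : Subgroup G) := by
    apply Subgroup.eq_of_le_of_card_ge hPx
    rw [Nat.card_zpowers, hx]
    exact Nat.le_of_dvd hp.out.pos hcardP
  haveI : Finite (Sylow p G) := inferInstance
  refine ⟨Nat.card (Sylow p G), card_sylow_modEq_one p G, ?_⟩
  rw [← card_normalizer, P.card_eq_index_normalizer, heq, mul_comm]
  exact (Subgroup.card_mul_index _).symm

end Cfsg.Agent.H26.Cnt
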