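import Mathlib
import Cfsg.Agent.H11_J1G
import Cfsg.Agent.H26_Cnt1

set_option autoImplicit false
set_option maxRecDepth 100000

/-!
The group `J1` as a matrix group: centralizers, element orders, simplicity.
-/

namespace Cfsg.Agent.H11.J1

open Cfsg Cfsg.Agent.H11.KMat Subgroup

theorem cent_pow {G : Type*} [Group G] {p : ℕ} (hp : p.Prime) {s : G} (hs : orderOf s = p) {k : ℕ} (hk : ¬ p ∣ k) :
    Subgroup.centralizer {s ^ k} = Subgroup.centralizer {s} := by
  ext c
  rw [Subgroup.mem_centralizer_singleton_iff, Subgroup.mem_centralizer_singleton_iff]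
  constructor
  · intro h
    exact Cfsg.Agent.H14.Out.comm_of_comm_pow hp hs hk h
  · intro h
    exact (Commute.pow_right (show Commute c s from h) k)

theorem cent_prime {G : Type*} [Group G] [Finite G] {p : ℕ} [hp : Fact p.Prime] (hcard : ¬ p ^ 2 ∣ Nat.card G) {s x : G}
    (hs : orderOf s = p) (hx : orderOf x = p) : Nat.card (Subgroup.centralizer {x}) = Nat.card (Subgroup.centralizer {s}) := by
  obtain ⟨g, k, hk, h⟩ := Cfsg.Agent.H14.Out.exists_conj_pow hcard s x hs hx
  rw [← card_cent_conj g x, h, cent_pow hp.out hs]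
  intro hd
  have h0 : k = 0 := Nat.eq_zero_of_dvd_of_lt hd hk
  rw [h0, pow_zero] at h
  have : x = 1 := by
    have := congrArg (fun y => g⁻¹ * y * g) h
    simpa [mul_assoc] using this
  rw [this, orderOf_one] at hx
  exact hp.out.one_lt.ne hx

theorem dvd_cent {G : Type*} [Group G] [Finite G] {x : G} {q : ℕ} [hq : Fact q.Prime]
    (h : q ∣ Nat.card (Subgroup.centralizer {x})) : ∃ z : G, orderOf z = q ∧ z * x = x * z ∧
      orderOf x ∣ Nat.card (Subgroup.centralizer {z}) := by
  obtain ⟨z, hz⟩ := exists_prime_orderOf_dvd_card' q h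
  have hc := Subgroup.mem_centralizer_singleton_iff.1 z.2
  refine ⟨z, by rw [Subgroup.orderOf_coe, hz], hc, ?_⟩
  have hx : x ∈ Subgroup.centralizer {(z : G)} := by
    rw [Subgroup.mem_centralizer_singleton_iff]; exact hc.symm
  exact Subgroup.orderOf_dvd_natCard _ hx

theorem mem_cent_self {G : Type*} [Group G] (x : G) : x ∈ Subgroup.centralizer {x} := by
  rw [Subgroup.mem_centralizer_singleton_iff]

theorem order_dvd_cent {G : Type*} [Group G] [Finite G] (x : G) : orderOf x ∣ Nat.card (Subgroup.centralizer {x}) :=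
  Subgroup.orderOf_dvd_natCard _ (mem_cent_self x)

theorem sq3 : ¬ 3 ^ 2 ∣ Nat.card ↥Spor.J1 := by rw [card_J1]; norm_num
theorem sq5 : ¬ 5 ^ 2 ∣ Nat.card ↥Spor.J1 := by rw [card_J1]; norm_num
theorem sq7 : ¬ 7 ^ 2 ∣ Nat.card ↥Spor.J1 := by rw [card_J1]; norm_num
theorem sq11 : ¬ 11 ^ 2 ∣ Nat.card ↥Spor.J1 := by rw [card_J1]; norm_num
theorem sq19 : ¬ 19 ^ 2 ∣ Nat.card ↥Spor.J1 := by rw [card_J1]; norm_num

theorem cent3_le {x : ↥Spor.J1} (hx : orderOf x = 3) : Nat.card (Subgroup.centralizer {x}) ≤ 30 := by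
  rw [cent_prime sq3 o_c3 hx]; exact c3_le

theorem o_f' : orderOf (jw [0, 0, 0, 0, 1, 0, 1]) = 5 := order_jw _ _ (by decide +kernel) (by decide +kernel)

theorem cent5_le {x : ↥Spor.J1} (hx : orderOf x = 5) : Nat.card (Subgroup.centralizer {x}) ≤ 30 := by
  rw [cent_prime sq5 o_f' hx]; exact c5_le

/-- order 5, commuting with `wk` -/
def wf : List ℕ := wu ++ wu
/-- order 3 -/
def wk : List ℕ := [1,0,1,1,0,0,0,0,1,0,1,1,0,1,0,0,0,1,0]

theorem o_f : orderOf (jw wf) = 5 := order_jw _ _ (by decide +kernel) (by decide +kernel)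
theorem o_k : orderOf (jw wk) = 3 := order_jw _ _ (by decide +kernel) (by decide +kernel)

theorem comm_fk : jw wk * jw wf = jw wf * jw wk := by
  rw [← jw_append, ← jw_append]; exact jw_eq _ _ (by decide +kernel)
theorem comm_ft : jw wt * jw wf = jw wf * jw wt := by
  rw [← jw_append, ← jw_append]; exact jw_eq _ _ (by decide +kernel)
theorem tk_ne : jw wt * jw wk ≠ jw wk * jw wt := by
  rw [← jw_append, ← jw_append]; exact jw_ne _ _ (by decide +kernel)

theorem card_cf : Nat.card (Subgroup.centralizer {jw wf}) = 30 := by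
  apply le_antisymm (cent5_le o_f)
  have h2 : 2 ∣ Nat.card (Subgroup.centralizer {jw wf}) := by
    have := Subgroup.orderOf_dvd_natCard (Subgroup.centralizer {jw wf}) (x := jw wt)
      (Subgroup.mem_centralizer_singleton_iff.2 comm_ft)
    rwa [o_t] at this
  have h3 : 3 ∣ Nat.card (Subgroup.centralizer {jw wf}) := by
    have := Subgroup.orderOf_dvd_natCard (Subgroup.centralizer {jw wf}) (x := jw wk)
      (Subgroup.mem_centralizer_singleton_iff.2 comm_fk)
    rwa [o_k] at this
  have h5 : 5 ∣ Nat.card (Subgroup.centralizer {jw wf}) := by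
    have := order_dvd_cent (jw wf)
    rwa [o_f] at this
  have h : 2 * 3 * 5 ∣ Nat.card (Subgroup.centralizer {jw wf}) := by
    refine Nat.Coprime.mul_dvd_of_dvd_of_dvd (by norm_num) ?_ h5
    exact Nat.Coprime.mul_dvd_of_dvd_of_dvd (by norm_num) h2 h3
  exact Nat.le_of_dvd Nat.card_pos h

theorem card_c5 {x : ↥Spor.J1} (hx : orderOf x = 5) : Nat.card (Subgroup.centralizer {x}) = 30 := by
  rw [cent_prime sq5 o_f hx, card_cf]

theorem card_c3 {x : ↥Spor.J1} (hx : orderOf x = 3) : Nat.card (Subgroup.centralizer {x}) ∣ 30 := by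
  have h0 := cent3_le hx
  have h3 : 3 ∣ Nat.card (Subgroup.centralizer {x}) := by
    have := order_dvd_cent x
    rwa [hx] at this
  have h5 : 5 ∣ Nat.card (Subgroup.centralizer {x}) := by
    rw [cent_prime sq3 o_k hx]
    have := Subgroup.orderOf_dvd_natCard (Subgroup.centralizer {jw wk}) (x := jw wf)
      (Subgroup.mem_centralizer_singleton_iff.2 comm_fk.symm)
    rwa [o_f] at this
  have h : 3 * 5 ∣ Nat.card (Subgroup.centralizer {x}) := Nat.Coprime.mul_dvd_of_dvd_of_dvd (by norm_num) h3 h5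
  obtain ⟨k, hk⟩ := h
  have hpos : 0 < Nat.card (Subgroup.centralizer {x}) := Nat.card_pos
  have hk2 : k = 1 ∨ k = 2 := by omega
  rw [hk]
  rcases hk2 with rfl | rfl <;> norm_num

theorem card_c11 {x : ↥Spor.J1} (hx : orderOf x = 11) : Nat.card (Subgroup.centralizer {x}) = 11 := by
  have h0 : Nat.card (Subgroup.centralizer {x}) ≤ 22 := by rw [cent_prime sq11 o_s hx]; exact c11_le
  have h11 : 11 ∣ Nat.card (Subgroup.centralizer {x}) := by
    have := order_dvd_cent x
    rwa [hx] at this
  obtain ⟨k, hk⟩ := h11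
  have hpos : 0 < Nat.card (Subgroup.centralizer {x}) := Nat.card_pos
  have hk2 : k = 1 ∨ k = 2 := by omega
  rcases hk2 with rfl | rfl
  · rw [hk]
  · exfalso
    have : Fact (Nat.Prime 2) := ⟨Nat.prime_two⟩
    obtain ⟨z, hz, -, h⟩ := dvd_cent (q := 2) (x := x) (by rw [hk]; norm_num)
    rw [hx, card_cent_inv hz] at h
    norm_num at h

/-- the centralizer of an element of order 7 or 19 has order dividing 133 -/
theorem cent_dvd_133 {x : ↥Spor.J1} (h : orderOf x = 7 ∨ orderOf x = 19) : Nat.card (Subgroup.centralizer {x}) ∣ 133 := by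
  have h0 : Nat.card (Subgroup.centralizer {x}) ∣ 1320 * 133 := by
    have := Subgroup.card_subgroup_dvd_card (Subgroup.centralizer {x})
    rw [card_J1] at this
    exact this
  have key : ∀ q : ℕ, q.Prime → q ∣ Nat.card (Subgroup.centralizer {x}) → ¬ q ∣ 1320 := by
    intro q hq hd hq2
    have : Fact q.Prime := ⟨hq⟩
    have hq3 : q = 2 ∨ q = 3 ∨ q = 5 ∨ q = 11 := by
      have : q ∈ Nat.primeFactors 1320 := Nat.mem_primeFactors.2 ⟨hq, hq2, by norm_num⟩
      have h1320 : Nat.primeFactors 1320 = {2, 3, 5, 11} := by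
        have : (1320 : ℕ) = 2 ^ 3 * 3 * 5 * 11 := by norm_num
        rw [this, Nat.primeFactors_mul (by norm_num) (by norm_num), Nat.primeFactors_mul (by norm_num) (by norm_num),
          Nat.primeFactors_mul (by norm_num) (by norm_num), Nat.primeFactors_pow _ (by norm_num),
          Nat.Prime.primeFactors (by norm_num), Nat.Prime.primeFactors (by norm_num), Nat.Prime.primeFactors (by norm_num),
          Nat.Prime.primeFactors (by norm_num)]
        rfl
      rw [h1320] at this
      simpa using this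
    obtain ⟨z, hz, -, hdz⟩ := dvd_cent (q := q) (x := x) hd
    rcases hq3 with rfl | rfl | rfl | rfl
    · rw [card_cent_inv hz] at hdz
      rcases h with h | h <;> rw [h] at hdz <;> norm_num at hdz
    · have := dvd_trans hdz (card_c3 hz)
      rcases h with h | h <;> rw [h] at this <;> norm_num at this
    · rw [card_c5 hz] at hdz
      rcases h with h | h <;> rw [h] at hdz <;> norm_num at hdz
    · rw [card_c11 hz] at hdz
      rcases h with h | h <;> rw [h] at hdz <;> norm_num at hdz
  have hcop : Nat.Coprime (Nat.card (Subgroup.centralizer {x})) 1320 := by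
    rw [Nat.coprime_iff_gcd_eq_one]
    by_contra hne
    obtain ⟨q, hq, hd⟩ := Nat.exists_prime_and_dvd hne
    exact key q hq (dvd_trans hd (Nat.gcd_dvd_left _ _)) (dvd_trans hd (Nat.gcd_dvd_right _ _))
  exact hcop.dvd_of_dvd_mul_left h0

theorem sylow_count {G : Type*} [Group G] [Finite G] {p : ℕ} [hp : Fact p.Prime] (hcard : ¬ p ^ 2 ∣ Nat.card G) {x : G}
    (hx : orderOf x = p) : ∃ n a : ℕ, a ∣ p - 1 ∧ n * (Nat.card (Subgroup.centralizer {x}) * a) = Nat.card G ∧
      n ≡ 1 [MOD p] := by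
  have hpg : IsPGroup p (zpowers x) := IsPGroup.of_card (n := 1) (by rw [Nat.card_zpowers, hx, pow_one])
  have hidx : ¬ p ∣ (zpowers x).index := by
    intro h
    apply hcard
    have h1 := (zpowers x).card_mul_index
    rw [Nat.card_zpowers, hx] at h1
    rw [← h1, pow_two]
    exact Nat.mul_dvd_mul_left p h
  let P : Sylow p G := hpg.toSylow hidx
  refine ⟨Nat.card (Sylow p G), Nat.card (Cfsg.Agent.H26.Cnt.autG x), Cfsg.Agent.H26.Cnt.card_autG_dvd hx, ?_, card_sylow_modEq_one p G⟩
  rw [← Cfsg.Agent.H26.Cnt.card_normalizer, Sylow.card_eq_index_normalizer P]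
  exact Subgroup.index_mul_card (Subgroup.normalizer ((zpowers x : Subgroup G) : Set G))

theorem card_c19 {x : ↥Spor.J1} (hx : orderOf x = 19) : Nat.card (Subgroup.centralizer {x}) = 19 := by
  have h1 := cent_dvd_133 (Or.inr hx)
  have h2 := order_dvd_cent x
  rw [hx] at h2
  obtain ⟨k, hk⟩ := h2
  have hk7 : k ∣ 7 := by
    rw [hk] at h1
    exact Nat.dvd_of_mul_dvd_mul_left (k := 19) (by norm_num) (by simpa using h1)
  rcases (Nat.dvd_prime (by norm_num)).1 hk7 with rfl | rfl
  · rw [hk]
  · exfalso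
    obtain ⟨n, a, ha, hn, hm⟩ := sylow_count sq19 hx
    rw [hk, card_J1] at hn
    have ha1 : a ≤ 18 := Nat.le_of_dvd (by norm_num) ha
    have hm' : n % 19 = 1 := hm
    interval_cases a <;> omega

theorem card_c7 {x : ↥Spor.J1} (hx : orderOf x = 7) : Nat.card (Subgroup.centralizer {x}) = 7 := by
  have h1 := cent_dvd_133 (Or.inl hx)
  have h2 := order_dvd_cent x
  rw [hx] at h2
  obtain ⟨k, hk⟩ := h2
  have hk7 : k ∣ 19 := by
    rw [hk] at h1
    exact Nat.dvd_of_mul_dvd_mul_left (k := 7) (by norm_num) (by simpa using h1)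
  rcases (Nat.dvd_prime (by norm_num)).1 hk7 with rfl | rfl
  · rw [hk]
  · exfalso
    obtain ⟨z, hz, -, h⟩ := dvd_cent (q := 19) (x := x) (by rw [hk]; exact Dvd.intro_left _ rfl)
    rw [hx, card_c19 hz] at h
    norm_num at h

/-- a normal subgroup of order prime to `p`, for an element of order `p` with centralizer of order `p` -/
theorem normal_modEq {G : Type*} [Group G] [Finite G] {p : ℕ} [hp : Fact p.Prime] {x : G} (hx : orderOf x = p)
    (hc : Nat.card (Subgroup.centralizer {x}) = p) (N : Subgroup G) [N.Normal] (hN : ¬ p ∣ Nat.card N) :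
    Nat.card N ≡ 1 [MOD p] := by
  have hcz : Subgroup.centralizer {x} = zpowers x := by
    symm
    apply Subgroup.eq_of_le_of_card_ge
    · rw [Subgroup.zpowers_le]; exact mem_cent_self x
    · rw [Nat.card_zpowers, hx, hc]
  have hpg : IsPGroup p (zpowers x) := IsPGroup.of_card (n := 1) (by rw [Nat.card_zpowers, hx, pow_one])
  letI act : MulAction (zpowers x) N :=
    MulAction.compHom N ((MulAut.conjNormal : G →* MulAut N).comp (zpowers x).subtype)
  have hact : ∀ (z : zpowers x) (a : N), ((z • a : N) : G) = z * a * (z : G)⁻¹ := fun z a => rfl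
  have h := hpg.card_modEq_card_fixedPoints N
  have h2 : Nat.card (MulAction.fixedPoints (zpowers x) N) = 1 := by
    have h3 : ∀ a : N, a ∈ MulAction.fixedPoints (zpowers x) N → a = 1 := by
      intro a ha
      have h4 := ha ⟨x, mem_zpowers x⟩
      have h5 : x * (a : G) * x⁻¹ = a := congrArg Subtype.val h4
      have h6 : (a : G) ∈ Subgroup.centralizer {x} := by
        rw [Subgroup.mem_centralizer_singleton_iff]
        exact (mul_inv_eq_iff_eq_mul.1 h5).symm
      rw [hcz] at h6
      by_contra hne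
      have h7 : orderOf (a : G) ∣ p := by
        have h10 := Subgroup.orderOf_dvd_natCard _ h6
        rwa [Nat.card_zpowers, hx] at h10
      rcases (Nat.dvd_prime hp.out).1 h7 with h8 | h8
      · exact hne (Subtype.ext (orderOf_eq_one_iff.1 h8))
      · apply hN
        rw [← h8]
        exact Subgroup.orderOf_dvd_natCard _ a.2
    rw [Nat.card_eq_one_iff_unique]
    refine ⟨⟨?_⟩, ⟨1, ?_⟩⟩
    · rintro ⟨a, ha⟩ ⟨b, hb⟩
      exact Subtype.ext ((h3 a ha).trans (h3 b hb).symm)
    · intro z
      apply Subtype.ext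
      rw [hact]; simp
  rw [h2] at h
  exact h

/-- a normal subgroup of order divisible by `p` -/
theorem normal_index {G : Type*} [Group G] [Finite G] {p : ℕ} [hp : Fact p.Prime] (hcard : ¬ p ^ 2 ∣ Nat.card G) {x : G}
    (hx : orderOf x = p) (hc : Nat.card (Subgroup.centralizer {x}) = p) (N : Subgroup G) [N.Normal]
    (hN : p ∣ Nat.card N) : N.index ∣ p - 1 := by
  obtain ⟨y, hy⟩ := exists_prime_orderOf_dvd_card' (G := N) p hN
  have hy' : orderOf (y : G) = p := by rw [Subgroup.orderOf_coe, hy]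
  have hcy : Nat.card (Subgroup.centralizer {(y : G)}) = p := by rw [cent_prime hcard hx hy', hc]
  have hpg : IsPGroup p (zpowers y) := IsPGroup.of_card (n := 1) (by rw [Nat.card_zpowers, hy, pow_one])
  have hidx : ¬ p ∣ (zpowers y).index := by
    intro h
    apply hcard
    have h1 := (zpowers y).card_mul_index
    rw [Nat.card_zpowers, hy] at h1
    refine dvd_trans ?_ (Subgroup.card_subgroup_dvd_card N)
    rw [← h1, pow_two]
    exact Nat.mul_dvd_mul_left p h
  let P : Sylow p N := hpg.toSylow hidx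
  have hfr := Sylow.normalizer_sup_eq_top P
  have hPy : ((P : Subgroup N).map N.subtype) = zpowers (y : G) := by
    show (zpowers y).map N.subtype = _
    rw [MonoidHom.map_zpowers]; rfl
  rw [hPy] at hfr
  have h1 : N.index = N.relIndex (normalizer ((zpowers (y : G) : Subgroup G) : Set G)) := by
    rw [← Subgroup.relIndex_top_right, ← hfr, Subgroup.relIndex_sup_right]
  have h2 : zpowers (y : G) ≤ N := by rw [Subgroup.zpowers_le]; exact y.2
  have h3 : N.relIndex (normalizer ((zpowers (y : G) : Subgroup G) : Set G)) ∣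
      (zpowers (y : G)).relIndex (normalizer ((zpowers (y : G) : Subgroup G) : Set G)) :=
    Subgroup.relIndex_dvd_of_le_left _ h2
  have h4 := Subgroup.card_mul_index ((zpowers (y : G)).subgroupOf (normalizer ((zpowers (y : G) : Subgroup G) : Set G)))
  rw [Cfsg.Agent.H26.Cnt.card_normalizer, hcy, Nat.card_congr (Subgroup.subgroupOfEquivOfLe Subgroup.le_normalizer).toEquiv,
    Nat.card_zpowers, hy'] at h4
  have h5 := Nat.eq_of_mul_eq_mul_left hp.out.pos h4
  rw [h1]
  refine dvd_trans h3 ?_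
  have h6 : (zpowers (y : G)).relIndex (normalizer ((zpowers (y : G) : Subgroup G) : Set G)) =
      Nat.card (Cfsg.Agent.H26.Cnt.autG (y : G)) := h5
  rw [h6]
  exact Cfsg.Agent.H26.Cnt.card_autG_dvd hy'

theorem simple_J1 : IsSimpleGroup ↥Spor.J1 := by
  have : Nontrivial ↥Spor.J1 := ⟨⟨jw wt, 1, fun h => by
    have := o_t
    rw [h, orderOf_one] at this
    norm_num at this⟩⟩
  refine ⟨fun N hN => ?_⟩
  have hdvd := Subgroup.card_subgroup_dvd_card N
  rw [card_J1] at hdvd
  have hidx := N.card_mul_index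
  rw [card_J1] at hidx
  -- index at most two is impossible
  have key : N.index ∣ 6 ∨ N.index ∣ 10 ∨ N.index ∣ 18 → 7 ∣ Nat.card N ∧ 11 ∣ Nat.card N ∧ 19 ∣ Nat.card N := by
    intro h
    have h0 : (N.index).Coprime 1463 := by
      rcases h with h | h | h
      · exact Nat.Coprime.coprime_dvd_left h (by norm_num)
      · exact Nat.Coprime.coprime_dvd_left h (by norm_num)
      · exact Nat.Coprime.coprime_dvd_left h (by norm_num)
    have h1 : 1463 ∣ Nat.card N * N.index := by rw [hidx]; norm_num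
    have h2 := (Nat.Coprime.dvd_of_dvd_mul_right h0.symm h1)
    exact ⟨dvd_trans (by norm_num) h2, dvd_trans (by norm_num) h2, dvd_trans (by norm_num) h2⟩
  by_cases h : 7 ∣ Nat.card N ∨ 11 ∣ Nat.card N ∨ 19 ∣ Nat.card N
  · right
    have h3 : 7 ∣ Nat.card N ∧ 11 ∣ Nat.card N ∧ 19 ∣ Nat.card N := by
      rcases h with h | h | h
      · exact key (Or.inl (normal_index sq7 o_x (card_c7 o_x) N h))
      · exact key (Or.inr (Or.inl (normal_index sq11 o_s (card_c11 o_s) N h)))
      · exact key (Or.inr (Or.inr (normal_index sq19 o_e (card_c19 o_e) N h)))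
    have h4 := normal_index sq7 o_x (card_c7 o_x) N h3.1
    have h5 := normal_index sq11 o_s (card_c11 o_s) N h3.2.1
    have h6 : N.index ∣ 2 := by
      have := Nat.dvd_gcd h4 h5
      exact this
    have h7 : ∀ g : ↥Spor.J1, g ^ 2 ∈ N := by
      intro g
      have h8 := Subgroup.pow_index_mem N g
      obtain ⟨c, hc⟩ := h6
      rw [hc, pow_mul]
      exact pow_mem h8 c
    have hx : jw [0] ∈ N := by
      have h8 := pow_mem (h7 (jw [0])) 4
      rw [← pow_mul] at h8
      have h9 : jw [0] ^ (2 * 4) = jw [0] := by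
        have := pow_orderOf_eq_one (jw [0])
        rw [o_x] at this
        show jw [0] ^ (7 + 1) = jw [0]
        rw [pow_succ, this, one_mul]
      rwa [h9] at h8
    have hy : jw [1] ∈ N := by
      have h8 := pow_mem (h7 (jw [1])) 3
      rw [← pow_mul] at h8
      have h9 : jw [1] ^ (2 * 3) = jw [1] := by
        have := pow_orderOf_eq_one (jw [1])
        rw [o_y] at this
        show jw [1] ^ (5 + 1) = jw [1]
        rw [pow_succ, this, one_mul]
      rwa [h9] at h8
    rw [eq_top_iff]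
    rintro ⟨g, hg⟩ -
    have hle : Spor.J1 ≤ N.map Spor.J1.subtype := by
      unfold Spor.J1
      rw [Subgroup.closure_le]
      rintro z (rfl | hz)
      · refine ⟨jw [0], hx, ?_⟩
        show wg Gs [0] = _
        simp [wg, Gs]
      · rw [Set.mem_singleton_iff] at hz
        subst hz
        refine ⟨jw [1], hy, ?_⟩
        show wg Gs [1] = _
        simp [wg, Gs]
    obtain ⟨z, hz, hzg⟩ := hle hg
    have : z = ⟨g, hg⟩ := Subtype.ext hzg
    rw [← this]; exact hz
  · left
    push_neg at h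
    have h7 : Nat.card N % 7 = 1 := normal_modEq o_x (card_c7 o_x) N h.1
    have h11 : Nat.card N % 11 = 1 := normal_modEq o_s (card_c11 o_s) N h.2.1
    have h19 : Nat.card N % 19 = 1 := normal_modEq o_e (card_c19 o_e) N h.2.2
    have hcop : (Nat.card N).Coprime 1463 := by
      have e : (1463 : ℕ) = 7 * 11 * 19 := by norm_num
      rw [e]
      refine Nat.Coprime.mul_right (Nat.Coprime.mul_right ?_ ?_) ?_
      · exact ((Nat.Prime.coprime_iff_not_dvd (by norm_num)).2 h.1).symm
      · exact ((Nat.Prime.coprime_iff_not_dvd (by norm_num)).2 h.2.1).symm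
      · exact ((Nat.Prime.coprime_iff_not_dvd (by norm_num)).2 h.2.2).symm
    have h120 : Nat.card N ∣ 120 := by
      have : Nat.card N ∣ 120 * 1463 := hdvd
      exact hcop.dvd_of_dvd_mul_right this
    have hle := Nat.le_of_dvd (by norm_num) h120
    have h1 : Nat.card N = 1 := by omega
    exact Subgroup.eq_bot_of_card_eq N h1

/-- a 2-subgroup is conjugate to a subgroup of `SS` -/
theorem conj_two {z : ↥Spor.J1} {k : ℕ} (hz : orderOf z = 2 ^ k) : ∃ g : ↥Spor.J1, g * z * g⁻¹ ∈ SS := by
  have : Fact (Nat.Prime 2) := ⟨Nat.prime_two⟩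
  have hc : ¬ 2 ∣ SS.index := by
    have h := SS.card_mul_index
    rw [card_SS, card_J1] at h
    have : SS.index = 21945 := by omega
    rw [this]; norm_num
  let Q : Sylow 2 ↥Spor.J1 := isPGroup_SS.toSylow hc
  have hp : IsPGroup 2 (zpowers z) := by
    apply IsPGroup.of_card (n := k)
    rw [Nat.card_zpowers, hz]
  obtain ⟨R, hR⟩ := hp.exists_le_sylow
  obtain ⟨g, hg⟩ := MulAction.exists_smul_eq ↥Spor.J1 R Q
  refine ⟨g, ?_⟩
  have h2 : g * z * g⁻¹ ∈ ((g • R : Sylow 2 ↥Spor.J1) : Subgroup ↥Spor.J1) := by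
    rw [Sylow.coe_subgroup_smul]
    exact ⟨z, hR (mem_zpowers z), rfl⟩
  rw [hg] at h2
  exact h2

theorem no_four {z : ↥Spor.J1} (hz : orderOf z = 4) : False := by
  obtain ⟨g, hg⟩ := conj_two (k := 2) (z := z) (by rw [hz]; norm_num)
  have h1 := SS_comm_sq.2 _ hg
  have h2 : orderOf (g * z * g⁻¹) = 4 := by
    rw [← hz]
    exact (MulAut.conj g).orderOf_eq z
  have h3 := orderOf_dvd_of_pow_eq_one h1
  rw [h2] at h3
  norm_num at h3

theorem no_thirty {z : ↥Spor.J1} (hz : orderOf z = 30) : False := by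
  have h6 : orderOf (z ^ 6) = 5 := by
    rw [orderOf_pow_of_dvd (by norm_num) (by rw [hz]; norm_num), hz]
  obtain ⟨g, k, hk, h⟩ := Cfsg.Agent.H14.Out.exists_conj_pow sq5 (jw wf) (z ^ 6) o_f h6
  have hkd : ¬ 5 ∣ k := by
    intro hd
    have h0 : k = 0 := Nat.eq_zero_of_dvd_of_lt hd hk
    rw [h0, pow_zero] at h
    have h1 : orderOf (g * z ^ 6 * g⁻¹) = 5 := by
      rw [← h6]
      exact (MulAut.conj g).orderOf_eq (z ^ 6)
    rw [h, orderOf_one] at h1
    norm_num at h1
  have hcc := cent_pow (by norm_num : Nat.Prime 5) o_f hkd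
  -- the centralizer of `jw wf` is generated by the conjugate of `z`
  have hz' : g * z * g⁻¹ ∈ Subgroup.centralizer {jw wf} := by
    rw [← hcc, ← h, Subgroup.mem_centralizer_singleton_iff]
    group
  have heq : zpowers (g * z * g⁻¹) = Subgroup.centralizer {jw wf} := by
    apply Subgroup.eq_of_le_of_card_ge
    · rw [Subgroup.zpowers_le]; exact hz'
    · have h1 : orderOf (g * z * g⁻¹) = 30 := by
        rw [← hz]
        exact (MulAut.conj g).orderOf_eq z
      rw [Nat.card_zpowers, h1, card_cf]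
  have ht : jw wt ∈ zpowers (g * z * g⁻¹) := by
    rw [heq, Subgroup.mem_centralizer_singleton_iff]; exact comm_ft
  have hk : jw wk ∈ zpowers (g * z * g⁻¹) := by
    rw [heq, Subgroup.mem_centralizer_singleton_iff]; exact comm_fk
  obtain ⟨a, ha⟩ := Subgroup.mem_zpowers_iff.1 ht
  obtain ⟨b, hb⟩ := Subgroup.mem_zpowers_iff.1 hk
  apply tk_ne
  rw [← ha, ← hb, ← zpow_add, ← zpow_add, add_comm]

/-- the orders of elements -/
theorem order_cases (x : ↥Spor.J1) : orderOf x ∈ ({1, 2, 3, 5, 6, 7, 10, 11, 15, 19} : Finset ℕ) := by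
  set n := orderOf x with hn
  have hpos : 0 < n := orderOf_pos x
  have hdvd : n ∣ 175560 := card_J1 ▸ _root_.orderOf_dvd_natCard x
  have hpow : ∀ p : ℕ, p ∣ n → orderOf (x ^ (n / p)) = p := by
    intro p hp
    rw [orderOf_pow_of_dvd (Nat.div_pos (Nat.le_of_dvd hpos hp) (Nat.pos_of_dvd_of_pos hp hpos)).ne' (by rw [← hn]; exact Nat.div_dvd_of_dvd hp), ← hn]
    exact Nat.div_div_self hp hpos.ne'
  have hcent : ∀ k : ℕ, n ∣ Nat.card (Subgroup.centralizer {x ^ k}) := by
    intro k
    apply Subgroup.orderOf_dvd_natCard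
    rw [Subgroup.mem_centralizer_singleton_iff]
    exact (Commute.self_pow x k)
  by_cases h19 : 19 ∣ n
  · have h := hcent (n / 19)
    rw [card_c19 (hpow 19 h19)] at h
    rcases (Nat.dvd_prime (by norm_num)).1 h with h | h
    · rw [h]; decide
    · rw [h]; decide
  by_cases h11 : 11 ∣ n
  · have h := hcent (n / 11)
    rw [card_c11 (hpow 11 h11)] at h
    rcases (Nat.dvd_prime (by norm_num)).1 h with h | h
    · rw [h]; decide
    · rw [h]; decide
  by_cases h7 : 7 ∣ n
  · have h := hcent (n / 7)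
    rw [card_c7 (hpow 7 h7)] at h
    rcases (Nat.dvd_prime (by norm_num)).1 h with h | h
    · rw [h]; decide
    · rw [h]; decide
  have h4 : ¬ 4 ∣ n := fun h => no_four (hpow 4 h)
  have hcop : n.Coprime 1463 := by
    have e : (1463 : ℕ) = 7 * 11 * 19 := by norm_num
    rw [e]
    refine Nat.Coprime.mul_right (Nat.Coprime.mul_right ?_ ?_) ?_
    · exact ((Nat.Prime.coprime_iff_not_dvd (by norm_num)).2 h7).symm
    · exact ((Nat.Prime.coprime_iff_not_dvd (by norm_num)).2 h11).symm
    · exact ((Nat.Prime.coprime_iff_not_dvd (by norm_num)).2 h19).symm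
  have h120 : n ∣ 120 := by
    have : n ∣ 120 * 1463 := hdvd
    exact hcop.dvd_of_dvd_mul_right this
  have hle := Nat.le_of_dvd (by norm_num) h120
  have h30 : n ≠ 30 := fun h => no_thirty (hn ▸ h)
  have : ∀ n : ℕ, n ≤ 120 → n ∣ 120 → ¬ 4 ∣ n → n ≠ 30 → n ∈ ({1, 2, 3, 5, 6, 7, 10, 11, 15, 19} : Finset ℕ) := by
    decide
  exact this n hle h120 h4 h30

end Cfsg.Agent.H11.J1
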