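import Mathlib
import Cfsg.Agent.H11_J1H

set_option autoImplicit false
set_option maxRecDepth 100000

/-!
The group `J1` as a matrix group: automorphisms.
-/

namespace Cfsg.Agent.H11.J1

open Cfsg Cfsg.Agent.H11.KMat Subgroup

/-- an involution inverting `wu` -/
def ww : List ℕ := [1,0,0,0,1,0,0,0,1,0,1,1,1]

theorem rel_us : jw wu * jw ws = jw ws ^ 7 * jw wu := by
  rw [← jw_pow, ← jw_append, ← jw_append]; exact jw_eq _ _ (by decide +kernel)

theorem rel_wu : jw ww * jw wu * jw ww = (jw wu)⁻¹ := by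
  rw [eq_inv_iff_mul_eq_one, ← jw_append, ← jw_append, ← jw_append, ← jw_nil]; exact jw_eq _ _ (by decide +kernel)

theorem sq_w : jw ww * jw ww = 1 := by
  rw [← jw_append, ← jw_nil]; exact jw_eq _ _ (by decide +kernel)

theorem pow_u : jw wu ^ 10 = 1 := by
  rw [← jw_pow, ← jw_nil]; exact jw_eq _ _ (by decide +kernel)

theorem u5 : jw wu ^ 5 = jw wt := by
  rw [← jw_pow]; exact jw_eq _ _ (by decide +kernel)

theorem u2 : jw wu ^ 2 = jw wf := by
  rw [pow_two, ← jw_append]; rfl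

theorem o_u : orderOf (jw wu) = 10 := by
  have h1 := orderOf_dvd_of_pow_eq_one pow_u
  have h2 : orderOf (jw wu) ≠ 0 := (orderOf_pos _).ne'
  have h3 : ¬ orderOf (jw wu) ∣ 5 := by
    intro h
    have h4 := orderOf_dvd_iff_pow_eq_one.1 h
    rw [u5] at h4
    have := o_t
    rw [h4, orderOf_one] at this
    norm_num at this
  have h4 : ¬ orderOf (jw wu) ∣ 2 := by
    intro h
    have h4 := orderOf_dvd_iff_pow_eq_one.1 h
    rw [u2] at h4
    have := o_f
    rw [h4, orderOf_one] at this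
    norm_num at this
  have h5 : orderOf (jw wu) ≤ 10 := Nat.le_of_dvd (by norm_num) h1
  interval_cases h : orderOf (jw wu) <;> omega

theorem card_cu : Nat.card (Subgroup.centralizer {jw wu}) = 10 := by
  have h1 : Subgroup.centralizer {jw wu} ≤ Subgroup.centralizer {jw wf} := by
    intro c hc
    rw [Subgroup.mem_centralizer_singleton_iff] at hc ⊢
    rw [← u2]
    exact (Commute.pow_right (show Commute c (jw wu) from hc) 2)
  have h2 : Nat.card (Subgroup.centralizer {jw wu}) ∣ 30 := card_cf ▸ Subgroup.card_dvd_of_le h1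
  have h3 : 10 ∣ Nat.card (Subgroup.centralizer {jw wu}) := by
    have := order_dvd_cent (jw wu)
    rwa [o_u] at this
  have h4 : Nat.card (Subgroup.centralizer {jw wu}) ≠ 30 := by
    intro h
    have h5 : Subgroup.centralizer {jw wu} = Subgroup.centralizer {jw wf} :=
      Subgroup.eq_of_le_of_card_ge h1 (by rw [h, card_cf])
    have h6 : jw wk ∈ Subgroup.centralizer {jw wu} := by
      rw [h5, Subgroup.mem_centralizer_singleton_iff]; exact comm_fk
    rw [Subgroup.mem_centralizer_singleton_iff] at h6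
    have h7 : jw wk * jw wt = jw wt * jw wk := by
      rw [← u5]
      exact (Commute.pow_right (show Commute (jw wk) (jw wu) from h6) 5)
    exact tk_ne h7.symm
  obtain ⟨k, hk⟩ := h3
  have h6 := Nat.le_of_dvd (by norm_num) h2
  have : k = 1 ∨ k = 2 ∨ k = 3 ∨ k = 0 := by omega
  rcases this with rfl | rfl | rfl | rfl
  · exact hk
  · rw [hk] at h2; norm_num at h2
  · exact absurd hk h4
  · have : 0 < Nat.card (Subgroup.centralizer {jw wu}) := Nat.card_pos
    omega

theorem cent_u {c : ↥Spor.J1} (hc : c * jw wu = jw wu * c) : ∃ j < 10, c = jw wu ^ j := by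
  have h : zpowers (jw wu) = Subgroup.centralizer {jw wu} := by
    apply Subgroup.eq_of_le_of_card_ge
    · rw [Subgroup.zpowers_le]; exact mem_cent_self _
    · rw [Nat.card_zpowers, o_u, card_cu]
  have h1 : c ∈ zpowers (jw wu) := by rw [h, Subgroup.mem_centralizer_singleton_iff]; exact hc
  classical
  have h2 := (mem_powers_iff_mem_zpowers (x := jw wu)).2 h1
  rw [mem_powers_iff_mem_range_orderOf, Finset.mem_image] at h2
  obtain ⟨j, hj, rfl⟩ := h2
  rw [Finset.mem_range, o_u] at hj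
  exact ⟨j, hj, rfl⟩

theorem cent_s {c : ↥Spor.J1} (hc : c * jw ws = jw ws * c) : ∃ j < 11, c = jw ws ^ j := by
  have h : zpowers (jw ws) = Subgroup.centralizer {jw ws} := by
    apply Subgroup.eq_of_le_of_card_ge
    · rw [Subgroup.zpowers_le]; exact mem_cent_self _
    · rw [Nat.card_zpowers, o_s, card_c11 o_s]
  have h1 : c ∈ zpowers (jw ws) := by rw [h, Subgroup.mem_centralizer_singleton_iff]; exact hc
  classical
  have h2 := (mem_powers_iff_mem_zpowers (x := jw ws)).2 h1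
  rw [mem_powers_iff_mem_range_orderOf, Finset.mem_image] at h2
  obtain ⟨j, hj, rfl⟩ := h2
  rw [Finset.mem_range, o_s] at hj
  exact ⟨j, hj, rfl⟩

/-- rigidity, for an abstract group -/
theorem rigid {G : Type*} [Group G] [Finite G] (s u w : G) (o_s : orderOf s = 11) (sq11 : ¬ 11 ^ 2 ∣ Nat.card G)
    (rel_us : u * s = s ^ 7 * u) (cent_s : ∀ c, c * s = s * c → ∃ j < 11, c = s ^ j)
    (cent_u : ∀ c, c * u = u * c → ∃ j < 10, c = u ^ j) (sq_w : w * w = 1) (rel_wu : w * u * w = u⁻¹)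
    (h15 : (s * w) ^ 15 = 1) (h15' : ∀ j < 10, j ≠ 0 → (s * (w * u ^ j)) ^ 15 ≠ 1)
    (hgen : ∀ φ : MulAut G, φ s = s → φ u = u → φ w = w → φ = 1) (φ : MulAut G) : φ ∈ Inn G := by
  have us_pow : ∀ n : ℕ, u * s ^ n = s ^ (7 * n) * u := by
    intro n
    induction n with
    | zero => simp
    | succ n ih =>
      rw [pow_succ, ← mul_assoc, ih, mul_assoc, rel_us, ← mul_assoc, ← pow_add]
      rfl
  have upow_s : ∀ j n : ℕ, u ^ j * s ^ n = s ^ (7 ^ j * n) * u ^ j := by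
    intro j n
    induction j with
    | zero => simp
    | succ j ih =>
      have e : 7 ^ (j + 1) * n = 7 * (7 ^ j * n) := by ring
      rw [pow_succ', mul_assoc, ih, ← mul_assoc, us_pow, mul_assoc, e]
  have s11 : s ^ 11 = 1 := by rw [← o_s]; exact pow_orderOf_eq_one s
  have s_mod : ∀ n : ℕ, s ^ n = s ^ (n % 11) := by
    intro n
    conv_lhs => rw [← Nat.mod_add_div n 11, pow_add, pow_mul]
    rw [s11, one_pow, mul_one]
  have hco : orderOf (φ s) = 11 := by rw [MulEquiv.orderOf_eq, o_s]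
  have : Fact (Nat.Prime 11) := ⟨by norm_num⟩
  obtain ⟨g, k, hk, h⟩ := Cfsg.Agent.H14.Out.exists_conj_pow sq11 s (φ s) o_s hco
  apply Cfsg.Agent.H14.Out.inn_of_conj_mul g
  set φ₁ := MulAut.conj g * φ with hφ₁
  have h1 : φ₁ s = s ^ k := by
    rw [← h]; rfl
  have hk0 : k ≠ 0 := by
    rintro rfl
    rw [pow_zero] at h1
    have := φ₁.orderOf_eq s
    rw [h1, orderOf_one, o_s] at this
    norm_num at this
  have hj : ∃ j < 10, (7 ^ j * k) % 11 = 1 := by
    have : ∀ k < 11, k ≠ 0 → ∃ j < 10, (7 ^ j * k) % 11 = 1 := by decide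
    exact this k hk hk0
  obtain ⟨j, -, hj⟩ := hj
  apply Cfsg.Agent.H14.Out.inn_of_conj_mul (u ^ j)
  set φ₂ := MulAut.conj (u ^ j) * φ₁ with hφ₂
  have h2 : φ₂ s = s := by
    show u ^ j * φ₁ s * (u ^ j)⁻¹ = s
    rw [h1, upow_s, mul_inv_cancel_right, s_mod, hj, pow_one]
  have h3 : (u⁻¹ * φ₂ u) * s = s * (u⁻¹ * φ₂ u) := by
    have h4 := congrArg φ₂ rel_us
    rw [map_mul, map_mul, map_pow, h2] at h4
    have h5 : u⁻¹ * s ^ 7 = s * u⁻¹ := by
      rw [inv_mul_eq_iff_eq_mul, ← mul_assoc, rel_us, mul_inv_cancel_right]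
    rw [mul_assoc, h4, ← mul_assoc, h5, mul_assoc]
  obtain ⟨i, hi, h4⟩ := cent_s _ h3
  have h5 : φ₂ u = u * s ^ i := by rw [← h4, mul_inv_cancel_left]
  have hm : ∃ m < 11, (8 * m + i + 10 * m) % 11 = 0 := by
    have : ∀ i < 11, ∃ m < 11, (8 * m + i + 10 * m) % 11 = 0 := by decide
    exact this i hi
  obtain ⟨m, -, hm⟩ := hm
  apply Cfsg.Agent.H14.Out.inn_of_conj_mul (s ^ m)
  set φ₃ := MulAut.conj (s ^ m) * φ₂ with hφ₃
  have h6 : φ₃ s = s := by
    show s ^ m * φ₂ s * (s ^ m)⁻¹ = s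
    rw [h2, ← pow_succ, pow_succ', mul_inv_cancel_right]
  have h7 : φ₃ u = u := by
    show s ^ m * φ₂ u * (s ^ m)⁻¹ = u
    have h8 : s ^ m * u = u * s ^ (8 * m) := by
      rw [us_pow, s_mod m, s_mod (7 * (8 * m))]
      have : m % 11 = (7 * (8 * m)) % 11 := by omega
      rw [this]
    have h9 : (s ^ m)⁻¹ = s ^ (10 * m) := by
      rw [inv_eq_iff_mul_eq_one, ← pow_add]
      have : m + 10 * m = 11 * m := by ring
      rw [this, pow_mul, s11, one_pow]
    rw [h5, h9, ← mul_assoc, h8, mul_assoc, mul_assoc, ← pow_add, ← pow_add, s_mod, ← add_assoc, hm, pow_zero, mul_one]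
  have hw : φ₃ w = w := by
    have hwi : w⁻¹ = w := inv_eq_of_mul_eq_one_left sq_w
    have h8 : w * u = u⁻¹ * w := by
      rw [← rel_wu, mul_assoc, sq_w, mul_one]
    have h9 : φ₃ w * u = u⁻¹ * φ₃ w := by
      have := congrArg φ₃ h8
      rwa [map_mul, map_mul, map_inv, h7] at this
    have h10 : w * u⁻¹ = u * w := by
      rw [mul_inv_eq_iff_eq_mul, mul_assoc, h8, mul_inv_cancel_left]
    have h11 : (w * φ₃ w) * u = u * (w * φ₃ w) := by
      rw [mul_assoc, h9, ← mul_assoc, h10, mul_assoc]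
    obtain ⟨j, hj, hj'⟩ := cent_u _ h11
    have h12 : φ₃ w = w * u ^ j := by
      rw [← hj', ← mul_assoc, sq_w, one_mul]
    have h13 : (s * (w * u ^ j)) ^ 15 = 1 := by
      have := congrArg φ₃ h15
      rwa [map_pow, map_mul, map_one, h6, h12] at this
    have h14 : j = 0 := by
      by_contra hne
      exact h15' j hj hne h13
    rw [h12, h14, pow_zero, mul_one]
  rw [hgen φ₃ h6 h7 hw]
  exact one_mem _

theorem h15 : (jw ws * jw ww) ^ 15 = 1 := by
  rw [← jw_append, ← jw_pow]; exact jw_eq _ [] (by decide +kernel)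

def w15 (j : ℕ) : List ℕ := wpow (ws ++ (ww ++ wpow wu j)) 15

theorem h15_1 : jw (w15 1) ≠ jw [] := jw_ne _ _ (by decide +kernel)
theorem h15_2 : jw (w15 2) ≠ jw [] := jw_ne _ _ (by decide +kernel)
theorem h15_3 : jw (w15 3) ≠ jw [] := jw_ne _ _ (by decide +kernel)
theorem h15_4 : jw (w15 4) ≠ jw [] := jw_ne _ _ (by decide +kernel)
theorem h15_5 : jw (w15 5) ≠ jw [] := jw_ne _ _ (by decide +kernel)
theorem h15_6 : jw (w15 6) ≠ jw [] := jw_ne _ _ (by decide +kernel)
theorem h15_7 : jw (w15 7) ≠ jw [] := jw_ne _ _ (by decide +kernel)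
theorem h15_8 : jw (w15 8) ≠ jw [] := jw_ne _ _ (by decide +kernel)
theorem h15_9 : jw (w15 9) ≠ jw [] := jw_ne _ _ (by decide +kernel)

theorem w15_eq (j : ℕ) : jw (w15 j) = (jw ws * (jw ww * jw wu ^ j)) ^ 15 := by
  unfold w15
  rw [jw_pow, jw_append, jw_append, jw_pow]

theorem h15' (j : ℕ) (hj : j < 10) (hne : j ≠ 0) : (jw ws * (jw ww * jw wu ^ j)) ^ 15 ≠ 1 := by
  rw [← w15_eq]
  have : j = 1 ∨ j = 2 ∨ j = 3 ∨ j = 4 ∨ j = 5 ∨ j = 6 ∨ j = 7 ∨ j = 8 ∨ j = 9 := by omega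
  rcases this with rfl | rfl | rfl | rfl | rfl | rfl | rfl | rfl | rfl
  · exact h15_1
  · exact h15_2
  · exact h15_3
  · exact h15_4
  · exact h15_5
  · exact h15_6
  · exact h15_7
  · exact h15_8
  · exact h15_9

def wY : List ℕ := ws ++ (ww ++ (wu ++ (wu ++ (ws ++ (ww ++ (ws ++ (ww ++ (wu ++ (wu ++ (ws ++ (ws ++ (ws ++ ww))))))))))))

theorem Y_eq : jw [1] = jw wY := jw_eq _ _ (by decide +kernel)
theorem X_eq : jw [0] = jw ([1] ++ ([1] ++ ([1] ++ ws))) := jw_eq _ _ (by decide +kernel)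

theorem top_of {F : Subgroup ↥Spor.J1} (hx : jw [0] ∈ F) (hy : jw [1] ∈ F) (g : ↥Spor.J1) : g ∈ F := by
  have hle : Spor.J1 ≤ F.map Spor.J1.subtype := by
    unfold Spor.J1
    rw [Subgroup.closure_le]
    rintro z (rfl | hz)
    · refine ⟨jw [0], hx, ?_⟩
      show wg Gs [0] = _
      simp [wg, Gs]
    · rw [Set.mem_singleton_iff] at hz
      subst hz
      refine ⟨jw [1], hy, ?_⟩
      show wg Gs [1] = _
      simp [wg, Gs]
  obtain ⟨z, hz, hzg⟩ := hle g.2
  have : z = g := Subtype.ext hzg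
  rw [← this]; exact hz

/-- an automorphism fixing `s`, `u` and `w` is trivial -/
theorem fix_suw (φ : MulAut ↥Spor.J1) (hs : φ (jw ws) = jw ws) (hu : φ (jw wu) = jw wu) (hw : φ (jw ww) = jw ww) :
    φ = 1 := by
  have hy : φ (jw [1]) = jw [1] := by
    rw [Y_eq]
    unfold wY
    simp only [jw_append, map_mul, hs, hu, hw]
  have hx : φ (jw [0]) = jw [0] := by
    rw [X_eq]
    simp only [jw_append, map_mul, hs, hy]
  ext g
  have h1 : φ g = g := top_of (F := (φ : ↥Spor.J1 →* ↥Spor.J1).eqLocus (MonoidHom.id _)) hx hy g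
  rw [h1]; rfl

theorem inn (φ : MulAut ↥Spor.J1) : φ ∈ Inn ↥Spor.J1 :=
  rigid (jw ws) (jw wu) (jw ww) o_s sq11 rel_us (fun _ h => cent_s h) (fun _ h => cent_u h) sq_w rel_wu h15 h15'
    fix_suw φ

end Cfsg.Agent.H11.J1
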