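import Mathlib

set_option autoImplicit false

/-!
Fast kernel arithmetic with `n × n` matrices over `ZMod m`. A matrix is coded by one natural number, with digits
`2 ^ w`, the entry `(i, j)` in the digit `n * i + j`. The product is a sum of `n` products of big numbers (outer
products), followed by a digitwise reduction modulo `m` by multiplication with a reciprocal.
-/

namespace Cfsg.Agent.H11.KMat

/-- the number with the digits `a 0, …, a (N-1)` in base `2 ^ w` -/
def E (w N : ℕ) (a : ℕ → ℕ) : ℕ := ∑ p ∈ Finset.range N, a p * 2 ^ (w * p)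

theorem E_succ' (w N : ℕ) (a : ℕ → ℕ) : E w (N + 1) a = 2 ^ w * E w N (fun p => a (p + 1)) + a 0 := by
  unfold E
  rw [Finset.sum_range_succ', Finset.mul_sum]
  congr 1
  · apply Finset.sum_congr rfl
    intro p _
    rw [mul_add, pow_add]; ring
  · simp

theorem E_congr {w N : ℕ} {a b : ℕ → ℕ} (h : ∀ p < N, a p = b p) : E w N a = E w N b := by
  unfold E
  exact Finset.sum_congr rfl fun p hp => by rw [h p (Finset.mem_range.1 hp)]

theorem E_add (w N : ℕ) (a b : ℕ → ℕ) : E w N a + E w N b = E w N (fun p => a p + b p) := by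
  unfold E
  rw [← Finset.sum_add_distrib]
  exact Finset.sum_congr rfl fun p _ => by ring

theorem E_mul (w N c : ℕ) (a : ℕ → ℕ) : E w N a * c = E w N (fun p => a p * c) := by
  unfold E
  rw [Finset.sum_mul]
  exact Finset.sum_congr rfl fun p _ => by ring

theorem E_zero (w N : ℕ) : E w N (fun _ => 0) = 0 := by
  unfold E; simp

theorem testBit_E {w : ℕ} (hw : 0 < w) (N : ℕ) (a : ℕ → ℕ) (ha : ∀ p < N, a p < 2 ^ w) (i : ℕ) :
    (E w N a).testBit i = if i / w < N then (a (i / w)).testBit (i % w) else false := by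
  induction N generalizing a i with
  | zero => simp [E]
  | succ N ih =>
    rw [E_succ', Nat.testBit_two_pow_mul_add _ (ha 0 (Nat.succ_pos N))]
    by_cases hi : i < w
    · rw [if_pos hi, Nat.div_eq_of_lt hi, Nat.mod_eq_of_lt hi, if_pos (Nat.succ_pos N)]
    · rw [if_neg hi, ih _ (fun p hp => ha (p + 1) (by omega))]
      have h1 : i / w = (i - w) / w + 1 := by
        rw [← Nat.add_div_right _ hw]; congr 1; omega
      have h2 : i % w = (i - w) % w := by
        conv_lhs => rw [← Nat.sub_add_cancel (not_lt.1 hi)]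
        rw [Nat.add_mod_right]
      rw [h1, h2]
      by_cases h : (i - w) / w < N
      · rw [if_pos h, if_pos (by omega)]
      · rw [if_neg h, if_neg (by omega)]

theorem E_lt {w : ℕ} (N : ℕ) (a : ℕ → ℕ) (ha : ∀ p < N, a p < 2 ^ w) : E w N a < 2 ^ (w * N) := by
  induction N generalizing a with
  | zero => simp [E]
  | succ N ih =>
    rw [E_succ', mul_add, pow_add, mul_one, mul_comm (2 ^ (w * N))]
    have h1 := ih (fun p => a (p + 1)) (fun p hp => ha (p + 1) (by omega))
    have h2 := ha 0 (Nat.succ_pos N)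
    calc 2 ^ w * E w N (fun p => a (p + 1)) + a 0 < 2 ^ w * E w N (fun p => a (p + 1)) + 2 ^ w := by omega
      _ = 2 ^ w * (E w N (fun p => a (p + 1)) + 1) := by ring
      _ ≤ 2 ^ w * 2 ^ (w * N) := Nat.mul_le_mul_left _ h1

/-- the digit `p` of `x` -/
def dig (w x p : ℕ) : ℕ := (x >>> (w * p)) % 2 ^ w

theorem dig_lt (w x p : ℕ) : dig w x p < 2 ^ w := Nat.mod_lt _ (Nat.two_pow_pos w)

theorem testBit_dig (w x p j : ℕ) : (dig w x p).testBit j = (decide (j < w) && x.testBit (w * p + j)) := by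
  rw [dig, Nat.testBit_mod_two_pow, Nat.testBit_shiftRight]

theorem E_dig {w : ℕ} (hw : 0 < w) (N x : ℕ) (hx : x < 2 ^ (w * N)) : E w N (dig w x) = x := by
  apply Nat.eq_of_testBit_eq
  intro i
  rw [testBit_E hw N _ (fun p _ => dig_lt w x p)]
  by_cases h : i / w < N
  · rw [if_pos h, testBit_dig, Nat.div_add_mod]
    simp [Nat.mod_lt _ hw]
  · rw [if_neg h]
    symm
    apply Nat.testBit_lt_two_pow
    apply lt_of_lt_of_le hx
    apply Nat.pow_le_pow_right (by norm_num)
    have h1 : N ≤ i / w := not_lt.1 h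
    calc w * N ≤ w * (i / w) := Nat.mul_le_mul_left _ h1
      _ ≤ i := Nat.mul_div_le i w

theorem dig_E {w : ℕ} (hw : 0 < w) {N : ℕ} {a : ℕ → ℕ} (ha : ∀ p < N, a p < 2 ^ w) {p : ℕ} (hp : p < N) :
    dig w (E w N a) p = a p := by
  apply Nat.eq_of_testBit_eq
  intro i
  rw [testBit_dig, testBit_E hw N a ha]
  by_cases hi : i < w
  · have h1 : (w * p + i) / w = p := by rw [Nat.mul_add_div hw, Nat.div_eq_of_lt hi, add_zero]
    have h2 : (w * p + i) % w = i := by rw [Nat.mul_add_mod, Nat.mod_eq_of_lt hi]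
    rw [h1, h2, if_pos hp]
    simp [hi]
  · have : (a p).testBit i = false := by
      apply Nat.testBit_lt_two_pow
      exact lt_of_lt_of_le (ha p hp) (Nat.pow_le_pow_right (by norm_num) (not_lt.1 hi))
    rw [this]
    simp [hi]

/-- digitwise `land` -/
theorem land_E {w : ℕ} (hw : 0 < w) (N : ℕ) (a b : ℕ → ℕ) (ha : ∀ p < N, a p < 2 ^ w) (hb : ∀ p < N, b p < 2 ^ w) :
    Nat.land (E w N a) (E w N b) = E w N (fun p => Nat.land (a p) (b p)) := by
  apply Nat.eq_of_testBit_eq
  intro i
  have h1 : (Nat.land (E w N a) (E w N b)).testBit i = ((E w N a).testBit i && (E w N b).testBit i) :=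
    Nat.testBit_and _ _ _
  rw [h1, testBit_E hw N a ha, testBit_E hw N b hb, testBit_E hw N]
  · by_cases h : i / w < N
    · rw [if_pos h, if_pos h, if_pos h]
      exact (Nat.testBit_and _ _ _).symm
    · rw [if_neg h, if_neg h, if_neg h]; rfl
  · intro p hp
    exact lt_of_le_of_lt Nat.and_le_left (ha p hp)

/-- column extraction -/
theorem col_E {w : ℕ} (hw : 0 < w) (n x k : ℕ) :
    Nat.land (x >>> (w * k)) (E w (n * n) (fun p => if p % n = 0 then 2 ^ w - 1 else 0)) =
      E w (n * n) (fun p => if p % n = 0 then dig w x (p + k) else 0) := by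
  apply Nat.eq_of_testBit_eq
  intro i
  have h1 : ∀ u v : ℕ, (Nat.land u v).testBit i = (u.testBit i && v.testBit i) := fun u v => Nat.testBit_and _ _ _
  rw [h1, testBit_E hw, testBit_E hw]
  · by_cases h : i / w < n * n
    · rw [if_pos h, if_pos h]
      by_cases hn : (i / w) % n = 0
      · rw [if_pos hn, if_pos hn, Nat.testBit_two_pow_sub_one, testBit_dig, Nat.testBit_shiftRight]
        have e : w * k + i = w * (i / w + k) + i % w := by
          conv_lhs => rw [← Nat.div_add_mod i w]
          ring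
        rw [← e]
        simp [Nat.mod_lt _ hw]
      · rw [if_neg hn, if_neg hn]; simp
    · rw [if_neg h, if_neg h]; simp
  · intro p _
    split_ifs
    · exact dig_lt _ _ _
    · exact Nat.two_pow_pos w
  · intro p _
    split_ifs
    · have := Nat.two_pow_pos w; omega
    · exact Nat.two_pow_pos w

/-- row extraction -/
theorem row_E {w : ℕ} (hw : 0 < w) (n x k : ℕ) :
    (x >>> (w * n * k)) % 2 ^ (w * n) = E w n (fun j => dig w x (n * k + j)) := by
  apply Nat.eq_of_testBit_eq
  intro i
  rw [testBit_E hw, Nat.testBit_mod_two_pow, Nat.testBit_shiftRight]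
  · by_cases h : i / w < n
    · have h2 : i < w * n := by
        rw [Nat.div_lt_iff_lt_mul hw] at h
        rwa [mul_comm]
      rw [if_pos h, testBit_dig]
      have e : w * n * k + i = w * (n * k + i / w) + i % w := by
        conv_lhs => rw [← Nat.div_add_mod i w]
        ring
      rw [← e]
      simp [Nat.mod_lt _ hw, h2]
    · have h2 : ¬ i < w * n := by
        rw [Nat.div_lt_iff_lt_mul hw] at h
        rwa [mul_comm]
      rw [if_neg h]
      simp [h2]
  · intro p _
    exact dig_lt _ _ _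

theorem sum_range_mul (n m : ℕ) (g : ℕ → ℕ) :
    ∑ p ∈ Finset.range (n * m), g p = ∑ i ∈ Finset.range m, ∑ j ∈ Finset.range n, g (n * i + j) := by
  induction m with
  | zero => simp
  | succ m ih => rw [mul_add, mul_one, Finset.sum_range_add, ih, Finset.sum_range_succ]

theorem outer_E {w n : ℕ} (hn : 0 < n) (a b : ℕ → ℕ) :
    E w (n * n) (fun p => if p % n = 0 then a p else 0) * E w n b =
      E w (n * n) (fun p => a (n * (p / n)) * b (p % n)) := by
  have h1 : E w (n * n) (fun p => if p % n = 0 then a p else 0) =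
      ∑ i ∈ Finset.range n, a (n * i) * 2 ^ (w * (n * i)) := by
    unfold E
    rw [sum_range_mul]
    apply Finset.sum_congr rfl
    intro i _
    rw [Finset.sum_eq_single 0]
    · simp
    · intro j hj hj0
      rw [Finset.mem_range] at hj
      have : (n * i + j) % n ≠ 0 := by rw [Nat.mul_add_mod, Nat.mod_eq_of_lt hj]; exact hj0
      show (if (n * i + j) % n = 0 then a (n * i + j) else 0) * _ = 0
      rw [if_neg this, zero_mul]
    · intro h
      exact absurd (Finset.mem_range.2 hn) h
  rw [h1]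
  unfold E
  rw [Finset.sum_mul_sum, sum_range_mul]
  apply Finset.sum_congr rfl
  intro i _
  apply Finset.sum_congr rfl
  intro j hj
  rw [Finset.mem_range] at hj
  have e1 : (n * i + j) / n = i := by rw [Nat.mul_add_div hn, Nat.div_eq_of_lt hj, add_zero]
  have e2 : (n * i + j) % n = j := by rw [Nat.mul_add_mod, Nat.mod_eq_of_lt hj]
  show a (n * i) * 2 ^ (w * (n * i)) * (b j * 2 ^ (w * j)) =
    (a (n * ((n * i + j) / n)) * b ((n * i + j) % n)) * 2 ^ (w * (n * i + j))
  rw [e1, e2, mul_add w, pow_add]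
  ring

/-- partial sums of outer products -/
def pre (w wn MC zr x y : ℕ) : ℕ → ℕ
  | 0 => 0
  | (k + 1) => pre w wn MC zr x y k + (Nat.land (x >>> (w * k)) MC) * ((y >>> (wn * k)) % zr)

theorem pre_eq {w n : ℕ} (hw : 0 < w) (hn : 0 < n) (x y K : ℕ) :
    pre w (w * n) (E w (n * n) (fun p => if p % n = 0 then 2 ^ w - 1 else 0)) (2 ^ (w * n)) x y K =
      E w (n * n) (fun p => ∑ k ∈ Finset.range K, dig w x (n * (p / n) + k) * dig w y (n * k + p % n)) := by
  induction K with
  | zero => simp [pre, E]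
  | succ K ih =>
    rw [pre, ih, col_E hw, row_E hw, outer_E hn (fun p => dig w x (p + K)), E_add]
    apply E_congr
    intro p _
    rw [Finset.sum_range_succ]

/-- digitwise reduction modulo `m` -/
theorem red_E {w : ℕ} (hw : 0 < w) (N m c s b bound : ℕ) (hb : s + b ≤ w) (t : ℕ → ℕ) (ht : ∀ p < N, t p ≤ bound)
    (h : ∀ d ≤ bound, d * c / 2 ^ s = d / m ∧ d * c < 2 ^ w ∧ d / m < 2 ^ b) :
    E w N t - m * Nat.land ((E w N t * c) >>> s) (E w N (fun _ => 2 ^ b - 1)) = E w N (fun p => t p % m) := by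
  have hs : 2 ^ b ≤ 2 ^ w := Nat.pow_le_pow_right (by norm_num) (by omega)
  have h1 : Nat.land ((E w N t * c) >>> s) (E w N (fun _ => 2 ^ b - 1)) = E w N (fun p => t p / m) := by
    apply Nat.eq_of_testBit_eq
    intro i
    have h1 : ∀ u v : ℕ, (Nat.land u v).testBit i = (u.testBit i && v.testBit i) := fun u v => Nat.testBit_and _ _ _
    rw [h1, testBit_E hw N (fun _ => 2 ^ b - 1), testBit_E hw N (fun p => t p / m), Nat.testBit_shiftRight, E_mul,
      testBit_E hw N (fun p => t p * c)]
    · by_cases hi : i / w < N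
      · rw [if_pos hi, if_pos hi, Nat.testBit_two_pow_sub_one]
        by_cases hj : i % w < b
        · have hlt : s + i % w < w := by omega
          have e0 : s + i % w + w * (i / w) = s + i := by
            rw [add_assoc, Nat.mod_add_div]
          obtain ⟨e1, e2⟩ := (Nat.div_mod_unique hw).2 ⟨e0, hlt⟩
          rw [e1, e2, if_pos hi]
          have e3 := (h _ (ht _ hi)).1
          rw [← e3, ← Nat.shiftRight_eq_div_pow, Nat.testBit_shiftRight]
          simp [hj]
        · have : (t (i / w) / m).testBit (i % w) = false := by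
            apply Nat.testBit_lt_two_pow
            exact lt_of_lt_of_le (h _ (ht _ hi)).2.2 (Nat.pow_le_pow_right (by norm_num) (not_lt.1 hj))
          rw [this]
          simp [hj]
      · rw [if_neg hi, if_neg hi]; simp
    · exact fun p hp => (h _ (ht p hp)).2.1
    · exact fun p hp => lt_of_lt_of_le (h _ (ht p hp)).2.2 hs
    · intro p _
      have := Nat.two_pow_pos b
      omega
  rw [h1]
  have h2 : E w N t = E w N (fun p => t p % m) + m * E w N (fun p => t p / m) := by
    rw [mul_comm m, E_mul, E_add]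
    apply E_congr
    intro p _
    rw [mul_comm, Nat.mod_add_div]
  omega

/-- the matrix with code `x` -/
def mat (w n m x : ℕ) : Matrix (Fin n) (Fin n) (ZMod m) := fun i j => ((dig w x (n * i.val + j.val) : ℕ) : ZMod m)

/-- the numbers describing the arithmetic -/
structure Par (w n m : ℕ) where
  wn : ℕ
  zr : ℕ
  MC : ℕ
  c : ℕ
  s : ℕ
  b : ℕ
  MR : ℕ
  B : ℕ
  MV : ℕ

/-- product of codes -/
def mul {w n m : ℕ} (P : Par w n m) (x y : ℕ) : ℕ :=
  (fun t => t - m * Nat.land ((t * P.c) >>> P.s) P.MR) (pre w P.wn P.MC P.zr x y n)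

/-- the code `x` only has the small digits allowed by the mask `MV` -/
def valid {w n m : ℕ} (P : Par w n m) (x : ℕ) : Bool := Nat.beq (Nat.land x P.MV) x

/-- conditions on the parameters -/
structure Par.Ok {w n m : ℕ} (P : Par w n m) : Prop where
  hw : 0 < w
  hn : 0 < n
  hm : 0 < m
  hwn : P.wn = w * n
  hzr : P.zr = 2 ^ (w * n)
  hMC : P.MC = E w (n * n) (fun p => if p % n = 0 then 2 ^ w - 1 else 0)
  hb : P.s + P.b ≤ w
  hMR : P.MR = E w (n * n) (fun _ => 2 ^ P.b - 1)
  hBw : P.B ≤ w
  hBm : m ≤ 2 ^ P.B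
  hMV : P.MV = E w (n * n) (fun _ => 2 ^ P.B - 1)
  hred : ∀ d ≤ n * ((2 ^ P.B - 1) * (2 ^ P.B - 1)), d * P.c / 2 ^ P.s = d / m ∧ d * P.c < 2 ^ w ∧ d / m < 2 ^ P.b

variable {w n m : ℕ} {P : Par w n m}

theorem valid_E (hP : P.Ok) {a : ℕ → ℕ} (ha : ∀ p < n * n, a p < 2 ^ P.B) : valid P (E w (n * n) a) = true := by
  have hBw : 2 ^ P.B ≤ 2 ^ w := Nat.pow_le_pow_right (by norm_num) hP.hBw
  unfold valid
  rw [Nat.beq_eq, hP.hMV, land_E hP.hw]
  · apply E_congr
    intro p hp
    have : Nat.land (a p) (2 ^ P.B - 1) = a p &&& (2 ^ P.B - 1) := rfl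
    rw [this, Nat.and_two_pow_sub_one_eq_mod, Nat.mod_eq_of_lt (ha p hp)]
  · exact fun p hp => lt_of_lt_of_le (ha p hp) hBw
  · intro p _
    have := Nat.two_pow_pos P.B
    omega

theorem valid_spec (hP : P.Ok) {x : ℕ} (h : valid P x = true) :
    x < 2 ^ (w * (n * n)) ∧ ∀ p, dig w x p < 2 ^ P.B := by
  unfold valid at h
  rw [Nat.beq_eq, hP.hMV] at h
  have hB := Nat.two_pow_pos P.B
  have hBw : 2 ^ P.B ≤ 2 ^ w := Nat.pow_le_pow_right (by norm_num) hP.hBw
  have h0 : ∀ p < n * n, (fun _ : ℕ => 2 ^ P.B - 1) p < 2 ^ w := fun p _ => by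
    show 2 ^ P.B - 1 < 2 ^ w
    omega
  constructor
  · rw [← h]
    exact lt_of_le_of_lt Nat.and_le_right (E_lt _ _ h0)
  · intro p
    apply Nat.lt_pow_two_of_testBit
    intro j hj
    rw [testBit_dig, ← h]
    have h1 : ∀ u v i : ℕ, (Nat.land u v).testBit i = (u.testBit i && v.testBit i) := fun u v i => Nat.testBit_and _ _ _
    rw [h1, testBit_E hP.hw _ _ h0]
    by_cases hjw : j < w
    · have e2 : (w * p + j) % w = j := by rw [Nat.mul_add_mod, Nat.mod_eq_of_lt hjw]
      rw [e2, Nat.testBit_two_pow_sub_one]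
      have : ¬ j < P.B := by omega
      simp [this]
    · simp [hjw]

theorem mul_eq (hP : P.Ok) {x y : ℕ} (hx : valid P x = true) (hy : valid P y = true) :
    mul P x y = E w (n * n) (fun p => (∑ k ∈ Finset.range n, dig w x (n * (p / n) + k) *
      dig w y (n * k + p % n)) % m) := by
  unfold mul
  simp only []
  rw [hP.hMC, hP.hwn, hP.hzr, pre_eq hP.hw hP.hn, hP.hMR]
  refine red_E hP.hw _ _ _ _ _ (n * ((2 ^ P.B - 1) * (2 ^ P.B - 1))) hP.hb _ ?_ hP.hred
  intro p _
  have h1 := (valid_spec hP hx).2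
  have h2 := (valid_spec hP hy).2
  calc _ ≤ ∑ k ∈ Finset.range n, (2 ^ P.B - 1) * (2 ^ P.B - 1) := by
        apply Finset.sum_le_sum
        intro k _
        exact Nat.mul_le_mul (Nat.le_sub_one_of_lt (h1 _)) (Nat.le_sub_one_of_lt (h2 _))
    _ = _ := by rw [Finset.sum_const, Finset.card_range, smul_eq_mul]

theorem valid_mul (hP : P.Ok) {x y : ℕ} (hx : valid P x = true) (hy : valid P y = true) : valid P (mul P x y) = true := by
  rw [mul_eq hP hx hy]
  apply valid_E hP
  intro p _
  exact lt_of_lt_of_le (Nat.mod_lt _ hP.hm) hP.hBm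

theorem mat_mul (hP : P.Ok) {x y : ℕ} (hx : valid P x = true) (hy : valid P y = true) :
    mat w n m (mul P x y) = mat w n m x * mat w n m y := by
  ext i j
  have hp : n * i.val + j.val < n * n := by
    have h1 := i.2
    have h2 := j.2
    calc n * i.val + j.val < n * i.val + n := by omega
      _ = n * (i.val + 1) := by ring
      _ ≤ n * n := Nat.mul_le_mul_left _ h1
  have e1 : (n * i.val + j.val) / n = i.val := by rw [Nat.mul_add_div hP.hn, Nat.div_eq_of_lt j.2, add_zero]
  have e2 : (n * i.val + j.val) % n = j.val := by rw [Nat.mul_add_mod, Nat.mod_eq_of_lt j.2]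
  have hmw : m ≤ 2 ^ w := le_trans hP.hBm (Nat.pow_le_pow_right (by norm_num) hP.hBw)
  rw [Matrix.mul_apply]
  unfold mat
  rw [mul_eq hP hx hy, dig_E hP.hw _ hp, e1, e2, ZMod.natCast_mod, Nat.cast_sum, Finset.sum_range]
  · apply Finset.sum_congr rfl
    intro k _
    rw [Nat.cast_mul]
  · intro p _
    exact lt_of_lt_of_le (Nat.mod_lt _ hP.hm) hmw

/-- the code of the identity matrix -/
def one (w n : ℕ) : ℕ := E w (n * n) (fun p => if p / n = p % n then 1 else 0)

theorem mat_one (hP : P.Ok) (h1 : 1 < 2 ^ w) : mat w n m (one w n) = 1 := by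
  ext i j
  have hp : n * i.val + j.val < n * n := by
    have h1 := i.2
    have h2 := j.2
    calc n * i.val + j.val < n * i.val + n := by omega
      _ = n * (i.val + 1) := by ring
      _ ≤ n * n := Nat.mul_le_mul_left _ h1
  have e1 : (n * i.val + j.val) / n = i.val := by rw [Nat.mul_add_div hP.hn, Nat.div_eq_of_lt j.2, add_zero]
  have e2 : (n * i.val + j.val) % n = j.val := by rw [Nat.mul_add_mod, Nat.mod_eq_of_lt j.2]
  unfold mat one
  rw [dig_E hP.hw _ hp, e1, e2, Matrix.one_apply]
  · by_cases h : i = j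
    · subst h; simp
    · rw [if_neg h, if_neg (fun e => h (Fin.ext e)), Nat.cast_zero]
  · intro p _
    split_ifs
    · exact h1
    · exact Nat.two_pow_pos _

/-- equality of matrices from equality of codes; conversely codes with digits less than `m` are determined -/
theorem mat_inj (hP : P.Ok) {x y : ℕ} (hx : x < 2 ^ (w * (n * n))) (hy : y < 2 ^ (w * (n * n)))
    (hx' : ∀ p < n * n, dig w x p < m) (hy' : ∀ p < n * n, dig w y p < m)
    (h : mat w n m x = mat w n m y) : x = y := by
  rw [← E_dig hP.hw _ x hx, ← E_dig hP.hw _ y hy]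
  apply E_congr
  intro p hp
  have hi : p / n < n := by rwa [Nat.div_lt_iff_lt_mul hP.hn]
  have hj : p % n < n := Nat.mod_lt _ hP.hn
  have h1 := congrFun (congrFun h ⟨p / n, hi⟩) ⟨p % n, hj⟩
  unfold mat at h1
  simp only [Nat.div_add_mod] at h1
  have h2 := (ZMod.natCast_eq_natCast_iff' _ _ _).1 h1
  rwa [Nat.mod_eq_of_lt (hx' p hp), Nat.mod_eq_of_lt (hy' p hp)] at h2

/-- product of codes is reduced -/
theorem mul_reduced (hP : P.Ok) {x y : ℕ} (hx : valid P x = true) (hy : valid P y = true) :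
    ∀ p < n * n, dig w (mul P x y) p < m := by
  intro p hp
  have hmw : m ≤ 2 ^ w := le_trans hP.hBm (Nat.pow_le_pow_right (by norm_num) hP.hBw)
  rw [mul_eq hP hx hy, dig_E hP.hw _ hp]
  · exact Nat.mod_lt _ hP.hm
  · intro p _
    exact lt_of_lt_of_le (Nat.mod_lt _ hP.hm) hmw

end Cfsg.Agent.H11.KMat
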