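import Mathlib
import Cfsg.Agent.H11_KMat

set_option autoImplicit false

/-!
Certificates for matrix groups: closures given by lists of codes with words, and coset certificates.
-/

namespace Cfsg.Agent.H11.KMat

open Subgroup

variable {w n m : ℕ} {P : Par w n m}

/-- `c` is the (reduced) code of the invertible matrix `g` -/
structure Rep (P : Par w n m) (g : (Matrix (Fin n) (Fin n) (ZMod m))ˣ) (c : ℕ) : Prop where
  eq : (g : Matrix (Fin n) (Fin n) (ZMod m)) = mat w n m c
  val : valid P c = true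
  red : ∀ p < n * n, dig w c p < m

theorem Rep.mul (hP : P.Ok) {g h : (Matrix (Fin n) (Fin n) (ZMod m))ˣ} {c d : ℕ} (hg : Rep P g c) (hh : Rep P h d) :
    Rep P (g * h) (mul P c d) :=
  ⟨by rw [Units.val_mul, hg.eq, hh.eq, mat_mul hP hg.val hh.val], valid_mul hP hg.val hh.val,
    mul_reduced hP hg.val hh.val⟩

theorem Rep.ext (hP : P.Ok) {g h : (Matrix (Fin n) (Fin n) (ZMod m))ˣ} {c : ℕ} (hg : Rep P g c) (hh : Rep P h c) : g = h :=
  Units.ext (by rw [hg.eq, hh.eq])

theorem Rep.code_eq (hP : P.Ok) {g : (Matrix (Fin n) (Fin n) (ZMod m))ˣ} {c d : ℕ} (hg : Rep P g c) (hh : Rep P g d) :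
    c = d :=
  mat_inj hP (valid_spec hP hg.val).1 (valid_spec hP hh.val).1 hg.red hh.red (by rw [← hg.eq, ← hh.eq])

theorem Rep.code_iff (hP : P.Ok) {g h : (Matrix (Fin n) (Fin n) (ZMod m))ˣ} {c d : ℕ} (hg : Rep P g c) (hh : Rep P h d) :
    c = d ↔ g = h :=
  ⟨fun e => by subst e; exact hg.ext hP hh, fun e => by subst e; exact hg.code_eq hP hh⟩

theorem rep_one (hP : P.Ok) (hm : 1 < m) : Rep P (1 : (Matrix (Fin n) (Fin n) (ZMod m))ˣ) (one w n) where
  eq := by
    have h1 : 1 < 2 ^ w := lt_of_lt_of_le hm (le_trans hP.hBm (Nat.pow_le_pow_right (by norm_num) hP.hBw))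
    rw [mat_one hP h1]; rfl
  val := by
    apply valid_E hP
    intro p _
    have h1 : 1 < 2 ^ P.B := lt_of_lt_of_le hm hP.hBm
    split_ifs
    · exact h1
    · omega
  red := by
    intro p hp
    have h1 : 1 < 2 ^ w := lt_of_lt_of_le hm (le_trans hP.hBm (Nat.pow_le_pow_right (by norm_num) hP.hBw))
    rw [one, dig_E hP.hw _ hp]
    · split_ifs <;> omega
    · intro p _
      split_ifs <;> omega

theorem exists_rep (hP : P.Ok) (g : (Matrix (Fin n) (Fin n) (ZMod m))ˣ) : ∃ c, Rep P g c := by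
  have : NeZero m := ⟨hP.hm.ne'⟩
  have hn := hP.hn
  have hBw : 2 ^ P.B ≤ 2 ^ w := Nat.pow_le_pow_right (by norm_num) hP.hBw
  let a : ℕ → ℕ := fun p => if h : p < n * n then
    ((g : Matrix (Fin n) (Fin n) (ZMod m)) ⟨p / n, by rwa [Nat.div_lt_iff_lt_mul hn]⟩ ⟨p % n, Nat.mod_lt _ hn⟩).val else 0
  have ha : ∀ p < n * n, a p < m := by
    intro p hp
    simp only [a, dif_pos hp]
    exact ZMod.val_lt _
  have ha' : ∀ p < n * n, a p < 2 ^ w := fun p hp => lt_of_lt_of_le (ha p hp) (le_trans hP.hBm hBw)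
  refine ⟨E w (n * n) a, ⟨?_, valid_E hP (fun p hp => lt_of_lt_of_le (ha p hp) hP.hBm), ?_⟩⟩
  · ext i j
    have hp : n * i.val + j.val < n * n := by
      have h1 := i.2
      have h2 := j.2
      calc n * i.val + j.val < n * i.val + n := by omega
        _ = n * (i.val + 1) := by ring
        _ ≤ n * n := Nat.mul_le_mul_left _ h1
    have e1 : (n * i.val + j.val) / n = i.val := by rw [Nat.mul_add_div hn, Nat.div_eq_of_lt j.2, add_zero]
    have e2 : (n * i.val + j.val) % n = j.val := by rw [Nat.mul_add_mod, Nat.mod_eq_of_lt j.2]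
    unfold mat
    rw [dig_E hP.hw ha' hp]
    simp only [a, dif_pos hp, e1, e2, Fin.eta, ZMod.natCast_val, ZMod.cast_id', id_eq]
  · intro p hp
    rw [dig_E hP.hw ha' hp]
    exact ha p hp

/-- words in the generators with indices -/
def wc (P : Par w n m) (gs : List ℕ) : List ℕ → ℕ
  | [] => one w n
  | [i] => gs.getD i 0
  | (i :: j :: l) => mul P (gs.getD i 0) (wc P gs (j :: l))

def wg {G : Type*} [Group G] (Gs : List G) : List ℕ → G
  | [] => 1
  | (i :: l) => Gs.getD i 1 * wg Gs l

theorem rep_wc (hP : P.Ok) (hm : 1 < m) {gs : List ℕ} {Gs : List (Matrix (Fin n) (Fin n) (ZMod m))ˣ}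
    (h : ∀ i < gs.length, Rep P (Gs.getD i 1) (gs.getD i 0)) (l : List ℕ) (hl : ∀ i ∈ l, i < gs.length) :
    Rep P (wg Gs l) (wc P gs l) := by
  induction l with
  | nil => exact rep_one hP hm
  | cons i l ih =>
    cases l with
    | nil =>
      rw [wg, wg, wc, mul_one]
      exact h i (hl i List.mem_cons_self)
    | cons j l =>
      rw [wg, wc]
      exact (h i (hl i List.mem_cons_self)).mul hP (ih (fun x hx => hl x (List.mem_cons_of_mem _ hx)))

theorem wg_mem {G : Type*} [Group G] {Gs : List G} {H : Subgroup G} (h : ∀ x ∈ Gs, x ∈ H) (l : List ℕ) : wg Gs l ∈ H := by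
  induction l with
  | nil => exact one_mem H
  | cons i l ih =>
    rw [wg]
    refine mul_mem ?_ ih
    by_cases hi : i < Gs.length
    · rw [List.getD_eq_getElem _ _ hi]
      exact h _ (List.getElem_mem hi)
    · rw [List.getD_eq_default _ _ (not_lt.1 hi)]
      exact one_mem H

/-- search trees -/
inductive Tr : Type
  | leaf : Tr
  | node : Tr → ℕ → Tr → Tr

def Tr.mem (x : ℕ) : Tr → Bool
  | .leaf => false
  | .node l c r => bif Nat.beq x c then true else bif Nat.ble x c then l.mem x else r.mem x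

def Tr.all (f : ℕ → Bool) : Tr → Bool
  | .leaf => true
  | .node l c r => f c && (l.all f && r.all f)

def Tr.count (f : ℕ → Bool) : Tr → ℕ
  | .leaf => 0
  | .node l c r => (bif f c then 1 else 0) + (l.count f + r.count f)

def Tr.toList : Tr → List ℕ
  | .leaf => []
  | .node l c r => l.toList ++ c :: r.toList

theorem Tr.mem_toList {x : ℕ} {t : Tr} (h : t.mem x = true) : x ∈ t.toList := by
  induction t with
  | leaf => simp [Tr.mem] at h
  | node l c r ihl ihr =>
    rw [Tr.mem] at h
    rw [Tr.toList, List.mem_append, List.mem_cons]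
    by_cases h1 : Nat.beq x c = true
    · exact Or.inr (Or.inl (Nat.eq_of_beq_eq_true h1))
    · simp only [h1, cond_false] at h
      by_cases h2 : Nat.ble x c = true
      · rw [h2, cond_true] at h
        exact Or.inl (ihl h)
      · simp only [h2, cond_false] at h
        exact Or.inr (Or.inr (ihr h))

theorem Tr.all_spec {f : ℕ → Bool} {t : Tr} (h : t.all f = true) {x : ℕ} (hx : x ∈ t.toList) : f x = true := by
  induction t with
  | leaf => simp [Tr.toList] at hx
  | node l c r ihl ihr =>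
    rw [Tr.all, Bool.and_eq_true, Bool.and_eq_true] at h
    rw [Tr.toList, List.mem_append, List.mem_cons] at hx
    rcases hx with hx | hx | hx
    · exact ihl h.2.1 hx
    · rw [hx]; exact h.1
    · exact ihr h.2.2 hx

theorem Tr.count_eq (f : ℕ → Bool) (t : Tr) : t.count f = (t.toList.filter f).length := by
  induction t with
  | leaf => rfl
  | node l c r ihl ihr =>
    rw [Tr.count, Tr.toList, List.filter_append, List.length_append, ihl, ihr, List.filter_cons]
    cases f c <;> simp <;> omega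

def sortedB : List ℕ → Bool
  | [] => true
  | [_] => true
  | (a :: b :: l) => Nat.blt a b && sortedB (b :: l)

theorem sortedB_spec {l : List ℕ} (h : sortedB l = true) : l.Pairwise (· < ·) := by
  rw [← List.isChain_iff_pairwise]
  induction l with
  | nil => exact List.IsChain.nil
  | cons a l ih =>
    cases l with
    | nil => exact List.IsChain.singleton _
    | cons b l =>
      rw [sortedB, Bool.and_eq_true, Nat.blt_eq] at h
      exact List.IsChain.cons_cons h.1 (ih h.2)

/-- closure under left multiplication by the generators -/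
theorem mem_of_closed (hP : P.Ok) (hm : 1 < m) {gs : List ℕ} {Gs : List (Matrix (Fin n) (Fin n) (ZMod m))ˣ}
    (h : ∀ i < gs.length, Rep P (Gs.getD i 1) (gs.getD i 0)) (hlen : Gs.length = gs.length) (T : Tr)
    (h1 : T.mem (one w n) = true) (hT : gs.all (fun a => T.all (fun x => T.mem (mul P a x))) = true)
    {g : (Matrix (Fin n) (Fin n) (ZMod m))ˣ} (hg : g ∈ Subgroup.closure {x | x ∈ Gs}) : ∃ c ∈ T.toList, Rep P g c := by
  have : NeZero m := ⟨hP.hm.ne'⟩
  rw [← Subgroup.mem_toSubmonoid, Subgroup.closure_toSubmonoid_of_finite] at hg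
  induction hg using Submonoid.closure_induction_left with
  | one => exact ⟨_, Tr.mem_toList h1, rep_one hP hm⟩
  | mul_left x hx y hy ih =>
    obtain ⟨c, hc, hr⟩ := ih
    obtain ⟨i, hi, rfl⟩ := List.getElem_of_mem hx
    have h2 := h i (by omega)
    rw [List.getD_eq_getElem _ _ hi] at h2
    refine ⟨_, Tr.mem_toList (Tr.all_spec (List.all_eq_true.1 hT _ ?_) hc), h2.mul hP hr⟩
    rw [List.getD_eq_getElem _ _ (by omega)]
    exact List.getElem_mem _

/-- a closure whose elements are exactly the elements with code in the tree -/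
structure IsTree (P : Par w n m) (H : Subgroup (Matrix (Fin n) (Fin n) (ZMod m))ˣ) (T : Tr) : Prop where
  mem : ∀ g ∈ H, ∃ c ∈ T.toList, Rep P g c
  rep : ∀ c ∈ T.toList, ∃ g ∈ H, Rep P g c
  nodup : T.toList.Nodup

theorem isTree (hP : P.Ok) (hm : 1 < m) {gs : List ℕ} {Gs : List (Matrix (Fin n) (Fin n) (ZMod m))ˣ}
    (h : ∀ i < gs.length, Rep P (Gs.getD i 1) (gs.getD i 0)) (hlen : Gs.length = gs.length) (T : Tr)
    (h1 : T.mem (one w n) = true) (hT : gs.all (fun a => T.all (fun x => T.mem (mul P a x))) = true)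
    (W : List (List ℕ)) (hW : W.all (fun l => l.all (fun i => Nat.blt i gs.length)) = true)
    (hWT : W.map (wc P gs) = T.toList) (hnd : sortedB T.toList = true) :
    IsTree P (Subgroup.closure {x | x ∈ Gs}) T where
  mem g hg := mem_of_closed hP hm h hlen T h1 hT hg
  rep c hc := by
    rw [← hWT, List.mem_map] at hc
    obtain ⟨l, hl, rfl⟩ := hc
    refine ⟨wg Gs l, wg_mem (fun x hx => Subgroup.subset_closure hx) l, rep_wc hP hm h l ?_⟩
    intro i hi
    have h2 := List.all_eq_true.1 (List.all_eq_true.1 hW l hl) i hi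
    rwa [Nat.blt_eq] at h2
  nodup := (sortedB_spec hnd).imp (fun h => h.ne)

theorem IsTree.card_filter (hP : P.Ok) {H : Subgroup (Matrix (Fin n) (Fin n) (ZMod m))ˣ} {T : Tr} (h : IsTree P H T)
    (f : ℕ → Bool) (Q : (Matrix (Fin n) (Fin n) (ZMod m))ˣ → Prop)
    (hQ : ∀ g ∈ H, ∀ c, Rep P g c → (Q g ↔ f c = true)) :
    Nat.card {g : (Matrix (Fin n) (Fin n) (ZMod m))ˣ // g ∈ H ∧ Q g} = T.count f := by
  classical
  have hnd : (T.toList.filter f).Nodup := h.nodup.filter _
  rw [Tr.count_eq, ← List.toFinset_card_of_nodup hnd]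
  rw [← Fintype.card_coe, ← Nat.card_eq_fintype_card]
  have hex : ∀ x : {g : (Matrix (Fin n) (Fin n) (ZMod m))ˣ // g ∈ H ∧ Q g}, ∃ c : ↥(T.toList.filter f).toFinset,
      Rep P x.1 c.1 := by
    rintro ⟨g, hg, hq⟩
    obtain ⟨c, hc, hr⟩ := h.mem g hg
    exact ⟨⟨c, List.mem_toFinset.2 (List.mem_filter.2 ⟨hc, (hQ g hg c hr).1 hq⟩)⟩, hr⟩
  choose φ hφ using hex
  refine Nat.card_congr (Equiv.ofBijective φ ⟨?_, ?_⟩)
  · intro x y hxy
    apply Subtype.ext
    have h1 := hφ x
    rw [hxy] at h1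
    exact h1.ext hP (hφ y)
  · rintro ⟨c, hc⟩
    rw [List.mem_toFinset, List.mem_filter] at hc
    obtain ⟨g, hg, hr⟩ := h.rep c hc.1
    refine ⟨⟨g, hg, (hQ g hg c hr).2 hc.2⟩, ?_⟩
    apply Subtype.ext
    exact (hφ _).code_eq hP hr

theorem IsTree.card (hP : P.Ok) {H : Subgroup (Matrix (Fin n) (Fin n) (ZMod m))ˣ} {T : Tr} (h : IsTree P H T) :
    Nat.card H = T.toList.length := by
  have h1 := h.card_filter hP (fun _ => true) (fun _ => True) (fun _ _ _ _ => by simp)
  rw [Tr.count_eq] at h1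
  simp only [List.filter_true, and_true] at h1
  exact h1

end Cfsg.Agent.H11.KMat
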