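import Cfsg.Agent.H11_CompOf
import Cfsg.Agent.H11_Dich2

set_option autoImplicit false
open Cfsg

/-!
Transfer of relative statements to a subgroup viewed as a group; the dichotomy inside a subgroup.
-/

namespace Cfsg.Agent.H11.Sub

universe u

open Subgroup Cfsg.Agent.H11.Cores Cfsg.Agent.H11.Components Cfsg.Agent.H13.Syl
  Cfsg.Agent.H11.PComp Cfsg.Agent.H11.Bal Cfsg.Agent.H11.CompOf Cfsg.Agent.H11.Dich

variable {G : Type u} [Group G]

theorem subnormal_subgroupOf_iff {K M H : Subgroup G} (hMH : M ≤ H) :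
    ((K.subgroupOf H).subgroupOf (M.subgroupOf H)).IsSubnormal ↔ (K.subgroupOf M).IsSubnormal := by
  constructor
  · intro h
    have := h.comap (Subgroup.subgroupOfEquivOfLe hMH).symm.toMonoidHom
    exact this
  · intro h
    have := h.comap (Subgroup.subgroupOfEquivOfLe hMH).toMonoidHom
    exact this

theorem relPC_subgroupOf [Finite G] {p : ℕ} [hp : Fact p.Prime] {K M H : Subgroup G}
    (hMH : M ≤ H) (hKM : K ≤ M) :
    RelPC p (K.subgroupOf H) (M.subgroupOf H) ↔ RelPC p K M := by
  rw [relPC_iff, relPC_iff, subnormal_subgroupOf_iff hMH]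
  constructor
  · rintro ⟨_, h2, h3⟩
    exact ⟨hKM, h2, h3.of_mulEquiv (subgroupOfEquivOfLe (hKM.trans hMH))⟩
  · rintro ⟨_, h2, h3⟩
    exact ⟨fun x hx => hKM hx, h2, h3.of_mulEquiv (subgroupOfEquivOfLe (hKM.trans hMH)).symm⟩

theorem centralizer_singleton_subgroupOf {H : Subgroup G} {x : G} (hx : x ∈ H) :
    (centralizer ({x} : Set G) ⊓ H).subgroupOf H = centralizer ({⟨x, hx⟩} : Set H) := by
  ext y
  rw [mem_subgroupOf, mem_centralizer_singleton_iff, mem_inf, mem_centralizer_singleton_iff]
  constructor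
  · rintro ⟨h, -⟩; exact Subtype.ext h
  · intro h; exact ⟨congrArg Subtype.val h, y.2⟩

theorem centralizer_subgroupOf {H T : Subgroup G} (hT : T ≤ H) :
    (centralizer (T : Set G) ⊓ H).subgroupOf H = centralizer ((T.subgroupOf H : Subgroup H) : Set H) := by
  ext y
  rw [mem_subgroupOf, mem_inf, mem_centralizer_iff, mem_centralizer_iff]
  constructor
  · rintro ⟨h, -⟩ t ht
    exact Subtype.ext (h t (mem_subgroupOf.mp ht))
  · intro h
    refine ⟨fun t ht => congrArg Subtype.val (h ⟨t, hT ht⟩ (mem_subgroupOf.mpr ht)), y.2⟩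

theorem normalizer_map_subtype_iff {H : Subgroup G} (D : Subgroup H) (x : H) :
    (x : G) ∈ normalizer ((D.map H.subtype : Subgroup G) : Set G) ↔ x ∈ normalizer (D : Set H) := by
  rw [Subgroup.mem_normalizer_iff, Subgroup.mem_normalizer_iff]
  constructor
  · intro h d
    have := h (d : G)
    constructor
    · intro hd
      obtain ⟨e, he, hee⟩ := this.mp ⟨d, hd, rfl⟩
      have : e = x * d * x⁻¹ := Subtype.ext hee
      rwa [← this]
    · intro hd
      obtain ⟨e, he, hee⟩ := this.mpr ⟨_, hd, rfl⟩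
      have : e = d := Subtype.ext hee
      rwa [← this]
  · intro h d
    constructor
    · rintro ⟨e, he, rfl⟩
      exact ⟨x * e * x⁻¹, (h e).mp he, rfl⟩
    · rintro ⟨e, he, hee⟩
      refine ⟨x⁻¹ * e * x, ?_, ?_⟩
      · apply (h _).mpr
        have : x * (x⁻¹ * e * x) * x⁻¹ = e := by group
        rw [this]; exact he
      · have h1 : (e : G) = x * d * (x : G)⁻¹ := hee
        change (x : G)⁻¹ * e * x = d
        rw [h1]; group

/-- The dichotomy inside the subgroup `H`. -/
theorem dichotomy_in [Finite G] {p : ℕ} [hp : Fact p.Prime] {H : Subgroup G} {x : G} (hxH : x ∈ H)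
    (hx : orderOf x = p) {K : Subgroup G} (hK : RelPC p K (centralizer ({x} : Set G) ⊓ H))
    (hKl : K ≤ (layer H).map H.subtype) :
    ∃ D : Subgroup G, IsComponentOf D H ∧ ((x ∈ normalizer (D : Set G) ∧ K ≤ D) ∨
      (x ∉ normalizer (D : Set G) ∧ ∃ φ : D →* G, (∀ l : D, φ l = ((l : G) * x) ^ p) ∧
        φ.ker ≤ center D ∧ K = φ.range)) := by
  have hKH : K ≤ H := hK.1.trans inf_le_right
  have hx' : orderOf (⟨x, hxH⟩ : H) = p := by rw [← Subgroup.orderOf_coe]; exact hx
  have h1 : RelPC p (K.subgroupOf H) (centralizer ({⟨x, hxH⟩} : Set H)) := by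
    rw [← centralizer_singleton_subgroupOf hxH, relPC_subgroupOf inf_le_right hK.1]
    exact hK
  have h2 : K.subgroupOf H ≤ layer H := by
    intro k hk
    obtain ⟨m, hm, hmk⟩ := hKl (mem_subgroupOf.mp hk)
    have : m = k := Subtype.ext hmk
    rwa [← this]
  obtain ⟨D, hD, h⟩ := dichotomy hx' h1 h2
  have hDH : D.map H.subtype ≤ H := map_subtype_le D
  have hDe : (D.map H.subtype).subgroupOf H = D := by
    rw [Subgroup.subgroupOf, comap_map_eq_self_of_injective (subtype_injective H)]
  refine ⟨D.map H.subtype, ⟨hDH, by rw [hDe]; exact hD⟩, ?_⟩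
  rcases h with ⟨h3, h4⟩ | ⟨h3, φ, hφ, hφr⟩
  · left
    refine ⟨(normalizer_map_subtype_iff D ⟨x, hxH⟩).mpr h3, ?_⟩
    intro k hk
    exact ⟨⟨k, hKH hk⟩, h4 (mem_subgroupOf.mpr hk), rfl⟩
  · right
    refine ⟨fun h => h3 ((normalizer_map_subtype_iff D ⟨x, hxH⟩).mp h), ?_⟩
    let e : D ≃* ↥(D.map H.subtype) := D.equivMapOfInjective H.subtype (subtype_injective H)
    refine ⟨(H.subtype.comp φ).comp e.symm.toMonoidHom, ?_, ?_, ?_⟩
    · intro l
      obtain ⟨d, rfl⟩ := e.surjective l
      have h5 := hφ.eq d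
      have h6 := congrArg (fun z : H => (z : G)) h5
      simp only [SubmonoidClass.coe_pow, Subgroup.coe_mul] at h6
      change ((φ (e.symm (e d)) : H) : G) = _
      rw [MulEquiv.symm_apply_apply, h6]
      rfl
    · intro l hl
      obtain ⟨d, rfl⟩ := e.surjective l
      have h5 : ((φ (e.symm (e d)) : H) : G) = 1 := hl
      rw [MulEquiv.symm_apply_apply] at h5
      have h6 : d ∈ φ.ker := Subtype.ext h5
      have h7 := hφ.ker h6
      rw [mem_center_iff] at h7 ⊢
      intro m
      obtain ⟨d', rfl⟩ := e.surjective m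
      rw [← map_mul, ← map_mul, h7 d']
    · ext k
      constructor
      · intro hk
        have h5 : (⟨k, hKH hk⟩ : H) ∈ K.subgroupOf H := mem_subgroupOf.mpr hk
        rw [hφr] at h5
        obtain ⟨d, hd⟩ := h5
        refine ⟨e d, ?_⟩
        change ((φ (e.symm (e d)) : H) : G) = k
        rw [MulEquiv.symm_apply_apply, hd]
      · rintro ⟨l, rfl⟩
        obtain ⟨d, rfl⟩ := e.surjective l
        change ((φ (e.symm (e d)) : H) : G) ∈ K
        rw [MulEquiv.symm_apply_apply]
        have : φ d ∈ K.subgroupOf H := by rw [hφr]; exact ⟨d, rfl⟩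
        exact mem_subgroupOf.mp this


/-- A quasisimple group of order divisible by `p` is `p`-quasisimple. -/
theorem isPQuasi_of_isQuasisimple {p : ℕ} [hp : Fact p.Prime] {K : Type u} [Group K] [Finite K]
    (hK : IsQuasisimple K) (hd : p ∣ Nat.card K) : IsPQuasi p K := by
  have key : ∀ N : Subgroup K, N.Normal → N.index.Coprime p → N = ⊤ := by
    intro N hN hidx
    rcases IsQuasisimple.normal_eq_top_or_le_center hK N with h | h
    · exact h
    exfalso
    obtain ⟨P⟩ : Nonempty (Sylow p K) := inferInstance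
    have hPN : (P : Subgroup K) ≤ N := by
      intro g hg
      obtain ⟨n, hn⟩ := P.isPGroup' ⟨g, hg⟩
      have hn' : g ^ p ^ n = 1 := congrArg Subtype.val hn
      have h1 : (QuotientGroup.mk' N g) ^ p ^ n = 1 := by rw [← map_pow, hn', map_one]
      have h2 : orderOf (QuotientGroup.mk' N g) ∣ p ^ n := orderOf_dvd_of_pow_eq_one h1
      have h3 : orderOf (QuotientGroup.mk' N g) ∣ N.index := by
        rw [Subgroup.index]; exact orderOf_dvd_natCard _
      have h4 : orderOf (QuotientGroup.mk' N g) = 1 :=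
        Nat.eq_one_of_dvd_coprimes (hidx.pow_right n) h3 h2
      rw [orderOf_eq_one_iff] at h4
      exact (QuotientGroup.eq_one_iff g).mp h4
    have hPc : normalizer (P : Set K) ≤ centralizer (P : Set K) := by
      intro x _
      rw [mem_centralizer_iff]
      intro g hg
      exact (mem_center_iff.mp (h (hPN hg)) x).symm
    have hcompl := MonoidHom.ker_transferSylow_isComplement' P hPc
    have htop : (MonoidHom.transferSylow P hPc).ker = ⊤ := by
      rw [eq_top_iff, ← hK.1.commutator_eq_top]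
      haveI : IsMulCommutative (P : Subgroup K) := ⟨⟨fun a b => Subtype.ext
        ((mem_center_iff.mp (h (hPN b.2)) a))⟩⟩
      letI : CommGroup (P : Subgroup K) := { (inferInstance : Group (P : Subgroup K)) with
        mul_comm := fun a b => Subtype.ext ((mem_center_iff.mp (h (hPN b.2)) a)) }
      rw [_root_.commutator_def, Subgroup.commutator_le]
      intro a _ b _
      rw [MonoidHom.mem_ker, map_commutatorElement]
      rw [commutatorElement_eq_one_iff_mul_comm]
      exact Subtype.ext ((mem_center_iff.mp (h (hPN (MonoidHom.transferSylow P hPc b).2)) _))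
    rw [htop, Subgroup.isComplement'_top_left] at hcompl
    have h5 := P.dvd_card_of_dvd_card hd
    rw [hcompl, Subgroup.card_bot] at h5
    exact hp.out.one_lt.ne' (Nat.dvd_one.mp h5)
  refine ⟨?_, key⟩
  haveI : Nontrivial (K ⧸ pPrimeCore p K) := by
    rw [QuotientGroup.nontrivial_iff]
    intro h
    have h1 : (Nat.card (pPrimeCore p K)).Coprime p := pPrimeCore_coprime p
    rw [h, Subgroup.card_top] at h1
    exact (Nat.Prime.coprime_iff_not_dvd hp.out).mp h1.symm hd
  exact IsQuasisimple.of_surjective hK (QuotientGroup.mk' _) (QuotientGroup.mk'_surjective _)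

theorem relPC_of_isComponentOf [Finite G] {p : ℕ} [hp : Fact p.Prime] {K H : Subgroup G}
    (h : IsComponentOf K H) (hd : p ∣ Nat.card K) : RelPC p K H :=
  (relPC_iff p).mpr ⟨h.1, h.2.1, isPQuasi_of_isQuasisimple (isQuasisimple_of h) hd⟩

/-- The 2-layer of an involution centralizer is the layer, under the `B`-property. -/
theorem pLayer_le_layer_of_B [Finite G] (hO : oddCore G = ⊥) (hB : HasBProperty G) {b : G}
    (hb : orderOf b = 2) :
    pLayer 2 ↥(centralizer ({b} : Set G)) ≤ layer ↥(centralizer ({b} : Set G)) := by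
  haveI : Fact (Nat.Prime 2) := ⟨Nat.prime_two⟩
  have h1 := hB b hb
  rw [hO, le_bot_iff, Subgroup.map_eq_bot_iff_of_injective _ (subtype_injective _)] at h1
  rw [pLayer, sSup_le_iff]
  intro K hK
  apply le_layer
  rw [Cfsg.Agent.H11.PT.isComponent_iff_commutator 2 hK, eq_bot_iff, ← h1]
  exact commutator_mono (Cfsg.Agent.H11.PComp.le_pLayer hK) le_rfl

/-- `L`-balance and `B`-property: components of `C(a)` centralizing `b` lie in `E(C(b))`. -/
theorem le_layer_of_B [Finite G] (hO : oddCore G = ⊥) (hB : HasBProperty G) {a b : G}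
    (ha : orderOf a = 2) (hb : orderOf b = 2) (hab : a * b = b * a) {K : Subgroup G}
    (hK : IsComponentOf K (centralizer ({a} : Set G))) (hKb : K ≤ centralizer ({b} : Set G))
    (hd : 2 ∣ Nat.card K) :
    RelPC 2 K (centralizer ({a} : Set G) ⊓ centralizer ({b} : Set G)) ∧
      K ≤ (layer ↥(centralizer ({b} : Set G))).map (centralizer ({b} : Set G)).subtype := by
  haveI : Fact (Nat.Prime 2) := ⟨Nat.prime_two⟩
  have h1 : RelPC 2 K (centralizer ({a} : Set G)) := relPC_of_isComponentOf hK hd
  have h2 : RelPC 2 K (centralizer ({a} : Set G) ⊓ centralizer ({b} : Set G)) :=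
    h1.of_le (le_inf hK.1 hKb) inf_le_left
  refine ⟨h2, ?_⟩
  set H := centralizer ({b} : Set G) with hH
  have haH : a ∈ H := by rw [hH, mem_centralizer_singleton_iff]; exact hab
  have h3 : RelPC 2 (K.subgroupOf H) ((centralizer ({a} : Set G) ⊓ H).subgroupOf H) :=
    (relPC_subgroupOf inf_le_right h2.1).mpr h2
  rw [centralizer_singleton_subgroupOf haH, centralizer_singleton_eq] at h3
  have h4 : IsPGroup 2 (zpowers (⟨a, haH⟩ : H)) := by
    apply IsPGroup.of_card (n := 1)
    rw [Nat.card_zpowers, ← Subgroup.orderOf_coe, pow_one]; exact ha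
  have h5 := (Cfsg.Agent.H11.LB.L_balance h4 h3).trans (pLayer_le_layer_of_B hO hB hb)
  intro k hk
  exact ⟨⟨k, hKb hk⟩, h5 (mem_subgroupOf.mpr hk), rfl⟩

end Cfsg.Agent.H11.Sub
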