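import Cfsg.Agent.H12_BG8a
import Cfsg.Agent.H1_Schmidt
import Cfsg.Agent.H1_Coprime2
import Cfsg.Agent.H1_Nilp

set_option autoImplicit false
open Cfsg

/-!
Thompson's dihedral lemma.
-/

namespace Cfsg.Agent.H11.ThD

universe u

open Subgroup

variable {G : Type u} [Group G]

/-- eigenvectors of a group of commuting involutions acting on an abelian group -/
theorem eig [Finite G] (A V : Subgroup G) (hA2 : ∀ a ∈ A, a * a = 1)
    (hVc : ∀ v ∈ V, ∀ w ∈ V, v * w = w * v) (hAV : ∀ a ∈ A, ∀ v ∈ V, a * v * a⁻¹ ∈ V) (hV : V ≠ ⊥) :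
    ∃ v ∈ V, v ≠ 1 ∧ ∀ a ∈ A, a * v * a⁻¹ = v ∨ a * v * a⁻¹ = v⁻¹ := by
  classical
  have hAc : ∀ a ∈ A, ∀ b ∈ A, a * b = b * a := by
    intro a ha b hb
    have h1 := hA2 _ (mul_mem ha hb)
    have h2 : ∀ c ∈ A, c⁻¹ = c := fun c hc => inv_eq_of_mul_eq_one_left (hA2 c hc)
    calc a * b = (a * b)⁻¹ := (h2 _ (mul_mem ha hb)).symm
      _ = b⁻¹ * a⁻¹ := by group
      _ = b * a := by rw [h2 a ha, h2 b hb]
  let S : G → Set G := fun v => {a | a ∈ A ∧ (a * v * a⁻¹ = v ∨ a * v * a⁻¹ = v⁻¹)}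
  obtain ⟨v₀, hv₀, hv₀1⟩ : ∃ v ∈ V, v ≠ 1 := by
    by_contra hcon
    push Not at hcon
    exact hV ((eq_bot_iff_forall V).mpr hcon)
  obtain ⟨v, ⟨hvV, hv1⟩, hmax⟩ := Set.exists_max_image {v : G | v ∈ V ∧ v ≠ 1} (fun v => (S v).ncard)
    (Set.toFinite _) ⟨v₀, hv₀, hv₀1⟩
  refine ⟨v, hvV, hv1, ?_⟩
  by_contra hcon
  push Not at hcon
  obtain ⟨a, ha, h1, h2⟩ := hcon
  set v' := a * v * a⁻¹ with hv'
  have hv'V : v' ∈ V := hAV a ha v hvV
  have hwV : v * v' ∈ V := mul_mem hvV hv'V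
  have hw1 : v * v' ≠ 1 := fun h => h2 (eq_inv_of_mul_eq_one_right h)
  have hsub : S v ⊂ S (v * v') := by
    refine ⟨?_, ?_⟩
    · rintro b ⟨hb, hb'⟩
      refine ⟨hb, ?_⟩
      have hab := hAc a ha b hb
      have h3 : b * v' * b⁻¹ = a * (b * v * b⁻¹) * a⁻¹ := by
        rw [hv']
        calc b * (a * v * a⁻¹) * b⁻¹ = (b * a) * v * (b * a)⁻¹ := by group
          _ = (a * b) * v * (a * b)⁻¹ := by rw [hab]
          _ = _ := by group
      have h4 : b * (v * v') * b⁻¹ = (b * v * b⁻¹) * (b * v' * b⁻¹) := by group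
      rcases hb' with hb' | hb'
      · left
        rw [h4, h3, hb']
      · right
        rw [h4, h3, hb']
        have h5 : a * v⁻¹ * a⁻¹ = v'⁻¹ := by rw [hv']; group
        rw [h5]
        exact (hVc _ (inv_mem hvV) _ (inv_mem hv'V)).trans (mul_inv_rev v v').symm
    · intro h
      have h3 : a ∈ S (v * v') := by
        refine ⟨ha, Or.inl ?_⟩
        have haa := hA2 a ha
        have hai : a⁻¹ = a := inv_eq_of_mul_eq_one_left haa
        calc a * (v * v') * a⁻¹ = (a * v * a⁻¹) * (a * v' * a⁻¹) := by group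
          _ = v' * ((a * a) * v * (a * a)⁻¹) := by rw [hv']; group
          _ = v' * v := by rw [haa]; group
          _ = v * v' := hVc _ hv'V _ hvV
      rcases (h h3).2 with h4 | h4
      · exact h1 h4
      · exact h2 h4
  have h3 := Set.ncard_lt_ncard hsub (Set.toFinite _)
  have h4 := hmax (v * v') ⟨hwV, hw1⟩
  omega

/-- a nontrivial nilpotent subgroup has nontrivial centre -/
theorem center_ne_bot [Finite G] {C : Subgroup G} (hC : Group.IsNilpotent C) (hne : C ≠ ⊥) :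
    C ⊓ centralizer (C : Set G) ≠ ⊥ := by
  haveI : Nontrivial C := (Subgroup.nontrivial_iff_ne_bot C).mpr hne
  haveI := hC
  have h1 := Cfsg.Agent.H1.Nilp.normal_inf_center_ne_bot (⊤ : Subgroup C) top_ne_bot
  rw [top_inf_eq] at h1
  haveI : Nontrivial (center C) := (Subgroup.nontrivial_iff_ne_bot _).mpr h1
  obtain ⟨z, hz⟩ := exists_ne (1 : center C)
  intro h
  apply hz
  have h2 : ((z : C) : G) ∈ C ⊓ centralizer (C : Set G) := by
    refine ⟨(z : C).2, mem_centralizer_iff.mpr ?_⟩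
    intro c hc
    exact congrArg Subtype.val (mem_center_iff.mp z.2 ⟨c, hc⟩)
  rw [h, mem_bot] at h2
  exact Subtype.ext (Subtype.ext h2)

theorem step [Finite G] (A C Y : Subgroup G) [hY : Y.Normal] (hA2 : ∀ a ∈ A, a * a = 1)
    (hAC : ∀ a ∈ A, ∀ c ∈ C, a * c * a⁻¹ ∈ C) (hC : Group.IsNilpotent C) (hCY : ¬ C ≤ Y) :
    ∃ v ∈ C, v ∉ Y ∧ ∀ a ∈ A, a * v * a⁻¹ * v⁻¹ ∈ Y ∨ a * v * a⁻¹ * v ∈ Y := by
  set π := QuotientGroup.mk' Y with hπ
  have hker : ∀ g : G, π g = 1 ↔ g ∈ Y := fun g => QuotientGroup.eq_one_iff g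
  set C' := C.map π with hC'
  have hC'n : Group.IsNilpotent C' := by
    have h1 := (π.subgroupMap_surjective C)
    exact Group.nilpotent_of_surjective _ h1
  have hC'1 : C' ≠ ⊥ := by
    intro h
    rw [hC', Subgroup.map_eq_bot_iff, QuotientGroup.ker_mk'] at h
    exact hCY h
  have hZ := center_ne_bot hC'n hC'1
  have hinv : ∀ a ∈ A.map π, ∀ c ∈ C', a * c * a⁻¹ ∈ C' := by
    rintro _ ⟨a, ha, rfl⟩ _ ⟨c, hc, rfl⟩
    exact ⟨a * c * a⁻¹, hAC a ha c hc, by simp⟩
  obtain ⟨v', hv', hv'1, hv'e⟩ := eig (A.map π) (C' ⊓ centralizer (C' : Set (G ⧸ Y))) (by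
      rintro _ ⟨a, ha, rfl⟩
      rw [← map_mul, hA2 a ha, map_one]) (by
      intro v hv w hw
      exact mem_centralizer_iff.mp hw.2 v hv.1) (by
      intro a ha v hv
      refine ⟨hinv a ha v hv.1, mem_centralizer_iff.mpr ?_⟩
      intro c hc
      have h1 : a⁻¹ * c * a ∈ C' := by
        have := hinv a⁻¹ (inv_mem ha) c hc
        rwa [inv_inv] at this
      have h2 := mem_centralizer_iff.mp hv.2 _ h1
      calc c * (a * v * a⁻¹) = a * ((a⁻¹ * c * a) * v) * a⁻¹ := by group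
        _ = a * (v * (a⁻¹ * c * a)) * a⁻¹ := by rw [h2]
        _ = _ := by group) hZ
  obtain ⟨v, hv, rfl⟩ := hv'.1
  refine ⟨v, hv, fun h => hv'1 ((hker v).mpr h), ?_⟩
  intro a ha
  rcases hv'e _ (mem_map_of_mem π ha) with h | h
  · left
    rw [← hker, map_mul, map_mul, map_mul, map_inv, map_inv, h, mul_inv_cancel]
  · right
    rw [← hker, map_mul, map_mul, map_mul, map_inv, h, inv_mul_cancel]

/-- an `A`-invariant abelian subgroup of the nilpotent group `F` which is self-centralizing in `F` -/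
theorem exists_maxab [Finite G] (A F : Subgroup G) (hA2 : ∀ a ∈ A, a * a = 1)
    (hAF : ∀ a ∈ A, ∀ c ∈ F, a * c * a⁻¹ ∈ F) (hF : Group.IsNilpotent F) :
    ∃ Y ≤ F, (∀ v ∈ Y, ∀ w ∈ Y, v * w = w * v) ∧ (∀ a ∈ A, ∀ y ∈ Y, a * y * a⁻¹ ∈ Y) ∧
      F ⊓ centralizer (Y : Set G) ≤ Y := by
  classical
  obtain ⟨Y, hY⟩ := (Set.toFinite {Y : Subgroup G | Y ≤ F ∧ (∀ v ∈ Y, ∀ w ∈ Y, v * w = w * v) ∧
    (∀ a ∈ A, ∀ y ∈ Y, a * y * a⁻¹ ∈ Y)}).exists_maximal ⟨⊥, bot_le, by simp, by simp⟩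
  obtain ⟨hYF, hYc, hYA⟩ := hY.prop
  refine ⟨Y, hYF, hYc, hYA, ?_⟩
  by_contra hcon
  set C := F ⊓ centralizer (Y : Set G) with hC
  set N := normalizer (Y : Set G) with hN
  haveI : (Y.subgroupOf N).Normal := normal_in_normalizer
  have hAN : A ≤ N := by
    intro a ha
    rw [hN, Subgroup.mem_normalizer_iff]
    intro y
    refine ⟨hYA a ha y, fun h => ?_⟩
    have h1 := hYA a⁻¹ (inv_mem ha) _ h
    have h2 : a⁻¹ * (a * y * a⁻¹) * a⁻¹⁻¹ = y := by group
    rwa [h2] at h1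
  have hCN : C ≤ N := inf_le_right.trans (centralizer_le_normalizer _)
  have hCn : Group.IsNilpotent (C.subgroupOf N) := by
    have h1 : Group.IsNilpotent C := Cfsg.Agent.H1.Nilp.isNilpotent_of_le inf_le_left hF
    exact Group.nilpotent_of_mulEquiv (subgroupOfEquivOfLe hCN).symm
  have hAC : ∀ a ∈ A, ∀ c ∈ C, a * c * a⁻¹ ∈ C := by
    intro a ha c hc
    refine ⟨hAF a ha c hc.1, mem_centralizer_iff.mpr ?_⟩
    intro y hy
    have h1 : a⁻¹ * y * a ∈ Y := by
      have := hYA a⁻¹ (inv_mem ha) y hy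
      rwa [inv_inv] at this
    have h2 := mem_centralizer_iff.mp hc.2 _ h1
    calc y * (a * c * a⁻¹) = a * ((a⁻¹ * y * a) * c) * a⁻¹ := by group
        _ = a * (c * (a⁻¹ * y * a)) * a⁻¹ := by rw [h2]
        _ = _ := by group
  obtain ⟨⟨v, hvN⟩, hvC, hvY, hve⟩ := step (A.subgroupOf N) (C.subgroupOf N) (Y.subgroupOf N)
    (fun a ha => Subtype.ext (hA2 _ ha)) (fun a ha c hc => hAC _ ha _ hc) hCn (by
      intro h
      apply hcon
      intro c hc
      exact h (show (⟨c, hCN hc⟩ : N) ∈ C.subgroupOf N from hc))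
  have hvC' : v ∈ C := hvC
  have hvY' : v ∉ Y := hvY
  have hve' : ∀ a ∈ A, a * v * a⁻¹ * v⁻¹ ∈ Y ∨ a * v * a⁻¹ * v ∈ Y := fun a ha =>
    hve ⟨a, hAN ha⟩ ha
  have hvcent := mem_centralizer_iff.mp hvC'.2
  -- the new abelian subgroup
  have hmem : ∀ x ∈ Y ⊔ zpowers v, ∃ y ∈ Y, ∃ j : ℤ, x = y * v ^ j := by
    intro x hx
    have h1 : Y ≤ normalizer (zpowers v : Set G) := by
      refine le_trans ?_ (centralizer_le_normalizer _)
      rw [le_centralizer_iff, zpowers_le, mem_centralizer_iff]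
      exact hvcent
    rw [← SetLike.mem_coe, coe_mul_of_left_le_normalizer_right _ _ h1] at hx
    obtain ⟨y, hy, w, ⟨j, rfl⟩, rfl⟩ := hx
    exact ⟨y, hy, j, rfl⟩
  have hvm : v ∈ Y ⊔ zpowers v := mem_sup_right (mem_zpowers v)
  have h1 := hY.2 (y := Y ⊔ zpowers v) ⟨sup_le hYF (zpowers_le.mpr hvC'.1), ?_, ?_⟩ le_sup_left
  · exact hvY' (h1 hvm)
  · intro x hx w hw
    obtain ⟨y, hy, i, rfl⟩ := hmem x hx
    obtain ⟨y', hy', j, rfl⟩ := hmem w hw
    have c1 : Commute y y' := hYc y hy y' hy'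
    have c2 : Commute y v := hvcent y hy
    have c3 : Commute y' v := hvcent y' hy'
    exact ((c1.mul_right (c2.zpow_right j)).mul_left
      ((c3.zpow_right i).symm.mul_right ((Commute.refl v).zpow_zpow i j))).eq
  · intro a ha x hx
    obtain ⟨y, hy, i, rfl⟩ := hmem x hx
    have h2 : a * (y * v ^ i) * a⁻¹ = (a * y * a⁻¹) * (a * v * a⁻¹) ^ i := by
      rw [conj_zpow]; group
    rw [h2]
    refine mul_mem (mem_sup_left (hYA a ha y hy)) (zpow_mem ?_ i)
    rcases hve' a ha with h | h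
    · have h3 := mul_mem (mem_sup_left (T := zpowers v) h) hvm
      rwa [inv_mul_cancel_right] at h3
    · have h3 := mul_mem (mem_sup_left (T := zpowers v) h) (inv_mem hvm)
      rwa [mul_inv_cancel_right] at h3

/-- a group of operators centralizing a self-centralizing subgroup of a nilpotent group -/
theorem cent_of_selfcent [Finite G] {F Y B : Subgroup G} (hF : Group.IsNilpotent F)
    (hBF : B ≤ normalizer (F : Set G)) (hcop : (Nat.card B).Coprime (Nat.card F))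
    (hYF : Y ≤ F) (hY : F ⊓ centralizer (Y : Set G) ≤ Y) (hB : B ≤ centralizer (Y : Set G)) :
    B ≤ centralizer (F : Set G) := by
  set M := F ⊓ centralizer (B : Set G) with hM
  have hYM : Y ≤ M := le_inf hYF (le_centralizer_iff.mp hB)
  by_cases hMF : M = F
  · rw [le_centralizer_iff]
    intro x hx
    rw [← hMF] at hx
    exact hx.2
  exfalso
  have h1 := Cfsg.Agent.H1.Schmidt.lt_inf_normalizer (lt_of_le_of_ne inf_le_left hMF) hF
  set D := F ⊓ normalizer (M : Set G) with hD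
  have hBM : ⁅M, B⁆ = ⊥ := (commutator_eq_bot_iff_le_centralizer).2 inf_le_right
  have hBD : B ≤ normalizer (D : Set G) := by
    refine le_trans (le_inf hBF ?_) Subgroup.inf_normalizer_le_normalizer_inf
    refine le_trans (le_trans ?_ (centralizer_le_normalizer _)) le_normalizer
    rw [le_centralizer_iff]; exact inf_le_right
  have h2 : ⁅⁅M, D⁆, B⁆ = ⊥ := by
    rw [eq_bot_iff, ← hBM]
    refine commutator_mono ?_ le_rfl
    exact Cfsg.Agent.H1.Coprime.commutator_le_of_le_normalizer inf_le_right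
  have h3 : ⁅⁅D, B⁆, M⁆ = ⊥ := by
    apply commutator_commutator_eq_bot_of_rotate
    · rw [commutator_comm B, hBM, commutator_bot_left]
    · exact h2
  have h4 : ⁅D, B⁆ ≤ M := by
    refine le_trans (le_inf ?_ ?_) (hY.trans hYM)
    · exact (Cfsg.Agent.H1.Coprime.commutator_le_of_le_normalizer hBD).trans inf_le_left
    · exact (commutator_eq_bot_iff_le_centralizer.mp h3).trans (centralizer_le hYM)
  have h5 : ⁅⁅D, B⁆, B⁆ = ⊥ := by
    rw [eq_bot_iff, ← hBM]
    exact commutator_mono h4 le_rfl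
  have hDs : Group.IsSolvable D := by
    haveI := hF
    have : Group.IsSolvable F := inferInstance
    exact Group.isSolvable_of_isSolvable_injective (f := Subgroup.inclusion inf_le_left)
      (Subgroup.inclusion_injective _)
  rw [Cfsg.Agent.H1.Coprime.commutator_commutator_eq B D hBD
    (hcop.coprime_dvd_right (card_dvd_of_le inf_le_left)) (Or.inr hDs),
    commutator_eq_bot_iff_le_centralizer] at h5
  exact h1.not_ge (le_inf inf_le_left h5)

end Cfsg.Agent.H11.ThD
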