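import Cfsg.Agent.H11_ThD

set_option autoImplicit false
open Cfsg

/-!
Thompson's dihedral lemma, continued.
-/

namespace Cfsg.Agent.H11.ThD

universe u

open Subgroup

variable {G : Type u} [Group G]

/-- dihedral groups generated by an involution inverting a cyclic group -/
theorem dih_iso [Finite G] {a y : G} (ha : a * a = 1) (hay : a * y * a⁻¹ = y⁻¹) (hna : a ∉ zpowers y) :
    Nonempty (↥(zpowers a ⊔ zpowers y) ≃* DihedralGroup (orderOf y)) := by
  set n := orderOf y with hn
  haveI : NeZero n := ⟨(orderOf_pos y).ne'⟩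
  let φ : ZMod n → G := fun i => y ^ (i.cast : ℤ)
  have hφint : ∀ k : ℤ, φ (k : ZMod n) = y ^ k := by
    intro k
    change y ^ (((k : ZMod n)).cast : ℤ) = y ^ k
    rw [zpow_eq_zpow_iff_modEq, ← hn, ← ZMod.intCast_eq_intCast_iff, ZMod.intCast_cast, ZMod.cast_id]
  have hφadd : ∀ i j : ZMod n, φ (i + j) = φ i * φ j := by
    intro i j
    have h1 : ((i.cast + j.cast : ℤ) : ZMod n) = i + j := by
      push_cast; simp
    rw [← h1, hφint, zpow_add]
  have hφneg : ∀ i j : ZMod n, φ (j - i) = (φ i)⁻¹ * φ j := by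
    intro i j
    have h1 := hφadd i (j - i)
    rw [add_sub_cancel] at h1
    rw [h1]; group
  have hai : a⁻¹ = a := inv_eq_of_mul_eq_one_left ha
  have haφ : ∀ i, φ i * a = a * (φ i)⁻¹ := by
    intro i
    have h1 : a * φ i * a⁻¹ = (φ i)⁻¹ := by
      change a * y ^ (i.cast : ℤ) * a⁻¹ = (y ^ (i.cast : ℤ))⁻¹
      rw [← conj_zpow, hay, inv_zpow]
    rw [← h1]
    calc φ i * a = (a * a) * φ i * a := by rw [ha, one_mul]
      _ = a * (a * φ i * a⁻¹) := by rw [hai]; group
  let f : DihedralGroup n →* G :=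
    { toFun := fun g => match g with
        | .r i => φ i
        | .sr i => a * φ i
      map_one' := by
        change φ 0 = 1
        have := hφint 0
        simpa using this
      map_mul' := by
        rintro (i | i) (j | j)
        · exact hφadd i j
        · change a * φ (j - i) = φ i * (a * φ j)
          rw [hφneg, ← mul_assoc, ← mul_assoc, haφ]
        · change a * φ (i + j) = a * φ i * φ j
          rw [hφadd, mul_assoc]
        · change φ (j - i) = a * φ i * (a * φ j)
          rw [hφneg]
          calc (φ i)⁻¹ * φ j = (a * a) * (φ i)⁻¹ * φ j := by rw [ha, one_mul]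
            _ = a * (a * (φ i)⁻¹) * φ j := by group
            _ = a * (φ i * a) * φ j := by rw [haφ]
            _ = _ := by group }
  have hfr : ∀ i, f (.r i) = φ i := fun _ => rfl
  have hfs : ∀ i, f (.sr i) = a * φ i := fun _ => rfl
  have hφmem : ∀ i, φ i ∈ zpowers y := fun i => ⟨_, rfl⟩
  have hinj : Function.Injective f := by
    rw [injective_iff_map_eq_one]
    rintro (i | i) h
    · rw [hfr] at h
      change y ^ (i.cast : ℤ) = 1 at h
      rw [← orderOf_dvd_iff_zpow_eq_one, ← hn, ← ZMod.intCast_zmod_eq_zero_iff_dvd] at h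
      simp at h
      rw [h]; rfl
    · exfalso
      rw [hfs] at h
      apply hna
      rw [eq_inv_of_mul_eq_one_left h]
      exact inv_mem (hφmem i)
  have hrange : f.range = zpowers a ⊔ zpowers y := by
    apply le_antisymm
    · rintro _ ⟨(i | i), rfl⟩
      · rw [hfr]; exact mem_sup_right (hφmem i)
      · rw [hfs]; exact mul_mem (mem_sup_left (mem_zpowers a)) (mem_sup_right (hφmem i))
    · apply sup_le
      · rw [zpowers_le]
        refine ⟨.sr 0, ?_⟩
        rw [hfs]
        have := hφint 0
        simp only [Int.cast_zero, zpow_zero] at this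
        rw [this, mul_one]
      · rw [zpowers_le]
        refine ⟨.r 1, ?_⟩
        rw [hfr]
        have := hφint 1
        simpa using this
  rw [← hrange]
  exact ⟨(f.ofInjective hinj).symm⟩

theorem dual [Finite G] (E : Set G) (hodd : ∀ y ∈ E, y = y⁻¹ → y = 1) (d : ℕ) :
    ∀ A : Subgroup G, Nat.card A = 2 ^ d → (∀ a ∈ A, a * a = 1) →
    (∀ a ∈ A, ∀ y ∈ E, a * y * a⁻¹ = y ∨ a * y * a⁻¹ = y⁻¹) →
    (∀ a ∈ A, a ≠ 1 → ∃ y ∈ E, a * y * a⁻¹ ≠ y) →
    ∃ (a y : Fin d → G), (∀ i, a i ∈ A) ∧ (∀ i, y i ∈ E) ∧ (∀ i, y i ≠ 1) ∧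
      (∀ i, a i * y i * (a i)⁻¹ = (y i)⁻¹) ∧ (∀ i j, i ≠ j → a i * y j * (a i)⁻¹ = y j) ∧
      A ≤ ⨆ i, zpowers (a i) := by
  classical
  induction d with
  | zero =>
    intro A hA _ _ _
    have h1 : A = ⊥ := Subgroup.eq_bot_of_card_eq _ (by simpa using hA)
    exact ⟨Fin.elim0, Fin.elim0, fun i => i.elim0, fun i => i.elim0, fun i => i.elim0, fun i => i.elim0,
      fun i => i.elim0, by rw [h1]; exact bot_le⟩
  | succ d ih =>
    intro A hA hA2 hE hfaith
    have hAc : ∀ a ∈ A, ∀ b ∈ A, a * b = b * a := by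
      intro a ha b hb
      have h2 : ∀ c ∈ A, c⁻¹ = c := fun c hc => inv_eq_of_mul_eq_one_left (hA2 c hc)
      calc a * b = (a * b)⁻¹ := (h2 _ (mul_mem ha hb)).symm
        _ = b⁻¹ * a⁻¹ := by group
        _ = b * a := by rw [h2 a ha, h2 b hb]
    have hAne : A ≠ ⊥ := by
      rintro rfl
      rw [card_bot] at hA
      have : 1 < 2 ^ (d + 1) := Nat.one_lt_two_pow (by omega)
      omega
    obtain ⟨b, hbA, hb1⟩ : ∃ b ∈ A, b ≠ 1 := by
      by_contra hcon
      push Not at hcon
      exact hAne ((eq_bot_iff_forall A).mpr hcon)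
    obtain ⟨y, hyE, hby⟩ := hfaith b hbA hb1
    have hby' : b * y * b⁻¹ = y⁻¹ := (hE b hbA y hyE).resolve_left hby
    set A' := A ⊓ centralizer ({y} : Set G) with hA'
    have hmemA' : ∀ a ∈ A, (a ∈ A' ↔ a * y * a⁻¹ = y) := by
      intro a ha
      rw [hA']
      constructor
      · rintro ⟨-, h⟩
        exact mul_inv_eq_iff_eq_mul.mpr (mem_centralizer_singleton_iff.mp h)
      · intro h
        exact ⟨ha, mem_centralizer_singleton_iff.mpr (mul_inv_eq_iff_eq_mul.mp h)⟩
    have hbb : ∀ a ∈ A, a ∉ A' → a * b ∈ A' := by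
      intro a ha haA'
      rw [hmemA' a ha] at haA'
      have h1 := (hE a ha y hyE).resolve_left haA'
      rw [hmemA' _ (mul_mem ha hbA)]
      calc a * b * y * (a * b)⁻¹ = a * (b * y * b⁻¹) * a⁻¹ := by group
        _ = (a * y * a⁻¹)⁻¹ := by rw [hby']; group
        _ = y := by rw [h1, inv_inv]
    have hbA' : b ∉ A' := fun h => hby ((hmemA' b hbA).mp h)
    have hidx : A'.relIndex A = 2 := by
      rw [relIndex, index_eq_two_iff]
      refine ⟨⟨b, hbA⟩, ?_⟩
      rintro ⟨a, ha⟩
      by_cases h : a ∈ A'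
      · right
        refine ⟨h, ?_⟩
        intro h'
        exact hbA' ((A'.mul_mem_cancel_left h).mp h')
      · left
        exact ⟨hbb a ha h, h⟩
    have hA'c : Nat.card A' = 2 ^ d := by
      have h1 := relIndex_mul_relIndex _ _ _ (bot_le (a := A')) (inf_le_left : A' ≤ A)
      rw [relIndex_bot_left, relIndex_bot_left, hidx, hA, pow_succ] at h1
      omega
    obtain ⟨a, z, haA, hzE, hz1, hinv, hcom, hgen⟩ := ih A' hA'c (fun a ha => hA2 a ha.1)
      (fun a ha => hE a ha.1) (fun a ha => hfaith a ha.1)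
    have hsub : ∀ S : Finset (Fin d), ∃ c ∈ A', ∀ i, (i ∈ S → c * z i * c⁻¹ = (z i)⁻¹) ∧
        (i ∉ S → c * z i * c⁻¹ = z i) := by
      intro S
      induction S using Finset.induction_on with
      | empty => exact ⟨1, one_mem _, fun i => ⟨fun h => absurd h (Finset.notMem_empty i), fun _ => by group⟩⟩
      | insert j S hj ihS =>
        obtain ⟨c, hc, hcS⟩ := ihS
        refine ⟨c * a j, mul_mem hc (haA j), fun i => ?_⟩
        have h0 : c * a j * z i * (c * a j)⁻¹ = c * (a j * z i * (a j)⁻¹) * c⁻¹ := by group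
        constructor
        · intro h
          rw [h0]
          rcases Finset.mem_insert.mp h with h | h
          · subst h
            rw [hinv i]
            have h1 := (hcS i).2 hj
            calc c * (z i)⁻¹ * c⁻¹ = (c * z i * c⁻¹)⁻¹ := by group
              _ = _ := by rw [h1]
          · have hij : j ≠ i := fun h' => hj (h' ▸ h)
            rw [hcom j i hij]
            exact (hcS i).1 h
        · intro h
          rw [Finset.mem_insert, not_or] at h
          rw [h0, hcom j i (fun h' => h.1 h'.symm)]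
          exact (hcS i).2 h.2
    obtain ⟨c, hc, hcS⟩ := hsub (Finset.univ.filter (fun i => b * z i * b⁻¹ = (z i)⁻¹))
    have hcy := (hmemA' c hc.1).mp hc
    set b' := c * b with hb'
    have hb'A : b' ∈ A := mul_mem hc.1 hbA
    have hb'y : b' * y * b'⁻¹ = y⁻¹ := by
      calc b' * y * b'⁻¹ = c * (b * y * b⁻¹) * c⁻¹ := by rw [hb']; group
        _ = (c * y * c⁻¹)⁻¹ := by rw [hby']; group
        _ = _ := by rw [hcy]
    have hb'z : ∀ i, b' * z i * b'⁻¹ = z i := by
      intro i
      have h0 : b' * z i * b'⁻¹ = c * (b * z i * b⁻¹) * c⁻¹ := by rw [hb']; group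
      rw [h0]
      rcases hE b hbA (z i) (hzE i) with h | h
      · rw [h]
        by_cases hi : b * z i * b⁻¹ = (z i)⁻¹
        · exfalso
          rw [h] at hi
          exact hz1 i (hodd _ (hzE i) hi)
        · exact (hcS i).2 (by simpa using hi)
      · rw [h]
        have h1 := (hcS i).1 (by simpa using h)
        calc c * (z i)⁻¹ * c⁻¹ = (c * z i * c⁻¹)⁻¹ := by group
          _ = z i := by rw [h1, inv_inv]
    have hy1 : y ≠ 1 := by
      rintro rfl
      exact hby (by group)
    refine ⟨Fin.cons b' a, Fin.cons y z, ?_, ?_, ?_, ?_, ?_, ?_⟩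
    · intro i
      refine Fin.cases ?_ (fun i => ?_) i
      · exact hb'A
      · exact (haA i).1
    · intro i
      refine Fin.cases ?_ (fun i => ?_) i
      · exact hyE
      · exact hzE i
    · intro i
      refine Fin.cases ?_ (fun i => ?_) i
      · exact hy1
      · exact hz1 i
    · intro i
      refine Fin.cases ?_ (fun i => ?_) i
      · exact hb'y
      · exact hinv i
    · intro i j
      refine Fin.cases ?_ (fun i => ?_) i
      · refine Fin.cases ?_ (fun j => ?_) j
        · intro h; exact absurd rfl h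
        · intro _; exact hb'z j
      · refine Fin.cases ?_ (fun j => ?_) j
        · intro _
          exact (hmemA' _ (haA i).1).mp (haA i)
        · intro h
          exact hcom i j (fun h' => h (by rw [h']))
    · intro x hx
      have hle : A' ≤ ⨆ i, zpowers ((Fin.cons b' a : Fin (d + 1) → G) i) := by
        refine hgen.trans (iSup_le fun i => ?_)
        exact le_iSup (fun i => zpowers ((Fin.cons b' a : Fin (d + 1) → G) i)) i.succ
      have hb'm : b' ∈ ⨆ i, zpowers ((Fin.cons b' a : Fin (d + 1) → G) i) :=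
        (le_iSup (fun i => zpowers ((Fin.cons b' a : Fin (d + 1) → G) i)) 0) (mem_zpowers b')
      by_cases h : x ∈ A'
      · exact hle h
      · have h1 : x * b' ∈ A' := by
          have h2 : x * b' = c * (x * b) := by
            rw [hb', ← mul_assoc, hAc x hx c hc.1, mul_assoc]
          rw [h2]
          exact mul_mem hc (hbb x hx h)
        have h2 := mul_mem (hle h1) (inv_mem hb'm)
        rwa [mul_inv_cancel_right] at h2

end Cfsg.Agent.H11.ThD
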