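import Cfsg.Agent.H11_TitsA

set_option autoImplicit false
set_option maxRecDepth 100000

namespace Cfsg.Agent.H11.Tits

open Cfsg Cfsg.Lie Cfsg.Agent.H11.KMat Cfsg.Agent.H6.Chev

theorem word2 (a b : ℕ) (s t : ZMod 2) : modelF4.word [(a, s), (b, t)] = modelF4.X a s * modelF4.X b t := by
  rw [Model.word_cons, Model.word_cons, Model.word_nil, mul_one]

theorem word4 (a b c d : ℕ) (s t u v : ZMod 2) : modelF4.word [(a, s), (b, t), (c, u), (d, v)] =
    modelF4.X a s * (modelF4.X b t * (modelF4.X c u * modelF4.X d v)) := by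
  rw [Model.word_cons, Model.word_cons, Model.word_cons, Model.word_cons, Model.word_nil, mul_one]

theorem pw_one (a b : ℕ) : modelF4.word (f4PairWord 1 a b (1 : ZMod 2)) = modelF4.X a 1 * modelF4.X b 1 := by
  unfold f4PairWord
  rw [word2, one_pow]

theorem pw_zero (a b : ℕ) : modelF4.word (f4PairWord 1 a b (0 : ZMod 2)) = 1 := by
  unfold f4PairWord
  rw [word2, pow_one, Model.X_zero, Model.X_zero, mul_one]

theorem bw_00 (a b c d : ℕ) : modelF4.word (b2ClassWord 1 a b c d (0 : ZMod 2) 0) = 1 := by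
  unfold b2ClassWord
  rw [word4, pow_one, zero_pow (by norm_num), add_zero, Model.X_zero, Model.X_zero, Model.X_zero, Model.X_zero, mul_one, mul_one, mul_one]

theorem bw_10 (a b c d : ℕ) : modelF4.word (b2ClassWord 1 a b c d (1 : ZMod 2) 0) =
    modelF4.X a 1 * (modelF4.X b 1 * modelF4.X c 1) := by
  unfold b2ClassWord
  rw [word4, one_pow, one_pow, zero_pow (by norm_num), add_zero, Model.X_zero, mul_one]

theorem bw_01 (a b c d : ℕ) : modelF4.word (b2ClassWord 1 a b c d (0 : ZMod 2) 1) =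
    modelF4.X c 1 * modelF4.X d 1 := by
  unfold b2ClassWord
  rw [word4, pow_one, zero_pow (by norm_num), one_pow, zero_add, Model.X_zero, Model.X_zero, one_mul, one_mul]

theorem bw_11 (a b c d : ℕ) : modelF4.word (b2ClassWord 1 a b c d (1 : ZMod 2) 1) =
    modelF4.X a 1 * (modelF4.X b 1 * modelF4.X d 1) := by
  unfold b2ClassWord
  have e : (1 + 1 : ZMod 2) = 0 := by decide
  rw [word4, one_pow, one_pow, e, Model.X_zero, one_mul]

abbrev G0 : Subgroup (GL chevF4.Idx (ZMod 2)) := twistedF4 (ZMod 2) 1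

noncomputable def gu : ↥G0 := ⟨modelF4.word (f4PairWord 1 f4p1 f4p4 1), f4_word_G (Or.inl ⟨1, Or.inl rfl⟩)⟩
noncomputable def gum : ↥G0 := ⟨modelF4.word (f4PairWord 1 f4m1 f4m4 1), f4_word_G (Or.inl ⟨1, Or.inr rfl⟩)⟩
noncomputable def gy : ↥G0 := ⟨modelF4.word (b2ClassWord 1 f4a f4b f4ab f4aab 1 0),
  f4_word_G (Or.inr ⟨1, 0, Or.inl rfl⟩)⟩
noncomputable def gym : ↥G0 := ⟨modelF4.word (b2ClassWord 1 f4ma f4mb f4mab f4maab 1 0),
  f4_word_G (Or.inr ⟨1, 0, Or.inr rfl⟩)⟩

theorem gu_eq : (gu : GL chevF4.Idx (ZMod 2)) = modelF4.X 33 1 * modelF4.X 24 1 := pw_one 33 24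
theorem gum_eq : (gum : GL chevF4.Idx (ZMod 2)) = modelF4.X 14 1 * modelF4.X 23 1 := pw_one 14 23
theorem gy_eq : (gy : GL chevF4.Idx (ZMod 2)) = modelF4.X 27 1 * (modelF4.X 25 1 * modelF4.X 28 1) := bw_10 27 25 28 30
theorem gym_eq : (gym : GL chevF4.Idx (ZMod 2)) = modelF4.X 20 1 * (modelF4.X 22 1 * modelF4.X 19 1) :=
  bw_10 20 22 19 17

noncomputable def iota : ↥G0 →* M52ˣ := phi.toMonoidHom.comp G0.subtype

theorem iota_apply (g : ↥G0) : iota g = phi (g : GL chevF4.Idx (ZMod 2)) := rfl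

theorem iota_inj : Function.Injective iota := fun x y h => Subtype.ext (phi.injective h)

theorem ecu : mul P x33 x24 = cu := by decide +kernel
theorem ecum : mul P x14 x23 = cum := by decide +kernel
theorem ecy : mul P x27 (mul P x25 x28) = cy := by decide +kernel
theorem ecym : mul P x20 (mul P x22 x19) = cym := by decide +kernel

theorem rep_gu : Rep P (iota gu) cu := by
  rw [iota_apply, gu_eq, map_mul, ← ecu]
  exact rx33.mul ok rx24

theorem rep_gum : Rep P (iota gum) cum := by
  rw [iota_apply, gum_eq, map_mul, ← ecum]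
  exact rx14.mul ok rx23

theorem rep_gy : Rep P (iota gy) cy := by
  rw [iota_apply, gy_eq, map_mul, map_mul, ← ecy]
  exact rx27.mul ok (rx25.mul ok rx28)

theorem rep_gym : Rep P (iota gym) cym := by
  rw [iota_apply, gym_eq, map_mul, map_mul, ← ecym]
  exact rx20.mul ok (rx22.mul ok rx19)


/-- the generators -/
noncomputable def GG : List ↥G0 := [gu, gum, gy, gym]
noncomputable def GM : List M52ˣ := [iota gu, iota gum, iota gy, iota gym]
def gs : List ℕ := [cu, cum, cy, cym]

theorem rep_gs : ∀ i < gs.length, Rep P (GM.getD i 1) (gs.getD i 0) := by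
  intro i hi
  have hi' : i < 4 := hi
  interval_cases i
  · exact rep_gu
  · exact rep_gum
  · exact rep_gy
  · exact rep_gym

theorem wg_iota (l : List ℕ) : wg GM l = iota (wg GG l) := by
  induction l with
  | nil => exact (map_one iota).symm
  | cons i l ih =>
    rw [wg, wg, map_mul, ih]
    congr 1
    by_cases hi : i < 4
    · interval_cases i <;> rfl
    · rw [List.getD_eq_default, List.getD_eq_default, map_one]
      · show 4 ≤ i; omega
      · show 4 ≤ i; omega

theorem rep_w (l : List ℕ) (hl : ∀ i ∈ l, i < 4) : Rep P (iota (wg GG l)) (wc P gs l) := by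
  rw [← wg_iota]
  exact rep_wc ok (by norm_num) rep_gs l hl

/-- equality of two words in the generators -/
theorem w_eq {l l' : List ℕ} (hl : l.all (fun i => Nat.blt i 4) = true) (hl' : l'.all (fun i => Nat.blt i 4) = true)
    (h : wc P gs l = wc P gs l') : wg GG l = wg GG l' := by
  apply iota_inj
  have h1 := rep_w l (fun i hi => by have := List.all_eq_true.1 hl i hi; rwa [Nat.blt_eq] at this)
  have h2 := rep_w l' (fun i hi => by have := List.all_eq_true.1 hl' i hi; rwa [Nat.blt_eq] at this)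
  rw [h] at h1
  exact h1.ext ok h2

theorem zmod2 (t : ZMod 2) : t = 0 ∨ t = 1 := by
  revert t; decide

theorem e01 : mul P x28 x30 = mul P cy cy := by decide +kernel
theorem e11 : mul P x27 (mul P x25 x30) = mul P cy (mul P cy cy) := by decide +kernel
theorem em01 : mul P x19 x17 = mul P cym cym := by decide +kernel
theorem em11 : mul P x20 (mul P x22 x17) = mul P cym (mul P cym cym) := by decide +kernel

theorem y01 : modelF4.X 28 1 * modelF4.X 30 1 = ((gy * gy : ↥G0) : GL chevF4.Idx (ZMod 2)) := by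
  apply phi.injective
  rw [map_mul, Subgroup.coe_mul, map_mul]
  have h2 := rx28.mul ok rx30
  rw [e01] at h2
  exact h2.ext ok (rep_gy.mul ok rep_gy)

theorem y11 : modelF4.X 27 1 * (modelF4.X 25 1 * modelF4.X 30 1) =
    ((gy * (gy * gy) : ↥G0) : GL chevF4.Idx (ZMod 2)) := by
  apply phi.injective
  rw [map_mul, map_mul, Subgroup.coe_mul, Subgroup.coe_mul, map_mul, map_mul]
  have h2 := rx27.mul ok (rx25.mul ok rx30)
  rw [e11] at h2
  exact h2.ext ok (rep_gy.mul ok (rep_gy.mul ok rep_gy))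

theorem ym01 : modelF4.X 19 1 * modelF4.X 17 1 = ((gym * gym : ↥G0) : GL chevF4.Idx (ZMod 2)) := by
  apply phi.injective
  rw [map_mul, Subgroup.coe_mul, map_mul]
  have h2 := rx19.mul ok rx17
  rw [em01] at h2
  exact h2.ext ok (rep_gym.mul ok rep_gym)

theorem ym11 : modelF4.X 20 1 * (modelF4.X 22 1 * modelF4.X 17 1) =
    ((gym * (gym * gym) : ↥G0) : GL chevF4.Idx (ZMod 2)) := by
  apply phi.injective
  rw [map_mul, map_mul, Subgroup.coe_mul, Subgroup.coe_mul, map_mul, map_mul]
  have h2 := rx20.mul ok (rx22.mul ok rx17)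
  rw [em11] at h2
  exact h2.ext ok (rep_gym.mul ok (rep_gym.mul ok rep_gym))

theorem mem_closure_GG (g : ↥G0) : g ∈ Subgroup.closure {x | x ∈ GG} := by
  have key : ∀ x ∈ Subgroup.closure {g : GL chevF4.Idx (ZMod 2) | ∃ w ∈ f4Words (ZMod 2) 1,
      (g : Matrix chevF4.Idx chevF4.Idx (ZMod 2)) = chevF4.wordMat (ZMod 2) w},
      ∃ h ∈ Subgroup.closure {x | x ∈ GG}, (h : GL chevF4.Idx (ZMod 2)) = x := by
    intro x hx'
    have m1 : gu ∈ Subgroup.closure {x | x ∈ GG} := Subgroup.subset_closure (by simp [GG])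
    have m2 : gum ∈ Subgroup.closure {x | x ∈ GG} := Subgroup.subset_closure (by simp [GG])
    have m3 : gy ∈ Subgroup.closure {x | x ∈ GG} := Subgroup.subset_closure (by simp [GG])
    have m4 : gym ∈ Subgroup.closure {x | x ∈ GG} := Subgroup.subset_closure (by simp [GG])
    induction hx' using Subgroup.closure_induction with
    | mem g hg =>
      obtain ⟨w, hw, hgw⟩ := hg
      have hgw' : g = modelF4.word w := by
        apply Units.ext
        rw [hgw, Model.coe_word]
      rw [hgw']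
      rcases hw with ⟨t, rfl | rfl⟩ | ⟨t, u, rfl | rfl⟩
      · rcases zmod2 t with rfl | rfl
        · exact ⟨1, one_mem _, (pw_zero _ _).symm⟩
        · exact ⟨gu, m1, rfl⟩
      · rcases zmod2 t with rfl | rfl
        · exact ⟨1, one_mem _, (pw_zero _ _).symm⟩
        · exact ⟨gum, m2, rfl⟩
      · rcases zmod2 t with rfl | rfl
        · rcases zmod2 u with rfl | rfl
          · exact ⟨1, one_mem _, (bw_00 _ _ _ _).symm⟩
          · exact ⟨gy * gy, mul_mem m3 m3, y01.symm.trans (bw_01 27 25 28 30).symm⟩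
        · rcases zmod2 u with rfl | rfl
          · exact ⟨gy, m3, rfl⟩
          · exact ⟨gy * (gy * gy), mul_mem m3 (mul_mem m3 m3), y11.symm.trans (bw_11 27 25 28 30).symm⟩
      · rcases zmod2 t with rfl | rfl
        · rcases zmod2 u with rfl | rfl
          · exact ⟨1, one_mem _, (bw_00 _ _ _ _).symm⟩
          · exact ⟨gym * gym, mul_mem m4 m4, ym01.symm.trans (bw_01 20 22 19 17).symm⟩
        · rcases zmod2 u with rfl | rfl
          · exact ⟨gym, m4, rfl⟩
          · exact ⟨gym * (gym * gym), mul_mem m4 (mul_mem m4 m4), ym11.symm.trans (bw_11 20 22 19 17).symm⟩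
    | one => exact ⟨1, one_mem _, rfl⟩
    | mul a b ha hb iha ihb =>
      obtain ⟨a', ha', ea⟩ := iha
      obtain ⟨b', hb', eb⟩ := ihb
      exact ⟨a' * b', mul_mem ha' hb', by rw [Subgroup.coe_mul, ea, eb]⟩
    | inv a ha iha =>
      obtain ⟨a', ha', ea⟩ := iha
      exact ⟨a'⁻¹, inv_mem ha', by rw [Subgroup.coe_inv, ea]⟩
  obtain ⟨h, hh, e⟩ := key g g.2
  rwa [← Subtype.ext e]

theorem wg_append {G : Type*} [Group G] (Gs : List G) (l l' : List ℕ) : wg Gs (l ++ l') = wg Gs l * wg Gs l' := by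
  induction l with
  | nil => simp [wg]
  | cons i l ih => rw [List.cons_append, wg, wg, ih, mul_assoc]

theorem wg_pow {G : Type*} [Group G] (Gs : List G) (l : List ℕ) (k : ℕ) :
    wg Gs (List.replicate k l).flatten = wg Gs l ^ k := by
  induction k with
  | zero => simp [wg]
  | succ k ih => rw [List.replicate_succ, List.flatten_cons, wg_append, ih, pow_succ']

theorem w_pow {l : List ℕ} {k : ℕ} (hl : (List.replicate k l).flatten.all (fun i => Nat.blt i 4) = true)
    (h : wc P gs (List.replicate k l).flatten = wc P gs []) : wg GG l ^ k = 1 := by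
  rw [← wg_pow]
  exact w_eq hl rfl h

theorem wg_cons {G : Type*} [Group G] (Gs : List G) (i : ℕ) (l : List ℕ) : wg Gs (i :: l) = Gs.getD i 1 * wg Gs l := rfl

theorem GG0 : GG.getD 0 1 = gu := rfl
theorem GG1 : GG.getD 1 1 = gum := rfl
theorem GG2 : GG.getD 2 1 = gy := rfl
theorem GG3 : GG.getD 3 1 = gym := rfl

theorem p1 : wg GG [0] ^ 2 = 1 := w_pow (by decide +kernel) (by decide +kernel)
theorem p2 : wg GG [1] ^ 2 = 1 := w_pow (by decide +kernel) (by decide +kernel)
theorem p3 : wg GG [2] ^ 4 = 1 := w_pow (by decide +kernel) (by decide +kernel)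
theorem p4 : wg GG [3] ^ 4 = 1 := w_pow (by decide +kernel) (by decide +kernel)
theorem p5 : wg GG [0, 1] ^ 3 = 1 := w_pow (by decide +kernel) (by decide +kernel)
theorem p6 : wg GG [2, 3, 3, 3] ^ 5 = 1 := w_pow (by decide +kernel) (by decide +kernel)
theorem p7 : wg GG [2, 3, 1, 0, 2, 2, 1] ^ 13 = 1 := w_pow (by decide +kernel) (by decide +kernel)
theorem p8 : wg GG [0, 3, 3, 1, 2, 2, 3, 3, 0, 1] ^ 13 = 1 := w_pow (by decide +kernel) (by decide +kernel)

/-- the images of the generators in an abelian group -/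
theorem comm_rel {A : Type*} [CommGroup A] (f : ↥G0 →* A) :
    f gu = 1 ∧ f gum = 1 ∧ f gym = f gy ∧ f gy ^ 2 = 1 := by
  have q1 := congrArg f p1
  have q2 := congrArg f p2
  have q3 := congrArg f p3
  have q4 := congrArg f p4
  have q5 := congrArg f p5
  have q6 := congrArg f p6
  have q7 := congrArg f p7
  have q8 := congrArg f p8
  simp only [wg_cons, wg, GG0, GG1, GG2, GG3, map_pow, map_mul, map_one, mul_one] at q1 q2 q3 q4 q5 q6 q7 q8
  generalize f gu = a at *
  generalize f gum = b at *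
  generalize f gy = c at *
  generalize f gym = d at *
  have h1 : b = a := by
    have e : (a * b) ^ 3 = a * b * ((a ^ 2) * (b ^ 2)) := by rw [pow_succ, mul_comm, mul_pow]
    rw [q5, q1, q2, mul_one, mul_one] at e
    have h2 : a * a = 1 := by rw [← sq, q1]
    rw [← mul_left_cancel_iff (a := a), ← e, h2]
  subst h1
  have h2 : d = c := by
    have e : (c * (d * (d * d))) ^ 5 = c * (c ^ 4) * ((d ^ 4) ^ 3 * d ^ 3) := by
      have : d * (d * d) = d ^ 3 := by rw [pow_succ, sq, mul_assoc]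
      rw [this, mul_pow, ← pow_mul, ← pow_mul, ← pow_add, ← pow_succ']
    rw [q6, q3, q4, mul_one, one_pow, one_mul] at e
    have e2 : d ^ 3 * d = 1 := by rw [← pow_succ, q4]
    have e3 : c * d ^ 3 * d = d := by rw [← e, one_mul]
    rw [mul_assoc, e2, mul_one] at e3
    exact e3.symm
  subst h2
  have e7 : d * (d * (b * (b * (d * (d * b))))) = b := by
    have : d * (d * (b * (b * (d * (d * b))))) = (d ^ 4) * (b ^ 2) * b := by
      simp only [pow_succ, pow_zero, one_mul]; ac_rfl
    rw [this, q3, q1, one_mul, one_mul]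
  rw [e7] at q7
  have h3 : b = 1 := by
    have : b ^ 13 = (b ^ 2) ^ 6 * b := by rw [← pow_mul, ← pow_succ]
    rw [q7, q1, one_pow, one_mul] at this
    exact this.symm
  subst h3
  refine ⟨rfl, rfl, rfl, ?_⟩
  have e8 : (1 : A) * (d * (d * (1 * (d * (d * (d * (d * (1 * 1)))))))) = d ^ 2 := by
    have : (1 : A) * (d * (d * (1 * (d * (d * (d * (d * (1 * 1)))))))) = (d ^ 4) * d ^ 2 := by
      simp only [pow_succ, pow_zero, one_mul, mul_one]; ac_rfl
    rw [this, q3, one_mul]
  rw [e8] at q8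
  have : (d ^ 2) ^ 13 = (d ^ 4) ^ 6 * d ^ 2 := by rw [← pow_mul, ← pow_mul, ← pow_add]
  rw [q8, q3, one_pow, one_mul] at this
  exact this.symm

end Cfsg.Agent.H11.Tits
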