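import Cfsg.Agent.H11_TitsB

set_option autoImplicit false
set_option maxRecDepth 100000

/-!
The group `²F₄(2)`: a homomorphism onto the group of order two, from the action on `1755` vectors and a section of a
double cover of this set.
-/

namespace Cfsg.Agent.H11.Tits

open Cfsg Cfsg.Lie Cfsg.Agent.H11.KMat Cfsg.Agent.H6.Chev

open Classical in
/-- indicator of the failure of a proposition -/
noncomputable def ind (p : Prop) : ZMod 2 := if p then 0 else 1

theorem ind_pos {p : Prop} (h : p) : ind p = 0 := by unfold ind; rw [if_pos h]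
theorem ind_neg {p : Prop} (h : ¬ p) : ind p = 1 := by unfold ind; rw [if_neg h]

/-- homomorphism from the section of a double cover -/
theorem exists_flip_hom {G V : Type*} [Group G] [AddCommGroup V] (h2 : ∀ v : V, v + v = 0) (ρ : G → V →+ V)
    (hρ : ∀ g h v, ρ (g * h) v = ρ h (ρ g v)) (hone : ∀ v, ρ 1 v = v) (O : Finset V) (h0 : (0 : V) ∉ O) (S : V → V)
    (hO : ∀ g, ∀ v ∈ O, ρ g v ∈ O ∧ (ρ g (S v) = S (ρ g v) ∨ ρ g (S v) = S (ρ g v) + ρ g v)) :
    ∃ ε : G →* Multiplicative (ZMod 2), ∀ g, ε g = Multiplicative.ofAdd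
      (∑ v ∈ O, ind (ρ g (S v) = S (ρ g v))) := by
  have hinj : ∀ g, Function.Injective (ρ g) := fun g x y h => by
    have h1 := congrArg (ρ g⁻¹) h
    rwa [← hρ, ← hρ, mul_inv_cancel, hone, hone] at h1
  have key : ∀ g h, ∀ v ∈ O, ind (ρ (g * h) (S v) = S (ρ (g * h) v)) =
      ind (ρ g (S v) = S (ρ g v)) +
      ind (ρ h (S (ρ g v)) = S (ρ h (ρ g v))) := by
    intro g h v hv
    obtain ⟨h1, h3⟩ := hO g v hv
    obtain ⟨h4, h5⟩ := hO h _ h1
    have hne : ρ h (ρ g v) ≠ 0 := fun e => h0 (by rw [← e]; exact h4)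
    have hne' : ρ g v ≠ 0 := fun e => h0 (by rw [← e]; exact h1)
    have e11 : (1 + 1 : ZMod 2) = 0 := by decide
    rw [hρ, hρ]
    rcases h3 with h3 | h3
    · rw [h3, ind_pos rfl, zero_add]
    · rw [ind_neg (show ¬ ρ g (S v) = S (ρ g v) from fun e => hne' (by
        rw [e] at h3; exact (left_eq_add.1 h3))), h3, map_add]
      rcases h5 with h5 | h5
      · rw [h5, ind_pos rfl, ind_neg (show ¬ S (ρ h (ρ g v)) + ρ h (ρ g v) = S (ρ h (ρ g v)) from
          fun e => hne (by rwa [add_eq_left] at e)), add_zero]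
      · rw [h5, ind_neg (show ¬ S (ρ h (ρ g v)) + ρ h (ρ g v) = S (ρ h (ρ g v)) from
          fun e => hne (by rwa [add_eq_left] at e)), add_assoc, h2, add_zero, ind_pos rfl, e11]
  refine ⟨MonoidHom.mk' (fun g => Multiplicative.ofAdd
      (∑ v ∈ O, ind (ρ g (S v) = S (ρ g v)))) ?_, fun g => rfl⟩
  intro g h
  rw [← ofAdd_add, Finset.sum_congr rfl (key g h), Finset.sum_add_distrib]
  congr 2
  exact Finset.sum_bij (fun v _ => ρ g v) (fun v hv => (hO g v hv).1) (fun _ _ _ _ e => hinj g e)
    (fun w hw => ⟨ρ g⁻¹ w, (hO g⁻¹ w hw).1, by rw [← hρ, inv_mul_cancel, hone]⟩) (fun _ _ => rfl)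

/-- the row vector with the code `x` -/
def rv (x : ℕ) : Fin 52 → ZMod 2 := fun j => ((dig 6 x j.val : ℕ) : ZMod 2)

/-- the code of a row vector -/
def cv (v : Fin 52 → ZMod 2) : ℕ := E 6 52 (fun j => if h : j < 52 then (v ⟨j, h⟩).val else 0)

theorem val_lt_two (x : ZMod 2) : x.val < 2 := ZMod.val_lt x

theorem rv_cv (v : Fin 52 → ZMod 2) : rv (cv v) = v := by
  funext j
  unfold rv cv
  rw [dig_E (by norm_num) _ j.2, dif_pos j.2]
  · simp
  · intro p hp
    rw [dif_pos hp]
    have := val_lt_two (v ⟨p, hp⟩)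
    omega

/-- the code of a row vector is reduced -/
def Red (x : ℕ) : Prop := x < 2 ^ (6 * 52) ∧ ∀ p < 52, dig 6 x p < 2

theorem cv_rv {x : ℕ} (h : Red x) : cv (rv x) = x := by
  unfold cv rv
  conv_rhs => rw [← E_dig (by norm_num : 0 < 6) 52 x h.1]
  apply E_congr
  intro p hp
  rw [dif_pos hp]
  show (((dig 6 x p : ℕ) : ZMod 2)).val = _
  rw [ZMod.val_natCast, Nat.mod_eq_of_lt (h.2 p hp)]

def row (x i : ℕ) : ℕ := (x >>> (312 * i)) % 2 ^ 312

theorem row_eq (x i : ℕ) : row x i = E 6 52 (fun j => dig 6 x (52 * i + j)) := row_E (w := 6) (by norm_num) 52 x i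

theorem red_row {x : ℕ} (hx : valid P x = true) (i : ℕ) : Red (row x i) := by
  have h1 : ∀ j, dig 6 x (52 * i + j) < 2 := fun j => (valid_spec ok hx).2 _
  rw [row_eq]
  constructor
  · exact E_lt _ _ (fun p _ => lt_of_lt_of_le (h1 p) (by norm_num))
  · intro p hp
    rw [dig_E (by norm_num) (fun p _ => lt_of_lt_of_le (h1 p) (by norm_num)) hp]
    exact h1 p

theorem rv_row {x : ℕ} (hx : valid P x = true) (i : Fin 52) : rv (row x i.val) = mat 6 52 2 x i := by
  have h1 : ∀ j, dig 6 x (52 * i.val + j) < 2 := fun j => (valid_spec ok hx).2 _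
  funext j
  unfold rv mat
  rw [row_eq, dig_E (by norm_num) (fun p _ => lt_of_lt_of_le (h1 p) (by norm_num)) j.2]

theorem rv_row_mul {x y : ℕ} (hx : valid P x = true) (hy : valid P y = true) {i : ℕ} (hi : i < 52) :
    rv (row (mul P x y) i) = Matrix.vecMul (rv (row x i)) (mat 6 52 2 y) := by
  rw [rv_row (valid_mul ok hx hy) ⟨i, hi⟩, rv_row hx ⟨i, hi⟩, mat_mul ok hx hy]
  funext j
  rw [Matrix.mul_apply_eq_vecMul]

theorem dig_xor (w a b p : ℕ) : dig w (Nat.xor a b) p = Nat.xor (dig w a p) (dig w b p) := by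
  apply Nat.eq_of_testBit_eq
  intro i
  have h1 : ∀ u v : ℕ, (Nat.xor u v).testBit i = Bool.xor (u.testBit i) (v.testBit i) := fun u v => Nat.testBit_xor _ _ _
  rw [h1, testBit_dig, testBit_dig, testBit_dig]
  have h2 : ∀ k u v : ℕ, (Nat.xor u v).testBit k = Bool.xor (u.testBit k) (v.testBit k) := fun k u v => Nat.testBit_xor _ _ _
  rw [h2]
  cases decide (i < w) <;> simp

theorem rv_xor {a b : ℕ} (ha : Red a) (hb : Red b) : rv (Nat.xor a b) = rv a + rv b := by
  funext j
  show ((dig 6 (Nat.xor a b) j.val : ℕ) : ZMod 2) = ((dig 6 a j.val : ℕ) : ZMod 2) + ((dig 6 b j.val : ℕ) : ZMod 2)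
  rw [dig_xor]
  have h1 := ha.2 j.val j.2
  have h2 := hb.2 j.val j.2
  generalize dig 6 a j.val = x at *
  generalize dig 6 b j.val = y at *
  interval_cases x <;> interval_cases y <;> rfl

/-- search trees with values -/
inductive T2 : Type
  | leaf : T2
  | node : T2 → ℕ → ℕ → T2 → T2

def T2.find (x : ℕ) : T2 → ℕ
  | .leaf => 0
  | .node l f s r => bif Nat.beq x f then s else bif Nat.ble x f then l.find x else r.find x

def T2.toList : T2 → List (ℕ × ℕ)
  | .leaf => []
  | .node l f s r => l.toList ++ (f, s) :: r.toList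

theorem T2.find_mem {x : ℕ} {t : T2} (h : t.find x ≠ 0) : (x, t.find x) ∈ t.toList := by
  induction t with
  | leaf => exact absurd rfl h
  | node l f s r ihl ihr =>
    rw [T2.find] at h ⊢
    rw [T2.toList, List.mem_append, List.mem_cons]
    by_cases h1 : Nat.beq x f = true
    · rw [h1, cond_true]
      exact Or.inr (Or.inl (by rw [Nat.eq_of_beq_eq_true h1]))
    · simp only [h1, cond_false] at h ⊢
      by_cases h2 : Nat.ble x f = true
      · rw [h2, cond_true] at h ⊢
        exact Or.inl (ihl h)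
      · simp only [h2, cond_false] at h ⊢
        exact Or.inr (Or.inr (ihr h))

def pack (sel : ℕ × ℕ → ℕ) : List (ℕ × ℕ) → ℕ
  | [] => 0
  | (p :: l) => sel p + 2 ^ 312 * pack sel l

def stepb (t f' s' : ℕ) : ℕ :=
  bif Nat.beq t 0 then 10000 else bif Nat.beq t s' then 0 else bif Nat.beq (Nat.xor t f') s' then 1 else 10000

def step (T : T2) (p : ℕ × ℕ) (f s f' s' : ℕ) : ℕ :=
  bif Nat.beq f p.1 && Nat.beq s p.2 then stepb (T.find f') f' s' else 10000

def go (T : T2) (A B A' B' : ℕ) : ℕ → List (ℕ × ℕ) → ℕ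
  | _, [] => 0
  | i, (p :: l) => step T p (row A i) (row B i) (row A' i) (row B' i) + go T A B A' B' (i + 1) l

def chk1 (T : T2) (c : ℕ) (l : List (ℕ × ℕ)) : ℕ :=
  bif valid P (pack Prod.fst l) && valid P (pack Prod.snd l) then
    go T (pack Prod.fst l) (pack Prod.snd l) (mul P (pack Prod.fst l) c) (mul P (pack Prod.snd l) c) 0 l else 10000

def chunks : ℕ → List (ℕ × ℕ) → List (List (ℕ × ℕ))
  | 0, _ => []
  | (k + 1), l => l.take 52 :: chunks k (l.drop 52)

def total (T : T2) (c : ℕ) : List (List (ℕ × ℕ)) → ℕ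
  | [] => 0
  | (l :: ls) => chk1 T c l + total T c ls

/-- the section -/
def SS (T : T2) (v : Fin 52 → ZMod 2) : Fin 52 → ZMod 2 := rv (T.find (cv v))

/-- what is checked for one pair -/
structure PG (T : T2) (A : M52) (p : ℕ × ℕ) (n : ℕ) : Prop where
  red1 : Red p.1
  red2 : Red p.2
  mem : ∃ q ∈ T.toList, rv q.1 = Matrix.vecMul (rv p.1) A
  nz : T.find (cv (Matrix.vecMul (rv p.1) A)) ≠ 0
  alt : (n = 0 ∧ Matrix.vecMul (rv p.2) A = SS T (Matrix.vecMul (rv p.1) A)) ∨
    (n = 1 ∧ (Red (T.find (cv (Matrix.vecMul (rv p.1) A))) → Matrix.vecMul (rv p.2) A =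
      SS T (Matrix.vecMul (rv p.1) A) + Matrix.vecMul (rv p.1) A))

theorem step_spec {T : T2} {c A B i : ℕ} {p : ℕ × ℕ} (hi : i < 52) (hc : valid P c = true) (hA : valid P A = true)
    (hB : valid P B = true) (h : step T p (row A i) (row B i) (row (mul P A c) i) (row (mul P B c) i) < 10000) :
    PG T (mat 6 52 2 c) p (step T p (row A i) (row B i) (row (mul P A c) i) (row (mul P B c) i)) := by
  have e1 := rv_row_mul hA hc hi
  have e2 := rv_row_mul hB hc hi
  have r1 := red_row hA i
  have r2 := red_row hB i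
  have r3 := red_row (valid_mul ok hA hc) i
  have r4 := red_row (valid_mul ok hB hc) i
  generalize row A i = f at *
  generalize row B i = s at *
  generalize row (mul P A c) i = f' at *
  generalize row (mul P B c) i = s' at *
  have hcv : cv (Matrix.vecMul (rv f) (mat 6 52 2 c)) = f' := by rw [← e1, cv_rv r3]
  unfold step at h ⊢
  by_cases h1 : (Nat.beq f p.1 && Nat.beq s p.2) = true
  · rw [h1, cond_true] at h ⊢
    rw [Bool.and_eq_true, Nat.beq_eq, Nat.beq_eq] at h1
    obtain ⟨ef, es⟩ := h1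
    subst ef es
    unfold stepb at h ⊢
    by_cases h3 : Nat.beq (T.find f') 0 = true
    · rw [h3, cond_true] at h; exact absurd h (by norm_num)
    · simp only [h3, cond_false] at h ⊢
      have h3' : T.find f' ≠ 0 := fun e => h3 (by rw [e]; rfl)
      refine ⟨r1, r2, ⟨_, T2.find_mem h3', e1⟩, by rw [hcv]; exact h3', ?_⟩
      by_cases h4 : Nat.beq (T.find f') s' = true
      · left
        rw [h4, cond_true]
        refine ⟨rfl, ?_⟩
        unfold SS
        rw [hcv, ← e2, Nat.eq_of_beq_eq_true h4]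
      · simp only [h4, cond_false] at h ⊢
        by_cases h5 : Nat.beq (Nat.xor (T.find f') f') s' = true
        · right
          rw [h5, cond_true]
          refine ⟨rfl, fun hr => ?_⟩
          unfold SS
          rw [hcv] at hr ⊢
          rw [← e2, ← e1, ← rv_xor hr r3, Nat.eq_of_beq_eq_true h5]
        · simp only [h5, cond_false] at h
          exact absurd h (by norm_num)
  · simp only [h1, cond_false] at h
    exact absurd h (by norm_num)

/-- the values for a list of pairs -/
inductive PL (T : T2) (A : M52) : List (ℕ × ℕ) → ℕ → Prop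
  | nil : PL T A [] 0
  | cons {p : ℕ × ℕ} {n m : ℕ} {l : List (ℕ × ℕ)} : PG T A p n → PL T A l m → PL T A (p :: l) (n + m)

theorem PL.append {T : T2} {A : M52} {l l' : List (ℕ × ℕ)} {n m : ℕ} (h : PL T A l n) (h' : PL T A l' m) :
    PL T A (l ++ l') (n + m) := by
  induction h with
  | nil => rw [List.nil_append, zero_add]; exact h'
  | cons h1 h2 ih => rw [List.cons_append, add_assoc]; exact PL.cons h1 ih

theorem PL.all {T : T2} {A : M52} {l : List (ℕ × ℕ)} {n : ℕ} (h : PL T A l n) : ∀ p ∈ l, ∃ k, PG T A p k := by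
  induction h with
  | nil => intro p hp; simp at hp
  | cons h1 h2 ih =>
    intro p hp
    rcases List.mem_cons.1 hp with rfl | hp
    · exact ⟨_, h1⟩
    · exact ih p hp

theorem go_spec {T : T2} {c A B : ℕ} (hc : valid P c = true) (hA : valid P A = true) (hB : valid P B = true)
    (l : List (ℕ × ℕ)) (i : ℕ) (hi : i + l.length ≤ 52)
    (h : go T A B (mul P A c) (mul P B c) i l < 10000) :
    PL T (mat 6 52 2 c) l (go T A B (mul P A c) (mul P B c) i l) := by
  induction l generalizing i with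
  | nil => exact PL.nil
  | cons p l ih =>
    rw [List.length_cons] at hi
    rw [go] at h ⊢
    exact PL.cons (step_spec (by omega) hc hA hB (by omega)) (ih (i + 1) (by omega) (by omega))

theorem chk1_spec {T : T2} {c : ℕ} (hc : valid P c = true) {l : List (ℕ × ℕ)} (hl : l.length ≤ 52)
    (h : chk1 T c l < 10000) : PL T (mat 6 52 2 c) l (chk1 T c l) := by
  unfold chk1 at h ⊢
  by_cases h1 : (valid P (pack Prod.fst l) && valid P (pack Prod.snd l)) = true
  · rw [h1, cond_true] at h ⊢
    rw [Bool.and_eq_true] at h1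
    exact go_spec hc h1.1 h1.2 l 0 (by omega) h
  · simp only [h1, cond_false] at h
    exact absurd h (by norm_num)

theorem total_spec {T : T2} {c : ℕ} (hc : valid P c = true) (k : ℕ) (l : List (ℕ × ℕ)) (hl : l.length ≤ 52 * k)
    (h : total T c (chunks k l) < 10000) : PL T (mat 6 52 2 c) l (total T c (chunks k l)) := by
  induction k generalizing l with
  | zero =>
    have : l = [] := List.eq_nil_of_length_eq_zero (by omega)
    subst this
    exact PL.nil
  | succ k ih =>
    rw [chunks, total] at h ⊢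
    have h1 : (l.drop 52).length ≤ 52 * k := by rw [List.length_drop]; omega
    have h2 := PL.append (chk1_spec hc (List.length_take_le 52 l) (by omega)) (ih _ h1 (by omega))
    rwa [List.take_append_drop] at h2



end Cfsg.Agent.H11.Tits
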