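import Cfsg.Agent.H11_TitsC

set_option autoImplicit false
set_option maxRecDepth 100000

/-!
The group `²F₄(2)`: a homomorphism onto the group of order two, from the action on `1755` vectors.
-/

namespace Cfsg.Agent.H11.Tits

open Cfsg Cfsg.Lie Cfsg.Agent.H11.KMat Cfsg.Agent.H6.Chev

/-- the checks on the tree -/
structure Good (T : T2) : Prop where
  okl : ∀ p ∈ T.toList, T.find p.1 = p.2
  nd : (T.toList.map Prod.fst).Nodup
  zero : T.find 0 = 0
  PLu : PL T (mat 6 52 2 cu) T.toList 324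
  PLum : PL T (mat 6 52 2 cum) T.toList 264
  PLy : PL T (mat 6 52 2 cy) T.toList 351
  PLym : PL T (mat 6 52 2 cym) T.toList 309

def okList (T : T2) : List (ℕ × ℕ) → Bool
  | [] => true
  | (p :: l) => Nat.beq (T.find p.1) p.2 && okList T l

theorem okList_spec {T : T2} {l : List (ℕ × ℕ)} (h : okList T l = true) : ∀ p ∈ l, T.find p.1 = p.2 := by
  induction l with
  | nil => intro p hp; simp at hp
  | cons q l ih =>
    rw [okList, Bool.and_eq_true, Nat.beq_eq] at h
    intro p hp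
    rcases List.mem_cons.1 hp with rfl | hp
    · exact h.1
    · exact ih h.2 p hp

theorem valid_cu : valid P cu = true := by decide +kernel
theorem valid_cum : valid P cum = true := by decide +kernel
theorem valid_cy : valid P cy = true := by decide +kernel
theorem valid_cym : valid P cym = true := by decide +kernel

theorem Good.mk' {T : T2} (okT : okList T T.toList = true) (sortedT : sortedB (T.toList.map Prod.fst) = true)
    (lenT : T.toList.length ≤ 52 * 34) (zeroT : T.find 0 = 0)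
    (tot_u : total T cu (chunks 34 T.toList) = 324)
    (tot_um : total T cum (chunks 34 T.toList) = 264)
    (tot_y : total T cy (chunks 34 T.toList) = 351)
    (tot_ym : total T cym (chunks 34 T.toList) = 309) : Good T where
  okl := okList_spec okT
  nd := (sortedB_spec sortedT).imp (fun h => h.ne)
  zero := zeroT
  PLu := by
    have := total_spec valid_cu 34 T.toList lenT (by rw [tot_u]; norm_num)
    rwa [tot_u] at this
  PLum := by
    have := total_spec valid_cum 34 T.toList lenT (by rw [tot_um]; norm_num)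
    rwa [tot_um] at this
  PLy := by
    have := total_spec valid_cy 34 T.toList lenT (by rw [tot_y]; norm_num)
    rwa [tot_y] at this
  PLym := by
    have := total_spec valid_cym 34 T.toList lenT (by rw [tot_ym]; norm_num)
    rwa [tot_ym] at this

variable {T : T2} (hT : Good T)

include hT

theorem Good.red {p : ℕ × ℕ} (hp : p ∈ T.toList) : Red p.1 ∧ Red p.2 := by
  obtain ⟨k, hk⟩ := hT.PLu.all p hp
  exact ⟨hk.red1, hk.red2⟩

theorem Good.SS {p : ℕ × ℕ} (hp : p ∈ T.toList) : SS T (rv p.1) = rv p.2 := by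
  unfold Tits.SS
  rw [cv_rv (hT.red hp).1, hT.okl p hp]

omit hT in
/-- the set of the `1755` vectors -/
def InO (T : T2) (v : Fin 52 → ZMod 2) : Prop := ∃ p ∈ T.toList, rv p.1 = v

theorem Good.not_zero : ¬ InO T (0 : Fin 52 → ZMod 2) := by
  rintro ⟨p, hp, e⟩
  have h1 : cv (rv p.1) = cv 0 := by rw [e]
  rw [cv_rv (hT.red hp).1] at h1
  have h2 : cv (0 : Fin 52 → ZMod 2) = 0 := by
    unfold cv
    have : (fun j => if h : j < 52 then ((0 : Fin 52 → ZMod 2) ⟨j, h⟩).val else 0) = (fun _ : ℕ => 0) := by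
      funext j; split_ifs <;> rfl
    rw [this, E_zero]
  obtain ⟨k, hk⟩ := hT.PLu.all p hp
  have h3 := hk.nz
  rw [e, Matrix.zero_vecMul, h2] at h3
  exact h3 hT.zero

theorem Good.alt {A : M52} {p : ℕ × ℕ} {n : ℕ} (hp : p ∈ T.toList) (h : PG T A p n) :
    InO T (Matrix.vecMul (rv p.1) A) ∧
    ((n = 0 ∧ Matrix.vecMul (Tits.SS T (rv p.1)) A = Tits.SS T (Matrix.vecMul (rv p.1) A)) ∨
    (n = 1 ∧ Matrix.vecMul (Tits.SS T (rv p.1)) A =
      Tits.SS T (Matrix.vecMul (rv p.1) A) + Matrix.vecMul (rv p.1) A)) := by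
  obtain ⟨q, hq, e⟩ := h.mem
  rw [hT.SS hp]
  refine ⟨⟨q, hq, e⟩, ?_⟩
  rcases h.alt with h1 | ⟨h1, h2⟩
  · exact Or.inl h1
  · refine Or.inr ⟨h1, h2 ?_⟩
    rw [← e, cv_rv (hT.red hq).1, hT.okl q hq]
    exact (hT.red hq).2

omit hT

/-- the action on row vectors -/
noncomputable def rhoM (A : M52) : (Fin 52 → ZMod 2) →+ (Fin 52 → ZMod 2) where
  toFun v := Matrix.vecMul v A
  map_zero' := Matrix.zero_vecMul _
  map_add' v w := Matrix.add_vecMul _ _ _

noncomputable def rho (g : ↥G0) : (Fin 52 → ZMod 2) →+ (Fin 52 → ZMod 2) := rhoM ((iota g : M52ˣ) : M52)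

theorem rho_apply (g : ↥G0) (v : Fin 52 → ZMod 2) : rho g v = Matrix.vecMul v ((iota g : M52ˣ) : M52) := rfl

theorem rho_mul (g h : ↥G0) (v : Fin 52 → ZMod 2) : rho (g * h) v = rho h (rho g v) := by
  rw [rho_apply, rho_apply, rho_apply, map_mul, Units.val_mul, Matrix.vecMul_vecMul]

theorem rho_one (v : Fin 52 → ZMod 2) : rho 1 v = v := by
  rw [rho_apply, map_one, Units.val_one, Matrix.vecMul_one]

/-- the property of the double cover -/
def Cov (T : T2) (g : ↥G0) : Prop := ∀ v, InO T v → InO T (rho g v) ∧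
  (rho g (SS T v) = SS T (rho g v) ∨ rho g (SS T v) = SS T (rho g v) + rho g v)

theorem add_self52 (v : Fin 52 → ZMod 2) : v + v = 0 := by
  funext j
  exact CharTwo.add_self_eq_zero _

include hT in
theorem Good.cov_of {g : ↥G0} {c n : ℕ} (hg : Rep P (iota g) c) (h : PL T (mat 6 52 2 c) T.toList n) : Cov T g := by
  rintro v ⟨p, hp, rfl⟩
  obtain ⟨k, hk⟩ := h.all p hp
  rw [← hg.eq] at hk
  obtain ⟨h1, h2⟩ := hT.alt hp hk
  rw [← rho_apply] at h1
  rw [← rho_apply, ← rho_apply] at h2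
  exact ⟨h1, h2.imp (fun h => h.2) (fun h => h.2)⟩

theorem cov_mul {g h : ↥G0} (hg : Cov T g) (hh : Cov T h) : Cov T (g * h) := by
  intro v hv
  obtain ⟨h1, h2⟩ := hg v hv
  obtain ⟨h3, h4⟩ := hh _ h1
  rw [rho_mul, rho_mul]
  refine ⟨h3, ?_⟩
  rcases h2 with h2 | h2
  · rw [h2]; exact h4
  · rw [h2, map_add]
    rcases h4 with h4 | h4
    · right; rw [h4]
    · left; rw [h4, add_assoc, add_self52, add_zero]

instance finG : Finite ↥G0 := Finite.of_injective iota iota_inj

include hT in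
theorem Good.cov_all (g : ↥G0) : Cov T g := by
  have h1 := mem_closure_GG g
  rw [← Subgroup.mem_toSubmonoid, Subgroup.closure_toSubmonoid_of_finite] at h1
  induction h1 using Submonoid.closure_induction with
  | mem x hx =>
    have hx' : x = gu ∨ x = gum ∨ x = gy ∨ x = gym := by
      have : x ∈ [gu, gum, gy, gym] := hx
      simpa only [List.mem_cons, List.not_mem_nil, or_false] using this
    rcases hx' with rfl | rfl | rfl | rfl
    · exact hT.cov_of rep_gu hT.PLu
    · exact hT.cov_of rep_gum hT.PLum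
    · exact hT.cov_of rep_gy hT.PLy
    · exact hT.cov_of rep_gym hT.PLym
  | one => intro v hv; rw [rho_one, rho_one]; exact ⟨hv, Or.inl rfl⟩
  | mul x y _ _ hx hy => exact cov_mul hx hy

open Classical in
/-- the set of the vectors -/
noncomputable def OO (T : T2) : Finset (Fin 52 → ZMod 2) := (T.toList.map (fun p => rv p.1)).toFinset

theorem mem_OO {v : Fin 52 → ZMod 2} : v ∈ OO T ↔ InO T v := by
  unfold OO InO
  rw [List.mem_toFinset, List.mem_map]

include hT in
theorem Good.exists_eps : ∃ ε : ↥G0 →* Multiplicative (ZMod 2), ∀ g, ε g = Multiplicative.ofAdd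
      (∑ v ∈ OO T, ind (rho g (Tits.SS T v) = Tits.SS T (rho g v))) := by
  have h0 : (0 : Fin 52 → ZMod 2) ∉ OO T := by rw [mem_OO]; exact hT.not_zero
  have h1 : ∀ g, ∀ v ∈ OO T, rho g v ∈ OO T ∧ (rho g (Tits.SS T v) = Tits.SS T (rho g v) ∨
      rho g (Tits.SS T v) = Tits.SS T (rho g v) + rho g v) := by
    intro g v hv
    rw [mem_OO] at hv ⊢
    exact hT.cov_all g v hv
  have h2 := @exists_flip_hom ↥G0 (Fin 52 → ZMod 2) _ _ add_self52 rho rho_mul
  have h3 := h2 rho_one
  exact h3 (OO T) h0 (Tits.SS T) h1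

include hT in
theorem Good.sum_list {g : ↥G0} {c : ℕ} (hg : Rep P (iota g) c) (l : List (ℕ × ℕ)) (hl : ∀ p ∈ l, p ∈ T.toList)
    {n : ℕ} (h : PL T (mat 6 52 2 c) l n) :
    (l.map (fun p => ind (rho g (Tits.SS T (rv p.1)) = Tits.SS T (rho g (rv p.1))))).sum =
      (n : ZMod 2) := by
  rw [← hg.eq] at h
  induction h with
  | nil => simp
  | @cons p n m l h1 h2 ih =>
    rw [List.map_cons, List.sum_cons, ih (fun q hq => hl q (List.mem_cons_of_mem _ hq)), Nat.cast_add]
    congr 1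
    have hp := hl p List.mem_cons_self
    obtain ⟨h3, h4⟩ := hT.alt hp h1
    rw [← rho_apply] at h3
    have hne : rho g (rv p.1) ≠ 0 := fun e => hT.not_zero (by rw [← e]; exact h3)
    rw [← rho_apply, ← rho_apply] at h4
    rcases h4 with ⟨e, h4⟩ | ⟨e, h4⟩
    · rw [ind_pos h4, e, Nat.cast_zero]
    · rw [ind_neg (fun e' => hne ?_), e, Nat.cast_one]
      rw [h4] at e'
      rwa [add_eq_left] at e'

include hT in
theorem Good.nodup_rv : (T.toList.map (fun p => rv p.1)).Nodup := by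
  have h2 : T.toList.Nodup := hT.nd.of_map _
  rw [List.nodup_map_iff_inj_on h2]
  intro p hp q hq e
  have e1 : p.1 = q.1 := by
    have := congrArg cv e
    rwa [cv_rv (hT.red hp).1, cv_rv (hT.red hq).1] at this
  exact List.inj_on_of_nodup_map hT.nd hp hq e1

include hT in
theorem Good.sum_eq {g : ↥G0} {c n : ℕ} (hg : Rep P (iota g) c) (h : PL T (mat 6 52 2 c) T.toList n) :
    (∑ v ∈ OO T, ind (rho g (Tits.SS T v) = Tits.SS T (rho g v))) = (n : ZMod 2) := by
  rw [← hT.sum_list hg T.toList (fun _ h => h) h]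
  unfold OO
  rw [List.sum_toFinset _ hT.nodup_rv, List.map_map]
  rfl

include hT in
theorem Good.exists_hom : ∃ ε : ↥G0 →* Multiplicative (ZMod 2), ε gu = 1 ∧ ε gum = 1 ∧
    ε gy = Multiplicative.ofAdd 1 ∧ ε gym = Multiplicative.ofAdd 1 := by
  obtain ⟨ε, hε⟩ := hT.exists_eps
  refine ⟨ε, ?_, ?_, ?_, ?_⟩
  · rw [hε, hT.sum_eq rep_gu hT.PLu]; rfl
  · rw [hε, hT.sum_eq rep_gum hT.PLum]; rfl
  · rw [hε, hT.sum_eq rep_gy hT.PLy]; rfl
  · rw [hε, hT.sum_eq rep_gym hT.PLym]; rfl

end Cfsg.Agent.H11.Tits
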