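import Cfsg.Statements.S1068
import Cfsg.Agent.H6_TwHF4

set_option autoImplicit false
open Cfsg

namespace Cfsg.Agent.S1068

/-- `|²F₄(q)| = q¹² (q - 1)(q³ + 1)(q⁴ - 1)(q⁶ + 1)` for `q = 2^(2m+1)` (θ = 2^m-th power map), every `m ≥ 0`. -/
theorem result {K : Type*} [Field K] [Fintype K] {m : ℕ} (hK : Fintype.card K = 2 ^ (2 * m + 1)) :
    Nat.card ↥(Cfsg.Lie.twistedF4 K (2 ^ m)) =
      (2 ^ (2 * m + 1)) ^ 12 * (2 ^ (2 * m + 1) - 1) * ((2 ^ (2 * m + 1)) ^ 3 + 1) * ((2 ^ (2 * m + 1)) ^ 4 - 1) * ((2 ^ (2 * m + 1)) ^ 6 + 1) := by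
  obtain ⟨h2, φ, hperf, hφ, hφ2, P, hP, hc⟩ := Cfsg.Agent.H6.Chev.exists_pF4 hK
  have hq : Nat.card K = 2 ^ (2 * m + 1) := by rw [Nat.card_eq_fintype_card, hK]
  have h1 := Cfsg.Agent.H6.Chev.f4_card_H φ hperf hφ2 hφ P hP
  have h2 := P.card_G1 (d := 2) two_pos Cfsg.Agent.H6.Chev.hkkF4 hc
  have hN : Cfsg.Agent.H6.Chev.modelF4.N / 2 = 12 := by
    have h1 := Cfsg.Agent.H6.Chev.modelF4.nroots_eq
    have h2 := Cfsg.Agent.H6.Chev.baseF4.nroots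
    have h3 : Cfsg.Agent.H6.Chev.tabF4.n = 48 := rfl
    omega
  have h4 : (Cfsg.Agent.H6.Chev.twF4 φ hperf).PA Set.univ 2 (2 ^ (2 * m + 1)) = _ := Cfsg.Agent.H6.Chev.paF4 (2 ^ (2 * m + 1))
  rw [hN, h1, h4] at h2
  rw [← hP, h2, hq]
  generalize hx : 2 ^ (2 * m + 1) = q
  have hq1 : 1 ≤ q := by rw [← hx]; exact Nat.one_le_two_pow
  have h3 := Cfsg.Agent.H6.Chev.ppF4 (q : ℤ)
  have e1 : ((q - 1 : ℕ) : ℤ) = (q : ℤ) - 1 := by rw [Nat.cast_sub hq1]; simp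
  have e2 : ((q ^ 4 - 1 : ℕ) : ℤ) = (q : ℤ) ^ 4 - 1 := by rw [Nat.cast_sub (Nat.one_le_pow _ _ hq1)]; simp
  zify
  rw [e1, e2, Cfsg.Agent.H6.Chev.poly_cast, Cfsg.Agent.H6.Chev.poly_cast]
  linear_combination (q : ℤ) ^ 12 * h3

end Cfsg.Agent.S1068
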