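import Cfsg.Statements.S1090
import Cfsg.Agent.H6_TwF4

set_option autoImplicit false
open Cfsg

namespace Cfsg.Agent.S1090

/-- |U¹| = |G¹ ∩ U| = (2 ^ (2 * m + 1)) ^ 12 for ²F₄(2^(2m+1)). -/
theorem result {K : Type*} [Field K] [Fintype K] {m : ℕ} (hK : Fintype.card K = 2 ^ (2 * m + 1)) :
    Nat.card ↥(Cfsg.Lie.chevF4.posUnipotent K ⊓ Cfsg.Lie.twistedF4 K (2 ^ m)) = (2 ^ (2 * m + 1)) ^ 12 := by
  obtain ⟨_, φ, hperf, _, _, P, hP, hc⟩ := Cfsg.Agent.H6.Chev.exists_pF4 hK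
  rw [← hP]
  have h := P.card_U1 (d := 2) two_pos Cfsg.Agent.H6.Chev.hkkF4 hc
  have hN : Cfsg.Agent.H6.Chev.modelF4.N / 2 = 12 := by
    have h1 := Cfsg.Agent.H6.Chev.modelF4.nroots_eq
    have h2 := Cfsg.Agent.H6.Chev.baseF4.nroots
    have h3 : Cfsg.Agent.H6.Chev.tabF4.n = 48 := rfl
    omega
  rwa [hN] at h

end Cfsg.Agent.S1090
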