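import Cfsg.Agent.H11_TitsD
import Cfsg.Agent.S1068
import Cfsg.Agent.S1090
import Cfsg.Agent.H1_Nilp

set_option autoImplicit false
set_option maxRecDepth 100000

/-!
The group `²F₄(2)` and its commutator subgroup.
-/

namespace Cfsg.Agent.H11.Tits

open Cfsg Cfsg.Lie Cfsg.Agent.H11.KMat Cfsg.Agent.H6.Chev

section Abstract

theorem comm_of_mem {G : Type*} [Group G] {T : Subgroup G} (h : IsMulCommutative ↥T) {a b : G} (ha : a ∈ T) (hb : b ∈ T) :
    a * b = b * a :=
  congrArg Subtype.val (h.is_comm.comm (⟨a, ha⟩ : ↥T) ⟨b, hb⟩)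

/-- a 2-group with abelianization of order at most two is abelian -/
theorem comm_of_values {Q : Type*} [Group Q] [Finite Q] (hQ : IsPGroup 2 Q) (y : Q)
    (h : ∀ x : Q, x ∈ commutator Q ∨ y⁻¹ * x ∈ commutator Q) : commutator Q = ⊥ := by
  have : Fact (Nat.Prime 2) := ⟨Nat.prime_two⟩
  have h1 : Subgroup.zpowers y ⊔ frattini Q = ⊤ := by
    rw [eq_top_iff]
    intro x _
    have h2 := (Cfsg.Agent.H1.Nilp.commutator_le_frattini hQ).1
    rcases h x with hx | hx
    · exact Subgroup.mem_sup_right (h2 hx)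
    · have : x = y * (y⁻¹ * x) := by group
      rw [this]
      exact mul_mem (Subgroup.mem_sup_left (Subgroup.mem_zpowers y)) (Subgroup.mem_sup_right (h2 hx))
  have h3 := frattini_nongenerating h1
  rw [commutator_eq_bot_iff_center_eq_top, eq_top_iff]
  intro x _
  rw [Subgroup.mem_center_iff]
  intro z
  have hx : x ∈ Subgroup.zpowers y := by rw [h3]; trivial
  have hz : z ∈ Subgroup.zpowers y := by rw [h3]; trivial
  obtain ⟨a, rfl⟩ := Subgroup.mem_zpowers_iff.1 hx
  obtain ⟨b, rfl⟩ := Subgroup.mem_zpowers_iff.1 hz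
  rw [← zpow_add, ← zpow_add, add_comm]

theorem commutator_le_of {G : Type*} [Group G] [Finite G] (y : G)
    (hab : ∀ g : G, g ∈ commutator G ∨ y⁻¹ * g ∈ commutator G) (N : Subgroup G) [N.Normal]
    (h1 : IsPGroup 2 (G ⧸ N)) : commutator G ≤ N := by
  have h3 : (commutator G).map (QuotientGroup.mk' N) = commutator (G ⧸ N) := by
    rw [commutator_def, commutator_def, Subgroup.map_commutator, ← MonoidHom.range_eq_map,
      (MonoidHom.range_eq_top).2 (QuotientGroup.mk'_surjective N)]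
  have h2 : commutator (G ⧸ N) = ⊥ := by
    apply comm_of_values h1 (QuotientGroup.mk' N y)
    intro x
    obtain ⟨g, rfl⟩ := QuotientGroup.mk'_surjective N x
    rw [← h3, ← map_inv, ← map_mul]
    rcases hab g with h | h
    · exact Or.inl ⟨g, h, rfl⟩
    · exact Or.inr ⟨_, h, rfl⟩
  rw [h2, Subgroup.map_eq_bot_iff, QuotientGroup.ker_mk'] at h3
  exact h3

theorem simple_commutator {G : Type*} [Group G] [Finite G] (y : G)
    (hab : ∀ g : G, g ∈ commutator G ∨ y⁻¹ * g ∈ commutator G) (hyy : y * y ∈ commutator G)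
    (hmin : ∀ N : Subgroup G, N.Normal → N ≠ ⊥ → commutator G ≤ N) (hnt : Nontrivial ↥(commutator G)) {p : ℕ}
    (hp : p.Prime) (hp1 : p ∣ Nat.card ↥(commutator G)) (hp2 : ¬ p * p ∣ Nat.card ↥(commutator G)) :
    IsSimpleGroup ↥(commutator G) := by
  refine { exists_pair_ne := exists_pair_ne _, eq_bot_or_eq_top_of_normal := ?_ }
  intro N hN
  by_contra hcon
  rw [not_or] at hcon
  obtain ⟨hN1, hN2⟩ := hcon
  have hTn : (commutator G).Normal := inferInstance
  let M : Subgroup G := N.map (commutator G).subtype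
  have hMT : M ≤ commutator G := by
    rintro x ⟨z, -, rfl⟩
    exact z.2
  have hMn : ∀ t ∈ commutator G, ∀ x ∈ M, t * x * t⁻¹ ∈ M := by
    rintro t ht x ⟨z, hz, rfl⟩
    exact ⟨⟨t, ht⟩ * z * ⟨t, ht⟩⁻¹, hN.conj_mem z hz ⟨t, ht⟩, rfl⟩
  have hM1 : M ≠ ⊥ := fun h => hN1 ((Subgroup.map_eq_bot_iff_of_injective _ (commutator G).subtype_injective).1 h)
  have hM2 : ¬ commutator G ≤ M := by
    intro h
    apply hN2
    rw [eq_top_iff]
    intro z _
    obtain ⟨w, hw, e⟩ := h z.2
    rwa [← (commutator G).subtype_injective e]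
  let c : G →* G := (MulAut.conj y).toMonoidHom
  have hc : ∀ x, c x = y * x * y⁻¹ := fun x => rfl
  have hcinj : Function.Injective c := (MulAut.conj y).injective
  let M' : Subgroup G := M.map c
  have hM'T : M' ≤ commutator G := by
    rintro x ⟨z, hz, rfl⟩
    exact hTn.conj_mem z (hMT hz) y
  have hcases : ∀ g : G, g ∈ commutator G ∨ ∃ t ∈ commutator G, g = y * t := by
    intro g
    rcases hab g with h | h
    · exact Or.inl h
    · exact Or.inr ⟨_, h, by group⟩
  have hM'n : ∀ t ∈ commutator G, ∀ x ∈ M', t * x * t⁻¹ ∈ M' := by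
    rintro t ht x ⟨z, hz, rfl⟩
    refine ⟨(y⁻¹ * t * y) * z * (y⁻¹ * t * y)⁻¹, hMn _ ?_ z hz, ?_⟩
    · have := hTn.conj_mem t ht y⁻¹
      rwa [inv_inv] at this
    · rw [hc, hc]; group
  have hconj1 : ∀ x ∈ M, y * x * y⁻¹ ∈ M' := fun x hx => ⟨x, hx, rfl⟩
  have hconj2 : ∀ x ∈ M', y * x * y⁻¹ ∈ M := by
    rintro x ⟨z, hz, rfl⟩
    have := hMn _ hyy z hz
    rw [hc]
    have e : y * (y * z * y⁻¹) * y⁻¹ = y * y * z * (y * y)⁻¹ := by group
    rwa [e]
  have hinf : (M ⊓ M').Normal := by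
    constructor
    intro x hx g
    rw [Subgroup.mem_inf] at hx ⊢
    rcases hcases g with hg | ⟨t, ht, rfl⟩
    · exact ⟨hMn g hg x hx.1, hM'n g hg x hx.2⟩
    · have e : y * t * x * (y * t)⁻¹ = y * (t * x * t⁻¹) * y⁻¹ := by group
      rw [e]
      exact ⟨hconj2 _ (hM'n t ht x hx.2), hconj1 _ (hMn t ht x hx.1)⟩
  have hsup : (M ⊔ M').Normal := by
    have hc2 : ∀ g : G, (M ⊔ M').map (MulAut.conj g).toMonoidHom ≤ M ⊔ M' := by
      intro g
      rw [Subgroup.map_sup]
      refine sup_le ?_ ?_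
      · rintro _ ⟨x, hx, rfl⟩
        show g * x * g⁻¹ ∈ _
        rcases hcases g with hg | ⟨t, ht, rfl⟩
        · exact Subgroup.mem_sup_left (hMn g hg x hx)
        · have e : y * t * x * (y * t)⁻¹ = y * (t * x * t⁻¹) * y⁻¹ := by group
          rw [e]
          exact Subgroup.mem_sup_right (hconj1 _ (hMn t ht x hx))
      · rintro _ ⟨x, hx, rfl⟩
        show g * x * g⁻¹ ∈ _
        rcases hcases g with hg | ⟨t, ht, rfl⟩
        · exact Subgroup.mem_sup_right (hM'n g hg x hx)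
        · have e : y * t * x * (y * t)⁻¹ = y * (t * x * t⁻¹) * y⁻¹ := by group
          rw [e]
          exact Subgroup.mem_sup_left (hconj2 _ (hM'n t ht x hx))
    constructor
    intro x hx g
    exact hc2 g ⟨x, hx, rfl⟩
  have hinf' : M ⊓ M' = ⊥ := by
    by_contra h
    exact hM2 ((hmin (M ⊓ M') hinf h).trans inf_le_left)
  have hsup' : M' ⊔ M = commutator G := by
    rw [sup_comm]
    apply le_antisymm (sup_le hMT hM'T)
    apply hmin (M ⊔ M') hsup
    intro h
    exact hM1 (le_bot_iff.1 (le_sup_left.trans h.le))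
  have hcardM' : Nat.card ↥M' = Nat.card ↥M := Nat.card_congr (M.equivMapOfInjective c hcinj).toEquiv.symm
  have hMM' : M' ≤ Subgroup.normalizer (M : Set G) := by
    intro t ht
    rw [Subgroup.mem_normalizer_iff]
    intro x
    have htT := hM'T ht
    constructor
    · exact fun hx => hMn t htT x hx
    · intro hx
      have h1 := hMn t⁻¹ (inv_mem htT) _ hx
      have e : t⁻¹ * (t * x * t⁻¹) * t⁻¹⁻¹ = x := by group
      rwa [e] at h1
  have hcard := Cfsg.Agent.H1.Coprime.card_sup_of_le_normalizer hMM' (by rw [inf_comm]; exact hinf')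
  rw [hsup', hcardM'] at hcard
  have h13 : p ∣ Nat.card ↥M := by
    have : p ∣ Nat.card ↥M * Nat.card ↥M := by rw [← hcard]; exact hp1
    rcases hp.dvd_mul.1 this with h | h <;> exact h
  apply hp2
  rw [hcard]
  exact mul_dvd_mul h13 h13

end Abstract

abbrev TG : Subgroup ↥G0 := commutator ↥G0

theorem cardZ : Fintype.card (ZMod 2) = 2 ^ (2 * 0 + 1) := by rw [ZMod.card]; rfl

theorem card_G0 : Nat.card ↥G0 = 35942400 := by
  have h := Cfsg.Agent.S1068.result (K := ZMod 2) (m := 0) cardZ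
  have e : (2 : ℕ) ^ 0 = 1 := rfl
  rw [e] at h
  rw [h]
  norm_num

theorem diag_one {h : GL chevF4.Idx (ZMod 2)} (hh : h ∈ chevF4.diagonalSubgroup (ZMod 2)) : h = 1 := by
  apply Units.ext
  ext i j
  rw [Units.val_one]
  by_cases hij : i = j
  · subst hij
    rw [Matrix.one_apply_eq]
    rcases zmod2 ((h : Matrix chevF4.Idx chevF4.Idx (ZMod 2)) i i) with h1 | h1
    · exact absurd h1 (Model.H_diag_ne modelF4 hh i)
    · exact h1
  · rw [Matrix.one_apply_ne hij]
    exact Model.H_entry modelF4 hh hij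

theorem borel_eq : chevF4.borelSubgroup (ZMod 2) = chevF4.posUnipotent (ZMod 2) := by
  unfold ChevalleyDatum.borelSubgroup
  rw [sup_eq_left]
  intro h hh
  rw [diag_one hh]
  exact one_mem _

/-- the Borel subgroup -/
def BG : Subgroup ↥G0 := (chevF4.borelSubgroup (ZMod 2) ⊓ G0).subgroupOf G0

theorem card_BG : Nat.card ↥BG = 2 ^ 12 := by
  have h := Cfsg.Agent.S1090.result (K := ZMod 2) (m := 0) cardZ
  have e : (2 : ℕ) ^ 0 = 1 := rfl
  rw [e] at h
  unfold BG
  rw [Nat.card_congr (Subgroup.subgroupOfEquivOfLe (inf_le_right)).toEquiv, borel_eq, h]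
  norm_num

theorem bn_cases : ∀ N : Subgroup ↥G0, N.Normal → N = ⊥ ∨ BG ⊔ N = ⊤ := by
  obtain ⟨_, φ, hperf, _, _, Q, hQ, hc⟩ := exists_pF4 (K := ZMod 2) (n := 0) cardZ
  have e : (2 : ℕ) ^ 0 = 1 := rfl
  rw [e] at hQ
  have hw : ∀ i, ∃ u ∈ chevF4.posUnipotent (ZMod 2), u ∈ Q.G1 ∧ u ∉ modelF4.Up (ZMod 2) i := fun i => by
    rw [hQ]; exact f4_wit (by norm_num) i
  have key : ∀ N : Subgroup ↥Q.G1, N.Normal → N = ⊥ ∨
      (chevF4.borelSubgroup (ZMod 2) ⊓ Q.G1).subgroupOf Q.G1 ⊔ N = ⊤ := by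
    intro N hN
    rcases Cfsg.Agent.H6.BN2.normal_le_or (P := Q.bn) (Q.irreducible f4_conn) N with h | h
    · left
      have h1 : N ≤ ((chevF4.borelSubgroup (ZMod 2) ⊓ Q.G1).subgroupOf Q.G1).normalCore :=
        Subgroup.normal_le_normalCore.2 h
      rw [Q.core_eq_bot hw] at h1
      exact le_bot_iff.1 h1
    · exact Or.inr h
  have gen : ∀ H : Subgroup (GL chevF4.Idx (ZMod 2)), Q.G1 = H → ∀ N : Subgroup ↥H, N.Normal → N = ⊥ ∨
      (chevF4.borelSubgroup (ZMod 2) ⊓ H).subgroupOf H ⊔ N = ⊤ := by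
    intro H hH
    subst hH
    exact key
  exact gen G0 hQ

theorem bg_pgroup : IsPGroup 2 ↥BG := IsPGroup.of_card card_BG

/-- nontrivial normal subgroups have a quotient of 2-power order -/
theorem quot_pgroup (N : Subgroup ↥G0) [hN : N.Normal] (h : N ≠ ⊥) : IsPGroup 2 (↥G0 ⧸ N) := by
  rcases bn_cases N hN with h1 | h1
  · exact absurd h1 h
  · let q : ↥BG →* ↥G0 ⧸ N := (QuotientGroup.mk' N).comp BG.subtype
    refine bg_pgroup.of_surjective q ?_
    intro x
    obtain ⟨g, rfl⟩ := QuotientGroup.mk_surjective x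
    have hg : g ∈ BG ⊔ N := by rw [h1]; trivial
    obtain ⟨b, hb, k, hk, rfl⟩ := Subgroup.mem_sup_of_normal_right.1 hg
    refine ⟨⟨b, hb⟩, ?_⟩
    change ((b : ↥G0) : ↥G0 ⧸ N) = ((b * k : ↥G0) : ↥G0 ⧸ N)
    rw [QuotientGroup.eq]
    simpa using hk

/-- images in an abelian group -/
theorem comm_values {A : Type*} [CommGroup A] (f : ↥G0 →* A) (g : ↥G0) : f g = 1 ∨ f g = f gy := by
  obtain ⟨h1, h2, h3, h4⟩ := comm_rel f
  have h5 : f gy * f gy = 1 := by rw [← sq, h4]
  have h6 := mem_closure_GG g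
  induction h6 using Subgroup.closure_induction with
  | mem x hx =>
    have hx' : x = gu ∨ x = gum ∨ x = gy ∨ x = gym := by
      have : x ∈ [gu, gum, gy, gym] := hx
      simpa only [List.mem_cons, List.not_mem_nil, or_false] using this
    rcases hx' with rfl | rfl | rfl | rfl
    · exact Or.inl h1
    · exact Or.inl h2
    · exact Or.inr rfl
    · exact Or.inr h3
  | one => exact Or.inl (map_one f)
  | mul x y _ _ hx hy =>
    rw [map_mul]
    rcases hx with hx | hx <;> rcases hy with hy | hy <;> rw [hx, hy]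
    · left; rw [one_mul]
    · right; rw [one_mul]
    · right; rw [mul_one]
    · left; exact h5
  | inv x _ hx =>
    rw [map_inv]
    rcases hx with hx | hx <;> rw [hx]
    · left; rw [inv_one]
    · right; exact inv_eq_of_mul_eq_one_left h5

theorem mem_TG_iff {ε : ↥G0 →* Multiplicative (ZMod 2)} (h : ε gy = Multiplicative.ofAdd 1) (g : ↥G0) :
    g ∈ TG ↔ ε g = 1 := by
  constructor
  · intro hg
    exact (Abelianization.commutator_subset_ker ε hg : g ∈ ε.ker)
  · intro hg
    rcases comm_values (Abelianization.of : ↥G0 →* Abelianization ↥G0) g with h1 | h1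
    · have : g ∈ (Abelianization.of : ↥G0 →* Abelianization ↥G0).ker := h1
      rwa [Abelianization.ker_of] at this
    · exfalso
      have h2 : ε g = ε gy := by
        have e1 : ∀ x, ε x = Abelianization.lift ε (Abelianization.of x) := fun x => by rw [Abelianization.lift_apply_of]
        rw [e1, h1, ← e1]
      rw [hg, h] at h2
      exact absurd h2 (by decide)

theorem TG_index : TG.index = 2 := by
  obtain ⟨ε, -, -, h3, -⟩ := exists_hom
  have h1 : TG = ε.ker := by
    ext g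
    rw [mem_TG_iff h3, MonoidHom.mem_ker]
  have h2 : Function.Surjective ε := by
    intro x
    have hx : x = 1 ∨ x = Multiplicative.ofAdd 1 := by revert x; decide
    rcases hx with rfl | rfl
    · exact ⟨1, map_one ε⟩
    · exact ⟨gy, h3⟩
  rw [h1, Subgroup.index_ker, MonoidHom.range_eq_top.2 h2, Nat.card_congr Subgroup.topEquiv.toEquiv]
  show Nat.card (ZMod 2) = 2
  rw [Nat.card_zmod]

theorem card_TG : Nat.card ↥TG = 17971200 := by
  have h := TG.card_mul_index
  rw [TG_index, card_G0] at h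
  omega

theorem gu_mem : gu ∈ TG := by
  obtain ⟨ε, h1, -, h3, -⟩ := exists_hom
  exact (mem_TG_iff h3 _).2 h1
theorem gum_mem : gum ∈ TG := by
  obtain ⟨ε, -, h2, h3, -⟩ := exists_hom
  exact (mem_TG_iff h3 _).2 h2
theorem gy_not_mem : gy ∉ TG := by
  obtain ⟨ε, h1, -, h3, -⟩ := exists_hom
  rw [mem_TG_iff h3, h3]
  decide

theorem gyy_mem : gy * gy ∈ TG := by
  obtain ⟨ε, -, -, h3, -⟩ := exists_hom
  rw [mem_TG_iff h3, map_mul, h3]
  decide

theorem TG_cases (g : ↥G0) : g ∈ TG ∨ gy⁻¹ * g ∈ TG := by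
  obtain ⟨ε, -, -, h3, -⟩ := exists_hom
  rw [mem_TG_iff h3, mem_TG_iff h3, map_mul, map_inv, h3]
  generalize ε g = x
  revert x
  decide

/-- every nontrivial normal subgroup contains the commutator subgroup -/
theorem TG_le (N : Subgroup ↥G0) (hN : N.Normal) (h : N ≠ ⊥) : TG ≤ N :=
  commutator_le_of gy TG_cases N (quot_pgroup N h)

theorem wc_ne : ¬ wc P gs [0, 1] = wc P gs [1, 0] := by decide +kernel

theorem not_comm_TG : ¬ IsMulCommutative ↥TG := by
  intro h
  have h1 : gu * gum = gum * gu := comm_of_mem h gu_mem gum_mem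
  have h2 : wg GG [0, 1] = wg GG [1, 0] := by
    rw [wg_cons, wg_cons, wg_cons, wg_cons, GG0, GG1, wg, mul_one, mul_one, h1]
  have r1 := rep_w [0, 1] (by decide)
  have r2 := rep_w [1, 0] (by decide)
  rw [h2] at r1
  exact wc_ne (r1.code_eq ok r2)

theorem nontriv_TG : Nontrivial ↥TG := by
  by_contra h
  rw [not_nontrivial_iff_subsingleton] at h
  exact not_comm_TG ⟨⟨fun a b => Subsingleton.elim _ _⟩⟩

theorem simple_TG : IsSimpleGroup ↥TG :=
  simple_commutator gy TG_cases gyy_mem TG_le nontriv_TG (p := 13) (by norm_num) (by rw [card_TG]; norm_num)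
    (by rw [card_TG]; norm_num)

end Cfsg.Agent.H11.Tits
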