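import Cfsg.Agent.H11_TitsG

set_option autoImplicit false
set_option maxRecDepth 100000

/-!
The Sylow 2-subgroup `U` of `²F₄(2)`: the elements outside the commutator subgroup.
-/

namespace Cfsg.Agent.H11.Tits

open Cfsg Cfsg.Lie Cfsg.Agent.H11.KMat Cfsg.Agent.H6.Chev

theorem conj_mem_of_card {G : Type*} [Group G] [Finite G] {p : ℕ} [Fact p.Prime] (B : Subgroup G)
    (hB : IsPGroup p ↥B) (hG : ¬ p ∣ B.index) (g : G) (hg : orderOf g = p) : ∃ h : G, h * g * h⁻¹ ∈ B := by
  have h1 : IsPGroup p ↥(Subgroup.zpowers g) := IsPGroup.of_card (n := 1) (by rw [Nat.card_zpowers, hg, pow_one])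
  obtain ⟨Q, hQ⟩ := h1.exists_le_sylow
  let S : Sylow p G := hB.toSylow hG
  obtain ⟨h, hh⟩ := MulAction.exists_smul_eq G Q S
  refine ⟨h, ?_⟩
  have h2 : h * g * h⁻¹ ∈ ((h • Q : Sylow p G) : Subgroup G) := by
    rw [Sylow.coe_subgroup_smul]
    exact ⟨g, hQ (Subgroup.mem_zpowers g), rfl⟩
  rw [hh] at h2
  exact h2

section Abstract

variable {G : Type*} [Group G]

/-- ordered products of subsets -/
def Pr : List G → Set G
  | [] => {1}
  | (v :: vs) => Pr vs ∪ (fun q => v * q) '' Pr vs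

/-- no element is in the group generated by the later ones -/
def Sep : List G → Prop
  | [] => True
  | (v :: vs) => v ∉ Subgroup.closure {x | x ∈ vs} ∧ Sep vs

theorem Pr_sub : ∀ vs : List G, Pr vs ⊆ (Subgroup.closure {x | x ∈ vs} : Set G)
  | [] => by
    intro x hx
    have : x = 1 := hx
    rw [this]
    exact one_mem _
  | (v :: vs) => by
    have h1 : (Subgroup.closure {x | x ∈ vs} : Subgroup G) ≤ Subgroup.closure {x | x ∈ v :: vs} :=
      Subgroup.closure_mono fun x hx => List.mem_cons_of_mem _ hx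
    rintro x (hx | ⟨q, hq, rfl⟩)
    · exact h1 (Pr_sub vs hx)
    · exact mul_mem (Subgroup.subset_closure List.mem_cons_self) (h1 (Pr_sub vs hq))

theorem ncard_Pr [Finite G] : ∀ vs : List G, Sep vs → (Pr vs).ncard = 2 ^ vs.length
  | [], _ => by
    show ({1} : Set G).ncard = 2 ^ 0
    rw [Set.ncard_singleton]; rfl
  | (v :: vs), h => by
    show (Pr vs ∪ (fun q => v * q) '' Pr vs).ncard = _
    have hdis : Disjoint (Pr vs) ((fun q => v * q) '' Pr vs) := by
      rw [Set.disjoint_left]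
      rintro x hx ⟨q, hq, e⟩
      apply h.1
      have e' : v = x * q⁻¹ := by rw [← e]; show v = v * q * q⁻¹; group
      rw [e']
      exact mul_mem (Pr_sub vs hx) (inv_mem (Pr_sub vs hq))
    rw [Set.ncard_union_eq hdis (Set.toFinite _) (Set.toFinite _),
      Set.ncard_image_of_injective _ (mul_right_injective v), ncard_Pr vs h.2, List.length_cons, pow_succ]
    ring

end Abstract

noncomputable def eps : ↥G0 →* Multiplicative (ZMod 2) := exists_hom.choose

theorem eps_gu : eps gu = 1 := exists_hom.choose_spec.1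
theorem eps_gum : eps gum = 1 := exists_hom.choose_spec.2.1
theorem eps_gy : eps gy = Multiplicative.ofAdd 1 := exists_hom.choose_spec.2.2.1
theorem eps_gym : eps gym = Multiplicative.ofAdd 1 := exists_hom.choose_spec.2.2.2

theorem mem_TG (g : ↥G0) : g ∈ TG ↔ eps g = 1 := mem_TG_iff eps_gy g

def bv (b : Bool) : Multiplicative (ZMod 2) := bif b then Multiplicative.ofAdd 1 else 1

theorem bv_xor (a b : Bool) : bv (Bool.xor a b) = bv a * bv b := by
  revert a b; decide

/-- the parity of a word -/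
def wpar : List ℕ → Bool
  | [] => false
  | (i :: l) => Bool.xor (Nat.ble 2 i && Nat.ble i 3) (wpar l)

theorem eps_w (l : List ℕ) : eps (wg GG l) = bv (wpar l) := by
  induction l with
  | nil => rw [wg, map_one]; rfl
  | cons i l ih =>
    rw [wg, map_mul, ih, wpar, bv_xor]
    congr 1
    by_cases hi : i < 4
    · interval_cases i
      · exact eps_gu
      · exact eps_gum
      · exact eps_gy
      · exact eps_gym
    · rw [List.getD_eq_default, map_one]
      · have h1 : Nat.ble i 3 = false := by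
          rw [← Bool.not_eq_true, Nat.ble_eq]; omega
        rw [h1, Bool.and_false]; rfl
      · show 4 ≤ i; omega

theorem bv_eq_one {b : Bool} : bv b = 1 ↔ b = false := by
  revert b; decide

/-- enumeration of products with the squares -/
def en (ONE : ℕ) : List (ℕ × Bool) → ℕ → Bool → Bool
  | [], acc, par => bif par then !(Nat.beq (mul P acc acc) ONE) else true
  | (v :: vs), acc, par => en ONE vs acc par && en ONE vs (mul P acc v.1) (Bool.xor par v.2)

/-- compatible lists -/
inductive Co : List ↥G0 → List (ℕ × Bool) → Prop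
  | nil : Co [] []
  | cons {g : ↥G0} {c : ℕ} {b : Bool} {l : List ↥G0} {m : List (ℕ × Bool)} : Rep P (iota g) c → eps g = bv b → Co l m →
      Co (g :: l) ((c, b) :: m)

theorem en_spec {l : List ↥G0} {m : List (ℕ × Bool)} (hc : Co l m) : ∀ (a : ↥G0) (acc : ℕ) (par : Bool),
    Rep P (iota a) acc → eps a = bv par → en (one 6 52) m acc par = true → ∀ p ∈ Pr l, a * p ∉ TG →
      (a * p) * (a * p) ≠ 1 := by
  induction hc with
  | nil =>
    intro a acc par ha hp h p hpr hn
    have e : p = 1 := hpr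
    rw [e, mul_one] at hn ⊢
    rw [mem_TG, hp, bv_eq_one, Bool.not_eq_false] at hn
    rw [hn, en, cond_true, Bool.not_eq_true'] at h
    intro h1
    have r1 : Rep P (iota (a * a)) (mul P acc acc) := by rw [map_mul]; exact ha.mul ok ha
    have r2 : Rep P (iota (1 : ↥G0)) (one 6 52) := by rw [map_one]; exact rep_one ok (by norm_num)
    rw [h1] at r1
    rw [r1.code_eq ok r2, Nat.beq_refl] at h
    exact absurd h (by decide)
  | @cons g c b l m hg hb hl ih =>
    intro a acc par ha hp h p hpr hn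
    rw [en, Bool.and_eq_true] at h
    rcases hpr with hpr | ⟨q, hq, rfl⟩
    · exact ih a acc par ha hp h.1 p hpr hn
    · have e : a * (g * q) = a * g * q := (mul_assoc _ _ _).symm
      have hn' : a * g * q ∉ TG := by rw [← e]; exact hn
      have := ih (a * g) (mul P acc c) (Bool.xor par b) (by rw [map_mul]; exact ha.mul ok hg)
        (by rw [map_mul, hp, hb, bv_xor]) h.2 q hq hn'
      show a * (g * q) * (a * (g * q)) ≠ 1
      rw [e]
      exact this

/-- one step on row vectors -/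
def rstep (x c : ℕ) : ℕ := row (mul P x c) 0

def memB (x : ℕ) (l : List ℕ) : Bool := l.any (fun y => Nat.beq x y)

theorem memB_iff {x : ℕ} {l : List ℕ} : memB x l = true ↔ x ∈ l := by
  unfold memB
  rw [List.any_eq_true]
  constructor
  · rintro ⟨y, hy, h⟩
    rw [Nat.eq_of_beq_eq_true h]; exact hy
  · exact fun h => ⟨x, h, Nat.beq_refl x⟩

def sepc (c : ℕ) (cs X : List ℕ) (w : ℕ) : Bool :=
  X.all (fun x => valid P x && Nat.beq (row x 0) x) && memB w X && !(memB (rstep w c) X) &&
    cs.all (fun d => X.all (fun x => memB (rstep x d) X))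

theorem rstep_spec {x c : ℕ} {g : ↥G0} (hg : Rep P (iota g) c) (hx : valid P x = true) (hx' : row x 0 = x) :
    rv (rstep x c) = rho g (rv x) := by
  unfold rstep
  rw [rv_row_mul hx hg.val (by norm_num), hx', rho_apply, hg.eq]

theorem sepc_spec {l : List ↥G0} {m : List (ℕ × Bool)} (hc : Co l m) {g : ↥G0} {c : ℕ} (hg : Rep P (iota g) c)
    {X : List ℕ} {w : ℕ} (h : sepc c (m.map Prod.fst) X w = true) : g ∉ Subgroup.closure {x | x ∈ l} := by
  unfold sepc at h
  rw [Bool.and_eq_true, Bool.and_eq_true, Bool.and_eq_true] at h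
  obtain ⟨⟨⟨h1, h2⟩, h3⟩, h4⟩ := h
  have h1' : ∀ x ∈ X, valid P x = true ∧ row x 0 = x := by
    intro x hx
    have := List.all_eq_true.1 h1 x hx
    rw [Bool.and_eq_true, Nat.beq_eq] at this
    exact this
  have hstab : ∀ v ∈ l, ∀ x ∈ X, ∃ x' ∈ X, rho v (rv x) = rv x' := by
    have key : ∀ (l' : List ↥G0) (m' : List (ℕ × Bool)), Co l' m' →
        (∀ d ∈ m'.map Prod.fst, ∀ x ∈ X, rstep x d ∈ X) → ∀ v ∈ l', ∀ x ∈ X, ∃ x' ∈ X, rho v (rv x) = rv x' := by
      intro l' m' hc'
      induction hc' with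
      | nil => intro _ v hv; simp at hv
      | @cons g' c' b' l' m' hg' hb' hl' ih =>
        intro hd v hv x hx
        rcases List.mem_cons.1 hv with rfl | hv
        · refine ⟨_, hd c' (by simp) x hx, ?_⟩
          rw [rstep_spec hg' (h1' x hx).1 (h1' x hx).2]
        · exact ih (fun d hd' => hd d (by rw [List.map_cons]; exact List.mem_cons_of_mem _ hd')) v hv x hx
    apply key l m hc
    intro d hd x hx
    have := List.all_eq_true.1 (List.all_eq_true.1 h4 d hd) x hx
    rwa [memB_iff] at this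
  intro hmem
  have hall : ∀ x ∈ X, ∃ x' ∈ X, rho g (rv x) = rv x' := by
    rw [← Subgroup.mem_toSubmonoid, Subgroup.closure_toSubmonoid_of_finite] at hmem
    clear hg h2 h3
    induction hmem using Submonoid.closure_induction with
    | mem y hy => exact hstab y hy
    | one => intro x hx; exact ⟨x, hx, rho_one _⟩
    | mul y z _ _ ihy ihz =>
      intro x hx
      obtain ⟨x', hx', e⟩ := ihy x hx
      obtain ⟨x'', hx'', e'⟩ := ihz x' hx'
      exact ⟨x'', hx'', by rw [rho_mul, e, e']⟩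
  rw [memB_iff] at h2
  obtain ⟨x', hx', e⟩ := hall w h2
  rw [← rstep_spec hg (h1' w h2).1 (h1' w h2).2] at e
  have r1 : Red (rstep w c) := red_row (valid_mul ok (h1' w h2).1 hg.val) 0
  have r2 : Red x' := by
    have := red_row (h1' x' hx').1 0
    rwa [(h1' x' hx').2] at this
  have e2 := congrArg cv e
  rw [cv_rv r1, cv_rv r2] at e2
  rw [Bool.not_eq_true', ← Bool.not_eq_true, memB_iff, e2] at h3
  exact h3 hx'

theorem rz0 : Rep P (iota (gy * gy)) c_z0 := by rw [map_mul, ← ez_z0]; exact rep_gy.mul ok rep_gy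
theorem rz1 : Rep P (iota (wg GG w_y1 * wg GG w_y1)) c_z1 := by rw [map_mul, ← ez_z1]; exact r_y1.mul ok r_y1
theorem rz2 : Rep P (iota (wg GG w_y2 * wg GG w_y2)) c_z2 := by rw [map_mul, ← ez_z2]; exact r_y2.mul ok r_y2
theorem rz3 : Rep P (iota (wg GG w_y3 * wg GG w_y3)) c_z3 := by rw [map_mul, ← ez_z3]; exact r_y3.mul ok r_y3

noncomputable def VL : List ↥G0 := [gy, (gy * gy), (wg GG w_y3), (wg GG w_y2), (wg GG w_y1), ((wg GG w_y2) * (wg GG w_y2)), ((wg GG w_y1) * (wg GG w_y1)), ((wg GG w_y3) * (wg GG w_y3)), (wg GG w_u1), (wg GG w_u3), (wg GG w_u2), gu]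

def CL : List (ℕ × Bool) := [(cy, true), (c_z0, false), (c_y3, true), (c_y2, true), (c_y1, true), (c_z2, false), (c_z1, false), (c_z3, false), (c_u1, false), (c_u3, false), (c_u2, false), (cu, false)]

theorem s0 : sepc cy [c_z0, c_y3, c_y2, c_y1, c_z2, c_z1, c_z3, c_u1, c_u3, c_u2, cu] [68719476736, 68736253952] 68719476736 = true := by decide +kernel

theorem s1 : sepc c_z0 [c_y3, c_y2, c_y1, c_z2, c_z1, c_z3, c_u1, c_u3, c_u2, cu] [4398046511104, 4398063288320] 4398046511104 = true := by decide +kernel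

theorem s2 : sepc c_y3 [c_y2, c_y1, c_z2, c_z1, c_z3, c_u1, c_u3, c_u2, cu] [4398046511104] 4398046511104 = true := by decide +kernel

theorem s3 : sepc c_y2 [c_y1, c_z2, c_z1, c_z3, c_u1, c_u3, c_u2, cu] [281474976710656] 281474976710656 = true := by decide +kernel

theorem s4 : sepc c_y1 [c_z2, c_z1, c_z3, c_u1, c_u3, c_u2, cu] [68719476736] 68719476736 = true := by decide +kernel

theorem s5 : sepc c_z2 [c_z1, c_z3, c_u1, c_u3, c_u2, cu] [5847433797016317632695797919067189398922013442048] 5847433797016317632695797919067189398922013442048 = true := by decide +kernel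

theorem s6 : sepc c_z1 [c_z3, c_u1, c_u3, c_u2, cu] [1349997183219059906937333419849285632] 1349997183219059906937333419849285632 = true := by decide +kernel

theorem s7 : sepc c_z3 [c_u1, c_u3, c_u2, cu] [4096] 4096 = true := by decide +kernel

theorem s8 : sepc c_u1 [c_u3, c_u2, cu] [18014398509481984] 18014398509481984 = true := by decide +kernel

theorem s9 : sepc c_u3 [c_u2, cu] [302232607825161900523520] 302232607825161900523520 = true := by decide +kernel

theorem s10 : sepc c_u2 [cu] [64] 64 = true := by decide +kernel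

theorem s11 : sepc cu [] [1] 1 = true := by decide +kernel

theorem eps_sq (g : ↥G0) : eps (g * g) = bv false := by
  rw [map_mul]
  generalize eps g = x
  revert x; decide

theorem eps_wp {l : List ℕ} {b : Bool} (h : wpar l = b) : eps (wg GG l) = bv b := by rw [eps_w, h]

theorem co11 : Co [gu] [(cu, false)] := Co.cons rep_gu eps_gu Co.nil
theorem co10 : Co [(wg GG w_u2), gu] [(c_u2, false), (cu, false)] := Co.cons r_u2 (eps_wp (by decide)) co11
theorem co9 : Co [(wg GG w_u3), (wg GG w_u2), gu] [(c_u3, false), (c_u2, false), (cu, false)] :=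
  Co.cons r_u3 (eps_wp (by decide)) co10
theorem co8 : Co [(wg GG w_u1), (wg GG w_u3), (wg GG w_u2), gu]
    [(c_u1, false), (c_u3, false), (c_u2, false), (cu, false)] :=
  Co.cons r_u1 (eps_wp (by decide)) co9
theorem co7 : Co [(wg GG w_y3 * wg GG w_y3), (wg GG w_u1), (wg GG w_u3), (wg GG w_u2), gu]
    [(c_z3, false), (c_u1, false), (c_u3, false), (c_u2, false), (cu, false)] :=
  Co.cons rz3 (eps_sq _) co8
theorem co6 : Co [(wg GG w_y1 * wg GG w_y1), (wg GG w_y3 * wg GG w_y3), (wg GG w_u1), (wg GG w_u3), (wg GG w_u2), gu]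
    [(c_z1, false), (c_z3, false), (c_u1, false), (c_u3, false), (c_u2, false), (cu, false)] :=
  Co.cons rz1 (eps_sq _) co7
theorem co5 : Co [(wg GG w_y2 * wg GG w_y2), (wg GG w_y1 * wg GG w_y1), (wg GG w_y3 * wg GG w_y3), (wg GG w_u1),
      (wg GG w_u3), (wg GG w_u2), gu]
    [(c_z2, false), (c_z1, false), (c_z3, false), (c_u1, false), (c_u3, false), (c_u2, false), (cu, false)] :=
  Co.cons rz2 (eps_sq _) co6
theorem co4 : Co [(wg GG w_y1), (wg GG w_y2 * wg GG w_y2), (wg GG w_y1 * wg GG w_y1), (wg GG w_y3 * wg GG w_y3),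
      (wg GG w_u1), (wg GG w_u3), (wg GG w_u2), gu]
    [(c_y1, true), (c_z2, false), (c_z1, false), (c_z3, false), (c_u1, false), (c_u3, false), (c_u2, false),
      (cu, false)] :=
  Co.cons r_y1 (eps_wp (by decide)) co5
theorem co3 : Co [(wg GG w_y2), (wg GG w_y1), (wg GG w_y2 * wg GG w_y2), (wg GG w_y1 * wg GG w_y1),
      (wg GG w_y3 * wg GG w_y3), (wg GG w_u1), (wg GG w_u3), (wg GG w_u2), gu]
    [(c_y2, true), (c_y1, true), (c_z2, false), (c_z1, false), (c_z3, false), (c_u1, false), (c_u3, false),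
      (c_u2, false), (cu, false)] :=
  Co.cons r_y2 (eps_wp (by decide)) co4
theorem co2 : Co [(wg GG w_y3), (wg GG w_y2), (wg GG w_y1), (wg GG w_y2 * wg GG w_y2), (wg GG w_y1 * wg GG w_y1),
      (wg GG w_y3 * wg GG w_y3), (wg GG w_u1), (wg GG w_u3), (wg GG w_u2), gu]
    [(c_y3, true), (c_y2, true), (c_y1, true), (c_z2, false), (c_z1, false), (c_z3, false), (c_u1, false),
      (c_u3, false), (c_u2, false), (cu, false)] :=
  Co.cons r_y3 (eps_wp (by decide)) co3
theorem co1 : Co [(gy * gy), (wg GG w_y3), (wg GG w_y2), (wg GG w_y1), (wg GG w_y2 * wg GG w_y2),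
      (wg GG w_y1 * wg GG w_y1), (wg GG w_y3 * wg GG w_y3), (wg GG w_u1), (wg GG w_u3), (wg GG w_u2), gu]
    [(c_z0, false), (c_y3, true), (c_y2, true), (c_y1, true), (c_z2, false), (c_z1, false), (c_z3, false),
      (c_u1, false), (c_u3, false), (c_u2, false), (cu, false)] :=
  Co.cons rz0 (eps_sq _) co2
theorem co0 : Co VL CL := Co.cons rep_gy eps_gy co1

theorem sep_VL : Sep VL :=
  ⟨sepc_spec co1 rep_gy s0, sepc_spec co2 rz0 s1, sepc_spec co3 r_y3 s2, sepc_spec co4 r_y2 s3,
    sepc_spec co5 r_y1 s4, sepc_spec co6 rz2 s5, sepc_spec co7 rz1 s6, sepc_spec co8 rz3 s7, sepc_spec co9 r_u1 s8,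
    sepc_spec co10 r_u3 s9, sepc_spec co11 r_u2 s10, sepc_spec Co.nil rep_gu s11, trivial⟩

theorem en_check : en (one 6 52) CL (one 6 52) false = true := by decide +kernel

theorem XU {r : ℕ} (h : 24 ≤ r) : modelF4.X r (1 : ZMod 2) ∈ chevF4.posUnipotent (ZMod 2) := by
  apply Model.X_mem_pos
  have h1 := modelF4.nroots_eq
  have h2 := baseF4.nroots
  have h3 : tabF4.n = 48 := rfl
  omega

theorem mem_BG {g : ↥G0} : g ∈ BG ↔ (g : GL chevF4.Idx (ZMod 2)) ∈ chevF4.posUnipotent (ZMod 2) := by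
  unfold BG
  rw [Subgroup.mem_subgroupOf, Subgroup.mem_inf, borel_eq]
  exact ⟨fun h => h.1, fun h => ⟨h, g.2⟩⟩

theorem bgy : gy ∈ BG := by
  rw [mem_BG, gy_eq]
  exact mul_mem (XU (by norm_num)) (mul_mem (XU (by norm_num)) (XU (by norm_num)))
theorem bgu : gu ∈ BG := by
  rw [mem_BG, gu_eq]
  exact mul_mem (XU (by norm_num)) (XU (by norm_num))
theorem b_u1 : wg GG w_u1 ∈ BG := by rw [mem_BG, m_u1]; exact mul_mem (XU (by norm_num)) (XU (by norm_num))
theorem b_u2 : wg GG w_u2 ∈ BG := by rw [mem_BG, m_u2]; exact mul_mem (XU (by norm_num)) (XU (by norm_num))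
theorem b_u3 : wg GG w_u3 ∈ BG := by rw [mem_BG, m_u3]; exact mul_mem (XU (by norm_num)) (XU (by norm_num))
theorem b_y1 : wg GG w_y1 ∈ BG := by
  rw [mem_BG, m_y1]
  exact mul_mem (XU (by norm_num)) (mul_mem (XU (by norm_num)) (XU (by norm_num)))
theorem b_y2 : wg GG w_y2 ∈ BG := by
  rw [mem_BG, m_y2]
  exact mul_mem (XU (by norm_num)) (mul_mem (XU (by norm_num)) (XU (by norm_num)))
theorem b_y3 : wg GG w_y3 ∈ BG := by
  rw [mem_BG, m_y3]
  exact mul_mem (XU (by norm_num)) (mul_mem (XU (by norm_num)) (XU (by norm_num)))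

theorem VL_BG : ∀ v ∈ VL, v ∈ BG := by
  intro v hv
  unfold VL at hv
  simp only [List.mem_cons, List.not_mem_nil, or_false] at hv
  rcases hv with rfl | rfl | rfl | rfl | rfl | rfl | rfl | rfl | rfl | rfl | rfl | rfl
  · exact bgy
  · exact mul_mem bgy bgy
  · exact b_y3
  · exact b_y2
  · exact b_y1
  · exact mul_mem b_y2 b_y2
  · exact mul_mem b_y1 b_y1
  · exact mul_mem b_y3 b_y3
  · exact b_u1
  · exact b_u3
  · exact b_u2
  · exact bgu

theorem Pr_VL : Pr VL = (BG : Set ↥G0) := by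
  refine Set.eq_of_subset_of_ncard_le ?_ ?_ (Set.toFinite _)
  · intro x hx
    have h1 : Subgroup.closure {x | x ∈ VL} ≤ BG := (Subgroup.closure_le _).2 VL_BG
    exact h1 (Pr_sub VL hx)
  · rw [ncard_Pr VL sep_VL]
    have h1 : (BG : Set ↥G0).ncard = Nat.card ↥BG := rfl
    rw [h1, card_BG]
    exact le_of_eq rfl

/-- the elements of `U` outside of the commutator subgroup are no involutions -/
theorem BG_sq {b : ↥G0} (hb : b ∈ BG) (hT : b ∉ TG) : b * b ≠ 1 := by
  have h1 : b ∈ Pr VL := by rw [Pr_VL]; exact hb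
  have h2 := en_spec co0 1 (one 6 52) false (by rw [map_one]; exact rep_one ok (by norm_num)) (by rw [map_one]; rfl)
    en_check b h1
  rw [one_mul] at h2
  exact h2 hT

theorem BG_index : ¬ 2 ∣ BG.index := by
  have h := BG.card_mul_index
  rw [card_BG, card_G0] at h
  have : BG.index = 8775 := by omega
  rw [this]
  norm_num

theorem involutions_mem (g : ↥G0) (hg : orderOf g = 2) : g ∈ TG := by
  have : Fact (Nat.Prime 2) := ⟨Nat.prime_two⟩
  obtain ⟨h, hh⟩ := conj_mem_of_card BG bg_pgroup BG_index g hg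
  by_contra hn
  have hn' : h * g * h⁻¹ ∉ TG := by
    intro hc
    apply hn
    have h1 := (inferInstance : TG.Normal).conj_mem _ hc h⁻¹
    have e : h⁻¹ * (h * g * h⁻¹) * h⁻¹⁻¹ = g := by group
    rwa [e] at h1
  apply BG_sq hh hn'
  have h2 : g * g = 1 := by
    have h3 := pow_orderOf_eq_one g
    rwa [hg, sq] at h3
  have e : h * g * h⁻¹ * (h * g * h⁻¹) = h * (g * g) * h⁻¹ := by group
  rw [e, h2, mul_one, mul_inv_cancel]

end Cfsg.Agent.H11.Tits
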