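import Mathlib
import Cfsg.Prelude.Def_OddOrderChar
import Cfsg.Agent.H10_OOClif2
import Cfsg.Agent.H10_Fin1
import Cfsg.Agent.S1536

/-! Peterfalvi §12, local part: characters of a group of Frobenius type -/

set_option autoImplicit false
set_option linter.all false

namespace Cfsg.Agent.H1.PF12

open Cfsg Cfsg.Agent.H3.CharBasic Cfsg.Agent.H3.CharIrr Cfsg.Agent.H3.CharComplete
  Cfsg.Agent.H3.CharMult Cfsg.Agent.H3.CharInd Cfsg.Agent.H3.CharInt Cfsg.Agent.H3.Clifford Cfsg.Agent.H3.CharQuot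
  Cfsg.Agent.H10.OOClif Cfsg.Agent.H10.IndSet
  Cfsg.Agent.H10.PM Cfsg.Agent.H10.CycEx3 Cfsg.Agent.H10.IndSet2 Cfsg.Agent.H10.Sib2
open scoped ComplexConjugate

section Local
variable {L : Type*} [Group L] [Fintype L] {K : Subgroup L} (hK : K.Normal)

/-- Frobenius-type data -/
structure TF (K U U₁ : Subgroup L) : Prop where
  cop : Nat.Coprime (Nat.card K) K.index
  cmp : ∀ g : L, ∃ h ∈ K, ∃ v ∈ U, g = h * v
  fix : ∀ u ∈ U, ∀ k ∈ K, k ≠ 1 → u * k = k * u → u ∈ U₁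
  comm : ∀ a ∈ U₁, ∀ b ∈ U₁, a * b = b * a

/-- the characters of `L` not containing `K` in the kernel -/
def calX (K : Subgroup L) : Set (L → ℂ) := {χ | IsIrrCharacter L χ ∧ ∃ z ∈ K, χ z ≠ χ 1}

theorem fixed_iff (hcop : Nat.Coprime (Nat.card K) K.index) {θ : K → ℂ} (hθ : IsIrrCharacter K θ) (h1 : θ ≠ fun _ => 1)
    {x : L} (hx : x ∈ inertia hK θ) : ∃ k ∈ K, k ≠ 1 ∧ x * k = k * x := by
  haveI := hK
  exact (Cfsg.Agent.S1536.result K hcop x).1 ⟨θ, hθ, h1, hx⟩

theorem inertia_sub {U U₁ : Subgroup L} (h : TF K U U₁) {θ : K → ℂ} (hθ : IsIrrCharacter K θ) (h1 : θ ≠ fun _ => 1)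
    {x : L} (hx : x ∈ inertia hK θ) : ∃ k ∈ K, ∃ v ∈ U₁, x = k * v := by
  obtain ⟨k, hk, v, hv, rfl⟩ := h.cmp x
  have hv' : v ∈ inertia hK θ := by
    have h2 := (inertia hK θ).mul_mem ((inertia hK θ).inv_mem (le_inertia hK (IsIrr.isClass hθ) hk)) hx
    rwa [inv_mul_cancel_left] at h2
  obtain ⟨k', hk', hk1, hc⟩ := fixed_iff hK h.cop hθ h1 hv'
  exact ⟨k, hk, v, h.fix v hv k' hk' hk1 hc, rfl⟩

theorem inertia_comm {U U₁ : Subgroup L} (h : TF K U U₁) {θ : K → ℂ} (hθ : IsIrrCharacter K θ) (h1 : θ ≠ fun _ => 1)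
    {x y : L} (hx : x ∈ inertia hK θ) (hy : y ∈ inertia hK θ) : x * y * x⁻¹ * y⁻¹ ∈ K := by
  haveI := hK
  obtain ⟨k, hk, v, hv, rfl⟩ := inertia_sub hK h hθ h1 hx
  obtain ⟨k', hk', v', hv', rfl⟩ := inertia_sub hK h hθ h1 hy
  have e1 : (QuotientGroup.mk' K k) = 1 := (QuotientGroup.eq_one_iff k).2 hk
  have e2 : (QuotientGroup.mk' K k') = 1 := (QuotientGroup.eq_one_iff k').2 hk'
  rw [← QuotientGroup.eq_one_iff, ← QuotientGroup.coe_mk']
  simp only [map_mul, map_inv, e1, e2, one_mul, mul_inv_rev, inv_one, mul_one]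
  have e3 : QuotientGroup.mk' K v * QuotientGroup.mk' K v' = QuotientGroup.mk' K v' * QuotientGroup.mk' K v := by
    rw [← map_mul, ← map_mul, h.comm v hv v' hv']
  rw [e3]; group

include hK in
theorem exists_theta [Fintype K] {χ : L → ℂ} (hχ : χ ∈ calX K) :
    ∃ θ : K → ℂ, IsIrrCharacter K θ ∧ (θ ≠ fun _ => 1) ∧ classInner (fun k : K => χ k) θ ≠ 0 := by
  obtain ⟨hirr, z, hz, hne⟩ := hχ
  obtain ⟨θ, hθ, hc⟩ := exists_constituent_res (H := K) hirr
  have hc' : classInner (indFun K θ) χ ≠ 0 := (constituent_ind_iff (IsIrr.isCharacter hirr)).2 hc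
  refine ⟨θ, hθ, ?_, hc⟩
  rintro rfl
  apply hne
  apply ker_const (IsChar.ind (IsIrr.isCharacter hθ)) hirr hc'
  exact (ker_ind hK hK le_rfl (IsIrr.isCharacter hθ) (IsIrr.one_ne_zero hθ)).1 (fun a _ => rfl) z hz

include hK in
theorem vanish (hcop : Nat.Coprime (Nat.card K) K.index) {χ : L → ℂ} (hχ : χ ∈ calX K) {g : L}
    (hg : ∀ k ∈ K, g * k = k * g → k = 1) : χ g = 0 := by
  haveI := Fintype.ofFinite K
  obtain ⟨θ, hθ, hθ1, hc⟩ := exists_theta hK hχ
  haveI := Fintype.ofFinite (inertia hK θ)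
  obtain ⟨ψ, hψ, hind, -⟩ := clifford_corr hK hχ.1 hθ hc (inertia hK θ) rfl (le_inertia hK (IsIrr.isClass hθ))
  rw [← hind, indFun, Finset.sum_eq_zero, mul_zero]
  intro x _
  apply ext_not_mem
  intro hx
  obtain ⟨k, hk, hk1, hc⟩ := fixed_iff hK hcop hθ hθ1 hx
  apply hk1
  have h1 := hg (x * k * x⁻¹) (hK.conj_mem k hk x) (by
    calc g * (x * k * x⁻¹) = x * ((x⁻¹ * g * x) * k) * x⁻¹ := by group
      _ = x * (k * (x⁻¹ * g * x)) * x⁻¹ := by rw [hc]
      _ = _ := by group)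
  exact conj_eq_one_iff.1 h1

/-- the irreducible constituents of an induced character -/
noncomputable def CC (K : Subgroup L) (θ : K → ℂ) : Finset (L → ℂ) := by
  classical
  letI : Fintype (IrrCharacter L) := Fintype.ofFinite _
  exact Finset.image (fun χ : IrrCharacter L => (χ : L → ℂ))
    (Finset.univ.filter fun χ : IrrCharacter L => classInner (indFun K θ) (χ : L → ℂ) ≠ 0)

theorem mem_CC {θ : K → ℂ} {χ : L → ℂ} : χ ∈ CC K θ ↔ IsIrrCharacter L χ ∧ classInner (indFun K θ) χ ≠ 0 := by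
  classical
  letI : Fintype (IrrCharacter L) := Fintype.ofFinite _
  unfold CC
  rw [Finset.mem_image]
  constructor
  · rintro ⟨φ, hφ, rfl⟩
    exact ⟨φ.2, (Finset.mem_filter.1 hφ).2⟩
  · rintro ⟨h1, h2⟩
    exact ⟨⟨χ, h1⟩, Finset.mem_filter.2 ⟨Finset.mem_univ _, h2⟩, rfl⟩

theorem mem_CC_iff [Fintype K] {θ : K → ℂ} {χ : L → ℂ} (hχ : IsIrrCharacter L χ) :
    χ ∈ CC K θ ↔ classInner (fun k : K => χ k) θ ≠ 0 := by
  rw [mem_CC, constituent_ind_iff (IsIrr.isCharacter hχ)]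
  exact ⟨fun h => h.2, fun h => ⟨hχ, h⟩⟩

theorem CC_sub {θ : K → ℂ} (hθ : IsIrrCharacter K θ) (h1 : θ ≠ fun _ => 1) {χ : L → ℂ} (hχ : χ ∈ CC K θ) : χ ∈ calX K := by
  haveI := Fintype.ofFinite K
  obtain ⟨h2, h3⟩ := mem_CC.1 hχ
  refine ⟨h2, ?_⟩
  by_contra hcon
  push Not at hcon
  apply h1
  have h4 := (constituent_ind_iff (IsIrr.isCharacter h2)).1 h3
  have h5 : (fun k : K => χ k) = χ 1 • (fun _ : K => (1 : ℂ)) := by
    funext k
    rw [hcon k k.2]; simp
  rw [h5, ci_smul_left] at h4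
  by_contra h6
  apply h4
  rw [ci_irr_ne isIrr_one hθ (fun h => h6 h.symm), mul_zero]

include hK in
theorem sum_CC {U U₁ : Subgroup L} (h : TF K U U₁) {θ : K → ℂ} (hθ : IsIrrCharacter K θ) (h1 : θ ≠ fun _ => 1) :
    indFun K θ = ∑ χ ∈ CC K θ, χ ∧ ∀ χ ∈ CC K θ, classInner (indFun K θ) χ = 1 := by
  classical
  haveI := hK
  haveI := Fintype.ofFinite K
  obtain ⟨e, C, he, hC, hcard, hind, hdeg, hext⟩ := Cfsg.Agent.H10.OOClif2.ind_full hK hθ (inertia hK θ) rfl
    (fun x hx y hy => inertia_comm hK h hθ h1 hx hy)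
  have he1 : e = 1 := by
    apply hext
    set T := inertia hK θ with hT
    have hKT : K ≤ T := le_inertia hK (IsIrr.isClass hθ)
    haveI := Fintype.ofFinite T
    haveI := Fintype.ofFinite (K.subgroupOf T)
    have hN' : (K.subgroupOf T).Normal := hK.subgroupOf T
    set θ' : K.subgroupOf T → ℂ := fun x => θ ⟨(x : T), Subgroup.mem_subgroupOf.mp x.2⟩ with hθ'
    have hθ'irr : IsIrrCharacter (K.subgroupOf T) θ' :=
      (isIrr_comp_iff (Subgroup.subgroupOfEquivOfLe hKT)).mpr hθ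
    have hinv : ∀ g : T, cj hN' g θ' = θ' := by
      intro g
      have h2 : (g : L) ∈ inertia hK θ := by rw [← hT]; exact g.2
      rw [mem_inertia] at h2
      ext x
      exact congrFun h2 ⟨(x : T), Subgroup.mem_subgroupOf.mp x.2⟩
    have hcop' : Nat.Coprime (Nat.card (K.subgroupOf T)) (K.subgroupOf T).index := by
      have e1 : Nat.card (K.subgroupOf T) = Nat.card K := Nat.card_congr (Subgroup.subgroupOfEquivOfLe hKT).toEquiv
      rw [e1]
      exact Nat.Coprime.coprime_dvd_right (Subgroup.relIndex_dvd_index_of_normal K T) h.cop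
    obtain ⟨ψ, hψ, hψ'⟩ := Cfsg.Agent.H10.OOClif2.extend hN' (fun x y => by
      rw [Subgroup.mem_subgroupOf]; exact inertia_comm hK h hθ h1 x.2 y.2) hcop' hθ'irr hinv
    refine ⟨ψ, hψ, fun n hn => ?_⟩
    exact hψ' ⟨n, Subgroup.mem_subgroupOf.2 hn⟩
  subst he1
  rw [Nat.cast_one, one_smul] at hind
  have hval : ∀ χ : L → ℂ, IsIrrCharacter L χ → classInner (indFun K θ) χ = if χ ∈ C then 1 else 0 := by
    intro χ hχ
    rw [hind, ci_sum_left]
    by_cases hm : χ ∈ C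
    · rw [if_pos hm, Finset.sum_eq_single χ, ci_irr_self hχ]
      · intro b hb hne
        exact ci_irr_ne (hC b hb) hχ hne
      · intro h; exact absurd hm h
    · rw [if_neg hm, Finset.sum_eq_zero]
      intro b hb
      exact ci_irr_ne (hC b hb) hχ (fun h => hm (h ▸ hb))
  have hCC : CC K θ = C := by
    ext χ
    rw [mem_CC]
    constructor
    · rintro ⟨h2, h3⟩
      rw [hval χ h2] at h3
      by_contra h4
      rw [if_neg h4] at h3
      exact h3 rfl
    · intro h2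
      exact ⟨hC χ h2, by rw [hval χ (hC χ h2), if_pos h2]; exact one_ne_zero⟩
  rw [hCC]
  exact ⟨hind, fun χ hχ => by rw [hval χ (hC χ hχ), if_pos hχ]⟩

include hK in
theorem CC_res {U U₁ : Subgroup L} (h : TF K U U₁) {θ : K → ℂ} (hθ : IsIrrCharacter K θ) (h1 : θ ≠ fun _ => 1) {χ χ' : L → ℂ}
    (hχ : χ ∈ CC K θ) (hχ' : χ' ∈ CC K θ) : ∀ k ∈ K, χ k = χ' k := by
  haveI := Fintype.ofFinite K
  have key : ∀ χ ∈ CC K θ, (fun k : K => χ k) = ∑ ψ ∈ orb hK θ, ψ := by
    intro χ hχ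
    have h2 := (mem_CC.1 hχ).1
    have h3 := (mem_CC_iff h2).1 hχ
    have h4 := (sum_CC hK h hθ h1).2 χ hχ
    rw [frobenius K θ χ (IsIrr.isClass h2), ← ci_conj_symm] at h4
    have h5 : classInner (fun k : K => χ k) θ = 1 := by
      have := congrArg conj h4
      rwa [Complex.conj_conj, map_one] at this
    have h6 := clifford hK h2 hθ h3
    rw [h5, one_smul] at h6
    exact h6
  intro k hk
  have := (key χ hχ).trans (key χ' hχ').symm
  exact congrFun this ⟨k, hk⟩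

include hK in
theorem CC_disj {θ θ' : K → ℂ} (hθ : IsIrrCharacter K θ) (hθ' : IsIrrCharacter K θ') {χ : L → ℂ}
    (h1 : χ ∈ CC K θ) (h2 : χ ∈ CC K θ') : ∃ g : L, θ' = cj hK g θ := by
  haveI := Fintype.ofFinite K
  have h3 := (mem_CC.1 h1).1
  exact eq_cj_of_constituents hK h3 hθ hθ' ((mem_CC_iff h3).1 h1) ((mem_CC_iff h3).1 h2)

theorem CC_conj {θ : K → ℂ} {χ : L → ℂ} (h : χ ∈ CC K θ) : conjFun χ ∈ CC K (conjFun θ) := by
  obtain ⟨h1, h2⟩ := mem_CC.1 h
  refine mem_CC.2 ⟨IsIrr.conj h1, ?_⟩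
  rw [← conj_ind, conj_inner]
  exact (map_ne_zero _).2 h2

include hK in
theorem not_conj_orb (hodd : Odd (Nat.card L)) {θ : K → ℂ} (hθ : IsIrrCharacter K θ) (h1 : θ ≠ fun _ => 1) (g : L) :
    conjFun θ ≠ cj hK g θ := by
  haveI := Fintype.ofFinite K
  intro he
  have h2 : cj hK g (conjFun θ) = θ := by
    have h3 : cj hK g (conjFun θ) = conjFun (cj hK g θ) := rfl
    rw [h3, ← he, conj_conj']
  have h3 : g * g ∈ inertia hK θ := by
    rw [mem_inertia, ← cj_cj, ← he, h2]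
  have hog : Odd (orderOf g) := hodd.of_dvd_nat (orderOf_dvd_natCard g)
  obtain ⟨m, hm⟩ := hog
  have h4 : g = (g * g) ^ (m + 1) := by
    rw [← pow_two, ← pow_mul]
    have : 2 * (m + 1) = orderOf g + 1 := by omega
    rw [this, pow_succ, pow_orderOf_eq_one, one_mul]
  have h5 : g ∈ inertia hK θ := by
    rw [h4]; exact (inertia hK θ).pow_mem h3 _
  rw [(mem_inertia hK θ g).1 h5] at he
  exact irr_ne_conj (hodd.of_dvd_nat (Subgroup.card_subgroup_dvd_card K)) hθ h1 he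

include hK in
theorem CC_not_conj (hodd : Odd (Nat.card L)) {θ : K → ℂ} (hθ : IsIrrCharacter K θ) (h1 : θ ≠ fun _ => 1) {χ : L → ℂ}
    (hχ : χ ∈ CC K θ) : conjFun χ ∉ CC K θ := by
  intro h
  haveI := Fintype.ofFinite K
  have h2 := CC_conj hχ
  obtain ⟨g, hg⟩ := CC_disj hK hθ (IsIrr.conj hθ) h h2
  exact not_conj_orb hK hodd hθ h1 g hg

theorem X_not_real (hodd : Odd (Nat.card L)) {χ : L → ℂ} (hχ : χ ∈ calX K) : conjFun χ ≠ χ := by
  apply irr_ne_conj hodd hχ.1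
  rintro rfl
  obtain ⟨-, z, -, h⟩ := hχ
  exact h rfl

theorem X_conj {χ : L → ℂ} (hχ : χ ∈ calX K) : conjFun χ ∈ calX K := by
  obtain ⟨h1, z, hz, h⟩ := hχ
  exact ⟨IsIrr.conj h1, z, hz, fun he => h ((starRingEnd ℂ).injective he)⟩

include hK in
/-- class functions with the same inner products with characters agreeing on `K` are constant on the cosets off `K` -/
theorem const_coset {U U₁ : Subgroup L} (h : TF K U U₁) {f : L → ℂ} (hf : IsClassFunction L f)
    (hfX : ∀ θ : K → ℂ, IsIrrCharacter K θ → θ ≠ (fun _ => 1) → ∀ χ ∈ CC K θ, ∀ χ' ∈ CC K θ, classInner f χ = classInner f χ') :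
    ∀ x, x ∉ K → ∀ k ∈ K, f (k * x) = f x := by
  classical
  haveI := hK
  haveI := Fintype.ofFinite K
  haveI := Fintype.ofFinite (IrrCharacter L)
  set f₁ : L → ℂ := fun x => if x ∈ K then 0 else f x with hf₁
  have hf₁c : IsClassFunction L f₁ := by
    intro x g
    simp only [hf₁]
    have hiff : (g * x * g⁻¹ ∈ K) ↔ x ∈ K := by
      constructor
      · intro hh
        have := hK.conj_mem _ hh g⁻¹
        have e : g⁻¹ * (g * x * g⁻¹) * g⁻¹⁻¹ = x := by group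
        rwa [e] at this
      · intro hh; exact hK.conj_mem _ hh g
    by_cases hx : x ∈ K
    · rw [if_pos hx, if_pos (hiff.2 hx)]
    · rw [if_neg hx, if_neg (fun hh => hx (hiff.1 hh)), hf]
  have hzero : ∀ χ ∈ calX K, classInner f₁ χ = 0 := by
    intro χ hχ
    obtain ⟨θ, hθ, hθ1, hc⟩ := exists_theta hK hχ
    have hm : χ ∈ CC K θ := (mem_CC_iff hχ.1).2 hc
    have hdiff : ∀ χ' ∈ CC K θ, classInner f₁ χ' = classInner f₁ χ := by
      intro χ' hm'
      have h2 := hfX θ hθ hθ1 χ hm χ' hm'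
      have h3 : classInner f₁ (χ - χ') = classInner f (χ - χ') := by
        rw [classInner, classInner]
        congr 1
        refine Finset.sum_congr rfl fun x _ => ?_
        by_cases hx : x ∈ K
        · rw [Pi.sub_apply, CC_res hK h hθ hθ1 hm hm' x hx, sub_self, map_zero, mul_zero, mul_zero]
        · simp only [hf₁, if_neg hx]
      rw [ci_sub_right, ci_sub_right, h2, sub_self] at h3
      exact (sub_eq_zero.1 h3).symm
    have hs : ∑ χ' ∈ CC K θ, classInner f₁ χ' = 0 := by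
      rw [← ci_sum_right, ← (sum_CC hK h hθ hθ1).1, classInner, Finset.sum_eq_zero, mul_zero]
      intro x _
      by_cases hx : x ∈ K
      · simp only [hf₁, if_pos hx, zero_mul]
      · rw [ind_of_not_mem hK θ hx, map_zero, mul_zero]
    rw [Finset.sum_congr rfl hdiff, Finset.sum_const, nsmul_eq_mul] at hs
    rcases mul_eq_zero.1 hs with h4 | h4
    · exfalso
      have : (CC K θ).card = 0 := by exact_mod_cast h4
      rw [Finset.card_eq_zero] at this
      rw [this] at hm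
      exact absurd hm (Finset.notMem_empty _)
    · exact h4
  intro x hx k hk
  have hkx : k * x ∉ K := fun hh => hx (by
    have := K.mul_mem (K.inv_mem hk) hh
    rwa [inv_mul_cancel_left] at this)
  have h1 : f₁ (k * x) = f₁ x := by
    rw [expand_apply f₁ hf₁c (k * x), expand_apply f₁ hf₁c x]
    refine Finset.sum_congr rfl fun χ _ => ?_
    by_cases hm : (χ : L → ℂ) ∈ calX K
    · rw [hzero _ hm, zero_mul, zero_mul]
    · have h2 : (χ : L → ℂ) k = (χ : L → ℂ) 1 := by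
        by_contra hne
        exact hm ⟨χ.2, k, hk, hne⟩
      rw [IsChar.mul_ker (IsIrr.isCharacter χ.2) h2]
  simpa only [hf₁, if_neg hx, if_neg hkx] using h1

end Local

end Cfsg.Agent.H1.PF12
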