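import Mathlib
import Cfsg.Agent.H1_PF12a
import Cfsg.Agent.H10_Coh4

/-! Peterfalvi §12: orthogonality arguments for isometries -/

set_option autoImplicit false
set_option linter.all false

namespace Cfsg.Agent.H1.PF12

open Cfsg Cfsg.Agent.H3.CharBasic Cfsg.Agent.H3.CharIrr Cfsg.Agent.H3.CharComplete
  Cfsg.Agent.H3.CharMult Cfsg.Agent.H3.CharInd Cfsg.Agent.H3.CharInt Cfsg.Agent.H3.Clifford Cfsg.Agent.H3.CharQuot
  Cfsg.Agent.H10.OOClif Cfsg.Agent.H10.IndSet
  Cfsg.Agent.H10.PM Cfsg.Agent.H10.CycEx3 Cfsg.Agent.H10.IndSet2 Cfsg.Agent.H10.Sib2 Cfsg.Agent.H10.Coh Cfsg.Agent.H10.Coh4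
open scoped ComplexConjugate

section Orth
variable {G : Type*} [Group G] [Fintype G]

theorem orth_pair {ψ μ : G → ℂ} (hψ : Pm ψ) (hμ : IsIrrCharacter G μ) (hne : conjFun μ ≠ μ)
    (h : classInner ψ (μ - conjFun μ) = 0) : classInner ψ μ = 0 ∧ classInner ψ (conjFun μ) = 0 := by
  have h1 := Pm.inner hψ (Pm.of_irr hμ)
  have h2 := Pm.inner (g := conjFun μ) hψ (Pm.of_irr (IsIrr.conj hμ : IsIrrCharacter G (conjFun μ)))
  rw [ci_sub_right] at h
  rcases h1 with h1 | ⟨e1, h1⟩ | ⟨e1, h1⟩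
  · rw [h1, zero_sub, neg_eq_zero] at h; exact ⟨h1, h⟩
  · exfalso
    rcases h2 with h2 | ⟨e2, h2⟩ | ⟨e2, h2⟩
    · rw [h1, h2] at h; norm_num at h
    · exact hne (e2.trans e1.symm)
    · rw [h1, h2] at h; norm_num at h
  · exfalso
    rcases h2 with h2 | ⟨e2, h2⟩ | ⟨e2, h2⟩
    · rw [h1, h2] at h; norm_num at h
    · rw [h1, h2] at h; norm_num at h
    · exact hne (e2.trans e1.symm)

theorem span_orth {ι : Type*} [DecidableEq ι] (s : Finset ι) (μ : ι → G → ℂ) {v ψ : G → ℂ} (hv : IsGeneralizedCharacter G v)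
    (hμ : ∀ i ∈ s, IsIrrCharacter G (μ i)) (hμc : ∀ i ∈ s, conjFun (μ i) ≠ μ i)
    (hdisj : ∀ i ∈ s, ∀ j ∈ s, i ≠ j → μ i ≠ μ j ∧ μ i ≠ conjFun (μ j))
    (hin : ∀ i ∈ s, classInner v (μ i - conjFun (μ i)) ≠ 0)
    (hn : classInner v v = s.card) (hψ : Pm ψ) (hψμ : ∀ i ∈ s, classInner ψ (μ i - conjFun (μ i)) = 0) :
    classInner v ψ = 0 := by
  classical
  -- choose representatives
  have hch : ∀ i, ∃ a : G → ℂ, i ∈ s → (a = μ i ∨ a = conjFun (μ i)) ∧ classInner v a ≠ 0 := by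
    intro i
    by_cases hi : i ∈ s
    · by_cases h : classInner v (μ i) = 0
      · refine ⟨conjFun (μ i), fun _ => ⟨Or.inr rfl, fun h' => hin i hi ?_⟩⟩
        rw [ci_sub_right, h, h', sub_zero]
      · exact ⟨μ i, fun _ => ⟨Or.inl rfl, h⟩⟩
    · exact ⟨0, fun h => absurd h hi⟩
  choose a ha using hch
  have hairr : ∀ i ∈ s, IsIrrCharacter G (a i) := by
    intro i hi
    rcases (ha i hi).1 with h | h
    · rw [h]; exact hμ i hi
    · rw [h]; exact IsIrr.conj (hμ i hi)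
  have hane : ∀ i ∈ s, ∀ j ∈ s, i ≠ j → a i ≠ a j := by
    intro i hi j hj hij
    obtain ⟨h1, h2⟩ := hdisj i hi j hj hij
    rcases (ha i hi).1 with h | h <;> rcases (ha j hj).1 with h' | h' <;> rw [h, h']
    · exact h1
    · exact h2
    · intro h3
      apply h2
      rw [← h3, conj_conj']
    · intro h3
      apply h1
      rw [← conj_conj' (μ i), h3, conj_conj']
  have hψa : ∀ i ∈ s, classInner ψ (a i) = 0 := by
    intro i hi
    obtain ⟨h1, h2⟩ := orth_pair hψ (hμ i hi) (hμc i hi) (hψμ i hi)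
    rcases (ha i hi).1 with h | h
    · rw [h]; exact h1
    · rw [h]; exact h2
  have hint : ∀ f : G → ℂ, Pm f → ∃ n : ℤ, classInner v f = n := fun f hf => ci_gen_int hv hf.gen
  obtain ⟨m, hm⟩ := hint ψ hψ
  have hch2 : ∀ i, ∃ n : ℤ, i ∈ s → classInner v (a i) = n := by
    intro i
    by_cases hi : i ∈ s
    · obtain ⟨n, hn⟩ := hint (a i) (Pm.of_irr (hairr i hi))
      exact ⟨n, fun _ => hn⟩
    · exact ⟨0, fun h => absurd h hi⟩
  choose c hc using hch2
  have hb := bessel_le (Finset.insertNone s) (fun o : Option ι => o.elim ψ a) v (fun o : Option ι => o.elim (m : ℝ) (fun i => (c i : ℝ)))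
    (fun _ => 1) ?_ ?_ ?_
  · rw [hn, Finset.sum_insertNone] at hb
    simp only [Option.elim, div_one] at hb
    have h1 : (s.card : ℝ) ≤ ∑ i ∈ s, (c i : ℝ) ^ 2 := by
      rw [Finset.card_eq_sum_ones]
      push_cast
      apply Finset.sum_le_sum
      intro i hi
      have h2 : c i ≠ 0 := by
        intro h0
        apply (ha i hi).2
        rw [hc i hi, h0, Int.cast_zero]
      have h3 : (1 : ℤ) ≤ c i ^ 2 := by
        have := sq_nonneg (c i)
        rcases lt_or_gt_of_ne h2 with h | h <;> nlinarith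
      exact_mod_cast h3
    rw [Complex.natCast_re] at hb
    have h4 : (m : ℝ) ^ 2 ≤ 0 := by linarith
    have h5 : (m : ℝ) = 0 := by
      have := sq_nonneg (m : ℝ)
      exact pow_eq_zero_iff (two_ne_zero) |>.1 (le_antisymm h4 this)
    rw [hm]
    have : m = 0 := by exact_mod_cast h5
    rw [this, Int.cast_zero]
  · intro o ho o' ho'
    rcases o with _ | i <;> rcases o' with _ | j
    · simp only [Option.elim, if_true, Complex.ofReal_one]
      exact hψ.norm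
    · have hj : j ∈ s := by simpa using ho'
      simp only [Option.elim]
      rw [if_neg (by simp)]
      exact hψa j hj
    · have hi : i ∈ s := by simpa using ho
      simp only [Option.elim]
      rw [if_neg (by simp), Pm.comm (Pm.of_irr (hairr i hi)) hψ]
      exact hψa i hi
    · have hi : i ∈ s := by simpa using ho
      have hj : j ∈ s := by simpa using ho'
      simp only [Option.elim]
      by_cases hij : i = j
      · subst hij
        rw [if_pos rfl, ci_irr_self (hairr i hi)]; simp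
      · rw [if_neg (fun h => hij (Option.some.inj h)), ci_irr_ne (hairr i hi) (hairr j hj) (hane i hi j hj hij)]
  · intro _ _; exact one_pos
  · intro o ho
    rcases o with _ | i
    · simp only [Option.elim]; rw [hm]; simp
    · have hi : i ∈ s := by simpa using ho
      simp only [Option.elim]; rw [hc i hi]; simp

end Orth

section Iso
variable {G : Type*} [Group G] [Fintype G] {L : Type*} [Group L] [Fintype L] {K : Subgroup L} (hK : K.Normal)
  {τ : (L → ℂ) → (G → ℂ)}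

structure IsoData (K : Subgroup L) (τ : (L → ℂ) → (G → ℂ)) : Prop where
  iso : IsLinearIsometryOn (zspanOn (calX K) {1}ᶜ) τ
  mu : ∀ χ ∈ calX K, ∃ μ, IsIrrCharacter G μ ∧ τ (χ - conjFun χ) = μ - conjFun μ

theorem X_one {χ : L → ℂ} (hχ : χ ∈ calX K) : conjFun χ 1 = χ 1 := by
  obtain ⟨m, -, hm⟩ := IsIrr.one_eq_nat hχ.1
  rw [conjFun, hm, Complex.conj_natCast]

theorem X_diff_mem {χ : L → ℂ} (hχ : χ ∈ calX K) : χ - conjFun χ ∈ zspanOn (calX K) {1}ᶜ := by
  rw [zo_iff]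
  exact ⟨zs_diff (zs_sub hχ) (zs_sub (X_conj hχ)), by rw [Pi.sub_apply, X_one hχ, sub_self]⟩

theorem X_diff_norm (hodd : Odd (Nat.card L)) {χ : L → ℂ} (hχ : χ ∈ calX K) :
    classInner (χ - conjFun χ) (χ - conjFun χ) = 2 := by
  have h1 := X_not_real hodd hχ
  have h2 := (X_conj hχ).1
  rw [ci_sub_left, ci_sub_right, ci_sub_right, ci_irr_self hχ.1, ci_irr_self h2, ci_irr_ne hχ.1 h2 h1.symm,
    ci_irr_ne h2 hχ.1 h1]
  norm_num

theorem mu_not_real (hI : IsoData K τ) (hodd : Odd (Nat.card L)) {χ : L → ℂ} (hχ : χ ∈ calX K) {μ : G → ℂ}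
    (hτμ : τ (χ - conjFun χ) = μ - conjFun μ) : conjFun μ ≠ μ := by
  intro h
  rw [h, sub_self] at hτμ
  have h1 := hI.iso.2.2.1 _ (X_diff_mem hχ) _ (X_diff_mem hχ)
  rw [X_diff_norm hodd hχ, hτμ, ci_zero_left] at h1
  norm_num at h1

theorem mu_disj (hI : IsoData K τ) (hodd : Odd (Nat.card L)) {χ χ' : L → ℂ} (hχ : χ ∈ calX K) (hχ' : χ' ∈ calX K)
    (h1 : χ ≠ χ') (h2 : χ ≠ conjFun χ') {μ μ' : G → ℂ} (hμ : τ (χ - conjFun χ) = μ - conjFun μ)
    (hμ' : τ (χ' - conjFun χ') = μ' - conjFun μ') : μ ≠ μ' ∧ μ ≠ conjFun μ' := by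
  have h3 := hI.iso.2.2.1 _ (X_diff_mem hχ) _ (X_diff_mem hχ')
  have h3' := hI.iso.2.2.1 _ (X_diff_mem hχ) _ (X_diff_mem hχ)
  rw [X_diff_norm hodd hχ] at h3'
  have h4 : classInner (χ - conjFun χ) (χ' - conjFun χ') = 0 := by
    have c1 := (X_conj hχ).1
    have c2 := (X_conj hχ').1
    rw [ci_sub_left, ci_sub_right, ci_sub_right, ci_irr_ne hχ.1 hχ'.1 h1, ci_irr_ne hχ.1 c2 h2,
      ci_irr_ne c1 hχ'.1 (fun h => h2 (by rw [← h, conj_conj'])), ci_irr_ne c1 c2 (fun h => h1 (by rw [← conj_conj' χ, h, conj_conj']))]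
    norm_num
  rw [h4] at h3
  constructor
  · rintro rfl
    rw [hμ', ← hμ, h3'] at h3
    norm_num at h3
  · rintro rfl
    have e1 : τ (χ' - conjFun χ') = (-1 : ℂ) • τ (χ - conjFun χ) := by
      rw [hμ', hμ, conj_conj']
      simp
    rw [e1, ci_smul_right, h3'] at h3
    norm_num at h3

theorem iso_sum_zo (hI : IsoData K τ) {ι : Type*} (s : Finset ι) (f : ι → L → ℂ) (hf : ∀ i ∈ s, f i ∈ zspanOn (calX K) {1}ᶜ) :
    (∑ i ∈ s, f i) ∈ zspanOn (calX K) {1}ᶜ ∧ τ (∑ i ∈ s, f i) = ∑ i ∈ s, τ (f i) := by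
  classical
  induction s using Finset.induction with
  | empty =>
    refine ⟨by rw [Finset.sum_empty]; exact zo_zero, ?_⟩
    rw [Finset.sum_empty, Finset.sum_empty]
    exact iso_zero hI.iso zo_zero
  | insert i s hi ih =>
    obtain ⟨h1, h2⟩ := ih (fun j hj => hf j (Finset.mem_insert_of_mem hj))
    have h3 := hf i (Finset.mem_insert_self _ _)
    rw [Finset.sum_insert hi, Finset.sum_insert hi]
    exact ⟨zo_add h3 h1, by rw [hI.iso.1 _ h3 _ h1, h2]⟩

theorem orth_alpha (hI : IsoData K τ) (hodd : Odd (Nat.card L)) {ψ : G → ℂ} (hψ : Pm ψ)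
    (hψX : ∀ χ ∈ calX K, classInner ψ (τ (χ - conjFun χ)) = 0) (D : Finset (L → ℂ)) (hD : ∀ χ ∈ D, χ ∈ calX K)
    (hDc : ∀ χ ∈ D, conjFun χ ∉ D) (ε : (L → ℂ) → ℤ) (hε : ∀ χ ∈ D, ε χ = 1 ∨ ε χ = -1)
    (h1 : (∑ χ ∈ D, ε χ • χ) 1 = 0) : classInner (τ (∑ χ ∈ D, ε χ • χ)) ψ = 0 := by
  classical
  set α := ∑ χ ∈ D, ε χ • χ with hα
  have hαz : α ∈ zspanOn (calX K) {1}ᶜ := by
    rw [zo_iff]
    exact ⟨zs_sum _ _ (fun χ hχ => zs_zsmul _ (zs_sub (hD χ hχ))), h1⟩
  have hch : ∀ χ, ∃ μ : G → ℂ, χ ∈ D → IsIrrCharacter G μ ∧ τ (χ - conjFun χ) = μ - conjFun μ := by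
    intro χ
    by_cases h : χ ∈ D
    · obtain ⟨μ, h2, h3⟩ := hI.mu χ (hD χ h)
      exact ⟨μ, fun _ => ⟨h2, h3⟩⟩
    · exact ⟨0, fun h' => absurd h' h⟩
  choose μ hμ using hch
  have hval : ∀ χ' : L → ℂ, IsIrrCharacter L χ' → classInner α χ' = if χ' ∈ D then (ε χ' : ℂ) else 0 := by
    intro χ' hχ'
    rw [hα, ci_sum_left]
    by_cases hm : χ' ∈ D
    · rw [if_pos hm, Finset.sum_eq_single χ', ← Int.cast_smul_eq_zsmul ℂ, ci_smul_left, ci_irr_self hχ', mul_one]
      · intro b hb hne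
        rw [← Int.cast_smul_eq_zsmul ℂ, ci_smul_left, ci_irr_ne (hD b hb).1 hχ' hne, mul_zero]
      · intro h; exact absurd hm h
    · rw [if_neg hm, Finset.sum_eq_zero]
      intro b hb
      rw [← Int.cast_smul_eq_zsmul ℂ, ci_smul_left, ci_irr_ne (hD b hb).1 hχ' (fun h => hm (h ▸ hb)), mul_zero]
  apply span_orth D μ (hI.iso.2.2.2 α hαz) (fun χ hχ => (hμ χ hχ).1) (fun χ hχ => mu_not_real hI hodd (hD χ hχ) (hμ χ hχ).2)
  · intro χ hχ χ' hχ' hne
    exact mu_disj hI hodd (hD χ hχ) (hD χ' hχ') hne (fun h => hDc χ' hχ' (h ▸ hχ)) (hμ χ hχ).2 (hμ χ' hχ').2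
  · intro χ hχ
    rw [← (hμ χ hχ).2, hI.iso.2.2.1 _ hαz _ (X_diff_mem (hD χ hχ)), ci_sub_right, hval χ (hD χ hχ).1, if_pos hχ,
      hval _ (X_conj (hD χ hχ)).1, if_neg (hDc χ hχ), sub_zero]
    rcases hε χ hχ with h | h <;> rw [h] <;> norm_num
  · rw [hI.iso.2.2.1 _ hαz _ hαz]
    conv_lhs => rw [hα]
    rw [← hα, hα, ci_sum_left, ← hα, Finset.card_eq_sum_ones]
    push_cast
    refine Finset.sum_congr rfl fun χ hχ => ?_
    have h2 := hval χ (hD χ hχ).1
    rw [if_pos hχ] at h2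
    rw [← Int.cast_smul_eq_zsmul ℂ, ci_smul_left, ← ci_conj_symm, h2]
    rcases hε χ hχ with h | h <;> rw [h] <;> simp
  · exact hψ
  · intro χ hχ
    rw [← (hμ χ hχ).2]
    exact hψX χ (hD χ hχ)

/-- differences of two characters of the same degree -/
theorem orth_two (hI : IsoData K τ) (hodd : Odd (Nat.card L)) {ψ : G → ℂ} (hψ : Pm ψ)
    (hψX : ∀ χ ∈ calX K, classInner ψ (τ (χ - conjFun χ)) = 0) {χ χ' : L → ℂ} (hχ : χ ∈ calX K) (hχ' : χ' ∈ calX K)
    (hdeg : χ 1 = χ' 1) : classInner (τ (χ - χ')) ψ = 0 := by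
  classical
  by_cases h1 : χ = χ'
  · rw [h1, sub_self, iso_zero hI.iso zo_zero, ci_zero_left]
  by_cases h2 : χ' = conjFun χ
  · rw [h2, ← ci_conj_symm, hψX χ hχ, map_zero]
  have h := orth_alpha hI hodd hψ hψX {χ, χ'} (by
      intro x hx
      rcases Finset.mem_insert.1 hx with h | h
      · rw [h]; exact hχ
      · rw [Finset.mem_singleton.1 h]; exact hχ') (by
      intro x hx hx'
      rcases Finset.mem_insert.1 hx with h | h <;> rcases Finset.mem_insert.1 hx' with h' | h'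
      · rw [h] at h'; exact X_not_real hodd hχ h'
      · rw [h] at h'; exact h2 (Finset.mem_singleton.1 h').symm
      · rw [Finset.mem_singleton.1 h] at h'; exact h2 (by rw [← h', conj_conj'])
      · rw [Finset.mem_singleton.1 h] at h'; exact X_not_real hodd hχ' (Finset.mem_singleton.1 h'))
    (fun x => if x = χ then 1 else -1) (by intro x _; by_cases h : x = χ <;> simp [h])
  rw [Finset.sum_pair h1] at h
  simp only [if_true, if_neg (Ne.symm h1)] at h
  have e : (1 : ℤ) • χ + (-1 : ℤ) • χ' = χ - χ' := by simp [sub_eq_add_neg]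
  rw [e] at h
  exact h (by rw [Pi.sub_apply, hdeg, sub_self])

include hK in
/-- differences of two induced characters of the same degree -/
theorem orth_ind (hI : IsoData K τ) (hodd : Odd (Nat.card L)) {U U₁ : Subgroup L} (hTF : TF K U U₁) {ψ : G → ℂ} (hψ : Pm ψ)
    (hψX : ∀ χ ∈ calX K, classInner ψ (τ (χ - conjFun χ)) = 0) {θ₁ θ₂ : K → ℂ} (h1 : IsIrrCharacter K θ₁) (h2 : IsIrrCharacter K θ₂)
    (n1 : θ₁ ≠ fun _ => 1) (n2 : θ₂ ≠ fun _ => 1) (hdeg : θ₁ 1 = θ₂ 1) :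
    classInner (τ (indFun K θ₁ - indFun K θ₂)) ψ = 0 := by
  classical
  haveI := hK
  haveI := Fintype.ofFinite K
  have hdeg' : (indFun K θ₁ - indFun K θ₂) 1 = 0 := by rw [Pi.sub_apply, ind_one, ind_one, hdeg, sub_self]
  by_cases c1 : ∃ g : L, θ₂ = cj hK g θ₁
  · obtain ⟨g, rfl⟩ := c1
    rw [ind_cj hK, sub_self, iso_zero hI.iso zo_zero, ci_zero_left]
  by_cases c2 : ∃ g : L, θ₂ = cj hK g (conjFun θ₁)
  · obtain ⟨g, rfl⟩ := c2
    rw [ind_cj hK, ← conj_ind, (sum_CC hK hTF h1 n1).1]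
    have e : (∑ χ ∈ CC K θ₁, χ) - conjFun (∑ χ ∈ CC K θ₁, χ) = ∑ χ ∈ CC K θ₁, (χ - conjFun χ) := by
      rw [Finset.sum_sub_distrib]
      congr 1
      funext x
      simp [conjFun]
    rw [e, (iso_sum_zo hI _ _ (fun χ hχ => X_diff_mem (CC_sub h1 n1 hχ))).2, ci_sum_left, Finset.sum_eq_zero]
    intro χ hχ
    rw [← ci_conj_symm, hψX χ (CC_sub h1 n1 hχ), map_zero]
  have hd : Disjoint (CC K θ₁) (CC K θ₂) := by
    rw [Finset.disjoint_left]
    intro χ hχ hχ'
    exact c1 (CC_disj hK h1 h2 hχ hχ')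
  have h := orth_alpha hI hodd hψ hψX (CC K θ₁ ∪ CC K θ₂) (by
      intro x hx
      rcases Finset.mem_union.1 hx with h | h
      · exact CC_sub h1 n1 h
      · exact CC_sub h2 n2 h) (by
      intro x hx hx'
      rcases Finset.mem_union.1 hx with h | h <;> rcases Finset.mem_union.1 hx' with h' | h'
      · exact CC_not_conj hK hodd h1 n1 h h'
      · exact c2 (CC_disj hK (IsIrr.conj h1) h2 (CC_conj h) h')
      · apply c2
        obtain ⟨g, hg⟩ := CC_disj hK (IsIrr.conj h2) h1 (CC_conj h) h'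
        refine ⟨g⁻¹, ?_⟩
        have e1 : conjFun θ₁ = cj hK g θ₂ := by
          rw [hg]
          show conjFun (conjFun (cj hK g θ₂)) = _
          rw [conj_conj']
        rw [e1, cj_cj, mul_inv_cancel, cj_one]
      · exact CC_not_conj hK hodd h2 n2 h h')
    (fun x => if x ∈ CC K θ₁ then 1 else -1) (by intro x _; by_cases h : x ∈ CC K θ₁ <;> simp [h])
  have e : ∑ χ ∈ CC K θ₁ ∪ CC K θ₂, (if χ ∈ CC K θ₁ then (1 : ℤ) else -1) • χ = indFun K θ₁ - indFun K θ₂ := by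
    rw [Finset.sum_union hd, (sum_CC hK hTF h1 n1).1, (sum_CC hK hTF h2 n2).1, sub_eq_add_neg]
    congr 1
    · exact Finset.sum_congr rfl fun χ hχ => by rw [if_pos hχ, one_smul]
    · rw [← Finset.sum_neg_distrib]
      refine Finset.sum_congr rfl fun χ hχ => ?_
      rw [if_neg (Finset.disjoint_right.1 hd hχ)]
      simp
  rw [e] at h
  exact h hdeg'

include hK in
/-- (12.3) -/
theorem orth_of_disj (hI : IsoData K τ) (hodd : Odd (Nat.card L)) {U U₁ : Subgroup L} (hTF : TF K U U₁) {ψ a : G → ℂ}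
    (ha : IsIrrCharacter G a) (hψa : ψ = a ∨ ψ = -a ∨ ψ = conjFun a ∨ ψ = -conjFun a)
    (hsum : ∀ θ : K → ℂ, IsIrrCharacter K θ → θ ≠ (fun _ => 1) →
      classInner (a - conjFun a) (τ (indFun K θ - conjFun (indFun K θ))) = 0) :
    ∀ χ ∈ calX K, classInner ψ (τ (χ - conjFun χ)) = 0 := by
  classical
  intro χ hχ
  by_contra hne
  haveI := hK
  haveI := Fintype.ofFinite K
  obtain ⟨θ, hθ, hθ1, hc⟩ := exists_theta hK hχ
  have hm : χ ∈ CC K θ := (mem_CC_iff hχ.1).2 hc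
  obtain ⟨μ, hμ, hτ⟩ := hI.mu χ hχ
  have hμc := mu_not_real hI hodd hχ hτ
  have hμ' : IsIrrCharacter G (conjFun μ) := IsIrr.conj hμ
  have ha' : IsIrrCharacter G (conjFun a) := IsIrr.conj ha
  -- a is μ or its conjugate
  have h1 : a = μ ∨ a = conjFun μ := by
    by_contra hcon
    push Not at hcon
    obtain ⟨n1, n2⟩ := hcon
    apply hne
    have e1 : classInner a μ = 0 := ci_irr_ne ha hμ n1
    have e2 : classInner a (conjFun μ) = 0 := ci_irr_ne ha hμ' n2
    have e3 : classInner (conjFun a) μ = 0 := ci_irr_ne ha' hμ (fun h => n2 (by rw [← h, conj_conj']))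
    have e4 : classInner (conjFun a) (conjFun μ) = 0 := ci_irr_ne ha' hμ' (fun h => n1 (by rw [← conj_conj' a, h, conj_conj']))
    rw [hτ, ci_sub_right]
    rcases hψa with h | h | h | h <;> rw [h]
    · rw [e1, e2, sub_zero]
    · rw [ci_neg_left', ci_neg_left', e1, e2]; simp
    · rw [e3, e4, sub_zero]
    · rw [ci_neg_left', ci_neg_left', e3, e4]; simp
  have hζ := (sum_CC hK hTF hθ hθ1)
  have hzmem : indFun K θ - conjFun (indFun K θ) ∈ zspanOn (calX K) {1}ᶜ := by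
    have e : indFun K θ - conjFun (indFun K θ) = ∑ χ ∈ CC K θ, (χ - conjFun χ) := by
      rw [hζ.1, Finset.sum_sub_distrib]
      congr 1
      funext x
      simp [conjFun]
    rw [e]
    exact (iso_sum_zo hI _ _ (fun χ hχ => X_diff_mem (CC_sub hθ hθ1 hχ))).1
  have h2 : classInner (τ (χ - conjFun χ)) (τ (indFun K θ - conjFun (indFun K θ))) = 2 := by
    rw [hI.iso.2.2.1 _ (X_diff_mem hχ) _ hzmem]
    have c1 : classInner χ (indFun K θ) = 1 := by rw [← ci_conj_symm, hζ.2 χ hm, map_one]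
    have c2 : classInner (conjFun χ) (indFun K θ) = 0 := by
      by_contra h
      apply CC_not_conj hK hodd hθ hθ1 hm
      refine mem_CC.2 ⟨(X_conj hχ).1, ?_⟩
      rw [← ci_conj_symm]
      exact (map_ne_zero _).2 h
    have c3 : classInner χ (conjFun (indFun K θ)) = 0 := by
      have := conj_inner (conjFun χ) (indFun K θ)
      rw [conj_conj', c2, map_zero] at this
      exact this
    have c4 : classInner (conjFun χ) (conjFun (indFun K θ)) = 1 := by
      rw [conj_inner, c1, map_one]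
    rw [ci_sub_left, ci_sub_right, ci_sub_right, c1, c2, c3, c4]
    norm_num
  have h3 := hsum θ hθ hθ1
  rcases h1 with h1 | h1
  · rw [h1, ← hτ, h2] at h3
    norm_num at h3
  · have e : a - conjFun a = (-1 : ℂ) • τ (χ - conjFun χ) := by
      rw [hτ, h1, conj_conj']; simp
    rw [e, ci_smul_left, h2] at h3
    norm_num at h3

end Iso

end Cfsg.Agent.H1.PF12
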