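import Mathlib
import Cfsg.Agent.H1_PF12b
import Cfsg.Agent.H10_Dade3
import Cfsg.Agent.S1518

/-! Peterfalvi §12: averages over normal subgroups, and the Dade map -/

set_option autoImplicit false
set_option linter.all false

namespace Cfsg.Agent.H1.PF12

open Cfsg Cfsg.Agent.H3.CharBasic Cfsg.Agent.H3.CharIrr Cfsg.Agent.H3.CharComplete
  Cfsg.Agent.H3.CharMult Cfsg.Agent.H3.CharInd Cfsg.Agent.H3.CharInt Cfsg.Agent.H3.Clifford Cfsg.Agent.H3.CharQuot
  Cfsg.Agent.H10.OOClif Cfsg.Agent.H10.IndSet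
  Cfsg.Agent.H10.PM Cfsg.Agent.H10.CycEx3 Cfsg.Agent.H10.IndSet2 Cfsg.Agent.H10.Sib2 Cfsg.Agent.H10.Coh Cfsg.Agent.H10.Coh4
open scoped ComplexConjugate

section Avg
variable {V : Type*} [Group V] [Fintype V] {D : Subgroup V} [hD : D.Normal] [Fintype D]

theorem avg_triv {η : V → ℂ} (hη : IsIrrCharacter V η) (h : ∀ d ∈ D, η d = η 1) (v : V) :
    ∑ d : D, η (v * d) = (Nat.card D : ℂ) * η v := by
  rw [Finset.sum_congr rfl (g := fun _ => η v), Finset.sum_const, Finset.card_univ, nsmul_eq_mul, Nat.card_eq_fintype_card]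
  intro d _
  have h1 : v * (d : V) = (v * d * v⁻¹) * v := by group
  rw [h1]
  exact IsChar.mul_ker (IsIrr.isCharacter hη) (h _ (hD.conj_mem d d.2 v)) v

/-- sums over the whole group of functions composed with averages -/
theorem sum_avg (f g : V → ℂ) (hg : ∀ v, ∀ d ∈ D, g (v * d) = g v) :
    ∑ v : V, (∑ d : D, f (v * d)) * g v = (Nat.card D : ℂ) * ∑ v : V, f v * g v := by
  rw [Finset.sum_congr rfl fun v _ => Finset.sum_mul _ _ _, Finset.sum_comm]
  rw [Finset.sum_congr rfl (g := fun _ => ∑ v : V, f v * g v), Finset.sum_const, Finset.card_univ, nsmul_eq_mul, Nat.card_eq_fintype_card]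
  intro d _
  rw [← Equiv.sum_comp (Equiv.mulRight (d : V)) (fun v => f v * g v)]
  refine Finset.sum_congr rfl fun v _ => ?_
  show f (v * d) * g v = f (v * d) * g (v * d)
  rw [hg v d d.2]

theorem avg_nontriv {η : V → ℂ} (hη : IsIrrCharacter V η) (h : ∃ d ∈ D, η d ≠ η 1) (v : V) :
    ∑ d : D, η (v * d) = 0 := by
  classical
  haveI : Fintype (V ⧸ D) := Fintype.ofFinite _
  have hηc := IsIrr.isClass hη
  -- the descended function
  have hinv : ∀ v : V, ∀ e ∈ D, ∑ d : D, η (v * e * d) = ∑ d : D, η (v * d) := by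
    intro v e he
    rw [← Equiv.sum_comp (Equiv.mulLeft (⟨e, he⟩ : D)) (fun d : D => η (v * d))]
    refine Finset.sum_congr rfl fun d _ => ?_
    show η (v * e * d) = η (v * (e * d))
    rw [mul_assoc]
  let F : V ⧸ D → ℂ := Quotient.lift (fun v : V => ∑ d : D, η (v * d)) (by
    intro a b hab
    have h1 : a⁻¹ * b ∈ D := QuotientGroup.leftRel_apply.1 hab
    have h2 := hinv a (a⁻¹ * b) h1
    rw [mul_inv_cancel_left] at h2
    exact h2.symm)
  have hF : ∀ v : V, F (v : V ⧸ D) = ∑ d : D, η (v * d) := fun v => rfl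
  have hFc : IsClassFunction (V ⧸ D) F := by
    intro a b
    obtain ⟨x, rfl⟩ := QuotientGroup.mk_surjective a
    obtain ⟨y, rfl⟩ := QuotientGroup.mk_surjective b
    rw [← QuotientGroup.mk_mul, ← QuotientGroup.mk_inv, ← QuotientGroup.mk_mul, hF, hF]
    refine Fintype.sum_equiv (MulAut.conjNormal y⁻¹ : MulAut D).toEquiv _ _ ?_
    intro d
    show η (y * x * y⁻¹ * d) = η (x * ((MulAut.conjNormal y⁻¹ : MulAut D) d : D))
    rw [MulAut.conjNormal_apply, ← hηc (x * (y⁻¹ * d * y⁻¹⁻¹)) y]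
    congr 1
    group
  have hF0 : F = 0 := by
    apply eq_zero_of_orth F hFc
    intro ξ hξ
    have hξ' : IsIrrCharacter V (fun v : V => ξ (v : V ⧸ D)) := IsIrr.inflate hξ
    have hne : η ≠ fun v : V => ξ (v : V ⧸ D) := by
      obtain ⟨d, hd, hne⟩ := h
      intro he
      apply hne
      rw [he]
      show ξ (d : V ⧸ D) = ξ ((1 : V) : V ⧸ D)
      rw [(QuotientGroup.eq_one_iff d).2 hd]; rfl
    have h1 := ci_irr_ne hη hξ' hne
    rw [classInner] at h1 ⊢
    have h2 : ∑ v : V, η v * conj (ξ (v : V ⧸ D)) = 0 := by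
      rcases mul_eq_zero.1 h1 with h3 | h3
      · exact absurd h3 (inv_ne_zero (by exact_mod_cast Nat.card_pos.ne'))
      · exact h3
    have h3 := sum_avg (D := D) η (fun v => conj (ξ (v : V ⧸ D))) (by
      intro v d hd
      have : ((v * d : V) : V ⧸ D) = (v : V ⧸ D) := by
        rw [QuotientGroup.mk_mul, (QuotientGroup.eq_one_iff d).2 hd, mul_one]
      simp only [this])
    rw [h2, mul_zero] at h3
    -- sum over V as a sum over the quotient
    have h4 : ∑ v : V, F (v : V ⧸ D) * conj (ξ (v : V ⧸ D)) = (Nat.card D : ℂ) * ∑ q : V ⧸ D, F q * conj (ξ q) := by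
      rw [Finset.mul_sum, ← Finset.sum_fiberwise (s := Finset.univ) (g := fun v : V => (v : V ⧸ D))]
      refine Finset.sum_congr rfl fun q _ => ?_
      rw [Finset.sum_congr rfl (g := fun _ => F q * conj (ξ q)), Finset.sum_const, nsmul_eq_mul]
      · congr 2
        obtain ⟨x, rfl⟩ := QuotientGroup.mk_surjective q
        rw [Nat.card_eq_fintype_card, ← Finset.card_univ]
        symm
        apply Finset.card_bij (fun (d : D) _ => x * (d : V))
        · intro d _
          refine Finset.mem_filter.2 ⟨Finset.mem_univ _, ?_⟩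
          rw [QuotientGroup.mk_mul, (QuotientGroup.eq_one_iff (d : V)).2 d.2, mul_one]
        · intro a _ b _ hab
          exact Subtype.ext (mul_left_cancel hab)
        · intro v hv
          have h5 := (Finset.mem_filter.1 hv).2
          have h6 : x⁻¹ * v ∈ D := by
            rw [← QuotientGroup.eq]; exact h5.symm
          exact ⟨⟨x⁻¹ * v, h6⟩, Finset.mem_univ _, by simp⟩
      · intro v hv
        rw [(Finset.mem_filter.1 hv).2]
    have h5 : ∑ v : V, F (v : V ⧸ D) * conj (ξ (v : V ⧸ D)) = 0 := h3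
    rw [h4] at h5
    rcases mul_eq_zero.1 h5 with h6 | h6
    · exact absurd h6 (by exact_mod_cast Nat.card_pos.ne')
    · rw [h6, mul_zero]
  have := congrFun hF0 (v : V ⧸ D)
  rw [hF] at this
  exact this

open Classical in
/-- averages over a normal subgroup -/
theorem avg_expand [Fintype (IrrCharacter V)] {F : V → ℂ} (hF : IsClassFunction V F) (v : V) :
    ∑ d : D, F (v * d) = (Nat.card D : ℂ) * ∑ η : IrrCharacter V, (if ∀ d ∈ D, (η : V → ℂ) d = (η : V → ℂ) 1 then classInner F η * (η : V → ℂ) v else 0) := by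
  have h0 : ∑ d : D, F (v * (d : V)) = ∑ d : D, ∑ η : IrrCharacter V, classInner F η * (η : V → ℂ) (v * (d : V)) :=
    Finset.sum_congr rfl fun d _ => expand_apply F hF (v * (d : V))
  rw [h0, Finset.sum_comm, Finset.mul_sum]
  refine Finset.sum_congr rfl fun η _ => ?_
  rw [← Finset.mul_sum]
  by_cases h : ∀ d ∈ D, (η : V → ℂ) d = (η : V → ℂ) 1
  · rw [if_pos h, avg_triv η.2 h]; ring
  · rw [if_neg h, avg_nontriv η.2 (by push Not at h; exact h)]; ring

/-- averages over the derived subgroup of a function with constant inner products with the non-principal linear characters -/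
theorem avg_derived (hab : ∀ x y : V, x * y * x⁻¹ * y⁻¹ ∈ D) {F : V → ℂ} (hF : IsClassFunction V F) {a b : ℂ}
    (h1 : classInner F (fun _ => 1) = a + b)
    (hl : ∀ l : V → ℂ, IsIrrCharacter V l → l 1 = 1 → l ≠ (fun _ => 1) → classInner F l = a) {v : V} (hv : v ∉ D) :
    ∑ d : D, F (v * d) = (Nat.card D : ℂ) * b := by
  classical
  haveI := Fintype.ofFinite (IrrCharacter V)
  have hlin : ∀ η : IrrCharacter V, (∀ d ∈ D, (η : V → ℂ) d = (η : V → ℂ) 1) → (η : V → ℂ) 1 = 1 := by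
    intro η h
    refine (Cfsg.Agent.H10.OOClif2.linear_over hD hab η.2 ?_).1
    have e : (fun n : D => (η : V → ℂ) n) = (η : V → ℂ) 1 • (fun _ => 1) := by
      funext n; rw [h n n.2]; simp
    rw [e, ci_smul_left, ci_irr_self isIrr_one, mul_one]
    exact IsIrr.one_ne_zero η.2
  let o : IrrCharacter V := ⟨fun _ => 1, isIrr_one⟩
  rw [avg_expand hF v]
  congr 1
  -- the sum of the linear characters vanishes
  have hreg : ∑ η : IrrCharacter V, (if ∀ d ∈ D, (η : V → ℂ) d = (η : V → ℂ) 1 then (η : V → ℂ) v else 0) = 0 := by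
    have h2 : ∑ d : D, ∑ η : IrrCharacter V, (η : V → ℂ) 1 * (η : V → ℂ) (v * d) = 0 := by
      apply Finset.sum_eq_zero
      intro d _
      rw [sum_one_mul, if_neg]
      intro h
      apply hv
      have : v = (d : V)⁻¹ := by rw [eq_inv_iff_mul_eq_one]; exact h
      rw [this]; exact D.inv_mem d.2
    rw [Finset.sum_comm] at h2
    have h3 : (Nat.card D : ℂ) * ∑ η : IrrCharacter V, (if ∀ d ∈ D, (η : V → ℂ) d = (η : V → ℂ) 1 then (η : V → ℂ) v else 0) = 0 := by
      refine Eq.trans ?_ h2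
      rw [Finset.mul_sum]
      refine Finset.sum_congr rfl fun η _ => ?_
      rw [← Finset.mul_sum]
      by_cases h : ∀ d ∈ D, (η : V → ℂ) d = (η : V → ℂ) 1
      · rw [if_pos h, avg_triv η.2 h, hlin η h]; ring
      · rw [if_neg h, avg_nontriv η.2 (by push Not at h; exact h)]; ring
    rcases mul_eq_zero.1 h3 with h4 | h4
    · exact absurd h4 (by exact_mod_cast Nat.card_pos.ne')
    · exact h4
  have h2 : ∀ η : IrrCharacter V, (if ∀ d ∈ D, (η : V → ℂ) d = (η : V → ℂ) 1 then classInner F η * (η : V → ℂ) v else 0) =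
      a * (if ∀ d ∈ D, (η : V → ℂ) d = (η : V → ℂ) 1 then (η : V → ℂ) v else 0) + (if η = o then b else 0) := by
    intro η
    by_cases ho : η = o
    · subst ho
      rw [if_pos (fun _ _ => rfl), if_pos (fun _ _ => rfl), if_pos rfl]
      show classInner F (fun _ => 1) * 1 = a * 1 + b
      rw [h1]; ring
    · rw [if_neg ho, add_zero]
      by_cases h : ∀ d ∈ D, (η : V → ℂ) d = (η : V → ℂ) 1
      · rw [if_pos h, if_pos h, hl η η.2 (hlin η h) (fun h' => ho (Subtype.ext h'))]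
      · rw [if_neg h, if_neg h, mul_zero]
  rw [Finset.sum_congr rfl fun η _ => h2 η, Finset.sum_add_distrib, ← Finset.mul_sum, hreg, mul_zero, zero_add,
    Finset.sum_ite_eq' Finset.univ o, if_pos (Finset.mem_univ _)]

end Avg

section Dade
variable {G : Type*} [Group G] [Fintype G] {N : Subgroup G} [Fintype N] {A : Set G} {H : G → Subgroup G} (hD : DadeHypothesis A N H)
  {K : Subgroup N} (hK : K.Normal)

/-- the average of a function over `a H(a)` -/
noncomputable def av (H : G → Subgroup G) (χ : G → ℂ) (a : G) : ℂ := (Nat.card (H a) : ℂ)⁻¹ * ∑ᶠ u ∈ (H a : Set G), χ (a * u)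

theorem av_const {χ : G → ℂ} {a : G} (h : ∀ u ∈ H a, χ (a * u) = χ a) : av H χ a = χ a := by
  rw [av, finsum_mem_congr (g := fun _ => χ a) rfl (fun u hu => h u hu), finsum_mem_eq_finite_toFinset_sum _ (Set.toFinite _),
    Finset.sum_const, nsmul_eq_mul]
  have h1 : ((Set.toFinite (H a : Set G)).toFinset.card : ℂ) = Nat.card (H a) := by
    congr 1
    rw [← Set.ncard_eq_toFinset_card, ← Nat.card_coe_set_eq]
    rfl
  rw [h1, inv_mul_cancel_left₀]
  exact_mod_cast Nat.card_pos.ne'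

theorem av_bot {χ : G → ℂ} {a : G} (h : H a = ⊥) : av H χ a = χ a := by
  apply av_const
  intro u hu
  rw [h, Subgroup.mem_bot] at hu
  rw [hu, mul_one]

theorem dade_add (A : Set G) (N : Subgroup G) (H : G → Subgroup G) (α β : N → ℂ) :
    dadeIsometry A N H (α + β) = dadeIsometry A N H α + dadeIsometry A N H β := by
  funext g
  simp only [dadeIsometry, Pi.add_apply]
  split_ifs <;> simp

theorem dade_zsmul (A : Set G) (N : Subgroup G) (H : G → Subgroup G) (n : ℤ) (α : N → ℂ) :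
    dadeIsometry A N H (n • α) = n • dadeIsometry A N H α := by
  funext g
  simp only [dadeIsometry, Pi.smul_apply]
  split_ifs <;> simp

omit [Fintype N] [Fintype G] in
theorem dade_supp {α : N → ℂ} {B : Set G} (hB : ∀ x : N, (x : G) ∉ B → α x = 0) {g : G} (hg : dadeIsometry A N H α g ≠ 0) :
    ∃ a ∈ B, a ∈ A ∧ ∃ u ∈ H a, ∃ y : G, g = y * (a * u) * y⁻¹ := by
  classical
  rw [dadeIsometry] at hg
  split_ifs at hg with h
  · obtain ⟨h1, x, u, hu, e⟩ := Classical.choose_spec h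
    refine ⟨(Classical.choose h : N), ?_, h1, u, hu, x⁻¹, ?_⟩
    · by_contra hcon
      exact hg (hB _ hcon)
    · rw [← e]; group
  · exact absurd rfl hg

theorem X_off (hA : ∀ χ ∈ calX K, ∀ x : N, x ≠ 1 → (x : G) ∉ A → χ x = 0) {α : N → ℂ} (hα : α ∈ zspanOn (calX K) {1}ᶜ) :
    ∀ x : N, (x : G) ∉ A → α x = 0 := by
  obtain ⟨h1, h2⟩ := zo_iff.1 hα
  intro x hx
  by_cases hx1 : x = 1
  · rw [hx1]; exact h2
  · refine zs_ind (p := fun f => f x = 0) (fun χ hχ => hA χ hχ x hx1 hx) rfl ?_ ?_ h1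
    all_goals first
      | (intro f g hf hg; rw [Pi.add_apply, hf, hg, add_zero])
      | (intro f g _ _ hf hg; rw [Pi.add_apply, hf, hg, add_zero])
      | (intro n f hf; rw [Pi.smul_apply, hf, smul_zero])
      | (intro f hf; rw [Pi.neg_apply, hf, neg_zero])
      | (intro f _ hf; rw [Pi.neg_apply, hf, neg_zero])
      | (intro n f _ hf; rw [Pi.smul_apply, hf, smul_zero])

theorem X_gen {α : N → ℂ} (hα : α ∈ zspanOn (calX K) {1}ᶜ) : IsGeneralizedCharacter N α :=
  zs_gen (fun χ hχ => IsGen.of_irr hχ.1) (zo_iff.1 hα).1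

include hD in
theorem isoData (hA : ∀ χ ∈ calX K, ∀ x : N, x ≠ 1 → (x : G) ∉ A → χ x = 0) : IsoData K (dadeIsometry A N H) := by
  refine ⟨⟨?_, ?_, ?_, ?_⟩, ?_⟩
  · intro α _ β _; exact dade_add A N H α β
  · intro α _ n; exact dade_zsmul A N H n α
  · intro α hα β hβ
    exact Cfsg.Agent.H10.Dade.isometry hD (IsGen.isClass (X_gen hα)) (X_off hA hα) (IsGen.isClass (X_gen hβ))
  · intro α hα
    exact Cfsg.Agent.H10.Dade3.dade_gen hD (X_gen hα) (X_off hA hα)
  · intro χ hχ
    exact Cfsg.Agent.S1518.result A N H hD χ hχ.1 (hA χ hχ)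

include hD in
theorem recip' {α : N → ℂ} (hα : IsClassFunction N α) (hαA : ∀ x : N, (x : G) ∉ A → α x = 0) {χ : G → ℂ} (hχ : IsClassFunction G χ) :
    classInner (dadeIsometry A N H α) χ = classInner α (fun x : N => av H χ x) :=
  Cfsg.Agent.H10.Dade.recip hD hα hαA hχ (fun a _ => rfl)

/-- if `α` is supported where the average is the value -/
theorem recip_res (hD : DadeHypothesis A N H) {α : N → ℂ} (hα : IsClassFunction N α) (hαA : ∀ x : N, (x : G) ∉ A → α x = 0) {χ : G → ℂ} (hχ : IsClassFunction G χ)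
    (hav : ∀ x : N, α x ≠ 0 → av H χ x = χ x) :
    classInner (dadeIsometry A N H α) χ = classInner α (fun x : N => χ x) := by
  rw [recip' hD hα hαA hχ, classInner, classInner]
  congr 1
  refine Finset.sum_congr rfl fun x _ => ?_
  by_cases hx : α x = 0
  · rw [hx, zero_mul, zero_mul]
  · rw [hav x hx]

include hD hK in
/-- (12.4) -/
theorem const_on_coset (hodd : Odd (Nat.card N)) (hA : ∀ χ ∈ calX K, ∀ x : N, x ≠ 1 → (x : G) ∉ A → χ x = 0)
    (hAK : ∀ x : N, (x : G) ∈ A → x ∉ K → H x = ⊥) {U U₁ : Subgroup N} (hTF : TF K U U₁) {ψ : G → ℂ} (hψ : Pm ψ)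
    (hψX : ∀ χ ∈ calX K, classInner ψ (dadeIsometry A N H (χ - conjFun χ)) = 0) :
    ∀ x : N, x ∉ K → ∀ k ∈ K, ψ ((k * x : N) : G) = ψ x := by
  have hψc := hψ.isClass
  have key := const_coset hK hTF (f := fun x : N => ψ x) (IsClass.res hψc N) (by
    intro θ hθ hθ1 χ hχ χ' hχ'
    have hX := CC_sub hθ hθ1 hχ
    have hX' := CC_sub hθ hθ1 hχ'
    have hres := CC_res hK hTF hθ hθ1 hχ hχ'
    have hdeg : χ 1 = χ' 1 := hres 1 K.one_mem
    have h1 := orth_two (isoData hD hA) hodd hψ hψX hX hX' hdeg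
    have hoff : ∀ x : N, (x : G) ∉ A → (χ - χ') x = 0 := by
      intro x hx
      by_cases hx1 : x = 1
      · rw [hx1, Pi.sub_apply, hdeg, sub_self]
      · rw [Pi.sub_apply, hA χ hX x hx1 hx, hA χ' hX' x hx1 hx, sub_self]
    rw [recip_res hD (isClass_sub _ _ (IsIrr.isClass hX.1) (IsIrr.isClass hX'.1)) hoff hψc] at h1
    · rw [← ci_conj_symm, ci_sub_right, map_sub, sub_eq_zero] at h1
      exact (starRingEnd ℂ).injective h1
    · intro x hx
      have hxA : (x : G) ∈ A := by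
        by_contra h; exact hx (hoff x h)
      have hxK : x ∉ K := by
        intro h
        apply hx
        rw [Pi.sub_apply, hres x h, sub_self]
      exact av_bot (hAK x hxA hxK))
  exact key

include hD hK in
/-- (12.5) -/
theorem const_lin (hodd : Odd (Nat.card N)) (hA : ∀ χ ∈ calX K, ∀ x : N, x ≠ 1 → (x : G) ∉ A → χ x = 0)
    (hKA : ∀ x : N, x ∈ K → x ≠ 1 → (x : G) ∈ A) {U U₁ : Subgroup N} (hTF : TF K U U₁) {ψ : G → ℂ} (hψ : Pm ψ)
    (hψX : ∀ χ ∈ calX K, classInner ψ (dadeIsometry A N H (χ - conjFun χ)) = 0)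
    (hav : ∀ x : N, x ∈ K → x ≠ 1 → av H ψ x = ψ x) [Fintype K] {θ₁ θ₂ : K → ℂ} (h1 : IsIrrCharacter K θ₁) (h2 : IsIrrCharacter K θ₂)
    (n1 : θ₁ ≠ fun _ => 1) (n2 : θ₂ ≠ fun _ => 1) (hdeg : θ₁ 1 = θ₂ 1) :
    classInner (fun k : K => ψ (k : N)) θ₁ = classInner (fun k : K => ψ (k : N)) θ₂ := by
  have hψc := hψ.isClass
  have h3 := orth_ind hK (isoData hD hA) hodd hTF hψ hψX h1 h2 n1 n2 hdeg
  have hoff : ∀ x : N, (indFun K θ₁ - indFun K θ₂) x ≠ 0 → x ∈ K ∧ x ≠ 1 := by
    intro x hx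
    constructor
    · by_contra h
      apply hx
      rw [Pi.sub_apply, ind_of_not_mem hK _ h, ind_of_not_mem hK _ h, sub_self]
    · rintro rfl
      apply hx
      rw [Pi.sub_apply, ind_one, ind_one, hdeg, sub_self]
  rw [recip_res hD (isClass_sub _ _ (ind_isClass K θ₁) (ind_isClass K θ₂)) _ hψc] at h3
  · rw [← ci_conj_symm, ci_sub_right, map_sub, sub_eq_zero, frobenius' K _ _ (IsClass.res hψc N), frobenius' K _ _ (IsClass.res hψc N)] at h3
    exact (starRingEnd ℂ).injective h3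
  · intro x hx
    exact hav x (hoff x hx).1 (hoff x hx).2
  · intro x hx
    by_contra h
    exact hx (hKA x (hoff x h).1 (hoff x h).2)

end Dade

end Cfsg.Agent.H1.PF12
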