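import Mathlib
import Cfsg.Agent.H1_PF12c
import Cfsg.Agent.H10_BlockHZ

/-! Peterfalvi §12: the Frobenius side, the inequality, the congruence -/

set_option autoImplicit false
set_option linter.all false

namespace Cfsg.Agent.H1.PF12

open Cfsg Cfsg.Agent.H3.CharBasic Cfsg.Agent.H3.CharIrr Cfsg.Agent.H3.CharComplete
  Cfsg.Agent.H3.CharMult Cfsg.Agent.H3.CharInd Cfsg.Agent.H3.CharInt Cfsg.Agent.H3.Clifford Cfsg.Agent.H3.CharQuot
  Cfsg.Agent.H10.OOClif Cfsg.Agent.H10.IndSet Cfsg.Agent.H10.IndSet3 Cfsg.Agent.H10.Fin1 Cfsg.Agent.H10.Coh2 Cfsg.Agent.H10.Coh3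
  Cfsg.Agent.H10.PM Cfsg.Agent.H10.CycEx3 Cfsg.Agent.H10.IndSet2 Cfsg.Agent.H10.Sib2 Cfsg.Agent.H10.Coh Cfsg.Agent.H10.Coh4
open scoped ComplexConjugate

section AvConj
variable {G : Type*} [Group G] [Fintype G] {N : Subgroup G} {A : Set G} {H : G → Subgroup G}

theorem av_conj (hD : DadeHypothesis A N H) {χ : G → ℂ} (hχ : IsClassFunction G χ) {a y : G} (ha : a ∈ A) (hy : y ∈ N) :
    av H χ (y * a * y⁻¹) = av H χ a := by
  have h1 := Cfsg.Agent.H10.Dade.H_conj hD ha hy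
  rw [av, av, h1]
  have h2 : Nat.card ((H a).map (MulAut.conj y).toMonoidHom) = Nat.card (H a) :=
    Nat.card_congr ((H a).equivMapOfInjective _ (MulAut.conj y).injective).symm.toEquiv
  rw [h2]
  congr 1
  have h3 : (((H a).map (MulAut.conj y).toMonoidHom : Subgroup G) : Set G) = (fun u => y * u * y⁻¹) '' (H a : Set G) := rfl
  rw [h3, finsum_mem_image]
  · refine finsum_mem_congr rfl fun u _ => ?_
    rw [← hχ (a * u) y]
    congr 1
    group
  · intro u _ v _ h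
    exact mul_left_cancel (mul_right_cancel h)

theorem one_not_tilde (hD : DadeHypothesis A N H) : ¬ ∃ a ∈ A, ∃ u ∈ H a, ∃ x : G, x * (1 : G) * x⁻¹ = a * u := by
  rintro ⟨a, ha, u, hu, x, hx⟩
  have h1 : a * u = 1 := by rw [← hx]; group
  have h2 : a = u⁻¹ := mul_eq_one_iff_eq_inv.1 h1
  have h3 : u⁻¹ ∈ H a := (H a).inv_mem hu
  rw [← h2] at h3
  have h4 : a ∈ H a ⊓ (N ⊓ Subgroup.centralizer ({a} : Set G)) :=
    ⟨h3, hD.subset ha, Subgroup.mem_centralizer_singleton_iff.2 rfl⟩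
  rw [hD.inf_eq_bot a ha, Subgroup.mem_bot] at h4
  exact hD.one_not_mem (h4 ▸ ha)

theorem sum_norm_pm {ψ : G → ℂ} (hψ : Pm ψ) : ∑ g : G, ‖ψ g‖ ^ 2 = Nat.card G := by
  have h1 := hψ.norm
  rw [classInner] at h1
  have h2 : (Nat.card G : ℂ) ≠ 0 := by exact_mod_cast Nat.card_pos.ne'
  have h3 : ∑ g : G, ψ g * conj (ψ g) = Nat.card G := by
    field_simp at h1
    exact h1
  have h4 : ((∑ g : G, ‖ψ g‖ ^ 2 : ℝ) : ℂ) = ((Nat.card G : ℝ) : ℂ) := by
    push_cast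
    rw [← h3]
    refine Finset.sum_congr rfl fun g _ => ?_
    rw [Complex.mul_conj, Complex.normSq_eq_norm_sq]
    push_cast; rfl
  exact_mod_cast h4

/-- two disjoint Dade supports -/
theorem two_ineq {N₁ N₂ : Subgroup G} [Fintype N₁] [Fintype N₂] {A₁ A₂ : Set G} {H₁ H₂ : G → Subgroup G}
    (h1 : DadeHypothesis A₁ N₁ H₁) (h2 : DadeHypothesis A₂ N₂ H₂) {ψ : G → ℂ} (hψ : Pm ψ)
    (hdisj : ∀ g : G, (∃ a ∈ A₁, ∃ u ∈ H₁ a, ∃ x : G, x * g * x⁻¹ = a * u) → (∃ a ∈ A₂, ∃ u ∈ H₂ a, ∃ x : G, x * g * x⁻¹ = a * u) → False) :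
    (Nat.card N₁ : ℝ)⁻¹ * ∑ᶠ a ∈ {a : N₁ | (a : G) ∈ A₁}, ‖av H₁ ψ a‖ ^ 2 +
      (Nat.card N₂ : ℝ)⁻¹ * ∑ᶠ a ∈ {a : N₂ | (a : G) ∈ A₂}, ‖av H₂ ψ a‖ ^ 2 < 1 := by
  classical
  have i1 := Cfsg.Agent.H10.Dade.norm_ineq h1 (ψ := fun a : N₁ => av H₁ ψ a) hψ.isClass (fun a _ => rfl)
  have i2 := Cfsg.Agent.H10.Dade.norm_ineq h2 (ψ := fun a : N₂ => av H₂ ψ a) hψ.isClass (fun a _ => rfl)
  set T₁ := {g : G | ∃ a ∈ A₁, ∃ u ∈ H₁ a, ∃ x : G, x * g * x⁻¹ = a * u} with hT₁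
  set T₂ := {g : G | ∃ a ∈ A₂, ∃ u ∈ H₂ a, ∃ x : G, x * g * x⁻¹ = a * u} with hT₂
  have hG : (0 : ℝ) < Nat.card G := by exact_mod_cast Nat.card_pos
  have hsum : ∀ T : Set G, ∑ᶠ g ∈ T, ‖ψ g‖ ^ 2 = ∑ g : G, (if g ∈ T then ‖ψ g‖ ^ 2 else 0) := by
    intro T
    rw [finsum_mem_eq_finite_toFinset_sum _ (Set.toFinite _), ← Finset.sum_filter]
    refine Finset.sum_congr ?_ fun _ _ => rfl
    ext u; simp
  have h3 : ∑ᶠ g ∈ T₁, ‖ψ g‖ ^ 2 + ∑ᶠ g ∈ T₂, ‖ψ g‖ ^ 2 + ‖ψ 1‖ ^ 2 ≤ Nat.card G := by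
    rw [hsum, hsum, ← sum_norm_pm hψ, ← Finset.sum_add_distrib]
    have h4 : ‖ψ 1‖ ^ 2 = ∑ g : G, (if g = 1 then ‖ψ g‖ ^ 2 else 0) := by
      rw [Finset.sum_ite_eq' Finset.univ (1 : G), if_pos (Finset.mem_univ _)]
    rw [h4, ← Finset.sum_add_distrib]
    apply Finset.sum_le_sum
    intro g _
    have hp : (0 : ℝ) ≤ ‖ψ g‖ ^ 2 := sq_nonneg _
    by_cases hg : g = 1
    · subst hg
      have n1 : (1 : G) ∉ T₁ := one_not_tilde h1
      have n2 : (1 : G) ∉ T₂ := one_not_tilde h2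
      rw [if_neg n1, if_neg n2, if_pos rfl, zero_add, zero_add]
    · rw [if_neg hg, add_zero]
      by_cases c1 : g ∈ T₁
      · have n2 : g ∉ T₂ := fun c2 => hdisj g c1 c2
        rw [if_pos c1, if_neg n2, add_zero]
      · rw [if_neg c1, zero_add]
        split_ifs
        · exact le_rfl
        · exact hp
  have h5 : 0 < ‖ψ 1‖ ^ 2 := by
    have := norm_pos_iff.2 hψ.one_ne
    positivity
  have h6 : (Nat.card G : ℝ)⁻¹ * (∑ᶠ g ∈ T₁, ‖ψ g‖ ^ 2 + ∑ᶠ g ∈ T₂, ‖ψ g‖ ^ 2) < 1 := by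
    rw [inv_mul_lt_iff₀ hG, mul_one]
    linarith
  rw [mul_add] at h6
  linarith

end AvConj

section Frob
variable {G : Type*} [Group G] [Fintype G] {L : Subgroup G} [Fintype L] {A : Set G} {R : G → Subgroup G} (hD : DadeHypothesis A L R)
  {K : Subgroup L} [hK : K.Normal]

theorem calX_eq (hC : ∀ k ∈ K, k ≠ 1 → Subgroup.centralizer ({k} : Set L) ≤ K) : calX K = inducedIrrAbove K ⊥ := by
  ext χ
  constructor
  · rintro ⟨h1, h2⟩
    exact mem_S hC h1 h2
  · intro h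
    refine ⟨S_irr hC h, ?_⟩
    obtain ⟨θ, hθ, hθ1, -, rfl⟩ := h
    exact (CC_sub (K := K) hθ hθ1 (mem_CC.2 ⟨Cfsg.Agent.H3.FrobInd.ind_irr K hC hθ hθ1, by
      rw [ci_irr_self (Cfsg.Agent.H3.FrobInd.ind_irr K hC hθ hθ1)]; exact one_ne_zero⟩)).2

open Classical in
include hD in
/-- the data on the Frobenius side -/
theorem frob_data (hodd : Odd (Nat.card L)) (hsolv : Group.IsSolvable K) (hC : ∀ k ∈ K, k ≠ 1 → Subgroup.centralizer ({k} : Set L) ≤ K)
    (hK1 : ⊥ < K) (hA : ∀ x : L, (x : G) ∈ A ↔ x ∈ K ∧ x ≠ 1) (hcoh : IsCoherent (calX K) {1}ᶜ (dadeIsometry A L R)) :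
    ∃ (φ : L → ℂ) (ψ a : G → ℂ) (c : ℤ), IsIrrCharacter L φ ∧ φ 1 = K.index ∧ Pm ψ ∧ IsIrrCharacter G a ∧
      (ψ = a ∨ ψ = -a ∨ ψ = conjFun a ∨ ψ = -conjFun a) ∧ φ ∈ calX K ∧ dadeIsometry A L R (φ - conjFun φ) = a - conjFun a ∧
      (∀ x : L, x ∈ K → x ≠ 1 → av R ψ x = φ x + c) ∧ (∀ x : L, x ∉ K → φ x = 0) ∧
      (∑ᶠ x ∈ {x : L | (x : G) ∈ A}, ‖av R ψ x‖ ^ 2 = (K.index : ℝ) * Nat.card K + c ^ 2 * Nat.card K - (K.index + c) ^ 2) := by
  classical
  haveI := Fintype.ofFinite K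
  have hX := calX_eq hC
  set τ := dadeIsometry A L R with hτdef
  obtain ⟨-, τ₁, hτ₁, hag⟩ := hcoh
  obtain ⟨φ, hφ, hφe⟩ := exists_min hsolv hK1
  rw [← hX] at hφ
  have hirr : ∀ χ ∈ calX K, IsIrrCharacter L χ := fun χ hχ => hχ.1
  have he0 : (K.index : ℂ) ≠ 0 := by exact_mod_cast Subgroup.index_ne_zero_of_finite (H := K)
  have hoff : ∀ χ ∈ calX K, ∀ x : L, x ∉ K → χ x = 0 := by
    intro χ hχ x hx
    rw [hX] at hχ
    obtain ⟨θ, hθ, hθ1, -, rfl⟩ := hχ
    exact ind_of_not_mem hK θ hx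
  have hXA : ∀ χ ∈ calX K, ∀ x : L, x ≠ 1 → (x : G) ∉ A → χ x = 0 := by
    intro χ hχ x hx1 hxA
    exact hoff χ hχ x (fun h => hxA ((hA x).2 ⟨h, hx1⟩))
  have hI : IsoData K τ := isoData (K := K) hD hXA
  set ψ := τ₁ φ with hψdef
  have hψ : Pm ψ := pm_of_iso hirr hτ₁ hφ
  have hψc := hψ.isClass
  have hφ' := X_conj hφ
  have hψ' : Pm (τ₁ (conjFun φ)) := pm_of_iso hirr hτ₁ hφ'
  obtain ⟨a, ha, hτa⟩ := hI.mu φ hφ
  have ha' : IsIrrCharacter G (conjFun a) := IsIrr.conj ha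
  have hτφ : ψ - τ₁ (conjFun φ) = a - conjFun a := by
    rw [← hτa, ← hag _ (X_diff_mem hφ), iso_diff hτ₁ (zs_sub hφ) (zs_sub hφ') (zs_neg (zs_sub hφ'))]
  have horth : classInner ψ (τ₁ (conjFun φ)) = 0 := by
    rw [hψdef, hτ₁.2.2.1 _ (zs_sub hφ) _ (zs_sub hφ')]
    exact ci_irr_ne hφ.1 hφ'.1 (X_not_real hodd hφ).symm
  have hψa : ψ = a ∨ ψ = -a ∨ ψ = conjFun a ∨ ψ = -conjFun a := by
    have h1 : classInner ψ (a - conjFun a) = 1 := by
      rw [← hτφ, ci_sub_right, hψ.norm, horth, sub_zero]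
    rcases Pm.inner hψ (Pm.of_irr ha) with h2 | ⟨h2, -⟩ | ⟨h2, -⟩
    · rcases Pm.inner hψ (Pm.of_irr ha') with h3 | ⟨h3, -⟩ | ⟨h3, -⟩
      · rw [ci_sub_right, h2, h3] at h1; norm_num at h1
      · exact Or.inr (Or.inr (Or.inl h3.symm))
      · exact Or.inr (Or.inr (Or.inr (by rw [h3, neg_neg])))
    · exact Or.inl h2.symm
    · exact Or.inr (Or.inl (by rw [h2, neg_neg]))
  -- the difference is constant
  have hφ0 := hoff φ hφ
  set g : L → ℂ := fun x => if x ∈ K ∧ x ≠ 1 then av R ψ x - φ x else 0 with hg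
  have hgc : IsClassFunction L g := by
    intro x y
    have hiff : (y * x * y⁻¹ ∈ K ∧ y * x * y⁻¹ ≠ 1) ↔ (x ∈ K ∧ x ≠ 1) := by
      constructor
      · rintro ⟨h1, h2⟩
        refine ⟨?_, fun h => h2 (by rw [h]; group)⟩
        have := hK.conj_mem _ h1 y⁻¹
        have e : y⁻¹ * (y * x * y⁻¹) * y⁻¹⁻¹ = x := by group
        rwa [e] at this
      · rintro ⟨h1, h2⟩
        exact ⟨hK.conj_mem _ h1 y, fun h => h2 (conj_eq_one_iff.1 h)⟩
    show (if y * x * y⁻¹ ∈ K ∧ y * x * y⁻¹ ≠ 1 then av R ψ ((y * x * y⁻¹ : L) : G) - φ (y * x * y⁻¹) else 0) =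
      (if x ∈ K ∧ x ≠ 1 then av R ψ x - φ x else 0)
    by_cases h : x ∈ K ∧ x ≠ 1
    · rw [if_pos h, if_pos (hiff.2 h), (IsIrr.isClass hφ.1) x y]
      have h1 := av_conj hD hψc ((hA x).2 h) y.2
      have e : ((y * x * y⁻¹ : L) : G) = y * x * (y : G)⁻¹ := by simp
      rw [e, h1]
    · rw [if_neg h, if_neg (fun h' => h (hiff.1 h'))]
  -- reciprocity for functions supported on K#
  have hrec : ∀ α : L → ℂ, IsClassFunction L α → (∀ x : L, x ∉ K → α x = 0) → α 1 = 0 →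
      classInner (τ α) ψ = classInner α φ + classInner α g := by
    intro α hα h1 h2
    have hαA : ∀ x : L, (x : G) ∉ A → α x = 0 := by
      intro x hx
      by_cases hxK : x ∈ K
      · by_cases hx1 : x = 1
        · rw [hx1, h2]
        · exact absurd ((hA x).2 ⟨hxK, hx1⟩) hx
      · exact h1 x hxK
    rw [hτdef, recip' hD hα hαA hψc, ← ci_add_right, classInner, classInner]
    congr 1
    refine Finset.sum_congr rfl fun x _ => ?_
    by_cases h : x ∈ K ∧ x ≠ 1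
    · congr 2
      show av R ψ x = φ x + (if x ∈ K ∧ x ≠ 1 then av R ψ x - φ x else 0)
      rw [if_pos h]; ring
    · have : α x = 0 := by
        by_cases hxK : x ∈ K
        · by_cases hx1 : x = 1
          · rw [hx1, h2]
          · exact absurd ⟨hxK, hx1⟩ h
        · exact h1 x hxK
      rw [this, zero_mul, zero_mul]
  have hlam : ∀ lam ∈ calX K, classInner g lam = (classInner g φ / K.index) * lam 1 := by
    intro lam hl
    obtain ⟨d, hd0, hd⟩ := S_deg (K := K) (by rw [← hX]; exact hl)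
    have hmem : lam - (d : ℤ) • φ ∈ zspanOn (calX K) {1}ᶜ := by
      rw [zo_iff]
      refine ⟨zs_diff (zs_sub hl) (zs_zsmul _ (zs_sub hφ)), ?_⟩
      rw [zc, Pi.sub_apply, Pi.smul_apply, smul_eq_mul, hd, hφe]
      simp
    have h1 := hrec (lam - (d : ℤ) • φ) (IsGen.isClass (X_gen hmem)) (by
      intro x hx
      rw [zc, Pi.sub_apply, Pi.smul_apply, hoff lam hl x hx, hφ0 x hx]; simp) (zo_iff.1 hmem).2
    rw [← hag _ hmem, hψdef, hτ₁.2.2.1 _ hmem.1 _ (zs_sub hφ)] at h1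
    have h2 : classInner (lam - (d : ℤ) • φ) g = 0 := by linear_combination -h1
    rw [zc, ci_sub_left, ci_smul_left] at h2
    push_cast at h2
    have h3 := congrArg conj h2
    rw [map_sub, map_mul, ci_conj_symm, ci_conj_symm, Complex.conj_natCast, map_zero] at h3
    rw [hd]
    field_simp
    linear_combination h3
  have hval := diff_val hgc K (classInner g φ / K.index) (fun lam hl hz => hlam lam ⟨hl, hz⟩)
  have hg1 : g 1 = 0 := by
    simp only [hg]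
    rw [if_neg (fun h => h.2 rfl)]
  obtain ⟨v, hv⟩ : ∃ v : ℂ, ∀ z ∈ K, z ≠ 1 → av R ψ ((z : L) : G) = φ z + v := by
    refine ⟨-(classInner g φ / K.index * Nat.card L), fun z hz hz1 => ?_⟩
    have h1 := hval z hz hz1
    rw [hg1] at h1
    have h2 : g z = av R ψ z - φ z := by
      simp only [hg]
      rw [if_pos ⟨hz, hz1⟩]
    rw [h2] at h1
    linear_combination -h1
  -- integrality
  have h1ne : classInner φ (fun _ => (1 : ℂ)) = 0 := by
    apply ci_irr_ne hφ.1 isIrr_one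
    intro h
    apply X_not_real hodd hφ
    rw [h]; funext x; simp [conjFun]
  have hβ1 : (indFun K (fun _ => 1) - φ) 1 = 0 := by
    rw [Pi.sub_apply, ind_one, hφe, mul_one, sub_self]
  have hβoff : ∀ x : L, x ∉ K → (indFun K (fun _ => 1) - φ) x = 0 := by
    intro x hx
    rw [Pi.sub_apply, ind_of_not_mem hK _ hx, hφ0 x hx, sub_zero]
  have hβgen : IsGeneralizedCharacter L (indFun K (fun _ => 1) - φ) :=
    IsGen.sub (IsGen.ind (IsGen.of_irr isIrr_one)) (IsGen.of_irr hφ.1)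
  obtain ⟨c, hc⟩ : ∃ c : ℤ, v = c := by
    have hS : φ ∈ inducedIrrAbove K ⊥ := by rw [← hX]; exact hφ
    have h1 := hrec _ (IsGen.isClass hβgen) hβoff hβ1
    have h2 : classInner (indFun K (fun _ => 1) - φ) g = conj v := by
      have h3 : classInner g (indFun K (fun _ => 1) - φ) = v * classInner (fun _ => 1) (indFun K (fun _ => 1) - φ) := by
        apply inner_const
        intro x hx
        have hxK : x ∈ K := by by_contra h; exact hx (hβoff x h)
        have hx1 : x ≠ 1 := by rintro rfl; exact hx hβ1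
        simp only [hg]
        rw [if_pos ⟨hxK, hx1⟩, hv x hxK hx1]; ring
      have h4 : classInner (fun _ => (1 : ℂ)) (indFun K (fun _ => 1) - φ) = 1 := by
        rw [← ci_conj_symm, ci_sub_left, one_one, h1ne, sub_zero, map_one]
      rw [h4, mul_one] at h3
      rw [← ci_conj_symm, h3]
    have h3 : classInner (indFun K (fun _ => 1) - φ) φ = -1 := by
      rw [ci_sub_left, one_orth hS, ci_irr_self hφ.1]; ring
    rw [h2, h3] at h1
    have h4 : IsGeneralizedCharacter G (τ (indFun K (fun _ => 1) - φ)) :=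
      Cfsg.Agent.H10.Dade3.dade_gen hD hβgen (by
        intro x hx
        by_cases hxK : x ∈ K
        · by_cases hx1 : x = 1
          · rw [hx1, hβ1]
          · exact absurd ((hA x).2 ⟨hxK, hx1⟩) hx
        · exact hβoff x hxK)
    obtain ⟨n, hn⟩ := ci_gen_int h4 hψ.gen
    rw [hn] at h1
    refine ⟨n + 1, ?_⟩
    have h5 : conj v = ((n + 1 : ℤ) : ℂ) := by push_cast; linear_combination -h1
    have h6 := congrArg conj h5
    rw [Complex.conj_conj] at h6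
    rw [h6]; simp
  subst hc
  refine ⟨φ, ψ, a, c, hφ.1, hφe, hψ, ha, hψa, hφ, hτa, fun x hx hx1 => hv x hx hx1, hφ0, ?_⟩
  -- the norm
  have hconj_c : conj ((c : ℤ) : ℂ) = c := by simp
  have s1 : ∑ k : K, φ k = 0 := by
    rw [← sum_K hφ0]
    have h1 := h1ne
    rw [classInner] at h1
    simp only [map_one, mul_one] at h1
    rcases mul_eq_zero.1 h1 with h2 | h2
    · exact absurd h2 (inv_ne_zero (by exact_mod_cast Nat.card_pos.ne'))
    · exact h2
  have s2 : ∑ k : K, φ k * conj (φ k) = (K.index : ℂ) * Nat.card K := by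
    rw [← sum_K (f := fun x : L => φ x * conj (φ x)) (fun x hx => by rw [hφ0 x hx, zero_mul])]
    have h1 := ci_irr_self hφ.1
    rw [classInner] at h1
    have h2 : (Nat.card L : ℂ) ≠ 0 := by exact_mod_cast Nat.card_pos.ne'
    have h3 : (K.index : ℂ) * Nat.card K = Nat.card L := by
      rw [← K.card_mul_index]; push_cast; ring
    rw [h3]
    field_simp at h1
    exact h1
  have s3 : ∑ k : K, conj (φ k) = 0 := by rw [← map_sum, s1, map_zero]
  have h1 : ∑ᶠ x ∈ {x : L | (x : G) ∈ A}, ‖av R ψ x‖ ^ 2 = ∑ x : L, (if x ∈ K then (if x ≠ 1 then ‖av R ψ x‖ ^ 2 else 0) else 0) := by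
    rw [finsum_mem_eq_finite_toFinset_sum _ (Set.toFinite _)]
    rw [Finset.sum_congr rfl (g := fun x : L => if (x : G) ∈ A then ‖av R ψ x‖ ^ 2 else 0) (s₁ := (Set.toFinite {x : L | (x : G) ∈ A}).toFinset) (by
      intro x hx
      rw [if_pos]
      simpa using hx), Finset.sum_ite, Finset.sum_const_zero, add_zero]
    rw [Finset.filter_true_of_mem (by intro x hx; simpa using hx)]
    rw [← Finset.sum_filter, ← Finset.sum_filter]
    refine Finset.sum_congr ?_ fun _ _ => rfl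
    ext x
    simp only [Set.Finite.mem_toFinset, Set.mem_setOf_eq, Finset.mem_filter, Finset.mem_univ, true_and]
    exact hA x
  have h2 : ∀ x : L, ((if x ∈ K then (if x ≠ 1 then ‖av R ψ x‖ ^ 2 else 0) else 0 : ℝ) : ℂ) =
      if x ∈ K then (if x ≠ 1 then (φ x + c) * conj (φ x + c) else 0) else 0 := by
    intro x
    split_ifs with h3 h4
    · rw [hv x h3 h4, Complex.mul_conj, Complex.normSq_eq_norm_sq]
    · simp
    · simp
  have h3 : ((∑ᶠ x ∈ {x : L | (x : G) ∈ A}, ‖av R ψ x‖ ^ 2 : ℝ) : ℂ) =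
      (((K.index : ℝ) * Nat.card K + c ^ 2 * Nat.card K - (K.index + c) ^ 2 : ℝ) : ℂ) := by
    rw [h1, Complex.ofReal_sum, Finset.sum_congr rfl fun x _ => h2 x, sum_K (K := K) (by
      intro x hx; rw [if_neg hx])]
    have h4 : ∀ k : K, (if (k : L) ∈ K then (if (k : L) ≠ 1 then (φ k + c) * conj (φ k + c) else 0) else 0) =
        (φ k + c) * conj (φ k + c) - (if (k : K) = 1 then ((K.index : ℂ) + c) ^ 2 else 0) := by
      intro k
      rw [if_pos k.2]
      by_cases hk : k = 1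
      · rw [if_pos hk, if_neg (by rw [hk]; simp), hk, OneMemClass.coe_one, hφe]
        simp; ring
      · rw [if_neg hk, if_pos (show (k : L) ≠ 1 from fun h => hk (Subtype.ext h)), sub_zero]
    rw [Finset.sum_congr rfl fun k _ => h4 k, Finset.sum_sub_distrib, Finset.sum_ite_eq' Finset.univ (1 : K),
      if_pos (Finset.mem_univ _)]
    have h5 : ∑ k : K, (φ k + (c : ℂ)) * conj (φ k + c) =
        ∑ k : K, (φ k * conj (φ k) + c * conj (φ k) + c * φ k + c ^ 2) := by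
      refine Finset.sum_congr rfl fun k _ => ?_
      rw [map_add, hconj_c]; ring
    rw [h5, Finset.sum_add_distrib, Finset.sum_add_distrib, Finset.sum_add_distrib, ← Finset.mul_sum, ← Finset.mul_sum, s1, s2, s3,
      Finset.sum_const, Finset.card_univ, nsmul_eq_mul, ← Nat.card_eq_fintype_card]
    push_cast
    ring
  exact_mod_cast h3

end Frob

section Cong
open Cfsg.Agent.H10.BlockLoc
variable {V : Type*} [Group V] [Fintype V] {D : Subgroup V} [hDn : D.Normal] [Fintype D] {p : ℕ} {𝔪 : Ideal AlgInt}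

/-- congruence for averages -/
theorem avg_cong (hM : IsPModular p 𝔪) {F : V → ℂ} (hF : IsGeneralizedCharacter V F) {x y : V} (hc : Commute x y)
    (hx : ∃ k : ℕ, orderOf x = p ^ k) (hy : ¬ p ∣ orderOf y) :
    MemLocalIdeal 𝔪 ((Nat.card D : ℂ)⁻¹ * ∑ d : D, F (x * y * d) - (Nat.card D : ℂ)⁻¹ * ∑ d : D, F (y * d)) := by
  classical
  haveI := Fintype.ofFinite (IrrCharacter V)
  haveI := hM.2.1
  have hcard : (Nat.card D : ℂ) ≠ 0 := by exact_mod_cast Nat.card_pos.ne'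
  rw [avg_expand (IsGen.isClass hF) (x * y), avg_expand (IsGen.isClass hF) y, inv_mul_cancel_left₀ hcard, inv_mul_cancel_left₀ hcard,
    ← Finset.sum_sub_distrib]
  apply ideal_sum
  intro η _
  by_cases h : ∀ d ∈ D, (η : V → ℂ) d = (η : V → ℂ) 1
  · rw [if_pos h, if_pos h, ← mul_sub]
    obtain ⟨n, hn⟩ := ci_gen_int hF (IsGen.of_irr η.2)
    rw [hn]
    apply ideal_mul_left
    · exact memLocalRing_of_integral hM.2.1.ne_top (isIntegral_algebraMap (R := ℤ) (A := ℂ) (x := n) |> fun h => by simpa using h)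
    · exact Cfsg.Agent.H10.BlockHZ.char_sub_mem hM (IsIrr.isCharacter η.2) hc hx hy
  · rw [if_neg h, if_neg h, sub_zero]
    exact ideal_zero

end Cong

section CS
variable {V : Type*} [Group V] [Fintype V] {D : Subgroup V} [hDn : D.Normal] [Fintype D]

open Classical in
/-- Cauchy-Schwarz for a function with constant averages off `D` -/
theorem cs_avg {F : V → ℂ} {b : ℝ} (h : ∀ v, v ∉ D → ∑ d : D, F (v * d) = (Nat.card D : ℂ) * b) :
    ((Nat.card V : ℝ) - Nat.card D) * b ^ 2 ≤ ∑ v : V, (if v ∈ D then 0 else ‖F v‖ ^ 2) := by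
  set S : Finset V := Finset.univ.filter (fun v => v ∉ D) with hS
  have hScard : (S.card : ℝ) = Nat.card V - Nat.card D := by
    have h1 : S.card + (Finset.univ.filter (fun v => v ∈ D)).card = Fintype.card V := by
      rw [hS, add_comm, ← Finset.card_univ]
      exact Finset.card_filter_add_card_filter_not _
    have h2 : (Finset.univ.filter (fun v => v ∈ D)).card = Nat.card D := by
      rw [Nat.card_eq_fintype_card, Fintype.card_subtype]
    rw [h2] at h1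
    rw [Nat.card_eq_fintype_card, ← h1]
    push_cast; ring
  have h1 := sum_avg (D := D) F (fun v => if v ∈ D then 0 else 1) (by
    intro v d hd
    have : v * d ∈ D ↔ v ∈ D := Subgroup.mul_mem_cancel_right D hd
    simp only [this])
  have h2 : ∑ v : V, (∑ d : D, F (v * d)) * (if v ∈ D then 0 else 1) = (Nat.card D : ℂ) * b * S.card := by
    rw [hS, Finset.card_filter]
    push_cast
    rw [Finset.mul_sum]
    refine Finset.sum_congr rfl fun v _ => ?_
    by_cases hv : v ∈ D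
    · simp [hv]
    · rw [if_neg hv, if_pos hv, h v hv]
  have hD0 : (Nat.card D : ℂ) ≠ 0 := by exact_mod_cast Nat.card_pos.ne'
  have h3 : ∑ v ∈ S, F v = b * S.card := by
    rw [h2, mul_assoc] at h1
    have h4 := mul_left_cancel₀ hD0 h1
    rw [h4, hS, Finset.sum_filter]
    refine Finset.sum_congr rfl fun v _ => ?_
    by_cases hv : v ∈ D
    · simp [hv]
    · simp [hv]
  have h4 : ∑ v : V, (if v ∈ D then 0 else ‖F v‖ ^ 2) = ∑ v ∈ S, ‖F v‖ ^ 2 := by
    rw [hS, Finset.sum_filter]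
    refine Finset.sum_congr rfl fun v _ => ?_
    by_cases hv : v ∈ D <;> simp [hv]
  rw [h4, ← hScard]
  have h5 : (|b| * S.card) ≤ ∑ v ∈ S, ‖F v‖ := by
    have := norm_sum_le S F
    rw [h3, norm_mul, Complex.norm_real, Complex.norm_natCast, Real.norm_eq_abs] at this
    exact this
  have h6 : (∑ v ∈ S, ‖F v‖) ^ 2 ≤ S.card * ∑ v ∈ S, ‖F v‖ ^ 2 := sq_sum_le_card_mul_sum_sq
  have h7 : (|b| * S.card) ^ 2 ≤ S.card * ∑ v ∈ S, ‖F v‖ ^ 2 :=
    (pow_le_pow_left₀ (by positivity) h5 2).trans h6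
  rw [mul_pow, sq_abs] at h7
  rcases Nat.eq_zero_or_pos S.card with h8 | h8
  · rw [h8]; simp
    exact Finset.sum_nonneg fun _ _ => sq_nonneg _
  · have h9 : (0 : ℝ) < S.card := by exact_mod_cast h8
    have h10 : (S.card : ℝ) * (S.card * b ^ 2) ≤ S.card * ∑ v ∈ S, ‖F v‖ ^ 2 := by
      calc (S.card : ℝ) * (S.card * b ^ 2) = b ^ 2 * (S.card : ℝ) ^ 2 := by ring
        _ ≤ _ := h7
    exact le_of_mul_le_mul_left h10 h9

end CS

end Cfsg.Agent.H1.PF12
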