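import Mathlib
import Cfsg.Prelude
import Cfsg.Agent.H2_Card
import Cfsg.Agent.H2_PGroup
import Cfsg.Agent.H2_PGroup2
import Cfsg.Agent.H1_Basic
import Cfsg.Agent.H5_Dih

set_option autoImplicit false

open Subgroup Cfsg
open scoped Pointwise commutatorElement

namespace Cfsg.Agent.H2.MaxClass

universe u

open Cfsg.Agent.H2.Card

section idx
variable {X : Type*} [Group X] {C : Subgroup X}

theorem mul_mem_of_not_mem (hi : C.index = 2) {x y : X} (hx : x ∉ C) (hy : y ∉ C) : x * y ∈ C := by
  rw [mul_mem_iff_of_index_two hi]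
  exact ⟨fun h => absurd h hx, fun h => absurd h hy⟩

theorem central_of (hCc : ∀ a ∈ C, ∀ b ∈ C, a * b = b * a) (hi : C.index = 2) {x : X} (hx : x ∉ C)
    {t : X} (ht : t ∈ C) (hxt : x * t = t * x) : t ∈ center X := by
  rw [mem_center_iff]
  intro g
  by_cases hg : g ∈ C
  · exact hCc g hg t ht
  · have h1 : x⁻¹ * g ∈ C := mul_mem_of_not_mem hi (by rwa [inv_mem_iff]) hg
    have h2 := hCc _ h1 t ht
    calc g * t = x * ((x⁻¹ * g) * t) := by group
      _ = x * t * (x⁻¹ * g) := by rw [h2]; group
      _ = t * x * (x⁻¹ * g) := by rw [hxt]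
      _ = t * g := by group

theorem sq_central (hCc : ∀ a ∈ C, ∀ b ∈ C, a * b = b * a) (hi : C.index = 2) {x : X} (hx : x ∉ C) :
    x * x ∈ center X :=
  central_of hCc hi hx (mul_mem_of_not_mem hi hx hx) (by group)

theorem norm_central (hCc : ∀ a ∈ C, ∀ b ∈ C, a * b = b * a) (hi : C.index = 2) {x : X} (hx : x ∉ C)
    {c : X} (hc : c ∈ C) : x * c * x⁻¹ * c ∈ center X := by
  have hCn : C.Normal := normal_of_index_eq_two hi
  have h1 : x * c * x⁻¹ ∈ C := hCn.conj_mem c hc x
  apply central_of hCc hi hx (C.mul_mem h1 hc)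
  have h2 := mem_center_iff.1 (sq_central hCc hi hx) c
  have h3 := hCc _ h1 c hc
  calc x * (x * c * x⁻¹ * c) = x * (x * c * x⁻¹ * c) := rfl
    _ = (x * x) * c * x⁻¹ * c := by group
    _ = c * (x * x) * x⁻¹ * c := by rw [h2]
    _ = (c * (x * c * x⁻¹)) * x := by group
    _ = (x * c * x⁻¹ * c) * x := by rw [h3]

end idx

section card
variable {p : ℕ} [hp : Fact p.Prime]

theorem quot_not_prime {X : Type*} [Group X] [Finite X] (h : Nat.card (X ⧸ center X) = p) : False := by
  have h1 : IsCyclic (X ⧸ center X) := isCyclic_of_prime_card h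
  have h2 : ∀ a b : X, a * b = b * a := fun a b =>
    ((QuotientGroup.mk' (center X)).isMulCommutative_of_isCyclic_of_ker_le_center (by simp)).is_comm.comm a b
  have h3 : center X = ⊤ := by
    rw [eq_top_iff]; intro x _; rw [mem_center_iff]; intro g; exact h2 g x
  rw [← index_eq_card, h3, index_top] at h
  exact hp.out.one_lt.ne h

theorem class_le (n : ℕ) : ∀ (X : Type u) [Group X] [Finite X], Nat.card X = p ^ n → 2 ≤ n →
    Group.nilpotencyClass X ≤ n - 1 := by
  induction n using Nat.strong_induction_on with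
  | _ n ih =>
    intro X _ _ hX hn
    have hpg : IsPGroup p X := IsPGroup.iff_card.2 ⟨n, hX⟩
    have hnil := hpg.isNilpotent
    have hnt : Nontrivial X := by
      rw [← Finite.one_lt_card_iff_nontrivial, hX]
      exact Nat.one_lt_pow (by omega) hp.out.one_lt
    rw [Group.nilpotencyClass_eq_quotient_center_plus_one]
    obtain ⟨m, hm⟩ := IsPGroup.iff_card.1 (hpg.to_quotient (center X))
    have hlt : m < n := by
      have h1 := card_quotient_lt (N := center X) (by
        have := Cfsg.Agent.H2.PGroup.inf_center_ne_bot hpg (M := (⊤ : Subgroup X)) (by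
          rw [ne_eq, ← Subgroup.card_eq_one, card_top, hX]
          exact (Nat.one_lt_pow (by omega) hp.out.one_lt).ne')
        rwa [top_inf_eq] at this)
      rw [hm, hX] at h1
      exact (Nat.pow_lt_pow_iff_right hp.out.one_lt).1 h1
    rcases m with _ | _ | m
    · have h2 : Subsingleton (X ⧸ center X) := by
        rw [← Finite.card_le_one_iff_subsingleton, hm, pow_zero]
      rw [Group.nilpotencyClass_zero_iff_subsingleton.2 h2]
      omega
    · exact (quot_not_prime (hm.trans (pow_one p))).elim
    · have := ih (m + 2) hlt (X ⧸ center X) hm (by omega)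
      omega

theorem center_of_max {n : ℕ} {X : Type u} [Group X] [Finite X] (hX : Nat.card X = p ^ n) (hn : 3 ≤ n)
    (hc : Group.nilpotencyClass X = n - 1) :
    Nat.card (center X) = p ∧ Nat.card (X ⧸ center X) = p ^ (n - 1) ∧
      Group.nilpotencyClass (X ⧸ center X) = n - 2 := by
  have hpg : IsPGroup p X := IsPGroup.iff_card.2 ⟨n, hX⟩
  have hnil := hpg.isNilpotent
  have hnt : Nontrivial X := by
    rw [← Finite.one_lt_card_iff_nontrivial, hX]
    exact Nat.one_lt_pow (by omega) hp.out.one_lt
  rw [Group.nilpotencyClass_eq_quotient_center_plus_one] at hc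
  obtain ⟨m, hm⟩ := IsPGroup.iff_card.1 (hpg.to_quotient (center X))
  have hlt : m < n := by
    have h1 := card_quotient_lt (N := center X) (by
      have := Cfsg.Agent.H2.PGroup.inf_center_ne_bot hpg (M := (⊤ : Subgroup X)) (by
        rw [ne_eq, ← Subgroup.card_eq_one, card_top, hX]
        exact (Nat.one_lt_pow (by omega) hp.out.one_lt).ne')
      rwa [top_inf_eq] at this)
    rw [hm, hX] at h1
    exact (Nat.pow_lt_pow_iff_right hp.out.one_lt).1 h1
  have hmn : m = n - 1 := by
    rcases m with _ | _ | m
    · have h2 : Subsingleton (X ⧸ center X) := by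
        rw [← Finite.card_le_one_iff_subsingleton, hm, pow_zero]
      rw [Group.nilpotencyClass_zero_iff_subsingleton.2 h2] at hc
      omega
    · exact (quot_not_prime (hm.trans (pow_one p))).elim
    · have := class_le (p := p) (m + 2) (X ⧸ center X) hm (by omega)
      omega
  subst hmn
  refine ⟨?_, hm, by omega⟩
  have h3 := (center X).card_mul_index
  rw [index_eq_card, hm, hX] at h3
  have h4 : p ^ n = p * p ^ (n - 1) := by rw [← pow_succ']; congr 1; omega
  rw [h4] at h3
  exact Nat.eq_of_mul_eq_mul_right (pow_pos hp.out.pos _) h3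

theorem top_of_mem {X : Type*} [Group X] [Finite X] {C : Subgroup X} (hi : C.index = p) {x : X} (hx : x ∉ C)
    {H : Subgroup X} (hCH : C ≤ H) (hxH : x ∈ H) : H = ⊤ := by
  have h1 := index_dvd_of_le hCH
  rw [hi] at h1
  rcases (Nat.dvd_prime hp.out).1 h1 with h2 | h2
  · rwa [index_eq_one] at h2
  · exfalso
    have := eq_of_le_of_index_eq hCH (hi.trans h2.symm)
    rw [this] at hx
    exact hx hxH

theorem mem_center_of {X : Type*} [Group X] [Finite X] {C : Subgroup X} (hi : C.index = p) {x : X} (hx : x ∉ C)
    {t : X} (h1 : ∀ c ∈ C, c * t = t * c) (h2 : x * t = t * x) : t ∈ center X := by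
  have h3 : centralizer {t} = ⊤ := top_of_mem hi hx (fun c hc => by
    rw [mem_centralizer_singleton_iff]; exact h1 c hc) (by
    rw [mem_centralizer_singleton_iff]; exact h2)
  rw [mem_center_iff]
  intro g
  have : g ∈ centralizer {t} := by rw [h3]; exact mem_top g
  exact mem_centralizer_singleton_iff.1 this

theorem center_le {X : Type*} [Group X] [Finite X] {C : Subgroup X} (hCc : ∀ a ∈ C, ∀ b ∈ C, a * b = b * a)
    (hi : C.index = p) (hna : ¬ ∀ a b : X, a * b = b * a) : center X ≤ C := by
  intro z hz
  by_contra hzC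
  apply hna
  have hCZ : C ≤ center X := by
    intro a ha
    exact mem_center_of hi hzC (fun c hc => hCc c hc a ha) ((mem_center_iff.1 hz a).symm)
  have h1 : center X = ⊤ := top_of_mem hi hzC hCZ hz
  intro a b
  have : b ∈ center X := by rw [h1]; exact mem_top b
  exact mem_center_iff.1 this a

/-- |C| = |[x, C]| |C_C(x)| -/
theorem abelian_index_p {X : Type*} [Group X] [Finite X] {C : Subgroup X} (hCn : C.Normal) (hCc : ∀ a ∈ C, ∀ b ∈ C, a * b = b * a)
    (hi : C.index = p) (hna : ¬ ∀ a b : X, a * b = b * a) :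
    Nat.card (commutator X) * Nat.card (center X) = Nat.card C := by
  obtain ⟨x, hx⟩ : ∃ x, x ∉ C := by
    by_contra hcon
    push Not at hcon
    exact hna fun a b => hCc a (hcon a) b (hcon b)
  let f : C →* C :=
    { toFun := fun c => ⟨⁅x, (c : X)⁆, by
        rw [commutatorElement_def]
        exact C.mul_mem (hCn.conj_mem _ c.2 x) (inv_mem c.2)⟩
      map_one' := Subtype.ext (commutatorElement_one_right x)
      map_mul' := fun a b => Subtype.ext (by
        change ⁅x, (a : X) * b⁆ = ⁅x, (a : X)⁆ * ⁅x, (b : X)⁆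
        have h1 : (x * (b : X) * x⁻¹) * (a : X)⁻¹ = (a : X)⁻¹ * (x * (b : X) * x⁻¹) :=
          hCc _ (hCn.conj_mem _ b.2 x) _ (inv_mem a.2)
        have h2 : (b : X)⁻¹ * (a : X)⁻¹ = (a : X)⁻¹ * (b : X)⁻¹ := hCc _ (inv_mem b.2) _ (inv_mem a.2)
        simp only [commutatorElement_def]
        calc x * ((a : X) * b) * x⁻¹ * ((a : X) * b)⁻¹ = (x * a * x⁻¹) * (x * b * x⁻¹) * ((b : X)⁻¹ * (a : X)⁻¹) := by group
          _ = (x * a * x⁻¹) * (x * b * x⁻¹) * ((a : X)⁻¹ * (b : X)⁻¹) := by rw [h2]
          _ = (x * a * x⁻¹) * ((x * b * x⁻¹) * (a : X)⁻¹) * (b : X)⁻¹ := by group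
          _ = (x * a * x⁻¹) * ((a : X)⁻¹ * (x * b * x⁻¹)) * (b : X)⁻¹ := by rw [h1]
          _ = _ := by group) }
  have hcenC : center X ≤ C := center_le hCc hi hna
  have hker : f.ker.map C.subtype = center X := by
    ext t
    constructor
    · rintro ⟨c, hc, rfl⟩
      have h1 : ⁅x, (c : X)⁆ = 1 := congrArg Subtype.val (MonoidHom.mem_ker.1 hc)
      exact mem_center_of hi hx (fun a ha => hCc a ha c c.2) (commutatorElement_eq_one_iff_mul_comm.1 h1)
    · intro ht
      refine ⟨⟨t, hcenC ht⟩, MonoidHom.mem_ker.2 (Subtype.ext ?_), rfl⟩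
      exact commutatorElement_eq_one_iff_mul_comm.2 (mem_center_iff.1 ht x)
  have hgen : Subgroup.closure ((C : Set X) ∪ {x}) = ⊤ :=
    top_of_mem hi hx (fun c hc => Subgroup.subset_closure (Or.inl hc)) (Subgroup.subset_closure (Or.inr rfl))
  have hRmem : ∀ c ∈ C, ⁅x, c⁆ ∈ f.range.map C.subtype := fun c hc => ⟨f ⟨c, hc⟩, ⟨_, rfl⟩, rfl⟩
  have hran : f.range.map C.subtype = commutator X := by
    apply le_antisymm
    · rintro _ ⟨_, ⟨c, rfl⟩, rfl⟩
      exact commutator_mem_commutator (mem_top x) (mem_top (c : X))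
    · rw [_root_.commutator_def, ← hgen]
      apply Cfsg.Agent.H2.PGroup2.commutator_closure_le
      · rw [hgen, top_le_iff]
        apply top_of_mem hi hx
        · intro c hc
          apply mem_normalizer_fintype
          rintro _ ⟨y, hy, rfl⟩
          have : c * (y : X) * c⁻¹ = y := by rw [hCc c hc y y.2, mul_inv_cancel_right]
          change c * (y : X) * c⁻¹ ∈ _
          rw [this]
          exact ⟨y, hy, rfl⟩
        · apply mem_normalizer_fintype
          rintro _ ⟨_, ⟨y, rfl⟩, rfl⟩
          change x * ⁅x, (y : X)⁆ * x⁻¹ ∈ _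
          have : x * ⁅x, (y : X)⁆ * x⁻¹ = ⁅x, x * y * x⁻¹⁆ := by
            simp only [commutatorElement_def]; group
          rw [this]
          exact hRmem _ (hCn.conj_mem _ y.2 x)
      · rintro a (ha | rfl) b (hb | rfl)
        · rw [commutatorElement_eq_one_iff_mul_comm.2 (hCc a ha b hb)]; exact one_mem _
        · rw [← commutatorElement_inv]; exact inv_mem (hRmem a ha)
        · exact hRmem b hb
        · rw [commutatorElement_self]; exact one_mem _
  rw [← hker, ← hran, card_map_of_injective C.subtype_injective, card_map_of_injective C.subtype_injective,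
    mul_comm, ← Nat.card_congr (QuotientGroup.quotientKerEquivRange f).toEquiv, ← index_eq_card, card_mul_index]

end card


section two

theorem normal_index_of {p : ℕ} [hp : Fact p.Prime] {X : Type*} [Group X] [Finite X] (hX : IsPGroup p X)
    {N : Subgroup X} (hN : N.Normal) (hne : N ≠ ⊥) (hZ : Nat.card (center X) = p) : center X ≤ N := by
  have h1 := Cfsg.Agent.H2.PGroup.inf_center_ne_bot hX hne
  have h2 : Nat.card (N ⊓ center X : Subgroup X) ∣ p := by
    rw [← hZ]; exact card_dvd_of_le inf_le_right
  rcases (Nat.dvd_prime hp.out).1 h2 with h3 | h3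
  · exact absurd (card_eq_one.1 h3) h1
  · have : N ⊓ center X = center X := eq_of_le_of_card_eq inf_le_right (h3.trans hZ.symm)
    rw [← this]; exact inf_le_left

theorem comm_of_sq {X : Type*} [Group X] (h : ∀ x : X, x ^ 2 = 1) (a b : X) : a * b = b * a := by
  have h1 : ∀ x : X, x⁻¹ = x := fun x => by
    rw [inv_eq_iff_mul_eq_one, ← pow_two]; exact h x
  calc a * b = (a * b)⁻¹ := (h1 _).symm
    _ = b⁻¹ * a⁻¹ := mul_inv_rev a b
    _ = b * a := by rw [h1, h1]

theorem not_comm_of_class {X : Type*} [Group X] [Group.IsNilpotent X] (h : 1 < Group.nilpotencyClass X) :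
    ¬ ∀ a b : X, a * b = b * a := by
  intro hc
  have : IsMulCommutative X := ⟨⟨hc⟩⟩
  have := Group.IsNilpotent.nilpotencyClass_le_one_iff.2 this
  omega

/-- 2-groups of maximal class have a cyclic subgroup of index 2. -/
theorem exists_cyclic (n : ℕ) : ∀ (X : Type u) [Group X] [Finite X], 3 ≤ n → Nat.card X = 2 ^ n →
    Group.nilpotencyClass X = n - 1 → ∃ C : Subgroup X, IsCyclic C ∧ C.index = 2 := by
  induction n with
  | zero => intro X _ _ h; omega
  | succ n ih =>
    intro X _ _ hn hX hc
    have h2 : Fact (Nat.Prime 2) := ⟨Nat.prime_two⟩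
    have hpg : IsPGroup 2 X := IsPGroup.iff_card.2 ⟨_, hX⟩
    have hnil := hpg.isNilpotent
    have hna := not_comm_of_class (X := X) (by omega)
    obtain ⟨hZ, hQ, hQc⟩ := center_of_max (p := 2) hX hn hc
    rcases Nat.lt_or_ge n 3 with hn3 | hn3
    · have hn2 : n = 2 := by omega
      subst hn2
      -- order 8
      have : ∃ x : X, x ^ 2 ≠ 1 := by
        by_contra hcon
        push Not at hcon
        exact hna (comm_of_sq hcon)
      obtain ⟨x, hx⟩ := this
      have h3 : orderOf x ∣ 2 ^ 3 := by rw [← hX]; exact orderOf_dvd_natCard x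
      obtain ⟨k, hk, hxk⟩ := (Nat.dvd_prime_pow Nat.prime_two).1 h3
      have hk2 : k = 2 := by
        have hk1 : 1 < k := by
          by_contra hcon
          apply hx
          rw [← orderOf_dvd_iff_pow_eq_one, hxk]
          interval_cases k <;> norm_num
        rcases Nat.lt_or_ge k 3 with h | h
        · omega
        · exfalso
          have hk3 : k = 3 := by omega
          subst hk3
          have : IsCyclic X := isCyclic_of_orderOf_eq_card x (by rw [hxk, hX])
          apply hna
          intro a b
          letI := IsCyclic.commGroup (α := X)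
          exact (IsCyclic.commGroup (α := X)).mul_comm a b
      refine ⟨zpowers x, inferInstance, ?_⟩
      have h4 := card_mul_index (zpowers x)
      rw [Nat.card_zpowers, hxk, hX, hk2] at h4
      omega
    · obtain ⟨D, hDc, hDi⟩ := ih (X ⧸ center X) hn3 (by simpa using hQ) (by omega)
      set C := D.comap (QuotientGroup.mk' (center X)) with hC
      have hCi : C.index = 2 := by
        rw [hC, index_comap_of_surjective _ (QuotientGroup.mk'_surjective _), hDi]
      have hZC : center X ≤ C := by
        intro z hz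
        rw [hC, mem_comap]
        have : QuotientGroup.mk' (center X) z = 1 := by
          rwa [← MonoidHom.mem_ker, QuotientGroup.ker_mk']
        rw [this]; exact one_mem _
      obtain ⟨⟨d, hd⟩, hdgen⟩ := hDc.exists_generator
      obtain ⟨c, rfl⟩ := QuotientGroup.mk'_surjective (center X) d
      have hcC : c ∈ C := hd
      have hform : ∀ y ∈ C, ∃ z ∈ center X, ∃ k : ℤ, y = z * c ^ k := by
        intro y hy
        obtain ⟨k, hk⟩ := mem_zpowers_iff.1 (hdgen ⟨QuotientGroup.mk' (center X) y, hy⟩)
        have h5 : QuotientGroup.mk' (center X) (y * (c ^ k)⁻¹) = 1 := by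
          have := congrArg Subtype.val hk
          rw [map_mul, map_inv, map_zpow]
          change (QuotientGroup.mk' (center X) c) ^ k = QuotientGroup.mk' (center X) y at this
          rw [← this, mul_inv_cancel]
        rw [← MonoidHom.mem_ker, QuotientGroup.ker_mk'] at h5
        exact ⟨_, h5, k, by group⟩
      have hzsq : ∀ z ∈ center X, z ^ 2 = 1 := by
        intro z hz
        have : (⟨z, hz⟩ : center X) ^ Nat.card (center X) = 1 := pow_card_eq_one'
        rw [hZ] at this
        exact congrArg Subtype.val this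
      have hCcard : Nat.card C = 2 ^ n := by
        have h4 := card_mul_index C
        rw [hCi, hX, pow_succ] at h4
        exact Nat.eq_of_mul_eq_mul_right (by norm_num) h4
      have hc2 : c ^ 2 ≠ 1 := by
        intro h0
        -- |C| ≤ 4
        have h6 : C ≤ center X ⊔ zpowers c := by
          intro y hy
          obtain ⟨z, hz, k, rfl⟩ := hform y hy
          exact mul_mem (mem_sup_left hz) (mem_sup_right (zpow_mem_zpowers c k))
        have h7 := card_sup_mul_card_inf (H := zpowers c) (N := center X) le_normalizer_of_normal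
        have h8 : Nat.card (zpowers c) ≤ 2 := by
          rw [Nat.card_zpowers]
          exact Nat.le_of_dvd (by norm_num) (orderOf_dvd_of_pow_eq_one h0)
        have h9 : Nat.card C ≤ 4 := by
          calc Nat.card C ≤ Nat.card (zpowers c ⊔ center X : Subgroup X) := by
                rw [sup_comm]; exact card_le_of_le h6
            _ ≤ Nat.card (zpowers c ⊔ center X : Subgroup X) * Nat.card (zpowers c ⊓ center X : Subgroup X) :=
                Nat.le_mul_of_pos_right _ Nat.card_pos
            _ = Nat.card (zpowers c) * Nat.card (center X) := h7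
            _ ≤ 2 * 2 := by rw [hZ]; exact Nat.mul_le_mul_right _ h8
        rw [hCcard] at h9
        have : 2 ^ 3 ≤ 2 ^ n := Nat.pow_le_pow_right (by norm_num) hn3
        omega
      have hCn : C.Normal := normal_of_index_eq_two hCi
      have hnorm : (zpowers (c ^ 2)).Normal := by
        refine ⟨?_⟩
        rintro _ ⟨k, rfl⟩ g
        obtain ⟨z, hz, l, hl⟩ := hform _ (hCn.conj_mem c hcC g)
        have hcomm : Commute z (c ^ l) := ((mem_center_iff.1 hz) (c ^ l)).symm
        have h5 : g * c ^ 2 * g⁻¹ = (c ^ 2) ^ l := by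
          rw [← conj_pow, hl, hcomm.mul_pow, hzsq z hz, one_mul, ← zpow_natCast, ← zpow_natCast, ← zpow_mul,
            ← zpow_mul, mul_comm]
        change g * (c ^ 2) ^ k * g⁻¹ ∈ _
        rw [← conj_zpow, h5]
        exact zpow_mem (zpow_mem_zpowers _ _) _
      have hle : center X ≤ zpowers (c ^ 2) := normal_index_of hpg hnorm (by
        rwa [ne_eq, zpowers_eq_bot]) hZ
      refine ⟨C, ?_, hCi⟩
      have : C = zpowers c := by
        apply le_antisymm
        · intro y hy
          obtain ⟨z, hz, k, rfl⟩ := hform y hy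
          refine mul_mem ?_ (zpow_mem_zpowers c k)
          have h10 : zpowers (c ^ 2) ≤ zpowers c := by
            rw [zpowers_le]; exact npow_mem_zpowers c 2
          exact h10 (hle hz)
        · rwa [zpowers_le]
      rw [this]; infer_instance

/-- commutator quotient -/
theorem klein_of_max {n : ℕ} {X : Type u} [Group X] [Finite X] (hn : 3 ≤ n) (hX : Nat.card X = 2 ^ n)
    (hc : Group.nilpotencyClass X = n - 1) : IsKleinFour (X ⧸ commutator X) := by
  have h2 : Fact (Nat.Prime 2) := ⟨Nat.prime_two⟩
  have hpg : IsPGroup 2 X := IsPGroup.iff_card.2 ⟨_, hX⟩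
  have hnil := hpg.isNilpotent
  have hna := not_comm_of_class (X := X) (by omega)
  obtain ⟨hZ, hQ, hQc⟩ := center_of_max (p := 2) hX hn hc
  obtain ⟨C, hCc, hCi⟩ := exists_cyclic n X hn hX hc
  have hCn : C.Normal := normal_of_index_eq_two hCi
  have hCcomm : ∀ a ∈ C, ∀ b ∈ C, a * b = b * a := fun a ha b hb => by
    obtain ⟨g, hg⟩ := hCc.exists_generator
    obtain ⟨k, hk⟩ := mem_zpowers_iff.1 (hg ⟨a, ha⟩)
    obtain ⟨l, hl⟩ := mem_zpowers_iff.1 (hg ⟨b, hb⟩)
    have h3 : (⟨a, ha⟩ : C) * ⟨b, hb⟩ = ⟨b, hb⟩ * ⟨a, ha⟩ := by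
      rw [← hk, ← hl, ← zpow_add, ← zpow_add, add_comm]
    exact congrArg Subtype.val h3
  have hcard := abelian_index_p (p := 2) hCn hCcomm hCi hna
  have hCX := card_mul_index C
  rw [hCi, hX, ← hcard, hZ] at hCX
  have hidx : (commutator X).index = 4 := by
    have h4 := card_mul_index (commutator X)
    rw [hX, ← hCX] at h4
    have : 0 < Nat.card (commutator X) := Nat.card_pos
    have h5 : Nat.card (commutator X) * (commutator X).index = Nat.card (commutator X) * 4 := by
      rw [h4]; ring
    exact Nat.eq_of_mul_eq_mul_left this h5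
  have hne : commutator X ≠ ⊥ := by
    intro h0
    apply hna
    intro a b
    have h5 : ⁅a, b⁆ ∈ commutator X := commutator_mem_commutator (mem_top a) (mem_top b)
    rw [h0, mem_bot] at h5
    exact commutatorElement_eq_one_iff_mul_comm.1 h5
  have hZle : center X ≤ commutator X := normal_index_of hpg inferInstance hne hZ
  have hsq : ∀ g : X, g ^ 2 ∈ commutator X := by
    intro g
    by_cases hg : g ∈ C
    · obtain ⟨x, hx⟩ : ∃ x, x ∉ C := by
        by_contra hcon
        push Not at hcon
        exact hna fun a b => hCcomm a (hcon a) b (hcon b)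
      have h6 := hZle (norm_central hCcomm hCi hx hg)
      have h7 : ⁅x, g⁆ ∈ commutator X := commutator_mem_commutator (mem_top x) (mem_top g)
      have h8 : g ^ 2 = ⁅x, g⁆⁻¹ * (x * g * x⁻¹ * g) := by
        rw [commutatorElement_def, pow_two]; group
      rw [h8]
      exact mul_mem (inv_mem h7) h6
    · rw [pow_two]
      exact hZle (sq_central hCcomm hCi hg)
  have hexp : ∀ g : X ⧸ commutator X, g ^ 2 = 1 := by
    intro g
    obtain ⟨g, rfl⟩ := QuotientGroup.mk'_surjective (commutator X) g
    rw [← map_pow, ← MonoidHom.mem_ker, QuotientGroup.ker_mk']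
    exact hsq g
  refine ⟨by rw [← index_eq_card]; exact hidx, ?_⟩
  have h9 : Monoid.exponent (X ⧸ commutator X) ∣ 2 := Monoid.exponent_dvd_of_forall_pow_eq_one hexp
  rcases (Nat.dvd_prime Nat.prime_two).1 h9 with h10 | h10
  · rw [Monoid.exp_eq_one_iff] at h10
    have h11 : Nat.card (X ⧸ commutator X) = 1 := Nat.card_of_subsingleton 1
    rw [← index_eq_card, hidx] at h11
    omega
  · exact h10

/-- Taussky -/
theorem max_of_klein (n : ℕ) : ∀ (X : Type u) [Group X] [Finite X], 3 ≤ n → Nat.card X = 2 ^ n →
    (commutator X).index = 4 → Group.nilpotencyClass X = n - 1 := by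
  induction n with
  | zero => intro X _ _ h; omega
  | succ n ih =>
    intro X _ _ hn hX hidx
    have h2 : Fact (Nat.Prime 2) := ⟨Nat.prime_two⟩
    have hpg : IsPGroup 2 X := IsPGroup.iff_card.2 ⟨_, hX⟩
    have hnil := hpg.isNilpotent
    have hcX := card_mul_index (commutator X)
    rw [hidx, hX] at hcX
    have hne : commutator X ≠ ⊥ := by
      intro h0
      rw [h0, card_bot] at hcX
      have : 2 ^ 3 ≤ 2 ^ (n + 1) := Nat.pow_le_pow_right (by norm_num) hn
      omega
    have hna : ¬ ∀ a b : X, a * b = b * a := by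
      intro hcon
      apply hne
      rw [_root_.commutator_def, commutator_eq_bot_iff_le_centralizer]
      intro a _
      rw [mem_centralizer_iff]
      intro b _
      exact hcon b a
    have hub := class_le (p := 2) (n + 1) X hX (by omega)
    rcases Nat.lt_or_ge n 3 with hn3 | hn3
    · have hn2 : n = 2 := by omega
      subst hn2
      have : ¬ Group.nilpotencyClass X ≤ 1 := by
        intro h
        have := Group.IsNilpotent.nilpotencyClass_le_one_iff.1 h
        exact hna fun a b => this.is_comm.comm a b
      omega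
    · obtain ⟨z, hz, hzo⟩ : ∃ z ∈ commutator X ⊓ center X, orderOf z = 2 := by
        have h1 := Cfsg.Agent.H2.PGroup.inf_center_ne_bot hpg hne
        have h3 : Nontrivial (commutator X ⊓ center X : Subgroup X) := (nontrivial_iff_ne_bot _).2 h1
        have h4 : 2 ∣ Nat.card (commutator X ⊓ center X : Subgroup X) := by
          obtain ⟨k, hk⟩ := IsPGroup.iff_card.1 (hpg.to_subgroup (commutator X ⊓ center X))
          rw [hk]
          apply dvd_pow_self
          rintro rfl
          rw [pow_zero] at hk
          exact h1 (card_eq_one.1 hk)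
        obtain ⟨z, hz⟩ := exists_prime_orderOf_dvd_card' 2 h4
        exact ⟨z, z.2, by rw [← hz, Subgroup.orderOf_coe]⟩
      have hzc : ∀ g : X, g * z = z * g := fun g => mem_center_iff.1 hz.2 g
      set Z := zpowers z with hZdef
      have hZcen : Z ≤ center X := by rw [hZdef, zpowers_le]; exact hz.2
      have hZn : Z.Normal := by
        refine ⟨fun t ht g => ?_⟩
        have : g * t * g⁻¹ = t := by rw [mem_center_iff.1 (hZcen ht) g, mul_inv_cancel_right]
        rwa [this]
      have hZcard : Nat.card Z = 2 := by rw [hZdef, Nat.card_zpowers, hzo]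
      have hQcard : Nat.card (X ⧸ Z) = 2 ^ n := by
        have h4 := card_mul_index Z
        rw [hZcard, hX, pow_succ', index_eq_card] at h4
        exact Nat.eq_of_mul_eq_mul_left (by norm_num) h4
      have hcomap : (commutator (X ⧸ Z)).comap (QuotientGroup.mk' Z) = commutator X := by
        have h5 : commutator (X ⧸ Z) = (commutator X).map (QuotientGroup.mk' Z) := by
          rw [_root_.commutator_def, _root_.commutator_def, map_commutator, ← MonoidHom.range_eq_map,
            MonoidHom.range_eq_top.2 (QuotientGroup.mk'_surjective Z)]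
        rw [h5, comap_map_eq, QuotientGroup.ker_mk', sup_eq_left]
        rw [hZdef, zpowers_le]; exact hz.1
      have hQidx : (commutator (X ⧸ Z)).index = 4 := by
        rw [← hidx, ← hcomap, index_comap_of_surjective _ (QuotientGroup.mk'_surjective _)]
      have hQcl := ih (X ⧸ Z) hn3 hQcard hQidx
      obtain ⟨D, hDc, hDi⟩ := exists_cyclic n (X ⧸ Z) hn3 hQcard hQcl
      set C := D.comap (QuotientGroup.mk' Z) with hC
      have hCi : C.index = 2 := by
        rw [hC, index_comap_of_surjective _ (QuotientGroup.mk'_surjective _), hDi]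
      have hCn : C.Normal := normal_of_index_eq_two hCi
      -- C abelian
      obtain ⟨⟨d, hd⟩, hdgen⟩ := hDc.exists_generator
      obtain ⟨c, rfl⟩ := QuotientGroup.mk'_surjective Z d
      have hform : ∀ y ∈ C, ∃ z ∈ Z, ∃ k : ℤ, y = z * c ^ k := by
        intro y hy
        obtain ⟨k, hk⟩ := mem_zpowers_iff.1 (hdgen ⟨QuotientGroup.mk' Z y, hy⟩)
        have h5 : QuotientGroup.mk' Z (y * (c ^ k)⁻¹) = 1 := by
          have := congrArg Subtype.val hk
          rw [map_mul, map_inv, map_zpow]
          change (QuotientGroup.mk' Z c) ^ k = QuotientGroup.mk' Z y at this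
          rw [← this, mul_inv_cancel]
        rw [← MonoidHom.mem_ker, QuotientGroup.ker_mk'] at h5
        exact ⟨_, h5, k, by group⟩
      have hCcomm : ∀ a ∈ C, ∀ b ∈ C, a * b = b * a := by
        intro a ha b hb
        obtain ⟨u, hu, k, rfl⟩ := hform a ha
        obtain ⟨v, hv, l, rfl⟩ := hform b hb
        have hu' : ∀ g : X, Commute u g := fun g => (mem_center_iff.1 (hZcen hu) g).symm
        have hv' : ∀ g : X, Commute v g := fun g => (mem_center_iff.1 (hZcen hv) g).symm
        exact ((hu' _).mul_left ((hv' _).symm.mul_right (Commute.zpow_zpow_self c k l))).eq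
      have hcard := abelian_index_p (p := 2) hCn hCcomm hCi hna
      have hCX := card_mul_index C
      rw [hCi, hX, ← hcard] at hCX
      have hZc2 : Nat.card (center X) = 2 := by
        have h6 : 0 < Nat.card (commutator X) := Nat.card_pos
        have h7 : Nat.card (commutator X) * (Nat.card (center X) * 2) = Nat.card (commutator X) * (2 * 2) := by
          rw [← mul_assoc, hCX, ← hcX]
        have h8 := Nat.eq_of_mul_eq_mul_left h6 h7
        omega
      have hZeq : Z = center X := eq_of_le_of_card_eq hZcen (hZcard.trans hZc2.symm)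
      have hnt : Nontrivial X := by
        rw [← Finite.one_lt_card_iff_nontrivial, hX]
        exact Nat.one_lt_pow (by omega) (by norm_num)
      rw [Group.nilpotencyClass_eq_quotient_center_plus_one]
      have h9 : Group.nilpotencyClass (X ⧸ center X) = n - 1 := by
        rw [← hQcl]
        have : ∀ (N : Subgroup X) [N.Normal], Z = N → Group.nilpotencyClass (X ⧸ N) = Group.nilpotencyClass (X ⧸ Z) := by
          intro N _ h; subst h; rfl
        exact this _ hZeq
      omega

end two

end Cfsg.Agent.H2.MaxClass
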