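import Mathlib
import Cfsg.Agent.H2_MaxClass
import Cfsg.Agent.H2_PGroup

/-!
# Groups of order `p ^ 4`
-/

set_option autoImplicit false

open scoped commutatorElement

namespace Cfsg.Agent.H3.P4

open Subgroup Cfsg.Agent.H2.MaxClass Cfsg.Agent.H2.Card

universe u

variable {p : ℕ} [hp : Fact p.Prime] {P : Type u} [Group P] [Finite P]

theorem ccomm_le_card {x : P} : (centralizer ({x} : Set P)).index ≤ Nat.card (commutator P) := by
  -- the class of x injects into the commutator subgroup
  let f : P ⧸ centralizer ({x} : Set P) → commutator P := fun q => ⟨⁅q.out, x⁆, commutator_mem_commutator (mem_top _) (mem_top _)⟩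
  have hf : Function.Injective f := by
    intro a b hab
    have h1 : ⁅a.out, x⁆ = ⁅b.out, x⁆ := congrArg (fun z : commutator P => (z : P)) hab
    have h2 : b.out⁻¹ * a.out ∈ centralizer ({x} : Set P) := by
      rw [mem_centralizer_singleton_iff]
      rw [commutatorElement_def, commutatorElement_def] at h1
      have h3 : a.out * x * a.out⁻¹ = b.out * x * b.out⁻¹ := mul_right_cancel h1
      calc b.out⁻¹ * a.out * x = b.out⁻¹ * (a.out * x * a.out⁻¹) * a.out := by group
        _ = x * (b.out⁻¹ * a.out) := by rw [h3]; group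
    rw [← QuotientGroup.out_eq' a, ← QuotientGroup.out_eq' b]
    exact (QuotientGroup.eq.mpr h2).symm
  exact Nat.card_le_card_of_injective f hf

omit [Finite P] in
theorem center_le_of_not {x : P} : center P ≤ centralizer ({x} : Set P) := center_le_centralizer _

/-- a group of order `p^3` (or less) with center of order at least `p^2` is abelian -/
theorem comm_of_large_center {X : Type*} [Group X] [Finite X] (hX : Nat.card X ∣ p ^ 3) {z : X} (hz : z ∈ center X)
    {Z : Subgroup X} (hZ : Z ≤ center X) (hZp : p ∣ Nat.card Z) (hzZ : z ∉ Z) : ∀ a b : X, a * b = b * a := by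
  obtain ⟨k, hk, hXk⟩ := (Nat.dvd_prime_pow hp.out).mp hX
  have hpg : IsPGroup p X := IsPGroup.of_card hXk
  obtain ⟨c, hc⟩ := IsPGroup.iff_card.1 (hpg.to_subgroup (center X))
  obtain ⟨d, hd⟩ := IsPGroup.iff_card.1 (hpg.to_subgroup Z)
  have hd1 : 1 ≤ d := by
    rcases Nat.eq_zero_or_pos d with h | h
    · rw [hd, h, pow_zero] at hZp
      exact absurd (Nat.dvd_one.mp hZp) hp.out.one_lt.ne'
    · exact h
  have hlt : Nat.card Z < Nat.card (center X) := by
    have h1 : Z < center X := lt_of_le_of_ne hZ (fun h => hzZ (by rw [h]; exact hz))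
    exact card_lt_of_lt h1
  rw [hc, hd] at hlt
  have hdc := (Nat.pow_lt_pow_iff_right hp.out.one_lt).1 hlt
  obtain ⟨q, hq⟩ := IsPGroup.iff_card.1 (hpg.to_quotient (center X))
  have h1 := (center X).card_mul_index
  rw [index_eq_card, hq, hc, hXk, ← pow_add] at h1
  have h2 : c + q = k := Nat.pow_right_injective hp.out.two_le h1
  rcases Nat.lt_or_ge 0 q with h3 | h3
  · exfalso
    have h4 : q = 1 := by omega
    rw [h4, pow_one] at hq
    exact quot_not_prime hq
  · have h4 : q = 0 := by omega
    rw [h4, pow_zero] at hq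
    have h5 : (center X) = ⊤ := by
      rw [← index_eq_one, index_eq_card, hq]
    intro a b
    have : b ∈ center X := by rw [h5]; exact mem_top b
    exact mem_center_iff.mp this a

theorem abelian_of_commutator (hP : Nat.card P = p ^ 4) (h : Nat.card (commutator P) = p) :
    (¬ ∀ a b : P, a * b = b * a) ∧ ∃ A : Subgroup P, A.Normal ∧ (∀ a ∈ A, ∀ b ∈ A, a * b = b * a) ∧ A.index = p := by
  have hpg : IsPGroup p P := IsPGroup.of_card hP
  have hna : ¬ ∀ a b : P, a * b = b * a := by
    intro hab
    have h1 : commutator P = ⊥ := by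
      rw [_root_.commutator_def, commutator_eq_bot_iff_le_centralizer]
      intro x _
      rw [mem_centralizer_iff]
      intro y _
      exact hab y x
    rw [h1, card_bot] at h
    exact hp.out.one_lt.ne h
  refine ⟨hna, ?_⟩
  push Not at hna
  obtain ⟨x, y, hxy⟩ := hna
  have hx : x ∉ center P := fun hx => hxy (mem_center_iff.mp hx y).symm
  let A := centralizer ({x} : Set P)
  have hidx : A.index ≤ p := h ▸ ccomm_le_card
  have hidx1 : A.index ≠ 1 := by
    intro h1
    rw [index_eq_one] at h1
    apply hxy
    have : y ∈ A := by rw [h1]; exact mem_top y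
    exact (mem_centralizer_singleton_iff.mp this).symm
  obtain ⟨k, hk⟩ := hpg.index A
  have hk1 : A.index = p := by
    rw [hk] at hidx hidx1 ⊢
    have h1 : k ≠ 0 := fun h => hidx1 (by rw [h, pow_zero])
    have h2 : k ≤ 1 := by
      have : p ^ k ≤ p ^ 1 := by rw [pow_one]; exact hidx
      exact (Nat.pow_le_pow_iff_right hp.out.one_lt).mp this
    have h3 : k = 1 := by omega
    rw [h3, pow_one]
  have hAn : A.Normal := Cfsg.Agent.H2.PGroup.normal_of_index_p hpg hk1
  refine ⟨A, hAn, ?_, hk1⟩
  have hcard : Nat.card A ∣ p ^ 3 := by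
    have h1 := A.card_mul_index
    rw [hk1, hP] at h1
    have : Nat.card A = p ^ 3 := by
      have h2 : Nat.card A * p = p ^ 3 * p := by rw [h1]; ring
      exact Nat.eq_of_mul_eq_mul_right hp.out.pos h2
    rw [this]
  have hZA : center P ≤ A := center_le_of_not
  have hZp : p ∣ Nat.card ((center P).subgroupOf A) := by
    rw [Nat.card_congr (subgroupOfEquivOfLe hZA).toEquiv]
    have hnt : Nontrivial P := ⟨x, 1, fun h => hx (by rw [h]; exact one_mem _)⟩
    obtain ⟨c, hc⟩ := IsPGroup.iff_card.1 (hpg.to_subgroup (center P))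
    have h1 : Nontrivial (center P) := hpg.center_nontrivial
    rw [← Finite.one_lt_card_iff_nontrivial, hc] at h1
    rcases Nat.eq_zero_or_pos c with h | h
    · rw [h, pow_zero] at h1; exact absurd h1 (lt_irrefl _)
    · rw [hc]; exact dvd_pow_self p h.ne'
  have hxA : x ∈ A := mem_centralizer_singleton_iff.mpr rfl
  have h3 := comm_of_large_center (X := A) hcard (z := ⟨x, hxA⟩) (by
      rw [mem_center_iff]
      intro g
      exact Subtype.ext (mem_centralizer_singleton_iff.mp g.2)) (Z := (center P).subgroupOf A) (by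
      intro z hz
      rw [mem_center_iff]
      intro g
      exact Subtype.ext (mem_center_iff.mp (mem_subgroupOf.mp hz) g)) hZp (fun h => hx (mem_subgroupOf.mp h))
  intro a ha b hb
  exact congrArg (fun z : A => (z : P)) (h3 ⟨a, ha⟩ ⟨b, hb⟩)

theorem main (hP : Nat.card P = p ^ 4) : Nat.card (commutator P) = p ↔ (center P).index = p ^ 2 := by
  have hpg : IsPGroup p P := IsPGroup.of_card hP
  constructor
  · intro h
    obtain ⟨hna, A, hAn, hAc, hAi⟩ := abelian_of_commutator hP h
    have h1 := abelian_index_p (p := p) hAn hAc hAi hna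
    have h2 := A.card_mul_index
    have h3 := (center P).card_mul_index
    rw [hAi, hP, ← h1, h] at h2
    rw [hP] at h3
    have h4 : 0 < p := hp.out.pos
    have h5 : Nat.card (center P) = p ^ 2 := by
      have h6 : Nat.card (center P) * p ^ 2 = p ^ 2 * p ^ 2 := by
        calc _ = p * Nat.card (center P) * p := by ring
          _ = p ^ 4 := h2
          _ = _ := by ring
      exact Nat.eq_of_mul_eq_mul_right (pow_pos h4 2) h6
    rw [h5] at h3
    have h6 : p ^ 2 * (center P).index = p ^ 2 * p ^ 2 := by rw [h3]; ring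
    exact Nat.eq_of_mul_eq_mul_left (pow_pos h4 2) h6
  · intro h
    have h3 := (center P).card_mul_index
    rw [hP, h] at h3
    have h5 : Nat.card (center P) = p ^ 2 := by
      have h6 : Nat.card (center P) * p ^ 2 = p ^ 2 * p ^ 2 := by rw [h3]; ring
      exact Nat.eq_of_mul_eq_mul_right (pow_pos hp.out.pos 2) h6
    have hne : center P ≠ ⊤ := by
      intro h1
      rw [h1, index_top] at h
      exact (Nat.one_lt_pow (by norm_num) hp.out.one_lt).ne h
    obtain ⟨x, hx⟩ : ∃ x, x ∉ center P := by
      by_contra hcon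
      push Not at hcon
      exact hne (eq_top_iff.mpr fun y _ => hcon y)
    have hna : ¬ ∀ a b : P, a * b = b * a := fun hab => hx (mem_center_iff.mpr fun g => hab g x)
    let A := center P ⊔ zpowers x
    have hlt : center P < A := lt_of_le_of_ne le_sup_left (fun h => hx (by rw [h]; exact (le_sup_right : zpowers x ≤ A) (mem_zpowers x)))
    have hAc : ∀ a ∈ A, ∀ b ∈ A, a * b = b * a := by
      have h1 : A ≤ centralizer ({x} : Set P) := sup_le center_le_of_not (by
        rw [zpowers_le]; exact mem_centralizer_singleton_iff.mpr rfl)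
      have h2 : A ≤ centralizer (A : Set P) := by
        rw [le_centralizer_iff]
        refine sup_le ?_ ?_
        · intro z hz
          rw [mem_centralizer_iff]
          intro a _
          exact mem_center_iff.mp hz a
        · rw [zpowers_le, mem_centralizer_iff]
          intro a ha
          exact mem_centralizer_singleton_iff.mp (h1 ha)
      intro a ha b hb
      exact mem_centralizer_iff.mp (h2 hb) a ha
    have hAt : A ≠ ⊤ := fun h => hna fun a b => hAc a (h ▸ mem_top a) b (h ▸ mem_top b)
    obtain ⟨k, hk⟩ := IsPGroup.iff_card.1 (hpg.to_subgroup A)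
    have hk1 := card_lt_of_lt hlt
    have hk2 := card_lt_of_lt (lt_top_iff_ne_top.mpr hAt)
    rw [hk, h5] at hk1
    rw [hk, card_top, hP] at hk2
    have hk3 := (Nat.pow_lt_pow_iff_right hp.out.one_lt).1 hk1
    have hk4 := (Nat.pow_lt_pow_iff_right hp.out.one_lt).1 hk2
    have hk5 : k = 3 := by omega
    subst hk5
    have hAi : A.index = p := by
      have h1 := A.card_mul_index
      rw [hk, hP] at h1
      have h6 : p ^ 3 * A.index = p ^ 3 * p := by rw [h1]; ring
      exact Nat.eq_of_mul_eq_mul_left (pow_pos hp.out.pos 3) h6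
    have h1 := abelian_index_p (p := p) (Cfsg.Agent.H2.PGroup.normal_of_index_p hpg hAi) hAc hAi hna
    rw [h5, hk] at h1
    have h6 : Nat.card (commutator P) * p ^ 2 = p * p ^ 2 := by rw [h1]; ring
    exact Nat.eq_of_mul_eq_mul_right (pow_pos hp.out.pos 2) h6

/-- a nonabelian `p`-group has `|P : P'| ≥ p^2` -/
theorem index_commutator_ge (hpg : IsPGroup p P) (hna : ¬ ∀ a b : P, a * b = b * a) : p ^ 2 ≤ (commutator P).index := by
  obtain ⟨k, hk⟩ := hpg.index (commutator P)
  rw [hk]
  apply Nat.pow_le_pow_right hp.out.pos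
  by_contra hlt
  have hcb : commutator P ≠ ⊥ := by
    intro h1
    apply hna
    intro a b
    have h2 : ⁅a, b⁆ ∈ commutator P := commutator_mem_commutator (mem_top _) (mem_top _)
    rw [h1, mem_bot, commutatorElement_eq_one_iff_mul_comm] at h2
    exact h2
  obtain ⟨L, hLn, -, hL, hLi, -⟩ := Cfsg.Agent.H2.PGroup.exists_normal_relIndex hpg (N := ⊥) (M := commutator P) (bot_lt_iff_ne_bot.mpr hcb)
  have h1 : L.index = p ^ (k + 1) := by
    rw [← relIndex_mul_index hL, hLi, hk]; ring
  have h2 : Nat.card (P ⧸ L) = p ∨ Nat.card (P ⧸ L) = p ^ 2 := by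
    rw [← index_eq_card, h1]
    have : k = 0 ∨ k = 1 := by omega
    rcases this with h | h
    · left; rw [h]; simp
    · right; rw [h]
  have h3 : ∀ a b : P ⧸ L, a * b = b * a := by
    rcases h2 with h | h
    · have : IsCyclic (P ⧸ L) := isCyclic_of_prime_card h
      exact (IsCyclic.commGroup (α := P ⧸ L)).mul_comm
    · exact (IsPGroup.commGroupOfCardEqPrimeSq h).mul_comm
  have h4 : commutator P ≤ L := by
    rw [_root_.commutator_def, commutator_le]
    intro a _ b _
    rw [← QuotientGroup.eq_one_iff]
    have : ((⁅a, b⁆ : P) : P ⧸ L) = ⁅(a : P ⧸ L), (b : P ⧸ L)⁆ := rfl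
    rw [this, commutatorElement_eq_one_iff_mul_comm]
    exact h3 _ _
  have h5 : L = commutator P := le_antisymm hL h4
  rw [h5, relIndex_self] at hLi
  exact hp.out.one_lt.ne hLi

theorem main2 (hP : Nat.card P = p ^ 4) : (commutator P).index = p ^ 2 ↔ Group.nilpotencyClass P = 3 := by
  have hpg : IsPGroup p P := IsPGroup.of_card hP
  have hnil : Group.IsNilpotent P := hpg.isNilpotent
  have hle : Group.nilpotencyClass P ≤ 3 := class_le (p := p) 4 P hP (by norm_num)
  have hcl2 : Group.nilpotencyClass P ≤ 2 ↔ commutator P ≤ center P := by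
    rw [← Subgroup.lowerCentralSeries_eq_bot_iff_nilpotencyClass_le]
    have h1 : (⊤ : Subgroup P).lowerCentralSeries 2 = ⁅commutator P, (⊤ : Subgroup P)⁆ := rfl
    rw [h1, commutator_eq_bot_iff_le_centralizer, coe_top, centralizer_univ]
  have hc := (commutator P).card_mul_index
  rw [hP] at hc
  constructor
  · intro h
    by_contra hne
    have h2 : commutator P ≤ center P := hcl2.mp (by omega)
    rw [h] at hc
    have hcc : Nat.card (commutator P) = p ^ 2 := by
      have h6 : Nat.card (commutator P) * p ^ 2 = p ^ 2 * p ^ 2 := by rw [hc]; ring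
      exact Nat.eq_of_mul_eq_mul_right (pow_pos hp.out.pos 2) h6
    have hna : ¬ ∀ a b : P, a * b = b * a := by
      intro hab
      have h1 : commutator P = ⊥ := by
        rw [_root_.commutator_def, commutator_eq_bot_iff_le_centralizer]
        intro x _
        rw [mem_centralizer_iff]
        intro y _
        exact hab y x
      rw [h1, card_bot] at hcc
      exact (Nat.one_lt_pow (by norm_num) hp.out.one_lt).ne hcc
    -- the index of the center
    obtain ⟨k, hk⟩ := hpg.index (center P)
    have h3 : (center P).index ∣ p ^ 2 := h ▸ index_dvd_of_le h2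
    rw [hk] at h3
    have h4 := (Nat.pow_dvd_pow_iff_le_right hp.out.one_lt).mp h3
    have h5 : k ≠ 1 := by
      intro h5
      rw [h5, pow_one, index_eq_card] at hk
      exact quot_not_prime hk
    have h6 : k ≠ 0 := by
      intro h6
      rw [h6, pow_zero, index_eq_one] at hk
      exact hna fun a b => mem_center_iff.mp (by rw [hk]; exact mem_top b) a
    have h7 : k = 2 := by omega
    rw [h7] at hk
    have h8 := (main hP).mpr hk
    rw [h8] at hcc
    have : p ^ 1 = p ^ 2 := by rw [pow_one]; exact hcc
    exact absurd (Nat.pow_right_injective hp.out.two_le this) (by norm_num)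
  · intro h
    have h2 : ¬ commutator P ≤ center P := fun h2 => by
      have := hcl2.mpr h2
      omega
    have hna : ¬ ∀ a b : P, a * b = b * a := fun hab => h2 fun x _ => mem_center_iff.mpr fun g => hab g x
    have h3 := index_commutator_ge hpg hna
    obtain ⟨k, hk⟩ := hpg.index (commutator P)
    obtain ⟨c, hcc⟩ := IsPGroup.iff_card.1 (hpg.to_subgroup (commutator P))
    rw [hk, hcc, ← pow_add] at hc
    have h4 : c + k = 4 := Nat.pow_right_injective hp.out.two_le hc
    rw [hk] at h3 ⊢
    have h5 := (Nat.pow_le_pow_iff_right hp.out.one_lt).mp h3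
    have h6 : 2 ≤ c := by
      by_contra h6
      apply h2
      have h7 : c = 0 ∨ c = 1 := by omega
      rcases h7 with h7 | h7
      · rw [h7, pow_zero, card_eq_one] at hcc
        rw [hcc]; exact bot_le
      · rw [h7, pow_one] at hcc
        have h8 : commutator P ≠ ⊥ := by
          intro h8; rw [h8, card_bot] at hcc; exact hp.out.one_lt.ne hcc
        have h9 := Cfsg.Agent.H2.PGroup.inf_center_ne_bot hpg h8
        have h10 : Nat.card (commutator P ⊓ center P : Subgroup P) ∣ p := hcc ▸ card_dvd_of_le inf_le_left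
        rcases (Nat.dvd_prime hp.out).mp h10 with h11 | h11
        · exact absurd (card_eq_one.mp h11) h9
        · have h12 : commutator P ⊓ center P = commutator P := by
            apply eq_of_le_of_card_ge inf_le_left
            rw [h11, hcc]
          exact inf_eq_left.mp h12
    have h7 : k = 2 := by omega
    rw [h7]

end Cfsg.Agent.H3.P4
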