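import Mathlib
import Cfsg.Agent.H1_PG8b
import Cfsg.Agent.H12_BG157b
import Cfsg.Agent.H12_SL2
import Cfsg.Agent.H1_Partition
import Cfsg.Agent.H3_P4
import Cfsg.Agent.S1378
import Cfsg.Agent.S1545

/-! Peterfalvi §12: the local analysis -/

set_option autoImplicit false
set_option linter.all false

open Pointwise
open scoped commutatorElement

namespace Cfsg.Agent.H1.PF12

open Cfsg Subgroup Cfsg.Agent.H13.Syl Cfsg.Agent.H12.BG7 Cfsg.Agent.H12.BG10 Cfsg.Agent.H12.BG11 Cfsg.Agent.H12.BG12 Cfsg.Agent.H2.BG14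
  Cfsg.Agent.H2.Con13 Cfsg.Agent.H12.Ty Cfsg.Agent.H12.BG157 Cfsg.Agent.H1.PG8

universe u

variable {G : Type u} [Group G] [Finite G]

/-- an element of `M` outside `M_σ` has a power of prime order outside -/
theorem exists_prime_out (hG : IsMinSimpleOddOrder G) {M : Subgroup G} (hM : IsCoatom M) {z : G} (hz : z ∈ M) (hzK : z ∉ sigmaCore M) :
    ∃ (s : ℕ) (w : G), s.Prime ∧ s ∉ sigma M ∧ w ∈ zpowers z ∧ orderOf w = s := by
  by_contra hcon
  push Not at hcon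
  apply hzK
  apply mem_sigmaCore_of_mem hG hM hz
  intro s hs hd
  by_contra hsσ
  exact hcon s (z ^ (orderOf z / s)) hs hsσ (pow_mem (mem_zpowers z) _) (orderOf_pow_orderOf_div (orderOf_pos z).ne' hd)

theorem frob_of (hG : IsMinSimpleOddOrder G) {M : Subgroup G} (hM : IsCoatom M) (hκ : kappa M = ∅) (ht : tau2 M = ∅) {x : G}
    (hx : x ∈ sigmaCore M) (hx1 : x ≠ 1) : M ⊓ centralizer ({x} : Set G) ≤ sigmaCore M := by
  intro z hz
  by_contra hzK
  obtain ⟨s, w, hs, hsσ, hw, hwo⟩ := exists_prime_out hG hM (mem_inf.1 hz).1 hzK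
  have hwm : w ∈ M ⊓ centralizer ({x} : Set G) := (zpowers_le.2 hz) hw
  have hw1 : w ≠ 1 := by
    rintro rfl
    rw [orderOf_one] at hwo
    exact hs.one_lt.ne hwo
  rcases Cfsg.Agent.S1432.result hG M hM x hx hx1 w hwm hw1 (by
    intro q hq hd
    rw [hwo] at hd
    rwa [(Nat.prime_dvd_prime_iff_eq hq hs).1 hd]) with ⟨h, -⟩ | ⟨h, -⟩
  · have := h s hs (by rw [hwo])
    rw [hκ] at this
    exact this
  · have := h s hs (by rw [hwo])
    rw [ht] at this
    exact this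

/-- the output of the local analysis -/
structure GP (M L : Subgroup G) (p : ℕ) (x y : G) : Prop where
  hp : p.Prime
  coM : IsCoatom M
  coL : IsCoatom L
  kM : kappa M = ∅
  kL : kappa L = ∅
  tL : tau2 L = ∅
  nc : ∀ g : G, M ≠ cj g L
  xo : orderOf x = p
  xL : x ∈ sigmaCore L
  xM : x ∈ M
  xC : centralizer ({x} : Set G) ≤ M
  xnL : ¬ centralizer ({x} : Set G) ≤ L
  yM : y ∈ sigmaCore M
  xy : Commute x y
  yD : y ∉ ⁅sigmaCore M, sigmaCore M⁆
  pK : ¬ p ∣ Nat.card (sigmaCore M)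
  nilM : Group.IsNilpotent (sigmaCore M)
  nilL : Group.IsNilpotent (sigmaCore L)
  e3 : 3 ≤ (sigmaCore L).relIndex L
  eodd : Odd ((sigmaCore L).relIndex L)
  ep : ((sigmaCore L).relIndex L ∣ p - 1) ∨ (IsMulCommutative (sigmaCore L) ∧ (sigmaCore L).relIndex L ∣ p ^ 2 - 1 ∧ (sigmaCore L).relIndex L ≤ p + 1)
  p2 : p ^ 2 ≤ Nat.card (sigmaCore L)
  pH : p ∣ Nat.card (sigmaCore L)
  q1 : (⁅sigmaCore M, sigmaCore M⁆).relIndex (sigmaCore M) ≡ 1 [MOD p]
  q2 : 2 * p + 1 ≤ (⁅sigmaCore M, sigmaCore M⁆).relIndex (sigmaCore M)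
  Edvd : (sigmaCore M).relIndex M ∣ Nat.card (sigmaCore L)

theorem comm_lt' {K : Subgroup G} (hsolv : Group.IsSolvable K) (hK1 : K ≠ ⊥) : ⁅K, K⁆ < K := by
  rw [← Subgroup.nontrivial_iff_ne_bot] at hK1
  rw [← K.range_subtype, MonoidHom.range_eq_map, ← Subgroup.map_commutator, Subgroup.map_subtype_lt_map_subtype]
  exact Group.IsSolvable.commutator_lt_top_of_nontrivial K

/-- `x ∈ A` centralizing something outside `K'` -/
theorem exists_x {A K : Subgroup G} {p : ℕ} [hp : Fact p.Prime] (hA : IsElementaryAbelian p A) (hAc : Nat.card A = p ^ 2)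
    (hAK : A ≤ normalizer (K : Set G)) (hpK : ¬ p ∣ Nat.card K) (hK : Group.IsSolvable K) (hKb : K ≠ ⊥) :
    ∃ x ∈ A, x ≠ 1 ∧ ∃ y ∈ K, Commute x y ∧ y ∉ ⁅K, K⁆ := by
  by_contra hcon
  push Not at hcon
  haveI : IsMulCommutative A := hA.1
  have hnc : ¬ IsCyclic A := by
    intro hc
    obtain ⟨g, hg⟩ := hc.exists_generator
    have h1 : orderOf g = p ^ 2 := by rw [orderOf_eq_card_of_forall_mem_zpowers hg, hAc]
    have h2 : g ^ p = 1 := Subtype.ext (by simpa using hA.2 g g.2)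
    have h3 := Nat.le_of_dvd hp.out.pos (h1 ▸ orderOf_dvd_of_pow_eq_one h2)
    nlinarith [hp.out.one_lt]
  have hcop : (Nat.card A).Coprime (Nat.card K) := by
    rw [hAc]
    exact Nat.Coprime.pow_left _ ((Nat.Prime.coprime_iff_not_dvd hp.out).2 hpK)
  have hgen := H1.Partition.generation A K hnc hAK hcop
  have hle : K ≤ ⁅K, K⁆ := by
    conv_lhs => rw [← hgen]
    refine iSup₂_le ?_
    rintro a ⟨ha, ha1⟩ y hy
    obtain ⟨hyK, hya⟩ := mem_inf.1 hy
    exact hcon a ha ha1 y hyK (mem_centralizer_singleton_iff.1 hya).symm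
  exact absurd hle (comm_lt' hK hKb).not_ge

/-- the maximal subgroup `L` with `A ≤ L_σ` -/
theorem exists_L (hG : IsMinSimpleOddOrder G) {M A A₀ : Subgroup G} {p : ℕ} [hp : Fact p.Prime] (hexc : Exc M p A A₀) :
    ∃ L : Subgroup G, IsCoatom L ∧ p ∈ sigma L ∧ A ≤ sigmaCore L := by
  have hpG : p ∣ Nat.card G := by
    have : Nat.card A ∣ Nat.card G := card_subgroup_dvd_card A
    rw [hexc.e2.card] at this
    exact (dvd_pow_self p two_ne_zero).trans this
  obtain ⟨L₀, hL₀, hpL₀⟩ := (Cfsg.Agent.S1378.result hG).1 p hp.out hpG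
  obtain ⟨T, hT⟩ := exists_isSylIn (p := p) L₀
  obtain ⟨g, -, hg⟩ := (sigma_sylow_top hpL₀ hT).1.exists_conj_le hexc.e2.isPGroup le_top
  refine ⟨cj g⁻¹ L₀, isCoatom_of_cj hL₀ _, (sigma_cj _ _).2 hpL₀, ?_⟩
  rw [← sc_cj, ← cj_le_iff]
  exact hg.trans (sylow_le_sigmaCore hG hL₀ hpL₀ hT)

theorem cent_le_of_ti (hG : IsMinSimpleOddOrder G) {L : Subgroup G} (hL : IsCoatom L) (hTI : IsTISubset (fittingOf L : Set G)) {x : G}
    (hx : x ∈ fittingOf L) (hx1 : x ≠ 1) : centralizer ({x} : Set G) ≤ L := by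
  have h3 : Subgroup.normalizer (fittingOf L : Set G) = L := by
    refine normalizer_eq_of_normalized hG hL fitting_normalized (Subgroup.map_subtype_le _) ?_
    intro hb
    rw [hb, mem_bot] at hx
    exact hx1 hx
  intro g hg
  rw [← h3]
  by_contra hcon
  refine hx1 (hTI g hcon x hx ?_)
  have : g * x * g⁻¹ = x := by
    rw [mem_centralizer_singleton_iff.1 hg]; group
  rw [this]; exact hx

theorem mem_of_hall {F L : Subgroup G} (hFL : F ≤ L) (hn : L ≤ normalizer (F : Set G)) {x : G} (hx : x ∈ L) {n : ℕ}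
    (hxn : x ^ n = 1) (hc : Nat.Coprime n (F.relIndex L)) : x ∈ F := by
  haveI : (F.subgroupOf L).Normal := normal_subgroupOf_of_le_normalizer hn
  have h1 : (⟨x, hx⟩ : L) ^ (F.subgroupOf L).index ∈ F.subgroupOf L := Subgroup.pow_index_mem (H := F.subgroupOf L) _
  have h2 : x ^ F.relIndex L ∈ F := h1
  have h3 := Nat.gcd_eq_gcd_ab n (F.relIndex L)
  rw [hc, Nat.cast_one] at h3
  have h4 : x = (x ^ n) ^ (Nat.gcdA n (F.relIndex L)) * (x ^ F.relIndex L) ^ (Nat.gcdB n (F.relIndex L)) := by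
    rw [← zpow_natCast, ← zpow_mul, ← zpow_natCast, ← zpow_mul, ← zpow_add, ← h3, zpow_one]
  rw [h4, hxn, one_zpow, one_mul]
  exact zpow_mem h2 _

theorem aux34 (hG : IsMinSimpleOddOrder G) {L A W₁ U W₂ : Subgroup G} {p : ℕ} [hp : Fact p.Prime] (hL : IsCoatom L)
    (hA : IsElementaryAbelian p A) (hAc : Nat.card A = p ^ 2) (hAL : A ≤ sigmaCore L) {x : G} (hxA : x ∈ A) (hx1 : x ≠ 1)
    (hnot : ¬ centralizer ({x} : Set G) ≤ L) (hP : IsTypePWith L W₁ U W₂) (hTI : IsTISubset (fittingOf L : Set G))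
    (hUc : IsCyclic U) : False := by
  have hF := H12.Core.fittingHallOf_le_fittingOf L
  have hFL : fittingHallOf L ≤ L := hF.trans (H12.Core.fittingOf_le L)
  have hFn : L ≤ normalizer (fittingHallOf L : Set G) := H12.Core.le_normalizer_fittingHallOf L
  have hxL : x ∈ L := sigmaCore_le L (hAL hxA)
  by_cases hpF : p ∣ Nat.card (fittingHallOf L)
  · apply hnot
    refine cent_le_of_ti hG hL hTI (hF ?_) hx1
    refine mem_of_hall hFL hFn hxL (hA.2 x hxA) ?_
    have h1 := (H12.D16.c1389' hG hL (H2.Ty.typeCore_eq hG hL)).2.1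
    have h2 : (fittingHallOf L).relIndex L ∣ (fittingHallOf L).index := Subgroup.relIndex_dvd_index_of_le hFL
    exact Nat.Coprime.coprime_dvd_left hpF (Nat.Coprime.coprime_dvd_right h2 h1)
  · have hAL' : A ≤ ⁅L, L⁆ := hAL.trans (Cfsg.Agent.S1355.result hG L hL).2.2.1
    obtain ⟨T, hT⟩ := exists_isSylIn (p := p) U
    have hUL : U ≤ ⁅L, L⁆ := hP.U_compl.2.1
    have hcard := H12.Core.IsComplIn_card hP.U_compl
    have hT' : IsSylIn p T ⁅L, L⁆ := by
      refine ⟨hT.le.trans hUL, hT.isPGroup, ?_⟩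
      rw [← Subgroup.relIndex_mul_relIndex T U _ hT.le hUL]
      intro hd
      rcases hp.out.dvd_mul.1 hd with h | h
      · exact hT.not_dvd h
      · have h1 : U.relIndex ⁅L, L⁆ * Nat.card U = Nat.card ↥⁅L, L⁆ := H1.Basic.relIndex_mul_card hUL
        rw [← hcard] at h1
        exact hpF ((Nat.eq_of_mul_eq_mul_right Nat.card_pos h1) ▸ h)
    obtain ⟨g, -, hg⟩ := hT'.exists_conj_le (ea_isPGroup hA) hAL'
    have h2 : IsCyclic (cj g A) := by
      haveI := hUc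
      exact isCyclic_of_injective (Subgroup.inclusion (hg.trans hT.le)) (Subgroup.inclusion_injective _)
    haveI : IsCyclic A := isCyclic_of_surjective (A.equivMapOfInjective (MulAut.conj g).toMonoidHom (MulAut.conj g).injective).symm
      (A.equivMapOfInjective (MulAut.conj g).toMonoidHom (MulAut.conj g).injective).symm.surjective
    obtain ⟨a, ha⟩ := IsCyclic.exists_generator (α := A)
    have h1 : orderOf a = p ^ 2 := by rw [orderOf_eq_card_of_forall_mem_zpowers ha, hAc]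
    have h2 : a ^ p = 1 := Subtype.ext (by simpa using hA.2 a a.2)
    have h3 := Nat.le_of_dvd hp.out.pos (h1 ▸ orderOf_dvd_of_pow_eq_one h2)
    nlinarith [hp.out.one_lt]

theorem kappa_L (hG : IsMinSimpleOddOrder G) (h5 : ∀ M : Subgroup G, IsCoatom M → ¬ IsOfTypeV M)
    (h34 : ∀ M W₁ U W₂ : Subgroup G, IsCoatom M → (IsOfTypeIII M ∨ IsOfTypeIV M) → IsTypePWith M W₁ U W₂ → IsCyclic U)
    {L A : Subgroup G} {p : ℕ} [hp : Fact p.Prime] (hL : IsCoatom L)
    (hA : IsElementaryAbelian p A) (hAc : Nat.card A = p ^ 2) (hAL : A ≤ sigmaCore L) {x : G} (hxA : x ∈ A) (hx1 : x ≠ 1)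
    (hnot : ¬ centralizer ({x} : Set G) ≤ L) : kappa L = ∅ := by
  by_contra hne
  obtain ⟨q, hq⟩ := Set.nonempty_iff_ne_empty.2 hne
  obtain ⟨K, E, U, hks⟩ := exists_KS_of_kappa hG (H12.BG13.con13 hG) hL ⟨q, hq⟩
  rcases H2.Ty.types_of_KS hG hks with h | h | h | h
  · exact hnot (cent_le_of_typeII hG (con16 hG) hL h (typeA_subset0 (typeA1_subset hG (con16 hG) hL
      ((mem_typeA1 hG (con16 hG) hL).2 ⟨hAL hxA, hx1⟩))))
  · have h' := h
    obtain ⟨W₁, V, W₂, hP, -, -, hTI, -⟩ := h'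
    exact aux34 hG hL hA hAc hAL hxA hx1 hnot hP hTI (h34 L W₁ V W₂ hL (Or.inl h) hP)
  · have h' := h
    obtain ⟨W₁, V, W₂, hP, -, -, hTI, -⟩ := h'
    exact aux34 hG hL hA hAc hAL hxA hx1 hnot hP hTI (h34 L W₁ V W₂ hL (Or.inr h) hP)
  · exact h5 L hL h

end Cfsg.Agent.H1.PF12
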