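import Mathlib
import Cfsg.Agent.H1_PF12e

/-! Peterfalvi §12: the local analysis, continued -/

set_option autoImplicit false
set_option linter.all false

open Pointwise
open scoped commutatorElement

namespace Cfsg.Agent.H1.PF12

open Cfsg Subgroup Cfsg.Agent.H13.Syl Cfsg.Agent.H12.BG7 Cfsg.Agent.H12.BG10 Cfsg.Agent.H12.BG11 Cfsg.Agent.H12.BG12 Cfsg.Agent.H2.BG14
  Cfsg.Agent.H2.Con13 Cfsg.Agent.H12.Ty Cfsg.Agent.H12.BG157 Cfsg.Agent.H1.PG8

universe u

variable {G : Type u} [Group G] [Finite G]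

theorem dvd_exponent {X : Subgroup G} {r : ℕ} (hr : r.Prime) (h : r ∣ Nat.card X) : r ∣ Monoid.exponent X := by
  haveI := Fact.mk hr
  obtain ⟨x, hx⟩ := exists_prime_orderOf_dvd_card' (G := X) r h
  rw [← hx]
  exact Monoid.order_dvd_exponent x

theorem exists_A_norm (hG : IsMinSimpleOddOrder G) {A L : Subgroup G} {p : ℕ} (hE2 : E2Max p A) (hAL : A ≤ sigmaCore L)
    (hab : IsMulCommutative (sigmaCore L)) : L ≤ normalizer (A : Set G) := by
  intro l hl
  rw [mem_normalizer_iff_cj]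
  apply Subgroup.eq_of_le_of_card_ge _ (by rw [card_cj])
  rw [cj_le_iff_forall]
  intro a ha
  have h1 : l * a * l⁻¹ ∈ sigmaCore L := (mem_normalizer_iff.1 (le_normalizer_sigmaCore L hl) a).1 (hAL ha)
  apply hE2.mem _ (by rw [conj_pow, hE2.ea.2 a ha, mul_one, mul_inv_cancel])
  rw [mem_centralizer_iff]
  intro b hb
  have := hab.is_comm.comm (⟨b, hAL hb⟩ : sigmaCore L) ⟨_, h1⟩
  exact congrArg Subtype.val this

theorem tau2_L (hG : IsMinSimpleOddOrder G) {L A EL U₁ U₀ : Subgroup G} {p : ℕ} [hp : Fact p.Prime] (hL : IsCoatom L) (hκL : kappa L = ∅)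
    (hpL : p ∈ sigma L) (hE2 : E2Max p A) (hAL : A ≤ sigmaCore L) (hEL : IsComplIn EL (sigmaCore L) L)
    (hT : H2.Ty.TyF L EL U₁ U₀) (key : IsMulCommutative (sigmaCore L) ∨ Monoid.exponent EL ∣ p - 1)
    (hmin : ∀ (q : ℕ) (N : Subgroup G), IsCoatom N → kappa N = ∅ → q ∈ tau2 N → p ≤ q) : tau2 L = ∅ := by
  by_contra hne
  obtain ⟨r, hr⟩ := Set.nonempty_iff_ne_empty.2 hne
  have hpr : p ≤ r := hmin r L hL hκL hr
  have hrp : r ≠ p := by rintro rfl; exact hr.2.1 hpL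
  have hr1 := hr.1
  haveI := Fact.mk hr1
  have hlt : p < r := lt_of_le_of_ne hpr hrp.symm
  have hrE : r ∣ Nat.card EL := by
    have h1 := tau2_dvd hr
    rw [← H12.Core.IsComplIn_card hEL] at h1
    exact (hr1.dvd_mul.1 h1).resolve_right (fun h => hr.2.1 (sigmaCore_pi L r hr1 h))
  have hrx := dvd_exponent hr1 hrE
  have hp1 := hp.out.one_lt
  rcases key with hab | hexp
  · rw [← hT.U₀e] at hrx
    obtain ⟨e, he, heo⟩ := exists_elt_of_dvd (hrx.trans (Group.exponent_dvd_nat_card))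
    have hLA := exists_A_norm hG hE2 hAL hab
    have heL : zpowers e ≤ L := zpowers_le.2 (hEL.1 (hT.U₀le he))
    have h1 := H12.SL2.card_dvd_free (heL.trans hLA) (by
      intro k hk hk1
      rw [eq_bot_iff, ← hT.U₀f k ((zpowers_le.2 he) hk) hk1]
      exact inf_le_inf_right _ hAL)
    rw [Nat.card_zpowers, heo, hE2.card] at h1
    have h2 : p ^ 2 - 1 = (p - 1) * (p + 1) := by
      obtain ⟨k, rfl⟩ := Nat.exists_eq_add_of_lt hp1
      have : (1 + k + 1) ^ 2 = (1 + k + 1 - 1) * (1 + k + 1 + 1) + 1 := by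
        rw [Nat.add_sub_cancel]; ring
      rw [this, Nat.add_sub_cancel]
    rw [h2] at h1
    rcases hr1.dvd_mul.1 h1 with h3 | h3
    · have := Nat.le_of_dvd (by omega) h3
      omega
    · have h4 := Nat.le_of_dvd (by omega) h3
      have h5 : r = p + 1 := by omega
      have ho1 : Odd p := by
        have : p ∣ Nat.card A := by rw [hE2.card]; exact dvd_pow_self p two_ne_zero
        exact Odd.of_dvd_nat (odd_card_subgroup hG A) this
      have ho2 : Odd r := Odd.of_dvd_nat (odd_card_subgroup hG EL) hrE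
      rw [h5] at ho2
      obtain ⟨a, ha⟩ := ho1
      obtain ⟨b, hb⟩ := ho2
      omega
  · have := Nat.le_of_dvd (by omega) (hrx.trans hexp)
    omega

/-- (12.11): `L ∩ M ≤ L_F` -/
theorem inf_le_H (hG : IsMinSimpleOddOrder G) {M L A A₀ : Subgroup G} {p : ℕ} [hp : Fact p.Prime] (hexc : Exc M p A A₀)
    (hκ : kappa M = ∅) (hL : IsCoatom L) (hκL : kappa L = ∅) (htL : tau2 L = ∅) (hAL : A ≤ sigmaCore L)
    (hcmp : IsComplIn (L ⊓ M) (sigmaCore M) M) (hKs : Group.IsSolvable (sigmaCore M)) {x y : G} (hxA : x ∈ A) (hx1 : x ≠ 1)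
    (hyK : y ∈ sigmaCore M) (hy1 : y ≠ 1) (hxy : Commute x y) : L ⊓ M ≤ sigmaCore L := by
  intro z hz
  by_contra hzH
  obtain ⟨s, w, hs, hsσ, hw, hwo⟩ := exists_prime_out hG hL (mem_inf.1 hz).1 hzH
  haveI := Fact.mk hs
  have hwE : w ∈ L ⊓ M := (zpowers_le.2 hz) hw
  have hw1 : w ≠ 1 := by
    rintro rfl
    rw [orderOf_one] at hwo
    exact hs.one_lt.ne hwo
  have hAE : A ≤ L ⊓ M := le_inf (hAL.trans (sigmaCore_le L)) hexc.le
  have hEA := exc_compl_le hG hexc hcmp hAE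
  -- nonidentity powers of `w` generate `⟨w⟩`
  have hgen : ∀ e ∈ zpowers w, e ≠ 1 → w ∈ zpowers e := by
    intro e he he1
    have h1 : zpowers e = zpowers w := by
      apply Subgroup.eq_of_le_of_card_ge (zpowers_le.2 he)
      have h2 : Nat.card (zpowers e) ∣ Nat.card (zpowers w) := card_dvd_of_le (zpowers_le.2 he)
      rw [Nat.card_zpowers w, hwo] at h2
      rcases (Nat.dvd_prime hs).1 h2 with h3 | h3
      · exact absurd (zpowers_eq_bot.1 (Subgroup.card_eq_one.1 h3)) he1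
      · rw [h3, Nat.card_zpowers, hwo]
    rw [h1]; exact mem_zpowers w
  have hwH : w ∉ sigmaCore L := fun h => hsσ (order_sigma h hs (by rw [hwo]))
  have hfpf : ∀ e ∈ zpowers w, e ≠ 1 → ∀ u ∈ A, e * u = u * e → u = 1 := by
    intro e he he1 u hu heu
    by_contra hu1
    apply hwH
    have h1 : e ∈ L ⊓ centralizer ({u} : Set G) := mem_inf.2 ⟨(zpowers_le.2 (mem_inf.1 hwE).1) he, mem_centralizer_singleton_iff.2 heu⟩
    have h2 := frob_of hG hL hκL htL (hAL hu) hu1 h1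
    exact (zpowers_le.2 h2) (hgen e he he1)
  have hAw : A ⊔ zpowers w ≤ L ⊓ M := sup_le hAE (zpowers_le.2 hwE)
  obtain ⟨P, hAP, hP⟩ := exists_isSylIn_ge (p := p) (H := M) hexc.e2.isPGroup hexc.le
  obtain ⟨-, -, hfix, -⟩ := hexc.thm116 hG hP hAP
  have hAb : A ≠ ⊥ := by
    intro hb
    rw [hb, mem_bot] at hxA
    exact hx1 hxA
  have hcard := Cfsg.Agent.S1545.result A (zpowers w) (sigmaCore M) hAb (by rw [Ne, zpowers_eq_bot]; exact hw1)
    (by
      rw [eq_bot_iff]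
      intro u hu
      obtain ⟨hu1, hu2⟩ := mem_inf.1 hu
      by_contra hun
      have hu' : u ≠ 1 := fun h => hun (mem_bot.2 h)
      exact hu' (hfpf u hu2 hu' u hu1 rfl))
    (fun e he u hu => (mem_normalizer_iff.1 (hEA ((zpowers_le.2 hwE) he)) u).1 hu)
    hfpf
    (fun v hv h hh => (mem_normalizer_iff.1 (le_normalizer_sigmaCore M (mem_inf.1 (hAw hv)).2) h).1 hh)
    (by
      rw [eq_bot_iff, ← hcmp.2.2.1, inf_comm]
      exact inf_le_inf_right _ hAw)
    hKs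
    (by
      refine Nat.Coprime.coprime_dvd_right (card_dvd_of_le hAw) ?_
      apply Nat.Coprime.symm
      apply H12.BG10.coprime_of_forall
      intro q hq h1 h2
      exact (compl_sigmaC hG hexc.co hcmp) q hq h1 (sigmaCore_pi M q hq h2))
  have hfix2 : sigmaCore M ⊓ centralizer ((A ⊔ zpowers w : Subgroup G) : Set G) = ⊥ := by
    rw [eq_bot_iff, ← hfix]
    exact inf_le_inf_left _ (centralizer_le (le_sup_left : A ≤ A ⊔ zpowers w))
  rw [hfix, hfix2, card_bot, one_pow, one_mul, mul_one] at hcard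
  have hne : sigmaCore M ⊓ centralizer ((zpowers w : Subgroup G) : Set G) ≠ ⊥ := by
    intro hb
    rw [hb, card_bot, one_pow] at hcard
    exact sigmaCore_ne_bot hG hexc.co (Subgroup.card_eq_one.1 hcard)
  obtain ⟨k, hk, hk1⟩ := exists_ne_one hne
  obtain ⟨V₁, V₀, hTM⟩ := H2.Ty.exists_TyF hG hexc.co hκ hcmp
  have hwV : w ∈ V₁ := hTM.U₁c k (mem_inf.1 hk).1 hk1 (mem_inf.2 ⟨hwE,
    mem_centralizer_singleton_iff.2 (mem_centralizer_iff.1 (mem_inf.1 hk).2 w (mem_zpowers w))⟩)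
  have hxV : x ∈ V₁ := hTM.U₁c y hyK hy1 (mem_inf.2 ⟨hAE hxA, mem_centralizer_singleton_iff.2 hxy⟩)
  have hcomm : w * x = x * w := congrArg Subtype.val (hTM.U₁ab.is_comm.comm (⟨w, hwV⟩ : V₁) ⟨x, hxV⟩)
  exact hx1 (hfpf w (mem_zpowers w) hw1 x hxA hcomm)

theorem card_ne_one (X : Subgroup G) : Nat.card {v : X // v ≠ 1} = Nat.card X - 1 := by
  classical
  haveI := Fintype.ofFinite X
  rw [Nat.card_eq_fintype_card, Nat.card_eq_fintype_card, Fintype.card_subtype_compl, Fintype.card_subtype_eq]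

theorem index_le (hG : IsMinSimpleOddOrder G) {M L A EL : Subgroup G} {p : ℕ} [hp : Fact p.Prime] (hL : IsCoatom L)
    (hAc : Nat.card A = p ^ 2) (hLA : L ≤ normalizer (A : Set G)) (hEL : IsComplIn EL (sigmaCore L) L)
    {x : G} (hxA : x ∈ A) (hxo : orderOf x = p) (hnX : normalizer (zpowers x : Set G) ≤ M) (hLM : L ⊓ M ≤ sigmaCore L) :
    Nat.card EL ≤ p + 1 := by
  classical
  let f : EL × {v : zpowers x // v ≠ 1} → {a : A // a ≠ 1} := fun u =>
    ⟨⟨(u.1 : G) * (u.2.1 : G) * (u.1 : G)⁻¹, (mem_normalizer_iff.1 (hLA (hEL.1 u.1.2)) _).1 ((zpowers_le.2 hxA) u.2.1.2)⟩, by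
      intro h
      have h1 : (u.1 : G) * (u.2.1 : G) * (u.1 : G)⁻¹ = 1 := congrArg Subtype.val h
      rw [conj_eq_one_iff] at h1
      exact u.2.2 (Subtype.ext h1)⟩
  have hgen : ∀ v ∈ zpowers x, v ≠ 1 → zpowers v = zpowers x := by
    intro v hv hv1
    apply Subgroup.eq_of_le_of_card_ge (zpowers_le.2 hv)
    have h2 : Nat.card (zpowers v) ∣ Nat.card (zpowers x) := card_dvd_of_le (zpowers_le.2 hv)
    rw [Nat.card_zpowers x, hxo] at h2
    rcases (Nat.dvd_prime hp.out).1 h2 with h3 | h3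
    · exact absurd (zpowers_eq_bot.1 (Subgroup.card_eq_one.1 h3)) hv1
    · rw [h3, Nat.card_zpowers, hxo]
  have hf : Function.Injective f := by
    rintro ⟨u, v, hv⟩ ⟨u', v', hv'⟩ h
    have h1 : (u : G) * (v : G) * (u : G)⁻¹ = (u' : G) * (v' : G) * (u' : G)⁻¹ :=
      congrArg (fun a : {a : A // a ≠ 1} => (a.1 : G)) h
    have hv1 : (v : G) ≠ 1 := fun h => hv (Subtype.ext h)
    have hv1' : (v' : G) ≠ 1 := fun h => hv' (Subtype.ext h)
    have h2 : ((u' : G)⁻¹ * (u : G)) * v * ((u' : G)⁻¹ * (u : G))⁻¹ = v' := by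
      calc ((u' : G)⁻¹ * (u : G)) * v * ((u' : G)⁻¹ * (u : G))⁻¹ = (u' : G)⁻¹ * ((u : G) * v * (u : G)⁻¹) * u' := by group
        _ = (u' : G)⁻¹ * ((u' : G) * v' * (u' : G)⁻¹) * u' := by rw [h1]
        _ = v' := by group
    have h3 : ((u' : G)⁻¹ * (u : G)) ∈ normalizer (zpowers x : Set G) := by
      rw [mem_normalizer_iff_cj]
      calc cj ((u' : G)⁻¹ * u) (zpowers x) = cj ((u' : G)⁻¹ * u) (zpowers (v : G)) := by rw [hgen v v.2 hv1]
        _ = zpowers (((u' : G)⁻¹ * (u : G)) * v * ((u' : G)⁻¹ * (u : G))⁻¹) := by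
          rw [H12.BG1212.cj_zp]
        _ = zpowers (v' : G) := by rw [h2]
        _ = zpowers x := hgen v' v'.2 hv1'
    have h4 : ((u' : G)⁻¹ * (u : G)) ∈ EL ⊓ sigmaCore L :=
      mem_inf.2 ⟨mul_mem (inv_mem u'.2) u.2, hLM (mem_inf.2 ⟨hEL.1 (mul_mem (inv_mem u'.2) u.2), hnX h3⟩)⟩
    rw [hEL.2.2.1, mem_bot, inv_mul_eq_one] at h4
    have h5 : u = u' := Subtype.ext h4.symm
    subst h5
    have h6 : (v : G) = v' := mul_left_cancel (mul_right_cancel h1)
    have h7 : v = v' := Subtype.ext h6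
    subst h7
    rfl
  have h1 := Nat.card_le_card_of_injective f hf
  rw [Nat.card_prod, card_ne_one, card_ne_one, hAc, Nat.card_zpowers, hxo] at h1
  have hp1 := hp.out.one_lt
  have h2 : p ^ 2 - 1 = (p + 1) * (p - 1) := by
    obtain ⟨k, rfl⟩ := Nat.exists_eq_add_of_lt hp1
    have : (1 + k + 1) ^ 2 = (1 + k + 1 + 1) * (1 + k + 1 - 1) + 1 := by
      rw [Nat.add_sub_cancel]; ring
    rw [this, Nat.add_sub_cancel]
  rw [h2] at h1
  exact Nat.le_of_mul_le_mul_right h1 (by omega)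

theorem rank_one (hG : IsMinSimpleOddOrder G) {L EL : Subgroup G} (hL : IsCoatom L) (htL : tau2 L = ∅)
    (hEL : IsComplIn EL (sigmaCore L) L) : RankLE 1 EL := by
  intro r hr
  haveI := Fact.mk hr
  by_cases hd : r ∣ Nat.card EL
  · have hσ : r ∉ sigma L := (compl_sigmaC hG hL hEL) r hr hd
    rcases tau_cases hG hL hr (hd.trans (card_dvd_of_le hEL.1)) hσ with h | h
    · rw [htL] at h
      exact absurd h (Set.notMem_empty _)
    · exact H12.SCN.pRankLE_mono hEL.1 h.1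
  · exact pRankLE_of_not_dvd hr hd

/-- the quotient `|K : K'|` -/
theorem q_part (hG : IsMinSimpleOddOrder G) {M A A₀ : Subgroup G} {p : ℕ} [hp : Fact p.Prime] (hexc : Exc M p A A₀)
    (hKs : Group.IsSolvable (sigmaCore M)) :
    (⁅sigmaCore M, sigmaCore M⁆).relIndex (sigmaCore M) ≡ 1 [MOD p] ∧ 2 * p + 1 ≤ (⁅sigmaCore M, sigmaCore M⁆).relIndex (sigmaCore M) := by
  obtain ⟨P, hAP, hP⟩ := exists_isSylIn_ge (p := p) (H := M) hexc.e2.isPGroup hexc.le
  obtain ⟨-, -, -, A₁, A₂, hA1, -, hc1, -, -, hf1, -⟩ := hexc.thm116 hG hP hAP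
  have hgen : ∀ k ∈ A₁, k ≠ 1 → zpowers k = A₁ := by
    intro v hv hv1
    apply Subgroup.eq_of_le_of_card_ge (zpowers_le.2 hv)
    have h2 : Nat.card (zpowers v) ∣ Nat.card A₁ := card_dvd_of_le (zpowers_le.2 hv)
    rw [hc1] at h2
    rcases (Nat.dvd_prime hp.out).1 h2 with h3 | h3
    · exact absurd (zpowers_eq_bot.1 (Subgroup.card_eq_one.1 h3)) hv1
    · rw [h3, hc1]
  have hfree : ∀ k ∈ A₁, k ≠ 1 → sigmaCore M ⊓ centralizer ({k} : Set G) = ⊥ := by
    intro k hk hk1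
    rw [← hf1, ← hgen k hk hk1, centralizer_zpowers]
  have hAM : A₁ ≤ M := hA1.trans hexc.le
  have hKlt := comm_lt' hKs (sigmaCore_ne_bot hG hexc.co)
  set K := sigmaCore M with hK
  set D := ⁅K, K⁆ with hD
  have hnK : A₁ ≤ normalizer (K : Set G) := hAM.trans (le_normalizer_sigmaCore M)
  have hnD : A₁ ≤ normalizer (D : Set G) := by
    intro a ha
    rw [mem_normalizer_iff_cj, hD, cj_commutator, cj_eq_of_mem_normalizer (hnK ha)]
  have h1 := H12.SL2.card_dvd_free hnK hfree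
  have h2 := H12.SL2.card_dvd_free hnD (fun k hk hk1 => by
    rw [eq_bot_iff, ← hfree k hk hk1]
    exact inf_le_inf_right _ hKlt.le)
  rw [hc1] at h1 h2
  have h3 : D.relIndex K * Nat.card D = Nat.card K := H1.Basic.relIndex_mul_card hKlt.le
  have m1 : Nat.card K ≡ 1 [MOD p] := ((Nat.modEq_iff_dvd' Nat.card_pos).2 h1).symm
  have m2 : Nat.card D ≡ 1 [MOD p] := ((Nat.modEq_iff_dvd' Nat.card_pos).2 h2).symm
  have m3 : D.relIndex K ≡ 1 [MOD p] := by
    have h4 : D.relIndex K * Nat.card D ≡ D.relIndex K * 1 [MOD p] := Nat.ModEq.mul_left _ m2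
    rw [mul_one, h3] at h4
    exact h4.symm.trans m1
  refine ⟨m3, ?_⟩
  have hne : D.relIndex K ≠ 1 := fun h => hKlt.not_ge (Subgroup.relIndex_eq_one.1 h)
  have hpos : 0 < D.relIndex K := by
    rcases Nat.eq_zero_or_pos (D.relIndex K) with h | h
    · rw [h, zero_mul] at h3
      exact absurd h3.symm Nat.card_pos.ne'
    · exact h
  have hodd : Odd (D.relIndex K) := Odd.of_dvd_nat (odd_card_subgroup hG K) (Dvd.intro _ h3)
  have hpodd : Odd p := by
    have : p ∣ Nat.card A₁ := by rw [hc1]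
    exact Odd.of_dvd_nat (odd_card_subgroup hG A₁) this
  obtain ⟨t, ht⟩ := (Nat.modEq_iff_dvd' hpos).1 m3.symm
  obtain ⟨a, ha⟩ := hodd
  obtain ⟨b, hb⟩ := hpodd
  have ht1 : D.relIndex K = p * t + 1 := by omega
  rcases Nat.even_or_odd t with ⟨c, hc⟩ | ⟨c, hc⟩
  · have hc0 : c ≠ 0 := by
      rintro rfl
      apply hne
      rw [ht1, hc]
      simp
    have : p * 2 ≤ p * t := Nat.mul_le_mul_left p (by omega)
    omega
  · exfalso
    rw [ht1, hc, hb] at ha
    have : (2 * b + 1) * (2 * c + 1) = 2 * (2 * b * c + b + c) + 1 := by ring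
    omega

theorem GP_of (hG : IsMinSimpleOddOrder G) (h5 : ∀ M : Subgroup G, IsCoatom M → ¬ IsOfTypeV M)
    (h34 : ∀ M W₁ U W₂ : Subgroup G, IsCoatom M → (IsOfTypeIII M ∨ IsOfTypeIV M) → IsTypePWith M W₁ U W₂ → IsCyclic U)
    {M : Subgroup G} {p : ℕ} (hM : IsCoatom M) (hκ : kappa M = ∅) (hpτ : p ∈ tau2 M)
    (hmin : ∀ (q : ℕ) (N : Subgroup G), IsCoatom N → kappa N = ∅ → q ∈ tau2 N → p ≤ q) :
    ∃ (L : Subgroup G) (x y : G), GP M L p x y := by
  classical
  have hp := hpτ.1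
  haveI := Fact.mk hp
  obtain ⟨E₀, -, hE₀⟩ := exists_E hG hM (K := ⊥) bot_le (by
    intro p hp hd
    rw [Subgroup.card_bot] at hd
    exact absurd (Nat.dvd_one.1 hd) hp.one_lt.ne')
  obtain ⟨A, hAE, hA, hAc⟩ := exists_ea_compl hG hM hE₀ hpτ
  obtain ⟨A₀, hexc⟩ := exists_exc hG hM hpτ.2.1 (hAE.trans hE₀.1) hA hAc
  have hAM : A ≤ M := hexc.le
  have hKn : Group.IsNilpotent (sigmaCore M) := (H12.D16.fh_of_kappa_empty hG hM hκ).2
  have hKs : Group.IsSolvable (sigmaCore M) := solv_le hG hM (sigmaCore_le M)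
  have hKb := sigmaCore_ne_bot hG hM
  have hpK : ¬ p ∣ Nat.card (sigmaCore M) := fun hd => hpτ.2.1 (sigmaCore_pi M p hp hd)
  obtain ⟨x, hxA, hx1, y, hyK, hxy, hyD⟩ := exists_x hA hAc (hAM.trans (le_normalizer_sigmaCore M)) hpK hKs hKb
  have hxo : orderOf x = p := orderOf_eq_prime (hA.2 x hxA) hx1
  have hy1 : y ≠ 1 := by
    rintro rfl
    exact hyD (one_mem _)
  have hxu : centralizer ({x} : Set G) ≤ M ∧ ∀ L : Subgroup G, IsCoatom L → centralizer ({x} : Set G) ≤ L → L = M := by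
    rcases Cfsg.Agent.S1432.result hG M hM y hyK hy1 x (mem_inf.2 ⟨hAM hxA, mem_centralizer_singleton_iff.2 hxy⟩) hx1 (by
      intro q hq hd
      rw [hxo] at hd
      rw [(Nat.prime_dvd_prime_iff_eq hq hp).1 hd]
      exact hpτ.2.1) with ⟨h, -⟩ | ⟨-, -, h⟩
    · have := h p hp (by rw [hxo])
      rw [hκ] at this
      exact absurd this (Set.notMem_empty _)
    · exact h
  obtain ⟨L, hL, hpL, hAL⟩ := exists_L hG hexc
  have hnot : ¬ centralizer ({x} : Set G) ≤ L := by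
    intro h
    have := hxu.2 L hL h
    rw [this] at hpL
    exact hpτ.2.1 hpL
  have hκL := kappa_L hG h5 h34 hL hA hAc hAL hxA hx1 hnot
  obtain ⟨N, hN⟩ := exists_ND hG (H12.BG13.con13 hG) hL (hAL hxA) hx1 hnot
  have hNM : N = M := hxu.2 N hN.co hN.um.1
  rw [hNM] at hN
  obtain ⟨EL, -, hEL⟩ := exists_E hG hL (K := ⊥) bot_le (by
    intro p hp hd
    rw [Subgroup.card_bot] at hd
    exact absurd (Nat.dvd_one.1 hd) hp.one_lt.ne')
  obtain ⟨U₁, U₀, hT⟩ := H2.Ty.exists_TyF hG hL hκL hEL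
  obtain ⟨P, hP⟩ := exists_isSylIn (p := p) (sigmaCore L)
  obtain ⟨g, hgC, hgL⟩ := SetLike.not_le_iff_exists.1 hnot
  have hxF : x ∈ fittingOf L := by
    apply H12.Core.fittingHallOf_le_fittingOf L
    rw [hT.fh]
    exact hAL hxA
  have hNT : NT L g x p := by
    refine ⟨hL, hgL, hp, hxF, ?_, hxo⟩
    rw [mem_cj]
    have : g⁻¹ * x * g = x := by
      have h1 := mem_centralizer_singleton_iff.1 hgC
      calc g⁻¹ * x * g = g⁻¹ * (x * g) := by group
        _ = g⁻¹ * (g * x) := by rw [h1]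
        _ = x := by group
    rw [this]; exact hxF
  have key : IsMulCommutative (sigmaCore L) ∨ Monoid.exponent EL ∣ p - 1 := by
    by_cases hPab : IsMulCommutative P
    · left
      have := (hNT.abel hG hP hPab).1
      rwa [hT.fh] at this
    · exact Or.inr (hNT.expo hG hP hPab hκL hEL hpL)
  have htL := tau2_L hG hL hκL hpL hexc.e2 hAL hEL hT key hmin
  have hLM := inf_le_H hG hexc hκ hL hκL htL hAL hN.cmp hKs hxA hx1 hyK hy1 hxy
  have hcL := H12.Core.IsComplIn_card hEL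
  have hcL' : (sigmaCore L).relIndex L * Nat.card (sigmaCore L) = Nat.card L := H1.Basic.relIndex_mul_card (sigmaCore_le L)
  have he : (sigmaCore L).relIndex L = Nat.card EL := Nat.eq_of_mul_eq_mul_right Nat.card_pos (hcL'.trans hcL.symm)
  have hcM := H12.Core.IsComplIn_card hN.cmp
  have hcM' : (sigmaCore M).relIndex M * Nat.card (sigmaCore M) = Nat.card M := H1.Basic.relIndex_mul_card (sigmaCore_le M)
  have heM : (sigmaCore M).relIndex M = Nat.card ↥(L ⊓ M) := Nat.eq_of_mul_eq_mul_right Nat.card_pos (hcM'.trans hcM.symm)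
  have hq := q_part hG hexc hKs
  have hEodd : Odd (Nat.card EL) := odd_card_subgroup hG EL
  have hp2 : p ^ 2 ∣ Nat.card (sigmaCore L) := hAc ▸ card_dvd_of_le hAL
  refine ⟨L, x, y, hp, hM, hL, hκ, hκL, htL, hN.nc, hxo, hAL hxA, hAM hxA, hxu.1, hnot, hyK, hxy, hyD, hpK, hKn, hT.nil, ?_, ?_, ?_,
    Nat.le_of_dvd Nat.card_pos hp2, (dvd_pow_self p two_ne_zero).trans hp2, hq.1, hq.2, ?_⟩
  · rw [he]
    have h1 : Nat.card EL ≠ 1 := fun h => hT.ne (Subgroup.card_eq_one.1 h)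
    obtain ⟨k, hk⟩ := hEodd
    omega
  · rw [he]; exact hEodd
  · rw [he]
    rcases key with hab | hexp
    · right
      have hLA := exists_A_norm hG hexc.e2 hAL hab
      refine ⟨hab, ?_, ?_⟩
      · have h1 := H12.SL2.card_dvd_free (hEL.1.trans hLA) (by
          intro k hk hk1
          rw [eq_bot_iff]
          intro a ha
          obtain ⟨ha1, ha2⟩ := mem_inf.1 ha
          by_contra han
          have ha1' : a ≠ 1 := fun h => han (mem_bot.2 h)
          have h2 : k ∈ L ⊓ centralizer ({a} : Set G) :=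
            mem_inf.2 ⟨hEL.1 hk, mem_centralizer_singleton_iff.2 (mem_centralizer_singleton_iff.1 ha2).symm⟩
          have h3 := frob_of hG hL hκL htL (hAL ha1) ha1' h2
          have h4 : k ∈ EL ⊓ sigmaCore L := mem_inf.2 ⟨hk, h3⟩
          rw [hEL.2.2.1, mem_bot] at h4
          exact hk1 h4)
        rwa [hAc] at h1
      · refine index_le hG hL hAc hLA hEL hxA hxo (hN.nX (zpowers x) le_rfl ?_) hLM
        rw [Nat.card_zpowers, hxo]; exact hp
    · left
      haveI : IsZGroup EL := isZGroup_of_rankLE_one hG (rank_one hG hL htL hEL)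
      rwa [IsZGroup.exponent_eq_card] at hexp
  · rw [heM]
    exact card_dvd_of_le hLM

theorem exists_GP (hG : IsMinSimpleOddOrder G) (h5 : ∀ M : Subgroup G, IsCoatom M → ¬ IsOfTypeV M)
    (h34 : ∀ M W₁ U W₂ : Subgroup G, IsCoatom M → (IsOfTypeIII M ∨ IsOfTypeIV M) → IsTypePWith M W₁ U W₂ → IsCyclic U)
    (hex : ∃ M : Subgroup G, IsCoatom M ∧ kappa M = ∅ ∧ (tau2 M).Nonempty) :
    ∃ (M L : Subgroup G) (p : ℕ) (x y : G), GP M L p x y := by
  classical
  have hex' : ∃ p : ℕ, ∃ M : Subgroup G, IsCoatom M ∧ kappa M = ∅ ∧ p ∈ tau2 M := by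
    obtain ⟨M, h1, h2, p, h3⟩ := hex
    exact ⟨p, M, h1, h2, h3⟩
  obtain ⟨M, hM, hκ, hpτ⟩ := Nat.find_spec hex'
  obtain ⟨L, x, y, h⟩ := GP_of hG h5 h34 hM hκ hpτ (fun q N h1 h2 h3 => Nat.find_min' hex' ⟨N, h1, h2, h3⟩)
  exact ⟨M, L, _, x, y, h⟩

end Cfsg.Agent.H1.PF12
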