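import Cfsg.Statements.S1535
import Cfsg.Agent.H10_CohI4

set_option autoImplicit false
open Cfsg

namespace Cfsg.Agent.S1535

open Cfsg.Agent.H10.CohI4 Cfsg.Agent.H10.CohI2 Cfsg.Agent.H10.IndSet2

/-- Let N be a finite group with a proper nontrivial normal subgroup H such that every element commuting with a non-identity element of H lies in H (N is a Frobenius group with kernel H); let e be the index of H and suppose Nat.card H ≠ e + 1. Let S be the set of irreducible characters χ of N with χ h ≠ χ 1 for some h ∈ H, and τ a linear isometry on the integer combinations of S vanishing at 1, with values virtual characters of a finite group G vanishing at 1. Then (S, N minus 1, τ) is coherent, or there is a prime p with Nat.card H a power of p, H non-abelian and [H : [H,H]] ≤ 4e² + 1. -/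
theorem result {N : Type*} [Group N] [Fintype N] {G : Type*} [Group G] [Fintype G] (H : Subgroup N) [H.Normal] (hH1 : H ≠ ⊥) (hH2 : H ≠ ⊤) (hC : ∀ h ∈ H, h ≠ 1 → Subgroup.centralizer ({h} : Set N) ≤ H) (he : Nat.card H ≠ H.index + 1) (τ : (N → ℂ) → (G → ℂ)) (hτ : Cfsg.IsLinearIsometryOn (Cfsg.zspanOn {χ : N → ℂ | Cfsg.IsIrrCharacter N χ ∧ ∃ h ∈ H, χ h ≠ χ 1} {1}ᶜ) τ) (hτ1 : ∀ α ∈ Cfsg.zspanOn {χ : N → ℂ | Cfsg.IsIrrCharacter N χ ∧ ∃ h ∈ H, χ h ≠ χ 1} {1}ᶜ, τ α 1 = 0) : Cfsg.IsCoherent {χ : N → ℂ | Cfsg.IsIrrCharacter N χ ∧ ∃ h ∈ H, χ h ≠ χ 1} {1}ᶜ τ ∨ ∃ p : ℕ, p.Prime ∧ (∃ m : ℕ, Nat.card H = p ^ m) ∧ ¬ IsMulCommutative H ∧ (⁅H, H⁆.subgroupOf H).index ≤ 4 * H.index ^ 2 + 1 := by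
  classical
  rw [set_eq hC] at hτ hτ1 ⊢
  have hnil : Group.IsNilpotent H := Cfsg.Agent.H10.Fin4.nilp H hH1 hH2 hC
  have hsolv : Group.IsSolvable H := inferInstance
  by_cases hab : ∀ x ∈ H, ∀ y ∈ H, x * y = y * x
  · left
    rcases ab_case hC hH1 hab hτ hτ1 with h | h
    · exact absurd h.2 he
    · exact h
  have hnz := nz_na hsolv hC hab
  by_cases hpp : ∃ p m : ℕ, p.Prime ∧ Nat.card H = p ^ m
  swap
  · left
    obtain ⟨τ₁, t1, t2⟩ := nonpp hnil hC hab hH2 hpp hτ hτ1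
    exact ⟨hnz, τ₁, t1, t2⟩
  by_cases hbig : 4 * H.index ^ 2 + 1 < (⁅H, H⁆.subgroupOf H).index
  · left
    obtain ⟨τ₁, t1, t2⟩ := big inferInstance hsolv (fun χ hχ => S_irr hC hχ) hτ hτ1 hnil ⁅H, H⁆
      (Cfsg.Agent.H10.Sib2.comm_lt hsolv hH1) (base_coh hC hτ hτ1) hbig
    exact ⟨hnz, τ₁, t1, t2⟩
  · right
    obtain ⟨p, m, hp, hm⟩ := hpp
    refine ⟨p, hp, ⟨m, hm⟩, ?_, by omega⟩
    intro hcomm
    apply hab
    intro x hx y hy
    exact congrArg Subtype.val (hcomm.is_comm.comm (⟨x, hx⟩ : H) ⟨y, hy⟩)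

end Cfsg.Agent.S1535
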