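import Mathlib
import Cfsg.Agent.H1_PF12f
import Cfsg.Agent.H1_PF12d
import Cfsg.Agent.H10_BlockKn
import Cfsg.Agent.S1535

/-! Peterfalvi §12: type I maximal subgroups and their Dade maps -/

set_option autoImplicit false
set_option linter.all false

open Pointwise
open scoped commutatorElement

namespace Cfsg.Agent.H1.PF12

open Cfsg Subgroup Cfsg.Agent.H13.Syl Cfsg.Agent.H12.BG7 Cfsg.Agent.H12.BG10 Cfsg.Agent.H12.BG11 Cfsg.Agent.H12.BG12 Cfsg.Agent.H2.BG14
  Cfsg.Agent.H2.Con13 Cfsg.Agent.H12.Ty Cfsg.Agent.H12.BG157 Cfsg.Agent.H1.PG8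

universe u

/-! ### numbers -/

theorem numeric {p e q : ℕ} {b : ℤ} (hp : p.Prime) (hpo : Odd p) (he3 : 3 ≤ e) (heo : Odd e)
    (hep : e ∣ p - 1 ∨ (e ∣ p ^ 2 - 1 ∧ e ≤ p + 1)) (hq : 2 * p + 1 ≤ q) (hb : (p : ℤ) ∣ b - e) :
    (e : ℤ) * q ≤ (q - 1) * b ^ 2 := by
  obtain ⟨m, hm⟩ := hpo
  obtain ⟨f, hf⟩ := heo
  have hp1 := hp.one_lt
  have hlt : e < p ∧ e + 1 ≤ (p - e) ^ 2 := by
    rcases hep with h | ⟨h, hle⟩
    · obtain ⟨k, hk⟩ := h
      have hk2 : 2 ≤ k := by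
        rcases Nat.lt_or_ge k 2 with h1 | h1
        · exfalso
          interval_cases k
          · omega
          · omega
        · exact h1
      have h2 : e * 2 ≤ e * k := Nat.mul_le_mul_left e hk2
      have h3 : e < p := by omega
      refine ⟨h3, ?_⟩
      obtain ⟨d, hd⟩ := Nat.exists_eq_add_of_lt h3
      have : p - e = d + 1 := by omega
      rw [this]
      have hde : e ≤ d := by
        rw [← hk] at h2
        omega
      nlinarith
    · have h1 : p ^ 2 - 1 = 4 * (m * (m + 1)) := by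
        rw [hm]
        have : (2 * m + 1) ^ 2 = 4 * (m * (m + 1)) + 1 := by ring
        rw [this, Nat.add_sub_cancel]
      rw [h1] at h
      have hc : Nat.Coprime e 4 := by
        have h2 : Nat.Coprime e 2 := by
          rw [Nat.coprime_two_right]
          exact ⟨f, hf⟩
        have : (4 : ℕ) = 2 ^ 2 := by norm_num
        rw [this]
        exact Nat.Coprime.pow_right _ h2
      have h2 : e ∣ m * (m + 1) := hc.dvd_of_dvd_mul_left h
      have hcm : Nat.Coprime m (m + 1) := by simp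
      have h3 := Nat.Coprime.gcd_mul e hcm
      rw [Nat.gcd_eq_left h2] at h3
      have hep' : e ≠ p := by
        rintro rfl
        have h4 : e ∣ m ∨ e ∣ m + 1 := hp.dvd_mul.1 h2
        rcases h4 with h4 | h4
        · have := Nat.le_of_dvd (by omega) h4
          omega
        · have := Nat.le_of_dvd (by omega) h4
          omega
      have hlt : e < p := by omega
      refine ⟨hlt, ?_⟩
      obtain ⟨d, hd⟩ := Nat.exists_eq_add_of_lt hlt
      have hpe : p - e = d + 1 := by omega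
      rw [hpe]
      have hd0 : 0 < d := by omega
      -- e₁ ∣ d, e₂ ∣ d + 2
      have g1 : e.gcd m ∣ d := by
        have a1 : e.gcd m ∣ e := Nat.gcd_dvd_left _ _
        have a2 : e.gcd m ∣ 2 * m := (Nat.gcd_dvd_right _ _).mul_left _
        have a3 : 2 * m = e + d := by omega
        rw [a3] at a2
        exact (Nat.dvd_add_right a1).1 a2
      have g2 : e.gcd (m + 1) ∣ d + 2 := by
        have a1 : e.gcd (m + 1) ∣ e := Nat.gcd_dvd_left _ _
        have a2 : e.gcd (m + 1) ∣ 2 * (m + 1) := (Nat.gcd_dvd_right _ _).mul_left _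
        have a3 : 2 * (m + 1) = e + (d + 2) := by omega
        rw [a3] at a2
        exact (Nat.dvd_add_right a1).1 a2
      have l1 := Nat.le_of_dvd hd0 g1
      have l2 := Nat.le_of_dvd (by omega) g2
      have : e ≤ d * (d + 2) := by
        rw [h3]; exact Nat.mul_le_mul l1 l2
      nlinarith
  obtain ⟨hlt, hd⟩ := hlt
  have hdz : (e : ℤ) + 1 ≤ ((p : ℤ) - e) ^ 2 := by
    have : (((p - e : ℕ) : ℤ)) = (p : ℤ) - e := by
      rw [Nat.cast_sub hlt.le]
    rw [← this]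
    exact_mod_cast hd
  have hez : (3 : ℤ) ≤ e := by exact_mod_cast he3
  have hqz : 2 * (p : ℤ) + 1 ≤ q := by exact_mod_cast hq
  have hltz : (e : ℤ) < p := by exact_mod_cast hlt
  obtain ⟨k, hk⟩ := hb
  have hbe : b = e + p * k := by linarith
  by_cases hk1 : k = -1
  · have h1 : (e : ℤ) + 1 ≤ b ^ 2 := by
      rw [hbe, hk1]
      calc (e : ℤ) + 1 ≤ ((p : ℤ) - e) ^ 2 := hdz
        _ = _ := by ring
    have h2 : ((q : ℤ) - 1) * (e + 1) ≤ (q - 1) * b ^ 2 := mul_le_mul_of_nonneg_left h1 (by linarith)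
    nlinarith
  · have h1 : (e : ℤ) ^ 2 ≤ b ^ 2 := by
      rw [hbe]
      rcases lt_or_ge k 0 with h | h
      · have h3 : k ≤ -2 := by omega
        have h4 : (p : ℤ) * k ≤ p * (-2) := mul_le_mul_of_nonneg_left h3 (by positivity)
        have h5 : (e : ℤ) + p * k ≤ -e := by linarith
        nlinarith
      · have h4 : (0 : ℤ) ≤ p * k := by positivity
        nlinarith
    have h2 : ((q : ℤ) - 1) * e ^ 2 ≤ (q - 1) * b ^ 2 := mul_le_mul_of_nonneg_left h1 (by linarith)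
    have h3 : (e : ℤ) * q ≤ (q - 1) * e ^ 2 := by
      have h4 : (q : ℤ) ≤ (q - 1) * e := by nlinarith
      have h5 := mul_le_mul_of_nonneg_left h4 (by linarith : (0 : ℤ) ≤ e)
      calc (e : ℤ) * q ≤ e * ((q - 1) * e) := h5
        _ = _ := by ring
    linarith

theorem final_num {e h m k' q p : ℕ} {b c : ℤ} (he : 0 < e) (hep : e + 1 ≤ p) (hh : p ^ 2 ≤ h) (hm : 0 < m) (hmh : m ≤ h) (hk' : 0 < k')
    (hq : 0 < q) (hb : c = 0 → (e : ℤ) * q ≤ (q - 1) * b ^ 2)
    (hlt : ((e * h : ℕ) : ℝ)⁻¹ * ((e : ℝ) * h + c ^ 2 * h - (e + c) ^ 2) + ((m * (q * k') : ℕ) : ℝ)⁻¹ * (((q * k' : ℕ) : ℝ) - k') * (b : ℝ) ^ 2 < 1) : False := by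
  have heR : (0 : ℝ) < e := by exact_mod_cast he
  have hmR : (0 : ℝ) < m := by exact_mod_cast hm
  have hkR : (0 : ℝ) < k' := by exact_mod_cast hk'
  have hqR : (0 : ℝ) < q := by exact_mod_cast hq
  have hq1 : (1 : ℝ) ≤ q := by exact_mod_cast hq
  have hhR' : 0 < h := lt_of_lt_of_le (by have : 0 < p := by omega
                                          positivity) hh
  have hhR : (0 : ℝ) < h := by exact_mod_cast hhR'
  have hmhR : (m : ℝ) ≤ h := by exact_mod_cast hmh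
  have e1 : ((e * h : ℕ) : ℝ)⁻¹ * ((e : ℝ) * h + c ^ 2 * h - (e + c) ^ 2) = 1 + ((c : ℝ) ^ 2 * h - (e + c) ^ 2) / (e * h) := by
    push_cast
    field_simp
    ring
  have e2 : ((m * (q * k') : ℕ) : ℝ)⁻¹ * (((q * k' : ℕ) : ℝ) - k') * (b : ℝ) ^ 2 = (q - 1) * b ^ 2 / (m * q) := by
    push_cast
    field_simp
  rw [e1, e2] at hlt
  by_cases hc : c = 0
  · subst hc
    have h1 := hb rfl
    have h2 : (e : ℝ) * q ≤ (q - 1) * b ^ 2 := by exact_mod_cast h1
    have h3 : ((Int.cast (0 : ℤ) : ℝ) ^ 2 * h - (e + (Int.cast (0 : ℤ) : ℝ)) ^ 2) / (e * h) = - (e / h) := by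
      push_cast
      field_simp
      ring
    rw [h3] at hlt
    have h4 : (q - 1) * (b : ℝ) ^ 2 / (m * q) < e / h := by linarith
    rw [div_lt_div_iff₀ (by positivity) hhR] at h4
    have h5 : (e : ℝ) * (m * q) ≤ e * (h * q) := by
      apply mul_le_mul_of_nonneg_left _ heR.le
      exact mul_le_mul_of_nonneg_right hmhR hqR.le
    have h6 : (e : ℝ) * q * h ≤ (q - 1) * b ^ 2 * h := mul_le_mul_of_nonneg_right h2 hhR.le
    nlinarith
  · have h1 : (0 : ℝ) ≤ (q - 1) * b ^ 2 / (m * q) := by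
      apply div_nonneg
      · exact mul_nonneg (by linarith) (sq_nonneg _)
      · positivity
    have h2 : (0 : ℝ) ≤ ((c : ℝ) ^ 2 * h - (e + c) ^ 2) / (e * h) := by
      apply div_nonneg _ (by positivity)
      have hcz : (1 : ℤ) ≤ c ^ 2 := by
        have : 0 < c ^ 2 := by positivity
        omega
      have hcR : (1 : ℝ) ≤ (c : ℝ) ^ 2 := by exact_mod_cast hcz
      have hpe : ((e : ℝ) + 1) ^ 2 ≤ h := by
        have h5 : (e + 1) ^ 2 ≤ h := (Nat.pow_le_pow_left hep 2).trans hh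
        exact_mod_cast h5
      have h6 : (c : ℝ) ^ 2 * (e + 1) ^ 2 ≤ c ^ 2 * h := mul_le_mul_of_nonneg_left hpe (by positivity)
      have h7 : ((e : ℝ) + c) ^ 2 ≤ c ^ 2 * (e + 1) ^ 2 := by
        have habs : (1 : ℝ) ≤ |(c : ℝ)| := by
          by_contra hlt'
          push Not at hlt'
          have h8 : |(c : ℝ)| ^ 2 < 1 := by
            have h9 := abs_nonneg (c : ℝ)
            nlinarith
          rw [sq_abs] at h8
          linarith
        have h8 : |(e : ℝ) + c| ≤ |(c : ℝ)| * (e + 1) := by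
          calc |(e : ℝ) + c| ≤ |(e : ℝ)| + |(c : ℝ)| := abs_add_le _ _
            _ = e + |(c : ℝ)| := by rw [abs_of_pos heR]
            _ ≤ |(c : ℝ)| * (e + 1) := by nlinarith
        calc ((e : ℝ) + c) ^ 2 = |(e : ℝ) + c| ^ 2 := (sq_abs _).symm
          _ ≤ (|(c : ℝ)| * (e + 1)) ^ 2 := pow_le_pow_left₀ (abs_nonneg _) h8 2
          _ = c ^ 2 * (e + 1) ^ 2 := by rw [mul_pow, sq_abs]
      linarith
    linarith

/-! ### type I subgroups -/

section TypeI
variable {G : Type u} [Group G] [Finite G]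

theorem fh_I (hG : IsMinSimpleOddOrder G) {N : Subgroup G} (hN : IsCoatom N) (hκ : kappa N = ∅) : fittingHallOf N = sigmaCore N :=
  (H12.D16.fh_of_kappa_empty hG hN hκ).1

theorem mem_fh (hG : IsMinSimpleOddOrder G) {N : Subgroup G} (hN : IsCoatom N) (hκ : kappa N = ∅) {n : N} :
    n ∈ fittingHall N ↔ (n : G) ∈ sigmaCore N := by
  rw [← fh_I hG hN hκ]
  constructor
  · intro hn; exact ⟨n, hn, rfl⟩
  · rintro ⟨m, hm, e⟩
    have : m = n := Subtype.ext e
    rwa [← this]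

theorem exists_TF (hG : IsMinSimpleOddOrder G) {N : Subgroup G} (hN : IsCoatom N) (hκ : kappa N = ∅) :
    ∃ U U₁ : Subgroup N, TF (fittingHall N) U U₁ := by
  obtain ⟨E, -, hE⟩ := exists_E hG hN (K := ⊥) bot_le (by
    intro p hp hd
    rw [Subgroup.card_bot] at hd
    exact absurd (Nat.dvd_one.1 hd) hp.one_lt.ne')
  obtain ⟨U₁, U₀, hT⟩ := H2.Ty.exists_TyF hG hN hκ hE
  refine ⟨E.subgroupOf N, U₁.subgroupOf N, H12.Core.fittingHall_spec.2.2, ?_, ?_, ?_⟩
  · intro g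
    obtain ⟨a, ha, b, hb, he⟩ := hE.2.2.2 g g.2
    have haN : a ∈ N := hE.1 ha
    have hc : a * b * a⁻¹ ∈ sigmaCore N := (mem_normalizer_iff.1 (le_normalizer_sigmaCore N haN) b).1 hb
    refine ⟨⟨a * b * a⁻¹, sigmaCore_le N hc⟩, (mem_fh hG hN hκ).2 hc, ⟨a, haN⟩, ha, Subtype.ext ?_⟩
    show (g : G) = a * b * a⁻¹ * a
    rw [he]; group
  · intro u hu k hk hk1 huk
    have h1 : (u : G) ∈ E ⊓ centralizer ({(k : G)} : Set G) :=
      mem_inf.2 ⟨hu, mem_centralizer_singleton_iff.2 (congrArg Subtype.val huk)⟩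
    exact hT.U₁c k ((mem_fh hG hN hκ).1 hk) (fun h => hk1 (Subtype.ext h)) h1
  · intro a ha b hb
    have h1 : (a : G) * b = b * a := congrArg Subtype.val (hT.U₁ab.is_comm.comm (⟨a, ha⟩ : U₁) ⟨b, hb⟩)
    exact Subtype.ext h1

theorem dadeN (hG : IsMinSimpleOddOrder G) {N : Subgroup G} (hN : IsCoatom N) : DadeHypothesis (tA N) N (supportR N) :=
  (main1537 hG (con16 hG) N hN (tA N) (Or.inr (Or.inl rfl))).2

theorem dadeN1 (hG : IsMinSimpleOddOrder G) {N : Subgroup G} (hN : IsCoatom N) : DadeHypothesis (typeA1 N) N (supportR N) :=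
  (main1537 hG (con16 hG) N hN (typeA1 N) (Or.inl rfl)).2

theorem mem_tA_I (hG : IsMinSimpleOddOrder G) {N : Subgroup G} (hN : IsCoatom N) (hκ : kappa N = ∅) {a : G} :
    a ∈ tA N ↔ a ∈ N ∧ a ≠ 1 ∧ ∃ x ∈ sigmaCore N, x ≠ 1 ∧ a * x = x * a := by
  rw [mem_typeA hG (con16 hG) hN, hκ]
  constructor
  · rintro ⟨h1, h2, -, h3⟩; exact ⟨h1, h2, h3⟩
  · rintro ⟨h1, h2, h3⟩; exact ⟨h1, h2, fun _ _ _ => Set.notMem_empty _, h3⟩

theorem offA (hG : IsMinSimpleOddOrder G) {N : Subgroup G} [Fintype N] (hN : IsCoatom N) (hκ : kappa N = ∅) :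
    ∀ χ ∈ calX (fittingHall N), ∀ x : N, x ≠ 1 → (x : G) ∉ tA N → χ x = 0 := by
  intro χ hχ x hx1 hxA
  apply vanish inferInstance H12.Core.fittingHall_spec.2.2 hχ
  intro k hk hxk
  by_contra hk1
  apply hxA
  rw [mem_tA_I hG hN hκ]
  exact ⟨x.2, fun h => hx1 (Subtype.ext h), k, (mem_fh hG hN hκ).1 hk, fun h => hk1 (Subtype.ext h), congrArg Subtype.val hxk⟩

theorem supp_off (hG : IsMinSimpleOddOrder G) {N : Subgroup G} (hN : IsCoatom N) (hκ : kappa N = ∅) :
    ∀ x : N, (x : G) ∈ tA N → x ∉ fittingHall N → supportR N x = ⊥ := by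
  intro x hx hxK
  rcases supportR_spec (con16 hG) hN (typeA_subset0 hx) with h | ⟨L, h⟩
  · exact h.2
  · exact absurd ((mem_fh hG hN hκ).2 ((mem_typeA1 hG (con16 hG) hN).1 h.memA1).1) hxK

end TypeI

end Cfsg.Agent.H1.PF12
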