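import Mathlib
import Cfsg.Agent.H1_PF12g

/-! Peterfalvi §12: coherence on the Frobenius side -/

set_option autoImplicit false
set_option linter.all false

open Pointwise
open scoped commutatorElement

namespace Cfsg.Agent.H1.PF12

open Cfsg Subgroup Cfsg.Agent.H13.Syl Cfsg.Agent.H12.BG7 Cfsg.Agent.H12.BG10 Cfsg.Agent.H12.BG11 Cfsg.Agent.H12.BG12 Cfsg.Agent.H2.BG14
  Cfsg.Agent.H2.Con13 Cfsg.Agent.H12.Ty Cfsg.Agent.H12.BG157 Cfsg.Agent.H1.PG8

universe u

variable {G : Type u} [Group G] [Finite G]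

theorem card_fh (hG : IsMinSimpleOddOrder G) {N : Subgroup G} (hN : IsCoatom N) (hκ : kappa N = ∅) :
    Nat.card (fittingHall N) = Nat.card (sigmaCore N) := by
  rw [← fh_I hG hN hκ, fittingHallOf, Subgroup.card_map_of_injective N.subtype_injective]

theorem index_fh (hG : IsMinSimpleOddOrder G) {N : Subgroup G} (hN : IsCoatom N) (hκ : kappa N = ∅) :
    (fittingHall N).index = (sigmaCore N).relIndex N := by
  rw [← fh_I hG hN hκ, fittingHallOf, H12.Core.relIndex_map_subtype_self]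

theorem fh_lt_top (hG : IsMinSimpleOddOrder G) {N : Subgroup G} (hN : IsCoatom N) (hκ : kappa N = ∅) : fittingHall N ≠ ⊤ := by
  intro h
  have h1 := Subgroup.index_eq_one.2 h
  rw [index_fh hG hN hκ, Subgroup.relIndex_eq_one] at h1
  exact (sigmaCore_ne_top' hG hN).not_ge h1

theorem fh_ne_bot (hG : IsMinSimpleOddOrder G) {N : Subgroup G} (hN : IsCoatom N) (hκ : kappa N = ∅) : fittingHall N ≠ ⊥ := by
  intro h
  have h1 := Subgroup.card_eq_one.2 h
  rw [card_fh hG hN hκ, Subgroup.card_eq_one] at h1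
  exact sigmaCore_ne_bot hG hN h1

theorem cent_fh (hG : IsMinSimpleOddOrder G) {N : Subgroup G} (hN : IsCoatom N) (hκ : kappa N = ∅) (ht : tau2 N = ∅) :
    ∀ h ∈ fittingHall N, h ≠ 1 → centralizer ({h} : Set N) ≤ fittingHall N := by
  intro h hh hh1 c hc
  rw [mem_fh hG hN hκ] at hh ⊢
  refine frob_of hG hN hκ ht hh (fun e => hh1 (Subtype.ext e)) (mem_inf.2 ⟨c.2, ?_⟩)
  rw [mem_centralizer_singleton_iff] at hc ⊢
  exact congrArg Subtype.val hc

theorem tA_frob (hG : IsMinSimpleOddOrder G) {N : Subgroup G} (hN : IsCoatom N) (hκ : kappa N = ∅) (ht : tau2 N = ∅) (z : N) :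
    (z : G) ∈ tA N ↔ z ∈ fittingHall N ∧ z ≠ 1 := by
  rw [mem_tA_I hG hN hκ]
  constructor
  · rintro ⟨h1, h2, x, hx, hx1, hzx⟩
    refine ⟨(mem_fh hG hN hκ).2 ?_, fun e => h2 (by rw [e]; rfl)⟩
    exact frob_of hG hN hκ ht hx hx1 (mem_inf.2 ⟨h1, mem_centralizer_singleton_iff.2 hzx⟩)
  · rintro ⟨h1, h2⟩
    refine ⟨z.2, fun e => h2 (Subtype.ext e), z, (mem_fh hG hN hκ).1 h1, fun e => h2 (Subtype.ext e), rfl⟩

theorem coh_of (hG : IsMinSimpleOddOrder G) [Fintype G] {L : Subgroup G} [Fintype L] (hL : IsCoatom L) (hκ : kappa L = ∅) (ht : tau2 L = ∅)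
    (hno : ¬ ∃ p : ℕ, p.Prime ∧ (∃ m : ℕ, Nat.card (fittingHall L) = p ^ m) ∧ ¬ IsMulCommutative (fittingHall L) ∧
      (⁅fittingHall L, fittingHall L⁆.subgroupOf (fittingHall L)).index ≤ 4 * (fittingHall L).index ^ 2 + 1) :
    IsCoherent (calX (fittingHall L)) {1}ᶜ (dadeIsometry (tA L) L (supportR L)) := by
  have hDL := dadeN hG hL
  have hoff := offA hG hL hκ
  rcases Cfsg.Agent.S1535.result (fittingHall L) (fh_ne_bot hG hL hκ) (fh_lt_top hG hL hκ) (cent_fh hG hL hκ ht) (by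
    intro h
    have h1 : Odd (Nat.card (fittingHall L)) := by rw [card_fh hG hL hκ]; exact odd_card_subgroup hG _
    have h2 : Odd (fittingHall L).index := by
      have h3 := (fittingHall L).card_mul_index
      exact Odd.of_dvd_nat (odd_card_subgroup hG L) (Dvd.intro_left _ h3)
    obtain ⟨a, ha⟩ := h1
    obtain ⟨b, hb⟩ := h2
    omega) (dadeIsometry (tA L) L (supportR L)) (isoData (K := fittingHall L) hDL hoff).iso (by
    intro α hα
    by_contra hne
    obtain ⟨b, hb, hbA, u, hu, z, hz⟩ := dade_supp (B := Set.univ) (fun v hv => absurd (Set.mem_univ _) hv) hne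
    exact one_not_tilde hDL ⟨b, hbA, u, hu, z⁻¹, by rw [hz]; group⟩) with h | h
  · exact h
  · exact absurd h hno

theorem comm_subgroupOf {X : Type*} [Group X] (H : Subgroup X) : ⁅H, H⁆.subgroupOf H = commutator H := by
  have h1 : (commutator H).map H.subtype = ⁅H, H⁆ := by
    rw [_root_.commutator_def, Subgroup.map_commutator, ← MonoidHom.range_eq_map, Subgroup.range_subtype]
  rw [← h1, H12.Core.subgroupOf_map_subtype_self]

theorem coh_L (hG : IsMinSimpleOddOrder G) [Fintype G] {M L : Subgroup G} [Fintype L] {p : ℕ} {x y : G} (g : GP M L p x y) :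
    IsCoherent (calX (fittingHall L)) {1}ᶜ (dadeIsometry (tA L) L (supportR L)) := by
  apply coh_of hG g.coL g.kL g.tL
  rintro ⟨r, hr, ⟨m, hm⟩, hna, hle⟩
  haveI := Fact.mk hr
  haveI := Fact.mk g.hp
  have hna' : ¬ IsMulCommutative (sigmaCore L) := by
    intro hc
    apply hna
    refine ⟨⟨fun a b => ?_⟩⟩
    have h1 := hc.is_comm.comm (⟨((a : L) : G), (mem_fh hG g.coL g.kL).1 a.2⟩ : sigmaCore L) ⟨((b : L) : G), (mem_fh hG g.coL g.kL).1 b.2⟩
    have h2 : ((a : L) : G) * ((b : L) : G) = ((b : L) : G) * ((a : L) : G) := congrArg Subtype.val h1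
    exact Subtype.ext (Subtype.ext h2)
  rcases g.ep with h1 | h1
  · have hrp : r = p := by
      have h2 := g.pH
      rw [← card_fh hG g.coL g.kL, hm] at h2
      exact ((Nat.prime_dvd_prime_iff_eq g.hp hr).1 (g.hp.dvd_of_dvd_pow h2)).symm
    subst hrp
    have h2 := Cfsg.Agent.H3.P4.index_commutator_ge (p := r) (P := fittingHall L) (IsPGroup.of_card hm) (by
      intro hc
      exact hna ⟨⟨hc⟩⟩)
    rw [comm_subgroupOf, index_fh hG g.coL g.kL] at hle
    have h3 := h2.trans hle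
    have h4 := g.eodd
    have hpo : Odd r := Odd.of_dvd_nat (odd_card_subgroup hG _) g.pH
    have hp1 := g.hp.one_lt
    obtain ⟨k, hk⟩ := h1
    obtain ⟨a, ha⟩ := h4
    obtain ⟨b, hb⟩ := hpo
    set e := (sigmaCore L).relIndex L with he
    have hk2 : 2 ≤ k := by
      rcases Nat.lt_or_ge k 2 with h5 | h5
      · exfalso
        interval_cases k
        · omega
        · omega
      · exact h5
    have h6 : e * 2 ≤ e * k := Nat.mul_le_mul_left e hk2
    have h7 : 2 * e + 1 ≤ r := by omega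
    have h8 : (2 * e + 1) ^ 2 ≤ r ^ 2 := Nat.pow_le_pow_left h7 2
    have h9 := g.e3
    nlinarith
  · exact hna' h1.1

end Cfsg.Agent.H1.PF12
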