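import Mathlib
import Cfsg.Agent.H1_PF12h

/-! Peterfalvi (12.13)-(12.16): the final contradiction -/

set_option autoImplicit false
set_option linter.all false

open Pointwise
open scoped commutatorElement

namespace Cfsg.Agent.H1.PF12

open Cfsg Subgroup Cfsg.Agent.H13.Syl Cfsg.Agent.H12.BG7 Cfsg.Agent.H12.BG10 Cfsg.Agent.H12.BG11 Cfsg.Agent.H12.BG12 Cfsg.Agent.H2.BG14
  Cfsg.Agent.H2.Con13 Cfsg.Agent.H12.Ty Cfsg.Agent.H12.BG157 Cfsg.Agent.H1.PG8
open Cfsg.Agent.H3.CharBasic Cfsg.Agent.H3.CharIrr Cfsg.Agent.H3.CharComplete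
  Cfsg.Agent.H3.CharMult Cfsg.Agent.H3.CharInd Cfsg.Agent.H3.CharInt Cfsg.Agent.H3.Clifford Cfsg.Agent.H3.CharQuot
  Cfsg.Agent.H10.PM Cfsg.Agent.H10.BlockLoc

universe u

section
variable {G : Type u} [Group G] [Fintype G]

/-- the constancy on cosets for maximal subgroups of type I not conjugate to `L` -/
theorem key_coset (hG : IsMinSimpleOddOrder G) {L : Subgroup G} (hL : IsCoatom L) {ψ a : G → ℂ}
    (ha : IsIrrCharacter G a) (hψ : Pm ψ) (hψa : ψ = a ∨ ψ = -a ∨ ψ = conjFun a ∨ ψ = -conjFun a)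
    (hsupp : ∀ w : G, (a - conjFun a) w ≠ 0 → w ∈ tildeOf L ((sigmaCore L : Set G) \ {1}))
    {N : Subgroup G} [Fintype N] (hN : IsCoatom N) (hκN : kappa N = ∅) (hnc : ∀ g : G, N ≠ cj g L) :
    (∀ χ ∈ calX (fittingHall N), classInner ψ (dadeIsometry (tA N) N (supportR N) (χ - conjFun χ)) = 0) ∧
      ∀ v : N, v ∉ fittingHall N → ∀ k ∈ fittingHall N, ψ ((k * v : N) : G) = ψ v := by
  classical
  obtain ⟨U, U₁, hTF⟩ := exists_TF hG hN hκN
  have hDN := dadeN hG hN
  have hoddN : Odd (Nat.card N) := odd_card_subgroup hG N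
  have hoff := offA hG hN hκN
  have hI : IsoData (fittingHall N) (dadeIsometry (tA N) N (supportR N)) := isoData hDN hoff
  have hsum : ∀ θ : fittingHall N → ℂ, IsIrrCharacter (fittingHall N) θ → θ ≠ (fun _ => 1) →
      classInner (a - conjFun a) (dadeIsometry (tA N) N (supportR N) (indFun (fittingHall N) θ - conjFun (indFun (fittingHall N) θ))) = 0 := by
    intro θ hθ hθ1
    rw [classInner, Finset.sum_eq_zero, mul_zero]
    intro w _
    by_cases h1 : (a - conjFun a) w = 0
    · rw [h1, zero_mul]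
    · have h2 : dadeIsometry (tA N) N (supportR N) (indFun (fittingHall N) θ - conjFun (indFun (fittingHall N) θ)) w = 0 := by
        by_contra hne
        obtain ⟨b, hb, hbA, u, hu, z, hz⟩ := dade_supp (B := (sigmaCore N : Set G) \ {1}) (by
          intro v hv
          by_cases hv1 : v = 1
          · subst hv1
            rw [Pi.sub_apply, conjFun, sub_eq_zero]
            haveI := Fintype.ofFinite (fittingHall N)
            rw [ind_one]
            obtain ⟨m, -, hm⟩ := IsIrr.one_eq_nat hθ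
            rw [hm]
            simp
          · have hvK : v ∉ fittingHall N := fun h => hv ⟨(mem_fh hG hN hκN).1 h, fun e => hv1 (Subtype.ext e)⟩
            haveI := Fintype.ofFinite (fittingHall N)
            rw [Pi.sub_apply, conjFun, ind_of_not_mem inferInstance _ hvK, map_zero, sub_zero]) hne
        exact tilde_inter hG (H12.BG13.con13 hG) hL hN hnc (hsupp w h1) ⟨b, hb, u, hu, z, hz⟩
      rw [h2, map_zero, mul_zero]
  have hψX := orth_of_disj inferInstance hI hoddN hTF ha hψa hsum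
  exact ⟨hψX, const_on_coset hDN inferInstance hoddN hoff (supp_off hG hN hκN) hTF hψ hψX⟩

theorem frob_cent {X : Type*} [Group X] {E : Subgroup X} (hE : IsFrobeniusComplement E) {x y : X} (hx : x ∉ frobeniusKernel E)
    (hy : y ∈ frobeniusKernel E) (hxy : Commute x y) : y = 1 := by
  rcases hy with hy | hy
  · exact hy
  · exfalso
    have h1 : x ≠ 1 ∧ ∃ g : X, x ∈ MulAut.conj g • E := by
      constructor
      · intro h; exact hx (Or.inl h)
      · by_contra h
        push Not at h
        exact hx (Or.inr h)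
    obtain ⟨hx1, g, hg⟩ := h1
    rw [H1.Basic.mem_conj] at hg
    apply hy g
    rw [H1.Basic.mem_conj]
    refine H1.Frob.centralizer_le hE hg ?_ ?_
    · intro h
      apply hx1
      calc x = g * (g⁻¹ * x * g) * g⁻¹ := by group
        _ = 1 := by rw [h]; group
    · calc g⁻¹ * y * g * (g⁻¹ * x * g) = g⁻¹ * (y * x) * g := by group
        _ = g⁻¹ * (x * y) * g := by rw [hxy.eq]
        _ = _ := by group

/-- the averages of `ψ` over `M` are the values -/
theorem av_M (hG : IsMinSimpleOddOrder G) {M L : Subgroup G} {p : ℕ} {x y : G} (g : GP M L p x y) {ψ : G → ℂ}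
    (key : ∀ N : Subgroup G, IsCoatom N → kappa N = ∅ → (∀ g : G, N ≠ cj g L) →
      ∀ v : N, v ∉ fittingHall N → ∀ k ∈ fittingHall N, ψ ((k * v : N) : G) = ψ v) :
    ∀ v : M, v ∈ fittingHall M → v ≠ 1 → av (supportR M) ψ v = ψ v := by
  intro v hv hv1
  have hvσ := (mem_fh hG g.coM g.kM).1 hv
  have hv1' : (v : G) ≠ 1 := fun e => hv1 (Subtype.ext e)
  have hvA : (v : G) ∈ tA0 M := typeA_subset0 (typeA1_subset hG (con16 hG) g.coM
    ((mem_typeA1 hG (con16 hG) g.coM).2 ⟨hvσ, hv1'⟩))
  rcases supportR_spec (con16 hG) g.coM hvA with h | ⟨N, h⟩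
  · exact av_bot h.2
  · have hκN : kappa N = ∅ := by
      rcases h.types with h1 | h1
      · exact (H2.Ty.tyI_iff hG h.co).1 h1
      · exfalso
        obtain ⟨E, hE, hker⟩ := h.frob h1
        have hy1 : y ≠ 1 := fun e => g.yD (e ▸ one_mem _)
        have hxK : (⟨x, g.xM⟩ : M) ∉ frobeniusKernel E := by
          rw [hker]
          intro hx
          have hx' := (mem_fh hG g.coM g.kM).1 hx
          have h2 : orderOf x ∣ Nat.card (sigmaCore M) := Subgroup.orderOf_dvd_natCard _ hx'
          rw [g.xo] at h2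
          exact g.pK h2
        have hyK : (⟨y, sigmaCore_le M g.yM⟩ : M) ∈ frobeniusKernel E := by
          rw [hker]
          exact (mem_fh hG g.coM g.kM).2 g.yM
        have h3 := frob_cent hE hxK hyK (Subtype.ext g.xy.eq)
        exact hy1 (congrArg Subtype.val h3)
    have hmemA := (mem_tA_I hG h.co hκN).1 h.memA
    have hvN : (v : G) ∉ sigmaCore N := fun hc => h.not_memA1 ((mem_typeA1 hG (con16 hG) h.co).2 ⟨hc, hv1'⟩)
    have hncN : ∀ g' : G, N ≠ cj g' L := by
      rintro g' rfl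
      have t1 : tau2 (cj g' L) = ∅ := by
        rw [Set.eq_empty_iff_forall_notMem]
        intro q hq
        have := tau2_cj' hq
        rw [g.tL] at this
        exact this
      obtain ⟨h2, -, z, hz, hz1, hvz⟩ := hmemA
      exact hvN (frob_of hG h.co hκN t1 hz hz1 (mem_inf.2 ⟨h2, mem_centralizer_singleton_iff.2 hvz⟩))
    apply av_const
    intro u hu
    rw [h.sup] at hu
    obtain ⟨hu1, hu2⟩ := mem_inf.1 hu
    rw [fh_I hG h.co hκN] at hu1
    have h3 := key N h.co hκN hncN ⟨v, hmemA.1⟩ (fun hc => hvN ((mem_fh hG h.co hκN).1 hc)) ⟨u, sigmaCore_le N hu1⟩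
      ((mem_fh hG h.co hκN).2 hu1)
    rw [← mem_centralizer_singleton_iff.1 hu2]
    exact h3

end

end Cfsg.Agent.H1.PF12
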