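import Mathlib
import Cfsg.Agent.H1_PF12i

/-! Peterfalvi (12.13)-(12.16): the final contradiction, continued -/

set_option autoImplicit false
set_option linter.all false

open Pointwise
open scoped commutatorElement

namespace Cfsg.Agent.H1.PF12

open Cfsg Subgroup Cfsg.Agent.H13.Syl Cfsg.Agent.H12.BG7 Cfsg.Agent.H12.BG10 Cfsg.Agent.H12.BG11 Cfsg.Agent.H12.BG12 Cfsg.Agent.H2.BG14
  Cfsg.Agent.H2.Con13 Cfsg.Agent.H12.Ty Cfsg.Agent.H12.BG157 Cfsg.Agent.H1.PG8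
open Cfsg.Agent.H3.CharBasic Cfsg.Agent.H3.CharIrr Cfsg.Agent.H3.CharComplete
  Cfsg.Agent.H3.CharMult Cfsg.Agent.H3.CharInd Cfsg.Agent.H3.CharInt Cfsg.Agent.H3.Clifford Cfsg.Agent.H3.CharQuot
  Cfsg.Agent.H10.PM Cfsg.Agent.H10.BlockLoc

universe u

section
variable {G : Type u} [Group G] [Fintype G]

/-- what the Frobenius side produces -/
structure PD (L M : Subgroup G) (p : ℕ) (x : G) (e h : ℕ) (ψ : G → ℂ) (c : ℤ) : Prop where
  pm : Pm ψ
  key : ∀ N : Subgroup G, IsCoatom N → kappa N = ∅ → (∀ g : G, N ≠ cj g L) →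
      ∀ v : N, v ∉ fittingHall N → ∀ k ∈ fittingHall N, ψ ((k * v : N) : G) = ψ v
  orth : ∀ [Fintype M], ∀ χ ∈ calX (fittingHall M), classInner ψ (dadeIsometry (tA M) M (supportR M) (χ - conjFun χ)) = 0
  cong : ∀ 𝔪 : Ideal AlgInt, IsPModular p 𝔪 → MemLocalIdeal 𝔪 (ψ x - (e + c))
  norm : ∀ [Fintype L], ∑ᶠ z ∈ {z : L | (z : G) ∈ tA L}, ‖av (supportR L) ψ z‖ ^ 2 = (e : ℝ) * h + c ^ 2 * h - (e + c) ^ 2

theorem exists_PD (hG : IsMinSimpleOddOrder G) {M L : Subgroup G} {p : ℕ} {x y : G} (g : GP M L p x y) :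
    ∃ (ψ : G → ℂ) (c : ℤ), PD L M p x ((sigmaCore L).relIndex L) (Nat.card (sigmaCore L)) ψ c := by
  classical
  letI instL : Fintype L := Fintype.ofFinite L
  haveI hprime := Fact.mk g.hp
  have hDL := dadeN hG g.coL
  have hcoh := coh_L hG g
  have hnil : Group.IsNilpotent (fittingHall L) := H12.Core.fittingHall_spec.2.1
  have hsolvL : Group.IsSolvable (fittingHall L) := inferInstance
  obtain ⟨φ, ψ, a, c, hφ, hφ1, hψ, ha, hψa, hφX, hτφ, hav, hφoff, hnorm⟩ :=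
    frob_data hDL (odd_card_subgroup hG L) hsolvL (cent_fh hG g.coL g.kL g.tL) (bot_lt_iff_ne_bot.2 (fh_ne_bot hG g.coL g.kL))
      (tA_frob hG g.coL g.kL g.tL) hcoh
  have hsupp : ∀ w : G, (a - conjFun a) w ≠ 0 → w ∈ tildeOf L ((sigmaCore L : Set G) \ {1}) := by
    intro w hw
    rw [← hτφ] at hw
    obtain ⟨b, hb, hbA, u, hu, z, hz⟩ := dade_supp (B := tA L) (by
      intro v hv
      by_cases hv1 : v = 1
      · subst hv1
        rw [Pi.sub_apply, conjFun, hφ1, sub_eq_zero]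
        simp
      · have hvK : v ∉ fittingHall L := fun h => hv ((tA_frob hG g.coL g.kL g.tL v).2 ⟨h, hv1⟩)
        rw [Pi.sub_apply, conjFun, hφoff v hvK, map_zero, sub_zero]) hw
    have hbL := (mem_tA_I hG g.coL g.kL).1 hb
    have hb' := (tA_frob hG g.coL g.kL g.tL ⟨b, hbL.1⟩).1 hb
    exact ⟨b, ⟨(mem_fh hG g.coL g.kL).1 hb'.1, hbL.2.1⟩, u, hu, z, hz⟩
  have key : ∀ N : Subgroup G, IsCoatom N → kappa N = ∅ → (∀ g : G, N ≠ cj g L) →
      ∀ v : N, v ∉ fittingHall N → ∀ k ∈ fittingHall N, ψ ((k * v : N) : G) = ψ v := by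
    intro N hN hκN hnc
    letI : Fintype N := Fintype.ofFinite N
    exact (key_coset hG g.coL ha hψ hψa hsupp hN hκN hnc).2
  have hxK : (⟨x, g.xM⟩ : M) ∉ fittingHall M := by
    intro hx
    have hx' := (mem_fh hG g.coM g.kM).1 hx
    have h2 : orderOf x ∣ Nat.card (sigmaCore M) := Subgroup.orderOf_dvd_natCard _ hx'
    rw [g.xo] at h2
    exact g.pK h2
  have hx1 : x ≠ 1 := by
    intro e
    have := g.xo
    rw [e, orderOf_one] at this
    exact g.hp.one_lt.ne this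
  have hRD : RD L M x := exists_RD (con16 hG) g.coL (typeA_subset0 (typeA1_subset hG (con16 hG) g.coL
    ((mem_typeA1 hG (con16 hG) g.coL).2 ⟨g.xL, hx1⟩))) g.xnL g.coM g.xC
  have hxLL : x ∈ L := sigmaCore_le L g.xL
  have havx : av (supportR L) ψ x = ψ x := by
    apply av_const
    intro u hu
    rw [hRD.sup] at hu
    obtain ⟨hu1, hu2⟩ := mem_inf.1 hu
    rw [fh_I hG g.coM g.kM] at hu1
    have h3 := key M g.coM g.kM g.nc ⟨x, g.xM⟩ hxK ⟨u, sigmaCore_le M hu1⟩ ((mem_fh hG g.coM g.kM).2 hu1)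
    rw [← mem_centralizer_singleton_iff.1 hu2]
    exact h3
  have hψx : ψ x = φ ⟨x, hxLL⟩ + c := by
    rw [← havx]
    exact hav ⟨x, hxLL⟩ ((mem_fh hG g.coL g.kL).2 g.xL) (fun e => hx1 (congrArg Subtype.val e))
  refine ⟨ψ, c, hψ, key, ?_, ?_, ?_⟩
  · intro inst
    exact (key_coset hG g.coL ha hψ hψa hsupp g.coM g.kM g.nc).1
  · intro 𝔪 h𝔪
    have h1 := Cfsg.Agent.H10.BlockHZ.char_sub_mem h𝔪 (IsIrr.isCharacter hφ) (x := (⟨x, hxLL⟩ : L)) (y := 1) (Commute.one_right _)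
      ⟨1, by rw [pow_one, ← g.xo]; exact orderOf_mk x hxLL⟩ (by
        rw [orderOf_one]
        intro h
        exact g.hp.one_lt.ne' (Nat.dvd_one.1 h))
    rw [mul_one, hφ1, index_fh hG g.coL g.kL] at h1
    rw [hψx]
    have e1 : φ ⟨x, hxLL⟩ + (c : ℂ) - (((sigmaCore L).relIndex L : ℕ) + c) = φ ⟨x, hxLL⟩ - ((sigmaCore L).relIndex L : ℕ) := by ring
    rw [e1]; exact h1
  · intro inst
    have : inst = instL := Subsingleton.elim _ _
    subst this
    rw [hnorm, index_fh hG g.coL g.kL, card_fh hG g.coL g.kL]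

end

end Cfsg.Agent.H1.PF12
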