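import Mathlib
import Cfsg.Agent.H1_PF12j

/-! Peterfalvi (12.16): the final contradiction, the side of `M` -/

set_option autoImplicit false
set_option linter.all false

open Pointwise
open scoped commutatorElement

namespace Cfsg.Agent.H1.PF12

open Cfsg Subgroup Cfsg.Agent.H13.Syl Cfsg.Agent.H12.BG7 Cfsg.Agent.H12.BG10 Cfsg.Agent.H12.BG11 Cfsg.Agent.H12.BG12 Cfsg.Agent.H2.BG14
  Cfsg.Agent.H2.Con13 Cfsg.Agent.H12.Ty Cfsg.Agent.H12.BG157 Cfsg.Agent.H1.PG8
open Cfsg.Agent.H3.CharBasic Cfsg.Agent.H3.CharIrr Cfsg.Agent.H3.CharComplete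
  Cfsg.Agent.H3.CharMult Cfsg.Agent.H3.CharInd Cfsg.Agent.H3.CharInt Cfsg.Agent.H3.Clifford Cfsg.Agent.H3.CharQuot
  Cfsg.Agent.H10.PM Cfsg.Agent.H10.BlockLoc

universe u

section
variable {G : Type u} [Group G] [Fintype G]

theorem exists_b (hG : IsMinSimpleOddOrder G) {M L : Subgroup G} {p : ℕ} {x y : G} (g : GP M L p x y) {e h : ℕ} {ψ : G → ℂ} {c : ℤ}
    (hP : PD L M p x e h ψ c) : ∃ b : ℤ, ∀ [Fintype (commutator ↥(fittingHall M))], ∀ v : fittingHall M, v ∉ commutator ↥(fittingHall M) →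
      ∑ d : commutator ↥(fittingHall M), ψ (((v * d : fittingHall M) : M) : G) = (Nat.card (commutator ↥(fittingHall M)) : ℂ) * b := by
  classical
  letI instM : Fintype M := Fintype.ofFinite M
  letI instK : Fintype (fittingHall M) := Fintype.ofFinite _
  obtain ⟨U, U₁, hTF⟩ := exists_TF hG g.coM g.kM
  have hF : IsGeneralizedCharacter (fittingHall M) (fun v : fittingHall M => ψ ((v : M) : G)) :=
    IsGen.comp hP.pm.gen (M.subtype.comp (fittingHall M).subtype)
  have hab : ∀ x y : fittingHall M, x * y * x⁻¹ * y⁻¹ ∈ commutator ↥(fittingHall M) := by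
    intro x y
    rw [← commutatorElement_def]
    exact Subgroup.commutator_mem_commutator (mem_top _) (mem_top _)
  have hlin := fun θ₁ θ₂ h1 h2 n1 n2 hdeg => const_lin (dadeN hG g.coM) (K := fittingHall M) inferInstance (odd_card_subgroup hG M)
    (offA hG g.coM g.kM)
    (by
      intro z hz hz1
      rw [mem_tA_I hG g.coM g.kM]
      exact ⟨z.2, fun e => hz1 (Subtype.ext e), z, (mem_fh hG g.coM g.kM).1 hz, fun e => hz1 (Subtype.ext e), rfl⟩)
    hTF hP.pm hP.orth (av_M hG g hP.key) (θ₁ := θ₁) (θ₂ := θ₂) h1 h2 n1 n2 hdeg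
  obtain ⟨n₀, hn₀⟩ := ci_gen_int hF (IsGen.of_irr (isIrr_one (G := fittingHall M)))
  by_cases hlam : ∃ l : fittingHall M → ℂ, IsIrrCharacter (fittingHall M) l ∧ l 1 = 1 ∧ l ≠ (fun _ => 1)
  · obtain ⟨l₀, hl₀, hl₁, hl₂⟩ := hlam
    obtain ⟨n₁, hn₁⟩ := ci_gen_int hF (IsGen.of_irr hl₀)
    refine ⟨n₀ - n₁, ?_⟩
    intro inst v hv
    exact avg_derived hab (IsGen.isClass hF) (a := n₁) (b := ((n₀ - n₁ : ℤ) : ℂ)) (by rw [hn₀]; push_cast; ring) (by
      intro l hl h1 h2
      rw [← hn₁]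
      exact hlin l l₀ hl hl₀ h2 hl₂ (h1.trans hl₁.symm)) hv
  · refine ⟨n₀, ?_⟩
    intro inst v hv
    exact avg_derived hab (IsGen.isClass hF) (a := 0) (b := (n₀ : ℂ)) (by rw [hn₀]; ring) (by
      intro l hl h1 h2
      exact absurd ⟨l, hl, h1, h2⟩ hlam) hv

theorem map_comm (hG : IsMinSimpleOddOrder G) {M : Subgroup G} (hM : IsCoatom M) (hκ : kappa M = ∅) :
    ((commutator ↥(fittingHall M)).map (fittingHall M).subtype).map M.subtype = ⁅sigmaCore M, sigmaCore M⁆ := by
  rw [_root_.commutator_def, Subgroup.map_commutator, ← MonoidHom.range_eq_map, Subgroup.range_subtype, Subgroup.map_commutator,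
    ← fh_I hG hM hκ, fittingHallOf]

theorem no_GP (hG : IsMinSimpleOddOrder G) {M L : Subgroup G} {p : ℕ} {x y : G} (g : GP M L p x y) : False := by
  classical
  letI instM : Fintype M := Fintype.ofFinite M
  letI instL : Fintype L := Fintype.ofFinite L
  letI instK : Fintype (fittingHall M) := Fintype.ofFinite _
  letI instD : Fintype (commutator ↥(fittingHall M)) := Fintype.ofFinite _
  obtain ⟨ψ, c, hP⟩ := exists_PD hG g
  obtain ⟨b, hb⟩ := exists_b hG g hP
  set e := (sigmaCore L).relIndex L with he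
  set h := Nat.card (sigmaCore L) with hh
  set D := commutator ↥(fittingHall M) with hD
  have hmap := map_comm hG g.coM g.kM
  -- cardinalities
  have cL : Nat.card L = e * h := (H1.Basic.relIndex_mul_card (sigmaCore_le L)).symm
  have cM : Nat.card M = (sigmaCore M).relIndex M * Nat.card (sigmaCore M) := (H1.Basic.relIndex_mul_card (sigmaCore_le M)).symm
  have hDle : ⁅sigmaCore M, sigmaCore M⁆ ≤ sigmaCore M := comm_le_self _
  have cK : Nat.card (sigmaCore M) = (⁅sigmaCore M, sigmaCore M⁆).relIndex (sigmaCore M) * Nat.card ↥⁅sigmaCore M, sigmaCore M⁆ :=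
    (H1.Basic.relIndex_mul_card hDle).symm
  have cD : Nat.card D = Nat.card ↥⁅sigmaCore M, sigmaCore M⁆ := by
    rw [← hmap, Subgroup.card_map_of_injective M.subtype_injective, Subgroup.card_map_of_injective (fittingHall M).subtype_injective]
  have cV : Nat.card (fittingHall M) = Nat.card (sigmaCore M) := card_fh hG g.coM g.kM
  -- the inequality
  have hdisj : ∀ w : G, (∃ a ∈ tA L, ∃ u ∈ supportR L a, ∃ z : G, z * w * z⁻¹ = a * u) →
      (∃ a ∈ typeA1 M, ∃ u ∈ supportR M a, ∃ z : G, z * w * z⁻¹ = a * u) → False := by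
    rintro w ⟨a, ha, u, hu, z, hz⟩ ⟨a', ha', u', hu', z', hz'⟩
    have haL := (mem_tA_I hG g.coL g.kL).1 ha
    have ha2 := (tA_frob hG g.coL g.kL g.tL ⟨a, haL.1⟩).1 ha
    have ha3 := (mem_typeA1 hG (con16 hG) g.coM).1 ha'
    refine tilde_inter hG (H12.BG13.con13 hG) g.coL g.coM g.nc (w := w) ⟨a, ⟨(mem_fh hG g.coL g.kL).1 ha2.1, haL.2.1⟩, u, hu, z⁻¹, ?_⟩
      ⟨a', ha3, u', hu', z'⁻¹, ?_⟩
    · rw [← hz]; group
    · rw [← hz']; group
  have h2 := two_ineq (dadeN hG g.coL) (dadeN1 hG g.coM) hP.pm hdisj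
  rw [hP.norm] at h2
  have hcs := cs_avg (D := D) (F := fun v : fittingHall M => ψ ((v : M) : G)) (b := (b : ℝ)) (by
    intro v hv
    have := hb v hv
    push_cast
    exact this)
  have hS2 : ((Nat.card (fittingHall M) : ℝ) - Nat.card D) * (b : ℝ) ^ 2 ≤
      ∑ᶠ a ∈ {a : M | (a : G) ∈ typeA1 M}, ‖av (supportR M) ψ a‖ ^ 2 := by
    refine hcs.trans ?_
    have hsum : ∑ᶠ a ∈ {a : M | (a : G) ∈ typeA1 M}, ‖av (supportR M) ψ a‖ ^ 2 =
        ∑ a : M, (if (a : G) ∈ typeA1 M then ‖av (supportR M) ψ a‖ ^ 2 else 0) := by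
      rw [finsum_mem_eq_finite_toFinset_sum _ (Set.toFinite _), ← Finset.sum_filter]
      refine Finset.sum_congr ?_ fun _ _ => rfl
      ext u; simp
    rw [hsum]
    have h3 : ∑ v : fittingHall M, (if v ∈ D then (0 : ℝ) else ‖ψ ((v : M) : G)‖ ^ 2) ≤
        ∑ v : fittingHall M, (if ((v : M) : G) ∈ typeA1 M then ‖av (supportR M) ψ (v : M)‖ ^ 2 else 0) := by
      apply Finset.sum_le_sum
      intro v _
      by_cases hv : v ∈ D
      · rw [if_pos hv]
        split_ifs
        · exact sq_nonneg _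
        · exact le_rfl
      · have hv1 : (v : M) ≠ 1 := fun e => hv (by
          have : v = 1 := Subtype.ext e
          rw [this]; exact one_mem _)
        rw [if_neg hv, if_pos ((mem_typeA1 hG (con16 hG) g.coM).2 ⟨(mem_fh hG g.coM g.kM).1 v.2, fun e => hv1 (Subtype.ext e)⟩),
          av_M hG g hP.key v v.2 hv1]
    refine h3.trans ?_
    have h4 : ∑ v : fittingHall M, (if ((v : M) : G) ∈ typeA1 M then ‖av (supportR M) ψ (v : M)‖ ^ 2 else 0) =
        ∑ a ∈ (Finset.univ : Finset (fittingHall M)).map ⟨(fun v : fittingHall M => (v : M)), Subtype.val_injective⟩,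
          (if (a : G) ∈ typeA1 M then ‖av (supportR M) ψ a‖ ^ 2 else 0) := by
      rw [Finset.sum_map]
      rfl
    rw [h4]
    apply Finset.sum_le_sum_of_subset_of_nonneg (Finset.subset_univ _)
    intro a _ _
    split_ifs
    · exact sq_nonneg _
    · exact le_rfl
  have hcMpos : (0 : ℝ) < (Nat.card M : ℝ)⁻¹ := by
    have : (0 : ℝ) < Nat.card M := by exact_mod_cast Nat.card_pos
    positivity
  have h3 := mul_le_mul_of_nonneg_left hS2 hcMpos.le
  -- the congruence
  obtain ⟨𝔪, h𝔪⟩ := Cfsg.Agent.H10.BlockKn.exists_modular g.hp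
  haveI := h𝔪.2.1
  have hc1 := hP.cong 𝔪 h𝔪
  have hcong : MemLocalIdeal 𝔪 (ψ x - b) := by
    have hDn : (D.map (fittingHall M).subtype).Normal := by
      haveI : D.Characteristic := by rw [hD]; infer_instance
      exact ConjAct.normal_of_characteristic_of_normal
    letI instD' : Fintype ↥(D.map (fittingHall M).subtype) := Fintype.ofFinite _
    have hF' : IsGeneralizedCharacter M (fun v : M => ψ (v : G)) := IsGen.comp hP.pm.gen M.subtype
    have hyM : y ∈ M := sigmaCore_le M g.yM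
    have hyK : (⟨y, hyM⟩ : M) ∈ fittingHall M := (mem_fh hG g.coM g.kM).2 g.yM
    have hcomm : Commute (⟨x, g.xM⟩ : M) ⟨y, hyM⟩ := Subtype.ext g.xy.eq
    have h5 := avg_cong (D := D.map (fittingHall M).subtype) h𝔪 hF' hcomm ⟨1, by rw [pow_one]; exact (orderOf_mk x g.xM).trans g.xo⟩ (by
      intro hd
      have h6 : orderOf (⟨y, hyM⟩ : M) ∣ Nat.card (sigmaCore M) := by
        rw [orderOf_mk y hyM]
        exact Subgroup.orderOf_dvd_natCard _ g.yM
      exact g.pK (hd.trans h6))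
    have hcard : (Nat.card ↥(D.map (fittingHall M).subtype) : ℂ) ≠ 0 := by exact_mod_cast Nat.card_pos.ne'
    have hxK : (⟨x, g.xM⟩ : M) ∉ fittingHall M := by
      intro hx
      have hx' := (mem_fh hG g.coM g.kM).1 hx
      have h2 : orderOf x ∣ Nat.card (sigmaCore M) := Subgroup.orderOf_dvd_natCard _ hx'
      rw [g.xo] at h2
      exact g.pK h2
    have e1 : ∑ d : ↥(D.map (fittingHall M).subtype), ψ (((⟨x, g.xM⟩ : M) * ⟨y, hyM⟩ * d : M) : G) =
        Nat.card ↥(D.map (fittingHall M).subtype) * ψ x := by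
      rw [Finset.sum_congr rfl (g := fun _ => ψ x), Finset.sum_const, nsmul_eq_mul, Finset.card_univ, Nat.card_eq_fintype_card]
      intro d _
      have hdK : (d : M) ∈ fittingHall M := by
        obtain ⟨k, hk, hkd⟩ := d.2
        rw [← hkd]; exact k.2
      have hk : (⟨x, g.xM⟩ : M) * (⟨y, hyM⟩ * d) * (⟨x, g.xM⟩ : M)⁻¹ ∈ fittingHall M :=
        (inferInstance : (fittingHall M).Normal).conj_mem _ (mul_mem hyK hdK) _
      have h7 := hP.key M g.coM g.kM g.nc ⟨x, g.xM⟩ hxK _ hk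
      rw [← h7]
      congr 2
      group
    have e2 : ∑ d : ↥(D.map (fittingHall M).subtype), ψ (((⟨y, hyM⟩ : M) * d : M) : G) =
        Nat.card ↥(D.map (fittingHall M).subtype) * b := by
      have hyD : (⟨⟨y, hyM⟩, hyK⟩ : fittingHall M) ∉ D := by
        intro hc
        apply g.yD
        rw [← hmap]
        exact ⟨⟨y, hyM⟩, ⟨_, hc, rfl⟩, rfl⟩
      have h8 := hb _ hyD
      have h9 : Nat.card ↥(D.map (fittingHall M).subtype) = Nat.card D :=
        Subgroup.card_map_of_injective (fittingHall M).subtype_injective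
      rw [h9, ← h8]
      refine (Fintype.sum_equiv (D.equivMapOfInjective _ (fittingHall M).subtype_injective).toEquiv _ _ fun d => ?_).symm
      rfl
    have h10 : ∑ d : ↥(D.map (fittingHall M).subtype), (fun v : M => ψ (v : G)) ((⟨x, g.xM⟩ : M) * ⟨y, hyM⟩ * d) =
        Nat.card ↥(D.map (fittingHall M).subtype) * ψ x := e1
    have h11 : ∑ d : ↥(D.map (fittingHall M).subtype), (fun v : M => ψ (v : G)) ((⟨y, hyM⟩ : M) * d) =
        Nat.card ↥(D.map (fittingHall M).subtype) * b := e2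
    rw [h10, h11, inv_mul_cancel_left₀ hcard, inv_mul_cancel_left₀ hcard] at h5
    exact h5
  have hdvd : (p : ℤ) ∣ b - (e + c) := by
    rw [← ideal_intCast_iff h𝔪]
    have h6 := ideal_sub hc1 hcong
    have e1 : ψ x - ((e : ℂ) + c) - (ψ x - b) = ((b - (e + c) : ℤ) : ℂ) := by push_cast; ring
    rw [e1] at h6
    exact h6
  -- the contradiction
  have hpo : Odd p := Odd.of_dvd_nat (odd_card_subgroup hG _) g.pH
  have hep : e ∣ p - 1 ∨ (e ∣ p ^ 2 - 1 ∧ e ≤ p + 1) := by
    rcases g.ep with h7 | h7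
    · exact Or.inl h7
    · exact Or.inr h7.2
  have hp1 := g.hp.one_lt
  have he3 := g.e3
  have hlt : e + 1 ≤ p := by
    rcases g.ep with h7 | ⟨-, h7, h8⟩
    · have := Nat.le_of_dvd (by omega) h7
      omega
    · have h9 : e ≠ p := by
        intro h9
        rw [← he, h9] at h7
        have h10 : p ∣ p ^ 2 := dvd_pow_self p two_ne_zero
        have h11 : p ∣ p ^ 2 - (p ^ 2 - 1) := Nat.dvd_sub h10 h7
        have h12 : 0 < p ^ 2 := by positivity
        have h13 : p ^ 2 - (p ^ 2 - 1) = 1 := by omega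
        rw [h13] at h11
        exact absurd (Nat.dvd_one.1 h11) hp1.ne'
      have h10 : e ≠ p + 1 := by
        intro h10
        obtain ⟨a, ha⟩ := g.eodd
        obtain ⟨b, hb⟩ := hpo
        rw [← he] at ha
        omega
      rw [← he] at h8
      omega
  have hmpos : 0 < (sigmaCore M).relIndex M := Nat.pos_of_dvd_of_pos g.Edvd Nat.card_pos
  refine final_num (e := e) (h := h) (m := (sigmaCore M).relIndex M) (k' := Nat.card ↥⁅sigmaCore M, sigmaCore M⁆)
    (q := (⁅sigmaCore M, sigmaCore M⁆).relIndex (sigmaCore M)) (p := p) (b := b) (c := c) (by omega) hlt g.p2 hmpos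
    (Nat.le_of_dvd Nat.card_pos g.Edvd) Nat.card_pos (by have := g.q2; omega) ?_ ?_
  · intro hc0
    rw [hc0, add_zero] at hdvd
    exact numeric g.hp hpo he3 g.eodd hep g.q2 hdvd
  · have h12 : (Nat.card M : ℝ)⁻¹ * (((Nat.card (fittingHall M) : ℝ) - Nat.card D) * (b : ℝ) ^ 2) =
        (((sigmaCore M).relIndex M * ((⁅sigmaCore M, sigmaCore M⁆).relIndex (sigmaCore M) * Nat.card ↥⁅sigmaCore M, sigmaCore M⁆) : ℕ) : ℝ)⁻¹ *
          ((((⁅sigmaCore M, sigmaCore M⁆).relIndex (sigmaCore M) * Nat.card ↥⁅sigmaCore M, sigmaCore M⁆ : ℕ) : ℝ) - Nat.card ↥⁅sigmaCore M, sigmaCore M⁆) * (b : ℝ) ^ 2 := by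
      rw [← cK, ← cM, cV, cD]
      ring
    rw [← h12, ← cL]
    linarith

end

end Cfsg.Agent.H1.PF12
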