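import Mathlib
import Cfsg.Agent.H1_PF12k
import Cfsg.Agent.S1526

/-! Peterfalvi §12: S1540 and S1541 in the `TyI` language, modulo §10 and §11 -/

set_option autoImplicit false
set_option linter.all false

open Pointwise
open scoped commutatorElement

namespace Cfsg.Agent.H1.PF12

open Cfsg Subgroup Cfsg.Agent.H13.Syl Cfsg.Agent.H12.BG7 Cfsg.Agent.H12.BG10 Cfsg.Agent.H12.BG11 Cfsg.Agent.H12.BG12 Cfsg.Agent.H2.BG14
  Cfsg.Agent.H2.Con13 Cfsg.Agent.H12.Ty Cfsg.Agent.H12.BG157 Cfsg.Agent.H1.PG8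

universe u

section
variable {G : Type u} [Group G] [Finite G]

/-- contract with §10 and §11 -/
structure Con1011 (G : Type u) [Group G] : Prop where
  h5 : ∀ M : Subgroup G, IsCoatom M → ¬ IsOfTypeV M
  h34 : ∀ M W₁ U W₂ : Subgroup G, IsCoatom M → (IsOfTypeIII M ∨ IsOfTypeIV M) → IsTypePWith M W₁ U W₂ → IsCyclic U

/-- **(12.16)**: `τ₂(M)` is empty for `M` of type I -/
theorem tau2_empty (hG : IsMinSimpleOddOrder G) (hC : Con1011 G) {M : Subgroup G} (hM : IsCoatom M) (hκ : kappa M = ∅) : tau2 M = ∅ := by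
  by_contra hne
  haveI := Fintype.ofFinite G
  obtain ⟨M', L, p, x, y, g⟩ := exists_GP hG hC.h5 hC.h34 ⟨M, hM, hκ, Set.nonempty_iff_ne_empty.2 hne⟩
  exact no_GP hG g

/-- S1540 in the language of `TyI` -/
theorem main1540 (hG : IsMinSimpleOddOrder G) (hC : Con1011 G) (M : Subgroup G) (hM : IsCoatom M) (hI : TyI M) :
    ∀ x ∈ fittingHallOf M, x ≠ 1 → M ⊓ centralizer ({x} : Set G) ≤ fittingHallOf M := by
  have hκ := (H2.Ty.tyI_iff hG hM).1 hI
  intro x hx hx1
  rw [fh_I hG hM hκ] at hx ⊢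
  exact frob_of hG hM hκ (tau2_empty hG hC hM hκ) hx hx1

/-- if all maximal subgroups are of type I, centralizers are controlled -/
theorem cent_le_all (hG : IsMinSimpleOddOrder G) (hκ : ∀ M : Subgroup G, IsCoatom M → kappa M = ∅)
    (hτ : ∀ M : Subgroup G, IsCoatom M → tau2 M = ∅) {M : Subgroup G} (hM : IsCoatom M) {x : G} (hx : x ∈ typeA1 M) :
    centralizer ({x} : Set G) ≤ M := by
  rcases supportR_spec (con16 hG) hM (typeA_subset0 (typeA1_subset hG (con16 hG) hM hx)) with h | ⟨N, h⟩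
  · exact h.1
  · exfalso
    have hxN := (mem_tA_I hG h.co (hκ N h.co)).1 h.memA
    have h1 := (tA_frob hG h.co (hκ N h.co) (hτ N h.co) ⟨x, hxN.1⟩).1 h.memA
    exact h.not_memA1 ((mem_typeA1 hG (con16 hG) h.co).2 ⟨(mem_fh hG h.co (hκ N h.co)).1 h1.1, hxN.2.1⟩)

theorem conj_into (hG : IsMinSimpleOddOrder G) {w : G} {r : ℕ} (hr : r.Prime) (hw : orderOf w = r) :
    ∃ (M : Subgroup G) (z : G), IsCoatom M ∧ z * w * z⁻¹ ∈ sigmaCore M := by
  haveI := Fact.mk hr
  have hrG : r ∣ Nat.card G := by rw [← hw]; exact orderOf_dvd_natCard w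
  obtain ⟨M, hM, hrM⟩ := (Cfsg.Agent.S1378.result hG).1 r hr hrG
  obtain ⟨T, hT⟩ := exists_isSylIn (p := r) M
  obtain ⟨z, -, hz⟩ := (sigma_sylow_top hrM hT).1.exists_conj_le (A := zpowers w)
    (IsPGroup.of_card (n := 1) (by rw [Nat.card_zpowers, hw, pow_one])) le_top
  exact ⟨M, z, hM, sylow_le_sigmaCore hG hM hrM hT (hz (conj_mem_cj (mem_zpowers w)))⟩

/-- **(12.17)** -/
theorem not_all (hG : IsMinSimpleOddOrder G) (hκ : ∀ M : Subgroup G, IsCoatom M → kappa M = ∅)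
    (hτ : ∀ M : Subgroup G, IsCoatom M → tau2 M = ∅) : False := by
  classical
  let r : Setoid {M : Subgroup G // IsCoatom M} :=
    { r := fun M N => ∃ g : G, N.1 = cj g M.1
      iseqv := ⟨fun M => ⟨1, (cj_one _).symm⟩, by
        rintro M N ⟨g, hg⟩
        exact ⟨g⁻¹, by rw [hg, cj_inv_cj]⟩, by
        rintro M N P ⟨g, hg⟩ ⟨g', hg'⟩
        exact ⟨g' * g, by rw [hg', hg, cj_mul]⟩⟩ }
  haveI : Finite (Quotient r) := inferInstance
  letI : Fintype (Quotient r) := Fintype.ofFinite _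
  let L : Quotient r → Subgroup G := fun i => (Quotient.out i).1
  have hL : ∀ i, IsCoatom (L i) := fun i => (Quotient.out i).2
  have hnc : ∀ i j, i ≠ j → ∀ g : G, L j ≠ cj g (L i) := by
    intro i j hij g hg
    apply hij
    have h1 : r.r (Quotient.out i) (Quotient.out j) := ⟨g, hg⟩
    have h2 : (⟦Quotient.out i⟧ : Quotient r) = ⟦Quotient.out j⟧ := Quotient.sound h1
    rwa [Quotient.out_eq, Quotient.out_eq] at h2
  have hrep : ∀ M : Subgroup G, IsCoatom M → ∃ (i : Quotient r) (g : G), L i = cj g M := by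
    intro M hM
    refine ⟨⟦⟨M, hM⟩⟧, ?_⟩
    have h1 : r.r (Quotient.out (⟦⟨M, hM⟩⟧ : Quotient r)) ⟨M, hM⟩ := Quotient.exact (Quotient.out_eq _)
    obtain ⟨g, hg⟩ := r.iseqv.symm h1
    exact ⟨g, hg⟩
  have hσ : ∀ i j, i ≠ j → ∀ q, q ∈ sigma (L i) → q ∉ sigma (L j) := by
    intro i j hij q h1 h2
    obtain ⟨g, hg⟩ := (Cfsg.Agent.S1378.result hG).2 (L i) (L j) (hL i) (hL j) ⟨q, h1, h2⟩
    exact hnc i j hij g hg
  have hcent : ∀ i, ∀ x ∈ sigmaCore (L i), x ≠ 1 → centralizer ({x} : Set G) ≤ L i := by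
    intro i x hx hx1
    exact cent_le_all hG hκ hτ (hL i) ((mem_typeA1 hG (con16 hG) (hL i)).2 ⟨hx, hx1⟩)
  have hnorm : ∀ i, Subgroup.normalizer (sigmaCore (L i) : Set G) = L i := fun i =>
    normalizer_eq_of_normalized hG (hL i) (le_normalizer_sigmaCore _) (sigmaCore_le _) (sigmaCore_ne_bot hG (hL i))
  refine Cfsg.Agent.S1526.result hG.1 (ι := Quotient r) ?_ L (fun i => sigmaCore (L i)) (fun i => sigmaCore_ne_top' hG (hL i))
    (fun i => sigmaCore_ne_bot hG (hL i)) ?_ ?_ ?_ ?_ ?_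
  · -- at least two classes
    rw [← Nat.card_eq_fintype_card]
    haveI : Nontrivial (Quotient r) := by
      haveI : IsSimpleGroup G := hG.2.1
      haveI : Nontrivial G := inferInstance
      obtain ⟨p, hp, hpd⟩ := Nat.exists_prime_and_dvd (n := Nat.card G) (Finite.one_lt_card (α := G)).ne'
      obtain ⟨M, hM, -⟩ := (Cfsg.Agent.S1378.result hG).1 p hp hpd
      have h1 : (sigmaCore M).relIndex M ≠ 1 := fun h => (sigmaCore_ne_top' hG hM).not_ge (Subgroup.relIndex_eq_one.1 h)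
      obtain ⟨q, hq, hqd⟩ := Nat.exists_prime_and_dvd h1
      have hqσ : q ∉ sigma M := by
        obtain ⟨E, -, hE⟩ := exists_E hG hM (K := ⊥) bot_le (by
          intro p hp hd
          rw [Subgroup.card_bot] at hd
          exact absurd (Nat.dvd_one.1 hd) hp.one_lt.ne')
        have c1 := H12.Core.IsComplIn_card hE
        have c2 : (sigmaCore M).relIndex M * Nat.card (sigmaCore M) = Nat.card M := H1.Basic.relIndex_mul_card (sigmaCore_le M)
        have c3 : (sigmaCore M).relIndex M = Nat.card E := Nat.eq_of_mul_eq_mul_right Nat.card_pos (c2.trans c1.symm)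
        rw [c3] at hqd
        exact (compl_sigmaC hG hM hE) q hq hqd
      have hqG : q ∣ Nat.card G := by
        have c2 : (sigmaCore M).relIndex M * Nat.card (sigmaCore M) = Nat.card M := H1.Basic.relIndex_mul_card (sigmaCore_le M)
        exact hqd.trans ((Dvd.intro _ c2).trans (Subgroup.card_subgroup_dvd_card M))
      obtain ⟨N, hN, hqN⟩ := (Cfsg.Agent.S1378.result hG).1 q hq hqG
      refine ⟨⟦⟨M, hM⟩⟧, ⟦⟨N, hN⟩⟧, fun h => ?_⟩
      obtain ⟨g, hg⟩ := Quotient.exact h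
      apply hqσ
      have hg' : N = cj g M := hg
      rw [hg'] at hqN
      exact (sigma_cj g q).1 hqN
    exact Finite.one_lt_card
  · intro i x hx h hh
    exact (mem_normalizer_iff.1 (le_normalizer_sigmaCore (L i) hx) h).1 hh
  · intro i h hh hh1
    exact frob_of hG (hL i) (hκ _ (hL i)) (hτ _ (hL i)) hh hh1
  · intro i j hij
    apply coprime_of_forall
    intro q hq h1 h2
    exact hσ i j hij q (sigmaCore_pi _ q hq h1) (sigmaCore_pi _ q hq h2)
  · intro i
    refine ⟨?_, hnorm i⟩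
    intro g hg x hx hgx
    by_contra hx1
    have hA1 : x ∈ typeA1 (L i) := (mem_typeA1 hG (con16 hG) (hL i)).2 ⟨hx, hx1⟩
    have hA2 : g * x * g⁻¹ ∈ typeA1 (L i) := (mem_typeA1 hG (con16 hG) (hL i)).2 ⟨hgx, by rwa [Ne, conj_eq_one_iff]⟩
    have hti := ti_of_cent hG (con16 hG) (hL i) (Or.inl rfl) (fun x hx => cent_le_all hG hκ hτ (hL i) hx)
    rw [hnorm i] at hg
    exact hx1 (hti.1 g (by rw [hti.2]; exact hg) x hA1 hA2)
  · intro g hg1
    obtain ⟨q, hq, hqd, w, hw, hwo⟩ := exists_prime_pow hg1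
    obtain ⟨M, z, hM, hz⟩ := conj_into hG hq hwo
    obtain ⟨i, t, ht⟩ := hrep M hM
    refine ⟨i, t * z, ?_⟩
    have hw1 : w ≠ 1 := by
      rintro rfl
      rw [orderOf_one] at hwo
      exact hq.one_lt.ne hwo
    have hw2 : (t * z) * w * (t * z)⁻¹ ∈ sigmaCore (L i) := by
      have h1 : t * (z * w * z⁻¹) * t⁻¹ ∈ cj t (sigmaCore M) := conj_mem_cj hz
      rw [sc_cj, ← ht] at h1
      have e : (t * z) * w * (t * z)⁻¹ = t * (z * w * z⁻¹) * t⁻¹ := by group
      rw [e]; exact h1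
    have hw3 : (t * z) * w * (t * z)⁻¹ ≠ 1 := by rwa [Ne, conj_eq_one_iff]
    have hcomm : (t * z) * g * (t * z)⁻¹ * ((t * z) * w * (t * z)⁻¹) = (t * z) * w * (t * z)⁻¹ * ((t * z) * g * (t * z)⁻¹) := by
      have h2 : g * w = w * g := by
        obtain ⟨k, rfl⟩ := mem_zpowers_iff.1 hw
        exact ((Commute.refl g).zpow_right k).eq
      calc (t * z) * g * (t * z)⁻¹ * ((t * z) * w * (t * z)⁻¹) = (t * z) * (g * w) * (t * z)⁻¹ := by group
        _ = (t * z) * (w * g) * (t * z)⁻¹ := by rw [h2]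
        _ = _ := by group
    have hgc : (t * z) * g * (t * z)⁻¹ ∈ centralizer ({(t * z) * w * (t * z)⁻¹} : Set G) := mem_centralizer_singleton_iff.2 hcomm
    exact frob_of hG (hL i) (hκ _ (hL i)) (hτ _ (hL i)) hw2 hw3 (mem_inf.2 ⟨hcent i _ hw2 hw3 hgc, hgc⟩)

/-- S1541 in the language of `TyI` / `κ` -/
theorem main1541 (hG : IsMinSimpleOddOrder G) (hC : Con1011 G) : ∃ M : Subgroup G, IsCoatom M ∧ ¬ TyI M := by
  by_contra hcon
  push Not at hcon
  have hκ : ∀ M : Subgroup G, IsCoatom M → kappa M = ∅ := fun M hM => (H2.Ty.tyI_iff hG hM).1 (hcon M hM)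
  exact not_all hG hκ (fun M hM => tau2_empty hG hC hM (hκ M hM))

end

end Cfsg.Agent.H1.PF12
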