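import Mathlib
import Cfsg.Agent.H1_PF12l
import Cfsg.Agent.H10_Sib2

/-! Peterfalvi §12: coherence for all maximal subgroups of type I (S1542 in the `TyI` language) -/

set_option autoImplicit false
set_option linter.all false

open Pointwise
open scoped commutatorElement

namespace Cfsg.Agent.H1.PF12

open Cfsg Subgroup Cfsg.Agent.H13.Syl Cfsg.Agent.H12.BG7 Cfsg.Agent.H12.BG10 Cfsg.Agent.H12.BG11 Cfsg.Agent.H12.BG12 Cfsg.Agent.H2.BG14
  Cfsg.Agent.H2.Con13 Cfsg.Agent.H12.Ty Cfsg.Agent.H12.BG157 Cfsg.Agent.H1.PG8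
open Cfsg.Agent.H3.CharBasic Cfsg.Agent.H3.CharIrr Cfsg.Agent.H3.CharComplete Cfsg.Agent.H3.CharInd

universe u

section DI
variable {G : Type*} [Group G] [Fintype G] {L : Subgroup G} {A : Set G} {R : G → Subgroup G}

/-- when all supports are trivial the Dade map is induction -/
theorem dade_eq_ind (hD : DadeHypothesis A L R) (hc : ∀ a ∈ A, centralizer ({a} : Set G) ≤ L) {α : L → ℂ} (hα : IsClassFunction L α)
    (hαA : ∀ x : L, (x : G) ∉ A → α x = 0) : dadeIsometry A L R α = indFun L α := by
  classical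
  have hR : ∀ a ∈ A, R a = ⊥ := by
    intro a ha
    rw [← hD.inf_eq_bot a ha]
    have h1 := hD.le_centralizer a ha
    exact (inf_eq_left.2 (le_inf (h1.trans (hc a ha)) h1)).symm
  funext g
  rw [dadeIsometry]
  split_ifs with h
  · obtain ⟨ha, x, u, hu, hx⟩ := Classical.choose_spec h
    set a := Classical.choose h with hadef
    rw [hR _ ha, mem_bot] at hu
    subst hu
    rw [mul_one] at hx
    have hg : g = x⁻¹ * a * x := by rw [← hx]; group
    have hcard : (Nat.card L : ℂ) ≠ 0 := by exact_mod_cast Nat.card_pos.ne'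
    rw [indFun, eq_inv_mul_iff_mul_eq₀ hcard]
    have h1 : ∑ z : G, extendByZero L α (z⁻¹ * g * z) = ∑ t : G, extendByZero L α (t⁻¹ * a * t) := by
      refine Fintype.sum_equiv (Equiv.mulLeft x) _ _ fun z => ?_
      simp only [Equiv.coe_mulLeft]
      rw [hg]
      congr 1
      group
    have h2 : ∀ t : G, extendByZero L α (t⁻¹ * a * t) = if t ∈ L then α a else 0 := by
      intro t
      by_cases ht : t ∈ L
      · have h3 := hα a (⟨t, ht⟩⁻¹ : L)
        have h4 : extendByZero L α (t⁻¹ * a * t) = α (⟨t, ht⟩⁻¹ * a * (⟨t, ht⟩⁻¹ : L)⁻¹) := by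
          have h5 : (t⁻¹ * a * t : G) = ((⟨t, ht⟩⁻¹ * a * (⟨t, ht⟩⁻¹ : L)⁻¹ : L) : G) := by simp
          rw [h5, extendByZero, Subtype.val_injective.extend_apply]
        rw [if_pos ht, h4, h3]
      · rw [if_neg ht]
        by_cases h3 : t⁻¹ * a * t ∈ L
        · have h7 : extendByZero L α (t⁻¹ * a * t) = α ⟨t⁻¹ * a * t, h3⟩ :=
            Subtype.val_injective.extend_apply α 0 (⟨t⁻¹ * a * t, h3⟩ : L)
          rw [h7]
          apply hαA
          intro h4
          obtain ⟨l, hl, hle⟩ := hD.fusion a ha t⁻¹ (by rw [inv_inv]; exact h4)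
          apply ht
          have h5 : t * l ∈ centralizer ({(a : G)} : Set G) := by
            rw [mem_centralizer_singleton_iff]
            rw [inv_inv] at hle
            calc t * l * a = t * (l * a * l⁻¹) * l := by group
              _ = t * (t⁻¹ * a * t) * l := by rw [hle]
              _ = _ := by group
          have h6 := L.mul_mem (hc a ha h5) (L.inv_mem hl)
          rwa [mul_inv_cancel_right] at h6
        · exact Function.extend_apply' _ _ _ (by rintro ⟨y, hy⟩; exact h3 (hy ▸ y.2))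
    rw [h1, Finset.sum_congr rfl (fun t _ => h2 t), ← Finset.sum_filter, Finset.sum_const, nsmul_eq_mul]
    congr 1
    rw [Nat.card_eq_fintype_card, Fintype.card_subtype]
  · rw [indFun, Finset.sum_eq_zero, mul_zero]
    intro z _
    by_cases h3 : z⁻¹ * g * z ∈ L
    · have h7 : extendByZero L α (z⁻¹ * g * z) = α ⟨z⁻¹ * g * z, h3⟩ :=
        Subtype.val_injective.extend_apply α 0 (⟨z⁻¹ * g * z, h3⟩ : L)
      rw [h7]
      apply hαA
      intro h4
      apply h
      exact ⟨⟨_, h3⟩, h4, z⁻¹, 1, one_mem _, by rw [mul_one, inv_inv]⟩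
    · exact Function.extend_apply' _ _ _ (by rintro ⟨y, hy⟩; exact h3 (hy ▸ y.2))

end DI

section Main
variable {G : Type u} [Group G] [Fintype G]

theorem fh_eq_sub (hG : IsMinSimpleOddOrder G) {L : Subgroup G} (hL : IsCoatom L) (hκ : kappa L = ∅) :
    (sigmaCore L).subgroupOf L = fittingHall L := by
  ext x
  exact (mem_fh hG hL hκ).symm

/-- **S1542** in the `TyI` language, for Frobenius `L` -/
theorem coh_frob (hG : IsMinSimpleOddOrder G) {L : Subgroup G} [Fintype L] (hL : IsCoatom L) (hκ : kappa L = ∅) (ht : tau2 L = ∅) :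
    IsCoherent (inducedIrrAbove (fittingHall L) ⊥) {1}ᶜ (dadeIsometry (tA L) L (supportR L)) := by
  classical
  have hX := calX_eq (K := fittingHall L) (cent_fh hG hL hκ ht)
  rcases ti_or hG hL with hTI | ⟨g, x, p, hNT⟩
  · have hnorm : normalizer (sigmaCore L : Set G) = L :=
      normalizer_eq_of_normalized hG hL (le_normalizer_sigmaCore _) (sigmaCore_le _) (sigmaCore_ne_bot hG hL)
    have hle : sigmaCore L ≤ fittingOf L := by
      rw [← fh_I hG hL hκ]; exact H12.Core.fittingHallOf_le_fittingOf L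
    have hnF : normalizer (fittingOf L : Set G) = L := norm_fitting hG hL
    have hti : IsTISubset (sigmaCore L : Set G) := by
      intro g hg x hx hgx
      refine hTI g ?_ x (hle hx) (hle hgx)
      rw [hnF, ← hnorm]; exact hg
    have hcoh := Cfsg.Agent.H10.Sib2.sibley_odd (odd_card_subgroup hG L) (sigmaCore_ne_top' hG hL) (sigmaCore_ne_bot hG hL)
      (H12.D16.fh_of_kappa_empty hG hL hκ).2 (fun h hh hh1 => frob_of hG hL hκ ht hh hh1) hti hnorm
    rw [fh_eq_sub hG hL hκ] at hcoh
    obtain ⟨h1, τ₁, h2, h3⟩ := hcoh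
    refine ⟨h1, τ₁, h2, fun α hα => ?_⟩
    rw [h3 α hα]
    symm
    have hα' : α ∈ zspanOn (calX (fittingHall L)) {1}ᶜ := by rw [hX]; exact hα
    apply dade_eq_ind (dadeN hG hL) ?_ (IsGen.isClass (X_gen hα')) (X_off (offA hG hL hκ) hα')
    intro a ha
    have haL := (mem_tA_I hG hL hκ).1 ha
    have ha2 := (tA_frob hG hL hκ ht ⟨a, haL.1⟩).1 ha
    exact cent_le_of_ti hG hL hTI (hle ((mem_fh hG hL hκ).1 ha2.1)) haL.2.1
  · rw [← hX]
    apply coh_of hG hL hκ ht
    rintro ⟨r, hr, ⟨m, hm⟩, hna, hlen⟩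
    haveI := Fact.mk hr
    haveI := Fact.mk hNT.hp
    obtain ⟨P, hP⟩ := exists_isSylIn (p := p) (sigmaCore L)
    by_cases hPab : IsMulCommutative P
    · have hab := (hNT.abel hG hP hPab).1
      rw [fh_I hG hL hκ] at hab
      apply hna
      refine ⟨⟨fun a b => ?_⟩⟩
      have h1 := hab.is_comm.comm (⟨((a : L) : G), (mem_fh hG hL hκ).1 a.2⟩ : sigmaCore L) ⟨((b : L) : G), (mem_fh hG hL hκ).1 b.2⟩
      have h2 : ((a : L) : G) * ((b : L) : G) = ((b : L) : G) * ((a : L) : G) := congrArg Subtype.val h1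
      exact Subtype.ext (Subtype.ext h2)
    · obtain ⟨EL, -, hEL⟩ := exists_E hG hL (K := ⊥) bot_le (by
        intro p hp hd
        rw [Subgroup.card_bot] at hd
        exact absurd (Nat.dvd_one.1 hd) hp.one_lt.ne')
      have hrσ : r ∈ sigma L := by
        apply sigmaCore_pi L r hr
        rw [← card_fh hG hL hκ, hm]
        refine dvd_pow_self r ?_
        rintro rfl
        rw [pow_zero] at hm
        exact fh_ne_bot hG hL hκ (Subgroup.card_eq_one.1 hm)
      have hexp := hNT.expo hG hP hPab hκ hEL hrσ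
      haveI : IsZGroup EL := isZGroup_of_rankLE_one hG (rank_one hG hL ht hEL)
      rw [IsZGroup.exponent_eq_card] at hexp
      have hcL := H12.Core.IsComplIn_card hEL
      have hcL' : (sigmaCore L).relIndex L * Nat.card (sigmaCore L) = Nat.card L := H1.Basic.relIndex_mul_card (sigmaCore_le L)
      have he : (sigmaCore L).relIndex L = Nat.card EL := Nat.eq_of_mul_eq_mul_right Nat.card_pos (hcL'.trans hcL.symm)
      have h2 := Cfsg.Agent.H3.P4.index_commutator_ge (p := r) (P := fittingHall L) (IsPGroup.of_card hm) (by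
        intro hc
        exact hna ⟨⟨hc⟩⟩)
      rw [comm_subgroupOf, index_fh hG hL hκ, he] at hlen
      have h3 := h2.trans hlen
      have h4 : Odd (Nat.card EL) := odd_card_subgroup hG EL
      have hpo : Odd r := by
        have : r ∣ Nat.card L := (Subgroup.card_mul_index (fittingHall L)) ▸ (by
          rw [hm]
          refine Dvd.dvd.mul_right (dvd_pow_self r ?_) _
          rintro rfl
          rw [pow_zero] at hm
          exact fh_ne_bot hG hL hκ (Subgroup.card_eq_one.1 hm))
        exact Odd.of_dvd_nat (odd_card_subgroup hG L) this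
      have hp1 := hr.one_lt
      obtain ⟨k, hk⟩ := hexp
      obtain ⟨a, ha⟩ := h4
      obtain ⟨b, hb⟩ := hpo
      set e := Nat.card EL with hedef
      have hk2 : 2 ≤ k := by
        rcases Nat.lt_or_ge k 2 with h5 | h5
        · exfalso
          interval_cases k
          · omega
          · omega
        · exact h5
      have h6 : e * 2 ≤ e * k := Nat.mul_le_mul_left e hk2
      have h7 : 2 * e + 1 ≤ r := by omega
      have h8 : (2 * e + 1) ^ 2 ≤ r ^ 2 := Nat.pow_le_pow_left h7 2
      have h9 : 0 < e := Nat.card_pos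
      nlinarith

/-- **S1542** in the `TyI` language -/
theorem main1542 (hG : IsMinSimpleOddOrder G) (hC : Con1011 G) (L : Subgroup G) [Fintype L] (hL : IsCoatom L) (hI : TyI L) :
    (∀ χ ∈ inducedIrrAbove (fittingHall L) ⊥, IsIrrCharacter L χ) ∧
      IsCoherent (inducedIrrAbove (fittingHall L) ⊥) {1}ᶜ (dadeIsometry (tA L) L (supportR L)) := by
  have hκ := (H2.Ty.tyI_iff hG hL).1 hI
  have ht := tau2_empty hG hC hL hκ
  refine ⟨fun χ hχ => ?_, coh_frob hG hL hκ ht⟩
  rw [← calX_eq (K := fittingHall L) (cent_fh hG hL hκ ht)] at hχ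
  exact hχ.1

end Main

end Cfsg.Agent.H1.PF12
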