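import Mathlib
import Cfsg.Agent.H10_PrD8
import Cfsg.Agent.H10_Sib2
import Cfsg.Agent.H10_IndSet7

/-!
H27_PV1: type V coherence: Frobenius quotients in the prime TI setting, the coherence system on
`inducedIrrAbove K ⊥`, reduction to `p`-groups.
-/

set_option autoImplicit false
set_option linter.style.haveILetI false
set_option linter.unusedSectionVars false

namespace Cfsg.Agent.H27.PV1

open Cfsg Cfsg.Agent.H3.CharIrr Cfsg.Agent.H3.CharComplete Cfsg.Agent.H3.CharInd Cfsg.Agent.H3.CharMult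
  Cfsg.Agent.H3.CharBasic Cfsg.Agent.H3.CharCalc Cfsg.Agent.H3.Clifford Cfsg.Agent.H3.CharInt Cfsg.Agent.H3.CharQuot
  Cfsg.Agent.H10.CycTI Cfsg.Agent.H10.CycTI2 Cfsg.Agent.H10.CycTI3 Cfsg.Agent.H10.CycTI4 Cfsg.Agent.H10.PrD2
  Cfsg.Agent.H10.PrD3 Cfsg.Agent.H10.PrD4 Cfsg.Agent.H10.PrD5 Cfsg.Agent.H10.Dade Cfsg.Agent.H10.PM Cfsg.Agent.H10.Coh
  Cfsg.Agent.H10.Coh2 Cfsg.Agent.H10.Coh3 Cfsg.Agent.H10.Coh4 Cfsg.Agent.H10.IndSet2 Cfsg.Agent.H10.IndSet3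
  Cfsg.Agent.H10.IndSet6 Cfsg.Agent.H10.OOClif Cfsg.Agent.H10.PrD6
  Cfsg.Agent.H10.PrD7 Cfsg.Agent.H10.PrD8
open scoped ComplexConjugate

section PTs

variable {G : Type*} [Group G] [Finite G] {L : Subgroup G} {K : Subgroup L} {W₁ W₂ : Subgroup G} (h : PT L K W₁ W₂)
include h

/-- an element outside `K` is conjugate to `a * b`, `a ∈ W₁`, `a ≠ 1`, `b ∈ W₂` -/
theorem conj_ab {x : L} (hx : x ∉ K) : ∃ y a b : L, (a : G) ∈ W₁ ∧ a ≠ 1 ∧ (b : G) ∈ W₂ ∧ y * x * y⁻¹ = a * b := by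
  obtain ⟨y, w, hw, hw2, e⟩ := conj_W h hx
  obtain ⟨b, hb, a, ha, hab⟩ := mem_sup_of_norm (H := W₂) (K := W₁) (fun k hk h' hh => by
    have h1 : k * h' = h' * k := h.self.2.2.2.1 k hk h' hh
    rw [h1]; simpa using hh) (by rwa [sup_comm] at hw : (w : G) ∈ W₂ ⊔ W₁)
  have h1 : a * b = b * a := h.self.2.2.2.1 a ha b hb
  refine ⟨y, ⟨a, h.W₁_le ha⟩, ⟨b, h.W₂_le hb⟩, ha, ?_, hb, ?_⟩
  · intro h2
    have h3 : a = 1 := congrArg Subtype.val h2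
    rw [h3, mul_one] at hab
    exact hw2 (hab ▸ hb)
  · rw [e]
    apply Subtype.ext
    show (w : G) = a * b
    rw [h1, hab]

theorem cop_of {N : Subgroup L} (hNK : N ≤ K) {a : L} (ha : (a : G) ∈ W₁) : Nat.Coprime (orderOf a) (Nat.card N) := by
  refine Nat.Coprime.coprime_dvd_left ?_ (Nat.Coprime.coprime_dvd_right (Subgroup.card_dvd_of_le hNK) h.hall)
  have h1 := orderOf_dvd_natCard (⟨(a : G), ha⟩ : W₁)
  rw [Subgroup.orderOf_mk] at h1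
  rwa [← Subgroup.orderOf_coe]

/-- coprime action: fixed points in a quotient come from fixed points -/
theorem fix_lift {N : Subgroup L} [hN : N.Normal] (hNK : N ≤ K) {a k : L} (ha : (a : G) ∈ W₁) (ha1 : a ≠ 1) (hk : k ∈ K)
    (hc : a * k * a⁻¹ * k⁻¹ ∈ N) : ∃ n ∈ N, (n * k) ∈ W₂.subgroupOf L := by
  have hcop := cop_of h hNK ha
  have h1 : k * a * k⁻¹ * a⁻¹ ∈ N := by
    have h2 := N.inv_mem hc
    have h3 : (a * k * a⁻¹ * k⁻¹)⁻¹ = k * a * k⁻¹ * a⁻¹ := by group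
    rwa [h3] at h2
  obtain ⟨n, hn, c, hc', hca, e⟩ := Cfsg.Agent.H10.OOGrp.coset_conj (H := N) (g := a) (by
    rw [Subgroup.normalizer_eq_top]; exact Subgroup.mem_top _) hcop h1
  have e2 : (n * k) * a * (n * k)⁻¹ = c * a := by
    rw [← e]; group
  have hc1 : c = 1 := by
    have hcomm : Commute c a := hca
    have h4 : (c * a) ^ orderOf a = 1 := by
      rw [← e2, conj_pow, pow_orderOf_eq_one]; group
    rw [hcomm.mul_pow, pow_orderOf_eq_one, mul_one] at h4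
    have h5 : orderOf c ∣ orderOf a := orderOf_dvd_of_pow_eq_one h4
    have h6 : orderOf c ∣ Nat.card N := by
      have := orderOf_dvd_natCard (⟨c, hc'⟩ : N)
      rwa [Subgroup.orderOf_mk] at this
    have h7 : orderOf c ∣ 1 := by
      have := Nat.dvd_gcd h5 h6
      rwa [hcop] at this
    exact orderOf_eq_one_iff.1 (Nat.dvd_one.1 h7)
  rw [hc1, one_mul] at e2
  refine ⟨n, hn, ?_⟩
  rw [← h.cent a ha ha1]
  refine ⟨K.mul_mem (hNK hn) hk, Subgroup.mem_centralizer_singleton_iff.2 ?_⟩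
  exact mul_inv_eq_iff_eq_mul.1 e2

/-- `L / N` is a Frobenius group with kernel `K / N` when `W₂ ≤ N` -/
theorem frobQ {N : Subgroup L} [hN : N.Normal] (hNK : N ≤ K) (hW : W₂.subgroupOf L ≤ N) :
    ∀ k ∈ K, k ∉ N → ∀ x : L, x * k * x⁻¹ * k⁻¹ ∈ N → x ∈ K := by
  intro k hk hkN x hx
  by_contra hxK
  haveI := h.normal
  obtain ⟨y, a, b, ha, ha1, hb, e⟩ := conj_ab h hxK
  have hbN : b ∈ N := hW hb
  set k' := y * k * y⁻¹ with hk'
  have hk'K : k' ∈ K := h.normal.conj_mem k hk y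
  have hk'N : k' ∉ N := by
    intro h1
    apply hkN
    have := hN.conj_mem _ h1 y⁻¹
    have e1 : y⁻¹ * k' * y⁻¹⁻¹ = k := by rw [hk']; group
    rwa [e1] at this
  have h2 : (a * b) * k' * (a * b)⁻¹ * k'⁻¹ ∈ N := by
    have := hN.conj_mem _ hx y
    have e1 : y * (x * k * x⁻¹ * k⁻¹) * y⁻¹ = (y * x * y⁻¹) * k' * (y * x * y⁻¹)⁻¹ * k'⁻¹ := by rw [hk']; group
    rwa [e1, e] at this
  have h3 : a * k' * a⁻¹ * k'⁻¹ ∈ N := by
    -- a k' a⁻¹ k'⁻¹ = (ab) k' (ab)⁻¹ k'⁻¹ * (k' (a b)(k'⁻¹ b⁻¹ k' ... ) )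
    have h4 : a * (b * k' * b⁻¹ * k'⁻¹) * a⁻¹ ∈ N := by
      apply hN.conj_mem
      have h5 : b * (k' * b⁻¹ * k'⁻¹) ∈ N := N.mul_mem hbN (hN.conj_mem _ (N.inv_mem hbN) k')
      have e1 : b * k' * b⁻¹ * k'⁻¹ = b * (k' * b⁻¹ * k'⁻¹) := by group
      rwa [e1]
    have e2 : a * k' * a⁻¹ * k'⁻¹ = (a * (b * k' * b⁻¹ * k'⁻¹) * a⁻¹)⁻¹ * ((a * b) * k' * (a * b)⁻¹ * k'⁻¹) := by group
    rw [e2]
    exact N.mul_mem (N.inv_mem h4) h2
  obtain ⟨n, hn, hnk⟩ := fix_lift h hNK ha ha1 hk'K h3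
  apply hk'N
  have h5 := N.mul_mem (N.inv_mem hn) (hW hnk)
  rwa [inv_mul_cancel_left] at h5

end PTs

section Tr

variable {L : Type*} [Group L] [Fintype L] {G : Type*} [Group G] [Fintype G]

theorem sys_congr {S : Set (L → ℂ)} {τ τ' : (L → ℂ) → (G → ℂ)} {R : (L → ℂ) → Finset (G → ℂ)} (hS : IsCoherenceSystem S τ R)
    (he : ∀ α ∈ zspanOn S {1}ᶜ, τ' α = τ α) : IsCoherenceSystem S τ' R where
  nonempty := hS.nonempty
  isCharacter := hS.isCharacter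
  conj_mem := hS.conj_mem
  conj_ne := hS.conj_ne
  isometry := by
    obtain ⟨h1, h2, h3, h4⟩ := hS.isometry
    refine ⟨fun α hα β hβ => ?_, fun α hα n => ?_, fun α hα β hβ => ?_, fun α hα => ?_⟩
    · rw [he _ (zo_add hα hβ), he _ hα, he _ hβ, h1 _ hα _ hβ]
    · rw [he _ (zo_zsmul n hα), he _ hα, h2 _ hα]
    · rw [he _ hα, he _ hβ, h3 _ hα _ hβ]
    · rw [he _ hα]; exact h4 _ hα
  map_one := fun α hα => by rw [he _ hα]; exact hS.map_one α hα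
  orthogonal := hS.orthogonal
  orthonormal := hS.orthonormal
  virtual := hS.virtual
  sum_eq := fun χ hχ => by rw [he _ (diff_mem hS hχ)]; exact hS.sum_eq χ hχ
  disjoint := hS.disjoint

theorem coh_congr {S : Set (L → ℂ)} {τ τ' : (L → ℂ) → (G → ℂ)} (hS : IsCoherent S {1}ᶜ τ)
    (he : ∀ α ∈ zspanOn S {1}ᶜ, τ' α = τ α) : IsCoherent S {1}ᶜ τ' := by
  obtain ⟨h0, τ₁, h1, h2⟩ := hS
  exact ⟨h0, τ₁, h1, fun α hα => by rw [h2 α hα, he α hα]⟩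

end Tr

theorem indD_eq {L : Type*} [Group L] [Fintype L] (K : Subgroup L) : indD K K ⊥ = inducedIrrAbove K ⊥ := by
  ext χ
  constructor
  · rintro ⟨θ, hθ, ⟨k, -, hk⟩, h2, rfl⟩
    refine ⟨θ, hθ, ?_, h2, rfl⟩
    rintro rfl
    exact hk rfl
  · rintro ⟨θ, hθ, h1, h2, rfl⟩
    refine ⟨θ, hθ, ?_, h2, rfl⟩
    by_contra hc
    push Not at hc
    apply h1
    have h3 := IsIrr.isClass hθ
    -- θ is constant, so the trivial character
    haveI := Fintype.ofFinite K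
    have h4 : ∀ k : K, θ k = θ 1 := fun k => hc k k.2
    have h5 : θ = θ 1 • (fun _ => (1 : ℂ)) := by
      funext k
      rw [Pi.smul_apply, smul_eq_mul, mul_one, h4 k]
    by_contra hne
    have h6 : classInner θ (fun _ => 1) = 0 := ci_irr_ne hθ isIrr_one hne
    rw [h5, ci_smul_left, ci_irr_self isIrr_one, mul_one] at h6
    exact IsIrr.one_ne_zero hθ h6

end Cfsg.Agent.H27.PV1
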