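import Mathlib
import Cfsg.Agent.H27_PV1

/-!
H27_PV2: type V coherence: averaging over the characters nontrivial on a central subgroup.
-/

set_option autoImplicit false
set_option linter.style.haveILetI false
set_option linter.unusedSectionVars false

namespace Cfsg.Agent.H27.PV2

open Cfsg Cfsg.Agent.H3.CharIrr Cfsg.Agent.H3.CharComplete Cfsg.Agent.H3.CharInd Cfsg.Agent.H3.CharMult
  Cfsg.Agent.H3.CharBasic Cfsg.Agent.H3.CharCalc Cfsg.Agent.H3.Clifford Cfsg.Agent.H3.CharInt Cfsg.Agent.H3.CharQuot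
  Cfsg.Agent.H10.PM Cfsg.Agent.H10.Coh
  Cfsg.Agent.H10.Coh2 Cfsg.Agent.H10.Coh3 Cfsg.Agent.H10.Coh4 Cfsg.Agent.H10.IndSet2 Cfsg.Agent.H10.IndSet3
  Cfsg.Agent.H10.IndSet6 Cfsg.Agent.H10.IndSet7 Cfsg.Agent.H10.OOClif Cfsg.Agent.H10.Sib Cfsg.Agent.H10.Sib2
open scoped ComplexConjugate

section One

variable {K : Type*} [Group K] [Fintype K]

open Classical in
theorem sumZ {Z : Subgroup K} (hZ : Z ≤ Subgroup.center K) {θ : K → ℂ} (hθ : IsIrrCharacter K θ) :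
    ∑ z : Z, θ z = if (∀ z ∈ Z, θ z = θ 1) then (Nat.card Z : ℂ) * θ 1 else 0 := by
  split_ifs with h
  · rw [Finset.sum_congr rfl (fun (z : Z) _ => h z z.2), Finset.sum_const, Finset.card_univ, Nat.card_eq_fintype_card, nsmul_eq_mul]
  · push Not at h
    obtain ⟨z₀, hz₀, hne⟩ := h
    obtain ⟨c, -, hc⟩ := IsIrr.central hθ (hZ hz₀)
    have hc1 : c ≠ 1 := by
      rintro rfl
      apply hne
      have := hc 1
      rwa [one_mul, one_mul] at this
    have h1 : ∑ z : Z, θ z = c * ∑ z : Z, θ z := by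
      conv_lhs => rw [← Equiv.sum_comp (Equiv.mulRight (⟨z₀, hz₀⟩ : Z))]
      rw [Finset.mul_sum]
      refine Finset.sum_congr rfl fun z _ => ?_
      exact hc z
    have h2 : (1 - c) * ∑ z : Z, θ z = 0 := by linear_combination h1
    rcases mul_eq_zero.1 h2 with h3 | h3
    · exact absurd (sub_eq_zero.1 h3).symm hc1
    · exact h3

open Classical in
noncomputable def TZ (Z : Subgroup K) [Fintype (IrrCharacter K)] : Finset (IrrCharacter K) :=
  Finset.univ.filter (fun θ : IrrCharacter K => ¬ ∀ z ∈ Z, (θ : K → ℂ) z = (θ : K → ℂ) 1)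

theorem avg_id {Z : Subgroup K} (hZ : Z ≤ Subgroup.center K) [Fintype (IrrCharacter K)] {f : K → ℂ} (hf : IsClassFunction K f)
    {c : ℂ} (hc : ∀ z ∈ Z, z ≠ 1 → f 1 - f z = c) :
    ((Nat.card Z : ℂ) - 1) * c = (Nat.card Z : ℂ) * ∑ θ ∈ TZ Z, classInner f θ * (θ : K → ℂ) 1 := by
  classical
  have h1 : ∑ z : Z, (f 1 - f z) = ((Nat.card Z : ℂ) - 1) * c := by
    rw [← Finset.sum_erase_add _ _ (Finset.mem_univ (1 : Z))]
    rw [Finset.sum_congr rfl (fun (z : Z) hz => hc z z.2 (fun h => (Finset.mem_erase.1 hz).1 (Subtype.ext h))), Finset.sum_const,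
      Finset.card_erase_of_mem (Finset.mem_univ _), Finset.card_univ, OneMemClass.coe_one, sub_self, add_zero, nsmul_eq_mul,
      Nat.card_eq_fintype_card, Nat.cast_sub Fintype.card_pos, Nat.cast_one]
  rw [← h1]
  have h2 : ∀ z : Z, f 1 - f z = ∑ θ : IrrCharacter K, classInner f θ * ((θ : K → ℂ) 1 - (θ : K → ℂ) z) := by
    intro z
    rw [expand_apply f hf 1, expand_apply f hf z, ← Finset.sum_sub_distrib]
    exact Finset.sum_congr rfl fun θ _ => by ring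
  rw [Finset.sum_congr rfl (fun z _ => h2 z), Finset.sum_comm, Finset.mul_sum, TZ, Finset.sum_filter]
  refine Finset.sum_congr rfl fun θ _ => ?_
  rw [← Finset.mul_sum, Finset.sum_sub_distrib, sumZ hZ θ.2, Finset.sum_const, Finset.card_univ, nsmul_eq_mul,
    ← Nat.card_eq_fintype_card]
  split_ifs with h3
  · ring
  · ring

theorem sum_TZ {Z : Subgroup K} (hZ : Z ≤ Subgroup.center K) [Fintype (IrrCharacter K)] :
    ((Nat.card Z : ℂ) - 1) * Nat.card K = (Nat.card Z : ℂ) * ∑ θ ∈ TZ Z, (θ : K → ℂ) 1 * (θ : K → ℂ) 1 := by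
  classical
  have hf : IsClassFunction K (fun k : K => if k = 1 then (Nat.card K : ℂ) else 0) := by
    intro g x
    show (if x * g * x⁻¹ = 1 then (Nat.card K : ℂ) else 0) = if g = 1 then (Nat.card K : ℂ) else 0
    have : x * g * x⁻¹ = 1 ↔ g = 1 := by
      rw [conj_eq_one_iff]
    simp only [this]
  have h1 := avg_id hZ hf (c := (Nat.card K : ℂ)) (fun z _ hz1 => by
    show (if (1 : K) = 1 then (Nat.card K : ℂ) else 0) - (if z = 1 then (Nat.card K : ℂ) else 0) = _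
    rw [if_pos rfl, if_neg hz1, sub_zero])
  rw [h1]
  congr 1
  refine Finset.sum_congr rfl fun θ _ => ?_
  congr 1
  rw [classInner, Finset.sum_eq_single 1]
  · rw [if_pos rfl]
    obtain ⟨n, -, hn⟩ := IsIrr.one_eq_nat θ.2
    rw [hn, Complex.conj_natCast]
    have : (Nat.card K : ℂ) ≠ 0 := Nat.cast_ne_zero.2 Nat.card_pos.ne'
    field_simp
  · intro b _ hb
    rw [if_neg hb, zero_mul]
  · intro h; exact absurd (Finset.mem_univ _) h

/-- the averaging identity -/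
theorem avg_main {Z : Subgroup K} (hZ : Z ≤ Subgroup.center K) [Fintype (IrrCharacter K)] {f : K → ℂ} (hf : IsClassFunction K f)
    {t : ℂ} (hc : ∀ z ∈ Z, z ≠ 1 → f 1 - f z = t * Nat.card K) :
    ∑ θ ∈ TZ Z, classInner f θ * (θ : K → ℂ) 1 = t * ∑ θ ∈ TZ Z, (θ : K → ℂ) 1 * (θ : K → ℂ) 1 := by
  have h1 := avg_id hZ hf hc
  have h2 := sum_TZ hZ
  have h3 : (Nat.card Z : ℂ) ≠ 0 := Nat.cast_ne_zero.2 Nat.card_pos.ne'
  apply mul_left_cancel₀ h3
  rw [← h1]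
  linear_combination t * h2

end One

section Bes

variable {L : Type*} [Group L] [Fintype L] {G : Type*} [Group G] [Fintype G]
  {S : Set (L → ℂ)} {τ : (L → ℂ) → (G → ℂ)} {R : (L → ℂ) → Finset (G → ℂ)} (hS : IsCoherenceSystem S τ R)

include hS in
open Classical in
theorem bes {Y : Finset (L → ℂ)} (hY : (↑Y : Set (L → ℂ)) ⊆ S) (hYc : ∀ φ ∈ Y, conjFun φ ∈ Y) (hYirr : ∀ η ∈ Y, IsIrrCharacter L η)
    {τ₂ : (L → ℂ) → (G → ℂ)} (h2 : IsLinearIsometryOn (zspan (↑Y : Set (L → ℂ))) τ₂)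
    (hag2 : ∀ α ∈ zspanOn (↑Y : Set (L → ℂ)) {1}ᶜ, τ₂ α = τ α) {d : ℂ} (hd : ∀ η ∈ Y, η 1 = d) {η₁ : L → ℂ} (hη₁ : η₁ ∈ Y)
    {χ : L → ℂ} (hχ : χ ∈ S) (hχY : χ ∉ Y) {m : ℕ} (hm : χ 1 = m * d) :
    ∃ a : ℤ, (∀ η ∈ Y, classInner (τ (χ - (m : ℤ) • η₁)) (τ₂ η) = a - if η = η₁ then (m : ℂ) else 0) ∧
      (Y.card : ℤ) * a ^ 2 ≤ 2 * m * a := by
  have hYirr' : ∀ η ∈ Y, classInner η η = 1 := fun η h => ci_irr_self (hYirr η h)
  have hη₁S := hY hη₁
  have hmem : χ - (m : ℤ) • η₁ ∈ zspanOn S {1}ᶜ := by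
    rw [zo_iff]
    refine ⟨zs_diff (zs_sub hχ) (zs_zsmul _ (zs_sub hη₁S)), ?_⟩
    rw [zc, Pi.sub_apply, Pi.smul_apply, smul_eq_mul, hm, hd η₁ hη₁]; push_cast; ring
  have hgen := hS.isometry.2.2.2 _ hmem
  have hχη : ∀ η ∈ Y, classInner χ η = 0 := fun η h => hS.orthogonal χ hχ η (hY h) (fun e => hχY (e ▸ h))
  have hηχ : ∀ η ∈ Y, classInner η χ = 0 := fun η h => by rw [← ci_conj_symm, hχη η h, map_zero]
  have hcχ : conjFun χ ∉ Y := fun h => hχY (by have := hYc _ h; rwa [conj_conj] at this)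
  have hηcχ : ∀ η ∈ Y, classInner η (conjFun χ) = 0 := fun η h =>
    hS.orthogonal η (hY h) _ (hS.conj_mem χ hχ) (fun e => hcχ (e ▸ h))
  have hYY : ∀ η ∈ Y, ∀ η' ∈ Y, classInner η η' = if η = η' then (1 : ℂ) else 0 := fun η h η' h' =>
    ci_irr (hYirr η h) (hYirr η' h')
  obtain ⟨a₀, ha₀⟩ := ci_gen_int hgen (h2.2.2.2 _ (zs_sub (Finset.mem_coe.2 hη₁)))
  have hval : ∀ η ∈ Y, classInner (τ (χ - (m : ℤ) • η₁)) (τ₂ η) = ((a₀ + m : ℤ) : ℂ) - if η = η₁ then (m : ℂ) else 0 := by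
    intro η hη
    split_ifs with h
    · rw [h, ha₀]; push_cast; ring
    · have hm1 : η - η₁ ∈ zspanOn (↑Y : Set (L → ℂ)) {1}ᶜ := by
        rw [zo_iff]
        exact ⟨zs_diff (zs_sub hη) (zs_sub hη₁), by rw [Pi.sub_apply, hd η hη, hd η₁ hη₁, sub_self]⟩
      have e1 : classInner (τ (χ - (m : ℤ) • η₁)) (τ₂ (η - η₁)) = m := by
        rw [hag2 _ hm1, hS.isometry.2.2.1 _ hmem _ (zo_mono hY hm1), ci_sub_right, zc, ci_sub_left, ci_sub_left, ci_smul_left,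
          ci_smul_left, hχη η hη, hχη η₁ hη₁, hYY η₁ hη₁ η hη, hYY η₁ hη₁ η₁ hη₁, if_pos rfl, if_neg (Ne.symm h)]
        push_cast; ring
      rw [iso_diff h2 (zs_sub (Finset.mem_coe.2 hη)) (zs_sub (Finset.mem_coe.2 hη₁)) (zs_neg (zs_sub (Finset.mem_coe.2 hη₁))),
        ci_sub_right, ha₀] at e1
      push_cast
      linear_combination e1
  refine ⟨a₀ + m, hval, ?_⟩
  obtain ⟨n, hn0, hn⟩ := norm_nat hS hχ
  -- the norm
  have hnorm : classInner (τ (χ - (m : ℤ) • η₁)) (τ (χ - (m : ℤ) • η₁)) = ((n + (m : ℤ) ^ 2 : ℤ) : ℂ) := by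
    rw [hS.isometry.2.2.1 _ hmem _ hmem, zc, ci_sub_left, ci_sub_right, ci_sub_right, ci_smul_left, ci_smul_left, ci_smul_right,
      ci_smul_right, hχη η₁ hη₁, hηχ η₁ hη₁, hYirr' η₁ hη₁, hn]
    simp
    ring
  -- the coefficients on R χ
  have hint : ∀ α ∈ R χ, ∃ k : ℤ, classInner (τ (χ - (m : ℤ) • η₁)) α = k := fun α hα => ci_gen_int hgen (hS.virtual χ hχ α hα)
  choose! k hk using hint
  have hsumk : ∑ α ∈ R χ, (k α : ℂ) = n := by
    have e1 : classInner (τ (χ - (m : ℤ) • η₁)) (τ (χ - conjFun χ)) = n := by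
      rw [hS.isometry.2.2.1 _ hmem _ (diff_mem hS hχ), ci_sub_right, zc, ci_sub_left, ci_sub_left, ci_smul_left, ci_smul_left,
        hηχ η₁ hη₁, hηcχ η₁ hη₁, conj_orth hS hχ, hn]
      ring
    rw [hS.sum_eq χ hχ, ci_sum_right] at e1
    rw [← e1]
    exact Finset.sum_congr rfl fun α hα => (hk α hα).symm
  -- orthogonality
  have hRY : ∀ α ∈ R χ, ∀ η ∈ Y, classInner α (τ₂ η) = 0 := by
    intro α hα η hη
    refine orth_tau hS hY h2 hag2 hη (hYc η hη) ?_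
    intro β hβ
    refine hS.disjoint η (hY hη) χ hχ (hχη η hη) ?_ α hα β hβ
    exact hS.orthogonal χ hχ _ (hS.conj_mem η (hY hη)) (fun e => hχY (e ▸ hYc η hη))
  have hb := bessel_le ((R χ).disjSum Y) (Sum.elim id τ₂) (τ (χ - (m : ℤ) • η₁))
    (Sum.elim (fun α => (k α : ℝ)) (fun η => ((a₀ + m : ℤ) : ℝ) - if η = η₁ then (m : ℝ) else 0)) (fun _ => 1) (by
      rintro (i | i) hi (j | j) hj
      · rw [Finset.inl_mem_disjSum] at hi hj
        simp only [Sum.elim_inl, id, hS.orthonormal χ hχ i hi j hj, Sum.inl.injEq]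
        split_ifs <;> simp
      · rw [Finset.inl_mem_disjSum] at hi
        rw [Finset.inr_mem_disjSum] at hj
        simp only [Sum.elim_inl, Sum.elim_inr, id, reduceCtorEq, if_false]
        exact hRY i hi j hj
      · rw [Finset.inr_mem_disjSum] at hi
        rw [Finset.inl_mem_disjSum] at hj
        simp only [Sum.elim_inl, Sum.elim_inr, id, reduceCtorEq, if_false]
        rw [← ci_conj_symm, hRY j hj i hi, map_zero]
      · rw [Finset.inr_mem_disjSum] at hi hj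
        simp only [Sum.elim_inr, Sum.inr.injEq]
        rw [h2.2.2.1 _ (zs_sub (Finset.mem_coe.2 hi)) _ (zs_sub (Finset.mem_coe.2 hj)), hYY i hi j hj]
        split_ifs <;> simp) (fun _ _ => one_pos) (by
      rintro (i | i) hi
      · rw [Finset.inl_mem_disjSum] at hi
        simp only [Sum.elim_inl, id, hk i hi]
        push_cast; rfl
      · rw [Finset.inr_mem_disjSum] at hi
        simp only [Sum.elim_inr, hval i hi]
        split_ifs <;> push_cast <;> rfl)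
  rw [Finset.sum_disjSum] at hb
  simp only [Sum.elim_inl, Sum.elim_inr, div_one] at hb
  rw [hnorm, Complex.intCast_re] at hb
  have hsk : (n : ℝ) ≤ ∑ α ∈ R χ, (k α : ℝ) ^ 2 := by
    have e1 : (n : ℝ) = ∑ α ∈ R χ, (k α : ℝ) := by
      have : ((n : ℝ) : ℂ) = ((∑ α ∈ R χ, (k α : ℝ) : ℝ) : ℂ) := by push_cast; rw [← hsumk]
      exact_mod_cast this
    rw [e1]
    exact Finset.sum_le_sum fun α _ => int_le_sq (k α)
  have hsY : ∑ η ∈ Y, (((a₀ + m : ℤ) : ℝ) - if η = η₁ then (m : ℝ) else 0) ^ 2 =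
      (Y.card : ℝ) * ((a₀ + m : ℤ) : ℝ) ^ 2 - 2 * m * ((a₀ + m : ℤ) : ℝ) + m ^ 2 := by
    rw [← Finset.add_sum_erase Y _ hη₁, if_pos rfl]
    rw [Finset.sum_congr rfl (fun η hη => by rw [if_neg (Finset.mem_erase.1 hη).1, sub_zero]), Finset.sum_const,
      Finset.card_erase_of_mem hη₁, nsmul_eq_mul, Nat.cast_sub (Finset.card_pos.2 ⟨η₁, hη₁⟩)]
    push_cast; ring
  rw [hsY] at hb
  have h5 : (Y.card : ℝ) * ((a₀ + m : ℤ) : ℝ) ^ 2 ≤ 2 * m * ((a₀ + m : ℤ) : ℝ) := by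
    push_cast at hb ⊢; linarith
  exact_mod_cast h5

end Bes

end Cfsg.Agent.H27.PV2
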