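import Mathlib
import Cfsg.Agent.H27_PV2

/-!
H27_PV3: type V coherence: the union of the characters nontrivial on `Z` and of those trivial on `K'` is coherent.
-/

set_option autoImplicit false
set_option linter.style.haveILetI false
set_option linter.unusedSectionVars false

namespace Cfsg.Agent.H27.PV3

open Cfsg Cfsg.Agent.H3.CharIrr Cfsg.Agent.H3.CharComplete Cfsg.Agent.H3.CharInd Cfsg.Agent.H3.CharMult
  Cfsg.Agent.H3.CharBasic Cfsg.Agent.H3.CharCalc Cfsg.Agent.H3.Clifford Cfsg.Agent.H3.CharInt Cfsg.Agent.H3.CharQuot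
  Cfsg.Agent.H10.PM Cfsg.Agent.H10.Coh
  Cfsg.Agent.H10.Coh2 Cfsg.Agent.H10.Coh3 Cfsg.Agent.H10.Coh4 Cfsg.Agent.H10.IndSet2 Cfsg.Agent.H10.IndSet3
  Cfsg.Agent.H10.IndSet6 Cfsg.Agent.H10.IndSet7 Cfsg.Agent.H10.OOClif Cfsg.Agent.H10.Sib Cfsg.Agent.H10.Sib2
  Cfsg.Agent.H27.PV2
open scoped ComplexConjugate

/-- the arithmetic of the averaging argument -/
theorem arith {ι : Type*} (T : Finset ι) (a : ι → ℤ) (m : ι → ℕ) (hm : ∀ i ∈ T, 0 < m i) (hT : T.Nonempty) {N : ℕ} (hN : 2 ≤ N)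
    (ha : ∀ i ∈ T, (N : ℤ) * a i ^ 2 ≤ 2 * m i * a i) {s : ℤ} (hs : ∑ i ∈ T, a i * m i = s * ∑ i ∈ T, (m i : ℤ) * m i) :
    (∀ i ∈ T, a i = 0) ∨ (N = 2 ∧ ∀ i ∈ T, a i = m i) := by
  have hN' : (2 : ℤ) ≤ N := by exact_mod_cast hN
  have h0 : ∀ i ∈ T, 0 ≤ a i := by
    intro i hi
    by_contra hc
    push Not at hc
    have h1 := ha i hi
    have h2 : (0 : ℤ) < m i := by exact_mod_cast hm i hi
    have h3 : 0 < a i ^ 2 := by nlinarith
    nlinarith
  have h1 : ∀ i ∈ T, (N : ℤ) * a i ≤ 2 * m i := by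
    intro i hi
    rcases eq_or_lt_of_le (h0 i hi) with h | h
    · rw [← h]; have : (0 : ℤ) ≤ m i := by positivity
      linarith
    · have h2 := ha i hi
      have h3 : a i * ((N : ℤ) * a i) ≤ a i * (2 * m i) := by nlinarith
      exact le_of_mul_le_mul_left h3 h
  set Q : ℤ := ∑ i ∈ T, (m i : ℤ) * m i with hQ
  have hQpos : 0 < Q := by
    apply Finset.sum_pos _ hT
    intro i hi
    have h2 : (0 : ℤ) < m i := by exact_mod_cast hm i hi
    positivity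
  have h3 : (N : ℤ) * (s * Q) ≤ 2 * Q := by
    rw [← hs, hQ, Finset.mul_sum, Finset.mul_sum]
    apply Finset.sum_le_sum
    intro i hi
    have h2 : (0 : ℤ) ≤ m i := by positivity
    have := mul_le_mul_of_nonneg_right (h1 i hi) h2
    linarith
  have h4 : 0 ≤ s * Q := by
    rw [← hs]
    apply Finset.sum_nonneg
    intro i hi
    exact mul_nonneg (h0 i hi) (by positivity)
  have hs0 : 0 ≤ s := by
    by_contra hc
    push Not at hc
    have := mul_neg_of_neg_of_pos hc hQpos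
    linarith
  have hs1 : (N : ℤ) * s ≤ 2 := by
    have : ((N : ℤ) * s) * Q ≤ 2 * Q := by linarith
    exact le_of_mul_le_mul_right this hQpos
  rcases eq_or_lt_of_le hs0 with h | h
  · left
    rw [← h, zero_mul] at hs
    have h5 := (Finset.sum_eq_zero_iff_of_nonneg (fun i hi => mul_nonneg (h0 i hi) (by positivity))).1 hs
    intro i hi
    have h6 := h5 i hi
    have h2 : (m i : ℤ) ≠ 0 := by
      have : (0 : ℤ) < m i := by exact_mod_cast hm i hi
      exact this.ne'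
    exact (mul_eq_zero.1 h6).resolve_right h2
  · right
    have hs2 : s = 1 := by nlinarith
    have hN2 : (N : ℤ) = 2 := by rw [hs2] at hs1; linarith
    refine ⟨by exact_mod_cast hN2, ?_⟩
    have h5 : ∑ i ∈ T, ((m i : ℤ) - a i) * m i = 0 := by
      have : ∑ i ∈ T, ((m i : ℤ) - a i) * m i = Q - ∑ i ∈ T, a i * m i := by
        rw [hQ, ← Finset.sum_sub_distrib]
        exact Finset.sum_congr rfl fun i _ => by ring
      rw [this, hs, hs2]; ring
    have h6 : ∀ i ∈ T, 0 ≤ ((m i : ℤ) - a i) * m i := by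
      intro i hi
      have := h1 i hi
      rw [hN2] at this
      exact mul_nonneg (by linarith) (by positivity)
    have h7 := (Finset.sum_eq_zero_iff_of_nonneg h6).1 h5
    intro i hi
    have h2 : (m i : ℤ) ≠ 0 := by
      have : (0 : ℤ) < m i := by exact_mod_cast hm i hi
      exact this.ne'
    have := (mul_eq_zero.1 (h7 i hi)).resolve_right h2
    linarith

section Main

variable {G : Type*} [Group G] [Fintype G]

open Classical in
theorem union_coh {L : Subgroup G} [Fintype L] {K : Subgroup L} (hK : K.Normal) {R : (L → ℂ) → Finset (G → ℂ)}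
    (hS : IsCoherenceSystem (inducedIrrAbove K ⊥) (fun α : L → ℂ => indFun L α) R) (hsolv : Group.IsSolvable K)
    {D Z : Subgroup L} [hD : D.Normal] [hZ : Z.Normal] (hZD : Z ≤ D) (hDK : D < K)
    (hcomm : ∀ x ∈ K, ∀ y ∈ K, x * y * x⁻¹ * y⁻¹ ∈ D) (hZ1 : Z ≠ ⊥) (hZc : ∀ z ∈ Z, ∀ k ∈ K, z * k = k * z)
    (hYirr : ∀ η ∈ inducedIrrAbove K D, IsIrrCharacter L η) {τ₂ : (L → ℂ) → (G → ℂ)}
    (h2 : IsLinearIsometryOn (zspan (inducedIrrAbove K D)) τ₂)
    (hag2 : ∀ α ∈ zspanOn (inducedIrrAbove K D) {1}ᶜ, τ₂ α = indFun L α)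
    (hval : ∀ η ∈ inducedIrrAbove K D, ∃ t : ℤ, ∀ z ∈ Z, z ≠ 1 → τ₂ η 1 - τ₂ η (z : G) = t * (Nat.card K : ℂ)) :
    IsCoherent ((inducedIrrAbove K ⊥ \ inducedIrrAbove K Z) ∪ inducedIrrAbove K D) {1}ᶜ (fun α : L → ℂ => indFun L α) := by
  haveI := Fintype.ofFinite K
  haveI := Fintype.ofFinite (IrrCharacter K)
  have hZK : Z ≤ K := hZD.trans hDK.le
  set X := inducedIrrAbove K ⊥ \ inducedIrrAbove K Z with hX
  set Y : Finset (L → ℂ) := SF K D with hY
  have hYc : (↑Y : Set (L → ℂ)) = inducedIrrAbove K D := coe_SF D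
  have hXsub : X ⊆ inducedIrrAbove K ⊥ := Set.diff_subset
  have hYsub : inducedIrrAbove K D ⊆ inducedIrrAbove K ⊥ := fun x hx => SF_mono bot_le hx
  have hXc : ∀ φ ∈ X, conjFun φ ∈ X := fun φ h => conj_mem_x h
  have hYconj : ∀ φ ∈ inducedIrrAbove K D, conjFun φ ∈ inducedIrrAbove K D := fun φ h => conj_mem_above h
  have hXY : ∀ φ ∈ X, φ ∉ inducedIrrAbove K D := fun φ h h' => h.2 (SF_mono hZD h')
  have hdY := deg_ab hcomm
  have hone : ∀ χ ∈ inducedIrrAbove K ⊥, χ 1 ≠ 0 := fun χ h => one_ne hS h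
  obtain ⟨η₁, hη₁⟩ := above_nonempty hsolv hDK
  have hη₁Y : η₁ ∈ Y := mem_SF.2 hη₁
  have hN2 : 2 ≤ Y.card := by
    have h3 : conjFun η₁ ∈ Y := mem_SF.2 (hYconj _ hη₁)
    have h4 : conjFun η₁ ≠ η₁ := hS.conj_ne _ (hYsub hη₁)
    exact Finset.one_lt_card.2 ⟨_, h3, _, hη₁Y, h4⟩
  have hZ' : Z.subgroupOf K ≤ Subgroup.center K := by
    intro z hz
    rw [Subgroup.mem_center_iff]
    intro k
    exact Subtype.ext (hZc z (Subgroup.mem_subgroupOf.1 hz) k k.2).symm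
  -- the data attached to `θ`
  have hTX : ∀ θ : IrrCharacter K, θ ∈ TZ (Z.subgroupOf K) → indFun K (θ : K → ℂ) ∈ X := by
    intro θ hθ
    rw [hX, ind_mem_iff hK Z hZ hZK θ.2]
    intro hc
    exact (Finset.mem_filter.1 hθ).2 (fun z hz => hc z (Subgroup.mem_subgroupOf.1 hz))
  have hdat : ∀ θ : IrrCharacter K, ∃ (m : ℕ) (a : ℤ), 0 < m ∧ (θ : K → ℂ) 1 = m ∧ (θ ∈ TZ (Z.subgroupOf K) →
      (∀ η ∈ Y, classInner (indFun L (indFun K (θ : K → ℂ) - (m : ℤ) • η₁)) (τ₂ η) = a - if η = η₁ then (m : ℂ) else 0) ∧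
      (Y.card : ℤ) * a ^ 2 ≤ 2 * m * a) := by
    intro θ
    obtain ⟨m, hm0, hm⟩ := IsIrr.one_eq_nat θ.2
    by_cases hθ : θ ∈ TZ (Z.subgroupOf K)
    · obtain ⟨a, h3, h4⟩ := bes hS (Y := Y) (by rw [hYc]; exact hYsub) (fun φ h => mem_SF.2 (hYconj φ (mem_SF.1 h)))
        (fun η h => hYirr η (mem_SF.1 h)) (by rw [hYc]; exact h2) (by rw [hYc]; exact hag2) (d := (K.index : ℂ))
        (fun η h => hdY η (mem_SF.1 h)) hη₁Y (hXsub (hTX θ hθ)) (fun h => hXY _ (hTX θ hθ) (mem_SF.1 h)) (m := m) (by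
          rw [ind_one, hm]; ring)
      exact ⟨m, a, hm0, hm, fun _ => ⟨h3, h4⟩⟩
    · exact ⟨m, 0, hm0, hm, fun h => absurd h hθ⟩
  choose m a hm0 hm hda using hdat
  -- the restriction of `τ₂ η₁`
  have hgen₁ : IsGeneralizedCharacter G (τ₂ η₁) := h2.2.2.2 _ (zs_sub hη₁)
  have hcl₁ : IsClassFunction G (τ₂ η₁) := IsGen.isClass hgen₁
  set f : L → ℂ := fun x => τ₂ η₁ x with hf
  have hfc : IsClassFunction L f := IsClass.res hcl₁ L
  have hfgen : IsGeneralizedCharacter L f := IsGen.comp hgen₁ L.subtype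
  set fK : K → ℂ := fun k => f k with hfK
  have hfKc : IsClassFunction K fK := IsClass.res hfc K
  obtain ⟨w, hw⟩ := ci_gen_int (IsGen.of_irr (hYirr η₁ hη₁)) hfgen
  obtain ⟨t, ht⟩ := hval η₁ hη₁
  have hin : ∀ θ ∈ TZ (Z.subgroupOf K), classInner fK (θ : K → ℂ) = ((a θ + m θ * (w - 1) : ℤ) : ℂ) := by
    intro θ hθ
    have h3 := (hda θ hθ).1 η₁ hη₁Y
    rw [if_pos rfl, frobenius L _ _ hcl₁, zc, ci_sub_left, ci_smul_left] at h3
    have h4 : classInner (indFun K (θ : K → ℂ)) f = classInner (θ : K → ℂ) fK := frobenius K _ _ hfc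
    rw [show (fun h : L => τ₂ η₁ h) = f from rfl, hw, h4] at h3
    have h5 : classInner (θ : K → ℂ) fK = ((a θ + m θ * (w - 1) : ℤ) : ℂ) := by
      push_cast at h3 ⊢
      linear_combination h3
    rw [← ci_conj_symm, h5, cint]
  have hkey : ∑ θ ∈ TZ (Z.subgroupOf K), a θ * m θ = (t - (w - 1)) * ∑ θ ∈ TZ (Z.subgroupOf K), (m θ : ℤ) * m θ := by
    have h3 := avg_main hZ' hfKc (t := (t : ℂ)) (fun z hz hz1 => by
      have h4 := ht (z : L) (Subgroup.mem_subgroupOf.1 hz) (fun h => hz1 (Subtype.ext h))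
      exact h4)
    have h4 : ∑ θ ∈ TZ (Z.subgroupOf K), classInner fK (θ : K → ℂ) * (θ : K → ℂ) 1 =
        ((∑ θ ∈ TZ (Z.subgroupOf K), (a θ + m θ * (w - 1)) * m θ : ℤ) : ℂ) := by
      push_cast
      refine Finset.sum_congr rfl fun θ hθ => ?_
      rw [hin θ hθ, hm θ]; push_cast; ring
    have h5 : ∑ θ ∈ TZ (Z.subgroupOf K), (θ : K → ℂ) 1 * (θ : K → ℂ) 1 =
        ((∑ θ ∈ TZ (Z.subgroupOf K), (m θ : ℤ) * m θ : ℤ) : ℂ) := by
      push_cast
      exact Finset.sum_congr rfl fun θ _ => by rw [hm θ]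
    rw [h4, h5] at h3
    have h6 : ∑ θ ∈ TZ (Z.subgroupOf K), (a θ + m θ * (w - 1)) * m θ = t * ∑ θ ∈ TZ (Z.subgroupOf K), (m θ : ℤ) * m θ := by
      exact_mod_cast h3
    have h7 : ∑ θ ∈ TZ (Z.subgroupOf K), (a θ + m θ * (w - 1)) * m θ =
        ∑ θ ∈ TZ (Z.subgroupOf K), a θ * m θ + (w - 1) * ∑ θ ∈ TZ (Z.subgroupOf K), (m θ : ℤ) * m θ := by
      rw [Finset.mul_sum, ← Finset.sum_add_distrib]
      exact Finset.sum_congr rfl fun θ _ => by ring
    linarith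
  have hTne : (TZ (Z.subgroupOf K)).Nonempty := by
    rw [Finset.nonempty_iff_ne_empty]
    intro h0
    have h3 := sum_TZ hZ'
    rw [h0, Finset.sum_empty, mul_zero] at h3
    have h4 : (Nat.card K : ℂ) ≠ 0 := Nat.cast_ne_zero.2 Nat.card_pos.ne'
    have h5 := (mul_eq_zero.1 h3).resolve_right h4
    have h6 : Nat.card (Z.subgroupOf K) = 1 := by
      have : (Nat.card (Z.subgroupOf K) : ℂ) = (1 : ℕ) := by push_cast; linear_combination h5
      exact_mod_cast this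
    rw [Subgroup.card_eq_one, Subgroup.subgroupOf_eq_bot] at h6
    exact hZ1 (disjoint_self.1 (h6.mono_right hZK))
  have halt := arith (TZ (Z.subgroupOf K)) a m (fun θ _ => hm0 θ) hTne hN2 (fun θ hθ => (hda θ hθ).2) hkey
  -- the new value at `η₁`
  have hnorm : ∀ η ∈ inducedIrrAbove K D, classInner (τ₂ η) (τ₂ η) = 1 := fun η hη => by
    rw [h2.2.2.1 _ (zs_sub hη) _ (zs_sub hη), ci_irr_self (hYirr η hη)]
  have hYY : ∀ η ∈ inducedIrrAbove K D, ∀ η' ∈ inducedIrrAbove K D, classInner η η' = if η = η' then (1 : ℂ) else 0 :=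
    fun η h η' h' => ci_irr (hYirr η h) (hYirr η' h')
  obtain ⟨Θ, hΘgen, hΘnorm, hΘX, hΘY⟩ : ∃ Θ : G → ℂ, IsGeneralizedCharacter G Θ ∧ classInner Θ Θ = 1 ∧
      (∀ θ ∈ TZ (Z.subgroupOf K), classInner (indFun L (indFun K (θ : K → ℂ) - (m θ : ℤ) • η₁)) Θ = - (m θ : ℂ)) ∧
      (∀ η ∈ inducedIrrAbove K D, η ≠ η₁ → classInner Θ (indFun L (η - η₁)) = -1) := by
    have hmY : ∀ η ∈ inducedIrrAbove K D, η - η₁ ∈ zspanOn (inducedIrrAbove K D) {1}ᶜ := by
      intro η hη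
      rw [zo_iff]
      exact ⟨zs_diff (zs_sub hη) (zs_sub hη₁), by rw [Pi.sub_apply, hdY η hη, hdY η₁ hη₁, sub_self]⟩
    rcases halt with h0 | ⟨hN, h0⟩
    · refine ⟨τ₂ η₁, hgen₁, hnorm _ hη₁, fun θ hθ => ?_, fun η hη hne => ?_⟩
      · rw [(hda θ hθ).1 η₁ hη₁Y, if_pos rfl, h0 θ hθ]; push_cast; ring
      · rw [← hag2 _ (hmY η hη), h2.2.2.1 _ (zs_sub hη₁) _ (hmY η hη).1, ci_sub_right, hYY _ hη₁ _ hη, hYY _ hη₁ _ hη₁,
          if_pos rfl, if_neg (Ne.symm hne)]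
        ring
    · have hc := hYconj _ hη₁
      have hc1 : conjFun η₁ ≠ η₁ := hS.conj_ne _ (hYsub hη₁)
      refine ⟨- τ₂ (conjFun η₁), IsGen.neg (h2.2.2.2 _ (zs_sub hc)), ?_, fun θ hθ => ?_, fun η hη hne => ?_⟩
      · rw [ci_neg_neg, hnorm _ hc]
      · rw [ci_neg_right', (hda θ hθ).1 _ (mem_SF.2 hc), if_neg hc1, h0 θ hθ]; push_cast; ring
      · have hη' : η = conjFun η₁ := by
          by_contra hne2
          have h3 : ({η₁, conjFun η₁, η} : Finset (L → ℂ)) ⊆ Y := by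
            intro φ hφ
            simp only [Finset.mem_insert, Finset.mem_singleton] at hφ
            rcases hφ with rfl | rfl | rfl
            · exact hη₁Y
            · exact mem_SF.2 hc
            · exact mem_SF.2 hη
          have h4 := Finset.card_le_card h3
          rw [Finset.card_insert_of_notMem (by
            simp only [Finset.mem_insert, Finset.mem_singleton, not_or]
            exact ⟨hc1.symm, hne.symm⟩), Finset.card_insert_of_notMem (by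
            simp only [Finset.mem_singleton]
            exact fun h => hne2 h.symm), Finset.card_singleton, hN] at h4
          omega
        subst hη'
        rw [← hag2 _ (hmY _ hη), ci_neg_left', h2.2.2.1 _ (zs_sub hc) _ (hmY _ hη).1, ci_sub_right, hYY _ hc _ hc, hYY _ hc _ hη₁,
          if_pos rfl, if_neg hc1]
        ring
  have hT : X ∪ inducedIrrAbove K D ⊆ inducedIrrAbove K ⊥ := Set.union_subset hXsub hYsub
  have hisoT : IsLinearIsometryOn (zspanOn (X ∪ inducedIrrAbove K D) {1}ᶜ) (fun α : L → ℂ => indFun L α) :=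
    iso_mono hS.isometry (fun x hx => zo_mono hT hx)
  have hη₁T : η₁ ∈ X ∪ inducedIrrAbove K D := Or.inr hη₁
  have hbase := base_cond (T := X ∪ inducedIrrAbove K D) hisoT (zs_sub hη₁T) (hone _ (hYsub hη₁)) (X := Θ) (by
    rintro φ (hφ | hφ)
    · obtain ⟨θ, hθ, -, -, rfl⟩ := hXsub hφ
      have hθT : (⟨θ, hθ⟩ : IrrCharacter K) ∈ TZ (Z.subgroupOf K) := by
        refine Finset.mem_filter.2 ⟨Finset.mem_univ _, fun hc => ?_⟩
        rw [hX, ind_mem_iff hK Z hZ hZK hθ] at hφ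
        exact hφ (fun z hz => hc z (Subgroup.mem_subgroupOf.2 hz))
      refine ⟨(m ⟨θ, hθ⟩ : ℤ), ?_, ?_⟩
      · have h3 : θ 1 = (m ⟨θ, hθ⟩ : ℂ) := hm ⟨θ, hθ⟩
        rw [ind_one, hdY _ hη₁, h3]; push_cast; ring
      · have h3 := hΘX ⟨θ, hθ⟩ hθT
        show classInner Θ (indFun L (indFun K θ - ((m ⟨θ, hθ⟩ : ℕ) : ℤ) • η₁)) = _
        have h4 : classInner η₁ (indFun K θ) = 0 := hS.orthogonal η₁ (hYsub hη₁) _ (hXsub hφ) (fun e => hXY _ hφ (e ▸ hη₁))
        rw [← ci_conj_symm, h3, zc, ci_sub_right, ci_smul_right, h4, hYY _ hη₁ _ hη₁, if_pos rfl, map_neg, Complex.conj_natCast,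
          cint]
        push_cast; ring
    · refine ⟨1, by rw [hdY φ hφ, hdY _ hη₁]; simp, ?_⟩
      rw [one_smul]
      by_cases hne : φ = η₁
      · rw [hne, sub_self, iso_zero hisoT zo_zero, ci_zero_right, ci_zero_right]
      · rw [hΘY φ hφ hne, ci_sub_right, hYY _ hη₁ _ hφ, hYY _ hη₁ _ hη₁, if_pos rfl, if_neg (Ne.symm hne), zero_sub])
  obtain ⟨σ, hσ1, hσ2, -⟩ := extend_base hisoT (zs_sub hη₁T) (hone _ (hYsub hη₁)) hbase.1 hΘgen
    (by rw [hΘnorm, hYY _ hη₁ _ hη₁, if_pos rfl])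
    (IsGen.of_irr (hYirr _ hη₁)) (fun χ hχ => gen_of_mem hS (hT hχ)) hbase.2
  refine ⟨exists_ne_zero hS hT ⟨η₁, hη₁T⟩ ?_, σ, hσ1, hσ2⟩
  rintro φ (hφ | hφ)
  · exact Or.inl (hXc φ hφ)
  · exact Or.inr (hYconj φ hφ)

end Main

end Cfsg.Agent.H27.PV3
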