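import Mathlib
import Cfsg.Agent.H27_PV3
import Cfsg.Agent.H3_GalProd

/-!
H27_PV4: type V coherence: constancy on the central subgroup and the congruence modulo `|K|`.
-/

set_option autoImplicit false
set_option linter.style.haveILetI false
set_option linter.unusedSectionVars false

namespace Cfsg.Agent.H27.PV4

open Cfsg Cfsg.Agent.H3.CharIrr Cfsg.Agent.H3.CharComplete Cfsg.Agent.H3.CharInd Cfsg.Agent.H3.CharMult
  Cfsg.Agent.H3.CharBasic Cfsg.Agent.H3.CharCalc Cfsg.Agent.H3.Clifford Cfsg.Agent.H3.CharInt Cfsg.Agent.H3.CharQuot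
  Cfsg.Agent.H10.PM Cfsg.Agent.H10.Coh
  Cfsg.Agent.H10.Coh2 Cfsg.Agent.H10.Coh3 Cfsg.Agent.H10.Coh4 Cfsg.Agent.H10.IndSet2 Cfsg.Agent.H10.IndSet3
  Cfsg.Agent.H10.IndSet6 Cfsg.Agent.H10.IndSet7 Cfsg.Agent.H10.OOClif Cfsg.Agent.H10.Sib Cfsg.Agent.H10.Sib2
open scoped ComplexConjugate

section Pow

variable {G : Type*} [Group G] [Fintype G]

theorem ind_pow {m : ℕ} (hm : (Nat.card G).Coprime m) (H : Subgroup G) (f : H → ℂ) (g : G) :
    indFun H f (g ^ m) = indFun H (fun h => f (h ^ m)) g := by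
  simp only [indFun]
  congr 1
  refine Finset.sum_congr rfl fun x _ => ?_
  have h1 : x⁻¹ * g ^ m * x = (x⁻¹ * g * x) ^ m := by
    have := conj_pow (i := m) (a := x⁻¹) (b := g)
    simpa using this.symm
  rw [h1]
  by_cases hx : x⁻¹ * g * x ∈ H
  · rw [ext_mem _ _ hx, ext_mem _ _ (H.pow_mem hx m)]
    have h2 : (⟨(x⁻¹ * g * x) ^ m, H.pow_mem hx m⟩ : H) = ⟨x⁻¹ * g * x, hx⟩ ^ m := by
      ext; simp
    rw [h2]
  · have hx' : (x⁻¹ * g * x) ^ m ∉ H := by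
      intro h
      apply hx
      have h3 : x⁻¹ * g * x ∈ Subgroup.zpowers ((x⁻¹ * g * x) ^ m) := by
        rw [mem_zpowers_pow_iff]
        exact (hm.coprime_dvd_left (orderOf_dvd_natCard _)).symm
      have h4 : Subgroup.zpowers ((x⁻¹ * g * x) ^ m) ≤ H := by rwa [Subgroup.zpowers_le]
      exact h4 h3
    rw [ext_not_mem _ _ hx, ext_not_mem _ _ hx']

theorem pm_pow {m : ℕ} (hm : (Nat.card G).Coprime m) {f : G → ℂ} (h : Pm f) : Pm (fun g => f (g ^ m)) := by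
  rcases h with h | h
  · exact Or.inl (Cfsg.Agent.H3.GalProd.isIrr_pow hm h)
  · exact Or.inr (Cfsg.Agent.H3.GalProd.isIrr_pow hm h)

/-- two pairs of signed irreducible characters with the same difference and the same (nonzero) degree -/
theorem pair_eq {a b c d : G → ℂ} (ha : Pm a) (hc : Pm c) (hd : Pm d) (hab : classInner b a = 0)
    (h : a - b = c - d) (h1 : a 1 = d 1) : a = c := by
  have h2 : classInner c a - classInner d a = 1 := by
    rw [← ci_sub_left, ← h, ci_sub_left, hab, ha.norm, sub_zero]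
  rcases Pm.inner hc ha with h3 | ⟨h3, -⟩ | ⟨-, h3⟩
  · rcases Pm.inner hd ha with h4 | ⟨h4, h5⟩ | ⟨h4, h5⟩
    · rw [h3, h4] at h2; norm_num at h2
    · rw [h3, h5] at h2; norm_num at h2
    · exfalso
      have h6 : a 1 = - d 1 := by rw [h4]; rfl
      rw [h1] at h6
      have h7 : d 1 = 0 := by linear_combination h6 / 2
      exact hd.one_ne h7
  · exact h3
  · rcases Pm.inner hd ha with h4 | ⟨h4, h5⟩ | ⟨h4, h5⟩
    · rw [h3, h4] at h2; norm_num at h2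
    · rw [h3, h5] at h2; norm_num at h2
    · rw [h3, h5] at h2; norm_num at h2

end Pow

/-- `r`-powers for `r` prime to `N` reach every generator of a group of prime order -/
theorem exists_exp {N p k : ℕ} (hN : N ≠ 0) (hp : p.Prime) (hk : ¬ p ∣ k) : ∃ r : ℕ, N.Coprime r ∧ r ≡ k [MOD p] := by
  have hcop : Nat.Coprime p (ordCompl[p] N) := Nat.coprime_ordCompl hp hN
  obtain ⟨r, h1, h2⟩ := Nat.chineseRemainder hcop k 1
  refine ⟨r, ?_, h1⟩
  have h3 : Nat.Coprime p r := by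
    rw [hp.coprime_iff_not_dvd]
    intro h
    exact hk ((Nat.ModEq.dvd_iff h1 dvd_rfl).1 h)
  have h4 : Nat.Coprime (ordCompl[p] N) r := by
    have : Nat.gcd r (ordCompl[p] N) = Nat.gcd 1 (ordCompl[p] N) := Nat.ModEq.gcd_eq h2
    rw [Nat.gcd_one_left] at this
    exact Nat.coprime_comm.1 this
  have h5 : N = p ^ (N.factorization p) * ordCompl[p] N := (Nat.ordProj_mul_ordCompl_eq_self N p).symm
  rw [h5]
  exact Nat.Coprime.mul_left (Nat.Coprime.pow_left _ h3) h4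

section Main

variable {G : Type*} [Group G] [Fintype G]

/-- members of `inducedIrrAbove K D` have `D` in the kernel -/
theorem ker_above {L : Type*} [Group L] [Fintype L] {K D : Subgroup L} (hK : K.Normal) (hD : D.Normal) (hDK : D ≤ K) {η : L → ℂ}
    (hη : η ∈ inducedIrrAbove K D) {z : L} (hz : z ∈ D) : η z = η 1 := by
  obtain ⟨θ, hθ, -, hk, rfl⟩ := hη
  exact (ker_ind hK hD hDK (IsIrr.isCharacter hθ) (IsIrr.one_ne_zero hθ)).1 hk z hz

theorem pow_above {L : Type*} [Group L] [Fintype L] {K D : Subgroup L} {r : ℕ} (hr : (Nat.card L).Coprime r) {η : L → ℂ}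
    (hη : η ∈ inducedIrrAbove K D) : (fun x => η (x ^ r)) ∈ inducedIrrAbove K D := by
  obtain ⟨θ, hθ, h1, hk, rfl⟩ := hη
  haveI := Fintype.ofFinite K
  have hrK : (Nat.card K).Coprime r := hr.coprime_dvd_left (Subgroup.card_subgroup_dvd_card K)
  refine ⟨fun k => θ (k ^ r), Cfsg.Agent.H3.GalProd.isIrr_pow hrK hθ, ?_, ?_, ?_⟩
  · intro h
    apply h1
    funext k
    obtain ⟨x, rfl⟩ := (powCoprime hrK).surjective k
    exact congrFun h x
  · intro a ha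
    show θ (a ^ r) = θ (1 ^ r)
    rw [one_pow]
    exact hk _ (D.pow_mem ha r)
  · funext x
    exact ind_pow hr K θ x

variable {L : Subgroup G} [Fintype L] {K : Subgroup L} [hK : K.Normal] {D Z : Subgroup L} [hDn : D.Normal] [hZn : Z.Normal]

/-- the coherent extension commutes with Galois conjugation, hence is constant on a subgroup of prime order -/
theorem const_prime {R : (L → ℂ) → Finset (G → ℂ)}
    (hS : IsCoherenceSystem (inducedIrrAbove K ⊥) (fun α : L → ℂ => indFun L α) R)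
    (hTI : ∀ g : G, g ∉ L → ∀ t ∈ K.map L.subtype, g * t * g⁻¹ ∈ K.map L.subtype → t = 1)
    (hDK : D ≤ K) (hcomm : ∀ x ∈ K, ∀ y ∈ K, x * y * x⁻¹ * y⁻¹ ∈ D) (hZD : Z ≤ D) {p : ℕ} (hp : p.Prime) (hZp : Nat.card Z = p)
    (hYirr : ∀ η ∈ inducedIrrAbove K D, IsIrrCharacter L η) {τ₂ : (L → ℂ) → (G → ℂ)}
    (h2 : IsLinearIsometryOn (zspan (inducedIrrAbove K D)) τ₂)
    (hag2 : ∀ α ∈ zspanOn (inducedIrrAbove K D) {1}ᶜ, τ₂ α = indFun L α) {η : L → ℂ} (hη : η ∈ inducedIrrAbove K D) :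
    ∀ z ∈ Z, ∀ z' ∈ Z, z ≠ 1 → z' ≠ 1 → τ₂ η (z : G) = τ₂ η (z' : G) := by
  have hYsub : inducedIrrAbove K D ⊆ inducedIrrAbove K ⊥ := fun x hx => SF_mono bot_le hx
  have hdY := deg_ab hcomm
  have hpm : ∀ χ ∈ inducedIrrAbove K D, Pm (τ₂ χ) := fun χ h => pm_of_iso hYirr h2 h
  have hdiff : ∀ χ ∈ inducedIrrAbove K D, ∀ ψ ∈ inducedIrrAbove K D, χ - ψ ∈ zspanOn (inducedIrrAbove K D) {1}ᶜ := by
    intro χ h ψ h'
    rw [zo_iff]
    exact ⟨zs_diff (zs_sub h) (zs_sub h'), by rw [Pi.sub_apply, hdY χ h, hdY ψ h', sub_self]⟩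
  have hsub : ∀ χ ∈ inducedIrrAbove K D, ∀ ψ ∈ inducedIrrAbove K D, τ₂ χ - τ₂ ψ = indFun L (χ - ψ) := by
    intro χ h ψ h'
    rw [← hag2 _ (hdiff χ h ψ h'), iso_diff h2 (zs_sub h) (zs_sub h') (zs_neg (zs_sub h'))]
  have hdeg : ∀ χ ∈ inducedIrrAbove K D, ∀ ψ ∈ inducedIrrAbove K D, τ₂ χ 1 = τ₂ ψ 1 := by
    intro χ h ψ h'
    have := congrFun (hsub χ h ψ h') 1
    rw [Pi.sub_apply, ind_one, Pi.sub_apply, hdY χ h, hdY ψ h', sub_self, mul_zero] at this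
    exact sub_eq_zero.1 this
  -- equivariance
  have heq : ∀ r : ℕ, (Nat.card G).Coprime r → ∀ g : G, τ₂ η (g ^ r) = τ₂ (fun x => η (x ^ r)) g := by
    intro r hr g
    have hrL : (Nat.card L).Coprime r := hr.coprime_dvd_left (Subgroup.card_subgroup_dvd_card L)
    have hηr := pow_above hrL hη
    set η' := conjFun η with hη'
    have hη'Y : η' ∈ inducedIrrAbove K D := conj_mem_above hη
    have hη'r := pow_above hrL hη'Y
    have hne : η' ≠ η := hS.conj_ne _ (hYsub hη)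
    have h3 := pair_eq (a := fun g => τ₂ η (g ^ r)) (b := fun g => τ₂ η' (g ^ r)) (c := τ₂ (fun x => η (x ^ r)))
      (d := τ₂ (fun x => η' (x ^ r))) (pm_pow hr (hpm η hη)) (hpm _ hηr) (hpm _ hη'r) (by
        rw [Cfsg.Agent.H3.GalProd.ci_pow hr, h2.2.2.1 _ (zs_sub hη'Y) _ (zs_sub hη), ci_irr_ne (hYirr _ hη'Y) (hYirr _ hη) hne]) (by
        rw [hsub _ hηr _ hη'r]
        have h4 := hsub η hη η' hη'Y
        funext g
        have h5 := congrFun h4 (g ^ r)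
        rw [Pi.sub_apply] at h5 ⊢
        rw [h5]
        exact ind_pow hr L _ g) (by
        show τ₂ η (1 ^ r) = _
        rw [one_pow]
        exact hdeg _ hη _ hη'r)
    exact congrFun h3 g
  -- constancy under coprime powers
  have hpw : ∀ r : ℕ, (Nat.card G).Coprime r → ∀ z ∈ Z, z ≠ 1 → τ₂ η ((z : G) ^ r) = τ₂ η (z : G) := by
    intro r hr z hz hz1
    have hrL : (Nat.card L).Coprime r := hr.coprime_dvd_left (Subgroup.card_subgroup_dvd_card L)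
    have hηr := pow_above hrL hη
    rw [heq r hr]
    have h3 := congrFun (hsub _ hηr _ hη) (z : G)
    have hcl : IsClassFunction L ((fun x => η (x ^ r)) - η) :=
      IsGen.isClass (zs_gen (fun χ hχ => gen_of_mem hS (hYsub hχ)) (hdiff _ hηr _ hη).1)
    rw [Cfsg.Agent.H3.CharTI.ind_eq_of_TI' L ((K.map L.subtype : Subgroup G) : Set G) hTI _ hcl (by
      intro x hx
      exact zs_off hK (hdiff _ hηr _ hη).1 x (fun h => hx ⟨x, h, rfl⟩)) z ⟨z, hDK (hZD hz), rfl⟩ hz1,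
      Pi.sub_apply, Pi.sub_apply, ker_above hK hDn hDK hη (hZD hz)] at h3
    have h4 : η (z ^ r) = η 1 := ker_above hK hDn hDK hη (D.pow_mem (hZD hz) r)
    rw [h4, sub_self] at h3
    exact sub_eq_zero.1 h3
  -- all nontrivial elements of `Z` are coprime powers of each other
  intro z hz z' hz' hz1 hz'1
  haveI : Fact p.Prime := ⟨hp⟩
  have hz0 : (⟨z, hz⟩ : Z) ≠ 1 := fun h => hz1 (congrArg Subtype.val h)
  have hgen : (⟨z', hz'⟩ : Z) ∈ Subgroup.zpowers (⟨z, hz⟩ : Z) := mem_zpowers_of_prime_card hZp hz0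
  rw [← mem_powers_iff_mem_zpowers] at hgen
  obtain ⟨k, hk⟩ := hgen
  have hk' : z ^ k = z' := congrArg Subtype.val hk
  have hzp : z ^ p = 1 := by
    have : (⟨z, hz⟩ : Z) ^ p = 1 := by rw [← hZp]; exact pow_card_eq_one'
    exact congrArg Subtype.val this
  have hpk : ¬ p ∣ k := by
    rintro ⟨c, rfl⟩
    apply hz'1
    rw [← hk', pow_mul, hzp, one_pow]
  obtain ⟨r, hr1, hr2⟩ := exists_exp (N := Nat.card G) Nat.card_pos.ne' hp hpk
  have h5 : z ^ r = z' := by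
    rw [← hk']
    have h6 : orderOf z ∣ p := orderOf_dvd_of_pow_eq_one hzp
    exact pow_eq_pow_iff_modEq.2 (hr2.of_dvd h6)
  rw [← h5]
  exact (hpw r hr1 z hz hz1).symm

/-- the congruence modulo `|K|` for a signed irreducible character constant on `Z \ {1}` -/
theorem val_of_const (p : ℕ) [hp : Fact p.Prime] (P : Sylow p G)
    (hPK : (P : Subgroup G) = K.map L.subtype) (hPN : Subgroup.normalizer ((P : Subgroup G) : Set G) = L)
    (hTI : IsTISubset ((P : Subgroup G) : Set G)) (hodd : Odd (Nat.card L))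
    (hZ1 : Z ≠ ⊥) (hZK : Z ≤ K) (hZc : ∀ z ∈ Z, ∀ k ∈ K, z * k = k * z) {Θ : G → ℂ} (hΘ : Pm Θ)
    (hconst : ∀ z ∈ Z, ∀ z' ∈ Z, z ≠ 1 → z' ≠ 1 → Θ (z : G) = Θ (z' : G)) :
    ∃ t : ℤ, ∀ z ∈ Z, z ≠ 1 → Θ 1 - Θ (z : G) = t * (Nat.card K : ℂ) := by
  have hmapcard : Nat.card K = Nat.card (P : Subgroup G) := by
    rw [hPK]
    exact Nat.card_congr (K.equivMapOfInjective L.subtype L.subtype_injective).toEquiv
  have hZpos : ∀ z ∈ Z, z ≠ 1 → (z : G) ≠ 1 := fun z _ h1 h => h1 (Subtype.ext h)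
  obtain ⟨z₀, hz₀⟩ := Subgroup.ne_bot_iff_exists_ne_one.1 hZ1
  have hz₀1 : (z₀ : L) ≠ 1 := fun h => hz₀ (Subtype.ext h)
  have key : ∀ ψ : G → ℂ, IsIrrCharacter G ψ → (∀ z ∈ Z, ∀ z' ∈ Z, z ≠ 1 → z' ≠ 1 → ψ (z : G) = ψ (z' : G)) →
      ∃ t : ℤ, ψ 1 - ψ ((z₀ : L) : G) = t * (Nat.card K : ℂ) := by
    intro ψ hψ hconst
    obtain ⟨c, d, hc, hd, t, ht⟩ := Cfsg.Agent.H10.ClsMul.pf67 p P hTI (by rw [hPN]; exact hodd) (Z.map L.subtype) (by
        intro h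
        rw [Subgroup.map_eq_bot_iff_of_injective _ L.subtype_injective] at h
        exact hZ1 h) (by
        rw [hPK]; exact Subgroup.map_mono hZK) (by
        rw [hPN]
        rintro x hx _ ⟨z, hz, rfl⟩
        exact ⟨⟨x, hx⟩ * z * ⟨x, hx⟩⁻¹, hZn.conj_mem z hz _, rfl⟩) (by
        rintro _ ⟨z, hz, rfl⟩ y hy
        rw [hPK] at hy
        obtain ⟨k, hk, rfl⟩ := hy
        exact congrArg Subtype.val (hZc z hz k hk)) ψ hψ (by
        rintro _ ⟨z, hz, rfl⟩ _ ⟨z', hz', rfl⟩ h3 h4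
        exact hconst z hz z' hz' (fun h => h3 (by rw [h]; rfl)) (fun h => h4 (by rw [h]; rfl)))
      ((z₀ : L) : G) ⟨z₀, z₀.2, rfl⟩ (hZpos _ z₀.2 hz₀1)
    refine ⟨t, ?_⟩
    rw [hc, hd, hmapcard]
    have : ((d - c : ℤ) : ℂ) = ((Nat.card (P : Subgroup G) : ℤ) * t : ℤ) := by rw [ht]
    push_cast at this
    rw [this]; ring
  obtain ⟨t, ht⟩ : ∃ t : ℤ, Θ 1 - Θ ((z₀ : L) : G) = t * (Nat.card K : ℂ) := by
    rcases hΘ with hΘ | hΘ
    · exact key _ hΘ hconst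
    · obtain ⟨t, ht⟩ := key _ hΘ (fun z hz z' hz' h3 h4 => by
        rw [Pi.neg_apply, Pi.neg_apply, hconst z hz z' hz' h3 h4])
      refine ⟨-t, ?_⟩
      rw [Pi.neg_apply, Pi.neg_apply] at ht
      push_cast
      linear_combination -ht
  exact ⟨t, fun z hz hz1 => by rw [hconst z hz z₀ z₀.2 hz1 hz₀1]; exact ht⟩

/-- constancy from the coherence of the irreducible characters nontrivial on `Z` -/
theorem const_of_coh {R : (L → ℂ) → Finset (G → ℂ)}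
    (hS : IsCoherenceSystem (inducedIrrAbove K ⊥) (fun α : L → ℂ => indFun L α) R) (hsolv : Group.IsSolvable K)
    {p n : ℕ} (hp : p.Prime) (hp2 : 3 ≤ p) (hcard : Nat.card K = p ^ n) (he : Nat.Coprime K.index p)
    (hDK : D < K) (hZD : Z ≤ D) (hZ1 : Z ≠ ⊥) (hZc : ∀ z ∈ Z, ∀ k ∈ K, z * k = k * z)
    (hXirr : ∀ χ ∈ inducedIrrAbove K ⊥ \ inducedIrrAbove K Z, IsIrrCharacter L χ)
    (hYirr : ∀ η ∈ inducedIrrAbove K D, IsIrrCharacter L η) {τ₂ : (L → ℂ) → (G → ℂ)}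
    (h2 : IsLinearIsometryOn (zspan (inducedIrrAbove K D)) τ₂)
    (hag2 : ∀ α ∈ zspanOn (inducedIrrAbove K D) {1}ᶜ, τ₂ α = indFun L α) {η : L → ℂ} (hη : η ∈ inducedIrrAbove K D) :
    ∀ z ∈ Z, ∀ z' ∈ Z, z ≠ 1 → z' ≠ 1 → τ₂ η (z : G) = τ₂ η (z' : G) := by
  classical
  haveI := Fintype.ofFinite K
  have hZK : Z ≤ K := hZD.trans hDK.le
  have hXsub : inducedIrrAbove K ⊥ \ inducedIrrAbove K Z ⊆ inducedIrrAbove K ⊥ := Set.diff_subset
  have hYsub : inducedIrrAbove K D ⊆ inducedIrrAbove K ⊥ := fun x hx => SF_mono bot_le hx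
  obtain ⟨-, τ₁, h1, hag1⟩ := x_coh_pgroup hK hp hp2 hcard he hS Z hZ1 hZK hZc hXirr
  have hXc : ∀ φ ∈ inducedIrrAbove K ⊥ \ inducedIrrAbove K Z, conjFun φ ∈ inducedIrrAbove K ⊥ \ inducedIrrAbove K Z :=
    fun φ h => conj_mem_x h
  have hYc : ∀ φ ∈ inducedIrrAbove K D, conjFun φ ∈ inducedIrrAbove K D := fun φ h => conj_mem_above h
  have hXY : ∀ φ ∈ inducedIrrAbove K ⊥ \ inducedIrrAbove K Z, φ ∉ inducedIrrAbove K D := fun φ h h' => h.2 (SF_mono hZD h')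
  have hdeg : ∀ χ ∈ inducedIrrAbove K ⊥, ∃ j : ℕ, χ 1 = ((K.index * p ^ j : ℕ) : ℂ) := by
    rintro _ ⟨θ, hθ, -, -, rfl⟩
    obtain ⟨m, hm, em, hdv⟩ := IsIrr.dvd_card hθ
    rw [hcard] at hdv
    obtain ⟨j, hj, ej⟩ := (Nat.dvd_prime_pow hp).1 hdv
    exact ⟨j, by rw [ind_one, em, ej]; push_cast; rfl⟩
  choose! J hJ using hdeg
  obtain ⟨ξ, hξF, hmin⟩ := Finset.exists_min_image (XF K Z) J (XF_nonempty hK Z hZ1 hZK)
  have hξ := mem_XF.1 hξF
  have hdX : ∀ φ ∈ inducedIrrAbove K ⊥ \ inducedIrrAbove K Z, ∃ m : ℤ, φ 1 = m * ξ 1 := by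
    intro φ hφ
    refine ⟨((p ^ (J φ - J ξ) : ℕ) : ℤ), ?_⟩
    have h3 := hmin φ (mem_XF.2 hφ)
    have h4 : p ^ J φ = p ^ (J φ - J ξ) * p ^ J ξ := by rw [← pow_add]; congr 1; omega
    rw [hJ ξ (hXsub hξ), hJ φ (hXsub hφ), h4]; push_cast; ring
  have hone : ∀ χ ∈ inducedIrrAbove K ⊥, χ 1 ≠ 0 := fun χ h => one_ne hS h
  have hΘ : Pm (τ₂ η) := pm_of_iso hYirr h2 hη
  set f : L → ℂ := fun x => τ₂ η x with hf
  have hfc : IsClassFunction L f := IsClass.res hΘ.isClass L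
  have hprop : ∀ χ ∈ inducedIrrAbove K ⊥ \ inducedIrrAbove K Z, classInner f χ = classInner f ξ / ξ 1 * χ 1 := by
    intro χ hχ
    obtain ⟨m, hm⟩ := hdX χ hχ
    have hm1 : χ - m • ξ ∈ zspanOn (inducedIrrAbove K ⊥ \ inducedIrrAbove K Z) {1}ᶜ := by
      rw [zo_iff]
      refine ⟨zs_diff (zs_sub hχ) (zs_zsmul _ (zs_sub hξ)), ?_⟩
      rw [zc, Pi.sub_apply, Pi.smul_apply, smul_eq_mul, hm, sub_self]
    have h3 : classInner (τ₂ η) (τ₁ (χ - m • ξ)) = 0 :=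
      orth_iso h1 (fun φ hφ => Cfsg.Agent.H10.Sib.orth_two hS hXsub hYsub hXc hYc hXY h1 hag1 h2 hag2 hφ hη) _ hm1.1
    rw [hag1 _ hm1, frobenius' L _ _ hΘ.isClass, zc, ci_sub_right, ci_smul_right, Cfsg.Agent.H10.Sib.cint] at h3
    rw [hm]
    have h4 := hone ξ (hXsub hξ)
    field_simp
    linear_combination h3
  have hval : ∀ z ∈ Z, z ≠ 1 → f 1 - f z = classInner f ξ / ξ 1 * Nat.card L := by
    intro z hz hz1
    refine diff_val hfc Z _ ?_ z hz hz1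
    intro lam hlam hne
    apply hprop
    rw [xset_eq hK Z hZn hZK hXirr]
    exact ⟨hlam, hne⟩
  intro z hz z' hz' h3 h4
  have e1 := hval z hz h3
  have e2 := hval z' hz' h4
  show f z = f z'
  linear_combination e2 - e1

end Main

end Cfsg.Agent.H27.PV4
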