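import Mathlib
import Cfsg.Agent.H27_PV4
import Cfsg.Agent.H1_PF12m
import Cfsg.Agent.S1502

/-!
H27_PV5: type V coherence: TI `p`-groups (Peterfalvi (6.8)(c2)).
-/

set_option autoImplicit false
set_option linter.style.haveILetI false
set_option linter.unusedSectionVars false

namespace Cfsg.Agent.H27.PV5

open Cfsg Cfsg.Agent.H3.CharIrr Cfsg.Agent.H3.CharComplete Cfsg.Agent.H3.CharInd Cfsg.Agent.H3.CharMult
  Cfsg.Agent.H3.CharBasic Cfsg.Agent.H3.CharCalc Cfsg.Agent.H3.Clifford Cfsg.Agent.H3.CharInt Cfsg.Agent.H3.CharQuot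
  Cfsg.Agent.H10.CycTI Cfsg.Agent.H10.CycTI2 Cfsg.Agent.H10.CycTI3 Cfsg.Agent.H10.CycTI4 Cfsg.Agent.H10.PrD2
  Cfsg.Agent.H10.PrD3 Cfsg.Agent.H10.PrD4 Cfsg.Agent.H10.PrD5 Cfsg.Agent.H10.PM Cfsg.Agent.H10.Coh
  Cfsg.Agent.H10.Coh2 Cfsg.Agent.H10.Coh3 Cfsg.Agent.H10.Coh4 Cfsg.Agent.H10.IndSet2 Cfsg.Agent.H10.IndSet3
  Cfsg.Agent.H10.IndSet6 Cfsg.Agent.H10.IndSet7 Cfsg.Agent.H10.OOClif Cfsg.Agent.H10.Sib Cfsg.Agent.H10.Sib2 Cfsg.Agent.H10.PrD6
  Cfsg.Agent.H10.PrD7 Cfsg.Agent.H10.PrD8 Cfsg.Agent.H27.PV1 Cfsg.Agent.H27.PV3 Cfsg.Agent.H27.PV4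
open scoped ComplexConjugate

section Cnt

variable {L : Type*} [Group L] [Finite L] {K : Subgroup L}

theorem stab_dvd (S : Set L) (hconj : ∀ x : L, ∀ s ∈ S, x * s * x⁻¹ ∈ S) (hst : ∀ s ∈ S, ∀ x : L, x * s * x⁻¹ = s → x ∈ K) :
    K.index ∣ Nat.card S := by
  letI : MulAction L S :=
    { smul := fun x z => ⟨x * z.1 * x⁻¹, hconj x z.1 z.2⟩
      one_smul := fun z => Subtype.ext (by
        show (1 : L) * z.1 * (1 : L)⁻¹ = z.1
        group)
      mul_smul := fun x y z => Subtype.ext (by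
        show (x * y) * z.1 * (x * y)⁻¹ = x * (y * z.1 * y⁻¹) * x⁻¹
        group) }
  refine Cfsg.Agent.H10.CohI3.dvd_of_stab_le (X := S) K ?_
  intro z x h
  rw [MulAction.mem_stabilizer_iff] at h
  exact hst z.1 z.2 x (congrArg Subtype.val h)

theorem card_diff {N Z : Subgroup L} (h : Z ≤ N) : Nat.card ((N : Set L) \ Z : Set L) = Nat.card N - Nat.card Z := by
  have h1 := Set.ncard_sdiff (s := (Z : Set L)) (t := (N : Set L)) h
  rw [Nat.card_coe_set_eq, h1, ← Nat.card_coe_set_eq, ← Nat.card_coe_set_eq]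
  rfl

/-- `e ∣ |N : Z| - 1` -/
theorem rel_dvd {N Z : Subgroup L} [hN : N.Normal] [hZ : Z.Normal] (hZN : Z ≤ N) (hNK : N ≤ K)
    (hf : ∀ k ∈ K, k ∉ Z → ∀ x : L, x * k * x⁻¹ * k⁻¹ ∈ Z → x ∈ K) (hcop : Nat.Coprime K.index (Nat.card K)) :
    K.index ∣ Z.relIndex N - 1 := by
  have h1 : K.index ∣ Nat.card ((N : Set L) \ Z : Set L) := by
    apply stab_dvd
    · rintro x s ⟨hs, hsZ⟩
      refine ⟨hN.conj_mem s hs x, fun h => hsZ ?_⟩
      have := hZ.conj_mem _ h x⁻¹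
      have e : x⁻¹ * (x * s * x⁻¹) * x⁻¹⁻¹ = s := by group
      rwa [e] at this
    · rintro s ⟨hs, hsZ⟩ x hx
      refine hf s (hNK hs) hsZ x ?_
      rw [hx, mul_inv_cancel]; exact Z.one_mem
  rw [card_diff hZN] at h1
  have h3 : Nat.card Z * Z.relIndex N = Nat.card N := by
    rw [← Subgroup.relIndex_bot_left, ← Subgroup.relIndex_bot_left, Subgroup.relIndex_mul_relIndex _ _ _ bot_le hZN]
  have h4 : Nat.card N - Nat.card Z = Nat.card Z * (Z.relIndex N - 1) := by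
    rw [Nat.mul_sub, mul_one, h3]
  rw [h4] at h1
  refine Nat.Coprime.dvd_of_dvd_mul_left ?_ h1
  exact hcop.coprime_dvd_right (Subgroup.card_dvd_of_le (hZN.trans hNK))

theorem rel_two {N Z : Subgroup L} [hN : N.Normal] [hZ : Z.Normal] (hZN : Z < N) (hNK : N ≤ K) (hodd : Odd (Nat.card L))
    (hd : K.index ∣ Z.relIndex N - 1) : 2 * K.index + 1 ≤ Z.relIndex N := by
  have h0 : Z.relIndex N ≠ 0 := Subgroup.index_ne_zero_of_finite (H := Z.subgroupOf N)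
  have h2 : Z.relIndex N ≠ 1 := fun h => hZN.not_ge (Subgroup.relIndex_eq_one.1 h)
  obtain ⟨t, ht⟩ := hd
  have h6 : Odd (Z.relIndex N) := by
    apply Odd.of_dvd_nat hodd
    have h3 : Nat.card Z * Z.relIndex N = Nat.card N := by
      rw [← Subgroup.relIndex_bot_left, ← Subgroup.relIndex_bot_left, Subgroup.relIndex_mul_relIndex _ _ _ bot_le hZN.le]
    exact (Dvd.intro_left _ h3).trans (Subgroup.card_subgroup_dvd_card N)
  have he : Odd K.index := hodd.of_dvd_nat K.index_dvd_card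
  have h7 : Even (K.index * t) := by
    rw [← ht]
    obtain ⟨s, hs⟩ := h6
    exact ⟨s, by omega⟩
  rcases Nat.even_mul.1 h7 with h8 | h8
  · exact absurd h8 (Nat.not_even_iff_odd.2 he)
  obtain ⟨s, hs⟩ := h8
  have h4 : s ≠ 0 := by
    rintro rfl
    rw [hs, add_zero, mul_zero] at ht; omega
  have h5 : K.index * 2 ≤ K.index * t := Nat.mul_le_mul_left _ (by omega)
  omega

end Cnt

section Ext

variable {G : Type*} [Group G] [Fintype G] {L : Type*} [Group L] [Fintype L] {K : Subgroup L}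

open Classical in
/-- from `X ∪ Y` to everything -/
theorem ext_all {τ : (L → ℂ) → (G → ℂ)} {R : (L → ℂ) → Finset (G → ℂ)} (hK : K.Normal) (hsolv : Group.IsSolvable K)
    (hS : IsCoherenceSystem (inducedIrrAbove K ⊥) τ R) (hK1 : K ≠ ⊥) {D Z : Subgroup L} [hD : D.Normal] [hZ : Z.Normal] (hZD : Z ≤ D)
    (hDK : D < K) (hcomm : ∀ x ∈ K, ∀ y ∈ K, x * y * x⁻¹ * y⁻¹ ∈ D)
    (hcoh : IsCoherent ((inducedIrrAbove K ⊥ \ inducedIrrAbove K Z) ∪ inducedIrrAbove K D) {1}ᶜ τ)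
    (hineq : ∀ θ : K → ℂ, IsIrrCharacter K θ → (∀ a : K, (a : L) ∈ Z → θ a = θ 1) → ¬ (∀ a : K, (a : L) ∈ D → θ a = θ 1) →
      2 * (K.index : ℝ) * (θ 1).re < ((Nat.card K : ℝ) - (Z.relIndex K : ℝ)) + ((D.relIndex K : ℝ) - 1)) :
    IsCoherent (inducedIrrAbove K ⊥) {1}ᶜ τ := by
  haveI := Fintype.ofFinite K
  have hXsub : inducedIrrAbove K ⊥ \ inducedIrrAbove K Z ⊆ inducedIrrAbove K ⊥ := Set.diff_subset
  have hYsub : inducedIrrAbove K D ⊆ inducedIrrAbove K ⊥ := fun x hx => SF_mono bot_le hx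
  have hXc : ∀ φ ∈ inducedIrrAbove K ⊥ \ inducedIrrAbove K Z, conjFun φ ∈ inducedIrrAbove K ⊥ \ inducedIrrAbove K Z :=
    fun φ h => conj_mem_x h
  have hYc : ∀ φ ∈ inducedIrrAbove K D, conjFun φ ∈ inducedIrrAbove K D := fun φ h => conj_mem_above h
  have hXY : ∀ φ ∈ inducedIrrAbove K ⊥ \ inducedIrrAbove K Z, φ ∉ inducedIrrAbove K D := fun φ h h' => h.2 (SF_mono hZD h')
  have hdY := deg_ab hcomm
  obtain ⟨η₁, hη₁⟩ := above_nonempty hsolv hDK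
  have hcoeU : (↑(XF K Z ∪ SF K D) : Set (L → ℂ)) = (inducedIrrAbove K ⊥ \ inducedIrrAbove K Z) ∪ inducedIrrAbove K D := by
    rw [Finset.coe_union, coe_XF, coe_SF]
  have hdisj : Disjoint (XF K Z) (SF K D) := by
    rw [Finset.disjoint_left]
    intro φ h3 h4
    exact hXY φ (mem_XF.1 h3) (mem_SF.1 h4)
  have he0 : (0 : ℝ) < K.index := by
    exact_mod_cast Nat.pos_of_ne_zero Subgroup.index_ne_zero_of_finite
  obtain ⟨S₁, hS₁, hsub, hB, hc, hcoh'⟩ := propagate hS (above_finite ⊥) (XF K Z ∪ SF K D) (by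
      rw [hcoeU]; exact Set.union_subset hXsub hYsub) (by
      intro φ hφ
      rw [Finset.mem_union, mem_XF, mem_SF] at hφ ⊢
      exact hφ.imp (hXc φ) (hYc φ)) (by rw [hcoeU]; exact hcoh) (inducedIrrAbove K ⊥) le_rfl η₁
    (Finset.mem_union_right _ (mem_SF.2 hη₁)) (by
      rintro ψ ⟨θ, hθ, -, -, rfl⟩
      obtain ⟨m, hm, em⟩ := IsIrr.one_eq_nat hθ
      refine ⟨m, ?_⟩
      rw [ind_one, hdY η₁ hη₁, em]; ring) (by
      intro ψ hψ hψn
      rw [Finset.mem_union, mem_XF, mem_SF, not_or] at hψn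
      have hψZ : ψ ∈ inducedIrrAbove K Z := by
        by_contra h
        exact hψn.1 ⟨hψ, h⟩
      obtain ⟨θ, hθ, hθ1, hθZ, rfl⟩ := hψZ
      have hθD : ¬ (∀ a : K, (a : L) ∈ D → θ a = θ 1) := fun h => hψn.2 ⟨θ, hθ, hθ1, h, rfl⟩
      have h1 := hineq θ hθ hθZ hθD
      rw [Finset.sum_union hdisj, sum_XF hK Z, sum_SF hK D, ind_one, hdY η₁ hη₁, Subgroup.relIndex_bot_left]
      obtain ⟨m, hm, em⟩ := IsIrr.one_eq_nat hθ
      rw [em, Complex.natCast_re] at h1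
      rw [em, ← Nat.cast_mul, Complex.natCast_re, Complex.natCast_re]
      push_cast
      nlinarith)
  exact coh_mono hcoh' hB (exists_ne_zero hS le_rfl (above_nonempty hsolv (bot_lt_iff_ne_bot.2 hK1)) (fun φ hφ => conj_mem_above hφ))

end Ext

section PDs

variable {G : Type*} [Group G] [Fintype G] {L : Subgroup G} [Fintype L] {K : Subgroup L} {W₁ W₂ : Subgroup G} {A : Set G}
  {R : G → Subgroup G} (h : PD L K K W₁ W₂ A R)
include h

/-- centralizers in the TI case -/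
theorem cent_le (hTI : ∀ g : G, g ∉ L → ∀ t ∈ K.map L.subtype, g * t * g⁻¹ ∈ K.map L.subtype → t = 1) :
    ∀ a ∈ A0 L W₁ W₂ A, Subgroup.centralizer ({a} : Set G) ≤ L := by
  intro a ha g hg
  rw [Subgroup.mem_centralizer_singleton_iff] at hg
  have hg' : g * a * g⁻¹ = a := mul_inv_eq_iff_eq_mul.2 hg
  rcases ha with ha | ⟨x, hx, v, hv, rfl⟩
  · by_contra hgL
    obtain ⟨k, hk, hka⟩ := h.A_sub a ha
    have haK : a ∈ K.map L.subtype := ⟨k, hk, hka⟩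
    have h1 := hTI g hgL a haK (by rw [hg']; exact haK)
    exact A_ne h ha h1
  · have h1 : R v = ⊥ := R_V h hv
    have h2 := h.dade.sup_eq v (V_A0 h hv)
    rw [h1, bot_sup_eq] at h2
    have h3 : x⁻¹ * g * x ∈ Subgroup.centralizer ({v} : Set G) := by
      rw [Subgroup.mem_centralizer_singleton_iff]
      have h4 : (x⁻¹ * g * x) * v * (x⁻¹ * g * x)⁻¹ = v := by
        have e : (x⁻¹ * g * x) * v * (x⁻¹ * g * x)⁻¹ = x⁻¹ * (g * (x * v * x⁻¹) * g⁻¹) * x := by group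
        rw [e, hg']; group
      exact mul_inv_eq_iff_eq_mul.1 h4
    rw [← h2] at h3
    have h5 := L.mul_mem (L.mul_mem hx h3.1) (L.inv_mem hx)
    have e : x * (x⁻¹ * g * x) * x⁻¹ = g := by group
    rwa [e] at h5

theorem dade_ind_eq (hTI : ∀ g : G, g ∉ L → ∀ t ∈ K.map L.subtype, g * t * g⁻¹ ∈ K.map L.subtype → t = 1) {α : L → ℂ}
    (hα : α ∈ zspanOn (inducedIrrAbove K ⊥) {1}ᶜ) : indFun L α = dadeIsometry (A0 L W₁ W₂ A) L R α := by
  have hα' : α ∈ zspanOn (indD K K ⊥) {1}ᶜ := by rw [indD_eq]; exact hα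
  refine (Cfsg.Agent.H1.PF12.dade_eq_ind h.dade (cent_le h hTI) ?_ ?_).symm
  · exact IsGen.isClass (zs_gen' h le_rfl (zo_iff.1 hα').1)
  · intro x hx
    exact zo_van h le_rfl hα' (fun hA => hx (Or.inl hA))

theorem sys_ind (hne : (inducedIrrAbove K ⊥).Nonempty)
    (hTI : ∀ g : G, g ∉ L → ∀ t ∈ K.map L.subtype, g * t * g⁻¹ ∈ K.map L.subtype → t = 1) :
    ∃ Rc, IsCoherenceSystem (inducedIrrAbove K ⊥) (fun α : L → ℂ => indFun L α) Rc := by
  obtain ⟨μ, δ, hμ⟩ := exists_MU h.toPT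
  obtain ⟨η, hη⟩ := Cfsg.Agent.S1502.result W₁ W₂ h.self (odd_W h.toPT)
  obtain ⟨Rc, hS, -, -⟩ := system h hμ hη (S := indD K K ⊥) le_rfl (by rw [indD_eq]; exact hne) (fun χ hχ => indD_conj h hχ)
  rw [indD_eq] at hS
  exact ⟨Rc, sys_congr hS fun α hα => dade_ind_eq h hTI hα⟩

end PDs

end Cfsg.Agent.H27.PV5
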