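import Mathlib
import Cfsg.Agent.H27_PV5

/-!
H27_PV6: type V coherence: TI `p`-groups, assembly (Peterfalvi (6.8)(c2)).
-/

set_option autoImplicit false
set_option linter.style.haveILetI false
set_option linter.unusedSectionVars false

namespace Cfsg.Agent.H27.PV6

open Cfsg Cfsg.Agent.H3.CharIrr Cfsg.Agent.H3.CharComplete Cfsg.Agent.H3.CharInd Cfsg.Agent.H3.CharMult
  Cfsg.Agent.H3.CharBasic Cfsg.Agent.H3.CharCalc Cfsg.Agent.H3.Clifford Cfsg.Agent.H3.CharInt Cfsg.Agent.H3.CharQuot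
  Cfsg.Agent.H10.CycTI Cfsg.Agent.H10.CycTI2 Cfsg.Agent.H10.CycTI3 Cfsg.Agent.H10.CycTI4 Cfsg.Agent.H10.PrD2
  Cfsg.Agent.H10.PrD3 Cfsg.Agent.H10.PrD4 Cfsg.Agent.H10.PrD5 Cfsg.Agent.H10.PM Cfsg.Agent.H10.Coh
  Cfsg.Agent.H10.Coh2 Cfsg.Agent.H10.Coh3 Cfsg.Agent.H10.Coh4 Cfsg.Agent.H10.IndSet2 Cfsg.Agent.H10.IndSet3
  Cfsg.Agent.H10.IndSet6 Cfsg.Agent.H10.IndSet7 Cfsg.Agent.H10.OOClif Cfsg.Agent.H10.Sib Cfsg.Agent.H10.Sib2 Cfsg.Agent.H10.PrD6
  Cfsg.Agent.H10.PrD7 Cfsg.Agent.H10.PrD8 Cfsg.Agent.H27.PV1 Cfsg.Agent.H27.PV3 Cfsg.Agent.H27.PV4 Cfsg.Agent.H27.PV5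
open scoped ComplexConjugate

section PTs

variable {G : Type*} [Group G] [Finite G] {L : Subgroup G} [Fintype L] {K : Subgroup L} {W₁ W₂ : Subgroup G} (h : PT L K W₁ W₂)
include h

theorem index_cop : Nat.Coprime K.index (Nat.card K) := by
  rw [index_K h]; exact h.hall

/-- central subgroups missing `W₂`: `L` acts freely modulo `K` -/
theorem central_free {Z : Subgroup L} [hZ : Z.Normal] (hZK : Z ≤ K) (hZc : ∀ z ∈ Z, ∀ k ∈ K, z * k = k * z)
    (hZW : Z ⊓ W₂.subgroupOf L = ⊥) : ∀ z ∈ Z, z ≠ 1 → ∀ x : L, x * z * x⁻¹ = z → x ∈ K := by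
  intro z hz hz1 x hx
  by_contra hxK
  obtain ⟨y, a, b, ha, ha1, hb, e⟩ := conj_ab h hxK
  have hbK : b ∈ K := h.W₂K hb
  have hz' : y * z * y⁻¹ ∈ Z := hZ.conj_mem z hz y
  have h1 : (a * b) * (y * z * y⁻¹) * (a * b)⁻¹ = y * z * y⁻¹ := by
    rw [← e]
    have : y * x * y⁻¹ * (y * z * y⁻¹) * (y * x * y⁻¹)⁻¹ = y * (x * z * x⁻¹) * y⁻¹ := by group
    rw [this, hx]
  have h2 : b * (y * z * y⁻¹) * b⁻¹ = y * z * y⁻¹ := by
    rw [← hZc _ hz' b hbK]; group
  have h3 : a * (y * z * y⁻¹) * a⁻¹ = y * z * y⁻¹ := by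
    have : (a * b) * (y * z * y⁻¹) * (a * b)⁻¹ = a * (b * (y * z * y⁻¹) * b⁻¹) * a⁻¹ := by group
    rw [this, h2] at h1
    exact h1
  have h4 : y * z * y⁻¹ ∈ W₂.subgroupOf L := by
    rw [← h.cent a ha ha1]
    refine ⟨hZK hz', Subgroup.mem_centralizer_singleton_iff.2 ?_⟩
    exact (mul_inv_eq_iff_eq_mul.1 h3).symm
  have h5 : y * z * y⁻¹ ∈ Z ⊓ W₂.subgroupOf L := ⟨hz', h4⟩
  rw [hZW, Subgroup.mem_bot] at h5
  apply hz1
  have := congrArg (fun g => y⁻¹ * g * y) h5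
  simpa [mul_assoc] using this

variable {μ : (↥(W₁ ⊔ W₂) →* ℂˣ) → (L → ℂ)} {δ : (↥(W₁ ⊔ W₂) →* ℂˣ) → ℂ} (hμ : MU K W₁ W₂ μ δ)
include hμ

/-- the invariant characters are trivial on central subgroups missing `W₂` -/
theorem mu_triv [Fintype K] {Z : Subgroup L} [hZ : Z.Normal] (hZK : Z ≤ K) (hZc : ∀ z ∈ Z, ∀ k ∈ K, z * k = k * z)
    (hZW : Z ⊓ W₂.subgroupOf L = ⊥) (ψ : ↥(W₁ ⊔ W₂) →* ℂˣ) {z : L} (hz : z ∈ Z) : μ ψ z = μ ψ 1 := by
  obtain ⟨a₀, ha₀, ha₀1⟩ := exists_W1 h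
  set a : L := ⟨a₀, h.W₁_le ha₀⟩ with hadef
  have ha : a ∈ W₁.subgroupOf L := ha₀
  have ha1 : a ≠ 1 := fun h => ha₀1 (congrArg Subtype.val h)
  let F : Z → Z := fun n => ⟨a * n * a⁻¹ * (n : L)⁻¹, Z.mul_mem (hZ.conj_mem n n.2 a) (Z.inv_mem n.2)⟩
  have hinj : Function.Injective F := by
    intro n m hnm
    have h1 : a * n * a⁻¹ * (n : L)⁻¹ = a * m * a⁻¹ * (m : L)⁻¹ := congrArg Subtype.val hnm
    have h2 : a * ((m : L)⁻¹ * n) * a⁻¹ = (m : L)⁻¹ * n := by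
      have e1 : a * ((m : L)⁻¹ * n) * a⁻¹ = (a * m * a⁻¹)⁻¹ * (a * n * a⁻¹ * (n : L)⁻¹) * n := by group
      rw [e1, h1]; group
    have h3 : (m : L)⁻¹ * n ∈ Z ⊓ W₂.subgroupOf L := by
      refine ⟨Z.mul_mem (Z.inv_mem m.2) n.2, ?_⟩
      rw [← h.cent a ha ha1]
      refine ⟨hZK (Z.mul_mem (Z.inv_mem m.2) n.2), Subgroup.mem_centralizer_singleton_iff.2 ?_⟩
      exact (mul_inv_eq_iff_eq_mul.1 h2).symm
    rw [hZW, Subgroup.mem_bot] at h3
    exact Subtype.ext (inv_mul_eq_one.1 h3).symm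
  obtain ⟨⟨m, hm⟩, hmz⟩ := (Finite.injective_iff_surjective.1 hinj) ⟨z, hz⟩
  have hmz' : a * m * a⁻¹ * m⁻¹ = z := congrArg Subtype.val hmz
  have hmK : m ∈ K := hZK hm
  have hcen : (⟨m⁻¹, K.inv_mem hmK⟩ : K) ∈ Subgroup.center K := by
    rw [Subgroup.mem_center_iff]
    intro k
    exact Subtype.ext (hZc _ (Z.inv_mem hm) k k.2).symm
  obtain ⟨c, -, hc⟩ := IsIrr.central (hμ.res_irr ψ) hcen
  have haK : a * m * a⁻¹ ∈ K := h.normal.conj_mem m hmK a
  have h1 := hc ⟨a * m * a⁻¹, haK⟩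
  have h2 := hc ⟨m, hmK⟩
  have h3 : μ ψ (a * m * a⁻¹ * m⁻¹) = c * μ ψ (a * m * a⁻¹) := h1
  have h4 : μ ψ (m * m⁻¹) = c * μ ψ m := h2
  rw [IsIrr.isClass (hμ.irr ψ) m a, ← h4, hmz', mul_inv_cancel] at h3
  exact h3

end PTs

section PDs

variable {G : Type*} [Group G] [Fintype G] {L : Subgroup G} [Fintype L] {K : Subgroup L} {W₁ W₂ : Subgroup G} {A : Set G}
  {R : G → Subgroup G} (h : PD L K K W₁ W₂ A R)
  {μ : (↥(W₁ ⊔ W₂) →* ℂˣ) → (L → ℂ)} {δ : (↥(W₁ ⊔ W₂) →* ℂˣ) → ℂ} (hμ : MU K W₁ W₂ μ δ)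
include h hμ

/-- the characters trivial on a normal subgroup containing `W₂` are irreducible -/
theorem irr_of_W2 [Fintype K] {D : Subgroup L} (hD : D.Normal) (hDK : D ≤ K) (hW : W₂.subgroupOf L ≤ D) {η : L → ℂ}
    (hη : η ∈ inducedIrrAbove K D) : IsIrrCharacter L η := by
  have h1 : η ∈ indD K K ⊥ := by rw [indD_eq]; exact SF_mono bot_le hη
  rcases indD_cases h hμ h1 with h2 | ⟨ψ, hψ, hψ1, rfl⟩
  · exact h2
  · exfalso
    have hX : ¬ X1 W₁ W₂ ψ := fun hc => hψ1 (eq_one_of_X hc hψ (hdisj h.self) (hcomm h.self))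
    obtain ⟨w, hw, hne⟩ := not_ker h.toPT hμ hX
    have h3 : ∀ a ∈ D, indFun K (fun k : K => μ ψ k) a = indFun K (fun k : K => μ ψ k) 1 :=
      fun a ha => ker_above h.normal hD hDK hη ha
    have h4 := (ker_ind h.normal hD hDK (IsIrr.isCharacter (hμ.res_irr ψ)) (IsIrr.one_ne_zero (hμ.irr ψ))).2 h3
    have hwD : w ∈ D := hW hw
    exact hne (h4 ⟨w, hDK hwD⟩ hwD)

theorem irr_of_free [Fintype K] {Z : Subgroup L} [hZ : Z.Normal] (hZK : Z ≤ K) (hZc : ∀ z ∈ Z, ∀ k ∈ K, z * k = k * z)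
    (hZW : Z ⊓ W₂.subgroupOf L = ⊥) {χ : L → ℂ} (hχ : χ ∈ inducedIrrAbove K ⊥ \ inducedIrrAbove K Z) : IsIrrCharacter L χ := by
  have h1 : χ ∈ indD K K ⊥ := by rw [indD_eq]; exact hχ.1
  rcases indD_cases h hμ h1 with h2 | ⟨ψ, hψ, hψ1, rfl⟩
  · exact h2
  · exfalso
    have h2 := (Cfsg.Agent.H10.IndSet7.ind_mem_iff h.normal Z hZ hZK (hμ.res_irr ψ)).1 hχ
    apply h2
    intro a ha
    exact mu_triv h.toPT hμ hZK hZc hZW ψ ha

end PDs

section Main

variable {G : Type*} [Group G] [Fintype G] {L : Subgroup G} [Fintype L] {K : Subgroup L} {W₁ W₂ : Subgroup G} {A : Set G}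
  {R : G → Subgroup G} (h : PD L K K W₁ W₂ A R)
include h

theorem ti_pcase (p : ℕ) [hp : Fact p.Prime] (P : Sylow p G)
    (hPK : (P : Subgroup G) = K.map L.subtype) (hPN : Subgroup.normalizer ((P : Subgroup G) : Set G) = L)
    (hTI : IsTISubset ((P : Subgroup G) : Set G)) (hW : W₂.subgroupOf L ≤ ⁅K, K⁆) (hr : (Nat.card W₂).Prime) :
    IsCoherent (inducedIrrAbove K ⊥) {1}ᶜ (fun α : L → ℂ => indFun L α) := by
  classical
  haveI hK := h.normal
  haveI := Fintype.ofFinite K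
  have hodd : Odd (Nat.card L) := odd_L h.toPT
  have hmapcard : Nat.card K = Nat.card (P : Subgroup G) := by
    rw [hPK]
    exact Nat.card_congr (K.equivMapOfInjective L.subtype L.subtype_injective).toEquiv
  obtain ⟨n, hn⟩ := IsPGroup.iff_card.1 P.isPGroup'
  have hcard : Nat.card K = p ^ n := by rw [hmapcard]; exact hn
  have hKp : IsPGroup p K := IsPGroup.of_card hcard
  have hnil : Group.IsNilpotent K := hKp.isNilpotent
  have hsolv : Group.IsSolvable K := inferInstance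
  have hW2 : W₂.subgroupOf L ≠ ⊥ := by
    intro h0
    rw [Subgroup.subgroupOf_eq_bot] at h0
    exact h.self.2.1 (disjoint_self.1 (h0.mono_right h.W₂_le))
  have hD1 : (⁅K, K⁆ : Subgroup L) ≠ ⊥ := fun h0 => hW2 (le_bot_iff.1 (h0 ▸ hW))
  have hK1 : K ≠ ⊥ := fun h0 => hW2 (le_bot_iff.1 (h0 ▸ h.W₂K))
  have hTI' : ∀ g : G, g ∉ L → ∀ t ∈ K.map L.subtype, g * t * g⁻¹ ∈ K.map L.subtype → t = 1 := by
    intro g hg t ht ht'
    rw [← hPK] at ht ht'
    exact hTI g (by rw [hPN]; exact hg) t ht ht'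
  obtain ⟨μ, δ, hμ⟩ := exists_MU h.toPT
  obtain ⟨Rc, hS⟩ := sys_ind h (above_nonempty hsolv (bot_lt_iff_ne_bot.2 hK1)) hTI'
  set D : Subgroup L := ⁅K, K⁆ with hD
  have hDK : D < K := comm_lt hsolv hK1
  have hcomm : ∀ x ∈ K, ∀ y ∈ K, x * y * x⁻¹ * y⁻¹ ∈ D := fun x hx y hy => Subgroup.commutator_mem_commutator hx hy
  set e := K.index with he
  have he0 : 0 < e := Nat.pos_of_ne_zero Subgroup.index_ne_zero_of_finite
  have hcopK := index_cop h.toPT
  have hpd : p ∣ Nat.card K := by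
    have h1 : Nat.card K ≠ 1 := fun h0 => hK1 (Subgroup.card_eq_one.1 h0)
    rw [hcard] at h1 ⊢
    exact dvd_pow_self p (by rintro rfl; exact h1 (pow_zero p))
  have hcop : Nat.Coprime e p := hcopK.coprime_dvd_right hpd
  have hpodd : Odd p := hodd.of_dvd_nat (hpd.trans (Subgroup.card_subgroup_dvd_card K))
  have hp3 : 3 ≤ p := by
    have := hp.out.two_le
    obtain ⟨r, hr⟩ := hpodd
    omega
  have hYirr : ∀ η ∈ inducedIrrAbove K D, IsIrrCharacter L η := fun η hη =>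
    irr_of_W2 h hμ inferInstance hDK.le hW hη
  obtain ⟨-, τ₂, h2, hag2⟩ := coh_ab hsolv hS D hDK hcomm
  have hpm : ∀ χ ∈ inducedIrrAbove K D, Pm (τ₂ χ) := fun χ h => pm_of_iso hYirr h2 h
  have hfD := frobQ h.toPT (N := D) hDK.le hW
  have hKD : 2 * e + 1 ≤ D.relIndex K := rel_two hDK le_rfl hodd (rel_dvd hDK.le le_rfl hfD hcopK)
  -- the degree bound
  by_cases hA : (D ⊓ Subgroup.centralizer (K : Set L)) ⊓ W₂.subgroupOf L = ⊥
  · -- case A
    set Z : Subgroup L := D ⊓ Subgroup.centralizer (K : Set L) with hZdef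
    haveI hZn : Z.Normal := by rw [hZdef]; infer_instance
    have hZD : Z ≤ D := inf_le_left
    have hZK : Z ≤ K := hZD.trans hDK.le
    have hZc : ∀ z ∈ Z, ∀ k ∈ K, z * k = k * z := by
      intro z hz k hk
      exact (Subgroup.mem_centralizer_iff.1 hz.2 k hk).symm
    have hZ1 : Z ≠ ⊥ := by
      have h1 : D.subgroupOf K ≠ ⊥ := by
        intro h
        rw [Subgroup.subgroupOf_eq_bot] at h
        exact hD1 (disjoint_self.1 (h.mono_right hDK.le))
      have h2 := Cfsg.Agent.H1.Nilp.normal_inf_center_ne_bot (D.subgroupOf K) h1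
      rw [Subgroup.ne_bot_iff_exists_ne_one] at h2
      obtain ⟨⟨x, hx⟩, hx1⟩ := h2
      intro h3
      apply hx1
      have h4 : (x : L) ∈ Z := by
        refine ⟨Subgroup.mem_subgroupOf.1 hx.1, Subgroup.mem_centralizer_iff.2 ?_⟩
        intro k hk
        exact congrArg Subtype.val ((Subgroup.mem_center_iff.1 hx.2) ⟨k, hk⟩)
      rw [h3, Subgroup.mem_bot] at h4
      exact Subtype.ext (Subtype.ext h4)
    have hfree := central_free h.toPT hZK hZc hA
    have heZ : e ∣ Nat.card Z - 1 := by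
      have h1 : K.index ∣ Nat.card ((Z : Set L) \ ((⊥ : Subgroup L) : Set L) : Set L) := by
        apply stab_dvd
        · rintro x s ⟨hs, hs1⟩
          refine ⟨hZn.conj_mem s hs x, fun h0 => hs1 ?_⟩
          have h0' : x * s * x⁻¹ = 1 := h0
          show s = 1
          exact conj_eq_one_iff.1 h0'
        · rintro s ⟨hs, hs1⟩ x hx
          exact hfree s hs (fun h0 => hs1 h0) x hx
      rw [card_diff bot_le, Subgroup.card_bot] at h1
      exact h1
    have hZcard : 1 < Nat.card Z := by rw [Subgroup.one_lt_card_iff_ne_bot]; exact hZ1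
    have h2e : 2 * e ≤ Nat.card Z - 1 := by
      have hoe : Odd e := hodd.of_dvd_nat K.index_dvd_card
      have hoZ : Odd (Nat.card Z) := hodd.of_dvd_nat (Subgroup.card_subgroup_dvd_card Z)
      have h2 : 2 * e ∣ Nat.card Z - 1 := by
        apply Nat.Coprime.mul_dvd_of_dvd_of_dvd _ _ heZ
        · exact (Nat.coprime_two_left).2 hoe
        · obtain ⟨r, hr⟩ := hoZ
          rw [hr]; exact ⟨r, by omega⟩
      exact Nat.le_of_dvd (by omega) h2
    have hXirr : ∀ χ ∈ inducedIrrAbove K ⊥ \ inducedIrrAbove K Z, IsIrrCharacter L χ := fun χ hχ =>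
      irr_of_free h hμ hZK hZc hA hχ
    have hconst := fun {η : L → ℂ} (hη : η ∈ inducedIrrAbove K D) =>
      const_of_coh hS hsolv hp.out hp3 hcard hcop hDK hZD hZ1 hZc hXirr hYirr h2 hag2 hη
    have hU := union_coh hK hS hsolv hZD hDK hcomm hZ1 hZc hYirr h2 hag2 (fun η hη =>
      val_of_const p P hPK hPN hTI hodd hZ1 hZK hZc (hpm η hη) (hconst hη))
    refine ext_all hK hsolv hS hK1 hZD hDK hcomm hU ?_
    intro θ hθ hθZ hθD
    have hb := central_deg hZc hθ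
    obtain ⟨m, hm, em⟩ := IsIrr.one_eq_nat hθ
    rw [em, Complex.natCast_re] at hb ⊢
    have h3 := Subgroup.relIndex_mul_relIndex (⊥ : Subgroup L) Z K bot_le hZK
    rw [Subgroup.relIndex_bot_left, Subgroup.relIndex_bot_left] at h3
    have h5 : m ^ 2 ≤ Z.relIndex K := by exact_mod_cast hb
    have h6 : m ≤ Z.relIndex K := le_trans (by nlinarith) h5
    have h7 : 2 * e * m ≤ Nat.card K - Z.relIndex K := by
      rw [← h3]
      have h8 : Nat.card Z * Z.relIndex K - Z.relIndex K = (Nat.card Z - 1) * Z.relIndex K := by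
        rw [Nat.sub_mul, one_mul]
      rw [h8]
      exact Nat.mul_le_mul h2e h6
    have h8 : Z.relIndex K ≤ Nat.card K := by
      rw [← h3]; exact Nat.le_mul_of_pos_left _ Nat.card_pos
    have h9 : ((2 * e * m : ℕ) : ℝ) ≤ ((Nat.card K - Z.relIndex K : ℕ) : ℝ) := by exact_mod_cast h7
    push_cast [Nat.cast_sub h8] at h9
    have h10 : (1 : ℝ) < D.relIndex K := by
      have : 1 < D.relIndex K := by omega
      exact_mod_cast this
    linarith
  · -- case B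
    set Z : Subgroup L := W₂.subgroupOf L with hZdef
    have hcardZ : Nat.card Z = Nat.card W₂ := Nat.card_congr (Subgroup.subgroupOfEquivOfLe h.W₂_le).toEquiv
    have hZle : Z ≤ D ⊓ Subgroup.centralizer (K : Set L) := by
      have h1 : (D ⊓ Subgroup.centralizer (K : Set L)) ⊓ Z ≤ Z := inf_le_right
      have h2 : Nat.card ↥((D ⊓ Subgroup.centralizer (K : Set L)) ⊓ Z) ∣ Nat.card Z := Subgroup.card_dvd_of_le h1
      rw [hcardZ] at h2
      rcases (Nat.dvd_prime hr).1 h2 with h3 | h3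
      · exact absurd (Subgroup.card_eq_one.1 h3) hA
      · have h4 : (D ⊓ Subgroup.centralizer (K : Set L)) ⊓ Z = Z :=
          Subgroup.eq_of_le_of_card_ge h1 (by rw [h3, hcardZ])
        rw [← h4]; exact inf_le_left
    have hZD : Z ≤ D := hW
    have hZK : Z ≤ K := h.W₂K
    have hZc : ∀ z ∈ Z, ∀ k ∈ K, z * k = k * z := by
      intro z hz k hk
      exact (Subgroup.mem_centralizer_iff.1 (hZle hz).2 k hk).symm
    have hZcen : ∀ z ∈ Z, ∀ x : L, x * z = z * x := by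
      intro z hz x
      have hx : x ∈ K ⊔ W₁.subgroupOf L := by rw [h.sup]; exact Subgroup.mem_top _
      have hle : K ⊔ W₁.subgroupOf L ≤ Subgroup.centralizer ({z} : Set L) := by
        rw [sup_le_iff]
        constructor
        · intro k hk
          rw [Subgroup.mem_centralizer_singleton_iff]
          exact (hZc z hz k hk).symm
        · intro w hw
          rw [Subgroup.mem_centralizer_singleton_iff]
          exact Subtype.ext (h.self.2.2.2.1 w hw z hz)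
      exact Subgroup.mem_centralizer_singleton_iff.1 (hle hx)
    haveI hZn : Z.Normal := ⟨fun z hz x => by
      rw [hZcen z hz x]; simpa using hz⟩
    have hZ1 : Z ≠ ⊥ := hW2
    have hZp : Nat.card Z = p := by
      have h1 : Nat.card Z ∣ p ^ n := by rw [← hcard]; exact Subgroup.card_dvd_of_le hZK
      rw [hcardZ] at h1 ⊢
      exact (Nat.prime_dvd_prime_iff_eq hr hp.out).1 (hr.dvd_of_dvd_pow h1)
    have hconst := fun {η : L → ℂ} (hη : η ∈ inducedIrrAbove K D) =>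
      const_prime hS hTI' hDK.le hcomm hZD hp.out hZp hYirr h2 hag2 hη
    have hU := union_coh hK hS hsolv hZD hDK hcomm hZ1 hZc hYirr h2 hag2 (fun η hη =>
      val_of_const p P hPK hPN hTI hodd hZ1 hZK hZc (hpm η hη) (hconst hη))
    refine ext_all hK hsolv hS hK1 hZD hDK hcomm hU ?_
    intro θ hθ hθZ hθD
    have hZD' : Z < D := lt_of_le_of_ne hZD (fun h0 => hθD (by rw [← h0]; exact hθZ))
    have hfZ := frobQ h.toPT (N := Z) hZK le_rfl
    have hDZ : 2 * e + 1 ≤ Z.relIndex D := rel_two hZD' hDK.le hodd (rel_dvd hZD hDK.le hfZ hcopK)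
    have hmul := Subgroup.relIndex_mul_relIndex Z D K hZD hDK.le
    have hb := central_deg hZc hθ
    obtain ⟨m, hm, em⟩ := IsIrr.one_eq_nat hθ
    rw [em, Complex.natCast_re] at hb ⊢
    have h3 := Subgroup.relIndex_mul_relIndex (⊥ : Subgroup L) Z K bot_le hZK
    rw [Subgroup.relIndex_bot_left, Subgroup.relIndex_bot_left, hZp] at h3
    have h5 : m ^ 2 ≤ Z.relIndex K := by exact_mod_cast hb
    have h6 : (2 * e + 1) * (2 * e + 1) ≤ Z.relIndex K := by
      rw [← hmul]; exact Nat.mul_le_mul hDZ hKD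
    have h7 : 2 * e * m ≤ Z.relIndex K := by
      have h8 : (2 * e * m) ^ 2 ≤ Z.relIndex K ^ 2 := by
        calc (2 * e * m) ^ 2 = (2 * e) * (2 * e) * m ^ 2 := by ring
          _ ≤ ((2 * e + 1) * (2 * e + 1)) * m ^ 2 := Nat.mul_le_mul_right _ (by nlinarith)
          _ ≤ Z.relIndex K * Z.relIndex K := Nat.mul_le_mul h6 h5
          _ = Z.relIndex K ^ 2 := by ring
      exact (Nat.pow_le_pow_iff_left (by norm_num)).1 h8
    have h9 : Z.relIndex K + Z.relIndex K ≤ Nat.card K := by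
      rw [← h3]; nlinarith
    have h10 : (1 : ℝ) < D.relIndex K := by
      have : 1 < D.relIndex K := by omega
      exact_mod_cast this
    have h11 : ((2 * e * m : ℕ) : ℝ) ≤ (Z.relIndex K : ℝ) := by exact_mod_cast h7
    have h12 : ((Z.relIndex K + Z.relIndex K : ℕ) : ℝ) ≤ (Nat.card K : ℝ) := by exact_mod_cast h9
    push_cast at h11 h12
    linarith

end Main

end Cfsg.Agent.H27.PV6
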