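import Mathlib
import Cfsg.Agent.H27_PV6
import Cfsg.Agent.H10_PrF2

/-!
H27_PV7: type V coherence: the residual case `|K| = p³`, `p + 1 = 2|W₁|`, and the abstract theorem.
-/

set_option autoImplicit false
set_option linter.style.haveILetI false
set_option linter.unusedSectionVars false

namespace Cfsg.Agent.H27.PV7

open Cfsg Cfsg.Agent.H3.CharIrr Cfsg.Agent.H3.CharComplete Cfsg.Agent.H3.CharInd Cfsg.Agent.H3.CharMult
  Cfsg.Agent.H3.CharBasic Cfsg.Agent.H3.CharCalc Cfsg.Agent.H3.Clifford Cfsg.Agent.H3.CharInt Cfsg.Agent.H3.CharQuot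
  Cfsg.Agent.H10.CycTI Cfsg.Agent.H10.CycTI2 Cfsg.Agent.H10.CycTI3 Cfsg.Agent.H10.CycTI4 Cfsg.Agent.H10.PrD2
  Cfsg.Agent.H10.PrD3 Cfsg.Agent.H10.PrD4 Cfsg.Agent.H10.PrD5 Cfsg.Agent.H10.Dade Cfsg.Agent.H10.PM Cfsg.Agent.H10.Coh
  Cfsg.Agent.H10.Coh2 Cfsg.Agent.H10.Coh3 Cfsg.Agent.H10.Coh4 Cfsg.Agent.H10.IndSet2 Cfsg.Agent.H10.IndSet3
  Cfsg.Agent.H10.IndSet6 Cfsg.Agent.H10.IndSet7 Cfsg.Agent.H10.OOClif Cfsg.Agent.H10.Sib Cfsg.Agent.H10.Sib2 Cfsg.Agent.H10.PrD6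
  Cfsg.Agent.H10.PrD7 Cfsg.Agent.H10.PrD8 Cfsg.Agent.H27.PV1 Cfsg.Agent.H27.PV3 Cfsg.Agent.H27.PV4 Cfsg.Agent.H27.PV5
  Cfsg.Agent.H27.PV6 Cfsg.Agent.H10.PrF1 Cfsg.Agent.H10.PrF2 Cfsg.Agent.H10.PrE5
open scoped ComplexConjugate

theorem arith2 {N n a : ℤ} (hn : 0 ≤ n) (hN : 2 * n + 3 ≤ N) (h : N * a ^ 2 - 2 * n * a ≤ 2) : a = 0 := by
  by_contra hne
  have h1 : 1 ≤ a ^ 2 := by
    have : 0 < a ^ 2 := by positivity
    omega
  rcases lt_or_gt_of_ne hne with h0 | h0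
  · have h2 : 0 ≤ n * (-a) := mul_nonneg hn (by omega)
    nlinarith
  · have h2 : a ≤ a ^ 2 := by nlinarith
    have h3 : n * a ≤ n * a ^ 2 := mul_le_mul_of_nonneg_left h2 hn
    nlinarith

section

variable {G : Type*} [Group G] [Fintype G] {L : Subgroup G} [Fintype L] {K : Subgroup L} {W₁ W₂ : Subgroup G} {A : Set G}
  {R : G → Subgroup G} (h : PD L K K W₁ W₂ A R)
  {μ : (↥(W₁ ⊔ W₂) →* ℂˣ) → (L → ℂ)} {δ : (↥(W₁ ⊔ W₂) →* ℂˣ) → ℂ} (hμ : MU K W₁ W₂ μ δ)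
include h hμ

theorem coef_Y {Y : Finset (L → ℂ)} (hYD : (↑Y : Set (L → ℂ)) ⊆ indD K K ⊥) (hYirr : ∀ η ∈ Y, IsIrrCharacter L η)
    (hYd : ∀ η ∈ Y, η 1 = Nat.card W₁) {τ₂ : (L → ℂ) → (G → ℂ)} (e : Ext (↑Y : Set (L → ℂ)) (dadeIsometry (A0 L W₁ W₂ A) L R) τ₂)
    {ζ : L → ℂ} (hζ : ζ ∈ Y) {n : ℤ} (hn0 : 0 ≤ n) (hN : 2 * n + 3 ≤ (Y.card : ℤ)) {φ ψ : ↥(W₁ ⊔ W₂) →* ℂˣ} (hφ : X1 W₁ W₂ φ)
    (hψ : X2 W₁ W₂ ψ) (hψ1 : ψ ≠ 1) (hn : μ ψ 1 = δ ψ + n * Nat.card W₁) :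
    classInner (dadeIsometry (A0 L W₁ W₂ A) L R (alp μ δ ζ n φ ψ)) (τ₂ ζ) = -n := by
  classical
  set τ := dadeIsometry (A0 L W₁ W₂ A) L R with hτ
  have hζi := hYirr ζ hζ
  have hagen := alp_gen h hμ hζi n φ ψ
  have havan : ∀ x : L, (x : G) ∉ A0 L W₁ W₂ A → alp μ δ ζ n φ ψ x = 0 := fun x hx => alp_van h hμ (hYD hζ) (hYd ζ hζ) hφ hψ hn hx
  have hτgen : IsGeneralizedCharacter G (τ (alp μ δ ζ n φ ψ)) := Cfsg.Agent.H10.Dade3.dade_gen h.dade hagen havan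
  have gz := e.1.2.2.2 _ (zs_sub hζ)
  obtain ⟨t, ht⟩ := ci_gen_int hτgen gz
  have hc : ∀ η ∈ Y, classInner (τ (alp μ δ ζ n φ ψ)) (τ₂ η) = (((if η = ζ then t else t + n : ℤ) : ℝ) : ℂ) := by
    intro η hη
    by_cases hne : η = ζ
    · rw [if_pos hne, hne, ht]; simp
    · rw [if_neg hne]
      have h1 : η - ζ ∈ zspanOn (↑Y : Set (L → ℂ)) {1}ᶜ := by
        rw [zo_iff]
        exact ⟨zs_diff (zs_sub hη) (zs_sub hζ), by rw [Pi.sub_apply, hYd η hη, hYd ζ hζ, sub_self]⟩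
      have h2 : τ (η - ζ) = τ₂ η - τ₂ ζ := ext_sub e hη hζ (by rw [hYd η hη, hYd ζ hζ])
      have hgen : IsGeneralizedCharacter L (η - ζ) := IsGen.sub (IsGen.of_irr (hYirr η hη)) (IsGen.of_irr hζi)
      have h3 : classInner (alp μ δ ζ n φ ψ) (η - ζ) = n := by
        have h4 : ∀ η' ∈ Y, ∀ ω, classInner (μ ω) η' = 0 := fun η' h' ω => by
          rw [← ci_conj_symm, zeta_mu h hμ (hYirr η' h') (hYD h'), map_zero]
        rw [alp, zc]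
        simp only [ci_sub_left, ci_sub_right, ci_smul_left, h4 η hη, h4 ζ hζ, ci_irr_self hζi, ci_irr_ne hζi (hYirr η hη) (Ne.symm hne)]
        ring
      have h5 : classInner (τ (alp μ δ ζ n φ ψ)) (τ (η - ζ)) = n := by
        rw [hτ, isometry h.dade (IsGen.isClass hagen) havan (IsGen.isClass hgen), h3]
      rw [h2, ci_sub_right, ht] at h5
      push_cast
      linear_combination h5
  have i6 : classInner (τ (alp μ δ ζ n φ ψ)) (τ (alp μ δ ζ n φ ψ)) = 2 + (n : ℂ) ^ 2 := by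
    rw [hτ, isometry h.dade (IsGen.isClass hagen) havan (IsGen.isClass hagen), (alp_self h hμ hζi (hYD hζ) hψ1).1]
  have hb := bessel_le Y τ₂ (τ (alp μ δ ζ n φ ψ)) (fun η => ((if η = ζ then t else t + n : ℤ) : ℝ)) (fun _ => 1) (by
      intro i hi j hj
      rw [e.1.2.2.1 _ (zs_sub hi) _ (zs_sub hj), ci_irr (hYirr i hi) (hYirr j hj)]
      simp) (fun _ _ => one_pos) hc
  have hs : ∑ η ∈ Y, (((if η = ζ then t else t + n : ℤ) : ℝ)) ^ 2 / 1 = ((t ^ 2 + (Y.card - 1) * (t + n) ^ 2 : ℤ) : ℝ) := by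
    have h1 : ∀ η ∈ Y, (((if η = ζ then t else t + n : ℤ) : ℝ)) ^ 2 / 1 = ((t + n : ℤ) : ℝ) ^ 2 + (if η = ζ then ((t : ℝ) ^ 2 - ((t + n : ℤ) : ℝ) ^ 2) else 0) := by
      intro η _
      by_cases hne : η = ζ
      · rw [if_pos hne, if_pos hne]; ring
      · rw [if_neg hne, if_neg hne]; ring
    rw [Finset.sum_congr rfl h1, Finset.sum_add_distrib, Finset.sum_ite_eq', if_pos hζ, Finset.sum_const, nsmul_eq_mul]
    push_cast
    ring
  rw [hs, i6] at hb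
  have hb2 : t ^ 2 + (Y.card - 1) * (t + n) ^ 2 ≤ 2 + n ^ 2 := by
    have : (((2 : ℂ) + (n : ℂ) ^ 2)).re = ((2 + n ^ 2 : ℤ) : ℝ) := by
      rw [show ((2 : ℂ) + (n : ℂ) ^ 2) = (((2 + n ^ 2 : ℤ) : ℝ) : ℂ) by push_cast; ring, Complex.ofReal_re]
    rw [this] at hb
    exact_mod_cast hb
  have h0 := arith2 (a := t + n) hn0 hN (by nlinarith)
  rw [ht]
  have : t = -n := by omega
  rw [this]; push_cast; ring

end

section Cnt

variable {G : Type*} [Group G] [Finite G]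

/-- the nontrivial characters of `W` trivial on `W₁`, as a finset -/
noncomputable def X2S (W₁ W₂ : Subgroup G) : Finset (↥(W₁ ⊔ W₂) →* ℂˣ) := (Set.toFinite {φ | X2 W₁ W₂ φ ∧ φ ≠ 1}).toFinset

theorem mem_X2S {W₁ W₂ : Subgroup G} {φ : ↥(W₁ ⊔ W₂) →* ℂˣ} : φ ∈ X2S W₁ W₂ ↔ X2 W₁ W₂ φ ∧ φ ≠ 1 := by
  rw [X2S, Set.Finite.mem_toFinset]; rfl

theorem card_X2S {W₁ W₂ : Subgroup G} (hW : IsSelfNormalizingCyclic W₁ W₂) : (X2S W₁ W₂).card = Nat.card W₂ - 1 := by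
  classical
  haveI := Fintype.ofFinite G
  have h1 : ((Set.toFinite {φ : ↥(W₁ ⊔ W₂) →* ℂˣ | X2 W₁ W₂ φ}).toFinset).card = Nat.card W₂ := by
    rw [← card_X2 hW, ← Nat.card_eq_card_finite_toFinset]
    rfl
  rw [← h1, ← Finset.card_erase_of_mem (a := (1 : ↥(W₁ ⊔ W₂) →* ℂˣ)) (by
    rw [Set.Finite.mem_toFinset]; exact X2_one)]
  congr 1
  ext φ
  rw [mem_X2S, Finset.mem_erase, Set.Finite.mem_toFinset]
  exact ⟨fun h => ⟨h.2, h.1⟩, fun h => ⟨h.2, h.1⟩⟩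

end Cnt

section

variable {G : Type*} [Group G] [Fintype G] {L : Subgroup G} [Fintype L] {K : Subgroup L} {W₁ W₂ : Subgroup G} {A : Set G}
  {R : G → Subgroup G} (h : PD L K K W₁ W₂ A R)
  {μ : (↥(W₁ ⊔ W₂) →* ℂˣ) → (L → ℂ)} {δ : (↥(W₁ ⊔ W₂) →* ℂˣ) → ℂ} (hμ : MU K W₁ W₂ μ δ)
include h hμ

theorem mu_deg_ge {p k : ℕ} (hp : p.Prime) (hcard : Nat.card K = p ^ k) (hW : W₂.subgroupOf L ≤ ⁅K, K⁆)
    {ψ : ↥(W₁ ⊔ W₂) →* ℂˣ} (hψ : X2 W₁ W₂ ψ) (hψ1 : ψ ≠ 1) : ∃ m : ℕ, p ≤ m ∧ μ ψ 1 = m := by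
  haveI := Fintype.ofFinite K
  obtain ⟨m, hm0, hm, hd⟩ := IsIrr.dvd_card (hμ.res_irr ψ)
  have hm' : μ ψ 1 = m := hm
  rw [hcard] at hd
  obtain ⟨i, -, hi⟩ := (Nat.dvd_prime_pow hp).1 hd
  refine ⟨m, ?_, hm'⟩
  rcases Nat.eq_zero_or_pos i with h0 | h0
  · exfalso
    rw [h0, pow_zero] at hi
    have hX : ¬ X1 W₁ W₂ ψ := fun hc => hψ1 (eq_one_of_X hc hψ (hdisj h.self) (hcomm h.self))
    obtain ⟨w, hw, hne⟩ := not_ker h.toPT hμ hX
    apply hne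
    have hlin : (fun k : K => μ ψ k) 1 = 1 := by
      show μ ψ ((1 : K) : L) = 1
      rw [Subgroup.coe_one, hm', hi]; simp
    have hw' : w ∈ ⁅K, K⁆ := hW hw
    have hwK : w ∈ K := Subgroup.commutator_le_self K hw'
    have := lin_comm (hμ.res_irr ψ) hlin (k := ⟨w, hwK⟩) hw'
    rw [hm', hi]
    simpa using this
  · rw [hi]
    exact Nat.le_self_pow h0.ne' p

theorem cls_red {p : ℕ} (hp : p.Prime) (hcard : Nat.card K = p ^ 3) (hW : W₂.subgroupOf L ≤ ⁅K, K⁆) (hr : Nat.card W₂ = p)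
    (hrel : (⁅K, K⁆ : Subgroup L).relIndex K = p ^ 2) {Rc : (L → ℂ) → Finset (G → ℂ)}
    (hS : IsCoherenceSystem (inducedIrrAbove K ⊥) (dadeIsometry (A0 L W₁ W₂ A) L R) Rc) :
    (∀ ψ, X2 W₁ W₂ ψ → ψ ≠ 1 → μ ψ 1 = p) ∧
    ∀ χ ∈ inducedIrrAbove K ⊥, χ ∉ inducedIrrAbove K ⁅K, K⁆ → ∃ ψ, X2 W₁ W₂ ψ ∧ ψ ≠ 1 ∧ χ = red K μ ψ := by
  classical
  haveI := h.normal
  haveI := Fintype.ofFinite K
  set D : Subgroup L := ⁅K, K⁆ with hD
  have hDK : D ≤ K := Subgroup.commutator_le_self K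
  have hsum := sum_XF (K := K) h.normal D
  rw [Subgroup.relIndex_bot_left, hcard, hrel] at hsum
  set f : (L → ℂ) → ℝ := fun φ => (φ 1).re ^ 2 / (classInner φ φ).re with hf
  have hfpos : ∀ φ ∈ XF K D, 0 < f φ := by
    intro φ hφ
    have h1 := (mem_XF.1 hφ).1
    refine div_pos ?_ (norm_pos hS h1)
    have h2 := one_ne hS h1
    obtain ⟨m, hm⟩ := IsChar.one_eq_nat (hS.isCharacter φ h1)
    rw [hm] at h2 ⊢
    rw [Complex.natCast_re]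
    have : (m : ℝ) ≠ 0 := by
      intro h3; apply h2; exact_mod_cast h3
    positivity
  have hmem : ∀ ψ ∈ X2S W₁ W₂, red K μ ψ ∈ XF K D := by
    intro ψ hψ
    obtain ⟨h1, h2⟩ := mem_X2S.1 hψ
    rw [mem_XF]
    have h3 : red K μ ψ ∈ indD K K ⊥ := red_mem h hμ h1 h2
    rw [indD_eq] at h3
    refine ⟨h3, fun h4 => ?_⟩
    exact red_not_irr h.toPT hμ h1 (irr_of_W2 h hμ inferInstance hDK hW h4)
  have hinj : Set.InjOn (red K μ) (X2S W₁ W₂ : Set (↥(W₁ ⊔ W₂) →* ℂˣ)) := fun ψ h1 ψ' h2 he =>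
    red_inj h.toPT hμ (mem_X2S.1 h1).1 (mem_X2S.1 h2).1 he
  have hsub : (X2S W₁ W₂).image (red K μ) ⊆ XF K D := by
    intro φ hφ
    obtain ⟨ψ, h1, rfl⟩ := Finset.mem_image.1 hφ
    exact hmem ψ h1
  have hdeg := fun (ψ : {ψ // ψ ∈ X2S W₁ W₂}) => mu_deg_ge h hμ hp hcard hW (mem_X2S.1 ψ.2).1 (mem_X2S.1 ψ.2).2
  have hdeg' : ∀ ψ, ∃ m : ℕ, ψ ∈ X2S W₁ W₂ → (p ≤ m ∧ μ ψ 1 = m) := by
    intro ψ
    by_cases hψ : ψ ∈ X2S W₁ W₂
    · obtain ⟨m, hm⟩ := hdeg ⟨ψ, hψ⟩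
      exact ⟨m, fun _ => hm⟩
    · exact ⟨0, fun h => absurd h hψ⟩
  choose m hm using hdeg'
  have he : (0 : ℝ) < Nat.card W₁ := by exact_mod_cast Nat.card_pos
  have hval : ∀ ψ ∈ X2S W₁ W₂, f (red K μ ψ) = (Nat.card W₁ : ℝ) * (m ψ : ℝ) ^ 2 := by
    intro ψ hψ
    rw [hf]
    simp only
    rw [red_red h.toPT hμ (mem_X2S.1 hψ).1 (mem_X2S.1 hψ).1, if_pos rfl, red_one h.toPT hμ, (hm ψ hψ).2, Complex.natCast_re,
      show ((Nat.card W₁ : ℂ) * (m ψ : ℂ)) = ((Nat.card W₁ * m ψ : ℕ) : ℂ) by push_cast; ring, Complex.natCast_re]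
    push_cast
    field_simp
  have hs1 : ∑ φ ∈ (X2S W₁ W₂).image (red K μ), f φ = ∑ ψ ∈ X2S W₁ W₂, (Nat.card W₁ : ℝ) * (m ψ : ℝ) ^ 2 := by
    rw [Finset.sum_image hinj]
    exact Finset.sum_congr rfl hval
  have hs2 : ∑ φ ∈ XF K D, f φ = ∑ ψ ∈ X2S W₁ W₂, (Nat.card W₁ : ℝ) * (p : ℝ) ^ 2 := by
    rw [Finset.sum_const, card_X2S h.self, hr, nsmul_eq_mul, Nat.cast_sub hp.one_lt.le]
    rw [hsum, index_K h.toPT]
    push_cast; ring
  have hs3 : ∑ ψ ∈ X2S W₁ W₂, (Nat.card W₁ : ℝ) * (p : ℝ) ^ 2 ≤ ∑ ψ ∈ X2S W₁ W₂, (Nat.card W₁ : ℝ) * (m ψ : ℝ) ^ 2 := by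
    apply Finset.sum_le_sum
    intro ψ hψ
    have : (p : ℝ) ≤ m ψ := by exact_mod_cast (hm ψ hψ).1
    gcongr
  have hs4 : ∑ φ ∈ (X2S W₁ W₂).image (red K μ), f φ ≤ ∑ φ ∈ XF K D, f φ :=
    Finset.sum_le_sum_of_subset_of_nonneg hsub (fun φ hφ _ => (hfpos φ hφ).le)
  constructor
  · intro ψ hψ hψ1
    have hψS : ψ ∈ X2S W₁ W₂ := mem_X2S.2 ⟨hψ, hψ1⟩
    have h1 : ∑ ψ ∈ X2S W₁ W₂, ((Nat.card W₁ : ℝ) * (m ψ : ℝ) ^ 2 - (Nat.card W₁ : ℝ) * (p : ℝ) ^ 2) ≤ 0 := by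
      rw [Finset.sum_sub_distrib, ← hs1, ← hs2]; linarith
    have h2 : ∀ ψ ∈ X2S W₁ W₂, 0 ≤ (Nat.card W₁ : ℝ) * (m ψ : ℝ) ^ 2 - (Nat.card W₁ : ℝ) * (p : ℝ) ^ 2 := by
      intro ψ hψ
      have : (p : ℝ) ≤ m ψ := by exact_mod_cast (hm ψ hψ).1
      rw [sub_nonneg]; gcongr
    have h3 := (Finset.sum_eq_zero_iff_of_nonneg h2).1 (le_antisymm h1 (Finset.sum_nonneg h2)) ψ hψS
    have h4 : (m ψ : ℝ) ^ 2 = (p : ℝ) ^ 2 := by
      have : (Nat.card W₁ : ℝ) * ((m ψ : ℝ) ^ 2 - (p : ℝ) ^ 2) = 0 := by linarith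
      have := (mul_eq_zero.1 this).resolve_left he.ne'
      linarith
    have h5 : m ψ = p := by
      have : m ψ ^ 2 = p ^ 2 := by exact_mod_cast h4
      exact (Nat.pow_left_injective (by norm_num : (2 : ℕ) ≠ 0)) this
    rw [(hm ψ hψS).2, h5]
  · intro χ hχ hχD
    by_contra hcon
    push Not at hcon
    have h1 : χ ∈ XF K D \ (X2S W₁ W₂).image (red K μ) := by
      rw [Finset.mem_sdiff, mem_XF]
      refine ⟨⟨hχ, hχD⟩, fun h2 => ?_⟩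
      obtain ⟨ψ, h3, h4⟩ := Finset.mem_image.1 h2
      exact hcon ψ (mem_X2S.1 h3).1 (mem_X2S.1 h3).2 h4.symm
    have h2 := Finset.sum_sdiff hsub (f := f)
    have h3 : f χ ≤ ∑ φ ∈ XF K D \ (X2S W₁ W₂).image (red K μ), f φ :=
      Finset.single_le_sum (fun φ hφ => (hfpos φ (Finset.mem_sdiff.1 hφ).1).le) h1
    have h4 := hfpos χ (Finset.mem_sdiff.1 h1).1
    linarith

end

section

variable {G : Type*} [Group G] [Fintype G] {L : Subgroup G} [Fintype L] {K : Subgroup L} {W₁ W₂ : Subgroup G} {A : Set G}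
  {R : G → Subgroup G} (h : PD L K K W₁ W₂ A R)
include h

/-- the residual case -/
theorem resid {p : ℕ} (hp : p.Prime) (hcard : Nat.card K = p ^ 3) (hpe : p + 1 = 2 * Nat.card W₁) (hW : W₂.subgroupOf L ≤ ⁅K, K⁆)
    (hr : Nat.card W₂ = p) (hrel : (⁅K, K⁆ : Subgroup L).relIndex K = p ^ 2) :
    IsCoherent (inducedIrrAbove K ⊥) {1}ᶜ (dadeIsometry (A0 L W₁ W₂ A) L R) := by
  classical
  haveI hK := h.normal
  haveI := Fintype.ofFinite K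
  haveI := Fact.mk hp
  have hKp : IsPGroup p K := IsPGroup.of_card hcard
  have hnil : Group.IsNilpotent K := hKp.isNilpotent
  have hsolv : Group.IsSolvable K := inferInstance
  have hK1 : K ≠ ⊥ := by
    intro h0
    rw [h0, Subgroup.card_bot] at hcard
    have := hp.one_lt
    have : 1 < p ^ 3 := Nat.one_lt_pow (by norm_num) this
    omega
  have he3 := three_W1 h.toPT
  obtain ⟨μ, δ, hμ⟩ := exists_MU h.toPT
  obtain ⟨η, hη⟩ := Cfsg.Agent.S1502.result W₁ W₂ h.self (odd_W h.toPT)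
  have hne : (inducedIrrAbove K ⊥).Nonempty := above_nonempty hsolv (bot_lt_iff_ne_bot.2 hK1)
  obtain ⟨Rc, hS, -, -⟩ := system h hμ hη (S := indD K K ⊥) le_rfl (by rw [indD_eq]; exact hne) (fun χ hχ => indD_conj h hχ)
  rw [indD_eq] at hS
  obtain ⟨hdegψ, hcls⟩ := cls_red h hμ hp hcard hW hr hrel hS
  set D : Subgroup L := ⁅K, K⁆ with hD
  have hDK : D < K := comm_lt hsolv hK1
  have hcomm' : ∀ x ∈ K, ∀ y ∈ K, x * y * x⁻¹ * y⁻¹ ∈ D := fun x hx y hy => Subgroup.commutator_mem_commutator hx hy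
  set τ := dadeIsometry (A0 L W₁ W₂ A) L R with hτ
  set Y : Finset (L → ℂ) := SF K D with hY
  have hYc : (↑Y : Set (L → ℂ)) = inducedIrrAbove K D := coe_SF D
  have hYS : (↑Y : Set (L → ℂ)) ⊆ inducedIrrAbove K ⊥ := fun φ hφ => by
    rw [hYc] at hφ; exact SF_mono bot_le hφ
  have hYD : (↑Y : Set (L → ℂ)) ⊆ indD K K ⊥ := by rw [indD_eq]; exact hYS
  have hYirr : ∀ η ∈ Y, IsIrrCharacter L η := fun η hη => irr_of_W2 h hμ inferInstance hDK.le hW (mem_SF.1 hη)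
  have hYd : ∀ η ∈ Y, η 1 = Nat.card W₁ := fun η hη => by
    rw [deg_ab hcomm' η (mem_SF.1 hη), index_K h.toPT]
  obtain ⟨-, τ₂, h2, hag2⟩ := coh_ab hsolv hS D hDK hcomm'
  have e2 : Ext (↑Y : Set (L → ℂ)) τ τ₂ := by rw [hYc]; exact ⟨h2, hag2⟩
  obtain ⟨ζ, hζ'⟩ := above_nonempty hsolv hDK
  have hζ : ζ ∈ Y := mem_SF.2 hζ'
  have hζ₀ : ζ ∈ (↑Y : Set (L → ℂ)) := hζ
  have hζi := hYirr ζ hζ
  have hζD := hYD hζ₀
  have hζ1 := hYd ζ hζ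
  have hζc : conjFun ζ ∈ (↑Y : Set (L → ℂ)) := mem_SF.2 (conj_mem_above hζ')
  -- the size of `Y`
  have hYcard : (Y.card : ℤ) = 2 * p - 2 := by
    have h1 := sum_SF hK D
    rw [hrel, index_K h.toPT] at h1
    have h3 : ∑ φ ∈ SF K D, (φ 1).re ^ 2 / (classInner φ φ).re = (Y.card : ℝ) * (Nat.card W₁ : ℝ) ^ 2 := by
      rw [Finset.sum_congr rfl (g := fun _ => (Nat.card W₁ : ℝ) ^ 2), Finset.sum_const, nsmul_eq_mul]
      intro φ hφ
      rw [hYd φ hφ, ci_irr_self (hYirr φ hφ), Complex.natCast_re, Complex.one_re, div_one]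
    rw [h3] at h1
    have he : (Nat.card W₁ : ℝ) ≠ 0 := by
      have : Nat.card W₁ ≠ 0 := by omega
      exact_mod_cast this
    have h4 : (Y.card : ℝ) * Nat.card W₁ = (p : ℝ) ^ 2 - 1 := by
      apply mul_left_cancel₀ he
      push_cast at h1
      linear_combination h1
    have h5 : (p : ℝ) + 1 = 2 * Nat.card W₁ := by exact_mod_cast hpe
    have h6 : (Y.card : ℝ) * Nat.card W₁ = (2 * p - 2) * Nat.card W₁ := by
      rw [h4]; linear_combination (p - 1 : ℝ) * h5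
    have h7 : (Y.card : ℝ) = 2 * p - 2 := mul_right_cancel₀ he h6
    exact_mod_cast h7
  have hz : ZT η (τ₂ ζ) := Cfsg.Agent.H10.PrF2.zt h hμ hζi hζD hη hYD hζ₀ hζc e2
  obtain ⟨n, hB⟩ := br_of h hμ hζi hζD hζ1 hη hz hW (by
    intro n φ ψ h1 h2 h3 h4 h5
    have h6 := hdegψ ψ h2 h3
    rw [h4] at h6
    have h7 : n ≤ 2 := by
      by_contra hc
      push Not at hc
      have h8 : (p : ℤ) + 1 = 2 * Nat.card W₁ := by exact_mod_cast hpe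
      have h9 : (3 : ℤ) ≤ Nat.card W₁ := by exact_mod_cast he3
      rcases hμ.sign ψ with e | e
      · rw [e] at h6
        have : (1 : ℤ) + n * Nat.card W₁ = p := by exact_mod_cast h6
        nlinarith
      · rw [e] at h6
        have : (-1 : ℤ) + n * Nat.card W₁ = p := by exact_mod_cast h6
        nlinarith
    refine coef_Y h hμ hYD hYirr hYd e2 hζ (by omega) ?_ h1 h2 h3 h4
    rw [hYcard]
    have : (p : ℤ) + 1 = 2 * Nat.card W₁ := by exact_mod_cast hpe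
    have : (3 : ℤ) ≤ Nat.card W₁ := by exact_mod_cast he3
    omega)
  have hgz := hB.zt
  obtain ⟨τ₁, e1, -⟩ := coh_of_base hS hYS hζ₀ e2 (by
    intro φ hφ
    by_cases hφY : φ ∈ inducedIrrAbove K D
    · refine ⟨1, ?_, Or.inl (by rw [hYc]; exact hφY)⟩
      rw [hζ1, deg_ab hcomm' φ hφY, index_K h.toPT]; simp
    · obtain ⟨ψ, hψ, hψ1, rfl⟩ := hcls φ hφ hφY
      have hd : red K μ ψ 1 = ((p : ℤ) : ℂ) * ζ 1 := by
        rw [red_one h.toPT hμ, hdegψ ψ hψ hψ1, hζ1]; push_cast; ring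
      refine ⟨p, hd, Or.inr ⟨by rw [hYc]; exact hφY, ?_⟩⟩
      have hdn : (p : ℂ) = δ ψ + n ψ * Nat.card W₁ := by rw [← hB.deg ψ, hdegψ ψ hψ hψ1]
      have hdec : red K μ ψ - (p : ℤ) • ζ = ∑ φ ∈ X1F W₁ W₂, alp μ δ ζ (n ψ) φ ψ + δ ψ • bet K μ ζ := by
        rw [bet_def, red_sum h.toPT hμ ψ, red_sum h.toPT hμ 1, zc]
        simp only [alp, Finset.sum_sub_distrib, Finset.sum_const, card_X1F h.self, zc, ← Finset.smul_sum, one_hom h]
        funext x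
        simp only [Pi.sub_apply, Pi.add_apply, Pi.smul_apply, smul_eq_mul, nsmul_eq_mul]
        push_cast
        simp only [Pi.mul_apply, Pi.natCast_apply, Pi.smul_apply, smul_eq_mul]
        linear_combination - ζ x * hdn
      have hdade : τ (red K μ ψ - (p : ℤ) • ζ) = ∑ φ ∈ X1F W₁ W₂, τ (alp μ δ ζ (n ψ) φ ψ) + δ ψ • τ (bet K μ ζ) := by
        rw [hdec, hτ, dade_add, dade_sum, dade_smul]
      have hbet : τ (bet K μ ζ) = etaC η 1 - τ₂ ζ := hB.bet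
      rw [hdade, hbet]
      have h5 : ∀ φ ∈ X1F W₁ W₂, τ (alp μ δ ζ (n ψ) φ ψ) = δ ψ • (η (φ * ψ) - η φ) - n ψ • τ₂ ζ := fun φ hφ =>
        hB.alp φ ψ (mem_X1F.1 hφ) hψ hψ1
      have h6 : classInner (τ₂ ζ) (etaC η 1) = 0 := by
        rw [etaC, ci_sum_right]
        exact Finset.sum_eq_zero fun φ _ => hz.orth _
      have h7 : ∀ φ ∈ X1F W₁ W₂, classInner (τ₂ ζ) (δ ψ • (η (φ * ψ) - η φ) - n ψ • τ₂ ζ) = -n ψ := by
        intro φ _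
        rw [zc, ci_sub_right, ci_smul_right, ci_smul_right, ci_sub_right, hz.orth, hz.orth, hz.norm, Cfsg.Agent.H10.Sib.cint]
        ring
      rw [Finset.sum_congr rfl h5, ci_add_right, ci_sum_right, Finset.sum_congr rfl h7, Finset.sum_const, card_X1F h.self,
        ci_smul_right, ci_sub_right, h6, hz.norm, conj_d h.toPT hμ, ci_irr_self hζi, nsmul_eq_mul]
      push_cast
      linear_combination hdn)
  exact coh_of_ext hS e1

end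

theorem arith3 {p e : ℕ} (he : 3 ≤ e) (ho : Odd e) (hpo : Odd p) (hd : e ∣ p + 1) (hle : p ^ 2 ≤ 4 * e ^ 2 + 1) : p + 1 = 2 * e := by
  have h2 : 2 * e ∣ p + 1 := by
    apply Nat.Coprime.mul_dvd_of_dvd_of_dvd _ _ hd
    · exact (Nat.coprime_two_left).2 ho
    · obtain ⟨r, hr⟩ := hpo
      rw [hr]; exact ⟨r + 1, by ring⟩
  obtain ⟨k, hk⟩ := h2
  have hk0 : k ≠ 0 := by rintro rfl; omega
  have hk1 : k < 2 := by
    by_contra hc
    push Not at hc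
    have h3 : 4 * e ≤ p + 1 := by rw [hk]; nlinarith
    nlinarith
  have : k = 1 := by omega
  rw [hk, this, mul_one]

section

variable {G : Type*} [Group G] [Fintype G] {L : Subgroup G} [Fintype L] {K : Subgroup L} {W₁ W₂ : Subgroup G} {A : Set G}
  {R : G → Subgroup G} (h : PD L K K W₁ W₂ A R)
include h

/-- Coherence for groups of type V, abstract form -/
theorem typeV (hnil : Group.IsNilpotent K) (hW : W₂.subgroupOf L ≤ ⁅K, K⁆) (hr : (Nat.card W₂).Prime)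
    (hcase : (∀ p m : ℕ, p.Prime → Nat.card K = p ^ m → ∃ (_ : Fact p.Prime) (P : Sylow p G), (P : Subgroup G) = K.map L.subtype ∧
        Subgroup.normalizer ((P : Subgroup G) : Set G) = L ∧ IsTISubset ((P : Subgroup G) : Set G)) ∨
      (∃ p, p.Prime ∧ p ∣ Nat.card K ∧ Nat.card W₁ ∣ p - 1) ∨
      (∃ p, p.Prime ∧ p ∣ Nat.card K ∧ (∀ m, Nat.card K = p ^ m → m = 3) ∧ Nat.card W₁ ∣ p + 1)) :
    IsCoherent (inducedIrrAbove K ⊥) {1}ᶜ (dadeIsometry (A0 L W₁ W₂ A) L R) := by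
  classical
  haveI hK := h.normal
  haveI := Fintype.ofFinite K
  have hodd : Odd (Nat.card L) := odd_L h.toPT
  have hsolv : Group.IsSolvable K := inferInstance
  have hW2 : W₂.subgroupOf L ≠ ⊥ := by
    intro h0
    rw [Subgroup.subgroupOf_eq_bot] at h0
    exact h.self.2.1 (disjoint_self.1 (h0.mono_right h.W₂_le))
  have hD1 : (⁅K, K⁆ : Subgroup L) ≠ ⊥ := fun h0 => hW2 (le_bot_iff.1 (h0 ▸ hW))
  have hK1 : K ≠ ⊥ := fun h0 => hW2 (le_bot_iff.1 (h0 ▸ h.W₂K))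
  have he3 := three_W1 h.toPT
  have hidx := index_K h.toPT
  have hK2 : K < ⊤ := by
    rw [lt_top_iff_ne_top]
    intro h0
    rw [h0, Subgroup.index_top] at hidx
    omega
  obtain ⟨μ, δ, hμ⟩ := exists_MU h.toPT
  obtain ⟨η, hη⟩ := Cfsg.Agent.S1502.result W₁ W₂ h.self (odd_W h.toPT)
  have hne : (inducedIrrAbove K ⊥).Nonempty := above_nonempty hsolv (bot_lt_iff_ne_bot.2 hK1)
  obtain ⟨Rc, hS, -, -⟩ := system h hμ hη (S := indD K K ⊥) le_rfl (by rw [indD_eq]; exact hne) (fun χ hχ => indD_conj h hχ)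
  rw [indD_eq] at hS
  have hDK : ⁅K, K⁆ < K := comm_lt hsolv hK1
  haveI : ((⊥ : Subgroup L).subgroupOf K).Normal := inferInstance
  have hnil' : Group.IsNilpotent (↥K ⧸ (⊥ : Subgroup L).subgroupOf K) := inferInstance
  have h65 := coh_65 hK hsolv hS hodd ⊥ bot_le hnil' ⁅K, K⁆ (by rw [sup_bot_eq]) hDK hK2 (frobQ h.toPT (N := ⁅K, K⁆) hDK.le hW)
  by_contra hcoh
  have hpp : ∃ p m : ℕ, p.Prime ∧ (⊥ : Subgroup L).relIndex K = p ^ m := by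
    by_contra hpp
    exact hcoh (h65 (Or.inr (Or.inr (Or.inl hpp))))
  obtain ⟨p, n, hp, hpn⟩ := hpp
  rw [Subgroup.relIndex_bot_left] at hpn
  have h1 : ¬ K.index ∣ p - 1 := fun h0 =>
    hcoh (h65 (Or.inr (Or.inr (Or.inr (Or.inr ⟨p, n, hp, by rw [Subgroup.relIndex_bot_left]; exact hpn, h0⟩)))))
  have h2 : (⁅K, K⁆ : Subgroup L).relIndex K ≤ 4 * K.index ^ 2 + 1 := by
    by_contra hc
    push Not at hc
    exact hcoh (h65 (Or.inr (Or.inl hc)))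
  rcases hcase with hc | ⟨q, hq, hqd, hqe⟩ | ⟨q, hq, hqd, hq3, hqe⟩
  · obtain ⟨hF, P, hPK, hPN, hTI⟩ := hc p n hp hpn
    have h3 := ti_pcase h p P hPK hPN hTI hW hr
    refine hcoh (coh_congr h3 fun α hα => ?_)
    have hTI' : ∀ g : G, g ∉ L → ∀ t ∈ K.map L.subtype, g * t * g⁻¹ ∈ K.map L.subtype → t = 1 := by
      intro g hg t ht ht'
      rw [← hPK] at ht ht'
      exact hTI g (by rw [hPN]; exact hg) t ht ht'
    exact (dade_ind_eq h hTI' hα).symm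
  · have : q = p := by
      rw [hpn] at hqd
      exact (Nat.prime_dvd_prime_iff_eq hq hp).1 (hq.dvd_of_dvd_pow hqd)
    subst this
    rw [hidx] at h1
    exact h1 hqe
  · have : q = p := by
      rw [hpn] at hqd
      exact (Nat.prime_dvd_prime_iff_eq hq hp).1 (hq.dvd_of_dvd_pow hqd)
    subst this
    have hn3 := hq3 n hpn
    subst hn3
    have hqo : Odd q := hodd.of_dvd_nat (hqd.trans (Subgroup.card_subgroup_dvd_card K))
    have heo : Odd (Nat.card W₁) := by rw [← hidx]; exact hodd.of_dvd_nat K.index_dvd_card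
    have hmul := Subgroup.relIndex_mul_relIndex (⊥ : Subgroup L) ⁅K, K⁆ K bot_le hDK.le
    rw [Subgroup.relIndex_bot_left, Subgroup.relIndex_bot_left, hpn] at hmul
    have hrd : (⁅K, K⁆ : Subgroup L).relIndex K ∣ q ^ 3 := ⟨_, by rw [mul_comm]; exact hmul.symm⟩
    obtain ⟨i, hi, hir⟩ := (Nat.dvd_prime_pow hq).1 hrd
    have hi0 : i ≠ 0 := by
      rintro rfl
      rw [pow_zero, Subgroup.relIndex_eq_one] at hir
      exact hDK.not_ge hir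
    have hi1 : i ≠ 1 := by
      rintro rfl
      rw [pow_one] at hir
      exact not_prime (M := ⊥) hnil' (by rw [sup_bot_eq]) hDK.le (fun h0 => hD1 (le_bot_iff.1 h0)) q hq hir
    have hi3 : i ≠ 3 := by
      rintro rfl
      rw [hir] at hmul
      have hq0 : 0 < q ^ 3 := pow_pos hq.pos 3
      have h4 : Nat.card (⁅K, K⁆ : Subgroup L) = 1 := by
        have : Nat.card (⁅K, K⁆ : Subgroup L) * q ^ 3 = 1 * q ^ 3 := by rw [hmul, one_mul]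
        exact Nat.eq_of_mul_eq_mul_right hq0 this
      exact hD1 (Subgroup.card_eq_one.1 h4)
    have hi2 : i = 2 := by omega
    subst hi2
    have hDq : Nat.card (⁅K, K⁆ : Subgroup L) = q := by
      rw [hir] at hmul
      have hq0 : 0 < q ^ 2 := pow_pos hq.pos 2
      have : Nat.card (⁅K, K⁆ : Subgroup L) * q ^ 2 = q * q ^ 2 := by rw [hmul]; ring
      exact Nat.eq_of_mul_eq_mul_right hq0 this
    have hcardW : Nat.card (W₂.subgroupOf L) = Nat.card W₂ := Nat.card_congr (Subgroup.subgroupOfEquivOfLe h.W₂_le).toEquiv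
    have hW2q : Nat.card W₂ = q := by
      have h5 : Nat.card (W₂.subgroupOf L) ∣ q := by rw [← hDq]; exact Subgroup.card_dvd_of_le hW
      rw [hcardW] at h5
      exact (Nat.prime_dvd_prime_iff_eq hr hq).1 h5
    rw [hir, hidx] at h2
    exact hcoh (resid h hq hpn (arith3 he3 heo hqo hqe h2) hW hW2q hir)

end

end Cfsg.Agent.H27.PV7
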