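import Mathlib
import Cfsg.Agent.H27_PV7
import Cfsg.Agent.H1_PG8c
import Cfsg.Agent.HL_P9h
import Cfsg.Agent.H12_D17

/-!
H27_PV8: coherence for maximal subgroups of type V.
-/

set_option autoImplicit false
set_option linter.unusedSectionVars false

open Pointwise
open scoped commutatorElement

namespace Cfsg.Agent.H27.PV8

open Cfsg Subgroup H13.Syl H12.Loc H12.BG7 H12.BG10 H12.BG11 H12.BG12 H2.Con13 H2.BG14
open H12.BG1212 H12.Ty H2.Ty H1.PG8

universe u

section Pair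

variable {G : Type u} [Group G] [Finite G]

theorem fh_eq {M W₁ U W₂ : Subgroup G} (hP : IsTypePWith M W₁ U W₂) (hU : U = ⊥) : fittingHallOf M = ⁅M, M⁆ := by
  refine le_antisymm hP.U_compl.1 fun x hx => ?_
  obtain ⟨a, ha, b, hb, e⟩ := hP.U_compl.2.2.2 x hx
  rw [hU, Subgroup.mem_bot] at hb
  rw [e, hb, mul_one]; exact ha

theorem prime_W2 (hG : IsMinSimpleOddOrder G) {M W₁ U W₂ : Subgroup G} (hM : IsCoatom M) (hV : IsOfTypeV M)
    (hP : IsTypePWith M W₁ U W₂) : (Nat.card W₂).Prime := by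
  have hC := H12.BG13.con13 hG
  obtain ⟨K, E, U', hKS⟩ := exists_KS_of_kappa hG hC hM (kappa_ne_of_P hG hM hP)
  have hd := hKS.decomp (K_cyc hG hC hKS.co hKS.hall)
  have hU := (c1383_mp hG M hM K U' hd hV).2.1
  obtain ⟨T, E', U'', hpr⟩ := hKS.exists_PR' hG hC
  have h3 : U'' ≠ ⊥ := hpr.u.resolve_left (fun h => h hU)
  obtain ⟨V', hV'⟩ := exists_PU hG hpr.h'
  have h2 := hV'.pw hG
  rw [hpr.e'] at h2
  have hII : IsOfTypeII T := (c1381 hG T hpr.h'.co (st M K) U'' (hpr.h'.decomp h2.W₁_cyclic)).2 ⟨hpr.h'.ne, h3⟩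
  have hdata := HL.P9.dataII (HL.P9.sol_of hG hpr.h'.co) (HL.P9.odd_of hG T) hII h2
  obtain ⟨m, hm, -, e⟩ := P_unique hG hKS hP
  rw [e, H13.Syl.card_cj]; exact hdata.2.1

end Pair

section Main

variable {G : Type u} [Group G] [Fintype G]

theorem coh_V (hG : IsMinSimpleOddOrder G) {M : Subgroup G} [Fintype M] (hM : IsCoatom M) (hV : IsOfTypeV M) :
    IsCoherent (inducedIrrAbove (⁅M, M⁆.subgroupOf M) ⊥) {1}ᶜ (dadeIsometry (H12.Ty.tA0 M) M (supportR M)) := by
  classical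
  obtain ⟨W₁, U, W₂, hP, hU, hc⟩ := id hV
  have hfh := fh_eq hP hU
  have hPD := pd_fh hG hM hP
  rw [hfh] at hPD
  rw [tA0_eq_A0 hG hM hP]
  set K : Subgroup M := ⁅M, M⁆.subgroupOf M with hK
  have hle : (⁅M, M⁆ : Subgroup G) ≤ M := Subgroup.commutator_le_self M
  have hmap : K.map M.subtype = ⁅M, M⁆ := by rw [hK, Subgroup.map_subgroupOf_eq_of_le hle]
  have hcardK : Nat.card K = Nat.card (⁅M, M⁆ : Subgroup G) := Nat.card_congr (Subgroup.subgroupOfEquivOfLe hle).toEquiv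
  have hnil : Group.IsNilpotent K := by
    have h1 := H12.Core.fittingHallOf_isNilpotent M
    rw [hfh] at h1
    haveI := h1
    exact Group.nilpotent_of_mulEquiv (Subgroup.subgroupOfEquivOfLe hle).symm
  have hW : W₂.subgroupOf M ≤ ⁅K, K⁆ := by
    intro x hx
    have h1 : (x : G) ∈ (⁅⁅M, M⁆, ⁅M, M⁆⁆ : Subgroup G) := (hP.W₂_le (Subgroup.mem_subgroupOf.1 hx)).2
    have h2 : (⁅K, K⁆ : Subgroup M).map M.subtype = ⁅⁅M, M⁆, ⁅M, M⁆⁆ := by
      rw [Subgroup.map_commutator, hmap]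
    rw [← h2] at h1
    obtain ⟨y, hy, e⟩ := h1
    have : y = x := Subtype.ext e
    rwa [← this]
  have hr := prime_W2 hG hM hV hP
  refine Cfsg.Agent.H27.PV7.typeV hPD hnil hW hr ?_
  rcases hc with hTI | ⟨p, hp, hpd, hpe, -⟩ | ⟨p, hp, hpd, hp3, hpe, -⟩
  · left
    intro p m hp hpm
    haveI := Fact.mk hp
    refine ⟨⟨hp⟩, ?_⟩
    have hfp : IsPGroup p (fittingHallOf M) := by
      apply IsPGroup.of_card (n := m)
      rw [hfh, ← hcardK, hpm]
    have hcop := (H12.D16.c1389' hG hM (typeCore_eq hG hM)).2.1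
    have hne : fittingHallOf M ≠ ⊥ := fun h0 => hP.H_not_cyclic (by rw [h0]; infer_instance)
    have hpd : p ∣ Nat.card (fittingHallOf M) := by
      have h1 : Nat.card (fittingHallOf M) ≠ 1 := fun h0 => hne (Subgroup.card_eq_one.1 h0)
      have h2 : Nat.card (fittingHallOf M) = p ^ m := by rw [hfh, ← hcardK, hpm]
      rw [h2] at h1 ⊢
      exact dvd_pow_self p (by rintro rfl; exact h1 (pow_zero p))
    have hnd : ¬ p ∣ (fittingHallOf M).index := fun h0 => by
      have := Nat.dvd_gcd hpd h0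
      rw [hcop] at this
      exact hp.one_lt.ne' (Nat.dvd_one.1 this)
    have hsig : fittingHallOf M ≤ sigmaCore M := fittingHallOf_le_sigmaCore hG hM
    have hN : normalizer (fittingHallOf M : Set G) = M := by
      apply le_antisymm
      · apply norm_le_of_hall hG hM hsig hne (H12.Core.fittingHallOf_isNilpotent M)
        exact fh_relIndex_coprime hsig (sigmaCore_le M)
      · exact H12.Core.le_normalizer_fittingHallOf M
    refine ⟨hfp.toSylow hnd, ?_, ?_, ?_⟩
    · rw [hmap, ← hfh]; rfl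
    · exact hN
    · exact hTI
  · right; left
    exact ⟨p, hp, by rw [hcardK, ← hfh]; exact hpd, hpe⟩
  · right; right
    refine ⟨p, hp, by rw [hcardK, ← hfh]; exact hpd, fun m hm => ?_, hpe⟩
    haveI := Fact.mk hp
    have hfp : IsPGroup p (fittingHallOf M) := by
      apply IsPGroup.of_card (n := m)
      rw [hfh, ← hcardK, hm]
    have h1 : pCore p (fittingHallOf M) = ⊤ := by
      rw [eq_top_iff]
      exact le_sSup ⟨inferInstance, hfp.to_subgroup _⟩
    rw [h1, Subgroup.card_top, hfh, ← hcardK, hm] at hp3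
    exact Nat.pow_right_injective hp.two_le hp3

end Main

end Cfsg.Agent.H27.PV8
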