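import Mathlib
import Cfsg.Agent.H27_PV8
import Cfsg.Agent.H10_PrF7

/-!
H27_PV9: there is no maximal subgroup of type V.
-/

set_option autoImplicit false

namespace Cfsg.Agent.H27.PV9

open Cfsg Subgroup

universe u

variable {G : Type u} [Group G] [Finite G]

theorem no_typeV (hG : IsMinSimpleOddOrder G) {M : Subgroup G} (hM : IsCoatom M) : ¬ IsOfTypeV M := by
  classical
  intro hV
  haveI := Fintype.ofFinite G
  haveI := Fintype.ofFinite M
  exact Cfsg.Agent.H10.PrF7.noncoh hG M hM (Or.inr (Or.inr hV)) (Cfsg.Agent.H27.PV8.coh_V hG hM hV)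

end Cfsg.Agent.H27.PV9
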