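import Mathlib
import Cfsg.Agent.H2_PF11a
import Cfsg.Agent.H10_IndSet7

/-! PF §11: (11.1), (11.3), (11.5) -/

set_option autoImplicit false
set_option linter.unusedSectionVars false

open Pointwise
open scoped commutatorElement

namespace Cfsg.Agent.H2.PF11

open Cfsg Subgroup H13.Syl H12.Loc H12.BG7 H12.BG10 H12.BG11 H12.BG12 H2.Con13 H2.BG14 H2.Ty
open H12.BG1212

universe u v

/-- (11.1) -/
theorem pow_bound {p q : ℕ} (hp : p.Prime) (hq : q.Prime) (hp2 : p ≠ 2) (hq2 : q ≠ 2) (hpq : p ≠ q) : 4 * q ^ 2 + 1 < p ^ q := by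
  have h3p : 3 ≤ p := by have := hp.two_le; omega
  have h3q : 3 ≤ q := by have := hq.two_le; omega
  have key : ∀ n, 5 ≤ n → 4 * n ^ 2 + 1 < 3 ^ n := by
    intro n hn
    induction n, hn using Nat.le_induction with
    | base => norm_num
    | succ n hn ih =>
      rw [pow_succ 3 n]
      nlinarith [sq_nonneg (n : ℤ)]
  by_cases h : q = 3
  · subst h
    have h4 : p ≠ 4 := by rintro rfl; exact absurd hp (by norm_num)
    have : 5 ≤ p := by omega
    calc 4 * 3 ^ 2 + 1 < 5 ^ 3 := by norm_num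
      _ ≤ p ^ 3 := Nat.pow_le_pow_left this 3
  · have h4 : q ≠ 4 := by rintro rfl; exact absurd hq (by norm_num)
    have : 5 ≤ q := by omega
    exact (key q this).trans_le (Nat.pow_le_pow_left h3p q)

variable {G : Type u} [Group G] [Finite G]

namespace T34

variable {M W₁ U W₂ : Subgroup G}

theorem odd_sub (h : T34 M W₁ U W₂) (X : Subgroup G) : Odd (Nat.card X) := h.odd.of_dvd_nat (Subgroup.card_subgroup_dvd_card X)

theorem q2 (h : T34 M W₁ U W₂) : Nat.card W₁ ≠ 2 := by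
  intro he
  have := h.odd_sub W₁
  rw [he] at this
  exact absurd this (by decide)

theorem p2 (h : T34 M W₁ U W₂) : Nat.card W₂ ≠ 2 := by
  intro he
  have := h.odd_sub W₂
  rw [he] at this
  exact absurd this (by decide)

theorem W₂H (h : T34 M W₁ U W₂) : W₂ ≤ fittingHallOf M := h.pw.W₂_le.trans inf_le_left

theorem pq (h : T34 M W₁ U W₂) : Nat.card W₂ ≠ Nat.card W₁ := by
  intro he
  have h1 := Nat.Coprime.coprime_dvd_left (card_dvd_of_le h.W₂H) h.copHW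
  rw [he, Nat.coprime_self] at h1
  exact h.q.one_lt.ne' h1

theorem u_gt (h : T34 M W₁ U W₂) : 1 < (CU M U).relIndex U := by
  have h1 : (CU M U).relIndex U ≠ 0 := by
    have := H12.Hall.relIndex_mul (inf_le_left : CU M U ≤ U)
    intro h0
    have h2 : (CU M U).relIndex U * Nat.card (CU M U) = Nat.card U := this
    rw [h0, zero_mul] at h2
    exact Nat.card_pos.ne h2
  have h2 : (CU M U).relIndex U ≠ 1 := by
    rw [Ne, relIndex_eq_one]
    exact h.CU_lt.not_ge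
  omega

/-- `K = M'` inside `M` -/
abbrev KK (M : Subgroup G) : Subgroup M := (⁅M, M⁆ : Subgroup G).subgroupOf M

instance KK_normal (M : Subgroup G) : (KK M).Normal :=
  normal_subgroupOf_of_le_normalizer (H22.Basic.right_le_normalizer_commutator M M)

theorem KK_index (h : T34 M W₁ U W₂) : (KK M).index = Nat.card W₁ := by
  have h1 := H12.Core.IsComplIn_card h.pw.W₁_compl
  have h2 := H12.Hall.relIndex_mul (comm_le_self M)
  rw [← h1, mul_comm] at h2
  exact Nat.eq_of_mul_eq_mul_left Nat.card_pos h2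

theorem norm_of {M N : Subgroup G} (h : M ≤ normalizer (N : Set G)) : (N.subgroupOf M).Normal :=
  normal_subgroupOf_of_le_normalizer h

theorem relIndex_sub {M A B : Subgroup G} (hB : B ≤ M) : (A.subgroupOf M).relIndex (B.subgroupOf M) = A.relIndex B :=
  relIndex_subgroupOf hB

theorem solvK (h : T34 M W₁ U W₂) : Group.IsSolvable (KK M) := by
  haveI := h.solv
  infer_instance

section coh

variable {X : Type v} [Group X] [Fintype X] {τ : (M → ℂ) → (X → ℂ)} {R : (M → ℂ) → Finset (X → ℂ)}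

/-- (11.3) -/
theorem nc [Fintype M] (h : T34 M W₁ U W₂) (hS : IsCoherenceSystem (inducedIrrAbove (KK M) ⊥) τ R)
    (h108 : ¬ IsCoherent (inducedIrrAbove (KK M) ⊥) {1}ᶜ τ) :
    ¬ IsCoherent (inducedIrrAbove (KK M) ((N0 M U).subgroupOf M)) {1}ᶜ τ := by
  intro hc
  apply h108
  haveI := norm_of h.M_N0
  haveI := norm_of h.M_F
  haveI hb : ((⊥ : Subgroup M).subgroupOf ((fittingOf M).subgroupOf M)).Normal := by
    rw [bot_subgroupOf]; infer_instance
  refine H10.IndSet4.coh_63 inferInstance h.solvK hS ⊥ ((N0 M U).subgroupOf M) ((fittingOf M).subgroupOf M) bot_le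
    (subgroupOf_mono M h.N0_le_F) (subgroupOf_mono M h.F_le) ?_ hc ?_
  · haveI : Group.IsNilpotent ((fittingOf M).subgroupOf M) :=
      H12.Core.isNilpotent_subgroupOf (H12.Core.fittingOf_le M) (H12.Core.fittingOf_isNilpotent M)
    infer_instance
  · rw [h.KK_index, relIndex_sub (H12.Core.fittingOf_le M), h.relN0]
    exact pow_bound h.p h.q h.p2 h.q2 h.pq

end coh

theorem mem_comm_of_cent (h : T34 M W₁ U W₂) {k : G} (hk : k ∈ ⁅M, M⁆) {b : G} (hb : b ∈ W₁) (hb1 : b ≠ 1)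
    (hc : b * k * b⁻¹ * k⁻¹ ∈ ⁅⁅M, M⁆, ⁅M, M⁆⁆) : k ∈ ⁅⁅M, M⁆, ⁅M, M⁆⁆ := by
  have hMn : M ≤ normalizer ((⁅⁅M, M⁆, ⁅M, M⁆⁆ : Subgroup G) : Set G) :=
    H22.Basic.le_normalizer_commutator (H22.Basic.right_le_normalizer_commutator M M) (H22.Basic.right_le_normalizer_commutator M M)
  haveI hn := norm_of hMn
  have hkM : k ∈ M := comm_le_self M hk
  have hbM : b ∈ M := h.W₁M hb
  have hzb : zpowers b = W₁ := by
    have h1 : zpowers b ≤ W₁ := zpowers_le.2 hb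
    rcases (Nat.dvd_prime h.q).1 (card_dvd_of_le h1) with h2 | h2
    · rw [Subgroup.card_eq_one, zpowers_eq_bot] at h2
      exact absurd h2 hb1
    · exact H22.Basic.eq_of_le_of_card_le h1 h2.ge
  have hcomm : Commute ((⟨b, hbM⟩ : M) : M ⧸ (⁅⁅M, M⁆, ⁅M, M⁆⁆ : Subgroup G).subgroupOf M) ((⟨k, hkM⟩ : M) : M ⧸ (⁅⁅M, M⁆, ⁅M, M⁆⁆ : Subgroup G).subgroupOf M) := by
    have h1 : ((⟨b, hbM⟩ * ⟨k, hkM⟩ * ⟨b, hbM⟩⁻¹ * ⟨k, hkM⟩⁻¹ : M) : M ⧸ (⁅⁅M, M⁆, ⁅M, M⁆⁆ : Subgroup G).subgroupOf M) = 1 :=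
      (QuotientGroup.eq_one_iff _).2 (mem_subgroupOf.2 hc)
    rw [QuotientGroup.mk_mul, QuotientGroup.mk_mul, QuotientGroup.mk_mul, QuotientGroup.mk_inv, QuotientGroup.mk_inv,
      mul_inv_eq_one, mul_inv_eq_iff_eq_mul] at h1
    exact h1
  obtain ⟨d, hd, hkd⟩ := H1.Coprime.exists_mul_mem_centralizer (A := W₁) (D := ⁅⁅M, M⁆, ⁅M, M⁆⁆) (h.W₁M.trans hMn) (by
      have h3 := h.pw.W₁_hall
      have h1 := H12.Core.IsComplIn_card h.pw.W₁_compl
      have h2 : W₁.relIndex M = Nat.card ↥⁅M, M⁆ := by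
        have h3 := H12.Hall.relIndex_mul h.W₁M
        rw [← h1] at h3
        exact Nat.eq_of_mul_eq_mul_right Nat.card_pos h3
      rw [h2] at h3
      exact Nat.Coprime.coprime_dvd_right (card_dvd_of_le (comm_le_self _)) h3)
    (Or.inr (by
      haveI := h.solv
      exact Group.isSolvable_of_isSolvable_injective (f := inclusion ((comm_le_self _).trans (comm_le_self M))) (inclusion_injective _))) k (by
      intro a ha
      rw [← hzb] at ha
      obtain ⟨n, rfl⟩ := mem_zpowers_iff.1 ha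
      have hcn := hcomm.zpow_left n
      have h2 : ((⟨k, hkM⟩⁻¹ * (⟨b, hbM⟩ ^ n * ⟨k, hkM⟩ * (⟨b, hbM⟩ ^ n)⁻¹) : M) : M ⧸ (⁅⁅M, M⁆, ⁅M, M⁆⁆ : Subgroup G).subgroupOf M) = 1 := by
        rw [QuotientGroup.mk_mul, QuotientGroup.mk_mul, QuotientGroup.mk_mul, QuotientGroup.mk_inv, QuotientGroup.mk_inv,
          QuotientGroup.mk_zpow, hcn.eq]
        group
      exact mem_subgroupOf.1 ((QuotientGroup.eq_one_iff _).1 h2))
  have h4 : k * d ∈ W₂ := by
    rw [← h.pw.W₂_centralizer b hb hb1]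
    exact mem_inf.2 ⟨mul_mem hk ((comm_le_self _) hd), centralizer_le (Set.singleton_subset_iff.2 hb) hkd⟩
  have h5 := (h.pw.W₂_le h4).2
  have h6 : k * d * d⁻¹ ∈ (⁅⁅M, M⁆, ⁅M, M⁆⁆ : Subgroup G) := mul_mem h5 (inv_mem hd)
  rwa [mul_inv_cancel_right] at h6

/-- (11.5) -/
theorem der2 {X : Type v} [Group X] [Fintype X] {τ : (M → ℂ) → (X → ℂ)} {R : (M → ℂ) → Finset (X → ℂ)}
    [Fintype M] (h : T34 M W₁ U W₂) (hS : IsCoherenceSystem (inducedIrrAbove (KK M) ⊥) τ R)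
    (h108 : ¬ IsCoherent (inducedIrrAbove (KK M) ⊥) {1}ᶜ τ) : ⁅⁅M, M⁆, ⁅M, M⁆⁆ = fittingOf M := by
  have hMn : M ≤ normalizer ((⁅⁅M, M⁆, ⁅M, M⁆⁆ : Subgroup G) : Set G) :=
    H22.Basic.le_normalizer_commutator (H22.Basic.right_le_normalizer_commutator M M) (H22.Basic.right_le_normalizer_commutator M M)
  haveI hn := norm_of hMn
  haveI := norm_of h.M_N0
  haveI := norm_of h.M_F
  have hcommK : ∀ x ∈ KK M, ∀ y ∈ KK M, x * y * x⁻¹ * y⁻¹ ∈ (⁅⁅M, M⁆, ⁅M, M⁆⁆ : Subgroup G).subgroupOf M := by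
    intro x hx y hy
    exact mem_subgroupOf.2 (commutator_mem_commutator (mem_subgroupOf.1 hx) (mem_subgroupOf.1 hy))
  have hlt : (⁅⁅M, M⁆, ⁅M, M⁆⁆ : Subgroup G).subgroupOf M < KK M := by
    refine lt_of_le_of_ne (subgroupOf_mono M (comm_le_self _)) ?_
    intro he
    have h1 : (KK M).index ≠ 1 := by rw [h.KK_index]; exact h.q.one_lt.ne'
    have h2 : ⁅M, M⁆ ≤ ⁅⁅M, M⁆, ⁅M, M⁆⁆ := by
      intro x hx
      have : (⟨x, comm_le_self M hx⟩ : M) ∈ (⁅⁅M, M⁆, ⁅M, M⁆⁆ : Subgroup G).subgroupOf M := by rw [he]; exact mem_subgroupOf.2 hx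
      exact mem_subgroupOf.1 this
    have h3 := h2.trans (h.comm2_le)
    have h4 := le_antisymm h.F_le h3
    have h5 := h.relF
    rw [h4, relIndex_self] at h5
    have := h.u_gt
    omega
  have hcoh : IsCoherent (inducedIrrAbove (KK M) ((⁅⁅M, M⁆, ⁅M, M⁆⁆ : Subgroup G).subgroupOf M)) {1}ᶜ τ :=
    H10.IndSet6.coh_ab h.solvK hS _ hlt hcommK
  have hdvd := H10.IndSet5.frob_dvd (K := KK M) (H₁ := (⁅⁅M, M⁆, ⁅M, M⁆⁆ : Subgroup G).subgroupOf M) (N := (fittingOf M).subgroupOf M)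
    (subgroupOf_mono M h.comm2_le) (subgroupOf_mono M h.F_le) hcommK (by
      intro k hk hkn x hx
      by_contra hxK
      apply hkn
      obtain ⟨a, ha, b, hb, hab⟩ := h.pw.W₁_compl.2.2.2 (x : G) x.2
      have hb1 : b ≠ 1 := by
        rintro rfl
        apply hxK
        rw [mul_one] at hab
        rw [mem_subgroupOf, hab]; exact ha
      refine mem_subgroupOf.2 (h.mem_comm_of_cent (mem_subgroupOf.1 hk) hb hb1 ?_)
      have e1 : (x : G) * k * (x : G)⁻¹ * (k : G)⁻¹ ∈ ⁅⁅M, M⁆, ⁅M, M⁆⁆ := mem_subgroupOf.1 hx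
      have hbk : b * k * b⁻¹ ∈ ⁅M, M⁆ :=
        (mem_normalizer_iff.1 (H22.Basic.right_le_normalizer_commutator M M (h.W₁M hb)) _).1 (mem_subgroupOf.1 hk)
      have e2 : a * (b * k * b⁻¹) * a⁻¹ * (b * k * b⁻¹)⁻¹ ∈ ⁅⁅M, M⁆, ⁅M, M⁆⁆ := commutator_mem_commutator ha hbk
      have e3 : b * k * b⁻¹ * (k : G)⁻¹ = (a * (b * k * b⁻¹) * a⁻¹ * (b * k * b⁻¹)⁻¹)⁻¹ * ((x : G) * k * (x : G)⁻¹ * (k : G)⁻¹) := by
        rw [hab]; group
      have e4 : b * k * b⁻¹ * (k : G)⁻¹ = (b * k * b⁻¹ * (k : G)⁻¹) := rfl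
      -- conjugates
      have e5 : (a * (b * k * b⁻¹) * a⁻¹ * (b * k * b⁻¹)⁻¹)⁻¹ * ((x : G) * k * (x : G)⁻¹ * (k : G)⁻¹) ∈ ⁅⁅M, M⁆, ⁅M, M⁆⁆ :=
        mul_mem (inv_mem e2) e1
      rw [e3]; exact e5)
  rw [h.KK_index, relIndex_sub (H12.Core.fittingOf_le M)] at hdvd
  refine le_antisymm h.comm2_le ?_
  rw [← relIndex_eq_one]
  by_contra hm1
  have hcard := H12.Hall.relIndex_mul h.comm2_le
  have hmodd : Odd ((⁅⁅M, M⁆, ⁅M, M⁆⁆ : Subgroup G).relIndex (fittingOf M)) := by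
    have := h.odd_sub (fittingOf M)
    rw [← hcard, Nat.odd_mul] at this
    exact this.1
  have hm0 : 0 < (⁅⁅M, M⁆, ⁅M, M⁆⁆ : Subgroup G).relIndex (fittingOf M) := hmodd.pos
  have hge : 2 * Nat.card W₁ + 1 ≤ (⁅⁅M, M⁆, ⁅M, M⁆⁆ : Subgroup G).relIndex (fittingOf M) := by
    obtain ⟨t, ht⟩ := hdvd
    have hq := h.odd_sub W₁
    have h1 : (⁅⁅M, M⁆, ⁅M, M⁆⁆ : Subgroup G).relIndex (fittingOf M) = Nat.card W₁ * t + 1 := by omega
    have ht2 : Even t := by
      rw [h1] at hmodd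
      have h3 : Even (Nat.card W₁ * t) := by
        rcases Nat.even_or_odd (Nat.card W₁ * t) with h2 | h2
        · exact h2
        · exact absurd (h2.add_odd odd_one) (by simpa using hmodd)
      rcases Nat.even_mul.1 h3 with h4 | h4
      · exact absurd h4 (by simpa using hq)
      · exact h4
    have ht0 : t ≠ 0 := by
      rintro rfl
      omega
    obtain ⟨s, hs⟩ := ht2
    have : 2 ≤ t := by omega
    rw [h1]
    nlinarith
  refine h.nc hS h108 (H10.IndSet3.coh_62 inferInstance h.solvK hS ((⁅⁅M, M⁆, ⁅M, M⁆⁆ : Subgroup G).subgroupOf M) ((N0 M U).subgroupOf M)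
    ((fittingOf M).subgroupOf M) ((fittingOf M).subgroupOf M) hlt ?_ le_rfl (subgroupOf_mono M h.F_le) ?_ hcoh ?_)
  · refine lt_of_le_of_lt (subgroupOf_mono M h.N0_le_F) (lt_of_le_of_ne (subgroupOf_mono M h.F_le) ?_)
    intro he
    have h1 : (fittingOf M).relIndex ⁅M, M⁆ = 1 := by
      rw [← relIndex_sub (comm_le_self M), he, relIndex_self]
    rw [h.relF] at h1
    have := h.u_gt
    omega
  · intro x hx y hy
    exact mem_subgroupOf.2 (h.comm_FN0 (commutator_mem_commutator (mem_subgroupOf.1 hx) (mem_subgroupOf.1 hy)))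
  · have i1 : ((fittingOf M).subgroupOf M).index = Nat.card W₁ * (CU M U).relIndex U := by
      have := relIndex_mul_relIndex (fittingOf M) ⁅M, M⁆ M h.F_le (comm_le_self M)
      have h2 : (⁅M, M⁆ : Subgroup G).relIndex M = Nat.card W₁ := h.KK_index
      rw [h.relF, h2] at this
      rw [mul_comm]; exact this.symm
    have i2 : ((⁅⁅M, M⁆, ⁅M, M⁆⁆ : Subgroup G).subgroupOf M).relIndex (KK M) =
        (⁅⁅M, M⁆, ⁅M, M⁆⁆ : Subgroup G).relIndex (fittingOf M) * (CU M U).relIndex U := by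
      rw [relIndex_sub (comm_le_self M), ← relIndex_mul_relIndex _ _ _ h.comm2_le h.F_le, h.relF]
    rw [i1, relIndex_self, i2, mul_one]
    have hu := h.u_gt
    generalize (CU M U).relIndex U = u at hu ⊢
    generalize (⁅⁅M, M⁆, ⁅M, M⁆⁆ : Subgroup G).relIndex (fittingOf M) = m at hge ⊢
    generalize Nat.card W₁ = q at hge ⊢
    have h5 : 2 * (q * u) < m * u - 1 := by
      have : (2 * q + 1) * u ≤ m * u := Nat.mul_le_mul_right u hge
      have h6 : (2 * q + 1) * u = 2 * (q * u) + u := by ring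
      omega
    calc 4 * (q * u) ^ 2 = (2 * (q * u)) ^ 2 := by ring
      _ < (m * u - 1) ^ 2 := Nat.pow_lt_pow_left h5 (by norm_num)

end T34

end Cfsg.Agent.H2.PF11
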