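import Mathlib
import Cfsg.Agent.H2_PF11a
import Cfsg.Agent.H2_PF11b
import Cfsg.Agent.H2_Extra2
import Cfsg.Agent.H10_IndSet5

/-! PF §11, Part III: `H₀ = 1` and `H` is elementary abelian. -/

set_option autoImplicit false
set_option linter.unusedSectionVars false
set_option linter.style.haveILetI false

open Pointwise
open scoped commutatorElement

namespace Cfsg.Agent.H12.PF11z

open Cfsg Subgroup H13.Syl H12.Loc H12.BG7 H12.BG10 H12.BG11 H12.BG12 H2.Con13 H2.BG14 H2.Ty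
open H12.BG1212 H2.PF11 H2.PF11.T34

universe u

variable {G : Type u} [Group G] [Finite G]

/-- if `H = [H, A] H'` with `A` acting coprimely then `C_H(A) ≤ H'` -/
theorem fix_le_of_comm {A H : Subgroup G} (hA : A ≤ normalizer (H : Set G))
    (hcop : (Nat.card A).Coprime (Nat.card H)) (hHA : H ≤ ⁅H, A⁆ ⊔ ⁅H, H⁆) :
    H ⊓ centralizer (A : Set G) ≤ ⁅H, H⁆ := by
  classical
  haveI : Fintype A := Fintype.ofFinite A
  let act : A → H →* H := fun a =>
    { toFun := fun v => ⟨a * v * (a : G)⁻¹, H1.Coprime.conj_mem_of_le_normalizer hA a.2 v.2⟩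
      map_one' := by ext; simp
      map_mul' := by intro v w; ext; simp [mul_assoc] }
  let θ : H →* Abelianization H :=
    { toFun := fun v => ∏ a : A, Abelianization.of (act a v)
      map_one' := by
        apply Finset.prod_eq_one
        intro a _
        rw [map_one, map_one]
      map_mul' := by
        intro v w
        rw [← Finset.prod_mul_distrib]
        apply Finset.prod_congr rfl
        intro a _
        rw [map_mul, map_mul] }
  have hθ : ∀ v, θ v = ∏ a : A, Abelianization.of (act a v) := fun v => rfl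
  have hinv : ∀ (b : A) (v : H), θ (act b v) = θ v := by
    intro b v
    rw [hθ, hθ]
    refine Fintype.prod_equiv (Equiv.mulRight b) _ _ (fun a => ?_)
    congr 1
    ext; simp [act, mul_assoc]
  have hle : H ≤ (θ.ker).map H.subtype := by
    refine hHA.trans (sup_le ?_ ?_)
    · rw [Subgroup.commutator_le]
      intro v hv a ha
      refine ⟨⟨v, hv⟩ * (act ⟨a, ha⟩ ⟨v, hv⟩)⁻¹, ?_, ?_⟩
      · show θ _ = 1
        rw [map_mul, map_inv, hinv, mul_inv_cancel]
      · simp [act, commutatorElement_def, mul_assoc]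
    · rw [Subgroup.commutator_le]
      intro v hv w hw
      refine ⟨(⁅(⟨v, hv⟩ : H), (⟨w, hw⟩ : H)⁆ : H), ?_, ?_⟩
      · show θ _ = 1
        rw [map_commutatorElement, commutatorElement_eq_one_iff_mul_comm, mul_comm]
      · simp [commutatorElement_def]
  rintro x ⟨hxH, hxC⟩
  obtain ⟨y, hy, hyx⟩ := hle hxH
  have h1 : θ ⟨x, hxH⟩ = 1 := by
    have : y = ⟨x, hxH⟩ := Subtype.ext hyx
    rw [← this]; exact hy
  have h2 : θ ⟨x, hxH⟩ = (Abelianization.of (⟨x, hxH⟩ : H)) ^ (Nat.card A) := by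
    rw [hθ]
    have : ∀ a : A, act a ⟨x, hxH⟩ = ⟨x, hxH⟩ := by
      intro a
      ext
      show a * x * (a : G)⁻¹ = x
      rw [Subgroup.mem_centralizer_iff.mp hxC a a.2]; group
    simp only [this, Finset.prod_const, Finset.card_univ, Nat.card_eq_fintype_card]
  rw [h2, ← map_pow] at h1
  have h3 : (⟨x, hxH⟩ : H) ^ Nat.card A ∈ commutator H := (QuotientGroup.eq_one_iff _).1 h1
  have h4 : (⟨x, hxH⟩ : H) ∈ commutator H := by
    have h6 : (⟨x, hxH⟩ : H) ∈ zpowers ((⟨x, hxH⟩ : H) ^ Nat.card A) :=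
      mem_zpowers_pow_iff.2 (hcop.coprime_dvd_right (_root_.orderOf_dvd_natCard _))
    exact (zpowers_le.2 h3) h6
  have h7 : x ∈ (commutator H).map H.subtype := ⟨_, h4, rfl⟩
  rw [_root_.commutator_def, Subgroup.map_commutator, ← MonoidHom.range_eq_map, H.range_subtype] at h7
  exact h7

theorem le_normalizer_of {A B : Subgroup G} (h : ∀ a ∈ A, ∀ b ∈ B, a * b * a⁻¹ ∈ B) : A ≤ normalizer (B : Set G) := by
  intro a ha
  rw [mem_normalizer_iff]
  intro b
  constructor
  · intro hb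
    exact h a ha b hb
  · intro hb
    have h1 := h a⁻¹ (inv_mem ha) _ hb
    have : a⁻¹ * (a * b * a⁻¹) * a⁻¹⁻¹ = b := by group
    rwa [this] at h1

section

variable {M W₁ U W₂ : Subgroup G}

theorem F_eq_H (h : T34 M W₁ U W₂) (hC : CU M U = ⊥) : fittingOf M = fittingHallOf M := by
  rw [h.F_eq, hC, sup_bot_eq]

/-- `H₀ ≤ H'` -/
theorem H0_le_comm (h : T34 M W₁ U W₂) (hder : ⁅⁅M, M⁆, ⁅M, M⁆⁆ = fittingOf M) (hC : CU M U = ⊥) :
    H0 M U ≤ ⁅fittingHallOf M, fittingHallOf M⁆ := by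
  have hUH : U ≤ normalizer (fittingHallOf M : Set G) := le_sup_left.trans h.UWH
  refine fix_le_of_comm hUH (H12.TypeP.coprime_U h.pw) ?_
  have hUU : ⁅U, U⁆ = ⊥ := by
    rw [eq_bot_iff, ← hC]; exact h.derU
  have h1 : ⁅fittingHallOf M ⊔ U, fittingHallOf M ⊔ U⁆ = fittingHallOf M := by
    rw [h.sup_HU, hder, F_eq_H h hC]
  have hHL : fittingHallOf M ≤ normalizer ((⁅fittingHallOf M, U⁆ ⊔ ⁅fittingHallOf M, fittingHallOf M⁆ : Subgroup G) : Set G) :=
    H22.Basic.le_normalizer_sup (H22.Basic.left_le_normalizer_commutator _ _)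
      (H22.Basic.left_le_normalizer_commutator _ _)
  conv_lhs => rw [← h1]
  refine H12.BG11.comm_sup_le ?_ ?_ hHL hUH
  · rw [commutator_comm]
    refine H12.BG11.comm_sup_le le_sup_right le_sup_left hHL hUH
  · rw [commutator_comm]
    refine H12.BG11.comm_sup_le ?_ ?_ hHL hUH
    · rw [commutator_comm]; exact le_sup_left
    · rw [hUU]; exact bot_le

theorem H0_eq (h : T34 M W₁ U W₂) (hder : ⁅⁅M, M⁆, ⁅M, M⁆⁆ = fittingOf M) (hC : CU M U = ⊥) :
    ⁅fittingHallOf M, fittingHallOf M⁆ = H0 M U := le_antisymm h.comm_H (H0_le_comm h hder hC)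

/-- `x ^ p ∈ H₀` -/
theorem powp (h : T34 M W₁ U W₂) : ∀ x ∈ fittingHallOf M, x ^ Nat.card W₂ ∈ H0 M U := by
  classical
  haveI hn : ((H0 M U).subgroupOf (fittingHallOf M)).Normal := normal_subgroupOf_of_le_normalizer h.H_H0
  have hcm : ∀ a b : (fittingHallOf M ⧸ (H0 M U).subgroupOf (fittingHallOf M)), a * b = b * a := by
    intro a b
    obtain ⟨x, rfl⟩ := QuotientGroup.mk_surjective a
    obtain ⟨y, rfl⟩ := QuotientGroup.mk_surjective b
    rw [← QuotientGroup.mk_mul, ← QuotientGroup.mk_mul, QuotientGroup.eq]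
    rw [mem_subgroupOf]
    have : ((((x * y)⁻¹ * (y * x) : fittingHallOf M)) : G) = ⁅((y : G)⁻¹), ((x : G)⁻¹)⁆ := by
      simp [commutatorElement_def, mul_assoc]
    rw [this]
    exact h.comm_H (commutator_mem_commutator (inv_mem y.2) (inv_mem x.2))
  letI : CommGroup (fittingHallOf M ⧸ (H0 M U).subgroupOf (fittingHallOf M)) := { mul_comm := hcm }
  let φ : fittingHallOf M →* (fittingHallOf M ⧸ (H0 M U).subgroupOf (fittingHallOf M)) :=
    (powMonoidHom (Nat.card W₂)).comp (QuotientGroup.mk' _)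
  have hφ : ∀ x : fittingHallOf M, x ∈ φ.ker ↔ (x : G) ^ Nat.card W₂ ∈ H0 M U := by
    intro x
    rw [MonoidHom.mem_ker]
    show ((x : fittingHallOf M ⧸ (H0 M U).subgroupOf (fittingHallOf M))) ^ Nat.card W₂ = 1 ↔ _
    rw [← QuotientGroup.mk_pow, QuotientGroup.eq_one_iff, mem_subgroupOf]
    rfl
  let K : Subgroup G := φ.ker.map (fittingHallOf M).subtype
  have hK : ∀ x, x ∈ K ↔ x ∈ fittingHallOf M ∧ x ^ Nat.card W₂ ∈ H0 M U := by
    intro x
    constructor
    · rintro ⟨y, hy, rfl⟩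
      exact ⟨y.2, (hφ y).1 hy⟩
    · rintro ⟨h1, h2⟩
      exact ⟨⟨x, h1⟩, (hφ _).2 h2, rfl⟩
  have hKH : K ≤ fittingHallOf M := fun x hx => ((hK x).1 hx).1
  have hK0 : H0 M U ≤ K := fun x hx => (hK x).2 ⟨H0_le hx, pow_mem hx _⟩
  have hKn : U ⊔ W₁ ≤ normalizer (K : Set G) := by
    refine le_normalizer_of ?_
    intro a ha b hb
    obtain ⟨h1, h2⟩ := (hK b).1 hb
    refine (hK _).2 ⟨(mem_normalizer_iff.1 (h.UWH ha) _).1 h1, ?_⟩
    rw [conj_pow]
    exact (mem_normalizer_iff.1 (h.UW_H0 ha) _).1 h2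
  have hne : K ≠ H0 M U := by
    intro he
    haveI := Fact.mk h.p
    have hc : Nat.card (fittingHallOf M ⧸ (H0 M U).subgroupOf (fittingHallOf M)) = Nat.card W₂ ^ Nat.card W₁ := h.relH0
    obtain ⟨z, hz⟩ := exists_prime_orderOf_dvd_card' (G := fittingHallOf M ⧸ (H0 M U).subgroupOf (fittingHallOf M)) (Nat.card W₂)
      (by rw [hc]; exact dvd_pow_self _ h.q.ne_zero)
    obtain ⟨x, rfl⟩ := QuotientGroup.mk_surjective z
    have h1 : x ∈ φ.ker := by
      rw [MonoidHom.mem_ker]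
      show ((x : fittingHallOf M ⧸ (H0 M U).subgroupOf (fittingHallOf M))) ^ Nat.card W₂ = 1
      rw [← hz, pow_orderOf_eq_one]
    have h2 : (x : G) ∈ K := ⟨x, h1, rfl⟩
    rw [he] at h2
    have h3 : (x : fittingHallOf M ⧸ (H0 M U).subgroupOf (fittingHallOf M)) = 1 :=
      (QuotientGroup.eq_one_iff _).2 (mem_subgroupOf.2 h2)
    rw [h3, orderOf_one] at hz
    exact h.p.one_lt.ne hz
  intro x hx
  by_cases hKe : K = fittingHallOf M
  · rw [← hKe] at hx
    exact ((hK x).1 hx).2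
  · exact absurd (h.irr hK0 (lt_of_le_of_ne hKH hKe) hKn) hne

/-- `H` is a `p`-group -/
theorem isP (h : T34 M W₁ U W₂) (hder : ⁅⁅M, M⁆, ⁅M, M⁆⁆ = fittingOf M) (hC : CU M U = ⊥) :
    IsPGroup (Nat.card W₂) (fittingHallOf M) := by
  classical
  haveI := Fact.mk h.p
  obtain ⟨P⟩ : Nonempty (Sylow (Nat.card W₂) (fittingHallOf M)) := inferInstance
  have hP : (P : Subgroup (fittingHallOf M)) = ⊤ := by
    by_contra hne
    obtain ⟨T, hT, hTle⟩ := exists_isCoatom_ge hne
    obtain ⟨-, r, -, h5, -⟩ := H10.FrF9.coatom_facts h.nilH hT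
    have h6 : (H0 M U).subgroupOf (fittingHallOf M) ≤ T := by
      intro x hx
      have h7 : (x : G) ∈ ⁅fittingHallOf M, fittingHallOf M⁆ := H0_le_comm h hder hC (mem_subgroupOf.1 hx)
      have h8 : ⁅fittingHallOf M, fittingHallOf M⁆ ≤ T.map (fittingHallOf M).subtype := by
        rw [commutator_le]
        intro a ha b hb
        exact ⟨_, h5 ⟨a, ha⟩ ⟨b, hb⟩, rfl⟩
      obtain ⟨y, hy, hyx⟩ := h8 h7
      have : y = x := Subtype.ext hyx
      rwa [← this]
    have h7 : T.index ∣ Nat.card W₂ ^ Nat.card W₁ := by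
      rw [← h.relH0]
      exact index_dvd_of_le h6
    have h8 : T.index ∣ (P : Subgroup (fittingHallOf M)).index := index_dvd_of_le hTle
    have h9 : (Nat.card W₂).Coprime T.index := by
      rw [Nat.Prime.coprime_iff_not_dvd h.p]
      intro hd
      exact P.not_dvd_index (hd.trans h8)
    have h10 : T.index = 1 := Nat.Coprime.eq_one_of_dvd (Nat.Coprime.pow_right (Nat.card W₁) h9.symm) h7
    exact hT.1 (index_eq_one.1 h10)
  have h1 := P.2
  rw [hP] at h1
  exact h1.of_equiv topEquiv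

/-- the sections of `H / H₀` have orders `≡ 1` modulo `|U|` -/
theorem sect (h : T34 M W₁ U W₂)
    (free : ∀ u ∈ U, u ≠ 1 → ∀ x ∈ fittingHallOf M, u * x * u⁻¹ * x⁻¹ ∈ H0 M U → x ∈ H0 M U)
    {R : Subgroup G} (h0 : H0 M U ≤ R) (hR : R ≤ fittingHallOf M) (hn : fittingHallOf M ⊔ U ≤ normalizer (R : Set G)) :
    Nat.card U ∣ (H0 M U).relIndex R - 1 := by
  have hUH : U ≤ normalizer (fittingHallOf M : Set G) := le_sup_left.trans h.UWH
  haveI i1 : ((fittingHallOf M).subgroupOf (fittingHallOf M ⊔ U)).Normal :=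
    normal_subgroupOf_of_le_normalizer (sup_le le_normalizer hUH)
  haveI i2 : ((H0 M U).subgroupOf (fittingHallOf M ⊔ U)).Normal :=
    normal_subgroupOf_of_le_normalizer (sup_le h.H_H0 (le_sup_left.trans h.UW_H0))
  haveI i3 : (R.subgroupOf (fittingHallOf M ⊔ U)).Normal := normal_subgroupOf_of_le_normalizer hn
  have h1 := H10.IndSet5.frob_dvd (K := (fittingHallOf M).subgroupOf (fittingHallOf M ⊔ U))
    (H₁ := (H0 M U).subgroupOf (fittingHallOf M ⊔ U)) (N := R.subgroupOf (fittingHallOf M ⊔ U))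
    (subgroupOf_mono _ h0) (subgroupOf_mono _ hR) (by
      intro x hx y hy
      refine mem_subgroupOf.2 (h.comm_H ?_)
      exact commutator_mem_commutator (mem_subgroupOf.1 hx) (mem_subgroupOf.1 hy)) (by
      intro k hk hk0 x hx
      by_contra hxK
      apply hk0
      obtain ⟨a, ha, b, hb, hab⟩ := (H22.Basic.mem_sup_of_le_normalizer hUH).1 x.2
      have hb1 : b ≠ 1 := by
        rintro rfl
        apply hxK
        rw [mul_one] at hab
        rw [mem_subgroupOf, ← hab]; exact ha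
      refine mem_subgroupOf.2 (free b hb hb1 k (mem_subgroupOf.1 hk) ?_)
      have e1 : (x : G) * k * (x : G)⁻¹ * (k : G)⁻¹ ∈ H0 M U := mem_subgroupOf.1 hx
      have hbk : b * k * b⁻¹ ∈ fittingHallOf M := (mem_normalizer_iff.1 (hUH hb) _).1 (mem_subgroupOf.1 hk)
      have e2 : a * (b * k * b⁻¹) * a⁻¹ * (b * k * b⁻¹)⁻¹ ∈ H0 M U := h.comm_H (commutator_mem_commutator ha hbk)
      have e3 : b * k * b⁻¹ * (k : G)⁻¹ = (a * (b * k * b⁻¹) * a⁻¹ * (b * k * b⁻¹)⁻¹)⁻¹ * ((x : G) * k * (x : G)⁻¹ * (k : G)⁻¹) := by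
        rw [← hab]; group
      rw [e3]
      exact mul_mem (inv_mem e2) e1)
  rw [T34.relIndex_sub (hR.trans le_sup_left)] at h1
  have h2 : ((fittingHallOf M).subgroupOf (fittingHallOf M ⊔ U)).index = Nat.card U := by
    have h3 := H12.Hall.relIndex_mul (le_sup_left : fittingHallOf M ≤ fittingHallOf M ⊔ U)
    have h4 : Nat.card ↥(fittingHallOf M ⊔ U) = Nat.card (fittingHallOf M) * Nat.card U := by
      rw [h.sup_HU, h.card_M']
    rw [h4, mul_comm (Nat.card (fittingHallOf M)) (Nat.card U)] at h3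
    exact Nat.eq_of_mul_eq_mul_right Nat.card_pos h3
  rwa [h2] at h1

theorem H0_bot (h : T34 M W₁ U W₂) (hder : ⁅⁅M, M⁆, ⁅M, M⁆⁆ = fittingOf M) (hC : CU M U = ⊥)
    (hu : 2 * Nat.card W₁ < Nat.card U) (hlt : Nat.card W₂ < Nat.card W₁)
    (free : ∀ u ∈ U, u ≠ 1 → ∀ x ∈ fittingHallOf M, u * x * u⁻¹ * x⁻¹ ∈ H0 M U → x ∈ H0 M U) :
    H0 M U = ⊥ := by
  classical
  by_contra hne
  haveI hpf := Fact.mk h.p
  have hPH := isP h hder hC
  have hUH : U ≤ normalizer (fittingHallOf M : Set G) := le_sup_left.trans h.UWH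
  have hP0 : IsPGroup (Nat.card W₂) (H0 M U) := hPH.to_le H0_le
  have hD : ¬ H0 M U ≤ ⁅H0 M U, fittingHallOf M⁆ := H1.Coprime.commutator_lt_of_nilpotent h.nilH H0_le hne
  have hD' : (⁅H0 M U, fittingHallOf M⁆).subgroupOf (H0 M U) ≠ ⊤ := by
    rw [Ne, subgroupOf_eq_top]; exact hD
  obtain ⟨T, hT, hDT⟩ := exists_isCoatom_ge hD'
  obtain ⟨-, hTi⟩ := H1.Nilp.index_eq_of_isCoatom_pgroup hP0 hT
  obtain ⟨N, hNdef⟩ : ∃ N : Subgroup G, N = T.map (H0 M U).subtype := ⟨_, rfl⟩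
  have hN0 : N ≤ H0 M U := by rw [hNdef]; exact map_subtype_le _
  have hNT : N.subgroupOf (H0 M U) = T := by
    rw [hNdef, subgroupOf, comap_map_eq_self_of_injective (subtype_injective _)]
  have hNi : N.relIndex (H0 M U) = Nat.card W₂ := by
    rw [relIndex, hNT, hTi]
  have hcH0 : ⁅H0 M U, fittingHallOf M⁆ ≤ H0 M U := H22.Basic.commutator_le_left h.H_H0
  have hDN : ⁅H0 M U, fittingHallOf M⁆ ≤ N := by
    intro x hx
    rw [hNdef]
    exact ⟨⟨x, hcH0 hx⟩, hDT (mem_subgroupOf.2 hx), rfl⟩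
  have hNH : N ≤ fittingHallOf M := hN0.trans H0_le
  have hHN : fittingHallOf M ≤ normalizer (N : Set G) := by
    refine le_normalizer_of ?_
    intro a ha b hb
    have e : a * b * a⁻¹ = (b * a * b⁻¹ * a⁻¹)⁻¹ * b := by group
    rw [e]
    exact mul_mem (inv_mem (hDN (commutator_mem_commutator (hN0 hb) ha))) hb
  have hUN : U ≤ normalizer (N : Set G) := by
    have : U ≤ centralizer (N : Set G) := by
      rw [le_centralizer_iff]
      exact hN0.trans inf_le_right
    exact this.trans (centralizer_le_normalizer _)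
  have hHUN := sup_le hHN hUN
  have hHUH : fittingHallOf M ⊔ U ≤ normalizer (fittingHallOf M : Set G) := sup_le le_normalizer hUH
  have cj : ∀ {B : Subgroup G} {a b : G}, fittingHallOf M ⊔ U ≤ normalizer (B : Set G) → a ∈ fittingHallOf M ⊔ U → b ∈ B → a * b * a⁻¹ ∈ B :=
    fun h1 h2 h3 => (mem_normalizer_iff.1 (h1 h2) _).1 h3
  -- the subgroup R
  let R : Subgroup G :=
    { carrier := {x | x ∈ fittingHallOf M ∧ ∀ y ∈ fittingHallOf M, x * y * x⁻¹ * y⁻¹ ∈ N}
      one_mem' := ⟨one_mem _, fun y _ => by simp⟩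
      mul_mem' := by
        rintro a b ⟨ha, ha'⟩ ⟨hb, hb'⟩
        refine ⟨mul_mem ha hb, fun y hy => ?_⟩
        have e : a * b * y * (a * b)⁻¹ * y⁻¹ = a * (b * y * b⁻¹ * y⁻¹) * a⁻¹ * (a * y * a⁻¹ * y⁻¹) := by group
        rw [e]
        exact mul_mem (cj hHUN (mem_sup_left ha) (hb' y hy)) (ha' y hy)
      inv_mem' := by
        rintro a ⟨ha, ha'⟩
        refine ⟨inv_mem ha, fun y hy => ?_⟩
        have e : a⁻¹ * y * a⁻¹⁻¹ * y⁻¹ = a⁻¹ * (a * y * a⁻¹ * y⁻¹)⁻¹ * a⁻¹⁻¹ := by group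
        rw [e]
        exact cj hHUN (mem_sup_left (inv_mem ha)) (inv_mem (ha' y hy)) }
  have hR : ∀ x, x ∈ R ↔ x ∈ fittingHallOf M ∧ ∀ y ∈ fittingHallOf M, x * y * x⁻¹ * y⁻¹ ∈ N := fun x => Iff.rfl
  have hRH : R ≤ fittingHallOf M := fun x hx => hx.1
  have hR0 : H0 M U ≤ R := fun x hx => ⟨H0_le hx, fun y hy => hDN (commutator_mem_commutator hx hy)⟩
  have hRne : R ≠ fittingHallOf M := by
    intro he
    have h1 : ⁅fittingHallOf M, fittingHallOf M⁆ ≤ N := by
      rw [commutator_le]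
      intro a ha b hb
      rw [← he] at ha
      exact ha.2 b hb
    rw [H0_eq h hder hC] at h1
    have h2 : N = H0 M U := le_antisymm hN0 h1
    rw [h2, relIndex_self] at hNi
    exact h.p.one_lt.ne hNi
  have hRn : fittingHallOf M ⊔ U ≤ normalizer (R : Set G) := by
    refine le_normalizer_of ?_
    intro a ha b hb
    refine ⟨cj hHUH ha hb.1, fun y hy => ?_⟩
    have e : a * b * a⁻¹ * y * (a * b * a⁻¹)⁻¹ * y⁻¹ = a * (b * (a⁻¹ * y * a⁻¹⁻¹) * b⁻¹ * (a⁻¹ * y * a⁻¹⁻¹)⁻¹) * a⁻¹ := by group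
    rw [e]
    exact cj hHUN ha (hb.2 _ (cj hHUH (inv_mem ha) hy))
  have hrel := relIndex_mul_relIndex _ _ _ hR0 hRH
  rw [h.relH0] at hrel
  by_cases hRe : R = H0 M U
  · -- extraspecial
    haveI hNn : (N.subgroupOf (fittingHallOf M)).Normal := normal_subgroupOf_of_le_normalizer hHN
    have hmk : ∀ x : fittingHallOf M, (x : fittingHallOf M ⧸ N.subgroupOf (fittingHallOf M)) ∈ center (fittingHallOf M ⧸ N.subgroupOf (fittingHallOf M)) ↔ (x : G) ∈ R := by
      intro x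
      rw [mem_center_iff, hR]
      constructor
      · intro hx
        refine ⟨x.2, fun y hy => ?_⟩
        have h1 := hx ((⟨y, hy⟩ : fittingHallOf M) : fittingHallOf M ⧸ N.subgroupOf (fittingHallOf M))
        have h2 : ((x * ⟨y, hy⟩ * x⁻¹ * ⟨y, hy⟩⁻¹ : fittingHallOf M) : fittingHallOf M ⧸ N.subgroupOf (fittingHallOf M)) = 1 := by
          rw [QuotientGroup.mk_mul, QuotientGroup.mk_mul, QuotientGroup.mk_mul, ← h1, QuotientGroup.mk_inv, QuotientGroup.mk_inv]
          group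
        exact mem_subgroupOf.1 ((QuotientGroup.eq_one_iff _).1 h2)
      · rintro ⟨-, hx⟩ z
        obtain ⟨y, rfl⟩ := QuotientGroup.mk_surjective z
        have h1 : ((x * y * x⁻¹ * y⁻¹ : fittingHallOf M) : fittingHallOf M ⧸ N.subgroupOf (fittingHallOf M)) = 1 :=
          (QuotientGroup.eq_one_iff _).2 (mem_subgroupOf.2 (hx y y.2))
        rw [QuotientGroup.mk_mul, QuotientGroup.mk_mul, QuotientGroup.mk_mul, QuotientGroup.mk_inv, QuotientGroup.mk_inv,
          mul_inv_eq_one, mul_inv_eq_iff_eq_mul] at h1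
        exact h1.symm
    have hcE : Nat.card (fittingHallOf M ⧸ N.subgroupOf (fittingHallOf M)) = Nat.card W₂ * Nat.card W₂ ^ Nat.card W₁ := by
      have h1 := relIndex_mul_relIndex _ _ _ hN0 (H0_le (M := M) (U := U))
      rw [hNi, h.relH0] at h1
      exact h1.symm
    have hZi : (center (fittingHallOf M ⧸ N.subgroupOf (fittingHallOf M))).index = Nat.card W₂ ^ Nat.card W₁ := by
      rw [← index_comap_of_surjective _ (QuotientGroup.mk'_surjective (N.subgroupOf (fittingHallOf M))), ← h.relH0, relIndex]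
      congr 1
      ext x
      rw [mem_comap, mem_subgroupOf, ← hRe]
      exact hmk x
    have hZc : Nat.card (center (fittingHallOf M ⧸ N.subgroupOf (fittingHallOf M))) = Nat.card W₂ := by
      have h1 := card_mul_index (center (fittingHallOf M ⧸ N.subgroupOf (fittingHallOf M)))
      rw [hZi, hcE] at h1
      exact Nat.eq_of_mul_eq_mul_right (pow_pos Nat.card_pos _) h1
    have hE : IsExtraspecial (Nat.card W₂) (fittingHallOf M ⧸ N.subgroupOf (fittingHallOf M)) := by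
      refine H2.Extra.isExtraspecial_of (hPH.to_quotient _) hZc ?_ ?_ ?_
      · intro a b
        obtain ⟨x, rfl⟩ := QuotientGroup.mk_surjective a
        obtain ⟨y, rfl⟩ := QuotientGroup.mk_surjective b
        have h1 := (hmk ⁅x, y⁆).2 (hR0 (h.comm_H (commutator_mem_commutator x.2 y.2)))
        exact h1
      · intro a
        obtain ⟨x, rfl⟩ := QuotientGroup.mk_surjective a
        exact (hmk (x ^ Nat.card W₂)).2 (hR0 (powp h x x.2))
      · by_contra hcon
        push Not at hcon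
        apply hRne
        refine le_antisymm hRH ?_
        intro x hx
        refine ⟨hx, fun y hy => ?_⟩
        have h1 := hcon ((⟨x, hx⟩ : fittingHallOf M) : fittingHallOf M ⧸ N.subgroupOf (fittingHallOf M))
          ((⟨y, hy⟩ : fittingHallOf M) : fittingHallOf M ⧸ N.subgroupOf (fittingHallOf M))
        exact mem_subgroupOf.1 ((QuotientGroup.eq_one_iff (⁅(⟨x, hx⟩ : fittingHallOf M), (⟨y, hy⟩ : fittingHallOf M)⁆)).1 h1)
    obtain ⟨n, -, hn, -⟩ := H2.Extra.card_eq hE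
    rw [hcE, ← pow_succ'] at hn
    have h1 := Nat.pow_right_injective h.p.two_le hn
    have h2 := h.odd_sub W₁
    obtain ⟨m, hm⟩ := h2
    omega
  · have hd1 := sect h free hR0 hRH hRn
    have hd2 := sect h free H0_le le_rfl hHUH
    rw [h.relH0] at hd2
    obtain ⟨e, he, hae⟩ := (Nat.dvd_prime_pow h.p).1 (Dvd.intro _ hrel)
    rw [hae] at hd1 hrel
    have he0 : e ≠ 0 := by
      rintro rfl
      rw [pow_zero] at hae
      exact hRe (le_antisymm (relIndex_eq_one.1 hae) hR0)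
    have heq : e ≠ Nat.card W₁ := by
      rintro rfl
      have h1 : R.relIndex (fittingHallOf M) = 1 := by
        have := Nat.eq_of_mul_eq_mul_left (pow_pos h.p_pos _) (hrel.trans (mul_one _).symm)
        exact this
      exact hRne (le_antisymm hRH (relIndex_eq_one.1 h1))
    have hg : Nat.gcd e (Nat.card W₁) = 1 := by
      rw [Nat.gcd_comm]
      rw [← Nat.coprime_iff_gcd_eq_one, Nat.Prime.coprime_iff_not_dvd h.q]
      intro hd
      exact heq (le_antisymm he (Nat.le_of_dvd (Nat.pos_of_ne_zero he0) hd))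
    have hd3 := Nat.dvd_gcd hd1 hd2
    rw [Nat.pow_sub_one_gcd_pow_sub_one, hg, pow_one] at hd3
    have h1 := Nat.le_of_dvd (by have := h.p.two_le; omega) hd3
    omega

theorem part3 (h : T34 M W₁ U W₂) (hder : ⁅⁅M, M⁆, ⁅M, M⁆⁆ = fittingOf M) (hC : CU M U = ⊥)
    (hu : 2 * Nat.card W₁ < Nat.card U) (hlt : Nat.card W₂ < Nat.card W₁)
    (free : ∀ u ∈ U, u ≠ 1 → ∀ x ∈ fittingHallOf M, u * x * u⁻¹ * x⁻¹ ∈ H0 M U → x ∈ H0 M U) :
    H0 M U = ⊥ ∧ (∀ x ∈ fittingHallOf M, ∀ y ∈ fittingHallOf M, x * y = y * x) ∧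
      (∀ x ∈ fittingHallOf M, x ^ Nat.card W₂ = 1) := by
  have h0 := H0_bot h hder hC hu hlt free
  refine ⟨h0, ?_, ?_⟩
  · intro x hx y hy
    have h1 : ⁅x, y⁆ ∈ (⊥ : Subgroup G) := by
      rw [← h0]; exact h.comm_H (commutator_mem_commutator hx hy)
    rw [mem_bot, commutatorElement_eq_one_iff_mul_comm] at h1
    exact h1
  · intro x hx
    have h1 := powp h x hx
    rw [h0, mem_bot] at h1
    exact h1

end

end Cfsg.Agent.H12.PF11z
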