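import Mathlib
import Cfsg.Agent.H10_PrD8

/-!
H2_PF11c: Galois conjugation and the Dade map.
-/

set_option autoImplicit false
set_option linter.unusedSectionVars false

namespace Cfsg.Agent.H2.PF11

open Cfsg Cfsg.Agent.H3.CharIrr Cfsg.Agent.H3.CharComplete Cfsg.Agent.H3.CharInd Cfsg.Agent.H3.CharMult
  Cfsg.Agent.H3.CharBasic Cfsg.Agent.H3.CharCalc Cfsg.Agent.H3.Clifford Cfsg.Agent.H3.CharInt Cfsg.Agent.H3.CharQuot
  Cfsg.Agent.H10.CycTI Cfsg.Agent.H10.CycTI2 Cfsg.Agent.H10.CycTI3 Cfsg.Agent.H10.CycTI4 Cfsg.Agent.H10.PrD2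
  Cfsg.Agent.H10.PrD3 Cfsg.Agent.H10.PrD4 Cfsg.Agent.H10.PrD5 Cfsg.Agent.H10.Dade Cfsg.Agent.H10.PM Cfsg.Agent.H10.Coh
  Cfsg.Agent.H10.Coh2 Cfsg.Agent.H10.Coh3 Cfsg.Agent.H10.Coh4 Cfsg.Agent.H10.IndSet2 Cfsg.Agent.H10.OOClif Cfsg.Agent.H10.PrD6
  Cfsg.Agent.H10.PrD7 Cfsg.Agent.H10.PrD8
open scoped ComplexConjugate

section pow

/-- existence of the inverse exponent -/
theorem exists_inv_exp {G : Type*} [Group G] [Finite G] {t : ℕ} (h : (Nat.card G).Coprime t) :
    ∃ s : ℕ, (Nat.card G).Coprime s ∧ (∀ g : G, (g ^ t) ^ s = g) ∧ ∀ g : G, (g ^ s) ^ t = g := by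
  rcases Nat.lt_or_ge 1 (Nat.card G) with h1 | h1
  · obtain ⟨s, -, hs⟩ := Nat.exists_mul_mod_eq_one_of_coprime (k := Nat.card G) (n := t) h.symm h1
    have h2 : t * s ≡ 1 [MOD Nat.card G] := by
      show t * s % _ = 1 % _
      rw [hs, Nat.mod_eq_of_lt h1]
    have h3 : ∀ g : G, g ^ (t * s) = g := by
      intro g
      have := pow_eq_pow_iff_modEq.2 (h2.of_dvd (orderOf_dvd_natCard g))
      rw [this, pow_one]
    refine ⟨s, ?_, fun g => by rw [← pow_mul]; exact h3 g, fun g => by rw [← pow_mul, mul_comm]; exact h3 g⟩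
    have h4 : (t * s).Coprime (Nat.card G) := by
      rw [Nat.coprime_iff_gcd_eq_one, h2.gcd_eq, Nat.gcd_one_left]
    exact (Nat.Coprime.coprime_mul_left h4).symm
  · haveI : Subsingleton G := Finite.card_le_one_iff_subsingleton.1 h1
    exact ⟨1, Nat.coprime_one_right _, fun g => Subsingleton.elim _ _, fun g => Subsingleton.elim _ _⟩

/-- Galois conjugates (via the power maps) -/
def pw {X : Type*} [Monoid X] (t : ℕ) (f : X → ℂ) : X → ℂ := fun g => f (g ^ t)

theorem ci_pw {G : Type*} [Group G] [Fintype G] {t : ℕ} (h : (Nat.card G).Coprime t) (f f' : G → ℂ) :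
    classInner (pw t f) (pw t f') = classInner f f' := by
  obtain ⟨s, -, h1, h2⟩ := exists_inv_exp h
  rw [classInner, classInner]
  congr 1
  exact Equiv.sum_comp (⟨fun g => g ^ t, fun g => g ^ s, h1, h2⟩ : G ≃ G) (fun g => f g * conj (f' g))

theorem cent_pow {G : Type*} [Group G] [Finite G] {t : ℕ} (h : (Nat.card G).Coprime t) (a c : G) :
    c * a ^ t = a ^ t * c ↔ c * a = a * c := by
  obtain ⟨s, -, h1, h2⟩ := exists_inv_exp h
  constructor
  · intro he
    have h3 : Commute c (a ^ t) := he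
    have h4 : Commute c ((a ^ t) ^ s) := h3.pow_right s
    rwa [h1] at h4
  · intro he
    exact (show Commute c a from he).pow_right t

variable {G : Type*} [Group G] [Finite G] {A : Set G} {L : Subgroup G} {R : G → Subgroup G}

theorem R_pow (hD : DadeHypothesis A L R) {t : ℕ} (ht : (Nat.card G).Coprime t) {a : G} (ha : a ∈ A) (hat : a ^ t ∈ A) :
    R (a ^ t) = R a := by
  have hcent : Subgroup.centralizer ({a ^ t} : Set G) = Subgroup.centralizer ({a} : Set G) := by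
    ext c
    rw [Subgroup.mem_centralizer_singleton_iff, Subgroup.mem_centralizer_singleton_iff]
    exact cent_pow ht a c
  have e1 := card_centralizer hD ha
  have e2 := card_centralizer hD hat
  rw [hcent, e1] at e2
  have hc : Nat.card (R a) = Nat.card (R (a ^ t)) := Nat.eq_of_mul_eq_mul_right Nat.card_pos e2
  ext c
  by_cases hca : c * a = a * c
  · rw [mem_iff hD ha hca, mem_iff hD hat ((cent_pow ht a c).2 hca), hc]
  · constructor
    · intro h
      exact absurd ((cent_pow ht a c).1 (commute hD hat h)) hca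
    · intro h
      exact absurd (commute hD ha h) hca

theorem dade_pow (hD : DadeHypothesis A L R) (hA : ∀ a ∈ A, ∀ t : ℕ, (Nat.card G).Coprime t → a ^ t ∈ A)
    {t : ℕ} (ht : (Nat.card G).Coprime t) {α : L → ℂ} (hα : IsClassFunction L α) :
    dadeIsometry A L R (pw t α) = pw t (dadeIsometry A L R α) := by
  obtain ⟨s, hs, h1, h2⟩ := exists_inv_exp ht
  have hα' : IsClassFunction L (pw t α) := by
    intro g x
    show α ((x * g * x⁻¹) ^ t) = α (g ^ t)
    rw [conj_pow]; exact hα _ _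
  funext g
  show _ = dadeIsometry A L R α (g ^ t)
  by_cases h : ∃ a : ↥L, (a : G) ∈ A ∧ ∃ x : G, ∃ u ∈ R (a : G), x * g * x⁻¹ = (a : G) * u
  · obtain ⟨a, ha, x, u, hu, e⟩ := h
    rw [dade_apply hD hα' ha hu e]
    have h3 : ((a ^ t : L) : G) ∈ A := by
      rw [Subgroup.coe_pow]; exact hA _ ha t ht
    refine (dade_apply hD hα (a := a ^ t) h3 (x := x) (u := u ^ t) ?_ ?_).symm
    · rw [Subgroup.coe_pow] at h3 ⊢
      rw [R_pow hD ht ha h3]
      exact Subgroup.pow_mem _ hu t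
    · rw [← conj_pow, e, Subgroup.coe_pow]
      exact (show Commute (a : G) u from (commute hD ha hu).symm).mul_pow t
  · rw [dade_zero h, dade_zero]
    rintro ⟨a, ha, x, u, hu, e⟩
    apply h
    have h3 : ((a ^ s : L) : G) ∈ A := by
      rw [Subgroup.coe_pow]; exact hA _ ha s hs
    refine ⟨a ^ s, h3, x, u ^ s, ?_, ?_⟩
    · rw [Subgroup.coe_pow] at h3 ⊢
      rw [R_pow hD hs ha h3]
      exact Subgroup.pow_mem _ hu s
    · have h4 : (x * g ^ t * x⁻¹) ^ s = x * g * x⁻¹ := by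
        rw [conj_pow, h1]
      rw [← h4, e, Subgroup.coe_pow]
      exact (show Commute (a : G) u from (commute hD ha hu).symm).mul_pow s

end pow

section sup

variable {G : Type*} [Group G] [Fintype G] {L : Subgroup G} [Fintype L] {K H : Subgroup L} {W₁ W₂ : Subgroup G} {A : Set G}
  {R : G → Subgroup G} (h : PD L K H W₁ W₂ A R)
include h

/-- reciprocity with the trivial character -/
theorem dade_ci_one {α : L → ℂ} (hα : IsClassFunction L α) (hs : ∀ x : L, (x : G) ∉ A0 L W₁ W₂ A → α x = 0) :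
    classInner (dadeIsometry (A0 L W₁ W₂ A) L R α) (fun _ => 1) = classInner α (fun _ => 1) := by
  refine recip h.dade hα hs (χ := fun _ => 1) (ψ := fun _ => 1) (fun _ _ => rfl) fun a _ => ?_
  have h1 : ∑ᶠ u ∈ (R (a : G) : Set G), (1 : ℂ) = Nat.card (R (a : G)) := by
    rw [finsum_subgroup]
    classical
    rw [Finset.sum_boole]
    congr 1
    rw [← Fintype.card_subtype, Nat.card_eq_fintype_card]
  rw [h1, inv_mul_cancel₀ (Nat.cast_ne_zero.2 Nat.card_pos.ne')]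

variable {η : (↥(W₁ ⊔ W₂) →* ℂˣ) → (G → ℂ)} (hη : IsCyclicTIFamily W₁ W₂ η)
include hη

/-- a difference of two irreducible characters vanishing off `A₀ \ V` has image orthogonal to the `η_ij` -/
theorem diff_orth {χ χ' : L → ℂ} (hχ : IsIrrCharacter L χ) (hχ' : IsIrrCharacter L χ')
    (hs : ∀ x : L, (x : G) ∉ A0 L W₁ W₂ A → (χ - χ') x = 0) (hv : ∀ v : L, (v : G) ∈ V W₁ W₂ → (χ - χ') v = 0)
    (ω : ↥(W₁ ⊔ W₂) →* ℂˣ) : classInner (dadeIsometry (A0 L W₁ W₂ A) L R (χ - χ')) (η ω) = 0 := by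
  classical
  have hg : IsGeneralizedCharacter L (χ - χ') := IsGen.sub (IsGen.of_irr hχ) (IsGen.of_irr hχ')
  refine orth_eta h.self (odd_W h.toPT) hη (Cfsg.Agent.H10.Dade3.dade_gen h.dade hg hs) ?_ ?_ ω
  · rw [isometry h.dade (IsGen.isClass hg) hs (IsGen.isClass hg), ci_sub_left, ci_sub_right, ci_sub_right,
      ci_irr_self hχ, ci_irr_self hχ', ci_irr hχ hχ', ci_irr hχ' hχ]
    by_cases he : χ = χ'
    · rw [if_pos he, if_pos he.symm]; norm_num
    · rw [if_neg he, if_neg (Ne.symm he)]; norm_num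
  · intro w h1 h2
    have hwV : (w : G) ∈ V W₁ W₂ := mem_V.2 ⟨w.2, h1, h2⟩
    have h3 := dade_val h.dade (IsGen.isClass hg) (a := ⟨w, V_L h hwV⟩) (V_A0 h hwV)
    exact h3.trans (hv ⟨w, V_L h hwV⟩ hwV)

end sup

section A0pow

variable {G : Type*} [Group G] [Finite G] {L : Subgroup G} {W₁ W₂ : Subgroup G} {A : Set G}

theorem V_pow {v : G} (hv : v ∈ V W₁ W₂) {t : ℕ} (ht : (Nat.card G).Coprime t) : v ^ t ∈ V W₁ W₂ := by
  obtain ⟨s, hs, h1, h2⟩ := exists_inv_exp ht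
  rw [mem_V] at hv ⊢
  refine ⟨Subgroup.pow_mem _ hv.1 _, fun h => hv.2.1 ?_, fun h => hv.2.2 ?_⟩
  · rw [← h1 v]; exact Subgroup.pow_mem _ h s
  · rw [← h1 v]; exact Subgroup.pow_mem _ h s

theorem A0_pow (hA : ∀ a ∈ A, ∀ t : ℕ, (Nat.card G).Coprime t → a ^ t ∈ A) :
    ∀ a ∈ A0 L W₁ W₂ A, ∀ t : ℕ, (Nat.card G).Coprime t → a ^ t ∈ A0 L W₁ W₂ A := by
  rintro a (ha | ⟨m, hm, w, hw, rfl⟩) t ht
  · exact Or.inl (hA a ha t ht)
  · exact Or.inr ⟨m, hm, w ^ t, V_pow hw ht, conj_pow⟩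

end A0pow

end Cfsg.Agent.H2.PF11
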