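import Mathlib
import Cfsg.Agent.H2_PF11c

/-!
H2_PF11d: the configuration of Peterfalvi §11 (character-theoretic side), part 1.
-/

set_option autoImplicit false
set_option linter.unusedSectionVars false
set_option linter.style.haveILetI false

namespace Cfsg.Agent.H2.PF11

open Cfsg Cfsg.Agent.H3.CharIrr Cfsg.Agent.H3.CharComplete Cfsg.Agent.H3.CharInd Cfsg.Agent.H3.CharMult
  Cfsg.Agent.H3.CharBasic Cfsg.Agent.H3.CharCalc Cfsg.Agent.H3.Clifford Cfsg.Agent.H3.CharInt Cfsg.Agent.H3.CharQuot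
  Cfsg.Agent.H10.CycTI Cfsg.Agent.H10.CycTI2 Cfsg.Agent.H10.CycTI3 Cfsg.Agent.H10.CycTI4 Cfsg.Agent.H10.PrD2
  Cfsg.Agent.H10.PrD3 Cfsg.Agent.H10.PrD4 Cfsg.Agent.H10.PrD5 Cfsg.Agent.H10.Dade Cfsg.Agent.H10.PM Cfsg.Agent.H10.Coh
  Cfsg.Agent.H10.Coh2 Cfsg.Agent.H10.Coh3 Cfsg.Agent.H10.Coh4 Cfsg.Agent.H10.IndSet2 Cfsg.Agent.H10.OOClif Cfsg.Agent.H10.PrD6
  Cfsg.Agent.H10.PrD7 Cfsg.Agent.H10.PrD8
open scoped ComplexConjugate commutatorElement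

/-- the configuration -/
structure P2 {G : Type*} [Group G] (L : Subgroup G) (K N₁ N₀ : Subgroup L) (W₁ W₂ : Subgroup G) (A : Set G)
    (R : G → Subgroup G) : Prop where
  pd : PD L K K W₁ W₂ A R
  q : (Nat.card W₁).Prime
  p : (Nat.card W₂).Prime
  n1 : N₁.Normal
  n0 : N₀.Normal
  le0 : N₀ ≤ N₁
  le1 : N₁ ≤ K
  hu : 2 * Nat.card W₁ < N₁.relIndex K
  abK : ∀ x ∈ K, ∀ y ∈ K, x * y * x⁻¹ * y⁻¹ ∈ N₁
  ab1 : ∀ x ∈ N₁, ∀ y ∈ N₁, x * y * x⁻¹ * y⁻¹ ∈ N₀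
  irr : ∀ N : Subgroup L, N.Normal → N₀ ≤ N → N ≤ N₁ → N = N₀ ∨ N = N₁
  W2N : ∀ w : L, (w : G) ∈ W₂ → w ∈ N₁
  W2N0 : ∀ w : L, (w : G) ∈ W₂ → w ∈ N₀ → w = 1
  frob : ∀ x : L, x ∉ K → ∀ k ∈ K, x * k * x⁻¹ * k⁻¹ ∈ N₁ → k ∈ N₁
  cent : ∀ k ∈ K, (∀ n ∈ N₁, k * n * k⁻¹ * n⁻¹ ∈ N₀) → k ∈ N₁
  cpl : ∃ U : Subgroup L, N₁ ⊔ U = K ∧ N₁ ⊓ U ≤ N₀
  sol : Group.IsSolvable K
  Apow : ∀ a ∈ A, ∀ t : ℕ, (Nat.card G).Coprime t → a ^ t ∈ A

/-- linear characters of `N₁/N₀`, as functions on `L` -/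
structure Lin {L : Type*} [Group L] (N₁ N₀ : Subgroup L) (f : L → ℂˣ) : Prop where
  mul : ∀ x ∈ N₁, ∀ y ∈ N₁, f (x * y) = f x * f y
  triv : ∀ x ∈ N₀, f x = 1
  ne : ∃ x ∈ N₁, f x ≠ 1

namespace Lin

variable {L : Type*} [Group L] {N₁ N₀ : Subgroup L} {f : L → ℂˣ} (h : Lin N₁ N₀ f)
include h

theorem one : f 1 = 1 := h.triv 1 N₀.one_mem

theorem inv {x : L} (hx : x ∈ N₁) : f x⁻¹ = (f x)⁻¹ := by
  have := h.mul x hx x⁻¹ (N₁.inv_mem hx)
  rw [mul_inv_cancel, h.one] at this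
  exact (inv_eq_of_mul_eq_one_right this.symm).symm

theorem conj_self {m n : L} (hm : m ∈ N₁) (hn : n ∈ N₁) : f (m * n * m⁻¹) = f n := by
  rw [h.mul _ (N₁.mul_mem hm hn) _ (N₁.inv_mem hm), h.mul _ hm _ hn, h.inv hm, mul_comm (f m), mul_inv_cancel_right]

/-- powers -/
theorem pow_mul (j : ℕ) : ∀ x ∈ N₁, ∀ y ∈ N₁, f (x * y) ^ j = f x ^ j * f y ^ j := fun x hx y hy => by
  rw [h.mul x hx y hy, mul_pow]

theorem map_pow {x : L} (hx : x ∈ N₁) (j : ℕ) : f (x ^ j) = f x ^ j := by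
  induction j with
  | zero => rw [pow_zero, pow_zero, h.one]
  | succ j ih => rw [pow_succ, pow_succ, h.mul _ (Subgroup.pow_mem _ hx _) _ hx, ih]

end Lin

namespace P2

variable {G : Type*} [Group G] {L : Subgroup G} {K N₁ N₀ : Subgroup L} {W₁ W₂ : Subgroup G} {A : Set G}
  {R : G → Subgroup G} (h : P2 L K N₁ N₀ W₁ W₂ A R)
include h

theorem Kn : K.Normal := h.pd.normal

theorem Kprime [Finite G] : (K.index).Prime := by rw [index_K h.pd.toPT]; exact h.q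

/-- a subgroup containing `K` and an element outside `K` is everything -/
theorem top_of [Finite G] {N : Subgroup L} (hK : K ≤ N) {y : L} (hy : y ∉ K) (hyN : y ∈ N) : N = ⊤ := by
  have h1 := Subgroup.relIndex_mul_index hK
  have h2 := h.Kprime
  rw [← h1] at h2
  rcases Nat.prime_mul_iff.1 h2 with ⟨-, h3⟩ | ⟨-, h3⟩
  · exact Subgroup.index_eq_one.1 h3
  · exact absurd (Subgroup.relIndex_eq_one.1 h3 hyN) hy

/-- the stabiliser of a linear character fixed by an element outside `K` -/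
theorem stab [Finite G] {f : L → ℂˣ} (hf : Lin N₁ N₀ f) {y : L} (hy : y ∉ K) (hyf : ∀ n ∈ N₁, f (y * n * y⁻¹) = f n)
    {k : L} (hk : k ∈ K) (hkf : ∀ n ∈ N₁, f (k * n * k⁻¹) = f n) : k ∈ N₁ := by
  haveI := h.n1
  haveI := h.n0
  haveI := h.Kn
  have nc : ∀ g : L, ∀ n ∈ N₁, g * n * g⁻¹ ∈ N₁ := fun g n hn => h.n1.conj_mem n hn g
  let T : Subgroup L :=
    { carrier := {k | k ∈ K ∧ ∀ n ∈ N₁, f (k * n * k⁻¹) = f n}
      one_mem' := ⟨K.one_mem, fun n _ => by rw [one_mul, inv_one, mul_one]⟩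
      mul_mem' := by
        rintro a b ⟨ha, ha'⟩ ⟨hb, hb'⟩
        refine ⟨K.mul_mem ha hb, fun n hn => ?_⟩
        have : a * b * n * (a * b)⁻¹ = a * (b * n * b⁻¹) * a⁻¹ := by group
        rw [this, ha' _ (nc b n hn), hb' n hn]
      inv_mem' := by
        rintro a ⟨ha, ha'⟩
        refine ⟨K.inv_mem ha, fun n hn => ?_⟩
        have := ha' (a⁻¹ * n * a⁻¹⁻¹) (nc _ n hn)
        rw [← this]
        congr 1
        group }
  have hN1T : N₁ ≤ T := fun m hm => ⟨h.le1 hm, fun n hn => hf.conj_self hm hn⟩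
  have hTK : T ≤ K := fun m hm => hm.1
  have hconjK : ∀ z ∈ K, ∀ k ∈ T, z * k * z⁻¹ ∈ T := by
    intro z hz k hk
    have : z * k * z⁻¹ = (z * k * z⁻¹ * k⁻¹) * k := by group
    rw [this]
    exact T.mul_mem (hN1T (h.abK z hz k (hTK hk))) hk
  have hconjy : ∀ k ∈ T, y * k * y⁻¹ ∈ T := by
    rintro k ⟨hk, hk'⟩
    refine ⟨h.Kn.conj_mem k hk y, fun n hn => ?_⟩
    have e1 : y * k * y⁻¹ * n * (y * k * y⁻¹)⁻¹ = y * (k * (y⁻¹ * n * y⁻¹⁻¹) * k⁻¹) * y⁻¹ := by group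
    rw [e1, hyf _ (nc k _ (nc _ n hn)), hk' _ (nc _ n hn), ← hyf _ (nc _ n hn)]
    congr 1
    group
  have hTn : T.Normal := by
    have hsub : ∀ z ∈ K, z ∈ Subgroup.normalizer (T : Set L) := by
      intro z hz
      rw [Subgroup.mem_normalizer_iff]
      intro k
      constructor
      · exact hconjK z hz k
      · intro hk
        have := hconjK z⁻¹ (K.inv_mem hz) _ hk
        have e : z⁻¹ * (z * k * z⁻¹) * z⁻¹⁻¹ = k := by group
        rwa [e] at this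
    have hyN : y ∈ Subgroup.normalizer (T : Set L) := by
      haveI : Finite T := inferInstance
      rw [Subgroup.mem_normalizer_iff]
      intro k
      constructor
      · exact hconjy k
      · intro hk
        have hinj : Function.Injective (fun k : T => (⟨y * k * y⁻¹, hconjy k k.2⟩ : T)) := by
          intro a b hab
          have := congrArg Subtype.val hab
          exact Subtype.ext (mul_left_cancel (mul_right_cancel this))
        obtain ⟨a, ha⟩ := (Finite.injective_iff_surjective.1 hinj) ⟨_, hk⟩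
        have := congrArg Subtype.val ha
        have e : (a : L) = k := mul_left_cancel (mul_right_cancel this)
        rw [← e]; exact a.2
    exact Subgroup.normalizer_eq_top_iff.1 (h.top_of hsub hy hyN)
  haveI := hTn
  let D : Subgroup L := N₀ ⊔ ⁅N₁, T⁆
  have hDn : D.Normal := inferInstance
  let Kf : Subgroup L :=
    { carrier := {n | n ∈ N₁ ∧ f n = 1}
      one_mem' := ⟨N₁.one_mem, hf.one⟩
      mul_mem' := by
        rintro a b ⟨ha, ha'⟩ ⟨hb, hb'⟩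
        exact ⟨N₁.mul_mem ha hb, by rw [hf.mul a ha b hb, ha', hb', one_mul]⟩
      inv_mem' := by
        rintro a ⟨ha, ha'⟩
        exact ⟨N₁.inv_mem ha, by rw [hf.inv ha, ha', inv_one]⟩ }
  have hDK : D ≤ Kf := by
    refine sup_le (fun n hn => ⟨h.le0 hn, hf.triv n hn⟩) ?_
    rw [Subgroup.commutator_le]
    intro n hn k hk
    rw [commutatorElement_def]
    have e1 : n * k * n⁻¹ * k⁻¹ = n * (k * n⁻¹ * k⁻¹) := by group
    rw [e1]
    refine ⟨N₁.mul_mem hn (nc k _ (N₁.inv_mem hn)), ?_⟩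
    rw [hf.mul n hn _ (nc k _ (N₁.inv_mem hn)), hk.2 _ (N₁.inv_mem hn), ← hf.mul n hn _ (N₁.inv_mem hn), mul_inv_cancel, hf.one]
  have hKfN : Kf ≤ N₁ := fun n hn => hn.1
  rcases h.irr D hDn le_sup_left (hDK.trans hKfN) with hD | hD
  · apply h.cent k hk
    intro n hn
    have h1 : ⁅n⁻¹, k⁆ ∈ ⁅N₁, T⁆ := Subgroup.commutator_mem_commutator (N₁.inv_mem hn) ⟨hk, hkf⟩
    have h2 : ⁅n⁻¹, k⁆ ∈ N₀ := by rw [← hD]; exact Subgroup.mem_sup_right h1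
    rw [commutatorElement_def] at h2
    have h3 := h.n0.conj_mem _ h2 n
    have e : n * (n⁻¹ * k * n⁻¹⁻¹ * k⁻¹) * n⁻¹ = k * n * k⁻¹ * n⁻¹ := by group
    rwa [e] at h3
  · exfalso
    obtain ⟨x, hx, hx1⟩ := hf.ne
    exact hx1 ((hDK (by rw [hD]; exact hx)).2)

theorem cop [Finite G] : Nat.Coprime (Nat.card W₁) (Nat.card W₂) := by
  refine Nat.Coprime.coprime_dvd_right ?_ h.pd.hall
  have h1 : Nat.card (W₂.subgroupOf L) = Nat.card W₂ := Nat.card_congr (Subgroup.subgroupOfEquivOfLe h.pd.W₂_le).toEquiv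
  rw [← h1]
  exact Subgroup.card_dvd_of_le h.pd.W₂K

theorem W_comm {x w : L} (hx : (x : G) ∈ W₁) (hw : (w : G) ∈ W₂) : x * w = w * x :=
  Subtype.ext (hcomm h.pd.self x hx w hw)

theorem pow_W2 {w : L} (hw : (w : G) ∈ W₂) : w ^ Nat.card W₂ = 1 := by
  have h1 : (⟨(w : G), hw⟩ : W₂) ^ Nat.card W₂ = 1 := pow_card_eq_one'
  apply Subtype.ext
  rw [Subgroup.coe_pow]
  exact congrArg Subtype.val h1

/-- a linear character of `N₁/N₀` nontrivial on `W₂` is nontrivial on every element of `W₂` -/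
theorem ne_of_ne [Finite G] {f : L → ℂˣ} (hf : Lin N₁ N₀ f) {w w' : L} (hw : (w : G) ∈ W₂) (hw' : (w' : G) ∈ W₂)
    (h1 : f w ≠ 1) (h2 : w' ≠ 1) : f w' ≠ 1 := by
  haveI : Fact (Nat.card W₂).Prime := ⟨h.p⟩
  have h3 : (⟨(w' : G), hw'⟩ : W₂) ≠ 1 := fun he => h2 (by
    apply Subtype.ext
    have h9 := congrArg Subtype.val he
    exact h9)
  have h4 := mem_powers_of_prime_card (G := W₂) rfl h3 (g' := ⟨(w : G), hw⟩)
  obtain ⟨j, hj⟩ := h4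
  have h5 : w' ^ j = w := by
    apply Subtype.ext
    rw [Subgroup.coe_pow]
    exact congrArg Subtype.val hj
  intro h6
  apply h1
  rw [← h5, hf.map_pow (h.W2N _ hw'), h6, one_pow]

/-- existence of a `W₁`-invariant linear character of `N₁/N₀`, nontrivial on `W₂` -/
theorem exists_f [Finite G] : ∃ f : L → ℂˣ, Lin N₁ N₀ f ∧ (∀ x : L, (x : G) ∈ W₁ → ∀ n ∈ N₁, f (x * n * x⁻¹) = f n) ∧
    ∀ w : L, (w : G) ∈ W₂ → w ≠ 1 → f w ≠ 1 := by
  classical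
  haveI := h.n1
  haveI := h.n0
  haveI := Fintype.ofFinite ↥(W₁.subgroupOf L)
  have nc : ∀ g : L, ∀ n ∈ N₁, g * n * g⁻¹ ∈ N₁ := fun g n hn => h.n1.conj_mem n hn g
  obtain ⟨⟨a, ha⟩, ha1⟩ := Subgroup.ne_bot_iff_exists_ne_one.1 h.pd.self.2.1
  let w₀ : L := ⟨a, h.pd.W₂_le ha⟩
  have hw₀ : (w₀ : G) ∈ W₂ := ha
  have hw₀1 : w₀ ≠ 1 := fun he => ha1 (by
    apply Subtype.ext
    have h9 := congrArg Subtype.val he
    exact h9)
  have hw₀N := h.W2N _ hw₀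
  haveI : (N₀.subgroupOf N₁).Normal := inferInstance
  haveI := Fintype.ofFinite (↥N₁ ⧸ (N₀.subgroupOf N₁))
  have hab : ∀ a b : ↥N₁ ⧸ (N₀.subgroupOf N₁), a * b = b * a := by
    intro a b
    induction a using QuotientGroup.induction_on with | H a =>
    induction b using QuotientGroup.induction_on with | H b =>
    rw [← QuotientGroup.mk_mul, ← QuotientGroup.mk_mul, QuotientGroup.eq, Subgroup.mem_subgroupOf]
    have := h.ab1 (b : L)⁻¹ (N₁.inv_mem b.2) (a : L)⁻¹ (N₁.inv_mem a.2)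
    have e : (((a * b)⁻¹ * (b * a) : ↥N₁) : L) = (b : L)⁻¹ * (a : L)⁻¹ * (b : L)⁻¹⁻¹ * (a : L)⁻¹⁻¹ := by push_cast; group
    rw [e]; exact this
  have hg1 : (QuotientGroup.mk (⟨w₀, hw₀N⟩ : ↥N₁) : ↥N₁ ⧸ (N₀.subgroupOf N₁)) ≠ 1 := by
    intro he
    rw [QuotientGroup.eq_one_iff, Subgroup.mem_subgroupOf] at he
    exact hw₀1 (h.W2N0 _ hw₀ he)
  obtain ⟨ω, hω⟩ := Cfsg.Agent.H10.TypeP.exists_hom_ne hab hg1
  let g₀ : ↥N₁ →* ℂˣ := ω.comp (QuotientGroup.mk' _)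
  have hg0 : ∀ n : ↥N₁, (n : L) ∈ N₀ → g₀ n = 1 := by
    intro n hn
    show ω (QuotientGroup.mk n) = 1
    rw [(QuotientGroup.eq_one_iff n).2 (Subgroup.mem_subgroupOf.2 hn), map_one]
  have hgw : g₀ ⟨w₀, hw₀N⟩ ≠ 1 := hω
  let F : L → ℂˣ := fun n => if hn : n ∈ N₁ then ∏ x : ↥(W₁.subgroupOf L), g₀ ⟨(x : L) * n * (x : L)⁻¹, nc x n hn⟩ else 1
  have hF : ∀ n (hn : n ∈ N₁), F n = ∏ x : ↥(W₁.subgroupOf L), g₀ ⟨(x : L) * n * (x : L)⁻¹, nc x n hn⟩ := fun n hn => dif_pos hn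
  have hFw : F w₀ ≠ 1 := by
    rw [hF _ hw₀N]
    have e : ∀ x : ↥(W₁.subgroupOf L), g₀ ⟨(x : L) * w₀ * (x : L)⁻¹, nc x w₀ hw₀N⟩ = g₀ ⟨w₀, hw₀N⟩ := by
      intro x
      congr 1
      apply Subtype.ext
      show (x : L) * w₀ * (x : L)⁻¹ = w₀
      rw [h.W_comm x.2 hw₀, mul_inv_cancel_right]
    rw [Finset.prod_congr rfl fun x _ => e x, Finset.prod_const, Finset.card_univ, ← Nat.card_eq_fintype_card,
      Nat.card_congr (Subgroup.subgroupOfEquivOfLe h.pd.W₁_le).toEquiv]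
    intro hq
    have hp : g₀ ⟨w₀, hw₀N⟩ ^ Nat.card W₂ = 1 := by
      rw [← map_pow]
      have : (⟨w₀, hw₀N⟩ : ↥N₁) ^ Nat.card W₂ = 1 := Subtype.ext (h.pow_W2 hw₀)
      rw [this, map_one]
    have h1 := orderOf_dvd_of_pow_eq_one hq
    have h2 := orderOf_dvd_of_pow_eq_one hp
    have h3 := Nat.dvd_gcd h1 h2
    rw [Nat.coprime_iff_gcd_eq_one.1 h.cop, Nat.dvd_one, orderOf_eq_one_iff] at h3
    exact hgw h3
  have hFl : Lin N₁ N₀ F := by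
    refine ⟨fun x hx y hy => ?_, fun n hn => ?_, ⟨w₀, hw₀N, hFw⟩⟩
    · rw [hF _ hx, hF _ hy, hF _ (N₁.mul_mem hx hy), ← Finset.prod_mul_distrib]
      refine Finset.prod_congr rfl fun z _ => ?_
      rw [← map_mul]
      congr 1
      apply Subtype.ext
      show (z : L) * (x * y) * (z : L)⁻¹ = (z : L) * x * (z : L)⁻¹ * ((z : L) * y * (z : L)⁻¹)
      group
    · rw [hF _ (h.le0 hn)]
      apply Finset.prod_eq_one
      intro z _
      exact hg0 _ (h.n0.conj_mem n hn z)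
  refine ⟨F, hFl, fun y hy n hn => ?_, fun w hw hw1 => h.ne_of_ne hFl hw₀ hw hFw hw1⟩
  rw [hF _ hn, hF _ (nc y n hn), ← Equiv.prod_comp (Equiv.mulRight (⟨y, hy⟩ : ↥(W₁.subgroupOf L)))
    (fun x => g₀ ⟨(x : L) * n * (x : L)⁻¹, nc x n hn⟩)]
  refine Finset.prod_congr rfl fun z _ => ?_
  congr 1
  apply Subtype.ext
  show (z : L) * (y * n * y⁻¹) * (z : L)⁻¹ = ((z : L) * y) * n * ((z : L) * y)⁻¹
  group

end P2

end Cfsg.Agent.H2.PF11
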