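import Mathlib
import Cfsg.Agent.H2_PF11d

/-!
H2_PF11e: the characters μ_j in the configuration of Peterfalvi §11.
-/

set_option autoImplicit false
set_option linter.unusedSectionVars false
set_option linter.style.haveILetI false

namespace Cfsg.Agent.H2.PF11

open Cfsg Cfsg.Agent.H3.CharIrr Cfsg.Agent.H3.CharComplete Cfsg.Agent.H3.CharInd Cfsg.Agent.H3.CharMult
  Cfsg.Agent.H3.CharBasic Cfsg.Agent.H3.CharCalc Cfsg.Agent.H3.Clifford Cfsg.Agent.H3.CharInt Cfsg.Agent.H3.CharQuot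
  Cfsg.Agent.H10.CycTI Cfsg.Agent.H10.CycTI2 Cfsg.Agent.H10.CycTI3 Cfsg.Agent.H10.CycTI4 Cfsg.Agent.H10.PrD2
  Cfsg.Agent.H10.PrD3 Cfsg.Agent.H10.PrD4 Cfsg.Agent.H10.PrD5 Cfsg.Agent.H10.Dade Cfsg.Agent.H10.PM Cfsg.Agent.H10.Coh
  Cfsg.Agent.H10.Coh2 Cfsg.Agent.H10.Coh3 Cfsg.Agent.H10.Coh4 Cfsg.Agent.H10.IndSet2 Cfsg.Agent.H10.OOClif Cfsg.Agent.H10.PrD6
  Cfsg.Agent.H10.PrD7 Cfsg.Agent.H10.PrD8
open scoped ComplexConjugate commutatorElement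

/-- the linear character of `N₁` as a function on `N₁ ∩ K` -/
def lam {L : Type*} [Group L] (K N₁ : Subgroup L) (f : L → ℂˣ) : ↥(N₁.subgroupOf K) → ℂ := fun n => (f ((n : K) : L) : ℂ)

section
variable {L : Type*} [Group L] {K N₁ N₀ : Subgroup L} {f : L → ℂˣ}

theorem lam_irr (hf : Lin N₁ N₀ f) : IsIrrCharacter ↥(N₁.subgroupOf K) (lam K N₁ f) := by
  let F : ↥(N₁.subgroupOf K) →* ℂˣ :=
    { toFun := fun n => f ((n : K) : L)
      map_one' := hf.one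
      map_mul' := fun a b => hf.mul _ a.2 _ b.2 }
  exact isIrr_of_hom_units F

theorem lam_one (hf : Lin N₁ N₀ f) : lam K N₁ f 1 = 1 := by
  show (f 1 : ℂ) = 1
  rw [hf.one]; rfl

theorem lam_ext (hle : N₁ ≤ K) {f f' : L → ℂˣ} : lam K N₁ f = lam K N₁ f' ↔ ∀ n ∈ N₁, f n = f' n := by
  constructor
  · intro h n hn
    exact Units.ext (congrFun h ⟨⟨n, hle hn⟩, hn⟩)
  · intro h
    funext n
    exact congrArg Units.val (h _ n.2)

theorem cj_lam (hN : (N₁.subgroupOf K).Normal) (k : K) :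
    cj hN k (lam K N₁ f) = lam K N₁ (fun n => f ((k : L) * n * (k : L)⁻¹)) := rfl

/-- induction to `K` is compatible with conjugation by elements normalising everything -/
theorem ind_lam_conj [Fintype K] (hK : K.Normal) (hN : N₁.Normal) (x : L) (k : K) :
    indFun (N₁.subgroupOf K) (lam K N₁ f) ⟨x * k * x⁻¹, hK.conj_mem _ k.2 x⟩ =
      indFun (N₁.subgroupOf K) (lam K N₁ (fun n => f (x * n * x⁻¹))) k := by
  rw [indFun, indFun]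
  congr 1
  rw [← Equiv.sum_comp (cjEquiv hK x).toEquiv]
  refine Finset.sum_congr rfl fun z _ => ?_
  have hz : ((cjEquiv hK x).toEquiv z : K) = ⟨x * z * x⁻¹, hK.conj_mem _ z.2 x⟩ := rfl
  rw [hz]
  by_cases hm : ((z : L)⁻¹ * k * z : L) ∈ N₁
  · have h1 : (⟨x * z * x⁻¹, hK.conj_mem _ z.2 x⟩ : K)⁻¹ * ⟨x * k * x⁻¹, hK.conj_mem _ k.2 x⟩ * ⟨x * z * x⁻¹, hK.conj_mem _ z.2 x⟩ ∈ N₁.subgroupOf K := by
      rw [Subgroup.mem_subgroupOf]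
      have := hN.conj_mem _ hm x
      have e : x * ((z : L)⁻¹ * k * z) * x⁻¹ = (x * z * x⁻¹)⁻¹ * (x * k * x⁻¹) * (x * z * x⁻¹) := by group
      rw [e] at this
      exact this
    have h2 : z⁻¹ * k * z ∈ N₁.subgroupOf K := Subgroup.mem_subgroupOf.2 hm
    rw [ext_mem _ _ h1, ext_mem _ _ h2]
    show (f _ : ℂ) = (f _ : ℂ)
    congr 2
    show (x * z * x⁻¹)⁻¹ * (x * k * x⁻¹) * (x * z * x⁻¹) = x * ((z : L)⁻¹ * k * z) * x⁻¹
    group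
  · rw [ext_not_mem, ext_not_mem]
    · intro h2; exact hm (Subgroup.mem_subgroupOf.1 h2)
    · intro h1
      apply hm
      have h3 : (x * z * x⁻¹)⁻¹ * (x * k * x⁻¹) * (x * z * x⁻¹) ∈ N₁ := Subgroup.mem_subgroupOf.1 h1
      have h4 := hN.conj_mem _ h3 x⁻¹
      have e : x⁻¹ * ((x * z * x⁻¹)⁻¹ * (x * k * x⁻¹) * (x * z * x⁻¹)) * x⁻¹⁻¹ = (z : L)⁻¹ * k * z := by group
      rwa [e] at h4

end

namespace P2

variable {G : Type*} [Group G] [Fintype G] {L : Subgroup G} [Fintype L] {K N₁ N₀ : Subgroup L} [Fintype K] {W₁ W₂ : Subgroup G} {A : Set G}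
  {R : G → Subgroup G} (h : P2 L K N₁ N₀ W₁ W₂ A R)
include h

theorem Nn : (N₁.subgroupOf K).Normal := by haveI := h.n1; infer_instance

theorem W1_notin {x : L} (hx : (x : G) ∈ W₁) (hx1 : x ≠ 1) : x ∉ K := by
  intro hK
  have h1 := h.pd.inf
  have h2 : x ∈ K ⊓ W₁.subgroupOf L := ⟨hK, hx⟩
  rw [h1, Subgroup.mem_bot] at h2
  exact hx1 h2

theorem exists_x : ∃ x : L, (x : G) ∈ W₁ ∧ x ∉ K := by
  obtain ⟨a, ha, ha1⟩ := exists_W1 h.pd.toPT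
  exact ⟨⟨a, h.pd.W₁_le ha⟩, ha, h.W1_notin ha fun he => ha1 (by
    have h9 := congrArg Subtype.val he
    exact h9)⟩

/-- the induced character of a `W₁`-invariant linear character of `N₁/N₀` is irreducible -/
theorem ind_irr {f : L → ℂˣ} (hf : Lin N₁ N₀ f) (hi : ∀ x : L, (x : G) ∈ W₁ → ∀ n ∈ N₁, f (x * n * x⁻¹) = f n) :
    IsIrrCharacter K (indFun (N₁.subgroupOf K) (lam K N₁ f)) := by
  haveI := Fintype.ofFinite (N₁.subgroupOf K)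
  have hN := h.Nn
  apply IsChar.isIrr_of_norm (IsChar.ind (IsIrr.isCharacter (lam_irr hf)))
  rw [norm_ind hN (lam_irr hf)]
  obtain ⟨x, hx, hxK⟩ := h.exists_x
  have h1 : inertia hN (lam K N₁ f) = N₁.subgroupOf K := by
    apply le_antisymm
    · intro k hk
      rw [mem_inertia, cj_lam, lam_ext h.le1] at hk
      exact Subgroup.mem_subgroupOf.2 (h.stab hf hxK (hi x hx) k.2 hk)
    · exact le_inertia hN (IsIrr.isClass (lam_irr hf))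
  rw [h1, div_self (Nat.cast_ne_zero.2 Nat.card_pos.ne')]

theorem ind_inv {f : L → ℂˣ} (hi : ∀ x : L, (x : G) ∈ W₁ → ∀ n ∈ N₁, f (x * n * x⁻¹) = f n) (hn : K.Normal) :
    ∀ x ∈ W₁.subgroupOf L, (fun k : K => indFun (N₁.subgroupOf K) (lam K N₁ f) ⟨x * k * x⁻¹, hn.conj_mem (k : L) k.2 x⟩) =
      indFun (N₁.subgroupOf K) (lam K N₁ f) := by
  intro x hx
  funext k
  rw [ind_lam_conj hn h.n1, (lam_ext h.le1).2 (hi x hx)]

/-- two `W₁`-invariant linear characters of `N₁/N₀` with equal induced characters coincide -/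
theorem ind_inj {f f' : L → ℂˣ} (hf : Lin N₁ N₀ f) (hi : ∀ x : L, (x : G) ∈ W₁ → ∀ n ∈ N₁, f (x * n * x⁻¹) = f n)
    (hf' : Lin N₁ N₀ f') (hi' : ∀ x : L, (x : G) ∈ W₁ → ∀ n ∈ N₁, f' (x * n * x⁻¹) = f' n)
    (he : indFun (N₁.subgroupOf K) (lam K N₁ f') = indFun (N₁.subgroupOf K) (lam K N₁ f)) : ∀ n ∈ N₁, f n = f' n := by
  haveI := Fintype.ofFinite (N₁.subgroupOf K)
  have hN := h.Nn
  have nc : ∀ g : L, ∀ n ∈ N₁, g * n * g⁻¹ ∈ N₁ := fun g n hn => h.n1.conj_mem n hn g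
  obtain ⟨k, hk⟩ := (mem_orb hN _ _).1 ((ind_eq_iff hN (lam_irr hf) (lam_irr hf')).1 he)
  rw [cj_lam, lam_ext h.le1] at hk
  obtain ⟨x, hx, hxK⟩ := h.exists_x
  have hx' : ((x⁻¹ : L) : G) ∈ W₁ := by rw [Subgroup.coe_inv]; exact W₁.inv_mem hx
  have hkK : x * k * x⁻¹ ∈ K := h.Kn.conj_mem _ k.2 x
  have h1 : ∀ n ∈ N₁, f ((x * k * x⁻¹) * n * (x * k * x⁻¹)⁻¹) = f' n := by
    intro n hn
    have e : (x * k * x⁻¹) * n * (x * k * x⁻¹)⁻¹ = x * ((k : L) * (x⁻¹ * n * x⁻¹⁻¹) * (k : L)⁻¹) * x⁻¹ := by group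
    rw [e, hi x hx _ (nc _ _ (nc _ n hn)), hk _ (nc _ n hn), hi' _ hx' n hn]
  have h2 : x * k * x⁻¹ * (k : L)⁻¹ ∈ N₁ := by
    refine h.stab hf hxK (hi x hx) (K.mul_mem hkK (K.inv_mem k.2)) fun n hn => ?_
    have e : x * k * x⁻¹ * (k : L)⁻¹ * n * (x * k * x⁻¹ * (k : L)⁻¹)⁻¹ =
      (x * k * x⁻¹) * ((k : L)⁻¹ * n * (k : L)⁻¹⁻¹) * (x * k * x⁻¹)⁻¹ := by group
    rw [e, h1 _ (nc _ n hn), ← hk _ (nc _ n hn)]
    congr 1
    group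
  have h3 := h.frob x hxK k k.2 h2
  intro n hn
  rw [← hk n hn, hf.conj_self h3 hn]

variable {μ : (↥(W₁ ⊔ W₂) →* ℂˣ) → (L → ℂ)} {δ : (↥(W₁ ⊔ W₂) →* ℂˣ) → ℂ} (hμ : MU K W₁ W₂ μ δ)
include hμ

/-- every `μ_j`, `j ≠ 0`, is induced from an invariant linear character of `N₁/N₀` -/
theorem mu_eq {ω : ↥(W₁ ⊔ W₂) →* ℂˣ} (hω : X2 W₁ W₂ ω) (hω1 : ω ≠ 1) :
    ∃ f : L → ℂˣ, Lin N₁ N₀ f ∧ (∀ x : L, (x : G) ∈ W₁ → ∀ n ∈ N₁, f (x * n * x⁻¹) = f n) ∧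
      (fun k : K => μ ω k) = indFun (N₁.subgroupOf K) (lam K N₁ f) := by
  classical
  obtain ⟨f, hf, hi, hw⟩ := h.exists_f
  obtain ⟨⟨a, ha⟩, ha1⟩ := Subgroup.ne_bot_iff_exists_ne_one.1 h.pd.self.2.1
  let w₀ : L := ⟨a, h.pd.W₂_le ha⟩
  have hw₀ : (w₀ : G) ∈ W₂ := ha
  have hw₀1 : w₀ ≠ 1 := fun he => ha1 (by
    apply Subtype.ext
    have h9 := congrArg Subtype.val he
    exact h9)
  have hw₀N := h.W2N _ hw₀
  have hfw := hw w₀ hw₀ hw₀1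
  have hord : orderOf (f w₀) = Nat.card W₂ := by
    apply orderOf_eq_prime (hp := ⟨h.p⟩)
    · rw [← hf.map_pow hw₀N, h.pow_W2 hw₀, hf.one]
    · exact hfw
  -- powers
  have hj : ∀ j : ℕ, 0 < j → j < Nat.card W₂ → Lin N₁ N₀ (fun n => f n ^ j) ∧
      (∀ x : L, (x : G) ∈ W₁ → ∀ n ∈ N₁, f (x * n * x⁻¹) ^ j = f n ^ j) := by
    intro j h0 h1
    refine ⟨⟨hf.pow_mul j, fun x hx => by rw [hf.triv x hx, one_pow], ⟨w₀, hw₀N, ?_⟩⟩, fun x hx n hn => by rw [hi x hx n hn]⟩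
    intro he
    have := orderOf_dvd_of_pow_eq_one he
    rw [hord] at this
    exact absurd (Nat.le_of_dvd h0 this) (by omega)
  have hex : ∀ j : Fin (Nat.card W₂), ∃ φ : {φ : ↥(W₁ ⊔ W₂) →* ℂˣ // X2 W₁ W₂ φ}, (j.1 = 0 → φ.1 = 1) ∧
      (0 < j.1 → (fun k : K => μ φ.1 k) = indFun (N₁.subgroupOf K) (lam K N₁ (fun n => f n ^ j.1))) := by
    intro j
    rcases Nat.eq_zero_or_pos j.1 with h0 | h0
    · exact ⟨⟨1, X2_one⟩, fun _ => rfl, fun h1 => by omega⟩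
    · obtain ⟨h1, h2⟩ := hj j.1 h0 j.2
      obtain ⟨φ, h3, h4⟩ := hμ.inv h.Kn _ (h.ind_irr h1 h2) (h.ind_inv (f := fun n => f n ^ j.1) h2 h.Kn)
      exact ⟨⟨φ, h3⟩, fun h5 => by omega, fun _ => h4⟩
  choose Φ hΦ0 hΦ1 using hex
  have hne1 : ∀ j : Fin (Nat.card W₂), 0 < j.1 → (Φ j).1 ≠ 1 := by
    intro j h0 h1
    have h2 := hΦ1 j h0
    rw [h1] at h2
    have h3 := congrFun h2 1
    have h4 : μ 1 ((1 : K) : L) = 1 := (hμ.lin 1 X1_one).2.1 _ (1 : K).2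
    rw [h4, ind_one, lam_one (hj j.1 h0 j.2).1, mul_one] at h3
    have h5 : (N₁.subgroupOf K).index = 1 := by exact_mod_cast h3.symm
    have h6 := h.hu
    rw [Subgroup.relIndex, h5] at h6
    have := h.q.one_lt
    omega
  have hinj : Function.Injective Φ := by
    intro i j hij
    rcases Nat.eq_zero_or_pos i.1 with h0 | h0
    · rcases Nat.eq_zero_or_pos j.1 with h1 | h1
      · exact Fin.ext (by omega)
      · exact absurd (by rw [← hij]; exact hΦ0 i h0) (hne1 j h1)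
    · rcases Nat.eq_zero_or_pos j.1 with h1 | h1
      · exact absurd (by rw [hij]; exact hΦ0 j h1) (hne1 i h0)
      · have h2 := hΦ1 i h0
        rw [hij, hΦ1 j h1] at h2
        have h3 := h.ind_inj (hj i.1 h0 i.2).1 (hj i.1 h0 i.2).2 (hj j.1 h1 j.2).1 (hj j.1 h1 j.2).2 h2 w₀ hw₀N
        have h4 := pow_inj_mod.1 h3
        rw [hord, Nat.mod_eq_of_lt i.2, Nat.mod_eq_of_lt j.2] at h4
        exact Fin.ext h4
  have hbij : Function.Bijective Φ := by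
    apply Function.Injective.bijective_of_nat_card_le hinj
    rw [card_X2 h.pd.self, Nat.card_fin]
  obtain ⟨j, hjω⟩ := hbij.2 ⟨ω, hω⟩
  have h0 : 0 < j.1 := by
    rcases Nat.eq_zero_or_pos j.1 with h0 | h0
    · exfalso
      apply hω1
      have := hΦ0 j h0
      rw [hjω] at this
      exact this
    · exact h0
  refine ⟨fun n => f n ^ j.1, (hj j.1 h0 j.2).1, (hj j.1 h0 j.2).2, ?_⟩
  rw [← hΦ1 j h0, hjω]

theorem mu_deg {ω : ↥(W₁ ⊔ W₂) →* ℂˣ} (hω : X2 W₁ W₂ ω) (hω1 : ω ≠ 1) : μ ω 1 = (N₁.relIndex K : ℂ) := by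
  obtain ⟨f, hf, -, he⟩ := h.mu_eq hμ hω hω1
  have h1 := congrFun he 1
  rw [ind_one, lam_one hf, mul_one] at h1
  exact h1

theorem mu_ker {ω : ↥(W₁ ⊔ W₂) →* ℂˣ} (hω : X2 W₁ W₂ ω) (hω1 : ω ≠ 1) {k : L} (hk : k ∈ N₀) : μ ω k = μ ω 1 := by
  obtain ⟨f, hf, -, he⟩ := h.mu_eq hμ hω hω1
  haveI := h.n0
  have h1 : ∀ z : K, (z : L) ∈ N₀ → indFun (N₁.subgroupOf K) (lam K N₁ f) z = indFun (N₁.subgroupOf K) (lam K N₁ f) 1 := by
    intro z hz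
    rw [indFun, indFun]
    congr 1
    refine Finset.sum_congr rfl fun y _ => ?_
    have h2 : ((y⁻¹ * z * y : K) : L) ∈ N₀ := by
      have := h.n0.conj_mem _ hz (y : L)⁻¹
      have e : (y : L)⁻¹ * z * (y : L)⁻¹⁻¹ = ((y⁻¹ * z * y : K) : L) := by push_cast; group
      rwa [e] at this
    have h3 : y⁻¹ * z * y ∈ N₁.subgroupOf K := Subgroup.mem_subgroupOf.2 (h.le0 h2)
    have h4 : y⁻¹ * 1 * y = 1 := by group
    have h5 : y⁻¹ * 1 * y ∈ N₁.subgroupOf K := by rw [h4]; exact Subgroup.one_mem _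
    rw [ext_mem _ _ h3, ext_mem _ _ h5]
    show (f _ : ℂ) = (f _ : ℂ)
    rw [hf.triv _ h2, hf.triv]
    show ((y⁻¹ * 1 * y : K) : L) ∈ N₀
    rw [h4]; exact N₀.one_mem
  have h2 := congrFun he ⟨k, h.le1 (h.le0 hk)⟩
  have h3 := congrFun he 1
  rw [← h1 ⟨k, h.le1 (h.le0 hk)⟩ hk, ← h2] at h3
  exact h3.symm

end P2

end Cfsg.Agent.H2.PF11
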