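import Mathlib
import Cfsg.Agent.H2_PF11e
import Cfsg.Agent.H10_IndSet

/-!
H2_PF11f: the set of characters of degree `q`, projections.
-/

set_option autoImplicit false
set_option linter.unusedSectionVars false
set_option linter.style.haveILetI false

namespace Cfsg.Agent.H2.PF11

open Cfsg Cfsg.Agent.H3.CharIrr Cfsg.Agent.H3.CharComplete Cfsg.Agent.H3.CharInd Cfsg.Agent.H3.CharMult
  Cfsg.Agent.H3.CharBasic Cfsg.Agent.H3.CharCalc Cfsg.Agent.H3.Clifford Cfsg.Agent.H3.CharInt Cfsg.Agent.H3.CharQuot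
  Cfsg.Agent.H10.CycTI Cfsg.Agent.H10.CycTI2 Cfsg.Agent.H10.CycTI3 Cfsg.Agent.H10.CycTI4 Cfsg.Agent.H10.PrD2
  Cfsg.Agent.H10.PrD3 Cfsg.Agent.H10.PrD4 Cfsg.Agent.H10.PrD5 Cfsg.Agent.H10.Dade Cfsg.Agent.H10.PM Cfsg.Agent.H10.Coh
  Cfsg.Agent.H10.Coh2 Cfsg.Agent.H10.Coh3 Cfsg.Agent.H10.Coh4 Cfsg.Agent.H10.IndSet2 Cfsg.Agent.H10.OOClif Cfsg.Agent.H10.PrD6
  Cfsg.Agent.H10.PrD7 Cfsg.Agent.H10.PrD8
open scoped ComplexConjugate commutatorElement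

section proj

variable {G : Type*} [Group G] [Fintype G] {W₁ W₂ : Subgroup G}

/-- the characters of `W` trivial on `W₁`, as a finset -/
noncomputable def X2F (W₁ W₂ : Subgroup G) : Finset (↥(W₁ ⊔ W₂) →* ℂˣ) := (Set.toFinite {φ | X2 W₁ W₂ φ}).toFinset

theorem mem_X2F {φ : ↥(W₁ ⊔ W₂) →* ℂˣ} : φ ∈ X2F W₁ W₂ ↔ X2 W₁ W₂ φ := by
  rw [X2F, Set.Finite.mem_toFinset]; rfl

theorem card_X2F (hW : IsSelfNormalizingCyclic W₁ W₂) : (X2F W₁ W₂).card = Nat.card W₂ := by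
  rw [← card_X2 hW, X2F, ← Nat.card_eq_card_finite_toFinset]
  rfl

theorem one_X1F : (1 : ↥(W₁ ⊔ W₂) →* ℂˣ) ∈ X1F W₁ W₂ := mem_X1F.2 X1_one
theorem one_X2F : (1 : ↥(W₁ ⊔ W₂) →* ℂˣ) ∈ X2F W₁ W₂ := mem_X2F.2 X2_one

/-- a combination of an auxiliary family and of the `η_ij` -/
noncomputable def prj {ι : Type*} (T : Finset ι) (st : ι → (G → ℂ)) (η : (↥(W₁ ⊔ W₂) →* ℂˣ) → (G → ℂ))
    (x : ι → ℤ) (d : (↥(W₁ ⊔ W₂) →* ℂˣ) → ℤ) : G → ℂ :=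
  ∑ χ ∈ T, (x χ : ℂ) • st χ + ∑ φ ∈ X1F W₁ W₂, ∑ ψ ∈ X2F W₁ W₂, (d (φ * ψ) : ℂ) • η (φ * ψ)

theorem ci_prj {ι : Type*} {T : Finset ι} {st : ι → (G → ℂ)} {η : (↥(W₁ ⊔ W₂) →* ℂˣ) → (G → ℂ)}
    {x : ι → ℤ} {d : (↥(W₁ ⊔ W₂) →* ℂˣ) → ℤ} {g : G → ℂ} {y : ι → ℤ} {e : (↥(W₁ ⊔ W₂) →* ℂˣ) → ℤ}
    (hy : ∀ χ ∈ T, classInner g (st χ) = y χ) (he : ∀ ω, classInner g (η ω) = e ω) :
    classInner g (prj T st η x d) = ((∑ χ ∈ T, y χ * x χ + ∑ φ ∈ X1F W₁ W₂, ∑ ψ ∈ X2F W₁ W₂, e (φ * ψ) * d (φ * ψ) : ℤ) : ℂ) := by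
  rw [prj, ci_add_right, ci_sum_right, ci_sum_right]
  push_cast
  congr 1
  · refine Finset.sum_congr rfl fun χ hχ => ?_
    rw [ci_smul_right, hy χ hχ, Cfsg.Agent.H10.Sib.cint]; ring
  · refine Finset.sum_congr rfl fun φ _ => ?_
    rw [ci_sum_right]
    refine Finset.sum_congr rfl fun ψ _ => ?_
    rw [ci_smul_right, he, Cfsg.Agent.H10.Sib.cint]; ring

theorem prj_st {ι : Type*} [DecidableEq ι] {T : Finset ι} {st : ι → (G → ℂ)} {η : (↥(W₁ ⊔ W₂) →* ℂˣ) → (G → ℂ)}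
    (h1 : ∀ χ ∈ T, ∀ χ' ∈ T, classInner (st χ) (st χ') = if χ = χ' then 1 else 0)
    (h2 : ∀ χ ∈ T, ∀ ω, classInner (η ω) (st χ) = 0)
    {x : ι → ℤ} {d : (↥(W₁ ⊔ W₂) →* ℂˣ) → ℤ} {χ : ι} (hχ : χ ∈ T) :
    classInner (prj T st η x d) (st χ) = x χ := by
  rw [prj, ci_add_left, ci_sum_left, ci_sum_left, Finset.sum_eq_single χ]
  · rw [ci_smul_left, h1 χ hχ χ hχ, if_pos rfl, mul_one, Finset.sum_eq_zero, add_zero]
    intro φ _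
    rw [ci_sum_left]
    exact Finset.sum_eq_zero fun ψ _ => by rw [ci_smul_left, h2 χ hχ, mul_zero]
  · intro χ' hχ' hne
    rw [ci_smul_left, h1 χ' hχ' χ hχ, if_neg hne, mul_zero]
  · intro hn; exact absurd hχ hn

theorem prj_eta (hW : IsSelfNormalizingCyclic W₁ W₂) {ι : Type*} {T : Finset ι} {st : ι → (G → ℂ)}
    {η : (↥(W₁ ⊔ W₂) →* ℂˣ) → (G → ℂ)} (hη : IsCyclicTIFamily W₁ W₂ η)
    (h2 : ∀ χ ∈ T, ∀ ω, classInner (η ω) (st χ) = 0)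
    {x : ι → ℤ} {d : (↥(W₁ ⊔ W₂) →* ℂˣ) → ℤ} (ω : ↥(W₁ ⊔ W₂) →* ℂˣ) :
    classInner (prj T st η x d) (η ω) = d ω := by
  classical
  obtain ⟨φ, ψ, hφ, hψ, rfl⟩ := exists_decomp ω (hdisj hW) (hcomm hW)
  rw [prj, ci_add_left, ci_sum_left, ci_sum_left, Finset.sum_eq_zero, zero_add, Finset.sum_eq_single φ]
  · rw [ci_sum_left, Finset.sum_eq_single ψ]
    · rw [ci_smul_left, eta_self hη, mul_one]
    · intro ψ' hψ' hne
      rw [ci_smul_left, eta_ne hη (mul_ne hW hη hφ hφ (mem_X2F.1 hψ') hψ (Or.inr hne)), mul_zero]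
    · intro hn; exact absurd (mem_X2F.2 hψ) hn
  · intro φ' hφ' hne
    rw [ci_sum_left]
    exact Finset.sum_eq_zero fun ψ' hψ' => by
      rw [ci_smul_left, eta_ne hη (mul_ne hW hη (mem_X1F.1 hφ') hφ (mem_X2F.1 hψ') hψ (Or.inl hne)), mul_zero]
  · intro hn; exact absurd (mem_X1F.2 hφ) hn
  · intro χ hχ
    rw [ci_smul_left, ← ci_conj_symm, h2 χ hχ, map_zero, mul_zero]

/-- Bessel's inequality, with remainder -/
theorem bes (hW : IsSelfNormalizingCyclic W₁ W₂) {ι : Type*} [DecidableEq ι] {T : Finset ι} {st : ι → (G → ℂ)}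
    {η : (↥(W₁ ⊔ W₂) →* ℂˣ) → (G → ℂ)} (hη : IsCyclicTIFamily W₁ W₂ η)
    (h1 : ∀ χ ∈ T, ∀ χ' ∈ T, classInner (st χ) (st χ') = if χ = χ' then 1 else 0)
    (h2 : ∀ χ ∈ T, ∀ ω, classInner (η ω) (st χ) = 0)
    {x : ι → ℤ} {d : (↥(W₁ ⊔ W₂) →* ℂˣ) → ℤ} {f : G → ℂ}
    (hx : ∀ χ ∈ T, classInner f (st χ) = x χ) (hd : ∀ ω, classInner f (η ω) = d ω) :
    classInner (f - prj T st η x d) (f - prj T st η x d) =
      classInner f f - ((∑ χ ∈ T, x χ * x χ + ∑ φ ∈ X1F W₁ W₂, ∑ ψ ∈ X2F W₁ W₂, d (φ * ψ) * d (φ * ψ) : ℤ) : ℂ) := by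
  have e1 := ci_prj (x := x) (d := d) (η := η) (T := T) (st := st) hx hd
  have e2 : classInner (prj T st η x d) (prj T st η x d) = _ := ci_prj (x := x) (d := d) (fun χ hχ => prj_st h1 h2 hχ)
    (fun ω => prj_eta hW hη h2 ω)
  have e3 : classInner (prj T st η x d) f = classInner f (prj T st η x d) := by
    rw [← ci_conj_symm, e1, Cfsg.Agent.H10.Sib.cint]
  rw [ci_sub_left, ci_sub_right, ci_sub_right, e3, e2, e1]
  ring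

/-- Bessel's inequality -/
theorem bes_le (hW : IsSelfNormalizingCyclic W₁ W₂) {ι : Type*} [DecidableEq ι] {T : Finset ι} {st : ι → (G → ℂ)}
    {η : (↥(W₁ ⊔ W₂) →* ℂˣ) → (G → ℂ)} (hη : IsCyclicTIFamily W₁ W₂ η)
    (h1 : ∀ χ ∈ T, ∀ χ' ∈ T, classInner (st χ) (st χ') = if χ = χ' then 1 else 0)
    (h2 : ∀ χ ∈ T, ∀ ω, classInner (η ω) (st χ) = 0)
    {x : ι → ℤ} {d : (↥(W₁ ⊔ W₂) →* ℂˣ) → ℤ} {f : G → ℂ} {n : ℤ} (hn : classInner f f = n)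
    (hx : ∀ χ ∈ T, classInner f (st χ) = x χ) (hd : ∀ ω, classInner f (η ω) = d ω) :
    (∑ χ ∈ T, x χ * x χ + ∑ φ ∈ X1F W₁ W₂, ∑ ψ ∈ X2F W₁ W₂, d (φ * ψ) * d (φ * ψ) ≤ n) ∧
    (n = ∑ χ ∈ T, x χ * x χ + ∑ φ ∈ X1F W₁ W₂, ∑ ψ ∈ X2F W₁ W₂, d (φ * ψ) * d (φ * ψ) → f = prj T st η x d) := by
  have e := bes hW hη h1 h2 hx hd
  rw [hn] at e
  constructor
  · have h3 := ci_self_re_nonneg (f - prj T st η x d)
    rw [e, ← Int.cast_sub, Complex.intCast_re] at h3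
    have h4 : (0 : ℤ) ≤ n - (∑ χ ∈ T, x χ * x χ + ∑ φ ∈ X1F W₁ W₂, ∑ ψ ∈ X2F W₁ W₂, d (φ * ψ) * d (φ * ψ)) := by exact_mod_cast h3
    omega
  · intro he
    rw [he, sub_self] at e
    exact sub_eq_zero.1 (ci_self_eq_zero e)

end proj

namespace P2

variable {G : Type*} [Group G] [Fintype G] {L : Subgroup G} [Fintype L] {K N₁ N₀ : Subgroup L} [Fintype K] {W₁ W₂ : Subgroup G} {A : Set G}
  {R : G → Subgroup G} (h : P2 L K N₁ N₀ W₁ W₂ A R)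
include h

theorem deg_le {θ : K → ℂ} (hθ : IsIrrCharacter K θ) (hk : ∀ k : K, (k : L) ∈ N₀ → θ k = θ 1) :
    (θ 1).re ≤ (N₁.relIndex K : ℝ) := by
  have h1 := Cfsg.Agent.H10.IndSet.deg_bound (C := N₁.subgroupOf K) (D := N₁.subgroupOf K) le_rfl hθ (fun x hx y hy => hk _ (by
    have := h.ab1 x hx y hy
    push_cast
    exact this))
  rw [Subgroup.relIndex_self, Nat.cast_one, mul_one] at h1
  have h2 : (0 : ℝ) ≤ ((N₁.subgroupOf K).index : ℝ) := Nat.cast_nonneg _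
  exact abs_le_of_sq_le_sq' (by simpa using h1) h2 |>.2

theorem lin_of {θ : K → ℂ} (hθ : IsIrrCharacter K θ) (hk : ∀ k : K, (k : L) ∈ N₁ → θ k = θ 1) : θ 1 = 1 := by
  have h1 := Cfsg.Agent.H10.IndSet.deg_bound (C := (⊤ : Subgroup K)) (D := ⊤) le_rfl hθ (fun x _ y _ => hk _ (by
    have := h.abK x x.2 y y.2
    push_cast
    exact this))
  rw [Subgroup.relIndex_self, Nat.cast_one, mul_one, Subgroup.index_top, Nat.cast_one, one_pow] at h1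
  obtain ⟨n, hn0, hn⟩ := IsIrr.one_eq_nat hθ
  rw [hn, Complex.natCast_re] at h1
  have h2 : n ^ 2 ≤ 1 := by exact_mod_cast h1
  have h3 : n = 1 := by nlinarith
  rw [hn, h3, Nat.cast_one]

variable {μ : (↥(W₁ ⊔ W₂) →* ℂˣ) → (L → ℂ)} {δ : (↥(W₁ ⊔ W₂) →* ℂˣ) → ℂ} (hμ : MU K W₁ W₂ μ δ)
include hμ

/-- the members of `inducedIrrAbove K N₁` -/
theorem S1_mem {χ : L → ℂ} (hχ : χ ∈ inducedIrrAbove K N₁) : ∃ θ : K → ℂ, IsIrrCharacter K θ ∧ θ ≠ (fun _ => 1) ∧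
    (∀ k : K, (k : L) ∈ N₁ → θ k = θ 1) ∧ χ = indFun K θ ∧ θ 1 = 1 ∧ IsIrrCharacter L χ ∧ χ 1 = Nat.card W₁ := by
  obtain ⟨θ, hθ, hne, hk, rfl⟩ := hχ
  have h1 := h.lin_of hθ hk
  refine ⟨θ, hθ, hne, hk, rfl, h1, hμ.classify θ hθ ?_, ?_⟩
  · intro ω hω he
    by_cases h2 : ω = 1
    · apply hne
      rw [← he, h2]
      funext k
      exact (hμ.lin 1 X1_one).2.1 k k.2
    · have h3 := congrFun he 1
      have h4 := h.mu_deg hμ hω h2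
      have h5 : μ ω ((1 : K) : L) = θ 1 := h3
      rw [Subgroup.coe_one, h4, h1] at h5
      have h6 : N₁.relIndex K = 1 := by exact_mod_cast h5
      have h7 := h.hu
      have := h.q.one_lt
      omega
  · rw [ind_one, h1, mul_one, index_K h.pd.toPT]

theorem card_S1 : (SF K N₁).card * Nat.card W₁ + 1 = N₁.relIndex K := by
  classical
  haveI := h.n1
  have h1 := sum_SF h.Kn N₁
  have h2 : ∀ φ ∈ SF K N₁, (φ 1).re ^ 2 / (classInner φ φ).re = (Nat.card W₁ : ℝ) ^ 2 := by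
    intro φ hφ
    obtain ⟨θ, hθ, hne, hk, he, h3, h4, h5⟩ := h.S1_mem hμ (mem_SF.1 hφ)
    rw [h5, ci_irr_self h4, Complex.natCast_re, Complex.one_re, div_one]
  rw [Finset.sum_congr rfl h2, Finset.sum_const, nsmul_eq_mul, index_K h.pd.toPT] at h1
  have h3 : (0 : ℝ) < Nat.card W₁ := Nat.cast_pos.2 Nat.card_pos
  have h4 : ((SF K N₁).card : ℝ) * Nat.card W₁ = (N₁.relIndex K : ℝ) - 1 := by
    have : (Nat.card W₁ : ℝ) * (((SF K N₁).card : ℝ) * Nat.card W₁) = (Nat.card W₁ : ℝ) * ((N₁.relIndex K : ℝ) - 1) := by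
      rw [← h1]; ring
    exact mul_left_cancel₀ h3.ne' this
  have h5 : (((SF K N₁).card * Nat.card W₁ + 1 : ℕ) : ℝ) = (N₁.relIndex K : ℝ) := by
    push_cast; linarith
  exact_mod_cast h5

theorem delta_one {ω : ↥(W₁ ⊔ W₂) →* ℂˣ} (hω : X2 W₁ W₂ ω) (hω1 : ω ≠ 1) : δ ω = 1 := by
  rcases hμ.sign ω with h1 | h1
  · exact h1
  · exfalso
    obtain ⟨n, hn⟩ := hμ.cong ω
    rw [h1, h.mu_deg hμ hω hω1, ← h.card_S1 hμ] at hn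
    have h2 : (((SF K N₁).card * Nat.card W₁ + 1 : ℕ) : ℤ) + 1 = n * (Nat.card W₁ : ℤ) := by
      have : ((((SF K N₁).card * Nat.card W₁ + 1 : ℕ) : ℤ) + 1 : ℂ) = n * (Nat.card W₁ : ℤ) := by
        push_cast at hn ⊢
        rw [← hn]; ring
      exact_mod_cast this
    have h3 : (Nat.card W₁ : ℤ) ∣ 2 := ⟨n - (SF K N₁).card, by push_cast at h2; linarith⟩
    have h4 := Int.le_of_dvd (by norm_num) h3
    have h5 := three_W1 h.pd.toPT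
    omega

/-- off `A₀` -/
theorem off (_hμ : MU K W₁ W₂ μ δ) {x : L} (hx : (x : G) ∉ A0 L W₁ W₂ A) : x = 1 ∨ x ∉ K := by
  by_contra hcon
  push Not at hcon
  exact hx (Or.inl (h.pd.A_cent x hcon.2 hcon.1 ⟨x, hcon.2, hcon.1, rfl⟩))

end P2

end Cfsg.Agent.H2.PF11
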