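import Mathlib
import Cfsg.Agent.H2_PF11f

/-!
H2_PF11g: the image of `μ_0 - ζ` (compare Peterfalvi (10.5), (11.7)).
-/

set_option autoImplicit false
set_option linter.unusedSectionVars false
set_option linter.style.haveILetI false

namespace Cfsg.Agent.H2.PF11

open Cfsg Cfsg.Agent.H3.CharIrr Cfsg.Agent.H3.CharComplete Cfsg.Agent.H3.CharInd Cfsg.Agent.H3.CharMult
  Cfsg.Agent.H3.CharBasic Cfsg.Agent.H3.CharCalc Cfsg.Agent.H3.Clifford Cfsg.Agent.H3.CharInt Cfsg.Agent.H3.CharQuot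
  Cfsg.Agent.H10.CycTI Cfsg.Agent.H10.CycTI2 Cfsg.Agent.H10.CycTI3 Cfsg.Agent.H10.CycTI4 Cfsg.Agent.H10.PrD2
  Cfsg.Agent.H10.PrD3 Cfsg.Agent.H10.PrD4 Cfsg.Agent.H10.PrD5 Cfsg.Agent.H10.Dade Cfsg.Agent.H10.PM Cfsg.Agent.H10.Coh
  Cfsg.Agent.H10.Coh2 Cfsg.Agent.H10.Coh3 Cfsg.Agent.H10.Coh4 Cfsg.Agent.H10.IndSet2 Cfsg.Agent.H10.OOClif Cfsg.Agent.H10.PrD6
  Cfsg.Agent.H10.PrD7 Cfsg.Agent.H10.PrD8
open scoped ComplexConjugate commutatorElement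

theorem pow_app {P : Type*} [Group P] (φ : P →* ℂˣ) (t : ℕ) (w : P) : (φ ^ t) w = φ w ^ t := rfl

/-- two nontrivial characters of a group of prime order are Galois conjugate -/
theorem gal_pow {P : Type*} [Group P] {q : ℕ} (hq : q.Prime) {φ φ' : P →* ℂˣ} {a : P}
    (hP : ∀ w : P, ∃ (k : ℕ) (b : P), w = a ^ k * b ∧ φ b = 1 ∧ φ' b = 1) (ha : a ^ q = 1) (h1 : φ a ≠ 1) (h2 : φ' a ≠ 1)
    {N : ℕ} (hN : N ≠ 0) : ∃ t, N.Coprime t ∧ φ' = φ ^ t := by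
  have hp1 : (φ a) ^ q = 1 := by rw [← map_pow, ha, map_one]
  have hp2 : (φ' a) ^ q = 1 := by rw [← map_pow, ha, map_one]
  haveI : NeZero q := ⟨hq.ne_zero⟩
  have hprim : IsPrimitiveRoot ((φ a : ℂˣ) : ℂ) q := by
    have h3 : orderOf (φ a) = q := by
      haveI : Fact q.Prime := ⟨hq⟩
      exact orderOf_eq_prime hp1 h1
    have h4 : IsPrimitiveRoot (φ a) q := by
      rw [← h3]; exact IsPrimitiveRoot.orderOf _
    exact IsPrimitiveRoot.coe_units_iff.2 h4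
  obtain ⟨i, hi, he⟩ := hprim.eq_pow_of_pow_eq_one (ξ := ((φ' a : ℂˣ) : ℂ)) (by
    rw [← Units.val_pow_eq_pow_val, hp2]; rfl)
  have he' : φ a ^ i = φ' a := Units.ext (by rw [Units.val_pow_eq_pow_val]; exact he)
  have hi0 : i ≠ 0 := by
    rintro rfl
    rw [pow_zero] at he'
    exact h2 he'.symm
  have hcop : i.Coprime q := by
    rw [Nat.coprime_comm]
    exact (Nat.Prime.coprime_iff_not_dvd hq).2 fun hd => by
      have := Nat.le_of_dvd (Nat.pos_of_ne_zero hi0) hd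
      omega
  obtain ⟨t, ht1, -, ht2⟩ := Cfsg.Agent.H10.CycTI5.exists_coprime (n := q) (a := 1) hN (Nat.coprime_one_right q) hcop
  refine ⟨t, ht2, ?_⟩
  have hta : φ a ^ t = φ' a := by
    rw [← he']
    apply pow_eq_pow_iff_modEq.2
    exact ht1.of_dvd (orderOf_dvd_of_pow_eq_one hp1)
  ext w
  obtain ⟨k, b, hw, hb, hb'⟩ := hP w
  rw [pow_app, hw, map_mul, map_mul, hb, hb', mul_one, mul_one, map_pow, map_pow, ← hta, ← pow_mul, ← pow_mul, mul_comm]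

/-- the arithmetic of the two cases -/
theorem arith {p q a b : ℤ} (hp : 3 ≤ p) (hq : 3 ≤ q)
    (h : 1 + (q - 1) * (a * a) + ((p - 1) * (b * b + (q - 1) * ((a + b - 1) * (a + b - 1)))) ≤ q) :
    (a = 1 ∧ b = 0) ∨ (a = 0 ∧ b = 1 ∧ p ≤ q) := by
  have hc : a + b - 1 = 0 := by
    by_contra hne
    have h1 : 1 ≤ (a + b - 1) * (a + b - 1) := by
      rcases lt_or_gt_of_ne hne with h2 | h2 <;> nlinarith
    have h2 : (q - 1) * 1 ≤ (q - 1) * ((a + b - 1) * (a + b - 1)) := mul_le_mul_of_nonneg_left h1 (by linarith)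
    have h3 : 2 * ((q - 1) * 1) ≤ (p - 1) * (b * b + (q - 1) * ((a + b - 1) * (a + b - 1))) := by
      have h4 : (q - 1) * 1 ≤ b * b + (q - 1) * ((a + b - 1) * (a + b - 1)) := by nlinarith [mul_self_nonneg b]
      nlinarith
    nlinarith [mul_nonneg (by linarith : (0:ℤ) ≤ q - 1) (mul_self_nonneg a)]
  rw [hc] at h
  have hb : b = 1 - a := by linarith
  subst hb
  have h5 : a ≤ 1 := by
    by_contra h6
    push Not at h6
    have h7 : 4 ≤ a * a := by nlinarith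
    nlinarith [mul_self_nonneg (1 - a)]
  have h6 : 0 ≤ a := by
    by_contra h7
    push Not at h7
    have h8 : 1 ≤ a * a := by nlinarith
    have h9 : 4 ≤ (1 - a) * (1 - a) := by nlinarith
    nlinarith
  have h7 : a = 0 ∨ a = 1 := by omega
  rcases h7 with rfl | rfl
  · right
    refine ⟨rfl, by norm_num, ?_⟩
    norm_num at h
    linarith
  · left
    exact ⟨rfl, by norm_num⟩

/-- members of `inducedIrrAbove` are in `indD K K ⊥` -/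
theorem above_indD {L : Type*} [Group L] [Fintype L] {K A : Subgroup L} : inducedIrrAbove K A ⊆ indD K K ⊥ := by
  rintro χ ⟨θ, hθ, hne, hA, rfl⟩
  haveI := Fintype.ofFinite K
  refine ⟨θ, hθ, ?_, fun k hk => ?_, rfl⟩
  · by_contra hcon
    push Not at hcon
    have h1 : θ = θ 1 • (fun _ => (1 : ℂ)) := by
      funext k
      rw [Pi.smul_apply, smul_eq_mul, mul_one]
      exact hcon k k.2
    have h2 : classInner θ (fun _ => 1) = 0 := ci_irr_ne hθ isIrr_one hne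
    rw [h1, ci_smul_left, ci_irr_self isIrr_one, mul_one] at h2
    exact IsIrr.one_ne_zero hθ h2
  · have : k = 1 := Subtype.ext hk
    rw [this]

namespace P2

variable {G : Type*} [Group G] [Fintype G] {L : Subgroup G} [Fintype L] {K N₁ N₀ : Subgroup L} [Fintype K] {W₁ W₂ : Subgroup G} {A : Set G}
  {R : G → Subgroup G} (h : P2 L K N₁ N₀ W₁ W₂ A R)
include h

theorem t_gen {α : L → ℂ} (hg : IsGeneralizedCharacter L α) (hs : ∀ x : L, (x : G) ∉ A0 L W₁ W₂ A → α x = 0) :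
    IsGeneralizedCharacter G (dadeIsometry (A0 L W₁ W₂ A) L R α) := Cfsg.Agent.H10.Dade3.dade_gen h.pd.dade hg hs

theorem t_ci {α β : L → ℂ} (hα : IsClassFunction L α) (hs : ∀ x : L, (x : G) ∉ A0 L W₁ W₂ A → α x = 0)
    (hβ : IsClassFunction L β) :
    classInner (dadeIsometry (A0 L W₁ W₂ A) L R α) (dadeIsometry (A0 L W₁ W₂ A) L R β) = classInner α β :=
  isometry h.pd.dade hα hs hβ

variable {μ : (↥(W₁ ⊔ W₂) →* ℂˣ) → (L → ℂ)} {δ : (↥(W₁ ⊔ W₂) →* ℂˣ) → ℂ} (hμ : MU K W₁ W₂ μ δ)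
include hμ

/-- support of functions vanishing off `K^#` -/
theorem supp {α : L → ℂ} (h1 : α 1 = 0) (hK : ∀ x : L, x ∉ K → α x = 0) :
    (∀ x : L, (x : G) ∉ A0 L W₁ W₂ A → α x = 0) ∧ ∀ v : L, (v : G) ∈ V W₁ W₂ → α v = 0 := by
  constructor
  · intro x hx
    rcases h.off hμ hμ hx with rfl | h2
    · exact h1
    · exact hK x h2
  · intro v hv
    exact hK v (V_not_K h.pd hv)

theorem red1 (ψ : ↥(W₁ ⊔ W₂) →* ℂˣ) {x : L} (hx : x ∉ K) : red K μ ψ x = 0 := red_off h.pd.toPT hμ hx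

theorem ind_off (θ : K → ℂ) {x : L} (hx : x ∉ K) : indFun K θ x = 0 := ind_of_not_mem h.Kn θ hx

theorem mu_one_eq : μ 1 = fun _ => 1 := by
  classical
  have h1 := hμ.lin 1 X1_one
  funext x
  by_cases hx : x ∈ K
  · exact h1.2.1 x hx
  · obtain ⟨y, w, hw, hw2, e⟩ := conj_W h.pd.toPT hx
    have h2 := IsIrr.isClass (hμ.irr 1) x y
    rw [e] at h2
    rw [← h2, h1.2.2 w hw]; rfl

theorem red_one' : red K μ 1 1 = Nat.card W₁ := by
  rw [red_one h.pd.toPT hμ, h.mu_one_eq hμ, mul_one]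

theorem red_ci_one : classInner (red K μ 1) (fun _ => 1) = 1 := by
  classical
  have h1 := red_mu h.pd.toPT hμ (ψ := 1) (ψ' := 1) (φ := 1) X2_one X2_one X1_one
  rw [if_pos rfl, hom_one_mul, h.mu_one_eq hμ] at h1
  exact h1

theorem red_nn : classInner (red K μ 1) (red K μ 1) = Nat.card W₁ := by
  classical
  rw [red_red h.pd.toPT hμ X2_one X2_one, if_pos rfl]

/-- irreducible characters of degree `≠ 1, u` are orthogonal to the `μ_j` -/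
theorem S1_ne_mu {ζ : L → ℂ} (hζ : ζ ∈ inducedIrrAbove K N₁) (ω : ↥(W₁ ⊔ W₂) →* ℂˣ) : classInner (μ ω) ζ = 0 := by
  obtain ⟨θ, hθ, hne, hk, rfl, h3, h4, h5⟩ := h.S1_mem hμ hζ
  apply ci_irr_ne (hμ.irr ω) h4
  intro he
  obtain ⟨φ, ψ, hφ, hψ, rfl⟩ := exists_decomp ω (hdisj h.pd.self) (hcomm h.pd.self)
  have h6 := congrFun he 1
  rw [deg_col h.pd.toPT hμ _ _ hφ, h5] at h6
  have h7 := three_W1 h.pd.toPT
  by_cases hψ1 : ψ = 1
  · rw [hψ1, h.mu_one_eq hμ] at h6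
    have h6' : (1 : ℂ) = (Nat.card W₁ : ℂ) := h6
    have h8 : (1 : ℕ) = Nat.card W₁ := by exact_mod_cast h6'
    omega
  · rw [h.mu_deg hμ hψ hψ1] at h6
    have h8 : N₁.relIndex K = Nat.card W₁ := by exact_mod_cast h6
    have := h.hu
    omega

theorem S1_red {ζ : L → ℂ} (hζ : ζ ∈ inducedIrrAbove K N₁) (ψ : ↥(W₁ ⊔ W₂) →* ℂˣ) : classInner (red K μ ψ) ζ = 0 := by
  rw [red_sum h.pd.toPT hμ, ci_sum_left]
  exact Finset.sum_eq_zero fun φ _ => h.S1_ne_mu hμ hζ _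

theorem S1_one {ζ : L → ℂ} (hζ : ζ ∈ inducedIrrAbove K N₁) : classInner ζ (fun _ => 1) = 0 := by
  rw [← h.mu_one_eq hμ, ← ci_conj_symm, h.S1_ne_mu hμ hζ, map_zero]

theorem S1_conj {ζ : L → ℂ} (hζ : ζ ∈ inducedIrrAbove K N₁) : conjFun ζ ≠ ζ := indD_conj_ne h.pd (above_indD hζ)

theorem S1_ci [DecidableEq (L → ℂ)] {ζ ζ' : L → ℂ} (hζ : ζ ∈ inducedIrrAbove K N₁) (hζ' : ζ' ∈ inducedIrrAbove K N₁) :
    classInner ζ ζ' = if ζ = ζ' then 1 else 0 := by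
  obtain ⟨-, -, -, -, -, -, h4, -⟩ := h.S1_mem hμ hζ
  obtain ⟨-, -, -, -, -, -, h4', -⟩ := h.S1_mem hμ hζ'
  exact ci_irr h4 h4'

theorem S1_off {ζ : L → ℂ} (hζ : ζ ∈ inducedIrrAbove K N₁) {x : L} (hx : x ∉ K) : ζ x = 0 := by
  obtain ⟨θ, -, -, -, rfl, -, -, -⟩ := h.S1_mem hμ hζ
  exact h.ind_off hμ θ hx

/-- support of `μ_0 - ζ` -/
theorem supp0 {ζ : L → ℂ} (hζ : ζ ∈ inducedIrrAbove K N₁) :
    (∀ x : L, (x : G) ∉ A0 L W₁ W₂ A → (red K μ 1 - ζ) x = 0) ∧ ∀ v : L, (v : G) ∈ V W₁ W₂ → (red K μ 1 - ζ) v = 0 := by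
  apply h.supp hμ
  · obtain ⟨-, -, -, -, -, -, -, h5⟩ := h.S1_mem hμ hζ
    rw [Pi.sub_apply, h.red_one' hμ, h5, sub_self]
  · intro x hx
    rw [Pi.sub_apply, h.red1 hμ 1 hx, h.S1_off hμ hζ hx, sub_self]

theorem supp1 {ζ ζ' : L → ℂ} (hζ : ζ ∈ inducedIrrAbove K N₁) (hζ' : ζ' ∈ inducedIrrAbove K N₁) :
    (∀ x : L, (x : G) ∉ A0 L W₁ W₂ A → (ζ - ζ') x = 0) ∧ ∀ v : L, (v : G) ∈ V W₁ W₂ → (ζ - ζ') v = 0 := by
  apply h.supp hμ
  · obtain ⟨-, -, -, -, -, -, -, h5⟩ := h.S1_mem hμ hζ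
    obtain ⟨-, -, -, -, -, -, -, h5'⟩ := h.S1_mem hμ hζ'
    rw [Pi.sub_apply, h5, h5', sub_self]
  · intro x hx
    rw [Pi.sub_apply, h.S1_off hμ hζ hx, h.S1_off hμ hζ' hx, sub_self]

theorem gen0 {ζ : L → ℂ} (hζ : ζ ∈ inducedIrrAbove K N₁) : IsGeneralizedCharacter L (red K μ 1 - ζ) := by
  obtain ⟨-, -, -, -, -, -, h4, -⟩ := h.S1_mem hμ hζ
  exact IsGen.sub (IsGen.of_char (red_char h.pd.toPT hμ 1)) (IsGen.of_irr h4)

theorem gen1 {ζ ζ' : L → ℂ} (hζ : ζ ∈ inducedIrrAbove K N₁) (hζ' : ζ' ∈ inducedIrrAbove K N₁) : IsGeneralizedCharacter L (ζ - ζ') := by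
  obtain ⟨-, -, -, -, -, -, h4, -⟩ := h.S1_mem hμ hζ
  obtain ⟨-, -, -, -, -, -, h4', -⟩ := h.S1_mem hμ hζ'
  exact IsGen.sub (IsGen.of_irr h4) (IsGen.of_irr h4')

variable {η : (↥(W₁ ⊔ W₂) →* ℂˣ) → (G → ℂ)} (hη : IsCyclicTIFamily W₁ W₂ η)
include hη

theorem S1_orth {ζ ζ' : L → ℂ} (hζ : ζ ∈ inducedIrrAbove K N₁) (hζ' : ζ' ∈ inducedIrrAbove K N₁) (ω : ↥(W₁ ⊔ W₂) →* ℂˣ) :
    classInner (dadeIsometry (A0 L W₁ W₂ A) L R (ζ - ζ')) (η ω) = 0 := by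
  obtain ⟨-, -, -, -, -, -, h4, -⟩ := h.S1_mem hμ hζ
  obtain ⟨-, -, -, -, -, -, h4', -⟩ := h.S1_mem hμ hζ'
  exact diff_orth h.pd hη h4 h4' (h.supp1 hμ hζ hζ').1 (h.supp1 hμ hζ hζ').2 ω

/-- Galois invariance of the coefficients -/
theorem gal0 {ζ : L → ℂ} (hζ : ζ ∈ inducedIrrAbove K N₁) {t : ℕ} (ht : (Nat.card G).Coprime t) (ω : ↥(W₁ ⊔ W₂) →* ℂˣ) :
    classInner (dadeIsometry (A0 L W₁ W₂ A) L R (red K μ 1 - ζ)) (η (ω ^ t)) =
      classInner (dadeIsometry (A0 L W₁ W₂ A) L R (red K μ 1 - ζ)) (η ω) := by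
  obtain ⟨θ, hθ, hne, hk, he, h3, h4, h5⟩ := h.S1_mem hμ hζ
  obtain ⟨F, hF⟩ := IsChar.hom_units_of_one (IsIrr.isCharacter hθ) h3
  have htL : (Nat.card L).Coprime t := Nat.Coprime.coprime_dvd_left (Subgroup.card_subgroup_dvd_card _) ht
  have htK : (Nat.card K).Coprime t := Nat.Coprime.coprime_dvd_left (Subgroup.card_subgroup_dvd_card _) htL
  obtain ⟨s, -, hs1, hs2⟩ := exists_inv_exp htK
  let θt : K → ℂ := fun k => θ (k ^ t)
  have hθt : IsIrrCharacter K θt := by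
    have h6 : θt = fun k => ((F ^ t) k : ℂ) := by
      funext k
      show θ (k ^ t) = _
      rw [hF, map_pow, pow_app]
    rw [h6]
    exact isIrr_of_hom_units (F ^ t)
  have hζt : indFun K θt ∈ inducedIrrAbove K N₁ := by
    refine ⟨θt, hθt, fun hc => hne ?_, fun k hk' => ?_, rfl⟩
    · funext k
      have := congrFun hc (k ^ s)
      have h7 : θ ((k ^ s) ^ t) = 1 := this
      rwa [hs2] at h7
    · show θ (k ^ t) = θ (1 ^ t)
      rw [one_pow]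
      exact hk _ (by rw [Subgroup.coe_pow]; exact Subgroup.pow_mem _ hk' t)
  have hpw : pw t (red K μ 1 - ζ) = red K μ 1 - indFun K θt := by
    funext g
    show red K μ 1 (g ^ t) - ζ (g ^ t) = red K μ 1 g - indFun K θt g
    rw [he, red, Cfsg.Agent.H10.CycTI5.ind_pow_fun htL, Cfsg.Agent.H10.CycTI5.ind_pow_fun htL]
    congr 1
    simp only [h.mu_one_eq hμ]
  have e1 : dadeIsometry (A0 L W₁ W₂ A) L R (pw t (red K μ 1 - ζ)) = pw t (dadeIsometry (A0 L W₁ W₂ A) L R (red K μ 1 - ζ)) :=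
    dade_pow h.pd.dade (A0_pow h.Apow) ht (IsGen.isClass (h.gen0 hμ hζ))
  have e2 : pw t (η ω) = η (ω ^ t) := by
    funext g
    exact Cfsg.Agent.H10.CycTI5.gal_fam' h.pd.self (odd_W h.pd.toPT) (Cfsg.Agent.H10.CycTI5.fam_of hη) ht ω g
  have e3 := ci_pw ht (dadeIsometry (A0 L W₁ W₂ A) L R (red K μ 1 - ζ)) (η ω)
  rw [← e1, e2, hpw] at e3
  rw [← e3]
  have e4 : red K μ 1 - indFun K θt = (red K μ 1 - ζ) + (ζ - indFun K θt) := by abel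
  rw [e4, dade_add, ci_add_left, h.S1_orth hμ hη hζ hζt, add_zero]

end P2

end Cfsg.Agent.H2.PF11
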