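import Mathlib
import Cfsg.Agent.H2_PF11g

/-!
H2_PF11h: the two cases for `τ (μ_0 - ζ)`.
-/

set_option autoImplicit false
set_option linter.unusedSectionVars false
set_option linter.style.haveILetI false

namespace Cfsg.Agent.H2.PF11

open Cfsg Cfsg.Agent.H3.CharIrr Cfsg.Agent.H3.CharComplete Cfsg.Agent.H3.CharInd Cfsg.Agent.H3.CharMult
  Cfsg.Agent.H3.CharBasic Cfsg.Agent.H3.CharCalc Cfsg.Agent.H3.Clifford Cfsg.Agent.H3.CharInt Cfsg.Agent.H3.CharQuot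
  Cfsg.Agent.H10.CycTI Cfsg.Agent.H10.CycTI2 Cfsg.Agent.H10.CycTI3 Cfsg.Agent.H10.CycTI4 Cfsg.Agent.H10.PrD2
  Cfsg.Agent.H10.PrD3 Cfsg.Agent.H10.PrD4 Cfsg.Agent.H10.PrD5 Cfsg.Agent.H10.Dade Cfsg.Agent.H10.PM Cfsg.Agent.H10.Coh
  Cfsg.Agent.H10.Coh2 Cfsg.Agent.H10.Coh3 Cfsg.Agent.H10.Coh4 Cfsg.Agent.H10.IndSet2 Cfsg.Agent.H10.OOClif Cfsg.Agent.H10.PrD6
  Cfsg.Agent.H10.PrD7 Cfsg.Agent.H10.PrD8
open scoped ComplexConjugate commutatorElement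

section sums

variable {G : Type*} [Group G] [Finite G] {W₁ W₂ : Subgroup G}

theorem sumX1 (hW : IsSelfNormalizingCyclic W₁ W₂) {F : (↥(W₁ ⊔ W₂) →* ℂˣ) → ℤ} {c : ℤ}
    (hc : ∀ φ, X1 W₁ W₂ φ → φ ≠ 1 → F φ = c) : ∑ φ ∈ X1F W₁ W₂, F φ = F 1 + ((Nat.card W₁ : ℤ) - 1) * c := by
  classical
  have h1 : (1 : ↥(W₁ ⊔ W₂) →* ℂˣ) ∈ X1F W₁ W₂ := mem_X1F.2 X1_one
  rw [← Finset.add_sum_erase _ _ h1, Finset.sum_congr rfl (fun φ hφ => hc φ (mem_X1F.1 (Finset.mem_of_mem_erase hφ)) (Finset.ne_of_mem_erase hφ)),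
    Finset.sum_const, Finset.card_erase_of_mem h1, card_X1F hW, nsmul_eq_mul]
  have h2 : 1 ≤ Nat.card W₁ := Nat.card_pos
  push_cast [h2]
  ring

theorem sumX2 [Fintype G] (hW : IsSelfNormalizingCyclic W₁ W₂) {F : (↥(W₁ ⊔ W₂) →* ℂˣ) → ℤ} {c : ℤ}
    (hc : ∀ φ, X2 W₁ W₂ φ → φ ≠ 1 → F φ = c) : ∑ φ ∈ X2F W₁ W₂, F φ = F 1 + ((Nat.card W₂ : ℤ) - 1) * c := by
  classical
  have h1 : (1 : ↥(W₁ ⊔ W₂) →* ℂˣ) ∈ X2F W₁ W₂ := mem_X2F.2 X2_one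
  rw [← Finset.add_sum_erase _ _ h1, Finset.sum_congr rfl (fun φ hφ => hc φ (mem_X2F.1 (Finset.mem_of_mem_erase hφ)) (Finset.ne_of_mem_erase hφ)),
    Finset.sum_const, Finset.card_erase_of_mem h1, card_X2F hW, nsmul_eq_mul]
  have h2 : 1 ≤ Nat.card W₂ := Nat.card_pos
  push_cast [h2]
  ring

theorem gal_X1 (hW : IsSelfNormalizingCyclic W₁ W₂) (hq : (Nat.card W₁).Prime) {φ φ' : ↥(W₁ ⊔ W₂) →* ℂˣ}
    (hφ : X1 W₁ W₂ φ) (hφ' : X1 W₁ W₂ φ') (h1 : φ ≠ 1) (h1' : φ' ≠ 1) : ∃ t, (Nat.card G).Coprime t ∧ φ' = φ ^ t := by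
  haveI : Fact (Nat.card W₁).Prime := ⟨hq⟩
  obtain ⟨⟨a, ha⟩, ha1⟩ := Subgroup.ne_bot_iff_exists_ne_one.1 hW.1
  obtain ⟨p₁, p₂, hp1, hp2, hw, -, -⟩ := exists_p (hdisj hW) (hcomm hW)
  have hdec : ∀ w : ↥(W₁ ⊔ W₂), ∃ (k : ℕ) (b : ↥(W₁ ⊔ W₂)), w = (⟨a, Subgroup.mem_sup_left ha⟩ : ↥(W₁ ⊔ W₂)) ^ k * b ∧ (b : G) ∈ W₂ := by
    intro w
    obtain ⟨k, hk⟩ := mem_powers_of_prime_card (G := W₁) rfl ha1 (g' := ⟨(p₁ w : G), hp1 w⟩)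
    refine ⟨k, p₂ w, ?_, hp2 w⟩
    have h2 : (⟨a, Subgroup.mem_sup_left ha⟩ : ↥(W₁ ⊔ W₂)) ^ k = p₁ w := by
      apply Subtype.ext
      have h3 := congrArg Subtype.val hk
      exact h3
    rw [h2]; exact hw w
  have hne : ∀ χ : ↥(W₁ ⊔ W₂) →* ℂˣ, X1 W₁ W₂ χ → χ ≠ 1 → χ ⟨a, Subgroup.mem_sup_left ha⟩ ≠ 1 := by
    intro χ hχ hχ1 hc
    apply hχ1
    ext w
    obtain ⟨k, b, h2, h3⟩ := hdec w
    rw [h2, map_mul, map_pow, hc, one_pow, one_mul, hχ b h3]; rfl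
  refine gal_pow hq (a := ⟨a, Subgroup.mem_sup_left ha⟩) (fun w => ?_) ?_ (hne φ hφ h1) (hne φ' hφ' h1') Nat.card_pos.ne'
  · obtain ⟨k, b, h2, h3⟩ := hdec w
    exact ⟨k, b, h2, hφ b h3, hφ' b h3⟩
  · apply Subtype.ext
    have h2 : (⟨a, ha⟩ : W₁) ^ Nat.card W₁ = 1 := pow_card_eq_one'
    have h3 := congrArg Subtype.val h2
    exact h3

theorem gal_X2 (hW : IsSelfNormalizingCyclic W₁ W₂) (hq : (Nat.card W₂).Prime) {φ φ' : ↥(W₁ ⊔ W₂) →* ℂˣ}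
    (hφ : X2 W₁ W₂ φ) (hφ' : X2 W₁ W₂ φ') (h1 : φ ≠ 1) (h1' : φ' ≠ 1) : ∃ t, (Nat.card G).Coprime t ∧ φ' = φ ^ t := by
  haveI : Fact (Nat.card W₂).Prime := ⟨hq⟩
  obtain ⟨⟨a, ha⟩, ha1⟩ := Subgroup.ne_bot_iff_exists_ne_one.1 hW.2.1
  obtain ⟨p₁, p₂, hp1, hp2, hw, -, -⟩ := exists_p (hdisj hW) (hcomm hW)
  have hdec : ∀ w : ↥(W₁ ⊔ W₂), ∃ (k : ℕ) (b : ↥(W₁ ⊔ W₂)), w = (⟨a, Subgroup.mem_sup_right ha⟩ : ↥(W₁ ⊔ W₂)) ^ k * b ∧ (b : G) ∈ W₁ := by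
    intro w
    obtain ⟨k, hk⟩ := mem_powers_of_prime_card (G := W₂) rfl ha1 (g' := ⟨(p₂ w : G), hp2 w⟩)
    refine ⟨k, p₁ w, ?_, hp1 w⟩
    have h2 : (⟨a, Subgroup.mem_sup_right ha⟩ : ↥(W₁ ⊔ W₂)) ^ k = p₂ w := by
      apply Subtype.ext
      have h3 := congrArg Subtype.val hk
      exact h3
    rw [h2, hab hW]; exact hw w
  have hne : ∀ χ : ↥(W₁ ⊔ W₂) →* ℂˣ, X2 W₁ W₂ χ → χ ≠ 1 → χ ⟨a, Subgroup.mem_sup_right ha⟩ ≠ 1 := by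
    intro χ hχ hχ1 hc
    apply hχ1
    ext w
    obtain ⟨k, b, h2, h3⟩ := hdec w
    rw [h2, map_mul, map_pow, hc, one_pow, one_mul, hχ b h3]; rfl
  refine gal_pow hq (a := ⟨a, Subgroup.mem_sup_right ha⟩) (fun w => ?_) ?_ (hne φ hφ h1) (hne φ' hφ' h1') Nat.card_pos.ne'
  · obtain ⟨k, b, h2, h3⟩ := hdec w
    exact ⟨k, b, h2, hφ b h3, hφ' b h3⟩
  · apply Subtype.ext
    have h2 : (⟨a, ha⟩ : W₂) ^ Nat.card W₂ = 1 := pow_card_eq_one'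
    have h3 := congrArg Subtype.val h2
    exact h3

end sums

namespace P2

variable {G : Type*} [Group G] [Fintype G] {L : Subgroup G} [Fintype L] {K N₁ N₀ : Subgroup L} [Fintype K] {W₁ W₂ : Subgroup G} {A : Set G}
  {R : G → Subgroup G} (h : P2 L K N₁ N₀ W₁ W₂ A R)
  {μ : (↥(W₁ ⊔ W₂) →* ℂˣ) → (L → ℂ)} {δ : (↥(W₁ ⊔ W₂) →* ℂˣ) → ℂ} (hμ : MU K W₁ W₂ μ δ)
include h hμ

theorem norm0 {ζ : L → ℂ} (hζ : ζ ∈ inducedIrrAbove K N₁) :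
    classInner (dadeIsometry (A0 L W₁ W₂ A) L R (red K μ 1 - ζ)) (dadeIsometry (A0 L W₁ W₂ A) L R (red K μ 1 - ζ)) =
      (Nat.card W₁ : ℂ) + 1 := by
  classical
  have hc := IsGen.isClass (h.gen0 hμ hζ)
  rw [h.t_ci hc (h.supp0 hμ hζ).1 hc, ci_sub_left, ci_sub_right, ci_sub_right, h.red_nn hμ, h.S1_red hμ hζ,
    ← ci_conj_symm (red K μ 1) ζ, h.S1_red hμ hζ, h.S1_ci hμ hζ hζ, if_pos rfl, map_zero]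
  ring

variable {η : (↥(W₁ ⊔ W₂) →* ℂˣ) → (G → ℂ)} (hη : IsCyclicTIFamily W₁ W₂ η)
include hη

theorem one0 {ζ : L → ℂ} (hζ : ζ ∈ inducedIrrAbove K N₁) :
    classInner (dadeIsometry (A0 L W₁ W₂ A) L R (red K μ 1 - ζ)) (η 1) = 1 := by
  rw [hη.map_one, dade_ci_one h.pd (IsGen.isClass (h.gen0 hμ hζ)) (h.supp0 hμ hζ).1, ci_sub_left, h.red_ci_one hμ,
    h.S1_one hμ hζ, sub_zero]

/-- class functions vanishing on `V` have additive coefficients -/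
theorem grid_one {θ : G → ℂ} (hθ : IsClassFunction G θ) (hθV : ∀ w : ↥(W₁ ⊔ W₂), (w : G) ∉ W₁ → (w : G) ∉ W₂ → θ w = 0)
    {b : (↥(W₁ ⊔ W₂) →* ℂˣ) → ℤ} (hb : ∀ ω, classInner θ (η ω) = b ω) {φ ψ : ↥(W₁ ⊔ W₂) →* ℂˣ} (hφ : X1 W₁ W₂ φ) (hψ : X2 W₁ W₂ ψ) :
    b (φ * ψ) = b φ + b ψ - b 1 := by
  have h1 := grid h.pd.self hη hθ hθV hφ hψ X1_one X2_one
  have e1 : (1 : ↥(W₁ ⊔ W₂) →* ℂˣ) * 1 = 1 := hom_one_mul 1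
  have e2 : φ * (1 : ↥(W₁ ⊔ W₂) →* ℂˣ) = φ := hom_mul_one φ
  rw [e1, e2, hom_one_mul ψ, hb, hb, hb, hb] at h1
  have h2 : b (φ * ψ) + b 1 = b φ + b ψ := by exact_mod_cast h1
  linarith

theorem vanV {α : L → ℂ} (hg : IsGeneralizedCharacter L α) (hV : ∀ v : L, (v : G) ∈ V W₁ W₂ → α v = 0) :
    ∀ w : ↥(W₁ ⊔ W₂), (w : G) ∉ W₁ → (w : G) ∉ W₂ → dadeIsometry (A0 L W₁ W₂ A) L R α w = 0 := by
  intro w h1 h2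
  have hwV : (w : G) ∈ V W₁ W₂ := mem_V.2 ⟨w.2, h1, h2⟩
  have h3 := dade_val h.pd.dade (IsGen.isClass hg) (a := ⟨w, V_L h.pd hwV⟩) (V_A0 h.pd hwV)
  exact h3.trans (hV ⟨w, V_L h.pd hwV⟩ hwV)

/-- the two cases -/
theorem psi_cases {ζ : L → ℂ} (hζ : ζ ∈ inducedIrrAbove K N₁) [DecidableEq (↥(W₁ ⊔ W₂) →* ℂˣ)] :
    (∀ φ ψ, X1 W₁ W₂ φ → X2 W₁ W₂ ψ →
      classInner (dadeIsometry (A0 L W₁ W₂ A) L R (red K μ 1 - ζ)) (η (φ * ψ)) = if ψ = 1 then 1 else 0) ∨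
    ((∀ φ ψ, X1 W₁ W₂ φ → X2 W₁ W₂ ψ →
      classInner (dadeIsometry (A0 L W₁ W₂ A) L R (red K μ 1 - ζ)) (η (φ * ψ)) = if φ = 1 then 1 else 0) ∧
      Nat.card W₂ < Nat.card W₁) := by
  have hg0 := h.gen0 hμ hζ
  have hs0 := h.supp0 hμ hζ
  have hg := h.t_gen hg0 hs0.1
  obtain ⟨a, ha⟩ := exists_int hη hg
  have ha1 : a 1 = 1 := by
    have h1 := h.one0 hμ hη hζ
    rw [ha] at h1
    exact_mod_cast h1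
  have hgrid : ∀ φ ψ, X1 W₁ W₂ φ → X2 W₁ W₂ ψ → a (φ * ψ) = a φ + a ψ - 1 := by
    intro φ ψ hφ hψ
    have := h.grid_one hμ hη (IsGen.isClass hg) (h.vanV hμ hη hg0 hs0.2) ha hφ hψ
    rw [this, ha1]
  obtain ⟨φ₀, -, hφ₀, -, hφ₀1, -, -⟩ := Cfsg.Agent.H10.CycTI5.exists_two1 h.pd.self (odd_W h.pd.toPT)
  obtain ⟨ψ₀, -, hψ₀, -, hψ₀1, -, -⟩ := Cfsg.Agent.H10.CycTI5.exists_two2 h.pd.self (odd_W h.pd.toPT)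
  have hcφ : ∀ φ, X1 W₁ W₂ φ → φ ≠ 1 → a φ = a φ₀ := by
    intro φ hφ h1
    obtain ⟨t, ht, rfl⟩ := gal_X1 h.pd.self h.q hφ₀ hφ hφ₀1 h1
    have h2 := h.gal0 hμ hη hζ ht φ₀
    rw [ha, ha] at h2
    exact_mod_cast h2
  have hcψ : ∀ ψ, X2 W₁ W₂ ψ → ψ ≠ 1 → a ψ = a ψ₀ := by
    intro φ hφ h1
    obtain ⟨t, ht, rfl⟩ := gal_X2 h.pd.self h.p hψ₀ hφ hψ₀1 h1
    have h2 := h.gal0 hμ hη hζ ht ψ₀
    rw [ha, ha] at h2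
    exact_mod_cast h2
  -- norm
  have hn : classInner (dadeIsometry (A0 L W₁ W₂ A) L R (red K μ 1 - ζ)) (dadeIsometry (A0 L W₁ W₂ A) L R (red K μ 1 - ζ)) =
      (((Nat.card W₁ : ℤ) + 1 : ℤ) : ℂ) := by
    rw [h.norm0 hμ hζ]; push_cast; rfl
  have hb := bes_le (T := (∅ : Finset Unit)) (st := fun _ => 0) (x := fun _ => 0) h.pd.self hη (fun _ hx => absurd hx (Finset.notMem_empty _))
    (fun _ hx => absurd hx (Finset.notMem_empty _)) hn (fun _ hx => absurd hx (Finset.notMem_empty _)) ha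
  rw [Finset.sum_empty, zero_add] at hb
  have hlt : ∑ φ ∈ X1F W₁ W₂, ∑ ψ ∈ X2F W₁ W₂, a (φ * ψ) * a (φ * ψ) ≤ (Nat.card W₁ : ℤ) := by
    by_contra hcon
    push Not at hcon
    have h1 := hb.2 (by omega)
    have hζc := conj_mem_above hζ
    have h2 : classInner (dadeIsometry (A0 L W₁ W₂ A) L R (ζ - conjFun ζ)) (dadeIsometry (A0 L W₁ W₂ A) L R (red K μ 1 - ζ)) = 0 := by
      rw [h1, ci_prj (y := fun _ => 0) (e := fun _ => 0) (fun _ hx => absurd hx (Finset.notMem_empty _)) (fun ω => by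
        rw [h.S1_orth hμ hη hζ hζc]; simp)]
      simp
    rw [h.t_ci (IsGen.isClass (h.gen1 hμ hζ hζc)) (h.supp1 hμ hζ hζc).1 (IsGen.isClass hg0), ci_sub_left, ci_sub_right, ci_sub_right,
      ← ci_conj_symm (red K μ 1) ζ, h.S1_red hμ hζ, ← ci_conj_symm (red K μ 1) (conjFun ζ), h.S1_red hμ hζc] at h2
    classical
    rw [h.S1_ci hμ hζ hζ, if_pos rfl, h.S1_ci hμ hζc hζ, if_neg (h.S1_conj hμ hζ)] at h2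
    simp at h2
  have hsum : ∑ φ ∈ X1F W₁ W₂, ∑ ψ ∈ X2F W₁ W₂, a (φ * ψ) * a (φ * ψ) =
      1 + ((Nat.card W₁ : ℤ) - 1) * (a φ₀ * a φ₀) + (((Nat.card W₂ : ℤ) - 1) * (a ψ₀ * a ψ₀ + ((Nat.card W₁ : ℤ) - 1) *
        ((a φ₀ + a ψ₀ - 1) * (a φ₀ + a ψ₀ - 1)))) := by
    have e1 : ∀ φ, X1 W₁ W₂ φ → ∑ ψ ∈ X2F W₁ W₂, a (φ * ψ) * a (φ * ψ) =
        a φ * a φ + ((Nat.card W₂ : ℤ) - 1) * ((a φ + a ψ₀ - 1) * (a φ + a ψ₀ - 1)) := by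
      intro φ hφ
      rw [sumX2 h.pd.self (F := fun ψ => a (φ * ψ) * a (φ * ψ)) (c := (a φ + a ψ₀ - 1) * (a φ + a ψ₀ - 1)) (fun ψ hψ h1 => by
        show a (φ * ψ) * a (φ * ψ) = _
        rw [hgrid φ ψ hφ hψ, hcψ ψ hψ h1])]
      have : φ * (1 : ↥(W₁ ⊔ W₂) →* ℂˣ) = φ := hom_mul_one φ
      rw [this]
    rw [sumX1 h.pd.self (F := fun φ => ∑ ψ ∈ X2F W₁ W₂, a (φ * ψ) * a (φ * ψ))
      (c := a φ₀ * a φ₀ + ((Nat.card W₂ : ℤ) - 1) * ((a φ₀ + a ψ₀ - 1) * (a φ₀ + a ψ₀ - 1))) (fun φ hφ h1 => by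
        show ∑ ψ ∈ X2F W₁ W₂, a (φ * ψ) * a (φ * ψ) = _
        rw [e1 φ hφ, hcφ φ hφ h1])]
    rw [e1 1 X1_one, ha1]
    ring
  rw [hsum] at hlt
  have h3p := three_W2 h.pd.toPT
  have h3q := three_W1 h.pd.toPT
  rcases arith (by exact_mod_cast h3p) (by exact_mod_cast h3q) hlt with ⟨h1, h2⟩ | ⟨h1, h2, h3⟩
  · left
    intro φ ψ hφ hψ
    rw [ha, hgrid φ ψ hφ hψ]
    have e1 : a φ = 1 := by
      by_cases hφ1 : φ = 1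
      · rw [hφ1, ha1]
      · rw [hcφ φ hφ hφ1, h1]
    by_cases hψ1 : ψ = 1
    · rw [if_pos hψ1, hψ1, ha1, e1]; norm_num
    · rw [if_neg hψ1, hcψ ψ hψ hψ1, h2, e1]; norm_num
  · right
    refine ⟨?_, ?_⟩
    · intro φ ψ hφ hψ
      rw [ha, hgrid φ ψ hφ hψ]
      have e1 : a ψ = 1 := by
        by_cases hψ1 : ψ = 1
        · rw [hψ1, ha1]
        · rw [hcψ ψ hψ hψ1, h2]
      by_cases hφ1 : φ = 1
      · rw [if_pos hφ1, hφ1, ha1, e1]; norm_num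
      · rw [if_neg hφ1, hcφ φ hφ hφ1, h1, e1]; norm_num
    · have h4 : Nat.card W₂ ≤ Nat.card W₁ := by exact_mod_cast h3
      refine lt_of_le_of_ne h4 fun he => ?_
      have := h.cop
      rw [he, Nat.coprime_self] at this
      omega

end P2

end Cfsg.Agent.H2.PF11
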