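import Mathlib
import Cfsg.Agent.H2_PF11h
import Cfsg.Agent.H10_IndSet3

/-!
H2_PF11i: the first case is impossible (compare Peterfalvi (11.7)).
-/

set_option autoImplicit false
set_option linter.unusedSectionVars false
set_option linter.style.haveILetI false

namespace Cfsg.Agent.H2.PF11

open Cfsg Cfsg.Agent.H3.CharIrr Cfsg.Agent.H3.CharComplete Cfsg.Agent.H3.CharInd Cfsg.Agent.H3.CharMult
  Cfsg.Agent.H3.CharBasic Cfsg.Agent.H3.CharCalc Cfsg.Agent.H3.Clifford Cfsg.Agent.H3.CharInt Cfsg.Agent.H3.CharQuot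
  Cfsg.Agent.H10.CycTI Cfsg.Agent.H10.CycTI2 Cfsg.Agent.H10.CycTI3 Cfsg.Agent.H10.CycTI4 Cfsg.Agent.H10.PrD2
  Cfsg.Agent.H10.PrD3 Cfsg.Agent.H10.PrD4 Cfsg.Agent.H10.PrD5 Cfsg.Agent.H10.Dade Cfsg.Agent.H10.PM Cfsg.Agent.H10.Coh
  Cfsg.Agent.H10.Coh2 Cfsg.Agent.H10.Coh3 Cfsg.Agent.H10.Coh4 Cfsg.Agent.H10.IndSet2 Cfsg.Agent.H10.OOClif Cfsg.Agent.H10.PrD6
  Cfsg.Agent.H10.PrD7 Cfsg.Agent.H10.PrD8
open scoped ComplexConjugate commutatorElement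

section cjs

variable {G : Type*} [Group G] [Fintype G] {W₁ W₂ : Subgroup G}

theorem pow_pred_inv {P : Type*} [Group P] {n : ℕ} (hn : 1 < n) (x : P) (hx : x ^ n = 1) : x ^ (n - 1) = x⁻¹ := by
  apply eq_inv_of_mul_eq_one_left
  rw [← pow_succ, Nat.sub_add_cancel (by omega), hx]

/-- complex conjugation of the `η_ij` -/
theorem conj_eta (hW : IsSelfNormalizingCyclic W₁ W₂) (hodd : Odd (Nat.card ↥(W₁ ⊔ W₂)))
    {η : (↥(W₁ ⊔ W₂) →* ℂˣ) → (G → ℂ)} (hη : IsCyclicTIFamily W₁ W₂ η) (ω : ↥(W₁ ⊔ W₂) →* ℂˣ) :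
    conjFun (η ω) = η ω⁻¹ := by
  have hn : 1 < Nat.card G := by
    have h1 : 1 < Nat.card W₁ := by rw [Subgroup.one_lt_card_iff_ne_bot]; exact hW.1
    exact lt_of_lt_of_le h1 (Nat.le_of_dvd Nat.card_pos (Subgroup.card_subgroup_dvd_card _))
  have ht : (Nat.card G).Coprime (Nat.card G - 1) := by
    have := (Nat.coprime_self_sub_right (m := 1) (n := Nat.card G) (by omega)).2 (Nat.coprime_one_right _)
    exact this
  funext g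
  have h1 := Cfsg.Agent.H10.CycTI5.gal_fam' hW hodd (Cfsg.Agent.H10.CycTI5.fam_of hη) ht ω g
  have h2 : g ^ (Nat.card G - 1) = g⁻¹ := pow_pred_inv hn g pow_card_eq_one'
  have h3 : ω ^ (Nat.card G - 1) = ω⁻¹ := by
    ext w
    rw [pow_app, MonoidHom.inv_apply, pow_pred_inv hn (ω w)]
    rw [← map_pow]
    have h4 : w ^ Nat.card G = 1 := by
      obtain ⟨k, hk⟩ := Subgroup.card_subgroup_dvd_card (W₁ ⊔ W₂)
      rw [hk, pow_mul, pow_card_eq_one', one_pow]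
    rw [h4, map_one]
  rw [h2, h3] at h1
  rw [← h1]
  show conj (η ω g) = η ω g⁻¹
  rcases hη.irr_or_neg ω with h4 | h4
  · exact (IsChar.inv_eq_conj (IsIrr.isCharacter h4) g).symm
  · have h5 := IsChar.inv_eq_conj (IsIrr.isCharacter h4) g
    rw [Pi.neg_apply, Pi.neg_apply, map_neg, neg_inj] at h5
    exact h5.symm

theorem ci_conj {G : Type*} [Group G] [Fintype G] (f g : G → ℂ) : classInner (conjFun f) (conjFun g) = conj (classInner f g) := by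
  rw [classInner, classInner, map_mul, map_sum, map_inv₀, Complex.conj_natCast]
  congr 1
  refine Finset.sum_congr rfl fun x _ => ?_
  rw [map_mul]; rfl

end cjs

/-- an even sum -/
theorem even_sum {G : Type*} [Group G] [Finite G] {W₁ W₂ : Subgroup G} (hodd : Odd (Nat.card ↥(W₁ ⊔ W₂)))
    {g : (↥(W₁ ⊔ W₂) →* ℂˣ) → ℤ} (h1 : g 1 = 0) (hg : ∀ φ, X1 W₁ W₂ φ → g φ⁻¹ = g φ) :
    Even (∑ φ ∈ X1F W₁ W₂, g φ) := by
  classical
  rw [← ZMod.intCast_eq_zero_iff_even, Int.cast_sum]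
  refine Finset.sum_involution (fun φ _ => φ⁻¹) ?_ ?_ ?_ ?_
  · intro φ hφ
    rw [hg φ (mem_X1F.1 hφ), ← two_mul]
    have : (2 : ZMod 2) = 0 := rfl
    rw [this, zero_mul]
  · intro φ hφ hne he
    apply hne
    by_cases hφ1 : φ = 1
    · rw [hφ1, h1, Int.cast_zero]
    · exact absurd he (inv_ne hodd hφ1)
  · intro φ hφ
    exact mem_X1F.2 (X1_inv (mem_X1F.1 hφ))
  · intro φ _
    exact inv_inv' φ

/-- arithmetic of the first case -/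
theorem arithA {n x s p S : ℤ} (hn : 1 ≤ n) (hp : 3 ≤ p) (hx : Even x) (hS : 0 ≤ S)
    (h : (x - n) * (x - n) + (n - 1) * (x * x) + ((p - 1) * (s * s) + S) ≤ n * n - 2 * s) :
    (x = 0 ∨ x = 2) ∧ S = 0 ∧ (p - 1) * (s * s) + 2 * s = 0 := by
  have h1 : 0 ≤ (p - 1) * (s * s) + 2 * s := by
    have h2 : 0 ≤ s * s + s := by
      rcases le_or_gt 0 s with h3 | h3
      · nlinarith
      · nlinarith
    nlinarith [mul_self_nonneg s, mul_nonneg (by linarith : (0:ℤ) ≤ p - 3) (mul_self_nonneg s)]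
  have h2 : ((p - 1) * (s * s) + 2 * s) + S ≤ n * (x * (2 - x)) := by linarith
  have h3 : 0 ≤ n * (x * (2 - x)) := by linarith
  have h4 : 0 ≤ x * (2 - x) := by
    by_contra h5
    push Not at h5
    nlinarith
  have h5 : 0 ≤ x := by
    by_contra h6
    push Not at h6
    nlinarith
  have h6 : x ≤ 2 := by
    by_contra h7
    push Not at h7
    nlinarith
  obtain ⟨k, hk⟩ := hx
  have h7 : x = 0 ∨ x = 2 := by omega
  have h8 : x * (2 - x) = 0 := by rcases h7 with h8 | h8 <;> rw [h8] <;> norm_num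
  rw [h8, mul_zero] at h2
  exact ⟨h7, by linarith, by linarith⟩

namespace P2

variable {G : Type*} [Group G] [Fintype G] {L : Subgroup G} [Fintype L] {K N₁ N₀ : Subgroup L} [Fintype K] {W₁ W₂ : Subgroup G} {A : Set G}
  {R : G → Subgroup G} (h : P2 L K N₁ N₀ W₁ W₂ A R)
  {μ : (↥(W₁ ⊔ W₂) →* ℂˣ) → (L → ℂ)} {δ : (↥(W₁ ⊔ W₂) →* ℂˣ) → ℂ} (hμ : MU K W₁ W₂ μ δ)
include h hμ

/-- the auxiliary function `μ_0j - 1 - n ζ` -/
theorem al_gen {ζ : L → ℂ} (hζ : ζ ∈ inducedIrrAbove K N₁) (ψ : ↥(W₁ ⊔ W₂) →* ℂˣ) (n : ℕ) :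
    IsGeneralizedCharacter L (μ ψ - μ 1 - (n : ℂ) • ζ) := by
  obtain ⟨-, -, -, -, -, -, h4, -⟩ := h.S1_mem hμ hζ
  exact IsGen.sub (IsGen.sub (IsGen.of_irr (hμ.irr _)) (IsGen.of_irr (hμ.irr _))) (by
    have := IsGen.intsmul (IsGen.of_irr h4) (n : ℤ)
    simpa using this)

theorem al_supp {ζ : L → ℂ} (hζ : ζ ∈ inducedIrrAbove K N₁) {ψ : ↥(W₁ ⊔ W₂) →* ℂˣ} (hψ : X2 W₁ W₂ ψ) (hψ1 : ψ ≠ 1) :
    ∀ x : L, (x : G) ∉ A0 L W₁ W₂ A → (μ ψ - μ 1 - ((SF K N₁).card : ℂ) • ζ) x = 0 := by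
  intro x hx
  obtain ⟨-, -, -, -, -, -, -, h5⟩ := h.S1_mem hμ hζ
  rw [Pi.sub_apply, Pi.sub_apply, Pi.smul_apply, smul_eq_mul]
  rcases h.off hμ hμ hx with rfl | hxK
  · rw [h.mu_deg hμ hψ hψ1, h.mu_one_eq hμ, h5, ← h.card_S1 hμ]
    push_cast; ring
  · rw [h.S1_off hμ hζ hxK, mul_zero, sub_zero, h.mu_one_eq hμ]
    obtain ⟨y, w, hw, hw2, e⟩ := conj_W h.pd.toPT hxK
    have h1 := IsIrr.isClass (hμ.irr ψ) x y
    rw [e, hμ.val ψ w hw hw2, h.delta_one hμ hψ hψ1, one_mul] at h1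
    by_cases hw1 : (w : G) ∈ W₁
    · rw [← h1, hψ _ hw1, Units.val_one, sub_self]
    · exfalso
      apply hx
      refine Or.inr ⟨(y : G)⁻¹, L.inv_mem y.2, w, mem_V.2 ⟨hw, hw1, hw2⟩, ?_⟩
      have e2 := congrArg Subtype.val e
      push_cast at e2
      rw [← e2]; group

theorem al_V {ζ : L → ℂ} (hζ : ζ ∈ inducedIrrAbove K N₁) {ψ : ↥(W₁ ⊔ W₂) →* ℂˣ} (hψ : X2 W₁ W₂ ψ) (hψ1 : ψ ≠ 1) (n : ℂ)
    {v : L} (hv : (v : G) ∈ V W₁ W₂) : (μ ψ - μ 1 - n • ζ) v = (ψ ⟨v, (mem_V.1 hv).1⟩ : ℂ) - 1 := by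
  rw [Pi.sub_apply, Pi.sub_apply, Pi.smul_apply, smul_eq_mul, h.S1_off hμ hζ (V_not_K h.pd hv), mul_zero, sub_zero,
    h.mu_one_eq hμ, hμ.val ψ v (mem_V.1 hv).1 (mem_V.1 hv).2.2, h.delta_one hμ hψ hψ1, one_mul]

/-- inner products of the auxiliary function -/
theorem al_norm {ζ : L → ℂ} (hζ : ζ ∈ inducedIrrAbove K N₁) {ψ : ↥(W₁ ⊔ W₂) →* ℂˣ} (hψ1 : ψ ≠ 1) (n : ℕ) :
    classInner (μ ψ - μ 1 - (n : ℂ) • ζ) (μ ψ - μ 1 - (n : ℂ) • ζ) = 2 + (n : ℂ) * n := by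
  classical
  have e1 : classInner ζ (μ ψ) = 0 := by rw [← ci_conj_symm, h.S1_ne_mu hμ hζ, map_zero]
  have e2 : classInner ζ (μ 1) = 0 := by rw [← ci_conj_symm, h.S1_ne_mu hμ hζ, map_zero]
  simp only [ci_sub_left, ci_sub_right, ci_smul_left, ci_smul_right, mu_if h.pd.toPT hμ, h.S1_ne_mu hμ hζ, e1, e2, h.S1_ci hμ hζ hζ,
    if_true, if_neg hψ1, if_neg hψ1.symm, Complex.conj_natCast]
  ring

theorem al_S1 {ζ ζ' : L → ℂ} (hζ : ζ ∈ inducedIrrAbove K N₁) (hζ' : ζ' ∈ inducedIrrAbove K N₁) {ψ : ↥(W₁ ⊔ W₂) →* ℂˣ}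
    (n : ℕ) [DecidableEq (L → ℂ)] :
    classInner (μ ψ - μ 1 - (n : ℂ) • ζ) (ζ - ζ') = -(n : ℂ) * (1 - if ζ = ζ' then 1 else 0) := by
  simp only [ci_sub_left, ci_sub_right, ci_smul_left, h.S1_ne_mu hμ hζ, h.S1_ne_mu hμ hζ', h.S1_ci hμ hζ hζ, h.S1_ci hμ hζ hζ', if_true]
  ring

theorem al_red {ζ : L → ℂ} (hζ : ζ ∈ inducedIrrAbove K N₁) {ψ : ↥(W₁ ⊔ W₂) →* ℂˣ} (hψ : X2 W₁ W₂ ψ) (hψ1 : ψ ≠ 1) (n : ℕ) :
    classInner (red K μ 1 - ζ) (μ ψ - μ 1 - (n : ℂ) • ζ) = (n : ℂ) - 1 := by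
  classical
  have e1 : classInner ζ (μ ψ) = 0 := by rw [← ci_conj_symm, h.S1_ne_mu hμ hζ, map_zero]
  have e2 : classInner ζ (μ 1) = 0 := by rw [← ci_conj_symm, h.S1_ne_mu hμ hζ, map_zero]
  have e3 := red_mu h.pd.toPT hμ (ψ := 1) (ψ' := ψ) (φ := 1) X2_one hψ X1_one
  rw [if_neg hψ1.symm, hom_one_mul] at e3
  have e4 := red_mu h.pd.toPT hμ (ψ := 1) (ψ' := 1) (φ := 1) X2_one X2_one X1_one
  rw [if_pos rfl, hom_one_mul] at e4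
  simp only [ci_sub_left, ci_sub_right, ci_smul_right, h.S1_red hμ hζ, e1, e2, e3, e4, h.S1_ci hμ hζ hζ, if_true, Complex.conj_natCast]
  ring

theorem al_one {ζ : L → ℂ} (hζ : ζ ∈ inducedIrrAbove K N₁) {ψ : ↥(W₁ ⊔ W₂) →* ℂˣ} (hψ1 : ψ ≠ 1) (n : ℕ) :
    classInner (μ ψ - μ 1 - (n : ℂ) • ζ) (fun _ => 1) = -1 := by
  classical
  have e1 : classInner ζ (μ 1) = 0 := by rw [← ci_conj_symm, h.S1_ne_mu hμ hζ, map_zero]
  rw [← h.mu_one_eq hμ]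
  simp only [ci_sub_left, ci_smul_left, mu_if h.pd.toPT hμ, e1, if_true, if_neg hψ1]
  ring

end P2

end Cfsg.Agent.H2.PF11
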