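import Mathlib
import Cfsg.Agent.H2_PF11i

/-!
H2_PF11j: the first case, continued.
-/

set_option autoImplicit false
set_option linter.unusedSectionVars false
set_option linter.style.haveILetI false

namespace Cfsg.Agent.H2.PF11

open Cfsg Cfsg.Agent.H3.CharIrr Cfsg.Agent.H3.CharComplete Cfsg.Agent.H3.CharInd Cfsg.Agent.H3.CharMult
  Cfsg.Agent.H3.CharBasic Cfsg.Agent.H3.CharCalc Cfsg.Agent.H3.Clifford Cfsg.Agent.H3.CharInt Cfsg.Agent.H3.CharQuot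
  Cfsg.Agent.H10.CycTI Cfsg.Agent.H10.CycTI2 Cfsg.Agent.H10.CycTI3 Cfsg.Agent.H10.CycTI4 Cfsg.Agent.H10.PrD2
  Cfsg.Agent.H10.PrD3 Cfsg.Agent.H10.PrD4 Cfsg.Agent.H10.PrD5 Cfsg.Agent.H10.Dade Cfsg.Agent.H10.PM Cfsg.Agent.H10.Coh
  Cfsg.Agent.H10.Coh2 Cfsg.Agent.H10.Coh3 Cfsg.Agent.H10.Coh4 Cfsg.Agent.H10.IndSet2 Cfsg.Agent.H10.OOClif Cfsg.Agent.H10.PrD6
  Cfsg.Agent.H10.PrD7 Cfsg.Agent.H10.PrD8
open scoped ComplexConjugate commutatorElement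

/-- the image of `ζ` in the first case -/
noncomputable def stA {G : Type*} [Group G] [Finite G] {L : Subgroup G} [Fintype L] (K : Subgroup L) {W₁ W₂ : Subgroup G}
    (A : Set G) (R : G → Subgroup G) (μ : (↥(W₁ ⊔ W₂) →* ℂˣ) → (L → ℂ)) (η : (↥(W₁ ⊔ W₂) →* ℂˣ) → (G → ℂ)) (ζ : L → ℂ) : G → ℂ :=
  etaC η 1 - dadeIsometry (A0 L W₁ W₂ A) L R (red K μ 1 - ζ)

open Classical in
/-- the first case -/
def CaseA {G : Type*} [Group G] [Fintype G] {L : Subgroup G} [Fintype L] (K N₁ : Subgroup L) {W₁ W₂ : Subgroup G}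
    (A : Set G) (R : G → Subgroup G) (μ : (↥(W₁ ⊔ W₂) →* ℂˣ) → (L → ℂ)) (η : (↥(W₁ ⊔ W₂) →* ℂˣ) → (G → ℂ)) : Prop :=
  ∀ ζ ∈ inducedIrrAbove K N₁, ∀ φ ψ, X1 W₁ W₂ φ → X2 W₁ W₂ ψ →
      classInner (dadeIsometry (A0 L W₁ W₂ A) L R (red K μ 1 - ζ)) (η (φ * ψ)) = if ψ = 1 then 1 else 0

open Classical in
/-- the second case -/
def CaseB {G : Type*} [Group G] [Fintype G] {L : Subgroup G} [Fintype L] (K N₁ : Subgroup L) {W₁ W₂ : Subgroup G}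
    (A : Set G) (R : G → Subgroup G) (μ : (↥(W₁ ⊔ W₂) →* ℂˣ) → (L → ℂ)) (η : (↥(W₁ ⊔ W₂) →* ℂˣ) → (G → ℂ)) : Prop :=
  ∀ ζ ∈ inducedIrrAbove K N₁, ∀ φ ψ, X1 W₁ W₂ φ → X2 W₁ W₂ ψ →
      classInner (dadeIsometry (A0 L W₁ W₂ A) L R (red K μ 1 - ζ)) (η (φ * ψ)) = if φ = 1 then 1 else 0

theorem sum_etaC {G : Type*} [Group G] [Finite G] {W₁ W₂ : Subgroup G} (η : (↥(W₁ ⊔ W₂) →* ℂˣ) → (G → ℂ)) :
    etaC η 1 = ∑ φ ∈ X1F W₁ W₂, η φ := by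
  rw [etaC]
  refine Finset.sum_congr rfl fun φ _ => ?_
  have : φ * (1 : ↥(W₁ ⊔ W₂) →* ℂˣ) = φ := hom_mul_one φ
  rw [this]

namespace P2

variable {G : Type*} [Group G] [Fintype G] {L : Subgroup G} [Fintype L] {K N₁ N₀ : Subgroup L} [Fintype K] {W₁ W₂ : Subgroup G} {A : Set G}
  {R : G → Subgroup G} (h : P2 L K N₁ N₀ W₁ W₂ A R)
  {μ : (↥(W₁ ⊔ W₂) →* ℂˣ) → (L → ℂ)} {δ : (↥(W₁ ⊔ W₂) →* ℂˣ) → ℂ} (hμ : MU K W₁ W₂ μ δ)
  {η : (↥(W₁ ⊔ W₂) →* ℂˣ) → (G → ℂ)} (hη : IsCyclicTIFamily W₁ W₂ η)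
include h hμ

theorem SF_nonempty : ∃ ζ, ζ ∈ inducedIrrAbove K N₁ := by
  have h1 := h.card_S1 hμ
  have h2 := h.hu
  have h3 : 0 < (SF K N₁).card := by
    rcases Nat.eq_zero_or_pos (SF K N₁).card with h4 | h4
    · rw [h4] at h1
      have := h.q.one_lt
      omega
    · exact h4
  obtain ⟨ζ, hζ⟩ := Finset.card_pos.1 h3
  exact ⟨ζ, mem_SF.1 hζ⟩

include hη

theorem cases_all : CaseA K N₁ A R μ η ∨ (CaseB K N₁ A R μ η ∧ Nat.card W₂ < Nat.card W₁) := by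
  classical
  obtain ⟨ζ, hζ⟩ := h.SF_nonempty hμ
  have key : ∀ ζ' ∈ inducedIrrAbove K N₁, ∀ ω, classInner (dadeIsometry (A0 L W₁ W₂ A) L R (red K μ 1 - ζ')) (η ω) =
      classInner (dadeIsometry (A0 L W₁ W₂ A) L R (red K μ 1 - ζ)) (η ω) := by
    intro ζ' hζ' ω
    have e : red K μ 1 - ζ' = (red K μ 1 - ζ) + (ζ - ζ') := by abel
    rw [e, dade_add, ci_add_left, h.S1_orth hμ hη hζ hζ', add_zero]
  rcases h.psi_cases hμ hη hζ with h1 | ⟨h1, h2⟩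
  · left
    intro ζ' hζ' φ ψ hφ hψ
    rw [key ζ' hζ', h1 φ ψ hφ hψ]
  · right
    refine ⟨?_, h2⟩
    intro ζ' hζ' φ ψ hφ hψ
    rw [key ζ' hζ', h1 φ ψ hφ hψ]

theorem etaC_ci_tau (hA : CaseA K N₁ A R μ η) {ζ : L → ℂ} (hζ : ζ ∈ inducedIrrAbove K N₁) :
    classInner (dadeIsometry (A0 L W₁ W₂ A) L R (red K μ 1 - ζ)) (etaC η 1) = Nat.card W₁ := by
  classical
  rw [etaC, ci_sum_right]
  have : ∀ φ ∈ X1F W₁ W₂, classInner (dadeIsometry (A0 L W₁ W₂ A) L R (red K μ 1 - ζ)) (η (φ * 1)) = 1 := by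
    intro φ hφ
    rw [hA ζ hζ φ 1 (mem_X1F.1 hφ) X2_one, if_pos rfl]
  rw [Finset.sum_congr rfl this, Finset.sum_const, card_X1F h.pd.self, nsmul_eq_mul, mul_one]

theorem stA_gen {ζ : L → ℂ} (hζ : ζ ∈ inducedIrrAbove K N₁) : IsGeneralizedCharacter G (stA K A R μ η ζ) :=
  IsGen.sub (etaC_gen h.pd hμ hη 1) (h.t_gen (h.gen0 hμ hζ) (h.supp0 hμ hζ).1)

theorem stA_eta (hA : CaseA K N₁ A R μ η) {ζ : L → ℂ} (hζ : ζ ∈ inducedIrrAbove K N₁) (ω : ↥(W₁ ⊔ W₂) →* ℂˣ) :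
    classInner (η ω) (stA K A R μ η ζ) = 0 := by
  classical
  obtain ⟨φ, ψ, hφ, hψ, rfl⟩ := exists_decomp ω (hdisj h.pd.self) (hcomm h.pd.self)
  rw [← ci_conj_symm, stA, ci_sub_left, hA ζ hζ φ ψ hφ hψ, etaC_eta h.pd hμ hη hφ X2_one hψ]
  by_cases h1 : ψ = 1
  · rw [if_pos h1, if_pos h1.symm]; simp
  · rw [if_neg h1, if_neg (Ne.symm h1)]; simp

theorem stA_sub (ζ ζ' : L → ℂ) : stA K A R μ η ζ - stA K A R μ η ζ' = dadeIsometry (A0 L W₁ W₂ A) L R (ζ - ζ') := by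
  have e : ζ - ζ' = (red K μ 1 - ζ') - (red K μ 1 - ζ) := by abel
  rw [e, dade_sub, stA, stA]; abel

theorem stA_ci (hA : CaseA K N₁ A R μ η) [DecidableEq (L → ℂ)] {ζ ζ' : L → ℂ} (hζ : ζ ∈ inducedIrrAbove K N₁)
    (hζ' : ζ' ∈ inducedIrrAbove K N₁) : classInner (stA K A R μ η ζ) (stA K A R μ η ζ') = if ζ = ζ' then 1 else 0 := by
  classical
  have e1 := h.etaC_ci_tau hμ hη hA hζ
  have e2 : classInner (etaC η 1) (dadeIsometry (A0 L W₁ W₂ A) L R (red K μ 1 - ζ')) = Nat.card W₁ := by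
    rw [← ci_conj_symm, h.etaC_ci_tau hμ hη hA hζ', Complex.conj_natCast]
  have e3 : classInner (dadeIsometry (A0 L W₁ W₂ A) L R (red K μ 1 - ζ)) (dadeIsometry (A0 L W₁ W₂ A) L R (red K μ 1 - ζ')) =
      Nat.card W₁ + if ζ = ζ' then 1 else 0 := by
    rw [h.t_ci (IsGen.isClass (h.gen0 hμ hζ)) (h.supp0 hμ hζ).1 (IsGen.isClass (h.gen0 hμ hζ')), ci_sub_left, ci_sub_right,
      ci_sub_right, h.red_nn hμ, h.S1_red hμ hζ', ← ci_conj_symm (red K μ 1) ζ, h.S1_red hμ hζ, h.S1_ci hμ hζ hζ', map_zero]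
    ring
  have e4 := etaC_etaC h.pd hμ hη (ψ := 1) (ψ' := 1) X2_one X2_one
  rw [if_pos rfl] at e4
  rw [stA, stA, ci_sub_left, ci_sub_right, ci_sub_right, e1, e2, e3, e4]
  ring

/-- the key computation of the first case -/
theorem gammaA (hA : CaseA K N₁ A R μ η) {ζ : L → ℂ} (hζ : ζ ∈ inducedIrrAbove K N₁) {ψ₀ : ↥(W₁ ⊔ W₂) →* ℂˣ}
    (hψ₀ : X2 W₁ W₂ ψ₀) (hψ₀1 : ψ₀ ≠ 1) :
    dadeIsometry (A0 L W₁ W₂ A) L R (μ ψ₀ - μ 1 - ((SF K N₁).card : ℂ) • ζ) =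
      η ψ₀ - η 1 - ((SF K N₁).card : ℂ) • stA K A R μ η ζ := by
  classical
  set n := (SF K N₁).card with hn
  set al : (↥(W₁ ⊔ W₂) →* ℂˣ) → (L → ℂ) := fun ψ => μ ψ - μ 1 - (n : ℂ) • ζ with hal
  set Ga : (↥(W₁ ⊔ W₂) →* ℂˣ) → (G → ℂ) := fun ψ => dadeIsometry (A0 L W₁ W₂ A) L R (al ψ) - η ψ + η 1 with hGa
  have halg : ∀ ψ, IsGeneralizedCharacter L (al ψ) := fun ψ => h.al_gen hμ hζ ψ n
  have hals : ∀ ψ, X2 W₁ W₂ ψ → ψ ≠ 1 → ∀ x : L, (x : G) ∉ A0 L W₁ W₂ A → al ψ x = 0 := fun ψ h1 h2 => h.al_supp hμ hζ h1 h2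
  have htg : ∀ ψ, X2 W₁ W₂ ψ → ψ ≠ 1 → IsGeneralizedCharacter G (dadeIsometry (A0 L W₁ W₂ A) L R (al ψ)) := fun ψ h1 h2 =>
    h.t_gen (halg ψ) (hals ψ h1 h2)
  -- independence
  have hind : ∀ ψ, X2 W₁ W₂ ψ → ψ ≠ 1 → Ga ψ = Ga ψ₀ := by
    intro ψ h1 h2
    have e1 := tau_sub h.pd hμ hη (φ := 1) X1_one h1 hψ₀ h2 hψ₀1 (by
      rw [hom_one_mul, hom_one_mul, h.mu_deg hμ h1 h2, h.mu_deg hμ hψ₀ hψ₀1])
    rw [hom_one_mul, hom_one_mul, h.delta_one hμ h1 h2, one_smul] at e1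
    have e2 : μ ψ - μ ψ₀ = al ψ - al ψ₀ := by simp only [hal]; abel
    rw [e2, dade_sub] at e1
    have e3 : Ga ψ - Ga ψ₀ = 0 := by
      simp only [hGa]
      have : dadeIsometry (A0 L W₁ W₂ A) L R (al ψ) - η ψ + η 1 - (dadeIsometry (A0 L W₁ W₂ A) L R (al ψ₀) - η ψ₀ + η 1) =
        (dadeIsometry (A0 L W₁ W₂ A) L R (al ψ) - dadeIsometry (A0 L W₁ W₂ A) L R (al ψ₀)) - (η ψ - η ψ₀) := by abel
      rw [this, e1, sub_self]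
    exact sub_eq_zero.1 e3
  have hGg : IsGeneralizedCharacter G (Ga ψ₀) := IsGen.add (IsGen.sub (htg ψ₀ hψ₀ hψ₀1) (eta_gen hη _)) (eta_gen hη _)
  obtain ⟨g, hg⟩ := exists_int hη hGg
  have hGV : ∀ w : ↥(W₁ ⊔ W₂), (w : G) ∉ W₁ → (w : G) ∉ W₂ → Ga ψ₀ w = 0 := by
    intro w h1 h2
    have hwV : (w : G) ∈ V W₁ W₂ := mem_V.2 ⟨w.2, h1, h2⟩
    have h3 := dade_val h.pd.dade (IsGen.isClass (halg ψ₀)) (a := ⟨w, V_L h.pd hwV⟩) (V_A0 h.pd hwV)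
    show dadeIsometry (A0 L W₁ W₂ A) L R (al ψ₀) w - η ψ₀ w + η 1 w = 0
    have h4 : dadeIsometry (A0 L W₁ W₂ A) L R (al ψ₀) w = (ψ₀ w : ℂ) - 1 := h3.trans (h.al_V hμ hζ hψ₀ hψ₀1 n hwV)
    rw [h4, hη.eq_on ψ₀ w h1 h2, hη.map_one]
    ring
  -- coefficients of τ(al ψ)
  have c1 : ∀ ψ, X2 W₁ W₂ ψ → ψ ≠ 1 → classInner (dadeIsometry (A0 L W₁ W₂ A) L R (al ψ)) (η 1) = -1 := by
    intro ψ h1 h2
    rw [hη.map_one, dade_ci_one h.pd (IsGen.isClass (halg ψ)) (hals ψ h1 h2)]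
    exact h.al_one hμ hζ h2 n
  have hg1 : g 1 = 0 := by
    have e1 := hg 1
    have e2 : classInner (Ga ψ₀) (η 1) = 0 := by
      show classInner (dadeIsometry (A0 L W₁ W₂ A) L R (al ψ₀) - η ψ₀ + η 1) (η 1) = 0
      rw [ci_add_left, ci_sub_left, c1 ψ₀ hψ₀ hψ₀1, eta_ne hη hψ₀1, eta_self hη]; ring
    rw [e2] at e1
    exact_mod_cast e1.symm
  have hgrid : ∀ φ ψ, X1 W₁ W₂ φ → X2 W₁ W₂ ψ → g (φ * ψ) = g φ + g ψ := by
    intro φ ψ hφ hψ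
    rw [h.grid_one hμ hη (IsGen.isClass hGg) hGV hg hφ hψ, hg1, sub_zero]
  have c2 : ∀ ψ, X2 W₁ W₂ ψ → ψ ≠ 1 → classInner (dadeIsometry (A0 L W₁ W₂ A) L R (al ψ)) (η ψ) = g ψ + 1 := by
    intro ψ h1 h2
    have e1 := hg ψ
    rw [← hind ψ h1 h2] at e1
    have e2 : classInner (dadeIsometry (A0 L W₁ W₂ A) L R (al ψ) - η ψ + η 1) (η ψ) = g ψ := e1
    rw [ci_add_left, ci_sub_left, eta_self hη, eta_ne hη h2.symm] at e2
    linear_combination e2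
  have c3 : ∀ ψ, X2 W₁ W₂ ψ → ψ ≠ 1 → classInner (dadeIsometry (A0 L W₁ W₂ A) L R (al ψ)) (dadeIsometry (A0 L W₁ W₂ A) L R (al ψ)) =
      2 + (n : ℂ) * n := by
    intro ψ h1 h2
    rw [h.t_ci (IsGen.isClass (halg ψ)) (hals ψ h1 h2) (IsGen.isClass (halg ψ))]
    exact h.al_norm hμ hζ h2 n
  have hnorm : ∀ ψ, X2 W₁ W₂ ψ → ψ ≠ 1 → classInner (Ga ψ₀) (Ga ψ₀) = (((n : ℤ) * n - 2 * g ψ : ℤ) : ℂ) := by
    intro ψ h1 h2
    rw [← hind ψ h1 h2]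
    have e1 : classInner (η ψ) (dadeIsometry (A0 L W₁ W₂ A) L R (al ψ)) = g ψ + 1 := by
      rw [← ci_conj_symm, c2 ψ h1 h2, map_add, map_one, Cfsg.Agent.H10.Sib.cint]
    have e2 : classInner (η 1) (dadeIsometry (A0 L W₁ W₂ A) L R (al ψ)) = -1 := by
      rw [← ci_conj_symm, c1 ψ h1 h2, map_neg, map_one]
    show classInner (dadeIsometry (A0 L W₁ W₂ A) L R (al ψ) - η ψ + η 1) (dadeIsometry (A0 L W₁ W₂ A) L R (al ψ) - η ψ + η 1) = _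
    simp only [ci_add_left, ci_sub_left, ci_add_right, ci_sub_right, c1 ψ h1 h2, c2 ψ h1 h2, c3 ψ h1 h2, e1, e2, eta_self hη,
      eta_ne hη h2, eta_ne hη h2.symm]
    push_cast
    ring
  have hs : ∀ ψ, X2 W₁ W₂ ψ → ψ ≠ 1 → g ψ = g ψ₀ := by
    intro ψ h1 h2
    have e1 := (hnorm ψ h1 h2).symm.trans (hnorm ψ₀ hψ₀ hψ₀1)
    have e2 : (n : ℤ) * n - 2 * g ψ = (n : ℤ) * n - 2 * g ψ₀ := by exact_mod_cast e1
    linarith
  -- the coefficients on the star characters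
  have hXex : ∀ χ, ∃ m : ℤ, χ ∈ inducedIrrAbove K N₁ → classInner (Ga ψ₀) (stA K A R μ η χ) = m := by
    intro χ
    by_cases hχ : χ ∈ inducedIrrAbove K N₁
    · obtain ⟨m, hm⟩ := ci_gen_int hGg (h.stA_gen hμ hη hχ)
      exact ⟨m, fun _ => hm⟩
    · exact ⟨0, fun hh => absurd hh hχ⟩
  choose X hX using hXex
  have hGτ : ∀ χ χ', χ ∈ inducedIrrAbove K N₁ → χ' ∈ inducedIrrAbove K N₁ →
      classInner (Ga ψ₀) (dadeIsometry (A0 L W₁ W₂ A) L R (χ - χ')) = classInner (al ψ₀) (χ - χ') := by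
    intro χ χ' h1 h2
    have e1 : ∀ ω, classInner (η ω) (dadeIsometry (A0 L W₁ W₂ A) L R (χ - χ')) = 0 := fun ω => by
      rw [← ci_conj_symm, h.S1_orth hμ hη h1 h2, map_zero]
    show classInner (dadeIsometry (A0 L W₁ W₂ A) L R (al ψ₀) - η ψ₀ + η 1) _ = _
    rw [ci_add_left, ci_sub_left, e1, e1, h.t_ci (IsGen.isClass (halg ψ₀)) (hals ψ₀ hψ₀ hψ₀1) (IsGen.isClass (h.gen1 hμ h1 h2))]
    ring
  have hXX : ∀ χ ∈ inducedIrrAbove K N₁, X χ = if χ = ζ then X ζ else X ζ + n := by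
    intro χ hχ
    have e1 := hGτ ζ χ hζ hχ
    rw [← h.stA_sub hμ hη, ci_sub_right, hX ζ hζ, hX χ hχ] at e1
    have e2 : classInner (al ψ₀) (ζ - χ) = -(n : ℂ) * (1 - if ζ = χ then 1 else 0) := h.al_S1 hμ hζ hχ n
    rw [e2] at e1
    by_cases h3 : ζ = χ
    · rw [if_pos h3.symm, h3]
    · rw [if_neg (Ne.symm h3)]
      rw [if_neg h3] at e1
      have e3 : (X ζ : ℤ) - X χ = -(n : ℤ) := by
        have : ((X ζ : ℤ) - X χ : ℂ) = -(n : ℂ) := by rw [e1]; ring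
        exact_mod_cast this
      linarith
  set x := X ζ + n with hx
  -- second relation
  have hxsum : x = ∑ φ ∈ X1F W₁ W₂, g φ := by
    have e1 : classInner (dadeIsometry (A0 L W₁ W₂ A) L R (red K μ 1 - ζ)) (dadeIsometry (A0 L W₁ W₂ A) L R (al ψ₀)) = (n : ℂ) - 1 := by
      rw [h.t_ci (IsGen.isClass (h.gen0 hμ hζ)) (h.supp0 hμ hζ).1 (IsGen.isClass (halg ψ₀))]
      exact h.al_red hμ hζ hψ₀ hψ₀1 n
    have e2 : dadeIsometry (A0 L W₁ W₂ A) L R (red K μ 1 - ζ) = etaC η 1 - stA K A R μ η ζ := by rw [stA]; abel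
    have e3 : dadeIsometry (A0 L W₁ W₂ A) L R (al ψ₀) = Ga ψ₀ + η ψ₀ - η 1 := by simp only [hGa]; abel
    have f1 : classInner (etaC η 1) (Ga ψ₀) = ((∑ φ ∈ X1F W₁ W₂, g φ : ℤ) : ℂ) := by
      rw [sum_etaC, ci_sum_left]
      push_cast
      refine Finset.sum_congr rfl fun φ _ => ?_
      rw [← ci_conj_symm, hg, Cfsg.Agent.H10.Sib.cint]
    have f2 : classInner (etaC η 1) (η ψ₀) = 0 := by
      have := etaC_eta h.pd hμ hη (φ := 1) (ψ := 1) (ψ' := ψ₀) X1_one X2_one hψ₀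
      rwa [hom_one_mul, if_neg hψ₀1.symm] at this
    have f3 : classInner (etaC η 1) (η 1) = 1 := by
      have := etaC_eta h.pd hμ hη (φ := 1) (ψ := 1) (ψ' := 1) X1_one X2_one X2_one
      rwa [hom_one_mul, if_pos rfl] at this
    have f4 : classInner (stA K A R μ η ζ) (Ga ψ₀) = X ζ := by
      rw [← ci_conj_symm, hX ζ hζ, Cfsg.Agent.H10.Sib.cint]
    have f5 : ∀ ω, classInner (stA K A R μ η ζ) (η ω) = 0 := fun ω => by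
      rw [← ci_conj_symm, h.stA_eta hμ hη hA hζ, map_zero]
    rw [e2, e3] at e1
    simp only [ci_sub_left, ci_sub_right, ci_add_right, f1, f2, f3, f4, f5] at e1
    have e4 : (∑ φ ∈ X1F W₁ W₂, g φ : ℤ) = X ζ + n := by
      have : ((∑ φ ∈ X1F W₁ W₂, g φ : ℤ) : ℂ) = X ζ + n := by linear_combination e1
      exact_mod_cast this
    rw [e4]
  -- parity
  have hgi : ∀ φ, X1 W₁ W₂ φ → g φ⁻¹ = g φ := by
    intro φ hφ
    have hζc := conj_mem_above hζ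
    have e1 : conjFun (Ga ψ₀) = Ga ψ₀⁻¹ + (n : ℂ) • dadeIsometry (A0 L W₁ W₂ A) L R (ζ - conjFun ζ) := by
      have k1 : conjFun (al ψ₀) = al ψ₀⁻¹ + (n : ℂ) • (ζ - conjFun ζ) := by
        have m1 : conjFun (al ψ₀) = conjFun (μ ψ₀) - conjFun (μ 1) - (n : ℂ) • conjFun ζ := by
          funext y
          simp only [conjFun, hal, Pi.sub_apply, Pi.smul_apply, smul_eq_mul, map_sub, map_mul, Complex.conj_natCast]
        rw [m1, (conj_mu h.pd.toPT hμ ψ₀).1, h.mu_one_eq hμ]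
        have m2 : conjFun (fun _ : L => (1 : ℂ)) = fun _ => 1 := by funext y; simp [conjFun]
        rw [m2]
        simp only [hal, h.mu_one_eq hμ]
        rw [smul_sub]; abel
      have k2 : conjFun (Ga ψ₀) = conjFun (dadeIsometry (A0 L W₁ W₂ A) L R (al ψ₀)) - conjFun (η ψ₀) + conjFun (η 1) := by
        funext y
        simp only [conjFun, hGa, Pi.sub_apply, Pi.add_apply, map_sub, map_add]
      rw [k2, ← dade_conj, k1, dade_add, dade_smul, conj_eta h.pd.self (odd_W h.pd.toPT) hη,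
        conj_eta h.pd.self (odd_W h.pd.toPT) hη]
      have k3 : (1 : ↥(W₁ ⊔ W₂) →* ℂˣ)⁻¹ = 1 := by ext w; simp
      rw [k3]
      simp only [hGa]; abel
    rw [hind _ (X2_inv hψ₀) (inv_ne_one hψ₀1)] at e1
    have e2 : classInner (conjFun (Ga ψ₀)) (η φ) = g φ := by
      rw [e1, ci_add_left, ci_smul_left, h.S1_orth hμ hη hζ hζc, mul_zero, add_zero, hg]
    have e3 : η φ = conjFun (η φ⁻¹) := by
      rw [conj_eta h.pd.self (odd_W h.pd.toPT) hη, inv_inv']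
    rw [e3, ci_conj, hg, Cfsg.Agent.H10.Sib.cint] at e2
    exact_mod_cast e2
  have heven : Even x := by
    rw [hxsum]; exact even_sum (odd_W h.pd.toPT) hg1 hgi
  -- Bessel
  have hn1 : 1 ≤ (n : ℤ) := by
    have : 0 < n := Finset.card_pos.2 ⟨ζ, mem_SF.2 hζ⟩
    exact_mod_cast this
  obtain ⟨hb1, hb2⟩ := bes_le (T := SF K N₁) (st := fun χ => stA K A R μ η χ) (x := X) (d := g) (f := Ga ψ₀) h.pd.self hη
    (fun χ hχ χ' hχ' => h.stA_ci hμ hη hA (mem_SF.1 hχ) (mem_SF.1 hχ'))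
    (fun χ hχ ω => h.stA_eta hμ hη hA (mem_SF.1 hχ) ω) (hnorm ψ₀ hψ₀ hψ₀1) (fun χ hχ => hX χ (mem_SF.1 hχ)) hg
  have hsumX : ∑ χ ∈ SF K N₁, X χ * X χ = (x - n) * (x - n) + ((n : ℤ) - 1) * (x * x) := by
    rw [← Finset.add_sum_erase _ _ (mem_SF.2 hζ)]
    have e1 : ∀ χ ∈ (SF K N₁).erase ζ, X χ * X χ = x * x := by
      intro χ hχ
      rw [hXX χ (mem_SF.1 (Finset.mem_of_mem_erase hχ)), if_neg (Finset.ne_of_mem_erase hχ)]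
    rw [Finset.sum_congr rfl e1, Finset.sum_const, Finset.card_erase_of_mem (mem_SF.2 hζ), nsmul_eq_mul]
    have e2 : ((n - 1 : ℕ) : ℤ) = (n : ℤ) - 1 := by
      have : 1 ≤ n := by exact_mod_cast hn1
      push_cast [this]; ring
    rw [← hn, e2, hx]
    ring
  have hsumG : ∑ φ ∈ X1F W₁ W₂, ∑ ψ ∈ X2F W₁ W₂, g (φ * ψ) * g (φ * ψ) =
      ((Nat.card W₂ : ℤ) - 1) * (g ψ₀ * g ψ₀) + ∑ φ ∈ (X1F W₁ W₂).erase 1, (g φ * g φ + ((Nat.card W₂ : ℤ) - 1) * ((g φ + g ψ₀) * (g φ + g ψ₀))) := by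
    have e1 : ∀ φ, X1 W₁ W₂ φ → ∑ ψ ∈ X2F W₁ W₂, g (φ * ψ) * g (φ * ψ) =
        g φ * g φ + ((Nat.card W₂ : ℤ) - 1) * ((g φ + g ψ₀) * (g φ + g ψ₀)) := by
      intro φ hφ
      rw [sumX2 h.pd.self (F := fun ψ => g (φ * ψ) * g (φ * ψ)) (c := (g φ + g ψ₀) * (g φ + g ψ₀)) (fun ψ hψ h1 => by
        show g (φ * ψ) * g (φ * ψ) = _
        rw [hgrid φ ψ hφ hψ, hs ψ hψ h1])]
      have : φ * (1 : ↥(W₁ ⊔ W₂) →* ℂˣ) = φ := hom_mul_one φ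
      rw [this]
    rw [← Finset.add_sum_erase _ _ one_X1F, e1 1 X1_one, hg1,
      Finset.sum_congr rfl fun φ hφ => e1 φ (mem_X1F.1 (Finset.mem_of_mem_erase hφ))]
    ring
  have hp3 := three_W2 h.pd.toPT
  have hS0 : 0 ≤ ∑ φ ∈ (X1F W₁ W₂).erase 1, (g φ * g φ + ((Nat.card W₂ : ℤ) - 1) * ((g φ + g ψ₀) * (g φ + g ψ₀))) := by
    apply Finset.sum_nonneg
    intro φ _
    have : (0 : ℤ) ≤ (Nat.card W₂ : ℤ) - 1 := by omega
    exact add_nonneg (mul_self_nonneg _) (mul_nonneg this (mul_self_nonneg _))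
  rw [hsumX, hsumG] at hb1
  obtain ⟨hx02, hSz, hsz⟩ := arithA hn1 (by exact_mod_cast hp3) heven hS0 hb1
  have hall : ∀ φ ∈ (X1F W₁ W₂).erase 1, g φ = 0 ∧ g φ + g ψ₀ = 0 := by
    intro φ hφ
    have h1 := (Finset.sum_eq_zero_iff_of_nonneg (fun φ _ => by
      have : (0 : ℤ) ≤ (Nat.card W₂ : ℤ) - 1 := by omega
      exact add_nonneg (mul_self_nonneg _) (mul_nonneg this (mul_self_nonneg _)))).1 hSz φ hφ
    have h2 : (0 : ℤ) < (Nat.card W₂ : ℤ) - 1 := by omega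
    have h3 := mul_self_nonneg (g φ)
    have h4 := mul_nonneg h2.le (mul_self_nonneg (g φ + g ψ₀))
    have h5 : g φ * g φ = 0 := by linarith
    have h6 : ((Nat.card W₂ : ℤ) - 1) * ((g φ + g ψ₀) * (g φ + g ψ₀)) = 0 := by linarith
    have h7 : (g φ + g ψ₀) * (g φ + g ψ₀) = 0 := by
      rcases mul_eq_zero.1 h6 with h8 | h8
      · omega
      · exact h8
    exact ⟨mul_self_eq_zero.1 h5, mul_self_eq_zero.1 h7⟩
  have hgφ : ∀ φ, X1 W₁ W₂ φ → g φ = 0 := by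
    intro φ hφ
    by_cases hφ1 : φ = 1
    · rw [hφ1, hg1]
    · exact (hall φ (Finset.mem_erase.2 ⟨hφ1, mem_X1F.2 hφ⟩)).1
  have hs0 : g ψ₀ = 0 := by
    obtain ⟨φ₀, -, hφ₀, -, hφ₀1, -, -⟩ := Cfsg.Agent.H10.CycTI5.exists_two1 h.pd.self (odd_W h.pd.toPT)
    have := hall φ₀ (Finset.mem_erase.2 ⟨hφ₀1, mem_X1F.2 hφ₀⟩)
    omega
  have hx0 : x = 0 := by
    rw [hxsum]
    exact Finset.sum_eq_zero fun φ hφ => hgφ φ (mem_X1F.1 hφ)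
  have hg0 : ∀ φ ∈ X1F W₁ W₂, ∀ ψ ∈ X2F W₁ W₂, g (φ * ψ) = 0 := by
    intro φ hφ ψ hψ
    rw [hgrid φ ψ (mem_X1F.1 hφ) (mem_X2F.1 hψ), hgφ φ (mem_X1F.1 hφ)]
    by_cases hψ1 : ψ = 1
    · rw [hψ1, hg1, add_zero]
    · rw [hs ψ (mem_X2F.1 hψ) hψ1, hs0, add_zero]
  have hfin := hb2 (by
    rw [hsumX, hsumG, hSz, hs0, hx0]; ring)
  have hprj : prj (SF K N₁) (fun χ => stA K A R μ η χ) η X g = -((n : ℂ) • stA K A R μ η ζ) := by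
    rw [prj]
    have e1 : ∑ φ ∈ X1F W₁ W₂, ∑ ψ ∈ X2F W₁ W₂, (g (φ * ψ) : ℂ) • η (φ * ψ) = 0 := by
      apply Finset.sum_eq_zero
      intro φ hφ
      apply Finset.sum_eq_zero
      intro ψ hψ
      rw [hg0 φ hφ ψ hψ, Int.cast_zero, zero_smul]
    rw [e1, add_zero, Finset.sum_eq_single ζ]
    · have e2 : X ζ = -(n : ℤ) := by rw [hx] at hx0; linarith
      rw [e2]; push_cast; rw [neg_smul]
    · intro χ hχ hne
      rw [hXX χ (mem_SF.1 hχ), if_neg hne, hx0, Int.cast_zero, zero_smul]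
    · intro hh; exact absurd (mem_SF.2 hζ) hh
  rw [hprj] at hfin
  have e3 : dadeIsometry (A0 L W₁ W₂ A) L R (al ψ₀) = Ga ψ₀ + η ψ₀ - η 1 := by simp only [hGa]; abel
  show dadeIsometry (A0 L W₁ W₂ A) L R (al ψ₀) = _
  rw [e3, hfin]
  abel

end P2

end Cfsg.Agent.H2.PF11
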