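import Mathlib
import Cfsg.Agent.H2_PF11j

/-!
H2_PF11k: the first case contradicts non-coherence.
-/

set_option autoImplicit false
set_option linter.unusedSectionVars false
set_option linter.style.haveILetI false

namespace Cfsg.Agent.H2.PF11

open Cfsg Cfsg.Agent.H3.CharIrr Cfsg.Agent.H3.CharComplete Cfsg.Agent.H3.CharInd Cfsg.Agent.H3.CharMult
  Cfsg.Agent.H3.CharBasic Cfsg.Agent.H3.CharCalc Cfsg.Agent.H3.Clifford Cfsg.Agent.H3.CharInt Cfsg.Agent.H3.CharQuot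
  Cfsg.Agent.H10.CycTI Cfsg.Agent.H10.CycTI2 Cfsg.Agent.H10.CycTI3 Cfsg.Agent.H10.CycTI4 Cfsg.Agent.H10.PrD2
  Cfsg.Agent.H10.PrD3 Cfsg.Agent.H10.PrD4 Cfsg.Agent.H10.PrD5 Cfsg.Agent.H10.Dade Cfsg.Agent.H10.PM Cfsg.Agent.H10.Coh
  Cfsg.Agent.H10.Coh2 Cfsg.Agent.H10.Coh3 Cfsg.Agent.H10.Coh4 Cfsg.Agent.H10.IndSet2 Cfsg.Agent.H10.OOClif Cfsg.Agent.H10.PrD6
  Cfsg.Agent.H10.PrD7 Cfsg.Agent.H10.PrD8
open scoped ComplexConjugate commutatorElement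

namespace P2

variable {G : Type*} [Group G] [Fintype G] {L : Subgroup G} [Fintype L] {K N₁ N₀ : Subgroup L} [Fintype K] {W₁ W₂ : Subgroup G} {A : Set G}
  {R : G → Subgroup G} (h : P2 L K N₁ N₀ W₁ W₂ A R)
  {μ : (↥(W₁ ⊔ W₂) →* ℂˣ) → (L → ℂ)} {δ : (↥(W₁ ⊔ W₂) →* ℂˣ) → ℂ} (hμ : MU K W₁ W₂ μ δ)
include h hμ

theorem red_above {ψ : ↥(W₁ ⊔ W₂) →* ℂˣ} (hψ : X2 W₁ W₂ ψ) (hψ1 : ψ ≠ 1) : red K μ ψ ∈ inducedIrrAbove K N₀ := by
  refine ⟨fun k : K => μ ψ k, hμ.res_irr ψ, ?_, ?_, rfl⟩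
  · intro he
    have h1 : μ ψ ((1 : K) : L) = 1 := congrFun he 1
    rw [Subgroup.coe_one, h.mu_deg hμ hψ hψ1] at h1
    have h2 : N₁.relIndex K = 1 := by exact_mod_cast h1
    have := h.hu
    have := h.q.one_lt
    omega
  · intro k hk
    exact h.mu_ker hμ hψ hψ1 hk

theorem red_deg {ψ : ↥(W₁ ⊔ W₂) →* ℂˣ} (hψ : X2 W₁ W₂ ψ) (hψ1 : ψ ≠ 1) :
    red K μ ψ 1 = (Nat.card W₁ : ℂ) * (N₁.relIndex K : ℂ) := by
  rw [red_one h.pd.toPT hμ, h.mu_deg hμ hψ hψ1]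

variable {η : (↥(W₁ ⊔ W₂) →* ℂˣ) → (G → ℂ)} (hη : IsCyclicTIFamily W₁ W₂ η)
include hη

theorem redA (hA : CaseA K N₁ A R μ η) {ζ : L → ℂ} (hζ : ζ ∈ inducedIrrAbove K N₁) {ψ : ↥(W₁ ⊔ W₂) →* ℂˣ}
    (hψ : X2 W₁ W₂ ψ) (hψ1 : ψ ≠ 1) :
    dadeIsometry (A0 L W₁ W₂ A) L R (red K μ ψ - (N₁.relIndex K : ℂ) • ζ) =
      etaC η ψ - (N₁.relIndex K : ℂ) • stA K A R μ η ζ := by
  have hu : (N₁.relIndex K : ℂ) = ((SF K N₁).card : ℂ) * (Nat.card W₁ : ℂ) + 1 := by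
    rw [← h.card_S1 hμ]; push_cast; ring
  have e1 : red K μ ψ - (N₁.relIndex K : ℂ) • ζ =
      ∑ φ ∈ X1F W₁ W₂, (δ ψ • (μ (φ * ψ) - μ ψ) - (μ φ - μ 1)) + (Nat.card W₁ : ℂ) • (μ ψ - μ 1 - ((SF K N₁).card : ℂ) • ζ) +
        (red K μ 1 - ζ) := by
    rw [red_sum h.pd.toPT hμ ψ, red_sum h.pd.toPT hμ 1, h.delta_one hμ hψ hψ1]
    simp only [one_smul, Finset.sum_sub_distrib, Finset.sum_const, card_X1F h.pd.self]
    have e2 : ∑ φ ∈ X1F W₁ W₂, μ (φ * 1) = ∑ φ ∈ X1F W₁ W₂, μ φ := by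
      refine Finset.sum_congr rfl fun φ _ => ?_
      have : φ * (1 : ↥(W₁ ⊔ W₂) →* ℂˣ) = φ := hom_mul_one φ
      rw [this]
    rw [e2, hu]
    funext x
    simp only [Pi.sub_apply, Pi.add_apply, Pi.smul_apply, smul_eq_mul, nsmul_eq_mul, Pi.mul_apply, Pi.natCast_apply]
    ring
  rw [e1, dade_add, dade_add, dade_sum, dade_smul, h.gammaA hμ hη hA hζ hψ hψ1]
  have e3 : ∀ φ ∈ X1F W₁ W₂, dadeIsometry (A0 L W₁ W₂ A) L R (δ ψ • (μ (φ * ψ) - μ ψ) - (μ φ - μ 1)) = η (φ * ψ) - η φ - η ψ + η 1 :=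
    fun φ hφ => tau_four h.pd hμ hη (mem_X1F.1 hφ) hψ
  rw [Finset.sum_congr rfl e3]
  have e4 : dadeIsometry (A0 L W₁ W₂ A) L R (red K μ 1 - ζ) = etaC η 1 - stA K A R μ η ζ := by rw [stA]; abel
  rw [e4, sum_etaC, hu, etaC]
  simp only [Finset.sum_add_distrib, Finset.sum_sub_distrib, Finset.sum_const, card_X1F h.pd.self]
  funext x
  simp only [Pi.sub_apply, Pi.add_apply, Pi.smul_apply, smul_eq_mul, nsmul_eq_mul, Pi.mul_apply, Pi.natCast_apply]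
  ring

/-- the first case implies coherence -/
theorem cohA (hA : CaseA K N₁ A R μ η) {Rc : (L → ℂ) → Finset (G → ℂ)}
    (hS : IsCoherenceSystem (inducedIrrAbove K ⊥) (dadeIsometry (A0 L W₁ W₂ A) L R) Rc) :
    IsCoherent (inducedIrrAbove K N₀) {1}ᶜ (dadeIsometry (A0 L W₁ W₂ A) L R) := by
  classical
  set τ := dadeIsometry (A0 L W₁ W₂ A) L R with hτdef
  haveI := h.n1
  haveI := h.n0
  obtain ⟨ζ, hζ⟩ := h.SF_nonempty hμ
  obtain ⟨-, -, -, -, -, -, hζi, hζ1⟩ := h.S1_mem hμ hζ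
  set T : Finset (L → ℂ) := SF K N₁ ∪ ((X2F W₁ W₂).erase 1).image (red K μ) with hT
  have hTmem : ∀ χ, χ ∈ T ↔ χ ∈ inducedIrrAbove K N₁ ∨ ∃ ψ, X2 W₁ W₂ ψ ∧ ψ ≠ 1 ∧ red K μ ψ = χ := by
    intro χ
    rw [hT, Finset.mem_union, mem_SF, Finset.mem_image]
    constructor
    · rintro (h1 | ⟨ψ, h1, h2⟩)
      · exact Or.inl h1
      · rw [Finset.mem_erase] at h1
        exact Or.inr ⟨ψ, mem_X2F.1 h1.2, h1.1, h2⟩
    · rintro (h1 | ⟨ψ, h1, h2, h3⟩)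
      · exact Or.inl h1
      · exact Or.inr ⟨ψ, Finset.mem_erase.2 ⟨h2, mem_X2F.2 h1⟩, h3⟩
  have hTS : (↑T : Set (L → ℂ)) ⊆ inducedIrrAbove K ⊥ := by
    intro χ hχ
    rcases (hTmem χ).1 hχ with h1 | ⟨ψ, h1, h2, rfl⟩
    · exact SF_mono bot_le h1
    · exact SF_mono bot_le (h.red_above hμ h1 h2)
  have hTI : (↑T : Set (L → ℂ)) ⊆ indD K K ⊥ := hTS.trans above_indD
  have hTc : ∀ χ ∈ T, conjFun χ ∈ T := by
    intro χ hχ
    rw [hTmem] at hχ ⊢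
    rcases hχ with h1 | ⟨ψ, h1, h2, rfl⟩
    · exact Or.inl (conj_mem_above h1)
    · exact Or.inr ⟨ψ⁻¹, X2_inv h1, inv_ne_one h2, (conj_red h.pd.toPT hμ ψ).symm⟩
  have hζT : ζ ∈ T := (hTmem ζ).2 (Or.inl hζ)
  have hτ : IsLinearIsometryOn (zspanOn (↑T : Set (L → ℂ)) {1}ᶜ) τ := tau_iso h.pd hTI
  have hq0 : (Nat.card W₁ : ℂ) ≠ 0 := Nat.cast_ne_zero.2 Nat.card_pos.ne'
  have hζ1' : ζ 1 ≠ 0 := by rw [hζ1]; exact hq0
  have hmain := base_cond (T := (↑T : Set (L → ℂ))) (τ := τ) hτ (χ₁ := ζ) (zs_sub hζT) hζ1' (X := stA K A R μ η ζ) (by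
    intro χ hχ
    rcases (hTmem χ).1 hχ with h1 | ⟨ψ, h1, h2, rfl⟩
    · obtain ⟨-, -, -, -, -, -, hχi, hχ1⟩ := h.S1_mem hμ h1
      refine ⟨1, by rw [hχ1, hζ1]; simp, ?_⟩
      rw [one_smul, hτdef, ← h.stA_sub hμ hη, ci_sub_right, ci_sub_right, h.stA_ci hμ hη hA hζ h1, h.stA_ci hμ hη hA hζ hζ,
        h.S1_ci hμ hζ h1, h.S1_ci hμ hζ hζ]
    · refine ⟨(N₁.relIndex K : ℤ), by rw [h.red_deg hμ h1 h2, hζ1]; push_cast; ring, ?_⟩
      have e1 : ((N₁.relIndex K : ℤ) • ζ : L → ℂ) = (N₁.relIndex K : ℂ) • ζ := by rw [zc]; push_cast; rfl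
      have e2 : classInner (stA K A R μ η ζ) (etaC η ψ) = 0 := by
        rw [etaC, ci_sum_right]
        exact Finset.sum_eq_zero fun φ _ => by rw [← ci_conj_symm, h.stA_eta hμ hη hA hζ, map_zero]
      have e3 : classInner ζ (red K μ ψ) = 0 := by rw [← ci_conj_symm, h.S1_red hμ hζ, map_zero]
      rw [e1, hτdef, h.redA hμ hη hA hζ h1 h2, ci_sub_right, ci_sub_right, ci_smul_right, ci_smul_right, e2, e3,
        h.stA_ci hμ hη hA hζ hζ, h.S1_ci hμ hζ hζ])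
  obtain ⟨τ₁, t1, t2, t3⟩ := extend_base hτ (χ₁ := ζ) (zs_sub hζT) hζ1' hmain.1 (X := stA K A R μ η ζ) (h.stA_gen hμ hη hζ) (by
    rw [h.stA_ci hμ hη hA hζ hζ, h.S1_ci hμ hζ hζ])
    (IsGen.of_irr hζi) (fun χ hχ => IsGen.of_char (indD_char h.pd (hTI hχ))) hmain.2
  have hcoh : IsCoherent (↑T : Set (L → ℂ)) {1}ᶜ τ :=
    ⟨exists_ne_zero hS hTS ⟨ζ, hζT⟩ hTc, τ₁, t1, t2⟩
  have hn0 : inducedIrrAbove K N₀ ⊆ inducedIrrAbove K ⊥ := fun χ hχ => SF_mono bot_le hχ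
  obtain ⟨S₁, -, -, h3, -, h5⟩ := propagate hS (Cfsg.Agent.H10.IndSet3.above_finite ⊥) T hTS hTc hcoh (inducedIrrAbove K N₀) hn0 ζ hζT (by
    rintro χ ⟨θ, hθ, -, -, rfl⟩
    obtain ⟨m, -, hm⟩ := IsIrr.one_eq_nat hθ
    exact ⟨m, by rw [ind_one, hm, hζ1, index_K h.pd.toPT]; ring⟩) (by
    rintro χ ⟨θ, hθ, -, hker, rfl⟩ -
    have hd := h.deg_le hθ hker
    obtain ⟨m, -, hm⟩ := IsIrr.one_eq_nat hθ
    rw [hm, Complex.natCast_re] at hd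
    have e1 : (indFun K θ 1).re = (Nat.card W₁ : ℝ) * m := by
      rw [ind_one, hm, index_K h.pd.toPT, ← Nat.cast_mul, Complex.natCast_re]; push_cast; rfl
    have hdisj' : Disjoint (SF K N₁) (((X2F W₁ W₂).erase 1).image (red K μ)) := by
      rw [Finset.disjoint_left]
      intro χ h1 h2
      obtain ⟨ψ, h4, rfl⟩ := Finset.mem_image.1 h2
      obtain ⟨-, -, -, -, -, -, h6, -⟩ := h.S1_mem hμ (mem_SF.1 h1)
      exact red_not_irr h.pd.toPT hμ (mem_X2F.1 (Finset.mem_of_mem_erase h4)) h6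
    have e2 : ∑ φ ∈ SF K N₁, (φ 1).re ^ 2 / (classInner φ φ).re = ((SF K N₁).card : ℝ) * (Nat.card W₁ : ℝ) ^ 2 := by
      rw [Finset.sum_congr rfl (g := fun _ => (Nat.card W₁ : ℝ) ^ 2), Finset.sum_const, nsmul_eq_mul]
      intro φ hφ
      obtain ⟨-, -, -, -, -, -, h6, h7⟩ := h.S1_mem hμ (mem_SF.1 hφ)
      rw [h7, ci_irr_self h6, Complex.natCast_re, Complex.one_re, div_one]
    have hqpos : (0 : ℝ) < Nat.card W₁ := Nat.cast_pos.2 Nat.card_pos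
    have e3 : ∑ φ ∈ ((X2F W₁ W₂).erase 1).image (red K μ), (φ 1).re ^ 2 / (classInner φ φ).re =
        ((Nat.card W₂ : ℝ) - 1) * ((Nat.card W₁ : ℝ) * (N₁.relIndex K : ℝ) ^ 2) := by
      rw [Finset.sum_image]
      · rw [Finset.sum_congr rfl (g := fun _ => (Nat.card W₁ : ℝ) * (N₁.relIndex K : ℝ) ^ 2), Finset.sum_const,
          Finset.card_erase_of_mem one_X2F, card_X2F h.pd.self, nsmul_eq_mul]
        · have : 1 ≤ Nat.card W₂ := Nat.card_pos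
          push_cast [this]; ring
        · intro ψ hψ
          rw [Finset.mem_erase] at hψ
          rw [h.red_deg hμ (mem_X2F.1 hψ.2) hψ.1, red_norm h.pd hμ hη (mem_X2F.1 hψ.2), ← Nat.cast_mul, Complex.natCast_re,
            Complex.natCast_re]
          push_cast
          field_simp
      · intro a ha b hb hab
        have ha' := Finset.mem_of_mem_erase ha
        have hb' := Finset.mem_of_mem_erase hb
        exact red_inj h.pd.toPT hμ (mem_X2F.1 ha') (mem_X2F.1 hb') hab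
    rw [e1, hζ1, Complex.natCast_re, hT, Finset.sum_union hdisj', e2, e3]
    have hun : ((SF K N₁).card : ℝ) * (Nat.card W₁ : ℝ) + 1 = (N₁.relIndex K : ℝ) := by
      have := h.card_S1 hμ
      exact_mod_cast this
    have hp3 : (3 : ℝ) ≤ Nat.card W₂ := by exact_mod_cast three_W2 h.pd.toPT
    have hu2 : 2 * (Nat.card W₁ : ℝ) < (N₁.relIndex K : ℝ) := by exact_mod_cast h.hu
    set q := (Nat.card W₁ : ℝ)
    set u := (N₁.relIndex K : ℝ)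
    set p := (Nat.card W₂ : ℝ)
    have hupos : 0 < u := by linarith
    have k1 : 2 * (q * m) * q ≤ 2 * (q * u) * q := by
      have : q * (m : ℝ) ≤ q * u := mul_le_mul_of_nonneg_left hd hqpos.le
      nlinarith
    have k2 : 2 * (q * u) * q < 2 * (q * u ^ 2) := by
      have : q * u * q < q * u * u := mul_lt_mul_of_pos_left (by linarith) (mul_pos hqpos hupos)
      nlinarith
    have k3 : 2 * (q * u ^ 2) ≤ (p - 1) * (q * u ^ 2) := by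
      have : 0 ≤ q * u ^ 2 := by positivity
      nlinarith
    have k4 : 0 ≤ ((SF K N₁).card : ℝ) * q ^ 2 := by positivity
    linarith)
  refine coh_mono h5 h3 (exists_ne_zero hS hn0 ⟨ζ, SF_mono h.le0 hζ⟩ fun χ hχ => conj_mem_above hχ)

end P2

end Cfsg.Agent.H2.PF11
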