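import Mathlib
import Cfsg.Agent.H2_PF11j
import Cfsg.Agent.H10_OOClif2

/-!
H2_PF11l: characters above a linear character with a nontrivial stabiliser.
-/

set_option autoImplicit false
set_option linter.unusedSectionVars false
set_option linter.style.haveILetI false

namespace Cfsg.Agent.H2.PF11

open Cfsg Cfsg.Agent.H3.CharIrr Cfsg.Agent.H3.CharComplete Cfsg.Agent.H3.CharInd Cfsg.Agent.H3.CharMult
  Cfsg.Agent.H3.CharBasic Cfsg.Agent.H3.CharCalc Cfsg.Agent.H3.Clifford Cfsg.Agent.H3.CharInt Cfsg.Agent.H3.CharQuot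
  Cfsg.Agent.H10.CycTI Cfsg.Agent.H10.CycTI2 Cfsg.Agent.H10.CycTI3 Cfsg.Agent.H10.CycTI4 Cfsg.Agent.H10.PrD2
  Cfsg.Agent.H10.PrD3 Cfsg.Agent.H10.PrD4 Cfsg.Agent.H10.PrD5 Cfsg.Agent.H10.Dade Cfsg.Agent.H10.PM Cfsg.Agent.H10.Coh
  Cfsg.Agent.H10.Coh2 Cfsg.Agent.H10.Coh3 Cfsg.Agent.H10.Coh4 Cfsg.Agent.H10.IndSet2 Cfsg.Agent.H10.OOClif Cfsg.Agent.H10.PrD6
  Cfsg.Agent.H10.PrD7 Cfsg.Agent.H10.PrD8
open scoped ComplexConjugate commutatorElement

namespace P2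

variable {G : Type*} [Group G] [Fintype G] {L : Subgroup G} [Fintype L] {K N₁ N₀ : Subgroup L} [Fintype K] {W₁ W₂ : Subgroup G} {A : Set G}
  {R : G → Subgroup G} (h : P2 L K N₁ N₀ W₁ W₂ A R)
include h

/-- a linear character of `N₁/N₀` extends to its stabiliser -/
theorem ext_lam {f : L → ℂˣ} (hf : Lin N₁ N₀ f) (T : Subgroup K) (hT : ∀ k ∈ T, ∀ n ∈ N₁, f ((k : L) * n * (k : L)⁻¹) = f n)
    (hNT : N₁.subgroupOf K ≤ T) :
    ∃ ψ : T → ℂ, IsIrrCharacter T ψ ∧ ∀ n : T, (hn : (n : K) ∈ N₁.subgroupOf K) → ψ n = lam K N₁ f ⟨n, hn⟩ := by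
  classical
  haveI := h.n1
  obtain ⟨U, hU1, hU2⟩ := h.cpl
  have nc : ∀ g : L, ∀ n ∈ N₁, g * n * g⁻¹ ∈ N₁ := fun g n hn => h.n1.conj_mem n hn g
  have hdec : ∀ k : K, ∃ n ∈ N₁, ∃ v ∈ U, n * v = (k : L) := by
    intro k
    have h1 : (k : L) ∈ N₁ ⊔ U := by rw [hU1]; exact k.2
    exact Cfsg.Agent.H10.Dade.mem_sup_of_norm (fun u _ n hn => nc u n hn) h1
  choose nn hnn vv hvv hnv using hdec
  have hwd : ∀ k : K, ∀ n ∈ N₁, ∀ v ∈ U, n * v = (k : L) → f (nn k) = f n := by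
    intro k n hn v hv he
    have h1 : n⁻¹ * nn k = v * (vv k)⁻¹ := by
      rw [inv_mul_eq_iff_eq_mul, ← mul_assoc, he, ← hnv k, mul_inv_cancel_right]
    have h2 : n⁻¹ * nn k ∈ N₀ := by
      apply hU2
      refine ⟨N₁.mul_mem (N₁.inv_mem hn) (hnn k), ?_⟩
      rw [h1]; exact U.mul_mem hv (U.inv_mem (hvv k))
    have h3 := hf.triv _ h2
    rw [hf.mul _ (N₁.inv_mem hn) _ (hnn k), hf.inv hn, inv_mul_eq_one] at h3
    exact h3.symm
  let F : T →* ℂˣ :=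
    { toFun := fun k => f (nn k)
      map_one' := by
        rw [hwd (1 : T) 1 N₁.one_mem 1 U.one_mem (by simp), hf.one]
      map_mul' := by
        intro a b
        have hvT : ∀ n ∈ N₁, f (vv a * n * (vv a)⁻¹) = f n := by
          intro n hn
          have e1 : vv (a : K) = (nn (a : K))⁻¹ * ((a : K) : L) := by rw [← hnv (a : K), inv_mul_cancel_left]
          have e2 : vv (a : K) * n * (vv (a : K))⁻¹ = (nn (a : K))⁻¹ * (((a : K) : L) * n * ((a : K) : L)⁻¹) * ((nn (a : K))⁻¹)⁻¹ := by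
            rw [e1]; group
          rw [e2, hf.conj_self (N₁.inv_mem (hnn _)) (nc _ n hn), hT a a.2 n hn]
        have e3 : nn (a : K) * (vv (a : K) * nn (b : K) * (vv (a : K))⁻¹) * (vv (a : K) * vv (b : K)) = (((a * b : T) : K) : L) := by
          push_cast
          rw [← hnv (a : K), ← hnv (b : K)]; group
        rw [hwd _ _ (N₁.mul_mem (hnn _) (nc _ _ (hnn _))) _ (U.mul_mem (hvv _) (hvv _)) e3, hf.mul _ (hnn _) _ (nc _ _ (hnn _)),
          hvT _ (hnn _)] }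
  refine ⟨fun k => (F k : ℂ), isIrr_of_hom_units F, fun n hn => ?_⟩
  show (f (nn n) : ℂ) = (f _ : ℂ)
  rw [hwd n ((n : K) : L) (Subgroup.mem_subgroupOf.1 hn) 1 U.one_mem (mul_one _)]

/-- `N₀` is in the kernel of the induced character -/
theorem ind_ker0 {f : L → ℂˣ} (hf : Lin N₁ N₀ f) {z : K} (hz : (z : L) ∈ N₀) :
    indFun (N₁.subgroupOf K) (lam K N₁ f) z = indFun (N₁.subgroupOf K) (lam K N₁ f) 1 := by
  haveI := h.n0
  rw [indFun, indFun]
  congr 1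
  refine Finset.sum_congr rfl fun y _ => ?_
  have h2 : ((y⁻¹ * z * y : K) : L) ∈ N₀ := by
    have := h.n0.conj_mem _ hz (y : L)⁻¹
    have e : (y : L)⁻¹ * z * (y : L)⁻¹⁻¹ = ((y⁻¹ * z * y : K) : L) := by push_cast; group
    rwa [e] at this
  have h3 : y⁻¹ * z * y ∈ N₁.subgroupOf K := Subgroup.mem_subgroupOf.2 (h.le0 h2)
  have h4 : y⁻¹ * 1 * y = 1 := by group
  have h5 : y⁻¹ * 1 * y ∈ N₁.subgroupOf K := by rw [h4]; exact Subgroup.one_mem _
  rw [ext_mem _ _ h3, ext_mem _ _ h5]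
  show (f _ : ℂ) = (f _ : ℂ)
  rw [hf.triv _ h2, hf.triv]
  show ((y⁻¹ * 1 * y : K) : L) ∈ N₀
  rw [h4]; exact N₀.one_mem

/-- the stabiliser of a linear character in `K` -/
theorem mem_stab {f : L → ℂˣ} {k : K} : k ∈ inertia h.Nn (lam K N₁ f) ↔ ∀ n ∈ N₁, f ((k : L) * n * (k : L)⁻¹) = f n := by
  rw [mem_inertia, cj_lam, lam_ext h.le1]

/-- the set of characters above a linear character -/
theorem exists_C {f : L → ℂˣ} (hf : Lin N₁ N₀ f) :
    ∃ C : Finset (K → ℂ), (∀ θ ∈ C, IsIrrCharacter K θ ∧ (∀ k : K, (k : L) ∈ N₀ → θ k = θ 1) ∧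
        θ 1 = ((inertia h.Nn (lam K N₁ f)).index : ℂ) ∧ classInner (indFun (N₁.subgroupOf K) (lam K N₁ f)) θ ≠ 0) ∧
      C.card * (inertia h.Nn (lam K N₁ f)).index = N₁.relIndex K := by
  classical
  haveI := Fintype.ofFinite (N₁.subgroupOf K)
  have hN := h.Nn
  set T := inertia h.Nn (lam K N₁ f) with hT
  have hNT : N₁.subgroupOf K ≤ T := le_inertia hN (IsIrr.isClass (lam_irr hf))
  obtain ⟨e, C, he0, hC1, hC2, hC3, hC4, hC5⟩ := Cfsg.Agent.H10.OOClif2.ind_full hN (lam_irr hf) T hT (fun x _ y _ => by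
    rw [Subgroup.mem_subgroupOf]
    have := h.abK x x.2 y y.2
    push_cast
    exact this)
  have he1 := hC5 (h.ext_lam hf T (fun k hk => h.mem_stab.1 hk) hNT)
  rw [he1, Nat.cast_one, one_smul] at hC3
  have hne : ∀ θ ∈ C, classInner (indFun (N₁.subgroupOf K) (lam K N₁ f)) θ ≠ 0 := by
    intro θ hθ
    rw [hC3, ci_sum_left, Finset.sum_eq_single θ]
    · rw [ci_irr_self (hC1 θ hθ)]; exact one_ne_zero
    · intro θ' hθ' hne
      exact ci_irr_ne (hC1 θ' hθ') (hC1 θ hθ) hne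
    · intro hh; exact absurd hθ hh
  refine ⟨C, fun θ hθ => ⟨hC1 θ hθ, fun k hk => ?_, ?_, hne θ hθ⟩, ?_⟩
  · exact Cfsg.Agent.H10.IndSet.ker_const (IsChar.ind (IsIrr.isCharacter (lam_irr hf))) (hC1 θ hθ) (hne θ hθ) (h.ind_ker0 hf hk)
  · rw [hC4 θ hθ, he1, lam_one hf]; simp
  · rw [he1, one_pow, one_mul] at hC2
    have h1 := Subgroup.index_mul_card T
    have h2 := Subgroup.index_mul_card (N₁.subgroupOf K)
    have h3 : 0 < Nat.card (N₁.subgroupOf K) := Nat.card_pos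
    rw [← hC2] at h1
    have h4 : (C.card * T.index) * Nat.card (N₁.subgroupOf K) = (N₁.subgroupOf K).index * Nat.card (N₁.subgroupOf K) := by
      rw [h2, ← h1]; ring
    exact Nat.eq_of_mul_eq_mul_right h3 h4

/-- characters above a nontrivial linear character of `N₁` do not contain `N₁` in their kernel -/
theorem not_ker1 {f : L → ℂˣ} (hf : Lin N₁ N₀ f) {θ : K → ℂ} (hθ : IsIrrCharacter K θ)
    (hne : classInner (indFun (N₁.subgroupOf K) (lam K N₁ f)) θ ≠ 0) : ¬ ∀ k : K, (k : L) ∈ N₁ → θ k = θ 1 := by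
  haveI := Fintype.ofFinite (N₁.subgroupOf K)
  intro hk
  rw [constituent_ind_iff (IsIrr.isCharacter hθ)] at hne
  apply hne
  have e1 : (fun n : N₁.subgroupOf K => θ n) = θ 1 • (fun _ => (1 : ℂ)) := by
    funext n
    rw [Pi.smul_apply, smul_eq_mul, mul_one]
    exact hk n n.2
  rw [e1, ci_smul_left, ci_irr_ne isIrr_one (lam_irr hf), mul_zero]
  intro he
  obtain ⟨x, hx, hx1⟩ := hf.ne
  apply hx1
  have := congrFun he ⟨⟨x, h.le1 hx⟩, hx⟩
  exact Units.ext this.symm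

variable {μ : (↥(W₁ ⊔ W₂) →* ℂˣ) → (L → ℂ)} {δ : (↥(W₁ ⊔ W₂) →* ℂˣ) → ℂ} (hμ : MU K W₁ W₂ μ δ)
include hμ

/-- irreducible characters of `K/N₀` of degree less than `u`, nontrivial on `N₁`, induce irreducibly -/
theorem small_irr {θ : K → ℂ} (hθ : IsIrrCharacter K θ) (hk : ¬ ∀ k : K, (k : L) ∈ N₁ → θ k = θ 1)
    (hd : θ 1 ≠ (N₁.relIndex K : ℂ)) : IsIrrCharacter L (indFun K θ) := by
  apply hμ.classify θ hθ
  intro ω hω he
  by_cases h1 : ω = 1
  · apply hk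
    intro k _
    rw [← he, h1]
    show μ 1 k = μ 1 ((1 : K) : L)
    rw [h.mu_one_eq hμ]
  · apply hd
    rw [← he]
    exact h.mu_deg hμ hω h1

end P2

end Cfsg.Agent.H2.PF11
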