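import Mathlib
import Cfsg.Agent.H2_PF11l

/-!
H2_PF11m: counting characters above a linear character with a nontrivial stabiliser.
-/

set_option autoImplicit false
set_option linter.unusedSectionVars false
set_option linter.style.haveILetI false

namespace Cfsg.Agent.H2.PF11

open Cfsg Cfsg.Agent.H3.CharIrr Cfsg.Agent.H3.CharComplete Cfsg.Agent.H3.CharInd Cfsg.Agent.H3.CharMult
  Cfsg.Agent.H3.CharBasic Cfsg.Agent.H3.CharCalc Cfsg.Agent.H3.Clifford Cfsg.Agent.H3.CharInt Cfsg.Agent.H3.CharQuot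
  Cfsg.Agent.H10.CycTI Cfsg.Agent.H10.CycTI2 Cfsg.Agent.H10.CycTI3 Cfsg.Agent.H10.CycTI4 Cfsg.Agent.H10.PrD2
  Cfsg.Agent.H10.PrD3 Cfsg.Agent.H10.PrD4 Cfsg.Agent.H10.PrD5 Cfsg.Agent.H10.Dade Cfsg.Agent.H10.PM Cfsg.Agent.H10.Coh
  Cfsg.Agent.H10.Coh2 Cfsg.Agent.H10.Coh3 Cfsg.Agent.H10.Coh4 Cfsg.Agent.H10.IndSet2 Cfsg.Agent.H10.OOClif Cfsg.Agent.H10.PrD6
  Cfsg.Agent.H10.PrD7 Cfsg.Agent.H10.PrD8
open scoped ComplexConjugate commutatorElement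

open Classical in
/-- irreducible members of degree `d` -/
noncomputable def Tb {L : Type*} [Group L] [Fintype L] (K N₁ N₀ : Subgroup L) (d : ℂ) : Finset (L → ℂ) :=
  (SF K N₀).filter (fun χ => IsIrrCharacter L χ ∧ χ 1 = d ∧ χ ∉ inducedIrrAbove K N₁)

theorem mem_Tb {L : Type*} [Group L] [Fintype L] {K N₁ N₀ : Subgroup L} {d : ℂ} {χ : L → ℂ} :
    χ ∈ Tb K N₁ N₀ d ↔ χ ∈ inducedIrrAbove K N₀ ∧ IsIrrCharacter L χ ∧ χ 1 = d ∧ χ ∉ inducedIrrAbove K N₁ := by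
  classical
  rw [Tb, Finset.mem_filter, mem_SF]

theorem conj_conj' {X : Type*} (χ : X → ℂ) : conjFun (conjFun χ) = χ := by
  funext x; simp [conjFun]

namespace P2

variable {G : Type*} [Group G] [Fintype G] {L : Subgroup G} [Fintype L] {K N₁ N₀ : Subgroup L} [Fintype K] {W₁ W₂ : Subgroup G} {A : Set G}
  {R : G → Subgroup G} (h : P2 L K N₁ N₀ W₁ W₂ A R)
include h

theorem Lconj {f : L → ℂˣ} (hf : Lin N₁ N₀ f) (g : L) : Lin N₁ N₀ (fun n => f (g * n * g⁻¹)) := by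
  have nc : ∀ g : L, ∀ n ∈ N₁, g * n * g⁻¹ ∈ N₁ := fun g n hn => h.n1.conj_mem n hn g
  refine ⟨fun x hx y hy => ?_, fun x hx => hf.triv _ (h.n0.conj_mem x hx g), ?_⟩
  · rw [← hf.mul _ (nc g x hx) _ (nc g y hy)]
    congr 1; group
  · obtain ⟨x, hx, hx1⟩ := hf.ne
    refine ⟨g⁻¹ * x * g⁻¹⁻¹, nc _ x hx, ?_⟩
    have e : g * (g⁻¹ * x * g⁻¹⁻¹) * g⁻¹ = x := by group
    rw [e]; exact hx1

theorem Linv {f : L → ℂˣ} (hf : Lin N₁ N₀ f) : Lin N₁ N₀ (fun n => (f n)⁻¹) := by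
  refine ⟨fun x hx y hy => by rw [hf.mul x hx y hy, mul_inv], fun x hx => by rw [hf.triv x hx, inv_one], ?_⟩
  obtain ⟨x, hx, hx1⟩ := hf.ne
  exact ⟨x, hx, fun he => hx1 (inv_eq_one.1 he)⟩

/-- two linear characters under the same irreducible character of `K` -/
theorem same_over {f f' : L → ℂˣ} (hf : Lin N₁ N₀ f) (hf' : Lin N₁ N₀ f') {θ : K → ℂ} (hθ : IsIrrCharacter K θ)
    (h1 : classInner (indFun (N₁.subgroupOf K) (lam K N₁ f)) θ ≠ 0) (h2 : classInner (indFun (N₁.subgroupOf K) (lam K N₁ f')) θ ≠ 0) :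
    ∃ k : K, ∀ n ∈ N₁, f ((k : L) * n * (k : L)⁻¹) = f' n := by
  haveI := Fintype.ofFinite (N₁.subgroupOf K)
  rw [constituent_ind_iff (IsIrr.isCharacter hθ)] at h1 h2
  obtain ⟨k, hk⟩ := eq_cj_of_constituents h.Nn hθ (lam_irr hf) (lam_irr hf') h1 h2
  rw [cj_lam, eq_comm, lam_ext h.le1] at hk
  exact ⟨k, hk⟩

/-- conjugation and lying over -/
theorem over_cj {f : L → ℂˣ} {θ : K → ℂ} (h1 : classInner (indFun (N₁.subgroupOf K) (lam K N₁ f)) θ ≠ 0) (g : L) :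
    classInner (indFun (N₁.subgroupOf K) (lam K N₁ (fun n => f (g * n * g⁻¹)))) (cj h.Kn g θ) ≠ 0 := by
  have e : indFun (N₁.subgroupOf K) (lam K N₁ (fun n => f (g * n * g⁻¹))) = cj h.Kn g (indFun (N₁.subgroupOf K) (lam K N₁ f)) := by
    funext k
    exact (ind_lam_conj h.Kn h.n1 g k).symm
  rw [e, cj_ci]; exact h1

theorem over_conj {f : L → ℂˣ} {θ : K → ℂ} (h1 : classInner (indFun (N₁.subgroupOf K) (lam K N₁ f)) θ ≠ 0) (hf : Lin N₁ N₀ f) :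
    classInner (indFun (N₁.subgroupOf K) (lam K N₁ (fun n => (f n)⁻¹))) (conjFun θ) ≠ 0 := by
  have e : indFun (N₁.subgroupOf K) (lam K N₁ (fun n => (f n)⁻¹)) = conjFun (indFun (N₁.subgroupOf K) (lam K N₁ f)) := by
    rw [conj_ind]
    congr 1
    funext n
    show (((f _)⁻¹ : ℂˣ) : ℂ) = conj (f _ : ℂ)
    have h2 : IsOfFinOrder (f ((n : K) : L)) := by
      rw [isOfFinOrder_iff_pow_eq_one]
      refine ⟨Nat.card L, Nat.card_pos, ?_⟩
      rw [← hf.map_pow (x := ((n : K) : L)) n.2, pow_card_eq_one', hf.one]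
    rw [isOfFinOrder_iff_pow_eq_one] at h2
    obtain ⟨m, hm, hm1⟩ := h2
    rw [Units.val_inv_eq_inv_val]
    apply inv_eq_conj_of_pow (n := m) hm.ne'
    rw [← Units.val_pow_eq_pow_val, hm1]; rfl
  rw [e, ci_conj]
  intro hc
  exact h1 ((map_eq_zero _).1 hc)

/-- elements inverting a linear character -/
theorem no_inv {f : L → ℂˣ} (hf : Lin N₁ N₀ f) {y : L} (hy : ∀ n ∈ N₁, f (y * n * y⁻¹) = (f n)⁻¹) : False := by
  have nc : ∀ g : L, ∀ n ∈ N₁, g * n * g⁻¹ ∈ N₁ := fun g n hn => h.n1.conj_mem n hn g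
  have hoddL : Odd (Nat.card L) := odd_L h.pd.toPT
  have h2 : ∀ n ∈ N₁, f ((y * y) * n * (y * y)⁻¹) = f n := by
    intro n hn
    have e : (y * y) * n * (y * y)⁻¹ = y * (y * n * y⁻¹) * y⁻¹ := by group
    rw [e, hy _ (nc y n hn), hy n hn, inv_inv]
  have h3 : ∀ j : ℕ, ∀ n ∈ N₁, f ((y * y) ^ j * n * ((y * y) ^ j)⁻¹) = f n := by
    intro j
    induction j with
    | zero => intro n _; rw [pow_zero]; congr 1; group
    | succ j ih =>
      intro n hn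
      have e : (y * y) ^ (j + 1) * n * ((y * y) ^ (j + 1))⁻¹ = (y * y) ^ j * ((y * y) * n * (y * y)⁻¹) * ((y * y) ^ j)⁻¹ := by
        rw [pow_succ]; group
      rw [e, ih _ (nc _ n hn), h2 n hn]
  obtain ⟨r, hr⟩ := Odd.of_dvd_nat hoddL (orderOf_dvd_natCard y)
  have h4 : (y * y) ^ (r + 1) = y := by
    rw [← pow_two, ← pow_mul, show 2 * (r + 1) = (2 * r + 1) + 1 by ring, ← hr, pow_succ, pow_orderOf_eq_one, one_mul]
  obtain ⟨x, hx, hx1⟩ := hf.ne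
  have h5 := h3 (r + 1) x hx
  rw [h4, hy x hx] at h5
  have h6 : f x * f x = 1 := by
    nth_rw 1 [← h5]; exact inv_mul_cancel _
  have h7 : orderOf (f x) ∣ 2 := orderOf_dvd_of_pow_eq_one (by rw [pow_two]; exact h6)
  have h8 : orderOf (f x) ∣ Nat.card L := orderOf_dvd_of_pow_eq_one (by rw [← hf.map_pow hx, pow_card_eq_one', hf.one])
  apply hx1
  rcases (Nat.dvd_prime Nat.prime_two).1 h7 with h9 | h9
  · exact orderOf_eq_one_iff.1 h9
  · rw [h9] at h8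
    exact absurd (even_iff_two_dvd.2 h8) (Nat.not_even_iff_odd.2 hoddL)

theorem Tb_conj {d : ℂ} (hd : conj d = d) {χ : L → ℂ} (hχ : χ ∈ Tb K N₁ N₀ d) : conjFun χ ∈ Tb K N₁ N₀ d := by
  rw [mem_Tb] at hχ ⊢
  refine ⟨conj_mem_above hχ.1, IsIrr.conj hχ.2.1, ?_, fun hc => hχ.2.2.2 ?_⟩
  · rw [conjFun, hχ.2.2.1, hd]
  · have := conj_mem_above hc
    rwa [conj_conj'] at this

variable {μ : (↥(W₁ ⊔ W₂) →* ℂˣ) → (L → ℂ)} {δ : (↥(W₁ ⊔ W₂) →* ℂˣ) → ℂ} (hμ : MU K W₁ W₂ μ δ)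
include hμ

/-- the count -/
theorem count {f : L → ℂˣ} (hf : Lin N₁ N₀ f) {k₀ : L} (hk₀ : k₀ ∈ K) (hk₀' : k₀ ∉ N₁) (hst : ∀ n ∈ N₁, f (k₀ * n * k₀⁻¹) = f n) :
    ∃ b c : ℕ, 1 < c ∧ c * b = N₁.relIndex K ∧ 2 * c ≤ (Tb K N₁ N₀ ((Nat.card W₁ : ℂ) * b)).card := by
  classical
  haveI := Fintype.ofFinite (N₁.subgroupOf K)
  obtain ⟨C, hC, hcb⟩ := h.exists_C hf
  set T := inertia h.Nn (lam K N₁ f) with hT
  have hNT : N₁.subgroupOf K ≤ T := le_inertia h.Nn (IsIrr.isClass (lam_irr hf))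
  have hk₀T : (⟨k₀, hk₀⟩ : K) ∈ T := h.mem_stab.2 hst
  have hu0 : 0 < N₁.relIndex K := by have := h.hu; omega
  have hc1 : 1 < C.card := by
    by_contra hcon
    have h1 : C.card = 0 ∨ C.card = 1 := by omega
    rcases h1 with h1 | h1
    · rw [h1, zero_mul] at hcb; omega
    · rw [h1, one_mul] at hcb
      have h2 := Subgroup.index_mul_card T
      have h3 := Subgroup.index_mul_card (N₁.subgroupOf K)
      have h4 : (N₁.subgroupOf K).index = T.index := hcb.symm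
      rw [h4, ← h2] at h3
      have h5 : Nat.card (N₁.subgroupOf K) = Nat.card T := Nat.eq_of_mul_eq_mul_left (by rw [hcb]; exact hu0) h3
      have h6 := Subgroup.eq_of_le_of_card_ge hNT h5.ge
      rw [← h6] at hk₀T
      exact hk₀' hk₀T
  have hbu : T.index ≠ N₁.relIndex K := by
    intro he
    rw [he] at hcb
    have : C.card = 1 := Nat.eq_of_mul_eq_mul_right hu0 (by rw [hcb, one_mul])
    omega
  have hstK : ∀ g : L, (∀ n ∈ N₁, f (g * n * g⁻¹) = f n) → g ∈ K := by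
    intro g hg
    by_contra hgK
    exact hk₀' (h.stab hf hgK hg hk₀ hst)
  have nc : ∀ g : L, ∀ n ∈ N₁, g * n * g⁻¹ ∈ N₁ := fun g n hn => h.n1.conj_mem n hn g
  have hmem : ∀ θ ∈ C, indFun K θ ∈ Tb K N₁ N₀ ((Nat.card W₁ : ℂ) * T.index) := by
    intro θ hθ
    obtain ⟨h1, h2, h3, h4⟩ := hC θ hθ
    have h5 := h.not_ker1 hf h1 h4
    rw [mem_Tb]
    refine ⟨⟨θ, h1, fun hc => h5 (by rw [hc]; intro _ _; rfl), h2, rfl⟩, h.small_irr hμ h1 h5 (by rw [h3]; exact_mod_cast hbu), ?_, ?_⟩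
    · rw [ind_one, h3, index_K h.pd.toPT]
    · rintro ⟨θ₁, g1, -, g3, g4⟩
      obtain ⟨g, hg⟩ := (mem_orb h.Kn _ _).1 ((ind_eq_iff h.Kn h1 g1).1 g4.symm)
      apply h5
      intro k hk
      have e1 := g3 ⟨g⁻¹ * k * g⁻¹⁻¹, h.Kn.conj_mem _ k.2 _⟩ (nc _ _ hk)
      rw [← hg, cj_apply, cj_apply_one] at e1
      rw [← e1]
      congr 1
      apply Subtype.ext
      show (k : L) = g * (g⁻¹ * k * g⁻¹⁻¹) * g⁻¹
      group
  have hinj : ∀ θ ∈ C, ∀ θ' ∈ C, indFun K θ = indFun K θ' → θ = θ' := by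
    intro θ hθ θ' hθ' he
    obtain ⟨h1, h2, h3, h4⟩ := hC θ hθ
    obtain ⟨h1', h2', h3', h4'⟩ := hC θ' hθ'
    obtain ⟨g, hg⟩ := (mem_orb h.Kn _ _).1 ((ind_eq_iff h.Kn h1 h1').1 he.symm)
    have h5 := h.over_cj h4 g
    rw [hg] at h5
    obtain ⟨k, hk⟩ := h.same_over hf (h.Lconj hf g) h1' h4' h5
    have h6 : g * (k : L)⁻¹ ∈ K := by
      apply hstK
      intro n hn
      have e1 : g * (k : L)⁻¹ * n * (g * (k : L)⁻¹)⁻¹ = g * ((k : L)⁻¹ * n * (k : L)⁻¹⁻¹) * g⁻¹ := by group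
      rw [e1]
      have := hk _ (nc (k : L)⁻¹ n hn)
      rw [← this]
      congr 1; group
    have h7 : g ∈ K := by
      have := K.mul_mem h6 k.2
      rwa [inv_mul_cancel_right] at this
    rw [← hg, cj_mem h.Kn (IsIrr.isClass h1) h7]
  have hdis : ∀ θ ∈ C, ∀ θ' ∈ C, indFun K θ ≠ conjFun (indFun K θ') := by
    intro θ hθ θ' hθ' he
    obtain ⟨h1, h2, h3, h4⟩ := hC θ hθ
    obtain ⟨h1', h2', h3', h4'⟩ := hC θ' hθ'
    rw [conj_ind] at he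
    have h1c : IsIrrCharacter K (conjFun θ') := IsIrr.conj h1'
    obtain ⟨g, hg⟩ := (mem_orb h.Kn _ _).1 ((ind_eq_iff h.Kn h1 h1c).1 he.symm)
    have h5 := h.over_cj h4 g
    rw [hg] at h5
    have h6 := h.over_conj h4' hf
    obtain ⟨k, hk⟩ := h.same_over (h.Linv hf) (h.Lconj hf g) h1c h6 h5
    apply h.no_inv hf (y := g * (k : L)⁻¹)
    intro n hn
    have e1 : g * (k : L)⁻¹ * n * (g * (k : L)⁻¹)⁻¹ = g * ((k : L)⁻¹ * n * (k : L)⁻¹⁻¹) * g⁻¹ := by group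
    rw [e1]
    have := hk _ (nc (k : L)⁻¹ n hn)
    rw [← this]
    congr 2; group
  refine ⟨T.index, C.card, hc1, hcb, ?_⟩
  have hdre : conj ((Nat.card W₁ : ℂ) * T.index) = (Nat.card W₁ : ℂ) * T.index := by
    rw [map_mul, Complex.conj_natCast, Complex.conj_natCast]
  have hsub : C.image (fun θ => indFun K θ) ∪ C.image (fun θ => conjFun (indFun K θ)) ⊆ Tb K N₁ N₀ ((Nat.card W₁ : ℂ) * T.index) := by
    intro χ hχ
    rw [Finset.mem_union, Finset.mem_image, Finset.mem_image] at hχ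
    rcases hχ with ⟨θ, hθ, rfl⟩ | ⟨θ, hθ, rfl⟩
    · exact hmem θ hθ
    · exact h.Tb_conj hdre (hmem θ hθ)
  have hcard := Finset.card_le_card hsub
  have hdisj' : Disjoint (C.image (fun θ => indFun K θ)) (C.image (fun θ => conjFun (indFun K θ))) := by
    rw [Finset.disjoint_left]
    intro χ h1 h2
    obtain ⟨θ, hθ, rfl⟩ := Finset.mem_image.1 h1
    obtain ⟨θ', hθ', e⟩ := Finset.mem_image.1 h2
    exact hdis θ hθ θ' hθ' e.symm
  rw [Finset.card_union_of_disjoint hdisj', Finset.card_image_of_injOn, Finset.card_image_of_injOn] at hcard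
  · omega
  · intro θ hθ θ' hθ' he
    have he' := congrArg conjFun (show conjFun (indFun K θ) = conjFun (indFun K θ') from he)
    rw [conj_conj', conj_conj'] at he'
    exact hinj θ hθ θ' hθ' he'
  · intro θ hθ θ' hθ' he
    exact hinj θ hθ θ' hθ' he

end P2

end Cfsg.Agent.H2.PF11
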