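import Mathlib
import Cfsg.Agent.H2_PF11m
import Cfsg.Agent.H2_PF11k
import Cfsg.Agent.H10_CohI

/-!
H2_PF11n: the second case: all nontrivial linear characters of `N₁/N₀` have stabiliser `N₁` in `K`.
-/

set_option autoImplicit false
set_option linter.unusedSectionVars false
set_option linter.style.haveILetI false

namespace Cfsg.Agent.H2.PF11

open Cfsg Cfsg.Agent.H3.CharIrr Cfsg.Agent.H3.CharComplete Cfsg.Agent.H3.CharInd Cfsg.Agent.H3.CharMult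
  Cfsg.Agent.H3.CharBasic Cfsg.Agent.H3.CharCalc Cfsg.Agent.H3.Clifford Cfsg.Agent.H3.CharInt Cfsg.Agent.H3.CharQuot
  Cfsg.Agent.H10.CycTI Cfsg.Agent.H10.CycTI2 Cfsg.Agent.H10.CycTI3 Cfsg.Agent.H10.CycTI4 Cfsg.Agent.H10.PrD2
  Cfsg.Agent.H10.PrD3 Cfsg.Agent.H10.PrD4 Cfsg.Agent.H10.PrD5 Cfsg.Agent.H10.Dade Cfsg.Agent.H10.PM Cfsg.Agent.H10.Coh
  Cfsg.Agent.H10.Coh2 Cfsg.Agent.H10.Coh3 Cfsg.Agent.H10.Coh4 Cfsg.Agent.H10.IndSet2 Cfsg.Agent.H10.OOClif Cfsg.Agent.H10.PrD6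
  Cfsg.Agent.H10.PrD7 Cfsg.Agent.H10.PrD8
open scoped ComplexConjugate commutatorElement

/-- one term -/
theorem termB {y z p : ℤ} (hp : 3 ≤ p) : 0 ≤ y * y + (p - 1) * (z * z) + 2 * z := by
  have h2 : 0 ≤ z * z + z := by
    rcases le_or_gt 0 z with h3 | h3
    · nlinarith
    · nlinarith
  nlinarith [mul_self_nonneg z, mul_self_nonneg y, mul_nonneg (by linarith : (0:ℤ) ≤ p - 3) (mul_self_nonneg z)]

theorem termB0 {y z p : ℤ} (hp : 3 ≤ p) (h : y * y + (p - 1) * (z * z) + 2 * z = 0) : y = 0 ∧ (p - 1) * (z * z) + 2 * z = 0 := by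
  have h1 := termB (y := 0) (z := z) hp
  have h2 := mul_self_nonneg y
  have h3 : y * y = 0 := by linarith
  exact ⟨mul_self_eq_zero.1 h3, by linarith⟩

/-- arithmetic of the second case -/
theorem arithB {N c t E : ℤ} (hc : 1 < c) (hN : 2 * c ≤ N) (hE : 0 ≤ E)
    (h : (t - c) * (t - c) + (N - 1) * (t * t) + E ≤ c * c) : E = 0 ∧ (N * t - c = -c ∨ N * t - c = c) ∧
      (t - c) * (t - c) + (N - 1) * (t * t) = c * c := by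
  have h1 : N * (t * t) - 2 * c * t + E ≤ 0 := by linarith
  have h2 : 0 ≤ t * t - t := by
    rcases le_or_gt t 0 with h3 | h3
    · nlinarith
    · nlinarith
  have h3 : 2 * c * (t * t) ≤ N * (t * t) := mul_le_mul_of_nonneg_right hN (mul_self_nonneg t)
  have h4 : 0 ≤ 2 * c * (t * t - t) := mul_nonneg (by linarith) h2
  have h5 : E = 0 := by linarith
  have h6 : N * (t * t) = 2 * c * t := by linarith
  have h7 : t * (N * t - 2 * c) = 0 := by linarith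
  refine ⟨h5, ?_, by linarith⟩
  rcases mul_eq_zero.1 h7 with h8 | h8
  · left; rw [h8]; ring
  · right; linarith

/-- final contradiction of the second case -/
theorem finB {c v m s p : ℤ} (hp : 3 ≤ p) (hc : 1 < c) (hm : m = -c ∨ m = c) (hs : (p - 1) * (s * s) + 2 * s = 0)
    (h : 1 + v * m + (p - 1) * s = 0) : False := by
  have h1 : s * ((p - 1) * s + 2) = 0 := by linarith
  have hdvd : c ∣ v * m := by
    rcases hm with rfl | rfl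
    · exact ⟨-v, by ring⟩
    · exact ⟨v, by ring⟩
  have h3 : c ∣ 1 := by
    rcases mul_eq_zero.1 h1 with h2 | h2
    · rw [h2] at h
      obtain ⟨k, hk⟩ := hdvd
      exact ⟨-k, by rw [hk] at h; linarith⟩
    · obtain ⟨k, hk⟩ := hdvd
      exact ⟨k, by rw [hk] at h; linarith⟩
  have := Int.le_of_dvd (by norm_num) h3
  omega

namespace P2

variable {G : Type*} [Group G] [Fintype G] {L : Subgroup G} [Fintype L] {K N₁ N₀ : Subgroup L} [Fintype K] {W₁ W₂ : Subgroup G} {A : Set G}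
  {R : G → Subgroup G} (h : P2 L K N₁ N₀ W₁ W₂ A R)
  {μ : (↥(W₁ ⊔ W₂) →* ℂˣ) → (L → ℂ)} {δ : (↥(W₁ ⊔ W₂) →* ℂˣ) → ℂ} (hμ : MU K W₁ W₂ μ δ)
  {η : (↥(W₁ ⊔ W₂) →* ℂˣ) → (G → ℂ)} (hη : IsCyclicTIFamily W₁ W₂ η)
include h hμ

theorem above_off {χ : L → ℂ} (hχ : χ ∈ inducedIrrAbove K N₀) {x : L} (hx : x ∉ K) : χ x = 0 := by
  obtain ⟨θ, -, -, -, rfl⟩ := hχ
  exact h.ind_off hμ θ hx

/-- members of `Tb` are not among the `μ_ij` with `j = 0` -/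
theorem Tb_red1 {d : ℂ} {χ : L → ℂ} (hχ : χ ∈ Tb K N₁ N₀ d) : classInner (red K μ 1) χ = 0 ∧ classInner χ (fun _ => 1) = 0 := by
  rw [mem_Tb] at hχ
  obtain ⟨⟨θ, g1, g2, g3, g4⟩, h2, h3, h4⟩ := hχ
  have h5 : ∀ x : L, x ∉ K → χ x = 0 := fun x hx => by rw [g4]; exact h.ind_off hμ θ hx
  have h6 : ∀ φ, X1 W₁ W₂ φ → classInner (μ φ) χ = 0 := by
    intro φ hφ
    apply ci_irr_ne (hμ.irr φ) h2
    intro he
    obtain ⟨x, hx, hxK⟩ := h.exists_x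
    have h7 := (hμ.lin φ hφ).2.2 x (Subgroup.mem_sup_left hx)
    rw [he, h5 x hxK] at h7
    exact Units.ne_zero _ h7.symm
  constructor
  · rw [red_sum h.pd.toPT hμ, ci_sum_left]
    apply Finset.sum_eq_zero
    intro φ hφ
    have : φ * (1 : ↥(W₁ ⊔ W₂) →* ℂˣ) = φ := hom_mul_one φ
    rw [this]
    exact h6 φ (mem_X1F.1 hφ)
  · have h8 := h6 1 X1_one
    rw [h.mu_one_eq hμ] at h8
    rw [← ci_conj_symm, h8, map_zero]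

theorem Tb_red {d : ℂ} {χ : L → ℂ} (hχ : χ ∈ Tb K N₁ N₀ d) {ψ : ↥(W₁ ⊔ W₂) →* ℂˣ} (_hψ : X2 W₁ W₂ ψ) :
    classInner (red K μ ψ) χ = 0 := by
  rw [mem_Tb] at hχ
  obtain ⟨⟨θ, g1, g2, g3, g4⟩, h2, h3, h4⟩ := hχ
  have h5 : ∀ x : L, x ∉ K → χ x = 0 := fun x hx => by rw [g4]; exact h.ind_off hμ θ hx
  rw [red_sum h.pd.toPT hμ, ci_sum_left]
  apply Finset.sum_eq_zero
  intro φ hφ
  apply ci_irr_ne (hμ.irr _) h2
  intro he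
  obtain ⟨x, hx, hxK⟩ := h.exists_x
  have hx2 : (x : G) ∉ W₂ := fun hc => hxK (h.pd.W₂K hc)
  have h7 := hμ.val (φ * ψ) x (Subgroup.mem_sup_left hx) hx2
  rw [he, h5 x hxK] at h7
  rcases mul_eq_zero.1 h7.symm with h8 | h8
  · exact d_ne h.pd.toPT hμ _ h8
  · exact Units.ne_zero _ h8

theorem Tb_S1 {d : ℂ} {χ : L → ℂ} (hχ : χ ∈ Tb K N₁ N₀ d) {ζ : L → ℂ} (hζ : ζ ∈ inducedIrrAbove K N₁) : classInner ζ χ = 0 := by
  rw [mem_Tb] at hχ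
  obtain ⟨-, -, -, -, -, -, h4, -⟩ := h.S1_mem hμ hζ
  exact ci_irr_ne h4 hχ.2.1 fun he => hχ.2.2.2 (he ▸ hζ)

include hη

/-- the second case: stabilisers of nontrivial linear characters are trivial -/
theorem caseB (hB : CaseB K N₁ A R μ η) {f : L → ℂˣ} (hf : Lin N₁ N₀ f) {k₀ : L} (hk₀ : k₀ ∈ K) (hst : ∀ n ∈ N₁, f (k₀ * n * k₀⁻¹) = f n) :
    k₀ ∈ N₁ := by
  classical
  by_contra hk₀'
  obtain ⟨b, c, hc1, hcb, hcount⟩ := h.count hμ hf hk₀ hk₀' hst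
  set T := Tb K N₁ N₀ ((Nat.card W₁ : ℂ) * b) with hT
  have hdre : conj ((Nat.card W₁ : ℂ) * b) = (Nat.card W₁ : ℂ) * b := by
    rw [map_mul, Complex.conj_natCast, Complex.conj_natCast]
  have hTmem : ∀ χ, χ ∈ T ↔ _ := fun χ => mem_Tb (K := K) (N₁ := N₁) (N₀ := N₀) (d := (Nat.card W₁ : ℂ) * b)
  have hn0 : inducedIrrAbove K N₀ ⊆ inducedIrrAbove K ⊥ := fun χ hχ => SF_mono bot_le hχ
  have hTS : (↑T : Set (L → ℂ)) ⊆ inducedIrrAbove K ⊥ := fun χ hχ => hn0 ((hTmem χ).1 hχ).1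
  have hTI : (↑T : Set (L → ℂ)) ⊆ indD K K ⊥ := hTS.trans above_indD
  have hTirr : ∀ χ ∈ (↑T : Set (L → ℂ)), IsIrrCharacter L χ := fun χ hχ => ((hTmem χ).1 hχ).2.1
  have hTdeg : ∀ χ ∈ (↑T : Set (L → ℂ)), χ 1 = (Nat.card W₁ : ℂ) * b := fun χ hχ => ((hTmem χ).1 hχ).2.2.1
  have hTc : ∀ χ ∈ T, conjFun χ ∈ T := fun χ hχ => h.Tb_conj hdre hχ
  obtain ⟨ζ, hζ⟩ := h.SF_nonempty hμ
  -- the coherence system
  obtain ⟨Rc, hS, -, hR2⟩ := Cfsg.Agent.H10.PrD7.system h.pd hμ hη (S := inducedIrrAbove K ⊥) above_indD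
    ⟨ζ, SF_mono bot_le hζ⟩ (fun χ hχ => conj_mem_above hχ)
  have hτT : IsLinearIsometryOn (zspanOn (↑T : Set (L → ℂ)) {1}ᶜ) (dadeIsometry (A0 L W₁ W₂ A) L R) := tau_iso h.pd hTI
  obtain ⟨τ₁, t1, t2⟩ := Cfsg.Agent.H10.CohI.coh_equal hTirr (fun χ hχ χ' hχ' => by rw [hTdeg χ hχ, hTdeg χ' hχ']) hτT
    (fun α _ => dade_at_one h.pd.dade α)
  have st_ci : ∀ χ ∈ T, ∀ χ' ∈ T, classInner (τ₁ χ) (τ₁ χ') = if χ = χ' then 1 else 0 := by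
    intro χ hχ χ' hχ'
    rw [t1.2.2.1 _ (zs_sub hχ) _ (zs_sub hχ')]
    exact ci_irr (hTirr χ hχ) (hTirr χ' hχ')
  have st_eta : ∀ χ ∈ T, ∀ ω, classInner (η ω) (τ₁ χ) = 0 := by
    intro χ hχ ω
    refine orth_tau hS hTS t1 t2 hχ (hTc χ hχ) (f := η ω) fun α hα => ?_
    rw [← ci_conj_symm, (hR2 χ (hTS hχ) (hTirr χ hχ)).1 α hα ω, map_zero]
  have st_gen : ∀ χ ∈ T, IsGeneralizedCharacter G (τ₁ χ) := fun χ hχ => t1.2.2.2 _ (zs_sub hχ)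
  have st_sub : ∀ χ ∈ T, ∀ χ' ∈ T, τ₁ χ - τ₁ χ' = dadeIsometry (A0 L W₁ W₂ A) L R (χ - χ') := by
    intro χ hχ χ' hχ'
    rw [← iso_diff t1 (zs_sub hχ) (zs_sub hχ') (zs_neg (zs_sub hχ')), t2]
    rw [zo_iff]
    exact ⟨zs_diff (zs_sub hχ) (zs_sub hχ'), by rw [Pi.sub_apply, hTdeg χ hχ, hTdeg χ' hχ', sub_self]⟩
  have hTne : T.Nonempty := Finset.card_pos.1 (by omega)
  obtain ⟨χ₀, hχ₀⟩ := hTne
  have hT0 := (hTmem χ₀).1 hχ₀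
  have sub_gen : ∀ χ ∈ T, ∀ χ' ∈ T, IsGeneralizedCharacter L (χ - χ') := fun χ hχ χ' hχ' =>
    IsGen.sub (IsGen.of_irr (hTirr χ hχ)) (IsGen.of_irr (hTirr χ' hχ'))
  obtain ⟨ψ₀, -, hψ₀, -, hψ₀1, -, -⟩ := Cfsg.Agent.H10.CycTI5.exists_two2 h.pd.self (odd_W h.pd.toPT)
  -- the functions β_ψ
  set be : (↥(W₁ ⊔ W₂) →* ℂˣ) → (L → ℂ) := fun ψ => red K μ ψ - (c : ℂ) • χ₀ with hbe
  set De : (↥(W₁ ⊔ W₂) →* ℂˣ) → (G → ℂ) := fun ψ => dadeIsometry (A0 L W₁ W₂ A) L R (be ψ) - etaC η ψ with hDe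
  have hbeg : ∀ ψ, IsGeneralizedCharacter L (be ψ) := fun ψ => IsGen.sub (IsGen.of_char (red_char h.pd.toPT hμ ψ)) (by
    have := IsGen.intsmul (IsGen.of_irr (hTirr χ₀ hχ₀)) (c : ℤ)
    simpa using this)
  have hbes : ∀ ψ, X2 W₁ W₂ ψ → ψ ≠ 1 → (∀ x : L, (x : G) ∉ A0 L W₁ W₂ A → be ψ x = 0) ∧ ∀ v : L, (v : G) ∈ V W₁ W₂ → be ψ v = 0 := by
    intro ψ h1 h2
    apply h.supp hμ
    · show red K μ ψ 1 - (c : ℂ) * χ₀ 1 = 0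
      rw [h.red_deg hμ h1 h2, hTdeg χ₀ hχ₀, ← hcb]; push_cast; ring
    · intro x hx
      show red K μ ψ x - (c : ℂ) * χ₀ x = 0
      rw [h.red1 hμ ψ hx, h.above_off hμ hT0.1 hx, mul_zero, sub_zero]
  have hbtg : ∀ ψ, X2 W₁ W₂ ψ → ψ ≠ 1 → IsGeneralizedCharacter G (dadeIsometry (A0 L W₁ W₂ A) L R (be ψ)) := fun ψ h1 h2 =>
    h.t_gen (hbeg ψ) (hbes ψ h1 h2).1
  -- independence
  have hind : ∀ ψ, X2 W₁ W₂ ψ → ψ ≠ 1 → De ψ = De ψ₀ := by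
    intro ψ h1 h2
    have e1 := tau_red h.pd hμ hη h1 hψ₀ h2 hψ₀1 (by rw [h.mu_deg hμ h1 h2, h.mu_deg hμ hψ₀ hψ₀1])
    rw [h.delta_one hμ h1 h2, one_smul] at e1
    have e2 : red K μ ψ - red K μ ψ₀ = be ψ - be ψ₀ := by simp only [hbe]; abel
    rw [e2, dade_sub] at e1
    have e3 : De ψ - De ψ₀ = 0 := by
      simp only [hDe]
      have : dadeIsometry (A0 L W₁ W₂ A) L R (be ψ) - etaC η ψ - (dadeIsometry (A0 L W₁ W₂ A) L R (be ψ₀) - etaC η ψ₀) =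
        (dadeIsometry (A0 L W₁ W₂ A) L R (be ψ) - dadeIsometry (A0 L W₁ W₂ A) L R (be ψ₀)) - (etaC η ψ - etaC η ψ₀) := by abel
      rw [this, e1, sub_self]
    exact sub_eq_zero.1 e3
  have hDg : IsGeneralizedCharacter G (De ψ₀) := IsGen.sub (hbtg ψ₀ hψ₀ hψ₀1) (etaC_gen h.pd hμ hη ψ₀)
  obtain ⟨d, hd⟩ := exists_int hη hDg
  obtain ⟨bb, hbb⟩ := exists_int hη (hbtg ψ₀ hψ₀ hψ₀1)
  -- relation between d and bb
  have hdb : ∀ φ ψ, X1 W₁ W₂ φ → X2 W₁ W₂ ψ → d (φ * ψ) = bb (φ * ψ) - if ψ₀ = ψ then 1 else 0 := by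
    intro φ ψ hφ hψ
    have e1 := hd (φ * ψ)
    have e2 : classInner (De ψ₀) (η (φ * ψ)) = bb (φ * ψ) - if ψ₀ = ψ then 1 else 0 := by
      show classInner (dadeIsometry (A0 L W₁ W₂ A) L R (be ψ₀) - etaC η ψ₀) _ = _
      rw [ci_sub_left, hbb, etaC_eta h.pd hμ hη hφ hψ₀ hψ]
    rw [e2] at e1
    by_cases h3 : ψ₀ = ψ
    · rw [if_pos h3] at e1 ⊢
      exact_mod_cast e1.symm
    · rw [if_neg h3] at e1 ⊢
      exact_mod_cast e1.symm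
  have hred1 : ∀ ψ, X2 W₁ W₂ ψ → ψ ≠ 1 → classInner (red K μ ψ) (fun _ => 1) = 0 := by
    intro ψ h1 h2
    have := red_mu h.pd.toPT hμ (ψ := ψ) (ψ' := 1) (φ := 1) h1 X2_one X1_one
    rwa [if_neg h2, hom_one_mul, h.mu_one_eq hμ] at this
  have hbb1 : bb 1 = 0 := by
    have e1 := hbb 1
    rw [hη.map_one, dade_ci_one h.pd (IsGen.isClass (hbeg ψ₀)) (hbes ψ₀ hψ₀ hψ₀1).1] at e1
    have e2 : classInner (be ψ₀) (fun _ => 1) = 0 := by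
      show classInner (red K μ ψ₀ - (c : ℂ) • χ₀) _ = 0
      rw [ci_sub_left, ci_smul_left, hred1 ψ₀ hψ₀ hψ₀1, (h.Tb_red1 hμ hχ₀).2]; ring
    rw [e2] at e1
    exact_mod_cast e1.symm
  have hbgrid : ∀ φ ψ, X1 W₁ W₂ φ → X2 W₁ W₂ ψ → bb (φ * ψ) = bb φ + bb ψ := by
    intro φ ψ hφ hψ
    rw [h.grid_one hμ hη (IsGen.isClass (hbtg ψ₀ hψ₀ hψ₀1)) (h.vanV hμ hη (hbeg ψ₀) (hbes ψ₀ hψ₀ hψ₀1).2) hbb hφ hψ, hbb1, sub_zero]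
  have hdφ : ∀ φ, X1 W₁ W₂ φ → d φ = bb φ := by
    intro φ hφ
    have := hdb φ 1 hφ X2_one
    have e : φ * (1 : ↥(W₁ ⊔ W₂) →* ℂˣ) = φ := hom_mul_one φ
    rw [e, if_neg hψ₀1, sub_zero] at this
    exact this
  have hdψ : ∀ ψ, X2 W₁ W₂ ψ → d ψ = bb ψ - if ψ₀ = ψ then 1 else 0 := by
    intro ψ hψ
    have := hdb 1 ψ X1_one hψ
    rwa [hom_one_mul] at this
  have hd1 : d 1 = 0 := by rw [hdφ 1 X1_one, hbb1]
  have hgrid : ∀ φ ψ, X1 W₁ W₂ φ → X2 W₁ W₂ ψ → d (φ * ψ) = d φ + d ψ := by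
    intro φ ψ hφ hψ
    rw [hdb φ ψ hφ hψ, hdφ φ hφ, hdψ ψ hψ, hbgrid φ ψ hφ hψ]; ring
  -- norms
  have n1 : ∀ ψ, X2 W₁ W₂ ψ → ψ ≠ 1 → classInner (dadeIsometry (A0 L W₁ W₂ A) L R (be ψ)) (dadeIsometry (A0 L W₁ W₂ A) L R (be ψ)) =
      (Nat.card W₁ : ℂ) + c * c := by
    intro ψ h1 h2
    rw [h.t_ci (IsGen.isClass (hbeg ψ)) (hbes ψ h1 h2).1 (IsGen.isClass (hbeg ψ))]
    show classInner (red K μ ψ - (c : ℂ) • χ₀) (red K μ ψ - (c : ℂ) • χ₀) = _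
    have e1 : classInner χ₀ (red K μ ψ) = 0 := by rw [← ci_conj_symm, h.Tb_red hμ hχ₀ h1, map_zero]
    simp only [ci_sub_left, ci_sub_right, ci_smul_left, ci_smul_right, red_norm h.pd hμ hη h1, h.Tb_red hμ hχ₀ h1, e1,
      ci_irr_self (hTirr χ₀ hχ₀), Complex.conj_natCast]
    ring
  have n2 : ∀ ψ, X2 W₁ W₂ ψ → ψ ≠ 1 → classInner (dadeIsometry (A0 L W₁ W₂ A) L R (be ψ)) (etaC η ψ) =
      (Nat.card W₁ : ℂ) + ((∑ φ ∈ X1F W₁ W₂, d (φ * ψ) : ℤ) : ℂ) := by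
    intro ψ h1 h2
    have e1 : dadeIsometry (A0 L W₁ W₂ A) L R (be ψ) = De ψ₀ + etaC η ψ := by
      rw [← hind ψ h1 h2]; simp only [hDe]; abel
    rw [e1, ci_add_left, etaC_etaC h.pd hμ hη h1 h1, if_pos rfl, add_comm]
    congr 1
    rw [etaC, ci_sum_right]
    push_cast
    exact Finset.sum_congr rfl fun φ _ => hd _
  have hnorm : ∀ ψ, X2 W₁ W₂ ψ → ψ ≠ 1 → classInner (De ψ₀) (De ψ₀) = (((c : ℤ) * c - 2 * ∑ φ ∈ X1F W₁ W₂, d (φ * ψ) : ℤ) : ℂ) := by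
    intro ψ h1 h2
    rw [← hind ψ h1 h2]
    have e1 : classInner (etaC η ψ) (dadeIsometry (A0 L W₁ W₂ A) L R (be ψ)) =
        (Nat.card W₁ : ℂ) + ((∑ φ ∈ X1F W₁ W₂, d (φ * ψ) : ℤ) : ℂ) := by
      rw [← ci_conj_symm, n2 ψ h1 h2, map_add, Complex.conj_natCast, Cfsg.Agent.H10.Sib.cint]
    show classInner (dadeIsometry (A0 L W₁ W₂ A) L R (be ψ) - etaC η ψ) (dadeIsometry (A0 L W₁ W₂ A) L R (be ψ) - etaC η ψ) = _
    rw [ci_sub_left, ci_sub_right, ci_sub_right, n1 ψ h1 h2, n2 ψ h1 h2, e1, etaC_etaC h.pd hμ hη h1 h1, if_pos rfl]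
    push_cast
    ring
  have hsumd : ∀ ψ, X2 W₁ W₂ ψ → ∑ φ ∈ X1F W₁ W₂, d (φ * ψ) = ∑ φ ∈ X1F W₁ W₂, d φ + (Nat.card W₁ : ℤ) * d ψ := by
    intro ψ hψ
    rw [Finset.sum_congr rfl fun φ hφ => hgrid φ ψ (mem_X1F.1 hφ) hψ, Finset.sum_add_distrib, Finset.sum_const, card_X1F h.pd.self,
      nsmul_eq_mul]
  have hs : ∀ ψ, X2 W₁ W₂ ψ → ψ ≠ 1 → d ψ = d ψ₀ := by
    intro ψ h1 h2
    have e1 := (hnorm ψ h1 h2).symm.trans (hnorm ψ₀ hψ₀ hψ₀1)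
    have e2 : (c : ℤ) * c - 2 * ∑ φ ∈ X1F W₁ W₂, d (φ * ψ) = (c : ℤ) * c - 2 * ∑ φ ∈ X1F W₁ W₂, d (φ * ψ₀) := by exact_mod_cast e1
    rw [hsumd ψ h1, hsumd ψ₀ hψ₀] at e2
    have h3 : (0 : ℤ) < Nat.card W₁ := by exact_mod_cast (Nat.card_pos : 0 < Nat.card W₁)
    have h4 : (Nat.card W₁ : ℤ) * d ψ = (Nat.card W₁ : ℤ) * d ψ₀ := by linarith
    exact mul_left_cancel₀ h3.ne' h4
  -- star coefficients
  have hXex : ∀ χ, ∃ m : ℤ, χ ∈ T → classInner (De ψ₀) (τ₁ χ) = m := by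
    intro χ
    by_cases hχ : χ ∈ T
    · obtain ⟨m, hm⟩ := ci_gen_int hDg (st_gen χ hχ)
      exact ⟨m, fun _ => hm⟩
    · exact ⟨0, fun hh => absurd hh hχ⟩
  choose X hX using hXex
  have hXX : ∀ χ ∈ T, X χ = if χ = χ₀ then X χ₀ else X χ₀ + c := by
    intro χ hχ
    by_cases h3 : χ = χ₀
    · rw [if_pos h3, h3]
    · rw [if_neg h3]
      have e1 : classInner (De ψ₀) (τ₁ χ₀ - τ₁ χ) = -(c : ℂ) := by
        have k1 : classInner (etaC η ψ₀) (τ₁ χ₀ - τ₁ χ) = 0 := by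
          rw [etaC, ci_sum_left]
          exact Finset.sum_eq_zero fun φ _ => by rw [ci_sub_right, st_eta χ₀ hχ₀, st_eta χ hχ, sub_zero]
        show classInner (dadeIsometry (A0 L W₁ W₂ A) L R (be ψ₀) - etaC η ψ₀) _ = _
        rw [ci_sub_left, k1, sub_zero, st_sub χ₀ hχ₀ χ hχ, h.t_ci (IsGen.isClass (hbeg ψ₀)) (hbes ψ₀ hψ₀ hψ₀1).1
          (IsGen.isClass (sub_gen χ₀ hχ₀ χ hχ))]
        show classInner (red K μ ψ₀ - (c : ℂ) • χ₀) (χ₀ - χ) = _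
        simp only [ci_sub_left, ci_sub_right, ci_smul_left, h.Tb_red hμ hχ₀ hψ₀, h.Tb_red hμ hχ hψ₀,
          ci_irr_self (hTirr χ₀ hχ₀), ci_irr_ne (hTirr χ₀ hχ₀) (hTirr χ hχ) (Ne.symm h3)]
        ring
      rw [ci_sub_right, hX χ₀ hχ₀, hX χ hχ] at e1
      have e3 : (X χ₀ : ℤ) - X χ = -(c : ℤ) := by exact_mod_cast e1
      linarith
  set t := X χ₀ + c with ht
  obtain ⟨hb1, hb2⟩ := bes_le (T := T) (st := τ₁) (x := X) (d := d) (f := De ψ₀) h.pd.self hη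
    st_ci st_eta (hnorm ψ₀ hψ₀ hψ₀1) (fun χ hχ => hX χ hχ) hd
  have hTcard : 1 ≤ T.card := Finset.card_pos.2 ⟨χ₀, hχ₀⟩
  have hsumX : ∑ χ ∈ T, X χ * X χ = (t - c) * (t - c) + ((T.card : ℤ) - 1) * (t * t) := by
    rw [← Finset.add_sum_erase _ _ hχ₀]
    have e1 : ∀ χ ∈ T.erase χ₀, X χ * X χ = t * t := by
      intro χ hχ
      rw [hXX χ (Finset.mem_of_mem_erase hχ), if_neg (Finset.ne_of_mem_erase hχ)]
    rw [Finset.sum_congr rfl e1, Finset.sum_const, Finset.card_erase_of_mem hχ₀, nsmul_eq_mul]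
    have e2 : ((T.card - 1 : ℕ) : ℤ) = (T.card : ℤ) - 1 := by push_cast [hTcard]; ring
    rw [e2, ht]
    ring
  have hsumG : ∑ φ ∈ X1F W₁ W₂, ∑ ψ ∈ X2F W₁ W₂, d (φ * ψ) * d (φ * ψ) =
      ∑ φ ∈ X1F W₁ W₂, (d φ * d φ + ((Nat.card W₂ : ℤ) - 1) * ((d φ + d ψ₀) * (d φ + d ψ₀))) := by
    refine Finset.sum_congr rfl fun φ hφ => ?_
    have hφ' := mem_X1F.1 hφ
    rw [sumX2 h.pd.self (F := fun ψ => d (φ * ψ) * d (φ * ψ)) (c := (d φ + d ψ₀) * (d φ + d ψ₀)) (fun ψ hψ h1 => by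
      show d (φ * ψ) * d (φ * ψ) = _
      rw [hgrid φ ψ hφ' hψ, hs ψ hψ h1])]
    have : φ * (1 : ↥(W₁ ⊔ W₂) →* ℂˣ) = φ := hom_mul_one φ
    rw [this]
  have hp3 : (3 : ℤ) ≤ Nat.card W₂ := by exact_mod_cast three_W2 h.pd.toPT
  set E := ∑ φ ∈ X1F W₁ W₂, (d φ * d φ + ((Nat.card W₂ : ℤ) - 1) * ((d φ + d ψ₀) * (d φ + d ψ₀)) + 2 * (d φ + d ψ₀)) with hE
  have hE0 : 0 ≤ E := Finset.sum_nonneg fun φ _ => termB hp3
  have hEeq : E = ∑ φ ∈ X1F W₁ W₂, (d φ * d φ + ((Nat.card W₂ : ℤ) - 1) * ((d φ + d ψ₀) * (d φ + d ψ₀))) +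
      2 * ∑ φ ∈ X1F W₁ W₂, d (φ * ψ₀) := by
    rw [hE, Finset.mul_sum, ← Finset.sum_add_distrib]
    refine Finset.sum_congr rfl fun φ hφ => ?_
    rw [hgrid φ ψ₀ (mem_X1F.1 hφ) hψ₀]
  rw [hsumX, hsumG] at hb1 hb2
  obtain ⟨hE1, hm, hq⟩ := arithB (N := (T.card : ℤ)) (c := (c : ℤ)) (t := t) (E := E) (by exact_mod_cast hc1)
    (by exact_mod_cast hcount) hE0 (by rw [hEeq]; linarith)
  have hterm : ∀ φ ∈ X1F W₁ W₂, d φ = 0 ∧ ((Nat.card W₂ : ℤ) - 1) * ((d φ + d ψ₀) * (d φ + d ψ₀)) + 2 * (d φ + d ψ₀) = 0 := by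
    intro φ hφ
    exact termB0 hp3 ((Finset.sum_eq_zero_iff_of_nonneg (fun φ _ => termB hp3)).1 hE1 φ hφ)
  have hs0 : ((Nat.card W₂ : ℤ) - 1) * (d ψ₀ * d ψ₀) + 2 * d ψ₀ = 0 := by
    have := (hterm 1 one_X1F).2
    rwa [hd1, zero_add] at this
  have hfin := hb2 (by
    rw [hEeq] at hE1
    linarith)
  -- pairing with τ (μ_0 - ζ)
  have hpair : classInner (dadeIsometry (A0 L W₁ W₂ A) L R (red K μ 1 - ζ)) (dadeIsometry (A0 L W₁ W₂ A) L R (be ψ₀)) = 0 := by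
    rw [h.t_ci (IsGen.isClass (h.gen0 hμ hζ)) (h.supp0 hμ hζ).1 (IsGen.isClass (hbeg ψ₀))]
    show classInner (red K μ 1 - ζ) (red K μ ψ₀ - (c : ℂ) • χ₀) = 0
    have e1 : classInner ζ (red K μ ψ₀) = 0 := by rw [← ci_conj_symm, h.S1_red hμ hζ, map_zero]
    have e2 := red_red h.pd.toPT hμ (ψ := 1) (ψ' := ψ₀) X2_one hψ₀
    rw [if_neg hψ₀1.symm] at e2
    simp only [ci_sub_left, ci_sub_right, ci_smul_right, e1, e2, (h.Tb_red1 hμ hχ₀).1, h.Tb_S1 hμ hχ₀ hζ]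
    ring
  have e1 : dadeIsometry (A0 L W₁ W₂ A) L R (be ψ₀) = De ψ₀ + etaC η ψ₀ := by simp only [hDe]; abel
  obtain ⟨v, hv⟩ := ci_gen_int (h.t_gen (h.gen0 hμ hζ) (h.supp0 hμ hζ).1) (st_gen χ₀ hχ₀)
  have hvall : ∀ χ ∈ T, classInner (dadeIsometry (A0 L W₁ W₂ A) L R (red K μ 1 - ζ)) (τ₁ χ) = v := by
    intro χ hχ
    have k1 : classInner (dadeIsometry (A0 L W₁ W₂ A) L R (red K μ 1 - ζ)) (τ₁ χ₀ - τ₁ χ) = 0 := by
      rw [st_sub χ₀ hχ₀ χ hχ, h.t_ci (IsGen.isClass (h.gen0 hμ hζ)) (h.supp0 hμ hζ).1 (IsGen.isClass (sub_gen χ₀ hχ₀ χ hχ))]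
      simp only [ci_sub_left, ci_sub_right, (h.Tb_red1 hμ hχ₀).1, (h.Tb_red1 hμ hχ).1, h.Tb_S1 hμ hχ₀ hζ, h.Tb_S1 hμ hχ hζ]
      ring
    rw [ci_sub_right, hv] at k1
    exact (sub_eq_zero.1 k1).symm
  obtain ⟨a, ha⟩ := exists_int hη (h.t_gen (h.gen0 hμ hζ) (h.supp0 hμ hζ).1)
  have haB : ∀ φ ψ, X1 W₁ W₂ φ → X2 W₁ W₂ ψ → a (φ * ψ) = if φ = 1 then 1 else 0 := by
    intro φ ψ hφ hψ
    have k1 := hB ζ hζ φ ψ hφ hψ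
    rw [ha] at k1
    by_cases h3 : φ = 1
    · rw [if_pos h3] at k1 ⊢; exact_mod_cast k1
    · rw [if_neg h3] at k1 ⊢; exact_mod_cast k1
  have e2 : classInner (dadeIsometry (A0 L W₁ W₂ A) L R (red K μ 1 - ζ)) (etaC η ψ₀) = 1 := by
    rw [etaC, ci_sum_right, Finset.sum_eq_single 1]
    · rw [hB ζ hζ 1 ψ₀ X1_one hψ₀, if_pos rfl]
    · intro φ hφ hne
      rw [hB ζ hζ φ ψ₀ (mem_X1F.1 hφ) hψ₀, if_neg hne]
    · intro hh; exact absurd one_X1F hh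
  have e3 := ci_prj (T := T) (st := τ₁) (x := X) (d := d) (y := fun _ => v) (e := a) hvall ha
  rw [e1, ci_add_right, e2, hfin, e3] at hpair
  have e4 : ∑ χ ∈ T, v * X χ = v * ((T.card : ℤ) * t - c) := by
    rw [← Finset.mul_sum]
    congr 1
    rw [← Finset.add_sum_erase _ _ hχ₀]
    have k1 : ∀ χ ∈ T.erase χ₀, X χ = t := by
      intro χ hχ
      rw [hXX χ (Finset.mem_of_mem_erase hχ), if_neg (Finset.ne_of_mem_erase hχ)]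
    rw [Finset.sum_congr rfl k1, Finset.sum_const, Finset.card_erase_of_mem hχ₀, nsmul_eq_mul]
    have k2 : ((T.card - 1 : ℕ) : ℤ) = (T.card : ℤ) - 1 := by push_cast [hTcard]; ring
    rw [k2, ht]
    ring
  have e5 : ∑ φ ∈ X1F W₁ W₂, ∑ ψ ∈ X2F W₁ W₂, a (φ * ψ) * d (φ * ψ) = ((Nat.card W₂ : ℤ) - 1) * d ψ₀ := by
    rw [Finset.sum_eq_single 1]
    · rw [sumX2 h.pd.self (F := fun ψ => a (1 * ψ) * d (1 * ψ)) (c := d ψ₀) (fun ψ hψ h1 => by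
        show a (1 * ψ) * d (1 * ψ) = _
        rw [haB 1 ψ X1_one hψ, if_pos rfl, one_mul, hom_one_mul, hs ψ hψ h1])]
      have k1 : (1 : ↥(W₁ ⊔ W₂) →* ℂˣ) * 1 = 1 := hom_one_mul 1
      rw [k1, hd1, mul_zero, zero_add]
    · intro φ hφ hne
      apply Finset.sum_eq_zero
      intro ψ hψ
      rw [haB φ ψ (mem_X1F.1 hφ) (mem_X2F.1 hψ), if_neg hne, zero_mul]
    · intro hh; exact absurd one_X1F hh
  have hpair' : (v * ((T.card : ℤ) * t - c) + ((Nat.card W₂ : ℤ) - 1) * d ψ₀) + 1 = 0 := by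
    rw [e4, e5] at hpair
    exact_mod_cast hpair
  exact finB (p := (Nat.card W₂ : ℤ)) (c := (c : ℤ)) (v := v) (m := (T.card : ℤ) * t - c) (s := d ψ₀) hp3 (by exact_mod_cast hc1) hm hs0
    (by linarith)

end P2

end Cfsg.Agent.H2.PF11
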