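import Mathlib
import Cfsg.Agent.H2_PF11n
import Cfsg.Agent.H1_Fpf
import Cfsg.Agent.S1502

/-!
H2_PF11o: the conclusion of the character-theoretic part of Peterfalvi §11.
-/

set_option autoImplicit false
set_option linter.unusedSectionVars false
set_option linter.style.haveILetI false

namespace Cfsg.Agent.H2.PF11

open Cfsg Cfsg.Agent.H3.CharIrr Cfsg.Agent.H3.CharComplete Cfsg.Agent.H3.CharInd Cfsg.Agent.H3.CharMult
  Cfsg.Agent.H3.CharBasic Cfsg.Agent.H3.CharCalc Cfsg.Agent.H3.Clifford Cfsg.Agent.H3.CharInt Cfsg.Agent.H3.CharQuot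
  Cfsg.Agent.H10.CycTI Cfsg.Agent.H10.CycTI2 Cfsg.Agent.H10.CycTI3 Cfsg.Agent.H10.CycTI4 Cfsg.Agent.H10.PrD2
  Cfsg.Agent.H10.PrD3 Cfsg.Agent.H10.PrD4 Cfsg.Agent.H10.PrD5 Cfsg.Agent.H10.Dade Cfsg.Agent.H10.PM Cfsg.Agent.H10.Coh
  Cfsg.Agent.H10.Coh2 Cfsg.Agent.H10.Coh3 Cfsg.Agent.H10.Coh4 Cfsg.Agent.H10.IndSet2 Cfsg.Agent.H10.OOClif Cfsg.Agent.H10.PrD6
  Cfsg.Agent.H10.PrD7 Cfsg.Agent.H10.PrD8
open scoped ComplexConjugate commutatorElement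

namespace P2

variable {G : Type*} [Group G] [Fintype G] {L : Subgroup G} [Fintype L] {K N₁ N₀ : Subgroup L} [Fintype K] {W₁ W₂ : Subgroup G} {A : Set G}
  {R : G → Subgroup G} (h : P2 L K N₁ N₀ W₁ W₂ A R)
include h

/-- main conclusion -/
theorem main (hnc : ∀ Rc : (L → ℂ) → Finset (G → ℂ), IsCoherenceSystem (inducedIrrAbove K ⊥) (dadeIsometry (A0 L W₁ W₂ A) L R) Rc →
      ¬ IsCoherent (inducedIrrAbove K N₀) {1}ᶜ (dadeIsometry (A0 L W₁ W₂ A) L R)) :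
    Nat.card W₂ < Nat.card W₁ ∧ ∀ f : L → ℂˣ, Lin N₁ N₀ f → ∀ k ∈ K, (∀ n ∈ N₁, f (k * n * k⁻¹) = f n) → k ∈ N₁ := by
  obtain ⟨μ, δ, hμ⟩ := exists_MU h.pd.toPT
  obtain ⟨η, hη⟩ := Cfsg.Agent.S1502.result W₁ W₂ h.pd.self (odd_W h.pd.toPT)
  obtain ⟨ζ, hζ⟩ := h.SF_nonempty hμ
  obtain ⟨Rc, hS, -, -⟩ := Cfsg.Agent.H10.PrD7.system h.pd hμ hη (S := inducedIrrAbove K ⊥) above_indD
    ⟨ζ, SF_mono bot_le hζ⟩ (fun χ hχ => conj_mem_above hχ)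
  rcases h.cases_all hμ hη with hA | ⟨hB, hlt⟩
  · exact absurd (h.cohA hμ hη hA hS) (hnc Rc hS)
  · exact ⟨hlt, fun f hf k hk hst => h.caseB hμ hη hB hf hk hst⟩

theorem exists_sys : ∃ Rc : (L → ℂ) → Finset (G → ℂ), IsCoherenceSystem (inducedIrrAbove K ⊥) (dadeIsometry (A0 L W₁ W₂ A) L R) Rc := by
  obtain ⟨μ, δ, hμ⟩ := exists_MU h.pd.toPT
  obtain ⟨η, hη⟩ := Cfsg.Agent.S1502.result W₁ W₂ h.pd.self (odd_W h.pd.toPT)
  obtain ⟨ζ, hζ⟩ := h.SF_nonempty hμ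
  obtain ⟨Rc, hS, -, -⟩ := Cfsg.Agent.H10.PrD7.system h.pd hμ hη (S := inducedIrrAbove K ⊥) above_indD
    ⟨ζ, SF_mono bot_le hζ⟩ (fun χ hχ => conj_mem_above hχ)
  exact ⟨Rc, hS⟩

/-- free action on `N₁/N₀` -/
theorem free (hst : ∀ f : L → ℂˣ, Lin N₁ N₀ f → ∀ k ∈ K, (∀ n ∈ N₁, f (k * n * k⁻¹) = f n) → k ∈ N₁)
    {k : L} (hk : k ∈ K) (hk1 : k ∉ N₁) {n : L} (hn : n ∈ N₁) (hkn : k * n * k⁻¹ * n⁻¹ ∈ N₀) : n ∈ N₀ := by
  classical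
  by_contra hn0
  haveI := h.n1
  haveI := h.n0
  have nc : ∀ g : L, ∀ n ∈ N₁, g * n * g⁻¹ ∈ N₁ := fun g n hn => h.n1.conj_mem n hn g
  haveI hN0 : (N₀.subgroupOf N₁).Normal := inferInstance
  have hab : ∀ a b : ↥N₁ ⧸ (N₀.subgroupOf N₁), a * b = b * a := by
    intro a b
    induction a using QuotientGroup.induction_on with | H a =>
    induction b using QuotientGroup.induction_on with | H b =>
    rw [← QuotientGroup.mk_mul, ← QuotientGroup.mk_mul, QuotientGroup.eq, Subgroup.mem_subgroupOf]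
    have := h.ab1 (b : L)⁻¹ (N₁.inv_mem b.2) (a : L)⁻¹ (N₁.inv_mem a.2)
    have e : (((a * b)⁻¹ * (b * a) : ↥N₁) : L) = (b : L)⁻¹ * (a : L)⁻¹ * (b : L)⁻¹⁻¹ * (a : L)⁻¹⁻¹ := by push_cast; group
    rw [e]; exact this
  -- the endomorphism
  let c : ↥N₁ →* ↥N₁ ⧸ (N₀.subgroupOf N₁) :=
    { toFun := fun m => QuotientGroup.mk ((⟨k * m * k⁻¹, nc k m m.2⟩ : ↥N₁) * m⁻¹)
      map_one' := by
        rw [QuotientGroup.eq_one_iff]
        have : ((⟨k * (1 : ↥N₁) * k⁻¹, nc k (1 : ↥N₁) (1 : ↥N₁).2⟩ : ↥N₁) * (1 : ↥N₁)⁻¹) = 1 := by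
          apply Subtype.ext
          show k * 1 * k⁻¹ * (1 : L)⁻¹ = 1
          group
        rw [this]; exact Subgroup.one_mem _
      map_mul' := by
        intro a b
        have e1 : (⟨k * ((a * b : ↥N₁) : L) * k⁻¹, nc k _ (a * b).2⟩ : ↥N₁) = ⟨k * a * k⁻¹, nc k a a.2⟩ * ⟨k * b * k⁻¹, nc k b b.2⟩ := by
          apply Subtype.ext
          show k * ((a : L) * b) * k⁻¹ = k * a * k⁻¹ * (k * b * k⁻¹)
          group
        rw [e1, mul_inv_rev]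
        simp only [QuotientGroup.mk_mul, QuotientGroup.mk_inv]
        set x := (QuotientGroup.mk (⟨k * a * k⁻¹, nc k a a.2⟩ : ↥N₁) : ↥N₁ ⧸ (N₀.subgroupOf N₁))
        set y := (QuotientGroup.mk (⟨k * b * k⁻¹, nc k b b.2⟩ : ↥N₁) : ↥N₁ ⧸ (N₀.subgroupOf N₁))
        set z := (QuotientGroup.mk a : ↥N₁ ⧸ (N₀.subgroupOf N₁))
        set w := (QuotientGroup.mk b : ↥N₁ ⧸ (N₀.subgroupOf N₁))
        calc x * y * (w⁻¹ * z⁻¹) = x * ((y * w⁻¹) * z⁻¹) := by group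
          _ = x * (z⁻¹ * (y * w⁻¹)) := by rw [hab (y * w⁻¹) z⁻¹]
          _ = x * z⁻¹ * (y * w⁻¹) := by group }
  have hc0 : ∀ m : ↥N₁, (m : L) ∈ N₀ → c m = 1 := by
    intro m hm
    show (QuotientGroup.mk ((⟨k * m * k⁻¹, nc k m m.2⟩ : ↥N₁) * m⁻¹) : ↥N₁ ⧸ (N₀.subgroupOf N₁)) = 1
    rw [QuotientGroup.eq_one_iff, Subgroup.mem_subgroupOf]
    exact N₀.mul_mem (h.n0.conj_mem _ hm k) (N₀.inv_mem hm)
  let cb : (↥N₁ ⧸ (N₀.subgroupOf N₁)) →* (↥N₁ ⧸ (N₀.subgroupOf N₁)) := QuotientGroup.lift _ c (fun m hm => hc0 m (Subgroup.mem_subgroupOf.1 hm))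
  haveI : Finite (↥N₁ ⧸ (N₀.subgroupOf N₁)) := inferInstance
  have hninj : ¬ Function.Injective cb := by
    intro hinj
    have h1 : cb (QuotientGroup.mk (⟨n, hn⟩ : ↥N₁)) = cb 1 := by
      rw [map_one]
      show (QuotientGroup.mk ((⟨k * n * k⁻¹, nc k n hn⟩ : ↥N₁) * (⟨n, hn⟩ : ↥N₁)⁻¹) : ↥N₁ ⧸ (N₀.subgroupOf N₁)) = 1
      rw [QuotientGroup.eq_one_iff, Subgroup.mem_subgroupOf]
      exact hkn
    have h2 := hinj h1
    rw [QuotientGroup.eq_one_iff, Subgroup.mem_subgroupOf] at h2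
    exact hn0 h2
  have hnsurj : ¬ Function.Surjective cb := fun hs => hninj (Finite.injective_iff_surjective.2 hs)
  obtain ⟨g, hg⟩ : ∃ g, g ∉ cb.range := by
    by_contra hcon
    push Not at hcon
    exact hnsurj fun g => hcon g
  haveI hrn : cb.range.Normal := ⟨fun x hx y => by rw [hab y x, mul_inv_cancel_right]; exact hx⟩
  have hab2 : ∀ a b : (↥N₁ ⧸ (N₀.subgroupOf N₁)) ⧸ cb.range, a * b = b * a := by
    intro a b
    induction a using QuotientGroup.induction_on with | H a =>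
    induction b using QuotientGroup.induction_on with | H b =>
    rw [← QuotientGroup.mk_mul, ← QuotientGroup.mk_mul, hab]
  haveI := Fintype.ofFinite ((↥N₁ ⧸ (N₀.subgroupOf N₁)) ⧸ cb.range)
  obtain ⟨ω, hω⟩ := Cfsg.Agent.H10.TypeP.exists_hom_ne hab2 (g := QuotientGroup.mk g) (fun he => hg ((QuotientGroup.eq_one_iff g).1 he))
  let F : ↥N₁ →* ℂˣ := (ω.comp (QuotientGroup.mk' cb.range)).comp (QuotientGroup.mk' _)
  have hF : ∀ m : ↥N₁, F m = ω (QuotientGroup.mk (QuotientGroup.mk m)) := fun m => rfl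
  let f : L → ℂˣ := fun m => if hm : m ∈ N₁ then F ⟨m, hm⟩ else 1
  have hf : ∀ m (hm : m ∈ N₁), f m = F ⟨m, hm⟩ := fun m hm => dif_pos hm
  have hlin : Lin N₁ N₀ f := by
    refine ⟨fun x hx y hy => ?_, fun x hx => ?_, ?_⟩
    · rw [hf _ hx, hf _ hy, hf _ (N₁.mul_mem hx hy), ← map_mul]; rfl
    · rw [hf _ (h.le0 hx), hF]
      have : (QuotientGroup.mk (⟨x, h.le0 hx⟩ : ↥N₁) : ↥N₁ ⧸ (N₀.subgroupOf N₁)) = 1 := by
        rw [QuotientGroup.eq_one_iff, Subgroup.mem_subgroupOf]; exact hx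
      rw [this, QuotientGroup.mk_one, map_one]
    · obtain ⟨m, rfl⟩ := QuotientGroup.mk_surjective g
      exact ⟨m, m.2, by rw [hf _ m.2]; exact hω⟩
  apply hk1
  refine hst f hlin k hk fun m hm => ?_
  have e1 : f (k * m * k⁻¹) = f (k * m * k⁻¹ * m⁻¹) * f m := by
    rw [← hlin.mul _ (N₁.mul_mem (nc k m hm) (N₁.inv_mem hm)) _ hm]
    congr 1; group
  have e2 : f (k * m * k⁻¹ * m⁻¹) = 1 := by
    rw [hf _ (N₁.mul_mem (nc k m hm) (N₁.inv_mem hm)), hF]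
    have e3 : (QuotientGroup.mk (⟨k * m * k⁻¹ * m⁻¹, N₁.mul_mem (nc k m hm) (N₁.inv_mem hm)⟩ : ↥N₁) : ↥N₁ ⧸ (N₀.subgroupOf N₁)) =
        cb (QuotientGroup.mk ⟨m, hm⟩) := rfl
    rw [e3]
    have e4 : (QuotientGroup.mk (cb (QuotientGroup.mk ⟨m, hm⟩)) : (↥N₁ ⧸ (N₀.subgroupOf N₁)) ⧸ cb.range) = 1 := by
      rw [QuotientGroup.eq_one_iff]; exact ⟨_, rfl⟩
    rw [e4, map_one]
  rw [e1, e2, one_mul]

/-- the complement is cyclic modulo `N₀` -/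
theorem cyc (hfree : ∀ k ∈ K, k ∉ N₁ → ∀ n ∈ N₁, k * n * k⁻¹ * n⁻¹ ∈ N₀ → n ∈ N₀) {U : Subgroup L} (hU1 : U ≤ K) (hU2 : N₁ ⊓ U ≤ N₀)
    [hn : N₀.Normal] : IsCyclic (U.map (QuotientGroup.mk' N₀)) := by
  haveI := h.n1
  haveI c1 : IsMulCommutative ↥(N₁.map (QuotientGroup.mk' N₀)) := by
    refine ⟨⟨?_⟩⟩
    rintro ⟨_, a, ha, rfl⟩ ⟨_, b, hb, rfl⟩
    apply Subtype.ext
    show (QuotientGroup.mk a : L ⧸ N₀) * QuotientGroup.mk b = QuotientGroup.mk b * QuotientGroup.mk a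
    rw [← QuotientGroup.mk_mul, ← QuotientGroup.mk_mul, QuotientGroup.eq]
    have := h.ab1 b⁻¹ (N₁.inv_mem hb) a⁻¹ (N₁.inv_mem ha)
    have e : (a * b)⁻¹ * (b * a) = b⁻¹ * a⁻¹ * b⁻¹⁻¹ * a⁻¹⁻¹ := by group
    rw [e]; exact this
  haveI c2 : IsMulCommutative ↥(U.map (QuotientGroup.mk' N₀)) := by
    refine ⟨⟨?_⟩⟩
    rintro ⟨_, a, ha, rfl⟩ ⟨_, b, hb, rfl⟩
    apply Subtype.ext
    show (QuotientGroup.mk a : L ⧸ N₀) * QuotientGroup.mk b = QuotientGroup.mk b * QuotientGroup.mk a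
    rw [← QuotientGroup.mk_mul, ← QuotientGroup.mk_mul, QuotientGroup.eq]
    have h1 := h.abK b⁻¹ (K.inv_mem (hU1 hb)) a⁻¹ (K.inv_mem (hU1 ha))
    have e : (a * b)⁻¹ * (b * a) = b⁻¹ * a⁻¹ * b⁻¹⁻¹ * a⁻¹⁻¹ := by group
    rw [e]
    exact hU2 ⟨h1, U.mul_mem (U.mul_mem (U.mul_mem (U.inv_mem hb) (U.inv_mem ha)) (U.inv_mem (U.inv_mem hb))) (U.inv_mem (U.inv_mem ha))⟩
  apply Cfsg.Agent.H1.Fpf.isCyclic_of_fpf_comm (U.map (QuotientGroup.mk' N₀)) (N₁.map (QuotientGroup.mk' N₀))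
  · intro hb
    rw [Subgroup.map_eq_bot_iff, QuotientGroup.ker_mk'] at hb
    obtain ⟨⟨a, ha⟩, ha1⟩ := Subgroup.ne_bot_iff_exists_ne_one.1 h.pd.self.2.1
    apply ha1
    have h1 := h.W2N0 ⟨a, h.pd.W₂_le ha⟩ ha (hb (h.W2N ⟨a, h.pd.W₂_le ha⟩ ha))
    apply Subtype.ext
    have h9 := congrArg Subtype.val h1
    exact h9
  · have : (N₁.map (QuotientGroup.mk' N₀)).Normal := h.n1.map _ (QuotientGroup.mk'_surjective _)
    rw [Subgroup.normalizer_eq_top_iff.2 this]; exact le_top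
  · rintro _ ⟨a, ha, rfl⟩ ha1
    have haN : a ∉ N₁ := by
      intro hc
      apply ha1
      show (QuotientGroup.mk a : L ⧸ N₀) = 1
      rw [QuotientGroup.eq_one_iff]
      exact hU2 ⟨hc, ha⟩
    rw [eq_bot_iff]
    rintro _ ⟨⟨n, hn, rfl⟩, hc⟩
    have hc2 : (QuotientGroup.mk' N₀) n ∈ Subgroup.centralizer ({(QuotientGroup.mk' N₀) a} : Set (L ⧸ N₀)) := hc
    rw [Subgroup.mem_centralizer_singleton_iff] at hc2
    rw [Subgroup.mem_bot]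
    show (QuotientGroup.mk n : L ⧸ N₀) = 1
    rw [QuotientGroup.eq_one_iff]
    apply hfree a (hU1 ha) haN n hn
    have hc' : (QuotientGroup.mk n : L ⧸ N₀) * QuotientGroup.mk a = QuotientGroup.mk a * QuotientGroup.mk n := hc2
    rw [← QuotientGroup.mk_mul, ← QuotientGroup.mk_mul, QuotientGroup.eq] at hc'
    have h2 := h.n0.conj_mem _ hc' (n * a)
    have e : n * a * ((n * a)⁻¹ * (a * n)) * (n * a)⁻¹ = a * n * a⁻¹ * n⁻¹ := by group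
    rwa [e] at h2

end P2

end Cfsg.Agent.H2.PF11
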