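import Mathlib
import Cfsg.Agent.H2_PF11b
import Cfsg.Agent.H2_PF11o
import Cfsg.Agent.H1_PG8c
import Cfsg.Agent.H1_FratFit
import Cfsg.Agent.H10_CohI3

/-!
H2_PF11p: maximal subgroups of type III or IV satisfy the configuration of the character-theoretic part.
-/

set_option autoImplicit false
set_option linter.unusedSectionVars false
set_option linter.style.haveILetI false

open Pointwise
open scoped commutatorElement

universe u

namespace Cfsg.Agent.H2.PF11

open Cfsg Subgroup H13.Syl H12.Loc H12.BG7 H12.BG10 H12.BG11 H12.BG12 H2.Con13 H2.BG14 H2.Ty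
open H12.BG1212

variable {G : Type u} [Group G] [Finite G]

/-- a group of prime order acting without fixed points -/
theorem modEq_one' {W A : Subgroup G} (hW : (Nat.card W).Prime) (hn : W ≤ normalizer (A : Set G))
    (hfix : ∀ w ∈ W, w ≠ 1 → ∀ a ∈ A, w * a = a * w → a = 1) : Nat.card A ≡ 1 [MOD Nat.card W] := by
  classical
  haveI := Fact.mk hW
  letI : MulAction W A :=
    { smul := fun w a => ⟨w * a * (w : G)⁻¹, (mem_normalizer_iff.1 (hn w.2) a).1 a.2⟩
      one_smul := fun a => Subtype.ext (by show ((1 : W) : G) * a * ((1 : W) : G)⁻¹ = a; simp)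
      mul_smul := fun x y a => Subtype.ext (by
        show ((x * y : W) : G) * a * ((x * y : W) : G)⁻¹ = x * (y * a * (y : G)⁻¹) * (x : G)⁻¹
        rw [Subgroup.coe_mul]; group) }
  have hpg : IsPGroup (Nat.card W) W := IsPGroup.of_card (n := 1) (by rw [pow_one])
  have h1 := hpg.card_modEq_card_fixedPoints A
  obtain ⟨w, hw⟩ : ∃ w : W, w ≠ 1 := by
    haveI : Nontrivial W := Finite.one_lt_card_iff_nontrivial.1 hW.one_lt
    exact exists_ne 1
  have h2 : Nat.card (MulAction.fixedPoints W A) = 1 := by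
    rw [Nat.card_eq_one_iff_unique]
    refine ⟨⟨?_⟩, ⟨⟨1, fun w => Subtype.ext (by show (w : G) * ((1 : A) : G) * (w : G)⁻¹ = 1; simp)⟩⟩⟩
    have key : ∀ a : A, a ∈ MulAction.fixedPoints W A → a = 1 := by
      intro a ha
      have h3 : (w : G) * a * (w : G)⁻¹ = a := congrArg Subtype.val (ha w)
      rw [mul_inv_eq_iff_eq_mul] at h3
      exact Subtype.ext (hfix w w.2 (fun h => hw (Subtype.ext h)) a a.2 h3)
    rintro ⟨a, ha⟩ ⟨b, hb⟩
    exact Subtype.ext ((key a ha).trans (key b hb).symm)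
  rwa [h2] at h1

namespace T34

variable {M W₁ U W₂ : Subgroup G}

/-- `u = |U : C_U(H)|` is at least `2q + 1` -/
theorem u_ge (h : T34 M W₁ U W₂) : 2 * Nat.card W₁ < (CU M U).relIndex U := by
  have hCU : CU M U ≤ U := inf_le_left
  have e1 := modEq_one' h.q (fun w hw => h.UWU (mem_sup_right hw)) (fun w hw hw1 a ha hc => h.hfpf w hw hw1 a ha hc)
  have e2 : Nat.card (CU M U) ≡ 1 [MOD Nat.card W₁] := modEq_one' h.q (fun w hw => h.M_CU (h.W₁M hw))
    (fun w hw hw1 a ha hc => h.hfpf w hw hw1 a (hCU ha) hc)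
  have e3 : Nat.card (CU M U) * (CU M U).relIndex U = Nat.card U := by
    have := Subgroup.relIndex_mul_relIndex ⊥ (CU M U) U bot_le hCU
    rwa [Subgroup.relIndex_bot_left, Subgroup.relIndex_bot_left] at this
  have e4 : (CU M U).relIndex U ≡ 1 [MOD Nat.card W₁] := by
    have h1 : Nat.card (CU M U) * (CU M U).relIndex U ≡ 1 * (CU M U).relIndex U [MOD Nat.card W₁] := e2.mul_right _
    rw [e3, one_mul] at h1
    exact h1.symm.trans e1
  have h1 := h.u_gt
  have h2 := (Cfsg.Agent.H10.CohI3.arith_ge e4 (by omega) (by omega)).2 (h.odd_sub W₁) (by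
    have := h.odd_sub U
    rw [← e3] at this
    exact (Nat.odd_mul.1 this).2)
  omega

theorem HF (h : T34 M W₁ U W₂) : fittingHallOf M ≤ fittingOf M := by rw [h.F_eq]; exact le_sup_left

theorem FU (h : T34 M W₁ U W₂) : fittingOf M ⊓ U = CU M U := by
  apply le_antisymm
  · rintro x ⟨hx, hxU⟩
    rw [h.F_eq] at hx
    have hn : ∀ k ∈ CU M U, ∀ y ∈ fittingHallOf M, k * y * k⁻¹ ∈ fittingHallOf M := by
      intro k hk y hy
      have := (h.CU_H hk) y hy
      rw [← this, mul_inv_cancel_right]; exact hy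
    obtain ⟨y, hy, c, hc, rfl⟩ := Cfsg.Agent.H10.Dade.mem_sup_of_norm hn hx
    have hcU : c ∈ U := hc.1
    have hyU : y ∈ U := by
      have := U.mul_mem hxU (U.inv_mem hcU)
      rwa [mul_inv_cancel_right] at this
    have : y ∈ fittingHallOf M ⊓ U := ⟨hy, hyU⟩
    rw [h.HU_bot, Subgroup.mem_bot] at this
    rw [this, one_mul]; exact hc
  · intro x hx
    exact ⟨by rw [h.F_eq]; exact mem_sup_right hx, hx.1⟩

theorem HN0 (h : T34 M W₁ U W₂) : fittingHallOf M ⊓ N0 M U = H0 M U := by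
  apply le_antisymm
  · rintro x ⟨hx, hx0⟩
    have hn : ∀ k ∈ CU M U, ∀ y ∈ H0 M U, k * y * k⁻¹ ∈ H0 M U := by
      intro k hk y hy
      have := (h.CU_H hk) y hy.1
      rw [← this, mul_inv_cancel_right]; exact hy
    obtain ⟨y, hy, c, hc, rfl⟩ := Cfsg.Agent.H10.Dade.mem_sup_of_norm hn hx0
    have hcH : c ∈ fittingHallOf M := by
      have := (fittingHallOf M).mul_mem ((fittingHallOf M).inv_mem hy.1) hx
      rwa [inv_mul_cancel_left] at this
    have : c ∈ fittingHallOf M ⊓ U := ⟨hcH, hc.1⟩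
    rw [h.HU_bot, Subgroup.mem_bot] at this
    rw [this, mul_one]; exact hy
  · intro x hx
    exact ⟨hx.1, mem_sup_left hx⟩

/-- elements of `M'` -/
theorem dec' (h : T34 M W₁ U W₂) {k : G} (hk : k ∈ ⁅M, M⁆) : ∃ x ∈ fittingHallOf M, ∃ v ∈ U, x * v = k := by
  rw [← h.sup_HU] at hk
  exact Cfsg.Agent.H10.Dade.mem_sup_of_norm (fun u hu y hy => (mem_normalizer_iff.1 (h.UWH (mem_sup_left hu)) y).1 hy) hk

/-- an element of `U` centralizing `H/H₀` centralizes `H` -/
theorem cent_of (h : T34 M W₁ U W₂) {v : G} (hv : v ∈ U) (hc : ∀ x ∈ fittingHallOf M, v * x * v⁻¹ * x⁻¹ ∈ H0 M U) : v ∈ CU M U := by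
  refine ⟨hv, ?_⟩
  show v ∈ centralizer (fittingHallOf M : Set G)
  rw [mem_centralizer_iff]
  intro x hx
  set c := v * x * v⁻¹ * x⁻¹ with hcdef
  have hcH := hc x hx
  have hcv : v * c = c * v := (hcH.2 v hv)
  have key : ∀ n : ℕ, v ^ n * x * (v ^ n)⁻¹ = c ^ n * x := by
    intro n
    induction n with
    | zero => simp
    | succ n ih =>
      have e1 : v ^ (n + 1) * x * (v ^ (n + 1))⁻¹ = v * (v ^ n * x * (v ^ n)⁻¹) * v⁻¹ := by rw [pow_succ']; group
      have e2 : v * c ^ n = c ^ n * v := (show Commute v c from hcv).pow_right n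
      rw [e1, ih]
      calc v * (c ^ n * x) * v⁻¹ = (v * c ^ n) * x * v⁻¹ := by group
        _ = c ^ n * (v * x * v⁻¹) := by rw [e2]; group
        _ = c ^ n * (c * x) := by rw [hcdef]; group
        _ = c ^ (n + 1) * x := by rw [pow_succ]; group
  have h1 := key (orderOf v)
  rw [pow_orderOf_eq_one, one_mul, inv_one, mul_one] at h1
  have h2 : c ^ orderOf v = 1 := by
    have := h1.symm
    rwa [mul_eq_right] at this
  have h3 : orderOf c ∣ Nat.card (fittingHallOf M) := by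
    have := orderOf_dvd_natCard (⟨c, hcH.1⟩ : fittingHallOf M)
    rwa [Subgroup.orderOf_mk] at this
  have h4 : orderOf c ∣ Nat.card ↥(U ⊔ W₁) := by
    refine (orderOf_dvd_of_pow_eq_one h2).trans ?_
    have := orderOf_dvd_natCard (⟨v, mem_sup_left hv⟩ : ↥(U ⊔ W₁))
    rwa [Subgroup.orderOf_mk] at this
  have h5 := Nat.dvd_gcd h3 h4
  rw [Nat.coprime_iff_gcd_eq_one.1 h.copHUW, Nat.dvd_one, orderOf_eq_one_iff] at h5
  rw [hcdef, mul_inv_eq_one, mul_inv_eq_iff_eq_mul] at h5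
  exact h5.symm

theorem M'M (_h : T34 M W₁ U W₂) : ⁅M, M⁆ ≤ M := Subgroup.commutator_le_self M

/-- the configuration -/
theorem conf (hG : IsMinSimpleOddOrder G) (h : T34 M W₁ U W₂) (hd2 : ⁅⁅M, M⁆, ⁅M, M⁆⁆ = fittingOf M) :
    P2 M (KK M) ((fittingOf M).subgroupOf M) ((N0 M U).subgroupOf M) W₁ W₂ (Cfsg.Agent.H12.Ty.tA M) (supportR M) := by
  have hnF : ∀ m ∈ M, ∀ x ∈ fittingOf M, m * x * m⁻¹ ∈ fittingOf M := fun m hm x hx => (mem_normalizer_iff.1 (h.M_F hm) x).1 hx
  have hHn : ∀ m ∈ M, ∀ x ∈ fittingHallOf M, m * x * m⁻¹ ∈ fittingHallOf M := by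
    intro m hm x hx
    have : M ≤ normalizer (fittingHallOf M : Set G) := by
      conv_lhs => rw [← h.M_eq]
      exact sup_le le_normalizer h.UWH
    exact (mem_normalizer_iff.1 (this hm) x).1 hx
  have hcomm' : ∀ x ∈ ⁅M, M⁆, ∀ y ∈ ⁅M, M⁆, x * y * x⁻¹ * y⁻¹ ∈ fittingOf M := by
    intro x hx y hy
    rw [← hd2, ← commutatorElement_def]
    exact Subgroup.commutator_mem_commutator hx hy
  refine
    { pd := ?_
      q := h.q
      p := h.p
      n1 := norm_of h.M_F
      n0 := norm_of h.M_N0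
      le0 := fun x hx => h.N0_le_F hx
      le1 := fun x hx => h.F_le hx
      hu := ?_
      abK := fun x hx y hy => hcomm' x hx y hy
      ab1 := fun x hx y hy => h.comm_FN0 (by
        have := Subgroup.commutator_mem_commutator (H₁ := fittingOf M) (H₂ := fittingOf M) hx hy
        rw [commutatorElement_def] at this
        exact this)
      irr := ?_
      W2N := fun w hw => h.HF (h.W₂H hw)
      W2N0 := ?_
      frob := ?_
      cent := ?_
      cpl := ?_
      sol := h.solvK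
      Apow := ?_ }
  · have := Cfsg.Agent.H1.PG8.pd_core hG h.co h.pw
    rw [typeCore, if_pos h.ty] at this
    exact this
  · have e1 := relIndex_sub (M := M) (A := fittingOf M) (B := ⁅M, M⁆) h.M'M
    rw [e1, h.relF]; exact h.u_ge
  · intro N hN h0 h1
    have hD0 : H0 M U ≤ N.map M.subtype ⊓ fittingHallOf M := by
      intro x hx
      have hxM : x ∈ M := h.M'M (h.F_le (h.HF hx.1))
      exact ⟨⟨⟨x, hxM⟩, h0 (show x ∈ N0 M U from mem_sup_left hx), rfl⟩, hx.1⟩
    have hDn : U ⊔ W₁ ≤ normalizer ((N.map M.subtype ⊓ fittingHallOf M : Subgroup G) : Set G) := by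
      have hc : ∀ g ∈ U ⊔ W₁, ∀ x ∈ N.map M.subtype ⊓ fittingHallOf M, g * x * g⁻¹ ∈ N.map M.subtype ⊓ fittingHallOf M := by
        rintro g hg x ⟨⟨n, hn, rfl⟩, hx⟩
        have hgM := h.UWM hg
        exact ⟨⟨⟨g, hgM⟩ * n * ⟨g, hgM⟩⁻¹, hN.conj_mem n hn _, rfl⟩, hHn g hgM _ hx⟩
      intro g hg
      rw [mem_normalizer_iff]
      intro x
      refine ⟨hc g hg x, fun hx => ?_⟩
      have := hc g⁻¹ (inv_mem hg) _ hx
      have e : g⁻¹ * (g * x * g⁻¹) * g⁻¹⁻¹ = x := by group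
      rwa [e] at this
    rcases eq_or_lt_of_le (inf_le_right : N.map M.subtype ⊓ fittingHallOf M ≤ fittingHallOf M) with hD | hD
    · right
      apply le_antisymm h1
      intro x hx
      have hx' : (x : G) ∈ fittingOf M := hx
      rw [h.F_eq] at hx'
      have hle : fittingHallOf M ⊔ CU M U ≤ N.map M.subtype := by
        refine sup_le (by rw [← hD]; exact inf_le_left) ?_
        intro c hc
        have hcM : c ∈ M := h.UM hc.1
        exact ⟨⟨c, hcM⟩, h0 (show c ∈ N0 M U from mem_sup_right hc), rfl⟩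
      obtain ⟨n, hn, e⟩ := hle hx'
      have : n = x := Subtype.ext e
      rw [← this]; exact hn
    · left
      have hDe := h.irr hD0 hD hDn
      apply le_antisymm _ h0
      intro x hx
      have hx' : (x : G) ∈ fittingOf M := h1 hx
      rw [h.F_eq] at hx'
      have hn : ∀ k ∈ CU M U, ∀ y ∈ fittingHallOf M, k * y * k⁻¹ ∈ fittingHallOf M := fun k hk y hy => hHn k (h.UM hk.1) y hy
      obtain ⟨y, hy, c, hc, e⟩ := Cfsg.Agent.H10.Dade.mem_sup_of_norm hn hx'
      have hcM : c ∈ M := h.UM hc.1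
      have hcN : (⟨c, hcM⟩ : M) ∈ N := h0 (show c ∈ N0 M U from mem_sup_right hc)
      have hyM : y ∈ M := h.M'M (h.F_le (h.HF hy))
      have hyN : (⟨y, hyM⟩ : M) ∈ N := by
        have e2 : (⟨y, hyM⟩ : M) = x * (⟨c, hcM⟩ : M)⁻¹ := by
          apply Subtype.ext
          show y = (x : G) * c⁻¹
          rw [← e, mul_inv_cancel_right]
        rw [e2]; exact N.mul_mem hx (N.inv_mem hcN)
      have hyD : y ∈ H0 M U := by rw [← hDe]; exact ⟨⟨_, hyN, rfl⟩, hy⟩
      show (x : G) ∈ N0 M U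
      rw [← e]
      exact mul_mem (mem_sup_left hyD) (mem_sup_right hc)
  · intro w hw hw0
    have h1 : (w : G) ∈ H0 M U := by rw [← h.HN0]; exact ⟨h.W₂H hw, hw0⟩
    have h2 : (w : G) ∈ fittingHallOf M ⊓ centralizer (W₁ : Set G) := by rw [h.HW]; exact hw
    have h3 : (w : G) ∈ fittingHallOf M ⊓ centralizer ((U ⊔ W₁ : Subgroup G) : Set G) := by
      refine ⟨h1.1, ?_⟩
      have h4 : U ⊔ W₁ ≤ centralizer ({(w : G)} : Set G) := by
        refine sup_le (fun g hg => ?_) (fun g hg => ?_)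
        · rw [mem_centralizer_singleton_iff]; exact h1.2 g hg
        · rw [mem_centralizer_singleton_iff]; exact h2.2 g hg
      intro g hg
      have := h4 hg
      rw [mem_centralizer_singleton_iff] at this
      exact this
    rw [h.cHUW, Subgroup.mem_bot] at h3
    exact Subtype.ext h3
  · intro x hx k hk hxk
    have hxM : (x : G) ∈ ⁅M, M⁆ ⊔ W₁ := by rw [h.sup_M]; exact x.2
    have hn : ∀ b ∈ W₁, ∀ y ∈ ⁅M, M⁆, b * y * b⁻¹ ∈ ⁅M, M⁆ := fun b hb y hy =>
      (KK_normal M).conj_mem (⟨y, h.M'M hy⟩ : M) hy ⟨b, h.W₁M hb⟩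
    obtain ⟨m, hm, b, hb, e⟩ := Cfsg.Agent.H10.Dade.mem_sup_of_norm hn hxM
    have hb1 : b ≠ 1 := by
      rintro rfl
      apply hx
      show (x : G) ∈ ⁅M, M⁆
      rw [← e, mul_one]; exact hm
    have hk' : (k : G) ∈ ⁅M, M⁆ := hk
    have hbk := hn b hb k hk'
    have h1 : (x : G) * k * (x : G)⁻¹ * (k : G)⁻¹ ∈ fittingOf M := hxk
    have h2 := hcomm' m hm _ hbk
    have h3 : b * k * b⁻¹ * (k : G)⁻¹ ∈ fittingOf M := by
      have e3 : b * k * b⁻¹ * (k : G)⁻¹ = (m * (b * k * b⁻¹) * m⁻¹ * (b * k * b⁻¹)⁻¹)⁻¹ * ((x : G) * k * (x : G)⁻¹ * (k : G)⁻¹) := by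
        rw [← e]; group
      rw [e3]; exact mul_mem (inv_mem h2) h1
    rw [← hd2] at h3
    have h4 := h.mem_comm_of_cent hk' hb hb1 h3
    rw [hd2] at h4
    exact h4
  · intro k hk hc
    obtain ⟨y, hy, v, hv, e⟩ := h.dec' (show (k : G) ∈ ⁅M, M⁆ from hk)
    have hvC : v ∈ CU M U := by
      apply h.cent_of hv
      intro x hx
      have hvM : v ∈ M := h.UM hv
      have hvx : v * x * v⁻¹ ∈ fittingHallOf M := hHn v hvM x hx
      have hxM : x ∈ M := h.M'M (h.F_le (h.HF hx))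
      have h1 : (k : G) * x * (k : G)⁻¹ * x⁻¹ ∈ N0 M U := hc ⟨x, hxM⟩ (h.HF hx)
      have h2 : y * (v * x * v⁻¹) * y⁻¹ * (v * x * v⁻¹)⁻¹ ∈ H0 M U := by
        apply h.comm_H
        rw [← commutatorElement_def]
        exact Subgroup.commutator_mem_commutator hy hvx
      rw [← h.HN0]
      refine ⟨(fittingHallOf M).mul_mem hvx ((fittingHallOf M).inv_mem hx), ?_⟩
      have e3 : v * x * v⁻¹ * x⁻¹ = (y * (v * x * v⁻¹) * y⁻¹ * (v * x * v⁻¹)⁻¹)⁻¹ * ((k : G) * x * (k : G)⁻¹ * x⁻¹) := by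
        rw [← e]; group
      rw [e3]
      exact (N0 M U).mul_mem ((N0 M U).inv_mem (mem_sup_left h2)) h1
    show (k : G) ∈ fittingOf M
    rw [← e, h.F_eq]
    exact mul_mem (mem_sup_left hy) (mem_sup_right hvC)
  · refine ⟨U.subgroupOf M, ?_, ?_⟩
    · rw [← Subgroup.subgroupOf_sup (h.F_le.trans h.M'M) h.UM]
      congr 1
      apply le_antisymm
      · exact sup_le h.F_le (by rw [← h.sup_HU]; exact le_sup_right)
      · rw [← h.sup_HU]; exact sup_le_sup_right h.HF _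
    · rintro x ⟨hx1, hx2⟩
      have : (x : G) ∈ fittingOf M ⊓ U := ⟨hx1, hx2⟩
      rw [h.FU] at this
      exact show (x : G) ∈ N0 M U from mem_sup_right this
  · have hnI := Cfsg.Agent.H1.PG8.not_TyI_of_P hG h.co h.pw
    intro a ha t ht
    rw [Cfsg.Agent.H12.Ty.tA, if_neg hnI] at ha ⊢
    obtain ⟨h1, h2, x, hx, hx1, hax⟩ := ha
    obtain ⟨s, -, hs, -⟩ := exists_inv_exp ht
    refine ⟨pow_mem h1 t, fun hc => h2 ?_, x, hx, hx1, (show Commute a x from hax).pow_left t⟩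
    rw [← hs a, hc, one_pow]

end T34

end Cfsg.Agent.H2.PF11
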