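import Mathlib
import Cfsg.Agent.H2_PF11p
import Cfsg.Agent.H12_PF11z
import Cfsg.Agent.H10_PrF7

/-!
H2_PF11: Peterfalvi §11 — maximal subgroups of types III and IV: `U` is cyclic, `M_F` is elementary abelian of order
`p ^ q` with `p < q`, and `U` acts freely on it.
-/

set_option autoImplicit false
set_option linter.unusedSectionVars false
set_option linter.style.haveILetI false

open Pointwise
open scoped commutatorElement

universe u

namespace Cfsg.Agent.H2.PF11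

open Cfsg Subgroup

/-- a nilpotent group generated by an element modulo its commutator subgroup -/
theorem gen_of_commutator {G : Type*} [Group G] [Finite G] [Group.IsNilpotent G] {g : G}
    (h : ∀ x : G, ∃ n : ℤ, g ^ n * x ∈ commutator G) : ∀ x : G, x ∈ Subgroup.zpowers g := by
  have h1 : Subgroup.zpowers g ⊔ frattini G = ⊤ := by
    rw [eq_top_iff]
    intro x _
    obtain ⟨n, hn⟩ := h x
    have e : x = (g ^ n)⁻¹ * (g ^ n * x) := by group
    rw [e]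
    exact Subgroup.mul_mem _ (Subgroup.mem_sup_left (Subgroup.inv_mem _ (Subgroup.zpow_mem _ (Subgroup.mem_zpowers g) n)))
      (Subgroup.mem_sup_right (H1.FratFit.commutator_le_frattini_of_nilpotent hn))
  have h2 := frattini_nongenerating h1
  intro x
  rw [h2]; trivial

namespace T34

variable {G : Type u} [Group G] [Finite G] {M W₁ U W₂ : Subgroup G}

/-- `M''` is contained in `H U'` -/
theorem der2_le (h : T34 M W₁ U W₂) : ⁅⁅M, M⁆, ⁅M, M⁆⁆ ≤ fittingHallOf M ⊔ ⁅U, U⁆ := by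
  have hUH : ∀ u ∈ U, ∀ y ∈ fittingHallOf M, u * y * u⁻¹ ∈ fittingHallOf M := fun u hu y hy =>
    (mem_normalizer_iff.1 (h.UWH (mem_sup_left hu)) y).1 hy
  rw [Subgroup.commutator_le]
  intro x hx y hy
  obtain ⟨a, ha, u, hu, rfl⟩ := h.dec' hx
  obtain ⟨b, hb, v, hv, rfl⟩ := h.dec' hy
  have e : ⁅a * u, b * v⁆ = a * (u * b * u⁻¹) * (u * v * u⁻¹ * v⁻¹) * (v * a⁻¹ * v⁻¹) * b⁻¹ := by
    rw [commutatorElement_def]; group
  rw [e]
  refine mul_mem (mul_mem (mul_mem (mul_mem (mem_sup_left ha) (mem_sup_left (hUH u hu b hb))) (mem_sup_right ?_))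
    (mem_sup_left (hUH v hv _ (inv_mem ha)))) (mem_sup_left (inv_mem hb))
  have := Subgroup.commutator_mem_commutator hu hv
  rwa [commutatorElement_def] at this

/-- `C_U(H) = U'` -/
theorem CU_le_der (h : T34 M W₁ U W₂) (hd2 : ⁅⁅M, M⁆, ⁅M, M⁆⁆ = fittingOf M) : CU M U ≤ ⁅U, U⁆ := by
  intro c hc
  have h1 : c ∈ fittingOf M := by rw [h.F_eq]; exact mem_sup_right hc
  rw [← hd2] at h1
  have hn : ∀ k ∈ ⁅U, U⁆, ∀ y ∈ fittingHallOf M, k * y * k⁻¹ ∈ fittingHallOf M := fun k hk y hy =>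
    (mem_normalizer_iff.1 (h.UWH (mem_sup_left (Subgroup.commutator_le_self U hk))) y).1 hy
  obtain ⟨y, hy, d, hd, e⟩ := Cfsg.Agent.H10.Dade.mem_sup_of_norm hn (h.der2_le h1)
  have hdU : d ∈ U := Subgroup.commutator_le_self U hd
  have hyU : y ∈ U := by
    have := U.mul_mem (show c ∈ U from hc.1) (U.inv_mem hdU)
    rwa [← e, mul_inv_cancel_right] at this
  have h2 : y ∈ fittingHallOf M ⊓ U := ⟨hy, hyU⟩
  rw [h.HU_bot, Subgroup.mem_bot] at h2
  rw [← e, h2, one_mul]; exact hd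

end T34

open H10.PrD2 H10.PrD4 in
/-- **Peterfalvi §11**: types III and IV -/
theorem h34 {G : Type u} [Group G] [Finite G] (hG : IsMinSimpleOddOrder G) {M W₁ U W₂ : Subgroup G} (hM : IsCoatom M)
    (ty : IsOfTypeIII M ∨ IsOfTypeIV M) (hP : IsTypePWith M W₁ U W₂) :
    IsCyclic U ∧ (Nat.card W₁).Prime ∧ (Nat.card W₂).Prime ∧ Nat.card W₂ < Nat.card W₁ ∧
      IsMulCommutative (fittingHallOf M) ∧ (∀ x ∈ fittingHallOf M, x ^ Nat.card W₂ = 1) ∧
      Nat.card (fittingHallOf M) = Nat.card W₂ ^ Nat.card W₁ ∧ U ⊓ centralizer (fittingHallOf M : Set G) = ⊥ ∧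
      ∀ u ∈ U, u ≠ 1 → ∀ x ∈ fittingHallOf M, u * x = x * u → x = 1 := by
  classical
  haveI := Fintype.ofFinite G
  haveI := Fintype.ofFinite M
  haveI : Fintype (T34.KK M) := Fintype.ofFinite _
  have h := T34.of hG hM ty hP
  have h108 := H10.PrF7.c108 hG M hM ty
  rw [H1.PG8.tA0_eq_A0 hG hM hP] at h108
  obtain ⟨Rc, hS⟩ : ∃ Rc, IsCoherenceSystem (inducedIrrAbove (T34.KK M) ⊥)
      (dadeIsometry (H10.PrD4.A0 M W₁ W₂ (H12.Ty.tA M)) M (supportR M)) Rc := by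
    have pd := H1.PG8.pd_core hG hM hP
    rw [typeCore, if_pos ty] at pd
    obtain ⟨μ, δ, hμ⟩ := exists_MU pd.toPT
    obtain ⟨η, hη⟩ := Cfsg.Agent.S1502.result W₁ W₂ pd.self (odd_W pd.toPT)
    have hne : (inducedIrrAbove (T34.KK M) ⊥).Nonempty := H10.IndSet3.above_nonempty h.solvK (A := ⊥) (by
      rw [bot_lt_iff_ne_bot]
      intro h0
      have h1 : (fittingHallOf M).subgroupOf M = ⊥ := by
        rw [eq_bot_iff, ← h0]
        intro x hx
        exact h.F_le (h.HF hx)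
      have h2 := h.W₂H
      have h3 := h.p.one_lt
      have h4 : W₂ = ⊥ := by
        rw [eq_bot_iff]
        intro w hw
        have hwM : w ∈ M := h.M'M (h.F_le (h.HF (h2 hw)))
        have : (⟨w, hwM⟩ : M) ∈ (fittingHallOf M).subgroupOf M := h2 hw
        rw [h1, Subgroup.mem_bot] at this
        exact congrArg Subtype.val this
      rw [h4, Subgroup.card_bot] at h3
      omega)
    obtain ⟨Rc, hS, -, -⟩ := H10.PrD7.system pd hμ hη (S := inducedIrrAbove (T34.KK M) ⊥) above_indD hne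
      (fun χ hχ => H10.IndSet2.conj_mem_above hχ)
    exact ⟨Rc, hS⟩
  have hd2 := h.der2 hS h108
  have h2 := h.conf hG hd2
  obtain ⟨hlt, hst⟩ := h2.main (fun Rc hS => h.nc hS h108)
  have hfree : ∀ k ∈ T34.KK M, k ∉ (fittingOf M).subgroupOf M → ∀ n ∈ (fittingOf M).subgroupOf M,
      k * n * k⁻¹ * n⁻¹ ∈ (T34.N0 M U).subgroupOf M → n ∈ (T34.N0 M U).subgroupOf M :=
    fun k hk hk1 n hn hkn => h2.free hst hk hk1 hn hkn
  haveI := h2.n0
  have hFU : fittingOf M ⊓ U ≤ T34.N0 M U := by rw [h.FU]; exact le_sup_right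
  have hUM' : U ≤ ⁅M, M⁆ := by rw [← h.sup_HU]; exact le_sup_right
  have hcyc := h2.cyc hfree (U := U.subgroupOf M) (fun x hx => hUM' hx) (fun x hx => hFU ⟨hx.1, hx.2⟩)
  -- `U` is cyclic
  have hcU : IsCyclic U := by
    obtain ⟨⟨_, u₀, hu₀, rfl⟩, hg⟩ := hcyc.exists_generator
    haveI : Group.IsNilpotent U := hP.U_nilpotent
    have hu₀' : (u₀ : G) ∈ U := hu₀
    refine ⟨⟨⟨(u₀ : G), hu₀'⟩, gen_of_commutator fun x => ?_⟩⟩
    have hxM : (x : G) ∈ M := h.UM x.2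
    obtain ⟨n, hn⟩ := hg ⟨QuotientGroup.mk' _ ⟨x, hxM⟩, ⟨⟨x, hxM⟩, x.2, rfl⟩⟩
    have hn' := congrArg Subtype.val hn
    refine ⟨-n, ?_⟩
    have h3 : (⟨(x : G), hxM⟩ : M) = u₀ ^ n * ((u₀ ^ n)⁻¹ * ⟨(x : G), hxM⟩) := by group
    have h4 : (u₀ ^ n)⁻¹ * (⟨(x : G), hxM⟩ : M) ∈ (T34.N0 M U).subgroupOf M := by
      rw [← QuotientGroup.eq]
      exact hn'
    have h5 : (((u₀ : G) ^ n)⁻¹ * (x : G)) ∈ T34.CU M U := by
      rw [← h.FU]
      refine ⟨h.N0_le_F ?_, U.mul_mem (U.inv_mem (U.zpow_mem hu₀' n)) x.2⟩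
      have : (((u₀ ^ n)⁻¹ * (⟨(x : G), hxM⟩ : M) : M) : G) ∈ T34.N0 M U := h4
      simpa using this
    have h6 := h.CU_le_der hd2 h5
    rw [← Subgroup.map_subtype_commutator] at h6
    obtain ⟨y, hy, e⟩ := h6
    have h7 : y = (⟨(u₀ : G), hu₀'⟩ : U) ^ (-n) * x := by
      apply Subtype.ext
      rw [show (y : G) = ((u₀ : G) ^ n)⁻¹ * (x : G) from e]
      simp
    rw [← h7]; exact hy
  have hCU : T34.CU M U = ⊥ := by
    rw [eq_bot_iff]
    refine (h.CU_le_der hd2).trans ?_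
    haveI : IsMulCommutative U := by
      letI := hcU.commGroup
      exact ⟨⟨fun a b => mul_comm a b⟩⟩
    rw [le_bot_iff, Subgroup.commutator_eq_bot_iff_le_centralizer]
    exact Subgroup.le_centralizer U
  have hfree' : ∀ u ∈ U, u ≠ 1 → ∀ x ∈ fittingHallOf M, u * x * u⁻¹ * x⁻¹ ∈ T34.H0 M U → x ∈ T34.H0 M U := by
    intro u hu hu1 x hx hux
    have huM := h.UM hu
    have hxM : x ∈ M := h.M'M (h.F_le (h.HF hx))
    have h3 := hfree ⟨u, huM⟩ (hUM' hu) (fun hF => hu1 (by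
      have : u ∈ fittingOf M ⊓ U := ⟨hF, hu⟩
      rw [h.FU, hCU, Subgroup.mem_bot] at this
      exact this)) ⟨x, hxM⟩ (h.HF hx) (show u * x * u⁻¹ * x⁻¹ ∈ T34.N0 M U from mem_sup_left hux)
    rw [← h.HN0]
    exact ⟨hx, h3⟩
  have hu := h.u_ge
  rw [hCU, Subgroup.relIndex_bot_left] at hu
  obtain ⟨hH0, hab, hexp⟩ := H12.PF11z.part3 h hd2 hCU hu hlt hfree'
  refine ⟨hcU, h.q, h.p, hlt, ⟨⟨fun a b => Subtype.ext (hab a a.2 b b.2)⟩⟩, hexp, ?_, hCU, ?_⟩
  · rw [h.card_H, hH0, Subgroup.card_bot, mul_one]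
  · intro u hu hu1 x hx hc
    have := hfree' u hu hu1 x hx (by rw [hc, mul_inv_cancel_right, mul_inv_cancel]; exact one_mem _)
    rwa [hH0, Subgroup.mem_bot] at this

end Cfsg.Agent.H2.PF11
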