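import Cfsg.Agent.H1_P13B
import Cfsg.Agent.H2_PF11
import Cfsg.Agent.H27_PV9

set_option autoImplicit false
open Cfsg Subgroup

namespace Cfsg.Agent.H12.C11

universe u

/-- Peterfalvi §§10-11: no maximal subgroup of type V; types III and IV -/
theorem c11 {G : Type u} [Group G] [Finite G] (hG : Cfsg.IsMinSimpleOddOrder G) : Cfsg.Agent.H1.P13.C11 G where
  h5 := fun M hM => Cfsg.Agent.H27.PV9.no_typeV hG hM
  h34 := fun M W₁ U W₂ hM ty hP => by
    obtain ⟨h1, h2, h3, h4, h5, h6, h7, h8, -⟩ := Cfsg.Agent.H2.PF11.h34 hG hM ty hP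
    exact ⟨h1, h2, h3, h4, h5, h6, h7, h8⟩

end Cfsg.Agent.H12.C11
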