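import Mathlib
import Cfsg.Agent.H12_CN5
import Cfsg.Agent.H12_BG10d

/-! CN-groups VI: minimal simple CN-groups of odd order -/

set_option autoImplicit false
set_option linter.unusedSectionVars false

open Pointwise
open scoped commutatorElement

namespace Cfsg.Agent.H12.CN

open Cfsg Subgroup H13.Syl H12.BG10

universe u

theorem pCore_coprime {X : Type u} [Group X] [Finite X] {p n : ℕ} (hn : n.Coprime p) : (Nat.card (pCore p X)).Coprime n := by
  apply coprime_of_forall
  intro q hq h1 h2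
  have hqp : ¬ q ∣ p := fun h => Nat.Prime.not_coprime_iff_dvd.2 ⟨q, hq, h2, h⟩ hn
  have h3 : (Nat.card (pCore p X)).Coprime q := by
    apply H1.Nilp.coprime_sSup
    intro N hN
    refine ⟨hN.1, ?_⟩
    rw [Nat.coprime_comm, Nat.Prime.coprime_iff_not_dvd hq]
    intro hd
    have : Fact q.Prime := ⟨hq⟩
    obtain ⟨x, hx⟩ := exists_prime_orderOf_dvd_card' (G := N) q hd
    obtain ⟨k, hk⟩ := hN.2 x
    have h4 := orderOf_dvd_of_pow_eq_one hk
    rw [hx] at h4
    exact hqp (hq.dvd_of_dvd_pow h4)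
  rw [Nat.coprime_comm, Nat.Prime.coprime_iff_not_dvd hq] at h3
  exact h3 h1

/-- A three-step group does not have nilpotent derived group. -/
theorem no_three_step_of_nilpotent {X : Type u} [Group X] [Finite X] {p : ℕ} (h : IsThreeStepGroup p X)
    (hn : Group.IsNilpotent (commutator X)) : False := by
  obtain ⟨hHb, A, hAb, -, -, hAp, hLn, hLt, -, hfpf, hout⟩ := h
  set H := pCore p X with hH
  have hHn : H.Normal := by
    rw [hH]
    exact Subgroup.sSup_normal _ (fun _ h => h.1)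
  set L := H ⊔ A with hL
  have hcop : (Nat.card H).Coprime (Nat.card A) := pCore_coprime hAp
  have hHA : H ⊓ A = ⊥ := H22.Basic.inf_eq_bot_of_coprime hcop
  have hLc : Nat.card L = Nat.card H * Nat.card A :=
    H22.Basic.card_sup_of_inf_eq_bot (Core.le_normalizer_of_normal _ _) hHA
  obtain ⟨a, ha, ha1⟩ := exists_ne_one hAb
  obtain ⟨x, hx⟩ : ∃ x : X, x ∉ L := by
    by_contra hne
    push Not at hne
    exact hLt (eq_top_iff.2 fun x _ => hne x)
  have h1 := hout x hx a ha ha1
  set y := x * a * x⁻¹ * a⁻¹ with hy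
  have hyN : y ∈ commutator X := Subgroup.commutator_mem_commutator (mem_top x) (mem_top a)
  have hyL : y ∈ L := by
    refine mul_mem (hLn.conj_mem a (le_sup_right (a := H) ha) x) (inv_mem (le_sup_right (a := H) ha))
  -- a suitable `q`-power
  have hπy : QuotientGroup.mk' H y ≠ 1 := by
    intro h2
    rw [← MonoidHom.mem_ker, QuotientGroup.ker_mk'] at h2
    exact h1 h2
  obtain ⟨q, n, hq, hqn⟩ := exists_prime_order_pow hπy (orderOf_pos _).ne'
  have : Fact q.Prime := ⟨hq⟩
  have hz1 : y ^ n ∉ H := by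
    intro h2
    rw [← QuotientGroup.ker_mk' H, MonoidHom.mem_ker, map_pow] at h2
    rw [h2, orderOf_one] at hqn
    exact hq.one_lt.ne hqn
  -- the q-part of y^n
  obtain ⟨z, hzq, hzmem, hzH⟩ : ∃ z : X, (∃ k, z ^ q ^ k = 1) ∧ z ∈ zpowers (y ^ n) ∧ z ∉ H := by
    set w := y ^ n with hw
    have hwo : orderOf w ≠ 0 := (orderOf_pos w).ne'
    refine ⟨w ^ (ordCompl[q] (orderOf w)), ⟨(orderOf w).factorization q, ?_⟩, ?_, ?_⟩
    · rw [← pow_mul, mul_comm, Nat.ordProj_mul_ordCompl_eq_self]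
      exact pow_orderOf_eq_one w
    · exact Subgroup.npow_mem_zpowers w _
    · intro h2
      rw [← QuotientGroup.ker_mk' H, MonoidHom.mem_ker, map_pow] at h2
      have h3 : orderOf (QuotientGroup.mk' H w) = q := by rw [hw, map_pow]; exact hqn
      have h4 := orderOf_dvd_of_pow_eq_one h2
      rw [h3] at h4
      exact Nat.not_dvd_ordCompl hq hwo h4
  have hzN : z ∈ commutator X := (zpowers_le.2 (pow_mem hyN n)) hzmem
  have hzL : z ∈ L := (zpowers_le.2 (pow_mem hyL n)) hzmem
  have hzP : IsPGroup q (zpowers z) := by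
    obtain ⟨k, hk⟩ := hzq
    have h2 := (Nat.dvd_prime_pow hq).1 (orderOf_dvd_of_pow_eq_one hk)
    obtain ⟨m, -, hm⟩ := h2
    exact IsPGroup.of_card (n := m) (by rw [Nat.card_zpowers, hm])
  -- q ∣ |A|
  have hqA : q ∣ Nat.card A := by
    have h2 : q ∣ Nat.card (L.map (QuotientGroup.mk' H)) := by
      rw [← hqn, ← Nat.card_zpowers]
      apply Subgroup.card_dvd_of_le
      rw [zpowers_le, ← map_pow]
      exact ⟨_, pow_mem hyL n, rfl⟩
    have h3 : L.map (QuotientGroup.mk' H) = A.map (QuotientGroup.mk' H) := by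
      rw [hL, Subgroup.map_sup]
      have h4 : H.map (QuotientGroup.mk' H) = ⊥ := by
        rw [Subgroup.map_eq_bot_iff, QuotientGroup.ker_mk']
      rw [h4, bot_sup_eq]
    rw [h3] at h2
    exact h2.trans (Subgroup.card_map_dvd A _)
  have hqH : ¬ q ∣ Nat.card H := fun h => Nat.Prime.not_coprime_iff_dvd.2 ⟨q, hq, h, hqA⟩ hcop
  -- conjugate into `A`
  obtain ⟨S, hS⟩ := exists_isSylIn (p := q) A
  have hSL : IsSylIn q S L := by
    refine ⟨hS.1.trans le_sup_right, hS.2.1, ?_⟩
    intro hd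
    have h3 := H22.Basic.card_mul_relIndex hS.1
    have h4 := H22.Basic.card_mul_relIndex (hS.1.trans (le_sup_right : A ≤ L))
    have h5 : S.relIndex L = S.relIndex A * Nat.card H := by
      rw [hLc, ← h3] at h4
      have : Nat.card S * S.relIndex L = Nat.card S * (S.relIndex A * Nat.card H) := by rw [h4]; ring
      exact Nat.eq_of_mul_eq_mul_left Nat.card_pos this
    rw [h5] at hd
    rcases hq.dvd_mul.1 hd with h6 | h6
    · exact hS.not_dvd h6
    · exact hqH h6
  obtain ⟨g, hg, hgz⟩ := hSL.exists_conj_le hzP (zpowers_le.2 hzL)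
  have h2 : g * z * g⁻¹ ∈ A := hS.1 (hgz (conj_mem_cj (mem_zpowers z)))
  have hz1' : z ≠ 1 := fun h => hzH (h ▸ one_mem _)
  have h3 := hfpf _ h2 (by
    intro h4
    apply hz1'
    have : z = g⁻¹ * (g * z * g⁻¹) * g := by group
    rw [this, h4]; group)
  have h4 : H ⊓ centralizer ({z} : Set X) = ⊥ := by
    have h5 := congrArg (cj g⁻¹) h3
    rw [cj_inf, cj_bot, cj_eq_of_normal, cj_centralizer_singleton] at h5
    have h6 : g⁻¹ * (g * z * g⁻¹) * g⁻¹⁻¹ = z := by group
    rwa [h6] at h5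
  -- `H ∩ X' = 1`
  have h5 : H ⊓ commutator X = ⊥ := by
    rw [eq_bot_iff, ← h4]
    refine le_inf inf_le_left ?_
    have h6 : (Nat.card ↥(H ⊓ commutator X)).Coprime q := by
      rw [Nat.coprime_comm, Nat.Prime.coprime_iff_not_dvd hq]
      exact fun h => hqH (h.trans (Subgroup.card_dvd_of_le inf_le_left))
    have h7 := le_centralizer_of_nilpotent hn hzP (zpowers_le.2 hzN) inf_le_right h6
    rwa [centralizer_zpowers_eq] at h7
  apply hHb
  rw [eq_bot_iff, ← hfpf a ha ha1]
  refine le_inf le_rfl ?_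
  intro v hv
  rw [mem_centralizer_singleton_iff]
  have h6 : ⁅v, a⁆ ∈ H ⊓ commutator X := by
    refine Subgroup.mem_inf.2 ⟨?_, Subgroup.commutator_mem_commutator (mem_top _) (mem_top _)⟩
    have e : ⁅v, a⁆ = v * (a * v⁻¹ * a⁻¹) := by simp only [commutatorElement_def]; group
    rw [e]
    exact mul_mem hv (hHn.conj_mem _ (inv_mem hv) a)
  rw [h5, Subgroup.mem_bot, commutatorElement_eq_one_iff_mul_comm] at h6
  exact h6

variable {G : Type u} [Group G] [Finite G]

/-- A three-step group has `O_{p'} = 1`. -/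
theorem pPrimeCore_three_step {X : Type u} [Group X] [Finite X] {p : ℕ} (hp : p.Prime) (h : IsThreeStepGroup p X) : pPrimeCore p X = ⊥ := by
  have : Fact p.Prime := ⟨hp⟩
  obtain ⟨hHb, A, hAb, -, -, hAp, hLn, hLt, ⟨n, hn⟩, hfpf, -⟩ := h
  set H := pCore p X with hH
  have hHn : H.Normal := H1.Nilp.pCore_normal p
  have hHp : IsPGroup p H := H1.Nilp.pCore_isPGroup p
  have hDn : (pPrimeCore p X).Normal := H1.Nilp.pPrimeCore_normal p
  have hDc : (Nat.card (pPrimeCore p X)).Coprime p := H1.Nilp.pPrimeCore_coprime p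
  set D := pPrimeCore p X with hD
  set L := H ⊔ A with hL
  have hHD : H ⊓ D = ⊥ := H12.Loc.inf_eq_bot_of_isPGroup hp hHp hDc
  have hcen : D ≤ centralizer (H : Set X) := Fit.comm_of_disjoint_normal (by rwa [inf_comm])
  have hDL : D ≤ L := by
    apply H1.HC.le_of_coprime_index
    rw [hn]
    exact hDc.pow_right n
  by_contra hDb
  obtain ⟨d0, hd0, hd01⟩ := exists_ne_one hDb
  obtain ⟨q, m, hq, hqm⟩ := exists_prime_order_pow hd01 (orderOf_pos _).ne'
  have : Fact q.Prime := ⟨hq⟩
  set z := d0 ^ m with hz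
  have hzD : z ∈ D := pow_mem hd0 m
  have hz1 : z ≠ 1 := by
    intro h
    rw [h, orderOf_one] at hqm
    exact hq.one_lt.ne hqm
  have hzP : IsPGroup q (zpowers z) := IsPGroup.of_card (n := 1) (by rw [Nat.card_zpowers, hqm, pow_one])
  have hqD : q ∣ Nat.card D := by
    rw [← hqm, ← Nat.card_zpowers]
    exact Subgroup.card_dvd_of_le (zpowers_le.2 hzD)
  have hqp : q ≠ p := by
    rintro rfl
    exact (Nat.Prime.coprime_iff_not_dvd hq).1 hDc.symm hqD
  have hqH : ¬ q ∣ Nat.card H := by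
    intro h
    obtain ⟨k, hk⟩ := IsPGroup.iff_card.1 hHp
    rw [hk] at h
    exact hqp ((Nat.prime_dvd_prime_iff_eq hq hp).1 (hq.dvd_of_dvd_pow h))
  have hcop : (Nat.card H).Coprime (Nat.card A) := by
    obtain ⟨k, hk⟩ := IsPGroup.iff_card.1 hHp
    rw [hk]; exact hAp.symm.pow_left k
  have hHA : H ⊓ A = ⊥ := H22.Basic.inf_eq_bot_of_coprime hcop
  have hLc : Nat.card L = Nat.card H * Nat.card A :=
    H22.Basic.card_sup_of_inf_eq_bot (Core.le_normalizer_of_normal _ _) hHA
  obtain ⟨S, hS⟩ := exists_isSylIn (p := q) A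
  have hSL : IsSylIn q S L := by
    refine ⟨hS.1.trans le_sup_right, hS.2.1, ?_⟩
    intro hd
    have h3 := H22.Basic.card_mul_relIndex hS.1
    have h4 := H22.Basic.card_mul_relIndex (hS.1.trans (le_sup_right : A ≤ L))
    have h5 : S.relIndex L = S.relIndex A * Nat.card H := by
      rw [hLc, ← h3] at h4
      have : Nat.card S * S.relIndex L = Nat.card S * (S.relIndex A * Nat.card H) := by rw [h4]; ring
      exact Nat.eq_of_mul_eq_mul_left Nat.card_pos this
    rw [h5] at hd
    rcases hq.dvd_mul.1 hd with h6 | h6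
    · exact hS.not_dvd h6
    · exact hqH h6
  obtain ⟨g, hg, hgz⟩ := hSL.exists_conj_le hzP (zpowers_le.2 (hDL hzD))
  have h2 : g * z * g⁻¹ ∈ A := hS.1 (hgz (conj_mem_cj (mem_zpowers z)))
  have h3 := hfpf _ h2 (by
    intro h4
    apply hz1
    have : z = g⁻¹ * (g * z * g⁻¹) * g := by group
    rw [this, h4]; group)
  apply hHb
  rw [eq_bot_iff, ← h3]
  refine le_inf le_rfl ?_
  intro v hv
  rw [mem_centralizer_singleton_iff]
  have h5 := Subgroup.mem_centralizer_iff.1 (hcen (hDn.conj_mem z hzD g)) v hv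
  exact h5

theorem max_not_three_step (hG : IsMinSimpleOddOrder G) {M : Subgroup G} (hM : IsCoatom M) {p : ℕ} (hp : p.Prime) :
    ¬ IsThreeStepGroup p M := by
  intro h
  have : Fact p.Prime := ⟨hp⟩
  have hO := pPrimeCore_three_step hp h
  obtain ⟨hHb, A, hAb, -, -, hAp, hLn, hLt, ⟨n, hn⟩, hfpf, -⟩ := h
  have hOc : H12.Loc.Oc p M = ⊥ := by
    rw [H12.Loc.Oc_eq_map hp, hO, Subgroup.map_bot]
  obtain ⟨P, hP⟩ := exists_isSylIn (p := p) M
  have hn0 : n ≠ 0 := by
    rintro rfl
    rw [pow_zero, Subgroup.index_eq_one] at hn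
    exact hLt hn
  have hpM : p ∣ Nat.card M := by
    have h1 : p ∣ (pCore p M ⊔ A).index := by rw [hn]; exact dvd_pow_self p hn0
    exact h1.trans (Subgroup.index_dvd_card _)
  have hp2 : p ≠ 2 := by
    have h1 := BG7.prime_ne_two hG (hpM.trans (Subgroup.card_subgroup_dvd_card M))
    exact h1
  have hPb : P ≠ ⊥ := by
    rintro rfl
    have := hP.not_dvd
    rw [Subgroup.relIndex_bot_left] at this
    exact this hpM
  have h1 := BG9.puig_local hG hp2 hM.1 hP
  rw [hOc, bot_sup_eq] at h1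
  have h2 : M ≤ normalizer (BG9.ZL P : Set G) := h1.trans inf_le_right
  have hZb := BG9.ZL_ne_bot hP.isPGroup hPb
  have h3 : normalizer (BG9.ZL P : Set G) = M := H12.Loc.normalizer_eq_of_isCoatom hG hM hZb h2 ((BG9.ZL_le P).trans hP.1)
  have hNP : normalizer (P : Set G) ≤ M := (BG9.normalizer_le_ZL P).trans h3.le
  have hps := sigma_of_normalizer hp hpM hP hNP
  have hPc := sylow_le_commutator hG hM hps hP
  -- M = L M'
  set L := pCore p M ⊔ A with hL
  have h4 : (P.subgroupOf M) ≤ commutator M := by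
    intro x hx
    have h5 : (x : G) ∈ (commutator M).map M.subtype := by
      rw [map_commutator_subtype]; exact hPc (Subgroup.mem_subgroupOf.1 hx)
    obtain ⟨y, hy, hyx⟩ := h5
    have h6 : y = x := Subtype.ext hyx
    rw [← h6]; exact hy
  have h5 : L ⊔ commutator M = ⊤ := by
    rw [← Subgroup.index_eq_one]
    have h6 : (L ⊔ commutator M).index ∣ p ^ n := hn ▸ Subgroup.index_dvd_of_le le_sup_left
    obtain ⟨m, -, hm⟩ := (Nat.dvd_prime_pow hp).1 h6
    rw [hm]
    rcases Nat.eq_zero_or_pos m with rfl | hm0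
    · rw [pow_zero]
    · exfalso
      have h7 : (L ⊔ commutator M).index ∣ (P.subgroupOf M).index := Subgroup.index_dvd_of_le (h4.trans le_sup_right)
      have h8 := hP.not_dvd
      exact h8 ((dvd_pow_self p hm0.ne').trans (hm ▸ h7))
  have hsM : Group.IsSolvable M := BG7.solvable_of_ne_top hG hM.1
  have h6 : (⊤ : Subgroup M) ≤ L := by
    have h7 : Group.IsSolvable (⊤ : Subgroup M) := inferInstance
    apply BG6.le_of_le_sup_commutator h7
    rw [show ⁅(⊤ : Subgroup M), ⊤⁆ = commutator M from rfl, h5]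
  exact hLt (eq_top_iff.2 h6)

end Cfsg.Agent.H12.CN
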