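import Mathlib
import Cfsg.Agent.H12_CN6
import Cfsg.Agent.H12_BG10e

/-! CN-groups VII: maximal subgroups of minimal simple CN-groups of odd order -/

set_option autoImplicit false
set_option linter.unusedSectionVars false

open Pointwise
open scoped commutatorElement

namespace Cfsg.Agent.H12.CN

open Cfsg Subgroup H13.Syl H12.BG10

universe u

variable {G : Type u} [Group G] [Finite G]

theorem exists_normalizer_of_nilpotent {F L : Subgroup G} (hL : Group.IsNilpotent L) (hFL : F < L) :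
    ∃ x ∈ L, x ∉ F ∧ x ∈ normalizer (F : Set G) := by
  have h1 : F.subgroupOf L < ⊤ := by
    rw [lt_top_iff_ne_top]
    intro h
    rw [Subgroup.subgroupOf_eq_top] at h
    exact absurd h (not_le_of_gt hFL)
  have h2 := Group.normalizerCondition_of_isNilpotent (G := L) _ h1
  obtain ⟨x, hx, hxF⟩ := SetLike.exists_of_lt h2
  refine ⟨x, x.2, fun h => hxF (Subgroup.mem_subgroupOf.2 h), ?_⟩
  apply H22.Basic.mem_normalizer_of_cj_le
  rintro _ ⟨y, hy, rfl⟩
  have h3 := (Subgroup.mem_normalizer_iff.1 hx ⟨y, hFL.le hy⟩).1 (Subgroup.mem_subgroupOf.2 hy)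
  exact Subgroup.mem_subgroupOf.1 h3

structure MaxS (M F E : Subgroup G) : Prop where
  F_eq : F = fittingHallOf M
  compl : IsComplIn F E M
  norm : M ≤ normalizer (F : Set G)
  nil : Group.IsNilpotent F
  cop : (Nat.card F).Coprime (Nat.card E)
  Fb : F ≠ ⊥
  Eb : E ≠ ⊥
  Ec : IsCyclic E
  fpf : ∀ e ∈ E, e ≠ 1 → F ⊓ centralizer ({e} : Set G) = ⊥
  out : ∀ x ∈ M, x ∉ F → F ⊓ centralizer ({x} : Set G) = ⊥
  der : ⁅M, M⁆ ≤ F

theorem exists_maxS (hG : IsMinSimpleOddOrder G) (hCN : IsCNGroup G) {M : Subgroup G} (hM : IsCoatom M) :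
    ∃ F E : Subgroup G, MaxS M F E := by
  have hMs : Group.IsSolvable M := BG7.solvable_of_ne_top hG hM.1
  rcases trichotomy hMs (cn_subgroup hCN M) with h | ⟨K, E, hK, hE1, hE2, hKe, hE3, h4⟩ | ⟨p, hp, h⟩
  · exfalso
    obtain ⟨q, hq, hqM, hqs⟩ := exists_not_sigma hG hM
    have : Fact q.Prime := ⟨hq⟩
    obtain ⟨Q, hQ⟩ := exists_isSylIn (p := q) M
    have h1 := le_normalizer_sylow_of_nilpotent h hQ
    have hQb : Q ≠ ⊥ := by
      rintro rfl
      have := hQ.not_dvd
      rw [Subgroup.relIndex_bot_left] at this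
      exact this hqM
    have h2 := H12.Loc.normalizer_eq_of_isCoatom hG hM hQb h1 hQ.1
    exact hqs (sigma_of_normalizer hq hqM hQ h2.le)
  · have hinj : Function.Injective M.subtype := M.subtype_injective
    have hKM : K.map M.subtype ≤ M := Subgroup.map_subtype_le K
    have hEM : E.map M.subtype ≤ M := Subgroup.map_subtype_le E
    have e1 : (K.map M.subtype).subgroupOf M = K := Core.subgroupOf_map_subtype_self K
    have e2 : (E.map M.subtype).subgroupOf M = E := Core.subgroupOf_map_subtype_self E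
    have hcompl : IsComplIn (K.map M.subtype) (E.map M.subtype) M := by
      rw [Core.isComplIn_iff hKM hEM, e1, e2]; exact hE1
    have hnorm : M ≤ normalizer ((K.map M.subtype : Subgroup G) : Set G) := by
      rw [hKe]; exact Core.le_normalizer_fittingHallOf M
    have hEcyc : IsCyclic E := by
      rcases h4 with h4 | ⟨C, Q, hCQ, -, -, -, n, ⟨e⟩⟩
      · exact h4
      · exfalso
        have h5 : Nat.card Q = 4 * 2 ^ n := by
          rw [Nat.card_congr e.toEquiv, Nat.card_eq_fintype_card, QuaternionGroup.card]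
        have h6 : Odd (Nat.card M) := BG7.odd_card_subgroup hG M
        have h7 : 2 ∣ Nat.card M := by
          have h8 : 2 ∣ Nat.card Q := by rw [h5]; exact Dvd.dvd.mul_right (by decide) _
          exact h8.trans (Subgroup.card_subgroup_dvd_card Q)
        exact (Nat.not_even_iff_odd.2 h6) (even_iff_two_dvd.2 h7)
    have hfpf : ∀ x : M, K ⊓ centralizer ({x} : Set M) = ⊥ → (K.map M.subtype) ⊓ centralizer ({(x : G)} : Set G) = ⊥ := by
      intro x hx
      rw [eq_bot_iff]
      intro y hy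
      obtain ⟨⟨z, hz, rfl⟩, hy2⟩ := Subgroup.mem_inf.1 hy
      have h5 : z ∈ K ⊓ centralizer ({x} : Set M) := by
        refine Subgroup.mem_inf.2 ⟨hz, ?_⟩
        rw [mem_centralizer_singleton_iff] at hy2 ⊢
        exact Subtype.ext hy2
      rw [hx, Subgroup.mem_bot] at h5
      rw [h5]; exact one_mem _
    have hcomm : commutator M ≤ K := by
      have h5 : ∀ x y : M ⧸ K, x * y = y * x := by
        have h6 : Function.Surjective ((QuotientGroup.mk' K).comp E.subtype) := by
          intro x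
          obtain ⟨m, rfl⟩ := QuotientGroup.mk'_surjective K x
          obtain ⟨⟨k, e⟩, hke⟩ := hE1.2 m
          have hke' : (k : M) * e = m := hke
          refine ⟨e, ?_⟩
          rw [← hke', map_mul]
          have h7 : QuotientGroup.mk' K (k : M) = 1 := by
            rw [← MonoidHom.mem_ker, QuotientGroup.ker_mk']; exact k.2
          rw [h7, one_mul]; rfl
        intro x y
        obtain ⟨a, rfl⟩ := h6 x
        obtain ⟨b, rfl⟩ := h6 y
        have := IsCyclic.commGroup (α := E)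
        rw [← map_mul, ← map_mul, mul_comm']
      rw [commutator_def, Subgroup.commutator_le]
      intro x _ y _
      rw [← QuotientGroup.ker_mk' K, MonoidHom.mem_ker, map_commutatorElement, commutatorElement_eq_one_iff_mul_comm]
      exact h5 _ _
    refine ⟨K.map M.subtype, E.map M.subtype, by rw [hKe]; rfl, hcompl, hnorm, ?_, ?_, ?_, ?_, ?_, ?_, ?_, ?_⟩
    · have := (Core.fittingHall_spec (G := M)).2.1
      rw [← hKe] at this
      exact Core.isNilpotent_map_subtype this
    · have h5 := (Core.fittingHall_spec (G := M)).2.2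
      rw [← hKe, hE1.symm.index_eq_card] at h5
      rwa [SCN.card_map_subtype', SCN.card_map_subtype']
    · intro h
      rw [Subgroup.map_eq_bot_iff_of_injective _ hinj] at h
      have h5 := (Subgroup.isComplement'_bot_left.1 (h ▸ hE1))
      exact hE2.2.1 h5
    · intro h
      rw [Subgroup.map_eq_bot_iff_of_injective _ hinj] at h
      exact hE2.1 h
    · exact isCyclic_of_surjective (M.subtype.subgroupMap E) (M.subtype.subgroupMap_surjective E)
    · rintro _ ⟨e, he, rfl⟩ he1
      exact hfpf e (hE3 e he (fun h => he1 (by rw [h]; rfl)))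
    · intro x hxM hxF
      exact hfpf ⟨x, hxM⟩ (fpf_outside hE1 hE2 hE3 (fun h => hxF ⟨_, h, rfl⟩))
    · rw [← map_commutator_subtype]
      exact Subgroup.map_mono hcomm
  · exact absurd h (max_not_three_step hG hM hp)

/-- S1478 -/
theorem not_three_step (hG : IsMinSimpleOddOrder G) (hCN : IsCNGroup G) (H : Subgroup G) (p : ℕ) : ¬ IsThreeStepGroup p H := by
  intro h
  by_cases hH : H = ⊤
  · subst hH
    obtain ⟨hHb, A, hAb, -, -, -, hLn, hLt, -⟩ := h
    have hn : (pCore p (⊤ : Subgroup G)).Normal := Subgroup.sSup_normal _ (fun _ h => h.1)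
    have hs : Function.Surjective (⊤ : Subgroup G).subtype := fun x => ⟨⟨x, mem_top x⟩, rfl⟩
    have h1 : ((pCore p (⊤ : Subgroup G)).map (⊤ : Subgroup G).subtype).Normal := hn.map _ hs
    rcases BG7.eq_bot_or_top hG h1 with h2 | h2
    · rw [Subgroup.map_eq_bot_iff_of_injective _ (Subgroup.subtype_injective _)] at h2
      exact hHb h2
    · apply hLt
      rw [eq_top_iff]
      intro x _
      have h3 : (x : G) ∈ (pCore p (⊤ : Subgroup G)).map (⊤ : Subgroup G).subtype := by rw [h2]; exact mem_top _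
      obtain ⟨y, hy, hyx⟩ := h3
      have h4 : y = x := Subtype.ext hyx
      rw [← h4]
      exact le_sup_left (a := pCore p (⊤ : Subgroup G)) hy
  · obtain ⟨M, hM, hHM⟩ := H12.Loc.exists_isCoatom_ge hH
    obtain ⟨F, E, hS⟩ := exists_maxS hG hCN hM
    apply no_three_step_of_nilpotent h
    have h1 : Group.IsNilpotent ↥((commutator H).map H.subtype) := by
      rw [map_commutator_subtype]
      exact nilpotent_of_le ((Subgroup.commutator_mono hHM hHM).trans hS.der) hS.nil
    exact nilpotent_of_injective h1 (H.subtype.subgroupMap (commutator H)) (by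
      intro a b hab
      have h2 : H.subtype (a : H) = H.subtype (b : H) := congrArg (fun z : ↥((commutator H).map H.subtype) => (z : G)) hab
      exact Subtype.ext (H.subtype_injective h2))

/-- `F = M_F` is a maximal nilpotent subgroup of `G`, with normalizer `M`. -/
theorem MaxS.normalizer_eq (hG : IsMinSimpleOddOrder G) {M F E : Subgroup G} (hM : IsCoatom M) (h : MaxS M F E) :
    normalizer (F : Set G) = M :=
  H12.Loc.normalizer_eq_of_isCoatom hG hM h.Fb h.norm h.compl.1

theorem MaxS.maxNil (hG : IsMinSimpleOddOrder G) {M F E : Subgroup G} (hM : IsCoatom M) (h : MaxS M F E) : MaxNil F := by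
  refine ⟨h.nil, ?_⟩
  intro L hL hFL
  by_contra hne
  have hlt : F < L := lt_of_le_of_ne hFL (fun h => hne h.symm)
  obtain ⟨x, hxL, hxF, hxN⟩ := exists_normalizer_of_nilpotent hL hlt
  rw [h.normalizer_eq hG hM] at hxN
  have h1 := h.out x hxN hxF
  -- F ⊔ zpowers x nilpotent, F normal in it
  set D := F ⊔ zpowers x with hD
  have hDL : D ≤ L := sup_le hFL (zpowers_le.2 hxL)
  have hDn : Group.IsNilpotent D := nilpotent_of_le hDL hL
  have hFD : (F.subgroupOf D).Normal := Core.normal_subgroupOf_of_le (sup_le le_normalizer ((zpowers_le.2 hxN).trans h.norm))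
  have hFDb : F.subgroupOf D ≠ ⊥ := by
    intro h2
    rw [Subgroup.subgroupOf_eq_bot, disjoint_iff, inf_eq_left.2 (le_sup_left : F ≤ D)] at h2
    exact h.Fb h2
  have h2 := H1.Nilp.normal_inf_center_ne_bot (F.subgroupOf D) hFDb
  obtain ⟨z, hz, hz1⟩ := exists_ne_one h2
  obtain ⟨hzF, hzc⟩ := Subgroup.mem_inf.1 hz
  have h3 : (z : G) ∈ F ⊓ centralizer ({x} : Set G) := by
    refine Subgroup.mem_inf.2 ⟨Subgroup.mem_subgroupOf.1 hzF, ?_⟩
    rw [mem_centralizer_singleton_iff]
    have h4 := Subgroup.mem_center_iff.1 hzc ⟨x, le_sup_right (a := F) (mem_zpowers x)⟩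
    exact (congrArg Subtype.val h4).symm
  rw [h1, Subgroup.mem_bot] at h3
  exact hz1 (Subtype.ext h3)

/-- a `p`-subgroup of `M` with `p ∣ |F|` lies in `F` -/
theorem MaxS.le_F {M F E : Subgroup G} (h : MaxS M F E) {p : ℕ} [hp : Fact p.Prime] (hpF : p ∣ Nat.card F) {P : Subgroup G}
    (hP : IsPGroup p P) (hPM : P ≤ M) : P ≤ F := by
  have h1 := Core.IsComplIn_card h.compl
  have h2 := H22.Basic.card_mul_relIndex h.compl.1
  have h3 : F.relIndex M = Nat.card E := by
    rw [← h1] at h2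
    exact Nat.eq_of_mul_eq_mul_left Nat.card_pos h2
  have h4 : ¬ p ∣ Nat.card E := fun h5 => Nat.Prime.not_coprime_iff_dvd.2 ⟨p, hp.out, hpF, h5⟩ h.cop
  have hn : (F.subgroupOf M).Normal := Core.normal_subgroupOf_of_le h.norm
  have h5 : P.subgroupOf M ≤ F.subgroupOf M := by
    apply H1.HC.le_of_coprime_index
    have h6 : Nat.card (P.subgroupOf M) = Nat.card P := Nat.card_congr (Subgroup.subgroupOfEquivOfLe hPM).toEquiv
    rw [h6]
    show (Nat.card P).Coprime (F.relIndex M)
    rw [h3]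
    obtain ⟨k, hk⟩ := IsPGroup.iff_card.1 hP
    rw [hk]
    exact ((Nat.Prime.coprime_iff_not_dvd hp.out).2 h4).pow_left k
  intro x hx
  exact Subgroup.mem_subgroupOf.1 (h5 (Subgroup.mem_subgroupOf.2 hx : (⟨x, hPM hx⟩ : M) ∈ P.subgroupOf M))

theorem zpowers_nilpotent {X : Type*} [Group X] (x : X) : Group.IsNilpotent (zpowers x) := by
  let _ : CommGroup (zpowers x) := { (inferInstance : Group (zpowers x)) with
    mul_comm := fun a b => by
      obtain ⟨m, hm⟩ := a.2
      obtain ⟨n, hn⟩ := b.2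
      apply Subtype.ext
      show (a : X) * b = b * a
      rw [← hm, ← hn]
      show x ^ m * x ^ n = x ^ n * x ^ m
      rw [← zpow_add, ← zpow_add, add_comm] }
  infer_instance

theorem maxNil_ne_bot (hG : IsMinSimpleOddOrder G) {H : Subgroup G} (hH : MaxNil H) : H ≠ ⊥ := by
  rintro rfl
  obtain ⟨x, -, hx1⟩ := exists_ne_one (BG7.top_ne_bot' hG)
  have h1 := hH.2 (zpowers x) (zpowers_nilpotent x) bot_le
  rw [zpowers_eq_bot] at h1
  exact hx1 h1

/-- Every maximal nilpotent subgroup is `M_F` for a maximal subgroup `M`. -/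
theorem maxNil_eq (hG : IsMinSimpleOddOrder G) (hCN : IsCNGroup G) {H : Subgroup G} (hH : MaxNil H) :
    ∃ M E : Subgroup G, IsCoatom M ∧ MaxS M H E := by
  have hHb := maxNil_ne_bot hG hH
  obtain ⟨p, hp, hpH⟩ := Nat.exists_prime_and_dvd (fun h => hHb (Subgroup.card_eq_one.1 h))
  have : Fact p.Prime := ⟨hp⟩
  obtain ⟨P, hP, z, hz, hz', hz1⟩ := exists_mem_center_sylow hpH
  have hPG := maxNil_sylow hCN hH hpH hP
  have hPb : P ≠ ⊥ := by
    rintro rfl
    exact hz1 (Subgroup.mem_bot.1 hz)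
  obtain ⟨M, hM, hNM, hPM, hps⟩ := exists_max_normalizer hG hPG hPb
  obtain ⟨F, E, hS⟩ := exists_maxS hG hCN hM
  have hPF : P ≤ F := (sylow_le_commutator hG hM hps hPM).trans hS.der
  have h1 := maxNil_centralizer hCN hH hP hz hz' hz1
  have hPF' : IsSylIn p P F := hPM.mono hPF hS.compl.1
  have h2 := maxNil_centralizer hCN (hS.maxNil hG hM) hPF' hz hz' hz1
  rw [h1] at h2
  exact ⟨M, E, hM, h2 ▸ hS⟩

/-- unique Sylow subgroups in normalizers of `p`-subgroups implies TI -/
theorem sylow_ti_of {p : ℕ} [hp : Fact p.Prime]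
    (h : ∀ D : Subgroup G, IsPGroup p D → D ≠ ⊥ → ∀ S T : Subgroup G, IsSylIn p S (normalizer (D : Set G)) →
      IsSylIn p T (normalizer (D : Set G)) → S = T) (n : ℕ) :
    ∀ P P' : Subgroup G, IsSylIn p P ⊤ → IsSylIn p P' ⊤ → P ⊓ P' ≠ ⊥ → Nat.card G - Nat.card ↥(P ⊓ P') < n → P = P' := by
  induction n with
  | zero => intro P P' _ _ _ h; omega
  | succ n ih =>
    intro P P' hP hP' hne hlt
    by_contra hPP
    set D := P ⊓ P' with hD
    have hDp : IsPGroup p D := hP.isPGroup.to_le inf_le_left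
    have h1 : D < P := by
      refine lt_of_le_of_ne inf_le_left ?_
      intro h2
      apply hPP
      have h3 : P ≤ P' := by rw [← h2]; exact inf_le_right
      exact (hP.eq_of_le hP'.isPGroup le_top h3).symm
    have h1' : D < P' := by
      refine lt_of_le_of_ne inf_le_right ?_
      intro h2
      apply hPP
      have h3 : P' ≤ P := by rw [← h2]; exact inf_le_left
      exact (hP'.eq_of_le hP.isPGroup le_top h3)
    have h2 := lt_normalizer_of_lt hP.isPGroup h1
    have h2' := lt_normalizer_of_lt hP'.isPGroup h1'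
    obtain ⟨S, hS1, hS⟩ := exists_isSylIn_ge (p := p) (hP.isPGroup.to_le (inf_le_left : P ⊓ normalizer (D : Set G) ≤ P)) inf_le_right
    obtain ⟨T, hT1, hT⟩ := exists_isSylIn_ge (p := p) (hP'.isPGroup.to_le (inf_le_left : P' ⊓ normalizer (D : Set G) ≤ P')) inf_le_right
    have hST := h D hDp hne S T hS hT
    subst hST
    obtain ⟨Q, hSQ, hQ⟩ := exists_isSylIn_ge (p := p) hS.isPGroup le_top
    have key : ∀ R : Subgroup G, IsSylIn p R ⊤ → D < R ⊓ normalizer (D : Set G) → R ⊓ normalizer (D : Set G) ≤ S → R = Q := by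
      intro R hR hDR hRS
      have h3 : D < R ⊓ Q := lt_of_lt_of_le hDR (le_inf inf_le_left (hRS.trans hSQ))
      have h4 : Nat.card D < Nat.card ↥(R ⊓ Q) := H22.Basic.card_lt_of_lt h3
      apply ih R Q hR hQ
      · rintro h5
        rw [h5] at h3
        exact absurd h3 not_lt_bot
      · have h5 : Nat.card ↥(R ⊓ Q) ≤ Nat.card G := Nat.le_of_dvd Nat.card_pos (Subgroup.card_subgroup_dvd_card _)
        omega
    exact hPP ((key P hP h2 hS1).trans (key P' hP' h2' hT1).symm)

theorem sylow_eq_of_nilpotent {p : ℕ} [hp : Fact p.Prime] {S T Y : Subgroup G} (hY : Group.IsNilpotent Y) (hS : IsSylIn p S Y)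
    (hT : IsSylIn p T Y) : S = T := by
  obtain ⟨x, hx, hxT⟩ := hS.exists_conj_eq hT
  rw [cj_eq_of_mem_normalizer (le_normalizer_sylow_of_nilpotent hY hT hx)] at hxT
  exact hxT.symm

theorem unique_sylow_normalizer (hG : IsMinSimpleOddOrder G) (hCN : IsCNGroup G) {p : ℕ} [hp : Fact p.Prime] (D : Subgroup G)
    (hD : IsPGroup p D) (hDb : D ≠ ⊥) (S T : Subgroup G) (hS : IsSylIn p S (normalizer (D : Set G)))
    (hT : IsSylIn p T (normalizer (D : Set G))) : S = T := by
  obtain ⟨M, hM, hNM⟩ := H12.Loc.exists_isCoatom_ge (BG7.normalizer_ne_top hG hDb (BG7.ne_top_of_isPGroup hG hD))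
  obtain ⟨F, E, h⟩ := exists_maxS hG hCN hM
  by_cases hpF : p ∣ Nat.card F
  · have h1 := h.le_F hpF hS.isPGroup (hS.1.trans hNM)
    have h2 := h.le_F hpF hT.isPGroup (hT.1.trans hNM)
    exact sylow_eq_of_nilpotent (Y := F ⊓ normalizer (D : Set G)) (nilpotent_of_le inf_le_left h.nil)
      (hS.mono (le_inf h1 hS.1) inf_le_right) (hT.mono (le_inf h2 hT.1) inf_le_right)
  · have hDM : D ≤ M := le_normalizer.trans hNM
    have hFp : (Nat.card F).Coprime p := ((Nat.Prime.coprime_iff_not_dvd hp.out).2 hpF).symm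
    have hDF : D ⊓ F = ⊥ := H12.Loc.inf_eq_bot_of_isPGroup hp.out hD hFp
    obtain ⟨d, hd, hd1⟩ := exists_ne_one hDb
    have hdF : d ∉ F := by
      intro h1
      have h2 : d ∈ D ⊓ F := Subgroup.mem_inf.2 ⟨hd, h1⟩
      rw [hDF, Subgroup.mem_bot] at h2
      exact hd1 h2
    have h1 : F ⊓ normalizer (D : Set G) = ⊥ := by
      rw [eq_bot_iff, ← h.out d (hDM hd) hdF]
      refine le_inf inf_le_left ?_
      intro x hx
      obtain ⟨hxF, hxN⟩ := Subgroup.mem_inf.1 hx
      rw [mem_centralizer_singleton_iff]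
      have h2 : ⁅x, d⁆ ∈ D ⊓ F := by
        refine Subgroup.mem_inf.2 ⟨?_, ?_⟩
        · have e : ⁅x, d⁆ = (x * d * x⁻¹) * d⁻¹ := by simp only [commutatorElement_def]
          rw [e]
          exact mul_mem ((Subgroup.mem_normalizer_iff.1 hxN d).1 hd) (inv_mem hd)
        · have e : ⁅x, d⁆ = x * (d * x⁻¹ * d⁻¹) := by simp only [commutatorElement_def]; group
          rw [e]
          exact mul_mem hxF ((Subgroup.mem_normalizer_iff.1 (h.norm (hDM hd)) _).1 (inv_mem hxF))
      rw [hDF, Subgroup.mem_bot, commutatorElement_eq_one_iff_mul_comm] at h2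
      exact h2
    have h2 : Group.IsNilpotent ↥(normalizer (D : Set G)) := by
      have h3 : ∀ x ∈ normalizer (D : Set G), ∀ y ∈ normalizer (D : Set G), x * y = y * x := by
        intro x hx y hy
        have h4 : ⁅x, y⁆ ∈ F ⊓ normalizer (D : Set G) := by
          refine Subgroup.mem_inf.2 ⟨h.der (Subgroup.commutator_mem_commutator (hNM hx) (hNM hy)), ?_⟩
          exact Subgroup.commutator_le_self _ (Subgroup.commutator_mem_commutator hx hy)
        rw [h1, Subgroup.mem_bot, commutatorElement_eq_one_iff_mul_comm] at h4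
        exact h4
      let _ : CommGroup ↥(normalizer (D : Set G)) := { (inferInstance : Group ↥(normalizer (D : Set G))) with
        mul_comm := fun a b => Subtype.ext (h3 a a.2 b b.2) }
      infer_instance
    exact sylow_eq_of_nilpotent h2 hS hT

theorem maxNil_ti' (hG : IsMinSimpleOddOrder G) (hCN : IsCNGroup G) {H : Subgroup G} (hH : MaxNil H) (g : G) (hg : cj g H ≠ H) :
    H ⊓ cj g H = ⊥ := by
  by_cases hnp : IsPrimePow (Nat.card H)
  · obtain ⟨p, k, hp, hk, hpk⟩ := hnp
    have hp' : p.Prime := hp.nat_prime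
    have : Fact p.Prime := ⟨hp'⟩
    have hHp : IsPGroup p H := IsPGroup.of_card (n := k) hpk.symm
    have h1 : IsSylIn p H H := ⟨le_rfl, hHp, by rw [Subgroup.relIndex_self]; exact hp'.not_dvd_one⟩
    have h2 := maxNil_sylow hCN hH (hpk ▸ dvd_pow_self p hk.ne') h1
    have h3 : IsSylIn p (cj g H) ⊤ := by
      have := h2.cj g
      rwa [cj_top] at this
    by_contra hne
    exact hg (sylow_ti_of (unique_sylow_normalizer hG hCN) _ H (cj g H) h2 h3 hne (Nat.lt_succ_self _)).symm
  · exact maxNil_ti hCN hH hnp (fun h => maxNil_ne_bot hG hH (Subgroup.card_eq_one.1 h)) g hg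

theorem maxNil_conj_or_coprime (hG : IsMinSimpleOddOrder G) (hCN : IsCNGroup G) {H₁ H₂ : Subgroup G} (h1 : MaxNil H₁) (h2 : MaxNil H₂) :
    (∃ g : G, H₂ = cj g H₁) ∨ (Nat.card H₁).Coprime (Nat.card H₂) := by
  by_contra hne
  push Not at hne
  obtain ⟨hne1, hne2⟩ := hne
  obtain ⟨p, hp, hp1, hp2⟩ := Nat.Prime.not_coprime_iff_dvd.1 hne2
  have : Fact p.Prime := ⟨hp⟩
  obtain ⟨P₁, hP₁, z₁, hz₁, hz₁', hz₁1⟩ := exists_mem_center_sylow hp1
  obtain ⟨P₂, hP₂⟩ := exists_isSylIn (p := p) H₂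
  have s1 := maxNil_sylow hCN h1 hp1 hP₁
  have s2 := maxNil_sylow hCN h2 hp2 hP₂
  obtain ⟨g, -, hg⟩ := s2.exists_conj_eq s1
  apply hne1 g
  have h3 := maxNil_centralizer hCN h1 hP₁ hz₁ hz₁' hz₁1
  have h4 : g * z₁ * g⁻¹ ∈ P₂ := by rw [← hg]; exact conj_mem_cj hz₁
  have h5 : g * z₁ * g⁻¹ ∈ centralizer (P₂ : Set G) := by
    rw [← hg, ← cj_centralizer]; exact conj_mem_cj hz₁'
  have h6 := maxNil_centralizer hCN h2 hP₂ h4 h5 (by
    intro h
    apply hz₁1
    have : z₁ = g⁻¹ * (g * z₁ * g⁻¹) * g := by group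
    rw [this, h]; group)
  rw [← h6, ← h3, cj_centralizer_singleton]

theorem dvd_card_of_mem {p : ℕ} (hp : p.Prime) {H : Subgroup G} {x : G} (hx : x ∈ H) (hx1 : x ≠ 1) (hxp : IsPGroup p (zpowers x)) :
    p ∣ Nat.card H := by
  have : Fact p.Prime := ⟨hp⟩
  obtain ⟨k, hk⟩ := IsPGroup.iff_card.1 hxp
  have hk0 : k ≠ 0 := by
    rintro rfl
    rw [pow_zero] at hk
    exact hx1 (zpowers_eq_bot.1 (Subgroup.card_eq_one.1 hk))
  exact ((dvd_pow_self p hk0).trans (hk ▸ dvd_rfl)).trans (Subgroup.card_dvd_of_le (zpowers_le.2 hx))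

theorem pair_nilpotent {x y : G} (hxy : x * y = y * x) : ∃ H : Subgroup G, MaxNil H ∧ x ∈ H ∧ y ∈ H := by
  have h1 : ∀ a ∈ closure ({x, y} : Set G), ∀ b ∈ closure ({x, y} : Set G), a * b = b * a := by
    have h2 : closure ({x, y} : Set G) ≤ centralizer (closure ({x, y} : Set G) : Set G) := by
      rw [closure_le, centralizer_closure]
      rintro a (rfl | rfl)
      · rw [SetLike.mem_coe, mem_centralizer_iff]
        rintro b (rfl | rfl)
        · rfl
        · exact hxy.symm
      · rw [SetLike.mem_coe, mem_centralizer_iff]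
        rintro b (rfl | rfl)
        · exact hxy
        · rfl
    intro a ha b hb
    exact (mem_centralizer_iff.1 (h2 hb) a ha)
  have h2 : Group.IsNilpotent ↥(closure ({x, y} : Set G)) := by
    let _ : CommGroup ↥(closure ({x, y} : Set G)) := { (inferInstance : Group ↥(closure ({x, y} : Set G))) with
      mul_comm := fun a b => Subtype.ext (h1 a a.2 b b.2) }
    infer_instance
  obtain ⟨H, hH, hle⟩ := exists_maxNil_ge _ h2
  exact ⟨H, hH, hle (subset_closure (by simp)), hle (subset_closure (by simp))⟩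

theorem link_trans (hG : IsMinSimpleOddOrder G) (hCN : IsCNGroup G) {p q r : ℕ} (hp : p.Prime) (hq : q.Prime) (hr : r.Prime)
    {x y y' z : G} (hx1 : x ≠ 1) (hy1 : y ≠ 1) (hy'1 : y' ≠ 1) (hz1 : z ≠ 1)
    (hx : IsPGroup p (zpowers x)) (hy : IsPGroup q (zpowers y)) (hy' : IsPGroup q (zpowers y')) (hz : IsPGroup r (zpowers z))
    (hxy : x * y = y * x) (hyz : y' * z = z * y') :
    ∃ x' z' : G, x' ≠ 1 ∧ z' ≠ 1 ∧ IsPGroup p (zpowers x') ∧ IsPGroup r (zpowers z') ∧ x' * z' = z' * x' := by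
  have : Fact p.Prime := ⟨hp⟩
  have : Fact q.Prime := ⟨hq⟩
  have : Fact r.Prime := ⟨hr⟩
  by_cases hpr : p = r
  · subst hpr
    exact ⟨x, x, hx1, hx1, hx, hx, rfl⟩
  obtain ⟨H₁, hH₁, hxH, hyH⟩ := pair_nilpotent hxy
  obtain ⟨H₂, hH₂, hyH', hzH⟩ := pair_nilpotent hyz
  have d1 := dvd_card_of_mem hp hxH hx1 hx
  have d2 := dvd_card_of_mem hq hyH hy1 hy
  have d3 := dvd_card_of_mem hq hyH' hy'1 hy'
  have d4 := dvd_card_of_mem hr hzH hz1 hz
  rcases maxNil_conj_or_coprime hG hCN hH₁ hH₂ with ⟨g, hg⟩ | h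
  · rw [hg, card_cj] at d4
    obtain ⟨P, hP, a, ha, -, ha1⟩ := exists_mem_center_sylow d1
    obtain ⟨R, hR, b, hb, -, hb1⟩ := exists_mem_center_sylow d4
    refine ⟨a, b, ha1, hb1, hP.isPGroup.to_le (zpowers_le.2 ha), hR.isPGroup.to_le (zpowers_le.2 hb), ?_⟩
    have h1 := le_centralizer_of_nilpotent hH₁.1 hP.isPGroup hP.1 hR.1 (coprime_of_isPGroup hr hp (fun h => hpr h.symm) hR.isPGroup)
    exact (mem_centralizer_iff.1 (h1 hb) a ha)
  · exact absurd h (Nat.Prime.not_coprime_iff_dvd.2 ⟨q, hq, d2, d3⟩)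

end Cfsg.Agent.H12.CN
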