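import Mathlib
import Cfsg.Prelude.Def_Solvable
import Cfsg.Agent.H11_Cores

set_option autoImplicit false

namespace Cfsg.Agent.H12.CVS5

theorem S5 {G : Type*} [Group G] [Finite G] (D : Subgroup G)
    (h : ∀ p : ℕ, p.Prime → ∀ x ∈ D, (∃ n, orderOf x = p ^ n) → x ∈ Cfsg.pCore p G) :
    Group.IsNilpotent D := by
  have q := (Group.isNilpotent_of_finite_tfae (G := D)).out 0 3
  rw [q]; clear q
  intro p hp P
  have hpg : IsPGroup p (Cfsg.pCore p G) := Cfsg.Agent.H11.Cores.pCore_isPGroup p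
  have hn : (Cfsg.pCore p G).Normal := inferInstance
  have h1 : IsPGroup p ((Cfsg.pCore p G).subgroupOf D) := by
    exact hpg.comap_of_injective D.subtype D.subtype_injective
  have h2 : (P : Subgroup D) ≤ (Cfsg.pCore p G).subgroupOf D := by
    intro x hx
    rw [Subgroup.mem_subgroupOf]
    obtain ⟨n, hn⟩ := IsPGroup.iff_orderOf.mp P.2 ⟨x, hx⟩
    refine h p hp.out x x.2 ⟨n, ?_⟩
    rw [← hn, ← Subgroup.orderOf_coe (⟨x, hx⟩ : (P : Subgroup D)), ← Subgroup.orderOf_coe x]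
  have h3 := P.is_maximal' h1 h2
  rw [← h3]
  infer_instance

end Cfsg.Agent.H12.CVS5
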