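import Cfsg.Prelude
import Cfsg.Agent.H2_Basic
import Cfsg.Agent.H1_Nilp
import Cfsg.Agent.H11_Cores

set_option autoImplicit false
set_option linter.all false

/-!
Cyclic Sylow `p`-subgroups and abelian `p'`-subgroups.
-/

namespace Cfsg.Agent.H12.CY

open Subgroup
open Cfsg Cfsg.Agent

universe u

variable {G : Type u} [Group G] [Finite G] {p : ℕ} [hp : Fact p.Prime]

theorem lemZ {y h : G} {k : ℤ} {n : ℕ} (hy : orderOf y = p ^ n) (hk : h * y * h⁻¹ = y ^ k)
    (hp1 : (p : ℤ) ∣ k - 1) (hh : (orderOf h).Coprime p) : h * y = y * h := by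
  have h1 : ∀ m : ℕ, h ^ m * y * (h ^ m)⁻¹ = y ^ (k ^ m) := by
    intro m
    induction m with
    | zero => simp
    | succ m ih =>
      have e : h ^ (m+1) * y * (h^(m+1))⁻¹ = h ^ m * (h * y * h⁻¹) * (h ^ m)⁻¹ := by rw [pow_succ]; group
      rw [e, hk, ← conj_zpow, ih, ← zpow_mul, pow_succ]
  have h2 : ((p : ℤ) ^ (n + 1)) ∣ k ^ (p ^ n) - 1 := by
    have := dvd_sub_pow_of_dvd_sub (R := ℤ) (p := p) (a := k) (b := 1) hp1 n
    rwa [one_pow] at this
  have h3 : h ^ (p^n) * y * (h ^ (p^n))⁻¹ = y := by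
    rw [h1]
    have h4' : (orderOf y : ℤ) ∣ k ^ (p^n) - 1 := by
      rw [hy]; push_cast; exact (pow_dvd_pow _ (Nat.le_succ n)).trans h2
    have h4 := orderOf_dvd_iff_zpow_eq_one.1 h4'
    rw [zpow_sub, zpow_one, mul_inv_eq_one] at h4
    exact h4
  have h5 : Commute (h ^ (p^n)) y := mul_inv_eq_iff_eq_mul.1 h3
  have h6 : (p^n).Coprime (orderOf h) := (hh.pow_right n).symm
  obtain ⟨m, hm⟩ := exists_pow_eq_self_of_coprime h6
  have h7 := h5.pow_left m
  rw [hm] at h7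
  exact h7

theorem mem_of_norm (P : Sylow p G) {a : G} (ha : a ∈ normalizer ((P : Subgroup G) : Set G))
    (hk : ∃ k, orderOf a = p ^ k) : a ∈ (P : Subgroup G) := by
  obtain ⟨k, hk⟩ := hk
  have h1 : IsPGroup p (zpowers a) := IsPGroup.of_card (n := k) (by rw [Nat.card_zpowers, hk])
  have h2 : IsPGroup p ((P : Subgroup G) ⊔ zpowers a : Subgroup G) :=
    IsPGroup.to_sup_of_normal_left' P.isPGroup' h1 (zpowers_le.2 ha)
  have h3 := P.is_maximal' h2 le_sup_left
  rw [← h3]; exact mem_sup_right (mem_zpowers a)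

theorem burn (P : Sylow p G) (hP : ∀ a ∈ (P : Subgroup G), ∀ b ∈ (P : Subgroup G), a * b = b * a)
    (h : ∀ g ∈ normalizer ((P : Subgroup G) : Set G), (orderOf g).Coprime p → ∀ a ∈ (P : Subgroup G), g * a = a * g) :
    HasNormalPComplement p G := by
  have hle : normalizer ((P : Subgroup G) : Set G) ≤ centralizer ((P : Subgroup G) : Set G) := by
    intro g hg
    obtain ⟨a, ha, b, hb, hab, -, hak, hbk⟩ := H2.Basic.exists_p_decomp p g
    have ha1 : a ∈ normalizer ((P : Subgroup G) : Set G) := (zpowers_le.2 hg) ha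
    have hb1 : b ∈ normalizer ((P : Subgroup G) : Set G) := (zpowers_le.2 hg) hb
    have ha2 := mem_of_norm P ha1 hak
    rw [mem_centralizer_iff]
    intro c hc
    rw [← hab, mul_assoc, h b hb1 hbk c hc, ← mul_assoc, ← mul_assoc, hP c hc a ha2]
  rw [H2.Basic.npc_iff_sylow P]
  exact ⟨_, inferInstance, MonoidHom.ker_transferSylow_isComplement' P hle⟩

/-- the hypotheses -/
structure HY (p : ℕ) (G : Type u) [Group G] : Prop where
  cyc : ∃ P : Sylow p G, IsCyclic P
  ab : ∀ H : Subgroup G, ¬ p ∣ Nat.card H → ∀ a ∈ H, ∀ b ∈ H, a * b = b * a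

def CC (p : ℕ) (G : Type u) [Group G] : Prop :=
  HasNormalPComplement p G ∨ ∃ P : Sylow p G, (P : Subgroup G).Normal

theorem HY.all (h : HY p G) (P : Sylow p G) : IsCyclic P := by
  obtain ⟨Q, hQ⟩ := h.cyc
  exact isCyclic_of_surjective (Sylow.equiv Q P) (Sylow.equiv Q P).surjective

theorem HY.pab (h : HY p G) (P : Sylow p G) : ∀ a ∈ (P : Subgroup G), ∀ b ∈ (P : Subgroup G), a * b = b * a := by
  intro a ha b hb
  haveI := h.all P
  letI := IsCyclic.commGroup (α := P)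
  exact congrArg Subtype.val (mul_comm (⟨a, ha⟩ : P) ⟨b, hb⟩)

theorem HY.sub (h : HY p G) (L : Subgroup G) : HY p L := by
  refine ⟨?_, ?_⟩
  · let Q : Sylow p L := default
    refine ⟨Q, ?_⟩
    have h1 : IsPGroup p ((Q : Subgroup L).map L.subtype) := Q.isPGroup'.map _
    obtain ⟨P, hP⟩ := h1.exists_le_sylow
    haveI := h.all P
    have hm : ∀ x : Q, L.subtype x.1 ∈ (P : Subgroup G) := fun x => hP ⟨x.1, x.2, rfl⟩
    let f : Q →* P := (L.subtype.comp (Q : Subgroup L).subtype).codRestrict (P : Subgroup G) hm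
    refine isCyclic_of_injective f (fun a b e => ?_)
    have h2 : ((a : L) : G) = ((b : L) : G) := congrArg (fun z : P => (z : G)) e
    exact Subtype.ext (Subtype.ext h2)
  · intro H hH a ha b hb
    apply Subtype.ext
    refine h.ab (H.map L.subtype) ?_ a ⟨a, ha, rfl⟩ b ⟨b, hb, rfl⟩
    rwa [card_map_of_injective L.subtype_injective]

/-- a generator -/
theorem HY.gen (h : HY p G) (P : Sylow p G) : ∃ y : G, zpowers y = (P : Subgroup G) ∧ ∃ n, orderOf y = p ^ n ∧ Nat.card P = p ^ n := by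
  haveI := h.all P
  obtain ⟨y, hy⟩ := IsCyclic.exists_zpow_surjective (G := P)
  obtain ⟨n, hn⟩ := IsPGroup.iff_card.1 P.isPGroup'
  have e : zpowers (y : G) = (P : Subgroup G) := by
    apply le_antisymm
    · exact zpowers_le.2 y.2
    · intro x hx
      obtain ⟨k, hk⟩ := hy ⟨x, hx⟩
      exact ⟨k, congrArg Subtype.val hk⟩
  refine ⟨y, e, n, ?_, hn⟩
  rw [← Nat.card_zpowers, e]; exact hn

/-- a normal Sylow `p`-subgroup of a normal subgroup -/
theorem normal_of_sub {N : Subgroup G} (hN : N.Normal) (Q : Sylow p N) (hQ : (Q : Subgroup N).Normal) :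
    ((Q : Subgroup N).map N.subtype).Normal := by
  haveI hc : (Q : Subgroup N).Characteristic := Q.characteristic_of_normal hQ
  infer_instance

theorem core_bot_of_npc (hcore : pPrimeCore p G = ⊥) {N : Subgroup G} (hN : N.IsSubnormal)
    (h : HasNormalPComplement p N) : IsPGroup p N := by
  obtain ⟨M, hM, hMp, k, hk⟩ := H2.Basic.npc_iff.1 h
  have h1 : (M.map N.subtype).IsSubnormal := (hM.isSubnormal).trans' hN
  have h2 : (Nat.card (M.map N.subtype)).Coprime p := by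
    rw [card_map_of_injective N.subtype_injective]
    exact ((Nat.Prime.coprime_iff_not_dvd hp.out).2 hMp).symm
  have h3 := H11.Cores.le_pPrimeCore_of_isSubnormal p h1 h2
  rw [hcore, le_bot_iff, map_eq_bot_iff_of_injective _ N.subtype_injective] at h3
  rw [h3, index_bot] at hk
  exact IsPGroup.of_card hk

/-- conjugation on a generator -/
theorem conj_gen {P : Subgroup G} {y : G} (hy : zpowers y = P) {g : G} (hg : g ∈ normalizer (P : Set G)) :
    ∃ k : ℤ, g * y * g⁻¹ = y ^ k := by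
  have h1 : y ∈ P := by rw [← hy]; exact mem_zpowers y
  have h2 := (mem_normalizer_iff.1 hg y).1 h1
  rw [← hy] at h2
  obtain ⟨k, hk⟩ := mem_zpowers_iff.1 h2
  exact ⟨k, hk.symm⟩

theorem comm_of_gen {P : Subgroup G} {y : G} (hy : zpowers y = P) {g : G} (h : g * y = y * g) : ∀ a ∈ P, g * a = a * g := by
  intro a ha
  rw [← hy] at ha
  obtain ⟨k, rfl⟩ := mem_zpowers_iff.1 ha
  exact (Commute.zpow_right h k)

/-- `y₁` of order `p` -/
theorem exists_y1 {y : G} {n : ℕ} (hn : orderOf y = p ^ (n + 1)) : orderOf (y ^ (p ^ n)) = p := by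
  rw [orderOf_pow, hn, pow_succ, Nat.gcd_eq_right (dvd_mul_right _ _), Nat.mul_div_cancel_left _ (pow_pos hp.out.pos n)]

/-- if a `p'`-element commutes with `y₁` and normalizes `⟨y⟩` then it commutes with `y` -/
theorem comm_of_y1 {y : G} {n : ℕ} (hn : orderOf y = p ^ (n + 1)) {g : G} (hg : g ∈ normalizer (zpowers y : Set G))
    (hgp : (orderOf g).Coprime p) (h1 : g * y ^ (p ^ n) = y ^ (p ^ n) * g) : g * y = y * g := by
  obtain ⟨k, hk⟩ := conj_gen rfl hg
  apply lemZ hn hk ?_ hgp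
  have h2 : (y ^ (p ^ n)) ^ k = y ^ (p ^ n) := by
    have e1 : g * y ^ (p ^ n) * g⁻¹ = y ^ (p ^ n) := mul_inv_eq_iff_eq_mul.2 h1
    rw [← conj_pow, hk] at e1
    have e2 : (y ^ (p ^ n)) ^ k = (y ^ k) ^ (p ^ n) := by
      rw [← zpow_natCast, ← zpow_natCast, ← zpow_mul, ← zpow_mul, mul_comm]
    rw [e2, e1]
  have h3 : (y ^ (p ^ n)) ^ (k - 1) = 1 := by rw [zpow_sub, h2, zpow_one, mul_inv_cancel]
  have h4 := orderOf_dvd_iff_zpow_eq_one.2 h3
  rwa [exists_y1 hn] at h4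

/-- every element of order `p` of `⟨y⟩` is in `⟨y₁⟩` -/
theorem mem_y1 {y : G} {n : ℕ} (hn : orderOf y = p ^ (n + 1)) {x : G} (hx : x ∈ zpowers y) (hxp : x ^ p = 1) :
    x ∈ zpowers (y ^ (p ^ n)) := by
  obtain ⟨k, rfl⟩ := mem_zpowers_iff.1 hx
  have h1 : y ^ (k * p) = 1 := by rw [zpow_mul, zpow_natCast]; exact hxp
  have h2 := orderOf_dvd_iff_zpow_eq_one.2 h1
  rw [hn] at h2
  have h3 : ((p : ℤ) ^ n) ∣ k := by
    have h4 : (p : ℤ) ^ n * p ∣ k * p := by rw [← pow_succ]; exact_mod_cast h2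
    exact Int.dvd_of_mul_dvd_mul_right (by exact_mod_cast hp.out.ne_zero) h4
  obtain ⟨c, rfl⟩ := h3
  refine mem_zpowers_iff.2 ⟨c, ?_⟩
  rw [← zpow_natCast, ← zpow_mul]
  push_cast
  rfl

end Cfsg.Agent.H12.CY
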