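import Cfsg.Agent.H12_CY1

set_option autoImplicit false
set_option linter.all false

/-!
Cyclic Sylow `p`-subgroups and abelian `p'`-subgroups: reduction to simple groups.
-/

namespace Cfsg.Agent.H12.CY

open Subgroup
open Cfsg Cfsg.Agent

universe u

variable {G : Type u} [Group G] [Finite G] {p : ℕ} [hp : Fact p.Prime]

theorem HY.quot (h : HY p G) (N : Subgroup G) [N.Normal] (hN : ¬ p ∣ Nat.card N) : HY p (G ⧸ N) := by
  refine ⟨?_, ?_⟩
  · let P : Sylow p G := default
    haveI := h.all P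
    refine ⟨P.mapSurjective (QuotientGroup.mk'_surjective N), ?_⟩
    rw [Sylow.coe_mapSurjective]
    exact isCyclic_of_surjective ((QuotientGroup.mk' N).subgroupMap (P : Subgroup G))
      ((QuotientGroup.mk' N).subgroupMap_surjective _)
  · intro H hH a ha b hb
    obtain ⟨a, rfl⟩ := QuotientGroup.mk'_surjective N a
    obtain ⟨b, rfl⟩ := QuotientGroup.mk'_surjective N b
    rw [← map_mul, ← map_mul]
    congr 1
    refine h.ab (H.comap (QuotientGroup.mk' N)) ?_ a ha b hb
    intro hd
    have h1 : Nat.card (H.comap (QuotientGroup.mk' N)) = Nat.card N * Nat.card H := by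
      have h2 := (H.comap (QuotientGroup.mk' N)).card_mul_index
      rw [Subgroup.index_comap_of_surjective _ (QuotientGroup.mk'_surjective N)] at h2
      have h3 := H.card_mul_index
      have h4 := N.card_mul_index
      rw [Subgroup.index_eq_card, ← h3] at h4
      have h5 : 0 < H.index := Nat.pos_of_ne_zero H.index_ne_zero_of_finite
      apply Nat.eq_of_mul_eq_mul_right h5
      rw [h2, ← h4, mul_assoc]
    rw [h1] at hd
    rcases (Nat.Prime.dvd_mul hp.out).1 hd with h | h
    · exact hN h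
    · exact hH h

theorem sup_p' {N : Subgroup G} [N.Normal] (hN : ¬ p ∣ Nat.card N) {g : G} (hg : (orderOf g).Coprime p) :
    ¬ p ∣ Nat.card (N ⊔ zpowers g : Subgroup G) := by
  intro hd
  have h1 : Nat.card (N ⊔ zpowers g : Subgroup G) = Nat.card N * N.relIndex (zpowers g) := by
    have h2 := relIndex_mul_relIndex (⊥ : Subgroup G) N (N ⊔ zpowers g) bot_le le_sup_left
    rw [relIndex_bot_left, relIndex_bot_left] at h2
    rw [← h2]
    congr 1
    rw [sup_comm, relIndex_sup_right]
  rw [h1] at hd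
  rcases (Nat.Prime.dvd_mul hp.out).1 hd with h | h
  · exact hN h
  · have h3 := h.trans (Subgroup.relIndex_dvd_card N (zpowers g))
    rw [Nat.card_zpowers] at h3
    exact (Nat.Prime.coprime_iff_not_dvd hp.out).1 hg.symm h3

theorem core_case (h : HY p G) (P : Sylow p G) {y : G} {m : ℕ} (hy : zpowers y = (P : Subgroup G)) (hym : orderOf y = p ^ (m + 1))
    (hG : CC p (G ⧸ pPrimeCore p G)) : CC p G := by
  set N := pPrimeCore p G with hN
  have hNp : ¬ p ∣ Nat.card N := by
    have := H11.Cores.pPrimeCore_coprime (G := G) p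
    exact (Nat.Prime.coprime_iff_not_dvd hp.out).1 this.symm
  rcases hG with h1 | ⟨Q, hQ⟩
  · exact Or.inl (H2.Basic.npc_of_quotient_p' N hNp h1)
  by_cases hall : ∀ g ∈ normalizer ((P : Subgroup G) : Set G), (orderOf g).Coprime p → g * y = y * g
  · exact Or.inl (burn P (h.pab P) (fun g hg hgp => comm_of_gen hy (hall g hg hgp)))
  push_neg at hall
  obtain ⟨g, hg, hgp, hgy⟩ := hall
  obtain ⟨k, hk⟩ := conj_gen hy hg
  have hpk : ¬ (p : ℤ) ∣ k - 1 := fun hd => hgy (lemZ hym hk hd hgp)
  have hgN : ∀ n ∈ N, g * n = n * g := by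
    intro n hn
    exact h.ab (N ⊔ zpowers g) (sup_p' hNp hgp) g (mem_sup_right (mem_zpowers g)) n (mem_sup_left hn)
  have hyN : ∀ n ∈ N, y * n = n * y := by
    intro n hn
    have h2 : y * n * y⁻¹ ∈ N := (inferInstance : N.Normal).conj_mem n hn y
    have h3 := hgN _ h2
    have h4 := hgN _ hn
    have h5 : y ^ k * n * (y ^ k)⁻¹ = y * n * y⁻¹ := by
      calc y ^ k * n * (y ^ k)⁻¹ = (g * y * g⁻¹) * n * (g * y * g⁻¹)⁻¹ := by rw [hk]
        _ = g * y * g⁻¹ * (n * g) * y⁻¹ * g⁻¹ := by group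
        _ = g * y * g⁻¹ * (g * n) * y⁻¹ * g⁻¹ := by rw [h4]
        _ = (g * (y * n * y⁻¹)) * g⁻¹ := by group
        _ = ((y * n * y⁻¹) * g) * g⁻¹ := by rw [h3]
        _ = y * n * y⁻¹ := by group
    have h6 : Commute (y ^ (k - 1)) n := by
      show y ^ (k - 1) * n = n * y ^ (k - 1)
      have : y ^ (k - 1) = y⁻¹ * y ^ k := by rw [zpow_sub_one]; exact ((Commute.refl y).zpow_left k).inv_right.eq
      rw [this]
      calc y⁻¹ * y ^ k * n = y⁻¹ * (y ^ k * n * (y ^ k)⁻¹) * y ^ k := by group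
        _ = y⁻¹ * (y * n * y⁻¹) * y ^ k := by rw [h5]
        _ = n * (y⁻¹ * y ^ k) := by group
    have hco : IsCoprime (k - 1) ((p ^ (m + 1) : ℕ) : ℤ) := by
      push_cast
      have h2 : Prime (p : ℤ) := Nat.prime_iff_prime_int.1 hp.out
      exact (((Prime.coprime_iff_not_dvd h2).2 hpk).symm).pow_right
    obtain ⟨a, b, hab⟩ := hco
    have h7 : y = (y ^ (k - 1)) ^ a := by
      have e1 : y ^ (a * (k - 1) + b * ((p ^ (m + 1) : ℕ) : ℤ)) = y := by rw [hab, zpow_one]
      have e2 : y ^ (b * ((p ^ (m + 1) : ℕ) : ℤ)) = 1 := by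
        rw [mul_comm, zpow_mul, zpow_natCast, ← hym, pow_orderOf_eq_one, one_zpow]
      rw [zpow_add, e2, mul_one] at e1
      rw [← zpow_mul, mul_comm, e1]
    have h8 := h6.zpow_left a
    rw [← h7] at h8
    exact h8
  right
  refine ⟨P, ?_⟩
  have hQe : Q = P.mapSurjective (QuotientGroup.mk'_surjective N) := by
    haveI := Q.unique_of_normal hQ
    exact Subsingleton.elim _ _
  have hQe' : (Q : Subgroup (G ⧸ N)) = (P : Subgroup G).map (QuotientGroup.mk' N) := by
    rw [hQe, Sylow.coe_mapSurjective]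
  have hNn : N ≤ normalizer ((P : Subgroup G) : Set G) := by
    intro n hn
    rw [mem_normalizer_iff]
    intro a
    have e : ∀ b ∈ (P : Subgroup G), n * b * n⁻¹ = b := by
      intro b hb
      have : ∀ c ∈ (P : Subgroup G), n * c = c * n := comm_of_gen hy (hyN n hn).symm
      rw [this b hb, mul_inv_cancel_right]
    constructor
    · intro ha; rw [e a ha]; exact ha
    · intro ha
      have e2 : ∀ b ∈ (P : Subgroup G), n⁻¹ * b * n = b := by
        intro b hb
        have : ∀ c ∈ (P : Subgroup G), n * c = c * n := comm_of_gen hy (hyN n hn).symm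
        rw [mul_assoc, ← this b hb, inv_mul_cancel_left]
      have e3 := e2 _ ha
      have e4 : n⁻¹ * (n * a * n⁻¹) * n = a := by group
      rw [e4] at e3
      rw [e3]; exact ha
  set L := (Q : Subgroup (G ⧸ N)).comap (QuotientGroup.mk' N) with hL
  have hLn : L.Normal := hQ.comap _
  have hPL : (P : Subgroup G) ≤ L := by
    intro a ha
    show QuotientGroup.mk' N a ∈ (Q : Subgroup (G ⧸ N))
    rw [hQe']; exact ⟨a, ha, rfl⟩
  have hLN : L ≤ normalizer ((P : Subgroup G) : Set G) := by
    intro x hx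
    have hx' : QuotientGroup.mk' N x ∈ (Q : Subgroup (G ⧸ N)) := hx
    rw [hQe'] at hx'
    obtain ⟨a, ha, hax⟩ := hx'
    have h9 : a⁻¹ * x ∈ N := QuotientGroup.eq.1 hax
    have : x = a * (a⁻¹ * x) := by group
    rw [this]
    exact mul_mem (le_normalizer ha) (hNn h9)
  have hF := Sylow.normalizer_sup_eq_top (P.subtype hPL)
  rw [Sylow.coe_subtype, map_subgroupOf_eq_of_le hPL, sup_eq_left.2 hLN] at hF
  exact normalizer_eq_top_iff.1 hF

theorem reduce (p : ℕ) [hp : Fact p.Prime]
    (hs : ∀ (G : Type u) [Group G] [Finite G], HY p G → IsSimpleGroup G → (∀ L : Subgroup G, L ≠ ⊤ → CC p L) → CC p G) :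
    ∀ n : ℕ, ∀ (G : Type u) [Group G] [Finite G], Nat.card G = n → HY p G → CC p G := by
  intro n
  induction n using Nat.strong_induction_on with
  | _ n ih =>
  intro G _ _ hGn h
  have hsub : ∀ L : Subgroup G, L ≠ ⊤ → CC p L := by
    intro L hL
    refine ih (Nat.card L) ?_ L rfl (h.sub L)
    rw [← hGn]
    refine lt_of_le_of_ne (Nat.le_of_dvd Nat.card_pos (Subgroup.card_subgroup_dvd_card L)) ?_
    exact fun e => hL (Subgroup.card_eq_iff_eq_top L |>.1 e)
  by_cases hpG : p ∣ Nat.card G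
  swap
  · exact Or.inl (H2.Basic.npc_of_not_dvd hpG)
  let P : Sylow p G := default
  obtain ⟨y, hy, m, hym, hPm⟩ := h.gen P
  obtain ⟨m, rfl⟩ : ∃ k, m = k + 1 := by
    cases m with
    | zero =>
      exfalso
      have h1 := P.dvd_card_of_dvd_card hpG
      rw [hPm, pow_zero] at h1
      exact hp.out.one_lt.ne' (Nat.dvd_one.1 h1)
    | succ k => exact ⟨k, rfl⟩
  by_cases hcore : pPrimeCore p G = ⊥
  swap
  · apply core_case h P hy hym
    refine ih _ ?_ _ rfl (h.quot _ ?_)
    · rw [← hGn, ← Subgroup.index_eq_card]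
      have h1 := (pPrimeCore p G).card_mul_index
      have h2 : 1 < Nat.card (pPrimeCore p G) := (Subgroup.one_lt_card_iff_ne_bot _).2 hcore
      have h3 : 0 < (pPrimeCore p G).index := Nat.pos_of_ne_zero (pPrimeCore p G).index_ne_zero_of_finite
      nlinarith
    · have := H11.Cores.pPrimeCore_coprime (G := G) p
      exact (Nat.Prime.coprime_iff_not_dvd hp.out).1 this.symm
  by_cases hsimple : IsSimpleGroup G
  · exact hs G h hsimple hsub
  have hnt : Nontrivial G := by
    rw [← Finite.one_lt_card_iff_nontrivial]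
    exact lt_of_lt_of_le hp.out.one_lt (Nat.le_of_dvd Nat.card_pos hpG)
  obtain ⟨N, hN, hNb, hNt⟩ : ∃ N : Subgroup G, N.Normal ∧ N ≠ ⊥ ∧ N ≠ ⊤ := by
    by_contra hcon
    push_neg at hcon
    exact hsimple ⟨fun N hN => by
      by_cases hb : N = ⊥
      · exact Or.inl hb
      · exact Or.inr (hcon N hN hb)⟩
  obtain ⟨R, hR, hRb, hRp⟩ : ∃ R : Subgroup G, R.Normal ∧ R ≠ ⊥ ∧ IsPGroup p R := by
    rcases hsub N hNt with h1 | ⟨Q, hQ⟩
    · exact ⟨N, hN, hNb, core_bot_of_npc hcore hN.isSubnormal h1⟩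
    · refine ⟨_, normal_of_sub hN Q hQ, ?_, Q.isPGroup'.map _⟩
      intro hb
      rw [map_eq_bot_iff_of_injective _ N.subtype_injective] at hb
      have h2 : ¬ p ∣ Nat.card N := by
        intro hd
        have h3 := Q.dvd_card_of_dvd_card hd
        rw [hb, Subgroup.card_bot] at h3
        exact hp.out.one_lt.ne' (Nat.dvd_one.1 h3)
      have h3 : N ≤ pPrimeCore p G := H11.Cores.le_pPrimeCore_of_isSubnormal p hN.isSubnormal
        ((Nat.Prime.coprime_iff_not_dvd hp.out).2 h2).symm
      rw [hcore] at h3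
      exact hNb (le_bot_iff.1 h3)
  set y1 := y ^ (p ^ m) with hy1
  have hy1o : orderOf y1 = p := exists_y1 hym
  have hRP : R ≤ (P : Subgroup G) := by
    have h1 : IsPGroup p ((P : Subgroup G) ⊔ R : Subgroup G) := P.isPGroup'.to_sup_of_normal_right hRp
    have := P.is_maximal' h1 le_sup_left
    rw [← this]; exact le_sup_right
  have hy1R : y1 ∈ R := by
    obtain ⟨j, hj⟩ := IsPGroup.iff_card.1 hRp
    have hj0 : j ≠ 0 := by
      rintro rfl
      rw [pow_zero] at hj
      exact hRb (Subgroup.card_eq_one.1 hj)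
    have hd : p ∣ Nat.card R := by rw [hj]; exact dvd_pow_self p hj0
    obtain ⟨r, hr⟩ := exists_prime_orderOf_dvd_card' p hd
    have hr' : orderOf (r : G) = p := by rw [Subgroup.orderOf_coe]; exact hr
    have h2 : (r : G) ∈ zpowers y1 := mem_y1 hym (by rw [hy]; exact hRP r.2) (by rw [← hr']; exact pow_orderOf_eq_one _)
    have h3 : zpowers (r : G) = zpowers y1 := by
      apply Subgroup.eq_of_le_of_card_ge (zpowers_le.2 h2)
      rw [Nat.card_zpowers, Nat.card_zpowers, hr', hy1o]
    have h4 : y1 ∈ zpowers (r : G) := by rw [h3]; exact mem_zpowers y1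
    exact (zpowers_le.2 r.2) h4
  have hy1n : (zpowers y1).Normal := by
    refine ⟨fun x hx g => ?_⟩
    apply mem_y1 hym
    · rw [hy]
      exact hRP (hR.conj_mem x ((zpowers_le.2 hy1R) hx) g)
    · have h1 : x ^ p = 1 := by
        obtain ⟨c, rfl⟩ := mem_zpowers_iff.1 hx
        rw [← zpow_natCast, ← zpow_mul, mul_comm, zpow_mul, zpow_natCast, ← hy1o, pow_orderOf_eq_one, one_zpow]
      rw [conj_pow, h1, mul_one, mul_inv_cancel]
  set C := centralizer (zpowers y1 : Set G) with hC
  have hCn : C.Normal := inferInstance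
  have hPC : (P : Subgroup G) ≤ C := by
    intro a ha
    rw [hC, mem_centralizer_iff]
    intro b hb
    exact h.pab P b (hRP ((zpowers_le.2 hy1R) hb)) a ha
  by_cases hCt : C = ⊤
  · left
    apply burn P (h.pab P)
    intro g hg hgp
    apply comm_of_gen hy
    apply comm_of_y1 hym (by rw [hy]; exact hg) hgp
    have hgC : g ∈ C := by rw [hCt]; trivial
    exact ((mem_centralizer_iff.1 hgC) y1 (mem_zpowers y1)).symm
  · right
    refine ⟨P, ?_⟩
    rcases hsub C hCt with h1 | ⟨Q, hQ⟩
    · have h2 := core_bot_of_npc hcore hCn.isSubnormal h1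
      have h3 := P.is_maximal' h2 hPC
      rw [← h3]; exact hCn
    · have h1 := normal_of_sub hCn Q hQ
      have h2 : Q = P.subtype hPC := by
        haveI := Q.unique_of_normal hQ
        exact Subsingleton.elim _ _
      rw [h2, Sylow.coe_subtype, map_subgroupOf_eq_of_le hPC] at h1
      exact h1

end Cfsg.Agent.H12.CY
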