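import Cfsg.Agent.H12_CY2

set_option autoImplicit false
set_option linter.all false

/-!
Cyclic Sylow `p`-subgroups and abelian `p'`-subgroups: the simple case, basic facts.
-/

namespace Cfsg.Agent.H12.CY

open Subgroup
open scoped commutatorElement
open Cfsg Cfsg.Agent

universe u

variable {G : Type u} [Group G] [Finite G] {p : ℕ} [hp : Fact p.Prime]

structure Ctx (p : ℕ) (G : Type u) [Group G] : Prop where
  hy : HY p G
  simple : IsSimpleGroup G
  odd : p ≠ 2
  sub : ∀ L : Subgroup G, L ≠ ⊤ → CC p L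
  ncc : ¬ CC p G

theorem eq_one_of_coprime {x : G} {n : ℕ} (h1 : orderOf x = p ^ n) (h2 : (orderOf x).Coprime p) : x = 1 := by
  have h3 : (p ^ n).Coprime (p ^ n) := by
    rw [h1] at h2; exact h2.pow_right n
  rw [Nat.coprime_self] at h3
  rw [h3] at h1
  exact orderOf_eq_one_iff.1 h1

theorem pelt (P : Sylow p G) {x : G} (hx : x ∈ (P : Subgroup G)) : ∃ n, orderOf x = p ^ n := by
  obtain ⟨n, hn⟩ := IsPGroup.iff_orderOf.1 P.isPGroup' ⟨x, hx⟩
  exact ⟨n, by rw [← hn, ← Subgroup.orderOf_coe]⟩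

namespace Ctx
variable (c : Ctx p G)
include c

theorem dvd : p ∣ Nat.card G := by
  by_contra h
  exact c.ncc (Or.inl (H2.Basic.npc_of_not_dvd h))

theorem gen' (P : Sylow p G) : ∃ y : G, zpowers y = (P : Subgroup G) ∧ ∃ n, orderOf y = p ^ (n + 1) := by
  obtain ⟨y, hy, m, hym, hPm⟩ := c.hy.gen P
  cases m with
  | zero =>
    exfalso
    have h1 := P.dvd_card_of_dvd_card c.dvd
    rw [hPm, pow_zero] at h1
    exact hp.out.one_lt.ne' (Nat.dvd_one.1 h1)
  | succ k => exact ⟨y, hy, k, hym⟩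

theorem g0 (P : Sylow p G) {y : G} (hy : zpowers y = (P : Subgroup G)) :
    ∃ g ∈ normalizer ((P : Subgroup G) : Set G), (orderOf g).Coprime p ∧ g * y ≠ y * g := by
  by_contra hcon
  push_neg at hcon
  exact c.ncc (Or.inl (burn P (c.hy.pab P) (fun g hg hgp => comm_of_gen hy (hcon g hg hgp))))

theorem not_ab : ¬ ∀ a b : G, a * b = b * a := by
  intro h
  apply c.ncc
  right
  refine ⟨default, ⟨fun n hn g => ?_⟩⟩
  rw [h g n, mul_inv_cancel_right]; exact hn

theorem norm_ne_top (P : Sylow p G) : normalizer ((P : Subgroup G) : Set G) ≠ ⊤ := by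
  intro h
  exact c.ncc (Or.inr ⟨P, normalizer_eq_top_iff.1 h⟩)

theorem zp_norm_ne_top {x : G} (hx : x ≠ 1) : normalizer ((zpowers x : Subgroup G) : Set G) ≠ ⊤ := by
  intro h
  have hn : (zpowers x).Normal := normalizer_eq_top_iff.1 h
  haveI := c.simple
  rcases hn.eq_bot_or_eq_top with h1 | h1
  · exact hx (zpowers_eq_bot.1 h1)
  · apply c.not_ab
    intro a b
    have ha : a ∈ zpowers x := by rw [h1]; trivial
    have hb : b ∈ zpowers x := by rw [h1]; trivial
    obtain ⟨i, rfl⟩ := mem_zpowers_iff.1 ha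
    obtain ⟨j, rfl⟩ := mem_zpowers_iff.1 hb
    rw [← zpow_add, ← zpow_add, add_comm]

theorem cent_ne_top {x : G} (hx : x ≠ 1) : centralizer ({x} : Set G) ≠ ⊤ := by
  intro h
  apply c.zp_norm_ne_top hx
  rw [eq_top_iff]
  intro g _
  have hg : g ∈ centralizer ({x} : Set G) := by rw [h]; trivial
  have hg' := mem_centralizer_singleton_iff.1 hg
  rw [mem_normalizer_iff]
  have e : ∀ g : G, g * x = x * g → ∀ n ∈ zpowers x, g * n * g⁻¹ = n := by
    intro g hgx n hn
    obtain ⟨i, rfl⟩ := mem_zpowers_iff.1 hn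
    have : g * x ^ i = x ^ i * g := (Commute.zpow_right (show Commute g x from hgx) i)
    rw [this, mul_inv_cancel_right]
  intro n
  constructor
  · intro hn; rw [e g hg' n hn]; exact hn
  · intro hn
    have h3 := e g⁻¹ (by
      have : Commute g⁻¹ x := (show Commute g x from hg').inv_left
      exact this) _ hn
    have e4 : g⁻¹ * (g * n * g⁻¹) * g⁻¹⁻¹ = n := by group
    rw [e4] at h3
    rw [h3]; exact hn

theorem f2 (P : Sylow p G) {y : G} (hy : zpowers y = (P : Subgroup G)) {g : G}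
    (hg : g ∈ normalizer ((P : Subgroup G) : Set G)) (hgp : (orderOf g).Coprime p) (hgy : g * y ≠ y * g)
    {L : Subgroup G} (hL : L ≠ ⊤) (hPL : (P : Subgroup G) ≤ L) (hgL : g ∈ L) :
    L ≤ normalizer ((P : Subgroup G) : Set G) := by
  rcases c.sub L hL with h1 | ⟨Q, hQ⟩
  · exfalso
    obtain ⟨M, hM, hMp, k, hk⟩ := H2.Basic.npc_iff.1 h1
    have hyP : y ∈ (P : Subgroup G) := by rw [← hy]; exact mem_zpowers y
    set g' : L := ⟨g, hgL⟩
    set y' : L := ⟨y, hPL hyP⟩
    have h2 : g' ∈ M := (H2.Basic.mem_npc_iff hMp hk g').2 (by rw [← Subgroup.orderOf_coe]; exact hgp)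
    have h3 : ⁅g', y'⁆ ∈ M := by
      rw [commutatorElement_def]
      have : g' * y' * g'⁻¹ * y'⁻¹ = g' * (y' * g'⁻¹ * y'⁻¹) := by group
      rw [this]
      exact M.mul_mem h2 (hM.conj_mem _ (M.inv_mem h2) y')
    have h4 : ((⁅g', y'⁆ : L) : G) ∈ (P : Subgroup G) := by
      show g * y * g⁻¹ * y⁻¹ ∈ (P : Subgroup G)
      exact mul_mem ((mem_normalizer_iff.1 hg y).1 hyP) (inv_mem hyP)
    obtain ⟨n, hn⟩ := pelt P h4
    have h5 := (H2.Basic.mem_npc_iff hMp hk _).1 h3
    rw [← Subgroup.orderOf_coe] at h5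
    have h6 := eq_one_of_coprime hn h5
    apply hgy
    have h7 : g * y * g⁻¹ * y⁻¹ = 1 := h6
    rw [mul_inv_eq_one, mul_inv_eq_iff_eq_mul] at h7
    exact h7
  · have h2 : Q = P.subtype hPL := by
      haveI := Q.unique_of_normal hQ
      exact Subsingleton.elim _ _
    rw [h2, Sylow.coe_subtype] at hQ
    exact (normal_subgroupOf_iff_le_normalizer hPL).1 hQ

/-- normalizers of subgroups of order `p` -/
theorem f4 (P : Sylow p G) {x : G} (hx : x ∈ (P : Subgroup G)) (hxp : orderOf x = p) :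
    normalizer ((zpowers x : Subgroup G) : Set G) = normalizer ((P : Subgroup G) : Set G) := by
  obtain ⟨y, hy, n, hn⟩ := c.gen' P
  obtain ⟨g, hg, hgp, hgy⟩ := c.g0 P hy
  have hx1 : x ≠ 1 := by
    rintro rfl
    rw [orderOf_one] at hxp
    exact hp.out.one_lt.ne hxp
  have hle : normalizer ((P : Subgroup G) : Set G) ≤ normalizer ((zpowers x : Subgroup G) : Set G) := by
    have key : ∀ a ∈ normalizer ((P : Subgroup G) : Set G), ∀ b ∈ zpowers x, a * b * a⁻¹ ∈ zpowers x := by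
      intro a ha b hb
      have e : zpowers x = zpowers (y ^ (p ^ n)) := by
        apply Subgroup.eq_of_le_of_card_ge
        · rw [zpowers_le]
          exact mem_y1 hn (by rw [hy]; exact hx) (by rw [← hxp]; exact pow_orderOf_eq_one _)
        · rw [Nat.card_zpowers, Nat.card_zpowers, hxp, exists_y1 hn]
      rw [e]
      apply mem_y1 hn
      · rw [hy]
        exact (mem_normalizer_iff.1 ha b).1 ((zpowers_le.2 hx) hb)
      · obtain ⟨i, rfl⟩ := mem_zpowers_iff.1 hb
        rw [conj_pow, ← zpow_natCast, ← zpow_mul, mul_comm, zpow_mul, zpow_natCast, ← hxp, pow_orderOf_eq_one,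
          one_zpow, mul_one, mul_inv_cancel]
    intro a ha
    rw [mem_normalizer_iff]
    intro b
    refine ⟨key a ha b, fun hb => ?_⟩
    have h3 := key a⁻¹ (inv_mem ha) _ hb
    have e4 : a⁻¹ * (a * b * a⁻¹) * a⁻¹⁻¹ = b := by group
    rwa [e4] at h3
  apply le_antisymm _ hle
  apply c.f2 P hy hg hgp hgy (c.zp_norm_ne_top hx1)
  · exact le_normalizer.trans hle
  · exact hle hg

theorem mem_norm_of_comm (P : Sylow p G) {x : G} (hx : x ∈ (P : Subgroup G)) (hxp : orderOf x = p) {g : G}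
    (hg : g * x = x * g) : g ∈ normalizer ((P : Subgroup G) : Set G) := by
  rw [← c.f4 P hx hxp]
  have e : ∀ g : G, g * x = x * g → ∀ n ∈ zpowers x, g * n * g⁻¹ = n := by
    intro g hgx n hn
    obtain ⟨i, rfl⟩ := mem_zpowers_iff.1 hn
    have : g * x ^ i = x ^ i * g := (Commute.zpow_right (show Commute g x from hgx) i)
    rw [this, mul_inv_cancel_right]
  rw [mem_normalizer_iff]
  intro n
  constructor
  · intro hn; rw [e g hg n hn]; exact hn
  · intro hn
    have h3 := e g⁻¹ (by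
      have : Commute g⁻¹ x := (show Commute g x from hg).inv_left
      exact this) _ hn
    have e4 : g⁻¹ * (g * n * g⁻¹) * g⁻¹⁻¹ = n := by group
    rw [e4] at h3
    rw [h3]; exact hn

theorem f6 (P : Sylow p G) {x : G} (hx : x ∈ (P : Subgroup G)) (hxp : orderOf x = p) {g : G}
    (hg : g * x = x * g) (hgp : (orderOf g).Coprime p) : ∀ a ∈ (P : Subgroup G), g * a = a * g := by
  obtain ⟨y, hy, n, hn⟩ := c.gen' P
  have h1 := c.mem_norm_of_comm P hx hxp hg
  apply comm_of_gen hy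
  apply comm_of_y1 hn (by rw [hy]; exact h1) hgp
  have e : zpowers x = zpowers (y ^ (p ^ n)) := by
    apply Subgroup.eq_of_le_of_card_ge
    · rw [zpowers_le]
      exact mem_y1 hn (by rw [hy]; exact hx) (by rw [← hxp]; exact pow_orderOf_eq_one _)
    · rw [Nat.card_zpowers, Nat.card_zpowers, hxp, exists_y1 hn]
  have h2 : y ^ (p ^ n) ∈ zpowers x := by rw [e]; exact mem_zpowers _
  exact comm_of_gen rfl hg _ h2

/-- `N(P)/P` is abelian -/
theorem f7 (P : Sylow p G) : ∀ a ∈ normalizer ((P : Subgroup G) : Set G), ∀ b ∈ normalizer ((P : Subgroup G) : Set G),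
    ⁅a, b⁆ ∈ (P : Subgroup G) := by
  set N := normalizer ((P : Subgroup G) : Set G) with hN
  have hPN : (P : Subgroup G) ≤ N := le_normalizer
  haveI hn : ((P : Subgroup G).subgroupOf N).Normal := (normal_subgroupOf_iff_le_normalizer hPN).2 le_rfl
  have hco : (Nat.card ((P : Subgroup G).subgroupOf N)).Coprime ((P : Subgroup G).subgroupOf N).index := by
    have h1 := (P.subtype hPN).card_coprime_index
    exact h1
  obtain ⟨H, hH⟩ := Subgroup.exists_right_complement'_of_coprime hco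
  have hHp : ¬ p ∣ Nat.card (H.map N.subtype) := by
    rw [card_map_of_injective N.subtype_injective, ← hH.symm.index_eq_card]
    exact (P.subtype hPN).not_dvd_index
  have key : ∀ a ∈ N, ∃ q ∈ (P : Subgroup G), ∃ h ∈ H.map N.subtype, a = q * h := by
    intro a ha
    obtain ⟨⟨q, h⟩, e⟩ := hH.surjective ⟨a, ha⟩
    exact ⟨q.1, q.2, h.1, ⟨h.1, h.2, rfl⟩, (congrArg Subtype.val e).symm⟩
  intro a ha b hb
  obtain ⟨q, hq, h, hh, rfl⟩ := key a ha
  obtain ⟨r, hr, k, hk, rfl⟩ := key b hb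
  have hhN : h ∈ N := by obtain ⟨z, hz, rfl⟩ := hh; exact z.2
  have hkN : k ∈ N := by obtain ⟨z, hz, rfl⟩ := hk; exact z.2
  have hcm : h * k = k * h := c.hy.ab _ hHp h hh k hk
  have e : ⁅q * h, r * k⁆ = q * (h * r * h⁻¹) * (k * q⁻¹ * k⁻¹) * r⁻¹ := by
    rw [commutatorElement_def]
    calc q * h * (r * k) * (q * h)⁻¹ * (r * k)⁻¹ = q * (h * r * h⁻¹) * (h * k) * h⁻¹ * q⁻¹ * k⁻¹ * r⁻¹ := by group
      _ = q * (h * r * h⁻¹) * (k * h) * h⁻¹ * q⁻¹ * k⁻¹ * r⁻¹ := by rw [hcm]
      _ = _ := by group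
  rw [e]
  exact mul_mem (mul_mem (mul_mem hq ((mem_normalizer_iff.1 hhN r).1 hr)) ((mem_normalizer_iff.1 hkN _).1 (inv_mem hq))) (inv_mem hr)

/-- `p'`-elements centralizing `P` are central in `N(P)` -/
theorem f8a (P : Sylow p G) {k : G} (hkp : (orderOf k).Coprime p) (hk : ∀ a ∈ (P : Subgroup G), k * a = a * k) :
    ∀ g ∈ normalizer ((P : Subgroup G) : Set G), g * k = k * g := by
  intro g hg
  have hkN : k ∈ normalizer ((P : Subgroup G) : Set G) := by
    obtain ⟨y, hy, n, hn⟩ := c.gen' P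
    have h1 : y ^ (p ^ n) ∈ (P : Subgroup G) := by rw [← hy]; exact pow_mem (mem_zpowers y) _
    exact c.mem_norm_of_comm P h1 (exists_y1 hn) (hk _ h1)
  have h1 := c.f7 P g hg k hkN
  set d := ⁅g, k⁆ with hd
  have h2 : g * k * g⁻¹ = d * k := by rw [hd, commutatorElement_def]; group
  have h3 : Commute d k := (hk d h1).symm
  have h4 : d ^ orderOf k = 1 := by
    have e1 : (d * k) ^ orderOf k = 1 := by
      rw [← h2, conj_pow, pow_orderOf_eq_one, mul_one, mul_inv_cancel]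
    rw [h3.mul_pow, pow_orderOf_eq_one, mul_one] at e1
    exact e1
  obtain ⟨n, hn⟩ := pelt P h1
  have h5 : d = 1 := eq_one_of_coprime hn (Nat.Coprime.coprime_dvd_left (orderOf_dvd_of_pow_eq_one h4) hkp)
  rw [h5, one_mul, mul_inv_eq_iff_eq_mul] at h2
  exact h2

theorem f8 (P : Sylow p G) {k : G} (hk1 : k ≠ 1) (hkp : (orderOf k).Coprime p) (hk : ∀ a ∈ (P : Subgroup G), k * a = a * k) :
    centralizer ({k} : Set G) = normalizer ((P : Subgroup G) : Set G) := by
  obtain ⟨y, hy, n, hn⟩ := c.gen' P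
  obtain ⟨g, hg, hgp, hgy⟩ := c.g0 P hy
  apply le_antisymm
  · apply c.f2 P hy hg hgp hgy (c.cent_ne_top hk1)
    · intro a ha
      exact mem_centralizer_singleton_iff.2 (hk a ha).symm
    · exact mem_centralizer_singleton_iff.2 (c.f8a P hkp hk g hg)
  · intro a ha
    exact mem_centralizer_singleton_iff.2 (c.f8a P hkp hk a ha)

theorem two_coprime : (2 : ℕ).Coprime p := (Nat.coprime_primes Nat.prime_two hp.out).2 (Ne.symm c.odd)

/-- involutions of `N(P)` centralize or invert `P` -/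
theorem inv_or (P : Sylow p G) {s : G} (hs : orderOf s = 2) (hsN : s ∈ normalizer ((P : Subgroup G) : Set G)) :
    (∀ a ∈ (P : Subgroup G), s * a = a * s) ∨ (∀ a ∈ (P : Subgroup G), s * a * s⁻¹ = a⁻¹) := by
  obtain ⟨y, hy, n, hn⟩ := c.gen' P
  obtain ⟨k, hk⟩ := conj_gen hy hsN
  by_cases hd : (p : ℤ) ∣ k - 1
  · left
    exact comm_of_gen hy (lemZ hn hk hd (by rw [hs]; exact c.two_coprime))
  · right
    have hss : s * s = 1 := by rw [← pow_two, ← hs]; exact pow_orderOf_eq_one s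
    have h1 : y ^ (k * k) = y := by
      calc y ^ (k * k) = (s * y * s⁻¹) ^ k := by rw [hk, zpow_mul]
        _ = s * y ^ k * s⁻¹ := conj_zpow
        _ = s * (s * y * s⁻¹) * s⁻¹ := by rw [hk]
        _ = (s * s) * y * (s * s)⁻¹ := by group
        _ = y := by rw [hss]; simp
    have h2 : y ^ ((k - 1) * (k + 1)) = 1 := by
      have : (k - 1) * (k + 1) = k * k - 1 := by ring
      rw [this, zpow_sub_one, h1, mul_inv_cancel]
    have h3 := orderOf_dvd_iff_zpow_eq_one.2 h2
    rw [hn] at h3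
    push_cast at h3
    have h4 : Prime (p : ℤ) := Nat.prime_iff_prime_int.1 hp.out
    have h5 : IsCoprime ((p : ℤ) ^ (n + 1)) (k - 1) := ((Prime.coprime_iff_not_dvd h4).2 hd).pow_left
    have h6 : (p : ℤ) ^ (n + 1) ∣ k + 1 := h5.dvd_of_dvd_mul_left h3
    have h7 : y ^ (k + 1) = 1 := orderOf_dvd_iff_zpow_eq_one.1 (by rw [hn]; exact_mod_cast h6)
    have h8 : y ^ k = y⁻¹ := by
      rw [zpow_add_one] at h7; exact eq_inv_of_mul_eq_one_left h7
    intro a ha
    rw [← hy] at ha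
    obtain ⟨i, rfl⟩ := mem_zpowers_iff.1 ha
    rw [← conj_zpow, hk, h8, inv_zpow]

/-- 2-subgroups are abelian -/
theorem two_ab (S : Sylow 2 G) : ∀ a ∈ (S : Subgroup G), ∀ b ∈ (S : Subgroup G), a * b = b * a := by
  haveI : Fact (Nat.Prime 2) := ⟨Nat.prime_two⟩
  apply c.hy.ab
  intro hd
  obtain ⟨n, hn⟩ := IsPGroup.iff_card.1 S.isPGroup'
  rw [hn] at hd
  exact c.odd ((Nat.prime_dvd_prime_iff_eq hp.out Nat.prime_two).1 (hp.out.dvd_of_dvd_pow hd))

/-- Burnside at the prime 2 -/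
theorem burn2 (S : Sylow 2 G) (h2 : 2 ∣ Nat.card G) : ∃ g ∈ normalizer ((S : Subgroup G) : Set G),
    ¬ ∀ a ∈ (S : Subgroup G), g * a = a * g := by
  haveI : Fact (Nat.Prime 2) := ⟨Nat.prime_two⟩
  by_contra hcon
  push_neg at hcon
  have h1 := burn S (c.two_ab S) (fun g hg _ => hcon g hg)
  obtain ⟨M, hM, hMp, k, hk⟩ := H2.Basic.npc_iff.1 h1
  haveI := c.simple
  rcases hM.eq_bot_or_eq_top with h3 | h3
  · rw [h3, index_bot] at hk
    have h4 := c.dvd
    rw [hk] at h4
    exact c.odd ((Nat.prime_dvd_prime_iff_eq hp.out Nat.prime_two).1 (hp.out.dvd_of_dvd_pow h4))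
  · rw [h3] at hMp
    apply hMp
    rw [Subgroup.card_top]; exact h2

end Ctx

end Cfsg.Agent.H12.CY
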