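import Mathlib
import Cfsg.Agent.H10_CycTI

/-! PF §13: Fourier analysis on an abelian subgroup and the variance formula -/

set_option autoImplicit false
set_option linter.style.haveILetI false
set_option linter.unusedSectionVars false

namespace Cfsg.Agent.H12.P13

open Cfsg Cfsg.Agent.H3.CharIrr Cfsg.Agent.H3.CharComplete Cfsg.Agent.H3.CharInd
  Cfsg.Agent.H3.CharBasic Cfsg.Agent.H10.Char Cfsg.Agent.H10.CycTI
open scoped ComplexConjugate

section Comb

variable {I : Type*} [Fintype I] [DecidableEq I]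

/-- sum over all pairs -/
def pairs (n : I → ℤ) : ℤ := ∑ i, ∑ j, (n i - n j) ^ 2

theorem pairs_eq (n : I → ℤ) : pairs n = 2 * ((Fintype.card I : ℤ) * ∑ i, n i ^ 2 - (∑ i, n i) ^ 2) := by
  have h : ∀ i, ∑ j, (n i - n j) ^ 2 = (Fintype.card I : ℤ) * n i ^ 2 - 2 * n i * ∑ j, n j + ∑ j, n j ^ 2 := by
    intro i
    have : ∀ j, (n i - n j) ^ 2 = n i ^ 2 - 2 * n i * n j + n j ^ 2 := fun j => by ring
    rw [Finset.sum_congr rfl fun j _ => this j, Finset.sum_add_distrib, Finset.sum_sub_distrib, Finset.sum_const,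
      Finset.card_univ, nsmul_eq_mul, Finset.mul_sum]
  rw [pairs, Finset.sum_congr rfl fun i _ => h i, Finset.sum_add_distrib, Finset.sum_sub_distrib, Finset.sum_const,
    Finset.card_univ, nsmul_eq_mul, ← Finset.mul_sum, ← Finset.sum_mul, ← Finset.mul_sum]
  ring

theorem sq_pos_int {a : ℤ} (h : a ≠ 0) : 1 ≤ a ^ 2 := by
  have := Int.one_le_abs h
  have h2 : a ^ 2 = |a| ^ 2 := (sq_abs a).symm
  nlinarith

/-- `n = b + 1` or more generally `≠ b` on `O`, `= b` on `Θ \ O`, at least `|O|` of these -/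
theorem pairs_ge (n : I → ℤ) (O Θ : Finset I) (hO : O ⊆ Θ) (b a : ℤ) (ha : a ≠ 0) (h1 : ∀ i ∈ O, n i = b + a)
    (h2 : ∀ i ∈ Θ \ O, n i = b) (hc : O.card ≤ (Θ \ O).card) :
    2 * (O.card : ℤ) * ((Fintype.card I : ℤ) - O.card) ≤ pairs n := by
  classical
  set Q := Θ \ O with hQ
  have hdOQ : Disjoint O Q := Finset.disjoint_sdiff
  have hdOQ2 : ∀ i ∈ Q, i ∉ O := fun i hi => (Finset.mem_sdiff.1 hi).2
  set B : Finset I := Finset.univ \ Θ with hB
  have ha1 := sq_pos_int ha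
  -- rows
  have rowO : ∀ i ∈ O, (((Fintype.card I : ℤ) - O.card)) - (B.card : ℤ) + ∑ j ∈ B, (n i - n j) ^ 2 ≤ ∑ j, (n i - n j) ^ 2 := by
    intro i hi
    have hcard : (Fintype.card I : ℤ) = O.card + Q.card + B.card := by
      have e1 : (Finset.univ : Finset I) = Θ ∪ B := by rw [hB, Finset.union_sdiff_of_subset (Finset.subset_univ _)]
      have e2 : Θ = O ∪ Q := by rw [hQ, Finset.union_sdiff_of_subset hO]
      have e3 : (Finset.univ : Finset I).card = Θ.card + B.card := by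
        rw [e1]; exact Finset.card_union_of_disjoint (Finset.disjoint_sdiff)
      have e4 : Θ.card = O.card + Q.card := by
        nth_rw 1 [e2]; exact Finset.card_union_of_disjoint hdOQ
      rw [← Finset.card_univ, e3, e4]
      push_cast; ring
    have hsplit : ∑ j ∈ Q, (n i - n j) ^ 2 + ∑ j ∈ B, (n i - n j) ^ 2 ≤ ∑ j, (n i - n j) ^ 2 := by
      have hd : Disjoint Q B := by
        rw [Finset.disjoint_left]
        intro x hx hx'
        exact (Finset.mem_sdiff.1 hx').2 (Finset.mem_sdiff.1 hx).1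
      rw [← Finset.sum_union hd]
      exact Finset.sum_le_sum_of_subset_of_nonneg (Finset.subset_univ _) fun _ _ _ => sq_nonneg _
    have hQs : (Q.card : ℤ) ≤ ∑ j ∈ Q, (n i - n j) ^ 2 := by
      have : ∀ j ∈ Q, (1 : ℤ) ≤ (n i - n j) ^ 2 := by
        intro j hj
        rw [h1 i hi, h2 j hj, add_sub_cancel_left]
        exact ha1
      have h3 := Finset.sum_le_sum this
      rwa [Finset.sum_const, nsmul_eq_mul, mul_one] at h3
    linarith
  have rowQ : ∀ i ∈ Q, (O.card : ℤ) + ∑ j ∈ B, (n i - n j) ^ 2 ≤ ∑ j, (n i - n j) ^ 2 := by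
    intro i hi
    have hsplit : ∑ j ∈ O, (n i - n j) ^ 2 + ∑ j ∈ B, (n i - n j) ^ 2 ≤ ∑ j, (n i - n j) ^ 2 := by
      have hd : Disjoint O B := by
        rw [Finset.disjoint_left]
        intro x hx hx'
        exact (Finset.mem_sdiff.1 hx').2 (hO hx)
      rw [← Finset.sum_union hd]
      exact Finset.sum_le_sum_of_subset_of_nonneg (Finset.subset_univ _) fun _ _ _ => sq_nonneg _
    have hOs : (O.card : ℤ) ≤ ∑ j ∈ O, (n i - n j) ^ 2 := by
      have : ∀ j ∈ O, (1 : ℤ) ≤ (n i - n j) ^ 2 := by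
        intro j hj
        rw [h1 j hj, h2 i hi]
        have : (b - (b + a)) ^ 2 = a ^ 2 := by ring
        rw [this]; exact ha1
      have h3 := Finset.sum_le_sum this
      rwa [Finset.sum_const, nsmul_eq_mul, mul_one] at h3
    linarith
  -- interaction of `B` with `Θ`
  have rowB : ∀ i ∈ B, (O.card : ℤ) ≤ ∑ j ∈ O, (n i - n j) ^ 2 + ∑ j ∈ Q, (n i - n j) ^ 2 := by
    intro i hi
    by_cases hib : n i = b
    · have hOs : (O.card : ℤ) ≤ ∑ j ∈ O, (n i - n j) ^ 2 := by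
        have : ∀ j ∈ O, (1 : ℤ) ≤ (n i - n j) ^ 2 := by
          intro j hj
          rw [h1 j hj, hib]
          have : (b - (b + a)) ^ 2 = a ^ 2 := by ring
          rw [this]; exact ha1
        have h3 := Finset.sum_le_sum this
        rwa [Finset.sum_const, nsmul_eq_mul, mul_one] at h3
      have : 0 ≤ ∑ j ∈ Q, (n i - n j) ^ 2 := Finset.sum_nonneg fun _ _ => sq_nonneg _
      linarith
    · have hQs : (Q.card : ℤ) ≤ ∑ j ∈ Q, (n i - n j) ^ 2 := by
        have : ∀ j ∈ Q, (1 : ℤ) ≤ (n i - n j) ^ 2 := by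
          intro j hj
          rw [h2 j hj]
          exact sq_pos_int (sub_ne_zero.2 hib)
        have h3 := Finset.sum_le_sum this
        rwa [Finset.sum_const, nsmul_eq_mul, mul_one] at h3
      have : 0 ≤ ∑ j ∈ O, (n i - n j) ^ 2 := Finset.sum_nonneg fun _ _ => sq_nonneg _
      have hc' : (O.card : ℤ) ≤ Q.card := by exact_mod_cast hc
      linarith
  have tot : pairs n = ∑ i ∈ O, ∑ j, (n i - n j) ^ 2 + ∑ i ∈ Q, ∑ j, (n i - n j) ^ 2 + ∑ i ∈ B, ∑ j, (n i - n j) ^ 2 := by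
    have e1 : (Finset.univ : Finset I) = (O ∪ Q) ∪ B := by
      rw [hQ, Finset.union_sdiff_of_subset hO, hB, Finset.union_sdiff_of_subset (Finset.subset_univ _)]
    have hd1 : Disjoint (O ∪ Q) B := by
      rw [hQ, Finset.union_sdiff_of_subset hO]; exact Finset.disjoint_sdiff
    rw [pairs]
    conv_lhs => rw [e1]
    rw [Finset.sum_union hd1, Finset.sum_union hdOQ]
    rw [← e1]
  have symB : ∑ i ∈ O, ∑ j ∈ B, (n i - n j) ^ 2 + ∑ i ∈ Q, ∑ j ∈ B, (n i - n j) ^ 2 =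
      ∑ i ∈ B, (∑ j ∈ O, (n i - n j) ^ 2 + ∑ j ∈ Q, (n i - n j) ^ 2) := by
    rw [Finset.sum_add_distrib, Finset.sum_comm, Finset.sum_comm (s := Q)]
    congr 1
    · exact Finset.sum_congr rfl fun i _ => Finset.sum_congr rfl fun j _ => by ring
    · exact Finset.sum_congr rfl fun i _ => Finset.sum_congr rfl fun j _ => by ring
  have lowB : ∑ i ∈ B, (∑ j ∈ O, (n i - n j) ^ 2 + ∑ j ∈ Q, (n i - n j) ^ 2) ≤ ∑ i ∈ B, ∑ j, (n i - n j) ^ 2 := by
    refine Finset.sum_le_sum fun i _ => ?_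
    rw [← Finset.sum_union hdOQ]
    exact Finset.sum_le_sum_of_subset_of_nonneg (Finset.subset_univ _) fun _ _ _ => sq_nonneg _
  have sB := Finset.sum_le_sum rowB
  rw [Finset.sum_const, nsmul_eq_mul] at sB
  have sO := Finset.sum_le_sum rowO
  have sQ := Finset.sum_le_sum rowQ
  rw [Finset.sum_add_distrib, Finset.sum_const, nsmul_eq_mul] at sO sQ
  have hcard : (Fintype.card I : ℤ) = O.card + Q.card + B.card := by
    have e1 : (Finset.univ : Finset I) = Θ ∪ B := by rw [hB, Finset.union_sdiff_of_subset (Finset.subset_univ _)]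
    have e2 : Θ = O ∪ Q := by rw [hQ, Finset.union_sdiff_of_subset hO]
    have e3 : (Finset.univ : Finset I).card = Θ.card + B.card := by
      rw [e1]; exact Finset.card_union_of_disjoint (Finset.disjoint_sdiff)
    have e4 : Θ.card = O.card + Q.card := by
      nth_rw 1 [e2]; exact Finset.card_union_of_disjoint hdOQ
    rw [← Finset.card_univ, e3, e4]
    push_cast; ring
  rw [tot]
  nlinarith [sO, sQ, sB, symB, lowB, hcard]

/-- `n = b` on `Θ ≠ ∅`, `n i₀ ≠ b` -/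
theorem pairs_ge' (n : I → ℤ) (Θ : Finset I) (hΘ : Θ.Nonempty) (b : ℤ) (h1 : ∀ i ∈ Θ, n i = b) (i₀ : I) (h0 : n i₀ ≠ b) :
    2 * ((Fintype.card I : ℤ) - 1) ≤ pairs n := by
  classical
  -- a map `i ↦ partner i` for `i ≠ i₀`
  obtain ⟨t, ht⟩ := hΘ
  have hit : i₀ ≠ t := fun h => h0 (h ▸ h1 t ht)
  have key : ∀ i, i ≠ i₀ → 1 ≤ (if i = t then 0 else (n i - n t) ^ 2) + (n i - n i₀) ^ 2 := by
    intro i hi
    by_cases hib : n i = b
    · have : 1 ≤ (n i - n i₀) ^ 2 := sq_pos_int (by rw [hib]; exact sub_ne_zero.2 (Ne.symm h0))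
      split_ifs
      · linarith
      · have := sq_nonneg (n i - n t); linarith
    · have hne : i ≠ t := fun h => hib (h ▸ h1 t ht)
      rw [if_neg hne]
      have : 1 ≤ (n i - n t) ^ 2 := sq_pos_int (by rw [h1 t ht]; exact sub_ne_zero.2 hib)
      have := sq_nonneg (n i - n i₀); linarith
  have hsum : ((Fintype.card I : ℤ) - 1) ≤ ∑ i ∈ Finset.univ.erase i₀, ((if i = t then 0 else (n i - n t) ^ 2) + (n i - n i₀) ^ 2) := by
    have h3 := Finset.sum_le_sum (s := Finset.univ.erase i₀) (f := fun _ => (1 : ℤ)) (fun i hi => key i (Finset.ne_of_mem_erase hi))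
    rw [Finset.sum_const, nsmul_eq_mul, mul_one, Finset.card_erase_of_mem (Finset.mem_univ _), Finset.card_univ,
      Nat.cast_sub (Fintype.card_pos_iff.2 ⟨i₀⟩)] at h3
    exact_mod_cast h3
  -- compare with columns `t` and `i₀` and rows `t` and `i₀`
  have e1 : ∑ i ∈ Finset.univ.erase i₀, (if i = t then 0 else (n i - n t) ^ 2) = ∑ i ∈ (Finset.univ.erase i₀).erase t, (n i - n t) ^ 2 := by
    rw [Finset.sum_ite, Finset.sum_const_zero, zero_add]
    refine Finset.sum_congr ?_ fun _ _ => rfl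
    ext i
    simp [and_comm]
  rw [Finset.sum_add_distrib, e1] at hsum
  -- pairs n ≥ 2 * (that)
  have row : pairs n = ∑ j, (n i₀ - n j) ^ 2 + ∑ j, (n t - n j) ^ 2 + ∑ i ∈ (Finset.univ.erase i₀).erase t, ∑ j, (n i - n j) ^ 2 := by
    rw [pairs, ← Finset.add_sum_erase _ _ (Finset.mem_univ i₀), ← Finset.add_sum_erase (Finset.univ.erase i₀) _
      (Finset.mem_erase.2 ⟨hit.symm, Finset.mem_univ t⟩), add_assoc]
  have r1 : ∑ j, (n i₀ - n j) ^ 2 = ∑ i ∈ Finset.univ.erase i₀, (n i - n i₀) ^ 2 := by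
    rw [← Finset.add_sum_erase _ _ (Finset.mem_univ i₀), sub_self]
    simp only [ne_eq, OfNat.ofNat_ne_zero, not_false_eq_true, zero_pow, zero_add]
    exact Finset.sum_congr rfl fun j _ => by ring
  have r2 : ∑ j, (n t - n j) ^ 2 = (n t - n i₀) ^ 2 + ∑ i ∈ (Finset.univ.erase i₀).erase t, (n i - n t) ^ 2 := by
    rw [← Finset.add_sum_erase _ _ (Finset.mem_univ i₀), ← Finset.add_sum_erase (Finset.univ.erase i₀) _
      (Finset.mem_erase.2 ⟨hit.symm, Finset.mem_univ t⟩), sub_self]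
    simp only [ne_eq, OfNat.ofNat_ne_zero, not_false_eq_true, zero_pow, zero_add]
    congr 1
    exact Finset.sum_congr rfl fun j _ => by ring
  have r3 : ∑ i ∈ (Finset.univ.erase i₀).erase t, ((n i - n i₀) ^ 2 + (n i - n t) ^ 2) ≤
      ∑ i ∈ (Finset.univ.erase i₀).erase t, ∑ j, (n i - n j) ^ 2 := by
    refine Finset.sum_le_sum fun i _ => ?_
    have : ∑ j ∈ ({i₀, t} : Finset I), (n i - n j) ^ 2 ≤ ∑ j, (n i - n j) ^ 2 :=
      Finset.sum_le_sum_of_subset_of_nonneg (Finset.subset_univ _) fun _ _ _ => sq_nonneg _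
    rwa [Finset.sum_pair hit] at this
  have r4 : ∑ i ∈ Finset.univ.erase i₀, (n i - n i₀) ^ 2 = (n t - n i₀) ^ 2 + ∑ i ∈ (Finset.univ.erase i₀).erase t, (n i - n i₀) ^ 2 := by
    rw [← Finset.add_sum_erase (Finset.univ.erase i₀) _ (Finset.mem_erase.2 ⟨hit.symm, Finset.mem_univ t⟩)]
  rw [Finset.sum_add_distrib] at r3
  rw [row, r1, r2]
  linarith

end Comb

section Four

variable {A : Type*} [Group A] [Fintype A]

/-- Fourier coefficient -/
noncomputable def co (f : A → ℂ) (θ : A →* ℂˣ) : ℂ := classInner f (fun a => (θ a : ℂ))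

noncomputable instance : Fintype (A →* ℂˣ) := Fintype.ofFinite _

theorem co_eq (f : A → ℂ) (θ : A →* ℂˣ) : co f θ = (Nat.card A : ℂ)⁻¹ * ∑ a, f a * (θ a⁻¹ : ℂ) := by
  rw [co, classInner]
  congr 1
  exact Finset.sum_congr rfl fun a _ => by rw [cc_conj]

theorem inv_formula (hab : ∀ a b : A, a * b = b * a) (f : A → ℂ) (x : A) : f x = ∑ θ : A →* ℂˣ, co f θ * (θ x : ℂ) := by
  classical
  have hc : (Nat.card A : ℂ) ≠ 0 := Nat.cast_ne_zero.2 Nat.card_pos.ne'
  have h1 : ∑ θ : A →* ℂˣ, co f θ * (θ x : ℂ) = (Nat.card A : ℂ)⁻¹ * ∑ a, f a * ∑ θ : A →* ℂˣ, (θ (a⁻¹ * x) : ℂ) := by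
    simp only [co_eq, Finset.mul_sum, Finset.sum_mul]
    rw [Finset.sum_comm]
    refine Finset.sum_congr rfl fun a _ => Finset.sum_congr rfl fun θ _ => ?_
    rw [map_mul, Units.val_mul]; ring
  rw [h1]
  simp only [col_hom hab]
  rw [Finset.sum_eq_single x]
  · rw [inv_mul_cancel, if_pos rfl]
    field_simp
  · intro b _ hb
    rw [if_neg (fun h => hb (inv_mul_eq_one.1 h)), mul_zero]
  · intro h; exact absurd (Finset.mem_univ x) h

theorem parseval (hab : ∀ a b : A, a * b = b * a) (f : A → ℂ) :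
    ∑ x : A, ‖f x‖ ^ 2 = Nat.card A * ∑ θ : A →* ℂˣ, ‖co f θ‖ ^ 2 := by
  classical
  have hc : (Nat.card A : ℂ) ≠ 0 := Nat.cast_ne_zero.2 Nat.card_pos.ne'
  have h1 : ((∑ x : A, ‖f x‖ ^ 2 : ℝ) : ℂ) = ((Nat.card A * ∑ θ : A →* ℂˣ, ‖co f θ‖ ^ 2 : ℝ) : ℂ) := by
    push_cast
    have e1 : ∀ x, ((‖f x‖ : ℂ)) ^ 2 = conj (f x) * ∑ θ : A →* ℂˣ, co f θ * (θ x : ℂ) := by
      intro x
      rw [← inv_formula hab f x, Complex.conj_mul']
    have e2 : ∀ θ : A →* ℂˣ, ((‖co f θ‖ : ℂ)) ^ 2 = co f θ * conj (co f θ) := by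
      intro θ
      rw [Complex.mul_conj']
    rw [Finset.sum_congr rfl fun x _ => e1 x, Finset.sum_congr rfl fun θ _ => e2 θ]
    simp only [Finset.mul_sum]
    rw [Finset.sum_comm]
    refine Finset.sum_congr rfl fun θ _ => ?_
    have e3 : conj (co f θ) = (Nat.card A : ℂ)⁻¹ * ∑ x, conj (f x) * (θ x : ℂ) := by
      rw [co, classInner, map_mul, map_inv₀, Complex.conj_natCast, map_sum]
      congr 1
      exact Finset.sum_congr rfl fun x _ => by rw [map_mul, Complex.conj_conj]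
    rw [e3]
    have e4 : ∑ x, conj (f x) * (co f θ * (θ x : ℂ)) = co f θ * ∑ x, conj (f x) * (θ x : ℂ) := by
      rw [Finset.mul_sum]
      exact Finset.sum_congr rfl fun x _ => by ring
    rw [e4]
    field_simp
  exact_mod_cast h1

/-- the variance formula -/
theorem sum_ne_one (hab : ∀ a b : A, a * b = b * a) [DecidableEq A] (f : A → ℂ) (n : (A →* ℂˣ) → ℤ) (hn : ∀ θ, co f θ = n θ) :
    2 * ∑ x ∈ Finset.univ.erase (1 : A), ‖f x‖ ^ 2 = (pairs n : ℝ) := by
  have h1 := parseval hab f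
  rw [← Finset.add_sum_erase _ _ (Finset.mem_univ (1 : A))] at h1
  have h2 : f 1 = ((∑ θ, n θ : ℤ) : ℂ) := by
    rw [inv_formula hab f 1]
    push_cast
    exact Finset.sum_congr rfl fun θ _ => by rw [hn, map_one, Units.val_one, mul_one]
  have h3 : ∀ θ : A →* ℂˣ, ‖co f θ‖ ^ 2 = ((n θ ^ 2 : ℤ) : ℝ) := by
    intro θ
    rw [hn, Complex.norm_intCast, sq_abs]
    push_cast; ring
  have h4 : ‖f 1‖ ^ 2 = (((∑ θ, n θ) ^ 2 : ℤ) : ℝ) := by
    rw [h2, Complex.norm_intCast, sq_abs]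
    push_cast; ring
  rw [h4, Finset.sum_congr rfl fun θ _ => h3 θ] at h1
  have h5 : (Fintype.card (A →* ℂˣ) : ℤ) = Nat.card A := by
    rw [← Nat.card_eq_fintype_card, card_hom hab]
  rw [pairs_eq, h5]
  push_cast at h1 ⊢
  linarith

theorem card_dual (hab : ∀ a b : A, a * b = b * a) : Fintype.card (A →* ℂˣ) = Nat.card A := by
  rw [← Nat.card_eq_fintype_card, card_hom hab]

end Four

end Cfsg.Agent.H12.P13
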