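import Mathlib
import Cfsg.Agent.H12_P13a
import Cfsg.Agent.H10_PrD8
import Cfsg.Agent.S1517

/-! PF §13: characters induced from the abelian normal subgroup `F` -/

set_option autoImplicit false
set_option linter.style.haveILetI false
set_option linter.unusedSectionVars false

namespace Cfsg.Agent.H12.P13

open Cfsg Cfsg.Agent.H3.CharIrr Cfsg.Agent.H3.CharComplete Cfsg.Agent.H3.CharInd Cfsg.Agent.H3.CharMult
  Cfsg.Agent.H3.CharBasic Cfsg.Agent.H3.CharCalc Cfsg.Agent.H3.Clifford Cfsg.Agent.H3.CharInt Cfsg.Agent.H3.CharQuot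
  Cfsg.Agent.H10.CycTI Cfsg.Agent.H10.CycTI2 Cfsg.Agent.H10.CycTI3 Cfsg.Agent.H10.CycTI4 Cfsg.Agent.H10.PrD2
  Cfsg.Agent.H10.PrD3 Cfsg.Agent.H10.PrD4 Cfsg.Agent.H10.PrD5 Cfsg.Agent.H10.Dade Cfsg.Agent.H10.PM Cfsg.Agent.H10.Coh
  Cfsg.Agent.H10.Coh2 Cfsg.Agent.H10.Coh3 Cfsg.Agent.H10.Coh4 Cfsg.Agent.H10.IndSet2 Cfsg.Agent.H10.OOClif Cfsg.Agent.H10.PrD6
  Cfsg.Agent.H10.PrD7 Cfsg.Agent.H10.PrD8
open scoped ComplexConjugate

variable {G : Type*} [Group G]

/-- the function attached to a linear character -/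
def ch {A : Type*} [Group A] (θ : A →* ℂˣ) : A → ℂ := fun x => (θ x : ℂ)

/-- the abelian subgroup `F` -/
structure FD (L : Subgroup G) (K H F : Subgroup L) (W₁ : Subgroup G) (R : G → Subgroup G) : Prop where
  normal : F.Normal
  ab : ∀ a ∈ F, ∀ b ∈ F, a * b = b * a
  H_le : H ≤ F
  F_le : F ≤ K
  R_bot : ∀ a ∈ F, a ≠ 1 → R (a : G) = ⊥
  prime : (Nat.card W₁).Prime
  stab : ∀ θ : ↥F →* ℂˣ, (∃ h : F, (h : L) ∈ H ∧ θ h ≠ 1) →
     (∀ w ∈ W₁.subgroupOf L, ∀ x : F, θ ⟨w * x * w⁻¹, normal.conj_mem x x.2 w⟩ = θ x) →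
     ∀ k ∈ K, (∀ x : F, θ ⟨k * x * k⁻¹, normal.conj_mem x x.2 k⟩ = θ x) → k ∈ F

/-- fully supported characters: nontrivial on `H` with inertia group `F` in `K` -/
def Full {L : Subgroup G} {F : Subgroup L} (hF : F.Normal) (K H : Subgroup L) (θ : ↥F →* ℂˣ) : Prop :=
  (∃ h : F, (h : L) ∈ H ∧ θ h ≠ 1) ∧ ∀ k ∈ K, (∀ x : F, θ ⟨k * x * k⁻¹, hF.conj_mem x x.2 k⟩ = θ x) → k ∈ F

/-- the members of `indD` of degree `|L : F|` -/
def RD {L : Subgroup G} [Fintype L] (K H F : Subgroup L) : Set (L → ℂ) := {χ | χ ∈ indD K H ⊥ ∧ χ 1 = (F.index : ℂ)}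

section

variable {L : Subgroup G} [Fintype L] {K H F : Subgroup L} {W₁ W₂ : Subgroup G} {A : Set G}
  {R : G → Subgroup G}

theorem ch_irr {A : Type*} [Group A] [Fintype A] (θ : A →* ℂˣ) : IsIrrCharacter A (ch θ) := cc_irr θ

/-- the restriction of `θ` to `F.subgroupOf K` -/
def rs (K : Subgroup L) (θ : ↥F →* ℂˣ) : ↥(F.subgroupOf K) → ℂ := fun x => ch θ ⟨(x : K), Subgroup.mem_subgroupOf.mp x.2⟩

theorem rs_irr [Fintype F] (hFK : F ≤ K) (θ : ↥F →* ℂˣ) [Finite ↥(F.subgroupOf K)] : IsIrrCharacter ↥(F.subgroupOf K) (rs K θ) := by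
  haveI := Fintype.ofFinite ↥(F.subgroupOf K)
  have h1 := (isIrr_comp_iff (χ := ch θ) (Subgroup.subgroupOfEquivOfLe hFK)).2 (ch_irr θ)
  exact h1

theorem ind_rs [Fintype K] (hFK : F ≤ K) (θ : ↥F →* ℂˣ) : indFun K (indFun (F.subgroupOf K) (rs K θ)) = indFun F (ch θ) :=
  ind_trans F K hFK (ch θ)

theorem full_irr [Fintype K] [Fintype F] (hF : F.Normal) (hFK : F ≤ K) {θ : ↥F →* ℂˣ} (h : Full hF K H θ) :
    IsIrrCharacter K (indFun (F.subgroupOf K) (rs K θ)) := by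
  haveI : Fintype ↥(F.subgroupOf K) := Fintype.ofFinite _
  have hF' : (F.subgroupOf K).Normal := inferInstance
  have h1 := norm_ind hF' (rs_irr hFK θ)
  have h2 : inertia hF' (rs K θ) = F.subgroupOf K := by
    apply le_antisymm
    · intro k hk
      rw [mem_inertia] at hk
      rw [Subgroup.mem_subgroupOf]
      apply h.2 k k.2
      intro x
      have h3 := congrFun hk ⟨⟨x, hFK x.2⟩, Subgroup.mem_subgroupOf.2 x.2⟩
      exact Units.ext h3
    · exact le_inertia hF' (IsIrr.isClass (rs_irr hFK θ))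
  rw [h2, div_self (Nat.cast_ne_zero.2 Nat.card_pos.ne')] at h1
  exact IsChar.isIrr_of_norm (IsChar.ind (IsIrr.isCharacter (rs_irr hFK θ))) h1

theorem full_mem [Fintype K] [Fintype F] (hF : F.Normal) (hFK : F ≤ K) (hHn : H.Normal) (hHF : H ≤ F) {θ : ↥F →* ℂˣ} (h : Full hF K H θ) :
    indFun F (ch θ) ∈ RD K H F := by
  refine ⟨⟨indFun (F.subgroupOf K) (rs K θ), full_irr hF hFK h, ?_, ?_, (ind_rs hFK θ).symm⟩, ?_⟩
  · haveI : (F.subgroupOf K).Normal := inferInstance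
    haveI hH' : (H.subgroupOf K).Normal := inferInstance
    have hle : H.subgroupOf K ≤ F.subgroupOf K := Subgroup.comap_mono hHF
    haveI : Finite ↥(F.subgroupOf K) := inferInstance
    have h1 := ker_ind (N := F.subgroupOf K) inferInstance hH' hle (IsIrr.isCharacter (rs_irr hFK θ)) (IsIrr.one_ne_zero (rs_irr hFK θ))
    by_contra hcon
    push Not at hcon
    obtain ⟨x, hx, hx1⟩ := h.1
    have h2 := h1.2 (fun a ha => hcon a (Subgroup.mem_subgroupOf.1 ha)) ⟨⟨x, hFK x.2⟩, Subgroup.mem_subgroupOf.2 x.2⟩ (Subgroup.mem_subgroupOf.2 hx)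
    apply hx1
    apply Units.ext
    have h3 : ((θ x : ℂˣ) : ℂ) = (θ 1 : ℂˣ) := h2
    rw [h3, map_one]
  · intro k hk
    have : k = 1 := Subtype.ext (Subgroup.mem_bot.1 hk)
    rw [this]
  · rw [ind_one]
    show (F.index : ℂ) * ((θ 1 : ℂˣ) : ℂ) = _
    rw [map_one, Units.val_one, mul_one]

/-- conjugation action on linear characters -/
@[reducible] def act (hF : F.Normal) : MulAction L (↥F →* ℂˣ) where
  smul l θ := { toFun := fun x => θ ⟨l⁻¹ * x * l⁻¹⁻¹, hF.conj_mem x x.2 l⁻¹⟩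
                map_one' := by
                  have : (⟨l⁻¹ * (1 : F) * l⁻¹⁻¹, hF.conj_mem _ (1 : F).2 l⁻¹⟩ : F) = 1 := Subtype.ext (by simp)
                  rw [this, map_one]
                map_mul' := fun x y => by
                  rw [← map_mul]
                  congr 1
                  apply Subtype.ext
                  simp only [Subgroup.coe_mul]
                  group }
  one_smul θ := by
    ext x
    show ((θ ⟨(1 : L)⁻¹ * x * (1 : L)⁻¹⁻¹, _⟩ : ℂˣ) : ℂ) = θ x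
    congr 2
    apply Subtype.ext
    simp
  mul_smul a b θ := by
    ext x
    show ((θ ⟨(a * b)⁻¹ * x * (a * b)⁻¹⁻¹, _⟩ : ℂˣ) : ℂ) = θ ⟨b⁻¹ * (⟨a⁻¹ * x * a⁻¹⁻¹, _⟩ : F) * b⁻¹⁻¹, _⟩
    congr 2
    apply Subtype.ext
    simp only
    group

theorem act_apply (hF : F.Normal) (l : L) (θ : ↥F →* ℂˣ) (x : F) :
    (@HSMul.hSMul _ _ _ (@instHSMul _ _ (act hF).toSMul) l θ) x = θ ⟨l⁻¹ * x * l⁻¹⁻¹, hF.conj_mem x x.2 l⁻¹⟩ := rfl

theorem act_ch (hF : F.Normal) (l : L) (θ : ↥F →* ℂˣ) :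
    ch (@HSMul.hSMul _ _ _ (@instHSMul _ _ (act hF).toSMul) l θ) = cj hF l⁻¹ (ch θ) := rfl

variable [Fintype G] (h : PD L K H W₁ W₂ A R) {μ : (↥(W₁ ⊔ W₂) →* ℂˣ) → (L → ℂ)} {δ : (↥(W₁ ⊔ W₂) →* ℂˣ) → ℂ}
  (hμ : MU K W₁ W₂ μ δ) (hD : FD L K H F W₁ R)
include h hμ hD

theorem coprime_K : (Nat.card W₁).Coprime (Nat.card K) := h.hall

/-- `μ_j` is induced from a fully supported character of `F` (Peterfalvi (13.3)(a)) -/
theorem exists_full {ψ : ↥(W₁ ⊔ W₂) →* ℂˣ} (hψ : X2 W₁ W₂ ψ) (hψ1 : ψ ≠ 1) :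
    ∃ θ : ↥F →* ℂˣ, Full hD.normal K H θ ∧
      (∀ w ∈ W₁.subgroupOf L, ∀ x : F, θ ⟨w * x * w⁻¹, hD.normal.conj_mem x x.2 w⟩ = θ x) ∧ indFun F (ch θ) = red K μ ψ := by
  classical
  haveI : Fintype K := Fintype.ofFinite _
  haveI : Fintype F := Fintype.ofFinite _
  haveI : Fintype ↥(F.subgroupOf K) := Fintype.ofFinite _
  have hFK := hD.F_le
  have hF := hD.normal
  have hF' : (F.subgroupOf K).Normal := inferInstance
  have habF : ∀ a b : F, a * b = b * a := fun a b => Subtype.ext (hD.ab a a.2 b b.2)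
  have hmi := hμ.res_irr ψ
  set m : K → ℂ := fun k => μ ψ k with hm
  have hcl : IsClassFunction L (μ ψ) := IsIrr.isClass (hμ.irr ψ)
  -- the constituents of the restriction to `F`
  set X : Set (↥F →* ℂˣ) := {θ | co (fun x : F => μ ψ x) θ ≠ 0} with hX
  letI := act hF
  have hXinv : ∀ l : L, ∀ θ ∈ X, l • θ ∈ X := by
    intro l θ hθ
    show classInner _ (ch (l • θ)) ≠ 0
    rw [act_ch]
    have := cj_ci_res hF hcl l⁻¹ (ch θ)
    rw [this]
    exact hθ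
  -- comparison with `F.subgroupOf K`
  have hrs : ∀ θ : ↥F →* ℂˣ, classInner (fun x : F.subgroupOf K => m x) (rs K θ) = co (fun x : F => μ ψ x) θ := by
    intro θ
    rw [co, classInner, classInner, Nat.card_congr (Subgroup.subgroupOfEquivOfLe hFK).toEquiv]
    congr 1
    exact Fintype.sum_equiv (Subgroup.subgroupOfEquivOfLe hFK).toEquiv _ _ fun x => rfl
  have htrans : ∀ θ ∈ X, ∀ θ' ∈ X, ∃ k ∈ K, k • θ = θ' := by
    intro θ hθ θ' hθ'
    obtain ⟨g, hg⟩ := eq_cj_of_constituents hF' hmi (rs_irr hFK θ) (rs_irr hFK θ') (by rw [hrs]; exact hθ) (by rw [hrs]; exact hθ')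
    refine ⟨(g : L)⁻¹, inv_mem g.2, ?_⟩
    ext x
    have h1 := congrFun hg ⟨⟨x, hFK x.2⟩, Subgroup.mem_subgroupOf.2 x.2⟩
    rw [act_apply]
    have h2 : ((θ ⟨(g : L)⁻¹⁻¹ * x * (g : L)⁻¹⁻¹⁻¹, hF.conj_mem x x.2 (g : L)⁻¹⁻¹⟩ : ℂˣ) : ℂ) =
        (θ ⟨(g : L) * x * (g : L)⁻¹, hF.conj_mem x x.2 g⟩ : ℂˣ) := by
      congr 2
      apply Subtype.ext
      simp
    rw [h2]
    exact h1.symm
  -- X is nonempty
  have hXne : X.Nonempty := by
    by_contra hne
    rw [Set.not_nonempty_iff_eq_empty] at hne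
    have h1 : μ ψ ((1 : F) : L) = 0 := by
      have h2 := inv_formula habF (fun x : F => μ ψ x) 1
      rw [Finset.sum_eq_zero] at h2
      · exact h2
      · intro θ _
        have h3 : ¬ θ ∈ X := by rw [hne]; exact fun h => h
        have h4 : co (fun x : F => μ ψ x) θ = 0 := by
          by_contra h5; exact h3 h5
        rw [h4, zero_mul]
    exact IsIrr.one_ne_zero (hμ.irr ψ) h1
  obtain ⟨θ₀, hθ₀⟩ := hXne
  -- card X divides card K
  have hcard : Nat.card X ∣ Nat.card K := by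
    have h1 : X = MulAction.orbit K θ₀ := by
      ext θ
      constructor
      · intro hθ
        obtain ⟨k, hk, e⟩ := htrans θ₀ hθ₀ θ hθ
        exact ⟨⟨k, hk⟩, e⟩
      · rintro ⟨k, rfl⟩
        exact hXinv (k : L) θ₀ hθ₀
    rw [h1, Nat.card_congr (MulAction.orbitEquivQuotientStabilizer K θ₀)]
    exact Subgroup.index_dvd_card _
  -- a fixed point of `W₁`
  haveI hqf := Fact.mk hD.prime
  have hcW : Nat.card (W₁.subgroupOf L) = Nat.card W₁ := Nat.card_congr (Subgroup.subgroupOfEquivOfLe h.W₁_le).toEquiv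
  have hpg : IsPGroup (Nat.card W₁) (W₁.subgroupOf L) := IsPGroup.of_card (n := 1) (by rw [hcW, pow_one])
  let Xs : SubMulAction (W₁.subgroupOf L) (↥F →* ℂˣ) := { carrier := X, smul_mem' := fun w θ hθ => hXinv (w : L) θ hθ }
  have hmod := hpg.card_modEq_card_fixedPoints Xs
  have hcop : ¬ Nat.card W₁ ∣ Nat.card Xs := by
    intro hd
    have h1 : Nat.card W₁ ∣ Nat.card K := hd.trans hcard
    exact Nat.not_coprime_of_dvd_of_dvd hD.prime.one_lt dvd_rfl h1 h.hall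
  have hne : (MulAction.fixedPoints (W₁.subgroupOf L) Xs).Nonempty := by
    by_contra hcon
    rw [Set.not_nonempty_iff_eq_empty] at hcon
    rw [hcon] at hmod
    apply hcop
    rw [Nat.card_of_isEmpty (α := (∅ : Set Xs))] at hmod
    exact (Nat.modEq_zero_iff_dvd).1 hmod
  obtain ⟨⟨θ, hθX⟩, hθfix⟩ := hne
  have hθX' : θ ∈ X := hθX
  have hinv : ∀ w ∈ W₁.subgroupOf L, ∀ x : F, θ ⟨w * x * w⁻¹, hD.normal.conj_mem x x.2 w⟩ = θ x := by
    intro w hw x
    have h1 := hθfix (⟨w, hw⟩⁻¹ : W₁.subgroupOf L)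
    have h2 : w⁻¹ • θ = θ := congrArg Subtype.val h1
    have h3 := DFunLike.congr_fun h2 x
    rw [act_apply] at h3
    rw [← h3]
    congr 1
    apply Subtype.ext
    simp
  -- θ is nontrivial on H
  have hnt : ∃ h : F, (h : L) ∈ H ∧ θ h ≠ 1 := by
    by_contra hcon
    push Not at hcon
    have hX1 : ¬ X1 W₁ W₂ ψ := fun hc => hψ1 (eq_one_of_X hc hψ (hdisj h.self) (hcomm h.self))
    have h1 := not_ker_H h hμ hX1
    apply h1
    intro k hk
    have hval : ∀ x : F, (x : L) ∈ H → μ ψ x = ∑ θ' : ↥F →* ℂˣ, co (fun x : F => μ ψ x) θ' := by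
      intro x hx
      rw [inv_formula habF (fun x : F => μ ψ x) x]
      refine Finset.sum_congr rfl fun θ' _ => ?_
      by_cases hθ' : θ' ∈ X
      · obtain ⟨k, hk, rfl⟩ := htrans θ hθX' θ' hθ'
        have h2 : (k • θ) x = 1 := by
          rw [act_apply]
          exact hcon _ (h.H_normal.conj_mem _ hx _)
        rw [h2, Units.val_one, mul_one]
      · have : co (fun x : F => μ ψ x) θ' = 0 := by
          by_contra h5; exact hθ' h5
        rw [this, zero_mul]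
    have e1 := hval ⟨k, hD.H_le hk⟩ hk
    have e2 := hval 1 (Subgroup.one_mem _)
    exact e1.trans e2.symm
  have hfull : Full hD.normal K H θ := ⟨hnt, hD.stab θ hnt hinv⟩
  refine ⟨θ, hfull, hinv, ?_⟩
  rw [← ind_rs hFK θ, red]
  congr 1
  have hi := full_irr hF hFK hfull
  by_contra hne'
  have h1 : classInner m (indFun (F.subgroupOf K) (rs K θ)) = 0 := ci_irr_ne hmi hi (fun e => hne' e.symm)
  rw [frobenius' _ _ _ (IsIrr.isClass hmi), hrs] at h1
  exact hθX' h1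

end

end Cfsg.Agent.H12.P13
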