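import Mathlib
import Cfsg.Agent.H12_P13b
import Cfsg.Agent.H12_Ty

/-! PF §13: the group theory of the pair `S`, `T`, packaged -/

set_option autoImplicit false

namespace Cfsg.Agent.H12.P13S

open Cfsg Cfsg.Agent.H10.PrD4 Cfsg.Agent.H12.P13

/-- `F = S' ∩ C(S_F)` -/
def FF {G : Type*} [Group G] (S : Subgroup G) : Subgroup G :=
  ⁅S, S⁆ ⊓ Subgroup.centralizer (fittingHallOf S : Set G)

/-- one side of the pair (Peterfalvi (13.2)) -/
structure Side {G : Type*} [Group G] (S W₁ U W₂ : Subgroup G) : Prop where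
  max : IsCoatom S
  data : IsTypePWith S W₁ U W₂
  ty : IsOfTypeII S ∨ IsOfTypeIII S
  prq : (Nat.card W₁).Prime
  prp : (Nat.card W₂).Prime
  lt : Nat.card W₁ < Nat.card W₂ → IsOfTypeII S
  ea : IsElementaryAbelian (Nat.card W₂) (fittingHallOf S)
  card : Nat.card (fittingHallOf S) = Nat.card W₂ ^ Nat.card W₁
  FF_eq : FF S = fittingHallOf S ⊔ (U ⊓ Subgroup.centralizer (fittingHallOf S : Set G))
  ti : ∀ x ∈ FF S, x ≠ 1 → ∀ g : G, g * x * g⁻¹ ∈ FF S → g ∈ S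
  pd : PD S (commutator S) ((fittingHallOf S).subgroupOf S) W₁ W₂ (H12.Ty.tA S) (supportR S)
  fd : FD S (commutator S) ((fittingHallOf S).subgroupOf S) ((FF S).subgroupOf S) W₁ (supportR S)

/-- the pair -/
structure Pair {G : Type*} [Group G] (S T W₁ W₂ U V : Subgroup G) : Prop where
  sS : Side S W₁ U W₂
  sT : Side T W₂ V W₁
  inf : S ⊓ T = W₁ ⊔ W₂
  ne : Nat.card W₁ ≠ Nat.card W₂
  disj : ∀ x ∈ FF S, x ≠ 1 → ∀ g : G, g * x * g⁻¹ ∉ FF T

end Cfsg.Agent.H12.P13S
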