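import Mathlib
import Cfsg.Agent.H12_P13b

/-! PF §13: coherence on the degree `|L : F|` part, and the lower bounds (13.6), (13.7), (13.8) -/

set_option autoImplicit false
set_option linter.style.haveILetI false
set_option linter.unusedSectionVars false

namespace Cfsg.Agent.H12.P13

open Cfsg Cfsg.Agent.H3.CharIrr Cfsg.Agent.H3.CharComplete Cfsg.Agent.H3.CharInd Cfsg.Agent.H3.CharMult
  Cfsg.Agent.H3.CharBasic Cfsg.Agent.H3.CharCalc Cfsg.Agent.H3.Clifford Cfsg.Agent.H3.CharInt Cfsg.Agent.H3.CharQuot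
  Cfsg.Agent.H10.CycTI Cfsg.Agent.H10.CycTI2 Cfsg.Agent.H10.CycTI3 Cfsg.Agent.H10.CycTI4 Cfsg.Agent.H10.PrD2
  Cfsg.Agent.H10.PrD3 Cfsg.Agent.H10.PrD4 Cfsg.Agent.H10.PrD5 Cfsg.Agent.H10.Dade Cfsg.Agent.H10.PM Cfsg.Agent.H10.Coh
  Cfsg.Agent.H10.Coh2 Cfsg.Agent.H10.Coh3 Cfsg.Agent.H10.Coh4 Cfsg.Agent.H10.IndSet2 Cfsg.Agent.H10.OOClif Cfsg.Agent.H10.PrD6
  Cfsg.Agent.H10.PrD7 Cfsg.Agent.H10.PrD8
open scoped ComplexConjugate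

variable {G : Type*} [Group G] [Fintype G] {L : Subgroup G} [Fintype L] {K H F : Subgroup L} {W₁ W₂ : Subgroup G} {A : Set G}
  {R : G → Subgroup G} (h : PD L K H W₁ W₂ A R) {μ : (↥(W₁ ⊔ W₂) →* ℂˣ) → (L → ℂ)} {δ : (↥(W₁ ⊔ W₂) →* ℂˣ) → ℂ}
  (hμ : MU K W₁ W₂ μ δ) (hD : FD L K H F W₁ R) {η : (↥(W₁ ⊔ W₂) →* ℂˣ) → (G → ℂ)} (hη : IsCyclicTIFamily W₁ W₂ η)

include h in
theorem exists_X2 : ∃ ψ ψ' : ↥(W₁ ⊔ W₂) →* ℂˣ, X2 W₁ W₂ ψ ∧ X2 W₁ W₂ ψ' ∧ ψ ≠ 1 ∧ ψ' ≠ 1 ∧ ψ ≠ ψ' :=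
  Cfsg.Agent.H10.CycTI5.exists_two2 h.self (odd_W h.toPT)

include h hμ hD in
theorem red_RD {ψ : ↥(W₁ ⊔ W₂) →* ℂˣ} (hψ : X2 W₁ W₂ ψ) (hψ1 : ψ ≠ 1) : red K μ ψ ∈ RD K H F := by
  haveI : Fintype K := Fintype.ofFinite _
  haveI : Fintype F := Fintype.ofFinite _
  obtain ⟨θ, h1, -, h2⟩ := exists_full h hμ hD hψ hψ1
  rw [← h2]
  exact full_mem hD.normal hD.F_le h.H_normal hD.H_le h1

theorem RD_sub : RD K H F ⊆ indD K H ⊥ := fun _ hχ => hχ.1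

include h hμ hD in
theorem RD_conj : ∀ χ ∈ RD K H F, conjFun χ ∈ RD K H F := by
  rintro χ ⟨h1, h2⟩
  refine ⟨indD_conj h h1, ?_⟩
  rw [conjFun, h2]; simp

include h hμ hη hD in
theorem coh : ∃ τ₁, Ext (RD K H F) (dadeIsometry (A0 L W₁ W₂ A) L R) τ₁ ∧
    (∀ ψ, X2 W₁ W₂ ψ → ψ ≠ 1 → ∃ ε : ℂ, (ε = 1 ∨ ε = -1) ∧ ∃ ψ', (ψ' = ψ ∨ ψ' = ψ⁻¹) ∧ τ₁ (red K μ ψ) = ε • etaC η ψ') ∧
    (∀ χ ∈ RD K H F, IsIrrCharacter L χ → ∀ ω, classInner (τ₁ χ) (η ω) = 0) := by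
  classical
  obtain ⟨k, -, hk, -, hk1, -, -⟩ := exists_X2 h
  have hkR := red_RD h hμ hD hk hk1
  have hsub : RD K H F ⊆ indD K H ⊥ := RD_sub
  have hconj := RD_conj h hμ hD
  obtain ⟨Rc, hsys, hR1, hR2⟩ := system h hμ hη hsub ⟨_, hkR⟩ hconj
  by_cases hirr : ∃ χ ∈ RD K H F, IsIrrCharacter L χ
  · obtain ⟨χ, hχ, hχi⟩ := hirr
    obtain ⟨-, τ₁, hτ₁, hag⟩ := Cfsg.Agent.S1517.result (RD K H F) _ Rc hsys (fun φ hφ φ' hφ' => hφ.2.trans hφ'.2.symm)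
    have hext : Ext (RD K H F) (dadeIsometry (A0 L W₁ W₂ A) L R) τ₁ := ⟨hτ₁, hag⟩
    refine ⟨τ₁, hext, ?_, ?_⟩
    · intro ψ hψ hψ1
      have hd := hμ.sign ψ
      rcases coh_red h hμ hη hsys hsub hR1 (fun χ hχ hi => (hR2 χ hχ hi).1) subset_rfl hconj hext hχ hχi hψ hψ1 (red_RD h hμ hD hψ hψ1) with e | e
      · exact ⟨δ ψ, hd, ψ, Or.inl rfl, e⟩
      · refine ⟨-δ ψ, ?_, ψ⁻¹, Or.inr rfl, by rw [e, neg_smul]⟩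
        rcases hd with e' | e' <;> rw [e'] <;> simp
    · intro χ' hχ' hχi' ω
      rw [← ci_conj_symm, orth_tau hsys subset_rfl hτ₁ hag hχ' (hconj _ hχ') (f := η ω) (fun α hα => by
        rw [← ci_conj_symm, (hR2 χ' hχ' hχi').1 α hα ω, map_zero]), map_zero]
  · push Not at hirr
    have hT : ∀ χ ∈ RD K H F, ∃ ψ, X2 W₁ W₂ ψ ∧ ψ ≠ 1 ∧ χ = red K μ ψ ∧ μ ψ 1 = μ k 1 := by
      intro χ hχ
      rcases indD_cases h hμ hχ.1 with hc | ⟨ψ, h1, h2, h3⟩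
      · exact absurd hc (hirr χ hχ)
      · refine ⟨ψ, h1, h2, h3, ?_⟩
        have e1 := hχ.2
        have e2 := hkR.2
        rw [h3, red_one h.toPT hμ] at e1
        rw [red_one h.toPT hμ] at e2
        have hc : (Nat.card W₁ : ℂ) ≠ 0 := Nat.cast_ne_zero.2 Nat.card_pos.ne'
        exact mul_left_cancel₀ hc (e1.trans e2.symm)
    obtain ⟨τ₁, hext, hred⟩ := red_coh h hμ hη hk hk1 hT hkR
    refine ⟨τ₁, hext, ?_, fun χ hχ hi => absurd hi (hirr χ hχ)⟩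
    intro ψ hψ hψ1
    exact ⟨δ k, hμ.sign k, ψ, Or.inl rfl, hred ψ hψ hψ1 (red_RD h hμ hD hψ hψ1)⟩

end Cfsg.Agent.H12.P13
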