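import Mathlib
import Cfsg.Agent.H12_P13c

/-! PF §13: the lower bounds (13.6), (13.7), (13.8) -/

set_option autoImplicit false
set_option linter.style.haveILetI false
set_option linter.unusedSectionVars false

namespace Cfsg.Agent.H12.P13

open Cfsg Cfsg.Agent.H3.CharIrr Cfsg.Agent.H3.CharComplete Cfsg.Agent.H3.CharInd Cfsg.Agent.H3.CharMult
  Cfsg.Agent.H3.CharBasic Cfsg.Agent.H3.CharCalc Cfsg.Agent.H3.Clifford Cfsg.Agent.H3.CharInt Cfsg.Agent.H3.CharQuot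
  Cfsg.Agent.H10.CycTI Cfsg.Agent.H10.CycTI2 Cfsg.Agent.H10.CycTI3 Cfsg.Agent.H10.CycTI4 Cfsg.Agent.H10.PrD2
  Cfsg.Agent.H10.PrD3 Cfsg.Agent.H10.PrD4 Cfsg.Agent.H10.PrD5 Cfsg.Agent.H10.Dade Cfsg.Agent.H10.PM Cfsg.Agent.H10.Coh
  Cfsg.Agent.H10.Coh2 Cfsg.Agent.H10.Coh3 Cfsg.Agent.H10.Coh4 Cfsg.Agent.H10.IndSet2 Cfsg.Agent.H10.OOClif Cfsg.Agent.H10.PrD6
  Cfsg.Agent.H10.PrD7 Cfsg.Agent.H10.PrD8
open scoped ComplexConjugate

variable {G : Type*} [Group G] [Fintype G] {L : Subgroup G} [Fintype L] {K H F : Subgroup L} {W₁ W₂ : Subgroup G} {A : Set G}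
  {R : G → Subgroup G} (h : PD L K H W₁ W₂ A R) {μ : (↥(W₁ ⊔ W₂) →* ℂˣ) → (L → ℂ)} {δ : (↥(W₁ ⊔ W₂) →* ℂˣ) → ℂ}
  (hμ : MU K W₁ W₂ μ δ) (hD : FD L K H F W₁ R) {η : (↥(W₁ ⊔ W₂) →* ℂˣ) → (G → ℂ)} (hη : IsCyclicTIFamily W₁ W₂ η)

include h hD in
theorem F_A {x : L} (hx : x ∈ F) (hx1 : x ≠ 1) : (x : G) ∈ A := by
  obtain ⟨w, hw, hw1⟩ : ∃ w ∈ W₂, w ≠ 1 := by
    by_contra hcon
    push Not at hcon
    exact h.self.2.1 (Subgroup.eq_bot_iff_forall _ |>.2 hcon)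
  have hwL : w ∈ L := h.W₂_le hw
  have hwH : (⟨w, hwL⟩ : L) ∈ H := h.W₂H (Subgroup.mem_subgroupOf.2 hw)
  exact h.A_cent x (hD.F_le hx) hx1 ⟨⟨w, hwL⟩, hwH, fun e => hw1 (congrArg Subtype.val e), hD.ab x hx _ (hD.H_le hwH)⟩

include h hD in
/-- reciprocity for functions supported in `F^#` -/
theorem recF {α : L → ℂ} (hα : IsClassFunction L α) (hαF : ∀ x, x ∉ F → α x = 0) (hα1 : α 1 = 0) {f : G → ℂ}
    (hf : IsClassFunction G f) :
    classInner (dadeIsometry (A0 L W₁ W₂ A) L R α) f = classInner α (fun x : L => f x) := by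
  have hsup : ∀ x : L, (x : G) ∉ A0 L W₁ W₂ A → α x = 0 := by
    intro x hx
    by_contra hne
    have hxF : x ∈ F := by by_contra hc; exact hne (hαF x hc)
    have hx1 : x ≠ 1 := by rintro rfl; exact hne hα1
    exact hx (Or.inl (F_A h hD hxF hx1))
  rw [recip h.dade hα hsup hf (ψ := fun a : L => (Nat.card (R (a : G)) : ℂ)⁻¹ * ∑ᶠ u ∈ (R (a : G) : Set G), f (a * u)) (fun a _ => rfl)]
  rw [classInner, classInner]
  congr 1
  refine Finset.sum_congr rfl fun x _ => ?_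
  by_cases hne : α x = 0
  · rw [hne, zero_mul, zero_mul]
  have hxF : x ∈ F := by by_contra hc; exact hne (hαF x hc)
  have hx1 : x ≠ 1 := by rintro rfl; exact hne hα1
  congr 2
  rw [hD.R_bot x hxF hx1]
  simp

include h hD in
/-- vanishing outside the conjugates of `F^#` -/
theorem tau_off {α : L → ℂ} (hα : IsClassFunction L α) (hαF : ∀ x, x ∉ F → α x = 0) (hα1 : α 1 = 0) {g : G}
    (hg : ∀ y : G, ∀ x : L, x ∈ F → x ≠ 1 → y * g * y⁻¹ ≠ x) : dadeIsometry (A0 L W₁ W₂ A) L R α g = 0 := by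
  by_cases hex : ∃ a : ↥L, (a : G) ∈ A0 L W₁ W₂ A ∧ ∃ x : G, ∃ u ∈ R (a : G), x * g * x⁻¹ = (a : G) * u
  · obtain ⟨a, ha, x, u, hu, he⟩ := hex
    rw [dade_apply h.dade hα ha hu he]
    by_contra hne
    have haF : a ∈ F := by by_contra hc; exact hne (hαF a hc)
    have ha1 : a ≠ 1 := by rintro rfl; exact hne hα1
    rw [hD.R_bot a haF ha1, Subgroup.mem_bot] at hu
    rw [hu, mul_one] at he
    exact hg x a haF ha1 he
  · exact dade_zero hex

/-- the set of linear characters inducing a given character -/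
noncomputable def OO (F : Subgroup L) (χ : L → ℂ) : Finset (↥F →* ℂˣ) := by
  classical
  exact Finset.univ.filter fun θ => indFun F (ch θ) = χ

theorem mem_OO {χ : L → ℂ} {θ : ↥F →* ℂˣ} : θ ∈ OO F χ ↔ indFun F (ch θ) = χ := by
  classical
  rw [OO, Finset.mem_filter]; simp

include hD in
theorem ab' (a b : F) : a * b = b * a := Subtype.ext (hD.ab a a.2 b b.2)

include hD in
theorem mem_OO_iff {θ₀ θ : ↥F →* ℂˣ} : θ ∈ OO F (indFun F (ch θ₀)) ↔ ∃ g : L, cj hD.normal g (ch θ₀) = ch θ := by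
  haveI : Fintype F := Fintype.ofFinite _
  rw [mem_OO, ind_eq_iff hD.normal (ch_irr θ₀) (ch_irr θ), mem_orb]

include hD in
theorem card_OO {θ₀ : ↥F →* ℂˣ} : ((OO F (indFun F (ch θ₀))).card : ℂ) * classInner (indFun F (ch θ₀)) (indFun F (ch θ₀)) = F.index := by
  classical
  haveI : Fintype F := Fintype.ofFinite _
  have hF := hD.normal
  have hFc : (Nat.card F : ℂ) ≠ 0 := Nat.cast_ne_zero.2 Nat.card_pos.ne'
  have h1 : (OO F (indFun F (ch θ₀))).card = (orb hF (ch θ₀)).card := by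
    refine Finset.card_bij (fun θ _ => ch θ) ?_ ?_ ?_
    · intro θ hθ
      exact (mem_orb hF _ _).2 ((mem_OO_iff hD).1 hθ)
    · intro θ _ θ' _ he
      exact cc_inj he
    · intro ψ hψ
      obtain ⟨g, hg⟩ := (mem_orb hF _ _).1 hψ
      have h2 : IsIrrCharacter F ψ := hg ▸ (cj_isIrr hF g).2 (ch_irr θ₀)
      obtain ⟨t, ht⟩ := IsChar.hom_units_of_one (IsIrr.isCharacter h2) (by
        rw [← hg, cj_apply_one]
        show ((θ₀ 1 : ℂˣ) : ℂ) = 1
        rw [map_one, Units.val_one])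
      have ht' : ch t = ψ := funext fun x => (ht x).symm
      exact ⟨t, (mem_OO_iff hD).2 ⟨g, by rw [hg, ht']⟩, ht'⟩
  have h2 := card_orb hF (ch θ₀)
  rw [norm_ind hF (ch_irr θ₀), h1, mul_div_assoc', div_eq_iff hFc]
  have h3 : F.index * Nat.card F = Nat.card L := Subgroup.index_mul_card F
  exact_mod_cast h2.trans h3.symm

include h hD in
theorem full_of_OO {θ₀ θ : ↥F →* ℂˣ} (h0 : Full hD.normal K H θ₀) (hθ : θ ∈ OO F (indFun F (ch θ₀))) : Full hD.normal K H θ := by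
  obtain ⟨g, hg⟩ := (mem_OO_iff hD).1 hθ
  have hval : ∀ x : F, θ x = θ₀ ⟨g * x * g⁻¹, hD.normal.conj_mem x x.2 g⟩ := fun x => Units.ext (congrFun hg x).symm
  refine ⟨?_, ?_⟩
  · obtain ⟨x, hx, hx1⟩ := h0.1
    refine ⟨⟨g⁻¹ * x * g⁻¹⁻¹, hD.normal.conj_mem x x.2 g⁻¹⟩, h.H_normal.conj_mem _ hx g⁻¹, ?_⟩
    rw [hval]
    have : (⟨g * (g⁻¹ * x * g⁻¹⁻¹) * g⁻¹, hD.normal.conj_mem _ (hD.normal.conj_mem x x.2 g⁻¹) g⟩ : F) = x := by
      apply Subtype.ext; simp only; group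
    rw [this]; exact hx1
  · intro k hk hk'
    have h1 : g * k * g⁻¹ ∈ F := by
      apply h0.2 _ (h.normal.conj_mem k hk g)
      intro x
      have h2 := hk' ⟨g⁻¹ * x * g⁻¹⁻¹, hD.normal.conj_mem x x.2 g⁻¹⟩
      rw [hval, hval] at h2
      have e1 : (⟨g * (k * (g⁻¹ * x * g⁻¹⁻¹) * k⁻¹) * g⁻¹, hD.normal.conj_mem _ (hD.normal.conj_mem _ (hD.normal.conj_mem x x.2 g⁻¹) k) g⟩ : F) =
          ⟨g * k * g⁻¹ * x * (g * k * g⁻¹)⁻¹, hD.normal.conj_mem x x.2 _⟩ := by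
        apply Subtype.ext; simp only; group
      have e2 : (⟨g * (g⁻¹ * x * g⁻¹⁻¹) * g⁻¹, hD.normal.conj_mem _ (hD.normal.conj_mem x x.2 g⁻¹) g⟩ : F) = x := by
        apply Subtype.ext; simp only; group
      exact (congrArg θ₀ e1.symm).trans (h2.trans (congrArg θ₀ e2))
    have h3 := hD.normal.conj_mem _ h1 g⁻¹
    have e : g⁻¹ * (g * k * g⁻¹) * g⁻¹⁻¹ = k := by group
    rwa [e] at h3

/-- the integers `n θ` -/
theorem exists_n [Fintype F] {f : G → ℂ} (hf : IsGeneralizedCharacter G f) : ∃ n : (↥F →* ℂˣ) → ℤ, ∀ θ, co (fun x : F => f x) θ = n θ := by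
  have h1 : IsGeneralizedCharacter F (fun x : F => f x) := IsGen.comp hf (L.subtype.comp F.subtype)
  have : ∀ θ : ↥F →* ℂˣ, ∃ n : ℤ, co (fun x : F => f x) θ = n := fun θ => ci_gen_int h1 (IsGen.of_irr (ch_irr θ))
  choose n hn using this
  exact ⟨n, hn⟩

include h hμ hD in
theorem diff_n [Fintype F] {τ₁ : (L → ℂ) → (G → ℂ)} (hτ₁ : Ext (RD K H F) (dadeIsometry (A0 L W₁ W₂ A) L R) τ₁) {f : G → ℂ}
    (hf : IsGeneralizedCharacter G f) {θ θ' : ↥F →* ℂˣ} (hθ : Full hD.normal K H θ) (hθ' : Full hD.normal K H θ') :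
    co (fun x : F => f x) θ - co (fun x : F => f x) θ' =
      classInner f (τ₁ (indFun F (ch θ))) - classInner f (τ₁ (indFun F (ch θ'))) := by
  haveI : Fintype K := Fintype.ofFinite _
  have hfc : IsClassFunction G f := IsGen.isClass hf
  have hfL : IsClassFunction L (fun x : L => f x) := IsClass.comp hfc L.subtype
  have m1 := full_mem hD.normal hD.F_le h.H_normal hD.H_le hθ
  have m2 := full_mem hD.normal hD.F_le h.H_normal hD.H_le hθ'
  have e1 : co (fun x : F => f x) θ = classInner (fun x : L => f x) (indFun F (ch θ)) := by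
    rw [frobenius' F _ _ hfL]; rfl
  have e2 : co (fun x : F => f x) θ' = classInner (fun x : L => f x) (indFun F (ch θ')) := by
    rw [frobenius' F _ _ hfL]; rfl
  have hz : indFun F (ch θ) - indFun F (ch θ') ∈ zspanOn (RD K H F) {1}ᶜ := by
    rw [zo_iff]
    refine ⟨zs_diff (zs_sub m1) (zs_sub m2), ?_⟩
    rw [Pi.sub_apply, m1.2, m2.2, sub_self]
  have hτ := hτ₁.2 _ hz
  rw [iso_diff hτ₁.1 (zs_sub m1) (zs_sub m2) (zs_neg (zs_sub m2))] at hτ
  have hr := recF h hD (α := indFun F (ch θ) - indFun F (ch θ')) (isClass_sub _ _ (ind_isClass F _) (ind_isClass F _))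
    (fun x hx => by rw [Pi.sub_apply, ind_of_not_mem hD.normal _ hx, ind_of_not_mem hD.normal _ hx, sub_self])
    (by rw [Pi.sub_apply, m1.2, m2.2, sub_self]) hfc
  rw [e1, e2, ← ci_sub_right, ← ci_sub_right, hτ]
  have hs1 := ci_conj_symm (dadeIsometry (A0 L W₁ W₂ A) L R (indFun F (ch θ) - indFun F (ch θ'))) f
  have hs2 := ci_conj_symm (indFun F (ch θ) - indFun F (ch θ')) (fun x : L => f x)
  rw [← hs2, ← hs1, hr]

include h hμ hD in
/-- the general lower bound -/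
theorem lb_gen [DecidableEq F] [Fintype F] {τ₁ : (L → ℂ) → (G → ℂ)} (hτ₁ : Ext (RD K H F) (dadeIsometry (A0 L W₁ W₂ A) L R) τ₁) {f : G → ℂ}
    (hf : IsGeneralizedCharacter G f) {θ₀ θ₁ : ↥F →* ℂˣ} (h0 : Full hD.normal K H θ₀) (h1 : Full hD.normal K H θ₁)
    (hne : indFun F (ch θ₀) ≠ indFun F (ch θ₁))
    (hnorm : classInner (indFun F (ch θ₀)) (indFun F (ch θ₀)) = classInner (indFun F (ch θ₁)) (indFun F (ch θ₁)))
    {a : ℤ} (ha : a ≠ 0) (hin0 : classInner f (τ₁ (indFun F (ch θ₀))) = a)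
    (hin : ∀ χ ∈ RD K H F, χ ≠ indFun F (ch θ₀) → classInner f (τ₁ χ) = 0) :
    ((OO F (indFun F (ch θ₀))).card : ℝ) * ((Nat.card F : ℝ) - (OO F (indFun F (ch θ₀))).card) ≤
      ∑ x ∈ Finset.univ.erase (1 : F), ‖f (x : L)‖ ^ 2 := by
  classical
  haveI : Fintype K := Fintype.ofFinite _
  obtain ⟨n, hn⟩ := exists_n (F := F) hf
  have hab := ab' hD
  set O := OO F (indFun F (ch θ₀)) with hO
  set Θ : Finset (↥F →* ℂˣ) := Finset.univ.filter fun θ => Full hD.normal K H θ with hΘ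
  have hOΘ : O ⊆ Θ := by
    intro θ hθ
    rw [hΘ, Finset.mem_filter]
    exact ⟨Finset.mem_univ _, full_of_OO h hD h0 hθ⟩
  have hfm : ∀ θ, Full hD.normal K H θ → indFun F (ch θ) ∈ RD K H F := fun θ hθ => full_mem hD.normal hD.F_le h.H_normal hD.H_le hθ
  have hθ1 : θ₁ ∉ O := by
    rw [hO, mem_OO]; exact fun e => hne e.symm
  have e1 : ∀ θ ∈ Θ \ O, n θ = n θ₁ := by
    intro θ hθ
    obtain ⟨h3, h4⟩ := Finset.mem_sdiff.1 hθ
    have h5 : Full hD.normal K H θ := (Finset.mem_filter.1 h3).2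
    have h6 := diff_n h hμ hD hτ₁ hf h5 h1
    rw [hin _ (hfm θ h5) (fun e => h4 (mem_OO.2 e)), hin _ (hfm _ h1) (fun e => hne e.symm), sub_self, hn, hn, sub_eq_zero] at h6
    exact_mod_cast h6
  have e2 : ∀ θ ∈ O, n θ = n θ₁ + a := by
    intro θ hθ
    have h5 := full_of_OO h hD h0 hθ
    have h6 := diff_n h hμ hD hτ₁ hf h5 h1
    rw [mem_OO.1 hθ, hin0, hin _ (hfm _ h1) (fun e => hne e.symm), sub_zero, hn, hn, sub_eq_iff_eq_add] at h6
    have h7 : n θ = a + n θ₁ := by exact_mod_cast h6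
    omega
  have hcard : O.card ≤ (Θ \ O).card := by
    have h3 : OO F (indFun F (ch θ₁)) ⊆ Θ \ O := by
      intro θ hθ
      rw [Finset.mem_sdiff]
      refine ⟨Finset.mem_filter.2 ⟨Finset.mem_univ _, full_of_OO h hD h1 hθ⟩, fun hc => ?_⟩
      exact hne ((mem_OO.1 hc).symm.trans (mem_OO.1 hθ))
    refine le_trans (le_of_eq ?_) (Finset.card_le_card h3)
    have h4 := card_OO hD (θ₀ := θ₀)
    have h5 := card_OO hD (θ₀ := θ₁)
    rw [← hnorm, ← h4] at h5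
    have h6 : classInner (indFun F (ch θ₀)) (indFun F (ch θ₀)) ≠ 0 := norm_ind_ne hD.normal (ch_irr θ₀)
    exact_mod_cast (mul_right_cancel₀ h6 h5).symm
  have key := pairs_ge n O Θ hOΘ (n θ₁) a ha e2 e1 hcard
  have h7 := sum_ne_one hab (fun x : F => f x) n hn
  rw [card_dual hab] at key
  have key' : (2 * (O.card : ℝ) * ((Nat.card F : ℝ) - O.card)) ≤ (pairs n : ℝ) := by exact_mod_cast key
  rw [← h7] at key'
  linarith

end Cfsg.Agent.H12.P13
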