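import Mathlib
import Cfsg.Agent.H12_P13d

/-! PF §13: the lower bounds (13.8) and (13.6) -/

set_option autoImplicit false
set_option linter.style.haveILetI false
set_option linter.unusedSectionVars false

namespace Cfsg.Agent.H12.P13

open Cfsg Cfsg.Agent.H3.CharIrr Cfsg.Agent.H3.CharComplete Cfsg.Agent.H3.CharInd Cfsg.Agent.H3.CharMult
  Cfsg.Agent.H3.CharBasic Cfsg.Agent.H3.CharCalc Cfsg.Agent.H3.Clifford Cfsg.Agent.H3.CharInt Cfsg.Agent.H3.CharQuot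
  Cfsg.Agent.H10.CycTI Cfsg.Agent.H10.CycTI2 Cfsg.Agent.H10.CycTI3 Cfsg.Agent.H10.CycTI4 Cfsg.Agent.H10.PrD2
  Cfsg.Agent.H10.PrD3 Cfsg.Agent.H10.PrD4 Cfsg.Agent.H10.PrD5 Cfsg.Agent.H10.Dade Cfsg.Agent.H10.PM Cfsg.Agent.H10.Coh
  Cfsg.Agent.H10.Coh2 Cfsg.Agent.H10.Coh3 Cfsg.Agent.H10.Coh4 Cfsg.Agent.H10.IndSet2 Cfsg.Agent.H10.OOClif Cfsg.Agent.H10.PrD6
  Cfsg.Agent.H10.PrD7 Cfsg.Agent.H10.PrD8
open scoped ComplexConjugate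

variable {G : Type*} [Group G] [Fintype G] {L : Subgroup G} [Fintype L] {K H F : Subgroup L} {W₁ W₂ : Subgroup G} {A : Set G}
  {R : G → Subgroup G} (h : PD L K H W₁ W₂ A R) {μ : (↥(W₁ ⊔ W₂) →* ℂˣ) → (L → ℂ)} {δ : (↥(W₁ ⊔ W₂) →* ℂˣ) → ℂ}
  (hμ : MU K W₁ W₂ μ δ) (hD : FD L K H F W₁ R) {η : (↥(W₁ ⊔ W₂) →* ℂˣ) → (G → ℂ)} (hη : IsCyclicTIFamily W₁ W₂ η)

omit [Fintype G] in
theorem one_mul' (ψ : ↥(W₁ ⊔ W₂) →* ℂˣ) : (1 : ↥(W₁ ⊔ W₂) →* ℂˣ) * ψ = ψ := by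
  ext w
  rw [MonoidHom.mul_apply, MonoidHom.one_apply, one_mul]

/-- the coherent extension of the Dade isometry on the degree `|L : F|` part -/
structure CO (K H F : Subgroup L) (W₁ W₂ : Subgroup G) (A : Set G) (R : G → Subgroup G)
    (μ : (↥(W₁ ⊔ W₂) →* ℂˣ) → (L → ℂ)) (η : (↥(W₁ ⊔ W₂) →* ℂˣ) → (G → ℂ)) (τ₁ : (L → ℂ) → (G → ℂ)) : Prop where
  ext : Ext (RD K H F) (dadeIsometry (A0 L W₁ W₂ A) L R) τ₁
  rd : ∀ ψ, X2 W₁ W₂ ψ → ψ ≠ 1 → ∃ ε : ℂ, (ε = 1 ∨ ε = -1) ∧ ∃ ψ', (ψ' = ψ ∨ ψ' = ψ⁻¹) ∧ τ₁ (red K μ ψ) = ε • etaC η ψ'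
  irr : ∀ χ ∈ RD K H F, IsIrrCharacter L χ → ∀ ω, classInner (τ₁ χ) (η ω) = 0

include h hμ hη hD in
theorem exists_CO : ∃ τ₁, CO K H F W₁ W₂ A R μ η τ₁ := by
  obtain ⟨τ₁, h1, h2, h3⟩ := coh h hμ hD hη
  exact ⟨τ₁, ⟨h1, h2, h3⟩⟩

variable {τ₁ : (L → ℂ) → (G → ℂ)} (hC : CO K H F W₁ W₂ A R μ η τ₁)

include hC in
theorem CO.inn {χ χ' : L → ℂ} (hχ : χ ∈ RD K H F) (hχ' : χ' ∈ RD K H F) : classInner (τ₁ χ) (τ₁ χ') = classInner χ χ' :=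
  hC.ext.1.2.2.1 _ (zs_sub hχ) _ (zs_sub hχ')

include hC in
theorem CO.gen {χ : L → ℂ} (hχ : χ ∈ RD K H F) : IsGeneralizedCharacter G (τ₁ χ) := hC.ext.1.2.2.2 _ (zs_sub hχ)

include h hμ hη hC in
theorem CO.inn_eta {ψ ψ' φ ψ₀ : ↥(W₁ ⊔ W₂) →* ℂˣ} {ε : ℂ} (hε : ε = 1 ∨ ε = -1) (e : τ₁ (red K μ ψ) = ε • etaC η ψ')
    (hφ : X1 W₁ W₂ φ) (hψ' : X2 W₁ W₂ ψ') (hψ₀ : X2 W₁ W₂ ψ₀) [DecidableEq (↥(W₁ ⊔ W₂) →* ℂˣ)] :
    classInner (η (φ * ψ₀)) (τ₁ (red K μ ψ)) = if ψ' = ψ₀ then ε else 0 := by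
  rw [e, ci_smul_right, ← ci_conj_symm, etaC_eta h hμ hη hφ hψ' hψ₀]
  split_ifs
  · rcases hε with rfl | rfl <;> simp
  · simp

include h hμ hη hD hC in
/-- some `μ_{j*}` is mapped to `± Σ η_{i j}` for every `j` -/
theorem CO.star {ψ₀ : ↥(W₁ ⊔ W₂) →* ℂˣ} (hψ : X2 W₁ W₂ ψ₀) (hψ1 : ψ₀ ≠ 1) : ∃ ψs, X2 W₁ W₂ ψs ∧ ψs ≠ 1 ∧
    ∃ ε : ℂ, (ε = 1 ∨ ε = -1) ∧ τ₁ (red K μ ψs) = ε • etaC η ψ₀ := by
  classical
  obtain ⟨ε, hε, ψ', hψ', e⟩ := hC.rd ψ₀ hψ hψ1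
  rcases hψ' with rfl | rfl
  · exact ⟨_, hψ, hψ1, ε, hε, e⟩
  · have hi := X2_inv hψ
    have hi1 := inv_ne_one hψ1
    obtain ⟨ε', hε', ψ'', hψ'', e'⟩ := hC.rd ψ₀⁻¹ hi hi1
    rcases hψ'' with rfl | rfl
    · exfalso
      have h1 := hC.inn (red_RD h hμ hD hψ hψ1) (red_RD h hμ hD hi hi1)
      rw [red_red h.toPT hμ hψ hi, if_neg (fun hc => inv_ne (odd_W h.toPT) hψ1 hc.symm), e, e', ci_smul_left, ci_smul_right,
        etaC_etaC h hμ hη hi hi, if_pos rfl] at h1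
      have hc : (Nat.card W₁ : ℂ) ≠ 0 := Nat.cast_ne_zero.2 Nat.card_pos.ne'
      rcases hε with rfl | rfl <;> rcases hε' with rfl | rfl <;> simp at h1
    · rw [inv_inv'] at e'
      exact ⟨_, hi, hi1, ε', hε', e'⟩

include h hμ hη hD hC in
/-- Peterfalvi (13.8) -/
theorem lb8 [DecidableEq F] [Fintype F] {ψ₀ : ↥(W₁ ⊔ W₂) →* ℂˣ} (hψ : X2 W₁ W₂ ψ₀) (hψ1 : ψ₀ ≠ 1) {u : ℕ} (hu : F.index = u * Nat.card W₁) :
    (u : ℝ) * ((Nat.card F : ℝ) - u) ≤ ∑ x ∈ Finset.univ.erase (1 : F), ‖η ψ₀ (x : L)‖ ^ 2 := by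
  classical
  obtain ⟨ψs, hs, hs1, ε, hε, e⟩ := hC.star h hμ hD hη hψ hψ1
  obtain ⟨k, k', hk, hk', hk1, hk1', hkk⟩ := exists_X2 h
  obtain ⟨ψ₁, h1, h11, h1s⟩ : ∃ ψ₁, X2 W₁ W₂ ψ₁ ∧ ψ₁ ≠ 1 ∧ ψs ≠ ψ₁ := by
    by_cases hc : ψs = k
    · exact ⟨k', hk', hk1', hc ▸ hkk⟩
    · exact ⟨k, hk, hk1, hc⟩
  obtain ⟨θ₀, f0, -, i0⟩ := exists_full h hμ hD hs hs1
  obtain ⟨θ₁, f1, -, i1⟩ := exists_full h hμ hD h1 h11
  have hne : indFun F (ch θ₀) ≠ indFun F (ch θ₁) := by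
    rw [i0, i1]; exact fun hc => h1s (red_inj h.toPT hμ hs h1 hc)
  have hin0 : classInner (η ψ₀) (τ₁ (red K μ ψs)) = ε := by
    have := hC.inn_eta h hμ hη (ψ₀ := ψ₀) hε e (φ := 1) X1_one hψ hψ
    rwa [one_mul', if_pos rfl] at this
  have hin : ∀ χ ∈ RD K H F, χ ≠ red K μ ψs → classInner (η ψ₀) (τ₁ χ) = 0 := by
    intro χ hχ hχs
    rcases indD_cases h hμ hχ.1 with hi | ⟨ψ, hψ2, hψ21, rfl⟩
    · rw [← ci_conj_symm, hC.irr χ hχ hi, map_zero]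
    · obtain ⟨ε', hε', ψ', hψ', e'⟩ := hC.rd ψ hψ2 hψ21
      have hX : X2 W₁ W₂ ψ' := by
        rcases hψ' with rfl | rfl
        · exact hψ2
        · exact X2_inv hψ2
      have := hC.inn_eta h hμ hη (ψ₀ := ψ₀) hε' e' (φ := 1) X1_one hX hψ
      rw [one_mul'] at this
      rw [this, if_neg]
      rintro rfl
      have h5 := hC.inn hχ (red_RD h hμ hD hs hs1)
      rw [red_red h.toPT hμ hψ2 hs, if_neg (fun hc => hχs (by rw [hc])), e, e', ci_smul_left, ci_smul_right,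
        etaC_etaC h hμ hη hX hX, if_pos rfl] at h5
      have hc : (Nat.card W₁ : ℂ) ≠ 0 := Nat.cast_ne_zero.2 Nat.card_pos.ne'
      rcases hε with rfl | rfl <;> rcases hε' with rfl | rfl <;> simp at h5
  have hnorm : classInner (indFun F (ch θ₀)) (indFun F (ch θ₀)) = classInner (indFun F (ch θ₁)) (indFun F (ch θ₁)) := by
    rw [i0, i1, red_norm h hμ hη hs, red_norm h hμ hη h1]
  have hcard : (OO F (indFun F (ch θ₀))).card = u := by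
    have h4 := card_OO hD (θ₀ := θ₀)
    rw [i0, red_norm h hμ hη hs, hu] at h4
    rw [i0]
    have hc : (Nat.card W₁ : ℂ) ≠ 0 := Nat.cast_ne_zero.2 Nat.card_pos.ne'
    push_cast at h4
    exact_mod_cast mul_right_cancel₀ hc h4
  obtain ⟨a, ha, hae⟩ : ∃ a : ℤ, a ≠ 0 ∧ (a : ℂ) = ε := by
    rcases hε with rfl | rfl
    · exact ⟨1, one_ne_zero, by simp⟩
    · exact ⟨-1, by norm_num, by simp⟩
  have := lb_gen h hμ hD hC.ext (eta_gen hη ψ₀) f0 f1 hne hnorm ha (by rw [i0, hin0, hae]) (fun χ hχ hχs => hin χ hχ (by rwa [i0] at hχs))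
  rwa [hcard] at this

include h hμ hη hD hC in
/-- Peterfalvi (13.6) -/
theorem lb6 [DecidableEq F] [Fintype F] {θ₀ : ↥F →* ℂˣ} (hθ : Full hD.normal K H θ₀) (hi : IsIrrCharacter L (indFun F (ch θ₀))) :
    (F.index : ℝ) * ((Nat.card F : ℝ) - F.index) ≤ ∑ x ∈ Finset.univ.erase (1 : F), ‖τ₁ (indFun F (ch θ₀)) (x : L)‖ ^ 2 := by
  classical
  haveI : Fintype K := Fintype.ofFinite _
  have m0 : indFun F (ch θ₀) ∈ RD K H F := full_mem hD.normal hD.F_le h.H_normal hD.H_le hθ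
  have hconj : indFun F (ch θ₀⁻¹) = conjFun (indFun F (ch θ₀)) := by
    rw [conj_ind]
    congr 1
    funext x
    show ((θ₀⁻¹ x : ℂˣ) : ℂ) = conj ((θ₀ x : ℂˣ) : ℂ)
    rw [cc_conj, MonoidHom.inv_apply, map_inv]
  have hf1 : Full hD.normal K H θ₀⁻¹ := by
    refine ⟨?_, fun k hk hk' => hθ.2 k hk fun x => ?_⟩
    · obtain ⟨x, hx, hx1⟩ := hθ.1
      exact ⟨x, hx, by rw [MonoidHom.inv_apply]; exact fun hc => hx1 (by rw [← inv_inv (θ₀ x), hc, inv_one])⟩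
    · have := hk' x
      rw [MonoidHom.inv_apply, MonoidHom.inv_apply, inv_inj] at this
      exact this
  have hne : indFun F (ch θ₀) ≠ indFun F (ch θ₀⁻¹) := by
    rw [hconj]; exact fun hc => indD_conj_ne h m0.1 hc.symm
  have hi' : IsIrrCharacter L (indFun F (ch θ₀⁻¹)) := by rw [hconj]; exact IsIrr.conj hi
  have hself : classInner (indFun F (ch θ₀)) (indFun F (ch θ₀)) = 1 := ci_irr_self hi
  have hnorm : classInner (indFun F (ch θ₀)) (indFun F (ch θ₀)) = classInner (indFun F (ch θ₀⁻¹)) (indFun F (ch θ₀⁻¹)) := by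
    rw [hself, ci_irr_self hi']
  have hin : ∀ χ ∈ RD K H F, χ ≠ indFun F (ch θ₀) → classInner (τ₁ (indFun F (ch θ₀))) (τ₁ χ) = 0 := by
    intro χ hχ hχs
    rw [hC.inn m0 hχ]
    rcases indD_cases h hμ hχ.1 with hi2 | ⟨ψ, hψ2, hψ21, rfl⟩
    · exact ci_irr_ne hi hi2 fun hc => hχs hc.symm
    · rw [red_sum h.toPT hμ, ci_sum_right]
      refine Finset.sum_eq_zero fun φ hφ => ?_
      apply ci_irr_ne hi (hμ.irr _)
      intro hc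
      -- degree comparison
      have h5 := m0.2
      have h6 := hχ.2
      rw [red_one h.toPT hμ] at h6
      rw [hc, deg_col h.toPT hμ _ _ (mem_X1F.1 hφ), ← h6] at h5
      obtain ⟨n, hn0, hn⟩ := IsIrr.one_eq_nat (hμ.irr ψ)
      rw [hn] at h5
      have hq := hD.prime.one_lt
      have h7 : n = Nat.card W₁ * n := by exact_mod_cast h5
      have hn' : 0 < n := by
        rcases Nat.eq_zero_or_pos n with h8 | h8
        · exfalso; apply IsIrr.one_ne_zero (hμ.irr ψ); rw [hn, h8]; simp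
        · exact h8
      nlinarith
  have hcard : (OO F (indFun F (ch θ₀))).card = F.index := by
    have h4 := card_OO hD (θ₀ := θ₀)
    rw [hself, mul_one] at h4
    exact_mod_cast h4
  have := lb_gen h hμ hD hC.ext (hC.gen m0) hθ hf1 hne hnorm one_ne_zero (by rw [hC.inn m0 m0, hself]; simp) hin
  rwa [hcard] at this

end Cfsg.Agent.H12.P13
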