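import Mathlib
import Cfsg.Agent.H12_P13e

/-! PF §13: the lower bound (13.7) -/

set_option autoImplicit false
set_option linter.style.haveILetI false
set_option linter.unusedSectionVars false

namespace Cfsg.Agent.H12.P13

open Cfsg Cfsg.Agent.H3.CharIrr Cfsg.Agent.H3.CharComplete Cfsg.Agent.H3.CharInd Cfsg.Agent.H3.CharMult
  Cfsg.Agent.H3.CharBasic Cfsg.Agent.H3.CharCalc Cfsg.Agent.H3.Clifford Cfsg.Agent.H3.CharInt Cfsg.Agent.H3.CharQuot
  Cfsg.Agent.H10.CycTI Cfsg.Agent.H10.CycTI2 Cfsg.Agent.H10.CycTI3 Cfsg.Agent.H10.CycTI4 Cfsg.Agent.H10.PrD2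
  Cfsg.Agent.H10.PrD3 Cfsg.Agent.H10.PrD4 Cfsg.Agent.H10.PrD5 Cfsg.Agent.H10.Dade Cfsg.Agent.H10.PM Cfsg.Agent.H10.Coh
  Cfsg.Agent.H10.Coh2 Cfsg.Agent.H10.Coh3 Cfsg.Agent.H10.Coh4 Cfsg.Agent.H10.IndSet2 Cfsg.Agent.H10.OOClif Cfsg.Agent.H10.PrD6
  Cfsg.Agent.H10.PrD7 Cfsg.Agent.H10.PrD8
open scoped ComplexConjugate

section Abs

/-- a linear character fixed by a coprime automorphism and trivial on the fixed points is trivial -/
theorem fixhom {A : Type*} [Group A] [Finite A] (hab : ∀ a b : A, a * b = b * a) (σ : A →* A) (q : ℕ) (hσ : ∀ x, σ^[q] x = x)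
    (hq : Nat.Coprime q (Nat.card A)) (θ : A →* ℂˣ) (hθ : ∀ x, θ (σ x) = θ x) (hfix : ∀ x, σ x = x → θ x = 1) : θ = 1 := by
  ext x
  let P : ℕ → A := fun k => Nat.rec 1 (fun k r => r * σ^[k] x) k
  have hP : ∀ k, P (k + 1) = P k * σ^[k] x := fun k => rfl
  have hP0 : P 0 = 1 := rfl
  have hθk : ∀ k, θ (σ^[k] x) = θ x := by
    intro k
    induction k with
    | zero => rfl
    | succ k ih => rw [Function.iterate_succ_apply', hθ, ih]
  have ha : ∀ k, θ (P k) = θ x ^ k := by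
    intro k
    induction k with
    | zero => rw [hP0, map_one, pow_zero]
    | succ k ih => rw [hP, map_mul, ih, hθk, pow_succ]
  have hb : ∀ k, σ (P k) * x = P (k + 1) := by
    intro k
    induction k with
    | zero => rw [hP, hP0, map_one]; rfl
    | succ k ih =>
      have e1 : σ (P (k + 1)) * x = (σ (P k) * x) * σ^[k + 1] x := by
        rw [hP k, map_mul, Function.iterate_succ_apply', mul_assoc, mul_assoc, hab (σ (σ^[k] x)) x]
      exact (e1.trans (by rw [ih])).trans (hP (k + 1)).symm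
  have h1 : σ (P q) = P q := by
    have := hb q
    rw [hP, hσ] at this
    exact mul_right_cancel this
  have h2 : θ x ^ q = 1 := by rw [← ha]; exact hfix _ h1
  have h3 : θ x ^ Nat.card A = 1 := by rw [← map_pow, pow_card_eq_one', map_one]
  have h4 : orderOf (θ x) ∣ Nat.gcd q (Nat.card A) := Nat.dvd_gcd (orderOf_dvd_of_pow_eq_one h2) (orderOf_dvd_of_pow_eq_one h3)
  rw [hq] at h4
  have h5 := orderOf_eq_one_iff.1 (Nat.dvd_one.1 h4)
  rw [h5]; rfl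

/-- sum modulo `q` of an invariant function with one fixed point -/
theorem sum_mod {Γ α : Type*} [Group Γ] [MulAction Γ α] {q : ℕ} [Fact q.Prime] (hΓ : IsPGroup q Γ) (n : α → ℤ)
    (hn : ∀ (g : Γ) a, n (g • a) = n a) (s : Finset α) (hs : ∀ (g : Γ), ∀ a ∈ s, g • a ∈ s) (t : α) (ht : t ∈ s)
    (htf : ∀ g : Γ, g • t = t) (hu : ∀ a ∈ s, (∀ g : Γ, g • a = a) → a = t) : (q : ℤ) ∣ ∑ a ∈ s, n a - n t := by
  classical
  have key : ∀ z : ℤ, ((s.filter fun a => n a = z).card : ℤ) ≡ (if z = n t then 1 else 0) [ZMOD q] := by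
    intro z
    let X : SubMulAction Γ α := { carrier := {a | a ∈ s ∧ n a = z}, smul_mem' := fun g a ha => ⟨hs g a ha.1, by rw [hn]; exact ha.2⟩ }
    have hX : ∀ a, a ∈ X ↔ a ∈ s ∧ n a = z := fun a => Iff.rfl
    haveI : Finite X := by
      refine Finite.of_injective (fun a : X => (⟨a, ((hX _).1 a.2).1⟩ : s)) ?_
      intro a b hab
      exact Subtype.ext (congrArg (fun y : s => (y : α)) hab)
    have h1 := hΓ.card_modEq_card_fixedPoints X
    have h2 : Nat.card X = (s.filter fun a => n a = z).card := by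
      have e : X ≃ ↥(s.filter fun a => n a = z) := Equiv.subtypeEquivRight (fun a => by rw [Finset.mem_filter]; exact hX a)
      rw [Nat.card_congr e, Nat.card_eq_fintype_card, Fintype.card_coe]
    rw [h2] at h1
    have h3 : Nat.card (MulAction.fixedPoints Γ X) = if z = n t then 1 else 0 := by
      split_ifs with hz
      · rw [Nat.card_eq_one_iff_unique]
        refine ⟨⟨?_⟩, ⟨⟨⟨t, (hX t).2 ⟨ht, hz.symm⟩⟩, fun g => Subtype.ext (htf g)⟩⟩⟩
        rintro ⟨⟨a, ha⟩, ha'⟩ ⟨⟨b, hb⟩, hb'⟩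
        have e1 : a = t := hu a ((hX a).1 ha).1 fun g => congrArg Subtype.val (ha' g)
        have e2 : b = t := hu b ((hX b).1 hb).1 fun g => congrArg Subtype.val (hb' g)
        apply Subtype.ext
        apply Subtype.ext
        exact e1.trans e2.symm
      · rw [Nat.card_eq_zero]
        left
        constructor
        rintro ⟨⟨a, ha⟩, ha'⟩
        have e1 : a = t := hu a ((hX a).1 ha).1 fun g => congrArg Subtype.val (ha' g)
        exact hz (by rw [← e1]; exact ((hX a).1 ha).2.symm)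
    rw [h3] at h1
    have h4 := Int.natCast_modEq_iff.2 h1
    split_ifs at h4 ⊢ <;> exact_mod_cast h4
  have hsum : ∑ a ∈ s, n a = ∑ z ∈ s.image n, ((s.filter fun a => n a = z).card : ℤ) * z := by
    have := Finset.sum_comp (s := s) (fun z : ℤ => z) n
    rw [this]
    exact Finset.sum_congr rfl fun z _ => by rw [nsmul_eq_mul]
  have h5 : ∑ z ∈ s.image n, ((s.filter fun a => n a = z).card : ℤ) * z ≡ ∑ z ∈ s.image n, (if z = n t then 1 else 0) * z [ZMOD q] :=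
    Int.ModEq.sum fun z _ => Int.ModEq.mul_right z (key z)
  rw [← hsum] at h5
  have h6 : ∑ z ∈ s.image n, (if z = n t then 1 else 0) * z = n t := by
    rw [Finset.sum_eq_single (n t)]
    · rw [if_pos rfl, one_mul]
    · intro b _ hb; rw [if_neg hb, zero_mul]
    · intro hc; exact absurd (Finset.mem_image_of_mem n ht) hc
  rw [h6] at h5
  exact h5.symm.dvd

end Abs

variable {G : Type*} [Group G] [Fintype G] {L : Subgroup G} [Fintype L] {K H F : Subgroup L} {W₁ W₂ : Subgroup G} {A : Set G}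
  {R : G → Subgroup G} (h : PD L K H W₁ W₂ A R) {μ : (↥(W₁ ⊔ W₂) →* ℂˣ) → (L → ℂ)} {δ : (↥(W₁ ⊔ W₂) →* ℂˣ) → ℂ}
  (hμ : MU K W₁ W₂ μ δ) (hD : FD L K H F W₁ R) {η : (↥(W₁ ⊔ W₂) →* ℂˣ) → (G → ℂ)} (hη : IsCyclicTIFamily W₁ W₂ η)
  {τ₁ : (L → ℂ) → (G → ℂ)} (hC : CO K H F W₁ W₂ A R μ η τ₁)

theorem sum_hom {A : Type*} [Group A] [Fintype A] (θ χ : A →* ℂˣ) [DecidableEq (A →* ℂˣ)] :
    ∑ y : A, (θ y : ℂ) * conj (χ y : ℂ) = if θ = χ then (Nat.card A : ℂ) else 0 := by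
  have h1 := cc_inner θ χ
  rw [classInner] at h1
  have hc : (Nat.card A : ℂ) ≠ 0 := Nat.cast_ne_zero.2 Nat.card_pos.ne'
  rw [inv_mul_eq_iff_eq_mul₀ hc] at h1
  rw [h1]
  split_ifs <;> simp

include h hD in
/-- the constant in (13.7) -/
theorem n_ne [Fintype F] {φ : ↥(W₁ ⊔ W₂) →* ℂˣ} (hφ : X1 W₁ W₂ φ) (hφ1 : φ ≠ 1) {f : G → ℂ} (hf : IsGeneralizedCharacter G f)
    (hfφ : ∀ w : ↥(W₁ ⊔ W₂), (w : G) ∉ W₁ → (w : G) ∉ W₂ → f w = (φ w : ℂ)) {n : (↥F →* ℂˣ) → ℤ}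
    (hn : ∀ θ, co (fun x : F => f x) θ = n θ) {θ₀ : ↥F →* ℂˣ} (hθ₀ : ∃ h : F, (h : L) ∈ H ∧ θ₀ h ≠ 1)
    (hinv : ∀ w ∈ W₁.subgroupOf L, ∀ x : F, θ₀ ⟨w * x * w⁻¹, hD.normal.conj_mem x x.2 w⟩ = θ₀ x) : n 1 ≠ n θ₀ := by
  classical
  haveI : Fintype W₂ := Fintype.ofFinite _
  haveI : Fintype W₁ := Fintype.ofFinite _
  haveI : Fintype ↥(W₁ ⊔ W₂) := Fintype.ofFinite _
  have hF := hD.normal
  have hab := ab' hD
  have hcp : (Nat.card W₂ : ℂ) ≠ 0 := Nat.cast_ne_zero.2 Nat.card_pos.ne'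
  let inc : W₂ →* F := { toFun := fun y => ⟨⟨y, h.W₂_le y.2⟩, hD.H_le (h.W₂H (Subgroup.mem_subgroupOf.2 y.2))⟩
                         map_one' := rfl
                         map_mul' := fun _ _ => rfl }
  -- the fixed points
  obtain ⟨g, hg, hg1⟩ : ∃ g ∈ W₁.subgroupOf L, g ≠ 1 := by
    have h1 : W₁ ≠ ⊥ := h.self.1
    obtain ⟨a, ha⟩ : ∃ a : W₁, a ≠ 1 := (Subgroup.ne_bot_iff_exists_ne_one).1 h1
    exact ⟨⟨a, h.W₁_le a.2⟩, Subgroup.mem_subgroupOf.2 a.2, fun e => ha (Subtype.ext (congrArg (fun z : L => (z : G)) e))⟩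
  let σ : F →* F := MonoidHom.mk' (fun x => ⟨g * x * g⁻¹, hF.conj_mem x x.2 g⟩) (fun a b => Subtype.ext (by
    simp only [Subgroup.coe_mul]; group))
  have hσk : ∀ k : ℕ, ∀ x : F, ((σ^[k] x : F) : L) = g ^ k * x * (g ^ k)⁻¹ := by
    intro k x
    induction k with
    | zero => simp
    | succ k ih =>
      rw [Function.iterate_succ_apply']
      show g * ((σ^[k] x : F) : L) * g⁻¹ = _
      rw [ih, pow_succ']
      group
  have hgq : g ^ Nat.card W₁ = 1 := by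
    have h1 : (g : G) ∈ W₁ := Subgroup.mem_subgroupOf.1 hg
    have h2 : (⟨g, h1⟩ : W₁) ^ Nat.card W₁ = 1 := pow_card_eq_one'
    apply Subtype.ext
    exact congrArg (fun z : W₁ => (z : G)) h2
  have hcopF : Nat.Coprime (Nat.card W₁) (Nat.card F) := by
    refine Nat.Coprime.coprime_dvd_right ?_ h.hall
    exact Subgroup.card_dvd_of_le hD.F_le
  have triv : ∀ θ : ↥F →* ℂˣ, (∀ x, θ (σ x) = θ x) → θ.comp inc = 1 → θ = 1 := by
    intro θ h1 h2
    refine fixhom hab σ (Nat.card W₁) (fun x => Subtype.ext (by rw [hσk, hgq]; simp)) hcopF θ h1 fun x hx => ?_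
    have h3 : (g : L) * x * g⁻¹ = x := congrArg Subtype.val hx
    have h4 : (x : L) ∈ K ⊓ Subgroup.centralizer ({g} : Set L) := by
      refine ⟨hD.F_le x.2, ?_⟩
      show (x : L) ∈ Subgroup.centralizer {g}
      rw [Subgroup.mem_centralizer_singleton_iff]
      rw [mul_inv_eq_iff_eq_mul] at h3
      exact h3.symm
    rw [h.cent g hg hg1, Subgroup.mem_subgroupOf] at h4
    have h5 : inc ⟨x, h4⟩ = x := rfl
    rw [← h5]
    exact DFunLike.congr_fun h2 _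
  have hσ0 : ∀ x, θ₀ (σ x) = θ₀ x := fun x => hinv g hg x
  have hχ : θ₀.comp inc ≠ 1 := by
    intro hc
    obtain ⟨x, hx, hx1⟩ := hθ₀
    apply hx1
    rw [triv θ₀ hσ0 hc]; rfl
  -- the congruences
  letI := act hF
  haveI hqf := Fact.mk hD.prime
  have hcW : Nat.card (W₁.subgroupOf L) = Nat.card W₁ := Nat.card_congr (Subgroup.subgroupOfEquivOfLe h.W₁_le).toEquiv
  have hpg : IsPGroup (Nat.card W₁) (W₁.subgroupOf L) := IsPGroup.of_card (n := 1) (by rw [hcW, pow_one])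
  have hfL : IsClassFunction L (fun x : L => f x) := IsClass.comp (IsGen.isClass hf) L.subtype
  have hninv : ∀ (l : W₁.subgroupOf L) (θ : ↥F →* ℂˣ), n (l • θ) = n θ := by
    intro l θ
    have h1 := cj_ci_res hF hfL (l : L)⁻¹ (ch θ)
    have h2 : co (fun x : F => f x) (l • θ) = co (fun x : F => f x) θ := h1
    rw [hn, hn] at h2
    exact_mod_cast h2
  have hcl : ∀ (l : W₁.subgroupOf L) (θ : ↥F →* ℂˣ), (l • θ).comp inc = θ.comp inc := by
    intro l θ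
    ext y
    show ((θ ⟨(l : L)⁻¹ * (inc y) * (l : L)⁻¹⁻¹, _⟩ : ℂˣ) : ℂ) = θ (inc y)
    congr 2
    apply Subtype.ext
    apply Subtype.ext
    have h1 := hcomm h.self (l : L) (Subgroup.mem_subgroupOf.1 l.2) y y.2
    show ((l : L) : G)⁻¹ * y * ((l : L) : G)⁻¹⁻¹ = y
    rw [inv_inv, mul_assoc, ← h1]; group
  have hdiv : ∀ θ : ↥F →* ℂˣ, (∀ l : W₁.subgroupOf L, l • θ = θ) →
      ((Nat.card W₁ : ℕ) : ℤ) ∣ ∑ θ' ∈ Finset.univ.filter (fun θ' => θ'.comp inc = θ.comp inc), n θ' - n θ := by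
    intro θ hθ
    refine sum_mod hpg n hninv _ (fun l θ' hθ' => ?_) θ (by simp) hθ (fun θ' hθ' hfix => ?_)
    · rw [Finset.mem_filter] at hθ' ⊢
      exact ⟨Finset.mem_univ _, (hcl l θ').trans hθ'.2⟩
    · have h1 : ∀ θ'' : ↥F →* ℂˣ, (∀ l : W₁.subgroupOf L, l • θ'' = θ'') → ∀ x, θ'' (σ x) = θ'' x := by
        intro θ'' h2 x
        have h3 := DFunLike.congr_fun (h2 (⟨g, hg⟩⁻¹ : W₁.subgroupOf L)) x
        rw [← h3]
        show θ'' ⟨g * x * g⁻¹, _⟩ = θ'' ⟨g⁻¹⁻¹ * x * g⁻¹⁻¹⁻¹, _⟩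
        congr 1
        apply Subtype.ext
        simp
      have h2 : θ' * θ⁻¹ = 1 := by
        apply triv
        · intro x
          rw [MonoidHom.mul_apply, MonoidHom.inv_apply, MonoidHom.mul_apply, MonoidHom.inv_apply, h1 θ' hfix, h1 θ hθ]
        · ext y
          have h3 := DFunLike.congr_fun (Finset.mem_filter.1 hθ').2 y
          show (((θ' (inc y)) * (θ (inc y))⁻¹ : ℂˣ) : ℂ) = 1
          have h4 : θ' (inc y) = θ (inc y) := h3
          rw [h4, mul_inv_cancel]; rfl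
      exact mul_inv_eq_one.1 h2
  have hd1 := hdiv 1 (fun l => by ext x; rfl)
  have hd0 := hdiv θ₀ (fun l => by
    ext x
    have h1 := hinv (l : L)⁻¹ (inv_mem l.2) x
    show ((θ₀ ⟨(l : L)⁻¹ * x * (l : L)⁻¹⁻¹, _⟩ : ℂˣ) : ℂ) = θ₀ x
    rw [h1])
  set N1 := ∑ θ' ∈ Finset.univ.filter (fun θ' : ↥F →* ℂˣ => θ'.comp inc = (1 : ↥F →* ℂˣ).comp inc), n θ' with hN1
  set N0 := ∑ θ' ∈ Finset.univ.filter (fun θ' : ↥F →* ℂˣ => θ'.comp inc = θ₀.comp inc), n θ' with hN0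
  -- the sum over `W₂`
  set χ₀ : W₂ →* ℂˣ := θ₀.comp inc with hχ₀
  have hD1 : ∑ y : W₂, f y * (1 - conj (χ₀ y : ℂ)) = Nat.card W₂ * ((N1 : ℂ) - N0) := by
    have h1 : ∀ χ : ↥F →* ℂˣ, ∑ y : W₂, f y * conj ((χ.comp inc) y : ℂ) =
        Nat.card W₂ * ((∑ θ' ∈ Finset.univ.filter (fun θ' : ↥F →* ℂˣ => θ'.comp inc = χ.comp inc), n θ' : ℤ) : ℂ) := by
      intro χ
      have h2 : ∀ y : W₂, f y * conj ((χ.comp inc) y : ℂ) = ∑ θ : ↥F →* ℂˣ, (n θ : ℂ) * (((θ.comp inc) y : ℂ) * conj ((χ.comp inc) y : ℂ)) := by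
        intro y
        have h3 := inv_formula hab (fun x : F => f x) (inc y)
        have h4 : f y = ∑ θ : ↥F →* ℂˣ, (n θ : ℂ) * (θ (inc y) : ℂ) := by
          have h5 : f ((inc y : F) : L) = f y := rfl
          rw [← h5]
          beta_reduce at h3
          rw [h3]
          exact Finset.sum_congr rfl fun θ _ => by rw [hn]
        rw [h4, Finset.sum_mul]
        exact Finset.sum_congr rfl fun θ _ => by rw [mul_assoc]; rfl
      rw [Finset.sum_congr rfl fun y _ => h2 y, Finset.sum_comm]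
      rw [Finset.sum_congr rfl fun θ _ => (Finset.mul_sum _ _ _).symm]
      rw [Finset.sum_congr rfl fun θ _ => by rw [sum_hom (θ.comp inc) (χ.comp inc)]]
      push_cast
      rw [Finset.mul_sum, Finset.sum_filter]
      refine Finset.sum_congr rfl fun θ _ => ?_
      split_ifs <;> ring
    have e1 := h1 1
    have e0 := h1 θ₀
    rw [mul_sub, ← e1, ← e0, ← Finset.sum_sub_distrib]
    refine Finset.sum_congr rfl fun y _ => ?_
    have : conj (((1 : ↥F →* ℂˣ).comp inc) y : ℂ) = 1 := by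
      show conj ((1 : ℂˣ) : ℂ) = 1
      simp
    rw [this]
    ring
  -- the sum over `W`
  obtain ⟨p₁, p₂, hp1, hp2, hp, hpa, hpb⟩ := exists_p (hdisj h.self) (hcomm h.self)
  let π : ↥(W₁ ⊔ W₂) →* W₂ := { toFun := fun w => ⟨(p₂ w : ↥(W₁ ⊔ W₂)), hp2 w⟩
                                map_one' := Subtype.ext (by show ((p₂ 1 : ↥(W₁ ⊔ W₂)) : G) = 1; rw [map_one]; rfl)
                                map_mul' := fun a b => Subtype.ext (by
                                  show ((p₂ (a * b) : ↥(W₁ ⊔ W₂)) : G) = (p₂ a : ↥(W₁ ⊔ W₂)) * (p₂ b : ↥(W₁ ⊔ W₂))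
                                  rw [map_mul]; rfl) }
  let e : W₁ × W₂ → ↥(W₁ ⊔ W₂) := fun z => ⟨z.1 * z.2, mul_mem (Subgroup.mem_sup_left z.1.2) (Subgroup.mem_sup_right z.2.2)⟩
  have hebij : Function.Bijective e := by
    constructor
    · intro a b hab'
      have h1 : (a.1 : G) * a.2 = b.1 * b.2 := congrArg Subtype.val hab'
      exact Subgroup.mul_injective_of_disjoint (disjoint_iff.2 (hdisj h.self)) h1
    · intro w
      refine ⟨(⟨p₁ w, hp1 w⟩, ⟨p₂ w, hp2 w⟩), Subtype.ext ?_⟩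
      exact (congrArg Subtype.val (hp w)).symm
  have hπe : ∀ z, π (e z) = z.2 := by
    intro z
    have h1 : e z = ⟨z.1, Subgroup.mem_sup_left z.1.2⟩ * ⟨z.2, Subgroup.mem_sup_right z.2.2⟩ := rfl
    rw [h1, map_mul]
    have h2 : π ⟨z.1, Subgroup.mem_sup_left z.1.2⟩ = 1 := Subtype.ext (by
      show ((p₂ ⟨z.1, _⟩ : ↥(W₁ ⊔ W₂)) : G) = 1
      rw [(hpa _ z.1.2).2]; rfl)
    have h3 : π ⟨z.2, Subgroup.mem_sup_right z.2.2⟩ = z.2 := Subtype.ext (by
      show ((p₂ ⟨z.2, _⟩ : ↥(W₁ ⊔ W₂)) : G) = z.2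
      rw [(hpb _ z.2.2).1])
    rw [h2, h3, one_mul]
  have hm : ∀ ω : ↥(W₁ ⊔ W₂) →* ℂˣ, ∃ m : ℤ, ∑ w : ↥(W₁ ⊔ W₂), f w * conj (ω w : ℂ) = Nat.card W₁ * Nat.card W₂ * m := by
    intro ω
    obtain ⟨m, hm⟩ := ci_gen_int (IsGen.comp hf (W₁ ⊔ W₂).subtype) (IsGen.of_irr (cc_irr ω))
    refine ⟨m, ?_⟩
    have hcW' : (Nat.card ↥(W₁ ⊔ W₂) : ℂ) ≠ 0 := Nat.cast_ne_zero.2 Nat.card_pos.ne'
    have hcard : Nat.card ↥(W₁ ⊔ W₂) = Nat.card W₁ * Nat.card W₂ := by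
      rw [← Nat.card_eq_of_bijective e hebij, Nat.card_prod]
    rw [classInner, inv_mul_eq_iff_eq_mul₀ hcW'] at hm
    have : ((Nat.card ↥(W₁ ⊔ W₂) : ℕ) : ℂ) = Nat.card W₁ * Nat.card W₂ := by rw [hcard]; push_cast; ring
    rw [this] at hm
    exact hm
  obtain ⟨m1, hm1⟩ := hm 1
  obtain ⟨m0, hm0⟩ := hm (χ₀.comp π)
  have hT : ∑ w : ↥(W₁ ⊔ W₂), f w * (1 - conj ((χ₀.comp π) w : ℂ)) = Nat.card W₁ * Nat.card W₂ * ((m1 : ℂ) - m0) := by
    rw [mul_sub, ← hm1, ← hm0, ← Finset.sum_sub_distrib]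
    refine Finset.sum_congr rfl fun w _ => ?_
    rw [MonoidHom.one_apply]
    simp only [Units.val_one, map_one]
    ring
  have hχs : ∑ y : W₂, (1 - conj (χ₀ y : ℂ)) = Nat.card W₂ := by
    rw [Finset.sum_sub_distrib]
    have h1 := sum_hom (1 : W₂ →* ℂˣ) χ₀
    rw [if_neg (Ne.symm hχ)] at h1
    have h2 : ∑ y : W₂, conj (χ₀ y : ℂ) = 0 := by
      rw [← h1]
      exact Finset.sum_congr rfl fun y _ => by rw [MonoidHom.one_apply, Units.val_one, one_mul]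
    rw [h2, Finset.sum_const, Finset.card_univ, nsmul_eq_mul, mul_one, sub_zero, Nat.card_eq_fintype_card]
  have hφs : ∑ x ∈ Finset.univ.erase (1 : W₁), (φ ⟨x, Subgroup.mem_sup_left x.2⟩ : ℂ) = -1 := by
    let φ' : W₁ →* ℂˣ := φ.comp (Subgroup.inclusion le_sup_left)
    have hφ' : φ' ≠ 1 := by
      intro hc
      apply hφ1
      ext w
      rw [hp w, map_mul, hφ (p₂ w) (hp2 w), mul_one]
      have h2 := DFunLike.congr_fun hc ⟨(p₁ w : ↥(W₁ ⊔ W₂)), hp1 w⟩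
      have h3 : φ (p₁ w) = 1 := h2
      rw [h3]; rfl
    have h1 := sum_hom φ' (1 : W₁ →* ℂˣ)
    rw [if_neg hφ'] at h1
    have h2 : ∑ x : W₁, (φ ⟨x, Subgroup.mem_sup_left x.2⟩ : ℂ) = 0 := by
      rw [← h1]
      refine Finset.sum_congr rfl fun y _ => ?_
      rw [MonoidHom.one_apply, Units.val_one, map_one, mul_one]; rfl
    rw [← Finset.add_sum_erase _ _ (Finset.mem_univ (1 : W₁))] at h2
    have h3 : (φ ⟨((1 : W₁) : G), Subgroup.mem_sup_left (1 : W₁).2⟩ : ℂ) = 1 := by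
      have : (⟨((1 : W₁) : G), Subgroup.mem_sup_left (1 : W₁).2⟩ : ↥(W₁ ⊔ W₂)) = 1 := rfl
      rw [this, map_one]; rfl
    rw [h3] at h2
    linear_combination h2
  have hT2 : ∑ w : ↥(W₁ ⊔ W₂), f w * (1 - conj ((χ₀.comp π) w : ℂ)) = Nat.card W₂ * ((N1 : ℂ) - N0) - Nat.card W₂ := by
    rw [← Function.Bijective.sum_comp hebij (fun w => f w * (1 - conj ((χ₀.comp π) w : ℂ))), Fintype.sum_prod_type,
      ← Finset.add_sum_erase _ _ (Finset.mem_univ (1 : W₁))]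
    have h1 : ∑ y : W₂, f (e (1, y)) * (1 - conj ((χ₀.comp π) (e (1, y)) : ℂ)) = Nat.card W₂ * ((N1 : ℂ) - N0) := by
      rw [← hD1]
      refine Finset.sum_congr rfl fun y _ => ?_
      have h2 : ((e (1, y) : ↥(W₁ ⊔ W₂)) : G) = y := by show ((1 : W₁) : G) * y = y; simp
      rw [MonoidHom.comp_apply, hπe, h2]
    have h2 : ∀ x ∈ Finset.univ.erase (1 : W₁), ∑ y : W₂, f (e (x, y)) * (1 - conj ((χ₀.comp π) (e (x, y)) : ℂ)) =
        (φ ⟨x, Subgroup.mem_sup_left x.2⟩ : ℂ) * Nat.card W₂ := by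
      intro x hx
      have hx1 : x ≠ 1 := Finset.ne_of_mem_erase hx
      rw [← hχs, Finset.mul_sum]
      refine Finset.sum_congr rfl fun y _ => ?_
      rw [MonoidHom.comp_apply, hπe]
      by_cases hy : y = 1
      · rw [hy, map_one]; simp
      · congr 1
        have h3 : ((e (x, y) : ↥(W₁ ⊔ W₂)) : G) ∉ W₁ := by
          intro hc
          have h4 : (y : G) ∈ W₁ := by
            have := W₁.mul_mem (W₁.inv_mem x.2) hc
            have e5 : (x : G)⁻¹ * ((x : G) * y) = y := by group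
            rw [← e5]; exact this
          have h5 : (y : G) ∈ W₁ ⊓ W₂ := ⟨h4, y.2⟩
          rw [hdisj h.self, Subgroup.mem_bot] at h5
          exact hy (Subtype.ext h5)
        have h3' : ((e (x, y) : ↥(W₁ ⊔ W₂)) : G) ∉ W₂ := by
          intro hc
          have h4 : (x : G) ∈ W₂ := by
            have := W₂.mul_mem hc (W₂.inv_mem y.2)
            have e5 : (x : G) * y * (y : G)⁻¹ = x := by group
            rw [← e5]; exact this
          have h5 : (x : G) ∈ W₁ ⊓ W₂ := ⟨x.2, h4⟩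
          rw [hdisj h.self, Subgroup.mem_bot] at h5
          exact hx1 (Subtype.ext h5)
        rw [hfφ _ h3 h3']
        have h6 : e (x, y) = ⟨x, Subgroup.mem_sup_left x.2⟩ * ⟨y, Subgroup.mem_sup_right y.2⟩ := rfl
        have h7 := hφ ⟨y, Subgroup.mem_sup_right y.2⟩ y.2
        rw [h6, map_mul, h7, mul_one]
    rw [Finset.sum_congr rfl h2, h1, ← Finset.sum_mul, hφs]
    ring
  rw [hT] at hT2
  have hfin : (N1 : ℂ) - N0 - 1 = Nat.card W₁ * ((m1 : ℂ) - m0) := by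
    have h1 : (Nat.card W₂ : ℂ) * ((N1 : ℂ) - N0 - 1) = Nat.card W₂ * (Nat.card W₁ * ((m1 : ℂ) - m0)) := by
      linear_combination -hT2
    exact mul_left_cancel₀ hcp h1
  have hfin' : N1 - N0 - 1 = (Nat.card W₁ : ℤ) * (m1 - m0) := by exact_mod_cast hfin
  intro hc
  rw [hc] at hd1
  have h1 := dvd_sub hd1 hd0
  have h2 : N1 - n θ₀ - (N0 - n θ₀) = 1 + (Nat.card W₁ : ℤ) * (m1 - m0) := by linear_combination hfin'
  rw [h2] at h1
  have h3 : (Nat.card W₁ : ℤ) ∣ 1 := (Int.dvd_add_left (dvd_mul_right _ _)).1 h1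
  have h4 : Nat.card W₁ ∣ 1 := by exact_mod_cast h3
  exact hD.prime.one_lt.ne' (Nat.dvd_one.1 h4)

include h hμ hη hD hC in
/-- Peterfalvi (13.7) -/
theorem lb7 [DecidableEq F] [Fintype F] {φ : ↥(W₁ ⊔ W₂) →* ℂˣ} (hφ : X1 W₁ W₂ φ) (hφ1 : φ ≠ 1) :
    (Nat.card F : ℝ) - 1 ≤ ∑ x ∈ Finset.univ.erase (1 : F), ‖η φ (x : L)‖ ^ 2 := by
  classical
  haveI : Fintype K := Fintype.ofFinite _
  obtain ⟨k, -, hk, -, hk1, -, -⟩ := exists_X2 h
  obtain ⟨θ₀, f0, hinv, i0⟩ := exists_full h hμ hD hk hk1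
  obtain ⟨n, hn⟩ := exists_n (F := F) (eta_gen hη φ)
  have hab := ab' hD
  have hz : ∀ χ ∈ RD K H F, classInner (η φ) (τ₁ χ) = 0 := by
    intro χ hχ
    rcases indD_cases h hμ hχ.1 with hi | ⟨ψ, hψ2, hψ21, rfl⟩
    · rw [← ci_conj_symm, hC.irr χ hχ hi, map_zero]
    · obtain ⟨ε', hε', ψ', hψ', e'⟩ := hC.rd ψ hψ2 hψ21
      have hX : X2 W₁ W₂ ψ' ∧ ψ' ≠ 1 := by
        rcases hψ' with rfl | rfl
        · exact ⟨hψ2, hψ21⟩
        · exact ⟨X2_inv hψ2, inv_ne_one hψ21⟩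
      have := hC.inn_eta h hμ hη (ψ₀ := 1) hε' e' hφ hX.1 X2_one
      have e1 : φ * 1 = φ := by
        ext w
        rw [MonoidHom.mul_apply, MonoidHom.one_apply, mul_one]
      rw [e1] at this
      rw [this, if_neg hX.2]
  have hconst : ∀ θ, Full hD.normal K H θ → n θ = n θ₀ := by
    intro θ hθ
    have h1 := diff_n h hμ hD hC.ext (eta_gen hη φ) hθ f0
    rw [hz _ (full_mem hD.normal hD.F_le h.H_normal hD.H_le hθ), hz _ (full_mem hD.normal hD.F_le h.H_normal hD.H_le f0), sub_self, hn, hn,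
      sub_eq_zero] at h1
    exact_mod_cast h1
  have hne : n 1 ≠ n θ₀ := n_ne h hD hφ hφ1 (eta_gen hη φ) (fun w h1 h2 => hη.eq_on φ w h1 h2) hn f0.1 hinv
  have key := pairs_ge' n (Finset.univ.filter fun θ => Full hD.normal K H θ) ⟨θ₀, by simp [f0]⟩ (n θ₀)
    (fun θ hθ => hconst θ (Finset.mem_filter.1 hθ).2) 1 hne
  have h7 := sum_ne_one hab (fun x : F => η φ x) n hn
  rw [card_dual hab] at key
  have key' : (2 * ((Nat.card F : ℝ) - 1)) ≤ (pairs n : ℝ) := by exact_mod_cast key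
  rw [← h7] at key'
  linarith

end Cfsg.Agent.H12.P13
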