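import Mathlib
import Cfsg.Prelude.Def_Characters
import Cfsg.Agent.H3_CharGal
import Cfsg.Agent.H26_Basic

/-!
# H26_Galois: arithmetic mean - geometric mean for character values
-/

set_option autoImplicit false

namespace Cfsg.Agent.H26.Galois

open Cfsg Cfsg.Agent.H3.CharIrr Cfsg.Agent.H3.CharComplete Cfsg.Agent.H3.CharInd
  Cfsg.Agent.H3.CharGal Cfsg.Agent.H26.Basic

open scoped ComplexConjugate

theorem card_le_sum_of_prod {ι : Type*} [Fintype ι] (a : ι → ℝ) (ha : ∀ i, 0 < a i) (h : 1 ≤ ∏ i, a i) :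
    (Fintype.card ι : ℝ) ≤ ∑ i, a i := by
  have h1 : 0 ≤ ∑ i, Real.log (a i) := by
    rw [← Real.log_prod (fun i _ => (ha i).ne')]
    exact Real.log_nonneg h
  have h2 : ∑ i, Real.log (a i) ≤ ∑ i, (a i - 1) :=
    Finset.sum_le_sum fun i _ => Real.log_le_sub_one_of_pos (ha i)
  rw [Finset.sum_sub_distrib, Finset.sum_const, nsmul_eq_mul, mul_one, Finset.card_univ] at h2
  linarith

variable {G : Type*} [Group G] [Finite G]

theorem sum_ge {F : G → ℂ} (hF : IsCharacter G F) (S : Finset G)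
    (hS : ∀ x ∈ S, ∀ m : ℕ, m.Coprime (Nat.card G) → x ^ m ∈ S) (r : G → ℝ)
    (hr : ∀ x ∈ S, F x = r x) (hpos : ∀ x ∈ S, 0 < r x) : (S.card : ℝ) ≤ ∑ x ∈ S, r x := by
  classical
  set n := Nat.card G with hn
  haveI : NeZero n := ⟨Nat.card_pos.ne'⟩
  have hact := fun σ : Cyc n ≃ₐ[ℚ] Cyc n => gal_actsAs n σ
  choose m hm1 hm2 using hact
  -- for each x, the sum over the Galois group is at least its order
  have key : ∀ x ∈ S, (Fintype.card (Cyc n ≃ₐ[ℚ] Cyc n) : ℝ) ≤ ∑ σ : Cyc n ≃ₐ[ℚ] Cyc n, r (x ^ m σ) := by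
    intro x hx
    have hxn : x ^ n = 1 := by rw [hn]; exact pow_card_eq_one'
    obtain ⟨y, hy⟩ : ∃ y : Cyc n, (y : ℂ) = F x := ⟨⟨F x, IsChar.mem_cyc hF x hxn⟩, rfl⟩
    have hval : ∀ σ : Cyc n ≃ₐ[ℚ] Cyc n, ((σ y : Cyc n) : ℂ) = r (x ^ m σ) := by
      intro σ
      rw [IsChar.gal hF x hxn (hm2 σ) y hy]
      exact hr _ (hS x hx _ (hm1 σ))
    apply card_le_sum_of_prod _ (fun σ => hpos _ (hS x hx _ (hm1 σ)))
    have h1 := Algebra.norm_eq_prod_automorphisms ℚ y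
    have h2 : ((Algebra.norm ℚ y : ℚ) : ℂ) = ((∏ σ : Cyc n ≃ₐ[ℚ] Cyc n, r (x ^ m σ) : ℝ) : ℂ) := by
      have h3 := congrArg (algebraMap (Cyc n) ℂ) h1
      rw [map_prod] at h3
      have h4 : (algebraMap (Cyc n) ℂ) (algebraMap ℚ (Cyc n) (Algebra.norm ℚ y)) = ((Algebra.norm ℚ y : ℚ) : ℂ) := by
        rw [← IsScalarTower.algebraMap_apply]; rfl
      rw [h4] at h3
      rw [h3]
      push_cast
      exact Finset.prod_congr rfl fun σ _ => hval σ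
    have h3 : IsIntegral ℤ ((Algebra.norm ℚ y : ℚ) : ℂ) := by
      rw [h2]
      push_cast
      apply IsIntegral.prod
      intro σ _
      rw [← hr _ (hS x hx _ (hm1 σ))]
      exact IsChar.isIntegral hF _
    obtain ⟨k, hk⟩ := int_of_integral_rat h3
    have h4 : (k : ℝ) = ∏ σ : Cyc n ≃ₐ[ℚ] Cyc n, r (x ^ m σ) := by
      have : ((k : ℝ) : ℂ) = ((∏ σ : Cyc n ≃ₐ[ℚ] Cyc n, r (x ^ m σ) : ℝ) : ℂ) := by
        rw [← h2, ← hk]; push_cast; rfl
      exact_mod_cast this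
    have h5 : 0 < ∏ σ : Cyc n ≃ₐ[ℚ] Cyc n, r (x ^ m σ) :=
      Finset.prod_pos fun σ _ => hpos _ (hS x hx _ (hm1 σ))
    rw [← h4] at h5 ⊢
    have h6 : 0 < k := by exact_mod_cast h5
    exact_mod_cast h6
  -- double sum
  have h1 : ∑ x ∈ S, ∑ σ : Cyc n ≃ₐ[ℚ] Cyc n, r (x ^ m σ) =
      (Fintype.card (Cyc n ≃ₐ[ℚ] Cyc n) : ℝ) * ∑ x ∈ S, r x := by
    rw [Finset.sum_comm]
    have h2 : ∀ σ : Cyc n ≃ₐ[ℚ] Cyc n, ∑ x ∈ S, r (x ^ m σ) = ∑ x ∈ S, r x := by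
      intro σ
      have hinj : Set.InjOn (fun x : G => x ^ m σ) S := by
        intro x _ y _ hxy
        exact (powCoprime (G := G) (hm1 σ).symm).injective hxy
      have himg : S.image (fun x : G => x ^ m σ) = S := by
        apply Finset.eq_of_subset_of_card_le
        · intro y hy
          obtain ⟨x, hx, rfl⟩ := Finset.mem_image.1 hy
          exact hS x hx _ (hm1 σ)
        · rw [Finset.card_image_of_injOn hinj]
      conv_rhs => rw [← himg]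
      rw [Finset.sum_image hinj]
    simp_rw [h2]
    rw [Finset.sum_const, nsmul_eq_mul, Finset.card_univ]
  have h2 : (Fintype.card (Cyc n ≃ₐ[ℚ] Cyc n) : ℝ) * S.card ≤
      (Fintype.card (Cyc n ≃ₐ[ℚ] Cyc n) : ℝ) * ∑ x ∈ S, r x := by
    rw [← h1, mul_comm, ← nsmul_eq_mul, ← Finset.sum_const]
    exact Finset.sum_le_sum key
  have h3 : (0 : ℝ) < (Fintype.card (Cyc n ≃ₐ[ℚ] Cyc n) : ℝ) := by exact_mod_cast Fintype.card_pos
  exact le_of_mul_le_mul_left h2 h3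

theorem mem_of_pow_mem {H : Subgroup G} {x : G} {m : ℕ} (hm : m.Coprime (Nat.card G)) (h : x ^ m ∈ H) : x ∈ H := by
  have h1 : m.Coprime (orderOf x) := hm.coprime_dvd_right (orderOf_dvd_natCard x)
  have h2 : x ∈ Subgroup.zpowers (x ^ m) := by
    have h3 : Subgroup.zpowers (x ^ m) = Subgroup.zpowers x := by
      apply Subgroup.eq_of_le_of_card_ge
      · rw [Subgroup.zpowers_le]; exact Subgroup.pow_mem _ (Subgroup.mem_zpowers x) m
      · rw [Nat.card_zpowers, Nat.card_zpowers, orderOf_pow, Nat.Coprime.gcd_eq_one h1.symm, Nat.div_one]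
    rw [h3]; exact Subgroup.mem_zpowers x
  exact (Subgroup.zpowers_le.2 h) h2

theorem pow_ne_zero' {χ : G → ℂ} (hχ : IsCharacter G χ) {x : G} (h : χ x ≠ 0) {m : ℕ}
    (hm : m.Coprime (Nat.card G)) : χ (x ^ m) ≠ 0 := by
  haveI : NeZero (Nat.card G) := ⟨Nat.card_pos.ne'⟩
  obtain ⟨σ, hσ⟩ := exists_gal (Nat.card G) m hm
  have hxn : x ^ (Nat.card G) = 1 := pow_card_eq_one'
  obtain ⟨y, hy⟩ : ∃ y : Cyc (Nat.card G), (y : ℂ) = χ x := ⟨⟨χ x, IsChar.mem_cyc hχ x hxn⟩, rfl⟩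
  rw [← IsChar.gal hχ x hxn hσ y hy]
  intro h0
  have h1 : σ y = 0 := by
    apply Subtype.ext
    exact h0
  rw [map_eq_zero_iff σ σ.injective] at h1
  apply h
  rw [← hy, h1]; rfl

/-- for a character not vanishing on `S` -/
theorem sum_norm_ge {χ : G → ℂ} (hχ : IsCharacter G χ) (S : Finset G)
    (hS : ∀ x ∈ S, ∀ m : ℕ, m.Coprime (Nat.card G) → x ^ m ∈ S)
    (h0 : ∀ x ∈ S, χ x ≠ 0) : (S.card : ℝ) ≤ ∑ x ∈ S, ‖χ x‖ ^ 2 := by
  refine sum_ge (F := χ * fun g => conj (χ g)) (IsChar.mul hχ (IsChar.conj hχ)) S hS _ ?_ ?_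
  · intro x _
    rw [Pi.mul_apply, Complex.mul_conj, Complex.normSq_eq_norm_sq]
  · intro x hx
    have := norm_pos_iff.2 (h0 x hx)
    positivity

end Cfsg.Agent.H26.Galois
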