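import Mathlib
import Cfsg.Agent.H12_P13f
import Cfsg.Agent.H26_Galois

/-! PF §13: (13.9) -/

set_option autoImplicit false
set_option linter.style.haveILetI false
set_option linter.unusedSectionVars false

namespace Cfsg.Agent.H12.P13

open Cfsg Cfsg.Agent.H3.CharIrr Cfsg.Agent.H3.CharComplete Cfsg.Agent.H3.CharInd Cfsg.Agent.H3.CharMult
  Cfsg.Agent.H3.CharBasic Cfsg.Agent.H3.CharCalc Cfsg.Agent.H3.Clifford Cfsg.Agent.H3.CharInt Cfsg.Agent.H3.CharQuot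
  Cfsg.Agent.H10.CycTI Cfsg.Agent.H10.CycTI2 Cfsg.Agent.H10.CycTI3 Cfsg.Agent.H10.CycTI4 Cfsg.Agent.H10.CycTI5 Cfsg.Agent.H10.PrD2
  Cfsg.Agent.H10.PrD3 Cfsg.Agent.H10.PrD4 Cfsg.Agent.H10.PrD5 Cfsg.Agent.H10.Dade Cfsg.Agent.H10.PM Cfsg.Agent.H10.Coh
  Cfsg.Agent.H10.Coh2 Cfsg.Agent.H10.Coh3 Cfsg.Agent.H10.Coh4 Cfsg.Agent.H10.IndSet2 Cfsg.Agent.H10.OOClif Cfsg.Agent.H10.PrD6
  Cfsg.Agent.H10.PrD7 Cfsg.Agent.H10.PrD8
open scoped ComplexConjugate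

section TI

variable {G : Type*} [Group G] [Fintype G] [DecidableEq G]

/-- the union of the conjugates -/
noncomputable def CC (X : Finset G) : Finset G := by
  classical
  exact Finset.univ.filter fun y => ∃ g : G, g * y * g⁻¹ ∈ X

theorem mem_CC {X : Finset G} {y : G} : y ∈ CC X ↔ ∃ g : G, g * y * g⁻¹ ∈ X := by
  classical
  rw [CC, Finset.mem_filter]; simp

theorem ti_sum (X : Finset G) (L : Subgroup G) (h1 : ∀ l ∈ L, ∀ x ∈ X, l * x * l⁻¹ ∈ X)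
    (h2 : ∀ g, ∀ x ∈ X, g * x * g⁻¹ ∈ X → g ∈ L) (N : G → ℝ) (hN : ∀ g x, N (g * x * g⁻¹) = N x) :
    (Nat.card L : ℝ) * ∑ y ∈ CC X, N y = Nat.card G * ∑ x ∈ X, N x := by
  classical
  haveI := Fintype.ofFinite L
  let s : Finset (G × G) := Finset.univ ×ˢ X
  let f : G × G → G := fun z => z.1 * z.2 * z.1⁻¹
  have hmaps : ∀ z ∈ s, f z ∈ CC X := by
    intro z hz
    rw [mem_CC]
    refine ⟨z.1⁻¹, ?_⟩
    have : z.1⁻¹ * (z.1 * z.2 * z.1⁻¹) * z.1⁻¹⁻¹ = z.2 := by group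
    show z.1⁻¹ * (z.1 * z.2 * z.1⁻¹) * z.1⁻¹⁻¹ ∈ X
    rw [this]; exact (Finset.mem_product.1 hz).2
  have e1 := Finset.sum_fiberwise_of_maps_to hmaps (fun z => N (f z))
  have e2 : ∑ z ∈ s, N (f z) = Nat.card G * ∑ x ∈ X, N x := by
    show ∑ z ∈ Finset.univ ×ˢ X, N (f z) = _
    rw [Finset.sum_product]
    have : ∀ g ∈ (Finset.univ : Finset G), ∑ x ∈ X, N (f (g, x)) = ∑ x ∈ X, N x := fun g _ =>
      Finset.sum_congr rfl fun x _ => hN g x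
    rw [Finset.sum_congr rfl this, Finset.sum_const, Finset.card_univ, nsmul_eq_mul, Nat.card_eq_fintype_card]
  rw [← e2, ← e1, Finset.mul_sum]
  refine Finset.sum_congr rfl fun y hy => ?_
  have e3 : ∀ z ∈ s.filter (fun z => f z = y), N (f z) = N y := fun z hz => by rw [(Finset.mem_filter.1 hz).2]
  rw [Finset.sum_congr rfl e3, Finset.sum_const, nsmul_eq_mul]
  congr 1
  obtain ⟨g₀, hg₀⟩ := mem_CC.1 hy
  have hc : (s.filter fun z => f z = y).card = Nat.card L := by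
    rw [Nat.card_eq_fintype_card, ← Finset.card_univ]
    symm
    refine Finset.card_bij (fun (l : L) _ => ((g₀⁻¹ * l : G), ((l : G)⁻¹ * (g₀ * y * g₀⁻¹) * (l : G)))) ?_ ?_ ?_
    · intro l _
      rw [Finset.mem_filter, Finset.mem_product]
      refine ⟨⟨Finset.mem_univ _, ?_⟩, ?_⟩
      · have := h1 (l : G)⁻¹ (inv_mem l.2) _ hg₀
        rwa [inv_inv] at this
      · show g₀⁻¹ * l * ((l : G)⁻¹ * (g₀ * y * g₀⁻¹) * (l : G)) * (g₀⁻¹ * l)⁻¹ = y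
        group
    · intro l _ l' _ he
      have h3 : g₀⁻¹ * (l : G) = g₀⁻¹ * l' := congrArg Prod.fst he
      exact Subtype.ext (mul_left_cancel h3)
    · intro z hz
      obtain ⟨h3, h4⟩ := Finset.mem_filter.1 hz
      have h5 := (Finset.mem_product.1 h3).2
      have h4' : z.1 * z.2 * z.1⁻¹ = y := h4
      have h6 : (g₀ * z.1) * z.2 * (g₀ * z.1)⁻¹ = g₀ * y * g₀⁻¹ := by rw [← h4']; group
      have h7 : g₀ * z.1 ∈ L := h2 _ _ h5 (by rw [h6]; exact hg₀)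
      refine ⟨⟨g₀ * z.1, h7⟩, Finset.mem_univ _, ?_⟩
      apply Prod.ext
      · show g₀⁻¹ * (g₀ * z.1) = z.1
        group
      · show (g₀ * z.1)⁻¹ * (g₀ * y * g₀⁻¹) * (g₀ * z.1) = z.2
        rw [← h6]; group
  rw [hc]

/-- `Σ |f|² = |G|` -/
theorem pm_sum {f : G → ℂ} (hf : Pm f) : ∑ x : G, ‖f x‖ ^ 2 = Nat.card G := by
  have h1 := hf.norm
  have hc : (Nat.card G : ℂ) ≠ 0 := Nat.cast_ne_zero.2 Nat.card_pos.ne'
  rw [classInner, inv_mul_eq_iff_eq_mul₀ hc, mul_one] at h1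
  have h2 : ((∑ x : G, ‖f x‖ ^ 2 : ℝ) : ℂ) = (Nat.card G : ℂ) := by
    rw [← h1]
    push_cast
    exact Finset.sum_congr rfl fun x _ => by rw [Complex.mul_conj']
  exact_mod_cast h2

theorem pm_pow_ne {f : G → ℂ} (hf : Pm f) {x : G} (h : f x ≠ 0) {m : ℕ} (hm : m.Coprime (Nat.card G)) : f (x ^ m) ≠ 0 := by
  rcases hf with hf | hf
  · exact Cfsg.Agent.H26.Galois.pow_ne_zero' (IsIrr.isCharacter hf) h hm
  · have := Cfsg.Agent.H26.Galois.pow_ne_zero' (IsIrr.isCharacter hf) (x := x) (by rw [Pi.neg_apply]; exact neg_ne_zero.2 h) hm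
    rw [Pi.neg_apply] at this
    exact neg_ne_zero.1 this

theorem pm_pow_zero {f : G → ℂ} (hf : Pm f) {x : G} (h : f x = 0) {m : ℕ} (hm : m.Coprime (Nat.card G)) : f (x ^ m) = 0 := by
  by_contra hne
  obtain ⟨s, hs, hs'⟩ : ∃ s : ℕ, (m * s) ≡ 1 [MOD Nat.card G] ∧ s.Coprime (Nat.card G) := by
    refine ⟨m ^ (Nat.totient (Nat.card G) - 1), ?_, Nat.Coprime.pow_left _ hm⟩
    have h1 : 0 < Nat.totient (Nat.card G) := Nat.totient_pos.2 Nat.card_pos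
    rw [← pow_succ', Nat.sub_add_cancel h1]
    exact Nat.ModEq.pow_totient hm
  have h1 := pm_pow_ne hf hne hs'
  rw [← pow_mul] at h1
  have h2 : x ^ (m * s) = x := by
    conv_rhs => rw [← pow_one x]
    exact pow_eq_pow_iff_modEq.2 (hs.of_dvd (orderOf_dvd_natCard x))
  rw [h2] at h1
  exact h1 h

theorem pm_sum_ge {f : G → ℂ} (hf : Pm f) (S : Finset G) (hS : ∀ x ∈ S, ∀ m : ℕ, m.Coprime (Nat.card G) → x ^ m ∈ S)
    (h0 : ∀ x ∈ S, f x ≠ 0) : (S.card : ℝ) ≤ ∑ x ∈ S, ‖f x‖ ^ 2 := by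
  rcases hf with hf | hf
  · exact Cfsg.Agent.H26.Galois.sum_norm_ge (IsIrr.isCharacter hf) S hS h0
  · have := Cfsg.Agent.H26.Galois.sum_norm_ge (IsIrr.isCharacter hf) S hS (fun x hx => by rw [Pi.neg_apply]; exact neg_ne_zero.2 (h0 x hx))
    simpa using this

end TI

section Nine

variable {G : Type*} [Group G] [Fintype G] {L : Subgroup G} [Fintype L] {K H F : Subgroup L} {W₁ W₂ : Subgroup G} {A : Set G}
  {R : G → Subgroup G} (h : PD L K H W₁ W₂ A R) {μ : (↥(W₁ ⊔ W₂) →* ℂˣ) → (L → ℂ)} {δ : (↥(W₁ ⊔ W₂) →* ℂˣ) → ℂ}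
  (hμ : MU K W₁ W₂ μ δ) (hD : FD L K H F W₁ R) {η : (↥(W₁ ⊔ W₂) →* ℂˣ) → (G → ℂ)} (hη : IsCyclicTIFamily W₁ W₂ η)
  {τ₁ : (L → ℂ) → (G → ℂ)} (hC : CO K H F W₁ W₂ A R μ η τ₁)

omit [Fintype G] in
theorem X1_pow (hW : IsSelfNormalizingCyclic W₁ W₂) [Finite G] (hq : (Nat.card W₁).Prime) {φ φ' : ↥(W₁ ⊔ W₂) →* ℂˣ} (hφ : X1 W₁ W₂ φ) (hφ1 : φ ≠ 1)
    (hφ' : X1 W₁ W₂ φ') (hφ1' : φ' ≠ 1) : ∃ t : ℕ, (Nat.card G).Coprime t ∧ φ' = φ ^ t := by
  classical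
  haveI := Fintype.ofFinite G
  let Y : Subgroup (↥(W₁ ⊔ W₂) →* ℂˣ) :=
    { carrier := {φ | X1 W₁ W₂ φ}
      mul_mem' := fun ha hb => X1_mul ha hb
      one_mem' := X1_one
      inv_mem' := fun ha => X1_inv ha }
  have hY : Nat.card Y = Nat.card W₁ := card_X1 hW
  haveI : Fact (Nat.card W₁).Prime := ⟨hq⟩
  have h1 : (⟨φ', hφ'⟩ : Y) ∈ Submonoid.powers (⟨φ, hφ⟩ : Y) :=
    mem_powers_of_prime_card hY (fun hc => hφ1 (congrArg Subtype.val hc))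
  obtain ⟨k, hk⟩ := h1
  have hk' : ∀ w, φ' w = (φ w) ^ k := by
    intro w
    have h2 : φ ^ k = φ' := congrArg Subtype.val hk
    rw [← h2]; rfl
  have hφq : ∀ w, (φ w) ^ Nat.card W₁ = 1 := by
    intro w
    have h2 : (⟨φ, hφ⟩ : Y) ^ Nat.card Y = 1 := pow_card_eq_one'
    rw [hY] at h2
    have h3 : φ ^ Nat.card W₁ = 1 := congrArg Subtype.val h2
    exact DFunLike.congr_fun h3 w
  have hkc : k.Coprime (Nat.card W₁) := by
    rw [Nat.coprime_comm, hq.coprime_iff_not_dvd]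
    rintro ⟨m, rfl⟩
    apply hφ1'
    ext w
    rw [hk', pow_mul, hφq, one_pow]; rfl
  obtain ⟨t, ht1, -, ht2⟩ := exists_coprime (n := Nat.card W₁) (a := 1) (k := k) (N := Nat.card G) Nat.card_pos.ne' (Nat.coprime_one_right _) hkc
  refine ⟨t, ht2, ?_⟩
  ext w
  have h3 : k ≡ t [MOD orderOf (φ w)] := ht1.symm.of_dvd (orderOf_dvd_of_pow_eq_one (hφq w))
  rw [hk', pow_eq_pow_iff_modEq.2 h3]; rfl

include h hμ hη hD hC in
/-- Peterfalvi (13.9) -/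
theorem nonvan {x : G} (hxF : ∀ y : G, ∀ z : L, z ∈ F → z ≠ 1 → y * x * y⁻¹ ≠ z) (hxV : ∀ y : G, y * x * y⁻¹ ∉ V W₁ W₂)
    {θ₀ : ↥F →* ℂˣ} [Fintype F] (hθ : Full hD.normal K H θ₀) {φ : ↥(W₁ ⊔ W₂) →* ℂˣ} (hφ : X1 W₁ W₂ φ) (hφ1 : φ ≠ 1)
    (h0 : τ₁ (indFun F (ch θ₀)) x = 0) : η φ x ≠ 0 := by
  classical
  haveI : Fintype K := Fintype.ofFinite _
  intro hz
  obtain ⟨ψ, -, hψ, -, hψ1, -, -⟩ := exists_X2 h
  have m0 : indFun F (ch θ₀) ∈ RD K H F := full_mem hD.normal hD.F_le h.H_normal hD.H_le hθ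
  have m1 := red_RD h hμ hD hψ hψ1
  obtain ⟨ε, hε, ψ', hψ', e⟩ := hC.rd ψ hψ hψ1
  have hX : X2 W₁ W₂ ψ' ∧ ψ' ≠ 1 := by
    rcases hψ' with rfl | rfl
    · exact ⟨hψ, hψ1⟩
    · exact ⟨X2_inv hψ, inv_ne_one hψ1⟩
  have hz1 : indFun F (ch θ₀) - red K μ ψ ∈ zspanOn (RD K H F) {1}ᶜ := by
    rw [zo_iff]
    exact ⟨zs_diff (zs_sub m0) (zs_sub m1), by rw [Pi.sub_apply, m0.2, m1.2, sub_self]⟩
  have hτ := hC.ext.2 _ hz1
  rw [iso_diff hC.ext.1 (zs_sub m0) (zs_sub m1) (zs_neg (zs_sub m1))] at hτ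
  have hFv : ∀ y, y ∉ F → red K μ ψ y = 0 := by
    obtain ⟨θ₁, -, -, i1⟩ := exists_full h hμ hD hψ hψ1
    intro y hy
    rw [← i1, ind_of_not_mem hD.normal _ hy]
  have hoff := tau_off h hD (α := indFun F (ch θ₀) - red K μ ψ)
    (isClass_sub _ _ (ind_isClass F _) (ind_isClass K _))
    (fun y hy => by rw [Pi.sub_apply, ind_of_not_mem hD.normal _ hy, hFv y hy, sub_self])
    (by rw [Pi.sub_apply, m0.2, m1.2, sub_self]) hxF
  have h1 : τ₁ (red K μ ψ) x = 0 := by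
    have h2 := congrFun hτ x
    rw [hoff, Pi.sub_apply, h0, zero_sub, neg_eq_zero] at h2
    exact h2
  have h2 : etaC η ψ' x = 0 := by
    rw [e, Pi.smul_apply, smul_eq_mul] at h1
    rcases mul_eq_zero.1 h1 with h3 | h3
    · rcases hε with rfl | rfl
      · exact absurd h3 one_ne_zero
      · norm_num at h3
    · exact h3
  rw [etaC, Finset.sum_apply, ← Finset.add_sum_erase _ _ (mem_X1F.2 X1_one), one_mul'] at h2
  have h3 : ∀ φ' ∈ (X1F W₁ W₂).erase 1, η (φ' * ψ') x = η ψ' x - 1 := by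
    intro φ' hφ'
    obtain ⟨h4, h5⟩ := Finset.mem_erase.1 hφ'
    rw [mem_X1F] at h5
    have h6 := congrFun (hη.induced_eq φ' ψ' h4 hX.2 h5 hX.1) x
    have h7 : indFun (W₁ ⊔ W₂) (fun w => 1 - (φ' w : ℂ) - (ψ' w : ℂ) + (φ' w : ℂ) * (ψ' w : ℂ)) x = 0 := by
      rw [indFun]
      rw [Finset.sum_eq_zero, mul_zero]
      intro y _
      by_cases hy : y⁻¹ * x * y ∈ W₁ ⊔ W₂
      · rw [ext_mem _ _ hy]
        have h8 := hxV y⁻¹
        rw [inv_inv, mem_V] at h8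
        by_cases h9 : y⁻¹ * x * y ∈ W₁
        · have h10 : ψ' ⟨y⁻¹ * x * y, hy⟩ = 1 := hX.1 _ h9
          rw [h10]
          simp
        · by_cases h11 : y⁻¹ * x * y ∈ W₂
          · have h10 : φ' ⟨y⁻¹ * x * y, hy⟩ = 1 := h5 _ h11
            rw [h10]
            simp
          · exact absurd ⟨hy, h9, h11⟩ h8
      · rw [ext_not_mem _ _ hy]
    rw [h7] at h6
    obtain ⟨t, ht, htφ⟩ := X1_pow h.self hD.prime hφ hφ1 h5 h4
    have h8 : η φ' x = 0 := by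
      rw [htφ, ← gal_fam' h.self (odd_W h.toPT) (fam_of hη) ht φ x]
      exact pm_pow_zero (hη.irr_or_neg φ) hz ht.symm
    rw [h8] at h6
    linear_combination -h6
  rw [Finset.sum_congr rfl h3, Finset.sum_const, Finset.card_erase_of_mem (mem_X1F.2 X1_one), card_X1F h.self, nsmul_eq_mul,
    Nat.cast_sub hD.prime.one_lt.le, Nat.cast_one] at h2
  -- `q * η ψ' x = q - 1`
  have h4 : η ψ' x = ((Nat.card W₁ - 1 : ℕ) : ℂ) / (Nat.card W₁ : ℕ) := by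
    have hc : (Nat.card W₁ : ℂ) ≠ 0 := Nat.cast_ne_zero.2 Nat.card_pos.ne'
    rw [eq_div_iff hc, Nat.cast_sub hD.prime.one_lt.le, Nat.cast_one]
    linear_combination h2
  have h5 : IsIntegral ℤ (η ψ' x) := by
    rcases hη.irr_or_neg ψ' with h6 | h6
    · exact IsChar.isIntegral (IsIrr.isCharacter h6) x
    · have := (IsChar.isIntegral (IsIrr.isCharacter h6) x).neg
      rwa [Pi.neg_apply, neg_neg] at this
  rw [h4] at h5
  have h6 := dvd_of_isIntegral_div Nat.card_pos.ne' h5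
  have h7 := hD.prime.two_le
  have h8 := Nat.le_of_dvd (by omega) h6
  omega

end Nine

end Cfsg.Agent.H12.P13
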