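import Mathlib
import Cfsg.Agent.H12_P13g
import Cfsg.Agent.S1502

/-! PF §13: (13.10) -/

set_option autoImplicit false
set_option linter.style.haveILetI false
set_option linter.unusedSectionVars false

namespace Cfsg.Agent.H12.P13

open Cfsg Cfsg.Agent.H3.CharIrr Cfsg.Agent.H3.CharComplete Cfsg.Agent.H3.CharInd Cfsg.Agent.H3.CharMult
  Cfsg.Agent.H3.CharBasic Cfsg.Agent.H3.CharCalc Cfsg.Agent.H3.Clifford Cfsg.Agent.H3.CharInt Cfsg.Agent.H3.CharQuot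
  Cfsg.Agent.H10.CycTI Cfsg.Agent.H10.CycTI2 Cfsg.Agent.H10.CycTI3 Cfsg.Agent.H10.CycTI4 Cfsg.Agent.H10.CycTI5 Cfsg.Agent.H10.PrD2
  Cfsg.Agent.H10.PrD3 Cfsg.Agent.H10.PrD4 Cfsg.Agent.H10.PrD5 Cfsg.Agent.H10.Dade Cfsg.Agent.H10.PM Cfsg.Agent.H10.Coh
  Cfsg.Agent.H10.Coh2 Cfsg.Agent.H10.Coh3 Cfsg.Agent.H10.Coh4 Cfsg.Agent.H10.IndSet2 Cfsg.Agent.H10.OOClif Cfsg.Agent.H10.PrD6
  Cfsg.Agent.H10.PrD7 Cfsg.Agent.H10.PrD8
open scoped ComplexConjugate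

section Swap

variable {G : Type*} [Group G] [Fintype G] {W₁ W₂ : Subgroup G}

/-- the swapped inclusion -/
def sw (W₁ W₂ : Subgroup G) : ↥(W₁ ⊔ W₂) →* ↥(W₂ ⊔ W₁) := Subgroup.inclusion (le_of_eq (sup_comm _ _))

/-- the family for the swapped pair -/
def swη (η : (↥(W₁ ⊔ W₂) →* ℂˣ) → (G → ℂ)) : (↥(W₂ ⊔ W₁) →* ℂˣ) → (G → ℂ) := fun ω => η (ω.comp (sw W₁ W₂))

theorem ind_congr {A B : Subgroup G} (h : A = B) (f : B → ℂ) : indFun B f = indFun A (fun a => f ⟨a, h ▸ a.2⟩) := by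
  subst h; rfl

theorem sw_inj {ω ω' : ↥(W₂ ⊔ W₁) →* ℂˣ} : ω.comp (sw W₁ W₂) = ω'.comp (sw W₁ W₂) ↔ ω = ω' := by
  constructor
  · intro h
    ext w
    have h1 := DFunLike.congr_fun h ⟨w, by rw [sup_comm]; exact w.2⟩
    exact congrArg Units.val h1
  · rintro rfl; rfl

theorem sw_fam {η : (↥(W₁ ⊔ W₂) →* ℂˣ) → (G → ℂ)} (hη : IsCyclicTIFamily W₁ W₂ η) : IsCyclicTIFamily W₂ W₁ (swη η) where
  irr_or_neg ω := hη.irr_or_neg _
  orthonormal ω ω' := by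
    rw [swη, swη, hη.orthonormal]
    by_cases h : ω = ω'
    · rw [if_pos h, if_pos (by rw [h])]
    · rw [if_neg h, if_neg (fun hc => h (sw_inj.1 hc))]
  map_one := by
    rw [swη, MonoidHom.one_comp]
    exact hη.map_one
  eq_on ω w h1 h2 := by
    have := hη.eq_on (ω.comp (sw W₁ W₂)) ⟨w, by rw [sup_comm]; exact w.2⟩ h2 h1
    exact this
  induced_eq φ ψ hφ hψ h1 h2 := by
    have hφ' : φ.comp (sw W₁ W₂) ≠ 1 := fun hc => hφ (sw_inj.1 (hc.trans (MonoidHom.one_comp _).symm))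
    have hψ' : ψ.comp (sw W₁ W₂) ≠ 1 := fun hc => hψ (sw_inj.1 (hc.trans (MonoidHom.one_comp _).symm))
    have := hη.induced_eq (ψ.comp (sw W₁ W₂)) (φ.comp (sw W₁ W₂)) hψ' hφ' (fun w hw => h2 _ hw) (fun w hw => h1 _ hw)
    have e1 := ind_congr (sup_comm W₁ W₂) (fun w : ↥(W₂ ⊔ W₁) => 1 - (φ w : ℂ) - (ψ w : ℂ) + (φ w : ℂ) * (ψ w : ℂ))
    rw [e1]
    have e2 : (fun a : ↥(W₁ ⊔ W₂) => (fun w : ↥(W₂ ⊔ W₁) => 1 - (φ w : ℂ) - (ψ w : ℂ) + (φ w : ℂ) * (ψ w : ℂ)) ⟨a, sup_comm W₁ W₂ ▸ a.2⟩) =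
        fun w : ↥(W₁ ⊔ W₂) => 1 - ((ψ.comp (sw W₁ W₂)) w : ℂ) - ((φ.comp (sw W₁ W₂)) w : ℂ) +
          ((ψ.comp (sw W₁ W₂)) w : ℂ) * ((φ.comp (sw W₁ W₂)) w : ℂ) := by
      funext a
      show 1 - (φ (sw W₁ W₂ a) : ℂ) - (ψ (sw W₁ W₂ a) : ℂ) + (φ (sw W₁ W₂ a) : ℂ) * (ψ (sw W₁ W₂ a) : ℂ) = _
      rw [MonoidHom.comp_apply, MonoidHom.comp_apply]
      ring
    rw [e2, this]
    funext g
    have e3 : (ψ.comp (sw W₁ W₂)) * (φ.comp (sw W₁ W₂)) = (φ * ψ).comp (sw W₁ W₂) := by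
      ext w
      rw [MonoidHom.mul_apply, MonoidHom.comp_apply, MonoidHom.comp_apply, MonoidHom.comp_apply, MonoidHom.mul_apply, mul_comm]
    rw [e3]
    show 1 - η (ψ.comp (sw W₁ W₂)) g - η (φ.comp (sw W₁ W₂)) g + _ = 1 - η (φ.comp (sw W₁ W₂)) g - η (ψ.comp (sw W₁ W₂)) g +
      η ((φ * ψ).comp (sw W₁ W₂)) g
    ring

end Swap

section Real

/-- the final computation in (13.10) -/
theorem real10 {g s t fS fT NS NT aS aT sS sT u q v p : ℝ} (hg : 0 < g) (hfS : 0 < fS) (hfT : 0 < fT) (hu : 0 < u) (hq : 0 < q)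
    (hv : 0 < v) (hp : 0 < p) (hs : s = u * q * fS) (ht : t = v * p * fT)
    (h1 : s * aS = g * (fS - 1)) (h2 : s * NS = g * sS) (h3 : u * q * (fS - u * q) + (fS - 1) ≤ sS)
    (h4 : t * aT = g * (fT - 1)) (h5 : t * NT = g * sT) (h6 : v * (fT - v) ≤ sT)
    (h7 : (NS - aS) + (NT - aT) ≤ g) : fS * ((v - 1) * (fT - v - 1)) ≤ u * q * p * (v * fT) := by
  have e1 : g * (fS - u * q) ≤ fS * (NS - aS) := by
    have : u * q * (g * (fS - u * q)) ≤ u * q * (fS * (NS - aS)) := by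
      have : g * (u * q * (fS - u * q)) ≤ g * (sS - (fS - 1)) := mul_le_mul_of_nonneg_left (by linarith) hg.le
      have e : u * q * (fS * (NS - aS)) = g * (sS - (fS - 1)) := by
        have : s * (NS - aS) = g * (sS - (fS - 1)) := by linear_combination h2 - h1
        rw [← this, hs]; ring
      rw [e]
      linarith
    exact le_of_mul_le_mul_left this (by positivity)
  have e2 : g * ((v - 1) * (fT - v - 1)) ≤ v * p * fT * (NT - aT) := by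
    have e : v * p * fT * (NT - aT) = g * (sT - (fT - 1)) := by
      rw [← ht]; linear_combination h5 - h4
    rw [e]
    have : g * (v * (fT - v) - (fT - 1)) ≤ g * (sT - (fT - 1)) := mul_le_mul_of_nonneg_left (by linarith) hg.le
    nlinarith
  have e3 : g * (fS * ((v - 1) * (fT - v - 1))) ≤ g * (u * q * p * (v * fT)) := by
    have h8 : fS * (g * ((v - 1) * (fT - v - 1))) ≤ fS * (v * p * fT * (NT - aT)) := mul_le_mul_of_nonneg_left e2 hfS.le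
    have h9 : v * p * fT * (g * (fS - u * q)) ≤ v * p * fT * (fS * (NS - aS)) := mul_le_mul_of_nonneg_left e1 (by positivity)
    have h10 : v * p * fT * fS * ((NS - aS) + (NT - aT)) ≤ v * p * fT * fS * g := mul_le_mul_of_nonneg_left h7 (by positivity)
    nlinarith
  exact le_of_mul_le_mul_left e3 hg

end Real

section Main

variable {G : Type*} [Group G] [Fintype G]

/-- sums over `F^#` -/
theorem sum_F {S FS : Subgroup G} (hFS : FS ≤ S) [Fintype ↥(FS.subgroupOf S)] [DecidableEq ↥(FS.subgroupOf S)] [DecidableEq G]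
    [DecidablePred (fun x : G => x ∈ FS ∧ x ≠ 1)] (g : G → ℝ) :
    ∑ x ∈ Finset.univ.erase (1 : FS.subgroupOf S), g ((x : S) : G) = ∑ y ∈ Finset.univ.filter (fun x : G => x ∈ FS ∧ x ≠ 1), g y := by
  refine Finset.sum_bij (fun x _ => ((x : S) : G)) ?_ ?_ ?_ ?_
  · intro x hx
    rw [Finset.mem_filter]
    refine ⟨Finset.mem_univ _, Subgroup.mem_subgroupOf.1 x.2, fun hc => ?_⟩
    exact Finset.ne_of_mem_erase hx (Subtype.ext (Subtype.ext hc))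
  · intro x _ y _ he
    exact Subtype.ext (Subtype.ext he)
  · intro y hy
    obtain ⟨-, h1, h2⟩ := Finset.mem_filter.1 hy
    refine ⟨⟨⟨y, hFS h1⟩, Subgroup.mem_subgroupOf.2 h1⟩, Finset.mem_erase.2 ⟨fun hc => h2 ?_, Finset.mem_univ _⟩, rfl⟩
    exact congrArg (fun z : FS.subgroupOf S => ((z : S) : G)) hc
  · intro _ _; rfl

theorem card_F [DecidableEq G] {FS : Subgroup G} [DecidablePred (fun x : G => x ∈ FS ∧ x ≠ 1)] :
    ((Finset.univ.filter (fun x : G => x ∈ FS ∧ x ≠ 1)).card : ℝ) = Nat.card FS - 1 := by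
  classical
  haveI := Fintype.ofFinite FS
  have h1 : (Finset.univ.erase (1 : FS)).card = (Finset.univ.filter (fun x : G => x ∈ FS ∧ x ≠ 1)).card := by
    refine Finset.card_bij (fun x _ => (x : G)) ?_ ?_ ?_
    · intro x hx
      rw [Finset.mem_filter]
      exact ⟨Finset.mem_univ _, x.2, fun hc => Finset.ne_of_mem_erase hx (Subtype.ext hc)⟩
    · intro x _ y _ he; exact Subtype.ext he
    · intro y hy
      obtain ⟨-, h1, h2⟩ := Finset.mem_filter.1 hy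
      exact ⟨⟨y, h1⟩, Finset.mem_erase.2 ⟨fun hc => h2 (congrArg Subtype.val hc), Finset.mem_univ _⟩, rfl⟩
  rw [← h1, Finset.card_erase_of_mem (Finset.mem_univ _), Finset.card_univ, ← Nat.card_eq_fintype_card, Nat.cast_sub Nat.card_pos,
    Nat.cast_one]

variable {S T : Subgroup G} [Fintype S] [Fintype T] {FS FT W₁ W₂ : Subgroup G} (hFS : FS ≤ S) (hFT : FT ≤ T)
  {KS HS : Subgroup S} {KT HT : Subgroup T} {AS AT : Set G} {RS RT : G → Subgroup G}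
  (hS : PD S KS HS W₁ W₂ AS RS) (hT : PD T KT HT W₂ W₁ AT RT)
  {μS : (↥(W₁ ⊔ W₂) →* ℂˣ) → (S → ℂ)} {δS : (↥(W₁ ⊔ W₂) →* ℂˣ) → ℂ}
  {μT : (↥(W₂ ⊔ W₁) →* ℂˣ) → (T → ℂ)} {δT : (↥(W₂ ⊔ W₁) →* ℂˣ) → ℂ}
  (hμS : MU KS W₁ W₂ μS δS) (hμT : MU KT W₂ W₁ μT δT)
  (dS : FD S KS HS (FS.subgroupOf S) W₁ RS) (dT : FD T KT HT (FT.subgroupOf T) W₂ RT)
  (tiS : ∀ x ∈ FS, x ≠ 1 → ∀ g : G, g * x * g⁻¹ ∈ FS → g ∈ S)
  (tiT : ∀ x ∈ FT, x ≠ 1 → ∀ g : G, g * x * g⁻¹ ∈ FT → g ∈ T)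
  (disj : ∀ x ∈ FS, x ≠ 1 → ∀ g : G, g * x * g⁻¹ ∉ FT)
  (dVS : ∀ x ∈ FS, ∀ g : G, g * x * g⁻¹ ∉ V W₁ W₂) (dVT : ∀ x ∈ FT, ∀ g : G, g * x * g⁻¹ ∉ V W₁ W₂)

include hFS hFT hS hT hμS hμT dS dT tiS tiT disj dVS dVT in
/-- Peterfalvi (13.10) -/
theorem main10 {θ₀ : ↥(FS.subgroupOf S) →* ℂˣ} (hθ : Full dS.normal KS HS θ₀) (hirr : IsIrrCharacter S (indFun (FS.subgroupOf S) (ch θ₀)))
    {u v : ℕ} (hu : (FS.subgroupOf S).index = u * Nat.card W₁) (hv : (FT.subgroupOf T).index = v * Nat.card W₂) :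
    (Nat.card FS : ℝ) * (((v : ℝ) - 1) * (Nat.card FT - v - 1)) ≤ u * Nat.card W₁ * Nat.card W₂ * (v * Nat.card FT) := by
  classical
  haveI : Fintype KS := Fintype.ofFinite _
  haveI : Fintype ↥(FS.subgroupOf S) := Fintype.ofFinite _
  haveI : Fintype ↥(FT.subgroupOf T) := Fintype.ofFinite _
  obtain ⟨η, hη⟩ := Cfsg.Agent.S1502.result W₁ W₂ hS.self (odd_W hS.toPT)
  obtain ⟨τ₁, hC⟩ := exists_CO hS hμS dS hη
  obtain ⟨τ₂, hC'⟩ := exists_CO hT hμT dT (sw_fam hη)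
  obtain ⟨φ, -, hφ, -, hφ1, -, -⟩ := exists_two1 hS.self (odd_W hS.toPT)
  have m0 : indFun (FS.subgroupOf S) (ch θ₀) ∈ RD KS HS (FS.subgroupOf S) := full_mem dS.normal dS.F_le hS.H_normal dS.H_le hθ
  set f₁ := τ₁ (indFun (FS.subgroupOf S) (ch θ₀)) with hf₁
  set f₂ := η φ with hf₂
  have p1 : Pm f₁ := pm_of_norm_one (hC.gen m0) (by rw [hC.inn m0 m0]; exact ci_irr_self hirr)
  have p2 : Pm f₂ := hη.irr_or_neg φ
  let N : G → ℝ := fun x => ‖f₁ x‖ ^ 2 + ‖f₂ x‖ ^ 2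
  have hN0 : ∀ x, 0 ≤ N x := fun x => by positivity
  have hN : ∀ g x, N (g * x * g⁻¹) = N x := by
    intro g x
    show ‖f₁ (g * x * g⁻¹)‖ ^ 2 + ‖f₂ (g * x * g⁻¹)‖ ^ 2 = ‖f₁ x‖ ^ 2 + ‖f₂ x‖ ^ 2
    rw [p1.isClass, p2.isClass]
  let XS : Finset G := Finset.univ.filter (fun x : G => x ∈ FS ∧ x ≠ 1)
  let XT : Finset G := Finset.univ.filter (fun x : G => x ∈ FT ∧ x ≠ 1)
  let XV : Finset G := Finset.univ.filter (fun x : G => x ∈ V W₁ W₂)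
  have mS : ∀ x, x ∈ XS ↔ x ∈ FS ∧ x ≠ 1 := fun x => by
    show x ∈ Finset.univ.filter _ ↔ _
    rw [Finset.mem_filter]; simp
  have mT : ∀ x, x ∈ XT ↔ x ∈ FT ∧ x ≠ 1 := fun x => by
    show x ∈ Finset.univ.filter _ ↔ _
    rw [Finset.mem_filter]; simp
  have mV : ∀ x, x ∈ XV ↔ x ∈ V W₁ W₂ := fun x => by
    show x ∈ Finset.univ.filter _ ↔ _
    rw [Finset.mem_filter]; simp
  have conjS : ∀ l ∈ S, ∀ x ∈ XS, l * x * l⁻¹ ∈ XS := by
    intro l hl x hx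
    rw [mS] at hx ⊢
    refine ⟨?_, fun hc => hx.2 ?_⟩
    · have := dS.normal.conj_mem ⟨x, hFS hx.1⟩ (Subgroup.mem_subgroupOf.2 hx.1) ⟨l, hl⟩
      exact Subgroup.mem_subgroupOf.1 this
    · exact (conj_eq_one_iff).1 hc
  have conjT : ∀ l ∈ T, ∀ x ∈ XT, l * x * l⁻¹ ∈ XT := by
    intro l hl x hx
    rw [mT] at hx ⊢
    refine ⟨?_, fun hc => hx.2 ?_⟩
    · have := dT.normal.conj_mem ⟨x, hFT hx.1⟩ (Subgroup.mem_subgroupOf.2 hx.1) ⟨l, hl⟩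
      exact Subgroup.mem_subgroupOf.1 this
    · exact (conj_eq_one_iff).1 hc
  have sS := fun M hM => ti_sum XS S conjS (fun g x hx hgx => tiS x ((mS x).1 hx).1 ((mS x).1 hx).2 g ((mS _).1 hgx).1) M hM
  have sT := fun M hM => ti_sum XT T conjT (fun g x hx hgx => tiT x ((mT x).1 hx).1 ((mT x).1 hx).2 g ((mT _).1 hgx).1) M hM
  have sV := fun M hM => ti_sum XV (W₁ ⊔ W₂) (fun l hl x hx => by
    have hxW := ((mem_V).1 ((mV x).1 hx)).1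
    have : l * x * l⁻¹ = x := by
      have := congrArg Subtype.val (hab hS.self ⟨l, hl⟩ ⟨x, hxW⟩)
      have h3 : l * x = x * l := this
      rw [h3, mul_inv_cancel_right]
    rw [this]; exact hx) (fun g x hx hgx => ti hS.self ((mV x).1 hx) ((mV _).1 hgx)) M hM
  let U : Finset G := {1} ∪ (CC XS ∪ (CC XT ∪ CC XV))
  have d3 : Disjoint (CC XT) (CC XV) := by
    rw [Finset.disjoint_left]
    intro y hy hy'
    obtain ⟨a, ha⟩ := mem_CC.1 hy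
    obtain ⟨b, hb⟩ := mem_CC.1 hy'
    rw [mT] at ha
    rw [mV] at hb
    apply dVT _ ha.1 (b * a⁻¹)
    have : b * a⁻¹ * (a * y * a⁻¹) * (b * a⁻¹)⁻¹ = b * y * b⁻¹ := by group
    rw [this]; exact hb
  have d2 : Disjoint (CC XS) (CC XT ∪ CC XV) := by
    rw [Finset.disjoint_left]
    intro y hy hy'
    obtain ⟨a, ha⟩ := mem_CC.1 hy
    rw [mS] at ha
    rcases Finset.mem_union.1 hy' with hy' | hy'
    · obtain ⟨b, hb⟩ := mem_CC.1 hy'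
      rw [mT] at hb
      apply disj _ ha.1 ha.2 (b * a⁻¹)
      have : b * a⁻¹ * (a * y * a⁻¹) * (b * a⁻¹)⁻¹ = b * y * b⁻¹ := by group
      rw [this]; exact hb.1
    · obtain ⟨b, hb⟩ := mem_CC.1 hy'
      rw [mV] at hb
      apply dVS _ ha.1 (b * a⁻¹)
      have : b * a⁻¹ * (a * y * a⁻¹) * (b * a⁻¹)⁻¹ = b * y * b⁻¹ := by group
      rw [this]; exact hb
  have n1 : ∀ X : Finset G, (1 : G) ∉ X → (1 : G) ∉ CC X := by
    intro X hX hc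
    obtain ⟨g, hg⟩ := mem_CC.1 hc
    rw [mul_one, mul_inv_cancel] at hg
    exact hX hg
  have d1 : Disjoint ({1} : Finset G) (CC XS ∪ (CC XT ∪ CC XV)) := by
    rw [Finset.disjoint_singleton_left]
    intro hc
    rcases Finset.mem_union.1 hc with hc | hc
    · exact n1 _ (fun h => ((mS 1).1 h).2 rfl) hc
    · rcases Finset.mem_union.1 hc with hc | hc
      · exact n1 _ (fun h => ((mT 1).1 h).2 rfl) hc
      · refine n1 _ (fun h => ?_) hc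
        exact (mem_V.1 ((mV 1).1 h)).2.1 W₁.one_mem
  have part : ∀ M : G → ℝ, ∑ x, M x = M 1 + (∑ x ∈ CC XS, M x + (∑ x ∈ CC XT, M x + ∑ x ∈ CC XV, M x)) + ∑ x ∈ Finset.univ \ U, M x := by
    intro M
    have h1 := Finset.sum_sdiff (f := M) (Finset.subset_univ U)
    have h2 : ∑ x ∈ U, M x = M 1 + (∑ x ∈ CC XS, M x + (∑ x ∈ CC XT, M x + ∑ x ∈ CC XV, M x)) := by
      show ∑ x ∈ {1} ∪ (CC XS ∪ (CC XT ∪ CC XV)), M x = _
      rw [Finset.sum_union d1, Finset.sum_union d2, Finset.sum_union d3, Finset.sum_singleton]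
    rw [← h1, h2]; ring
  -- closure of `G₀` under powers
  have mU : ∀ x, x ∈ Finset.univ \ U ↔ x ≠ 1 ∧ (∀ g : G, g * x * g⁻¹ ∉ XS) ∧ (∀ g : G, g * x * g⁻¹ ∉ XT) ∧ (∀ g : G, g * x * g⁻¹ ∉ XV) := by
    intro x
    show x ∈ Finset.univ \ ({1} ∪ (CC XS ∪ (CC XT ∪ CC XV))) ↔ _
    rw [Finset.mem_sdiff, Finset.mem_union, Finset.mem_union, Finset.mem_union, Finset.mem_singleton, mem_CC, mem_CC, mem_CC]
    push Not
    simp
  have conjpow : ∀ (g x : G) (m : ℕ), g * x ^ m * g⁻¹ = (g * x * g⁻¹) ^ m := fun g x m => (conj_pow).symm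
  have clos : ∀ x ∈ Finset.univ \ U, ∀ m : ℕ, m.Coprime (Nat.card G) → x ^ m ∈ Finset.univ \ U := by
    intro x hx m hm
    rw [mU] at hx ⊢
    have hmem := fun (X : Subgroup G) (y : G) (h : y ^ m ∈ X) => Cfsg.Agent.H26.Galois.mem_of_pow_mem hm h
    refine ⟨fun hc => hx.1 ?_, fun g hc => ?_, fun g hc => ?_, fun g hc => ?_⟩
    · exact Subgroup.mem_bot.1 (hmem ⊥ x (Subgroup.mem_bot.2 hc))
    · rw [conjpow, mS] at hc
      refine hx.2.1 g ((mS _).2 ⟨hmem _ _ hc.1, fun h1 => hc.2 (by rw [h1, one_pow])⟩)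
    · rw [conjpow, mT] at hc
      refine hx.2.2.1 g ((mT _).2 ⟨hmem _ _ hc.1, fun h1 => hc.2 (by rw [h1, one_pow])⟩)
    · rw [conjpow, mV, mem_V] at hc
      refine hx.2.2.2 g ((mV _).2 (mem_V.2 ⟨hmem _ _ hc.1, fun h1 => hc.2.1 (pow_mem h1 m), fun h1 => hc.2.2 (pow_mem h1 m)⟩))
  have low0 : ((Finset.univ \ U).card : ℝ) ≤ ∑ x ∈ Finset.univ \ U, N x := by
    have h1 := pm_sum_ge p1 ((Finset.univ \ U).filter fun x => f₁ x ≠ 0) (fun x hx m hm => by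
      rw [Finset.mem_filter] at hx ⊢
      exact ⟨clos x hx.1 m hm, pm_pow_ne p1 hx.2 hm⟩) (fun x hx => (Finset.mem_filter.1 hx).2)
    have h2 := pm_sum_ge p2 ((Finset.univ \ U).filter fun x => ¬ f₁ x ≠ 0) (fun x hx m hm => by
      rw [Finset.mem_filter] at hx ⊢
      exact ⟨clos x hx.1 m hm, not_not.2 (pm_pow_zero p1 (not_not.1 hx.2) hm)⟩) (fun x hx => by
      obtain ⟨h3, h4⟩ := Finset.mem_filter.1 hx
      rw [mU] at h3
      refine nonvan hS hμS dS hη hC (x := x) ?_ ?_ hθ hφ hφ1 (not_not.1 h4)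
      · intro y z hz hz1 he
        apply h3.2.1 y
        rw [mS, he]
        exact ⟨Subgroup.mem_subgroupOf.1 hz, fun hc => hz1 (Subtype.ext hc)⟩
      · intro y hc
        exact h3.2.2.2 y ((mV _).2 hc))
    have h3 := Finset.card_filter_add_card_filter_not (s := Finset.univ \ U) (fun x => f₁ x ≠ 0)
    have h4 := Finset.sum_filter_add_sum_filter_not (Finset.univ \ U) (fun x => f₁ x ≠ 0) N
    rw [← h4, ← h3]
    push_cast
    refine add_le_add (h1.trans (Finset.sum_le_sum fun x _ => ?_)) (h2.trans (Finset.sum_le_sum fun x _ => ?_))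
    · show ‖f₁ x‖ ^ 2 ≤ ‖f₁ x‖ ^ 2 + ‖f₂ x‖ ^ 2
      have := sq_nonneg ‖f₂ x‖; linarith
    · show ‖f₂ x‖ ^ 2 ≤ ‖f₁ x‖ ^ 2 + ‖f₂ x‖ ^ 2
      have := sq_nonneg ‖f₁ x‖; linarith
  -- the sum over `V`
  have lowV : ∑ x ∈ CC XV, (1 : ℝ) ≤ ∑ x ∈ CC XV, N x := by
    refine Finset.sum_le_sum fun y hy => ?_
    obtain ⟨g, hg⟩ := mem_CC.1 hy
    rw [← hN g y]
    obtain ⟨h3, h4, h5⟩ := mem_V.1 ((mV _).1 hg)
    have h6 : f₂ (g * y * g⁻¹) = (φ ⟨g * y * g⁻¹, h3⟩ : ℂ) := hη.eq_on φ ⟨g * y * g⁻¹, h3⟩ h4 h5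
    have h7 : ‖f₂ (g * y * g⁻¹)‖ = 1 := by
      rw [h6]
      have h8 : (φ ⟨g * y * g⁻¹, h3⟩) ^ Nat.card ↥(W₁ ⊔ W₂) = 1 := by rw [← map_pow, pow_card_eq_one', map_one]
      exact Complex.norm_eq_one_of_pow_eq_one (n := Nat.card ↥(W₁ ⊔ W₂)) (by
        have := congrArg Units.val h8
        push_cast at this
        exact this) Nat.card_pos.ne'
    show 1 ≤ ‖f₁ (g * y * g⁻¹)‖ ^ 2 + ‖f₂ (g * y * g⁻¹)‖ ^ 2
    rw [h7]
    have := sq_nonneg ‖f₁ (g * y * g⁻¹)‖; linarith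
  have low1 : (1 : ℝ) ≤ N 1 := by
    obtain ⟨z, hz⟩ : ∃ z : ℤ, f₂ 1 = z := by
      rcases p2 with h1 | h1
      · obtain ⟨n, -, hn⟩ := IsIrr.one_eq_nat h1
        exact ⟨n, by rw [hn]; simp⟩
      · obtain ⟨n, -, hn⟩ := IsIrr.one_eq_nat h1
        refine ⟨-n, ?_⟩
        rw [Pi.neg_apply, neg_eq_iff_eq_neg] at hn
        rw [hn]; simp
    have hz0 : z ≠ 0 := by
      rintro rfl
      exact p2.one_ne (by rw [hz]; simp)
    have h2 : ‖f₂ 1‖ ^ 2 = ((z ^ 2 : ℤ) : ℝ) := by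
      rw [hz, Complex.norm_intCast, sq_abs]; push_cast; ring
    have h3 : (1 : ℝ) ≤ ((z ^ 2 : ℤ) : ℝ) := by exact_mod_cast sq_pos_int hz0
    show 1 ≤ ‖f₁ 1‖ ^ 2 + ‖f₂ 1‖ ^ 2
    have := sq_nonneg ‖f₁ 1‖
    linarith
  -- totals
  have tot1 := part N
  have tot2 := part (fun _ => 1)
  have tot3 : ∑ x, N x = 2 * Nat.card G := by
    show ∑ x, (‖f₁ x‖ ^ 2 + ‖f₂ x‖ ^ 2) = _
    rw [Finset.sum_add_distrib, pm_sum p1, pm_sum p2]; ring
  have tot4 : ∑ x : G, (1 : ℝ) = Nat.card G := by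
    rw [Finset.sum_const, Finset.card_univ, nsmul_eq_mul, mul_one, Nat.card_eq_fintype_card]
  have low0' : ∑ x ∈ Finset.univ \ U, (1 : ℝ) ≤ ∑ x ∈ Finset.univ \ U, N x := by
    rw [Finset.sum_const, nsmul_eq_mul, mul_one]; exact low0
  -- the two lower bounds
  have cFS : Nat.card ↥(FS.subgroupOf S) = Nat.card FS := Nat.card_congr (Subgroup.subgroupOfEquivOfLe hFS).toEquiv
  have cFT : Nat.card ↥(FT.subgroupOf T) = Nat.card FT := Nat.card_congr (Subgroup.subgroupOfEquivOfLe hFT).toEquiv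
  have L6 := lb6 hS hμS dS hη hC hθ hirr
  have L7 := lb7 hS hμS dS hη hC hφ hφ1
  rw [sum_F hFS (fun x => ‖f₁ x‖ ^ 2), cFS, hu] at L6
  rw [sum_F hFS (fun x => ‖f₂ x‖ ^ 2), cFS] at L7
  let φT : ↥(W₂ ⊔ W₁) →* ℂˣ := φ.comp (sw W₂ W₁)
  have hφT : X2 W₂ W₁ φT := fun w hw => hφ _ hw
  have eφT : swη η φT = η φ := by
    show η (φT.comp (sw W₁ W₂)) = η φ
    congr 1
  have hφT1 : φT ≠ 1 := fun hc => hφ1 (by
    have : φT.comp (sw W₁ W₂) = 1 := by rw [hc]; rfl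
    exact this)
  have L8 := lb8 hT hμT dT (sw_fam hη) hC' hφT hφT1 hv
  rw [eφT, sum_F hFT (fun x => ‖f₂ x‖ ^ 2), cFT] at L8
  have hidxS := Subgroup.index_mul_card (FS.subgroupOf S)
  have hidxT := Subgroup.index_mul_card (FT.subgroupOf T)
  rw [hu, cFS] at hidxS
  rw [hv, cFT] at hidxT
  have hu0 : 0 < u := by
    rcases Nat.eq_zero_or_pos u with h0 | h0
    · rw [h0, zero_mul] at hu; exact absurd hu Subgroup.index_ne_zero_of_finite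
    · exact h0
  have hv0 : 0 < v := by
    rcases Nat.eq_zero_or_pos v with h0 | h0
    · rw [h0, zero_mul] at hv; exact absurd hv Subgroup.index_ne_zero_of_finite
    · exact h0
  have sumS : ∑ x ∈ XS, N x = ∑ x ∈ XS, ‖f₁ x‖ ^ 2 + ∑ x ∈ XS, ‖f₂ x‖ ^ 2 := Finset.sum_add_distrib
  have sumT : ∑ x ∈ XT, ‖f₂ x‖ ^ 2 ≤ ∑ x ∈ XT, N x := Finset.sum_le_sum fun x _ => by
    show ‖f₂ x‖ ^ 2 ≤ ‖f₁ x‖ ^ 2 + ‖f₂ x‖ ^ 2
    have := sq_nonneg ‖f₁ x‖; linarith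
  have cardS : ∑ x ∈ XS, (1 : ℝ) = Nat.card FS - 1 := by
    rw [Finset.sum_const, nsmul_eq_mul, mul_one]; exact card_F
  have cardT : ∑ x ∈ XT, (1 : ℝ) = Nat.card FT - 1 := by
    rw [Finset.sum_const, nsmul_eq_mul, mul_one]; exact card_F
  have a1 := sS (fun _ => 1) (fun _ _ => rfl)
  have a2 := sS N hN
  have b1 := sT (fun _ => 1) (fun _ _ => rfl)
  have b2 := sT N hN
  rw [cardS] at a1
  rw [cardT] at b1
  refine real10 (g := Nat.card G) (s := Nat.card S) (t := Nat.card T) (NS := ∑ x ∈ CC XS, N x) (NT := ∑ x ∈ CC XT, N x)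
    (aS := ∑ x ∈ CC XS, (1 : ℝ)) (aT := ∑ x ∈ CC XT, (1 : ℝ)) (sS := ∑ x ∈ XS, N x) (sT := ∑ x ∈ XT, N x)
    (by exact_mod_cast Nat.card_pos) (by exact_mod_cast Nat.card_pos) (by exact_mod_cast Nat.card_pos) (by exact_mod_cast hu0)
    (by exact_mod_cast Nat.card_pos) (by exact_mod_cast hv0) (by exact_mod_cast Nat.card_pos) (by exact_mod_cast hidxS.symm)
    (by exact_mod_cast hidxT.symm) a1 a2 ?_ b1 b2 (L8.trans sumT) ?_
  · rw [sumS]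
    push_cast at L6
    linarith
  · linarith

end Main

end Cfsg.Agent.H12.P13
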