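import Mathlib
import Cfsg.Agent.H12_P13f
import Cfsg.Agent.S1502

/-! PF §13: counting the fully supported characters -/

set_option autoImplicit false
set_option linter.style.haveILetI false
set_option linter.unusedSectionVars false

namespace Cfsg.Agent.H12.P13

open Cfsg Cfsg.Agent.H3.CharIrr Cfsg.Agent.H3.CharComplete Cfsg.Agent.H3.CharInd Cfsg.Agent.H3.CharMult
  Cfsg.Agent.H3.CharBasic Cfsg.Agent.H3.CharCalc Cfsg.Agent.H3.Clifford Cfsg.Agent.H3.CharInt Cfsg.Agent.H3.CharQuot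
  Cfsg.Agent.H10.CycTI Cfsg.Agent.H10.CycTI2 Cfsg.Agent.H10.CycTI3 Cfsg.Agent.H10.CycTI4 Cfsg.Agent.H10.CycTI5 Cfsg.Agent.H10.PrD2
  Cfsg.Agent.H10.PrD3 Cfsg.Agent.H10.PrD4 Cfsg.Agent.H10.PrD5 Cfsg.Agent.H10.Dade Cfsg.Agent.H10.PM Cfsg.Agent.H10.Coh
  Cfsg.Agent.H10.Coh2 Cfsg.Agent.H10.Coh3 Cfsg.Agent.H10.Coh4 Cfsg.Agent.H10.IndSet2 Cfsg.Agent.H10.OOClif Cfsg.Agent.H10.PrD6
  Cfsg.Agent.H10.PrD7 Cfsg.Agent.H10.PrD8
open scoped ComplexConjugate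

/-- the central part `C` of `F = H C` -/
structure CX {G : Type*} [Group G] {L : Subgroup G} (K H F C : Subgroup L) (W₂ : Subgroup G) : Prop where
  le : C ≤ F
  normal : C.Normal
  sup : ∀ x ∈ F, ∃ a ∈ H, ∃ c ∈ C, x = a * c
  comm : ∀ c ∈ C, ∀ k ∈ K, c * k = k * c
  inf : ∀ c ∈ C, (c : G) ∈ W₂ → c = 1
  HC : ∀ c ∈ C, c ∈ H → c = 1

variable {G : Type*} [Group G] [Fintype G] {L : Subgroup G} [Fintype L] {K H F C : Subgroup L} {W₁ W₂ : Subgroup G} {A : Set G}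
  {R : G → Subgroup G} (h : PD L K H W₁ W₂ A R) {μ : (↥(W₁ ⊔ W₂) →* ℂˣ) → (L → ℂ)} {δ : (↥(W₁ ⊔ W₂) →* ℂˣ) → ℂ}
  (hμ : MU K W₁ W₂ μ δ) (hD : FD L K H F W₁ R) (hC : CX K H F C W₂)

/-- the set of nontrivial `ψ` -/
noncomputable def X2F (W₁ W₂ : Subgroup G) : Finset (↥(W₁ ⊔ W₂) →* ℂˣ) := by
  classical
  exact Finset.univ.filter fun ψ => X2 W₁ W₂ ψ ∧ ψ ≠ 1

theorem mem_X2F {ψ : ↥(W₁ ⊔ W₂) →* ℂˣ} : ψ ∈ X2F W₁ W₂ ↔ X2 W₁ W₂ ψ ∧ ψ ≠ 1 := by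
  classical
  rw [X2F, Finset.mem_filter]; simp

theorem card_X2F (hW : IsSelfNormalizingCyclic W₁ W₂) : (X2F W₁ W₂).card = Nat.card W₂ - 1 := by
  classical
  have h1 : (Finset.univ.filter fun ψ : ↥(W₁ ⊔ W₂) →* ℂˣ => X2 W₁ W₂ ψ).card = Nat.card W₂ := by
    rw [← card_X2 hW, Nat.card_eq_fintype_card, Fintype.card_subtype]
  have h2 : X2F W₁ W₂ = (Finset.univ.filter fun ψ : ↥(W₁ ⊔ W₂) →* ℂˣ => X2 W₁ W₂ ψ).erase 1 := by
    ext ψ
    rw [mem_X2F, Finset.mem_erase, Finset.mem_filter]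
    constructor
    · rintro ⟨h3, h4⟩; exact ⟨h4, Finset.mem_univ _, h3⟩
    · rintro ⟨h3, -, h4⟩; exact ⟨h4, h3⟩
  rw [h2, Finset.card_erase_of_mem (Finset.mem_filter.2 ⟨Finset.mem_univ _, X2_one⟩), h1]

/-- the characters inducing the `μ_j` -/
noncomputable def BB (K F : Subgroup L) (W₁ W₂ : Subgroup G) (μ : (↥(W₁ ⊔ W₂) →* ℂˣ) → (L → ℂ)) : Finset (↥F →* ℂˣ) := by
  classical
  exact (X2F W₁ W₂).biUnion fun ψ => OO F (red K μ ψ)

theorem mem_BB {θ : ↥F →* ℂˣ} : θ ∈ BB K F W₁ W₂ μ ↔ ∃ ψ, X2 W₁ W₂ ψ ∧ ψ ≠ 1 ∧ indFun F (ch θ) = red K μ ψ := by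
  classical
  rw [BB, Finset.mem_biUnion]
  constructor
  · rintro ⟨ψ, h1, h2⟩
    exact ⟨ψ, (mem_X2F.1 h1).1, (mem_X2F.1 h1).2, mem_OO.1 h2⟩
  · rintro ⟨ψ, h1, h2, h3⟩
    exact ⟨ψ, mem_X2F.2 ⟨h1, h2⟩, mem_OO.2 h3⟩

include h hμ hD in
theorem card_BB {u : ℕ} (hu : F.index = u * Nat.card W₁) : (BB K F W₁ W₂ μ).card = (Nat.card W₂ - 1) * u := by
  classical
  obtain ⟨η, hη⟩ := Cfsg.Agent.S1502.result W₁ W₂ h.self (odd_W h.toPT)
  rw [BB, Finset.card_biUnion]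
  · have h1 : ∀ ψ ∈ X2F W₁ W₂, (OO F (red K μ ψ)).card = u := by
      intro ψ hψ
      obtain ⟨h2, h3⟩ := mem_X2F.1 hψ
      obtain ⟨θ, -, -, e⟩ := exists_full h hμ hD h2 h3
      have h4 := card_OO hD (θ₀ := θ)
      rw [e, red_norm h hμ hη h2, hu] at h4
      have hc : (Nat.card W₁ : ℂ) ≠ 0 := Nat.cast_ne_zero.2 Nat.card_pos.ne'
      push_cast at h4
      exact_mod_cast mul_right_cancel₀ hc h4
    rw [Finset.sum_congr rfl h1, Finset.sum_const, card_X2F h.self, smul_eq_mul]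
  · intro ψ hψ ψ' hψ' hne
    show Disjoint (OO F (red K μ ψ)) (OO F (red K μ ψ'))
    rw [Finset.disjoint_left]
    intro θ h1 h2
    exact hne (red_inj h.toPT hμ (mem_X2F.1 hψ).1 (mem_X2F.1 hψ').1 ((mem_OO.1 h1).symm.trans (mem_OO.1 h2)))

include h hD in
/-- an element of prime order generating `W₁` and its action -/
theorem exists_sigma : ∃ g : L, g ∈ W₁.subgroupOf L ∧ g ≠ 1 ∧ g ^ Nat.card W₁ = 1 := by
  have h1 : W₁ ≠ ⊥ := h.self.1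
  obtain ⟨a, ha⟩ : ∃ a : W₁, a ≠ 1 := (Subgroup.ne_bot_iff_exists_ne_one).1 h1
  refine ⟨⟨a, h.W₁_le a.2⟩, Subgroup.mem_subgroupOf.2 a.2, fun e => ha (Subtype.ext (congrArg (fun z : L => (z : G)) e)), ?_⟩
  have h2 : a ^ Nat.card W₁ = 1 := pow_card_eq_one'
  apply Subtype.ext
  exact congrArg (fun z : W₁ => (z : G)) h2

include h hD hC in
/-- a linear character of `F` which is `W₁`-invariant on `C` is trivial on `C` -/
theorem triv_C {θ : ↥F →* ℂˣ} (hinv : ∀ w ∈ W₁.subgroupOf L, ∀ x : F, (x : L) ∈ C → θ ⟨w * x * w⁻¹, hD.normal.conj_mem x x.2 w⟩ = θ x) :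
    ∀ x : F, (x : L) ∈ C → θ x = 1 := by
  obtain ⟨g, hg, hg1, hgq⟩ := exists_sigma h hD
  haveI := hC.normal
  let σ : C →* C := MonoidHom.mk' (fun x => ⟨g * x * g⁻¹, hC.normal.conj_mem x x.2 g⟩) (fun a b => Subtype.ext (by
    simp only [Subgroup.coe_mul]; group))
  have hσk : ∀ k : ℕ, ∀ x : C, ((σ^[k] x : C) : L) = g ^ k * x * (g ^ k)⁻¹ := by
    intro k x
    induction k with
    | zero => simp
    | succ k ih =>
      rw [Function.iterate_succ_apply']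
      show g * ((σ^[k] x : C) : L) * g⁻¹ = _
      rw [ih, pow_succ']
      group
  have hcopC : Nat.Coprime (Nat.card W₁) (Nat.card C) := by
    refine Nat.Coprime.coprime_dvd_right ?_ h.hall
    exact Subgroup.card_dvd_of_le (hC.le.trans hD.F_le)
  have key := fixhom (A := C) (fun a b => Subtype.ext (hC.comm a a.2 b (hD.F_le (hC.le b.2)))) σ (Nat.card W₁)
    (fun x => Subtype.ext (by rw [hσk, hgq]; simp)) hcopC (θ.comp (Subgroup.inclusion hC.le)) (fun x => by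
      have := hinv g hg ⟨x, hC.le x.2⟩ x.2
      exact this) (fun x hx => by
      have h3 : (g : L) * x * g⁻¹ = x := congrArg Subtype.val hx
      have h4 : (x : L) ∈ K ⊓ Subgroup.centralizer ({g} : Set L) := by
        refine ⟨hD.F_le (hC.le x.2), ?_⟩
        show (x : L) ∈ Subgroup.centralizer {g}
        rw [Subgroup.mem_centralizer_singleton_iff]
        rw [mul_inv_eq_iff_eq_mul] at h3
        exact h3.symm
      rw [h.cent g hg hg1, Subgroup.mem_subgroupOf] at h4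
      have h5 : x = 1 := Subtype.ext (hC.inf x x.2 h4)
      rw [h5, map_one])
  intro x hx
  exact DFunLike.congr_fun key ⟨x, hx⟩

include h hμ hD hC in
/-- a character inducing `μ_j` is trivial on `C` -/
theorem BB_triv {θ : ↥F →* ℂˣ} (hθ : θ ∈ BB K F W₁ W₂ μ) : ∀ x : F, (x : L) ∈ C → θ x = 1 := by
  obtain ⟨ψ, h1, h2, e⟩ := mem_BB.1 hθ
  obtain ⟨θ₁, f1, hinv, e1⟩ := exists_full h hμ hD h1 h2
  have h3 : θ ∈ OO F (indFun F (ch θ₁)) := mem_OO.2 (e.trans e1.symm)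
  obtain ⟨g, hg⟩ := (mem_OO_iff hD).1 h3
  intro x hx
  have h4 : θ x = θ₁ ⟨g * x * g⁻¹, hD.normal.conj_mem x x.2 g⟩ := Units.ext (congrFun hg x).symm
  rw [h4]
  exact triv_C h hD hC (fun w hw x _ => hinv w hw x) _ (hC.normal.conj_mem _ hx g)

include h hμ hD in
theorem BB_full {θ : ↥F →* ℂˣ} (hθ : θ ∈ BB K F W₁ W₂ μ) : Full hD.normal K H θ := by
  obtain ⟨ψ, h1, h2, e⟩ := mem_BB.1 hθ
  obtain ⟨θ₁, f1, hinv, e1⟩ := exists_full h hμ hD h1 h2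
  exact full_of_OO h hD f1 (mem_OO.2 (e.trans e1.symm))

include h hμ hD hC in
/-- `(p - 1) u ≤ |H| - 1` -/
theorem card_le {u : ℕ} (hu : F.index = u * Nat.card W₁) : (Nat.card W₂ - 1) * u ≤ Nat.card H - 1 := by
  classical
  haveI : Fintype H := Fintype.ofFinite _
  have habH : ∀ a b : H, a * b = b * a := fun a b => Subtype.ext (hD.ab a (hD.H_le a.2) b (hD.H_le b.2))
  rw [← card_BB h hμ hD hu, ← card_dual habH, ← Finset.card_univ, ← Finset.card_erase_of_mem (Finset.mem_univ (1 : H →* ℂˣ))]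
  refine Finset.card_le_card_of_injOn (fun θ => θ.comp (Subgroup.inclusion hD.H_le)) ?_ ?_
  · intro θ hθ
    rw [Finset.mem_coe] at hθ ⊢
    refine Finset.mem_erase.2 ⟨fun hc => ?_, Finset.mem_univ _⟩
    obtain ⟨x, hx, hx1⟩ := (BB_full h hμ hD hθ).1
    exact hx1 (DFunLike.congr_fun hc ⟨x, hx⟩)
  · intro θ hθ θ' hθ' he
    rw [Finset.mem_coe] at hθ hθ'
    ext x
    obtain ⟨a, ha, c, hc, e⟩ := hC.sup x x.2
    have e' : x = ⟨a, hD.H_le ha⟩ * ⟨c, hC.le hc⟩ := Subtype.ext e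
    have h1 := BB_triv h hμ hD hC hθ ⟨c, hC.le hc⟩ hc
    have h2 := BB_triv h hμ hD hC hθ' ⟨c, hC.le hc⟩ hc
    have h3 : θ ⟨a, hD.H_le ha⟩ = θ' ⟨a, hD.H_le ha⟩ := DFunLike.congr_fun he ⟨a, ha⟩
    rw [e', map_mul, map_mul, h1, h2, h3]

include h hμ hD hC in
/-- if `C ≠ 1` there is an irreducible character of the form `Ind θ`, `θ` fully supported -/
theorem exists_irr_of_C (hC1 : C ≠ ⊥) : ∃ θ : ↥F →* ℂˣ, Full hD.normal K H θ ∧ IsIrrCharacter L (indFun F (ch θ)) := by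
  classical
  haveI : Fintype K := Fintype.ofFinite _
  haveI : Fintype F := Fintype.ofFinite _
  obtain ⟨ψ, -, hψ, -, hψ1, -, -⟩ := exists_X2 h
  obtain ⟨θ₀, f0, hinv, e0⟩ := exists_full h hμ hD hψ hψ1
  have habF := ab' hD
  -- a character trivial on `H`, nontrivial on `C`
  obtain ⟨χ, hχH, hχC⟩ : ∃ χ : ↥F →* ℂˣ, (∀ x : F, (x : L) ∈ H → χ x = 1) ∧ ∃ c : F, (c : L) ∈ C ∧ χ c ≠ 1 := by
    have hn : (H.subgroupOf F).Normal := ⟨fun a ha g => by rw [habF g a, mul_inv_cancel_right]; exact ha⟩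
    obtain ⟨c, hc⟩ := (Subgroup.ne_bot_iff_exists_ne_one).1 hC1
    have hcH : (⟨c, hC.le c.2⟩ : F) ∉ H.subgroupOf F := fun h1 => hc (Subtype.ext (hC.HC c c.2 (Subgroup.mem_subgroupOf.1 h1)))
    let Q := F ⧸ H.subgroupOf F
    haveI : Fintype Q := Fintype.ofFinite _
    have habQ : ∀ a b : Q, a * b = b * a := by
      intro a b
      obtain ⟨a, rfl⟩ := QuotientGroup.mk_surjective a
      obtain ⟨b, rfl⟩ := QuotientGroup.mk_surjective b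
      rw [← QuotientGroup.mk_mul, ← QuotientGroup.mk_mul, habF]
    have hsep : ∃ χ : Q →* ℂˣ, χ (QuotientGroup.mk ⟨c, hC.le c.2⟩) ≠ 1 := by
      by_contra hcon
      push Not at hcon
      haveI := Fintype.ofFinite (Q →* ℂˣ)
      have h1 := col_hom habQ (QuotientGroup.mk ⟨c, hC.le c.2⟩ : Q)
      rw [if_neg (fun h2 => hcH ((QuotientGroup.eq_one_iff _).1 h2))] at h1
      have h2 : ∑ f : Q →* ℂˣ, ((f (QuotientGroup.mk ⟨c, hC.le c.2⟩) : ℂˣ) : ℂ) = Fintype.card (Q →* ℂˣ) := by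
        rw [Finset.sum_congr rfl fun f _ => by rw [hcon f, Units.val_one], Finset.sum_const, Finset.card_univ, nsmul_eq_mul, mul_one]
      rw [h2] at h1
      have h3 : Fintype.card (Q →* ℂˣ) ≠ 0 := Fintype.card_ne_zero
      exact h3 (by exact_mod_cast h1)
    obtain ⟨χ, hχ⟩ := hsep
    refine ⟨χ.comp (QuotientGroup.mk' _), fun x hx => ?_, ⟨c, hC.le c.2⟩, c.2, hχ⟩
    rw [MonoidHom.comp_apply, QuotientGroup.mk'_apply, (QuotientGroup.eq_one_iff _).2 (Subgroup.mem_subgroupOf.2 hx), map_one]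
  set θ : ↥F →* ℂˣ := θ₀ * χ with hθ
  have hval : ∀ x, θ x = θ₀ x * χ x := fun x => rfl
  have hχK : ∀ k ∈ K, ∀ x : F, χ ⟨k * x * k⁻¹, hD.normal.conj_mem x x.2 k⟩ = χ x := by
    intro k hk x
    obtain ⟨a, ha, c, hc, e⟩ := hC.sup x x.2
    have e' : x = ⟨a, hD.H_le ha⟩ * ⟨c, hC.le hc⟩ := Subtype.ext e
    have e'' : (⟨k * x * k⁻¹, hD.normal.conj_mem x x.2 k⟩ : F) = ⟨k * a * k⁻¹, hD.H_le (h.H_normal.conj_mem a ha k)⟩ * ⟨c, hC.le hc⟩ := by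
      apply Subtype.ext
      show k * x * k⁻¹ = k * a * k⁻¹ * c
      rw [e]
      have := hC.comm c hc k⁻¹ (inv_mem hk)
      calc k * (a * c) * k⁻¹ = k * a * (c * k⁻¹) := by group
        _ = k * a * (k⁻¹ * c) := by rw [this]
        _ = k * a * k⁻¹ * c := by group
    have z1 : χ ⟨k * a * k⁻¹, hD.H_le (h.H_normal.conj_mem a ha k)⟩ = 1 := hχH _ (h.H_normal.conj_mem a ha k)
    have z2 : χ ⟨a, hD.H_le ha⟩ = 1 := hχH _ ha
    have z3 : χ x = χ ⟨a, hD.H_le ha⟩ * χ ⟨c, hC.le hc⟩ := by rw [← map_mul, ← e']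
    rw [e'', map_mul, z3, z1, z2]
  have hfull : Full hD.normal K H θ := by
    refine ⟨?_, fun k hk hk' => f0.2 k hk fun x => ?_⟩
    · obtain ⟨x, hx, hx1⟩ := f0.1
      exact ⟨x, hx, by rw [hval, hχH x hx, mul_one]; exact hx1⟩
    · have h1 := hk' x
      rw [hval, hval, hχK k hk x] at h1
      exact mul_right_cancel h1
  refine ⟨θ, hfull, ?_⟩
  rcases indD_cases h hμ (full_mem hD.normal hD.F_le h.H_normal hD.H_le hfull).1 with hi | ⟨ψ', h1, h2, e⟩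
  · exact hi
  · exfalso
    have h3 : θ ∈ BB K F W₁ W₂ μ := mem_BB.2 ⟨ψ', h1, h2, e⟩
    have h4 : θ₀ ∈ BB K F W₁ W₂ μ := mem_BB.2 ⟨ψ, hψ, hψ1, e0⟩
    obtain ⟨c, hc, hc1⟩ := hχC
    have h5 := BB_triv h hμ hD hC h3 c hc
    have h6 := BB_triv h hμ hD hC h4 c hc
    rw [hval, h6, one_mul] at h5
    exact hc1 h5

include h hμ hD in
/-- if no `Ind θ` is irreducible, the fully supported characters are the `(p-1)u` characters inducing the `μ_j` -/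
theorem full_le (hno : ∀ θ : ↥F →* ℂˣ, Full hD.normal K H θ → ¬ IsIrrCharacter L (indFun F (ch θ))) {θ : ↥F →* ℂˣ}
    (hθ : Full hD.normal K H θ) : θ ∈ BB K F W₁ W₂ μ := by
  haveI : Fintype K := Fintype.ofFinite _
  haveI : Fintype F := Fintype.ofFinite _
  rcases indD_cases h hμ (full_mem hD.normal hD.F_le h.H_normal hD.H_le hθ).1 with hi | ⟨ψ', h1, h2, e⟩
  · exact absurd hi (hno θ hθ)
  · exact mem_BB.2 ⟨ψ', h1, h2, e⟩

end Cfsg.Agent.H12.P13
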