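import Cfsg.Statements.S1546
import Mathlib

set_option autoImplicit false
open Cfsg

namespace Cfsg.Agent.S1546

/-- Let p and q be odd primes and N = (p ^ q − 1) / (p − 1) = 1 + p + ⋯ + p^(q−1). Then N is odd; if p ≡ 1 (mod q) then q ∣ N; and if p is not ≡ 1 (mod q) then N is coprime to p − 1 and every divisor of N is ≡ 1 (mod q). -/
theorem result (p q : ℕ) (hp : p.Prime) (hq : q.Prime) (hp2 : p ≠ 2) (hq2 : q ≠ 2) : Odd ((p ^ q - 1) / (p - 1)) ∧ (p % q = 1 → q ∣ (p ^ q - 1) / (p - 1)) ∧ (p % q ≠ 1 → Nat.Coprime ((p ^ q - 1) / (p - 1)) (p - 1) ∧ ∀ x : ℕ, x ∣ (p ^ q - 1) / (p - 1) → x % q = 1) := by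
  have hp1 : 2 ≤ p := hp.two_le
  have hq1 : 2 ≤ q := hq.two_le
  have hpo : Odd p := hp.odd_of_ne_two hp2
  have hqo : Odd q := hq.odd_of_ne_two hq2
  have hn : (p ^ q - 1) / (p - 1) = ∑ i ∈ Finset.range q, p ^ i := (Nat.geomSum_eq hp1 q).symm
  set n := (p ^ q - 1) / (p - 1) with hndef
  haveI := Fact.mk hq
  refine ⟨?_, ?_, ?_⟩
  · rw [hn]
    have : ∀ m : ℕ, (∑ i ∈ Finset.range m, p ^ i) % 2 = m % 2 := by
      intro m
      induction m with
      | zero => simp
      | succ m ih =>
        rw [Finset.sum_range_succ, Nat.add_mod, ih]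
        have : p ^ m % 2 = 1 := Nat.odd_iff.1 (hpo.pow)
        rw [this]; omega
    rw [Nat.odd_iff, this, ← Nat.odd_iff]
    exact hqo
  · intro h
    rw [hn, ← ZMod.natCast_eq_zero_iff]
    have hp' : (p : ZMod q) = 1 := by
      have h1 : p ≡ 1 [MOD q] := by
        rw [Nat.ModEq, h, Nat.mod_eq_of_lt (by omega : 1 < q)]
      have := (ZMod.natCast_eq_natCast_iff p 1 q).2 h1
      simpa using this
    push_cast
    rw [hp']
    simp
  · intro h
    have hcop : Nat.Coprime n (p - 1) := by
      rw [Nat.coprime_iff_gcd_eq_one]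
      by_contra hne
      obtain ⟨r, hr, hrd⟩ := Nat.exists_prime_and_dvd hne
      have hr1 : r ∣ n := hrd.trans (Nat.gcd_dvd_left _ _)
      have hr2 : r ∣ p - 1 := hrd.trans (Nat.gcd_dvd_right _ _)
      haveI := Fact.mk hr
      have h1 : (p : ZMod r) = 1 := by
        have h3 : ((p - 1 : ℕ) : ZMod r) = 0 := (ZMod.natCast_eq_zero_iff _ _).2 hr2
        rw [Nat.cast_sub (by omega)] at h3
        have := sub_eq_zero.1 h3
        simpa using this
      have h2 : ((∑ i ∈ Finset.range q, p ^ i : ℕ) : ZMod r) = 0 := by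
        rw [← hn]; exact (ZMod.natCast_eq_zero_iff _ _).2 hr1
      push_cast at h2
      rw [h1] at h2
      simp only [one_pow, Finset.sum_const, Finset.card_range, nsmul_eq_mul, mul_one] at h2
      have h4 : r ∣ q := (ZMod.natCast_eq_zero_iff _ _).1 h2
      have h5 : r = q := (Nat.prime_dvd_prime_iff_eq hr hq).1 h4
      subst h5
      apply h
      have h6 : p ≡ 1 [MOD r] := ((Nat.modEq_iff_dvd' (by omega)).2 hr2).symm
      rw [Nat.ModEq] at h6
      rw [h6, Nat.mod_eq_of_lt (by omega : 1 < r)]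
    refine ⟨hcop, ?_⟩
    have hprime : ∀ r : ℕ, r.Prime → r ∣ n → r % q = 1 := by
      intro r hr hrn
      haveI := Fact.mk hr
      have h1 : (p : ZMod r) ^ q = 1 := by
        have h2 : n * (p - 1) = p ^ q - 1 := by
          rw [hndef]
          exact Nat.div_mul_cancel (by simpa using Nat.sub_dvd_pow_sub_pow p 1 q)
        have h3 : r ∣ p ^ q - 1 := by rw [← h2]; exact Dvd.dvd.mul_right hrn _
        have h4 : ((p ^ q - 1 : ℕ) : ZMod r) = 0 := (ZMod.natCast_eq_zero_iff _ _).2 h3
        rw [Nat.cast_sub (Nat.one_le_pow _ _ (by omega))] at h4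
        have := sub_eq_zero.1 h4
        simpa using this
      have hne1 : (p : ZMod r) ≠ 1 := by
        intro h2
        have h3 : r ∣ p - 1 := by
          rw [← ZMod.natCast_eq_zero_iff, Nat.cast_sub (by omega), h2]; simp
        have h4 : r ∣ 1 := by
          rw [← hcop]; exact Nat.dvd_gcd hrn h3
        exact hr.one_lt.ne' (Nat.dvd_one.1 h4)
      have hord : orderOf (p : ZMod r) = q := orderOf_eq_prime h1 hne1
      have hp0 : (p : ZMod r) ≠ 0 := by
        intro h0
        rw [h0, zero_pow (by omega)] at h1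
        exact zero_ne_one h1
      have h5 : q ∣ r - 1 := by
        rw [← hord]
        exact orderOf_dvd_of_pow_eq_one (ZMod.pow_card_sub_one_eq_one hp0)
      have h6 : r ≡ 1 [MOD q] := ((Nat.modEq_iff_dvd' hr.one_lt.le).2 h5).symm
      rw [Nat.ModEq] at h6
      rw [h6, Nat.mod_eq_of_lt (by omega : 1 < q)]
    intro x
    induction x using Nat.recOnMul with
    | zero =>
      intro h0
      exfalso
      have h1 := Nat.eq_zero_of_zero_dvd h0
      rw [h1] at hcop
      rw [hn] at h1
      have h2 : 0 < ∑ i ∈ Finset.range q, p ^ i := Finset.sum_pos (fun i _ => by positivity) ⟨0, Finset.mem_range.2 (by omega)⟩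
      omega
    | one => intro _; exact Nat.mod_eq_of_lt (by omega : 1 < q)
    | prime r hr => exact hprime r hr
    | mul a b ha hb =>
      intro hab
      rw [Nat.mul_mod, ha ((Dvd.intro _ rfl).trans hab), hb ((Dvd.intro_left _ rfl).trans hab)]
      exact Nat.mod_eq_of_lt (by omega : 1 < q)

end Cfsg.Agent.S1546
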