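import Mathlib
import Cfsg.Agent.S1546

/-! Arithmetic for Peterfalvi (13.12), (13.13), (13.15). -/

set_option autoImplicit false

namespace Cfsg.Agent.H27.P13ar

theorem fbound (v K a r m n : ℝ) (h1 : a ≤ v) (h2 : r * v ≤ K - 1) (hr : 0 < r) (hn : 0 ≤ n)
    (hb0 : 0 < K - 1)
    (E1 : n * (a ^ 2 - 1) ≤ K * ((n - m) * a - n))
    (E2 : n * (K - 1) + n * r ^ 2 ≤ (n - m) * r * K) :
    m * (v * K) ≤ n * ((v - 1) * (K - v - 1)) := by
  obtain ⟨b, hb⟩ : ∃ b : ℝ, K - 1 = r * b := ⟨(K - 1) / r, by field_simp⟩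
  have hbpos : 0 < b := by
    by_contra hcon
    push Not at hcon
    have : r * b ≤ 0 := mul_nonpos_of_nonneg_of_nonpos hr.le hcon
    linarith
  have hvb : v ≤ b := by
    rw [hb] at h2
    exact le_of_mul_le_mul_left h2 hr
  -- g a ≥ 0, g b ≥ 0
  have ga : 0 ≤ (n - m) * a * K - n * a ^ 2 - n * K + n := by nlinarith
  have gb : 0 ≤ (n - m) * b * K - n * b ^ 2 - n * K + n := by
    have h3 : 0 ≤ b * ((n - m) * r * K - n * (K - 1) - n * r ^ 2) := by
      apply mul_nonneg hbpos.le; linarith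
    have h4 : r * ((n - m) * b * K - n * b ^ 2 - n * K + n)
        = b * ((n - m) * r * K - n * (K - 1) - n * r ^ 2) := by
      have : n * K - n = n * (r * b) := by rw [← hb]; ring
      have e1 : r * ((n - m) * b * K - n * b ^ 2 - n * K + n)
        = r * ((n - m) * b * K - n * b ^ 2) - r * (n * K - n) := by ring
      rw [e1, this, hb]; ring
    by_contra hcon
    push Not at hcon
    have : r * ((n - m) * b * K - n * b ^ 2 - n * K + n) < 0 := mul_neg_of_pos_of_neg hr hcon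
    linarith
  have key : 0 ≤ (n - m) * v * K - n * v ^ 2 - n * K + n := by
    rcases eq_or_lt_of_le (h1.trans hvb) with hab | hab
    · have : v = a := le_antisymm (hab ▸ hvb) h1
      rw [this]; exact ga
    · have h5 : (b - a) * ((n - m) * v * K - n * v ^ 2 - n * K + n)
        = (b - v) * ((n - m) * a * K - n * a ^ 2 - n * K + n)
          + (v - a) * ((n - m) * b * K - n * b ^ 2 - n * K + n)
          + n * ((v - a) * (b - v) * (b - a)) := by ring
      have h6 : 0 ≤ (b - a) * ((n - m) * v * K - n * v ^ 2 - n * K + n) := by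
        rw [h5]
        have := mul_nonneg (sub_nonneg.2 hvb) ga
        have := mul_nonneg (sub_nonneg.2 h1) gb
        have := mul_nonneg hn (mul_nonneg (mul_nonneg (sub_nonneg.2 h1) (sub_nonneg.2 hvb))
          (sub_pos.2 hab).le)
        linarith
      exact nonneg_of_mul_nonneg_right h6 (sub_pos.2 hab)
  nlinarith

/-- integer form -/
theorem fboundN (v K a r m n : ℕ) (h1 : a ≤ v) (h2 : r * v + 1 ≤ K) (hr : 2 ≤ r) (hv : 0 < v)
    (hmn : m ≤ n)
    (E1 : n * a ^ 2 + n * K ≤ (n - m) * a * K + n)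
    (E2 : n * K + n * r ^ 2 ≤ (n - m) * r * K + n) :
    m * (v * K) ≤ n * ((v - 1) * (K - v - 1)) := by
  have h3 : v + 1 ≤ K := by nlinarith
  have h := fbound (v : ℝ) K a r m n (by exact_mod_cast h1)
    (by have : ((r * v + 1 : ℕ) : ℝ) ≤ K := by exact_mod_cast h2
        push_cast at this; linarith) (by exact_mod_cast (by omega : 0 < r)) (by positivity)
    (by have : ((v + 1 : ℕ) : ℝ) ≤ K := by exact_mod_cast h3
        have h0 : (0 : ℝ) < v := by exact_mod_cast hv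
        push_cast at this; linarith)
    (by have : ((n * a ^ 2 + n * K : ℕ) : ℝ) ≤ (((n - m) * a * K + n : ℕ) : ℝ) := by
          exact_mod_cast E1
        push_cast [Nat.cast_sub hmn] at this; linarith)
    (by have : ((n * K + n * r ^ 2 : ℕ) : ℝ) ≤ (((n - m) * r * K + n : ℕ) : ℝ) := by
          exact_mod_cast E2
        push_cast [Nat.cast_sub hmn] at this; linarith)
  have h4 : ((m * (v * K) : ℕ) : ℝ) ≤ ((n * ((v - 1) * (K - v - 1)) : ℕ) : ℝ) := by
    push_cast [Nat.cast_sub (show 1 ≤ v by omega), Nat.cast_sub (show 1 ≤ K - v by omega),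
      Nat.cast_sub (show v ≤ K by omega)]
    exact h
  exact_mod_cast h4

theorem ge_two_mul {p v : ℕ} (hp : Odd p) (hp1 : 1 < p) (hv1 : v % p = 1) (hvo : v % 2 = 1) (hv2 : v ≠ 1) :
    2 * p + 1 ≤ v := by
  obtain ⟨k, hk⟩ : ∃ k, v = p * k + 1 := ⟨v / p, by
    have := Nat.div_add_mod v p; omega⟩
  obtain ⟨j, hj⟩ := hp
  by_contra hcon
  have hk2 : k < 2 := by
    by_contra hk2
    push Not at hk2
    have : p * 2 ≤ p * k := Nat.mul_le_mul_left _ hk2
    omega
  interval_cases k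
  · simp at hk; exact hv2 hk
  · omega

theorem prime_ge7 {q : ℕ} (hq : q.Prime) (hq2 : q ≠ 2) (h3 : q ≠ 3) (h5 : q ≠ 5) : 7 ≤ q := by
  by_contra hcon
  have : q < 7 := by omega
  interval_cases q <;> first | omega | (exfalso; revert hq; norm_num)

theorem core {p q v d : ℕ} (hp : p.Prime) (hq : q.Prime) (hp2 : p ≠ 2) (hq2 : q ≠ 2) (hpq : p ≠ q)
    (hv : v * (q - 1) ≤ q ^ p - 1) (hd : 0 < d) (hv1 : v % p = 1) (hvo : v % 2 = 1)
    (hv2 : v ≠ 1) :
    (q = 3 → 49 * (v * (q ^ p * d)) ≤ 100 * ((v - 1) * (q ^ p * d - v - 1))) ∧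
    (q = 5 → 71 * (v * (q ^ p * d)) ≤ 100 * ((v - 1) * (q ^ p * d - v - 1))) ∧
    (7 ≤ q → 3 * (v * (q ^ p * d)) ≤ 4 * ((v - 1) * (q ^ p * d - v - 1))) := by
  have hp3 : 3 ≤ p := by have := hp.two_le; omega
  have hq3 : 3 ≤ q := by have := hq.two_le; omega
  have hv7 := ge_two_mul (hp.odd_of_ne_two hp2) (by omega) hv1 hvo hv2
  have hqp : 0 < q ^ p := by positivity
  have hK : q ^ p ≤ q ^ p * d := Nat.le_mul_of_pos_right _ hd
  have hvK : (q - 1) * v + 1 ≤ q ^ p * d := by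
    rw [Nat.mul_comm]; omega
  refine ⟨fun h => ?_, fun h => ?_, fun h => ?_⟩
  · subst h
    have hp5 : 5 ≤ p := by
      rcases Nat.lt_or_ge p 5 with h5 | h5
      · exfalso
        interval_cases p
        · exact hpq rfl
        · revert hp; norm_num
      · exact h5
    have hK2 : 3 ^ 5 ≤ 3 ^ p * d := (Nat.pow_le_pow_right (by norm_num) hp5).trans hK
    exact fboundN v (3 ^ p * d) 11 2 49 100 (by omega) hvK (by norm_num) (by omega) (by norm_num)
      (by norm_num at hK2 ⊢; omega) (by norm_num at hK2 ⊢; omega)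
  · subst h
    have hK2 : 5 ^ 3 ≤ 5 ^ p * d := (Nat.pow_le_pow_right (by norm_num) hp3).trans hK
    exact fboundN v (5 ^ p * d) 7 4 71 100 (by omega) hvK (by norm_num) (by omega) (by norm_num)
      (by norm_num at hK2 ⊢; omega) (by norm_num at hK2 ⊢; omega)
  · have hK2 : q ^ 3 ≤ q ^ p * d := (Nat.pow_le_pow_right (by omega) hp3).trans hK
    have hK3 : 343 ≤ q ^ p * d := le_trans (by
      calc 343 = 7 ^ 3 := by norm_num
        _ ≤ q ^ 3 := Nat.pow_le_pow_left h 3) hK2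
    refine fboundN v (q ^ p * d) 7 (q - 1) 3 4 (by omega) hvK (by omega) (by omega) (by norm_num)
      (by omega) ?_
    obtain ⟨r, rfl⟩ : ∃ r, q = r + 1 := ⟨q - 1, by omega⟩
    have hr : 6 ≤ r := by omega
    set K := (r + 1) ^ p * d
    simp only [Nat.add_sub_cancel]
    have h1 : 6 * K ≤ r * K := Nat.mul_le_mul_right _ hr
    have h2 : r * r ^ 2 ≤ K := le_trans (by nlinarith [sq_nonneg r, Nat.zero_le r]) hK2
    have h3 : 6 * r ^ 2 ≤ r * r ^ 2 := Nat.mul_le_mul_right _ hr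
    norm_num
    nlinarith

theorem cancel {c P u q p v K W m n : ℕ} (h : c * P * W ≤ u * q * p * (v * K))
    (hm : m * (v * K) ≤ n * W) (h0 : 0 < v * K) : c * P * m ≤ n * (u * q * p) := by
  have h1 : (c * P * m) * (v * K) ≤ (n * (u * q * p)) * (v * K) := by
    calc (c * P * m) * (v * K) = c * P * (m * (v * K)) := by ring
      _ ≤ c * P * (n * W) := Nat.mul_le_mul_left _ hm
      _ = n * (c * P * W) := by ring
      _ ≤ n * (u * q * p * (v * K)) := Nat.mul_le_mul_left _ h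
      _ = (n * (u * q * p)) * (v * K) := by ring
  exact Nat.le_of_mul_le_mul_right h1 h0

/-- from `u (p-1) ≤ p^q - 1` : `c m (p-1) < n q p` -/
theorem cancel2 {c u p q m n : ℕ} (hp : 2 ≤ p) (hq : 0 < q) (hn : 0 < n) (hu : u * (p - 1) ≤ p ^ q - 1)
    (h : c * p ^ q * m ≤ n * (u * q * p)) : c * m * (p - 1) < n * (q * p) := by
  have hP : 0 < p ^ q := by positivity
  have h1 : p ^ q * (c * m * (p - 1)) < p ^ q * (n * (q * p)) := by
    calc p ^ q * (c * m * (p - 1)) = c * p ^ q * m * (p - 1) := by ring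
      _ ≤ n * (u * q * p) * (p - 1) := Nat.mul_le_mul_right _ h
      _ = n * (q * p) * (u * (p - 1)) := by ring
      _ ≤ n * (q * p) * (p ^ q - 1) := Nat.mul_le_mul_left _ hu
      _ < n * (q * p) * p ^ q := Nat.mul_lt_mul_of_pos_left (by omega) (by positivity)
      _ = p ^ q * (n * (q * p)) := by ring
  exact Nat.lt_of_mul_lt_mul_left h1

/-- Common part of (13.12) and (13.15). -/
theorem common {p q u v d c : ℕ} (hp : p.Prime) (hq : q.Prime) (hp2 : p ≠ 2) (hq2 : q ≠ 2)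
    (hpq : p ≠ q) (hu : u * (p - 1) ≤ p ^ q - 1) (hv : v * (q - 1) ≤ q ^ p - 1) (hd : 0 < d)
    (hv1 : v % p = 1) (hvo : v % 2 = 1) (hv2 : v ≠ 1)
    (hu1 : u % q = 1) (huo : u % 2 = 1) (hup : u.Coprime p)
    (hc : 2 * q + 1 ≤ c)
    (hin : c * p ^ q * ((v - 1) * (q ^ p * d - v - 1)) ≤ u * q * p * (v * (q ^ p * d))) :
    q = 3 ∧ p = 5 ∧ u = 31 ∧ c = 7 := by
  obtain ⟨hA, hB, hC⟩ := core hp hq hp2 hq2 hpq hv hd hv1 hvo hv2
  have hp3 : 3 ≤ p := by have := hp.two_le; omega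
  have hq3 : 3 ≤ q := by have := hq.two_le; omega
  have hvK : 0 < v * (q ^ p * d) := by
    have : 0 < v := by omega
    positivity
  by_cases h3 : q = 3
  · subst h3
    have h1 := cancel hin (hA rfl) hvK
    have h2 := cancel2 (by omega) (by omega) (by norm_num) hu h1
    have h4 : 7 * 49 * (p - 1) ≤ c * 49 * (p - 1) :=
      Nat.mul_le_mul_right _ (Nat.mul_le_mul_right _ (by omega))
    have h5 : p < 8 := by omega
    interval_cases p
    · omega
    · exfalso; revert hp; norm_num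
    · norm_num at h1 hu ⊢
      omega
    · exfalso; revert hp; norm_num
    · norm_num at h1 hu
      exfalso
      omega
  · by_cases h5 : q = 5
    · subst h5
      have h1 := cancel hin (hB rfl) hvK
      have h2 := cancel2 (by omega) (by omega) (by norm_num) hu h1
      have h4 : 11 * 71 * (p - 1) ≤ c * 71 * (p - 1) :=
        Nat.mul_le_mul_right _ (Nat.mul_le_mul_right _ (by omega))
      exfalso
      omega
    · have h7 := prime_ge7 hq hq2 h3 h5
      have h1 := cancel hin (hC h7) hvK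
      have h2 := cancel2 (by omega) (by omega) (by norm_num) hu h1
      have h4 : (2 * q + 1) * 3 * (p - 1) ≤ c * 3 * (p - 1) :=
        Nat.mul_le_mul_right _ (Nat.mul_le_mul_right _ (by omega))
      obtain ⟨r, rfl⟩ : ∃ r, p = r + 1 := ⟨p - 1, by omega⟩
      exfalso
      simp only [Nat.add_sub_cancel] at h4 h2
      have hr : 2 ≤ r := by omega
      nlinarith [Nat.mul_le_mul_left q hr]

/-- (13.12) -/
theorem ar1 {p q u v d c : ℕ} (hp : p.Prime) (hq : q.Prime) (hp2 : p ≠ 2) (hq2 : q ≠ 2)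
    (hpq : p ≠ q) (hu : u * (p - 1) ≤ p ^ q - 1) (hv : v * (q - 1) ≤ q ^ p - 1) (hd : 0 < d)
    (hv1 : v % p = 1) (hvo : v % 2 = 1) (hv2 : v ≠ 1)
    (hu1 : u % q = 1) (huo : u % 2 = 1) (hu2 : u ≠ 1) (hup : u.Coprime p)
    (hc1 : c % q = 1) (hco : c % 2 = 1) (hc : c ≠ 1) (hcu : ¬ c.Coprime u)
    (hin : c * p ^ q * ((v - 1) * (q ^ p * d - v - 1)) ≤ u * q * p * (v * (q ^ p * d))) :
    False := by
  have hc' := ge_two_mul (hq.odd_of_ne_two hq2) hq.one_lt hc1 hco hc
  obtain ⟨-, -, h1, h2⟩ := common hp hq hp2 hq2 hpq hu hv hd hv1 hvo hv2 hu1 huo hup hc' hin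
  subst h1 h2
  exact hcu (by norm_num)

/-- (13.15), Galois case -/
theorem ar2 {p q u v d : ℕ} (hp : p.Prime) (hq : q.Prime) (hp2 : p ≠ 2) (hq2 : q ≠ 2)
    (hpq : p ≠ q) (hu : u * (p - 1) ≤ p ^ q - 1) (hv : v * (q - 1) ≤ q ^ p - 1) (hd : 0 < d)
    (hv1 : v % p = 1) (hvo : v % 2 = 1) (hv2 : v ≠ 1)
    (hu1 : u % q = 1) (huo : u % 2 = 1) (hu2 : u ≠ 1) (hup : u.Coprime p)
    (hin : p ^ q * ((v - 1) * (q ^ p * d - v - 1)) ≤ u * q * p * (v * (q ^ p * d)))
    (hdiv : u ∣ (p ^ q - 1) / (p - 1)) :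
    (p % q ≠ 1 → u * (p - 1) = p ^ q - 1) ∧ (p % q = 1 → u * (p - 1) * q = p ^ q - 1) := by
  obtain ⟨hNo, hN1, hN2⟩ := Cfsg.Agent.S1546.result p q hp hq hp2 hq2
  have hp3 : 3 ≤ p := by have := hp.two_le; omega
  have hq3 : 3 ≤ q := by have := hq.two_le; omega
  have hN : (p ^ q - 1) / (p - 1) * (p - 1) = p ^ q - 1 :=
    Nat.div_mul_cancel (by simpa using Nat.sub_dvd_pow_sub_pow p 1 q)
  set N := (p ^ q - 1) / (p - 1) with hNdef
  obtain ⟨k, hk⟩ := hdiv
  have hupos : 0 < u := by omega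
  have hvK : 0 < v * (q ^ p * d) := by
    have : 0 < v := by omega
    positivity
  obtain ⟨hA, hB, hC⟩ := core hp hq hp2 hq2 hpq hv hd hv1 hvo hv2
  -- inequality with k in place of c, for the number N in place of u
  have hkin : k * p ^ q * ((v - 1) * (q ^ p * d - v - 1)) ≤ N * q * p * (v * (q ^ p * d)) := by
    calc k * p ^ q * ((v - 1) * (q ^ p * d - v - 1))
        = k * (p ^ q * ((v - 1) * (q ^ p * d - v - 1))) := by ring
      _ ≤ k * (u * q * p * (v * (q ^ p * d))) := Nat.mul_le_mul_left _ hin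
      _ = N * q * p * (v * (q ^ p * d)) := by rw [hk]; ring
  have hNu : N * (p - 1) ≤ p ^ q - 1 := hN.le
  have hko : Odd k := by
    rw [hk] at hNo
    exact (Nat.odd_mul.1 hNo).2
  constructor
  · intro hpq1
    obtain ⟨hcop, hdd⟩ := hN2 hpq1
    by_cases hk1 : k = 1
    · rw [← hN, hk, hk1, mul_one]
    exfalso
    have hkq : k % q = 1 := hdd k (by rw [hk]; exact Dvd.intro_left u rfl)
    have hk2 := ge_two_mul (hq.odd_of_ne_two hq2) hq.one_lt hkq (Nat.odd_iff.1 hko) hk1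
    have hNp : N.Coprime p := by
      have h1 : (p ^ q - 1).Coprime (p ^ q) := by
        have h0 : 1 ≤ p ^ q := Nat.one_le_pow _ _ hp.pos
        obtain ⟨w, hw⟩ : ∃ w, p ^ q = w + 1 := ⟨p ^ q - 1, by omega⟩
        rw [hw, Nat.add_sub_cancel]
        simp
      exact (h1.coprime_dvd_left ⟨p - 1, hN.symm⟩).coprime_dvd_right
        (dvd_pow_self p (by omega))
    obtain ⟨h3, h5, h31, h7⟩ := common hp hq hp2 hq2 hpq hNu hv hd hv1 hvo hv2
      (hdd N dvd_rfl) (Nat.odd_iff.1 hNo) hNp hk2 hkin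
    rw [h31, h7] at hk
    omega
  · intro hpq1
    have hqN := hN1 hpq1
    have hqu : Nat.Coprime q u := by
      rw [Nat.Prime.coprime_iff_not_dvd hq]
      intro hdv
      have := Nat.mod_eq_zero_of_dvd hdv
      omega
    have hqk : q ∣ k := by
      rw [hk] at hqN
      exact hqu.dvd_of_dvd_mul_left hqN
    obtain ⟨j, hj⟩ := hqk
    by_cases hj1 : j = 1
    · rw [← hN, hk, hj, hj1]; ring
    exfalso
    have hjo : Odd j := by
      rw [hj] at hko
      exact (Nat.odd_mul.1 hko).2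
    have hj3 : 3 ≤ j := by
      obtain ⟨i, hi⟩ := hjo
      omega
    have hp7 : 7 ≤ p := by
      have := ge_two_mul (hq.odd_of_ne_two hq2) hq.one_lt hpq1
        (Nat.odd_iff.1 (hp.odd_of_ne_two hp2)) (by omega)
      omega
    have hF : 49 * (v * (q ^ p * d)) ≤ 100 * ((v - 1) * (q ^ p * d - v - 1)) := by
      by_cases h3 : q = 3
      · exact hA h3
      by_cases h5 : q = 5
      · have := hB h5; omega
      have := hC (prime_ge7 hq hq2 h3 h5); omega
    have h1 := cancel hkin hF hvK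
    have h2 := cancel2 (by omega) (by omega) (by norm_num) hNu h1
    have h3 : q * 3 * 49 * (p - 1) ≤ k * 49 * (p - 1) :=
      Nat.mul_le_mul_right _ (Nat.mul_le_mul_right _ (by rw [hj]; exact Nat.mul_le_mul_left _ hj3))
    obtain ⟨r, rfl⟩ : ∃ r, p = r + 1 := ⟨p - 1, by omega⟩
    simp only [Nat.add_sub_cancel] at h3 h2
    have hr : 6 ≤ r := by omega
    nlinarith [Nat.mul_le_mul_left q hr]

/-- (13.13), non-Galois case -/
theorem ar3 {p q u v d : ℕ} (hp : p.Prime) (hq : q.Prime) (hp2 : p ≠ 2) (hq2 : q ≠ 2)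
    (hpq : p ≠ q) (hu : u * (p - 1) ≤ p ^ q - 1) (hv : v * (q - 1) ≤ q ^ p - 1) (hd : 0 < d)
    (hv1 : v % p = 1) (hvo : v % 2 = 1) (hv2 : v ≠ 1)
    (hu1 : u % q = 1) (huo : u % 2 = 1) (hu2 : u ≠ 1) (hup : u.Coprime p)
    (hin : p ^ q * ((v - 1) * (q ^ p * d - v - 1)) ≤ u * q * p * (v * (q ^ p * d)))
    (a : ℕ) (ha : a ∣ p - 1) (hao : a % 2 = 1) (hua : u ≤ a ^ (q - 1)) :
    q = 3 ∧ a = (p - 1) / 2 ∧ (u ∣ a ^ (q - 1) → u = ((p - 1) / 2) ^ 2) := by
  have hp3 : 3 ≤ p := by have := hp.two_le; omega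
  have hq3 : 3 ≤ q := by have := hq.two_le; omega
  have hvK : 0 < v * (q ^ p * d) := by
    have : 0 < v := by omega
    positivity
  obtain ⟨hA, hB, hC⟩ := core hp hq hp2 hq2 hpq hv hd hv1 hvo hv2
  have hF : 49 * (v * (q ^ p * d)) ≤ 100 * ((v - 1) * (q ^ p * d - v - 1)) := by
    by_cases h3 : q = 3
    · exact hA h3
    by_cases h5 : q = 5
    · have := hB h5; omega
    have := hC (prime_ge7 hq hq2 h3 h5); omega
  have h1 : 1 * p ^ q * 49 ≤ 100 * (u * q * p) := cancel (by rwa [one_mul]) hF hvK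
  have hpow : p ^ q = p ^ (q - 1) * p := by
    rw [← pow_succ]; congr 1; omega
  have h2 : p ^ (q - 1) * 49 ≤ 100 * (u * q) := by
    rw [hpow] at h1
    have : p * (p ^ (q - 1) * 49) ≤ p * (100 * (u * q)) := by nlinarith
    exact Nat.le_of_mul_le_mul_left this (by omega)
  have hp1o : (p - 1) % 2 = 0 := by
    have := Nat.odd_iff.1 (hp.odd_of_ne_two hp2); omega
  obtain ⟨t, ht⟩ := ha
  have hte : t % 2 = 0 := by
    rcases Nat.mod_two_eq_zero_or_one t with h | h
    · exact h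
    · exfalso
      rw [ht, Nat.mul_mod, hao, h] at hp1o
      omega
  have ht0 : t ≠ 0 := by
    rintro rfl
    omega
  have ht2 : 2 ≤ t := by omega
  have ha2 : 2 * a + 1 ≤ p := by
    have := Nat.mul_le_mul_left a ht2
    omega
  -- q = 3
  have hq_eq : q = 3 := by
    by_contra h3
    have hq5 : 5 ≤ q := by
      by_cases h5 : q = 5
      · omega
      have := prime_ge7 hq hq2 h3 h5; omega
    -- (2a)^(q-1) ≤ p^(q-1)
    have h3 : 2 ^ (q - 1) * a ^ (q - 1) ≤ p ^ (q - 1) := by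
      rw [← mul_pow]
      exact Nat.pow_le_pow_left (by omega) _
    have h4 : 49 * 2 ^ (q - 1) ≤ 100 * q := by
      have h5 : a ^ (q - 1) * (49 * 2 ^ (q - 1)) ≤ a ^ (q - 1) * (100 * q) := by
        calc a ^ (q - 1) * (49 * 2 ^ (q - 1)) = 2 ^ (q - 1) * a ^ (q - 1) * 49 := by ring
          _ ≤ p ^ (q - 1) * 49 := Nat.mul_le_mul_right _ h3
          _ ≤ 100 * (u * q) := h2
          _ ≤ 100 * (a ^ (q - 1) * q) :=
              Nat.mul_le_mul_left _ (Nat.mul_le_mul_right _ hua)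
          _ = a ^ (q - 1) * (100 * q) := by ring
      have ha0 : 0 < a ^ (q - 1) := by
        have : 0 < a := by omega
        positivity
      exact Nat.le_of_mul_le_mul_left h5 ha0
    have h6 : ∀ m, 4 ≤ m → 100 * (m + 1) < 49 * 2 ^ m := by
      intro m hm
      induction m, hm using Nat.le_induction with
      | base => norm_num
      | succ m hm ih => rw [pow_succ]; omega
    have := h6 (q - 1) (by omega)
    have e : q - 1 + 1 = q := by omega
    rw [e] at this
    omega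
  subst hq_eq
  norm_num at h2 hua ⊢
  have hta : t = 2 := by
    by_contra hne
    have ht4 : 4 ≤ t := by omega
    have : 4 * a + 1 ≤ p := by
      have := Nat.mul_le_mul_left a ht4
      omega
    nlinarith
  subst hta
  have ha' : a = (p - 1) / 2 := by omega
  refine ⟨ha', fun hdv => ?_⟩
  rw [← ha']
  obtain ⟨j, hj⟩ := hdv
  have hjo : Odd j := by
    have : Odd (a ^ 2) := (Nat.odd_iff.2 hao).pow
    rw [hj] at this
    exact (Nat.odd_mul.1 this).2
  by_cases hj1 : j = 1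
  · rw [hj, hj1, mul_one]
  exfalso
  have hj3 : 3 ≤ j := by
    obtain ⟨i, hi⟩ := hjo
    omega
  have : u * 3 ≤ a ^ 2 := by rw [hj]; exact Nat.mul_le_mul_left _ hj3
  nlinarith

end Cfsg.Agent.H27.P13ar
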