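import Mathlib
import Cfsg.Agent.HL_P9g
import Cfsg.Agent.HL_P9d
import Cfsg.Agent.HL_P9e

/-! PF (9.6)/(9.7) for `H = M_F` elementary abelian of order `p ^ q` (so `H₀ = 1`). -/

set_option autoImplicit false
open scoped commutatorElement

namespace Cfsg.Agent.HL.P9

open Subgroup Cfsg Cfsg.Agent.H12 Cfsg.Agent.H22.Basic

universe u
variable {G : Type u} [Group G] [Finite G] {M W₁ U W₂ : Subgroup G}

/-- a chief factor `H/H₀` with `H₀` above any given proper `M`-invariant subgroup (when `C_H(U) = 1`, `H' = 1`) -/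
theorem N5.exists_Ch_ge (h : N5 M W₁ U W₂) {N : Subgroup G} (hN : N < fittingHallOf M) (hNM : M ≤ normalizer (N : Set G)) :
    ∃ H₀, N ≤ H₀ ∧ H₀ < fittingHallOf M ∧ M ≤ normalizer (H₀ : Set G) ∧
      ∀ B : Subgroup G, H₀ ≤ B → B ≤ fittingHallOf M → M ≤ normalizer (B : Set G) → B = H₀ ∨ B = fittingHallOf M := by
  obtain ⟨H₀, hH₀⟩ : ∃ A : Subgroup G, (N ≤ A ∧ A < fittingHallOf M ∧ M ≤ normalizer (A : Set G)) ∧
      ∀ B : Subgroup G, (N ≤ B ∧ B < fittingHallOf M ∧ M ≤ normalizer (B : Set G)) → A ≤ B → B = A := by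
    have hfin : Set.Finite {A : Subgroup G | N ≤ A ∧ A < fittingHallOf M ∧ M ≤ normalizer (A : Set G)} := Set.toFinite _
    obtain ⟨A, hA⟩ := hfin.exists_maximal ⟨N, le_refl _, hN, hNM⟩
    exact ⟨A, hA.1, fun B hB hBA => le_antisymm (hA.2 hB hBA) hBA⟩
  obtain ⟨⟨hK1, hlt, hn⟩, hmax⟩ := hH₀
  refine ⟨H₀, hK1, hlt, hn, ?_⟩
  intro B h1 h2 h3
  rcases lt_or_eq_of_le h2 with h4 | h4
  · exact Or.inl (hmax B ⟨hK1.trans h1, h4, h3⟩ h1)
  · exact Or.inr h4

theorem Ch.card_lt (h : N5 M W₁ U W₂) {H₀ : Subgroup G} (c : Ch M U H₀) {p : ℕ} (hp : p.Prime)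
    (hc : Nat.card (fittingHallOf M) = p ^ Nat.card W₁) : H₀ = ⊥ := by
  haveI := c.normal
  obtain ⟨r, hr⟩ := c.cfg h
  have h1 := hr.card_P
  have h2 : Nat.card (img M H₀ (fittingHallOf M)) ∣ Nat.card (fittingHallOf M) := card_img_dvd h.HM
  rw [h1, hc] at h2
  have h3 : r = p := by
    have h4 : r ∣ p ^ Nat.card W₁ := (dvd_pow_self r h.prime.ne_zero).trans h2
    exact (Nat.prime_dvd_prime_iff_eq hr.hp hp).1 (hr.hp.dvd_of_dvd_pow h4)
  subst h3
  -- the map H → img H is injective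
  have h5 : Nat.card ((fittingHallOf M).subgroupOf M) = r ^ Nat.card W₁ := by
    rw [H22.Basic.card_subgroupOf_eq h.HM, hc]
  have h6 : Function.Surjective ((QuotientGroup.mk' (H₀.subgroupOf M)).subgroupMap ((fittingHallOf M).subgroupOf M)) :=
    MonoidHom.subgroupMap_surjective _ _
  have h7 : Function.Injective ((QuotientGroup.mk' (H₀.subgroupOf M)).subgroupMap ((fittingHallOf M).subgroupOf M)) := by
    haveI : Finite ((fittingHallOf M).subgroupOf M) := inferInstance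
    apply (Nat.bijective_iff_surjective_and_card _).2 ⟨h6, _⟩ |>.1
    rw [h5]
    exact h1.symm
  rw [eq_bot_iff]
  intro x hx
  have hxH := c.lt.le hx
  have h8 : (⟨⟨x, h.HM hxH⟩, hxH⟩ : (fittingHallOf M).subgroupOf M) = 1 := by
    apply h7
    apply Subtype.ext
    show QuotientGroup.mk' (H₀.subgroupOf M) ⟨x, h.HM hxH⟩ = 1
    exact mk_eq_one.2 hx
  rw [mem_bot]
  exact congrArg Subtype.val (congrArg Subtype.val h8)

/-- `Cfg` for `M_F` itself -/
theorem N5.cfg' (h : N5 M W₁ U W₂) {p : ℕ} (hp : p.Prime) (ea : IsElementaryAbelian p (fittingHallOf M))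
    (hc : Nat.card (fittingHallOf M) = p ^ Nat.card W₁) : Cfg p (Nat.card W₁) (fittingHallOf M) U W₁ W₂ := by
  obtain ⟨H₁, c⟩ := h.exists_Ch
  have h0 : H₁ = ⊥ := c.card_lt h hp hc
  subst h0
  have hpH : p ∣ Nat.card (fittingHallOf M) := by rw [hc]; exact dvd_pow_self p h.prime.ne_zero
  have hcop : ∀ {n : ℕ}, n.Coprime (Nat.card (fittingHallOf M)) → n.Coprime p := fun h1 => Nat.Coprime.coprime_dvd_right hpH h1
  have hCU : fittingHallOf M ⊓ centralizer (U : Set G) = ⊥ := le_bot_iff.1 c.CU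
  haveI := h.P.U_nilpotent
  refine
    { hp := hp
      hq := h.prime
      ea := ea
      ne := ?_
      UP := h.UM.trans h.MH
      WP := h.WM.trans h.MH
      WU := h.P.U_normal
      cU := hcop h.cop_UH
      cqp := hcop h.cop_WH
      cUq := h.cop_WU.symm
      cW := rfl
      CU := hCU
      frob := ?_
      fix := ?_
      cyc := ?_
      der := TypeP.derived_U h.P
      irr := ?_
      oddU := Odd.of_dvd_nat h.odd (Subgroup.card_dvd_of_le h.UM)
      oddq := Odd.of_dvd_nat h.odd (Subgroup.card_dvd_of_le h.WM)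
      solU := inferInstance }
  · intro h0
    rw [h0, Subgroup.card_bot] at hc
    have h1 := Nat.one_lt_pow h.prime.ne_zero hp.one_lt
    omega
  · intro w hw hw1
    rw [eq_bot_iff]
    rintro x ⟨hx, hx'⟩
    have h6 : x ∈ ⁅M, M⁆ ⊓ centralizer ({w} : Set G) := ⟨h.P.U_compl.2.1 hx, hx'⟩
    rw [h.P.W₂_centralizer w hw hw1] at h6
    exact h.inf_UH (h.W₂H h6) hx
  · intro w hw hw1
    apply le_antisymm
    · rw [← h.P.W₂_centralizer w hw hw1]
      exact inf_le_inf_right _ h.P.U_compl.1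
    · refine le_inf h.W₂H ?_
      rw [← h.P.W₂_centralizer w hw hw1]
      exact inf_le_right
  · haveI : IsCyclic ↥(W₁ ⊔ W₂) := h.P.selfNormalizing.2.2.2.2.1
    exact isCyclic_of_injective (Subgroup.inclusion (le_sup_right : W₂ ≤ W₁ ⊔ W₂)) (Subgroup.inclusion_injective _)
  · intro N hN hN1 hU hW
    by_contra hne
    have hlt : N < fittingHallOf M := lt_of_le_of_ne hN hne
    have hNM : M ≤ normalizer (N : Set G) := h.normalizer_of (ab_normalizer ea.1 le_rfl hN) hU hW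
    obtain ⟨H₀, g1, g2, g3, g4⟩ := h.exists_Ch_ge hlt hNM
    have hder : ⁅fittingHallOf M, fittingHallOf M⁆ ≤ H₀ := by
      have : ⁅fittingHallOf M, fittingHallOf M⁆ = ⊥ := by
        rw [Subgroup.commutator_self_eq_bot_iff]; exact ea.1
      rw [this]; exact bot_le
    have c' : Ch M U H₀ := ⟨g2, g3, by rw [hCU]; exact bot_le, hder, g4⟩
    have h1 := c'.card_lt h hp hc
    rw [h1, le_bot_iff] at g1
    exact hN1 g1

end Cfsg.Agent.HL.P9
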