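import Mathlib
import Cfsg.Agent.HL_P9d
import Cfsg.Agent.HL_P9e

/-! PF (9.6)/(9.7): the alternative when `C_U(P) = 1`. -/

set_option autoImplicit false
open scoped commutatorElement

namespace Cfsg.Agent.HL.P9

open Subgroup Cfsg.Agent.H22.Basic

variable {X : Type*} [Group X] [Finite X]

namespace Cfg

variable {p q : ℕ} {P U W₁ W₂ : Subgroup X} (h : Cfg p q P U W₁ W₂)
include h

theorem count {w : X} (hw : w ∈ W₁) (hw1 : w ≠ 1) {P₁ : Subgroup X} (hP₁ : P₁ ≤ P) (hc : Nat.card P₁ = p)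
    (hU : U ≤ normalizer (P₁ : Set X)) (hT : TT w P₁ (Finset.range q) = P) (hUC : U ⊓ centralizer (P : Set X) = ⊥) :
    Nat.card U ∣ (U ⊓ centralizer (P₁ : Set X)).relIndex U ^ (q - 1) ∧
      ∀ u ∈ U, u ^ (U ⊓ centralizer (P₁ : Set X)).relIndex U = 1 := by
  classical
  haveI : Fact p.Prime := ⟨h.hp⟩
  haveI hcyc : IsCyclic P₁ := isCyclic_of_prime_card hc
  let φ : U →* MulAut P₁ := P₁.normalizerMonoidHom.comp (Subgroup.inclusion hU)
  have hφ : ∀ (u : U) (x : P₁), ((φ u x : P₁) : X) = u * x * (u : X)⁻¹ := fun u x => rfl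
  let χ : U →* (ZMod (Nat.card P₁))ˣ := (IsCyclic.mulAutMulEquiv P₁).toMonoidHom.comp φ
  have hχφ : ∀ u : U, χ u = 1 ↔ φ u = 1 := by
    intro u
    show (IsCyclic.mulAutMulEquiv P₁) (φ u) = 1 ↔ φ u = 1
    rw [MulEquiv.map_eq_one_iff]
  have hφ1 : ∀ u : U, φ u = 1 ↔ (u : X) ∈ centralizer (P₁ : Set X) := by
    intro u
    constructor
    · intro h1
      refine mem_centralizer_iff.2 ?_
      intro x hx
      have h2 := congrArg (fun e : MulAut P₁ => ((e ⟨x, hx⟩ : P₁) : X)) h1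
      have h3 : (u : X) * x * (u : X)⁻¹ = x := h2
      rw [mul_inv_eq_iff_eq_mul] at h3
      exact h3.symm
    · intro h1
      apply MulEquiv.ext
      intro x
      apply Subtype.ext
      rw [hφ]
      have h2 := mem_centralizer_iff.1 h1 x x.2
      rw [← h2]
      show (x : X) * u * (u : X)⁻¹ = x
      group
  have hker : χ.ker = (U ⊓ centralizer (P₁ : Set X)).subgroupOf U := by
    ext u
    rw [MonoidHom.mem_ker, mem_subgroupOf, hχφ, hφ1]
    exact ⟨fun h1 => ⟨u.2, h1⟩, fun h1 => h1.2⟩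
  have hidx : (U ⊓ centralizer (P₁ : Set X)).relIndex U = Nat.card χ.range := by
    rw [relIndex, ← hker, Subgroup.index_ker]
  rw [hidx]
  -- conjugation by w⁻¹
  have hwU : ∀ u ∈ U, w⁻¹ * u * w ∈ U := by
    intro u hu
    have h1 := (mem_normalizer_iff.1 ((normalizer (U : Set X)).inv_mem (h.WU hw)) u).1 hu
    rwa [inv_inv] at h1
  let σ : U →* U :=
    { toFun := fun u => ⟨w⁻¹ * u * w, hwU u u.2⟩
      map_one' := Subtype.ext (by simp)
      map_mul' := fun u v => Subtype.ext (by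
        show w⁻¹ * (u * v : X) * w = (w⁻¹ * u * w) * (w⁻¹ * v * w)
        group) }
  have hσ : ∀ (i : ℕ) (u : U), (((σ^[i]) u : U) : X) = (w ^ i)⁻¹ * u * w ^ i := by
    intro i
    induction i with
    | zero => intro u; simp
    | succ i ih =>
      intro u
      rw [Function.iterate_succ_apply', pow_succ]
      show w⁻¹ * (((σ^[i]) u : U) : X) * w = _
      rw [ih]; group
  have hσq : ∀ u : U, (σ^[q]) u = u := by
    intro u
    apply Subtype.ext
    rw [hσ, h.pow_w hw]; simp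
  have hσm : ∀ (i : ℕ) (u v : U), (σ^[i]) (u * v) = (σ^[i]) u * (σ^[i]) v := by
    intro i u v
    apply Subtype.ext
    rw [hσ]
    show _ = (((σ^[i]) u : U) : X) * (((σ^[i]) v : U) : X)
    rw [hσ, hσ]
    show (w ^ i)⁻¹ * (u * v : X) * w ^ i = _
    group
  have hσ1 : ∀ (i : ℕ), (σ^[i]) (1 : U) = 1 := by
    intro i
    apply Subtype.ext
    rw [hσ]; simp
  let σi : ℕ → (U →* U) := fun i => { toFun := σ^[i], map_one' := hσ1 i, map_mul' := hσm i }
  let f : U →* (ZMod (Nat.card P₁))ˣ := ∏ i ∈ Finset.range q, χ.comp (σi i)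
  have hf : ∀ u, f u = ∏ i ∈ Finset.range q, χ ((σ^[i]) u) := by
    intro u
    show (∏ i ∈ Finset.range q, χ.comp (σi i)) u = _
    rw [MonoidHom.finset_prod_apply]
    rfl
  have hfσ : ∀ u, f (σ u) = f u := by
    intro u
    rw [hf, hf]
    have h1 : ∏ i ∈ Finset.range q, χ ((σ^[i]) (σ u)) = ∏ i ∈ Finset.range q, χ ((σ^[i + 1]) u) :=
      Finset.prod_congr rfl fun i _ => by rw [Function.iterate_succ_apply]
    rw [h1]
    have h2 := Finset.prod_range_succ (fun i => χ ((σ^[i]) u)) q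
    have h3 := Finset.prod_range_succ' (fun i => χ ((σ^[i]) u)) q
    rw [h2, hσq] at h3
    have h4 : (σ^[0]) u = u := rfl
    rw [h4] at h3
    exact (mul_right_cancel h3).symm
  have hf1 : ∀ u, f u = 1 := by
    have hinj : Function.Injective (fun u : U => u⁻¹ * σ u) := by
      intro u v huv
      have h1 : u⁻¹ * σ u = v⁻¹ * σ v := huv
      have h2 : σ (v * u⁻¹) = v * u⁻¹ := by
        rw [map_mul, map_inv]
        have h3 : σ v = v * (u⁻¹ * σ u) := by rw [h1]; group
        rw [h3]; group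
      have h3 : ((v * u⁻¹ : U) : X) ∈ U ⊓ centralizer ({w} : Set X) := by
        refine ⟨(v * u⁻¹).2, mem_centralizer_singleton_iff.2 ?_⟩
        have h4 : w⁻¹ * ((v * u⁻¹ : U) : X) * w = ((v * u⁻¹ : U) : X) := congrArg Subtype.val h2
        calc ((v * u⁻¹ : U) : X) * w = w * (w⁻¹ * ((v * u⁻¹ : U) : X) * w) := by group
          _ = w * ((v * u⁻¹ : U) : X) := by rw [h4]
      rw [h.frob w hw hw1, mem_bot] at h3
      have h4 : v * u⁻¹ = 1 := Subtype.ext h3
      exact (mul_inv_eq_one.1 h4).symm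
    have hsurj : Function.Surjective (fun u : U => u⁻¹ * σ u) := Finite.injective_iff_surjective.1 hinj
    intro u
    obtain ⟨v, hv⟩ := hsurj u
    have h1 : v⁻¹ * σ v = u := hv
    rw [← h1, map_mul, map_inv, hfσ, inv_mul_cancel]
  -- injectivity
  have hkey : ∀ u : U, (∀ i < q - 1, χ ((σ^[i]) u) = 1) → u = 1 := by
    intro u hu
    have h1 : ∀ i < q, χ ((σ^[i]) u) = 1 := by
      intro i hi
      by_cases h2 : i < q - 1
      · exact hu i h2
      · have h3 : i = q - 1 := by omega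
        have h4 := hf1 u
        rw [hf] at h4
        have h5 : q = (q - 1) + 1 := by have := h.hq.pos; omega
        rw [h5, Finset.prod_range_succ, Finset.prod_eq_one (fun j hj => hu j (Finset.mem_range.1 hj)), one_mul] at h4
        rw [h3]; exact h4
    have h2 : ∀ i < q, (u : X) ∈ centralizer ((cj (w ^ i) P₁ : Subgroup X) : Set X) := by
      intro i hi
      have h3 := (hφ1 _).1 ((hχφ _).1 (h1 i hi))
      rw [hσ] at h3
      rw [centralizer_cj, mem_cj]
      exact h3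
    have h3 : P ≤ centralizer ({(u : X)} : Set X) := by
      rw [← hT]
      apply Finset.sup_le
      intro i hi
      intro x hx
      rw [mem_centralizer_singleton_iff]
      exact mem_centralizer_iff.1 (h2 i (Finset.mem_range.1 hi)) x hx
    have h4 : (u : X) ∈ U ⊓ centralizer (P : Set X) := by
      refine ⟨u.2, mem_centralizer_iff.2 ?_⟩
      intro x hx
      exact mem_centralizer_singleton_iff.1 (h3 hx)
    rw [hUC, mem_bot] at h4
    exact Subtype.ext h4
  let Ψ : U →* (Fin (q - 1) → χ.range) := Pi.monoidHom fun i => χ.rangeRestrict.comp (σi i)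
  have hΨ : Function.Injective Ψ := by
    rw [injective_iff_map_eq_one]
    intro u hu
    apply hkey
    intro i hi
    have h1 := congrFun hu ⟨i, hi⟩
    exact congrArg Subtype.val h1
  constructor
  · have h1 := Subgroup.card_dvd_of_injective Ψ hΨ
    rwa [Nat.card_fun, Nat.card_eq_fintype_card (α := Fin (q - 1)), Fintype.card_fin] at h1
  · intro u hu
    have h1 : Ψ ((⟨u, hu⟩ : U) ^ Nat.card χ.range) = 1 := by
      rw [map_pow]
      funext i
      rw [Pi.pow_apply, Pi.one_apply]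
      exact pow_card_eq_one'
    have h2 : (⟨u, hu⟩ : U) ^ Nat.card χ.range = 1 := hΨ (by rw [h1, map_one])
    exact congrArg Subtype.val h2

/-- PF (9.6), (9.7) when `C_U(P) = 1` -/
theorem alt (hUC : U ⊓ centralizer (P : Set X) = ⊥) :
    ((∃ (F : Type) (_ : Field F) (_ : Fintype F) (f ψ : X → F), GalData p q P U W₂ F f ψ ∧ Set.InjOn ψ (U : Set X)) ∧
      Nat.Coprime (Nat.card U) (p - 1) ∧ Nat.card U ∣ (p ^ q - 1) / (p - 1) ∧ IsCyclic U ∧
      ∀ u ∈ U, u ≠ 1 → ∀ x ∈ P, u * x = x * u → x = 1) ∨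
    (∃ a : ℕ, a ∣ p - 1 ∧ a ≠ 1 ∧ Odd a ∧ Nat.card U ∣ a ^ (q - 1) ∧ (∀ u ∈ U, u ^ a = 1) ∧ (∀ u ∈ U, ∀ v ∈ U, u * v = v * u) ∧
      ∃ P₁ : Subgroup X, P₁ ≤ P ∧ Nat.card P₁ = p ∧ U ≤ normalizer (P₁ : Set X) ∧ a = (U ⊓ centralizer (P₁ : Set X)).relIndex U ∧
        ∀ w ∈ W₁, w ≠ 1 → (∀ S ⊆ Finset.range q, Nat.card (TT w P₁ S) = p ^ S.card) ∧ TT w P₁ (Finset.range q) = P ∧
          (∀ S ⊆ Finset.range q, ∀ T ⊆ Finset.range q, Disjoint S T → TT w P₁ S ⊓ TT w P₁ T = ⊥)) := by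
  classical
  by_cases hgal : ∀ N : Subgroup X, N ≤ P → N ≠ ⊥ → U ≤ normalizer (N : Set X) → N = P
  · left
    obtain ⟨F, iF, iFt, f, ψ, d⟩ := h.galois hgal
    obtain ⟨g1, g2, ⟨u₀, hu₀, g3⟩, g4⟩ := d.card_range h.hp
    rw [hUC, Subgroup.relIndex_bot_left] at g1 g2
    have hker : ∀ u ∈ U, u ∈ centralizer (P : Set X) → u = 1 := by
      intro u hu hu'
      have : u ∈ U ⊓ centralizer (P : Set X) := ⟨hu, hu'⟩
      rwa [hUC, mem_bot] at this
    refine ⟨⟨F, iF, iFt, f, ψ, d, ?_⟩, g1, g2, ?_, ?_⟩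
    · intro u hu v hv huv
      have huv' : ψ u = ψ v := huv
      have h1 : ψ (u * v⁻¹) = 1 := by
        have h2 := d.mul (u * v⁻¹) (U.mul_mem hu (U.inv_mem hv)) v hv
        rw [inv_mul_cancel_right, huv'] at h2
        have h3 := d.ne v hv
        have h4 : (ψ (u * v⁻¹) - 1) * ψ v = 0 := by rw [sub_mul, one_mul, ← h2, sub_self]
        rcases mul_eq_zero.1 h4 with h5 | h5
        · exact sub_eq_zero.1 h5
        · exact absurd h5 h3
      have h2 := hker _ (U.mul_mem hu (U.inv_mem hv)) ((d.ker _ (U.mul_mem hu (U.inv_mem hv))).1 h1)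
      exact mul_inv_eq_one.1 h2
    · refine ⟨⟨⟨u₀, hu₀⟩, fun u => ?_⟩⟩
      obtain ⟨n, hn⟩ := g3 u u.2
      have h1 := hker _ (U.mul_mem (U.inv_mem (U.pow_mem hu₀ n)) u.2) hn
      rw [inv_mul_eq_one] at h1
      exact ⟨n, Subtype.ext (by
        show u₀ ^ (n : ℤ) = u
        rw [zpow_natCast]; exact h1)⟩
    · intro u hu hu1 x hx hux
      by_contra hx1
      exact hu1 (hker u hu (g4 u hu x hx hx1 hux))
  · right
    push Not at hgal
    obtain ⟨N, hN, hN1, hNU, hNP⟩ := hgal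
    obtain ⟨w, hw, hw1⟩ := h.exists_w
    obtain ⟨P₁, k1, k2, k3, k4, k5, k6⟩ := h.nongalois hw hw1 hN hN1 hNU hNP
    obtain ⟨l1, l2, l3, l4⟩ := h.line (k1.trans hN) k2 k3
    obtain ⟨c1, c2⟩ := h.count hw hw1 (k1.trans hN) k2 k3 k5 hUC
    have hab : ∀ u ∈ U, ∀ v ∈ U, u * v = v * u := by
      intro u hu v hv
      have h1 := h.der (commutator_mem_commutator hu hv)
      have h2 : ⁅u, v⁆ ∈ U ⊓ centralizer (P : Set X) :=
        ⟨U.mul_mem (U.mul_mem (U.mul_mem hu hv) (U.inv_mem hu)) (U.inv_mem hv), h1⟩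
      rw [hUC, mem_bot, commutatorElement_eq_one_iff_mul_comm] at h2
      exact h2
    refine ⟨_, l1, l2, ?_, c1, c2, hab, P₁, k1.trans hN, k2, k3, rfl, ?_⟩
    · refine Odd.of_dvd_nat h.oddU ?_
      exact Subgroup.relIndex_dvd_card _ _
    · -- any generator
      intro v hv hv1
      have hcomm : ∀ i : ℕ, ∃ j, j < q ∧ v ^ i = w ^ j := by
        intro i
        have h1 : v ^ i ∈ zpowers w := by rw [h.zpow_eq hw hw1]; exact W₁.pow_mem hv i
        obtain ⟨n, hn⟩ := (isOfFinOrder_of_finite w).mem_powers_iff_mem_zpowers.2 h1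
        refine ⟨n % q, Nat.mod_lt _ h.hq.pos, ?_⟩
        have h2 : w ^ n = v ^ i := hn
        rw [← h2]
        conv_lhs => rw [← Nat.mod_add_div n q, pow_add, pow_mul, h.pow_w hw, one_pow, mul_one]
      have hAP := k1.trans hN
      have hA1 : P₁ ≠ ⊥ := by
        intro h0
        rw [h0, Subgroup.card_bot] at k2
        exact h.hp.one_lt.ne k2
      have hTv := h.TT_eq hv hv1 hAP hA1 k3
      have hcard : ∀ S ⊆ Finset.range q, Nat.card (TT v P₁ S) = p ^ S.card := by
        intro S hS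
        have h1 := card_TT_le h.ea.1 (h.WP hv) hAP S
        have h2 := card_TT_le h.ea.1 (h.WP hv) hAP (Finset.range q \ S)
        have h3 := Cfsg.Agent.H1.Basic.card_sup_mul_card_inf (H := TT v P₁ S) (K := TT v P₁ (Finset.range q \ S))
          (ab_normalizer h.ea.1 (TT_le (h.WP hv) hAP S) (TT_le (h.WP hv) hAP _))
        rw [← TT_union, Finset.union_sdiff_of_subset hS, hTv, h.card_P] at h3
        have h4 : p ^ q ≤ Nat.card (TT v P₁ S) * Nat.card (TT v P₁ (Finset.range q \ S)) := by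
          rw [← h3]; exact Nat.le_mul_of_pos_right _ Nat.card_pos
        rw [k2] at h1 h2
        have h5 : (Finset.range q \ S).card = q - S.card := by
          rw [Finset.card_sdiff_of_subset hS, Finset.card_range]
        rw [h5] at h2
        have h6 : S.card ≤ q := by
          have := Finset.card_le_card hS
          rwa [Finset.card_range] at this
        have h7 : p ^ q ≤ Nat.card (TT v P₁ S) * p ^ (q - S.card) := h4.trans (Nat.mul_le_mul_left _ h2)
        have h8 : p ^ q = p ^ S.card * p ^ (q - S.card) := by rw [← pow_add]; congr 1; omega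
        rw [h8] at h7
        exact le_antisymm h1 (Nat.le_of_mul_le_mul_right h7 (pow_pos h.hp.pos _))
      refine ⟨hcard, hTv, ?_⟩
      intro S hS T hT hd
      have h3 := Cfsg.Agent.H1.Basic.card_sup_mul_card_inf (H := TT v P₁ S) (K := TT v P₁ T)
        (ab_normalizer h.ea.1 (TT_le (h.WP hv) hAP S) (TT_le (h.WP hv) hAP _))
      rw [← TT_union, hcard _ (Finset.union_subset hS hT), hcard S hS, hcard T hT, Finset.card_union_of_disjoint hd,
        pow_add] at h3
      have h4 : 0 < p ^ S.card * p ^ T.card := Nat.mul_pos (pow_pos h.hp.pos _) (pow_pos h.hp.pos _)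
      have h5 : Nat.card ↥(TT v P₁ S ⊓ TT v P₁ T) = 1 := Nat.eq_of_mul_eq_mul_left h4 (by rw [h3, mul_one])
      exact Subgroup.eq_bot_of_card_eq _ h5

end Cfg

end Cfsg.Agent.HL.P9
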