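import Mathlib
import Cfsg.Agent.H12_P13S
import Cfsg.Agent.H12_P13h
import Cfsg.Agent.H12_P13i
import Cfsg.Agent.HL_P9h
import Cfsg.Agent.HL_P9i
import Cfsg.Agent.HL_P9j
import Cfsg.Agent.H12_TypeP
import Cfsg.Agent.H27_P13ar

/-! PF §13: numerical facts about one side of the pair, and (13.12) -/

set_option autoImplicit false
set_option linter.style.haveILetI false
set_option linter.unusedSectionVars false

namespace Cfsg.Agent.H12.P13S

open Subgroup Cfsg Cfsg.Agent.HL.P9 Cfsg.Agent.H12 Cfsg.Agent.H22.Basic Cfsg.Agent.H12.P13 Cfsg.Agent.H10.PrD4 Cfsg.Agent.H10.PrD2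
  Cfsg.Agent.H10.PrD6 Cfsg.Agent.H10.CycTI Cfsg.Agent.H10.CycTI2 Cfsg.Agent.H3.CharIrr Cfsg.Agent.H3.CharInd Cfsg.Agent.H3.CharBasic
  Cfsg.Agent.H3.CharMult

universe v
variable {G : Type v} [Group G] [Finite G]

/-- a group of prime order acting without fixed points -/
theorem modEq_one {W A : Subgroup G} (hW : (Nat.card W).Prime) (hn : W ≤ normalizer (A : Set G))
    (hfix : ∀ w ∈ W, w ≠ 1 → A ⊓ centralizer ({w} : Set G) = ⊥) : Nat.card A ≡ 1 [MOD Nat.card W] := by
  classical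
  haveI := Fact.mk hW
  letI : MulAction W A :=
    { smul := fun w a => ⟨w * a * (w : G)⁻¹, (mem_normalizer_iff.1 (hn w.2) a).1 a.2⟩
      one_smul := fun a => Subtype.ext (by show ((1 : W) : G) * a * ((1 : W) : G)⁻¹ = a; simp)
      mul_smul := fun x y a => Subtype.ext (by
        show ((x * y : W) : G) * a * ((x * y : W) : G)⁻¹ = x * (y * a * (y : G)⁻¹) * (x : G)⁻¹
        rw [Subgroup.coe_mul]; group) }
  have hpg : IsPGroup (Nat.card W) W := IsPGroup.of_card (n := 1) (by rw [pow_one])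
  have h1 := hpg.card_modEq_card_fixedPoints A
  obtain ⟨w, hw⟩ : ∃ w : W, w ≠ 1 := by
    haveI : Nontrivial W := Finite.one_lt_card_iff_nontrivial.1 hW.one_lt
    exact exists_ne 1
  have h2 : Nat.card (MulAction.fixedPoints W A) = 1 := by
    rw [Nat.card_eq_one_iff_unique]
    refine ⟨⟨?_⟩, ⟨⟨1, fun w => Subtype.ext (by show (w : G) * ((1 : A) : G) * (w : G)⁻¹ = 1; simp)⟩⟩⟩
    have key : ∀ a : A, a ∈ MulAction.fixedPoints W A → a = 1 := by
      intro a ha
      have h3 : (w : G) * a * (w : G)⁻¹ = a := congrArg Subtype.val (ha w)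
      have h4 : (a : G) ∈ A ⊓ centralizer ({(w : G)} : Set G) := by
        refine ⟨a.2, ?_⟩
        show (a : G) ∈ centralizer ({(w : G)} : Set G)
        rw [mem_centralizer_singleton_iff]
        rw [mul_inv_eq_iff_eq_mul] at h3
        exact h3.symm
      rw [hfix w w.2 (fun h => hw (Subtype.ext h)), mem_bot] at h4
      exact Subtype.ext h4
    rintro ⟨a, ha⟩ ⟨b, hb⟩
    exact Subtype.ext ((key a ha).trans (key b hb).symm)
  rwa [h2] at h1

theorem conj_cent {P : Subgroup G} {w x : G} (hw : w ∈ normalizer (P : Set G)) (hx : x ∈ centralizer (P : Set G)) :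
    w * x * w⁻¹ ∈ centralizer (P : Set G) := by
  rw [mem_centralizer_iff] at hx ⊢
  intro y hy
  have h1 : w⁻¹ * y * w ∈ P := by
    have := (mem_normalizer_iff.1 ((normalizer (P : Set G)).inv_mem hw) y).1 hy
    rwa [inv_inv] at this
  have h2 := hx _ h1
  have h3 : y * (w * x * w⁻¹) = w * ((w⁻¹ * y * w) * x) * w⁻¹ := by group
  rw [h3, h2]
  group

theorem cent_iff {P : Subgroup G} {w : G} (hw : w ∈ normalizer (P : Set G)) (x : G) :
    x ∈ centralizer (P : Set G) ↔ w * x * w⁻¹ ∈ centralizer (P : Set G) := by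
  constructor
  · exact conj_cent hw
  · intro h
    have := conj_cent ((normalizer (P : Set G)).inv_mem hw) h
    have e : w⁻¹ * (w * x * w⁻¹) * w⁻¹⁻¹ = x := by group
    rwa [e] at this

variable {S W₁ U W₂ : Subgroup G}

/-- `C = C_U(S_F)` -/
def CU (S U : Subgroup G) : Subgroup G := U ⊓ centralizer (fittingHallOf S : Set G)

namespace Side

variable (hG : IsMinSimpleOddOrder G) (s : Side S W₁ U W₂)

include hG s

theorem dat : U ≠ ⊥ ∧ IsMulCommutative U := by
  rcases s.ty with h | h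
  · obtain ⟨h1, -, -, h2, -⟩ := dataII (sol_of hG s.max) (odd_of hG S) h s.data
    exact ⟨h1, h2⟩
  · obtain ⟨h1, -, -, h2, -⟩ := dataIII (sol_of hG s.max) (odd_of hG S) h s.data
    exact ⟨h1, h2⟩

theorem n5 : N5 S W₁ U W₂ := ⟨s.data, (s.dat hG).1, s.prq, sol_of hG s.max, odd_of hG S⟩

theorem cfg : Cfg (Nat.card W₂) (Nat.card W₁) (fittingHallOf S) U W₁ W₂ := (s.n5 hG).cfg' s.prp s.ea s.card

theorem abU : ∀ a ∈ U, ∀ b ∈ U, a * b = b * a := by
  intro a ha b hb
  exact congrArg Subtype.val ((s.dat hG).2.is_comm.comm ⟨a, ha⟩ ⟨b, hb⟩)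

theorem PU_bot : fittingHallOf S ⊓ U = ⊥ := s.data.U_compl.2.2.1

theorem PC_bot : fittingHallOf S ⊓ CU S U = ⊥ := by
  rw [eq_bot_iff, ← s.PU_bot hG]
  exact inf_le_inf_left _ inf_le_left

theorem C_norm : CU S U ≤ normalizer (fittingHallOf S : Set G) := inf_le_right.trans (centralizer_le_normalizer _)

theorem card_FF : Nat.card (FF S) = Nat.card W₂ ^ Nat.card W₁ * Nat.card (CU S U) := by
  rw [s.FF_eq, ← s.card]
  exact card_sup_of_inf_eq_bot (s.C_norm hG) (s.PC_bot hG)

theorem card_U : Nat.card U = Nat.card (CU S U) * (Nat.card U / Nat.card (CU S U)) :=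
  (Nat.mul_div_cancel' (Subgroup.card_dvd_of_le inf_le_left)).symm

theorem FF_le : FF S ≤ S := inf_le_left.trans (TypeP.commutator_le_self s.data)

theorem index : ((FF S).subgroupOf S).index = Nat.card U / Nat.card (CU S U) * Nat.card W₁ := by
  have e1 := Core.IsComplIn_card s.data.W₁_compl
  have e2 := Core.IsComplIn_card s.data.U_compl
  have e3 := Subgroup.index_mul_card ((FF S).subgroupOf S)
  have e4 : Nat.card ↥((FF S).subgroupOf S) = Nat.card (FF S) := Nat.card_congr (Subgroup.subgroupOfEquivOfLe (s.FF_le hG)).toEquiv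
  rw [e4, ← e1, ← e2, s.card, s.card_FF hG] at e3
  have e5 := s.card_U hG
  have h1 : 0 < Nat.card W₂ ^ Nat.card W₁ * Nat.card (CU S U) := Nat.mul_pos (pow_pos s.prp.pos _) Nat.card_pos
  apply Nat.eq_of_mul_eq_mul_right h1
  rw [e3]
  nth_rw 1 [e5]
  ring

theorem CW : W₁ ≤ normalizer (CU S U : Set G) := by
  intro w hw
  have h1 := s.data.U_normal hw
  have h2 : w ∈ normalizer (fittingHallOf S : Set G) := (s.cfg hG).WP hw
  rw [mem_normalizer_iff] at h1 ⊢
  intro x
  rw [CU, mem_inf, mem_inf, ← h1, ← cent_iff h2]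

theorem SC : S ≤ normalizer (CU S U : Set G) := by
  have hP : fittingHallOf S ≤ normalizer (CU S U : Set G) := by
    intro x hx
    rw [mem_normalizer_iff]
    have key : ∀ y ∈ CU S U, x * y * x⁻¹ = y := by
      intro y hy
      have := mem_centralizer_iff.1 hy.2 x hx
      rw [this, mul_inv_cancel_right]
    intro y
    constructor
    · intro hy; rw [key y hy]; exact hy
    · intro hy
      have h1 : x * y * x⁻¹ = y := by
        have h2 := mem_centralizer_iff.1 hy.2 x hx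
        have h3 : x * (x * y * x⁻¹) * x⁻¹ = x * y * x⁻¹ := by rw [h2]; group
        have h4 := congrArg (fun z => x⁻¹ * z * x) h3
        beta_reduce at h4
        have e1 : x⁻¹ * (x * (x * y * x⁻¹) * x⁻¹) * x = x * y * x⁻¹ := by group
        have e2 : x⁻¹ * (x * y * x⁻¹) * x = y := by group
        rw [e1, e2] at h4; exact h4
      rw [h1] at hy; exact hy
  have hU : U ≤ normalizer (CU S U : Set G) := by
    intro x hx
    rw [mem_normalizer_iff]
    intro y
    have h1 : y ∈ U → x * y * x⁻¹ = y := fun hy => by rw [s.abU hG x hx y hy, mul_inv_cancel_right]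
    constructor
    · intro hy; rw [h1 hy.1]; exact hy
    · intro hy
      have h2 : y ∈ U := by
        have := U.mul_mem (U.mul_mem (U.inv_mem hx) hy.1) hx
        have e : x⁻¹ * (x * y * x⁻¹) * x = y := by group
        rwa [e] at this
      rw [h1 h2] at hy; exact hy
  intro z hz
  obtain ⟨a, ha, w, hw, rfl⟩ := s.data.W₁_compl.2.2.2 z hz
  obtain ⟨b, hb, c, hc, rfl⟩ := s.data.U_compl.2.2.2 a ha
  exact mul_mem (mul_mem (hP hb) (hU hc)) (s.CW hG hw)

theorem S_P : S ≤ normalizer (fittingHallOf S : Set G) := Core.le_normalizer_fittingHallOf S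

theorem W₂P : W₂ ≤ fittingHallOf S := s.data.W₂_le.trans inf_le_left

theorem comm_top : (commutator S : Subgroup S) = ⁅S, S⁆.subgroupOf S := by
  apply Subgroup.map_injective S.subtype_injective
  rw [Subgroup.map_subgroupOf_eq_of_le (TypeP.commutator_le_self s.data), commutator_def, Subgroup.map_commutator]
  rw [← MonoidHom.range_eq_map, Subgroup.range_subtype]

theorem cx : CX (commutator S) ((fittingHallOf S).subgroupOf S) ((FF S).subgroupOf S) ((CU S U).subgroupOf S) W₂ where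
  le := by
    intro x hx
    rw [mem_subgroupOf] at hx ⊢
    rw [s.FF_eq]
    exact mem_sup_right hx
  normal := ⟨fun x hx g => by
    rw [mem_subgroupOf] at hx ⊢
    exact (mem_normalizer_iff.1 (s.SC hG g.2) x).1 hx⟩
  sup := by
    intro x hx
    rw [mem_subgroupOf, s.FF_eq] at hx
    obtain ⟨a, ha, c, hc, e⟩ := (mem_sup_of_le_normalizer (s.C_norm hG)).1 hx
    have haS : a ∈ S := Core.fittingHallOf_le S ha
    have hcS : c ∈ S := s.data.U_compl.2.1.trans (TypeP.commutator_le_self s.data) hc.1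
    exact ⟨⟨a, haS⟩, mem_subgroupOf.2 ha, ⟨c, hcS⟩, mem_subgroupOf.2 hc, Subtype.ext e.symm⟩
  comm := by
    intro c hc k hk
    rw [s.comm_top hG, mem_subgroupOf] at hk
    rw [mem_subgroupOf] at hc
    obtain ⟨a, ha, b, hb, e⟩ := s.data.U_compl.2.2.2 k hk
    apply Subtype.ext
    show (c : G) * k = k * c
    rw [e, ← mul_assoc, ← mem_centralizer_iff.1 hc.2 a ha, mul_assoc, mul_assoc, s.abU hG c hc.1 b hb]
  inf := by
    intro c hc hc2
    rw [mem_subgroupOf] at hc
    have : (c : G) ∈ fittingHallOf S ⊓ CU S U := ⟨s.W₂P hG hc2, hc⟩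
    rw [s.PC_bot hG, mem_bot] at this
    exact Subtype.ext this
  HC := by
    intro c hc hc2
    rw [mem_subgroupOf] at hc hc2
    have : (c : G) ∈ fittingHallOf S ⊓ CU S U := ⟨hc2, hc⟩
    rw [s.PC_bot hG, mem_bot] at this
    exact Subtype.ext this

/-- (13.5)-type bound: `(p - 1) u ≤ p^q - 1` -/
theorem le_pq : (Nat.card W₂ - 1) * (Nat.card U / Nat.card (CU S U)) ≤ Nat.card W₂ ^ Nat.card W₁ - 1 := by
  letI := Fintype.ofFinite G
  letI := Fintype.ofFinite S
  obtain ⟨μ, δ, hμ⟩ := exists_MU s.pd.toPT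
  have h1 := card_le s.pd hμ s.fd (s.cx hG) (s.index hG)
  have h2 : Nat.card ↥((fittingHallOf S).subgroupOf S) = Nat.card W₂ ^ Nat.card W₁ := by
    rw [Nat.card_congr (Subgroup.subgroupOfEquivOfLe (Core.fittingHallOf_le S)).toEquiv, s.card]
  rwa [h2] at h1

theorem U_mod : Nat.card U ≡ 1 [MOD Nat.card W₁] := modEq_one s.prq s.data.U_normal (s.cfg hG).frob

theorem C_mod : Nat.card (CU S U) ≡ 1 [MOD Nat.card W₁] :=
  modEq_one s.prq (s.CW hG) fun w hw hw1 => by
    rw [eq_bot_iff, ← (s.cfg hG).frob w hw hw1]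
    exact inf_le_inf_right _ inf_le_left

theorem u_mod : Nat.card U / Nat.card (CU S U) ≡ 1 [MOD Nat.card W₁] := by
  have h1 := s.U_mod hG
  have h2 := s.C_mod hG
  rw [s.card_U hG] at h1
  have h3 : Nat.card (CU S U) * (Nat.card U / Nat.card (CU S U)) ≡ 1 * (Nat.card U / Nat.card (CU S U)) [MOD Nat.card W₁] :=
    h2.mul_right _
  rw [one_mul] at h3
  exact h3.symm.trans h1

theorem odd_sub (X : Subgroup G) : Nat.card X % 2 = 1 := Nat.odd_iff.1 (odd_of hG X)

theorem u_odd : (Nat.card U / Nat.card (CU S U)) % 2 = 1 := by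
  have h1 := s.odd_sub hG U
  rw [s.card_U hG] at h1
  have h2 := (Nat.odd_mul.1 (Nat.odd_iff.2 h1)).2
  exact Nat.odd_iff.1 h2

theorem u_pos : 0 < Nat.card U / Nat.card (CU S U) := by
  have h1 := s.u_odd hG
  refine Nat.pos_of_ne_zero fun h => ?_
  rw [h] at h1
  simp at h1

theorem u_cop : (Nat.card U / Nat.card (CU S U)).Coprime (Nat.card W₂) :=
  Nat.Coprime.coprime_dvd_left (Nat.div_dvd_of_dvd (Subgroup.card_dvd_of_le inf_le_left)) (s.cfg hG).cU

theorem p_ne_two : Nat.card W₂ ≠ 2 := by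
  have := s.odd_sub hG W₂
  omega

theorem q_ne_two : Nat.card W₁ ≠ 2 := by
  have := s.odd_sub hG W₁
  omega

/-- `u ≠ 1` -/
theorem u_ne_one : Nat.card U / Nat.card (CU S U) ≠ 1 := by
  intro hu
  letI := Fintype.ofFinite G
  letI := Fintype.ofFinite S
  obtain ⟨μ, δ, hμ⟩ := exists_MU s.pd.toPT
  obtain ⟨ψ, -, hψ, -, hψ1, -, -⟩ := exists_X2 s.pd
  have h1 := (red_RD s.pd hμ s.fd hψ hψ1).2
  rw [red_one s.pd.toPT hμ, s.index hG, hu, one_mul] at h1
  have hc : (Nat.card W₁ : ℂ) ≠ 0 := Nat.cast_ne_zero.2 Nat.card_pos.ne'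
  have h2 : μ ψ 1 = 1 := by
    have : (Nat.card W₁ : ℂ) * μ ψ 1 = Nat.card W₁ * 1 := by rw [h1, mul_one]
    exact mul_left_cancel₀ hc this
  obtain ⟨t, ht⟩ := IsChar.hom_units_of_one (IsIrr.isCharacter (hμ.irr ψ)) h2
  have hX1 : ¬ X1 W₁ W₂ ψ := fun hc => hψ1 (eq_one_of_X hc hψ (hdisj s.pd.self) (hcomm s.pd.self))
  apply not_ker_H s.pd hμ hX1
  intro k hk
  have h3 : (k : S) ∈ t.ker := by
    apply Abelianization.commutator_subset_ker t
    exact k.2
  rw [h2, ht]
  have h4 : t k = 1 := h3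
  rw [h4, Units.val_one]

end Side

end Cfsg.Agent.H12.P13S
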