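import Mathlib
import Cfsg.Agent.H12_P13j

/-! PF §13: (13.12): `C = 1` -/

set_option autoImplicit false
set_option linter.style.haveILetI false
set_option linter.unusedSectionVars false

namespace Cfsg.Agent.H12.P13S

open Subgroup Cfsg Cfsg.Agent.HL.P9 Cfsg.Agent.H12 Cfsg.Agent.H22.Basic Cfsg.Agent.H12.P13 Cfsg.Agent.H10.PrD4 Cfsg.Agent.H10.PrD2
  Cfsg.Agent.H10.PrD6 Cfsg.Agent.H10.CycTI Cfsg.Agent.H10.CycTI2 Cfsg.Agent.H3.CharIrr Cfsg.Agent.H3.CharInd Cfsg.Agent.H3.CharBasic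
  Cfsg.Agent.H3.CharMult

universe v
variable {G : Type v} [Group G] [Finite G] {S T W₁ W₂ U V : Subgroup G}

section
variable (hG : IsMinSimpleOddOrder G) (s : Side S W₁ U W₂)
include hG s

theorem Side.dV {x : G} (hx : x ∈ FF S) (g : G) : g * x * g⁻¹ ∉ Cfsg.Agent.H10.CycTI2.V W₁ W₂ := by
  intro hc
  have hW := s.data.selfNormalizing
  have hab : ∀ y ∈ FF S, x * y = y * x := by
    intro y hy
    have hxS := s.FF_le hG hx
    have hyS := s.FF_le hG hy
    exact congrArg Subtype.val (s.fd.ab ⟨x, hxS⟩ (mem_subgroupOf.2 hx) ⟨y, hyS⟩ (mem_subgroupOf.2 hy))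
  have h1 : (FF S).map (MulAut.conj g).toMonoidHom ≤ W₁ ⊔ W₂ := by
    rintro _ ⟨y, hy, rfl⟩
    show g * y * g⁻¹ ∈ W₁ ⊔ W₂
    apply Cfsg.Agent.H10.CycTI2.ti hW hc
    have : g * y * g⁻¹ * (g * x * g⁻¹) * (g * y * g⁻¹)⁻¹ = g * x * g⁻¹ := by
      have e : g * y * g⁻¹ * (g * x * g⁻¹) * (g * y * g⁻¹)⁻¹ = g * (y * x * y⁻¹) * g⁻¹ := by group
      rw [e, ← hab y hy, mul_inv_cancel_right]
    rw [this]; exact hc
  have h2 := Subgroup.card_dvd_of_le h1
  rw [Subgroup.card_map_of_injective (MulAut.conj g).injective, s.card_FF hG, TypeP.card_sup_of_pair hW] at h2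
  have hq3 : 3 ≤ Nat.card W₁ := by
    have h3 := s.odd_sub hG W₁
    have h4 := s.prq.two_le
    omega
  have h3 : Nat.card W₂ ^ 3 ∣ Nat.card W₁ * Nat.card W₂ :=
    ((pow_dvd_pow _ hq3).trans (dvd_mul_right _ _)).trans h2
  have h4 : Nat.card W₂ ^ 2 ∣ Nat.card W₁ := by
    have : Nat.card W₂ ^ 2 * Nat.card W₂ ∣ Nat.card W₁ * Nat.card W₂ := by rw [← pow_succ]; exact h3
    exact Nat.dvd_of_mul_dvd_mul_right s.prp.pos this
  have h5 : Nat.card W₂ = Nat.card W₁ := (Nat.prime_dvd_prime_iff_eq s.prp s.prq).1 ((dvd_pow_self _ two_ne_zero).trans h4)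
  rw [h5] at h4
  have h6 := Nat.le_of_dvd s.prq.pos h4
  have h7 := s.prq.two_le
  nlinarith

theorem Side.hall_char (h1 : (Nat.card (CU S U)).Coprime (Nat.card U / Nat.card (CU S U))) (h2 : CU S U ≠ ⊥) :
    normalizer (U : Set G) ≤ S := by
  intro n hn
  obtain ⟨x, hx, hx1⟩ := (Subgroup.bot_or_exists_ne_one (CU S U)).resolve_left h2
  have hxF : x ∈ FF S := by rw [s.FF_eq]; exact mem_sup_right hx
  have hy : n * x * n⁻¹ ∈ U := (mem_normalizer_iff.1 hn x).1 hx.1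
  have hyc : (n * x * n⁻¹) ^ Nat.card (CU S U) = 1 := by
    rw [conj_pow]
    have : x ^ Nat.card (CU S U) = 1 := by
      have h3 : (⟨x, hx⟩ : CU S U) ^ Nat.card (CU S U) = 1 := pow_card_eq_one'
      exact congrArg Subtype.val h3
    rw [this, mul_one, mul_inv_cancel]
  set y := n * x * n⁻¹ with hydef
  have hyu : y ^ (Nat.card U / Nat.card (CU S U)) ∈ CU S U := by
    have hn' : ((CU S U).subgroupOf U).Normal := ⟨fun a ha g => by
      have e : g * a * g⁻¹ = a := Subtype.ext (by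
        show (g : G) * a * (g : G)⁻¹ = a
        rw [s.abU hG g g.2 a a.2, mul_inv_cancel_right])
      rw [e]; exact ha⟩
    have h3 := Subgroup.pow_index_mem ((CU S U).subgroupOf U) (⟨y, hy⟩ : U)
    have h4 : ((CU S U).subgroupOf U).index = Nat.card U / Nat.card (CU S U) := by
      have h5 := Subgroup.index_mul_card ((CU S U).subgroupOf U)
      rw [Nat.card_congr (Subgroup.subgroupOfEquivOfLe (show CU S U ≤ U from inf_le_left)).toEquiv] at h5
      exact (Nat.div_eq_of_eq_mul_left Nat.card_pos h5.symm).symm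
    rw [h4] at h3
    exact mem_subgroupOf.1 h3
  have hyC : y ∈ CU S U := by
    obtain ⟨m, hm⟩ := exists_pow_eq_self_of_coprime (x := y) (n := Nat.card U / Nat.card (CU S U))
      (Nat.Coprime.coprime_dvd_right (orderOf_dvd_of_pow_eq_one hyc) h1.symm)
    rw [← hm]
    exact pow_mem hyu m
  have hyF : y ∈ FF S := by rw [s.FF_eq]; exact mem_sup_right hyC
  exact s.ti x hxF hx1 n hyF

end

/-- (13.10) for the pair, in natural numbers -/
theorem Pair.ineq [Fintype S] (hG : IsMinSimpleOddOrder G) (P : Pair S T W₁ W₂ U V) {θ : ↥((FF S).subgroupOf S) →* ℂˣ}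
    (hθ : Full P.sS.fd.normal (commutator S) ((fittingHallOf S).subgroupOf S) θ)
    (hirr : IsIrrCharacter S (indFun ((FF S).subgroupOf S) (ch θ))) :
    Nat.card (CU S U) * Nat.card W₂ ^ Nat.card W₁ * ((Nat.card V / Nat.card (CU T V) - 1) *
      (Nat.card W₁ ^ Nat.card W₂ * Nat.card (CU T V) - Nat.card V / Nat.card (CU T V) - 1)) ≤
      Nat.card U / Nat.card (CU S U) * Nat.card W₁ * Nat.card W₂ * (Nat.card V / Nat.card (CU T V) *
        (Nat.card W₁ ^ Nat.card W₂ * Nat.card (CU T V))) := by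
  letI := Fintype.ofFinite G
  letI := Fintype.ofFinite T
  obtain ⟨μS, δS, hμS⟩ := exists_MU P.sS.pd.toPT
  obtain ⟨μT, δT, hμT⟩ := exists_MU P.sT.pd.toPT
  have key := main10 (P.sS.FF_le hG) (P.sT.FF_le hG) P.sS.pd P.sT.pd hμS hμT P.sS.fd P.sT.fd P.sS.ti P.sT.ti P.disj
    (fun x hx g => P.sS.dV hG hx g) (fun x hx g hc => P.sT.dV hG hx g (by
      rw [mem_V] at hc ⊢
      rw [sup_comm]
      exact ⟨hc.1, hc.2.2, hc.2.1⟩)) hθ hirr (P.sS.index hG) (P.sT.index hG)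
  rw [P.sS.card_FF hG, P.sT.card_FF hG] at key
  have hv0 := P.sT.u_pos hG
  have hd0 : 0 < Nat.card (CU T V) := Nat.card_pos
  have hle := P.sT.le_pq hG
  have hq3 : 3 ≤ Nat.card W₁ := by
    have h3 := P.sS.odd_sub hG W₁
    have h4 := P.sS.prq.two_le
    omega
  set v := Nat.card V / Nat.card (CU T V) with hv
  set d := Nat.card (CU T V) with hd
  set p := Nat.card W₂ with hp
  set q := Nat.card W₁ with hq
  set u := Nat.card U / Nat.card (CU S U) with hu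
  set c := Nat.card (CU S U) with hc
  have h1 : v + 1 ≤ q ^ p := by
    have h2 : 1 ≤ q ^ p := Nat.one_le_pow _ _ (by omega)
    have h3 : 2 * v ≤ (q - 1) * v := Nat.mul_le_mul_right v (by omega)
    omega
  have h2 : q ^ p ≤ q ^ p * d := Nat.le_mul_of_pos_right _ hd0
  have h3 : v + 1 ≤ q ^ p * d := h1.trans h2
  have e1 : ((v - 1 : ℕ) : ℝ) = (v : ℝ) - 1 := by rw [Nat.cast_sub hv0, Nat.cast_one]
  have e2 : ((q ^ p * d - v - 1 : ℕ) : ℝ) = (q : ℝ) ^ p * d - v - 1 := by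
    rw [Nat.sub_sub, Nat.cast_sub h3]; push_cast; ring
  have key2 : ((c * p ^ q * ((v - 1) * (q ^ p * d - v - 1)) : ℕ) : ℝ) ≤ ((u * q * p * (v * (q ^ p * d)) : ℕ) : ℝ) := by
    push_cast at key ⊢
    rw [e1, e2]
    calc (c : ℝ) * p ^ q * ((v - 1) * (q ^ p * d - v - 1)) = p ^ q * c * ((v - 1) * (q ^ p * d - v - 1)) := by ring
      _ ≤ _ := key
  exact_mod_cast key2

/-- Peterfalvi (13.12) -/
theorem Pair.C_bot (hG : IsMinSimpleOddOrder G) (P : Pair S T W₁ W₂ U V) (hIII : IsOfTypeIII S → CU S U = ⊥) : CU S U = ⊥ := by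
  classical
  by_contra hne
  have hII : IsOfTypeII S := P.sS.ty.resolve_right fun h => hne (hIII h)
  letI := Fintype.ofFinite G
  letI := Fintype.ofFinite S
  obtain ⟨μS, δS, hμS⟩ := exists_MU P.sS.pd.toPT
  have hCS : CU S U ≤ S := (inf_le_left : CU S U ≤ U).trans (P.sS.data.U_compl.2.1.trans (TypeP.commutator_le_self P.sS.data))
  obtain ⟨θ, hθ, hirr⟩ := exists_irr_of_C P.sS.pd hμS P.sS.fd (P.sS.cx hG) (by
    rw [Ne, Subgroup.subgroupOf_eq_bot]
    intro h1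
    apply hne
    exact eq_bot_iff.2 (h1 le_rfl hCS))
  have hin := P.ineq hG hθ hirr
  refine Cfsg.Agent.H27.P13ar.ar1 (p := Nat.card W₂) (q := Nat.card W₁) (u := Nat.card U / Nat.card (CU S U)) (v := Nat.card V / Nat.card (CU T V))
    (d := Nat.card (CU T V)) (c := Nat.card (CU S U)) P.sS.prp P.sS.prq (P.sS.p_ne_two hG) (P.sS.q_ne_two hG) P.ne.symm ?_ ?_ Nat.card_pos ?_
    (P.sT.u_odd hG) (P.sT.u_ne_one hG) ?_ (P.sS.u_odd hG) (P.sS.u_ne_one hG) (P.sS.u_cop hG) ?_ (P.sS.odd_sub hG _) ?_ ?_ hin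
  · rw [mul_comm]; exact P.sS.le_pq hG
  · rw [mul_comm]; exact P.sT.le_pq hG
  · have := P.sT.u_mod hG
    rwa [Nat.ModEq, Nat.mod_eq_of_lt P.sT.prq.one_lt] at this
  · have := P.sS.u_mod hG
    rwa [Nat.ModEq, Nat.mod_eq_of_lt P.sS.prq.one_lt] at this
  · have := P.sS.C_mod hG
    rwa [Nat.ModEq, Nat.mod_eq_of_lt P.sS.prq.one_lt] at this
  · rw [Ne, Subgroup.card_eq_one]; exact hne
  · intro hcop
    have h1 := P.sS.hall_char hG hcop hne
    exact (dataII (sol_of hG P.sS.max) (odd_of hG S) hII P.sS.data).2.2.2.2.1 h1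

end Cfsg.Agent.H12.P13S
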