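import Mathlib
import Cfsg.Agent.H12_P13k

/-! PF §13: (13.13)-(13.15) -/

set_option autoImplicit false
set_option linter.style.haveILetI false
set_option linter.unusedSectionVars false

namespace Cfsg.Agent.H12.P13S

open Subgroup Cfsg Cfsg.Agent.HL.P9 Cfsg.Agent.H12 Cfsg.Agent.H22.Basic Cfsg.Agent.H12.P13 Cfsg.Agent.H10.PrD4 Cfsg.Agent.H10.PrD2
  Cfsg.Agent.H10.PrD6 Cfsg.Agent.H10.CycTI Cfsg.Agent.H10.CycTI2 Cfsg.Agent.H3.CharIrr Cfsg.Agent.H3.CharInd Cfsg.Agent.H3.CharBasic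
  Cfsg.Agent.H3.CharMult

universe v
variable {G : Type v} [Group G] [Finite G] {S T W₁ W₂ U V : Subgroup G}

section
variable (hG : IsMinSimpleOddOrder G) (s : Side S W₁ U W₂) (hC : CU S U = ⊥)
include hG s hC

theorem Side.FF_eq_P : FF S = fittingHallOf S := by
  rw [s.FF_eq]
  have : U ⊓ centralizer (fittingHallOf S : Set G) = ⊥ := hC
  rw [this, sup_bot_eq]

theorem Side.div_eq : Nat.card U / Nat.card (CU S U) = Nat.card U := by
  rw [hC, Subgroup.card_bot, Nat.div_one]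

theorem Side.abP : ∀ a ∈ fittingHallOf S, ∀ b ∈ fittingHallOf S, a * b = b * a := by
  intro a ha b hb
  have haS := Core.fittingHallOf_le S ha
  have hbS := Core.fittingHallOf_le S hb
  have ha' : a ∈ FF S := by rw [s.FF_eq_P hG hC]; exact ha
  have hb' : b ∈ FF S := by rw [s.FF_eq_P hG hC]; exact hb
  exact congrArg Subtype.val (s.fd.ab ⟨a, haS⟩ (mem_subgroupOf.2 ha') ⟨b, hbS⟩ (mem_subgroupOf.2 hb'))

/-- a linear character of `F` with trivial stabilizer in `U` is fully supported -/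
theorem Side.full_of (θ : ↥((FF S).subgroupOf S) →* ℂˣ) (h1 : θ ≠ 1)
    (h2 : ∀ b ∈ U, (∀ x y : ↥((FF S).subgroupOf S), ((y : S) : G) = b * (x : S) * b⁻¹ → θ y = θ x) → b = 1) :
    Full s.fd.normal (commutator S) ((fittingHallOf S).subgroupOf S) θ := by
  refine ⟨?_, ?_⟩
  · by_contra hcon
    push Not at hcon
    apply h1
    ext x
    rw [hcon x (mem_subgroupOf.2 (by rw [← s.FF_eq_P hG hC]; exact mem_subgroupOf.1 x.2))]
    rfl
  · intro k hk hk'
    rw [s.comm_top hG, mem_subgroupOf] at hk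
    obtain ⟨a, ha, b, hb, e⟩ := s.data.U_compl.2.2.2 k hk
    have hbS : b ∈ S := (s.data.U_compl.2.1.trans (TypeP.commutator_le_self s.data)) hb
    have hb1 : b = 1 := by
      apply h2 b hb
      intro x y hxy
      rw [← hk' x]
      congr 1
      apply Subtype.ext
      apply Subtype.ext
      rw [hxy]
      show b * (x : S) * b⁻¹ = (k : G) * (x : S) * (k : G)⁻¹
      rw [e]
      have hxP : ((x : S) : G) ∈ fittingHallOf S := by rw [← s.FF_eq_P hG hC]; exact mem_subgroupOf.1 x.2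
      have hbx : b * ((x : S) : G) * b⁻¹ ∈ fittingHallOf S :=
        (mem_normalizer_iff.1 (s.S_P hG hbS) _).1 hxP
      have := s.abP hG hC a ha _ hbx
      calc b * ((x : S) : G) * b⁻¹ = (b * ((x : S) : G) * b⁻¹) * a * a⁻¹ := by group
        _ = a * (b * ((x : S) : G) * b⁻¹) * a⁻¹ := by rw [← this]
        _ = a * b * ((x : S) : G) * (a * b)⁻¹ := by group
    rw [hb1, mul_one] at e
    rw [mem_subgroupOf, e, s.FF_eq_P hG hC]
    exact ha

theorem Side.free_full (hfree : ∀ u ∈ U, u ≠ 1 → ∀ x ∈ fittingHallOf S, u * x = x * u → x = 1)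
    (θ : ↥((FF S).subgroupOf S) →* ℂˣ) (h1 : θ ≠ 1) :
    Full s.fd.normal (commutator S) ((fittingHallOf S).subgroupOf S) θ := by
  refine s.full_of hG hC θ h1 fun b hb hinv => ?_
  by_contra hb1
  apply h1
  have hbS : b ∈ S := (s.data.U_compl.2.1.trans (TypeP.commutator_le_self s.data)) hb
  have hP : ∀ x : ↥((FF S).subgroupOf S), ((x : S) : G) ∈ fittingHallOf S := fun x => by
    rw [← s.FF_eq_P hG hC]; exact mem_subgroupOf.1 x.2
  have hn : ∀ x : ↥((FF S).subgroupOf S), b * ((x : S) : G) * b⁻¹ ∈ fittingHallOf S := fun x =>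
    (mem_normalizer_iff.1 (s.S_P hG hbS) _).1 (hP x)
  let c : ↥((FF S).subgroupOf S) → ↥((FF S).subgroupOf S) := fun x =>
    ⟨⟨b * ((x : S) : G) * b⁻¹, Core.fittingHallOf_le S (hn x)⟩, mem_subgroupOf.2 ((le_of_eq (s.FF_eq_P hG hC).symm) (hn x))⟩
  let f : ↥((FF S).subgroupOf S) → ↥((FF S).subgroupOf S) := fun x => c x * x⁻¹
  have hinj : Function.Injective f := by
    intro x y hxy
    have h2 : b * ((x : S) : G) * b⁻¹ * ((x : S) : G)⁻¹ = b * ((y : S) : G) * b⁻¹ * ((y : S) : G)⁻¹ :=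
      congrArg (fun z : ↥((FF S).subgroupOf S) => ((z : S) : G)) hxy
    have h3 : b * (((x : S) : G) * ((y : S) : G)⁻¹) = (((x : S) : G) * ((y : S) : G)⁻¹) * b := by
      have hab := s.abP hG hC
      have i1 : ((y : S) : G)⁻¹ ∈ fittingHallOf S := inv_mem (hP y)
      have i2 : b * ((y : S) : G)⁻¹ * b⁻¹ ∈ fittingHallOf S := (mem_normalizer_iff.1 (s.S_P hG hbS) _).1 i1
      have h4 : b * ((x : S) : G) * b⁻¹ = b * ((y : S) : G) * b⁻¹ * (((y : S) : G)⁻¹ * ((x : S) : G)) := by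
        calc b * ((x : S) : G) * b⁻¹ = (b * ((x : S) : G) * b⁻¹ * ((x : S) : G)⁻¹) * ((x : S) : G) := by group
          _ = _ := by rw [h2]; group
      have h5 : b * (((x : S) : G) * ((y : S) : G)⁻¹) * b⁻¹ = ((x : S) : G) * ((y : S) : G)⁻¹ := by
        calc b * (((x : S) : G) * ((y : S) : G)⁻¹) * b⁻¹ = (b * ((x : S) : G) * b⁻¹) * (b * ((y : S) : G)⁻¹ * b⁻¹) := by group
          _ = (b * ((y : S) : G) * b⁻¹ * (((y : S) : G)⁻¹ * ((x : S) : G))) * (b * ((y : S) : G)⁻¹ * b⁻¹) := by rw [h4]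
          _ = b * ((y : S) : G) * b⁻¹ * ((((y : S) : G)⁻¹ * ((x : S) : G)) * (b * ((y : S) : G)⁻¹ * b⁻¹)) := by group
          _ = b * ((y : S) : G) * b⁻¹ * ((b * ((y : S) : G)⁻¹ * b⁻¹) * (((y : S) : G)⁻¹ * ((x : S) : G))) := by
            rw [hab _ (mul_mem i1 (hP x)) _ i2]
          _ = ((y : S) : G)⁻¹ * ((x : S) : G) := by group
          _ = ((x : S) : G) * ((y : S) : G)⁻¹ := hab _ i1 _ (hP x)
      rw [← mul_inv_eq_iff_eq_mul]; exact h5
    have h4 := hfree b hb hb1 _ (mul_mem (hP x) (inv_mem (hP y))) h3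
    apply Subtype.ext
    apply Subtype.ext
    exact mul_inv_eq_one.1 h4
  have hsurj := Finite.surjective_of_injective hinj
  ext z
  obtain ⟨x, rfl⟩ := hsurj z
  show ((θ (c x * x⁻¹) : ℂˣ) : ℂ) = _
  rw [map_mul, hinv x (c x) rfl, ← map_mul, mul_inv_cancel, map_one]
  rfl

theorem Side.card_F : Nat.card ↥((FF S).subgroupOf S) = Nat.card W₂ ^ Nat.card W₁ := by
  rw [Nat.card_congr (Subgroup.subgroupOfEquivOfLe (s.FF_le hG)).toEquiv, s.card_FF hG, hC, Subgroup.card_bot, mul_one]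

/-- if no `Ind θ` is irreducible and `U` acts freely then `(p - 1) u = p^q - 1` -/
theorem Side.count_eq [Fintype S] (hfree : ∀ u ∈ U, u ≠ 1 → ∀ x ∈ fittingHallOf S, u * x = x * u → x = 1)
    (hno : ∀ θ : ↥((FF S).subgroupOf S) →* ℂˣ, Full s.fd.normal (commutator S) ((fittingHallOf S).subgroupOf S) θ →
      ¬ IsIrrCharacter S (indFun ((FF S).subgroupOf S) (ch θ))) : (Nat.card W₂ - 1) * Nat.card U = Nat.card W₂ ^ Nat.card W₁ - 1 := by
  classical
  letI := Fintype.ofFinite G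
  haveI : Fintype ↥((FF S).subgroupOf S) := Fintype.ofFinite _
  obtain ⟨μ, δ, hμ⟩ := exists_MU s.pd.toPT
  apply le_antisymm
  · have := s.le_pq hG
    rwa [s.div_eq hG hC] at this
  · have h1 := card_BB s.pd hμ s.fd (s.index hG)
    rw [s.div_eq hG hC] at h1
    rw [← h1, ← s.card_F hG hC, ← card_dual (ab' s.fd), ← Finset.card_univ, ← Finset.card_erase_of_mem (Finset.mem_univ (1 : ↥((FF S).subgroupOf S) →* ℂˣ))]
    apply Finset.card_le_card
    intro θ hθ
    exact full_le s.pd hμ s.fd hno (s.free_full hG hC hfree θ (Finset.ne_of_mem_erase hθ))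

end

/-- Galois case -/
theorem Pair.gal (hG : IsMinSimpleOddOrder G) (P : Pair S T W₁ W₂ U V) (hC : CU S U = ⊥)
    (hfree : ∀ u ∈ U, u ≠ 1 → ∀ x ∈ fittingHallOf S, u * x = x * u → x = 1)
    (hdiv : Nat.card U ∣ (Nat.card W₂ ^ Nat.card W₁ - 1) / (Nat.card W₂ - 1)) :
    (Nat.card W₂ % Nat.card W₁ ≠ 1 → Nat.card U * (Nat.card W₂ - 1) = Nat.card W₂ ^ Nat.card W₁ - 1) ∧
      (Nat.card W₂ % Nat.card W₁ = 1 → Nat.card U * Nat.card W₁ * (Nat.card W₂ - 1) = Nat.card W₂ ^ Nat.card W₁ - 1) := by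
  classical
  letI := Fintype.ofFinite G
  letI := Fintype.ofFinite S
  by_cases hirr : ∃ θ : ↥((FF S).subgroupOf S) →* ℂˣ, Full P.sS.fd.normal (commutator S) ((fittingHallOf S).subgroupOf S) θ ∧
      IsIrrCharacter S (indFun ((FF S).subgroupOf S) (ch θ))
  · obtain ⟨θ, hθ, hi⟩ := hirr
    have hin := P.ineq hG hθ hi
    rw [P.sS.div_eq hG hC, hC, Subgroup.card_bot, one_mul] at hin
    have h1 := P.sS.le_pq hG
    have h2 := P.sS.u_mod hG
    have h3 := P.sS.u_odd hG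
    have h4 := P.sS.u_ne_one hG
    have h5 := P.sS.u_cop hG
    rw [P.sS.div_eq hG hC] at h1 h2 h3 h4 h5
    have key := Cfsg.Agent.H27.P13ar.ar2 (p := Nat.card W₂) (q := Nat.card W₁) (u := Nat.card U) (v := Nat.card V / Nat.card (CU T V))
      (d := Nat.card (CU T V)) P.sS.prp P.sS.prq (P.sS.p_ne_two hG) (P.sS.q_ne_two hG) P.ne.symm (by rw [mul_comm]; exact h1)
      (by rw [mul_comm]; exact P.sT.le_pq hG) Nat.card_pos (by
        have := P.sT.u_mod hG
        rwa [Nat.ModEq, Nat.mod_eq_of_lt P.sT.prq.one_lt] at this) (P.sT.u_odd hG) (P.sT.u_ne_one hG) (by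
        rwa [Nat.ModEq, Nat.mod_eq_of_lt P.sS.prq.one_lt] at h2) h3 h4 h5 hin hdiv
    refine ⟨key.1, fun h => ?_⟩
    rw [← key.2 h]; ring
  · push Not at hirr
    have key := P.sS.count_eq hG hC hfree hirr
    refine ⟨fun _ => by rw [mul_comm]; exact key, fun h => ?_⟩
    exfalso
    set p := Nat.card W₂ with hp
    set q := Nat.card W₁ with hq
    have hp2 := P.sS.prp.two_le
    have hgs : (p - 1) * ∑ i ∈ Finset.range q, p ^ i = p ^ q - 1 := by
      have := Nat.geomSum_eq hp2 q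
      rw [this]
      have h8 := Nat.sub_dvd_pow_sub_pow p 1 q
      rw [one_pow] at h8
      exact Nat.mul_div_cancel' h8
    have hu : Nat.card U = ∑ i ∈ Finset.range q, p ^ i := by
      apply Nat.eq_of_mul_eq_mul_left (show 0 < p - 1 by omega)
      rw [key, hgs]
    have h1 := P.sS.U_mod hG
    have hpq : p ≡ 1 [MOD q] := by
      rw [Nat.ModEq, h, Nat.mod_eq_of_lt P.sS.prq.one_lt]
    have h2 : ∑ i ∈ Finset.range q, p ^ i ≡ ∑ i ∈ Finset.range q, 1 [MOD q] := by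
      refine Nat.ModEq.sum fun i _ => ?_
      have := hpq.pow i
      rwa [one_pow] at this
    rw [← hu, Finset.sum_const, Finset.card_range, smul_eq_mul, mul_one] at h2
    have h3 : 1 ≡ q [MOD q] := h1.symm.trans h2
    rw [Nat.ModEq, Nat.mod_self, Nat.mod_eq_of_lt P.sS.prq.one_lt] at h3
    exact one_ne_zero h3

end Cfsg.Agent.H12.P13S
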