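import Mathlib
import Cfsg.Agent.H12_P13l

/-! PF §13: the non-Galois case -/

set_option autoImplicit false
set_option linter.style.haveILetI false
set_option linter.unusedSectionVars false

namespace Cfsg.Agent.H12.P13S

open Subgroup Cfsg Cfsg.Agent.HL.P9 Cfsg.Agent.H12 Cfsg.Agent.H22.Basic Cfsg.Agent.H12.P13 Cfsg.Agent.H10.PrD4 Cfsg.Agent.H10.PrD2
  Cfsg.Agent.H10.PrD6 Cfsg.Agent.H10.CycTI Cfsg.Agent.H10.CycTI2 Cfsg.Agent.H3.CharIrr Cfsg.Agent.H3.CharInd Cfsg.Agent.H3.CharBasic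
  Cfsg.Agent.H3.CharMult Cfsg.Agent.H3.Clifford

universe v
variable {G : Type v} [Group G] [Finite G] {S T W₁ W₂ U V : Subgroup G}

/-- the conclusion of lead's lemma `nongal_char` -/
def NG (P U W₁ : Subgroup G) : Prop :=
  ∃ θ : ↥P →* ℂˣ, θ ≠ 1 ∧ (∀ u ∈ U, (∀ x y : P, (y : G) = u * x * u⁻¹ → θ y = θ x) → u = 1) ∧
    ¬ ∃ θ₂ : ↥P →* ℂˣ, (∀ w ∈ W₁, ∀ x y : P, (y : G) = w * x * w⁻¹ → θ₂ y = θ₂ x) ∧ ∃ u ∈ U, ∀ x y : P, (y : G) = u * x * u⁻¹ → θ x = θ₂ y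

theorem Side.exists_irr [Fintype S] (hG : IsMinSimpleOddOrder G) (s : Side S W₁ U W₂) (hC : CU S U = ⊥)
    (hex : NG (fittingHallOf S) U W₁) :
    ∃ θ : ↥((FF S).subgroupOf S) →* ℂˣ, Full s.fd.normal (commutator S) ((fittingHallOf S).subgroupOf S) θ ∧
      IsIrrCharacter S (indFun ((FF S).subgroupOf S) (ch θ)) := by
  classical
  letI := Fintype.ofFinite G
  haveI : Fintype ↥((FF S).subgroupOf S) := Fintype.ofFinite _
  haveI : Fintype ↥(commutator S) := Fintype.ofFinite _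
  obtain ⟨μ, δ, hμ⟩ := exists_MU s.pd.toPT
  obtain ⟨θ, hθ1, hst, hno⟩ := hex
  have hFP := s.FF_eq_P hG hC
  have hPS := Core.fittingHallOf_le S
  let ι : ↥((FF S).subgroupOf S) →* ↥(fittingHallOf S) :=
    { toFun := fun x => ⟨((x : S) : G), (le_of_eq hFP) (mem_subgroupOf.1 x.2)⟩
      map_one' := rfl
      map_mul' := fun _ _ => rfl }
  let ι' : ↥(fittingHallOf S) →* ↥((FF S).subgroupOf S) :=
    { toFun := fun x => ⟨⟨x, hPS x.2⟩, mem_subgroupOf.2 ((le_of_eq hFP.symm) x.2)⟩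
      map_one' := rfl
      map_mul' := fun _ _ => rfl }
  have hιι : ∀ x, ι (ι' x) = x := fun _ => rfl
  have hιι' : ∀ x, ι' (ι x) = x := fun _ => rfl
  have hfull : Full s.fd.normal (commutator S) ((fittingHallOf S).subgroupOf S) (θ.comp ι) := by
    refine s.full_of hG hC _ (fun h => hθ1 ?_) (fun b hb hinv => hst b hb fun x y hxy => ?_)
    · ext x
      have h1 := DFunLike.congr_fun h (ι' x)
      exact congrArg Units.val h1
    · exact hinv (ι' x) (ι' y) hxy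
  refine ⟨θ.comp ι, hfull, ?_⟩
  rcases indD_cases s.pd hμ (full_mem s.fd.normal s.fd.F_le s.pd.H_normal s.fd.H_le hfull).1 with hi | ⟨ψ', h1, h2, e⟩
  · exact hi
  · exfalso
    obtain ⟨θ₁, f1, hinv, e1⟩ := exists_full s.pd hμ s.fd h1 h2
    obtain ⟨g, hg⟩ := (mem_OO_iff s.fd).1 (mem_OO.2 (e.trans e1.symm) : θ.comp ι ∈ OO _ (indFun _ (ch θ₁)))
    apply hno
    refine ⟨θ₁.comp ι', ?_, ?_⟩
    · intro w hw x y hxy
      have hwS : w ∈ S := s.pd.W₁_le hw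
      have h3 := hinv ⟨w, hwS⟩ (mem_subgroupOf.2 hw) (ι' x)
      rw [MonoidHom.comp_apply, MonoidHom.comp_apply, ← h3]
      congr 1
      apply Subtype.ext
      apply Subtype.ext
      exact hxy
    · obtain ⟨k, hk, w, hw, eg⟩ := s.data.W₁_compl.2.2.2 g g.2
      obtain ⟨a, ha, b, hb, ek⟩ := s.data.U_compl.2.2.2 k hk
      have hwS : w ∈ S := s.pd.W₁_le hw
      have hbS : b ∈ S := (s.data.U_compl.2.1.trans (TypeP.commutator_le_self s.data)) hb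
      have hb' : w⁻¹ * b * w ∈ U := by
        have := (mem_normalizer_iff.1 ((normalizer (U : Set G)).inv_mem (s.data.U_normal hw)) b).1 hb
        rwa [inv_inv] at this
      refine ⟨w⁻¹ * b * w, hb', fun x y hxy => ?_⟩
      have h3 : θ x = θ₁ ⟨g * (ι' x) * g⁻¹, s.fd.normal.conj_mem _ (ι' x).2 g⟩ := Units.ext (congrFun hg (ι' x)).symm
      have h4 := hinv ⟨w, hwS⟩ (mem_subgroupOf.2 hw) (ι' y)
      rw [h3, MonoidHom.comp_apply, ← h4]
      congr 1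
      apply Subtype.ext
      apply Subtype.ext
      show (g : G) * x * (g : G)⁻¹ = w * y * w⁻¹
      rw [eg, ek, hxy]
      have hz : b * (w * (x : G) * w⁻¹) * b⁻¹ ∈ fittingHallOf S := by
        apply (mem_normalizer_iff.1 (s.S_P hG hbS) _).1
        exact (mem_normalizer_iff.1 (s.S_P hG hwS) _).1 x.2
      have h5 := s.abP hG hC a ha _ hz
      calc a * b * w * (x : G) * (a * b * w)⁻¹ = a * (b * (w * (x : G) * w⁻¹) * b⁻¹) * a⁻¹ := by group
        _ = (b * (w * (x : G) * w⁻¹) * b⁻¹) * a * a⁻¹ := by rw [h5]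
        _ = w * (w⁻¹ * b * w * x * (w⁻¹ * b * w)⁻¹) * w⁻¹ := by group

/-- non-Galois case -/
theorem Pair.nongal (hG : IsMinSimpleOddOrder G) (P : Pair S T W₁ W₂ U V) (hC : CU S U = ⊥) (hex : NG (fittingHallOf S) U W₁)
    {a : ℕ} (ha : a ∣ Nat.card W₂ - 1) (hao : Odd a) (hua : Nat.card U ∣ a ^ (Nat.card W₁ - 1)) :
    Nat.card W₁ = 3 ∧ a = (Nat.card W₂ - 1) / 2 ∧ Nat.card U = ((Nat.card W₂ - 1) / 2) ^ 2 := by
  classical
  letI := Fintype.ofFinite G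
  letI := Fintype.ofFinite S
  obtain ⟨θ, hθ, hi⟩ := P.sS.exists_irr hG hC hex
  have hin := P.ineq hG hθ hi
  rw [P.sS.div_eq hG hC, hC, Subgroup.card_bot, one_mul] at hin
  have h1 := P.sS.le_pq hG
  have h2 := P.sS.u_mod hG
  have h3 := P.sS.u_odd hG
  have h4 := P.sS.u_ne_one hG
  have h5 := P.sS.u_cop hG
  rw [P.sS.div_eq hG hC] at h1 h2 h3 h4 h5
  have key := Cfsg.Agent.H27.P13ar.ar3 (p := Nat.card W₂) (q := Nat.card W₁) (u := Nat.card U) (v := Nat.card V / Nat.card (CU T V))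
    (d := Nat.card (CU T V)) P.sS.prp P.sS.prq (P.sS.p_ne_two hG) (P.sS.q_ne_two hG) P.ne.symm (by rw [mul_comm]; exact h1)
    (by rw [mul_comm]; exact P.sT.le_pq hG) Nat.card_pos (by
      have := P.sT.u_mod hG
      rwa [Nat.ModEq, Nat.mod_eq_of_lt P.sT.prq.one_lt] at this) (P.sT.u_odd hG) (P.sT.u_ne_one hG) (by
      rwa [Nat.ModEq, Nat.mod_eq_of_lt P.sS.prq.one_lt] at h2) h3 h4 h5 hin a ha (Nat.odd_iff.1 hao)
    (Nat.le_of_dvd (pow_pos hao.pos _) hua)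
  exact ⟨key.1, key.2.1, key.2.2 hua⟩

end Cfsg.Agent.H12.P13S
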