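import Mathlib
import Cfsg.Agent.H12_P13m

/-! PF §13: the character needed in the non-Galois case; (13.13)-(13.15) assembled -/

set_option autoImplicit false
set_option linter.style.haveILetI false
set_option linter.unusedSectionVars false

namespace Cfsg.Agent.H12.P13S

open Subgroup Cfsg Cfsg.Agent.HL.P9 Cfsg.Agent.H12 Cfsg.Agent.H22.Basic Cfsg.Agent.H12.P13 Cfsg.Agent.H10.PrD4 Cfsg.Agent.H10.PrD2
  Cfsg.Agent.H10.PrD6 Cfsg.Agent.H10.CycTI Cfsg.Agent.H10.CycTI2 Cfsg.Agent.H3.CharIrr Cfsg.Agent.H3.CharInd Cfsg.Agent.H3.CharBasic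
  Cfsg.Agent.H3.CharMult Cfsg.Agent.H3.Clifford

universe v
variable {G : Type v} [Group G] [Finite G]

theorem conj_iter {u x : G} {m : ℕ} (h : u * x * u⁻¹ = x ^ m) (k : ℕ) : u ^ k * x * (u ^ k)⁻¹ = x ^ (m ^ k) := by
  induction k with
  | zero => simp
  | succ k ih =>
    have e : u ^ (k + 1) * x * (u ^ (k + 1))⁻¹ = u ^ k * (u * x * u⁻¹) * (u ^ k)⁻¹ := by rw [pow_succ]; group
    rw [e, h, ← conj_pow, ih, ← pow_mul, pow_succ]

theorem NG_of {p q : ℕ} {P U W₁ W₂ : Subgroup G} (h : Cfg p q P U W₁ W₂) (hUC : U ⊓ centralizer (P : Set G) = ⊥)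
    {a : ℕ} (hao : Odd a) (hua : ∀ u ∈ U, u ^ a = 1) {P₁ : Subgroup G} (hP₁ : P₁ ≤ P) (hc : Nat.card P₁ = p)
    (hUP : U ≤ normalizer (P₁ : Set G))
    (hTT : ∀ w ∈ W₁, w ≠ 1 → TT w P₁ (Finset.range q) = P ∧
      ∀ S ⊆ Finset.range q, ∀ T ⊆ Finset.range q, Disjoint S T → TT w P₁ S ⊓ TT w P₁ T = ⊥) (hp2 : p ≠ 2)
    {θ₁ : ↥P →* ℂˣ} (h1 : θ₁ ≠ 1) (hinv : ∀ w ∈ W₁, ∀ x y : P, (y : G) = w * x * w⁻¹ → θ₁ y = θ₁ x) : NG P U W₁ := by
  classical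
  haveI := Fact.mk h.hp
  obtain ⟨w, hw, hw1⟩ := (Subgroup.bot_or_exists_ne_one W₁).resolve_left h.W_ne
  obtain ⟨hT, hdis⟩ := hTT w hw hw1
  have hwP : w ∈ normalizer (P : Set G) := h.WP hw
  have hPle : ∀ {Q : Subgroup G}, (∀ i < q, cj (w ^ i) P₁ ≤ Q) → P ≤ Q := by
    intro Q hQ
    calc P = TT w P₁ (Finset.range q) := hT.symm
      _ ≤ Q := Finset.sup_le fun i hi => hQ i (Finset.mem_range.1 hi)
  -- the generator of `P₁`
  obtain ⟨x₀, hx₀, hx₀1⟩ : ∃ x₀ : P, (x₀ : G) ∈ P₁ ∧ θ₁ x₀ ≠ 1 := by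
    by_contra hcon
    push Not at hcon
    apply h1
    have h2 : P ≤ θ₁.ker.map P.subtype := by
      apply hPle
      rintro i hi _ ⟨y, hy, rfl⟩
      have hyP : y ∈ P := hP₁ hy
      have h3 : w ^ i * y * (w ^ i)⁻¹ ∈ P := cj_le_of hwP hP₁ i ⟨y, hy, rfl⟩
      refine ⟨⟨w ^ i * y * (w ^ i)⁻¹, h3⟩, ?_, rfl⟩
      show θ₁ _ = 1
      rw [hinv (w ^ i) (W₁.pow_mem hw i) ⟨y, hyP⟩ ⟨_, h3⟩ rfl]
      exact hcon ⟨y, hyP⟩ hy
    ext x
    obtain ⟨y, hy, e⟩ := h2 x.2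
    have e' : y = x := Subtype.ext e
    have h4 : θ₁ y = 1 := hy
    rw [← e', h4]; rfl
  have hgen : ∀ y ∈ P₁, ∃ k : ℕ, (x₀ : G) ^ k = y := by
    intro y hy
    have h2 : (⟨x₀, hx₀⟩ : P₁) ≠ 1 := fun hc => hx₀1 (by
      have : x₀ = 1 := Subtype.ext (congrArg (fun z : P₁ => (z : G)) hc)
      rw [this, map_one])
    obtain ⟨k, hk⟩ := mem_powers_of_prime_card hc h2 (g' := ⟨y, hy⟩)
    exact ⟨k, congrArg (fun z : P₁ => (z : G)) hk⟩
  have hxp : (x₀ : G) ^ p = 1 := by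
    have : (⟨x₀, hx₀⟩ : P₁) ^ Nat.card P₁ = 1 := pow_card_eq_one'
    rw [hc] at this
    exact congrArg (fun z : P₁ => (z : G)) this
  -- the elements `x_i`
  have hxi : ∀ i, w ^ i * (x₀ : G) * (w ^ i)⁻¹ ∈ P := fun i => cj_le_of hwP hP₁ i ⟨x₀, hx₀, rfl⟩
  let x : ℕ → P := fun i => ⟨w ^ i * (x₀ : G) * (w ^ i)⁻¹, hxi i⟩
  have hθx : ∀ i, θ₁ (x i) = θ₁ x₀ := fun i => hinv (w ^ i) (W₁.pow_mem hw i) x₀ (x i) rfl
  have hxip : ∀ i, (x i : G) ^ p = 1 := by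
    intro i
    show (w ^ i * (x₀ : G) * (w ^ i)⁻¹) ^ p = 1
    rw [conj_pow, hxp]; group
  have hpw : ∀ i, ∀ u ∈ U, ∃ m : ℕ, u * (x i : G) * u⁻¹ = (x i : G) ^ m := by
    intro i u hu
    have hu' : (w ^ i)⁻¹ * u * w ^ i ∈ U := by
      have := (mem_normalizer_iff.1 ((normalizer (U : Set G)).inv_mem (h.WU (W₁.pow_mem hw i))) u).1 hu
      rwa [inv_inv] at this
    obtain ⟨m, hm⟩ := hgen _ ((mem_normalizer_iff.1 (hUP hu') _).1 hx₀)
    refine ⟨m, ?_⟩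
    show u * (w ^ i * (x₀ : G) * (w ^ i)⁻¹) * u⁻¹ = (w ^ i * (x₀ : G) * (w ^ i)⁻¹) ^ m
    rw [conj_pow, hm]
    group
  -- the projection
  have hq2 : 2 ≤ q := h.hq.two_le
  set B := TT w P₁ ((Finset.range q).erase 0) with hB
  have hBP₁ : B ⊓ P₁ = ⊥ := by
    have h2 := hdis ((Finset.range q).erase 0) (Finset.erase_subset _ _) {0} (by
      rw [Finset.singleton_subset_iff, Finset.mem_range]; omega) (by
      rw [Finset.disjoint_singleton_right]; exact Finset.notMem_erase 0 _)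
    have h3 : TT w P₁ {0} = P₁ := by
      rw [TT, Finset.sup_singleton, pow_zero]
      exact H22.Basic.cj_one P₁
    rw [h3] at h2
    exact h2
  have hBP : B ⊔ P₁ = P := by
    have h2 : insert 0 ((Finset.range q).erase 0) = Finset.range q := Finset.insert_erase (Finset.mem_range.2 (by omega))
    have h3 := TT_insert w P₁ 0 ((Finset.range q).erase 0)
    rw [h2, hT, pow_zero, H22.Basic.cj_one] at h3
    rw [h3, sup_comm]
  have habP : ∀ y ∈ P, ∀ z ∈ P, y * z = z * y := by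
    intro y hy z hz
    exact congrArg Subtype.val (h.ea.1.is_comm.comm (⟨y, hy⟩ : P) ⟨z, hz⟩)
  have hBle : B ≤ P := TT_le hwP hP₁ _
  obtain ⟨φ, hφ⟩ := Cfsg.Agent.H10.Dade2.exists_proj (H := B) (K := P₁) (fun k hk b hb => by
    rw [habP k (hP₁ hk) b (hBle hb), mul_inv_cancel_right]; exact hb) (fun y hy hy' => by
    have : y ∈ B ⊓ P₁ := ⟨hy, hy'⟩
    rwa [hBP₁, mem_bot] at this)
  let φ' : P →* P := (Subgroup.inclusion hP₁).comp (φ.comp (Subgroup.inclusion (le_of_eq hBP.symm)))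
  have hφ'P : ∀ y : P, (φ' y : G) ∈ P₁ := fun y => (φ _).2
  have hφ'B : ∀ y : P, (y : G) * (φ' y : G)⁻¹ ∈ B := fun y => hφ (Subgroup.inclusion (le_of_eq hBP.symm) y)
  have bot : ∀ y : G, y ∈ B → y ∈ P₁ → y = 1 := fun y hy hy' => by
    have : y ∈ B ⊓ P₁ := ⟨hy, hy'⟩
    rwa [hBP₁, mem_bot] at this
  have hφ1 : ∀ y : P, (y : G) ∈ P₁ → φ' y = y := by
    intro y hy
    have h2 := bot _ (hφ'B y) (P₁.mul_mem hy (P₁.inv_mem (hφ'P y)))
    exact Subtype.ext (mul_inv_eq_one.1 h2).symm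
  have hφ2 : ∀ y : P, (y : G) ∈ B → φ' y = 1 := by
    intro y hy
    have h2 : (φ' y : G) ∈ B := by
      have h3 := B.mul_mem (B.inv_mem (hφ'B y)) hy
      have e : ((y : G) * (φ' y : G)⁻¹)⁻¹ * y = φ' y := by group
      rwa [e] at h3
    exact Subtype.ext (bot _ h2 (hφ'P y))
  let θ : P →* ℂˣ := θ₁ * (θ₁.comp φ')⁻¹ * (θ₁.comp φ')⁻¹
  have hθ0 : θ (x 0) = (θ₁ x₀)⁻¹ := by
    have e0 : (x 0 : G) ∈ P₁ := by
      show w ^ 0 * (x₀ : G) * (w ^ 0)⁻¹ ∈ P₁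
      simpa using hx₀
    show θ₁ (x 0) * (θ₁ (φ' (x 0)))⁻¹ * (θ₁ (φ' (x 0)))⁻¹ = _
    rw [hφ1 _ e0, hθx 0, mul_inv_cancel, one_mul]
  have hθi : ∀ i < q, i ≠ 0 → θ (x i) = θ₁ x₀ := by
    intro i hi hi0
    have e0 : (x i : G) ∈ B := le_TT w P₁ (Finset.mem_erase.2 ⟨hi0, Finset.mem_range.2 hi⟩) ⟨x₀, hx₀, rfl⟩
    show θ₁ (x i) * (θ₁ (φ' (x i)))⁻¹ * (θ₁ (φ' (x i)))⁻¹ = _
    rw [hφ2 _ e0, map_one, hθx i]; simp
  have hθne : ∀ i < q, θ (x i) ≠ 1 := by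
    intro i hi
    by_cases hi0 : i = 0
    · rw [hi0, hθ0]
      exact fun hc => hx₀1 (by rw [← inv_inv (θ₁ x₀), hc, inv_one])
    · rw [hθi i hi hi0]; exact hx₀1
  have hord : ∀ (χ : P →* ℂˣ) (y : P), (y : G) ^ p = 1 → χ y ≠ 1 → orderOf (χ y) = p := by
    intro χ y hy hne
    apply orderOf_eq_prime _ hne
    rw [← map_pow]
    have : y ^ p = 1 := Subtype.ext hy
    rw [this, map_one]
  refine ⟨θ, fun hc => hθne 0 (by omega) (by rw [hc]; rfl), ?_, ?_⟩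
  · intro u hu hst
    have h2 : u ∈ U ⊓ centralizer (P : Set G) := by
      refine ⟨hu, ?_⟩
      have h3 : P ≤ centralizer ({u} : Set G) := by
        apply hPle
        rintro i hi _ ⟨y, hy, rfl⟩
        obtain ⟨k, rfl⟩ := hgen y hy
        obtain ⟨m, hm⟩ := hpw i u hu
        have h4 : θ (x i) ^ m = θ (x i) ^ 1 := by
          rw [pow_one, ← map_pow]
          exact hst (x i) (x i ^ m) (by rw [Subgroup.coe_pow, hm])
        have h5 := pow_eq_pow_iff_modEq.1 h4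
        rw [hord θ (x i) (hxip i) (hθne i hi)] at h5
        have h6 : (x i : G) ^ m = (x i : G) ^ 1 := pow_eq_pow_iff_modEq.2 (h5.of_dvd (orderOf_dvd_of_pow_eq_one (hxip i)))
        rw [pow_one] at h6
        rw [h6] at hm
        have h7 : u * (x i : G) = x i * u := mul_inv_eq_iff_eq_mul.1 hm
        rw [mem_centralizer_singleton_iff]
        show w ^ i * (x₀ : G) ^ k * (w ^ i)⁻¹ * u = u * (w ^ i * (x₀ : G) ^ k * (w ^ i)⁻¹)
        have h8 : w ^ i * (x₀ : G) ^ k * (w ^ i)⁻¹ = (x i : G) ^ k := by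
          show _ = (w ^ i * (x₀ : G) * (w ^ i)⁻¹) ^ k
          rw [conj_pow]
        rw [h8]
        exact ((Commute.pow_right (show Commute u (x i : G) from h7) k).eq).symm
      show u ∈ centralizer (P : Set G)
      rw [mem_centralizer_iff]
      intro y hy
      exact (mem_centralizer_singleton_iff.1 (h3 hy))
    rw [hUC, mem_bot] at h2
    exact h2
  · rintro ⟨θ₂, hθ₂, u, hu, hconj⟩
    obtain ⟨m, hm⟩ := hpw 0 u hu
    obtain ⟨n, hn⟩ := hpw 1 u hu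
    have hx01 : ∀ i, θ₂ (x i) = θ₂ x₀ := fun i => hθ₂ (w ^ i) (W₁.pow_mem hw i) x₀ (x i) rfl
    have e0 : (θ₁ x₀)⁻¹ = θ₂ x₀ ^ m := by
      rw [← hθ0, hconj (x 0) (x 0 ^ m) (by rw [Subgroup.coe_pow, hm]), map_pow, hx01]
    have e1 : θ₁ x₀ = θ₂ x₀ ^ n := by
      rw [← hθi 1 (by omega) one_ne_zero, hconj (x 1) (x 1 ^ n) (by rw [Subgroup.coe_pow, hn]), map_pow, hx01]
    have e2 : θ₂ x₀ ^ (m + n) = 1 := by rw [pow_add, ← e0, ← e1, inv_mul_cancel]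
    have e3 : θ₂ x₀ ≠ 1 := fun hc => hx₀1 (by rw [e1, hc, one_pow])
    have e4 : p ∣ m + n := by
      rw [← hord θ₂ x₀ hxp e3]
      exact orderOf_dvd_of_pow_eq_one e2
    have hord' : ∀ i, orderOf (x i : G) = p := by
      intro i
      apply orderOf_eq_prime (hxip i)
      intro hc
      apply hx₀1
      rw [← hθx i]
      have : x i = 1 := Subtype.ext hc
      rw [this, map_one]
    have hpa : ∀ i k, u * (x i : G) * u⁻¹ = (x i : G) ^ k → k ^ a ≡ 1 [MOD p] := by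
      intro i k hk
      have h2 := conj_iter hk a
      rw [hua u hu] at h2
      have h3 : (x i : G) ^ (k ^ a) = (x i : G) ^ 1 := by rw [← h2]; simp
      have h4 := pow_eq_pow_iff_modEq.1 h3
      rwa [hord' i] at h4
    have f0 := hpa 0 m hm
    have f1 := hpa 1 n hn
    have g0 : ((m : ZMod p)) ^ a = 1 := by
      have := (ZMod.natCast_eq_natCast_iff _ _ _).2 f0
      push_cast at this; exact this
    have g1 : ((n : ZMod p)) ^ a = 1 := by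
      have := (ZMod.natCast_eq_natCast_iff _ _ _).2 f1
      push_cast at this; exact this
    have g2 : (m : ZMod p) + n = 0 := by
      have := (ZMod.natCast_eq_zero_iff (m + n) p).2 e4
      push_cast at this; exact this
    have g3 : (n : ZMod p) = -m := by linear_combination g2
    rw [g3, hao.neg_pow, g0] at g1
    have g4 : (2 : ZMod p) = 0 := by linear_combination -g1
    have g5 : p ∣ 2 := (ZMod.natCast_eq_zero_iff 2 p).1 (by exact_mod_cast g4)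
    exact hp2 ((Nat.prime_dvd_prime_iff_eq h.hp Nat.prime_two).1 g5)

variable {S T W₁ W₂ U V : Subgroup G}

theorem Side.inv_char (hG : IsMinSimpleOddOrder G) (s : Side S W₁ U W₂) (hC : CU S U = ⊥) :
    ∃ θ₁ : ↥(fittingHallOf S) →* ℂˣ, θ₁ ≠ 1 ∧ ∀ w ∈ W₁, ∀ x y : fittingHallOf S, (y : G) = w * x * w⁻¹ → θ₁ y = θ₁ x := by
  classical
  letI := Fintype.ofFinite G
  letI := Fintype.ofFinite S
  obtain ⟨μ, δ, hμ⟩ := exists_MU s.pd.toPT
  obtain ⟨ψ, -, hψ, -, hψ1, -, -⟩ := exists_X2 s.pd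
  obtain ⟨θ, f0, hinv, -⟩ := exists_full s.pd hμ s.fd hψ hψ1
  have hFP := s.FF_eq_P hG hC
  have hPS := Core.fittingHallOf_le S
  let ι' : ↥(fittingHallOf S) →* ↥((FF S).subgroupOf S) :=
    { toFun := fun x => ⟨⟨x, hPS x.2⟩, mem_subgroupOf.2 ((le_of_eq hFP.symm) x.2)⟩
      map_one' := rfl
      map_mul' := fun _ _ => rfl }
  refine ⟨θ.comp ι', ?_, ?_⟩
  · intro hc
    obtain ⟨x, hx, hx1⟩ := f0.1
    exact hx1 (DFunLike.congr_fun hc ⟨((x : S) : G), mem_subgroupOf.1 hx⟩)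
  · intro w hw x y hxy
    have hwS : w ∈ S := s.pd.W₁_le hw
    have h3 := hinv ⟨w, hwS⟩ (mem_subgroupOf.2 hw) (ι' x)
    rw [MonoidHom.comp_apply, MonoidHom.comp_apply, ← h3]
    congr 1
    apply Subtype.ext
    apply Subtype.ext
    exact hxy

/-- Peterfalvi (13.13), (13.15) -/
theorem Pair.alt13 (hG : IsMinSimpleOddOrder G) (P : Pair S T W₁ W₂ U V) (hC : CU S U = ⊥) :
    ((∃ (F : Type) (_ : Field F) (_ : Fintype F) (f ψ : G → F),
        GalData (Nat.card W₂) (Nat.card W₁) (fittingHallOf S) U W₂ F f ψ ∧ Set.InjOn ψ (U : Set G)) ∧ IsCyclic U ∧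
      (∀ u ∈ U, u ≠ 1 → ∀ x ∈ fittingHallOf S, u * x = x * u → x = 1) ∧
      (Nat.card W₂ % Nat.card W₁ ≠ 1 → Nat.card U * (Nat.card W₂ - 1) = Nat.card W₂ ^ Nat.card W₁ - 1) ∧
      (Nat.card W₂ % Nat.card W₁ = 1 → Nat.card U * Nat.card W₁ * (Nat.card W₂ - 1) = Nat.card W₂ ^ Nat.card W₁ - 1)) ∨
    (Nat.card W₁ = 3 ∧ Nat.card U = ((Nat.card W₂ - 1) / 2) ^ 2 ∧ ∀ u ∈ U, u ^ ((Nat.card W₂ - 1) / 2) = 1) := by
  have hUC : U ⊓ centralizer (fittingHallOf S : Set G) = ⊥ := hC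
  rcases (P.sS.cfg hG).alt hUC with ⟨h1, -, h2, h3, h4⟩ | ⟨a, ha, -, hao, hdiv, hexp, -, P₁, hP₁, hc, hUP, -, hTT⟩
  · obtain ⟨h5, h6⟩ := P.gal hG hC h4 h2
    exact Or.inl ⟨h1, h3, h4, h5, h6⟩
  · right
    obtain ⟨θ₁, hθ1, hinv⟩ := P.sS.inv_char hG hC
    have hng : NG (fittingHallOf S) U W₁ := NG_of (P.sS.cfg hG) hUC hao hexp hP₁ hc hUP
      (fun w hw hw1 => ⟨(hTT w hw hw1).2.1, (hTT w hw hw1).2.2⟩) (P.sS.p_ne_two hG) hθ1 hinv
    obtain ⟨h5, h6, h7⟩ := P.nongal hG hC hng ha hao hdiv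
    refine ⟨h5, h7, ?_⟩
    rw [← h6]; exact hexp

end Cfsg.Agent.H12.P13S
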