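import Mathlib
import Cfsg.Agent.H1_PG8c
import Cfsg.Agent.HL_P9i
import Cfsg.Agent.H12_P13S
import Cfsg.Agent.H10_FrF7

/-! Peterfalvi (13.1)-(13.2): the pair `S`, `T` -/

set_option autoImplicit false
set_option linter.all false

open Pointwise
open scoped commutatorElement

namespace Cfsg.Agent.H1.P13

open Cfsg Subgroup Cfsg.Agent.H13.Syl Cfsg.Agent.H12.BG7 Cfsg.Agent.H12.BG10 Cfsg.Agent.H12.BG12 Cfsg.Agent.H12.Ty Cfsg.Agent.H1.PG8
  Cfsg.Agent.HL.P9 Cfsg.Agent.H12.P13S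

section
variable {G : Type*} [Group G] [Finite G] {M W₁ U W₂ : Subgroup G}

theorem hUn (h : N5 M W₁ U W₂) : ∀ e ∈ W₁, ∀ u ∈ U, e * u * e⁻¹ ∈ U := by
  intro e he u hu
  exact (mem_normalizer_iff.1 (h.P.U_normal he) u).1 hu

theorem hfpf (h : N5 M W₁ U W₂) : ∀ e ∈ W₁, e ≠ 1 → ∀ u ∈ U, e * u = u * e → u = 1 := by
  intro e he he1 u hu hc
  have h1 : u ∈ ⁅M, M⁆ ⊓ centralizer ({e} : Set G) :=
    mem_inf.2 ⟨h.P.U_compl.2.1 hu, mem_centralizer_singleton_iff.2 hc.symm⟩
  rw [h.P.W₂_centralizer e he he1] at h1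
  exact h.inf_UH (h.W₂H h1) hu

theorem card_UW (h : N5 M W₁ U W₂) : Nat.card ↥(U ⊔ W₁) = Nat.card U * Nat.card W₁ :=
  H22.Basic.card_sup_of_coprime h.P.U_normal h.cop_WU.symm

theorem copH (h : N5 M W₁ U W₂) : (Nat.card (fittingHallOf M)).Coprime (Nat.card ↥(U ⊔ W₁)) := by
  rw [card_UW h]
  exact Nat.Coprime.mul_right h.cop_UH.symm h.cop_WH.symm

/-- Wielandt's formula for `U W₁` on invariant subgroups of `M_F` -/
theorem wiel (h : N5 M W₁ U W₂) {N : Subgroup G} (hN : N ≤ fittingHallOf M) (hn : U ⊔ W₁ ≤ normalizer (N : Set G)) :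
    Nat.card ↥(N ⊓ centralizer ((U ⊔ W₁ : Subgroup G) : Set G)) ^ Nat.card W₁ * Nat.card N =
      Nat.card ↥(N ⊓ centralizer (W₁ : Set G)) ^ Nat.card W₁ * Nat.card ↥(N ⊓ centralizer (U : Set G)) := by
  refine H10.FrF7.main U W₁ N h.U_ne h.P.W₁_ne (hUn h) (hfpf h) ?_ ?_ ?_
  · intro x hx n hnn
    exact (mem_normalizer_iff.1 (hn hx) n).1 hnn
  · haveI := h.sol
    have : N ≤ M := hN.trans h.HM
    exact H12.BG1.isSolvable_of_le this h.sol
  · exact Nat.Coprime.coprime_dvd_left (card_dvd_of_le hN) (copH h)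

theorem cUW_le (N : Subgroup G) : N ⊓ centralizer ((U ⊔ W₁ : Subgroup G) : Set G) ≤ N ⊓ centralizer (U : Set G) :=
  inf_le_inf_left _ (centralizer_le (le_sup_left : U ≤ U ⊔ W₁))

/-- `M_F` is irreducible under `U W₁` -/
theorem irr (h : N5 M W₁ U W₂) (hCU : fittingHallOf M ⊓ centralizer (U : Set G) = ⊥) (hp : (Nat.card W₂).Prime) {N : Subgroup G}
    (hN : N ≤ fittingHallOf M) (hn : U ⊔ W₁ ≤ normalizer (N : Set G)) (hne : N ≠ ⊥) : N = fittingHallOf M := by
  have hH : U ⊔ W₁ ≤ normalizer (fittingHallOf M : Set G) := (sup_le h.UM h.WM).trans h.MH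
  have key : ∀ X : Subgroup G, X ≤ fittingHallOf M → U ⊔ W₁ ≤ normalizer (X : Set G) →
      Nat.card X = Nat.card ↥(X ⊓ centralizer (W₁ : Set G)) ^ Nat.card W₁ := by
    intro X hX hXn
    have h1 : X ⊓ centralizer (U : Set G) = ⊥ := by
      rw [eq_bot_iff, ← hCU]
      exact inf_le_inf_right _ hX
    have h2 : X ⊓ centralizer ((U ⊔ W₁ : Subgroup G) : Set G) = ⊥ := by
      rw [eq_bot_iff, ← h1]; exact cUW_le X
    have h3 := wiel h hX hXn
    rw [h1, h2, Subgroup.card_bot, one_pow, one_mul, mul_one] at h3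
    exact h3
  have h1 := key N hN hn
  have h2 := key _ le_rfl hH
  rw [h.cent_W] at h2
  have h3 : Nat.card ↥(N ⊓ centralizer (W₁ : Set G)) ∣ Nat.card W₂ := by
    apply card_dvd_of_le
    rw [← h.cent_W]
    exact inf_le_inf_right _ hN
  rcases (Nat.dvd_prime hp).1 h3 with h4 | h4
  · rw [h4, one_pow] at h1
    exact absurd (Subgroup.card_eq_one.1 h1) hne
  · rw [h4, ← h2] at h1
    exact Subgroup.eq_of_le_of_card_ge hN h1.ge

theorem W₂_ne (hp : (Nat.card W₂).Prime) : W₂ ≠ ⊥ := by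
  intro h
  rw [h, Subgroup.card_bot] at hp
  exact Nat.not_prime_one hp

/-- `M_F` is elementary abelian -/
theorem ea_of (h : N5 M W₁ U W₂) (hCU : fittingHallOf M ⊓ centralizer (U : Set G) = ⊥) (hp : (Nat.card W₂).Prime) :
    IsElementaryAbelian (Nat.card W₂) (fittingHallOf M) := by
  have hH : U ⊔ W₁ ≤ normalizer (fittingHallOf M : Set G) := (sup_le h.UM h.WM).trans h.MH
  have hHb : fittingHallOf M ≠ ⊥ := fun hb => W₂_ne hp (le_bot_iff.1 (hb ▸ h.W₂H))
  have hHs : Group.IsSolvable (fittingHallOf M) := H12.BG1.isSolvable_of_le h.HM h.sol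
  have hlt : ⁅fittingHallOf M, fittingHallOf M⁆ < fittingHallOf M := by
    haveI : Nontrivial (fittingHallOf M) := (Subgroup.nontrivial_iff_ne_bot _).2 hHb
    have h1 := Group.IsSolvable.commutator_lt_top_of_nontrivial (fittingHallOf M)
    have h2 : (commutator (fittingHallOf M)).map (fittingHallOf M).subtype < (⊤ : Subgroup (fittingHallOf M)).map (fittingHallOf M).subtype :=
      (Subgroup.map_subtype_lt_map_subtype).2 h1
    rw [_root_.commutator_def, Subgroup.map_commutator, ← MonoidHom.range_eq_map, Subgroup.range_subtype] at h2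
    exact h2
  have hD : ⁅fittingHallOf M, fittingHallOf M⁆ = ⊥ := by
    by_contra hne
    exact hlt.ne (irr h hCU hp hlt.le (H22.Basic.le_normalizer_commutator hH hH) hne)
  have hcomm : ∀ a ∈ fittingHallOf M, ∀ b ∈ fittingHallOf M, a * b = b * a := by
    intro a ha b hb
    have := (Subgroup.commutator_eq_bot_iff_le_centralizer.1 hD) ha
    exact (mem_centralizer_iff.1 this b hb).symm
  let Ω : Subgroup G :=
    { carrier := {x | x ∈ fittingHallOf M ∧ x ^ Nat.card W₂ = 1}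
      mul_mem' := by
        rintro a b ⟨ha, ha'⟩ ⟨hb, hb'⟩
        refine ⟨mul_mem ha hb, ?_⟩
        rw [(show Commute a b from hcomm a ha b hb).mul_pow, ha', hb', one_mul]
      one_mem' := ⟨one_mem _, one_pow _⟩
      inv_mem' := by
        rintro a ⟨ha, ha'⟩
        exact ⟨inv_mem ha, by rw [inv_pow, ha', inv_one]⟩ }
  have hΩle : Ω ≤ fittingHallOf M := fun x hx => hx.1
  have hΩ : Ω = fittingHallOf M := by
    apply irr h hCU hp hΩle
    · intro g hg
      rw [mem_normalizer_iff_cj]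
      apply Subgroup.eq_of_le_of_card_ge _ (by rw [card_cj])
      rw [cj_le_iff_forall]
      rintro a ⟨ha, ha'⟩
      exact ⟨(mem_normalizer_iff.1 (hH hg) a).1 ha, by rw [conj_pow, ha', mul_one, mul_inv_cancel]⟩
    · intro hb
      apply W₂_ne hp
      rw [eq_bot_iff, ← hb]
      intro x hx
      refine ⟨h.W₂H hx, ?_⟩
      have : (⟨x, hx⟩ : W₂) ^ Nat.card W₂ = 1 := pow_card_eq_one'
      exact congrArg Subtype.val this
  refine ⟨⟨⟨fun a b => Subtype.ext (hcomm a a.2 b b.2)⟩⟩, fun a ha => ?_⟩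
  rw [← hΩ] at ha
  exact ha.2

theorem FF_le (h : N5 M W₁ U W₂) : FF M ≤ ⁅M, M⁆ := inf_le_left

theorem FF_eq (h : N5 M W₁ U W₂) (hea : IsMulCommutative (fittingHallOf M)) :
    FF M = fittingHallOf M ⊔ (U ⊓ centralizer (fittingHallOf M : Set G)) := by
  have hself : fittingHallOf M ≤ centralizer (fittingHallOf M : Set G) := by
    intro a ha
    rw [mem_centralizer_iff]
    intro b hb
    exact congrArg Subtype.val (hea.is_comm.comm (⟨b, hb⟩ : fittingHallOf M) ⟨a, ha⟩)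
  apply le_antisymm
  · rintro x ⟨hx1, hx2⟩
    obtain ⟨a, ha, u, hu, rfl⟩ := h.P.U_compl.2.2.2 x hx1
    refine Subgroup.mul_mem_sup ha (mem_inf.2 ⟨hu, ?_⟩)
    have h1 : a⁻¹ * (a * u) ∈ centralizer (fittingHallOf M : Set G) := mul_mem (inv_mem (hself ha)) hx2
    rwa [inv_mul_cancel_left] at h1
  · refine sup_le (le_inf h.P.U_compl.1 hself) (le_inf (inf_le_left.trans h.P.U_compl.2.1) inf_le_right)

theorem FF_norm : M ≤ normalizer (FF M : Set G) := by
  have h1 : M ≤ normalizer ((⁅M, M⁆ : Subgroup G) : Set G) := H22.Basic.right_le_normalizer_commutator M M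
  have h2 : M ≤ normalizer ((centralizer (fittingHallOf M : Set G) : Subgroup G) : Set G) :=
    H22.Basic.le_normalizer_centralizer (H12.Core.le_normalizer_fittingHallOf M)
  exact H22.Basic.le_normalizer_inf h1 h2

theorem FF_le_fitting (h : N5 M W₁ U W₂) (hea : IsMulCommutative (fittingHallOf M)) : FF M ≤ fittingOf M := by
  rw [FF_eq h hea, H12.TypeP.fitting_eq h.P]

theorem FF_comm (h : N5 M W₁ U W₂) (hea : IsMulCommutative (fittingHallOf M)) (hU : IsMulCommutative U) :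
    ∀ a ∈ FF M, ∀ b ∈ FF M, a * b = b * a := by
  have aux : ∀ x ∈ FF M, ∃ f ∈ fittingHallOf M, ∃ u ∈ U, u ∈ centralizer (fittingHallOf M : Set G) ∧ x = f * u := by
    rintro x hx
    have hx' := hx
    obtain ⟨hx1, hx2⟩ := hx
    obtain ⟨a, ha, u, hu, rfl⟩ := h.P.U_compl.2.2.2 x hx1
    refine ⟨a, ha, u, hu, ?_, rfl⟩
    have hself : a ∈ centralizer (fittingHallOf M : Set G) := by
      rw [mem_centralizer_iff]
      intro b hb
      exact congrArg Subtype.val (hea.is_comm.comm (⟨b, hb⟩ : fittingHallOf M) ⟨a, ha⟩)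
    have h1 : a⁻¹ * (a * u) ∈ centralizer (fittingHallOf M : Set G) := mul_mem (inv_mem hself) hx2
    rwa [inv_mul_cancel_left] at h1
  intro a ha b hb
  obtain ⟨f, hf, u, hu, huc, rfl⟩ := aux a ha
  obtain ⟨f', hf', u', hu', huc', rfl⟩ := aux b hb
  have e1 : f * f' = f' * f := congrArg Subtype.val (hea.is_comm.comm (⟨f, hf⟩ : fittingHallOf M) ⟨f', hf'⟩)
  have e2 : u * u' = u' * u := congrArg Subtype.val (hU.is_comm.comm (⟨u, hu⟩ : U) ⟨u', hu'⟩)
  have e3 : f' * u = u * f' := mem_centralizer_iff.1 huc f' hf'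
  have e4 : f * u' = u' * f := mem_centralizer_iff.1 huc' f hf
  calc f * u * (f' * u') = f * (u * f') * u' := by group
    _ = f * (f' * u) * u' := by rw [e3]
    _ = (f * f') * (u * u') := by group
    _ = (f' * f) * (u' * u) := by rw [e1, e2]
    _ = f' * (f * u') * u := by group
    _ = f' * (u' * f) * u := by rw [e4]
    _ = _ := by group

end

end Cfsg.Agent.H1.P13
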