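import Mathlib
import Cfsg.Agent.H1_P13A
import Cfsg.Agent.HL_P9h

/-! Peterfalvi (13.1)-(13.2): the pair `S`, `T` (continued) -/

set_option autoImplicit false
set_option linter.all false

open Pointwise
open scoped commutatorElement

namespace Cfsg.Agent.H1.P13

open Cfsg Subgroup Cfsg.Agent.H13.Syl Cfsg.Agent.H12.BG7 Cfsg.Agent.H12.BG10 Cfsg.Agent.H12.BG12 Cfsg.Agent.H12.Ty Cfsg.Agent.H1.PG8
  Cfsg.Agent.HL.P9 Cfsg.Agent.H12.P13S Cfsg.Agent.H12.P13

universe u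

/-- the conclusions of §§10, 11 used in §13 -/
structure C11 (G : Type u) [Group G] : Prop where
  h5 : ∀ M : Subgroup G, IsCoatom M → ¬ IsOfTypeV M
  h34 : ∀ M W₁ U W₂ : Subgroup G, IsCoatom M → (IsOfTypeIII M ∨ IsOfTypeIV M) → IsTypePWith M W₁ U W₂ →
    IsCyclic U ∧ (Nat.card W₁).Prime ∧ (Nat.card W₂).Prime ∧ Nat.card W₂ < Nat.card W₁ ∧
      IsMulCommutative (fittingHallOf M) ∧ (∀ x ∈ fittingHallOf M, x ^ Nat.card W₂ = 1) ∧
      Nat.card (fittingHallOf M) = Nat.card W₂ ^ Nat.card W₁ ∧ U ⊓ centralizer (fittingHallOf M : Set G) = ⊥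

section
variable {G : Type u} [Group G] [Finite G] {M W₁ U W₂ : Subgroup G}

theorem card_of (h : N5 M W₁ U W₂) (hCU : fittingHallOf M ⊓ centralizer (U : Set G) = ⊥) :
    Nat.card (fittingHallOf M) = Nat.card W₂ ^ Nat.card W₁ := by
  have hH : U ⊔ W₁ ≤ normalizer (fittingHallOf M : Set G) := (sup_le h.UM h.WM).trans h.MH
  have h2 : fittingHallOf M ⊓ centralizer ((U ⊔ W₁ : Subgroup G) : Set G) = ⊥ := by
    rw [eq_bot_iff, ← hCU]; exact cUW_le _
  have h3 := wiel h le_rfl hH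
  rw [hCU, h2, Subgroup.card_bot, one_pow, one_mul, mul_one, h.cent_W] at h3
  exact h3

/-- `C_{M_F}(U) = 1` for type III -/
theorem CU_III (h : N5 M W₁ U W₂) (hp : (Nat.card W₂).Prime) (hc : Nat.card (fittingHallOf M) = Nat.card W₂ ^ Nat.card W₁)
    (hU : U ⊓ centralizer (fittingHallOf M : Set G) = ⊥) : fittingHallOf M ⊓ centralizer (U : Set G) = ⊥ := by
  have hH : U ⊔ W₁ ≤ normalizer (fittingHallOf M : Set G) := (sup_le h.UM h.WM).trans h.MH
  have h3 := wiel h le_rfl hH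
  rw [h.cent_W, hc, mul_comm] at h3
  have h4 := Nat.eq_of_mul_eq_mul_left (pow_pos hp.pos _) h3
  have h5 : Nat.card ↥(fittingHallOf M ⊓ centralizer ((U ⊔ W₁ : Subgroup G) : Set G)) ∣ Nat.card W₂ := by
    rw [← h.cent_W]
    exact card_dvd_of_le (inf_le_inf_left _ (centralizer_le (le_sup_right : W₁ ≤ U ⊔ W₁)))
  rcases (Nat.dvd_prime hp).1 h5 with h6 | h6
  · rw [h6, one_pow] at h4
    exact Subgroup.card_eq_one.1 h4.symm
  · exfalso
    rw [h6, ← hc] at h4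
    have h7 : fittingHallOf M ⊓ centralizer (U : Set G) = fittingHallOf M :=
      Subgroup.eq_of_le_of_card_ge inf_le_left h4.le
    apply h.U_ne
    rw [← hU, eq_comm, inf_eq_left, le_centralizer_iff]
    rw [← h7]
    exact inf_le_right

/-- the stabilizer in `U` of a `W₁`-invariant character of `FF M`, nontrivial on `M_F` -/
theorem stab_aux (h : N5 M W₁ U W₂) (hCU : fittingHallOf M ⊓ centralizer (U : Set G) = ⊥) (hp : (Nat.card W₂).Prime)
    (hea : IsMulCommutative (fittingHallOf M)) (hU : IsMulCommutative U) (f : G → ℂˣ)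
    (hmul : ∀ a ∈ FF M, ∀ b ∈ FF M, f (a * b) = f a * f b) (hnt : ∃ a ∈ fittingHallOf M, f a ≠ 1)
    (hW : ∀ w ∈ W₁, ∀ x ∈ FF M, f (w * x * w⁻¹) = f x) {u : G} (hu : u ∈ U) (hfu : ∀ x ∈ FF M, f (u * x * u⁻¹) = f x) :
    u ∈ centralizer (fittingHallOf M : Set G) := by
  have hFFn : ∀ g ∈ M, ∀ x ∈ FF M, g * x * g⁻¹ ∈ FF M := fun g hg x hx => (mem_normalizer_iff.1 (FF_norm hg) x).1 hx
  have hHF : fittingHallOf M ≤ FF M := by
    rw [FF_eq h hea]; exact le_sup_left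
  have hf1 : f 1 = 1 := by
    have := hmul 1 (one_mem _) 1 (one_mem _)
    rw [one_mul] at this
    exact (mul_eq_left.1 this.symm)
  have hfinv : ∀ a ∈ FF M, f a⁻¹ = (f a)⁻¹ := by
    intro a ha
    have := hmul a ha a⁻¹ (inv_mem ha)
    rw [mul_inv_cancel, hf1] at this
    exact (inv_eq_of_mul_eq_one_right this.symm).symm
  let V : Subgroup G :=
    { carrier := {v | v ∈ U ∧ ∀ x ∈ FF M, f (v * x * v⁻¹) = f x}
      mul_mem' := by
        rintro a b ⟨ha, ha'⟩ ⟨hb, hb'⟩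
        refine ⟨mul_mem ha hb, fun x hx => ?_⟩
        have e : a * b * x * (a * b)⁻¹ = a * (b * x * b⁻¹) * a⁻¹ := by group
        rw [e, ha' _ (hFFn b (h.UM hb) x hx), hb' x hx]
      one_mem' := ⟨one_mem _, fun x hx => by rw [one_mul, inv_one, mul_one]⟩
      inv_mem' := by
        rintro a ⟨ha, ha'⟩
        refine ⟨inv_mem ha, fun x hx => ?_⟩
        have h1 := ha' (a⁻¹ * x * a⁻¹⁻¹) (hFFn a⁻¹ (inv_mem (h.UM ha)) x hx)
        rw [← h1]
        congr 1
        group }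
  have hVU : V ≤ U := fun v hv => hv.1
  have hVn : U ⊔ W₁ ≤ normalizer (V : Set G) := by
    apply sup_le
    · intro a ha
      rw [mem_normalizer_iff_cj]
      apply Subgroup.eq_of_le_of_card_ge _ (by rw [card_cj])
      rw [cj_le_iff_forall]
      intro v hv
      have e1 : a * v = v * a := congrArg Subtype.val (hU.is_comm.comm (⟨a, ha⟩ : U) ⟨v, hVU hv⟩)
      rwa [e1, mul_inv_cancel_right]
    · intro w hw
      rw [mem_normalizer_iff_cj]
      apply Subgroup.eq_of_le_of_card_ge _ (by rw [card_cj])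
      rw [cj_le_iff_forall]
      rintro v ⟨hv, hv'⟩
      refine ⟨hUn h w hw v hv, fun x hx => ?_⟩
      have hx' : w⁻¹ * x * w⁻¹⁻¹ ∈ FF M := hFFn w⁻¹ (inv_mem (h.WM hw)) x hx
      have e : w * v * w⁻¹ * x * (w * v * w⁻¹)⁻¹ = w * (v * (w⁻¹ * x * w⁻¹⁻¹) * v⁻¹) * w⁻¹ := by group
      rw [e, hW w hw _ (hFFn v (h.UM hv) _ hx'), hv' _ hx']
      have := hW w⁻¹ (inv_mem hw) x hx
      exact this
  have hH : U ⊔ W₁ ≤ normalizer (fittingHallOf M : Set G) := (sup_le h.UM h.WM).trans h.MH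
  let Ker : Subgroup G :=
    { carrier := {v | v ∈ fittingHallOf M ∧ f v = 1}
      mul_mem' := by
        rintro a b ⟨ha, ha'⟩ ⟨hb, hb'⟩
        exact ⟨mul_mem ha hb, by rw [hmul a (hHF ha) b (hHF hb), ha', hb', one_mul]⟩
      one_mem' := ⟨one_mem _, hf1⟩
      inv_mem' := by
        rintro a ⟨ha, ha'⟩
        exact ⟨inv_mem ha, by rw [hfinv a (hHF ha), ha', inv_one]⟩ }
  have hNK : ⁅fittingHallOf M, V⁆ ≤ Ker := by
    rw [Subgroup.commutator_le]
    intro x hx v hv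
    have hvM : v ∈ M := h.UM (hVU hv)
    have h1 : v * x⁻¹ * v⁻¹ ∈ fittingHallOf M := (mem_normalizer_iff.1 (h.MH hvM) x⁻¹).1 (inv_mem hx)
    have e : ⁅x, v⁆ = x * (v * x⁻¹ * v⁻¹) := by rw [commutatorElement_def]; group
    rw [e]
    refine ⟨mul_mem hx h1, ?_⟩
    rw [hmul x (hHF hx) _ (hHF h1), hv.2 x⁻¹ (inv_mem (hHF hx)), hfinv x (hHF hx), mul_inv_cancel]
  have hKH : Ker ≤ fittingHallOf M := fun v hv => hv.1
  by_cases hN : ⁅fittingHallOf M, V⁆ = ⊥
  · have h1 := Subgroup.commutator_eq_bot_iff_le_centralizer.1 hN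
    rw [le_centralizer_iff] at h1
    exact h1 ⟨hu, hfu⟩
  · exfalso
    have h1 := irr h hCU hp (hNK.trans hKH) (H22.Basic.le_normalizer_commutator hH hVn) hN
    obtain ⟨a, ha, ha'⟩ := hnt
    rw [← h1] at ha
    exact ha' (hNK ha).2

/-- all the data of one side -/
theorem side (hG : IsMinSimpleOddOrder G) (hM : IsCoatom M) (hty : IsOfTypeII M ∨ IsOfTypeIII M) (h : N5 M W₁ U W₂)
    (hTI : IsTISubset (fittingOf M : Set G)) (hU : IsMulCommutative U) (hp : (Nat.card W₂).Prime)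
    (hCU : fittingHallOf M ⊓ centralizer (U : Set G) = ⊥) (hlt : Nat.card W₁ < Nat.card W₂ → IsOfTypeII M) : Side M W₁ U W₂ := by
  have hea := ea_of h hCU hp
  have hcomm : IsMulCommutative (fittingHallOf M) := hea.1
  have hHF : fittingHallOf M ≤ FF M := by
    rw [FF_eq h hcomm]; exact le_sup_left
  have hFM : FF M ≤ M := inf_le_left.trans h.M'M
  have hFFn : ∀ g ∈ M, ∀ x ∈ FF M, g * x * g⁻¹ ∈ FF M := fun g hg x hx => (mem_normalizer_iff.1 (FF_norm hg) x).1 hx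
  have hFit : FF M ≤ fittingOf M := FF_le_fitting h hcomm
  have hHb : fittingHallOf M ≠ ⊥ := fun hb => W₂_ne hp (le_bot_iff.1 (hb ▸ h.W₂H))
  have h3 : Subgroup.normalizer (fittingOf M : Set G) = M := by
    refine normalizer_eq_of_normalized hG hM fitting_normalized (Subgroup.map_subtype_le _) ?_
    intro hb
    apply hHb
    rw [eq_bot_iff, ← hb]
    exact hHF.trans hFit
  refine ⟨hM, h.P, hty, h.prime, hp, hlt, hea, card_of h hCU, FF_eq h hcomm, ?_, ?_, ?_⟩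
  · intro x hx hx1 g hg
    rw [← h3]
    by_contra hcon
    exact hx1 (hTI g hcon x (hFit hx) (hFit hg))
  · have := pd_fh hG hM h.P
    rwa [comm_subgroupOf'] at this
  · have hn : ((FF M).subgroupOf M).Normal := by
      refine ⟨fun x hx g => ?_⟩
      rw [mem_subgroupOf] at hx ⊢
      exact hFFn g g.2 x hx
    refine ⟨hn, ?_, ?_, ?_, ?_, h.prime, ?_⟩
    · intro a ha b hb
      exact Subtype.ext (FF_comm h hcomm hU a ha b hb)
    · intro x hx
      exact hHF hx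
    · intro x hx
      rw [← comm_subgroupOf']
      exact hx.1
    · intro a ha ha1
      exact (R_bot_of_ti hG hM hTI (hFit ha) (fun h0 => ha1 (Subtype.ext h0))).2
    · intro θ hθ hW k hk hks
      classical
      -- extension of `θ`
      let f : G → ℂˣ := fun x => if hx : x ∈ FF M then θ ⟨⟨x, hFM hx⟩, hx⟩ else 1
      have hfF : ∀ x (hx : x ∈ FF M), f x = θ ⟨⟨x, hFM hx⟩, hx⟩ := fun x hx => dif_pos hx
      have hmul : ∀ a ∈ FF M, ∀ b ∈ FF M, f (a * b) = f a * f b := by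
        intro a ha b hb
        rw [hfF a ha, hfF b hb, hfF _ (mul_mem ha hb), ← map_mul]
        rfl
      have hconj : ∀ g (hg : g ∈ M), (∀ x : ↥((FF M).subgroupOf M), θ ⟨⟨g, hg⟩ * x * ⟨g, hg⟩⁻¹, hn.conj_mem x x.2 ⟨g, hg⟩⟩ = θ x) ↔
          ∀ x ∈ FF M, f (g * x * g⁻¹) = f x := by
        intro g hg
        constructor
        · intro hx x hx'
          rw [hfF x hx', hfF _ (hFFn g hg x hx')]
          exact hx ⟨⟨x, hFM hx'⟩, hx'⟩
        · intro hx x
          have hx2 : x.1.1 ∈ FF M := x.2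
          have h1 := hx x.1.1 hx2
          rw [hfF _ (hFFn g hg _ hx2), hfF _ hx2] at h1
          exact h1
      have hnt : ∃ a ∈ fittingHallOf M, f a ≠ 1 := by
        obtain ⟨a, ha, ha'⟩ := hθ
        refine ⟨(a : M), ha, ?_⟩
        have ha2 : a.1.1 ∈ FF M := a.2
        rw [hfF _ ha2]
        exact ha'
      have hW' : ∀ w ∈ W₁, ∀ x ∈ FF M, f (w * x * w⁻¹) = f x := by
        intro w hw
        exact (hconj w (h.WM hw)).1 (hW ⟨w, h.WM hw⟩ hw)
      have hks' := (hconj k.1 k.2).1 hks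
      rw [← comm_subgroupOf', mem_subgroupOf] at hk
      obtain ⟨a, ha, u, hu, hau⟩ := h.P.U_compl.2.2.2 k.1 hk
      have haF : a ∈ FF M := hHF ha
      have hcFF := FF_comm h hcomm hU
      have hu' : ∀ x ∈ FF M, f (u * x * u⁻¹) = f x := by
        intro x hx
        have h1 := hks' x hx
        rw [hau] at h1
        have h2 : u * x * u⁻¹ ∈ FF M := hFFn u (h.UM hu) x hx
        have e : a * u * x * (a * u)⁻¹ = a * (u * x * u⁻¹) * a⁻¹ := by group
        rw [e, hcFF a haF _ h2, mul_inv_cancel_right] at h1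
        exact h1
      have hcu := stab_aux h hCU hp hcomm hU f hmul hnt hW' hu hu'
      rw [mem_subgroupOf, hau]
      exact mul_mem haF (mem_inf.2 ⟨h.P.U_compl.2.1 hu, hcu⟩)

/-- from the hypotheses of the frozen statements of §13 -/
theorem side_of (hG : IsMinSimpleOddOrder G) (hC : C11 G) (hM : IsCoatom M) (hP : IsTypePWith M W₁ U W₂)
    (hM25 : IsOfTypeII M ∨ IsOfTypeIII M ∨ IsOfTypeIV M ∨ IsOfTypeV M) :
    (IsOfTypeII M ∨ IsOfTypeIII M) ∧ (Nat.card W₁).Prime ∧ ((Nat.card W₂).Prime → Side M W₁ U W₂) := by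
  have hty : IsOfTypeII M ∨ IsOfTypeIII M := by
    rcases hM25 with h | h | h | h
    · exact Or.inl h
    · exact Or.inr h
    · exfalso
      have h1 := dataIV (sol_of hG hM) (odd_of hG M) h hP
      have h2 := hC.h34 M W₁ U W₂ hM (Or.inr h) hP
      haveI := h2.1
      exact h1.2.2.2.1 inferInstance
    · exact absurd h (hC.h5 M hM)
  rcases hty with h | h
  · obtain ⟨d1, d2, d3, d4, d5, d6, d7⟩ := dataII (sol_of hG hM) (odd_of hG M) h hP
    have hN : N5 M W₁ U W₂ := ⟨hP, d1, d2, sol_of hG hM, odd_of hG M⟩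
    refine ⟨Or.inl h, d2, fun hp => ?_⟩
    exact side hG hM (Or.inl h) hN d3 d4 hp (typeII_CU hG hM h hP) (fun _ => h)
  · obtain ⟨d1, d2, d3, d4, d5⟩ := dataIII (sol_of hG hM) (odd_of hG M) h hP
    have hN : N5 M W₁ U W₂ := ⟨hP, d1, d2, sol_of hG hM, odd_of hG M⟩
    refine ⟨Or.inr h, d2, fun hp => ?_⟩
    obtain ⟨e1, e2, e3, e4, e5, e6, e7, e8⟩ := hC.h34 M W₁ U W₂ hM (Or.inl h) hP
    exact side hG hM (Or.inr h) hN d3 d4 hp (CU_III hN hp e7 e8) (fun h0 => absurd h0 (by omega))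

theorem n5_of (hG : IsMinSimpleOddOrder G) (h : Side M W₁ U W₂) : N5 M W₁ U W₂ := by
  rcases h.ty with h0 | h0
  · obtain ⟨d1, d2, d3, d4, d5, d6, d7⟩ := dataII (sol_of hG h.max) (odd_of hG M) h0 h.data
    exact ⟨h.data, d1, d2, sol_of hG h.max, odd_of hG M⟩
  · obtain ⟨d1, d2, d3, d4, d5⟩ := dataIII (sol_of hG h.max) (odd_of hG M) h0 h.data
    exact ⟨h.data, d1, d2, sol_of hG h.max, odd_of hG M⟩

theorem ti_of (hG : IsMinSimpleOddOrder G) (h : Side M W₁ U W₂) : IsTISubset (fittingOf M : Set G) := by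
  rcases h.ty with h0 | h0
  · exact (dataII (sol_of hG h.max) (odd_of hG M) h0 h.data).2.2.1
  · exact (dataIII (sol_of hG h.max) (odd_of hG M) h0 h.data).2.2.1

theorem Ucomm_of (hG : IsMinSimpleOddOrder G) (h : Side M W₁ U W₂) : IsMulCommutative U := by
  rcases h.ty with h0 | h0
  · exact (dataII (sol_of hG h.max) (odd_of hG M) h0 h.data).2.2.2.1
  · exact (dataIII (sol_of hG h.max) (odd_of hG M) h0 h.data).2.2.2.1

/-- centralizers of elements of `FF^#` -/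
theorem cent_FF (hG : IsMinSimpleOddOrder G) (h : Side M W₁ U W₂) {x : G} (hx : x ∈ FF M) (hx1 : x ≠ 1) :
    centralizer ({x} : Set G) ≤ M :=
  (R_bot_of_ti hG h.max (ti_of hG h) (FF_le_fitting (n5_of hG h) h.ea.1 hx) hx1).1

/-- **(13.1), (13.2)**: the pair -/
theorem pair (hG : IsMinSimpleOddOrder G) (hC : C11 G) {S T W₁ W₂ U V : Subgroup G} (hS : IsCoatom S) (hT : IsCoatom T)
    (hSP : IsTypePWith S W₁ U W₂) (hTP : IsTypePWith T W₂ V W₁) (hST : S ⊓ T = W₁ ⊔ W₂)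
    (hS25 : IsOfTypeII S ∨ IsOfTypeIII S ∨ IsOfTypeIV S ∨ IsOfTypeV S)
    (hT25 : IsOfTypeII T ∨ IsOfTypeIII T ∨ IsOfTypeIV T ∨ IsOfTypeV T) : Pair S T W₁ W₂ U V := by
  obtain ⟨s1, s2, s3⟩ := side_of hG hC hS hSP hS25
  obtain ⟨t1, t2, t3⟩ := side_of hG hC hT hTP hT25
  have sS := s3 t2
  have sT := t3 s2
  have hNS := n5_of hG sS
  have hNT := n5_of hG sT
  have hne : Nat.card W₁ ≠ Nat.card W₂ := by
    intro he
    have h1 : Nat.card W₂ ∣ Nat.card ↥⁅S, S⁆ := card_dvd_of_le (hNS.W₂H.trans hSP.U_compl.1)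
    have h2 := Nat.Coprime.coprime_dvd_right h1 hNS.cop_W
    rw [he, Nat.coprime_self] at h2
    exact t2.one_lt.ne' h2
  refine ⟨sS, sT, hST, hne, ?_⟩
  intro x hx hx1 g hg
  have hg1 : g * x * g⁻¹ ≠ 1 := by
    intro h0
    apply hx1
    have h1 : g * x = g := mul_inv_eq_one.1 h0
    exact mul_eq_left.1 h1
  have hcT := cent_FF hG sT hg hg1
  have hHF : fittingHallOf S ≤ FF S := by
    rw [FF_eq hNS sS.ea.1]; exact le_sup_left
  have h1 : cj g (fittingHallOf S) ≤ T := by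
    refine le_trans ?_ hcT
    rw [cj_le_iff_forall]
    intro a ha
    rw [mem_centralizer_singleton_iff]
    have h2 := FF_comm hNS sS.ea.1 (Ucomm_of hG sS) a (hHF ha) x hx
    calc g * a * g⁻¹ * (g * x * g⁻¹) = g * (a * x) * g⁻¹ := by group
      _ = g * (x * a) * g⁻¹ := by rw [h2]
      _ = _ := by group
  have h2 : Nat.card W₂ ^ Nat.card W₁ ∣ Nat.card ↥⁅T, T⁆ * Nat.card W₂ := by
    have h3 := card_dvd_of_le h1
    rw [card_cj, sS.card, hNT.card_M] at h3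
    exact h3
  have hq2 : 2 ≤ Nat.card W₁ := s2.two_le
  have h3 : Nat.card W₂ * Nat.card W₂ ∣ Nat.card ↥⁅T, T⁆ * Nat.card W₂ := by
    refine dvd_trans ?_ h2
    rw [← sq]
    exact pow_dvd_pow _ hq2
  have h4 : Nat.card W₂ ∣ Nat.card ↥⁅T, T⁆ := Nat.dvd_of_mul_dvd_mul_right t2.pos h3
  have h5 := Nat.Coprime.eq_one_of_dvd hNT.cop_W h4
  exact t2.one_lt.ne' h5

end

end Cfsg.Agent.H1.P13
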