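import Mathlib
import Cfsg.Agent.H1_P13B
import Cfsg.Agent.H1_PF12l

/-! Peterfalvi (13.16) and the local part of (13.17) -/

set_option autoImplicit false
set_option linter.all false

open Pointwise
open scoped commutatorElement

namespace Cfsg.Agent.H1.P13

open Cfsg Subgroup Cfsg.Agent.H13.Syl Cfsg.Agent.H12.BG7 Cfsg.Agent.H12.BG10 Cfsg.Agent.H12.BG12 Cfsg.Agent.H12.Ty Cfsg.Agent.H1.PG8
  Cfsg.Agent.HL.P9 Cfsg.Agent.H12.P13S Cfsg.Agent.H12.P13 Cfsg.Agent.H1.PF12 Cfsg.Agent.H2.BG14 Cfsg.Agent.H2.Con13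

universe u

theorem C11.con {G : Type u} [Group G] (hC : C11 G) : Con1011 G :=
  ⟨hC.h5, fun M W₁ U W₂ hM h34 hP => (hC.h34 M W₁ U W₂ hM h34 hP).1⟩

section
variable {G : Type u} [Group G] [Finite G] {M W₁ U W₂ : Subgroup G}

theorem hHF (hG : IsMinSimpleOddOrder G) (h : Side M W₁ U W₂) : fittingHallOf M ≤ FF M := by
  rw [FF_eq (n5_of hG h) h.ea.1]; exact le_sup_left

theorem W₂FF (hG : IsMinSimpleOddOrder G) (h : Side M W₁ U W₂) : W₂ ≤ FF M := (n5_of hG h).W₂H.trans (hHF hG h)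

theorem hcomm_fh (h : Side M W₁ U W₂) {a b : G} (ha : a ∈ fittingHallOf M) (hb : b ∈ fittingHallOf M) : a * b = b * a :=
  congrArg Subtype.val (h.ea.1.is_comm.comm (⟨a, ha⟩ : fittingHallOf M) ⟨b, hb⟩)

theorem CU_of (hG : IsMinSimpleOddOrder G) (h : Side M W₁ U W₂) (hU : U ⊓ centralizer (fittingHallOf M : Set G) = ⊥) :
    fittingHallOf M ⊓ centralizer (U : Set G) = ⊥ := CU_III (n5_of hG h) h.prp h.card hU

theorem W_comm (hG : IsMinSimpleOddOrder G) (h : Side M W₁ U W₂) {a b : G} (ha : a ∈ W₁) (hb : b ∈ W₂) : a * b = b * a := by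
  by_cases ha1 : a = 1
  · rw [ha1, one_mul, mul_one]
  · have h1 := h.data.W₂_centralizer a ha ha1
    rw [← h1] at hb
    exact (mem_centralizer_singleton_iff.1 (mem_inf.1 hb).2).symm

theorem W₁_le_C (hG : IsMinSimpleOddOrder G) (h : Side M W₁ U W₂) : W₁ ≤ centralizer (W₂ : Set G) := by
  intro a ha
  rw [mem_centralizer_iff]
  intro b hb
  exact (W_comm hG h ha hb).symm

theorem fh_le_C (hG : IsMinSimpleOddOrder G) (h : Side M W₁ U W₂) : fittingHallOf M ≤ centralizer (W₂ : Set G) := by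
  intro a ha
  rw [mem_centralizer_iff]
  intro b hb
  exact hcomm_fh h ((n5_of hG h).W₂H hb) ha

theorem NW₂_le (hG : IsMinSimpleOddOrder G) (h : Side M W₁ U W₂) : normalizer (W₂ : Set G) ≤ M := by
  intro g hg
  obtain ⟨x, hx, hx1⟩ := (Subgroup.bot_or_exists_ne_one W₂).resolve_left (W₂_ne h.prp)
  exact h.ti x (W₂FF hG h hx) hx1 g (W₂FF hG h ((mem_normalizer_iff.1 hg x).1 hx))

/-- **(13.16)**, one side -/
theorem side1548 (hG : IsMinSimpleOddOrder G) (h : Side M W₁ U W₂) (hU : U ⊓ centralizer (fittingHallOf M : Set G) = ⊥) :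
    normalizer (W₂ : Set G) = centralizer (W₂ : Set G) ∧ centralizer (W₂ : Set G) = fittingHallOf M ⊔ W₁ := by
  have hN := n5_of hG h
  have hCU := CU_of hG h hU
  have hUc := Ucomm_of hG h
  have hWC := W₁_le_C hG h
  have hHC := fh_le_C hG h
  have hCN : centralizer (W₂ : Set G) ≤ normalizer (W₂ : Set G) := centralizer_le_normalizer _
  set X : Subgroup G := U ⊓ normalizer (W₂ : Set G) with hX
  have hXW : W₁ ≤ normalizer (X : Set G) :=
    H22.Basic.le_normalizer_inf hN.P.U_normal ((hWC.trans hCN).trans le_normalizer)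
  obtain ⟨w, hw, hw1⟩ := (Subgroup.bot_or_exists_ne_one W₁).resolve_left hN.P.W₁_ne
  have hconj : ∀ y ∈ X, w * y * w⁻¹ ∈ X := fun y hy => (mem_normalizer_iff.1 (hXW hw) y).1 hy
  -- `X` centralizes `W₂`
  have hXC : X ≤ centralizer (W₂ : Set G) := by
    let f : X → X := fun y => ⟨w * y * w⁻¹ * (y : G)⁻¹, mul_mem (hconj y y.2) (inv_mem y.2)⟩
    have hf : Function.Injective f := by
      rintro ⟨y, hy2⟩ ⟨z, hz2⟩ hyz
      have h1 : w * y * w⁻¹ * (y : G)⁻¹ = w * z * w⁻¹ * (z : G)⁻¹ := congrArg Subtype.val hyz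
      have hyU : (y : G) ∈ U := (mem_inf.1 hy2).1
      have hzU : (z : G) ∈ U := (mem_inf.1 hz2).1
      have h2 : w * ((z : G)⁻¹ * y) = ((z : G)⁻¹ * y) * w := by
        have hc : ∀ a ∈ U, ∀ b ∈ U, a * b = b * a := fun a ha b hb =>
          congrArg Subtype.val (hUc.is_comm.comm (⟨a, ha⟩ : U) ⟨b, hb⟩)
        have h3 : w * (z : G)⁻¹ * w⁻¹ ∈ U := hUn hN w hw _ (inv_mem hzU)
        have h4 : w * y * w⁻¹ = w * z * w⁻¹ * ((z : G)⁻¹ * y) := by
          rw [← mul_assoc, ← h1, inv_mul_cancel_right]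
        calc w * ((z : G)⁻¹ * y) = (w * z⁻¹ * w⁻¹) * (w * y * w⁻¹) * w := by group
          _ = (w * z⁻¹ * w⁻¹) * (w * z * w⁻¹ * ((z : G)⁻¹ * y)) * w := by rw [h4]
          _ = _ := by group
      have h5 := hfpf hN w hw hw1 _ (mul_mem (inv_mem hzU) hyU) h2
      exact Subtype.ext (inv_mul_eq_one.1 h5).symm
    have hs : Function.Surjective f := Finite.surjective_of_injective hf
    intro u hu
    obtain ⟨⟨y, hyX⟩, hy⟩ := hs ⟨u, hu⟩
    have hy' : w * y * w⁻¹ * (y : G)⁻¹ = u := congrArg Subtype.val hy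
    rw [mem_centralizer_iff]
    intro z hz
    have hyn : (y : G)⁻¹ ∈ normalizer (W₂ : Set G) := inv_mem (mem_inf.1 hyX).2
    have hz' : (y : G)⁻¹ * z * y ∈ W₂ := by
      have := (mem_normalizer_iff.1 hyn z).1 hz
      rwa [inv_inv] at this
    have e1 := W_comm hG h hw hz'
    have e2 := W_comm hG h hw hz
    rw [← hy']
    have e3 : w⁻¹ * ((y : G)⁻¹ * z * y) = ((y : G)⁻¹ * z * y) * w⁻¹ := by
      rw [inv_mul_eq_iff_eq_mul, ← mul_assoc, e1, mul_inv_cancel_right]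
    calc z * (w * y * w⁻¹ * (y : G)⁻¹) = (z * w) * (y * w⁻¹ * (y : G)⁻¹) := by group
      _ = (w * z) * (y * w⁻¹ * (y : G)⁻¹) := by rw [e2]
      _ = w * y * ((y⁻¹ * z * y) * w⁻¹) * (y : G)⁻¹ := by group
      _ = w * y * (w⁻¹ * (y⁻¹ * z * y)) * (y : G)⁻¹ := by rw [e3]
      _ = _ := by group
  -- `C_{M_F}(X)` is all of `M_F`
  have hXU : U ≤ normalizer (X : Set G) := by
    intro a ha
    rw [mem_normalizer_iff_cj]
    apply Subgroup.eq_of_le_of_card_ge _ (by rw [card_cj])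
    rw [cj_le_iff_forall]
    intro v hv
    have e1 : a * v = v * a := congrArg Subtype.val (hUc.is_comm.comm (⟨a, ha⟩ : U) ⟨v, (mem_inf.1 hv).1⟩)
    rwa [e1, mul_inv_cancel_right]
  have hH : U ⊔ W₁ ≤ normalizer (fittingHallOf M : Set G) := (sup_le hN.UM hN.WM).trans hN.MH
  have hXb : X = ⊥ := by
    have h1 := irr hN hCU h.prp (N := fittingHallOf M ⊓ centralizer (X : Set G)) inf_le_left
      (H22.Basic.le_normalizer_inf hH (H22.Basic.le_normalizer_centralizer (sup_le hXU hXW))) (by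
        intro hb
        apply W₂_ne h.prp
        rw [eq_bot_iff, ← hb]
        refine le_inf hN.W₂H ?_
        rw [le_centralizer_iff]
        exact hXC)
    rw [eq_bot_iff, ← hU]
    refine le_inf inf_le_left ?_
    rw [le_centralizer_iff, ← h1]
    exact inf_le_right
  have hle : normalizer (W₂ : Set G) ≤ fittingHallOf M ⊔ W₁ := by
    intro n hn
    obtain ⟨a, ha, u, hu, v, hv, rfl⟩ := hN.decomp (NW₂_le hG h hn)
    have h1 : u ∈ X := by
      refine mem_inf.2 ⟨hu, ?_⟩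
      have h2 : a⁻¹ * (a * u * v) * v⁻¹ ∈ normalizer (W₂ : Set G) :=
        mul_mem (mul_mem (inv_mem (hCN (hHC ha))) hn) (inv_mem (hCN (hWC hv)))
      have e : a⁻¹ * (a * u * v) * v⁻¹ = u := by group
      rwa [e] at h2
    rw [hXb, mem_bot] at h1
    rw [h1, mul_one]
    exact Subgroup.mul_mem_sup ha hv
  have hle2 : fittingHallOf M ⊔ W₁ ≤ centralizer (W₂ : Set G) := sup_le hHC hWC
  exact ⟨le_antisymm (hle.trans hle2) hCN, le_antisymm (hCN.trans hle) hle2⟩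

/-- **(13.16)** -/
theorem main1548 (hG : IsMinSimpleOddOrder G) {S T V : Subgroup G} (P : Pair S T W₁ W₂ U V)
    (hV : V ⊓ centralizer (fittingHallOf T : Set G) = ⊥) :
    normalizer (W₁ : Set G) = centralizer (W₁ : Set G) ∧ centralizer (W₁ : Set G) = fittingHallOf T ⊔ W₂ :=
  side1548 hG P.sT hV

/-- every maximal subgroup of type P is conjugate to `S` or `T` -/
theorem conj_of_kappa (hG : IsMinSimpleOddOrder G) {S T V : Subgroup G} (P : Pair S T W₁ W₂ U V) {L : Subgroup G} (hL : IsCoatom L)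
    (hκ : (kappa L).Nonempty) : ∃ g : G, L = cj g S ∨ L = cj g T := by
  have hC := H12.BG13.con13 hG
  have hNS := n5_of hG P.sS
  have hNT := n5_of hG P.sT
  obtain ⟨K, E, V', hks⟩ := exists_KS_of_kappa hG hC P.sS.max (kappa_ne_of_P hG P.sS.max P.sS.data)
  obtain ⟨T', E', U', hpr⟩ := hks.exists_PR' hG hC
  obtain ⟨K₂, E₂, V₂, hks₂⟩ := exists_KS_of_kappa hG hC P.sT.max (kappa_ne_of_P hG P.sT.max P.sT.data)
  obtain ⟨K₃, E₃, V₃, hks₃⟩ := exists_KS_of_kappa hG hC hL hκ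
  have hnST : ∀ g : G, T ≠ cj g S := by
    intro g hg
    have h1 : Nat.card T = Nat.card S := by rw [hg, card_cj]
    have h2 : Nat.card ↥⁅T, T⁆ = Nat.card ↥⁅S, S⁆ := by rw [hg, ← H22.Basic.commutator_cj, card_cj]
    rw [hNS.card_M, hNT.card_M, h2] at h1
    exact P.ne (Nat.eq_of_mul_eq_mul_left Nat.card_pos h1).symm
  obtain ⟨g, hg⟩ := hpr.two_classes hG hC hks₂
  obtain ⟨l, hl⟩ := hpr.two_classes hG hC hks₃
  rcases hg with hg | hg
  · exact absurd hg (hnST g)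
  · rcases hl with hl | hl
    · exact ⟨l, Or.inl hl⟩
    · refine ⟨l * g⁻¹, Or.inr ?_⟩
      rw [hg, ← cj_mul, inv_mul_cancel_right, ← hl]

end

end Cfsg.Agent.H1.P13
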