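import Mathlib
import Cfsg.Agent.H1_P13C

/-! Peterfalvi (13.17) -/

set_option autoImplicit false
set_option linter.all false

open Pointwise
open scoped commutatorElement

namespace Cfsg.Agent.H1.P13

open Cfsg Subgroup Cfsg.Agent.H13.Syl Cfsg.Agent.H12.BG7 Cfsg.Agent.H12.BG10 Cfsg.Agent.H12.BG12 Cfsg.Agent.H12.Ty Cfsg.Agent.H1.PG8
  Cfsg.Agent.HL.P9 Cfsg.Agent.H12.P13S Cfsg.Agent.H12.P13 Cfsg.Agent.H1.PF12 Cfsg.Agent.H2.BG14 Cfsg.Agent.H2.Con13

universe u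

section
variable {G : Type u} [Group G] [Finite G] {S T W₁ U W₂ V : Subgroup G}

theorem not_conj_S (hG : IsMinSimpleOddOrder G) (P : Side S W₁ U W₂) (hII : IsOfTypeII S) {L : Subgroup G}
    (hL : IsCoatom L) (hNU : normalizer (U : Set G) ≤ L) (g : G) : L ≠ cj g S := by
  intro hLg
  have hN := n5_of hG P
  have hd := (dataII (sol_of hG P.max) (odd_of hG S) hII P.data).2.2.2.2.1
  have hUL : U ≤ L := le_normalizer.trans hNU
  -- `U` is a Hall subgroup of `S`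
  set π : Set ℕ := {r | r ∣ Nat.card U} with hπ
  have hcU : Nat.card S = Nat.card U * (Nat.card (fittingHallOf S) * Nat.card W₁) := by
    rw [hN.card_M, hN.card_M']; ring
  have hrel : U.relIndex S = Nat.card (fittingHallOf S) * Nat.card W₁ := by
    have h1 := Cfsg.Agent.H1.Basic.relIndex_mul_card hN.UM
    rw [hcU, mul_comm] at h1
    exact Nat.eq_of_mul_eq_mul_left Nat.card_pos h1
  have hH : IsPiHallOf π U S := by
    refine ⟨hN.UM, fun r hr hd => hd, fun r hr hd hd2 => ?_⟩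
    rw [hrel] at hd2
    have h1 : (Nat.card U).Coprime (Nat.card (fittingHallOf S) * Nat.card W₁) := Nat.Coprime.mul_right hN.cop_UH hN.cop_WU.symm
    exact hr.one_lt.ne' (Nat.Coprime.eq_one_of_dvd (Nat.Coprime.coprime_dvd_left hd h1) hd2)
  have hH' : IsPiHallOf π (cj g U) L := by
    rw [hLg]; exact H12.Hall.conj hH
  have hH'' : IsPiHallOf π U L := H12.Hall.of_card hH' hUL (card_cj g U).symm
  obtain ⟨l, hl, h1⟩ := H12.Hall.hall_conj (sol_of hG hL) hH' hH''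
  rw [← cj_mul, ← mem_normalizer_iff_cj] at h1
  have h2 : g ∈ L := by
    have := mul_mem (inv_mem hl) (hNU h1)
    rwa [inv_mul_cancel_left] at this
  have h3 : L = S := by
    have : cj g⁻¹ L = L := cj_eq_of_mem (inv_mem h2)
    rw [← this, hLg, cj_inv_cj]
  apply hd
  rw [← h3]
  exact hNU

theorem not_conj_T (hG : IsMinSimpleOddOrder G) (P : Pair S T W₁ W₂ U V) {L : Subgroup G}
    (hNU : normalizer (U : Set G) ≤ L) (g : G) : L ≠ cj g T := by
  intro hLg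
  have hN := n5_of hG P.sS
  have hT := n5_of hG P.sT
  have hUL : U ≤ L := le_normalizer.trans hNU
  have hWL : W₁ ≤ L := hN.P.U_normal.trans hNU
  set Q := cj g (fittingHallOf T) with hQ
  have hQL : Q ≤ L := by rw [hLg]; exact cj_mono hT.HM
  have hQn : L ≤ normalizer (Q : Set G) := by
    rw [hLg, hQ, H22.Basic.normalizer_cj]
    exact cj_mono hT.MH
  have hcQ : Nat.card Q = Nat.card W₁ ^ Nat.card W₂ := by rw [hQ, card_cj, P.sT.card]
  have hcL : Nat.card L = Nat.card Q * (Nat.card V * Nat.card W₂) := by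
    rw [hLg, card_cj, hT.card_M, hT.card_M', hQ, card_cj]; ring
  have hrel : Q.relIndex L = Nat.card V * Nat.card W₂ := by
    have h1 := Cfsg.Agent.H1.Basic.relIndex_mul_card hQL
    rw [hcL, mul_comm] at h1
    exact Nat.eq_of_mul_eq_mul_left Nat.card_pos h1
  have hp2 : Nat.card W₂ ≠ 0 := Nat.card_pos.ne'
  have hcop : (Nat.card W₁).Coprime (Q.relIndex L) := by
    rw [hrel]
    have h1 : (Nat.card W₁ ^ Nat.card W₂).Coprime (Nat.card V * Nat.card W₂) := by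
      rw [← P.sT.card]
      exact Nat.Coprime.mul_right hT.cop_UH.symm hT.cop_WH.symm
    exact Nat.Coprime.coprime_dvd_left (dvd_pow_self _ hp2) h1
  have hWQ : W₁ ≤ Q := by
    intro w hw
    refine mem_of_hall hQL hQn (hWL hw) (n := Nat.card W₁) ?_ hcop
    exact congrArg Subtype.val (pow_card_eq_one' (x := (⟨w, hw⟩ : W₁)))
  obtain ⟨w, hw, hw1⟩ := (Subgroup.bot_or_exists_ne_one W₁).resolve_left hN.P.W₁_ne
  obtain ⟨x, hx, hx1⟩ := (Subgroup.bot_or_exists_ne_one U).resolve_left hN.U_ne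
  have h1 : w * x * w⁻¹ * x⁻¹ ∈ U := mul_mem (hUn hN w hw x hx) (inv_mem hx)
  have h2 : w * x * w⁻¹ * x⁻¹ ∈ Q := by
    have e : w * x * w⁻¹ * x⁻¹ = w * (x * w⁻¹ * x⁻¹) := by group
    rw [e]
    exact mul_mem (hWQ hw) ((mem_normalizer_iff.1 (hQn (hUL hx)) w⁻¹).1 (inv_mem (hWQ hw)))
  have hUQ : U ⊓ Q = ⊥ := by
    apply H22.Basic.inf_eq_bot_of_coprime
    rw [hcQ]
    exact Nat.Coprime.pow_right _ hN.cop_WU.symm
  have h3 : w * x * w⁻¹ * x⁻¹ = 1 := by
    have : w * x * w⁻¹ * x⁻¹ ∈ U ⊓ Q := ⟨h1, h2⟩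
    rwa [hUQ, mem_bot] at this
  have h4 : w * x = x * w := by
    have := mul_inv_eq_one.1 h3
    exact mul_inv_eq_iff_eq_mul.1 this
  exact hx1 (hfpf hN w hw hw1 x hx h4)

theorem kappa_L (hG : IsMinSimpleOddOrder G) (P : Pair S T W₁ W₂ U V) (hII : IsOfTypeII S) {L : Subgroup G}
    (hL : IsCoatom L) (hNU : normalizer (U : Set G) ≤ L) : kappa L = ∅ := by
  by_contra hne
  obtain ⟨g, h | h⟩ := conj_of_kappa hG P hL (Set.nonempty_iff_ne_empty.2 hne)
  · exact not_conj_S hG P.sS hII hL hNU g h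
  · exact not_conj_T hG P hNU g h

/-- fixed-point-free action of a Frobenius group is impossible -/
theorem no_frob {N K E : Subgroup G} (hK : K ≠ ⊥) (hE : E ≠ ⊥) (hn : ∀ e ∈ E, ∀ u ∈ K, e * u * e⁻¹ ∈ K)
    (hf : ∀ e ∈ E, e ≠ 1 → ∀ u ∈ K, e * u = u * e → u = 1) (hN : K ⊔ E ≤ normalizer (N : Set G)) (hsol : Group.IsSolvable N)
    (hcop : (Nat.card N).Coprime (Nat.card ↥(K ⊔ E))) (h1 : N ⊓ centralizer (K : Set G) = ⊥) (h2 : N ⊓ centralizer (E : Set G) = ⊥) :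
    N = ⊥ := by
  have h3 := H10.FrF7.main K E N hK hE hn hf (by
    intro x hx n hnn
    exact (mem_normalizer_iff.1 (hN hx) n).1 hnn) hsol hcop
  have h4 : N ⊓ centralizer ((K ⊔ E : Subgroup G) : Set G) = ⊥ := by
    rw [eq_bot_iff, ← h1]
    exact inf_le_inf_left _ (centralizer_le (le_sup_left : K ≤ K ⊔ E))
  rw [h1, h2, h4, Subgroup.card_bot, one_pow, one_mul, mul_one] at h3
  exact Subgroup.card_eq_one.1 h3

/-- a Frobenius group cannot act freely on `H = L_F` -/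
theorem no_frob_L {L H K E : Subgroup G} (hH : H ≠ ⊥) (hHn : L ≤ normalizer (H : Set G)) (hHL : H ≤ L)
    (hHall : (Nat.card H).Coprime (H.relIndex L)) (hsol : Group.IsSolvable H)
    (hfr : ∀ x ∈ H, x ≠ 1 → L ⊓ centralizer ({x} : Set G) ≤ H)
    (hKL : K ≤ L) (hEL : E ≤ L) (hK : K ≠ ⊥) (hE : E ≠ ⊥) (hKH : K ⊓ H = ⊥) (hEH : E ⊓ H = ⊥)
    (hn : ∀ e ∈ E, ∀ u ∈ K, e * u * e⁻¹ ∈ K) (hf : ∀ e ∈ E, e ≠ 1 → ∀ u ∈ K, e * u = u * e → u = 1) : False := by
  have key : ∀ X : Subgroup G, X ≤ L → X ⊓ H = ⊥ → (Nat.card H).Coprime (Nat.card X) := by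
    intro X hX hXH
    apply coprime_of_forall
    intro r hr hd hd'
    haveI := Fact.mk hr
    obtain ⟨x, hx⟩ := exists_prime_orderOf_dvd_card' (G := X) r hd'
    have h1 : (x : G) ∈ H := by
      refine mem_of_hall hHL hHn (hX x.2) (n := r) ?_ (Nat.Coprime.coprime_dvd_left hd hHall)
      have : x ^ r = 1 := by rw [← hx, pow_orderOf_eq_one]
      exact congrArg Subtype.val this
    have h2 : (x : G) ∈ X ⊓ H := ⟨x.2, h1⟩
    rw [hXH, mem_bot] at h2
    have h3 : x = 1 := Subtype.ext h2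
    rw [h3, orderOf_one] at hx
    exact hr.one_lt.ne hx
  have hKE : E ≤ normalizer (K : Set G) := by
    intro e he
    rw [mem_normalizer_iff_cj]
    apply Subgroup.eq_of_le_of_card_ge _ (by rw [card_cj])
    rw [cj_le_iff_forall]
    exact fun a ha => hn e he a ha
  have hKEcard : Nat.card ↥(K ⊔ E) ∣ Nat.card K * Nat.card E := by
    rw [sup_comm, mul_comm]; exact H12.Core.card_sup_dvd hKE
  have hcop : (Nat.card H).Coprime (Nat.card ↥(K ⊔ E)) :=
    Nat.Coprime.coprime_dvd_right hKEcard (Nat.Coprime.mul_right (key K hKL hKH) (key E hEL hEH))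
  have hcent : ∀ X : Subgroup G, X ≤ L → X ≠ ⊥ → X ⊓ H = ⊥ → H ⊓ centralizer (X : Set G) = ⊥ := by
    intro X hX hXb hXH
    by_contra hne
    obtain ⟨x, hx, hx1⟩ := (Subgroup.bot_or_exists_ne_one _).resolve_left hne
    apply hXb
    rw [eq_bot_iff, ← hXH]
    refine le_inf le_rfl (le_trans (le_inf hX ?_) (hfr x hx.1 hx1))
    intro y hy
    rw [mem_centralizer_singleton_iff]
    exact mem_centralizer_iff.1 hx.2 y hy
  exact hH (no_frob hK hE hn hf ((sup_le hKL hEL).trans hHn) hsol hcop (hcent K hKL hK hKH) (hcent E hEL hE hEH))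

/-- commutator map is onto -/
theorem exists_comm {M : Subgroup G} (h : N5 M W₁ U W₂) (hUc : IsMulCommutative U) {w : G} (hw : w ∈ W₁) (hw1 : w ≠ 1) {u : G}
    (hu : u ∈ U) : ∃ y ∈ U, w * y * w⁻¹ * y⁻¹ = u := by
  have hc : ∀ a ∈ U, ∀ b ∈ U, a * b = b * a := fun a ha b hb =>
    congrArg Subtype.val (hUc.is_comm.comm (⟨a, ha⟩ : U) ⟨b, hb⟩)
  let f : U → U := fun y => ⟨w * y * w⁻¹ * (y : G)⁻¹, mul_mem (hUn h w hw y y.2) (inv_mem y.2)⟩
  have hf : Function.Injective f := by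
    rintro ⟨y, hyU⟩ ⟨z, hzU⟩ hyz
    have h1 : w * y * w⁻¹ * (y : G)⁻¹ = w * z * w⁻¹ * (z : G)⁻¹ := congrArg Subtype.val hyz
    have h2 : w * ((z : G)⁻¹ * y) = ((z : G)⁻¹ * y) * w := by
      have h4 : w * y * w⁻¹ = w * z * w⁻¹ * ((z : G)⁻¹ * y) := by
        rw [← mul_assoc, ← h1, inv_mul_cancel_right]
      calc w * ((z : G)⁻¹ * y) = (w * z⁻¹ * w⁻¹) * (w * y * w⁻¹) * w := by group
        _ = (w * z⁻¹ * w⁻¹) * (w * z * w⁻¹ * ((z : G)⁻¹ * y)) * w := by rw [h4]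
        _ = _ := by group
    have h5 := hfpf h w hw hw1 _ (mul_mem (inv_mem hzU) hyU) h2
    exact Subtype.ext (inv_mul_eq_one.1 h5).symm
  obtain ⟨y, hy⟩ := Finite.surjective_of_injective hf ⟨u, hu⟩
  exact ⟨y, y.2, congrArg Subtype.val hy⟩

/-- `U ≤ L_F`, `W₁ ∩ L_F = 1` -/
theorem U_le_H {L H : Subgroup G} (hN : N5 S W₁ U W₂) (hUc : IsMulCommutative U) (hH : H ≠ ⊥) (hHn : L ≤ normalizer (H : Set G)) (hHL : H ≤ L)
    (hHall : (Nat.card H).Coprime (H.relIndex L)) (hnil : Group.IsNilpotent H)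
    (hfr : ∀ x ∈ H, x ≠ 1 → L ⊓ centralizer ({x} : Set G) ≤ H) (hNU : normalizer (U : Set G) ≤ L) :
    U ≤ H ∧ W₁ ⊓ H = ⊥ := by
  have hsol : Group.IsSolvable H := by haveI := hnil; infer_instance
  have hUL : U ≤ L := le_normalizer.trans hNU
  have hWL : W₁ ≤ L := hN.P.U_normal.trans hNU
  have hUH : U ≤ H := by
    by_contra hUH
    have h1 : W₁ ⊓ H = ⊥ := by
      by_contra hne
      obtain ⟨w, hw, hw1⟩ := (Subgroup.bot_or_exists_ne_one _).resolve_left hne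
      apply hUH
      intro u hu
      obtain ⟨y, hy, rfl⟩ := exists_comm hN hUc hw.1 hw1 hu
      have e : w * y * w⁻¹ * y⁻¹ = w * (y * w⁻¹ * y⁻¹) := by group
      rw [e]
      exact mul_mem hw.2 ((mem_normalizer_iff.1 (hHn (hUL hy)) w⁻¹).1 (inv_mem hw.2))
    have h2 : U ⊓ H = ⊥ := by
      by_contra hne
      obtain ⟨x, hx, hx1⟩ := (Subgroup.bot_or_exists_ne_one _).resolve_left hne
      apply hUH
      refine le_trans (le_inf hUL ?_) (hfr x hx.2 hx1)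
      intro y hy
      rw [mem_centralizer_singleton_iff]
      exact congrArg Subtype.val (hUc.is_comm.comm (⟨y, hy⟩ : U) ⟨x, hx.1⟩)
    exact no_frob_L hH hHn hHL hHall hsol hfr hUL hWL hN.U_ne hN.P.W₁_ne h2 h1 (hUn hN) (hfpf hN)
  refine ⟨hUH, ?_⟩
  by_contra hne
  obtain ⟨w, hw, hw1⟩ := (Subgroup.bot_or_exists_ne_one _).resolve_left hne
  obtain ⟨x, hx, hx1⟩ := (Subgroup.bot_or_exists_ne_one U).resolve_left hN.U_ne
  have h1 := H12.Core.commutator_eq_bot_of_nilpotent_coprime hnil hUH (B := W₁ ⊓ H) inf_le_right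
    (inf_le_left.trans hN.P.U_normal) (Nat.Coprime.coprime_dvd_left (card_dvd_of_le inf_le_left) hN.cop_WU)
  exact hx1 (hfpf hN w hw.1 hw1 x hx (mem_centralizer_iff.1 (h1 hw) x hx).symm)

end

end Cfsg.Agent.H1.P13
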