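import Mathlib
import Cfsg.Agent.H1_P13D

/-! Peterfalvi (13.17), the conclusion -/

set_option autoImplicit false
set_option linter.all false

open Pointwise
open scoped commutatorElement

namespace Cfsg.Agent.H1.P13

open Cfsg Subgroup Cfsg.Agent.H13.Syl Cfsg.Agent.H12.BG7 Cfsg.Agent.H12.BG10 Cfsg.Agent.H12.BG12 Cfsg.Agent.H12.Ty Cfsg.Agent.H1.PG8
  Cfsg.Agent.HL.P9 Cfsg.Agent.H12.P13S Cfsg.Agent.H12.P13 Cfsg.Agent.H1.PF12 Cfsg.Agent.H2.BG14 Cfsg.Agent.H2.Con13 Cfsg.Agent.H12.BG13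

universe u

section
variable {G : Type u} [Group G] [Finite G] {S T W₁ U W₂ V : Subgroup G}

/-- a subgroup of prime order of the complement of a Frobenius maximal subgroup is normal -/
theorem prime_normal (hG : IsMinSimpleOddOrder G) {L E W : Subgroup G} (hL : IsCoatom L) (ht : tau2 L = ∅)
    (hE : IsComplIn E (sigmaCore L) L) (hWE : W ≤ E) (hWp : (Nat.card W).Prime)
    (hfr : ∀ x ∈ sigmaCore L, x ≠ 1 → L ⊓ centralizer ({x} : Set G) ≤ sigmaCore L) : E ≤ normalizer (W : Set G) := by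
  set q := Nat.card W with hq
  haveI hqf : Fact q.Prime := ⟨hWp⟩
  have hEσ := compl_hall hG hL hE
  have hEL : E ≤ L := hE.1
  have hEs : Group.IsSolvable E := H12.BG1.isSolvable_of_le hEL (sol_of hG hL)
  have hqE : q ∣ Nat.card E := card_dvd_of_le hWE
  have hqL : q ∣ Nat.card L := hqE.trans (card_dvd_of_le hEL)
  have hqσ : q ∉ sigma L := H12.Hall.pi hEσ q hWp hqE
  have hWpg : IsPGroup q W := IsPGroup.of_card (n := 1) (by rw [pow_one])
  obtain ⟨E₃, hE₃⟩ := H12.Hall.exists_hall hEs (tau3 L)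
  obtain ⟨hcyc, hE₃', hEn⟩ := tau3_cyclic hG hL hE hE₃
  rcases H12.BG13.tau_cases hG hL hWp hqL hqσ with h | h | h
  · -- `q ∈ τ₁`
    have hWpi : H12.Core.PiNum (tau1 L) (Nat.card W) := by
      intro r hr hd
      rwa [(Nat.prime_dvd_prime_iff_eq hr hWp).1 hd]
    obtain ⟨E₁, hWE₁, hE₁⟩ := H12.Hall.exists_hall_ge hEs hWpi hWE
    have hcyc1 := tau1_cyclic hG hL (hE₁.1.trans hEL) (H12.Hall.pi hE₁)
    have hsup := sup_of_tau2_empty hG hL hE hE₁ hE₃ (fun r hr => by rw [ht] at hr; exact hr)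
    refine hsup.trans (sup_le ?_ ?_)
    · refine le_trans ?_ (centralizer_le_normalizer _)
      intro a ha
      rw [mem_centralizer_iff]
      intro b hb
      haveI := hcyc1
      letI := IsCyclic.commGroup (α := E₁)
      exact congrArg Subtype.val (mul_comm (⟨b, hWE₁ hb⟩ : E₁) ⟨a, ha⟩)
    · -- `E₃` centralizes `W`
      refine le_trans ?_ (centralizer_le_normalizer _)
      have hqE₃ : ¬ q ∣ Nat.card E₃ := by
        intro hd
        have h3 := H12.Hall.pi hE₃ q hWp hd
        exact h.2.2.2.1 h3.2.2.1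
      have hcop : (Nat.card W).Coprime (Nat.card E₃) := (Nat.Prime.coprime_iff_not_dvd hWp).2 hqE₃
      have hWn : W ≤ normalizer (E₃ : Set G) := hWE.trans hEn
      haveI hab : IsMulCommutative E₃ := by
        haveI := hcyc; infer_instance
      set D : Subgroup G := ⁅E₃, W⁆ with hD
      have hDE : D ≤ E₃ := H1.Coprime.commutator_le_of_le_normalizer hWn
      have hDC : D ⊓ centralizer (W : Set G) = ⊥ := by
        have h1 := H1.Coprime.inf_commutator_eq_bot_of_abelian W E₃ hWn hcop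
        rw [eq_bot_iff, ← h1]
        exact le_inf (le_inf (inf_le_left.trans hDE) inf_le_right) inf_le_left
      have hDb : D = ⊥ := by
        by_contra hDne
        obtain ⟨r, hr, x, hx, hxo, hrd⟩ := exists_prime_elt hDne
        have hx1 : x ≠ 1 := by
          rintro rfl
          rw [orderOf_one] at hxo
          exact hr.one_lt.ne hxo
        have hRD : zpowers x ≤ D := zpowers_le.2 hx
        have hRn : E ≤ normalizer ((zpowers x : Subgroup G) : Set G) := normal_of_cyclic hcyc (hRD.trans hDE) hEn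
        have hRc : Nat.card (zpowers x) = r := by rw [Nat.card_zpowers, hxo]
        have hRb : zpowers x ≠ ⊥ := by rwa [Ne, zpowers_eq_bot]
        by_cases hc : ∃ e ∈ W, e ≠ 1 ∧ ∃ u ∈ zpowers x, u ≠ 1 ∧ e * u = u * e
        · -- then `W` centralizes `⟨x⟩`
          obtain ⟨e, he, he1, u, hu, hu1, heu⟩ := hc
          have hWe : W ≤ zpowers e := by
            have h1 : Nat.card (zpowers e) = Nat.card W := by
              have hle : zpowers e ≤ W := zpowers_le.2 he
              rcases (Nat.dvd_prime hWp).1 (card_dvd_of_le hle) with h2 | h2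
              · exact absurd (Subgroup.zpowers_eq_bot.1 (Subgroup.card_eq_one.1 h2)) he1
              · exact h2
            exact (Subgroup.eq_of_le_of_card_ge (zpowers_le.2 he) h1.ge).ge
          have h1 : u ∈ D ⊓ centralizer (W : Set G) := by
            refine mem_inf.2 ⟨hRD hu, ?_⟩
            rw [mem_centralizer_iff]
            intro b hb
            obtain ⟨k, rfl⟩ := mem_zpowers_iff.1 (hWe hb)
            exact (Commute.zpow_left (show Commute e u from heu) k)
          rw [hDC, mem_bot] at h1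
          exact hu1 h1
        · push Not at hc
          have hEσ0 : E ⊓ sigmaCore L = ⊥ := hE.2.2.1
          have hHsol : Group.IsSolvable (sigmaCore L) := H12.BG1.isSolvable_of_le hE.2.1 (sol_of hG hL)
          refine no_frob_L (H12.BG11.sigmaCore_ne_bot hG hL) (le_normalizer_sigmaCore L) hE.2.1 (H12.Hall.coprime (sigmaCore_hallOf hG hL)) hHsol hfr
            ((hRD.trans hDE).trans (hE₃.1.trans hEL)) (hWE.trans hEL) hRb (fun hb => ?_) ?_ ?_ ?_ ?_
          · rw [hq, hb, Subgroup.card_bot] at hWp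
            exact Nat.not_prime_one hWp
          · rw [eq_bot_iff, ← hEσ0]
            exact inf_le_inf_right _ ((hRD.trans hDE).trans hE₃.1)
          · rw [eq_bot_iff, ← hEσ0]
            exact inf_le_inf_right _ hWE
          · intro e he u hu
            exact (mem_normalizer_iff.1 (hRn (hWE he)) u).1 hu
          · intro e he he1 u hu heu
            by_contra hu1
            exact hc e he he1 u hu hu1 heu
      have h1 := Subgroup.commutator_eq_bot_iff_le_centralizer.1 hDb
      exact h1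
  · rw [ht] at h
    exact absurd h (Set.notMem_empty _)
  · -- `q ∈ τ₃`
    have hWE₃ : W ≤ E₃ := by
      obtain ⟨l, hl, hle⟩ := H12.Hall.sylow_conj_le hE₃ h hWpg hWE
      rw [cj_le_iff] at hle
      rwa [cj_eq_of_mem_normalizer (hEn (inv_mem hl))] at hle
    exact normal_of_cyclic hcyc hWE₃ hEn

/-- **(13.17)** in the language of `kappa`, `tau2` -/
theorem main1549 (hG : IsMinSimpleOddOrder G) (hC : C11 G) (P : Pair S T W₁ W₂ U V)
    (hV : V ⊓ centralizer (fittingHallOf T : Set G) = ⊥) (hII : IsOfTypeII S) {L : Subgroup G} (hL : IsCoatom L)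
    (hNU : normalizer (U : Set G) ≤ L) :
    TyI L ∧ (∀ x ∈ fittingHallOf L, x ≠ 1 → L ⊓ centralizer ({x} : Set G) ≤ fittingHallOf L) ∧ U ≤ fittingHallOf L ∧
      ((fittingHallOf L ⊓ W₁ = ⊥ ∧ fittingHallOf L ⊔ W₁ = L) ∨
        ∃ y ∈ fittingHallOf T, fittingHallOf L ⊓ (W₁ ⊔ W₂.map (MulAut.conj y).toMonoidHom) = ⊥ ∧
          fittingHallOf L ⊔ (W₁ ⊔ W₂.map (MulAut.conj y).toMonoidHom) = L) := by
  have hκ := kappa_L hG P hII hL hNU
  have ht := tau2_empty hG hC.con hL hκ
  have hfh : fittingHallOf L = sigmaCore L := fh_I hG hL hκ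
  have hfr : ∀ x ∈ sigmaCore L, x ≠ 1 → L ⊓ centralizer ({x} : Set G) ≤ sigmaCore L :=
    fun x hx hx1 => frob_of hG hL hκ ht hx hx1
  have hN := n5_of hG P.sS
  have hT := n5_of hG P.sT
  have hHall := H12.Hall.coprime (sigmaCore_hallOf hG hL)
  have hHL : sigmaCore L ≤ L := (sigmaCore_hallOf hG hL).1
  have hHn : L ≤ normalizer (sigmaCore L : Set G) := le_normalizer_sigmaCore L
  have hnil : Group.IsNilpotent (sigmaCore L) := by
    rw [← hfh]; exact H12.Core.fittingHallOf_isNilpotent L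
  obtain ⟨hUH, hWH⟩ := U_le_H hN (Ucomm_of hG P.sS) (H12.BG11.sigmaCore_ne_bot hG hL) hHn hHL hHall hnil hfr hNU
  have hWL : W₁ ≤ L := hN.P.U_normal.trans hNU
  set q := Nat.card W₁ with hq
  set p := Nat.card W₂ with hp
  have hqp : q.Prime := P.sS.prq
  have hpp : p.Prime := P.sS.prp
  haveI hqf : Fact q.Prime := ⟨hqp⟩
  haveI hpf : Fact p.Prime := ⟨hpp⟩
  have hqσ : q ∉ sigma L := by
    intro hqσ
    apply hN.P.W₁_ne
    rw [eq_bot_iff, ← hWH]
    refine le_inf le_rfl (fun w hw => mem_sigmaCore_of_mem hG hL (hWL hw) ?_)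
    intro r hr hd
    have h1 : orderOf w ∣ q := by
      rw [hq, orderOf_dvd_iff_pow_eq_one]
      exact congrArg Subtype.val (pow_card_eq_one' (x := (⟨w, hw⟩ : W₁)))
    rwa [(Nat.prime_dvd_prime_iff_eq hr hqp).1 (hd.trans h1)]
  have hWpi : H12.Core.PiNum (sigma L)ᶜ (Nat.card W₁) := by
    intro r hr hd
    rw [(Nat.prime_dvd_prime_iff_eq hr hqp).1 hd]
    exact hqσ
  obtain ⟨E, hWE, hEh⟩ := H12.Hall.exists_hall_ge (sol_of hG hL) hWpi hWL
  have hE := isCompl_of_hall hG hL hEh
  have hEn : E ≤ normalizer (W₁ : Set G) := prime_normal hG hL ht hE hWE hqp hfr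
  obtain ⟨e1, e2⟩ := main1548 hG P hV
  rw [e1, e2] at hEn
  have hrk := rank_one hG hL ht hE
  -- `E ∩ T_F = W₁`
  have hWT : W₁ ≤ fittingHallOf T := hT.W₂H
  have hET : E ⊓ fittingHallOf T = W₁ := by
    have h1 : W₁ ≤ E ⊓ fittingHallOf T := le_inf hWE hWT
    have h2 : Nat.card ↥(E ⊓ fittingHallOf T) ≤ Nat.card W₁ := by
      have h3 := hrk q hqp ((E ⊓ fittingHallOf T).subgroupOf E) ?_ ?_
      · rwa [pow_one, H22.Basic.card_subgroupOf_eq inf_le_left] at h3
      · refine ⟨⟨fun a b => ?_⟩⟩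
        have ha : ((a : E) : G) ∈ fittingHallOf T := (mem_inf.1 (mem_subgroupOf.1 a.2)).2
        have hb : ((b : E) : G) ∈ fittingHallOf T := (mem_inf.1 (mem_subgroupOf.1 b.2)).2
        exact Subtype.ext (Subtype.ext (hcomm_fh P.sT ha hb))
      · intro a ha
        have ha' : (a : G) ∈ fittingHallOf T := (mem_inf.1 (mem_subgroupOf.1 ha)).2
        exact Subtype.ext (P.sT.ea.2 _ ha')
    exact (Subgroup.eq_of_le_of_card_ge h1 h2).symm
  have hHE : ∀ X : Subgroup G, X = E → fittingHallOf L ⊓ X = ⊥ ∧ fittingHallOf L ⊔ X = L := by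
    rintro X rfl
    rw [hfh]
    refine ⟨by rw [inf_comm]; exact hE.2.2.1, le_antisymm (sup_le hHL hE.1) ?_⟩
    intro m hm
    obtain ⟨a, ha, b, hb, rfl⟩ := hE.2.2.2 m hm
    exact mul_mem ((le_sup_right : X ≤ sigmaCore L ⊔ X) ha) ((le_sup_left : sigmaCore L ≤ sigmaCore L ⊔ X) hb)
  refine ⟨(H2.Ty.tyI_iff hG hL).2 hκ, by rw [hfh]; exact hfr, by rw [hfh]; exact hUH, ?_⟩
  by_cases hEle : E ≤ fittingHallOf T
  · left
    apply hHE
    rw [← hET]
    exact inf_eq_left.2 hEle
  · right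
    set D : Subgroup G := fittingHallOf T ⊔ W₂ with hD
    have hDT : D ≤ T := sup_le hT.HM hT.WM
    have hTD : fittingHallOf T ≤ D := le_sup_left
    have hTn : D ≤ normalizer (fittingHallOf T : Set G) := hDT.trans hT.MH
    have hDs : Group.IsSolvable D := H12.BG1.isSolvable_of_le hDT hT.sol
    have hcD : Nat.card D = Nat.card (fittingHallOf T) * p :=
      H22.Basic.card_sup_of_coprime (hT.WM.trans hT.MH) hT.cop_WH.symm
    have hrelD : (fittingHallOf T).relIndex D = p := by
      have h1 := Cfsg.Agent.H1.Basic.relIndex_mul_card hTD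
      rw [hcD, mul_comm] at h1
      exact Nat.eq_of_mul_eq_mul_left Nat.card_pos h1
    have hpE : p ∣ Nat.card E := by
      by_contra hpE
      apply hEle
      intro e he
      refine mem_of_hall hTD hTn (hEn he) (n := Nat.card E) ?_ ?_
      · exact congrArg Subtype.val (pow_card_eq_one' (x := (⟨e, he⟩ : E)))
      · rw [hrelD]
        exact ((Nat.Prime.coprime_iff_not_dvd hpp).2 hpE).symm
    obtain ⟨y, hy⟩ := exists_prime_orderOf_dvd_card' (G := E) p hpE
    have hYE : zpowers (y : G) ≤ E := zpowers_le.2 y.2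
    have hyo : orderOf (y : G) = p := by rw [orderOf_coe, hy]
    have hYc : Nat.card (zpowers (y : G)) = p := by rw [Nat.card_zpowers, hyo]
    have hW2D : W₂ ≤ D := le_sup_right
    have hH1 : IsPiHallOf {p} W₂ D := by
      refine ⟨hW2D, fun r hr hd => ?_, fun r hr hrp hd => ?_⟩
      · rw [Set.mem_singleton_iff]
        exact (Nat.prime_dvd_prime_iff_eq hr hpp).1 hd
      · rw [Set.mem_singleton_iff] at hrp
        subst hrp
        have h1 := Cfsg.Agent.H1.Basic.relIndex_mul_card hW2D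
        rw [hcD] at h1
        have h2 : W₂.relIndex D = Nat.card (fittingHallOf T) := Nat.eq_of_mul_eq_mul_right Nat.card_pos h1
        rw [h2] at hd
        exact hpp.one_lt.ne' (Nat.Coprime.eq_one_of_dvd hT.cop_WH hd)
    have hH2 : IsPiHallOf {p} (zpowers (y : G)) D := H12.Hall.of_card hH1 (hYE.trans hEn) hYc
    obtain ⟨d, hd, hdY⟩ := H12.Hall.hall_conj hDs hH1 hH2
    have hWn2 : W₂ ≤ normalizer (fittingHallOf T : Set G) := hT.WM.trans hT.MH
    obtain ⟨t, ht', w, hw, rfl⟩ := (H22.Basic.mem_sup_of_le_normalizer hWn2).1 hd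
    have hdY' : cj t W₂ = zpowers (y : G) := by
      rw [← hdY, cj_mul, cj_eq_of_mem hw]
    refine ⟨t, ht', ?_⟩
    apply hHE
    change W₁ ⊔ cj t W₂ = E
    have hle : W₁ ⊔ cj t W₂ ≤ E := sup_le hWE (by rw [hdY']; exact hYE)
    refine le_antisymm hle ?_
    intro e he
    have h1 : fittingHallOf T ⊔ cj t W₂ = D := by
      have h2 : cj t D = D := cj_eq_of_mem (hTD ht')
      rw [← h2, hD, cj_sup, cj_eq_of_mem ht']
    have h3 : cj t W₂ ≤ normalizer (fittingHallOf T : Set G) := by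
      rw [hdY']; exact (hYE.trans hEn).trans hTn
    have h4 : e ∈ fittingHallOf T ⊔ cj t W₂ := by rw [h1]; exact hEn he
    obtain ⟨a, ha, b, hb, rfl⟩ := (H22.Basic.mem_sup_of_le_normalizer h3).1 h4
    have h5 : a ∈ W₁ := by
      rw [← hET]
      refine ⟨?_, ha⟩
      have := mul_mem he (inv_mem (hle ((le_sup_right : cj t W₂ ≤ W₁ ⊔ cj t W₂) hb)))
      rwa [mul_inv_cancel_right] at this
    exact Subgroup.mul_mem_sup h5 hb

end

end Cfsg.Agent.H1.P13
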