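import Mathlib
import Cfsg.Agent.H12_P13n
import Cfsg.Agent.H1_P13E
import Cfsg.Agent.H12_D17

/-! PF §13: the statements (13.2), (13.12), (13.16), (13.17) from the results of §§10, 11 -/

set_option autoImplicit false
set_option linter.style.haveILetI false
set_option linter.unusedSectionVars false

namespace Cfsg.Agent.H12.P13S

open Subgroup Cfsg Cfsg.Agent.H12 Cfsg.Agent.H12.Ty Cfsg.Agent.H1.P13
open scoped Pointwise

universe v
variable {G : Type v} [Group G] [Finite G] {S T W₁ W₂ U V : Subgroup G}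

theorem Pair.symm (P : Pair S T W₁ W₂ U V) : Pair T S W₂ W₁ V U where
  sS := P.sT
  sT := P.sS
  inf := by rw [inf_comm, P.inf, sup_comm]
  ne := P.ne.symm
  disj := by
    intro x hx hx1 g hg
    apply P.disj _ hg (fun hc => hx1 (conj_eq_one_iff.1 hc)) g⁻¹
    have : g⁻¹ * (g * x * g⁻¹) * g⁻¹⁻¹ = x := by group
    rw [this]; exact hx

theorem cU (hG : IsMinSimpleOddOrder G) (hC : C11 G) (P : Pair S T W₁ W₂ U V) : CU S U = ⊥ :=
  P.C_bot hG fun h => (hC.h34 S W₁ U W₂ P.sS.max (Or.inl h) P.sS.data).2.2.2.2.2.2.2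

/-- the centralizers of the elements of `A₀(S)` -/
theorem cent_A0 (hG : IsMinSimpleOddOrder G) (hC : C11 G) (hS : IsCoatom S) (hSP : IsTypePWith S W₁ U W₂) {x : G} (hx : x ∈ tA0 S) :
    centralizer ({x} : Set G) ≤ S := by
  by_contra hne
  obtain ⟨-, h2, h3⟩ := Cfsg.Agent.H12.D16.c1391 hG S hS (tA0 S) (Or.inr rfl)
  obtain ⟨L, ⟨hL, hxL⟩, -⟩ := (h2 x hx hne).2
  obtain ⟨-, -, -, -, ⟨h4, h5⟩, h6, h7⟩ := h3 x hx hne L hL hxL
  have hnotF : ¬ ∃ E : Subgroup ↥S, IsFrobeniusComplement E ∧ frobeniusKernel E = ((fittingHall ↥S : Subgroup ↥S) : Set ↥S) := by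
    rintro ⟨E, hE, hk⟩
    obtain ⟨w, hw, hw1⟩ := (Subgroup.bot_or_exists_ne_one W₁).resolve_left hSP.W₁_ne
    obtain ⟨y, hy, hy1⟩ := (Subgroup.bot_or_exists_ne_one W₂).resolve_left hSP.selfNormalizing.2.1
    have hwS : w ∈ S := hSP.W₁_compl.2.1 hw
    have hyF : y ∈ fittingHallOf S := (hSP.W₂_le hy).1
    have hyS : y ∈ S := Core.fittingHallOf_le S hyF
    have hyk : (⟨y, hyS⟩ : S) ∈ fittingHall S := by
      obtain ⟨z, hz, e⟩ := hyF
      have : z = ⟨y, hyS⟩ := Subtype.ext e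
      rw [← this]; exact hz
    have hwk : (⟨w, hwS⟩ : S) ∉ fittingHall S := by
      intro hc
      have h8 : w ∈ fittingHallOf S := ⟨⟨w, hwS⟩, hc, rfl⟩
      have h9 : w ∈ ⁅S, S⁆ ⊓ W₁ := ⟨hSP.U_compl.1 h8, hw⟩
      rw [hSP.W₁_compl.2.2.1, mem_bot] at h9
      exact hw1 h9
    have hwk' : (⟨w, hwS⟩ : S) ∉ frobeniusKernel E := by rw [hk]; exact hwk
    rw [frobeniusKernel, Set.mem_setOf_eq] at hwk'
    push Not at hwk'
    obtain ⟨-, g, hg⟩ := hwk'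
    rw [Subgroup.mem_smul_pointwise_iff_exists] at hg
    obtain ⟨w', hw', e⟩ := hg
    have e' : g * w' * g⁻¹ = ⟨w, hwS⟩ := e
    have hcomm : (⟨w, hwS⟩ : S) * ⟨y, hyS⟩ = ⟨y, hyS⟩ * ⟨w, hwS⟩ := Subtype.ext (hSP.selfNormalizing.2.2.2.1 w hw y hy)
    set Y : S := g⁻¹ * ⟨y, hyS⟩ * g with hY
    have hYk : Y ∈ frobeniusKernel E := by
      rw [hk]
      have h8 : (fittingHall ↥S).Normal := Core.fittingHall_spec.1
      have := h8.conj_mem _ hyk g⁻¹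
      rwa [inv_inv] at this
    have hY1 : Y ≠ 1 := by
      intro hc
      apply hy1
      have h8 : (⟨y, hyS⟩ : S) = g * Y * g⁻¹ := by rw [hY]; group
      rw [hc] at h8
      have h9 : (⟨y, hyS⟩ : S) = 1 := by rw [h8]; group
      exact congrArg Subtype.val h9
    have hYE : Y ∉ E := by
      intro hc
      rcases hYk with h8 | h8
      · exact hY1 h8
      · apply h8 1
        rw [map_one, one_smul]; exact hc
    have h8 := hE.2.2 Y hYE
    have h9 : Y * w' * Y⁻¹ = w' := by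
      have h10 : w' = g⁻¹ * ⟨w, hwS⟩ * g := by rw [← e']; group
      rw [h10, hY]
      calc g⁻¹ * (⟨y, hyS⟩ : S) * g * (g⁻¹ * ⟨w, hwS⟩ * g) * (g⁻¹ * ⟨y, hyS⟩ * g)⁻¹ =
          g⁻¹ * ((⟨y, hyS⟩ : S) * ⟨w, hwS⟩) * ⟨y, hyS⟩⁻¹ * g := by group
        _ = g⁻¹ * ((⟨w, hwS⟩ : S) * ⟨y, hyS⟩) * ⟨y, hyS⟩⁻¹ * g := by rw [hcomm]
        _ = _ := by group
    have h10 : w' ∈ E ⊓ (MulAut.conj Y • E) := by
      refine ⟨hw', ?_⟩
      show w' ∈ MulAut.conj Y • E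
      rw [Subgroup.mem_smul_pointwise_iff_exists]
      exact ⟨w', hw', h9⟩
    rw [h8, mem_bot] at h10
    rw [h10] at e'
    have h11 : (⟨w, hwS⟩ : S) = 1 := by rw [← e']; group
    exact hw1 (congrArg Subtype.val h11)
  rcases h6 with h6 | h6
  · have hκ := (H2.Ty.tyI_iff hG hL).1 h6
    apply h5
    have h8 : x ∈ L ∧ x ≠ 1 ∧ ∃ y ∈ fittingHallOf L, y ≠ 1 ∧ x * y = y * x := by
      rw [H12.Ty.tA, if_pos h6] at h4
      exact h4
    obtain ⟨h9, h10, y, hy, hy1, hxy⟩ := h8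
    have h11 := Cfsg.Agent.H1.PF12.main1540 hG hC.con L hL h6 y hy hy1 ⟨h9, mem_centralizer_singleton_iff.2 hxy⟩
    rw [Cfsg.Agent.H2.Ty.typeA1_eq hG hL]
    rw [(Cfsg.Agent.H12.D16.fh_of_kappa_empty hG hL hκ).1] at h11
    exact ⟨h11, h10⟩
  · exact hnotF (h7 h6)

theorem ti_A0 (hG : IsMinSimpleOddOrder G) (hC : C11 G) (hS : IsCoatom S) (hSP : IsTypePWith S W₁ U W₂) :
    IsTISubset (typeA0 S) ∧ normalizer (typeA0 S) = S := by
  have hnI : ¬ TyI S := Cfsg.Agent.H1.PG8.not_TyI_of_P hG hS hSP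
  have hnI' : ¬ IsOfTypeI S := fun h => hnI (TyI.of_typeI h)
  have e : typeA0 S = tA0 S := by
    rw [typeA0, tA0, tA_eq (fun h => absurd h hnI)]
    congr 1
    ext v
    simp only [Set.mem_setOf_eq, hnI, hnI', not_false_iff, true_and]
  rw [e]
  exact Cfsg.Agent.H1.PG8.ti_of_cent hG (Cfsg.Agent.H1.PG8.con16 hG) hS (Or.inr (Or.inr rfl)) fun x hx => cent_A0 hG hC hS hSP hx

section Final
variable (hG : IsMinSimpleOddOrder G) (hC : C11 G) (hS : IsCoatom S) (hT : IsCoatom T)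
    (hSP : IsTypePWith S W₁ U W₂) (hTP : IsTypePWith T W₂ V W₁) (hST : S ⊓ T = W₁ ⊔ W₂)
    (hS25 : IsOfTypeII S ∨ IsOfTypeIII S ∨ IsOfTypeIV S ∨ IsOfTypeV S)
    (hT25 : IsOfTypeII T ∨ IsOfTypeIII T ∨ IsOfTypeIV T ∨ IsOfTypeV T)
include hG hC hS hT hSP hTP hST hS25 hT25

theorem c1543 : (IsOfTypeII S ∨ IsOfTypeIII S) ∧ (Nat.card W₁ < Nat.card W₂ → IsOfTypeII S) ∧
    IsElementaryAbelian (Nat.card W₂) (fittingHallOf S) ∧ Nat.card (fittingHallOf S) = Nat.card W₂ ^ Nat.card W₁ ∧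
    IsTISubset (typeA0 S) ∧ normalizer (typeA0 S) = S := by
  have P := pair hG hC hS hT hSP hTP hST hS25 hT25
  exact ⟨P.sS.ty, P.sS.lt, P.sS.ea, P.sS.card, ti_A0 hG hC hS hSP⟩

theorem c1547 : U ⊓ centralizer ((fittingHallOf S : Subgroup G) : Set G) = ⊥ :=
  cU hG hC (pair hG hC hS hT hSP hTP hST hS25 hT25)

theorem c1548 : normalizer (W₁ : Set G) = centralizer (W₁ : Set G) ∧ centralizer (W₁ : Set G) = fittingHallOf T ⊔ W₂ := by
  have P := pair hG hC hS hT hSP hTP hST hS25 hT25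
  exact main1548 hG P (cU hG hC P.symm)

theorem c1549 (hSII : IsOfTypeII S) (L : Subgroup G) (hL : IsCoatom L) (hNU : normalizer (U : Set G) ≤ L) :
    (∀ x ∈ fittingHallOf L, x ≠ 1 → L ⊓ centralizer ({x} : Set G) ≤ fittingHallOf L) ∧ U ≤ fittingHallOf L ∧
      ((fittingHallOf L ⊓ W₁ = ⊥ ∧ fittingHallOf L ⊔ W₁ = L) ∨
        ∃ y ∈ fittingHallOf T, fittingHallOf L ⊓ (W₁ ⊔ W₂.map (MulAut.conj y).toMonoidHom) = ⊥ ∧
          fittingHallOf L ⊔ (W₁ ⊔ W₂.map (MulAut.conj y).toMonoidHom) = L) := by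
  have P := pair hG hC hS hT hSP hTP hST hS25 hT25
  exact (main1549 hG hC P (cU hG hC P.symm) hSII hL hNU).2

end Final

end Cfsg.Agent.H12.P13S
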