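import Mathlib
import Cfsg.Agent.H1_PF12d
import Cfsg.Agent.H10_PrD5

/-! Peterfalvi §14: data attached to a coherent Frobenius pair and its Dade map -/

set_option autoImplicit false
set_option linter.all false

namespace Cfsg.Agent.H4.PF14

open Cfsg Cfsg.Agent.H3.CharBasic Cfsg.Agent.H3.CharIrr Cfsg.Agent.H3.CharComplete
  Cfsg.Agent.H3.CharMult Cfsg.Agent.H3.CharInd Cfsg.Agent.H3.CharInt Cfsg.Agent.H3.Clifford Cfsg.Agent.H3.CharQuot
  Cfsg.Agent.H10.OOClif Cfsg.Agent.H10.IndSet Cfsg.Agent.H10.IndSet2 Cfsg.Agent.H10.IndSet3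
  Cfsg.Agent.H10.IndSet7 Cfsg.Agent.H10.Coh Cfsg.Agent.H10.CycEx3
  Cfsg.Agent.H10.Coh2 Cfsg.Agent.H10.Coh3 Cfsg.Agent.H10.Coh4 Cfsg.Agent.H10.PM Cfsg.Agent.H10.Sib2 Cfsg.Agent.H10.Fin1
open scoped ComplexConjugate

/-- data attached to a pair -/
structure LD {G : Type*} [Group G] [Fintype G] (Til : G → Prop) (h e : ℕ) (T : Finset (G → ℂ)) (d : (G → ℂ) → ℕ)
    (ψ X : G → ℂ) : Prop where
  pm : ∀ t ∈ T, Pm t
  orth : ∀ t ∈ T, ∀ t' ∈ T, t ≠ t' → classInner t t' = 0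
  mem : ψ ∈ T
  dpsi : d ψ = 1
  conj_orth : ∀ t ∈ T, classInner (conjFun t) t = 0
  conj_supp : ∀ t ∈ T, ∀ g, ¬ Til g → conjFun t g = t g
  sumd : (e : ℝ) * ∑ t ∈ T, (d t : ℝ) ^ 2 = (h : ℝ) - 1
  supp : ∀ t ∈ T, ∀ g, ¬ Til g → t g = d t * ψ g
  gen : IsGeneralizedCharacter G X
  normX : classInner X X = e + 1
  oneX : classInner X (fun _ => 1) = 1
  suppX : ∀ g, ¬ Til g → X g = 0
  innerX : ∀ t ∈ T, t ≠ ψ → classInner X t = d t * (classInner X ψ + 1)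
  real : conjFun (X + ψ) = X + ψ

/-- the union of the conjugates of the cosets `a R(a)` -/
def Til {G : Type*} [Group G] (A : Set G) (R : G → Subgroup G) (g : G) : Prop :=
  ∃ a ∈ A, ∃ u ∈ R a, ∃ x : G, x * g * x⁻¹ = a * u

section
variable {G : Type*} [Group G] [Fintype G] {L : Subgroup G} [Fintype L] {A : Set G} {R : G → Subgroup G}

omit [Fintype G] [Fintype L] in
theorem dade_til {α : L → ℂ} {g : G} (hg : ¬ Til A R g) : dadeIsometry A L R α g = 0 := by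
  classical
  rw [dadeIsometry, dif_neg]
  rintro ⟨a, ha, x, u, hu, e⟩
  exact hg ⟨a, ha, u, hu, x, e⟩

theorem recip_one (hD : DadeHypothesis A L R) {α : L → ℂ} (hα : IsClassFunction L α) (hαA : ∀ x : L, (x : G) ∉ A → α x = 0) :
    classInner (dadeIsometry A L R α) (fun _ => 1) = classInner α (fun _ => 1) := by
  refine Cfsg.Agent.H10.Dade.recip hD hα hαA (IsIrr.isClass isIrr_one) (fun a _ => ?_)
  haveI : Finite (R a) := inferInstance
  rw [finsum_mem_eq_finite_toFinset_sum _ (Set.toFinite _), Finset.sum_const, nsmul_eq_mul, mul_one,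
    ← Set.ncard_eq_toFinset_card _ (Set.toFinite _)]
  have h1 : ((R a : Set G)).ncard = Nat.card (R a) := rfl
  rw [h1, inv_mul_cancel₀]
  exact_mod_cast Nat.card_pos.ne'

variable {K : Subgroup L} [hK : K.Normal] {N : Subgroup L} [hN : N.Normal]

theorem exists_LD (hD : DadeHypothesis A L R) (hA : ∀ x : L, (x : G) ∈ A ↔ x ∈ K ∧ x ≠ 1)
    (hirr : ∀ χ ∈ inducedIrrAbove K N, IsIrrCharacter L χ) (hmin : ∃ χ ∈ inducedIrrAbove K N, χ 1 = (K.index : ℂ))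
    (hodd : Odd (Nat.card L))
    (hcoh : IsCoherent (inducedIrrAbove K N) {1}ᶜ (dadeIsometry A L R)) :
    ∃ (T : Finset (G → ℂ)) (d : (G → ℂ) → ℕ) (ψ X : G → ℂ), LD (Til A R) (N.relIndex K) K.index T d ψ X ∧
      ∃ τ : (L → ℂ) → (G → ℂ), IsLinearIsometryOn (zspan (inducedIrrAbove K N)) τ ∧
        (∀ α ∈ zspanOn (inducedIrrAbove K N) {1}ᶜ, τ α = dadeIsometry A L R α) ∧
        ∃ θ ∈ inducedIrrAbove K N, θ 1 = (K.index : ℂ) ∧ ψ = τ θ ∧ X = dadeIsometry A L R (indFun K (fun _ => 1) - θ) := by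
  classical
  haveI := Fintype.ofFinite K
  obtain ⟨-, τ, hτ, hag⟩ := hcoh
  have hag' : ∀ α ∈ zspanOn (inducedIrrAbove K N) {1}ᶜ, τ α = dadeIsometry A L R α := hag
  have hpm : ∀ χ ∈ inducedIrrAbove K N, Pm (τ χ) := fun χ hχ => pm_of_iso hirr hτ hχ
  have hin : ∀ χ ∈ inducedIrrAbove K N, ∀ φ ∈ inducedIrrAbove K N, classInner (τ χ) (τ φ) = classInner χ φ :=
    fun χ hχ φ hφ => hτ.2.2.1 _ (zs_sub hχ) _ (zs_sub hφ)
  have hinj : ∀ χ ∈ inducedIrrAbove K N, ∀ φ ∈ inducedIrrAbove K N, τ χ = τ φ → χ = φ := by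
    intro χ hχ φ hφ h
    by_contra hne
    have h1 := hin χ hχ φ hφ
    rw [h, (hpm φ hφ).norm, ci_irr_ne (hirr χ hχ) (hirr φ hφ) hne] at h1
    exact one_ne_zero h1
  obtain ⟨θ, hθ, hθe⟩ := hmin
  have hbot : ∀ χ, χ ∈ inducedIrrAbove K N → χ ∈ inducedIrrAbove K ⊥ := fun χ hχ => SF_mono bot_le hχ
  have he0 : (K.index : ℂ) ≠ 0 := by exact_mod_cast Subgroup.index_ne_zero_of_finite (H := K)
  have hdex : ∀ χ, ∃ n : ℕ, χ ∈ inducedIrrAbove K N → 0 < n ∧ χ 1 = (n : ℂ) * K.index := by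
    intro χ
    by_cases h : χ ∈ inducedIrrAbove K N
    · obtain ⟨n, hn⟩ := S_deg (hbot _ h)
      exact ⟨n, fun _ => hn⟩
    · exact ⟨0, fun h' => absurd h' h⟩
  choose dS hdS using hdex
  have hdθ : dS θ = 1 := by
    have h1 := (hdS θ hθ).2
    rw [hθe] at h1
    have h2 : (dS θ : ℂ) = 1 := by
      have := mul_right_cancel₀ he0 (h1.symm.trans (one_mul _).symm)
      exact this
    exact_mod_cast h2
  have hconjS : ∀ χ ∈ inducedIrrAbove K N, conjFun χ ∈ inducedIrrAbove K N := fun χ hχ => conj_mem_above hχ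
  have hconjne : ∀ χ ∈ inducedIrrAbove K N, conjFun χ ≠ χ := by
    intro χ hχ
    have hi := hirr χ hχ
    obtain ⟨η, hη, hη1, -, rfl⟩ := hχ
    exact irr_ne_conj hodd hi (ind_ne_one hη hη1)
  have hoff : ∀ α ∈ zspan (inducedIrrAbove K N), ∀ x : L, x ∉ K → α x = 0 := fun α hα => zs_off hK (zs_mono hbot hα)
  have hzd : ∀ χ ∈ inducedIrrAbove K N, χ - conjFun χ ∈ zspanOn (inducedIrrAbove K N) {1}ᶜ := by
    intro χ hχ
    rw [zo_iff]
    refine ⟨zs_diff (zs_sub hχ) (zs_sub (hconjS χ hχ)), ?_⟩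
    rw [Pi.sub_apply, conjFun, (hdS χ hχ).2]
    simp
  have hzd2 : ∀ χ ∈ inducedIrrAbove K N, χ - (dS χ : ℤ) • θ ∈ zspanOn (inducedIrrAbove K N) {1}ᶜ := by
    intro χ hχ
    rw [zo_iff]
    refine ⟨zs_diff (zs_sub hχ) (zs_zsmul _ (zs_sub hθ)), ?_⟩
    rw [zc, Pi.sub_apply, Pi.smul_apply, smul_eq_mul, (hdS χ hχ).2, hθe]
    simp
  -- conjugation commutes with τ
  have hconj : ∀ χ ∈ inducedIrrAbove K N, conjFun (τ χ) = τ (conjFun χ) ∧ classInner (conjFun (τ χ)) (τ χ) = 0 := by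
    intro χ hχ
    have h1 : τ χ - τ (conjFun χ) = dadeIsometry A L R (χ - conjFun χ) := by
      rw [← hag' _ (hzd χ hχ), iso_diff hτ (zs_sub hχ) (zs_sub (hconjS χ hχ)) (zs_neg (zs_sub (hconjS χ hχ)))]
    have h2 : conjFun (τ χ) - conjFun (τ (conjFun χ)) = -(τ χ - τ (conjFun χ)) := by
      rw [← conj_sub, h1, ← Cfsg.Agent.H10.PrD5.dade_conj, conj_sub, conj_conj, ← neg_sub χ (conjFun χ), ← Cfsg.Agent.H10.PrD5.dade_neg]
    have hab : classInner (τ (conjFun χ)) (τ χ) = 0 := by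
      rw [hin _ (hconjS χ hχ) _ hχ]
      exact ci_irr_ne (hirr _ (hconjS χ hχ)) (hirr _ hχ) (hconjne χ hχ)
    have h3 : conjFun (τ χ) + τ χ = τ (conjFun χ) + conjFun (τ (conjFun χ)) := by
      linear_combination h2
    have h4 := congrArg (fun f => classInner f (τ χ)) h3
    simp only [ci_add_left] at h4
    rw [(hpm χ hχ).norm, hab, zero_add] at h4
    have hPa := hpm χ hχ
    have hPb := hpm _ (hconjS χ hχ)
    have hz : classInner (conjFun (τ χ)) (τ χ) = 0 := by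
      rcases Pm.inner (pm_conj hPa) hPa with h5 | ⟨-, h5⟩ | ⟨h5, -⟩
      · exact h5
      · exfalso
        rw [h5] at h4
        rcases Pm.inner (pm_conj hPb) hPa with h6 | ⟨-, h6⟩ | ⟨-, h6⟩ <;> rw [h6] at h4 <;> norm_num at h4
      · exfalso
        have h8 := pm_one_real hPa
        have h9 := congrFun h5 1
        rw [Pi.neg_apply, h8] at h9
        apply Pm.one_ne hPa
        linear_combination (1/2 : ℂ) * h9
    refine ⟨?_, hz⟩
    rw [hz, zero_add] at h4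
    have h5 := Pm.eq_of_inner (pm_conj hPb) hPa h4.symm
    rw [h5, conj_conj']
  -- definitions of the data
  obtain ⟨T, hT⟩ : ∃ T : Finset (G → ℂ), ∀ t, t ∈ T ↔ ∃ χ ∈ inducedIrrAbove K N, τ χ = t := by
    refine ⟨(SF K N).image τ, fun t => ?_⟩
    rw [Finset.mem_image]
    constructor
    · rintro ⟨χ, hχ, e⟩; exact ⟨χ, mem_SF.1 hχ, e⟩
    · rintro ⟨χ, hχ, e⟩; exact ⟨χ, mem_SF.2 hχ, e⟩
  obtain ⟨d, hd⟩ : ∃ d : (G → ℂ) → ℕ, ∀ χ ∈ inducedIrrAbove K N, d (τ χ) = dS χ := by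
    refine ⟨fun t => if h : ∃ χ ∈ inducedIrrAbove K N, τ χ = t then dS h.choose else 0, fun χ hχ => ?_⟩
    have h : ∃ χ' ∈ inducedIrrAbove K N, τ χ' = τ χ := ⟨χ, hχ, rfl⟩
    show (if h : ∃ χ' ∈ inducedIrrAbove K N, τ χ' = τ χ then dS h.choose else 0) = dS χ
    rw [dif_pos h, hinj _ h.choose_spec.1 _ hχ h.choose_spec.2]
  have hsuppI : ∀ α ∈ zspanOn (inducedIrrAbove K N) {1}ᶜ, ∀ g, ¬ Til A R g → τ α g = 0 := by
    intro α hα g hg
    rw [hag' α hα]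
    exact dade_til hg
  have hα1 : (indFun K (fun _ => 1) - θ) 1 = 0 := by
    rw [Pi.sub_apply, ind_one, hθe, mul_one, sub_self]
  have hαoff : ∀ x : L, x ∉ K → (indFun K (fun _ => 1) - θ) x = 0 := by
    intro x hx
    rw [Pi.sub_apply, ind_of_not_mem hK _ hx, hoff θ (zs_sub hθ) x hx, sub_zero]
  have hαgen : IsGeneralizedCharacter L (indFun K (fun _ => 1) - θ) :=
    IsGen.sub (IsGen.ind (IsGen.of_irr isIrr_one)) (IsGen.of_irr (hirr θ hθ))
  have hsA : ∀ f : L → ℂ, (∀ x : L, x ∉ K → f x = 0) → f 1 = 0 → ∀ x : L, (x : G) ∉ A → f x = 0 := by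
    intro f h1 h2 x hx
    by_cases hxK : x ∈ K
    · by_cases hx1 : x = 1
      · rw [hx1, h2]
      · exact absurd ((hA x).2 ⟨hxK, hx1⟩) hx
    · exact h1 x hxK
  have hTIi : ∀ f f' : L → ℂ, IsClassFunction L f → IsClassFunction L f' → (∀ x : L, x ∉ K → f x = 0) → (∀ x : L, x ∉ K → f' x = 0) → f 1 = 0 → f' 1 = 0 →
      classInner (dadeIsometry A L R f) (dadeIsometry A L R f') = classInner f f' := by
    intro f f' hf hf' h h' h1 h1'
    exact Cfsg.Agent.H10.Dade.isometry hD hf (hsA f h h1) hf'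
  have h1θ : classInner θ (fun _ => (1 : ℂ)) = 0 := by
    apply ci_irr_ne (hirr θ hθ) isIrr_one
    intro h
    apply hconjne θ hθ
    rw [h]; funext x; simp [conjFun]
  refine ⟨T, d, τ θ, dadeIsometry A L R (indFun K (fun _ => 1) - θ), ⟨?_, ?_, ?_, ?_, ?_, ?_, ?_, ?_, ?_, ?_, ?_, ?_, ?_, ?_⟩,
    τ, hτ, hag', θ, hθ, hθe, rfl, rfl⟩
  · intro t ht
    obtain ⟨χ, hχ, rfl⟩ := (hT t).1 ht
    exact hpm χ hχ
  · intro t ht t' ht' hne
    obtain ⟨χ, hχ, rfl⟩ := (hT t).1 ht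
    obtain ⟨φ, hφ, rfl⟩ := (hT t').1 ht'
    rw [hin χ hχ φ hφ]
    exact ci_irr_ne (hirr χ hχ) (hirr φ hφ) fun h => hne (by rw [h])
  · exact (hT _).2 ⟨θ, hθ, rfl⟩
  · rw [hd θ hθ, hdθ]
  · intro t ht
    obtain ⟨χ, hχ, rfl⟩ := (hT t).1 ht
    exact (hconj χ hχ).2
  · intro t ht g hg
    obtain ⟨χ, hχ, rfl⟩ := (hT t).1 ht
    have h1 := hsuppI _ (hzd χ hχ) g hg
    rw [iso_diff hτ (zs_sub hχ) (zs_sub (hconjS χ hχ)) (zs_neg (zs_sub (hconjS χ hχ))), Pi.sub_apply] at h1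
    rw [(hconj χ hχ).1]
    exact (sub_eq_zero.1 h1).symm
  · have hTe : T = (SF K N).image τ := by
      ext t
      rw [hT, Finset.mem_image]
      constructor
      · rintro ⟨χ, hχ, e⟩; exact ⟨χ, mem_SF.2 hχ, e⟩
      · rintro ⟨χ, hχ, e⟩; exact ⟨χ, mem_SF.1 hχ, e⟩
    rw [hTe, Finset.sum_image (fun χ hχ φ hφ h => hinj χ (mem_SF.1 hχ) φ (mem_SF.1 hφ) h)]
    have h1 := sum_SF hK N
    have he : (K.index : ℝ) ≠ 0 := by exact_mod_cast Subgroup.index_ne_zero_of_finite (H := K)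
    rw [Finset.sum_congr rfl (g := fun χ => (K.index : ℝ) ^ 2 * (dS χ : ℝ) ^ 2), ← Finset.mul_sum] at h1
    · rw [Finset.sum_congr rfl (g := fun χ => (dS χ : ℝ) ^ 2) (fun χ hχ => by rw [hd χ (mem_SF.1 hχ)])]
      apply mul_left_cancel₀ he
      rw [← h1]; ring
    · intro χ hχ
      rw [ci_irr_self (hirr χ (mem_SF.1 hχ)), (hdS χ (mem_SF.1 hχ)).2, Complex.one_re, div_one, ← Nat.cast_mul, Complex.natCast_re]
      push_cast; ring
  · intro t ht g hg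
    obtain ⟨χ, hχ, rfl⟩ := (hT t).1 ht
    have h1 := hsuppI _ (hzd2 χ hχ) g hg
    rw [iso_diff hτ (zs_sub hχ) (zs_zsmul _ (zs_sub hθ)) (zs_neg (zs_zsmul _ (zs_sub hθ))), hτ.2.1 _ (zs_sub hθ), zc, Pi.sub_apply,
      Pi.smul_apply, smul_eq_mul] at h1
    rw [hd χ hχ]
    push_cast at h1
    exact sub_eq_zero.1 h1
  · exact Cfsg.Agent.H10.Dade3.dade_gen hD hαgen (hsA _ hαoff hα1)
  · rw [hTIi _ _ (IsGen.isClass hαgen) (IsGen.isClass hαgen) hαoff hαoff hα1 hα1, ci_sub_left, ci_sub_right, ci_sub_right, one_norm, one_orth (hbot _ hθ),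
      ci_irr_self (hirr θ hθ), ← ci_conj_symm, one_orth (hbot _ hθ), map_zero]
    ring
  · rw [recip_one hD (IsGen.isClass hαgen) (hsA _ hαoff hα1), ci_sub_left, one_one, h1θ, sub_zero]
  · intro g hg
    exact dade_til hg
  · intro t ht hne
    obtain ⟨χ, hχ, rfl⟩ := (hT t).1 ht
    have hne' : χ ≠ θ := fun h => hne (by rw [h])
    have h1 : classInner (dadeIsometry A L R (indFun K (fun _ => 1) - θ)) (dadeIsometry A L R (χ - (dS χ : ℤ) • θ)) = dS χ := by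
      rw [hTIi _ _ (IsGen.isClass hαgen) (IsGen.isClass (zs_gen (fun χ hχ => IsGen.of_irr (hirr χ hχ)) (hzd2 χ hχ).1)) hαoff (hoff _ (hzd2 χ hχ).1) hα1
        (zo_iff.1 (hzd2 χ hχ)).2, zc,
        ci_sub_left, ci_sub_right, ci_sub_right, ci_smul_right, ci_smul_right, one_orth (hbot _ hθ), one_orth (hbot _ hχ), ci_irr_self (hirr θ hθ),
        ci_irr_ne (hirr θ hθ) (hirr χ hχ) hne'.symm]
      simp
    rw [← hag' _ (hzd2 χ hχ), iso_diff hτ (zs_sub hχ) (zs_zsmul _ (zs_sub hθ)) (zs_neg (zs_zsmul _ (zs_sub hθ))), hτ.2.1 _ (zs_sub hθ), zc,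
      ci_sub_right, ci_smul_right] at h1
    rw [hd χ hχ]
    push_cast at h1
    rw [Complex.conj_natCast] at h1
    linear_combination h1
  · rw [conj_add, ← Cfsg.Agent.H10.PrD5.dade_conj, (hconj θ hθ).1, conj_sub, conj_ind]
    have h1 : (conjFun fun _ : K => (1 : ℂ)) = fun _ => 1 := by funext x; simp [conjFun]
    have h2 : τ θ - τ (conjFun θ) = dadeIsometry A L R (θ - conjFun θ) := by
      rw [← hag' _ (hzd θ hθ), iso_diff hτ (zs_sub hθ) (zs_sub (hconjS θ hθ)) (zs_neg (zs_sub (hconjS θ hθ)))]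
    rw [h1, Cfsg.Agent.H10.PrD5.dade_sub]
    rw [Cfsg.Agent.H10.PrD5.dade_sub] at h2 ⊢
    linear_combination -h2

end

end Cfsg.Agent.H4.PF14
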