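import Mathlib
import Cfsg.Agent.H4_PF14a

/-! Peterfalvi §14: the norm inequality for a coherent Frobenius pair; counting the Dade support -/

set_option autoImplicit false
set_option linter.all false

namespace Cfsg.Agent.H4.PF14

open Cfsg Cfsg.Agent.H3.CharBasic Cfsg.Agent.H3.CharIrr Cfsg.Agent.H3.CharComplete
  Cfsg.Agent.H3.CharMult Cfsg.Agent.H3.CharInd Cfsg.Agent.H3.CharInt Cfsg.Agent.H3.Clifford Cfsg.Agent.H3.CharQuot
  Cfsg.Agent.H10.OOClif Cfsg.Agent.H10.IndSet Cfsg.Agent.H10.IndSet2 Cfsg.Agent.H10.IndSet3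
  Cfsg.Agent.H10.IndSet7 Cfsg.Agent.H10.Coh Cfsg.Agent.H10.CycEx3 Cfsg.Agent.H1.PF12
  Cfsg.Agent.H10.Coh2 Cfsg.Agent.H10.Coh3 Cfsg.Agent.H10.Coh4 Cfsg.Agent.H10.PM Cfsg.Agent.H10.Sib2 Cfsg.Agent.H10.Fin1
open scoped ComplexConjugate

section
variable {G : Type*} [Group G] [Fintype G] {L : Subgroup G} [Fintype L] {A : Set G} {R : G → Subgroup G}
variable {K : Subgroup L} [hK : K.Normal]

open Classical in
theorem norm_til (hD : DadeHypothesis A L R) (hA : ∀ x : L, (x : G) ∈ A ↔ x ∈ K ∧ x ≠ 1)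
    (hC : ∀ k ∈ K, k ≠ 1 → Subgroup.centralizer ({k} : Set L) ≤ K) (hodd : Odd (Nat.card L))
    {τ : (L → ℂ) → (G → ℂ)} (hτ : IsLinearIsometryOn (zspan (inducedIrrAbove K ⊥)) τ)
    (hag : ∀ α ∈ zspanOn (inducedIrrAbove K ⊥) {1}ᶜ, τ α = dadeIsometry A L R α)
    {θ : L → ℂ} (hθ : θ ∈ inducedIrrAbove K ⊥) (hθe : θ 1 = (K.index : ℂ))
    (hX : classInner (dadeIsometry A L R (indFun K (fun _ => 1) - θ)) (τ θ) = -1) :
    (Nat.card G : ℝ) * (1 - (K.index : ℝ) / Nat.card K) ≤ ∑ g : G, (if Til A R g then ‖τ θ g‖ ^ 2 else 0) := by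
  haveI := Fintype.ofFinite K
  have hirr : ∀ χ ∈ inducedIrrAbove K ⊥, IsIrrCharacter L χ := fun χ hχ => S_irr hC hχ
  have he0 : (K.index : ℂ) ≠ 0 := by exact_mod_cast Subgroup.index_ne_zero_of_finite (H := K)
  have hoff : ∀ χ ∈ inducedIrrAbove K ⊥, ∀ x : L, x ∉ K → χ x = 0 := by
    intro χ hχ x hx
    obtain ⟨θ, hθ, hθ1, -, rfl⟩ := hχ
    exact ind_of_not_mem hK θ hx
  set ψ := τ θ with hψdef
  have hψ : Pm ψ := pm_of_iso hirr hτ hθ
  have hψc := hψ.isClass
  have hφ0 := hoff θ hθ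
  have hφi := hirr θ hθ
  have hconjne : conjFun θ ≠ θ := by
    obtain ⟨η, hη, hη1, -, rfl⟩ := hθ
    exact irr_ne_conj hodd hφi (ind_ne_one hη hη1)
  set g : L → ℂ := fun x => if x ∈ K ∧ x ≠ 1 then av R ψ x - θ x else 0 with hg
  have hgc : IsClassFunction L g := by
    intro x y
    have hiff : (y * x * y⁻¹ ∈ K ∧ y * x * y⁻¹ ≠ 1) ↔ (x ∈ K ∧ x ≠ 1) := by
      constructor
      · rintro ⟨h1, h2⟩
        refine ⟨?_, fun h => h2 (by rw [h]; group)⟩
        have := hK.conj_mem _ h1 y⁻¹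
        have e : y⁻¹ * (y * x * y⁻¹) * y⁻¹⁻¹ = x := by group
        rwa [e] at this
      · rintro ⟨h1, h2⟩
        exact ⟨hK.conj_mem _ h1 y, fun h => h2 (conj_eq_one_iff.1 h)⟩
    show (if y * x * y⁻¹ ∈ K ∧ y * x * y⁻¹ ≠ 1 then av R ψ ((y * x * y⁻¹ : L) : G) - θ (y * x * y⁻¹) else 0) =
      (if x ∈ K ∧ x ≠ 1 then av R ψ x - θ x else 0)
    by_cases h : x ∈ K ∧ x ≠ 1
    · rw [if_pos h, if_pos (hiff.2 h), (IsIrr.isClass hφi) x y]
      have h1 := av_conj hD hψc ((hA x).2 h) y.2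
      have e : ((y * x * y⁻¹ : L) : G) = y * x * (y : G)⁻¹ := by simp
      rw [e, h1]
    · rw [if_neg h, if_neg (fun h' => h (hiff.1 h'))]
  have hrec : ∀ α : L → ℂ, IsClassFunction L α → (∀ x : L, x ∉ K → α x = 0) → α 1 = 0 →
      classInner (dadeIsometry A L R α) ψ = classInner α θ + classInner α g := by
    intro α hα h1 h2
    have hαA : ∀ x : L, (x : G) ∉ A → α x = 0 := by
      intro x hx
      by_cases hxK : x ∈ K
      · by_cases hx1 : x = 1
        · rw [hx1, h2]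
        · exact absurd ((hA x).2 ⟨hxK, hx1⟩) hx
      · exact h1 x hxK
    rw [recip' hD hα hαA hψc, ← ci_add_right, classInner, classInner]
    congr 1
    refine Finset.sum_congr rfl fun x _ => ?_
    by_cases h : x ∈ K ∧ x ≠ 1
    · congr 2
      show av R ψ x = θ x + (if x ∈ K ∧ x ≠ 1 then av R ψ x - θ x else 0)
      rw [if_pos h]; ring
    · have : α x = 0 := by
        by_cases hxK : x ∈ K
        · by_cases hx1 : x = 1
          · rw [hx1, h2]
          · exact absurd ⟨hxK, hx1⟩ h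
        · exact h1 x hxK
      rw [this, zero_mul, zero_mul]
  have hXgen : ∀ α ∈ zspan (inducedIrrAbove K ⊥), IsGeneralizedCharacter L α := fun α hα =>
    zs_gen (fun χ hχ => IsGen.of_irr (hirr χ hχ)) hα
  have hlam : ∀ lam ∈ inducedIrrAbove K ⊥, classInner g lam = (classInner g θ / K.index) * lam 1 := by
    intro lam hl
    obtain ⟨d, hd0, hd⟩ := S_deg (K := K) hl
    have hmem : lam - (d : ℤ) • θ ∈ zspanOn (inducedIrrAbove K ⊥) {1}ᶜ := by
      rw [zo_iff]
      refine ⟨zs_diff (zs_sub hl) (zs_zsmul _ (zs_sub hθ)), ?_⟩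
      rw [zc, Pi.sub_apply, Pi.smul_apply, smul_eq_mul, hd, hθe]
      simp
    have h1 := hrec (lam - (d : ℤ) • θ) (IsGen.isClass (hXgen _ hmem.1)) (by
      intro x hx
      rw [zc, Pi.sub_apply, Pi.smul_apply, hoff lam hl x hx, hφ0 x hx]; simp) (zo_iff.1 hmem).2
    rw [← hag _ hmem, hψdef, hτ.2.2.1 _ hmem.1 _ (zs_sub hθ)] at h1
    have h2 : classInner (lam - (d : ℤ) • θ) g = 0 := by linear_combination -h1
    rw [zc, ci_sub_left, ci_smul_left] at h2
    push_cast at h2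
    have h3 := congrArg conj h2
    rw [map_sub, map_mul, ci_conj_symm, ci_conj_symm, Complex.conj_natCast, map_zero] at h3
    rw [hd]
    field_simp
    linear_combination h3
  have hval := diff_val hgc K (classInner g θ / K.index) (fun lam hl hz => hlam lam (mem_S hC hl hz))
  have hg1 : g 1 = 0 := by
    simp only [hg]
    rw [if_neg (fun h => h.2 rfl)]
  obtain ⟨v, hv⟩ : ∃ v : ℂ, ∀ z ∈ K, z ≠ 1 → av R ψ ((z : L) : G) = θ z + v := by
    refine ⟨-(classInner g θ / K.index * Nat.card L), fun z hz hz1 => ?_⟩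
    have h1 := hval z hz hz1
    rw [hg1] at h1
    have h2 : g z = av R ψ z - θ z := by
      simp only [hg]
      rw [if_pos ⟨hz, hz1⟩]
    rw [h2] at h1
    linear_combination -h1
  have h1ne : classInner θ (fun _ => (1 : ℂ)) = 0 := by
    apply ci_irr_ne hφi isIrr_one
    intro h
    apply hconjne
    rw [h]; funext x; simp [conjFun]
  have hβ1 : (indFun K (fun _ => 1) - θ) 1 = 0 := by
    rw [Pi.sub_apply, ind_one, hθe, mul_one, sub_self]
  have hβoff : ∀ x : L, x ∉ K → (indFun K (fun _ => 1) - θ) x = 0 := by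
    intro x hx
    rw [Pi.sub_apply, ind_of_not_mem hK _ hx, hφ0 x hx, sub_zero]
  have hβgen : IsGeneralizedCharacter L (indFun K (fun _ => 1) - θ) :=
    IsGen.sub (IsGen.ind (IsGen.of_irr isIrr_one)) (IsGen.of_irr hφi)
  have hv0 : v = 0 := by
    have h1 := hrec _ (IsGen.isClass hβgen) hβoff hβ1
    have h2 : classInner (indFun K (fun _ => 1) - θ) g = conj v := by
      have h3 : classInner g (indFun K (fun _ => 1) - θ) = v * classInner (fun _ => 1) (indFun K (fun _ => 1) - θ) := by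
        apply inner_const
        intro x hx
        have hxK : x ∈ K := by by_contra h; exact hx (hβoff x h)
        have hx1 : x ≠ 1 := by rintro rfl; exact hx hβ1
        simp only [hg]
        rw [if_pos ⟨hxK, hx1⟩, hv x hxK hx1]; ring
      have h4 : classInner (fun _ => (1 : ℂ)) (indFun K (fun _ => 1) - θ) = 1 := by
        rw [← ci_conj_symm, ci_sub_left, one_one, h1ne, sub_zero, map_one]
      rw [h4, mul_one] at h3
      rw [← ci_conj_symm, h3]
    have h3 : classInner (indFun K (fun _ => 1) - θ) θ = -1 := by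
      rw [ci_sub_left, one_orth hθ, ci_irr_self hφi]; ring
    rw [h2, h3, hX] at h1
    have h4 : conj v = 0 := by linear_combination -h1
    have := congrArg conj h4
    rwa [Complex.conj_conj, map_zero] at this
  subst hv0
  have s2 : ∑ k : K, θ k * conj (θ k) = (K.index : ℂ) * Nat.card K := by
    rw [← sum_K (f := fun x : L => θ x * conj (θ x)) (fun x hx => by rw [hφ0 x hx, zero_mul])]
    have h1 := ci_irr_self hφi
    rw [classInner] at h1
    have h2 : (Nat.card L : ℂ) ≠ 0 := by exact_mod_cast Nat.card_pos.ne'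
    have h3 : (K.index : ℂ) * Nat.card K = Nat.card L := by
      rw [← K.card_mul_index]; push_cast; ring
    rw [h3]
    field_simp at h1
    exact h1
  have h1 : ∑ᶠ x ∈ {x : L | (x : G) ∈ A}, ‖av R ψ x‖ ^ 2 = ∑ x : L, (if x ∈ K then (if x ≠ 1 then ‖av R ψ x‖ ^ 2 else 0) else 0) := by
    rw [finsum_mem_eq_finite_toFinset_sum _ (Set.toFinite _)]
    rw [Finset.sum_congr rfl (g := fun x : L => if (x : G) ∈ A then ‖av R ψ x‖ ^ 2 else 0) (s₁ := (Set.toFinite {x : L | (x : G) ∈ A}).toFinset) (by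
      intro x hx
      rw [if_pos]
      simpa using hx), Finset.sum_ite, Finset.sum_const_zero, add_zero]
    rw [Finset.filter_true_of_mem (by intro x hx; simpa using hx)]
    rw [← Finset.sum_filter, ← Finset.sum_filter]
    refine Finset.sum_congr ?_ fun _ _ => rfl
    ext x
    simp only [Set.Finite.mem_toFinset, Set.mem_setOf_eq, Finset.mem_filter, Finset.mem_univ, true_and]
    exact hA x
  have h2 : ∀ x : L, ((if x ∈ K then (if x ≠ 1 then ‖av R ψ x‖ ^ 2 else 0) else 0 : ℝ) : ℂ) =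
      if x ∈ K then (if x ≠ 1 then θ x * conj (θ x) else 0) else 0 := by
    intro x
    split_ifs with h3 h4
    · rw [hv x h3 h4, add_zero, Complex.mul_conj, Complex.normSq_eq_norm_sq]
    · simp
    · simp
  have h3 : ((∑ᶠ x ∈ {x : L | (x : G) ∈ A}, ‖av R ψ x‖ ^ 2 : ℝ) : ℂ) =
      (((K.index : ℝ) * Nat.card K - (K.index : ℝ) ^ 2 : ℝ) : ℂ) := by
    rw [h1, Complex.ofReal_sum, Finset.sum_congr rfl fun x _ => h2 x, sum_K (K := K) (by
      intro x hx; rw [if_neg hx])]
    have h4 : ∀ k : K, (if (k : L) ∈ K then (if (k : L) ≠ 1 then θ k * conj (θ k) else 0) else 0) =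
        θ k * conj (θ k) - (if (k : K) = 1 then (K.index : ℂ) ^ 2 else 0) := by
      intro k
      rw [if_pos k.2]
      by_cases hk : k = 1
      · rw [if_pos hk, if_neg (by rw [hk]; simp), hk, OneMemClass.coe_one, hθe]
        simp; ring
      · rw [if_neg hk, if_pos (show (k : L) ≠ 1 from fun h => hk (Subtype.ext h)), sub_zero]
    rw [Finset.sum_congr rfl fun k _ => h4 k, Finset.sum_sub_distrib, Finset.sum_ite_eq' Finset.univ (1 : K),
      if_pos (Finset.mem_univ _), s2]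
    push_cast
    ring
  have h3' : ∑ᶠ x ∈ {x : L | (x : G) ∈ A}, ‖av R ψ x‖ ^ 2 = (K.index : ℝ) * Nat.card K - (K.index : ℝ) ^ 2 := by exact_mod_cast h3
  have h5 := Cfsg.Agent.H10.Dade.norm_ineq hD (χ := ψ) (ψ := fun x : L => av R ψ x) hψc (fun a _ => rfl)
  rw [h3'] at h5
  have h6 : ∑ᶠ g ∈ {g : G | ∃ a ∈ A, ∃ u ∈ R a, ∃ x : G, x * g * x⁻¹ = a * u}, ‖ψ g‖ ^ 2 = ∑ g : G, (if Til A R g then ‖ψ g‖ ^ 2 else 0) := by
    rw [finsum_mem_eq_finite_toFinset_sum _ (Set.toFinite _), ← Finset.sum_filter]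
    refine Finset.sum_congr ?_ fun _ _ => rfl
    ext x
    simp only [Set.Finite.mem_toFinset, Set.mem_setOf_eq, Finset.mem_filter, Finset.mem_univ, true_and]
    rfl
  rw [h6] at h5
  have hL : (Nat.card L : ℝ) = (Nat.card K : ℝ) * K.index := by rw [← K.card_mul_index]; push_cast; ring
  have hGpos : (0 : ℝ) < Nat.card G := by exact_mod_cast Nat.card_pos
  have hKpos : (0 : ℝ) < Nat.card K := by exact_mod_cast Nat.card_pos
  have hepos : (0 : ℝ) < K.index := by exact_mod_cast Nat.pos_of_ne_zero Subgroup.index_ne_zero_of_finite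
  have h7 : (Nat.card L : ℝ)⁻¹ * ((K.index : ℝ) * Nat.card K - (K.index : ℝ) ^ 2) = 1 - (K.index : ℝ) / Nat.card K := by
    rw [hL]; field_simp
  rw [h7] at h5
  calc (Nat.card G : ℝ) * (1 - (K.index : ℝ) / Nat.card K) ≤ (Nat.card G : ℝ) * ((Nat.card G : ℝ)⁻¹ * ∑ g : G, (if Til A R g then ‖ψ g‖ ^ 2 else 0)) :=
        mul_le_mul_of_nonneg_left h5 hGpos.le
    _ = _ := by rw [← mul_assoc, mul_inv_cancel₀ hGpos.ne', one_mul]

open Classical in
/-- counting the Dade support -/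
theorem card_til (hD : DadeHypothesis A L R) (hA : ∀ x : L, (x : G) ∈ A ↔ x ∈ K ∧ x ≠ 1) :
    ((Finset.univ.filter (fun g : G => Til A R g)).card : ℝ) * (Nat.card L : ℝ) = (Nat.card G : ℝ) * ((Nat.card K : ℝ) - 1) := by
  haveI := Fintype.ofFinite K
  set α : L → ℂ := fun x => if x ∈ K ∧ x ≠ 1 then 1 else 0 with hα
  have hαc : IsClassFunction L α := by
    intro x y
    have hiff : (y * x * y⁻¹ ∈ K ∧ y * x * y⁻¹ ≠ 1) ↔ (x ∈ K ∧ x ≠ 1) := by
      constructor
      · rintro ⟨h1, h2⟩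
        refine ⟨?_, fun h => h2 (by rw [h]; group)⟩
        have := hK.conj_mem _ h1 y⁻¹
        have e : y⁻¹ * (y * x * y⁻¹) * y⁻¹⁻¹ = x := by group
        rwa [e] at this
      · rintro ⟨h1, h2⟩
        exact ⟨hK.conj_mem _ h1 y, fun h => h2 (conj_eq_one_iff.1 h)⟩
    show (if y * x * y⁻¹ ∈ K ∧ y * x * y⁻¹ ≠ 1 then (1 : ℂ) else 0) = if x ∈ K ∧ x ≠ 1 then 1 else 0
    simp only [hiff]
  have hαA : ∀ x : L, (x : G) ∉ A → α x = 0 := by
    intro x hx
    simp only [hα]
    rw [if_neg (fun h => hx ((hA x).2 h))]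
  have hval : ∀ g : G, dadeIsometry A L R α g = if Til A R g then 1 else 0 := by
    intro g
    by_cases hg : Til A R g
    · rw [if_pos hg]
      obtain ⟨a, ha, u, hu, x, e⟩ := hg
      have hal : a ∈ L := hD.subset ha
      have h1 := Cfsg.Agent.H10.Dade.dade_apply hD hαc (a := ⟨a, hal⟩) ha hu e
      rw [h1]
      simp only [hα]
      rw [if_pos ((hA ⟨a, hal⟩).1 ha)]
    · rw [if_neg hg, dade_til hg]
  have h1 := Cfsg.Agent.H10.Dade.isometry hD hαc hαA hαc
  rw [classInner, classInner] at h1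
  have h2 : ∑ g : G, dadeIsometry A L R α g * conj (dadeIsometry A L R α g) = ((Finset.univ.filter (fun g : G => Til A R g)).card : ℂ) := by
    rw [Finset.card_filter]
    push_cast
    refine Finset.sum_congr rfl fun g _ => ?_
    rw [hval]
    split_ifs <;> simp
  have h3 : ∑ x : L, α x * conj (α x) = (Nat.card K : ℂ) - 1 := by
    rw [sum_K (K := K) (f := fun x => α x * conj (α x)) (by
      intro x hx
      simp only [hα]
      rw [if_neg (fun h => hx h.1), zero_mul])]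
    have h4 : ∀ k : K, α k * conj (α k) = 1 - (if k = 1 then 1 else 0) := by
      intro k
      simp only [hα]
      by_cases hk : k = 1
      · rw [if_pos hk, if_neg (by rw [hk]; simp)]; simp
      · rw [if_neg hk, if_pos ⟨k.2, fun h => hk (Subtype.ext h)⟩]; simp
    rw [Finset.sum_congr rfl fun k _ => h4 k, Finset.sum_sub_distrib, Finset.sum_ite_eq' Finset.univ (1 : K), if_pos (Finset.mem_univ _),
      Finset.sum_const, Finset.card_univ, nsmul_eq_mul, mul_one, Nat.card_eq_fintype_card]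
  rw [h2, h3] at h1
  have hG : (Nat.card G : ℂ) ≠ 0 := by exact_mod_cast Nat.card_pos.ne'
  have hL : (Nat.card L : ℂ) ≠ 0 := by exact_mod_cast Nat.card_pos.ne'
  field_simp at h1
  have h5 : (((Finset.univ.filter (fun g : G => Til A R g)).card : ℝ) : ℂ) * ((Nat.card L : ℝ) : ℂ) = ((Nat.card G : ℝ) : ℂ) * (((Nat.card K : ℝ) : ℂ) - 1) := by
    push_cast
    linear_combination h1
  exact_mod_cast h5

end

end Cfsg.Agent.H4.PF14
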