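import Mathlib
import Cfsg.Agent.H4_PF14b
import Cfsg.Agent.H10_Fin3
import Cfsg.Agent.H10_PrD6

/-! Peterfalvi §14: parity and norm arguments -/

set_option autoImplicit false
set_option linter.all false

namespace Cfsg.Agent.H4.PF14

open Cfsg Cfsg.Agent.H3.CharBasic Cfsg.Agent.H3.CharIrr Cfsg.Agent.H3.CharComplete
  Cfsg.Agent.H3.CharMult Cfsg.Agent.H3.CharInd Cfsg.Agent.H3.CharInt
  Cfsg.Agent.H10.Coh Cfsg.Agent.H10.CycEx3 Cfsg.Agent.H10.CycTI Cfsg.Agent.H10.CycTI2 Cfsg.Agent.H10.CycTI3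
  Cfsg.Agent.H10.Coh2 Cfsg.Agent.H10.Coh3 Cfsg.Agent.H10.Coh4 Cfsg.Agent.H10.PM Cfsg.Agent.H10.Sib2 Cfsg.Agent.H10.Fin1 Cfsg.Agent.H10.Fin2
open scoped ComplexConjugate

section
variable {G : Type*} [Group G] [Fintype G]

theorem inner_disj' {f f' : G → ℂ} (h : ∀ g, f g = 0 ∨ f' g = 0) : classInner f f' = 0 := by
  rw [classInner, Finset.sum_eq_zero, mul_zero]
  intro g _
  rcases h g with h | h <;> rw [h] <;> simp

theorem gen_real {β t : G → ℂ} (hβ : IsGeneralizedCharacter G β) (ht : IsGeneralizedCharacter G t) :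
    classInner β t = (((classInner β t).re : ℝ) : ℂ) := by
  obtain ⟨n, hn⟩ := ci_gen_int hβ ht
  rw [hn]; simp

theorem bes {s : Finset (G → ℂ)} (hpm : ∀ t ∈ s, Pm t) (horth : ∀ a ∈ s, ∀ b ∈ s, a ≠ b → classInner a b = 0) {β : G → ℂ}
    (hβ : IsGeneralizedCharacter G β) : ∑ t ∈ s, (classInner β t).re ^ 2 ≤ (classInner β β).re := by
  classical
  have hb := bessel_le s (fun t => t) β (fun t => (classInner β t).re) (fun _ => 1)
    (fun a ha b hb => by
      split_ifs with hab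
      · rw [hab, (hpm b hb).norm]; simp
      · exact horth a ha b hb hab) (fun _ _ => one_pos) (fun t ht => gen_real hβ (hpm t ht).gen)
  simpa using hb

theorem bes2 {s₁ s₂ : Finset (G → ℂ)} (h1 : ∀ t ∈ s₁, Pm t) (h2 : ∀ t ∈ s₂, Pm t)
    (o1 : ∀ a ∈ s₁, ∀ b ∈ s₁, a ≠ b → classInner a b = 0) (o2 : ∀ a ∈ s₂, ∀ b ∈ s₂, a ≠ b → classInner a b = 0)
    (o : ∀ a ∈ s₁, ∀ b ∈ s₂, classInner a b = 0) {β : G → ℂ} (hβ : IsGeneralizedCharacter G β) :
    ∑ t ∈ s₁, (classInner β t).re ^ 2 + ∑ t ∈ s₂, (classInner β t).re ^ 2 ≤ (classInner β β).re := by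
  classical
  have hd : Disjoint s₁ s₂ := by
    rw [Finset.disjoint_left]
    intro t ht ht'
    have := o t ht t ht'
    rw [(h1 t ht).norm] at this
    exact one_ne_zero this
  rw [← Finset.sum_union hd]
  apply bes _ _ hβ
  · intro t ht
    rcases Finset.mem_union.1 ht with h | h
    · exact h1 t h
    · exact h2 t h
  · intro a ha b hb hab
    rcases Finset.mem_union.1 ha with h | h <;> rcases Finset.mem_union.1 hb with h' | h'
    · exact o1 a h b h' hab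
    · exact o a h b h'
    · rw [Pm.comm (h2 a h) (h1 b h')]; exact o b h' a h
    · exact o2 a h b h' hab

theorem bes3 {s₁ s₂ s₃ : Finset (G → ℂ)} (h1 : ∀ t ∈ s₁, Pm t) (h2 : ∀ t ∈ s₂, Pm t) (h3 : ∀ t ∈ s₃, Pm t)
    (o1 : ∀ a ∈ s₁, ∀ b ∈ s₁, a ≠ b → classInner a b = 0) (o2 : ∀ a ∈ s₂, ∀ b ∈ s₂, a ≠ b → classInner a b = 0)
    (o3 : ∀ a ∈ s₃, ∀ b ∈ s₃, a ≠ b → classInner a b = 0)
    (o12 : ∀ a ∈ s₁, ∀ b ∈ s₂, classInner a b = 0) (o13 : ∀ a ∈ s₁, ∀ b ∈ s₃, classInner a b = 0)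
    (o23 : ∀ a ∈ s₂, ∀ b ∈ s₃, classInner a b = 0) {β : G → ℂ} (hβ : IsGeneralizedCharacter G β) :
    ∑ t ∈ s₁, (classInner β t).re ^ 2 + (∑ t ∈ s₂, (classInner β t).re ^ 2 + ∑ t ∈ s₃, (classInner β t).re ^ 2) ≤ (classInner β β).re := by
  classical
  have hd : Disjoint s₂ s₃ := by
    rw [Finset.disjoint_left]
    intro t ht ht'
    have := o23 t ht t ht'
    rw [(h2 t ht).norm] at this
    exact one_ne_zero this
  rw [← Finset.sum_union hd]
  apply bes2 h1 _ o1 _ _ hβ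
  · intro t ht
    rcases Finset.mem_union.1 ht with h | h
    · exact h2 t h
    · exact h3 t h
  · intro a ha b hb hab
    rcases Finset.mem_union.1 ha with h | h <;> rcases Finset.mem_union.1 hb with h' | h'
    · exact o2 a h b h' hab
    · exact o23 a h b h'
    · rw [Pm.comm (h3 a h) (h2 b h')]; exact o23 b h' a h
    · exact o3 a h b h' hab
  · intro a ha b hb
    rcases Finset.mem_union.1 hb with h' | h'
    · exact o12 a ha b h'
    · exact o13 a ha b h'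

variable {Ti : G → Prop} {h e : ℕ} {T : Finset (G → ℂ)} {d : (G → ℂ) → ℕ} {ψ X : G → ℂ} (D : LD Ti h e T d ψ X)
include D

theorem LD.psi_pm : Pm ψ := D.pm _ D.mem

theorem LD.one_orth : ∀ t ∈ T, classInner t (fun _ => 1) = 0 := by
  intro t ht
  have hp := D.pm t ht
  have hc1 := D.conj_orth t ht
  rcases Pm.inner hp (Pm.of_irr isIrr_one) with h | ⟨h, -⟩ | ⟨h, -⟩
  · exact h
  · exfalso
    have h2 : conjFun t = t := by rw [← h]; funext x; simp [conjFun]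
    rw [h2, hp.norm] at hc1
    exact one_ne_zero hc1
  · exfalso
    have h2 : conjFun t = t := by
      have h3 : t = -(fun _ => 1) := by rw [h, neg_neg]
      rw [h3]; funext x; simp [conjFun]
    rw [h2, hp.norm] at hc1
    exact one_ne_zero hc1

/-- coefficients of a function vanishing on the support -/
theorem LD.coeff {β : G → ℂ} (hβ : ∀ g, Ti g → β g = 0) : ∀ t ∈ T, classInner β t = d t * classInner β ψ := by
  intro t ht
  have h1 : classInner β (t - (d t : ℂ) • ψ) = 0 := by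
    apply inner_disj'
    intro g
    by_cases hg : Ti g
    · exact Or.inl (hβ g hg)
    · right
      rw [Pi.sub_apply, D.supp t ht g hg, Pi.smul_apply, smul_eq_mul, sub_self]
  rw [ci_sub_right, ci_smul_right, Complex.conj_natCast] at h1
  linear_combination h1

theorem LD.sum_coeff {β : G → ℂ} (hg : IsGeneralizedCharacter G β) (hβ : ∀ g, Ti g → β g = 0) :
    (e : ℝ) * ∑ t ∈ T, (classInner β t).re ^ 2 = (classInner β ψ).re ^ 2 * ((h : ℝ) - 1) := by
  have h1 : ∀ t ∈ T, (classInner β t).re ^ 2 = (classInner β ψ).re ^ 2 * (d t : ℝ) ^ 2 := by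
    intro t ht
    rw [D.coeff hβ t ht, gen_real hg D.psi_pm.gen]
    have : ((d t : ℂ) * (((classInner β ψ).re : ℝ) : ℂ)) = (((d t : ℝ) * (classInner β ψ).re : ℝ) : ℂ) := by push_cast; ring
    rw [this, Complex.ofReal_re, Complex.ofReal_re]; ring
  rw [Finset.sum_congr rfl h1, ← Finset.mul_sum, ← D.sumd]; ring

omit D in
theorem int_sq_re {β t : G → ℂ} (hβ : IsGeneralizedCharacter G β) (ht : IsGeneralizedCharacter G t) (hne : classInner β t ≠ 0) :
    1 ≤ (classInner β t).re ^ 2 := by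
  obtain ⟨n, hn⟩ := ci_gen_int hβ ht
  rw [hn] at hne ⊢
  have h1 : n ≠ 0 := by rintro rfl; simp at hne
  have h2 : (1 : ℤ) ≤ n ^ 2 := by
    have : 0 < n ^ 2 := by positivity
    omega
  rw [Complex.intCast_re]
  exact_mod_cast h2

theorem LD.lower {β : G → ℂ} (hg : IsGeneralizedCharacter G β) (hβ : ∀ g, Ti g → β g = 0) (hne : classInner β ψ ≠ 0) (hh : 1 ≤ h) :
    (h : ℝ) - 1 ≤ (e : ℝ) * ∑ t ∈ T, (classInner β t).re ^ 2 := by
  rw [D.sum_coeff hg hβ]
  have h1 := int_sq_re hg D.psi_pm.gen hne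
  have h2 : (0 : ℝ) ≤ (h : ℝ) - 1 := by
    have : (1 : ℝ) ≤ h := by exact_mod_cast hh
    linarith
  nlinarith

theorem LD.self_sum : ∃ c : ℤ, classInner X ψ = c ∧
    ∑ t ∈ T, (classInner X t).re ^ 2 = (c : ℝ) ^ 2 + ((c : ℝ) + 1) ^ 2 * (∑ t ∈ T, (d t : ℝ) ^ 2 - 1) := by
  classical
  obtain ⟨c, hc⟩ := ci_gen_int D.gen D.psi_pm.gen
  refine ⟨c, hc, ?_⟩
  rw [← Finset.add_sum_erase _ _ D.mem, hc]
  have h1 : ∀ t ∈ T.erase ψ, (classInner X t).re ^ 2 = ((c : ℝ) + 1) ^ 2 * (d t : ℝ) ^ 2 := by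
    intro t ht
    obtain ⟨h2, h3⟩ := Finset.mem_erase.1 ht
    rw [D.innerX t h3 h2, hc]
    have : ((d t : ℂ) * ((c : ℂ) + 1)) = (((d t : ℝ) * ((c : ℝ) + 1) : ℝ) : ℂ) := by push_cast; ring
    rw [this, Complex.ofReal_re]; ring
  rw [Finset.sum_congr rfl h1, ← Finset.mul_sum]
  have h3 := Finset.add_sum_erase T (fun t => (d t : ℝ) ^ 2) D.mem
  rw [D.dpsi] at h3
  have h4 : ∑ t ∈ T.erase ψ, (d t : ℝ) ^ 2 = ∑ t ∈ T, (d t : ℝ) ^ 2 - 1 := by
    rw [← h3]; push_cast; ring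
  rw [h4, Complex.intCast_re]

theorem LD.self_ge (hh : 2 * e + 1 ≤ h) (he : 0 < e) : 1 ≤ ∑ t ∈ T, (classInner X t).re ^ 2 := by
  obtain ⟨c, hc, hs⟩ := D.self_sum
  rw [hs]
  have h1 : (2 : ℝ) ≤ ∑ t ∈ T, (d t : ℝ) ^ 2 := by
    have h2 := D.sumd
    have h3 : 2 * (e : ℝ) + 1 ≤ h := by exact_mod_cast hh
    have h4 : (0 : ℝ) < e := by exact_mod_cast he
    by_contra hlt
    push Not at hlt
    nlinarith
  have h5 : (1 : ℝ) ≤ (c : ℝ) ^ 2 + ((c : ℝ) + 1) ^ 2 := by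
    have : (1 : ℤ) ≤ c ^ 2 + (c + 1) ^ 2 := by
      rcases le_or_gt 0 c with h | h <;> nlinarith
    exact_mod_cast this
  nlinarith [sq_nonneg ((c : ℝ) + 1)]

/-- members of two families with disjoint supports are orthogonal -/
theorem LD.orth2 {Ti' : G → Prop} {h' e' : ℕ} {T' : Finset (G → ℂ)} {d' : (G → ℂ) → ℕ} {ψ' X' : G → ℂ}
    (D' : LD Ti' h' e' T' d' ψ' X') (hdis : ∀ g, Ti g → Ti' g → False) : ∀ t ∈ T, ∀ t' ∈ T', classInner t t' = 0 := by
  intro t ht t' ht'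
  have hp := D.pm t ht
  have hp' := D'.pm t' ht'
  have h1 : classInner (t - conjFun t) (t' - conjFun t') = 0 := by
    apply inner_disj'
    intro g
    by_cases hg : Ti g
    · right
      rw [Pi.sub_apply, D'.conj_supp t' ht' g (fun h => hdis g hg h), sub_self]
    · left
      rw [Pi.sub_apply, D.conj_supp t ht g hg, sub_self]
  have hc := D.conj_orth t ht
  have hc' := D'.conj_orth t' ht'
  have hpc := pm_conj hp
  have hpc' := pm_conj hp'
  rcases Pm.inner hp hp' with h0 | ⟨h0, -⟩ | ⟨h0, -⟩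
  · exact h0
  · exfalso
    rw [h0] at h1
    rw [ci_sub_left, ci_sub_right, ci_sub_right, hp.norm, hpc.norm, hc, Pm.comm hp hpc, hc] at h1
    norm_num at h1
  · exfalso
    have e2 : conjFun t' = - conjFun t := by rw [h0]; funext x; simp [conjFun]
    rw [h0, show conjFun (-t) = - conjFun t from by funext x; simp [conjFun], ci_sub_left, ci_sub_right, ci_sub_right,
      ci_neg_right', ci_neg_right', ci_neg_right', ci_neg_right', hp.norm, hpc.norm, hc, Pm.comm hp hpc, hc] at h1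
    norm_num at h1

/-- two coherent families with disjoint supports -/
theorem LD.two {Ti' : G → Prop} {h' e' : ℕ} {T' : Finset (G → ℂ)} {d' : (G → ℂ) → ℕ} {ψ' X' : G → ℂ}
    (D' : LD Ti' h' e' T' d' ψ' X') (hodd : Odd (Nat.card G)) (hdis : ∀ g, Ti g → Ti' g → False)
    (hh : 2 * e + 1 ≤ h) (he : 0 < e) (hh' : 2 * e' + 1 ≤ h') (he' : 0 < e') :
    ((h' : ℝ) - 1 ≤ e' * ((e : ℝ) - 1)) ∨ ((h : ℝ) - 1 ≤ e * ((e' : ℝ) - 1)) := by
  classical
  have hXX : classInner X X' = 0 := by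
    apply inner_disj'
    intro g
    by_cases hg : Ti g
    · exact Or.inr (D'.suppX g fun h => hdis g hg h)
    · exact Or.inl (D.suppX g hg)
  obtain ⟨k, hk⟩ := ci_gen_int D.gen D'.psi_pm.gen
  obtain ⟨k', hk'⟩ := ci_gen_int D'.gen D.psi_pm.gen
  have hg : IsGeneralizedCharacter G (X + ψ) := IsGen.add D.gen D.psi_pm.gen
  have hg' : IsGeneralizedCharacter G (X' + ψ') := IsGen.add D'.gen D'.psi_pm.gen
  have h1 : classInner (X + ψ) (fun _ => 1) = ((1 : ℤ) : ℂ) := by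
    rw [ci_add_left, D.oneX, D.one_orth _ D.mem]; simp
  have h1' : classInner (X' + ψ') (fun _ => 1) = ((1 : ℤ) : ℂ) := by
    rw [ci_add_left, D'.oneX, D'.one_orth _ D'.mem]; simp
  have h2 : classInner (X + ψ) (X' + ψ') = ((k + k' : ℤ) : ℂ) := by
    rw [ci_add_left, ci_add_right, ci_add_right, hXX, hk, D.orth2 D' hdis _ D.mem _ D'.mem, gen_comm D.psi_pm.gen D'.gen, hk']
    simp
  have h3 := parity hodd hg hg' D.real D'.real h2 h1 h1'
  rw [one_mul] at h3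
  have h4 : k ≠ 0 ∨ k' ≠ 0 := by
    by_contra hno
    push Not at hno
    rw [hno.1, hno.2] at h3
    exact absurd h3 (by decide)
  -- the symmetric norm bound
  have key : ∀ {Ti Ti' : G → Prop} {h e h' e' : ℕ} {T T' : Finset (G → ℂ)} {d d' : (G → ℂ) → ℕ} {ψ X ψ' X' : G → ℂ}
      (D : LD Ti h e T d ψ X) (D' : LD Ti' h' e' T' d' ψ' X') (hdis : ∀ g, Ti g → Ti' g → False)
      (hh : 2 * e + 1 ≤ h) (he : 0 < e) (hh' : 2 * e' + 1 ≤ h') (he' : 0 < e') (hne : classInner X ψ' ≠ 0),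
      ((h' : ℝ) - 1 ≤ e' * ((e : ℝ) - 1)) := by
    clear h4 h3 h2 h1 h1' hg hg' hk hk' hXX hdis hh he hh' he' k k'
    intro Ti Ti' h e h' e' T T' d d' ψ X ψ' X' D D' hdis hh he hh' he' hne
    have b := bes3 (s₁ := {fun _ => 1}) (s₂ := T) (s₃ := T') (by
      intro t ht; rw [Finset.mem_singleton.1 ht]; exact Pm.of_irr isIrr_one) D.pm D'.pm (by
      intro a ha b hb hab
      rw [Finset.mem_singleton] at ha hb
      exact absurd (ha.trans hb.symm) hab) D.orth D'.orth (by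
      intro a ha b hb
      rw [Finset.mem_singleton.1 ha, Pm.comm (Pm.of_irr isIrr_one) (D.pm b hb)]
      exact D.one_orth b hb) (by
      intro a ha b hb
      rw [Finset.mem_singleton.1 ha, Pm.comm (Pm.of_irr isIrr_one) (D'.pm b hb)]
      exact D'.one_orth b hb) (D.orth2 D' hdis) D.gen
    rw [Finset.sum_singleton, D.oneX, D.normX] at b
    have c1 := D.self_ge hh he
    have c2 := D'.lower D.gen (fun g hg => D.suppX g fun h => hdis g h hg) hne (by omega)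
    simp only [Complex.one_re, Complex.add_re, Complex.natCast_re, one_pow] at b
    have he'' : (0 : ℝ) < e' := by exact_mod_cast he'
    nlinarith
  rcases h4 with h4 | h4
  · left
    exact key D D' hdis hh he hh' he' (by rw [hk]; exact_mod_cast h4)
  · right
    exact key D' D (fun g h1 h2 => hdis g h2 h1) hh' he' hh he (by rw [hk']; exact_mod_cast h4)

end

section Eta

variable {G : Type*} [Group G] [Fintype G] {W₁ W₂ : Subgroup G} (hW : IsSelfNormalizingCyclic W₁ W₂) (hodd : Odd (Nat.card G))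
  {η : (↥(W₁ ⊔ W₂) →* ℂˣ) → (G → ℂ)} (hη : IsCyclicTIFamily W₁ W₂ η)
include hW hodd hη

theorem eta_pm (ω : ↥(W₁ ⊔ W₂) →* ℂˣ) : Pm (η ω) := hη.irr_or_neg ω

theorem oddW : Odd (Nat.card ↥(W₁ ⊔ W₂)) := Odd.of_dvd_nat hodd (Subgroup.card_subgroup_dvd_card _)

theorem eta_conj (ω : ↥(W₁ ⊔ W₂) →* ℂˣ) : conjFun (η ω) = η ω⁻¹ := by
  have h1 : (Nat.card G).Coprime (Nat.card G - 1) := by
    have : 1 ≤ Nat.card G := Nat.card_pos
    rw [Nat.coprime_comm]
    exact (Nat.coprime_self_sub_left this).2 (Nat.coprime_one_left _) |> fun h => by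
      first | exact h | (rw [Nat.coprime_comm] at h; exact h)
  funext g
  have h2 := Cfsg.Agent.H10.CycTI5.gal_fam' hW (oddW hW hodd hη) (Cfsg.Agent.H10.CycTI5.fam_of hη) h1 ω g
  have h3 : g ^ (Nat.card G - 1) = g⁻¹ := by
    rw [eq_inv_iff_mul_eq_one, ← pow_succ, Nat.sub_add_cancel Nat.card_pos, pow_card_eq_one']
  have h4 : ω ^ (Nat.card G - 1) = ω⁻¹ := by
    apply MonoidHom.ext
    intro w
    have h5 : (ω w) ^ Nat.card G = 1 := by
      rw [← map_pow]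
      have : w ^ Nat.card G = 1 := Subtype.ext (by push_cast; exact pow_card_eq_one')
      rw [this, map_one]
    rw [MonoidHom.pow_apply, MonoidHom.inv_apply, eq_inv_iff_mul_eq_one, ← pow_succ, Nat.sub_add_cancel Nat.card_pos, h5]
  rw [h3, h4] at h2
  rw [← h2, conjFun]
  rcases hη.irr_or_neg ω with h | h
  · exact (IsChar.inv_eq_conj (IsIrr.isCharacter h) g).symm
  · have := IsChar.inv_eq_conj (IsIrr.isCharacter h) g
    simp only [Pi.neg_apply, map_neg] at this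
    exact (neg_injective this).symm


omit hW in
theorem eta_T {Ti : G → Prop} {h e : ℕ} {T : Finset (G → ℂ)} {d : (G → ℂ) → ℕ} {ψ X : G → ℂ} (D : LD Ti h e T d ψ X)
    (hW : IsSelfNormalizingCyclic W₁ W₂) (hV : ∀ g, Ti g → g ∉ V W₁ W₂) :
    ∀ t ∈ T, ∀ ω, classInner t (η ω) = 0 := by
  intro t ht ω
  have hp := D.pm t ht
  have hc := D.conj_orth t ht
  have hpc := pm_conj hp
  have hgen : IsGeneralizedCharacter G (t - conjFun t) := IsGen.sub hp.gen hpc.gen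
  have hn : classInner (t - conjFun t) (t - conjFun t) = 2 := by
    rw [ci_sub_left, ci_sub_right, ci_sub_right, hp.norm, hpc.norm, hc, Pm.comm hp hpc, hc]
    norm_num
  have h1 := Cfsg.Agent.H10.PrD3.orth_eta hW (oddW hW hodd hη) hη hgen (by rw [hn]; norm_num) (by
    intro w hw1 hw2
    have hnt : ¬ Ti (w : G) := fun h => hV _ h (mem_V.2 ⟨w.2, hw1, hw2⟩)
    rw [Pi.sub_apply, D.conj_supp t ht _ hnt, sub_self]) ω
  rw [ci_sub_left, sub_eq_zero] at h1
  rcases Pm.inner hp (hη.irr_or_neg ω) with h0 | ⟨h0, h0'⟩ | ⟨h0, h0'⟩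
  · exact h0
  · exfalso
    rw [h0] at h1
    rw [hp.norm, hc] at h1
    exact one_ne_zero h1
  · exfalso
    rw [h0, ci_neg_right', ci_neg_right', hp.norm, hc] at h1
    norm_num at h1

/-- the finset of the `η ω` -/
theorem eta_sum [Fintype (↥(W₁ ⊔ W₂) →* ℂˣ)] [DecidableEq (G → ℂ)] (β : G → ℂ) :
    ∑ t ∈ (Finset.univ : Finset (↥(W₁ ⊔ W₂) →* ℂˣ)).image η, (classInner β t).re ^ 2 = ∑ ω, (classInner β (η ω)).re ^ 2 := by
  rw [Finset.sum_image]
  intro a _ b _ hab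
  exact Cfsg.Agent.H10.PrD3.eta_inj hη hab

end Eta

/-- data of the virtual character attached to a type P subgroup -/
structure SD {G : Type*} [Group G] [Fintype G] (W₁ W₂ : Subgroup G) (η : (↥(W₁ ⊔ W₂) →* ℂˣ) → (G → ℂ)) (Sp : G → Prop) (n : ℝ)
    (ω : ↥(W₁ ⊔ W₂) →* ℂˣ) (B : G → ℂ) : Prop where
  gen : IsGeneralizedCharacter G B
  one : classInner B (fun _ => 1) = 1
  norm : (classInner B B).re ≤ n + 2
  real : conjFun (B + η ω) = B + η ω
  ne : ω ≠ 1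
  X : X1 W₁ W₂ ω ∨ X2 W₁ W₂ ω
  val : ∀ w : ↥(W₁ ⊔ W₂), (w : G) ∉ W₁ → (w : G) ∉ W₂ → B w = 1 - (ω w : ℂ)
  supp : ∀ g, ¬ Sp g → B g = 0

section Eta2

variable {G : Type*} [Group G] [Fintype G] {W₁ W₂ : Subgroup G} (hW : IsSelfNormalizingCyclic W₁ W₂) (hodd : Odd (Nat.card G))
  {η : (↥(W₁ ⊔ W₂) →* ℂˣ) → (G → ℂ)} (hη : IsCyclicTIFamily W₁ W₂ η)
include hW hodd hη

theorem SD.extra {Sp : G → Prop} {n : ℝ} {ω : ↥(W₁ ⊔ W₂) →* ℂˣ} {B : G → ℂ} (S : SD W₁ W₂ η Sp n ω B) :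
    ∃ ω', ω' ≠ 1 ∧ classInner B (η ω') ≠ 0 := by
  classical
  by_contra hno
  push Not at hno
  set Γ : G → ℂ := B - (fun _ => 1) + η ω with hΓ
  have hgen : IsGeneralizedCharacter G Γ := IsGen.add (IsGen.sub S.gen (IsGen.of_irr isIrr_one)) (Cfsg.Agent.H10.PrD3.eta_gen hη ω)
  have hV : ∀ w : ↥(W₁ ⊔ W₂), (w : G) ∉ W₁ → (w : G) ∉ W₂ → Γ w = 0 := by
    intro w h1 h2
    rw [hΓ, Pi.add_apply, Pi.sub_apply, S.val w h1 h2, hη.eq_on ω w h1 h2]
    ring
  have hco : ∀ ω', classInner Γ (η ω') = (if ω' = ω then 1 else 0) := by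
    intro ω'
    rw [hΓ, ci_add_left, ci_sub_left, Cfsg.Agent.H10.PrD3.eta_if hη]
    have h1 : classInner (fun _ => (1 : ℂ)) (η ω') = if ω' = 1 then 1 else 0 := by
      rw [← hη.map_one, Cfsg.Agent.H10.PrD3.eta_if hη]
      by_cases h : ω' = 1
      · rw [if_pos h.symm, if_pos h]
      · rw [if_neg (fun h' => h h'.symm), if_neg h]
    have h2 : classInner B (η ω') = if ω' = 1 then 1 else 0 := by
      by_cases h : ω' = 1
      · rw [if_pos h, h, hη.map_one, S.one]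
      · rw [if_neg h, hno ω' h]
    rw [h1, h2, sub_self, zero_add]
    by_cases h : ω' = ω
    · rw [if_pos h, if_pos h.symm]
    · rw [if_neg h, if_neg (fun h' => h h'.symm)]
  have h1ω : (1 : ↥(W₁ ⊔ W₂) →* ℂˣ) ≠ ω := S.ne.symm
  rcases S.X with hX | hX
  · obtain ⟨φ, -, hφ, -, hφ1, -, -⟩ := Cfsg.Agent.H10.PrD3.two_cols hW (oddW hW hodd hη) hη 1 (fun _ _ => rfl)
    have h3 := inner_zero hW hη (IsGen.isClass hgen) hV hX hφ
    have hne2 : φ ≠ ω := by
      rintro rfl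
      exact S.ne (eq_one_of_X hX hφ (hdisj hW) (hcomm hW))
    have hne3 : ω * φ ≠ ω := by
      intro h
      apply hφ1
      have : ω * φ = ω * 1 := by rw [h]; ext w; simp
      exact (X_inj hX hX hφ (fun _ _ => rfl) (hdisj hW) (hcomm hW) this).2
    rw [hco, hco, hco, hco, if_neg h1ω, if_pos rfl, if_neg hne2, if_neg hne3] at h3
    norm_num at h3
  · obtain ⟨φ, -, hφ, -, hφ1, -, -⟩ := Cfsg.Agent.H10.PrD3.two_rows hW (oddW hW hodd hη) hη 1 (fun _ _ => rfl)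
    have h3 := inner_zero hW hη (IsGen.isClass hgen) hV hφ hX
    have hne2 : φ ≠ ω := by
      rintro rfl
      exact S.ne (eq_one_of_X hφ hX (hdisj hW) (hcomm hW))
    have hne3 : φ * ω ≠ ω := by
      intro h
      apply hφ1
      have : φ * ω = 1 * ω := by rw [h]; ext w; simp
      exact (X_inj hφ (fun _ _ => rfl) hX hX (hdisj hW) (hcomm hW) this).1
    rw [hco, hco, hco, hco, if_neg h1ω, if_neg hne2, if_pos rfl, if_neg hne3] at h3
    norm_num at h3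

/-- the main dichotomy -/
theorem LD_SD {Ti : G → Prop} {h e : ℕ} {T : Finset (G → ℂ)} {d : (G → ℂ) → ℕ} {ψ X : G → ℂ} (D : LD Ti h e T d ψ X)
    (hV : ∀ g, Ti g → g ∉ V W₁ W₂) {Sp : G → Prop} {n : ℝ} {ω : ↥(W₁ ⊔ W₂) →* ℂˣ} {B : G → ℂ} (S : SD W₁ W₂ η Sp n ω B)
    (hdis : ∀ g, Ti g → Sp g → False) (hh : 1 ≤ h) :
    ((h : ℝ) - 1 ≤ e * n) ∨ ∃ k : ℤ, Odd k ∧ classInner X (η ω) = k := by
  classical
  haveI := Fintype.ofFinite (↥(W₁ ⊔ W₂) →* ℂˣ)
  have hTη := eta_T hodd hη D hW hV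
  have hBv : ∀ g, Ti g → B g = 0 := fun g hg => S.supp g fun h => hdis g hg h
  have hωg := Cfsg.Agent.H10.PrD3.eta_gen hη ω
  by_cases hb : classInner B ψ = 0
  · right
    obtain ⟨k, hk⟩ := ci_gen_int D.gen hωg
    refine ⟨k, ?_, hk⟩
    have hXB : classInner X B = 0 := by
      apply inner_disj'
      intro g
      by_cases hg : Ti g
      · exact Or.inr (hBv g hg)
      · exact Or.inl (D.suppX g hg)
    have hg : IsGeneralizedCharacter G (X + ψ) := IsGen.add D.gen D.psi_pm.gen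
    have hg' : IsGeneralizedCharacter G (B + η ω) := IsGen.add S.gen hωg
    have h1 : classInner (X + ψ) (fun _ => 1) = ((1 : ℤ) : ℂ) := by
      rw [ci_add_left, D.oneX, D.one_orth _ D.mem]; simp
    have h1' : classInner (B + η ω) (fun _ => 1) = ((1 : ℤ) : ℂ) := by
      rw [ci_add_left, S.one, ← hη.map_one, Cfsg.Agent.H10.PrD3.eta_ne hη S.ne]; simp
    have h2 : classInner (X + ψ) (B + η ω) = ((k : ℤ) : ℂ) := by
      rw [ci_add_left, ci_add_right, ci_add_right, hXB, hk, hTη _ D.mem, gen_comm D.psi_pm.gen S.gen, hb]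
      simp
    have h3 := parity hodd hg hg' D.real S.real h2 h1 h1'
    rw [one_mul] at h3
    obtain ⟨r, hr⟩ := h3
    exact ⟨r, by omega⟩
  · left
    have b := bes2 (s₁ := T) (s₂ := (Finset.univ : Finset (↥(W₁ ⊔ W₂) →* ℂˣ)).image η) D.pm (by
      intro t ht
      obtain ⟨ω', -, rfl⟩ := Finset.mem_image.1 ht
      exact hη.irr_or_neg ω') D.orth (by
      intro a ha b hb hab
      obtain ⟨ω', -, rfl⟩ := Finset.mem_image.1 ha
      obtain ⟨ω'', -, rfl⟩ := Finset.mem_image.1 hb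
      exact Cfsg.Agent.H10.PrD3.eta_ne hη (fun h => hab (by rw [h]))) (by
      intro a ha b hb
      obtain ⟨ω', -, rfl⟩ := Finset.mem_image.1 hb
      exact hTη a ha ω') S.gen
    rw [eta_sum hW hodd hη] at b
    have c2 := D.lower S.gen hBv hb hh
    obtain ⟨ω', hω', hne⟩ := S.extra hW hodd hη
    have c3 : (2 : ℝ) ≤ ∑ ω, (classInner B (η ω)).re ^ 2 := by
      have h1 : ∑ x ∈ ({1, ω'} : Finset (↥(W₁ ⊔ W₂) →* ℂˣ)), (classInner B (η x)).re ^ 2 ≤ ∑ ω, (classInner B (η ω)).re ^ 2 :=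
        Finset.sum_le_sum_of_subset_of_nonneg (Finset.subset_univ _) (fun _ _ _ => sq_nonneg _)
      rw [Finset.sum_pair hω'.symm, hη.map_one, S.one] at h1
      have h2 := int_sq_re S.gen (Cfsg.Agent.H10.PrD3.eta_gen hη ω') hne
      simp only [Complex.one_re, one_pow] at h1
      linarith
    have c4 := S.norm
    have he0 : (0 : ℝ) ≤ e := Nat.cast_nonneg _
    nlinarith

/-- if all the coefficients on the two axes are odd then `X + ψ` is a signed sum of the `η` -/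
theorem LD.full [Fintype (↥(W₁ ⊔ W₂) →* ℂˣ)] {Ti : G → Prop} {h e : ℕ} {T : Finset (G → ℂ)} {d : (G → ℂ) → ℕ} {ψ X : G → ℂ} (D : LD Ti h e T d ψ X)
    (hV : ∀ g, Ti g → g ∉ V W₁ W₂) (he : e ≤ Nat.card ↥(W₁ ⊔ W₂)) (he0 : 0 < e) (hh : 3 * e + 1 ≤ h)
    (h1 : ∀ ω, ω ≠ 1 → X1 W₁ W₂ ω → ∃ k : ℤ, Odd k ∧ classInner X (η ω) = k)
    (h2 : ∀ ω, ω ≠ 1 → X2 W₁ W₂ ω → ∃ k : ℤ, Odd k ∧ classInner X (η ω) = k) :
    e = Nat.card ↥(W₁ ⊔ W₂) ∧ classInner X ψ = -1 ∧ X + ψ = ∑ ω, classInner X (η ω) • η ω ∧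
      (∀ ω, ∃ k : ℤ, classInner X (η ω) = k ∧ classInner X (η ω⁻¹) = k) := by
  classical
  have hTη := eta_T hodd hη D hW hV
  have hXV : ∀ w : ↥(W₁ ⊔ W₂), (w : G) ∉ W₁ → (w : G) ∉ W₂ → X w = 0 := by
    intro w hw1 hw2
    exact D.suppX _ fun h => hV _ h (mem_V.2 ⟨w.2, hw1, hw2⟩)
  have h1' : ∀ ω, X1 W₁ W₂ ω → ∃ k : ℤ, Odd k ∧ classInner X (η ω) = k := by
    intro ω hω
    by_cases h : ω = 1
    · exact ⟨1, odd_one, by rw [h, hη.map_one, D.oneX]; simp⟩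
    · exact h1 ω h hω
  have h2' : ∀ ω, X2 W₁ W₂ ω → ∃ k : ℤ, Odd k ∧ classInner X (η ω) = k := by
    intro ω hω
    by_cases h : ω = 1
    · exact ⟨1, odd_one, by rw [h, hη.map_one, D.oneX]; simp⟩
    · exact h2 ω h hω
  have hall : ∀ ω, ∃ k : ℤ, Odd k ∧ classInner X (η ω) = k := by
    intro ω
    obtain ⟨φ, ψ', hφ, hψ', rfl⟩ := exists_decomp ω (hdisj hW) (hcomm hW)
    obtain ⟨a, ha, ha'⟩ := h1' φ hφ
    obtain ⟨b, hb, hb'⟩ := h2' ψ' hψ'
    have h3 := inner_zero hW hη (IsGen.isClass D.gen) hXV hφ hψ'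
    rw [ha', hb', hη.map_one, D.oneX] at h3
    refine ⟨a + b - 1, ?_, ?_⟩
    · obtain ⟨r, hr⟩ := ha
      obtain ⟨s, hs⟩ := hb
      exact ⟨r + s, by omega⟩
    · push_cast
      linear_combination h3
  have hsq : ∀ ω, 1 ≤ (classInner X (η ω)).re ^ 2 := by
    intro ω
    apply int_sq_re D.gen (Cfsg.Agent.H10.PrD3.eta_gen hη ω)
    obtain ⟨k, hk, hk'⟩ := hall ω
    rw [hk']
    intro h0
    have : k = 0 := by exact_mod_cast h0
    rw [this] at hk
    exact absurd hk (by decide)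
  have hcardW : Fintype.card (↥(W₁ ⊔ W₂) →* ℂˣ) = Nat.card ↥(W₁ ⊔ W₂) := by
    haveI := Fintype.ofFinite ↥(W₁ ⊔ W₂)
    rw [← Nat.card_eq_fintype_card, card_hom (hab hW)]
  have c1 : (Nat.card ↥(W₁ ⊔ W₂) : ℝ) ≤ ∑ ω, (classInner X (η ω)).re ^ 2 := by
    have := Finset.sum_le_sum (s := Finset.univ) (fun ω (_ : ω ∈ (Finset.univ : Finset (↥(W₁ ⊔ W₂) →* ℂˣ))) => hsq ω)
    rw [Finset.sum_const, Finset.card_univ, nsmul_eq_mul, mul_one, hcardW] at this
    exact this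
  have b := bes2 (s₁ := T) (s₂ := (Finset.univ : Finset (↥(W₁ ⊔ W₂) →* ℂˣ)).image η) D.pm (by
      intro t ht
      obtain ⟨ω', -, rfl⟩ := Finset.mem_image.1 ht
      exact hη.irr_or_neg ω') D.orth (by
      intro a ha b hb hab
      obtain ⟨ω', -, rfl⟩ := Finset.mem_image.1 ha
      obtain ⟨ω'', -, rfl⟩ := Finset.mem_image.1 hb
      exact Cfsg.Agent.H10.PrD3.eta_ne hη (fun h => hab (by rw [h]))) (by
      intro a ha b hb
      obtain ⟨ω', -, rfl⟩ := Finset.mem_image.1 hb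
      exact hTη a ha ω') D.gen
  rw [eta_sum hW hodd hη, D.normX] at b
  simp only [Complex.add_re, Complex.natCast_re, Complex.one_re] at b
  have c2 := D.self_ge (by omega) he0
  have heR : (e : ℝ) ≤ Nat.card ↥(W₁ ⊔ W₂) := by exact_mod_cast he
  have c3 : ∑ t ∈ T, (classInner X t).re ^ 2 = 1 := by linarith
  have c4 : ∑ ω, (classInner X (η ω)).re ^ 2 = e := by linarith
  have c5 : e = Nat.card ↥(W₁ ⊔ W₂) := by
    have : (e : ℝ) = Nat.card ↥(W₁ ⊔ W₂) := by linarith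
    exact_mod_cast this
  have c6 : classInner X ψ = -1 := by
    obtain ⟨c, hc, hs⟩ := D.self_sum
    rw [c3] at hs
    have h3 : (3 : ℝ) ≤ ∑ t ∈ T, (d t : ℝ) ^ 2 := by
      have h2 := D.sumd
      have h3 : 3 * (e : ℝ) + 1 ≤ h := by exact_mod_cast hh
      have h4 : (0 : ℝ) < e := by exact_mod_cast he0
      by_contra hlt
      push Not at hlt
      nlinarith
    have h5 : c + 1 = 0 := by
      by_contra hne
      have h6 : (1 : ℝ) ≤ ((c : ℝ) + 1) ^ 2 := by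
        have : (1 : ℤ) ≤ (c + 1) ^ 2 := by
          have : 0 < (c + 1) ^ 2 := by positivity
          omega
        exact_mod_cast this
      nlinarith [sq_nonneg (c : ℝ)]
    have h7 : c = -1 := by omega
    rw [hc, h7]; simp
  refine ⟨c5, c6, ?_, ?_⟩
  · have hcre : ∀ ω, classInner X (η ω) = (((classInner X (η ω)).re : ℝ) : ℂ) := fun ω => gen_real D.gen (Cfsg.Agent.H10.PrD3.eta_gen hη ω)
    have hb := (bessel (Finset.univ : Finset (↥(W₁ ⊔ W₂) →* ℂˣ)) η (X + ψ) (fun ω => (classInner X (η ω)).re) (fun _ => 1)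
      (fun i _ j _ => by rw [Cfsg.Agent.H10.PrD3.eta_if hη]; simp) (fun _ _ => one_pos) (fun ω _ => by
        rw [ci_add_left, hTη ψ D.mem ω, add_zero]; exact hcre ω)).2
    have h3 : classInner (X + ψ) (X + ψ) = e := by
      rw [ci_add_left, ci_add_right, ci_add_right, D.normX, c6, gen_comm D.psi_pm.gen D.gen, c6, D.psi_pm.norm]
      ring
    have h4 : ∑ ω : ↥(W₁ ⊔ W₂) →* ℂˣ, (classInner X (η ω)).re ^ 2 / (1 : ℝ) = e := by simpa using c4
    rw [h3, h4] at hb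
    have h5 := ci_self_eq_zero (hb.trans (by push_cast; ring))
    rw [sub_eq_zero] at h5
    rw [h5]
    refine Finset.sum_congr rfl fun ω _ => ?_
    rw [div_one, ← hcre ω]
  · intro ω
    obtain ⟨k, hk⟩ := ci_gen_int D.gen (Cfsg.Agent.H10.PrD3.eta_gen hη ω)
    refine ⟨k, hk, ?_⟩
    have h3 : ∀ ω, classInner (X + ψ) (η ω) = classInner X (η ω) := fun ω => by
      rw [ci_add_left, hTη ψ D.mem ω, add_zero]
    rw [← h3, ← eta_conj hW hodd hη]
    have h4 : classInner (X + ψ) (conjFun (η ω)) = conj (classInner (conjFun (X + ψ)) (η ω)) := by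
      rw [classInner, classInner, map_mul, map_sum, map_inv₀, Complex.conj_natCast]
      congr 1
      refine Finset.sum_congr rfl fun g _ => ?_
      simp [conjFun]
    rw [h4, D.real, h3, hk]
    simp

end Eta2

end Cfsg.Agent.H4.PF14
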