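import Cfsg.Statements.S1508
import Cfsg.Agent.H10_CycTI5

set_option autoImplicit false
open Cfsg

namespace Cfsg.Agent.S1508

open Cfsg.Agent.H10.CycTI Cfsg.Agent.H10.CycTI2 Cfsg.Agent.H10.CycTI3 Cfsg.Agent.H10.CycTI4 Cfsg.Agent.H10.CycTI5 Cfsg.Agent.H10.PM


/-- Let W₁, W₂ ≤ G form a self-normalising cyclic subgroup W = W₁ ⊔ W₂ of odd order and χ an orthonormal family of irreducible characters of G up to sign, indexed by the linear characters ω of W, with χ_1 = 1, χ_ω = ω on W outside W₁ ∪ W₂, and the induction identity for (1 − φ)(1 − ψ). Let ω be a linear character of W and g an element of G whose order is coprime to the order of ω. Then χ ω g is an integer. -/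
theorem result {G : Type*} [Group G] [Fintype G] (W₁ W₂ : Subgroup G) (hW : Cfsg.IsSelfNormalizingCyclic W₁ W₂) (hodd : Odd (Nat.card ↥(W₁ ⊔ W₂))) (χ : (↥(W₁ ⊔ W₂) →* ℂˣ) → (G → ℂ)) (hχ : Cfsg.IsCyclicTIFamily W₁ W₂ χ) (ω : ↥(W₁ ⊔ W₂) →* ℂˣ) (g : G) (hg : Nat.Coprime (orderOf g) (orderOf ω)) : ∃ n : ℤ, χ ω g = n := by
  have hF := fam_of hχ
  apply int_of_fixed (hF.pm ω).gen
  intro k hk
  obtain ⟨t, h1, h2, h3⟩ := exists_coprime (N := Nat.card G) Nat.card_pos.ne' hg hk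
  have e1 : g ^ k = g ^ t := (pow_eq_pow_iff_modEq.2 h1).symm
  have h4 : ω ^ orderOf ω = 1 := pow_orderOf_eq_one ω
  have e2 : ω ^ t = ω := by
    apply MonoidHom.ext
    intro w
    have h5 : (ω w) ^ orderOf ω = 1 := DFunLike.congr_fun h4 w
    have h6 : t ≡ 1 [MOD orderOf (ω w)] := h2.of_dvd (orderOf_dvd_of_pow_eq_one h5)
    show (ω w) ^ t = ω w
    conv_rhs => rw [← pow_one (ω w)]
    exact pow_eq_pow_iff_modEq.2 h6
  rw [e1, gal_fam' hW hodd hF h3, e2]

end Cfsg.Agent.S1508
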