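import Mathlib
import Cfsg.Agent.H4_PF14c
import Cfsg.Agent.S1508

/-! Peterfalvi §14: counting -/

set_option autoImplicit false
set_option linter.all false

namespace Cfsg.Agent.H4.PF14

open Cfsg Cfsg.Agent.H3.CharBasic Cfsg.Agent.H3.CharIrr Cfsg.Agent.H3.CharComplete
  Cfsg.Agent.H3.CharMult Cfsg.Agent.H3.CharInd Cfsg.Agent.H3.CharInt
  Cfsg.Agent.H10.Coh Cfsg.Agent.H10.CycEx3 Cfsg.Agent.H10.CycTI Cfsg.Agent.H10.CycTI2 Cfsg.Agent.H10.CycTI3
  Cfsg.Agent.H10.Coh2 Cfsg.Agent.H10.Coh3 Cfsg.Agent.H10.Coh4 Cfsg.Agent.H10.PM Cfsg.Agent.H10.Sib2 Cfsg.Agent.H10.Fin1 Cfsg.Agent.H10.Fin2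
open scoped ComplexConjugate

section

variable {G : Type*} [Group G] [Fintype G] {W₁ W₂ : Subgroup G} (hW : IsSelfNormalizingCyclic W₁ W₂) (hodd : Odd (Nat.card G))
  {η : (↥(W₁ ⊔ W₂) →* ℂˣ) → (G → ℂ)} (hη : IsCyclicTIFamily W₁ W₂ η)

theorem odd_sum [Fintype (↥(W₁ ⊔ W₂) →* ℂˣ)] (hoW : Odd (Nat.card ↥(W₁ ⊔ W₂))) (f : (↥(W₁ ⊔ W₂) →* ℂˣ) → ℤ)
    (hf : ∀ ω, f ω⁻¹ = f ω) (h1 : Odd (f 1)) : Odd (∑ ω, f ω) := by
  classical
  have key : ((∑ ω ∈ Finset.univ.erase (1 : ↥(W₁ ⊔ W₂) →* ℂˣ), f ω : ℤ) : ZMod 2) = 0 := by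
    push_cast
    apply Finset.sum_involution (fun ω _ => ω⁻¹)
    · intro ω hω
      rw [hf]
      exact CharTwo.add_self_eq_zero _
    · intro ω hω _ he
      exact Cfsg.Agent.H10.PrD6.inv_ne hoW (Finset.mem_erase.1 hω).1 he
    · intro ω hω
      exact Cfsg.Agent.H10.PrD6.inv_inv' ω
    · intro ω hω
      exact Finset.mem_erase.2 ⟨Cfsg.Agent.H10.PrD6.inv_ne_one (Finset.mem_erase.1 hω).1, Finset.mem_univ _⟩
  have h2 : Even (∑ ω ∈ Finset.univ.erase (1 : ↥(W₁ ⊔ W₂) →* ℂˣ), f ω) := by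
    rw [ZMod.intCast_zmod_eq_zero_iff_dvd] at key
    exact even_iff_two_dvd.2 (by exact_mod_cast key)
  rw [← Finset.add_sum_erase _ _ (Finset.mem_univ (1 : ↥(W₁ ⊔ W₂) →* ℂˣ))]
  exact h1.add_even h2

include hW hodd hη

theorem eta_int (ω : ↥(W₁ ⊔ W₂) →* ℂˣ) {g : G} (hg : Nat.Coprime (orderOf g) (Nat.card ↥(W₁ ⊔ W₂))) :
    ∃ n : ℤ, η ω g = n := by
  apply Cfsg.Agent.S1508.result W₁ W₂ hW (oddW hW hodd hη) η hη ω g
  apply Nat.Coprime.coprime_dvd_right _ hg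
  apply orderOf_dvd_of_pow_eq_one
  apply MonoidHom.ext
  intro w
  rw [MonoidHom.pow_apply, ← map_pow, pow_card_eq_one', map_one]
  rfl

/-- the value of a symmetric integral combination at an element of order prime to `|W|` is odd -/
theorem odd_value [Fintype (↥(W₁ ⊔ W₂) →* ℂˣ)] {X f : G → ℂ} (hX1 : classInner X (fun _ => 1) = 1)
    (hf : f = ∑ ω, classInner X (η ω) • η ω) (hsym : ∀ ω, ∃ k : ℤ, classInner X (η ω) = k ∧ classInner X (η ω⁻¹) = k)
    {g : G} (hg : Nat.Coprime (orderOf g) (Nat.card ↥(W₁ ⊔ W₂))) : ∃ n : ℤ, Odd n ∧ f g = n := by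
  classical
  choose k hk hk' using hsym
  choose n hn using fun ω => eta_int hW hodd hη ω hg
  have hki : ∀ ω, k ω⁻¹ = k ω := by
    intro ω
    have h1 : ((k ω⁻¹ : ℤ) : ℂ) = (k ω : ℂ) := by rw [← hk ω⁻¹, hk' ω]
    exact_mod_cast h1
  have hni : ∀ ω, n ω⁻¹ = n ω := by
    intro ω
    have h1 : ((n ω⁻¹ : ℤ) : ℂ) = (n ω : ℂ) := by
      rw [← hn, ← eta_conj hW hodd hη, conjFun, hn]; simp
    exact_mod_cast h1
  refine ⟨∑ ω, k ω * n ω, ?_, ?_⟩
  · apply odd_sum (oddW hW hodd hη)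
    · intro ω
      rw [hki, hni]
    · have h1 : k 1 = 1 := by
        have := hk 1
        rw [hη.map_one, hX1] at this
        exact_mod_cast this.symm
      have h2 : n 1 = 1 := by
        have := hn 1
        rw [hη.map_one] at this
        have h3 : ((n 1 : ℤ) : ℂ) = 1 := this.symm
        exact_mod_cast h3
      rw [h1, h2]
      exact odd_one
  · rw [hf, Finset.sum_apply]
    push_cast
    refine Finset.sum_congr rfl fun ω _ => ?_
    rw [Pi.smul_apply, smul_eq_mul, hk, hn]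

open Classical in
theorem count_ii [Fintype (↥(W₁ ⊔ W₂) →* ℂˣ)] {Ti : G → Prop} {h e : ℕ} {T : Finset (G → ℂ)} {d : (G → ℂ) → ℕ} {ψ X : G → ℂ} (D : LD Ti h e T d ψ X)
    (hf : X + ψ = ∑ ω, classInner X (η ω) • η ω)
    (hsym : ∀ ω, ∃ k : ℤ, classInner X (η ω) = k ∧ classInner X (η ω⁻¹) = k)
    (hn : (Nat.card G : ℝ) * (1 - (e : ℝ) / h) ≤ ∑ g : G, (if Ti g then ‖ψ g‖ ^ 2 else 0))
    (hct : ((Finset.univ.filter (fun g : G => Ti g)).card : ℝ) * ((h : ℝ) * e) = (Nat.card G : ℝ) * ((h : ℝ) - 1)) (hh : 0 < h) (he : 0 < e)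
    {κ : ℝ} (hκ : ((Finset.univ.filter (fun g : G => ¬ Nat.Coprime (orderOf g) (Nat.card ↥(W₁ ⊔ W₂)))).card : ℝ) ≤ (Nat.card G : ℝ) * κ) :
    1 ≤ ((h : ℝ) - 1) / (h * e) + e / h + κ := by
  have hG : (0 : ℝ) < Nat.card G := by exact_mod_cast Nat.card_pos
  have htot := Cfsg.Agent.H1.PF12.sum_norm_pm (D.psi_pm)
  have hsplit : ∑ g : G, ‖ψ g‖ ^ 2 = ∑ g : G, (if Ti g then ‖ψ g‖ ^ 2 else 0) + ∑ g : G, (if Ti g then 0 else ‖ψ g‖ ^ 2) := by
    rw [← Finset.sum_add_distrib]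
    refine Finset.sum_congr rfl fun g _ => ?_
    split_ifs <;> simp
  have h1 : ∑ g : G, (if Ti g then 0 else ‖ψ g‖ ^ 2) ≤ (Nat.card G : ℝ) * ((e : ℝ) / h) := by
    rw [htot] at hsplit
    linarith
  set Z := Finset.univ.filter (fun g : G => ¬ Ti g ∧ Nat.Coprime (orderOf g) (Nat.card ↥(W₁ ⊔ W₂))) with hZ
  have h2 : (Z.card : ℝ) ≤ ∑ g : G, (if Ti g then 0 else ‖ψ g‖ ^ 2) := by
    rw [hZ, Finset.card_filter]
    push_cast
    apply Finset.sum_le_sum
    intro g _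
    by_cases hg : Ti g
    · rw [if_pos hg, if_neg (fun h => h.1 hg)]
    · rw [if_neg hg]
      split_ifs with h3
      · obtain ⟨n, hn1, hn2⟩ := odd_value hW hodd hη D.oneX hf hsym h3.2
        have h4 : ψ g = n := by
          have := D.suppX g hg
          rw [← hn2, Pi.add_apply, this, zero_add]
        rw [h4]
        have h5 : n ≠ 0 := by
          rintro rfl
          exact absurd hn1 (by decide)
        have h6 : (1 : ℤ) ≤ n ^ 2 := by
          have : 0 < n ^ 2 := by positivity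
          omega
        have h7 : ‖(n : ℂ)‖ ^ 2 = (n : ℝ) ^ 2 := by
          rw [Complex.norm_intCast, sq_abs]
        rw [h7]
        exact_mod_cast h6
      · exact sq_nonneg _
  have h3 : (Nat.card G : ℝ) ≤ (Finset.univ.filter (fun g : G => Ti g)).card + Z.card +
      (Finset.univ.filter (fun g : G => ¬ Nat.Coprime (orderOf g) (Nat.card ↥(W₁ ⊔ W₂)))).card := by
    have h4 : (Finset.univ : Finset G) ⊆ (Finset.univ.filter (fun g : G => Ti g)) ∪ Z ∪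
        (Finset.univ.filter (fun g : G => ¬ Nat.Coprime (orderOf g) (Nat.card ↥(W₁ ⊔ W₂)))) := by
      intro g _
      rw [Finset.mem_union, Finset.mem_union, hZ, Finset.mem_filter, Finset.mem_filter, Finset.mem_filter]
      by_cases h5 : Ti g
      · exact Or.inl (Or.inl ⟨Finset.mem_univ _, h5⟩)
      · by_cases h6 : Nat.Coprime (orderOf g) (Nat.card ↥(W₁ ⊔ W₂))
        · exact Or.inl (Or.inr ⟨Finset.mem_univ _, h5, h6⟩)
        · exact Or.inr ⟨Finset.mem_univ _, h6⟩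
    have h5 := (Finset.card_le_card h4).trans (Finset.card_union_le _ _)
    have h6 := Finset.card_union_le (Finset.univ.filter (fun g : G => Ti g)) Z
    rw [Finset.card_univ, ← Nat.card_eq_fintype_card] at h5
    have : Nat.card G ≤ (Finset.univ.filter (fun g : G => Ti g)).card + Z.card +
      (Finset.univ.filter (fun g : G => ¬ Nat.Coprime (orderOf g) (Nat.card ↥(W₁ ⊔ W₂)))).card := by omega
    exact_mod_cast this
  have hhR : (0 : ℝ) < h := by exact_mod_cast hh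
  have heR : (0 : ℝ) < e := by exact_mod_cast he
  have h4 : ((Finset.univ.filter (fun g : G => Ti g)).card : ℝ) = (Nat.card G : ℝ) * (((h : ℝ) - 1) / (h * e)) := by
    field_simp
    linarith
  have h5 : (Nat.card G : ℝ) * 1 ≤ (Nat.card G : ℝ) * (((h : ℝ) - 1) / (h * e) + e / h + κ) := by
    calc (Nat.card G : ℝ) * 1 ≤ (Finset.univ.filter (fun g : G => Ti g)).card + Z.card +
        (Finset.univ.filter (fun g : G => ¬ Nat.Coprime (orderOf g) (Nat.card ↥(W₁ ⊔ W₂)))).card := by rw [mul_one]; exact h3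
      _ ≤ (Nat.card G : ℝ) * (((h : ℝ) - 1) / (h * e)) + (Nat.card G : ℝ) * ((e : ℝ) / h) + (Nat.card G : ℝ) * κ := by
          rw [← h4]
          linarith
      _ = _ := by ring
  exact le_of_mul_le_mul_left h5 hG

end

end Cfsg.Agent.H4.PF14
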