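import Mathlib
import Cfsg.Agent.S1546

set_option autoImplicit false

/-! H4_PF14f (written by helper9): the arithmetic of Peterfalvi, section 14. -/

namespace Cfsg.Agent.H4.PF14

structure UC (p q u : ℕ) : Prop where
  c1 : p % q ≠ 1 → u * (p - 1) = p ^ q - 1
  c2 : p % q = 1 → u * q * (p - 1) = p ^ q - 1

open Finset

theorem gs (p q : ℕ) (hp : 1 ≤ p) : (∑ i ∈ range q, p ^ i) * (p - 1) = p ^ q - 1 := by
  obtain ⟨x, rfl⟩ : ∃ x, p = x + 1 := ⟨p - 1, by omega⟩
  have h := geom_sum_mul_add x q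
  simp only [Nat.add_sub_cancel]
  omega

theorem gs_div (p q : ℕ) (hp : 2 ≤ p) : (p ^ q - 1) / (p - 1) = ∑ i ∈ range q, p ^ i := by
  rw [← gs p q (by omega)]
  exact Nat.mul_div_cancel _ (by omega)

theorem gs_one (p n : ℕ) : ∃ T, ∑ i ∈ range (n + 1), p ^ i = p * T + 1 :=
  ⟨_, geom_sum_succ⟩

theorem gs_lb (p n : ℕ) : 1 + p + p ^ (n + 2) ≤ ∑ i ∈ range (n + 3), p ^ i := by
  rw [sum_range_succ, sum_range_succ']
  rw [sum_range_succ']
  simp only [pow_zero, zero_add, pow_one]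
  omega

theorem pow_exp (q t i : ℕ) : ∃ c, (1 + q * t) ^ i = 1 + i * (q * t) + q ^ 2 * c := by
  induction i with
  | zero => exact ⟨0, by simp⟩
  | succ i ih =>
    obtain ⟨c, hc⟩ := ih
    exact ⟨i * t ^ 2 + c + c * (q * t), by rw [pow_succ, hc]; ring⟩

theorem gs_q (p q : ℕ) (hq : q.Prime) (hq2 : q ≠ 2) (hpq : p % q = 1) :
    ∃ w, ∑ i ∈ range q, p ^ i = q * w ∧ w % q = 1 := by
  have hp : p = 1 + q * (p / q) := by
    have := Nat.div_add_mod p q
    omega
  set t := p / q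
  have hodd := hq.odd_of_ne_two hq2
  obtain ⟨m, hm⟩ := hodd
  have h1 : ∀ n, ∃ C, ∑ i ∈ range n, p ^ i = n + (∑ i ∈ range n, i) * (q * t) + q ^ 2 * C := by
    intro n
    induction n with
    | zero => exact ⟨0, by simp⟩
    | succ n ih =>
      obtain ⟨C, hC⟩ := ih
      obtain ⟨c, hc⟩ := pow_exp q t n
      refine ⟨C + c, ?_⟩
      rw [sum_range_succ, sum_range_succ, hC, hp, hc]
      ring
  obtain ⟨C, hC⟩ := h1 q
  have h2 := Finset.sum_range_id_mul_two q
  have h3 : ∑ i ∈ range q, i = q * m := by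
    have h4 : q - 1 = 2 * m := by omega
    rw [h4] at h2
    have h5 : (∑ i ∈ range q, i) * 2 = (q * m) * 2 := by rw [h2]; ring
    exact Nat.eq_of_mul_eq_mul_right (by norm_num) h5
  refine ⟨1 + q * (m * t + C), ?_, ?_⟩
  · rw [hC, h3]; ring
  · rw [Nat.add_mul_mod_self_left]
    exact Nat.mod_eq_of_lt hq.one_lt

variable {p q u v h : ℕ}

theorem three_le (hq : q.Prime) (hq2 : q ≠ 2) : 3 ≤ q := by
  have := hq.two_le
  omega

theorem five_le (hp : p.Prime) (hq : q.Prime) (hq2 : q ≠ 2) (hlt : q < p) : 5 ≤ p := by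
  have h1 := three_le hq hq2
  have h2 : p ≠ 4 := by rintro rfl; revert hp; norm_num
  omega

theorem UC.eq1 (hp : p.Prime) (hu : UC p q u) (h : p % q ≠ 1) : u = ∑ i ∈ range q, p ^ i := by
  have h1 := hu.c1 h
  rw [← gs p q hp.one_lt.le] at h1
  exact Nat.eq_of_mul_eq_mul_right (by have := hp.two_le; omega) h1

theorem UC.eq2 (hp : p.Prime) (hu : UC p q u) (h : p % q = 1) : u * q = ∑ i ∈ range q, p ^ i := by
  have h1 := hu.c2 h
  rw [← gs p q hp.one_lt.le] at h1
  exact Nat.eq_of_mul_eq_mul_right (by have := hp.two_le; omega) h1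

theorem UC.dvd (hp : p.Prime) (hu : UC p q u) : u ∣ ∑ i ∈ range q, p ^ i := by
  by_cases h : p % q = 1
  · rw [← hu.eq2 hp h]; exact Dvd.intro _ rfl
  · rw [← hu.eq1 hp h]

theorem UC.le (hp : p.Prime) (hq : q.Prime) (hu : UC p q u) : ∑ i ∈ range q, p ^ i ≤ u * q := by
  by_cases h : p % q = 1
  · rw [← hu.eq2 hp h]
  · rw [← hu.eq1 hp h]
    exact Nat.le_mul_of_pos_right _ hq.pos

theorem UC.odd (hp : p.Prime) (hq : q.Prime) (hp2 : p ≠ 2) (hq2 : q ≠ 2) (hu : UC p q u) : Odd u := by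
  have h1 := (Cfsg.Agent.S1546.result p q hp hq hp2 hq2).1
  rw [gs_div p q hp.two_le] at h1
  exact h1.of_dvd_nat (hu.dvd hp)

theorem num_u (hp : p.Prime) (hq : q.Prime) (hq2 : q ≠ 2) (hlt : q < p) (hu : UC p q u) :
    p * (p + 1) < u * q ∧ p < u ∧ 7 ≤ u ∧ Odd u := by
  have h3 := three_le hq hq2
  have h5 := five_le hp hq hq2 hlt
  have hodd := hu.odd hp hq (by omega) hq2
  have hle := hu.le hp hq
  obtain ⟨n, rfl⟩ : ∃ n, q = n + 3 := ⟨q - 3, by omega⟩
  have hlb := gs_lb p n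
  have h6 : p ^ 2 ≤ p ^ (n + 2) := Nat.pow_le_pow_right (by omega) (by omega)
  have h7 : p * (p + 1) < u * (n + 3) := by nlinarith
  have h8 : p < u := by
    by_contra hcon
    rw [not_lt] at hcon
    rcases Nat.eq_zero_or_pos n with h0 | h0
    · subst h0
      have h9 : u * 3 ≤ p * 3 := Nat.mul_le_mul_right _ hcon
      simp only [zero_add] at h7
      nlinarith
    · have h10 : p ^ 3 ≤ p ^ (n + 2) := Nat.pow_le_pow_right (by omega) (by omega)
      have h11 : u * (n + 3) ≤ p * p := Nat.mul_le_mul hcon (by omega)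
      have h12 : p ^ 3 = p * p * p := by ring
      nlinarith
  refine ⟨h7, h8, ?_, hodd⟩
  obtain ⟨m, hm⟩ := hodd
  omega

theorem cop_pq (hp : p.Prime) (hq : q.Prime) (hlt : q < p) : Nat.Coprime p q :=
  (Nat.coprime_primes hp hq).2 (by omega)

theorem mod_of (hp : p.Prime) (hq : q.Prime) (hlt : q < p) {x : ℕ} (h1 : x ≡ 1 [MOD p]) (h2 : x ≡ 1 [MOD q]) :
    x ≡ 1 [MOD (p * q)] := (Nat.modEq_and_modEq_iff_modEq_mul (cop_pq hp hq hlt)).1 ⟨h1, h2⟩

theorem big_of (hp : p.Prime) (hq : q.Prime) (hq2 : q ≠ 2) (hlt : q < p) {x : ℕ} (h1 : x ≡ 1 [MOD (p * q)]) (ho : Odd x) (hx : x ≠ 1) :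
    2 * (p * q) + 1 ≤ x := by
  have h5 := five_le hp hq hq2 hlt
  have hx1 : 1 ≤ x := ho.pos
  have h2 : p * q ∣ x - 1 := (Nat.modEq_iff_dvd' hx1).1 h1.symm
  obtain ⟨j, hj⟩ := h2
  have hpo : Odd (p * q) := (hp.odd_of_ne_two (by omega)).mul (hq.odd_of_ne_two hq2)
  have hje : Even (p * q * j) := by
    rw [← hj]
    exact Nat.Odd.sub_odd ho odd_one
  have hje' : Even j := by
    rcases Nat.even_mul.1 hje with h6 | h6
    · exact absurd h6 (Nat.not_even_iff_odd.2 hpo)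
    · exact h6
  obtain ⟨c, hc⟩ := hje'
  have hc0 : c ≠ 0 := by
    rintro rfl
    rw [hc] at hj
    simp at hj
    omega
  have h7 : p * q * 2 ≤ p * q * j := Nat.mul_le_mul_left _ (by omega)
  omega

theorem num_h (hp : p.Prime) (hq : q.Prime) (hq2 : q ≠ 2) (hlt : q < p) (hu : UC p q u)
    (ho : Odd h) (hm : h % (p * q) = 1) (hd : u ∣ h) (hne : h ≠ u) : u * ((q + 1) * p + q) ≤ h := by
  have h3 := three_le hq hq2
  have h5 := five_le hp hq hq2 hlt
  obtain ⟨h', rfl⟩ := hd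
  have hpq1 : 1 < p * q := by nlinarith
  have hm' : u * h' ≡ 1 [MOD (p * q)] := by
    rw [Nat.ModEq, hm, Nat.mod_eq_of_lt hpq1]
  have hmp : u * h' ≡ 1 [MOD p] := hm'.of_mul_right q
  have hmq : u * h' ≡ 1 [MOD q] := hm'.of_mul_left p
  have ho' : Odd h' := (Nat.odd_mul.1 ho).2
  have hS := gs_one p (q - 1)
  rw [Nat.sub_add_cancel hq.one_lt.le] at hS
  obtain ⟨T, hT⟩ := hS
  have hSp : ∑ i ∈ range q, p ^ i ≡ 1 [MOD p] := by
    rw [hT, Nat.ModEq, Nat.mul_add_mod]
  apply Nat.mul_le_mul_left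
  by_cases hc : p % q = 1
  · have he := hu.eq2 hp hc
    obtain ⟨w, hw, hw1⟩ := gs_q p q hq hq2 hc
    have huw : u = w := by
      have : q * u = q * w := by rw [← hw, ← he, mul_comm]
      exact Nat.eq_of_mul_eq_mul_left hq.pos this
    have hu1 : u ≡ 1 [MOD q] := by
      rw [huw, Nat.ModEq, hw1, Nat.mod_eq_of_lt hq.one_lt]
    have h1 : h' ≡ 1 [MOD q] := by
      have h4 : u * h' ≡ 1 * h' [MOD q] := hu1.mul_right h'
      rw [one_mul] at h4
      exact h4.symm.trans hmq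
    have h2 : h' ≡ q [MOD p] := by
      have h4 : (u * q) * h' ≡ 1 * h' [MOD p] := by
        rw [he]; exact hSp.mul_right h'
      have h6 : (u * h') * q ≡ 1 * q [MOD p] := hmp.mul_right q
      rw [one_mul] at h4 h6
      have h7 : (u * q) * h' = (u * h') * q := by ring
      rw [h7] at h4
      exact h4.symm.trans h6
    have hqh : q ≤ h' := by
      have h4 : h' % p = q := by
        rw [h2, Nat.mod_eq_of_lt hlt]
      have := Nat.mod_le h' p
      omega
    obtain ⟨j, hj⟩ : p ∣ h' - q := (Nat.modEq_iff_dvd' hqh).1 h2.symm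
    have hh' : h' = q + p * j := by omega
    have hpo : Odd p := hp.odd_of_ne_two (by omega)
    have hqo : Odd q := hq.odd_of_ne_two hq2
    have hje : Even j := by
      by_contra hcon
      rw [Nat.not_even_iff_odd] at hcon
      have : Even h' := by
        rw [hh']
        exact hqo.add_odd (hpo.mul hcon)
      exact absurd this (Nat.not_even_iff_odd.2 ho')
    have hjq : j ≡ 1 [MOD q] := by
      have h4 : p ≡ 1 [MOD q] := by rw [Nat.ModEq, hc, Nat.mod_eq_of_lt hq.one_lt]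
      have h6 : p * j ≡ 1 * j [MOD q] := h4.mul_right j
      have h7 : h' ≡ p * j [MOD q] := by
        rw [hh', Nat.ModEq]
        simp
      rw [one_mul] at h6
      exact h6.symm.trans (h7.symm.trans h1)
    have hj1 : 1 ≤ j := by
      by_contra hcon
      have : j = 0 := by omega
      rw [this, Nat.ModEq, Nat.zero_mod, Nat.mod_eq_of_lt hq.one_lt] at hjq
      omega
    obtain ⟨c, hcj⟩ : q ∣ j - 1 := (Nat.modEq_iff_dvd' hj1).1 hjq.symm
    have hc0 : c ≠ 0 := by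
      rintro rfl
      rw [mul_zero] at hcj
      have : j = 1 := by omega
      rw [this] at hje
      exact absurd hje (by decide)
    have h8 : q * 1 ≤ q * c := Nat.mul_le_mul_left _ (Nat.one_le_iff_ne_zero.2 hc0)
    have h9 : q + 1 ≤ j := by omega
    rw [hh']
    nlinarith
  · have he := hu.eq1 hp hc
    have hu1 : u ≡ 1 [MOD q] := by
      have h1 := ((Cfsg.Agent.S1546.result p q hp hq (by omega) hq2).2.2 hc).2 u (by
        rw [gs_div p q hp.two_le]; exact hu.dvd hp)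
      rw [Nat.ModEq, h1, Nat.mod_eq_of_lt hq.one_lt]
    have hup : u ≡ 1 [MOD p] := by rw [he]; exact hSp
    have h1 : h' ≡ 1 [MOD q] := by
      have h4 : u * h' ≡ 1 * h' [MOD q] := hu1.mul_right h'
      rw [one_mul] at h4
      exact h4.symm.trans hmq
    have h2 : h' ≡ 1 [MOD p] := by
      have h4 : u * h' ≡ 1 * h' [MOD p] := hup.mul_right h'
      rw [one_mul] at h4
      exact h4.symm.trans hmp
    have h4 := big_of hp hq hq2 hlt (mod_of hp hq hlt h2 h1) ho' (by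
      rintro rfl
      exact hne (mul_one u))
    nlinarith

theorem num_v (hp : p.Prime) (hq : q.Prime) (hq2 : q ≠ 2) (hlt : q < p) (hv : UC q p v) :
    v * (q - 1) = q ^ p - 1 ∧ v % (p * q) = 1 ∧ q ^ (p - 1) + q < v ∧ Odd v := by
  have h3 := three_le hq hq2
  have h5 := five_le hp hq hq2 hlt
  have hqp : q % p ≠ 1 := by
    rw [Nat.mod_eq_of_lt hlt]; omega
  have he := hv.eq1 hq hqp
  refine ⟨hv.c1 hqp, ?_, ?_, hv.odd hq hp hq2 (by omega)⟩
  · have h1 := ((Cfsg.Agent.S1546.result q p hq hp hq2 (by omega)).2.2 hqp).2 v (by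
      rw [gs_div q p hq.two_le]; exact hv.dvd hq)
    have hvp : v ≡ 1 [MOD p] := by rw [Nat.ModEq, h1, Nat.mod_eq_of_lt hp.one_lt]
    have hS := gs_one q (p - 1)
    rw [Nat.sub_add_cancel hp.one_lt.le] at hS
    obtain ⟨T, hT⟩ := hS
    have hvq : v ≡ 1 [MOD q] := by
      rw [he, hT, Nat.ModEq, Nat.mul_add_mod]
    have h2 := mod_of hp hq hlt hvp hvq
    rw [Nat.ModEq, Nat.mod_eq_of_lt (show 1 < p * q by nlinarith)] at h2
    exact h2
  · rw [he]
    obtain ⟨n, hn⟩ : ∃ n, p = n + 3 := ⟨p - 3, by omega⟩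
    have hlb := gs_lb q n
    rw [← hn] at hlb
    have : p - 1 = n + 2 := by omega
    rw [this]
    omega

end Cfsg.Agent.H4.PF14
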