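import Mathlib
import Cfsg.Agent.H4_PF14f

/-! Peterfalvi §14: arithmetic, continued -/

set_option autoImplicit false
set_option linter.all false

namespace Cfsg.Agent.H4.PF14

theorem castdiv {p q u : ℕ} (hq : 0 < q) : ((p * q : ℕ) : ℝ) * (((u : ℝ) - 1) / q) = p * ((u : ℝ) - 1) := by
  have : (q : ℝ) ≠ 0 := by exact_mod_cast hq.ne'
  push_cast
  field_simp

/-- case (i) -/
theorem num_i {p q u h : ℕ} (hp : p.Prime) (hq : q.Prime) (hq2 : q ≠ 2) (hlt : q < p) (hu : UC p q u)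
    (hh : u * ((q + 1) * p + q) ≤ h) (h1 : (h : ℝ) - 1 ≤ (p * q : ℕ) * (((u : ℝ) - 1) / q)) : False := by
  rw [castdiv hq.pos] at h1
  have h2 : (u : ℝ) * ((q + 1) * p + q) ≤ h := by exact_mod_cast hh
  have h3 : (2 : ℝ) ≤ p := by exact_mod_cast hp.two_le
  have h4 : (0 : ℝ) ≤ u := Nat.cast_nonneg _
  have h5 : (0 : ℝ) ≤ q := Nat.cast_nonneg _
  have h6 : (0 : ℝ) ≤ u * q * p := by positivity
  have h7 : (0 : ℝ) ≤ u * q := by positivity
  nlinarith

/-- case (ii) -/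
theorem num_ii {p q u v h : ℕ} (hp : p.Prime) (hq : q.Prime) (hq2 : q ≠ 2) (hlt : q < p) (hu : UC p q u) (hv : UC q p v)
    (hh : u * ((q + 1) * p + q) ≤ h)
    (h1 : 1 ≤ ((h : ℝ) - 1) / (h * (p * q : ℕ)) + (p * q : ℕ) / h +
      (1 / ((u : ℝ) * q) + 1 / ((v : ℝ) * p) + ((p : ℝ) - 1) * ((q : ℝ) - 1) / (p * q))) : False := by
  obtain ⟨a1, a2, a3, -⟩ := num_u hp hq hq2 hlt hu
  obtain ⟨-, -, b3, -⟩ := num_v hp hq hq2 hlt hv
  have hq3 : 3 ≤ q := by
    have := hq.two_le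
    omega
  have hp4 : 4 ≤ p := by omega
  have hvq : q < v := lt_of_le_of_lt (Nat.le_add_left _ _) b3
  have hq0 : 0 < q := hq.pos
  have hp0 : 0 < p := hp.pos
  have hu0 : 0 < u := by omega
  have hv0 : 0 < v := by omega
  have hh2 : u * (p * q) < h := by
    have : u * (p * q) < u * ((q + 1) * p + q) := by
      apply Nat.mul_lt_mul_of_pos_left _ hu0
      nlinarith
    omega
  have hh0 : 0 < h := by omega
  have P0 : (0 : ℝ) < p := by exact_mod_cast hp0
  have Q0 : (0 : ℝ) < q := by exact_mod_cast hq0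
  have U0 : (0 : ℝ) < u := by exact_mod_cast hu0
  have V0 : (0 : ℝ) < v := by exact_mod_cast hv0
  have H0 : (0 : ℝ) < h := by exact_mod_cast hh0
  have A1 : (p : ℝ) * (p + 1) < u * q := by exact_mod_cast a1
  have B3 : (q : ℝ) < v := by exact_mod_cast hvq
  have HH : (u : ℝ) * (p * q) < h := by exact_mod_cast hh2
  have P4 : (4 : ℝ) ≤ p := by exact_mod_cast hp4
  have QP : (q : ℝ) + 1 ≤ p := by exact_mod_cast hlt
  push_cast at h1
  have e : (p : ℝ) * q * (((h : ℝ) - 1) / (h * (p * q)) + (p * q) / h +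
      (1 / ((u : ℝ) * q) + 1 / ((v : ℝ) * p) + ((p : ℝ) - 1) * ((q : ℝ) - 1) / (p * q))) =
      (1 - 1 / h) + (p * q) * (p * q) / h + p / u + q / v + ((p : ℝ) - 1) * ((q : ℝ) - 1) := by
    field_simp
    ring
  have h2 : (p : ℝ) * q ≤ (1 - 1 / h) + (p * q) * (p * q) / h + p / u + q / v + ((p : ℝ) - 1) * ((q : ℝ) - 1) := by
    rw [← e]
    have := mul_le_mul_of_nonneg_left h1 (show (0 : ℝ) ≤ p * q by positivity)
    linarith
  have i1 : (0 : ℝ) < 1 / h := by positivity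
  have i2 : (q : ℝ) / v < 1 := by rw [div_lt_one V0]; exact B3
  have i3 : ((p : ℝ) * q) * (p * q) / h < p * q / u := by
    rw [div_lt_div_iff₀ H0 U0]
    have : (p : ℝ) * q * (u * (p * q)) < p * q * h := mul_lt_mul_of_pos_left HH (by positivity)
    linarith
  have i4 : (p : ℝ) * q / u + p / u < q := by
    rw [← add_div, div_lt_iff₀ U0]
    have k1 : (p : ℝ) * q + p = p * (q + 1) := by ring
    have k2 : (p : ℝ) * (q + 1) ≤ p * p := mul_le_mul_of_nonneg_left QP P0.le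
    nlinarith
  have h3 : (p : ℝ) * q < 1 + q + 1 + ((p : ℝ) - 1) * ((q : ℝ) - 1) := by linarith
  nlinarith

/-- case (iii-a) -/
theorem num_iiia {p q v h : ℕ} (hp : p.Prime) (hq : q.Prime) (hq2 : q ≠ 2) (hlt : q < p) (hv : UC q p v)
    (hm : h % (p * q) = 1) (ho : Odd h) (hd : v ∣ h) (h1 : (h : ℝ) - 1 ≤ (p * q : ℕ) * (((v : ℝ) - 1) / p)) : h = v := by
  obtain ⟨-, b2, b3, -⟩ := num_v hp hq hq2 hlt hv
  rw [mul_comm p q, castdiv hp.pos] at h1
  obtain ⟨m, rfl⟩ := hd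
  by_contra hne
  have hm1 : m ≠ 1 := by
    rintro rfl
    exact hne (mul_one _)
  have hm2 : m % (p * q) = 1 := by
    rw [Nat.mul_mod, b2, one_mul, Nat.mod_mod] at hm
    exact hm
  have hm3 : p * q + 1 ≤ m := by
    by_contra hlt'
    push Not at hlt'
    rcases Nat.lt_or_ge m (p * q) with h2 | h2
    · rw [Nat.mod_eq_of_lt h2] at hm2
      exact hm1 hm2
    · have h3 : m = p * q := by omega
      rw [h3, Nat.mod_self] at hm2
      omega
  have V0 : (0 : ℝ) < v := by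
    have : 0 < v := by omega
    exact_mod_cast this
  have M : (p : ℝ) * q + 1 ≤ m := by exact_mod_cast hm3
  have P1 : (1 : ℝ) ≤ p := by exact_mod_cast hp.one_le
  have Q2 : (2 : ℝ) ≤ q := by exact_mod_cast hq.two_le
  push_cast at h1
  have h4 : (v : ℝ) * (p * q + 1) ≤ v * m := mul_le_mul_of_nonneg_left M V0.le
  have h5 : (v : ℝ) * q ≤ v * (p * q) := mul_le_mul_of_nonneg_left (by nlinarith) V0.le
  nlinarith

theorem pow3' : ∀ n : ℕ, 5 ≤ n → n ^ 2 ≤ 3 ^ (n - 2) := by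
  intro n hn
  induction n, hn using Nat.le_induction with
  | base => norm_num
  | succ n hn ih =>
    have e : n + 1 - 2 = (n - 2) + 1 := by omega
    rw [e, pow_succ 3 (n - 2)]
    nlinarith

theorem pow3'' : ∀ n : ℕ, 7 ≤ n → n ^ 2 ≤ 3 ^ (n - 3) := by
  intro n hn
  induction n, hn using Nat.le_induction with
  | base => norm_num
  | succ n hn ih =>
    have e : n + 1 - 3 = (n - 3) + 1 := by omega
    rw [e, pow_succ 3 (n - 3)]
    nlinarith

theorem p_ge5 {p q : ℕ} (hp : p.Prime) (hq : q.Prime) (hq2 : q ≠ 2) (hlt : q < p) : 3 ≤ q ∧ 5 ≤ p ∧ q + 2 ≤ p := by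
  have h1 := hq.two_le
  have h2 : Odd q := hq.odd_of_ne_two hq2
  have h3 : Odd p := hp.odd_of_ne_two (by omega)
  obtain ⟨a, ha⟩ := h2
  obtain ⟨b, hb⟩ := h3
  omega

/-- type III -/
theorem num_III {p q u v h : ℕ} (hp : p.Prime) (hq : q.Prime) (hq2 : q ≠ 2) (hlt : q < p) (hu : UC p q u) (hv : UC q p v)
    (hh : u * ((q + 1) * p + q) ≤ h)
    (h2 : ((v : ℝ) - 1 ≤ p * (((p * q : ℕ) : ℝ) - 1)) ∨ (h : ℝ) - 1 ≤ (p * q : ℕ) * ((p : ℝ) - 1)) : False := by
  obtain ⟨a1, a2, a3, -⟩ := num_u hp hq hq2 hlt hu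
  obtain ⟨-, -, b3, -⟩ := num_v hp hq hq2 hlt hv
  obtain ⟨hq3, hp5, hqp2⟩ := p_ge5 hp hq hq2 hlt
  have P5 : (5 : ℝ) ≤ p := by exact_mod_cast hp5
  have Q3 : (3 : ℝ) ≤ q := by exact_mod_cast hq3
  rcases h2 with h2 | h2
  · have k1 : q ^ (p - 1) = q * q ^ (p - 2) := by
      rw [← pow_succ']; congr 1; omega
    have k2 : p ^ 2 ≤ q ^ (p - 2) := (pow3' p hp5).trans (Nat.pow_le_pow_left hq3 _)
    have k3 : q * p ^ 2 ≤ q ^ (p - 1) := by rw [k1]; exact Nat.mul_le_mul_left _ k2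
    have k4 : q * p ^ 2 + q < v := by omega
    have k5 : (q : ℝ) * p ^ 2 + q < v := by exact_mod_cast k4
    push_cast at h2
    nlinarith
  · have k1 : (p + 1) * (p * q) ≤ h := by
      calc (p + 1) * (p * q) ≤ u * (p * q) := Nat.mul_le_mul_right _ a2
        _ ≤ u * ((q + 1) * p + q) := Nat.mul_le_mul_left _ (by nlinarith)
        _ ≤ h := hh
    have k2 : ((p : ℝ) + 1) * (p * q) ≤ h := by exact_mod_cast k1
    push_cast at h2
    nlinarith

/-- a lower bound for `u` -/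
theorem num_lb {p q u : ℕ} (hp : p.Prime) (hu : UC p q u) (hq : 0 < q) : p ^ q - 1 ≤ u * q * (p - 1) := by
  by_cases h : p % q = 1
  · exact (hu.c2 h).ge
  · have h1 := hu.c1 h
    rw [← h1, mul_assoc, mul_comm q, ← mul_assoc]
    exact Nat.le_mul_of_pos_right _ hq

/-- case (iii-b) -/
theorem num_iiib {p q u v h k e' : ℕ} (hp : p.Prime) (hq : q.Prime) (hq2 : q ≠ 2) (hlt : q < p) (hu : UC p q u) (hv : UC q p v)
    (hh : u * ((q + 1) * p + q) ≤ h) (h1 : (h : ℝ) - 1 ≤ (p * q : ℕ) * (((v : ℝ) - 1) / p)) (he : e' ≤ p * q)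
    (hk : v ≤ k) (h2 : ((k : ℝ) - 1 ≤ e' * (((p * q : ℕ) : ℝ) - 1)) ∨ (h : ℝ) - 1 ≤ (p * q : ℕ) * ((e' : ℝ) - 1)) : False := by
  obtain ⟨a1, a2, a3, -⟩ := num_u hp hq hq2 hlt hu
  obtain ⟨-, -, b3, -⟩ := num_v hp hq hq2 hlt hv
  obtain ⟨hq3, hp5, hqp2⟩ := p_ge5 hp hq hq2 hlt
  have P5 : (5 : ℝ) ≤ p := by exact_mod_cast hp5
  have Q3 : (3 : ℝ) ≤ q := by exact_mod_cast hq3
  rw [mul_comm p q, castdiv hp.pos] at h1
  have E : (e' : ℝ) ≤ p * q := by exact_mod_cast he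
  have hlb := num_lb hp hu hq.pos
  rcases h2 with h2 | h2
  · have K : (v : ℝ) ≤ k := by exact_mod_cast hk
    have h3 : (v : ℝ) - 1 ≤ (p * q) * ((p * q) - 1) := by
      push_cast at h2
      have : (e' : ℝ) * (p * q - 1) ≤ (p * q) * (p * q - 1) := mul_le_mul_of_nonneg_right E (by nlinarith)
      linarith
    have hp7 : p < 7 := by
      by_contra hc
      push Not at hc
      have k1 : q ^ (p - 1) = q ^ 2 * q ^ (p - 3) := by
        rw [← pow_add]; congr 1; omega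
      have k2 : p ^ 2 ≤ q ^ (p - 3) := (pow3'' p hc).trans (Nat.pow_le_pow_left hq3 _)
      have k3 : q ^ 2 * p ^ 2 ≤ q ^ (p - 1) := by rw [k1]; exact Nat.mul_le_mul_left _ k2
      have k4 : q ^ 2 * p ^ 2 + q < v := by omega
      have k5 : (q : ℝ) ^ 2 * p ^ 2 + q < v := by exact_mod_cast k4
      nlinarith
    have hp5' : p = 5 := by
      rcases (show p = 5 ∨ p = 6 by omega) with h | h
      · exact h
      · rw [h] at hp; exact absurd hp (by norm_num)
    have hq3' : q = 3 := by omega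
    subst hp5' hq3'
    have hv1 := hv.c1 (by norm_num)
    have hv2 : v = 121 := by norm_num at hv1; omega
    have hu1 := hu.c1 (by norm_num)
    have hu2 : u = 31 := by norm_num at hu1; omega
    subst hv2 hu2
    have : (31 * ((3 + 1) * 5 + 3) : ℝ) ≤ h := by exact_mod_cast hh
    norm_num at h1 this
    linarith
  · have h3 : (h : ℝ) - 1 ≤ (p * q) * (p * q - 1) := by
      push_cast at h2
      have : ((p : ℝ) * q) * (e' - 1) ≤ (p * q) * (p * q - 1) := mul_le_mul_of_nonneg_left (by linarith) (by positivity)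
      linarith
    have h4 : h ≤ p * q * (p * q) := by
      have : (h : ℝ) ≤ p * q * (p * q) := by nlinarith
      exact_mod_cast this
    rcases Nat.lt_or_ge q 4 with h5 | h5
    · have hq3' : q = 3 := by omega
      subst hq3'
      have h6 : (p : ℝ) ^ 3 - 1 ≤ u * 3 * (p - 1) := by
        have h7 : ((p ^ 3 - 1 : ℕ) : ℝ) ≤ ((u * 3 * (p - 1) : ℕ) : ℝ) := by exact_mod_cast hlb
        push_cast [Nat.cast_sub (Nat.one_le_pow 3 p hp.pos), Nat.cast_sub hp.one_le] at h7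
        exact h7
      have h7 : (p : ℝ) ^ 2 + p + 1 ≤ 3 * u := by
        have e1 : (p : ℝ) ^ 3 - 1 = (p ^ 2 + p + 1) * (p - 1) := by ring
        rw [e1] at h6
        have := le_of_mul_le_mul_right (show ((p : ℝ) ^ 2 + p + 1) * (p - 1) ≤ (3 * u) * (p - 1) by linarith) (by linarith)
        exact this
      have h8 : (u : ℝ) * ((3 + 1) * p + 3) ≤ h := by exact_mod_cast hh
      push_cast at h3
      have h9 : ((p : ℝ) ^ 2 + p + 1) * (4 * p + 3) ≤ 3 * u * (4 * p + 3) := mul_le_mul_of_nonneg_right h7 (by linarith)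
      have h10 : ((p : ℝ) ^ 2 + p + 1) * (4 * p + 3) ≤ 3 * ((p * 3) * (p * 3 - 1) + 1) := by nlinarith
      have h11 : 0 < (p : ℝ) * ((p - 1) * (p - 4)) := by
        apply mul_pos (by linarith)
        apply mul_pos <;> linarith
      nlinarith
    · have hq5 : 5 ≤ q := by
        rcases (show q = 4 ∨ 5 ≤ q by omega) with h | h
        · rw [h] at hq; exact absurd hq (by norm_num)
        · exact h
      have h6 : p ^ 5 ≤ p ^ q := Nat.pow_le_pow_right hp.pos hq5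
      have h7 : p ^ 4 < u * q := by
        by_contra hc
        push Not at hc
        have h8 : u * q * (p - 1) ≤ p ^ 4 * (p - 1) := Nat.mul_le_mul_right _ hc
        have h9 : p ^ 4 * (p - 1) = p ^ 5 - p ^ 4 := by
          rw [Nat.mul_sub, mul_one, ← pow_succ]
        have h10 : 1 < p ^ 4 := Nat.one_lt_pow (by norm_num) hp.one_lt
        have h11 : p ^ 4 ≤ p ^ 5 := Nat.pow_le_pow_right hp.pos (by norm_num)
        omega
      have h8 : u * q * p ≤ h := by
        calc u * q * p = u * (q * p) := by ring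
          _ ≤ u * ((q + 1) * p + q) := Nat.mul_le_mul_left _ (by nlinarith)
          _ ≤ h := hh
      have h9 : p ^ 4 * p < u * q * p := Nat.mul_lt_mul_of_pos_right h7 hp.pos
      have h10 : p * q * (p * q) ≤ p ^ 4 * p := by
        calc p * q * (p * q) ≤ p * p * (p * p) := Nat.mul_le_mul (Nat.mul_le_mul_left _ hlt.le) (Nat.mul_le_mul_left _ hlt.le)
          _ = p ^ 4 * 1 := by ring
          _ ≤ p ^ 4 * p := Nat.mul_le_mul_left _ hp.one_le
      omega

end Cfsg.Agent.H4.PF14
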