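import Mathlib
import Cfsg.Agent.H4_PF14c

/-! Peterfalvi §14: the virtual character attached to a type P subgroup -/

set_option autoImplicit false
set_option linter.all false

namespace Cfsg.Agent.H4.PF14

open Cfsg Cfsg.Agent.H3.CharBasic Cfsg.Agent.H3.CharIrr Cfsg.Agent.H3.CharComplete
  Cfsg.Agent.H3.CharMult Cfsg.Agent.H3.CharInd Cfsg.Agent.H3.CharInt Cfsg.Agent.H3.Clifford
  Cfsg.Agent.H10.Coh Cfsg.Agent.H10.CycEx3 Cfsg.Agent.H10.CycTI Cfsg.Agent.H10.CycTI2 Cfsg.Agent.H10.CycTI3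
  Cfsg.Agent.H10.Coh2 Cfsg.Agent.H10.Coh3 Cfsg.Agent.H10.Coh4 Cfsg.Agent.H10.PM Cfsg.Agent.H10.Sib2 Cfsg.Agent.H10.Fin1 Cfsg.Agent.H10.Fin2
  Cfsg.Agent.H10.PrD2 Cfsg.Agent.H10.PrD3 Cfsg.Agent.H10.PrD4 Cfsg.Agent.H10.PrD5 Cfsg.Agent.H10.PrD6
open scoped ComplexConjugate

theorem order_conj' {G : Type*} [Group G] (x g : G) : orderOf (x * g * x⁻¹) = orderOf g :=
  (MulAut.conj x).orderOf_eq g

theorem card_W {G : Type*} [Group G] {W₁ W₂ : Subgroup G} (hW : IsSelfNormalizingCyclic W₁ W₂) :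
    Nat.card ↥(W₁ ⊔ W₂) = Nat.card W₁ * Nat.card W₂ := by
  have hc : ∀ (a : W₁) (b : W₂), Commute (W₁.subtype a) (W₂.subtype b) := fun a b => hcomm hW a a.2 b b.2
  have h1 : (MonoidHom.noncommCoprod W₁.subtype W₂.subtype hc).range = W₁ ⊔ W₂ := by
    rw [MonoidHom.noncommCoprod_range, Subgroup.range_subtype, Subgroup.range_subtype]
  have hinj : Function.Injective (MonoidHom.noncommCoprod W₁.subtype W₂.subtype hc) := by
    rw [injective_iff_map_eq_one]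
    rintro ⟨a, b⟩ hab
    have h2 : (a : G) * b = 1 := hab
    have h3 : (a : G) ∈ W₁ ⊓ W₂ := ⟨a.2, by
      rw [eq_inv_of_mul_eq_one_left h2]; exact W₂.inv_mem b.2⟩
    rw [hdisj hW, Subgroup.mem_bot] at h3
    have h4 : (b : G) = 1 := by rw [h3, one_mul] at h2; exact h2
    exact Prod.ext (Subtype.ext h3) (Subtype.ext h4)
  rw [← h1, ← Nat.card_congr (MonoidHom.ofInjective hinj).toEquiv, Nat.card_prod]

section Ind

variable {L : Type*} [Group L] [Fintype L] (B : Subgroup L)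

open Classical in
theorem ind1_val (g : L) : indFun B (fun _ => 1) g = (Nat.card B : ℂ)⁻¹ * ((Finset.univ.filter (fun x : L => x⁻¹ * g * x ∈ B)).card : ℂ) := by
  rw [indFun, Finset.card_filter]
  push_cast
  congr 1
  refine Finset.sum_congr rfl fun x _ => ?_
  by_cases h : x⁻¹ * g * x ∈ B
  · rw [if_pos h, ext_mem B _ h]
  · rw [if_neg h, ext_not_mem B _ h]

end Ind

section

variable {G : Type*} [Group G] [Fintype G] {L : Subgroup G} [Fintype L] {K H : Subgroup L} {W₁ W₂ : Subgroup G} {A : Set G}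
  {R : G → Subgroup G}

/-- the factorisation of a type P group -/
structure TS (L : Subgroup G) (K : Subgroup L) (W₁ W₂ : Subgroup G) (P U : Subgroup L) : Prop where
  Pn : P.Normal
  PK : P ≤ K
  W₂P : W₂.subgroupOf L ≤ P
  UK : U ≤ K
  UP : U ⊓ P = ⊥
  fac : ∀ k ∈ K, ∃ u ∈ U, ∃ x ∈ P, k = u * x
  UE : ∀ e ∈ W₁.subgroupOf L, ∀ u ∈ U, e * u * e⁻¹ ∈ U
  Pab : ∀ a ∈ P, ∀ b ∈ P, a * b = b * a
  cop : Nat.Coprime (Nat.card W₁) (Nat.card P)

variable {P U : Subgroup L} (h : PT L K W₁ W₂) (t : TS L K W₁ W₂ P U)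
include h t

theorem TS.mem_B {x : L} : x ∈ P ⊔ W₁.subgroupOf L ↔ ∃ z ∈ P, ∃ e ∈ W₁.subgroupOf L, x = z * e := by
  haveI := t.Pn
  constructor
  · intro hx
    obtain ⟨k, hk, w, hw, e⟩ := Cfsg.Agent.H10.Dade.mem_sup_of_norm (H := P) (K := W₁.subgroupOf L)
      (fun k _ h' hh => t.Pn.conj_mem h' hh k) hx
    exact ⟨k, hk, w, hw, e.symm⟩
  · rintro ⟨z, hz, e, he, rfl⟩
    exact (P ⊔ W₁.subgroupOf L).mul_mem (Subgroup.mem_sup_left hz) (Subgroup.mem_sup_right he)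

theorem TS.B_K {x : L} (hx : x ∈ P ⊔ W₁.subgroupOf L) (hK : x ∈ K) : x ∈ P := by
  obtain ⟨z, hz, e, he, rfl⟩ := (t.mem_B h).1 hx
  have h1 : e ∈ K ⊓ W₁.subgroupOf L := ⟨by
    have := K.mul_mem (K.inv_mem (t.PK hz)) hK
    rwa [inv_mul_cancel_left] at this, he⟩
  rw [h.inf, Subgroup.mem_bot] at h1
  rw [h1, mul_one]; exact hz

theorem TS.B_U {x : L} (hx : x ∈ P ⊔ W₁.subgroupOf L) (hU : x ∈ U) : x = 1 := by
  have h1 : x ∈ U ⊓ P := ⟨hU, t.B_K h hx (t.UK hU)⟩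
  rwa [t.UP, Subgroup.mem_bot] at h1

/-- `L = U (P W₁)` -/
theorem TS.fac_L (x : L) : ∃ u ∈ U, ∃ b ∈ P ⊔ W₁.subgroupOf L, x = u * b := by
  haveI := h.normal
  obtain ⟨k, hk, w, hw, e⟩ := Cfsg.Agent.H10.Dade.mem_sup_of_norm (H := K) (K := W₁.subgroupOf L)
      (fun k _ h' hh => h.normal.conj_mem h' hh k) (show x ∈ K ⊔ W₁.subgroupOf L by rw [h.sup]; exact Subgroup.mem_top _)
  obtain ⟨u, hu, z, hz, rfl⟩ := t.fac k hk
  exact ⟨u, hu, z * w, (P ⊔ W₁.subgroupOf L).mul_mem (Subgroup.mem_sup_left hz) (Subgroup.mem_sup_right hw), by rw [← e, mul_assoc]⟩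

theorem TS.index_B : (P ⊔ W₁.subgroupOf L).index = Nat.card U := by
  have hcomp : U.IsComplement' (P ⊔ W₁.subgroupOf L) :=
    Subgroup.isComplement'_of_disjoint_and_mul_eq_univ (by
      rw [disjoint_iff, eq_bot_iff]
      intro x hx
      rw [Subgroup.mem_bot]
      exact t.B_U h hx.2 hx.1) (by
      ext x
      simp only [Set.mem_univ, iff_true]
      obtain ⟨u, hu, b, hb, e⟩ := t.fac_L h x
      exact ⟨u, hu, b, hb, e.symm⟩)
  exact hcomp.index_eq_card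

theorem TS.card_B : Nat.card ↥(P ⊔ W₁.subgroupOf L) = Nat.card P * Nat.card W₁ := by
  haveI := t.Pn
  have h1 : P.relIndex (P ⊔ W₁.subgroupOf L) = Nat.card W₁ := by
    rw [Subgroup.relIndex_sup_left, ← Subgroup.inf_relIndex_right]
    have h2 : P ⊓ W₁.subgroupOf L = ⊥ := by
      rw [eq_bot_iff, ← h.inf]
      exact inf_le_inf_right _ t.PK
    rw [h2, Subgroup.relIndex_bot_left]
    exact Nat.card_congr (Subgroup.subgroupOfEquivOfLe h.W₁_le).toEquiv
  have h3 := (P.subgroupOf (P ⊔ W₁.subgroupOf L)).card_mul_index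
  have h4 : Nat.card (P.subgroupOf (P ⊔ W₁.subgroupOf L)) = Nat.card P :=
    Nat.card_congr (Subgroup.subgroupOfEquivOfLe (le_sup_left : P ≤ P ⊔ W₁.subgroupOf L)).toEquiv
  rw [h4] at h3
  rw [← h3, ← h1]
  rfl

theorem TS.relIndex_PK : (P.subgroupOf K).index = Nat.card U := by
  have hcomp : (U.subgroupOf K).IsComplement' (P.subgroupOf K) :=
    Subgroup.isComplement'_of_disjoint_and_mul_eq_univ (by
      rw [disjoint_iff, eq_bot_iff]
      intro x hx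
      have h1 : (x : L) ∈ U ⊓ P := ⟨hx.1, hx.2⟩
      rw [t.UP, Subgroup.mem_bot] at h1
      rw [Subgroup.mem_bot]; exact Subtype.ext h1) (by
      ext x
      simp only [Set.mem_univ, iff_true]
      obtain ⟨u, hu, b, hb, e⟩ := t.fac x x.2
      exact ⟨⟨u, t.UK hu⟩, hu, ⟨b, t.PK hb⟩, hb, Subtype.ext e.symm⟩)
  rw [hcomp.index_eq_card]
  exact Nat.card_congr (Subgroup.subgroupOfEquivOfLe t.UK).toEquiv

theorem TS.F_P {g : L} (hg : g ∈ P) : indFun (P ⊔ W₁.subgroupOf L) (fun _ => 1) g = (Nat.card U : ℂ) := by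
  classical
  rw [ind1_val, Finset.filter_true_of_mem (by
    intro x _
    apply Subgroup.mem_sup_left
    have := t.Pn.conj_mem g hg x⁻¹
    rwa [inv_inv] at this), Finset.card_univ, ← Nat.card_eq_fintype_card, ← (P ⊔ W₁.subgroupOf L).card_mul_index, t.index_B h]
  push_cast
  rw [inv_mul_cancel_left₀]
  exact_mod_cast Nat.card_pos.ne'

theorem TS.F_K {g : L} (hg : g ∈ K) (hgP : g ∉ P) : indFun (P ⊔ W₁.subgroupOf L) (fun _ => 1) g = 0 := by
  classical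
  haveI := h.normal
  rw [ind1_val, Finset.filter_false_of_mem, Finset.card_empty]
  · simp
  · intro x _ hx
    apply hgP
    have h1 : x⁻¹ * g * x ∈ K := by
      have := h.normal.conj_mem g hg x⁻¹
      rwa [inv_inv] at this
    have h2 := t.Pn.conj_mem _ (t.B_K h hx h1) x
    have e : x * (x⁻¹ * g * x) * x⁻¹ = g := by group
    rwa [e] at h2

theorem TS.F_W {w : L} (hw : (w : G) ∈ W₁ ⊔ W₂) (hw2 : (w : G) ∉ W₂) :
    indFun (P ⊔ W₁.subgroupOf L) (fun _ => 1) w = 1 := by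
  classical
  haveI := h.normal
  haveI := t.Pn
  have hs : w ∈ W₁.subgroupOf L ⊔ W₂.subgroupOf L := by
    rw [sup_subgroupOf h.W₁_le h.W₂_le]; exact hw
  have hcommL : ∀ a ∈ W₁.subgroupOf L, ∀ b ∈ W₂.subgroupOf L, a * b = b * a := fun a ha b hb =>
    Subtype.ext (hcomm h.self a ha b hb)
  obtain ⟨w₁, hw₁, w₂, hw₂, e⟩ : ∃ w₁ ∈ W₁.subgroupOf L, ∃ w₂ ∈ W₂.subgroupOf L, w = w₁ * w₂ := by
    obtain ⟨a, ha, b, hb, e⟩ := Cfsg.Agent.H10.Dade.mem_sup_of_norm (H := W₁.subgroupOf L) (K := W₂.subgroupOf L)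
      (fun k hk h' hh => by
        rw [← hcommL h' hh k hk, mul_inv_cancel_right]; exact hh) hs
    exact ⟨a, ha, b, hb, e.symm⟩
  have hw₁1 : w₁ ≠ 1 := by
    rintro rfl
    apply hw2
    rw [e, one_mul]; exact hw₂
  have hwB : w ∈ P ⊔ W₁.subgroupOf L := by
    rw [e]
    exact (P ⊔ W₁.subgroupOf L).mul_mem (Subgroup.mem_sup_right hw₁) (Subgroup.mem_sup_left (t.W₂P hw₂))
  have hiff : ∀ x : L, x⁻¹ * w * x ∈ P ⊔ W₁.subgroupOf L ↔ x ∈ P ⊔ W₁.subgroupOf L := by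
    intro x
    constructor
    · intro hx
      obtain ⟨u, hu, b, hb, rfl⟩ := t.fac_L h x
      have h1 : u⁻¹ * w * u ∈ P ⊔ W₁.subgroupOf L := by
        have := (P ⊔ W₁.subgroupOf L).mul_mem ((P ⊔ W₁.subgroupOf L).mul_mem hb hx) ((P ⊔ W₁.subgroupOf L).inv_mem hb)
        have e2 : b * ((u * b)⁻¹ * w * (u * b)) * b⁻¹ = u⁻¹ * w * u := by group
        rwa [e2] at this
      have h2 : u⁻¹ * w₂ * u ∈ P := by
        have := t.Pn.conj_mem w₂ (t.W₂P hw₂) u⁻¹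
        rwa [inv_inv] at this
      have h3 : u⁻¹ * w₁ * u ∈ P ⊔ W₁.subgroupOf L := by
        have := (P ⊔ W₁.subgroupOf L).mul_mem h1 ((P ⊔ W₁.subgroupOf L).inv_mem (Subgroup.mem_sup_left h2))
        have e2 : u⁻¹ * w * u * (u⁻¹ * w₂ * u)⁻¹ = u⁻¹ * w₁ * u := by rw [e]; group
        rwa [e2] at this
      have h4 : w₁⁻¹ * (u⁻¹ * w₁ * u) ∈ P ⊔ W₁.subgroupOf L :=
        (P ⊔ W₁.subgroupOf L).mul_mem ((P ⊔ W₁.subgroupOf L).inv_mem (Subgroup.mem_sup_right hw₁)) h3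
      have h5 : w₁⁻¹ * (u⁻¹ * w₁ * u) ∈ U := by
        have h6 := t.UE _ ((W₁.subgroupOf L).inv_mem hw₁) u⁻¹ (U.inv_mem hu)
        rw [inv_inv] at h6
        have := U.mul_mem h6 hu
        have e2 : w₁⁻¹ * u⁻¹ * w₁ * u = w₁⁻¹ * (u⁻¹ * w₁ * u) := by group
        rwa [e2] at this
      have h6 := t.B_U h h4 h5
      have h7 : u * w₁ = w₁ * u := by
        have : u⁻¹ * w₁ * u = w₁ := by
          have := congrArg (fun z => w₁ * z) h6
          simpa using this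
        calc u * w₁ = u * (u⁻¹ * w₁ * u) := by rw [this]
          _ = w₁ * u := by group
      have h8 : u ∈ K ⊓ Subgroup.centralizer ({w₁} : Set L) := ⟨t.UK hu, Subgroup.mem_centralizer_singleton_iff.2 h7⟩
      rw [h.cent w₁ hw₁ hw₁1] at h8
      have h9 : u ∈ U ⊓ P := ⟨hu, t.W₂P h8⟩
      rw [t.UP, Subgroup.mem_bot] at h9
      rw [h9, one_mul]; exact hb
    · intro hx
      exact (P ⊔ W₁.subgroupOf L).mul_mem ((P ⊔ W₁.subgroupOf L).mul_mem ((P ⊔ W₁.subgroupOf L).inv_mem hx) hwB) hx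
  rw [ind1_val]
  have h1 : (Finset.univ.filter (fun x : L => x⁻¹ * w * x ∈ P ⊔ W₁.subgroupOf L)).card = Nat.card ↥(P ⊔ W₁.subgroupOf L) := by
    rw [Finset.filter_congr (fun x _ => hiff x), Nat.card_eq_fintype_card, Fintype.card_subtype]
  rw [h1, inv_mul_cancel₀]
  exact_mod_cast Nat.card_pos.ne'

/-- values on `P W₁` outside `P` -/
theorem TS.F_B {g : L} (hg : g ∉ K) : indFun (P ⊔ W₁.subgroupOf L) (fun _ => 1) g = 1 := by
  obtain ⟨y, w, hw, hw2, e⟩ := conj_W h hg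
  have hc : IsClassFunction L (indFun (P ⊔ W₁.subgroupOf L) (fun _ => (1 : ℂ))) := IsGen.isClass (IsGen.ind (IsGen.of_irr isIrr_one))
  rw [← hc g y, e]
  exact t.F_W h hw hw2

theorem TS.F_norm : classInner (indFun (P ⊔ W₁.subgroupOf L) (fun _ => 1)) (indFun (P ⊔ W₁.subgroupOf L) (fun _ => 1)) =
    1 + ((Nat.card U : ℂ) - 1) / Nat.card W₁ := by
  classical
  haveI := Fintype.ofFinite ↥(P ⊔ W₁.subgroupOf L)
  have hc : IsClassFunction L (indFun (P ⊔ W₁.subgroupOf L) (fun _ => (1 : ℂ))) := IsGen.isClass (IsGen.ind (IsGen.of_irr isIrr_one))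
  rw [frobenius _ _ _ hc, classInner]
  have h1 : ∀ y : ↥(P ⊔ W₁.subgroupOf L), (1 : ℂ) * conj (indFun (P ⊔ W₁.subgroupOf L) (fun _ => 1) (y : L)) =
      1 + (if (y : L) ∈ P then (Nat.card U : ℂ) - 1 else 0) := by
    intro y
    by_cases hy : (y : L) ∈ P
    · rw [if_pos hy, t.F_P h hy]; simp
    · rw [if_neg hy, t.F_B h (fun hK => hy (t.B_K h y.2 hK))]; simp
  rw [Finset.sum_congr rfl fun y _ => h1 y, Finset.sum_add_distrib, Finset.sum_const, Finset.card_univ, ← Finset.sum_filter,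
    Finset.sum_const, nsmul_eq_mul, nsmul_eq_mul, mul_one, ← Nat.card_eq_fintype_card]
  have h2 : (Finset.univ.filter (fun y : ↥(P ⊔ W₁.subgroupOf L) => (y : L) ∈ P)).card = Nat.card P := by
    rw [← Fintype.card_subtype, ← Nat.card_eq_fintype_card]
    exact Nat.card_congr (Subgroup.subgroupOfEquivOfLe (le_sup_left : P ≤ P ⊔ W₁.subgroupOf L)).toEquiv
  rw [h2, t.card_B h]
  have h3 : (Nat.card P : ℂ) ≠ 0 := by exact_mod_cast Nat.card_pos.ne'
  have h4 : (Nat.card W₁ : ℂ) ≠ 0 := by exact_mod_cast Nat.card_pos.ne'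
  push_cast
  field_simp

theorem TS.F_one : classInner (indFun (P ⊔ W₁.subgroupOf L) (fun _ => 1)) (fun _ => 1) = 1 := by
  haveI := Fintype.ofFinite ↥(P ⊔ W₁.subgroupOf L)
  rw [frobenius _ _ _ (IsIrr.isClass isIrr_one)]
  exact ci_irr_self isIrr_one

variable {μ : (↥(W₁ ⊔ W₂) →* ℂˣ) → (L → ℂ)} {δ : (↥(W₁ ⊔ W₂) →* ℂˣ) → ℂ} (hμ : MU K W₁ W₂ μ δ)
include hμ

/-- `μ ω` vanishes on `K` outside `P` -/
theorem TS.mu_off {ω : ↥(W₁ ⊔ W₂) →* ℂˣ} (hdeg : μ ω 1 = Nat.card U) {k : L} (hk : k ∈ K) (hkP : k ∉ P) : μ ω k = 0 := by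
  haveI := t.Pn
  haveI := Fintype.ofFinite K
  haveI := Fintype.ofFinite (P.subgroupOf K)
  have hθ := hμ.res_irr ω
  obtain ⟨lam, hlam, hc⟩ := exists_constituent_res (H := P.subgroupOf K) hθ
  have hl1 : lam 1 = 1 := IsIrr.one_of_comm (A := ↥(P.subgroupOf K)) (fun a b => Subtype.ext (Subtype.ext (t.Pab ((a : K) : L) a.2 ((b : K) : L) b.2))) hlam
  have hc' : classInner (indFun (P.subgroupOf K) lam) (fun k : K => μ ω k) ≠ 0 :=
    (constituent_ind_iff (IsIrr.isCharacter hθ)).2 hc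
  have h1 : indFun (P.subgroupOf K) lam = fun k : K => μ ω k := by
    apply IsChar.eq_of_degree (IsChar.ind (IsIrr.isCharacter hlam)) hθ hc'
    rw [ind_one, hl1, mul_one, t.relIndex_PK h]
    exact hdeg.symm
  have h2 := congrFun h1 ⟨k, hk⟩
  rw [← h2]
  exact ind_of_not_mem (inferInstance : (P.subgroupOf K).Normal) _ (fun hm => hkP hm)

theorem TS.F_mu {ω : ↥(W₁ ⊔ W₂) →* ℂˣ} (hω : ¬ X1 W₁ W₂ ω) :
    classInner (indFun (P ⊔ W₁.subgroupOf L) (fun _ => 1)) (μ ω) = 0 := by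
  classical
  haveI := t.Pn
  haveI := Fintype.ofFinite P
  haveI := Fintype.ofFinite ↥(P ⊔ W₁.subgroupOf L)
  have hc : IsClassFunction L (indFun (P ⊔ W₁.subgroupOf L) (fun _ => (1 : ℂ))) := IsGen.isClass (IsGen.ind (IsGen.of_irr isIrr_one))
  obtain ⟨w, hw, hne⟩ := not_ker h hμ hω
  have hker : ∃ d ∈ P, μ ω d ≠ μ ω 1 := ⟨w, t.W₂P hw, hne⟩
  -- the induced function is invariant under P
  have hinv : ∀ v : L, ∀ d ∈ P, (fun x => conj (indFun (P ⊔ W₁.subgroupOf L) (fun _ => (1 : ℂ)) x)) (v * d) =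
      (fun x => conj (indFun (P ⊔ W₁.subgroupOf L) (fun _ => (1 : ℂ)) x)) v := by
    intro v d hd
    have h1 : ∀ x : L, x⁻¹ * (v * d) * x ∈ P ⊔ W₁.subgroupOf L ↔ x⁻¹ * v * x ∈ P ⊔ W₁.subgroupOf L := by
      intro x
      have h2 : x⁻¹ * d * x ∈ P ⊔ W₁.subgroupOf L := by
        apply Subgroup.mem_sup_left
        have := t.Pn.conj_mem d hd x⁻¹
        rwa [inv_inv] at this
      have e : x⁻¹ * (v * d) * x = (x⁻¹ * v * x) * (x⁻¹ * d * x) := by group
      rw [e]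
      exact Subgroup.mul_mem_cancel_right _ h2
    show conj (indFun (P ⊔ W₁.subgroupOf L) (fun _ => (1 : ℂ)) (v * d)) = conj (indFun (P ⊔ W₁.subgroupOf L) (fun _ => (1 : ℂ)) v)
    rw [ind1_val, ind1_val, Finset.filter_congr (fun x _ => h1 x)]
  have h1 := Cfsg.Agent.H1.PF12.sum_avg (D := P) (μ ω) (fun x => conj (indFun (P ⊔ W₁.subgroupOf L) (fun _ => (1 : ℂ)) x)) hinv
  rw [Finset.sum_congr rfl (g := fun _ => (0 : ℂ)) (fun v _ => by
    rw [Cfsg.Agent.H1.PF12.avg_nontriv (hμ.irr ω) hker v, zero_mul]), Finset.sum_const_zero] at h1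
  have h2 : ∑ v : L, μ ω v * conj (indFun (P ⊔ W₁.subgroupOf L) (fun _ => (1 : ℂ)) v) = 0 := by
    rcases mul_eq_zero.1 h1.symm with h3 | h3
    · exfalso
      have : (Nat.card P : ℂ) ≠ 0 := by exact_mod_cast Nat.card_pos.ne'
      exact this h3
    · exact h3
  rw [← ci_conj_symm, classInner, h2, mul_zero, map_zero]

end

section Final

variable {G : Type*} [Group G] [Fintype G] {L : Subgroup G} [Fintype L] {K H : Subgroup L} {W₁ W₂ : Subgroup G} {A : Set G}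
  {R : G → Subgroup G} {P U : Subgroup L}

/-- the support of the virtual character -/
def Sp (P : Subgroup L) (W₁ : Subgroup G) (g : G) : Prop := orderOf g ∣ Nat.card P * Nat.card W₁

theorem exists_SD (h : PD L K H W₁ W₂ A R) (t : TS L K W₁ W₂ P U) {μ : (↥(W₁ ⊔ W₂) →* ℂˣ) → (L → ℂ)}
    {δ : (↥(W₁ ⊔ W₂) →* ℂˣ) → ℂ} (hμ : MU K W₁ W₂ μ δ) {η : (↥(W₁ ⊔ W₂) →* ℂˣ) → (G → ℂ)} (hη : IsCyclicTIFamily W₁ W₂ η)
    (hPA : ∀ x : L, x ∈ P → x ≠ 1 → (x : G) ∈ A) (hPR : ∀ x : L, x ∈ P → x ≠ 1 → R (x : G) = ⊥)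
    (hu : Nat.card U % Nat.card W₁ = 1)
    (hdeg : ∀ ω, X2 W₁ W₂ ω → ω ≠ 1 → μ ω 1 = Nat.card U) {ω : ↥(W₁ ⊔ W₂) →* ℂˣ} (hω : X2 W₁ W₂ ω) (hω1 : ω ≠ 1) :
    ∃ B : G → ℂ, SD W₁ W₂ η (Sp P W₁) (((Nat.card U : ℝ) - 1) / Nat.card W₁) ω B := by
  classical
  haveI := h.normal
  haveI := t.Pn
  have hT := h.toPT
  have hcF : IsClassFunction L (indFun (P ⊔ W₁.subgroupOf L) (fun _ => (1 : ℂ))) := IsGen.isClass (IsGen.ind (IsGen.of_irr isIrr_one))
  have hnX1 : ∀ ω, X2 W₁ W₂ ω → ω ≠ 1 → ¬ X1 W₁ W₂ ω := fun ω h2 h1 h3 => h1 (eq_one_of_X h3 h2 (hdisj h.self) (hcomm h.self))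
  -- signs
  have hδ : ∀ ω, X2 W₁ W₂ ω → ω ≠ 1 → δ ω = 1 := by
    intro ω h2 h1
    obtain ⟨n, hn⟩ := hμ.cong ω
    rw [hdeg ω h2 h1] at hn
    have h3 := three_W1 hT
    rcases hμ.sign ω with h4 | h4
    · exact h4
    · exfalso
      rw [h4] at hn
      have h5 : ((Nat.card U : ℤ) + 1) = n * (Nat.card W₁ : ℤ) := by
        have : (((Nat.card U : ℤ) + 1 : ℤ) : ℂ) = ((n * (Nat.card W₁ : ℤ) : ℤ) : ℂ) := by push_cast; linear_combination hn
        exact_mod_cast this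
      have h6 : (Nat.card U : ℤ) % (Nat.card W₁ : ℤ) = 1 := by exact_mod_cast hu
      have h7 : (Nat.card W₁ : ℤ) ∣ (Nat.card U : ℤ) + 1 := Dvd.intro_left _ h5.symm
      have h8 : (Nat.card W₁ : ℤ) ∣ (Nat.card U : ℤ) - 1 := by
        rw [← h6]; exact Int.dvd_self_sub_emod
      have h9 : (Nat.card W₁ : ℤ) ∣ 2 := by
        have := dvd_sub h7 h8
        have e : ((Nat.card U : ℤ) + 1) - ((Nat.card U : ℤ) - 1) = 2 := by ring
        rwa [e] at this
      have h10 := Int.le_of_dvd (by norm_num) h9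
      omega
  set F := indFun (P ⊔ W₁.subgroupOf L) (fun _ => (1 : ℂ)) with hF
  set β : L → ℂ := F - μ ω with hβ
  have hβg : IsGeneralizedCharacter L β := IsGen.sub (IsGen.ind (IsGen.of_irr isIrr_one)) (IsGen.of_irr (hμ.irr ω))
  have hβc := IsGen.isClass hβg
  -- the support of β
  have hsupp : ∀ x : L, β x ≠ 0 → (x ∈ P ∧ x ≠ 1) ∨ ∃ y w : L, (w : G) ∈ V W₁ W₂ ∧ y * x * y⁻¹ = w := by
    intro x hx
    by_cases hxK : x ∈ K
    · by_cases hxP : x ∈ P
      · refine Or.inl ⟨hxP, ?_⟩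
        rintro rfl
        apply hx
        rw [hβ, Pi.sub_apply, hF, t.F_P hT P.one_mem, hdeg ω hω hω1, sub_self]
      · exfalso
        apply hx
        rw [hβ, Pi.sub_apply, hF, t.F_K hT hxK hxP, t.mu_off hT hμ (hdeg ω hω hω1) hxK hxP, sub_self]
    · obtain ⟨y, w, hw, hw2, e⟩ := conj_W hT hxK
      right
      refine ⟨y, w, mem_V.2 ⟨hw, ?_, hw2⟩, e⟩
      intro hw1
      apply hx
      rw [← hβc x y, e, hβ, Pi.sub_apply, hF, t.F_W hT hw hw2, hμ.val ω w hw hw2, hδ ω hω hω1, hω ⟨w, hw⟩ hw1]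
      simp
  have hβA : ∀ x : L, (x : G) ∉ A0 L W₁ W₂ A → β x = 0 := by
    intro x hx
    by_contra hne
    rcases hsupp x hne with ⟨h1, h2⟩ | ⟨y, w, hw, e⟩
    · exact hx (Or.inl (hPA x h1 h2))
    · apply hx
      refine Or.inr ⟨(y : G)⁻¹, L.inv_mem y.2, w, hw, ?_⟩
      rw [← e]; push_cast; group
  have hβV : ∀ w : ↥(W₁ ⊔ W₂), (w : G) ∉ W₁ → (w : G) ∉ W₂ → ∀ hwL : (w : G) ∈ L, β ⟨w, hwL⟩ = 1 - (ω w : ℂ) := by
    intro w hw1 hw2 hwL
    rw [hβ, Pi.sub_apply, hF, t.F_W hT (w := ⟨w, hwL⟩) w.2 hw2, hμ.val ω ⟨w, hwL⟩ w.2 hw2, hδ ω hω hω1, one_mul]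
  have hFμ : classInner F (μ ω) = 0 := t.F_mu hT hμ (hnX1 ω hω hω1)
  have hFμ' : classInner (μ ω) F = 0 := by rw [← ci_conj_symm, hFμ, map_zero]
  refine ⟨dadeIsometry (A0 L W₁ W₂ A) L R β, ?_, ?_, ?_, ?_, hω1, Or.inr hω, ?_, ?_⟩
  · exact Cfsg.Agent.H10.Dade3.dade_gen h.dade hβg hβA
  · rw [recip_one h.dade hβc hβA, hβ, ci_sub_left, hF, t.F_one hT, ci_irr_ne (hμ.irr ω) isIrr_one, sub_zero]
    intro h1
    obtain ⟨w, hw, hne⟩ := not_ker hT hμ (hnX1 ω hω hω1)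
    apply hne
    rw [h1]
  · rw [Cfsg.Agent.H10.Dade.isometry h.dade hβc hβA hβc, hβ, ci_sub_left, ci_sub_right, ci_sub_right, hFμ, hFμ',
      ci_irr_self (hμ.irr ω), hF, t.F_norm hT]
    simp only [map_zero, sub_zero, zero_sub, sub_neg_eq_add, Complex.add_re, Complex.one_re]
    have e1 : (((Nat.card U : ℂ) - 1) / Nat.card W₁) = (((((Nat.card U : ℝ) - 1) / Nat.card W₁ : ℝ)) : ℂ) := by push_cast; ring
    rw [e1, Complex.ofReal_re]
    linarith
  · -- real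
    have hinv2 : X2 W₁ W₂ ω⁻¹ := X2_inv hω
    have hinv1 : ω⁻¹ ≠ 1 := inv_ne_one hω1
    have hFc : conjFun F = F := by
      rw [hF, Cfsg.Agent.H10.IndSet2.conj_ind]
      congr 1
      funext x; simp [conjFun]
    have h1 : conjFun β = β + (μ ω - μ ω⁻¹) := by
      rw [hβ, conj_sub, hFc, (conj_mu hT hμ ω).1]
      abel
    have h2 : dadeIsometry (A0 L W₁ W₂ A) L R (μ ω - μ ω⁻¹) = η ω - η ω⁻¹ := by
      have h3 := tau_sub h hμ hη (φ := 1) (ψ₁ := ω) (ψ₂ := ω⁻¹) X1_one hω hinv2 hω1 hinv1 (by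
        rw [hom_one_mul, hom_one_mul, hdeg ω hω hω1, hdeg ω⁻¹ hinv2 hinv1])
      rw [hom_one_mul, hom_one_mul, hδ ω hω hω1, one_smul] at h3
      exact h3
    rw [conj_add, ← dade_conj, h1, dade_add, h2, eta_conj h.self h.odd hη]
    abel
  · intro w hw1 hw2
    have hwL : (w : G) ∈ L := W_le hT w.2
    have h1 : dadeIsometry (A0 L W₁ W₂ A) L R β (w : G) = β ⟨w, hwL⟩ :=
      dade_val h.dade hβc (a := ⟨w, hwL⟩) (V_A0 h (mem_V.2 ⟨w.2, hw1, hw2⟩))
    rw [h1, hβV w hw1 hw2 hwL]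
  · -- support
    intro g hg
    by_contra hne
    apply hg
    have h1 : ∃ a : L, β a ≠ 0 ∧ (a : G) ∈ A0 L W₁ W₂ A ∧ ∃ u ∈ R (a : G), ∃ x : G, x * g * x⁻¹ = a * u := by
      by_contra hno
      push Not at hno
      apply hne
      by_cases ht : Til (A0 L W₁ W₂ A) R g
      · obtain ⟨a, ha, u, hu, x, e⟩ := ht
        have haL := h.dade.subset ha
        rw [Cfsg.Agent.H10.Dade.dade_apply h.dade hβc (a := ⟨a, haL⟩) ha hu e]
        by_contra h0
        exact hno ⟨a, haL⟩ h0 ha u hu x e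
      · exact dade_til ht
    obtain ⟨a, ha, haA, u, hu, x, e⟩ := h1
    have horda : R (a : G) = ⊥ ∧ orderOf (a : G) ∣ Nat.card P * Nat.card W₁ := by
      rcases hsupp a ha with ⟨h2, h3⟩ | ⟨y, w, hw, e2⟩
      · refine ⟨hPR a h2 h3, Dvd.dvd.mul_right ?_ _⟩
        have h4 := orderOf_dvd_natCard (⟨a, h2⟩ : P)
        rw [Subgroup.orderOf_mk] at h4
        rwa [← Subgroup.orderOf_coe] at h4
      · have e3 : (a : G) = (y : G)⁻¹ * w * ((y : G)⁻¹)⁻¹ := by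
          rw [← e2]; push_cast; group
        constructor
        · have h5 := R_V h hw
          rw [eq_bot_iff]
          intro v hv
          have h6 := (h.dade.conj_mem_H)
          -- conjugate R
          have h7 : Nat.card (R (a : G)) = 1 := by
            have h8 := h.dade.sup_eq (a : G) haA
            have h9 : Subgroup.centralizer ({(a : G)} : Set G) ≤ L := by
              intro c hc
              have h10 : (y : G) * c * (y : G)⁻¹ ∈ Subgroup.centralizer ({(w : G)} : Set G) := by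
                rw [Subgroup.mem_centralizer_singleton_iff] at hc ⊢
                have h11 : (w : G) = (y : G) * a * (y : G)⁻¹ := by rw [← e2]; push_cast; group
                rw [h11]
                calc (y : G) * c * (y : G)⁻¹ * ((y : G) * a * (y : G)⁻¹) = y * (c * a) * (y : G)⁻¹ := by group
                  _ = y * (a * c) * (y : G)⁻¹ := by rw [hc]
                  _ = _ := by group
              have h12 : Subgroup.centralizer ({(w : G)} : Set G) ≤ L := by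
                intro c' hc'
                have h13 : c' * (w : G) * c'⁻¹ = w := by
                  rw [Subgroup.mem_centralizer_singleton_iff] at hc'
                  rw [hc']; group
                exact W_le hT (ti h.self (t := (w : G)) hw (by rw [h13]; exact hw))
              have h14 := L.mul_mem (L.mul_mem (L.inv_mem y.2) (h12 h10)) y.2
              have e4 : (y : G)⁻¹ * ((y : G) * c * (y : G)⁻¹) * y = c := by group
              rwa [e4] at h14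
            have h15 : R (a : G) = ⊥ := by
              rw [← le_bot_iff, ← h.dade.inf_eq_bot (a : G) haA]
              exact le_inf le_rfl (le_inf ((h.dade.le_centralizer _ haA).trans h9) (h.dade.le_centralizer _ haA))
            rw [h15, Subgroup.card_bot]
          rw [Subgroup.card_eq_one] at h7
          rw [h7] at hv
          exact hv
        · rw [e3, order_conj']
          have h4 := orderOf_dvd_natCard (⟨w, (mem_V.1 hw).1⟩ : ↥(W₁ ⊔ W₂))
          rw [Subgroup.orderOf_mk] at h4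
          refine h4.trans ?_
          have h5 : Nat.card ↥(W₁ ⊔ W₂) ∣ Nat.card W₁ * Nat.card W₂ := by
            rw [card_W h.self]
          have h6 : Nat.card W₂ ∣ Nat.card P := by
            have h7 : Nat.card (W₂.subgroupOf L) = Nat.card W₂ := Nat.card_congr (Subgroup.subgroupOfEquivOfLe h.W₂_le).toEquiv
            rw [← h7]
            exact Subgroup.card_dvd_of_le t.W₂P
          rw [mul_comm (Nat.card P)]
          exact h5.trans (mul_dvd_mul_left _ h6)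
    show orderOf g ∣ _
    rw [horda.1, Subgroup.mem_bot] at hu
    rw [hu, mul_one] at e
    have e5 : g = x⁻¹ * a * x⁻¹⁻¹ := by rw [← e]; group
    rw [e5, order_conj']
    exact horda.2

end Final

end Cfsg.Agent.H4.PF14
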