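import Mathlib
import Cfsg.Agent.H4_PF14e
import Cfsg.Agent.H12_P13S
import Cfsg.Agent.H12_TypeP
import Cfsg.Agent.H12_Core

/-! Peterfalvi §14: counting elements -/

set_option autoImplicit false
set_option linter.all false

namespace Cfsg.Agent.H4.PF14

open scoped Pointwise

open Cfsg Cfsg.Agent.H10.PrD2 Cfsg.Agent.H10.PrD4 Cfsg.Agent.H10.CycTI2 Cfsg.Agent.H12.P13S
  Cfsg.Agent.H10.CycTI

section gen
variable {G : Type*} [Group G] [Finite G]

theorem til_dvd {L : Subgroup G} {A : Set G} {R : G → Subgroup G} (hD : DadeHypothesis A L R) {g : G} (h : Til A R g) :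
    ∃ a ∈ A, orderOf a ∣ orderOf g := by
  obtain ⟨a, ha, u, hu, x, e⟩ := h
  obtain ⟨m, hm, -⟩ := Cfsg.Agent.H10.Dade.exists_exp hD ha ha
  refine ⟨a, ha, ?_⟩
  have h1 : orderOf g = orderOf (a * u) := by rw [← e, order_conj']
  rw [h1]
  have h2 := hm u hu
  nth_rw 1 [← h2]
  exact orderOf_pow_dvd m

theorem card_cl (A : Set G) (N : Subgroup G) (hN : ∀ n ∈ N, ∀ a ∈ A, n * a * n⁻¹ ∈ A) :
    Nat.card {g : G // ∃ x : G, x * g * x⁻¹ ∈ A} * Nat.card N ≤ Nat.card G * Nat.card A := by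
  rw [← Nat.card_prod, ← Nat.card_prod]
  let f : {g : G // ∃ x : G, x * g * x⁻¹ ∈ A} × N → G × A := fun y =>
    (y.2 * y.1.2.choose, ⟨y.2 * (y.1.2.choose * y.1 * y.1.2.choose⁻¹) * (y.2 : G)⁻¹, hN _ y.2.2 _ y.1.2.choose_spec⟩)
  apply Nat.card_le_card_of_injective f
  rintro ⟨⟨g, hg⟩, n, hn⟩ ⟨⟨g', hg'⟩, n', hn'⟩ h
  have h1 : n * hg.choose = n' * hg'.choose := congrArg Prod.fst h
  have h2 : n * (hg.choose * g * hg.choose⁻¹) * n⁻¹ = n' * (hg'.choose * g' * hg'.choose⁻¹) * n'⁻¹ :=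
    congrArg Subtype.val (congrArg Prod.snd h)
  have h3 : g = g' := by
    have e1 : n * (hg.choose * g * hg.choose⁻¹) * n⁻¹ = (n * hg.choose) * g * (n * hg.choose)⁻¹ := by group
    have e2 : n' * (hg'.choose * g' * hg'.choose⁻¹) * n'⁻¹ = (n' * hg'.choose) * g' * (n' * hg'.choose)⁻¹ := by group
    rw [e1, e2, ← h1] at h2
    exact mul_left_cancel (mul_right_cancel h2)
  subst h3
  have h4 : n = n' := mul_right_cancel h1
  subst h4
  rfl

theorem conj_into {p : ℕ} [Fact p.Prime] {P : Subgroup G} (hP : IsPGroup p P) (hi : ¬ p ∣ P.index) {x : G} (hx : IsPGroup p (Subgroup.zpowers x)) :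
    ∃ g : G, g * x * g⁻¹ ∈ P := by
  obtain ⟨Q, hQ⟩ := hx.exists_le_sylow
  obtain ⟨g, hg⟩ := MulAction.exists_smul_eq G Q (hP.toSylow hi)
  refine ⟨g, ?_⟩
  have h1 : (g • Q : Sylow p G) = hP.toSylow hi := hg
  have h2 : g * x * g⁻¹ ∈ (g • Q : Sylow p G) := by
    have h3 : x ∈ (Q : Subgroup G) := hQ (Subgroup.mem_zpowers x)
    have h4 : (MulAut.conj g) • x ∈ (MulAut.conj g) • (Q : Subgroup G) := Subgroup.smul_mem_pointwise_smul x _ _ h3
    exact h4
  rw [h1] at h2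
  exact h2

end gen

section side
variable {G : Type*} [Group G] [Finite G] {S W₁ U W₂ : Subgroup G}

/-- hypotheses on one side -/
structure Sd (S W₁ U W₂ : Subgroup G) : Prop where
  side : Side S W₁ U W₂
  cU : U ⊓ Subgroup.centralizer (fittingHallOf S : Set G) = ⊥
  hall : (Nat.card (fittingHallOf S)).Coprime (fittingHallOf S).index

variable (h : Sd S W₁ U W₂)
include h

omit [Finite G] in
theorem Sd.FF_eq : FF S = fittingHallOf S := by
  rw [h.side.FF_eq, h.cU, sup_bot_eq]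

omit [Finite G] in
theorem Sd.ab {x y : G} (hx : x ∈ fittingHallOf S) (hy : y ∈ fittingHallOf S) : x * y = y * x := by
  haveI := h.side.ea.1
  exact congrArg Subtype.val ((h.side.ea.1).is_comm.comm (⟨x, hx⟩ : fittingHallOf S) ⟨y, hy⟩)

theorem Sd.cent {x : G} (hx : x ∈ fittingHallOf S) (hx1 : x ≠ 1) {g : G} (hg : g * x = x * g) : g ∈ S := by
  have e : g * x * g⁻¹ = x := by rw [hg]; group
  apply h.side.ti x (by rw [h.FF_eq]; exact hx) hx1 g
  rw [e, h.FF_eq]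
  exact hx

theorem Sd.pgroup : IsPGroup (Nat.card W₂) (fittingHallOf S) := by
  haveI := Fact.mk h.side.prp
  exact IsPGroup.iff_card.2 ⟨_, h.side.card⟩

theorem Sd.index : ¬ Nat.card W₂ ∣ (fittingHallOf S).index := by
  intro hd
  have h1 := h.hall
  rw [h.side.card] at h1
  have h2 : Nat.card W₂ ∣ Nat.card W₂ ^ Nat.card W₁ := dvd_pow_self _ h.side.prq.ne_zero
  have := Nat.Coprime.eq_one_of_dvd (Nat.Coprime.coprime_dvd_left h2 h1) hd
  exact h.side.prp.one_lt.ne' this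

theorem Sd.elt (free : ∀ u ∈ U, u ≠ 1 → ∀ x ∈ fittingHallOf S, u * x = x * u → x = 1)
    {g : G} (hg : Nat.card W₂ ∣ orderOf g) (hne : Nat.card W₁ ≠ Nat.card W₂) :
    (∃ x : G, x * g * x⁻¹ ∈ (fittingHallOf S : Set G) \ {1}) ∨ ∃ x : G, x * g * x⁻¹ ∈ V W₁ W₂ := by
  haveI := Fact.mk h.side.prp
  set p := Nat.card W₂ with hp
  obtain ⟨n, hn⟩ := hg
  have hn0 : n ≠ 0 := by
    rintro rfl
    rw [mul_zero] at hn
    exact (orderOf_pos g).ne' hn
  have ho : orderOf (g ^ n) = p := by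
    rw [orderOf_pow_of_dvd hn0 (by rw [hn]; exact Dvd.intro_left p rfl), hn, Nat.mul_div_cancel _ (Nat.pos_of_ne_zero hn0)]
  obtain ⟨c, hc⟩ := conj_into h.pgroup h.index (x := g ^ n) (by
    apply IsPGroup.iff_card.2
    exact ⟨1, by rw [Nat.card_zpowers, ho, pow_one]⟩)
  have hx1 : c * g ^ n * c⁻¹ ≠ 1 := by
    intro h1
    rw [conj_eq_one_iff] at h1
    rw [h1, orderOf_one] at ho
    exact h.side.prp.one_lt.ne ho
  have hcomm : (c * g * c⁻¹) * (c * g ^ n * c⁻¹) = (c * g ^ n * c⁻¹) * (c * g * c⁻¹) := by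
    have e1 : (c * g * c⁻¹) * (c * g ^ n * c⁻¹) = c * (g * g ^ n) * c⁻¹ := by group
    have e2 : (c * g ^ n * c⁻¹) * (c * g * c⁻¹) = c * (g ^ n * g) * c⁻¹ := by group
    rw [e1, e2, ← pow_succ, ← pow_succ']
  have hgS := h.cent hc hx1 hcomm
  have hg1 : c * g * c⁻¹ ≠ 1 := by
    intro h1
    rw [conj_eq_one_iff] at h1
    rw [h1, one_pow, orderOf_one] at ho
    exact h.side.prp.one_lt.ne ho
  by_cases hK : c * g * c⁻¹ ∈ ⁅S, S⁆
  · left
    refine ⟨c, ?_, hg1⟩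
    obtain ⟨-, -, -, h3⟩ := h.side.data.U_compl
    obtain ⟨z, hz, u, hu, e⟩ := h3 _ hK
    by_cases hu1 : u = 1
    · rw [e, hu1, mul_one]; exact hz
    · exfalso
      apply hx1
      apply free u hu hu1 _ hc
      rw [e] at hcomm
      have h4 := h.ab hz hc
      have h5 : z * (u * (c * g ^ n * c⁻¹)) = z * ((c * g ^ n * c⁻¹) * u) := by
        rw [← mul_assoc, hcomm, ← mul_assoc, ← h4, mul_assoc]
      exact mul_left_cancel h5
  · right
    have hPT := h.side.pd.toPT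
    have hK' : (⟨c * g * c⁻¹, hgS⟩ : S) ∉ commutator S := by
      intro hm
      apply hK
      have h1 : ((⟨c * g * c⁻¹, hgS⟩ : S) : G) ∈ (commutator S).map S.subtype := ⟨_, hm, rfl⟩
      rwa [commutator_def, Subgroup.map_commutator, ← MonoidHom.range_eq_map, Subgroup.range_subtype] at h1
    obtain ⟨y, w, hw, hw2, e⟩ := conj_W hPT hK'
    have e' : (y : G) * (c * g * c⁻¹) * (y : G)⁻¹ = w := congrArg Subtype.val e
    have e2 : ((y : G) * c) * g * ((y : G) * c)⁻¹ = w := by rw [← e']; group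
    refine ⟨(y : G) * c, ?_⟩
    rw [e2]
    refine mem_V.2 ⟨hw, ?_, hw2⟩
    intro hw1
    have h1 : orderOf (w : G) ∣ Nat.card W₁ := by
      have := orderOf_dvd_natCard (⟨w, hw1⟩ : W₁)
      rwa [← Subgroup.orderOf_coe] at this
    have h2 : p ∣ orderOf (w : G) := by
      rw [← e2, order_conj', hn]
      exact Dvd.intro n rfl
    have h3 := h2.trans h1
    exact hne ((Nat.prime_dvd_prime_iff_eq h.side.prp h.side.prq).1 h3).symm

theorem Sd.card_S : Nat.card S = Nat.card (fittingHallOf S) * Nat.card U * Nat.card W₁ := by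
  have h1 := Cfsg.Agent.H12.Core.IsComplIn_card h.side.data.W₁_compl
  have h2 := Cfsg.Agent.H12.Core.IsComplIn_card h.side.data.U_compl
  rw [h2, h1]

omit h in
theorem ncard_ne_one (H : Subgroup G) : ((H : Set G) \ {1}).ncard = Nat.card H - 1 := by
  rw [Set.ncard_diff_singleton_of_mem (show (1 : G) ∈ (H : Set G) from H.one_mem)]
  rfl

omit h in
theorem card_V_le (hW : IsSelfNormalizingCyclic W₁ W₂) : Nat.card (V W₁ W₂) ≤ (Nat.card W₁ - 1) * (Nat.card W₂ - 1) := by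
  have h1 : V W₁ W₂ ⊆ (fun x : G × G => x.1 * x.2) '' (((W₁ : Set G) \ {1}) ×ˢ ((W₂ : Set G) \ {1})) := by
    intro w hw
    obtain ⟨h1, h2, h3⟩ := mem_V.1 hw
    obtain ⟨a, ha, b, hb, e⟩ := Cfsg.Agent.H10.Dade.mem_sup_of_norm (H := W₁) (K := W₂) (fun k hk x hx => by
      rw [← hcomm hW x hx k hk, mul_inv_cancel_right]; exact hx) h1
    refine ⟨(a, b), ⟨⟨ha, ?_⟩, ⟨hb, ?_⟩⟩, e⟩
    · rintro ha1
      have ha1' : a = 1 := ha1
      apply h3
      rw [← e, ha1', one_mul]; exact hb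
    · rintro hb1
      have hb1' : b = 1 := hb1
      apply h2
      rw [← e, hb1', mul_one]; exact ha
  have h2 := Set.ncard_le_ncard h1 (Set.toFinite _)
  have h3 := Set.ncard_image_le (f := fun x : G × G => x.1 * x.2) (s := ((W₁ : Set G) \ {1}) ×ˢ ((W₂ : Set G) \ {1})) (Set.toFinite _)
  rw [Set.ncard_prod, ncard_ne_one, ncard_ne_one] at h3
  exact h2.trans h3

theorem Sd.P_le : fittingHallOf S ≤ S := Subgroup.map_subtype_le _

/-- the conjugates of the elements of `P` -/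
theorem Sd.card_clP : (Nat.card {g : G // ∃ x : G, x * g * x⁻¹ ∈ (fittingHallOf S : Set G) \ {1}} : ℝ) ≤
    Nat.card G * (1 / ((Nat.card U : ℝ) * Nat.card W₁)) := by
  have hn : S ≤ Subgroup.normalizer (fittingHallOf S : Set G) := by
    haveI := h.side.pd.H_normal
    intro s hs
    rw [Subgroup.mem_normalizer_iff]
    intro x
    have hc : ∀ s ∈ S, ∀ x ∈ fittingHallOf S, s * x * s⁻¹ ∈ fittingHallOf S := fun s hs x hx =>
      Subgroup.mem_subgroupOf.1 (h.side.pd.H_normal.conj_mem (⟨x, h.P_le hx⟩ : S) (Subgroup.mem_subgroupOf.2 hx) ⟨s, hs⟩)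
    refine ⟨hc s hs x, fun hx => ?_⟩
    have := hc s⁻¹ (S.inv_mem hs) _ hx
    have e : s⁻¹ * (s * x * s⁻¹) * s⁻¹⁻¹ = x := by group
    rwa [e] at this
  have h1 := card_cl ((fittingHallOf S : Set G) \ {1}) S (by
    rintro n hn' a ⟨ha, ha1⟩
    refine ⟨(Subgroup.mem_normalizer_iff.1 (hn hn') a).1 ha, ?_⟩
    intro h1
    have h1' : n * a * n⁻¹ = 1 := h1
    exact ha1 (conj_eq_one_iff.1 h1'))
  have h2 : Nat.card ↑((fittingHallOf S : Set G) \ {1}) = Nat.card (fittingHallOf S) - 1 := ncard_ne_one _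
  rw [h2, h.card_S] at h1
  have hP : 0 < Nat.card (fittingHallOf S) := Nat.card_pos
  have hU : 0 < Nat.card U := Nat.card_pos
  have hW : 0 < Nat.card W₁ := Nat.card_pos
  set c := Nat.card {g : G // ∃ x : G, x * g * x⁻¹ ∈ (fittingHallOf S : Set G) \ {1}}
  have h3 : c * (Nat.card U * Nat.card W₁) * Nat.card (fittingHallOf S) ≤ Nat.card G * Nat.card (fittingHallOf S) := by
    calc c * (Nat.card U * Nat.card W₁) * Nat.card (fittingHallOf S) = c * (Nat.card (fittingHallOf S) * Nat.card U * Nat.card W₁) := by ring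
      _ ≤ _ := h1
      _ ≤ _ := Nat.mul_le_mul_left _ (Nat.sub_le _ _)
  have h4 := Nat.le_of_mul_le_mul_right h3 hP
  have h5 : (c : ℝ) * ((Nat.card U : ℝ) * Nat.card W₁) ≤ Nat.card G := by exact_mod_cast h4
  have h6 : (0 : ℝ) < (Nat.card U : ℝ) * Nat.card W₁ := by positivity
  rw [mul_one_div, le_div_iff₀ h6]
  exact h5

end side

section pair
variable {G : Type*} [Group G] [Fintype G] {S T W₁ W₂ U V' : Subgroup G}

open Classical in
theorem card_bad (hS : Sd S W₁ U W₂) (hT : Sd T W₂ V' W₁)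
    (fS : ∀ u ∈ U, u ≠ 1 → ∀ x ∈ fittingHallOf S, u * x = x * u → x = 1)
    (fT : ∀ u ∈ V', u ≠ 1 → ∀ x ∈ fittingHallOf T, u * x = x * u → x = 1) (hne : Nat.card W₁ ≠ Nat.card W₂) :
    ((Finset.univ.filter (fun g : G => ¬ Nat.Coprime (orderOf g) (Nat.card ↥(W₁ ⊔ W₂)))).card : ℝ) ≤ (Nat.card G : ℝ) *
      (1 / ((Nat.card U : ℝ) * Nat.card W₁) + 1 / ((Nat.card V' : ℝ) * Nat.card W₂) +
        ((Nat.card W₂ : ℝ) - 1) * ((Nat.card W₁ : ℝ) - 1) / (Nat.card W₂ * Nat.card W₁)) := by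
  have hW := hS.side.data.selfNormalizing
  have hcW := card_W hW
  have e1 := hS.card_clP
  have e2 := hT.card_clP
  have e3 := card_cl (V W₁ W₂) (W₁ ⊔ W₂) (by
    intro n hn a ha
    have hcyc := hW.2.2.2.2.1
    have hab : n * a = a * n := by
      have hc := (IsCyclic.commGroup (α := ↥(W₁ ⊔ W₂))).mul_comm (⟨n, hn⟩ : ↥(W₁ ⊔ W₂)) ⟨a, (mem_V.1 ha).1⟩
      exact congrArg Subtype.val hc
    rw [hab, mul_inv_cancel_right]; exact ha)
  rw [hcW] at e3
  have hW1 : 0 < Nat.card W₁ := Nat.card_pos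
  have hW2 : 0 < Nat.card W₂ := Nat.card_pos
  have e4 : (Nat.card {g : G // ∃ x : G, x * g * x⁻¹ ∈ V W₁ W₂} : ℝ) ≤ Nat.card G * (((Nat.card W₂ : ℝ) - 1) * ((Nat.card W₁ : ℝ) - 1) / (Nat.card W₂ * Nat.card W₁)) := by
    have h1 : (Nat.card {g : G // ∃ x : G, x * g * x⁻¹ ∈ V W₁ W₂}) * (Nat.card W₁ * Nat.card W₂) ≤ Nat.card G * ((Nat.card W₁ - 1) * (Nat.card W₂ - 1)) :=
      e3.trans (Nat.mul_le_mul_left _ (card_V_le hW))
    have h2 : (Nat.card {g : G // ∃ x : G, x * g * x⁻¹ ∈ V W₁ W₂} : ℝ) * (Nat.card W₁ * Nat.card W₂) ≤ Nat.card G * (((Nat.card W₁ : ℝ) - 1) * ((Nat.card W₂ : ℝ) - 1)) := by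
      have : ((Nat.card {g : G // ∃ x : G, x * g * x⁻¹ ∈ V W₁ W₂} * (Nat.card W₁ * Nat.card W₂) : ℕ) : ℝ) ≤ ((Nat.card G * ((Nat.card W₁ - 1) * (Nat.card W₂ - 1)) : ℕ) : ℝ) := by
        exact_mod_cast h1
      push_cast [Nat.cast_sub (show 1 ≤ Nat.card W₁ from hW1), Nat.cast_sub (show 1 ≤ Nat.card W₂ from hW2)] at this
      exact this
    rw [mul_div_assoc', le_div_iff₀ (by positivity)]
    linarith
  have e5 : (Finset.univ.filter (fun g : G => ¬ Nat.Coprime (orderOf g) (Nat.card ↥(W₁ ⊔ W₂)))) ⊆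
      (Finset.univ.filter (fun g : G => ∃ x : G, x * g * x⁻¹ ∈ (fittingHallOf S : Set G) \ {1})) ∪
      (Finset.univ.filter (fun g : G => ∃ x : G, x * g * x⁻¹ ∈ (fittingHallOf T : Set G) \ {1})) ∪
      (Finset.univ.filter (fun g : G => ∃ x : G, x * g * x⁻¹ ∈ V W₁ W₂)) := by
    intro g hg
    rw [Finset.mem_filter] at hg
    obtain ⟨r, hr, h1, h2⟩ := Nat.Prime.not_coprime_iff_dvd.1 hg.2
    rw [hcW] at h2
    rw [Finset.mem_union, Finset.mem_union, Finset.mem_filter, Finset.mem_filter, Finset.mem_filter]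
    rcases (Nat.Prime.dvd_mul hr).1 h2 with h3 | h3
    · have h4 := (Nat.prime_dvd_prime_iff_eq hr hS.side.prq).1 h3
      rw [h4] at h1
      rcases hT.elt fT h1 hne.symm with h5 | h5
      · exact Or.inl (Or.inr ⟨Finset.mem_univ _, h5⟩)
      · refine Or.inr ⟨Finset.mem_univ _, ?_⟩
        obtain ⟨x, hx⟩ := h5
        refine ⟨x, ?_⟩
        have hx' := mem_V.1 hx
        exact mem_V.2 ⟨by rw [sup_comm]; exact hx'.1, hx'.2.2, hx'.2.1⟩
    · have h4 := (Nat.prime_dvd_prime_iff_eq hr hS.side.prp).1 h3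
      rw [h4] at h1
      rcases hS.elt fS h1 hne with h5 | h5
      · exact Or.inl (Or.inl ⟨Finset.mem_univ _, h5⟩)
      · exact Or.inr ⟨Finset.mem_univ _, h5⟩
  have e6 := (Finset.card_le_card e5).trans (Finset.card_union_le _ _)
  have e7 := Finset.card_union_le (Finset.univ.filter (fun g : G => ∃ x : G, x * g * x⁻¹ ∈ (fittingHallOf S : Set G) \ {1}))
      (Finset.univ.filter (fun g : G => ∃ x : G, x * g * x⁻¹ ∈ (fittingHallOf T : Set G) \ {1}))
  have c1 : ∀ (A : Set G) (inst : DecidablePred (fun g : G => ∃ x : G, x * g * x⁻¹ ∈ A)),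
      (@Finset.filter _ (fun g : G => ∃ x : G, x * g * x⁻¹ ∈ A) inst Finset.univ).card = Nat.card {g : G // ∃ x : G, x * g * x⁻¹ ∈ A} := by
    intro A inst
    rw [Nat.card_eq_fintype_card, Fintype.card_subtype]
  rw [c1 (V W₁ W₂) _] at e6
  rw [c1 _ _, c1 _ _] at e7
  have e8 : ((Finset.univ.filter (fun g : G => ¬ Nat.Coprime (orderOf g) (Nat.card ↥(W₁ ⊔ W₂)))).card : ℝ) ≤
      Nat.card {g : G // ∃ x : G, x * g * x⁻¹ ∈ (fittingHallOf S : Set G) \ {1}} +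
      Nat.card {g : G // ∃ x : G, x * g * x⁻¹ ∈ (fittingHallOf T : Set G) \ {1}} + Nat.card {g : G // ∃ x : G, x * g * x⁻¹ ∈ V W₁ W₂} := by
    exact_mod_cast e6.trans (Nat.add_le_add_right e7 _)
  rw [mul_add, mul_add]
  linarith

end pair

end Cfsg.Agent.H4.PF14
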