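import Mathlib
import Cfsg.Agent.H4_PF14g
import Cfsg.Agent.H12_SL2

/-! Peterfalvi §14: the virtual characters of the two sides -/

set_option autoImplicit false
set_option linter.all false

namespace Cfsg.Agent.H4.PF14

open Cfsg Cfsg.Agent.H10.PrD2 Cfsg.Agent.H10.PrD4 Cfsg.Agent.H10.CycTI2 Cfsg.Agent.H12.P13S
  Cfsg.Agent.H10.CycTI Cfsg.Agent.H3.CharBasic Cfsg.Agent.H3.CharIrr Cfsg.Agent.H3.CharInd

section swap
variable {G : Type*} [Group G]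

/-- swap the two factors -/
def sw (W₁ W₂ : Subgroup G) (ω : ↥(W₂ ⊔ W₁) →* ℂˣ) : ↥(W₁ ⊔ W₂) →* ℂˣ :=
  ω.comp (MulEquiv.subgroupCongr (sup_comm W₁ W₂)).toMonoidHom

variable {W₁ W₂ : Subgroup G}

theorem sw_apply (ω : ↥(W₂ ⊔ W₁) →* ℂˣ) {w : G} (hw : w ∈ W₁ ⊔ W₂) (hw' : w ∈ W₂ ⊔ W₁) : sw W₁ W₂ ω ⟨w, hw⟩ = ω ⟨w, hw'⟩ := rfl

theorem sw_sw (ω : ↥(W₂ ⊔ W₁) →* ℂˣ) : sw W₂ W₁ (sw W₁ W₂ ω) = ω := by ext w; rfl

theorem sw_one : sw W₁ W₂ 1 = 1 := by ext w; rfl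

theorem sw_mul (a b : ↥(W₂ ⊔ W₁) →* ℂˣ) : sw W₁ W₂ (a * b) = sw W₁ W₂ a * sw W₁ W₂ b := by ext w; rfl

theorem sw_inj {a b : ↥(W₂ ⊔ W₁) →* ℂˣ} (h : sw W₁ W₂ a = sw W₁ W₂ b) : a = b := by
  rw [← sw_sw a, h, sw_sw]

theorem sw_X1 {a : ↥(W₂ ⊔ W₁) →* ℂˣ} : X1 W₁ W₂ (sw W₁ W₂ a) ↔ X2 W₂ W₁ a := by
  constructor
  · intro h w hw
    exact h ⟨w, (sup_comm W₁ W₂).symm ▸ w.2⟩ hw
  · intro h w hw
    exact h ⟨w, (sup_comm W₁ W₂) ▸ w.2⟩ hw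

theorem sw_X2 {a : ↥(W₂ ⊔ W₁) →* ℂˣ} : X2 W₁ W₂ (sw W₁ W₂ a) ↔ X1 W₂ W₁ a := by
  constructor
  · intro h w hw
    exact h ⟨w, (sup_comm W₁ W₂).symm ▸ w.2⟩ hw
  · intro h w hw
    exact h ⟨w, (sup_comm W₁ W₂) ▸ w.2⟩ hw

theorem self_swap (h : IsSelfNormalizingCyclic W₁ W₂) : IsSelfNormalizingCyclic W₂ W₁ := by
  obtain ⟨h1, h2, h3, h4, h5, h6⟩ := h
  refine ⟨h2, h1, by rw [inf_comm]; exact h3, fun a ha b hb => (h4 b hb a ha).symm, by rw [sup_comm]; exact h5, ?_⟩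
  intro X hX hne
  rw [sup_comm]
  apply h6 X _ hne
  rw [sup_comm, Set.union_comm]
  exact hX

theorem V_swap : V W₂ W₁ = V W₁ W₂ := by
  rw [V, V, sup_comm, Set.union_comm]

theorem fam_swap [Fintype G] {η : (↥(W₁ ⊔ W₂) →* ℂˣ) → (G → ℂ)} (hη : IsCyclicTIFamily W₁ W₂ η) :
    IsCyclicTIFamily W₂ W₁ (fun ω => η (sw W₁ W₂ ω)) := by
  refine ⟨fun ω => hη.irr_or_neg _, ?_, ?_, ?_, ?_⟩
  · intro ω ω'
    rw [hη.orthonormal]
    by_cases h : ω = ω'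
    · rw [if_pos h, if_pos (by rw [h])]
    · rw [if_neg h, if_neg (fun h' => h (sw_inj h'))]
  · show η (sw W₁ W₂ 1) = _
    rw [sw_one, hη.map_one]
  · intro ω w h1 h2
    exact hη.eq_on (sw W₁ W₂ ω) ⟨w, (sup_comm W₁ W₂).symm ▸ w.2⟩ h2 h1
  · intro φ ψ hφ hψ h1 h2
    have h3 := hη.induced_eq (sw W₁ W₂ ψ) (sw W₁ W₂ φ) (fun h => hψ (sw_inj (by rw [h, sw_one]))) (fun h => hφ (sw_inj (by rw [h, sw_one])))
      (fun w hw => h2 ⟨w, (sup_comm W₁ W₂) ▸ w.2⟩ hw) (fun w hw => h1 ⟨w, (sup_comm W₁ W₂) ▸ w.2⟩ hw)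
    have h4 : indFun (W₂ ⊔ W₁) (fun w => 1 - (φ w : ℂ) - (ψ w : ℂ) + (φ w : ℂ) * (ψ w : ℂ)) =
        indFun (W₁ ⊔ W₂) (fun w => 1 - (sw W₁ W₂ ψ w : ℂ) - (sw W₁ W₂ φ w : ℂ) + (sw W₁ W₂ ψ w : ℂ) * (sw W₁ W₂ φ w : ℂ)) := by
      apply ind_congr (sup_comm W₂ W₁)
      intro x hx hx'
      rw [sw_apply ψ hx' hx, sw_apply φ hx' hx]
      ring
    rw [h4, h3]
    funext g
    show 1 - η (sw W₁ W₂ ψ) g - η (sw W₁ W₂ φ) g + η (sw W₁ W₂ ψ * sw W₁ W₂ φ) g = 1 - η (sw W₁ W₂ φ) g - η (sw W₁ W₂ ψ) g + η (sw W₁ W₂ (φ * ψ)) g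
    rw [sw_mul, mul_comm (sw W₁ W₂ ψ)]
    ring

theorem SD_swap [Fintype G] {η : (↥(W₁ ⊔ W₂) →* ℂˣ) → (G → ℂ)} {S : G → Prop} {n : ℝ} {ω : ↥(W₂ ⊔ W₁) →* ℂˣ} {B : G → ℂ}
    (h : SD W₂ W₁ (fun ω => η (sw W₁ W₂ ω)) S n ω B) : SD W₁ W₂ η S n (sw W₁ W₂ ω) B := by
  refine ⟨h.gen, h.one, h.norm, h.real, fun h' => h.ne (sw_inj (by rw [h', sw_one])), ?_, ?_, h.supp⟩
  · rcases h.X with h1 | h1
    · exact Or.inr (sw_X2.2 h1)
    · exact Or.inl (sw_X1.2 h1)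
  · intro w h1 h2
    exact h.val ⟨w, (sup_comm W₁ W₂) ▸ w.2⟩ h2 h1

end swap

section side
variable {G : Type*} [Group G] [Finite G] {S W₁ U W₂ : Subgroup G} (h : Sd S W₁ U W₂)
include h

theorem Sd.W1_free : ∀ w ∈ W₁, w ≠ 1 → ∀ u ∈ U, w * u = u * w → u = 1 := by
  intro w hw hw1 u hu he
  have hd := h.side.data
  have h1 : u ∈ W₂ := by
    rw [← hd.W₂_centralizer w hw hw1]
    exact ⟨hd.U_compl.2.1 hu, Subgroup.mem_centralizer_iff.2 fun y hy => by rw [Set.mem_singleton_iff.1 hy]; exact he⟩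
  have h2 : u ∈ fittingHallOf S ⊓ U := ⟨(hd.W₂_le h1).1, hu⟩
  rw [hd.U_compl.2.2.1] at h2
  exact Subgroup.mem_bot.1 h2

theorem Sd.ts : TS S (commutator S) W₁ W₂ ((fittingHallOf S).subgroupOf S) (U.subgroupOf S) := by
  have hd := h.side.data
  have hpd := h.side.pd
  have hcm : ∀ x : S, x ∈ commutator S ↔ (x : G) ∈ ⁅S, S⁆ := by
    intro x
    have e1 : (commutator S).map S.subtype = ⁅S, S⁆ := by
      rw [commutator_def, Subgroup.map_commutator, ← MonoidHom.range_eq_map, Subgroup.range_subtype]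
    rw [← e1]
    constructor
    · intro hx; exact ⟨x, hx, rfl⟩
    · rintro ⟨y, hy, e⟩
      have : y = x := Subtype.ext e
      rwa [← this]
  have hUS : U ≤ S := Cfsg.Agent.H12.TypeP.U_le_M hd
  refine ⟨hpd.H_normal, hpd.H_le, hpd.W₂H, ?_, ?_, ?_, ?_, ?_, ?_⟩
  · intro u hu
    rw [hcm]
    exact hd.U_compl.2.1 (Subgroup.mem_subgroupOf.1 hu)
  · rw [eq_bot_iff]
    intro x hx
    have h2 : (x : G) ∈ fittingHallOf S ⊓ U := ⟨Subgroup.mem_subgroupOf.1 hx.2, Subgroup.mem_subgroupOf.1 hx.1⟩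
    rw [hd.U_compl.2.2.1] at h2
    exact Subgroup.mem_bot.2 (Subtype.ext (Subgroup.mem_bot.1 h2))
  · intro k hk
    have hn : U ≤ Subgroup.normalizer (fittingHallOf S : Set G) := Cfsg.Agent.H12.TypeP.U_le_normalizer hd
    obtain ⟨z, hz, u, hu, e⟩ := hd.U_compl.2.2.2 _ ((hcm k).1 hk)
    have hz2 : u⁻¹ * z * u ∈ fittingHallOf S := by
      have := (Subgroup.mem_normalizer_iff.1 (hn (U.inv_mem hu)) z).1 hz
      rwa [inv_inv] at this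
    have hzS : z ∈ S := by
      have := (S.mul_mem k.2 (S.inv_mem (hUS hu)))
      rwa [e, mul_inv_cancel_right] at this
    refine ⟨⟨u, hUS hu⟩, Subgroup.mem_subgroupOf.2 hu, ⟨u⁻¹ * z * u, S.mul_mem (S.mul_mem (S.inv_mem (hUS hu)) hzS) (hUS hu)⟩,
      Subgroup.mem_subgroupOf.2 hz2, ?_⟩
    apply Subtype.ext
    show (k : G) = u * (u⁻¹ * z * u)
    rw [e]; group
  · intro e he u hu
    exact Subgroup.mem_subgroupOf.2 ((Subgroup.mem_normalizer_iff.1 (hd.U_normal (Subgroup.mem_subgroupOf.1 he)) u).1 (Subgroup.mem_subgroupOf.1 hu))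
  · intro a ha b hb
    exact Subtype.ext (h.ab (Subgroup.mem_subgroupOf.1 ha) (Subgroup.mem_subgroupOf.1 hb))
  · exact Nat.Coprime.coprime_dvd_right (Subgroup.card_dvd_of_le hpd.H_le) hpd.hall

theorem Sd.card_P' : Nat.card ((fittingHallOf S).subgroupOf S) = Nat.card (fittingHallOf S) :=
  Nat.card_congr (Subgroup.subgroupOfEquivOfLe h.P_le).toEquiv

theorem Sd.card_U' : Nat.card (U.subgroupOf S) = Nat.card U :=
  Nat.card_congr (Subgroup.subgroupOfEquivOfLe (Cfsg.Agent.H12.TypeP.U_le_M h.side.data)).toEquiv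

theorem Sd.U_mod : Nat.card U % Nat.card W₁ = 1 := by
  have h1 := Cfsg.Agent.H12.SL2.card_dvd_free (V := U) (K := W₁) h.side.data.U_normal (by
    intro k hk hk1
    rw [eq_bot_iff]
    rintro u ⟨hu, hc⟩
    rw [Subgroup.mem_bot]
    exact h.W1_free k hk hk1 u hu (Subgroup.mem_centralizer_iff.1 hc k rfl))
  have h2 : 1 < Nat.card W₁ := h.side.prq.one_lt
  obtain ⟨c, hc⟩ := h1
  have h3 : 0 < Nat.card U := Nat.card_pos
  have h4 : Nat.card U = Nat.card W₁ * c + 1 := by omega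
  rw [h4, Nat.mul_add_mod, Nat.mod_eq_of_lt h2]

end side

section SDs
variable {G : Type*} [Group G] [Fintype G] {S W₁ U W₂ : Subgroup G} (h : Sd S W₁ U W₂)
include h

theorem Sd.cdeg [Fintype S] {μ : (↥(W₁ ⊔ W₂) →* ℂˣ) → (S → ℂ)} {δ : (↥(W₁ ⊔ W₂) →* ℂˣ) → ℂ} (hμ : MU (commutator S) W₁ W₂ μ δ) :
    ∀ ω, X2 W₁ W₂ ω → ω ≠ 1 → μ ω 1 = Nat.card U := by
  classical
  intro ω hω hω1
  haveI : Fintype (commutator S) := Fintype.ofFinite _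
  haveI : Fintype ((FF S).subgroupOf S) := Fintype.ofFinite _
  obtain ⟨θ, -, -, e⟩ := Cfsg.Agent.H12.P13.exists_full h.side.pd hμ h.side.fd hω hω1
  have h1 := congrFun e 1
  rw [Cfsg.Agent.H10.PrD6.red, ind_one, ind_one] at h1
  have h2 : Cfsg.Agent.H12.P13.ch θ 1 = 1 := by simp [Cfsg.Agent.H12.P13.ch]
  have h3 : (commutator S).index = Nat.card W₁ := index_K h.side.pd.toPT
  have h4 : ((FF S).subgroupOf S).index = Nat.card U * Nat.card W₁ := by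
    rw [h.FF_eq]
    have h5 := Subgroup.card_mul_index ((fittingHallOf S).subgroupOf S)
    rw [h.card_P', h.card_S, mul_assoc] at h5
    exact Nat.eq_of_mul_eq_mul_left Nat.card_pos h5
  rw [h2, h3, h4, mul_one] at h1
  push_cast at h1
  have h6 : (Nat.card W₁ : ℂ) ≠ 0 := by exact_mod_cast Nat.card_pos.ne'
  apply mul_left_cancel₀ h6
  rw [← h1]; ring

theorem Sd.SD {η : (↥(W₁ ⊔ W₂) →* ℂˣ) → (G → ℂ)} (hη : IsCyclicTIFamily W₁ W₂ η) {ω : ↥(W₁ ⊔ W₂) →* ℂˣ} (hω : X2 W₁ W₂ ω) (hω1 : ω ≠ 1) :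
    ∃ B : G → ℂ, SD W₁ W₂ η (fun g => orderOf g ∣ Nat.card (fittingHallOf S) * Nat.card W₁) (((Nat.card U : ℝ) - 1) / Nat.card W₁) ω B := by
  classical
  haveI : Fintype S := Fintype.ofFinite _
  obtain ⟨μ, δ, hμ⟩ := exists_MU h.side.pd.toPT
  have h1 := exists_SD h.side.pd h.ts hμ hη (by
    intro x hx hx1
    apply h.side.pd.A_cent x (h.side.pd.H_le hx) hx1
    exact ⟨x, hx, hx1, rfl⟩) (by
    intro x hx hx1
    apply h.side.fd.R_bot x _ hx1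
    rw [h.FF_eq]; exact hx) (by rw [h.card_U']; exact h.U_mod) (by
    intro ω hω hω1
    rw [h.card_U']; exact h.cdeg hμ ω hω hω1) hω hω1
  rw [h.card_U'] at h1
  obtain ⟨B, hB⟩ := h1
  refine ⟨B, ?_⟩
  have e : (Sp ((fittingHallOf S).subgroupOf S) W₁ : G → Prop) = fun g => orderOf g ∣ Nat.card (fittingHallOf S) * Nat.card W₁ := by
    funext g
    rw [Sp, h.card_P']
  rwa [e] at hB

end SDs

end Cfsg.Agent.H4.PF14
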