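import Mathlib
import Cfsg.Agent.H4_PF14h
import Cfsg.Agent.H1_PF12m
import Cfsg.Agent.H1_PG8c
import Cfsg.Agent.S1517
import Cfsg.Agent.H10_PrE1
import Cfsg.Agent.H10_CycEx4

/-! Peterfalvi §14: the coherent families attached to the maximal subgroups -/

set_option autoImplicit false
set_option linter.all false

namespace Cfsg.Agent.H4.PF14

open Cfsg Cfsg.Agent.H10.PrD2 Cfsg.Agent.H10.PrD4 Cfsg.Agent.H10.CycTI2 Cfsg.Agent.H12.P13S
  Cfsg.Agent.H10.CycTI Cfsg.Agent.H3.CharBasic Cfsg.Agent.H3.CharIrr Cfsg.Agent.H3.CharInd Cfsg.Agent.H3.CharComplete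
  Cfsg.Agent.H3.Clifford Cfsg.Agent.H10.IndSet2 Cfsg.Agent.H10.Coh Cfsg.Agent.H10.Coh2 Cfsg.Agent.H10.Coh3 Cfsg.Agent.H10.Coh4
  Cfsg.Agent.H12.Ty Cfsg.Agent.H1.PF12 Cfsg.Agent.H10.IndSet Cfsg.Agent.H10.IndSet3

universe u

section typeI
variable {G : Type u} [Group G] [Fintype G] {L : Subgroup G}

open Classical in
/-- the data for a Frobenius type I subgroup -/
structure LDI (L : Subgroup G) (h e : ℕ) (T : Finset (G → ℂ)) (d : (G → ℂ) → ℕ) (ψ X : G → ℂ) : Prop where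
  ld : LD (Til (tA L) (supportR L)) h e T d ψ X
  norm : classInner X ψ = -1 → (Nat.card G : ℝ) * (1 - (e : ℝ) / h) ≤ ∑ g : G, (if Til (tA L) (supportR L) g then ‖ψ g‖ ^ 2 else 0)
  card : ((Finset.univ.filter (fun g : G => Til (tA L) (supportR L) g)).card : ℝ) * ((h : ℝ) * e) = (Nat.card G : ℝ) * ((h : ℝ) - 1)

omit [Fintype G] in
theorem mem_fHO {x : L} : (x : G) ∈ fittingHallOf L ↔ x ∈ fittingHall L := by
  constructor
  · rintro ⟨m, hm, e⟩
    have : m = x := Subtype.ext e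
    rwa [← this]
  · intro h; exact ⟨x, h, rfl⟩

omit [Fintype G] in
theorem card_fHO : Nat.card (fittingHall L) = Nat.card (fittingHallOf L) :=
  Nat.card_congr (Subgroup.equivMapOfInjective (fittingHall L) L.subtype L.subtype_injective).toEquiv

theorem exists_LDI (hG : IsMinSimpleOddOrder G) (hC : Con1011 G) (hL : IsCoatom L) (hI : TyI L) :
    ∃ T d ψ X, LDI L (Nat.card (fittingHallOf L)) (fittingHall L).index T d ψ X := by
  classical
  haveI : Fintype L := Fintype.ofFinite _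
  have hκ := (H2.Ty.tyI_iff hG hL).1 hI
  have ht := tau2_empty hG hC hL hκ
  have hcent := cent_fh hG hL hκ ht
  have hD := dadeN hG hL
  have hA := tA_frob hG hL hκ ht
  obtain ⟨hirr, hcoh⟩ := main1542 hG hC L hL hI
  haveI hn : (fittingHall L).Normal := inferInstance
  have hsol : Group.IsSolvable L := H12.BG7.solvable_of_ne_top hG hL.1
  have hb : (⊥ : Subgroup L) < fittingHall L := bot_lt_iff_ne_bot.2 hI.1.2.2.1
  have hmin := exists_min (K := fittingHall L) inferInstance (A := (⊥ : Subgroup L)) hb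
  have hodd : Odd (Nat.card L) := Odd.of_dvd_nat hG.1 (Subgroup.card_subgroup_dvd_card _)
  obtain ⟨T, d, ψ, X, hLD, τ, hτ, hag, θ, hθ, hθe, hψ, hX⟩ := exists_LD (K := fittingHall L) (N := ⊥) hD hA hirr hmin hodd hcoh
  have e1 : (⊥ : Subgroup L).relIndex (fittingHall L) = Nat.card (fittingHallOf L) := by
    rw [Subgroup.relIndex_bot_left, card_fHO]
  rw [e1] at hLD
  refine ⟨T, d, ψ, X, hLD, ?_, ?_⟩
  · intro hXψ
    have h1 := norm_til (K := fittingHall L) hD hA hcent hodd hτ hag hθ hθe (by rw [← hψ, ← hX]; exact hXψ)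
    rw [← hψ, card_fHO] at h1
    convert h1
  · have h1 := card_til (K := fittingHall L) hD hA
    have h2 : (Nat.card L : ℝ) = (Nat.card (fittingHallOf L) : ℝ) * (fittingHall L).index := by
      rw [← card_fHO]
      exact_mod_cast (Subgroup.card_mul_index (fittingHall L)).symm
    rw [h2, card_fHO] at h1
    convert h1

end typeI

section dadeA0
variable {G : Type u} [Group G] [Fintype G] {L : Subgroup G} [Fintype L] {A B : Set G} {R : G → Subgroup G}

theorem dade_mono (hA : DadeHypothesis A L R) (hB : DadeHypothesis B L R) (hAB : A ⊆ B) {α : L → ℂ} (hα : IsClassFunction L α)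
    (hs : ∀ x : L, (x : G) ∉ A → α x = 0) : dadeIsometry B L R α = dadeIsometry A L R α := by
  funext g
  by_cases h : ∃ a : L, (a : G) ∈ A ∧ ∃ x : G, ∃ u ∈ R (a : G), x * g * x⁻¹ = (a : G) * u
  · obtain ⟨a, ha, x, u, hu, e⟩ := h
    rw [Cfsg.Agent.H10.Dade.dade_apply hA hα ha hu e, Cfsg.Agent.H10.Dade.dade_apply hB hα (hAB ha) hu e]
  · rw [Cfsg.Agent.H10.Dade.dade_zero h]
    by_cases h' : ∃ a : L, (a : G) ∈ B ∧ ∃ x : G, ∃ u ∈ R (a : G), x * g * x⁻¹ = (a : G) * u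
    · obtain ⟨a, ha, x, u, hu, e⟩ := h'
      rw [Cfsg.Agent.H10.Dade.dade_apply hB hα ha hu e]
      exact hs a fun haA => h ⟨a, haA, x, u, hu, e⟩
    · rw [Cfsg.Agent.H10.Dade.dade_zero h']

end dadeA0

section typeIII
variable {G : Type u} [Group G] [Fintype G] {M W₁ U W₂ : Subgroup G}

theorem III_irr (hG : IsMinSimpleOddOrder G) (hP : IsTypePWith M W₁ U W₂) (hU : ∀ a ∈ U, ∀ b ∈ U, a * b = b * a)
    (hq : (Nat.card W₁).Prime) [Fintype M] :
    ∀ χ ∈ inducedIrrAbove (⁅M, M⁆.subgroupOf M) ((fittingHallOf M).subgroupOf M), IsIrrCharacter M χ ∧ χ 1 = (Nat.card W₁ : ℂ) := by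
  classical
  have hPT := H1.PG8.pt_P hG hP
  set K := ⁅M, M⁆.subgroupOf M with hKdef
  haveI hK : K.Normal := hPT.normal
  haveI : Fintype K := Fintype.ofFinite _
  rintro χ ⟨θ, hθ, hθ1, hker, rfl⟩
  have hHM' : fittingHallOf M ≤ ⁅M, M⁆ := hP.U_compl.1
  have hM'M : ⁅M, M⁆ ≤ M := hP.W₁_compl.1
  have hUM' : U ≤ ⁅M, M⁆ := hP.U_compl.2.1
  have hNn : ∀ m ∈ M, ∀ x ∈ fittingHallOf M, m * x * m⁻¹ ∈ fittingHallOf M := by
    intro m hm x hx
    exact (Subgroup.mem_normalizer_iff.1 (H12.Core.le_normalizer_fittingHallOf M hm) x).1 hx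
  -- θ is linear
  have hkc : ∀ x y : K, θ (x * y * x⁻¹ * y⁻¹) = θ 1 := by
    intro x y
    apply hker
    rw [Subgroup.mem_subgroupOf]
    obtain ⟨z₁, hz₁, v₁, hv₁, e₁⟩ := hP.U_compl.2.2.2 _ (Subgroup.mem_subgroupOf.1 x.2)
    obtain ⟨z₂, hz₂, v₂, hv₂, e₂⟩ := hP.U_compl.2.2.2 _ (Subgroup.mem_subgroupOf.1 y.2)
    have hc := hU _ hv₁ _ hv₂
    have hv : v₁ * v₂ * v₁⁻¹ = v₂ := by rw [hc]; group
    have e : ((((x * y * x⁻¹ * y⁻¹ : K) : M) : G)) = z₁ * (v₁ * z₂ * v₁⁻¹) * (v₂ * z₁⁻¹ * v₂⁻¹) * z₂⁻¹ := by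
      have e3 : ((((x * y * x⁻¹ * y⁻¹ : K) : M) : G)) = ((x : M) : G) * ((y : M) : G) * ((x : M) : G)⁻¹ * ((y : M) : G)⁻¹ := rfl
      rw [e3, e₁, e₂]
      have e4 : z₁ * v₁ * (z₂ * v₂) * (z₁ * v₁)⁻¹ * (z₂ * v₂)⁻¹ = z₁ * (v₁ * z₂ * v₁⁻¹) * (v₁ * v₂ * v₁⁻¹) * z₁⁻¹ * v₂⁻¹ * z₂⁻¹ := by group
      rw [e4, hv]; group
    rw [e]
    have h1 := hNn v₁ (hM'M (hUM' hv₁)) z₂ hz₂
    have h2 := hNn v₂ (hM'M (hUM' hv₂)) z₁⁻¹ (inv_mem hz₁)
    exact mul_mem (mul_mem (mul_mem hz₁ h1) h2) (inv_mem hz₂)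
  have hlin := Cfsg.Agent.H10.PrE1.lin_of_comm hθ hkc
  obtain ⟨f, hf⟩ := IsChar.hom_units_of_one (IsIrr.isCharacter hθ) hlin
  have hidx : K.index = Nat.card W₁ := index_K hPT
  refine ⟨?_, ?_⟩
  · have h1 := norm_ind hK hθ
    have h2 : inertia hK θ = K := by
      have hle : K ≤ inertia hK θ := le_inertia hK (IsIrr.isClass hθ)
      have hmul := Subgroup.relIndex_mul_index hle
      rw [hidx] at hmul
      rcases (Nat.dvd_prime hq).1 (Dvd.intro_left _ hmul) with h3 | h3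
      · exfalso
        rw [Subgroup.index_eq_one] at h3
        obtain ⟨w, hw, hw1⟩ := exists_W1 hPT
        have hwM : w ∈ M := hPT.W₁_le hw
        have hwI : (⟨w, hwM⟩ : M) ∈ inertia hK θ := by rw [h3]; exact Subgroup.mem_top _
        rw [mem_inertia] at hwI
        -- the commutator map on `U`
        have hconjU : ∀ v ∈ U, w * v * w⁻¹ ∈ U := fun v hv => (Subgroup.mem_normalizer_iff.1 (hP.U_normal hw) v).1 hv
        let κ : U → U := fun v => ⟨w * v * w⁻¹ * (v : G)⁻¹, mul_mem (hconjU v v.2) (inv_mem v.2)⟩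
        have hκi : Function.Injective κ := by
          rintro ⟨a, ha⟩ ⟨b, hb⟩ h
          have h4 : w * a * w⁻¹ * a⁻¹ = w * b * w⁻¹ * b⁻¹ := congrArg Subtype.val h
          have h5 : w * (b⁻¹ * a) = (b⁻¹ * a) * w := by
            have h6 : w * a * w⁻¹ = w * b * w⁻¹ * (b⁻¹ * a) := by
              rw [← mul_assoc, ← h4]; group
            have h7 : (w * b * w⁻¹) * (b⁻¹ * a) = (b⁻¹ * a) * (w * b * w⁻¹) :=
              hU _ (hconjU b hb) _ (mul_mem (inv_mem hb) ha)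
            rw [h7] at h6
            have h8 : w * (a * b⁻¹) = (b⁻¹ * a) * w := by
              calc w * (a * b⁻¹) = (w * a * w⁻¹) * (w * b * w⁻¹)⁻¹ * w := by group
                _ = (b⁻¹ * a) * w := by rw [h6]; group
            rwa [hU a ha b⁻¹ (inv_mem hb)] at h8
          have h9 : b⁻¹ * a = 1 := by
            have h10 : b⁻¹ * a ∈ W₂ := by
              rw [← hP.W₂_centralizer w hw hw1]
              exact ⟨hUM' (mul_mem (inv_mem hb) ha), Subgroup.mem_centralizer_iff.2 fun y hy => by rw [Set.mem_singleton_iff.1 hy]; exact h5⟩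
            have h11 : b⁻¹ * a ∈ fittingHallOf M ⊓ U := ⟨(hP.W₂_le h10).1, U.mul_mem (U.inv_mem hb) ha⟩
            rw [hP.U_compl.2.2.1] at h11
            exact Subgroup.mem_bot.1 h11
          exact Subtype.ext (inv_mul_eq_one.1 h9).symm
        have hκs : Function.Surjective κ := Finite.surjective_of_injective hκi
        apply hθ1
        funext x
        rw [hf x]
        have key : f x = 1 := by
          have hfN : ∀ a : K, ((a : M) : G) ∈ fittingHallOf M → f a = 1 := by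
            intro a ha
            have h4 := hker a (Subgroup.mem_subgroupOf.2 ha)
            rw [hf, hlin] at h4
            exact Units.ext h4
          obtain ⟨z, hz, v, hv, e⟩ := hP.U_compl.2.2.2 _ (Subgroup.mem_subgroupOf.1 x.2)
          let zK : K := ⟨⟨z, hM'M (hHM' hz)⟩, Subgroup.mem_subgroupOf.2 (hHM' hz)⟩
          obtain ⟨⟨t, ht⟩, hκt⟩ := hκs ⟨v, hv⟩
          have hκt' : w * t * w⁻¹ * t⁻¹ = v := congrArg Subtype.val hκt
          let tK : K := ⟨⟨t, hM'M (hUM' ht)⟩, Subgroup.mem_subgroupOf.2 (hUM' ht)⟩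
          let t'K : K := ⟨⟨w, hwM⟩ * tK * (⟨w, hwM⟩ : M)⁻¹, hK.conj_mem tK tK.2 ⟨w, hwM⟩⟩
          have hx : x = zK * (t'K * tK⁻¹) := by
            apply Subtype.ext
            apply Subtype.ext
            show ((x : M) : G) = z * ((w * t * w⁻¹) * t⁻¹)
            rw [e, hκt']
          have h5 : f t'K = f tK := by
            have h6 := congrFun hwI tK
            rw [cj_apply, hf, hf] at h6
            exact Units.ext h6
          rw [hx, map_mul, map_mul, map_inv, h5, mul_inv_cancel, mul_one]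
          exact hfN zK hz
        rw [key]; rfl
      · rw [h3] at hmul
        have h4 : K.relIndex (inertia hK θ) = 1 := by
          have := hq.pos
          exact Nat.eq_of_mul_eq_mul_right this (by rw [hmul, one_mul])
        exact le_antisymm (Subgroup.relIndex_eq_one.1 h4) hle
    rw [h2, div_self (Nat.cast_ne_zero.2 Nat.card_pos.ne')] at h1
    exact IsChar.isIrr_of_norm (IsChar.ind (IsIrr.isCharacter hθ)) h1
  · rw [ind_one, hlin, mul_one, hidx]

theorem exists_LDIII (hG : IsMinSimpleOddOrder G) (hM : IsCoatom M) (hIII : IsOfTypeIII M) (hP : IsTypePWith M W₁ U W₂)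
    (hU : ∀ a ∈ U, ∀ b ∈ U, a * b = b * a) (hq : (Nat.card W₁).Prime) (hUb : U ≠ ⊥) :
    ∃ T d ψ X, LD (Til (tA M) (supportR M)) (Nat.card U) (Nat.card W₁) T d ψ X := by
  classical
  haveI : Fintype M := Fintype.ofFinite _
  have hodd : Odd (Nat.card M) := Odd.of_dvd_nat hG.1 (Subgroup.card_subgroup_dvd_card _)
  have hsol : Group.IsSolvable M := H12.BG7.solvable_of_ne_top hG hM.1
  have hirr := III_irr hG hP hU hq
  have hcore : typeCore M = ⁅M, M⁆ := by rw [typeCore, if_pos (Or.inl hIII)]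
  have hPT := H1.PG8.pt_P hG hP
  have hPD := H1.PG8.pd_core hG hM hP
  have hPDf := H1.PG8.pd_fh hG hM hP
  rw [hcore] at hPD
  have hnt := H1.PG8.not_TyI_of_P hG hM hP
  have hHM' : fittingHallOf M ≤ ⁅M, M⁆ := hP.U_compl.1
  have hM'M : ⁅M, M⁆ ≤ M := hP.W₁_compl.1
  have hD := dadeN hG hM
  set K := ⁅M, M⁆.subgroupOf M with hKdef
  set N := (fittingHallOf M).subgroupOf M with hNdef
  haveI hK : K.Normal := hPT.normal
  haveI hN : N.Normal := hPDf.H_normal
  haveI : Fintype K := Fintype.ofFinite _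
  have hA : ∀ x : M, (x : G) ∈ tA M ↔ x ∈ K ∧ x ≠ 1 := by
    intro x
    rw [tA, if_neg hnt, hcore]
    constructor
    · rintro ⟨h1, h2, -⟩
      exact ⟨Subgroup.mem_subgroupOf.2 h1, fun h => h2 (by rw [h]; rfl)⟩
    · rintro ⟨h1, h2⟩
      exact ⟨Subgroup.mem_subgroupOf.1 h1, fun h => h2 (Subtype.ext h), x, Subgroup.mem_subgroupOf.1 h1, fun h => h2 (Subtype.ext h), rfl⟩
  have hNK : N < K := by
    refine lt_of_le_of_ne (Subgroup.comap_mono hHM') ?_
    intro h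
    apply hUb
    rw [eq_bot_iff]
    intro u hu
    have h1 : u ∈ ⁅M, M⁆ := hP.U_compl.2.1 hu
    have h2 : (⟨u, hM'M h1⟩ : M) ∈ N := by rw [h]; exact Subgroup.mem_subgroupOf.2 h1
    have h3 : u ∈ fittingHallOf M ⊓ U := ⟨Subgroup.mem_subgroupOf.1 h2, hu⟩
    rwa [hP.U_compl.2.2.1] at h3
  have hmin := exists_min (K := K) inferInstance (A := N) hNK
  have hidx : K.index = Nat.card W₁ := index_K hPT
  -- coherence
  obtain ⟨μ, δ, hμ⟩ := exists_MU hPT
  obtain ⟨η, hη⟩ := Cfsg.Agent.H10.CycEx4.exists_family hP.selfNormalizing (odd_W hPT)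
  have hSD : inducedIrrAbove K N ⊆ Cfsg.Agent.H10.PrD6.indD K K ⊥ := by
    rintro χ ⟨θ, hθ, hθ1, hker, rfl⟩
    refine ⟨θ, hθ, ?_, ?_, rfl⟩
    · by_contra hcon
      push Not at hcon
      have h1 : classInner θ (fun _ => 1) = 0 := ci_irr_ne hθ isIrr_one hθ1
      have h2 : classInner θ (fun _ => (1 : ℂ)) = θ 1 := by
        rw [classInner, Finset.sum_congr rfl (g := fun _ : K => θ 1) (fun k _ => by rw [hcon k k.2]; simp), Finset.sum_const, Finset.card_univ,
          nsmul_eq_mul, ← Nat.card_eq_fintype_card, ← mul_assoc, inv_mul_cancel₀ (Nat.cast_ne_zero.2 Nat.card_pos.ne'), one_mul]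
      rw [h2] at h1
      exact IsIrr.one_ne_zero hθ h1
    · intro k hk
      have : k = 1 := Subtype.ext (Subgroup.mem_bot.1 hk)
      rw [this]
  obtain ⟨Rc, hsys, -, -⟩ := Cfsg.Agent.H10.PrD7.system hPD hμ hη hSD ⟨_, hmin.choose_spec.1⟩ (fun χ hχ => conj_mem_above hχ)
  obtain ⟨hne, τ₁, hτ₁, hag⟩ := Cfsg.Agent.S1517.result _ _ _ hsys (fun φ hφ ψ hψ => by rw [(hirr φ hφ).2, (hirr ψ hψ).2])
  have hbot : ∀ χ, χ ∈ inducedIrrAbove K N → χ ∈ inducedIrrAbove K ⊥ := fun χ hχ => SF_mono bot_le hχ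
  have hcoh : IsCoherent (inducedIrrAbove K N) {1}ᶜ (dadeIsometry (tA M) M (supportR M)) := by
    refine ⟨hne, τ₁, hτ₁, fun α hα => ?_⟩
    rw [hag α hα]
    have hα' := zo_iff.1 hα
    apply dade_mono hD hPD.dade (fun a ha => Or.inl ha) (IsGen.isClass (zs_gen (fun χ hχ => IsGen.of_irr (hirr χ hχ).1) hα'.1))
    intro x hx
    by_cases hxK : x ∈ K
    · by_cases hx1 : x = 1
      · rw [hx1]; exact hα'.2
      · exact absurd ((hA x).2 ⟨hxK, hx1⟩) hx
    · exact Cfsg.Agent.H10.Sib2.zs_off hK (zs_mono hbot hα'.1) x hxK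
  obtain ⟨T, d, ψ, X, hLD, -⟩ := exists_LD (K := K) (N := N) hD hA (fun χ hχ => (hirr χ hχ).1) hmin hodd hcoh
  have hrel : N.relIndex K = Nat.card U := by
    have h1 := Subgroup.card_mul_index (N.subgroupOf K)
    have h2 := H12.Core.IsComplIn_card hP.U_compl
    have h3 : Nat.card K = Nat.card ↥⁅M, M⁆ := Nat.card_congr (Subgroup.subgroupOfEquivOfLe hM'M).toEquiv
    have h4 : Nat.card ↥(N.subgroupOf K) = Nat.card (fittingHallOf M) := by
      rw [Nat.card_congr (Subgroup.subgroupOfEquivOfLe hNK.le).toEquiv]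
      exact Nat.card_congr (Subgroup.subgroupOfEquivOfLe (hHM'.trans hM'M)).toEquiv
    rw [h3, h4, ← h2] at h1
    exact Nat.eq_of_mul_eq_mul_left Nat.card_pos h1
  rw [hrel, hidx] at hLD
  exact ⟨T, d, ψ, X, hLD⟩

end typeIII

end Cfsg.Agent.H4.PF14
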