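import Mathlib
import Cfsg.Agent.H4_PF14i
import Cfsg.Agent.H12_D17

/-! Peterfalvi §14: group theory, and the dichotomies for the two sides -/

set_option autoImplicit false
set_option linter.all false

namespace Cfsg.Agent.H4.PF14

open Cfsg Cfsg.Agent.H10.PrD2 Cfsg.Agent.H10.PrD4 Cfsg.Agent.H10.CycTI2 Cfsg.Agent.H12.P13S
  Cfsg.Agent.H10.CycTI Cfsg.Agent.H3.CharBasic Cfsg.Agent.H3.CharIrr Cfsg.Agent.H3.CharInd Cfsg.Agent.H3.CharComplete
  Cfsg.Agent.H12.Ty Cfsg.Agent.H1.PF12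

universe u

variable {G : Type u} [Group G]

section grp
variable [Finite G] {S W₁ U W₂ L E : Subgroup G}

theorem fh_hall (hG : IsMinSimpleOddOrder G) (hL : IsCoatom L) : (Nat.card (fittingHallOf L)).Coprime (fittingHallOf L).index :=
  (H12.D16.C1389 hG L hL).2.1

theorem prime_sigma (hG : IsMinSimpleOddOrder G) (h : Sd S W₁ U W₂) : Nat.card W₂ ∈ sigma S := by
  have h1 := H1.PG8.fh_le_core hG h.side.max
  rw [H1.PG8.typeCore_eq hG (H1.PG8.con16 hG) h.side.max] at h1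
  apply H12.BG13.sigmaCore_pi S (Nat.card W₂) h.side.prp
  refine (dvd_pow_self _ h.side.prq.ne_zero).trans ?_
  rw [← h.side.card]
  exact Subgroup.card_dvd_of_le h1

theorem not_dvd_fh (hG : IsMinSimpleOddOrder G) (h : Sd S W₁ U W₂) (hL : IsCoatom L) (hI : TyI L) :
    ¬ Nat.card W₂ ∣ Nat.card (fittingHallOf L) := by
  intro hd
  have hκ := (H2.Ty.tyI_iff hG hL).1 hI
  rw [H1.PF12.fh_I hG hL hκ] at hd
  have h1 := H12.BG13.sigmaCore_pi L (Nat.card W₂) h.side.prp hd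
  by_cases hc : ∃ g : G, L = H13.Syl.cj g S
  · obtain ⟨g, hg⟩ := hc
    obtain ⟨r, hr⟩ := H1.PG8.kappa_ne_of_P hG h.side.max h.side.data
    have h2 := (H1.PG8.kappa_cj' hG (g := g)).2 hr
    rw [← hg, hκ] at h2
    exact h2
  · push Not at hc
    exact (H12.BG13.con13 hG).h139 S L h.side.max hL hc _ (prime_sigma hG h) h1

theorem cop_fh (hG : IsMinSimpleOddOrder G) (h : Sd S W₁ U W₂) (hL : IsCoatom L) (hI : TyI L) :
    (Nat.card W₂).Coprime (Nat.card (fittingHallOf L)) :=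
  (Nat.Prime.coprime_iff_not_dvd h.side.prp).2 (not_dvd_fh hG h hL hI)

/-- Frobenius type I -/
structure FL (L E : Subgroup G) : Prop where
  max : IsCoatom L
  tyI : TyI L
  inf : fittingHallOf L ⊓ E = ⊥
  sup : fittingHallOf L ⊔ E = L
  cent : ∀ x ∈ fittingHallOf L, x ≠ 1 → L ⊓ Subgroup.centralizer ({x} : Set G) ≤ fittingHallOf L

variable (f : FL L E)
include f

theorem FL.E_le : E ≤ L := by
  have h1 := f.sup
  have h2 : E ≤ fittingHallOf L ⊔ E := le_sup_right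
  rwa [h1] at h2

theorem FL.H_le : fittingHallOf L ≤ L := Subgroup.map_subtype_le _

theorem FL.norm : L ≤ Subgroup.normalizer (fittingHallOf L : Set G) := H12.Core.le_normalizer_fittingHallOf L

theorem FL.compl : IsComplIn (fittingHallOf L) E L := by
  refine ⟨f.H_le, f.E_le, f.inf, ?_⟩
  intro m hm
  rw [← f.sup] at hm
  obtain ⟨a, ha, b, hb, e⟩ := Cfsg.Agent.H10.Dade.mem_sup_of_norm (H := fittingHallOf L) (K := E)
    (fun k hk x hx => (Subgroup.mem_normalizer_iff.1 (f.norm (f.E_le hk)) x).1 hx) hm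
  exact ⟨a, ha, b, hb, e.symm⟩

theorem FL.card : Nat.card L = Nat.card (fittingHallOf L) * Nat.card E := (H12.Core.IsComplIn_card f.compl).symm

theorem FL.index : (fittingHall L).index = Nat.card E := by
  have h1 := Subgroup.card_mul_index (fittingHall L)
  rw [f.card, card_fHO] at h1
  exact Nat.eq_of_mul_eq_mul_left Nat.card_pos h1

theorem FL.free : ∀ e ∈ E, e ≠ 1 → ∀ x ∈ fittingHallOf L, e * x = x * e → x = 1 := by
  intro e he he1 x hx hex
  by_contra hx1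
  apply he1
  have h1 : e ∈ fittingHallOf L ⊓ E := ⟨f.cent x hx hx1 ⟨f.E_le he, Subgroup.mem_centralizer_iff.2 fun y hy => by
    rw [Set.mem_singleton_iff.1 hy]; exact hex.symm⟩, he⟩
  rw [f.inf] at h1
  exact Subgroup.mem_bot.1 h1

theorem FL.dvd : Nat.card E ∣ Nat.card (fittingHallOf L) - 1 := by
  apply H12.SL2.card_dvd_free (V := fittingHallOf L) (K := E) (f.E_le.trans f.norm)
  intro k hk hk1
  rw [eq_bot_iff]
  rintro x ⟨hx, hc⟩
  rw [Subgroup.mem_bot]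
  exact f.free k hk hk1 x hx (Subgroup.mem_centralizer_iff.1 hc k rfl)

theorem FL.mod (hE : 1 < Nat.card E) : Nat.card (fittingHallOf L) % Nat.card E = 1 := by
  obtain ⟨c, hc⟩ := f.dvd
  have h3 : 0 < Nat.card (fittingHallOf L) := Nat.card_pos
  have h4 : Nat.card (fittingHallOf L) = Nat.card E * c + 1 := by omega
  rw [h4, Nat.mul_add_mod, Nat.mod_eq_of_lt hE]

end grp

section til
variable [Finite G] {L : Subgroup G}

theorem til_order (hG : IsMinSimpleOddOrder G) (hC : Con1011 G) (hL : IsCoatom L) (hI : TyI L) {n : ℕ}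
    (hn : n.Coprime (Nat.card (fittingHallOf L))) {g : G} (hg : Til (tA L) (supportR L) g) : ¬ orderOf g ∣ n := by
  intro hd
  have hκ := (H2.Ty.tyI_iff hG hL).1 hI
  have ht := tau2_empty hG hC hL hκ
  obtain ⟨a, ha, hdv⟩ := til_dvd (dadeN hG hL) hg
  have haL : a ∈ L := by
    rw [tA, if_pos hI] at ha
    exact ha.1
  have h1 := (tA_frob hG hL hκ ht ⟨a, haL⟩).1 ha
  have h2 : orderOf a ∣ Nat.card (fittingHallOf L) := by
    have := orderOf_dvd_natCard (⟨a, mem_fHO.2 h1.1⟩ : fittingHallOf L)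
    rwa [← Subgroup.orderOf_coe] at this
  have h3 : orderOf a = 1 := Nat.Coprime.eq_one_of_dvd (Nat.Coprime.coprime_dvd_left (hdv.trans hd) hn) h2
  exact h1.2 (Subtype.ext (orderOf_eq_one_iff.1 h3))

end til

section dich
variable [Fintype G] {S T W₁ W₂ U V' L : Subgroup G}

theorem V_til (hG : IsMinSimpleOddOrder G) (hC : Con1011 G) (hW : IsSelfNormalizingCyclic W₁ W₂) (hL : IsCoatom L) (hI : TyI L)
    (h1 : (Nat.card W₁).Coprime (Nat.card (fittingHallOf L))) (h2 : (Nat.card W₂).Coprime (Nat.card (fittingHallOf L))) :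
    ∀ g, Til (tA L) (supportR L) g → g ∉ V W₁ W₂ := by
  intro g hg hV
  apply til_order hG hC hL hI (n := Nat.card ↥(W₁ ⊔ W₂)) (by rw [card_W hW]; exact Nat.Coprime.mul_left h1 h2) hg
  have := orderOf_dvd_natCard (⟨g, (mem_V.1 hV).1⟩ : ↥(W₁ ⊔ W₂))
  rwa [← Subgroup.orderOf_coe] at this

/-- the dichotomy for `S` -/
theorem dich_S (hG : IsMinSimpleOddOrder G) (hC : Con1011 G) (hS : Sd S W₁ U W₂) (hL : IsCoatom L) (hI : TyI L)
    (h1 : (Nat.card W₁).Coprime (Nat.card (fittingHallOf L))) (h2 : (Nat.card W₂).Coprime (Nat.card (fittingHallOf L)))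
    {η : (↥(W₁ ⊔ W₂) →* ℂˣ) → (G → ℂ)} (hη : IsCyclicTIFamily W₁ W₂ η) {h e : ℕ} {T : Finset (G → ℂ)} {d : (G → ℂ) → ℕ}
    {ψ X : G → ℂ} (D : LD (Til (tA L) (supportR L)) h e T d ψ X) (hh : 1 ≤ h) :
    ((h : ℝ) - 1 ≤ e * (((Nat.card U : ℝ) - 1) / Nat.card W₁)) ∨
      ∀ ω, ω ≠ 1 → X2 W₁ W₂ ω → ∃ k : ℤ, Odd k ∧ classInner X (η ω) = k := by
  by_cases hc : ((h : ℝ) - 1 ≤ e * (((Nat.card U : ℝ) - 1) / Nat.card W₁))
  · exact Or.inl hc
  · right
    intro ω hω1 hω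
    obtain ⟨B, hB⟩ := hS.SD hη hω hω1
    rcases LD_SD hS.side.data.selfNormalizing hG.1 hη D (V_til hG hC hS.side.data.selfNormalizing hL hI h1 h2) hB (by
      intro g hg hg'
      refine til_order hG hC hL hI ?_ hg hg'
      rw [hS.side.card]
      exact Nat.Coprime.mul_left (Nat.Coprime.pow_left _ h2) h1) hh with h3 | h3
    · exact absurd h3 hc
    · exact h3

/-- the dichotomy for `T` -/
theorem dich_T (hG : IsMinSimpleOddOrder G) (hC : Con1011 G) (hT : Sd T W₂ V' W₁) (hL : IsCoatom L) (hI : TyI L)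
    (h1 : (Nat.card W₁).Coprime (Nat.card (fittingHallOf L))) (h2 : (Nat.card W₂).Coprime (Nat.card (fittingHallOf L)))
    {η : (↥(W₁ ⊔ W₂) →* ℂˣ) → (G → ℂ)} (hη : IsCyclicTIFamily W₁ W₂ η) {h e : ℕ} {TT : Finset (G → ℂ)} {d : (G → ℂ) → ℕ}
    {ψ X : G → ℂ} (D : LD (Til (tA L) (supportR L)) h e TT d ψ X) (hh : 1 ≤ h) :
    ((h : ℝ) - 1 ≤ e * (((Nat.card V' : ℝ) - 1) / Nat.card W₂)) ∨
      ∀ ω, ω ≠ 1 → X1 W₁ W₂ ω → ∃ k : ℤ, Odd k ∧ classInner X (η ω) = k := by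
  rcases dich_S hG hC hT hL hI h2 h1 (fam_swap hη) D hh with h3 | h3
  · exact Or.inl h3
  · right
    intro ω hω1 hω
    have e1 := h3 (sw W₂ W₁ ω) (fun h => hω1 (sw_inj (by rw [h, sw_one]))) (sw_X2.2 hω)
    have e2 : sw W₁ W₂ (sw W₂ W₁ ω) = ω := sw_sw ω
    rw [e2] at e1
    exact e1

end dich

end Cfsg.Agent.H4.PF14
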