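import Mathlib
import Cfsg.Agent.H4_PF14j

/-! Peterfalvi (14.5)-(14.7) -/

set_option autoImplicit false
set_option linter.all false

namespace Cfsg.Agent.H4.PF14

open Cfsg Cfsg.Agent.H10.PrD2 Cfsg.Agent.H10.PrD4 Cfsg.Agent.H10.CycTI2 Cfsg.Agent.H12.P13S Cfsg.Agent.H10.PM Cfsg.Agent.H10.CycTI4
  Cfsg.Agent.H10.CycTI Cfsg.Agent.H3.CharBasic Cfsg.Agent.H3.CharIrr Cfsg.Agent.H3.CharInd Cfsg.Agent.H3.CharComplete
  Cfsg.Agent.H12.Ty Cfsg.Agent.H1.PF12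

universe u

section axis
variable {G : Type*} [Group G] [Fintype G] {W₁ W₂ : Subgroup G} (hW : IsSelfNormalizingCyclic W₁ W₂) (hodd : Odd (Nat.card G))
  {η : (↥(W₁ ⊔ W₂) →* ℂˣ) → (G → ℂ)} (hη : IsCyclicTIFamily W₁ W₂ η)
include hW hodd hη

theorem LD.axis {Ti : G → Prop} {h e : ℕ} {T : Finset (G → ℂ)} {d : (G → ℂ) → ℕ} {ψ X : G → ℂ} (D : LD Ti h e T d ψ X)
    (hV : ∀ g, Ti g → g ∉ V W₁ W₂) (he0 : 0 < e) (hh : 2 * e + 1 ≤ h)
    (h2 : ∀ ω, ω ≠ 1 → X2 W₁ W₂ ω → ∃ k : ℤ, Odd k ∧ classInner X (η ω) = k) : Nat.card W₂ ≤ e := by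
  classical
  haveI := Fintype.ofFinite (↥(W₁ ⊔ W₂) →* ℂˣ)
  have hTη := eta_T hodd hη D hW hV
  have h2' : ∀ ω, X2 W₁ W₂ ω → ∃ k : ℤ, Odd k ∧ classInner X (η ω) = k := by
    intro ω hω
    by_cases h : ω = 1
    · exact ⟨1, odd_one, by rw [h, hη.map_one, D.oneX]; simp⟩
    · exact h2 ω h hω
  have hinj : Function.Injective η := fun a b hab => Cfsg.Agent.H10.PrD3.eta_inj hη hab
  have b := bes2 (s₁ := (Finset.univ.filter (fun ω : ↥(W₁ ⊔ W₂) →* ℂˣ => X2 W₁ W₂ ω)).image η) (s₂ := T) (by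
      intro t ht
      obtain ⟨ω, -, rfl⟩ := Finset.mem_image.1 ht
      exact eta_pm hW hodd hη ω) D.pm (by
      intro a ha b hb hab
      obtain ⟨ω, -, rfl⟩ := Finset.mem_image.1 ha
      obtain ⟨ω', -, rfl⟩ := Finset.mem_image.1 hb
      exact Cfsg.Agent.H10.PrD3.eta_ne hη (fun h => hab (by rw [h]))) D.orth (by
      intro a ha b hb
      obtain ⟨ω, -, rfl⟩ := Finset.mem_image.1 ha
      rw [Pm.comm (eta_pm hW hodd hη ω) (D.pm b hb)]
      exact hTη b hb ω) D.gen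
  rw [Finset.sum_image (fun a _ b _ hab => hinj hab), D.normX] at b
  have c2 := D.self_ge hh he0
  have c3 : ((Finset.univ.filter (fun ω : ↥(W₁ ⊔ W₂) →* ℂˣ => X2 W₁ W₂ ω)).card : ℝ) ≤
      ∑ ω ∈ Finset.univ.filter (fun ω : ↥(W₁ ⊔ W₂) →* ℂˣ => X2 W₁ W₂ ω), (classInner X (η ω)).re ^ 2 := by
    have h3 : ∀ ω ∈ Finset.univ.filter (fun ω : ↥(W₁ ⊔ W₂) →* ℂˣ => X2 W₁ W₂ ω), (1 : ℝ) ≤ (classInner X (η ω)).re ^ 2 := by
      intro ω hω
      apply int_sq_re D.gen (Cfsg.Agent.H10.PrD3.eta_gen hη ω)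
      obtain ⟨k, hk, hk'⟩ := h2' ω (Finset.mem_filter.1 hω).2
      rw [hk']
      intro h0
      have h4 : k = 0 := by exact_mod_cast h0
      rw [h4] at hk
      exact absurd hk (by decide)
    have := Finset.sum_le_sum h3
    simpa using this
  have c4 : (Finset.univ.filter (fun ω : ↥(W₁ ⊔ W₂) →* ℂˣ => X2 W₁ W₂ ω)).card = Nat.card W₂ := by
    rw [← card_X2 hW, Nat.card_eq_fintype_card, Fintype.card_subtype]
  rw [c4] at c3
  have c5 : ((e : ℂ) + 1).re = (e : ℝ) + 1 := by simp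
  rw [c5] at b
  have c6 : (Nat.card W₂ : ℝ) ≤ e := by linarith
  exact_mod_cast c6

end axis

section s145
variable {G : Type u} [Group G] [Fintype G] {S T W₁ W₂ U V' L : Subgroup G}

/-- (14.5): `L` is not `H W₁` -/
theorem not_W1 (hG : IsMinSimpleOddOrder G) (hC : Con1011 G) (hS : Sd S W₁ U W₂) (hT : Sd T W₂ V' W₁)
    (hqp : Nat.card W₁ < Nat.card W₂) (hUH : U ≤ fittingHallOf L) (f : FL L W₁) (hu : 2 * Nat.card W₁ + 1 ≤ Nat.card U) : False := by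
  have h1 := cop_fh hG hT f.max f.tyI
  have h2 := cop_fh hG hS f.max f.tyI
  have hW := hS.side.data.selfNormalizing
  have hoW : Odd (Nat.card ↥(W₁ ⊔ W₂)) := Odd.of_dvd_nat hG.1 (Subgroup.card_subgroup_dvd_card _)
  obtain ⟨η, hη⟩ := Cfsg.Agent.H10.CycEx4.exists_family hW hoW
  obtain ⟨TT, d, ψ, X, D⟩ := exists_LDI hG hC f.max f.tyI
  have hLD := D.ld
  rw [f.index] at hLD
  have hle : Nat.card U ≤ Nat.card (fittingHallOf L) := Nat.card_le_card_of_injective _ (Subgroup.inclusion_injective hUH)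
  have hq : 0 < Nat.card W₁ := Nat.card_pos
  rcases dich_S hG hC hS f.max f.tyI h1 h2 hη hLD Nat.card_pos with h3 | h3
  · have h4 : (Nat.card W₁ : ℝ) * (((Nat.card U : ℝ) - 1) / Nat.card W₁) = (Nat.card U : ℝ) - 1 := by
      field_simp
    rw [h4] at h3
    have h5 : Nat.card (fittingHallOf L) ≤ Nat.card U := by
      have : (Nat.card (fittingHallOf L) : ℝ) ≤ Nat.card U := by linarith
      exact_mod_cast this
    have h6 : U = fittingHallOf L := Subgroup.eq_of_le_of_card_ge hUH h5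
    have h7 : L ≤ S := by
      rw [← f.sup, ← h6]
      exact sup_le (Cfsg.Agent.H12.TypeP.U_le_M hS.side.data) hS.side.pd.W₁_le
    have h8 : L = S := by
      rcases f.max.le_iff.1 h7 with h9 | h9
      · exact absurd h9 hS.side.max.1
      · exact h9.symm
    exact H1.PG8.not_TyI_of_P hG hS.side.max hS.side.data (h8 ▸ f.tyI)
  · have h4 := LD.axis hW hG.1 hη hLD (V_til hG hC hW f.max f.tyI h1 h2) hq (by omega) h3
    omega

end s145

end Cfsg.Agent.H4.PF14
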