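import Mathlib
import Cfsg.Agent.H4_PF14k
import Cfsg.Agent.S1403
import Cfsg.Agent.H1_Nilp
import Cfsg.Agent.H12_BG10i

/-! Peterfalvi (14.6): the Galois case -/

set_option autoImplicit false
set_option linter.all false

namespace Cfsg.Agent.H4.PF14

open Cfsg Cfsg.Agent.H12.P13S Cfsg.Agent.H12.Ty

universe u
variable {G : Type u} [Group G] [Finite G] {S W₁ U W₂ L E : Subgroup G}

/-- the elements of order dividing `r` of the centre of `H` -/
def ZO (H : Subgroup G) (r : ℕ) : Subgroup G where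
  carrier := {z | z ∈ H ∧ (∀ h ∈ H, z * h = h * z) ∧ z ^ r = 1}
  one_mem' := ⟨H.one_mem, fun h _ => by simp, one_pow _⟩
  mul_mem' := by
    rintro a b ⟨ha, ha1, ha2⟩ ⟨hb, hb1, hb2⟩
    refine ⟨H.mul_mem ha hb, fun h hh => ?_, ?_⟩
    · rw [mul_assoc, hb1 h hh, ← mul_assoc, ha1 h hh, mul_assoc]
    · rw [(show Commute a b from ha1 b hb).mul_pow, ha2, hb2, one_mul]
  inv_mem' := by
    rintro a ⟨ha, ha1, ha2⟩
    refine ⟨H.inv_mem ha, fun h hh => ?_, by rw [inv_pow, ha2, inv_one]⟩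
    have := ha1 h hh
    exact (show Commute a h from this).inv_left

theorem mem_ZO {H : Subgroup G} {r : ℕ} {z : G} : z ∈ ZO H r ↔ z ∈ H ∧ (∀ h ∈ H, z * h = h * z) ∧ z ^ r = 1 := Iff.rfl

theorem ZO_norm {H : Subgroup G} {r : ℕ} : Subgroup.normalizer (H : Set G) ≤ Subgroup.normalizer (ZO H r : Set G) := by
  have key : ∀ g ∈ Subgroup.normalizer (H : Set G), ∀ z ∈ ZO H r, g * z * g⁻¹ ∈ ZO H r := by
    rintro g hg z ⟨h1, h2, h3⟩
    refine ⟨(Subgroup.mem_normalizer_iff.1 hg z).1 h1, fun h hh => ?_, ?_⟩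
    · have h4 : g⁻¹ * h * g ∈ H := by
        have := (Subgroup.mem_normalizer_iff.1 (inv_mem hg) h).1 hh
        rwa [inv_inv] at this
      have h5 := h2 _ h4
      calc g * z * g⁻¹ * h = g * (z * (g⁻¹ * h * g)) * g⁻¹ := by group
        _ = g * ((g⁻¹ * h * g) * z) * g⁻¹ := by rw [h5]
        _ = h * (g * z * g⁻¹) := by group
    · rw [conj_pow, h3]; group
  intro g hg
  rw [Subgroup.mem_normalizer_iff]
  intro z
  refine ⟨key g hg z, fun hz => ?_⟩
  have := key g⁻¹ (inv_mem hg) _ hz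
  have e : g⁻¹ * (g * z * g⁻¹) * g⁻¹⁻¹ = z := by group
  rwa [e] at this

theorem ZO_ne {H : Subgroup G} (hn : Group.IsNilpotent H) {r : ℕ} (hr : r.Prime) (hd : r ∣ Nat.card H) : ∃ z ∈ ZO H r, z ≠ 1 := by
  haveI := Fact.mk hr
  haveI := hn
  obtain ⟨R⟩ : Nonempty (Sylow r H) := inferInstance
  haveI : (R : Subgroup H).Normal := by
    have := (isNilpotent_of_finite_tfae (G := H)).out 0 3
    exact (this.1 hn) r inferInstance R
  have hRb : (R : Subgroup H) ≠ ⊥ := R.ne_bot_of_dvd_card hd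
  have h1 := H1.Nilp.normal_inf_center_ne_bot (R : Subgroup H) hRb
  obtain ⟨⟨z, hz⟩, hz1⟩ := Subgroup.ne_bot_iff_exists_ne_one.1 h1
  obtain ⟨hzR, hzc⟩ := Subgroup.mem_inf.1 hz
  have hz1' : z ≠ 1 := fun h => hz1 (Subtype.ext h)
  obtain ⟨k, hk⟩ := (IsPGroup.iff_orderOf.1 R.isPGroup') ⟨z, hzR⟩
  have hk' : orderOf z = r ^ k := by rw [← hk]; exact (Subgroup.orderOf_coe (⟨z, hzR⟩ : (R : Subgroup H)))
  have hk0 : k ≠ 0 := by
    rintro rfl
    rw [pow_zero, orderOf_eq_one_iff] at hk'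
    exact hz1' hk'
  obtain ⟨m, rfl⟩ := Nat.exists_eq_succ_of_ne_zero hk0
  have ho : orderOf (z ^ r ^ m) = r := by
    rw [orderOf_pow_of_dvd (pow_ne_zero _ hr.ne_zero) (by rw [hk']; exact pow_dvd_pow _ (Nat.le_succ m)), hk', pow_succ, Nat.mul_div_cancel_left _ (pow_pos hr.pos m)]
  refine ⟨((z ^ r ^ m : H) : G), ⟨(z ^ r ^ m : H).2, fun h hh => ?_, ?_⟩, ?_⟩
  · have h2 : z ^ r ^ m ∈ Subgroup.center H := Subgroup.pow_mem _ hzc _
    have h3 := Subgroup.mem_center_iff.1 h2 ⟨h, hh⟩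
    exact (congrArg Subtype.val h3).symm
  · have : (z ^ r ^ m) ^ r = 1 := by rw [← ho, ho, ← ho]; rw [ho]; nth_rw 2 [← ho]; exact pow_orderOf_eq_one _
    exact congrArg Subtype.val this
  · intro h
    have h2 : z ^ r ^ m = 1 := Subtype.ext h
    rw [h2, orderOf_one] at ho
    exact hr.one_lt.ne ho

/-- (14.6): the non-Galois case does not occur -/
theorem nongal_false (hG : IsMinSimpleOddOrder G) (hS : Sd S W₁ U W₂) (f : FL L E) (hpE : Nat.card W₂ ∣ Nat.card E)
    (hUH : U ≤ fittingHallOf L) (hUb : U ≠ ⊥) {a : ℕ} (ha : 2 * a + 1 = Nat.card W₂) (hcard : Nat.card U = a ^ 2)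
    (hexp : ∀ u ∈ U, u ^ a = 1) : False := by
  have hHn : Group.IsNilpotent (fittingHallOf L) := H12.Core.fittingHallOf_isNilpotent L
  have ha1 : a ≠ 1 := by
    rintro rfl
    rw [one_pow] at hcard
    exact hUb (Subgroup.card_eq_one.1 hcard)
  have hr1 : ¬ RankLE 1 U := by
    intro h
    have hc := H12.BG10.isCyclic_of_rankLE_one hG hS.side.data.U_nilpotent h
    obtain ⟨g, hg⟩ := hc.exists_generator
    have h1 : orderOf g = Nat.card U := orderOf_eq_card_of_forall_mem_zpowers hg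
    have h2 : g ^ a = 1 := Subtype.ext (hexp g g.2)
    have h3 := orderOf_dvd_of_pow_eq_one h2
    rw [h1, hcard] at h3
    have ha0 : 0 < a := by
      rcases Nat.eq_zero_or_pos a with h0 | h0
      · rw [h0] at ha
        have := hS.side.prp.one_lt
        omega
      · exact h0
    have h4 := Nat.le_of_dvd ha0 h3
    nlinarith [Nat.lt_of_le_of_ne ha0 (Ne.symm ha1)]
  obtain ⟨r, hr, hra⟩ := Nat.exists_prime_and_dvd ha1
  haveI := Fact.mk hr
  have ha0 : 0 < a := by
    rcases Nat.eq_zero_or_pos a with h0 | h0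
    · rw [h0] at ha
      have := hS.side.prp.one_lt
      omega
    · exact h0
  have hrH : r ∣ Nat.card (fittingHallOf L) := by
    refine (hra.trans ?_).trans (Subgroup.card_dvd_of_le hUH)
    rw [hcard]; exact dvd_pow_self _ (by norm_num)
  obtain ⟨z, hz, hz1⟩ := ZO_ne hHn hr hrH
  set A := ZO (fittingHallOf L) r with hA
  have hAH : A ≤ fittingHallOf L := fun x hx => (mem_ZO.1 hx).1
  have hdv : Nat.card E ∣ Nat.card A - 1 := by
    apply H12.SL2.card_dvd_free (V := A) (K := E) ((f.E_le.trans f.norm).trans ZO_norm)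
    intro k hk hk1
    rw [eq_bot_iff]
    rintro x ⟨hx, hc⟩
    rw [Subgroup.mem_bot]
    exact f.free k hk hk1 x (hAH hx) (Subgroup.mem_centralizer_iff.1 hc k rfl)
  have hAp : IsPGroup r A := by
    intro x
    refine ⟨1, ?_⟩
    rw [pow_one]
    exact Subtype.ext (mem_ZO.1 x.2).2.2
  obtain ⟨m, hm⟩ := IsPGroup.iff_card.1 hAp
  have hA1 : 1 < Nat.card A := by
    rw [Subgroup.one_lt_card_iff_ne_bot]
    intro h
    have : z ∈ A := hz
    rw [h] at this
    exact hz1 (Subgroup.mem_bot.1 this)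
  have hp := hS.side.prp
  have hpd := hpE.trans hdv
  rw [hm] at hpd hA1
  have hra' : r ≤ a := Nat.le_of_dvd ha0 hra
  have hr2 := hr.two_le
  have hm3 : 3 ≤ m := by
    by_contra hlt
    have hm2 : m = 0 ∨ m = 1 ∨ m = 2 := by omega
    rcases hm2 with rfl | rfl | rfl
    · simp at hA1
    · rw [pow_one] at hpd
      have := Nat.le_of_dvd (by omega) hpd
      omega
    · have h1 : r ^ 2 - 1 = (r + 1) * (r - 1) := by
        have := Nat.sq_sub_sq r 1
        simpa using this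
      rw [h1] at hpd
      rcases (Nat.Prime.dvd_mul hp).1 hpd with h2 | h2
      · have := Nat.le_of_dvd (by omega) h2
        omega
      · have := Nat.le_of_dvd (by omega) h2
        omega
  have hr3 : ¬ RankLE 2 (Subgroup.centralizer (U : Set G)) := by
    intro h
    have hAc : A ≤ Subgroup.centralizer (U : Set G) := by
      intro x hx
      rw [Subgroup.mem_centralizer_iff]
      intro u hu
      exact ((mem_ZO.1 hx).2.1 u (hUH hu)).symm
    have h1 := h r hr (A.subgroupOf (Subgroup.centralizer (U : Set G))) (by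
      refine ⟨⟨fun x y => ?_⟩⟩
      apply Subtype.ext
      apply Subtype.ext
      have hx := Subgroup.mem_subgroupOf.1 x.2
      have hy := Subgroup.mem_subgroupOf.1 y.2
      exact (mem_ZO.1 hx).2.1 _ (hAH hy)) (by
      intro x hx
      apply Subtype.ext
      exact (mem_ZO.1 (Subgroup.mem_subgroupOf.1 hx)).2.2)
    rw [Nat.card_congr (Subgroup.subgroupOfEquivOfLe hAc).toEquiv, hm] at h1
    have h2 := Nat.pow_lt_pow_right hr.one_lt (show 2 < m by omega)
    omega
  have hUS := Cfsg.Agent.H12.TypeP.U_le_M hS.side.data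
  have hUt : U ≠ ⊤ := by
    intro h
    rw [h] at hUS
    exact hS.side.max.1 (top_le_iff.1 hUS)
  obtain ⟨M, -, hM⟩ := Cfsg.Agent.S1403.result hG U hUt hr1 (Or.inr hr3)
  have h1 := hM S ⟨hS.side.max, hUS⟩
  have h2 := hM L ⟨f.max, hUH.trans f.H_le⟩
  have h3 : L = S := h2.trans h1.symm
  exact H1.PG8.not_TyI_of_P hG hS.side.max hS.side.data (h3 ▸ f.tyI)

end Cfsg.Agent.H4.PF14
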