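import Mathlib
import Cfsg.Agent.H4_PF14f
import Cfsg.Agent.H4_PF14l
import Cfsg.Agent.H27_AppC8
import Cfsg.Agent.HL_P9j

/-! Peterfalvi (14.7): appendix C -/

set_option autoImplicit false
set_option linter.all false

namespace Cfsg.Agent.H4.PF14

open Cfsg Cfsg.Agent.H12.P13S Cfsg.Agent.H12.Ty Cfsg.Agent.HL.P9 Cfsg.Agent.H1.PF12

universe u

section alt
variable {G : Type u} [Group G] {S T W₁ W₂ U V' L : Subgroup G}

/-- the Galois case -/
structure Gal (S W₁ U W₂ : Subgroup G) : Prop where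
  gd : ∃ (F : Type) (_ : Field F) (_ : Fintype F) (f ψ : G → F), GalData (Nat.card W₂) (Nat.card W₁) (fittingHallOf S) U W₂ F f ψ ∧ Set.InjOn ψ (U : Set G)
  cyc : IsCyclic U
  free : ∀ u ∈ U, u ≠ 1 → ∀ x ∈ fittingHallOf S, u * x = x * u → x = 1
  uc : UC (Nat.card W₂) (Nat.card W₁) (Nat.card U)

variable [Finite G]

theorem card_EY (hS : Sd S W₁ U W₂) (hT : Sd T W₂ V' W₁) {y : G} (hy : y ∈ fittingHallOf T) :
    Nat.card ↥(W₁ ⊔ W₂.map (MulAut.conj y).toMonoidHom) = Nat.card W₂ * Nat.card W₁ := by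
  have h1 : W₁.map (MulAut.conj y).toMonoidHom = W₁ := by
    ext x
    have hc : ∀ x ∈ W₁, y * x * y⁻¹ = x := by
      intro x hx
      have hx' : x ∈ fittingHallOf T := (hT.side.data.W₂_le hx).1
      rw [hT.ab hy hx', mul_inv_cancel_right]
    constructor
    · rintro ⟨z, hz, rfl⟩
      show y * z * y⁻¹ ∈ W₁
      rw [hc z hz]; exact hz
    · intro hx
      exact ⟨x, hx, hc x hx⟩
  have h2 : W₁ ⊔ W₂.map (MulAut.conj y).toMonoidHom = (W₁ ⊔ W₂).map (MulAut.conj y).toMonoidHom := by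
    rw [Subgroup.map_sup, h1]
  rw [h2, Subgroup.card_map_of_injective (MulAut.conj y).injective, card_W hS.side.data.selfNormalizing, mul_comm]

/-- (14.7): `U` is not normal in `L` -/
theorem not_norm (hS : Sd S W₁ U W₂) (hT : Sd T W₂ V' W₁) (hqp : Nat.card W₁ < Nat.card W₂) (hq2 : Nat.card W₁ ≠ 2)
    (g : Gal S W₁ U W₂) {y : G} (hy : y ∈ fittingHallOf T) (f : FL L (W₁ ⊔ W₂.map (MulAut.conj y).toMonoidHom))
    (hUH : U ≤ fittingHallOf L) (hn : L ≤ Subgroup.normalizer (U : Set G)) : False := by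
  set p := Nat.card W₂ with hpdef
  set q := Nat.card W₁ with hqdef
  have hp : p.Prime := hS.side.prp
  have hq : q.Prime := hS.side.prq
  have hEn := f.E_le.trans hn
  have hW2 : W₂.map (MulAut.conj y).toMonoidHom ≤ Subgroup.normalizer (U : Set G) := le_sup_right.trans hEn
  have hdv : Nat.card (W₂.map (MulAut.conj y).toMonoidHom) ∣ Nat.card U - 1 := by
    apply H12.SL2.card_dvd_free hW2
    intro k hk hk1
    rw [eq_bot_iff]
    rintro x ⟨hx, hc⟩
    rw [Subgroup.mem_bot]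
    exact f.free k ((le_sup_right : W₂.map (MulAut.conj y).toMonoidHom ≤ W₁ ⊔ W₂.map (MulAut.conj y).toMonoidHom) hk) hk1 x (hUH hx)
      (Subgroup.mem_centralizer_iff.1 hc k rfl)
  rw [Subgroup.card_map_of_injective (MulAut.conj y).injective, ← hpdef] at hdv
  have hU0 : 0 < Nat.card U := Nat.card_pos
  have hpq : p % q ≠ 1 := by
    intro h
    have h1 : Nat.card U * q * (p - 1) = p ^ q - 1 := g.uc.c2 h
    obtain ⟨k, hk⟩ := hdv
    have h2 : Nat.card U = p * k + 1 := by omega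
    have h3 : Nat.card U * q * (p - 1) + 1 = p ^ q := by
      rw [h1]
      have := Nat.one_le_pow q p hp.pos
      omega
    haveI := Fact.mk hp
    have h4 : (((Nat.card U * q * (p - 1) + 1 : ℕ)) : ZMod p) = ((p ^ q : ℕ) : ZMod p) := by rw [h3]
    rw [h2] at h4
    push_cast [Nat.cast_sub hp.one_le] at h4
    rw [CharP.cast_eq_zero, zero_mul, zero_add, one_mul, zero_sub, zero_pow hq.ne_zero] at h4
    have h5 : ((q : ℕ) : ZMod p) = ((1 : ℕ) : ZMod p) := by
      push_cast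
      linear_combination -h4
    rw [ZMod.natCast_eq_natCast_iff, Nat.ModEq, Nat.mod_eq_of_lt hqp, Nat.mod_eq_of_lt hp.one_lt] at h5
    exact hq.one_lt.ne' h5
  have hp2 : p ≠ 2 := by
    have := hq.two_le
    omega
  have hco := ((Cfsg.Agent.S1546.result p q hp hq hp2 hq2).2.2 hpq).1
  obtain ⟨F, iF, iFt, ff, ψ, gd, hinj⟩ := g.gd
  haveI := Fact.mk hp
  haveI := Fact.mk hq
  have hle := Cfsg.Agent.H27.AppC.thmC p q hco F gd.card (fittingHallOf S) U (fittingHallOf T) ff ψ gd.bij gd.add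
    (Cfsg.Agent.H12.TypeP.U_le_normalizer hS.side.data) (fun u hu => ⟨gd.ne u hu, gd.act u hu⟩) gd.mul hinj (g.uc.c1 hpq)
    hT.side.ea.1 (by
      rw [hT.side.card]
      apply Nat.Coprime.pow_left
      exact (Nat.coprime_primes hq hp).2 hqp.ne) (by
      intro x hx hfx
      have hx2 : x ∈ W₂ := (gd.W₂ x hx).2 hfx
      exact (H12.Core.le_normalizer_fittingHallOf T) (hT.side.pd.W₁_le hx2)) y hy (by
      intro x hx hfx
      have hx2 : x ∈ W₂ := (gd.W₂ x hx).2 hfx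
      exact hW2 ⟨x, hx2, rfl⟩)
  omega

end alt

end Cfsg.Agent.H4.PF14
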