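import Mathlib
import Cfsg.Agent.H4_PF14m
import Cfsg.Agent.H4_PF14f2
import Cfsg.Agent.H4_PF14d

/-! Peterfalvi §14: the final contradiction -/

set_option autoImplicit false
set_option linter.all false

namespace Cfsg.Agent.H4.PF14

open Cfsg Cfsg.Agent.H12.P13S Cfsg.Agent.H12.Ty Cfsg.Agent.H1.PF12 Cfsg.Agent.H10.CycTI2 Cfsg.Agent.H10.CycTI
  Cfsg.Agent.H3.CharBasic

universe u

section disj
variable {G : Type u} [Group G] [Fintype G] {S T W₁ W₂ U V' L M : Subgroup G}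

theorem tA_I (hG : IsMinSimpleOddOrder G) (hC : Con1011 G) (hL : IsCoatom L) (hI : TyI L) : tA L = typeA1 L := by
  have hκ := (H2.Ty.tyI_iff hG hL).1 hI
  have ht := tau2_empty hG hC hL hκ
  have hcore : typeCore L = fittingHallOf L := by
    rw [H1.PG8.typeCore_eq hG (H1.PG8.con16 hG) hL, fh_I hG hL hκ]
  ext x
  rw [typeA1, hcore]
  constructor
  · intro hx
    have hxL : x ∈ L := by
      have hx' := hx
      rw [tA, if_pos hI] at hx'
      exact hx'.1
    have h1 := (tA_frob hG hL hκ ht ⟨x, hxL⟩).1 hx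
    exact ⟨mem_fHO.2 h1.1, fun h => h1.2 (Subtype.ext h)⟩
  · rintro ⟨hx, hx1⟩
    have hxL : x ∈ L := Subgroup.map_subtype_le _ hx
    exact (tA_frob hG hL hκ ht ⟨x, hxL⟩).2 ⟨(mem_fHO (x := (⟨x, hxL⟩ : L))).1 hx, fun h => hx1 (congrArg Subtype.val h)⟩

theorem tA_III (hG : IsMinSimpleOddOrder G) (hL : IsCoatom L) (hIII : IsOfTypeIII L) (hn : ¬ TyI L) : tA L = typeA1 L := by
  have hcore : typeCore L = ⁅L, L⁆ := by rw [typeCore, if_pos (Or.inl hIII)]
  ext x
  rw [typeA1, tA, if_neg hn, hcore]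
  constructor
  · rintro ⟨h1, h2, -⟩
    exact ⟨h1, h2⟩
  · rintro ⟨h1, h2⟩
    exact ⟨h1, h2, x, h1, h2, rfl⟩

theorem til_disj (hG : IsMinSimpleOddOrder G) (hL : IsCoatom L) (hM : IsCoatom M) (aL : tA L = typeA1 L) (aM : tA M = typeA1 M)
    (hnc : ∀ g : G, M.map (MulAut.conj g).toMonoidHom ≠ L) :
    ∀ g, Til (tA L) (supportR L) g → Til (tA M) (supportR M) g → False := by
  intro g h1 h2
  have h3 := (H1.PG8.main1539 hG (H1.PG8.con16 hG) L M hL hM hnc).2.2.2
  have key : ∀ {K : Subgroup G}, Til (tA K) (supportR K) g → g ∈ tildeOf K (tA K) := by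
    rintro K ⟨a, ha, u, hu, x, e⟩
    refine ⟨a, ha, u, hu, x⁻¹, ?_⟩
    rw [← e]; group
  have k1 := key h1
  have k2 := key h2
  rcases h3 with h | h
  · rw [← aL] at h
    have : g ∈ tildeOf L (tA L) ∩ tildeOf M (tA M) := ⟨k1, k2⟩
    rw [h] at this
    exact this
  · rw [← aM] at h
    have : g ∈ tildeOf M (tA M) ∩ tildeOf L (tA L) := ⟨k2, k1⟩
    rw [h] at this
    exact this

theorem nc_of_P (hG : IsMinSimpleOddOrder G) (hI : TyI L) (hL : IsCoatom L) (hS : Sd S W₁ U W₂) (g : G) :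
    S.map (MulAut.conj g).toMonoidHom ≠ L := by
  intro h
  have hκ := (H2.Ty.tyI_iff hG hL).1 hI
  obtain ⟨r, hr⟩ := H1.PG8.kappa_ne_of_P hG hS.side.max hS.side.data
  have h2 := (H1.PG8.kappa_cj' hG (g := g)).2 hr
  have h3 : H13.Syl.cj g S = L := h
  rw [h3, hκ] at h2
  exact h2

end disj

section final
variable {G : Type u} [Group G] {S T W₁ W₂ U V' L M : Subgroup G}

/-- the overgroups of `N(U)` -/
def Ov (S T W₁ W₂ U : Subgroup G) : Prop :=
  IsOfTypeII S → ∀ L : Subgroup G, IsCoatom L → Subgroup.normalizer (U : Set G) ≤ L →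
    TyI L ∧ (∀ x ∈ fittingHallOf L, x ≠ 1 → L ⊓ Subgroup.centralizer ({x} : Set G) ≤ fittingHallOf L) ∧ U ≤ fittingHallOf L ∧
      ((fittingHallOf L ⊓ W₁ = ⊥ ∧ fittingHallOf L ⊔ W₁ = L) ∨
        ∃ y ∈ fittingHallOf T, fittingHallOf L ⊓ (W₁ ⊔ W₂.map (MulAut.conj y).toMonoidHom) = ⊥ ∧
          fittingHallOf L ⊔ (W₁ ⊔ W₂.map (MulAut.conj y).toMonoidHom) = L)

theorem exists_over (hG : IsMinSimpleOddOrder G) [Finite G] (hUb : U ≠ ⊥) (hUt : U ≠ ⊤) :
    ∃ L : Subgroup G, IsCoatom L ∧ Subgroup.normalizer (U : Set G) ≤ L := by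
  rcases eq_top_or_exists_le_coatom (Subgroup.normalizer (U : Set G)) with h | ⟨L, hL, hle⟩
  · exfalso
    have hn : U.Normal := Subgroup.normalizer_eq_top_iff.1 h
    haveI : IsSimpleGroup G := hG.2.1
    rcases hn.eq_bot_or_eq_top with h2 | h2
    · exact hUb h2
    · exact hUt h2
  · exact ⟨L, hL, hle⟩

theorem prime_odd [Finite G] (hG : IsMinSimpleOddOrder G) {H : Subgroup G} (hp : (Nat.card H).Prime) : Nat.card H ≠ 2 ∧ 3 ≤ Nat.card H := by
  have h1 : Odd (Nat.card H) := Odd.of_dvd_nat hG.1 (Subgroup.card_subgroup_dvd_card _)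
  have h2 := hp.two_le
  obtain ⟨k, hk⟩ := h1
  omega

theorem two_q {p q u : ℕ} (hp : p.Prime) (hq : q.Prime) (hq2 : 3 ≤ q) (hlt : q < p) (hpo : Odd p) (hqo : Odd q) (hu : UC p q u) : 2 * q + 1 ≤ u := by
  have h0 := (num_u hp hq (by omega) hlt hu).2.1
  by_cases h : p % q = 1
  · have h1 : p = q * (p / q) + 1 := by
      have := Nat.div_add_mod p q
      rw [h] at this
      exact this.symm
    have h2 : 2 ≤ p / q := by
      generalize p / q = m at h1 ⊢
      by_contra hc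
      have h3 : m = 0 ∨ m = 1 := by omega
      rcases h3 with h3 | h3
      · rw [h3, mul_zero] at h1; omega
      · rw [h3, mul_one] at h1
        obtain ⟨a, ha⟩ := hpo
        obtain ⟨b, hb⟩ := hqo
        omega
    have h4 : q * 2 ≤ q * (p / q) := Nat.mul_le_mul_left _ h2
    omega
  · have h1 := hu.c1 h
    have h2 : p ^ 3 ≤ p ^ q := Nat.pow_le_pow_right hp.pos hq2
    by_contra hc
    push Not at hc
    have h3 : u * (p - 1) ≤ (2 * q) * (p - 1) := Nat.mul_le_mul_right _ (by omega)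
    have h4 : (2 * q) * (p - 1) ≤ (2 * p) * p := Nat.mul_le_mul (by omega) (by omega)
    have h5 : p ^ 3 - 1 ≤ p ^ q - 1 := Nat.sub_le_sub_right h2 1
    have h6 : p ^ 3 - 1 ≤ 2 * p * p := by omega
    have h7 : 4 ≤ p := by omega
    have h8 : 4 * (p * p) ≤ p ^ 3 := by
      rw [pow_succ, pow_two]
      nlinarith [Nat.mul_le_mul_left (p * p) h7]
    have h9 : p ^ 3 ≤ 2 * p * p + 1 := by omega
    nlinarith

theorem pow3 : ∀ n : ℕ, 3 ≤ n → 2 * (n + 2) ≤ 3 ^ n := by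
  intro n hn
  induction n, hn using Nat.le_induction with
  | base => norm_num
  | succ n hn ih => rw [pow_succ]; omega

/-- **the final contradiction** (one orientation) -/
theorem final_lt [Fintype G] (hG : IsMinSimpleOddOrder G) (hC : Con1011 G) (hS : Sd S W₁ U W₂) (hT : Sd T W₂ V' W₁)
    (hqp : Nat.card W₁ < Nat.card W₂)
    (aS : Gal S W₁ U W₂ ∨ (Nat.card W₁ = 3 ∧ Nat.card U = ((Nat.card W₂ - 1) / 2) ^ 2 ∧ ∀ u ∈ U, u ^ ((Nat.card W₂ - 1) / 2) = 1))
    (aT : Gal T W₂ V' W₁ ∨ (Nat.card W₂ = 3 ∧ Nat.card V' = ((Nat.card W₁ - 1) / 2) ^ 2 ∧ ∀ u ∈ V', u ^ ((Nat.card W₁ - 1) / 2) = 1))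
    (oS : Ov S T W₁ W₂ U) (oT : Ov T S W₂ W₁ V') (hUb : U ≠ ⊥) (hVb : V' ≠ ⊥) : False := by
  classical
  obtain ⟨p, hpdef⟩ : ∃ p, p = Nat.card W₂ := ⟨_, rfl⟩
  obtain ⟨q, hqdef⟩ : ∃ q, q = Nat.card W₁ := ⟨_, rfl⟩
  obtain ⟨u, hudef⟩ : ∃ u, u = Nat.card U := ⟨_, rfl⟩
  obtain ⟨v, hvdef⟩ : ∃ v, v = Nat.card V' := ⟨_, rfl⟩
  have hp : p.Prime := hpdef ▸ hS.side.prp
  have hq : q.Prime := hqdef ▸ hS.side.prq
  have hq2 : q ≠ 2 := hqdef ▸ (prime_odd hG hS.side.prq).1
  have hq3 : 3 ≤ q := hqdef ▸ (prime_odd hG hS.side.prq).2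
  have hlt : q < p := by rw [hpdef, hqdef]; exact hqp
  have hoddG : ∀ H : Subgroup G, Odd (Nat.card H) := fun H => Odd.of_dvd_nat hG.1 (Subgroup.card_subgroup_dvd_card _)
  have hpo : Odd p := hpdef ▸ hoddG W₂
  have hqo : Odd q := hqdef ▸ hoddG W₁
  have hW := hS.side.data.selfNormalizing
  have hcW : Nat.card ↥(W₁ ⊔ W₂) = p * q := by rw [card_W hW, hpdef, hqdef, mul_comm]
  -- T is Galois
  have gT : Gal T W₂ V' W₁ := by
    rcases aT with h | h
    · exact h
    · rw [← hpdef] at h; omega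
  have hv : UC q p v := by
    have := gT.uc
    rwa [← hpdef, ← hqdef, ← hvdef] at this
  -- the overgroup of N(U)
  have hSII : IsOfTypeII S := hS.side.lt hqp
  have hUt : U ≠ ⊤ := by
    intro h
    have := Cfsg.Agent.H12.TypeP.U_le_M hS.side.data
    rw [h] at this
    exact hS.side.max.1 (top_le_iff.1 this)
  have hVt : V' ≠ ⊤ := by
    intro h
    have := Cfsg.Agent.H12.TypeP.U_le_M hT.side.data
    rw [h] at this
    exact hT.side.max.1 (top_le_iff.1 this)
  obtain ⟨L, hL, hNL⟩ := exists_over hG hUb hUt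
  obtain ⟨hI, hcent, hUH, hcase⟩ := oS hSII L hL hNL
  have hle : u ≤ Nat.card (fittingHallOf L) := by
    rw [hudef]; exact Nat.card_le_card_of_injective _ (Subgroup.inclusion_injective hUH)
  have h2u : 2 * q + 1 ≤ u := by
    rcases aS with g | ⟨h3, hu, -⟩
    · have := g.uc
      rw [← hpdef, ← hqdef, ← hudef] at this
      exact two_q hp hq hq3 hlt hpo hqo this
    · rw [← hqdef] at h3
      rw [← hudef, ← hpdef] at hu
      have hu1 : u ≠ 1 := by
        rw [hudef]; intro h; exact hUb (Subgroup.card_eq_one.1 h)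
      have huo : Odd u := hudef ▸ hoddG U
      obtain ⟨a, ha⟩ : ∃ a, a = (p - 1) / 2 := ⟨_, rfl⟩
      rw [← ha] at hu
      have ha1 : a ≠ 0 := by rintro rfl; omega
      have ha2 : a ≠ 1 := by
        intro h
        rw [h] at hu
        exact hu1 (by rw [hu]; norm_num)
      have ha3 : a ≠ 2 := by
        intro h
        rw [h] at hu
        rw [hu] at huo
        exact absurd huo (by decide)
      have ha4 : 3 ≤ a := by omega
      rw [h3, hu]
      nlinarith
  rcases hcase with ⟨hinf, hsup⟩ | ⟨y, hy, hinf, hsup⟩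
  · -- (14.5)
    exact not_W1 hG hC hS hT hqp hUH ⟨hL, hI, hinf, hsup, hcent⟩ (by rw [← hqdef, ← hudef]; exact h2u)
  have f : FL L (W₁ ⊔ W₂.map (MulAut.conj y).toMonoidHom) := ⟨hL, hI, hinf, hsup, hcent⟩
  have hcE : Nat.card ↥(W₁ ⊔ W₂.map (MulAut.conj y).toMonoidHom) = p * q := by
    rw [card_EY hS hT hy, hpdef, hqdef]
  -- (14.6)
  have gS : Gal S W₁ U W₂ := by
    rcases aS with g | ⟨h3, hu, hexp⟩
    · exact g
    · exfalso
      refine nongal_false hG hS f (by rw [hcE, ← hpdef]; exact dvd_mul_right _ _) hUH hUb (a := (p - 1) / 2) ?_ ?_ ?_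
      · rw [← hpdef]
        obtain ⟨k, hk⟩ := hpo
        omega
      · rw [hu, ← hpdef]
      · rw [← hpdef] at hexp; exact hexp
  have hu : UC p q u := by
    have := gS.uc
    rwa [← hpdef, ← hqdef, ← hudef] at this
  -- (14.7)
  have hnn : ¬ L ≤ Subgroup.normalizer (U : Set G) := fun h => not_norm hS hT hqp (by rw [← hqdef]; exact hq2) gS hy f hUH h
  obtain ⟨h, hhdef⟩ : ∃ h, h = Nat.card (fittingHallOf L) := ⟨_, rfl⟩
  have hne : h ≠ u := by
    intro e
    apply hnn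
    have h1 : U = fittingHallOf L := Subgroup.eq_of_le_of_card_ge hUH (by rw [← hhdef, ← hudef, e])
    rw [h1]; exact f.norm
  have hho : Odd h := hhdef ▸ hoddG _
  have hhm : h % (p * q) = 1 := by
    rw [hhdef, ← hcE]
    apply f.mod
    rw [hcE]
    nlinarith [hp.two_le, hq.two_le]
  have hhd : u ∣ h := by rw [hhdef, hudef]; exact Subgroup.card_dvd_of_le hUH
  have hh := num_h hp hq hq2 hlt hu hho hhm hhd hne
  obtain ⟨hu1, hu2, hu3, hu4⟩ := num_u hp hq hq2 hlt hu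
  obtain ⟨hv1, hv2, hv3, hv4⟩ := num_v hp hq hq2 hlt hv
  have hhbig : 3 * (p * q) + 1 ≤ h := by nlinarith [Nat.mul_le_mul_right ((q + 1) * p + q) hu3]
  -- characters
  have c1 : (Nat.card W₁).Coprime (Nat.card (fittingHallOf L)) := cop_fh hG hT hL hI
  have c2 : (Nat.card W₂).Coprime (Nat.card (fittingHallOf L)) := cop_fh hG hS hL hI
  have hoW : Odd (Nat.card ↥(W₁ ⊔ W₂)) := hoddG _
  obtain ⟨η, hη⟩ := Cfsg.Agent.H10.CycEx4.exists_family hW hoW
  obtain ⟨TT, d, ψ, X, D⟩ := exists_LDI hG hC hL hI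
  have hidx : (fittingHall L).index = p * q := by rw [f.index, hcE]
  rw [hidx, ← hhdef] at D
  have hVt' := V_til hG hC hW hL hI c1 c2
  have hh1 : 1 ≤ h := by omega
  have hpq0 : 0 < p * q := Nat.mul_pos hp.pos hq.pos
  rcases dich_S hG hC hS hL hI c1 c2 hη D.ld hh1 with k1 | k1
  · rw [← hudef, ← hqdef] at k1
    exact num_i hp hq hq2 hlt hu hh k1
  rcases dich_T hG hC hT hL hI c1 c2 hη D.ld hh1 with k2 | k2
  swap
  · -- case (ii)
    haveI := Fintype.ofFinite (↥(W₁ ⊔ W₂) →* ℂˣ)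
    obtain ⟨e1, e2, e3, e4⟩ := LD.full hW hG.1 hη D.ld hVt' (by rw [hcW]) hpq0 hhbig k2 k1
    have e5 := card_bad hS hT gS.free gT.free hqp.ne
    have e6 := count_ii hW hG.1 hη D.ld e3 e4 (by convert D.norm e2) (by convert D.card) hh1 hpq0 (by convert e5)
    rw [← hpdef, ← hqdef, ← hudef, ← hvdef] at e6
    exact num_ii hp hq hq2 hlt hu hv hh e6
  -- case (iii)
  rw [← hvdef, ← hpdef] at k2
  have h2v : 2 * (p * q) + 1 ≤ v := by
    have hp5 : 5 ≤ p := by
      obtain ⟨a, ha⟩ := hpo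
      obtain ⟨b, hb⟩ := hqo
      omega
    obtain ⟨n, hn⟩ : ∃ n, p = n + 2 := ⟨p - 2, by omega⟩
    have h3 : q ^ (p - 1) = q * q ^ n := by
      rw [hn, show n + 2 - 1 = n + 1 from rfl, pow_succ, mul_comm]
    have h4 : 3 ^ n ≤ q ^ n := Nat.pow_le_pow_left hq3 n
    have h5 := pow3 n (by omega)
    have h6 : q * (2 * (n + 2)) ≤ q * q ^ n := Nat.mul_le_mul_left _ (h5.trans h4)
    rw [← h3, ← hn] at h6
    have h7 : q * (2 * p) = 2 * (p * q) := by ring
    omega
  rcases hT.side.ty with hTII | hTIII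
  · obtain ⟨M, hM, hNM⟩ := exists_over hG hVb hVt
    obtain ⟨hIM, hcentM, hVK, hcaseM⟩ := oT hTII M hM hNM
    by_cases hconj : ∃ g : G, M.map (MulAut.conj g).toMonoidHom = L
    · obtain ⟨g, hg⟩ := hconj
      have hVL : V'.map (MulAut.conj g).toMonoidHom ≤ fittingHallOf L := by
        have hκ := (H2.Ty.tyI_iff hG hL).1 hI
        have hκM := (H2.Ty.tyI_iff hG hM).1 hIM
        have e1 := H12.BG10.sigmaCore_cj M g
        have e2 : H13.Syl.cj g M = L := hg
        rw [e2, ← fh_I hG hL hκ, ← fh_I hG hM hκM] at e1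
        rw [← e1]
        exact Subgroup.map_mono hVK
      have hcV : Nat.card (V'.map (MulAut.conj g).toMonoidHom) = Nat.card V' := Subgroup.card_map_of_injective (MulAut.conj g).injective
      have hvh : v ∣ h := by
        rw [hvdef, hhdef, ← hcV]
        exact Subgroup.card_dvd_of_le hVL
      have hhv := num_iiia hp hq hq2 hlt hv hhm hho hvh k2
      have hVL2 : V'.map (MulAut.conj g).toMonoidHom = fittingHallOf L := by
        apply Subgroup.eq_of_le_of_card_ge hVL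
        rw [← hhdef, hhv, hvdef]
        exact hcV.ge
      have hcyc : IsCyclic (fittingHallOf L) := by
        rw [← hVL2]
        haveI := gT.cyc
        exact isCyclic_of_surjective (V'.equivMapOfInjective _ (MulAut.conj g).injective) (MulEquiv.surjective _)
      exact hnn (H12.BG10.normal_of_cyclic hcyc hUH f.norm)
    · push Not at hconj
      have hfM : ∃ E' : Subgroup G, FL M E' ∧ Nat.card E' ≤ p * q ∧ 0 < Nat.card E' := by
        rcases hcaseM with ⟨hinf', hsup'⟩ | ⟨z, hz, hinf', hsup'⟩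
        · refine ⟨W₂, ⟨hM, hIM, hinf', hsup', hcentM⟩, ?_, Nat.card_pos⟩
          rw [← hpdef]
          exact Nat.le_mul_of_pos_right p hq.pos
        · refine ⟨_, ⟨hM, hIM, hinf', hsup', hcentM⟩, ?_, Nat.card_pos⟩
          rw [card_EY hT hS hz, ← hpdef, ← hqdef, mul_comm]
      obtain ⟨E', f', hE1, hE2⟩ := hfM
      obtain ⟨T', d', ψ', X', D'⟩ := exists_LDI hG hC hM hIM
      rw [f'.index] at D'
      have hk : v ≤ Nat.card (fittingHallOf M) := by
        rw [hvdef]; exact Nat.card_le_card_of_injective _ (Subgroup.inclusion_injective hVK)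
      have k3 := LD.two D.ld D'.ld hG.1 (til_disj hG hL hM (tA_I hG hC hL hI) (tA_I hG hC hM hIM) hconj)
        (by omega) hpq0 (by omega) hE2
      exact num_iiib hp hq hq2 hlt hu hv hh k2 hE1 hk k3
  · have hab : ∀ a ∈ V', ∀ b ∈ V', a * b = b * a := by
      intro a ha b hb
      haveI := gT.cyc
      exact congrArg Subtype.val ((IsCyclic.commGroup (α := V')).mul_comm ⟨a, ha⟩ ⟨b, hb⟩)
    obtain ⟨T', d', ψ', X', D'⟩ := exists_LDIII hG hT.side.max hTIII hT.side.data hab hT.side.prq hVb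
    rw [← hvdef, ← hpdef] at D'
    have hnt := H1.PG8.not_TyI_of_P hG hT.side.max hT.side.data
    have k3 := LD.two D.ld D' hG.1 (til_disj hG hL hT.side.max (tA_I hG hC hL hI) (tA_III hG hT.side.max hTIII hnt) (nc_of_P hG hI hL hT))
      (by omega) hpq0 (by nlinarith) hp.pos
    exact num_III hp hq hq2 hlt hu hv hh k3

end final

end Cfsg.Agent.H4.PF14
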