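import Mathlib
import Cfsg.Agent.H4_PF14n
import Cfsg.Agent.H12_P13o
import Cfsg.Agent.H1_P13E
import Cfsg.Agent.H2_Ty4

/-! Peterfalvi §14: there is no minimal simple group of odd order, modulo §10 and §11 -/

set_option autoImplicit false
set_option linter.all false

namespace Cfsg.Agent.H4.PF14

open Cfsg Cfsg.Agent.H12.P13S Cfsg.Agent.H12.Ty Cfsg.Agent.H1.PF12 Cfsg.Agent.H1.P13

universe u
variable {G : Type u} [Group G] [Finite G] {S T W₁ W₂ U V' : Subgroup G}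

theorem sd_of (hG : IsMinSimpleOddOrder G) (hC : C11 G) (P : Pair S T W₁ W₂ U V') : Sd S W₁ U W₂ :=
  ⟨P.sS, cU hG hC P, fh_hall hG P.sS.max⟩

theorem alt_of (hG : IsMinSimpleOddOrder G) (hC : C11 G) (P : Pair S T W₁ W₂ U V') :
    Gal S W₁ U W₂ ∨ (Nat.card W₁ = 3 ∧ Nat.card U = ((Nat.card W₂ - 1) / 2) ^ 2 ∧ ∀ u ∈ U, u ^ ((Nat.card W₂ - 1) / 2) = 1) := by
  rcases P.alt13 hG (cU hG hC P) with ⟨h1, h2, h3, h4, h5⟩ | h
  · exact Or.inl ⟨h1, h2, h3, h4, h5⟩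
  · exact Or.inr h

theorem ov_of (hG : IsMinSimpleOddOrder G) (hC : C11 G) (P : Pair S T W₁ W₂ U V') : Ov S T W₁ W₂ U :=
  fun hII L hL hN => main1549 hG hC P (cU hG hC P.symm) hII hL hN

theorem U_ne (hG : IsMinSimpleOddOrder G) (P : Pair S T W₁ W₂ U V') : U ≠ ⊥ := (P.sS.dat hG).1

theorem pair_false (hG : IsMinSimpleOddOrder G) (hC : C11 G) (P : Pair S T W₁ W₂ U V') : False := by
  haveI := Fintype.ofFinite G
  rcases lt_or_gt_of_ne P.ne with h | h
  · exact final_lt hG hC.con (sd_of hG hC P) (sd_of hG hC P.symm) h (alt_of hG hC P) (alt_of hG hC P.symm) (ov_of hG hC P)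
      (ov_of hG hC P.symm) (U_ne hG P) (U_ne hG P.symm)
  · exact final_lt hG hC.con (sd_of hG hC P.symm) (sd_of hG hC P) h (alt_of hG hC P.symm) (alt_of hG hC P) (ov_of hG hC P.symm)
      (ov_of hG hC P) (U_ne hG P.symm) (U_ne hG P)

/-- **no minimal simple group of odd order**, from §10 and §11 -/
theorem no_minsimple (hG : IsMinSimpleOddOrder G) (hC : C11 G) : False := by
  rcases H2.Ty.dichotomy hG with h | ⟨S, T, W₁, W₂, E, U, E', U', V, V', hpr, hV, hV', h1, h2⟩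
  · obtain ⟨M, hM, hn⟩ := main1541 hG hC.con
    exact hn ((H2.Ty.tyI_iff hG hM).2 (h M hM))
  · exact pair_false hG hC (pair hG hC hpr.h.co hpr.h'.co h1 h2 (hpr.inf_eq hG (H12.BG13.con13 hG)) (H2.Ty.types_of_KS hG hpr.h)
      (H2.Ty.types_of_KS hG hpr.h'))

end Cfsg.Agent.H4.PF14
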