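import Mathlib
import Cfsg.Prelude.Def_OddOrder

/-! From the non-existence of minimal simple groups of odd order to the odd order theorem. -/

set_option autoImplicit false

namespace Cfsg.Agent.HL.FTmin

open Subgroup

universe u

theorem solvable_of_no_min (hno : ∀ (G : Type u) [Group G] [Finite G], Cfsg.IsMinSimpleOddOrder G → False) :
    ∀ (n : ℕ) (G : Type u) [Group G] [Finite G], Nat.card G = n → Odd (Nat.card G) → Group.IsSolvable G := by
  intro n
  induction n using Nat.strong_induction_on with
  | _ n ih =>
    intro G _ _ hn hodd
    by_contra hns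
    have hsub : ∀ H : Subgroup G, H ≠ ⊤ → Group.IsSolvable H := by
      intro H hH
      have h1 : Nat.card H < n := by
        rw [← hn]
        rcases lt_or_eq_of_le (Nat.le_of_dvd Nat.card_pos (Subgroup.card_subgroup_dvd_card H)) with h | h
        · exact h
        · exact absurd (Subgroup.eq_top_of_card_eq H h) hH
      exact ih _ h1 H rfl (Odd.of_dvd_nat hodd (Subgroup.card_subgroup_dvd_card H))
    have hnt : Nontrivial G := by
      by_contra h
      rw [not_nontrivial_iff_subsingleton] at h
      exact hns inferInstance
    have hsimple : IsSimpleGroup G := by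
      refine ⟨fun N hN => ?_⟩
      by_contra hcon
      rw [not_or] at hcon
      apply hns
      have h1 : Group.IsSolvable N := hsub N hcon.2
      have h2 : Nat.card (G ⧸ N) < n := by
        rw [← hn, Subgroup.card_eq_card_quotient_mul_card_subgroup N]
        have h3 : 1 < Nat.card N := by
          haveI : Nontrivial N := (Subgroup.nontrivial_iff_ne_bot N).2 hcon.1
          exact Finite.one_lt_card
        exact lt_mul_of_one_lt_right Nat.card_pos h3
      have h3 : Group.IsSolvable (G ⧸ N) := ih _ h2 (G ⧸ N) rfl
        (Odd.of_dvd_nat hodd (Subgroup.card_quotient_dvd_card N))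
      exact Group.isSolvable_of_ker_le_range N.subtype (QuotientGroup.mk' N) (by
        rw [QuotientGroup.ker_mk', Subgroup.range_subtype])
    refine hno G ⟨hodd, hsimple, ?_, hsub⟩
    intro hc
    apply hns
    exact Group.isSolvable_of_comm fun a b => hc.is_comm.comm a b

theorem odd_order (hno : ∀ (G : Type u) [Group G] [Finite G], Cfsg.IsMinSimpleOddOrder G → False)
    {G : Type u} [Group G] [Finite G] (hG : Odd (Nat.card G)) : Group.IsSolvable G :=
  solvable_of_no_min hno _ G rfl hG

end Cfsg.Agent.HL.FTmin
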