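import Mathlib
import Cfsg.Agent.H4_PF14o
import Cfsg.Agent.H27_PV9
import Cfsg.Agent.H2_PF11
import Cfsg.Agent.HL_FTmin

/-! The odd order theorem: there is no minimal simple group of odd order. -/

set_option autoImplicit false
set_option linter.all false

namespace Cfsg.Agent.HL.NoMin

open Cfsg Subgroup

universe u

theorem c11 {G : Type u} [Group G] [Finite G] (hG : IsMinSimpleOddOrder G) : Cfsg.Agent.H1.P13.C11 G where
  h5 := fun _ hM => Cfsg.Agent.H27.PV9.no_typeV hG hM
  h34 := fun _ _ _ _ hM ty hP => by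
    obtain ⟨h1, h2, h3, h4, h5, h6, h7, h8, _⟩ := Cfsg.Agent.H2.PF11.h34 hG hM ty hP
    exact ⟨h1, h2, h3, h4, h5, h6, h7, h8⟩

/-- **Feit-Thompson**: no minimal simple group of odd order -/
theorem no_min {G : Type u} [Group G] [Finite G] (hG : IsMinSimpleOddOrder G) : False :=
  Cfsg.Agent.H4.PF14.no_minsimple hG (c11 hG)

/-- **The odd order theorem** -/
theorem odd_order {G : Type u} [Group G] [Finite G] (hG : Odd (Nat.card G)) : Group.IsSolvable G :=
  Cfsg.Agent.HL.FTmin.odd_order (fun _ _ _ h => no_min h) hG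

end Cfsg.Agent.HL.NoMin
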