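import Cfsg.Statements.S0206
import Mathlib
import Cfsg.Agent.H4_Inv
import Cfsg.Agent.H4_Dih

set_option autoImplicit false
open Cfsg

namespace Cfsg.Agent.S0206

/-- Two distinct involutions x, y of a finite group generate a subgroup isomorphic to the dihedral group of order 2·|xy|. -/
theorem result {G : Type*} [Group G] [Finite G] (x y : G) (hx : orderOf x = 2) (hy : orderOf y = 2) (hxy : x ≠ y) : Nonempty (↥(Subgroup.closure ({x, y} : Set G)) ≃* DihedralGroup (orderOf (x * y))) := by
  have ha : Subgroup.closure ({x, y} : Set G) = Subgroup.closure ({x, x * y} : Set G) := by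
    apply le_antisymm
    · rw [Subgroup.closure_le]
      rintro z (rfl | rfl)
      · exact Subgroup.subset_closure (by simp)
      · have h1 : x ∈ Subgroup.closure ({x, x * z} : Set G) := Subgroup.subset_closure (by simp)
        have h2 : x * z ∈ Subgroup.closure ({x, x * z} : Set G) := Subgroup.subset_closure (by simp)
        have h3 := Subgroup.mul_mem _ (Subgroup.inv_mem _ h1) h2
        simpa using h3
    · rw [Subgroup.closure_le]
      rintro z (rfl | rfl)
      · exact Subgroup.subset_closure (by simp)
      · exact Subgroup.mul_mem _ (Subgroup.subset_closure (by simp))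
          (Subgroup.subset_closure (by simp))
  rw [ha]
  exact ⟨(Cfsg.Agent.H4.Dih.dihEquiv (orderOf (x * y)) x (x * y) rfl
    (Cfsg.Agent.H4.Inv.mul_self hx) (Cfsg.Agent.H4.Inv.conj_mul hx hy)
    (Cfsg.Agent.H4.Inv.refl_ne_one hx hy)).symm⟩

end Cfsg.Agent.S0206
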