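import Cfsg.Agent.H12_CY3
import Cfsg.Agent.H12_Friend
import Cfsg.Agent.S0205
import Cfsg.Agent.S0206

set_option autoImplicit false
set_option linter.all false

/-!
Cyclic Sylow `p`-subgroups and abelian `p'`-subgroups: the simple case, an involution centralizing
an element of order `p`.
-/

namespace Cfsg.Agent.H12.CY

open Subgroup
open scoped commutatorElement
open Cfsg Cfsg.Agent

universe u

variable {G : Type u} [Group G] [Finite G] {p : ℕ} [hp : Fact p.Prime]

theorem inv_sq {s : G} (hs : orderOf s = 2) : s * s = 1 := by rw [← pow_two, ← hs]; exact pow_orderOf_eq_one s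

theorem inv_self {s : G} (hs : orderOf s = 2) : s⁻¹ = s := by
  rw [inv_eq_iff_mul_eq_one]; exact inv_sq hs

theorem inv_ne {s : G} (hs : orderOf s = 2) : s ≠ 1 := by
  rintro rfl
  rw [orderOf_one] at hs
  omega

theorem inv_conj {s g : G} (hs : orderOf s = 2) : orderOf (g * s * g⁻¹) = 2 := by
  have : orderOf (MulAut.conj g s) = orderOf s := orderOf_injective (MulAut.conj g).toMonoidHom (MulAut.conj g).injective s
  rw [MulAut.conj_apply] at this
  rw [this, hs]

theorem inv_mul {s t : G} (hs : orderOf s = 2) (ht : orderOf t = 2) (hne : s ≠ t) (hc : s * t = t * s) : orderOf (s * t) = 2 := by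
  apply orderOf_eq_prime
  · rw [pow_two]
    calc s * t * (s * t) = s * (t * s) * t := by group
      _ = s * (s * t) * t := by rw [hc]
      _ = (s * s) * (t * t) := by group
      _ = 1 := by rw [inv_sq hs, inv_sq ht, one_mul]
  · intro h
    apply hne
    have h1 : s = t⁻¹ := eq_inv_of_mul_eq_one_left h
    rw [h1, inv_self ht]

/-- the element inverted by two involutions -/
theorem inv_zp {s t x : G} (hs : orderOf s = 2) (ht : orderOf t = 2) (hx : x ∈ zpowers (s * t)) :
    s * x * s⁻¹ = x⁻¹ ∧ t * x * t⁻¹ = x⁻¹ := by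
  obtain ⟨i, rfl⟩ := mem_zpowers_iff.1 hx
  have e : (s * t)⁻¹ = t * s := by rw [mul_inv_rev, inv_self hs, inv_self ht]
  constructor
  · rw [← conj_zpow, ← inv_zpow]
    congr 1
    rw [e, inv_self hs, ← mul_assoc, inv_sq hs, one_mul]
  · rw [← conj_zpow, ← inv_zpow]
    congr 1
    rw [e, inv_self ht, mul_assoc, mul_assoc, inv_sq ht, mul_one]

theorem norm_of_inv {s x : G} (h : s * x * s⁻¹ = x⁻¹) : s ∈ normalizer ((zpowers x : Subgroup G) : Set G) := by
  have h' : s⁻¹ * x * s = x⁻¹ := by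
    have : x = s⁻¹ * x⁻¹ * s := by rw [← h]; group
    calc s⁻¹ * x * s = (s⁻¹ * x⁻¹ * s)⁻¹ := by group
      _ = x⁻¹ := by rw [← this]
  rw [mem_normalizer_iff]
  intro n
  constructor
  · intro hn
    obtain ⟨i, rfl⟩ := mem_zpowers_iff.1 hn
    rw [← conj_zpow, h]
    exact zpow_mem (inv_mem (mem_zpowers x)) i
  · intro hn
    obtain ⟨i, hi⟩ := mem_zpowers_iff.1 hn
    have e : n = (s⁻¹ * x * s⁻¹⁻¹) ^ i := by rw [conj_zpow, hi]; group
    rw [e, inv_inv, h']
    exact zpow_mem (inv_mem (mem_zpowers x)) i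

namespace Ctx
variable (c : Ctx p G)
include c

theorem even : 2 ∣ Nat.card G := by
  by_contra h
  have h1 : Odd (Nat.card G) := Nat.odd_iff.2 (by omega)
  have h2 := S0205.result h1
  haveI := c.simple
  exact c.not_ab (IsSimpleGroup.comm_iff_isSolvable.2 h2)

theorem no_central {s : G} (hs : orderOf s = 2) : ∃ t, orderOf t = 2 ∧ s * t ≠ t * s := by
  by_contra hcon
  push_neg at hcon
  haveI := c.simple
  have h1 : (normalClosure ({s} : Set G)) ≤ centralizer ({s} : Set G) := by
    unfold normalClosure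
    rw [closure_le]
    intro x hx
    rw [Group.conjugatesOfSet, Set.mem_iUnion₂] at hx
    obtain ⟨a, ha, hx⟩ := hx
    rw [Set.mem_singleton_iff] at ha
    subst ha
    obtain ⟨g, hg⟩ := isConj_iff.1 (show IsConj a x from hx)
    rw [SetLike.mem_coe, mem_centralizer_singleton_iff]
    exact (hcon x (by rw [← hg]; exact inv_conj hs)).symm
  have h2 : (normalClosure ({s} : Set G)).Normal := normalClosure_normal
  have h3 : s ∈ normalClosure ({s} : Set G) := subset_normalClosure rfl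
  rcases h2.eq_bot_or_eq_top with h4 | h4
  · rw [h4, mem_bot] at h3
    exact inv_ne hs h3
  · apply c.cent_ne_top (inv_ne hs)
    rw [eq_top_iff, ← h4]; exact h1

theorem pair {s t : G} (hs : orderOf s = 2) (ht : orderOf t = 2) (hst : s * t ≠ t * s) :
    ∃ Q : Sylow p G, ∃ x ∈ (Q : Subgroup G), orderOf x = p ∧ x ∈ zpowers (s * t) ∧
      s ∈ normalizer ((Q : Subgroup G) : Set G) ∧ t ∈ normalizer ((Q : Subgroup G) : Set G) ∧
      s * x * s⁻¹ = x⁻¹ ∧ t * x * t⁻¹ = x⁻¹ := by
  have hne : s ≠ t := by rintro rfl; exact hst rfl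
  have hd : p ∣ orderOf (s * t) := by
    by_contra hd
    obtain ⟨e⟩ := S0206.result s t hs ht hne
    have hcard : Nat.card (closure ({s, t} : Set G)) = 2 * orderOf (s * t) := by
      rw [Nat.card_congr e.toEquiv, DihedralGroup.nat_card]
    apply hst
    apply c.hy.ab (closure ({s, t} : Set G)) ?_ s (subset_closure (by simp)) t (subset_closure (by simp))
    rw [hcard]
    intro h
    rcases (Nat.Prime.dvd_mul hp.out).1 h with h | h
    · exact c.odd ((Nat.prime_dvd_prime_iff_eq hp.out Nat.prime_two).1 h)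
    · exact hd h
  set x := (s * t) ^ (orderOf (s * t) / p) with hx
  have hxo : orderOf x = p := orderOf_pow_orderOf_div (orderOf_pos _).ne' hd
  have hxz : x ∈ zpowers (s * t) := pow_mem (mem_zpowers _) _
  obtain ⟨h1, h2⟩ := inv_zp hs ht hxz
  have hpg : IsPGroup p (zpowers x) := IsPGroup.of_card (n := 1) (by rw [Nat.card_zpowers, hxo, pow_one])
  obtain ⟨Q, hQ⟩ := hpg.exists_le_sylow
  have hxQ : x ∈ (Q : Subgroup G) := hQ (mem_zpowers x)
  have e := c.f4 Q hxQ hxo
  refine ⟨Q, x, hxQ, hxo, hxz, ?_, ?_, h1, h2⟩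
  · rw [← e]; exact norm_of_inv h1
  · rw [← e]; exact norm_of_inv h2

theorem norm_of_cent (P : Sylow p G) {k : G} (hk : ∀ a ∈ (P : Subgroup G), k * a = a * k) :
    k ∈ normalizer ((P : Subgroup G) : Set G) := by
  obtain ⟨y, hy, n, hn⟩ := c.gen' P
  have h1 : y ^ (p ^ n) ∈ (P : Subgroup G) := by rw [← hy]; exact pow_mem (mem_zpowers y) _
  exact c.mem_norm_of_comm P h1 (exists_y1 hn) (hk _ h1)

theorem elt2 (S : Sylow 2 G) {u : G} (hu : u ∈ (S : Subgroup G)) : (orderOf u).Coprime p := by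
  haveI : Fact (Nat.Prime 2) := ⟨Nat.prime_two⟩
  obtain ⟨n, hn⟩ := pelt S hu
  rw [hn]; exact c.two_coprime.pow_left n

/-- the key claim -/
theorem claim (Q : Sylow p G) (S : Sylow 2 G) (hSN : (S : Subgroup G) ≤ normalizer ((Q : Subgroup G) : Set G)) {g : G}
    (hg : g ∈ normalizer ((S : Subgroup G) : Set G)) (hgS : ¬ ∀ a ∈ (S : Subgroup G), g * a = a * g) {u : G}
    (huS : u ∈ (S : Subgroup G)) (hu1 : u ≠ 1) (hu : ∀ a ∈ (Q : Subgroup G), u * a = a * u) :
    ¬ ∀ a ∈ (Q : Subgroup G), (g * u * g⁻¹) * a = a * (g * u * g⁻¹) := by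
  intro hu'
  have hcS : g * u * g⁻¹ ∈ (S : Subgroup G) := (mem_normalizer_iff.1 hg u).1 huS
  have e1 := c.f8 Q hu1 (c.elt2 S huS) hu
  have e2 := c.f8 Q (k := g * u * g⁻¹) (by
    intro e
    apply hu1
    have : u = g⁻¹ * (g * u * g⁻¹) * g := by group
    rw [this, e]; group) (c.elt2 S hcS) hu'
  have hz1 : ∀ z : G, z ∈ normalizer ((Q : Subgroup G) : Set G) ↔ z * u = u * z := by
    intro z; rw [← e1]; exact mem_centralizer_singleton_iff
  have hz2 : ∀ z : G, z ∈ normalizer ((Q : Subgroup G) : Set G) ↔ z * (g * u * g⁻¹) = (g * u * g⁻¹) * z := by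
    intro z; rw [← e2]; exact mem_centralizer_singleton_iff
  have hgN : g ∈ normalizer ((normalizer ((Q : Subgroup G) : Set G) : Subgroup G) : Set G) := by
    rw [mem_normalizer_iff]
    intro z
    rw [hz1 z, hz2 (g * z * g⁻¹)]
    constructor
    · intro h
      calc g * z * g⁻¹ * (g * u * g⁻¹) = g * (z * u) * g⁻¹ := by group
        _ = g * (u * z) * g⁻¹ := by rw [h]
        _ = _ := by group
    · intro h
      calc z * u = g⁻¹ * (g * z * g⁻¹ * (g * u * g⁻¹)) * g := by group
        _ = g⁻¹ * (g * u * g⁻¹ * (g * z * g⁻¹)) * g := by rw [h]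
        _ = _ := by group
  have hgQ : g ∈ normalizer ((Q : Subgroup G) : Set G) := by
    have h0 : g ∈ normalizer ((normalizer (Q : Set G) : Subgroup G) : Set G) := hgN
    rw [Q.normalizer_normalizer] at h0
    exact h0
  apply hgS
  intro σ hσ
  have h1 := c.f7 Q g hgQ σ (hSN hσ)
  have h2 : ⁅g, σ⁆ ∈ (S : Subgroup G) := by
    rw [commutatorElement_def]
    exact mul_mem ((mem_normalizer_iff.1 hg σ).1 hσ) (inv_mem hσ)
  obtain ⟨n, hn⟩ := pelt Q h1
  have h3 := eq_one_of_coprime hn (c.elt2 S h2)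
  exact commutatorElement_eq_one_iff_mul_comm.1 h3

theorem uniq (Q : Sylow p G) {k k' : G} (hk : orderOf k = 2) (hk' : orderOf k' = 2)
    (h : ∀ a ∈ (Q : Subgroup G), k * a = a * k) (h' : ∀ a ∈ (Q : Subgroup G), k' * a = a * k') : k = k' := by
  haveI : Fact (Nat.Prime 2) := ⟨Nat.prime_two⟩
  by_contra hne
  have hkp : (orderOf k).Coprime p := by rw [hk]; exact c.two_coprime
  have hcen := c.f8 Q (inv_ne hk) hkp h
  have hkk : k' * k = k * k' := c.f8a Q hkp h k' (c.norm_of_cent Q h')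
  have hpg : IsPGroup 2 (zpowers k ⊔ zpowers k' : Subgroup G) := by
    apply IsPGroup.to_sup_of_normal_left'
    · exact IsPGroup.of_card (n := 1) (by rw [Nat.card_zpowers, hk, pow_one])
    · exact IsPGroup.of_card (n := 1) (by rw [Nat.card_zpowers, hk', pow_one])
    · rw [zpowers_le]
      rw [mem_normalizer_iff]
      have e : ∀ n ∈ zpowers k, k' * n * k'⁻¹ = n := by
        intro n hn
        obtain ⟨i, rfl⟩ := mem_zpowers_iff.1 hn
        have : k' * k ^ i = k ^ i * k' := (Commute.zpow_right (show Commute k' k from hkk) i)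
        rw [this, mul_inv_cancel_right]
      intro n
      constructor
      · intro hn; rw [e n hn]; exact hn
      · intro hn
        have h3 := e _ hn
        have e5 : k' * (k' * n * k'⁻¹) * k'⁻¹ = n := by
          rw [inv_self hk']
          calc k' * (k' * n * k') * k' = (k' * k') * n * (k' * k') := by group
            _ = n := by rw [inv_sq hk']; simp
        rw [e5] at h3
        rw [h3]; exact hn
  obtain ⟨S, hS⟩ := hpg.exists_le_sylow
  have hkS : k ∈ (S : Subgroup G) := hS (mem_sup_left (mem_zpowers k))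
  have hkS' : k' ∈ (S : Subgroup G) := hS (mem_sup_right (mem_zpowers k'))
  obtain ⟨g, hg, hgS⟩ := c.burn2 S c.even
  have hSN : (S : Subgroup G) ≤ normalizer ((Q : Subgroup G) : Set G) := by
    intro σ hσ
    rw [← hcen, mem_centralizer_singleton_iff]
    exact c.two_ab S σ hσ k hkS
  have cl := fun u huS hu1 hu => c.claim Q S hSN hg hgS (u := u) huS hu1 hu
  have hc1 : g * k * g⁻¹ ∈ (S : Subgroup G) := (mem_normalizer_iff.1 hg k).1 hkS
  have hc2 : g * k' * g⁻¹ ∈ (S : Subgroup G) := (mem_normalizer_iff.1 hg k').1 hkS'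
  have i1 := (c.inv_or Q (inv_conj (g := g) hk) (hSN hc1)).resolve_left (cl k hkS (inv_ne hk) h)
  have i2 := (c.inv_or Q (inv_conj (g := g) hk') (hSN hc2)).resolve_left (cl k' hkS' (inv_ne hk') h')
  apply cl (k * k') (mul_mem hkS hkS')
  · intro e
    apply hne
    have h1 : k = k'⁻¹ := eq_inv_of_mul_eq_one_left e
    rw [h1, inv_self hk']
  · intro a ha
    rw [mul_assoc, h' a ha, ← mul_assoc, h a ha, mul_assoc]
  · intro a ha
    rw [← mul_inv_eq_iff_eq_mul]
    calc g * (k * k') * g⁻¹ * a * (g * (k * k') * g⁻¹)⁻¹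
        = (g * k * g⁻¹) * ((g * k' * g⁻¹) * a * (g * k' * g⁻¹)⁻¹) * (g * k * g⁻¹)⁻¹ := by group
      _ = (g * k * g⁻¹) * a⁻¹ * (g * k * g⁻¹)⁻¹ := by rw [i2 a ha]
      _ = a := by rw [i1 a⁻¹ (inv_mem ha), inv_inv]

end Ctx

end Cfsg.Agent.H12.CY
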