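import Cfsg.Agent.H12_CY4

set_option autoImplicit false
set_option linter.all false

/-!
Cyclic Sylow `p`-subgroups and abelian `p'`-subgroups: the simple case, an involution centralizing
an element of order `p`, and the friendship theorem.
-/

namespace Cfsg.Agent.H12.CY

open Subgroup
open scoped commutatorElement
open Cfsg Cfsg.Agent

universe u

variable {G : Type u} [Group G] [Finite G] {p : ℕ} [hp : Fact p.Prime]

theorem norm_of_comm' {H : Subgroup G} {t : G} (hc : ∀ h ∈ H, t * h = h * t) : t ∈ normalizer (H : Set G) := by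
  rw [mem_normalizer_iff]
  intro n
  constructor
  · intro hn; rw [hc n hn, mul_inv_cancel_right]; exact hn
  · intro hn
    have h3 := hc _ hn
    have e5 : t * n * t⁻¹ = n := by
      have : t⁻¹ * (t * (t * n * t⁻¹)) * t = t⁻¹ * ((t * n * t⁻¹) * t) * t := by rw [h3]
      have e6 : t⁻¹ * (t * (t * n * t⁻¹)) * t = t * n := by group
      have e7 : t⁻¹ * ((t * n * t⁻¹) * t) * t = n * t := by group
      rw [e6, e7] at this
      rw [this, mul_inv_cancel_right]
    rw [e5] at hn; exact hn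

theorem sup2 {H : Subgroup G} (hH : IsPGroup 2 H) {t : G} (ht : orderOf t = 2) (hc : ∀ h ∈ H, t * h = h * t) :
    IsPGroup 2 (H ⊔ zpowers t : Subgroup G) := by
  haveI : Fact (Nat.Prime 2) := ⟨Nat.prime_two⟩
  apply IsPGroup.to_sup_of_normal_left' hH
  · exact IsPGroup.of_card (n := 1) (by rw [Nat.card_zpowers, ht, pow_one])
  · rw [zpowers_le]
    exact norm_of_comm' hc

namespace Ctx
variable (c : Ctx p G)
include c

theorem conjk {P Q : Sylow p G} {k : G} (hk : orderOf k = 2) (hkP : ∀ a ∈ (P : Subgroup G), k * a = a * k) :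
    ∃ k', orderOf k' = 2 ∧ ∀ a ∈ (Q : Subgroup G), k' * a = a * k' := by
  obtain ⟨g, rfl⟩ := MulAction.exists_smul_eq G P Q
  refine ⟨g * k * g⁻¹, inv_conj hk, ?_⟩
  intro a ha
  have h1 : g⁻¹ * a * g ∈ (P : Subgroup G) := (H2.Basic.mem_smul_sylow P g a).1 ha
  have h2 := hkP _ h1
  calc g * k * g⁻¹ * a = g * (k * (g⁻¹ * a * g)) * g⁻¹ := by group
    _ = g * ((g⁻¹ * a * g) * k) * g⁻¹ := by rw [h2]
    _ = a * (g * k * g⁻¹) := by group

theorem three {P : Sylow p G} {k : G} (hk : orderOf k = 2) (hkP : ∀ a ∈ (P : Subgroup G), k * a = a * k)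
    {s t z : G} (hs : orderOf s = 2) (ht : orderOf t = 2) (hz : orderOf z = 2) (hst : s ≠ t) (hsz : s ≠ z) (htz : t ≠ z)
    (cst : s * t = t * s) (csz : s * z = z * s) (ctz : t * z = z * t) : z = s * t := by
  haveI : Fact (Nat.Prime 2) := ⟨Nat.prime_two⟩
  have h1 : IsPGroup 2 (zpowers s) := IsPGroup.of_card (n := 1) (by rw [Nat.card_zpowers, hs, pow_one])
  have h2 : IsPGroup 2 (zpowers s ⊔ zpowers t : Subgroup G) := sup2 h1 ht (comm_of_gen rfl cst.symm)
  have h3 : IsPGroup 2 ((zpowers s ⊔ zpowers t) ⊔ zpowers z : Subgroup G) := by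
    apply sup2 h2 hz
    have hle : (zpowers s ⊔ zpowers t : Subgroup G) ≤ centralizer ({z} : Set G) := by
      apply sup_le
      · rw [zpowers_le, mem_centralizer_singleton_iff]; exact csz
      · rw [zpowers_le, mem_centralizer_singleton_iff]; exact ctz
    intro h hh
    exact (mem_centralizer_singleton_iff.1 (hle hh)).symm
  obtain ⟨S, hS⟩ := h3.exists_le_sylow
  have hsS : s ∈ (S : Subgroup G) := hS (mem_sup_left (mem_sup_left (mem_zpowers s)))
  have htS : t ∈ (S : Subgroup G) := hS (mem_sup_left (mem_sup_right (mem_zpowers t)))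
  have hzS : z ∈ (S : Subgroup G) := hS (mem_sup_right (mem_zpowers z))
  have h4 : IsPGroup 2 (zpowers k) := IsPGroup.of_card (n := 1) (by rw [Nat.card_zpowers, hk, pow_one])
  obtain ⟨S₀, hS₀⟩ := h4.exists_le_sylow
  obtain ⟨g, hg⟩ := MulAction.exists_smul_eq G S₀ S
  set k0 := g * k * g⁻¹ with hk0
  have hk0o : orderOf k0 = 2 := inv_conj hk
  have hk0S : k0 ∈ (S : Subgroup G) := by
    rw [← hg]
    apply (H2.Basic.mem_smul_sylow S₀ g k0).2
    have : g⁻¹ * k0 * g = k := by rw [hk0]; group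
    rw [this]; exact hS₀ (mem_zpowers k)
  set Q := g • P with hQ
  have hk0Q : ∀ a ∈ (Q : Subgroup G), k0 * a = a * k0 := by
    intro a ha
    have h1 : g⁻¹ * a * g ∈ (P : Subgroup G) := (H2.Basic.mem_smul_sylow P g a).1 ha
    have h2 := hkP _ h1
    calc g * k * g⁻¹ * a = g * (k * (g⁻¹ * a * g)) * g⁻¹ := by group
      _ = g * ((g⁻¹ * a * g) * k) * g⁻¹ := by rw [h2]
      _ = a * (g * k * g⁻¹) := by group
  have hSN : (S : Subgroup G) ≤ normalizer ((Q : Subgroup G) : Set G) := by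
    intro σ hσ
    rw [← c.f8 Q (inv_ne hk0o) (by rw [hk0o]; exact c.two_coprime) hk0Q, mem_centralizer_singleton_iff]
    exact c.two_ab S σ hσ k0 hk0S
  have dich : ∀ u ∈ (S : Subgroup G), orderOf u = 2 → u = k0 ∨ (∀ a ∈ (Q : Subgroup G), u * a * u⁻¹ = a⁻¹) := by
    intro u hu huo
    rcases c.inv_or Q huo (hSN hu) with h | h
    · exact Or.inl (c.uniq Q huo hk0o h hk0Q)
    · exact Or.inr h
  have prod : ∀ u v, orderOf u = 2 → orderOf v = 2 → u ≠ v → u * v = v * u →
      (∀ a ∈ (Q : Subgroup G), u * a * u⁻¹ = a⁻¹) → (∀ a ∈ (Q : Subgroup G), v * a * v⁻¹ = a⁻¹) → u * v = k0 := by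
    intro u v hu hv huv hcc h1 h2
    apply c.uniq Q (inv_mul hu hv huv hcc) hk0o _ hk0Q
    intro a ha
    rw [← mul_inv_eq_iff_eq_mul]
    calc u * v * a * (u * v)⁻¹ = u * (v * a * v⁻¹) * u⁻¹ := by group
      _ = u * a⁻¹ * u⁻¹ := by rw [h2 a ha]
      _ = a := by rw [h1 a⁻¹ (inv_mem ha), inv_inv]
  have lem : ∀ u v w : G, orderOf u = 2 → u * v = w → v = u * w := by
    intro u v w hu h
    rw [← h, ← mul_assoc, inv_sq hu, one_mul]
  rcases dich s hsS hs with h5 | h5
  · rcases dich t htS ht with h6 | h6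
    · exact absurd (h5.trans h6.symm) hst
    · rcases dich z hzS hz with h7 | h7
      · exact absurd (h5.trans h7.symm) hsz
      · have h8 := lem t z k0 ht (prod t z ht hz htz ctz h6 h7)
        rw [h8, ← h5, cst]
  · rcases dich t htS ht with h6 | h6
    · rcases dich z hzS hz with h7 | h7
      · exact absurd (h6.trans h7.symm) htz
      · have h8 := lem s z k0 hs (prod s z hs hz hsz csz h5 h7)
        rw [h8, ← h6]
    · have h8 := prod s t hs ht hst cst h5 h6
      rcases dich z hzS hz with h7 | h7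
      · rw [h8, h7]
      · have h9 := prod s z hs hz hsz csz h5 h7
        exact absurd (mul_left_cancel (h8.trans h9.symm)) htz

def gr (G : Type u) [Group G] : SimpleGraph {s : G // orderOf s = 2} where
  Adj s t := s ≠ t ∧ s.1 * t.1 = t.1 * s.1
  symm := ⟨fun s t h => ⟨h.1.symm, h.2.symm⟩⟩
  loopless := ⟨fun s h => h.1 rfl⟩

theorem caseB {P : Sylow p G} {k : G} (hk : orderOf k = 2) (hkP : ∀ a ∈ (P : Subgroup G), k * a = a * k) : False := by
  classical
  haveI : Fintype {s : G // orderOf s = 2} := Fintype.ofFinite _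
  haveI : Nonempty {s : G // orderOf s = 2} := ⟨⟨k, hk⟩⟩
  have hF : H12.Friend.Friendship (gr G) := by
    intro v w hvw
    rw [Fintype.card_eq_one_iff]
    have hvw' : v.1 ≠ w.1 := fun e => hvw (Subtype.ext e)
    by_cases hc : v.1 * w.1 = w.1 * v.1
    · refine ⟨⟨⟨v.1 * w.1, inv_mul v.2 w.2 hvw' hc⟩, ?_⟩, ?_⟩
      · rw [SimpleGraph.mem_commonNeighbors]
        refine ⟨⟨?_, ?_⟩, ⟨?_, ?_⟩⟩
        · intro e
          have e1 : v.1 = v.1 * w.1 := congrArg Subtype.val e
          exact inv_ne w.2 (mul_left_cancel ((mul_one v.1).trans e1)).symm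
        · show v.1 * (v.1 * w.1) = v.1 * w.1 * v.1
          rw [mul_assoc, hc]
        · intro e
          have e1 : w.1 = v.1 * w.1 := congrArg Subtype.val e
          exact inv_ne v.2 (mul_right_cancel ((one_mul w.1).trans e1)).symm
        · show w.1 * (v.1 * w.1) = v.1 * w.1 * w.1
          rw [← mul_assoc, hc]
      · rintro ⟨z, hz⟩
        rw [SimpleGraph.mem_commonNeighbors] at hz
        obtain ⟨⟨h1, h2⟩, ⟨h3, h4⟩⟩ := hz
        apply Subtype.ext
        apply Subtype.ext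
        exact c.three hk hkP v.2 w.2 z.2 hvw' (fun e => h1 (Subtype.ext e)) (fun e => h3 (Subtype.ext e)) hc h2 h4
    · obtain ⟨Q, x, hxQ, hxo, hxz, hsN, htN, hsx, htx⟩ := c.pair v.2 w.2 hc
      obtain ⟨z0, hz0, hz0Q⟩ := c.conjk (Q := Q) hk hkP
      have hz0p : (orderOf z0).Coprime p := by rw [hz0]; exact c.two_coprime
      have hnx : ∀ s : G, s * x * s⁻¹ = x⁻¹ → s ≠ z0 := by
        rintro s h rfl
        rw [hz0Q x hxQ, mul_inv_cancel_right] at h
        have h2 : x ^ 2 = 1 := by rw [pow_two]; nth_rewrite 2 [h]; exact mul_inv_cancel x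
        have h3 := orderOf_dvd_of_pow_eq_one h2
        rw [hxo] at h3
        exact c.odd ((Nat.prime_dvd_prime_iff_eq hp.out Nat.prime_two).1 h3)
      refine ⟨⟨⟨z0, hz0⟩, ?_⟩, ?_⟩
      · rw [SimpleGraph.mem_commonNeighbors]
        refine ⟨⟨?_, ?_⟩, ⟨?_, ?_⟩⟩
        · intro e; exact hnx v.1 hsx (congrArg Subtype.val e)
        · exact c.f8a Q hz0p hz0Q v.1 hsN
        · intro e; exact hnx w.1 htx (congrArg Subtype.val e)
        · exact c.f8a Q hz0p hz0Q w.1 htN
      · rintro ⟨z, hz⟩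
        rw [SimpleGraph.mem_commonNeighbors] at hz
        obtain ⟨⟨h1, h2⟩, ⟨h3, h4⟩⟩ := hz
        apply Subtype.ext
        apply Subtype.ext
        have h2' : v.1 * z.1 = z.1 * v.1 := h2
        have h4' : w.1 * z.1 = z.1 * w.1 := h4
        have hzx : z.1 * x = x * z.1 := by
          have h5 : z.1 * (v.1 * w.1) = (v.1 * w.1) * z.1 := by
            rw [← mul_assoc, ← h2', mul_assoc, ← h4', mul_assoc]
          exact comm_of_gen rfl h5 x hxz
        exact c.uniq Q z.2 hz0 (c.f6 Q hxQ hxo hzx (by rw [z.2]; exact c.two_coprime)) hz0Q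
  obtain ⟨v, hv⟩ := H12.Friend.friendship_theorem hF
  obtain ⟨t, ht, hvt⟩ := c.no_central v.2
  have h1 := hv ⟨t, ht⟩ (by
    intro e
    have e1 : v.1 = t := congrArg Subtype.val e
    apply hvt; rw [e1])
  exact hvt h1.2

end Ctx

end Cfsg.Agent.H12.CY
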