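import Cfsg.Agent.H12_CY5

set_option autoImplicit false
set_option linter.all false

/-!
Cyclic Sylow `p`-subgroups and abelian `p'`-subgroups: the simple case, no involution centralizes
an element of order `p`.
-/

namespace Cfsg.Agent.H12.CY

open Subgroup
open scoped commutatorElement
open Cfsg Cfsg.Agent

universe u

variable {G : Type u} [Group G] [Finite G] {p : ℕ} [hp : Fact p.Prime]

theorem card_pairs {α : Type*} [Finite α] (r : α → α → Prop) (a : ℕ) (h : ∀ s, Nat.card {t : α // r s t} = a) :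
    Nat.card {st : α × α // r st.1 st.2} = Nat.card α * a := by
  classical
  haveI := Fintype.ofFinite α
  rw [Nat.card_congr (Equiv.subtypeProdEquivSigmaSubtype r), Nat.card_sigma, Finset.sum_congr rfl (fun s _ => h s),
    Finset.sum_const, Finset.card_univ, smul_eq_mul, Nat.card_eq_fintype_card]

theorem card_ne' {α : Type*} [Finite α] (s : α) : Nat.card {t : α // s ≠ t} = Nat.card α - 1 := by
  classical
  haveI := Fintype.ofFinite α
  rw [Nat.card_eq_fintype_card, Nat.card_eq_fintype_card]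
  have := Set.card_ne_eq s
  rw [← this]
  apply Fintype.card_congr
  exact Equiv.subtypeEquivRight (fun t => ⟨fun h => h.symm, fun h => h.symm⟩)

theorem card_split {α : Type*} [Finite α] (q : α → Prop) : Nat.card {t : α // q t} + Nat.card {t : α // ¬ q t} = Nat.card α := by
  classical
  rw [← Nat.card_sum]
  exact Nat.card_congr (Equiv.sumCompl q)

namespace Ctx
variable (c : Ctx p G)
include c

theorem sq_one (Q : Sylow p G) {q : G} (hq : q ∈ (Q : Subgroup G)) (h : q * q = 1) : q = 1 := by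
  obtain ⟨n, hn⟩ := pelt Q hq
  apply eq_one_of_coprime hn
  exact Nat.Coprime.coprime_dvd_left (orderOf_dvd_of_pow_eq_one (by rw [pow_two]; exact h)) c.two_coprime

variable (hA : ∀ (Q : Sylow p G) (s : G), orderOf s = 2 → ¬ ∀ a ∈ (Q : Subgroup G), s * a = a * s)
include hA

theorem A0 {s x : G} (hs : orderOf s = 2) (hx : orderOf x = p) : s * x ≠ x * s := by
  intro h
  have hpg : IsPGroup p (zpowers x) := IsPGroup.of_card (n := 1) (by rw [Nat.card_zpowers, hx, pow_one])
  obtain ⟨Q, hQ⟩ := hpg.exists_le_sylow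
  exact hA Q s hs (c.f6 Q (hQ (mem_zpowers x)) hx h (by rw [hs]; exact c.two_coprime))

theorem cent_p' {s : G} (hs : orderOf s = 2) : ¬ p ∣ Nat.card (centralizer ({s} : Set G)) := by
  intro hd
  obtain ⟨x, hx⟩ := exists_prime_orderOf_dvd_card' p hd
  rw [← Subgroup.orderOf_coe] at hx
  exact c.A0 hA hs hx (mem_centralizer_singleton_iff.1 x.2).symm

theorem centA {s : G} (hs : orderOf s = 2) {a b : G} (ha : a * s = s * a) (hb : b * s = s * b) : a * b = b * a :=
  c.hy.ab _ (c.cent_p' hA hs) a (mem_centralizer_singleton_iff.2 ha) b (mem_centralizer_singleton_iff.2 hb)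

theorem invQ (Q : Sylow p G) {s : G} (hs : orderOf s = 2) (hsN : s ∈ normalizer ((Q : Subgroup G) : Set G)) :
    ∀ a ∈ (Q : Subgroup G), s * a * s⁻¹ = a⁻¹ := (c.inv_or Q hs hsN).resolve_left (hA Q s hs)

theorem A1 (Q : Sylow p G) {s t : G} (hs : orderOf s = 2) (ht : orderOf t = 2)
    (hsN : s ∈ normalizer ((Q : Subgroup G) : Set G)) (htN : t ∈ normalizer ((Q : Subgroup G) : Set G)) :
    s * t ∈ (Q : Subgroup G) := by
  have h1 := c.invQ hA Q hs hsN
  have h2 := c.invQ hA Q ht htN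
  have hz : ∀ a ∈ (Q : Subgroup G), (s * t) * a = a * (s * t) := by
    intro a ha
    rw [← mul_inv_eq_iff_eq_mul]
    calc s * t * a * (s * t)⁻¹ = s * (t * a * t⁻¹) * s⁻¹ := by group
      _ = s * a⁻¹ * s⁻¹ := by rw [h2 a ha]
      _ = a := by rw [h1 a⁻¹ (inv_mem ha), inv_inv]
  obtain ⟨a, ha, b, hb, hab, -, hak, hbk⟩ := H2.Basic.exists_p_decomp p (s * t)
  have hN : s * t ∈ normalizer ((Q : Subgroup G) : Set G) := mul_mem hsN htN
  have ha1 : a ∈ (Q : Subgroup G) := mem_of_norm Q ((zpowers_le.2 hN) ha) hak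
  have hbQ : ∀ d ∈ (Q : Subgroup G), b * d = d * b := by
    intro d hd
    have h3 : d * (s * t) = (s * t) * d := (hz d hd).symm
    exact (comm_of_gen rfl h3 b hb).symm
  have hb1 : b = 1 := by
    by_contra hb1
    have h3 := c.f8a Q hbk hbQ s hsN
    have h4 := (inv_zp hs ht hb).1
    rw [h3, mul_inv_cancel_right] at h4
    have h5 : orderOf b = 2 := by
      apply orderOf_eq_prime _ hb1
      rw [pow_two]; nth_rewrite 2 [h4]; exact mul_inv_cancel b
    exact hA Q b h5 hbQ
  rw [hb1, mul_one] at hab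
  rw [← hab]; exact ha1

theorem A1' (Q : Sylow p G) {s t : G} (hs : orderOf s = 2) (ht : orderOf t = 2)
    (hsN : s ∈ normalizer ((Q : Subgroup G) : Set G)) (htN : t ∈ normalizer ((Q : Subgroup G) : Set G)) (hne : s ≠ t) :
    s * t ≠ t * s := by
  intro h
  have h1 := c.A1 hA Q hs ht hsN htN
  have h2 : (s * t) * (s * t) = 1 := by
    have := inv_mul hs ht hne h
    exact inv_sq this
  have h3 := c.sq_one Q h1 h2
  apply hne
  have h4 : s = t⁻¹ := eq_inv_of_mul_eq_one_left h3
  rw [h4, inv_self ht]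

/-- two involutions of `N(Q)` are conjugate -/
theorem A1'' (Q : Sylow p G) {s t : G} (hs : orderOf s = 2) (ht : orderOf t = 2)
    (hsN : s ∈ normalizer ((Q : Subgroup G) : Set G)) (htN : t ∈ normalizer ((Q : Subgroup G) : Set G)) :
    ∃ g, g * s * g⁻¹ = t := by
  have h1 := c.A1 hA Q hs ht hsN htN
  obtain ⟨n, hn⟩ := pelt Q h1
  have h2 : (orderOf (s * t)).Coprime 2 := by rw [hn]; exact c.two_coprime.symm.pow_left n
  obtain ⟨m, hm⟩ := exists_pow_eq_self_of_coprime h2.symm
  set r := (s * t) ^ m with hr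
  have hrr : r * r = s * t := by
    rw [hr, ← pow_two, ← pow_mul, mul_comm, pow_mul]; exact hm
  have hrQ : r ∈ (Q : Subgroup G) := pow_mem h1 m
  have h3 := c.invQ hA Q hs hsN r hrQ
  refine ⟨r⁻¹, ?_⟩
  have h4 : s * r * s = r⁻¹ := by rw [inv_self hs] at h3; exact h3
  rw [inv_inv, ← h4]
  calc s * r * s * s * r = s * r * (s * s) * r := by group
    _ = s * (r * r) := by rw [inv_sq hs]; group
    _ = s * (s * t) := by rw [hrr]
    _ = (s * s) * t := by group
    _ = t := by rw [inv_sq hs, one_mul]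

theorem A2 {Q Q' : Sylow p G} {s t : G} (hs : orderOf s = 2) (ht : orderOf t = 2) (hst : s * t ≠ t * s)
    (hsN : s ∈ normalizer ((Q : Subgroup G) : Set G)) (htN : t ∈ normalizer ((Q : Subgroup G) : Set G))
    (hsN' : s ∈ normalizer ((Q' : Subgroup G) : Set G)) (htN' : t ∈ normalizer ((Q' : Subgroup G) : Set G)) : Q = Q' := by
  have h1 := c.A1 hA Q hs ht hsN htN
  have h2 := c.A1 hA Q' hs ht hsN' htN'
  have hne : s * t ≠ 1 := by
    intro e
    apply hst
    rw [e]
    have h4 : s = t⁻¹ := eq_inv_of_mul_eq_one_left e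
    rw [h4, mul_inv_cancel]
  obtain ⟨n, hn⟩ := pelt Q h1
  have hd : p ∣ orderOf (s * t) := by
    rw [hn]
    apply dvd_pow_self
    rintro rfl
    rw [pow_zero] at hn
    exact hne (orderOf_eq_one_iff.1 hn)
  set x := (s * t) ^ (orderOf (s * t) / p) with hx
  have hxo : orderOf x = p := orderOf_pow_orderOf_div (orderOf_pos _).ne' hd
  have e : normalizer ((Q : Subgroup G) : Set G) = normalizer ((Q' : Subgroup G) : Set G) := by
    rw [← c.f4 Q (pow_mem h1 _) hxo, ← c.f4 Q' (pow_mem h2 _) hxo]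
  have hle : (Q : Subgroup G) ≤ (Q' : Subgroup G) := by
    intro a ha
    apply mem_of_norm Q' _ (pelt Q ha)
    rw [← e]; exact le_normalizer ha
  exact Sylow.ext (Q.is_maximal' Q'.isPGroup' hle).symm

/-- all involutions are conjugate -/
theorem A3 {s t : G} (hs : orderOf s = 2) (ht : orderOf t = 2) : ∃ g, g * s * g⁻¹ = t := by
  have nc : ∀ s t : G, orderOf s = 2 → orderOf t = 2 → s * t ≠ t * s → ∃ g, g * s * g⁻¹ = t := by
    intro s t hs ht hst
    obtain ⟨Q, x, hxQ, hxo, hxz, hsN, htN, -, -⟩ := c.pair hs ht hst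
    exact c.A1'' hA Q hs ht hsN htN
  by_cases hc : s * t = t * s
  · obtain ⟨w, hw, hsw⟩ := c.no_central hs
    have htw : w * t ≠ t * w := by
      intro e
      exact hsw (c.centA hA ht hc e)
    obtain ⟨g, hg⟩ := nc s w hs hw hsw
    obtain ⟨h, hh⟩ := nc w t hw ht htw
    refine ⟨h * g, ?_⟩
    rw [← hh, ← hg]; group
  · exact nc s t hs ht hc

theorem cardX (P : Sylow p G) {s : G} (hs : orderOf s = 2) :
    Nat.card P ∣ Nat.card {s : G // orderOf s = 2} := by
  classical
  haveI : Fintype {s : G // orderOf s = 2} := Fintype.ofFinite _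
  let f : G → {s : G // orderOf s = 2} := fun g => ⟨g * s * g⁻¹, inv_conj hs⟩
  have h1 : Nat.card G = Nat.card {s : G // orderOf s = 2} * Nat.card (centralizer ({s} : Set G)) := by
    rw [← Nat.card_congr (Equiv.sigmaFiberEquiv f), Nat.card_sigma]
    rw [Finset.sum_congr rfl (g := fun _ => Nat.card (centralizer ({s} : Set G))), Finset.sum_const, Finset.card_univ,
      smul_eq_mul, Nat.card_eq_fintype_card (α := {s : G // orderOf s = 2})]
    intro t _
    obtain ⟨g, hg⟩ := c.A3 hA hs t.2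
    refine (Nat.card_eq_of_bijective (fun z : centralizer ({s} : Set G) => (⟨g * z.1, ?_⟩ : {x // f x = t})) ⟨?_, ?_⟩).symm
    · apply Subtype.ext
      show g * z.1 * s * (g * z.1)⁻¹ = t.1
      have hz := mem_centralizer_singleton_iff.1 z.2
      rw [← hg]
      calc g * z.1 * s * (g * z.1)⁻¹ = g * (z.1 * s) * z.1⁻¹ * g⁻¹ := by group
        _ = g * (s * z.1) * z.1⁻¹ * g⁻¹ := by rw [hz]
        _ = g * s * g⁻¹ := by group
    · intro a b hab
      have h2 : g * a.1 = g * b.1 := congrArg Subtype.val hab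
      exact Subtype.ext (mul_left_cancel h2)
    · rintro ⟨x, hx⟩
      have hx' : x * s * x⁻¹ = t.1 := congrArg Subtype.val hx
      refine ⟨⟨g⁻¹ * x, ?_⟩, ?_⟩
      · rw [mem_centralizer_singleton_iff]
        have h3 : x * s * x⁻¹ = g * s * g⁻¹ := hx'.trans hg.symm
        calc g⁻¹ * x * s = g⁻¹ * (x * s * x⁻¹) * x := by group
          _ = g⁻¹ * (g * s * g⁻¹) * x := by rw [h3]
          _ = s * (g⁻¹ * x) := by group
      · apply Subtype.ext
        show g * (g⁻¹ * x) = x
        group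
  have h2 : Nat.card P ∣ Nat.card G := Subgroup.card_subgroup_dvd_card _
  rw [h1] at h2
  apply Nat.Coprime.dvd_of_dvd_mul_right _ h2
  obtain ⟨n, hn⟩ := IsPGroup.iff_card.1 P.isPGroup'
  rw [hn]
  exact ((Nat.Prime.coprime_iff_not_dvd hp.out).2 (c.cent_p' hA hs)).pow_left n

theorem cardC {s : G} (hs : orderOf s = 2) :
    p ∣ Nat.card {t : {s : G // orderOf s = 2} // s * t.1 = t.1 * s} := by
  classical
  haveI : Fact (Nat.Prime 2) := ⟨Nat.prime_two⟩
  have h4 : IsPGroup 2 (zpowers s) := IsPGroup.of_card (n := 1) (by rw [Nat.card_zpowers, hs, pow_one])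
  obtain ⟨S, hS⟩ := h4.exists_le_sylow
  have hsS : s ∈ (S : Subgroup G) := hS (mem_zpowers s)
  obtain ⟨g, hg, hgS⟩ := c.burn2 S c.even
  set A := centralizer ({s} : Set G) with hAdef
  have hSA : (S : Subgroup G) ≤ A := by
    intro σ hσ
    exact mem_centralizer_singleton_iff.2 (c.two_ab S σ hσ s hsS)
  have key : ∀ g ∈ normalizer ((S : Subgroup G) : Set G), ∀ a ∈ A, g * a * g⁻¹ ∈ A := by
    intro g hg a ha
    have h1 : g⁻¹ * s * g ∈ (S : Subgroup G) := by
      have := (mem_normalizer_iff.1 (inv_mem hg) s).1 hsS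
      rwa [inv_inv] at this
    have h2 : a * (g⁻¹ * s * g) = (g⁻¹ * s * g) * a :=
      c.centA hA hs (mem_centralizer_singleton_iff.1 ha) (mem_centralizer_singleton_iff.1 (hSA h1))
    rw [hAdef, mem_centralizer_singleton_iff]
    calc g * a * g⁻¹ * s = g * (a * (g⁻¹ * s * g)) * g⁻¹ := by group
      _ = g * ((g⁻¹ * s * g) * a) * g⁻¹ := by rw [h2]
      _ = s * (g * a * g⁻¹) := by group
  have hgA : g ∈ normalizer (A : Set G) := by
    rw [mem_normalizer_iff]
    intro a
    refine ⟨key g hg a, fun h => ?_⟩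
    have h3 := key g⁻¹ (inv_mem hg) _ h
    have e4 : g⁻¹ * (g * a * g⁻¹) * g⁻¹⁻¹ = a := by group
    rwa [e4] at h3
  have hd : p ∣ Nat.card (normalizer (A : Set G)) := by
    by_contra hd
    apply hgS
    intro σ hσ
    exact c.hy.ab _ hd g hgA σ (le_normalizer (hSA hσ))
  obtain ⟨x, hx⟩ := exists_prime_orderOf_dvd_card' p hd
  rw [← Subgroup.orderOf_coe] at hx
  have hxN := x.2
  set y := (x : G) with hy
  haveI : Fintype {t : {s : G // orderOf s = 2} // s * t.1 = t.1 * s} := Fintype.ofFinite _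
  have hmem : ∀ t : {t : {s : G // orderOf s = 2} // s * t.1 = t.1 * s}, s * (y * t.1.1 * y⁻¹) = (y * t.1.1 * y⁻¹) * s := by
    intro t
    have h1 : t.1.1 ∈ A := mem_centralizer_singleton_iff.2 t.2.symm
    exact (mem_centralizer_singleton_iff.1 ((mem_normalizer_iff.1 hxN _).1 h1)).symm
  let f : Function.End {t : {s : G // orderOf s = 2} // s * t.1 = t.1 * s} :=
    fun t => ⟨⟨y * t.1.1 * y⁻¹, inv_conj t.1.2⟩, hmem t⟩
  have hf : ∀ (n : ℕ) (t : {t : {s : G // orderOf s = 2} // s * t.1 = t.1 * s}), ((f ^ n) t).1.1 = y ^ n * t.1.1 * (y ^ n)⁻¹ := by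
    intro n
    induction n with
    | zero => intro t; show t.1.1 = _; simp
    | succ n ih =>
      intro t
      rw [pow_succ']
      show y * ((f ^ n) t).1.1 * y⁻¹ = _
      rw [ih t, pow_succ']; group
  have hfp : f ^ p ^ 1 = 1 := by
    funext t
    apply Subtype.ext
    apply Subtype.ext
    rw [pow_one, hf, ← hx, pow_orderOf_eq_one]
    show 1 * t.1.1 * 1⁻¹ = t.1.1
    simp
  have h5 := Equiv.Perm.card_fixedPoints_modEq hfp
  have h6 : Fintype.card (Function.fixedPoints f) = 0 := by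
    rw [Fintype.card_eq_zero_iff]
    refine ⟨fun t => ?_⟩
    have h7 : f t.1 = t.1 := t.2
    have h8 : y * t.1.1.1 * y⁻¹ = t.1.1.1 := congrArg (fun z => z.1.1) h7
    apply c.A0 hA t.1.1.2 hx
    exact (mul_inv_eq_iff_eq_mul.1 h8).symm
  rw [h6] at h5
  rw [Nat.card_eq_fintype_card]
  exact (Nat.modEq_zero_iff_dvd).1 h5

end Ctx

end Cfsg.Agent.H12.CY
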