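import Cfsg.Agent.H12_CY6

set_option autoImplicit false
set_option linter.all false

/-!
Cyclic Sylow `p`-subgroups and abelian `p'`-subgroups: the count, and the conclusion.
-/

namespace Cfsg.Agent.H12.CY

open Subgroup
open scoped commutatorElement
open Cfsg Cfsg.Agent

universe u

variable {G : Type u} [Group G] [Finite G] {p : ℕ} [hp : Fact p.Prime]

namespace Ctx
variable (c : Ctx p G)
include c

theorem norm_smul {Q : Sylow p G} {s g : G} (hs : s ∈ normalizer ((Q : Subgroup G) : Set G)) :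
    g * s * g⁻¹ ∈ normalizer (((g • Q : Sylow p G) : Subgroup G) : Set G) := by
  rw [mem_normalizer_iff]
  intro z
  have e1 : z ∈ ((g • Q : Sylow p G) : Subgroup G) ↔ g⁻¹ * z * g ∈ (Q : Subgroup G) := H2.Basic.mem_smul_sylow Q g z
  have e2 : g * s * g⁻¹ * z * (g * s * g⁻¹)⁻¹ ∈ ((g • Q : Sylow p G) : Subgroup G) ↔
    g⁻¹ * (g * s * g⁻¹ * z * (g * s * g⁻¹)⁻¹) * g ∈ (Q : Subgroup G) := H2.Basic.mem_smul_sylow Q g _
  rw [e1, e2]
  have e3 : g⁻¹ * (g * s * g⁻¹ * z * (g * s * g⁻¹)⁻¹) * g = s * (g⁻¹ * z * g) * s⁻¹ := by group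
  rw [e3]
  exact mem_normalizer_iff.1 hs _

theorem caseA (hA : ∀ (Q : Sylow p G) (s : G), orderOf s = 2 → ¬ ∀ a ∈ (Q : Subgroup G), s * a = a * s) : False := by
  classical
  haveI : Fact (Nat.Prime 2) := ⟨Nat.prime_two⟩
  obtain ⟨s0, hs0⟩ := exists_prime_orderOf_dvd_card' 2 c.even
  let X := {s : G // orderOf s = 2}
  let P : Sylow p G := default
  set a := Nat.card {t : X // s0 * t.1 ≠ t.1 * s0} with ha
  have hconst : ∀ s : X, Nat.card {t : X // s.1 * t.1 ≠ t.1 * s.1} = a := by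
    intro s
    obtain ⟨g, hg⟩ := c.A3 hA hs0 s.2
    have e : X ≃ X := (MulAut.conj g).toEquiv.subtypeEquiv (fun z => by
      show orderOf z = 2 ↔ orderOf (MulAut.conj g z) = 2
      rw [MulEquiv.orderOf_eq])
    have h1 : Function.Bijective (fun t : {t : X // s0 * t.1 ≠ t.1 * s0} =>
        (⟨⟨g * t.1.1 * g⁻¹, inv_conj t.1.2⟩, by
          intro h
          apply t.2
          have h' : s.1 * (g * t.1.1 * g⁻¹) = (g * t.1.1 * g⁻¹) * s.1 := h
          rw [← hg] at h'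
          calc s0 * t.1.1 = g⁻¹ * (g * s0 * g⁻¹ * (g * t.1.1 * g⁻¹)) * g := by group
            _ = g⁻¹ * (g * t.1.1 * g⁻¹ * (g * s0 * g⁻¹)) * g := by rw [h']
            _ = t.1.1 * s0 := by group⟩ : {t : X // s.1 * t.1 ≠ t.1 * s.1})) := by
      constructor
      · intro x y hxy
        have h2 : g * x.1.1 * g⁻¹ = g * y.1.1 * g⁻¹ := congrArg (fun z => z.1.1) hxy
        exact Subtype.ext (Subtype.ext (mul_left_cancel (mul_right_cancel h2)))
      · rintro ⟨⟨t, ht⟩, hst⟩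
        refine ⟨⟨⟨g⁻¹ * t * g, ?_⟩, ?_⟩, ?_⟩
        · have := inv_conj (g := g⁻¹) ht
          rwa [inv_inv] at this
        · intro h
          apply hst
          have h' : s0 * (g⁻¹ * t * g) = (g⁻¹ * t * g) * s0 := h
          show s.1 * t = t * s.1
          rw [← hg]
          calc g * s0 * g⁻¹ * t = g * (s0 * (g⁻¹ * t * g)) * g⁻¹ := by group
            _ = g * ((g⁻¹ * t * g) * s0) * g⁻¹ := by rw [h']
            _ = t * (g * s0 * g⁻¹) := by group
        · apply Subtype.ext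
          apply Subtype.ext
          show g * (g⁻¹ * t * g) * g⁻¹ = t
          group
    exact (Nat.card_eq_of_bijective _ h1).symm
  have hL : Nat.card {st : X × X // st.1.1 * st.2.1 ≠ st.2.1 * st.1.1} = Nat.card X * a :=
    card_pairs (fun s t : X => s.1 * t.1 ≠ t.1 * s.1) a hconst
  obtain ⟨t0, ht0, hst0⟩ := c.no_central hs0
  obtain ⟨Q0, x0, -, -, -, hsN0, -, -, -⟩ := c.pair hs0 ht0 hst0
  have hI : ∀ Q : Sylow p G, Nat.card {s : X // s.1 ∈ normalizer ((Q : Subgroup G) : Set G)} = Nat.card P := by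
    intro Q
    obtain ⟨g, rfl⟩ := MulAction.exists_smul_eq G Q0 Q
    set Q := g • Q0 with hQ
    set s := g * s0 * g⁻¹ with hs
    have hso : orderOf s = 2 := inv_conj hs0
    have hsN : s ∈ normalizer ((Q : Subgroup G) : Set G) := c.norm_smul hsN0
    have hinv := c.invQ hA Q hso hsN
    have e1 : Nat.card P = Nat.card Q := Nat.card_congr (Sylow.equiv P Q).toEquiv
    rw [e1]
    have hq : ∀ q ∈ (Q : Subgroup G), orderOf (s * q) = 2 := by
      intro q hq
      apply orderOf_eq_prime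
      · rw [pow_two]
        have h1 := hinv q hq
        rw [inv_self hso] at h1
        calc s * q * (s * q) = (s * q * s) * q := by group
          _ = 1 := by rw [h1, inv_mul_cancel]
      · intro h
        have h1 : s = q⁻¹ := eq_inv_of_mul_eq_one_left h
        have h2 : s ∈ (Q : Subgroup G) := by rw [h1]; exact inv_mem hq
        exact inv_ne hso (c.sq_one Q h2 (inv_sq hso))
    refine (Nat.card_eq_of_bijective (fun q : Q => (⟨⟨s * q.1, hq q.1 q.2⟩, mul_mem hsN (le_normalizer q.2)⟩ :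
      {s : X // s.1 ∈ normalizer ((Q : Subgroup G) : Set G)})) ⟨?_, ?_⟩).symm
    · intro x y hxy
      have h2 : s * x.1 = s * y.1 := congrArg (fun z => z.1.1) hxy
      exact Subtype.ext (mul_left_cancel h2)
    · rintro ⟨⟨t, ht⟩, htN⟩
      refine ⟨⟨s * t, c.A1 hA Q hso ht hsN htN⟩, ?_⟩
      apply Subtype.ext
      apply Subtype.ext
      show s * (s * t) = t
      rw [← mul_assoc, inv_sq hso, one_mul]
  have hR1 : ∀ Q : Sylow p G, Nat.card {st : {s : X // s.1 ∈ normalizer ((Q : Subgroup G) : Set G)} ×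
      {s : X // s.1 ∈ normalizer ((Q : Subgroup G) : Set G)} // st.1 ≠ st.2} = Nat.card P * (Nat.card P - 1) := by
    intro Q
    rw [card_pairs (fun s t : {s : X // s.1 ∈ normalizer ((Q : Subgroup G) : Set G)} => s ≠ t) (Nat.card P - 1), hI Q]
    intro s
    rw [card_ne' s, hI Q]
  haveI : Fintype (Sylow p G) := Fintype.ofFinite _
  have hR2 : Nat.card (Σ Q : Sylow p G, {st : {s : X // s.1 ∈ normalizer ((Q : Subgroup G) : Set G)} ×
      {s : X // s.1 ∈ normalizer ((Q : Subgroup G) : Set G)} // st.1 ≠ st.2}) =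
      Nat.card (Sylow p G) * (Nat.card P * (Nat.card P - 1)) := by
    rw [Nat.card_sigma, Finset.sum_congr rfl (fun Q _ => hR1 Q), Finset.sum_const, Finset.card_univ, smul_eq_mul,
      Nat.card_eq_fintype_card (α := Sylow p G)]
  have hF : Nat.card (Σ Q : Sylow p G, {st : {s : X // s.1 ∈ normalizer ((Q : Subgroup G) : Set G)} ×
      {s : X // s.1 ∈ normalizer ((Q : Subgroup G) : Set G)} // st.1 ≠ st.2}) =
      Nat.card {st : X × X // st.1.1 * st.2.1 ≠ st.2.1 * st.1.1} := by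
    refine Nat.card_eq_of_bijective (fun z => ⟨(z.2.1.1.1, z.2.1.2.1), ?_⟩) ⟨?_, ?_⟩
    · exact c.A1' hA z.1 z.2.1.1.1.2 z.2.1.2.1.2 z.2.1.1.2 z.2.1.2.2
        (fun e => z.2.2 (Subtype.ext (Subtype.ext e)))
    · rintro ⟨Q, ⟨⟨s, hs⟩, ⟨t, ht⟩⟩, hst⟩ ⟨Q', ⟨⟨s', hs'⟩, ⟨t', ht'⟩⟩, hst'⟩ h
      have h1 : (s, t) = (s', t') := congrArg Subtype.val h
      obtain ⟨rfl, rfl⟩ := Prod.mk.inj h1
      have hne : s.1 ≠ t.1 := fun e => hst (Subtype.ext (Subtype.ext e))
      have hQ : Q = Q' := c.A2 hA s.2 t.2 (c.A1' hA Q s.2 t.2 hs ht hne) hs ht hs' ht'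
      subst hQ
      rfl
    · rintro ⟨⟨s, t⟩, hst⟩
      obtain ⟨Q, x, hxQ, hxo, hxz, hsN, htN, -, -⟩ := c.pair s.2 t.2 hst
      refine ⟨⟨Q, ⟨(⟨s, hsN⟩, ⟨t, htN⟩), ?_⟩⟩, rfl⟩
      intro e
      apply hst
      have : s = t := congrArg Subtype.val e
      show s.1 * t.1 = t.1 * s.1
      rw [this]
  -- arithmetic
  have hfin := hR2.symm.trans (hF.trans hL)
  obtain ⟨m, hm⟩ := c.cardX hA P hs0
  have hm' : Nat.card X = Nat.card P * m := hm
  have hc := c.cardC hA hs0
  have hsp := card_split (fun t : X => s0 * t.1 = t.1 * s0)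
  have hpP : p ∣ Nat.card P := P.dvd_card_of_dvd_card c.dvd
  have hPpos : 0 < Nat.card P := Nat.card_pos
  have hpa : p ∣ a := by
    have h1 : p ∣ Nat.card X := by rw [hm']; exact Dvd.dvd.mul_right hpP m
    have h2 : Nat.card {t : X // ¬ (s0 * t.1 = t.1 * s0)} = a := rfl
    rw [h2] at hsp
    rw [← hsp] at h1
    exact (Nat.dvd_add_right hc).1 h1
  rw [hm'] at hfin
  have h3 : Nat.card (Sylow p G) * (Nat.card P - 1) = m * a := by
    apply Nat.eq_of_mul_eq_mul_left hPpos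
    calc Nat.card P * (Nat.card (Sylow p G) * (Nat.card P - 1))
        = Nat.card (Sylow p G) * (Nat.card P * (Nat.card P - 1)) := by ring
      _ = Nat.card P * m * a := hfin
      _ = Nat.card P * (m * a) := by ring
  have h4 : p ∣ Nat.card (Sylow p G) * (Nat.card P - 1) := by rw [h3]; exact Dvd.dvd.mul_left hpa m
  rcases (Nat.Prime.dvd_mul hp.out).1 h4 with h5 | h5
  · have h6 := card_sylow_modEq_one p G
    have h7 : 1 ≡ 0 [MOD p] := h6.symm.trans ((Nat.modEq_zero_iff_dvd).2 h5)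
    exact hp.out.one_lt.ne' (Nat.dvd_one.1 ((Nat.modEq_zero_iff_dvd).1 h7))
  · have h6 : p ∣ 1 := by
      have h7 := Nat.dvd_sub hpP h5
      have h8 : Nat.card P - (Nat.card P - 1) = 1 := by omega
      rwa [h8] at h7
    exact hp.out.one_lt.ne' (Nat.dvd_one.1 h6)

end Ctx

theorem main (p : ℕ) [hp : Fact p.Prime] (G : Type u) [Group G] [Finite G] (h : HY p G) : CC p G := by
  refine reduce p ?_ (Nat.card G) G rfl h
  intro G _ _ h hs hsub
  by_contra hn
  by_cases hp2 : p = 2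
  · subst hp2
    apply hn
    left
    let P : Sylow 2 G := default
    apply burn P (h.pab P)
    obtain ⟨y, hy, m, hym, hPm⟩ := h.gen P
    intro g hg hgp
    apply comm_of_gen hy
    obtain ⟨k, hk⟩ := conj_gen hy hg
    by_cases hy1 : y = 1
    · rw [hy1, mul_one, one_mul]
    apply lemZ hym hk ?_ hgp
    -- `k` is odd
    by_contra hk2
    have hk3 : (2 : ℤ) ∣ k := by
      have : ¬ (2 : ℤ) ∣ k - 1 := by exact_mod_cast hk2
      omega
    have hm : m ≠ 0 := by
      rintro rfl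
      rw [pow_zero, orderOf_eq_one_iff] at hym
      exact hy1 hym
    obtain ⟨j, hj⟩ := hk3
    obtain ⟨m', rfl⟩ := Nat.exists_eq_succ_of_ne_zero hm
    have h1 : (y ^ k) ^ (2 ^ m') = 1 := by
      rw [hj, zpow_mul, ← zpow_natCast, ← zpow_mul, mul_comm j, zpow_mul]
      have h2 : (y ^ (2 : ℤ)) ^ ((2 ^ m' : ℕ) : ℤ) = 1 := by
        rw [← zpow_mul]
        have h3 : (2 : ℤ) * ((2 ^ m' : ℕ) : ℤ) = ((2 ^ (m' + 1) : ℕ) : ℤ) := by push_cast; ring
        rw [h3, zpow_natCast, ← Nat.succ_eq_add_one, ← hym, pow_orderOf_eq_one]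
      rw [h2, one_zpow]
    rw [← hk, conj_pow] at h1
    have h2 : y ^ (2 ^ m') = 1 := by
      have h3 : g * y ^ 2 ^ m' = g := mul_inv_eq_one.1 h1
      exact mul_eq_left.1 h3
    have h3 := orderOf_dvd_of_pow_eq_one h2
    rw [hym] at h3
    have h4 := Nat.pow_dvd_pow_iff_le_right (by norm_num : 1 < 2) |>.1 h3
    omega
  have c : Ctx p G := ⟨h, hs, hp2, hsub, hn⟩
  apply c.caseA
  intro Q s hs hsQ
  exact c.caseB hs hsQ

end Cfsg.Agent.H12.CY
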