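import Cfsg.Agent.S1340
import Cfsg.Agent.H11_Components

set_option autoImplicit false
set_option linter.all false

/-!
A standard subgroup of `SL(n, q)`.
-/

namespace Cfsg.Agent.H12.StdSL

open Subgroup
open Cfsg Cfsg.Agent

universe u

theorem abs {G : Type u} [Group G] [Finite G] (t : G) (K : Subgroup G) (hK : IsQuasisimple K)
    (htK : t ∈ centralizer (K : Set G)) (hn : ∀ g, g * t = t * g → ∀ k ∈ K, g * k * g⁻¹ ∈ K)
    (hab : ∀ a ∈ centralizer (K : Set G), ∀ b ∈ centralizer (K : Set G), a * b = b * a)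
    (hinv : ∀ z ∈ centralizer (K : Set G), orderOf z = 2 → z = t) (ht2 : orderOf t = 2) :
    IsStandardSubgroup ((layer ↥(centralizer ({t} : Set G))).map (centralizer ({t} : Set G)).subtype) := by
  set C := centralizer ({t} : Set G) with hC
  have hKC : K ≤ C := by
    intro k hk
    rw [hC, mem_centralizer_singleton_iff]
    exact (mem_centralizer_iff.1 htK k hk)
  have hKn : (K.subgroupOf C).Normal := by
    refine ⟨fun k hk g => ?_⟩
    exact hn g (mem_centralizer_singleton_iff.1 g.2) k hk
  have hqs' : IsQuasisimple ↥(K.subgroupOf C) :=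
    H11.Components.IsQuasisimple.of_mulEquiv hK (subgroupOfEquivOfLe hKC).symm
  have hcomp : IsComponent (K.subgroupOf C) := ⟨hKn.isSubnormal, hqs'⟩
  have hlay : layer C = K.subgroupOf C := by
    apply le_antisymm
    · rw [H11.Components.layer_le_iff]
      intro L hL
      by_cases hLK : L = K.subgroupOf C
      · rw [hLK]
      · exfalso
        have h1 := H11.Components.commutator_eq_bot_of_ne hL hcomp hLK
        rw [commutator_eq_bot_iff_le_centralizer] at h1
        apply H11.Components.IsQuasisimple.not_isMulCommutative hL.2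
        have h2 : ∀ a ∈ L, (a : G) ∈ centralizer (K : Set G) := by
          intro a ha
          rw [mem_centralizer_iff]
          intro k hk
          have h3 := mem_centralizer_iff.1 (h1 ha) ⟨k, hKC hk⟩ hk
          exact congrArg Subtype.val h3
        refine ⟨⟨fun a b => Subtype.ext (Subtype.ext ?_)⟩⟩
        exact hab _ (h2 a a.2) _ (h2 b b.2)
    · exact H11.Components.le_layer hcomp
  rw [hlay, map_subgroupOf_eq_of_le hKC]
  have hNC : normalizer ((centralizer (K : Set G) : Subgroup G) : Set G) ≤ C := by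
    intro g hg
    have h1 : g * t * g⁻¹ ∈ centralizer (K : Set G) := (mem_normalizer_iff.1 hg t).1 htK
    have h2 : orderOf (g * t * g⁻¹) = 2 := by
      have : orderOf (MulAut.conj g t) = orderOf t := MulEquiv.orderOf_eq (MulAut.conj g) t
      rw [MulAut.conj_apply] at this
      rw [this, ht2]
    have h3 := hinv _ h1 h2
    rw [hC, mem_centralizer_singleton_iff]
    exact mul_inv_eq_iff_eq_mul.1 h3
  have hCN : C ≤ normalizer (K : Set G) := by
    intro g hg
    have hg' := mem_centralizer_singleton_iff.1 hg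
    rw [mem_normalizer_iff]
    intro k
    refine ⟨hn g hg' k, fun h => ?_⟩
    have hg2 : g⁻¹ * t = t * g⁻¹ := (show Commute g t from hg').inv_left.eq
    have h3 := hn g⁻¹ hg2 _ h
    have e4 : g⁻¹ * (g * k * g⁻¹) * g⁻¹⁻¹ = k := by group
    rwa [e4] at h3
  have hNN : normalizer (K : Set G) ≤ normalizer ((centralizer (K : Set G) : Subgroup G) : Set G) := by
    have key : ∀ g ∈ normalizer (K : Set G), ∀ z ∈ centralizer (K : Set G), g * z * g⁻¹ ∈ centralizer (K : Set G) := by
      intro g hg z hz
      rw [mem_centralizer_iff]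
      intro k hk
      have h1 : g⁻¹ * k * g ∈ K := by
        have := (mem_normalizer_iff.1 (inv_mem hg) k).1 hk
        rwa [inv_inv] at this
      have h2 := mem_centralizer_iff.1 hz _ h1
      calc k * (g * z * g⁻¹) = g * ((g⁻¹ * k * g) * z) * g⁻¹ := by group
        _ = g * (z * (g⁻¹ * k * g)) * g⁻¹ := by rw [h2]
        _ = g * z * g⁻¹ * k := by group
    intro g hg
    rw [mem_normalizer_iff]
    intro z
    refine ⟨key g hg z, fun h => ?_⟩
    have h3 := key g⁻¹ (inv_mem hg) _ h
    have e4 : g⁻¹ * (g * z * g⁻¹) * g⁻¹⁻¹ = z := by group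
    rwa [e4] at h3
  have hNe : normalizer (K : Set G) = normalizer ((centralizer (K : Set G) : Subgroup G) : Set G) :=
    le_antisymm hNN (hNC.trans hCN)
  refine ⟨hK, ⟨?_, ?_⟩, ?_, hNe⟩
  · have h1 : orderOf t ∣ Nat.card (centralizer (K : Set G)) := Subgroup.orderOf_dvd_natCard _ htK
    rw [ht2] at h1
    exact even_iff_two_dvd.2 h1
  · intro g hg
    by_contra hodd
    rw [Nat.not_odd_iff_even, even_iff_two_dvd] at hodd
    haveI : Fact (Nat.Prime 2) := ⟨Nat.prime_two⟩
    obtain ⟨⟨z, hz1, hz2⟩, hz⟩ := exists_prime_orderOf_dvd_card' 2 hodd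
    rw [← Subgroup.orderOf_coe] at hz
    have e1 : z = t := hinv z hz1 hz
    obtain ⟨w, hw, hwz⟩ := hz2
    have hw2 : orderOf w = 2 := by
      have : orderOf (MulAut.conj g w) = orderOf w := MulEquiv.orderOf_eq (MulAut.conj g) w
      rw [← this]
      rw [← hz]
      exact congrArg orderOf hwz
    have e2 : w = t := hinv w hw hw2
    apply hg
    have e3 : g * t * g⁻¹ = t := by
      have : g * w * g⁻¹ = z := hwz
      rw [e1, e2] at this; exact this
    rw [← hNe]
    apply hCN
    rw [hC, mem_centralizer_singleton_iff]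
    exact mul_inv_eq_iff_eq_mul.1 e3
  · intro g hg hcm
    rw [commutator_comm, commutator_eq_bot_iff_le_centralizer] at hcm
    apply H11.Components.IsQuasisimple.not_isMulCommutative hK
    refine ⟨⟨fun a b => Subtype.ext ?_⟩⟩
    have h1 := hab _ (hcm ⟨a, a.2, rfl⟩) _ (hcm ⟨b, b.2, rfl⟩)
    have h2 : g * a * g⁻¹ * (g * b * g⁻¹) = g * b * g⁻¹ * (g * a * g⁻¹) := h1
    show (a : G) * b = b * a
    calc (a : G) * b = g⁻¹ * (g * a * g⁻¹ * (g * b * g⁻¹)) * g := by group
      _ = g⁻¹ * (g * b * g⁻¹ * (g * a * g⁻¹)) * g := by rw [h2]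
      _ = b * a := by group

end Cfsg.Agent.H12.StdSL
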