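import Cfsg.Agent.H13_Stab2

/-!
Structure of the minimal configuration for normal `p`-complement theorems, `p`-stability.
-/

set_option autoImplicit false

namespace Cfsg.Agent.H13.Stab

universe u

open Subgroup Cfsg.Agent.H13.Syl Cfsg.Agent.H13.Chief Cfsg.Agent.H13.Bad Cfsg.Agent.H13.Sec Cfsg.Agent.H13.KT
  Cfsg.Agent.H2.Basic
open scoped commutatorElement

variable {p : ℕ} [Fact p.Prime]

omit [Fact p.Prime] in
theorem coatom_dichotomy {Y : Type u} [Group Y] {S K M : Subgroup Y} (hco : IsCoatom S) (hinf : S ⊓ K = ⊥)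
    (hMK : M ≤ K) (hSM : S ≤ normalizer (M : Set Y)) : M = ⊥ ∨ M = K := by
  by_cases h : M ≤ S
  · left
    rw [eq_bot_iff, ← hinf]; exact le_inf h hMK
  · right
    have htop : S ⊔ M = ⊤ := hco.2 _ (left_lt_sup.2 h)
    refine le_antisymm hMK ?_
    intro k hk
    have h1 : k ∈ (S ⊔ M : Subgroup Y) := by rw [htop]; trivial
    rw [← SetLike.mem_coe, Subgroup.coe_mul_of_left_le_normalizer_right _ _ hSM, Set.mem_mul] at h1
    obtain ⟨s, hs, m, hm, rfl⟩ := h1
    have h2 : s ∈ S ⊓ K := by
      refine Subgroup.mem_inf.2 ⟨hs, ?_⟩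
      have := mul_mem hk (inv_mem (hMK hm))
      rwa [mul_inv_cancel_right] at this
    rw [hinf, Subgroup.mem_bot] at h2
    rw [h2, one_mul]; exact hm

theorem comm_of_coatom {Y : Type u} [Group Y] [Finite Y] {S K : Subgroup Y} [hKn : K.Normal] (hco : IsCoatom S)
    (hS : IsPGroup p S) (hK : ¬ p ∣ Nat.card K) : ⁅K, K⁆ = ⊥ := by
  by_cases hKb : K = ⊥
  · rw [hKb, Subgroup.commutator_bot_left]
  obtain ⟨n, hn⟩ := IsPGroup.iff_card.1 hS
  have hcop : (Nat.card S).Coprime (Nat.card K) := by
    rw [hn]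
    exact Nat.Coprime.pow_left n ((Nat.Prime.coprime_iff_not_dvd Fact.out).2 hK)
  have hinf : S ⊓ K = ⊥ := H1.Basic.disjoint_of_coprime_card hcop
  have hSK : S ≤ normalizer (K : Set Y) := by rw [Subgroup.normalizer_eq_top K]; exact le_top
  have hcard : Nat.card K ≠ 1 := by
    rw [Ne, Subgroup.card_eq_one]; exact hKb
  obtain ⟨q, hq, hqd⟩ := Nat.exists_prime_and_dvd hcard
  have : Fact q.Prime := ⟨hq⟩
  obtain ⟨P, hP⟩ := H1.Coprime.invariant_sylow_exists S K hSK hcop (Or.inl
    (have : Group.IsNilpotent S := hS.isNilpotent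
     inferInstance)) q
  have hPK : (P : Subgroup K).map K.subtype = K := by
    rcases coatom_dichotomy hco hinf (Subgroup.map_subtype_le (P : Subgroup K)) hP with h | h
    · exfalso
      have h1 : (P : Subgroup K) = ⊥ := by
        rwa [Subgroup.map_eq_bot_iff_of_injective _ K.subtype_injective] at h
      have h2 := P.not_dvd_index
      rw [h1, Subgroup.index_bot] at h2
      exact h2 hqd
    · exact h
  have hKq : IsPGroup q K := by
    rw [← hPK]; exact P.isPGroup'.map _
  rcases coatom_dichotomy hco hinf (Subgroup.commutator_le_left K K) (by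
    rw [Subgroup.normalizer_eq_top ⁅K, K⁆]; exact le_top) with h | h
  · exact h
  · exfalso
    apply hKb
    have hnil : Group.IsNilpotent K := hKq.isNilpotent
    exact le_bot_iff.1 (le_of_le_commutator_sup hnil le_rfl (by rw [h]; exact le_sup_left))

theorem PAP_of_coatom {X : Type u} [Group X] [Finite X] {S : Subgroup X} (hS : IsSylIn p S ⊤) (hco : IsCoatom S)
    (hq : HasNormalPComplement p (X ⧸ pCore p X)) : PAP p X := by
  obtain ⟨K, hK, hc, k, hk⟩ := npc_iff.1 hq
  set Q := pCore p X with hQ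
  have hQp : IsPGroup p Q := H11.Cores.pCore_isPGroup p
  have hQS : Q ≤ S := pCore_le_of_isSylIn hS
  set π := QuotientGroup.mk' Q with hπ
  have hsurj : Function.Surjective π := QuotientGroup.mk'_surjective Q
  have hker : π.ker = Q := by rw [hπ, QuotientGroup.ker_mk']
  have hco' : IsCoatom (S.map π) := by
    refine ⟨?_, ?_⟩
    · intro h
      apply hco.1
      have h1 := congrArg (Subgroup.comap π) h
      rwa [Subgroup.comap_map_eq, hker, sup_eq_left.2 hQS, Subgroup.comap_top] at h1
    · intro H hH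
      have h1 : S < H.comap π := by
        refine lt_of_le_of_ne (Subgroup.map_le_iff_le_comap.1 hH.le) ?_
        intro h
        apply hH.ne
        rw [h, Subgroup.map_comap_eq_self_of_surjective hsurj]
      have h2 := hco.2 _ h1
      rw [← Subgroup.map_comap_eq_self_of_surjective hsurj H, h2, Subgroup.map_top_of_surjective π hsurj]
  have hcomm := comm_of_coatom (hKn := hK) hco' (hS.2.1.map π) hc
  refine ⟨Q, K.comap π, inferInstance, hK.comap π, ?_, hQp, ?_, ?_, ?_⟩
  · intro x hx
    rw [Subgroup.mem_comap]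
    have : π x = 1 := by rw [← MonoidHom.mem_ker, hker]; exact hx
    rw [this]; exact one_mem _
  · intro b hb c hc
    rw [← hker, MonoidHom.mem_ker, map_commutatorElement]
    have := Subgroup.commutator_mem_commutator (Subgroup.mem_comap.1 hb) (Subgroup.mem_comap.1 hc)
    rwa [hcomm, Subgroup.mem_bot] at this
  · intro b hb
    refine ⟨Nat.card K, ((Nat.Prime.coprime_iff_not_dvd Fact.out).2 hc).symm, ?_⟩
    rw [← hker, MonoidHom.mem_ker, map_pow]
    have : (⟨π b, hb⟩ : K) ^ Nat.card K = 1 := pow_card_eq_one'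
    exact congrArg Subtype.val this
  · intro y
    refine ⟨k, ?_⟩
    rw [Subgroup.mem_comap, map_pow, ← QuotientGroup.eq_one_iff, QuotientGroup.mk_pow, ← hk]
    exact pow_card_eq_one'

end Cfsg.Agent.H13.Stab
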