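import Cfsg.Agent.H13_NPC3
import Cfsg.Agent.H13_Stab3

/-!
Normal `p`-complements from control of strong fusion.
-/

set_option autoImplicit false

namespace Cfsg.Agent.H13.NPC

universe u

open Subgroup Cfsg.Agent.H13.Syl Cfsg.Agent.H13.CF Cfsg.Agent.H13.Sec Cfsg.Agent.H2.Basic
  Cfsg.Agent.H13.WC Cfsg.Agent.H13.Chief
open scoped commutatorElement

variable {p : ℕ} [Fact p.Prime]

theorem npc_of_strong {X : Type u} [Group X] [Finite X] {U : Subgroup X} (h : ControlsStrongFusion p U)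
    (hN : HasNormalPComplement p (normalizer (U : Set X))) : HasNormalPComplement p X := by
  obtain ⟨T, hUT, h1⟩ := h
  refine H2.Fusion3.npc_of_frobenius_sylow T ?_
  intro Q hQT g hg hgp
  have hQp : IsPGroup p Q := T.isPGroup'.to_le hQT
  have hTN : (T : Subgroup X) ≤ normalizer (U : Set X) := by
    intro t ht
    obtain ⟨x, hx, hxe⟩ := (h1 (T : Set X) le_rfl).2 t (by
      rintro _ ⟨a, ha, rfl⟩
      exact mul_mem (mul_mem ht ha) (inv_mem ht))
    have h2 : x⁻¹ * t ∈ centralizer (U : Set X) := by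
      rw [Subgroup.mem_centralizer_iff]
      intro u hu
      have h3 := hxe u (hUT hu)
      calc u * (x⁻¹ * t) = x⁻¹ * (x * u * x⁻¹) * t := by group
        _ = x⁻¹ * (t * u * t⁻¹) * t := by rw [h3]
        _ = x⁻¹ * t * u := by group
    have h3 := mul_mem hx (Subgroup.centralizer_le_normalizer _ h2)
    rwa [mul_inv_cancel_left] at h3
  have hgQ : ∀ a ∈ Q, g * a * g⁻¹ ∈ Q := fun a ha => (Subgroup.mem_normalizer_iff.1 hg a).1 ha
  obtain ⟨x, hx, hxe⟩ := (h1 (Q : Set X) hQT).2 g (by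
    rintro _ ⟨a, ha, rfl⟩
    exact hQT (hgQ a ha))
  have hxQ : x ∈ normalizer (Q : Set X) := by
    rw [mem_normalizer_iff_cj]
    apply Subgroup.eq_of_le_of_card_ge _ (by rw [card_cj])
    rw [cj_le_iff_forall]
    intro a ha
    rw [← hxe a ha]; exact hgQ a ha
  have hgQ' : g ∈ normalizer (Q : Set X) := hg
  -- powers act equally
  have hpow : ∀ n : ℕ, ∀ a ∈ Q, g ^ n * a * (g ^ n)⁻¹ = x ^ n * a * (x ^ n)⁻¹ := by
    intro n
    induction n with
    | zero => intro a _; simp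
    | succ n ih =>
      intro a ha
      have h2 : g ^ n * a * (g ^ n)⁻¹ ∈ Q := (Subgroup.mem_normalizer_iff.1 (pow_mem hgQ' n) a).1 ha
      calc g ^ (n + 1) * a * (g ^ (n + 1))⁻¹ = g * (g ^ n * a * (g ^ n)⁻¹) * g⁻¹ := by
            rw [pow_succ']; group
        _ = x * (g ^ n * a * (g ^ n)⁻¹) * x⁻¹ := hxe _ h2
        _ = x * (x ^ n * a * (x ^ n)⁻¹) * x⁻¹ := by rw [ih a ha]
        _ = x ^ (n + 1) * a * (x ^ (n + 1))⁻¹ := by rw [pow_succ']; group
  obtain ⟨k, m, hm, hk⟩ := Nat.exists_eq_pow_mul_and_not_dvd (orderOf_pos x).ne' p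
    (Fact.out : p.Prime).ne_one
  have ho : (orderOf (x ^ p ^ k)).Coprime p := by
    rw [orderOf_pow' _ (pow_ne_zero _ (Fact.out : p.Prime).ne_zero), hk,
      Nat.gcd_eq_right (Dvd.intro _ rfl), Nat.mul_div_cancel_left _ (pow_pos (Fact.out : p.Prime).pos _)]
    exact ((Nat.Prime.coprime_iff_not_dvd Fact.out).2 hm).symm
  have h2 := H2.Fusion3.mem_centralizer_of_npc hN (Q.subgroupOf (normalizer (U : Set X)))
    hQp.comap_subtype ⟨x ^ p ^ k, pow_mem hx _⟩ (by
      rw [mem_normalizer_subtype, Subgroup.map_subgroupOf_eq_of_le (hQT.trans hTN)]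
      exact pow_mem hxQ _) (by rwa [Subgroup.orderOf_mk])
  rw [Subgroup.mem_centralizer_iff] at h2
  have h3 : g ^ p ^ k ∈ centralizer (Q : Set X) := by
    rw [Subgroup.mem_centralizer_iff]
    intro a ha
    have h4 : a * x ^ p ^ k = x ^ p ^ k * a := congrArg Subtype.val (h2 ⟨a, hTN (hQT ha)⟩ ha)
    have h5 := hpow (p ^ k) a ha
    have h6 : x ^ p ^ k * a * (x ^ p ^ k)⁻¹ = a := by rw [← h4]; group
    rw [h6] at h5
    nth_rewrite 1 [← h5]; group
  exact Stab.mem_of_pow_coprime (C := centralizer (Q : Set X)) (a := p ^ k) (b := orderOf g)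
    (Nat.Coprime.pow_left k hgp.symm) h3 (by rw [pow_orderOf_eq_one]; exact one_mem _)

end Cfsg.Agent.H13.NPC
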