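import Cfsg.Agent.H13_Sec3
import Cfsg.Agent.H1_Nilp
import Cfsg.Agent.H1_Coprime2

/-!
`G = N_G(P ∩ O_{p',p}(G)) O_{p'}(G)`.
-/

set_option autoImplicit false

namespace Cfsg.Agent.H13.Opp

open Cfsg Subgroup Cfsg.Agent.H13.Syl Cfsg.Agent.H13

variable {G : Type*} [Group G] [Finite G] {p : ℕ} [Fact p.Prime]

omit [Finite G] [Fact p.Prime] in
theorem pPrimePCore_normal : (pPrimePCore p G).Normal := by
  unfold Cfsg.pPrimePCore
  have := H1.Nilp.pCore_normal (G := G ⧸ Cfsg.pPrimeCore p G) p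
  infer_instance

theorem decomp {P : Subgroup G} (hP : IsSylIn p P ⊤) (g : G) :
    ∃ n ∈ normalizer ((P ⊓ pPrimePCore p G : Subgroup G) : Set G), ∃ d ∈ pPrimeCore p G, g = n * d := by
  set O := Cfsg.pPrimeCore p G with hO
  have hOn : O.Normal := H1.Nilp.pPrimeCore_normal p
  set L := Cfsg.pPrimePCore p G with hL
  have hLn : L.Normal := pPrimePCore_normal
  set D := P ⊓ L with hD
  have hDi : IsSylIn p D L := hP.inf_of_le_normalizer le_top (by
    rw [Subgroup.normalizer_eq_top])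
  have hmapS := Sec.isSylIn_map_surj (QuotientGroup.mk' O) (QuotientGroup.mk'_surjective _) hP
  have hLle : ∀ l ∈ L, ∃ a ∈ O, ∃ b ∈ D, l = b * a := by
    intro l hl
    have h1 : QuotientGroup.mk' O l ∈ Cfsg.pCore p (G ⧸ O) := hl
    have h2 := Sec.mem_sup_of_mk_mem (Sec.pCore_le_of_isSylIn hmapS h1)
    obtain ⟨b, hb, a, ha, rfl⟩ := Subgroup.mem_sup_of_normal_right.1 h2
    refine ⟨a, ha, b, ⟨hb, ?_⟩, rfl⟩
    have hOL : O ≤ L := by
      intro o ho
      show QuotientGroup.mk' O o ∈ Cfsg.pCore p (G ⧸ O)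
      have : QuotientGroup.mk' O o = 1 := (QuotientGroup.eq_one_iff o).2 ho
      rw [this]; exact one_mem _
    have := mul_mem hl (inv_mem (hOL ha))
    rwa [mul_inv_cancel_right] at this
  have h1 : IsSylIn p (cj g D) L := by
    have := hDi.cj g
    rwa [cj_eq_of_normal g L] at this
  obtain ⟨l, hl, hlq⟩ := hDi.exists_conj_eq h1
  rw [← cj_mul] at hlq
  have h2 : l * g ∈ Subgroup.normalizer (D : Set G) := mem_normalizer_iff_cj.2 hlq
  obtain ⟨a, ha, b, hb, rfl⟩ := hLle l hl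
  have h3 : a * g ∈ Subgroup.normalizer (D : Set G) := by
    have := mul_mem (inv_mem (Subgroup.le_normalizer hb)) h2
    rwa [mul_assoc, inv_mul_cancel_left] at this
  refine ⟨a * g, h3, g⁻¹ * a⁻¹ * g, ?_, by group⟩
  have := hOn.conj_mem _ (inv_mem ha) g⁻¹
  rwa [inv_inv] at this

/-- an abelian `p`-group `V` normalized by `N` with Sylow subgroup `S`: `C_V(N)` is a direct factor of `C_V(S)`. -/
theorem direct_factor {S N V : Subgroup G} (hS : IsSylIn p S N) (hV : IsPGroup p V) (hVc : IsMulCommutative V)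
    (hNV : N ≤ normalizer (V : Set G)) :
    ∃ K ≤ V ⊓ centralizer (S : Set G), (V ⊓ centralizer (N : Set G)) ⊓ K = ⊥ ∧
      (V ⊓ centralizer (N : Set G)) ⊔ K = V ⊓ centralizer (S : Set G) := by
  classical
  set Z := V ⊓ centralizer (S : Set G) with hZ
  set W := V ⊓ centralizer (N : Set G) with hW
  have hSN := hS.le
  have hVV : ∀ x ∈ V, ∀ y ∈ V, x * y = y * x := fun x hx y hy =>
    congrArg Subtype.val (hVc.is_comm.comm (⟨x, hx⟩ : V) ⟨y, hy⟩)
  have hWZ : W ≤ Z := inf_le_inf_left _ (centralizer_le hSN)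
  let _ : CommGroup V := { (inferInstance : Group V) with mul_comm := fun a b => Subtype.ext (hVV a a.2 b b.2) }
  let φ : N → (Z →* V) := fun n =>
    { toFun := fun z => ⟨n * z * (n : G)⁻¹, (mem_normalizer_iff.1 (hNV n.2) z).1 (Subgroup.mem_inf.1 z.2).1⟩
      map_one' := Subtype.ext (by simp)
      map_mul' := fun a b => Subtype.ext (by
        show (n : G) * (a * b) * (n : G)⁻¹ = n * a * (n : G)⁻¹ * (n * b * (n : G)⁻¹); group) }
  have hφ : ∀ (n : N) (z : Z), (φ n z : G) = n * z * (n : G)⁻¹ := fun n z => rfl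
  have hφS : ∀ (n s : N), (s : G) ∈ S → φ (n * s) = φ n := by
    intro n s hs
    ext z
    rw [hφ, hφ]
    have h1 : (s : G) * z = z * s := mem_centralizer_iff.1 (Subgroup.mem_inf.1 z.2).2 s hs
    show (n : G) * s * z * ((n : G) * s)⁻¹ = _
    calc (n : G) * s * z * ((n : G) * s)⁻¹ = n * (s * z) * (s : G)⁻¹ * (n : G)⁻¹ := by group
      _ = n * (z * s) * (s : G)⁻¹ * (n : G)⁻¹ := by rw [h1]
      _ = _ := by group
  have hφq : ∀ n m : N, (n : N ⧸ S.subgroupOf N) = m → φ n = φ m := by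
    intro n m h
    rw [QuotientGroup.eq, mem_subgroupOf] at h
    have : m = n * (n⁻¹ * m) := by group
    rw [this, hφS n _ h]
  have := Fintype.ofFinite (N ⧸ S.subgroupOf N)
  let τ : Z →* V := ∏ q : N ⧸ S.subgroupOf N, φ q.out
  have hτ : ∀ z : Z, τ z = ∏ q : N ⧸ S.subgroupOf N, φ q.out z := fun z => MonoidHom.finsetProd_apply _ _ _
  have hτW : ∀ z : Z, (τ z : G) ∈ W := by
    intro z
    refine Subgroup.mem_inf.2 ⟨(τ z).2, ?_⟩
    rw [mem_centralizer_iff]
    intro n hn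
    -- conjugation by n as a hom of V
    let c : V →* V :=
      { toFun := fun v => ⟨n * v * n⁻¹, (mem_normalizer_iff.1 (hNV hn) v).1 v.2⟩
        map_one' := Subtype.ext (by simp)
        map_mul' := fun a b => Subtype.ext (by show n * (a * b) * n⁻¹ = n * a * n⁻¹ * (n * b * n⁻¹); group) }
    have h1 : c (τ z) = τ z := by
      rw [hτ, map_prod]
      have h2 : ∀ q : N ⧸ S.subgroupOf N, c (φ q.out z) = φ ((⟨n, hn⟩ : N) • q).out z := by
        intro q
        have h3 : φ ((⟨n, hn⟩ : N) • q).out = φ (⟨n, hn⟩ * q.out) := by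
          apply hφq
          rw [QuotientGroup.out_eq']
          nth_rewrite 1 [← QuotientGroup.out_eq' q]
          rfl
        rw [h3]
        apply Subtype.ext
        show n * (q.out * z * (q.out : G)⁻¹) * n⁻¹ = (n * q.out) * z * (n * (q.out : G))⁻¹
        group
      rw [Finset.prod_congr rfl (fun q _ => h2 q)]
      exact Fintype.prod_equiv (MulAction.toPerm (⟨n, hn⟩ : N)) _ _ (fun q => rfl)
    have h4 : n * (τ z : G) * n⁻¹ = τ z := congrArg Subtype.val h1
    exact mul_inv_eq_iff_eq_mul.1 h4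
  have hτw : ∀ z : Z, (z : G) ∈ W → (τ z : G) = (z : G) ^ (S.relIndex N) := by
    intro z hz
    have h1 : ∀ n : N, φ n z = ⟨z, (Subgroup.mem_inf.1 z.2).1⟩ := by
      intro n
      apply Subtype.ext
      rw [hφ]
      have := mem_centralizer_iff.1 (Subgroup.mem_inf.1 hz).2 n n.2
      show (n : G) * z * (n : G)⁻¹ = z
      rw [this]; group
    rw [hτ, Finset.prod_congr rfl (fun q _ => h1 _), Finset.prod_const, Finset.card_univ]
    show (z : G) ^ _ = _
    rw [← Nat.card_eq_fintype_card]; rfl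
  obtain ⟨m, hm⟩ := IsPGroup.iff_card.1 hV
  have hcop : (S.relIndex N).Coprime (Nat.card V) := by
    rw [hm]; exact Nat.Coprime.pow_right m ((Nat.Prime.coprime_iff_not_dvd Fact.out).2 hS.not_dvd).symm
  refine ⟨τ.ker.map Z.subtype, map_subtype_le _, ?_, ?_⟩
  · rw [eq_bot_iff]
    rintro _ ⟨hw, z, hz, rfl⟩
    have h1 : τ z = 1 := hz
    have h2 := hτw z hw
    rw [h1] at h2
    have h3 : (z : G) ^ (S.relIndex N) = 1 := h2.symm
    have h4 : orderOf (z : G) ∣ Nat.card V := orderOf_dvd_natCard V (Subgroup.mem_inf.1 z.2).1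
    have h5 : orderOf (z : G) = 1 := Nat.eq_one_of_dvd_coprimes hcop (orderOf_dvd_of_pow_eq_one h3) h4
    exact mem_bot.2 (orderOf_eq_one_iff.1 h5)
  · apply le_antisymm (sup_le hWZ (map_subtype_le _))
    intro z hz
    obtain ⟨r, hr⟩ : ∃ r : ℤ, ∀ v ∈ V, (v ^ (S.relIndex N)) ^ r = v := by
      refine ⟨Nat.gcdA (S.relIndex N) (Nat.card V), fun x hx => ?_⟩
      have h1 := Nat.gcd_eq_gcd_ab (S.relIndex N) (Nat.card V)
      rw [hcop.gcd_eq_one] at h1
      have h2 : x ^ (((S.relIndex N : ℕ) : ℤ) * Nat.gcdA (S.relIndex N) (Nat.card V) + (Nat.card V : ℤ) * Nat.gcdB (S.relIndex N) (Nat.card V)) = x := by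
        rw [← h1]; simp
      have h3 : x ^ Nat.card V = 1 := orderOf_dvd_iff_pow_eq_one.1 (orderOf_dvd_natCard V hx)
      rw [zpow_add, zpow_mul, zpow_mul, zpow_natCast, zpow_natCast, h3, one_zpow, mul_one] at h2
      exact h2
    set w := (τ ⟨z, hz⟩ : G) ^ r with hw
    have hwW : w ∈ W := zpow_mem (hτW _) r
    have hwZ : w ∈ Z := hWZ hwW
    have h1 : (τ ⟨w, hwZ⟩ : G) = τ ⟨z, hz⟩ := by
      rw [hτw ⟨w, hwZ⟩ hwW]
      show w ^ (S.relIndex N) = _
      rw [hw, ← zpow_natCast, ← zpow_mul, mul_comm, zpow_mul, zpow_natCast]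
      exact hr _ (τ ⟨z, hz⟩).2
    have h2 : (⟨w, hwZ⟩⁻¹ * ⟨z, hz⟩ : Z) ∈ τ.ker := by
      rw [MonoidHom.mem_ker, map_mul, map_inv]
      have : τ ⟨w, hwZ⟩ = τ ⟨z, hz⟩ := Subtype.ext h1
      rw [this, inv_mul_cancel]
    have h3 : z = w * (w⁻¹ * z) := by group
    rw [h3]
    exact mul_mem (mem_sup_left hwW) (mem_sup_right ⟨_, h2, rfl⟩)

end Cfsg.Agent.H13.Opp
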