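import Mathlib

set_option autoImplicit false

/-! Evaluation of the transfer. -/

namespace Cfsg.Agent.H4.Transfer

open Subgroup MonoidHom MulAction

variable {G : Type*} [Group G] {H : Subgroup G} {A : Type*} [CommGroup A] (ϕ : H →* A)

/-- If every conjugate of a power of `g ∈ H` which lies in `H` has the same image as that power,
then the transfer of `g` is the image of `g` to the power `[G:H]`. -/
theorem transfer_eq_pow' [FiniteIndex H] (g : G) (hg : g ∈ H)
    (key : ∀ (k : ℕ) (g₀ : G) (h : g₀⁻¹ * g ^ k * g₀ ∈ H),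
      ϕ ⟨g₀⁻¹ * g ^ k * g₀, h⟩ = ϕ ⟨g, hg⟩ ^ k) :
    transfer ϕ g = ϕ ⟨g, hg⟩ ^ H.index := by
  classical
  let := H.fintypeQuotientOfFiniteIndex
  rw [transfer_eq_prod_quotient_orbitRel_zpowers_quot, index_eq_sum_minimalPeriod H g,
    ← Finset.prod_pow_eq_pow_sum]
  exact Finset.prod_congr rfl fun q _ => key _ _ _

/-- the transfer into the quotient by a normal subgroup with abelian quotient is trivial on
commutators -/
theorem map_eq_one_of_mem_commutator {B : Type*} [CommGroup B] (f : G →* B) {g : G}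
    (hg : g ∈ _root_.commutator G) : f g = 1 := by
  have h1 : _root_.commutator G ≤ f.ker := by
    rw [commutator_eq_closure, Subgroup.closure_le]
    rintro _ ⟨a, b, rfl⟩
    rw [SetLike.mem_coe, MonoidHom.mem_ker, map_commutatorElement, commutatorElement_eq_one_iff_mul_comm, mul_comm]
  exact h1 hg

/-- a nontrivial finite 2-group has a subgroup of index 2 -/
theorem exists_index_two_of_pGroup {P : Type*} [Group P] [Finite P] (hP : IsPGroup 2 P)
    [Nontrivial P] : ∃ K : Subgroup P, K.index = 2 := by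
  obtain ⟨k, hk⟩ := (IsPGroup.iff_card (p := 2)).mp hP
  have hk1 : k ≠ 0 := by
    rintro rfl
    rw [pow_zero] at hk
    have := Finite.one_lt_card (α := P)
    omega
  obtain ⟨K, hK⟩ := Sylow.exists_subgroup_card_pow_prime (G := P) 2 (n := k - 1)
    (by rw [hk]; exact pow_dvd_pow 2 (Nat.sub_le k 1))
  refine ⟨K, ?_⟩
  have h3 := Subgroup.card_mul_index K
  rw [hK, hk] at h3
  obtain ⟨j, rfl⟩ := Nat.exists_eq_succ_of_ne_zero hk1
  simp only [Nat.succ_eq_add_one, Nat.add_sub_cancel, pow_succ] at h3
  exact Nat.eq_of_mul_eq_mul_left (by positivity) h3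

theorem exists_index_two_of_hom [Finite G] {B : Type*} [Group B] (f : G →* B)
    (hf : IsPGroup 2 f.range) (g : G) (hg : f g ≠ 1) : ∃ K : Subgroup G, K.index = 2 := by
  have hfin : Finite f.range := Finite.of_surjective f.rangeRestrict f.rangeRestrict_surjective
  have hnt : Nontrivial f.range := ⟨⟨f g, g, rfl⟩, 1, fun h => hg (congrArg Subtype.val h)⟩
  obtain ⟨K, hK⟩ := exists_index_two_of_pGroup hf
  refine ⟨K.comap f.rangeRestrict, ?_⟩
  rw [Subgroup.index_comap_of_surjective _ f.rangeRestrict_surjective, hK]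

/-- if `x` in an abelian Sylow 2-subgroup `S` is nontrivial and centralized by `N(S)` then `G` has a subgroup
of index 2 -/
theorem exists_index_two_of_central [Finite G] (S : Sylow 2 G)
    (hS : IsMulCommutative (S : Subgroup G)) (x : G) (hx : x ∈ (S : Subgroup G)) (hx1 : x ≠ 1)
    (hc : ∀ n ∈ Subgroup.normalizer ((S : Subgroup G) : Set G), n * x = x * n) :
    ∃ K : Subgroup G, K.index = 2 := by
  letI : CommGroup (S : Subgroup G) :=
    { (inferInstance : Group (S : Subgroup G)) with mul_comm := hS.1.1 }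
  let V : G →* (S : Subgroup G) := transfer (MonoidHom.id (S : Subgroup G))
  have hV : V x = (⟨x, hx⟩ : (S : Subgroup G)) ^ (S : Subgroup G).index := by
    apply transfer_eq_pow' (MonoidHom.id _) x hx
    intro k g₀ h
    obtain ⟨n, hn, h2⟩ := Sylow.conj_eq_normalizer_conj_of_mem S (x ^ k) g₀ (pow_mem hx k) h
    have h3 : Commute n (x ^ k) := Commute.pow_right (hc n hn) k
    ext
    simp only [MonoidHom.id_apply, SubmonoidClass.coe_pow]
    rw [h2, mul_assoc, ← h3.eq]; group
  apply exists_index_two_of_hom V ?_ x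
  · rw [hV]
    intro h1
    apply hx1
    have h2 : orderOf (⟨x, hx⟩ : (S : Subgroup G)) ∣ (S : Subgroup G).index :=
      orderOf_dvd_of_pow_eq_one h1
    obtain ⟨k, hk⟩ := (IsPGroup.iff_orderOf.mp S.2) ⟨x, hx⟩
    have h3 : ¬ 2 ∣ (S : Subgroup G).index := Sylow.not_dvd_index S
    rcases k with _ | k
    · rw [pow_zero, orderOf_eq_one_iff] at hk
      exact congrArg Subtype.val hk
    · exfalso
      rw [hk, pow_succ] at h2
      exact h3 ((Dvd.intro_left _ rfl).trans h2)
  · exact S.2.to_subgroup _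

end Cfsg.Agent.H4.Transfer
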