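import Mathlib
import Cfsg.Agent.H24_Tools
import Cfsg.Agent.H1_Basic
import Cfsg.Agent.H1_Coprime2

set_option autoImplicit false

namespace Cfsg.Agent.H24.SylCount

open Subgroup
open scoped Pointwise

variable {G : Type*} [Group G] [Finite G] {p : ℕ} [Fact p.Prime]

/-- number of Sylow subgroups of a subgroup containing `P` -/
theorem card_sylow_sub (P : _root_.Sylow p G) (H : Subgroup G) (hP : (P : Subgroup G) ≤ H) :
    Nat.card (_root_.Sylow p H) = (normalizer ((P : Subgroup G) : Set G)).relIndex H := by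
  rw [(P.subtype hP).card_eq_index_normalizer, Subgroup.relIndex, subgroupOf_normalizer_eq hP]
  rfl

theorem relIndex_sylow_dvd (P : _root_.Sylow p G) (H : Subgroup G) (hP : (P : Subgroup G) ≤ H) :
    ¬ p ∣ (P : Subgroup G).relIndex H := fun h => P.not_dvd_index (h.trans (relIndex_dvd_index_of_le hP))

/-- general version: `P` a `p`-subgroup of `H` of index prime to `p`. -/
theorem card_sylow_of (P H : Subgroup G) (hPH : P ≤ H) (hp : IsPGroup p P) (hi : ¬ p ∣ P.relIndex H) :
    Nat.card (_root_.Sylow p H) = (normalizer (P : Set G)).relIndex H := by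
  let Q : _root_.Sylow p H := (hp.comap_of_injective H.subtype H.subtype_injective).toSylow hi
  rw [Q.card_eq_index_normalizer, Subgroup.relIndex, subgroupOf_normalizer_eq hPH]
  rfl

theorem card_sylow_quot (P : _root_.Sylow p G) (K : Subgroup G) [K.Normal] :
    Nat.card (_root_.Sylow p (G ⧸ K)) = (normalizer (((P : Subgroup G) ⊔ K : Subgroup G) : Set G)).index := by
  rw [(P.mapSurjective (QuotientGroup.mk'_surjective K)).card_eq_index_normalizer]
  have h1 : (((P : Subgroup G).map (QuotientGroup.mk' K)).comap (QuotientGroup.mk' K)) = (P : Subgroup G) ⊔ K := by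
    rw [Subgroup.comap_map_eq, QuotientGroup.ker_mk']
  rw [← h1, ← comap_normalizer_eq_of_surjective _ (QuotientGroup.mk'_surjective K),
    index_comap_of_surjective _ (QuotientGroup.mk'_surjective K)]
  rfl

/-- `n_p(G) = n_p(G/K) n_p(PK)` -/
theorem card_sylow_mul (P : _root_.Sylow p G) (K : Subgroup G) [hK : K.Normal] :
    Nat.card (_root_.Sylow p G) = Nat.card (_root_.Sylow p (G ⧸ K)) *
      Nat.card (_root_.Sylow p ((P : Subgroup G) ⊔ K : Subgroup G)) := by
  rw [P.card_eq_index_normalizer, card_sylow_quot P K, card_sylow_sub P _ le_sup_left]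
  set L := normalizer (((P : Subgroup G) ⊔ K : Subgroup G) : Set G) with hL
  have hle : normalizer ((P : Subgroup G) : Set G) ≤ L := by
    intro g hg
    apply Tools.mem_normalizer
    intro y hy
    rw [sup_comm, Subgroup.mem_sup_of_normal_left] at hy ⊢
    obtain ⟨k, hk, x, hx, rfl⟩ := hy
    refine ⟨g * k * g⁻¹, hK.conj_mem k hk g, g * x * g⁻¹, (mem_normalizer_iff.mp hg x).mp hx, by group⟩
  have h1 : (normalizer ((P : Subgroup G) : Set G)).relIndex L =
      (normalizer ((P : Subgroup G) : Set G)).relIndex ((P : Subgroup G) ⊔ K) := by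
    apply Cfsg.Agent.H1.Basic.relIndex_eq_of_factor le_normalizer
    intro l hl
    obtain ⟨u, hu, hul⟩ := Sylow.exists_lift_normalizer P K l (fun x hx =>
      (mem_normalizer_iff.mp hl x).mp (mem_sup_left hx))
    refine ⟨u⁻¹, inv_mem hu, ?_⟩
    rw [inv_inv]
    exact Tools.mem_normalizer hul
  rw [← h1, mul_comm, relIndex_mul_index hle]
  rfl

theorem relIndex_inf_not_dvd (P : _root_.Sylow p G) (K : Subgroup G) [K.Normal] :
    ¬ p ∣ ((P : Subgroup G) ⊓ K).relIndex K := by
  rw [inf_relIndex_right]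
  intro h
  exact P.not_dvd_index (h.trans (Sub.relIndex_dvd_index_of_normal_right (P : Subgroup G) K))

theorem le_normalizer_inf (P : _root_.Sylow p G) (K : Subgroup G) [hK : K.Normal] :
    (P : Subgroup G) ≤ normalizer (((P : Subgroup G) ⊓ K : Subgroup G) : Set G) := by
  intro g hg
  apply Tools.mem_normalizer
  intro y hy
  rw [mem_inf] at hy ⊢
  exact ⟨(P : Subgroup G).mul_mem ((P : Subgroup G).mul_mem hg hy.1) ((P : Subgroup G).inv_mem hg), hK.conj_mem y hy.2 g⟩

/-- `n_p(PK) = n_p(K) n_p(N)` with `N = N_{PK}(P ∩ K)` -/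
theorem card_sylow_PK (P : _root_.Sylow p G) (K : Subgroup G) [hK : K.Normal] :
    Nat.card (_root_.Sylow p ((P : Subgroup G) ⊔ K : Subgroup G)) = Nat.card (_root_.Sylow p K) *
      Nat.card (_root_.Sylow p (((P : Subgroup G) ⊔ K) ⊓ normalizer (((P : Subgroup G) ⊓ K : Subgroup G) : Set G) : Subgroup G)) := by
  set M := normalizer (((P : Subgroup G) ⊓ K : Subgroup G) : Set G) with hM
  have hPM : (P : Subgroup G) ≤ M := le_normalizer_inf P K
  have hPN : (P : Subgroup G) ≤ ((P : Subgroup G) ⊔ K) ⊓ M := le_inf le_sup_left hPM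
  have hpi : IsPGroup p ((P : Subgroup G) ⊓ K : Subgroup G) := P.isPGroup'.to_le inf_le_left
  rw [card_sylow_sub P _ le_sup_left, card_sylow_sub P _ hPN,
    card_sylow_of _ K inf_le_right hpi (relIndex_inf_not_dvd P K)]
  have h1 : M.relIndex ((P : Subgroup G) ⊔ K) = M.relIndex K := by
    apply Cfsg.Agent.H1.Basic.relIndex_eq_of_factor le_sup_right
    intro l hl
    rw [sup_comm, Subgroup.mem_sup_of_normal_left] at hl
    obtain ⟨k, hk, x, hx, rfl⟩ := hl
    refine ⟨k, hk, ?_⟩
    rw [inv_mul_cancel_left]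
    exact hPM hx
  have hle : (normalizer ((P : Subgroup G) : Set G)) ⊓ ((P : Subgroup G) ⊔ K) ≤ M := by
    intro g hg
    rw [mem_inf] at hg
    apply Tools.mem_normalizer
    intro y hy
    rw [mem_inf] at hy ⊢
    exact ⟨(mem_normalizer_iff.mp hg.1 y).mp hy.1, hK.conj_mem y hy.2 g⟩
  have h2 := relIndex_mul_relIndex ((normalizer ((P : Subgroup G) : Set G)) ⊓ ((P : Subgroup G) ⊔ K))
    (((P : Subgroup G) ⊔ K) ⊓ M) ((P : Subgroup G) ⊔ K) (le_inf inf_le_right hle) inf_le_left
  rw [inf_relIndex_left, inf_relIndex_right] at h2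
  have h3 : ((normalizer ((P : Subgroup G) : Set G)) ⊓ ((P : Subgroup G) ⊔ K)).relIndex (((P : Subgroup G) ⊔ K) ⊓ M) =
      (normalizer ((P : Subgroup G) : Set G)).relIndex (((P : Subgroup G) ⊔ K) ⊓ M) := by
    rw [← inf_relIndex_right, ← inf_relIndex_right (normalizer ((P : Subgroup G) : Set G))]
    congr 1
    rw [inf_assoc]
    congr 1
    exact inf_eq_right.mpr inf_le_left
  rw [h3, h1] at h2
  rw [mul_comm]
  exact h2.symm

/-- dividing by a normal `p`-subgroup does not change the number of Sylow `p`-subgroups -/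
theorem card_sylow_quot_pgroup (K : Subgroup G) [K.Normal] (hK : IsPGroup p K) :
    Nat.card (_root_.Sylow p (G ⧸ K)) = Nat.card (_root_.Sylow p G) := by
  obtain ⟨P⟩ : Nonempty (_root_.Sylow p G) := inferInstance
  rw [card_sylow_quot P K, P.card_eq_index_normalizer]
  have : (P : Subgroup G) ⊔ K = P := by
    rw [sup_eq_left]
    intro x hx
    obtain ⟨k, hk⟩ := Tools.exists_orderOf hK hx
    obtain ⟨g, hg⟩ := Sylow.exists_conj_in K (P : Subgroup G) hK P.not_dvd_index
    have h1 := hg (g * x * g⁻¹) (Normal.conj_mem inferInstance x hx g)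
    have e : g⁻¹ * (g * x * g⁻¹) * g = x := by group
    rwa [e] at h1
  rw [this]
  rfl

theorem card_sylow_congr {H : Type*} [Group H] [Finite H] (e : G ≃* H) :
    Nat.card (_root_.Sylow p G) = Nat.card (_root_.Sylow p H) := by
  apply Nat.card_congr
  exact Equiv.ofBijective (fun P : _root_.Sylow p G => P.mapSurjective (f := e.toMonoidHom) e.surjective)
    ⟨fun P Q h => by
      apply _root_.Sylow.ext
      have h1 : (P : Subgroup G).map e.toMonoidHom = (Q : Subgroup G).map e.toMonoidHom :=
        congrArg (fun R : _root_.Sylow p H => (R : Subgroup H)) h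
      exact map_injective e.injective h1, _root_.Sylow.mapSurjective_surjective _ p⟩

end Cfsg.Agent.H24.SylCount
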