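import Mathlib
import Cfsg.Agent.H4_B0Ker
import Cfsg.Agent.H10_BlockV4

set_option autoImplicit false

/-! Characters outside the principal block sum to zero over a section whose centralizer has a normal
p-complement. -/

namespace Cfsg.Agent.H4.B0Sec

open Cfsg Cfsg.Agent.H3.CharIrr Cfsg.Agent.H10.BlockAlg Cfsg.Agent.H10.BlockIdem
  Cfsg.Agent.H10.BlockOrth Cfsg.Agent.H10.BlockSMT
  Cfsg.Agent.H10.BlockSMT2 Cfsg.Agent.H10.BlockKer Cfsg.Agent.H10.BlockNormal
open scoped ComplexConjugate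

universe u

theorem eB_eq {G : Type u} [Group G] [Fintype G] [Fintype (IrrCharacter G)] {p : ℕ} {M : Ideal AlgInt}
    (hM : IsPModular p M)
    (K : Subgroup G) [K.Normal] (hKp : ¬ p ∣ Nat.card K) (hidx : ∃ k : ℕ, K.index = p ^ k) :
    ((Nat.card K : ℂ))⁻¹ • normalSum K = eB (principalBlock M G) := by
  classical
  haveI := hM.2.1
  apply eq_eB
  intro χ
  have h0 : (Nat.card K : ℂ) ≠ 0 := Nat.cast_ne_zero.mpr Nat.card_pos.ne'
  rw [map_smul, om_normalSum, smul_eq_mul]
  by_cases h : ∀ u ∈ K, (χ : G → ℂ) u = (χ : G → ℂ) 1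
  · rw [if_pos h, if_pos (principal_of_complement hM K hKp hidx h), inv_mul_cancel₀ h0]
  · rw [if_neg h, if_neg, mul_zero]
    intro h1
    exact h (principal_ker hM K hKp h1)

theorem sum_core_zero {G : Type u} [Group G] [Fintype G] {p : ℕ} {M : Ideal AlgInt}
    (hM : IsPModular p M) {z : G} (hz : ∃ k : ℕ, orderOf z = p ^ k)
    {K : Subgroup (Subgroup.centralizer ({z} : Set G))} (hK : K.Normal) (hKp : ¬ p ∣ Nat.card K)
    (hidx : ∃ k : ℕ, K.index = p ^ k) {χ : IrrCharacter G} (hχ : χ ∉ principalBlock M G) [Fintype K] :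
    ∑ k : K, (χ : G → ℂ) (((k : Subgroup.centralizer ({z} : Set G)) : G) * z) = 0 := by
  classical
  haveI := hM.2.1
  haveI : Fact p.Prime := ⟨hM.1⟩
  haveI : Fintype (IrrCharacter G) := Fintype.ofFinite _
  haveI : Fintype (Subgroup.centralizer ({z} : Set G)) := Fintype.ofFinite _
  haveI : Fintype (IrrCharacter (Subgroup.centralizer ({z} : Set G))) := Fintype.ofFinite _
  have hpp : Cfsg.IsPPart p z z := by
    have := ppart_of_mul hz (1 : Subgroup.centralizer ({z} : Set G)) (by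
      rw [orderOf_one]; intro h; exact hM.1.one_lt.ne' (Nat.dvd_one.1 h))
    simpa using this
  have h1 := principal_section hM hpp (Cfsg.Agent.H10.Char.irr_class χ.2)
  rw [lin_eB_mul_of_notMem hχ, ← eB_eq hM K hKp hidx, lin_emb_mul_single] at h1
  have h0 : (Nat.card K : ℂ) ≠ 0 := Nat.cast_ne_zero.mpr Nat.card_pos.ne'
  have h2 : ∀ k : Subgroup.centralizer ({z} : Set G),
      ((((Nat.card K : ℂ))⁻¹ • normalSum K : ZC _) : MonoidAlgebra ℂ _).coeff k =
        (Nat.card K : ℂ)⁻¹ * (if k ∈ K then 1 else 0) := by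
    intro k
    rw [← normalSum_coeff]
    rfl
  rw [Finset.sum_congr rfl (fun k _ => by rw [h2 k, mul_assoc]), ← Finset.mul_sum] at h1
  have h3 := (mul_eq_zero.mp h1.symm).resolve_left (inv_ne_zero h0)
  have h5 : ∑ i : Subgroup.centralizer ({z} : Set G), (if i ∈ K then (1 : ℂ) else 0) * (χ : G → ℂ) ((i : G) * z) =
      ∑ i ∈ Finset.univ.filter (fun i => i ∈ K), (χ : G → ℂ) ((i : G) * z) := by
    rw [Finset.sum_filter]
    refine Finset.sum_congr rfl fun k _ => ?_
    rw [ite_mul, one_mul, zero_mul]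
  refine Eq.trans ?_ (h5.symm.trans h3)
  apply Finset.sum_bij (fun (k : K) _ => (k : Subgroup.centralizer ({z} : Set G)))
  · intro a _; rw [Finset.mem_filter]; exact ⟨Finset.mem_univ _, a.2⟩
  · intro a _ b _ h; exact Subtype.ext h
  · intro b hb
    rw [Finset.mem_filter] at hb
    exact ⟨⟨b, hb.2⟩, Finset.mem_univ _, rfl⟩
  · intro a _; rfl

/-- structure constants over a section -/
theorem section_count {G : Type u} [Group G] [Fintype G] [Fintype (IrrCharacter G)] [DecidableEq G] {p : ℕ}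
    {M : Ideal AlgInt}
    (hM : IsPModular p M) {z : G} (hz : ∃ k : ℕ, orderOf z = p ^ k)
    {K : Subgroup (Subgroup.centralizer ({z} : Set G))} (hK : K.Normal) (hKp : ¬ p ∣ Nat.card K)
    (hidx : ∃ k : ℕ, K.index = p ^ k) [Fintype K] (a b : G) :
    (∑ k : K, ((Finset.univ.filter (fun q : G × G => q.1 * a * q.1⁻¹ * (q.2 * b * q.2⁻¹) =
      ((k : Subgroup.centralizer ({z} : Set G)) : G) * z)).card : ℂ)) =
      (Nat.card G : ℂ) * (Nat.card K : ℂ) * ∑ᶠ χ ∈ principalBlock M G,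
        (χ : G → ℂ) a * (χ : G → ℂ) b * conj ((χ : G → ℂ) z) / (χ : G → ℂ) 1 := by
  classical
  haveI := hM.2.1
  haveI : Fact p.Prime := ⟨hM.1⟩
  have h1 : ∀ k : K, ((Finset.univ.filter (fun q : G × G => q.1 * a * q.1⁻¹ * (q.2 * b * q.2⁻¹) =
      ((k : Subgroup.centralizer ({z} : Set G)) : G) * z)).card : ℂ) = (Nat.card G : ℂ) *
      ∑ χ : IrrCharacter G, (χ : G → ℂ) a * (χ : G → ℂ) b *
        conj ((χ : G → ℂ) (((k : Subgroup.centralizer ({z} : Set G)) : G) * z)) / (χ : G → ℂ) 1 :=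
    fun k => Cfsg.Agent.H3.CharCalc.class_mult a b _
  rw [Finset.sum_congr rfl (fun k _ => h1 k), ← Finset.mul_sum, Finset.sum_comm, mul_assoc]
  congr 1
  rw [finsum_mem_irr, Finset.mul_sum]
  refine Finset.sum_congr rfl fun (χ : IrrCharacter G) _ => ?_
  have h2 : ∑ k : K, (χ : G → ℂ) a * (χ : G → ℂ) b *
      conj ((χ : G → ℂ) (((k : Subgroup.centralizer ({z} : Set G)) : G) * z)) / (χ : G → ℂ) 1 =
      (χ : G → ℂ) a * (χ : G → ℂ) b / (χ : G → ℂ) 1 *
        conj (∑ k : K, (χ : G → ℂ) (((k : Subgroup.centralizer ({z} : Set G)) : G) * z)) := by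
    rw [map_sum, Finset.mul_sum]
    refine Finset.sum_congr rfl fun k _ => ?_
    ring
  rw [h2]
  by_cases hχ : χ ∈ principalBlock M G
  · rw [if_pos hχ]
    have h3 : ∀ k : K, (χ : G → ℂ) (((k : Subgroup.centralizer ({z} : Set G)) : G) * z) = (χ : G → ℂ) z := by
      intro k
      have h4 := Cfsg.Agent.H10.BlockV4.singular_complement hM hz hK hKp hidx
        (k : Subgroup.centralizer ({z} : Set G)) (coprime_regular hKp k.2) hχ
      rw [← h4, Subgroup.mem_centralizer_singleton_iff.mp (k : Subgroup.centralizer ({z} : Set G)).2]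
    rw [Finset.sum_congr rfl (fun k _ => h3 k), Finset.sum_const, nsmul_eq_mul, Finset.card_univ,
      ← Nat.card_eq_fintype_card, map_mul, Complex.conj_natCast]
    ring
  · rw [if_neg hχ, sum_core_zero hM hz hK hKp hidx hχ]
    simp

end Cfsg.Agent.H4.B0Sec
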