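import Mathlib

set_option autoImplicit false

namespace Cfsg.Agent.H21.Frob

section key
variable {H V : Type*} [Group H] [CommGroup V]

/-- key identity for "Frobenius" configurations `Q⟨x⟩` acting on an abelian group `V` -/
theorem frob_key (ρ : H →* MulAut V) (Q : Subgroup H) [Fintype Q] (x : H) (h : ℕ) (hh : 0 < h)
    (hx : ∀ u ∈ Q, x * u * x⁻¹ ∈ Q)
    (hinj : ∀ i, 0 < i → i < h → ∀ u ∈ Q, x ^ i * u = u * x ^ i → u = 1)
    (hN : ∀ v, ∏ i ∈ Finset.range h, ρ (x ^ i) v = 1) (v : V) :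
    v ^ (Fintype.card Q) * ∏ i ∈ (Finset.range h).erase 0, ∏ u : Q, ρ (u * x ^ i) v = 1 := by
  classical
  have hxi : ∀ i : ℕ, ∀ u ∈ Q, x ^ i * u * (x ^ i)⁻¹ ∈ Q := by
    intro i
    induction i with
    | zero => intro u hu; simpa using hu
    | succ i ih =>
      intro u hu
      have := hx _ (ih u hu)
      have e : x ^ (i + 1) * u * (x ^ (i + 1))⁻¹ = x * (x ^ i * u * (x ^ i)⁻¹) * x⁻¹ := by
        rw [pow_succ']; group
      rw [e]; exact this
  have h1 : ∀ g : Q, ∏ i ∈ Finset.range h, ρ ((g : H) * x ^ i * (g : H)⁻¹) v = 1 := by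
    intro g
    have h2 := congrArg (ρ (g : H)) (hN (ρ ((g : H)⁻¹) v))
    rw [map_one, map_prod] at h2
    rw [← h2]
    apply Finset.prod_congr rfl
    intro i _
    rw [map_mul, map_mul, MulAut.mul_apply, MulAut.mul_apply]
  have h2 : ∏ g : Q, ∏ i ∈ Finset.range h, ρ ((g : H) * x ^ i * (g : H)⁻¹) v = 1 :=
    Finset.prod_eq_one (fun g _ => h1 g)
  rw [Finset.prod_comm, ← Finset.mul_prod_erase _ _ (Finset.mem_range.mpr hh)] at h2
  have h3 : ∏ g : Q, ρ ((g : H) * x ^ 0 * (g : H)⁻¹) v = v ^ Fintype.card Q := by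
    have : ∀ g : Q, ρ ((g : H) * x ^ 0 * (g : H)⁻¹) v = v := by
      intro g
      rw [pow_zero, mul_one, mul_inv_cancel, map_one, MulAut.one_apply]
    simp_rw [this]
    rw [Finset.prod_const, Finset.card_univ]
  rw [h3] at h2
  rw [← h2]
  congr 1
  apply Finset.prod_congr rfl
  intro i hi
  rw [Finset.mem_erase, Finset.mem_range] at hi
  let e : Q → Q := fun g => ⟨(g : H) * (x ^ i * (g : H)⁻¹ * (x ^ i)⁻¹), Q.mul_mem g.2 (hxi i _ (Q.inv_mem g.2))⟩
  have he : Function.Injective e := by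
    intro g g' hgg
    have h4 : (g : H) * (x ^ i * (g : H)⁻¹ * (x ^ i)⁻¹) = (g' : H) * (x ^ i * (g' : H)⁻¹ * (x ^ i)⁻¹) :=
      congrArg Subtype.val hgg
    have h5 : (g' : H)⁻¹ * g = 1 := by
      apply hinj i (Nat.pos_of_ne_zero hi.1) hi.2 _ (Q.mul_mem (Q.inv_mem g'.2) g.2)
      have h6 := congrArg (fun w => (g' : H)⁻¹ * w * x ^ i * g) h4
      calc x ^ i * ((g' : H)⁻¹ * g) = (g' : H)⁻¹ * (g' * (x ^ i * (g' : H)⁻¹ * (x ^ i)⁻¹)) * x ^ i * g := by group
        _ = (g' : H)⁻¹ * (g * (x ^ i * (g : H)⁻¹ * (x ^ i)⁻¹)) * x ^ i * g := h6.symm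
        _ = (g' : H)⁻¹ * g * x ^ i := by group
    exact Subtype.ext (inv_mul_eq_one.mp h5).symm
  have heb : Function.Bijective e := Finite.injective_iff_bijective.mp he
  symm
  apply Fintype.prod_bijective e heb
  intro g
  congr 1
  congr 1
  change (g : H) * x ^ i * (g : H)⁻¹ = (g : H) * (x ^ i * (g : H)⁻¹ * (x ^ i)⁻¹) * x ^ i
  group

/-- if also the norm of `Q` is trivial then `v ^ |Q| = 1` -/
theorem frob_pow (ρ : H →* MulAut V) (Q : Subgroup H) [Fintype Q] (x : H) (h : ℕ) (hh : 0 < h)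
    (hx : ∀ u ∈ Q, x * u * x⁻¹ ∈ Q)
    (hinj : ∀ i, 0 < i → i < h → ∀ u ∈ Q, x ^ i * u = u * x ^ i → u = 1)
    (hN : ∀ v, ∏ i ∈ Finset.range h, ρ (x ^ i) v = 1)
    (hQ : ∀ v, ∏ u : Q, ρ (u : H) v = 1) (v : V) : v ^ (Fintype.card Q) = 1 := by
  have h1 := frob_key ρ Q x h hh hx hinj hN v
  rw [Finset.prod_eq_one, mul_one] at h1
  · exact h1
  · intro i _
    have := hQ (ρ (x ^ i) v)
    rw [← this]
    apply Finset.prod_congr rfl
    intro u _
    rw [map_mul, MulAut.mul_apply]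

/-- `v ^ |Q|` is fixed by `Q`. -/
theorem frob_fixed (ρ : H →* MulAut V) (Q : Subgroup H) [Fintype Q] (x : H) (h : ℕ) (hh : 0 < h)
    (hx : ∀ u ∈ Q, x * u * x⁻¹ ∈ Q)
    (hinj : ∀ i, 0 < i → i < h → ∀ u ∈ Q, x ^ i * u = u * x ^ i → u = 1)
    (hN : ∀ v, ∏ i ∈ Finset.range h, ρ (x ^ i) v = 1) (v : V) :
    ∀ w ∈ Q, ρ w (v ^ (Fintype.card Q)) = v ^ (Fintype.card Q) := by
  intro w hw
  have h1 := frob_key ρ Q x h hh hx hinj hN v
  rw [mul_eq_one_iff_eq_inv] at h1
  rw [h1, map_inv, map_prod]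
  congr 1
  apply Finset.prod_congr rfl
  intro i _
  rw [map_prod]
  have hb : Function.Bijective (fun u : Q => (⟨w, hw⟩ : Q) * u) := Group.mulLeft_bijective _
  apply Fintype.prod_bijective _ hb
  intro u
  rw [← MulAut.mul_apply, ← map_mul, ← mul_assoc]
  rfl

/-- norms over a finite group are fixed -/
theorem norm_fixed (ρ : H →* MulAut V) (Q : Subgroup H) [Fintype Q] (v : V) :
    ∀ w ∈ Q, ρ w (∏ u : Q, ρ (u : H) v) = ∏ u : Q, ρ (u : H) v := by
  intro w hw
  rw [map_prod]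
  have hb : Function.Bijective (fun u : Q => (⟨w, hw⟩ : Q) * u) := Group.mulLeft_bijective _
  apply Fintype.prod_bijective _ hb
  intro u
  rw [← MulAut.mul_apply, ← map_mul]
  rfl

/-- norms over a cyclic group are fixed -/
theorem cyc_fixed (ρ : H →* MulAut V) (x : H) (h : ℕ) (hxh : x ^ h = 1) (v : V) :
    ρ x (∏ i ∈ Finset.range h, ρ (x ^ i) v) = ∏ i ∈ Finset.range h, ρ (x ^ i) v := by
  rw [map_prod]
  have h1 : ∀ i, ρ x (ρ (x ^ i) v) = ρ (x ^ (i + 1)) v := by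
    intro i
    rw [← MulAut.mul_apply, ← map_mul, pow_succ']
  simp_rw [h1]
  have h2 := Finset.prod_range_succ (fun i => ρ (x ^ i) v) h
  have h3 := Finset.prod_range_succ' (fun i => ρ (x ^ i) v) h
  rw [h2] at h3
  rw [hxh, pow_zero] at h3
  exact (mul_right_cancel h3).symm

end key

section internal
variable {G : Type*} [Group G] [Finite G]

open Subgroup in
/-- internal version: `Q⟨x⟩` Frobenius acting with `Q`, `x` fixed point freely and coprimely on the
abelian group `V` forces `V = 1`. -/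
theorem frob_internal (V Q : Subgroup G) (hV : ∀ a ∈ V, ∀ b ∈ V, a * b = b * a)
    (hQV : Q ≤ normalizer (V : Set G)) (x : G) (hxV : x ∈ normalizer (V : Set G)) (h : ℕ) (hh : 0 < h)
    (hxh : x ^ h = 1) (hx : ∀ u ∈ Q, x * u * x⁻¹ ∈ Q)
    (hinj : ∀ i, 0 < i → i < h → ∀ u ∈ Q, x ^ i * u = u * x ^ i → u = 1)
    (hxf : ∀ v ∈ V, x * v * x⁻¹ = v → v = 1) (hQf : ∀ v ∈ V, (∀ u ∈ Q, u * v * u⁻¹ = v) → v = 1)
    (hcop : (Nat.card Q).Coprime (Nat.card V)) : V = ⊥ := by
  classical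
  letI cg : CommGroup V := { (inferInstance : Group V) with mul_comm := fun a b => Subtype.ext (hV a a.2 b b.2) }
  let ρ : (normalizer (V : Set G)) →* MulAut V := V.normalizerMonoidHom
  have hρ : ∀ (g : normalizer (V : Set G)) (v : V), ((ρ g v : V) : G) = g * v * (g : G)⁻¹ := fun g v => rfl
  let Q' : Subgroup (normalizer (V : Set G)) := Q.subgroupOf _
  haveI : Fintype Q' := Fintype.ofFinite _
  have hcard : Fintype.card Q' = Nat.card Q := by
    rw [← Nat.card_eq_fintype_card]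
    exact Nat.card_congr (Subgroup.subgroupOfEquivOfLe hQV).toEquiv
  have h1 : ∀ v : V, v ^ (Fintype.card Q') = 1 := by
    apply frob_pow ρ Q' ⟨x, hxV⟩ h hh
    · intro u hu
      exact hx u hu
    · intro i hi hih u hu hux
      apply Subtype.ext
      exact hinj i hi hih u hu (congrArg Subtype.val hux)
    · intro v
      have h2 := cyc_fixed ρ ⟨x, hxV⟩ h (Subtype.ext hxh) v
      have h3 := congrArg Subtype.val h2
      rw [hρ] at h3
      exact Subtype.ext (hxf _ (Subtype.property _) h3)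
    · intro v
      have h2 := norm_fixed ρ Q' v
      apply Subtype.ext
      apply hQf _ (Subtype.property _)
      intro u hu
      have h3 := congrArg Subtype.val (h2 ⟨u, hQV hu⟩ hu)
      rw [hρ] at h3
      exact h3
  rw [eq_bot_iff]
  intro v hv
  have h2 := h1 ⟨v, hv⟩
  rw [hcard] at h2
  have h3 : orderOf (⟨v, hv⟩ : V) ∣ Nat.card Q := orderOf_dvd_of_pow_eq_one h2
  have h4 : orderOf (⟨v, hv⟩ : V) ∣ Nat.card V := orderOf_dvd_natCard _
  have h5 := Nat.eq_one_of_dvd_coprimes hcop h3 h4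
  rw [orderOf_eq_one_iff] at h5
  rw [Subgroup.mem_bot]
  exact congrArg Subtype.val h5

end internal

/-- commuting elements with orders divisible by distinct primes -/
theorem exists_orderOf_mul {G : Type*} [Group G] [Finite G] {x y : G} (hxy : x * y = y * x) {p q : ℕ} (hp : p.Prime)
    (hq : q.Prime) (hpq : p ≠ q) (hx : p ∣ orderOf x) (hy : q ∣ orderOf y) : ∃ z : G, orderOf z = p * q := by
  have hx0 : orderOf x ≠ 0 := (orderOf_pos x).ne'
  have hy0 : orderOf y ≠ 0 := (orderOf_pos y).ne'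
  refine ⟨x ^ (orderOf x / p) * y ^ (orderOf y / q), ?_⟩
  have hc : Commute (x ^ (orderOf x / p)) (y ^ (orderOf y / q)) := (show Commute x y from hxy).pow_pow _ _
  have h1 : orderOf (x ^ (orderOf x / p)) = p := orderOf_pow_orderOf_div hx0 hx
  have h2 : orderOf (y ^ (orderOf y / q)) = q := orderOf_pow_orderOf_div hy0 hy
  rw [hc.orderOf_mul_eq_mul_orderOf_of_coprime, h1, h2]
  rw [h1, h2]
  exact (Nat.coprime_primes hp hq).mpr hpq

/-- lifting element orders from quotients -/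
theorem exists_orderOf_of_quotient {G : Type*} [Group G] [Finite G] (N : Subgroup G) [N.Normal] {n : ℕ}
    (h : ∃ x : G ⧸ N, orderOf x = n) : ∃ x : G, orderOf x = n := by
  obtain ⟨x, hx⟩ := h
  obtain ⟨g, rfl⟩ := QuotientGroup.mk_surjective x
  have h1 : n ∣ orderOf g := by rw [← hx]; exact orderOf_map_dvd (QuotientGroup.mk' N) g
  have hg0 : orderOf g ≠ 0 := (orderOf_pos g).ne'
  exact ⟨_, orderOf_pow_orderOf_div hg0 h1⟩

theorem exists_orderOf_of_subgroup {G : Type*} [Group G] {N : Subgroup G} {n : ℕ}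
    (h : ∃ x : N, orderOf x = n) : ∃ x : G, orderOf x = n := by
  obtain ⟨x, hx⟩ := h
  exact ⟨x, by rw [Subgroup.orderOf_coe, hx]⟩

end Cfsg.Agent.H21.Frob
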