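import Mathlib

set_option autoImplicit false

namespace Cfsg.Agent.H21.MinNorm

variable {G : Type*} [Group G]

/-- conjugate subgroup `g T g⁻¹` -/
def cj (g : G) (T : Subgroup G) : Subgroup G := T.map (MulAut.conj g).toMonoidHom

theorem mem_cj {g : G} {T : Subgroup G} {x : G} : x ∈ cj g T ↔ g⁻¹ * x * g ∈ T := by
  constructor
  · rintro ⟨t, ht, rfl⟩
    have : g⁻¹ * (MulAut.conj g).toMonoidHom t * g = t := by simp [mul_assoc]
    rw [this]; exact ht
  · intro h
    refine ⟨g⁻¹ * x * g, h, by simp [mul_assoc]⟩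

theorem cj_mem {g : G} {T : Subgroup G} {t : G} (ht : t ∈ T) : g * t * g⁻¹ ∈ cj g T := by
  rw [mem_cj]; simpa [mul_assoc] using ht

theorem cj_one (T : Subgroup G) : cj 1 T = T := by
  ext x; simp [mem_cj]

theorem cj_mul (g h : G) (T : Subgroup G) : cj (g * h) T = cj g (cj h T) := by
  ext x; simp [mem_cj, mul_assoc]

theorem card_cj (g : G) (T : Subgroup G) : Nat.card (cj g T) = Nat.card T :=
  Subgroup.card_map_of_injective (MulAut.conj g).injective

/-- the isomorphism between a subgroup and its conjugate -/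
noncomputable def cjEquiv (g : G) (T : Subgroup G) : T ≃* cj g T :=
  T.equivMapOfInjective _ (MulAut.conj g).injective

/-- the predicate: nontrivial subgroup of `N` normalized by `N`. -/
def NS (N T : Subgroup G) : Prop := T ≤ N ∧ T ≠ ⊥ ∧ ∀ n ∈ N, ∀ t ∈ T, n * t * n⁻¹ ∈ T

theorem NS.cj {N T : Subgroup G} (hN : N.Normal) (h : NS N T) (g : G) : NS N (cj g T) := by
  refine ⟨?_, ?_, ?_⟩
  · intro x hx
    rw [mem_cj] at hx
    have := hN.conj_mem _ (h.1 hx) g
    simpa [mul_assoc] using this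
  · intro hb
    apply h.2.1
    rw [eq_bot_iff]
    intro t ht
    have := cj_mem (g := g) ht
    rw [hb, Subgroup.mem_bot] at this
    rw [Subgroup.mem_bot]
    have h2 : t = g⁻¹ * (g * t * g⁻¹) * g := by group
    rw [h2, this]; group
  · intro n hn x hx
    rw [mem_cj] at hx ⊢
    have hn' : g⁻¹ * n * g ∈ N := by
      have := hN.conj_mem _ hn g⁻¹
      simpa using this
    have := h.2.2 _ hn' _ hx
    have e : g⁻¹ * (n * x * n⁻¹) * g = g⁻¹ * n * g * (g⁻¹ * x * g) * (g⁻¹ * n * g)⁻¹ := by group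
    rw [e]; exact this

/-- minimal such -/
def MS (N T : Subgroup G) : Prop := NS N T ∧ ∀ K : Subgroup G, K ≤ T → (∀ n ∈ N, ∀ t ∈ K, n * t * n⁻¹ ∈ K) → K = ⊥ ∨ K = T

theorem exists_MS [Finite G] {N : Subgroup G} (hN1 : N ≠ ⊥) : ∃ T, MS N T := by
  classical
  have hex : ∃ n : ℕ, ∃ T : Subgroup G, NS N T ∧ Nat.card T = n :=
    ⟨_, N, ⟨le_refl _, hN1, fun n hn t ht => N.mul_mem (N.mul_mem hn ht) (N.inv_mem hn)⟩, rfl⟩
  obtain ⟨T, hT, hTc⟩ := Nat.find_spec hex
  refine ⟨T, hT, ?_⟩
  intro K hK hKn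
  by_cases hKb : K = ⊥
  · exact Or.inl hKb
  · right
    have h1 := Nat.find_min' hex ⟨K, ⟨hK.trans hT.1, hKb, hKn⟩, rfl⟩
    exact Subgroup.eq_of_le_of_card_ge hK (by rw [hTc]; exact h1)

theorem MS.cj {N T : Subgroup G} (hN : N.Normal) (h : MS N T) (g : G) : MS N (cj g T) := by
  refine ⟨h.1.cj hN g, ?_⟩
  intro K hK hKn
  have e1 : MinNorm.cj g (MinNorm.cj g⁻¹ K) = K := by rw [← cj_mul, mul_inv_cancel, cj_one]
  have h1 : MinNorm.cj g⁻¹ K ≤ T := by
    intro x hx
    rw [mem_cj] at hx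
    have := hK hx
    rw [mem_cj] at this
    simpa [mul_assoc] using this
  have h2 : ∀ n ∈ N, ∀ t ∈ MinNorm.cj g⁻¹ K, n * t * n⁻¹ ∈ MinNorm.cj g⁻¹ K := by
    intro n hn t ht
    rw [mem_cj] at ht ⊢
    rw [inv_inv] at ht ⊢
    have hn' : g * n * g⁻¹ ∈ N := hN.conj_mem _ hn g
    have := hKn _ hn' _ ht
    have e : g * (n * t * n⁻¹) * g⁻¹ = g * n * g⁻¹ * (g * t * g⁻¹) * (g * n * g⁻¹)⁻¹ := by group
    rw [e]; exact this
  rcases h.2 _ h1 h2 with h3 | h3
  · left
    rw [← e1, h3]
    ext x; simp [mem_cj, Subgroup.mem_bot]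
    constructor
    · intro h; have := congrArg (fun y => g * y * g⁻¹) h; simpa [mul_assoc] using this
    · intro h; rw [h]; group
  · right; rw [← e1, h3]

/-- two different minimal ones intersect trivially and commute -/
theorem MS.disj {N S T : Subgroup G} (hS : MS N S) (hT : MS N T) (hne : S ≠ T) :
    S ⊓ T = ⊥ ∧ ∀ s ∈ S, ∀ t ∈ T, s * t = t * s := by
  have h1 : S ⊓ T = ⊥ := by
    have hn : ∀ n ∈ N, ∀ t ∈ S ⊓ T, n * t * n⁻¹ ∈ S ⊓ T := fun n hn t ht =>
      ⟨hS.1.2.2 n hn t ht.1, hT.1.2.2 n hn t ht.2⟩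
    rcases hS.2 _ inf_le_left hn with h | h
    · exact h
    · rcases hT.2 _ inf_le_right hn with h' | h'
      · exact h'
      · exact absurd (h.symm.trans h') hne
  refine ⟨h1, ?_⟩
  intro s hs t ht
  have h2 : s * t * s⁻¹ * t⁻¹ ∈ S ⊓ T := by
    constructor
    · have e : s * t * s⁻¹ * t⁻¹ = s * (t * s⁻¹ * t⁻¹) := by group
      rw [e]
      exact S.mul_mem hs (hS.1.2.2 t (hT.1.1 ht) _ (S.inv_mem hs))
    · exact T.mul_mem (hT.1.2.2 s (hS.1.1 hs) _ ht) (T.inv_mem ht)
  rw [h1, Subgroup.mem_bot] at h2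
  have := mul_inv_eq_one.mp h2
  calc s * t = (s * t * s⁻¹) * s := by group
    _ = t * s := by rw [this]

/-- A minimal normal subgroup is generated by the conjugates of any nontrivial subgroup. -/
theorem iSup_cj {N T : Subgroup G} (hN : N.Normal)
    (hmin : ∀ M : Subgroup G, M.Normal → M ≤ N → M = ⊥ ∨ M = N) (hT1 : T ≠ ⊥) (hTN : T ≤ N) :
    (⨆ g : G, cj g T) = N := by
  have hnorm : (⨆ g : G, cj g T).Normal := by
    constructor
    intro n hn x
    have hle : (⨆ g : G, cj g T) ≤ cj x⁻¹ (⨆ g : G, cj g T) := by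
      rw [iSup_le_iff]
      intro g y hy
      rw [mem_cj, inv_inv]
      have : x * y * x⁻¹ ∈ cj (x * g) T := by
        rw [cj_mul]; exact cj_mem hy
      exact (le_iSup (fun g => cj g T) (x * g)) this
    have := hle hn
    rw [mem_cj, inv_inv] at this
    exact this
  have hle : (⨆ g : G, cj g T) ≤ N := by
    rw [iSup_le_iff]
    intro g x hx
    rw [mem_cj] at hx
    have := hN.conj_mem _ (hTN hx) g
    simpa [mul_assoc] using this
  rcases hmin _ hnorm hle with h | h
  · exfalso; apply hT1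
    rw [eq_bot_iff]
    intro t ht
    rw [← h]
    apply (le_iSup (fun g => cj g T) 1)
    rw [cj_one]; exact ht
  · exact h

theorem mem_of_commute_gens {N : Subgroup G} {ι : Type*} (F : ι → Subgroup G) (hF : (⨆ i, F i) = N)
    (C : Subgroup G) (h : ∀ i, F i ≤ C) : N ≤ C := by
  rw [← hF, iSup_le_iff]; exact h

/-- Structure of minimal normal subgroups (weak form). -/
theorem structure_weak [Finite G] {N : Subgroup G} (hN : N.Normal) (hN1 : N ≠ ⊥)
    (hmin : ∀ M : Subgroup G, M.Normal → M ≤ N → M = ⊥ ∨ M = N) :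
    (∀ x ∈ N, ∀ y ∈ N, x * y = y * x) ∨
    ∃ T : Subgroup G, MS N T ∧ IsSimpleGroup T ∧ (∃ x ∈ T, ∃ y ∈ T, x * y ≠ y * x) ∧
      (⨆ g : G, cj g T) = N ∧
      ∀ g : G, cj g T ≠ T → (cj g T ⊓ T = ⊥ ∧ ∀ s ∈ cj g T, ∀ t ∈ T, s * t = t * s) := by
  classical
  obtain ⟨T, hT⟩ := exists_MS hN1
  have hsup := iSup_cj hN hmin hT.1.2.1 hT.1.1
  by_cases hab : ∀ x ∈ T, ∀ y ∈ T, x * y = y * x
  · left
    -- all conjugates commute pairwise
    have h1 : ∀ g h : G, ∀ x ∈ cj g T, ∀ y ∈ cj h T, x * y = y * x := by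
      intro g h x hx y hy
      by_cases he : cj g T = cj h T
      · rw [← he] at hy
        rw [mem_cj] at hx hy
        have := hab _ hx _ hy
        have e := congrArg (fun z => g * z * g⁻¹) this
        simpa [mul_assoc] using e
      · exact ((hT.cj hN g).disj (hT.cj hN h) he).2 x hx y hy
    have h2 : ∀ g : G, ∀ x ∈ cj g T, ∀ y ∈ N, x * y = y * x := by
      intro g x hx y hy
      have : N ≤ Subgroup.centralizer {x} := by
        apply mem_of_commute_gens _ hsup
        intro h z hz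
        rw [Subgroup.mem_centralizer_singleton_iff]
        exact (h1 g h x hx z hz).symm
      have := this hy
      rw [Subgroup.mem_centralizer_singleton_iff] at this
      exact this.symm
    intro x hx y hy
    have : N ≤ Subgroup.centralizer {y} := by
      apply mem_of_commute_gens _ hsup
      intro h z hz
      rw [Subgroup.mem_centralizer_singleton_iff]
      exact h2 h z hz y hy
    have := this hx
    rw [Subgroup.mem_centralizer_singleton_iff] at this
    exact this
  · right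
    push Not at hab
    obtain ⟨x, hx, y, hy, hxy⟩ := hab
    refine ⟨T, hT, ?_, ⟨x, hx, y, hy, hxy⟩, hsup, ?_⟩
    · -- simple
      haveI : Nontrivial T := (Subgroup.nontrivial_iff_ne_bot T).mpr hT.1.2.1
      refine ⟨?_⟩
      intro K hK
      -- K mapped to G is normalized by N
      have hKmap : ∀ n ∈ N, ∀ t ∈ K.map T.subtype, n * t * n⁻¹ ∈ K.map T.subtype := by
        have hle : N ≤ Subgroup.normalizer ((K.map T.subtype : Subgroup G) : Set G) := by
          apply mem_of_commute_gens _ hsup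
          intro g z hz
          by_cases he : cj g T = T
          · rw [he] at hz
            rw [Subgroup.mem_normalizer_iff]
            intro w
            constructor
            · rintro ⟨k, hk, rfl⟩
              exact ⟨⟨z, hz⟩ * k * ⟨z, hz⟩⁻¹, hK.conj_mem k hk _, rfl⟩
            · rintro ⟨k, hk, hkw⟩
              refine ⟨⟨z, hz⟩⁻¹ * k * ⟨z, hz⟩, ?_, ?_⟩
              · have := hK.conj_mem k hk ⟨z, hz⟩⁻¹
                rwa [inv_inv] at this
              · have : (k : G) = z * w * z⁻¹ := hkw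
                change z⁻¹ * (k : G) * z = w
                rw [this]; group
          · have hcomm := ((hT.cj hN g).disj hT he).2 z hz
            rw [Subgroup.mem_normalizer_iff]
            intro w
            constructor
            · rintro ⟨k, hk, rfl⟩
              have : z * (T.subtype k) * z⁻¹ = T.subtype k := by
                have := hcomm k k.2
                change z * (k : G) * z⁻¹ = k
                rw [this]; group
              rw [this]; exact ⟨k, hk, rfl⟩
            · rintro ⟨k, hk, hkw⟩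
              have : w = (k : G) := by
                have h1 : (k : G) = z * w * z⁻¹ := hkw
                have h2 := hcomm k k.2
                have h3 : w = z⁻¹ * (k : G) * z := by rw [h1]; group
                rw [h3, mul_assoc, ← h2]; group
              rw [this]; exact ⟨k, hk, rfl⟩
        intro n hn t ht
        exact (Subgroup.mem_normalizer_iff.mp (hle hn) t).mp ht
      rcases hT.2 _ (Subgroup.map_subtype_le K) hKmap with h | h
      · left
        rwa [Subgroup.map_eq_bot_iff_of_injective _ T.subtype_injective] at h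
      · right
        rw [eq_top_iff]
        intro t _
        have ht : (t : G) ∈ K.map T.subtype := by rw [h]; exact t.2
        obtain ⟨k, hk, hkt⟩ := ht
        have : k = t := Subtype.ext hkt
        rwa [← this]
    · intro g hg
      exact (hT.cj hN g).disj hT hg

/-- centralizer of a nonabelian simple `T` meets `T` trivially -/
theorem inf_centralizer_eq_bot {T : Subgroup G} (hs : IsSimpleGroup T) (hna : ∃ x ∈ T, ∃ y ∈ T, x * y ≠ y * x)
    {t : G} (ht : t ∈ T) (hc : ∀ s ∈ T, s * t = t * s) : t = 1 := by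
  have h1 : (⟨t, ht⟩ : T) ∈ Subgroup.center T := by
    rw [Subgroup.mem_center_iff]
    intro s
    exact Subtype.ext (hc s s.2)
  have h2 : Subgroup.center T = ⊥ := by
    rcases hs.eq_bot_or_eq_top_of_normal (Subgroup.center T) inferInstance with h | h
    · exact h
    · exfalso
      obtain ⟨x, hx, y, hy, hxy⟩ := hna
      apply hxy
      have : (⟨y, hy⟩ : T) ∈ Subgroup.center T := by rw [h]; trivial
      rw [Subgroup.mem_center_iff] at this
      exact congrArg Subtype.val (this ⟨x, hx⟩)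
  rw [h2, Subgroup.mem_bot] at h1
  exact congrArg Subtype.val h1

/-- Minimal normal subgroups exist inside every nontrivial normal subgroup. -/
theorem exists_minimal [Finite G] {K : Subgroup G} (hK : K.Normal) (hK1 : K ≠ ⊥) :
    ∃ N : Subgroup G, N.Normal ∧ N ≠ ⊥ ∧ N ≤ K ∧ ∀ M : Subgroup G, M.Normal → M ≤ N → M = ⊥ ∨ M = N := by
  classical
  have hex : ∃ n : ℕ, ∃ N : Subgroup G, (N.Normal ∧ N ≠ ⊥ ∧ N ≤ K) ∧ Nat.card N = n :=
    ⟨_, K, ⟨hK, hK1, le_refl _⟩, rfl⟩
  obtain ⟨N, hN, hNc⟩ := Nat.find_spec hex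
  refine ⟨N, hN.1, hN.2.1, hN.2.2, ?_⟩
  intro M hM hMN
  by_cases hMb : M = ⊥
  · exact Or.inl hMb
  · right
    have h1 := Nat.find_min' hex ⟨M, ⟨hM, hMb, hMN.trans hN.2.2⟩, rfl⟩
    exact Subgroup.eq_of_le_of_card_ge hMN (by rw [hNc]; exact h1)

/-- abelian minimal normal subgroups are elementary abelian -/
theorem elementary_of_abelian [Finite G] {N : Subgroup G} (hN : N.Normal) (hN1 : N ≠ ⊥)
    (hmin : ∀ M : Subgroup G, M.Normal → M ≤ N → M = ⊥ ∨ M = N)
    (hab : ∀ x ∈ N, ∀ y ∈ N, x * y = y * x) : ∃ r : ℕ, r.Prime ∧ ∀ x ∈ N, x ^ r = 1 := by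
  classical
  have hc : Nat.card N ≠ 1 := fun h => hN1 (Subgroup.card_eq_one.mp h)
  obtain ⟨r, hr, hrd⟩ := Nat.exists_prime_and_dvd hc
  haveI : Fact r.Prime := ⟨hr⟩
  obtain ⟨y, hy⟩ := exists_prime_orderOf_dvd_card' (G := N) r hrd
  refine ⟨r, hr, ?_⟩
  let M : Subgroup G :=
    { carrier := {x | x ∈ N ∧ x ^ r = 1}
      mul_mem' := by
        rintro a b ⟨ha, ha1⟩ ⟨hb, hb1⟩
        refine ⟨N.mul_mem ha hb, ?_⟩
        have : Commute a b := hab a ha b hb
        rw [this.mul_pow, ha1, hb1, one_mul]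
      one_mem' := ⟨N.one_mem, one_pow _⟩
      inv_mem' := by
        rintro a ⟨ha, ha1⟩
        exact ⟨N.inv_mem ha, by rw [inv_pow, ha1, inv_one]⟩ }
  have hMn : M.Normal := by
    constructor
    rintro a ⟨ha, ha1⟩ g
    refine ⟨hN.conj_mem a ha g, ?_⟩
    rw [conj_pow, ha1]; group
  have hMN : M ≤ N := fun x hx => hx.1
  rcases hmin M hMn hMN with h | h
  · exfalso
    have : (y : G) ∈ M := ⟨y.2, by
      have := pow_orderOf_eq_one y
      rw [hy] at this
      exact_mod_cast congrArg Subtype.val this⟩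
    rw [h, Subgroup.mem_bot] at this
    have h1 : y = 1 := Subtype.ext this
    rw [h1, orderOf_one] at hy
    exact hr.one_lt.ne hy
  · intro x hx
    rw [← h] at hx
    exact hx.2

end Cfsg.Agent.H21.MinNorm
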