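import Mathlib
import Cfsg.Agent.H21_MinNorm

set_option autoImplicit false

namespace Cfsg.Agent.H21.Socle

open H21.MinNorm

variable {G : Type*} [Group G]

/-- direct product of pairwise commuting nonabelian simple subgroups. -/
theorem pi_equiv {ι : Type*} [Finite ι] (F : ι → Subgroup G)
    (hcomm : Pairwise fun i j => ∀ x y : G, x ∈ F i → y ∈ F j → Commute x y)
    (hs : ∀ i, IsSimpleGroup (F i)) (hna : ∀ i, ∃ x ∈ F i, ∃ y ∈ F i, x * y ≠ y * x) :
    Nonempty ((∀ i, F i) ≃* (⨆ i, F i : Subgroup G)) := by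
  classical
  haveI := Fintype.ofFinite ι
  have hind : iSupIndep F := by
    intro i
    rw [disjoint_iff, eq_bot_iff]
    intro t ht
    rw [Subgroup.mem_bot]
    refine inf_centralizer_eq_bot (hs i) (hna i) ht.1 ?_
    intro s hs'
    have hle : (⨆ j, ⨆ (_ : j ≠ i), F j) ≤ Subgroup.centralizer {s} := by
      refine iSup_le fun j => iSup_le fun hj => ?_
      intro y hy
      rw [Subgroup.mem_centralizer_singleton_iff]
      exact (hcomm hj y s hy hs')
    have := hle ht.2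
    rw [Subgroup.mem_centralizer_singleton_iff] at this
    exact this.symm
  have hinj := Subgroup.injective_noncommPiCoprod_of_iSupIndep (hcomm := hcomm) hind
  have hr := Subgroup.noncommPiCoprod_range (H := F) (hcomm := hcomm)
  refine ⟨(MonoidHom.ofInjective hinj).trans (MulEquiv.subgroupCongr hr)⟩

/-- transfer of a finite group to `Type` -/
theorem exists_small (T : Type*) [Group T] [Finite T] :
    ∃ (T0 : Type) (_ : Group T0), Nonempty (T0 ≃* T) := by
  let e := (Finite.equivFin T).symm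
  letI : Group (Fin (Nat.card T)) := e.group
  exact ⟨Fin (Nat.card T), inferInstance, ⟨e.mulEquiv⟩⟩

/-- the minimal normal subgroup as a power of a simple group. -/
theorem minNormal_equiv [Finite G] {N T : Subgroup G} (hN : N.Normal) (hMS : MS N T)
    (hs : IsSimpleGroup T) (hna : ∃ x ∈ T, ∃ y ∈ T, x * y ≠ y * x) (hsup : (⨆ g : G, cj g T) = N) :
    ∃ m : ℕ, 1 ≤ m ∧ Nonempty ((Fin m → T) ≃* N) := by
  classical
  let ι := {S : Subgroup G // ∃ g, cj g T = S}
  haveI : Finite ι := Subtype.finite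
  let F : ι → Subgroup G := Subtype.val
  have hF : (⨆ i, F i) = N := by
    rw [← hsup]
    apply le_antisymm
    · refine iSup_le ?_
      rintro ⟨S, g, rfl⟩
      exact le_iSup (fun g => cj g T) g
    · refine iSup_le fun g => ?_
      exact le_iSup F ⟨cj g T, g, rfl⟩
  have hT : ∀ i : ι, Nonempty (T ≃* F i) := by
    rintro ⟨S, g, rfl⟩
    exact ⟨cjEquiv g T⟩
  have hcomm : Pairwise fun i j => ∀ x y : G, x ∈ F i → y ∈ F j → Commute x y := by
    rintro ⟨S, g, rfl⟩ ⟨S', g', rfl⟩ hne x y hx hy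
    have hne' : cj g T ≠ cj g' T := fun h => hne (Subtype.ext h)
    exact ((hMS.cj hN g).disj (hMS.cj hN g') hne').2 x hx y hy
  have hs' : ∀ i, IsSimpleGroup (F i) := by
    intro i
    obtain ⟨e⟩ := hT i
    exact (MulEquiv.isSimpleGroup_congr e).mp hs
  have hna' : ∀ i, ∃ x ∈ F i, ∃ y ∈ F i, x * y ≠ y * x := by
    intro i
    obtain ⟨e⟩ := hT i
    obtain ⟨x, hx, y, hy, hxy⟩ := hna
    refine ⟨e ⟨x, hx⟩, (e ⟨x, hx⟩).2, e ⟨y, hy⟩, (e ⟨y, hy⟩).2, ?_⟩
    intro h
    apply hxy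
    have h1 : e ⟨x, hx⟩ * e ⟨y, hy⟩ = e ⟨y, hy⟩ * e ⟨x, hx⟩ := Subtype.ext h
    rw [← map_mul, ← map_mul] at h1
    exact congrArg Subtype.val (e.injective h1)
  obtain ⟨e1⟩ := pi_equiv F hcomm hs' hna'
  have e2 : (∀ i : ι, T) ≃* (∀ i, F i) := MulEquiv.piCongrRight fun i => (hT i).some
  have e3 : (Fin (Nat.card ι) → T) ≃* (ι → T) := MulEquiv.arrowCongr (Finite.equivFin ι).symm (MulEquiv.refl T)
  haveI : Nonempty ι := ⟨⟨T, 1, cj_one T⟩⟩
  refine ⟨Nat.card ι, Nat.card_pos, ⟨(e3.trans e2).trans (e1.trans (MulEquiv.subgroupCongr hF))⟩⟩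

end Cfsg.Agent.H21.Socle
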