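import Mathlib
import Cfsg.Agent.H21_Frob
import Cfsg.Agent.H21_Socle

set_option autoImplicit false

namespace Cfsg.Agent.H21.PG

open H21.Frob

/-- same prime graph -/
def SameGraph (G H : Type*) [Group G] [Group H] : Prop :=
  (∀ p : ℕ, p.Prime → (p ∣ Nat.card G ↔ p ∣ Nat.card H)) ∧
  (∀ p q : ℕ, p.Prime → q.Prime → p ≠ q → ((∃ g : G, orderOf g = p * q) ↔ (∃ g : H, orderOf g = p * q)))

theorem SameGraph.trans {G H K : Type*} [Group G] [Group H] [Group K] (h1 : SameGraph G H) (h2 : SameGraph H K) :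
    SameGraph G K :=
  ⟨fun p hp => (h1.1 p hp).trans (h2.1 p hp), fun p q hp hq hpq => (h1.2 p q hp hq hpq).trans (h2.2 p q hp hq hpq)⟩

theorem SameGraph.symm {G H : Type*} [Group G] [Group H] (h1 : SameGraph G H) : SameGraph H G :=
  ⟨fun p hp => (h1.1 p hp).symm, fun p q hp hq hpq => (h1.2 p q hp hq hpq).symm⟩

theorem SameGraph.of_equiv {G H : Type*} [Group G] [Group H] (e : G ≃* H) : SameGraph G H := by
  refine ⟨fun p _ => by rw [Nat.card_congr e.toEquiv], fun p q _ _ _ => ⟨?_, ?_⟩⟩
  · rintro ⟨g, hg⟩; exact ⟨e g, by rw [MulEquiv.orderOf_eq]; exact hg⟩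
  · rintro ⟨g, hg⟩; exact ⟨e.symm g, by rw [MulEquiv.orderOf_eq]; exact hg⟩

/-- extensions by `p`-groups: prime graph is unchanged if `p`-singular fixed points are controlled. -/
theorem graph_ext {H G : Type*} [Group H] [Finite H] [Group G] [Finite G] (f : H →* G) (hf : Function.Surjective f)
    (p : ℕ) (hp : p.Prime) (hA : IsPGroup p f.ker) (hpG : p ∣ Nat.card G)
    (hfix : ∀ h : H, ∀ r : ℕ, r.Prime → r ≠ p → orderOf h = r → (∃ a ∈ f.ker, a ≠ 1 ∧ a * h = h * a) →
      ∃ g : G, orderOf g = p * r) : SameGraph G H := by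
  haveI : Fact p.Prime := ⟨hp⟩
  have hcard : Nat.card f.ker * Nat.card G = Nat.card H := by
    have h1 := Subgroup.card_mul_index f.ker
    rw [Subgroup.index_ker, MonoidHom.range_eq_top.mpr hf, Subgroup.card_top] at h1
    exact h1
  obtain ⟨k, hk⟩ := hA.exists_card_eq
  -- elements of order r ≠ p map to elements of order r
  have hmap : ∀ h : H, ∀ r s : ℕ, r.Prime → s.Prime → r ≠ s → r ≠ p → orderOf h = r * s → r ∣ orderOf (f h) := by
    intro h r s hr hs hrs hrp ho
    by_contra hnd
    have h1 : orderOf (h ^ s) = r := by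
      rw [orderOf_pow_of_dvd hs.ne_zero ⟨r, by rw [ho]; ring⟩, ho, Nat.mul_div_cancel _ hs.pos]
    have h2 : orderOf (f (h ^ s)) = 1 := by
      have h3 : orderOf (f (h ^ s)) ∣ r := by rw [← h1]; exact orderOf_map_dvd f _
      have h4 : orderOf (f (h ^ s)) ∣ orderOf (f h) := by rw [map_pow]; exact orderOf_pow_dvd s
      rcases (Nat.dvd_prime hr).mp h3 with h5 | h5
      · exact h5
      · rw [h5] at h4; exact absurd h4 hnd
    rw [orderOf_eq_one_iff] at h2
    have h3 : h ^ s ∈ f.ker := h2
    obtain ⟨j, hj⟩ := (IsPGroup.iff_orderOf.mp hA) ⟨h ^ s, h3⟩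
    rw [Subgroup.orderOf_mk, h1] at hj
    have h4 : r ∣ p ^ j := by rw [← hj]
    exact hrp ((Nat.prime_dvd_prime_iff_eq hr hp).mp (hr.dvd_of_dvd_pow h4))
  refine ⟨?_, ?_⟩
  · intro r hr
    rw [← hcard, hk]
    constructor
    · exact fun h => h.mul_left _
    · intro h
      rcases hr.dvd_mul.mp h with h | h
      · rw [(Nat.prime_dvd_prime_iff_eq hr hp).mp (hr.dvd_of_dvd_pow h)]; exact hpG
      · exact h
  · have hmain : ∀ s : ℕ, s.Prime → s ≠ p → ∀ h : H, orderOf h = p * s → ∃ g : G, orderOf g = p * s := by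
      intro s hs hsp h ho
      by_cases hpd : p ∣ orderOf (f h)
      · have h1 := hmap h s p hs hp hsp hsp (by rw [ho]; ring)
        refine ⟨f h, ?_⟩
        apply Nat.dvd_antisymm
        · rw [← ho]; exact orderOf_map_dvd f h
        · exact ((Nat.coprime_primes hp hs).mpr hsp.symm).mul_dvd_of_dvd_of_dvd hpd h1
      · have h1 : orderOf (h ^ s) = p := by
          rw [orderOf_pow_of_dvd hs.ne_zero ⟨p, by rw [ho]; ring⟩, ho, Nat.mul_div_cancel _ hs.pos]
        have h2 : orderOf (h ^ p) = s := by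
          rw [orderOf_pow_of_dvd hp.ne_zero ⟨s, ho⟩, ho, Nat.mul_div_cancel_left _ hp.pos]
        have h3 : orderOf (f (h ^ s)) = 1 := by
          have h3 : orderOf (f (h ^ s)) ∣ p := by rw [← h1]; exact orderOf_map_dvd f _
          have h4 : orderOf (f (h ^ s)) ∣ orderOf (f h) := by rw [map_pow]; exact orderOf_pow_dvd s
          rcases (Nat.dvd_prime hp).mp h3 with h5 | h5
          · exact h5
          · rw [h5] at h4; exact absurd h4 hpd
        rw [orderOf_eq_one_iff] at h3
        apply hfix (h ^ p) s hs hsp h2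
        refine ⟨h ^ s, h3, ?_, ?_⟩
        · intro h4; rw [h4, orderOf_one] at h1; exact hp.one_lt.ne h1
        · rw [← pow_add, ← pow_add, add_comm]
    intro r s hr hs hrs
    constructor
    · rintro ⟨g, hg⟩
      obtain ⟨h, rfl⟩ := hf g
      have h1 : r * s ∣ orderOf h := by rw [← hg]; exact orderOf_map_dvd f h
      exact ⟨_, orderOf_pow_orderOf_div (orderOf_pos h).ne' h1⟩
    · rintro ⟨h, ho⟩
      by_cases hrp : r = p
      · subst hrp
        exact hmain s hs (Ne.symm hrs) h ho
      · by_cases hsp : s = p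
        · subst hsp
          rw [mul_comm] at ho ⊢
          exact hmain r hr hrs h ho
        · refine ⟨f h, ?_⟩
          apply Nat.dvd_antisymm
          · rw [← ho]; exact orderOf_map_dvd f h
          · exact ((Nat.coprime_primes hr hs).mpr hrs).mul_dvd_of_dvd_of_dvd (hmap h r s hr hs hrs hrp ho)
              (hmap h s r hs hr hrs.symm hsp (by rw [ho]; ring))

/-- `V ^ k` with diagonal action -/
def powAct {G V : Type*} [Group G] [CommGroup V] (φ : G →* MulAut V) (k : ℕ) : G →* MulAut (Fin k → V) where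
  toFun g := MulEquiv.piCongrRight fun _ => φ g
  map_one' := by
    apply MulEquiv.ext
    intro v
    funext i
    change φ 1 (v i) = v i
    rw [map_one]; rfl
  map_mul' := by
    intro g h
    apply MulEquiv.ext
    intro v
    funext i
    change φ (g * h) (v i) = φ g (φ h (v i))
    rw [map_mul]; rfl

theorem graph_module {G V : Type*} [Group G] [Finite G] [CommGroup V] [Finite V] [Nontrivial V] (p : ℕ) (hp : p.Prime)
    (hV : IsPGroup p V) (φ : G →* MulAut V) (hpG : p ∣ Nat.card G)
    (hfix : ∀ (g : G) (r : ℕ), r.Prime → r ≠ p → orderOf g = r → (∃ v : V, v ≠ 1 ∧ φ g v = v) →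
      ∃ g' : G, orderOf g' = p * r) (N : ℕ) :
    ∃ (H : Type) (_ : Group H) (_ : Finite H), N < Nat.card H ∧ SameGraph G H := by
  classical
  haveI : Fact p.Prime := ⟨hp⟩
  obtain ⟨k, hkN⟩ : ∃ k, N < Nat.card V ^ k := ⟨N, Nat.lt_pow_self Finite.one_lt_card⟩
  let A := Fin k → V
  let S := A ⋊[powAct φ k] G
  haveI : Finite S := Finite.of_equiv _ SemidirectProduct.equivProd.symm
  obtain ⟨T0, hT0, ⟨e⟩⟩ := H21.Socle.exists_small S
  haveI : Finite T0 := Finite.of_equiv _ e.symm.toEquiv
  refine ⟨T0, hT0, inferInstance, ?_, ?_⟩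
  · rw [Nat.card_congr e.toEquiv, Nat.card_congr (SemidirectProduct.equivProd (φ := powAct φ k)), Nat.card_prod]
    have h1 : Nat.card A = Nat.card V ^ k := by
      rw [Nat.card_fun]; simp
    rw [h1]
    have h2 : 1 ≤ Nat.card G := Nat.card_pos
    nlinarith
  · refine SameGraph.trans ?_ (SameGraph.of_equiv e.symm)
    let f : S →* G := SemidirectProduct.rightHom
    have hf : Function.Surjective f := SemidirectProduct.rightHom_surjective
    have hker : ∀ x : S, x ∈ f.ker ↔ x.right = 1 := fun x => Iff.rfl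
    have hAp : IsPGroup p A := by
      intro a
      choose j hj using fun i => hV (a i)
      refine ⟨∑ i, j i, ?_⟩
      funext i
      have h1 : p ^ (∑ i, j i) = p ^ (j i) * p ^ (∑ i' ∈ Finset.univ.erase i, j i') := by
        rw [← pow_add, Finset.add_sum_erase _ _ (Finset.mem_univ i)]
      change a i ^ (p ^ (∑ i, j i)) = 1
      rw [h1, pow_mul, hj, one_pow]
    have hkerp : IsPGroup p f.ker := by
      have h1 : f.ker = (SemidirectProduct.inl (φ := powAct φ k) : A →* S).range :=
        (SemidirectProduct.range_inl_eq_ker_rightHom).symm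
      rw [h1]
      exact hAp.of_surjective _ (SemidirectProduct.inl : A →* S).rangeRestrict_surjective
    apply graph_ext f hf p hp hkerp hpG
    rintro h r hr hrp ho ⟨a, ha, ha1, hcomm⟩
    rw [hker] at ha
    have hg : orderOf (f h) = r := by
      have h1 : orderOf (f h) ∣ r := by rw [← ho]; exact orderOf_map_dvd f h
      rcases (Nat.dvd_prime hr).mp h1 with h2 | h2
      · exfalso
        rw [orderOf_eq_one_iff] at h2
        have h2' : h ∈ f.ker := h2
        obtain ⟨j, hj⟩ := (IsPGroup.iff_orderOf.mp hkerp) ⟨h, h2'⟩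
        rw [Subgroup.orderOf_mk, ho] at hj
        have h4 : r ∣ p ^ j := by rw [← hj]
        exact hrp ((Nat.prime_dvd_prime_iff_eq hr hp).mp (hr.dvd_of_dvd_pow h4))
      · exact h2
    apply hfix (f h) r hr hrp hg
    -- find coordinate
    have hleft : (a * h).left = (h * a).left := by rw [hcomm]
    rw [SemidirectProduct.mul_left, SemidirectProduct.mul_left, ha, map_one, MulAut.one_apply] at hleft
    have h3 : (powAct φ k) h.right a.left = a.left := by
      rw [mul_comm] at hleft
      exact (mul_left_cancel hleft).symm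
    obtain ⟨i, hi⟩ : ∃ i, a.left i ≠ 1 := by
      by_contra hcon
      push Not at hcon
      apply ha1
      apply SemidirectProduct.ext
      · funext i; exact hcon i
      · exact ha
    exact ⟨a.left i, hi, congrFun h3 i⟩

/-- additive version: `ρ : G →* AddMonoid.End V`. -/
theorem graph_addmodule {G V : Type*} [Group G] [Finite G] [AddCommGroup V] [Finite V] [Nontrivial V] (p : ℕ) (hp : p.Prime)
    (hV : ∀ v : V, p • v = 0) (ρ : G →* AddMonoid.End V) (hpG : p ∣ Nat.card G)
    (hfix : ∀ (g : G) (r : ℕ), r.Prime → r ≠ p → orderOf g = r → (∃ v : V, v ≠ 0 ∧ ρ g v = v) →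
      ∃ g' : G, orderOf g' = p * r) (N : ℕ) :
    ∃ (H : Type) (_ : Group H) (_ : Finite H), N < Nat.card H ∧ SameGraph G H := by
  have hinv : ∀ (g : G) (v : V), ρ g⁻¹ (ρ g v) = v := by
    intro g v
    have h1 : (ρ g⁻¹ * ρ g) v = v := by
      rw [← map_mul, inv_mul_cancel, map_one]; rfl
    exact h1
  let φ : G →* MulAut (Multiplicative V) := 
    { toFun := fun g => 
        { toFun := fun v => Multiplicative.ofAdd (ρ g v.toAdd)
          invFun := fun v => Multiplicative.ofAdd (ρ g⁻¹ v.toAdd)
          left_inv := fun v => hinv g v.toAdd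
          right_inv := fun v => by
            have := hinv g⁻¹ v.toAdd
            rw [inv_inv] at this
            exact this
          map_mul' := fun v w => map_add (ρ g) v.toAdd w.toAdd }
      map_one' := by
        apply MulEquiv.ext
        intro v
        change ρ 1 v.toAdd = v.toAdd
        rw [map_one]; rfl
      map_mul' := fun g h => by
        apply MulEquiv.ext
        intro v
        change ρ (g * h) v.toAdd = ρ g (ρ h v.toAdd)
        rw [map_mul]; rfl }
  haveI : Nontrivial (Multiplicative V) := ‹Nontrivial V›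
  apply graph_module (V := Multiplicative V) p hp _ φ hpG _ N
  · intro v
    refine ⟨1, ?_⟩
    rw [pow_one]
    exact hV v.toAdd
  · rintro g r hr hrp ho ⟨v, hv, hgv⟩
    exact hfix g r hr hrp ho ⟨v.toAdd, hv, hgv⟩

end Cfsg.Agent.H21.PG
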