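import Mathlib
import Cfsg.Agent.H21_PG
import Cfsg.Agent.H5_GL

set_option autoImplicit false

namespace Cfsg.Agent.H21.SL2e

open H21.PG Matrix

/-- natural module -/
def natAct (n : ℕ) (F : Type*) [Field F] : SpecialLinearGroup (Fin n) F →* AddMonoid.End (Fin n → F) where
  toFun g := { toFun := fun v => (g : Matrix (Fin n) (Fin n) F).mulVec v
               map_zero' := Matrix.mulVec_zero _
               map_add' := fun v w => Matrix.mulVec_add _ v w }
  map_one' := by
    ext v : 1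
    change (1 : Matrix (Fin n) (Fin n) F).mulVec v = v
    rw [Matrix.one_mulVec]
  map_mul' g h := by
    ext v : 1
    change ((g * h : SpecialLinearGroup (Fin n) F) : Matrix (Fin n) (Fin n) F).mulVec v =
      (g : Matrix (Fin n) (Fin n) F).mulVec ((h : Matrix (Fin n) (Fin n) F).mulVec v)
    rw [Matrix.mulVec_mulVec]; rfl

theorem sq_eq_one_of_fixed {F : Type*} [Field F] [CharP F 2] (g : SpecialLinearGroup (Fin 2) F) (v : Fin 2 → F)
    (hv : v ≠ 0) (hgv : (g : Matrix (Fin 2) (Fin 2) F).mulVec v = v) : g ^ 2 = 1 := by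
  have h1 : ((g : Matrix (Fin 2) (Fin 2) F) - 1).det = 0 := by
    rw [← Matrix.exists_mulVec_eq_zero_iff]
    exact ⟨v, hv, by rw [Matrix.sub_mulVec, hgv, Matrix.one_mulVec, sub_self]⟩
  have h2 := g.det_coe
  rw [Matrix.det_fin_two] at h1 h2
  simp only [Matrix.sub_apply, Matrix.one_apply_eq] at h1
  have h01 : (1 : Matrix (Fin 2) (Fin 2) F) 0 1 = 0 := by simp
  have h10 : (1 : Matrix (Fin 2) (Fin 2) F) 1 0 = 0 := by simp
  rw [h01, h10] at h1
  have hc : (2 : F) = 0 := by exact_mod_cast CharP.cast_eq_zero F 2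
  have ht : (g : Matrix (Fin 2) (Fin 2) F) 0 0 + (g : Matrix (Fin 2) (Fin 2) F) 1 1 = 0 := by
    linear_combination h2 - h1 + hc
  rw [pow_two]
  apply Subtype.ext
  change (g : Matrix (Fin 2) (Fin 2) F) * (g : Matrix (Fin 2) (Fin 2) F) = 1
  ext i j
  rw [Matrix.mul_apply, Fin.sum_univ_two]
  fin_cases i <;> fin_cases j
  · simp only [Fin.zero_eta, Matrix.one_apply_eq]
    linear_combination ((g : Matrix (Fin 2) (Fin 2) F) 0 0) * ht - h2 - hc
  · change _ = (1 : Matrix (Fin 2) (Fin 2) F) 0 1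
    rw [h01]
    simp only [Fin.zero_eta, Fin.mk_one]
    linear_combination ((g : Matrix (Fin 2) (Fin 2) F) 0 1) * ht
  · change _ = (1 : Matrix (Fin 2) (Fin 2) F) 1 0
    rw [h10]
    simp only [Fin.zero_eta, Fin.mk_one]
    linear_combination ((g : Matrix (Fin 2) (Fin 2) F) 1 0) * ht
  · simp only [Fin.mk_one, Matrix.one_apply_eq]
    linear_combination ((g : Matrix (Fin 2) (Fin 2) F) 1 1) * ht - h2 - hc

theorem two_dvd {F : Type*} [Field F] [Finite F] [CharP F 2] : 2 ∣ Nat.card (SpecialLinearGroup (Fin 2) F) := by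
  let t : SpecialLinearGroup (Fin 2) F := ⟨!![1, 1; 0, 1], by simp⟩
  have hc : (2 : F) = 0 := by exact_mod_cast CharP.cast_eq_zero F 2
  have ht : orderOf t = 2 := by
    apply orderOf_eq_prime
    · rw [pow_two]
      apply Subtype.ext
      change (!![1, 1; 0, 1] : Matrix (Fin 2) (Fin 2) F) * !![1, 1; 0, 1] = 1
      ext i j
      rw [Matrix.mul_apply, Fin.sum_univ_two]
      have h3 : (1 : F) + 1 = 0 := by rw [← hc]; norm_num
      fin_cases i <;> fin_cases j <;> simp [h3]
    · intro h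
      have := congrArg (fun m : SpecialLinearGroup (Fin 2) F => (m : Matrix (Fin 2) (Fin 2) F) 0 1) h
      simp [t] at this
  have h := orderOf_dvd_natCard t
  rwa [ht] at h

theorem exists_large {F : Type*} [Field F] [Fintype F] [CharP F 2] (N : ℕ) :
    ∃ (H : Type) (_ : Group H) (_ : Finite H), N < Nat.card H ∧ SameGraph (SpecialLinearGroup (Fin 2) F) H := by
  classical
  have hc : (2 : F) = 0 := by exact_mod_cast CharP.cast_eq_zero F 2
  apply graph_addmodule (V := Fin 2 → F) 2 Nat.prime_two _ (natAct 2 F) two_dvd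
  · rintro g r hr hr2 ho ⟨v, hv, hgv⟩
    exfalso
    have h1 := sq_eq_one_of_fixed g v hv hgv
    have h2 := orderOf_dvd_of_pow_eq_one h1
    rw [ho] at h2
    exact hr2 ((Nat.prime_dvd_prime_iff_eq hr Nat.prime_two).mp h2)
  · intro v
    rw [two_nsmul]
    funext i
    change v i + v i = 0
    rw [← two_mul, hc, zero_mul]

theorem card_odd {F : Type*} [Field F] [Fintype F] [CharP F 2] : Nat.gcd 2 (Fintype.card F - 1) = 1 := by
  obtain ⟨n, -, hn⟩ := FiniteField.card F 2
  rw [hn]
  have h1 : 2 ∣ 2 ^ (n : ℕ) := dvd_pow_self 2 n.ne_zero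
  have h2 : 0 < 2 ^ (n : ℕ) := by positivity
  have h3 : ¬ 2 ∣ 2 ^ (n : ℕ) - 1 := by omega
  exact (Nat.Prime.coprime_iff_not_dvd Nat.prime_two).mpr h3

noncomputable def equivPSL {F : Type*} [Field F] [Fintype F] [CharP F 2] :
    SpecialLinearGroup (Fin 2) F ≃* ProjectiveSpecialLinearGroup (Fin 2) F := by
  have h1 : Nat.card (Subgroup.center (SpecialLinearGroup (Fin 2) F)) = 1 := by
    rw [H5.GL.card_center_SL (F := F) rfl 2 (by norm_num)]
    exact card_odd
  have h2 : Subgroup.center (SpecialLinearGroup (Fin 2) F) = ⊥ := Subgroup.card_eq_one.mp h1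
  exact ((QuotientGroup.quotientMulEquivOfEq h2).trans QuotientGroup.quotientBot).symm

end Cfsg.Agent.H21.SL2e
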