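import Mathlib
import Cfsg.Prelude.Def_Characters
import Cfsg.Agent.H3_NilpSplit
import Cfsg.Agent.H3_CharInt
import Cfsg.Agent.H3_CharMult
import Cfsg.Agent.H25_Brauer

/-!
# Characters of p-defect zero
-/

set_option autoImplicit false

open scoped ComplexConjugate

namespace Cfsg.Agent.H3.DefectZero

open Cfsg Cfsg.Agent.H3.CharBasic Cfsg.Agent.H3.CharIrr Cfsg.Agent.H3.CharComplete
  Cfsg.Agent.H3.CharMult Cfsg.Agent.H3.CharInd Cfsg.Agent.H3.CharInt
  Cfsg.Agent.H3.NilpSplit

variable {G : Type*} [Group G] [Fintype G]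

theorem inner_int {p m n d : ℕ} (hp : p.Prime) (hmn : Nat.card G = m * n) (hm : ∃ a, m = p ^ (a + 1))
    (hn : ¬ p ∣ n) {χ : G → ℂ} (hχ : IsIrrCharacter G χ) (hd : χ 1 = ((m * d : ℕ) : ℂ))
    (E : Subgroup G) [Fintype E] (hE : Group.IsNilpotent E) {ψ : E → ℂ} (hψ : IsIrrCharacter E ψ) :
    ∃ k : ℤ, classInner (fun e : E => if p ∣ orderOf (e : G) then 0 else χ e) ψ = k := by
  classical
  obtain ⟨a, ha⟩ := hm
  have hcop : m.Coprime n := by
    rw [ha]; exact ((Nat.Prime.coprime_iff_not_dvd hp).mpr hn).pow_left _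
  have hdvd : Nat.card E ∣ m * n := hmn ▸ Subgroup.card_subgroup_dvd_card E
  obtain ⟨A, B, hA, hB, hAm, hBn, hmemA, hmemB, hcomm, hcard, hbij⟩ := split hdvd hcop
  have := Fintype.ofFinite A
  have := Fintype.ofFinite B
  have hm0 : 0 < m := by rw [ha]; exact pow_pos hp.pos _
  have hn0 : 0 < n := Nat.pos_of_ne_zero (fun h => hn (h ▸ dvd_zero p))
  -- p-regular elements
  have hreg : ∀ v : E, v ∈ B → ¬ p ∣ orderOf v := by
    intro v hv h
    have h1 := (hmemB v).mp hv
    have h2 : p ∣ m := by rw [ha]; exact dvd_pow_self p (Nat.succ_ne_zero a)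
    exact hp.one_lt.ne' (Nat.eq_one_of_dvd_coprimes h1 h h2)
  have hsing : ∀ u ∈ A, u ≠ 1 → ∀ v ∈ B, p ∣ orderOf (u * v) := by
    intro u hu hu1 v hv
    have h1 : orderOf u ∣ m := by
      have := (hmemA u).mp hu
      exact this.dvd_of_dvd_mul_right ((orderOf_dvd_natCard u).trans hdvd)
    have h2 : p ∣ orderOf u := by
      rw [ha, Nat.dvd_prime_pow hp] at h1
      obtain ⟨j, -, hj⟩ := h1
      rw [hj]
      apply dvd_pow_self
      rintro rfl
      rw [pow_zero, orderOf_eq_one_iff] at hj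
      exact hu1 hj
    have h3 : (orderOf u).Coprime (orderOf v) := by
      have h4 := (hmemB v).mp hv
      exact (h4.coprime_dvd_right h1).symm
    rw [(hcomm u hu v hv).orderOf_mul_eq_mul_orderOf_of_coprime h3]
    exact h2.mul_right _
  have hsum : ∑ e : E, (if p ∣ orderOf (e : G) then 0 else χ e) * conj (ψ e) =
      ∑ v : B, χ (v : E) * conj (ψ v) := by
    rw [← Equiv.sum_comp (Equiv.ofBijective _ hbij), Fintype.sum_prod_type]
    rw [Finset.sum_eq_single (1 : A)]
    · refine Finset.sum_congr rfl fun v _ => ?_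
      simp only [Equiv.ofBijective_apply, Subgroup.coe_one, one_mul]
      rw [Subgroup.orderOf_coe, if_neg (hreg v v.2)]
    · intro u _ hu
      apply Finset.sum_eq_zero
      intro v _
      simp only [Equiv.ofBijective_apply]
      rw [Subgroup.orderOf_coe, if_pos (hsing u u.2 (fun h => hu (Subtype.ext h)) v v.2), zero_mul]
    · intro h; exact absurd (Finset.mem_univ _) h
  set S := ∑ v : B, χ (v : E) * conj (ψ v) with hS
  have hci : classInner (fun e : E => if p ∣ orderOf (e : G) then 0 else χ e) ψ =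
      (Nat.card E : ℂ)⁻¹ * S := by rw [classInner, hsum]
  have hA0 : (Nat.card A : ℂ) ≠ 0 := cardH_ne_zero A
  have hB0 : (Nat.card B : ℂ) ≠ 0 := cardH_ne_zero B
  -- first integrality
  obtain ⟨k, hk⟩ : ∃ k : ℤ, (Nat.card B : ℂ)⁻¹ * S = k := by
    have h1 : IsCharacter B (fun v : B => χ (v : E)) :=
      IsChar.comp (IsIrr.isCharacter hχ) (E.subtype.comp B.subtype)
    have h2 : IsCharacter B (fun v : B => ψ (v : E)) := IsChar.res (IsIrr.isCharacter hψ) B
    obtain ⟨k, hk⟩ := ci_char_nat h1 h2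
    exact ⟨k, by rw [classInner] at hk; rw [hk]; simp⟩
  -- second integrality
  have hint : IsIntegral ℤ ((n : ℂ) * (Nat.card A : ℂ)⁻¹ * S) := by
    rw [hS, Finset.mul_sum]
    apply IsIntegral.sum
    intro v _
    -- the centralizer of `v` has order divisible by `|A|`
    have h1 : Nat.card A ∣ Nat.card (Subgroup.centralizer ({((v : E) : G)} : Set G)) := by
      have h2 : Nat.card (A.map E.subtype) = Nat.card A :=
        Subgroup.card_map_of_injective E.subtype_injective
      rw [← h2]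
      apply Subgroup.card_dvd_of_le
      rintro _ ⟨u, hu, rfl⟩
      rw [Subgroup.mem_centralizer_singleton_iff]
      exact congrArg Subtype.val (hcomm u hu v v.2)
    obtain ⟨c, hc⟩ := h1
    have h2 := IsIrr.omega_class hχ ((v : E) : G)
    have h3 := (Subgroup.centralizer ({((v : E) : G)} : Set G)).card_mul_index
    rw [hc, hmn] at h3
    set i := (Subgroup.centralizer ({((v : E) : G)} : Set G)).index
    have h4 : (n : ℂ) * (Nat.card A : ℂ)⁻¹ * (χ ((v : E) : G) * conj (ψ v)) =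
        ((c * d : ℕ) : ℂ) * ((i : ℂ) * χ ((v : E) : G) / χ 1) * conj (ψ v) := by
      have h5 : (Nat.card A : ℂ) * c * i = m * n := by exact_mod_cast h3
      rw [hd]
      have hd0 : (d : ℂ) ≠ 0 := by
        rintro h
        have := IsIrr.one_ne_zero hχ
        rw [hd] at this; push_cast at this; rw [h, mul_zero] at this; exact this rfl
      have hm0' : (m : ℂ) ≠ 0 := by exact_mod_cast hm0.ne'
      push_cast
      field_simp
      rw [show (n : ℂ) * χ ((v : E) : G) * conj (ψ v) * m = (m * n) * χ ((v : E) : G) * conj (ψ v) by ring,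
        ← h5]
      ring
    rw [h4]
    refine IsIntegral.mul (IsIntegral.mul ?_ h2) (CharInt.isIntegral_conj (IsChar.isIntegral (IsIrr.isCharacter hψ) _))
    exact_mod_cast (isIntegral_algebraMap (x := ((c * d : ℕ) : ℤ)))
  -- conclusion
  have hS' : S = (Nat.card B : ℂ) * k := by rw [← hk]; field_simp
  rw [hS'] at hint
  obtain ⟨l, hl⟩ := exists_int_of_isIntegral (q := (n : ℚ) * (Nat.card A : ℚ)⁻¹ * ((Nat.card B : ℚ) * k))
    (by push_cast; exact hint)
  have hA0' : (Nat.card A : ℚ) ≠ 0 := by exact_mod_cast (Nat.card_pos (α := A)).ne'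
  have h1 : (n : ℚ) * Nat.card B * k = Nat.card A * l := by
    rw [← hl]; field_simp
  have h2 : (n : ℤ) * Nat.card B * k = Nat.card A * l := by exact_mod_cast h1
  have h3 : (Nat.card A : ℤ) ∣ k := by
    have h4 : IsCoprime (Nat.card A : ℤ) ((n : ℤ) * Nat.card B) := by
      have h5 : (Nat.card A).Coprime (n * Nat.card B) := by
        apply Nat.Coprime.mul_right
        · exact hcop.coprime_dvd_left hAm
        · exact (hcop.coprime_dvd_left hAm).coprime_dvd_right hBn
      exact_mod_cast h5.isCoprime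
    exact h4.dvd_of_dvd_mul_left ⟨l, by rw [← h2]⟩
  obtain ⟨j, hj⟩ := h3
  refine ⟨j, ?_⟩
  rw [hci, hS', ← hcard, hj]
  push_cast
  field_simp

theorem vanish {p m n d : ℕ} (hp : p.Prime) (hmn : Nat.card G = m * n) (hm : ∃ a, m = p ^ (a + 1))
    (hn : ¬ p ∣ n) {χ : G → ℂ} (hχ : IsIrrCharacter G χ) (hd : χ 1 = ((m * d : ℕ) : ℂ))
    {x : G} (hx : p ∣ orderOf x) : χ x = 0 := by
  classical
  let θ : G → ℂ := fun g => if p ∣ orderOf g then 0 else χ g
  have hcl : IsClassFunction G θ := by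
    intro g h
    have h1 : orderOf (h * g * h⁻¹) = orderOf g := by
      have := orderOf_injective (MulAut.conj h).toMonoidHom (MulAut.conj h).injective g
      simpa using this
    simp only [θ, h1, IsIrr.isClass hχ g h]
  have hgen : IsGeneralizedCharacter G θ := by
    apply Cfsg.Agent.H25.Brauer.isGen_of_elementary hcl
    intro E q hq hE
    have := Fintype.ofFinite E
    have hnil := elementary_nilpotent hq hE
    apply isGen_of_int (IsClass.res hcl E)
    intro ψ hψ
    exact inner_int hp hmn hm hn hχ hd E hnil hψ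
  obtain ⟨y, hy⟩ := (isGen_iff.mp hgen).2 χ hχ
  have hsplit : classInner θ χ + (Nat.card G : ℂ)⁻¹ * ∑ g ∈ Finset.univ.filter (fun g : G => p ∣ orderOf g),
      χ g * conj (χ g) = 1 := by
    rw [← ci_irr_self hχ, classInner, classInner, ← mul_add]
    congr 1
    rw [← Finset.sum_filter_add_sum_filter_not Finset.univ (fun g : G => p ∣ orderOf g)
      (fun g => χ g * conj (χ g)), Finset.sum_filter (p := fun g : G => ¬ p ∣ orderOf g), add_comm]
    congr 1
    refine Finset.sum_congr rfl fun g _ => ?_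
    simp only [θ]
    split_ifs <;> simp_all
  have hreal : (Nat.card G : ℂ)⁻¹ * ∑ g ∈ Finset.univ.filter (fun g : G => p ∣ orderOf g),
      χ g * conj (χ g) = (((Nat.card G : ℝ)⁻¹ * ∑ g ∈ Finset.univ.filter (fun g : G => p ∣ orderOf g),
      ‖χ g‖ ^ 2 : ℝ) : ℂ) := by
    push_cast
    congr 1
    refine Finset.sum_congr rfl fun g _ => ?_
    rw [Complex.mul_conj, Complex.normSq_eq_norm_sq]; push_cast; rfl
  have hreal2 : classInner θ χ = (((Nat.card G : ℝ)⁻¹ * ∑ g : G,
      (if p ∣ orderOf g then 0 else ‖χ g‖ ^ 2) : ℝ) : ℂ) := by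
    rw [classInner]
    push_cast
    congr 1
    refine Finset.sum_congr rfl fun g _ => ?_
    simp only [θ]
    split_ifs
    · simp
    · rw [Complex.mul_conj, Complex.normSq_eq_norm_sq, Complex.ofReal_pow]
  rw [hreal, hreal2] at hsplit
  rw [hreal2] at hy
  have h1 : (Nat.card G : ℝ)⁻¹ * ∑ g : G, (if p ∣ orderOf g then 0 else ‖χ g‖ ^ 2) = y := by
    exact_mod_cast hy
  have h2 : (Nat.card G : ℝ)⁻¹ * ∑ g : G, (if p ∣ orderOf g then 0 else ‖χ g‖ ^ 2) +
      (Nat.card G : ℝ)⁻¹ * ∑ g ∈ Finset.univ.filter (fun g : G => p ∣ orderOf g), ‖χ g‖ ^ 2 = 1 := by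
    exact_mod_cast hsplit
  have hG0 : (0 : ℝ) < (Nat.card G : ℝ)⁻¹ := by
    have : (0 : ℝ) < Nat.card G := by exact_mod_cast Nat.card_pos
    positivity
  have h3 : 0 < (Nat.card G : ℝ)⁻¹ * ∑ g : G, (if p ∣ orderOf g then 0 else ‖χ g‖ ^ 2) := by
    apply mul_pos hG0
    apply Finset.sum_pos' (fun g _ => by split_ifs <;> positivity)
    refine ⟨1, Finset.mem_univ _, ?_⟩
    rw [orderOf_one, if_neg (fun h => hp.one_lt.ne' (Nat.dvd_one.mp h))]
    have := IsIrr.one_ne_zero hχ
    positivity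
  have h4 : 0 ≤ (Nat.card G : ℝ)⁻¹ * ∑ g ∈ Finset.univ.filter (fun g : G => p ∣ orderOf g), ‖χ g‖ ^ 2 :=
    mul_nonneg hG0.le (Finset.sum_nonneg fun _ _ => by positivity)
  rw [h1] at h2 h3
  have h5 : (1 : ℤ) ≤ y := by
    have : (0 : ℤ) < y := by exact_mod_cast h3
    omega
  have h6 : (1 : ℝ) ≤ y := by exact_mod_cast h5
  have h7 : (Nat.card G : ℝ)⁻¹ * ∑ g ∈ Finset.univ.filter (fun g : G => p ∣ orderOf g), ‖χ g‖ ^ 2 = 0 := by
    linarith
  have h8 := (mul_eq_zero.mp h7).resolve_left hG0.ne'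
  have h9 := (Finset.sum_eq_zero_iff_of_nonneg (fun _ _ => by positivity)).mp h8 x (by simp [hx])
  simpa using h9

end Cfsg.Agent.H3.DefectZero
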