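import Mathlib
import Cfsg.Prelude.Def_Characters
import Cfsg.Agent.H3_CharCalc
import Cfsg.Agent.H3_CharInt
import Cfsg.Agent.H3_CharIrr

/-!
# Feit's theorem on Zassenhaus groups: congruences for characters of groups with a TI subgroup
-/

set_option autoImplicit false

open scoped ComplexConjugate

namespace Cfsg.Agent.H3.Feit

open Cfsg Cfsg.Agent.H3.CharIrr Cfsg.Agent.H3.CharInt Cfsg.Agent.H3.CharCalc

/-- sum of an integral invariant function over a free action -/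
theorem sum_free {K T : Type*} [Group K] [Fintype K] [MulAction K T] [Fintype T]
    (hfree : ∀ (k : K) (t : T), k • t = t → k = 1) (F : T → ℂ) (hF : ∀ (k : K) t, F (k • t) = F t)
    (hint : ∀ t, IsIntegral ℤ (F t)) :
    ∃ α : ℂ, IsIntegral ℤ α ∧ ∑ t, F t = (Fintype.card K : ℂ) * α := by
  classical
  let Q := MulAction.orbitRel.Quotient K T
  have : Fintype Q := Fintype.ofFinite Q
  let r : Q → T := fun ω => Quotient.out ω
  refine ⟨∑ ω : Q, F (r ω), IsIntegral.sum _ (fun ω _ => hint _), ?_⟩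
  rw [Finset.mul_sum]
  rw [← Finset.sum_fiberwise (s := Finset.univ) (g := fun t : T => (Quotient.mk _ t : Q))]
  apply Finset.sum_congr rfl
  intro ω _
  have h1 : Finset.univ.filter (fun t : T => (Quotient.mk (MulAction.orbitRel K T) t : Q) = ω) =
      Finset.univ.image (fun k : K => k • r ω) := by
    ext t
    simp only [Finset.mem_filter, Finset.mem_univ, true_and, Finset.mem_image]
    have h2 : (Quotient.mk (MulAction.orbitRel K T) (r ω) : Q) = ω := Quotient.out_eq ω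
    constructor
    · intro h
      rw [← h2] at h
      have h3 : (MulAction.orbitRel K T) t (r ω) := Quotient.exact h
      obtain ⟨k, hk⟩ := h3
      exact ⟨k, hk⟩
    · rintro ⟨k, rfl⟩
      rw [← h2]
      have h4 : Quotient.out (Quotient.mk (MulAction.orbitRel K T) (r ω)) = Quotient.out ω := by rw [h2]
      apply Quotient.sound
      change (MulAction.orbitRel K T) _ _
      exact ⟨k, by rw [h2]⟩
  rw [h1, Finset.sum_image]
  · rw [Finset.sum_congr rfl (fun k _ => hF k (r ω)), Finset.sum_const, Finset.card_univ, nsmul_eq_mul]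
  · intro a _ b _ hab
    simp only at hab
    have h5 : (b⁻¹ * a) • r ω = r ω := by rw [mul_smul, hab, inv_smul_smul]
    exact (inv_mul_eq_one.mp (hfree _ _ h5)).symm

section TI

variable {G : Type*} [Group G] [Fintype G] {B H : Subgroup G}

/-- the part of the sum outside `B` is divisible by `|H|²` -/
theorem cross_sum (hHB : H ≤ B) (hti : ∀ g, g ∉ B → ∀ u ∈ H, g * u * g⁻¹ ∈ H → u = 1)
    {χ : G → ℂ} (hχ : IsCharacter G χ) [DecidablePred (· ∈ B)] (P : Finset (G × G))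
    (hP : ∀ x y, (x, y) ∈ P → ∀ k ∈ H, ∀ l ∈ H, (l * x * l⁻¹, k * y * k⁻¹) ∈ P) :
    ∃ α : ℂ, IsIntegral ℤ α ∧
      ∑ g ∈ Finset.univ.filter (fun g : G => g ∉ B), ∑ p ∈ P, χ (g * p.1 * g⁻¹ * p.2) =
        (Nat.card H : ℂ) ^ 2 * α := by
  classical
  have := Fintype.ofFinite H
  let T := {t : G × (G × G) // t.1 ∉ B ∧ t.2 ∈ P}
  let _ : MulAction (H × H) T :=
    { smul := fun k t => ⟨((k.1 : G) * t.1.1 * (k.2 : G)⁻¹, ((k.2 : G) * t.1.2.1 * (k.2 : G)⁻¹,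
          (k.1 : G) * t.1.2.2 * (k.1 : G)⁻¹)), by
        refine ⟨fun h => t.2.1 ?_, hP _ _ t.2.2 _ k.1.2 _ k.2.2⟩
        have h1 := B.mul_mem (B.mul_mem (B.inv_mem (hHB k.1.2)) h) (hHB k.2.2)
        have h2 : (k.1 : G)⁻¹ * ((k.1 : G) * t.1.1 * (k.2 : G)⁻¹) * (k.2 : G) = t.1.1 := by group
        rwa [h2] at h1⟩
      one_smul := by
        rintro ⟨⟨g, x, y⟩, h⟩
        apply Subtype.ext
        change ((1 : G) * g * (1 : G)⁻¹, ((1 : G) * x * (1 : G)⁻¹, (1 : G) * y * (1 : G)⁻¹)) = (g, (x, y))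
        simp
      mul_smul := by
        rintro ⟨k, l⟩ ⟨k', l'⟩ ⟨⟨g, x, y⟩, h⟩
        apply Subtype.ext
        change (((k * k' : H) : G) * g * ((l * l' : H) : G)⁻¹, (((l * l' : H) : G) * x * ((l * l' : H) : G)⁻¹,
          ((k * k' : H) : G) * y * ((k * k' : H) : G)⁻¹)) =
          ((k : G) * ((k' : G) * g * (l' : G)⁻¹) * (l : G)⁻¹, ((l : G) * ((l' : G) * x * (l' : G)⁻¹) * (l : G)⁻¹,
          (k : G) * ((k' : G) * y * (k' : G)⁻¹) * (k : G)⁻¹))
        simp only [Subgroup.coe_mul, mul_inv_rev, mul_assoc] }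
  have hsm : ∀ (k : H × H) (t : T), ((k • t : T) : G × (G × G)) =
      ((k.1 : G) * t.1.1 * (k.2 : G)⁻¹, ((k.2 : G) * t.1.2.1 * (k.2 : G)⁻¹, (k.1 : G) * t.1.2.2 * (k.1 : G)⁻¹)) :=
    fun k t => rfl
  obtain ⟨α, hα, hsum⟩ := sum_free (K := H × H) (T := T) (by
      rintro ⟨k, l⟩ ⟨⟨g, x, y⟩, hg, hxy⟩ h
      have h1 := congrArg (fun t : T => t.1.1) h
      simp only [hsm] at h1
      have h2 : g * (l : G) * g⁻¹ = k := by
        rw [mul_inv_eq_iff_eq_mul] at h1 ⊢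
        exact h1.symm
      have h3 : (l : G) = 1 := hti g hg l l.2 (by rw [h2]; exact k.2)
      have h4 : (k : G) = 1 := by rw [← h2, h3]; group
      exact Prod.ext (Subtype.ext h4) (Subtype.ext h3))
    (fun t => χ (t.1.1 * t.1.2.1 * t.1.1⁻¹ * t.1.2.2)) (by
      rintro ⟨k, l⟩ ⟨⟨g, x, y⟩, hg, hxy⟩
      simp only [hsm]
      have h1 : (k : G) * g * (l : G)⁻¹ * ((l : G) * x * (l : G)⁻¹) * ((k : G) * g * (l : G)⁻¹)⁻¹ *
          ((k : G) * y * (k : G)⁻¹) = (k : G) * (g * x * g⁻¹ * y) * (k : G)⁻¹ := by group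
      rw [h1, IsChar.isClass hχ])
    (fun t => IsChar.isIntegral hχ _)
  refine ⟨α, hα, ?_⟩
  have hcard : (Fintype.card (H × H) : ℂ) = (Nat.card H : ℂ) ^ 2 := by
    rw [Fintype.card_prod, Nat.card_eq_fintype_card]; push_cast; ring
  rw [← hcard, ← hsum, ← Finset.sum_product']
  symm
  apply Finset.sum_bij (fun (t : T) _ => (t.1.1, t.1.2))
  · rintro ⟨⟨g, x, y⟩, hg, hxy⟩ _
    simp only [Finset.mem_product, Finset.mem_filter, Finset.mem_univ, true_and]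
    exact ⟨hg, hxy⟩
  · rintro ⟨⟨g, x, y⟩, hg, hxy⟩ _ ⟨⟨g', x', y'⟩, hg', hxy'⟩ _ h
    apply Subtype.ext
    exact h
  · rintro ⟨g, p⟩ hgp
    simp only [Finset.mem_product, Finset.mem_filter, Finset.mem_univ, true_and] at hgp
    exact ⟨⟨(g, p), hgp⟩, Finset.mem_univ _, rfl⟩
  · rintro ⟨⟨g, x, y⟩, hg, hxy⟩ _
    rfl

/-- the basic relation -/
theorem relation (hHB : H ≤ B) (hti : ∀ g, g ∉ B → ∀ u ∈ H, g * u * g⁻¹ ∈ H → u = 1)
    {χ : G → ℂ} (hχ : IsIrrCharacter G χ) [DecidablePred (· ∈ B)] (P : Finset (G × G))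
    (hP : ∀ x y, (x, y) ∈ P → ∀ k ∈ H, ∀ l ∈ H, (l * x * l⁻¹, k * y * k⁻¹) ∈ P) :
    ∃ α : ℂ, IsIntegral ℤ α ∧
      (Nat.card G : ℂ) / χ 1 * ∑ p ∈ P, χ p.1 * χ p.2 =
      ∑ g ∈ Finset.univ.filter (fun g : G => g ∈ B), ∑ p ∈ P, χ (g * p.1 * g⁻¹ * p.2) +
        (Nat.card H : ℂ) ^ 2 * α := by
  classical
  obtain ⟨α, hα, h⟩ := cross_sum hHB hti (IsIrr.isCharacter hχ) P hP
  refine ⟨α, hα, ?_⟩
  rw [← h, Finset.sum_filter_add_sum_filter_not Finset.univ (fun g : G => g ∈ B), Finset.sum_comm,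
    Finset.mul_sum]
  apply Finset.sum_congr rfl
  intro p _
  rw [IsIrr.sum_conj_mul hχ]
  ring

/-- sums over products of two subgroups normalized by `B` -/
theorem rel_XY (hHB : H ≤ B) (hti : ∀ g, g ∉ B → ∀ u ∈ H, g * u * g⁻¹ ∈ H → u = 1)
    {χ : G → ℂ} (hχ : IsIrrCharacter G χ) (X Y : Subgroup G) [Fintype X] [Fintype Y]
    (hX : ∀ b ∈ B, ∀ x ∈ X, b * x * b⁻¹ ∈ X) (hY : ∀ b ∈ B, ∀ y ∈ Y, b * y * b⁻¹ ∈ Y) :
    ∃ α : ℂ, IsIntegral ℤ α ∧
      (Nat.card G : ℂ) / χ 1 * ((∑ x : X, χ x) * ∑ y : Y, χ y) =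
      (Nat.card B : ℂ) * (∑ x : X, ∑ y : Y, χ (x * y)) + (Nat.card H : ℂ) ^ 2 * α := by
  classical
  obtain ⟨P, hP⟩ : ∃ P : Finset (G × G), P = Finset.univ.image (fun p : X × Y => ((p.1 : G), (p.2 : G))) := ⟨_, rfl⟩
  have hsum : ∀ F : G → G → ℂ, ∑ p ∈ P, F p.1 p.2 = ∑ x : X, ∑ y : Y, F x y := by
    intro F
    rw [hP, Finset.sum_image, Fintype.sum_prod_type]
    rintro ⟨a, b⟩ _ ⟨c, d⟩ _ h
    simp only [Prod.mk.injEq] at h
    exact Prod.ext (Subtype.ext h.1) (Subtype.ext h.2)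
  obtain ⟨α, hα, h⟩ := relation hHB hti hχ P (by
    intro x y hxy k hk l hl
    rw [hP, Finset.mem_image] at hxy ⊢
    obtain ⟨⟨a, b⟩, -, hab⟩ := hxy
    simp only [Prod.mk.injEq] at hab
    refine ⟨(⟨l * x * l⁻¹, ?_⟩, ⟨k * y * k⁻¹, ?_⟩), Finset.mem_univ _, rfl⟩
    · rw [← hab.1]; exact hX l (hHB hl) _ a.2
    · rw [← hab.2]; exact hY k (hHB hk) _ b.2)
  refine ⟨α, hα, ?_⟩
  rw [hsum (fun x y => χ x * χ y)] at h
  have h1 : ∑ x : X, ∑ y : Y, χ x * χ y = (∑ x : X, χ x) * ∑ y : Y, χ y := by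
    rw [Finset.sum_mul_sum]
  rw [h1] at h
  rw [h]
  congr 1
  have h2 : ∀ g ∈ Finset.univ.filter (fun g : G => g ∈ B), ∑ p ∈ P, χ (g * p.1 * g⁻¹ * p.2) =
      ∑ x : X, ∑ y : Y, χ (x * y) := by
    intro g hg
    rw [Finset.mem_filter] at hg
    rw [hsum (fun x y => χ (g * x * g⁻¹ * y))]
    have hinj : Function.Injective (fun x : X => (⟨g * x * g⁻¹, hX g hg.2 x x.2⟩ : X)) := by
      intro a b hab
      have := congrArg Subtype.val hab
      simp only [mul_left_inj, mul_right_inj] at this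
      exact Subtype.ext this
    exact Fintype.sum_bijective _ ((Finite.injective_iff_bijective).mp hinj) _ _ (fun x => rfl)
  rw [Finset.sum_congr rfl h2, Finset.sum_const, nsmul_eq_mul]
  congr 2
  rw [Nat.card_eq_fintype_card, Fintype.card_subtype]

theorem dvd_of_mul_integral {a : ℤ} {b : ℕ} (hb : b ≠ 0) {α : ℂ} (hα : IsIntegral ℤ α)
    (h : (a : ℂ) = (b : ℂ) * α) : (b : ℤ) ∣ a := by
  have hb' : (b : ℂ) ≠ 0 := by exact_mod_cast hb
  have h1 : α = (((a : ℚ) / (b : ℚ) : ℚ) : ℂ) := by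
    push_cast
    rw [h]
    field_simp
  rw [h1] at hα
  obtain ⟨n, hn⟩ := exists_int_of_isIntegral hα
  refine ⟨n, ?_⟩
  have hb'' : (b : ℚ) ≠ 0 := by exact_mod_cast hb
  rw [div_eq_iff hb''] at hn
  have h2 : (a : ℚ) = ((b * n : ℤ) : ℚ) := by rw [hn]; push_cast; ring
  exact_mod_cast h2

/-- the congruence in the odd case -/
theorem rel_odd (hHB : H ≤ B) (hti : ∀ g, g ∉ B → ∀ u ∈ H, g * u * g⁻¹ ∈ H → u = 1)
    (hcent : ∀ u ∈ H, u ≠ 1 → ∀ g, g * u = u * g → g ∈ H) (hodd : Odd (Nat.card B))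
    {χ : G → ℂ} (hχ : IsIrrCharacter G χ) (Z : Subgroup G) [Fintype Z]
    (hZH : Z ≤ H) (hZ : ∀ b ∈ B, ∀ z ∈ Z, b * z * b⁻¹ ∈ Z) (hZc : ∀ z ∈ Z, ∀ u ∈ H, u * z = z * u)
    (hreal : ∀ z ∈ Z, χ z⁻¹ = χ z) :
    ∃ α : ℂ, IsIntegral ℤ α ∧
      (Nat.card Z : ℂ) * χ 1 - ∑ z : Z, χ z = (Nat.card H : ℂ) * α := by
  classical
  have hconj : ∀ z ∈ Z, ∀ u ∈ H, u * z * u⁻¹ = z := by
    intro z hz u hu
    rw [hZc z hz u hu, mul_inv_cancel_right]
  obtain ⟨P, hP⟩ : ∃ P : Finset (G × G), P = Finset.univ.image (fun z : Z => ((z : G), (z : G))) := ⟨_, rfl⟩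
  obtain ⟨P', hP'⟩ : ∃ P : Finset (G × G), P = Finset.univ.image (fun z : Z => ((z : G)⁻¹, (z : G))) := ⟨_, rfl⟩
  have hsum : ∀ F : G → G → ℂ, ∑ p ∈ P, F p.1 p.2 = ∑ z : Z, F z z := by
    intro F
    rw [hP, Finset.sum_image]
    rintro a _ b _ h
    simp only [Prod.mk.injEq] at h
    exact Subtype.ext h.1
  have hsum' : ∀ F : G → G → ℂ, ∑ p ∈ P', F p.1 p.2 = ∑ z : Z, F (z : G)⁻¹ z := by
    intro F
    rw [hP', Finset.sum_image]
    rintro a _ b _ h
    simp only [Prod.mk.injEq] at h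
    exact Subtype.ext h.2
  obtain ⟨α, hα, h⟩ := relation hHB hti hχ P (by
    intro x y hxy k hk l hl
    rw [hP, Finset.mem_image] at hxy ⊢
    obtain ⟨a, -, hab⟩ := hxy
    simp only [Prod.mk.injEq] at hab
    refine ⟨a, Finset.mem_univ _, ?_⟩
    rw [← hab.1, ← hab.2, hconj a a.2 l hl, hconj a a.2 k hk])
  obtain ⟨α', hα', h'⟩ := relation hHB hti hχ P' (by
    intro x y hxy k hk l hl
    rw [hP', Finset.mem_image] at hxy ⊢
    obtain ⟨a, -, hab⟩ := hxy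
    simp only [Prod.mk.injEq] at hab
    refine ⟨a, Finset.mem_univ _, ?_⟩
    rw [← hab.1, ← hab.2, hconj _ (Z.inv_mem a.2) l hl, hconj a a.2 k hk])
  rw [hsum (fun x y => χ x * χ y)] at h
  rw [hsum' (fun x y => χ x * χ y)] at h'
  have h1 : ∑ z : Z, χ (z : G)⁻¹ * χ z = ∑ z : Z, χ z * χ z :=
    Finset.sum_congr rfl (fun z _ => by rw [hreal z z.2])
  rw [h1, h] at h'
  have hsq : ∀ t ∈ H, t * t = 1 → t = 1 := by
    intro t ht htt
    by_contra hne
    have h2 : orderOf t = 2 := orderOf_eq_prime (by rw [sq]; exact htt) hne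
    have h3 : orderOf (⟨t, hHB ht⟩ : B) ∣ Nat.card B := orderOf_dvd_natCard _
    rw [Subgroup.orderOf_mk, h2] at h3
    exact (Nat.not_even_iff_odd.mpr hodd) (even_iff_two_dvd.mpr h3)
  have hmemH : ∀ g ∈ B, g * g ∈ H → g ∈ H := by
    intro g hg hgg
    have h2 : Odd (orderOf g) := by
      apply Odd.of_dvd_nat hodd
      rw [← Subgroup.orderOf_mk g hg]
      exact orderOf_dvd_natCard _
    obtain ⟨k, hk⟩ := h2
    have h3 : (g * g) ^ (k + 1) = g := by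
      rw [← sq, ← pow_mul]
      have : 2 * (k + 1) = orderOf g + 1 := by omega
      rw [this, pow_succ, pow_orderOf_eq_one, one_mul]
    rw [← h3]
    exact H.pow_mem hgg _
  have hB1 : ∀ g ∈ Finset.univ.filter (fun g : G => g ∈ B), ∑ p ∈ P, χ (g * p.1 * g⁻¹ * p.2) = ∑ z : Z, χ z := by
    intro g hg
    rw [Finset.mem_filter] at hg
    rw [hsum (fun x y => χ (g * x * g⁻¹ * y))]
    have hinj : Function.Injective (fun z : Z => (⟨g * z * g⁻¹ * z, Z.mul_mem (hZ g hg.2 z z.2) z.2⟩ : Z)) := by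
      intro a b hab
      have h2 : g * (a : G) * g⁻¹ * a = g * b * g⁻¹ * b := congrArg Subtype.val hab
      by_contra hne
      obtain ⟨t, ht⟩ : ∃ t : G, t = (b : G)⁻¹ * a := ⟨_, rfl⟩
      have htZ : t ∈ Z := by rw [ht]; exact Z.mul_mem (Z.inv_mem b.2) a.2
      have ht1 : t ≠ 1 := by
        intro h3
        rw [ht, inv_mul_eq_one] at h3
        exact hne (Subtype.ext h3.symm)
      have h4 : g * t * g⁻¹ = t⁻¹ := by
        rw [ht, mul_inv_rev, inv_inv]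
        calc g * ((b : G)⁻¹ * a) * g⁻¹ = (g * (b : G) * g⁻¹)⁻¹ * (g * a * g⁻¹ * a) * (a : G)⁻¹ := by group
          _ = (a : G)⁻¹ * b := by
            rw [h2]
            have h5 := hZc _ (Z.inv_mem a.2) _ (hZH b.2)
            rw [← h5]; group
      have h6 : g * g * t = t * (g * g) := by
        have h7 : g * t = t⁻¹ * g := by rw [← h4]; group
        have h8 : g * t⁻¹ = t * g := by
          have h5 : g * t⁻¹ * g⁻¹ = t := by
            calc g * t⁻¹ * g⁻¹ = (g * t * g⁻¹)⁻¹ := by group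
              _ = t := by rw [h4, inv_inv]
          exact mul_inv_eq_iff_eq_mul.mp h5
        rw [mul_assoc, h7, ← mul_assoc, h8, mul_assoc]
      have h9 := hmemH g hg.2 (hcent t (hZH htZ) ht1 _ h6)
      have h10 : t⁻¹ = t := by rw [← h4]; exact hconj t htZ g h9
      exact ht1 (hsq t (hZH htZ) (by nth_rw 1 [← h10]; exact inv_mul_cancel t))
    exact Fintype.sum_bijective _ ((Finite.injective_iff_bijective).mp hinj) _ _ (fun x => rfl)
  have hB2 : ∀ g ∈ Finset.univ.filter (fun g : G => g ∈ B), ∑ p ∈ P', χ (g * p.1 * g⁻¹ * p.2) =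
      ∑ z : Z, χ z + if g ∈ H then (Nat.card Z : ℂ) * χ 1 - ∑ z : Z, χ z else 0 := by
    intro g hg
    rw [Finset.mem_filter] at hg
    rw [hsum' (fun x y => χ (g * x * g⁻¹ * y))]
    split_ifs with hgH
    · have h2 : ∀ z ∈ (Finset.univ : Finset Z), χ (g * (z : G)⁻¹ * g⁻¹ * z) = χ 1 := by
        intro z _
        rw [hconj _ (Z.inv_mem z.2) g hgH, inv_mul_cancel]
      rw [Finset.sum_congr rfl h2, Finset.sum_const, nsmul_eq_mul, Finset.card_univ, ← Nat.card_eq_fintype_card]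
      ring
    · rw [add_zero]
      have hinj : Function.Injective (fun z : Z => (⟨g * (z : G)⁻¹ * g⁻¹ * z,
          Z.mul_mem (hZ g hg.2 _ (Z.inv_mem z.2)) z.2⟩ : Z)) := by
        intro a b hab
        have h2 : g * (a : G)⁻¹ * g⁻¹ * a = g * (b : G)⁻¹ * g⁻¹ * b := congrArg Subtype.val hab
        by_contra hne
        obtain ⟨t, ht⟩ : ∃ t : G, t = (a : G) * (b : G)⁻¹ := ⟨_, rfl⟩
        have htZ : t ∈ Z := by rw [ht]; exact Z.mul_mem a.2 (Z.inv_mem b.2)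
        have ht1 : t ≠ 1 := by
          intro h3
          rw [ht, mul_inv_eq_one] at h3
          exact hne (Subtype.ext h3)
        apply hgH
        apply hcent t (hZH htZ) ht1
        -- `g t g⁻¹ = t`
        have h4 : t = g * t * g⁻¹ := by
          rw [ht]
          have hb5 : (b : G)⁻¹ * a = a * (b : G)⁻¹ := hZc _ a.2 _ (H.inv_mem (hZH b.2))
          calc (a : G) * (b : G)⁻¹ = (g * (a : G)⁻¹ * g⁻¹)⁻¹ * (g * (a : G)⁻¹ * g⁻¹ * a) * (b : G)⁻¹ := by group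
            _ = (g * (a : G)⁻¹ * g⁻¹)⁻¹ * (g * (b : G)⁻¹ * g⁻¹ * b) * (b : G)⁻¹ := by rw [h2]
            _ = g * ((a : G) * (b : G)⁻¹) * g⁻¹ := by group
        calc g * t = g * t * g⁻¹ * g := by group
          _ = t * g := by rw [← h4]
      exact Fintype.sum_bijective _ ((Finite.injective_iff_bijective).mp hinj) _ _ (fun x => rfl)
  rw [Finset.sum_congr rfl hB1, Finset.sum_congr rfl hB2, Finset.sum_add_distrib, add_assoc] at h'
  have h3 := add_left_cancel h'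
  rw [← Finset.sum_filter, Finset.sum_const, nsmul_eq_mul] at h3
  have h4 : (((Finset.univ.filter (fun g : G => g ∈ B)).filter (fun g => g ∈ H)).card : ℂ) = (Nat.card H : ℂ) := by
    congr 1
    rw [Finset.filter_filter, Nat.card_eq_fintype_card, Fintype.card_subtype]
    congr 1
    ext g
    simp only [Finset.mem_filter, Finset.mem_univ, true_and]
    exact ⟨fun h => h.2, fun h => ⟨hHB h, h⟩⟩
  rw [h4] at h3
  refine ⟨α - α', hα.sub hα', ?_⟩
  have hne : (Nat.card H : ℂ) ≠ 0 := by exact_mod_cast Nat.card_pos.ne'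
  apply mul_left_cancel₀ hne
  linear_combination -h3

end TI

end Cfsg.Agent.H3.Feit
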