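import Mathlib

/-! Arithmetic of the Brauer-Reynolds theorem. -/

set_option autoImplicit false

namespace Cfsg.Agent.H4.BRar

/-- the third alternative of the theorem -/
def Alt (n p : ℕ) : Prop := ∃ h u : ℕ, 0 < h ∧ 0 < u ∧ n * (u + 1) = h * u * p + u ^ 2 + u + h

theorem alt_of_int {n p : ℕ} {h u : ℤ} (hh : 0 < h) (hu : 0 < u)
    (he : (n : ℤ) * (u + 1) = h * u * p + u ^ 2 + u + h) : Alt n p := by
  lift h to ℕ using hh.le
  lift u to ℕ using hu.le
  exact ⟨h, u, by exact_mod_cast hh, by exact_mod_cast hu, by exact_mod_cast he⟩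

/-- `(u p + 1)(k p + e) = e m`. -/
theorem arPlus {n p e t : ℕ} (he : 0 < e) (hp : p = t * e + 1) {u k : ℤ} (hu : 0 < u)
    (hk : 0 < k) (h : (e : ℤ) * (1 + n * p) = (u * p + 1) * (k * p + e)) : Alt n p := by
  have hp0 : (p : ℤ) ≠ 0 := by
    have : (p : ℕ) ≠ 0 := by omega
    exact_mod_cast this
  have h1 : (e : ℤ) * n = u * k * p + u * e + k := by
    have : (p : ℤ) * (e * n) = p * (u * k * p + u * e + k) := by linear_combination h
    exact mul_left_cancel₀ hp0 this
  have hpz : (p : ℤ) = t * e + 1 := by exact_mod_cast hp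
  -- e ∣ k (u + 1)
  have h2 : (e : ℤ) ∣ k * (u + 1) := by
    refine ⟨n - u - u * k * t, ?_⟩
    rw [hpz] at h1
    linear_combination -h1
  obtain ⟨j, hj⟩ := h2
  have hepos : (0 : ℤ) < e := by exact_mod_cast he
  have hjpos : 0 < j := by
    have : 0 < (e : ℤ) * j := by rw [← hj]; positivity
    exact (mul_pos_iff_of_pos_left hepos).mp this
  refine alt_of_int (h := j) (u := u) hjpos hu ?_
  have : (e : ℤ) * (n * (u + 1)) = e * (j * u * p + u ^ 2 + u + j) := by
    linear_combination (u + 1) * h1 + (u * p + 1) * hj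
  exact mul_left_cancel₀ hepos.ne' this

/-- `(u p - 1)(k p - e) = e m`. -/
theorem arMinus {n p e t : ℕ} (he : 0 < e) (hp : p = t * e + 1) {u k : ℤ} (hu : 1 < u)
    (hk : 0 < k) (hkt : 1 < k * t) (h : (e : ℤ) * (1 + n * p) = (u * p - 1) * (k * p - e)) :
    Alt n p := by
  have hp0 : (p : ℤ) ≠ 0 := by
    have : (p : ℕ) ≠ 0 := by omega
    exact_mod_cast this
  have h1 : (e : ℤ) * n = u * k * p - u * e - k := by
    have : (p : ℤ) * (e * n) = p * (u * k * p - u * e - k) := by linear_combination h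
    exact mul_left_cancel₀ hp0 this
  have hpz : (p : ℤ) = t * e + 1 := by exact_mod_cast hp
  have h2 : (e : ℤ) ∣ k * (u - 1) := by
    refine ⟨n + u - u * k * t, ?_⟩
    rw [hpz] at h1
    linear_combination -h1
  obtain ⟨j, hj⟩ := h2
  have hepos : (0 : ℤ) < e := by exact_mod_cast he
  have hjpos : 0 < j := by
    have h0 : 0 < k * (u - 1) := mul_pos hk (by linarith)
    have : 0 < (e : ℤ) * j := by rw [← hj]; exact h0
    exact (mul_pos_iff_of_pos_left hepos).mp this
  refine alt_of_int (h := j) (u := k * t - 1) hjpos (by linarith) ?_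
  have : (e : ℤ) * (n * (k * t - 1 + 1)) = e * (j * (k * t - 1) * p + (k * t - 1) ^ 2 + (k * t - 1) + j) := by
    linear_combination (k * t) * h1 + ((k * t - 1) * p + 1) * hj + (k * (u + k * t - 1)) * hpz
  exact mul_left_cancel₀ hepos.ne' this

theorem exists_of_modEq {p x c : ℤ} (hp : 0 < p) (h : x ≡ c [ZMOD p]) : ∃ k : ℤ, x = k * p + c := by
  obtain ⟨k, hk⟩ := (Int.modEq_iff_dvd.mp h.symm)
  exact ⟨k, by linear_combination hk⟩

theorem nonneg_of {p k c : ℤ} (hp : 0 < p) (hc : c < p) (h : 0 < k * p + c) : 0 ≤ k := by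
  by_contra hk
  push Not at hk
  have : k * p ≤ (-1) * p := mul_le_mul_of_nonneg_right (by linarith) hp.le
  linarith

/-- characters with sign `+`. -/
theorem degPlus {n p e t x : ℕ} (he : 0 < e) (ht : 0 < t) (hp : p = t * e + 1)
    (hx : (x : ℤ) ≡ 1 [ZMOD p]) (hdvd : x ∣ e * (1 + n * p)) (hx1 : x ≠ 1) :
    Alt n p ∨ x = 1 + n * p := by
  have hpp : (0 : ℤ) < p := by
    have : 0 < p := by omega
    exact_mod_cast this
  have hep : (e : ℤ) < p := by
    have : e < p := by nlinarith
    exact_mod_cast this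
  have h1p : (1 : ℤ) < p := by
    have : 1 < p := by nlinarith
    exact_mod_cast this
  obtain ⟨q, hq⟩ := hdvd
  have hqz : (e : ℤ) * (1 + n * p) = x * q := by exact_mod_cast hq
  obtain ⟨u, hu⟩ := exists_of_modEq hpp hx
  have hem : 0 < e * (1 + n * p) := by positivity
  have hx0 : 0 < x := by
    rcases Nat.eq_zero_or_pos x with h | h
    · rw [h, zero_mul] at hq; omega
    · exact h
  have hq0 : 0 < q := by
    rcases Nat.eq_zero_or_pos q with h | h
    · rw [h, mul_zero] at hq; omega
    · exact h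
  have hu0 : 0 ≤ u := nonneg_of hpp h1p (by rw [← hu]; exact_mod_cast hx0)
  have hu1 : 0 < u := by
    rcases hu0.lt_or_eq with h | h
    · exact h
    · exfalso; rw [← h, zero_mul, zero_add] at hu
      exact hx1 (by exact_mod_cast hu)
  -- q ≡ e
  obtain ⟨k, hk⟩ : ∃ k : ℤ, (q : ℤ) = k * p + e := by
    refine ⟨e * n - u * q, ?_⟩
    rw [hu] at hqz
    linear_combination -hqz
  have hk0 : 0 ≤ k := nonneg_of hpp hep (by rw [← hk]; exact_mod_cast hq0)
  rcases hk0.lt_or_eq with h | h
  · left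
    refine arPlus he hp hu1 h ?_
    rw [hqz, hu, hk]
  · right
    rw [← h, zero_mul, zero_add] at hk
    have hqe : q = e := by exact_mod_cast hk
    rw [hqe] at hq
    have : e * (1 + n * p) = e * x := by rw [hq]; ring
    exact (Nat.eq_of_mul_eq_mul_left he this).symm

/-- characters with sign `-`. -/
theorem degMinus {n p e t x : ℕ} (he : 0 < e) (ht : 0 < t) (hp : p = t * e + 1)
    (hx : (x : ℤ) ≡ -1 [ZMOD p]) (hdvd : x ∣ e * (1 + n * p)) :
    Alt n p ∨ x + 1 = p ∨ (t = 1 ∧ x = e * (1 + n * p)) := by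
  have hpp : (0 : ℤ) < p := by
    have : 0 < p := by omega
    exact_mod_cast this
  obtain ⟨q, hq⟩ := hdvd
  have hqz : (e : ℤ) * (1 + n * p) = x * q := by exact_mod_cast hq
  obtain ⟨u, hu⟩ := exists_of_modEq hpp hx
  have hem : 0 < e * (1 + n * p) := by positivity
  have hx0 : 0 < x := by
    rcases Nat.eq_zero_or_pos x with h | h
    · rw [h, zero_mul] at hq; omega
    · exact h
  have hq0 : 0 < q := by
    rcases Nat.eq_zero_or_pos q with h | h
    · rw [h, mul_zero] at hq; omega
    · exact h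
  have hu1 : 0 < u := by
    have h1 : (0 : ℤ) < x := by exact_mod_cast hx0
    by_contra hcon
    push Not at hcon
    have : u * p ≤ 0 := mul_nonpos_of_nonpos_of_nonneg hcon hpp.le
    linarith
  obtain ⟨k, hk⟩ : ∃ k : ℤ, (q : ℤ) = k * p - e := by
    refine ⟨u * q - e * n, ?_⟩
    rw [hu] at hqz
    linear_combination hqz
  have hk1 : 0 < k := by
    have h1 : (0 : ℤ) < q := by exact_mod_cast hq0
    have h2 : (0 : ℤ) ≤ e := by positivity
    by_contra hcon
    push Not at hcon
    have : k * p ≤ 0 := mul_nonpos_of_nonpos_of_nonneg hcon hpp.le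
    linarith
  rcases (show (1 : ℤ) ≤ u from hu1).lt_or_eq with h | h
  · rcases (show (1 : ℤ) ≤ k * t from by
      have : (0 : ℤ) < t := by exact_mod_cast ht
      have := mul_pos hk1 this
      linarith).lt_or_eq with h' | h'
    · left
      refine arMinus he hp h hk1 h' ?_
      rw [hqz, hu, hk]; ring
    · right; right
      have htz : (0 : ℤ) < t := by exact_mod_cast ht
      have hk1' : k = 1 := by nlinarith
      have ht1 : (t : ℤ) = 1 := by rw [hk1', one_mul] at h'; exact h'.symm
      have ht1' : t = 1 := by exact_mod_cast ht1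
      refine ⟨ht1', ?_⟩
      have hpz : (p : ℤ) = t * e + 1 := by exact_mod_cast hp
      have hq1 : (q : ℤ) = 1 := by rw [hk, hk1', hpz, ht1]; ring
      have : q = 1 := by exact_mod_cast hq1
      rw [this, mul_one] at hq
      exact hq.symm
  · right; left
    rw [← h] at hu
    have : (x : ℤ) + 1 = p := by rw [hu]; ring
    exact_mod_cast this

/-- exceptional characters, sign `+`. -/
theorem excPlus {n p e t x : ℕ} (he : 0 < e) (ht : 0 < t) (hp : p = t * e + 1) (hpr : p.Prime)
    (hx : (x : ℤ) ≡ e [ZMOD p]) (hdvd : x ∣ e * (1 + n * p)) :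
    Alt n p ∨ x = e ∨ x = e * (1 + n * p) := by
  have hpp : (0 : ℤ) < p := by exact_mod_cast hpr.pos
  have hep' : e < p := by nlinarith
  have hep : (e : ℤ) < p := by exact_mod_cast hep'
  have h1p : (1 : ℤ) < p := by exact_mod_cast hpr.one_lt
  obtain ⟨q, hq⟩ := hdvd
  have hqz : (e : ℤ) * (1 + n * p) = x * q := by exact_mod_cast hq
  obtain ⟨w, hw⟩ := exists_of_modEq hpp hx
  have hem : 0 < e * (1 + n * p) := by positivity
  have hx0 : 0 < x := by
    rcases Nat.eq_zero_or_pos x with h | h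
    · rw [h, zero_mul] at hq; omega
    · exact h
  have hq0 : 0 < q := by
    rcases Nat.eq_zero_or_pos q with h | h
    · rw [h, mul_zero] at hq; omega
    · exact h
  have hw0 : 0 ≤ w := nonneg_of hpp hep (by rw [← hw]; exact_mod_cast hx0)
  -- e (q - 1) ≡ 0
  have h1 : (p : ℤ) ∣ e * (q - 1) := ⟨e * n - w * q, by rw [hw] at hqz; linear_combination -hqz⟩
  have h2 : (p : ℤ) ∣ (q : ℤ) - 1 := by
    refine ((Nat.prime_iff_prime_int.mp hpr).dvd_or_dvd h1).resolve_left ?_
    intro h
    have : p ∣ e := by exact_mod_cast h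
    exact absurd (Nat.le_of_dvd he this) (by omega)
  obtain ⟨k, hk'⟩ := h2
  have hk : (q : ℤ) = k * p + 1 := by linear_combination hk'
  have hk0 : 0 ≤ k := nonneg_of hpp h1p (by rw [← hk]; exact_mod_cast hq0)
  rcases hw0.lt_or_eq with h | h
  · rcases hk0.lt_or_eq with h' | h'
    · left
      refine arPlus he hp h' h ?_
      rw [hqz, hw, hk]; ring
    · right; right
      rw [← h', zero_mul, zero_add] at hk
      have : q = 1 := by exact_mod_cast hk
      rw [this, mul_one] at hq
      exact hq.symm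
  · right; left
    rw [← h, zero_mul, zero_add] at hw
    exact_mod_cast hw

/-- exceptional characters, sign `-`. -/
theorem excMinus {n p e t x : ℕ} (he : 0 < e) (ht : 1 < t) (hp : p = t * e + 1) (hpr : p.Prime)
    (hx : (x : ℤ) ≡ -e [ZMOD p]) (hdvd : x ∣ e * (1 + n * p)) :
    Alt n p ∨ t * x = 1 + n * p := by
  have hpp : (0 : ℤ) < p := by exact_mod_cast hpr.pos
  have hep' : e < p := by nlinarith
  obtain ⟨q, hq⟩ := hdvd
  have hqz : (e : ℤ) * (1 + n * p) = x * q := by exact_mod_cast hq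
  obtain ⟨w, hw⟩ := exists_of_modEq hpp hx
  have hem : 0 < e * (1 + n * p) := by positivity
  have hx0 : 0 < x := by
    rcases Nat.eq_zero_or_pos x with h | h
    · rw [h, zero_mul] at hq; omega
    · exact h
  have hq0 : 0 < q := by
    rcases Nat.eq_zero_or_pos q with h | h
    · rw [h, mul_zero] at hq; omega
    · exact h
  have hw1 : 0 < w := by
    have h1 : (0 : ℤ) < x := by exact_mod_cast hx0
    have h2 : (0 : ℤ) ≤ e := by positivity
    by_contra hcon
    push Not at hcon
    have : w * p ≤ 0 := mul_nonpos_of_nonpos_of_nonneg hcon hpp.le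
    linarith
  have h1 : (p : ℤ) ∣ e * (q + 1) := ⟨w * q - e * n, by rw [hw] at hqz; linear_combination hqz⟩
  have h2 : (p : ℤ) ∣ (q : ℤ) + 1 := by
    refine ((Nat.prime_iff_prime_int.mp hpr).dvd_or_dvd h1).resolve_left ?_
    intro h
    have : p ∣ e := by exact_mod_cast h
    exact absurd (Nat.le_of_dvd he this) (by omega)
  obtain ⟨k, hk'⟩ := h2
  have hk : (q : ℤ) = k * p - 1 := by linear_combination hk'
  have hk1 : 0 < k := by
    have h1 : (0 : ℤ) < q := by exact_mod_cast hq0
    by_contra hcon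
    push Not at hcon
    have : k * p ≤ 0 := mul_nonpos_of_nonpos_of_nonneg hcon hpp.le
    linarith
  have htz : (1 : ℤ) < t := by exact_mod_cast ht
  rcases (show (1 : ℤ) ≤ k from hk1).lt_or_eq with h | h
  · left
    refine arMinus (u := k) (k := w) he hp h hw1 ?_ ?_
    · nlinarith
    · rw [hqz, hw, hk]; ring
  · right
    have hpz : (p : ℤ) = t * e + 1 := by exact_mod_cast hp
    rw [← h, one_mul] at hk
    have h3 : (q : ℤ) = t * e := by rw [hk, hpz]; ring
    rw [h3] at hqz
    have hez : (e : ℤ) ≠ 0 := by exact_mod_cast he.ne'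
    have h4 : (e : ℤ) * (t * x) = e * (1 + n * p) := by rw [hqz]; ring
    have h5 := mul_left_cancel₀ hez h4
    exact_mod_cast h5

end Cfsg.Agent.H4.BRar
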