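import Mathlib

/-! Group theoretic basics for a Sylow subgroup of prime order. -/

set_option autoImplicit false

namespace Cfsg.Agent.H4.BRgr

open Subgroup

universe u

variable {G : Type u} [Group G] [Finite G] {p : ℕ} [hp : Fact p.Prime] {P : Sylow p G}

theorem orderOf_eq (hP : Nat.card P = p) {x : G} (hx : x ∈ (P : Subgroup G)) (h1 : x ≠ 1) :
    orderOf x = p := by
  have h2 : orderOf x ∣ p := by
    have := Subgroup.orderOf_dvd_natCard (P : Subgroup G) hx
    rwa [show Nat.card (P : Subgroup G) = p from hP] at this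
  rcases (Nat.dvd_prime hp.out).mp h2 with h | h
  · exact absurd (orderOf_eq_one_iff.mp h) h1
  · exact h

theorem zpowers_eq (hP : Nat.card P = p) {x : G} (hx : x ∈ (P : Subgroup G)) (h1 : x ≠ 1) :
    zpowers x = (P : Subgroup G) := by
  apply eq_of_le_of_card_ge
  · rw [zpowers_le]; exact hx
  · rw [Nat.card_zpowers, orderOf_eq hP hx h1]
    exact hP.le

theorem centralizer_eq (hP : Nat.card P = p) {x : G} (hx : x ∈ (P : Subgroup G)) (h1 : x ≠ 1) :
    centralizer ({x} : Set G) = centralizer ((P : Subgroup G) : Set G) := by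
  rw [← zpowers_eq hP hx h1]
  apply le_antisymm
  · intro g hg y hy
    obtain ⟨k, rfl⟩ := mem_zpowers_iff.mp hy
    rw [mem_centralizer_singleton_iff] at hg
    exact ((show Commute g x from hg).zpow_right k).symm
  · exact centralizer_le (by simp)

theorem mem_normalizer_of (hP : Nat.card P = p) {x g : G} (hx : x ∈ (P : Subgroup G)) (h1 : x ≠ 1)
    (hg : g * x * g⁻¹ ∈ (P : Subgroup G)) : g ∈ normalizer ((P : Subgroup G) : Set G) := by
  have hle : ∀ y ∈ (P : Subgroup G), g * y * g⁻¹ ∈ (P : Subgroup G) := by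
    intro y hy
    rw [← zpowers_eq hP hx h1] at hy
    obtain ⟨k, rfl⟩ := mem_zpowers_iff.mp hy
    rw [← conj_zpow]
    exact zpow_mem hg k
  have h2 : (P : Subgroup G).map (MulAut.conj g).toMonoidHom = (P : Subgroup G) := by
    apply eq_of_le_of_card_ge
    · rintro _ ⟨y, hy, rfl⟩
      exact hle y hy
    · rw [Subgroup.card_map_of_injective (MulAut.conj g).injective]
  exact mem_normalizer_iff_map_conj_eq.mpr h2

/-- conjugation by an element of the normalizer. -/
theorem conj_mem {x g : G} (hx : x ∈ (P : Subgroup G))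
    (hg : g ∈ normalizer ((P : Subgroup G) : Set G)) : g * x * g⁻¹ ∈ (P : Subgroup G) := by
  rw [mem_normalizer_iff] at hg
  exact (hg x).mp hx

/-- In the self-centralizing case every `p`-singular element is conjugate into `P`. -/
theorem exists_conj_mem (hP : Nat.card P = p)
    (hC : centralizer ((P : Subgroup G) : Set G) = (P : Subgroup G)) {g : G}
    (hg : p ∣ orderOf g) : ∃ h : G, h * g * h⁻¹ ∈ (P : Subgroup G) ∧ h * g * h⁻¹ ≠ 1 := by
  obtain ⟨k, hk⟩ := hg
  have hg0 : 0 < orderOf g := orderOf_pos g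
  have hk0 : k ≠ 0 := by rintro rfl; omega
  have hy : orderOf (g ^ k) = p := by
    have := orderOf_pow_of_dvd (x := g) hk0 ⟨p, by rw [hk]; ring⟩
    rw [this, hk, Nat.mul_div_cancel _ (Nat.pos_of_ne_zero hk0)]
  have hyp : IsPGroup p (zpowers (g ^ k)) := by
    apply IsPGroup.of_card (n := 1)
    rw [Nat.card_zpowers, hy, pow_one]
  obtain ⟨Q, hQ⟩ := hyp.exists_le_sylow
  obtain ⟨h, hh⟩ := MulAction.exists_smul_eq G Q P
  have h1 : h * (g ^ k) * h⁻¹ ∈ (P : Subgroup G) := by
    rw [← hh, Sylow.coe_subgroup_smul]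
    rw [Subgroup.mem_pointwise_smul_iff_inv_smul_mem]
    have : (MulAut.conj h)⁻¹ • (h * g ^ k * h⁻¹) = g ^ k := by
      rw [MulAut.smul_def, MulAut.conj_inv_apply]; group
    rw [this]
    exact hQ (mem_zpowers _)
  have h2 : h * (g ^ k) * h⁻¹ ≠ 1 := by
    intro h3
    have : g ^ k = 1 := by
      have : g ^ k = h⁻¹ * (h * g ^ k * h⁻¹) * h := by group
      rw [this, h3]; group
    rw [this, orderOf_one] at hy
    exact hp.out.one_lt.ne hy
  refine ⟨h, ?_, ?_⟩
  · rw [← hC, ← centralizer_eq hP h1 h2, mem_centralizer_singleton_iff]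
    have : Commute (h * g * h⁻¹) ((h * g * h⁻¹) ^ k) := Commute.self_pow _ _
    rw [conj_pow] at this
    exact this
  · intro h3
    rw [← conj_pow, h3, one_pow] at h2
    exact h2 rfl

theorem index_centralizer {e : ℕ}
    (he : (centralizer ((P : Subgroup G) : Set G)).relIndex (normalizer ((P : Subgroup G) : Set G)) = e) :
    (centralizer ((P : Subgroup G) : Set G)).index = e * Nat.card (Sylow p G) := by
  have h1 : centralizer ((P : Subgroup G) : Set G) ≤ normalizer ((P : Subgroup G) : Set G) :=
    centralizer_le_normalizer _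
  have h2 : Nat.card (Sylow p G) = (normalizer ((P : Subgroup G) : Set G)).index :=
    P.card_eq_index_normalizer
  rw [h2, ← he, relIndex_mul_index h1]

theorem card_eq {e : ℕ}
    (he : (centralizer ((P : Subgroup G) : Set G)).relIndex (normalizer ((P : Subgroup G) : Set G)) = e) :
    Nat.card G = Nat.card (Sylow p G) * (e * Nat.card (centralizer ((P : Subgroup G) : Set G))) := by
  rw [← card_mul_index (centralizer ((P : Subgroup G) : Set G)), index_centralizer he]
  ring

end Cfsg.Agent.H4.BRgr
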