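import Mathlib
import Cfsg.Prelude.Def_Characters
import Cfsg.Agent.H4_BRgr
import Cfsg.Agent.H4_BRar
import Cfsg.Agent.H3_CharInt
import Cfsg.Agent.H3_CharTI
import Cfsg.Agent.H3_CharMult
import Cfsg.Agent.H3_Feit1
import Cfsg.Agent.H10_BlockKer

/-! The principal block data for a Sylow subgroup of prime order. -/

set_option autoImplicit false

namespace Cfsg.Agent.H4.BRdata

open Cfsg Cfsg.Agent.H3.CharIrr Cfsg.Agent.H3.CharComplete Cfsg.Agent.H3.CharInd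
  Cfsg.Agent.H3.CharMult Cfsg.Agent.H3.CharInt Cfsg.Agent.H4.BRgr Cfsg.Agent.H4.BRar
open scoped ComplexConjugate

universe u

/-- Principal block data. -/
structure BD {G : Type u} [Group G] [Fintype G] {p : ℕ} [Fact p.Prime] (P : Sylow p G) (e t : ℕ)
    (X Y : Finset (IrrCharacter G)) (δ : IrrCharacter G → ℤ) (ε : ℤ) : Prop where
  disj : Disjoint X Y
  cX : X.card = e
  cY : Y.card = t
  sX : ∀ χ ∈ X, δ χ = 1 ∨ δ χ = -1
  dX : ∀ χ ∈ X, (charDegree (χ : G → ℂ) : ℤ) ≡ δ χ [ZMOD p]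
  vX : ∀ χ ∈ X, ∀ x ∈ (P : Subgroup G), x ≠ 1 → ∀ y ∈ Subgroup.centralizer ((P : Subgroup G) : Set G),
    ¬ p ∣ orderOf y → (χ : G → ℂ) (x * y) = (δ χ : ℂ)
  sε : ε = 1 ∨ ε = -1
  dY : ∀ θ ∈ Y, (charDegree (θ : G → ℂ) : ℤ) ≡ ε * e [ZMOD p]
  aY : ∀ θ ∈ Y, ∀ θ' ∈ Y, ∀ g : G, ¬ p ∣ orderOf g → (θ : G → ℂ) g = (θ' : G → ℂ) g
  rel : ∀ θ ∈ Y, ∀ g : G, ¬ p ∣ orderOf g →
    (ε : ℂ) * (θ : G → ℂ) g = ∑ χ ∈ X, (δ χ : ℂ) * (χ : G → ℂ) g
  one : Cfsg.Agent.H10.BlockKer.triv G ∈ X ∪ Y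
  van : Subgroup.centralizer ((P : Subgroup G) : Set G) = (P : Subgroup G) → ∀ χ : IrrCharacter G,
    χ ∉ X ∪ Y → ∀ x ∈ (P : Subgroup G), x ≠ 1 → (χ : G → ℂ) x = 0
  orth : ∀ g : G, ¬ p ∣ orderOf g → ∀ s : G, p ∣ orderOf s →
    ∑ χ ∈ X ∪ Y, (χ : G → ℂ) g * conj ((χ : G → ℂ) s) = 0

variable {G : Type u} [Group G] [Fintype G] {p : ℕ} [hp : Fact p.Prime] {P : Sylow p G} {e t : ℕ}
  {X Y : Finset (IrrCharacter G)} {δ : IrrCharacter G → ℤ} {ε : ℤ}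

theorem deg_eq (χ : IrrCharacter G) : (χ : G → ℂ) 1 = (charDegree (χ : G → ℂ) : ℂ) :=
  (Cfsg.Agent.H10.Char.charDegree_eq χ.2).symm

theorem deg_pos (χ : IrrCharacter G) : 0 < charDegree (χ : G → ℂ) :=
  Cfsg.Agent.H10.Char.charDegree_pos χ.2

theorem not_dvd_one : ¬ p ∣ orderOf (1 : G) := by
  rw [orderOf_one]
  intro h
  exact hp.out.one_lt.ne' (Nat.dvd_one.mp h)

theorem dvd_of_mem (hP : Nat.card P = p) {x : G} (hx : x ∈ (P : Subgroup G)) (h1 : x ≠ 1) :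
    p ∣ orderOf x := by rw [orderOf_eq hP hx h1]

/-- value on `P` of characters in `X`. -/
theorem BD.val (D : BD P e t X Y δ ε) {χ : IrrCharacter G} (hχ : χ ∈ X) {x : G}
    (hx : x ∈ (P : Subgroup G)) (h1 : x ≠ 1) : (χ : G → ℂ) x = (δ χ : ℂ) := by
  have := D.vX χ hχ x hx h1 1 (Subgroup.one_mem _) not_dvd_one
  rwa [mul_one] at this

theorem BD.degY (D : BD P e t X Y δ ε) {θ θ' : IrrCharacter G} (hθ : θ ∈ Y) (hθ' : θ' ∈ Y) :
    charDegree (θ : G → ℂ) = charDegree (θ' : G → ℂ) := by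
  have := D.aY θ hθ θ' hθ' 1 not_dvd_one
  rw [deg_eq, deg_eq] at this
  exact_mod_cast this

theorem BD.relDeg (D : BD P e t X Y δ ε) {θ : IrrCharacter G} (hθ : θ ∈ Y) :
    ε * (charDegree (θ : G → ℂ) : ℤ) = ∑ χ ∈ X, δ χ * (charDegree (χ : G → ℂ) : ℤ) := by
  have := D.rel θ hθ 1 not_dvd_one
  simp only [deg_eq] at this
  exact_mod_cast this

theorem BD.sumY (D : BD P e t X Y δ ε) {θ : IrrCharacter G} (hθ : θ ∈ Y) {x y : G}
    (hP : Nat.card P = p)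
    (hx : x ∈ (P : Subgroup G)) (h1 : x ≠ 1) (hy : y ∈ Subgroup.centralizer ((P : Subgroup G) : Set G))
    (hyp : ¬ p ∣ orderOf y) : ∑ θ' ∈ Y, (θ' : G → ℂ) (x * y) = -(ε : ℂ) := by
  have hs : p ∣ orderOf (x * y) := by
    have hc : Commute x y := (Subgroup.mem_centralizer_iff.mp hy x hx)
    have hcop : (orderOf x).Coprime (orderOf y) := by
      rw [orderOf_eq hP hx h1]
      exact (Nat.Prime.coprime_iff_not_dvd hp.out).mpr hyp
    rw [hc.orderOf_mul_eq_mul_orderOf_of_coprime hcop, orderOf_eq hP hx h1]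
    exact Dvd.intro _ rfl
  have h2 := D.orth 1 not_dvd_one (x * y) hs
  rw [Finset.sum_union D.disj] at h2
  have h3 : ∑ χ ∈ X, (χ : G → ℂ) 1 * conj ((χ : G → ℂ) (x * y)) = (ε : ℂ) * (θ : G → ℂ) 1 := by
    rw [D.rel θ hθ 1 not_dvd_one]
    refine Finset.sum_congr rfl fun χ hχ => ?_
    rw [D.vX χ hχ x hx h1 y hy hyp, mul_comm]
    simp
  have h4 : ∑ χ ∈ Y, (χ : G → ℂ) 1 * conj ((χ : G → ℂ) (x * y)) =
      (θ : G → ℂ) 1 * conj (∑ θ' ∈ Y, (θ' : G → ℂ) (x * y)) := by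
    rw [map_sum, Finset.mul_sum]
    refine Finset.sum_congr rfl fun χ hχ => ?_
    rw [D.aY χ hχ θ hθ 1 not_dvd_one]
  rw [h3, h4, mul_comm (ε : ℂ), ← mul_add] at h2
  have h5 := (mul_eq_zero.mp h2).resolve_left (IsIrr.one_ne_zero θ.2)
  have h6 : conj (∑ θ' ∈ Y, (θ' : G → ℂ) (x * y)) = -(ε : ℂ) := by linear_combination h5
  have h7 := congrArg conj h6
  rw [Complex.conj_conj] at h7
  rw [h7]; simp

/-- degrees in `X` divide `e m`. -/
theorem BD.dvdX (D : BD P e t X Y δ ε) (hP : Nat.card P = p)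
    {e' : ℕ} (he : (Subgroup.centralizer ((P : Subgroup G) : Set G)).relIndex
      (Subgroup.normalizer ((P : Subgroup G) : Set G)) = e') {χ : IrrCharacter G} (hχ : χ ∈ X) :
    charDegree (χ : G → ℂ) ∣ e' * Nat.card (Sylow p G) := by
  obtain ⟨x, hx, hx1⟩ : ∃ x ∈ (P : Subgroup G), x ≠ 1 := by
    have : Nontrivial (P : Subgroup G) := by
      rw [← Finite.one_lt_card_iff_nontrivial]
      exact hP.symm ▸ hp.out.one_lt
    obtain ⟨x, hx⟩ := exists_ne (1 : (P : Subgroup G))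
    exact ⟨x, x.2, fun h => hx (Subtype.ext h)⟩
  have h1 := IsIrr.omega_class χ.2 x
  rw [centralizer_eq hP hx hx1, index_centralizer he, D.val hχ hx hx1] at h1
  have h2 : (charDegree (χ : G → ℂ) : ℤ) ∣ ((e' * Nat.card (Sylow p G) : ℕ) : ℤ) * δ χ := by
    refine Cfsg.Agent.H3.Feit.dvd_of_mul_integral (deg_pos χ).ne' h1 ?_
    have h0 : (charDegree (χ : G → ℂ) : ℂ) ≠ 0 := by exact_mod_cast (deg_pos χ).ne'
    rw [deg_eq]
    push_cast
    field_simp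
  rcases D.sX χ hχ with h | h
  · rw [h, mul_one] at h2; exact_mod_cast h2
  · rw [h, mul_neg, mul_one, dvd_neg] at h2; exact_mod_cast h2

theorem BD.dvdY (D : BD P e t X Y δ ε) (hP : Nat.card P = p)
    {e' : ℕ} (he : (Subgroup.centralizer ((P : Subgroup G) : Set G)).relIndex
      (Subgroup.normalizer ((P : Subgroup G) : Set G)) = e') {θ : IrrCharacter G} (hθ : θ ∈ Y) :
    charDegree (θ : G → ℂ) ∣ e' * Nat.card (Sylow p G) := by
  obtain ⟨x, hx, hx1⟩ : ∃ x ∈ (P : Subgroup G), x ≠ 1 := by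
    have : Nontrivial (P : Subgroup G) := by
      rw [← Finite.one_lt_card_iff_nontrivial]
      exact hP.symm ▸ hp.out.one_lt
    obtain ⟨x, hx⟩ := exists_ne (1 : (P : Subgroup G))
    exact ⟨x, x.2, fun h => hx (Subtype.ext h)⟩
  have h1 : IsIntegral ℤ (∑ θ' ∈ Y, ((Subgroup.centralizer ({x} : Set G)).index : ℂ) *
      (θ' : G → ℂ) x / (θ' : G → ℂ) 1) :=
    IsIntegral.sum _ fun θ' _ => IsIrr.omega_class θ'.2 x
  have h3 : ∑ θ' ∈ Y, ((Subgroup.centralizer ({x} : Set G)).index : ℂ) *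
      (θ' : G → ℂ) x / (θ' : G → ℂ) 1 = ((e' * Nat.card (Sylow p G) : ℕ) : ℂ) * (-(ε : ℂ)) /
        (charDegree (θ : G → ℂ) : ℂ) := by
    have h5 := D.sumY hθ hP hx hx1 (Subgroup.one_mem _) not_dvd_one
    rw [mul_one] at h5
    rw [← h5, centralizer_eq hP hx hx1, index_centralizer he, Finset.mul_sum, Finset.sum_div]
    refine Finset.sum_congr rfl fun θ' hθ' => ?_
    rw [deg_eq, D.degY hθ' hθ]
  rw [h3] at h1
  have h2 : (charDegree (θ : G → ℂ) : ℤ) ∣ ((e' * Nat.card (Sylow p G) : ℕ) : ℤ) * (-ε) := by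
    refine Cfsg.Agent.H3.Feit.dvd_of_mul_integral (deg_pos θ).ne' h1 ?_
    have h0 : (charDegree (θ : G → ℂ) : ℂ) ≠ 0 := by exact_mod_cast (deg_pos θ).ne'
    push_cast
    field_simp
  rcases D.sε with h | h
  · rw [h, mul_neg, mul_one, dvd_neg] at h2; exact_mod_cast h2
  · rw [h, neg_neg, mul_one] at h2; exact_mod_cast h2

/-- A perfect group has only the trivial linear character. -/
theorem eq_triv (hperf : commutator G = ⊤) {χ : IrrCharacter G} (h : charDegree (χ : G → ℂ) = 1) :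
    χ = Cfsg.Agent.H10.BlockKer.triv G := by
  have h1 : (χ : G → ℂ) 1 = 1 := by rw [deg_eq, h]; simp
  obtain ⟨f, hf⟩ := IsChar.hom_units_of_one (IsIrr.isCharacter χ.2) h1
  have h2 : commutator G ≤ f.ker := Abelianization.commutator_subset_ker f
  rw [hperf, top_le_iff] at h2
  apply Subtype.ext
  funext g
  have h3 : g ∈ f.ker := by rw [h2]; trivial
  rw [hf g, MonoidHom.mem_ker.mp h3]
  simp [Cfsg.Agent.H10.BlockKer.triv_coe]

theorem deg_triv : charDegree ((Cfsg.Agent.H10.BlockKer.triv G : IrrCharacter G) : G → ℂ) = 1 := by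
  have h := deg_eq (Cfsg.Agent.H10.BlockKer.triv G)
  rw [Cfsg.Agent.H10.BlockKer.triv_coe] at h
  exact_mod_cast h.symm

end Cfsg.Agent.H4.BRdata
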