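import Mathlib
import Cfsg.Agent.H4_BRdata

/-! Degrees in the principal block. -/

set_option autoImplicit false

namespace Cfsg.Agent.H4.BRdeg

open Cfsg Cfsg.Agent.H3.CharIrr Cfsg.Agent.H3.CharComplete Cfsg.Agent.H3.CharInd
  Cfsg.Agent.H3.CharMult Cfsg.Agent.H3.CharInt Cfsg.Agent.H4.BRgr Cfsg.Agent.H4.BRar
  Cfsg.Agent.H4.BRdata
open Cfsg.Agent.H10.BlockKer (triv triv_coe)
open scoped ComplexConjugate

universe u

/-- Signed characters. -/
structure BS {G : Type u} [Group G] [Fintype G] {p : ℕ} [Fact p.Prime] (P : Sylow p G)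
    (S : Finset (IrrCharacter G)) (δ : IrrCharacter G → ℤ) : Prop where
  s : ∀ χ ∈ S, δ χ = 1 ∨ δ χ = -1
  d : ∀ χ ∈ S, (charDegree (χ : G → ℂ) : ℤ) ≡ δ χ [ZMOD p]
  v : ∀ χ ∈ S, ∀ x ∈ (P : Subgroup G), x ≠ 1 → ∀ y ∈ Subgroup.centralizer ((P : Subgroup G) : Set G),
    ¬ p ∣ orderOf y → (χ : G → ℂ) (x * y) = (δ χ : ℂ)
  dvd : ∀ e : ℕ, (Subgroup.centralizer ((P : Subgroup G) : Set G)).relIndex
      (Subgroup.normalizer ((P : Subgroup G) : Set G)) = e → ∀ χ ∈ S,
      charDegree (χ : G → ℂ) ∣ e * Nat.card (Sylow p G)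
  one : triv G ∈ S

variable {G : Type u} [Group G] [Fintype G] {p : ℕ} [hp : Fact p.Prime] {P : Sylow p G} {e t : ℕ}
  {X Y S : Finset (IrrCharacter G)} {δ : IrrCharacter G → ℤ} {ε : ℤ}

theorem BS.val (D : BS P S δ) {χ : IrrCharacter G} (hχ : χ ∈ S) {x : G}
    (hx : x ∈ (P : Subgroup G)) (h1 : x ≠ 1) : (χ : G → ℂ) x = (δ χ : ℂ) := by
  have := D.v χ hχ x hx h1 1 (Subgroup.one_mem _) not_dvd_one
  rwa [mul_one] at this

theorem exists_mem (hP : Nat.card P = p) : ∃ x ∈ (P : Subgroup G), x ≠ 1 := by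
  have : Nontrivial (P : Subgroup G) := by
    rw [← Finite.one_lt_card_iff_nontrivial]
    exact hP.symm ▸ hp.out.one_lt
  obtain ⟨x, hx⟩ := exists_ne (1 : (P : Subgroup G))
  exact ⟨x, x.2, fun h => hx (Subtype.ext h)⟩

theorem BS.triv_sign (D : BS P S δ) (hP : Nat.card P = p) : δ (triv G) = 1 := by
  obtain ⟨x, hx, hx1⟩ := exists_mem (P := P) hP
  have h := D.val D.one hx hx1
  rw [triv_coe] at h
  exact_mod_cast h.symm

/-- In the case `t ≥ 2`. -/
theorem toBS (D : BD P e t X Y δ ε) (hP : Nat.card P = p)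
    (hperf : commutator G = ⊤) (ht : 2 ≤ t) : BS P X δ where
  s := D.sX
  d := D.dX
  v := D.vX
  dvd := by
    intro e' he' χ hχ
    exact D.dvdX hP he' hχ
  one := by
    rcases Finset.mem_union.mp D.one with h | h
    · exact h
    · exfalso
      obtain ⟨θ, hθ, hne⟩ : ∃ θ ∈ Y, θ ≠ triv G := by
        by_contra hcon
        push Not at hcon
        have : Y ⊆ {triv G} := fun θ hθ => Finset.mem_singleton.mpr (hcon θ hθ)
        have := Finset.card_le_card this
        rw [D.cY, Finset.card_singleton] at this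
        omega
      refine hne (eq_triv hperf ?_)
      rw [D.degY hθ h, deg_triv]

/-- In the case `t = 1` all of the block is signed. -/
theorem toBS1 (D : BD P e 1 X Y δ ε) (hP : Nat.card P = p) (hpe : p = e + 1) :
    ∃ δ' : IrrCharacter G → ℤ, BS P (X ∪ Y) δ' ∧
      ∀ g : G, ¬ p ∣ orderOf g → ∑ χ ∈ X ∪ Y, (δ' χ : ℂ) * (χ : G → ℂ) g = 0 := by
  classical
  obtain ⟨θ, hθ⟩ := Finset.card_eq_one.mp D.cY
  have hθY : θ ∈ Y := by rw [hθ]; exact Finset.mem_singleton_self θ
  have hθX : θ ∉ X := fun h => (Finset.disjoint_left.mp D.disj h hθY)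
  have hX : ∀ χ ∈ X, χ ≠ θ := fun χ hχ h => hθX (h ▸ hχ)
  refine ⟨fun χ => if χ = θ then -ε else δ χ, ⟨?_, ?_, ?_, ?_, D.one⟩, ?_⟩
  · intro χ hχ
    rcases Finset.mem_union.mp hχ with h | h
    · simp only [if_neg (hX χ h)]; exact D.sX χ h
    · rw [hθ, Finset.mem_singleton] at h
      simp only [if_pos h]
      rcases D.sε with h' | h' <;> rw [h'] <;> simp
  · intro χ hχ
    rcases Finset.mem_union.mp hχ with h | h
    · simp only [if_neg (hX χ h)]; exact D.dX χ h
    · have h1 := D.dY χ h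
      rw [hθ, Finset.mem_singleton] at h
      simp only [if_pos h]
      refine h1.trans ?_
      rw [Int.modEq_iff_dvd]
      refine ⟨-ε, ?_⟩
      rw [hpe]; push_cast; ring
  · intro χ hχ x hx hx1 y hy hyp
    rcases Finset.mem_union.mp hχ with h | h
    · simp only [if_neg (hX χ h)]; exact D.vX χ h x hx hx1 y hy hyp
    · have h1 := D.sumY h hP hx hx1 hy hyp
      rw [hθ, Finset.mem_singleton] at h
      rw [hθ, Finset.sum_singleton] at h1
      simp only [if_pos h]
      rw [h, h1]; simp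
  · intro e' he' χ hχ
    rcases Finset.mem_union.mp hχ with h | h
    · exact D.dvdX hP he' h
    · exact D.dvdY hP he' h
  · intro g hg
    rw [Finset.sum_union D.disj, hθ, Finset.sum_singleton]
    have h1 := D.rel θ hθY g hg
    have h2 : ∑ χ ∈ X, ((if χ = θ then -ε else δ χ : ℤ) : ℂ) * (χ : G → ℂ) g =
        (ε : ℂ) * (θ : G → ℂ) g := by
      rw [h1]
      refine Finset.sum_congr rfl fun χ hχ => ?_
      rw [if_neg (hX χ hχ)]
    rw [h2]
    show (ε : ℂ) * (θ : G → ℂ) g + ((if θ = θ then -ε else δ θ : ℤ) : ℂ) * (θ : G → ℂ) g = 0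
    rw [if_pos rfl]; push_cast; ring

variable {n : ℕ}

/-- Possible degrees. -/
theorem BS.degrees (D : BS P S δ) (hperf : commutator G = ⊤)
    (he : (Subgroup.centralizer ((P : Subgroup G) : Set G)).relIndex
      (Subgroup.normalizer ((P : Subgroup G) : Set G)) = e)
    (hn : Nat.card (Sylow p G) = 1 + n * p) (hA : ¬ Alt n p) (he0 : 0 < e) (ht : 0 < t)
    (hpt : p = t * e + 1) {χ : IrrCharacter G} (hχ : χ ∈ S) :
    χ = triv G ∨ (δ χ = 1 ∧ charDegree (χ : G → ℂ) = 1 + n * p) ∨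
      (δ χ = -1 ∧ charDegree (χ : G → ℂ) + 1 = p) ∨
      (δ χ = -1 ∧ t = 1 ∧ charDegree (χ : G → ℂ) = e * (1 + n * p)) := by
  have hd := D.d χ hχ
  have hdvd := D.dvd e he χ hχ
  rw [hn] at hdvd
  by_cases h1 : charDegree (χ : G → ℂ) = 1
  · left; exact eq_triv hperf h1
  rcases D.s χ hχ with h | h
  · rw [h] at hd
    rcases degPlus he0 ht hpt hd hdvd h1 with h2 | h2
    · exact absurd h2 hA
    · right; left; exact ⟨h, h2⟩
  · rw [h] at hd
    rcases degMinus he0 ht hpt hd hdvd with h2 | h2 | h2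
    · exact absurd h2 hA
    · right; right; left; exact ⟨h, h2⟩
    · right; right; right; exact ⟨h, h2⟩

/-- The sum of the signed degrees. -/
theorem BS.sum_deg (D : BS P S δ) (hP : Nat.card P = p)
    (h : ∀ χ ∈ S, χ = triv G ∨ (δ χ = 1 ∧ charDegree (χ : G → ℂ) = 1 + n * p) ∨
      (δ χ = -1 ∧ charDegree (χ : G → ℂ) + 1 = p)) :
    ∃ a b : ℕ, 1 + a + b = S.card ∧
      ∑ χ ∈ S, δ χ * (charDegree (χ : G → ℂ) : ℤ) = 1 + a * (1 + n * p) - b * (p - 1) ∧
      (0 < b → ∃ χ ∈ S, δ χ = -1 ∧ charDegree (χ : G → ℂ) + 1 = p) ∧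
      (S.filter (fun χ => δ χ = -1)).card = b := by
  classical
  have htr := D.triv_sign hP
  let A := S.filter (fun χ => χ ≠ triv G ∧ δ χ = 1)
  let B := S.filter (fun χ => δ χ = -1)
  have hS : S = {triv G} ∪ (A ∪ B) := by
    ext χ
    simp only [Finset.mem_union, Finset.mem_singleton, A, B, Finset.mem_filter]
    constructor
    · intro hχ
      by_cases h1 : χ = triv G
      · left; exact h1
      · rcases D.s χ hχ with h2 | h2
        · right; left; exact ⟨hχ, h1, h2⟩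
        · right; right; exact ⟨hχ, h2⟩
    · rintro (rfl | h1 | h1)
      · exact D.one
      · exact h1.1
      · exact h1.1
  have hAB : Disjoint A B := by
    rw [Finset.disjoint_left]
    intro χ hχ hχ'
    simp only [A, B, Finset.mem_filter] at hχ hχ'
    have := hχ.2.2; rw [hχ'.2] at this; omega
  have hT : Disjoint {triv G} (A ∪ B) := by
    rw [Finset.disjoint_singleton_left, Finset.mem_union]
    rintro (h1 | h1)
    · simp only [A, Finset.mem_filter] at h1
      exact h1.2.1 rfl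
    · simp only [B, Finset.mem_filter] at h1
      have := h1.2; rw [htr] at this; omega
  refine ⟨A.card, B.card, ?_, ?_, ?_, rfl⟩
  · rw [hS, Finset.card_union_of_disjoint hT, Finset.card_union_of_disjoint hAB,
      Finset.card_singleton]
    ring
  · rw [hS, Finset.sum_union hT, Finset.sum_union hAB, Finset.sum_singleton, htr, deg_triv]
    have hA : ∑ χ ∈ A, δ χ * (charDegree (χ : G → ℂ) : ℤ) = A.card * (1 + n * p) := by
      rw [Finset.sum_congr rfl (g := fun _ => ((1 : ℤ) + n * p)), Finset.sum_const, nsmul_eq_mul]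
      intro χ hχ
      simp only [A, Finset.mem_filter] at hχ
      rcases h χ hχ.1 with h1 | ⟨h1, h2⟩ | ⟨h1, h2⟩
      · exact absurd h1 hχ.2.1
      · rw [h1, h2]; push_cast; ring
      · rw [hχ.2.2] at h1; omega
    have hB : ∑ χ ∈ B, δ χ * (charDegree (χ : G → ℂ) : ℤ) = -(B.card * (p - 1)) := by
      rw [Finset.sum_congr rfl (g := fun _ => (-((p : ℤ) - 1))), Finset.sum_const, nsmul_eq_mul]
      · ring
      intro χ hχ
      simp only [B, Finset.mem_filter] at hχ
      rcases h χ hχ.1 with h1 | ⟨h1, h2⟩ | ⟨h1, h2⟩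
      · rw [h1, htr] at hχ; omega
      · rw [hχ.2] at h1; omega
      · have h3 : (charDegree (χ : G → ℂ) : ℤ) = p - 1 := by
          have : ((charDegree (χ : G → ℂ) + 1 : ℕ) : ℤ) = p := by exact_mod_cast h2
          push_cast at this; linarith
        rw [h1, h3]; ring
    rw [hA, hB]; ring
  · intro hb
    obtain ⟨χ, hχ⟩ := Finset.card_pos.mp hb
    simp only [B, Finset.mem_filter] at hχ
    refine ⟨χ, hχ.1, hχ.2, ?_⟩
    rcases h χ hχ.1 with h1 | ⟨h1, h2⟩ | ⟨h1, h2⟩
    · rw [h1, htr] at hχ; omega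
    · rw [hχ.2] at h1; omega
    · exact h2

end Cfsg.Agent.H4.BRdeg
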