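import Mathlib
import Cfsg.Agent.H4_BRdeg

/-! A Sylow subgroup of prime order becomes self-centralizing. -/

set_option autoImplicit false

namespace Cfsg.Agent.H4.BRv

open Cfsg Cfsg.Agent.H3.CharIrr Cfsg.Agent.H3.CharComplete Cfsg.Agent.H3.CharInd
  Cfsg.Agent.H3.CharMult Cfsg.Agent.H3.CharInt Cfsg.Agent.H4.BRgr Cfsg.Agent.H4.BRar
  Cfsg.Agent.H4.BRdata Cfsg.Agent.H4.BRdeg
open Cfsg.Agent.H10.BlockKer (triv triv_coe ker_mul)
open scoped ComplexConjugate

universe u

variable {G : Type u} [Group G] [Fintype G] {p : ℕ} [hp : Fact p.Prime] {P : Sylow p G}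

theorem exists_conj_of_orderOf {g : G} (hg : orderOf g = p) : ∃ h : G, h * g * h⁻¹ ∈ (P : Subgroup G) := by
  have hyp : IsPGroup p (Subgroup.zpowers g) := by
    apply IsPGroup.of_card (n := 1)
    rw [Nat.card_zpowers, hg, pow_one]
  obtain ⟨Q, hQ⟩ := hyp.exists_le_sylow
  obtain ⟨h, hh⟩ := MulAction.exists_smul_eq G Q P
  refine ⟨h, ?_⟩
  rw [← hh, Sylow.coe_subgroup_smul]
  rw [Subgroup.mem_pointwise_smul_iff_inv_smul_mem]
  have : (MulAut.conj h)⁻¹ • (h * g * h⁻¹) = g := by
    rw [MulAut.smul_def, MulAut.conj_inv_apply]; group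
  rw [this]
  exact hQ (Subgroup.mem_zpowers _)

omit [Fintype G] in
/-- A commuting element of order `p` lies in the Sylow subgroup. -/
theorem mem_of_commute {c : G} (hc : c ∈ Subgroup.centralizer ((P : Subgroup G) : Set G))
    (ho : orderOf c = p) : c ∈ (P : Subgroup G) := by
  have h1 : IsPGroup p (Subgroup.zpowers c) := by
    apply IsPGroup.of_card (n := 1)
    rw [Nat.card_zpowers, ho, pow_one]
  have h2 : (P : Subgroup G) ≤ Subgroup.normalizer ((Subgroup.zpowers c : Subgroup G) : Set G) := by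
    rw [Subgroup.le_normalizer_iff]
    intro h hh k hk
    obtain ⟨i, rfl⟩ := Subgroup.mem_zpowers_iff.mp hk
    have h3 : Commute h c := Subgroup.mem_centralizer_iff.mp hc h hh
    rw [(h3.zpow_right i).eq, mul_inv_cancel_right]
    exact hk
  have h3 := P.2.to_sup_of_normal_right' h1 h2
  have h4 := P.3 h3 le_sup_left
  have : c ∈ ((P : Subgroup G) ⊔ Subgroup.zpowers c : Subgroup G) :=
    Subgroup.mem_sup_right (Subgroup.mem_zpowers c)
  rw [← h4]; exact this

theorem sum_P (hP : Nat.card P = p) {f : G → ℂ} {c : ℂ}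
    (h : ∀ x ∈ (P : Subgroup G), x ≠ 1 → f x = c) [Fintype (P : Subgroup G)] :
    ∑ x : (P : Subgroup G), f x = f 1 + ((p : ℂ) - 1) * c := by
  classical
  rw [← Finset.add_sum_erase _ _ (Finset.mem_univ (1 : (P : Subgroup G)))]
  congr 1
  rw [Finset.sum_congr rfl (g := fun _ => c), Finset.sum_const, Finset.card_erase_of_mem (Finset.mem_univ _),
    Finset.card_univ, ← Nat.card_eq_fintype_card, nsmul_eq_mul]
  · have h1 : Nat.card (P : Subgroup G) = p := hP
    rw [h1, Nat.cast_sub hp.out.one_lt.le]; simp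
  · intro x hx
    exact h x x.2 (fun h' => (Finset.mem_erase.mp hx).1 (Subtype.ext h'))

theorem cent_self (hP : Nat.card P = p) (hodd : p ≠ 2)
    (hcore : ∀ K : Subgroup G, K.Normal → ¬ p ∣ Nat.card K → K = ⊥) {χ : IrrCharacter G}
    (hd : charDegree (χ : G → ℂ) + 1 = p)
    (hv : ∀ x ∈ (P : Subgroup G), x ≠ 1 → ∀ y ∈ Subgroup.centralizer ((P : Subgroup G) : Set G),
      ¬ p ∣ orderOf y → (χ : G → ℂ) (x * y) = -1) :
    Subgroup.centralizer ((P : Subgroup G) : Set G) = (P : Subgroup G) := by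
  classical
  have hpc : (p : ℂ) ≠ 0 := by exact_mod_cast hp.out.pos.ne'
  have hd' : (χ : G → ℂ) 1 = (p : ℂ) - 1 := by
    rw [deg_eq, ← hd]; push_cast; ring
  have hp2 : 2 < p := lt_of_le_of_ne hp.out.two_le (Ne.symm hodd)
  haveI : Fintype (P : Subgroup G) := Fintype.ofFinite _
  obtain ⟨n, ρ, hρ, hχ⟩ := χ.2
  have hval : ∀ g, (χ : G → ℂ) g = LinearMap.trace ℂ (Fin n → ℂ) (ρ g) := by
    intro g; rw [← hχ]; rfl
  -- the averaging operator
  let A : (Fin n → ℂ) →ₗ[ℂ] (Fin n → ℂ) := ∑ x : (P : Subgroup G), ρ x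
  have hAA : A * A = (p : ℂ) • A := by
    have h1 : ∀ x : (P : Subgroup G), ρ x * A = A := by
      intro x
      simp only [A, Finset.mul_sum, ← map_mul]
      exact Fintype.sum_bijective (fun y => x * y) (Group.mulLeft_bijective x) _ _ (fun y => rfl)
    calc A * A = ∑ x : (P : Subgroup G), ρ x * A := by rw [← Finset.sum_mul]
      _ = ∑ x : (P : Subgroup G), A := Finset.sum_congr rfl fun x _ => h1 x
      _ = (p : ℂ) • A := by
        rw [Finset.sum_const, Finset.card_univ, ← Nat.card_eq_fintype_card,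
          show Nat.card (P : Subgroup G) = p from hP, ← Nat.cast_smul_eq_nsmul ℂ]
  have htrA : LinearMap.trace ℂ _ A = 0 := by
    simp only [A, map_sum, ← hval]
    rw [sum_P hP (f := (χ : G → ℂ)) (c := -1), hd']
    · ring
    · intro x hx hx1
      have := hv x hx hx1 1 (Subgroup.one_mem _) not_dvd_one
      rwa [mul_one] at this
  have hA0 : A = 0 := by
    have hid : IsIdempotentElem ((p : ℂ)⁻¹ • A) := by
      unfold IsIdempotentElem
      rw [smul_mul_smul_comm, hAA, smul_smul]
      congr 1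
      field_simp
    have hpr := (LinearMap.isProj_range_iff_isIdempotentElem _).mpr hid
    have htr := hpr.trace
    rw [map_smul, htrA, smul_zero] at htr
    have h2 : Module.finrank ℂ (LinearMap.range ((p : ℂ)⁻¹ • A)) = 0 := by exact_mod_cast htr.symm
    rw [Submodule.finrank_eq_zero, LinearMap.range_eq_bot] at h2
    exact (smul_eq_zero.mp h2).resolve_left (inv_ne_zero hpc)
  -- regular elements of the centralizer lie in the kernel
  have hker : ∀ y ∈ Subgroup.centralizer ((P : Subgroup G) : Set G), ¬ p ∣ orderOf y →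
      (χ : G → ℂ) y = (χ : G → ℂ) 1 := by
    intro y hy hyp
    have h1 : LinearMap.trace ℂ _ (A * ρ y) = 0 := by rw [hA0, zero_mul, map_zero]
    have h2 : LinearMap.trace ℂ _ (A * ρ y) = ∑ x : (P : Subgroup G), (χ : G → ℂ) ((x : G) * y) := by
      simp only [A, Finset.sum_mul, map_sum, hval, map_mul]
    rw [h2, sum_P hP (f := fun x => (χ : G → ℂ) (x * y)) (c := -1)] at h1
    · rw [one_mul] at h1
      rw [hd']; linear_combination h1
    · intro x hx hx1
      exact hv x hx hx1 y hy hyp
  have hchar := IsIrr.isCharacter χ.2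
  -- the kernel
  let K : Subgroup G :=
    { carrier := {g | (χ : G → ℂ) g = (χ : G → ℂ) 1}
      one_mem' := rfl
      mul_mem' := fun {a b} ha hb => by
        show (χ : G → ℂ) (a * b) = _
        rw [(ker_mul hchar ha b).1]; exact hb
      inv_mem' := fun {a} ha => by
        show (χ : G → ℂ) a⁻¹ = _
        have ha' : (χ : G → ℂ) a = (χ : G → ℂ) 1 := ha
        rw [IsChar.inv_eq_conj hchar, ha', IsChar.conj_one hchar] }
  have hKn : K.Normal := ⟨fun a ha g => by
    show (χ : G → ℂ) (g * a * g⁻¹) = _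
    rw [IsIrr.isClass χ.2 a g]; exact ha⟩
  have hKp : ¬ p ∣ Nat.card K := by
    intro h
    obtain ⟨k, hk⟩ := exists_prime_orderOf_dvd_card' p h
    have hk' : orderOf (k : G) = p := by rw [Subgroup.orderOf_coe]; exact hk
    obtain ⟨h, hh⟩ := exists_conj_of_orderOf (P := P) hk'
    have h1 : (χ : G → ℂ) (h * k * h⁻¹) = (χ : G → ℂ) 1 := by
      rw [IsIrr.isClass χ.2 (k : G) h]; exact k.2
    have h2 : h * (k : G) * h⁻¹ ≠ 1 := by
      intro h3
      have : (k : G) = 1 := by
        have : (k : G) = h⁻¹ * (h * k * h⁻¹) * h := by group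
        rw [this, h3]; group
      rw [this, orderOf_one] at hk'
      exact hp.out.one_lt.ne hk'
    have h3 := hv _ hh h2 1 (Subgroup.one_mem _) not_dvd_one
    rw [mul_one, h1, hd'] at h3
    have : (p : ℂ) = 0 := by linear_combination h3
    exact hpc this
  have hK := hcore K hKn hKp
  have hreg : ∀ y ∈ Subgroup.centralizer ((P : Subgroup G) : Set G), ¬ p ∣ orderOf y → y = 1 := by
    intro y hy hyp
    have : y ∈ K := hker y hy hyp
    rw [hK] at this
    exact Subgroup.mem_bot.mp this
  apply le_antisymm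
  · intro c hc
    by_cases h1 : c = 1
    · rw [h1]; exact Subgroup.one_mem _
    have h2 : c ^ p = 1 := by
      apply hreg
      · exact Subgroup.pow_mem _ hc p
      · intro h
        have hpd : p ∣ orderOf c := h.trans (orderOf_pow_dvd p)
        obtain ⟨k, hk⟩ := hpd
        have ho : orderOf (c ^ p) = k := by
          rw [orderOf_pow_of_dvd hp.out.ne_zero ⟨k, hk⟩, hk, Nat.mul_div_cancel_left _ hp.out.pos]
        rw [ho] at h
        obtain ⟨l, rfl⟩ := h
        have h3 : p ^ 2 ∣ Nat.card G := by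
          refine dvd_trans ?_ (orderOf_dvd_natCard c)
          rw [hk]; exact ⟨l, by ring⟩
        have h4 : p ^ 2 ∣ Nat.card (P : Subgroup G) := P.pow_dvd_card_of_pow_dvd_card h3
        rw [show Nat.card (P : Subgroup G) = p from hP] at h4
        have := Nat.le_of_dvd hp.out.pos h4
        nlinarith [hp.out.two_le]
    have h3 : orderOf c = p := orderOf_eq_prime h2 h1
    exact mem_of_commute hc h3
  · intro x hx
    rw [Subgroup.mem_centralizer_iff]
    intro y hy
    have : IsMulCommutative (P : Subgroup G) := by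
      have : IsCyclic (P : Subgroup G) := isCyclic_of_prime_card hP
      exact IsCyclic.isMulCommutative
    exact congrArg Subtype.val (this.1.1 ⟨y, hy⟩ ⟨x, hx⟩)

end Cfsg.Agent.H4.BRv
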