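import Mathlib
import Cfsg.Agent.H4_BRv

/-! The three cases. -/

set_option autoImplicit false

namespace Cfsg.Agent.H4.BRcase

open Cfsg Cfsg.Agent.H3.CharIrr Cfsg.Agent.H3.CharComplete Cfsg.Agent.H3.CharInd
  Cfsg.Agent.H3.CharMult Cfsg.Agent.H3.CharInt Cfsg.Agent.H4.BRgr Cfsg.Agent.H4.BRar
  Cfsg.Agent.H4.BRdata Cfsg.Agent.H4.BRdeg Cfsg.Agent.H4.BRv
open Cfsg.Agent.H10.BlockKer (triv triv_coe ker_mul)

universe u

variable {G : Type u} [Group G] [Fintype G] {p : ℕ} [hp : Fact p.Prime] {P : Sylow p G} {e t n : ℕ}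
  {X Y S : Finset (IrrCharacter G)} {δ : IrrCharacter G → ℤ} {ε : ℤ}

/-- trichotomy of the degrees. -/
def Tri (n p : ℕ) (S : Finset (IrrCharacter G)) (δ : IrrCharacter G → ℤ) : Prop :=
  ∀ χ ∈ S, χ = triv G ∨ (δ χ = 1 ∧ charDegree (χ : G → ℂ) = 1 + n * p) ∨
      (δ χ = -1 ∧ charDegree (χ : G → ℂ) + 1 = p)

theorem BScent (D : BS P S δ) (hP : Nat.card P = p) (hodd : p ≠ 2)
    (hcore : ∀ K : Subgroup G, K.Normal → ¬ p ∣ Nat.card K → K = ⊥)
    (h : ∃ χ ∈ S, δ χ = -1 ∧ charDegree (χ : G → ℂ) + 1 = p) :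
    Subgroup.centralizer ((P : Subgroup G) : Set G) = (P : Subgroup G) := by
  obtain ⟨χ, hχ, h1, h2⟩ := h
  refine cent_self hP hodd hcore h2 fun x hx hx1 y hy hyp => ?_
  rw [D.v χ hχ x hx hx1 y hy hyp, h1]; simp

theorem case1 (D : BD P e 1 X Y δ ε) (hP : Nat.card P = p) (hodd : p ≠ 2)
    (hperf : commutator G = ⊤)
    (hcore : ∀ K : Subgroup G, K.Normal → ¬ p ∣ Nat.card K → K = ⊥)
    (he : (Subgroup.centralizer ((P : Subgroup G) : Set G)).relIndex
      (Subgroup.normalizer ((P : Subgroup G) : Set G)) = e)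
    (hn : Nat.card (Sylow p G) = 1 + n * p) (hn0 : 0 < n) (hA : ¬ Alt n p) (he0 : 0 < e)
    (hpt : p = 1 * e + 1) :
    Subgroup.centralizer ((P : Subgroup G) : Set G) = (P : Subgroup G) ∧
    ∃ δ', BS P (X ∪ Y) δ' ∧ Tri n p (X ∪ Y) δ' ∧ ∃ a : ℕ, a * (n + 1) + 2 = p := by
  classical
  have hp1 := hp.out.one_lt
  obtain ⟨δ', D', hsum⟩ := toBS1 D hP (by omega)
  have hcard : (X ∪ Y).card = p := by
    rw [Finset.card_union_of_disjoint D.disj, D.cX, D.cY]; omega
  have hs0 : ∑ χ ∈ X ∪ Y, δ' χ * (charDegree (χ : G → ℂ) : ℤ) = 0 := by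
    have := hsum 1 not_dvd_one
    simp only [deg_eq] at this
    exact_mod_cast this
  have htr := D'.triv_sign hP
  -- no big one
  have htri : Tri n p (X ∪ Y) δ' := by
    intro χ hχ
    rcases D'.degrees hperf he hn hA he0 one_pos hpt hχ with h | h | h | ⟨h1, -, h2⟩
    · exact Or.inl h
    · exact Or.inr (Or.inl h)
    · exact Or.inr (Or.inr h)
    · exfalso
      have hbound : ∀ ψ ∈ X ∪ Y, δ' ψ * (charDegree (ψ : G → ℂ) : ℤ) ≤ 1 + n * p := by
        intro ψ hψ
        rcases D'.degrees hperf he hn hA he0 one_pos hpt hψ with h | ⟨h, h'⟩ | ⟨h, h'⟩ | ⟨h, -, h'⟩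
        · rw [h, htr, deg_triv]; push_cast; nlinarith [Nat.zero_le (n * p)]
        · rw [h, h']; push_cast; linarith
        · rw [h]
          have : (0 : ℤ) ≤ (charDegree (ψ : G → ℂ) : ℤ) := by positivity
          nlinarith
        · rw [h]
          have : (0 : ℤ) ≤ (charDegree (ψ : G → ℂ) : ℤ) := by positivity
          nlinarith
      have hne : χ ≠ triv G := by
        rintro rfl; rw [htr] at h1; omega
      have hT := D'.one
      rw [← Finset.add_sum_erase _ _ hχ,
        ← Finset.add_sum_erase _ _ (Finset.mem_erase.mpr ⟨hne.symm, hT⟩), h1, h2, htr, deg_triv] at hs0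
      have hle : ∑ ψ ∈ ((X ∪ Y).erase χ).erase (triv G), δ' ψ * (charDegree (ψ : G → ℂ) : ℤ) ≤
          ∑ ψ ∈ ((X ∪ Y).erase χ).erase (triv G), ((1 : ℤ) + n * p) := by
        refine Finset.sum_le_sum fun ψ hψ => hbound ψ ?_
        exact Finset.mem_of_mem_erase (Finset.mem_of_mem_erase hψ)
      rw [Finset.sum_const, Finset.card_erase_of_mem (Finset.mem_erase.mpr ⟨hne.symm, hT⟩),
        Finset.card_erase_of_mem hχ, hcard, nsmul_eq_mul] at hle
      have hc : ((p - 1 - 1 : ℕ) : ℤ) = e - 1 := by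
        have : p - 1 - 1 = e - 1 := by omega
        rw [this]; push_cast [Nat.cast_sub (show 1 ≤ e by omega)]; ring
      rw [hc] at hle
      push_cast at hs0
      have hnp : (0 : ℤ) < n * p := by
        have h3 : 0 < n * p := Nat.mul_pos hn0 hp.out.pos
        exact_mod_cast h3
      nlinarith
  obtain ⟨a, b, hab, hsum', hb, -⟩ := D'.sum_deg hP htri
  rw [hs0] at hsum'
  rw [hcard] at hab
  have hpz : (1 : ℤ) + a + b = p := by exact_mod_cast hab
  have hb0 : 0 < b := by
    rcases Nat.eq_zero_or_pos b with h | h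
    · exfalso
      rw [h] at hsum'
      push_cast at hsum'
      have : (0 : ℤ) ≤ a * (1 + n * p) := by positivity
      linarith
    · exact h
  refine ⟨BScent D' hP hodd hcore (hb hb0), δ', D', htri, a, ?_⟩
  have hp0 : (p : ℤ) ≠ 0 := by exact_mod_cast hp.out.ne_zero
  have h1 : (p : ℤ) * (a * (n + 1) + 2) = p * p := by
    have hb' : (b : ℤ) = p - 1 - a := by linarith
    rw [hb'] at hsum'
    linear_combination -hsum'
  have := mul_left_cancel₀ hp0 h1
  exact_mod_cast this

theorem case2 (D : BD P e t X Y δ ε) (hP : Nat.card P = p) (hodd : p ≠ 2)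
    (hperf : commutator G = ⊤)
    (hcore : ∀ K : Subgroup G, K.Normal → ¬ p ∣ Nat.card K → K = ⊥)
    (he : (Subgroup.centralizer ((P : Subgroup G) : Set G)).relIndex
      (Subgroup.normalizer ((P : Subgroup G) : Set G)) = e)
    (hn : Nat.card (Sylow p G) = 1 + n * p) (hn0 : 0 < n) (hA : ¬ Alt n p) (he0 : 2 ≤ e)
    (ht : 2 ≤ t) (hpt : p = t * e + 1) :
    Subgroup.centralizer ((P : Subgroup G) : Set G) = (P : Subgroup G) ∧
    BS P X δ ∧ Tri n p X δ ∧
    ((ε = 1 ∧ ∀ θ ∈ Y, charDegree (θ : G → ℂ) = e) ∨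
      (ε = -1 ∧ (∀ θ ∈ Y, t * charDegree (θ : G → ℂ) = 1 + n * p) ∧
        ∃ a : ℕ, (a * t + 1) * (n + 1) + t + 1 = p ∧
          1 + a + (X.filter (fun χ => δ χ = -1)).card = e)) := by
  classical
  have hp1 := hp.out.one_lt
  have D' := toBS D hP hperf ht
  have htri : Tri n p X δ := by
    intro χ hχ
    rcases D'.degrees hperf he hn hA (by omega) (by omega) hpt hχ with h | h | h | ⟨h1, h2, -⟩
    · exact Or.inl h
    · exact Or.inr (Or.inl h)
    · exact Or.inr (Or.inr h)
    · omega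
  obtain ⟨a, b, hab, hsum', hb, hbc⟩ := D'.sum_deg hP htri
  rw [D.cX] at hab
  have hez : (1 : ℤ) + a + b = e := by exact_mod_cast hab
  obtain ⟨θ, hθ⟩ : Y.Nonempty := by rw [← Finset.card_pos, D.cY]; omega
  have hrel := D.relDeg hθ
  rw [hsum'] at hrel
  have hdy := D.dY θ hθ
  have hdv := D.dvdY hP he hθ
  rw [hn] at hdv
  have hp0 : (p : ℤ) ≠ 0 := by exact_mod_cast hp.out.ne_zero
  have hpz : (p : ℤ) = t * e + 1 := by exact_mod_cast hpt
  have hnp : (0 : ℤ) < n * p := by
    have h3 : 0 < n * p := Nat.mul_pos hn0 hp.out.pos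
    exact_mod_cast h3
  have he2 : (2 : ℤ) ≤ e := by exact_mod_cast he0
  rcases D.sε with h | h
  · rw [h, one_mul] at hrel hdy
    rcases excPlus (by omega) (by omega) hpt hp.out hdy hdv with h1 | h1 | h1
    · exact absurd h1 hA
    · have hb0 : 0 < b := by
        rcases Nat.eq_zero_or_pos b with h' | h'
        · exfalso
          rw [h', h1] at hrel
          rw [h'] at hez
          push_cast at hrel hez
          have ha : (a : ℤ) = e - 1 := by linarith
          rw [ha] at hrel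
          nlinarith
        · exact h'
      refine ⟨BScent D' hP hodd hcore (hb hb0), D', htri, Or.inl ⟨h, ?_⟩⟩
      intro θ' hθ'
      rw [D.degY hθ' hθ, h1]
    · exfalso
      rw [h1] at hrel
      push_cast at hrel
      have hbn : (0 : ℤ) ≤ b := by positivity
      have hbp : (0 : ℤ) ≤ b * (p - 1) := mul_nonneg hbn (by
        have : (1 : ℤ) < p := by exact_mod_cast hp1
        linarith)
      have hae : (a : ℤ) ≤ e - 1 := by linarith
      nlinarith
  · rw [h] at hrel hdy
    rcases excMinus (by omega) (by omega) hpt hp.out (by simpa using hdy) hdv with h1 | h1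
    · exact absurd h1 hA
    · have h1z : (t : ℤ) * (charDegree (θ : G → ℂ) : ℤ) = 1 + n * p := by exact_mod_cast h1
      have hb0 : 0 < b := by
        rcases Nat.eq_zero_or_pos b with h' | h'
        · exfalso
          rw [h'] at hrel
          push_cast at hrel
          have : (0 : ℤ) ≤ a * (1 + n * p) := by positivity
          have : (0 : ℤ) ≤ (charDegree (θ : G → ℂ) : ℤ) := by positivity
          nlinarith
        · exact h'
      refine ⟨BScent D' hP hodd hcore (hb hb0), D', htri, Or.inr ⟨h, ?_, a, ?_, ?_⟩⟩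
      · intro θ' hθ'
        rw [D.degY hθ' hθ, h1]
      · have hb' : (b : ℤ) = e - 1 - a := by linarith
        rw [hb'] at hrel
        have h2 : (p : ℤ) * ((a * t + 1) * (n + 1) + t + 1) = p * p := by
          -- multiply hrel by t
          have h3 : (t : ℤ) * (-1 * (charDegree (θ : G → ℂ) : ℤ)) =
            t * (1 + a * (1 + n * p) - (e - 1 - a) * (p - 1)) := by rw [hrel]
          rw [hpz] at h3 h1z ⊢
          linear_combination -h3 - h1z
        have := mul_left_cancel₀ hp0 h2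
        exact_mod_cast this
      · rw [hbc]; exact hab

end Cfsg.Agent.H4.BRcase
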