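import Mathlib
import Cfsg.Agent.H4_BRcase

/-! Linear characters induced from the normalizer of a self-centralizing Sylow subgroup of prime
order. -/

set_option autoImplicit false

namespace Cfsg.Agent.H4.BRind

open Cfsg Cfsg.Agent.H3.CharIrr Cfsg.Agent.H3.CharComplete Cfsg.Agent.H3.CharInd
  Cfsg.Agent.H3.CharMult Cfsg.Agent.H3.CharInt Cfsg.Agent.H4.BRgr Cfsg.Agent.H4.BRar
  Cfsg.Agent.H4.BRdata Cfsg.Agent.H4.BRdeg Cfsg.Agent.H4.BRv Cfsg.Agent.H4.BRcase
open Cfsg.Agent.H10.BlockKer (triv triv_coe ker_mul)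
open scoped ComplexConjugate

universe u

variable {G : Type u} [Group G] [Fintype G] {p : ℕ} [hp : Fact p.Prime] {P : Sylow p G} {e t n : ℕ}

/-- If a character sums to zero on a subgroup then it sums to zero on all cosets. -/
theorem sum_coset_zero {χ : G → ℂ} (hχ : IsCharacter G χ) (H : Subgroup G) [Fintype H]
    (h : ∑ x : H, χ x = 0) (g : G) : ∑ x : H, χ ((x : G) * g) = 0 := by
  classical
  obtain ⟨n, ρ, rfl⟩ := hχ
  have hval : ∀ g, ρ.character g = LinearMap.trace ℂ (Fin n → ℂ) (ρ g) := fun g => rfl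
  have hpc : (Nat.card H : ℂ) ≠ 0 := by exact_mod_cast Nat.card_pos.ne'
  let A : (Fin n → ℂ) →ₗ[ℂ] (Fin n → ℂ) := ∑ x : H, ρ x
  have hAA : A * A = (Nat.card H : ℂ) • A := by
    have h1 : ∀ x : H, ρ x * A = A := by
      intro x
      simp only [A, Finset.mul_sum, ← map_mul]
      exact Fintype.sum_bijective (fun y => x * y) (Group.mulLeft_bijective x) _ _ (fun y => rfl)
    calc A * A = ∑ x : H, ρ x * A := by rw [← Finset.sum_mul]
      _ = ∑ x : H, A := Finset.sum_congr rfl fun x _ => h1 x
      _ = (Nat.card H : ℂ) • A := by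
        rw [Finset.sum_const, Finset.card_univ, ← Nat.card_eq_fintype_card,
          ← Nat.cast_smul_eq_nsmul ℂ]
  have htrA : LinearMap.trace ℂ _ A = 0 := by
    simp only [A, map_sum, ← hval]
    exact h
  have hA0 : A = 0 := by
    have hid : IsIdempotentElem ((Nat.card H : ℂ)⁻¹ • A) := by
      unfold IsIdempotentElem
      rw [smul_mul_smul_comm, hAA, smul_smul]
      congr 1
      field_simp
    have hpr := (LinearMap.isProj_range_iff_isIdempotentElem _).mpr hid
    have htr := hpr.trace
    rw [map_smul, htrA, smul_zero] at htr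
    have h2 : Module.finrank ℂ (LinearMap.range ((Nat.card H : ℂ)⁻¹ • A)) = 0 := by
      exact_mod_cast htr.symm
    rw [Submodule.finrank_eq_zero, LinearMap.range_eq_bot] at h2
    exact (smul_eq_zero.mp h2).resolve_left (inv_ne_zero hpc)
  have h1 : LinearMap.trace ℂ _ (A * ρ g) = 0 := by rw [hA0, zero_mul, map_zero]
  rw [← h1]
  simp only [A, Finset.sum_mul, map_sum, hval, map_mul]

omit [Fintype G] in
/-- An element of order `p` normalizing `P` lies in `P`. -/
theorem mem_of_normalizer {c : G} (hc : c ∈ Subgroup.normalizer ((P : Subgroup G) : Set G))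
    (ho : orderOf c = p) : c ∈ (P : Subgroup G) := by
  have h1 : IsPGroup p (Subgroup.zpowers c) := by
    apply IsPGroup.of_card (n := 1)
    rw [Nat.card_zpowers, ho, pow_one]
  have h2 : Subgroup.zpowers c ≤ Subgroup.normalizer ((P : Subgroup G) : Set G) := by
    rw [Subgroup.zpowers_le]; exact hc
  have h3 := h1.to_sup_of_normal_right' P.2 h2
  have h4 := P.3 h3 le_sup_right
  have : c ∈ (Subgroup.zpowers c ⊔ (P : Subgroup G) : Subgroup G) :=
    Subgroup.mem_sup_left (Subgroup.mem_zpowers c)
  rw [← h4]; exact this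

/-- values of the induced character on `P`. -/
theorem ind_val (hP : Nat.card P = p)
    (η : Subgroup.normalizer ((P : Subgroup G) : Set G) →* ℂ)
    (hη : ∀ x : Subgroup.normalizer ((P : Subgroup G) : Set G), (x : G) ∈ (P : Subgroup G) → η x = 1)
    {x : G} (hx : x ∈ (P : Subgroup G)) (hx1 : x ≠ 1) :
    indFun (Subgroup.normalizer ((P : Subgroup G) : Set G)) (fun y => η y) x = 1 := by
  classical
  rw [indFun]
  have h1 : ∀ g : G, extendByZero (Subgroup.normalizer ((P : Subgroup G) : Set G)) (fun y => η y)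
      (g⁻¹ * x * g) = if g ∈ Subgroup.normalizer ((P : Subgroup G) : Set G) then 1 else 0 := by
    intro g
    split_ifs with hg
    · have hg' := inv_mem hg
      have h2 : g⁻¹ * x * g ∈ (P : Subgroup G) := by
        have := conj_mem hx hg'
        rwa [inv_inv] at this
      have h3 : g⁻¹ * x * g ∈ Subgroup.normalizer ((P : Subgroup G) : Set G) :=
        Subgroup.le_normalizer h2
      rw [ext_mem _ _ h3]
      exact hη ⟨_, h3⟩ h2
    · rw [ext_not_mem]
      intro h2
      apply hg
      have ho : orderOf (g⁻¹ * x * g) = p := by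
        rw [← orderOf_eq hP hx hx1]
        have := orderOf_injective (MulAut.conj (g⁻¹)).toMonoidHom (MulAut.conj (g⁻¹)).injective x
        simpa using this
      have h3 := mem_of_normalizer h2 ho
      have h4 := mem_normalizer_of hP (g := g⁻¹) hx hx1 (by rw [inv_inv]; exact h3)
      have := inv_mem h4
      rwa [inv_inv] at this
  simp only [h1]
  rw [Finset.sum_ite, Finset.sum_const_zero, add_zero, Finset.sum_const, nsmul_eq_mul, mul_one]
  have h2 : (Finset.univ.filter (fun g => g ∈ Subgroup.normalizer ((P : Subgroup G) : Set G))).card =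
      Nat.card (Subgroup.normalizer ((P : Subgroup G) : Set G)) := by
    rw [Nat.card_eq_fintype_card, Fintype.card_subtype]
  rw [h2]
  exact inv_mul_cancel₀ (by exact_mod_cast Nat.card_pos.ne')

/-- The hypothesis on average values. -/
structure Avg (P : Sylow p G) (n : ℕ) (a : IrrCharacter G → ℝ) : Prop where
  av : ∀ [Fintype (P : Subgroup G)] (χ : IrrCharacter G), ∑ x : (P : Subgroup G), (χ : G → ℂ) x =
    (charDegree (χ : G → ℂ) : ℂ) + ((p : ℂ) - 1) * (a χ : ℂ)
  pos : ∀ χ : IrrCharacter G, χ ≠ triv G → 0 < a χ → (charDegree (χ : G → ℂ) : ℝ) = (1 + n * p) * a χ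
  neg : ∀ χ : IrrCharacter G, a χ < 0 → (charDegree (χ : G → ℂ) : ℝ) + ((p : ℝ) - 1) * a χ = 0

/-- the sums over cosets vanish, hence so do the multiplicities. -/
theorem mult_zero {χ : G → ℂ} (hχ : IsCharacter G χ) [Fintype (P : Subgroup G)]
    [Fintype (Subgroup.normalizer ((P : Subgroup G) : Set G))]
    (h : ∑ x : (P : Subgroup G), χ x = 0)
    (η : Subgroup.normalizer ((P : Subgroup G) : Set G) →* ℂ)
    (hη : ∀ x : Subgroup.normalizer ((P : Subgroup G) : Set G), (x : G) ∈ (P : Subgroup G) → η x = 1) :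
    classInner (indFun (Subgroup.normalizer ((P : Subgroup G) : Set G)) (fun y => η y)) χ = 0 := by
  classical
  rw [frobenius _ _ _ (IsChar.isClass hχ), classInner]
  have hpc : (Nat.card (P : Subgroup G) : ℂ) ≠ 0 := by exact_mod_cast Nat.card_pos.ne'
  have h1 : (Nat.card (P : Subgroup G) : ℂ) *
      ∑ y : Subgroup.normalizer ((P : Subgroup G) : Set G), η y * conj (χ y) = 0 := by
    have h2 : ∀ x : (P : Subgroup G), ∑ y : Subgroup.normalizer ((P : Subgroup G) : Set G), η y * conj (χ y) =
        ∑ y : Subgroup.normalizer ((P : Subgroup G) : Set G), η y * conj (χ ((x : G) * y)) := by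
      intro x
      let x' : Subgroup.normalizer ((P : Subgroup G) : Set G) := ⟨x, Subgroup.le_normalizer x.2⟩
      rw [← Equiv.sum_comp (Equiv.mulLeft x')]
      refine Finset.sum_congr rfl fun y _ => ?_
      have h3 : η (Equiv.mulLeft x' y) = η y := by
        show η (x' * y) = η y
        rw [map_mul, hη x' x.2, one_mul]
      rw [h3]
      rfl
    calc _ = ∑ x : (P : Subgroup G), ∑ y : Subgroup.normalizer ((P : Subgroup G) : Set G), η y * conj (χ y) := by
          rw [Finset.sum_const, Finset.card_univ, ← Nat.card_eq_fintype_card, nsmul_eq_mul]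
      _ = ∑ x : (P : Subgroup G), ∑ y : Subgroup.normalizer ((P : Subgroup G) : Set G),
          η y * conj (χ ((x : G) * y)) := Finset.sum_congr rfl fun x _ => h2 x
      _ = ∑ y : Subgroup.normalizer ((P : Subgroup G) : Set G),
          η y * conj (∑ x : (P : Subgroup G), χ ((x : G) * y)) := by
          rw [Finset.sum_comm]
          refine Finset.sum_congr rfl fun y _ => ?_
          rw [map_sum, Finset.mul_sum]
      _ = 0 := by
          refine Finset.sum_eq_zero fun y _ => ?_
          rw [sum_coset_zero hχ _ h, map_zero, mul_zero]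
  rw [(mul_eq_zero.mp h1).resolve_left hpc, mul_zero]

/-- The average equation. -/
theorem avg_eq (hP : Nat.card P = p) {a : IrrCharacter G → ℝ} (H : Avg P n a)
    (hn : Nat.card (Sylow p G) = 1 + n * p)
    [Fintype (IrrCharacter G)]
    [Fintype (Subgroup.normalizer ((P : Subgroup G) : Set G))]
    (η : Subgroup.normalizer ((P : Subgroup G) : Set G) →* ℂ)
    (hη : ∀ x : Subgroup.normalizer ((P : Subgroup G) : Set G), (x : G) ∈ (P : Subgroup G) → η x = 1)
    (c : IrrCharacter G → ℕ)
    (hc : ∀ χ : IrrCharacter G,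
      classInner (indFun (Subgroup.normalizer ((P : Subgroup G) : Set G)) (fun y => η y)) (χ : G → ℂ) = c χ) :
    (∑ χ : IrrCharacter G, c χ * charDegree (χ : G → ℂ) = 1 + n * p) ∧
    (∑ χ : IrrCharacter G, (c χ : ℝ) * a χ = 1) ∧ (∀ χ : IrrCharacter G, a χ < 0 → c χ = 0) := by
  classical
  haveI : Fintype (P : Subgroup G) := Fintype.ofFinite _
  have hpc : (p : ℂ) - 1 ≠ 0 := by
    intro h
    have : (p : ℂ) = 1 := by linear_combination h
    exact hp.out.one_lt.ne' (by exact_mod_cast this)
  have hdeg1 : indFun (Subgroup.normalizer ((P : Subgroup G) : Set G)) (fun y => η y) 1 =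
      ((1 + n * p : ℕ) : ℂ) := by
    rw [ind_one, map_one, mul_one, ← hn]
    congr 1
    exact (P.card_eq_index_normalizer).symm
  have hexp := expand_apply (indFun (Subgroup.normalizer ((P : Subgroup G) : Set G)) (fun y => η y))
    (ind_isClass _ _)
  simp only [hc] at hexp
  have h1 := hexp 1
  rw [hdeg1] at h1
  simp only [deg_eq] at h1
  have hd : (∑ χ : IrrCharacter G, c χ * charDegree (χ : G → ℂ) = 1 + n * p) := by
    exact_mod_cast h1.symm
  refine ⟨hd, ?_, ?_⟩
  · have h2 : ∑ x : (P : Subgroup G), indFun (Subgroup.normalizer ((P : Subgroup G) : Set G))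
        (fun y => η y) (x : G) = ∑ χ : IrrCharacter G, (c χ : ℂ) * ((charDegree (χ : G → ℂ) : ℂ) +
          ((p : ℂ) - 1) * (a χ : ℂ)) := by
      simp only [hexp]
      rw [Finset.sum_comm]
      refine Finset.sum_congr rfl fun χ _ => ?_
      rw [← Finset.mul_sum, H.av]
    rw [sum_P hP (f := indFun (Subgroup.normalizer ((P : Subgroup G) : Set G)) (fun y => η y)) (c := 1)
      (fun x hx hx1 => ind_val hP η hη hx hx1), hdeg1] at h2
    simp only [mul_add, Finset.sum_add_distrib] at h2
    have h3 : (∑ χ : IrrCharacter G, (c χ : ℂ) * (charDegree (χ : G → ℂ) : ℂ)) =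
        ((1 + n * p : ℕ) : ℂ) := by rw [← hd]; push_cast; rfl
    rw [h3] at h2
    have h4 : ∑ χ : IrrCharacter G, (c χ : ℂ) * (((p : ℂ) - 1) * (a χ : ℂ)) =
        ((p : ℂ) - 1) * ∑ χ : IrrCharacter G, (c χ : ℂ) * (a χ : ℂ) := by
      rw [Finset.mul_sum]
      refine Finset.sum_congr rfl fun χ _ => by ring
    rw [h4] at h2
    have h5 : ((p : ℂ) - 1) * (∑ χ : IrrCharacter G, (c χ : ℂ) * (a χ : ℂ)) = ((p : ℂ) - 1) * 1 := by
      linear_combination -h2
    have h6 := mul_left_cancel₀ hpc h5
    exact_mod_cast h6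
  · intro χ hχ
    have h1 := H.neg χ hχ
    have h2 : ∑ x : (P : Subgroup G), (χ : G → ℂ) x = 0 := by
      rw [H.av]
      have : (((charDegree (χ : G → ℂ) : ℝ) + ((p : ℝ) - 1) * a χ : ℝ) : ℂ) = 0 := by rw [h1]; simp
      push_cast at this
      exact this
    have h3 := mult_zero (IsIrr.isCharacter χ.2) h2 η hη
    rw [hc] at h3
    exact_mod_cast h3

/-- The induced characters are orthogonal to the permutation character. -/
theorem ind_orth (hP : Nat.card P = p) {a : IrrCharacter G → ℝ} (H : Avg P n a)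
    (hn : Nat.card (Sylow p G) = 1 + n * p)
    [Fintype (Subgroup.normalizer ((P : Subgroup G) : Set G))]
    (η : Subgroup.normalizer ((P : Subgroup G) : Set G) →* ℂ)
    (hη : ∀ x : Subgroup.normalizer ((P : Subgroup G) : Set G), (x : G) ∈ (P : Subgroup G) → η x = 1)
    (hη1 : ∃ x, η x ≠ 1) :
    classInner (indFun (Subgroup.normalizer ((P : Subgroup G) : Set G)) (fun y => η y))
      (indFun (Subgroup.normalizer ((P : Subgroup G) : Set G)) (fun _ => 1)) = 0 := by
  classical
  haveI : Fintype (IrrCharacter G) := Fintype.ofFinite _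
  have hχη : IsCharacter G (indFun (Subgroup.normalizer ((P : Subgroup G) : Set G)) (fun y => η y)) :=
    IsChar.ind (IsIrr.isCharacter (isIrr_of_hom η))
  have hχ1 : IsCharacter G (indFun (Subgroup.normalizer ((P : Subgroup G) : Set G)) (fun _ => 1)) :=
    IsChar.ind (IsIrr.isCharacter isIrr_one)
  choose c hc using fun χ : IrrCharacter G => ci_char_nat hχη (IsIrr.isCharacter χ.2)
  choose d hd using fun χ : IrrCharacter G => ci_char_nat hχ1 (IsIrr.isCharacter χ.2)
  obtain ⟨c1, c2, c3⟩ := avg_eq hP H hn η hη c hc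
  obtain ⟨d1, d2, d3⟩ := avg_eq hP H hn 1 (fun _ _ => rfl) d (by simpa using hd)
  -- multiplicities of the trivial character
  have hdt : d (triv G) = 1 := by
    have h1 := hd (triv G)
    rw [frobenius _ _ _ (IsIrr.isClass (triv G).2)] at h1
    have h2 : classInner (G := Subgroup.normalizer ((P : Subgroup G) : Set G)) (fun _ => (1 : ℂ))
        (fun h => ((triv G : IrrCharacter G) : G → ℂ) h) = 1 := ci_irr_self isIrr_one
    rw [h2] at h1
    exact_mod_cast h1.symm
  have hct : c (triv G) = 0 := by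
    have h1 := hc (triv G)
    rw [frobenius _ _ _ (IsIrr.isClass (triv G).2)] at h1
    have h2 : classInner (fun y => η y)
        (fun h : Subgroup.normalizer ((P : Subgroup G) : Set G) => ((triv G : IrrCharacter G) : G → ℂ) h) = 0 := by
      refine ci_irr_ne (isIrr_of_hom η) isIrr_one ?_
      intro h3
      obtain ⟨x, hx⟩ := hη1
      exact hx (congrFun h3 x)
    rw [h2] at h1
    exact_mod_cast h1.symm
  have hat : a (triv G) = 1 := by
    haveI : Fintype (P : Subgroup G) := Fintype.ofFinite _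
    have h1 := H.av (triv G)
    rw [deg_triv, sum_P hP (f := ((triv G : IrrCharacter G) : G → ℂ)) (c := 1) (fun x _ _ => triv_coe x),
      triv_coe] at h1
    have hpc : (p : ℂ) - 1 ≠ 0 := by
      intro h
      have : (p : ℂ) = 1 := by linear_combination h
      exact hp.out.one_lt.ne' (by exact_mod_cast this)
    have h2 : ((p : ℂ) - 1) * (a (triv G) : ℂ) = ((p : ℂ) - 1) * 1 := by
      push_cast at h1; linear_combination -h1
    have h3 := mul_left_cancel₀ hpc h2
    exact_mod_cast h3
  -- positive ones do not occur in the permutation character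
  have hdpos : ∀ χ : IrrCharacter G, χ ≠ triv G → 0 < a χ → d χ = 0 := by
    intro χ hχ hpos
    rw [← Finset.add_sum_erase _ _ (Finset.mem_univ (triv G)), hdt, hat] at d2
    have h0 : ∑ χ ∈ Finset.univ.erase (triv G), (d χ : ℝ) * a χ = 0 := by
      push_cast at d2; linarith
    have hnn : ∀ ψ ∈ Finset.univ.erase (triv G), 0 ≤ (d ψ : ℝ) * a ψ := by
      intro ψ _
      rcases lt_or_ge (a ψ) 0 with h | h
      · rw [d3 ψ h]; simp
      · positivity
    rw [Finset.sum_eq_zero_iff_of_nonneg hnn] at h0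
    have h1 := h0 χ (Finset.mem_erase.mpr ⟨hχ, Finset.mem_univ _⟩)
    have h2 := (mul_eq_zero.mp h1).resolve_right hpos.ne'
    exact_mod_cast h2
  -- those with average zero do not occur in the other one
  have hczero : ∀ χ : IrrCharacter G, a χ = 0 → c χ = 0 := by
    intro χ hχ
    have hm : (0 : ℝ) < 1 + n * p := by positivity
    have h1 : ∑ ψ : IrrCharacter G, ((c ψ : ℝ) * (charDegree (ψ : G → ℂ) : ℝ) - (1 + n * p) * ((c ψ : ℝ) * a ψ)) = 0 := by
      rw [Finset.sum_sub_distrib, ← Finset.mul_sum, c2]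
      have : (∑ ψ : IrrCharacter G, (c ψ : ℝ) * (charDegree (ψ : G → ℂ) : ℝ)) = 1 + n * p := by
        exact_mod_cast c1
      rw [this]; ring
    have hnn : ∀ ψ ∈ (Finset.univ : Finset (IrrCharacter G)),
        0 ≤ ((c ψ : ℝ) * (charDegree (ψ : G → ℂ) : ℝ) - (1 + n * p) * ((c ψ : ℝ) * a ψ)) := by
      intro ψ _
      rcases lt_trichotomy (a ψ) 0 with h | h | h
      · rw [c3 ψ h]; simp
      · rw [h]; simp; positivity
      · by_cases h' : ψ = triv G
        · rw [h', hct]; simp
        · rw [H.pos ψ h' h]; ring_nf; exact le_refl _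
    rw [Finset.sum_eq_zero_iff_of_nonneg hnn] at h1
    have h2 := h1 χ (Finset.mem_univ _)
    rw [hχ, mul_zero, mul_zero, sub_zero] at h2
    have h3 := (mul_eq_zero.mp h2).resolve_right (by exact_mod_cast (deg_pos χ).ne')
    exact_mod_cast h3
  rw [ci_eq_sum _ _ (ind_isClass _ _)]
  refine Finset.sum_eq_zero fun χ _ => ?_
  rw [hc, hd]
  rcases lt_trichotomy (a χ) 0 with h | h | h
  · rw [c3 χ h]; simp
  · rw [hczero χ h]; simp
  · by_cases h' : χ = triv G
    · rw [h', hct]; simp
    · rw [hdpos χ h' h]; simp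

end Cfsg.Agent.H4.BRind
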