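import Mathlib
import Cfsg.Agent.H4_BRind

/-! Intersections of normalizers of Sylow subgroups. -/

set_option autoImplicit false

namespace Cfsg.Agent.H4.BRfr

open Cfsg Cfsg.Agent.H3.CharIrr Cfsg.Agent.H3.CharComplete Cfsg.Agent.H3.CharInd
  Cfsg.Agent.H3.CharMult Cfsg.Agent.H3.CharInt Cfsg.Agent.H4.BRgr Cfsg.Agent.H4.BRar
  Cfsg.Agent.H4.BRdata Cfsg.Agent.H4.BRdeg Cfsg.Agent.H4.BRv Cfsg.Agent.H4.BRcase Cfsg.Agent.H4.BRind
open Cfsg.Agent.H10.BlockKer (triv triv_coe ker_mul)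
open scoped ComplexConjugate

universe u

variable {G : Type u} [Group G] [Fintype G] {p : ℕ} [hp : Fact p.Prime] {P : Sylow p G} {e t n : ℕ}

/-- the normalizer -/
abbrev NN (P : Sylow p G) : Subgroup G := Subgroup.normalizer ((P : Subgroup G) : Set G)

/-- the intersection of the normalizer with a conjugate -/
def DD (P : Sylow p G) (x : G) : Subgroup (NN P) :=
  (NN P).comap ((MulAut.conj x⁻¹).toMonoidHom.comp (NN P).subtype)

theorem mem_DD {x : G} {h : NN P} : h ∈ DD P x ↔ x⁻¹ * (h : G) * x ∈ NN P := by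
  unfold DD
  rw [Subgroup.mem_comap]
  have : ((MulAut.conj x⁻¹).toMonoidHom.comp (NN P).subtype) h = x⁻¹ * (h : G) * x := by
    show x⁻¹ * (h : G) * x⁻¹⁻¹ = _
    rw [inv_inv]
  rw [this]

theorem exists_DD_ne (hP : Nat.card P = p) {a : IrrCharacter G → ℝ} (H : Avg P n a)
    (hn : Nat.card (Sylow p G) = 1 + n * p) (η : NN P →* ℂ)
    (hη : ∀ x : NN P, (x : G) ∈ (P : Subgroup G) → η x = 1)
    (hη1 : ∃ x, η x ≠ 1) (x : G) : ∃ h ∈ DD P x, η h ≠ 1 := by
  classical
  by_contra hcon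
  push Not at hcon
  haveI : Fintype (NN P) := Fintype.ofFinite _
  have h1 := ind_orth hP H hn η hη hη1
  rw [frobenius _ _ _ (ind_isClass _ _), classInner] at h1
  have hN : (Nat.card (NN P) : ℂ) ≠ 0 := by exact_mod_cast Nat.card_pos.ne'
  have h2 := (mul_eq_zero.mp h1).resolve_left (inv_ne_zero hN)
  have h3 : ∀ h : NN P, conj (indFun (NN P) (fun _ => (1 : ℂ)) (h : G)) =
      (Nat.card (NN P) : ℂ)⁻¹ * ∑ x : G, if h ∈ DD P x then (1 : ℂ) else 0 := by
    intro h
    rw [indFun, map_mul, map_inv₀, map_natCast, map_sum]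
    congr 1
    refine Finset.sum_congr rfl fun x _ => ?_
    by_cases hx : x⁻¹ * (h : G) * x ∈ NN P
    · rw [ext_mem _ _ hx, if_pos (mem_DD.mpr hx)]; simp
    · rw [ext_not_mem _ _ hx, if_neg (fun h' => hx (mem_DD.mp h'))]; simp
  simp only [h3] at h2
  have h4 : ∑ h : NN P, η h * ((Nat.card (NN P) : ℂ)⁻¹ * ∑ x : G, if h ∈ DD P x then (1 : ℂ) else 0) =
      (Nat.card (NN P) : ℂ)⁻¹ * ∑ x : G, ∑ h : NN P, if h ∈ DD P x then η h else 0 := by
    rw [Finset.sum_comm, Finset.mul_sum]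
    refine Finset.sum_congr rfl fun h _ => ?_
    rw [Finset.mul_sum, Finset.mul_sum, Finset.mul_sum]
    refine Finset.sum_congr rfl fun x _ => ?_
    split_ifs <;> ring
  rw [h4] at h2
  have h5 := (mul_eq_zero.mp h2).resolve_left (inv_ne_zero hN)
  -- each term is a nonnegative real
  have h6 : ∀ y : G, ∃ r : ℕ, (∑ h : NN P, if h ∈ DD P y then η h else 0) = (r : ℂ) ∧
      ((∀ h ∈ DD P y, η h = 1) → 0 < r) := by
    intro y
    haveI : Fintype (DD P y) := Fintype.ofFinite _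
    have h7 : (∑ h : NN P, if h ∈ DD P y then η h else 0) = ∑ h : DD P y, (η.comp (DD P y).subtype) h := by
      rw [← Finset.sum_filter]
      rw [Finset.sum_subtype (p := fun h => h ∈ DD P y) (Finset.univ.filter (fun h => h ∈ DD P y)) (by simp)]
      rfl
    rw [h7, sum_hom_units]
    by_cases h8 : η.comp (DD P y).subtype = 1
    · rw [if_pos h8]
      refine ⟨Fintype.card (DD P y), rfl, fun _ => Fintype.card_pos⟩
    · rw [if_neg h8]
      refine ⟨0, by simp, fun h9 => ?_⟩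
      exfalso
      apply h8
      ext h
      exact h9 h h.2
  choose r hr hr' using h6
  simp only [hr] at h5
  have h7 : ∑ y : G, r y = 0 := by exact_mod_cast h5
  rw [Finset.sum_eq_zero_iff] at h7
  exact (hr' x hcon).ne' (h7 x (Finset.mem_univ _))

omit [Fintype G] in
/-- The normalizer modulo `P` is abelian. -/
theorem comm_mem [Finite G] (hP : Nat.card P = p)
    (hC : Subgroup.centralizer ((P : Subgroup G) : Set G) = (P : Subgroup G)) {a b : G}
    (ha : a ∈ NN P) (hb : b ∈ NN P) : (b * a)⁻¹ * (a * b) ∈ (P : Subgroup G) := by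
  obtain ⟨x, hx, hx1⟩ : ∃ x ∈ (P : Subgroup G), x ≠ 1 := by
    haveI := Fintype.ofFinite G
    exact exists_mem hP
  have h1 := conj_mem hx ha
  have h2 := conj_mem hx hb
  rw [← zpowers_eq hP hx hx1] at h1 h2
  obtain ⟨i, hi⟩ := Subgroup.mem_zpowers_iff.mp h1
  obtain ⟨j, hj⟩ := Subgroup.mem_zpowers_iff.mp h2
  have h3 : a * b * x * (a * b)⁻¹ = b * a * x * (b * a)⁻¹ := by
    have e1 : a * b * x * (a * b)⁻¹ = a * (b * x * b⁻¹) * a⁻¹ := by group
    have e2 : b * a * x * (b * a)⁻¹ = b * (a * x * a⁻¹) * b⁻¹ := by group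
    rw [e1, e2, ← hi, ← hj, ← conj_zpow, ← conj_zpow, ← hi, ← hj, ← zpow_mul, ← zpow_mul, mul_comm]
  rw [← hC, ← centralizer_eq hP hx hx1, Subgroup.mem_centralizer_singleton_iff]
  have h4 : a * b * x = b * a * x * (b * a)⁻¹ * (a * b) := by rw [← h3]; group
  calc (b * a)⁻¹ * (a * b) * x = (b * a)⁻¹ * (a * b * x) := by group
    _ = (b * a)⁻¹ * (b * a * x * (b * a)⁻¹ * (a * b)) := by rw [h4]
    _ = x * ((b * a)⁻¹ * (a * b)) := by group

/-- a nontrivial linear character trivial on a proper subgroup with abelian quotient. -/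
theorem exists_hom {N : Type*} [Group N] [Finite N] (Q : Subgroup N)
    (hQ : ∀ a b : N, (b * a)⁻¹ * (a * b) ∈ Q) (hne : Q ≠ ⊤) :
    ∃ η : N →* ℂ, (∀ x ∈ Q, η x = 1) ∧ ∃ x, η x ≠ 1 := by
  have hn : Q.Normal := ⟨fun x hx g => by
    have h1 := hQ x g
    -- (g x)⁻¹ (x g) ∈ Q
    have h2 := hQ g x
    -- (x g)⁻¹ (g x) ∈ Q : g⁻¹ x⁻¹ g x
    have h3 := hQ (x) (g⁻¹)
    -- (g⁻¹ x)⁻¹ (x g⁻¹) = x⁻¹ g x g⁻¹
    have h4 : g * x * g⁻¹ = x * ((g⁻¹ * x)⁻¹ * (x * g⁻¹)) := by group
    rw [h4]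
    exact Q.mul_mem hx h3⟩
  letI : CommGroup (N ⧸ Q) := { (inferInstance : Group (N ⧸ Q)) with
    mul_comm := by
      intro a b
      obtain ⟨a, rfl⟩ := QuotientGroup.mk_surjective a
      obtain ⟨b, rfl⟩ := QuotientGroup.mk_surjective b
      rw [← QuotientGroup.mk_mul, ← QuotientGroup.mk_mul, eq_comm, QuotientGroup.eq]
      exact hQ a b }
  obtain ⟨y, hy⟩ : ∃ y : N, y ∉ Q := by
    by_contra hcon
    push Not at hcon
    exact hne (top_le_iff.mp fun y _ => hcon y)
  have hy' : (QuotientGroup.mk y : N ⧸ Q) ≠ 1 := by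
    rwa [Ne, QuotientGroup.eq_one_iff]
  obtain ⟨φ, hφ⟩ := CommGroup.exists_apply_ne_one_of_hasEnoughRootsOfUnity (N ⧸ Q) ℂ hy'
  refine ⟨(Units.coeHom ℂ).comp (φ.comp (QuotientGroup.mk' Q)), ?_, y, ?_⟩
  · intro x hx
    show ((φ (QuotientGroup.mk' Q x) : ℂˣ) : ℂ) = 1
    have : QuotientGroup.mk' Q x = 1 := (QuotientGroup.eq_one_iff x).mpr hx
    rw [this, map_one]; simp
  · show ((φ (QuotientGroup.mk' Q y) : ℂˣ) : ℂ) ≠ 1
    intro h
    exact hφ (Units.ext h)

/-- Every intersection covers the quotient. -/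
theorem DD_sup (hP : Nat.card P = p)
    (hC : Subgroup.centralizer ((P : Subgroup G) : Set G) = (P : Subgroup G))
    {a : IrrCharacter G → ℝ} (H : Avg P n a)
    (hn : Nat.card (Sylow p G) = 1 + n * p) (x : G) :
    DD P x ⊔ (P : Subgroup G).subgroupOf (NN P) = ⊤ := by
  by_contra hne
  obtain ⟨η, h1, h2⟩ := exists_hom (DD P x ⊔ (P : Subgroup G).subgroupOf (NN P))
    (fun a b => Subgroup.mem_sup_right (by
      rw [Subgroup.mem_subgroupOf]
      exact comm_mem hP hC a.2 b.2)) hne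
  obtain ⟨h, h3, h4⟩ := exists_DD_ne hP H hn η
    (fun x hx => h1 x (Subgroup.mem_sup_right (Subgroup.mem_subgroupOf.mpr hx))) h2 x
  exact h4 (h1 h (Subgroup.mem_sup_left h3))

omit [Fintype G] in
theorem mem_P_of_dvd [Finite G] (hP : Nat.card P = p)
    (hC : Subgroup.centralizer ((P : Subgroup G) : Set G) = (P : Subgroup G)) {g : G}
    (hg : g ∈ NN P) (ho : p ∣ orderOf g) : g ∈ (P : Subgroup G) := by
  obtain ⟨k, hk⟩ := ho
  have hg0 : 0 < orderOf g := orderOf_pos g
  have hk0 : k ≠ 0 := by rintro rfl; omega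
  have hy : orderOf (g ^ k) = p := by
    have := orderOf_pow_of_dvd (x := g) hk0 ⟨p, by rw [hk]; ring⟩
    rw [this, hk, Nat.mul_div_cancel _ (Nat.pos_of_ne_zero hk0)]
  have h1 : g ^ k ∈ (P : Subgroup G) := mem_of_normalizer ((NN P).pow_mem hg k) hy
  have h2 : g ^ k ≠ 1 := by
    intro h; rw [h, orderOf_one] at hy; exact hp.out.one_lt.ne hy
  rw [← hC, ← centralizer_eq hP h1 h2, Subgroup.mem_centralizer_singleton_iff]
  exact Commute.self_pow _ _

omit [Fintype G] in
theorem card_NN [Finite G] (hP : Nat.card P = p)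
    (hC : Subgroup.centralizer ((P : Subgroup G) : Set G) = (P : Subgroup G))
    (he : (Subgroup.centralizer ((P : Subgroup G) : Set G)).relIndex
      (Subgroup.normalizer ((P : Subgroup G) : Set G)) = e) :
    Nat.card (NN P) = p * e := by
  rw [hC] at he
  have h1 := Subgroup.card_mul_index ((P : Subgroup G).subgroupOf (NN P))
  have h2 : Nat.card ((P : Subgroup G).subgroupOf (NN P)) = p := by
    rw [Nat.card_congr (Subgroup.subgroupOfEquivOfLe (Subgroup.le_normalizer)).toEquiv]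
    exact hP
  rw [h2] at h1
  rw [← h1, ← he]; rfl

/-- The intersection of the normalizers of two Sylow subgroups has order `e`. -/
theorem card_DD (hP : Nat.card P = p)
    (hC : Subgroup.centralizer ((P : Subgroup G) : Set G) = (P : Subgroup G))
    (he : (Subgroup.centralizer ((P : Subgroup G) : Set G)).relIndex
      (Subgroup.normalizer ((P : Subgroup G) : Set G)) = e)
    {a : IrrCharacter G → ℝ} (H : Avg P n a)
    (hn : Nat.card (Sylow p G) = 1 + n * p) {x : G} (hx : x ∉ NN P) :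
    Nat.card (DD P x) = e := by
  have h1 := DD_sup hP hC H hn x
  haveI : ((P : Subgroup G).subgroupOf (NN P)).Normal := Subgroup.normal_in_normalizer
  have h2 : ((P : Subgroup G).subgroupOf (NN P)).relIndex (DD P x ⊔ (P : Subgroup G).subgroupOf (NN P)) =
      ((P : Subgroup G).subgroupOf (NN P)).relIndex (DD P x) := Subgroup.relIndex_sup_right _ _
  rw [h1, Subgroup.relIndex_top_right] at h2
  have h3 : ((P : Subgroup G).subgroupOf (NN P)) ⊓ DD P x = ⊥ := by
    rw [eq_bot_iff]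
    intro h hh
    obtain ⟨ha, hb⟩ := Subgroup.mem_inf.mp hh
    rw [Subgroup.mem_subgroupOf] at ha
    rw [mem_DD] at hb
    rw [Subgroup.mem_bot]
    by_contra h4
    have h4' : (h : G) ≠ 1 := fun h5 => h4 (Subtype.ext h5)
    have ho : orderOf (x⁻¹ * (h : G) * x) = p := by
      refine Eq.trans ?_ (orderOf_eq hP ha h4')
      have := orderOf_injective (MulAut.conj (x⁻¹)).toMonoidHom (MulAut.conj (x⁻¹)).injective (h : G)
      simpa using this
    have h5 := mem_of_normalizer hb ho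
    have h6 := mem_normalizer_of hP (g := x⁻¹) ha h4' (by rw [inv_inv]; exact h5)
    exact hx (by have := inv_mem h6; rwa [inv_inv] at this)
  have h4 : ((P : Subgroup G).subgroupOf (NN P)).relIndex (DD P x) = Nat.card (DD P x) := by
    rw [← Subgroup.inf_relIndex_right, h3, Subgroup.relIndex_bot_left]
  rw [h4] at h2
  rw [← h2, ← he, hC]; rfl

end Cfsg.Agent.H4.BRfr
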