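import Mathlib
import Cfsg.Agent.H4_BRfr

/-! Geometry of the Sylow subgroups. -/

set_option autoImplicit false

namespace Cfsg.Agent.H4.BRgeo

open Cfsg.Agent.H4.BRgr Cfsg.Agent.H4.BRind Cfsg.Agent.H4.BRfr
open scoped Pointwise

universe u

structure Geo (G : Type u) [Group G] (p e n : ℕ) [Fact p.Prime] : Prop where
  cardP : ∀ Q : Sylow p G, Nat.card Q = p
  cent : ∀ Q : Sylow p G, Subgroup.centralizer ((Q : Subgroup G) : Set G) = (Q : Subgroup G)
  cardN : ∀ Q : Sylow p G, Nat.card (NN Q) = p * e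
  cardK : ∀ Q R : Sylow p G, Q ≠ R → Nat.card (NN Q ⊓ NN R : Subgroup G) = e
  cardS : Nat.card (Sylow p G) = 1 + n * p
  two_le : 2 ≤ e

variable {G : Type u} [Group G] [Finite G] {p : ℕ} [hp : Fact p.Prime] {e n : ℕ}

theorem mem_NN_smul {Q : Sylow p G} {g y : G} : y ∈ NN (g • Q) ↔ g⁻¹ * y * g ∈ NN Q := by
  have h1 : ∀ z : G, z ∈ ((g • Q : Sylow p G) : Subgroup G) ↔ g⁻¹ * z * g ∈ (Q : Subgroup G) := by
    intro z
    rw [Sylow.coe_subgroup_smul, Subgroup.mem_pointwise_smul_iff_inv_smul_mem, MulAut.smul_def,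
      MulAut.conj_inv_apply]
  rw [Subgroup.mem_normalizer_iff, Subgroup.mem_normalizer_iff]
  constructor
  · intro h z
    have h2 := h (g * z * g⁻¹)
    rw [h1, h1] at h2
    have e1 : g⁻¹ * (g * z * g⁻¹) * g = z := by group
    have e2 : g⁻¹ * (y * (g * z * g⁻¹) * y⁻¹) * g = g⁻¹ * y * g * z * (g⁻¹ * y * g)⁻¹ := by group
    rwa [e1, e2] at h2
  · intro h z
    rw [h1, h1, h (g⁻¹ * z * g)]
    have e2 : g⁻¹ * y * g * (g⁻¹ * z * g) * (g⁻¹ * y * g)⁻¹ = g⁻¹ * (y * z * y⁻¹) * g := by group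
    rw [e2]

theorem mem_smul {Q : Sylow p G} {g z : G} :
    z ∈ ((g • Q : Sylow p G) : Subgroup G) ↔ g⁻¹ * z * g ∈ (Q : Subgroup G) := by
  rw [Sylow.coe_subgroup_smul, Subgroup.mem_pointwise_smul_iff_inv_smul_mem, MulAut.smul_def,
    MulAut.conj_inv_apply]

theorem smul_eq_self {Q : Sylow p G} {g : G} (hg : g ∈ NN Q) : g • Q = Q :=
  Sylow.smul_eq_iff_mem_normalizer.mpr hg

theorem smul_eq_iff {Q : Sylow p G} {g : G} : g • Q = Q ↔ g ∈ NN Q :=
  Sylow.smul_eq_iff_mem_normalizer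

/-- the structure from one Sylow subgroup -/
theorem mk_geo {P : Sylow p G} (hP : Nat.card P = p)
    (hC : Subgroup.centralizer ((P : Subgroup G) : Set G) = (P : Subgroup G))
    (he : (Subgroup.centralizer ((P : Subgroup G) : Set G)).relIndex
      (Subgroup.normalizer ((P : Subgroup G) : Set G)) = e) (he2 : 2 ≤ e)
    (hn : Nat.card (Sylow p G) = 1 + n * p)
    (hD : ∀ x : G, x ∉ NN P → Nat.card (DD P x) = e) : Geo G p e n := by
  haveI := Fintype.ofFinite G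
  have hcP : ∀ Q : Sylow p G, Nat.card Q = p := by
    intro Q
    have : Nat.card (Q : Subgroup G) = Nat.card (P : Subgroup G) := Nat.card_congr (Sylow.equiv Q P).toEquiv
    exact this.trans hP
  have hcK : ∀ R : Sylow p G, P ≠ R → Nat.card (NN P ⊓ NN R : Subgroup G) = e := by
    intro R hR
    obtain ⟨x, rfl⟩ := MulAction.exists_smul_eq G P R
    have hx : x ∉ NN P := fun h => hR (smul_eq_self h).symm
    rw [← hD x hx]
    refine Nat.card_congr ⟨fun y => ⟨⟨y, (Subgroup.mem_inf.mp y.2).1⟩, ?_⟩, fun y => ⟨y.1.1, ?_⟩, ?_, ?_⟩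
    · rw [mem_DD]; exact mem_NN_smul.mp (Subgroup.mem_inf.mp y.2).2
    · exact Subgroup.mem_inf.mpr ⟨y.1.2, mem_NN_smul.mpr (mem_DD.mp y.2)⟩
    · intro y; rfl
    · intro y; rfl
  refine ⟨hcP, ?_, ?_, ?_, hn, he2⟩
  · intro Q
    obtain ⟨x, rfl⟩ := MulAction.exists_smul_eq G P Q
    ext y
    rw [mem_smul, ← hC, Subgroup.mem_centralizer_iff, Subgroup.mem_centralizer_iff]
    constructor
    · intro h z hz
      have h1 := h (x * z * x⁻¹) (mem_smul.mpr (by
        have : x⁻¹ * (x * z * x⁻¹) * x = z := by group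
        rw [this]; exact hz))
      calc z * (x⁻¹ * y * x) = x⁻¹ * ((x * z * x⁻¹) * y) * x := by group
        _ = x⁻¹ * (y * (x * z * x⁻¹)) * x := by rw [h1]
        _ = x⁻¹ * y * x * z := by group
    · intro h z hz
      have h1 := h (x⁻¹ * z * x) (mem_smul.mp hz)
      calc z * y = x * ((x⁻¹ * z * x) * (x⁻¹ * y * x)) * x⁻¹ := by group
        _ = x * ((x⁻¹ * y * x) * (x⁻¹ * z * x)) * x⁻¹ := by rw [h1]
        _ = y * z := by group
  · intro Q
    obtain ⟨x, rfl⟩ := MulAction.exists_smul_eq G P Q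
    rw [← card_NN hP hC he]
    refine Nat.card_congr ⟨fun y => ⟨x⁻¹ * y * x, mem_NN_smul.mp y.2⟩, fun y => ⟨x * y * x⁻¹, ?_⟩, ?_, ?_⟩
    · rw [mem_NN_smul]
      have : x⁻¹ * (x * (y : G) * x⁻¹) * x = y := by group
      rw [this]; exact y.2
    · intro y; apply Subtype.ext
      show x * (x⁻¹ * (y : G) * x) * x⁻¹ = y
      group
    · intro y; apply Subtype.ext
      show x⁻¹ * (x * (y : G) * x⁻¹) * x = y
      group
  · intro Q R hQR
    obtain ⟨x, rfl⟩ := MulAction.exists_smul_eq G P Q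
    obtain ⟨R', rfl⟩ : ∃ R', x • R' = R := ⟨x⁻¹ • R, by simp⟩
    have hne : P ≠ R' := fun h => hQR (by rw [h])
    rw [← hcK R' hne]
    refine Nat.card_congr ⟨fun y => ⟨x⁻¹ * y * x, ?_⟩, fun y => ⟨x * y * x⁻¹, ?_⟩, ?_, ?_⟩
    · exact Subgroup.mem_inf.mpr ⟨mem_NN_smul.mp (Subgroup.mem_inf.mp y.2).1,
        mem_NN_smul.mp (Subgroup.mem_inf.mp y.2).2⟩
    · have : x⁻¹ * (x * (y : G) * x⁻¹) * x = y := by group
      refine Subgroup.mem_inf.mpr ⟨mem_NN_smul.mpr ?_, mem_NN_smul.mpr ?_⟩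
      · rw [this]; exact (Subgroup.mem_inf.mp y.2).1
      · rw [this]; exact (Subgroup.mem_inf.mp y.2).2
    · intro y; apply Subtype.ext
      show x * (x⁻¹ * (y : G) * x) * x⁻¹ = y
      group
    · intro y; apply Subtype.ext
      show x⁻¹ * (x * (y : G) * x⁻¹) * x = y
      group

variable (Γ : Geo G p e n)
include Γ

theorem Geo.fpf {Q : Sylow p G} {d x : G} (hd : d ∉ (Q : Subgroup G)) (hx : x ∈ (Q : Subgroup G))
    (hc : x * d = d * x) : x = 1 := by
  by_contra h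
  apply hd
  rw [← Γ.cent Q, ← centralizer_eq (Γ.cardP Q) hx h, Subgroup.mem_centralizer_singleton_iff]
  exact hc.symm

theorem Geo.inter_eq {Q R : Sylow p G} (hQR : Q ≠ R) {x : G} (hx : x ∈ (Q : Subgroup G))
    (hxR : x ∈ NN R) : x = 1 := by
  by_contra h
  have h1 : x ∈ (R : Subgroup G) := mem_of_normalizer hxR (orderOf_eq (Γ.cardP Q) hx h)
  apply hQR
  apply Sylow.ext
  rw [← zpowers_eq (Γ.cardP Q) hx h, ← zpowers_eq (Γ.cardP R) h1 h]

/-- elements of the normalizer commute modulo the Sylow subgroup -/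
theorem Geo.comm {Q : Sylow p G} {a b : G} (ha : a ∈ NN Q) (hb : b ∈ NN Q) :
    (b * a)⁻¹ * (a * b) ∈ (Q : Subgroup G) := comm_mem (Γ.cardP Q) (Γ.cent Q) ha hb

theorem Geo.comm' {Q : Sylow p G} {a b : G} (ha : a ∈ NN Q) (hb : b ∈ NN Q) :
    a * b * a⁻¹ * b⁻¹ ∈ (Q : Subgroup G) := by
  have h := Γ.comm (Q := Q) (inv_mem ha) (inv_mem hb)
  have e1 : (b⁻¹ * a⁻¹)⁻¹ * (a⁻¹ * b⁻¹) = a * b * a⁻¹ * b⁻¹ := by group
  rwa [e1] at h

/-- The subgroup `C(d) ∩ N(Q)`. -/
theorem Geo.K_eq {Q R : Sylow p G} (hQR : Q ≠ R) {d : G} (hdQ : d ∈ NN Q)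
    (hdR : d ∈ NN R) (hd1 : d ≠ 1) :
    (NN Q ⊓ NN R : Subgroup G) = Subgroup.centralizer {d} ⊓ NN Q := by
  have hd : d ∉ (Q : Subgroup G) := fun h => hd1 (Γ.inter_eq hQR h hdR)
  apply Subgroup.eq_of_le_of_card_ge
  · intro y hy
    obtain ⟨h1, h2⟩ := Subgroup.mem_inf.mp hy
    refine Subgroup.mem_inf.mpr ⟨?_, h1⟩
    rw [Subgroup.mem_centralizer_singleton_iff]
    have h3 := Γ.comm' h1 hdQ
    have h4 : y * d * y⁻¹ * d⁻¹ ∈ NN R := by
      exact mul_mem (mul_mem (mul_mem h2 hdR) (inv_mem h2)) (inv_mem hdR)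
    have h5 := Γ.inter_eq hQR h3 h4
    calc y * d = (y * d * y⁻¹ * d⁻¹) * d * y := by group
      _ = d * y := by rw [h5, one_mul]
  · rw [Γ.cardK Q R hQR]
    -- L meets Q trivially
    haveI : ((Q : Subgroup G).subgroupOf (NN Q)).Normal := Subgroup.normal_in_normalizer
    let L : Subgroup (NN Q) := (Subgroup.centralizer {d}).subgroupOf (NN Q)
    have hL : Nat.card (Subgroup.centralizer {d} ⊓ NN Q : Subgroup G) = Nat.card L := by
      refine Nat.card_congr ⟨fun y => ⟨⟨y, (Subgroup.mem_inf.mp y.2).2⟩, (Subgroup.mem_inf.mp y.2).1⟩,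
        fun y => ⟨y.1.1, Subgroup.mem_inf.mpr ⟨y.2, y.1.2⟩⟩, fun y => rfl, fun y => rfl⟩
    have hi : ((Q : Subgroup G).subgroupOf (NN Q)) ⊓ L = ⊥ := by
      rw [eq_bot_iff]
      intro y hy
      obtain ⟨h1, h2⟩ := Subgroup.mem_inf.mp hy
      rw [Subgroup.mem_bot]
      apply Subtype.ext
      exact Γ.fpf hd h1 (Subgroup.mem_centralizer_singleton_iff.mp h2)
    have h4 : ((Q : Subgroup G).subgroupOf (NN Q)).relIndex L = Nat.card L := by
      rw [← Subgroup.inf_relIndex_right, hi, Subgroup.relIndex_bot_left]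
    have h5 : ((Q : Subgroup G).subgroupOf (NN Q)).relIndex L ≤ ((Q : Subgroup G).subgroupOf (NN Q)).index := by
      exact Nat.le_of_dvd (Nat.pos_of_ne_zero Subgroup.FiniteIndex.index_ne_zero) (Subgroup.relIndex_dvd_index_of_normal _ _)
    have h6 : p * ((Q : Subgroup G).subgroupOf (NN Q)).index = p * e := by
      have h1 := Subgroup.card_mul_index ((Q : Subgroup G).subgroupOf (NN Q))
      have h2 : Nat.card ((Q : Subgroup G).subgroupOf (NN Q)) = p := by
        rw [Nat.card_congr (Subgroup.subgroupOfEquivOfLe (Subgroup.le_normalizer)).toEquiv]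
        exact Γ.cardP Q
      rw [h2, Γ.cardN Q] at h1
      exact h1
    have h7 := Nat.eq_of_mul_eq_mul_left hp.out.pos h6
    rw [hL, ← h4, ← h7]
    exact h5

/-- existence of a conjugating element. -/
theorem Geo.exists_smul {Q R : Sylow p G} (hQR : Q ≠ R) {d : G} (hdQ : d ∈ NN Q)
    (hd : d ∉ (Q : Subgroup G)) : ∃ u ∈ (Q : Subgroup G), d ∈ NN (u • R) := by
  -- d = v * c
  haveI hnorm : ((Q : Subgroup G).subgroupOf (NN Q)).Normal := Subgroup.normal_in_normalizer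
  obtain ⟨v, hv, c, hc, hvc⟩ : ∃ v ∈ (Q : Subgroup G), ∃ c ∈ (NN Q ⊓ NN R : Subgroup G), d = v * c := by
    let L : Subgroup (NN Q) := (NN R).subgroupOf (NN Q)
    have hL : Nat.card L = e := by
      rw [← Γ.cardK Q R hQR]
      refine Nat.card_congr ⟨fun y => ⟨y.1.1, Subgroup.mem_inf.mpr ⟨y.1.2, y.2⟩⟩,
        fun y => ⟨⟨y, (Subgroup.mem_inf.mp y.2).1⟩, (Subgroup.mem_inf.mp y.2).2⟩,
        fun y => rfl, fun y => rfl⟩
    have hi : ((Q : Subgroup G).subgroupOf (NN Q)) ⊓ L = ⊥ := by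
      rw [eq_bot_iff]
      intro y hy
      obtain ⟨h1, h2⟩ := Subgroup.mem_inf.mp hy
      rw [Subgroup.mem_bot]
      apply Subtype.ext
      exact Γ.inter_eq hQR h1 h2
    have hcQ : Nat.card ((Q : Subgroup G).subgroupOf (NN Q)) = p := by
      rw [Nat.card_congr (Subgroup.subgroupOfEquivOfLe (Subgroup.le_normalizer)).toEquiv]
      exact Γ.cardP Q
    have h1 : Subgroup.IsComplement' ((Q : Subgroup G).subgroupOf (NN Q)) L := by
      apply Subgroup.isComplement'_of_card_mul_and_disjoint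
      · rw [hcQ, hL, Γ.cardN Q]
      · exact disjoint_iff.mpr hi
    have h2 := h1.mul_eq
    have h3 : (⟨d, hdQ⟩ : NN Q) ∈ (((Q : Subgroup G).subgroupOf (NN Q) : Set (NN Q)) * (L : Set (NN Q))) := by
      rw [h2]; trivial
    obtain ⟨v, hv, c, hc, hvc⟩ := Set.mem_mul.mp h3
    exact ⟨v, hv, c, Subgroup.mem_inf.mpr ⟨c.2, hc⟩, (congrArg Subtype.val hvc).symm⟩
  -- the map u ↦ u⁻¹ (d u d⁻¹)
  have hmem : ∀ u : (Q : Subgroup G), (u : G)⁻¹ * (d * u * d⁻¹) ∈ (Q : Subgroup G) := fun u =>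
    mul_mem (inv_mem u.2) (conj_mem u.2 hdQ)
  have hinj : Function.Injective (fun u : (Q : Subgroup G) =>
      (⟨(u : G)⁻¹ * (d * u * d⁻¹), hmem u⟩ : (Q : Subgroup G))) := by
    intro u w h
    have h1 : (u : G)⁻¹ * (d * u * d⁻¹) = (w : G)⁻¹ * (d * w * d⁻¹) := congrArg Subtype.val h
    have h2 : ((w : G) * (u : G)⁻¹) * d = d * ((w : G) * (u : G)⁻¹) := by
      calc ((w : G) * (u : G)⁻¹) * d = w * ((u : G)⁻¹ * (d * u * d⁻¹)) * (d * (u : G)⁻¹) := by group
        _ = w * ((w : G)⁻¹ * (d * w * d⁻¹)) * (d * (u : G)⁻¹) := by rw [h1]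
        _ = d * ((w : G) * (u : G)⁻¹) := by group
    have h3 := Γ.fpf hd (mul_mem w.2 (inv_mem u.2)) h2
    apply Subtype.ext
    exact (mul_inv_eq_one.mp h3).symm
  obtain ⟨u, hu⟩ := (Finite.injective_iff_surjective.mp hinj) ⟨v⁻¹, inv_mem hv⟩
  have hu' : (u : G)⁻¹ * (d * u * d⁻¹) = v⁻¹ := congrArg Subtype.val hu
  refine ⟨u, u.2, ?_⟩
  rw [mem_NN_smul]
  have : (u : G)⁻¹ * d * u = c := by
    calc (u : G)⁻¹ * d * u = (u : G)⁻¹ * (d * u * d⁻¹) * d := by group
      _ = v⁻¹ * d := by rw [hu']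
      _ = c := by rw [hvc]; group
  rw [this]
  exact (Subgroup.mem_inf.mp hc).2

theorem Geo.smul_unique {Q R : Sylow p G} (hQR : Q ≠ R) {d : G} (hdQ : d ∈ NN Q)
    (hd : d ∉ (Q : Subgroup G)) {u w : G} (hu : u ∈ (Q : Subgroup G)) (hw : w ∈ (Q : Subgroup G))
    (h1 : d ∈ NN (u • R)) (h2 : d ∈ NN (w • R)) : u = w := by
  rw [mem_NN_smul] at h1 h2
  have hu' : u ∈ NN Q := Subgroup.le_normalizer hu
  have hw' : w ∈ NN Q := Subgroup.le_normalizer hw
  -- u⁻¹ d u and w⁻¹ d w are congruent modulo Q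
  have h3 : (u⁻¹ * d * u) * (w⁻¹ * d * w)⁻¹ ∈ (Q : Subgroup G) := by
    have h4 : (u⁻¹ * d * u) * (w⁻¹ * d * w)⁻¹ = u⁻¹ * (d * (u * w⁻¹) * d⁻¹) * w := by group
    rw [h4]
    exact mul_mem (mul_mem (inv_mem hu) (conj_mem (mul_mem hu (inv_mem hw)) hdQ)) hw
  have h5 : (u⁻¹ * d * u) * (w⁻¹ * d * w)⁻¹ = 1 :=
    Γ.inter_eq hQR h3 (mul_mem h1 (inv_mem h2))
  have h6 : u⁻¹ * d * u = w⁻¹ * d * w := mul_inv_eq_one.mp h5
  have h7 : (w * u⁻¹) * d = d * (w * u⁻¹) := by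
    calc (w * u⁻¹) * d = w * (u⁻¹ * d * u) * u⁻¹ := by group
      _ = w * (w⁻¹ * d * w) * u⁻¹ := by rw [h6]
      _ = d * (w * u⁻¹) := by group
  have h8 := Γ.fpf hd (mul_mem hw (inv_mem hu)) h7
  exact (mul_inv_eq_one.mp h8).symm

/-- The number of fixed points. -/
theorem Geo.fix_card {Q : Sylow p G} {d : G} (hdQ : d ∈ NN Q) (hd : d ∉ (Q : Subgroup G)) :
    Nat.card {R : Sylow p G // d ∈ NN R} = n + 1 := by
  classical
  haveI : Fintype (Sylow p G) := Fintype.ofFinite _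
  haveI : Fintype (Q : Subgroup G) := Fintype.ofFinite _
  have hne : ∀ u ∈ (Q : Subgroup G), ∀ R : Sylow p G, R ≠ Q → u • R ≠ Q := by
    intro u hu R hR h
    apply hR
    have h2 : u⁻¹ • Q = Q := smul_eq_self (inv_mem (Subgroup.le_normalizer hu))
    rw [← h2, ← h, inv_smul_smul]
  let S : Finset (Sylow p G) := Finset.univ.filter (fun R => R ≠ Q)
  have hS : S.card = n * p := by
    have h1 : S = Finset.univ.erase Q := by
      ext R; simp [S]
    rw [h1, Finset.card_erase_of_mem (Finset.mem_univ _), Finset.card_univ,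
      ← Nat.card_eq_fintype_card, Γ.cardS]
    omega
  let T : Finset (Sylow p G) := Finset.univ.filter (fun R => R ≠ Q ∧ d ∈ NN R)
  -- count pairs
  have h1 : ∀ R ∈ S, (Finset.univ.filter (fun u : (Q : Subgroup G) => d ∈ NN ((u : G) • R))).card = 1 := by
    intro R hR
    have hR' : R ≠ Q := (Finset.mem_filter.mp hR).2
    obtain ⟨u, hu, hu'⟩ := Γ.exists_smul hR'.symm hdQ hd
    rw [Finset.card_eq_one]
    refine ⟨(⟨u, hu⟩ : (Q : Subgroup G)), ?_⟩
    ext w
    rw [Finset.mem_filter, Finset.mem_singleton]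
    constructor
    · rintro ⟨-, hw⟩
      exact Subtype.ext (Γ.smul_unique hR'.symm hdQ hd w.2 hu hw hu')
    · rintro rfl
      exact ⟨Finset.mem_univ _, hu'⟩
  have h2 : ∀ u : (Q : Subgroup G), (S.filter (fun R => d ∈ NN ((u : G) • R))).card = T.card := by
    intro u
    apply Finset.card_bij (fun R _ => (u : G) • R)
    · intro R hR
      rw [Finset.mem_filter] at hR ⊢
      exact ⟨Finset.mem_univ _, hne u u.2 R (Finset.mem_filter.mp hR.1).2, hR.2⟩
    · intro R _ R' _ h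
      exact smul_left_cancel _ h
    · intro R hR
      rw [Finset.mem_filter] at hR
      refine ⟨(u : G)⁻¹ • R, ?_, by rw [smul_inv_smul]⟩
      rw [Finset.mem_filter, Finset.mem_filter, smul_inv_smul]
      exact ⟨⟨Finset.mem_univ _, hne _ (inv_mem u.2) R hR.2.1⟩, hR.2.2⟩
  have h3 : ∑ u : (Q : Subgroup G), (S.filter (fun R => d ∈ NN ((u : G) • R))).card =
      ∑ R ∈ S, (Finset.univ.filter (fun u : (Q : Subgroup G) => d ∈ NN ((u : G) • R))).card := by
    simp only [Finset.card_filter]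
    exact Finset.sum_comm
  rw [Finset.sum_congr rfl (fun u _ => h2 u), Finset.sum_congr rfl (fun R hR => h1 R hR)] at h3
  rw [Finset.sum_const, Finset.sum_const, Finset.card_univ, ← Nat.card_eq_fintype_card, hS] at h3
  have h4 : Nat.card (Q : Subgroup G) = p := Γ.cardP Q
  rw [h4, smul_eq_mul, smul_eq_mul, mul_one, mul_comm n] at h3
  have hT : T.card = n := Nat.eq_of_mul_eq_mul_left hp.out.pos h3
  rw [Nat.card_eq_fintype_card, Fintype.card_subtype]
  have h5 : (Finset.univ.filter (fun R : Sylow p G => d ∈ NN R)) = insert Q T := by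
    ext R
    simp only [T, Finset.mem_filter, Finset.mem_univ, true_and, Finset.mem_insert]
    constructor
    · intro h
      by_cases hRQ : R = Q
      · left; exact hRQ
      · right; exact ⟨hRQ, h⟩
    · rintro (rfl | h)
      · exact hdQ
      · exact h.2
  rw [h5, Finset.card_insert_of_notMem, hT]
  intro h
  exact (Finset.mem_filter.mp h).2.1 rfl

/-- The normalizer of the intersection of two normalizers. -/
theorem Geo.card_normalizer {Q R₀ : Sylow p G} (hQR : Q ≠ R₀) :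
    Nat.card (Subgroup.normalizer ((NN Q ⊓ NN R₀ : Subgroup G) : Set G)) = (n + 1) * e := by
  classical
  set E : Subgroup G := NN Q ⊓ NN R₀ with hE
  have hEe : Nat.card E = e := Γ.cardK Q R₀ hQR
  obtain ⟨d, hdE, hd1⟩ : ∃ d ∈ E, d ≠ 1 := by
    have : Nontrivial E := by
      rw [← Finite.one_lt_card_iff_nontrivial, hEe]
      have := Γ.two_le; omega
    obtain ⟨x, hx⟩ := exists_ne (1 : E)
    exact ⟨x, x.2, fun h => hx (Subtype.ext h)⟩
  have hdQ : d ∈ NN Q := (Subgroup.mem_inf.mp hdE).1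
  have hdR : d ∈ NN R₀ := (Subgroup.mem_inf.mp hdE).2
  have hEC : E = Subgroup.centralizer {d} ⊓ NN Q := Γ.K_eq hQR hdQ hdR hd1
  -- if d normalizes R then E = K Q R
  have hfix : ∀ R : Sylow p G, R ≠ Q → d ∈ NN R → (NN Q ⊓ NN R : Subgroup G) = E := by
    intro R hR hdR'
    rw [hEC, Γ.K_eq hR.symm hdQ hdR' hd1]
  let M := Subgroup.normalizer (E : Set G)
  -- orbit of Q
  have horb : ∀ R : Sylow p G, R ∈ MulAction.orbit M Q ↔ d ∈ NN R := by
    intro R
    constructor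
    · rintro ⟨m, rfl⟩
      show d ∈ NN ((m : G) • Q)
      rw [mem_NN_smul]
      have h1 : (m : G)⁻¹ * d * m ∈ E := by
        have := (Subgroup.mem_normalizer_iff''.mp m.2 d).mp hdE
        exact this
      exact (Subgroup.mem_inf.mp h1).1
    · intro hdR'
      by_cases hRQ : R = Q
      · rw [hRQ]; exact MulAction.mem_orbit_self Q
      obtain ⟨g, rfl⟩ := MulAction.exists_smul_eq G Q R
      have hERQ : (NN (g • Q) ⊓ NN Q : Subgroup G) = E := by rw [inf_comm]; exact hfix _ hRQ hdR'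
      have hd' : g * d * g⁻¹ ∈ NN (g • Q) := by
        rw [mem_NN_smul]
        have : g⁻¹ * (g * d * g⁻¹) * g = d := by group
        rw [this]; exact hdQ
      have hd'' : g * d * g⁻¹ ∉ ((g • Q : Sylow p G) : Subgroup G) := by
        rw [mem_smul]
        have : g⁻¹ * (g * d * g⁻¹) * g = d := by group
        rw [this]
        intro h
        exact hd1 (Γ.inter_eq hQR h hdR)
      obtain ⟨u, hu, hu'⟩ := Γ.exists_smul hRQ hd' hd''
      rw [mem_NN_smul] at hu'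
      have huN : u ∈ NN (g • Q) := Subgroup.le_normalizer hu
      -- h = u⁻¹ g
      have hQ' : (u⁻¹ * g) • Q = g • Q := by
        rw [mul_smul]
        exact smul_eq_self (inv_mem huN)
      have h2 : (u⁻¹ * g) * d * (u⁻¹ * g)⁻¹ ∈ NN Q := by
        have : (u⁻¹ * g) * d * (u⁻¹ * g)⁻¹ = u⁻¹ * (g * d * g⁻¹) * u := by group
        rw [this]; exact hu'
      have h3 : (u⁻¹ * g) * d * (u⁻¹ * g)⁻¹ ∈ NN (g • Q) := by
        have : (u⁻¹ * g) * d * (u⁻¹ * g)⁻¹ = u⁻¹ * (g * d * g⁻¹) * u := by group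
        rw [this]; exact mul_mem (mul_mem (inv_mem huN) hd') huN
      have h4 : (u⁻¹ * g) * d * (u⁻¹ * g)⁻¹ ≠ 1 := by
        intro h
        apply hd1
        have : d = (u⁻¹ * g)⁻¹ * ((u⁻¹ * g) * d * (u⁻¹ * g)⁻¹) * (u⁻¹ * g) := by group
        rw [this, h]; group
      have h5 := Γ.K_eq hRQ h3 h2 h4
      rw [hERQ] at h5
      have hM : (u⁻¹ * g) ∈ M := by
        rw [Subgroup.mem_normalizer_iff]
        intro y
        constructor
        · intro hy
          rw [h5]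
          rw [hEC] at hy
          obtain ⟨ha, hb⟩ := Subgroup.mem_inf.mp hy
          refine Subgroup.mem_inf.mpr ⟨?_, ?_⟩
          · rw [Subgroup.mem_centralizer_singleton_iff] at ha ⊢
            calc (u⁻¹ * g) * y * (u⁻¹ * g)⁻¹ * ((u⁻¹ * g) * d * (u⁻¹ * g)⁻¹) =
                (u⁻¹ * g) * (y * d) * (u⁻¹ * g)⁻¹ := by group
              _ = (u⁻¹ * g) * (d * y) * (u⁻¹ * g)⁻¹ := by rw [ha]
              _ = _ := by group
          · rw [← hQ', mem_NN_smul]
            have : (u⁻¹ * g)⁻¹ * ((u⁻¹ * g) * y * (u⁻¹ * g)⁻¹) * (u⁻¹ * g) = y := by group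
            rw [this]; exact hb
        · intro hy
          rw [h5] at hy
          rw [hEC]
          obtain ⟨ha, hb⟩ := Subgroup.mem_inf.mp hy
          refine Subgroup.mem_inf.mpr ⟨?_, ?_⟩
          · rw [Subgroup.mem_centralizer_singleton_iff] at ha ⊢
            calc y * d = (u⁻¹ * g)⁻¹ * ((u⁻¹ * g) * y * (u⁻¹ * g)⁻¹ * ((u⁻¹ * g) * d * (u⁻¹ * g)⁻¹)) * (u⁻¹ * g) := by group
              _ = (u⁻¹ * g)⁻¹ * ((u⁻¹ * g) * d * (u⁻¹ * g)⁻¹ * ((u⁻¹ * g) * y * (u⁻¹ * g)⁻¹)) * (u⁻¹ * g) := by rw [ha]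
              _ = d * y := by group
          · rw [← hQ', mem_NN_smul] at hb
            have : (u⁻¹ * g)⁻¹ * ((u⁻¹ * g) * y * (u⁻¹ * g)⁻¹) * (u⁻¹ * g) = y := by group
            rwa [this] at hb
      exact ⟨⟨u⁻¹ * g, hM⟩, hQ'⟩
  have hstab : Nat.card (MulAction.stabilizer M Q) = e := by
    rw [← hEe]
    have hin : ∀ y : M, y ∈ MulAction.stabilizer M Q ↔ (y : G) ∈ E := by
      intro y
      rw [MulAction.mem_stabilizer_iff]
      have : y • Q = (y : G) • Q := rfl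
      rw [this, smul_eq_iff]
      constructor
      · intro hy
        rw [hEC]
        refine Subgroup.mem_inf.mpr ⟨?_, hy⟩
        rw [Subgroup.mem_centralizer_singleton_iff]
        have h1 := Γ.comm' hy hdQ
        have h2 : (y : G) * d * (y : G)⁻¹ ∈ E := (Subgroup.mem_normalizer_iff.mp y.2 d).mp hdE
        have h3 : (y : G) * d * (y : G)⁻¹ * d⁻¹ ∈ NN R₀ :=
          (Subgroup.mem_inf.mp (mul_mem h2 (inv_mem hdE))).2
        have h5 := Γ.inter_eq hQR h1 h3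
        calc (y : G) * d = ((y : G) * d * (y : G)⁻¹ * d⁻¹) * d * y := by group
          _ = d * y := by rw [h5, one_mul]
      · intro hy
        exact (Subgroup.mem_inf.mp hy).1
    refine Nat.card_congr ⟨fun y => ⟨y.1.1, (hin y.1).mp y.2⟩,
      fun y => ⟨⟨y, Subgroup.le_normalizer y.2⟩, (hin ⟨y, Subgroup.le_normalizer y.2⟩).mpr y.2⟩,
      fun y => rfl, fun y => rfl⟩
  haveI : Fintype M := Fintype.ofFinite _
  haveI : Fintype (MulAction.orbit M Q) := Fintype.ofFinite _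
  haveI : Fintype (MulAction.stabilizer M Q) := Fintype.ofFinite _
  have h1 := MulAction.card_orbit_mul_card_stabilizer_eq_card_group M Q
  rw [← Nat.card_eq_fintype_card, ← Nat.card_eq_fintype_card, ← Nat.card_eq_fintype_card, hstab] at h1
  have hdq : d ∉ (Q : Subgroup G) := fun h => hd1 (Γ.inter_eq hQR h hdR)
  have h2 : Nat.card (MulAction.orbit M Q) = n + 1 := by
    rw [← Γ.fix_card hdQ hdq]
    exact Nat.card_congr (Equiv.subtypeEquivRight horb)
  rw [← h1, h2]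

end Cfsg.Agent.H4.BRgeo
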