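import Mathlib
import Cfsg.Agent.H4_BRgeo

/-! Averages of the exceptional characters. -/

set_option autoImplicit false

namespace Cfsg.Agent.H4.BRavg

open Cfsg Cfsg.Agent.H3.CharIrr Cfsg.Agent.H3.CharComplete Cfsg.Agent.H3.CharInd
  Cfsg.Agent.H3.CharMult Cfsg.Agent.H3.CharInt Cfsg.Agent.H4.BRgr Cfsg.Agent.H4.BRar
  Cfsg.Agent.H4.BRdata Cfsg.Agent.H4.BRdeg Cfsg.Agent.H4.BRv Cfsg.Agent.H4.BRcase Cfsg.Agent.H4.BRind
  Cfsg.Agent.H4.BRfr Cfsg.Agent.H4.BRgeo
open Cfsg.Agent.H10.BlockKer (triv triv_coe ker_mul)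
open scoped ComplexConjugate

universe u

variable {G : Type u} [Group G] [Fintype G] {p : ℕ} [hp : Fact p.Prime] {P : Sylow p G} {e t n : ℕ}
  {X Y S : Finset (IrrCharacter G)} {δ : IrrCharacter G → ℤ} {ε : ℤ}

/-- A class function vanishing on `p`-regular elements is induced. -/
theorem ind_res (hP : Nat.card P = p)
    (hC : Subgroup.centralizer ((P : Subgroup G) : Set G) = (P : Subgroup G))
    {f : G → ℂ} (hf : IsClassFunction G f) (h0 : ∀ g, ¬ p ∣ orderOf g → f g = 0) :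
    indFun (NN P) (fun y : NN P => f y) = f := by
  classical
  funext g
  by_cases hg : p ∣ orderOf g
  · obtain ⟨h, h1, h2⟩ := exists_conj_mem hP hC hg
    rw [← hf g h, ← ind_isClass (NN P) (fun y : NN P => f y) g h]
    have h3 := Cfsg.Agent.H3.CharTI.ind_eq_of_TI' (NN P) ((P : Subgroup G) : Set G)
      (fun g hg t ht htt => by
        by_contra ht1
        exact hg (mem_normalizer_of hP ht ht1 htt))
      (fun y : NN P => f y) (IsClass.res hf (NN P))
      (fun x hx => h0 _ (fun hd => hx (mem_P_of_dvd hP hC x.2 hd)))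
      ⟨h * g * h⁻¹, Subgroup.le_normalizer h1⟩ h1 (fun h4 => h2 (congrArg Subtype.val h4))
    exact h3
  · rw [h0 g hg, indFun]
    have h1 : ∀ x : G, extendByZero (NN P) (fun y : NN P => f y) (x⁻¹ * g * x) = 0 := by
      intro x
      by_cases hx : x⁻¹ * g * x ∈ NN P
      · rw [ext_mem _ _ hx]
        apply h0
        have := orderOf_injective (MulAut.conj (x⁻¹)).toMonoidHom (MulAut.conj (x⁻¹)).injective g
        have h2 : orderOf (x⁻¹ * g * x) = orderOf g := by simpa using this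
        show ¬ p ∣ orderOf (x⁻¹ * g * x)
        rw [h2]; exact hg
      · exact ext_not_mem _ _ hx
    rw [Finset.sum_congr rfl (fun x _ => h1 x), Finset.sum_const_zero, mul_zero]

theorem sum_eq (D : BD P e t X Y δ ε) (hP : Nat.card P = p)
    (hC : Subgroup.centralizer ((P : Subgroup G) : Set G) = (P : Subgroup G))
    (he : (Subgroup.centralizer ((P : Subgroup G) : Set G)).relIndex
      (Subgroup.normalizer ((P : Subgroup G) : Set G)) = e) (he2 : 2 ≤ e)
    [Fintype (P : Subgroup G)] {θ θ' : IrrCharacter G} (hθ : θ ∈ Y) (hθ' : θ' ∈ Y) :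
    ∑ x : (P : Subgroup G), (θ : G → ℂ) x = ∑ x : (P : Subgroup G), (θ' : G → ℂ) x := by
  classical
  by_cases hne : θ = θ'
  · rw [hne]
  haveI : Fintype (NN P) := Fintype.ofFinite _
  let f : G → ℂ := (θ : G → ℂ) - (θ' : G → ℂ)
  have hfg : IsGeneralizedCharacter G f := IsGen.sub (IsGen.of_irr θ.2) (IsGen.of_irr θ'.2)
  have hfc : IsClassFunction G f := IsGen.isClass hfg
  have hf0 : ∀ g, ¬ p ∣ orderOf g → f g = 0 := fun g hg => by
    show (θ : G → ℂ) g - (θ' : G → ℂ) g = 0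
    rw [D.aY θ hθ θ' hθ' g hg, sub_self]
  have hff : classInner f f = 2 := by
    have h1 : classInner (θ : G → ℂ) (θ' : G → ℂ) = 0 :=
      ci_irr_ne θ.2 θ'.2 (fun h => hne (Subtype.ext h))
    have h2 : classInner (θ' : G → ℂ) (θ : G → ℂ) = 0 :=
      ci_irr_ne θ'.2 θ.2 (fun h => hne (Subtype.ext h.symm))
    show classInner ((θ : G → ℂ) - (θ' : G → ℂ)) ((θ : G → ℂ) - (θ' : G → ℂ)) = 2
    rw [ci_sub_left, ci_sub_right, ci_sub_right, ci_irr_self θ.2, ci_irr_self θ'.2, h1, h2]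
    norm_num
  have hind := ind_res hP hC hfc hf0
  have hN2 : classInner (fun y : NN P => f y) (fun y : NN P => f y) = 2 := by
    rw [← hff, ← frobenius (NN P) (fun y : NN P => f y) f hfc, hind]
  have hcN := card_NN hP hC he
  have hNc : (Nat.card (NN P) : ℂ) ≠ 0 := by exact_mod_cast Nat.card_pos.ne'
  -- sums over N reduce to P
  have hred : ∀ F : G → ℂ, (∀ y ∈ NN P, y ∉ (P : Subgroup G) → F y = 0) →
      ∑ y : NN P, F y = ∑ x : (P : Subgroup G), F x := by
    intro F hF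
    have h1 : ∑ y : NN P, F y = ∑ y ∈ Finset.univ.filter (fun y : NN P => (y : G) ∈ (P : Subgroup G)), F y := by
      rw [Finset.sum_filter]
      refine Finset.sum_congr rfl fun y _ => ?_
      split_ifs with h
      · rfl
      · exact hF y y.2 h
    rw [h1]
    symm
    apply Finset.sum_bij (fun (x : (P : Subgroup G)) _ => (⟨x, Subgroup.le_normalizer x.2⟩ : NN P))
    · intro x _
      rw [Finset.mem_filter]; exact ⟨Finset.mem_univ _, x.2⟩
    · intro x _ y _ h
      exact Subtype.ext (congrArg (fun z : NN P => (z : G)) h)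
    · intro y hy
      rw [Finset.mem_filter] at hy
      exact ⟨⟨y, hy.2⟩, Finset.mem_univ _, rfl⟩
    · intro x _; rfl
  have hfP : ∀ y ∈ NN P, y ∉ (P : Subgroup G) → f y = 0 := fun y hy hyP =>
    hf0 y (fun hd => hyP (mem_P_of_dvd hP hC hy hd))
  -- the integer
  obtain ⟨k, hk⟩ : ∃ k : ℤ, classInner (fun y : NN P => f y) (fun _ : NN P => (1 : ℂ)) = k :=
    ci_gen_int (IsGen.comp hfg (NN P).subtype) (IsGen.of_irr isIrr_one)
  have hs : ∑ x : (P : Subgroup G), f x = (Nat.card (NN P) : ℂ) * k := by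
    rw [← hred f hfP, ← hk, classInner]
    simp only [map_one, mul_one]
    rw [← mul_assoc, mul_inv_cancel₀ hNc, one_mul]
  have hq : ∑ x : (P : Subgroup G), f x * conj (f x) = (Nat.card (NN P) : ℂ) * 2 := by
    rw [← hred (fun y => f y * conj (f y)) (fun y hy hyP => by
      show f y * conj (f y) = 0
      rw [hfP y hy hyP, zero_mul]), ← hN2, classInner]
    rw [← mul_assoc, mul_inv_cancel₀ hNc, one_mul]
  -- real version
  have hqr : ∑ x : (P : Subgroup G), ‖f x‖ ^ 2 = (Nat.card (NN P) : ℝ) * 2 := by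
    have h1 : ((∑ x : (P : Subgroup G), ‖f x‖ ^ 2 : ℝ) : ℂ) = ((Nat.card (NN P) : ℝ) * 2 : ℝ) := by
      push_cast
      rw [← hq]
      refine Finset.sum_congr rfl fun x _ => ?_
      rw [Complex.mul_conj, Complex.normSq_eq_norm_sq]
      push_cast; rfl
    exact_mod_cast h1
  have hf1 : f 1 = 0 := hf0 1 not_dvd_one
  have hcs : ‖∑ x : (P : Subgroup G), f x‖ ^ 2 ≤ ((p : ℝ) - 1) * ((Nat.card (NN P) : ℝ) * 2) := by
    rw [← hqr]
    have hf1' : f ((1 : (P : Subgroup G)) : G) = 0 := hf1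
    have e1 : ∑ x : (P : Subgroup G), f x = ∑ x ∈ Finset.univ.erase (1 : (P : Subgroup G)), f (x : G) :=
      (Finset.sum_erase (f := fun x : (P : Subgroup G) => f (x : G)) Finset.univ hf1').symm
    have e2 : ∑ x : (P : Subgroup G), ‖f x‖ ^ 2 =
        ∑ x ∈ Finset.univ.erase (1 : (P : Subgroup G)), ‖f (x : G)‖ ^ 2 :=
      (Finset.sum_erase (f := fun x : (P : Subgroup G) => ‖f (x : G)‖ ^ 2) Finset.univ
        (by rw [hf1']; simp)).symm
    rw [e1, e2]
    have h1 := norm_sum_le (Finset.univ.erase (1 : (P : Subgroup G))) (fun x => f (x : G))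
    have h2 := sq_sum_le_card_mul_sum_sq (s := Finset.univ.erase (1 : (P : Subgroup G))) (f := fun x => ‖f (x : G)‖)
    have h3 : ((Finset.univ.erase (1 : (P : Subgroup G))).card : ℝ) = (p : ℝ) - 1 := by
      rw [Finset.card_erase_of_mem (Finset.mem_univ _), Finset.card_univ, ← Nat.card_eq_fintype_card,
        show Nat.card (P : Subgroup G) = p from hP, Nat.cast_sub hp.out.one_lt.le]; simp
    rw [h3] at h2
    refine le_trans ?_ h2
    have h4 : 0 ≤ ‖∑ x ∈ Finset.univ.erase (1 : (P : Subgroup G)), f (x : G)‖ := norm_nonneg _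
    nlinarith
  have hk0 : k = 0 := by
    rw [hs] at hcs
    have h1 : ‖(Nat.card (NN P) : ℂ) * k‖ ^ 2 = (Nat.card (NN P) : ℝ) ^ 2 * (k : ℝ) ^ 2 := by
      rw [norm_mul, mul_pow, Complex.norm_natCast]
      congr 1
      rw [← Complex.ofReal_intCast, Complex.norm_real, Real.norm_eq_abs, sq_abs]
    rw [h1] at hcs
    have hNpos : (0 : ℝ) < Nat.card (NN P) := by exact_mod_cast Nat.card_pos
    have h2 : (Nat.card (NN P) : ℝ) * (k : ℝ) ^ 2 ≤ ((p : ℝ) - 1) * 2 := by
      have : (Nat.card (NN P) : ℝ) * ((Nat.card (NN P) : ℝ) * (k : ℝ) ^ 2) ≤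
          (Nat.card (NN P) : ℝ) * (((p : ℝ) - 1) * 2) := by linarith
      exact le_of_mul_le_mul_left this hNpos
    rw [hcN] at h2
    push_cast at h2
    have hp1 : (1 : ℝ) < p := by exact_mod_cast hp.out.one_lt
    have he2' : (2 : ℝ) ≤ e := by exact_mod_cast he2
    by_contra hk1
    have h3 : (1 : ℝ) ≤ (k : ℝ) ^ 2 := by
      have : 1 ≤ k ^ 2 := by
        have : 0 < k ^ 2 := by positivity
        linarith
      exact_mod_cast this
    have h4 : (p : ℝ) * 2 ≤ p * e := by nlinarith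
    have h5 : (p : ℝ) * e * 1 ≤ p * e * (k : ℝ) ^ 2 := mul_le_mul_of_nonneg_left h3 (by positivity)
    linarith
  rw [hk0] at hs
  have h5 : ∑ x : (P : Subgroup G), f x = ∑ x : (P : Subgroup G), (θ : G → ℂ) x -
      ∑ x : (P : Subgroup G), (θ' : G → ℂ) x := by
    rw [← Finset.sum_sub_distrib]; rfl
  rw [h5] at hs
  push_cast at hs
  rw [mul_zero] at hs
  exact sub_eq_zero.mp hs

/-- The sum over `P` of an exceptional character. -/
theorem sum_exc (D : BD P e t X Y δ ε) (hP : Nat.card P = p)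
    (hC : Subgroup.centralizer ((P : Subgroup G) : Set G) = (P : Subgroup G))
    (he : (Subgroup.centralizer ((P : Subgroup G) : Set G)).relIndex
      (Subgroup.normalizer ((P : Subgroup G) : Set G)) = e) (he2 : 2 ≤ e)
    [Fintype (P : Subgroup G)] {θ : IrrCharacter G} (hθ : θ ∈ Y) :
    ∑ x : (P : Subgroup G), (θ : G → ℂ) x =
      (charDegree (θ : G → ℂ) : ℂ) - ((p : ℂ) - 1) * ε / t := by
  classical
  have h1 : ∑ θ' ∈ Y, ∑ x : (P : Subgroup G), (θ' : G → ℂ) x =
      (t : ℂ) * ∑ x : (P : Subgroup G), (θ : G → ℂ) x := by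
    rw [Finset.sum_congr rfl (fun θ' hθ' => sum_eq D hP hC he he2 hθ' hθ), Finset.sum_const, D.cY,
      nsmul_eq_mul]
  rw [Finset.sum_comm] at h1
  have h2 := sum_P hP (f := fun x => ∑ θ' ∈ Y, (θ' : G → ℂ) x) (c := -(ε : ℂ)) (fun x hx hx1 => by
    have := D.sumY hθ hP hx hx1 (Subgroup.one_mem _) not_dvd_one
    rwa [mul_one] at this)
  rw [h2] at h1
  have h3 : ∑ θ' ∈ Y, (θ' : G → ℂ) 1 = (t : ℂ) * (charDegree (θ : G → ℂ) : ℂ) := by
    rw [Finset.sum_congr rfl (g := fun _ => (charDegree (θ : G → ℂ) : ℂ)), Finset.sum_const, D.cY, nsmul_eq_mul]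
    intro θ' hθ'
    rw [deg_eq, D.degY hθ' hθ]
  have ht : (t : ℂ) ≠ 0 := by
    have : t ≠ 0 := by
      rw [← D.cY]; exact (Finset.card_pos.mpr ⟨θ, hθ⟩).ne'
    exact_mod_cast this
  rw [h3] at h1
  field_simp
  linear_combination -h1

end Cfsg.Agent.H4.BRavg
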