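import Mathlib
import Cfsg.Agent.H4_BRavg

/-! The geometry in the remaining cases. -/

set_option autoImplicit false

namespace Cfsg.Agent.H4.BRfin

open Cfsg Cfsg.Agent.H3.CharIrr Cfsg.Agent.H3.CharComplete Cfsg.Agent.H3.CharInd
  Cfsg.Agent.H3.CharMult Cfsg.Agent.H3.CharInt Cfsg.Agent.H4.BRgr Cfsg.Agent.H4.BRar
  Cfsg.Agent.H4.BRdata Cfsg.Agent.H4.BRdeg Cfsg.Agent.H4.BRv Cfsg.Agent.H4.BRcase Cfsg.Agent.H4.BRind
  Cfsg.Agent.H4.BRfr Cfsg.Agent.H4.BRgeo Cfsg.Agent.H4.BRavg
open Cfsg.Agent.H10.BlockKer (triv triv_coe ker_mul)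
open scoped ComplexConjugate

universe u

variable {G : Type u} [Group G] [Fintype G] {p : ℕ} [hp : Fact p.Prime] {P : Sylow p G} {e t n : ℕ}
  {X Y S : Finset (IrrCharacter G)} {δ : IrrCharacter G → ℤ} {ε : ℤ}

/-- averages when the whole block is signed -/
theorem avg_signed (hP : Nat.card P = p)
    (hC : Subgroup.centralizer ((P : Subgroup G) : Set G) = (P : Subgroup G))
    (D : BD P e t X Y δ ε) {δ' : IrrCharacter G → ℤ} (D' : BS P (X ∪ Y) δ')
    (htri : Tri n p (X ∪ Y) δ') [DecidablePred (fun χ => χ ∈ X ∪ Y)] :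
    Avg P n (fun χ => if χ ∈ X ∪ Y then (δ' χ : ℝ) else 0) where
  av := by
    intro _ χ
    split_ifs with h
    · rw [sum_P hP (f := (χ : G → ℂ)) (c := (δ' χ : ℂ)) (fun x hx hx1 => D'.val h hx hx1), deg_eq]
      push_cast; rfl
    · rw [sum_P hP (f := (χ : G → ℂ)) (c := 0) (fun x hx hx1 => D.van hC χ h x hx hx1), deg_eq]
      simp
  pos := by
    intro χ hχ h0
    split_ifs at h0 with h
    · rw [if_pos h]
      rcases htri χ h with h1 | ⟨h1, h2⟩ | ⟨h1, h2⟩
      · exact absurd h1 hχ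
      · rw [h1, h2]; push_cast; ring
      · rw [h1] at h0; norm_num at h0
    · exact absurd h0 (lt_irrefl _)
  neg := by
    intro χ h0
    split_ifs at h0 with h
    · rw [if_pos h]
      have hs := D'.triv_sign hP
      rcases htri χ h with h1 | ⟨h1, h2⟩ | ⟨h1, h2⟩
      · rw [h1, hs] at h0; norm_num at h0
      · rw [h1] at h0; norm_num at h0
      · rw [h1]
        have : ((charDegree (χ : G → ℂ) + 1 : ℕ) : ℝ) = p := by exact_mod_cast h2
        push_cast at this ⊢; linarith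
    · exact absurd h0 (lt_irrefl _)

theorem avg_exc (hP : Nat.card P = p)
    (hC : Subgroup.centralizer ((P : Subgroup G) : Set G) = (P : Subgroup G))
    (he : (Subgroup.centralizer ((P : Subgroup G) : Set G)).relIndex
      (Subgroup.normalizer ((P : Subgroup G) : Set G)) = e) (he2 : 2 ≤ e)
    (D : BD P e t X Y δ (-1)) (D' : BS P X δ) (ht : 0 < t)
    (htri : Tri n p X δ) (hY : ∀ θ ∈ Y, t * charDegree (θ : G → ℂ) = 1 + n * p)
    [DecidablePred (fun χ => χ ∈ X)] [DecidablePred (fun χ => χ ∈ Y)] :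
    Avg P n (fun χ => if χ ∈ X then (δ χ : ℝ) else if χ ∈ Y then (1 / t : ℝ) else 0) := by
  have ht' : (0 : ℝ) < t := by exact_mod_cast ht
  have htpos : (0 : ℝ) < 1 / t := by positivity
  refine ⟨?_, ?_, ?_⟩
  · intro _ χ
    split_ifs with h h'
    · rw [sum_P hP (f := (χ : G → ℂ)) (c := (δ χ : ℂ)) (fun x hx hx1 => D'.val h hx hx1), deg_eq]
      push_cast; rfl
    · rw [sum_exc D hP hC he he2 h']
      push_cast; ring
    · rw [sum_P hP (f := (χ : G → ℂ)) (c := 0) (fun x hx hx1 => D.van hC χ (by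
        classical
        rw [Finset.mem_union]; exact fun h1 => h1.elim h h') x hx hx1), deg_eq]
      simp
  · intro χ hχ h0
    split_ifs at h0 with h h'
    · rw [if_pos h]
      rcases htri χ h with h1 | ⟨h1, h2⟩ | ⟨h1, h2⟩
      · exact absurd h1 hχ
      · rw [h1, h2]; push_cast; ring
      · rw [h1] at h0; norm_num at h0
    · rw [if_neg h, if_pos h']
      have h1 := hY χ h'
      have h2 : (t : ℝ) * (charDegree (χ : G → ℂ) : ℝ) = 1 + n * p := by exact_mod_cast h1
      rw [← h2]; field_simp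
    · exact absurd h0 (lt_irrefl _)
  · intro χ h0
    split_ifs at h0 with h h'
    · rw [if_pos h]
      have hs := D'.triv_sign hP
      rcases htri χ h with h1 | ⟨h1, h2⟩ | ⟨h1, h2⟩
      · rw [h1, hs] at h0; norm_num at h0
      · rw [h1] at h0; norm_num at h0
      · rw [h1]
        have : ((charDegree (χ : G → ℂ) + 1 : ℕ) : ℝ) = p := by exact_mod_cast h2
        push_cast at this ⊢; linarith
    · exact absurd h0 (not_lt.mpr htpos.le)
    · exact absurd h0 (lt_irrefl _)

theorem dvd_pred (Γ : Geo G p e n) (hn1 : n + 1 < p) (hn0 : 0 < n) : n + 1 ∣ p - 1 := by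
  have hcard : Nat.card (Sylow p G) = 1 + n * p := Γ.cardS
  obtain ⟨Q⟩ : Nonempty (Sylow p G) := inferInstance
  obtain ⟨R, hR⟩ : ∃ R : Sylow p G, Q ≠ R := by
    by_contra hcon
    push Not at hcon
    haveI : Subsingleton (Sylow p G) := ⟨fun a b => (hcon a).symm.trans (hcon b)⟩
    have h1 : Nat.card (Sylow p G) ≤ 1 := Finite.card_le_one_iff_subsingleton.mpr inferInstance
    have h2 : 0 < n * p := Nat.mul_pos hn0 hp.out.pos
    omega
  have h1 := Γ.card_normalizer hR
  have h2 : Nat.card (Subgroup.normalizer ((NN Q ⊓ NN R : Subgroup G) : Set G)) ∣ Nat.card G :=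
    Subgroup.card_subgroup_dvd_card _
  have h3 : Nat.card G = Nat.card (Sylow p G) * Nat.card (NN Q) := by
    rw [Q.card_eq_index_normalizer, mul_comm]
    exact (Subgroup.card_mul_index (NN Q)).symm
  rw [h3, h1, Γ.cardN, hcard] at h2
  have he0 : 0 < e := by have := Γ.two_le; omega
  have h4 : (n + 1) ∣ (1 + n * p) * p := by
    rw [show (1 + n * p) * (p * e) = ((1 + n * p) * p) * e by ring] at h2
    exact Nat.dvd_of_mul_dvd_mul_right he0 h2
  have hcop : (n + 1).Coprime p := by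
    rw [Nat.coprime_comm]
    exact (Nat.Prime.coprime_iff_not_dvd hp.out).mpr (fun h => absurd (Nat.le_of_dvd (by omega) h) (by omega))
  have h5 : (n + 1) ∣ 1 + n * p := hcop.dvd_of_dvd_mul_right h4
  have h6 : (p - 1) + (1 + n * p) = (n + 1) * p := by
    have := hp.out.one_lt
    have h7 : (n + 1) * p = n * p + p := by ring
    rw [h7]; omega
  have h8 : (n + 1) ∣ (p - 1) + (1 + n * p) := by rw [h6]; exact Dvd.intro _ rfl
  exact (Nat.dvd_add_left h5).mp h8

/-- The case `t = 1` is impossible. -/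
theorem no_case1 (D : BD P e 1 X Y δ ε) (hP : Nat.card P = p) (hodd : p ≠ 2)
    (hperf : commutator G = ⊤)
    (hcore : ∀ K : Subgroup G, K.Normal → ¬ p ∣ Nat.card K → K = ⊥)
    (he : (Subgroup.centralizer ((P : Subgroup G) : Set G)).relIndex
      (Subgroup.normalizer ((P : Subgroup G) : Set G)) = e)
    (hn : Nat.card (Sylow p G) = 1 + n * p) (hn0 : 0 < n) (he2 : 2 ≤ e)
    (hpt : p = 1 * e + 1) : Alt n p := by
  classical
  by_contra hA
  obtain ⟨hC, δ', D', htri, a, ha⟩ := case1 D hP hodd hperf hcore he hn hn0 hA (by omega) hpt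
  have H := avg_signed hP hC D D' htri
  have Γ : Geo G p e n := mk_geo hP hC he he2 hn (fun x hx => card_DD hP hC he H hn hx)
  have ha0 : 0 < a := by
    rcases Nat.eq_zero_or_pos a with h | h
    · rw [h] at ha; omega
    · exact h
  have hle : n + 1 ≤ a * (n + 1) := Nat.le_mul_of_pos_left _ ha0
  have h1 := dvd_pred Γ (by omega) hn0
  have h2 : p - 1 = a * (n + 1) + 1 := by omega
  rw [h2] at h1
  have h3 : n + 1 ∣ 1 := (Nat.dvd_add_right (Dvd.intro_left _ rfl)).mp h1
  have := Nat.le_of_dvd one_pos h3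
  omega

/-- The case of sign `-1`. -/
theorem case_minus (D : BD P e t X Y δ (-1)) (hP : Nat.card P = p)
    (hC : Subgroup.centralizer ((P : Subgroup G) : Set G) = (P : Subgroup G))
    (he : (Subgroup.centralizer ((P : Subgroup G) : Set G)).relIndex
      (Subgroup.normalizer ((P : Subgroup G) : Set G)) = e)
    (hn : Nat.card (Sylow p G) = 1 + n * p) (hn0 : 0 < n) (he2 : 2 ≤ e) (ht : 2 ≤ t)
    (hpt : p = t * e + 1) (D' : BS P X δ) (htri : Tri n p X δ)
    (hY : ∀ θ ∈ Y, t * charDegree (θ : G → ℂ) = 1 + n * p) {a : ℕ}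
    (ha : (a * t + 1) * (n + 1) + t + 1 = p) :
    Geo G p e n ∧ n + 1 = t ∧ e = a * t + 2 ∧ ∀ θ ∈ Y, charDegree (θ : G → ℂ) + e = p := by
  classical
  have H := avg_exc hP hC he he2 D D' (by omega) htri hY
  have Γ : Geo G p e n := mk_geo hP hC he he2 hn (fun x hx => card_DD hP hC he H hn hx)
  have hle : n + 1 ≤ (a * t + 1) * (n + 1) := Nat.le_mul_of_pos_left _ (by omega)
  have h1 := dvd_pred Γ (by omega) hn0
  have h2 : p - 1 = (a * t + 1) * (n + 1) + t := by omega
  rw [h2] at h1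
  have h3 : n + 1 ∣ t := (Nat.dvd_add_right (Dvd.intro_left _ rfl)).mp h1
  have h4 : t ∣ n + 1 := by
    obtain ⟨θ, hθ⟩ : Y.Nonempty := by rw [← Finset.card_pos, D.cY]; omega
    have h5 : t ∣ 1 + n * p := ⟨_, (hY θ hθ).symm⟩
    have h6 : 1 + n * p = (n + 1) + t * (n * e) := by rw [hpt]; ring
    rw [h6] at h5
    exact (Nat.dvd_add_left (Dvd.intro _ rfl)).mp h5
  have h7 : n + 1 = t := Nat.dvd_antisymm h3 h4
  have h8 : e = a * t + 2 := by
    rw [h7, hpt] at ha
    have h9 : t * (a * t + 1 + 1) = t * e := by nlinarith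
    have := Nat.eq_of_mul_eq_mul_left (by omega) h9
    omega
  refine ⟨Γ, h7, h8, fun θ hθ => ?_⟩
  have h9 := hY θ hθ
  have h10 : t * (charDegree (θ : G → ℂ) + e) = t * p := by
    rw [mul_add, h9]
    have : t * p = (n + 1) * p := by rw [h7]
    rw [this, add_mul, one_mul]
    have : 1 + t * e = p := by rw [hpt]; ring
    omega
  exact Nat.eq_of_mul_eq_mul_left (by omega) h10

end Cfsg.Agent.H4.BRfin
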