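import Mathlib
import Cfsg.Agent.H4_BRfin

/-! The case of sign `+1`. -/

set_option autoImplicit false

namespace Cfsg.Agent.H4.BRplus

open Cfsg Cfsg.Agent.H3.CharIrr Cfsg.Agent.H3.CharComplete Cfsg.Agent.H3.CharInd
  Cfsg.Agent.H3.CharMult Cfsg.Agent.H3.CharInt Cfsg.Agent.H4.BRgr Cfsg.Agent.H4.BRar
  Cfsg.Agent.H4.BRdata Cfsg.Agent.H4.BRdeg Cfsg.Agent.H4.BRv Cfsg.Agent.H4.BRcase Cfsg.Agent.H4.BRind
  Cfsg.Agent.H4.BRfr Cfsg.Agent.H4.BRgeo Cfsg.Agent.H4.BRavg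
open Cfsg.Agent.H10.BlockKer (triv triv_coe ker_mul)
open scoped ComplexConjugate

universe u

variable {G : Type u} [Group G] [Fintype G] {p : ℕ} [hp : Fact p.Prime] {P : Sylow p G} {e t n : ℕ}
  {X Y S : Finset (IrrCharacter G)} {δ : IrrCharacter G → ℤ} {ε : ℤ}

theorem sum_sq_Y (D : BD P e t X Y δ ε) (hP : Nat.card P = p)
    (hC : Subgroup.centralizer ((P : Subgroup G) : Set G) = (P : Subgroup G))
    {x : G} (hx : x ∈ (P : Subgroup G)) (hx1 : x ≠ 1) :
    ∑ θ ∈ Y, (θ : G → ℂ) x * conj ((θ : G → ℂ) x) = (p : ℂ) - e := by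
  classical
  haveI : Fintype (IrrCharacter G) := Fintype.ofFinite _
  have h1 := orth2 (G := G) x x
  rw [if_pos (IsConj.refl x), centralizer_eq hP hx hx1, hC] at h1
  have h2 : ∑ χ ∈ X ∪ Y, (χ : G → ℂ) x * conj ((χ : G → ℂ) x) =
      ∑ χ : IrrCharacter G, (χ : G → ℂ) x * conj ((χ : G → ℂ) x) := by
    apply Finset.sum_subset (Finset.subset_univ _)
    intro χ _ hχ
    rw [D.van hC χ hχ x hx hx1, zero_mul]
  rw [← h2, Finset.sum_union D.disj] at h1
  have h3 : ∑ χ ∈ X, (χ : G → ℂ) x * conj ((χ : G → ℂ) x) = (e : ℂ) := by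
    rw [Finset.sum_congr rfl (g := fun _ => (1 : ℂ)), Finset.sum_const, D.cX, nsmul_eq_mul, mul_one]
    intro χ hχ
    rw [D.val hχ hx hx1]
    rcases D.sX χ hχ with h | h <;> rw [h] <;> simp
  rw [h3] at h1
  have h4 : (Nat.card (P : Subgroup G) : ℂ) = p := by
    rw [show Nat.card (P : Subgroup G) = p from hP]
  rw [h4] at h1
  linear_combination h1

theorem case_plus (D : BD P e t X Y δ 1) (hP : Nat.card P = p)
    (hC : Subgroup.centralizer ((P : Subgroup G) : Set G) = (P : Subgroup G))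
    (he : (Subgroup.centralizer ((P : Subgroup G) : Set G)).relIndex
      (Subgroup.normalizer ((P : Subgroup G) : Set G)) = e)
    (hn0 : 0 < n) (he2 : 2 ≤ e) (ht : 2 ≤ t)
    (hpt : p = t * e + 1) (D' : BS P X δ) (htri : Tri n p X δ)
    (hY : ∀ θ ∈ Y, charDegree (θ : G → ℂ) = e) : t = 2 ∧ n = 1 := by
  classical
  haveI : Fintype (IrrCharacter G) := Fintype.ofFinite _
  haveI : Fintype (P : Subgroup G) := Fintype.ofFinite _
  have hpc : (p : ℂ) - 1 ≠ 0 := by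
    intro h
    have : (p : ℂ) = 1 := by linear_combination h
    exact hp.out.one_lt.ne' (by exact_mod_cast this)
  let Ψ : G → ℂ := ∑ θ ∈ Y, (θ : G → ℂ) * (fun g => conj ((θ : G → ℂ) g))
  have hΨ : IsCharacter G Ψ := IsChar.sum _ _ fun θ _ =>
    IsChar.mul (IsIrr.isCharacter θ.2) (IsChar.conj (IsIrr.isCharacter θ.2))
  have hΨv : ∀ g, Ψ g = ∑ θ ∈ Y, (θ : G → ℂ) g * conj ((θ : G → ℂ) g) := by
    intro g; simp [Ψ]
  obtain ⟨a, ha, -⟩ := IsChar.eq_sum_nat hΨ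
  have hexp := expand_apply Ψ (IsChar.isClass hΨ)
  simp only [ha] at hexp
  -- trivial multiplicity
  have hat : a (triv G) = t := by
    have h1 := ha (triv G)
    have h2 : classInner Ψ ((triv G : IrrCharacter G) : G → ℂ) = (t : ℂ) := by
      rw [ci_sum_left]
      have h3 : ∀ θ ∈ Y, classInner ((θ : G → ℂ) * (fun g => conj ((θ : G → ℂ) g)))
          ((triv G : IrrCharacter G) : G → ℂ) = 1 := by
        intro θ _
        have h4 := ci_irr_self θ.2
        rw [classInner] at h4 ⊢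
        rw [← h4]
        congr 1
        refine Finset.sum_congr rfl fun g _ => ?_
        rw [triv_coe, Pi.mul_apply, map_one, mul_one]
      rw [Finset.sum_congr rfl h3, Finset.sum_const, D.cY, nsmul_eq_mul, mul_one]
    rw [h2] at h1
    exact_mod_cast h1.symm
  -- degrees
  have hΨ1 : Ψ 1 = (t : ℂ) * e ^ 2 := by
    rw [hΨv, Finset.sum_congr rfl (g := fun _ => (e : ℂ) ^ 2), Finset.sum_const, D.cY, nsmul_eq_mul]
    intro θ hθ
    rw [deg_eq, hY θ hθ, Complex.conj_natCast]; ring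
  have hdeg : ∑ χ : IrrCharacter G, (a χ : ℝ) * (charDegree (χ : G → ℂ) : ℝ) = (t : ℝ) * e ^ 2 := by
    have h1 := hexp 1
    rw [hΨ1] at h1
    simp only [deg_eq] at h1
    exact_mod_cast h1.symm
  -- averages
  let α : IrrCharacter G → ℝ := fun χ => if χ ∈ X then (δ χ : ℝ) else if χ ∈ Y then (-(1 / t) : ℝ) else 0
  have hav : ∀ χ : IrrCharacter G, ∑ x : (P : Subgroup G), (χ : G → ℂ) x =
      (charDegree (χ : G → ℂ) : ℂ) + ((p : ℂ) - 1) * (α χ : ℂ) := by
    intro χ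
    simp only [α]
    split_ifs with h h'
    · rw [sum_P hP (f := (χ : G → ℂ)) (c := (δ χ : ℂ)) (fun x hx hx1 => D.val h hx hx1), deg_eq]
      push_cast; rfl
    · rw [sum_exc D hP hC he he2 h']
      push_cast; ring
    · rw [sum_P hP (f := (χ : G → ℂ)) (c := 0) (fun x hx hx1 => D.van hC χ (by
        rw [Finset.mem_union]; exact fun h1 => h1.elim h h') x hx hx1), deg_eq]
      simp
  have havg : ∑ χ : IrrCharacter G, (a χ : ℝ) * α χ = (p : ℝ) - e := by
    have h1 : ∑ x : (P : Subgroup G), Ψ x = (t : ℂ) * e ^ 2 + ((p : ℂ) - 1) * ((p : ℂ) - e) := by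
      rw [sum_P hP (f := Ψ) (c := (p : ℂ) - e) (fun x hx hx1 => by
        rw [hΨv]; exact sum_sq_Y D hP hC hx hx1), hΨ1]
    have h2 : ∑ x : (P : Subgroup G), Ψ x = ∑ χ : IrrCharacter G, (a χ : ℂ) *
        ((charDegree (χ : G → ℂ) : ℂ) + ((p : ℂ) - 1) * (α χ : ℂ)) := by
      simp only [hexp]
      rw [Finset.sum_comm]
      refine Finset.sum_congr rfl fun χ _ => ?_
      rw [← Finset.mul_sum, hav]
    rw [h2] at h1
    simp only [mul_add, Finset.sum_add_distrib] at h1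
    have h3 : (∑ χ : IrrCharacter G, (a χ : ℂ) * (charDegree (χ : G → ℂ) : ℂ)) = (t : ℂ) * e ^ 2 := by
      exact_mod_cast hdeg
    rw [h3] at h1
    have h4 : ∑ χ : IrrCharacter G, (a χ : ℂ) * (((p : ℂ) - 1) * (α χ : ℂ)) =
        ((p : ℂ) - 1) * ∑ χ : IrrCharacter G, (a χ : ℂ) * (α χ : ℂ) := by
      rw [Finset.mul_sum]
      refine Finset.sum_congr rfl fun χ _ => by ring
    rw [h4] at h1
    have h5 := mul_left_cancel₀ hpc (add_left_cancel h1)
    have h6 : ((∑ χ : IrrCharacter G, (a χ : ℝ) * α χ : ℝ) : ℂ) = (((p : ℝ) - e : ℝ) : ℂ) := by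
      push_cast; exact h5
    exact_mod_cast h6
  have htrX : triv G ∈ X := D'.one
  have htrs : δ (triv G) = 1 := D'.triv_sign hP
  have hαt : α (triv G) = 1 := by
    simp only [α]; rw [if_pos htrX, htrs]; norm_num
  -- the key inequality, termwise
  have hm : (1 : ℝ) ≤ 1 + n * p := by
    have : (0 : ℝ) ≤ n * p := by positivity
    linarith
  have hkey : ∀ χ : IrrCharacter G, χ ≠ triv G →
      (1 + (n : ℝ) * p) * ((a χ : ℝ) * α χ) ≤ (a χ : ℝ) * (charDegree (χ : G → ℂ) : ℝ) := by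
    intro χ hχ
    have ha0 : (0 : ℝ) ≤ a χ := by positivity
    have hd0 : (0 : ℝ) ≤ charDegree (χ : G → ℂ) := by positivity
    simp only [α]
    split_ifs with h h'
    · rcases htri χ h with h1 | ⟨h1, h2⟩ | ⟨h1, h2⟩
      · exact absurd h1 hχ
      · rw [h1, h2]; push_cast; ring_nf; exact le_refl _
      · rw [h1]
        have : (1 + (n : ℝ) * p) * ((a χ : ℝ) * ((-1 : ℤ) : ℝ)) ≤ 0 := by
          push_cast
          nlinarith
        have h5 : 0 ≤ (a χ : ℝ) * (charDegree (χ : G → ℂ) : ℝ) := mul_nonneg ha0 hd0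
        linarith
    · have ht0 : (0 : ℝ) ≤ 1 / t := by positivity
      have h5 : 0 ≤ (a χ : ℝ) * (charDegree (χ : G → ℂ) : ℝ) := mul_nonneg ha0 hd0
      have h6 : 0 ≤ (1 + (n : ℝ) * p) * ((a χ : ℝ) * (1 / t)) := by positivity
      have h7 : (1 + (n : ℝ) * p) * ((a χ : ℝ) * -(1 / t)) = -((1 + (n : ℝ) * p) * ((a χ : ℝ) * (1 / t))) := by ring
      rw [h7]; linarith
    · have h5 : 0 ≤ (a χ : ℝ) * (charDegree (χ : G → ℂ) : ℝ) := mul_nonneg ha0 hd0
      rw [mul_zero, mul_zero]; exact h5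
  have hineq : (1 + (n : ℝ) * p) * ((p : ℝ) - e - t) + t ≤ (t : ℝ) * e ^ 2 := by
    rw [← Finset.add_sum_erase _ _ (Finset.mem_univ (triv G)), hat] at hdeg havg
    rw [hαt] at havg
    rw [deg_triv] at hdeg
    have h1 : ∑ χ ∈ Finset.univ.erase (triv G), (1 + (n : ℝ) * p) * ((a χ : ℝ) * α χ) ≤
        ∑ χ ∈ Finset.univ.erase (triv G), (a χ : ℝ) * (charDegree (χ : G → ℂ) : ℝ) :=
      Finset.sum_le_sum fun χ hχ => hkey χ (Finset.mem_erase.mp hχ).1
    rw [← Finset.mul_sum] at h1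
    have h2 : ∑ χ ∈ Finset.univ.erase (triv G), ((a χ : ℝ) * α χ) = (p : ℝ) - e - t := by linarith
    rw [h2] at h1
    push_cast at hdeg
    linarith
  have hpr : (p : ℝ) = t * e + 1 := by exact_mod_cast hpt
  have htr : (2 : ℝ) ≤ t := by exact_mod_cast ht
  have her : (2 : ℝ) ≤ e := by exact_mod_cast he2
  have hnr : (1 : ℝ) ≤ n := by exact_mod_cast hn0
  have hpe : (p : ℝ) - e - t = (t - 1) * (e - 1) := by rw [hpr]; ring
  rw [hpe] at hineq
  have hpos : (1 : ℝ) ≤ (t - 1) * (e - 1) := by nlinarith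
  have ht2 : t = 2 := by
    by_contra hne
    have ht3 : 3 ≤ t := by omega
    have ht3r : (3 : ℝ) ≤ t := by exact_mod_cast ht3
    have h1 : (t : ℝ) * e + 2 ≤ 1 + n * p := by
      have hp0 : (0 : ℝ) ≤ p := by positivity
      nlinarith
    have h2 : ((t : ℝ) * e + 2) * ((t - 1) * (e - 1)) ≤ (1 + n * p) * ((t - 1) * (e - 1)) :=
      mul_le_mul_of_nonneg_right h1 (by linarith)
    have h3 : (2 : ℝ) * (e - 1) ≤ (t - 1) * (e - 1) := mul_le_mul_of_nonneg_right (by linarith) (by linarith)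
    have h4 : ((t : ℝ) * e + 2) * (2 * (e - 1)) ≤ ((t : ℝ) * e + 2) * ((t - 1) * (e - 1)) :=
      mul_le_mul_of_nonneg_left h3 (by positivity)
    have h5 : ((t : ℝ) * e + 2) * (2 * (e - 1)) + t ≤ t * e ^ 2 := by linarith
    have h6 : (t : ℝ) * (e - 1) ^ 2 + 4 * (e - 1) ≤ 0 := by nlinarith
    have h7 : (0 : ℝ) < t * (e - 1) ^ 2 + 4 * (e - 1) := by
      have : (0 : ℝ) < e - 1 := by linarith
      positivity
    linarith
  refine ⟨ht2, ?_⟩
  subst ht2
  by_contra hne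
  have hn2 : 2 ≤ n := by omega
  have hn2r : (2 : ℝ) ≤ n := by exact_mod_cast hn2
  push_cast at hineq hpr
  have he1 : (0 : ℝ) < e - 1 := by linarith
  have h1 : (1 + (n : ℝ) * p) * (e - 1) + 2 ≤ 2 * e ^ 2 := by nlinarith
  have h2 : (1 + 2 * (p : ℝ)) * (e - 1) ≤ (1 + (n : ℝ) * p) * (e - 1) := by
    have hp0 : (0 : ℝ) ≤ p := by positivity
    apply mul_le_mul_of_nonneg_right _ he1.le
    nlinarith
  rw [hpr] at h1 h2
  nlinarith

end Cfsg.Agent.H4.BRplus
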