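import Mathlib
import Cfsg.Agent.H4_BRplus
import Cfsg.Agent.H3_DefectZero

/-! Counting elements in the case of sign `-1`. -/

set_option autoImplicit false

namespace Cfsg.Agent.H4.BRcnt

open Cfsg Cfsg.Agent.H3.CharIrr Cfsg.Agent.H3.CharComplete Cfsg.Agent.H3.CharInd
  Cfsg.Agent.H3.CharMult Cfsg.Agent.H3.CharInt Cfsg.Agent.H4.BRgr Cfsg.Agent.H4.BRar
  Cfsg.Agent.H4.BRdata Cfsg.Agent.H4.BRdeg Cfsg.Agent.H4.BRv Cfsg.Agent.H4.BRcase Cfsg.Agent.H4.BRind
  Cfsg.Agent.H4.BRfr Cfsg.Agent.H4.BRgeo Cfsg.Agent.H4.BRavg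
open Cfsg.Agent.H10.BlockKer (triv triv_coe ker_mul)
open scoped ComplexConjugate

universe u

variable {G : Type u} [Group G] [Fintype G] {p : ℕ} [hp : Fact p.Prime] {P : Sylow p G} {e t n a c : ℕ}
  {X Y S : Finset (IrrCharacter G)} {δ : IrrCharacter G → ℤ} {ε : ℤ}

theorem vanish' {r N k l : ℕ} (hr : r.Prime) (hG : Nat.card G = N * k) (hN : r ∣ N) (hN0 : N ≠ 0)
    (hk : ¬ r ∣ k) {χ : G → ℂ} (hχ : IsIrrCharacter G χ) (hd : χ 1 = ((N * l : ℕ) : ℂ)) {x : G}
    (hx : r ∣ orderOf x) : χ x = 0 := by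
  obtain ⟨v, N', hN', hNv⟩ := Nat.exists_eq_pow_mul_and_not_dvd hN0 r hr.ne_one
  have hv : v ≠ 0 := by
    rintro rfl
    rw [pow_zero, one_mul] at hNv
    exact hN' (hNv ▸ hN)
  obtain ⟨w, rfl⟩ := Nat.exists_eq_succ_of_ne_zero hv
  rw [Nat.succ_eq_add_one] at hNv
  refine Cfsg.Agent.H3.DefectZero.vanish (p := r) (m := r ^ (w + 1)) (n := N' * k) (d := N' * l) hr
    (by rw [hG, hNv]; ring) ⟨w, rfl⟩ ?_ hχ (by rw [hd, hNv]; push_cast; ring) hx
  intro h
  rcases (Nat.Prime.dvd_mul hr).mp h with h | h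
  · exact hN' h
  · exact hk h

/-- The arithmetic data of the case. -/
structure Num (p e t n a c : ℕ) : Prop where
  t2 : 2 ≤ t
  nt : n + 1 = t
  ea : e = a * t + 2
  pt : p = t * e + 1
  pc : p = c + e

namespace Num
variable (N : Num p e t n a c)
include N

omit hp in
theorem c_eq : c = 1 + n * e := by
  have h1 := N.pt; have h2 := N.pc; have h3 := N.nt
  subst h3
  have : c + e = (1 + n * e) + e := by rw [← h2, h1]; ring
  omega

omit hp in
theorem m_eq : 1 + n * p = t * c := by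
  rw [N.c_eq, ← N.nt, N.pt, ← N.nt]; ring

omit hp in
theorem c_pos : 0 < c := by rw [N.c_eq]; omega

omit hp in
theorem e_pos : 0 < e := by rw [N.ea]; omega

omit hp in
theorem key : c + 1 + a * t = t * e := by
  have h1 := N.pt; have h2 := N.pc; have h3 := N.ea
  have : c + e = t * e + 1 := by rw [← h2, h1]
  omega

omit hp in
theorem not_dvd_t {r : ℕ} (hr : r.Prime) (hc : r ∣ c) : ¬ r ∣ t := by
  intro h
  have h1 : r ∣ c + (1 + a * t) := by
    rw [← add_assoc, N.key]; exact Dvd.dvd.mul_right h e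
  have h2 : r ∣ 1 + a * t := (Nat.dvd_add_right hc).mp h1
  have h3 : r ∣ 1 := (Nat.dvd_add_left (Dvd.dvd.mul_left h a)).mp h2
  exact hr.one_lt.ne' (Nat.dvd_one.mp h3)

omit hp in
theorem not_dvd_e {r : ℕ} (hr : r.Prime) (hc : r ∣ c) : ¬ r ∣ e := by
  intro h
  rw [N.c_eq] at hc
  have h3 : r ∣ 1 := (Nat.dvd_add_left (Dvd.dvd.mul_left h n)).mp hc
  exact hr.one_lt.ne' (Nat.dvd_one.mp h3)

omit hp in
theorem not_dvd_p {r : ℕ} (hr : r.Prime) (hc : r ∣ c) : ¬ r ∣ p := by
  intro h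
  have h1 : r ∣ c + e := by rw [← N.pc]; exact h
  exact N.not_dvd_e hr hc ((Nat.dvd_add_right hc).mp h1)

end Num

theorem card_G (Γ : Geo G p e n) (N : Num p e t n a c) : Nat.card G = t * c * (p * e) := by
  obtain ⟨Q⟩ : Nonempty (Sylow p G) := inferInstance
  have h3 : Nat.card G = Nat.card (Sylow p G) * Nat.card (NN Q) := by
    rw [Q.card_eq_index_normalizer, mul_comm]
    exact (Subgroup.card_mul_index (NN Q)).symm
  rw [h3, Γ.cardN, Γ.cardS, N.m_eq]

/-- number of `p`-singular elements. -/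
theorem card_sing (hP : Nat.card P = p)
    (hC : Subgroup.centralizer ((P : Subgroup G) : Set G) = (P : Subgroup G))
    (Γ : Geo G p e n) [DecidablePred (fun g : G => p ∣ orderOf g)] :
    (Finset.univ.filter (fun g : G => p ∣ orderOf g)).card = (1 + n * p) * (p - 1) := by
  classical
  haveI : Fintype (NN P) := Fintype.ofFinite _
  haveI : Fintype (P : Subgroup G) := Fintype.ofFinite _
  have horder : ∀ g h : G, orderOf (h * g * h⁻¹) = orderOf g := by
    intro g h
    have := orderOf_injective (MulAut.conj h).toMonoidHom (MulAut.conj h).injective g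
    simpa using this
  let f : G → ℂ := fun g => if p ∣ orderOf g then 1 else 0
  have hf : IsClassFunction G f := by
    intro g h
    simp only [f, horder]
  have h0 : ∀ g, ¬ p ∣ orderOf g → f g = 0 := fun g hg => by simp only [f]; rw [if_neg hg]
  have h1 := ind_res hP hC hf h0
  have h2 := frobenius (NN P) (fun y : NN P => f y) (fun _ => (1 : ℂ)) (fun _ _ => rfl)
  rw [h1, classInner, classInner] at h2
  simp only [map_one, mul_one] at h2
  have h3 : ∑ g : G, f g = ((Finset.univ.filter (fun g : G => p ∣ orderOf g)).card : ℂ) := by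
    simp only [f]
    rw [Finset.sum_ite, Finset.sum_const_zero, add_zero, Finset.sum_const, nsmul_eq_mul, mul_one]
  have h4 : ∑ y : NN P, f y = (p : ℂ) - 1 := by
    have h5 : ∑ y : NN P, f y = ∑ x : (P : Subgroup G), f x := by
      have h1 : ∑ y : NN P, f y = ∑ y ∈ Finset.univ.filter (fun y : NN P => (y : G) ∈ (P : Subgroup G)), f y := by
        rw [Finset.sum_filter]
        refine Finset.sum_congr rfl fun y _ => ?_
        split_ifs with h
        · rfl
        · exact h0 y (fun hd => h (mem_P_of_dvd hP hC y.2 hd))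
      rw [h1]
      symm
      apply Finset.sum_bij (fun (x : (P : Subgroup G)) _ => (⟨x, Subgroup.le_normalizer x.2⟩ : NN P))
      · intro x _
        rw [Finset.mem_filter]; exact ⟨Finset.mem_univ _, x.2⟩
      · intro x _ y _ h
        exact Subtype.ext (congrArg (fun z : NN P => (z : G)) h)
      · intro y hy
        rw [Finset.mem_filter] at hy
        exact ⟨⟨y, hy.2⟩, Finset.mem_univ _, rfl⟩
      · intro x _; rfl
    rw [h5, sum_P hP (f := f) (c := 1) (fun x hx hx1 => by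
      simp only [f]; rw [if_pos (dvd_of_mem hP hx hx1)]), h0 1 not_dvd_one]
    ring
  rw [h3, h4] at h2
  have hGN : Nat.card G = (1 + n * p) * Nat.card (NN P) := by
    have h3 : Nat.card G = Nat.card (Sylow p G) * Nat.card (NN P) := by
      rw [P.card_eq_index_normalizer, mul_comm]
      exact (Subgroup.card_mul_index (NN P)).symm
    rw [h3, Γ.cardS]
  have hG0 : (Nat.card G : ℂ) ≠ 0 := card_cast_ne_zero
  have hN0 : (Nat.card (NN P) : ℂ) ≠ 0 := by exact_mod_cast Nat.card_pos.ne'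
  have h6 : ((Finset.univ.filter (fun g : G => p ∣ orderOf g)).card : ℂ) =
      (Nat.card G : ℂ) * ((Nat.card (NN P) : ℂ)⁻¹ * ((p : ℂ) - 1)) := by
    rw [← h2, ← mul_assoc, mul_inv_cancel₀ hG0, one_mul]
  rw [hGN] at h6
  have h7 : ((Finset.univ.filter (fun g : G => p ∣ orderOf g)).card : ℂ) =
      (((1 + n * p) * (p - 1) : ℕ) : ℂ) := by
    rw [h6]
    push_cast [Nat.cast_sub hp.out.one_lt.le]
    field_simp
  exact_mod_cast h7

/-- The data of the case. -/
structure Min (P : Sylow p G) (e t n a c : ℕ) (X Y : Finset (IrrCharacter G))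
    (δ : IrrCharacter G → ℤ) : Prop where
  D : BD P e t X Y δ (-1)
  D' : BS P X δ
  hP : Nat.card P = p
  hC : Subgroup.centralizer ((P : Subgroup G) : Set G) = (P : Subgroup G)
  tri : Tri n p X δ
  Γ : Geo G p e n
  N : Num p e t n a c
  Yd : ∀ θ ∈ Y, charDegree (θ : G → ℂ) = c
  card : 1 + a + (X.filter (fun χ => δ χ = -1)).card = e

/-- the sum of the characters with sign `-`. -/
noncomputable def Th (X : Finset (IrrCharacter G)) (δ : IrrCharacter G → ℤ) : G → ℂ :=
  ∑ χ ∈ X.filter (fun χ => δ χ = -1), (χ : G → ℂ)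

section
variable (M : Min P e t n a c X Y δ)
include M

theorem Min.Th_cls : IsClassFunction G (Th X δ) := by
  have : IsCharacter G (Th X δ) := IsChar.sum _ _ fun χ _ => IsIrr.isCharacter χ.2
  exact IsChar.isClass this

theorem Min.card_G : Nat.card G = t * c * (p * e) := BRcnt.card_G M.Γ M.N

/-- value at elements of order divisible by a prime divisor of `c`. -/
theorem Min.Th_c {g : G} (hg : ¬ p ∣ orderOf g) {r : ℕ} (hr : r.Prime) (hrc : r ∣ c)
    (hrg : r ∣ orderOf g) : Th X δ g = 1 := by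
  classical
  obtain ⟨θ, hθ⟩ : Y.Nonempty := by rw [← Finset.card_pos, M.D.cY]; have := M.N.t2; omega
  have hk : ¬ r ∣ t * (p * e) := by
    intro h
    rcases (Nat.Prime.dvd_mul hr).mp h with h | h
    · exact M.N.not_dvd_t hr hrc h
    · rcases (Nat.Prime.dvd_mul hr).mp h with h | h
      · exact M.N.not_dvd_p hr hrc h
      · exact M.N.not_dvd_e hr hrc h
  have hG : Nat.card G = c * (t * (p * e)) := by rw [M.card_G]; ring
  have hc0 : c ≠ 0 := M.N.c_pos.ne'
  have h1 := M.D.rel θ hθ g hg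
  have h2 : (θ : G → ℂ) g = 0 := by
    refine vanish' (l := 1) hr hG hrc hc0 hk θ.2 ?_ hrg
    rw [deg_eq, M.Yd θ hθ, mul_one]
  rw [h2, mul_zero] at h1
  -- split X
  have h3 : ∑ χ ∈ X, (δ χ : ℂ) * (χ : G → ℂ) g = 1 - Th X δ g := by
    rw [← Finset.add_sum_erase X _ M.D'.one, M.D'.triv_sign M.hP, triv_coe]
    have h4 : ∑ χ ∈ X.erase (triv G), (δ χ : ℂ) * (χ : G → ℂ) g = - Th X δ g := by
      have h5 : Th X δ g = ∑ χ ∈ X.filter (fun χ => δ χ = -1), (χ : G → ℂ) g := by
        simp [Th]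
      rw [h5, ← Finset.sum_neg_distrib, Finset.sum_filter]
      rw [← Finset.add_sum_erase X _ M.D'.one, if_neg (by
        rw [M.D'.triv_sign M.hP]; norm_num), zero_add]
      refine Finset.sum_congr rfl fun χ hχ => ?_
      obtain ⟨hne, hχX⟩ := Finset.mem_erase.mp hχ
      rcases M.tri χ hχX with h6 | ⟨h6, h7⟩ | ⟨h6, h7⟩
      · exact absurd h6 hne
      · rw [h6, if_neg (by norm_num)]
        have h8 : (χ : G → ℂ) g = 0 := by
          refine vanish' (l := t) hr hG hrc hc0 hk χ.2 ?_ hrg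
          rw [deg_eq, h7, M.N.m_eq, mul_comm t c]
        rw [h8, mul_zero]
      · rw [h6, if_pos rfl]; push_cast; ring
    rw [h4]; push_cast; ring
  rw [h3] at h1
  linear_combination h1

/-- value at elements of order divisible by a prime divisor of `p - 1`. -/
theorem Min.Th_t {g : G} {r : ℕ} (hr : r.Prime) (hrt : r ∣ t * e)
    (hrg : r ∣ orderOf g) : Th X δ g = 0 := by
  classical
  have h5 : Th X δ g = ∑ χ ∈ X.filter (fun χ => δ χ = -1), (χ : G → ℂ) g := by
    simp [Th]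
  rw [h5]
  refine Finset.sum_eq_zero fun χ hχ => ?_
  obtain ⟨hχX, hχ1⟩ := Finset.mem_filter.mp hχ
  have hG : Nat.card G = (t * e) * (p * c) := by rw [M.card_G]; ring
  have h0 : t * e ≠ 0 := by
    have := M.N.t2; have := M.N.e_pos; positivity
  have hk : ¬ r ∣ p * c := by
    intro h
    rcases (Nat.Prime.dvd_mul hr).mp h with h | h
    · rw [M.N.pt] at h
      have : r ∣ 1 := (Nat.dvd_add_right hrt).mp h
      exact hr.one_lt.ne' (Nat.dvd_one.mp this)
    · rcases (Nat.Prime.dvd_mul hr).mp hrt with h' | h'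
      · exact M.N.not_dvd_t hr h h'
      · exact M.N.not_dvd_e hr h h'
  refine vanish' (l := 1) hr hG hrt h0 hk χ.2 ?_ hrg
  rcases M.tri χ hχX with h6 | ⟨h6, h7⟩ | ⟨h6, h7⟩
  · rw [h6, M.D'.triv_sign M.hP] at hχ1; norm_num at hχ1
  · rw [hχ1] at h6; norm_num at h6
  · rw [deg_eq, mul_one]
    have : charDegree (χ : G → ℂ) = t * e := by have := M.N.pt; omega
    rw [this]

/-- value at `p`-singular elements -/
theorem Min.Th_p {g : G} (hg : p ∣ orderOf g) :
    Th X δ g = -((X.filter (fun χ => δ χ = -1)).card : ℂ) := by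
  classical
  obtain ⟨h, h1, h2⟩ := exists_conj_mem M.hP M.hC hg
  rw [← M.Th_cls g h]
  have h5 : Th X δ (h * g * h⁻¹) = ∑ χ ∈ X.filter (fun χ => δ χ = -1), (χ : G → ℂ) (h * g * h⁻¹) := by
    simp [Th]
  rw [h5, Finset.sum_congr rfl (g := fun _ => (-1 : ℂ)), Finset.sum_const, nsmul_eq_mul]
  · ring
  · intro χ hχ
    obtain ⟨hχX, hχ1⟩ := Finset.mem_filter.mp hχ
    rw [M.D.val hχX h1 h2, hχ1]; simp

theorem Min.Th_one : Th X δ 1 = ((X.filter (fun χ => δ χ = -1)).card : ℂ) * ((p : ℂ) - 1) := by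
  classical
  have h5 : Th X δ 1 = ∑ χ ∈ X.filter (fun χ => δ χ = -1), (χ : G → ℂ) 1 := by
    simp [Th]
  rw [h5, Finset.sum_congr rfl (g := fun _ => ((p : ℂ) - 1)), Finset.sum_const, nsmul_eq_mul]
  intro χ hχ
  obtain ⟨hχX, hχ1⟩ := Finset.mem_filter.mp hχ
  rcases M.tri χ hχX with h6 | ⟨h6, h7⟩ | ⟨h6, h7⟩
  · rw [h6, M.D'.triv_sign M.hP] at hχ1; norm_num at hχ1
  · rw [hχ1] at h6; norm_num at h6
  · rw [deg_eq]
    have : ((charDegree (χ : G → ℂ) + 1 : ℕ) : ℂ) = p := by rw [h7]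
    push_cast at this
    linear_combination this

theorem Min.Th_norm : ∑ g : G, Th X δ g * conj (Th X δ g) =
    (Nat.card G : ℂ) * ((X.filter (fun χ => δ χ = -1)).card : ℂ) := by
  classical
  have h1 : classInner (Th X δ) (Th X δ) = ((X.filter (fun χ => δ χ = -1)).card : ℂ) := by
    unfold Th
    rw [ci_sum_left, Finset.sum_congr rfl (g := fun _ => (1 : ℂ)), Finset.sum_const, nsmul_eq_mul, mul_one]
    intro χ hχ
    rw [ci_sum_right, Finset.sum_eq_single_of_mem χ hχ, ci_irr_self χ.2]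
    intro ψ _ hne
    exact ci_irr_ne χ.2 ψ.2 (fun h => hne (Subtype.ext h.symm))
  rw [← h1, classInner, ← mul_assoc, mul_inv_cancel₀ card_cast_ne_zero, one_mul]

end

end Cfsg.Agent.H4.BRcnt
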