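import Mathlib
import Cfsg.Agent.H4_BRcnt

/-! Counting elements in the case of sign `-1`, part 2. -/

set_option autoImplicit false

namespace Cfsg.Agent.H4.BRcnt

open Cfsg Cfsg.Agent.H3.CharIrr Cfsg.Agent.H3.CharComplete Cfsg.Agent.H3.CharInd
  Cfsg.Agent.H3.CharMult Cfsg.Agent.H3.CharInt Cfsg.Agent.H4.BRgr Cfsg.Agent.H4.BRar
  Cfsg.Agent.H4.BRdata Cfsg.Agent.H4.BRdeg Cfsg.Agent.H4.BRv Cfsg.Agent.H4.BRcase Cfsg.Agent.H4.BRind
  Cfsg.Agent.H4.BRfr Cfsg.Agent.H4.BRgeo Cfsg.Agent.H4.BRavg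
open Cfsg.Agent.H10.BlockKer (triv triv_coe ker_mul)
open scoped ComplexConjugate

universe u

variable {G : Type u} [Group G] [Fintype G] {p : ℕ} [hp : Fact p.Prime] {P : Sylow p G} {e t n a c : ℕ}
  {X Y S : Finset (IrrCharacter G)} {δ : IrrCharacter G → ℤ} {ε : ℤ}

variable (M : Min P e t n a c X Y δ)
include M

open Classical in
/-- the number of `p`-regular elements of order involving primes of `p - 1`. -/
theorem Min.card_A :
    ((Finset.univ.filter (fun g : G => g ≠ 1 ∧ ¬ p ∣ orderOf g ∧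
      ∃ r : ℕ, r.Prime ∧ r ∣ t * e ∧ r ∣ orderOf g)).card : ℤ) = c * p * (e - 1) := by
  set A := Finset.univ.filter (fun g : G => g ≠ 1 ∧ ¬ p ∣ orderOf g ∧
      ∃ r : ℕ, r.Prime ∧ r ∣ t * e ∧ r ∣ orderOf g) with hA
  set C := Finset.univ.filter (fun g : G => ¬ p ∣ orderOf g ∧
      ∃ r : ℕ, r.Prime ∧ r ∣ c ∧ r ∣ orderOf g) with hC
  set Sg := Finset.univ.filter (fun g : G => p ∣ orderOf g) with hSg
  set b := (X.filter (fun χ => δ χ = -1)).card with hb
  have hA0 : ∀ g ∈ A, Th X δ g = 0 := by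
    intro g hg
    obtain ⟨-, -, -, r, hr, h1, h2⟩ := Finset.mem_filter.mp hg
    exact M.Th_t hr h1 h2
  have hC1 : ∀ g ∈ C, Th X δ g = 1 := by
    intro g hg
    obtain ⟨-, h0, r, hr, h1, h2⟩ := Finset.mem_filter.mp hg
    exact M.Th_c h0 hr h1 h2
  have hS1 : ∀ g ∈ Sg, Th X δ g = -(b : ℂ) := by
    intro g hg
    exact M.Th_p (Finset.mem_filter.mp hg).2
  have hcover : (Finset.univ : Finset G) = {1} ∪ (Sg ∪ (A ∪ C)) := by
    symm
    rw [Finset.eq_univ_iff_forall]
    intro g
    simp only [Finset.mem_union, Finset.mem_singleton]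
    by_cases h1 : g = 1
    · left; exact h1
    right
    by_cases h2 : p ∣ orderOf g
    · left; exact Finset.mem_filter.mpr ⟨Finset.mem_univ _, h2⟩
    right
    obtain ⟨r, hr, hrg⟩ := Nat.exists_prime_and_dvd (n := orderOf g) (by
      rwa [Ne, orderOf_eq_one_iff])
    have h3 : r ∣ t * c * (p * e) := by
      rw [← M.card_G]; exact hrg.trans (orderOf_dvd_natCard g)
    have h4 : r ∣ t * e ∨ r ∣ c := by
      rcases (Nat.Prime.dvd_mul hr).mp h3 with h | h
      · rcases (Nat.Prime.dvd_mul hr).mp h with h | h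
        · left; exact Dvd.dvd.mul_right h e
        · right; exact h
      · rcases (Nat.Prime.dvd_mul hr).mp h with h | h
        · exfalso
          rw [(Nat.prime_dvd_prime_iff_eq hr hp.out).mp h] at hrg
          exact h2 hrg
        · left; exact Dvd.dvd.mul_left h t
    rcases h4 with h4 | h4
    · left; exact Finset.mem_filter.mpr ⟨Finset.mem_univ _, h1, h2, r, hr, h4, hrg⟩
    · right; exact Finset.mem_filter.mpr ⟨Finset.mem_univ _, h2, r, hr, h4, hrg⟩
  have hd3 : Disjoint A C := by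
    rw [Finset.disjoint_left]
    intro g h1 h2
    have := (hA0 g h1).symm.trans (hC1 g h2)
    norm_num at this
  have hd2 : Disjoint Sg (A ∪ C) := by
    rw [Finset.disjoint_left]
    intro g h1 h2
    have h3 := (Finset.mem_filter.mp h1).2
    rcases Finset.mem_union.mp h2 with h | h
    · exact (Finset.mem_filter.mp h).2.2.1 h3
    · exact (Finset.mem_filter.mp h).2.1 h3
  have hd1 : Disjoint ({1} : Finset G) (Sg ∪ (A ∪ C)) := by
    rw [Finset.disjoint_singleton_left]
    intro h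
    rcases Finset.mem_union.mp h with h | h
    · exact not_dvd_one (Finset.mem_filter.mp h).2
    · rcases Finset.mem_union.mp h with h | h
      · exact (Finset.mem_filter.mp h).2.1 rfl
      · obtain ⟨-, -, r, hr, -, h2⟩ := Finset.mem_filter.mp h
        rw [orderOf_one] at h2
        exact hr.one_lt.ne' (Nat.dvd_one.mp h2)
  have hcard : (Nat.card G : ℤ) = 1 + Sg.card + (A.card + C.card) := by
    rw [Nat.card_eq_fintype_card, ← Finset.card_univ, hcover, Finset.card_union_of_disjoint hd1,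
      Finset.card_union_of_disjoint hd2, Finset.card_union_of_disjoint hd3, Finset.card_singleton]
    push_cast; ring
  have hnorm := M.Th_norm
  rw [hcover, Finset.sum_union hd1, Finset.sum_union hd2, Finset.sum_union hd3,
    Finset.sum_singleton, M.Th_one, ← hb] at hnorm
  rw [Finset.sum_congr rfl (g := fun _ => (b : ℂ) ^ 2) (s₁ := Sg) (fun g hg => by
      rw [hS1 g hg]; simp [sq]),
    Finset.sum_congr rfl (g := fun _ => (0 : ℂ)) (s₁ := A) (fun g hg => by
      rw [hA0 g hg]; simp),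
    Finset.sum_congr rfl (g := fun _ => (1 : ℂ)) (s₁ := C) (fun g hg => by
      rw [hC1 g hg]; simp)] at hnorm
  simp only [Finset.sum_const, nsmul_eq_mul, mul_one, mul_zero, zero_add, map_mul, map_sub,
    Complex.conj_natCast, map_one] at hnorm
  have hnz : ((b : ℤ) * (p - 1)) * (b * (p - 1)) + (Sg.card * b ^ 2 + C.card) = Nat.card G * b := by
    exact_mod_cast hnorm
  have hSgc : Sg.card = (1 + n * p) * (p - 1) := by
    rw [hSg]
    exact card_sing M.hP M.hC M.Γ
  have hp1 := hp.out.one_lt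
  have hSz : (Sg.card : ℤ) = (1 + n * p) * (p - 1) := by
    rw [hSgc]; push_cast [Nat.cast_sub hp1.le]; ring
  have hGz : (Nat.card G : ℤ) = t * c * (p * e) := by
    rw [M.card_G]; push_cast; ring
  have hab : (1 : ℤ) + a + b = e := by exact_mod_cast M.card
  have h1 : (n : ℤ) = t - 1 := by have := M.N.nt; have : ((n + 1 : ℕ) : ℤ) = t := by exact_mod_cast this
                                  push_cast at this; linarith
  have h2 : (e : ℤ) = a * t + 2 := by exact_mod_cast M.N.ea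
  have h3 : (p : ℤ) = t * e + 1 := by exact_mod_cast M.N.pt
  have h4 : (c : ℤ) = 1 + n * e := by exact_mod_cast M.N.c_eq
  have h5 : (b : ℤ) = e - 1 - a := by linarith
  have h6 : (A.card : ℤ) = Nat.card G - 1 - Sg.card - (Nat.card G * b -
      ((b : ℤ) * (p - 1)) * (b * (p - 1)) - Sg.card * b ^ 2) := by linarith
  rw [h6, hSz, hGz, h5, h4, h3, h1, h2]
  ring

open Classical in
theorem Min.exists_NN {g : G} (hg1 : g ≠ 1) (hgp : ¬ p ∣ orderOf g) {r : ℕ} (hr : r.Prime)
    (hrt : r ∣ t * e) (hrg : r ∣ orderOf g) : ∃ Q : Sylow p G, g ∈ NN Q := by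
  haveI : Fintype (Sylow p G) := Fintype.ofFinite _
  set A := Finset.univ.filter (fun g : G => g ≠ 1 ∧ ¬ p ∣ orderOf g ∧
      ∃ r : ℕ, r.Prime ∧ r ∣ t * e ∧ r ∣ orderOf g) with hA
  set U := Finset.univ.filter (fun g : G => g ≠ 1 ∧ ¬ p ∣ orderOf g ∧
      ∃ Q : Sylow p G, g ∈ NN Q) with hU
  have hUA : U ⊆ A := by
    intro d hd
    obtain ⟨-, h1, h2, Q, hQ⟩ := Finset.mem_filter.mp hd
    refine Finset.mem_filter.mpr ⟨Finset.mem_univ _, h1, h2, ?_⟩
    obtain ⟨r, hr, hrg⟩ := Nat.exists_prime_and_dvd (n := orderOf d) (by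
      rwa [Ne, orderOf_eq_one_iff])
    refine ⟨r, hr, ?_, hrg⟩
    have h3 : r ∣ p * e := by
      rw [← M.Γ.cardN Q]
      exact hrg.trans (Subgroup.orderOf_dvd_natCard _ hQ)
    rcases (Nat.Prime.dvd_mul hr).mp h3 with h | h
    · exfalso
      rw [(Nat.prime_dvd_prime_iff_eq hr hp.out).mp h] at hrg
      exact h2 hrg
    · exact Dvd.dvd.mul_left h t
  have hdouble : ∑ d ∈ U, (Finset.univ.filter (fun Q : Sylow p G => d ∈ NN Q)).card =
      ∑ Q : Sylow p G, (U.filter (fun d => d ∈ NN Q)).card := by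
    simp only [Finset.card_filter]
    exact Finset.sum_comm
  have h1 : ∀ d ∈ U, (Finset.univ.filter (fun Q : Sylow p G => d ∈ NN Q)).card = n + 1 := by
    intro d hd
    obtain ⟨-, h1, h2, Q, hQ⟩ := Finset.mem_filter.mp hd
    have hdQ : d ∉ (Q : Subgroup G) := fun h => h2 (dvd_of_mem (M.Γ.cardP Q) h h1)
    rw [← M.Γ.fix_card hQ hdQ, Nat.card_eq_fintype_card, Fintype.card_subtype]
  have h2 : ∀ Q : Sylow p G, (U.filter (fun d => d ∈ NN Q)).card = p * e - p := by
    intro Q
    have h3 : U.filter (fun d => d ∈ NN Q) = (Finset.univ.filter (fun d : G => d ∈ NN Q)) \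
        (Finset.univ.filter (fun d : G => d ∈ (Q : Subgroup G))) := by
      ext d
      simp only [hU, Finset.mem_filter, Finset.mem_univ, true_and, Finset.mem_sdiff]
      constructor
      · rintro ⟨⟨h4, h5, -⟩, h6⟩
        exact ⟨h6, fun h => h5 (dvd_of_mem (M.Γ.cardP Q) h h4)⟩
      · rintro ⟨h4, h5⟩
        refine ⟨⟨fun h => h5 (h ▸ Subgroup.one_mem _), fun h => h5 ?_, Q, h4⟩, h4⟩
        exact mem_P_of_dvd (M.Γ.cardP Q) (M.Γ.cent Q) h4 h
    rw [h3, Finset.card_sdiff_of_subset]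
    · have h4 : (Finset.univ.filter (fun d : G => d ∈ NN Q)).card = p * e := by
        rw [← M.Γ.cardN Q, Nat.card_eq_fintype_card, Fintype.card_subtype]
      have h5 : (Finset.univ.filter (fun d : G => d ∈ (Q : Subgroup G))).card = p := by
        have h6 : Nat.card (Q : Subgroup G) = p := M.Γ.cardP Q
        rw [Nat.card_eq_fintype_card] at h6
        exact (Fintype.card_subtype (fun d : G => d ∈ (Q : Subgroup G))).symm.trans h6
      rw [h4, h5]
    · intro d hd
      rw [Finset.mem_filter] at hd ⊢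
      exact ⟨hd.1, Subgroup.le_normalizer hd.2⟩
  rw [Finset.sum_congr rfl h1, Finset.sum_congr rfl (fun Q _ => h2 Q), Finset.sum_const,
    Finset.sum_const, Finset.card_univ, ← Nat.card_eq_fintype_card, M.Γ.cardS, M.N.m_eq,
    smul_eq_mul, smul_eq_mul, M.N.nt] at hdouble
  have hcA := M.card_A
  rw [← hA] at hcA
  have he1 : 1 ≤ e := M.N.e_pos
  have ht0 : 0 < t := by have := M.N.t2; omega
  have h3 : U.card = A.card := by
    have h4 : U.card * t = (c * (p * (e - 1))) * t := by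
      rw [hdouble]
      have : p * e - p = p * (e - 1) := by rw [Nat.mul_sub, mul_one]
      rw [this]; ring
    have h5 : U.card = c * (p * (e - 1)) := Nat.eq_of_mul_eq_mul_right ht0 h4
    have h6 : ((c * (p * (e - 1)) : ℕ) : ℤ) = c * p * (e - 1) := by
      push_cast [Nat.cast_sub he1]; ring
    have h7 : (A.card : ℤ) = ((c * (p * (e - 1)) : ℕ) : ℤ) := by rw [h6]; exact hcA
    rw [h5]; exact_mod_cast h7.symm
  have h4 : U = A := Finset.eq_of_subset_of_card_le hUA h3.symm.le
  have h5 : g ∈ U := by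
    rw [h4]; exact Finset.mem_filter.mpr ⟨Finset.mem_univ _, hg1, hgp, r, hr, hrt, hrg⟩
  exact (Finset.mem_filter.mp h5).2.2.2

end Cfsg.Agent.H4.BRcnt
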