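import Mathlib
import Cfsg.Agent.H4_BRcnt2

/-! The end of the case of sign `-1`. -/

set_option autoImplicit false

namespace Cfsg.Agent.H4.BRlast

open Cfsg Cfsg.Agent.H4.BRgr Cfsg.Agent.H4.BRar
  Cfsg.Agent.H4.BRdata Cfsg.Agent.H4.BRdeg Cfsg.Agent.H4.BRv Cfsg.Agent.H4.BRcase Cfsg.Agent.H4.BRind
  Cfsg.Agent.H4.BRfr Cfsg.Agent.H4.BRgeo Cfsg.Agent.H4.BRavg Cfsg.Agent.H4.BRcnt

universe u

variable {G : Type u} [Group G] [Fintype G] {p : ℕ} [hp : Fact p.Prime] {P : Sylow p G} {e t n a c : ℕ}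
  {X Y S : Finset (IrrCharacter G)} {δ : IrrCharacter G → ℤ} {ε : ℤ}

/-- Intersections are cyclic. -/
theorem cyc (Γ : Geo G p e n) {Q : Sylow p G} {d : G} (hd : d ∉ (Q : Subgroup G)) :
    IsCyclic (Subgroup.centralizer {d} ⊓ NN Q : Subgroup G) := by
  haveI : IsCyclic (Q : Subgroup G) := isCyclic_of_prime_card (Γ.cardP Q)
  haveI : Fact (Nat.card (Q : Subgroup G)).Prime := ⟨by
    rw [show Nat.card (Q : Subgroup G) = p from Γ.cardP Q]; exact hp.out⟩
  haveI : IsCyclic (MulAut (Q : Subgroup G)) := by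
    haveI : IsCyclic (ZMod (Nat.card (Q : Subgroup G)))ˣ := inferInstance
    exact isCyclic_of_injective (IsCyclic.mulAutMulEquiv (Q : Subgroup G)).toMonoidHom
      (IsCyclic.mulAutMulEquiv (Q : Subgroup G)).injective
  let f : (Subgroup.centralizer {d} ⊓ NN Q : Subgroup G) →* MulAut (Q : Subgroup G) :=
    ((Q : Subgroup G).normalizerMonoidHom).comp (Subgroup.inclusion inf_le_right)
  refine isCyclic_of_injective f ?_
  rw [injective_iff_map_eq_one]
  intro y hy
  have h1 : (Subgroup.inclusion inf_le_right y : NN Q) ∈ ((Q : Subgroup G).normalizerMonoidHom).ker := by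
    rw [MonoidHom.mem_ker]; exact hy
  rw [Subgroup.normalizerMonoidHom_ker, Subgroup.mem_subgroupOf, Γ.cent Q] at h1
  have h2 := (Subgroup.mem_inf.mp y.2).1
  rw [Subgroup.mem_centralizer_singleton_iff] at h2
  exact Subtype.ext (Γ.fpf hd h1 h2)

/-- uniqueness of elements of prime order in a cyclic subgroup -/
theorem cyc_unique {H : Subgroup G} (hH : IsCyclic H) {r : ℕ} (hr : r.Prime) {x y : G}
    (hx : x ∈ H) (hy : y ∈ H) (hxo : orderOf x = r) (hyo : y ^ r = 1) :
    y ∈ Subgroup.zpowers x := by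
  classical
  haveI : Fintype H := Fintype.ofFinite _
  have h1 := IsCyclic.card_pow_eq_one_le (α := H) hr.pos
  have h2 : (Finset.univ.filter (fun z : H => (z : G) ∈ Subgroup.zpowers x)) ⊆
      Finset.univ.filter (fun z : H => z ^ r = 1) := by
    intro z hz
    rw [Finset.mem_filter] at hz ⊢
    refine ⟨Finset.mem_univ _, ?_⟩
    apply Subtype.ext
    obtain ⟨k, hk⟩ := Subgroup.mem_zpowers_iff.mp hz.2
    rw [Subgroup.coe_pow, ← hk, ← zpow_natCast, ← zpow_mul, mul_comm, zpow_mul, zpow_natCast,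
      ← hxo, pow_orderOf_eq_one, one_zpow]; rfl
  have h3 : (Finset.univ.filter (fun z : H => (z : G) ∈ Subgroup.zpowers x)).card = r := by
    have h4 : Nat.card (Subgroup.zpowers x) = r := by rw [Nat.card_zpowers, hxo]
    have hle : Subgroup.zpowers x ≤ H := by rw [Subgroup.zpowers_le]; exact hx
    have h5 : Nat.card ((Subgroup.zpowers x).subgroupOf H) = r := by
      rw [Nat.card_congr (Subgroup.subgroupOfEquivOfLe hle).toEquiv, h4]
    rw [Nat.card_eq_fintype_card] at h5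
    exact (Fintype.card_subtype (fun z : H => (z : G) ∈ Subgroup.zpowers x)).symm.trans h5
  have h4 := Finset.eq_of_subset_of_card_le h2 (by rw [h3]; exact h1)
  have h5 : (⟨y, hy⟩ : H) ∈ Finset.univ.filter (fun z : H => z ^ r = 1) := by
    rw [Finset.mem_filter]
    exact ⟨Finset.mem_univ _, Subtype.ext hyo⟩
  rw [← h4] at h5
  exact (Finset.mem_filter.mp h5).2

variable (M : Min P e t n a c X Y δ)
include M

/-- orders of the elements -/
theorem order_dvd {g : G} (hg1 : g ≠ 1) (hgp : ¬ p ∣ orderOf g) {r : ℕ} (hr : r.Prime)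
    (hrt : r ∣ t * e) (hrg : r ∣ orderOf g) : orderOf g ∣ e := by
  obtain ⟨Q, hQ⟩ := M.exists_NN hg1 hgp hr hrt hrg
  have h1 : orderOf g ∣ p * e := by
    rw [← M.Γ.cardN Q]; exact Subgroup.orderOf_dvd_natCard _ hQ
  have h2 : (orderOf g).Coprime p := by
    rw [Nat.coprime_comm]
    exact (Nat.Prime.coprime_iff_not_dvd hp.out).mpr hgp
  exact h2.dvd_of_dvd_mul_left h1

theorem lt_p {r : ℕ} (hrt : r ∣ t * e) : r < p := by
  have h0 : 0 < t * e := by
    have := M.N.t2; have := M.N.e_pos; positivity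
  have := Nat.le_of_dvd h0 hrt
  have := M.N.pt
  omega

theorem prime_dvd_t {r : ℕ} (hr : r.Prime) (hrt : r ∣ t) : r = 2 := by
  haveI : Fact r.Prime := ⟨hr⟩
  have h1 : r ∣ Nat.card G := by rw [M.card_G]; exact Dvd.dvd.mul_right (Dvd.dvd.mul_right hrt _) _
  obtain ⟨g, hg⟩ := exists_prime_orderOf_dvd_card' r h1
  have hrp := lt_p M (Dvd.dvd.mul_right hrt e)
  have hgp : ¬ p ∣ orderOf g := by
    rw [hg]; intro h
    exact absurd (Nat.le_of_dvd hr.pos h) (by omega)
  have hg1 : g ≠ 1 := by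
    rintro rfl; rw [orderOf_one] at hg; exact hr.one_lt.ne hg
  have h2 := order_dvd M hg1 hgp hr (Dvd.dvd.mul_right hrt e) (by rw [hg])
  rw [hg, M.N.ea] at h2
  have h3 : r ∣ 2 := (Nat.dvd_add_right (Dvd.dvd.mul_left hrt a)).mp h2
  exact (Nat.prime_dvd_prime_iff_eq hr Nat.prime_two).mp h3

theorem t_pow : ∃ k : ℕ, 1 ≤ k ∧ t = 2 ^ k := by
  have h1 := Nat.eq_prime_pow_of_unique_prime_dvd (n := t) (p := 2) (by have := M.N.t2; omega)
    (fun {d} hd hdt => prime_dvd_t M hd hdt)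
  refine ⟨_, ?_, h1⟩
  by_contra h
  have h2 : t.primeFactorsList.length = 0 := by omega
  rw [h2, pow_zero] at h1
  have := M.N.t2; omega

/-- a 2-element has order dividing `e`. -/
theorem two_order {s : G} (hs1 : s ≠ 1) (hs : ∃ k : ℕ, orderOf s = 2 ^ k) (hodd : p ≠ 2) :
    2 ∣ orderOf s ∧ ¬ p ∣ orderOf s ∧ orderOf s ∣ e := by
  obtain ⟨k, hk⟩ := hs
  have hk0 : k ≠ 0 := by
    rintro rfl
    rw [pow_zero, orderOf_eq_one_iff] at hk
    exact hs1 hk
  have h2 : 2 ∣ orderOf s := by rw [hk]; exact dvd_pow_self 2 hk0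
  have hp2 : ¬ p ∣ orderOf s := by
    rw [hk]; intro h
    have := hp.out.dvd_of_dvd_pow h
    exact hodd ((Nat.prime_dvd_prime_iff_eq hp.out Nat.prime_two).mp this)
  obtain ⟨j, hj, ht⟩ := t_pow M
  have h2t : 2 ∣ t * e := by
    rw [ht]; exact Dvd.dvd.mul_right (dvd_pow_self 2 (by omega)) e
  exact ⟨h2, hp2, order_dvd M hs1 hp2 Nat.prime_two h2t h2⟩

/-- If `a > 0` then `t = 2`. -/
theorem t_eq_two (ha : 0 < a) (hodd : p ≠ 2) : t = 2 := by
  classical
  obtain ⟨k, hk, ht⟩ := t_pow M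
  by_contra hne
  have hk2 : 2 ≤ k := by
    by_contra h
    have : k = 1 := by omega
    rw [this, pow_one] at ht
    exact hne ht
  have h4t : 4 ∣ t := by
    rw [ht]; exact pow_dvd_pow 2 hk2
  have hte2 : 2 ∣ t * e := Dvd.dvd.mul_right ((show 2 ∣ 4 by norm_num).trans h4t) e
  obtain ⟨t', ht'⟩ := h4t
  -- e ≡ 2 mod 4
  have hat4 : a * (4 * t') = 4 * (a * t') := by ring
  have he4 : ¬ 4 ∣ e := by
    rw [M.N.ea, ht', hat4]; omega
  have he2 : 2 ∣ e := by rw [M.N.ea, ht', hat4]; omega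
  obtain ⟨e', he'⟩ := he2
  have he'odd : ¬ 2 ∣ e' := by
    intro h; apply he4; obtain ⟨w, hw⟩ := h; exact ⟨w, by rw [he', hw]; ring⟩
  have he'1 : e' ≠ 1 := by
    intro h
    have h1 := M.N.ea
    rw [he', h, ht'] at h1
    have h2 : 0 < t' := by
      rcases Nat.eq_zero_or_pos t' with h | h
      · rw [h] at ht'; have := M.N.t2; omega
      · exact h
    have h3 : 0 < a * (4 * t') := by positivity
    omega
  obtain ⟨r, hr, hre'⟩ := Nat.exists_prime_and_dvd he'1
  haveI : Fact r.Prime := ⟨hr⟩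
  have hr2 : r ≠ 2 := by rintro rfl; exact he'odd hre'
  have hre : r ∣ e := by rw [he']; exact Dvd.dvd.mul_left hre' 2
  have hrodd : Odd r := hr.odd_of_ne_two hr2
  have hrp : r < p := lt_p M (Dvd.dvd.mul_left hre t)
  -- Sylow 2-subgroup
  obtain ⟨T⟩ : Nonempty (Sylow 2 G) := inferInstance
  have h8 : 8 ≤ Nat.card (T : Subgroup G) := by
    have h1 : 2 ^ 3 ∣ Nat.card G := by
      rw [M.card_G, ht', he']; exact ⟨t' * c * (p * e'), by ring⟩
    have h2 : 2 ^ 3 ∣ Nat.card (T : Subgroup G) := T.pow_dvd_card_of_pow_dvd_card h1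
    have := Nat.le_of_dvd Nat.card_pos h2
    omega
  have hTpow : ∀ s ∈ (T : Subgroup G), ∃ k : ℕ, orderOf s = 2 ^ k := by
    intro s hs
    obtain ⟨k, hk⟩ := (IsPGroup.iff_orderOf.mp T.2) ⟨s, hs⟩
    refine ⟨k, ?_⟩
    rw [← hk, Subgroup.orderOf_mk]
  have hTo : ∀ s ∈ (T : Subgroup G), s ≠ 1 → orderOf s = 2 := by
    intro s hs hs1
    obtain ⟨h2, -, h3⟩ := two_order M hs1 (hTpow s hs) hodd
    obtain ⟨k, hk⟩ := hTpow s hs
    rcases Nat.lt_or_ge k 2 with h | h
    · interval_cases k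
      · rw [hk] at h2; norm_num at h2
      · rw [hk]; norm_num
    · exfalso
      apply he4
      refine dvd_trans ?_ h3
      rw [hk]; exact pow_dvd_pow 2 h
  have hTsq : ∀ s ∈ (T : Subgroup G), s * s = 1 := by
    intro s hs
    by_cases hs1 : s = 1
    · rw [hs1, one_mul]
    · have := hTo s hs hs1
      rw [← sq, ← this, pow_orderOf_eq_one]
  have hTcomm : ∀ s ∈ (T : Subgroup G), ∀ s' ∈ (T : Subgroup G), s * s' = s' * s := by
    intro s hs s' hs'
    have h1 := hTsq s hs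
    have h2 := hTsq s' hs'
    have h3 := hTsq _ (mul_mem hs hs')
    calc s * s' = s * (s * s' * (s * s')) * s' := by rw [h3]; group
      _ = (s * s) * (s' * s) * (s' * s') := by group
      _ = s' * s := by rw [h1, h2]; group
  obtain ⟨i, hiT, hi1⟩ : ∃ i ∈ (T : Subgroup G), i ≠ 1 := by
    have : Nontrivial (T : Subgroup G) := by
      rw [← Finite.one_lt_card_iff_nontrivial]; omega
    obtain ⟨x, hx⟩ := exists_ne (1 : (T : Subgroup G))
    exact ⟨x, x.2, fun h => hx (Subtype.ext h)⟩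
  have hio : orderOf i = 2 := hTo i hiT hi1
  have hnotQ : ∀ (Q : Sylow p G) (s : G), s ≠ 1 → orderOf s = 2 → s ∉ (Q : Subgroup G) := by
    intro Q s hs1 hs hsQ
    rw [orderOf_eq (M.Γ.cardP Q) hsQ hs1] at hs
    exact hodd hs
  obtain ⟨Q, hiQ⟩ := M.exists_NN hi1 (two_order M hi1 (hTpow i hiT) hodd).2.1 Nat.prime_two hte2
    (by rw [hio])
  have hiQ' := hnotQ Q i hi1 hio
  -- general facts about centralizers in normalizers
  have hcardC : ∀ (Q : Sylow p G) (d : G), d ∈ NN Q → d ∉ (Q : Subgroup G) →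
      Nat.card (Subgroup.centralizer {d} ⊓ NN Q : Subgroup G) = e := by
    intro Q d hd hd'
    have h1 := M.Γ.fix_card hd hd'
    obtain ⟨R, hR, hRQ⟩ : ∃ R : Sylow p G, d ∈ NN R ∧ R ≠ Q := by
      by_contra hcon
      push Not at hcon
      have : Nat.card {R : Sylow p G // d ∈ NN R} ≤ 1 := by
        haveI : Subsingleton {R : Sylow p G // d ∈ NN R} :=
          ⟨fun a b => Subtype.ext ((hcon a a.2).trans (hcon b b.2).symm)⟩
        exact Finite.card_le_one_iff_subsingleton.mpr inferInstance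
      have := M.N.t2; have := M.N.nt; omega
    have hd1 : d ≠ 1 := fun h => hd' (h ▸ Subgroup.one_mem _)
    rw [← M.Γ.K_eq hRQ.symm hd hR hd1]
    exact M.Γ.cardK Q R hRQ.symm
  set E : Subgroup G := Subgroup.centralizer {i} ⊓ NN Q with hE
  have hEe : Nat.card E = e := hcardC Q i hiQ hiQ'
  have hEcyc : IsCyclic E := cyc M.Γ hiQ'
  have hEcomm : ∀ x ∈ E, ∀ y ∈ E, x * y = y * x := by
    intro x hx y hy
    have : IsMulCommutative E := IsCyclic.isMulCommutative
    exact congrArg Subtype.val (this.1.1 ⟨x, hx⟩ ⟨y, hy⟩)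
  have hiE : i ∈ E := Subgroup.mem_inf.mpr ⟨Subgroup.mem_centralizer_singleton_iff.mpr rfl, hiQ⟩
  -- all of E fixes the fixed points of i
  have hEfix : ∀ R : Sylow p G, i ∈ NN R → E ≤ NN R := by
    intro R hR y hy
    by_cases hRQ : R = Q
    · rw [hRQ]; exact (Subgroup.mem_inf.mp hy).2
    · rw [hE, ← M.Γ.K_eq (Ne.symm hRQ) hiQ hR hi1] at hy
      exact (Subgroup.mem_inf.mp hy).2
  obtain ⟨x, hx⟩ := exists_prime_orderOf_dvd_card' (G := E) r (by rw [hEe]; exact hre)
  have hxo : orderOf (x : G) = r := by rw [Subgroup.orderOf_coe]; exact hx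
  have hxE : (x : G) ∈ E := x.2
  have hx1 : (x : G) ≠ 1 := by
    intro h; rw [h, orderOf_one] at hxo; exact hr.one_lt.ne hxo
  -- T acts on E
  have hTE : ∀ s ∈ (T : Subgroup G), ∀ y ∈ E, s * y * s⁻¹ ∈ E := by
    intro s hs y hy
    have hsi : s * i = i * s := hTcomm s hs i hiT
    refine Subgroup.mem_inf.mpr ⟨?_, ?_⟩
    · have h1 := Subgroup.mem_centralizer_singleton_iff.mp (Subgroup.mem_inf.mp hy).1
      rw [Subgroup.mem_centralizer_singleton_iff]
      have h2 : s⁻¹ * i = i * s⁻¹ := by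
        calc s⁻¹ * i = s⁻¹ * (i * s) * s⁻¹ := by group
          _ = s⁻¹ * (s * i) * s⁻¹ := by rw [hsi]
          _ = i * s⁻¹ := by group
      calc s * y * s⁻¹ * i = s * y * (s⁻¹ * i) := by group
        _ = s * y * (i * s⁻¹) := by rw [h2]
        _ = s * (y * i) * s⁻¹ := by group
        _ = s * (i * y) * s⁻¹ := by rw [h1]
        _ = (s * i) * y * s⁻¹ := by group
        _ = (i * s) * y * s⁻¹ := by rw [hsi]
        _ = i * (s * y * s⁻¹) := by group
    · have h1 : i ∈ NN (s⁻¹ • Q) := by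
        rw [mem_NN_smul, inv_inv]
        have : s * i * s⁻¹ = i := by rw [hsi]; group
        rw [this]; exact hiQ
      have h2 := hEfix _ h1 hy
      rw [mem_NN_smul, inv_inv] at h2
      exact h2
  have hTx : ∀ s ∈ (T : Subgroup G), s * x * s⁻¹ = x ∨ s * x * s⁻¹ = (x : G)⁻¹ := by
    intro s hs
    have h1 : (s * x * s⁻¹) ^ r = 1 := by
      rw [conj_pow, ← hxo, pow_orderOf_eq_one]; group
    obtain ⟨k, hk⟩ := Subgroup.mem_zpowers_iff.mp (cyc_unique hEcyc hr hxE (hTE s hs x hxE) hxo h1)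
    have h2 : (x : G) ^ (k * k) = x := by
      have hss : s⁻¹ = s := by
        have := hTsq s hs
        exact inv_eq_of_mul_eq_one_left this
      calc (x : G) ^ (k * k) = ((x : G) ^ k) ^ k := by rw [zpow_mul]
        _ = (s * x * s⁻¹) ^ k := by rw [hk]
        _ = s * (x : G) ^ k * s⁻¹ := by rw [conj_zpow]
        _ = s * (s * x * s⁻¹) * s⁻¹ := by rw [hk]
        _ = (s * s) * x * (s⁻¹ * s⁻¹) := by group
        _ = x := by rw [hss, hTsq s hs]; group
    have h3 : (x : G) ^ (k * k - 1) = 1 := by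
      rw [zpow_sub, h2, zpow_one, mul_inv_cancel]
    have h4 : (r : ℤ) ∣ k * k - 1 := by
      rw [← hxo]; exact orderOf_dvd_iff_zpow_eq_one.mpr h3
    have h5 : (r : ℤ) ∣ (k - 1) * (k + 1) := by
      have : (k - 1) * (k + 1) = k * k - 1 := by ring
      rw [this]; exact h4
    rcases (Nat.prime_iff_prime_int.mp hr).dvd_or_dvd h5 with h6 | h6
    · left
      rw [← hk]
      have : (x : G) ^ (k - 1) = 1 := by
        rw [← hxo] at h6; exact orderOf_dvd_iff_zpow_eq_one.mp h6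
      calc (x : G) ^ k = (x : G) ^ (k - 1) * x := by rw [zpow_sub, zpow_one]; group
        _ = x := by rw [this, one_mul]
    · right
      rw [← hk]
      have : (x : G) ^ (k + 1) = 1 := by
        rw [← hxo] at h6; exact orderOf_dvd_iff_zpow_eq_one.mp h6
      calc (x : G) ^ k = (x : G) ^ (k + 1) * (x : G)⁻¹ := by rw [zpow_add, zpow_one]; group
        _ = (x : G)⁻¹ := by rw [this, one_mul]
  -- those commuting with x
  have hT1 : ∀ s ∈ (T : Subgroup G), s * x = x * s → s = 1 ∨ s = i := by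
    intro s hs hsx
    by_cases hs1 : s = 1
    · left; exact hs1
    right
    have hso := hTo s hs hs1
    have hcop : (orderOf (x : G)).Coprime (orderOf s) := by
      rw [hxo, hso]; exact (Nat.coprime_primes hr Nat.prime_two).mpr hr2
    have hcom : Commute (x : G) s := hsx.symm
    have hgo : orderOf ((x : G) * s) = r * 2 := by
      rw [hcom.orderOf_mul_eq_mul_orderOf_of_coprime hcop, hxo, hso]
    have hgp : ¬ p ∣ orderOf ((x : G) * s) := by
      rw [hgo]; intro h
      rcases (Nat.Prime.dvd_mul hp.out).mp h with h | h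
      · exact absurd (Nat.le_of_dvd hr.pos h) (by omega)
      · exact hodd ((Nat.prime_dvd_prime_iff_eq hp.out Nat.prime_two).mp h)
    have hg1 : (x : G) * s ≠ 1 := by
      intro h; rw [h, orderOf_one] at hgo; have := hr.two_le; omega
    obtain ⟨R, hR⟩ := M.exists_NN hg1 hgp Nat.prime_two hte2 (by rw [hgo]; exact Dvd.intro_left _ rfl)
    have hsR : s ∈ NN R := by
      have h1 : ((x : G) * s) ^ r = s := by
        rw [hcom.mul_pow, ← hxo, pow_orderOf_eq_one, one_mul, hxo]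
        obtain ⟨w, hw⟩ := hrodd
        rw [hw, pow_add, pow_mul, sq, hTsq s hs, one_pow, one_mul, pow_one]
      rw [← h1]; exact pow_mem hR r
    have hxR : (x : G) ∈ NN R := by
      have h1 : (x : G) = ((x : G) * s) * s⁻¹ := by group
      rw [h1]; exact mul_mem hR (inv_mem hsR)
    have hiR : i ∈ NN R := by
      by_cases hRQ : R = Q
      · rw [hRQ]; exact hiQ
      have hxQ : (x : G) ∈ NN Q := (Subgroup.mem_inf.mp hxE).2
      have h1 := M.Γ.K_eq (Ne.symm hRQ) hxQ hxR hx1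
      have h2 : i ∈ (Subgroup.centralizer {(x : G)} ⊓ NN Q : Subgroup G) :=
        Subgroup.mem_inf.mpr ⟨Subgroup.mem_centralizer_singleton_iff.mpr (hEcomm i hiE x hxE), hiQ⟩
      rw [← h1] at h2
      exact (Subgroup.mem_inf.mp h2).2
    have hsR' := hnotQ R s hs1 hso
    have hF := cyc M.Γ hsR'
    have h1 : i ∈ (Subgroup.centralizer {s} ⊓ NN R : Subgroup G) :=
      Subgroup.mem_inf.mpr ⟨Subgroup.mem_centralizer_singleton_iff.mpr (hTcomm i hiT s hs), hiR⟩
    have h2 : s ∈ (Subgroup.centralizer {s} ⊓ NN R : Subgroup G) :=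
      Subgroup.mem_inf.mpr ⟨Subgroup.mem_centralizer_singleton_iff.mpr rfl, hsR⟩
    obtain ⟨k, hk⟩ := Subgroup.mem_zpowers_iff.mp
      (cyc_unique hF Nat.prime_two h1 h2 hio (by rw [sq]; exact hTsq s hs))
    rcases Int.even_or_odd k with ⟨w, hw⟩ | ⟨w, hw⟩
    · exfalso; apply hs1
      rw [← hk, hw, ← two_mul, zpow_mul, zpow_ofNat, sq, hTsq i hiT, one_zpow]
    · rw [← hk, hw, zpow_add, zpow_mul, zpow_ofNat, sq, hTsq i hiT, one_zpow, one_mul, zpow_one]
  -- count
  haveI : Fintype (T : Subgroup G) := Fintype.ofFinite _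
  let T1 : Finset (T : Subgroup G) := Finset.univ.filter (fun s => (s : G) * x = x * s)
  let T2 : Finset (T : Subgroup G) := Finset.univ.filter (fun s => ¬ (s : G) * x = x * s)
  have hT1c : T1.card ≤ 2 := by
    have h1 : T1 ⊆ {1, ⟨i, hiT⟩} := by
      intro s hs
      rcases hT1 s s.2 (Finset.mem_filter.mp hs).2 with h | h
      · rw [Finset.mem_insert]; left; exact Subtype.ext h
      · rw [Finset.mem_insert, Finset.mem_singleton]; right; exact Subtype.ext h
    exact (Finset.card_le_card h1).trans Finset.card_le_two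
  have hT2c : T2.card ≤ T1.card := by
    rcases T2.eq_empty_or_nonempty with h | ⟨s0, hs0⟩
    · rw [h, Finset.card_empty]; exact Nat.zero_le _
    have hinv : ∀ s ∈ T2, (s : G) * x * (s : G)⁻¹ = (x : G)⁻¹ := by
      intro s hs
      rcases hTx s s.2 with h | h
      · exfalso
        apply (Finset.mem_filter.mp hs).2
        calc (s : G) * x = ((s : G) * x * (s : G)⁻¹) * s := by group
          _ = x * s := by rw [h]
      · exact h
    apply Finset.card_le_card_of_injOn (fun s => s0 * s)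
    · intro s hs
      rw [Finset.mem_coe] at hs ⊢
      rw [Finset.mem_filter]
      refine ⟨Finset.mem_univ _, ?_⟩
      have h1 := hinv s hs
      have h2 := hinv s0 hs0
      have h3 : (s0 : G) * (x : G)⁻¹ * (s0 : G)⁻¹ = x := by
        calc (s0 : G) * (x : G)⁻¹ * (s0 : G)⁻¹ = ((s0 : G) * x * (s0 : G)⁻¹)⁻¹ := by group
          _ = x := by rw [h2, inv_inv]
      show ((s0 : G) * s) * x = x * ((s0 : G) * s)
      calc ((s0 : G) * s) * x = s0 * ((s : G) * x * (s : G)⁻¹) * (s0 : G)⁻¹ * (s0 * s) := by group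
        _ = (s0 : G) * (x : G)⁻¹ * (s0 : G)⁻¹ * (s0 * s) := by rw [h1]
        _ = x * ((s0 : G) * s) := by rw [h3]
    · intro s _ s' _ h
      exact mul_left_cancel h
  have hsum : T1.card + T2.card = Nat.card (T : Subgroup G) := by
    rw [Finset.card_filter_add_card_filter_not, Finset.card_univ, Nat.card_eq_fintype_card]
  omega

end Cfsg.Agent.H4.BRlast
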