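import Mathlib
import Cfsg.Prelude.Def_Involutions
import Cfsg.Agent.H4_Inv
import Cfsg.Agent.H4_Util
import Cfsg.Agent.H4_Iso

set_option autoImplicit false

/-!
Strongly embedded subgroups: basic counting facts (Bender, Suzuki).
-/

namespace Cfsg.Agent.H4.SE

open Cfsg.Agent.H4.Inv Cfsg.Agent.H4.Util

variable {G : Type*} [Group G]

theorem mem_inf_conj (H : Subgroup G) (g t : G) :
    t ∈ (H ⊓ H.map (MulAut.conj g).toMonoidHom) ↔ t ∈ H ∧ g⁻¹ * t * g ∈ H := by
  rw [Subgroup.mem_inf, mem_conj_map]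

theorem even_of_mem [Finite G] {K : Subgroup G} {t : G} (ht : orderOf t = 2) (htK : t ∈ K) :
    Even (Nat.card K) := by
  have h1 := orderOf_dvd_natCard (⟨t, htK⟩ : K)
  rw [← Subgroup.orderOf_coe, ht] at h1
  exact even_iff_two_dvd.mpr h1

theorem mem_of_invol [Finite G] {H : Subgroup G} (hH : Cfsg.IsStronglyEmbedded H) {t g : G}
    (ht : orderOf t = 2) (htH : t ∈ H) (hg : g⁻¹ * t * g ∈ H) : g ∈ H := by
  by_contra hgH
  exact (Nat.not_even_iff_odd.mpr (hH.2.2 g hgH)) (even_of_mem ht ((mem_inf_conj H g t).mpr ⟨htH, hg⟩))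

theorem exists_invol [Finite G] {H : Subgroup G} (hH : Cfsg.IsStronglyEmbedded H) :
    ∃ t ∈ H, orderOf t = 2 := by
  obtain ⟨t, ht⟩ := exists_prime_orderOf_dvd_card' (G := H) 2 hH.2.1.two_dvd
  exact ⟨t, t.2, by rw [Subgroup.orderOf_coe]; exact ht⟩

theorem odd_index [Finite G] {H : Subgroup G} (hH : Cfsg.IsStronglyEmbedded H) : Odd H.index := by
  haveI : Fact (Nat.Prime 2) := ⟨Nat.prime_two⟩
  obtain ⟨P⟩ : Nonempty (Sylow 2 H) := inferInstance
  set Q : Subgroup G := (P : Subgroup H).map H.subtype with hQ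
  have hQp : IsPGroup 2 Q := P.isPGroup'.map _
  have hQH : Q ≤ H := Subgroup.map_subtype_le _
  obtain ⟨S, hS⟩ := hQp.exists_le_sylow
  by_cases hQS : Q = S
  · have h1 : (S : Subgroup G) ≤ H := hQS ▸ hQH
    have h2 : H.index ∣ (S : Subgroup G).index := Subgroup.index_dvd_of_le h1
    have h3 : ¬ 2 ∣ (S : Subgroup G).index := Sylow.not_dvd_index S
    rw [← Nat.not_even_iff_odd, even_iff_two_dvd]
    exact fun h => h3 (h.trans h2)
  · exfalso
    have hlt : Q < S := lt_of_le_of_ne hS hQS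
    obtain ⟨t, htS, htQ, htN⟩ := exists_normalizer_gt (p := 2) S.isPGroup' hlt
    have htH : t ∉ H := by
      intro htH
      -- Q ⊔ <t> is a 2-subgroup of H
      have h1 : IsPGroup 2 ↥(Q ⊔ Subgroup.zpowers t) :=
        S.isPGroup'.to_le (sup_le hS (by rw [Subgroup.zpowers_le]; exact htS))
      have h2 : Q ⊔ Subgroup.zpowers t ≤ H := sup_le hQH (by rw [Subgroup.zpowers_le]; exact htH)
      have h3 : IsPGroup 2 ((Q ⊔ Subgroup.zpowers t).subgroupOf H) := h1.of_equiv
        (Subgroup.subgroupOfEquivOfLe h2).symm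
      have h4 : (P : Subgroup H) ≤ (Q ⊔ Subgroup.zpowers t).subgroupOf H := by
        intro x hx
        rw [Subgroup.mem_subgroupOf]
        exact Subgroup.mem_sup_left ⟨x, hx, rfl⟩
      have h5 := P.is_maximal' h3 h4
      apply htQ
      have h6 : (⟨t, htH⟩ : H) ∈ (Q ⊔ Subgroup.zpowers t).subgroupOf H := by
        rw [Subgroup.mem_subgroupOf]
        exact Subgroup.mem_sup_right (Subgroup.mem_zpowers t)
      rw [h5] at h6
      exact ⟨_, h6, rfl⟩
    -- an involution in Q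
    have hPne : (P : Subgroup H) ≠ ⊥ := by
      intro h
      have h1 := Sylow.not_dvd_index P
      rw [h, Subgroup.index_bot] at h1
      exact h1 hH.2.1.two_dvd
    have h2Q : 2 ∣ Nat.card Q := by
      rw [← even_iff_two_dvd]
      obtain ⟨k, hk⟩ := (IsPGroup.iff_card (p := 2)).mp hQp
      rw [hk]
      rcases Nat.eq_zero_or_pos k with h0 | h0
      · exfalso
        rw [h0, pow_zero, Subgroup.card_eq_one] at hk
        apply hPne
        rw [eq_bot_iff]
        intro x hx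
        have : (x : G) ∈ Q := ⟨x, hx, rfl⟩
        rw [hk, Subgroup.mem_bot] at this
        rw [Subgroup.mem_bot]
        exact Subtype.ext this
      · exact (Nat.even_pow.mpr ⟨even_two, h0.ne'⟩)
    obtain ⟨s, hs⟩ := exists_prime_orderOf_dvd_card' (G := Q) 2 h2Q
    have hs2 : orderOf (s : G) = 2 := by rw [Subgroup.orderOf_coe]; exact hs
    have hinv := Subgroup.inv_mem _ htN
    have h7 : t⁻¹ * s * t ∈ Q := by
      have := (Subgroup.mem_normalizer_iff.mp hinv s).mp s.2
      simpa using this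
    exact htH (mem_of_invol hH hs2 (hQH s.2) (hQH h7))

/-- every involution fixes exactly one coset -/
theorem smul_mk_eq_iff (H : Subgroup G) (t g : G) :
    t • (QuotientGroup.mk g : G ⧸ H) = QuotientGroup.mk g ↔ g⁻¹ * t * g ∈ H := by
  change (QuotientGroup.mk (t * g) : G ⧸ H) = QuotientGroup.mk g ↔ _
  rw [eq_comm, QuotientGroup.eq, mul_assoc]

theorem fix_unique [Finite G] {H : Subgroup G} (hH : Cfsg.IsStronglyEmbedded H) {t : G}
    (ht : orderOf t = 2) {x y : G ⧸ H} (hx : t • x = x) (hy : t • y = y) : x = y := by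
  induction x using QuotientGroup.induction_on with | H a => ?_
  induction y using QuotientGroup.induction_on with | H b => ?_
  rw [smul_mk_eq_iff] at hx hy
  rw [QuotientGroup.eq]
  apply mem_of_invol hH (t := a⁻¹ * t * a) (by
    have := orderOf_conj a⁻¹ t
    rw [inv_inv] at this
    rw [this, ht]) hx
  have e : (a⁻¹ * b)⁻¹ * (a⁻¹ * t * a) * (a⁻¹ * b) = b⁻¹ * t * b := by group
  rw [e]; exact hy

theorem fix_exists [Finite G] {H : Subgroup G} (hH : Cfsg.IsStronglyEmbedded H) {t : G}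
    (ht : orderOf t = 2) : ∃ x : G ⧸ H, t • x = x := by
  haveI : Fact (Nat.Prime 2) := ⟨Nat.prime_two⟩
  have hp : IsPGroup 2 (Subgroup.zpowers t) := zpowers_isPGroup (k := 1) (by simpa using ht)
  have h1 : ¬ 2 ∣ Nat.card (G ⧸ H) := by
    have := odd_index hH
    rw [← Nat.not_even_iff_odd, even_iff_two_dvd] at this
    exact this
  obtain ⟨x, hx⟩ := hp.nonempty_fixed_point_of_prime_not_dvd_card (G ⧸ H) h1
  exact ⟨x, hx ⟨t, Subgroup.mem_zpowers t⟩⟩

/-- involutions with different fixed points have a product of odd order -/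
theorem odd_mul [Finite G] {H : Subgroup G} (hH : Cfsg.IsStronglyEmbedded H) {s t : G}
    (hs : orderOf s = 2) (ht : orderOf t = 2) {x y : G ⧸ H} (hx : s • x = x) (hy : t • y = y)
    (hxy : x ≠ y) : Odd (orderOf (s * t)) := by
  rw [← Nat.not_even_iff_odd]
  intro heven
  obtain ⟨h1, h2, h3⟩ := even_central hs ht (orderOf_pos _).ne' heven
  set z := (s * t) ^ (orderOf (s * t) / 2)
  -- z fixes x and y
  have hzx : s • (z • x) = z • x := by
    rw [smul_smul, ← h2.eq, ← smul_smul, hx]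
  have hzy : t • (z • y) = z • y := by
    rw [smul_smul, ← h3.eq, ← smul_smul, hy]
  have h4 := fix_unique hH hs hzx hx
  have h5 := fix_unique hH ht hzy hy
  exact hxy (fix_unique hH h1 h4 h5)

/-- the midpoint involution -/
theorem exists_mid [Finite G] {s t : G} (hs : orderOf s = 2) (ht : orderOf t = 2)
    (hodd : Odd (orderOf (s * t))) : ∃ v : G, orderOf v = 2 ∧ v * s * v⁻¹ = t := by
  obtain ⟨k, hk⟩ := hodd
  set r := (s * t) ^ (k + 1) with hr
  have hr2 : r ^ 2 = s * t := by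
    rw [hr, ← pow_mul, show (k + 1) * 2 = orderOf (s * t) + 1 by omega, pow_succ,
      pow_orderOf_eq_one, one_mul]
  have hss := mul_self hs
  have hsr : s * r * s⁻¹ = r⁻¹ := by
    have := conj_mul_zpow hs ht ((k : ℤ) + 1)
    have e : (s * t) ^ ((k : ℤ) + 1) = r := by rw [hr, ← zpow_natCast]; congr 1
    rw [e] at this
    exact this
  have hsr' : s * r * s = r⁻¹ := by rw [← hsr, inv_eq hs]
  have hvv : (s * r) * (s * r) = 1 := by
    calc s * r * (s * r) = (s * r * s) * r := by group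
      _ = 1 := by rw [hsr']; group
  have hconj : (s * r) * s * (s * r)⁻¹ = t := by
    have e : (s * r)⁻¹ = s * r := inv_eq_of_mul_eq_one_left hvv
    calc (s * r) * s * (s * r)⁻¹ = s * r * s * (s * r) := by rw [e]
      _ = r⁻¹ * (s * r) := by rw [hsr']
      _ = s * (s * r⁻¹ * s) * r := by rw [← mul_assoc, ← mul_assoc, ← mul_assoc, hss, one_mul, mul_assoc]
      _ = s * (s * r * s)⁻¹ * r := by congr 2; rw [mul_inv_rev, mul_inv_rev, inv_eq hs, ← mul_assoc]
      _ = s * r ^ 2 := by rw [hsr', inv_inv, pow_two, mul_assoc]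
      _ = t := by rw [hr2, ← mul_assoc, hss, one_mul]
  refine ⟨s * r, orderOf_eq_two_of ?_ hvv, hconj⟩
  intro h
  have hst : t = s := by rw [← hconj, h]; simp
  rw [hst, hss] at hr2
  have hr1 : r = 1 := by
    rw [hr, hst, hss, one_pow]
  rw [hr1, mul_one] at h
  exact ne_one hs h

theorem mid_sq {s v : G} (hv : orderOf v = 2) : (s * v) ^ 2 = s * (v * s * v⁻¹) := by
  rw [pow_two, inv_eq hv]; simp only [mul_assoc]

/-- involutions of `G` fixing a given coset -/
abbrev If (H : Subgroup G) (x : G ⧸ H) := {t : G // orderOf t = 2 ∧ t • x = x}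

/-- involutions of `G` moving `x` to `y` -/
abbrev Im (H : Subgroup G) (x y : G ⧸ H) := {t : G // orderOf t = 2 ∧ t • x = y}

theorem card_If (H : Subgroup G) (x : G ⧸ H) :
    Nat.card (If H x) = Nat.card {t : G // orderOf t = 2 ∧ t ∈ H} := by
  induction x using QuotientGroup.induction_on with | H a => ?_
  refine Nat.card_congr ⟨fun t => ⟨a⁻¹ * t * a, ?_, ?_⟩, fun t => ⟨a * t * a⁻¹, ?_, ?_⟩, ?_, ?_⟩
  · have := orderOf_conj a⁻¹ t.1
    rw [inv_inv] at this
    rw [this, t.2.1]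
  · exact (smul_mk_eq_iff H t.1 a).mp t.2.2
  · rw [orderOf_conj]; exact t.2.1
  · rw [smul_mk_eq_iff]
    have e : a⁻¹ * (a * t.1 * a⁻¹) * a = t.1 := by group
    rw [e]; exact t.2.2
  · intro t; apply Subtype.ext; simp only; group
  · intro t; apply Subtype.ext; simp only; group

theorem card_Im [Finite G] {H : Subgroup G} (hH : Cfsg.IsStronglyEmbedded H) (x y : G ⧸ H)
    (hxy : x ≠ y) : Nat.card (Im H x y) = Nat.card {t : G // orderOf t = 2 ∧ t ∈ H} := by
  have hpos : 0 < Nat.card (If H x) := by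
    rw [card_If]
    obtain ⟨t, ht, ht2⟩ := exists_invol hH
    exact Nat.card_pos_iff.mpr ⟨⟨⟨t, ht2, ht⟩⟩, inferInstance⟩
  have hbij : Nat.card (If H x × Im H x y) = Nat.card (If H x × If H y) := by
    refine Nat.card_eq_of_bijective (fun p => (p.1, ⟨p.2.1 * p.1.1 * p.2.1⁻¹, ?_, ?_⟩)) ⟨?_, ?_⟩
    · rw [orderOf_conj]; exact p.1.2.1
    · obtain ⟨⟨a, ha, hax⟩, ⟨b, hb, hbx⟩⟩ := p
      simp only
      conv_lhs => rw [← hbx]
      rw [smul_smul, inv_mul_cancel_right, ← smul_smul, hax, hbx]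
    · rintro ⟨⟨t, ht, htx⟩, ⟨v, hv, hvx⟩⟩ ⟨⟨t', ht', htx'⟩, ⟨v', hv', hvx'⟩⟩ h
      simp only [Prod.mk.injEq, Subtype.mk.injEq] at h
      obtain ⟨h1, h2⟩ := h
      subst h1
      have hodd : ∀ v : G, orderOf v = 2 → v • x = y → Odd (orderOf (t * v)) := by
        intro v hv hvx
        obtain ⟨z, hz⟩ := fix_exists hH hv
        apply odd_mul hH ht hv htx hz
        rintro rfl
        exact hxy (hz.symm.trans hvx)
      have h3 : (t * v) ^ 2 = (t * v') ^ 2 := by rw [mid_sq hv, mid_sq hv', h2]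
      have h4 := Cfsg.Agent.H4.Iso.eq_of_sq_eq (hodd v hv hvx) (hodd v' hv' hvx') h3
      have h5 := mul_left_cancel h4
      subst h5
      rfl
    · rintro ⟨⟨t, ht, htx⟩, ⟨w, hw, hwy⟩⟩
      obtain ⟨v, hv, hvc⟩ := exists_mid ht hw (odd_mul hH ht hw htx hwy hxy)
      have hvx : v • x = y := by
        apply fix_unique hH hw _ hwy
        rw [← hvc, smul_smul, inv_mul_cancel_right, ← smul_smul, htx]
      refine ⟨(⟨t, ht, htx⟩, ⟨v, hv, hvx⟩), ?_⟩
      simp only [Prod.mk.injEq, Subtype.mk.injEq]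
      exact ⟨trivial, hvc⟩
  rw [Nat.card_prod, Nat.card_prod] at hbij
  have := Nat.eq_of_mul_eq_mul_left hpos hbij
  rw [this, card_If]

/-- any two involutions fixing `x` are conjugate by an element fixing `x` and `y` -/
theorem conj_two_point [Finite G] {H : Subgroup G} (hH : Cfsg.IsStronglyEmbedded H) {x y : G ⧸ H}
    (hxy : x ≠ y) {s t : G} (hs : orderOf s = 2) (ht : orderOf t = 2) (hsx : s • x = x)
    (htx : t • x = x) : ∃ d : G, d • x = x ∧ d • y = y ∧ d * s * d⁻¹ = t := by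
  have hpos : 0 < Nat.card (If H y) := by
    rw [card_If]
    obtain ⟨t, ht, ht2⟩ := exists_invol hH
    exact Nat.card_pos_iff.mpr ⟨⟨⟨t, ht2, ht⟩⟩, inferInstance⟩
  obtain ⟨⟨w, hw, hwy⟩⟩ := (Nat.card_pos_iff.mp hpos).1
  obtain ⟨v, hv, hvc⟩ := exists_mid hs hw (odd_mul hH hs hw hsx hwy hxy)
  obtain ⟨v', hv', hvc'⟩ := exists_mid ht hw (odd_mul hH ht hw htx hwy hxy)
  have hvx : v • x = y := by
    apply fix_unique hH hw _ hwy
    rw [← hvc, smul_smul, inv_mul_cancel_right, ← smul_smul, hsx]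
  have hvx' : v' • x = y := by
    apply fix_unique hH hw _ hwy
    rw [← hvc', smul_smul, inv_mul_cancel_right, ← smul_smul, htx]
  have hvy : v • y = x := by rw [← hvx, smul_smul, mul_self hv, one_smul]
  have hvy' : v' • y = x := by rw [← hvx', smul_smul, mul_self hv', one_smul]
  refine ⟨v' * v, ?_, ?_, ?_⟩
  · rw [mul_smul, hvx, hvy']
  · rw [mul_smul, hvy, hvx']
  · calc v' * v * s * (v' * v)⁻¹ = v' * (v * s * v⁻¹) * v'⁻¹ := by group
      _ = v'⁻¹ * (v' * t * v'⁻¹) * v' := by rw [hvc, hvc', inv_eq hv']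
      _ = t := by group

/-- all involutions are conjugate -/
theorem isConj_invol [Finite G] {H : Subgroup G} (hH : Cfsg.IsStronglyEmbedded H) {s t : G}
    (hs : orderOf s = 2) (ht : orderOf t = 2) : IsConj s t := by
  obtain ⟨x, hx⟩ := fix_exists hH hs
  obtain ⟨y, hy⟩ := fix_exists hH ht
  by_cases hxy : x = y
  · subst hxy
    -- another point
    have hne : ∃ y : G ⧸ H, x ≠ y := by
      by_contra hcon
      push Not at hcon
      apply hH.1
      rw [eq_top_iff]
      intro g _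
      have h1 : (QuotientGroup.mk g : G ⧸ H) = QuotientGroup.mk 1 :=
        (hcon _).symm.trans (hcon _)
      rw [eq_comm, QuotientGroup.eq] at h1
      simpa using h1
    obtain ⟨y, hy'⟩ := hne
    obtain ⟨d, -, -, hd⟩ := conj_two_point hH hy' hs ht hx hy
    exact isConj_iff.mpr ⟨d, hd⟩
  · exact isConj_of_odd hs ht (odd_mul hH hs ht hx hy hxy)

end Cfsg.Agent.H4.SE
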