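import Mathlib
import Cfsg.Prelude.Def_Involutions
import Cfsg.Agent.H4_Inv
import Cfsg.Agent.H4_Util
import Cfsg.Agent.H4_SE

set_option autoImplicit false

/-!
Groups in which centralizers of involutions are elementary abelian 2-groups.
-/

namespace Cfsg.Agent.H4.Elab

open Cfsg.Agent.H4.Inv Cfsg.Agent.H4.Util Cfsg.Agent.H4.SE

variable {G : Type*} [Group G] [Finite G]

/-- the hypothesis -/
def Hyp (G : Type*) [Group G] : Prop := ∀ t : G, orderOf t = 2 →
  IsMulCommutative (Subgroup.centralizer ({t} : Set G)) ∧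
    ∀ c ∈ Subgroup.centralizer ({t} : Set G), c ^ 2 = 1

omit [Finite G] in
theorem cent_comm (hC : Hyp G) {t a b : G} (ht : orderOf t = 2) (ha : Commute a t) (hb : Commute b t) :
    a * b = b * a := by
  have h := (hC t ht).1
  have h1 := h.1.1 ⟨a, Subgroup.mem_centralizer_singleton_iff.mpr ha.eq⟩
    ⟨b, Subgroup.mem_centralizer_singleton_iff.mpr hb.eq⟩
  exact congrArg (fun x : Subgroup.centralizer ({t} : Set G) => (x : G)) h1

omit [Finite G] in
theorem cent_sq (hC : Hyp G) {t a : G} (ht : orderOf t = 2) (ha : Commute a t) : a * a = 1 := by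
  rw [← pow_two]
  exact (hC t ht).2 a (Subgroup.mem_centralizer_singleton_iff.mpr ha.eq)

/-- a Sylow 2-subgroup is elementary abelian -/
theorem sylow_facts (T : Sylow 2 G) (hC : Hyp G) :
    (∀ a ∈ (T : Subgroup G), ∀ b ∈ (T : Subgroup G), a * b = b * a) ∧
      (∀ a ∈ (T : Subgroup G), a * a = 1) := by
  haveI : Fact (Nat.Prime 2) := ⟨Nat.prime_two⟩
  by_cases hT : Nontrivial (T : Subgroup G)
  · have h1 := T.isPGroup'.center_nontrivial
    have h2 : IsPGroup 2 (Subgroup.center (T : Subgroup G)) := T.isPGroup'.to_subgroup _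
    obtain ⟨z, hz⟩ : ∃ z : Subgroup.center (T : Subgroup G), orderOf z = 2 := by
      apply exists_prime_orderOf_dvd_card'
      obtain ⟨k, hk⟩ := (IsPGroup.iff_card (p := 2)).mp h2
      rcases Nat.eq_zero_or_pos k with h0 | h0
      · exfalso
        rw [h0, pow_zero] at hk
        have := Finite.one_lt_card (α := Subgroup.center (T : Subgroup G))
        omega
      · rw [hk]; exact dvd_pow_self 2 h0.ne'
    have hz2 : orderOf ((z : (T : Subgroup G)) : G) = 2 := by
      rw [Subgroup.orderOf_coe, Subgroup.orderOf_coe]; exact hz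
    have hc : ∀ a ∈ (T : Subgroup G), Commute a ((z : (T : Subgroup G)) : G) := by
      intro a ha
      exact congrArg Subtype.val (Subgroup.mem_center_iff.mp z.2 ⟨a, ha⟩)
    exact ⟨fun a ha b hb => cent_comm hC hz2 (hc a ha) (hc b hb),
      fun a ha => cent_sq hC hz2 (hc a ha)⟩
  · rw [not_nontrivial_iff_subsingleton] at hT
    have h1 : ∀ a ∈ (T : Subgroup G), a = 1 := fun a ha =>
      congrArg Subtype.val (Subsingleton.elim (⟨a, ha⟩ : (T : Subgroup G)) 1)
    exact ⟨fun a ha b hb => by rw [h1 a ha, h1 b hb], fun a ha => by rw [h1 a ha, mul_one]⟩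

/-- the centralizer of an involution of `T` is `T` -/
theorem mem_of_commute (T : Sylow 2 G) (hC : Hyp G) {t a : G} (ht : orderOf t = 2)
    (htT : t ∈ (T : Subgroup G)) (ha : Commute a t) : a ∈ (T : Subgroup G) := by
  have hCp : IsPGroup 2 (Subgroup.centralizer ({t} : Set G)) := by
    rintro ⟨c, hc⟩
    exact ⟨1, Subtype.ext (by simpa using (hC t ht).2 c hc)⟩
  have hTC : (T : Subgroup G) ≤ Subgroup.centralizer ({t} : Set G) := by
    intro x hx
    exact Subgroup.mem_centralizer_singleton_iff.mpr ((sylow_facts T hC).1 x hx t htT)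
  have := T.is_maximal' hCp hTC
  rw [← this]
  exact Subgroup.mem_centralizer_singleton_iff.mpr ha.eq

theorem ti (T : Sylow 2 G) (hC : Hyp G) {t g : G} (ht : orderOf t = 2)
    (htT : t ∈ (T : Subgroup G)) (hg : g⁻¹ * t * g ∈ (T : Subgroup G)) :
    g ∈ Subgroup.normalizer ((T : Subgroup G) : Set G) := by
  have hg2 : g⁻¹ ∈ Subgroup.normalizer ((T : Subgroup G) : Set G) := by
    apply mem_normalizer_of_forall
    intro y hy
    rw [inv_inv]
    apply mem_of_commute T hC (t := g⁻¹ * t * g) (by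
      have := orderOf_conj g⁻¹ t
      rw [inv_inv] at this
      rw [this, ht]) hg
    have h1 : Commute y t := (sylow_facts T hC).1 y hy t htT
    have := h1.map (MulAut.conj g⁻¹).toMonoidHom
    simpa using this
  simpa using Subgroup.inv_mem _ hg2

theorem invol_mem (T : Sylow 2 G) {t : G} {k : ℕ} (ht : orderOf t = 2 ^ k)
    (htN : t ∈ Subgroup.normalizer ((T : Subgroup G) : Set G)) : t ∈ (T : Subgroup G) := by
  haveI : Fact (Nat.Prime 2) := ⟨Nat.prime_two⟩
  have h3 : IsPGroup 2 (Subgroup.zpowers t) := zpowers_isPGroup ht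
  have h4 := h3.inf_normalizer_sylow T
  have h5 : t ∈ Subgroup.zpowers t ⊓ Subgroup.normalizer ((T : Subgroup G) : Set G) :=
    ⟨Subgroup.mem_zpowers _, htN⟩
  have h6 : t ∈ Subgroup.zpowers t ⊓ (T : Subgroup G) := h4 ▸ h5
  exact h6.2

theorem stronglyEmbedded (T : Sylow 2 G) (hnn : ¬ (T : Subgroup G).Normal) (hC : Hyp G) :
    Cfsg.IsStronglyEmbedded (Subgroup.normalizer ((T : Subgroup G) : Set G)) := by
  haveI : Fact (Nat.Prime 2) := ⟨Nat.prime_two⟩
  refine ⟨?_, ?_, ?_⟩
  · intro h
    exact hnn (Subgroup.normalizer_eq_top_iff.mp h)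
  · have hTne : (T : Subgroup G) ≠ ⊥ := by
      intro h
      apply hnn
      rw [h]; infer_instance
    have h2 : 2 ∣ Nat.card (T : Subgroup G) := by
      obtain ⟨k, hk⟩ := (IsPGroup.iff_card (p := 2)).mp T.isPGroup'
      rcases Nat.eq_zero_or_pos k with h0 | h0
      · exfalso
        rw [h0, pow_zero, Subgroup.card_eq_one] at hk
        exact hTne hk
      · rw [hk]; exact dvd_pow_self 2 h0.ne'
    exact even_iff_two_dvd.mpr (h2.trans (Subgroup.card_dvd_of_le Subgroup.le_normalizer))
  · intro g hg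
    rw [← Nat.not_even_iff_odd]
    intro heven
    obtain ⟨t, ht⟩ := exists_prime_orderOf_dvd_card' (G := ↥(Subgroup.normalizer ((T : Subgroup G) : Set G) ⊓
      (Subgroup.normalizer ((T : Subgroup G) : Set G)).map (MulAut.conj g).toMonoidHom)) 2 heven.two_dvd
    have ht2 : orderOf (t : G) = 2 := by rw [Subgroup.orderOf_coe]; exact ht
    obtain ⟨h1, h2⟩ := (mem_inf_conj _ g (t : G)).mp t.2
    apply hg
    apply ti T hC ht2 (invol_mem T (k := 1) (by simpa using ht2) h1)
    apply invol_mem T (k := 1) _ h2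
    have := orderOf_conj g⁻¹ (t : G)
    rw [inv_inv] at this
    rw [this, ht2, pow_one]

end Cfsg.Agent.H4.Elab
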