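import Mathlib
import Cfsg.Prelude.Def_Involutions
import Cfsg.Agent.H4_Inv
import Cfsg.Agent.H4_Util
import Cfsg.Agent.H4_SE
import Cfsg.Agent.H4_Elab
import Cfsg.Agent.S1186

set_option autoImplicit false

/-!
Groups in which centralizers of involutions are elementary abelian 2-groups: structure.
-/

namespace Cfsg.Agent.H4.Elab2

open Cfsg.Agent.H4.Inv Cfsg.Agent.H4.Util Cfsg.Agent.H4.SE Cfsg.Agent.H4.Elab

variable {G : Type*} [Group G] [Finite G]

/-- the normalizer of T -/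
abbrev HH (T : Sylow 2 G) : Subgroup G := Subgroup.normalizer ((T : Subgroup G) : Set G)

abbrev DD (T : Sylow 2 G) (u : G) : Subgroup G := HH T ⊓ (HH T).map (MulAut.conj u).toMonoidHom

abbrev x0 (T : Sylow 2 G) : G ⧸ HH T := QuotientGroup.mk 1

omit [Finite G] in
theorem smul_x0 (T : Sylow 2 G) (g : G) : g • x0 T = QuotientGroup.mk g := by
  change (QuotientGroup.mk (g * 1) : G ⧸ HH T) = _
  rw [mul_one]

omit [Finite G] in
theorem fix_x0 (T : Sylow 2 G) (g : G) : g • x0 T = x0 T ↔ g ∈ HH T := by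
  rw [smul_mk_eq_iff]; simp

omit [Finite G] in
theorem fix_mk (T : Sylow 2 G) (g u : G) : g • (u • x0 T) = u • x0 T ↔ u⁻¹ * g * u ∈ HH T := by
  rw [smul_x0, smul_mk_eq_iff]

omit [Finite G] in
theorem mem_DD (T : Sylow 2 G) (u g : G) : g ∈ DD T u ↔ g • x0 T = x0 T ∧ g • (u • x0 T) = u • x0 T := by
  rw [mem_inf_conj, fix_x0, fix_mk]

variable (T : Sylow 2 G) (hC : Hyp G)

include hC in
theorem inv_iff_mem {t : G} : (orderOf t = 2 ∧ t ∈ HH T) ↔ (t ∈ (T : Subgroup G) ∧ t ≠ 1) := by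
  constructor
  · rintro ⟨h1, h2⟩
    exact ⟨invol_mem T (k := 1) (by simpa using h1) h2, ne_one h1⟩
  · rintro ⟨h1, h2⟩
    exact ⟨orderOf_eq_two_of h2 ((sylow_facts T hC).2 t h1), Subgroup.le_normalizer h1⟩

include hC in
theorem card_inv : Nat.card {t : G // orderOf t = 2 ∧ t ∈ HH T} = Nat.card (T : Subgroup G) - 1 := by
  classical
  haveI : Fintype (T : Subgroup G) := Fintype.ofFinite _
  have h1 : Nat.card {t : (T : Subgroup G) // t ≠ 1} = Nat.card (T : Subgroup G) - 1 := by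
    rw [Nat.card_eq_fintype_card, Fintype.card_subtype_compl, Fintype.card_subtype_eq,
      ← Nat.card_eq_fintype_card]
  rw [← h1]
  refine Nat.card_congr ⟨fun t => ⟨⟨t.1, ((inv_iff_mem T hC).mp t.2).1⟩, fun h => ((inv_iff_mem T hC).mp t.2).2
    (congrArg Subtype.val h)⟩, fun t => ⟨t.1.1, (inv_iff_mem T hC).mpr ⟨t.1.2, fun h => t.2 (Subtype.ext h)⟩⟩, ?_, ?_⟩
  · intro t; rfl
  · intro t; rfl

variable (hnn : ¬ (T : Subgroup G).Normal)

include hC hnn in
theorem exists_T : ∃ t ∈ (T : Subgroup G), orderOf t = 2 := by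
  obtain ⟨t, h1, h2⟩ := exists_invol (stronglyEmbedded T hnn hC)
  exact ⟨t, ((inv_iff_mem T hC).mp ⟨h2, h1⟩).1, h2⟩

/-- `T ∩ D = 1` -/
theorem DD_odd {u : G} (hC : Hyp G) (hnn : ¬ (T : Subgroup G).Normal) (huH : u ∉ HH T) :
    Odd (Nat.card (DD T u)) :=
  (stronglyEmbedded T hnn hC).2.2 u huH

include hC hnn in
theorem T_inf_DD {u : G} (huH : u ∉ HH T) {t : G} (htT : t ∈ (T : Subgroup G)) (htD : t ∈ DD T u) :
    t = 1 := by
  by_contra h
  have h1 := ((inv_iff_mem T hC).mpr ⟨htT, h⟩).1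
  exact (Nat.not_even_iff_odd.mpr (DD_odd T hC hnn huH)) (even_of_mem h1 htD)

include hC hnn in
/-- `D` acts regularly on the involutions of `T` -/
theorem DD_regular {u : G} (huH : u ∉ HH T) {s t : G} (hs : orderOf s = 2)
    (hsT : s ∈ (T : Subgroup G)) (ht : orderOf t = 2) (htT : t ∈ (T : Subgroup G)) :
    ∃ d ∈ DD T u, d * s * d⁻¹ = t := by
  have hSE := stronglyEmbedded T hnn hC
  have hne : x0 T ≠ u • x0 T := by
    intro h
    exact huH ((fix_x0 T u).mp h.symm)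
  obtain ⟨d, h1, h2, h3⟩ := conj_two_point hSE hne hs ht
    ((fix_x0 T s).mpr (Subgroup.le_normalizer hsT)) ((fix_x0 T t).mpr (Subgroup.le_normalizer htT))
  exact ⟨d, (mem_DD T u d).mpr ⟨h1, h2⟩, h3⟩

include hC hnn in
theorem card_DD {u : G} (huH : u ∉ HH T) : Nat.card (DD T u) = Nat.card (T : Subgroup G) - 1 := by
  obtain ⟨t, htT, ht⟩ := exists_T T hC hnn
  rw [← card_inv T hC]
  refine Nat.card_eq_of_bijective (fun d : DD T u => (⟨(d : G) * t * (d : G)⁻¹, ?_, ?_⟩ :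
    {t : G // orderOf t = 2 ∧ t ∈ HH T})) ⟨?_, ?_⟩
  · rw [orderOf_conj]; exact ht
  · have hd : (d : G) ∈ HH T := d.2.1
    exact (HH T).mul_mem ((HH T).mul_mem hd (Subgroup.le_normalizer htT)) ((HH T).inv_mem hd)
  · intro a b hab
    have h1 : (a : G) * t * (a : G)⁻¹ = b * t * (b : G)⁻¹ := congrArg Subtype.val hab
    have h2 : Commute ((b : G)⁻¹ * a) t := by
      have : (b : G)⁻¹ * a * t * ((b : G)⁻¹ * a)⁻¹ = t := by
        calc (b : G)⁻¹ * a * t * ((b : G)⁻¹ * a)⁻¹ = (b : G)⁻¹ * (a * t * (a : G)⁻¹) * b := by group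
          _ = t := by rw [h1]; group
      exact mul_inv_eq_iff_eq_mul.mp this
    have h3 := mem_of_commute T hC ht htT h2
    have h4 := T_inf_DD T hC hnn huH h3 ((DD T u).mul_mem ((DD T u).inv_mem b.2) a.2)
    exact Subtype.ext (inv_mul_eq_one.mp h4).symm
  · rintro ⟨s, hs, hsH⟩
    have hsT := ((inv_iff_mem T hC).mp ⟨hs, hsH⟩).1
    obtain ⟨d, hd, hds⟩ := DD_regular T hC hnn huH ht htT hs hsT
    exact ⟨⟨d, hd⟩, Subtype.ext hds⟩

include hC hnn in
theorem inverts {u : G} (hu : orderOf u = 2) (huH : u ∉ HH T) : ∀ d ∈ DD T u, u * d * u⁻¹ = d⁻¹ := by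
  have hSE := stronglyEmbedded T hnn hC
  have hne : x0 T ≠ u • x0 T := by
    intro h
    exact huH ((fix_x0 T u).mp h.symm)
  have h1 := card_Im hSE (x0 T) (u • x0 T) hne
  rw [card_inv T hC, ← card_DD T hC hnn huH] at h1
  have huy : u • (u • x0 T) = x0 T := by rw [smul_smul, mul_self hu, one_smul]
  let f : Im (HH T) (x0 T) (u • x0 T) → DD T u := fun v => ⟨u * v.1, by
    obtain ⟨v, hv, hvx⟩ := v
    have hvy : v • (u • x0 T) = x0 T := by
      conv_lhs => rw [← hvx]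
      rw [smul_smul, mul_self hv, one_smul]
    simp only
    rw [mem_DD, mul_smul, hvx, huy, mul_smul, hvy]
    exact ⟨rfl, rfl⟩⟩
  have hinj : Function.Injective f := by
    intro a b hab
    exact Subtype.ext (mul_left_cancel (congrArg Subtype.val hab))
  have hsurj : Function.Surjective f := ((Nat.bijective_iff_injective_and_card f).mpr ⟨hinj, h1⟩).2
  intro d hd
  obtain ⟨⟨v, hv, hvx⟩, hvd⟩ := hsurj ⟨d, hd⟩
  have h2 : u * v = d := congrArg Subtype.val hvd
  rw [← h2]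
  have := conj_mul_zpow hu hv 1
  simpa using this

include hC hnn in
theorem DD_comm {u : G} (hu : orderOf u = 2) (huH : u ∉ HH T) : ∀ a ∈ DD T u, ∀ b ∈ DD T u, a * b = b * a := by
  intro a ha b hb
  have h1 := inverts T hC hnn hu huH a ha
  have h2 := inverts T hC hnn hu huH b hb
  have h3 := inverts T hC hnn hu huH (a * b) ((DD T u).mul_mem ha hb)
  have h4 : u * (a * b) * u⁻¹ = a⁻¹ * b⁻¹ := by
    calc u * (a * b) * u⁻¹ = (u * a * u⁻¹) * (u * b * u⁻¹) := by group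
      _ = _ := by rw [h1, h2]
  rw [h4] at h3
  have := congrArg (fun x => x⁻¹) h3
  simp only [mul_inv_rev, inv_inv] at this
  exact this.symm

include hC hnn in
theorem card_HH : Nat.card (HH T) = Nat.card (T : Subgroup G) * (Nat.card (T : Subgroup G) - 1) := by
  obtain ⟨t, htT, ht⟩ := exists_T T hC hnn
  have htH : t ∈ HH T := Subgroup.le_normalizer htT
  have h1 := Cfsg.Agent.S1186.card_X (⟨t, htH⟩ : HH T)
  rw [h1]
  congr 1
  · refine Nat.card_congr ⟨fun c => ⟨c.1, ?_⟩, fun c => ⟨⟨c.1, Subgroup.le_normalizer c.2⟩, ?_⟩, ?_, ?_⟩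
    · have := Subgroup.mem_centralizer_singleton_iff.mp c.2
      exact mem_of_commute T hC ht htT (congrArg Subtype.val this)
    · rw [Subgroup.mem_centralizer_singleton_iff]
      exact Subtype.ext ((sylow_facts T hC).1 c.1 c.2 t htT)
    · intro c; rfl
    · intro c; rfl
  · rw [← card_inv T hC]
    -- there is an involution outside H
    have hSE := stronglyEmbedded T hnn hC
    refine Nat.card_congr ⟨fun x => ⟨x.1, ?_, x.1.2⟩, fun x => ⟨⟨x.1, x.2.2⟩, ?_⟩, ?_, ?_⟩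
    · obtain ⟨g, hg⟩ := x.2
      have : (x.1 : G) = g * t * (g : G)⁻¹ := by rw [← hg]; rfl
      rw [this, orderOf_conj]; exact ht
    · obtain ⟨g, hg⟩ : ∃ g, g ∉ HH T := by
        by_contra h
        push Not at h
        exact hSE.1 (eq_top_iff.mpr fun g _ => h g)
      obtain ⟨d, hd, hds⟩ := DD_regular T hC hnn hg ht htT x.2.1 ((inv_iff_mem T hC).mp x.2).1
      exact ⟨⟨d, hd.1⟩, Subtype.ext hds⟩
    · intro x; rfl
    · intro x; rfl

include hC hnn in
theorem exists_TD {u h : G} (huH : u ∉ HH T) (hh : h ∈ HH T) :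
    ∃ t ∈ (T : Subgroup G), ∃ d ∈ DD T u, h = t * d := by
  obtain ⟨s, hsT, hs⟩ := exists_T T hC hnn
  have h1 : h * s * h⁻¹ ∈ (T : Subgroup G) := (Subgroup.mem_normalizer_iff.mp hh s).mp hsT
  obtain ⟨d, hd, hds⟩ := DD_regular T hC hnn huH hs hsT (by rw [orderOf_conj]; exact hs) h1
  refine ⟨h * d⁻¹, ?_, d, hd, by group⟩
  have h2 : Commute (d⁻¹ * h) s := by
    have : d⁻¹ * h * s * (d⁻¹ * h)⁻¹ = s := by
      calc d⁻¹ * h * s * (d⁻¹ * h)⁻¹ = d⁻¹ * (h * s * h⁻¹) * d := by group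
        _ = s := by rw [← hds]; group
    exact mul_inv_eq_iff_eq_mul.mp this
  have h3 := mem_of_commute T hC hs hsT h2
  have h4 := (Subgroup.mem_normalizer_iff.mp hd.1 (d⁻¹ * h)).mp h3
  have e : d * (d⁻¹ * h) * d⁻¹ = h * d⁻¹ := by group
  rwa [e] at h4

include hC hnn in
/-- centralizers in `H` of elements of `D` -/
theorem cent_DD {u d h : G} (hu : orderOf u = 2) (huH : u ∉ HH T) (hd : d ∈ DD T u) (hd1 : d ≠ 1)
    (hh : h ∈ HH T) (hc : h * d = d * h) : h ∈ DD T u := by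
  obtain ⟨t, ht, d', hd', rfl⟩ := exists_TD T hC hnn huH hh
  have h1 : t * d = d * t := by
    have h2 : d' * d = d * d' := DD_comm T hC hnn hu huH d' hd' d hd
    have h3 : t * d * d' = d * t * d' := by
      calc t * d * d' = t * (d' * d) := by rw [h2, mul_assoc]
        _ = t * d' * d := by rw [mul_assoc]
        _ = d * (t * d') := hc
        _ = d * t * d' := by rw [mul_assoc]
    exact mul_right_cancel h3
  by_cases ht1 : t = 1
  · rw [ht1, one_mul]; exact hd'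
  · exfalso
    have ht2 := ((inv_iff_mem T hC).mpr ⟨ht, ht1⟩).1
    have h4 := mem_of_commute T hC ht2 ht (a := d) h1.symm
    exact hd1 (T_inf_DD T hC hnn huH h4 hd)

include hC hnn in
/-- the fixed points of a nontrivial element of `D` -/
theorem fix_DD (hq : 2 < Nat.card (T : Subgroup G)) {u d : G} (hu : orderOf u = 2) (huH : u ∉ HH T)
    (hd : d ∈ DD T u) (hd1 : d ≠ 1) {z : G ⧸ HH T} (hz : d • z = z) : z = x0 T ∨ z = u • x0 T := by
  have hSE := stronglyEmbedded T hnn hC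
  by_contra hcon
  push Not at hcon
  obtain ⟨hz1, hz2⟩ := hcon
  have hpos : ∀ x y : G ⧸ HH T, x ≠ y → ∃ v : G, orderOf v = 2 ∧ v • x = y := by
    intro x y hxy
    have h1 := card_Im hSE x y hxy
    rw [card_inv T hC] at h1
    have h2 : 0 < Nat.card (Im (HH T) x y) := by rw [h1]; omega
    obtain ⟨⟨v, hv, hvx⟩⟩ := (Nat.card_pos_iff.mp h2).1
    exact ⟨v, hv, hvx⟩
  -- if d fixes v x0 then D_v = D
  have key : ∀ v : G, orderOf v = 2 → v ∉ HH T → d ∈ DD T v → DD T v = DD T u := by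
    intro v hv hvH hdv
    apply Subgroup.eq_of_le_of_card_ge
    · intro e he
      exact cent_DD T hC hnn hu huH hd hd1 he.1 (DD_comm T hC hnn hv hvH e he d hdv)
    · rw [card_DD T hC hnn huH, card_DD T hC hnn hvH]
  -- v : x0 -> z
  obtain ⟨v, hv, hvx⟩ := hpos (x0 T) z (Ne.symm hz1)
  have hvH : v ∉ HH T := by
    intro h
    rw [← fix_x0, hvx] at h
    exact hz1 h
  have hdv : d ∈ DD T v := by
    rw [mem_DD, hvx]
    exact ⟨((mem_DD T u d).mp hd).1, hz⟩
  have hDv := key v hv hvH hdv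
  -- x1 = u z
  have hx1 : u • z ≠ x0 T := by
    intro h
    apply hz2
    rw [← h, smul_smul, mul_self hu, one_smul]
  obtain ⟨w, hw, hwx⟩ := hpos (x0 T) (u • z) (Ne.symm hx1)
  have hwH : w ∉ HH T := by
    intro h
    rw [← fix_x0, hwx] at h
    exact hx1 h
  have hduz : d • (u • z) = u • z := by
    have h1 := inverts T hC hnn hu huH d hd
    have h2 : d * u = u * d⁻¹ := by
      rw [← h1, inv_eq hu]
      have : u * (u * d * u) = (u * u) * (d * u) := by group
      rw [this, mul_self hu, one_mul]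
    rw [smul_smul, h2, ← smul_smul]
    congr 1
    rw [inv_smul_eq_iff, hz]
  have hdw : d ∈ DD T w := by
    rw [mem_DD, hwx]
    exact ⟨((mem_DD T u d).mp hd).1, hduz⟩
  -- h = w * u * v fixes x0 and inverts d
  have hh : w * (u * v) ∈ HH T := by
    rw [← fix_x0, mul_smul, mul_smul, hvx, ← hwx, smul_smul, mul_self hw, one_smul]
  have hinv : (w * (u * v)) * d * (w * (u * v))⁻¹ = d⁻¹ := by
    have i1 := inverts T hC hnn hv hvH d hdv
    have i2 := inverts T hC hnn hu huH d⁻¹ ((DD T u).inv_mem hd)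
    have i3 := inverts T hC hnn hw hwH d hdw
    calc (w * (u * v)) * d * (w * (u * v))⁻¹ = w * (u * (v * d * v⁻¹) * u⁻¹) * w⁻¹ := by group
      _ = d⁻¹ := by rw [i1, i2, inv_inv, i3]
  -- square of h centralizes d, so in D; h = t e
  obtain ⟨t, ht, e, he, hte⟩ := exists_TD T hC hnn huH hh
  have hed : e * d * e⁻¹ = d := by
    rw [DD_comm T hC hnn hu huH e he d hd, mul_inv_cancel_right]
  have htd : t * d * t⁻¹ = d⁻¹ := by
    rw [← hinv, hte]
    calc t * d * t⁻¹ = t * (e * d * e⁻¹) * t⁻¹ := by rw [hed]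
      _ = _ := by group
  -- [t,d] in T ∩ D
  have h5 : d⁻¹ * d⁻¹ ∈ (T : Subgroup G) := by
    have h6 : t * (d * t⁻¹ * d⁻¹) ∈ (T : Subgroup G) :=
      (T : Subgroup G).mul_mem ht ((Subgroup.mem_normalizer_iff.mp hd.1 t⁻¹).mp ((T : Subgroup G).inv_mem ht))
    have e6 : t * (d * t⁻¹ * d⁻¹) = (t * d * t⁻¹) * d⁻¹ := by group
    rwa [e6, htd] at h6
  have h7 := T_inf_DD T hC hnn huH h5 ((DD T u).mul_mem ((DD T u).inv_mem hd) ((DD T u).inv_mem hd))
  have h8 : d * d = 1 := by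
    have := congrArg (fun x => x⁻¹) h7
    simpa using this
  have h9 : orderOf d = 2 := orderOf_eq_two_of hd1 h8
  exact (Nat.not_even_iff_odd.mpr (DD_odd T hC hnn huH)) (even_of_mem h9 hd)

end Cfsg.Agent.H4.Elab2
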