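import Mathlib
import Cfsg.Prelude.Def_Involutions
import Cfsg.Agent.H4_Inv
import Cfsg.Agent.H4_Util
import Cfsg.Agent.H4_SE
import Cfsg.Agent.H4_Elab
import Cfsg.Agent.H4_Elab2

set_option autoImplicit false

/-!
Groups in which centralizers of involutions are elementary abelian 2-groups: 3-transitivity.
-/

namespace Cfsg.Agent.H4.Elab3

open Cfsg.Agent.H4.Inv Cfsg.Agent.H4.Util Cfsg.Agent.H4.SE Cfsg.Agent.H4.Elab Cfsg.Agent.H4.Elab2

variable {G : Type*} [Group G] [Finite G]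

variable (T : Sylow 2 G)

theorem two_lt (hnc : ¬ IsCyclic (T : Subgroup G)) : 2 < Nat.card (T : Subgroup G) := by
  haveI : Fact (Nat.Prime 2) := ⟨Nat.prime_two⟩
  by_contra h
  push Not at h
  have h0 : 0 < Nat.card (T : Subgroup G) := Nat.card_pos
  apply hnc
  rcases Nat.lt_or_ge (Nat.card (T : Subgroup G)) 2 with h1 | h1
  · have h2 : Nat.card (T : Subgroup G) = 1 := by omega
    have : Subsingleton (T : Subgroup G) := (Nat.card_eq_one_iff_unique.mp h2).1
    infer_instance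
  · exact isCyclic_of_prime_card (p := 2) (by omega)

variable (hC : Hyp G) (hnn : ¬ (T : Subgroup G).Normal) (hnc : ¬ IsCyclic (T : Subgroup G))

include hC hnn in
theorem exists_u : ∃ u : G, orderOf u = 2 ∧ u ∉ HH T := by
  have hSE := stronglyEmbedded T hnn hC
  by_contra h
  push Not at h
  obtain ⟨t, htH, ht⟩ := exists_invol hSE
  apply hSE.1
  rw [eq_top_iff]
  intro g _
  apply mem_of_invol hSE ht htH
  apply h
  have := orderOf_conj g⁻¹ t
  rw [inv_inv] at this
  rw [this, ht]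

include hC hnn in
theorem exists_move {x y : G ⧸ HH T} (hxy : x ≠ y) : ∃ v : G, orderOf v = 2 ∧ v • x = y := by
  have hSE := stronglyEmbedded T hnn hC
  obtain ⟨t, htT, ht⟩ := exists_T T hC hnn
  have h1 := card_Im hSE x y hxy
  have h2 : 0 < Nat.card (Im (HH T) x y) := by
    rw [h1]
    exact Nat.card_pos_iff.mpr ⟨⟨⟨t, ht, Subgroup.le_normalizer htT⟩⟩, inferInstance⟩
  obtain ⟨⟨v, hv, hvx⟩⟩ := (Nat.card_pos_iff.mp h2).1
  exact ⟨v, hv, hvx⟩

include hC hnn hnc in
theorem exists_D_ne_one {u : G} (huH : u ∉ HH T) : ∃ d ∈ DD T u, d ≠ 1 := by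
  have h1 := card_DD T hC hnn huH
  have h2 := two_lt T hnc
  have h3 : 1 < Nat.card (DD T u) := by rw [h1]; omega
  rw [Finite.one_lt_card_iff_nontrivial] at h3
  obtain ⟨⟨d, hd⟩, hd1⟩ := exists_ne (1 : DD T u)
  exact ⟨d, hd, fun h => hd1 (Subtype.ext h)⟩

include hC hnn hnc in
/-- cosets fixed by `D` -/
theorem fixed_iff {u : G} (hu : orderOf u = 2) (huH : u ∉ HH T) (z : G ⧸ HH T) :
    (∀ d ∈ DD T u, d • z = z) ↔ z = x0 T ∨ z = u • x0 T := by
  constructor
  · intro h
    obtain ⟨d, hd, hd1⟩ := exists_D_ne_one T hC hnn hnc huH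
    exact fix_DD T hC hnn (two_lt T hnc) hu huH hd hd1 (h d hd)
  · rintro (rfl | rfl) d hd
    · exact ((mem_DD T u d).mp hd).1
    · exact ((mem_DD T u d).mp hd).2

include hC hnn hnc in
theorem normalizer_DD {u : G} (hu : orderOf u = 2) (huH : u ∉ HH T) :
    Subgroup.normalizer ((DD T u : Subgroup G) : Set G) = DD T u ⊔ Subgroup.zpowers u := by
  have huN : u ∈ Subgroup.normalizer ((DD T u : Subgroup G) : Set G) := by
    apply mem_normalizer_of_forall
    intro d hd
    rw [inverts T hC hnn hu huH d hd]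
    exact (DD T u).inv_mem hd
  apply le_antisymm
  · intro n hn
    have huy : u • (u • x0 T) = x0 T := by rw [smul_smul, mul_self hu, one_smul]
    have hperm : ∀ n ∈ Subgroup.normalizer ((DD T u : Subgroup G) : Set G), ∀ z : G ⧸ HH T,
        (∀ d ∈ DD T u, d • z = z) → ∀ d ∈ DD T u, d • (n • z) = n • z := by
      intro n hn z hz d hd
      have h1 : n⁻¹ * d * n ∈ DD T u := by
        have := (Subgroup.mem_normalizer_iff.mp (Subgroup.inv_mem _ hn) d).mp hd
        rwa [inv_inv] at this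
      have h2 := hz _ h1
      calc d • (n • z) = n • ((n⁻¹ * d * n) • z) := by rw [smul_smul, smul_smul]; congr 1; group
        _ = n • z := by rw [h2]
    have key : ∀ n ∈ Subgroup.normalizer ((DD T u : Subgroup G) : Set G), n • x0 T = x0 T → n ∈ DD T u := by
      intro n hn h1
      rw [mem_DD]
      refine ⟨h1, ?_⟩
      have h2 := (fixed_iff T hC hnn hnc hu huH _).mp
        (hperm n hn (u • x0 T) ((fixed_iff T hC hnn hnc hu huH _).mpr (Or.inr rfl)))
      rcases h2 with h2 | h2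
      · exfalso
        have h3 : u • x0 T = x0 T := by
          have := congrArg (fun z => n⁻¹ • z) (h2.trans h1.symm)
          simpa using this
        exact huH ((fix_x0 T u).mp h3)
      · exact h2
    have h1 := (fixed_iff T hC hnn hnc hu huH _).mp
      (hperm n hn (x0 T) ((fixed_iff T hC hnn hnc hu huH _).mpr (Or.inl rfl)))
    rcases h1 with h1 | h1
    · exact Subgroup.mem_sup_left (key n hn h1)
    · have h2 : (u * n) • x0 T = x0 T := by rw [mul_smul, h1, huy]
      have h3 := key _ (Subgroup.mul_mem _ huN hn) h2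
      have e : n = u⁻¹ * (u * n) := by group
      rw [e]
      exact Subgroup.mul_mem _ (Subgroup.mem_sup_right (Subgroup.inv_mem _ (Subgroup.mem_zpowers u)))
        (Subgroup.mem_sup_left h3)
  · exact sup_le Subgroup.le_normalizer (by rw [Subgroup.zpowers_le]; exact huN)

include hC hnn in
/-- `T` acts freely on the points different from `x0` -/
theorem T_free {t : G} (ht : t ∈ (T : Subgroup G)) {z : G ⧸ HH T} (hz : z ≠ x0 T) (h : t • z = z) :
    t = 1 := by
  by_contra ht1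
  have h1 := (inv_iff_mem T hC).mpr ⟨ht, ht1⟩
  exact hz (fix_unique (stronglyEmbedded T hnn hC) h1.1 h ((fix_x0 T t).mpr h1.2))

include hC hnn hnc in
theorem card_points : Nat.card (G ⧸ HH T) = Nat.card (T : Subgroup G) + 1 := by
  classical
  haveI : Fintype (G ⧸ HH T) := Fintype.ofFinite _
  set q := Nat.card (T : Subgroup G) with hq
  have hq2 : 2 < q := two_lt T hnc
  obtain ⟨u, hu, huH⟩ := exists_u T hC hnn
  have hne : u • x0 T ≠ x0 T := fun h => huH ((fix_x0 T u).mp h)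
  -- lower bound
  have hlow : q ≤ Nat.card {z : G ⧸ HH T // z ≠ x0 T} := by
    rw [hq]
    refine Nat.card_le_card_of_injective (fun t : (T : Subgroup G) => ⟨(t : G) • (u • x0 T), ?_⟩) ?_
    · intro h
      apply hne
      have h2 : (t : G) • x0 T = x0 T := (fix_x0 T _).mpr (Subgroup.le_normalizer t.2)
      have := congrArg (fun z => (t : G)⁻¹ • z) (h.trans h2.symm)
      simpa using this
    · intro a b hab
      have h1 : (a : G) • (u • x0 T) = (b : G) • (u • x0 T) := congrArg Subtype.val hab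
      have h2 : ((b : G)⁻¹ * a) • (u • x0 T) = u • x0 T := by
        rw [mul_smul, h1, inv_smul_smul]
      have h3 := T_free T hC hnn ((T : Subgroup G).mul_mem ((T : Subgroup G).inv_mem b.2) a.2) hne h2
      exact Subtype.ext (inv_mul_eq_one.mp h3).symm
  -- upper bound
  have hv : ∀ z : {z : G ⧸ HH T // z ≠ x0 T}, ∃ v : G, orderOf v = 2 ∧ v ∉ HH T ∧ v • x0 T = z.1 := by
    intro z
    obtain ⟨v, hv, hvx⟩ := exists_move T hC hnn (Ne.symm z.2)
    refine ⟨v, hv, ?_, hvx⟩
    intro h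
    apply z.2
    rw [← hvx]; exact (fix_x0 T v).mpr h
  choose v hv2 hvH hvx using hv
  have hup : Nat.card {z : G ⧸ HH T // z ≠ x0 T} * (q - 2) ≤ q * (q - 2) := by
    have hcardD : ∀ z, Nat.card {d : DD T (v z) // d ≠ 1} = q - 2 := by
      intro z
      haveI : Fintype (DD T (v z)) := Fintype.ofFinite _
      rw [Nat.card_eq_fintype_card, Fintype.card_subtype_compl, Fintype.card_subtype_eq,
        ← Nat.card_eq_fintype_card, card_DD T hC hnn (hvH z)]
      omega
    have hcardH : Nat.card {h : HH T // (h : G) ∉ (T : Subgroup G)} = q * (q - 2) := by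
      haveI : Fintype (HH T) := Fintype.ofFinite _
      have h1 : Nat.card {h : HH T // (h : G) ∉ (T : Subgroup G)} =
          Nat.card (HH T) - Nat.card {h : HH T // (h : G) ∈ (T : Subgroup G)} := by
        rw [Nat.card_eq_fintype_card, Nat.card_eq_fintype_card, Nat.card_eq_fintype_card,
          Fintype.card_subtype_compl]
      have h2 : Nat.card {h : HH T // (h : G) ∈ (T : Subgroup G)} = q := by
        rw [hq]
        exact Nat.card_congr ⟨fun h => ⟨h.1, h.2⟩, fun t => ⟨⟨t.1, Subgroup.le_normalizer t.2⟩, t.2⟩,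
          fun h => rfl, fun t => rfl⟩
      rw [h1, h2, card_HH T hC hnn, ← hq]
      obtain ⟨r, hr⟩ : ∃ r, q = r + 3 := ⟨q - 3, by omega⟩
      rw [hr]
      have e1 : r + 3 - 1 = r + 2 := by omega
      have e2 : r + 3 - 2 = r + 1 := by omega
      rw [e1, e2]
      have : (r + 3) * (r + 2) = (r + 3) * (r + 1) + (r + 3) := by ring
      omega
    have hsig : Nat.card (Σ z : {z : G ⧸ HH T // z ≠ x0 T}, {d : DD T (v z) // d ≠ 1}) =
        Nat.card {z : G ⧸ HH T // z ≠ x0 T} * (q - 2) := by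
      rw [Nat.card_sigma, Finset.sum_congr rfl (fun z _ => hcardD z), Finset.sum_const,
        Finset.card_univ, smul_eq_mul, ← Nat.card_eq_fintype_card]
    rw [← hsig, ← hcardH]
    refine Nat.card_le_card_of_injective (fun p => ⟨⟨(p.2.1 : G), p.2.1.2.1⟩, ?_⟩) ?_
    · intro h
      exact p.2.2 (Subtype.ext (T_inf_DD T hC hnn (hvH p.1) h p.2.1.2))
    · rintro ⟨z, ⟨d, hd⟩, hd1⟩ ⟨z', ⟨d', hd'⟩, hd1'⟩ h
      have h1 : d = d' := congrArg (fun x : {h : HH T // (h : G) ∉ (T : Subgroup G)} => ((x : HH T) : G)) h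
      subst h1
      have hdne : d ≠ 1 := fun h => hd1 (Subtype.ext h)
      have h2 := fix_DD T hC hnn hq2 (hv2 z) (hvH z) hd hdne (z := z'.1) (by
        have := ((mem_DD T (v z') d).mp hd').2
        rwa [hvx z'] at this)
      have h3 : z' = z := by
        rcases h2 with h2 | h2
        · exact absurd h2 z'.2
        · exact Subtype.ext (h2.trans (hvx z))
      subst h3
      rfl
  have hup2 : Nat.card {z : G ⧸ HH T // z ≠ x0 T} ≤ q := Nat.le_of_mul_le_mul_right hup (by omega)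
  have hcompl : Nat.card {z : G ⧸ HH T // z ≠ x0 T} = Nat.card (G ⧸ HH T) - 1 := by
    rw [Nat.card_eq_fintype_card, Fintype.card_subtype_compl, Fintype.card_subtype_eq,
      ← Nat.card_eq_fintype_card]
  have hpos : 0 < Nat.card (G ⧸ HH T) := Nat.card_pos
  omega

include hC hnn hnc in
theorem T_regular {x y : G ⧸ HH T} (hx : x ≠ x0 T) (hy : y ≠ x0 T) :
    ∃! t : G, t ∈ (T : Subgroup G) ∧ t • x = y := by
  classical
  haveI : Fintype (G ⧸ HH T) := Fintype.ofFinite _
  have hcompl : Nat.card {z : G ⧸ HH T // z ≠ x0 T} = Nat.card (T : Subgroup G) := by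
    have h1 := card_points T hC hnn hnc
    rw [Nat.card_eq_fintype_card, Fintype.card_subtype_compl, Fintype.card_subtype_eq,
      ← Nat.card_eq_fintype_card, h1]
    omega
  let f : ↥(T : Subgroup G) → {z : G ⧸ HH T // z ≠ x0 T} := fun t => ⟨(t : G) • x, by
    intro h
    apply hx
    have h2 : (t : G) • x0 T = x0 T := (fix_x0 T _).mpr (Subgroup.le_normalizer t.2)
    have := congrArg (fun z => (t : G)⁻¹ • z) (h.trans h2.symm)
    simpa using this⟩
  have hinj : Function.Injective f := by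
    intro a b hab
    have h1 : (a : G) • x = (b : G) • x := congrArg Subtype.val hab
    have h2 : ((b : G)⁻¹ * a) • x = x := by
      rw [mul_smul, h1, inv_smul_smul]
    have h3 := T_free T hC hnn ((T : Subgroup G).mul_mem ((T : Subgroup G).inv_mem b.2) a.2) hx h2
    exact Subtype.ext (inv_mul_eq_one.mp h3).symm
  have hsurj := ((Nat.bijective_iff_injective_and_card f).mpr ⟨hinj, hcompl.symm⟩).2
  obtain ⟨t, ht⟩ := hsurj ⟨y, hy⟩
  refine ⟨t, ⟨t.2, congrArg Subtype.val ht⟩, ?_⟩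
  rintro s ⟨hs, hsx⟩
  have h1 : f ⟨s, hs⟩ = f t := Subtype.ext (hsx.trans (congrArg Subtype.val ht).symm)
  exact congrArg Subtype.val (hinj h1)

include hC hnn hnc in
/-- `D` acts regularly on the remaining points -/
theorem D_regular {u : G} (hu : orderOf u = 2) (huH : u ∉ HH T) {x y : G ⧸ HH T}
    (hx : x ≠ x0 T) (hx' : x ≠ u • x0 T) (hy : y ≠ x0 T) (hy' : y ≠ u • x0 T) :
    ∃ d ∈ DD T u, d • x = y := by
  classical
  haveI : Fintype (G ⧸ HH T) := Fintype.ofFinite _
  have hne : u • x0 T ≠ x0 T := fun h => huH ((fix_x0 T u).mp h)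
  have hfixx0 : ∀ d ∈ DD T u, d • x0 T = x0 T := fun d hd => ((mem_DD T u d).mp hd).1
  have hfixy0 : ∀ d ∈ DD T u, d • (u • x0 T) = u • x0 T := fun d hd => ((mem_DD T u d).mp hd).2
  have hcompl : Nat.card {z : G ⧸ HH T // z ≠ x0 T ∧ z ≠ u • x0 T} = Nat.card (DD T u) := by
    have h1 := card_points T hC hnn hnc
    rw [card_DD T hC hnn huH]
    rw [Nat.card_eq_fintype_card, Fintype.card_subtype]
    have h2 : (Finset.univ.filter (fun z : G ⧸ HH T => z ≠ x0 T ∧ z ≠ u • x0 T)) =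
        (Finset.univ.erase (x0 T)).erase (u • x0 T) := by
      ext z
      simp only [Finset.mem_filter, Finset.mem_univ, true_and, Finset.mem_erase]
      tauto
    rw [h2, Finset.card_erase_of_mem, Finset.card_erase_of_mem (Finset.mem_univ _), Finset.card_univ,
      ← Nat.card_eq_fintype_card, h1]
    · omega
    · rw [Finset.mem_erase]; exact ⟨hne, Finset.mem_univ _⟩
  let f : DD T u → {z : G ⧸ HH T // z ≠ x0 T ∧ z ≠ u • x0 T} := fun d => ⟨(d : G) • x, by
    intro h
    apply hx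
    have := congrArg (fun z => (d : G)⁻¹ • z) (h.trans (hfixx0 d d.2).symm)
    simpa using this, by
    intro h
    apply hx'
    have := congrArg (fun z => (d : G)⁻¹ • z) (h.trans (hfixy0 d d.2).symm)
    simpa using this⟩
  have hinj : Function.Injective f := by
    intro a b hab
    have h1 : (a : G) • x = (b : G) • x := congrArg Subtype.val hab
    have h2 : ((b : G)⁻¹ * a) • x = x := by
      rw [mul_smul, h1, inv_smul_smul]
    by_cases h3 : (b : G)⁻¹ * a = 1
    · exact Subtype.ext (inv_mul_eq_one.mp h3).symm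
    · exfalso
      rcases fix_DD T hC hnn (two_lt T hnc) hu huH ((DD T u).mul_mem ((DD T u).inv_mem b.2) a.2) h3 h2 with h | h
      · exact hx h
      · exact hx' h
  have hsurj := ((Nat.bijective_iff_injective_and_card f).mpr ⟨hinj, hcompl.symm⟩).2
  obtain ⟨d, hd⟩ := hsurj ⟨y, hy, hy'⟩
  exact ⟨d, d.2, congrArg Subtype.val hd⟩

include hC hnn hnc in
theorem to_base {u : G} (hu : orderOf u = 2) (huH : u ∉ HH T) {x₁ x₂ : G ⧸ HH T} (h : x₁ ≠ x₂) :
    ∃ g : G, g • x₁ = x0 T ∧ g • x₂ = u • x0 T := by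
  have hne : u • x0 T ≠ x0 T := fun h => huH ((fix_x0 T u).mp h)
  obtain ⟨a, ha⟩ : ∃ a : G, a • x₁ = x0 T := by
    induction x₁ using QuotientGroup.induction_on with | H b => ?_
    exact ⟨b⁻¹, by rw [← smul_x0, inv_smul_smul]⟩
  have h2 : a • x₂ ≠ x0 T := by
    intro h3
    apply h
    have := congrArg (fun z => a⁻¹ • z) (ha.trans h3.symm)
    simpa using this
  obtain ⟨t, ⟨ht, ht2⟩, -⟩ := T_regular T hC hnn hnc h2 hne
  refine ⟨t * a, ?_, ?_⟩
  · rw [mul_smul, ha]; exact (fix_x0 T t).mpr (Subgroup.le_normalizer ht)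
  · rw [mul_smul, ht2]

include hC hnn hnc in
theorem triply {x₁ x₂ x₃ y₁ y₂ y₃ : G ⧸ HH T} (h1 : x₁ ≠ x₂) (h2 : x₁ ≠ x₃) (h3 : x₂ ≠ x₃)
    (h4 : y₁ ≠ y₂) (h5 : y₁ ≠ y₃) (h6 : y₂ ≠ y₃) : ∃ g : G, g • x₁ = y₁ ∧ g • x₂ = y₂ ∧ g • x₃ = y₃ := by
  obtain ⟨u, hu, huH⟩ := exists_u T hC hnn
  obtain ⟨a, ha1, ha2⟩ := to_base T hC hnn hnc hu huH h1
  obtain ⟨b, hb1, hb2⟩ := to_base T hC hnn hnc hu huH h4
  have hinj : ∀ (c : G) (x y : G ⧸ HH T), x ≠ y → c • x ≠ c • y := by
    intro c x y h h'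
    apply h
    have := congrArg (fun z => c⁻¹ • z) h'
    simpa using this
  obtain ⟨d, hd, hdx⟩ := D_regular T hC hnn hnc hu huH (x := a • x₃) (y := b • y₃)
    (by rw [← ha1]; exact hinj a _ _ h2.symm) (by rw [← ha2]; exact hinj a _ _ h3.symm)
    (by rw [← hb1]; exact hinj b _ _ h5.symm) (by rw [← hb2]; exact hinj b _ _ h6.symm)
  obtain ⟨hd1, hd2⟩ := (mem_DD T u d).mp hd
  refine ⟨b⁻¹ * (d * a), ?_, ?_, ?_⟩
  · rw [mul_smul, mul_smul, ha1, hd1, ← hb1, inv_smul_smul]
  · rw [mul_smul, mul_smul, ha2, hd2, ← hb2, inv_smul_smul]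
  · rw [mul_smul, mul_smul, hdx, inv_smul_smul]

include hC hnn hnc in
theorem three_fixed {g : G} {x₁ x₂ x₃ : G ⧸ HH T} (h1 : x₁ ≠ x₂) (h2 : x₁ ≠ x₃) (h3 : x₂ ≠ x₃)
    (g1 : g • x₁ = x₁) (g2 : g • x₂ = x₂) (g3 : g • x₃ = x₃) : g = 1 := by
  obtain ⟨u, hu, huH⟩ := exists_u T hC hnn
  obtain ⟨a, ha1, ha2⟩ := to_base T hC hnn hnc hu huH h1
  have hfix : ∀ x : G ⧸ HH T, g • x = x → (a * g * a⁻¹) • (a • x) = a • x := by
    intro x hx
    rw [smul_smul, inv_mul_cancel_right, mul_smul, hx]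
  by_contra hg
  have hinj : ∀ (c : G) (x y : G ⧸ HH T), x ≠ y → c • x ≠ c • y := by
    intro c x y h h'
    apply h
    have := congrArg (fun z => c⁻¹ • z) h'
    simpa using this
  have hg1 : a * g * a⁻¹ ≠ 1 := by
    intro h
    apply hg
    calc g = a⁻¹ * (a * g * a⁻¹) * a := by group
      _ = 1 := by rw [h]; group
  have k1 := hfix _ g1
  have k2 := hfix _ g2
  have k3 := hfix _ g3
  rw [ha1] at k1
  rw [ha2] at k2
  rcases fix_DD T hC hnn (two_lt T hnc) hu huH ((mem_DD T u _).mpr ⟨k1, k2⟩) hg1 k3 with h | h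
  · rw [← ha1] at h
    exact hinj a _ _ h2.symm h
  · rw [← ha2] at h
    exact hinj a _ _ h3.symm h

end Cfsg.Agent.H4.Elab3
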