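import Mathlib

set_option autoImplicit false

/-!
Recognition of `PSL(2, K)` in characteristic two through its action on the projective line, and
the construction of a field from a commutative group acting regularly on the nonzero elements of
an abelian group.
-/

namespace Cfsg.Agent.H4.Zass

open OnePoint Matrix

universe u v

/-! ### fields from regular actions -/

structure RegData (D A : Type*) [CommGroup D] [AddCommGroup A] where
  act : D → A → A
  act_mul : ∀ d d' a, act (d * d') a = act d (act d' a)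
  act_one : ∀ a, act 1 a = a
  act_add : ∀ d a b, act d (a + b) = act d a + act d b
  e : A
  e_ne : e ≠ 0
  reg : ∀ a, a ≠ 0 → ∃ d, act d e = a
  free : ∀ d, act d e = e → d = 1

namespace RegData

variable {D A : Type*} [CommGroup D] [AddCommGroup A] (R : RegData D A)

theorem act_zero (d : D) : R.act d 0 = 0 := by
  have h := R.act_add d 0 0
  rw [add_zero] at h
  exact left_eq_add.mp h

theorem act_inj {d d' : D} (h : R.act d R.e = R.act d' R.e) : d = d' := by
  have h1 : R.act (d'⁻¹ * d) R.e = R.e := by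
    rw [R.act_mul, h, ← R.act_mul, inv_mul_cancel, R.act_one]
  have h2 := R.free _ h1
  exact (inv_mul_eq_one.mp h2).symm

theorem act_ne_zero {d : D} {a : A} (ha : a ≠ 0) : R.act d a ≠ 0 := by
  intro h
  apply ha
  have h1 : R.act d⁻¹ (R.act d a) = 0 := by rw [h, R.act_zero]
  rwa [← R.act_mul, inv_mul_cancel, R.act_one] at h1

open Classical in
noncomputable def mul (a b : A) : A := if h : a = 0 then 0 else R.act (R.reg a h).choose b

theorem mul_act (d : D) (b : A) : R.mul (R.act d R.e) b = R.act d b := by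
  unfold mul
  have h : R.act d R.e ≠ 0 := R.act_ne_zero R.e_ne
  rw [dif_neg h]
  congr 1
  exact R.act_inj (R.reg _ h).choose_spec

theorem zero_mul' (b : A) : R.mul 0 b = 0 := by
  unfold mul; rw [dif_pos rfl]

theorem mul_zero' (a : A) : R.mul a 0 = 0 := by
  by_cases h : a = 0
  · rw [h, zero_mul']
  · obtain ⟨d, rfl⟩ := R.reg a h
    rw [mul_act, act_zero]

theorem mul_comm' (a b : A) : R.mul a b = R.mul b a := by
  by_cases ha : a = 0
  · rw [ha, zero_mul', mul_zero']
  by_cases hb : b = 0
  · rw [hb, zero_mul', mul_zero']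
  obtain ⟨d, rfl⟩ := R.reg a ha
  obtain ⟨d', rfl⟩ := R.reg b hb
  rw [mul_act, mul_act, ← R.act_mul, ← R.act_mul, mul_comm]

theorem mul_assoc' (a b c : A) : R.mul (R.mul a b) c = R.mul a (R.mul b c) := by
  by_cases ha : a = 0
  · rw [ha, zero_mul', zero_mul', zero_mul']
  by_cases hb : b = 0
  · rw [hb, zero_mul', mul_zero', zero_mul']
  obtain ⟨d, rfl⟩ := R.reg a ha
  obtain ⟨d', rfl⟩ := R.reg b hb
  rw [mul_act, mul_act, ← R.act_mul, mul_act, mul_act, R.act_mul]

theorem mul_add' (a b c : A) : R.mul a (b + c) = R.mul a b + R.mul a c := by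
  by_cases ha : a = 0
  · rw [ha, zero_mul', zero_mul', zero_mul', add_zero]
  obtain ⟨d, rfl⟩ := R.reg a ha
  rw [mul_act, mul_act, mul_act, R.act_add]

theorem one_mul' (a : A) : R.mul R.e a = a := by
  have h : R.e = R.act 1 R.e := (R.act_one _).symm
  rw [h, mul_act, R.act_one]

open Classical in
noncomputable def inv (a : A) : A := if h : a = 0 then 0 else R.act (R.reg a h).choose⁻¹ R.e

theorem mul_inv' (a : A) (ha : a ≠ 0) : R.mul a (R.inv a) = R.e := by
  have key : ∀ d, R.act d R.e = a → R.mul a (R.act d⁻¹ R.e) = R.e := by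
    rintro d rfl
    rw [mul_act, ← R.act_mul, mul_inv_cancel, R.act_one]
  unfold inv
  rw [dif_neg ha]
  exact key _ (R.reg a ha).choose_spec

/-- the field -/
@[reducible] noncomputable def field : Field A :=
  { (inferInstance : AddCommGroup A) with
    mul := R.mul
    one := R.e
    mul_assoc := R.mul_assoc'
    one_mul := R.one_mul'
    mul_one := fun a => (R.mul_comm' a R.e).trans (R.one_mul' a)
    zero_mul := R.zero_mul'
    mul_zero := R.mul_zero'
    left_distrib := R.mul_add'
    right_distrib := fun a b c => by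
      change R.mul (a + b) c = R.mul a c + R.mul b c
      rw [R.mul_comm' (a + b), R.mul_add', R.mul_comm' c a, R.mul_comm' c b]
    mul_comm := R.mul_comm'
    inv := R.inv
    exists_pair_ne := ⟨R.e, 0, R.e_ne⟩
    mul_inv_cancel := R.mul_inv'
    inv_zero := by
      change R.inv 0 = 0
      unfold inv; rw [dif_pos rfl]
    nnqsmul := _
    nnqsmul_def := fun _ _ => rfl
    qsmul := _
    qsmul_def := fun _ _ => rfl }

end RegData

/-! ### changing the universe of a finite field -/

structure FinBox (n : ℕ) : Type where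
  val : Fin n

def FinBox.equiv (n : ℕ) : FinBox n ≃ Fin n := ⟨FinBox.val, FinBox.mk, fun _ => rfl, fun _ => rfl⟩

theorem exists_psl_type0 (K : Type u) [Field K] [Finite K] :
    ∃ (F : Type) (_ : Field F) (_ : Fintype F), Fintype.card F = Nat.card K ∧
      Nonempty (Matrix.ProjectiveSpecialLinearGroup (Fin 2) K ≃*
        Matrix.ProjectiveSpecialLinearGroup (Fin 2) F) := by
  let e : FinBox (Nat.card K) ≃ K := (FinBox.equiv _).trans (Finite.equivFin K).symm
  letI hF : Field (FinBox (Nat.card K)) := e.field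
  let r : K ≃+* FinBox (Nat.card K) := (e.ringEquiv).symm
  haveI : Fintype (FinBox (Nat.card K)) := Fintype.ofEquiv _ (FinBox.equiv _).symm
  refine ⟨FinBox (Nat.card K), hF, inferInstance, ?_, ⟨?_⟩⟩
  · rw [← Nat.card_eq_fintype_card]
    exact Nat.card_congr e
  let m : Matrix.SpecialLinearGroup (Fin 2) K ≃* Matrix.SpecialLinearGroup (Fin 2) (FinBox (Nat.card K)) :=
    { toFun := Matrix.SpecialLinearGroup.map (r : K →+* FinBox (Nat.card K))
      invFun := Matrix.SpecialLinearGroup.map (r.symm : FinBox (Nat.card K) →+* K)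
      left_inv := fun A => by
        ext i j
        change r.symm (r (A i j)) = A i j
        exact r.symm_apply_apply _
      right_inv := fun A => by
        ext i j
        change r (r.symm (A i j)) = A i j
        exact r.apply_symm_apply _
      map_mul' := fun A B => map_mul _ A B }
  refine QuotientGroup.congr _ _ m ?_
  ext x
  constructor
  · rintro ⟨y, hy, rfl⟩
    rw [Subgroup.mem_center_iff]
    intro g
    have := Subgroup.mem_center_iff.mp hy (m.symm g)
    have h2 := congrArg m this
    simpa using h2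
  · intro hx
    refine ⟨m.symm x, ?_, by simp⟩
    rw [SetLike.mem_coe, Subgroup.mem_center_iff]
    intro g
    have := Subgroup.mem_center_iff.mp hx (m g)
    have h2 := congrArg m.symm this
    simpa using h2

/-! ### recognition -/

section recognition

variable {K : Type u} [Field K] [DecidableEq K]

/-- action of `SL₂` on the line -/
def sact (m : Matrix.SpecialLinearGroup (Fin 2) K) (p : OnePoint K) : OnePoint K :=
  (Matrix.SpecialLinearGroup.toGL m) • p

theorem sact_mul (m m' : Matrix.SpecialLinearGroup (Fin 2) K) (p : OnePoint K) :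
    sact (m * m') p = sact m (sact m' p) := by
  unfold sact
  rw [map_mul, mul_smul]

theorem sact_one (p : OnePoint K) : sact (1 : Matrix.SpecialLinearGroup (Fin 2) K) p = p := by
  unfold sact
  rw [map_one, one_smul]

theorem sact_infty (m : Matrix.SpecialLinearGroup (Fin 2) K) :
    sact m ∞ = if m 1 0 = 0 then ∞ else ((m 0 0 / m 1 0 : K) : OnePoint K) := by
  unfold sact
  rw [OnePoint.smul_infty_eq_ite]
  rfl

theorem sact_coe (m : Matrix.SpecialLinearGroup (Fin 2) K) (k : K) :
    sact m k = if m 1 0 * k + m 1 1 = 0 then ∞ else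
      (((m 0 0 * k + m 0 1) / (m 1 0 * k + m 1 1) : K) : OnePoint K) := by
  unfold sact
  rw [OnePoint.smul_some_eq_ite]
  rfl

theorem ne10 (m : Matrix.SpecialLinearGroup (Fin 2) K) (h : sact m ∞ = ∞) : m 1 0 = 0 := by
  by_contra hc
  rw [sact_infty, if_neg hc] at h
  exact OnePoint.coe_ne_infty _ h

def mk2 (a b c d : K) (h : a * d - b * c = 1) : Matrix.SpecialLinearGroup (Fin 2) K :=
  ⟨!![a, b; c, d], by rw [Matrix.det_fin_two_of]; exact h⟩

omit [DecidableEq K] in
theorem mk2_entries (a b c d : K) (h : a * d - b * c = 1) :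
    mk2 a b c d h 0 0 = a ∧ mk2 a b c d h 0 1 = b ∧ mk2 a b c d h 1 0 = c ∧ mk2 a b c d h 1 1 = d :=
  ⟨rfl, rfl, rfl, rfl⟩

theorem exists_trans (τ : K) : ∃ m : Matrix.SpecialLinearGroup (Fin 2) K,
    sact m ∞ = ∞ ∧ ∀ a : K, sact m a = ((a + τ : K) : OnePoint K) := by
  have h : (1 : K) * 1 - τ * 0 = 1 := by ring
  obtain ⟨e1, e2, e3, e4⟩ := mk2_entries 1 τ 0 1 h
  refine ⟨mk2 1 τ 0 1 h, ?_, ?_⟩
  · rw [sact_infty, if_pos e3]
  · intro a
    rw [sact_coe, e1, e2, e3, e4]; simp

theorem exists_scale [Finite K] [CharP K 2] (c : K) (hc : c ≠ 0) : ∃ m : Matrix.SpecialLinearGroup (Fin 2) K,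
    sact m ∞ = ∞ ∧ ∀ a : K, sact m a = ((c * a : K) : OnePoint K) := by
  haveI := Fintype.ofFinite K
  obtain ⟨s, hs⟩ := FiniteField.isSquare_of_char_two (F := K) (ringChar.eq K 2) c
  have hs0 : s ≠ 0 := by
    rintro rfl
    rw [mul_zero] at hs
    exact hc hs
  have h : s * s⁻¹ - 0 * 0 = 1 := by rw [mul_inv_cancel₀ hs0]; ring
  obtain ⟨e1, e2, e3, e4⟩ := mk2_entries s 0 0 s⁻¹ h
  refine ⟨mk2 s 0 0 s⁻¹ h, ?_, ?_⟩
  · rw [sact_infty, if_pos e3]
  · intro a
    rw [sact_coe, e1, e2, e3, e4]
    have h2 : s * a / s⁻¹ = c * a := by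
      rw [hs]; field_simp
    simp [hs0, h2]

theorem exists_inv [CharP K 2] : ∃ m : Matrix.SpecialLinearGroup (Fin 2) K,
    sact m ∞ = ((0 : K) : OnePoint K) ∧ sact m ((0 : K) : OnePoint K) = ∞ ∧
      ∀ a : K, a ≠ 0 → sact m a = ((a⁻¹ : K) : OnePoint K) := by
  have h : (0 : K) * 0 - 1 * (-1) = 1 := by ring
  obtain ⟨e1, e2, e3, e4⟩ := mk2_entries 0 1 (-1) 0 h
  refine ⟨mk2 0 1 (-1) 0 h, ?_, ?_, ?_⟩
  · rw [sact_infty, e1, e3]; simp
  · rw [sact_coe, e1, e2, e3, e4]; simp
  · intro a ha
    rw [sact_coe, e1, e2, e3, e4]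
    have h3 : (1 : K) / -a = a⁻¹ := by
      rw [CharTwo.neg_eq, one_div]
    simp [ha, h3]

/-- a matrix fixing `∞, 0, 1` is scalar -/
theorem center_of_fix (m : Matrix.SpecialLinearGroup (Fin 2) K) (h1 : sact m ∞ = ∞)
    (h2 : sact m ((0 : K) : OnePoint K) = ((0 : K) : OnePoint K))
    (h3 : sact m ((1 : K) : OnePoint K) = ((1 : K) : OnePoint K)) :
    m ∈ Subgroup.center (Matrix.SpecialLinearGroup (Fin 2) K) := by
  have a10 := ne10 m h1
  have hdet : m 0 0 * m 1 1 = 1 := by
    have := m.det_coe
    rw [Matrix.det_fin_two, a10, mul_zero, sub_zero] at this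
    exact this
  have h11 : m 1 1 ≠ 0 := by
    intro h; rw [h, mul_zero] at hdet; exact zero_ne_one hdet
  rw [sact_coe, a10, mul_zero, zero_add, if_neg h11, mul_zero, zero_add, OnePoint.coe_eq_coe,
    div_eq_zero_iff, or_iff_left h11] at h2
  rw [sact_coe, a10, mul_one, mul_one, zero_add, if_neg h11, h2, add_zero, OnePoint.coe_eq_coe,
    div_eq_one_iff_eq h11] at h3
  rw [Matrix.SpecialLinearGroup.mem_center_iff]
  refine ⟨m 0 0, ?_, ?_⟩
  · rw [Fintype.card_fin, pow_two]
    nth_rewrite 2 [h3]
    exact hdet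
  · ext i j
    fin_cases i <;> fin_cases j
    · simp
    · simp [h2]
    · simp [a10]
    · simp [h3]

theorem fix_of_center (m : Matrix.SpecialLinearGroup (Fin 2) K)
    (h : m ∈ Subgroup.center (Matrix.SpecialLinearGroup (Fin 2) K)) (p : OnePoint K) :
    sact m p = p := by
  rw [Matrix.SpecialLinearGroup.mem_center_iff] at h
  obtain ⟨r, hr, hm⟩ := h
  have hr0 : r ≠ 0 := by
    rintro rfl
    simp at hr
  have e00 : m 0 0 = r := by
    have := congrFun (congrFun hm 0) 0
    simpa using this.symm
  have e01 : m 0 1 = 0 := by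
    have := congrFun (congrFun hm 0) 1
    simpa using this.symm
  have e10 : m 1 0 = 0 := by
    have := congrFun (congrFun hm 1) 0
    simpa using this.symm
  have e11 : m 1 1 = r := by
    have := congrFun (congrFun hm 1) 1
    simpa using this.symm
  induction p using OnePoint.rec with
  | infty => rw [sact_infty, if_pos e10]
  | coe k =>
    rw [sact_coe, e10, e11, e00, e01, zero_mul, zero_add, if_neg hr0, add_zero, mul_comm r k,
      mul_div_assoc, div_self hr0, mul_one]

/-- **Recognition of `PSL(2, K)`.** -/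
theorem recognition {G : Type v} [Group G] {X : Type*} [MulAction G X]
    (β : OnePoint K ≃ X) (hfaith : ∀ g : G, (∀ x : X, g • x = x) → g = 1)
    (hlin : ∀ g : G, ∃ m : Matrix.SpecialLinearGroup (Fin 2) K, ∀ p, g • β p = β (sact m p))
    (h3 : ∀ x y z : X, x ≠ y → x ≠ z → y ≠ z → ∃ g : G, g • β ∞ = x ∧ g • β ((0 : K) : OnePoint K) = y ∧
      g • β ((1 : K) : OnePoint K) = z) :
    Nonempty (G ≃* Matrix.ProjectiveSpecialLinearGroup (Fin 2) K) := by
  have hsinj : ∀ (m : Matrix.SpecialLinearGroup (Fin 2) K) (p q : OnePoint K), sact m p = sact m q → p = q := by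
    intro m p q h
    have := congrArg (sact m⁻¹) h
    rwa [← sact_mul, ← sact_mul, inv_mul_cancel, sact_one, sact_one] at this
  have hex : ∀ m : Matrix.SpecialLinearGroup (Fin 2) K, ∃ g : G, ∀ p, g • β p = β (sact m p) := by
    intro m
    have n1 : (∞ : OnePoint K) ≠ ((0 : K) : OnePoint K) := OnePoint.infty_ne_coe _
    have n2 : (∞ : OnePoint K) ≠ ((1 : K) : OnePoint K) := OnePoint.infty_ne_coe _
    have n3 : ((0 : K) : OnePoint K) ≠ ((1 : K) : OnePoint K) := by
      rw [Ne, OnePoint.coe_eq_coe]; exact zero_ne_one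
    obtain ⟨g, g1, g2, g3⟩ := h3 (β (sact m ∞)) (β (sact m ((0 : K) : OnePoint K)))
      (β (sact m ((1 : K) : OnePoint K))) (fun h => n1 (hsinj m _ _ (β.injective h)))
      (fun h => n2 (hsinj m _ _ (β.injective h))) (fun h => n3 (hsinj m _ _ (β.injective h)))
    obtain ⟨m', hm'⟩ := hlin g
    have k1 := β.injective ((hm' ∞).symm.trans g1)
    have k2 := β.injective ((hm' _).symm.trans g2)
    have k3 := β.injective ((hm' _).symm.trans g3)
    have hfix : ∀ p, sact m' p = sact m p → sact (m⁻¹ * m') p = p := by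
      intro p hp
      rw [sact_mul, hp, ← sact_mul, inv_mul_cancel, sact_one]
    have hc := center_of_fix _ (hfix _ k1) (hfix _ k2) (hfix _ k3)
    refine ⟨g, fun p => ?_⟩
    rw [hm']
    congr 1
    have := fix_of_center _ hc p
    rw [sact_mul] at this
    have h5 := congrArg (sact m) this
    rwa [← sact_mul, mul_inv_cancel, sact_one] at h5
  choose f hf using hex
  have huniq : ∀ (g g' : G), (∀ p, g • β p = g' • β p) → g = g' := by
    intro g g' h
    have h1 : g'⁻¹ * g = 1 := by
      apply hfaith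
      intro x
      obtain ⟨p, rfl⟩ := β.surjective x
      rw [mul_smul, h, inv_smul_smul]
    exact (inv_mul_eq_one.mp h1).symm
  let ψ : Matrix.SpecialLinearGroup (Fin 2) K →* G :=
    { toFun := f
      map_one' := by
        apply huniq
        intro p
        rw [hf, sact_one, one_smul]
      map_mul' := by
        intro a b
        apply huniq
        intro p
        rw [hf, mul_smul, hf, hf, sact_mul] }
  have hψ : ∀ m p, ψ m • β p = β (sact m p) := hf
  have hsurj : Function.Surjective ψ := by
    intro g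
    obtain ⟨m, hm⟩ := hlin g
    refine ⟨m, ?_⟩
    apply huniq
    intro p
    rw [hψ, hm]
  have hker : ψ.ker = Subgroup.center (Matrix.SpecialLinearGroup (Fin 2) K) := by
    ext m
    rw [MonoidHom.mem_ker]
    constructor
    · intro h
      have : ∀ p, sact m p = p := by
        intro p
        apply β.injective
        rw [← hψ, h, one_smul]
      exact center_of_fix m (this _) (this _) (this _)
    · intro h
      apply huniq
      intro p
      rw [hψ, fix_of_center m h, one_smul]
  exact ⟨((QuotientGroup.quotientMulEquivOfEq hker.symm).trans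
    (QuotientGroup.quotientKerEquivOfSurjective ψ hsurj)).symm⟩

end recognition

end Cfsg.Agent.H4.Zass
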