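import Mathlib
import Cfsg.Prelude.Def_Involutions
import Cfsg.Agent.H4_Inv
import Cfsg.Agent.H4_Util
import Cfsg.Agent.H4_SE
import Cfsg.Agent.H4_Elab
import Cfsg.Agent.H4_Elab2
import Cfsg.Agent.H4_Elab3
import Cfsg.Agent.H4_Zass

set_option autoImplicit false

/-!
Groups in which centralizers of involutions are elementary abelian 2-groups: identification.
-/

namespace Cfsg.Agent.H4.Elab4

open Cfsg.Agent.H4.Inv Cfsg.Agent.H4.Util Cfsg.Agent.H4.SE Cfsg.Agent.H4.Elab Cfsg.Agent.H4.Elab2
open Cfsg.Agent.H4.Elab3 Cfsg.Agent.H4.Zass OnePoint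

universe u

variable {G : Type u} [Group G] [Finite G]

variable (T : Sylow 2 G) (hC : Hyp G) (hnn : ¬ (T : Subgroup G).Normal) (hnc : ¬ IsCyclic (T : Subgroup G))

include hC hnn hnc in
theorem exists_u0 {e : G} (he : e ∈ (T : Subgroup G)) (he1 : e ≠ 1) :
    ∃ u : G, orderOf u = 2 ∧ u ∉ HH T ∧ u • (e • (u • x0 T)) = e • (u • x0 T) := by
  obtain ⟨u₁, hu, huH⟩ := exists_u T hC hnn
  have hne : u₁ • x0 T ≠ x0 T := fun h => huH ((fix_x0 T u₁).mp h)
  set y := u₁ • x0 T with hy
  have hyx : u₁ • y = x0 T := by rw [hy, smul_smul, mul_self hu, one_smul]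
  have hex : e • x0 T = x0 T := (fix_x0 T e).mpr (Subgroup.le_normalizer he)
  have h1 : e • y ≠ x0 T := by
    intro h
    apply hne
    have := congrArg (fun z => e⁻¹ • z) (h.trans hex.symm)
    simpa using this
  have h2 : e • y ≠ y := fun h => he1 (T_free T hC hnn he hne h)
  have h3 : u₁ • (e • y) ≠ x0 T := by
    intro h
    apply h2
    have := congrArg (fun z => u₁⁻¹ • z) (h.trans hyx.symm)
    simpa using this
  have h4 : u₁ • (e • y) ≠ y := by
    intro h
    apply h1
    have := congrArg (fun z => u₁⁻¹ • z) (h.trans hy)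
    simpa using this
  obtain ⟨d, hd, hdx⟩ := D_regular T hC hnn hnc hu huH h1 h2 h3 h4
  obtain ⟨hd1, hd2⟩ := (mem_DD T u₁ d).mp hd
  have hux : (u₁ * d) • x0 T = y := by rw [mul_smul, hd1]
  refine ⟨u₁ * d, ?_, ?_, ?_⟩
  · apply orderOf_eq_two_of
    · intro h
      rw [h, one_smul] at hux
      exact hne hux.symm
    · have := inverts T hC hnn hu huH d hd
      rw [inv_eq hu] at this
      calc u₁ * d * (u₁ * d) = (u₁ * d * u₁) * d := by group
        _ = 1 := by rw [this, inv_mul_cancel]
  · intro h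
    rw [← fix_x0, hux] at h
    exact hne h
  · rw [hux, mul_smul, hdx, smul_smul, mul_self hu, one_smul]

include hC hnn hnc in
theorem main : ∃ (F : Type) (_ : Field F) (_ : Fintype F), Fintype.card F = Nat.card (T : Subgroup G) ∧
    Nonempty (G ≃* Matrix.ProjectiveSpecialLinearGroup (Fin 2) F) := by
  classical
  obtain ⟨e, he, heo⟩ := exists_T T hC hnn
  have he1 : e ≠ 1 := ne_one heo
  obtain ⟨u, hu, huH, hue⟩ := exists_u0 T hC hnn hnc he he1
  have hTc := (sylow_facts T hC).1
  have hTs := (sylow_facts T hC).2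
  letI cT : CommGroup ↥(T : Subgroup G) :=
    { (inferInstance : Group ↥(T : Subgroup G)) with
      mul_comm := fun a b => Subtype.ext (hTc a a.2 b b.2) }
  letI cD : CommGroup ↥(DD T u) :=
    { (inferInstance : Group ↥(DD T u)) with
      mul_comm := fun a b => Subtype.ext (DD_comm T hC hnn hu huH a a.2 b b.2) }
  have hconj : ∀ (d : DD T u) (a : ↥(T : Subgroup G)), (d : G) * a * (d : G)⁻¹ ∈ (T : Subgroup G) :=
    fun d a => (Subgroup.mem_normalizer_iff.mp d.2.1 a).mp a.2
  let R : RegData ↥(DD T u) (Additive ↥(T : Subgroup G)) :=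
    { act := fun d a => Additive.ofMul ⟨(d : G) * (Additive.toMul a : ↥(T : Subgroup G)) * (d : G)⁻¹, hconj d _⟩
      act_mul := by
        intro d d' a
        apply Additive.toMul.injective
        apply Subtype.ext
        change ((d * d' : DD T u) : G) * _ * ((d * d' : DD T u) : G)⁻¹ = (d : G) * ((d' : G) * _ * (d' : G)⁻¹) * (d : G)⁻¹
        rw [Subgroup.coe_mul]; group
      act_one := by
        intro a
        apply Additive.toMul.injective
        apply Subtype.ext
        change ((1 : DD T u) : G) * _ * ((1 : DD T u) : G)⁻¹ = _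
        rw [Subgroup.coe_one]; group
      act_add := by
        intro d a b
        apply Additive.toMul.injective
        apply Subtype.ext
        change (d : G) * ((Additive.toMul a : ↥(T : Subgroup G)) * (Additive.toMul b : ↥(T : Subgroup G)) : ↥(T : Subgroup G)) * (d : G)⁻¹ =
          ((d : G) * (Additive.toMul a : ↥(T : Subgroup G)) * (d : G)⁻¹) * ((d : G) * (Additive.toMul b : ↥(T : Subgroup G)) * (d : G)⁻¹)
        rw [Subgroup.coe_mul]; group
      e := Additive.ofMul ⟨e, he⟩
      e_ne := fun h => he1 (congrArg Subtype.val (Additive.ofMul.injective h : (⟨e, he⟩ : ↥(T : Subgroup G)) = 1))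
      reg := by
        intro a ha
        have ha1 : ((Additive.toMul a : ↥(T : Subgroup G)) : G) ≠ 1 := fun h => ha
          (Additive.toMul.injective (Subtype.ext h))
        obtain ⟨d, hd, hda⟩ := DD_regular T hC hnn huH heo he
          ((inv_iff_mem T hC).mpr ⟨(Additive.toMul a).2, ha1⟩).1 (Additive.toMul a).2
        exact ⟨⟨d, hd⟩, Additive.toMul.injective (Subtype.ext hda)⟩
      free := by
        intro d hd
        have h1 : (d : G) * e * (d : G)⁻¹ = e := congrArg (fun x : Additive ↥(T : Subgroup G) => ((Additive.toMul x : ↥(T : Subgroup G)) : G)) hd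
        have h2 : Commute (d : G) e := mul_inv_eq_iff_eq_mul.mp h1
        have h3 := mem_of_commute T hC heo he h2
        exact Subtype.ext (T_inf_DD T hC hnn huH h3 d.2) }
  letI fK : Field (Additive ↥(T : Subgroup G)) := R.field
  haveI : Finite (Additive ↥(T : Subgroup G)) := inferInstanceAs (Finite ↥(T : Subgroup G))
  have hone : (1 : Additive ↥(T : Subgroup G)) = R.e := rfl
  have hmul : ∀ (d : DD T u) (b : Additive ↥(T : Subgroup G)), R.act d R.e * b = R.act d b := R.mul_act
  have h11 : (1 : Additive ↥(T : Subgroup G)) + 1 = 0 :=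
    Additive.toMul.injective (Subtype.ext (hTs e he))
  have htwo : (2 : Additive ↥(T : Subgroup G)) = 0 := one_add_one_eq_two.symm.trans h11
  haveI hchar : CharP (Additive ↥(T : Subgroup G)) 2 := CharTwo.of_one_ne_zero_of_two_eq_zero one_ne_zero htwo
  set y := u • x0 T with hy
  have hyne : y ≠ x0 T := fun h => huH ((fix_x0 T u).mp h)
  have huy : u • y = x0 T := by rw [hy, smul_smul, mul_self hu, one_smul]
  let f : OnePoint (Additive ↥(T : Subgroup G)) → G ⧸ HH T := fun p =>
    OnePoint.elim p (x0 T) (fun a => ((Additive.toMul a : ↥(T : Subgroup G)) : G) • y)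
  have hne : ∀ t : ↥(T : Subgroup G), (t : G) • y ≠ x0 T := by
    intro t h
    apply hyne
    have hx : (t : G) • x0 T = x0 T := (fix_x0 T _).mpr (Subgroup.le_normalizer t.2)
    have := congrArg (fun z => (t : G)⁻¹ • z) (h.trans hx.symm)
    simpa using this
  have hf : Function.Bijective f := by
    constructor
    · intro p q hpq
      induction p using OnePoint.rec with
      | infty =>
        induction q using OnePoint.rec with
        | infty => rfl
        | coe b => exact absurd hpq.symm (hne _)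
      | coe a =>
        induction q using OnePoint.rec with
        | infty => exact absurd hpq (hne _)
        | coe b =>
          have h1 : ((Additive.toMul a : ↥(T : Subgroup G)) : G) • y = ((Additive.toMul b : ↥(T : Subgroup G)) : G) • y := hpq
          obtain ⟨t, -, ht⟩ := T_regular T hC hnn hnc hyne (hne (Additive.toMul b))
          have h2 := ht _ ⟨(Additive.toMul a).2, h1⟩
          have h3 := ht _ ⟨(Additive.toMul b).2, rfl⟩
          have h4 : Additive.toMul a = Additive.toMul b := Subtype.ext (h2.trans h3.symm)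
          rw [Additive.toMul.injective h4]
    · intro z
      by_cases hz : z = x0 T
      · exact ⟨∞, hz.symm⟩
      · obtain ⟨t, ⟨ht1, ht2⟩, -⟩ := T_regular T hC hnn hnc hyne hz
        exact ⟨OnePoint.some (Additive.ofMul (⟨t, ht1⟩ : ↥(T : Subgroup G))), ht2⟩
  let β : OnePoint (Additive ↥(T : Subgroup G)) ≃ G ⧸ HH T := Equiv.ofBijective f hf
  have hβinf : β ∞ = x0 T := rfl
  have hβ : ∀ a : Additive ↥(T : Subgroup G), β a = ((Additive.toMul a : ↥(T : Subgroup G)) : G) • y := fun a => rfl
  -- linearity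
  have hlinmul : ∀ g g' : G, (∃ m : Matrix.SpecialLinearGroup (Fin 2) (Additive ↥(T : Subgroup G)), ∀ p, g • β p = β (sact m p)) →
      (∃ m : Matrix.SpecialLinearGroup (Fin 2) (Additive ↥(T : Subgroup G)), ∀ p, g' • β p = β (sact m p)) →
      ∃ m : Matrix.SpecialLinearGroup (Fin 2) (Additive ↥(T : Subgroup G)), ∀ p, (g * g') • β p = β (sact m p) := by
    rintro g g' ⟨m, hm⟩ ⟨m', hm'⟩
    exact ⟨m * m', fun p => by rw [mul_smul, hm', hm, sact_mul]⟩
  have hlinT : ∀ t ∈ (T : Subgroup G), ∃ m : Matrix.SpecialLinearGroup (Fin 2) (Additive ↥(T : Subgroup G)), ∀ p, t • β p = β (sact m p) := by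
    intro t ht
    set τ : Additive ↥(T : Subgroup G) := Additive.ofMul ⟨t, ht⟩ with hτ
    obtain ⟨m, hm1, hm2⟩ := exists_trans τ
    refine ⟨m, ?_⟩
    intro p
    induction p using OnePoint.rec with
    | infty =>
      rw [hm1, hβinf]
      exact (fix_x0 T t).mpr (Subgroup.le_normalizer ht)
    | coe a =>
      rw [hm2, hβ, hβ, smul_smul]
      congr 1
      change t * ((Additive.toMul a : ↥(T : Subgroup G)) : G) = ((Additive.toMul a : ↥(T : Subgroup G)) : G) * t
      exact hTc t ht _ (Additive.toMul a).2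
  have hlinD : ∀ d ∈ DD T u, ∃ m : Matrix.SpecialLinearGroup (Fin 2) (Additive ↥(T : Subgroup G)), ∀ p, d • β p = β (sact m p) := by
    intro d hd
    obtain ⟨hd1, hd2⟩ := (mem_DD T u d).mp hd
    obtain ⟨m, hm1, hm2⟩ := exists_scale (R.act ⟨d, hd⟩ R.e) (R.act_ne_zero R.e_ne)
    refine ⟨m, ?_⟩
    intro p
    induction p using OnePoint.rec with
    | infty =>
      rw [hm1, hβinf]
      exact hd1
    | coe a =>
      rw [hm2, hmul, hβ, hβ]
      change d • _ = (d * ((Additive.toMul a : ↥(T : Subgroup G)) : G) * d⁻¹) • y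
      have h3 : d⁻¹ • y = y := by rw [inv_smul_eq_iff]; exact hd2.symm
      rw [mul_smul, mul_smul, h3]
  have hlinu : ∃ m : Matrix.SpecialLinearGroup (Fin 2) (Additive ↥(T : Subgroup G)), ∀ p, u • β p = β (sact m p) := by
    obtain ⟨m, hm1, hm2, hm3⟩ := exists_inv (K := Additive ↥(T : Subgroup G))
    refine ⟨m, ?_⟩
    intro p
    induction p using OnePoint.rec with
    | infty =>
      rw [hm1, hβ, hβinf]
      change _ = (1 : G) • y
      rw [one_smul]
    | coe a =>
      by_cases ha : a = 0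
      · subst ha
        rw [hm2, hβ, hβinf]
        change u • ((1 : G) • y) = _
        rw [one_smul, huy]
      · obtain ⟨d, rfl⟩ := R.reg a ha
        have h1 : (R.act d R.e)⁻¹ = R.act d⁻¹ R.e := by
          have h2 : R.act d R.e * R.act d⁻¹ R.e = 1 := by
            rw [hmul, ← R.act_mul, mul_inv_cancel, R.act_one, hone]
          exact inv_eq_of_mul_eq_one_right h2
        rw [hm3 _ ha, h1, hβ, hβ]
        obtain ⟨hd1, hd2⟩ := (mem_DD T u d).mp d.2
        change u • (((d : G) * e * (d : G)⁻¹) • y) = (((d⁻¹ : DD T u) : G) * e * ((d⁻¹ : DD T u) : G)⁻¹) • y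
        have h3 : (d : G)⁻¹ • y = y := by rw [inv_smul_eq_iff]; exact hd2.symm
        have h4 : ((d⁻¹ : DD T u) : G)⁻¹ • y = y := by rw [Subgroup.coe_inv, inv_inv]; exact hd2
        rw [mul_smul, mul_smul, h3, mul_smul, mul_smul, h4, Subgroup.coe_inv]
        have h5 := inverts T hC hnn hu huH d d.2
        have h6 : u * (d : G) = (d : G)⁻¹ * u := by
          rw [← h5]; group
        rw [smul_smul, h6, mul_smul, hue]
  have hlin : ∀ g : G, ∃ m : Matrix.SpecialLinearGroup (Fin 2) (Additive ↥(T : Subgroup G)), ∀ p, g • β p = β (sact m p) := by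
    have hH : ∀ g ∈ HH T, ∃ m : Matrix.SpecialLinearGroup (Fin 2) (Additive ↥(T : Subgroup G)), ∀ p, g • β p = β (sact m p) := by
      intro g hg
      obtain ⟨t, ht, d, hd, rfl⟩ := exists_TD T hC hnn huH hg
      exact hlinmul _ _ (hlinT t ht) (hlinD d hd)
    intro g
    by_cases hg : g • x0 T = x0 T
    · exact hH g ((fix_x0 T g).mp hg)
    · obtain ⟨t, ⟨ht, ht2⟩, -⟩ := T_regular T hC hnn hnc hg hyne
      have h1 : u * (t * g) ∈ HH T := by
        rw [← fix_x0, mul_smul, mul_smul, ht2, huy]
      have h2 : g = t⁻¹ * (u * (u * (t * g))) := by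
        rw [← mul_assoc u u, mul_self hu, one_mul, inv_mul_cancel_left]
      rw [h2]
      exact hlinmul _ _ (hlinT _ ((T : Subgroup G).inv_mem ht)) (hlinmul _ _ hlinu (hH _ h1))
  have n1 : (∞ : OnePoint (Additive ↥(T : Subgroup G))) ≠ ((0 : Additive ↥(T : Subgroup G)) : OnePoint _) := OnePoint.infty_ne_coe _
  have n2 : (∞ : OnePoint (Additive ↥(T : Subgroup G))) ≠ ((1 : Additive ↥(T : Subgroup G)) : OnePoint _) := OnePoint.infty_ne_coe _
  have n3 : ((0 : Additive ↥(T : Subgroup G)) : OnePoint (Additive ↥(T : Subgroup G))) ≠ ((1 : Additive ↥(T : Subgroup G)) : OnePoint _) := by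
    rw [Ne, OnePoint.coe_eq_coe]; exact zero_ne_one
  obtain ⟨E⟩ := recognition β (fun g hg => three_fixed T hC hnn hnc (fun h => n1 (β.injective h))
      (fun h => n2 (β.injective h)) (fun h => n3 (β.injective h)) (hg _) (hg _) (hg _)) hlin
    (fun x y z hxy hxz hyz => triply T hC hnn hnc (fun h => n1 (β.injective h))
      (fun h => n2 (β.injective h)) (fun h => n3 (β.injective h)) hxy hxz hyz)
  obtain ⟨F, hF, hF2, hcard, ⟨E2⟩⟩ := exists_psl_type0 (Additive ↥(T : Subgroup G))
  exact ⟨F, hF, hF2, hcard, ⟨E.trans E2⟩⟩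

end Cfsg.Agent.H4.Elab4
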