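import Mathlib
import Cfsg.Prelude.Def_Characters
import Cfsg.Agent.H3_CharComplete
import Cfsg.Agent.H3_CharInd

/-!
# Extension of invariant irreducible characters to cyclic extensions
-/

set_option autoImplicit false

open scoped ComplexConjugate

namespace Cfsg.Agent.H3.CycExt

open Cfsg Cfsg.Agent.H3.CharBasic Cfsg.Agent.H3.CharIrr Cfsg.Agent.H3.CharComplete
  Cfsg.Agent.H3.CharInd

/-- Extension of homomorphisms along a cyclic extension. -/
theorem hom_ext {G K : Type*} [Group G] [Group K] (N : Subgroup G) [hN : N.Normal] (g : G)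
    (hgen : ∀ x : G, ∃ i : ℤ, x * g ^ (-i) ∈ N) (U : N →* K) (P : K)
    (hP : ∀ n : N, P * U n * P⁻¹ = U ⟨g * n * g⁻¹, hN.conj_mem _ n.2 g⟩)
    (m : ℕ) (hm : g ^ m ∈ N) (hdvd : ∀ i : ℤ, g ^ i ∈ N → (m : ℤ) ∣ i)
    (hPm : P ^ m = U ⟨g ^ m, hm⟩) :
    ∃ V : G →* K, (∀ n : N, V n = U n) ∧ V g = P := by
  classical
  have hPi : ∀ (i : ℤ) (n : N), P ^ i * U n * P ^ (-i) = U ⟨g ^ i * n * g ^ (-i), by
      rw [zpow_neg]; exact hN.conj_mem _ n.2 _⟩ := by
    intro i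
    induction i using Int.induction_on with
    | zero => intro n; simp
    | succ i ih =>
      intro n
      have h1 := ih ⟨g * n * g⁻¹, hN.conj_mem _ n.2 g⟩
      rw [← hP n] at h1
      have h2 : P ^ ((i : ℤ) + 1) * U n * P ^ (-((i : ℤ) + 1)) =
          P ^ (i : ℤ) * (P * U n * P⁻¹) * P ^ (-(i : ℤ)) := by
        rw [zpow_add, zpow_neg, zpow_add, zpow_one, mul_inv_rev, zpow_neg]; group
      rw [h2, h1]
      congr 1
      apply Subtype.ext
      simp only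
      rw [zpow_add, zpow_neg, zpow_neg, zpow_add, zpow_one, mul_inv_rev]; group
    | pred i ih =>
      intro n
      have h3 : P⁻¹ * U n * P = U ⟨g⁻¹ * n * g, by
          have := hN.conj_mem _ n.2 g⁻¹; rwa [inv_inv] at this⟩ := by
        have h4 := hP ⟨g⁻¹ * n * g, by
          have := hN.conj_mem _ n.2 g⁻¹; rwa [inv_inv] at this⟩
        have h5 : (⟨g * (g⁻¹ * n * g) * g⁻¹, hN.conj_mem _ (by
          have := hN.conj_mem _ n.2 g⁻¹; rwa [inv_inv] at this) g⟩ : N) = n := by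
          apply Subtype.ext; simp only; group
        simp only [h5] at h4
        rw [← h4]; group
      have h1 := ih ⟨g⁻¹ * n * g, by have := hN.conj_mem _ n.2 g⁻¹; rwa [inv_inv] at this⟩
      rw [← h3] at h1
      have h2 : P ^ (-(i : ℤ) - 1) * U n * P ^ (-(-(i : ℤ) - 1)) =
          P ^ (-(i : ℤ)) * (P⁻¹ * U n * P) * P ^ (-(-(i : ℤ))) := by
        rw [zpow_sub, zpow_neg P (-(i : ℤ) - 1), zpow_sub, zpow_one, mul_inv_rev, inv_inv, zpow_neg P (-(i : ℤ))]; group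
      rw [h2, h1]
      congr 1
      apply Subtype.ext
      simp only
      rw [zpow_sub, zpow_neg g (-(i : ℤ) - 1), zpow_sub, zpow_one, mul_inv_rev, inv_inv, zpow_neg g (-(i : ℤ))]; group
  have hwd : ∀ (x : G) (i j : ℤ) (hi : x * g ^ (-i) ∈ N) (hj : x * g ^ (-j) ∈ N),
      U ⟨x * g ^ (-i), hi⟩ * P ^ i = U ⟨x * g ^ (-j), hj⟩ * P ^ j := by
    intro x i j hi hj
    have h1 : g ^ (i - j) ∈ N := by
      have : g ^ (i - j) = (x * g ^ (-i))⁻¹ * (x * g ^ (-j)) := by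
        rw [mul_inv_rev, zpow_neg, zpow_neg, zpow_sub]; group
      rw [this]; exact N.mul_mem (N.inv_mem hi) hj
    obtain ⟨k, hk⟩ := hdvd _ h1
    have h2 : (⟨x * g ^ (-j), hj⟩ : N) = ⟨x * g ^ (-i), hi⟩ * (⟨g ^ m, hm⟩ : N) ^ k := by
      apply Subtype.ext
      rw [Subgroup.coe_mul, Subgroup.coe_zpow]
      simp only
      rw [← zpow_natCast, ← zpow_mul, ← hk, zpow_sub, zpow_neg, zpow_neg]; group
    rw [h2, map_mul, map_zpow, ← hPm, ← zpow_natCast, ← zpow_mul, ← hk, mul_assoc, ← zpow_add]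
    congr 2
    ring
  choose i hi using hgen
  refine ⟨MonoidHom.mk' (fun x => U ⟨x * g ^ (-(i x)), hi x⟩ * P ^ (i x)) ?_, ?_, ?_⟩
  · intro x y
    have hy2 : g ^ (i x) * (y * g ^ (-(i y))) * g ^ (-(i x)) ∈ N := by
      rw [zpow_neg g (i x)]; exact hN.conj_mem _ (hi y) _
    have h1 : x * y * g ^ (-(i x + i y)) ∈ N := by
      have : x * y * g ^ (-(i x + i y)) =
          (x * g ^ (-(i x))) * (g ^ (i x) * (y * g ^ (-(i y))) * g ^ (-(i x))) := by
        rw [neg_add, zpow_add, zpow_neg, zpow_neg, ← zpow_neg, ← zpow_neg, (Commute.refl g).zpow_zpow (-(i x)) (-(i y)) |>.eq, zpow_neg, zpow_neg]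
        group
      rw [this]
      exact N.mul_mem (hi x) hy2
    rw [hwd (x * y) (i (x * y)) (i x + i y) (hi _) h1]
    have h2 : (⟨x * y * g ^ (-(i x + i y)), h1⟩ : N) =
        ⟨x * g ^ (-(i x)), hi x⟩ * ⟨g ^ (i x) * (y * g ^ (-(i y))) * g ^ (-(i x)), hy2⟩ := by
      apply Subtype.ext
      simp only [Subgroup.coe_mul]
      rw [neg_add, zpow_add, (Commute.refl g).zpow_zpow (-(i x)) (-(i y)) |>.eq, zpow_neg, zpow_neg]
      group
    rw [h2, map_mul]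
    have h3 := hPi (i x) ⟨y * g ^ (-(i y)), hi y⟩
    simp only at h3
    rw [← h3, zpow_add, zpow_neg P]
    group
  · intro n
    have hn : (n : G) * g ^ (-(0 : ℤ)) ∈ N := by simp
    rw [MonoidHom.mk'_apply, hwd n (i n) 0 (hi _) hn]
    simp
  · have hn : g * g ^ (-(1 : ℤ)) ∈ N := by simp
    rw [MonoidHom.mk'_apply, hwd g (i g) 1 (hi _) hn]
    have : (⟨g * g ^ (-(1 : ℤ)), hn⟩ : N) = 1 := by apply Subtype.ext; simp
    rw [this, map_one, one_mul, zpow_one]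

/-- An invariant irreducible character extends to a cyclic extension. -/
theorem exists_extension {G : Type*} [Group G] [Finite G] (N : Subgroup G) [hN : N.Normal]
    (hcyc : IsCyclic (G ⧸ N)) (ϑ : N → ℂ) (hϑ : IsIrrCharacter N ϑ)
    (hinv : ∀ (g : G) (n : N), ϑ ⟨g * n * g⁻¹, hN.conj_mem (n : G) n.2 g⟩ = ϑ n) :
    ∃ χ : G → ℂ, IsIrrCharacter G χ ∧ ∀ n : N, χ n = ϑ n := by
  classical
  obtain ⟨d, ρ, hρ, rfl⟩ := hϑ
  obtain ⟨gb, hgb⟩ := hcyc.exists_generator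
  obtain ⟨g, rfl⟩ := QuotientGroup.mk'_surjective N gb
  have hgen : ∀ x : G, ∃ i : ℤ, x * g ^ (-i) ∈ N := by
    intro x
    obtain ⟨i, hi⟩ := Subgroup.mem_zpowers_iff.mp (hgb (QuotientGroup.mk' N x))
    refine ⟨i, ?_⟩
    rw [← QuotientGroup.eq_one_iff]
    have h1 : ((x * g ^ (-i) : G) : G ⧸ N) = (QuotientGroup.mk' N x) * (QuotientGroup.mk' N g) ^ (-i) := by
      rw [← map_zpow, ← map_mul]; rfl
    rw [h1, ← hi, zpow_neg, mul_inv_cancel]
  obtain ⟨m, hmdef⟩ : ∃ m, m = orderOf (QuotientGroup.mk' N g) := ⟨_, rfl⟩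
  have hm0 : m ≠ 0 := by rw [hmdef]; exact (orderOf_pos _).ne'
  have hm : g ^ m ∈ N := by
    rw [← QuotientGroup.eq_one_iff]
    have h1 : ((g ^ m : G) : G ⧸ N) = (QuotientGroup.mk' N g) ^ m := by
      rw [← map_pow]; rfl
    rw [h1, hmdef, pow_orderOf_eq_one]
  have hdvd : ∀ i : ℤ, g ^ i ∈ N → (m : ℤ) ∣ i := by
    intro i hi
    rw [hmdef, orderOf_dvd_iff_zpow_eq_one, ← map_zpow]
    exact (QuotientGroup.eq_one_iff _).mpr hi
  -- the conjugate representation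
  obtain ⟨cg, hcg⟩ : ∃ cg : N ≃* N, ∀ n : N, (cg n : G) = g * n * g⁻¹ :=
    ⟨MulAut.conjNormal g, fun n => MulAut.conjNormal_apply g n⟩
  obtain ⟨σ, hσdef⟩ : ∃ σ : Representation ℂ N (Fin d → ℂ), σ = ρ.comp cg.toMonoidHom := ⟨_, rfl⟩
  have hσapp : ∀ n : N, σ n = ρ (cg n) := by intro n; rw [hσdef]; rfl
  have hσ : σ.IsIrreducible := by
    rw [irrep_iff] at hρ ⊢
    refine ⟨hρ.1, fun U hU => hρ.2 U fun n v hv => ?_⟩
    have := hU (cg.symm n) v hv
    rwa [hσapp, MulEquiv.apply_symm_apply] at this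
  have hchar : ρ.character = σ.character := by
    funext n
    rw [Representation.character, Representation.character, hσapp]
    have := (hinv g n).symm
    rw [Representation.character, Representation.character] at this
    rw [this]
    congr 2
    exact Subtype.ext (hcg n).symm
  obtain ⟨e⟩ := equiv_of_irr_char_eq ρ σ hρ hσ hchar
  -- units
  obtain ⟨U, hUdef⟩ : ∃ U : N →* (Module.End ℂ (Fin d → ℂ))ˣ, ∀ n, (U n : Module.End ℂ (Fin d → ℂ)) = ρ n :=
    ⟨ρ.toHomUnits, fun n => MonoidHom.coe_toHomUnits ρ n⟩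
  obtain ⟨P, hPdef⟩ : ∃ P : (Module.End ℂ (Fin d → ℂ))ˣ, ∀ v, (P : Module.End ℂ (Fin d → ℂ)) v = e v := by
    refine ⟨⟨e.toLinearEquiv.toLinearMap, e.toLinearEquiv.symm.toLinearMap, ?_, ?_⟩, fun v => rfl⟩
    · apply LinearMap.ext; intro v; exact e.toLinearEquiv.apply_symm_apply v
    · apply LinearMap.ext; intro v; exact e.toLinearEquiv.symm_apply_apply v
  have hP : ∀ n : N, P * U n * P⁻¹ = U ⟨g * n * g⁻¹, hN.conj_mem _ n.2 g⟩ := by
    intro n
    rw [mul_inv_eq_iff_eq_mul]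
    apply Units.ext
    rw [Units.val_mul, Units.val_mul, hUdef, hUdef]
    apply LinearMap.ext
    intro v
    have h1 : (⟨g * n * g⁻¹, hN.conj_mem _ n.2 g⟩ : N) = cg n := Subtype.ext (hcg n).symm
    rw [Module.End.mul_apply, Module.End.mul_apply, hPdef, hPdef, h1, ← hσapp]
    exact Representation.IntertwiningMap.isIntertwining _ _ e.toIntertwiningMap n v
  -- P ^ m = c • U (g ^ m)
  have hPm : ∀ k : ℕ, ∀ n : N, P ^ k * U n = U ⟨g ^ k * n * (g ^ k)⁻¹, hN.conj_mem _ n.2 _⟩ * P ^ k := by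
    intro k
    induction k with
    | zero => intro n; simp
    | succ k ih =>
      intro n
      have h2 : P * U n = U ⟨g * n * g⁻¹, hN.conj_mem _ n.2 g⟩ * P := by
        rw [← hP n]; group
      rw [pow_succ, mul_assoc, h2, ← mul_assoc, ih, mul_assoc]
      congr 2
      apply Subtype.ext
      simp only
      rw [pow_succ, mul_inv_rev]; group
  obtain ⟨c, hc⟩ := schur ρ hρ (((U ⟨g ^ m, hm⟩)⁻¹ * P ^ m : (Module.End ℂ (Fin d → ℂ))ˣ) : Module.End ℂ (Fin d → ℂ)) (by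
    intro n v
    have h1 : (U ⟨g ^ m, hm⟩)⁻¹ * P ^ m * U n = U n * ((U ⟨g ^ m, hm⟩)⁻¹ * P ^ m) := by
      rw [mul_assoc, hPm]
      have h2 : (⟨g ^ m * n * (g ^ m)⁻¹, hN.conj_mem _ n.2 _⟩ : N) = ⟨g ^ m, hm⟩ * n * (⟨g ^ m, hm⟩ : N)⁻¹ := by
        apply Subtype.ext; rfl
      rw [h2, map_mul, map_mul, map_inv]; group
    have h3 := congrArg (fun u : (Module.End ℂ (Fin d → ℂ))ˣ => (u : Module.End ℂ (Fin d → ℂ)) v) h1
    simp only [Units.val_mul, Module.End.mul_apply, hUdef] at h3 ⊢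
    exact h3)
  have hc0 : c ≠ 0 := by
    rintro rfl
    rw [zero_smul] at hc
    have hnt := ((irrep_iff ρ).mp hρ).1
    have : IsUnit (0 : Module.End ℂ (Fin d → ℂ)) := by rw [← hc]; exact Units.isUnit _
    exact not_isUnit_zero this
  obtain ⟨r, hr⟩ := IsAlgClosed.exists_pow_nat_eq c⁻¹ (Nat.pos_of_ne_zero hm0)
  have hr0 : r ≠ 0 := by
    rintro rfl
    rw [zero_pow hm0] at hr
    exact inv_ne_zero hc0 hr.symm
  obtain ⟨R, hRdef⟩ : ∃ R : (Module.End ℂ (Fin d → ℂ))ˣ, (R : Module.End ℂ (Fin d → ℂ)) = r • (1 : Module.End ℂ (Fin d → ℂ)) := by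
    refine ⟨⟨r • (1 : Module.End ℂ (Fin d → ℂ)), r⁻¹ • (1 : Module.End ℂ (Fin d → ℂ)), ?_, ?_⟩, rfl⟩
    · rw [smul_mul_smul_comm, mul_inv_cancel₀ hr0, one_mul, one_smul]
    · rw [smul_mul_smul_comm, inv_mul_cancel₀ hr0, one_mul, one_smul]
  have hRcomm : ∀ Q : (Module.End ℂ (Fin d → ℂ))ˣ, R * Q = Q * R := by
    intro Q
    apply Units.ext
    rw [Units.val_mul, Units.val_mul, hRdef, smul_mul_assoc, mul_smul_comm, one_mul, mul_one]
  have hfin : (R * P) ^ m = U ⟨g ^ m, hm⟩ := by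
    have hcm : Commute R P := hRcomm P
    rw [hcm.mul_pow]
    have h1 : P ^ m = U ⟨g ^ m, hm⟩ * ((U ⟨g ^ m, hm⟩)⁻¹ * P ^ m) := by group
    apply Units.ext
    rw [h1, Units.val_mul, Units.val_mul, hc, Units.val_pow_eq_pow_val, hRdef, smul_pow, one_pow, hr]
    have h2 : (c • LinearMap.id : Module.End ℂ (Fin d → ℂ)) = c • (1 : Module.End ℂ (Fin d → ℂ)) := rfl
    rw [h2, mul_smul_comm, mul_one, smul_mul_smul_comm, inv_mul_cancel₀ hc0, one_mul, one_smul]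
  obtain ⟨V, hV, -⟩ := hom_ext N g hgen U (R * P) (by
    intro n
    rw [mul_inv_rev, ← hP n, hRcomm P]
    have : P * R * U n * (P⁻¹ * R⁻¹) = P * (R * U n) * P⁻¹ * R⁻¹ := by group
    rw [this, hRcomm (U n)]
    have : P * (U n * R) * P⁻¹ * R⁻¹ = P * U n * (R * P⁻¹) * R⁻¹ := by group
    rw [this, hRcomm P⁻¹]; group) m hm hdvd hfin
  obtain ⟨τ, hτ⟩ : ∃ τ : Representation ℂ G (Fin d → ℂ), ∀ x, τ x = (V x : Module.End ℂ (Fin d → ℂ)) :=
    ⟨(Units.coeHom _).comp V, fun x => rfl⟩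
  have hτN : ∀ n : N, τ n = ρ n := by intro n; rw [hτ, hV, hUdef]
  refine ⟨τ.character, ⟨d, τ, ?_, rfl⟩, fun n => ?_⟩
  · rw [irrep_iff] at hρ ⊢
    refine ⟨hρ.1, fun W hW => hρ.2 W fun n v hv => ?_⟩
    have := hW n v hv
    rwa [hτN] at this
  · rw [Representation.character, Representation.character, hτN]

end Cfsg.Agent.H3.CycExt
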