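import Mathlib
import Cfsg.Agent.H3_CycExt

/-!
# Transfer and TI Hall subgroups
-/

set_option autoImplicit false

namespace Cfsg.Agent.H3.Transf

open MulAction Subgroup

variable {G : Type*} [Group G]

/-- If `ϕ (g⁻¹ x^k g) = τ ^ k` whenever this makes sense then the transfer of `x` is
`τ ^ |G : H|`. -/
theorem transfer_eq_pow {H : Subgroup G} [H.FiniteIndex] {A : Type*} [CommGroup A]
    (ϕ : H →* A) (x : G) (τ : A)
    (h : ∀ (k : ℕ) (g : G) (hk : g⁻¹ * x ^ k * g ∈ H), ϕ ⟨g⁻¹ * x ^ k * g, hk⟩ = τ ^ k) :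
    MonoidHom.transfer ϕ x = τ ^ H.index := by
  classical
  let := H.fintypeQuotientOfFiniteIndex
  let := Fintype.ofFinite (Quotient (orbitRel (zpowers x) (G ⧸ H)))
  rw [MonoidHom.transfer_eq_prod_quotient_orbitRel_zpowers_quot, index_eq_sum_minimalPeriod H x,
    ← Finset.prod_pow_eq_pow_sum]
  apply Finset.prod_congr rfl
  intro q _
  apply h

/-- elements of `K` of order dividing `|E|` lie in `E` -/
theorem mem_of_orderOf {E K : Subgroup G} [Finite G]
    (hn : ∀ k ∈ K, ∀ x ∈ E, k * x * k⁻¹ ∈ E)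
    (hcop : (Nat.card E).Coprime (E.relIndex K)) {y : G} (hy : y ∈ K)
    (ho : orderOf y ∣ Nat.card E) : y ∈ E := by
  have hnorm : (E.subgroupOf K).Normal := by
    refine ⟨fun x hx k => ?_⟩
    rw [Subgroup.mem_subgroupOf] at hx ⊢
    exact hn k k.2 x hx
  have h1 : (QuotientGroup.mk' (E.subgroupOf K) ⟨y, hy⟩) = 1 := by
    rw [← orderOf_eq_one_iff]
    have h2 : orderOf (QuotientGroup.mk' (E.subgroupOf K) ⟨y, hy⟩) ∣ orderOf y := by
      have := orderOf_map_dvd (QuotientGroup.mk' (E.subgroupOf K)) (⟨y, hy⟩ : K)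
      rwa [Subgroup.orderOf_mk] at this
    have h3 : orderOf (QuotientGroup.mk' (E.subgroupOf K) ⟨y, hy⟩) ∣ E.relIndex K :=
      orderOf_dvd_natCard _
    exact Nat.eq_one_of_dvd_coprimes hcop (h2.trans ho) h3
  have h4 : (⟨y, hy⟩ : K) ∈ E.subgroupOf K := (QuotientGroup.eq_one_iff (⟨y, hy⟩ : K)).mp h1
  exact h4

/-- Transfer for a TI Hall subgroup. -/
theorem transfer_TI [Finite G] {E K : Subgroup G} (hEK : E ≤ K)
    (hn : ∀ k ∈ K, ∀ x ∈ E, k * x * k⁻¹ ∈ E)
    (hTI : ∀ g : G, ∀ x ∈ E, x ≠ 1 → g * x * g⁻¹ ∈ E → g ∈ K)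
    (hcop : (Nat.card E).Coprime (E.relIndex K)) {A : Type*} [CommGroup A] (V : K →* A)
    {x : G} (hx : x ∈ E) : MonoidHom.transfer V x = V ⟨x, hEK hx⟩ ^ K.index := by
  apply transfer_eq_pow
  intro k g hk
  have hxk : x ^ k ∈ E := E.pow_mem hx k
  by_cases h1 : x ^ k = 1
  · have h2 : (⟨g⁻¹ * x ^ k * g, hk⟩ : K) = 1 := by
      apply Subtype.ext
      simp only [h1, mul_one, inv_mul_cancel]
      rfl
    rw [h2, map_one, ← map_pow]
    have h3 : (⟨x, hEK hx⟩ : K) ^ k = 1 := by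
      apply Subtype.ext
      rw [Subgroup.coe_pow]; exact h1
    rw [h3, map_one]
  · have ho : orderOf (g⁻¹ * x ^ k * g) ∣ Nat.card E := by
      have h4 : orderOf (g⁻¹ * x ^ k * g) = orderOf (x ^ k) := by
        have h5 : g⁻¹ * x ^ k * g = MulAut.conj g⁻¹ (x ^ k) := by simp [MulAut.conj_apply]
        rw [h5]
        exact orderOf_injective (MulAut.conj g⁻¹).toMonoidHom (MulAut.conj g⁻¹).injective _
      rw [h4]
      have := orderOf_dvd_natCard (⟨x ^ k, hxk⟩ : E)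
      rwa [Subgroup.orderOf_mk] at this
    have hmem := mem_of_orderOf hn hcop hk ho
    have hgK : g⁻¹ ∈ K := by
      apply hTI g⁻¹ (x ^ k) hxk h1
      rwa [inv_inv]
    have hgK' : g ∈ K := by simpa using K.inv_mem hgK
    have h6 : (⟨g⁻¹ * x ^ k * g, hk⟩ : K) = (⟨g, hgK'⟩ : K)⁻¹ * (⟨x, hEK hx⟩ : K) ^ k * ⟨g, hgK'⟩ := by
      apply Subtype.ext; rfl
    rw [h6, map_mul, map_mul, map_inv, map_pow, mul_right_comm, inv_mul_cancel, one_mul]

/-- A linear character of the normalizer of a TI Hall subgroup `E` of a group without proper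
abelian quotients is trivial on `E`. -/
theorem trivial_of_TI [Finite G] {E K : Subgroup G} (hEK : E ≤ K)
    (hn : ∀ k ∈ K, ∀ x ∈ E, k * x * k⁻¹ ∈ E)
    (hTI : ∀ g : G, ∀ x ∈ E, x ≠ 1 → g * x * g⁻¹ ∈ E → g ∈ K)
    (hHall : (Nat.card E).Coprime E.index) {A : Type*} [CommGroup A]
    (hG : ∀ f : G →* A, f = 1) (V : K →* A)
    {x : G} (hx : x ∈ E) : V ⟨x, hEK hx⟩ = 1 := by
  have hidx : E.relIndex K * K.index = E.index := Subgroup.relIndex_mul_index hEK
  have hcop1 : (Nat.card E).Coprime (E.relIndex K) := by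
    rw [← hidx] at hHall; exact Nat.Coprime.coprime_mul_right_right hHall
  have hcop2 : (Nat.card E).Coprime K.index := by
    rw [← hidx] at hHall; exact Nat.Coprime.coprime_mul_left_right hHall
  have h1 := transfer_TI hEK hn hTI hcop1 V hx
  rw [hG (MonoidHom.transfer V), MonoidHom.one_apply] at h1
  have h2 : orderOf (V ⟨x, hEK hx⟩) ∣ K.index := orderOf_dvd_of_pow_eq_one h1.symm
  have h3 : orderOf (V ⟨x, hEK hx⟩) ∣ Nat.card E := by
    have h4 : orderOf (V ⟨x, hEK hx⟩) ∣ orderOf (⟨x, hEK hx⟩ : K) := orderOf_map_dvd _ _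
    rw [Subgroup.orderOf_mk] at h4
    have h5 := orderOf_dvd_natCard (⟨x, hx⟩ : E)
    rw [Subgroup.orderOf_mk] at h5
    exact h4.trans h5
  rw [← orderOf_eq_one_iff]
  exact Nat.eq_one_of_dvd_coprimes hcop2 h3 h2

/-- Extension of an invariant linear character across index two. -/
theorem ext_two {K : Type*} [Group K] (N : Subgroup K) [hN : N.Normal] (hidx : N.index = 2)
    {t : K} (ht : t ∉ N) (lam : N →* ℂˣ)
    (hinv : ∀ n : N, lam ⟨t * n * t⁻¹, hN.conj_mem _ n.2 t⟩ = lam n) :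
    ∃ V : K →* ℂˣ, ∀ n : N, V n = lam n := by
  have hm : t ^ 2 ∈ N := by
    rw [sq]; exact (Subgroup.mul_mem_iff_of_index_two hidx).mpr Iff.rfl
  obtain ⟨c, hc⟩ := IsAlgClosed.exists_pow_nat_eq ((lam ⟨t ^ 2, hm⟩ : ℂˣ) : ℂ) (n := 2) (by norm_num)
  have hc0 : c ≠ 0 := by
    rintro rfl
    rw [zero_pow two_ne_zero] at hc
    exact (lam ⟨t ^ 2, hm⟩).ne_zero hc.symm
  obtain ⟨V, hV, -⟩ := Cfsg.Agent.H3.CycExt.hom_ext N t (fun x => by
    by_cases hx : x ∈ N
    · exact ⟨0, by simpa using hx⟩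
    · refine ⟨1, ?_⟩
      rw [zpow_neg, zpow_one, Subgroup.mul_mem_iff_of_index_two hidx]
      exact ⟨fun h => absurd h hx, fun h => absurd (by simpa using N.inv_mem h) ht⟩) lam (Units.mk0 c hc0)
    (fun n => by rw [hinv, mul_right_comm, mul_inv_cancel, one_mul]) 2 hm (by
      intro i hi
      by_contra hodd
      rw [Nat.cast_ofNat, ← even_iff_two_dvd, Int.not_even_iff_odd] at hodd
      obtain ⟨k, hk⟩ := hodd
      apply ht
      have h1 : t = (t ^ 2) ^ (-k) * t ^ i := by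
        rw [hk, ← zpow_natCast, ← zpow_mul, ← zpow_add]
        have : ((2 : ℕ) : ℤ) * -k + (2 * k + 1) = 1 := by push_cast; ring
        rw [this, zpow_one]
      rw [h1]
      exact N.mul_mem (N.zpow_mem hm _) hi) (by
      apply Units.ext
      rw [Units.val_pow_eq_pow_val, Units.val_mk0, hc])
  exact ⟨V, hV⟩

end Cfsg.Agent.H3.Transf
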