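import Mathlib
import Cfsg.Agent.H3_Transf

/-!
# Groups of odd order all of whose Sylow subgroups are cyclic: involutory automorphisms
-/

set_option autoImplicit false

namespace Cfsg.Agent.H3.ZGrp

open Subgroup

/-- Linear characters separate points modulo the commutator subgroup. -/
theorem exists_linear {E : Type*} [Group E] [Finite E] {x : E} (hx : x ∉ commutator E) :
    ∃ lam : E →* ℂˣ, lam x ≠ 1 := by
  have h1 : (Abelianization.of x) ≠ 1 := by
    intro h
    apply hx
    exact (QuotientGroup.eq_one_iff x).mp h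
  obtain ⟨f, hf⟩ := CommGroup.exists_apply_ne_one_of_hasEnoughRootsOfUnity (Abelianization E) ℂ h1
  exact ⟨f.comp Abelianization.of, hf⟩

/-- central elements of the commutator subgroup lying in an abelian Sylow subgroup -/
theorem center_inf_commutator {E : Type*} [Group E] [Finite E] [IsZGroup E] {x : E}
    (hx : x ∈ Subgroup.center E) (hxc : x ∈ commutator E) : x = 1 := by
  classical
  by_contra hx1
  obtain ⟨p, hp, hpd⟩ := Nat.exists_prime_and_dvd (n := orderOf x) (by rwa [Ne, orderOf_eq_one_iff])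
  have := Fact.mk hp
  obtain ⟨y, hy⟩ : ∃ y, y = x ^ (orderOf x / p) := ⟨_, rfl⟩
  have hyo : orderOf y = p := by
    rw [hy]; exact orderOf_pow_orderOf_div (orderOf_pos x).ne' hpd
  have hyc : y ∈ Subgroup.center E := by rw [hy]; exact Subgroup.pow_mem _ hx _
  have hyco : y ∈ commutator E := by rw [hy]; exact Subgroup.pow_mem _ hxc _
  obtain ⟨P⟩ : Nonempty (Sylow p E) := inferInstance
  have hyP : y ∈ (P : Subgroup E) := by
    have h1 : IsPGroup p (Subgroup.zpowers y) := by
      apply IsPGroup.of_card (n := 1)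
      rw [Nat.card_zpowers, hyo, pow_one]
    obtain ⟨Q, hQ⟩ := h1.exists_le_sylow
    obtain ⟨g, hg⟩ := MulAction.exists_smul_eq E Q P
    have h2 : y ∈ (Q : Subgroup E) := hQ (Subgroup.mem_zpowers y)
    rw [← hg, Sylow.coe_subgroup_smul]
    refine ⟨y, h2, ?_⟩
    change g * y * g⁻¹ = y
    rw [Subgroup.mem_center_iff.mp hyc g, mul_inv_cancel_right]
  have hcyc : IsCyclic P := IsZGroup.isZGroup p hp P
  let : CommGroup P := IsCyclic.commGroup
  have hy1 : (⟨y, hyP⟩ : P) ≠ 1 := by
    intro h
    have h2 : y = 1 := congrArg Subtype.val h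
    rw [h2, orderOf_one] at hyo
    exact hp.one_lt.ne hyo
  obtain ⟨f, hf⟩ := CommGroup.exists_apply_ne_one_of_hasEnoughRootsOfUnity (P : Subgroup E) ℂ hy1
  apply hf
  have h3 := Transf.transfer_eq_pow (H := (P : Subgroup E)) f y (f ⟨y, hyP⟩) (by
    intro k g hk
    rw [← map_pow]
    congr 1
    apply Subtype.ext
    simp only [SubmonoidClass.mk_pow]
    have h4 : y ^ k ∈ Subgroup.center E := Subgroup.pow_mem _ hyc k
    rw [Subgroup.mem_center_iff.mp h4 g⁻¹, inv_mul_cancel_right])
  have h5 : MonoidHom.transfer f y = 1 := by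
    have h6 : commutator E ≤ (MonoidHom.transfer f).ker := Abelianization.commutator_subset_ker _
    exact h6 hyco
  rw [h5] at h3
  have h7 : orderOf (f ⟨y, hyP⟩) ∣ (P : Subgroup E).index := orderOf_dvd_of_pow_eq_one h3.symm
  have h8 : orderOf (f ⟨y, hyP⟩) ∣ p := by
    have h9 : orderOf (f ⟨y, hyP⟩) ∣ orderOf (⟨y, hyP⟩ : P) := orderOf_map_dvd _ _
    rw [Subgroup.orderOf_mk, hyo] at h9
    exact h9
  rw [← orderOf_eq_one_iff]
  rcases (Nat.dvd_prime hp).mp h8 with h9 | h9
  · exact h9
  · rw [h9] at h7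
    exact absurd h7 P.not_dvd_index

/-- An involutory automorphism of a `Z`-group of odd order leaving invariant only the trivial
linear character is fixed-point-free. -/
theorem fix_trivial {E : Type*} [Group E] [Finite E] [IsZGroup E] (hodd : Odd (Nat.card E))
    (τ : E ≃* E) (hττ : ∀ x, τ (τ x) = x) (hlam : ∀ lam : E →* ℂˣ, (∀ x, lam (τ x) = lam x) → lam = 1)
    {x : E} (hx : τ x = x) : x = 1 := by
  classical
  have hinv : ∀ y : E, τ y * y ∈ commutator E := by
    intro y
    by_contra hy
    obtain ⟨lam, hl⟩ := exists_linear hy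
    apply hl
    have h1 := hlam (lam * lam.comp τ.toMonoidHom) (by
      intro z
      simp only [MonoidHom.mul_apply, MonoidHom.comp_apply]
      change lam (τ z) * lam (τ (τ z)) = lam z * lam (τ z)
      rw [hττ, mul_comm])
    have h2 : (lam * lam.comp τ.toMonoidHom) y = 1 := by rw [h1]; rfl
    rw [MonoidHom.mul_apply, mul_comm] at h2
    rw [map_mul]
    exact h2
  have hcyc : IsCyclic (commutator E) := IsZGroup.isCyclic_commutator E
  have hfix : ∀ y : E, τ y = y → y ∈ commutator E := by
    intro y hy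
    have h1 := hinv y
    rw [hy, ← sq] at h1
    have h2 : Nat.Coprime 2 (orderOf y) := by
      rw [Nat.coprime_two_left]
      exact Odd.of_dvd_nat hodd (orderOf_dvd_natCard y)
    obtain ⟨m, hm⟩ := exists_pow_eq_self_of_coprime h2
    rw [← hm]
    exact Subgroup.pow_mem _ h1 m
  have hxc := hfix x hx
  -- `x` is central
  have hcent : x ∈ Subgroup.center E := by
    rw [Subgroup.mem_center_iff]
    intro y
    -- conjugation acts on the cyclic group by powers
    have hpow : ∀ e : E, ∃ k : ℤ, ∀ d ∈ commutator E, e * d * e⁻¹ = d ^ k := by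
      intro e
      have hn : (commutator E).Normal := inferInstance
      obtain ⟨k, hk⟩ := MonoidHom.map_cyclic (G := commutator E) (MulAut.conjNormal e : commutator E ≃* commutator E).toMonoidHom
      refine ⟨k, fun d hd => ?_⟩
      have h3 := congrArg Subtype.val (hk ⟨d, hd⟩)
      have h4 : (((MulAut.conjNormal e : commutator E ≃* commutator E).toMonoidHom ⟨d, hd⟩ : commutator E) : E) = e * d * e⁻¹ := by
        exact MulAut.conjNormal_apply e ⟨d, hd⟩
      rw [h4, Subgroup.coe_zpow] at h3
      exact h3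
    obtain ⟨k, hk⟩ := hpow y
    have h5 := hk x hxc
    have h6 := congrArg τ h5
    rw [map_mul, map_mul, map_inv, map_zpow, hx] at h6
    -- `τ y * y` centralizes `x`
    have h7 : (τ y * y) * x * (τ y * y)⁻¹ = x := by
      have h8 : IsMulCommutative (commutator E) := inferInstance
      have h9 := congrArg Subtype.val (h8.is_comm.comm ⟨_, hinv y⟩ ⟨x, hxc⟩)
      simp only [Subgroup.coe_mul] at h9
      rw [h9, mul_inv_cancel_right]
    have h10 : (y * y) * x * (y * y)⁻¹ = x := by
      have e1 : (τ y * y) * x * (τ y * y)⁻¹ = τ y * (y * x * y⁻¹) * (τ y)⁻¹ := by group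
      have e2 : (y * y) * x * (y * y)⁻¹ = y * (y * x * y⁻¹) * y⁻¹ := by group
      have e3 : τ y * (x ^ k) * (τ y)⁻¹ = (τ y * x * (τ y)⁻¹) ^ k := (conj_zpow).symm
      have e4 : y * (x ^ k) * y⁻¹ = (y * x * y⁻¹) ^ k := (conj_zpow).symm
      rw [e1, h5, e3, h6] at h7
      rw [e2, h5, e4, h5, h7]
    have h11 : Commute (y ^ 2) x := by
      rw [sq]
      exact mul_inv_eq_iff_eq_mul.mp h10
    have h12 : Nat.Coprime 2 (orderOf y) := by
      rw [Nat.coprime_two_left]
      exact Odd.of_dvd_nat hodd (orderOf_dvd_natCard y)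
    obtain ⟨m, hm⟩ := exists_pow_eq_self_of_coprime h12
    have h13 : Commute ((y ^ 2) ^ m) x := h11.pow_left m
    rw [hm] at h13
    exact h13
  exact center_inf_commutator hcent hxc

end Cfsg.Agent.H3.ZGrp
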