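import Mathlib
import Cfsg.Prelude.Def_LieExceptional
import Cfsg.Agent.H1_Frob

/-!
# Zassenhaus groups: elementary facts
-/

set_option autoImplicit false

namespace Cfsg.Agent.H3.Zass

open Cfsg Pointwise

variable {G Ω : Type*} [Group G] [MulAction G Ω]

theorem two_trans (hZ : IsZassenhausGroup G Ω) {a b c d : Ω} (hab : a ≠ b) (hcd : c ≠ d) :
    ∃ g : G, g • a = c ∧ g • b = d :=
  (MulAction.is_two_pretransitive_iff.mp hZ.2.1) hab hcd

/-- nontrivial elements fix at most two points -/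
theorem fix_two (hZ : IsZassenhausGroup G Ω) {x : G} (hx : x ≠ 1) {a b c : Ω} (hab : a ≠ b)
    (ha : x • a = a) (hb : x • b = b) (hc : x • c = c) : c = a ∨ c = b := by
  by_contra h
  push Not at h
  exact hx (hZ.2.2.1 x a b c hab h.2.symm h.1.symm ha hb hc)

/-- two-point stabilizers are nontrivial -/
theorem exists_ne_one (hZ : IsZassenhausGroup G Ω) {a b : Ω} (hab : a ≠ b) :
    ∃ x : G, x ≠ 1 ∧ x • a = a ∧ x • b = b := by
  obtain ⟨g, hg, c, d, hcd, hc, hd⟩ := hZ.2.2.2.1
  obtain ⟨t, rfl, rfl⟩ := two_trans hZ hcd hab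
  refine ⟨t * g * t⁻¹, ?_, ?_, ?_⟩
  · intro h
    apply hg
    calc g = t⁻¹ * (t * g * t⁻¹) * t := by group
      _ = 1 := by rw [h]; group
  · rw [mul_smul, mul_smul, inv_smul_smul, hc]
  · rw [mul_smul, mul_smul, inv_smul_smul, hd]

/-- there is a third point -/
theorem exists_third (hZ : IsZassenhausGroup G Ω) {a b : Ω} (hab : a ≠ b) :
    ∃ c : Ω, c ≠ a ∧ c ≠ b := by
  by_contra hcon
  push Not at hcon
  obtain ⟨x, hx, ha, hb⟩ := exists_ne_one hZ hab
  have := hZ.1
  apply hx
  apply FaithfulSMul.eq_of_smul_eq_smul (α := Ω)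
  intro c
  rw [one_smul]
  by_cases h : c = a
  · rw [h, ha]
  · rw [hcon c h, hb]

theorem mem_E {a b : Ω} {x : G} : x ∈ (MulAction.stabilizer G a ⊓ MulAction.stabilizer G b :
    Subgroup G) ↔ x • a = a ∧ x • b = b := Iff.rfl

theorem E_TI (hZ : IsZassenhausGroup G Ω) {a b : Ω} (hab : a ≠ b) {g x : G}
    (hx : x ∈ (MulAction.stabilizer G a ⊓ MulAction.stabilizer G b : Subgroup G))
    (hgx : g * x * g⁻¹ ∈ (MulAction.stabilizer G a ⊓ MulAction.stabilizer G b : Subgroup G))
    (hx1 : x ≠ 1) : (g • a = a ∧ g • b = b) ∨ (g • a = b ∧ g • b = a) := by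
  rw [mem_E] at hx hgx
  have h1 : (g * x * g⁻¹) • (g • a) = g • a := by rw [mul_smul, mul_smul, inv_smul_smul, hx.1]
  have h2 : (g * x * g⁻¹) • (g • b) = g • b := by rw [mul_smul, mul_smul, inv_smul_smul, hx.2]
  have h3 : g * x * g⁻¹ ≠ 1 := by
    intro h
    apply hx1
    calc x = g⁻¹ * (g * x * g⁻¹) * g := by group
      _ = 1 := by rw [h]; group
  have h4 : g • a ≠ g • b := fun h => hab (smul_left_cancel g h)
  rcases fix_two hZ h3 hab hgx.1 hgx.2 h1 with h5 | h5 <;>
  rcases fix_two hZ h3 hab hgx.1 hgx.2 h2 with h6 | h6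
  · exact absurd (h5.trans h6.symm) h4
  · exact Or.inl ⟨h5, h6⟩
  · exact Or.inr ⟨h5, h6⟩
  · exact absurd (h5.trans h6.symm) h4

theorem swap_normalizes {a b : Ω} {g : G} (hg : (g • a = a ∧ g • b = b) ∨ (g • a = b ∧ g • b = a)) :
    g ∈ Subgroup.normalizer ((MulAction.stabilizer G a ⊓ MulAction.stabilizer G b : Subgroup G) : Set G) := by
  rw [Subgroup.mem_normalizer_iff]
  intro x
  rw [mem_E, mem_E]
  have key : ∀ c : Ω, (g * x * g⁻¹) • (g • c) = g • c ↔ x • c = c := by
    intro c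
    rw [mul_smul, mul_smul, inv_smul_smul]
    exact ⟨fun h => smul_left_cancel g h, fun h => by rw [h]⟩
  rcases hg with ⟨h1, h2⟩ | ⟨h1, h2⟩
  · have ha := key a
    have hb := key b
    rw [h1] at ha
    rw [h2] at hb
    rw [ha, hb]
  · have ha := key a
    have hb := key b
    rw [h1] at ha
    rw [h2] at hb
    rw [← ha, ← hb]
    exact and_comm

theorem mem_normalizer_E (hZ : IsZassenhausGroup G Ω) {a b : Ω} (hab : a ≠ b) (g : G) :
    g ∈ Subgroup.normalizer ((MulAction.stabilizer G a ⊓ MulAction.stabilizer G b : Subgroup G) : Set G) ↔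
      (g • a = a ∧ g • b = b) ∨ (g • a = b ∧ g • b = a) := by
  refine ⟨fun h => ?_, swap_normalizes⟩
  obtain ⟨x, hx, ha, hb⟩ := exists_ne_one hZ hab
  exact E_TI hZ hab (g := g) (mem_E.mpr ⟨ha, hb⟩)
    ((Subgroup.mem_normalizer_iff.mp h x).mp (mem_E.mpr ⟨ha, hb⟩)) hx

theorem index_normalizer_E (hZ : IsZassenhausGroup G Ω) {a b : Ω} (hab : a ≠ b) :
    ((MulAction.stabilizer G a ⊓ MulAction.stabilizer G b : Subgroup G).subgroupOf
      (Subgroup.normalizer ((MulAction.stabilizer G a ⊓ MulAction.stabilizer G b : Subgroup G) :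
        Set G))).index = 2 := by
  rw [Subgroup.index_eq_two_iff]
  obtain ⟨t, h1, h2⟩ := two_trans hZ hab hab.symm
  refine ⟨⟨t, swap_normalizes (Or.inr ⟨h1, h2⟩)⟩, ?_⟩
  rintro ⟨x, hx⟩
  rw [Subgroup.mem_subgroupOf, Subgroup.mem_subgroupOf]
  rw [mem_normalizer_E hZ hab] at hx
  rw [Xor]
  simp only [Subgroup.coe_mul, mem_E, mul_smul, h1, h2]
  rcases hx with ⟨h3, h4⟩ | ⟨h3, h4⟩
  · right
    exact ⟨⟨h3, h4⟩, fun h => hab (h4 ▸ h.1).symm⟩
  · left
    exact ⟨⟨h4, h3⟩, fun h => hab (h3 ▸ h.1).symm⟩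

/-- The two-point stabilizer inside the point stabilizer is a Frobenius complement. -/
theorem frob_compl (hZ : IsZassenhausGroup G Ω) {a b : Ω} (hab : a ≠ b) :
    IsFrobeniusComplement ((MulAction.stabilizer G a ⊓ MulAction.stabilizer G b :
      Subgroup G).subgroupOf (MulAction.stabilizer G a)) := by
  obtain ⟨x, hx, ha, hb⟩ := exists_ne_one hZ hab
  refine ⟨?_, ?_, ?_⟩
  · intro h
    have h1 : (⟨x, ha⟩ : MulAction.stabilizer G a) ∈ ((MulAction.stabilizer G a ⊓ MulAction.stabilizer G b :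
      Subgroup G).subgroupOf (MulAction.stabilizer G a)) := ⟨ha, hb⟩
    rw [h, Subgroup.mem_bot] at h1
    exact hx (congrArg Subtype.val h1)
  · intro h
    obtain ⟨c, hca, hcb⟩ := exists_third hZ hab
    obtain ⟨g, hga, hgb⟩ := two_trans hZ hab hca.symm
    have h1 : (⟨g, hga⟩ : MulAction.stabilizer G a) ∈ ((MulAction.stabilizer G a ⊓ MulAction.stabilizer G b :
      Subgroup G).subgroupOf (MulAction.stabilizer G a)) := by rw [h]; trivial
    exact hcb (hgb.symm.trans h1.2)
  · rintro ⟨g, hg⟩ hgn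
    rw [Subgroup.eq_bot_iff_forall]
    rintro ⟨y, hy⟩ ⟨h1, h2⟩
    have h1' : y • b = b := h1.2
    have h2'' := Cfsg.Agent.H1.Basic.mem_conj.mp h2
    have h2' : (g⁻¹ * y * g) • b = b := h2''.2
    rw [mul_smul, mul_smul, inv_smul_eq_iff] at h2'
    by_contra hne
    have hy1 : y ≠ 1 := fun h => hne (Subtype.ext h)
    have hga : g • a = a := hg
    rcases fix_two hZ hy1 hab hy h1' h2' with h3 | h3
    · apply hab
      have : g • a = g • b := by rw [h3, hga]
      exact smul_left_cancel g this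
    · exact hgn ⟨hg, h3⟩

theorem index_E [Finite G] [Fintype Ω] (hZ : IsZassenhausGroup G Ω) {a b : Ω} (hab : a ≠ b) :
    ((MulAction.stabilizer G a ⊓ MulAction.stabilizer G b :
      Subgroup G).subgroupOf (MulAction.stabilizer G a)).index + 1 = Fintype.card Ω := by
  classical
  have h1 : ((MulAction.stabilizer G a ⊓ MulAction.stabilizer G b :
      Subgroup G).subgroupOf (MulAction.stabilizer G a)) =
      MulAction.stabilizer (MulAction.stabilizer G a) b := by
    ext x
    exact ⟨fun h => h.2, fun h => ⟨x.2, h⟩⟩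
  rw [h1, MulAction.index_stabilizer]
  have h2 : MulAction.orbit (MulAction.stabilizer G a) b = {a}ᶜ := by
    ext c
    rw [Set.mem_compl_iff, Set.mem_singleton_iff]
    constructor
    · rintro ⟨⟨g, hg⟩, rfl⟩ h
      apply hab
      have hga : g • a = a := hg
      have h' : g • b = a := h
      exact smul_left_cancel g (hga.trans h'.symm)
    · intro hc
      obtain ⟨g, hga, hgb⟩ := two_trans hZ hab (Ne.symm hc)
      exact ⟨⟨g, hga⟩, hgb⟩
  rw [h2]
  have := Set.ncard_add_ncard_compl ({a} : Set Ω)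
  rw [Set.ncard_singleton, Nat.card_eq_fintype_card] at this
  omega

section Kernel

variable [Finite G] [Fintype Ω] (hZ : IsZassenhausGroup G Ω) (a : Ω) (H : Subgroup G)
  (hHa : H ≤ MulAction.stabilizer G a) (hHcard : Nat.card H + 1 = Fintype.card Ω)
  (hHfix : ∀ u ∈ H, u ≠ 1 → ∀ c : Ω, u • c = c → c = a)

include hHa hHfix in
omit [Finite G] [Fintype Ω] in
theorem H_TI {g : G} (hg : g • a ≠ a) {u : G} (hu : u ∈ H) (hgu : g * u * g⁻¹ ∈ H) : u = 1 := by
  by_contra hu1
  have h3 : g * u * g⁻¹ ≠ 1 := by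
    intro h
    apply hu1
    calc u = g⁻¹ * (g * u * g⁻¹) * g := by group
      _ = 1 := by rw [h]; group
  apply hg
  apply hHfix _ hgu h3
  rw [mul_smul, mul_smul, inv_smul_smul, (hHa hu : u • a = a)]

include hZ hHa hHcard hHfix in
/-- `H` consists of the elements fixing only `a`. -/
theorem mem_H_iff {x : G} : x ∈ H ↔ x • a = a ∧ (x = 1 ∨ ∀ c, x • c = c → c = a) := by
  classical
  refine ⟨fun h => ⟨hHa h, ?_⟩, ?_⟩
  · by_cases h1 : x = 1
    · exact Or.inl h1
    · exact Or.inr (hHfix x h h1)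
  rintro ⟨hxa, hx⟩
  obtain ⟨g₀, hg₀, a', b', hab', -, -⟩ := hZ.2.2.2.1
  obtain ⟨b, hab⟩ : ∃ b, a ≠ b := by
    by_cases h : a = a'
    · exact ⟨b', h ▸ hab'⟩
    · exact ⟨a', h⟩
  have hF := frob_compl hZ hab
  have hker := Cfsg.Agent.H1.Frob.card_kernel hF
  have hidx := index_E hZ hab
  set E := ((MulAction.stabilizer G a ⊓ MulAction.stabilizer G b :
      Subgroup G).subgroupOf (MulAction.stabilizer G a)) with hE
  have hcard : Nat.card (H.subgroupOf (MulAction.stabilizer G a)) = Nat.card H :=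
    Nat.card_congr (Subgroup.subgroupOfEquivOfLe hHa).toEquiv
  have hsub : ((H.subgroupOf (MulAction.stabilizer G a) : Subgroup _) : Set _) ⊆
      frobeniusKernel E := by
    rintro ⟨y, hy⟩ hyH
    have hyH' : y ∈ H := hyH
    by_cases h1 : y = 1
    · exact Or.inl (Subtype.ext h1)
    · refine Or.inr ?_
      rintro ⟨g, hg⟩ hmem
      rw [Cfsg.Agent.H1.Basic.mem_conj] at hmem
      have h2' : (g⁻¹ * y * g) • b = b := hmem.2
      rw [mul_smul, mul_smul, inv_smul_eq_iff] at h2'
      have h3 := hHfix y hyH' h1 _ h2'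
      have hga : g • a = a := hg
      exact hab (smul_left_cancel g (hga.trans h3.symm))
  have heq : ((H.subgroupOf (MulAction.stabilizer G a) : Subgroup _) : Set _) =
      frobeniusKernel E := by
    apply Set.eq_of_subset_of_ncard_le hsub
    rw [← Nat.card_coe_set_eq, ← Nat.card_coe_set_eq, hker]
    change _ ≤ Nat.card (H.subgroupOf (MulAction.stabilizer G a))
    rw [hcard]
    omega
  have hmem : (⟨x, hxa⟩ : MulAction.stabilizer G a) ∈ frobeniusKernel E := by
    rcases hx with h | h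
    · exact Or.inl (Subtype.ext h)
    · refine Or.inr ?_
      rintro ⟨g, hg⟩ hmem
      rw [Cfsg.Agent.H1.Basic.mem_conj] at hmem
      have h2' : (g⁻¹ * x * g) • b = b := hmem.2
      rw [mul_smul, mul_smul, inv_smul_eq_iff] at h2'
      have h3 := h _ h2'
      have hga : g • a = a := hg
      exact hab (smul_left_cancel g (hga.trans h3.symm))
  rw [← heq] at hmem
  exact hmem

include hZ hHa hHcard hHfix in
theorem normalizer_H : Subgroup.normalizer (H : Set G) = MulAction.stabilizer G a := by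
  classical
  apply le_antisymm
  · intro g hg
    rw [MulAction.mem_stabilizer_iff]
    by_contra hga
    -- `H` is nontrivial
    have hbot : H = ⊥ := by
      rw [Subgroup.eq_bot_iff_forall]
      intro u hu
      exact H_TI a H hHa hHfix hga hu ((Subgroup.mem_normalizer_iff.mp hg u).mp hu)
    rw [hbot, Subgroup.card_bot] at hHcard
    obtain ⟨g₀, hg₀, a', b', hab', -, -⟩ := hZ.2.2.2.1
    obtain ⟨c, hca, hcb⟩ := exists_third hZ hab'
    have h3 : ({a', b', c} : Finset Ω).card = 3 := Finset.card_eq_three.mpr ⟨a', b', c, hab', hca.symm, hcb.symm, rfl⟩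
    have h4 := Finset.card_le_univ ({a', b', c} : Finset Ω)
    omega
  · intro g hg
    have hga : g • a = a := hg
    rw [Subgroup.mem_normalizer_iff]
    intro x
    rw [mem_H_iff hZ a H hHa hHcard hHfix, mem_H_iff hZ a H hHa hHcard hHfix]
    have h0 : g⁻¹ • a = a := by rw [inv_smul_eq_iff]; exact hga.symm
    have h1 : (g * x * g⁻¹) • a = a ↔ x • a = a := by
      rw [mul_smul, mul_smul, h0]
      constructor
      · intro h
        have : g • (x • a) = g • a := h.trans hga.symm
        exact smul_left_cancel g this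
      · intro h; rw [h, hga]
    have h2 : g * x * g⁻¹ = 1 ↔ x = 1 := by
      rw [mul_inv_eq_one, mul_eq_left]
    have h3 : (∀ c, (g * x * g⁻¹) • c = c → c = a) ↔ (∀ c, x • c = c → c = a) := by
      constructor
      · intro h c hc
        have h4 := h (g • c) (by rw [mul_smul, mul_smul, inv_smul_smul, hc])
        exact smul_left_cancel g (h4.trans hga.symm)
      · intro h c hc
        rw [mul_smul, mul_smul] at hc
        have h4 := h (g⁻¹ • c) (by
          apply smul_left_cancel g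
          rw [hc, smul_inv_smul])
        rw [inv_smul_eq_iff] at h4
        rw [h4, hga]
    rw [h1, h2, h3]

end Kernel

end Cfsg.Agent.H3.Zass
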