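import Mathlib
import Cfsg.Prelude.Def_LieExceptional
import Cfsg.Agent.H1_Frob
import Cfsg.Agent.H3_Zass

/-!
# Zassenhaus groups: orders, involutions, counting
-/

set_option autoImplicit false

namespace Cfsg.Agent.H3.Zass2

open Cfsg Pointwise Cfsg.Agent.H3.Zass

variable {G Ω : Type*} [Group G] [MulAction G Ω]

/-- two-point stabilizer -/
abbrev EE (G : Type*) {Ω : Type*} [Group G] [MulAction G Ω] (a b : Ω) : Subgroup G :=
  (MulAction.stabilizer G a ⊓ MulAction.stabilizer G b : Subgroup G)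

section Card

variable [Finite G] [Fintype Ω] (hZ : IsZassenhausGroup G Ω) {a b : Ω} (hab : a ≠ b)

include hZ hab

theorem card_omega : ∃ h : ℕ, Fintype.card Ω = h + 1 ∧ 2 ≤ h := by
  obtain ⟨c, hca, hcb⟩ := exists_third hZ hab
  classical
  have h3 : ({a, b, c} : Finset Ω).card = 3 := Finset.card_eq_three.mpr ⟨a, b, c, hab, hca.symm, hcb.symm, rfl⟩
  have h4 := Finset.card_le_univ ({a, b, c} : Finset Ω)
  exact ⟨Fintype.card Ω - 1, by omega, by omega⟩

theorem card_B {h : ℕ} (hh : Fintype.card Ω = h + 1) :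
    Nat.card (MulAction.stabilizer G a) = h * Nat.card (EE G a b) := by
  have h1 := index_E hZ hab
  have h2 : (EE G a b).relIndex (MulAction.stabilizer G a) = h := by
    have : ((EE G a b).subgroupOf (MulAction.stabilizer G a)).index = h := by
      rw [hh] at h1; exact Nat.succ_injective h1
    exact this
  have h3 : Nat.card ((EE G a b).subgroupOf (MulAction.stabilizer G a)) = Nat.card (EE G a b) :=
    Nat.card_congr (Subgroup.subgroupOfEquivOfLe inf_le_left).toEquiv
  rw [← h2, mul_comm, ← h3]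
  exact (Subgroup.card_mul_index ((EE G a b).subgroupOf (MulAction.stabilizer G a))).symm

omit [Fintype Ω] hab in
theorem pretrans : MulAction.IsPretransitive G Ω := by
  have := hZ.2.1
  exact MulAction.isPretransitive_of_is_two_pretransitive

theorem card_G {h : ℕ} (hh : Fintype.card Ω = h + 1) :
    Nat.card G = (h + 1) * (h * Nat.card (EE G a b)) := by
  have := pretrans hZ
  rw [← card_B hZ hab hh, ← hh, ← Subgroup.card_mul_index (MulAction.stabilizer G a),
    MulAction.index_stabilizer_of_transitive, Nat.card_eq_fintype_card (α := Ω), mul_comm]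

theorem card_E_conj {c d : Ω} (hcd : c ≠ d) : Nat.card (EE G c d) = Nat.card (EE G a b) := by
  obtain ⟨g, rfl, rfl⟩ := two_trans hZ hab hcd
  have key : ∀ (x : G) (c : Ω), (g * x * g⁻¹) • (g • c) = g • c ↔ x • c = c := by
    intro x c
    rw [mul_smul, mul_smul, inv_smul_smul]
    exact ⟨fun h => smul_left_cancel g h, fun h => by rw [h]⟩
  have h1 : EE G (g • a) (g • b) = (EE G a b).map (MulAut.conj g).toMonoidHom := by
    ext y
    rw [Subgroup.mem_map, mem_E]
    constructor
    · rintro ⟨h1, h2⟩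
      have h3 : g * (g⁻¹ * (y : G) * g) * g⁻¹ = y := by group
      rw [← h3, key] at h1 h2
      exact ⟨g⁻¹ * y * g, mem_E.mpr ⟨h1, h2⟩, h3⟩
    · rintro ⟨x, hx, rfl⟩
      exact ⟨(key _ _).mpr (mem_E.mp hx).1, (key _ _).mpr (mem_E.mp hx).2⟩
  rw [h1, Subgroup.card_map_of_injective]
  exact (MulAut.conj g).injective

theorem one_lt_card_E : 1 < Nat.card (EE G a b) := by
  obtain ⟨x, hx, ha, hb⟩ := exists_ne_one hZ hab
  rw [Subgroup.one_lt_card_iff_ne_bot]
  intro h
  have : x ∈ (⊥ : Subgroup G) := by rw [← h]; exact mem_E.mpr ⟨ha, hb⟩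
  exact hx (Subgroup.mem_bot.mp this)

/-- `e` divides `h - 1` -/
theorem modEq {h : ℕ} (hh : Fintype.card Ω = h + 1) : h ≡ 1 [MOD Nat.card (EE G a b)] := by
  have h1 := Cfsg.Agent.H1.Frob.index_mod_card (frob_compl hZ hab)
  have h2 := index_E hZ hab
  have h3 : ((EE G a b).subgroupOf (MulAction.stabilizer G a)).index = h := by
    rw [hh] at h2; exact Nat.succ_injective h2
  rw [h3] at h1
  have h4 : Nat.card ((EE G a b).subgroupOf (MulAction.stabilizer G a)) = Nat.card (EE G a b) :=
    Nat.card_congr (Subgroup.subgroupOfEquivOfLe inf_le_left).toEquiv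
  rw [h4] at h1
  exact h1

/-- for odd `e`, `e` is coprime to `h (h+1)` -/
theorem coprime_card {h : ℕ} (hh : Fintype.card Ω = h + 1) (hodd : Odd (Nat.card (EE G a b))) :
    Nat.Coprime (Nat.card (EE G a b)) (h * (h + 1)) := by
  have h1 := modEq hZ hab hh
  obtain ⟨e, he⟩ : ∃ e, e = Nat.card (EE G a b) := ⟨_, rfl⟩
  rw [← he] at h1 hodd ⊢
  have h2 : h * (h + 1) ≡ 1 * (1 + 1) [MOD e] := h1.mul (h1.add_right 1)
  have h3 : Nat.Coprime e 2 := Nat.coprime_two_right.mpr hodd
  rw [Nat.Coprime, Nat.gcd_comm, h2.gcd_eq, Nat.gcd_comm]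
  simpa using h3

/-- an involution swapping `a` and `b` -/
theorem exists_inv (hodd : Odd (Nat.card (EE G a b))) :
    ∃ t : G, orderOf t = 2 ∧ t • a = b ∧ t • b = a := by
  obtain ⟨s, h1, h2⟩ := two_trans hZ hab hab.symm
  have hs : s * s ∈ EE G a b := mem_E.mpr ⟨by rw [mul_smul, h1, h2], by rw [mul_smul, h2, h1]⟩
  obtain ⟨m, hm⟩ : ∃ m, m = orderOf (s * s) := ⟨_, rfl⟩
  have hmd : m ∣ Nat.card (EE G a b) := by
    rw [hm]
    have := orderOf_dvd_natCard (⟨s * s, hs⟩ : EE G a b)
    rwa [Subgroup.orderOf_mk] at this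
  have hmo : Odd m := Odd.of_dvd_nat hodd hmd
  obtain ⟨k, hk⟩ := hmo
  have hsw : s ^ m = (s * s) ^ k * s := by
    rw [hk, pow_add, pow_mul, pow_one, sq]
  have hss : ∀ j : ℕ, (s * s) ^ j ∈ EE G a b := fun j => Subgroup.pow_mem _ hs j
  have hta : (s ^ m) • a = b := by rw [hsw, mul_smul, h1]; exact (mem_E.mp (hss k)).2
  have htb : (s ^ m) • b = a := by rw [hsw, mul_smul, h2]; exact (mem_E.mp (hss k)).1
  refine ⟨s ^ m, ?_, hta, htb⟩
  apply orderOf_eq_prime
  · rw [← pow_mul, mul_comm, pow_mul, sq, hm, pow_orderOf_eq_one]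
  · intro h
    rw [h, one_smul] at hta
    exact hab hta

omit [Finite G] in
theorem fix_card {x : G} (hx : x ≠ 1) [DecidableEq Ω] :
    (Finset.univ.filter fun c : Ω => x • c = c).card ≤ 2 := by
  by_contra hcon
  push Not at hcon
  obtain ⟨c, hc, d, hd, f, hf, hcd, hcf, hdf⟩ := Finset.two_lt_card.mp hcon
  rw [Finset.mem_filter] at hc hd hf
  exact hx (hZ.2.2.1 x c d f hcd hdf hcf hc.2 hd.2 hf.2)

/-- the number of fixed-point-free elements -/
theorem card_fpf {h : ℕ} (hh : Fintype.card Ω = h + 1) :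
    2 * Nat.card {g : G // ∀ c : Ω, g • c ≠ c} + h ^ 2 = Nat.card G + h := by
  classical
  have := Fintype.ofFinite G
  obtain ⟨e, he⟩ : ∃ e, e = Nat.card (EE G a b) := ⟨_, rfl⟩
  have hG := card_G hZ hab hh
  rw [← he] at hG
  let F : G → Finset Ω := fun g => Finset.univ.filter fun c : Ω => g • c = c
  have hstab : ∀ c : Ω, Nat.card (MulAction.stabilizer G c) = h * e := by
    intro c
    obtain ⟨d, hd⟩ : ∃ d, c ≠ d := by
      by_cases hca : c = a
      · exact ⟨b, hca ▸ hab⟩
      · exact ⟨a, hca⟩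
    rw [card_B hZ hd hh, card_E_conj hZ hab hd, he]
  have hsum1 : ∑ g : G, (F g).card = Nat.card G := by
    have h1 : ∀ g : G, (F g).card = ∑ c : Ω, if g • c = c then 1 else 0 := by
      intro g; rw [Finset.card_filter]
    rw [Finset.sum_congr rfl fun g _ => h1 g, Finset.sum_comm]
    have h2 : ∀ c : Ω, (∑ g : G, if g • c = c then 1 else 0) = h * e := by
      intro c
      rw [← hstab c, ← Finset.card_filter, Nat.card_eq_fintype_card, Fintype.card_subtype]
      rfl
    rw [Finset.sum_congr rfl fun c _ => h2 c, Finset.sum_const, Finset.card_univ, hh, hG]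
    rfl
  have hsum2 : ∑ g : G, (F g).card ^ 2 = 2 * Nat.card G := by
    have h1 : ∀ g : G, (F g).card ^ 2 = ∑ c : Ω, ∑ d : Ω, if g • c = c ∧ g • d = d then 1 else 0 := by
      intro g
      have h3 : (F g).card = ∑ c : Ω, if g • c = c then 1 else 0 := by rw [Finset.card_filter]
      rw [sq, h3, Finset.sum_mul_sum]
      refine Finset.sum_congr rfl fun c _ => Finset.sum_congr rfl fun d _ => ?_
      by_cases hc : g • c = c <;> by_cases hd : g • d = d <;> simp [hc, hd]
    rw [Finset.sum_congr rfl fun g _ => h1 g, Finset.sum_comm]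
    have h2 : ∀ c : Ω, (∑ g : G, ∑ d : Ω, if g • c = c ∧ g • d = d then 1 else 0) = h * e + h * e := by
      intro c
      rw [Finset.sum_comm]
      have h3 : ∀ d : Ω, (∑ g : G, if g • c = c ∧ g • d = d then 1 else 0) = if d = c then h * e else e := by
        intro d
        rw [← Finset.card_filter]
        by_cases hdc : d = c
        · rw [if_pos hdc, ← hstab c, Nat.card_eq_fintype_card, Fintype.card_subtype]
          congr 1
          ext g
          rw [Finset.mem_filter, Finset.mem_filter, hdc]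
          simp [MulAction.mem_stabilizer_iff]
        · rw [if_neg hdc, he, ← card_E_conj hZ hab (Ne.symm hdc), Nat.card_eq_fintype_card, Fintype.card_subtype]
          congr 1
          ext g
          rw [Finset.mem_filter, Finset.mem_filter, mem_E]
      rw [Finset.sum_congr rfl fun d _ => h3 d, ← Finset.add_sum_erase _ _ (Finset.mem_univ c), if_pos rfl,
        Finset.sum_congr rfl (g := fun _ => e) (fun d hd => if_neg (Finset.ne_of_mem_erase hd)),
        Finset.sum_const, Finset.card_erase_of_mem (Finset.mem_univ c), Finset.card_univ, hh]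
      simp
    rw [Finset.sum_congr rfl fun c _ => h2 c, Finset.sum_const, Finset.card_univ, hh, hG, smul_eq_mul]
    ring
  have hD : Nat.card {g : G // ∀ c : Ω, g • c ≠ c} = (Finset.univ.filter fun g : G => ∀ c : Ω, g • c ≠ c).card := by
    rw [Nat.card_eq_fintype_card, Fintype.card_subtype]
  have hterm : ∀ g : G, g ≠ 1 → 2 * (if ∀ c : Ω, g • c ≠ c then 1 else 0) + 3 * (F g).card =
      (F g).card ^ 2 + 2 := by
    intro g hg
    have h1 : (F g).card ≤ 2 := fix_card hZ hab hg
    by_cases h0 : ∀ c : Ω, g • c ≠ c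
    · rw [if_pos h0]
      have : (F g).card = 0 := by
        rw [Finset.card_eq_zero, Finset.filter_eq_empty_iff]
        intro c _; exact h0 c
      rw [this]
      norm_num
    · rw [if_neg h0]
      push Not at h0
      obtain ⟨c, hc⟩ := h0
      have : 0 < (F g).card := Finset.card_pos.mpr ⟨c, Finset.mem_filter.mpr ⟨Finset.mem_univ _, hc⟩⟩
      interval_cases (F g).card <;> simp
  have hF1 : (F 1).card = h + 1 := by
    rw [← hh, ← Finset.card_univ]
    congr 1
    rw [Finset.filter_eq_self]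
    intro c _; rw [one_smul]
  have hD1 : ¬ ∀ c : Ω, (1 : G) • c ≠ c := fun h => h a (one_smul G a)
  have hsum : 2 * (Finset.univ.filter fun g : G => ∀ c : Ω, g • c ≠ c).card + 3 * (∑ g : G, (F g).card) + h ^ 2 =
      (∑ g : G, (F g).card ^ 2) + (∑ _g : G, 2) + h := by
    have e1 : (Finset.univ.filter fun g : G => ∀ c : Ω, g • c ≠ c).card =
        ∑ g : G, if ∀ c : Ω, g • c ≠ c then 1 else 0 := by rw [Finset.card_filter]
    rw [e1, Finset.mul_sum, Finset.mul_sum, ← Finset.sum_add_distrib, ← Finset.sum_add_distrib,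
      ← Finset.add_sum_erase _ _ (Finset.mem_univ (1 : G)),
      ← Finset.add_sum_erase _ (fun g => (F g).card ^ 2 + 2) (Finset.mem_univ (1 : G)), if_neg hD1, hF1,
      Finset.sum_congr rfl fun g hg => hterm g (Finset.ne_of_mem_erase hg)]
    ring
  rw [hsum1, hsum2, Finset.sum_const, Finset.card_univ, ← Nat.card_eq_fintype_card, smul_eq_mul] at hsum
  rw [hD]
  omega

end Card

end Cfsg.Agent.H3.Zass2
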