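import Mathlib
import Cfsg.Prelude.Def_LieExceptional
import Cfsg.Agent.H1_Frob
import Cfsg.Agent.H3_Zass2
import Cfsg.Agent.H3_Transf
import Cfsg.Agent.H3_CharInd

/-!
# Zassenhaus groups: induced linear characters
-/

set_option autoImplicit false

open scoped ComplexConjugate

namespace Cfsg.Agent.H3.Zass3

open Cfsg Pointwise Cfsg.Agent.H3.Zass Cfsg.Agent.H3.Zass2 Cfsg.Agent.H3.CharInd
  Cfsg.Agent.H3.CharIrr Cfsg.Agent.H3.CharBasic Cfsg.Agent.H3.CharComplete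

/-- Induction of a linear character from a subgroup with two double cosets. -/
theorem ind_linear_norm {G : Type*} [Group G] [Fintype G] (B : Subgroup G) (m : B →* ℂˣ) (t : G)
    (hBt : ∀ x : G, x ∉ B → ∃ b₁ ∈ B, ∃ b₂ ∈ B, x = b₁ * t * b₂)
    {x₀ : G} (hx₀ : x₀ ∈ B) (htx : t⁻¹ * x₀ * t ∈ B)
    (hne : m ⟨t⁻¹ * x₀ * t, htx⟩ ≠ m ⟨x₀, hx₀⟩) :
    IsIrrCharacter G (indFun B (fun b => (m b : ℂ))) := by
  classical
  have := Fintype.ofFinite B
  have hirr : IsIrrCharacter B (fun b => (m b : ℂ)) := isIrr_of_hom_units m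
  have hcl : IsClassFunction B (fun b => (m b : ℂ)) := IsChar.isClass (IsIrr.isCharacter hirr)
  apply IsChar.isIrr_of_norm (IsChar.ind (IsIrr.isCharacter hirr))
  rw [frobenius B _ _ (ind_isClass B _)]
  obtain ⟨e, he⟩ : ∃ e : G → ℂ, e = extendByZero B (fun b => (m b : ℂ)) := ⟨_, rfl⟩
  have hbnorm : ∀ b : B, (m b : ℂ) * conj (m b : ℂ) = 1 := by
    intro b
    have h1 := ci_irr_self hirr
    have h2 : orderOf (m b) ∣ orderOf b := orderOf_map_dvd m b
    have h3 : (m b : ℂ) ^ orderOf b = 1 := by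
      rw [← Units.val_pow_eq_pow_val, ← map_pow, pow_orderOf_eq_one, map_one, Units.val_one]
    have h4 : ‖(m b : ℂ)‖ = 1 := Complex.norm_eq_one_of_pow_eq_one h3 (orderOf_pos b).ne'
    rw [Complex.mul_conj, Complex.normSq_eq_norm_sq, h4]; simp
  -- the inner sums
  have hS : ∀ x : G, ∑ g : B, (m g : ℂ) * conj (e (x⁻¹ * g * x)) = if x ∈ B then (Nat.card B : ℂ) else 0 := by
    intro x
    split_ifs with hx
    · have h1 : ∀ g : B, (m g : ℂ) * conj (e (x⁻¹ * g * x)) = 1 := by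
        intro g
        have h2 := ext_class B hcl (B.inv_mem hx) (g : G)
        rw [inv_inv, ← he] at h2
        rw [h2, he, ext_coe, hbnorm]
      rw [Finset.sum_congr rfl fun g _ => h1 g, Finset.sum_const, Finset.card_univ,
        ← Nat.card_eq_fintype_card, nsmul_eq_mul, mul_one]
    · obtain ⟨b₁, hb₁, b₂, hb₂, hxe⟩ := hBt x hx
      have h1 : ∀ g : B, (m g : ℂ) * conj (e (x⁻¹ * g * x)) =
          (m ((⟨b₁, hb₁⟩ : B)⁻¹ * g * ⟨b₁, hb₁⟩) : ℂ) * conj (e (t⁻¹ * (((⟨b₁, hb₁⟩ : B)⁻¹ * g * ⟨b₁, hb₁⟩ : B) : G) * t)) := by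
        intro g
        have h2 := ext_class B hcl (B.inv_mem hb₂) (t⁻¹ * (((⟨b₁, hb₁⟩ : B)⁻¹ * g * ⟨b₁, hb₁⟩ : B) : G) * t)
        rw [← he] at h2
        rw [← h2]
        congr 1
        · rw [map_mul, map_mul, map_inv, mul_right_comm, inv_mul_cancel, one_mul]
        · congr 2
          rw [hxe]
          simp only [Subgroup.coe_mul, Subgroup.coe_inv]
          group
      rw [Finset.sum_congr rfl fun g _ => h1 g]
      have h3 : ∑ g : B, (m ((⟨b₁, hb₁⟩ : B)⁻¹ * g * ⟨b₁, hb₁⟩) : ℂ) * conj (e (t⁻¹ * (((⟨b₁, hb₁⟩ : B)⁻¹ * g * ⟨b₁, hb₁⟩ : B) : G) * t)) =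
          ∑ g : B, (m g : ℂ) * conj (e (t⁻¹ * (g : G) * t)) := by
        rw [← Equiv.sum_comp (MulAut.conj (⟨b₁, hb₁⟩ : B)⁻¹).toEquiv (fun g : B => (m g : ℂ) * conj (e (t⁻¹ * (g : G) * t)))]
        refine Finset.sum_congr rfl fun g _ => ?_
        have : (MulAut.conj (⟨b₁, hb₁⟩ : B)⁻¹).toEquiv g = (⟨b₁, hb₁⟩ : B)⁻¹ * g * ⟨b₁, hb₁⟩ := by
          change (⟨b₁, hb₁⟩ : B)⁻¹ * g * (⟨b₁, hb₁⟩ : B)⁻¹⁻¹ = _
          rw [inv_inv]
        rw [this]
      rw [h3]
      -- twisting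
      obtain ⟨c, hc⟩ : ∃ c : ℂ, c = (m ⟨x₀, hx₀⟩ : ℂ) * conj (m ⟨t⁻¹ * x₀ * t, htx⟩ : ℂ) := ⟨_, rfl⟩
      have hc1 : c ≠ 1 := by
        intro h
        apply hne
        apply Units.ext
        have h4 := hbnorm ⟨t⁻¹ * x₀ * t, htx⟩
        have h5 : ((m ⟨t⁻¹ * x₀ * t, htx⟩ : ℂ) - (m ⟨x₀, hx₀⟩ : ℂ)) * conj (m ⟨t⁻¹ * x₀ * t, htx⟩ : ℂ) = 0 := by
          rw [sub_mul, h4, ← hc, h, sub_self]
        rcases mul_eq_zero.mp h5 with h6 | h6
        · exact sub_eq_zero.mp h6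
        · rw [h6, mul_zero] at h4
          exact absurd h4 zero_ne_one
      have h6 : ∑ g : B, (m g : ℂ) * conj (e (t⁻¹ * (g : G) * t)) =
          c * ∑ g : B, (m g : ℂ) * conj (e (t⁻¹ * (g : G) * t)) := by
        conv_lhs => rw [← Equiv.sum_comp (Equiv.mulLeft (⟨x₀, hx₀⟩ : B)) (fun g : B => (m g : ℂ) * conj (e (t⁻¹ * (g : G) * t)))]
        rw [Finset.mul_sum]
        refine Finset.sum_congr rfl fun g _ => ?_
        have h7 : e (t⁻¹ * (((Equiv.mulLeft (⟨x₀, hx₀⟩ : B)) g : B) : G) * t) =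
            (m ⟨t⁻¹ * x₀ * t, htx⟩ : ℂ) * e (t⁻¹ * (g : G) * t) := by
          have h8 : t⁻¹ * (((Equiv.mulLeft (⟨x₀, hx₀⟩ : B)) g : B) : G) * t = (t⁻¹ * x₀ * t) * (t⁻¹ * (g : G) * t) := by
            rw [Equiv.coe_mulLeft, Subgroup.coe_mul]; group
          rw [h8, he]
          by_cases hg : t⁻¹ * (g : G) * t ∈ B
          · rw [ext_mem B _ hg, ext_mem B _ (B.mul_mem htx hg), ← Units.val_mul, ← map_mul]
            rfl
          · rw [ext_not_mem B _ hg, ext_not_mem B, mul_zero]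
            intro h9
            apply hg
            have := B.mul_mem (B.inv_mem htx) h9
            rwa [inv_mul_cancel_left] at this
        rw [h7, Equiv.coe_mulLeft, map_mul, Units.val_mul, map_mul, hc]
        ring
      have h10 : (1 - c) * ∑ g : B, (m g : ℂ) * conj (e (t⁻¹ * (g : G) * t)) = 0 := by
        rw [sub_mul, one_mul, ← h6, sub_self]
      rcases mul_eq_zero.mp h10 with h11 | h11
      · exact absurd (sub_eq_zero.mp h11).symm hc1
      · exact h11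
  have hB0 := cardH_ne_zero B
  rw [classInner]
  have h12 : ∑ g : B, (m g : ℂ) * conj (indFun B (fun b => (m b : ℂ)) (g : G)) =
      (Nat.card B : ℂ)⁻¹ * ∑ x : G, ∑ g : B, (m g : ℂ) * conj (e (x⁻¹ * g * x)) := by
    rw [Finset.sum_comm, Finset.mul_sum]
    refine Finset.sum_congr rfl fun g _ => ?_
    rw [indFun, map_mul, map_inv₀, Complex.conj_natCast, map_sum, ← he, Finset.mul_sum, Finset.mul_sum, Finset.mul_sum]
    refine Finset.sum_congr rfl fun x _ => ?_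
    ring
  rw [h12, Finset.sum_congr rfl fun x _ => hS x, ← Finset.sum_filter, Finset.sum_const, nsmul_eq_mul]
  have h13 : (Finset.univ.filter fun x : G => x ∈ B).card = Nat.card B := by
    rw [Nat.card_eq_fintype_card, Fintype.card_subtype]
  rw [h13]
  field_simp

section Z

variable {G Ω : Type*} [Group G] [MulAction G Ω] [Finite G] [Fintype Ω]
  (hZ : IsZassenhausGroup G Ω) {a b : Ω} (hab : a ≠ b)

include hZ hab

theorem not_comm : ¬ ∀ x y : G, x * y = y * x := by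
  intro hc
  have := pretrans hZ
  have := hZ.1
  obtain ⟨x, hx, ha, hb⟩ := exists_ne_one hZ hab
  apply hx
  apply FaithfulSMul.eq_of_smul_eq_smul (α := Ω)
  intro c
  obtain ⟨g, rfl⟩ := MulAction.exists_smul_eq G a c
  rw [one_smul, ← mul_smul, hc, mul_smul, ha]

theorem hom_trivial [IsSimpleGroup G] {A : Type*} [CommGroup A] (f : G →* A) : f = 1 := by
  have hker : f.ker.Normal := inferInstance
  rcases hker.eq_bot_or_eq_top with h | h
  · exfalso
    apply not_comm hZ hab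
    intro x y
    apply (MonoidHom.ker_eq_bot_iff f).mp h
    rw [map_mul, map_mul, mul_comm]
  · ext x
    have : x ∈ f.ker := by rw [h]; trivial
    exact this

omit [Finite G] [Fintype Ω] in
theorem E_normalizer_TI : ∀ g : G, ∀ x ∈ EE G a b, x ≠ 1 → g * x * g⁻¹ ∈ EE G a b →
    g ∈ Subgroup.normalizer ((EE G a b : Subgroup G) : Set G) := by
  intro g x hx hx1 hgx
  exact (mem_normalizer_E hZ hab g).mpr (E_TI hZ hab hx hgx hx1)

theorem E_Hall (hodd : Odd (Nat.card (EE G a b))) : (Nat.card (EE G a b)).Coprime (EE G a b).index := by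
  obtain ⟨h, hh, h2⟩ := card_omega hZ hab
  have h3 := coprime_card hZ hab hh hodd
  have h4 := card_G hZ hab hh
  have h5 : (EE G a b).index = h * (h + 1) := by
    have h6 := (EE G a b).card_mul_index
    rw [h4] at h6
    have h7 : 0 < Nat.card (EE G a b) := Nat.card_pos
    apply Nat.eq_of_mul_eq_mul_left h7
    rw [h6]; ring
  rw [h5]; exact h3

/-- A `t`-invariant linear character of the two-point stabilizer is trivial. -/
theorem lam_trivial [IsSimpleGroup G] (hodd : Odd (Nat.card (EE G a b))) {t : G} (hta : t • a = b)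
    (htb : t • b = a) (lam : EE G a b →* ℂˣ)
    (htm : ∀ x ∈ EE G a b, t * x * t⁻¹ ∈ EE G a b)
    (hinv : ∀ x : EE G a b, lam ⟨t * x * t⁻¹, htm x x.2⟩ = lam x) : lam = 1 := by
  obtain ⟨K, hK⟩ : ∃ K : Subgroup G, K = Subgroup.normalizer ((EE G a b : Subgroup G) : Set G) := ⟨_, rfl⟩
  have hEK : EE G a b ≤ K := by rw [hK]; exact Subgroup.le_normalizer
  have htK : t ∈ K := by rw [hK]; exact swap_normalizes (Or.inr ⟨hta, htb⟩)
  have htE : t ∉ EE G a b := fun h => hab ((mem_E.mp h).1.symm.trans hta)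
  have hKn : ∀ k ∈ K, ∀ x ∈ EE G a b, k * x * k⁻¹ ∈ EE G a b := by
    intro k hk x hx
    rw [hK] at hk
    exact (Subgroup.mem_normalizer_iff.mp hk x).mp hx
  have hnorm : ((EE G a b).subgroupOf K).Normal := by
    refine ⟨fun x hx k => ?_⟩
    rw [Subgroup.mem_subgroupOf] at hx ⊢
    exact hKn k k.2 x hx
  have hidx : ((EE G a b).subgroupOf K).index = 2 := by
    have := index_normalizer_E hZ hab
    rw [← hK] at this
    exact this
  obtain ⟨eq, heq⟩ : ∃ eq : (EE G a b).subgroupOf K →* EE G a b, ∀ x, ((eq x : EE G a b) : G) = ((x : K) : G) :=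
    ⟨(Subgroup.subgroupOfEquivOfLe hEK).toMonoidHom, fun x => rfl⟩
  obtain ⟨V, hV⟩ := Transf.ext_two ((EE G a b).subgroupOf K) hidx (t := ⟨t, htK⟩) htE (lam.comp eq) (by
    intro n
    rw [MonoidHom.comp_apply, MonoidHom.comp_apply, ← hinv (eq n)]
    congr 1
    apply Subtype.ext
    rw [heq]
    simp only [heq, Subgroup.coe_mul, Subgroup.coe_inv])
  ext x
  have h1 := Transf.trivial_of_TI hEK hKn (by rw [hK]; exact E_normalizer_TI hZ hab) (E_Hall hZ hab hodd)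
    (fun f => hom_trivial hZ hab f) V x.2
  have h2 := hV ⟨⟨x, hEK x.2⟩, x.2⟩
  rw [MonoidHom.one_apply]
  have h3 : eq ⟨⟨x, hEK x.2⟩, x.2⟩ = x := Subtype.ext (heq _)
  rw [MonoidHom.comp_apply, h3] at h2
  rw [← h2]
  exact congrArg Units.val h1

end Z

end Cfsg.Agent.H3.Zass3
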