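import Mathlib
import Cfsg.Prelude.Def_LieExceptional
import Cfsg.Agent.H1_Frob
import Cfsg.Agent.H1_Fpf
import Cfsg.Agent.H1_Coprime2
import Cfsg.Agent.H9_FrobKer
import Cfsg.Agent.H23_PBasic
import Cfsg.Agent.H3_Zass2
import Cfsg.Agent.H3_Zass3
import Cfsg.Agent.H3_ZGrp

/-!
# Zassenhaus groups: the two-point stabilizer is inverted by an involution
-/

set_option autoImplicit false

namespace Cfsg.Agent.H3.Zass4

open Cfsg Pointwise Cfsg.Agent.H3.Zass Cfsg.Agent.H3.Zass2 Cfsg.Agent.H3.Zass3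

variable {G Ω : Type*} [Group G] [MulAction G Ω] [Finite G] [Fintype Ω]
  (hZ : IsZassenhausGroup G Ω) {a b : Ω} (hab : a ≠ b)

include hZ hab

/-- existence of the Frobenius kernel of the point stabilizer -/
theorem exists_H : ∃ H : Subgroup G, H ≤ MulAction.stabilizer G a ∧ Nat.card H + 1 = Fintype.card Ω ∧
    ∀ u ∈ H, u ≠ 1 → ∀ c : Ω, u • c = c → c = a := by
  have hF := frob_compl hZ hab
  obtain ⟨N, hN1, hN2, hN3⟩ := H9.FrobKer.frobenius _ hF
  refine ⟨N.map (MulAction.stabilizer G a).subtype, ?_, ?_, ?_⟩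
  · rintro _ ⟨x, -, rfl⟩; exact x.2
  · rw [Subgroup.card_map_of_injective (Subgroup.subtype_injective _)]
    have h1 := hN3.card_mul_card
    have h2 := index_E hZ hab
    have h3 : Nat.card N = ((EE G a b).subgroupOf (MulAction.stabilizer G a)).index := by
      have h4 := ((EE G a b).subgroupOf (MulAction.stabilizer G a)).index_mul_card
      rw [← h1] at h4
      exact (Nat.eq_of_mul_eq_mul_right Nat.card_pos h4).symm
    rw [h3]; exact h2
  · rintro _ ⟨x, hx, rfl⟩ hx1 c hc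
    by_contra hca
    have hx2 : x ∈ frobeniusKernel ((EE G a b).subgroupOf (MulAction.stabilizer G a)) := by
      rw [← hN1]; exact hx
    have hx1' : x ≠ 1 := fun h => hx1 (by rw [h]; rfl)
    rcases hx2 with h | h
    · exact hx1' h
    · obtain ⟨g, hga, hgb⟩ := two_trans hZ hab (Ne.symm hca)
      apply h ⟨g, hga⟩
      rw [Cfsg.Agent.H1.Basic.mem_conj]
      refine ⟨?_, ?_⟩
      · exact (((⟨g, hga⟩ : MulAction.stabilizer G a)⁻¹ * x * ⟨g, hga⟩ : MulAction.stabilizer G a)).2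
      · change (g⁻¹ * (x : G) * g) • b = b
        rw [mul_smul, mul_smul, hgb, inv_smul_eq_iff, hgb]
        exact hc

/-- elements of `E` act fixed-point-freely on `H` -/
theorem fpf {H : Subgroup G} (hHa : H ≤ MulAction.stabilizer G a)
    (hHfix : ∀ u ∈ H, u ≠ 1 → ∀ c : Ω, u • c = c → c = a) {x u : G} (hx : x ∈ EE G a b) (hx1 : x ≠ 1)
    (hu : u ∈ H) (hc : x * u = u * x) : u = 1 := by
  by_contra hu1
  have h1 : x • (u • b) = u • b := by rw [← mul_smul, hc, mul_smul, (mem_E.mp hx).2]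
  rcases fix_two hZ hx1 hab (mem_E.mp hx).1 (mem_E.mp hx).2 h1 with h2 | h2
  · have hua : u • a = a := hHa hu
    exact hab (smul_left_cancel u (h2.trans hua.symm)).symm
  · exact hab (hHfix u hu hu1 b h2).symm

/-- the two-point stabilizer has cyclic Sylow subgroups for odd primes -/
theorem zgroup (hodd : Odd (Nat.card (EE G a b))) : IsZGroup (EE G a b) := by
  classical
  obtain ⟨H, hHa, hHcard, hHfix⟩ := exists_H hZ hab
  obtain ⟨h, hh, h2⟩ := card_omega hZ hab
  have hHh : Nat.card H = h := by omega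
  refine ⟨fun p hp P => ?_⟩
  have := Fact.mk hp
  by_cases hpE : p ∣ Nat.card (EE G a b)
  swap
  · have h3 : Nat.card P = 1 := by
      obtain ⟨n, hn⟩ := IsPGroup.iff_card.mp P.2
      rcases Nat.eq_zero_or_pos n with h0 | h0
      · change Nat.card (P : Subgroup (EE G a b)) = 1
        rw [hn, h0, pow_zero]
      · exfalso
        apply hpE
        exact (dvd_pow_self p h0.ne').trans (hn ▸ (P : Subgroup (EE G a b)).card_subgroup_dvd_card)
    have : Subsingleton P := (Nat.card_eq_one_iff_unique.mp h3).1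
    exact isCyclic_of_subsingleton
  have hp2 : p ≠ 2 := by
    rintro rfl
    have := Odd.of_dvd_nat hodd hpE
    exact absurd this (by decide)
  apply H23.PBasic.cyclic_of_abelian_cyclic P.2 (Or.inl hp2)
  intro A hA _
  -- view `A` in `G`
  obtain ⟨f, hf, hfv⟩ : ∃ f : P →* G, Function.Injective f ∧ ∀ x, f x = ((x : EE G a b) : G) :=
    ⟨(EE G a b).subtype.comp (P : Subgroup (EE G a b)).subtype,
      (Subgroup.subtype_injective _).comp (Subgroup.subtype_injective _), fun x => rfl⟩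
  have hAE : A.map f ≤ EE G a b := by
    rintro _ ⟨x, -, rfl⟩; rw [hfv]; exact (x : EE G a b).2
  have hAp : IsPGroup p (A.map f) := ((P.2.to_subgroup A).map f)
  have hnH : Subgroup.normalizer (H : Set G) = MulAction.stabilizer G a := normalizer_H hZ a H hHa hHcard hHfix
  have hAH : A.map f ≤ Subgroup.normalizer (H : Set G) := by rw [hnH]; exact hAE.trans inf_le_left
  have hcopE := coprime_card hZ hab hh hodd
  have hcop : (Nat.card (A.map f)).Coprime (Nat.card H) := by
    rw [hHh]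
    exact Nat.Coprime.coprime_dvd_left (Subgroup.card_dvd_of_le hAE) (Nat.Coprime.coprime_mul_right_right hcopE)
  obtain ⟨q, hq, hqd⟩ := Nat.exists_prime_and_dvd (n := Nat.card H) (by omega)
  have := Fact.mk hq
  have hAcomm : IsMulCommutative (A.map f) := by
    refine ⟨⟨?_⟩⟩
    rintro ⟨_, x, hx, rfl⟩ ⟨_, y, hy, rfl⟩
    apply Subtype.ext
    simp only [Subgroup.coe_mul]
    rw [← map_mul, ← map_mul]
    congr 1
    have := hA.is_comm.comm ⟨x, hx⟩ ⟨y, hy⟩
    exact congrArg Subtype.val this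
  have hsolv : Group.IsSolvable (A.map f) := by
    let : CommGroup (A.map f) := { (inferInstance : Group (A.map f)) with mul_comm := hAcomm.is_comm.comm }
    infer_instance
  obtain ⟨Q, hQ⟩ := Cfsg.Agent.H1.Coprime.invariant_sylow_exists (A.map f) H hAH hcop (Or.inl hsolv) q
  obtain ⟨Q', hQ'⟩ : ∃ Q' : Subgroup G, Q' = (Q : Subgroup H).map H.subtype := ⟨_, rfl⟩
  rw [← hQ'] at hQ
  have hQH : Q' ≤ H := by rw [hQ']; exact Subgroup.map_subtype_le _
  have hQp : IsPGroup q Q' := by rw [hQ']; exact Q.2.map _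
  have hQ1 : Q' ≠ ⊥ := by
    intro h
    have h3 : Nat.card Q' = 1 := Subgroup.card_eq_one.mpr h
    rw [hQ', Subgroup.card_map_of_injective (Subgroup.subtype_injective _)] at h3
    have h4 := Q.dvd_card_of_dvd_card hqd
    rw [h3] at h4
    exact hq.one_lt.ne' (Nat.dvd_one.mp h4)
  obtain ⟨V, hV⟩ : ∃ V : Subgroup G, V = (Subgroup.center Q').map Q'.subtype := ⟨_, rfl⟩
  have hVQ : V ≤ Q' := by rw [hV]; exact Subgroup.map_subtype_le _
  have hVc : IsMulCommutative V := by
    refine ⟨⟨?_⟩⟩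
    rintro ⟨x, hx⟩ ⟨y, hy⟩
    rw [hV] at hx hy
    obtain ⟨x', hx', rfl⟩ := hx
    obtain ⟨y', hy', rfl⟩ := hy
    apply Subtype.ext
    have h9 := congrArg Subtype.val (Subgroup.mem_center_iff.mp hx' y')
    exact h9.symm
  have hV1 : V ≠ ⊥ := by
    rw [hV]
    intro h
    have h3 : Subgroup.center Q' = ⊥ := (Subgroup.map_eq_bot_iff_of_injective _ (Subgroup.subtype_injective _)).mp h
    have hnt : Nontrivial Q' := (Subgroup.nontrivial_iff_ne_bot _).mpr hQ1
    have h4 := hQp.center_nontrivial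
    rw [h3] at h4
    exact not_subsingleton (⊥ : Subgroup Q') inferInstance
  have hAV : A.map f ≤ Subgroup.normalizer (V : Set G) := by
    intro x hx
    have hxQ := hQ hx
    rw [Subgroup.mem_normalizer_iff] at hxQ ⊢
    have key : ∀ z : G, (∀ y, y ∈ Q' ↔ z * y * z⁻¹ ∈ Q') → ∀ y ∈ V, z * y * z⁻¹ ∈ V := by
      intro z hz y hy
      rw [hV] at hy ⊢
      obtain ⟨y', hy', rfl⟩ := hy
      refine ⟨⟨z * y' * z⁻¹, (hz _).mp y'.2⟩, ?_, rfl⟩
      rw [SetLike.mem_coe, Subgroup.mem_center_iff]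
      intro w
      have hw : z⁻¹ * (w : G) * z ∈ Q' := by
        rw [hz]
        have : z * (z⁻¹ * (w : G) * z) * z⁻¹ = w := by group
        rw [this]; exact w.2
      have h5 := congrArg Subtype.val (Subgroup.mem_center_iff.mp hy' ⟨_, hw⟩)
      simp only [Subgroup.coe_mul] at h5
      apply Subtype.ext
      simp only [Subgroup.coe_mul]
      have e1 : (w : G) * (z * y' * z⁻¹) = z * (z⁻¹ * w * z * y') * z⁻¹ := by group
      have e2 : z * y' * z⁻¹ * (w : G) = z * (y' * (z⁻¹ * w * z)) * z⁻¹ := by group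
      rw [e1, e2, h5]
    intro y
    refine ⟨key x hxQ y, fun hy => ?_⟩
    have hx' : ∀ y, y ∈ Q' ↔ x⁻¹ * y * x⁻¹⁻¹ ∈ Q' := by
      intro y
      have := hxQ (x⁻¹ * y * x⁻¹⁻¹)
      rw [this]
      have e : x * (x⁻¹ * y * x⁻¹⁻¹) * x⁻¹ = y := by group
      rw [e]
    have := key x⁻¹ hx' _ hy
    have e : x⁻¹ * (x * y * x⁻¹) * x⁻¹⁻¹ = y := by group
    rwa [e] at this
  have hcyc := H1.Fpf.isCyclic_of_fpf (A.map f) V hV1 hAV (by
    intro x hx hx1
    rw [Subgroup.eq_bot_iff_forall]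
    rintro u ⟨hu, huc⟩
    exact fpf hZ hab hHa hHfix (hAE hx) hx1 (hQH (hVQ hu)) (Subgroup.mem_centralizer_singleton_iff.mp huc).symm)
    (Or.inl hAcomm)
  exact (A.equivMapOfInjective f hf).isCyclic.mpr hcyc

/-- If `G` is simple, an involution swapping `a` and `b` centralizes no nontrivial element of `E` -/
theorem fix_trivial [IsSimpleGroup G] (hodd : Odd (Nat.card (EE G a b))) {t : G} (ht : t * t = 1)
    (hta : t • a = b) (htb : t • b = a) {x : G} (hx : x ∈ EE G a b) (hc : t * x * t⁻¹ = x) : x = 1 := by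
  have := zgroup hZ hab hodd
  have htn : t ∈ Subgroup.normalizer ((EE G a b : Subgroup G) : Set G) := swap_normalizes (Or.inr ⟨hta, htb⟩)
  have htm : ∀ x ∈ EE G a b, t * x * t⁻¹ ∈ EE G a b := fun x hx =>
    (Subgroup.mem_normalizer_iff.mp htn x).mp hx
  have htt : ∀ x : G, t * (t * x * t⁻¹) * t⁻¹ = x := by
    intro x
    have h1 : t * (t * x * t⁻¹) * t⁻¹ = (t * t) * x * (t * t)⁻¹ := by group
    rw [h1, ht]; group
  let τ : EE G a b ≃* EE G a b :=
    { toFun := fun x => ⟨t * x * t⁻¹, htm x x.2⟩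
      invFun := fun x => ⟨t * x * t⁻¹, htm x x.2⟩
      left_inv := fun x => Subtype.ext (htt x)
      right_inv := fun x => Subtype.ext (htt x)
      map_mul' := fun x y => by apply Subtype.ext; simp only [Subgroup.coe_mul]; group }
  have h1 := ZGrp.fix_trivial hodd τ (fun x => Subtype.ext (htt x)) (fun lam hlam =>
    lam_trivial hZ hab hodd hta htb lam htm hlam) (x := ⟨x, hx⟩) (Subtype.ext hc)
  exact congrArg Subtype.val h1

/-- `t` inverts `E` -/
theorem inverts [IsSimpleGroup G] (hodd : Odd (Nat.card (EE G a b))) {t : G} (ht : t * t = 1)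
    (hta : t • a = b) (htb : t • b = a) {x : G} (hx : x ∈ EE G a b) : t * x * t⁻¹ = x⁻¹ := by
  classical
  have htn : t ∈ Subgroup.normalizer ((EE G a b : Subgroup G) : Set G) := swap_normalizes (Or.inr ⟨hta, htb⟩)
  have htm : ∀ x ∈ EE G a b, t * x * t⁻¹ ∈ EE G a b := fun x hx =>
    (Subgroup.mem_normalizer_iff.mp htn x).mp hx
  have hinj : Function.Injective (fun x : EE G a b => (⟨(x : G)⁻¹ * (t * x * t⁻¹), 
      (EE G a b).mul_mem ((EE G a b).inv_mem x.2) (htm x x.2)⟩ : EE G a b)) := by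
    intro x y hxy
    have h1 : (x : G)⁻¹ * (t * x * t⁻¹) = (y : G)⁻¹ * (t * y * t⁻¹) := congrArg Subtype.val hxy
    have h2 : t * ((y : G) * (x : G)⁻¹) * t⁻¹ = (y : G) * (x : G)⁻¹ := by
      have e1 : t * ((y : G) * (x : G)⁻¹) * t⁻¹ = (y : G) * ((y : G)⁻¹ * (t * y * t⁻¹)) * (t * x * t⁻¹)⁻¹ := by group
      rw [e1, ← h1]; group
    have h3 := fix_trivial hZ hab hodd ht hta htb ((EE G a b).mul_mem y.2 ((EE G a b).inv_mem x.2)) h2
    exact Subtype.ext (mul_inv_eq_one.mp h3).symm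
  have hsurj := Finite.surjective_of_injective hinj
  obtain ⟨y, hy⟩ := hsurj ⟨x, hx⟩
  have hy' : (y : G)⁻¹ * (t * y * t⁻¹) = x := congrArg Subtype.val hy
  rw [← hy']
  have e1 : t * ((y : G)⁻¹ * (t * y * t⁻¹)) * t⁻¹ = (t * y * t⁻¹)⁻¹ * ((t * t) * y * (t * t)⁻¹) := by group
  rw [e1, ht]; group

/-- `E` is abelian -/
theorem comm_E [IsSimpleGroup G] (hodd : Odd (Nat.card (EE G a b))) {x y : G} (hx : x ∈ EE G a b)
    (hy : y ∈ EE G a b) : x * y = y * x := by
  obtain ⟨t, ht, hta, htb⟩ := exists_inv hZ hab hodd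
  have ht2 : t * t = 1 := by have := pow_orderOf_eq_one t; rwa [ht, sq] at this
  have h1 := inverts hZ hab hodd ht2 hta htb ((EE G a b).mul_mem hx hy)
  have h2 := inverts hZ hab hodd ht2 hta htb hx
  have h3 := inverts hZ hab hodd ht2 hta htb hy
  have h4 : t * (x * y) * t⁻¹ = (t * x * t⁻¹) * (t * y * t⁻¹) := by group
  rw [h4, h2, h3] at h1
  have h5 := congrArg (·⁻¹) h1
  simp only [mul_inv_rev, inv_inv] at h5
  exact h5.symm

end Cfsg.Agent.H3.Zass4
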