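import Mathlib

set_option autoImplicit false

namespace Cfsg.Agent.H9.RegNormal

open scoped Pointwise

theorem two_primitive {G : Type*} [Group G] {X : Type*} [Fintype X] [MulAction G X] (hX : 2 ≤ Fintype.card X) (h2 : MulAction.IsMultiplyPreprimitive G X 2) (N : Subgroup G) [N.Normal] (htrans : MulAction.IsPretransitive N X) (hreg : ∀ x : X, MulAction.stabilizer N x = ⊥) : Fintype.card X = 3 ∨ (IsMulCommutative N ∧ (∀ n ∈ N, n ^ 2 = 1) ∧ ∃ m : ℕ, Fintype.card X = 2 ^ m) := by
  classical
  have hXne : Nonempty X := Fintype.card_pos_iff.1 (by omega)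
  obtain ⟨x₀⟩ := hXne
  have hN : N.Normal := inferInstance
  haveI htrG : MulAction.IsPretransitive G X := by
    haveI := h2.isMultiplyPretransitive
    exact MulAction.isPretransitive_of_is_two_pretransitive
  have hprim : MulAction.IsPreprimitive (MulAction.stabilizer G x₀) (SubMulAction.ofStabilizer G x₀) := by
    rw [← MulAction.is_one_preprimitive_iff]
    exact MulAction.isMultiplyPreprimitive_ofStabilizer G X (n := 1)
  have huniq : ∀ n n' : N, n • x₀ = n' • x₀ → n = n' := by
    intro n n' h
    have : n'⁻¹ * n ∈ MulAction.stabilizer N x₀ := by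
      rw [MulAction.mem_stabilizer_iff, mul_smul, inv_smul_eq_iff]; exact h
    rw [hreg, Subgroup.mem_bot] at this
    exact (inv_mul_eq_one.1 this).symm
  by_cases hall : ∀ n : N, n * n = 1
  · right
    have hcomm : IsMulCommutative N := by
      rw [isMulCommutative_iff]
      intro a b
      have ha : a⁻¹ = a := inv_eq_of_mul_eq_one_right (hall a)
      have hb : b⁻¹ = b := inv_eq_of_mul_eq_one_right (hall b)
      have hab : (a * b)⁻¹ = a * b := inv_eq_of_mul_eq_one_right (hall _)
      rw [← hab, mul_inv_rev, ha, hb]
    refine ⟨hcomm, ?_, ?_⟩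
    · intro n hn
      rw [pow_two]
      exact congrArg Subtype.val (hall ⟨n, hn⟩)
    · have hpg : IsPGroup 2 N := fun g => ⟨1, by rw [pow_one, pow_two]; exact hall g⟩
      have e : N ≃ X := Equiv.ofBijective (fun n : N => n • x₀) ⟨fun n n' h => huniq n n' h, fun x => htrans.exists_smul_eq x₀ x⟩
      haveI : Finite N := Finite.of_equiv X e.symm
      obtain ⟨m, hm⟩ := IsPGroup.iff_card.1 hpg
      refine ⟨m, ?_⟩
      rw [← Nat.card_eq_fintype_card, ← hm, Nat.card_congr e]
  · left
    push Not at hall
    obtain ⟨n, hn⟩ := hall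
    have hn1 : n ≠ 1 := by rintro rfl; simp at hn
    set y : X := n • x₀ with hy
    set y' : X := n⁻¹ • x₀ with hy'
    have hyx : y ≠ x₀ := by
      intro h
      exact hn1 (huniq n 1 (by rw [one_smul]; exact h))
    have hyx' : y' ≠ x₀ := by
      intro h
      exact hn1 (inv_eq_one.1 (huniq n⁻¹ 1 (by rw [one_smul]; exact h)))
    have hyy' : y ≠ y' := by
      intro h
      have := huniq n n⁻¹ h
      apply hn
      nth_rewrite 2 [this]
      simp
    let a : SubMulAction.ofStabilizer G x₀ := ⟨y, hyx⟩
    let a' : SubMulAction.ofStabilizer G x₀ := ⟨y', hyx'⟩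
    have hB : MulAction.IsBlock (MulAction.stabilizer G x₀) ({a, a'} : Set (SubMulAction.ofStabilizer G x₀)) := by
      rw [MulAction.isBlock_iff_smul_eq_or_disjoint]
      intro g
      by_cases hd : Disjoint (g • ({a, a'} : Set (SubMulAction.ofStabilizer G x₀))) {a, a'}
      · exact Or.inr hd
      left
      -- g n g⁻¹
      have hg : (g : G) • x₀ = x₀ := g.2
      have hg' : (g : G)⁻¹ • x₀ = x₀ := by rw [inv_smul_eq_iff, hg]
      let n' : N := ⟨(g : G) * n * (g : G)⁻¹, hN.conj_mem _ n.2 _⟩
      have e1 : ((g • a : SubMulAction.ofStabilizer G x₀) : X) = n' • x₀ := by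
        change (g : G) • ((n : G) • x₀) = ((g : G) * n * (g : G)⁻¹) • x₀
        rw [mul_smul, mul_smul, hg']
      have e2 : ((g • a' : SubMulAction.ofStabilizer G x₀) : X) = n'⁻¹ • x₀ := by
        change (g : G) • ((n : G)⁻¹ • x₀) = ((g : G) * n * (g : G)⁻¹)⁻¹ • x₀
        rw [mul_inv_rev, mul_inv_rev, inv_inv, mul_smul, mul_smul, hg']
      have key : n' = n ∨ n' = n⁻¹ := by
        rw [Set.not_disjoint_iff] at hd
        obtain ⟨b, hb1, hb2⟩ := hd
        rw [Set.mem_smul_set] at hb1
        obtain ⟨c, hc, rfl⟩ := hb1
        simp only [Set.mem_insert_iff, Set.mem_singleton_iff] at hc hb2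
        rcases hc with rfl | rfl <;> rcases hb2 with h | h
        · left
          apply huniq
          rw [← e1, h]
        · right
          apply huniq
          rw [← e1, h]
        · right
          have : n'⁻¹ = n := by
            apply huniq
            rw [← e2, h]
          rw [← this, inv_inv]
        · left
          have : n'⁻¹ = n⁻¹ := by
            apply huniq
            rw [← e2, h]
          exact inv_injective this
      have hset : g • ({a, a'} : Set (SubMulAction.ofStabilizer G x₀)) = {g • a, g • a'} := by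
        rw [← Set.image_smul, Set.image_pair]
      rw [hset]
      rcases key with h | h
      · have h1 : g • a = a := Subtype.ext (by rw [e1, h])
        have h2 : g • a' = a' := Subtype.ext (by rw [e2, h])
        rw [h1, h2]
      · have h1 : g • a = a' := Subtype.ext (by rw [e1, h])
        have h2 : g • a' = a := Subtype.ext (by rw [e2, h, inv_inv])
        rw [h1, h2, Set.pair_comm]
    rcases MulAction.IsPreprimitive.isTrivialBlock_of_isBlock hB with h | h
    · exfalso
      have : a = a' := h (by simp) (by simp)
      exact hyy' (congrArg Subtype.val this)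
    · have huniv : (Finset.univ : Finset X) = {x₀, y, y'} := by
        ext z
        simp only [Finset.mem_univ, Finset.mem_insert, Finset.mem_singleton, true_iff]
        by_cases hz : z = x₀
        · exact Or.inl hz
        · right
          have : (⟨z, hz⟩ : SubMulAction.ofStabilizer G x₀) ∈ ({a, a'} : Set (SubMulAction.ofStabilizer G x₀)) := by
            rw [h]; trivial
          rcases this with h1 | h1
          · exact Or.inl (congrArg Subtype.val h1)
          · exact Or.inr (congrArg Subtype.val h1)
      rw [← Finset.card_univ, huniv, Finset.card_insert_of_notMem (by simp [Ne.symm hyx, Ne.symm hyx']), Finset.card_pair hyy']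

theorem three_primitive {G : Type*} [Group G] {X : Type*} [Fintype X] [MulAction G X] (hX : 3 ≤ Fintype.card X) (h3 : MulAction.IsMultiplyPreprimitive G X 3) (N : Subgroup G) [N.Normal] (htrans : MulAction.IsPretransitive N X) (hreg : ∀ x : X, MulAction.stabilizer N x = ⊥) : Fintype.card X = 3 ∨ Fintype.card X = 4 := by
  classical
  have h2 : MulAction.IsMultiplyPreprimitive G X 2 :=
    MulAction.isMultiplyPreprimitive_of_le G X h3 (by norm_num) (by simpa using hX)
  rcases two_primitive (by omega) h2 N htrans hreg with h | ⟨hcomm, hsq, -⟩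
  · exact Or.inl h
  by_cases h3' : Fintype.card X = 3
  · exact Or.inl h3'
  right
  have hN : N.Normal := inferInstance
  have hfree : ∀ n : N, ∀ x : X, n • x = x → n = 1 := by
    intro n x h
    have : n ∈ MulAction.stabilizer N x := h
    rwa [hreg, Subgroup.mem_bot] at this
  obtain ⟨T, -, hT⟩ := Finset.exists_subset_card_eq (s := (Finset.univ : Finset X)) (n := 3) (by rw [Finset.card_univ]; omega)
  obtain ⟨x₀, y, z, hxy, hxz, hyz, -⟩ := Finset.card_eq_three.1 hT
  obtain ⟨n, hn⟩ := htrans.exists_smul_eq x₀ y
  have hn1 : n ≠ 1 := by rintro rfl; rw [one_smul] at hn; exact hxy hn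
  have hnn : ∀ w : X, n • (n • w) = w := by
    intro w
    rw [← mul_smul, ← pow_two]
    have : n ^ 2 = 1 := Subtype.ext (hsq n n.2)
    rw [this, one_smul]
  have hny : n • y = x₀ := by rw [← hn, hnn]
  let s : Set X := {x₀, y}
  have hs : s.encard + 1 = 3 := by
    change (({x₀, y} : Set X)).encard + 1 = 3
    rw [Set.encard_pair hxy]; norm_num
  have hprim := h3.isPreprimitive_ofFixingSubgroup (s := s) hs
  set z' : X := n • z with hz'
  have hz's : z' ∉ s := by
    change ¬ (z' = x₀ ∨ z' = y)
    rintro (h | h)
    · apply hyz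
      rw [← hn, ← h, hz', hnn]
    · apply hxz
      rw [← hny, ← h, hz', hnn]
  have hzs : z ∉ s := by
    change ¬ (z = x₀ ∨ z = y)
    rintro (h | h)
    · exact hxz h.symm
    · exact hyz h.symm
  have hzz' : z ≠ z' := fun h => hn1 (hfree n z h.symm)
  let a : SubMulAction.ofFixingSubgroup G s := ⟨z, hzs⟩
  let a' : SubMulAction.ofFixingSubgroup G s := ⟨z', hz's⟩
  have hB : MulAction.IsBlock (fixingSubgroup G s) ({a, a'} : Set (SubMulAction.ofFixingSubgroup G s)) := by
    rw [MulAction.isBlock_iff_smul_eq_or_disjoint]
    intro g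
    by_cases hd : Disjoint (g • ({a, a'} : Set (SubMulAction.ofFixingSubgroup G s))) {a, a'}
    · exact Or.inr hd
    left
    have hgx : (g : G) • x₀ = x₀ := (mem_fixingSubgroup_iff G).1 g.2 x₀ (Or.inl rfl)
    have hgy : (g : G) • y = y := (mem_fixingSubgroup_iff G).1 g.2 y (Or.inr rfl)
    have hgx' : (g : G)⁻¹ • x₀ = x₀ := by rw [inv_smul_eq_iff, hgx]
    have hgn : (g : G) * n = n * g := by
      let n' : N := ⟨(g : G) * n * (g : G)⁻¹, hN.conj_mem _ n.2 _⟩
      have h4 : n' • x₀ = y := by
        change ((g : G) * n * (g : G)⁻¹) • x₀ = y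
        rw [mul_smul, mul_smul, hgx']
        have : (n : G) • x₀ = y := hn
        rw [this, hgy]
      have h5 : n⁻¹ * n' = 1 := by
        apply hfree _ x₀
        rw [mul_smul, h4, inv_smul_eq_iff, hn]
      have h6 : n' = n := (inv_mul_eq_one.1 h5).symm
      have h7 : (g : G) * n * (g : G)⁻¹ = n := congrArg Subtype.val h6
      rw [mul_inv_eq_iff_eq_mul] at h7
      exact h7
    have hgκ : ∀ w : X, (g : G) • (n • w) = n • ((g : G) • w) := by
      intro w
      change (g : G) • ((n : G) • w) = (n : G) • ((g : G) • w)
      rw [← mul_smul, hgn, mul_smul]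
    have e1 : ((g • a : SubMulAction.ofFixingSubgroup G s) : X) = (g : G) • z := rfl
    have e2 : ((g • a' : SubMulAction.ofFixingSubgroup G s) : X) = n • ((g : G) • z) := by
      change (g : G) • (n • z) = _
      rw [hgκ]
    have key : (g : G) • z = z ∨ (g : G) • z = z' := by
      rw [Set.not_disjoint_iff] at hd
      obtain ⟨b, hb1, hb2⟩ := hd
      rw [Set.mem_smul_set] at hb1
      obtain ⟨c, hc, rfl⟩ := hb1
      simp only [Set.mem_insert_iff, Set.mem_singleton_iff] at hc hb2
      rcases hc with rfl | rfl <;> rcases hb2 with h | h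
      · left; rw [← e1, h]
      · right; rw [← e1, h]
      · right
        have : n • ((g : G) • z) = z := by rw [← e2, h]
        rw [hz']; nth_rewrite 2 [← this]; rw [hnn]
      · left
        have : n • ((g : G) • z) = n • z := by rw [← e2, h]
        exact MulAction.injective n this
    have hset : g • ({a, a'} : Set (SubMulAction.ofFixingSubgroup G s)) = {g • a, g • a'} := by
      rw [← Set.image_smul, Set.image_pair]
    rw [hset]
    rcases key with h | h
    · have h1 : g • a = a := Subtype.ext (by rw [e1, h])
      have h2 : g • a' = a' := Subtype.ext (by rw [e2, h])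
      rw [h1, h2]
    · have h1 : g • a = a' := Subtype.ext (by rw [e1, h])
      have h2 : g • a' = a := Subtype.ext (by rw [e2, h, hz', hnn])
      rw [h1, h2, Set.pair_comm]
  rcases MulAction.IsPreprimitive.isTrivialBlock_of_isBlock hB with h | h
  · exfalso
    have : a = a' := h (by simp) (by simp)
    exact hzz' (congrArg Subtype.val this)
  · have huniv : (Finset.univ : Finset X) = {x₀, y, z, z'} := by
      ext w
      simp only [Finset.mem_univ, Finset.mem_insert, Finset.mem_singleton, true_iff]
      by_cases hw : w = x₀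
      · exact Or.inl hw
      by_cases hw' : w = y
      · exact Or.inr (Or.inl hw')
      · right; right
        have hws : w ∉ s := by
          change ¬ (w = x₀ ∨ w = y)
          rintro (h | h)
          · exact hw h
          · exact hw' h
        have : (⟨w, hws⟩ : SubMulAction.ofFixingSubgroup G s) ∈ ({a, a'} : Set (SubMulAction.ofFixingSubgroup G s)) := by
          rw [h]; trivial
        rcases this with h1 | h1
        · exact Or.inl (congrArg Subtype.val h1)
        · exact Or.inr (congrArg Subtype.val h1)
    have hle : Fintype.card X ≤ 4 := by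
      rw [← Finset.card_univ, huniv]
      exact Finset.card_le_four
    omega

end Cfsg.Agent.H9.RegNormal
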