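import Mathlib
import Cfsg.Agent.H9_RegNormal

set_option autoImplicit false

namespace Cfsg.Agent.H9.NormalMT

open MulAction SubMulAction
open scoped Pointwise

universe u v

/-- `N` transitive, `N ∩ G_a` `j`-transitive on the rest: `N` is `(j+1)`-transitive. -/
theorem succ_of_subgroupOf {G : Type u} [Group G] {α : Type v} [MulAction G α] {N : Subgroup G}
    (a : α) (hN : IsPretransitive N α) {j : ℕ}
    (h : IsMultiplyPretransitive (N.subgroupOf (stabilizer G a)) (ofStabilizer G a) j) :
    IsMultiplyPretransitive N α (j + 1) := by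
  have h1 : IsMultiplyPretransitive (stabilizer N a) (ofStabilizer N a) j := by
    let φ : (N.subgroupOf (stabilizer G a)) → stabilizer N a := fun n => ⟨⟨n.1.1, n.2⟩, n.1.2⟩
    let f : ofStabilizer G a →ₑ[φ] ofStabilizer N a :=
      { toFun := fun x => ⟨x.1, x.2⟩, map_smul' := fun _ _ => rfl }
    have hf : Function.Surjective f := fun x => ⟨⟨x.1, x.2⟩, rfl⟩
    exact IsPretransitive.of_embedding (n := Fin j) hf
  exact (ofStabilizer.isMultiplyPretransitive (a := a)).2 h1

/-- a group action of degree `m+1` which is `m`-transitive is `(m+1)`-transitive. -/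
theorem succ_of_card {G : Type u} [Group G] {α : Type v} [MulAction G α] [Fintype α] {m : ℕ}
    (hm : Fintype.card α = m + 1) (h : IsMultiplyPretransitive G α m) :
    IsMultiplyPretransitive G α (m + 1) := by
  classical
  constructor
  intro x y
  obtain ⟨g, hg⟩ := h.exists_smul_eq (Fin.castSuccEmb.trans x) (Fin.castSuccEmb.trans y)
  have hg' : ∀ i : Fin m, g • x i.castSucc = y i.castSucc := fun i =>
    congrArg (fun f : Fin m ↪ α => f i) hg
  refine ⟨g, ?_⟩
  ext i
  change g • x i = y i
  induction i using Fin.lastCases with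
  | cast i => exact hg' i
  | last =>
    have hysurj : Function.Surjective y := by
      have hb := (Fintype.bijective_iff_injective_and_card y).2 ⟨y.injective, by rw [hm, Fintype.card_fin]⟩
      exact hb.2
    obtain ⟨j, hj⟩ := hysurj (g • x (Fin.last m))
    induction j using Fin.lastCases with
    | last => exact hj.symm
    | cast j =>
      exfalso
      rw [← hg'] at hj
      have := x.injective (MulAction.injective g hj)
      exact absurd this (Fin.castSucc_lt_last j).ne

/-- a "sharply 2-transitive" group with elementary abelian 2-group point stabilisers has degree at most 3. -/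
theorem card_le_three {G : Type u} [Group G] {α : Type v} [MulAction G α] [Fintype α] (H : Subgroup G)
    (h1 : ∀ a b c : α, b ≠ a → c ≠ a → ∃ h ∈ H, h • a = a ∧ h • b = c)
    (h2 : ∀ h ∈ H, ∀ a : α, h • a = a → h * h = 1)
    (h3 : ∀ h ∈ H, ∀ a b : α, a ≠ b → h • a = a → h • b = b → h = 1) : Fintype.card α ≤ 3 := by
  classical
  by_contra hcon
  push Not at hcon
  obtain ⟨T, -, hT⟩ := Finset.exists_subset_card_eq (s := (Finset.univ : Finset α)) (n := 4) (by rw [Finset.card_univ]; omega)
  obtain ⟨a, b, c, d, hab, hac, had, hbc, hbd, hcd, -⟩ := Finset.card_eq_four.1 hT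
  obtain ⟨s, hs, hsa, hsb⟩ := h1 a b c (Ne.symm hab) (Ne.symm hac)
  obtain ⟨u, hu, hud, hub⟩ := h1 d b c hbd hcd
  have hss := h2 s hs a hsa
  have huu := h2 u hu d hud
  have hsc : s • c = b := by rw [← hsb, ← mul_smul, hss, one_smul]
  have huc : u • c = b := by rw [← hub, ← mul_smul, huu, one_smul]
  have hsu : s⁻¹ * u = 1 := by
    apply h3 _ (H.mul_mem (H.inv_mem hs) hu) b c hbc
    · rw [mul_smul, hub, inv_smul_eq_iff, hsb]
    · rw [mul_smul, huc, inv_smul_eq_iff, hsc]
  have hsu' : s = u := inv_mul_eq_one.1 hsu
  have : s = 1 := h3 s hs a d had hsa (by rw [hsu']; exact hud)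
  rw [this, one_smul] at hsb
  exact hbc hsb

theorem faithful_ofStabilizer {G : Type u} [Group G] {α : Type v} [MulAction G α] [FaithfulSMul G α] (a : α) :
    FaithfulSMul (stabilizer G a) (ofStabilizer G a) := by
  constructor
  intro g h hgh
  apply Subtype.ext
  apply FaithfulSMul.eq_of_smul_eq_smul (α := α)
  intro x
  by_cases hx : x = a
  · subst hx
    have h1 : (g : G) • x = x := g.2
    have h2 : (h : G) • x = x := h.2
    rw [h1, h2]
  · exact congrArg Subtype.val (hgh ⟨x, hx⟩)

theorem transitive_of_primitive {G : Type u} [Group G] {α : Type v} [MulAction G α] [FaithfulSMul G α]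
    (hG : IsPreprimitive G α) (N : Subgroup G) [N.Normal] (hN : N ≠ ⊥) : IsPretransitive N α := by
  apply IsQuasiPreprimitive.isPretransitive_of_normal (G := G)
  intro h
  apply hN
  rw [eq_bot_iff]
  intro n hn
  rw [Subgroup.mem_bot]
  apply FaithfulSMul.eq_of_smul_eq_smul (α := α)
  intro x
  have hx : x ∈ fixedPoints N α := by rw [h]; trivial
  rw [one_smul]
  exact hx ⟨n, hn⟩

/-- from a special point to all points. -/
theorem card_le_three' {G : Type u} [Group G] {α : Type v} [MulAction G α] [Fintype α] [FaithfulSMul G α] (H : Subgroup G)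
    [hHn : H.Normal] (htr : IsPretransitive G α) (a : α)
    (h1 : IsPretransitive (H.subgroupOf (stabilizer G a)) (ofStabilizer G a))
    (h2 : ∀ h ∈ H.subgroupOf (stabilizer G a), h * h = 1)
    (h3 : ∀ b : ofStabilizer G a, stabilizer (H.subgroupOf (stabilizer G a)) b = ⊥) : Fintype.card α ≤ 3 := by
  have key : ∀ (d : α) (h : G), h ∈ H → h • d = d → ∃ (g : G) (h' : H.subgroupOf (stabilizer G a)),
      g • a = d ∧ h = g * ((h' : stabilizer G a) : G) * g⁻¹ := by
    intro d h hh hd
    obtain ⟨g, rfl⟩ := htr.exists_smul_eq a d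
    refine ⟨g, ⟨⟨g⁻¹ * h * g, ?_⟩, ?_⟩, rfl, ?_⟩
    · rw [mem_stabilizer_iff, mul_smul, mul_smul, inv_smul_eq_iff]; exact hd
    · have := hHn.conj_mem h hh g⁻¹
      rw [inv_inv] at this
      exact this
    · change h = g * (g⁻¹ * h * g) * g⁻¹
      group
  apply card_le_three H
  · intro d b c hb hc
    obtain ⟨g, rfl⟩ := htr.exists_smul_eq a d
    have hb' : g⁻¹ • b ≠ a := fun h => hb (by rw [← h, smul_inv_smul])
    have hc' : g⁻¹ • c ≠ a := fun h => hc (by rw [← h, smul_inv_smul])
    obtain ⟨h, hh⟩ := h1.exists_smul_eq ⟨g⁻¹ • b, hb'⟩ ⟨g⁻¹ • c, hc'⟩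
    have hh' : ((h : stabilizer G a) : G) • (g⁻¹ • b) = g⁻¹ • c := congrArg Subtype.val hh
    refine ⟨g * ((h : stabilizer G a) : G) * g⁻¹, hHn.conj_mem _ h.2 g, ?_, ?_⟩
    · have h4 : ((h : stabilizer G a) : G) • a = a := h.1.2
      rw [mul_smul, inv_smul_smul, mul_smul, h4]
    · rw [mul_smul, mul_smul, hh', smul_inv_smul]
  · intro h hh d hd
    obtain ⟨g, h', -, rfl⟩ := key d h hh hd
    have h4 : ((h' : stabilizer G a) : G) * ((h' : stabilizer G a) : G) = 1 := congrArg Subtype.val (h2 h' h'.2)
    have : g * ((h' : stabilizer G a) : G) * g⁻¹ * (g * ((h' : stabilizer G a) : G) * g⁻¹) = g * (((h' : stabilizer G a) : G) * ((h' : stabilizer G a) : G)) * g⁻¹ := by group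
    rw [this, h4]; group
  · intro h hh d b hdb hd hb
    obtain ⟨g, h', hga, rfl⟩ := key d h hh hd
    have hb' : g⁻¹ • b ≠ a := fun h => hdb (by rw [← hga, ← h, smul_inv_smul])
    have h4 : h' ∈ stabilizer (H.subgroupOf (stabilizer G a)) (⟨g⁻¹ • b, hb'⟩ : ofStabilizer G a) := by
      rw [mem_stabilizer_iff]
      apply Subtype.ext
      change ((h' : stabilizer G a) : G) • (g⁻¹ • b) = g⁻¹ • b
      rw [mul_smul, mul_smul] at hb
      rw [eq_inv_smul_iff]
      exact hb
    rw [h3, Subgroup.mem_bot] at h4
    rw [h4]
    simp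

theorem k_primitive_normal (k : ℕ) (hk : 1 ≤ k) : ∀ {G : Type u} [Group G] {α : Type v} [Fintype α] [MulAction G α]
    [FaithfulSMul G α], k ≤ Fintype.card α → IsMultiplyPreprimitive G α k →
    ¬ IsMultiplyPretransitive G α (Fintype.card α) → ∀ (H : Subgroup G) [H.Normal],
    (∃ h ∈ H, ∃ a : α, h • a = a ∧ h ≠ 1) → IsMultiplyPretransitive H α k := by
  classical
  induction k, hk using Nat.le_induction with
  | base =>
    intro G _ α _ _ _ hkn hG _ H _ hH
    rw [is_one_pretransitive_iff]
    rw [is_one_preprimitive_iff] at hG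
    apply transitive_of_primitive hG H
    obtain ⟨h, hh, a, -, hne⟩ := hH
    intro hbot
    rw [hbot, Subgroup.mem_bot] at hh
    exact hne hh
  | succ k hk ih =>
    intro G _ α _ _ _ hkn hG hnt H hHn hH
    have hGprim : IsPreprimitive G α := by
      rw [← is_one_preprimitive_iff]
      exact isMultiplyPreprimitive_of_le G α hG (by omega) (by rw [ENat.card_eq_coe_fintype_card]; exact_mod_cast hkn)
    obtain ⟨h, hh, a, hha, hne⟩ := hH
    have hHbot : H ≠ ⊥ := by
      intro hbot
      rw [hbot, Subgroup.mem_bot] at hh
      exact hne hh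
    have hHtr : IsPretransitive H α := transitive_of_primitive hGprim H hHbot
    haveI : IsPretransitive G α := hGprim.toIsPretransitive
    haveI hfaith := faithful_ofStabilizer (G := G) (α := α) a
    haveI : Fintype (ofStabilizer G a) := Fintype.ofFinite _
    have hcard : Fintype.card (ofStabilizer G a) + 1 = Fintype.card α := by
      have := nat_card_ofStabilizer_add_one_eq G a
      rwa [Nat.card_eq_fintype_card, Nat.card_eq_fintype_card] at this
    have hG' : IsMultiplyPreprimitive (stabilizer G a) (ofStabilizer G a) k :=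
      isMultiplyPreprimitive_ofStabilizer G α (n := k)
    have hnt' : ¬ IsMultiplyPretransitive (stabilizer G a) (ofStabilizer G a) (Fintype.card (ofStabilizer G a)) := by
      intro h'
      apply hnt
      rw [← hcard]
      exact (ofStabilizer.isMultiplyPretransitive (a := a)).2 h'
    have hG'prim : IsPreprimitive (stabilizer G a) (ofStabilizer G a) := by
      rw [← is_one_preprimitive_iff]
      exact isMultiplyPreprimitive_of_le _ _ hG' hk (by
        have : k ≤ Fintype.card (ofStabilizer G a) := by omega
        simpa using this)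
    have hH'bot : H.subgroupOf (stabilizer G a) ≠ ⊥ := by
      intro hbot
      have : (⟨h, hha⟩ : stabilizer G a) ∈ H.subgroupOf (stabilizer G a) := hh
      rw [hbot, Subgroup.mem_bot] at this
      exact hne (congrArg Subtype.val this)
    have hH'tr : IsPretransitive (H.subgroupOf (stabilizer G a)) (ofStabilizer G a) :=
      transitive_of_primitive hG'prim _ hH'bot
    by_cases hcase : ∃ h ∈ H.subgroupOf (stabilizer G a), ∃ b : ofStabilizer G a, h • b = b ∧ h ≠ 1
    · exact succ_of_subgroupOf a hHtr (ih (by omega) hG' hnt' _ hcase)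
    · push Not at hcase
      rcases Nat.eq_or_lt_of_le hk with hk1 | hk2
      · subst hk1
        exact succ_of_subgroupOf a hHtr (is_one_pretransitive_iff.2 hH'tr)
      · exfalso
        have hreg : ∀ b : ofStabilizer G a, stabilizer (H.subgroupOf (stabilizer G a)) b = ⊥ := by
          intro b
          rw [eq_bot_iff]
          intro h' hh'
          rw [Subgroup.mem_bot]
          exact Subtype.ext (hcase h' h'.2 b hh')
        have h2p : IsMultiplyPreprimitive (stabilizer G a) (ofStabilizer G a) 2 :=
          isMultiplyPreprimitive_of_le _ _ hG' (by omega) (by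
            have : k ≤ Fintype.card (ofStabilizer G a) := by omega
            simpa using this)
        have hGt : IsMultiplyPretransitive G α (k + 1) := hG.isMultiplyPretransitive
        rcases H9.RegNormal.two_primitive (by omega) h2p (H.subgroupOf (stabilizer G a)) hH'tr hreg with h3 | ⟨-, hsq, -⟩
        · apply hnt
          have hc4 : Fintype.card α = 4 := by omega
          have hk34 : k + 1 = 3 ∨ k + 1 = 4 := by omega
          rcases hk34 with hk3 | hk4
          · rw [hk3] at hGt
            rw [hc4]
            exact succ_of_card hc4 hGt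
          · rw [hk4] at hGt
            rw [hc4]; exact hGt
        · have hle := card_le_three' H inferInstance a hH'tr (fun h hh => by rw [← pow_two]; exact hsq h hh) hreg
          apply hnt
          have : Fintype.card α = k + 1 := by omega
          rw [this]; exact hGt

theorem jordan_normal (k : ℕ) (hk : 2 ≤ k) : ∀ {G : Type u} [Group G] {α : Type v} [Fintype α] [MulAction G α]
    [FaithfulSMul G α], k < Fintype.card α → IsMultiplyPretransitive G α k →
    ∀ (N : Subgroup G) [N.Normal], N ≠ ⊥ →
    IsMultiplyPretransitive N α (k - 1) ∨ (k = 3 ∧ IsMulCommutative N ∧ (∀ n ∈ N, n ^ 2 = 1) ∧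
      IsPretransitive N α ∧ ∀ a : α, stabilizer N a = ⊥) := by
  classical
  induction k, hk using Nat.le_induction with
  | base =>
    intro G _ α _ _ _ hkn hG N _ hN
    left
    have hGprim : IsPreprimitive G α := isPreprimitive_of_is_two_pretransitive hG
    exact is_one_pretransitive_iff.2 (transitive_of_primitive hGprim N hN)
  | succ k hk ih =>
    intro G _ α _ _ _ hkn hG N hNn hN
    have hG2 : IsMultiplyPretransitive G α 2 := isMultiplyPretransitive_of_le (n := k + 1) (by omega) (by
      rw [Nat.card_eq_fintype_card]; omega)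
    have hGprim : IsPreprimitive G α := isPreprimitive_of_is_two_pretransitive hG2
    have hNtr : IsPretransitive N α := transitive_of_primitive hGprim N hN
    haveI : IsPretransitive G α := hGprim.toIsPretransitive
    have hne : Nonempty α := Fintype.card_pos_iff.1 (by omega)
    obtain ⟨a⟩ := hne
    haveI hfaith := faithful_ofStabilizer (G := G) (α := α) a
    haveI : Fintype (ofStabilizer G a) := Fintype.ofFinite _
    have hcard : Fintype.card (ofStabilizer G a) + 1 = Fintype.card α := by
      have := nat_card_ofStabilizer_add_one_eq G a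
      rwa [Nat.card_eq_fintype_card, Nat.card_eq_fintype_card] at this
    have hG' : IsMultiplyPretransitive (stabilizer G a) (ofStabilizer G a) k :=
      (ofStabilizer.isMultiplyPretransitive (a := a)).1 hG
    by_cases hbot : N.subgroupOf (stabilizer G a) = ⊥
    · have hreg : ∀ b : α, stabilizer N b = ⊥ := by
        intro b
        rw [eq_bot_iff]
        intro n hn
        obtain ⟨g, rfl⟩ := exists_smul_eq G a b
        have h1 : g⁻¹ * n * g ∈ stabilizer G a := by
          rw [mem_stabilizer_iff, mul_smul, mul_smul, inv_smul_eq_iff]; exact hn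
        have h2 : (⟨_, h1⟩ : stabilizer G a) ∈ N.subgroupOf (stabilizer G a) := by
          have := hNn.conj_mem n n.2 g⁻¹
          rw [inv_inv] at this
          exact this
        rw [hbot, Subgroup.mem_bot] at h2
        have h3 : g⁻¹ * n * g = 1 := congrArg Subtype.val h2
        rw [Subgroup.mem_bot]
        apply Subtype.ext
        have h4 : (n : G) = g * (g⁻¹ * n * g) * g⁻¹ := by group
        rw [h4, h3]; simp
      have hle : ((k + 1 : ℕ) : ENat) ≤ ENat.card α := by
        have : k + 1 ≤ Fintype.card α := by omega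
        rw [ENat.card_eq_coe_fintype_card]; exact_mod_cast this
      have hkp : IsMultiplyPreprimitive G α k := isMultiplyPreprimitive_of_isMultiplyPretransitive_succ G α hle
      rcases Nat.eq_or_lt_of_le hk with hk2 | hk3
      · subst hk2
        right
        rcases H9.RegNormal.two_primitive (by omega) hkp N hNtr hreg with h3 | ⟨hc, hsq, -⟩
        · omega
        · exact ⟨rfl, hc, hsq, hNtr, hreg⟩
      · exfalso
        have h3p : IsMultiplyPreprimitive G α 3 := isMultiplyPreprimitive_of_le G α hkp (by omega) (by
          have : k ≤ Fintype.card α := by omega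
          simpa using this)
        rcases H9.RegNormal.three_primitive (by omega) h3p N hNtr hreg with h3 | h3 <;> omega
    · rcases ih (by omega) hG' _ hbot with h1 | ⟨hk3, hc, hsq, htr', hreg'⟩
      · left
        have h2 := succ_of_subgroupOf a hNtr h1
        have : k - 1 + 1 = k + 1 - 1 := by omega
        rwa [this] at h2
      · exfalso
        have hle := card_le_three' N inferInstance a htr' (fun h hh => by rw [← pow_two]; exact hsq h hh) hreg'
        omega

end Cfsg.Agent.H9.NormalMT
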