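import Mathlib
import Cfsg.Agent.H9_NormalMT

set_option autoImplicit false

namespace Cfsg.Agent.H9.Frob

open MulAction

/-- Frobenius kernel theorem for a group normalised by a doubly transitive group. -/
theorem frob_kernel {G α : Type*} [Group G] [Finite G] [Fintype α] [MulAction G α] [FaithfulSMul G α]
    (h2 : IsMultiplyPretransitive G α 2) (hn : 2 ≤ Fintype.card α) (N : Subgroup G) [hNn : N.Normal]
    (hNt : IsPretransitive N α)
    (hsh : ∀ x ∈ N, ∀ a b : α, a ≠ b → x • a = a → x • b = b → x = 1) :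
    ∃ K : Subgroup G, K.Normal ∧ K ≤ N ∧ (∀ x, x ∈ K ↔ x ∈ N ∧ (x = 1 ∨ ∀ a : α, x • a ≠ a)) ∧
      IsPretransitive K α ∧ ∀ a : α, stabilizer K a = ⊥ := by
  classical
  haveI : Fintype N := Fintype.ofFinite N
  haveI : Fintype G := Fintype.ofFinite G
  rw [is_two_pretransitive_iff] at h2
  -- count of fixed points
  let F : Finset N := Finset.univ.filter (fun x : N => ∀ a : α, x • a ≠ a)
  have hFcard : F.card + 1 = Fintype.card α := by
    have hB := MulAction.sum_card_fixedBy_eq_card_orbits_mul_card_group N α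
    have horb : Fintype.card (orbitRel.Quotient N α) = 1 := by
      rw [← Nat.card_eq_fintype_card, Nat.card_eq_one_iff_unique]
      obtain ⟨a⟩ : Nonempty α := Fintype.card_pos_iff.1 (by omega)
      refine ⟨⟨?_⟩, ⟨Quotient.mk _ a⟩⟩
      rintro ⟨x⟩ ⟨y⟩
      obtain ⟨g, hg⟩ := hNt.exists_smul_eq y x
      exact Quotient.sound ⟨g, hg⟩
    rw [horb, one_mul] at hB
    have hfix1 : Fintype.card (fixedBy α (1 : N)) = Fintype.card α := by
      apply Fintype.card_congr
      refine ⟨fun x => x.1, fun x => ⟨x, one_smul _ x⟩, fun _ => rfl, fun _ => rfl⟩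
    have hval : ∀ x : N, x ≠ 1 → Fintype.card (fixedBy α x) = if x ∈ F then 0 else 1 := by
      intro x hx
      split_ifs with h
      · rw [Finset.mem_filter] at h
        rw [Fintype.card_eq_zero_iff]
        exact ⟨fun a => h.2 a.1 a.2⟩
      · have : ¬ ∀ a : α, x • a ≠ a := fun h' => h (Finset.mem_filter.2 ⟨Finset.mem_univ _, h'⟩)
        push Not at this
        obtain ⟨a, ha⟩ := this
        rw [Fintype.card_eq_one_iff]
        refine ⟨⟨a, ha⟩, ?_⟩
        rintro ⟨b, hb⟩
        by_contra hne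
        apply hx
        apply Subtype.ext
        exact hsh x x.2 b a (fun h => hne (Subtype.ext h)) hb ha
    have h1F : (1 : N) ∉ F := by
      rw [Finset.mem_filter]
      rintro ⟨-, h⟩
      obtain ⟨a⟩ : Nonempty α := Fintype.card_pos_iff.1 (by omega)
      exact h a (one_smul _ a)
    rw [← Finset.add_sum_erase _ _ (Finset.mem_univ (1 : N)), hfix1] at hB
    rw [Finset.sum_congr rfl (g := fun x => if x ∈ F then 0 else 1) (fun x hx => hval x (Finset.ne_of_mem_erase hx))] at hB
    have h3 : ∑ x ∈ Finset.univ.erase (1 : N), (if x ∈ F then 0 else 1) = (Finset.univ.erase (1 : N)).card - F.card := by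
      rw [← Finset.card_sdiff_of_subset, Finset.card_eq_sum_ones, ← Finset.sum_filter_not_add_sum_filter (s := Finset.univ.erase (1:N)) (p := fun x => x ∈ F)]
      · have e1 : ∑ x ∈ (Finset.univ.erase (1 : N)).filter (fun x => x ∈ F), (if x ∈ F then 0 else 1) = 0 := by
          apply Finset.sum_eq_zero
          intro x hx
          rw [if_pos (Finset.mem_filter.1 hx).2]
        have e2 : ∑ x ∈ (Finset.univ.erase (1 : N)).filter (fun x => ¬ x ∈ F), (if x ∈ F then 0 else 1) = ∑ x ∈ (Finset.univ.erase (1 : N)).filter (fun x => ¬ x ∈ F), 1 := by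
          apply Finset.sum_congr rfl
          intro x hx
          rw [if_neg (Finset.mem_filter.1 hx).2]
        rw [e1, e2, add_zero, Finset.sdiff_eq_filter]
      · intro x hx
        rw [Finset.mem_erase]
        exact ⟨fun h => h1F (h ▸ hx), Finset.mem_univ _⟩
    rw [h3, Finset.card_erase_of_mem (Finset.mem_univ _), Finset.card_univ] at hB
    have hle : F.card + 1 ≤ Fintype.card N := by
      have : (insert (1 : N) F).card ≤ Fintype.card N := Finset.card_le_univ _
      rwa [Finset.card_insert_of_notMem h1F] at this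
    omega
  -- number of fixed point free elements mapping a to b
  let cnt : α → α → ℕ := fun a b => (F.filter (fun x : N => x • a = b)).card
  have hcnt : ∀ (g : G) (a b : α), cnt (g • a) (g • b) = cnt a b := by
    intro g a b
    symm
    refine Finset.card_bij (fun x _ => (⟨g * x * g⁻¹, hNn.conj_mem _ x.2 g⟩ : N)) ?_ ?_ ?_
    · intro x hx
      rw [Finset.mem_filter, Finset.mem_filter] at hx
      rw [Finset.mem_filter, Finset.mem_filter]
      refine ⟨⟨Finset.mem_univ _, ?_⟩, ?_⟩
      · intro c hc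
        have hc' : (g * x * g⁻¹) • c = c := hc
        rw [mul_smul, mul_smul, smul_eq_iff_eq_inv_smul] at hc'
        exact hx.1.2 _ hc'
      · change (g * (x : G) * g⁻¹) • (g • a) = g • b
        rw [mul_smul, mul_smul, inv_smul_smul]
        have : (x : G) • a = b := hx.2
        rw [this]
    · intro x _ y _ h
      have := congrArg Subtype.val h
      simp only [mul_left_inj, mul_right_inj] at this
      exact Subtype.ext this
    · intro y hy
      rw [Finset.mem_filter, Finset.mem_filter] at hy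
      refine ⟨⟨g⁻¹ * y * g, by simpa using hNn.conj_mem _ y.2 g⁻¹⟩, ?_, ?_⟩
      · rw [Finset.mem_filter, Finset.mem_filter]
        refine ⟨⟨Finset.mem_univ _, ?_⟩, ?_⟩
        · intro c hc
          have hc' : (g⁻¹ * (y : G) * g) • c = c := hc
          rw [mul_smul, mul_smul, inv_smul_eq_iff] at hc'
          exact hy.1.2 _ hc'
        · change (g⁻¹ * (y : G) * g) • a = b
          rw [mul_smul, mul_smul, inv_smul_eq_iff]
          exact hy.2
      · apply Subtype.ext
        change g * (g⁻¹ * (y : G) * g) * g⁻¹ = y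
        group
  have hcnt1 : ∀ a b : α, a ≠ b → cnt a b = 1 := by
    intro a b hab
    have hsum : ∑ c ∈ Finset.univ.erase a, cnt a c = F.card := by
      rw [Finset.card_eq_sum_card_fiberwise (f := fun x : N => x • a) (t := Finset.univ.erase a)]
      intro x hx
      have hx' : x ∈ F := hx
      rw [Finset.mem_filter] at hx'
      simp only [Finset.coe_erase, Finset.coe_univ, Set.mem_diff, Set.mem_univ, Set.mem_singleton_iff, true_and]
      exact hx'.2 a
    have hconst : ∀ c ∈ Finset.univ.erase a, cnt a c = cnt a b := by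
      intro c hc
      obtain ⟨g, hg1, hg2⟩ := h2 (Finset.ne_of_mem_erase hc).symm hab
      rw [← hcnt g a c, hg1, hg2]
    rw [Finset.sum_congr rfl hconst, Finset.sum_const, Finset.card_erase_of_mem (Finset.mem_univ _), Finset.card_univ, smul_eq_mul] at hsum
    have h4 : F.card = Fintype.card α - 1 := by omega
    rw [h4] at hsum
    have h5 : 0 < Fintype.card α - 1 := by omega
    exact Nat.eq_of_mul_eq_mul_left h5 (by rw [hsum, mul_one])
  have hex : ∀ a b : α, a ≠ b → ∃ x : N, x ∈ F ∧ x • a = b := by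
    intro a b hab
    have : 0 < cnt a b := by rw [hcnt1 a b hab]; norm_num
    obtain ⟨x, hx⟩ := Finset.card_pos.1 this
    rw [Finset.mem_filter] at hx
    exact ⟨x, hx⟩
  have huniq : ∀ a b : α, a ≠ b → ∀ x y : N, x ∈ F → y ∈ F → x • a = b → y • a = b → x = y := by
    intro a b hab x y hx hy hxa hya
    obtain ⟨z, hz⟩ := Finset.card_eq_one.1 (hcnt1 a b hab)
    have h1 : x ∈ F.filter (fun x : N => x • a = b) := Finset.mem_filter.2 ⟨hx, hxa⟩
    have h2 : y ∈ F.filter (fun x : N => x • a = b) := Finset.mem_filter.2 ⟨hy, hya⟩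
    rw [hz, Finset.mem_singleton] at h1 h2
    rw [h1, h2]
  have hKclosed : ∀ x y : N, (x = 1 ∨ x ∈ F) → (y = 1 ∨ y ∈ F) → (x⁻¹ * y = 1 ∨ x⁻¹ * y ∈ F) := by
    intro x y hx hy
    by_contra hcon
    push Not at hcon
    obtain ⟨hne, hnF⟩ := hcon
    have : ¬ ∀ a : α, (x⁻¹ * y) • a ≠ a := fun h' => hnF (Finset.mem_filter.2 ⟨Finset.mem_univ _, h'⟩)
    push Not at this
    obtain ⟨a, ha⟩ := this
    rw [mul_smul, inv_smul_eq_iff] at ha
    apply hne
    rw [inv_mul_eq_one]
    by_cases hxa : x • a = a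
    · have hx1 : x = 1 := by
        rcases hx with h | h
        · exact h
        · exact absurd hxa ((Finset.mem_filter.1 h).2 a)
      have hy1 : y = 1 := by
        rcases hy with h | h
        · exact h
        · exact absurd (ha.trans hxa) ((Finset.mem_filter.1 h).2 a)
      rw [hx1, hy1]
    · have hxF : x ∈ F := by
        rcases hx with h | h
        · exact absurd (by rw [h, one_smul]) hxa
        · exact h
      have hyF : y ∈ F := by
        rcases hy with h | h
        · exact absurd (by rw [← ha, h, one_smul]) hxa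
        · exact h
      exact huniq a (x • a) (Ne.symm hxa) x y hxF hyF rfl ha
  have hFmem : ∀ x : N, x ∈ F ↔ ∀ a : α, x • a ≠ a := fun x => by
    rw [Finset.mem_filter]; simp
  let K : Subgroup G :=
    { carrier := {x | ∃ h : x ∈ N, ((⟨x, h⟩ : N) = 1 ∨ (⟨x, h⟩ : N) ∈ F)}
      one_mem' := ⟨N.one_mem, Or.inl rfl⟩
      mul_mem' := by
        rintro x y ⟨hx, hx'⟩ ⟨hy, hy'⟩
        have h1 := hKclosed ⟨x, hx⟩ 1 hx' (Or.inl rfl)
        rw [mul_one] at h1
        have h3 := hKclosed _ ⟨y, hy⟩ h1 hy'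
        rw [inv_inv] at h3
        exact ⟨N.mul_mem hx hy, h3⟩
      inv_mem' := by
        rintro x ⟨hx, hx'⟩
        have h1 := hKclosed ⟨x, hx⟩ 1 hx' (Or.inl rfl)
        rw [mul_one] at h1
        exact ⟨N.inv_mem hx, h1⟩ }
  have hKmem : ∀ x, x ∈ K ↔ x ∈ N ∧ (x = 1 ∨ ∀ a : α, x • a ≠ a) := by
    intro x
    constructor
    · rintro ⟨hx, h | h⟩
      · exact ⟨hx, Or.inl (congrArg Subtype.val h)⟩
      · exact ⟨hx, Or.inr ((hFmem _).1 h)⟩
    · rintro ⟨hx, h | h⟩
      · exact ⟨hx, Or.inl (Subtype.ext h)⟩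
      · exact ⟨hx, Or.inr ((hFmem _).2 h)⟩
  refine ⟨K, ⟨?_⟩, ?_, hKmem, ⟨?_⟩, ?_⟩
  · intro x hx g
    rw [hKmem] at hx ⊢
    refine ⟨hNn.conj_mem x hx.1 g, ?_⟩
    rcases hx.2 with h | h
    · left; rw [h]; simp
    · right
      intro a ha
      rw [mul_smul, mul_smul, smul_eq_iff_eq_inv_smul] at ha
      exact h _ ha
  · intro x hx
    exact ((hKmem x).1 hx).1
  · intro a b
    by_cases hab : a = b
    · exact ⟨1, by rw [one_smul, hab]⟩
    · obtain ⟨x, hx, hxa⟩ := hex a b hab
      exact ⟨⟨x, ⟨x.2, Or.inr hx⟩⟩, hxa⟩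
  · intro a
    rw [eq_bot_iff]
    rintro ⟨x, hx⟩ h
    rw [Subgroup.mem_bot]
    apply Subtype.ext
    rcases ((hKmem x).1 hx).2 with h1 | h1
    · exact h1
    · exact absurd h (h1 a)

/-- A regular normal subgroup of a doubly transitive group is elementary abelian. -/
theorem regular_normal_elementary {G α : Type*} [Group G] [Fintype α] [MulAction G α]
    (h2 : IsMultiplyPretransitive G α 2) (hn : 2 ≤ Fintype.card α) (K : Subgroup G) [hKn : K.Normal]
    (hKt : IsPretransitive K α) (hreg : ∀ a : α, stabilizer K a = ⊥) :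
    ∃ p j : ℕ, p.Prime ∧ 1 ≤ j ∧ Fintype.card α = p ^ j ∧ Nat.card K = p ^ j ∧ IsMulCommutative K ∧ ∀ x ∈ K, x ^ p = 1 := by
  classical
  rw [is_two_pretransitive_iff] at h2
  obtain ⟨a⟩ : Nonempty α := Fintype.card_pos_iff.1 (by omega)
  have hinj : ∀ n n' : K, n • a = n' • a → n = n' := by
    intro n n' h
    have : n'⁻¹ * n ∈ stabilizer K a := by
      rw [mem_stabilizer_iff, mul_smul, inv_smul_eq_iff]; exact h
    rw [hreg, Subgroup.mem_bot] at this
    exact (inv_mul_eq_one.1 this).symm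
  have e : K ≃ α := Equiv.ofBijective (fun n : K => n • a) ⟨fun n n' h => hinj n n' h, fun x => hKt.exists_smul_eq a x⟩
  haveI : Finite K := Finite.of_equiv α e.symm
  have hcardK : Nat.card K = Fintype.card α := by rw [Nat.card_congr e, Nat.card_eq_fintype_card]
  -- all non-identity elements are conjugate under G
  have hconj : ∀ x y : K, x ≠ 1 → y ≠ 1 → ∃ g : G, g * x * g⁻¹ = y := by
    intro x y hx hy
    have hxa : a ≠ x • a := fun h => hx (hinj x 1 (by rw [one_smul]; exact h.symm))
    have hya : a ≠ y • a := fun h => hy (hinj y 1 (by rw [one_smul]; exact h.symm))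
    obtain ⟨g, hg1, hg2⟩ := h2 hxa hya
    refine ⟨g, ?_⟩
    have h3 : (⟨g * x * g⁻¹, hKn.conj_mem x x.2 g⟩ : K) = y := by
      apply hinj
      change (g * (x : G) * g⁻¹) • a = y • a
      have h4 : g⁻¹ • a = a := by rw [inv_smul_eq_iff, hg1]
      rw [mul_smul, mul_smul, h4]
      exact hg2
    exact congrArg Subtype.val h3
  have hcard1 : Nat.card K ≠ 1 := by rw [hcardK]; omega
  obtain ⟨p, hp, hpd⟩ := Nat.exists_prime_and_dvd hcard1
  haveI : Fact p.Prime := ⟨hp⟩
  obtain ⟨x, hx⟩ := exists_prime_orderOf_dvd_card' (G := K) p hpd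
  have hx1 : x ≠ 1 := by
    rintro rfl
    rw [orderOf_one] at hx
    exact hp.one_lt.ne hx
  have hpow : ∀ y : K, y ^ p = 1 := by
    intro y
    by_cases hy : y = 1
    · rw [hy, one_pow]
    · obtain ⟨g, hg⟩ := hconj x y hx1 hy
      apply Subtype.ext
      change (y : G) ^ p = 1
      have h4 : (x : G) ^ p = 1 := by
        have := pow_orderOf_eq_one x
        rw [hx] at this
        exact congrArg Subtype.val this
      rw [← hg, conj_pow, h4]; simp
  have hpg : IsPGroup p K := fun g => ⟨1, by rw [pow_one]; exact hpow g⟩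
  obtain ⟨j, hj⟩ := IsPGroup.iff_card.1 hpg
  haveI : Nontrivial K := ⟨x, 1, hx1⟩
  haveI := hpg.center_nontrivial
  obtain ⟨⟨z, hz⟩, hz1⟩ := exists_ne (1 : Subgroup.center K)
  have hz1' : z ≠ 1 := fun h => hz1 (Subtype.ext h)
  refine ⟨p, j, hp, ?_, ?_, hj, ?_, fun x hx => congrArg Subtype.val (hpow ⟨x, hx⟩)⟩
  · rcases Nat.eq_zero_or_pos j with h | h
    · subst h; rw [pow_zero] at hj; exact absurd hj hcard1
    · exact h
  · rw [← hcardK, hj]
  · rw [isMulCommutative_iff]
    intro y w
    by_cases hy : y = 1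
    · rw [hy, one_mul, mul_one]
    obtain ⟨g, hg⟩ := hconj z y hz1' hy
    apply Subtype.ext
    change (y : G) * w = w * y
    have h5 : (⟨g⁻¹ * w * g, by simpa using hKn.conj_mem _ w.2 g⁻¹⟩ : K) * z = z * ⟨g⁻¹ * w * g, by simpa using hKn.conj_mem _ w.2 g⁻¹⟩ :=
      Subgroup.mem_center_iff.1 hz _
    have h6 : (g⁻¹ * (w : G) * g) * z = z * (g⁻¹ * w * g) := congrArg Subtype.val h5
    rw [← hg]
    have h7 : g * (z : G) * g⁻¹ * w = g * (z * (g⁻¹ * w * g)) * g⁻¹ := by group
    rw [h7, ← h6]; group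

end Cfsg.Agent.H9.Frob
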