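import Mathlib
import Cfsg.Prelude.Def_LieExceptional

set_option autoImplicit false

namespace Cfsg.Agent.H9.Zass

/-- an element fixing at least three points is trivial, in cardinality form -/
theorem card_fixedBy_le {G Ω : Type*} [Group G] [MulAction G Ω] [Finite Ω]
    (h3 : ∀ g : G, ∀ a b c : Ω, a ≠ b → b ≠ c → a ≠ c → g • a = a → g • b = b → g • c = c → g = 1)
    {s : G} (hs : s ≠ 1) : Nat.card (MulAction.fixedBy Ω s) ≤ 2 := by
  classical
  by_contra hcon
  push Not at hcon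
  rw [Nat.card_coe_set_eq, Set.two_lt_ncard (Set.toFinite _)] at hcon
  obtain ⟨a, ha, b, hb, c, hc, hab, hac, hbc⟩ := hcon
  exact hs (h3 s a b c hab hbc hac ha hb hc)

theorem card_fixedBy_mod {G Ω : Type*} [Group G] [MulAction G Ω] [Fintype Ω] {s : G} (hs : s ^ 2 = 1) :
    Fintype.card Ω ≡ Nat.card (MulAction.fixedBy Ω s) [MOD 2] := by
  classical
  haveI : Fact (Nat.Prime 2) := ⟨Nat.prime_two⟩
  have := Equiv.Perm.card_fixedPoints_modEq (f := (fun x : Ω => s • x : Function.End Ω)) (p := 2) (n := 1) (by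
    funext x
    change s • s • x = x
    rw [← mul_smul, ← pow_two, hs, one_smul])
  refine this.trans ?_
  rw [← Nat.card_eq_fintype_card]
  rfl

theorem exists_swap {G Ω : Type*} [Group G] [Finite G] [MulAction G Ω] [Fintype Ω] (hZ : Cfsg.IsZassenhausGroup G Ω)
    {a b : Ω} (hab : a ≠ b) (heven : Even (Nat.card ↥(MulAction.stabilizer G a ⊓ MulAction.stabilizer G b))) :
    ∃ s : G, orderOf s = 2 ∧ s • a = b ∧ s • b = a ∧ Nat.card (MulAction.fixedBy Ω s) = 2 := by
  classical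
  obtain ⟨hfaith, h2, h3, h4, h5⟩ := hZ
  haveI : Fact (Nat.Prime 2) := ⟨Nat.prime_two⟩
  obtain ⟨u, hu⟩ := exists_prime_orderOf_dvd_card' (G := ↥(MulAction.stabilizer G a ⊓ MulAction.stabilizer G b)) 2 heven.two_dvd
  have hu2 : orderOf (u : G) = 2 := by rw [Subgroup.orderOf_coe]; exact hu
  have hu1 : (u : G) ≠ 1 := by
    intro h; rw [h, orderOf_one] at hu2; omega
  have huu : (u : G) ^ 2 = 1 := by rw [← hu2, pow_orderOf_eq_one]
  obtain ⟨c, hc⟩ : ∃ c : Ω, (u : G) • c ≠ c := by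
    by_contra hcon
    push Not at hcon
    exact hu1 (FaithfulSMul.eq_of_smul_eq_smul (α := Ω) (fun x => by rw [hcon x, one_smul]))
  obtain ⟨g, hg1, hg2⟩ : ∃ g : G, g • c = a ∧ g • (u : G) • c = b :=
    (MulAction.is_two_pretransitive_iff (G := G) (α := Ω)).1 h2 hc.symm hab
  have hsconj : g * u * g⁻¹ = MulAut.conj g (u : G) := rfl
  have hs2 : orderOf (g * u * g⁻¹) = 2 := by rw [hsconj, MulEquiv.orderOf_eq, hu2]
  have hs1 : g * u * g⁻¹ ≠ 1 := by intro h; rw [h, orderOf_one] at hs2; omega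
  refine ⟨g * u * g⁻¹, hs2, ?_, ?_, ?_⟩
  · have e1 : g⁻¹ • a = c := by rw [inv_smul_eq_iff, hg1]
    rw [mul_smul, mul_smul, e1, hg2]
  · have e1 : g⁻¹ • b = (u : G) • c := by rw [inv_smul_eq_iff, hg2]
    rw [mul_smul, mul_smul, e1, ← mul_smul (u : G) (u : G) c, ← pow_two, huu, one_smul, hg1]
  · apply le_antisymm (card_fixedBy_le h3 hs1)
    rw [Nat.card_coe_set_eq]
    have hga : g • a ∈ MulAction.fixedBy Ω (g * u * g⁻¹) := by
      change (g * (u : G) * g⁻¹) • g • a = g • a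
      rw [mul_smul, inv_smul_smul, mul_smul]
      congr 1
      exact u.2.1
    have hgb : g • b ∈ MulAction.fixedBy Ω (g * u * g⁻¹) := by
      change (g * (u : G) * g⁻¹) • g • b = g • b
      rw [mul_smul, inv_smul_smul, mul_smul]
      congr 1
      exact u.2.2
    have hne : g • a ≠ g • b := fun h => hab (MulAction.injective g h)
    rw [← Set.ncard_pair hne]
    apply Set.ncard_le_ncard _ (Set.toFinite _)
    rintro x (rfl | rfl)
    · exact hga
    · exact hgb

end Cfsg.Agent.H9.Zass
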