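import Mathlib
import Cfsg.Prelude.Def_LieExceptional
import Cfsg.Agent.H9_FrobKer

/-!
# Doubly transitive groups in which only the identity fixes three points
-/

set_option autoImplicit false

open scoped Pointwise

namespace Cfsg.Agent.H9.ZassA

/-- doubly transitive, only the identity fixes three points -/
structure ZG (G Ω : Type*) [Group G] [MulAction G Ω] : Prop where
  faith : ∀ g : G, (∀ x : Ω, g • x = x) → g = 1
  two : ∀ {a b c d : Ω}, a ≠ b → c ≠ d → ∃ g : G, g • a = c ∧ g • b = d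
  three : ∀ g : G, ∀ a b c : Ω, a ≠ b → b ≠ c → a ≠ c → g • a = a → g • b = b → g • c = c → g = 1

theorem ZG.of_zass {G Ω : Type*} [Group G] [MulAction G Ω] (hZ : Cfsg.IsZassenhausGroup G Ω) : ZG G Ω := by
  obtain ⟨h1, h2, h3, -, -⟩ := hZ
  refine ⟨fun g hg => ?_, fun {a b c d} hab hcd => (MulAction.is_two_pretransitive_iff.mp h2) hab hcd, h3⟩
  exact FaithfulSMul.eq_of_smul_eq_smul (α := Ω) (fun x => by rw [hg x, one_smul])

/-- regular normal subgroup of a point stabiliser -/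
structure Ker {G Ω : Type*} [Group G] [MulAction G Ω] (K : Subgroup G) (a : Ω) : Prop where
  le : ∀ k ∈ K, k • a = a
  nrm : ∀ g : G, g • a = a → ∀ k ∈ K, g * k * g⁻¹ ∈ K
  reg : ∀ y z : Ω, y ≠ a → z ≠ a → ∃ k ∈ K, k • y = z
  free : ∀ k ∈ K, ∀ y, y ≠ a → k • y = y → k = 1

variable {G Ω : Type*} [Group G] [MulAction G Ω]

theorem Ker.of_result {x : Ω} {F : Subgroup G} (hFle : F ≤ MulAction.stabilizer G x)
    (hFn : (F.subgroupOf (MulAction.stabilizer G x)).Normal)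
    (hreg : ∀ y z : Ω, y ≠ x → z ≠ x → ∃! u : F, (u : G) • y = z) : Ker F x where
  le := fun k hk => hFle hk
  nrm := fun g hg k hk => hFn.conj_mem ⟨k, hFle hk⟩ hk ⟨g, hg⟩
  reg := fun y z hy hz => by
    obtain ⟨u, hu, -⟩ := hreg y z hy hz
    exact ⟨u, u.2, hu⟩
  free := fun k hk y hy hky => by
    obtain ⟨u, -, hu⟩ := hreg y y hy hy
    have h1 := hu ⟨k, hk⟩ hky
    have h2 := hu 1 (by simp)
    exact congrArg Subtype.val (h1.trans h2.symm)

/-- existence of the kernel -/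
theorem exists_ker [Finite G] (hZ : ZG G Ω) {a b : Ω} (hab : a ≠ b) : ∃ K : Subgroup G, Ker K a := by
  classical
  haveI : Fintype G := Fintype.ofFinite G
  let S := MulAction.stabilizer G a
  let H : Subgroup S := MulAction.stabilizer S b
  have hHmem : ∀ x : S, x ∈ H ↔ (x : G) • b = b := fun x => Iff.rfl
  have hTI : ∀ g : S, g ∉ H → ∀ t ∈ H, g * t * g⁻¹ ∈ H → t = 1 := by
    intro g hg t ht hgt
    rw [hHmem] at hg ht hgt
    have hgt' : (t : G) • (g : G)⁻¹ • b = (g : G)⁻¹ • b := by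
      rw [eq_inv_smul_iff, ← mul_smul, ← mul_smul]
      exact hgt
    have hga : (g : G) • a = a := g.2
    have hta : (t : G) • a = a := t.2
    apply Subtype.ext
    apply hZ.three (t : G) a b ((g : G)⁻¹ • b) hab _ _ hta ht hgt'
    · intro h
      apply hg
      rw [eq_inv_smul_iff] at h
      exact h
    · intro h
      apply hab
      rw [eq_inv_smul_iff, hga] at h
      exact h
  have htr : ∀ y : Ω, y ≠ a → ∃ g : S, (g : G) • b = y := by
    intro y hy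
    obtain ⟨g, hg1, hg2⟩ := hZ.two hab hy.symm
    exact ⟨⟨g, hg1⟩, hg2⟩
  by_cases hbot : H = ⊥
  · refine ⟨S, fun k hk => hk, fun g hg k hk => ?_, fun y z hy hz => ?_, fun k hk y hy hky => ?_⟩
    · exact S.mul_mem (S.mul_mem hg hk) (S.inv_mem hg)
    · obtain ⟨g, hg⟩ := htr y hy
      obtain ⟨g', hg'⟩ := htr z hz
      refine ⟨g' * g⁻¹, S.mul_mem g'.2 (S.inv_mem g.2), ?_⟩
      rw [← hg, mul_smul, Subgroup.coe_inv, inv_smul_smul, hg']
    · obtain ⟨g, rfl⟩ := htr y hy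
      have h1 : g⁻¹ * ⟨k, hk⟩ * g ∈ H := by
        rw [hHmem]
        change ((g : G)⁻¹ * k * g) • b = b
        rw [mul_smul, mul_smul, inv_smul_eq_iff, hky]
      rw [hbot, Subgroup.mem_bot] at h1
      have h2 : (g : G)⁻¹ * k * g = 1 := congrArg Subtype.val h1
      calc k = g * ((g : G)⁻¹ * k * g) * (g : G)⁻¹ := by group
        _ = 1 := by rw [h2]; group
  by_cases htop : H = ⊤
  · have hb : ∀ y : Ω, y ≠ a → y = b := by
      intro y hy
      obtain ⟨g, rfl⟩ := htr y hy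
      have : g ∈ H := by rw [htop]; trivial
      exact this
    refine ⟨⊥, fun k hk => ?_, fun g hg k hk => ?_, fun y z hy hz => ?_, fun k hk y hy hky => ?_⟩
    · rw [Subgroup.mem_bot] at hk; rw [hk, one_smul]
    · rw [Subgroup.mem_bot] at hk ⊢; rw [hk]; group
    · exact ⟨1, Subgroup.one_mem _, by rw [one_smul, hb y hy, hb z hz]⟩
    · rwa [Subgroup.mem_bot] at hk
  have hF : Cfsg.IsFrobeniusComplement H := by
    refine ⟨hbot, htop, fun g hg => ?_⟩
    rw [Subgroup.eq_bot_iff_forall]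
    rintro x ⟨hx1, hx2⟩
    have hx2 : x ∈ MulAut.conj g • H := hx2
    rw [Cfsg.Agent.H1.Basic.mem_conj] at hx2
    have hg' : g⁻¹ ∉ H := fun h => hg (by simpa using H.inv_mem h)
    exact hTI g⁻¹ hg' x hx1 (by rw [inv_inv]; exact hx2)
  obtain ⟨N, hN, hNn, hNH⟩ := H9.FrobKer.frobenius H hF
  have hNfree : ∀ k ∈ N, ∀ y, y ≠ a → (k : G) • y = y → k = 1 := by
    intro k hk y hy hky
    obtain ⟨g, rfl⟩ := htr y hy
    have h1 : g⁻¹ * k * g ∈ H := by
      rw [hHmem]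
      change ((g : G)⁻¹ * k * g) • b = b
      rw [mul_smul, mul_smul, inv_smul_eq_iff, hky]
    have h2 : g⁻¹ * k * g ∈ N := by
      have := hNn.conj_mem k hk g⁻¹
      rwa [inv_inv] at this
    have h3 : g⁻¹ * k * g ∈ N ⊓ H := ⟨h2, h1⟩
    rw [hNH.disjoint.eq_bot, Subgroup.mem_bot] at h3
    calc k = g * (g⁻¹ * k * g) * g⁻¹ := by group
      _ = 1 := by rw [h3]; group
  have hNb : ∀ y, y ≠ a → ∃ k ∈ N, (k : G) • b = y := by
    intro y hy
    obtain ⟨g, rfl⟩ := htr y hy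
    obtain ⟨⟨k, h⟩, hkh⟩ := hNH.2 g
    refine ⟨k, k.2, ?_⟩
    have h1 : (h : S) ∈ H := h.2
    rw [hHmem] at h1
    have h2 : (g : G) = (k : S) * (h : S) := by rw [← hkh]; rfl
    rw [h2, mul_smul, h1]
  refine ⟨N.map S.subtype, ?_, ?_, ?_, ?_⟩
  · rintro _ ⟨k, hk, rfl⟩
    exact k.2
  · rintro g hg _ ⟨k, hk, rfl⟩
    exact ⟨(⟨g, hg⟩ : S) * k * (⟨g, hg⟩ : S)⁻¹, hNn.conj_mem k hk _, rfl⟩
  · intro y z hy hz
    obtain ⟨k, hk, hk'⟩ := hNb y hy
    obtain ⟨l, hl, hl'⟩ := hNb z hz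
    refine ⟨(l * k⁻¹ : S), ⟨l * k⁻¹, N.mul_mem hl (N.inv_mem hk), rfl⟩, ?_⟩
    rw [← hk', ← hl']
    change ((l : G) * (k : G)⁻¹) • (k : G) • b = _
    rw [mul_smul, inv_smul_smul]
  · rintro _ ⟨k, hk, rfl⟩ y hy hky
    have := hNfree k hk y hy hky
    rw [this]; rfl

/-- an involution acting fixed point freely inverts -/
theorem inv_of_fpf {K : Subgroup G} [Finite K] {z : G} (hz : z * z = 1) (hn : ∀ k ∈ K, z * k * z⁻¹ ∈ K)
    (hf : ∀ k ∈ K, z * k * z⁻¹ = k → k = 1) : ∀ k ∈ K, z * k * z⁻¹ = k⁻¹ := by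
  intro x hx
  let φ : K → K := fun k => ⟨(k : G)⁻¹ * (z * k * z⁻¹), K.mul_mem (K.inv_mem k.2) (hn k k.2)⟩
  have hφ : Function.Injective φ := by
    intro k l hkl
    have h1 : (k : G)⁻¹ * (z * k * z⁻¹) = (l : G)⁻¹ * (z * l * z⁻¹) := congrArg Subtype.val hkl
    have h2 := hf ((k : G) * (l : G)⁻¹) (K.mul_mem k.2 (K.inv_mem l.2)) (by
      have h3 : z * k * z⁻¹ = k * ((l : G)⁻¹ * (z * l * z⁻¹)) := by rw [← h1]; group
      calc z * ((k : G) * (l : G)⁻¹) * z⁻¹ = (z * k * z⁻¹) * (z * l * z⁻¹)⁻¹ := by group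
        _ = _ := by rw [h3]; group)
    exact Subtype.ext (mul_inv_eq_one.1 h2)
  obtain ⟨k, hk⟩ := (Finite.injective_iff_surjective.mp hφ) ⟨x, hx⟩
  have h1 : (k : G)⁻¹ * (z * k * z⁻¹) = x := congrArg Subtype.val hk
  have hz' : z⁻¹ = z := by rw [inv_eq_iff_mul_eq_one, hz]
  rw [← h1, hz']
  calc z * ((k : G)⁻¹ * (z * k * z)) * z = z * (k : G)⁻¹ * z * k * (z * z) := by group
    _ = z * (k : G)⁻¹ * z * k := by rw [hz, mul_one]
    _ = ((k : G)⁻¹ * (z⁻¹ * k * z⁻¹))⁻¹ := by group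
    _ = _ := by rw [hz']

/-- elements of the two point stabiliser act fixed point freely on the kernel -/
theorem Ker.fpf (hZ : ZG G Ω) {a b : Ω} (hab : a ≠ b) {K : Subgroup G} (hK : Ker K a) {z k : G} (hza : z • a = a)
    (hzb : z • b = b) (hz1 : z ≠ 1) (hk : k ∈ K) (hzk : z * k * z⁻¹ = k) : k = 1 := by
  by_contra hk1
  apply hz1
  have h1 : z • k • b = k • b := by
    rw [← mul_smul, mul_inv_eq_iff_eq_mul.mp hzk, mul_smul, hzb]
  have h2 : k • b ≠ a := by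
    intro h
    apply hab
    have := hK.le k hk
    rw [← this] at h
    exact (MulAction.injective k h).symm
  apply hZ.three z a b (k • b) hab _ h2.symm hza hzb h1
  intro h
  exact hk1 (hK.free k hk b hab.symm h.symm)

theorem Ker.inverts [Finite G] (hZ : ZG G Ω) {a b : Ω} (hab : a ≠ b) {K : Subgroup G} (hK : Ker K a) {z : G} (hza : z • a = a)
    (hzb : z • b = b) (hz1 : z ≠ 1) (hz2 : z * z = 1) : ∀ k ∈ K, z * k * z⁻¹ = k⁻¹ :=
  inv_of_fpf hz2 (hK.nrm z hza) (fun _ hk h => hK.fpf hZ hab hza hzb hz1 hk h)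

/-- the involution in a two point stabiliser is unique -/
theorem unique_invol [Finite G] (hZ : ZG G Ω) {a b : Ω} (hab : a ≠ b) {z z' : G} (hza : z • a = a)
    (hzb : z • b = b) (hz1 : z ≠ 1) (hz2 : z * z = 1) (hza' : z' • a = a)
    (hzb' : z' • b = b) (hz1' : z' ≠ 1) (hz2' : z' * z' = 1) : z = z' := by
  obtain ⟨K, hK⟩ := exists_ker hZ hab
  have h1 := hK.inverts hZ hab hza hzb hz1 hz2
  have h2 := hK.inverts hZ hab hza' hzb' hz1' hz2'
  have h3 : z⁻¹ * z' = 1 := by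
    apply hZ.faith
    intro x
    by_cases hx : x = a
    · rw [hx, mul_smul, hza', inv_smul_eq_iff, hza]
    · obtain ⟨k, hk, rfl⟩ := hK.reg b x hab.symm hx
      have h4 : z⁻¹ * z' * k = k * (z⁻¹ * z') := by
        have h5 : z' * k = k⁻¹ * z' := by rw [← mul_inv_eq_iff_eq_mul, h2 k hk]
        have h6 : z * k = k⁻¹ * z := by rw [← mul_inv_eq_iff_eq_mul, h1 k hk]
        have h7 : z⁻¹ * k⁻¹ = k * z⁻¹ := by
          rw [inv_mul_eq_iff_eq_mul, ← mul_assoc, h6]; group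
        rw [mul_assoc, h5, ← mul_assoc, h7, mul_assoc]
      rw [← mul_smul, h4, mul_smul, mul_smul z⁻¹, hzb', show z⁻¹ • b = b by rw [inv_smul_eq_iff, hzb]]
  exact inv_mul_eq_one.1 h3

theorem Ker.comm_of_even [Finite G] (hZ : ZG G Ω) {a b : Ω} (hab : a ≠ b) {K : Subgroup G} (hK : Ker K a) {z : G} (hza : z • a = a)
    (hzb : z • b = b) (hz1 : z ≠ 1) (hz2 : z * z = 1) : ∀ k ∈ K, ∀ l ∈ K, k * l = l * k := by
  intro k hk l hl
  have h := hK.inverts hZ hab hza hzb hz1 hz2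
  have h1 := h _ (K.mul_mem (K.inv_mem hk) (K.inv_mem hl))
  have h2 : z * (k⁻¹ * l⁻¹) * z⁻¹ = (z * k * z⁻¹)⁻¹ * (z * l * z⁻¹)⁻¹ := by group
  rw [h2, h k hk, h l hl, mul_inv_rev, inv_inv, inv_inv] at h1
  exact h1

end Cfsg.Agent.H9.ZassA
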