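import Mathlib
import Cfsg.Agent.H9_ZassA

/-!
# Counting involutions in Zassenhaus groups
-/

set_option autoImplicit false

open scoped Pointwise

namespace Cfsg.Agent.H9.ZassB

open Cfsg.Agent.H9.ZassA

variable {G Ω : Type*} [Group G] [MulAction G Ω]

/-- involutions with two fixed points -/
def Inv2 (Ω : Type*) {G : Type*} [Group G] [MulAction G Ω] (t : G) : Prop :=
  t * t = 1 ∧ t ≠ 1 ∧ ∃ x y : Ω, x ≠ y ∧ t • x = x ∧ t • y = y

theorem Inv2.conj {t : G} (h : Inv2 Ω t) (g : G) : Inv2 Ω (g * t * g⁻¹) := by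
  obtain ⟨h1, h2, x, y, hxy, hx, hy⟩ := h
  refine ⟨?_, ?_, g • x, g • y, fun h => hxy (MulAction.injective g h), ?_, ?_⟩
  · calc g * t * g⁻¹ * (g * t * g⁻¹) = g * (t * t) * g⁻¹ := by group
      _ = 1 := by rw [h1]; group
  · intro h
    apply h2
    calc t = g⁻¹ * (g * t * g⁻¹) * g := by group
      _ = 1 := by rw [h]; group
  · rw [mul_smul, mul_smul, inv_smul_smul, hx]
  · rw [mul_smul, mul_smul, inv_smul_smul, hy]

theorem conj_fix (g t : G) (x : Ω) : (g * t * g⁻¹) • g • x = g • x ↔ t • x = x := by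
  rw [mul_smul, mul_smul, inv_smul_smul]
  exact ⟨fun h => MulAction.injective g h, fun h => by rw [h]⟩

theorem conj_map (g t : G) (x y : Ω) : (g * t * g⁻¹) • g • x = g • y ↔ t • x = y := by
  rw [mul_smul, mul_smul, inv_smul_smul]
  exact ⟨fun h => MulAction.injective g h, fun h => by rw [h]⟩

/-- existence of the involution with prescribed fixed points -/
theorem exists_inv2 (hZ : ZG G Ω) {a b : Ω} (hab : a ≠ b) {z : G} (hza : z • a = a)
    (hzb : z • b = b) (hz1 : z ≠ 1) (hz2 : z * z = 1) {x y : Ω} (hxy : x ≠ y) :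
    ∃ t : G, Inv2 Ω t ∧ t • x = x ∧ t • y = y := by
  obtain ⟨g, rfl, rfl⟩ := hZ.two hab hxy
  exact ⟨g * z * g⁻¹, Inv2.conj ⟨hz2, hz1, a, b, hab, hza, hzb⟩ g, (conj_fix g z a).2 hza, (conj_fix g z b).2 hzb⟩

theorem unique_inv2 [Finite G] (hZ : ZG G Ω) {x y : Ω} (hxy : x ≠ y) {s t : G} (hs : Inv2 Ω s) (ht : Inv2 Ω t)
    (hsx : s • x = x) (hsy : s • y = y) (htx : t • x = x) (hty : t • y = y) : s = t :=
  unique_invol hZ hxy hsx hsy hs.2.1 hs.1 htx hty ht.2.1 ht.1

theorem fixed_card (hZ : ZG G Ω) [Fintype Ω] [DecidableEq Ω] {t : G} (ht : Inv2 Ω t) :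
    (Finset.univ.filter (fun x : Ω => t • x = x)).card = 2 := by
  obtain ⟨h1, h2, x, y, hxy, hx, hy⟩ := ht
  rw [Finset.card_eq_two]
  refine ⟨x, y, hxy, ?_⟩
  ext w
  simp only [Finset.mem_filter, Finset.mem_univ, true_and, Finset.mem_insert, Finset.mem_singleton]
  constructor
  · intro hw
    by_contra hcon
    push Not at hcon
    exact h2 (hZ.three t x y w hxy hcon.2.symm hcon.1.symm hx hy hw)
  · rintro (rfl | rfl)
    · exact hx
    · exact hy

theorem count_aux [Finite G] [Fintype Ω] (hZ : ZG G Ω) {a b : Ω} (hab : a ≠ b) {z : G} (hza : z • a = a)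
    (hzb : z • b = b) (hz1 : z ≠ 1) (hz2 : z * z = 1) :
    2 * Nat.card {t : G // Inv2 Ω t} = Fintype.card Ω * (Fintype.card Ω - 1) ∧
    Nat.card {t : G // Inv2 Ω t} * (Fintype.card Ω - 2) = Fintype.card Ω * (Fintype.card Ω - 1) *
      Nat.card {t : G // Inv2 Ω t ∧ t • a = b} := by
  classical
  haveI : Fintype G := Fintype.ofFinite G
  let I : Finset G := Finset.univ.filter (fun t => Inv2 Ω t)
  have hI : Nat.card {t : G // Inv2 Ω t} = I.card := by
    rw [Nat.card_eq_fintype_card, Fintype.card_subtype]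
  have hmemI : ∀ t, t ∈ I ↔ Inv2 Ω t := fun t => by simp [I]
  let P : Finset (Ω × Ω) := Finset.univ.offDiag
  have hmemP : ∀ p : Ω × Ω, p ∈ P ↔ p.1 ≠ p.2 := fun p => by simp [P]
  have hP : P.card = Fintype.card Ω * (Fintype.card Ω - 1) := by
    rw [Finset.offDiag_card, Finset.card_univ, Nat.mul_sub, mul_one]
  constructor
  · have h1 := Finset.sum_card_bipartiteAbove_eq_sum_card_bipartiteBelow (s := I) (t := P)
      (fun (t : G) (p : Ω × Ω) => t • p.1 = p.1 ∧ t • p.2 = p.2)
    have h2 : ∀ t ∈ I, (Finset.bipartiteAbove (fun (t : G) (p : Ω × Ω) => t • p.1 = p.1 ∧ t • p.2 = p.2) P t).card = 2 := by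
      intro t ht
      have h3 : (Finset.bipartiteAbove (fun (t : G) (p : Ω × Ω) => t • p.1 = p.1 ∧ t • p.2 = p.2) P t) =
          (Finset.univ.filter (fun x : Ω => t • x = x)).offDiag := by
        ext p
        simp only [Finset.bipartiteAbove, Finset.mem_filter, hmemP, Finset.mem_offDiag, Finset.mem_univ, true_and]
        tauto
      rw [h3, Finset.offDiag_card, fixed_card hZ ((hmemI t).1 ht)]
    have h4 : ∀ p ∈ P, (Finset.bipartiteBelow (fun (t : G) (p : Ω × Ω) => t • p.1 = p.1 ∧ t • p.2 = p.2) I p).card = 1 := by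
      intro p hp
      rw [hmemP] at hp
      obtain ⟨t, ht, h5, h6⟩ := exists_inv2 hZ hab hza hzb hz1 hz2 hp
      rw [Finset.card_eq_one]
      refine ⟨t, ?_⟩
      ext s
      simp only [Finset.bipartiteBelow, Finset.mem_filter, hmemI, Finset.mem_singleton]
      constructor
      · rintro ⟨hs, h7, h8⟩
        exact unique_inv2 hZ hp hs ht h7 h8 h5 h6
      · rintro rfl
        exact ⟨ht, h5, h6⟩
    rw [Finset.sum_congr rfl h2, Finset.sum_congr rfl h4, Finset.sum_const, Finset.sum_const, smul_eq_mul, smul_eq_mul,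
      mul_one, hP] at h1
    rw [hI, mul_comm, h1]
  · have h1 := Finset.sum_card_bipartiteAbove_eq_sum_card_bipartiteBelow (s := I) (t := P)
      (fun (t : G) (p : Ω × Ω) => t • p.1 = p.2)
    have h2 : ∀ t ∈ I, (Finset.bipartiteAbove (fun (t : G) (p : Ω × Ω) => t • p.1 = p.2) P t).card = Fintype.card Ω - 2 := by
      intro t ht
      have h3 : (Finset.bipartiteAbove (fun (t : G) (p : Ω × Ω) => t • p.1 = p.2) P t) =
          (Finset.univ.filter (fun x : Ω => ¬ t • x = x)).image (fun x => (x, t • x)) := by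
        ext p
        obtain ⟨x, y⟩ := p
        simp only [Finset.bipartiteAbove, Finset.mem_filter, hmemP, Finset.mem_univ, true_and, Finset.mem_image,
          Prod.mk.injEq]
        constructor
        · rintro ⟨h, rfl⟩
          exact ⟨x, fun h' => h h'.symm, rfl, rfl⟩
        · rintro ⟨w, hw, rfl, rfl⟩
          exact ⟨fun h => hw h.symm, rfl⟩
      rw [h3, Finset.card_image_of_injective _ (fun x y h => (Prod.mk.injEq _ _ _ _ ▸ h).1)]
      have h5 := Finset.card_filter_add_card_filter_not (s := (Finset.univ : Finset Ω)) (fun x : Ω => t • x = x)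
      rw [fixed_card hZ ((hmemI t).1 ht), Finset.card_univ] at h5
      omega
    have h4 : ∀ p ∈ P, (Finset.bipartiteBelow (fun (t : G) (p : Ω × Ω) => t • p.1 = p.2) I p).card =
        Nat.card {t : G // Inv2 Ω t ∧ t • a = b} := by
      intro p hp
      rw [hmemP] at hp
      obtain ⟨g, hg1, hg2⟩ := hZ.two hab hp
      rw [Nat.card_eq_fintype_card, Fintype.card_subtype]
      symm
      apply Finset.card_bij (fun t _ => g * t * g⁻¹)
      · intro t ht
        simp only [Finset.mem_filter, Finset.mem_univ, true_and, Finset.bipartiteBelow, hmemI] at ht ⊢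
        refine ⟨ht.1.conj g, ?_⟩
        rw [← hg1, ← hg2]
        exact (conj_map g t a b).2 ht.2
      · intro s _ t _ hst
        have := mul_right_cancel hst
        exact mul_left_cancel this
      · intro t ht
        simp only [Finset.mem_filter, Finset.mem_univ, true_and, Finset.bipartiteBelow, hmemI] at ht ⊢
        refine ⟨g⁻¹ * t * g, ⟨?_, ?_⟩, by group⟩
        · have := ht.1.conj g⁻¹
          rwa [inv_inv] at this
        · rw [mul_smul, mul_smul, hg1, ht.2, inv_smul_eq_iff, hg2]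
    rw [Finset.sum_congr rfl h2, Finset.sum_congr rfl h4, Finset.sum_const, Finset.sum_const, smul_eq_mul, smul_eq_mul,
      hP] at h1
    rw [hI, h1]

theorem two_mul_swaps [Finite G] [Fintype Ω] (hZ : ZG G Ω) {a b : Ω} (hab : a ≠ b) {z : G} (hza : z • a = a)
    (hzb : z • b = b) (hz1 : z ≠ 1) (hz2 : z * z = 1) :
    2 * Nat.card {t : G // Inv2 Ω t ∧ t • a = b} = Fintype.card Ω - 2 := by
  obtain ⟨h1, h2⟩ := count_aux hZ hab hza hzb hz1 hz2
  have hn : 1 < Fintype.card Ω := Fintype.one_lt_card_iff.2 ⟨a, b, hab⟩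
  have hpos : 0 < Fintype.card Ω * (Fintype.card Ω - 1) := Nat.mul_pos (by omega) (by omega)
  apply Nat.eq_of_mul_eq_mul_left hpos
  calc _ = 2 * (Fintype.card Ω * (Fintype.card Ω - 1) * Nat.card {t : G // Inv2 Ω t ∧ t • a = b}) := by ring
    _ = (2 * Nat.card {t : G // Inv2 Ω t}) * (Fintype.card Ω - 2) := by rw [← h2]; ring
    _ = _ := by rw [h1]

theorem inv2_swap {a b : Ω} {t : G} (h : Inv2 Ω t) (hab : t • a = b) : t • b = a := by
  rw [← hab, ← mul_smul, h.1, one_smul]

/-- the involutions swapping `a,b` embed in the two-point stabiliser -/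
theorem swaps_le [Finite G] {a b : Ω} (hab : a ≠ b) :
    Nat.card {t : G // Inv2 Ω t ∧ t • a = b} ≤ Nat.card ↥(MulAction.stabilizer G a ⊓ MulAction.stabilizer G b) := by
  classical
  by_cases hne : Nonempty {t : G // Inv2 Ω t ∧ t • a = b}
  · obtain ⟨s⟩ := hne
    apply Nat.card_le_card_of_injective (fun t => (⟨s.1⁻¹ * t.1, by
      constructor
      · change (s.1⁻¹ * t.1) • a = a
        rw [mul_smul, t.2.2, inv_smul_eq_iff, s.2.2]
      · change (s.1⁻¹ * t.1) • b = b
        rw [mul_smul, inv2_swap t.2.1 t.2.2, inv_smul_eq_iff, inv2_swap s.2.1 s.2.2]⟩ :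
        ↥(MulAction.stabilizer G a ⊓ MulAction.stabilizer G b)))
    intro t t' h
    have := congrArg Subtype.val h
    exact Subtype.ext (mul_left_cancel this)
  · rw [not_nonempty_iff] at hne
    rw [Nat.card_of_isEmpty]
    exact Nat.zero_le _

theorem card_le [Finite G] [Fintype Ω] (hZ : ZG G Ω) {a b : Ω} (hab : a ≠ b)
    (heven : Even (Nat.card ↥(MulAction.stabilizer G a ⊓ MulAction.stabilizer G b))) :
    Fintype.card Ω - 2 ≤ 2 * Nat.card ↥(MulAction.stabilizer G a ⊓ MulAction.stabilizer G b) := by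
  haveI : Fact (Nat.Prime 2) := ⟨Nat.prime_two⟩
  obtain ⟨z, hz⟩ := exists_prime_orderOf_dvd_card' (G := ↥(MulAction.stabilizer G a ⊓ MulAction.stabilizer G b)) 2
    heven.two_dvd
  have h1 : (z : G) ≠ 1 := by
    intro h
    have : z = 1 := Subtype.ext h
    rw [this, orderOf_one] at hz
    omega
  have h2 : (z : G) * z = 1 := by
    have := pow_orderOf_eq_one z
    rw [hz, pow_two] at this
    exact congrArg Subtype.val this
  rw [← two_mul_swaps hZ hab z.2.1 z.2.2 h1 h2]
  exact Nat.mul_le_mul_left 2 (swaps_le hab)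

end Cfsg.Agent.H9.ZassB
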