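import Mathlib
import Cfsg.Agent.H3_Grp
import Cfsg.Agent.H3_Zass
import Cfsg.Agent.H23_Count
import Cfsg.Agent.H9_ZassB

/-!
# Zassenhaus groups: structure of the kernel when the two point stabiliser is large
-/

set_option autoImplicit false

open scoped Pointwise

namespace Cfsg.Agent.H9.ZassC

open Cfsg.Agent.H9.ZassA

variable {G : Type*} [Group G]

/-- free conjugation actions -/
theorem dvd_card_invariant [Finite G] (E : Subgroup G) (S : Set G) (hS : ∀ e ∈ E, ∀ s ∈ S, e * s * e⁻¹ ∈ S)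
    (hfree : ∀ e ∈ E, ∀ s ∈ S, e * s * e⁻¹ = s → e = 1) : Nat.card E ∣ Nat.card S := by
  let _ : MulAction E S :=
    { smul := fun e s => ⟨e * s * (e : G)⁻¹, hS e e.2 s s.2⟩
      one_smul := fun s => Subtype.ext (by change ((1 : E) : G) * s * ((1 : E) : G)⁻¹ = s; simp)
      mul_smul := fun e f s => Subtype.ext (by
        change ((e * f : E) : G) * s * ((e * f : E) : G)⁻¹ = e * (f * s * (f : G)⁻¹) * (e : G)⁻¹
        rw [Subgroup.coe_mul]; group) }
  apply H3.Grp.dvd_card_of_stabilizer (N := E)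
  intro x
  have h1 : MulAction.stabilizer E x = ⊥ := by
    rw [Subgroup.eq_bot_iff_forall]
    intro e he
    have h2 : e * (x : G) * (e : G)⁻¹ = x := congrArg Subtype.val (MulAction.mem_stabilizer_iff.1 he)
    exact Subtype.ext (hfree e e.2 x x.2 h2)
  rw [h1, Subgroup.index_bot]

/-- the abstract situation: `E` acts semiregularly on `K \ 1` by conjugation and is large -/
structure Big (K E : Subgroup G) : Prop where
  nrm : ∀ e ∈ E, ∀ k ∈ K, e * k * e⁻¹ ∈ K
  fpf : ∀ e ∈ E, ∀ k ∈ K, e * k * e⁻¹ = k → k ≠ 1 → e = 1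
  big : Nat.card K - 1 ≤ 2 * Nat.card E
  two : 2 ≤ Nat.card K

/-- nontrivial invariant subgroups are everything -/
theorem Big.eq_of_invariant [Finite G] {K E : Subgroup G} (h : Big K E) (C : Subgroup G) (hCK : C ≤ K)
    (hC : ∀ e ∈ E, ∀ c ∈ C, e * c * e⁻¹ ∈ C) (h1 : C ≠ ⊥) : C = K := by
  have h2 : Nat.card E ∣ Nat.card ((C : Set G) \ {1} : Set G) := by
    apply dvd_card_invariant
    · rintro e he s ⟨hs, hs1⟩
      refine ⟨hC e he s hs, ?_⟩
      intro h'
      apply hs1
      have h' : e * s * e⁻¹ = 1 := h'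
      change s = 1
      calc s = e⁻¹ * (e * s * e⁻¹) * e := by group
        _ = 1 := by rw [h']; group
    · rintro e he s ⟨hs, hs1⟩ hes
      exact h.fpf e he s (hCK hs) hes hs1
  have h3 : Nat.card ((C : Set G) \ {1} : Set G) = Nat.card C - 1 := by
    rw [Nat.card_coe_set_eq, Set.ncard_diff_singleton_of_mem C.one_mem]
    rfl
  have h4 : 1 < Nat.card C := (Subgroup.one_lt_card_iff_ne_bot C).2 h1
  have h5 : Nat.card E ≤ Nat.card C - 1 := by
    rw [← h3]
    apply Nat.le_of_dvd _ h2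
    rw [h3]; omega
  have h6 : Nat.card C ∣ Nat.card K := Subgroup.card_dvd_of_le hCK
  have h7 := h.big
  have h8 := h.two
  obtain ⟨m, hm⟩ := h6
  have h9 : m = 1 := by
    rcases m with _ | _ | m
    · omega
    · rfl
    · exfalso
      have : Nat.card K ≥ Nat.card C * 2 := by
        rw [hm]; exact Nat.mul_le_mul_left _ (by omega)
      omega
  rw [h9, mul_one] at hm
  exact Subgroup.eq_of_le_of_card_ge hCK hm.le

theorem Big.elementary [Finite G] {K E : Subgroup G} (h : Big K E) :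
    ∃ p f : ℕ, p.Prime ∧ (∀ u ∈ K, u ^ p = 1) ∧ (∀ u ∈ K, ∀ v ∈ K, u * v = v * u) ∧ Nat.card K = p ^ f := by
  classical
  have h2 := h.two
  obtain ⟨p, hp, hpK⟩ := Nat.exists_prime_and_dvd (n := Nat.card K) (by omega)
  haveI := Fact.mk hp
  by_cases hall : ∀ q : ℕ, q.Prime → q ∣ Nat.card K → q = p
  · obtain ⟨f, hf⟩ : ∃ f, Nat.card K = p ^ f := by
      refine ⟨_, Nat.eq_prime_pow_of_unique_prime_dvd (by omega) (fun {d} hd hdK => hall d hd hdK)⟩
    have hPG : IsPGroup p K := IsPGroup.of_card hf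
    haveI : Nontrivial K := (Subgroup.nontrivial_iff_ne_bot K).2 ((Subgroup.one_lt_card_iff_ne_bot K).1 (by omega))
    have hcen := hPG.center_nontrivial
    -- center
    have hC := h.eq_of_invariant ((Subgroup.center K).map K.subtype) (Subgroup.map_subtype_le _) (by
      rintro e he _ ⟨c, hc, rfl⟩
      refine ⟨⟨e * c * e⁻¹, h.nrm e he c c.2⟩, ?_, rfl⟩
      rw [SetLike.mem_coe, Subgroup.mem_center_iff]
      intro k
      have h3 := Subgroup.mem_center_iff.1 hc ⟨e⁻¹ * k * e, by
        have := h.nrm e⁻¹ (E.inv_mem he) k k.2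
        rwa [inv_inv] at this⟩
      have h4 : e⁻¹ * (k : G) * e * c = c * (e⁻¹ * k * e) := congrArg Subtype.val h3
      apply Subtype.ext
      change (k : G) * (e * c * e⁻¹) = e * c * e⁻¹ * k
      calc (k : G) * (e * c * e⁻¹) = e * (e⁻¹ * (k : G) * e * c) * e⁻¹ := by group
        _ = _ := by rw [h4]; group) (by
      intro hbot
      rw [Subgroup.map_eq_bot_iff_of_injective _ K.subtype_injective] at hbot
      exact (Subgroup.nontrivial_iff_ne_bot _).1 hcen hbot)
    have hcomm : ∀ u ∈ K, ∀ v ∈ K, u * v = v * u := by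
      intro u hu v hv
      rw [← hC] at hu
      obtain ⟨c, hc, rfl⟩ := hu
      have := Subgroup.mem_center_iff.1 hc ⟨v, hv⟩
      exact (congrArg Subtype.val this).symm
    -- elements of order p
    let D : Subgroup G :=
      { carrier := {u | u ∈ K ∧ u ^ p = 1}
        mul_mem' := by
          rintro u v ⟨hu, hu1⟩ ⟨hv, hv1⟩
          refine ⟨K.mul_mem hu hv, ?_⟩
          have : Commute u v := hcomm u hu v hv
          rw [this.mul_pow, hu1, hv1, mul_one]
        one_mem' := ⟨K.one_mem, one_pow _⟩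
        inv_mem' := by
          rintro u ⟨hu, hu1⟩
          exact ⟨K.inv_mem hu, by rw [inv_pow, hu1, inv_one]⟩ }
    have hD := h.eq_of_invariant D (fun u hu => hu.1) (by
      rintro e he c ⟨hc, hc1⟩
      refine ⟨h.nrm e he c hc, ?_⟩
      rw [conj_pow, hc1]; group) (by
      obtain ⟨x, hx⟩ := exists_prime_orderOf_dvd_card' (G := K) p hpK
      intro hbot
      have hxD : (x : G) ∈ D := by
        refine ⟨x.2, ?_⟩
        rw [← hx, ← Subgroup.coe_pow, pow_orderOf_eq_one]; rfl
      rw [hbot, Subgroup.mem_bot] at hxD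
      have : x = 1 := Subtype.ext hxD
      rw [this, orderOf_one] at hx
      exact hp.one_lt.ne hx)
    refine ⟨p, f, hp, ?_, hcomm, hf⟩
    intro u hu
    rw [← hD] at hu
    exact hu.2
  · exfalso
    push Not at hall
    obtain ⟨q, hq, hqK, hqp⟩ := hall
    haveI := Fact.mk hq
    have hconj : ∀ e u : G, orderOf (e * u * e⁻¹) = orderOf u := fun e u => by
      rw [← MulAut.conj_apply, MulEquiv.orderOf_eq]
    have key : ∀ r : ℕ, r.Prime → r ∣ Nat.card K →
        Nat.card E ∣ Nat.card {u : G | u ∈ K ∧ orderOf u = r} ∧ 0 < Nat.card {u : G | u ∈ K ∧ orderOf u = r} := by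
      intro r hr hrK
      haveI := Fact.mk hr
      constructor
      · apply dvd_card_invariant
        · rintro e he s ⟨hs, hs1⟩
          exact ⟨h.nrm e he s hs, by rw [hconj, hs1]⟩
        · rintro e he s ⟨hs, hs1⟩ hes
          apply h.fpf e he s hs hes
          rintro rfl
          rw [orderOf_one] at hs1
          exact hr.one_lt.ne hs1
      · obtain ⟨x, hx⟩ := exists_prime_orderOf_dvd_card' (G := K) r hrK
        rw [Nat.card_pos_iff]
        exact ⟨⟨⟨x, x.2, by rw [Subgroup.orderOf_coe, hx]⟩⟩, inferInstance⟩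
    obtain ⟨hp1, hp2⟩ := key p hp hpK
    obtain ⟨hq1, hq2⟩ := key q hq hqK
    have hp3 := Nat.le_of_dvd hp2 hp1
    have hq3 := Nat.le_of_dvd hq2 hq1
    have hdisj : Disjoint {u : G | u ∈ K ∧ orderOf u = p} {u : G | u ∈ K ∧ orderOf u = q} := by
      rw [Set.disjoint_left]
      rintro u ⟨-, h3⟩ ⟨-, h4⟩
      exact hqp (h4.symm.trans h3)
    have hsub : {u : G | u ∈ K ∧ orderOf u = p} ∪ {u : G | u ∈ K ∧ orderOf u = q} ⊆ (K : Set G) \ {1} := by
      rintro u (⟨hu, h3⟩ | ⟨hu, h3⟩)
      · refine ⟨hu, fun h4 => ?_⟩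
        rw [Set.mem_singleton_iff.1 h4, orderOf_one] at h3
        exact hp.one_lt.ne h3
      · refine ⟨hu, fun h4 => ?_⟩
        rw [Set.mem_singleton_iff.1 h4, orderOf_one] at h3
        exact hq.one_lt.ne h3
    have hle := Set.ncard_le_ncard hsub (Set.toFinite _)
    rw [Set.ncard_union_eq hdisj (Set.toFinite _) (Set.toFinite _), Set.ncard_diff_singleton_of_mem K.one_mem] at hle
    rw [Nat.card_coe_set_eq] at hp3 hq3
    have hKc : (K : Set G).ncard = Nat.card K := rfl
    rw [hKc] at hle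
    have hbig := h.big
    have hpd : {u : G | u ∈ K ∧ orderOf u = p}.ncard = Nat.card E := by omega
    have hKd : Nat.card K = 2 * Nat.card E + 1 := by omega
    have hfr := H23.Count.frobenius (G := K) p hpK
    have hc : Nat.card {g : K // g ^ p = 1} = Nat.card E + 1 := by
      have e1 : Nat.card {g : K // g ^ p = 1} = ({u : G | u ∈ K ∧ u ^ p = 1} : Set G).ncard := by
        rw [← Nat.card_coe_set_eq]
        apply Nat.card_congr
        exact ⟨fun g => ⟨g.1, g.1.2, congrArg Subtype.val g.2⟩, fun g => ⟨⟨g.1, g.2.1⟩, Subtype.ext g.2.2⟩,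
          fun _ => rfl, fun _ => rfl⟩
      have e2 : ({u : G | u ∈ K ∧ u ^ p = 1} : Set G) = insert 1 {u : G | u ∈ K ∧ orderOf u = p} := by
        ext u
        simp only [Set.mem_insert_iff, Set.mem_ofPred_eq]
        constructor
        · rintro ⟨h3, h4⟩
          by_cases h5 : u = 1
          · exact Or.inl h5
          · exact Or.inr ⟨h3, orderOf_eq_prime h4 h5⟩
        · rintro (rfl | ⟨h3, h4⟩)
          · exact ⟨K.one_mem, one_pow _⟩
          · exact ⟨h3, by rw [← h4, pow_orderOf_eq_one]⟩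
      rw [e1, e2, Set.ncard_insert_of_notMem _ (Set.toFinite _), hpd]
      rintro ⟨-, h3⟩
      rw [orderOf_one] at h3
      exact hp.one_lt.ne h3
    rw [hc] at hfr
    have h10 : p ∣ 2 * (Nat.card E + 1) := Dvd.dvd.mul_left hfr 2
    have h11 : 2 * (Nat.card E + 1) = Nat.card K + 1 := by omega
    rw [h11] at h10
    have h12 := (Nat.dvd_add_right hpK).1 h10
    exact hp.one_lt.ne' (Nat.dvd_one.1 h12)

section

variable {Ω : Type*} [MulAction G Ω]

theorem Ker.card [Finite G] [Fintype Ω] {K : Subgroup G} {a b : Ω} (hab : a ≠ b) (hK : Ker K a) :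
    Nat.card K + 1 = Fintype.card Ω := by
  classical
  have e : K ≃ {y : Ω // y ≠ a} := by
    refine Equiv.ofBijective (fun k => ⟨(k : G) • b, ?_⟩) ⟨?_, ?_⟩
    · intro h
      apply hab
      have h1 := hK.le k k.2
      exact (MulAction.injective (k : G) (h.trans h1.symm)).symm
    · intro k l hkl
      have h1 : (k : G) • b = (l : G) • b := congrArg Subtype.val hkl
      have h2 := hK.free ((l : G)⁻¹ * k) (K.mul_mem (K.inv_mem l.2) k.2) b hab.symm (by
        rw [mul_smul, inv_smul_eq_iff, h1])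
      exact Subtype.ext (inv_mul_eq_one.1 h2).symm
    · rintro ⟨y, hy⟩
      obtain ⟨k, hk, hky⟩ := hK.reg b y hab.symm hy
      exact ⟨⟨k, hk⟩, Subtype.ext hky⟩
  rw [Nat.card_congr e, Nat.card_eq_fintype_card, Fintype.card_subtype_compl, Fintype.card_subtype_eq]
  have : 0 < Fintype.card Ω := Fintype.card_pos_iff.2 ⟨a⟩
  omega

theorem Ker.toBig [Finite G] [Fintype Ω] (hZ : ZG G Ω) {a b : Ω} (hab : a ≠ b) {K : Subgroup G} (hK : Ker K a)
    (hd : Fintype.card Ω - 2 ≤ 2 * Nat.card ↥(MulAction.stabilizer G a ⊓ MulAction.stabilizer G b))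
    (h3 : 3 ≤ Fintype.card Ω) : Big K (MulAction.stabilizer G a ⊓ MulAction.stabilizer G b) := by
  have h1 := Ker.card hab hK
  refine ⟨fun e he k hk => hK.nrm e he.1 k hk, fun e he k hk hek hk1 => ?_, by omega, by omega⟩
  by_contra he1
  exact hk1 (hK.fpf hZ hab he.1 he.2 he1 hk hek)

theorem three_le {G Ω : Type*} [Group G] [MulAction G Ω] [Fintype Ω] (hZ : Cfsg.IsZassenhausGroup G Ω) : 3 ≤ Fintype.card Ω := by
  classical
  obtain ⟨g₀, hg₀, a, b, hab, -, -⟩ := hZ.2.2.2.1
  obtain ⟨c, hca, hcb⟩ := H3.Zass.exists_third hZ hab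
  have h3 : ({a, b, c} : Finset Ω).card = 3 := Finset.card_eq_three.mpr ⟨a, b, c, hab, hca.symm, hcb.symm, rfl⟩
  have h4 := Finset.card_le_univ ({a, b, c} : Finset Ω)
  omega

end

end Cfsg.Agent.H9.ZassC
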