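import Mathlib
import Cfsg.Agent.H4_Zass

/-!
# Recognition of `PGL(2,F)` and `PSL(2,F)` by their action on the projective line
-/

set_option autoImplicit false

namespace Cfsg.Agent.H9.ZassRec

open OnePoint Matrix

section general

variable {Γ G X Ω : Type*} [Group Γ] [Group G] [MulAction G Ω]

/-- intertwining relation -/
def Rel (A : Γ →* Equiv.Perm X) (β : X ≃ Ω) (γ : Γ) (g : G) : Prop := ∀ p, g • β p = β (A γ p)

variable {A : Γ →* Equiv.Perm X} {β : X ≃ Ω}

theorem Rel.mul {γ γ' : Γ} {g g' : G} (h : Rel A β γ g) (h' : Rel A β γ' g') : Rel A β (γ * γ') (g * g') := by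
  intro p
  rw [mul_smul, h' p, h, map_mul]
  rfl

theorem Rel.inv {γ : Γ} {g : G} (h : Rel A β γ g) : Rel A β γ⁻¹ g⁻¹ := by
  intro p
  rw [inv_smul_eq_iff, h, map_inv]
  congr 1
  exact ((A γ).apply_symm_apply p).symm

theorem rel_all (x0 : X) (h1 : ∀ γ : Γ, A γ x0 = x0 → ∃ g : G, Rel A β γ g)
    (h2 : ∀ g : G, g • β x0 = β x0 → ∃ γ : Γ, Rel A β γ g)
    (h3 : ∀ y : X, ∃ (γ : Γ) (g : G), Rel A β γ g ∧ A γ x0 = y) :
    (∀ γ : Γ, ∃ g : G, Rel A β γ g) ∧ ∀ g : G, ∃ γ : Γ, Rel A β γ g := by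
  constructor
  · intro γ
    obtain ⟨γ', g', hr, hy⟩ := h3 (A γ x0)
    obtain ⟨g, hg⟩ := h1 (γ'⁻¹ * γ) (by
      rw [map_mul, map_inv, Equiv.Perm.mul_apply, Equiv.Perm.inv_eq_iff_eq, hy])
    refine ⟨g' * g, ?_⟩
    have := hr.mul hg
    rwa [mul_inv_cancel_left] at this
  · intro g
    obtain ⟨y, hy⟩ := β.surjective (g • β x0)
    obtain ⟨γ', g', hr, hy'⟩ := h3 y
    obtain ⟨γ, hγ⟩ := h2 (g'⁻¹ * g) (by
      rw [mul_smul, inv_smul_eq_iff, hr, hy', hy])
    refine ⟨γ' * γ, ?_⟩
    have := hr.mul hγ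
    rwa [mul_inv_cancel_left] at this

theorem iso (hfaith : ∀ g : G, (∀ x : Ω, g • x = x) → g = 1) (C : Subgroup Γ) [C.Normal]
    (hC : ∀ γ : Γ, γ ∈ C ↔ ∀ p : X, A γ p = p) (h1 : ∀ γ : Γ, ∃ g : G, Rel A β γ g)
    (h2 : ∀ g : G, ∃ γ : Γ, Rel A β γ g) : Nonempty (G ≃* Γ ⧸ C) := by
  have huniq : ∀ {g g' : G} {γ : Γ}, Rel A β γ g → Rel A β γ g' → g = g' := by
    intro g g' γ h h'
    have h3 : g'⁻¹ * g = 1 := by
      apply hfaith
      intro x
      obtain ⟨p, rfl⟩ := β.surjective x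
      rw [mul_smul, h, inv_smul_eq_iff, h']
    exact (inv_mul_eq_one.1 h3).symm
  choose f hf using h1
  let ψ : Γ →* G :=
    { toFun := f
      map_one' := huniq (hf 1) (fun p => by rw [one_smul, map_one]; rfl)
      map_mul' := fun a b => huniq (hf (a * b)) ((hf a).mul (hf b)) }
  have hψ : ∀ γ, Rel A β γ (ψ γ) := hf
  have hsurj : Function.Surjective ψ := by
    intro g
    obtain ⟨γ, hγ⟩ := h2 g
    exact ⟨γ, huniq (hψ γ) hγ⟩
  have hker : ψ.ker = C := by
    ext γ
    rw [MonoidHom.mem_ker, hC]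
    constructor
    · intro h p
      have := hψ γ p
      rw [h, one_smul] at this
      exact (β.injective this).symm
    · intro h
      apply hfaith
      intro x
      obtain ⟨p, rfl⟩ := β.surjective x
      rw [hψ γ p, h]
  exact ⟨((QuotientGroup.quotientMulEquivOfEq hker.symm).trans
    (QuotientGroup.quotientKerEquivOfSurjective ψ hsurj)).symm⟩

end general

universe u v

variable {F : Type u} [Field F] [DecidableEq F]

/-- the action of `GL₂` on the line -/
def actGL (F : Type u) [Field F] [DecidableEq F] : GL (Fin 2) F →* Equiv.Perm (OnePoint F) :=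
  MulAction.toPermHom _ _

/-- the action of `SL₂` on the line -/
def actSL (F : Type u) [Field F] [DecidableEq F] : Matrix.SpecialLinearGroup (Fin 2) F →* Equiv.Perm (OnePoint F) :=
  (actGL F).comp Matrix.SpecialLinearGroup.toGL

theorem actSL_apply (m : Matrix.SpecialLinearGroup (Fin 2) F) (p : OnePoint F) : actSL F m p = H4.Zass.sact m p := rfl

theorem actGL_infty (m : GL (Fin 2) F) :
    actGL F m ∞ = if m 1 0 = 0 then ∞ else ((m 0 0 / m 1 0 : F) : OnePoint F) := by
  change m • (∞ : OnePoint F) = _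
  rw [OnePoint.smul_infty_eq_ite]

theorem actGL_coe (m : GL (Fin 2) F) (k : F) :
    actGL F m k = if m 1 0 * k + m 1 1 = 0 then ∞ else
      (((m 0 0 * k + m 0 1) / (m 1 0 * k + m 1 1) : F) : OnePoint F) := by
  change m • (k : OnePoint F) = _
  rw [OnePoint.smul_some_eq_ite]

theorem actGL_ne10 (m : GL (Fin 2) F) (h : actGL F m ∞ = ∞) : m 1 0 = 0 := by
  by_contra hc
  rw [actGL_infty, if_neg hc] at h
  exact OnePoint.coe_ne_infty _ h

/-- `GL₂` element from entries -/
noncomputable def mkGL (a b c d : F) (h : a * d - b * c ≠ 0) : GL (Fin 2) F :=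
  Matrix.GeneralLinearGroup.mkOfDetNeZero !![a, b; c, d] (by rw [Matrix.det_fin_two_of]; exact h)

omit [DecidableEq F] in
theorem mkGL_entries (a b c d : F) (h : a * d - b * c ≠ 0) :
    mkGL a b c d h 0 0 = a ∧ mkGL a b c d h 0 1 = b ∧ mkGL a b c d h 1 0 = c ∧ mkGL a b c d h 1 1 = d :=
  ⟨rfl, rfl, rfl, rfl⟩

omit [DecidableEq F] in
theorem det_ne (m : GL (Fin 2) F) : m 0 0 * m 1 1 - m 0 1 * m 1 0 ≠ 0 := by
  have h := (Matrix.GeneralLinearGroup.det m).ne_zero
  rw [Matrix.GeneralLinearGroup.val_det_apply, Matrix.det_fin_two] at h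
  exact h

theorem center_GL (m : GL (Fin 2) F) : m ∈ Subgroup.center (GL (Fin 2) F) ↔ ∀ p : OnePoint F, actGL F m p = p := by
  rw [Matrix.GeneralLinearGroup.mem_center_iff_val_mem_range_scalar]
  constructor
  · rintro ⟨r, hr⟩ p
    have e00 : m 0 0 = r := by have := congrFun (congrFun hr 0) 0; simpa using this.symm
    have e01 : m 0 1 = 0 := by have := congrFun (congrFun hr 0) 1; simpa using this.symm
    have e10 : m 1 0 = 0 := by have := congrFun (congrFun hr 1) 0; simpa using this.symm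
    have e11 : m 1 1 = r := by have := congrFun (congrFun hr 1) 1; simpa using this.symm
    have hr0 : r ≠ 0 := by
      have := det_ne m
      rintro rfl
      rw [e00, e10] at this
      simp at this
    induction p using OnePoint.rec with
    | infty => rw [actGL_infty, if_pos e10]
    | coe k =>
      rw [actGL_coe, e10, e11, e00, e01, zero_mul, zero_add, if_neg hr0, add_zero, mul_comm r k,
        mul_div_assoc, div_self hr0, mul_one]
  · intro h
    have a10 := actGL_ne10 m (h ∞)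
    have h2 := h ((0 : F) : OnePoint F)
    have h3 := h ((1 : F) : OnePoint F)
    have hdet := det_ne m
    rw [a10, mul_zero, sub_zero] at hdet
    have h11 : m 1 1 ≠ 0 := right_ne_zero_of_mul hdet
    rw [actGL_coe, a10, mul_zero, zero_add, if_neg h11, mul_zero, zero_add, OnePoint.coe_eq_coe,
      div_eq_zero_iff, or_iff_left h11] at h2
    rw [actGL_coe, a10, mul_one, mul_one, zero_add, if_neg h11, h2, add_zero, OnePoint.coe_eq_coe,
      div_eq_one_iff_eq h11] at h3
    refine ⟨m 0 0, ?_⟩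
    ext i j
    fin_cases i <;> fin_cases j
    · simp
    · simp [h2]
    · simp [a10]
    · simp [h3]

/-- coordinates for the point stabiliser -/
structure Coord {G : Type*} {Ω : Type*} [Group G] [MulAction G Ω] (F : Type u) [Field F] (β : OnePoint F ≃ Ω)
    (D : Subgroup Fˣ) : Prop where
  faith : ∀ g : G, (∀ x : Ω, g • x = x) → g = 1
  trans : ∀ c : F, ∃ g : G, g • β ∞ = β ∞ ∧ ∀ x : F, g • β x = β ((x + c : F) : OnePoint F)
  mult : ∀ δ ∈ D, ∃ g : G, g • β ∞ = β ∞ ∧ ∀ x : F, g • β x = β (((δ : F) * x : F) : OnePoint F)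
  stab : ∀ g : G, g • β ∞ = β ∞ → ∃ δ ∈ D, ∃ c : F, ∀ x : F, g • β x = β (((δ : F) * x + c : F) : OnePoint F)

variable {G Ω : Type*} [Group G] [MulAction G Ω] {β : OnePoint F ≃ Ω} {D : Subgroup Fˣ}

omit [DecidableEq F] in
theorem Coord.affine (hC : Coord (G := G) F β D) {δ : Fˣ} (hδ : δ ∈ D) (c : F) :
    ∃ g : G, g • β ∞ = β ∞ ∧ ∀ x : F, g • β x = β (((δ : F) * x + c : F) : OnePoint F) := by
  obtain ⟨g, h1, h2⟩ := hC.mult δ hδ
  obtain ⟨g', h3, h4⟩ := hC.trans c
  exact ⟨g' * g, by rw [mul_smul, h1, h3], fun x => by rw [mul_smul, h2, h4]⟩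

/-- **Recognition of `PGL(2,F)`.** -/
theorem recPGL (hC : Coord (G := G) F β ⊤) {s : G} {c : F} (hc : c ≠ 0) (hs1 : s • β ∞ = β ((0 : F) : OnePoint F))
    (hs0 : s • β ((0 : F) : OnePoint F) = β ∞) (hs : ∀ x : F, x ≠ 0 → s • β x = β ((c / x : F) : OnePoint F)) :
    Nonempty (G ≃* Matrix.ProjGenLinGroup (Fin 2) F) := by
  have key := rel_all (A := actGL F) (β := β) (G := G) ∞ ?_ ?_ ?_
  · exact iso hC.faith (Subgroup.center (GL (Fin 2) F)) (fun γ => center_GL γ) key.1 key.2
  · intro m hm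
    have h10 := actGL_ne10 m hm
    have hdet := det_ne m
    rw [h10, mul_zero, sub_zero] at hdet
    have h11 := right_ne_zero_of_mul hdet
    have h00 := left_ne_zero_of_mul hdet
    obtain ⟨g, h1, h2⟩ := hC.affine (δ := Units.mk0 (m 0 0 / m 1 1) (div_ne_zero h00 h11)) (Subgroup.mem_top _) (m 0 1 / m 1 1)
    refine ⟨g, fun p => ?_⟩
    induction p using OnePoint.rec with
    | infty => rw [h1, hm]
    | coe k =>
      rw [h2, actGL_coe, h10, zero_mul, zero_add, if_neg h11, Units.val_mk0]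
      congr 2
      field_simp
  · intro g hg
    obtain ⟨δ, -, c', h⟩ := hC.stab g hg
    have hne : (δ : F) * 1 - c' * 0 ≠ 0 := by simp
    obtain ⟨e1, e2, e3, e4⟩ := mkGL_entries (δ : F) c' 0 1 hne
    refine ⟨mkGL δ c' 0 1 hne, fun p => ?_⟩
    induction p using OnePoint.rec with
    | infty => rw [hg, actGL_infty, if_pos e3]
    | coe k => rw [h, actGL_coe, e1, e2, e3, e4]; simp
  · have hne : (0 : F) * 0 - c * 1 ≠ 0 := by simpa using hc
    obtain ⟨e1, e2, e3, e4⟩ := mkGL_entries 0 c 1 0 hne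
    have hrel : Rel (actGL F) β (mkGL 0 c 1 0 hne) s := by
      intro p
      induction p using OnePoint.rec with
      | infty => rw [hs1, actGL_infty, e1, e3]; simp
      | coe k =>
        by_cases hk : k = 0
        · subst hk
          rw [hs0, actGL_coe, e1, e2, e3, e4]; simp
        · rw [hs k hk, actGL_coe, e1, e2, e3, e4]; simp [hk]
    intro y
    induction y using OnePoint.rec with
    | infty => exact ⟨1, 1, fun p => by rw [one_smul, map_one]; rfl, by rw [map_one]; rfl⟩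
    | coe k =>
      obtain ⟨t, ht1, ht2⟩ := hC.trans k
      have hne' : (1 : F) * 1 - k * 0 ≠ 0 := by simp
      obtain ⟨f1, f2, f3, f4⟩ := mkGL_entries 1 k 0 1 hne'
      have hrel' : Rel (actGL F) β (mkGL 1 k 0 1 hne') t := by
        intro p
        induction p using OnePoint.rec with
        | infty => rw [ht1, actGL_infty, if_pos f3]
        | coe l => rw [ht2, actGL_coe, f1, f2, f3, f4]; simp
      refine ⟨_, _, hrel'.mul hrel, ?_⟩
      apply β.injective
      rw [← (hrel'.mul hrel) ∞, mul_smul, hs1, ht2, zero_add]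

/-- **Recognition of `PSL(2,F)`.** -/
theorem recPSL (hC : Coord (G := G) F β D) (hD : ∀ δ : Fˣ, δ ∈ D ↔ IsSquare δ) {s : G} {c : F} (hc : c ≠ 0)
    (hcD : IsSquare (-c)) (hs1 : s • β ∞ = β ((0 : F) : OnePoint F))
    (hs0 : s • β ((0 : F) : OnePoint F) = β ∞) (hs : ∀ x : F, x ≠ 0 → s • β x = β ((c / x : F) : OnePoint F)) :
    Nonempty (G ≃* Matrix.ProjectiveSpecialLinearGroup (Fin 2) F) := by
  have key := rel_all (A := actSL F) (β := β) (G := G) ∞ ?_ ?_ ?_
  · exact iso hC.faith (Subgroup.center (Matrix.SpecialLinearGroup (Fin 2) F)) (fun γ =>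
      ⟨fun h p => H4.Zass.fix_of_center γ h p, fun h => H4.Zass.center_of_fix γ (h ∞) (h ((0 : F) : OnePoint F))
        (h ((1 : F) : OnePoint F))⟩) key.1 key.2
  · intro m hm
    have h10 : m 1 0 = 0 := H4.Zass.ne10 m hm
    have hdet : m 0 0 * m 1 1 = 1 := by
      have := m.det_coe
      rw [Matrix.det_fin_two, h10, mul_zero, sub_zero] at this
      exact this
    have h11 : m 1 1 ≠ 0 := right_ne_zero_of_mul (by rw [hdet]; exact one_ne_zero)
    have h00 : m 0 0 ≠ 0 := left_ne_zero_of_mul (by rw [hdet]; exact one_ne_zero)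
    obtain ⟨g, h1, h2⟩ := hC.affine (δ := Units.mk0 (m 0 0) h00 * Units.mk0 (m 0 0) h00) ((hD _).2 ⟨_, rfl⟩) (m 0 1 / m 1 1)
    refine ⟨g, fun p => ?_⟩
    induction p using OnePoint.rec with
    | infty => rw [h1]; congr 1; exact hm.symm
    | coe k =>
      rw [h2, actSL_apply, H4.Zass.sact_coe, h10, zero_mul, zero_add, if_neg h11]
      congr 2
      have h3 : m 0 0 = (m 1 1)⁻¹ := eq_inv_of_mul_eq_one_left hdet
      simp only [Units.val_mul, Units.val_mk0]
      rw [h3]
      field_simp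
  · intro g hg
    obtain ⟨δ, hδ, c', h⟩ := hC.stab g hg
    obtain ⟨r, rfl⟩ := (hD δ).1 hδ
    have hr0 : (r : F) ≠ 0 := r.ne_zero
    have hne : (r : F) * (r : F)⁻¹ - (c' * (r : F)⁻¹) * 0 = 1 := by field_simp; simp
    obtain ⟨e1, e2, e3, e4⟩ := H4.Zass.mk2_entries (r : F) (c' * (r : F)⁻¹) 0 (r : F)⁻¹ hne
    refine ⟨H4.Zass.mk2 (r : F) (c' * (r : F)⁻¹) 0 (r : F)⁻¹ hne, fun p => ?_⟩
    induction p using OnePoint.rec with
    | infty => rw [hg, actSL_apply, H4.Zass.sact_infty, if_pos e3]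
    | coe k =>
      rw [h, actSL_apply, H4.Zass.sact_coe, e1, e2, e3, e4, zero_mul, zero_add, if_neg (inv_ne_zero hr0)]
      congr 2
      simp only [Units.val_mul]
      field_simp
  · obtain ⟨r, hr⟩ := hcD
    have hr0 : r ≠ 0 := by
      rintro rfl
      rw [mul_zero, neg_eq_zero] at hr
      exact hc hr
    have hcr : c = -(r * r) := by rw [← hr, neg_neg]
    have hne : (0 : F) * 0 - (-r) * r⁻¹ = 1 := by field_simp; simp
    obtain ⟨e1, e2, e3, e4⟩ := H4.Zass.mk2_entries 0 (-r) r⁻¹ 0 hne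
    have hrel : Rel (actSL F) β (H4.Zass.mk2 0 (-r) r⁻¹ 0 hne) s := by
      intro p
      induction p using OnePoint.rec with
      | infty => rw [hs1, actSL_apply, H4.Zass.sact_infty, e1, e3]; simp [hr0]
      | coe k =>
        by_cases hk : k = 0
        · subst hk
          rw [hs0, actSL_apply, H4.Zass.sact_coe, e1, e2, e3, e4]; simp
        · rw [hs k hk, actSL_apply, H4.Zass.sact_coe, e1, e2, e3, e4, if_neg (by simp [hk, hr0])]
          congr 2
          rw [hcr, zero_mul, zero_add, add_zero]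
          field_simp
    intro y
    induction y using OnePoint.rec with
    | infty => exact ⟨1, 1, fun p => by rw [one_smul, map_one]; rfl, by rw [map_one]; rfl⟩
    | coe k =>
      obtain ⟨t, ht1, ht2⟩ := hC.trans k
      obtain ⟨m, hm1, hm2⟩ := H4.Zass.exists_trans k
      have hrel' : Rel (actSL F) β m t := by
        intro p
        induction p using OnePoint.rec with
        | infty => rw [ht1]; congr 1; exact hm1.symm
        | coe l => rw [ht2]; congr 1; exact (hm2 l).symm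
      refine ⟨_, _, hrel'.mul hrel, ?_⟩
      apply β.injective
      rw [← (hrel'.mul hrel) ∞, mul_smul, hs1, ht2, zero_add]

end Cfsg.Agent.H9.ZassRec
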