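import Mathlib
import Cfsg.Agent.H9_ZassRec
import Cfsg.Agent.H9_ZassC

/-!
# The field attached to a large commutative semiregular automorphism group
-/

set_option autoImplicit false

namespace Cfsg.Agent.H9.ZassF

open OnePoint

theorem exists_field {V : Type*} [AddCommGroup V] [Finite V] {E : Type*} [Group E] [Finite E]
    (hcomm : ∀ a b : E, a * b = b * a) (f : E →* AddMonoid.End V)
    (hfree : ∀ (e : E) (v : V), v ≠ 0 → f e v = v → e = 1) (hbig : Nat.card V - 1 ≤ 2 * Nat.card E) {v₀ : V}
    (hv₀ : v₀ ≠ 0) :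
    ∃ (F : Type) (_ : Field F) (_ : Fintype F) (φ : F ≃+ V) (χ : E →* Fˣ), Function.Injective χ ∧ φ 1 = v₀ ∧
      ∀ (e : E) (x : F), f e (φ x) = φ ((χ e : F) * x) := by
  classical
  let s : Set (AddMonoid.End V) := Set.range f
  let R := Subring.closure s
  have hs : ∀ x ∈ s, ∀ y ∈ s, x * y = y * x := by
    rintro _ ⟨a, rfl⟩ _ ⟨b, rfl⟩
    rw [← map_mul, ← map_mul, hcomm]
  letI : CommRing R := Subring.closureCommRingOfComm hs
  have hfR : ∀ e, f e ∈ R := fun e => Subring.subset_closure ⟨e, rfl⟩
  -- the orbit subgroup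
  have horb : ∀ v : V, v ≠ 0 → ∀ w : V, ∃ r ∈ R, r v = w := by
    intro v hv
    let U : AddSubgroup V :=
      { carrier := {w | ∃ r ∈ R, r v = w}
        add_mem' := by
          rintro _ _ ⟨r, hr, rfl⟩ ⟨r', hr', rfl⟩
          exact ⟨r + r', R.add_mem hr hr', rfl⟩
        zero_mem' := ⟨0, R.zero_mem, rfl⟩
        neg_mem' := by
          rintro _ ⟨r, hr, rfl⟩
          exact ⟨-r, R.neg_mem hr, rfl⟩ }
    have h1 : Nat.card E + 1 ≤ Nat.card U := by
      have hinj : Function.Injective (fun o : Option E => (match o with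
          | Option.none => ⟨0, U.zero_mem⟩
          | Option.some e => ⟨f e v, f e, hfR e, rfl⟩ : U)) := by
        have hne : ∀ e : E, f e v ≠ 0 := by
          intro e he
          apply hv
          have : f e⁻¹ (f e v) = v := by
            have := DFunLike.congr_fun (map_mul f e⁻¹ e) v
            rw [inv_mul_cancel, map_one] at this
            exact this.symm
          rw [← this, he, map_zero]
        rintro (_ | e) (_ | e') h
        · rfl
        · exact absurd (congrArg Subtype.val h).symm (hne e')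
        · exact absurd (congrArg Subtype.val h) (hne e)
        · have h2 : f e v = f e' v := congrArg Subtype.val h
          have h3 : f (e'⁻¹ * e) v = v := by
            rw [map_mul]
            change f e'⁻¹ (f e v) = v
            rw [h2]
            have := DFunLike.congr_fun (map_mul f e'⁻¹ e') v
            rw [inv_mul_cancel, map_one] at this
            exact this.symm
          have h4 := hfree _ v hv h3
          rw [inv_mul_eq_one.1 h4]
      have := Nat.card_le_card_of_injective _ hinj
      rwa [Finite.card_option] at this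
    have h2 : U = ⊤ := by
      have h3 : Nat.card U ∣ Nat.card V := AddSubgroup.card_addSubgroup_dvd_card U
      obtain ⟨m, hm⟩ := h3
      have hVpos : 0 < Nat.card V := Nat.card_pos
      have h9 : m = 1 := by
        rcases m with _ | _ | m
        · omega
        · rfl
        · exfalso
          have : Nat.card V ≥ Nat.card U * 2 := by
            rw [hm]; exact Nat.mul_le_mul_left _ (by omega)
          omega
      rw [h9, mul_one] at hm
      exact AddSubgroup.eq_top_of_card_eq U hm.symm
    intro w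
    have : w ∈ U := by rw [h2]; trivial
    exact this
  have hcommR : ∀ r ∈ R, ∀ t ∈ R, r * t = t * r := by
    intro r hr t ht
    exact congrArg Subtype.val (mul_comm (⟨r, hr⟩ : R) ⟨t, ht⟩)
  have hzero : ∀ r ∈ R, ∀ v : V, v ≠ 0 → r v = 0 → r = 0 := by
    intro r hr v hv hrv
    ext w
    obtain ⟨t, ht, rfl⟩ := horb v hv w
    have : (r * t) v = (t * r) v := by rw [hcommR r hr t ht]
    change r (t v) = t (r v) at this
    rw [this, hrv, map_zero]
    rfl
  haveI : Finite R := by
    apply Finite.of_injective (fun r : R => r.1 v₀)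
    intro r t hrt
    have h1 : (r.1 - t.1) v₀ = 0 := by
      change r.1 v₀ - t.1 v₀ = 0
      exact sub_eq_zero.2 hrt
    have h2 := hzero (r.1 - t.1) (R.sub_mem r.2 t.2) v₀ hv₀ h1
    exact Subtype.ext (sub_eq_zero.1 h2)
  haveI : Nontrivial R := ⟨0, 1, fun h => hv₀ (by
    have : (0 : AddMonoid.End V) = 1 := congrArg Subtype.val h
    have h2 := DFunLike.congr_fun this v₀
    exact h2.symm)⟩
  haveI : NoZeroDivisors R := ⟨by
    intro r t hrt
    by_cases ht : t = 0
    · exact Or.inr ht
    · left
      have h1 : t.1 v₀ ≠ 0 := fun h => ht (Subtype.ext (hzero t.1 t.2 v₀ hv₀ h))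
      have h2 : r.1 (t.1 v₀) = 0 := by
        have : (r * t : R).1 v₀ = 0 := by rw [hrt]; rfl
        exact this
      exact Subtype.ext (hzero r.1 r.2 _ h1 h2)⟩
  haveI : IsDomain R := NoZeroDivisors.to_isDomain R
  letI hfieldR : Field R := (Finite.isField_of_domain R).toField
  -- evaluation
  let ev : R ≃+ V := AddEquiv.ofBijective (({ toFun := fun r => r.1 v₀, map_zero' := rfl, map_add' := fun _ _ => rfl } : R →+ V)) (by
    constructor
    · intro r t hrt
      have h1 : (r.1 - t.1) v₀ = 0 := by
        change r.1 v₀ - t.1 v₀ = 0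
        exact sub_eq_zero.2 hrt
      have h2 := hzero (r.1 - t.1) (R.sub_mem r.2 t.2) v₀ hv₀ h1
      exact Subtype.ext (sub_eq_zero.1 h2)
    · intro w
      obtain ⟨r, hr, hrw⟩ := horb v₀ hv₀ w
      exact ⟨⟨r, hr⟩, hrw⟩)
  let e : H4.Zass.FinBox (Nat.card R) ≃ R := (H4.Zass.FinBox.equiv _).trans (Finite.equivFin R).symm
  letI hF : Field (H4.Zass.FinBox (Nat.card R)) := e.field
  let ρ : H4.Zass.FinBox (Nat.card R) ≃+* R := e.ringEquiv
  haveI : Fintype (H4.Zass.FinBox (Nat.card R)) := Fintype.ofEquiv _ (H4.Zass.FinBox.equiv _).symm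
  let f' : E →* R := { toFun := fun e => ⟨f e, hfR e⟩, map_one' := Subtype.ext (map_one f), map_mul' := fun a b => Subtype.ext (map_mul f a b) }
  let χ : E →* (H4.Zass.FinBox (Nat.card R))ˣ := MonoidHom.toHomUnits ((ρ.symm : R →* H4.Zass.FinBox (Nat.card R)).comp f')
  have hχ : ∀ e, ρ (χ e : H4.Zass.FinBox (Nat.card R)) = f' e := fun e => ρ.apply_symm_apply _
  refine ⟨H4.Zass.FinBox (Nat.card R), hF, inferInstance, ρ.toAddEquiv.trans ev, χ, ?_, ?_, ?_⟩
  · intro a b hab
    have h1 : f' a = f' b := by rw [← hχ, ← hχ, hab]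
    have h2 : f a = f b := congrArg Subtype.val h1
    have h3 : f (b⁻¹ * a) v₀ = v₀ := by
      rw [map_mul, h2, ← map_mul, inv_mul_cancel, map_one]
      rfl
    have h4 := hfree _ v₀ hv₀ h3
    exact (inv_mul_eq_one.1 h4).symm
  · change (ρ 1 : R).1 v₀ = v₀
    rw [map_one]
    rfl
  · intro e x
    change f e ((ρ x : R).1 v₀) = (ρ (χ e * x) : R).1 v₀
    rw [map_mul, hχ]
    rfl

end Cfsg.Agent.H9.ZassF
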