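import Mathlib
import Cfsg.Agent.H9_ZassF

/-!
# Coordinates for Zassenhaus groups with commutative kernel and two-point stabiliser
-/

set_option autoImplicit false

namespace Cfsg.Agent.H9.ZassG

open OnePoint Cfsg.Agent.H9.ZassA Cfsg.Agent.H9.ZassC Cfsg.Agent.H9.ZassRec

variable {G Ω : Type*} [Group G] [MulAction G Ω]

theorem coords [Finite G] [Fintype Ω] (hZ : ZG G Ω) {a b w : Ω} (hab : a ≠ b) (hwa : w ≠ a) (hwb : w ≠ b)
    {K : Subgroup G} (hK : Ker K a)
    (hKc : ∀ k ∈ K, ∀ l ∈ K, k * l = l * k)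
    (hEc : ∀ g h : G, g • a = a → g • b = b → h • a = a → h • b = b → g * h = h * g)
    (hd : Fintype.card Ω - 2 ≤ 2 * Nat.card ↥(MulAction.stabilizer G a ⊓ MulAction.stabilizer G b)) :
    ∃ (F : Type) (_ : Field F) (_ : Fintype F) (β : OnePoint F ≃ Ω) (D : Subgroup Fˣ), Coord (G := G) F β D ∧
      β ∞ = a ∧ β ((0 : F) : OnePoint F) = b ∧ β ((1 : F) : OnePoint F) = w ∧
      Nat.card D = Nat.card ↥(MulAction.stabilizer G a ⊓ MulAction.stabilizer G b) ∧
      Fintype.card F + 1 = Fintype.card Ω := by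
  classical
  letI : CommGroup K := { (inferInstance : Group K) with mul_comm := fun x y => Subtype.ext (hKc x x.2 y y.2) }
  let E := MulAction.stabilizer G a ⊓ MulAction.stabilizer G b
  let f : E →* AddMonoid.End (Additive K) :=
    { toFun := fun e =>
        { toFun := fun k => Additive.ofMul (⟨e * (Additive.toMul k : K) * (e : G)⁻¹, hK.nrm e e.2.1 _ (Additive.toMul k : K).2⟩ : K)
          map_zero' := by
            apply congrArg Additive.ofMul
            apply Subtype.ext
            change (e : G) * 1 * (e : G)⁻¹ = 1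
            group
          map_add' := fun k l => by
            apply congrArg Additive.ofMul
            apply Subtype.ext
            change (e : G) * (((Additive.toMul k : K) : G) * ((Additive.toMul l : K) : G)) * (e : G)⁻¹ =
              ((e : G) * ((Additive.toMul k : K) : G) * (e : G)⁻¹) * ((e : G) * ((Additive.toMul l : K) : G) * (e : G)⁻¹)
            group }
      map_one' := by
        ext k
        change (1 : G) * ((Additive.toMul k : K) : G) * (1 : G)⁻¹ = (Additive.toMul k : K)
        group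
      map_mul' := fun d e => by
        ext k
        change ((d : G) * e) * ((Additive.toMul k : K) : G) * ((d : G) * e)⁻¹ =
          (d : G) * ((e : G) * ((Additive.toMul k : K) : G) * (e : G)⁻¹) * (d : G)⁻¹
        group }
  have hf : ∀ (e : E) (k : Additive K), (((f e k).toMul : K) : G) = e * (k.toMul : K) * (e : G)⁻¹ := fun _ _ => rfl
  obtain ⟨k₀, hk₀, hk₀w⟩ := hK.reg b w hab.symm hwa
  have hcardK := Ker.card hab hK
  obtain ⟨F, hF, hFf, φ, χ, hχ, hφ1, hφ⟩ := ZassF.exists_field (V := Additive K) (E := E)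
    (fun x y => Subtype.ext (hEc x y x.2.1 x.2.2 y.2.1 y.2.2)) f (by
      intro e v hv hev
      by_contra he
      apply hv
      have h1 := hf e v
      rw [hev] at h1
      have h2 := hK.fpf hZ hab e.2.1 e.2.2 (fun h => he (Subtype.ext h)) v.toMul.2 h1.symm
      have h3 : v.toMul = 1 := Subtype.ext h2
      exact h3) (by
      have : Nat.card (Additive K) = Nat.card K := rfl
      rw [this]
      have h2 : Nat.card E = Nat.card ↥(MulAction.stabilizer G a ⊓ MulAction.stabilizer G b) := rfl
      omega) (v₀ := Additive.ofMul ⟨k₀, hk₀⟩) (by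
      intro h
      apply hwb
      have h1 : (⟨k₀, hk₀⟩ : K) = 1 := h
      have h2 : k₀ = 1 := congrArg Subtype.val h1
      rw [← hk₀w, h2, one_smul])
  let κ : F → G := fun x => ((φ x).toMul : K)
  have hκK : ∀ x, κ x ∈ K := fun x => ((φ x).toMul : K).2
  have hκadd : ∀ x y, κ (x + y) = κ x * κ y := by
    intro x y
    change (((φ (x + y)).toMul : K) : G) = _
    rw [map_add]
    rfl
  have hκ0 : κ 0 = 1 := by
    change (((φ 0).toMul : K) : G) = _
    rw [map_zero]
    rfl
  have hκ1 : κ 1 = k₀ := by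
    change (((φ 1).toMul : K) : G) = _
    rw [hφ1]
    rfl
  have hκmul : ∀ (e : E) x, κ ((χ e : F) * x) = e * κ x * (e : G)⁻¹ := by
    intro e x
    change (((φ ((χ e : F) * x)).toMul : K) : G) = _
    rw [← hφ]
    rfl
  have hκsurj : ∀ k ∈ K, ∃ x, κ x = k := by
    intro k hk
    refine ⟨φ.symm (Additive.ofMul ⟨k, hk⟩), ?_⟩
    change (((φ _).toMul : K) : G) = _
    rw [AddEquiv.apply_symm_apply]
    rfl
  have hκinj : Function.Injective κ := by
    intro x y hxy
    apply φ.injective
    have : (φ x).toMul = (φ y).toMul := Subtype.ext hxy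
    exact this
  let β : OnePoint F ≃ Ω := Equiv.ofBijective (fun p => OnePoint.elim p a (fun x => κ x • b)) (by
    have hne : ∀ x, κ x • b ≠ a := by
      intro x h
      apply hab
      have h1 := hK.le _ (hκK x)
      exact (MulAction.injective (κ x) (h.trans h1.symm)).symm
    constructor
    · intro p q hpq
      induction p using OnePoint.rec with
      | infty =>
        induction q using OnePoint.rec with
        | infty => rfl
        | coe y => exact absurd hpq.symm (hne y)
      | coe x =>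
        induction q using OnePoint.rec with
        | infty => exact absurd hpq (hne x)
        | coe y =>
          have h1 : κ x • b = κ y • b := hpq
          have h2 := hK.free ((κ y)⁻¹ * κ x) (K.mul_mem (K.inv_mem (hκK y)) (hκK x)) b hab.symm (by
            rw [mul_smul, inv_smul_eq_iff, h1])
          rw [hκinj (inv_mul_eq_one.1 h2).symm]
    · intro y
      by_cases hy : y = a
      · exact ⟨∞, hy.symm⟩
      · obtain ⟨k, hk, hky⟩ := hK.reg b y hab.symm hy
        obtain ⟨x, rfl⟩ := hκsurj k hk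
        exact ⟨(x : OnePoint F), hky⟩)
  have hβinf : β ∞ = a := rfl
  have hβ : ∀ x : F, β (x : OnePoint F) = κ x • b := fun _ => rfl
  refine ⟨F, hF, hFf, β, χ.range, ⟨hZ.faith, ?_, ?_, ?_⟩, hβinf, ?_, ?_, ?_, ?_⟩
  · intro c
    refine ⟨κ c, by rw [hβinf]; exact hK.le _ (hκK c), fun x => ?_⟩
    rw [hβ, hβ, ← mul_smul, ← hκadd, add_comm]
  · rintro _ ⟨e, rfl⟩
    refine ⟨e, by rw [hβinf]; exact e.2.1, fun x => ?_⟩
    rw [hβ, hβ, hκmul, mul_smul, mul_smul]
    congr 2
    rw [eq_inv_smul_iff]
    exact e.2.2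
  · intro g hg
    rw [hβinf] at hg
    have hgb : g • b ≠ a := fun h => hab (MulAction.injective g (h.trans hg.symm)).symm
    obtain ⟨k, hk, hkb⟩ := hK.reg b (g • b) hab.symm hgb
    obtain ⟨c, rfl⟩ := hκsurj k hk
    have he : (κ c)⁻¹ * g ∈ E := by
      constructor
      · change ((κ c)⁻¹ * g) • a = a
        rw [mul_smul, hg, inv_smul_eq_iff, hK.le _ (hκK c)]
      · change ((κ c)⁻¹ * g) • b = b
        rw [mul_smul, inv_smul_eq_iff, hkb]
    refine ⟨χ ⟨_, he⟩, ⟨_, rfl⟩, c, fun x => ?_⟩
    rw [hβ, hβ, add_comm, hκadd, hκmul, mul_smul, mul_smul, mul_smul]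
    change g • κ x • b = κ c • ((κ c)⁻¹ * g) • κ x • ((κ c)⁻¹ * g)⁻¹ • b
    have h1 : ((κ c)⁻¹ * g)⁻¹ • b = b := by
      rw [inv_smul_eq_iff]
      exact he.2.symm
    rw [h1, ← mul_smul (κ c), mul_inv_cancel_left]
  · rw [hβ, hκ0, one_smul]
  · rw [hβ, hκ1, hk₀w]
  · rw [← Nat.card_congr (MonoidHom.ofInjective hχ).toEquiv]
  · rw [← hcardK, ← Nat.card_eq_fintype_card]
    congr 1
    exact Nat.card_congr φ.toEquiv

end Cfsg.Agent.H9.ZassG
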