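import Mathlib
import Cfsg.Agent.H9_ZassG

/-!
# Zassenhaus groups with even two-point stabiliser
-/

set_option autoImplicit false

namespace Cfsg.Agent.H9.ZassH

open OnePoint Cfsg.Agent.H9.ZassA Cfsg.Agent.H9.ZassC Cfsg.Agent.H9.ZassRec

theorem isSquare_mul_of_not {F : Type*} [Field F] [Fintype F] {x y : F} (hx : ¬ IsSquare x) (hy : ¬ IsSquare y) :
    IsSquare (x * y) := by
  classical
  have hx0 : x ≠ 0 := by rintro rfl; exact hx ⟨0, by simp⟩
  have hy0 : y ≠ 0 := by rintro rfl; exact hy ⟨0, by simp⟩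
  rw [← quadraticChar_one_iff_isSquare (mul_ne_zero hx0 hy0), map_mul,
    quadraticChar_neg_one_iff_not_isSquare.2 hx, quadraticChar_neg_one_iff_not_isSquare.2 hy]
  norm_num

theorem exists_square_add_one {F : Type*} [Field F] [Fintype F] (hF : ringChar F ≠ 2) :
    ∃ y : F, y ≠ 0 ∧ IsSquare y ∧ ¬ IsSquare (y + 1) := by
  obtain ⟨ν, hν⟩ := FiniteField.exists_nonsquare hF
  obtain ⟨a, b, hab⟩ := FiniteField.exists_root_sum_quadratic (R := F) (f := Polynomial.X ^ 2)
    (g := Polynomial.X ^ 2 - Polynomial.C ν) (Polynomial.degree_X_pow 2)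
    (Polynomial.degree_X_pow_sub_C (by norm_num) ν) (by
      have := FiniteField.odd_card_of_char_ne_two hF
      exact this)
  simp only [Polynomial.eval_pow, Polynomial.eval_X, Polynomial.eval_sub, Polynomial.eval_C] at hab
  have hab' : a ^ 2 + b ^ 2 = ν := by linear_combination hab
  have ha : a ≠ 0 := by
    rintro rfl
    exact hν ⟨b, by rw [← hab']; ring⟩
  have hb : b ≠ 0 := by
    rintro rfl
    exact hν ⟨a, by rw [← hab']; ring⟩
  refine ⟨a ^ 2 / b ^ 2, div_ne_zero (pow_ne_zero 2 ha) (pow_ne_zero 2 hb), ⟨a / b, by field_simp⟩, ?_⟩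
  rintro ⟨r, hr⟩
  apply hν
  refine ⟨r * b, ?_⟩
  rw [← hab']
  field_simp at hr
  linear_combination hr

variable {F : Type*} [Field F] {G Ω : Type*} [Group G] [MulAction G Ω] {β : OnePoint F ≃ Ω} {D : Subgroup Fˣ}

theorem sigma {s : G} (hs1 : s • β ∞ = β ((0 : F) : OnePoint F)) (hs0 : s • β ((0 : F) : OnePoint F) = β ∞) :
    ∃ σ : F → F, ∀ x, x ≠ 0 → σ x ≠ 0 ∧ s • β x = β ((σ x : F) : OnePoint F) := by
  have key : ∀ x : F, x ≠ 0 → ∃ y : F, y ≠ 0 ∧ s • β x = β (y : OnePoint F) := by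
    intro x hx
    obtain ⟨p, hp⟩ := β.surjective (s • β x)
    induction p using OnePoint.rec with
    | infty =>
      exfalso
      rw [← hs0] at hp
      have := β.injective (MulAction.injective s hp)
      exact hx (OnePoint.coe_injective this).symm
    | coe y =>
      refine ⟨y, ?_, hp.symm⟩
      rintro rfl
      rw [← hs1] at hp
      have := β.injective (MulAction.injective s hp)
      exact OnePoint.infty_ne_coe x this
  classical
  refine ⟨fun x => if h : x ≠ 0 then (key x h).choose else 0, fun x hx => ?_⟩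
  have h := (key x hx).choose_spec
  simpa only [dif_pos hx] using h

theorem sigma_mul {s g : G} {σ : F → F} (hσ : ∀ x, x ≠ 0 → σ x ≠ 0 ∧ s • β x = β ((σ x : F) : OnePoint F)) {δ : F}
    (hδ : δ ≠ 0) (hg : ∀ x : F, g • β x = β ((δ * x : F) : OnePoint F)) (hsg : s * g * s⁻¹ = g⁻¹) {x : F} (hx : x ≠ 0) :
    σ (δ * x) = δ⁻¹ * σ x := by
  have h1 : s * g = g⁻¹ * s := by rw [← hsg]; group
  have h2 := congrArg (fun u => u • β x) h1
  simp only [mul_smul] at h2
  rw [hg, (hσ x hx).2, (hσ _ (mul_ne_zero hδ hx)).2, eq_inv_smul_iff, hg] at h2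
  have h3 := OnePoint.coe_injective (β.injective h2)
  rw [← h3]; field_simp

/-- the structure equation -/
theorem structure_eq (hC : Coord (G := G) F β D) {s : G} {σ : F → F} (hs1 : s • β ∞ = β ((0 : F) : OnePoint F))
    (hs0 : s • β ((0 : F) : OnePoint F) = β ∞)
    (hσ : ∀ x, x ≠ 0 → σ x ≠ 0 ∧ s • β x = β ((σ x : F) : OnePoint F)) (h1 : σ 1 = 1) (h2 : σ (-1) = -1) :
    ∀ x, x ≠ 0 → x ≠ 1 → σ (σ (x - 1) + 1) = 1 - σ x := by
  obtain ⟨t, ht1, ht⟩ := hC.trans 1
  obtain ⟨t', ht1', ht'⟩ := hC.trans (-1)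
  have hs_1 : s • β ((1 : F) : OnePoint F) = β ((1 : F) : OnePoint F) := by rw [(hσ 1 one_ne_zero).2, h1]
  have hs_m1 : s • β ((-1 : F) : OnePoint F) = β ((-1 : F) : OnePoint F) := by
    rw [(hσ (-1) (by simp)).2, h2]
  let u := t' * s * t * s * t'
  have hu : ∀ p : Ω, u • p = t' • s • t • s • t' • p := fun p => by simp only [u, mul_smul]
  have u1 : u • β ∞ = β ((0 : F) : OnePoint F) := by
    rw [hu, ht1', hs1, ht, zero_add, hs_1, ht']
    simp
  have u0 : u • β ((0 : F) : OnePoint F) = β ∞ := by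
    rw [hu, ht', zero_add, hs_m1, ht, neg_add_cancel, hs0, ht1']
  have u2 : u • β ((1 : F) : OnePoint F) = β ((-1 : F) : OnePoint F) := by
    rw [hu, ht', add_neg_cancel, hs0, ht1, hs1, ht', zero_add]
  have hsi0 : s⁻¹ • β ((0 : F) : OnePoint F) = β ∞ := by rw [inv_smul_eq_iff, hs1]
  have hsi1 : s⁻¹ • β ∞ = β ((0 : F) : OnePoint F) := by rw [inv_smul_eq_iff, hs0]
  obtain ⟨δ, hδ, c, hδc⟩ := hC.stab (u * s⁻¹) (by rw [mul_smul, hsi1, u0])
  have hc : c = 0 := by
    have := hδc 0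
    rw [mul_smul, hsi0, u1, mul_zero, zero_add] at this
    exact (OnePoint.coe_injective (β.injective this)).symm
  subst hc
  have hus : ∀ x : F, x ≠ 0 → u • β x = β (((δ : F) * σ x : F) : OnePoint F) := by
    intro x hx
    have := hδc (σ x)
    rw [← (hσ x hx).2, mul_smul, inv_smul_smul, add_zero] at this
    exact this
  have hδ1 : (δ : F) = -1 := by
    have := hus 1 one_ne_zero
    rw [u2, h1, mul_one] at this
    exact (OnePoint.coe_injective (β.injective this)).symm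
  intro x hx hx1
  have hx1' : x - 1 ≠ 0 := sub_ne_zero.2 hx1
  have h3 := hus x hx
  rw [hu, ht', ← sub_eq_add_neg, (hσ _ hx1').2, ht] at h3
  have h4 : σ (x - 1) + 1 ≠ 0 := by
    intro h
    rw [h, hs0, ht1'] at h3
    exact OnePoint.infty_ne_coe _ (β.injective h3)
  rw [(hσ _ h4).2, ht', hδ1] at h3
  have h5 := OnePoint.coe_injective (β.injective h3)
  linear_combination h5

/-- `s` is inversion -/
theorem sigma_eq_inv [Fintype F] (hF : ringChar F ≠ 2) (hC : Coord (G := G) F β D) {s : G} {σ : F → F}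
    (hs1 : s • β ∞ = β ((0 : F) : OnePoint F))
    (hs0 : s • β ((0 : F) : OnePoint F) = β ∞)
    (hσ : ∀ x, x ≠ 0 → σ x ≠ 0 ∧ s • β x = β ((σ x : F) : OnePoint F)) (h1 : σ 1 = 1)
    (hsq : ∀ δ x : F, IsSquare δ → δ ≠ 0 → x ≠ 0 → σ (δ * x) = δ⁻¹ * σ x) (hm1 : IsSquare (-1 : F)) :
    ∀ x, x ≠ 0 → σ x = x⁻¹ := by
  have hs : ∀ x, x ≠ 0 → IsSquare x → σ x = x⁻¹ := by
    intro x hx hxs
    have := hsq x 1 hxs hx one_ne_zero
    rwa [h1, mul_one, mul_one] at this
  have h2 : σ (-1) = -1 := by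
    rw [hs (-1) (by simp) hm1, inv_neg, inv_one]
  have hE := structure_eq hC hs1 hs0 hσ h1 h2
  obtain ⟨y, hy0, hys, hy1⟩ := exists_square_add_one hF
  have hy10 : y + 1 ≠ 0 := by
    intro h
    apply hy1
    rw [h]
    exact ⟨0, by simp⟩
  have h3 := hE (y + 1) hy10 (by simpa using hy0)
  rw [add_sub_cancel_right, hs y hy0 hys] at h3
  have h4 : y⁻¹ + 1 = y⁻¹ * (y + 1) := by field_simp; ring
  have hyis : IsSquare y⁻¹ := hys.inv
  rw [h4, hsq y⁻¹ (y + 1) hyis (inv_ne_zero hy0) hy10, inv_inv] at h3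
  have h5 : σ (y + 1) = (y + 1)⁻¹ := by
    apply eq_inv_of_mul_eq_one_left
    linear_combination h3
  intro x hx
  by_cases hxs : IsSquare x
  · exact hs x hx hxs
  · have h6 : IsSquare (x / (y + 1)) := by
      obtain ⟨r, hr⟩ := isSquare_mul_of_not hxs hy1
      refine ⟨r / (y + 1), ?_⟩
      field_simp
      rw [hr]; ring
    have h7 := hsq (x / (y + 1)) (y + 1) h6 (div_ne_zero hx hy10) hy10
    rw [div_mul_cancel₀ _ hy10, h5] at h7
    rw [h7]
    field_simp

theorem mem_iff_isSquare [Fintype F] (hD : 2 * Nat.card D + 1 = Fintype.card F) (δ : Fˣ) : δ ∈ D ↔ IsSquare δ := by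
  classical
  have hF : ringChar F ≠ 2 := by
    intro h
    have := FiniteField.even_card_iff_char_two.1 h
    omega
  have hhalf : Fintype.card F / 2 = Nat.card D := by omega
  rw [FiniteField.unit_isSquare_iff hF, hhalf]
  have hDpos : 0 < Nat.card D := Nat.card_pos
  let S : Subgroup Fˣ := (powMonoidHom (Nat.card D)).ker
  have hS : ∀ δ, δ ∈ S ↔ δ ^ Nat.card D = 1 := fun δ => by
    rw [MonoidHom.mem_ker]; rfl
  have hDS : D ≤ S := by
    intro δ hδ
    rw [hS]
    have := pow_card_eq_one' (x := (⟨δ, hδ⟩ : D))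
    exact congrArg Subtype.val this
  have hcard : Nat.card S ≤ Nat.card D := by
    have h1 := IsCyclic.card_pow_eq_one_le (α := Fˣ) hDpos
    rw [Nat.card_eq_fintype_card, Fintype.card_subtype]
    refine le_trans (le_of_eq ?_) h1
    congr 1
    ext δ
    simp only [Finset.mem_filter, Finset.mem_univ, true_and]
    exact hS δ
  have := Subgroup.eq_of_le_of_card_ge hDS hcard
  rw [← hS, this]

theorem ringChar_ne [Fintype F] (hD : 2 * Nat.card D + 1 = Fintype.card F) : ringChar F ≠ 2 := by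
  intro h
  have := FiniteField.even_card_iff_char_two.1 h
  omega

/-- Zassenhaus groups with even two-point stabiliser of order at most `(n-1)/2`. -/
theorem psl_even {G Ω : Type*} [Group G] [MulAction G Ω] [Finite G] [Fintype Ω] (hZ : ZG G Ω) {a b : Ω} (hab : a ≠ b)
    (heven : Even (Nat.card ↥(MulAction.stabilizer G a ⊓ MulAction.stabilizer G b)))
    (hd : 2 * Nat.card ↥(MulAction.stabilizer G a ⊓ MulAction.stabilizer G b) ≤ Fintype.card Ω - 2) :
    ∃ (F : Type) (_ : Field F) (_ : Fintype F), ringChar F ≠ 2 ∧ Fintype.card F + 1 = Fintype.card Ω ∧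
      Nonempty (G ≃* Matrix.ProjectiveSpecialLinearGroup (Fin 2) F) := by
  classical
  haveI : Fact (Nat.Prime 2) := ⟨Nat.prime_two⟩
  obtain ⟨z, hz⟩ := exists_prime_orderOf_dvd_card' (G := ↥(MulAction.stabilizer G a ⊓ MulAction.stabilizer G b)) 2
    heven.two_dvd
  have hz1 : (z : G) ≠ 1 := by
    intro h
    have : z = 1 := Subtype.ext h
    rw [this, orderOf_one] at hz
    omega
  have hz2 : (z : G) * z = 1 := by
    have := pow_orderOf_eq_one z
    rw [hz, pow_two] at this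
    exact congrArg Subtype.val this
  have hcount := ZassB.two_mul_swaps hZ hab z.2.1 z.2.2 hz1 hz2
  -- every element swapping a and b is an involution with two fixed points
  have hcardle := ZassB.swaps_le (G := G) hab
  have hdeq : 2 * Nat.card ↥(MulAction.stabilizer G a ⊓ MulAction.stabilizer G b) = Fintype.card Ω - 2 := by omega
  have hEpos : 0 < Nat.card ↥(MulAction.stabilizer G a ⊓ MulAction.stabilizer G b) := Nat.card_pos
  have hswap : ∀ t : G, t • a = b → t • b = a → ZassB.Inv2 Ω t := by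
    have hne : Nonempty {t : G // ZassB.Inv2 Ω t ∧ t • a = b} := by
      rw [← not_isEmpty_iff]
      intro h
      rw [Nat.card_of_isEmpty] at hcount
      omega
    obtain ⟨s⟩ := hne
    have hinj : Function.Injective (fun t : {t : G // ZassB.Inv2 Ω t ∧ t • a = b} => (⟨s.1⁻¹ * t.1, by
        constructor
        · change (s.1⁻¹ * t.1) • a = a
          rw [mul_smul, t.2.2, inv_smul_eq_iff, s.2.2]
        · change (s.1⁻¹ * t.1) • b = b
          rw [mul_smul, ZassB.inv2_swap t.2.1 t.2.2, inv_smul_eq_iff, ZassB.inv2_swap s.2.1 s.2.2]⟩ :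
          ↥(MulAction.stabilizer G a ⊓ MulAction.stabilizer G b))) := by
      intro t t' h
      have := congrArg Subtype.val h
      exact Subtype.ext (mul_left_cancel this)
    haveI := Fintype.ofFinite {t : G // ZassB.Inv2 Ω t ∧ t • a = b}
    haveI := Fintype.ofFinite ↥(MulAction.stabilizer G a ⊓ MulAction.stabilizer G b)
    have hbij := (Fintype.bijective_iff_injective_and_card _).2 ⟨hinj, by
      rw [← Nat.card_eq_fintype_card, ← Nat.card_eq_fintype_card]; omega⟩
    intro t hta htb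
    obtain ⟨t', ht'⟩ := hbij.2 ⟨s.1⁻¹ * t, by
      constructor
      · change (s.1⁻¹ * t) • a = a
        rw [mul_smul, hta, inv_smul_eq_iff, s.2.2]
      · change (s.1⁻¹ * t) • b = b
        rw [mul_smul, htb, inv_smul_eq_iff, ZassB.inv2_swap s.2.1 s.2.2]⟩
    have h1 : s.1⁻¹ * t'.1 = s.1⁻¹ * t := congrArg Subtype.val ht'
    rw [← mul_left_cancel h1]
    exact t'.2.1
  obtain ⟨s, hsa, hsb⟩ := hZ.two hab hab.symm
  have hsI := hswap s hsa hsb
  have hsi : s⁻¹ = s := by rw [inv_eq_iff_mul_eq_one, hsI.1]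
  have hinvert : ∀ g : G, g • a = a → g • b = b → s * g * s⁻¹ = g⁻¹ := by
    intro g hga hgb
    have h1 := (hswap (s * g) (by rw [mul_smul, hga, hsa]) (by rw [mul_smul, hgb, hsb])).1
    rw [hsi, eq_inv_iff_mul_eq_one]
    rw [← h1]; group
  have hEc : ∀ g h : G, g • a = a → g • b = b → h • a = a → h • b = b → g * h = h * g := by
    intro g h hga hgb hha hhb
    have h1 := hinvert (g⁻¹ * h⁻¹) (by rw [mul_smul, show h⁻¹ • a = a by rw [inv_smul_eq_iff, hha], inv_smul_eq_iff, hga])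
      (by rw [mul_smul, show h⁻¹ • b = b by rw [inv_smul_eq_iff, hhb], inv_smul_eq_iff, hgb])
    have h2 : s * (g⁻¹ * h⁻¹) * s⁻¹ = (s * g * s⁻¹)⁻¹ * (s * h * s⁻¹)⁻¹ := by group
    rw [h2, hinvert g hga hgb, hinvert h hha hhb] at h1
    simpa using h1
  -- a fixed point of s
  obtain ⟨w, hw⟩ : ∃ w : Ω, s • w = w := by
    obtain ⟨-, -, x, -, -, hx, -⟩ := hsI
    exact ⟨x, hx⟩
  have hwa : w ≠ a := by
    rintro rfl
    exact hab (hw.symm.trans hsa)
  have hwb : w ≠ b := by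
    rintro rfl
    exact hab (hsb.symm.trans hw)
  obtain ⟨K, hK⟩ := exists_ker hZ hab
  obtain ⟨F, hF, hFf, β, D, hC, hβa, hβb, hβw, hDc, hFc⟩ := ZassG.coords hZ hab hwa hwb hK
    (hK.comm_of_even hZ hab z.2.1 z.2.2 hz1 hz2) hEc (by omega)
  have h2F : 1 < Fintype.card F := Fintype.one_lt_card
  have hDF : 2 * Nat.card D + 1 = Fintype.card F := by omega
  have hmem := mem_iff_isSquare hDF
  have hchar := ringChar_ne hDF
  have hs1 : s • β ∞ = β ((0 : F) : OnePoint F) := by rw [hβa, hβb, hsa]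
  have hs0 : s • β ((0 : F) : OnePoint F) = β ∞ := by rw [hβa, hβb, hsb]
  obtain ⟨σ, hσ⟩ := sigma hs1 hs0
  have hσ1 : σ 1 = 1 := by
    have := (hσ 1 one_ne_zero).2
    rw [hβw, hw, ← hβw] at this
    exact (OnePoint.coe_injective (β.injective this)).symm
  have hsq : ∀ δ x : F, IsSquare δ → δ ≠ 0 → x ≠ 0 → σ (δ * x) = δ⁻¹ * σ x := by
    intro δ x hδ hδ0 hx
    obtain ⟨r, hr⟩ := hδ
    have hr0 : r ≠ 0 := by rintro rfl; rw [mul_zero] at hr; exact hδ0 hr
    obtain ⟨g, hg1, hg2⟩ := hC.mult (Units.mk0 r hr0 * Units.mk0 r hr0) ((hmem _).2 ⟨_, rfl⟩)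
    refine sigma_mul hσ hδ0 (g := g) (fun x => ?_) ?_ hx
    · rw [hg2, hr]; rfl
    · apply hinvert
      · rw [← hβa]; exact hg1
      · rw [← hβb, hg2, mul_zero]
  have hm1 : IsSquare (-1 : F) := by
    have h3 : Even (Nat.card D) := by rw [hDc]; exact heven
    have h4 : (-1 : Fˣ) ∈ D := by
      rw [hmem, FiniteField.unit_isSquare_iff hchar]
      have : Fintype.card F / 2 = Nat.card D := by omega
      rw [this]
      exact h3.neg_one_pow
    obtain ⟨r, hr⟩ := (hmem _).1 h4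
    exact ⟨r, by rw [← Units.val_mul, ← hr]; rfl⟩
  have hfin := sigma_eq_inv hchar hC hs1 hs0 hσ hσ1 hsq hm1
  refine ⟨F, hF, hFf, hchar, hFc, ?_⟩
  refine recPSL hC hmem (c := 1) one_ne_zero hm1 hs1 hs0 (fun x hx => ?_)
  rw [(hσ x hx).2, hfin x hx, one_div]

end Cfsg.Agent.H9.ZassH
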