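import Mathlib
import Cfsg.Agent.H9_ZassH
import Cfsg.Agent.H9_Zass

/-!
# Sharply triply transitive groups
-/

set_option autoImplicit false

namespace Cfsg.Agent.H9.ZassI

open OnePoint Cfsg.Agent.H9.ZassA Cfsg.Agent.H9.ZassC Cfsg.Agent.H9.ZassRec Cfsg.Agent.H9.ZassH

section

variable {G Ω : Type*} [Group G] [MulAction G Ω]

/-- embedding `Fin 3 ↪ Ω` from three distinct points -/
def emb3 {a b c : Ω} (hab : a ≠ b) (hac : a ≠ c) (hbc : b ≠ c) : Fin 3 ↪ Ω :=
  ⟨![a, b, c], by
    intro i j hij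
    fin_cases i <;> fin_cases j <;>
      first
        | rfl
        | exact absurd hij hab
        | exact absurd hij.symm hab
        | exact absurd hij hac
        | exact absurd hij.symm hac
        | exact absurd hij hbc
        | exact absurd hij.symm hbc⟩

theorem three_trans (h3 : MulAction.IsMultiplyPretransitive G Ω 3) {a b c a' b' c' : Ω} (hab : a ≠ b) (hac : a ≠ c)
    (hbc : b ≠ c) (hab' : a' ≠ b') (hac' : a' ≠ c') (hbc' : b' ≠ c') : ∃ g : G, g • a = a' ∧ g • b = b' ∧ g • c = c' := by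
  obtain ⟨g, hg⟩ := h3.exists_smul_eq (emb3 hab hac hbc) (emb3 hab' hac' hbc')
  refine ⟨g, ?_, ?_, ?_⟩
  · exact DFunLike.congr_fun hg 0
  · exact DFunLike.congr_fun hg 1
  · exact DFunLike.congr_fun hg 2

theorem sharp_three (hs : ∀ x : Fin 3 ↪ Ω, MulAction.stabilizer G x = ⊥) (g : G) (a b c : Ω) (hab : a ≠ b) (hbc : b ≠ c)
    (hac : a ≠ c) (ha : g • a = a) (hb : g • b = b) (hc : g • c = c) : g = 1 := by
  have : g ∈ MulAction.stabilizer G (emb3 hab hac hbc) := by
    rw [MulAction.mem_stabilizer_iff]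
    ext i
    change g • (emb3 hab hac hbc) i = (emb3 hab hac hbc) i
    fin_cases i
    · exact ha
    · exact hb
    · exact hc
  rwa [hs, Subgroup.mem_bot] at this

/-- sharply triply transitive -/
structure S3 (G Ω : Type*) [Group G] [MulAction G Ω] : Prop where
  trans : ∀ {a b c a' b' c' : Ω}, a ≠ b → a ≠ c → b ≠ c → a' ≠ b' → a' ≠ c' → b' ≠ c' →
    ∃ g : G, g • a = a' ∧ g • b = b' ∧ g • c = c'
  sharp : ∀ g : G, ∀ a b c : Ω, a ≠ b → b ≠ c → a ≠ c → g • a = a → g • b = b → g • c = c → g = 1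

theorem S3.zg [Fintype Ω] (h : S3 G Ω) (hc : 3 ≤ Fintype.card Ω) : ZG G Ω := by
  classical
  have hex : ∀ a b : Ω, ∃ c : Ω, c ≠ a ∧ c ≠ b := by
    intro a b
    by_contra hcon
    push Not at hcon
    have : Fintype.card Ω ≤ ({a, b} : Finset Ω).card := by
      rw [← Finset.card_univ]
      apply Finset.card_le_card
      intro c _
      rw [Finset.mem_insert, Finset.mem_singleton]
      by_cases hca : c = a
      · exact Or.inl hca
      · exact Or.inr (hcon c hca)
    have h2 := Finset.card_le_two (a := a) (b := b)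
    omega
  refine ⟨?_, ?_, h.sharp⟩
  · intro g hg
    have : 1 < Fintype.card Ω := by omega
    obtain ⟨a, b, hab⟩ := Fintype.exists_pair_of_one_lt_card this
    obtain ⟨c, hca, hcb⟩ := hex a b
    exact h.sharp g a b c hab hcb.symm hca.symm (hg a) (hg b) (hg c)
  · intro a b c d hab hcd
    obtain ⟨e, he1, he2⟩ := hex a b
    obtain ⟨f, hf1, hf2⟩ := hex c d
    obtain ⟨g, h1, h2, -⟩ := h.trans hab he1.symm he2.symm hcd hf1.symm hf2.symm
    exact ⟨g, h1, h2⟩

theorem S3.card_E [Fintype Ω] (h : S3 G Ω) (hc : 3 ≤ Fintype.card Ω) {a b : Ω} (hab : a ≠ b) :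
    Nat.card ↥(MulAction.stabilizer G a ⊓ MulAction.stabilizer G b) + 2 = Fintype.card Ω := by
  classical
  obtain ⟨w, hw⟩ : ∃ w : Ω, w ∉ ({a, b} : Finset Ω) := by
    by_contra hcon
    push Not at hcon
    have h1 : Fintype.card Ω ≤ ({a, b} : Finset Ω).card := by
      rw [← Finset.card_univ]
      exact Finset.card_le_card (fun c _ => hcon c)
    have h2 := Finset.card_le_two (a := a) (b := b)
    omega
  rw [Finset.mem_insert, Finset.mem_singleton, not_or] at hw
  have e : ↥(MulAction.stabilizer G a ⊓ MulAction.stabilizer G b) ≃ {y : Ω // y ∉ ({a, b} : Finset Ω)} := by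
    refine Equiv.ofBijective (fun k => ⟨(k : G) • w, ?_⟩) ⟨?_, ?_⟩
    · rw [Finset.mem_insert, Finset.mem_singleton, not_or]
      constructor
      · intro h
        have h1 : (k : G) • a = a := k.2.1
        exact hw.1 (MulAction.injective (k : G) (h.trans h1.symm))
      · intro h
        have h1 : (k : G) • b = b := k.2.2
        exact hw.2 (MulAction.injective (k : G) (h.trans h1.symm))
    · intro k l hkl
      have h1 : (k : G) • w = (l : G) • w := congrArg Subtype.val hkl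
      have h2 := h.sharp ((l : G)⁻¹ * k) a b w hab (Ne.symm hw.2) (Ne.symm hw.1)
        (by rw [mul_smul, show (k : G) • a = a from k.2.1, inv_smul_eq_iff]; exact l.2.1.symm)
        (by rw [mul_smul, show (k : G) • b = b from k.2.2, inv_smul_eq_iff]; exact l.2.2.symm)
        (by rw [mul_smul, h1, inv_smul_smul])
      exact Subtype.ext (inv_mul_eq_one.1 h2).symm
    · rintro ⟨y, hy⟩
      rw [Finset.mem_insert, Finset.mem_singleton, not_or] at hy
      obtain ⟨g, h1, h2, h3⟩ := h.trans hab (Ne.symm hw.1) (Ne.symm hw.2) hab (Ne.symm hy.1) (Ne.symm hy.2)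
      exact ⟨⟨g, h1, h2⟩, Subtype.ext h3⟩
  rw [Nat.card_congr e, Nat.card_eq_fintype_card, Fintype.card_subtype_compl]
  have h5 : Fintype.card {x // x ∈ ({a, b} : Finset Ω)} = 2 := by
    rw [Fintype.card_coe, Finset.card_pair hab]
  rw [h5]
  omega

theorem pgl_of_inverts [Finite G] [Fintype Ω] (hZ : ZG G Ω) {a b w : Ω} (hab : a ≠ b) (hwa : w ≠ a) (hwb : w ≠ b)
    (hcard : Nat.card ↥(MulAction.stabilizer G a ⊓ MulAction.stabilizer G b) + 2 = Fintype.card Ω) {s : G}
    (hsa : s • a = b) (hsb : s • b = a) (hsw : s • w = w)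
    (hinv : ∀ g : G, g • a = a → g • b = b → s * g * s⁻¹ = g⁻¹) :
    ∃ (F : Type) (_ : Field F) (_ : Fintype F), Fintype.card F + 1 = Fintype.card Ω ∧
      Nonempty (G ≃* Matrix.ProjGenLinGroup (Fin 2) F) := by
  classical
  have hEc : ∀ g h : G, g • a = a → g • b = b → h • a = a → h • b = b → g * h = h * g := by
    intro g h hga hgb hha hhb
    have h1 := hinv (g⁻¹ * h⁻¹) (by rw [mul_smul, show h⁻¹ • a = a by rw [inv_smul_eq_iff, hha], inv_smul_eq_iff, hga])
      (by rw [mul_smul, show h⁻¹ • b = b by rw [inv_smul_eq_iff, hhb], inv_smul_eq_iff, hgb])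
    have h2 : s * (g⁻¹ * h⁻¹) * s⁻¹ = (s * g * s⁻¹)⁻¹ * (s * h * s⁻¹)⁻¹ := by group
    rw [h2, hinv g hga hgb, hinv h hha hhb] at h1
    simpa using h1
  obtain ⟨K, hK⟩ := exists_ker hZ hab
  have h3 : 3 ≤ Fintype.card Ω := by
    have : ({a, b, w} : Finset Ω).card = 3 := Finset.card_eq_three.mpr ⟨a, b, w, hab, hwa.symm, hwb.symm, rfl⟩
    have h4 := Finset.card_le_univ ({a, b, w} : Finset Ω)
    omega
  obtain ⟨-, -, -, -, hKc, -⟩ := (ZassC.Ker.toBig hZ hab hK (by omega) h3).elementary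
  obtain ⟨F, hF, hFf, β, D, hC, hβa, hβb, hβw, hDc, hFc⟩ := ZassG.coords hZ hab hwa hwb hK hKc hEc (by omega)
  have hDtop : D = ⊤ := by
    apply Subgroup.eq_top_of_card_eq
    rw [Nat.card_eq_fintype_card (α := Fˣ), Fintype.card_units]
    omega
  have hs1 : s • β ∞ = β ((0 : F) : OnePoint F) := by rw [hβa, hβb, hsa]
  have hs0 : s • β ((0 : F) : OnePoint F) = β ∞ := by rw [hβa, hβb, hsb]
  obtain ⟨σ, hσ⟩ := sigma hs1 hs0
  have hσ1 : σ 1 = 1 := by
    have := (hσ 1 one_ne_zero).2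
    rw [hβw, hsw, ← hβw] at this
    exact (OnePoint.coe_injective (β.injective this)).symm
  have hσinv : ∀ x, x ≠ 0 → σ x = x⁻¹ := by
    intro x hx
    obtain ⟨g, hg1, hg2⟩ := hC.mult (Units.mk0 x hx) (by rw [hDtop]; trivial)
    have := sigma_mul hσ hx (g := g) hg2 (by
      apply hinv
      · rw [← hβa]; exact hg1
      · rw [← hβb, hg2, mul_zero]) (x := 1) one_ne_zero
    rwa [mul_one, hσ1, mul_one] at this
  refine ⟨F, hF, hFf, hFc, ?_⟩
  subst hDtop
  refine recPGL hC (c := 1) one_ne_zero hs1 hs0 (fun x hx => ?_)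
  rw [(hσ x hx).2, hσinv x hx, one_div]

/-- sharply triply transitive groups of odd degree -/
theorem pgl_two [Finite G] [Fintype Ω] (h : S3 G Ω) (hc : 3 ≤ Fintype.card Ω) (hodd : Odd (Fintype.card Ω)) :
    ∃ (F : Type) (_ : Field F) (_ : Fintype F), Fintype.card F + 1 = Fintype.card Ω ∧
      Nonempty (G ≃* Matrix.ProjGenLinGroup (Fin 2) F) := by
  classical
  obtain ⟨a, b, hab⟩ := Fintype.exists_pair_of_one_lt_card (α := Ω) (by omega)
  obtain ⟨w, hw⟩ : ∃ w : Ω, w ∉ ({a, b} : Finset Ω) := by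
    by_contra hcon
    push Not at hcon
    have h1 : Fintype.card Ω ≤ ({a, b} : Finset Ω).card := by
      rw [← Finset.card_univ]
      exact Finset.card_le_card (fun c _ => hcon c)
    have h2 := Finset.card_le_two (a := a) (b := b)
    omega
  rw [Finset.mem_insert, Finset.mem_singleton, not_or] at hw
  obtain ⟨s, hsa, hsb, hsw⟩ := h.trans hab (Ne.symm hw.1) (Ne.symm hw.2) hab.symm (Ne.symm hw.2) (Ne.symm hw.1)
  have hs2 : s * s = 1 := by
    apply h.sharp (s * s) a b w hab (Ne.symm hw.2) (Ne.symm hw.1)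
    · rw [mul_smul, hsa, hsb]
    · rw [mul_smul, hsb, hsa]
    · rw [mul_smul, hsw, hsw]
  have hs1 : s ≠ 1 := by
    rintro rfl
    rw [one_smul] at hsa
    exact hab hsa
  -- exactly one fixed point
  have hfix : ∀ y : Ω, s • y = y → y = w := by
    have h1 := Zass.card_fixedBy_mod (Ω := Ω) (s := s) (by rw [pow_two, hs2])
    have h2 := Zass.card_fixedBy_le (Ω := Ω) h.sharp hs1
    have h3 : Nat.card (MulAction.fixedBy Ω s) = 1 := by
      have h4 : Nat.card (MulAction.fixedBy Ω s) % 2 = 1 := by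
        rw [← h1]; exact Nat.odd_iff.1 hodd
      omega
    intro y hy
    rw [Nat.card_coe_set_eq, Set.ncard_eq_one] at h3
    obtain ⟨v, hv⟩ := h3
    have h4 : y ∈ MulAction.fixedBy Ω s := hy
    have h5 : w ∈ MulAction.fixedBy Ω s := hsw
    rw [hv, Set.mem_singleton_iff] at h4 h5
    rw [h4, h5]
  have hE := h.card_E hc hab
  apply pgl_of_inverts (h.zg hc) hab hw.1 hw.2 hE hsa hsb hsw
  have hconj : ∀ g : G, g • a = a → g • b = b → (s * g * s⁻¹) • a = a ∧ (s * g * s⁻¹) • b = b := by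
    intro g hga hgb
    have e1 : s⁻¹ • a = b := by rw [inv_smul_eq_iff, hsb]
    have e2 : s⁻¹ • b = a := by rw [inv_smul_eq_iff, hsa]
    constructor
    · rw [mul_smul, mul_smul, e1, hgb, hsb]
    · rw [mul_smul, mul_smul, e2, hga, hsa]
  have key := inv_of_fpf (K := MulAction.stabilizer G a ⊓ MulAction.stabilizer G b) hs2
    (fun k hk => hconj k hk.1 hk.2) (by
      intro k hk hks
      have h1 : s • k • w = k • w := by
        rw [← mul_smul, mul_inv_eq_iff_eq_mul.mp hks, mul_smul, hsw]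
      have h2 := hfix _ h1
      exact h.sharp k a b w hab (Ne.symm hw.2) (Ne.symm hw.1) hk.1 hk.2 h2)
  exact fun g hga hgb => key g ⟨hga, hgb⟩

end

end Cfsg.Agent.H9.ZassI
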