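import Mathlib
import Cfsg.Agent.H9_ZassI
import Cfsg.Agent.H9_Frob

/-!
# Normal subgroups of Zassenhaus groups
-/

set_option autoImplicit false

open scoped Pointwise

namespace Cfsg.Agent.H9.ZassN

open Cfsg Cfsg.Agent.H9.ZassA Cfsg.Agent.H9.ZassC

variable {G Ω : Type*} [Group G] [MulAction G Ω]

theorem finite_of (hZ : IsZassenhausGroup G Ω) [Finite Ω] : Finite G := by
  haveI := hZ.1
  exact Finite.of_injective (MulAction.toPermHom G Ω) (MulAction.toPerm_injective)

/-- a nontrivial normal subgroup contains a nontrivial element fixing two points -/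
theorem exists_fix_two [Fintype Ω] (hZ : IsZassenhausGroup G Ω) (N : Subgroup G) [hNn : N.Normal] (hN : N ≠ ⊥) :
    ∃ x ∈ N, x ≠ 1 ∧ ∃ a b : Ω, a ≠ b ∧ x • a = a ∧ x • b = b := by
  classical
  haveI := hZ.1
  haveI := finite_of hZ
  have h3 := three_le hZ
  by_contra hcon
  push Not at hcon
  have hprim : MulAction.IsPreprimitive G Ω := MulAction.isPreprimitive_of_is_two_pretransitive hZ.2.1
  have hNt := NormalMT.transitive_of_primitive hprim N hN
  obtain ⟨K, hKn, -, -, hKt, hKr⟩ := Frob.frob_kernel hZ.2.1 (by omega) N hNt (by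
    intro x hx a b hab ha hb
    by_contra hx1
    exact hcon x hx hx1 a b hab ha hb)
  obtain ⟨a, ha⟩ := hZ.2.2.2.2 K hKn hKt
  exact ha (hKr a)

theorem ker_le_aux [Finite G] (hZ : ZG G Ω) (N : Subgroup G) [hNn : N.Normal] {x : G} (hx : x ∈ N) (hx1 : x ≠ 1) {a b : Ω}
    (hab : a ≠ b) (hxa : x • a = a) (hxb : x • b = b) {K : Subgroup G} (hK : Ker K a) : K ≤ N := by
  intro k hk
  let φ : K → K := fun l => ⟨(x * l * x⁻¹) * (l : G)⁻¹, K.mul_mem (hK.nrm x hxa l l.2) (K.inv_mem l.2)⟩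
  have hφ : Function.Injective φ := by
    intro u v huv
    have h1 : (x * u * x⁻¹) * (u : G)⁻¹ = (x * v * x⁻¹) * (v : G)⁻¹ := congrArg Subtype.val huv
    have h2 := hK.fpf hZ hab hxa hxb hx1 (k := (v : G)⁻¹ * u) (K.mul_mem (K.inv_mem v.2) u.2) (by
      calc x * ((v : G)⁻¹ * u) * x⁻¹ = (x * v * x⁻¹)⁻¹ * ((x * u * x⁻¹) * (u : G)⁻¹) * u := by group
        _ = (x * v * x⁻¹)⁻¹ * ((x * v * x⁻¹) * (v : G)⁻¹) * u := by rw [h1]
        _ = (v : G)⁻¹ * u := by group)
    exact Subtype.ext (inv_mul_eq_one.1 h2).symm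
  obtain ⟨l, hl⟩ := (Finite.injective_iff_surjective.mp hφ) ⟨k, hk⟩
  have h1 : (x * l * x⁻¹) * (l : G)⁻¹ = k := congrArg Subtype.val hl
  rw [← h1]
  have h2 : x * l * x⁻¹ * (l : G)⁻¹ = x * (l * x⁻¹ * (l : G)⁻¹) := by group
  rw [h2]
  exact N.mul_mem hx (hNn.conj_mem _ (N.inv_mem hx) _)

theorem Ker.conj {K : Subgroup G} {a : Ω} (hK : Ker K a) (g : G) :
    Ker (K.map (MulAut.conj g).toMonoidHom) (g • a) := by
  refine ⟨?_, ?_, ?_, ?_⟩
  · rintro _ ⟨k, hk, rfl⟩
    change (g * k * g⁻¹) • g • a = g • a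
    rw [mul_smul, mul_smul, inv_smul_smul, hK.le k hk]
  · rintro h hh _ ⟨k, hk, rfl⟩
    refine ⟨(g⁻¹ * h * g) * k * (g⁻¹ * h * g)⁻¹, hK.nrm _ ?_ k hk, ?_⟩
    · rw [mul_smul, mul_smul, hh, inv_smul_smul]
    · change g * ((g⁻¹ * h * g) * k * (g⁻¹ * h * g)⁻¹) * g⁻¹ = h * (g * k * g⁻¹) * h⁻¹
      group
  · intro y z hy hz
    obtain ⟨k, hk, hkz⟩ := hK.reg (g⁻¹ • y) (g⁻¹ • z) (fun h => hy (by rw [← h, smul_inv_smul]))
      (fun h => hz (by rw [← h, smul_inv_smul]))
    refine ⟨g * k * g⁻¹, ⟨k, hk, rfl⟩, ?_⟩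
    rw [mul_smul, mul_smul, hkz, smul_inv_smul]
  · rintro _ ⟨k, hk, rfl⟩ y hy hky
    have h1 : k • g⁻¹ • y = g⁻¹ • y := by
      rw [eq_inv_smul_iff, ← mul_smul, ← mul_smul]
      exact hky
    have h2 := hK.free k hk (g⁻¹ • y) (fun h => hy (by rw [← h, smul_inv_smul])) h1
    rw [h2]
    change g * 1 * g⁻¹ = 1
    group

/-- a nontrivial normal subgroup contains all kernels -/
theorem ker_le [Fintype Ω] (hZ : IsZassenhausGroup G Ω) (N : Subgroup G) [hNn : N.Normal] (hN : N ≠ ⊥) {c : Ω}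
    {K : Subgroup G} (hK : Ker K c) : K ≤ N := by
  haveI := finite_of hZ
  obtain ⟨x, hx, hx1, a, b, hab, hxa, hxb⟩ := exists_fix_two hZ N hN
  have hZG := ZG.of_zass hZ
  obtain ⟨g, hg⟩ : ∃ g : G, g • a = c := by
    by_cases hac : c = b
    · obtain ⟨g, hg, -⟩ := hZG.two hab hab.symm
      exact ⟨g, by rw [hg, hac]⟩
    · obtain ⟨g, hg, -⟩ := hZG.two hab hac
      exact ⟨g, hg⟩
  subst hg
  apply ker_le_aux hZG N (x := g * x * g⁻¹) (hNn.conj_mem x hx g) _ (a := g • a) (b := g • b) _ _ _ hK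
  · intro h
    apply hx1
    calc x = g⁻¹ * (g * x * g⁻¹) * g := by group
      _ = 1 := by rw [h]; group
  · exact fun h => hab (MulAction.injective g h)
  · rw [mul_smul, mul_smul, inv_smul_smul, hxa]
  · rw [mul_smul, mul_smul, inv_smul_smul, hxb]

theorem normal_two [Fintype Ω] (hZ : IsZassenhausGroup G Ω) (N : Subgroup G) [hNn : N.Normal] (hN : N ≠ ⊥) :
    MulAction.IsMultiplyPretransitive N Ω 2 := by
  classical
  haveI := hZ.1
  haveI := finite_of hZ
  have hZG := ZG.of_zass hZ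
  have hprim : MulAction.IsPreprimitive G Ω := MulAction.isPreprimitive_of_is_two_pretransitive hZ.2.1
  have hNt := NormalMT.transitive_of_primitive hprim N hN
  rw [MulAction.is_two_pretransitive_iff]
  intro p q r s hpq hrs
  obtain ⟨K, hK⟩ := exists_ker hZG hpq
  have hKN := ker_le hZ N hN hK
  obtain ⟨n, hn⟩ := hNt.exists_smul_eq r p
  have hnp : (n : G) • r = p := hn
  have hns : (n : G) • s ≠ p := by
    intro h
    exact hrs (MulAction.injective (n : G) (hnp.trans h.symm))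
  obtain ⟨k, hk, hkq⟩ := hK.reg q ((n : G) • s) hpq.symm hns
  refine ⟨n⁻¹ * ⟨k, hKN hk⟩, ?_, ?_⟩
  · change ((n : G)⁻¹ * k) • p = r
    rw [mul_smul, hK.le k hk, inv_smul_eq_iff, hnp]
  · change ((n : G)⁻¹ * k) • q = s
    rw [mul_smul, hkq, inv_smul_smul]

/-- an abelian regular group is its own centraliser -/
theorem centralizer_regular [FaithfulSMul G Ω] (M : Subgroup G) (hMt : MulAction.IsPretransitive M Ω)
    (hMc : IsMulCommutative M) {a : Ω} {c : G} (hc : ∀ m ∈ M, c * m = m * c) : c ∈ M := by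
  obtain ⟨m, hm⟩ := hMt.exists_smul_eq a (c • a)
  have hm' : (m : G) • a = c • a := hm
  have : c = m := by
    apply FaithfulSMul.eq_of_smul_eq_smul (α := Ω)
    intro x
    obtain ⟨l, hl⟩ := hMt.exists_smul_eq a x
    have hl' : (l : G) • a = x := hl
    rw [← hl', ← mul_smul, hc l l.2, mul_smul, ← hm', ← mul_smul, ← mul_smul]
    congr 1
    exact congrArg Subtype.val (hMc.is_comm.comm l m)
  rw [this]
  exact m.2

theorem regular_unique [Fintype Ω] [Finite G] [FaithfulSMul G Ω] (h2 : MulAction.IsMultiplyPretransitive G Ω 2)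
    (hn : 2 ≤ Fintype.card Ω) (M M' : Subgroup G) [hMn : M.Normal] [hMn' : M'.Normal]
    (hMt : MulAction.IsPretransitive M Ω) (hMr : ∀ a : Ω, MulAction.stabilizer M a = ⊥)
    (hMt' : MulAction.IsPretransitive M' Ω) (hMr' : ∀ a : Ω, MulAction.stabilizer M' a = ⊥) : M = M' := by
  classical
  obtain ⟨p, j, hp, hj, hc, hcM, hMc, -⟩ := Frob.regular_normal_elementary h2 hn M hMt hMr
  obtain ⟨p', j', hp', hj', hc', hcM', hMc', -⟩ := Frob.regular_normal_elementary h2 hn M' hMt' hMr'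
  have hcard : Nat.card M = Nat.card M' := by rw [hcM, hcM', ← hc, ← hc']
  obtain ⟨a⟩ : Nonempty Ω := Fintype.card_pos_iff.1 (by omega)
  by_cases hint : M ⊓ M' = ⊥
  · have hle : M' ≤ M := by
      intro c hcM'
      apply centralizer_regular M hMt hMc (a := a)
      intro m hm
      have h1 : c * m * c⁻¹ * m⁻¹ ∈ M ⊓ M' := by
        constructor
        · exact M.mul_mem (hMn.conj_mem m hm c) (M.inv_mem hm)
        · have : c * m * c⁻¹ * m⁻¹ = c * (m * c⁻¹ * m⁻¹) := by group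
          rw [this]
          exact M'.mul_mem hcM' (hMn'.conj_mem _ (M'.inv_mem hcM') m)
      rw [hint, Subgroup.mem_bot] at h1
      exact mul_inv_eq_iff_eq_mul.1 (mul_inv_eq_one.1 h1)
    exact (Subgroup.eq_of_le_of_card_ge hle hcard.le).symm
  · rw [Subgroup.eq_bot_iff_forall] at hint
    push Not at hint
    obtain ⟨m, ⟨hm, hm'⟩, hm1⟩ := hint
    have hle : M ≤ M' := by
      intro l hl
      by_cases hl1 : l = 1
      · rw [hl1]; exact M'.one_mem
      have hne : ∀ u ∈ M, u ≠ 1 → a ≠ u • a := by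
        intro u hu hu1 h
        apply hu1
        have h3 : (⟨u, hu⟩ : M) ∈ MulAction.stabilizer M a := h.symm
        rw [hMr a, Subgroup.mem_bot] at h3
        exact congrArg Subtype.val h3
      obtain ⟨g, hg1, hg2⟩ := (MulAction.is_two_pretransitive_iff.mp h2) (hne m hm hm1) (hne l hl hl1)
      have h4 : g * m * g⁻¹ ∈ M := hMn.conj_mem m hm g
      have h5 : (g * m * g⁻¹) • a = l • a := by
        rw [mul_smul, mul_smul, show g⁻¹ • a = a by rw [inv_smul_eq_iff, hg1], hg2]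
      have h6 : (⟨l, hl⟩ : M)⁻¹ * ⟨g * m * g⁻¹, h4⟩ ∈ MulAction.stabilizer M a := by
        rw [MulAction.mem_stabilizer_iff, mul_smul, inv_smul_eq_iff]
        exact h5
      rw [hMr a, Subgroup.mem_bot, inv_mul_eq_one] at h6
      have h7 : l = g * m * g⁻¹ := congrArg Subtype.val h6
      rw [h7]
      exact hMn'.conj_mem m hm' g
    exact Subgroup.eq_of_le_of_card_ge hle hcard.ge

theorem normal_zass [Finite Ω] (hZ : IsZassenhausGroup G Ω) (N : Subgroup G) [hNn : N.Normal] (hN : N ≠ ⊥) :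
    IsZassenhausGroup N Ω := by
  classical
  haveI : Fintype Ω := Fintype.ofFinite Ω
  haveI := finite_of hZ
  haveI := hZ.1
  have h3 := three_le hZ
  have hN2 := normal_two hZ N hN
  haveI hNf : FaithfulSMul N Ω := ⟨fun {m n} h => Subtype.ext (FaithfulSMul.eq_of_smul_eq_smul (α := Ω) (fun x => h x))⟩
  refine ⟨hNf, hN2, ?_, ?_, ?_⟩
  · intro g a b c hab hbc hac ha hb hc
    exact Subtype.ext (hZ.2.2.1 g a b c hab hbc hac ha hb hc)
  · obtain ⟨x, hx, hx1, a, b, hab, ha, hb⟩ := exists_fix_two hZ N hN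
    exact ⟨⟨x, hx⟩, fun h => hx1 (congrArg Subtype.val h), a, b, hab, ha, hb⟩
  · intro M hMn hMt
    by_contra hcon
    push Not at hcon
    -- `M` as a subgroup of `G`
    have hnorm : (M.map N.subtype).Normal := by
      constructor
      rintro _ ⟨m, hm, rfl⟩ g
      -- the conjugate of M
      let f : N ≃* N := MulAut.conjNormal g
      have hMf : M.map f.toMonoidHom = M := by
        haveI hMfn : (M.map f.toMonoidHom).Normal := hMn.map f.toMonoidHom f.surjective
        symm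
        apply regular_unique hN2 (by omega) M (M.map f.toMonoidHom) hMt hcon
        · constructor
          intro x y
          obtain ⟨m, hm⟩ := hMt.exists_smul_eq (g⁻¹ • x) (g⁻¹ • y)
          refine ⟨⟨f m, m, m.2, rfl⟩, ?_⟩
          change (g * ((m : N) : G) * g⁻¹) • x = y
          have hm' : ((m : N) : G) • g⁻¹ • x = g⁻¹ • y := hm
          rw [mul_smul, mul_smul, hm', smul_inv_smul]
        · intro a
          rw [Subgroup.eq_bot_iff_forall]
          rintro ⟨_, m, hm, rfl⟩ hs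
          have hs' : (g * (m : G) * g⁻¹) • a = a := hs
          have h5 : (⟨m, hm⟩ : M) ∈ MulAction.stabilizer M (g⁻¹ • a) := by
            change (m : G) • g⁻¹ • a = g⁻¹ • a
            rw [eq_inv_smul_iff, ← mul_smul, ← mul_smul]
            exact hs'
          rw [hcon, Subgroup.mem_bot] at h5
          apply Subtype.ext
          change f m = 1
          have h6 : m = 1 := congrArg Subtype.val h5
          rw [h6, map_one]
      have : f m ∈ M := by rw [← hMf]; exact ⟨m, hm, rfl⟩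
      exact ⟨f m, this, rfl⟩
    obtain ⟨a, ha⟩ := hZ.2.2.2.2 (M.map N.subtype) hnorm ⟨fun x y => by
      obtain ⟨m, hm⟩ := hMt.exists_smul_eq x y
      exact ⟨⟨m, m, m.2, rfl⟩, hm⟩⟩
    apply ha
    rw [Subgroup.eq_bot_iff_forall]
    rintro ⟨_, m, hm, rfl⟩ hs
    have h5 : (⟨m, hm⟩ : M) ∈ MulAction.stabilizer M a := hs
    rw [hcon, Subgroup.mem_bot] at h5
    have h6 : m = 1 := congrArg Subtype.val h5
    apply Subtype.ext
    change (m : G) = 1
    rw [h6]; rfl

/-- a Zassenhaus group has a simple normal Zassenhaus subgroup -/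
theorem exists_simple [Finite Ω] (hZ : IsZassenhausGroup G Ω) :
    ∃ N : Subgroup G, N.Normal ∧ N ≠ ⊥ ∧ IsSimpleGroup N ∧ IsZassenhausGroup N Ω := by
  classical
  haveI : Fintype Ω := Fintype.ofFinite Ω
  haveI := finite_of hZ
  have hne : (⊤ : Subgroup G) ≠ ⊥ := by
    obtain ⟨g, hg, -⟩ := hZ.2.2.2.1
    intro h
    apply hg
    have : g ∈ (⊤ : Subgroup G) := trivial
    rwa [h, Subgroup.mem_bot] at this
  obtain ⟨N, hN⟩ := Set.Finite.exists_minimal (Set.toFinite {N : Subgroup G | N.Normal ∧ N ≠ ⊥})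
    ⟨⊤, inferInstance, hne⟩
  obtain ⟨⟨hNn, hNb⟩, hmin⟩ := hN
  have hNZ := normal_zass hZ N hNb
  refine ⟨N, hNn, hNb, ?_, hNZ⟩
  haveI : Nontrivial N := (Subgroup.nontrivial_iff_ne_bot N).2 hNb
  constructor
  intro M hMn
  by_cases hM : M = ⊥
  · exact Or.inl hM
  right
  -- intersection of the conjugates
  let X : Subgroup G := ⨅ g : G, (M.map (MulAut.conjNormal g : N ≃* N).toMonoidHom).map N.subtype
  have hXmem : ∀ x : G, x ∈ X ↔ ∀ g : G, ∃ m ∈ M, g * (m : G) * g⁻¹ = x := by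
    intro x
    rw [Subgroup.mem_iInf]
    constructor
    · intro h g
      obtain ⟨_, ⟨m, hm, rfl⟩, rfl⟩ := h g
      exact ⟨m, hm, rfl⟩
    · intro h g
      obtain ⟨m, hm, rfl⟩ := h g
      exact ⟨_, ⟨m, hm, rfl⟩, rfl⟩
  have hXn : X.Normal := by
    constructor
    intro x hx h
    rw [hXmem] at hx ⊢
    intro g
    obtain ⟨m, hm, hmx⟩ := hx (h⁻¹ * g)
    refine ⟨m, hm, ?_⟩
    rw [← hmx]; group
  have hXN : X ≤ N := by
    intro x hx
    obtain ⟨m, hm, hmx⟩ := (hXmem x).1 hx 1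
    rw [← hmx]
    simp
  have hXb : X ≠ ⊥ := by
    obtain ⟨x, hx, hx1, a, b, hab, hxa, hxb⟩ := exists_fix_two hZ N hNb
    obtain ⟨K, hK⟩ := exists_ker (ZG.of_zass hNZ) hab
    obtain ⟨c, hca, hcb⟩ := H3.Zass.exists_third hZ hab
    obtain ⟨k, hk, hkb⟩ := hK.reg b c hab.symm hca
    intro hbot
    have hkX : (k : G) ∈ X := by
      rw [hXmem]
      intro g
      haveI : (M.map (MulAut.conjNormal g : N ≃* N).toMonoidHom).Normal :=
        hMn.map _ (MulAut.conjNormal g : N ≃* N).surjective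
      have h5 := ker_le hNZ (M.map (MulAut.conjNormal g : N ≃* N).toMonoidHom) (by
        intro h
        apply hM
        exact (Subgroup.map_eq_bot_iff_of_injective (f := (MulAut.conjNormal g : N ≃* N).toMonoidHom) M
          (MulAut.conjNormal g : N ≃* N).injective).1 h) hK hk
      obtain ⟨m, hm, hmk⟩ := h5
      exact ⟨m, hm, congrArg Subtype.val hmk⟩
    rw [hbot, Subgroup.mem_bot] at hkX
    have h6 : k = 1 := Subtype.ext hkX
    rw [h6, one_smul] at hkb
    exact hcb hkb.symm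
  have hXeq : N ≤ X := hmin ⟨hXn, hXb⟩ hXN
  rw [eq_top_iff]
  rintro ⟨n, hn⟩ -
  obtain ⟨m, hm, hmn⟩ := (hXmem n).1 (hXeq hn) 1
  have : (⟨n, hn⟩ : N) = m := Subtype.ext (by simpa using hmn.symm)
  rw [this]
  exact hm

/-- from an element swapping `a,b` to an involution, when the two-point stabiliser has odd order -/
theorem exists_invol {N : Subgroup G} [Finite G] {a b : Ω} (hodd : Odd (Nat.card ↥(MulAction.stabilizer G a ⊓ MulAction.stabilizer G b)))
    {n : G} (hn : n ∈ N) (hna : n • a = b) (hnb : n • b = a) : ∃ s ∈ N, s * s = 1 ∧ s • a = b ∧ s • b = a := by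
  let m := Nat.card ↥(MulAction.stabilizer G a ⊓ MulAction.stabilizer G b)
  obtain ⟨k, hk⟩ := hodd
  have hn2 : n * n ∈ MulAction.stabilizer G a ⊓ MulAction.stabilizer G b :=
    ⟨by change (n * n) • a = a; rw [mul_smul, hna, hnb], by change (n * n) • b = b; rw [mul_smul, hnb, hna]⟩
  have hpow : ∀ j : ℕ, (n * n) ^ j ∈ MulAction.stabilizer G a ⊓ MulAction.stabilizer G b := fun j => Subgroup.pow_mem _ hn2 j
  have hnk : n ^ (2 * k + 1) = n * (n * n) ^ k := by
    rw [pow_succ', pow_mul, pow_two]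
  refine ⟨n ^ (2 * k + 1), N.pow_mem hn _, ?_, ?_, ?_⟩
  · have h1 : n ^ (2 * k + 1) * n ^ (2 * k + 1) = (n * n) ^ (2 * k + 1) := by
      rw [← pow_two, ← pow_mul, mul_comm, pow_mul, pow_two]
    rw [h1, ← hk]
    have := pow_card_eq_one' (x := (⟨n * n, hn2⟩ : ↥(MulAction.stabilizer G a ⊓ MulAction.stabilizer G b)))
    exact congrArg Subtype.val this
  · rw [hnk, mul_smul, show (n * n) ^ k • a = a from (hpow k).1, hna]
  · rw [hnk, mul_smul, show (n * n) ^ k • b = b from (hpow k).2, hnb]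

theorem odd_E_of_odd [Fintype Ω] [Finite G] (hZ : ZG G Ω) (hodd : Odd (Fintype.card Ω)) {a b : Ω} (hab : a ≠ b) :
    Odd (Nat.card ↥(MulAction.stabilizer G a ⊓ MulAction.stabilizer G b)) := by
  by_contra h
  rw [Nat.not_odd_iff_even] at h
  haveI : Fact (Nat.Prime 2) := ⟨Nat.prime_two⟩
  obtain ⟨z, hz⟩ := exists_prime_orderOf_dvd_card' (G := ↥(MulAction.stabilizer G a ⊓ MulAction.stabilizer G b)) 2
    h.two_dvd
  have h1 : (z : G) ≠ 1 := by
    intro h
    have : z = 1 := Subtype.ext h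
    rw [this, orderOf_one] at hz
    omega
  have h2 : (z : G) * z = 1 := by
    have := pow_orderOf_eq_one z
    rw [hz, pow_two] at this
    exact congrArg Subtype.val this
  have h3 := ZassB.two_mul_swaps hZ hab z.2.1 z.2.2 h1 h2
  have h4 : 1 < Fintype.card Ω := Fintype.one_lt_card_iff.2 ⟨a, b, hab⟩
  obtain ⟨k, hk⟩ := hodd
  omega

/-- if an involution of a normal subgroup swapping `a,b` inverts the two-point stabiliser (of odd order), then the
two-point stabiliser is in the normal subgroup -/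
theorem E_le [Finite G] {N : Subgroup G} [hNn : N.Normal] {a b : Ω}
    (hodd : Odd (Nat.card ↥(MulAction.stabilizer G a ⊓ MulAction.stabilizer G b))) {s : G} (hs : s ∈ N)
    (hinv : ∀ h : G, h • a = a → h • b = b → s * h * s⁻¹ = h⁻¹) :
    MulAction.stabilizer G a ⊓ MulAction.stabilizer G b ≤ N := by
  intro h hh
  have h1 : h * h ∈ N := by
    have h2 := hinv h⁻¹ (by rw [inv_smul_eq_iff]; exact hh.1.symm) (by rw [inv_smul_eq_iff]; exact hh.2.symm)
    rw [inv_inv] at h2
    have h3 : h * h = (h * s * h⁻¹) * s⁻¹ := by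
      calc h * h = h * (s * h⁻¹ * s⁻¹) := by rw [h2]
        _ = _ := by group
    rw [h3]
    exact N.mul_mem (hNn.conj_mem s hs h) (N.inv_mem hs)
  obtain ⟨k, hk⟩ := hodd
  have h4 : h ^ (2 * k + 1) = 1 := by
    rw [← hk]
    have := pow_card_eq_one' (x := (⟨h, hh⟩ : ↥(MulAction.stabilizer G a ⊓ MulAction.stabilizer G b)))
    exact congrArg Subtype.val this
  have h5 : h = ((h * h) ^ k)⁻¹ := by
    rw [eq_inv_iff_mul_eq_one, ← pow_two, ← pow_mul, ← pow_succ', h4]
  rw [h5]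
  exact N.inv_mem (N.pow_mem h1 k)

theorem eq_top_of_E_le [Fintype Ω] (hZ : IsZassenhausGroup G Ω) {N : Subgroup G} [hNn : N.Normal] (hN : N ≠ ⊥) {a b : Ω} (hab : a ≠ b)
    (hE : MulAction.stabilizer G a ⊓ MulAction.stabilizer G b ≤ N) : N = ⊤ := by
  haveI := finite_of hZ
  rw [eq_top_iff]
  intro g _
  have h2 := normal_two hZ N hN
  rw [MulAction.is_two_pretransitive_iff] at h2
  obtain ⟨n, hn1, hn2⟩ := h2 (a := a) (b := b) (c := g • a) (d := g • b) hab (fun h => hab (MulAction.injective g h))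
  have h3 : (n : G)⁻¹ * g ∈ MulAction.stabilizer G a ⊓ MulAction.stabilizer G b := by
    constructor
    · change ((n : G)⁻¹ * g) • a = a
      rw [mul_smul, inv_smul_eq_iff]
      exact hn1.symm
    · change ((n : G)⁻¹ * g) • b = b
      rw [mul_smul, inv_smul_eq_iff]
      exact hn2.symm
  have h4 := N.mul_mem n.2 (hE h3)
  rwa [mul_inv_cancel_left] at h4

theorem simple_of_top {N : Subgroup G} (hN : IsSimpleGroup N) (h : N = ⊤) : IsSimpleGroup G := by
  subst h
  exact (Subgroup.topEquiv (G := G)).isSimpleGroup_congr.1 hN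

/-- Zassenhaus groups of odd degree are simple -/
theorem simple_of_odd [Fintype Ω] (hZ : IsZassenhausGroup G Ω) (hodd : Odd (Fintype.card Ω)) : IsSimpleGroup G := by
  classical
  haveI := finite_of hZ
  have hZG := ZG.of_zass hZ
  obtain ⟨N, hNn, hNb, hNs, hNZ⟩ := exists_simple hZ
  obtain ⟨g₀, hg₀, a, b, hab, -, -⟩ := hZ.2.2.2.1
  have hE := odd_E_of_odd hZG hodd hab
  have h2 := hNZ.2.1
  rw [MulAction.is_two_pretransitive_iff] at h2
  obtain ⟨n, hn1, hn2⟩ := h2 hab hab.symm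
  obtain ⟨s, hsN, hss, hsa, hsb⟩ := exists_invol (N := N) hE n.2 hn1 hn2
  have hs1 : s ≠ 1 := by
    rintro rfl
    rw [one_smul] at hsa
    exact hab hsa
  -- exactly one fixed point
  obtain ⟨w, hsw, hfix⟩ : ∃ w : Ω, s • w = w ∧ ∀ y : Ω, s • y = y → y = w := by
    have h1 := Zass.card_fixedBy_mod (Ω := Ω) (s := s) (by rw [pow_two, hss])
    have h2 := Zass.card_fixedBy_le (Ω := Ω) hZG.three hs1
    have h3 : Nat.card (MulAction.fixedBy Ω s) = 1 := by
      have h4 : Nat.card (MulAction.fixedBy Ω s) % 2 = 1 := by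
        rw [← h1]; exact Nat.odd_iff.1 hodd
      omega
    rw [Nat.card_coe_set_eq, Set.ncard_eq_one] at h3
    obtain ⟨v, hv⟩ := h3
    have hv' : v ∈ MulAction.fixedBy Ω s := by rw [hv]; rfl
    refine ⟨v, hv', fun y hy => ?_⟩
    have h4 : y ∈ MulAction.fixedBy Ω s := hy
    rwa [hv, Set.mem_singleton_iff] at h4
  have hwa : w ≠ a := by
    rintro rfl
    exact hab (hsw.symm.trans hsa)
  have hwb : w ≠ b := by
    rintro rfl
    exact hab (hsb.symm.trans hsw)
  have e1 : s⁻¹ • a = b := by rw [inv_smul_eq_iff, hsb]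
  have e2 : s⁻¹ • b = a := by rw [inv_smul_eq_iff, hsa]
  have key := inv_of_fpf (K := MulAction.stabilizer G a ⊓ MulAction.stabilizer G b) hss
    (fun k hk => by
      constructor
      · change (s * k * s⁻¹) • a = a
        rw [mul_smul, mul_smul, e1, show k • b = b from hk.2, hsb]
      · change (s * k * s⁻¹) • b = b
        rw [mul_smul, mul_smul, e2, show k • a = a from hk.1, hsa]) (by
      intro k hk hks
      have h1 : s • k • w = k • w := by
        rw [← mul_smul, mul_inv_eq_iff_eq_mul.mp hks, mul_smul, hsw]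
      have h2 := hfix _ h1
      exact hZG.three k a b w hab (Ne.symm hwb) (Ne.symm hwa) hk.1 hk.2 h2)
  have hle := E_le (N := N) hE hsN (fun h ha hb => key h ⟨ha, hb⟩)
  exact simple_of_top hNs (eq_top_of_E_le hZ hNb hab hle)

end Cfsg.Agent.H9.ZassN
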