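import Mathlib
import Cfsg.Agent.H1_Fpf
import Cfsg.Agent.H23_PBasic

/-!
# Z-groups and fixed point free actions
-/

set_option autoImplicit false

namespace Cfsg.Agent.H9.ZGrp

variable {G : Type*} [Group G]

/-- a group of odd order acting fixed point freely on an abelian group is a Z-group -/
theorem zgroup_of_fpf [Finite G] (K V : Subgroup G) [IsMulCommutative V] (hV : V ≠ ⊥)
    (hKV : ∀ k ∈ K, ∀ v ∈ V, k * v * k⁻¹ ∈ V) (hfpf : ∀ k ∈ K, k ≠ 1 → ∀ v ∈ V, k * v = v * k → v = 1)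
    (hodd : Odd (Nat.card K)) : IsZGroup K := by
  classical
  refine ⟨fun p hp P => ?_⟩
  haveI := Fact.mk hp
  by_cases hpE : p ∣ Nat.card K
  swap
  · have h3 : Nat.card P = 1 := by
      obtain ⟨n, hn⟩ := IsPGroup.iff_card.mp P.2
      rcases Nat.eq_zero_or_pos n with h0 | h0
      · change Nat.card (P : Subgroup K) = 1
        rw [hn, h0, pow_zero]
      · exfalso
        apply hpE
        exact (dvd_pow_self p h0.ne').trans (hn ▸ (P : Subgroup K).card_subgroup_dvd_card)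
    have : Subsingleton P := (Nat.card_eq_one_iff_unique.mp h3).1
    exact isCyclic_of_subsingleton
  have hp2 : p ≠ 2 := by
    rintro rfl
    have := Odd.of_dvd_nat hodd hpE
    exact absurd this (by decide)
  apply H23.PBasic.cyclic_of_abelian_cyclic P.2 (Or.inl hp2)
  intro A hA _
  obtain ⟨f, hf, hfv⟩ : ∃ f : P →* G, Function.Injective f ∧ ∀ x, f x = ((x : K) : G) :=
    ⟨K.subtype.comp (P : Subgroup K).subtype,
      (Subgroup.subtype_injective _).comp (Subgroup.subtype_injective _), fun x => rfl⟩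
  have hAE : A.map f ≤ K := by
    rintro _ ⟨x, -, rfl⟩; rw [hfv]; exact (x : K).2
  have hAcomm : IsMulCommutative (A.map f) := by
    refine ⟨⟨?_⟩⟩
    rintro ⟨_, x, hx, rfl⟩ ⟨_, y, hy, rfl⟩
    apply Subtype.ext
    simp only [Subgroup.coe_mul]
    rw [← map_mul, ← map_mul]
    congr 1
    have := hA.is_comm.comm ⟨x, hx⟩ ⟨y, hy⟩
    exact congrArg Subtype.val this
  have hAV : A.map f ≤ Subgroup.normalizer (V : Set G) := by
    intro x hx
    rw [Subgroup.mem_normalizer_iff]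
    intro v
    refine ⟨fun h => hKV x (hAE hx) v h, fun h => ?_⟩
    have h1 := hKV x⁻¹ (K.inv_mem (hAE hx)) _ h
    have h2 : x⁻¹ * (x * v * x⁻¹) * x⁻¹⁻¹ = v := by group
    rwa [h2] at h1
  have hcyc := H1.Fpf.isCyclic_of_fpf (A.map f) V hV hAV (by
    intro x hx hx1
    rw [Subgroup.eq_bot_iff_forall]
    rintro u ⟨hu, huc⟩
    exact hfpf x (hAE hx) hx1 u hu (Subgroup.mem_centralizer_singleton_iff.mp huc).symm)
    (Or.inl hAcomm)
  exact (A.equivMapOfInjective f hf).isCyclic.mpr hcyc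

/-- conjugations on a cyclic subgroup commute -/
theorem comm_of_cyclic {C : Subgroup G} (hC : IsCyclic C) {x y : G} (hx : ∀ c ∈ C, x * c * x⁻¹ ∈ C)
    (hy : ∀ c ∈ C, y * c * y⁻¹ ∈ C) {c : G} (hc : c ∈ C) :
    (x * y) * c * (x * y)⁻¹ = (y * x) * c * (y * x)⁻¹ := by
  obtain ⟨⟨g, hg⟩, hgen⟩ := hC.exists_generator
  have hgen' : ∀ c ∈ C, ∃ n : ℤ, g ^ n = c := by
    intro c hc
    obtain ⟨n, hn⟩ := hgen ⟨c, hc⟩
    exact ⟨n, congrArg Subtype.val hn⟩
  obtain ⟨i, hi⟩ := hgen' _ (hx g hg)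
  obtain ⟨j, hj⟩ := hgen' _ (hy g hg)
  obtain ⟨n, rfl⟩ := hgen' c hc
  have h1 : ∀ (z : G) (n : ℤ), z * g ^ n * z⁻¹ = (z * g * z⁻¹) ^ n := fun z n => (conj_zpow).symm
  have e1 : (x * y) * g * (x * y)⁻¹ = g ^ (i * j) := by
    calc (x * y) * g * (x * y)⁻¹ = x * (y * g * y⁻¹) * x⁻¹ := by group
      _ = g ^ (i * j) := by rw [← hj, h1, ← hi, zpow_mul]
  have e2 : (y * x) * g * (y * x)⁻¹ = g ^ (i * j) := by
    calc (y * x) * g * (y * x)⁻¹ = y * (x * g * x⁻¹) * y⁻¹ := by group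
      _ = g ^ (i * j) := by rw [← hi, h1, ← hj, mul_comm i j, zpow_mul]
  rw [h1, h1, e1, e2]

/-- a Z-group with a fixed point free automorphism is cyclic -/
theorem cyclic_of_fpf_aut [Finite G] (K : Subgroup G) (hK : IsZGroup K) {x : G} (hx : ∀ k ∈ K, x * k * x⁻¹ ∈ K)
    (hf : ∀ k ∈ K, x * k * x⁻¹ = k → k = 1) : IsCyclic K := by
  classical
  let φ : K → K := fun l => ⟨(x * l * x⁻¹) * (l : G)⁻¹, K.mul_mem (hx l l.2) (K.inv_mem l.2)⟩
  have hφ : Function.Injective φ := by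
    intro u v huv
    have h1 : (x * u * x⁻¹) * (u : G)⁻¹ = (x * v * x⁻¹) * (v : G)⁻¹ := congrArg Subtype.val huv
    have h2 := hf ((v : G)⁻¹ * u) (K.mul_mem (K.inv_mem v.2) u.2) (by
      calc x * ((v : G)⁻¹ * u) * x⁻¹ = (x * v * x⁻¹)⁻¹ * ((x * u * x⁻¹) * (u : G)⁻¹) * u := by group
        _ = (x * v * x⁻¹)⁻¹ * ((x * v * x⁻¹) * (v : G)⁻¹) * u := by rw [h1]
        _ = (v : G)⁻¹ * u := by group)
    exact Subtype.ext (inv_mul_eq_one.1 h2).symm
  have hsurj := Finite.injective_iff_surjective.mp hφ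
  let C : Subgroup G := (commutator K).map K.subtype
  have hCc : IsCyclic C := ((commutator K).equivMapOfInjective K.subtype K.subtype_injective).isCyclic.mp
    (IsZGroup.isCyclic_commutator K)
  have hxC : ∀ c ∈ C, x * c * x⁻¹ ∈ C := by
    let σ : K ≃* K := MulEquiv.ofBijective
      ({ toFun := fun k => ⟨x * k * x⁻¹, hx k k.2⟩
         map_one' := Subtype.ext (by simp)
         map_mul' := fun a b => Subtype.ext (by simp) } : K →* K)
      (Finite.injective_iff_bijective.mp (by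
        intro a b hab
        have h1 : x * (a : G) * x⁻¹ = x * b * x⁻¹ := congrArg Subtype.val hab
        exact Subtype.ext (mul_left_cancel (mul_right_cancel h1))))
    rintro _ ⟨c, hc, rfl⟩
    have hch : (commutator K).map σ.toMonoidHom = commutator K :=
      Subgroup.characteristic_iff_map_eq.1 inferInstance σ
    have : σ c ∈ commutator K := by rw [← hch]; exact ⟨c, hc, rfl⟩
    exact ⟨σ c, this, rfl⟩
  have hKC : ∀ k ∈ K, ∀ c ∈ C, k * c * k⁻¹ ∈ C := by
    rintro k hk _ ⟨c, hc, rfl⟩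
    exact ⟨⟨k, hk⟩ * c * ⟨k, hk⟩⁻¹, (inferInstance : (commutator K).Normal).conj_mem c hc ⟨k, hk⟩, rfl⟩
  have hcent : ∀ k ∈ K, ∀ c ∈ C, k * c * k⁻¹ = c := by
    intro k hk c hc
    obtain ⟨l, hl⟩ := hsurj ⟨k, hk⟩
    have h1 : (x * l * x⁻¹) * (l : G)⁻¹ = k := congrArg Subtype.val hl
    have h2 : k = (x * l) * ((l : G) * x)⁻¹ := by rw [← h1]; group
    have h3 : ((l : G) * x)⁻¹ * c * (((l : G) * x)⁻¹)⁻¹ ∈ C := by
      have e : ((l : G) * x)⁻¹ * c * (((l : G) * x)⁻¹)⁻¹ = x⁻¹ * ((l : G)⁻¹ * c * ((l : G)⁻¹)⁻¹) * (x⁻¹)⁻¹ := by group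
      rw [e]
      have h4 := hKC (l : G)⁻¹ (K.inv_mem l.2) c hc
      -- x⁻¹ normalises C
      have hfin : ∀ c ∈ C, x⁻¹ * c * (x⁻¹)⁻¹ ∈ C := by
        intro c hc
        let g : C → C := fun c => ⟨x * c * x⁻¹, hxC c c.2⟩
        have hg : Function.Injective g := by
          intro a b hab
          have h1 : x * (a : G) * x⁻¹ = x * b * x⁻¹ := congrArg Subtype.val hab
          exact Subtype.ext (mul_left_cancel (mul_right_cancel h1))
        obtain ⟨d, hd⟩ := (Finite.injective_iff_surjective.mp hg) ⟨c, hc⟩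
        have h5 : x * (d : G) * x⁻¹ = c := congrArg Subtype.val hd
        rw [← h5]
        have h6 : x⁻¹ * (x * (d : G) * x⁻¹) * (x⁻¹)⁻¹ = d := by group
        rw [h6]; exact d.2
      exact hfin _ h4
    have h5 := comm_of_cyclic hCc hxC (hKC l l.2) h3
    rw [h2]
    calc (x * l) * ((l : G) * x)⁻¹ * c * ((x * l) * ((l : G) * x)⁻¹)⁻¹
        = (x * l) * (((l : G) * x)⁻¹ * c * (((l : G) * x)⁻¹)⁻¹) * (x * l)⁻¹ := by group
      _ = ((l : G) * x) * (((l : G) * x)⁻¹ * c * (((l : G) * x)⁻¹)⁻¹) * ((l : G) * x)⁻¹ := h5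
      _ = c := by group
  have hle : commutator K ≤ Subgroup.center K := by
    intro c hc
    rw [Subgroup.mem_center_iff]
    intro k
    have := hcent k k.2 c ⟨c, hc, rfl⟩
    apply Subtype.ext
    exact mul_inv_eq_iff_eq_mul.1 this
  have hcomm := commutative_of_cyclic_center_quotient (Abelianization.of (G := K)) (by
    rw [Abelianization.ker_of]; exact hle)
  letI : CommGroup K := { (inferInstance : Group K) with mul_comm := hcomm }
  haveI : Group.IsNilpotent K := CommGroup.isNilpotent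
  infer_instance

end Cfsg.Agent.H9.ZGrp
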