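import Mathlib
import Cfsg.Prelude.Def_Perm
import Cfsg.Agent.H9_ZassF
import Cfsg.Agent.H9_ZassN
import Cfsg.Agent.H9_ZGrp

/-!
# Coordinates for groups with a regular normal subgroup whose point stabiliser has a commutative normal subgroup
transitive on the remaining points
-/

set_option autoImplicit false

open scoped Pointwise

namespace Cfsg.Agent.H9.SemiAff

open Cfsg

theorem card_eq_fixed_pow {F : Type*} [Field F] [Fintype F] (B : RingAut F) :
    Fintype.card F = (Nat.card {x : F // B x = x}) ^ (orderOf B) := by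
  classical
  haveI : Finite (RingAut F) := Finite.of_injective (fun f : RingAut F => (f : F → F)) DFunLike.coe_injective
  haveI : Fintype (Subgroup.zpowers B) := Fintype.ofFinite _
  have h1 := FixedPoints.finrank_eq_card (Subgroup.zpowers B) F
  have h2 : Nat.card F = Nat.card (FixedPoints.subfield (Subgroup.zpowers B) F) ^
      Module.finrank (FixedPoints.subfield (Subgroup.zpowers B) F) F := by
    exact Module.natCard_eq_pow_finrank
  rw [h1, ← Nat.card_eq_fintype_card (α := Subgroup.zpowers B), Nat.card_zpowers] at h2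
  rw [← Nat.card_eq_fintype_card, h2]
  congr 1
  apply Nat.card_congr
  refine Equiv.subtypeEquivRight (fun x => ?_)
  constructor
  · intro h
    exact h ⟨B, Subgroup.mem_zpowers B⟩
  · rintro h ⟨_, n, rfl⟩
    change (B ^ n : RingAut F) x = x
    have h3 : B • x = x := h
    have h4 : B ∈ MulAction.stabilizer (RingAut F) x := h3
    exact (MulAction.stabilizer (RingAut F) x).zpow_mem h4 n

variable {G Ω : Type*} [Group G] [MulAction G Ω]

structure Data (G : Type*) {Ω : Type*} [Group G] [MulAction G Ω] (N K : Subgroup G) (o : Ω) : Prop where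
  faith : ∀ g : G, (∀ x : Ω, g • x = x) → g = 1
  nrm : N.Normal
  trans : ∀ x y : Ω, ∃ n ∈ N, n • x = y
  free : ∀ n ∈ N, ∀ x : Ω, n • x = x → n = 1
  comm : ∀ m ∈ N, ∀ n ∈ N, m * n = n * m
  Kle : ∀ k ∈ K, k • o = o
  Knrm : ∀ g : G, g • o = o → ∀ k ∈ K, g * k * g⁻¹ ∈ K
  Ktrans : ∀ x y : Ω, x ≠ o → y ≠ o → ∃ k ∈ K, k • x = y
  Kcomm : ∀ k ∈ K, ∀ l ∈ K, k * l = l * k

theorem Data.Kfree {N K : Subgroup G} {o : Ω} (h : Data G N K o) {k : G} (hk : k ∈ K) {x : Ω} (hx : x ≠ o)
    (hkx : k • x = x) : k = 1 := by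
  apply h.faith
  intro y
  by_cases hy : y = o
  · rw [hy, h.Kle k hk]
  · obtain ⟨l, hl, hlx⟩ := h.Ktrans x y hx hy
    rw [← hlx, ← mul_smul, h.Kcomm k hk l hl, mul_smul, hkx]

theorem coords [Finite G] {N K : Subgroup G} {o w : Ω} (h : Data G N K o) (hw : w ≠ o) :
    ∃ (F : Type) (_ : Field F) (_ : Fintype F) (e : Ω ≃ F) (A : G → F → F), Nat.card Ω = Nat.card F ∧ e o = 0 ∧ e w = 1 ∧
      (∀ g, g • o = o → ∀ x : Ω, e (g • x) = A g (e x)) ∧
      (∀ c : F, ∃ n ∈ N, ∀ x : Ω, e (n • x) = e x + c) ∧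
      (∀ n ∈ N, ∃ c : F, ∀ x : Ω, e (n • x) = e x + c) ∧
      (∀ k ∈ K, ∃ a : Fˣ, ∀ x : F, A k x = a * x) ∧
      (∀ a : Fˣ, ∃ k ∈ K, ∀ x : F, A k x = a * x) ∧
      (∀ g, g • o = o → g • w = w → ∃ B : RingAut F, ∀ x, A g x = B x) := by
  classical
  letI : CommGroup N := { (inferInstance : Group N) with mul_comm := fun x y => Subtype.ext (h.comm x x.2 y y.2) }
  haveI := h.nrm
  let f : K →* AddMonoid.End (Additive N) :=
    { toFun := fun e =>
        { toFun := fun k => Additive.ofMul (⟨e * (Additive.toMul k : N) * (e : G)⁻¹, h.nrm.conj_mem _ (Additive.toMul k : N).2 _⟩ : N)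
          map_zero' := by
            apply congrArg Additive.ofMul
            apply Subtype.ext
            change (e : G) * 1 * (e : G)⁻¹ = 1
            group
          map_add' := fun k l => by
            apply congrArg Additive.ofMul
            apply Subtype.ext
            change (e : G) * (((Additive.toMul k : N) : G) * ((Additive.toMul l : N) : G)) * (e : G)⁻¹ =
              ((e : G) * ((Additive.toMul k : N) : G) * (e : G)⁻¹) * ((e : G) * ((Additive.toMul l : N) : G) * (e : G)⁻¹)
            group }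
      map_one' := by
        ext k
        change (1 : G) * ((Additive.toMul k : N) : G) * (1 : G)⁻¹ = (Additive.toMul k : N)
        group
      map_mul' := fun d e => by
        ext k
        change ((d : G) * e) * ((Additive.toMul k : N) : G) * ((d : G) * e)⁻¹ =
          (d : G) * ((e : G) * ((Additive.toMul k : N) : G) * (e : G)⁻¹) * (d : G)⁻¹
        group }
  have hf : ∀ (e : K) (k : Additive N), (((f e k).toMul : N) : G) = e * (k.toMul : N) * (e : G)⁻¹ := fun _ _ => rfl
  obtain ⟨k₀, hk₀, hk₀w⟩ := h.trans o w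
  have hconj_act : ∀ g : G, g • o = o → ∀ n : G, (g * n * g⁻¹) • o = g • n • o := by
    intro g hg n
    rw [mul_smul, mul_smul, show g⁻¹ • o = o by rw [inv_smul_eq_iff, hg]]
  -- cardinalities
  have hNO : Nat.card N = Nat.card Ω := by
    apply Nat.card_congr
    refine Equiv.ofBijective (fun n : N => (n : G) • o) ⟨?_, ?_⟩
    · intro m n hmn
      have h1 : (m : G) • o = (n : G) • o := hmn
      have h2 := h.free ((n : G)⁻¹ * m) (N.mul_mem (N.inv_mem n.2) m.2) o (by rw [mul_smul, inv_smul_eq_iff, h1])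
      exact Subtype.ext (inv_mul_eq_one.1 h2).symm
    · intro y
      obtain ⟨n, hn, hny⟩ := h.trans o y
      exact ⟨⟨n, hn⟩, hny⟩
  haveI : Finite Ω := Finite.of_surjective (fun n : N => (n : G) • o) (by
    intro y
    obtain ⟨n, hn, hny⟩ := h.trans o y
    exact ⟨⟨n, hn⟩, hny⟩)
  have hKO : Nat.card K + 1 = Nat.card Ω := by
    have e1 : K ≃ {y : Ω // y ≠ o} := by
      refine Equiv.ofBijective (fun k => ⟨(k : G) • w, ?_⟩) ⟨?_, ?_⟩
      · intro h1
        have h2 := h.Kle k k.2
        exact hw (MulAction.injective (k : G) (h1.trans h2.symm))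
      · intro k l hkl
        have h1 : (k : G) • w = (l : G) • w := congrArg Subtype.val hkl
        have h2 := h.Kfree (k := (l : G)⁻¹ * k) (K.mul_mem (K.inv_mem l.2) k.2) hw (by
          rw [mul_smul, inv_smul_eq_iff, h1])
        exact Subtype.ext (inv_mul_eq_one.1 h2).symm
      · rintro ⟨y, hy⟩
        obtain ⟨k, hk, hky⟩ := h.Ktrans w y hw hy
        exact ⟨⟨k, hk⟩, Subtype.ext hky⟩
    haveI := Fintype.ofFinite Ω
    rw [Nat.card_congr e1, Nat.card_eq_fintype_card, Fintype.card_subtype_compl, Fintype.card_subtype_eq,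
      Nat.card_eq_fintype_card]
    have : 0 < Fintype.card Ω := Fintype.card_pos_iff.2 ⟨o⟩
    omega
  obtain ⟨F, hF, hFf, φ, χ, hχ, hφ1, hφ⟩ := ZassF.exists_field (V := Additive N) (E := K)
    (fun x y => Subtype.ext (h.Kcomm x x.2 y y.2)) f (by
      intro e v hv hev
      have h1 := hf e v
      rw [hev] at h1
      have hvo : ((v.toMul : N) : G) • o ≠ o := by
        intro h2
        apply hv
        have h3 : v.toMul = 1 := Subtype.ext (h.free _ v.toMul.2 o h2)
        exact h3
      apply Subtype.ext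
      apply h.Kfree e.2 hvo
      rw [← hconj_act e (h.Kle e e.2), ← h1]) (by
      have : Nat.card (Additive N) = Nat.card N := rfl
      rw [this]
      omega) (v₀ := Additive.ofMul ⟨k₀, hk₀⟩) (by
      intro h0
      apply hw
      have h1 : (⟨k₀, hk₀⟩ : N) = 1 := h0
      have h2 : k₀ = 1 := congrArg Subtype.val h1
      rw [← hk₀w, h2, one_smul])
  let κ : F → G := fun x => ((φ x).toMul : N)
  have hκN : ∀ x, κ x ∈ N := fun x => ((φ x).toMul : N).2
  have hκadd : ∀ x y, κ (x + y) = κ x * κ y := by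
    intro x y
    change (((φ (x + y)).toMul : N) : G) = _
    rw [map_add]
    rfl
  have hκ0 : κ 0 = 1 := by
    change (((φ 0).toMul : N) : G) = _
    rw [map_zero]
    rfl
  have hκ1 : κ 1 = k₀ := by
    change (((φ 1).toMul : N) : G) = _
    rw [hφ1]
    rfl
  have hκmul : ∀ (e : K) x, κ ((χ e : F) * x) = e * κ x * (e : G)⁻¹ := by
    intro e x
    change (((φ ((χ e : F) * x)).toMul : N) : G) = _
    rw [← hφ]
    rfl
  have hκsurj : ∀ k ∈ N, ∃ x, κ x = k := by
    intro k hk
    refine ⟨φ.symm (Additive.ofMul ⟨k, hk⟩), ?_⟩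
    change (((φ _).toMul : N) : G) = _
    rw [AddEquiv.apply_symm_apply]
    rfl
  have hκinj : Function.Injective κ := by
    intro x y hxy
    apply φ.injective
    have : (φ x).toMul = (φ y).toMul := Subtype.ext hxy
    exact this
  let ε : F ≃ Ω := Equiv.ofBijective (fun x => κ x • o) (by
    constructor
    · intro x y hxy
      have h1 : κ x • o = κ y • o := hxy
      have h2 := h.free ((κ y)⁻¹ * κ x) (N.mul_mem (N.inv_mem (hκN y)) (hκN x)) o (by
        rw [mul_smul, inv_smul_eq_iff, h1])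
      exact hκinj (inv_mul_eq_one.1 h2).symm
    · intro y
      obtain ⟨n, hn, hny⟩ := h.trans o y
      obtain ⟨x, rfl⟩ := hκsurj n hn
      exact ⟨x, hny⟩)
  have hε : ∀ x, ε x = κ x • o := fun _ => rfl
  let A : G → F → F := fun g x => ε.symm (g • ε x)
  have hA : ∀ g, g • o = o → ∀ x, κ (A g x) = g * κ x * g⁻¹ := by
    intro g hg x
    obtain ⟨y, hy⟩ := hκsurj (g * κ x * g⁻¹) (h.nrm.conj_mem _ (hκN x) g)
    have h1 : A g x = y := by
      change ε.symm (g • ε x) = y
      rw [Equiv.symm_apply_eq, hε, hε, hy, hconj_act g hg]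
    rw [h1, hy]
  have hFcard : Nat.card F = Nat.card Ω := Nat.card_congr ε
  have hχsurj : Function.Surjective χ := by
    have hb := (Fintype.bijective_iff_injective_and_card (α := Fˣ) (β := Fˣ) (f := id)).2 ⟨Function.injective_id, rfl⟩
    haveI := Fintype.ofFinite K
    have := (Fintype.bijective_iff_injective_and_card χ).2 ⟨hχ, by
      rw [Fintype.card_units, ← Nat.card_eq_fintype_card, ← Nat.card_eq_fintype_card (α := F), hFcard]
      omega⟩
    exact this.2
  have hAχ : ∀ (k : K) x, A k x = χ k * x := by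
    intro k x
    apply hκinj
    rw [hA k (h.Kle k k.2), hκmul]
  refine ⟨F, hF, hFf, ε.symm, A, hFcard.symm, ?_, ?_, ?_, ?_, ?_, ?_, ?_, ?_⟩
  · rw [Equiv.symm_apply_eq, hε, hκ0, one_smul]
  · rw [Equiv.symm_apply_eq, hε, hκ1, hk₀w]
  · intro g hg x
    change _ = ε.symm (g • ε (ε.symm x))
    rw [Equiv.apply_symm_apply]
  · intro c
    refine ⟨κ c, hκN c, fun x => ?_⟩
    obtain ⟨y, rfl⟩ := ε.surjective x
    rw [Equiv.symm_apply_apply, Equiv.symm_apply_eq, hε, hε, add_comm, hκadd, mul_smul]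
  · intro n hn
    obtain ⟨c, rfl⟩ := hκsurj n hn
    refine ⟨c, fun x => ?_⟩
    obtain ⟨y, rfl⟩ := ε.surjective x
    rw [Equiv.symm_apply_apply, Equiv.symm_apply_eq, hε, hε, add_comm, hκadd, mul_smul]
  · intro k hk
    exact ⟨χ ⟨k, hk⟩, fun x => hAχ ⟨k, hk⟩ x⟩
  · intro a
    obtain ⟨k, rfl⟩ := hχsurj a
    exact ⟨k, k.2, fun x => hAχ k x⟩
  · intro g hg hgw
    have hg1 : A g 1 = 1 := by
      change ε.symm (g • ε 1) = 1
      rw [Equiv.symm_apply_eq, hε, hκ1, hk₀w, hgw]
    have hadd : ∀ x y, A g (x + y) = A g x + A g y := by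
      intro x y
      apply hκinj
      rw [hκadd, hA g hg, hA g hg, hA g hg, hκadd]
      group
    have hmul1 : ∀ (k : K) (x : F), A g (χ k * x) = χ ⟨g * k * g⁻¹, h.Knrm g hg k k.2⟩ * A g x := by
      intro k x
      apply hκinj
      rw [hA g hg, hκmul, hκmul, hA g hg]
      change g * ((k : G) * κ x * (k : G)⁻¹) * g⁻¹ = (g * k * g⁻¹) * (g * κ x * g⁻¹) * (g * k * g⁻¹)⁻¹
      group
    have h0 : A g 0 = 0 := by
      have := hadd 0 0
      rw [add_zero] at this
      exact left_eq_add.mp this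
    have hmul : ∀ x y, A g (x * y) = A g x * A g y := by
      intro x y
      by_cases hx : x = 0
      · rw [hx, zero_mul, h0, zero_mul]
      · obtain ⟨k, hk⟩ := hχsurj (Units.mk0 x hx)
        have hk' : (χ k : F) = x := by rw [hk]; rfl
        rw [← hk', hmul1]
        congr 1
        have := hmul1 k 1
        rw [mul_one, hg1, mul_one] at this
        exact this.symm
    have hbij : Function.Bijective (A g) := by
      change Function.Bijective (fun x => ε.symm (g • ε x))
      exact ε.symm.bijective.comp ((MulAction.bijective g).comp ε.bijective)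
    exact ⟨RingEquiv.ofBijective ({ toFun := A g, map_one' := hg1, map_mul' := hmul, map_zero' := h0, map_add' := hadd } : F →+* F) hbij,
      fun x => rfl⟩

end Cfsg.Agent.H9.SemiAff
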