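import Mathlib
import Cfsg.Agent.H9_ZassC

/-!
# Quaternion groups acting on elementary abelian groups: numerical consequences
-/

set_option autoImplicit false

namespace Cfsg.Agent.H9.Q8Num

/-- two anticommuting square roots of `-1` on an additive group of odd prime exponent -/
theorem exists_half {V : Type*} [AddCommGroup V] [Finite V] {p : ℕ} (hp : p.Prime) (hp2 : p ≠ 2)
    (hV : ∀ v : V, p • v = 0) (I J : AddMonoid.End V) (hI : I * I = -1) (hJ : J * J = -1) (hIJ : I * J = -(J * I)) :
    ∃ W : AddSubgroup V, Nat.card V = Nat.card W * Nat.card W ∧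
      ∀ c : AddMonoid.End V, c * I = I * c → c * J = J * c → ∀ w ∈ W, c w ∈ W := by
  classical
  haveI := Fact.mk hp
  obtain ⟨a', b', hab⟩ := ZMod.sq_add_sq p (-1)
  -- natural number representatives
  obtain ⟨a, rfl⟩ : ∃ a : ℕ, (a : ZMod p) = a' := ⟨a'.val, ZMod.natCast_zmod_val a'⟩
  obtain ⟨b, rfl⟩ : ∃ b : ℕ, (b : ZMod p) = b' := ⟨b'.val, ZMod.natCast_zmod_val b'⟩
  have hdvd : p ∣ a ^ 2 + b ^ 2 + 1 := by
    rw [← ZMod.natCast_eq_zero_iff]
    push_cast
    rw [hab]; ring
  have hzero : ((a ^ 2 + b ^ 2 + 1 : ℕ) : AddMonoid.End V) = 0 := by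
    obtain ⟨c, hc⟩ := hdvd
    ext v
    rw [hc]
    rw [AddMonoid.End.natCast_apply, mul_smul]
    exact hV _
  let τ : AddMonoid.End V := (a : AddMonoid.End V) * I + (b : AddMonoid.End V) * J
  have hcomm : ∀ (n : ℕ) (X : AddMonoid.End V), (n : AddMonoid.End V) * X = X * n := fun n X => (Nat.cast_commute n X).eq
  have hτ : τ * τ = 1 := by
    change ((a : AddMonoid.End V) * I + (b : AddMonoid.End V) * J) * ((a : AddMonoid.End V) * I + (b : AddMonoid.End V) * J) = 1
    have e1 : ((a : AddMonoid.End V) * I) * ((a : AddMonoid.End V) * I) = -((a : AddMonoid.End V) ^ 2) := by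
      calc _ = (a : AddMonoid.End V) * (I * (a : AddMonoid.End V)) * I := by noncomm_ring
        _ = (a : AddMonoid.End V) * ((a : AddMonoid.End V) * I) * I := by rw [hcomm a I]
        _ = (a : AddMonoid.End V) * (a : AddMonoid.End V) * (I * I) := by noncomm_ring
        _ = _ := by rw [hI]; noncomm_ring
    have e2 : ((b : AddMonoid.End V) * J) * ((b : AddMonoid.End V) * J) = -((b : AddMonoid.End V) ^ 2) := by
      calc _ = (b : AddMonoid.End V) * (J * (b : AddMonoid.End V)) * J := by noncomm_ring
        _ = (b : AddMonoid.End V) * ((b : AddMonoid.End V) * J) * J := by rw [hcomm b J]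
        _ = (b : AddMonoid.End V) * (b : AddMonoid.End V) * (J * J) := by noncomm_ring
        _ = _ := by rw [hJ]; noncomm_ring
    have e3 : ((a : AddMonoid.End V) * I) * ((b : AddMonoid.End V) * J) + ((b : AddMonoid.End V) * J) * ((a : AddMonoid.End V) * I) = 0 := by
      calc _ = (a : AddMonoid.End V) * (I * (b : AddMonoid.End V)) * J + (b : AddMonoid.End V) * (J * (a : AddMonoid.End V)) * I := by
            noncomm_ring
        _ = (a : AddMonoid.End V) * ((b : AddMonoid.End V) * I) * J + (b : AddMonoid.End V) * ((a : AddMonoid.End V) * J) * I := by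
            rw [hcomm b I, hcomm a J]
        _ = ((a : AddMonoid.End V) * (b : AddMonoid.End V)) * (I * J) + ((b : AddMonoid.End V) * (a : AddMonoid.End V)) * (J * I) := by
            noncomm_ring
        _ = _ := by rw [hIJ, hcomm b (a : AddMonoid.End V)]; noncomm_ring
    have e4 : (a : AddMonoid.End V) ^ 2 + (b : AddMonoid.End V) ^ 2 = -1 := by
      have h5 := hzero
      push_cast at h5
      exact eq_neg_of_add_eq_zero_left h5
    calc _ = ((a : AddMonoid.End V) * I) * ((a : AddMonoid.End V) * I) + ((b : AddMonoid.End V) * J) * ((b : AddMonoid.End V) * J) +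
          (((a : AddMonoid.End V) * I) * ((b : AddMonoid.End V) * J) + ((b : AddMonoid.End V) * J) * ((a : AddMonoid.End V) * I)) := by
          noncomm_ring
      _ = -((a : AddMonoid.End V) ^ 2 + (b : AddMonoid.End V) ^ 2) := by rw [e1, e2, e3]; noncomm_ring
      _ = 1 := by rw [e4, neg_neg]
  let T : AddMonoid.End V := I * J
  have hTT : T * T = -1 := by
    change I * J * (I * J) = -1
    calc I * J * (I * J) = I * (J * I) * J := by noncomm_ring
      _ = I * (-(I * J)) * J := by rw [hIJ]; noncomm_ring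
      _ = -((I * I) * (J * J)) := by noncomm_ring
      _ = -1 := by rw [hI, hJ]; noncomm_ring
  have hTτ : T * τ = -(τ * T) := by
    change I * J * ((a : AddMonoid.End V) * I + (b : AddMonoid.End V) * J) = -(((a : AddMonoid.End V) * I + (b : AddMonoid.End V) * J) * (I * J))
    have e1 : I * J * ((a : AddMonoid.End V) * I) = -((a : AddMonoid.End V) * I * (I * J)) := by
      calc I * J * ((a : AddMonoid.End V) * I) = (I * J * (a : AddMonoid.End V)) * I := by noncomm_ring
        _ = ((a : AddMonoid.End V) * (I * J)) * I := by rw [hcomm a (I * J)]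
        _ = (a : AddMonoid.End V) * I * (J * I) := by noncomm_ring
        _ = (a : AddMonoid.End V) * I * (-(I * J)) := by rw [hIJ]; noncomm_ring
        _ = _ := by noncomm_ring
    have e2 : I * J * ((b : AddMonoid.End V) * J) = -((b : AddMonoid.End V) * J * (I * J)) := by
      calc I * J * ((b : AddMonoid.End V) * J) = (I * J * (b : AddMonoid.End V)) * J := by noncomm_ring
        _ = ((b : AddMonoid.End V) * (I * J)) * J := by rw [hcomm b (I * J)]
        _ = (b : AddMonoid.End V) * (-(J * I)) * J := by rw [hIJ]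
        _ = _ := by noncomm_ring
    rw [mul_add, e1, e2]; noncomm_ring
  -- no 2-torsion
  have htwo : ∀ v : V, v + v = 0 → v = 0 := by
    intro v hv
    obtain ⟨k, hk⟩ : ∃ k, p = 2 * k + 1 := by
      obtain ⟨k, hk⟩ := hp.odd_of_ne_two hp2
      exact ⟨k, hk⟩
    have h1 := hV v
    rw [hk, add_smul, one_smul, mul_comm, mul_smul, two_smul, hv, smul_zero, zero_add] at h1
    exact h1
  let W : AddSubgroup V := (τ - 1).ker
  have hW : ∀ v, v ∈ W ↔ τ v = v := by
    intro v
    change τ v - v = 0 ↔ _
    exact sub_eq_zero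
  have hττ : ∀ v, τ (τ v) = v := fun v => by
    have := DFunLike.congr_fun hτ v
    exact this
  have hTTv : ∀ v, T (T v) = -v := fun v => by
    have := DFunLike.congr_fun hTT v
    exact this
  have hTτv : ∀ v, T (τ v) = -(τ (T v)) := fun v => by
    have := DFunLike.congr_fun hTτ v
    exact this
  refine ⟨W, ?_, ?_⟩
  · rw [← Nat.card_prod]
    apply le_antisymm
    · -- V → W × W
      have h1 : ∀ v : V, v + τ v ∈ W := by
        intro v
        rw [hW, map_add, hττ, add_comm]
      have h2 : ∀ v : V, T (v - τ v) ∈ W := by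
        intro v
        rw [hW]
        have h3 := hTτv (v - τ v)
        rw [map_sub τ, hττ] at h3
        have h4 : τ v - v = -(v - τ v) := by abel
        rw [h4, map_neg] at h3
        exact (neg_injective h3).symm
      apply Nat.card_le_card_of_injective (fun v => ((⟨v + τ v, h1 v⟩, ⟨T (v - τ v), h2 v⟩) : W × W))
      intro v v' hvv
      have h5 : v + τ v = v' + τ v' := congrArg (fun x : W × W => (x.1 : V)) hvv
      have h6 : T (v - τ v) = T (v' - τ v') := congrArg (fun x : W × W => (x.2 : V)) hvv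
      have h7 : v - τ v = v' - τ v' := by
        have h8 := congrArg T h6
        rw [hTTv, hTTv] at h8
        exact neg_injective h8
      have h9 : (v - v') + (v - v') = 0 := by
        have e : (v - v') + (v - v') = (v + τ v) + (v - τ v) - ((v' + τ v') + (v' - τ v')) := by abel
        rw [e, h5, h7, sub_self]
      exact sub_eq_zero.1 (htwo _ h9)
    · apply Nat.card_le_card_of_injective (fun x : W × W => (x.1 : V) + T x.2)
      rintro ⟨⟨u, hu⟩, ⟨v, hv⟩⟩ ⟨⟨u', hu'⟩, ⟨v', hv'⟩⟩ h
      have h1 : u + T v = u' + T v' := h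
      rw [hW] at hu hv hu' hv'
      have hτT : ∀ v, τ v = v → τ (T v) = -(T v) := by
        intro v hv
        have h9 := hTτv v
        rw [hv] at h9
        exact (neg_eq_iff_eq_neg.2 h9).symm
      have h2 := congrArg τ h1
      rw [map_add, map_add, hu, hu', hτT v hv, hτT v' hv'] at h2
      have h3 : (u - u') + (u - u') = 0 := by
        have e : (u - u') + (u - u') = ((u + T v) - (u' + T v')) + ((u + -(T v)) - (u' + -(T v'))) := by
          abel
        rw [e, h1, h2, sub_self, sub_self, add_zero]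
      have h4 := sub_eq_zero.1 (htwo _ h3)
      have h5 : T v = T v' := by
        rw [h4] at h1
        exact add_left_cancel h1
      have h6 : v = v' := by
        have h8 := congrArg T h5
        rw [hTTv, hTTv] at h8
        exact neg_injective h8
      subst h4 h6
      rfl
  · intro c hcI hcJ w hw
    rw [hW] at hw ⊢
    have hcτ : c * τ = τ * c := by
      change c * ((a : AddMonoid.End V) * I + (b : AddMonoid.End V) * J) = ((a : AddMonoid.End V) * I + (b : AddMonoid.End V) * J) * c
      calc c * ((a : AddMonoid.End V) * I + (b : AddMonoid.End V) * J) = (c * (a : AddMonoid.End V)) * I + (c * (b : AddMonoid.End V)) * J := by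
            noncomm_ring
        _ = ((a : AddMonoid.End V) * c) * I + ((b : AddMonoid.End V) * c) * J := by rw [hcomm a c, hcomm b c]
        _ = (a : AddMonoid.End V) * (c * I) + (b : AddMonoid.End V) * (c * J) := by noncomm_ring
        _ = (a : AddMonoid.End V) * (I * c) + (b : AddMonoid.End V) * (J * c) := by rw [hcI, hcJ]
        _ = _ := by noncomm_ring
    have := DFunLike.congr_fun hcτ w
    change c (τ w) = τ (c w) at this
    rw [← this, hw]

section group

variable {G : Type*} [Group G]

theorem group_half [Finite G] {K : Subgroup G} (hKc : ∀ k ∈ K, ∀ l ∈ K, k * l = l * k) {p : ℕ} (hp : p.Prime) (hp2 : p ≠ 2)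
    (hKp : ∀ k ∈ K, k ^ p = 1) {i j z : G} (hi : ∀ k ∈ K, i * k * i⁻¹ ∈ K) (hj : ∀ k ∈ K, j * k * j⁻¹ ∈ K)
    (hz : ∀ k ∈ K, z * k * z⁻¹ = k⁻¹) (hii : i * i = z) (hjj : j * j = z) (hij : i * j = z * (j * i)) :
    ∃ m : ℕ, Nat.card K = m * m ∧ ∀ C : Subgroup G, (∀ c ∈ C, c * i = i * c ∧ c * j = j * c ∧ ∀ k ∈ K, c * k * c⁻¹ ∈ K) →
      (∀ c ∈ C, ∀ k ∈ K, k ≠ 1 → c * k * c⁻¹ = k → c = 1) → Nat.card C ∣ m - 1 := by
  classical
  letI : CommGroup K := { (inferInstance : Group K) with mul_comm := fun x y => Subtype.ext (hKc x x.2 y y.2) }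
  let E : (g : G) → (∀ k ∈ K, g * k * g⁻¹ ∈ K) → AddMonoid.End (Additive K) := fun g hg =>
    { toFun := fun k => Additive.ofMul (⟨g * (Additive.toMul k : K) * (g : G)⁻¹, hg _ (Additive.toMul k : K).2⟩ : K)
      map_zero' := by
        apply congrArg Additive.ofMul
        apply Subtype.ext
        change g * 1 * g⁻¹ = 1
        group
      map_add' := fun k l => by
        apply congrArg Additive.ofMul
        apply Subtype.ext
        change g * (((Additive.toMul k : K) : G) * ((Additive.toMul l : K) : G)) * g⁻¹ =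
          (g * ((Additive.toMul k : K) : G) * g⁻¹) * (g * ((Additive.toMul l : K) : G) * g⁻¹)
        group }
  have hE : ∀ g hg (k : Additive K), (((E g hg k).toMul : K) : G) = g * (k.toMul : K) * g⁻¹ := fun _ _ _ => rfl
  have hext : ∀ A B : AddMonoid.End (Additive K), (∀ k : Additive K, (((A k).toMul : K) : G) = (((B k).toMul : K) : G)) → A = B := by
    intro A B h
    apply DFunLike.ext
    intro k
    exact Subtype.ext (h k)
  have hneg : ∀ k : Additive K, ((((-1 : AddMonoid.End (Additive K)) k).toMul : K) : G) = ((k.toMul : K) : G)⁻¹ := fun _ => rfl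
  obtain ⟨W, hW, hWc⟩ := exists_half (V := Additive K) hp hp2 (by
      intro v
      have := hKp (v.toMul : K) (v.toMul : K).2
      have h2 : (v.toMul : K) ^ p = 1 := Subtype.ext this
      exact h2) (E i hi) (E j hj) (by
      apply hext
      intro k
      rw [hneg, ← hz _ (k.toMul : K).2]
      change i * (i * (k.toMul : K) * i⁻¹) * i⁻¹ = _
      rw [← hii]; group) (by
      apply hext
      intro k
      rw [hneg, ← hz _ (k.toMul : K).2]
      change j * (j * (k.toMul : K) * j⁻¹) * j⁻¹ = _
      rw [← hjj]; group) (by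
      apply hext
      intro k
      change i * (j * (k.toMul : K) * j⁻¹) * i⁻¹ = (j * (i * (k.toMul : K) * i⁻¹) * j⁻¹)⁻¹
      rw [← hz _ (hj _ (hi _ (k.toMul : K).2))]
      calc i * (j * (k.toMul : K) * j⁻¹) * i⁻¹ = (i * j) * (k.toMul : K) * (i * j)⁻¹ := by group
        _ = _ := by rw [hij]; group)
  refine ⟨Nat.card W, hW, fun C hC hCf => ?_⟩
  have h1 := ZassC.dvd_card_invariant C ({g : G | ∃ w ∈ W, w ≠ 0 ∧ (((w : Additive K).toMul : K) : G) = g}) (by
    rintro c hc _ ⟨w, hw, hw0, rfl⟩
    have h2 := hWc (E c (hC c hc).2.2) (by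
      apply hext
      intro k
      change c * (i * (k.toMul : K) * i⁻¹) * c⁻¹ = i * (c * (k.toMul : K) * c⁻¹) * i⁻¹
      calc c * (i * (k.toMul : K) * i⁻¹) * c⁻¹ = (c * i) * (k.toMul : K) * (c * i)⁻¹ := by group
        _ = _ := by rw [(hC c hc).1]; group) (by
      apply hext
      intro k
      change c * (j * (k.toMul : K) * j⁻¹) * c⁻¹ = j * (c * (k.toMul : K) * c⁻¹) * j⁻¹
      calc c * (j * (k.toMul : K) * j⁻¹) * c⁻¹ = (c * j) * (k.toMul : K) * (c * j)⁻¹ := by group
        _ = _ := by rw [(hC c hc).2.1]; group) w hw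
    refine ⟨_, h2, ?_, hE c _ w⟩
    intro h0
    apply hw0
    have h3 := hE c (hC c hc).2.2 w
    rw [h0] at h3
    have h4 : (1 : G) = c * (w.toMul : K) * c⁻¹ := h3
    have h5 : ((w.toMul : K) : G) = 1 := by
      calc ((w.toMul : K) : G) = c⁻¹ * (c * (w.toMul : K) * c⁻¹) * c := by group
        _ = 1 := by rw [← h4]; group
    have h6 : (w.toMul : K) = 1 := Subtype.ext h5
    exact h6) (by
    rintro c hc _ ⟨w, hw, hw0, rfl⟩ hcw
    apply hCf c hc _ (w.toMul : K).2 _ hcw
    intro h
    apply hw0
    have h6 : (w.toMul : K) = 1 := Subtype.ext h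
    exact h6)
  have h2 : Nat.card ({g : G | ∃ w ∈ W, w ≠ 0 ∧ (((w : Additive K).toMul : K) : G) = g} : Set G) = Nat.card W - 1 := by
    have e : ({g : G | ∃ w ∈ W, w ≠ 0 ∧ (((w : Additive K).toMul : K) : G) = g} : Set G) =
        (fun w : Additive K => (((w : Additive K).toMul : K) : G)) '' ((W : Set (Additive K)) \ {0}) := by
      ext g
      constructor
      · rintro ⟨w, hw, hw0, rfl⟩
        exact ⟨w, ⟨hw, hw0⟩, rfl⟩
      · rintro ⟨w, ⟨hw, hw0⟩, rfl⟩
        exact ⟨w, hw, hw0, rfl⟩
    rw [e, Nat.card_coe_set_eq, Set.ncard_image_of_injective _ (fun x y h => by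
      have h6 : (x.toMul : K) = y.toMul := Subtype.ext h
      exact h6), Set.ncard_diff_singleton_of_mem W.zero_mem]
    rfl
  rwa [h2] at h1

end group

end Cfsg.Agent.H9.Q8Num
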