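import Mathlib
import Cfsg.Agent.H19_AutTwo
import Cfsg.Agent.H10_Q8
import Cfsg.Agent.H23_PQuat

/-!
# 2-groups with a unique involution and their automorphisms of odd order
-/

set_option autoImplicit false

namespace Cfsg.Agent.H9.TwoComp

open Cfsg Subgroup

/-- odd order elements are powers of their `2^k`-th powers -/
theorem mem_zpowers_pow {G : Type*} [Group G] [Finite G] {g : G} {m : ℕ} (h : (orderOf g).Coprime m) :
    g ∈ zpowers (g ^ m) := by
  obtain ⟨k, hk⟩ := exists_pow_eq_self_of_coprime (x := g) (n := m) h.symm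
  exact ⟨k, by
    change (g ^ m) ^ (k : ℤ) = g
    rw [zpow_natCast]; exact hk⟩

theorem aut_quaternion (n : ℕ) (hn : 2 ≤ n) : IsPGroup 2 (MulAut (QuaternionGroup (2 ^ n))) := by
  haveI : NeZero (2 ^ n) := ⟨by positivity⟩
  have h2 : IsPGroup 2 (QuaternionGroup (2 ^ n)) := by
    apply IsPGroup.of_card (n := n + 2)
    rw [Nat.card_eq_fintype_card, QuaternionGroup.card]
    ring
  have ha : ∀ i : ZMod (2 * 2 ^ n), QuaternionGroup.a i ∈ zpowers (QuaternionGroup.a 1 : QuaternionGroup (2 ^ n)) := by
    intro i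
    refine ⟨(i.val : ℤ), ?_⟩
    change (QuaternionGroup.a 1 : QuaternionGroup (2 ^ n)) ^ ((i.val : ℕ) : ℤ) = _
    rw [zpow_natCast, QuaternionGroup.a_one_pow, ZMod.natCast_zmod_val]
  apply H19.AutTwo.isPGroup_mulAut h2 (QuaternionGroup.a 1) (QuaternionGroup.xa 0)
  · intro x
    rcases x with i | i
    · exact Or.inl (ha i)
    · right
      have : QuaternionGroup.xa i * (QuaternionGroup.xa (0 : ZMod (2 * 2 ^ n)))⁻¹ = QuaternionGroup.a (-i) := by
        rw [mul_inv_eq_iff_eq_mul, QuaternionGroup.a_mul_xa]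
        simp
      rw [this]
      exact ha _
  · intro x hx
    rcases x with i | i
    · exact ha i
    · exfalso
      rw [QuaternionGroup.orderOf_xa, QuaternionGroup.orderOf_a_one] at hx
      have : 2 ^ 2 ≤ 2 ^ n := Nat.pow_le_pow_right (by norm_num) hn
      omega

theorem dich {X : Type*} [Group X] [Finite X] (h2 : IsPGroup 2 X)
    (huniq : ∀ x y : X, orderOf x = 2 → orderOf y = 2 → x = y) :
    IsPGroup 2 (MulAut X) ∨ Nonempty (X ≃* QuaternionGroup 2) := by
  haveI : Fact (Nat.Prime 2) := ⟨Nat.prime_two⟩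
  have huniq' : ∀ H K : Subgroup X, Nat.card H = 2 → Nat.card K = 2 → H = K := by
    intro H K hH hK
    obtain ⟨x, hx⟩ := exists_prime_orderOf_dvd_card' (G := H) 2 (by rw [hH])
    obtain ⟨y, hy⟩ := exists_prime_orderOf_dvd_card' (G := K) 2 (by rw [hK])
    have hx' : orderOf (x : X) = 2 := by rw [Subgroup.orderOf_coe, hx]
    have hy' : orderOf (y : X) = 2 := by rw [Subgroup.orderOf_coe, hy]
    have hxy := huniq _ _ hx' hy'
    have e1 : zpowers (x : X) = H := by
      apply Subgroup.eq_of_le_of_card_ge (by rw [zpowers_le]; exact x.2)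
      rw [hH, Nat.card_zpowers, hx']
    have e2 : zpowers (y : X) = K := by
      apply Subgroup.eq_of_le_of_card_ge (by rw [zpowers_le]; exact y.2)
      rw [hK, Nat.card_zpowers, hy']
    rw [← e1, ← e2, hxy]
  rcases H23.PQuat.cyclic_or_quaternion h2 huniq' with h | ⟨-, n, ⟨e⟩⟩
  · exact Or.inl (H19.AutTwo.isPGroup_mulAut_cyclic h2 h)
  · rcases Nat.lt_or_ge n 2 with hn | hn
    · interval_cases n
      · left
        have hc : IsCyclic (QuaternionGroup (2 ^ 0)) := by
          rw [pow_zero]
          exact QuaternionGroup.quaternionGroup_one_isCyclic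
        have hc' : IsCyclic X := e.isCyclic.2 hc
        exact H19.AutTwo.isPGroup_mulAut_cyclic h2 hc'
      · right
        rw [pow_one] at e
        exact ⟨e⟩
    · left
      exact (aut_quaternion n hn).of_equiv (MulAut.congr e).symm

section

variable {G : Type*} [Group G] [Finite G]

theorem quat_of_odd (huniq : ∀ x y : G, orderOf x = 2 → orderOf y = 2 → x = y) {Q : Subgroup G} (hQ : IsPGroup 2 Q)
    {g : G} (hg : g ∈ normalizer (Q : Set G)) (hodd : (orderOf g).Coprime 2) (hgC : g ∉ centralizer (Q : Set G)) :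
    Nonempty (Q ≃* QuaternionGroup 2) := by
  rcases dich hQ (by
    intro x y hx hy
    exact Subtype.ext (huniq x y (by rw [Subgroup.orderOf_coe, hx]) (by rw [Subgroup.orderOf_coe, hy]))) with h | h
  · exfalso
    apply hgC
    obtain ⟨k, hk⟩ := h (Q.normalizerMonoidHom ⟨g, hg⟩)
    rw [← map_pow] at hk
    have h1 : g ^ 2 ^ k ∈ centralizer (Q : Set G) := by
      rw [mem_centralizer_iff]
      intro q hq
      have h2 := congrArg Subtype.val (DFunLike.congr_fun hk ⟨q, hq⟩)
      change g ^ 2 ^ k * q * (g ^ 2 ^ k)⁻¹ = q at h2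
      exact (mul_inv_eq_iff_eq_mul.1 h2).symm
    have h2 := mem_zpowers_pow (g := g) (m := 2 ^ k) (Nat.Coprime.pow_right k hodd)
    exact (zpowers_le.2 h1) h2
  · exact h

open Cfsg.Agent.H10.Q8 in
theorem cube_centralizes {Q : Subgroup G} {t : G} (h : QD Q t) {g : G} (hg : g ∈ normalizer (Q : Set G))
    (hodd : (orderOf g).Coprime 2) : g ^ 3 ∈ centralizer (Q : Set G) := by
  have hg2 : ¬ 2 ∣ orderOf g := by
    intro h2
    have := Nat.dvd_gcd h2 (dvd_refl 2)
    rw [hodd] at this
    omega
  have hgt : Commute g t := h.comm_t (le_refl Q) hg h.ht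
  have hconj : ∀ x ∈ Q, g * x * g⁻¹ ∈ Q := fun x hx => (mem_normalizer_iff.1 hg x).1 hx
  have hsq : ∀ x, x * x = t → (g * x * g⁻¹) * (g * x * g⁻¹) = t := by
    intro x hx
    calc (g * x * g⁻¹) * (g * x * g⁻¹) = g * (x * x) * g⁻¹ := by group
      _ = t := by rw [hx, hgt.eq, mul_inv_cancel_right]
  have key : ∀ x ∈ Q, x * x = t → Commute (g ^ 3) x := by
    intro x hx hxt
    let y := g * x * g⁻¹
    have hy : y ∈ Q := hconj x hx
    have hyt : y * y = t := hsq x hxt
    by_cases h1 : y = x ∨ y = x * t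
    · exact (h.commute_of_approx hg2 hgt h1).pow_left 3
    push Not at h1
    let y' := g * y * g⁻¹
    have hy' : y' ∈ Q := hconj y hy
    have hyt' : y' * y' = t := hsq y hyt
    have hgodd : ∀ m : ℕ, ¬ 2 ∣ orderOf (g ^ m) := fun m h2 => hg2 (h2.trans (orderOf_pow_dvd m))
    rcases h.f3 x hx y hy y' hy' hxt hyt hyt' with e | e | e | e | e | e | e | e
    · exact absurd e h1.1
    · exact absurd e h1.2
    · -- y' = x
      exfalso
      have h2 : Commute (g ^ 2) x := h.commute_of_approx (hgodd 2) (hgt.pow_left 2) (Or.inl (by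
        calc g ^ 2 * x * (g ^ 2)⁻¹ = g * (g * x * g⁻¹) * g⁻¹ := by rw [pow_two]; group
          _ = y' := rfl
          _ = x := e))
      have h3 : Commute g x := by
        have h4 := mem_zpowers_pow (g := g) (m := 2) hodd
        obtain ⟨k, hk⟩ := h4
        have h5 : Commute ((g ^ 2) ^ k) x := h2.zpow_left k
        have h6 : (g ^ 2) ^ k = g := hk
        rwa [h6] at h5
      apply h1.1
      change g * x * g⁻¹ = x
      rw [h3.eq, mul_inv_cancel_right]
    · exfalso
      have h2 : Commute (g ^ 2) x := h.commute_of_approx (hgodd 2) (hgt.pow_left 2) (Or.inr (by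
        calc g ^ 2 * x * (g ^ 2)⁻¹ = g * (g * x * g⁻¹) * g⁻¹ := by rw [pow_two]; group
          _ = y' := rfl
          _ = x * t := e))
      have h3 : Commute g x := by
        have h4 := mem_zpowers_pow (g := g) (m := 2) hodd
        obtain ⟨k, hk⟩ := h4
        have h5 : Commute ((g ^ 2) ^ k) x := h2.zpow_left k
        have h6 : (g ^ 2) ^ k = g := hk
        rwa [h6] at h5
      apply h1.1
      change g * x * g⁻¹ = x
      rw [h3.eq, mul_inv_cancel_right]
    · exfalso
      have h2 := h.commute_of_approx hg2 hgt (Or.inl e : g * y * g⁻¹ = y ∨ g * y * g⁻¹ = y * t)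
      apply h1.1
      have h3 : g * x * g⁻¹ = y := rfl
      have h4 : x = g⁻¹ * y * g := by rw [← h3]; group
      rw [h4, mul_assoc, ← h2.eq, inv_mul_cancel_left]
    · exfalso
      have h2 := h.commute_of_approx hg2 hgt (Or.inr e : g * y * g⁻¹ = y ∨ g * y * g⁻¹ = y * t)
      apply h1.1
      have h3 : g * x * g⁻¹ = y := rfl
      have h4 : x = g⁻¹ * y * g := by rw [← h3]; group
      rw [h4, mul_assoc, ← h2.eq, inv_mul_cancel_left]
    · -- y' = x * y
      have h5 : y * x * y⁻¹ = x * t := by
        rcases h.f2 y hy x hx hyt hxt with e1 | e1 | e1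
        · exact absurd e1.symm h1.1
        · exfalso
          apply h1.2
          rw [e1, mul_assoc, h.tt, mul_one]
        · exact e1
      have h6 : g * y' * g⁻¹ = x := by
        have h7 : g * y' * g⁻¹ = y * y' := by
          rw [e]
          calc g * (x * y) * g⁻¹ = (g * x * g⁻¹) * (g * y * g⁻¹) := by group
            _ = y * y' := rfl
            _ = y * (x * y) := by rw [e]
        rw [h7, e]
        calc y * (x * y) = (y * x * y⁻¹) * (y * y) := by group
          _ = x := by rw [h5, hyt, mul_assoc, h.tt, mul_one]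
      apply h.commute_of_approx (hgodd 3) (hgt.pow_left 3)
      left
      calc g ^ 3 * x * (g ^ 3)⁻¹ = g * (g * (g * x * g⁻¹) * g⁻¹) * g⁻¹ := by
            rw [pow_succ, pow_two]; group
        _ = g * y' * g⁻¹ := rfl
        _ = x := h6
    · have h5 : y * x * y⁻¹ = x * t := by
        rcases h.f2 y hy x hx hyt hxt with e1 | e1 | e1
        · exact absurd e1.symm h1.1
        · exfalso
          apply h1.2
          rw [e1, mul_assoc, h.tt, mul_one]
        · exact e1
      have h6 : g * y' * g⁻¹ = x := by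
        have h7 : g * y' * g⁻¹ = y * y' * t := by
          rw [e]
          calc g * (x * y * t) * g⁻¹ = (g * x * g⁻¹) * (g * y * g⁻¹) * (g * t * g⁻¹) := by group
            _ = y * y' * (g * t * g⁻¹) := rfl
            _ = y * (x * y * t) * t := by rw [e, hgt.eq, mul_inv_cancel_right]
        rw [h7, e]
        calc y * (x * y * t) * t = (y * x * y⁻¹) * (y * y) * (t * t) := by group
          _ = x := by rw [h5, hyt, h.tt, mul_one, mul_assoc x t t, h.tt, mul_one]
      apply h.commute_of_approx (hgodd 3) (hgt.pow_left 3)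
      left
      calc g ^ 3 * x * (g ^ 3)⁻¹ = g * (g * (g * x * g⁻¹) * g⁻¹) * g⁻¹ := by
            rw [pow_succ, pow_two]; group
        _ = g * y' * g⁻¹ := rfl
        _ = x := h6
  rw [mem_centralizer_iff]
  intro x hx
  rcases h.cs x hx with e | e | e
  · rw [e, one_mul, mul_one]
  · rw [e]; exact (hgt.pow_left 3).eq.symm
  · exact (key x hx e).eq.symm

end

end Cfsg.Agent.H9.TwoComp
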