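import Mathlib
import Cfsg.Agent.H9_TwoComp
import Cfsg.Agent.H4_Transfer
import Cfsg.Agent.H23_ZAction

/-!
# Index two subgroups of two-point stabilisers
-/

set_option autoImplicit false

namespace Cfsg.Agent.H9.TwoMain

open Cfsg Subgroup Cfsg.Agent.H9.TwoComp

section

variable {X : Type*} [Group X] [Finite X]

theorem big (σ : MulAut X) (z : X) (hz : orderOf z = 2)
    (hfix : ∀ x, σ x = x → x = 1 ∨ x = z) (hσ2 : ∀ x, σ (σ x) = x) :
    (∃ N : Subgroup X, N.index = 2 ∧ ∀ n ∈ N, σ n = n⁻¹) ∨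
      ∀ M : Subgroup X, (∀ x, x⁻¹ * σ x ∈ M) → M = ⊤ := by
  classical
  haveI := Fintype.ofFinite X
  let M : Subgroup X := closure (Set.range (fun x : X => x⁻¹ * σ x))
  have hM : ∀ x, x⁻¹ * σ x ∈ M := fun x => subset_closure ⟨x, rfl⟩
  let R : Finset X := Finset.univ.image (fun x : X => x⁻¹ * σ x)
  have hcard : Fintype.card X ≤ 2 * R.card := by
    rw [← Finset.card_univ]
    apply Finset.card_le_mul_card_image
    intro b hb
    rw [Finset.mem_image] at hb
    obtain ⟨y, -, rfl⟩ := hb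
    have : (Finset.univ.filter (fun x : X => x⁻¹ * σ x = y⁻¹ * σ y)) ⊆ {y, z⁻¹ * y} := by
      intro x hx
      rw [Finset.mem_filter] at hx
      have h1 : σ (y * x⁻¹) = y * x⁻¹ := by
        rw [map_mul, map_inv]
        have h2 : σ x = x * (y⁻¹ * σ y) := by rw [← hx.2]; group
        rw [h2]; group
      rw [Finset.mem_insert, Finset.mem_singleton]
      rcases hfix _ h1 with h | h
      · left; exact (mul_inv_eq_one.1 h).symm
      · right; rw [← h]; group
    exact (Finset.card_le_card this).trans Finset.card_le_two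
  have hRM : ∀ x ∈ R, x ∈ M := by
    intro x hx
    rw [Finset.mem_image] at hx
    obtain ⟨y, -, rfl⟩ := hx
    exact hM y
  have hRsub : (R : Set X) ⊆ (M : Set X) := fun x hx => hRM x hx
  have hRle : R.card ≤ Nat.card M := by
    rw [← Set.ncard_coe_finset]
    exact Set.ncard_le_ncard hRsub (Set.toFinite _)
  have hidx : M.index ≤ 2 := by
    have h1 := M.card_mul_index
    rw [Nat.card_eq_fintype_card (α := X)] at h1
    have h2 : 0 < Nat.card M := Nat.card_pos
    by_contra hcon
    push Not at hcon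
    have : Nat.card M * 3 ≤ Nat.card M * M.index := Nat.mul_le_mul_left _ hcon
    omega
  have hidx0 : M.index ≠ 0 := Subgroup.index_ne_zero_of_finite
  rcases (show M.index = 1 ∨ M.index = 2 by omega) with h | h
  · right
    intro N hN
    rw [Subgroup.index_eq_one] at h
    rw [eq_top_iff, ← h, closure_le]
    rintro _ ⟨x, rfl⟩
    exact hN x
  · left
    refine ⟨M, h, ?_⟩
    have h1 := M.card_mul_index
    rw [Nat.card_eq_fintype_card (α := X), h] at h1
    have h2 : (R : Set X) = (M : Set X) := by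
      apply Set.eq_of_subset_of_ncard_le hRsub _ (Set.toFinite _)
      rw [Set.ncard_coe_finset]
      change Nat.card M ≤ _
      omega
    intro n hn
    have h3 : n ∈ (R : Set X) := by rw [h2]; exact hn
    rw [Finset.mem_coe, Finset.mem_image] at h3
    obtain ⟨y, -, rfl⟩ := h3
    rw [map_mul, map_inv, hσ2]
    group

theorem no_index_two (σ : MulAut X) (hσ2 : ∀ x, σ (σ x) = x)
    (htop : ∀ M : Subgroup X, (∀ x, x⁻¹ * σ x ∈ M) → M = ⊤) (N : Subgroup X) : N.index ≠ 2 := by
  intro hN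
  have hmul : ∀ a b : X, a * b ∈ N ↔ (a ∈ N ↔ b ∈ N) := fun a b => Subgroup.mul_mem_iff_of_index_two hN
  let N' : Subgroup X :=
    { carrier := {x | x ∈ N ↔ σ x ∈ N}
      mul_mem' := by
        intro a b ha hb
        simp only [Set.mem_setOf_eq, map_mul, hmul] at ha hb ⊢
        tauto
      one_mem' := by simp only [Set.mem_setOf_eq, map_one]
      inv_mem' := by
        intro a ha
        simp only [Set.mem_setOf_eq, map_inv, inv_mem_iff] at ha ⊢
        exact ha }
  have h1 : N' = ⊤ := by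
    apply htop
    intro x
    change x⁻¹ * σ x ∈ N ↔ σ (x⁻¹ * σ x) ∈ N
    rw [map_mul, map_inv, hσ2, hmul, hmul, inv_mem_iff, inv_mem_iff]
    tauto
  have h2 : N = ⊤ := by
    apply htop
    intro x
    have h3 : x ∈ N' := by rw [h1]; trivial
    have h4 : x ∈ N ↔ σ x ∈ N := h3
    rw [hmul, inv_mem_iff]
    exact h4
  rw [h2, index_top] at hN
  omega

theorem odd_central (σ : MulAut X) (hσ2 : ∀ x, σ (σ x) = x) (z : X) (hz : orderOf z = 2)
    (hfix : ∀ x, σ x = x → x = 1 ∨ x = z)
    (htop : ∀ M : Subgroup X, (∀ x, x⁻¹ * σ x ∈ M) → M = ⊤) (O : Subgroup X) (hO : ¬ 2 ∣ Nat.card O)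
    (hn : ∀ x : X, ∀ o ∈ O, x * o * x⁻¹ ∈ O) (hσO : ∀ o ∈ O, σ o ∈ O) : ∀ o ∈ O, ∀ x : X, x * o = o * x := by
  have hinv : ∀ o ∈ O, σ o = o⁻¹ := by
    intro x hx
    let φ : O → O := fun k => ⟨(k : X)⁻¹ * σ k, O.mul_mem (O.inv_mem k.2) (hσO k k.2)⟩
    have hφ : Function.Injective φ := by
      intro k l hkl
      have h1 : (k : X)⁻¹ * σ k = (l : X)⁻¹ * σ l := congrArg Subtype.val hkl
      have h2 : σ ((l : X) * (k : X)⁻¹) = (l : X) * (k : X)⁻¹ := by
        rw [map_mul, map_inv]
        have h2 : σ k = k * ((l : X)⁻¹ * σ l) := by rw [← h1]; group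
        rw [h2]; group
      rcases hfix _ h2 with h | h
      · exact Subtype.ext (mul_inv_eq_one.1 h).symm
      · exfalso
        apply hO
        have h3 : z ∈ O := by rw [← h]; exact O.mul_mem l.2 (O.inv_mem k.2)
        have h4 := orderOf_dvd_natCard (⟨z, h3⟩ : O)
        rwa [Subgroup.orderOf_mk, hz] at h4
    obtain ⟨k, hk⟩ := (Finite.injective_iff_surjective.mp hφ) ⟨x, hx⟩
    have h1 : (k : X)⁻¹ * σ k = x := congrArg Subtype.val hk
    rw [← h1, map_mul, map_inv, hσ2]; group
  intro o ho x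
  have h1 : centralizer (O : Set X) = ⊤ := by
    apply htop
    intro x
    rw [mem_centralizer_iff]
    intro o ho
    have h2 := hinv _ (hn x o⁻¹ (O.inv_mem ho))
    rw [map_mul, map_mul, map_inv, map_inv, hinv o ho, inv_inv] at h2
    have h3 : σ x * o = x * o * x⁻¹ * σ x := by
      have h4 : σ x * o = (x * o⁻¹ * x⁻¹)⁻¹ * σ x := by rw [← h2]; group
      rw [h4]; group
    rw [mul_assoc, h3]; group
  have h2 : x ∈ centralizer (O : Set X) := by rw [h1]; trivial
  rw [mem_centralizer_iff] at h2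
  exact (h2 o ho).symm

end

end Cfsg.Agent.H9.TwoMain
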