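import Mathlib
import Cfsg.Agent.H9_TwoMain
import Cfsg.Agent.H2_Fusion3

/-!
# Index two subgroups of two-point stabilisers
-/

set_option autoImplicit false

namespace Cfsg.Agent.H9.TwoMain

open Cfsg Subgroup Cfsg.Agent.H9.TwoComp

section

variable {X : Type*} [Group X] [Finite X]

theorem three_central (hno : ∀ N : Subgroup X, N.index ≠ 2)
    (h3 : ∀ A B : Subgroup X, Nat.card A = 3 → Nat.card B = 3 → A = B)
    {A : Subgroup X} (hA : Nat.card A = 3) : ∀ a ∈ A, ∀ x : X, x * a = a * x := by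
  have hAn : A.Normal := by
    refine ⟨fun a ha x => ?_⟩
    have h1 : A.map (MulAut.conj x).toMonoidHom = A := h3 _ _ (by
      rw [Subgroup.card_map_of_injective (MulAut.conj x).injective, hA]) hA
    rw [← h1]; exact ⟨a, ha, rfl⟩
  haveI : Fact (Nat.Prime 3) := ⟨Nat.prime_three⟩
  haveI : IsCyclic A := isCyclic_of_prime_card hA
  have h2 : IsPGroup 2 (MulAut A) := IsPGroup.of_card (n := 1) (by
    rw [IsCyclic.card_mulAut, hA]; decide)
  intro a ha x
  by_contra hne
  obtain ⟨K, hK⟩ := H4.Transfer.exists_index_two_of_hom (MulAut.conjNormal (H := A)) (h2.to_subgroup _) x (by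
    intro h
    have h4 := congrArg Subtype.val (DFunLike.congr_fun h ⟨a, ha⟩)
    rw [MulAut.conjNormal_apply] at h4
    change x * a * x⁻¹ = a at h4
    exact hne (mul_inv_eq_iff_eq_mul.1 h4))
  exact hno K hK

theorem npc3 (hno : ∀ N : Subgroup X, N.index ≠ 2)
    (h3 : ∀ A B : Subgroup X, Nat.card A = 3 → Nat.card B = 3 → A = B)
    (hcyc : ∀ P : Subgroup X, IsPGroup 3 P → IsCyclic P) : HasNormalPComplement 3 X := by
  haveI : Fact (Nat.Prime 3) := ⟨Nat.prime_three⟩
  apply H2.Fusion3.npc_of_frobenius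
  intro Q hQ g hg hco
  haveI := hcyc Q hQ
  by_cases hb : Q = ⊥
  · rw [mem_centralizer_iff]
    intro q hq
    rw [hb] at hq
    have : q = 1 := hq
    rw [this, one_mul, mul_one]
  · have hnt : Nontrivial Q := (Subgroup.nontrivial_iff_ne_bot Q).2 hb
    have hd : 3 ∣ Nat.card Q := by
      obtain ⟨n, hn⟩ := IsPGroup.iff_card.1 hQ
      rw [hn]
      apply dvd_pow_self
      rintro rfl
      have := Finite.one_lt_card (α := Q)
      omega
    obtain ⟨a, ha⟩ := exists_prime_orderOf_dvd_card' 3 hd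
    have ha' : Nat.card (zpowers (a : X)) = 3 := by rw [Nat.card_zpowers, Subgroup.orderOf_coe, ha]
    have hc := three_central hno h3 ha' a (mem_zpowers _)
    have h5 := H23.ZAction.cyclic_pgroup_action (A := zpowers g) (P := Q) hQ (zpowers_le.2 hg) (by
      rw [Nat.card_zpowers]
      obtain ⟨n, hn⟩ := IsPGroup.iff_card.1 hQ
      rw [hn]
      exact Nat.Coprime.pow_right n hco) (by
        intro h
        have h6 : (a : X) ∈ Q ⊓ centralizer (zpowers g : Set X) := ⟨a.2, by
          change (a : X) ∈ centralizer _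
          rw [mem_centralizer_iff]
          exact fun x _ => hc x⟩
        rw [h, mem_bot] at h6
        rw [← Subgroup.orderOf_coe, h6, orderOf_one] at ha
        omega)
    rw [mem_centralizer_iff]
    intro q hq
    have := h5 hq
    rw [mem_centralizer_iff] at this
    exact (this g (mem_zpowers g)).symm

theorem exists_fusion (hno : ∀ N : Subgroup X, N.index ≠ 2) (z : X) (hz : orderOf z = 2) :
    ∃ Q : Subgroup X, IsPGroup 2 Q ∧ ∃ g ∈ normalizer (Q : Set X), (orderOf g).Coprime 2 ∧
      g ∉ centralizer (Q : Set X) := by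
  haveI : Fact (Nat.Prime 2) := ⟨Nat.prime_two⟩
  by_contra hcon
  push Not at hcon
  have h := H2.Fusion3.npc_of_frobenius (p := 2) (G := X) hcon
  obtain ⟨N, hN, hc, k, hk⟩ := H2.Basic.npc_iff.1 h
  have h1 : z ∉ N := by
    intro h2
    apply hc
    rw [← hz, ← Subgroup.orderOf_mk z h2]
    exact orderOf_dvd_natCard _
  obtain ⟨K, hK⟩ := H4.Transfer.exists_index_two_of_hom (QuotientGroup.mk' N) (by
    apply IsPGroup.to_subgroup
    exact IsPGroup.of_card (n := k) (by rw [← hk]; rfl)) z (by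
      intro h2
      exact h1 ((QuotientGroup.eq_one_iff z).1 h2))
  exact hno K hK

/-- arithmetic -/
theorem arith {n m c i : ℕ} (h1 : n + 1 = m ^ 2) (h2 : c * i = n) (h3 : c ∣ m - 1) (h4 : 12 ∣ i) (h5 : i ≤ 35)
    (h9 : 9 ∣ n) (hn : 0 < n) : False := by
  obtain ⟨k, hk⟩ := h3
  have hm : 1 < m := by
    by_contra h
    have : m = 0 ∨ m = 1 := by omega
    rcases this with h | h <;> subst h <;> omega
  have hc : 0 < c := by
    rcases Nat.eq_zero_or_pos c with h | h
    · rw [h, zero_mul] at h2; omega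
    · exact h
  have h6 : n = (m - 1) * (m + 1) := by
    obtain ⟨t, rfl⟩ : ∃ t, m = t + 1 := ⟨m - 1, by omega⟩
    rw [Nat.add_sub_cancel]
    have : n + 1 = t * (t + 1 + 1) + 1 := by rw [h1]; ring
    omega
  have h7 : i = k * (m + 1) := by
    rw [hk, mul_assoc, ← h2] at h6
    exact Nat.eq_of_mul_eq_mul_left hc h6
  have hk0 : 0 < k := by
    rcases Nat.eq_zero_or_pos k with h | h
    · rw [h] at hk; omega
    · exact h
  have h8 : m + 1 ∣ i := ⟨k, by rw [h7, mul_comm]⟩
  have hi : i = 12 ∨ i = 24 := by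
    obtain ⟨j, hj⟩ := h4
    have : 0 < i := by rw [h7]; positivity
    omega
  have hm35 : m + 1 ≤ 24 := by
    have := Nat.le_of_dvd (by omega) h8
    omega
  have h10 : m + 1 ∣ 24 := by
    rcases hi with h | h
    · rw [h] at h8; exact h8.trans (by norm_num)
    · rwa [h] at h8
  have hn' : n = m ^ 2 - 1 := by omega
  have hm23 : m ≤ 23 := by omega
  clear h1 h2 h4 h5 hk h6 h7 h8 hi hk0 hc hm35
  interval_cases m <;> omega

end

end Cfsg.Agent.H9.TwoMain
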