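import Mathlib
import Cfsg.Agent.H9_TwoMain2

/-!
# Index two subgroups of two-point stabilisers
-/

set_option autoImplicit false

namespace Cfsg.Agent.H9.TwoMain

open Cfsg Subgroup Cfsg.Agent.H9.TwoComp

section

variable {X : Type*} [Group X] [Finite X]

theorem npcU (huniq : ∀ x y : X, orderOf x = 2 → orderOf y = 2 → x = y) (U : Subgroup X)
    (hU : ∀ x : X, x ∈ U ↔ (orderOf x).Coprime 3) : HasNormalPComplement 2 U := by
  haveI : Fact (Nat.Prime 2) := ⟨Nat.prime_two⟩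
  apply H2.Fusion3.npc_of_frobenius
  intro Q hQ g hg hco
  by_contra hC
  have huU : ∀ x y : U, orderOf x = 2 → orderOf y = 2 → x = y := by
    intro x y hx hy
    exact Subtype.ext (huniq x y (by rw [Subgroup.orderOf_coe, hx]) (by rw [Subgroup.orderOf_coe, hy]))
  obtain ⟨e⟩ := quat_of_odd huU hQ hg hco hC
  obtain ⟨t, ht⟩ := H10.Q8.QD.of_equiv e
  have h1 := cube_centralizes ht hg hco
  have h2 : (orderOf g).Coprime 3 := by
    rw [← Subgroup.orderOf_coe]
    exact (hU g).1 g.2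
  have h3 := mem_zpowers_pow h2
  exact hC ((zpowers_le.2 h1) h3)

/-- the subgroup of 2-elements -/
theorem exists_T (U O : Subgroup X) (hU : ∀ x : X, x ∈ U ↔ (orderOf x).Coprime 3)
    (O' : Subgroup U) [O'.Normal] (hO : O = O'.map U.subtype) (hc : ¬ 2 ∣ Nat.card O') {k : ℕ} (hk : O'.index = 2 ^ k)
    (hcent : ∀ o ∈ O, ∀ x : X, x * o = o * x) :
    ∃ T : Subgroup X, ∀ x, x ∈ T ↔ ∃ n : ℕ, x ^ 2 ^ n = 1 := by
  haveI : Fact (Nat.Prime 2) := ⟨Nat.prime_two⟩
  obtain ⟨P⟩ : Nonempty (Sylow 2 U) := inferInstance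
  have hcomp := H2.Basic.isComplement'_sylow P hc hk
  refine ⟨(P : Subgroup U).map U.subtype, fun x => ⟨?_, ?_⟩⟩
  · rintro ⟨y, hy, rfl⟩
    obtain ⟨n, hn⟩ := P.isPGroup' ⟨y, hy⟩
    refine ⟨n, ?_⟩
    have h1 := congrArg Subtype.val hn
    have h2 := congrArg Subtype.val h1
    exact h2
  · rintro ⟨n, hn⟩
    have h1 : (orderOf x).Coprime 3 := by
      apply Nat.Coprime.coprime_dvd_left (orderOf_dvd_of_pow_eq_one hn)
      exact Nat.Coprime.pow_left n (by norm_num)
    have h2 := (hU x).2 h1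
    obtain ⟨⟨o, t⟩, hot⟩ := hcomp.2 ⟨x, h2⟩
    obtain ⟨l, hl⟩ := P.isPGroup' t
    have hox : x = ((o : U) : X) * ((t : U) : X) := (congrArg Subtype.val hot).symm
    have hoc := hcent ((o : U) : X) (by rw [hO]; exact ⟨o, o.2, rfl⟩)
    have hl' : ((t : U) : X) ^ 2 ^ l = 1 := congrArg Subtype.val (congrArg Subtype.val hl)
    have h3 : ((o : U) : X) ^ 2 ^ (n + l) = 1 := by
      have h4 : x ^ 2 ^ (n + l) = 1 := by rw [pow_add, pow_mul, hn, one_pow]
      have h5 : ((t : U) : X) ^ 2 ^ (n + l) = 1 := by rw [pow_add, mul_comm, pow_mul, hl', one_pow]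
      rw [hox, (show Commute ((o : U) : X) ((t : U) : X) from (hoc _).symm).mul_pow, h5, mul_one] at h4
      exact h4
    have h4 : (o : U) = 1 := by
      have h6 : orderOf ((o : U) : X) ∣ 2 ^ (n + l) := orderOf_dvd_of_pow_eq_one h3
      have h7 : orderOf ((o : U) : X) ∣ Nat.card O' := by
        rw [Subgroup.orderOf_coe, Subgroup.orderOf_coe]
        exact orderOf_dvd_natCard _
      have h8 : (Nat.card O').Coprime (2 ^ (n + l)) :=
        Nat.Coprime.pow_right _ ((Nat.Prime.coprime_iff_not_dvd Nat.prime_two).2 hc).symm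
      have h9 := Nat.dvd_gcd h7 h6
      rw [h8] at h9
      have h10 := orderOf_eq_one_iff.1 (Nat.dvd_one.1 h9)
      exact Subtype.ext h10
    refine ⟨(t : U), t.2, ?_⟩
    rw [hox, h4]
    simp

end

end Cfsg.Agent.H9.TwoMain
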