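import Mathlib
import Cfsg.Agent.H9_TwoMain3

/-!
# Index two subgroups of two-point stabilisers
-/

set_option autoImplicit false

namespace Cfsg.Agent.H9.TwoMain

open Cfsg Subgroup Cfsg.Agent.H9.TwoComp

section

variable {X : Type*} [Group X] [Finite X]

theorem main (σ : MulAut X) (hσ2 : ∀ x, σ (σ x) = x) (z : X) (hz : orderOf z = 2)
    (hu : ∀ y, orderOf y = 2 → y = z) (hfix : ∀ x, σ x = x → x = 1 ∨ x = z)
    (h3 : ∀ A B : Subgroup X, Nat.card A = 3 → Nat.card B = 3 → A = B)
    (hcyc : ∀ P : Subgroup X, IsPGroup 3 P → IsCyclic P)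
    (hnum : ∀ i j : X, i * i = z → j * j = z → i * j = z * (j * i) →
      ∃ m, Nat.card X + 1 = m ^ 2 ∧ Nat.card (centralizer ({i, j} : Set X)) ∣ m - 1) :
    ∃ N : Subgroup X, N.index = 2 ∧ ∀ n ∈ N, σ n = n⁻¹ := by
  classical
  rcases big σ z hz hfix hσ2 with h | htop
  · exact h
  exfalso
  haveI : Fact (Nat.Prime 2) := ⟨Nat.prime_two⟩
  haveI : Fact (Nat.Prime 3) := ⟨Nat.prime_three⟩
  have hno := no_index_two σ hσ2 htop
  have huniq : ∀ x y : X, orderOf x = 2 → orderOf y = 2 → x = y := fun x y hx hy => (hu x hx).trans (hu y hy).symm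
  have hzc : ∀ x : X, x * z = z * x := by
    intro x
    have := hu (x * z * x⁻¹) (by rw [H10.PPart.orderOf_conj, hz])
    rwa [mul_inv_eq_iff_eq_mul] at this
  obtain ⟨Q, hQ, g0, hg0, hg0o, hg0C⟩ := exists_fusion hno z hz
  obtain ⟨eQ⟩ := quat_of_odd huniq hQ hg0 hg0o hg0C
  obtain ⟨t0, hQD0⟩ := H10.Q8.QD.of_equiv eQ
  have hcube := cube_centralizes hQD0 hg0 hg0o
  obtain ⟨a, m0, hm0, hgm⟩ := Nat.exists_eq_pow_mul_and_not_dvd (orderOf_pos g0).ne' 3 (by norm_num)
  obtain ⟨g, hg⟩ : ∃ g, g = g0 ^ m0 := ⟨_, rfl⟩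
  have hgC : g ∉ centralizer (Q : Set X) := by
    intro h
    rw [hg] at h
    apply hg0C
    have h1 := Nat.div_add_mod m0 3
    have h2 : m0 % 3 = 1 ∨ m0 % 3 = 2 := by omega
    rw [← h1, pow_add, pow_mul] at h
    have h4 := ((centralizer (Q : Set X)).mul_mem_cancel_left (pow_mem hcube (m0 / 3))).1 h
    rcases h2 with h2 | h2
    · rwa [h2, pow_one] at h4
    · rw [h2] at h4
      have h5 := (centralizer (Q : Set X)).mul_mem hcube (inv_mem h4)
      have h6 : g0 ^ 3 * (g0 ^ 2)⁻¹ = g0 := by
        rw [pow_succ', mul_assoc, mul_inv_cancel, mul_one]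
      rwa [h6] at h5
  have hgN : g ∈ normalizer (Q : Set X) := by rw [hg]; exact pow_mem hg0 _
  have hg3 : g ^ 3 ^ a = 1 := by
    rw [hg, ← pow_mul, mul_comm, ← hgm, pow_orderOf_eq_one]
  have hgo : orderOf g ∣ 3 ^ a := orderOf_dvd_of_pow_eq_one hg3
  have hg1 : g ≠ 1 := by
    rintro rfl
    exact hgC (one_mem _)
  have h3g : 3 ∣ orderOf g := by
    obtain ⟨b, hb, hb'⟩ := (Nat.dvd_prime_pow Nat.prime_three).1 hgo
    rw [hb']
    apply dvd_pow_self
    rintro rfl
    rw [pow_zero, orderOf_eq_one_iff] at hb'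
    exact hg1 hb'
  have hgo2 : (orderOf g).Coprime 2 := by
    apply Nat.Coprime.coprime_dvd_left hgo
    exact Nat.Coprime.pow_left _ (by norm_num)
  -- the subgroup of order three
  obtain ⟨a0, ha0⟩ := exists_prime_orderOf_dvd_card' (G := X) 3 (h3g.trans (orderOf_dvd_natCard g))
  have hA : Nat.card (zpowers a0) = 3 := by rw [Nat.card_zpowers, ha0]
  have hAc := three_central hno h3 hA a0 (mem_zpowers _)
  -- the normal 3-complement
  obtain ⟨U, hUn, hUc, k, hk⟩ := H2.Basic.npc_iff.1 (npc3 hno h3 hcyc)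
  have hU : ∀ x : X, x ∈ U ↔ (orderOf x).Coprime 3 := H2.Basic.mem_npc_iff hUc hk
  obtain ⟨O', hO'n, hO'c, k', hk'⟩ := H2.Basic.npc_iff.1 (npcU huniq U hU)
  have hO' : ∀ x : U, x ∈ O' ↔ (orderOf x).Coprime 2 := H2.Basic.mem_npc_iff hO'c hk'
  obtain ⟨O, hO⟩ : ∃ O : Subgroup X, O = O'.map U.subtype := ⟨_, rfl⟩
  have hmemO : ∀ x : X, x ∈ O ↔ (orderOf x).Coprime 3 ∧ (orderOf x).Coprime 2 := by
    intro x
    rw [hO]
    constructor
    · rintro ⟨y, hy, rfl⟩
      refine ⟨(hU _).1 y.2, ?_⟩
      change (orderOf (y : X)).Coprime 2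
      rw [Subgroup.orderOf_coe]
      exact (hO' y).1 hy
    · rintro ⟨h1, h2⟩
      refine ⟨⟨x, (hU x).2 h1⟩, (hO' _).2 ?_, rfl⟩
      rw [Subgroup.orderOf_mk]
      exact h2
  have hOc : ∀ o ∈ O, ∀ x : X, x * o = o * x := by
    apply odd_central σ hσ2 z hz hfix htop O
    · rw [hO, Subgroup.card_map_of_injective U.subtype_injective]
      exact hO'c
    · intro x o ho
      rw [hmemO] at ho ⊢
      rwa [H10.PPart.orderOf_conj]
    · intro o ho
      rw [hmemO] at ho ⊢
      rwa [MulEquiv.orderOf_eq]
  obtain ⟨T, hT⟩ := exists_T U O hU O' hO hO'c hk' hOc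
  have hTn : T.Normal := by
    refine ⟨fun t ht x => ?_⟩
    rw [hT] at ht ⊢
    obtain ⟨n, hn⟩ := ht
    exact ⟨n, by rw [conj_pow, hn, mul_one, mul_inv_cancel]⟩
  have hTp : IsPGroup 2 T := by
    rintro ⟨t, ht⟩
    obtain ⟨n, hn⟩ := (hT t).1 ht
    exact ⟨n, Subtype.ext hn⟩
  have hQT : Q ≤ T := by
    intro q hq
    rw [hT]
    obtain ⟨n, hn⟩ := hQ ⟨q, hq⟩
    exact ⟨n, congrArg Subtype.val hn⟩
  have hgCT : g ∉ centralizer (T : Set X) := fun h => hgC (centralizer_le hQT h)
  have hgNT : g ∈ normalizer (T : Set X) := by rw [normalizer_eq_top]; trivial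
  obtain ⟨eT⟩ := quat_of_odd huniq hTp hgNT hgo2 hgCT
  obtain ⟨t1, hD⟩ := H10.Q8.QD.of_equiv eT
  have ht1 : t1 = z := hu t1 hD.t_order
  subst ht1
  obtain ⟨i, hi, j, hj, hii, hjj, hne1, hne2⟩ := hD.f4
  have hij : i * j = t1 * (j * i) := by
    rcases hD.f2 i hi j hj hii hjj with h | h | h
    · exact absurd h hne1
    · exact absurd h hne2
    · rw [mul_inv_eq_iff_eq_mul, mul_assoc, ← hzc, ← mul_assoc] at h
      rw [h, hzc]
  obtain ⟨m, hm, hC⟩ := hnum i j hii hjj hij
  obtain ⟨C, hCdef⟩ : ∃ C, C = centralizer (T : Set X) := ⟨_, rfl⟩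
  have hCeq : centralizer ({i, j} : Set X) = C := by
    rw [hCdef]
    apply le_antisymm
    · intro x hx
      rw [mem_centralizer_iff] at hx ⊢
      have hxi : i * x = x * i := hx i (by simp)
      have hxj : j * x = x * j := hx j (by simp)
      have hxt : t1 * x = x * t1 := (hzc x).symm
      intro y hy
      have hcc : ∀ u v : X, u * x = x * u → v * x = x * v → (u * v) * x = x * (u * v) := by
        intro u v hu hv
        rw [mul_assoc, hv, ← mul_assoc, hu, mul_assoc]
      rcases hD.cs y hy with h | h | h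
      · rw [h, one_mul, mul_one]
      · rw [h]; exact hxt
      · rcases hD.f3 i hi j hj y hy hii hjj h with h | h | h | h | h | h | h | h
        · exact absurd h hne1
        · exact absurd h hne2
        · rw [h]; exact hxi
        · rw [h]; exact hcc _ _ hxi hxt
        · rw [h]; exact hxj
        · rw [h]; exact hcc _ _ hxj hxt
        · rw [h]; exact hcc _ _ hxi hxj
        · rw [h]; exact hcc _ _ (hcc _ _ hxi hxj) hxt
    · apply centralizer_le
      intro x hx
      rcases hx with h | h
      · rw [h]; exact hi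
      · rw [Set.mem_singleton_iff] at h; rw [h]; exact hj
  rw [hCeq] at hC
  have hCn : C.Normal := by rw [hCdef]; infer_instance
  -- index bounds
  have h4 : 4 ∣ C.index := by
    have h1 : C.relIndex T ∣ C.index := Subgroup.relIndex_dvd_index_of_normal C T
    have h2 : Nat.card (C ⊓ T : Subgroup X) = 2 := by
      have h5 : C ⊓ T = zpowers t1 := by
        apply le_antisymm
        · rintro x ⟨hx1, hx2⟩
          change x ∈ C at hx1
          rw [← hCeq, mem_centralizer_iff] at hx1
          have hxi : i * x = x * i := hx1 i (by simp)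
          have hxj : j * x = x * j := hx1 j (by simp)
          rcases hD.cs x hx2 with h | h | h
          · rw [h]; exact one_mem _
          · rw [h]; exact mem_zpowers _
          · exfalso
            -- x commutes with i and j
            have h6 : ∀ y ∈ T, y * y = t1 → x * y * x⁻¹ = y → x = y ∨ x = y * t1 := by
              intro y hy hyy hxy
              rcases hD.f2 x hx2 y hy h hyy with h7 | h7 | h7
              · exact Or.inl h7.symm
              · right; rw [h7, mul_assoc, hD.tt, mul_one]
              · exfalso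
                rw [hxy] at h7
                exact hD.t1 (by simpa using h7.symm)
            have h7 := h6 i hi hii (by rw [← hxi, mul_inv_cancel_right])
            have h8 := h6 j hj hjj (by rw [← hxj, mul_inv_cancel_right])
            rcases h7 with h7 | h7 <;> rcases h8 with h8 | h8
            · exact hne1 (h8.symm.trans h7)
            · apply hne2
              rw [← h7, h8, mul_assoc, hD.tt, mul_one]
            · exact hne2 (h8.symm.trans h7)
            · exact hne1 (mul_right_cancel (h8.symm.trans h7))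
        · rw [zpowers_le]
          refine ⟨?_, hD.ht⟩
          change t1 ∈ C
          rw [hCdef, mem_centralizer_iff]
          exact fun y _ => hzc y
      rw [h5, Nat.card_zpowers, hz]
    have h3 : Nat.card (C ⊓ T : Subgroup X) * C.relIndex T = Nat.card T := by
      rw [← inf_relIndex_right]
      have h6 := relIndex_mul_relIndex (⊥ : Subgroup X) (C ⊓ T) T bot_le inf_le_right
      rwa [relIndex_bot_left, relIndex_bot_left] at h6
    rw [h2, hD.card] at h3
    have : C.relIndex T = 4 := by omega
    rwa [this] at h1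
  have h3i : 3 ∣ C.index := by
    have h1 : orderOf (QuotientGroup.mk' C g) ∣ 3 ^ a := (orderOf_map_dvd _ _).trans hgo
    obtain ⟨b, hb, hb'⟩ := (Nat.dvd_prime_pow Nat.prime_three).1 h1
    have hb0 : b ≠ 0 := by
      rintro rfl
      rw [pow_zero, orderOf_eq_one_iff] at hb'
      apply hgCT
      rw [← hCdef]
      exact (QuotientGroup.eq_one_iff g).1 hb'
    have h2 : orderOf (QuotientGroup.mk' C g) ∣ C.index := orderOf_dvd_natCard _
    rw [hb'] at h2
    exact (dvd_pow_self 3 hb0).trans h2
  have h12 : 12 ∣ C.index := by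
    have := Nat.Coprime.mul_dvd_of_dvd_of_dvd (show Nat.Coprime 4 3 by norm_num) h4 h3i
    exact this
  have h9 : 9 ∣ Nat.card X := by
    rw [← C.card_mul_index]
    have h1 : 3 ∣ Nat.card C := by
      have h2 : a0 ∈ C := by
        rw [hCdef, mem_centralizer_iff]
        exact fun y _ => hAc y
      have h3 := orderOf_dvd_natCard (⟨a0, h2⟩ : C)
      rwa [Subgroup.orderOf_mk, ha0] at h3
    exact mul_dvd_mul h1 h3i
  have hle : C.index ≤ 35 := by
    haveI := Fintype.ofFinite X
    let S4 : Finset X := Finset.univ.filter (fun x => x ∈ T ∧ x * x = t1)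
    have hS4 : S4.card = 6 := by
      have h1 : insert 1 (insert t1 S4) = Finset.univ.filter (fun x => x ∈ T) := by
        ext x
        simp only [S4, Finset.mem_insert, Finset.mem_filter, Finset.mem_univ, true_and]
        constructor
        · rintro (h | h | h)
          · rw [h]; exact one_mem _
          · rw [h]; exact hD.ht
          · exact h.1
        · intro h
          rcases hD.cs x h with h' | h' | h'
          · exact Or.inl h'
          · exact Or.inr (Or.inl h')
          · exact Or.inr (Or.inr ⟨h, h'⟩)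
      have h2 : (Finset.univ.filter (fun x => x ∈ T)).card = 8 := by
        rw [← hD.card, Nat.card_eq_fintype_card, Fintype.card_subtype]
      rw [← h1, Finset.card_insert_of_notMem, Finset.card_insert_of_notMem] at h2
      · omega
      · simp only [S4, Finset.mem_filter, Finset.mem_univ, true_and, not_and]
        intro _ h
        rw [hD.tt] at h
        exact hD.t1 h.symm
      · simp only [S4, Finset.mem_insert, Finset.mem_filter, Finset.mem_univ, true_and, not_or, not_and]
        refine ⟨hD.t1.symm, fun _ h => ?_⟩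
        rw [mul_one] at h
        exact hD.t1 h.symm
    let W : Finset (X × X) := (S4 ×ˢ S4).erase (i, i)
    have hiS : i ∈ S4 := by simp only [S4, Finset.mem_filter, Finset.mem_univ, true_and]; exact ⟨hi, hii⟩
    have hW : W.card = 35 := by
      rw [Finset.card_erase_of_mem (Finset.mk_mem_product hiS hiS), Finset.card_product, hS4]
    have hcS : ∀ x : X, ∀ y ∈ T, y * y = t1 → x * y * x⁻¹ ∈ S4 := by
      intro x y hy hyy
      simp only [S4, Finset.mem_filter, Finset.mem_univ, true_and]
      refine ⟨hTn.conj_mem y hy x, ?_⟩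
      calc x * y * x⁻¹ * (x * y * x⁻¹) = x * (y * y) * x⁻¹ := by group
        _ = t1 := by rw [hyy, hzc, mul_inv_cancel_right]
    have hinj : Nat.card (X ⧸ C) ≤ Nat.card W := by
      apply Nat.card_le_card_of_injective (fun q : X ⧸ C => (⟨(q.out * i * q.out⁻¹, q.out * j * q.out⁻¹), by
        rw [Finset.mem_erase, Finset.mem_product]
        refine ⟨?_, hcS _ i hi hii, hcS _ j hj hjj⟩
        intro h
        rw [Prod.mk.injEq] at h
        have h5 := h.1.trans h.2.symm
        exact hne1 (mul_left_cancel (mul_right_cancel h5)).symm⟩ : W))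
      intro q q' hqq
      have h5 := congrArg Subtype.val hqq
      simp only [Prod.mk.injEq] at h5
      obtain ⟨h6, h7⟩ := h5
      have h8 : q'.out⁻¹ * q.out ∈ C := by
        apply (SetLike.ext_iff.1 hCeq _).1
        rw [mem_centralizer_iff]
        have key : ∀ y : X, q.out * y * q.out⁻¹ = q'.out * y * q'.out⁻¹ → y * (q'.out⁻¹ * q.out) = q'.out⁻¹ * q.out * y := by
          intro y hy
          have h9 : q.out * y = q'.out * y * q'.out⁻¹ * q.out := by rw [← hy]; group
          rw [mul_assoc q'.out⁻¹, h9]; group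
        intro y hy
        rcases hy with h | h
        · rw [h]; exact key i h6
        · rw [Set.mem_singleton_iff] at h; rw [h]; exact key j h7
      have h9 : (QuotientGroup.mk q'.out : X ⧸ C) = QuotientGroup.mk q.out := QuotientGroup.eq.2 h8
      rw [QuotientGroup.out_eq', QuotientGroup.out_eq'] at h9
      exact h9.symm
    have h5 : Nat.card W = 35 := by rw [Nat.card_eq_fintype_card, Fintype.card_coe, hW]
    rw [h5] at hinj
    exact hinj
  exact arith hm C.card_mul_index hC h12 hle h9 Nat.card_pos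

end

end Cfsg.Agent.H9.TwoMain
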