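import Mathlib
import Cfsg.Agent.H9_ZassI

/-!
# Elements of order three in sharply triply transitive groups
-/

set_option autoImplicit false

namespace Cfsg.Agent.H9.ZassJ

open Cfsg.Agent.H9.ZassA Cfsg.Agent.H9.ZassC Cfsg.Agent.H9.ZassB Cfsg.Agent.H9.ZassI

variable {G Ω : Type*} [Group G] [MulAction G Ω]

theorem fixed_card3 [Fintype Ω] [DecidableEq Ω] (h : S3 G Ω) {g : G} (hg3 : g ^ 3 = 1) (hg1 : g ≠ 1)
    (hΩ : Fintype.card Ω % 3 = 2) :
    (Finset.univ.filter (fun x : Ω => g • x = x)).card = 2 := by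
  haveI : Fact (Nat.Prime 3) := ⟨Nat.prime_three⟩
  have h1 := Equiv.Perm.card_fixedPoints_modEq (f := (fun x : Ω => g • x : Function.End Ω)) (p := 3) (n := 1) (by
    funext x
    change g • g • g • x = x
    rw [← mul_smul, ← mul_smul, show g * g * g = g ^ 3 by rw [pow_succ, pow_two], hg3, one_smul])
  have h2 : Fintype.card (Function.fixedPoints (fun x : Ω => g • x)) = (Finset.univ.filter (fun x : Ω => g • x = x)).card := by
    rw [Fintype.card_subtype]
    rfl
  have h3 : Nat.card (MulAction.fixedBy Ω g) ≤ 2 := Zass.card_fixedBy_le (Ω := Ω) h.sharp hg1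
  have h4 : Nat.card (MulAction.fixedBy Ω g) = (Finset.univ.filter (fun x : Ω => g • x = x)).card := by
    rw [Nat.card_eq_fintype_card, Fintype.card_subtype]
    rfl
  have h5 : (Finset.univ.filter (fun x : Ω => g • x = x)).card % 3 = 2 := by
    rw [← h2]
    have h1' := h1.symm
    rw [Nat.ModEq, hΩ] at h1'
    convert h1' using 2
  omega

theorem count3 [Finite G] [Fintype Ω] (h : S3 G Ω) (h3 : 3 ≤ Fintype.card Ω) (hΩ : Fintype.card Ω % 3 = 2) {a b : Ω} (hab : a ≠ b) :
    Nat.card {g : G // (g ^ 3 = 1 ∧ g ≠ 1) ∧ g • a = a ∧ g • b = b} = 2 := by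
  classical
  haveI : Fintype G := Fintype.ofFinite G
  let T : Finset G := Finset.univ.filter (fun g => g ^ 3 = 1 ∧ g ≠ 1)
  have hmemT : ∀ t, t ∈ T ↔ t ^ 3 = 1 ∧ t ≠ 1 := fun t => by simp [T]
  let P : Finset (Ω × Ω) := Finset.univ.offDiag
  have hmemP : ∀ p : Ω × Ω, p ∈ P ↔ p.1 ≠ p.2 := fun p => by simp [P]
  have hP : P.card = Fintype.card Ω * (Fintype.card Ω - 1) := by
    rw [Finset.offDiag_card, Finset.card_univ, Nat.mul_sub, mul_one]
  have hPpos : 0 < P.card := by
    rw [hP]; exact Nat.mul_pos (by omega) (by omega)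
  -- first count
  have hT : T.card = P.card := by
    have h1 := Finset.sum_card_bipartiteAbove_eq_sum_card_bipartiteBelow (s := T) (t := P)
      (fun (t : G) (p : Ω × Ω) => t • p.1 = p.2)
    have h2 : ∀ t ∈ T, (Finset.bipartiteAbove (fun (t : G) (p : Ω × Ω) => t • p.1 = p.2) P t).card = Fintype.card Ω - 2 := by
      intro t ht
      have h3 : (Finset.bipartiteAbove (fun (t : G) (p : Ω × Ω) => t • p.1 = p.2) P t) =
          (Finset.univ.filter (fun x : Ω => ¬ t • x = x)).image (fun x => (x, t • x)) := by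
        ext p
        obtain ⟨x, y⟩ := p
        simp only [Finset.bipartiteAbove, Finset.mem_filter, hmemP, Finset.mem_univ, true_and, Finset.mem_image,
          Prod.mk.injEq]
        constructor
        · rintro ⟨h, rfl⟩
          exact ⟨x, fun h' => h h'.symm, rfl, rfl⟩
        · rintro ⟨w, hw, rfl, rfl⟩
          exact ⟨fun h => hw h.symm, rfl⟩
      rw [h3, Finset.card_image_of_injective _ (fun x y h => (Prod.mk.injEq _ _ _ _ ▸ h).1)]
      have h5 := Finset.card_filter_add_card_filter_not (s := (Finset.univ : Finset Ω)) (fun x : Ω => t • x = x)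
      rw [fixed_card3 h ((hmemT t).1 ht).1 ((hmemT t).1 ht).2 hΩ, Finset.card_univ] at h5
      omega
    have h4 : ∀ p ∈ P, (Finset.bipartiteBelow (fun (t : G) (p : Ω × Ω) => t • p.1 = p.2) T p).card = Fintype.card Ω - 2 := by
      intro p hp
      obtain ⟨x, y⟩ := p
      rw [hmemP] at hp
      change x ≠ y at hp
      have h5 : ((Finset.univ \ {x, y} : Finset Ω)).card = Fintype.card Ω - 2 := by
        rw [Finset.card_sdiff_of_subset (Finset.subset_univ _), Finset.card_univ, Finset.card_pair hp]
      rw [← h5]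
      apply Finset.card_bij (fun t _ => t • y)
      · intro t ht
        simp only [Finset.mem_filter, Finset.bipartiteBelow, hmemT] at ht
        obtain ⟨⟨ht3, ht1⟩, htx⟩ := ht
        have h33 : t • t • t • x = x := by
          rw [← mul_smul, ← mul_smul, show t * t * t = t ^ 3 by rw [pow_succ, pow_two], ht3, one_smul]
        simp only [Finset.mem_sdiff, Finset.mem_univ, true_and, Finset.mem_insert, Finset.mem_singleton, not_or]
        constructor
        · intro h6
          rw [htx, h6, htx] at h33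
          exact hp h33.symm
        · intro h6
          apply hp
          rw [← htx] at h6
          exact (MulAction.injective t h6).symm.trans htx
      · intro t ht t' ht' htt
        simp only [Finset.mem_filter, Finset.bipartiteBelow, hmemT] at ht ht'
        obtain ⟨⟨ht3, ht1⟩, htx⟩ := ht
        obtain ⟨⟨ht3', ht1'⟩, htx'⟩ := ht'
        have h33 : t • t • y = x := by
          rw [← htx, ← mul_smul, ← mul_smul, show t * t * t = t ^ 3 by rw [pow_succ, pow_two], ht3, one_smul]
        have h33' : t' • t' • y = x := by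
          rw [← htx', ← mul_smul, ← mul_smul, show t' * t' * t' = t' ^ 3 by rw [pow_succ, pow_two], ht3', one_smul]
        have hyx : t • y ≠ x := by
          intro h6
          rw [h6, htx] at h33
          exact hp h33.symm
        have hyy : t • y ≠ y := by
          intro h6
          apply hp
          rw [← htx] at h6
          exact (MulAction.injective t h6).symm.trans htx
        have h7 : t'⁻¹ * t = 1 := by
          apply h.sharp _ x y (t • y) hp hyy.symm hyx.symm
          · rw [mul_smul, htx, inv_smul_eq_iff, htx']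
          · rw [mul_smul, inv_smul_eq_iff]; exact htt
          · rw [mul_smul, h33, inv_smul_eq_iff]
            have htt' : t • y = t' • y := htt
            rw [htt', h33']
        exact (inv_mul_eq_one.1 h7).symm
      · intro w hw
        simp only [Finset.mem_sdiff, Finset.mem_univ, true_and, Finset.mem_insert, Finset.mem_singleton, not_or] at hw
        obtain ⟨t, h6, h7, h8⟩ := h.trans hp (Ne.symm hw.1) (Ne.symm hw.2) (Ne.symm hw.2) (Ne.symm hp) hw.1
        refine ⟨t, ?_, h7⟩
        simp only [Finset.mem_filter, Finset.bipartiteBelow, hmemT]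
        refine ⟨⟨?_, ?_⟩, h6⟩
        · apply h.sharp _ x y w hp (Ne.symm hw.2) (Ne.symm hw.1)
          · rw [pow_succ, pow_two, mul_smul, mul_smul, h6, h7, h8]
          · rw [pow_succ, pow_two, mul_smul, mul_smul, h7, h8, h6]
          · rw [pow_succ, pow_two, mul_smul, mul_smul, h8, h6, h7]
        · rintro rfl
          rw [one_smul] at h6
          exact hp h6
    rw [Finset.sum_congr rfl h2, Finset.sum_congr rfl h4, Finset.sum_const, Finset.sum_const, smul_eq_mul, smul_eq_mul] at h1
    exact Nat.eq_of_mul_eq_mul_right (by omega) h1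
  -- second count
  have h1 := Finset.sum_card_bipartiteAbove_eq_sum_card_bipartiteBelow (s := T) (t := P)
    (fun (t : G) (p : Ω × Ω) => t • p.1 = p.1 ∧ t • p.2 = p.2)
  have h2 : ∀ t ∈ T, (Finset.bipartiteAbove (fun (t : G) (p : Ω × Ω) => t • p.1 = p.1 ∧ t • p.2 = p.2) P t).card = 2 := by
    intro t ht
    have h3 : (Finset.bipartiteAbove (fun (t : G) (p : Ω × Ω) => t • p.1 = p.1 ∧ t • p.2 = p.2) P t) =
        (Finset.univ.filter (fun x : Ω => t • x = x)).offDiag := by
      ext p
      simp only [Finset.bipartiteAbove, Finset.mem_filter, hmemP, Finset.mem_offDiag, Finset.mem_univ, true_and]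
      tauto
    rw [h3, Finset.offDiag_card, fixed_card3 h ((hmemT t).1 ht).1 ((hmemT t).1 ht).2 hΩ]
  have h4 : ∀ p ∈ P, (Finset.bipartiteBelow (fun (t : G) (p : Ω × Ω) => t • p.1 = p.1 ∧ t • p.2 = p.2) T p).card =
      Nat.card {g : G // (g ^ 3 = 1 ∧ g ≠ 1) ∧ g • a = a ∧ g • b = b} := by
    intro p hp
    rw [hmemP] at hp
    obtain ⟨g, hg1, hg2⟩ := (h.zg h3).two hab hp
    rw [Nat.card_eq_fintype_card, Fintype.card_subtype]
    symm
    apply Finset.card_bij (fun t _ => g * t * g⁻¹)
    · intro t ht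
      simp only [Finset.mem_filter, Finset.mem_univ, true_and, Finset.bipartiteBelow, hmemT] at ht ⊢
      refine ⟨⟨?_, ?_⟩, ?_⟩
      · rw [conj_pow, ht.1.1]; group
      · intro h5
        apply ht.1.2
        calc t = g⁻¹ * (g * t * g⁻¹) * g := by group
          _ = 1 := by rw [h5]; group
      · rw [← hg1, ← hg2]
        exact ⟨(conj_fix g t a).2 ht.2.1, (conj_fix g t b).2 ht.2.2⟩
    · intro s _ t _ hst
      have := mul_right_cancel hst
      exact mul_left_cancel this
    · intro t ht
      simp only [Finset.mem_filter, Finset.mem_univ, true_and, Finset.bipartiteBelow, hmemT] at ht ⊢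
      refine ⟨g⁻¹ * t * g, ⟨⟨?_, ?_⟩, ?_, ?_⟩, by group⟩
      · have : g⁻¹ * t * g = g⁻¹ * t * g⁻¹⁻¹ := by rw [inv_inv]
        rw [this, conj_pow, ht.1.1]; group
      · intro h5
        apply ht.1.2
        calc t = g * (g⁻¹ * t * g) * g⁻¹ := by group
          _ = 1 := by rw [h5]; group
      · rw [mul_smul, mul_smul, hg1, ht.2.1, inv_smul_eq_iff, hg1]
      · rw [mul_smul, mul_smul, hg2, ht.2.2, inv_smul_eq_iff, hg2]
  rw [Finset.sum_congr rfl h2, Finset.sum_congr rfl h4, Finset.sum_const, Finset.sum_const, smul_eq_mul, smul_eq_mul, hT] at h1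
  exact (Nat.eq_of_mul_eq_mul_left hPpos h1).symm

/-- the subgroup of order three of a two point stabiliser is unique -/
theorem unique3 [Finite G] [Fintype Ω] (h : S3 G Ω) (h3 : 3 ≤ Fintype.card Ω) {a b : Ω} (hab : a ≠ b) {A B : Subgroup G}
    (hA : A ≤ MulAction.stabilizer G a ⊓ MulAction.stabilizer G b)
    (hB : B ≤ MulAction.stabilizer G a ⊓ MulAction.stabilizer G b)
    (hA3 : Nat.card A = 3) (hB3 : Nat.card B = 3) : A = B := by
  classical
  have hΩ : Fintype.card Ω % 3 = 2 := by
    have h1 := h.card_E h3 hab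
    have h2 := Subgroup.card_dvd_of_le hA
    rw [hA3] at h2
    omega
  have hc := count3 h h3 hΩ hab
  have key : ∀ C : Subgroup G, C ≤ MulAction.stabilizer G a ⊓ MulAction.stabilizer G b → Nat.card C = 3 →
      (C : Set G) \ {1} = {g : G | (g ^ 3 = 1 ∧ g ≠ 1) ∧ g • a = a ∧ g • b = b} := by
    intro C hC hC3
    apply Set.eq_of_subset_of_ncard_le
    · rintro g ⟨hg, hg1⟩
      refine ⟨⟨?_, hg1⟩, (hC hg).1, (hC hg).2⟩
      have := pow_card_eq_one' (x := (⟨g, hg⟩ : C))
      rw [hC3] at this
      exact congrArg Subtype.val this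
    · have h5 : ({g : G | (g ^ 3 = 1 ∧ g ≠ 1) ∧ g • a = a ∧ g • b = b} : Set G).ncard = 2 := hc
      rw [h5, Set.ncard_diff_singleton_of_mem C.one_mem]
      have h6 : (C : Set G).ncard = 3 := hC3
      rw [h6]
    · exact Set.toFinite _
  apply SetLike.coe_injective
  have h5 := (key A hA hA3).trans (key B hB hB3).symm
  have h6 : insert (1 : G) ((A : Set G) \ {1}) = insert (1 : G) ((B : Set G) \ {1}) := by rw [h5]
  rwa [Set.insert_sdiff_singleton, Set.insert_sdiff_singleton, Set.insert_eq_of_mem A.one_mem,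
    Set.insert_eq_of_mem B.one_mem] at h6

end Cfsg.Agent.H9.ZassJ
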