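import Mathlib
import Cfsg.Agent.H9_TwoMain4
import Cfsg.Agent.H9_ZassJ
import Cfsg.Agent.H9_ZGrp
import Cfsg.Agent.H9_Q8Num

/-!
# Index two subgroups of two-point stabilisers in sharply triply transitive groups
-/

set_option autoImplicit false

namespace Cfsg.Agent.H9.TwoApp

open Cfsg Subgroup Cfsg.Agent.H9.ZassA Cfsg.Agent.H9.ZassC Cfsg.Agent.H9.ZassI

variable {G Ω : Type*} [Group G] [MulAction G Ω]

theorem conj_E {a b : Ω} {s : G} (hsa : s • a = b) (hsb : s • b = a) {g : G}
    (hg : g ∈ MulAction.stabilizer G a ⊓ MulAction.stabilizer G b) :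
    s * g * s⁻¹ ∈ MulAction.stabilizer G a ⊓ MulAction.stabilizer G b := by
  have e1 : s⁻¹ • a = b := by rw [inv_smul_eq_iff, hsb]
  have e2 : s⁻¹ • b = a := by rw [inv_smul_eq_iff, hsa]
  have hga : g • a = a := hg.1
  have hgb : g • b = b := hg.2
  refine ⟨?_, ?_⟩
  · change (s * g * s⁻¹) • a = a
    rw [mul_smul, mul_smul, e1, hgb, hsb]
  · change (s * g * s⁻¹) • b = b
    rw [mul_smul, mul_smul, e2, hga, hsa]

theorem norm_E {a b : Ω} {s : G} (hsa : s • a = b) (hsb : s • b = a) :
    s ∈ normalizer ((MulAction.stabilizer G a ⊓ MulAction.stabilizer G b : Subgroup G) : Set G) := by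
  rw [mem_normalizer_iff]
  intro g
  refine ⟨conj_E hsa hsb, fun h => ?_⟩
  have h1 := conj_E (s := s⁻¹) (a := a) (b := b) (by rw [inv_smul_eq_iff, hsb]) (by rw [inv_smul_eq_iff, hsa]) h
  have h2 : s⁻¹ * (s * g * s⁻¹) * s⁻¹⁻¹ = g := by group
  rwa [h2] at h1

theorem two_fixed [Finite G] [Fintype Ω] (h : S3 G Ω) (heven : Even (Fintype.card Ω)) {s : G} (hs1 : s ≠ 1) (hs2 : s * s = 1)
    {w : Ω} (hw : s • w = w) : ∃ w', w' ≠ w ∧ s • w' = w' ∧ ∀ y, s • y = y → y = w ∨ y = w' := by
  classical
  have h1 := Zass.card_fixedBy_mod (Ω := Ω) (s := s) (by rw [pow_two, hs2])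
  have h2 := Zass.card_fixedBy_le (Ω := Ω) h.sharp hs1
  have h5 : w ∈ MulAction.fixedBy Ω s := hw
  have h0 : Nat.card (MulAction.fixedBy Ω s) ≠ 0 := by
    haveI : Nonempty (MulAction.fixedBy Ω s) := ⟨⟨w, h5⟩⟩
    exact Nat.card_pos.ne'
  have h3 : Nat.card (MulAction.fixedBy Ω s) = 2 := by
    have h4 : Nat.card (MulAction.fixedBy Ω s) % 2 = 0 := by
      rw [← h1]; exact Nat.even_iff.1 heven
    omega
  rw [Nat.card_coe_set_eq, Set.ncard_eq_two] at h3
  obtain ⟨x, y, hxy, hxy'⟩ := h3
  rw [hxy'] at h5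
  have hx : s • x = x := by
    have : x ∈ MulAction.fixedBy Ω s := by rw [hxy']; simp
    exact this
  have hy : s • y = y := by
    have : y ∈ MulAction.fixedBy Ω s := by rw [hxy']; simp
    exact this
  have key : ∀ v, s • v = v → v = x ∨ v = y := by
    intro v hv
    have : v ∈ MulAction.fixedBy Ω s := hv
    rw [hxy'] at this
    exact this
  rcases h5 with h6 | h6
  · subst h6
    exact ⟨y, hxy.symm, hy, key⟩
  · rw [Set.mem_singleton_iff] at h6
    subst h6
    exact ⟨x, hxy, hx, fun v hv => (key v hv).symm⟩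

theorem index_two [Finite G] [Fintype Ω] (h : S3 G Ω) (h4 : 4 ≤ Fintype.card Ω) (heven : Even (Fintype.card Ω))
    {a b w : Ω} (hab : a ≠ b) (hwa : w ≠ a) (hwb : w ≠ b) {s : G} (hsa : s • a = b) (hsb : s • b = a) (hsw : s • w = w) :
    ∃ N : Subgroup G, N ≤ MulAction.stabilizer G a ⊓ MulAction.stabilizer G b ∧
      2 * Nat.card N = Nat.card ↥(MulAction.stabilizer G a ⊓ MulAction.stabilizer G b) ∧
      (∀ n ∈ N, s * n * s⁻¹ = n⁻¹) ∧
      (∀ e ∈ MulAction.stabilizer G a ⊓ MulAction.stabilizer G b, ∀ n ∈ N, e * n * e⁻¹ ∈ N) := by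
  classical
  haveI : Fact (Nat.Prime 2) := ⟨Nat.prime_two⟩
  haveI : Fact (Nat.Prime 3) := ⟨Nat.prime_three⟩
  have hZ := h.zg (by omega)
  have hcE := h.card_E (by omega) hab
  obtain ⟨E, hE⟩ : ∃ E, E = MulAction.stabilizer G a ⊓ MulAction.stabilizer G b := ⟨_, rfl⟩
  rw [← hE] at hcE ⊢
  have hmemE : ∀ g : G, g ∈ E ↔ g • a = a ∧ g • b = b := fun g => by rw [hE]; rfl
  have hEev : 2 ∣ Nat.card E := by
    obtain ⟨t, ht⟩ := heven
    exact ⟨t - 1, by omega⟩
  obtain ⟨z, hz⟩ := exists_prime_orderOf_dvd_card' (G := E) 2 hEev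
  have hz1 : (z : G) ≠ 1 := by
    intro h
    have : z = 1 := Subtype.ext h
    rw [this, orderOf_one] at hz
    omega
  have hz2 : (z : G) * z = 1 := by
    have := pow_orderOf_eq_one z
    rw [hz, pow_two] at this
    exact congrArg Subtype.val this
  have hza := ((hmemE z).1 z.2).1
  have hzb := ((hmemE z).1 z.2).2
  have hs1 : s ≠ 1 := by
    rintro rfl
    rw [one_smul] at hsa
    exact hab hsa
  have hs2 : s * s = 1 := by
    apply h.sharp (s * s) a b w hab (Ne.symm hwb) (Ne.symm hwa)
    · rw [mul_smul, hsa, hsb]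
    · rw [mul_smul, hsb, hsa]
    · rw [mul_smul, hsw, hsw]
  have hsN := norm_E hsa hsb
  rw [← hE] at hsN
  obtain ⟨K, hK⟩ := exists_ker hZ hab
  have hKinv := hK.inverts hZ hab hza hzb hz1 hz2
  have hBig := ZassC.Ker.toBig hZ hab hK (by rw [← hE]; omega) (by omega)
  rw [← hE] at hBig
  obtain ⟨p, f, hp, hKp, hKc, hKcard⟩ := hBig.elementary
  have hKc1 := ZassC.Ker.card hab hK
  have hp2 : p ≠ 2 := by
    rintro rfl
    have h5 : f ≠ 0 := by
      rintro rfl
      rw [pow_zero] at hKcard
      omega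
    have h6 : 2 ∣ Nat.card K := by rw [hKcard]; exact dvd_pow_self 2 h5
    obtain ⟨t, ht⟩ := heven
    omega
  haveI : IsMulCommutative K := ⟨⟨fun x y => Subtype.ext (hKc x x.2 y y.2)⟩⟩
  have hfpf : ∀ e ∈ E, e ≠ 1 → ∀ k ∈ K, e * k = k * e → k = 1 := by
    intro e he he1 k hk hek
    exact hK.fpf hZ hab ((hmemE e).1 he).1 ((hmemE e).1 he).2 he1 hk (by rw [hek, mul_inv_cancel_right])
  have hKne : K ≠ ⊥ := by
    intro h5
    rw [h5, Subgroup.card_bot] at hKc1
    omega
  obtain ⟨N, hN2, hNinv⟩ := TwoMain.main (X := E) (E.normalizerMonoidHom ⟨s, hsN⟩) (by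
      intro x
      apply Subtype.ext
      change s * (s * x * s⁻¹) * s⁻¹ = x
      have hsi : s⁻¹ = s := by rw [inv_eq_iff_mul_eq_one, hs2]
      rw [hsi]
      calc s * (s * (x : G) * s) * s = (s * s) * x * (s * s) := by group
        _ = x := by rw [hs2, one_mul, mul_one]) z hz (by
      intro y hy
      apply Subtype.ext
      have hy1 : (y : G) ≠ 1 := by
        intro h
        have : y = 1 := Subtype.ext h
        rw [this, orderOf_one] at hy
        omega
      have hy2 : (y : G) * y = 1 := by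
        have := pow_orderOf_eq_one y
        rw [hy, pow_two] at this
        exact congrArg Subtype.val this
      exact unique_invol hZ hab ((hmemE y).1 y.2).1 ((hmemE y).1 y.2).2 hy1 hy2 hza hzb hz1 hz2) (by
      intro x hx
      have hx' : s * x * s⁻¹ = x := congrArg Subtype.val hx
      have hsx : s * x = x * s := mul_inv_eq_iff_eq_mul.1 hx'
      obtain ⟨w', hw', hsw', huw⟩ := two_fixed h heven hs1 hs2 hsw
      have hxw : s • (x : G) • w = (x : G) • w := by rw [← mul_smul, hsx, mul_smul, hsw]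
      have hxw' : s • (x : G) • w' = (x : G) • w' := by rw [← mul_smul, hsx, mul_smul, hsw']
      have hxa := ((hmemE x).1 x.2).1
      have hxb := ((hmemE x).1 x.2).2
      rcases huw _ hxw with h5 | h5
      · left
        exact Subtype.ext (h.sharp x a b w hab (Ne.symm hwb) (Ne.symm hwa) hxa hxb h5)
      · have h6 : (x : G) • w' = w := by
          rcases huw _ hxw' with h6 | h6
          · exact h6
          · exfalso
            rw [← h5] at h6
            have h7 := MulAction.injective (x : G) h6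
            exact hw' (h5.symm.trans h7)
        have h7 : (x : G) * x = 1 := by
          apply h.sharp _ a b w hab (Ne.symm hwb) (Ne.symm hwa)
          · rw [mul_smul, hxa, hxa]
          · rw [mul_smul, hxb, hxb]
          · rw [mul_smul, h5, h6]
        by_cases hx1 : (x : G) = 1
        · left; exact Subtype.ext hx1
        · right
          exact Subtype.ext (unique_invol hZ hab hxa hxb hx1 h7 hza hzb hz1 hz2)) (by
      intro A B hA hB
      have h5 := ZassJ.unique3 h (by omega) hab (A := A.map E.subtype) (B := B.map E.subtype)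
        (by rw [← hE]; exact Subgroup.map_subtype_le A) (by rw [← hE]; exact Subgroup.map_subtype_le B)
        (by rw [Subgroup.card_map_of_injective E.subtype_injective, hA])
        (by rw [Subgroup.card_map_of_injective E.subtype_injective, hB])
      exact Subgroup.map_injective E.subtype_injective h5) (by
      intro P hP
      have hPE : P.map E.subtype ≤ E := Subgroup.map_subtype_le P
      have hcardP : Nat.card (P.map E.subtype) = Nat.card P :=
        Subgroup.card_map_of_injective E.subtype_injective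
      have hodd : Odd (Nat.card (P.map E.subtype)) := by
        obtain ⟨n, hn⟩ := IsPGroup.iff_card.1 hP
        rw [hcardP, hn]
        exact Odd.pow (by decide)
      have hz := ZGrp.zgroup_of_fpf (P.map E.subtype) K hKne
        (fun k hk v hv => hK.nrm k ((hmemE k).1 (hPE hk)).1 v hv)
        (fun k hk hk1 v hv hkv => hfpf k (hPE hk) hk1 v hv hkv) hodd
      have hP' : IsPGroup 3 (P.map E.subtype) := hP.map E.subtype
      haveI := hP'.isNilpotent
      have hcyc : IsCyclic (P.map E.subtype) := inferInstance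
      exact (P.equivMapOfInjective E.subtype E.subtype_injective).isCyclic.2 hcyc) (by
      intro i j hii hjj hij
      have hii' : (i : G) * i = z := congrArg Subtype.val hii
      have hjj' : (j : G) * j = z := congrArg Subtype.val hjj
      have hij' : (i : G) * j = z * (j * i) := congrArg Subtype.val hij
      obtain ⟨m, hm, hC⟩ := Q8Num.group_half hKc hp hp2 hKp (hK.nrm i ((hmemE i).1 i.2).1)
        (hK.nrm j ((hmemE j).1 j.2).1) hKinv hii' hjj' hij'
      refine ⟨m, by rw [pow_two, ← hm]; omega, ?_⟩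
      have h5 := hC ((centralizer ({i, j} : Set E)).map E.subtype) (by
        rintro _ ⟨c, hc, rfl⟩
        rw [SetLike.mem_coe, mem_centralizer_iff] at hc
        refine ⟨(congrArg Subtype.val (hc i (by simp))).symm, (congrArg Subtype.val (hc j (by simp))).symm, ?_⟩
        exact hK.nrm c ((hmemE c).1 c.2).1) (by
        rintro _ ⟨c, hc, rfl⟩ k hk hk1 hck
        by_contra hc1
        exact hk1 (hfpf c c.2 hc1 k hk (mul_inv_eq_iff_eq_mul.1 hck)))
      rwa [Subgroup.card_map_of_injective E.subtype_injective] at h5)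
  refine ⟨N.map E.subtype, Subgroup.map_subtype_le N, ?_, ?_, ?_⟩
  · rw [Subgroup.card_map_of_injective E.subtype_injective, ← N.card_mul_index, hN2, mul_comm]
  · rintro _ ⟨n, hn, rfl⟩
    exact congrArg Subtype.val (hNinv n hn)
  · rintro e he _ ⟨n, hn, rfl⟩
    haveI := Subgroup.normal_of_index_eq_two hN2
    exact ⟨⟨e, he⟩ * n * ⟨e, he⟩⁻¹, this.conj_mem n hn _, rfl⟩

end Cfsg.Agent.H9.TwoApp
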