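import Mathlib
import Cfsg.Agent.H9_ZassG

/-!
# Semilinear coordinates for Zassenhaus groups
-/

set_option autoImplicit false

namespace Cfsg.Agent.H9.ZassT

open OnePoint Cfsg.Agent.H9.ZassA Cfsg.Agent.H9.ZassC Cfsg.Agent.H9.ZassRec

/-- an additive bijection normalising a big multiplicative group is semilinear -/
theorem semilinear {F : Type*} [Field F] [Fintype F] (D : Subgroup Fˣ) (hD : Fintype.card F - 1 ≤ 2 * Nat.card D)
    (A : F → F) (hadd : ∀ x y, A (x + y) = A x + A y) (hinj : Function.Injective A)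
    (hmul : ∀ δ ∈ D, ∃ r' : F, ∀ x, A ((δ : F) * x) = r' * A x) : ∃ (θ : F ≃+* F) (c : F), c ≠ 0 ∧ ∀ x, A x = c * θ x := by
  classical
  have h0 : A 0 = 0 := by
    have := hadd 0 0
    rw [add_zero] at this
    exact (left_eq_add.1 this)
  have hneg : ∀ x, A (-x) = -A x := by
    intro x
    have := hadd x (-x)
    rw [add_neg_cancel, h0] at this
    exact (neg_eq_of_add_eq_zero_right this.symm).symm
  have hA1 : A 1 ≠ 0 := by
    intro h
    exact one_ne_zero (hinj (h.trans h0.symm))
  let R : AddSubgroup F :=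
    { carrier := {r | ∃ r' : F, ∀ x, A (r * x) = r' * A x}
      add_mem' := by
        rintro r t ⟨r', hr⟩ ⟨t', ht⟩
        exact ⟨r' + t', fun x => by rw [add_mul, hadd, hr, ht, add_mul]⟩
      zero_mem' := ⟨0, fun x => by rw [zero_mul, zero_mul, h0]⟩
      neg_mem' := by
        rintro r ⟨r', hr⟩
        exact ⟨-r', fun x => by rw [neg_mul, hneg, hr, neg_mul]⟩ }
  have hRtop : R = ⊤ := by
    have h1 : Nat.card D + 1 ≤ Nat.card R := by
      let g : Option D → R := fun o => match o with
        | Option.none => 0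
        | Option.some δ => ⟨((δ : Fˣ) : F), hmul δ δ.2⟩
      have hg : Function.Injective g := by
        intro o o' h
        match o, o' with
        | Option.none, Option.none => rfl
        | Option.none, Option.some δ => exact absurd (congrArg Subtype.val h).symm (Units.ne_zero _)
        | Option.some δ, Option.none => exact absurd (congrArg Subtype.val h) (Units.ne_zero _)
        | Option.some δ, Option.some δ' =>
          have h2 : ((δ : Fˣ) : F) = ((δ' : Fˣ) : F) := congrArg Subtype.val h
          rw [Subtype.ext (Units.ext h2)]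
      have h3 := Nat.card_le_card_of_injective g hg
      rwa [Finite.card_option] at h3
    have h2 := R.card_mul_index
    rw [Nat.card_eq_fintype_card (α := F)] at h2
    have h3 : 1 < Fintype.card F := Fintype.one_lt_card
    have h4 : R.index = 1 := by
      have h5 : R.index ≠ 0 := AddSubgroup.index_ne_zero_of_finite
      by_contra h6
      have h7 : 2 ≤ R.index := by omega
      have : Nat.card R * 2 ≤ Nat.card R * R.index := Nat.mul_le_mul_left _ h7
      omega
    exact AddSubgroup.index_eq_one.1 h4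
  have hall : ∀ r : F, ∃ r' : F, ∀ x, A (r * x) = r' * A x := by
    intro r
    have : r ∈ R := by rw [hRtop]; trivial
    exact this
  have hr' : ∀ r x, A (r * x) = (A r / A 1) * A x := by
    intro r x
    obtain ⟨r', hr⟩ := hall r
    have := hr 1
    rw [mul_one] at this
    rw [this, mul_div_cancel_right₀ _ hA1]
    exact hr x
  have hinj2 : Function.Injective (fun r => A r / A 1) := by
    intro r r' h
    apply hinj
    have h' : A r / A 1 = A r' / A 1 := h
    field_simp at h'
    exact h'
  refine ⟨RingEquiv.ofBijective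
    ({ toFun := fun r => A r / A 1
       map_one' := div_self hA1
       map_zero' := by rw [h0, zero_div]
       map_add' := fun x y => by rw [hadd, add_div]
       map_mul' := fun x y => by rw [hr']; ring } : F →+* F) ⟨hinj2, Finite.injective_iff_surjective.1 hinj2⟩, A 1, hA1, fun x => ?_⟩
  change A x = A 1 * (A x / A 1)
  field_simp

variable {G Ω : Type*} [Group G] [MulAction G Ω]

theorem coordsN [Finite G] [Fintype Ω] (hZ : ZG G Ω) {a b w : Ω} (hab : a ≠ b) (hwa : w ≠ a) (hwb : w ≠ b)
    {K : Subgroup G} (hK : Ker K a)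
    (hKc : ∀ k ∈ K, ∀ l ∈ K, k * l = l * k) {E : Subgroup G} (hE : ∀ g ∈ E, g • a = a ∧ g • b = b)
    (hEc : ∀ g ∈ E, ∀ h ∈ E, g * h = h * g)
    (hd : Fintype.card Ω - 2 ≤ 2 * Nat.card E) :
    ∃ (F : Type) (_ : Field F) (_ : Fintype F) (β : OnePoint F ≃ Ω) (D : Subgroup Fˣ),
      β ∞ = a ∧ β ((0 : F) : OnePoint F) = b ∧ β ((1 : F) : OnePoint F) = w ∧
      Nat.card D = Nat.card E ∧
      Fintype.card F + 1 = Fintype.card Ω ∧
      (∀ c : F, ∃ g ∈ K, g • β ∞ = β ∞ ∧ ∀ x : F, g • β x = β ((x + c : F) : OnePoint F)) ∧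
      (∀ k ∈ K, ∃ c : F, ∀ x : F, k • β x = β ((x + c : F) : OnePoint F)) ∧
      (∀ δ ∈ D, ∃ g ∈ E, ∀ x : F, g • β x = β (((δ : F) * x : F) : OnePoint F)) ∧
      (∀ g ∈ E, ∃ δ ∈ D, ∀ x : F, g • β x = β (((δ : F) * x : F) : OnePoint F)) ∧
      (∀ g : G, g • a = a → g • b = b → (∀ e ∈ E, g * e * g⁻¹ ∈ E) → ∃ (θ : F ≃+* F) (c : F), c ≠ 0 ∧
        ∀ x : F, g • β x = β ((c * θ x : F) : OnePoint F)) := by
  classical
  letI : CommGroup K := { (inferInstance : Group K) with mul_comm := fun x y => Subtype.ext (hKc x x.2 y y.2) }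
  let f : E →* AddMonoid.End (Additive K) :=
    { toFun := fun e =>
        { toFun := fun k => Additive.ofMul (⟨e * (Additive.toMul k : K) * (e : G)⁻¹, hK.nrm e (hE e e.2).1 _ (Additive.toMul k : K).2⟩ : K)
          map_zero' := by
            apply congrArg Additive.ofMul
            apply Subtype.ext
            change (e : G) * 1 * (e : G)⁻¹ = 1
            group
          map_add' := fun k l => by
            apply congrArg Additive.ofMul
            apply Subtype.ext
            change (e : G) * (((Additive.toMul k : K) : G) * ((Additive.toMul l : K) : G)) * (e : G)⁻¹ =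
              ((e : G) * ((Additive.toMul k : K) : G) * (e : G)⁻¹) * ((e : G) * ((Additive.toMul l : K) : G) * (e : G)⁻¹)
            group }
      map_one' := by
        ext k
        change (1 : G) * ((Additive.toMul k : K) : G) * (1 : G)⁻¹ = (Additive.toMul k : K)
        group
      map_mul' := fun d e => by
        ext k
        change ((d : G) * e) * ((Additive.toMul k : K) : G) * ((d : G) * e)⁻¹ =
          (d : G) * ((e : G) * ((Additive.toMul k : K) : G) * (e : G)⁻¹) * (d : G)⁻¹
        group }
  have hf : ∀ (e : E) (k : Additive K), (((f e k).toMul : K) : G) = e * (k.toMul : K) * (e : G)⁻¹ := fun _ _ => rfl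
  obtain ⟨k₀, hk₀, hk₀w⟩ := hK.reg b w hab.symm hwa
  have hcardK := Ker.card hab hK
  obtain ⟨F, hF, hFf, φ, χ, hχ, hφ1, hφ⟩ := ZassF.exists_field (V := Additive K) (E := E)
    (fun x y => Subtype.ext (hEc x x.2 y y.2)) f (by
      intro e v hv hev
      by_contra he
      apply hv
      have h1 := hf e v
      rw [hev] at h1
      have h2 := hK.fpf hZ hab (hE e e.2).1 (hE e e.2).2 (fun h => he (Subtype.ext h)) v.toMul.2 h1.symm
      have h3 : v.toMul = 1 := Subtype.ext h2
      exact h3) (by
      have : Nat.card (Additive K) = Nat.card K := rfl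
      rw [this]
      omega) (v₀ := Additive.ofMul ⟨k₀, hk₀⟩) (by
      intro h
      apply hwb
      have h1 : (⟨k₀, hk₀⟩ : K) = 1 := h
      have h2 : k₀ = 1 := congrArg Subtype.val h1
      rw [← hk₀w, h2, one_smul])
  let κ : F → G := fun x => ((φ x).toMul : K)
  have hκK : ∀ x, κ x ∈ K := fun x => ((φ x).toMul : K).2
  have hκadd : ∀ x y, κ (x + y) = κ x * κ y := by
    intro x y
    change (((φ (x + y)).toMul : K) : G) = _
    rw [map_add]
    rfl
  have hκ0 : κ 0 = 1 := by
    change (((φ 0).toMul : K) : G) = _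
    rw [map_zero]
    rfl
  have hκ1 : κ 1 = k₀ := by
    change (((φ 1).toMul : K) : G) = _
    rw [hφ1]
    rfl
  have hκmul : ∀ (e : E) x, κ ((χ e : F) * x) = e * κ x * (e : G)⁻¹ := by
    intro e x
    change (((φ ((χ e : F) * x)).toMul : K) : G) = _
    rw [← hφ]
    rfl
  have hκsurj : ∀ k ∈ K, ∃ x, κ x = k := by
    intro k hk
    refine ⟨φ.symm (Additive.ofMul ⟨k, hk⟩), ?_⟩
    change (((φ _).toMul : K) : G) = _
    rw [AddEquiv.apply_symm_apply]
    rfl
  have hκinj : Function.Injective κ := by
    intro x y hxy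
    apply φ.injective
    have : (φ x).toMul = (φ y).toMul := Subtype.ext hxy
    exact this
  let β : OnePoint F ≃ Ω := Equiv.ofBijective (fun p => OnePoint.elim p a (fun x => κ x • b)) (by
    have hne : ∀ x, κ x • b ≠ a := by
      intro x h
      apply hab
      have h1 := hK.le _ (hκK x)
      exact (MulAction.injective (κ x) (h.trans h1.symm)).symm
    constructor
    · intro p q hpq
      induction p using OnePoint.rec with
      | infty =>
        induction q using OnePoint.rec with
        | infty => rfl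
        | coe y => exact absurd hpq.symm (hne y)
      | coe x =>
        induction q using OnePoint.rec with
        | infty => exact absurd hpq (hne x)
        | coe y =>
          have h1 : κ x • b = κ y • b := hpq
          have h2 := hK.free ((κ y)⁻¹ * κ x) (K.mul_mem (K.inv_mem (hκK y)) (hκK x)) b hab.symm (by
            rw [mul_smul, inv_smul_eq_iff, h1])
          rw [hκinj (inv_mul_eq_one.1 h2).symm]
    · intro y
      by_cases hy : y = a
      · exact ⟨∞, hy.symm⟩
      · obtain ⟨k, hk, hky⟩ := hK.reg b y hab.symm hy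
        obtain ⟨x, rfl⟩ := hκsurj k hk
        exact ⟨(x : OnePoint F), hky⟩)
  have hβinf : β ∞ = a := rfl
  have hβ : ∀ x : F, β (x : OnePoint F) = κ x • b := fun _ => rfl
  have hDc : Nat.card χ.range = Nat.card E := by rw [← Nat.card_congr (MonoidHom.ofInjective hχ).toEquiv]
  have hFc : Fintype.card F + 1 = Fintype.card Ω := by
    rw [← hcardK, ← Nat.card_eq_fintype_card]
    congr 1
    exact Nat.card_congr φ.toEquiv
  refine ⟨F, hF, hFf, β, χ.range, hβinf, ?_, ?_, hDc, hFc, ?_, ?_, ?_, ?_, ?_⟩
  · rw [hβ, hκ0, one_smul]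
  · rw [hβ, hκ1, hk₀w]
  · intro c
    refine ⟨κ c, hκK c, by rw [hβinf]; exact hK.le _ (hκK c), fun x => ?_⟩
    rw [hβ, hβ, ← mul_smul, ← hκadd, add_comm]
  · intro k hk
    obtain ⟨c, rfl⟩ := hκsurj k hk
    refine ⟨c, fun x => ?_⟩
    rw [hβ, hβ, ← mul_smul, ← hκadd, add_comm]
  · rintro _ ⟨e, rfl⟩
    refine ⟨e, e.2, fun x => ?_⟩
    rw [hβ, hβ, hκmul, mul_smul, mul_smul]
    congr 2
    rw [eq_inv_smul_iff]
    exact (hE e e.2).2
  · intro e he
    refine ⟨χ ⟨e, he⟩, ⟨⟨e, he⟩, rfl⟩, fun x => ?_⟩
    rw [hβ, hβ, hκmul, mul_smul, mul_smul]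
    congr 2
    rw [eq_inv_smul_iff]
    exact (hE e he).2
  · intro g hga hgb hgE
    have hex : ∀ x : F, ∃ y : F, κ y = g * κ x * g⁻¹ := fun x => hκsurj _ (hK.nrm g hga _ (hκK x))
    choose A hA using hex
    have hAadd : ∀ x y, A (x + y) = A x + A y := by
      intro x y
      apply hκinj
      rw [hκadd, hA, hA, hA, hκadd]
      group
    have hAinj : Function.Injective A := by
      intro x y hxy
      apply hκinj
      have h1 := hA x
      rw [hxy, hA] at h1
      exact mul_left_cancel (mul_right_cancel h1.symm)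
    obtain ⟨θ, c, hc, hθ⟩ := semilinear χ.range (by rw [hDc]; omega) A hAadd hAinj (by
      rintro _ ⟨e, rfl⟩
      refine ⟨(χ ⟨g * e * g⁻¹, hgE e e.2⟩ : F), fun x => ?_⟩
      apply hκinj
      rw [hA, hκmul, hκmul, hA]
      group)
    refine ⟨θ, c, hc, fun x => ?_⟩
    rw [hβ, hβ, ← hθ, hA, mul_smul, mul_smul, show g⁻¹ • b = b by rw [inv_smul_eq_iff, hgb]]

end Cfsg.Agent.H9.ZassT
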