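import Mathlib
import Cfsg.Agent.H9_ZassT
import Cfsg.Agent.H9_TwoApp

/-!
# Coordinates for sharply triply transitive groups of even degree
-/

set_option autoImplicit false

namespace Cfsg.Agent.H9.ZassU

open OnePoint Cfsg.Agent.H9.ZassA Cfsg.Agent.H9.ZassC Cfsg.Agent.H9.ZassRec Cfsg.Agent.H9.ZassH Cfsg.Agent.H9.ZassI

section

variable {F : Type*} [Field F] {G Ω : Type*} [Group G] [MulAction G Ω] {β : OnePoint F ≃ Ω}

/-- the structure equation -/
theorem structure_eq' (htr : ∀ c : F, ∃ g : G, g • β ∞ = β ∞ ∧ ∀ x : F, g • β x = β ((x + c : F) : OnePoint F))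
    {s : G} {σ : F → F} (hs1 : s • β ∞ = β ((0 : F) : OnePoint F))
    (hs0 : s • β ((0 : F) : OnePoint F) = β ∞)
    (hσ : ∀ x, x ≠ 0 → σ x ≠ 0 ∧ s • β x = β ((σ x : F) : OnePoint F)) (h1 : σ 1 = 1) (h2 : σ (-1) = -1)
    (huniq : ∀ u : G, u • β ∞ = β ((0 : F) : OnePoint F) → u • β ((0 : F) : OnePoint F) = β ∞ →
      u • β ((1 : F) : OnePoint F) = β ((-1 : F) : OnePoint F) → ∀ x : F, x ≠ 0 → u • β x = β ((-σ x : F) : OnePoint F)) :
    ∀ x, x ≠ 0 → x ≠ 1 → σ (σ (x - 1) + 1) = 1 - σ x := by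
  obtain ⟨t, ht1, ht⟩ := htr 1
  obtain ⟨t', ht1', ht'⟩ := htr (-1)
  have hs_1 : s • β ((1 : F) : OnePoint F) = β ((1 : F) : OnePoint F) := by rw [(hσ 1 one_ne_zero).2, h1]
  have hs_m1 : s • β ((-1 : F) : OnePoint F) = β ((-1 : F) : OnePoint F) := by
    rw [(hσ (-1) (by simp)).2, h2]
  let u := t' * s * t * s * t'
  have hu : ∀ p : Ω, u • p = t' • s • t • s • t' • p := fun p => by simp only [u, mul_smul]
  have u1 : u • β ∞ = β ((0 : F) : OnePoint F) := by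
    rw [hu, ht1', hs1, ht, zero_add, hs_1, ht']
    simp
  have u0 : u • β ((0 : F) : OnePoint F) = β ∞ := by
    rw [hu, ht', zero_add, hs_m1, ht, neg_add_cancel, hs0, ht1']
  have u2 : u • β ((1 : F) : OnePoint F) = β ((-1 : F) : OnePoint F) := by
    rw [hu, ht', add_neg_cancel, hs0, ht1, hs1, ht', zero_add]
  have hus := huniq u u1 u0 u2
  intro x hx hx1
  have hx1' : x - 1 ≠ 0 := sub_ne_zero.2 hx1
  have h3 := hus x hx
  rw [hu, ht', ← sub_eq_add_neg, (hσ _ hx1').2, ht] at h3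
  have h4 : σ (x - 1) + 1 ≠ 0 := by
    intro h
    rw [h, hs0, ht1'] at h3
    exact OnePoint.infty_ne_coe _ (β.injective h3)
  rw [(hσ _ h4).2, ht'] at h3
  have h5 := OnePoint.coe_injective (β.injective h3)
  linear_combination h5

/-- `s` is inversion -/
theorem sigma_eq_inv' [Fintype F] (hF : ringChar F ≠ 2) {s : G} {σ : F → F}
    (htr : ∀ c : F, ∃ g : G, g • β ∞ = β ∞ ∧ ∀ x : F, g • β x = β ((x + c : F) : OnePoint F))
    (hs1 : s • β ∞ = β ((0 : F) : OnePoint F))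
    (hs0 : s • β ((0 : F) : OnePoint F) = β ∞)
    (hσ : ∀ x, x ≠ 0 → σ x ≠ 0 ∧ s • β x = β ((σ x : F) : OnePoint F)) (h1 : σ 1 = 1)
    (hsq : ∀ δ x : F, IsSquare δ → δ ≠ 0 → x ≠ 0 → σ (δ * x) = δ⁻¹ * σ x)
    (hneg : ∀ x : F, x ≠ 0 → σ (-x) = - σ x)
    (huniq : ∀ u : G, u • β ∞ = β ((0 : F) : OnePoint F) → u • β ((0 : F) : OnePoint F) = β ∞ →
      u • β ((1 : F) : OnePoint F) = β ((-1 : F) : OnePoint F) → ∀ x : F, x ≠ 0 → u • β x = β ((-σ x : F) : OnePoint F)) :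
    ∀ x, x ≠ 0 → σ x = x⁻¹ := by
  have hs : ∀ x, x ≠ 0 → IsSquare x → σ x = x⁻¹ := by
    intro x hx hxs
    have := hsq x 1 hxs hx one_ne_zero
    rwa [h1, mul_one, mul_one] at this
  have h2 : σ (-1) = -1 := by rw [hneg 1 one_ne_zero, h1]
  by_cases hm1 : IsSquare (-1 : F)
  swap
  · intro x hx
    by_cases hxs : IsSquare x
    · exact hs x hx hxs
    · have h3 : IsSquare (-x) := by
        have := isSquare_mul_of_not hm1 hxs
        rwa [neg_one_mul] at this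
      have h4 := hs (-x) (neg_ne_zero.2 hx) h3
      rw [hneg x hx, inv_neg] at h4
      exact neg_injective h4
  have hE := structure_eq' htr hs1 hs0 hσ h1 h2 huniq
  obtain ⟨y, hy0, hys, hy1⟩ := exists_square_add_one hF
  have hy10 : y + 1 ≠ 0 := by
    intro h
    apply hy1
    rw [h]
    exact ⟨0, by simp⟩
  have h3 := hE (y + 1) hy10 (by simpa using hy0)
  rw [add_sub_cancel_right, hs y hy0 hys] at h3
  have h4 : y⁻¹ + 1 = y⁻¹ * (y + 1) := by field_simp; ring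
  have hyis : IsSquare y⁻¹ := hys.inv
  rw [h4, hsq y⁻¹ (y + 1) hyis (inv_ne_zero hy0) hy10, inv_inv] at h3
  have h5 : σ (y + 1) = (y + 1)⁻¹ := by
    apply eq_inv_of_mul_eq_one_left
    linear_combination h3
  intro x hx
  by_cases hxs : IsSquare x
  · exact hs x hx hxs
  · have h6 : IsSquare (x / (y + 1)) := by
      obtain ⟨r, hr⟩ := isSquare_mul_of_not hxs hy1
      refine ⟨r / (y + 1), ?_⟩
      field_simp
      rw [hr]; ring
    have h7 := hsq (x / (y + 1)) (y + 1) h6 (div_ne_zero hx hy10) hy10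
    rw [div_mul_cancel₀ _ hy10, h5] at h7
    rw [h7]
    field_simp

end

variable {G Ω : Type*} [Group G] [MulAction G Ω]

/-- coordinates in sharply triply transitive groups of even degree -/
structure Semi (G : Type*) {Ω : Type*} [Group G] [MulAction G Ω] (K : Subgroup G) (F : Type) [Field F]
    (β : OnePoint F ≃ Ω) : Prop where
  char : ringChar F ≠ 2
  ker : Ker K (β ∞)
  trans : ∀ c : F, ∃ g ∈ K, g • β ∞ = β ∞ ∧ ∀ x : F, g • β x = β ((x + c : F) : OnePoint F)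
  transK : ∀ k ∈ K, ∃ c : F, ∀ x : F, k • β x = β ((x + c : F) : OnePoint F)
  mult : ∀ δ : Fˣ, IsSquare δ → ∃ g : G, g • β ∞ = β ∞ ∧ ∀ x : F, g • β x = β (((δ : F) * x : F) : OnePoint F)
  semi : ∀ g : G, g • β ∞ = β ∞ → g • β ((0 : F) : OnePoint F) = β ((0 : F) : OnePoint F) →
    ∃ (θ : F ≃+* F) (c : F), c ≠ 0 ∧ (∀ x, θ (θ x) = x) ∧ ∀ x : F, g • β x = β ((c * θ x : F) : OnePoint F)
  neg : ∃ g : G, g • β ∞ = β ∞ ∧ ∀ x : F, g • β x = β ((-x : F) : OnePoint F)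

theorem coords [Finite G] [Fintype Ω] (h : S3 G Ω) (h4 : 4 ≤ Fintype.card Ω) (heven : Even (Fintype.card Ω))
    {a b w : Ω} (hab : a ≠ b) (hwa : w ≠ a) (hwb : w ≠ b) {s : G} (hsa : s • a = b) (hsb : s • b = a) (hsw : s • w = w) :
    ∃ (F : Type) (_ : Field F) (_ : Fintype F) (β : OnePoint F ≃ Ω) (K : Subgroup G), Semi G K F β ∧
      β ∞ = a ∧ β ((0 : F) : OnePoint F) = b ∧ β ((1 : F) : OnePoint F) = w ∧ Fintype.card F + 1 = Fintype.card Ω ∧
      ∀ x : F, x ≠ 0 → s • β x = β ((x⁻¹ : F) : OnePoint F) := by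
  classical
  haveI : Fact (Nat.Prime 2) := ⟨Nat.prime_two⟩
  have hZ := h.zg (by omega)
  have hcE := h.card_E (by omega) hab
  obtain ⟨N, hNE, hN2, hNinv, hNn⟩ := TwoApp.index_two h h4 heven hab hwa hwb hsa hsb hsw
  have hNc : ∀ g ∈ N, ∀ k ∈ N, g * k = k * g := by
    intro g hg k hk
    have h1 := hNinv _ (N.mul_mem (N.inv_mem hg) (N.inv_mem hk))
    have h2 : s * (g⁻¹ * k⁻¹) * s⁻¹ = (s * g * s⁻¹)⁻¹ * (s * k * s⁻¹)⁻¹ := by group
    rw [h2, hNinv g hg, hNinv k hk] at h1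
    simpa using h1
  have hEev : 2 ∣ Nat.card ↥(MulAction.stabilizer G a ⊓ MulAction.stabilizer G b) := by
    obtain ⟨t, ht⟩ := heven
    exact ⟨t - 1, by omega⟩
  obtain ⟨z, hz⟩ := exists_prime_orderOf_dvd_card' 2 hEev
  have hz1 : (z : G) ≠ 1 := by
    intro h
    have : z = 1 := Subtype.ext h
    rw [this, orderOf_one] at hz
    omega
  have hz2 : (z : G) * z = 1 := by
    have := pow_orderOf_eq_one z
    rw [hz, pow_two] at this
    exact congrArg Subtype.val this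
  have hza : (z : G) • a = a := z.2.1
  have hzb : (z : G) • b = b := z.2.2
  obtain ⟨K, hK⟩ := exists_ker hZ hab
  have hKinv := hK.inverts hZ hab hza hzb hz1 hz2
  have hKc := hK.comm_of_even hZ hab hza hzb hz1 hz2
  obtain ⟨F, hF, hFf, β, D, hβa, hβb, hβw, hDc, hFc, htr, htK, hmu, hN, hsemi⟩ := ZassT.coordsN hZ hab hwa hwb hK hKc
    (E := N) (fun g hg => ⟨(hNE hg).1, (hNE hg).2⟩) hNc (by omega)
  have h2F : 1 < Fintype.card F := Fintype.one_lt_card
  have hDF : 2 * Nat.card D + 1 = Fintype.card F := by omega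
  have hmem := mem_iff_isSquare hDF
  have hchar := ringChar_ne hDF
  have hs1 : s • β ∞ = β ((0 : F) : OnePoint F) := by rw [hβa, hβb, hsa]
  have hs0 : s • β ((0 : F) : OnePoint F) = β ∞ := by rw [hβa, hβb, hsb]
  have hzneg : ∀ x : F, (z : G) • β x = β ((-x : F) : OnePoint F) := by
    intro x
    obtain ⟨k, hk, -, hkx⟩ := htr x
    have h1 : β (x : OnePoint F) = k • b := by
      rw [← hβb, hkx, zero_add]
    have h2 : k⁻¹ • b = β ((-x : F) : OnePoint F) := by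
      rw [inv_smul_eq_iff, hkx, neg_add_cancel, hβb]
    rw [h1, ← h2, ← hKinv k hk, mul_smul, mul_smul, show (z : G)⁻¹ • b = b by rw [inv_smul_eq_iff, hzb]]
  obtain ⟨σ, hσ⟩ := sigma hs1 hs0
  have hσ1 : σ 1 = 1 := by
    have := (hσ 1 one_ne_zero).2
    rw [hβw, hsw, ← hβw] at this
    exact (OnePoint.coe_injective (β.injective this)).symm
  have hsq : ∀ δ x : F, IsSquare δ → δ ≠ 0 → x ≠ 0 → σ (δ * x) = δ⁻¹ * σ x := by
    intro δ x hδ hδ0 hx
    obtain ⟨r, hr⟩ := hδ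
    have hr0 : r ≠ 0 := by rintro rfl; rw [mul_zero] at hr; exact hδ0 hr
    obtain ⟨g, hg1, hg2⟩ := hmu (Units.mk0 r hr0 * Units.mk0 r hr0) ((hmem _).2 ⟨_, rfl⟩)
    refine sigma_mul hσ hδ0 (g := g) (fun x => ?_) (hNinv g hg1) hx
    rw [hg2, hr]; rfl
  have hszs : s * z * s⁻¹ = z := by
    have h1 := TwoApp.conj_E hsa hsb z.2
    exact unique_invol hZ hab h1.1 h1.2 (by
      intro h5
      apply hz1
      calc (z : G) = s⁻¹ * (s * z * s⁻¹) * s := by group
        _ = 1 := by rw [h5]; group) (by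
      calc s * z * s⁻¹ * (s * z * s⁻¹) = s * ((z : G) * z) * s⁻¹ := by group
        _ = 1 := by rw [hz2]; group) hza hzb hz1 hz2
  have hneg : ∀ x : F, x ≠ 0 → σ (-x) = - σ x := by
    intro x hx
    have h1 : s * z = z * s := mul_inv_eq_iff_eq_mul.1 hszs
    have h2 := congrArg (fun g => g • β x) h1
    simp only [mul_smul] at h2
    rw [hzneg, (hσ x hx).2, (hσ _ (neg_ne_zero.2 hx)).2, hzneg] at h2
    exact OnePoint.coe_injective (β.injective h2)
  have hinf0 : β ∞ ≠ β ((0 : F) : OnePoint F) := by rw [hβa, hβb]; exact hab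
  have hinv := sigma_eq_inv' hchar (fun c => by obtain ⟨g, -, h1, h2⟩ := htr c; exact ⟨g, h1, h2⟩) hs1 hs0 hσ hσ1 hsq hneg (by
    intro u hu1 hu0 hu2 x hx
    have h5 : (z * s : G)⁻¹ * u = 1 := by
      apply h.sharp _ (β ∞) (β ((0 : F) : OnePoint F)) (β ((1 : F) : OnePoint F)) hinf0
      · intro h6
        exact zero_ne_one (OnePoint.coe_injective (β.injective h6))
      · intro h6
        exact OnePoint.infty_ne_coe _ (β.injective h6)
      · rw [mul_smul, inv_smul_eq_iff, hu1, mul_smul, hs1, hzneg, neg_zero]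
      · rw [mul_smul, inv_smul_eq_iff, hu0, mul_smul, hs0, hβa, hza]
      · rw [mul_smul, inv_smul_eq_iff, hu2, mul_smul, (hσ 1 one_ne_zero).2, hσ1, hzneg]
    rw [← inv_mul_eq_one.1 h5, mul_smul, (hσ x hx).2, hzneg])
  refine ⟨F, hF, hFf, β, K, ⟨hchar, by rw [hβa]; exact hK, htr, htK, ?_, ?_, ⟨z, by rw [hβa]; exact hza, hzneg⟩⟩, hβa, hβb, hβw, hFc, ?_⟩
  · intro δ hδ
    obtain ⟨g, hg1, hg2⟩ := hmu δ ((hmem δ).2 hδ)
    exact ⟨g, by rw [hβa]; exact (hNE hg1).1, hg2⟩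
  · intro g hg1 hg2
    rw [hβa] at hg1
    rw [hβb] at hg2
    have hgE : g ∈ MulAction.stabilizer G a ⊓ MulAction.stabilizer G b := ⟨hg1, hg2⟩
    obtain ⟨θ, c, hc, hθ⟩ := hsemi g hg1 hg2 (fun e he => hNn g hgE e he)
    refine ⟨θ, c, hc, ?_, hθ⟩
    -- g * g ∈ N
    have hgg : g * g ∈ N := by
      have hidx : (N.subgroupOf (MulAction.stabilizer G a ⊓ MulAction.stabilizer G b)).index = 2 := by
        have h1 := (N.subgroupOf (MulAction.stabilizer G a ⊓ MulAction.stabilizer G b)).card_mul_index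
        rw [Nat.card_congr (Subgroup.subgroupOfEquivOfLe hNE).toEquiv, ← hN2, mul_comm 2] at h1
        exact Nat.eq_of_mul_eq_mul_left Nat.card_pos h1
      have h2 := (Subgroup.mul_mem_iff_of_index_two hidx (a := ⟨g, hgE⟩) (b := ⟨g, hgE⟩)).2 Iff.rfl
      exact h2
    obtain ⟨δ, -, hδ⟩ := hN _ hgg
    have h3 : ∀ x : F, c * θ (c * θ x) = δ * x := by
      intro x
      have h5 := hδ x
      rw [mul_smul, hθ, hθ] at h5
      exact OnePoint.coe_injective (β.injective h5)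
    have h4 := h3 1
    rw [map_one, mul_one, mul_one] at h4
    intro x
    have h5 := h3 x
    rw [map_mul, ← h4] at h5
    have h6 : θ c ≠ 0 := by rw [Ne, map_eq_zero_iff θ θ.injective]; exact hc
    have h7 : (c * θ c) * θ (θ x) = (c * θ c) * x := by linear_combination h5
    exact mul_left_cancel₀ (mul_ne_zero hc h6) h7
  · intro x hx
    rw [(hσ x hx).2, hinv x hx]

end Cfsg.Agent.H9.ZassU
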