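import Mathlib
import Cfsg.Agent.H9_ZassU
import Cfsg.Agent.H9_SemiAff

/-!
# Sharply triply transitive groups of even degree
-/

set_option autoImplicit false

namespace Cfsg.Agent.H9.ZassV

open OnePoint Cfsg.Agent.H9.ZassA Cfsg.Agent.H9.ZassC Cfsg.Agent.H9.ZassRec Cfsg.Agent.H9.ZassH Cfsg.Agent.H9.ZassI
  Cfsg.Agent.H9.ZassU

theorem theta_one {F : Type} [Field F] [Fintype F] {p f : ℕ} (hp : p.Prime) (hf : Odd f) (hc : Fintype.card F = p ^ f)
    (θ : F ≃+* F) (hθ : ∀ x, θ (θ x) = x) : ∀ x, θ x = x := by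
  have h1 := SemiAff.card_eq_fixed_pow (F := F) θ
  have h2 : orderOf (θ : RingAut F) ∣ 2 := by
    apply orderOf_dvd_of_pow_eq_one
    rw [pow_two]
    ext x
    exact hθ x
  rcases (Nat.dvd_prime Nat.prime_two).1 h2 with h | h
  · rw [orderOf_eq_one_iff] at h
    intro x
    exact DFunLike.congr_fun h x
  · exfalso
    rw [h, hc] at h1
    have h3 := congrArg (fun n => n.factorization p) h1
    simp only [Nat.factorization_pow, Finsupp.smul_apply, smul_eq_mul, hp.factorization_self, mul_one] at h3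
    obtain ⟨k, hk⟩ := hf
    omega

section

variable {G Ω : Type*} [Group G] [MulAction G Ω] {K : Subgroup G} {F : Type} [Field F] {β : OnePoint F ≃ Ω}

theorem ne_inf0 : β ∞ ≠ β ((0 : F) : OnePoint F) := fun h => OnePoint.infty_ne_coe _ (β.injective h)

theorem ne_inf (x : F) : β ∞ ≠ β (x : OnePoint F) := fun h => OnePoint.infty_ne_coe _ (β.injective h)

theorem coe_ne {x y : F} (hxy : x ≠ y) : β (x : OnePoint F) ≠ β (y : OnePoint F) :=
  fun h => hxy (OnePoint.coe_injective (β.injective h))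

theorem toCoord (h : S3 G Ω) (hfaith : ∀ g : G, (∀ x : Ω, g • x = x) → g = 1) (hS : Semi G K F β)
    (hθ : ∀ θ : F ≃+* F, (∀ x, θ (θ x) = x) → ∀ x, θ x = x) : Coord (G := G) F β ⊤ := by
  have hmul : ∀ g : G, g • β ∞ = β ∞ → g • β ((0 : F) : OnePoint F) = β ((0 : F) : OnePoint F) →
    ∃ c : F, c ≠ 0 ∧ ∀ x : F, g • β x = β ((c * x : F) : OnePoint F) := by
    intro g h1 h2
    obtain ⟨θ, c, hc, hθθ, h3⟩ := hS.semi g h1 h2
    exact ⟨c, hc, fun x => by rw [h3, hθ θ hθθ]⟩
  refine ⟨hfaith, fun c => ?_, fun δ _ => ?_, fun g hg => ?_⟩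
  · obtain ⟨g, -, h1, h2⟩ := hS.trans c
    exact ⟨g, h1, h2⟩
  · obtain ⟨g, h1, h2, h3⟩ := h.trans (ne_inf (β := β) 0) (ne_inf 1) (coe_ne zero_ne_one) (ne_inf 0)
      (ne_inf (δ : F)) (coe_ne δ.ne_zero.symm)
    obtain ⟨c, hc, h4⟩ := hmul g h1 h2
    refine ⟨g, h1, fun x => ?_⟩
    rw [h4, mul_one] at h3
    rw [h4, OnePoint.coe_injective (β.injective h3)]
  · obtain ⟨y, hy⟩ := β.surjective (g • β ((0 : F) : OnePoint F))
    induction y using OnePoint.rec with
    | infty =>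
      exfalso
      rw [← hg] at hy
      exact ne_inf (β := β) (0 : F) (MulAction.injective g hy)
    | coe y =>
      obtain ⟨t, -, ht1, ht2⟩ := hS.trans y
      obtain ⟨c, hc, h4⟩ := hmul (t⁻¹ * g) (by rw [mul_smul, hg, inv_smul_eq_iff, ht1])
        (by rw [mul_smul, inv_smul_eq_iff, ← hy, ht2, zero_add])
      refine ⟨Units.mk0 c hc, trivial, y, fun x => ?_⟩
      have := h4 x
      rw [mul_smul, inv_smul_eq_iff, ht2] at this
      exact this

end

/-- sharply triply transitive groups of degree `p ^ f + 1` with `f` odd -/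
theorem pgl_odd {G Ω : Type*} [Group G] [MulAction G Ω] [Finite G] [Fintype Ω] (h : S3 G Ω) {p f : ℕ} (hp : p.Prime)
    (hp2 : p ≠ 2) (hf : Odd f) (hc : Fintype.card Ω = p ^ f + 1) :
    ∃ (F : Type) (_ : Field F) (_ : Fintype F), Fintype.card F = p ^ f ∧
      Nonempty (G ≃* Matrix.ProjGenLinGroup (Fin 2) F) := by
  classical
  have hpo : Odd p := hp.odd_of_ne_two hp2
  have hpf : Odd (p ^ f) := hpo.pow
  have h3 : 3 ≤ p ^ f := by
    have h5 : 3 ≤ p := by
      have := hp.two_le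
      omega
    have h6 : f ≠ 0 := by rintro rfl; exact absurd hf (by decide)
    calc 3 ≤ p := h5
      _ = p ^ 1 := (pow_one p).symm
      _ ≤ p ^ f := Nat.pow_le_pow_right hp.pos (by omega)
  have heven : Even (Fintype.card Ω) := by rw [hc]; exact hpf.add_one
  obtain ⟨a, b, hab⟩ := Fintype.exists_pair_of_one_lt_card (α := Ω) (by omega)
  obtain ⟨w, hw⟩ : ∃ w : Ω, w ∉ ({a, b} : Finset Ω) := by
    by_contra hcon
    push Not at hcon
    have h1 : Fintype.card Ω ≤ ({a, b} : Finset Ω).card := by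
      rw [← Finset.card_univ]
      exact Finset.card_le_card (fun c _ => hcon c)
    have h2 := Finset.card_le_two (a := a) (b := b)
    omega
  rw [Finset.mem_insert, Finset.mem_singleton, not_or] at hw
  obtain ⟨s, hsa, hsb, hsw⟩ := h.trans hab (Ne.symm hw.1) (Ne.symm hw.2) hab.symm (Ne.symm hw.2) (Ne.symm hw.1)
  obtain ⟨F, hF, hFf, β, K, hS, hβa, hβb, hβw, hFc, hs⟩ := ZassU.coords h (by omega) heven hab hw.1 hw.2 hsa hsb hsw
  have hFc' : Fintype.card F = p ^ f := by omega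
  have hC := toCoord h (h.zg (by omega)).faith hS (theta_one hp hf hFc')
  refine ⟨F, hF, hFf, hFc', ?_⟩
  exact recPGL hC (c := 1) one_ne_zero (by rw [hβa, hβb, hsa]) (by rw [hβa, hβb, hsb]) (fun x hx => by
    rw [hs x hx, one_div])

section

variable {G Ω : Type*} [Group G] [MulAction G Ω] {K : Subgroup G} {F : Type} [Field F] {β : OnePoint F ≃ Ω}

/-- elements acting as elements of `PSL(2,F)` -/
def G0 [DecidableEq F] (G : Type*) {Ω : Type*} [Group G] [MulAction G Ω] (β : OnePoint F ≃ Ω) : Subgroup G where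
  carrier := {g | ∃ m : Matrix.SpecialLinearGroup (Fin 2) F, Rel (actSL F) β m g}
  mul_mem' := by
    rintro g g' ⟨m, hm⟩ ⟨m', hm'⟩
    exact ⟨m * m', hm.mul hm'⟩
  one_mem' := ⟨1, fun p => by rw [one_smul, map_one]; rfl⟩
  inv_mem' := by
    rintro g ⟨m, hm⟩
    exact ⟨m⁻¹, hm.inv⟩

theorem not_simple [DecidableEq F] [Fintype F] [IsSimpleGroup G] (h : S3 G Ω) (hS : Semi G K F β) {s : G}
    (hs1 : s • β ∞ = β ((0 : F) : OnePoint F)) (hs0 : s • β ((0 : F) : OnePoint F) = β ∞)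
    (hs : ∀ x : F, x ≠ 0 → s • β x = β ((x⁻¹ : F) : OnePoint F)) : False := by
  have hK0 : K ≤ G0 G β := by
    intro k hk
    obtain ⟨c, hc⟩ := hS.transK k hk
    have hne : (1 : F) * 1 - c * 0 = 1 := by ring
    obtain ⟨e1, e2, e3, e4⟩ := H4.Zass.mk2_entries (1 : F) c 0 1 hne
    refine ⟨H4.Zass.mk2 (1 : F) c 0 1 hne, fun p => ?_⟩
    induction p using OnePoint.rec with
    | infty => rw [hS.ker.le k hk, actSL_apply, H4.Zass.sact_infty, if_pos e3]
    | coe x =>
      rw [hc, actSL_apply, H4.Zass.sact_coe, e1, e2, e3, e4]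
      simp
  obtain ⟨z, hz1, hz⟩ := hS.neg
  have hu0 : z * s ∈ G0 G β := by
    have hne : (0 : F) * 0 - (-1) * 1 = 1 := by ring
    obtain ⟨e1, e2, e3, e4⟩ := H4.Zass.mk2_entries (0 : F) (-1) 1 0 hne
    refine ⟨H4.Zass.mk2 (0 : F) (-1) 1 0 hne, fun p => ?_⟩
    induction p using OnePoint.rec with
    | infty =>
      rw [mul_smul, hs1, hz, actSL_apply, H4.Zass.sact_infty, e1, e3]
      simp
    | coe x =>
      by_cases hx : x = 0
      · subst hx
        rw [mul_smul, hs0, hz1, actSL_apply, H4.Zass.sact_coe, e1, e2, e3, e4]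
        simp
      · rw [mul_smul, hs x hx, hz, actSL_apply, H4.Zass.sact_coe, e1, e2, e3, e4]
        simp only [one_mul, add_zero, hx, if_false, zero_mul, zero_add]
        congr 2
        rw [neg_div, one_div]
  have hconj : ∀ g : G, ∀ k ∈ K, g * k * g⁻¹ ∈ G0 G β := by
    intro g k hk
    by_cases hg : g • β ∞ = β ∞
    · exact hK0 (hS.ker.nrm g hg k hk)
    · obtain ⟨l, hl, hl2⟩ := hS.ker.reg (β ((0 : F) : OnePoint F)) (g • β ∞) ne_inf0.symm hg
      have h1 : ((z * s)⁻¹ * l⁻¹ * g) • β ∞ = β ∞ := by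
        rw [mul_smul, mul_smul, inv_smul_eq_iff, ← hl2, inv_smul_smul, mul_smul, hs1, hz, neg_zero]
      have h2 := hS.ker.nrm _ h1 k hk
      have h3 : g * k * g⁻¹ = l * ((z * s) * (((z * s)⁻¹ * l⁻¹ * g) * k * ((z * s)⁻¹ * l⁻¹ * g)⁻¹) * (z * s)⁻¹) * l⁻¹ := by
        group
      rw [h3]
      exact (G0 G β).mul_mem ((G0 G β).mul_mem (hK0 hl) ((G0 G β).mul_mem ((G0 G β).mul_mem hu0 (hK0 h2))
        ((G0 G β).inv_mem hu0))) ((G0 G β).inv_mem (hK0 hl))
  have htop : G0 G β = ⊤ := by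
    have h1 : Subgroup.normalClosure (K : Set G) ≤ G0 G β := by
      rw [Subgroup.normalClosure, Subgroup.closure_le]
      intro x hx
      rw [Group.mem_conjugatesOfSet_iff] at hx
      obtain ⟨k, hk, hkx⟩ := hx
      rw [isConj_iff] at hkx
      obtain ⟨c, rfl⟩ := hkx
      exact hconj c k hk
    have h2 : Subgroup.normalClosure (K : Set G) = ⊤ := by
      rcases (Subgroup.normalClosure_normal (s := (K : Set G))).eq_bot_or_eq_top with h3 | h3
      · exfalso
        obtain ⟨t, ht, ht1, ht2⟩ := hS.trans 1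
        have h4 : t ∈ Subgroup.normalClosure (K : Set G) := Subgroup.subset_normalClosure ht
        rw [h3, Subgroup.mem_bot] at h4
        have h5 := ht2 0
        rw [h4, one_smul, zero_add] at h5
        exact coe_ne zero_ne_one h5
      · exact h3
    rw [h2] at h1
    exact top_le_iff.1 h1
  obtain ⟨ν, hν⟩ := FiniteField.exists_nonsquare hS.char
  have hν0 : ν ≠ 0 := by rintro rfl; exact hν ⟨0, by simp⟩
  obtain ⟨g, h1, h2, h3⟩ := h.trans (ne_inf (β := β) 0) (ne_inf 1) (coe_ne zero_ne_one) (ne_inf 0)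
      (ne_inf ν) (coe_ne hν0.symm)
  have hg : g ∈ G0 G β := by rw [htop]; trivial
  obtain ⟨m, hm⟩ := hg
  have h10 : m 1 0 = 0 := by
    have := hm ∞
    rw [h1] at this
    exact H4.Zass.ne10 m (β.injective this).symm
  have hdet : m 0 0 * m 1 1 = 1 := by
    have := m.det_coe
    rw [Matrix.det_fin_two, h10, mul_zero, sub_zero] at this
    exact this
  have h11 : m 1 1 ≠ 0 := right_ne_zero_of_mul (by rw [hdet]; exact one_ne_zero)
  have h00 : m 0 0 ≠ 0 := left_ne_zero_of_mul (by rw [hdet]; exact one_ne_zero)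
  have h4 := hm ((0 : F) : OnePoint F)
  rw [h2, actSL_apply, H4.Zass.sact_coe, h10, zero_mul, zero_add, if_neg h11, mul_zero, zero_add] at h4
  have h5 := OnePoint.coe_injective (β.injective h4)
  have h01 : m 0 1 = 0 := by
    rcases div_eq_zero_iff.1 h5.symm with h6 | h6
    · exact h6
    · exact absurd h6 h11
  have h6 := hm ((1 : F) : OnePoint F)
  rw [h3, actSL_apply, H4.Zass.sact_coe, h10, zero_mul, zero_add, if_neg h11, h01, mul_one, add_zero] at h6
  have h7 := OnePoint.coe_injective (β.injective h6)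
  apply hν
  refine ⟨m 0 0, ?_⟩
  rw [h7]
  have h8 : m 0 0 = (m 1 1)⁻¹ := eq_inv_of_mul_eq_one_left hdet
  rw [h8]
  field_simp

end

end Cfsg.Agent.H9.ZassV
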