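import Mathlib
import Cfsg.Agent.H9_ZassV

/-!
# Zassenhaus groups with even two-point stabiliser
-/

set_option autoImplicit false

namespace Cfsg.Agent.H9.ZassW

open Cfsg.Agent.H9.ZassA Cfsg.Agent.H9.ZassC Cfsg.Agent.H9.ZassI

variable {G Ω : Type*} [Group G] [MulAction G Ω]

/-- semiregularity of the two-point stabiliser -/
theorem dvd_E [Finite G] [Fintype Ω] (hZ : ZG G Ω) {a b : Ω} (hab : a ≠ b) :
    Nat.card ↥(MulAction.stabilizer G a ⊓ MulAction.stabilizer G b) ∣ Fintype.card Ω - 2 := by
  classical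
  let E := MulAction.stabilizer G a ⊓ MulAction.stabilizer G b
  let W := {y : Ω // y ≠ a ∧ y ≠ b}
  letI : MulAction E W :=
    { smul := fun e y => ⟨(e : G) • (y : Ω), by
        have h1 : (e : G) • a = a := e.2.1
        have h2 : (e : G) • b = b := e.2.2
        exact ⟨fun h => y.2.1 (MulAction.injective (e : G) (h.trans h1.symm)),
          fun h => y.2.2 (MulAction.injective (e : G) (h.trans h2.symm))⟩⟩
      one_smul := fun y => Subtype.ext (one_smul G (y : Ω))
      mul_smul := fun e f y => Subtype.ext (mul_smul (e : G) (f : G) (y : Ω)) }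
  have hsm : ∀ (e : E) (y : W), ((e • y : W) : Ω) = (e : G) • (y : Ω) := fun _ _ => rfl
  have hfree : ∀ (y : W), MulAction.stabilizer E y = ⊥ := by
    intro y
    rw [Subgroup.eq_bot_iff_forall]
    intro e he
    have h1 : (e : G) • (y : Ω) = y := congrArg Subtype.val he
    exact Subtype.ext (hZ.three e a b y hab (Ne.symm y.2.2) (Ne.symm y.2.1) e.2.1 e.2.2 h1)
  have hcard : Nat.card W = Fintype.card Ω - 2 := by
    have h1 : Nat.card W = Nat.card {y : Ω // y ∉ ({a, b} : Finset Ω)} := by
      apply Nat.card_congr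
      refine Equiv.subtypeEquivRight (fun y => ?_)
      rw [Finset.mem_insert, Finset.mem_singleton, not_or]
    rw [h1, Nat.card_eq_fintype_card, Fintype.card_subtype_compl]
    have h5 : Fintype.card {x // x ∈ ({a, b} : Finset Ω)} = 2 := by
      rw [Fintype.card_coe, Finset.card_pair hab]
    rw [h5]
  rw [← hcard]
  have h2 := MulAction.selfEquivOrbitsQuotientProd hfree
  rw [Nat.card_congr h2, Nat.card_prod]
  exact dvd_mul_left _ _

theorem card_conj {a b c d : Ω} (hZ : ZG G Ω) (hab : a ≠ b) (hcd : c ≠ d) :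
    Nat.card ↥(MulAction.stabilizer G a ⊓ MulAction.stabilizer G b) =
    Nat.card ↥(MulAction.stabilizer G c ⊓ MulAction.stabilizer G d) := by
  obtain ⟨g, rfl, rfl⟩ := hZ.two hab hcd
  have key : ∀ (e : G) (x : Ω), (g * e * g⁻¹) • g • x = g • x ↔ e • x = x := by
    intro e x
    rw [mul_smul, mul_smul, inv_smul_smul]
    exact ⟨fun h => MulAction.injective g h, fun h => by rw [h]⟩
  refine Nat.card_congr ⟨fun e => ⟨g * e * g⁻¹, (key e a).2 e.2.1, (key e b).2 e.2.2⟩,
    fun e => ⟨g⁻¹ * e * g, (key _ a).1 (by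
      have : g * (g⁻¹ * e * g) * g⁻¹ = e := by group
      rw [this]; exact e.2.1), (key _ b).1 (by
      have : g * (g⁻¹ * e * g) * g⁻¹ = e := by group
      rw [this]; exact e.2.2)⟩, fun e => ?_, fun e => ?_⟩
  · apply Subtype.ext
    change g⁻¹ * (g * e * g⁻¹) * g = e
    group
  · apply Subtype.ext
    change g * (g⁻¹ * e * g) * g⁻¹ = e
    group

theorem s3_of_card [Finite G] [Fintype Ω] (hZ : ZG G Ω) {a b : Ω} (hab : a ≠ b)
    (hc : Nat.card ↥(MulAction.stabilizer G a ⊓ MulAction.stabilizer G b) + 2 = Fintype.card Ω) : S3 G Ω := by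
  classical
  refine ⟨?_, hZ.three⟩
  have key : ∀ c c' : Ω, c ≠ a → c ≠ b → c' ≠ a → c' ≠ b → ∃ e : G, e • a = a ∧ e • b = b ∧ e • c = c' := by
    intro c c' hca hcb hca' hcb'
    let f : ↥(MulAction.stabilizer G a ⊓ MulAction.stabilizer G b) → {y : Ω // y ∉ ({a, b} : Finset Ω)} :=
      fun e => ⟨(e : G) • c, by
        rw [Finset.mem_insert, Finset.mem_singleton, not_or]
        have h1 : (e : G) • a = a := e.2.1
        have h2 : (e : G) • b = b := e.2.2
        exact ⟨fun h => hca (MulAction.injective (e : G) (h.trans h1.symm)),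
          fun h => hcb (MulAction.injective (e : G) (h.trans h2.symm))⟩⟩
    have hinj : Function.Injective f := by
      intro k l hkl
      have h1 : (k : G) • c = (l : G) • c := congrArg Subtype.val hkl
      have h2 := hZ.three ((l : G)⁻¹ * k) a b c hab (Ne.symm hcb) (Ne.symm hca)
        (by rw [mul_smul, show (k : G) • a = a from k.2.1, inv_smul_eq_iff]; exact l.2.1.symm)
        (by rw [mul_smul, show (k : G) • b = b from k.2.2, inv_smul_eq_iff]; exact l.2.2.symm)
        (by rw [mul_smul, h1, inv_smul_smul])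
      exact Subtype.ext (inv_mul_eq_one.1 h2).symm
    haveI := Fintype.ofFinite ↥(MulAction.stabilizer G a ⊓ MulAction.stabilizer G b)
    have hbij := (Fintype.bijective_iff_injective_and_card f).2 ⟨hinj, by
      rw [Fintype.card_subtype_compl]
      have h5 : Fintype.card {x // x ∈ ({a, b} : Finset Ω)} = 2 := by
        rw [Fintype.card_coe, Finset.card_pair hab]
      rw [h5, ← Nat.card_eq_fintype_card]
      omega⟩
    obtain ⟨e, he⟩ := hbij.2 ⟨c', by
      rw [Finset.mem_insert, Finset.mem_singleton, not_or]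
      exact ⟨hca', hcb'⟩⟩
    exact ⟨e, e.2.1, e.2.2, congrArg Subtype.val he⟩
  intro x y z x' y' z' hxy hxz hyz hxy' hxz' hyz'
  obtain ⟨g1, h1, h2⟩ := hZ.two hxy hab
  obtain ⟨g2, h3, h4⟩ := hZ.two hxy' hab
  obtain ⟨e, h5, h6, h7⟩ := key (g1 • z) (g2 • z') (fun h => hxz (MulAction.injective g1 (h1.trans h.symm)))
    (fun h => hyz (MulAction.injective g1 (h2.trans h.symm))) (fun h => hxz' (MulAction.injective g2 (h3.trans h.symm)))
    (fun h => hyz' (MulAction.injective g2 (h4.trans h.symm)))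
  refine ⟨g2⁻¹ * e * g1, ?_, ?_, ?_⟩
  · rw [mul_smul, mul_smul, h1, h5, inv_smul_eq_iff, h3]
  · rw [mul_smul, mul_smul, h2, h6, inv_smul_eq_iff, h4]
  · rw [mul_smul, mul_smul, h7, inv_smul_smul]

/-- the dichotomy when the two-point stabiliser has even order -/
theorem even_cases [Finite G] [Fintype Ω] (hZ : ZG G Ω) {a b : Ω} (hab : a ≠ b)
    (heven : Even (Nat.card ↥(MulAction.stabilizer G a ⊓ MulAction.stabilizer G b))) :
    2 * Nat.card ↥(MulAction.stabilizer G a ⊓ MulAction.stabilizer G b) = Fintype.card Ω - 2 ∨ S3 G Ω := by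
  have h1 := ZassB.card_le hZ hab heven
  obtain ⟨k, hk⟩ := dvd_E hZ hab
  have h2 : 0 < Nat.card ↥(MulAction.stabilizer G a ⊓ MulAction.stabilizer G b) := Nat.card_pos
  have h3 : 1 < Fintype.card Ω := Fintype.one_lt_card_iff.2 ⟨a, b, hab⟩
  rw [hk] at h1
  rw [mul_comm] at h1
  have h4 : k ≤ 2 := Nat.le_of_mul_le_mul_right h1 h2
  interval_cases k
  · -- card Ω = 2
    exfalso
    have hcard : Fintype.card Ω = 2 := by omega
    obtain ⟨z, hz⟩ : ∃ z : ↥(MulAction.stabilizer G a ⊓ MulAction.stabilizer G b), z ≠ 1 := by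
      have : 1 < Nat.card ↥(MulAction.stabilizer G a ⊓ MulAction.stabilizer G b) := by
        obtain ⟨t, ht⟩ := heven
        omega
      haveI := (Finite.one_lt_card_iff_nontrivial).1 this
      exact exists_ne 1
    apply hz
    apply Subtype.ext
    apply hZ.faith
    intro x
    by_cases hxa : x = a
    · rw [hxa]; exact z.2.1
    · by_cases hxb : x = b
      · rw [hxb]; exact z.2.2
      · exfalso
        classical
        have h5 : ({a, b, x} : Finset Ω).card = 3 := Finset.card_eq_three.mpr ⟨a, b, x, hab, Ne.symm hxa, Ne.symm hxb, rfl⟩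
        have h6 := Finset.card_le_univ ({a, b, x} : Finset Ω)
        omega
  · right
    apply s3_of_card hZ hab
    omega
  · left
    rw [hk, mul_comm]

/-- **Simple Zassenhaus groups with even two-point stabiliser.** -/
theorem simple_even [Finite G] [Fintype Ω] [IsSimpleGroup G] (hZ : ZG G Ω) {a b : Ω} (hab : a ≠ b)
    (heven : Even (Nat.card ↥(MulAction.stabilizer G a ⊓ MulAction.stabilizer G b))) :
    2 * Nat.card ↥(MulAction.stabilizer G a ⊓ MulAction.stabilizer G b) = Fintype.card Ω - 2 := by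
  classical
  rcases even_cases hZ hab heven with h | h
  · exact h
  exfalso
  have h0 : 0 < Nat.card ↥(MulAction.stabilizer G a ⊓ MulAction.stabilizer G b) := Nat.card_pos
  have h2 : 2 ≤ Nat.card ↥(MulAction.stabilizer G a ⊓ MulAction.stabilizer G b) := by
    obtain ⟨t, ht⟩ := heven
    omega
  have h1 : 1 < Fintype.card Ω := Fintype.one_lt_card_iff.2 ⟨a, b, hab⟩
  have h3 : 4 ≤ Fintype.card Ω := by
    rcases Nat.lt_or_ge (Fintype.card Ω) 3 with h4 | h4
    · exfalso
      have h5 := ZassB.card_le hZ hab heven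
      have hcard : Fintype.card Ω = 2 := by omega
      obtain ⟨z, hz⟩ : ∃ z : ↥(MulAction.stabilizer G a ⊓ MulAction.stabilizer G b), z ≠ 1 := by
        haveI := (Finite.one_lt_card_iff_nontrivial).1 (show 1 < Nat.card ↥(MulAction.stabilizer G a ⊓ MulAction.stabilizer G b) by omega)
        exact exists_ne 1
      apply hz
      apply Subtype.ext
      apply hZ.faith
      intro x
      by_cases hxa : x = a
      · rw [hxa]; exact z.2.1
      · by_cases hxb : x = b
        · rw [hxb]; exact z.2.2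
        · exfalso
          have h5 : ({a, b, x} : Finset Ω).card = 3 := Finset.card_eq_three.mpr ⟨a, b, x, hab, Ne.symm hxa, Ne.symm hxb, rfl⟩
          have h6 := Finset.card_le_univ ({a, b, x} : Finset Ω)
          omega
    · have := h.card_E h4 hab
      omega
  have hcE := h.card_E (by omega) hab
  have hev : Even (Fintype.card Ω) := by
    rw [← hcE]
    exact heven.add (by decide)
  obtain ⟨w, hw⟩ : ∃ w : Ω, w ∉ ({a, b} : Finset Ω) := by
    by_contra hcon
    push Not at hcon
    have h1 : Fintype.card Ω ≤ ({a, b} : Finset Ω).card := by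
      rw [← Finset.card_univ]
      exact Finset.card_le_card (fun c _ => hcon c)
    have h2 := Finset.card_le_two (a := a) (b := b)
    omega
  rw [Finset.mem_insert, Finset.mem_singleton, not_or] at hw
  obtain ⟨s, hsa, hsb, hsw⟩ := h.trans hab (Ne.symm hw.1) (Ne.symm hw.2) hab.symm (Ne.symm hw.2) (Ne.symm hw.1)
  obtain ⟨F, hF, hFf, β, K, hS, hβa, hβb, hβw, hFc, hs⟩ := ZassU.coords h (by omega) hev hab hw.1 hw.2 hsa hsb hsw
  exact ZassV.not_simple h hS (by rw [hβa, hβb, hsa]) (by rw [hβa, hβb, hsb]) hs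

end Cfsg.Agent.H9.ZassW
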