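import Mathlib
import Cfsg.Agent.H9_ZassW
import Cfsg.Agent.H9_ZassN
import Cfsg.Agent.H3_Zass4

/-!
# The two-point stabiliser in Zassenhaus groups with even two-point stabiliser
-/

set_option autoImplicit false

namespace Cfsg.Agent.H9.ZassX

open OnePoint Cfsg.Agent.H9.ZassA Cfsg.Agent.H9.ZassC Cfsg.Agent.H9.ZassI

variable {G Ω : Type*} [Group G] [MulAction G Ω]

theorem even_inverts [Finite G] [Fintype Ω] (hZ : ZG G Ω) {a b : Ω} (hab : a ≠ b)
    (heven : Even (Nat.card ↥(MulAction.stabilizer G a ⊓ MulAction.stabilizer G b)))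
    (hd : 2 * Nat.card ↥(MulAction.stabilizer G a ⊓ MulAction.stabilizer G b) ≤ Fintype.card Ω - 2) :
    (∀ t : G, t • a = b → t • b = a → ZassB.Inv2 Ω t) ∧
    (∀ t : G, t • a = b → t • b = a → ∀ g : G, g • a = a → g • b = b → t * g * t⁻¹ = g⁻¹) := by
  classical
  haveI : Fact (Nat.Prime 2) := ⟨Nat.prime_two⟩
  obtain ⟨z, hz⟩ := exists_prime_orderOf_dvd_card' (G := ↥(MulAction.stabilizer G a ⊓ MulAction.stabilizer G b)) 2
    heven.two_dvd
  have hz1 : (z : G) ≠ 1 := by
    intro h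
    have : z = 1 := Subtype.ext h
    rw [this, orderOf_one] at hz
    omega
  have hz2 : (z : G) * z = 1 := by
    have := pow_orderOf_eq_one z
    rw [hz, pow_two] at this
    exact congrArg Subtype.val this
  have hcount := ZassB.two_mul_swaps hZ hab z.2.1 z.2.2 hz1 hz2
  have hcardle := ZassB.swaps_le (G := G) hab
  have hdeq : 2 * Nat.card ↥(MulAction.stabilizer G a ⊓ MulAction.stabilizer G b) = Fintype.card Ω - 2 := by omega
  have hEpos : 0 < Nat.card ↥(MulAction.stabilizer G a ⊓ MulAction.stabilizer G b) := Nat.card_pos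
  have hswap : ∀ t : G, t • a = b → t • b = a → ZassB.Inv2 Ω t := by
    have hne : Nonempty {t : G // ZassB.Inv2 Ω t ∧ t • a = b} := by
      rw [← not_isEmpty_iff]
      intro h
      rw [Nat.card_of_isEmpty] at hcount
      omega
    obtain ⟨s⟩ := hne
    have hinj : Function.Injective (fun t : {t : G // ZassB.Inv2 Ω t ∧ t • a = b} => (⟨s.1⁻¹ * t.1, by
        constructor
        · change (s.1⁻¹ * t.1) • a = a
          rw [mul_smul, t.2.2, inv_smul_eq_iff, s.2.2]
        · change (s.1⁻¹ * t.1) • b = b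
          rw [mul_smul, ZassB.inv2_swap t.2.1 t.2.2, inv_smul_eq_iff, ZassB.inv2_swap s.2.1 s.2.2]⟩ :
          ↥(MulAction.stabilizer G a ⊓ MulAction.stabilizer G b))) := by
      intro t t' h
      have := congrArg Subtype.val h
      exact Subtype.ext (mul_left_cancel this)
    haveI := Fintype.ofFinite {t : G // ZassB.Inv2 Ω t ∧ t • a = b}
    haveI := Fintype.ofFinite ↥(MulAction.stabilizer G a ⊓ MulAction.stabilizer G b)
    have hbij := (Fintype.bijective_iff_injective_and_card _).2 ⟨hinj, by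
      rw [← Nat.card_eq_fintype_card, ← Nat.card_eq_fintype_card]; omega⟩
    intro t hta htb
    obtain ⟨t', ht'⟩ := hbij.2 ⟨s.1⁻¹ * t, by
      constructor
      · change (s.1⁻¹ * t) • a = a
        rw [mul_smul, hta, inv_smul_eq_iff, s.2.2]
      · change (s.1⁻¹ * t) • b = b
        rw [mul_smul, htb, inv_smul_eq_iff, ZassB.inv2_swap s.2.1 s.2.2]⟩
    have h1 : s.1⁻¹ * t'.1 = s.1⁻¹ * t := congrArg Subtype.val ht'
    rw [← mul_left_cancel h1]
    exact t'.2.1
  refine ⟨hswap, fun s hsa hsb g hga hgb => ?_⟩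
  have hsI := hswap s hsa hsb
  have hsi : s⁻¹ = s := by rw [inv_eq_iff_mul_eq_one, hsI.1]
  have h1 := (hswap (s * g) (by rw [mul_smul, hga, hsa]) (by rw [mul_smul, hgb, hsb])).1
  rw [hsi, eq_inv_iff_mul_eq_one]
  rw [← h1]; group

/-- commutative large two-point stabilisers are cyclic -/
theorem cyclic_of_comm [Finite G] [Fintype Ω] (hZ : ZG G Ω) {a b w : Ω} (hab : a ≠ b) (hwa : w ≠ a) (hwb : w ≠ b)
    {K : Subgroup G} (hK : Ker K a) (hKc : ∀ k ∈ K, ∀ l ∈ K, k * l = l * k) {E : Subgroup G}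
    (hE : ∀ g ∈ E, g • a = a ∧ g • b = b)
    (hEc : ∀ g ∈ E, ∀ h ∈ E, g * h = h * g)
    (hd : Fintype.card Ω - 2 ≤ 2 * Nat.card E) : IsCyclic E := by
  classical
  obtain ⟨F, hF, hFf, β, D, hβa, hβb, hβw, hDc, hFc, htr, htK, hmu, hN, hsemi⟩ := ZassT.coordsN hZ hab hwa hwb hK hKc
    (E := E) hE hEc hd
  have hex : ∀ g : E, ∃ δ : F, ∀ x : F, (g : G) • β x = β ((δ * x : F) : OnePoint F) := by
    intro g
    obtain ⟨δ, -, h⟩ := hN g g.2
    exact ⟨δ, h⟩
  choose f hf using hex
  have huniq : ∀ x y : F, β (x : OnePoint F) = β (y : OnePoint F) → x = y :=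
    fun x y h => OnePoint.coe_injective (β.injective h)
  let φ : E →* F :=
    { toFun := f
      map_one' := by
        apply huniq
        have := hf 1 1
        rw [mul_one] at this
        rw [← this]
        change (1 : G) • _ = _
        rw [one_smul]
      map_mul' := by
        intro g h
        apply huniq
        have h1 := hf (g * h) 1
        have h2 := hf h 1
        have h3 := hf g (f h)
        rw [mul_one] at h1 h2
        rw [← h1, ← h3, ← h2, ← mul_smul]
        rfl }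
  have hφ : Function.Injective φ := by
    intro g h hgh
    have h1 : f g = f h := hgh
    have h2 : (h : G)⁻¹ * g = 1 := by
      apply hZ.three _ a b w hab (Ne.symm hwb) (Ne.symm hwa)
      · rw [mul_smul, (hE g g.2).1, inv_smul_eq_iff, (hE h h.2).1]
      · rw [mul_smul, (hE g g.2).2, inv_smul_eq_iff, (hE h h.2).2]
      · rw [mul_smul, inv_smul_eq_iff, ← hβw, hf, hf, h1]
    exact Subtype.ext (inv_mul_eq_one.1 h2).symm
  exact isCyclic_of_subgroup_isDomain φ hφ

theorem simple_inverts [Fintype Ω] [Finite G] (hZ : Cfsg.IsZassenhausGroup G Ω) [IsSimpleGroup G]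
    {a b : Ω} (hab : a ≠ b) :
    IsCyclic ↥(MulAction.stabilizer G a ⊓ MulAction.stabilizer G b) ∧
      ∃ v : G, orderOf v = 2 ∧ v • a = b ∧ v • b = a ∧ ∀ h ∈ MulAction.stabilizer G a ⊓ MulAction.stabilizer G b, v * h * v⁻¹ = h⁻¹ := by
  classical
  haveI : Fact (Nat.Prime 2) := ⟨Nat.prime_two⟩
  by_cases hodd : Odd (Nat.card ↥(MulAction.stabilizer G a ⊓ MulAction.stabilizer G b))
  · constructor
    · have h1 := H3.Zass4.zgroup hZ hab hodd
      have h1' : IsZGroup ↥(MulAction.stabilizer G a ⊓ MulAction.stabilizer G b) := h1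
      letI : CommGroup ↥(MulAction.stabilizer G a ⊓ MulAction.stabilizer G b) :=
        { (inferInstance : Group ↥(MulAction.stabilizer G a ⊓ MulAction.stabilizer G b)) with
          mul_comm := fun x y => Subtype.ext (H3.Zass4.comm_E hZ hab hodd x.2 y.2) }
      infer_instance
    · obtain ⟨t, ht, hta, htb⟩ := H3.Zass2.exists_inv hZ hab hodd
      have ht2 : t * t = 1 := by have := pow_orderOf_eq_one t; rwa [ht, sq] at this
      exact ⟨t, ht, hta, htb, fun h hh => H3.Zass4.inverts hZ hab hodd ht2 hta htb hh⟩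
  · rw [Nat.not_odd_iff_even] at hodd
    have hZG := ZG.of_zass hZ
    have hd := ZassW.simple_even hZG hab hodd
    obtain ⟨hI, hinv⟩ := even_inverts hZG hab hodd hd.le
    obtain ⟨s, hsa, hsb⟩ := hZG.two hab hab.symm
    have hsI := hI s hsa hsb
    refine ⟨?_, s, orderOf_eq_prime (by rw [pow_two]; exact hsI.1) hsI.2.1, hsa, hsb, fun h hh => hinv s hsa hsb h hh.1 hh.2⟩
    obtain ⟨w, hw⟩ : ∃ w : Ω, s • w = w := by
      obtain ⟨-, -, x, -, -, hx, -⟩ := hsI
      exact ⟨x, hx⟩
    have hwa : w ≠ a := by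
      rintro rfl
      exact hab (hw.symm.trans hsa)
    have hwb : w ≠ b := by
      rintro rfl
      exact hab (hsb.symm.trans hw)
    obtain ⟨K, hK⟩ := exists_ker hZG hab
    obtain ⟨z, hz⟩ := exists_prime_orderOf_dvd_card' (G := ↥(MulAction.stabilizer G a ⊓ MulAction.stabilizer G b)) 2
      hodd.two_dvd
    have hz1 : (z : G) ≠ 1 := by
      intro h
      have : z = 1 := Subtype.ext h
      rw [this, orderOf_one] at hz
      omega
    have hz2 : (z : G) * z = 1 := by
      have := pow_orderOf_eq_one z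
      rw [hz, pow_two] at this
      exact congrArg Subtype.val this
    refine cyclic_of_comm hZG hab hwa hwb hK (hK.comm_of_even hZG hab z.2.1 z.2.2 hz1 hz2) (fun g hg => ⟨hg.1, hg.2⟩) ?_ (by omega)
    intro g hg h hh
    have h1 := hinv s hsa hsb (g⁻¹ * h⁻¹) ((MulAction.stabilizer G a).mul_mem (inv_mem hg.1) (inv_mem hh.1))
      ((MulAction.stabilizer G b).mul_mem (inv_mem hg.2) (inv_mem hh.2))
    have h2 : s * (g⁻¹ * h⁻¹) * s⁻¹ = (s * g * s⁻¹)⁻¹ * (s * h * s⁻¹)⁻¹ := by group
    rw [h2, hinv s hsa hsb g hg.1 hg.2, hinv s hsa hsb h hh.1 hh.2] at h1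
    simpa using h1

end Cfsg.Agent.H9.ZassX
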