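import Mathlib
import Cfsg.Agent.H9_ZassX

/-!
# Zassenhaus groups with commutative kernel
-/

set_option autoImplicit false

namespace Cfsg.Agent.H9.ZassZ

open OnePoint Cfsg.Agent.H9.ZassA Cfsg.Agent.H9.ZassC Cfsg.Agent.H9.ZassI Cfsg.Agent.H9.ZassH Cfsg.Agent.H9.ZassRec

variable {G Ω : Type*} [Group G] [MulAction G Ω]

/-- recognition of `PSL(2,q)`, `q ≡ 3 mod 4`, when an involution inverts the two-point stabiliser -/
theorem psl_odd' [Finite G] [Fintype Ω] (hZ : ZG G Ω) {a b : Ω} (hab : a ≠ b)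
    (hodd : Odd (Nat.card ↥(MulAction.stabilizer G a ⊓ MulAction.stabilizer G b)))
    (hd : 2 * Nat.card ↥(MulAction.stabilizer G a ⊓ MulAction.stabilizer G b) = Fintype.card Ω - 2)
    {K : Subgroup G} (hK : Ker K a) (hKc : ∀ k ∈ K, ∀ l ∈ K, k * l = l * k)
    {t : G} (ht : t * t = 1) (hta : t • a = b) (htb : t • b = a)
    (hinv : ∀ g : G, g • a = a → g • b = b → t * g * t⁻¹ = g⁻¹) (hfpf : ∀ x : Ω, t • x ≠ x) :
    ∃ (F : Type) (_ : Field F) (_ : Fintype F), ringChar F ≠ 2 ∧ Fintype.card F + 1 = Fintype.card Ω ∧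
      Nonempty (G ≃* Matrix.ProjectiveSpecialLinearGroup (Fin 2) F) := by
  classical
  have h0 : 0 < Nat.card ↥(MulAction.stabilizer G a ⊓ MulAction.stabilizer G b) := Nat.card_pos
  obtain ⟨w, hw⟩ : ∃ w : Ω, w ∉ ({a, b} : Finset Ω) := by
    by_contra hcon
    push Not at hcon
    have h1 : Fintype.card Ω ≤ ({a, b} : Finset Ω).card := by
      rw [← Finset.card_univ]
      exact Finset.card_le_card (fun c _ => hcon c)
    have h2 := Finset.card_le_two (a := a) (b := b)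
    omega
  rw [Finset.mem_insert, Finset.mem_singleton, not_or] at hw
  have hEc : ∀ g h : G, g • a = a → g • b = b → h • a = a → h • b = b → g * h = h * g := by
    intro g h hga hgb hha hhb
    have h1 := hinv (g⁻¹ * h⁻¹) (by rw [mul_smul, show h⁻¹ • a = a by rw [inv_smul_eq_iff, hha], inv_smul_eq_iff, hga])
      (by rw [mul_smul, show h⁻¹ • b = b by rw [inv_smul_eq_iff, hhb], inv_smul_eq_iff, hgb])
    have h2 : t * (g⁻¹ * h⁻¹) * t⁻¹ = (t * g * t⁻¹)⁻¹ * (t * h * t⁻¹)⁻¹ := by group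
    rw [h2, hinv g hga hgb, hinv h hha hhb] at h1
    simpa using h1
  obtain ⟨F, hF, hFf, β, D, hC, hβa, hβb, hβw, hDc, hFc⟩ := ZassG.coords hZ hab hw.1 hw.2 hK hKc hEc (by omega)
  have hDF : 2 * Nat.card D + 1 = Fintype.card F := by omega
  have hmem := mem_iff_isSquare hDF
  have hchar := ringChar_ne hDF
  have hs1 : t • β ∞ = β ((0 : F) : OnePoint F) := by rw [hβa, hβb, hta]
  have hs0 : t • β ((0 : F) : OnePoint F) = β ∞ := by rw [hβa, hβb, htb]
  obtain ⟨σ, hσ⟩ := sigma hs1 hs0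
  have hsq : ∀ δ x : F, IsSquare δ → δ ≠ 0 → x ≠ 0 → σ (δ * x) = δ⁻¹ * σ x := by
    intro δ x hδ hδ0 hx
    obtain ⟨r, hr⟩ := hδ
    have hr0 : r ≠ 0 := by rintro rfl; rw [mul_zero] at hr; exact hδ0 hr
    obtain ⟨g, hg1, hg2⟩ := hC.mult (Units.mk0 r hr0 * Units.mk0 r hr0) ((hmem _).2 ⟨_, rfl⟩)
    refine sigma_mul hσ hδ0 (g := g) (fun x => ?_) ?_ hx
    · rw [hg2, hr]; rfl
    · apply hinv
      · rw [← hβa]; exact hg1
      · rw [← hβb, hg2, mul_zero]
  have hm1 : ¬ IsSquare (-1 : F) := by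
    rw [FiniteField.isSquare_neg_one_iff]
    obtain ⟨k, hk⟩ := hodd
    have : Fintype.card F % 4 = 3 := by omega
    simpa using this
  have hσσ : ∀ x, x ≠ 0 → σ (σ x) = x := by
    intro x hx
    have h1 := (hσ _ (hσ x hx).1).2
    rw [← (hσ x hx).2, ← mul_smul, ht, one_smul] at h1
    exact (OnePoint.coe_injective (β.injective h1)).symm
  obtain ⟨c, hcdef⟩ : ∃ c, c = σ 1 := ⟨_, rfl⟩
  have hc0 : c ≠ 0 := by rw [hcdef]; exact (hσ 1 one_ne_zero).1
  have hsqx : ∀ x, x ≠ 0 → IsSquare x → σ x = c / x := by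
    intro x hx hxs
    have := hsq x 1 hxs hx one_ne_zero
    rw [mul_one, ← hcdef] at this
    rw [this]; field_simp
  have hcns : ¬ IsSquare c := by
    rintro ⟨r, hr⟩
    have hr0 : r ≠ 0 := by rintro rfl; rw [mul_zero] at hr; exact hc0 hr
    have key : ∀ y : F, y ≠ 0 → IsSquare y → c = y * y → False := by
      intro y hy hys hyc
      have h1 := hsqx y hy hys
      rw [hyc, mul_div_cancel_right₀ _ hy] at h1
      apply hfpf (β (y : OnePoint F))
      rw [(hσ y hy).2, h1]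
    by_cases hrs : IsSquare r
    · exact key r hr0 hrs hr
    · have h2 := isSquare_mul_of_not hm1 hrs
      rw [neg_one_mul] at h2
      exact key (-r) (neg_ne_zero.2 hr0) h2 (by rw [hr]; ring)
  have hall : ∀ x, x ≠ 0 → σ x = c / x := by
    intro x hx
    by_cases hxs : IsSquare x
    · exact hsqx x hx hxs
    · have h1 : IsSquare (c / x) := by
        obtain ⟨r, hr⟩ := isSquare_mul_of_not hcns hxs
        refine ⟨r / x, ?_⟩
        field_simp
        rw [hr]; ring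
      have h2 := hsqx (c / x) (div_ne_zero hc0 hx) h1
      have h3 : c / (c / x) = x := by field_simp
      rw [h3] at h2
      have h4 := hσσ (c / x) (div_ne_zero hc0 hx)
      rwa [h2] at h4
  refine ⟨F, hF, hFf, hchar, hFc, ?_⟩
  refine recPSL hC hmem hc0 ?_ hs1 hs0 (fun x hx => by rw [(hσ x hx).2, hall x hx])
  have := isSquare_mul_of_not hm1 hcns
  rwa [neg_one_mul] at this

theorem psl_odd [Finite G] [Fintype Ω] (hZ : Cfsg.IsZassenhausGroup G Ω) [IsSimpleGroup G] {a b : Ω} (hab : a ≠ b)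
    (hodd : Odd (Nat.card ↥(MulAction.stabilizer G a ⊓ MulAction.stabilizer G b)))
    (hd : 2 * Nat.card ↥(MulAction.stabilizer G a ⊓ MulAction.stabilizer G b) = Fintype.card Ω - 2)
    {K : Subgroup G} (hK : Ker K a) (hKc : ∀ k ∈ K, ∀ l ∈ K, k * l = l * k) :
    ∃ (F : Type) (_ : Field F) (_ : Fintype F), ringChar F ≠ 2 ∧ Fintype.card F + 1 = Fintype.card Ω ∧
      Nonempty (G ≃* Matrix.ProjectiveSpecialLinearGroup (Fin 2) F) := by
  have hZG := ZG.of_zass hZ
  obtain ⟨t, ht, hta, htb⟩ := H3.Zass2.exists_inv hZ hab hodd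
  have ht2 : t * t = 1 := by have := pow_orderOf_eq_one t; rwa [ht, sq] at this
  refine psl_odd' hZG hab hodd hd hK hKc ht2 hta htb
    (fun g hga hgb => H3.Zass4.inverts hZ hab hodd ht2 hta htb ⟨hga, hgb⟩) ?_
  intro x hx
  obtain ⟨h, hh, h2⟩ := H3.Zass2.card_omega hZ hab
  obtain ⟨y, hy⟩ : ∃ y : Ω, x ≠ y := by
    by_cases hxa : x = a
    · exact ⟨b, by rw [hxa]; exact hab⟩
    · exact ⟨a, hxa⟩
  have h3 := H3.Zass2.card_B hZ hy hh
  rw [← ZassW.card_conj hZG hab hy] at h3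
  have hx' : t ∈ MulAction.stabilizer G x := hx
  have h4 : orderOf (⟨t, hx'⟩ : MulAction.stabilizer G x) = 2 := by rw [Subgroup.orderOf_mk, ht]
  have h5 := orderOf_dvd_natCard (⟨t, hx'⟩ : MulAction.stabilizer G x)
  rw [h4, h3] at h5
  have h6 : Odd (h * Nat.card ↥(MulAction.stabilizer G a ⊓ MulAction.stabilizer G b)) := by
    apply Odd.mul _ hodd
    obtain ⟨k, hk⟩ := hodd
    exact ⟨2 * k + 1, by omega⟩
  rw [← Nat.not_even_iff_odd] at h6
  exact h6 (even_iff_two_dvd.2 h5)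

/-- main theorem, modulo Feit's inequality -/
theorem main [Finite G] [Fintype Ω] (hZ : Cfsg.IsZassenhausGroup G Ω) {a b : Ω} (hab : a ≠ b)
    {K : Subgroup G} (hK : Ker K a) (hKc : ∀ k ∈ K, ∀ l ∈ K, k * l = l * k)
    (feitG : Odd (Nat.card ↥(MulAction.stabilizer G a ⊓ MulAction.stabilizer G b)) →
      Fintype.card Ω - 2 ≤ 2 * Nat.card ↥(MulAction.stabilizer G a ⊓ MulAction.stabilizer G b))
    (feitN : ∀ N : Subgroup G, Cfsg.IsZassenhausGroup N Ω → K ≤ N →
      Odd (Nat.card ↥(MulAction.stabilizer N a ⊓ MulAction.stabilizer N b)) →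
      Fintype.card Ω - 2 ≤ 2 * Nat.card ↥(MulAction.stabilizer N a ⊓ MulAction.stabilizer N b)) :
    S3 G Ω ∨ (2 * Nat.card ↥(MulAction.stabilizer G a ⊓ MulAction.stabilizer G b) = Fintype.card Ω - 2 ∧
      ∃ (F : Type) (_ : Field F) (_ : Fintype F), ringChar F ≠ 2 ∧ Fintype.card F + 1 = Fintype.card Ω ∧
      Nonempty (G ≃* Matrix.ProjectiveSpecialLinearGroup (Fin 2) F)) := by
  classical
  have hZG := ZG.of_zass hZ
  have h0 : 0 < Nat.card ↥(MulAction.stabilizer G a ⊓ MulAction.stabilizer G b) := Nat.card_pos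
  obtain ⟨h, hh, h2⟩ := H3.Zass2.card_omega hZ hab
  by_cases hodd : Odd (Nat.card ↥(MulAction.stabilizer G a ⊓ MulAction.stabilizer G b))
  swap
  · rw [Nat.not_odd_iff_even] at hodd
    rcases ZassW.even_cases hZG hab hodd with h1 | h1
    · exact Or.inr ⟨h1, psl_even hZG hab hodd h1.le⟩
    · exact Or.inl h1
  have h1 := feitG hodd
  obtain ⟨k, hk⟩ := ZassW.dvd_E hZG hab
  have h4 : k ≤ 2 := by
    rw [hk, mul_comm] at h1
    exact Nat.le_of_mul_le_mul_right h1 h0
  have hk0 : k ≠ 0 := by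
    rintro rfl
    omega
  rcases (show k = 1 ∨ k = 2 by omega) with rfl | rfl
  · left
    apply ZassW.s3_of_card hZG hab
    omega
  right
  refine ⟨by rw [hk, mul_comm], ?_⟩
  obtain ⟨N, hNn, hNb, hNs, hNZ⟩ := ZassN.exists_simple hZ
  have hKN : K ≤ N := ZassN.ker_le hZ N hNb hK
  have hmap : Nat.card ↥(MulAction.stabilizer N a ⊓ MulAction.stabilizer N b) ∣
      Nat.card ↥(MulAction.stabilizer G a ⊓ MulAction.stabilizer G b) := by
    rw [← Subgroup.card_map_of_injective N.subtype_injective]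
    apply Subgroup.card_dvd_of_le
    rintro _ ⟨x, hx, rfl⟩
    exact ⟨hx.1, hx.2⟩
  have hNodd : Odd (Nat.card ↥(MulAction.stabilizer N a ⊓ MulAction.stabilizer N b)) := Odd.of_dvd_nat hodd hmap
  have h5 := feitN N hNZ hKN hNodd
  have h6 : Nat.card ↥(MulAction.stabilizer G a ⊓ MulAction.stabilizer G b) ≤
      Nat.card ↥(MulAction.stabilizer N a ⊓ MulAction.stabilizer N b) := by omega
  have h7 : (MulAction.stabilizer N a ⊓ MulAction.stabilizer N b).map N.subtype =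
      MulAction.stabilizer G a ⊓ MulAction.stabilizer G b := by
    apply Subgroup.eq_of_le_of_card_ge
    · rintro _ ⟨x, hx, rfl⟩
      exact ⟨hx.1, hx.2⟩
    · rw [Subgroup.card_map_of_injective N.subtype_injective]
      exact h6
  have hNtop : N = ⊤ := by
    apply ZassN.eq_top_of_E_le hZ hNb hab
    rw [← h7]
    exact Subgroup.map_subtype_le _
  haveI := ZassN.simple_of_top hNs hNtop
  exact psl_odd hZ hab hodd (by rw [hk, mul_comm]) hK hKc

end Cfsg.Agent.H9.ZassZ
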