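import Mathlib
import Cfsg.Prelude.Def_Characters
import Cfsg.Agent.H3_CharIrr

/-!
# Permutation characters, regular character
-/

set_option autoImplicit false

open scoped ComplexConjugate

namespace Cfsg.Agent.H3.CharPerm

open Cfsg Cfsg.Agent.H3.CharIrr

/-- The permutation representation on `X → ℂ`. -/
noncomputable def permRep (G X : Type*) [Group G] [MulAction G X] : Representation ℂ G (X → ℂ) where
  toFun g := { toFun := fun f x => f (g⁻¹ • x), map_add' := fun _ _ => rfl,
               map_smul' := fun _ _ => rfl }
  map_one' := by ext; simp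
  map_mul' a b := by ext; simp [mul_smul]

theorem permRep_apply {G X : Type*} [Group G] [MulAction G X] (g : G) (f : X → ℂ) (x : X) :
    permRep G X g f x = f (g⁻¹ • x) := rfl

theorem permRep_character {G X : Type*} [Group G] [MulAction G X] [Finite X] (g : G) :
    (permRep G X).character g = (Nat.card (MulAction.fixedBy X g) : ℂ) := by
  classical
  have := Fintype.ofFinite X
  rw [Representation.character, LinearMap.trace_eq_matrix_trace ℂ (Pi.basisFun ℂ X), Matrix.trace]
  simp only [Matrix.diag, LinearMap.toMatrix_apply, Pi.basisFun_apply, Pi.basisFun_repr,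
    permRep_apply]
  rw [Nat.card_eq_fintype_card, Fintype.card_subtype]
  simp only [Pi.single_apply, Finset.sum_boole, MulAction.mem_fixedBy]
  congr 3
  ext x
  exact ⟨fun h => by rw [← h, smul_inv_smul, h], fun h => by rw [inv_smul_eq_iff, h]⟩

theorem isCharacter_perm (G X : Type*) [Group G] [MulAction G X] [Finite X] :
    IsCharacter G (fun g => (Nat.card (MulAction.fixedBy X g) : ℂ)) := by
  have := Fintype.ofFinite X
  have h := isCharacter_of_rep (permRep G X)
  convert h using 1
  ext g
  rw [permRep_character]

theorem leftRegular_character {G : Type*} [Group G] [Finite G] (g : G) [Decidable (g = 1)] :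
    (Representation.leftRegular ℂ G).character g = if g = 1 then (Nat.card G : ℂ) else 0 := by
  classical
  have := Fintype.ofFinite G
  let b : Module.Basis G ℂ (MonoidAlgebra ℂ G) := ⟨MonoidAlgebra.coeffLinearEquiv ℂ⟩
  have hb : ∀ x, b x = MonoidAlgebra.single x 1 := fun x => rfl
  have hr : ∀ x (m : MonoidAlgebra ℂ G), b.repr m x = m.coeff x := fun x m => rfl
  rw [Representation.character, LinearMap.trace_eq_matrix_trace ℂ b, Matrix.trace]
  simp only [Matrix.diag, LinearMap.toMatrix_apply, hb, hr, Representation.ofMulAction_single,
    smul_eq_mul, MonoidAlgebra.coeff_single, Finsupp.single_apply]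
  by_cases h : g = 1
  · subst h; simp
  · rw [if_neg h]
    apply Finset.sum_eq_zero
    intro x _
    rw [if_neg]
    intro hx
    exact h (mul_eq_right.mp hx)

end Cfsg.Agent.H3.CharPerm
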