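import Mathlib
import Cfsg.Prelude.Def_Characters
import Cfsg.Agent.H3_CharPerm
import Cfsg.Agent.H3_CharMult

/-!
# Permutation characters: inner products
-/

set_option autoImplicit false

open scoped ComplexConjugate

namespace Cfsg.Agent.H3.CharPerm2

open Cfsg Cfsg.Agent.H3.CharIrr Cfsg.Agent.H3.CharPerm Cfsg.Agent.H3.CharComplete
  Cfsg.Agent.H3.CharMult Cfsg.Agent.H3.CharInd

variable {G : Type*} [Group G] [Fintype G]

/-- The permutation character. -/
noncomputable def perm (G X : Type*) [Group G] [MulAction G X] : G → ℂ :=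
  fun g => (Nat.card (MulAction.fixedBy X g) : ℂ)

theorem isChar_perm (G X : Type*) [Group G] [MulAction G X] [Finite X] :
    IsCharacter G (perm G X) := isCharacter_perm G X

theorem ci_perm_one (X : Type*) [MulAction G X] [Finite X] :
    classInner (perm G X) (fun _ => 1) =
      (Nat.card (Quotient (MulAction.orbitRel G X)) : ℂ) := by
  classical
  have := Fintype.ofFinite X
  have : Fintype (Quotient (MulAction.orbitRel G X)) := Fintype.ofFinite _
  have h := MulAction.sum_card_fixedBy_eq_card_orbits_mul_card_group (G := G) (X := X)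
  simp only [classInner, perm, map_one, mul_one]
  have h1 : (∑ g : G, (Nat.card (MulAction.fixedBy X g) : ℂ)) =
      (Nat.card (Quotient (MulAction.orbitRel G X)) : ℂ) * (Nat.card G : ℂ) := by
    rw [Nat.card_eq_fintype_card, Nat.card_eq_fintype_card]
    simp only [Nat.card_eq_fintype_card]
    exact_mod_cast h
  rw [h1]
  have h0 : (Nat.card G : ℂ) ≠ 0 := card_cast_ne_zero
  field_simp

theorem perm_prod (X Y : Type*) [MulAction G X] [MulAction G Y] :
    perm G (X × Y) = perm G X * perm G Y := by
  ext g
  simp only [perm, Pi.mul_apply]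
  have e : MulAction.fixedBy (X × Y) g ≃ MulAction.fixedBy X g × MulAction.fixedBy Y g :=
    { toFun := fun p => (⟨p.1.1, by
          have := p.2; rw [MulAction.mem_fixedBy, Prod.ext_iff] at this; exact this.1⟩,
        ⟨p.1.2, by have := p.2; rw [MulAction.mem_fixedBy, Prod.ext_iff] at this; exact this.2⟩)
      invFun := fun p => ⟨(p.1.1, p.2.1), by
        rw [MulAction.mem_fixedBy, Prod.ext_iff]; exact ⟨p.1.2, p.2.2⟩⟩
      left_inv := fun _ => rfl
      right_inv := fun _ => rfl }
  rw [Nat.card_congr e, Nat.card_prod]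
  push_cast; rfl

theorem ci_perm_perm (X Y : Type*) [MulAction G X] [MulAction G Y] [Finite X] [Finite Y] :
    classInner (perm G X) (perm G Y) =
      (Nat.card (Quotient (MulAction.orbitRel G (X × Y))) : ℂ) := by
  rw [← ci_perm_one, perm_prod]
  simp only [classInner, perm, Pi.mul_apply, map_natCast, map_one, mul_one]

/-- For a transitive action: multiplicity one of the trivial character. -/
theorem ci_perm_one_of_pretransitive (X : Type*) [MulAction G X] [Finite X] [Nonempty X]
    [MulAction.IsPretransitive G X] : classInner (perm G X) (fun _ => 1) = 1 := by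
  rw [ci_perm_one]
  have h1 : Nat.card (Quotient (MulAction.orbitRel G X)) = 1 := by
    rw [Nat.card_eq_one_iff_unique]
    refine ⟨⟨fun a b => ?_⟩, ⟨Quotient.mk _ (Classical.arbitrary X)⟩⟩
    obtain ⟨x, rfl⟩ := Quotient.exists_rep a
    obtain ⟨y, rfl⟩ := Quotient.exists_rep b
    apply Quotient.sound
    obtain ⟨g, hg⟩ := MulAction.exists_smul_eq G y x
    exact MulAction.orbitRel_apply.mpr ⟨g, hg⟩
  rw [h1]; simp

theorem two_pretransitive_iff (X : Type*) [MulAction G X] [Finite X]
    [MulAction.IsPretransitive G X] (hX : 2 ≤ Nat.card X) :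
    MulAction.IsMultiplyPretransitive G X 2 ↔
      Nat.card (Quotient (MulAction.orbitRel G (X × X))) = 2 := by
  classical
  have := Fintype.ofFinite X
  have hnt : Nontrivial X := Finite.one_lt_card_iff_nontrivial.mp (by omega)
  obtain ⟨a, b, hab⟩ := exists_pair_ne X
  let q : X × X → Quotient (MulAction.orbitRel G (X × X)) := Quotient.mk _
  have hq : ∀ p r : X × X, q p = q r ↔ ∃ g : G, g • r = p := fun p r => by
    change Quotient.mk _ p = Quotient.mk _ r ↔ _
    rw [Quotient.eq, MulAction.orbitRel_apply, MulAction.mem_orbit_iff]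
  have hdiag : ∀ x : X, q (x, x) = q (a, a) := fun x => by
    rw [hq]
    obtain ⟨g, hg⟩ := MulAction.exists_smul_eq G a x
    exact ⟨g, by rw [Prod.smul_mk, hg]⟩
  have hne : ∀ x y : X, x ≠ y → q (x, y) ≠ q (a, a) := fun x y hxy h => by
    rw [hq] at h
    obtain ⟨g, hg⟩ := h
    rw [Prod.smul_mk, Prod.mk.injEq] at hg
    exact hxy (hg.1.symm.trans hg.2)
  rw [MulAction.is_two_pretransitive_iff]
  constructor
  · intro h
    rw [Nat.card_eq_two_iff]
    refine ⟨q (a, a), q (a, b), (hne a b hab).symm, ?_⟩
    ext z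
    simp only [Set.mem_insert_iff, Set.mem_singleton_iff, Set.mem_univ, iff_true]
    obtain ⟨⟨x, y⟩, rfl⟩ := Quotient.exists_rep z
    by_cases hxy : x = y
    · left; subst hxy; exact hdiag x
    · right
      change q (x, y) = q (a, b)
      rw [hq]
      obtain ⟨g, hg1, hg2⟩ := h hab hxy
      exact ⟨g, by rw [Prod.smul_mk, hg1, hg2]⟩
  · intro h c d c' d' hcd hcd'
    rw [Nat.card_eq_two_iff] at h
    obtain ⟨u, v, huv, hall⟩ := h
    have key : ∀ x y : X, x ≠ y → q (x, y) = q (a, b) := by
      intro x y hxy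
      have h1 : q (x, y) ∈ ({u, v} : Set _) := by rw [hall]; trivial
      have h2 : q (a, b) ∈ ({u, v} : Set _) := by rw [hall]; trivial
      have h3 : q (a, a) ∈ ({u, v} : Set _) := by rw [hall]; trivial
      have h4 := hne x y hxy
      have h5 := hne a b hab
      simp only [Set.mem_insert_iff, Set.mem_singleton_iff] at h1 h2 h3
      rcases h1 with h1 | h1 <;> rcases h2 with h2 | h2 <;> rcases h3 with h3 | h3 <;>
        simp_all
    have h1 := (key c' d' hcd').trans (key c d hcd).symm
    rw [hq] at h1
    obtain ⟨g, hg⟩ := h1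
    rw [Prod.smul_mk, Prod.mk.injEq] at hg
    exact ⟨g, hg.1, hg.2⟩

theorem irr_iff_two_pretransitive (X : Type*) [MulAction G X] [Finite X]
    [MulAction.IsPretransitive G X] (hX : 2 ≤ Nat.card X) :
    IsIrrCharacter G (fun g => perm G X g - 1) ↔ MulAction.IsMultiplyPretransitive G X 2 := by
  classical
  have hnt : Nontrivial X := Finite.one_lt_card_iff_nontrivial.mp (by omega)
  have h1 := ci_perm_one_of_pretransitive (G := G) X
  have hone : IsIrrCharacter G (fun _ => 1 : G → ℂ) := isIrr_one
  have heq : (fun g => perm G X g - 1) = perm G X - ((1 : ℕ) : ℂ) • (fun _ => (1 : ℂ)) := by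
    ext g; simp
  have hchar : IsCharacter G (fun g => perm G X g - 1) := by
    rw [heq]
    exact IsChar.sub_constituent (n := 1) (isChar_perm G X) hone (by rw [h1]; simp) le_rfl
  have hnorm : classInner (fun g => perm G X g - 1) (fun g => perm G X g - 1) =
      (Nat.card (Quotient (MulAction.orbitRel G (X × X))) : ℂ) - 1 := by
    rw [heq, ci_sub_left, ci_sub_right, ci_sub_right, ci_smul_left, ci_smul_left, ci_smul_right,
      ci_smul_right, ci_irr_self hone, h1, ← ci_conj_symm (perm G X) (fun _ => 1), h1,
      ci_perm_perm]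
    simp
  rw [two_pretransitive_iff X hX, isIrr_iff_norm, hnorm]
  constructor
  · rintro ⟨_, h⟩
    have : (Nat.card (Quotient (MulAction.orbitRel G (X × X))) : ℂ) = 2 := by
      linear_combination h
    exact_mod_cast this
  · intro h
    exact ⟨hchar, by rw [h]; norm_num⟩

end Cfsg.Agent.H3.CharPerm2
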