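import Mathlib
import Cfsg.Prelude.Def_Characters
import Cfsg.Prelude.Def_OddOrderChar
import Cfsg.Agent.H3_FrobInd
import Cfsg.Agent.H3_CharTI
import Cfsg.Agent.H3_Isom
import Cfsg.Agent.H3_Clifford2
import Cfsg.Agent.H3_CharInt

/-!
# Coherence for TI subgroups with Frobenius normalizer
-/

set_option autoImplicit false

open scoped ComplexConjugate

namespace Cfsg.Agent.H3.CohTI

open Cfsg Cfsg.Agent.H3.CharBasic Cfsg.Agent.H3.CharIrr Cfsg.Agent.H3.CharComplete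
  Cfsg.Agent.H3.CharMult Cfsg.Agent.H3.CharInd Cfsg.Agent.H3.Clifford Cfsg.Agent.H3.CharCalc
  Cfsg.Agent.H3.FrobInd Cfsg.Agent.H3.CharTI

section Frob

variable {L : Type*} [Group L] [Fintype L] (M : Subgroup L) [hM : M.Normal]

/-- relevant characters -/
def Rel (χ : L → ℂ) : Prop := IsIrrCharacter L χ ∧ ∃ k ∈ M, χ k ≠ χ 1

theorem rel_not_inner [Fintype M] {χ : L → ℂ} (h : Rel M χ) :
    classInner (fun n : M => χ n) (fun _ => 1) = 0 := by
  by_contra hne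
  have h1 := (inKer_iff_inner hM h.1).mpr hne
  obtain ⟨k, hk, hne⟩ := h.2
  apply hne
  have := h1 k hk 1
  rwa [mul_one] at this

theorem rel_ind [Fintype M] (hC : ∀ k ∈ M, k ≠ 1 → Subgroup.centralizer ({k} : Set L) ≤ M) {χ : L → ℂ} (h : Rel M χ) :
    ∃ θ : M → ℂ, IsIrrCharacter M θ ∧ θ ≠ (fun _ => 1) ∧ χ = indFun M θ := by
  classical
  obtain ⟨θ, hθ, hne⟩ := exists_constituent_res (H := M) h.1
  have hθ1 : θ ≠ fun _ => 1 := by
    rintro rfl
    exact hne (rel_not_inner M h)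
  refine ⟨θ, hθ, hθ1, ?_⟩
  by_contra hcon
  apply hne
  have h1 := frobenius' M θ χ (IsIrr.isClass h.1)
  rw [ci_irr h.1 (ind_irr M hC hθ hθ1), if_neg hcon] at h1
  exact h1.symm

theorem ind_rel [Fintype M] (hC : ∀ k ∈ M, k ≠ 1 → Subgroup.centralizer ({k} : Set L) ≤ M) {θ : M → ℂ}
    (hθ : IsIrrCharacter M θ) (hθ1 : θ ≠ fun _ => 1) : Rel M (indFun M θ) := by
  classical
  have hirr := ind_irr M hC hθ hθ1
  refine ⟨hirr, ?_⟩
  by_contra hcon
  push Not at hcon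
  -- then the restriction is a multiple of the trivial character
  have h1 := frobenius' M θ (indFun M θ) (IsIrr.isClass hirr)
  rw [ci_irr_self hirr] at h1
  have h2 : (fun h : M => indFun M θ h) = (indFun M θ 1) • (fun _ : M => (1 : ℂ)) := by
    funext h
    simp only [Pi.smul_apply, smul_eq_mul, mul_one]
    exact hcon h h.2
  rw [h2, ci_smul_left, ci_irr isIrr_one hθ, if_neg hθ1.symm, mul_zero] at h1
  exact one_ne_zero h1

theorem rel_vanish (hC : ∀ k ∈ M, k ≠ 1 → Subgroup.centralizer ({k} : Set L) ≤ M) {χ : L → ℂ}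
    (h : Rel M χ) {x : L} (hx : x ∉ M) : χ x = 0 := by
  have := Fintype.ofFinite M
  obtain ⟨θ, -, -, rfl⟩ := rel_ind M hC h
  exact ind_of_not_mem hM θ hx

omit hM in
theorem nonrel_const {χ : L → ℂ} (hχ : IsIrrCharacter L χ) (h : ¬ Rel M χ) {k : L} (hk : k ∈ M) :
    χ k = χ 1 := by
  by_contra hne
  exact h ⟨hχ, k, hk, hne⟩

/-- relevant and nonrelevant irreducible characters as finsets -/
noncomputable def RR : Finset (IrrCharacter L) := by
  classical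
  exact
  letI := Fintype.ofFinite (IrrCharacter L)
  Finset.univ.filter (fun χ => Rel M (χ : L → ℂ))

noncomputable def NR : Finset (IrrCharacter L) := by
  classical
  exact
  letI := Fintype.ofFinite (IrrCharacter L)
  Finset.univ.filter (fun χ => ¬ Rel M (χ : L → ℂ))

omit hM in
theorem mem_RR {χ : IrrCharacter L} : χ ∈ RR M ↔ Rel M (χ : L → ℂ) := by
  simp [RR]

omit hM in
theorem mem_NR {χ : IrrCharacter L} : χ ∈ NR M ↔ ¬ Rel M (χ : L → ℂ) := by
  simp [NR]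

omit hM in
theorem sum_split [Fintype (IrrCharacter L)] (F : IrrCharacter L → ℂ) :
    ∑ χ : IrrCharacter L, F χ = ∑ χ ∈ RR M, F χ + ∑ χ ∈ NR M, F χ := by
  classical
  rw [← Finset.sum_filter_add_sum_filter_not Finset.univ (fun χ : IrrCharacter L => Rel M (χ : L → ℂ))]
  congr 1
  · apply Finset.sum_congr _ fun _ _ => rfl
    ext χ; rw [mem_RR]; simp
  · apply Finset.sum_congr _ fun _ _ => rfl
    ext χ; rw [mem_NR]; simp

/-- the sum of squares of nonrelevant degrees -/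
noncomputable def E0 : ℂ := ∑ χ ∈ NR M, (χ : L → ℂ) 1 ^ 2

noncomputable def B0 (β : L → ℂ) : ℂ := ∑ χ ∈ NR M, classInner β (χ : L → ℂ) * (χ : L → ℂ) 1

omit hM in
theorem value_eq {β : L → ℂ} (hβ : IsClassFunction L β) (c : ℂ)
    (hc : ∀ χ : L → ℂ, Rel M χ → classInner β χ = c * χ 1) {a : L} (ha : a ∈ M) (ha1 : a ≠ 1) :
    β a = B0 M β - c * E0 M := by
  classical
  have := Fintype.ofFinite (IrrCharacter L)
  rw [expand_apply β hβ a, sum_split M]
  have h1 : ∑ χ ∈ RR M, classInner β (χ : L → ℂ) * (χ : L → ℂ) a = - (c * E0 M) := by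
    have h2 := sum_one_mul a
    rw [if_neg ha1, sum_split M] at h2
    have h3 : ∑ χ ∈ NR M, (χ : L → ℂ) 1 * (χ : L → ℂ) a = E0 M := by
      rw [E0]
      refine Finset.sum_congr rfl fun χ hχ => ?_
      rw [nonrel_const M χ.2 ((mem_NR M).mp hχ) ha, sq]
    rw [h3] at h2
    have h4 : ∑ χ ∈ RR M, classInner β (χ : L → ℂ) * (χ : L → ℂ) a =
        c * ∑ χ ∈ RR M, (χ : L → ℂ) 1 * (χ : L → ℂ) a := by
      rw [Finset.mul_sum]
      refine Finset.sum_congr rfl fun χ hχ => ?_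
      rw [hc _ ((mem_RR M).mp hχ)]; ring
    rw [h4, eq_neg_of_add_eq_zero_left h2]; ring
  have h5 : ∑ χ ∈ NR M, classInner β (χ : L → ℂ) * (χ : L → ℂ) a = B0 M β := by
    rw [B0]
    refine Finset.sum_congr rfl fun χ hχ => ?_
    rw [nonrel_const M χ.2 ((mem_NR M).mp hχ) ha]
  rw [h1, h5]; ring

/-- multiplicities of a function constant on `M ∖ 1` -/
theorem mult_const [Fintype M] (hC : ∀ k ∈ M, k ≠ 1 → Subgroup.centralizer ({k} : Set L) ≤ M)
    {β : L → ℂ} (v : ℂ) (hv : ∀ k ∈ M, k ≠ 1 → β k = v) {χ : L → ℂ} (h : Rel M χ) :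
    classInner β χ = (Nat.card L : ℂ)⁻¹ * (β 1 - v) * χ 1 := by
  classical
  rw [classInner, mul_assoc]
  congr 1
  have h1 : ∀ g : L, β g * conj (χ g) = v * (if g ∈ M then conj (χ g) else 0) +
      (if g = 1 then (β 1 - v) * conj (χ 1) else 0) := by
    intro g
    by_cases hg : g ∈ M
    · rw [if_pos hg]
      by_cases hg1 : g = 1
      · rw [if_pos hg1, hg1]; ring
      · rw [if_neg hg1, hv g hg hg1]; ring
    · have hg1 : g ≠ 1 := fun h => hg (by rw [h]; exact M.one_mem)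
      rw [if_neg hg, if_neg hg1, rel_vanish M hC h hg]; simp
  have h2 : ∑ g : L, (if g ∈ M then conj (χ g) else 0) = 0 := by
    have h3 := rel_not_inner M h
    rw [classInner] at h3
    have h4 : (Nat.card M : ℂ)⁻¹ ≠ 0 := inv_ne_zero (cardH_ne_zero M)
    have h5 := (mul_eq_zero.mp h3).resolve_left h4
    rw [← Finset.sum_filter, Finset.sum_subtype (p := (· ∈ M)) (Finset.univ.filter (· ∈ M)) (by simp)]
    have h6 := congrArg (starRingEnd ℂ) h5
    rw [map_sum, map_zero] at h6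
    rw [← h6]
    refine Finset.sum_congr rfl fun g _ => ?_
    simp
  rw [Finset.sum_congr rfl fun g _ => h1 g, Finset.sum_add_distrib, ← Finset.mul_sum, h2, mul_zero,
    zero_add, Finset.sum_ite_eq']
  simp only [Finset.mem_univ, if_true]
  rw [IsChar.conj_one (IsIrr.isCharacter h.1)]

end Frob

section Main

variable {G : Type*} [Group G] [Fintype G] (K N : Subgroup G) [Fintype N]

/-- the set `S` -/
def SS : Set (N → ℂ) := {χ | IsIrrCharacter N χ ∧ ∃ k : N, (k : G) ∈ K ∧ χ k ≠ χ 1}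

omit [Fintype G] [Fintype N] in
theorem mem_SS {χ : N → ℂ} : χ ∈ SS K N ↔ Rel (K.subgroupOf N) χ := by
  refine ⟨fun h => ⟨h.1, ?_⟩, fun h => ⟨h.1, ?_⟩⟩
  · obtain ⟨k, hk, hne⟩ := h.2; exact ⟨k, hk, hne⟩
  · obtain ⟨k, hk, hne⟩ := h.2; exact ⟨k, hk, hne⟩

variable (hn : (K.subgroupOf N).Normal)
  (hTI : ∀ g : G, g ∉ N → ∀ k ∈ K, g * k * g⁻¹ ∈ K → k = 1)
  (hC : ∀ k ∈ K, k ≠ 1 → Subgroup.centralizer ({k} : Set G) ≤ K)

include hC in
omit [Fintype G] [Fintype N] in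
theorem hC' : ∀ k ∈ K.subgroupOf N, k ≠ 1 → Subgroup.centralizer ({k} : Set N) ≤ K.subgroupOf N := by
  intro k hk hk1 y hy
  rw [Subgroup.mem_subgroupOf] at *
  apply hC k hk (fun h => hk1 (Subtype.ext h))
  rw [Subgroup.mem_centralizer_singleton_iff] at *
  exact congrArg Subtype.val hy

variable (star : (N → ℂ) → (G → ℂ)) (hstar : IsLinearIsometryOn (zspan (SS K N)) star)
  (hext : ∀ α ∈ zspanOn (SS K N) ({1}ᶜ : Set N), star α = indFun N α)

omit [Fintype G] [Fintype N] in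
theorem mem_zspan {χ : N → ℂ} (h : χ ∈ SS K N) : χ ∈ zspan (SS K N) := Submodule.subset_span h

include hstar hext in
/-- the comparison on differences -/
theorem star_diff {χ ξ : N → ℂ} (hχ : χ ∈ SS K N) (hξ : ξ ∈ SS K N) {a b : ℕ} (ha : χ 1 = a) (hb : ξ 1 = b) :
    indFun N ((b : ℂ) • χ - (a : ℂ) • ξ) = (b : ℂ) • star χ - (a : ℂ) • star ξ := by
  have e1 : ((b : ℂ) • χ - (a : ℂ) • ξ) = (b : ℤ) • χ + (-(a : ℤ)) • ξ := by
    ext x; simp; ring
  have h1 : (b : ℤ) • χ ∈ zspan (SS K N) := Submodule.smul_mem _ _ (mem_zspan K N hχ)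
  have h2 : (-(a : ℤ)) • ξ ∈ zspan (SS K N) := Submodule.smul_mem _ _ (mem_zspan K N hξ)
  have h3 : ((b : ℂ) • χ - (a : ℂ) • ξ) ∈ zspanOn (SS K N) ({1}ᶜ : Set N) := by
    refine ⟨?_, ?_⟩
    · rw [e1]; exact Submodule.add_mem _ h1 h2
    · intro x hx
      have hx1 : x = 1 := by simpa using hx
      rw [hx1]
      simp only [Pi.sub_apply, Pi.smul_apply, smul_eq_mul, ha, hb]
      ring
  rw [← hext _ h3, e1, hstar.1 _ h1 _ h2, hstar.2.1 _ (mem_zspan K N hχ), hstar.2.1 _ (mem_zspan K N hξ)]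
  ext x; simp; ring

include hstar hext in
theorem inner_diff {ψ : G → ℂ} (hψ : IsClassFunction G ψ) {χ ξ : N → ℂ} (hχ : χ ∈ SS K N) (hξ : ξ ∈ SS K N)
    {a b : ℕ} (ha : χ 1 = a) (hb : ξ 1 = b) :
    (b : ℂ) * classInner ψ (star χ) - (a : ℂ) * classInner ψ (star ξ) =
      (b : ℂ) * classInner (fun n : N => ψ n) χ - (a : ℂ) * classInner (fun n : N => ψ n) ξ := by
  have h1 := frobenius' N ((b : ℂ) • χ - (a : ℂ) • ξ) ψ hψ
  rw [star_diff K N star hstar hext hχ hξ ha hb] at h1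
  rw [ci_sub_right, ci_sub_right, ci_smul_right, ci_smul_right, ci_smul_right, ci_smul_right] at h1
  simpa using h1

include hstar in
theorem star_norm {χ ξ : N → ℂ} (hχ : χ ∈ SS K N) (hξ : ξ ∈ SS K N) :
    classInner (star χ) (star ξ) = classInner χ ξ :=
  hstar.2.2.1 _ (mem_zspan K N hχ) _ (mem_zspan K N hξ)

include hn hC hstar hext in
theorem part852 (htwo : ∃ χ ∈ SS K N, ∃ ξ ∈ SS K N, χ ≠ ξ) (hKN : K ≤ N) (ψ : G → ℂ) (hψ : IsIrrCharacter G ψ) :
    (∃ χ ∈ SS K N, ψ = star χ ∨ ψ = -star χ) ↔ ∃ a ∈ K, ∃ b ∈ K, a ≠ 1 ∧ b ≠ 1 ∧ ψ a ≠ ψ b := by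
  classical
  have := Fintype.ofFinite (K.subgroupOf N)
  have hψc := IsIrr.isClass hψ
  have hresc : IsClassFunction N (fun n : N => ψ n) := IsClass.res hψc N
  constructor
  · rintro ⟨χ, hχ, hψχ⟩
    by_contra hcon
    push Not at hcon
    obtain ⟨ξ, hξ, hne⟩ : ∃ ξ ∈ SS K N, ξ ≠ χ := by
      obtain ⟨χ', hχ', ξ', hξ', hne⟩ := htwo
      by_cases h : χ' = χ
      · exact ⟨ξ', hξ', fun h' => hne (h.trans h'.symm)⟩
      · exact ⟨χ', hχ', h⟩
    obtain ⟨k₀, hk₀, hk₀ne⟩ := hχ.2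
    have hk₀1 : (k₀ : G) ≠ 1 := by
      intro h
      apply hk₀ne
      congr 1
      exact Subtype.ext h
    obtain ⟨a, ha0, ha⟩ := IsIrr.one_eq_nat hχ.1
    obtain ⟨b, hb0, hb⟩ := IsIrr.one_eq_nat hξ.1
    have hv : ∀ k ∈ K.subgroupOf N, k ≠ 1 → (fun n : N => ψ n) k = ψ k₀ := by
      intro k hk hk1
      exact hcon k hk k₀ hk₀ (fun h => hk1 (Subtype.ext h)) hk₀1
    have h1 := mult_const (K.subgroupOf N) (hC' K N hC) _ hv ((mem_SS K N).mp hχ)
    have h2 := mult_const (K.subgroupOf N) (hC' K N hC) _ hv ((mem_SS K N).mp hξ)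
    have h3 := inner_diff K N star hstar hext hψc hχ hξ ha hb
    rw [h1, h2, ha, hb] at h3
    have hχχ : classInner χ χ = 1 := ci_irr_self hχ.1
    have hχξ : classInner χ ξ = 0 := ci_irr_ne hχ.1 hξ.1 hne.symm
    have h4 : (b : ℂ) * classInner ψ (star χ) - (a : ℂ) * classInner ψ (star ξ) = b ∨
        (b : ℂ) * classInner ψ (star χ) - (a : ℂ) * classInner ψ (star ξ) = -b := by
      rcases hψχ with h | h
      · left
        rw [h, star_norm K N star hstar hχ hχ, star_norm K N star hstar hχ hξ, hχχ, hχξ]; ring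
      · right
        rw [h, ci_neg_left, ci_neg_left, star_norm K N star hstar hχ hχ, star_norm K N star hstar hχ hξ, hχχ, hχξ]; ring
    have hbc : (b : ℂ) ≠ 0 := by exact_mod_cast hb0.ne'
    rw [h3] at h4
    rcases h4 with h4 | h4
    · apply hbc; rw [← h4]; ring
    · apply hbc; rw [← neg_eq_zero, ← h4]; ring
  · rintro ⟨a, ha, b, hb, ha1, hb1, hne⟩
    by_contra hcon
    push Not at hcon
    -- orthogonal to all `star χ`
    have horth : ∀ χ ∈ SS K N, classInner ψ (star χ) = 0 := by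
      intro χ hχ
      have hgen := hstar.2.2.2 _ (mem_zspan K N hχ)
      have hnorm : classInner (star χ) (star χ) = 1 := by
        rw [star_norm K N star hstar hχ hχ, ci_irr_self hχ.1]
      rcases isGen_norm_one hgen hnorm with h | h
      · exact ci_irr_ne hψ h (hcon χ hχ).1
      · have h5 : ψ ≠ -star χ := (hcon χ hχ).2
        have h6 := ci_irr_ne hψ h h5
        rw [ci_neg_right, neg_eq_zero] at h6
        exact h6
    obtain ⟨χ₀, hχ₀, -⟩ := htwo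
    obtain ⟨a₀, ha₀0, ha₀⟩ := IsIrr.one_eq_nat hχ₀.1
    have ha₀c : (a₀ : ℂ) ≠ 0 := by exact_mod_cast ha₀0.ne'
    have hc : ∀ χ : N → ℂ, Rel (K.subgroupOf N) χ → classInner (fun n : N => ψ n) χ =
        (classInner (fun n : N => ψ n) χ₀ / a₀) * χ 1 := by
      intro χ hχ
      rw [← mem_SS] at hχ
      obtain ⟨a₁, ha₁0, ha₁⟩ := IsIrr.one_eq_nat hχ.1
      have h7 := inner_diff K N star hstar hext hψc hχ hχ₀ ha₁ ha₀
      rw [horth χ hχ, horth χ₀ hχ₀, mul_zero, mul_zero, sub_zero] at h7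
      rw [ha₁]
      field_simp
      linear_combination -h7
    have h8 := value_eq (K.subgroupOf N) hresc _ hc (a := ⟨a, hKN ha⟩) ha (fun h => ha1 (congrArg Subtype.val h))
    have h9 := value_eq (K.subgroupOf N) hresc _ hc (a := ⟨b, hKN hb⟩) hb (fun h => hb1 (congrArg Subtype.val h))
    apply hne
    exact h8.trans h9.symm

theorem IsGen.isIntegral {L : Type*} [Group L] [Finite L] {β : L → ℂ} (h : IsGeneralizedCharacter L β) (x : L) :
    IsIntegral ℤ (β x) := by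
  obtain ⟨a, b, ha, hb, rfl⟩ := h
  exact IsIntegral.sub (IsChar.isIntegral ha x) (IsChar.isIntegral hb x)

omit hn [Fintype G] in
theorem E0_int : ∃ E : ℤ, E0 (K.subgroupOf N) = E := by
  rw [E0]
  have : ∀ χ ∈ NR (K.subgroupOf N), ∃ E : ℤ, (χ : N → ℂ) 1 ^ 2 = E := by
    intro χ _
    obtain ⟨n, hn⟩ := IsChar.one_eq_nat (IsIrr.isCharacter χ.2)
    exact ⟨(n : ℤ) ^ 2, by rw [hn]; push_cast; rfl⟩
  choose! E hE using this
  exact ⟨∑ χ ∈ NR (K.subgroupOf N), E χ, by push_cast; exact Finset.sum_congr rfl hE⟩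

omit hn [Fintype G] in
theorem B0_int {β : N → ℂ} (hβ : IsGeneralizedCharacter N β) : ∃ E : ℤ, B0 (K.subgroupOf N) β = E := by
  rw [B0]
  have : ∀ χ ∈ NR (K.subgroupOf N), ∃ E : ℤ, classInner β (χ : N → ℂ) * (χ : N → ℂ) 1 = E := by
    intro χ _
    obtain ⟨n, hn⟩ := IsChar.one_eq_nat (IsIrr.isCharacter χ.2)
    obtain ⟨m, hm⟩ := (isGen_iff.mp hβ).2 χ χ.2
    exact ⟨m * n, by rw [hn, hm]; push_cast; rfl⟩
  choose! E hE using this
  exact ⟨∑ χ ∈ NR (K.subgroupOf N), E χ, by push_cast; exact Finset.sum_congr rfl hE⟩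

include hstar hext in
theorem exists_d {χ : N → ℂ} (hχ : χ ∈ SS K N) :
    ∃ d : ℤ, ∀ k : N, (k : G) ∈ K → k ≠ 1 → star χ k - χ k = d := by
  classical
  obtain ⟨β, hβ⟩ : ∃ β : N → ℂ, β = (fun n : N => star χ n) - χ := ⟨_, rfl⟩
  have hgen := hstar.2.2.2 _ (mem_zspan K N hχ)
  have hresg : IsGeneralizedCharacter N (fun n : N => star χ n) := IsGen.comp hgen N.subtype
  have hβg : IsGeneralizedCharacter N β := by rw [hβ]; exact IsGen.sub hresg (IsGen.of_irr hχ.1)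
  obtain ⟨a, ha0, ha⟩ := IsIrr.one_eq_nat hχ.1
  have hac : (a : ℂ) ≠ 0 := by exact_mod_cast ha0.ne'
  obtain ⟨n, hnn⟩ := (isGen_iff.mp hβg).2 χ hχ.1
  have hc : ∀ ξ : N → ℂ, Rel (K.subgroupOf N) ξ → classInner β ξ = ((n : ℂ) / a) * ξ 1 := by
    intro ξ hξ
    rw [← mem_SS] at hξ
    obtain ⟨b, hb0, hb⟩ := IsIrr.one_eq_nat hξ.1
    have h1 := inner_diff K N star hstar hext (IsGen.isClass hgen) hχ hξ ha hb
    rw [star_norm K N star hstar hχ hχ, star_norm K N star hstar hχ hξ] at h1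
    have h2 : classInner β χ = classInner (fun n : N => star χ n) χ - classInner χ χ := by
      rw [hβ, ci_sub_left]
    have h3 : classInner β ξ = classInner (fun n : N => star χ n) ξ - classInner χ ξ := by
      rw [hβ, ci_sub_left]
    rw [h2] at hnn
    rw [h3, hb, ← hnn]
    field_simp
    linear_combination h1
  obtain ⟨E, hE⟩ := E0_int K N
  obtain ⟨B, hB⟩ := B0_int K N hβg
  have hval : ∀ k : N, (k : G) ∈ K → k ≠ 1 → β k = (((B : ℚ) - (n : ℚ) / (a : ℚ) * (E : ℚ) : ℚ) : ℂ) := by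
    intro k hk hk1
    rw [value_eq (K.subgroupOf N) (IsGen.isClass hβg) _ hc hk hk1, hB, hE]
    push_cast; rfl
  obtain ⟨k₀, hk₀, hk₀ne⟩ := hχ.2
  have hk₀1 : k₀ ≠ 1 := by
    intro h
    apply hk₀ne
    rw [h]
  have hint := IsGen.isIntegral hβg k₀
  rw [hval k₀ hk₀ hk₀1] at hint
  obtain ⟨d, hd⟩ := CharInt.exists_int_of_isIntegral hint
  refine ⟨d, fun k hk hk1 => ?_⟩
  have h4 : star χ k - χ k = β k := by rw [hβ]; rfl
  rw [h4, hval k hk hk1, hd]
  push_cast; rfl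

include hn hTI hC hstar hext in
theorem part853 (hne : (SS K N).Nonempty) :
    ∃ m : ℤ, ∀ χ ∈ SS K N, ∀ k : N, (k : G) ∈ K → k ≠ 1 →
      star χ k - χ k = (m : ℂ) * χ 1 / ((K.subgroupOf N).index : ℂ) := by
  classical
  have := Fintype.ofFinite (K.subgroupOf N)
  have hd' : ∀ χ : N → ℂ, χ ∈ SS K N → ∃ d : ℤ, ∀ k : N, (k : G) ∈ K → k ≠ 1 → star χ k - χ k = d :=
    fun χ hχ => exists_d K N star hstar hext hχ
  choose! d hd using hd'
  obtain ⟨χ₀, hχ₀⟩ := hne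
  obtain ⟨k₀, hk₀, hk₀ne⟩ := hχ₀.2
  have hk₀1 : k₀ ≠ 1 := by
    intro h
    apply hk₀ne
    rw [h]
  -- proportionality
  have hprop : ∀ χ ∈ SS K N, ∀ ξ ∈ SS K N, ∀ a b : ℕ, χ 1 = a → ξ 1 = b → (b : ℤ) * d χ = a * d ξ := by
    intro χ hχ ξ hξ a b ha hb
    have h1 := congrFun (star_diff K N star hstar hext hχ hξ ha hb) k₀
    have hcl : IsClassFunction N ((b : ℂ) • χ - (a : ℂ) • ξ) :=
      isClass_sub _ _ (isClass_smul _ _ (IsIrr.isClass hχ.1)) (isClass_smul _ _ (IsIrr.isClass hξ.1))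
    have h2 := ind_eq_of_TI' N (K : Set G) (fun g hg t ht hgt => hTI g hg t ht hgt) _ hcl (by
      intro x hx
      have hx' : x ∉ K.subgroupOf N := hx
      simp only [Pi.sub_apply, Pi.smul_apply, smul_eq_mul]
      rw [rel_vanish (K.subgroupOf N) (hC' K N hC) ((mem_SS K N).mp hχ) hx',
        rel_vanish (K.subgroupOf N) (hC' K N hC) ((mem_SS K N).mp hξ) hx']
      ring) k₀ hk₀ hk₀1
    rw [h2] at h1
    have h3 := hd χ hχ k₀ hk₀ hk₀1
    have h4 := hd ξ hξ k₀ hk₀ hk₀1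
    simp only [Pi.sub_apply, Pi.smul_apply, smul_eq_mul] at h1
    have h5 : (b : ℂ) * (d χ : ℂ) = (a : ℂ) * (d ξ : ℂ) := by
      rw [← h3, ← h4]; linear_combination -h1
    exact_mod_cast h5
  -- degrees over `K`
  obtain ⟨θ₀, hθ₀, hθ₀1, hχ₀e⟩ := rel_ind (K.subgroupOf N) (hC' K N hC) ((mem_SS K N).mp hχ₀)
  obtain ⟨t₀, ht₀0, ht₀⟩ := IsIrr.one_eq_nat hθ₀
  have hidx0 : (K.subgroupOf N).index ≠ 0 := Subgroup.index_ne_zero_of_finite
  have hindm : ∀ θ : K.subgroupOf N → ℂ, IsIrrCharacter _ θ → θ ≠ (fun _ => 1) → indFun (K.subgroupOf N) θ ∈ SS K N :=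
    fun θ h1 h2 => (mem_SS K N).mpr (ind_rel (K.subgroupOf N) (hC' K N hC) h1 h2)
  have hdeg : ∀ (θ : K.subgroupOf N → ℂ) (t : ℕ), θ 1 = t → indFun (K.subgroupOf N) θ 1 = (((K.subgroupOf N).index * t : ℕ) : ℂ) := by
    intro θ t ht
    rw [ind_one, ht]; push_cast; rfl
  have hD : ∀ (θ : K.subgroupOf N → ℂ), IsIrrCharacter _ θ → θ ≠ (fun _ => 1) → ∀ t : ℕ, θ 1 = t →
      (d (indFun (K.subgroupOf N) θ) : ℚ) = ((d χ₀ : ℚ) / t₀) * t := by
    intro θ hθ hθ1 t ht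
    have h1 := hprop _ (hindm θ hθ hθ1) χ₀ hχ₀ _ _ (hdeg θ t ht) (by rw [hχ₀e]; exact hdeg θ₀ t₀ ht₀)
    have h2 : ((t₀ : ℤ)) * d (indFun (K.subgroupOf N) θ) = t * d χ₀ := by
      push_cast at h1
      have h3 : ((K.subgroupOf N).index : ℤ) ≠ 0 := by exact_mod_cast hidx0
      apply mul_left_cancel₀ h3
      linear_combination h1
    have h4 : (t₀ : ℚ) ≠ 0 := by exact_mod_cast ht₀0.ne'
    field_simp
    exact_mod_cast (by linear_combination h2 : d (indFun (K.subgroupOf N) θ) * (t₀ : ℤ) = d χ₀ * t)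
  -- integrality of the quotient
  obtain ⟨m, hm⟩ : ∃ m : ℤ, (d χ₀ : ℚ) / t₀ = m := by
    have := Fintype.ofFinite (IrrCharacter (K.subgroupOf N))
    have hch : ∀ θ : IrrCharacter (K.subgroupOf N), ∃ t : ℕ, (θ : K.subgroupOf N → ℂ) 1 = t :=
      fun θ => IsChar.one_eq_nat (IsIrr.isCharacter θ.2)
    choose t ht using hch
    have hsq : ∑ θ : IrrCharacter (K.subgroupOf N), (t θ : ℤ) ^ 2 = Nat.card (K.subgroupOf N) := by
      have h1 := sum_sq (G := K.subgroupOf N)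
      have h2 : ∑ θ : IrrCharacter (K.subgroupOf N), ((t θ : ℂ)) ^ 2 = (Nat.card (K.subgroupOf N) : ℂ) := by
        rw [← h1]; exact Finset.sum_congr rfl fun θ _ => by rw [ht]
      exact_mod_cast h2
    obtain ⟨q, hq⟩ : ∃ q : ℚ, q = (d χ₀ : ℚ) / t₀ := ⟨_, rfl⟩
    rw [← hq]
    have hone : t ⟨_, isIrr_one⟩ = 1 := by
      have h9 : (1 : ℂ) = (t ⟨_, isIrr_one⟩ : ℂ) := ht ⟨_, isIrr_one⟩
      exact_mod_cast h9.symm
    rw [← Finset.add_sum_erase _ _ (Finset.mem_univ (⟨_, isIrr_one⟩ : IrrCharacter (K.subgroupOf N))), hone] at hsq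
    have hq1 : q * ((Nat.card (K.subgroupOf N) : ℚ) - 1) =
        ((∑ θ ∈ Finset.univ.erase (⟨_, isIrr_one⟩ : IrrCharacter (K.subgroupOf N)),
          d (indFun (K.subgroupOf N) (θ : K.subgroupOf N → ℂ)) * (t θ : ℤ) : ℤ) : ℚ) := by
      have h5 : ((Nat.card (K.subgroupOf N) : ℚ) - 1) =
          ∑ θ ∈ Finset.univ.erase (⟨_, isIrr_one⟩ : IrrCharacter (K.subgroupOf N)), (t θ : ℚ) ^ 2 := by
        have h6 : ((Nat.card (K.subgroupOf N) : ℤ) : ℚ) = ((1 : ℕ) : ℚ) ^ 2 +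
            ∑ θ ∈ Finset.univ.erase (⟨_, isIrr_one⟩ : IrrCharacter (K.subgroupOf N)), (t θ : ℚ) ^ 2 := by
          rw [← hsq]; push_cast; rfl
        have h7 : ((Nat.card (K.subgroupOf N) : ℤ) : ℚ) = (Nat.card (K.subgroupOf N) : ℚ) := by push_cast; rfl
        rw [h7] at h6
        rw [h6]; push_cast; ring
      rw [h5, Finset.mul_sum]
      push_cast
      refine Finset.sum_congr rfl fun θ hθ => ?_
      have h8 : (θ : K.subgroupOf N → ℂ) ≠ fun _ => 1 := fun h => Finset.ne_of_mem_erase hθ (Subtype.ext h)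
      rw [hD θ θ.2 h8 (t θ) (ht θ), ← hq]
      ring
    obtain ⟨t', -, ht', htd⟩ := CharInt.IsIrr.dvd_card hθ₀
    have ht't₀ : t' = t₀ := by
      have : (t' : ℂ) = t₀ := by rw [← ht', ht₀]
      exact_mod_cast this
    rw [ht't₀] at htd
    obtain ⟨c, hc⟩ := htd
    have hq2 : q * (Nat.card (K.subgroupOf N) : ℚ) = ((d χ₀ * c : ℤ) : ℚ) := by
      have h4 : (t₀ : ℚ) ≠ 0 := by exact_mod_cast ht₀0.ne'
      rw [hq, hc]; push_cast; field_simp
    refine ⟨d χ₀ * c - ∑ θ ∈ Finset.univ.erase (⟨_, isIrr_one⟩ : IrrCharacter (K.subgroupOf N)),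
          d (indFun (K.subgroupOf N) (θ : K.subgroupOf N → ℂ)) * (t θ : ℤ), ?_⟩
    rw [Int.cast_sub, ← hq1, ← hq2]
    ring
  refine ⟨m, fun χ hχ k hk hk1 => ?_⟩
  rw [hd χ hχ k hk hk1]
  obtain ⟨θ, hθ, hθ1, hχe⟩ := rel_ind (K.subgroupOf N) (hC' K N hC) ((mem_SS K N).mp hχ)
  obtain ⟨t, ht0, ht⟩ := IsIrr.one_eq_nat hθ
  have h1 := hD θ hθ hθ1 t ht
  rw [hm, ← hχe] at h1
  have h2 : d χ = m * t := by exact_mod_cast h1
  have h3 : ((K.subgroupOf N).index : ℂ) ≠ 0 := by exact_mod_cast hidx0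
  rw [h2, hχe, hdeg θ t ht]
  push_cast
  field_simp

end Main

end Cfsg.Agent.H3.CohTI
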