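import Cfsg.Statements.S0158
import Cfsg.Agent.H3_FS

set_option autoImplicit false
open Cfsg

namespace Cfsg.Agent.S0158

/-- The Frobenius–Schur indicator of an irreducible complex representation of a finite group — the average over s of the character at s * s — is 0, 1 or −1, and it vanishes exactly when some character value is not real. -/
theorem result {G : Type*} [Group G] [Fintype G] {V : Type*} [AddCommGroup V] [Module ℂ V] [FiniteDimensional ℂ V] (ρ : Representation ℂ G V) [ρ.IsIrreducible] : ((Nat.card G : ℂ)⁻¹ * ∑ s : G, ρ.character (s * s) = 0 ∨ (Nat.card G : ℂ)⁻¹ * ∑ s : G, ρ.character (s * s) = 1 ∨ (Nat.card G : ℂ)⁻¹ * ∑ s : G, ρ.character (s * s) = -1) ∧ ((Nat.card G : ℂ)⁻¹ * ∑ s : G, ρ.character (s * s) = 0 ↔ ∃ s : G, (ρ.character s).im ≠ 0) := by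
  classical
  have hirr := Cfsg.Agent.H3.CharIrr.isIrr_of_rep ρ inferInstance
  obtain ⟨n, σ, hσ, hχ⟩ := id hirr
  have h := Cfsg.Agent.H3.FS.indicator σ (hχ ▸ hirr)
  rw [hχ] at h
  rcases h with ⟨h0, hne⟩ | ⟨hre, c, B, hc, -, -, -, hν⟩
  · refine ⟨Or.inl h0, fun _ => ?_, fun _ => h0⟩
    by_contra hcon
    push Not at hcon
    apply hne
    funext g
    exact (Complex.conj_eq_iff_im.mpr (hcon g)).symm
  · refine ⟨Or.inr (by rw [hν]; exact hc), fun h0 => ?_, ?_⟩
    · rw [hν] at h0
      rcases hc with rfl | rfl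
      · exact absurd h0 one_ne_zero
      · exact absurd h0 (neg_ne_zero.mpr one_ne_zero)
    · rintro ⟨s, hs⟩
      exact absurd (Complex.conj_eq_iff_im.mp (congrFun hre s).symm) hs

end Cfsg.Agent.S0158
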