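import Mathlib
import Cfsg.Prelude.Def_Characters
import Cfsg.Agent.H3_CharCalc
import Cfsg.Agent.H3_CharInt
import Cfsg.Agent.H3_CharIrr
import Cfsg.Agent.H3_CharTI
import Cfsg.Agent.H3_CharMult
import Cfsg.Agent.H3_FS
import Cfsg.Agent.S0158

/-!
# Feit's theorem on Zassenhaus groups: orthogonality sums
-/

set_option autoImplicit false

open scoped ComplexConjugate

namespace Cfsg.Agent.H3.Feit

open Cfsg Cfsg.Agent.H3.CharBasic Cfsg.Agent.H3.CharIrr Cfsg.Agent.H3.CharInt Cfsg.Agent.H3.CharCalc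
  Cfsg.Agent.H3.CharComplete Cfsg.Agent.H3.CharInd Cfsg.Agent.H3.CharTI Cfsg.Agent.H3.CharMult

/-- the setting -/
structure FD {G : Type*} [Group G] [Fintype G] (B H : Subgroup G) (St : G → ℂ) (e h : ℕ) : Prop where
  hHB : H ≤ B
  hn : ∀ b ∈ B, ∀ u ∈ H, b * u * b⁻¹ ∈ H
  ti : ∀ g, g ∉ B → ∀ u ∈ H, g * u * g⁻¹ ∈ H → u = 1
  cent : ∀ u ∈ H, u ≠ 1 → ∀ g, g * u = u * g → g ∈ H
  cH : Nat.card H = h
  cB : Nat.card B = e * h
  cG : Nat.card G = e * h * (h + 1)
  eodd : Odd e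
  e1 : 1 < e
  inv : Nat.card {s : G // s * s = 1} = Nat.card {s : B // s * s = 1} + e * h
  St_irr : IsIrrCharacter G St
  St_one : St 1 = h
  St_H : ∀ u ∈ H, u ≠ 1 → St u = 0
  h1 : 1 < h
  tri : ∀ χ : G → ℂ, IsIrrCharacter G χ → ∑ᶠ u : H, χ u ≠ 0 →
    χ = (fun _ => 1) ∨ χ = St ∨ (χ 1 = h + 1 ∧ ∀ u ∈ H, u ≠ 1 → χ u = 1)
  simple : ∀ χ : G → ℂ, IsIrrCharacter G χ → χ ≠ (fun _ => 1) → ∀ g, χ g = χ 1 → g = 1

section Gen

variable {G : Type*} [Group G] [Fintype G]

/-- number of square roots -/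
noncomputable def rt (G : Type*) [Group G] (g : G) : ℂ := (Nat.card {s : G // s * s = g} : ℂ)

noncomputable def nu (χ : G → ℂ) : ℂ := (Nat.card G : ℂ)⁻¹ * ∑ s : G, χ (s * s)

theorem sum_rt (F : G → ℂ) : ∑ g : G, rt G g * F g = ∑ s : G, F (s * s) := by
  classical
  have h1 : ∀ g : G, rt G g * F g = ∑ s ∈ Finset.univ.filter (fun s : G => s * s = g), F (s * s) := by
    intro g
    rw [Finset.sum_congr rfl (g := fun _ => F g) (fun s hs => by rw [(Finset.mem_filter.mp hs).2])]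
    rw [Finset.sum_const, nsmul_eq_mul, rt, Nat.card_eq_fintype_card, Fintype.card_subtype]
  rw [Finset.sum_congr rfl (fun g _ => h1 g)]
  exact Finset.sum_fiberwise _ _ _

theorem nu_values {χ : G → ℂ} (hχ : IsIrrCharacter G χ) : nu χ = 0 ∨ nu χ = 1 ∨ nu χ = -1 := by
  obtain ⟨n, ρ, hρ, rfl⟩ := hχ
  exact (Cfsg.Agent.S0158.result ρ).1

theorem nu_zero_iff {χ : G → ℂ} (hχ : IsIrrCharacter G χ) : nu χ = 0 ↔ χ ≠ (fun g => conj (χ g)) := by
  obtain ⟨n, ρ, hρ, rfl⟩ := hχ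
  have h1 := (Cfsg.Agent.S0158.result ρ).2
  rw [nu, h1]
  constructor
  · rintro ⟨s, hs⟩ h
    exact hs (Complex.conj_eq_iff_im.mp (congrFun h s).symm)
  · intro h
    by_contra hcon
    push Not at hcon
    apply h
    funext g
    exact (Complex.conj_eq_iff_im.mpr (hcon g)).symm

theorem nu_conj {χ : G → ℂ} (hχ : IsIrrCharacter G χ) : conj (nu χ) = nu χ := by
  rcases nu_values hχ with h | h | h <;> rw [h] <;> simp

theorem rt_isClass : IsClassFunction G (rt G) := by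
  intro g k
  rw [rt, rt]
  congr 1
  apply Nat.card_congr
  refine ⟨fun s => ⟨k⁻¹ * s * k, ?_⟩, fun s => ⟨k * s * k⁻¹, ?_⟩, ?_, ?_⟩
  · have := s.2
    calc k⁻¹ * (s : G) * k * (k⁻¹ * s * k) = k⁻¹ * (s * s) * k := by group
      _ = g := by rw [this]; group
  · have := s.2
    calc k * (s : G) * k⁻¹ * (k * s * k⁻¹) = k * (s * s) * k⁻¹ := by group
      _ = k * g * k⁻¹ := by rw [this]
  · intro s; apply Subtype.ext; simp only; group
  · intro s; apply Subtype.ext; simp only; group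

theorem rt_expand [Fintype (IrrCharacter G)] (g : G) :
    rt G g = ∑ χ : IrrCharacter G, nu (χ : G → ℂ) * (χ : G → ℂ) g := by
  rw [expand_apply (rt G) rt_isClass g]
  apply Finset.sum_congr rfl
  intro χ _
  congr 1
  rw [classInner, sum_rt (fun g => conj ((χ : G → ℂ) g)), ← nu_conj χ.2, nu, map_mul, map_sum]
  congr 1
  rw [map_inv₀, Complex.conj_natCast]

end Gen

section Main

variable {G : Type*} [Group G] [Fintype G] {B H : Subgroup G} {St : G → ℂ} {e h : ℕ}
  (D : FD B H St e h) [Fintype B] [Fintype H] [Fintype (IrrCharacter G)]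

include D

omit [Fintype B] [Fintype H] [Fintype (IrrCharacter G)] in
theorem index_B : B.index = h + 1 := by
  have h1 := B.card_mul_index
  rw [D.cB, D.cG] at h1
  have h2 : 0 < e * h := Nat.mul_pos (by have := D.e1; omega) (by have := D.h1; omega)
  exact Nat.eq_of_mul_eq_mul_left h2 h1

omit [Fintype H] [Fintype (IrrCharacter G)] in
theorem ind_inner {φ ψ : B → ℂ} (hψ : IsClassFunction B ψ)
    (hφH : ∀ x : B, (x : G) ∉ H → φ x = 0) (hψH : ∀ x : B, (x : G) ∉ H → ψ x = 0) :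
    classInner (indFun B φ) (indFun B ψ) = classInner φ ψ + φ 1 * conj (ψ 1) / e := by
  classical
  rw [frobenius B φ _ (ind_isClass B ψ), classInner, classInner]
  have h1 : ∀ x : B, φ x * conj (indFun B ψ x) = φ x * conj (ψ x) +
      if x = 1 then φ 1 * conj (ψ 1) * h else 0 := by
    intro x
    split_ifs with hx
    · rw [hx]
      have : indFun B ψ ((1 : B) : G) = ((h : ℂ) + 1) * ψ 1 := by
        rw [Subgroup.coe_one, ind_one, index_B D]; push_cast; ring
      rw [this, map_mul, map_add, map_one, Complex.conj_natCast]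
      ring
    · rw [add_zero]
      by_cases hxH : (x : G) ∈ H
      · rw [ind_eq_of_TI' B (H : Set G) (fun g hg t ht hgt => D.ti g hg t ht hgt) ψ hψ hψH x hxH hx]
      · rw [hφH x hxH, zero_mul, zero_mul]
  rw [Finset.sum_congr rfl (fun x _ => h1 x), Finset.sum_add_distrib, Finset.sum_ite_eq' Finset.univ (1 : B),
    if_pos (Finset.mem_univ _), mul_add]
  congr 1
  rw [D.cB]
  have he : (e : ℂ) ≠ 0 := by have := D.e1; exact_mod_cast (by omega : e ≠ 0)
  have hh : (h : ℂ) ≠ 0 := by have := D.h1; exact_mod_cast (by omega : h ≠ 0)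
  push_cast
  field_simp

omit [Fintype H] in
theorem sum_all {φ ψ : B → ℂ} (hψ : IsClassFunction B ψ)
    (hφH : ∀ x : B, (x : G) ∉ H → φ x = 0) (hψH : ∀ x : B, (x : G) ∉ H → ψ x = 0) :
    ∑ χ : IrrCharacter G, classInner φ (fun x : B => (χ : G → ℂ) x) *
      conj (classInner ψ (fun x : B => (χ : G → ℂ) x)) = classInner φ ψ + φ 1 * conj (ψ 1) / e := by
  rw [← ind_inner D hψ hφH hψH, ci_eq_sum _ _ (ind_isClass B φ)]
  apply Finset.sum_congr rfl
  intro χ _
  rw [frobenius B φ _ (IsIrr.isClass χ.2), frobenius B ψ _ (IsIrr.isClass χ.2)]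

omit [Fintype H] [Fintype (IrrCharacter G)] in
theorem rt_eq (x : B) (hx : (x : G) ∈ H) [Decidable (x = 1)] :
    rt G x = rt B x + if x = 1 then ((e * h : ℕ) : ℂ) else 0 := by
  classical
  split_ifs with h1
  · subst h1
    have := D.inv
    rw [rt, rt]
    rw [Subgroup.coe_one, D.inv]
    push_cast; ring
  · rw [add_zero, rt, rt]
    congr 1
    apply Nat.card_congr
    have hx1 : (x : G) ≠ 1 := fun h2 => h1 (Subtype.ext h2)
    have hc : ∀ s : G, s * s = x → s * x = x * s := by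
      intro s hs
      rw [← hs]; group
    refine ⟨fun s => ⟨⟨s.1, D.hHB (D.cent x hx hx1 s.1 (hc s.1 s.2))⟩, Subtype.ext s.2⟩,
      fun s => ⟨s.1.1, congrArg Subtype.val s.2⟩, ?_, ?_⟩
    · intro s; rfl
    · intro s; rfl

omit [Fintype H] in
theorem sum_nu {φ : B → ℂ} (hφH : ∀ x : B, (x : G) ∉ H → φ x = 0) :
    ∑ χ : IrrCharacter G, nu (χ : G → ℂ) * classInner (fun x : B => (χ : G → ℂ) x) φ =
      (Nat.card B : ℂ)⁻¹ * ∑ s : B, conj (φ (s * s)) + conj (φ 1) := by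
  classical
  have h1 : ∑ χ : IrrCharacter G, nu (χ : G → ℂ) * classInner (fun x : B => (χ : G → ℂ) x) φ =
      classInner (fun x : B => rt G x) φ := by
    have h2 : (fun x : B => rt G x) = ∑ χ : IrrCharacter G, nu (χ : G → ℂ) • (fun x : B => (χ : G → ℂ) x) := by
      funext x
      rw [rt_expand, Finset.sum_apply]
      rfl
    rw [h2, ci_sum_left]
    apply Finset.sum_congr rfl
    intro χ _
    rw [ci_smul_left]
  rw [h1, classInner]
  have h3 : ∀ x : B, rt G x * conj (φ x) = rt B x * conj (φ x) +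
      if x = 1 then ((e * h : ℕ) : ℂ) * conj (φ 1) else 0 := by
    intro x
    by_cases hx : (x : G) ∈ H
    · rw [rt_eq D x hx, add_mul]
      congr 1
      rw [ite_mul, zero_mul]
      by_cases h4 : x = 1
      · rw [if_pos h4, if_pos h4, h4]
      · rw [if_neg h4, if_neg h4]
    · rw [hφH x hx, map_zero, mul_zero, mul_zero, if_neg, add_zero]
      rintro rfl
      exact hx (H.one_mem)
  rw [Finset.sum_congr rfl (fun x _ => h3 x), Finset.sum_add_distrib, Finset.sum_ite_eq' Finset.univ (1 : B),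
    if_pos (Finset.mem_univ _), mul_add, sum_rt (fun x : B => conj (φ x)), D.cB]
  congr 1
  have he : (e : ℂ) ≠ 0 := by have := D.e1; exact_mod_cast (by omega : e ≠ 0)
  have hh : (h : ℂ) ≠ 0 := by have := D.h1; exact_mod_cast (by omega : h ≠ 0)
  push_cast
  field_simp

/-- sum over `H` -/
noncomputable def sH (H : Subgroup G) (χ : G → ℂ) : ℂ := ∑ᶠ u : H, χ u

omit D [Fintype B] [Fintype (IrrCharacter G)] in
theorem sH_eq (χ : G → ℂ) : sH H χ = ∑ u : H, χ u := finsum_eq_sum_of_fintype _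

omit [Fintype (IrrCharacter G)] in
theorem sum_B_eq {F : B → ℂ} (hF : ∀ x : B, (x : G) ∉ H → F x = 0) :
    ∑ x : B, F x = ∑ u : H, F ⟨u, D.hHB u.2⟩ := by
  classical
  rw [← Finset.sum_subset (Finset.subset_univ (Finset.univ.filter (fun x : B => (x : G) ∈ H)))
    (fun x _ hx => hF x (by simpa using hx))]
  symm
  apply Finset.sum_bij (fun (u : H) _ => (⟨u, D.hHB u.2⟩ : B))
  · intro u _
    simp only [Finset.mem_filter, Finset.mem_univ, true_and]
    exact u.2
  · intro u _ v _ huv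
    exact Subtype.ext (congrArg (fun x : B => (x : G)) huv)
  · intro x hx
    exact ⟨⟨x, (Finset.mem_filter.mp hx).2⟩, Finset.mem_univ _, rfl⟩
  · intro u _; rfl

/-- the class function `1_H^B` -/
noncomputable def phi0 (B H : Subgroup G) (e : ℕ) : B → ℂ := fun x => by
  classical exact if (x : G) ∈ H then (e : ℂ) else 0

omit [Fintype G] D [Fintype B] [Fintype H] [Fintype (IrrCharacter G)] in
theorem phi0_mem {x : B} (hx : (x : G) ∈ H) : phi0 B H e x = e := by
  rw [phi0]; exact if_pos hx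

omit [Fintype G] D [Fintype B] [Fintype H] [Fintype (IrrCharacter G)] in
theorem phi0_nmem {x : B} (hx : (x : G) ∉ H) : phi0 B H e x = 0 := by
  rw [phi0]; exact if_neg hx

omit [Fintype B] [Fintype H] [Fintype (IrrCharacter G)] in
theorem phi0_isClass : IsClassFunction B (phi0 B H e) := by
  intro x b
  by_cases hx : (x : G) ∈ H
  · rw [phi0_mem hx, phi0_mem (D.hn b b.2 x hx)]
  · rw [phi0_nmem hx, phi0_nmem]
    intro h2
    apply hx
    have h3 := D.hn _ (B.inv_mem b.2) _ h2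
    have h4 : (b : G)⁻¹ * ((b * x * b⁻¹ : B) : G) * (b : G)⁻¹⁻¹ = x := by
      simp only [Subgroup.coe_mul, Subgroup.coe_inv]; group
    rwa [h4] at h3

omit [Fintype (IrrCharacter G)] in
theorem ci_phi0 (χ : G → ℂ) : classInner (fun x : B => χ x) (phi0 B H e) = (h : ℂ)⁻¹ * sH H χ := by
  rw [classInner, sum_B_eq D (F := fun x : B => χ x * conj (phi0 B H e x)) (fun x hx => by
    rw [phi0_nmem hx, map_zero, mul_zero]), D.cB, sH_eq]
  have h1 : ∀ u ∈ (Finset.univ : Finset H), χ ((⟨u, D.hHB u.2⟩ : B) : G) * conj (phi0 B H e ⟨u, D.hHB u.2⟩) =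
      (e : ℂ) * χ u := by
    intro u _
    rw [phi0_mem (x := (⟨u, D.hHB u.2⟩ : B)) u.2, Complex.conj_natCast, mul_comm]
  rw [Finset.sum_congr rfl h1, ← Finset.mul_sum]
  have he : (e : ℂ) ≠ 0 := by have := D.e1; exact_mod_cast (by omega : e ≠ 0)
  have hh : (h : ℂ) ≠ 0 := by have := D.h1; exact_mod_cast (by omega : h ≠ 0)
  push_cast
  field_simp

omit [Fintype (IrrCharacter G)] in
theorem ci_phi0_self : classInner (phi0 B H e) (phi0 B H e) = e := by
  rw [classInner, sum_B_eq D (F := fun x : B => phi0 B H e x * conj (phi0 B H e x)) (fun x hx => by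
    rw [phi0_nmem hx, map_zero, mul_zero]), D.cB]
  have h1 : ∀ u ∈ (Finset.univ : Finset H), phi0 B H e ⟨u, D.hHB u.2⟩ * conj (phi0 B H e ⟨u, D.hHB u.2⟩) =
      (e : ℂ) * e := by
    intro u _
    rw [phi0_mem (x := (⟨u, D.hHB u.2⟩ : B)) u.2, Complex.conj_natCast]
  rw [Finset.sum_congr rfl h1, Finset.sum_const, nsmul_eq_mul, Finset.card_univ, ← Nat.card_eq_fintype_card, D.cH]
  have he : (e : ℂ) ≠ 0 := by have := D.e1; exact_mod_cast (by omega : e ≠ 0)
  have hh : (h : ℂ) ≠ 0 := by have := D.h1; exact_mod_cast (by omega : h ≠ 0)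
  push_cast
  field_simp

/-- multiplicity of `1_H`: squares -/
theorem sum_sH_sq : ∑ χ : IrrCharacter G, ((h : ℂ)⁻¹ * sH H (χ : G → ℂ)) ^ 2 = 2 * e := by
  have h1 := sum_all D (φ := phi0 B H e) (phi0_isClass D) (fun x hx => phi0_nmem hx) (fun x hx => phi0_nmem hx)
  rw [ci_phi0_self D, phi0_mem (x := (1 : B)) H.one_mem, Complex.conj_natCast] at h1
  have he : (e : ℂ) ≠ 0 := by have := D.e1; exact_mod_cast (by omega : e ≠ 0)
  have h2 : (e : ℂ) + e * e / e = 2 * e := by field_simp; ring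
  rw [h2] at h1
  rw [← h1]
  apply Finset.sum_congr rfl
  intro χ _
  have hreal : conj ((h : ℂ)⁻¹ * sH H (χ : G → ℂ)) = (h : ℂ)⁻¹ * sH H (χ : G → ℂ) := by
    have h3 : (h : ℂ)⁻¹ * sH H (χ : G → ℂ) = classInner (fun u : H => (χ : G → ℂ) u) (fun _ => 1) := by
      rw [classInner, D.cH, sH_eq]; simp
    rw [h3]
    obtain ⟨n, hn⟩ := ci_char_nat (IsChar.res (IsIrr.isCharacter χ.2) H) (IsChar.one (G := H))
    rw [hn, Complex.conj_natCast]
  rw [← ci_conj_symm, ci_phi0 D, hreal, hreal, sq]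

/-- squares of elements of `B` lying in `H` -/
theorem mem_H_of_sq {x : B} (hx : ((x * x : B) : G) ∈ H) : (x : G) ∈ H := by
  have hn : (H.subgroupOf B).Normal := by
    refine ⟨fun u hu b => ?_⟩
    rw [Subgroup.mem_subgroupOf] at *
    exact D.hn b b.2 u hu
  have hidx : (H.subgroupOf B).index = e := by
    have h1 := (H.subgroupOf B).card_mul_index
    rw [Nat.card_congr (Subgroup.subgroupOfEquivOfLe D.hHB).toEquiv, D.cH, D.cB, mul_comm e h] at h1
    exact Nat.eq_of_mul_eq_mul_left (by have := D.h1; omega) h1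
  have h2 : (x : B ⧸ H.subgroupOf B) = 1 := by
    have h3 : (x : B ⧸ H.subgroupOf B) * x = 1 := by
      rw [← QuotientGroup.mk_mul]
      exact (QuotientGroup.eq_one_iff _).mpr hx
    have h4 : orderOf (x : B ⧸ H.subgroupOf B) ∣ 2 := orderOf_dvd_of_pow_eq_one (by rw [sq]; exact h3)
    have h5 : orderOf (x : B ⧸ H.subgroupOf B) ∣ e := by
      rw [← hidx]; exact orderOf_dvd_natCard _
    have h6 : Nat.Coprime 2 e := Nat.coprime_two_left.mpr D.eodd
    exact orderOf_eq_one_iff.mp (Nat.eq_one_of_dvd_coprimes h6 h4 h5)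
  exact (QuotientGroup.eq_one_iff x).mp h2

theorem sum_nu_sH : ∑ χ : IrrCharacter G, nu (χ : G → ℂ) * ((h : ℂ)⁻¹ * sH H (χ : G → ℂ)) = 1 + e := by
  classical
  have h1 := sum_nu D (φ := phi0 B H e) (fun x hx => phi0_nmem hx)
  rw [phi0_mem (x := (1 : B)) H.one_mem, Complex.conj_natCast] at h1
  have h2 : ∑ s : B, conj (phi0 B H e (s * s)) = ∑ u : H, (e : ℂ) := by
    rw [sum_B_eq D (F := fun s : B => conj (phi0 B H e (s * s))) (fun s hs => by
      rw [phi0_nmem (fun h3 => hs (mem_H_of_sq D h3)), map_zero])]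
    apply Finset.sum_congr rfl
    intro u _
    rw [phi0_mem, Complex.conj_natCast]
    exact H.mul_mem u.2 u.2
  rw [h2, Finset.sum_const, nsmul_eq_mul, Finset.card_univ, ← Nat.card_eq_fintype_card, D.cH, D.cB] at h1
  have he : (e : ℂ) ≠ 0 := by have := D.e1; exact_mod_cast (by omega : e ≠ 0)
  have hh : (h : ℂ) ≠ 0 := by have := D.h1; exact_mod_cast (by omega : h ≠ 0)
  have h3 : (((e * h : ℕ) : ℂ))⁻¹ * ((h : ℂ) * e) + e = 1 + e := by
    push_cast
    field_simp
  rw [h3] at h1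
  rw [← h1]
  apply Finset.sum_congr rfl
  intro χ _
  rw [ci_phi0 D]

/-- the principal character -/
noncomputable def ione (G : Type*) [Group G] [Fintype G] : IrrCharacter G := ⟨fun _ => 1, isIrr_one⟩

omit [Fintype B] [Fintype H] [Fintype (IrrCharacter G)] in
/-- the Steinberg character -/
def ist : IrrCharacter G := ⟨St, D.St_irr⟩

/-- the other characters -/
noncomputable def OO (H : Subgroup G) : Finset (IrrCharacter G) := by
  classical exact Finset.univ.filter (fun χ => sH H (χ : G → ℂ) = 0)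

noncomputable def LL (H : Subgroup G) (h : ℕ) : Finset (IrrCharacter G) := by
  classical exact Finset.univ.filter (fun χ => (χ : G → ℂ) 1 = h + 1 ∧ ∀ u ∈ H, u ≠ 1 → (χ : G → ℂ) u = 1)

omit D [Fintype B] [Fintype H] in
theorem mem_OO {χ : IrrCharacter G} : χ ∈ OO H ↔ sH H (χ : G → ℂ) = 0 := by
  classical
  rw [OO]; simp

omit D [Fintype B] [Fintype H] in
theorem mem_LL {χ : IrrCharacter G} : χ ∈ LL H h ↔ (χ : G → ℂ) 1 = h + 1 ∧ ∀ u ∈ H, u ≠ 1 → (χ : G → ℂ) u = 1 := by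
  classical
  rw [LL]; simp

omit D [Fintype B] [Fintype (IrrCharacter G)] in
theorem sum_H_split {χ : G → ℂ} {c : ℂ} (hc : ∀ u ∈ H, u ≠ 1 → χ u = c) :
    ∑ u : H, χ u = χ 1 + ((Nat.card H : ℂ) - 1) * c := by
  classical
  rw [← Finset.add_sum_erase Finset.univ _ (Finset.mem_univ (1 : H))]
  congr 1
  rw [Finset.sum_congr rfl (g := fun _ => c) (fun (u : H) hu => hc u u.2 (fun h1 =>
    (Finset.mem_erase.mp hu).1 (Subtype.ext h1))), Finset.sum_const, Finset.card_erase_of_mem (Finset.mem_univ _),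
    nsmul_eq_mul, Finset.card_univ, ← Nat.card_eq_fintype_card, Nat.cast_sub Nat.card_pos, Nat.cast_one]

omit [Fintype B] [Fintype (IrrCharacter G)] in
theorem sH_one : sH H (fun _ : G => (1 : ℂ)) = h := by
  rw [sH_eq, sum_H_split (c := 1) (fun _ _ _ => rfl), D.cH]; ring

omit [Fintype B] [Fintype (IrrCharacter G)] in
theorem sH_St : sH H St = h := by
  rw [sH_eq, sum_H_split (c := 0) D.St_H, D.St_one]; ring

omit [Fintype B] in
theorem sH_LL {χ : IrrCharacter G} (hχ : χ ∈ LL H h) : sH H (χ : G → ℂ) = 2 * h := by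
  rw [mem_LL] at hχ
  rw [sH_eq, sum_H_split (c := 1) hχ.2, D.cH, hχ.1]; ring

omit [Fintype B] in
theorem split (F : IrrCharacter G → ℂ) :
    ∑ χ : IrrCharacter G, F χ = F (ione G) + F (ist D) + ∑ χ ∈ LL H h, F χ + ∑ χ ∈ OO H, F χ := by
  classical
  have hh : (h : ℂ) ≠ 0 := by have := D.h1; exact_mod_cast (by omega : h ≠ 0)
  have h0 : Finset.univ = (({ione G, ist D} ∪ LL H h) ∪ OO H : Finset (IrrCharacter G)) := by
    ext χ
    simp only [Finset.mem_univ, Finset.mem_union, Finset.mem_insert, Finset.mem_singleton, true_iff]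
    by_cases hχ : sH H (χ : G → ℂ) = 0
    · exact Or.inr (mem_OO.mpr hχ)
    · left
      rcases D.tri χ χ.2 hχ with h1 | h1 | h1
      · exact Or.inl (Or.inl (Subtype.ext h1))
      · exact Or.inl (Or.inr (Subtype.ext h1))
      · exact Or.inr (mem_LL.mpr h1)
  have h1h : (h : ℂ) ≠ 1 := by have := D.h1; exact_mod_cast (by omega : h ≠ 1)
  have hne : ione G ≠ ist D := by
    intro h1
    have h2 := congrFun (congrArg Subtype.val h1) 1
    change (1 : ℂ) = St 1 at h2
    rw [D.St_one] at h2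
    exact h1h h2.symm
  have hd1 : Disjoint ({ione G, ist D} : Finset (IrrCharacter G)) (LL H h) := by
    rw [Finset.disjoint_left]
    intro χ h1 h2
    rw [mem_LL] at h2
    simp only [Finset.mem_insert, Finset.mem_singleton] at h1
    rcases h1 with rfl | rfl
    · have h3 : (1 : ℂ) = h + 1 := h2.1
      exact hh (by linear_combination -h3)
    · have h3 : St 1 = h + 1 := h2.1
      rw [D.St_one] at h3
      exact one_ne_zero (by linear_combination -h3 : (1 : ℂ) = 0)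
  have hd2 : Disjoint (({ione G, ist D} ∪ LL H h) : Finset (IrrCharacter G)) (OO H) := by
    rw [Finset.disjoint_left]
    intro χ h1 h2
    rw [mem_OO] at h2
    simp only [Finset.mem_union, Finset.mem_insert, Finset.mem_singleton] at h1
    rcases h1 with (rfl | rfl) | h1
    · exact hh ((sH_one D).symm.trans h2)
    · exact hh ((sH_St D).symm.trans h2)
    · rw [sH_LL D h1] at h2
      exact (mul_ne_zero two_ne_zero hh) h2
  rw [h0, Finset.sum_union hd2, Finset.sum_union hd1, Finset.sum_pair hne]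

theorem LL_card : 2 * ((LL H h : Finset (IrrCharacter G)).card : ℂ) + 1 = e := by
  have hh : (h : ℂ) ≠ 0 := by have := D.h1; exact_mod_cast (by omega : h ≠ 0)
  have h1 := sum_sH_sq D
  rw [split D] at h1
  have h2 : ∑ χ ∈ LL H h, ((h : ℂ)⁻¹ * sH H (χ : G → ℂ)) ^ 2 = (LL H h : Finset (IrrCharacter G)).card * 4 := by
    rw [Finset.sum_congr rfl (g := fun _ => (4 : ℂ)) (fun χ hχ => by
      rw [sH_LL D hχ]; field_simp; norm_num), Finset.sum_const, nsmul_eq_mul]
  have h3 : ∑ χ ∈ OO H, ((h : ℂ)⁻¹ * sH H (χ : G → ℂ)) ^ 2 = 0 :=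
    Finset.sum_eq_zero (fun χ hχ => by rw [mem_OO.mp hχ]; ring)
  have h4 : sH H ((ione G : IrrCharacter G) : G → ℂ) = h := sH_one D
  have h5 : sH H ((ist D : IrrCharacter G) : G → ℂ) = h := sH_St D
  rw [h2, h3, h4, h5, inv_mul_cancel₀ hh] at h1
  linear_combination (1 / 2 : ℂ) * h1

omit D [Fintype B] [Fintype H] [Fintype (IrrCharacter G)] in
theorem nu_one : nu (fun _ : G => (1 : ℂ)) = 1 := by
  rw [nu, Finset.sum_const, nsmul_eq_mul, mul_one, Finset.card_univ, Nat.card_eq_fintype_card]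
  have : (Fintype.card G : ℂ) ≠ 0 := by exact_mod_cast Fintype.card_ne_zero
  exact inv_mul_cancel₀ this

theorem nu_all : nu St = 1 ∧ ∀ χ ∈ (LL H h : Finset (IrrCharacter G)), nu (χ : G → ℂ) = 1 := by
  have hh : (h : ℂ) ≠ 0 := by have := D.h1; exact_mod_cast (by omega : h ≠ 0)
  have h1 := sum_nu_sH D
  rw [split D] at h1
  have h2 : ∑ χ ∈ LL H h, nu (χ : G → ℂ) * ((h : ℂ)⁻¹ * sH H (χ : G → ℂ)) = ∑ χ ∈ LL H h, nu (χ : G → ℂ) * 2 := by
    apply Finset.sum_congr rfl
    intro χ hχ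
    rw [sH_LL D hχ]; field_simp
  have h3 : ∑ χ ∈ OO H, nu (χ : G → ℂ) * ((h : ℂ)⁻¹ * sH H (χ : G → ℂ)) = 0 :=
    Finset.sum_eq_zero (fun χ hχ => by rw [mem_OO.mp hχ]; ring)
  have h4 : sH H ((ione G : IrrCharacter G) : G → ℂ) = h := sH_one D
  have h5 : sH H ((ist D : IrrCharacter G) : G → ℂ) = h := sH_St D
  have h6 : nu ((ione G : IrrCharacter G) : G → ℂ) = 1 := nu_one
  have h7 : ((ist D : IrrCharacter G) : G → ℂ) = St := rfl
  rw [h2, h3, h4, h5, h6, h7, inv_mul_cancel₀ hh, ← LL_card D] at h1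
  have hle : ∀ χ : G → ℂ, IsIrrCharacter G χ → (nu χ).re ≤ 1 := by
    intro χ hχ
    rcases nu_values hχ with h | h | h <;> rw [h] <;> norm_num
  have h8 : (1 - (nu St).re) + ∑ χ ∈ LL H h, 2 * (1 - (nu (χ : G → ℂ)).re) = 0 := by
    have h9 := congrArg Complex.re h1
    simp only [Complex.add_re, Complex.mul_re, Complex.one_re, Complex.re_sum, Complex.re_ofNat, Complex.im_ofNat,
      mul_zero, sub_zero, mul_one, add_zero, Complex.natCast_re, Complex.natCast_im] at h9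
    rw [← Finset.mul_sum, Finset.sum_sub_distrib, Finset.sum_const, nsmul_eq_mul, mul_one]
    rw [← Finset.sum_mul] at h9
    linarith
  have h10 : ∀ χ ∈ (LL H h : Finset (IrrCharacter G)), 0 ≤ 2 * (1 - (nu (χ : G → ℂ)).re) := by
    intro χ _
    have := hle χ χ.2
    linarith
  have h11 := Finset.sum_nonneg h10
  have h12 := hle St D.St_irr
  have hone : ∀ χ : G → ℂ, IsIrrCharacter G χ → (nu χ).re = 1 → nu χ = 1 := by
    intro χ hχ hre
    rcases nu_values hχ with h | h | h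
    · rw [h] at hre; norm_num at hre
    · exact h
    · rw [h] at hre; norm_num at hre
  refine ⟨hone St D.St_irr (by linarith), fun χ hχ => hone χ χ.2 ?_⟩
  have h13 := (Finset.sum_eq_zero_iff_of_nonneg h10).mp (by linarith) χ hχ
  linarith

/-- inner products of the special characters with functions vanishing off `H` -/
theorem ci_const {χ : G → ℂ} {c k : ℂ} (hc : ∀ u ∈ H, u ≠ 1 → χ u = c) (h1 : χ 1 = c + k * h) {φ : B → ℂ}
    (hφH : ∀ x : B, (x : G) ∉ H → φ x = 0) (hφ0 : ∑ x : B, φ x = 0) :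
    classInner (fun x : B => χ x) φ = k * conj (φ 1) / e := by
  classical
  rw [classInner]
  have h2 : ∀ x : B, χ x * conj (φ x) = c * conj (φ x) + if x = 1 then k * h * conj (φ 1) else 0 := by
    intro x
    split_ifs with hx
    · rw [hx, Subgroup.coe_one, h1]; ring
    · rw [add_zero]
      by_cases hxH : (x : G) ∈ H
      · rw [hc x hxH (fun h3 => hx (Subtype.ext h3))]
      · rw [hφH x hxH, map_zero, mul_zero, mul_zero]
  rw [Finset.sum_congr rfl (fun x _ => h2 x), Finset.sum_add_distrib, Finset.sum_ite_eq' Finset.univ (1 : B),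
    if_pos (Finset.mem_univ _), ← Finset.mul_sum, ← map_sum, hφ0, map_zero, mul_zero, zero_add, D.cB]
  have he : (e : ℂ) ≠ 0 := by have := D.e1; exact_mod_cast (by omega : e ≠ 0)
  have hh : (h : ℂ) ≠ 0 := by have := D.h1; exact_mod_cast (by omega : h ≠ 0)
  push_cast
  field_simp

theorem ci_one' {φ : B → ℂ} (hφH : ∀ x : B, (x : G) ∉ H → φ x = 0) (hφ0 : ∑ x : B, φ x = 0) :
    classInner (fun x : B => ((ione G : IrrCharacter G) : G → ℂ) x) φ = 0 := by
  have h1 := ci_const D (χ := fun _ => 1) (c := 1) (k := 0) (fun _ _ _ => rfl) (by ring) hφH hφ0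
  rw [zero_mul, zero_div] at h1
  exact h1

theorem ci_St' {φ : B → ℂ} (hφH : ∀ x : B, (x : G) ∉ H → φ x = 0) (hφ0 : ∑ x : B, φ x = 0) :
    classInner (fun x : B => ((ist D : IrrCharacter G) : G → ℂ) x) φ = conj (φ 1) / e := by
  have h1 := ci_const D (χ := St) (c := 0) (k := 1) D.St_H (by rw [D.St_one]; ring) hφH hφ0
  rw [one_mul] at h1
  exact h1

theorem ci_LL' {φ : B → ℂ} (hφH : ∀ x : B, (x : G) ∉ H → φ x = 0) (hφ0 : ∑ x : B, φ x = 0)
    {χ : IrrCharacter G} (hχ : χ ∈ LL H h) :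
    classInner (fun x : B => (χ : G → ℂ) x) φ = conj (φ 1) / e := by
  rw [mem_LL] at hχ
  rw [ci_const D (c := 1) (k := 1) hχ.2 (by rw [hχ.1]; ring) hφH hφ0]; simp

/-- (A1) -/
theorem sum_OO {φ ψ : B → ℂ} (hψ : IsClassFunction B ψ)
    (hφH : ∀ x : B, (x : G) ∉ H → φ x = 0) (hψH : ∀ x : B, (x : G) ∉ H → ψ x = 0)
    (hφ0 : ∑ x : B, φ x = 0) (hψ0 : ∑ x : B, ψ x = 0) :
    ∑ χ ∈ OO H, classInner φ (fun x : B => (χ : G → ℂ) x) *
      conj (classInner ψ (fun x : B => (χ : G → ℂ) x)) =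
        classInner φ ψ + φ 1 * conj (ψ 1) * (e - 1) / (2 * e ^ 2) := by
  have h1 := sum_all D hψ hφH hψH
  rw [split D] at h1
  have e1 : ∀ {θ : B → ℂ} (_ : ∀ x : B, (x : G) ∉ H → θ x = 0) (_ : ∑ x : B, θ x = 0),
      classInner θ (fun x : B => ((ione G : IrrCharacter G) : G → ℂ) x) = 0 := by
    intro θ h2 h3
    rw [← ci_conj_symm, ci_one' D h2 h3, map_zero]
  have e2 : ∀ {θ : B → ℂ} (_ : ∀ x : B, (x : G) ∉ H → θ x = 0) (_ : ∑ x : B, θ x = 0),
      classInner θ (fun x : B => ((ist D : IrrCharacter G) : G → ℂ) x) = θ 1 / e := by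
    intro θ h2 h3
    rw [← ci_conj_symm, ci_St' D h2 h3, map_div₀, Complex.conj_conj, Complex.conj_natCast]
  have e3 : ∀ {θ : B → ℂ} (_ : ∀ x : B, (x : G) ∉ H → θ x = 0) (_ : ∑ x : B, θ x = 0)
      (χ : IrrCharacter G) (_ : χ ∈ LL H h),
      classInner θ (fun x : B => (χ : G → ℂ) x) = θ 1 / e := by
    intro θ h2 h3 χ hχ
    rw [← ci_conj_symm, ci_LL' D h2 h3 hχ, map_div₀, Complex.conj_conj, Complex.conj_natCast]
  have he : (e : ℂ) ≠ 0 := by have := D.e1; exact_mod_cast (by omega : e ≠ 0)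
  have h2 : ∑ χ ∈ LL H h, classInner φ (fun x : B => (χ : G → ℂ) x) *
      conj (classInner ψ (fun x : B => (χ : G → ℂ) x)) =
      (LL H h : Finset (IrrCharacter G)).card * (φ 1 / e * conj (ψ 1 / e)) := by
    rw [Finset.sum_congr rfl (g := fun _ => (φ 1 / e * conj (ψ 1 / e) : ℂ)) (fun χ hχ => by
      rw [e3 hφH hφ0 χ hχ, e3 hψH hψ0 χ hχ]), Finset.sum_const, nsmul_eq_mul]
  rw [e1 hφH hφ0, e2 hφH hφ0, e2 hψH hψ0, h2, zero_mul, zero_add] at h1
  have h3 := LL_card D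
  have h4 : ((LL H h : Finset (IrrCharacter G)).card : ℂ) = (e - 1) / 2 := by
    rw [← h3]; ring
  rw [h4, map_div₀, Complex.conj_natCast] at h1
  have h5 : ∑ χ ∈ OO H, classInner φ (fun x : B => (χ : G → ℂ) x) *
      conj (classInner ψ (fun x : B => (χ : G → ℂ) x)) = classInner φ ψ + φ 1 * conj (ψ 1) / e -
      (φ 1 / e * (conj (ψ 1) / e) + (e - 1) / 2 * (φ 1 / e * (conj (ψ 1) / e))) := by
    rw [← h1]; ring
  rw [h5]
  field_simp
  ring

/-- (A2) -/
theorem sum_OO_nu {φ : B → ℂ} (hφH : ∀ x : B, (x : G) ∉ H → φ x = 0) (hφ0 : ∑ x : B, φ x = 0) :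
    ∑ χ ∈ OO H, nu (χ : G → ℂ) * classInner (fun x : B => (χ : G → ℂ) x) φ =
      (Nat.card B : ℂ)⁻¹ * ∑ s : B, conj (φ (s * s)) + conj (φ 1) * (e - 1) / (2 * e) := by
  have h1 := sum_nu D hφH
  rw [split D] at h1
  obtain ⟨hn1, hn2⟩ := nu_all D
  have he : (e : ℂ) ≠ 0 := by have := D.e1; exact_mod_cast (by omega : e ≠ 0)
  have h2 : ∑ χ ∈ LL H h, nu (χ : G → ℂ) * classInner (fun x : B => (χ : G → ℂ) x) φ =
      (LL H h : Finset (IrrCharacter G)).card * (conj (φ 1) / e) := by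
    rw [Finset.sum_congr rfl (g := fun _ => (conj (φ 1) / e : ℂ)) (fun χ hχ => by
      rw [ci_LL' D hφH hφ0 hχ, hn2 χ hχ, one_mul]), Finset.sum_const, nsmul_eq_mul]
  have h7 : nu ((ist D : IrrCharacter G) : G → ℂ) = 1 := hn1
  rw [ci_one' D hφH hφ0, ci_St' D hφH hφ0, h2, mul_zero, zero_add, h7] at h1
  have h3 := LL_card D
  have h4 : ((LL H h : Finset (IrrCharacter G)).card : ℂ) = (e - 1) / 2 := by
    rw [← h3]; ring
  rw [h4] at h1
  have h5 : ∑ χ ∈ OO H, nu (χ : G → ℂ) * classInner (fun x : B => (χ : G → ℂ) x) φ =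
      (Nat.card B : ℂ)⁻¹ * ∑ s : B, conj (φ (s * s)) + conj (φ 1) -
      (conj (φ 1) / e + (e - 1) / 2 * (conj (φ 1) / e)) := by
    rw [← h1]; ring
  rw [h5]
  field_simp
  ring

end Main

end Cfsg.Agent.H3.Feit
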