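import Mathlib
import Cfsg.Prelude.Def_Characters
import Cfsg.Agent.H3_Feit1
import Cfsg.Agent.H3_Feit2
import Cfsg.Agent.H3_CohTI
import Cfsg.Agent.H3_CharQuot

/-!
# Feit's theorem on Zassenhaus groups: multiplicities and the main inequality
-/

set_option autoImplicit false

open scoped ComplexConjugate

namespace Cfsg.Agent.H3.Feit

open Cfsg Cfsg.Agent.H3.CharBasic Cfsg.Agent.H3.CharIrr Cfsg.Agent.H3.CharInt Cfsg.Agent.H3.CharCalc
  Cfsg.Agent.H3.CharComplete Cfsg.Agent.H3.CharInd Cfsg.Agent.H3.CharTI Cfsg.Agent.H3.CharMult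

/-- a combinatorial inequality -/
theorem ineq_aux {α ι : Type*} [Fintype ι] [DecidableEq α] (O : Finset α) (x : ι → α)
    (hx : Function.Injective x) (hxO : ∀ i, x i ∈ O) (γ y : α → ℤ) (hγ : ∀ i, γ (x i) = 0) {s c T S : ℤ}
    (hs : ∑ a ∈ O, γ a ^ 2 = s) (hc : ∀ i, y (x i) = c) (hT : ∑ a ∈ O, γ a * y a + c = T)
    (hS : ∑ a ∈ O, y a ^ 2 = S) : (T - c) ^ 2 ≤ s * (S - Fintype.card ι * c ^ 2) := by
  obtain ⟨I, hI⟩ : ∃ I : Finset α, I = Finset.univ.image x := ⟨_, rfl⟩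
  have hIO : I ⊆ O := by
    rw [hI]
    intro a ha
    obtain ⟨i, -, rfl⟩ := Finset.mem_image.mp ha
    exact hxO i
  have h1 : ∑ a ∈ O \ I, γ a ^ 2 = s := by
    rw [← hs]
    apply Finset.sum_subset Finset.sdiff_subset
    intro a ha ha'
    have : a ∈ I := by
      by_contra h
      exact ha' (Finset.mem_sdiff.mpr ⟨ha, h⟩)
    rw [hI] at this
    obtain ⟨i, -, rfl⟩ := Finset.mem_image.mp this
    rw [hγ]; ring
  have h2 : ∑ a ∈ O \ I, γ a * y a = T - c := by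
    rw [← hT, add_sub_cancel_right]
    apply Finset.sum_subset Finset.sdiff_subset
    intro a ha ha'
    have : a ∈ I := by
      by_contra h
      exact ha' (Finset.mem_sdiff.mpr ⟨ha, h⟩)
    rw [hI] at this
    obtain ⟨i, -, rfl⟩ := Finset.mem_image.mp this
    rw [hγ]; ring
  have h3 : ∑ a ∈ O \ I, y a ^ 2 = S - Fintype.card ι * c ^ 2 := by
    have h4 := Finset.sum_sdiff hIO (f := fun a => y a ^ 2)
    have h5 : ∑ a ∈ I, y a ^ 2 = Fintype.card ι * c ^ 2 := by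
      rw [hI, Finset.sum_image (fun a _ b _ h => hx h), Finset.sum_congr rfl (fun i _ => by rw [hc i]),
        Finset.sum_const, nsmul_eq_mul, Finset.card_univ]
    rw [← hS]
    linarith
  rw [← h1, ← h2, ← h3]
  exact Finset.sum_mul_sq_le_sq_mul_sq _ _ _

section Main

variable {G : Type*} [Group G] [Fintype G] {B H : Subgroup G} {St : G → ℂ} {e h : ℕ}
  (D : FD B H St e h) [Fintype B] [Fintype H] [Fintype (IrrCharacter G)]

/-- multiplicities -/
noncomputable def mm (χ : G → ℂ) (θ : B → ℂ) : ℕ := ⌊(classInner (fun x : B => χ x) θ).re⌋₊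

omit [Fintype H] [Fintype (IrrCharacter G)] in
theorem mm_cast {χ : G → ℂ} {θ : B → ℂ} (hχ : IsCharacter G χ) (hθ : IsCharacter B θ) :
    classInner (fun x : B => χ x) θ = (mm χ θ : ℂ) := by
  obtain ⟨n, hn⟩ := ci_char_nat (IsChar.res hχ B) hθ
  rw [mm, hn, Complex.natCast_re, Nat.floor_natCast]

omit [Fintype H] [Fintype (IrrCharacter G)] in
theorem mm_cast' {χ : G → ℂ} {θ : B → ℂ} (hχ : IsCharacter G χ) (hθ : IsCharacter B θ) :
    classInner θ (fun x : B => χ x) = (mm χ θ : ℂ) := by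
  rw [← ci_conj_symm, mm_cast hχ hθ, Complex.conj_natCast]

omit [Fintype H] [Fintype (IrrCharacter G)] in
theorem mm_conj {χ : G → ℂ} {θ : B → ℂ} (hχ : IsCharacter G χ) (hθ : IsCharacter B θ) :
    mm (fun g => conj (χ g)) (fun x => conj (θ x)) = mm χ θ := by
  have h1 : ((mm (fun g => conj (χ g)) (fun x => conj (θ x)) : ℕ) : ℂ) = (mm χ θ : ℂ) := by
    rw [← mm_cast (IsChar.conj hχ) (IsChar.conj hθ), ← mm_cast hχ hθ]
    have h2 : conj (classInner (fun x : B => χ x) θ) = classInner (fun x : B => χ x) θ := by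
      rw [mm_cast hχ hθ, Complex.conj_natCast]
    rw [← h2, classInner, classInner, map_mul, map_sum, map_inv₀, Complex.conj_natCast]
    congr 1
    apply Finset.sum_congr rfl
    intro x _
    rw [map_mul]
  exact_mod_cast h1

/-- the relevant irreducible characters of `B` -/
def RelB (B H : Subgroup G) (θ : B → ℂ) : Prop := Cfsg.Agent.H3.CohTI.Rel (H.subgroupOf B) θ

include D

omit [Fintype B] [Fintype H] [Fintype (IrrCharacter G)] in
theorem normal_sub : (H.subgroupOf B).Normal := by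
  refine ⟨fun u hu b => ?_⟩
  rw [Subgroup.mem_subgroupOf] at *
  exact D.hn b b.2 u hu

omit [Fintype B] [Fintype H] [Fintype (IrrCharacter G)] in
theorem hC : ∀ k ∈ H.subgroupOf B, k ≠ 1 → Subgroup.centralizer ({k} : Set B) ≤ H.subgroupOf B := by
  intro k hk hk1 g hg
  rw [Subgroup.mem_centralizer_singleton_iff] at hg
  rw [Subgroup.mem_subgroupOf] at *
  exact D.cent k hk (fun h1 => hk1 (Subtype.ext h1)) g (congrArg Subtype.val hg)

omit [Fintype B] [Fintype H] [Fintype (IrrCharacter G)] in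
theorem index_sub : (H.subgroupOf B).index = e := by
  have h1 := (H.subgroupOf B).card_mul_index
  rw [Nat.card_congr (Subgroup.subgroupOfEquivOfLe D.hHB).toEquiv, D.cH, D.cB, mul_comm e h] at h1
  exact Nat.eq_of_mul_eq_mul_left (by have := D.h1; omega) h1

omit [Fintype H] [Fintype (IrrCharacter G)] in
theorem RelB.vanish {θ : B → ℂ} (hθ : RelB B H θ) (x : B) (hx : (x : G) ∉ H) : θ x = 0 := by
  have := normal_sub D
  exact Cfsg.Agent.H3.CohTI.rel_vanish (H.subgroupOf B) (hC D) hθ hx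

omit [Fintype B] [Fintype H] [Fintype (IrrCharacter G)] D in
theorem RelB.ne_one {θ : B → ℂ} (hθ : RelB B H θ) : θ ≠ fun _ => 1 := by
  rintro rfl
  obtain ⟨k, -, hk⟩ := hθ.2
  exact hk rfl

omit [Fintype H] [Fintype (IrrCharacter G)] D in
theorem RelB.sum {θ : B → ℂ} (hθ : RelB B H θ) : ∑ x : B, θ x = 0 := by
  have h1 := ci_irr_ne hθ.1 (isIrr_one (G := B)) hθ.ne_one
  rw [classInner] at h1
  have h2 : (Nat.card B : ℂ)⁻¹ ≠ 0 := inv_ne_zero (by exact_mod_cast Nat.card_pos.ne')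
  have h3 := (mul_eq_zero.mp h1).resolve_left h2
  simpa using h3

omit [Fintype H] [Fintype (IrrCharacter G)] in
/-- degrees of relevant characters -/
theorem RelB.degree {θ : B → ℂ} (hθ : RelB B H θ) : ∃ d : ℕ, 0 < d ∧ θ 1 = e * d := by
  classical
  have := Fintype.ofFinite (H.subgroupOf B)
  have := normal_sub D
  obtain ⟨ζ, hζ, -, rfl⟩ := Cfsg.Agent.H3.CohTI.rel_ind (H.subgroupOf B) (hC D) hθ
  obtain ⟨d, hd, hd'⟩ := IsIrr.one_eq_nat hζ
  exact ⟨d, hd, by rw [ind_one, index_sub D, hd']⟩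

omit [Fintype H] [Fintype (IrrCharacter G)] D in
theorem RelB.conj {θ : B → ℂ} (hθ : RelB B H θ) : RelB B H (fun x => conj (θ x)) := by
  refine ⟨IsIrr.conj hθ.1, ?_⟩
  obtain ⟨k, hk, hne⟩ := hθ.2
  exact ⟨k, hk, fun h1 => hne ((starRingEnd ℂ).injective h1)⟩

omit [Fintype H] in
/-- orthogonality for multiplicities -/
theorem sum_mm {θ θ' : B → ℂ} (hθ : RelB B H θ) (hθ' : RelB B H θ') [Decidable (θ = θ')] {d d' : ℕ}
    (hd : θ 1 = e * d) (hd' : θ' 1 = e * d') [Fintype H] :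
    2 * ∑ χ ∈ OO H, (mm (χ : G → ℂ) θ : ℤ) * mm (χ : G → ℂ) θ' = 2 * (if θ = θ' then 1 else 0) + d * d' * (e - 1) := by
  have h1 := sum_OO D (IsIrr.isClass hθ'.1) (hθ.vanish D) (hθ'.vanish D) hθ.sum hθ'.sum
  have h2 : ∀ χ ∈ OO H, classInner θ (fun x : B => (χ : G → ℂ) x) *
      conj (classInner θ' (fun x : B => (χ : G → ℂ) x)) = (((mm (χ : G → ℂ) θ : ℤ) * mm (χ : G → ℂ) θ' : ℤ) : ℂ) := by
    intro χ _
    rw [mm_cast' (IsIrr.isCharacter χ.2) (IsIrr.isCharacter hθ.1),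
      mm_cast' (IsIrr.isCharacter χ.2) (IsIrr.isCharacter hθ'.1), Complex.conj_natCast]
    push_cast; ring
  rw [Finset.sum_congr rfl h2, ← Int.cast_sum, ci_irr hθ.1 hθ'.1, hd, hd'] at h1
  have he : (e : ℂ) ≠ 0 := by have := D.e1; exact_mod_cast (by omega : e ≠ 0)
  have h3 : ((2 * ∑ χ ∈ OO H, (mm (χ : G → ℂ) θ : ℤ) * mm (χ : G → ℂ) θ' : ℤ) : ℂ) =
      ((2 * (if θ = θ' then 1 else 0) + d * d' * (e - 1) : ℤ) : ℂ) := by
    push_cast at h1 ⊢
    rw [h1, map_mul, Complex.conj_natCast, Complex.conj_natCast]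
    field_simp
  exact_mod_cast h3

omit [Fintype H] [Fintype (IrrCharacter G)] D in
theorem classInner_map_conj (f g : B → ℂ) :
    conj (classInner f g) = classInner (fun x => conj (f x)) (fun x => conj (g x)) := by
  rw [classInner, classInner, map_mul, map_sum, map_inv₀, Complex.conj_natCast]
  simp only [map_mul]

/-- integer version of the Frobenius-Schur indicator -/
noncomputable def nz (χ : G → ℂ) : ℤ := ⌊(nu χ).re⌋

omit [Fintype B] [Fintype H] [Fintype (IrrCharacter G)] D in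
theorem nz_cast {χ : G → ℂ} (hχ : IsIrrCharacter G χ) : nu χ = (nz χ : ℂ) := by
  have h0 : ⌊(-1 : ℝ)⌋ = -1 := by rw [show (-1 : ℝ) = ((-1 : ℤ) : ℝ) by norm_num, Int.floor_intCast]
  rcases nu_values hχ with h | h | h <;> rw [nz, h] <;> simp [h0]

omit [Fintype B] [Fintype H] [Fintype (IrrCharacter G)] D in
theorem nz_values {χ : G → ℂ} (hχ : IsIrrCharacter G χ) : nz χ = 0 ∨ nz χ = 1 ∨ nz χ = -1 := by
  rcases nu_values hχ with h | h | h
  · left; rw [nz, h]; simp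
  · right; left; rw [nz, h]; simp
  · right; right; rw [nz, h]
    have h0 : ⌊(-1 : ℝ)⌋ = -1 := by rw [show (-1 : ℝ) = ((-1 : ℤ) : ℝ) by norm_num, Int.floor_intCast]
    simp [h0]

omit [Fintype B] [Fintype H] [Fintype (IrrCharacter G)] D in
theorem nz_zero_iff {χ : G → ℂ} (hχ : IsIrrCharacter G χ) : nz χ = 0 ↔ χ ≠ (fun g => (starRingEnd ℂ) (χ g)) := by
  rw [← nu_zero_iff hχ, nz_cast hχ]
  exact_mod_cast Iff.rfl

theorem sum_nz {θ : B → ℂ} (hθ : RelB B H θ) {d : ℕ} (hd : θ 1 = e * d) :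
    2 * ∑ χ ∈ OO H, nz (χ : G → ℂ) * (mm (χ : G → ℂ) θ : ℤ) = 2 * nz θ + d * (e - 1) := by
  have h1 := sum_OO_nu D (hθ.vanish D) hθ.sum
  have h2 : ∀ χ ∈ OO H, nu (χ : G → ℂ) * classInner (fun x : B => (χ : G → ℂ) x) θ =
      ((nz (χ : G → ℂ) * (mm (χ : G → ℂ) θ : ℤ) : ℤ) : ℂ) := by
    intro χ _
    rw [mm_cast (IsIrr.isCharacter χ.2) (IsIrr.isCharacter hθ.1), nz_cast χ.2]
    push_cast; ring
  have h3 : (Nat.card B : ℂ)⁻¹ * ∑ s : B, (starRingEnd ℂ) (θ (s * s)) = (nz θ : ℂ) := by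
    rw [← nz_cast hθ.1, ← nu_conj hθ.1, nu, map_mul, map_sum, map_inv₀, Complex.conj_natCast]
  rw [Finset.sum_congr rfl h2, ← Int.cast_sum, h3, hd] at h1
  have he : (e : ℂ) ≠ 0 := by have := D.e1; exact_mod_cast (by omega : e ≠ 0)
  have h4 : ((2 * ∑ χ ∈ OO H, nz (χ : G → ℂ) * (mm (χ : G → ℂ) θ : ℤ) : ℤ) : ℂ) =
      ((2 * nz θ + d * (e - 1) : ℤ) : ℂ) := by
    push_cast at h1 ⊢
    rw [h1, map_mul, Complex.conj_natCast, Complex.conj_natCast]
    field_simp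
  exact_mod_cast h4

omit [Fintype B] [Fintype H] [Fintype (IrrCharacter G)] D in
theorem exists_one_aux {α : Type*} (O : Finset α) (t : α → ℤ) (h0 : ∀ a ∈ O, 0 ≤ t a)
    (h1 : ∑ a ∈ O, t a = 1) : ∃ x ∈ O, t x = 1 ∧ ∀ a ∈ O, a ≠ x → t a = 0 := by
  classical
  obtain ⟨x, hx, hx0⟩ : ∃ x ∈ O, t x ≠ 0 := by
    by_contra hcon
    push Not at hcon
    rw [Finset.sum_eq_zero hcon] at h1
    exact zero_ne_one h1
  have h2 := Finset.add_sum_erase O t hx
  have h3 : 0 ≤ ∑ a ∈ O.erase x, t a := Finset.sum_nonneg (fun a ha => h0 a (Finset.mem_of_mem_erase ha))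
  have h4 : 0 ≤ t x := h0 x hx
  have h5 : ∑ a ∈ O.erase x, t a = 0 := by omega
  refine ⟨x, hx, by omega, fun a ha hax => ?_⟩
  exact (Finset.sum_eq_zero_iff_of_nonneg (fun a ha => h0 a (Finset.mem_of_mem_erase ha))).mp h5 a
    (Finset.mem_erase.mpr ⟨hax, ha⟩)

/-- nonreal relevant characters of degree `e` -/
structure NL (B H : Subgroup G) (e : ℕ) (θ : B → ℂ) : Prop where
  rel : RelB B H θ
  deg : θ 1 = e
  nr : θ ≠ fun x => (starRingEnd ℂ) (θ x)

omit [Fintype H] [Fintype (IrrCharacter G)] D in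
theorem NL.conj {θ : B → ℂ} (h : NL B H e θ) : NL B H e (fun x => (starRingEnd ℂ) (θ x)) := by
  refine ⟨h.rel.conj, by rw [h.deg, Complex.conj_natCast], fun h1 => h.nr ?_⟩
  funext x
  have := congrFun h1 x
  rw [Complex.conj_conj] at this
  exact this.symm

omit [Fintype B] [Fintype H] [Fintype (IrrCharacter G)] D in
theorem term_nonneg {χ : G → ℂ} (hχ : IsIrrCharacter G χ) (m : ℕ) : 0 ≤ (m : ℤ) * m - nz χ * m := by
  rcases nz_values hχ with h1 | h1 | h1 <;> rw [h1]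
  · nlinarith [Int.natCast_nonneg m]
  · rcases Nat.eq_zero_or_pos m with h2 | h2
    · rw [h2]; simp
    · have : (1 : ℤ) ≤ m := by exact_mod_cast h2
      nlinarith
  · nlinarith [Int.natCast_nonneg m]

/-- the exceptional character attached to a nonreal relevant character of degree `e` -/
theorem exists_X {θ : B → ℂ} (hθ : NL B H e θ) : ∃ X : IrrCharacter G, X ∈ OO H ∧
    (X : G → ℂ) ≠ (fun g => (starRingEnd ℂ) ((X : G → ℂ) g)) ∧ mm (X : G → ℂ) θ = 1 ∧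
    (∀ χ : IrrCharacter G, χ ∈ OO H → (χ : G → ℂ) ≠ (fun g => (starRingEnd ℂ) ((χ : G → ℂ) g)) → χ ≠ X →
      mm (χ : G → ℂ) θ = 0) := by
  classical
  have h1 := sum_mm D hθ.rel hθ.rel (d := 1) (d' := 1) (by rw [hθ.deg]; simp) (by rw [hθ.deg]; simp)
  have h2 := sum_nz D hθ.rel (d := 1) (by rw [hθ.deg]; simp)
  rw [(nz_zero_iff hθ.rel.1).mpr hθ.nr] at h2
  rw [if_pos rfl] at h1
  have h3 : ∑ χ ∈ OO H, ((mm (χ : G → ℂ) θ : ℤ) * mm (χ : G → ℂ) θ - nz (χ : G → ℂ) * mm (χ : G → ℂ) θ) = 1 := by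
    simp only [Nat.cast_one, one_mul, mul_one] at h1 h2
    rw [Finset.sum_sub_distrib]; linarith
  obtain ⟨X, hX, hX1, hX0⟩ := exists_one_aux (OO H) _ (fun χ _ => term_nonneg χ.2 _) h3
  have hXnr : nz (X : G → ℂ) = 0 := by
    rcases nz_values X.2 with h4 | h4 | h4
    · exact h4
    · rw [h4] at hX1
      obtain ⟨m, hm⟩ : ∃ m : ℤ, m = (mm (X : G → ℂ) θ : ℤ) := ⟨_, rfl⟩
      rw [← hm] at hX1
      have : m * (m - 1) = 1 := by linarith
      rcases Int.isUnit_iff.mp (IsUnit.of_mul_eq_one _ this) with h5 | h5 <;> rw [h5] at this <;> norm_num at this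
    · rw [h4] at hX1
      obtain ⟨m, hm⟩ : ∃ m : ℤ, m = (mm (X : G → ℂ) θ : ℤ) := ⟨_, rfl⟩
      rw [← hm] at hX1
      have : m * (m + 1) = 1 := by linarith
      rcases Int.isUnit_iff.mp (IsUnit.of_mul_eq_one _ this) with h5 | h5 <;> rw [h5] at this <;> norm_num at this
  refine ⟨X, hX, (nz_zero_iff X.2).mp hXnr, ?_, fun χ hχ hnr hne => ?_⟩
  · rw [hXnr, zero_mul, sub_zero] at hX1
    have : (mm (X : G → ℂ) θ) * (mm (X : G → ℂ) θ) = 1 := by exact_mod_cast hX1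
    exact Nat.eq_one_of_mul_eq_one_right this
  · have h4 := hX0 χ hχ hne
    rw [(nz_zero_iff χ.2).mpr hnr, zero_mul, sub_zero] at h4
    have : (mm (χ : G → ℂ) θ) * (mm (χ : G → ℂ) θ) = 0 := by exact_mod_cast h4
    exact mul_self_eq_zero.mp this

/-- real relevant characters of degree `e` do not occur in nonreal characters -/
theorem real_zero {θ : B → ℂ} (hθ : RelB B H θ) (hdeg : θ 1 = e) (hreal : θ = fun x => (starRingEnd ℂ) (θ x))
    (hnz : nz θ = 1) {χ : IrrCharacter G} (hχ : χ ∈ OO H)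
    (hnr : (χ : G → ℂ) ≠ (fun g => (starRingEnd ℂ) ((χ : G → ℂ) g))) : mm (χ : G → ℂ) θ = 0 := by
  classical
  have h1 := sum_mm D hθ hθ (d := 1) (d' := 1) (by rw [hdeg]; simp) (by rw [hdeg]; simp)
  have h2 := sum_nz D hθ (d := 1) (by rw [hdeg]; simp)
  rw [hnz] at h2
  rw [if_pos rfl] at h1
  have h3 : ∑ χ ∈ OO H, ((mm (χ : G → ℂ) θ : ℤ) * mm (χ : G → ℂ) θ - nz (χ : G → ℂ) * mm (χ : G → ℂ) θ) = 0 := by
    simp only [Nat.cast_one, one_mul, mul_one] at h1 h2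
    rw [Finset.sum_sub_distrib]; linarith
  have h4 := (Finset.sum_eq_zero_iff_of_nonneg (fun χ _ => term_nonneg χ.2 _)).mp h3 χ hχ
  rw [(nz_zero_iff χ.2).mpr hnr, zero_mul, sub_zero] at h4
  have : (mm (χ : G → ℂ) θ) * (mm (χ : G → ℂ) θ) = 0 := by exact_mod_cast h4
  exact mul_self_eq_zero.mp this

end Main

end Cfsg.Agent.H3.Feit
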