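import Mathlib
import Cfsg.Prelude.Def_Characters
import Cfsg.Agent.H3_Feit3

/-!
# Feit's theorem on Zassenhaus groups: exceptional characters
-/

set_option autoImplicit false

open scoped ComplexConjugate

namespace Cfsg.Agent.H3.Feit

open Cfsg Cfsg.Agent.H3.CharBasic Cfsg.Agent.H3.CharIrr Cfsg.Agent.H3.CharInt Cfsg.Agent.H3.CharCalc
  Cfsg.Agent.H3.CharComplete Cfsg.Agent.H3.CharInd Cfsg.Agent.H3.CharTI Cfsg.Agent.H3.CharMult

section Main

variable {G : Type*} [Group G] [Fintype G] {B H : Subgroup G} {St : G → ℂ} {e h : ℕ}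
  (D : FD B H St e h) [Fintype B] [Fintype H] [Fintype (IrrCharacter G)]

/-- complex conjugate of an irreducible character -/
noncomputable def cX (X : IrrCharacter G) : IrrCharacter G := ⟨fun g => (starRingEnd ℂ) ((X : G → ℂ) g), IsIrr.conj X.2⟩

theorem cX_coe (X : IrrCharacter G) : ((cX X : IrrCharacter G) : G → ℂ) = fun g => (starRingEnd ℂ) ((X : G → ℂ) g) := rfl

theorem cX_cX (X : IrrCharacter G) : cX (cX X) = X := by
  apply Subtype.ext
  funext g
  rw [cX_coe, cX_coe]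
  exact Complex.conj_conj _

omit [Fintype B] in
theorem cX_mem {X : IrrCharacter G} (hX : X ∈ OO H) : cX X ∈ OO H := by
  rw [mem_OO, sH_eq] at *
  rw [cX_coe, ← map_sum, hX, map_zero]

/-- `X` is the exceptional character of `θ` -/
structure IsX (X : IrrCharacter G) (θ : B → ℂ) : Prop where
  mem : X ∈ OO H
  nr : cX X ≠ X
  one : mm (X : G → ℂ) θ = 1
  zero : ∀ χ : IrrCharacter G, χ ∈ OO H → cX χ ≠ χ → χ ≠ X → mm (χ : G → ℂ) θ = 0

omit [Fintype B] [Fintype H] [Fintype (IrrCharacter G)] in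
theorem nr_iff (χ : IrrCharacter G) : cX χ ≠ χ ↔
    (χ : G → ℂ) ≠ (fun g => (starRingEnd ℂ) ((χ : G → ℂ) g)) := by
  rw [not_iff_not]
  constructor
  · intro h; exact (congrArg Subtype.val h).symm
  · intro h; exact Subtype.ext h.symm

include D in
theorem exists_isX {θ : B → ℂ} (hθ : NL B H e θ) : ∃ X : IrrCharacter G, IsX (H := H) X θ := by
  obtain ⟨X, h1, h2, h3, h4⟩ := exists_X D hθ
  exact ⟨X, h1, (nr_iff X).mpr h2, h3, fun χ hχ hn hne => h4 χ hχ ((nr_iff χ).mp hn) hne⟩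

omit [Fintype H] [Fintype (IrrCharacter G)] in
theorem mm_cX {θ : B → ℂ} (hθ : IsCharacter B θ) (χ : IrrCharacter G) :
    mm ((cX χ : IrrCharacter G) : G → ℂ) (fun x => (starRingEnd ℂ) (θ x)) = mm (χ : G → ℂ) θ :=
  mm_conj (IsIrr.isCharacter χ.2) hθ

omit [Fintype H] [Fintype (IrrCharacter G)] in
theorem mm_cX' {θ : B → ℂ} (hθ : IsCharacter B θ) (χ : IrrCharacter G) :
    mm ((cX χ : IrrCharacter G) : G → ℂ) θ = mm (χ : G → ℂ) (fun x => (starRingEnd ℂ) (θ x)) := by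
  rw [← mm_cX (IsChar.conj hθ) χ]
  congr 1
  funext x
  exact (Complex.conj_conj _).symm

include D

theorem IsX.conj_zero {θ : B → ℂ} (hθ : NL B H e θ) {X : IrrCharacter G} (hX : IsX (H := H) X θ) :
    mm (X : G → ℂ) (fun x => (starRingEnd ℂ) (θ x)) = 0 := by
  rw [← mm_cX' (IsIrr.isCharacter hθ.rel.1)]
  apply hX.zero _ (cX_mem hX.mem) _ hX.nr
  rw [cX_cX]; exact hX.nr.symm

/-- the multiplicities of other characters in `X` and its conjugate agree -/
theorem IsX.eq_conj {θ : B → ℂ} (hθ : NL B H e θ) {X : IrrCharacter G} (hX : IsX (H := H) X θ)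
    {η : B → ℂ} (hη : RelB B H η) (h1 : θ ≠ η) (h2 : (fun x => (starRingEnd ℂ) (θ x)) ≠ η) :
    mm (X : G → ℂ) η = mm ((cX X : IrrCharacter G) : G → ℂ) η := by
  classical
  obtain ⟨d, -, hd⟩ := hη.degree D
  have e1 := sum_mm D hθ.rel hη (d := 1) (d' := d) (by rw [hθ.deg]; simp) hd
  have e2 := sum_mm D hθ.conj.rel hη (d := 1) (d' := d) (by rw [hθ.conj.deg]; simp) hd
  rw [if_neg h1] at e1
  rw [if_neg h2] at e2
  have e3 : ∑ χ ∈ OO H, ((mm (χ : G → ℂ) θ : ℤ) - mm (χ : G → ℂ) (fun x => (starRingEnd ℂ) (θ x))) *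
      mm (χ : G → ℂ) η = 0 := by
    simp only [sub_mul]
    rw [Finset.sum_sub_distrib]
    linarith
  rw [Finset.sum_eq_add (a := X) (b := cX X) hX.nr.symm] at e3
  · rw [hX.one, hX.conj_zero D hθ, mm_cX' (IsIrr.isCharacter hθ.rel.1), hX.conj_zero D hθ,
      mm_cX (IsIrr.isCharacter hθ.rel.1), hX.one] at e3
    push_cast at e3
    have : (mm (X : G → ℂ) η : ℤ) = mm ((cX X : IrrCharacter G) : G → ℂ) η := by linarith
    exact_mod_cast this
  · rintro χ hχ ⟨ha, hb⟩
    by_cases hr : cX χ = χ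
    · have h3 : mm (χ : G → ℂ) (fun x => (starRingEnd ℂ) (θ x)) = mm (χ : G → ℂ) θ := by
        rw [← mm_cX' (IsIrr.isCharacter hθ.rel.1), hr]
      rw [h3, sub_self, zero_mul]
    · have h4 : mm (χ : G → ℂ) θ = 0 := hX.zero χ hχ hr ha
      have h5 : mm (χ : G → ℂ) (fun x => (starRingEnd ℂ) (θ x)) = 0 := by
        rw [← mm_cX' (IsIrr.isCharacter hθ.rel.1)]
        apply hX.zero _ (cX_mem hχ) _ (fun h6 => hb (by rw [← h6, cX_cX]))
        rw [cX_cX]; exact fun h6 => hr h6.symm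
      rw [h4, h5]; simp
  · intro h3; exact absurd hX.mem h3
  · intro h3; exact absurd (cX_mem hX.mem) h3

theorem IsX.sep {θ θ' : B → ℂ} (hθ : NL B H e θ) (hθ' : NL B H e θ') (hne : θ ≠ θ') {X : IrrCharacter G}
    (hX : IsX (H := H) X θ) : mm (X : G → ℂ) θ' = 0 := by
  classical
  by_cases h1 : (fun x => (starRingEnd ℂ) (θ x)) = θ'
  · rw [← h1]; exact hX.conj_zero D hθ
  · have h2 := hX.eq_conj D hθ hθ'.rel hne h1
    by_contra h3
    obtain ⟨X', hX'⟩ := exists_isX D hθ'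
    have h4 : X = X' := by
      by_contra h5
      exact h3 (hX'.zero X hX.mem hX.nr h5)
    have h5 : cX X = X' := by
      by_contra h6
      apply h3
      rw [h2]
      apply hX'.zero _ (cX_mem hX.mem) _ h6
      rw [cX_cX]; exact hX.nr.symm
    exact hX.nr (h5.trans h4.symm)

/-- outside the exceptional characters the multiplicities agree -/
theorem IsX.diff {θ θ' : B → ℂ} (hθ : NL B H e θ) (hθ' : NL B H e θ') (hne : θ ≠ θ') {X X' : IrrCharacter G}
    (hX : IsX (H := H) X θ) (hX' : IsX (H := H) X' θ') {χ : IrrCharacter G} (hχ : χ ∈ OO H) (h1 : χ ≠ X)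
    (h2 : χ ≠ X') : mm (χ : G → ℂ) θ = mm (χ : G → ℂ) θ' := by
  classical
  have e1 := sum_mm D hθ.rel hθ.rel (d := 1) (d' := 1) (by rw [hθ.deg]; simp) (by rw [hθ.deg]; simp)
  have e2 := sum_mm D hθ'.rel hθ'.rel (d := 1) (d' := 1) (by rw [hθ'.deg]; simp) (by rw [hθ'.deg]; simp)
  have e3 := sum_mm D hθ.rel hθ'.rel (d := 1) (d' := 1) (by rw [hθ.deg]; simp) (by rw [hθ'.deg]; simp)
  rw [if_pos rfl] at e1 e2
  rw [if_neg hne] at e3
  have e4 : ∑ χ ∈ OO H, ((mm (χ : G → ℂ) θ : ℤ) - mm (χ : G → ℂ) θ') ^ 2 = 2 := by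
    have : ∀ χ ∈ OO H, ((mm (χ : G → ℂ) θ : ℤ) - mm (χ : G → ℂ) θ') ^ 2 =
        (mm (χ : G → ℂ) θ : ℤ) * mm (χ : G → ℂ) θ + (mm (χ : G → ℂ) θ' : ℤ) * mm (χ : G → ℂ) θ' -
        2 * ((mm (χ : G → ℂ) θ : ℤ) * mm (χ : G → ℂ) θ') := fun χ _ => by ring
    rw [Finset.sum_congr rfl this, Finset.sum_sub_distrib, Finset.sum_add_distrib, ← Finset.mul_sum]
    linarith
  have hXX : X ≠ X' := by
    rintro rfl
    have := hX.sep D hθ hθ' hne
    rw [hX'.one] at this
    exact one_ne_zero this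
  have hsub : ({X, X'} : Finset (IrrCharacter G)) ⊆ OO H := by
    intro a ha
    simp only [Finset.mem_insert, Finset.mem_singleton] at ha
    rcases ha with rfl | rfl
    · exact hX.mem
    · exact hX'.mem
  have e5 := Finset.sum_sdiff hsub (f := fun χ : IrrCharacter G => ((mm (χ : G → ℂ) θ : ℤ) - mm (χ : G → ℂ) θ') ^ 2)
  rw [Finset.sum_pair hXX, hX.one, hX'.one, hX.sep D hθ hθ' hne, hX'.sep D hθ' hθ hne.symm, e4] at e5
  have e6 : ∑ χ ∈ OO H \ {X, X'}, ((mm (χ : G → ℂ) θ : ℤ) - mm (χ : G → ℂ) θ') ^ 2 = 0 := by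
    push_cast at e5
    linarith
  have e7 := (Finset.sum_eq_zero_iff_of_nonneg (fun χ _ => sq_nonneg _)).mp e6 χ (by
    rw [Finset.mem_sdiff]
    refine ⟨hχ, ?_⟩
    simp only [Finset.mem_insert, Finset.mem_singleton, not_or]
    exact ⟨h1, h2⟩)
  have e8 := pow_eq_zero_iff (two_ne_zero) |>.mp e7
  have : (mm (χ : G → ℂ) θ : ℤ) = mm (χ : G → ℂ) θ' := by linarith
  exact_mod_cast this

end Main

/-- sunflower structure -/
structure SF {G : Type*} [Group G] [Fintype G] (B H : Subgroup G) [Fintype B] [Fintype (IrrCharacter G)] (e : ℕ)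
    {ι : Type*} [DecidableEq ι] (th : ι → B → ℂ) (X : ι → IrrCharacter G) : Prop where
  inj : Function.Injective X
  mem : ∀ i, X i ∈ OO H
  mul : ∀ i j, mm (X i : G → ℂ) (th j) = if i = j then 1 else 0
  rel : ∀ i, RelB B H (th i)
  deg : ∀ i, th i 1 = e
  diff : ∀ i j, ∀ χ ∈ OO H, χ ≠ X i → χ ≠ X j → mm (χ : G → ℂ) (th i) = mm (χ : G → ℂ) (th j)

section SF

variable {G : Type*} [Group G] [Fintype G] {B H : Subgroup G} {St : G → ℂ} {e h : ℕ}
  (D : FD B H St e h) [Fintype B] [Fintype H] [Fintype (IrrCharacter G)]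
  {ι : Type*} [DecidableEq ι] {th : ι → B → ℂ} {X : ι → IrrCharacter G} (S : SF B H e th X)

include D in
/-- the family of nonreal characters -/
theorem sf_of_nl (hth : Function.Injective th) (hnl : ∀ i, NL B H e (th i)) (hX : ∀ i, IsX (H := H) (X i) (th i)) :
    SF B H e th X := by
  refine ⟨?_, fun i => (hX i).mem, ?_, fun i => (hnl i).rel, fun i => (hnl i).deg, ?_⟩
  · intro i j hij
    by_contra hne
    have h1 := (hX i).sep D (hnl i) (hnl j) (fun h => hne (hth h))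
    rw [hij, (hX j).one] at h1
    exact one_ne_zero h1
  · intro i j
    split_ifs with hij
    · rw [← hij]; exact (hX i).one
    · exact (hX i).sep D (hnl i) (hnl j) (fun h => hij (hth h))
  · intro i j χ hχ h1 h2
    by_cases hij : i = j
    · rw [hij]
    · exact (hX i).diff D (hnl i) (hnl j) (fun h => hij (hth h)) (hX j) hχ h1 h2

include D S

theorem SF.ind_eq (i j : ι) : indFun B (th i) - indFun B (th j) = (X i : G → ℂ) - (X j : G → ℂ) := by
  classical
  apply ext_inner (isClass_sub _ _ (ind_isClass B _) (ind_isClass B _))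
    (isClass_sub _ _ (IsIrr.isClass (X i).2) (IsIrr.isClass (X j).2))
  intro χ hχ
  rw [ci_sub_left, ci_sub_left, frobenius B _ _ (IsIrr.isClass hχ), frobenius B _ _ (IsIrr.isClass hχ),
    ci_irr (X i).2 hχ, ci_irr (X j).2 hχ]
  by_cases hO : (⟨χ, hχ⟩ : IrrCharacter G) ∈ OO H
  · rw [mm_cast' (IsIrr.isCharacter hχ) (IsIrr.isCharacter (S.rel i).1),
      mm_cast' (IsIrr.isCharacter hχ) (IsIrr.isCharacter (S.rel j).1)]
    by_cases h1 : (X i : G → ℂ) = χ
    · rw [if_pos h1, ← h1, S.mul, S.mul, if_pos rfl]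
      by_cases h2 : i = j
      · rw [if_pos h2, if_pos (by rw [h2])]; simp
      · rw [if_neg h2, if_neg (fun h3 => h2 (S.inj (Subtype.ext h3.symm)))]; simp
    · rw [if_neg h1]
      by_cases h2 : (X j : G → ℂ) = χ
      · have hij : i ≠ j := fun h3 => h1 (by rw [h3]; exact h2)
        rw [if_pos h2, ← h2, S.mul, S.mul, if_pos rfl, if_neg hij.symm]; simp
      · rw [if_neg h2]
        have h3 := S.diff i j ⟨χ, hχ⟩ hO (fun h4 => h1 (congrArg Subtype.val h4.symm))
          (fun h4 => h2 (congrArg Subtype.val h4.symm))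
        simp only at h3
        rw [h3]; simp
  · have h1 : ∀ k : ι, ¬ ((X k : G → ℂ) = χ) := by
      intro k h2
      apply hO
      have : (⟨χ, hχ⟩ : IrrCharacter G) = X k := Subtype.ext h2.symm
      rw [this]; exact S.mem k
    rw [if_neg (h1 i), if_neg (h1 j), sub_zero]
    have h2 : sH H χ ≠ 0 := fun h3 => hO (mem_OO.mpr h3)
    have key : ∀ k : ι, classInner (th k) (fun x : B => χ x) = if χ = (fun _ => 1) then 0 else 1 := by
      intro k
      have he : (e : ℂ) ≠ 0 := by have := D.e1; exact_mod_cast (by omega : e ≠ 0)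
      rw [← ci_conj_symm]
      by_cases h3 : χ = fun _ => 1
      · rw [if_pos h3, h3, ← map_zero (starRingEnd ℂ)]
        congr 1
        exact ci_one' D ((S.rel k).vanish D) (S.rel k).sum
      · rw [if_neg h3]
        have h4 : classInner (fun x : B => χ x) (th k) = (starRingEnd ℂ) (th k 1) / e := by
          rcases D.tri χ hχ h2 with h5 | h5 | h5
          · exact absurd h5 h3
          · rw [h5]; exact ci_St' D ((S.rel k).vanish D) (S.rel k).sum
          · exact ci_LL' D ((S.rel k).vanish D) (S.rel k).sum (χ := ⟨χ, hχ⟩) (mem_LL.mpr h5)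
        rw [h4, S.deg, Complex.conj_natCast, div_self he, map_one]
    rw [key i, key j, sub_self]

theorem SF.val_one (i j : ι) : (X i : G → ℂ) 1 = (X j : G → ℂ) 1 := by
  have h1 := congrFun (S.ind_eq D i j) 1
  simp only [Pi.sub_apply] at h1
  rw [ind_one, ind_one, S.deg, S.deg, sub_self] at h1
  exact (sub_eq_zero.mp h1.symm)

theorem SF.val (i j : ι) {u : G} (hu : u ∈ H) :
    (X i : G → ℂ) u - (X j : G → ℂ) u = th i ⟨u, D.hHB hu⟩ - th j ⟨u, D.hHB hu⟩ := by
  by_cases hu1 : u = 1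
  · subst hu1
    have h2 : (⟨1, D.hHB hu⟩ : B) = 1 := rfl
    rw [S.val_one D i j, sub_self, h2, S.deg, S.deg, sub_self]
  · have h1 := congrFun (S.ind_eq D i j) u
    simp only [Pi.sub_apply] at h1
    have hu1' : (⟨u, D.hHB hu⟩ : B) ≠ 1 := fun h3 => hu1 (congrArg Subtype.val h3)
    have h2 : ∀ k, indFun B (th k) u = th k ⟨u, D.hHB hu⟩ := fun k =>
      ind_eq_of_TI' B (H : Set G) (fun g hg t ht hgt => D.ti g hg t ht hgt) (th k) (IsIrr.isClass (S.rel k).1)
        ((S.rel k).vanish D) ⟨u, D.hHB hu⟩ hu hu1'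
    rw [← h1, h2, h2]

end SF

end Cfsg.Agent.H3.Feit
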