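import Mathlib
import Cfsg.Prelude.Def_Characters
import Cfsg.Agent.H3_Feit4

/-!
# Feit's theorem on Zassenhaus groups: the inequality
-/

set_option autoImplicit false

open scoped ComplexConjugate

namespace Cfsg.Agent.H3.Feit

open Cfsg Cfsg.Agent.H3.CharBasic Cfsg.Agent.H3.CharIrr Cfsg.Agent.H3.CharInt Cfsg.Agent.H3.CharCalc
  Cfsg.Agent.H3.CharComplete Cfsg.Agent.H3.CharInd Cfsg.Agent.H3.CharTI Cfsg.Agent.H3.CharMult

section Y

variable {G : Type*} [Group G] [Fintype G] {B H : Subgroup G} {St : G → ℂ} {e h : ℕ}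
  (D : FD B H St e h) [Fintype B] [Fintype H] [Fintype (IrrCharacter G)]
  {Z : Subgroup G} [Fintype Z] (hZH : Z ≤ H) (hZ : ∀ b ∈ B, ∀ z ∈ Z, b * z * b⁻¹ ∈ Z) {w : ℕ}
  (hw : w * Nat.card Z = h)

/-- the test function -/
noncomputable def phiY (B Z : Subgroup G) (e h w : ℕ) : B → ℂ := fun x => by
  classical exact (if x = 1 then (e : ℂ) * h else 0) - (if (x : G) ∈ Z then (e : ℂ) * w else 0)

/-- the dimension of the part of `χ` on which `Z` acts without fixed points -/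
noncomputable def yv (Z : Subgroup G) [Fintype Z] (χ : G → ℂ) : ℂ := χ 1 - (Nat.card Z : ℂ)⁻¹ * ∑ z : Z, χ z

noncomputable def yy (Z : Subgroup G) [Fintype Z] (χ : G → ℂ) : ℤ := ⌊(yv Z χ).re⌋

omit [Fintype B] [Fintype H] [Fintype (IrrCharacter G)] in
theorem yy_cast {χ : G → ℂ} (hχ : IsCharacter G χ) : yv Z χ = (yy Z χ : ℂ) := by
  obtain ⟨n, hn⟩ := IsChar.one_eq_nat hχ
  obtain ⟨m, hm⟩ := ci_char_nat (IsChar.res hχ Z) (IsChar.one (G := Z))
  have h1 : (Nat.card Z : ℂ)⁻¹ * ∑ z : Z, χ z = m := by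
    rw [← hm, classInner]; simp
  have h2 : yv Z χ = ((n - m : ℤ) : ℂ) := by
    rw [yv, h1, hn]; push_cast; ring
  rw [yy, h2]
  congr 1
  rw [Complex.intCast_re, Int.floor_intCast]

include D hZH

omit [Fintype H] [Fintype (IrrCharacter G)] in
theorem ci_phiY (hw : w * Nat.card Z = h) (f : B → ℂ) : classInner f (phiY B Z e h w) =
    f 1 - (Nat.card Z : ℂ)⁻¹ * ∑ z : Z, f ⟨z, D.hHB (hZH z.2)⟩ := by
  classical
  have he : (e : ℂ) ≠ 0 := by have := D.e1; exact_mod_cast (by omega : e ≠ 0)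
  have hh : (h : ℂ) ≠ 0 := by have := D.h1; exact_mod_cast (by omega : h ≠ 0)
  have hZc : (Nat.card Z : ℂ) ≠ 0 := by exact_mod_cast Nat.card_pos.ne'
  have h1 : ∀ x : B, f x * (starRingEnd ℂ) (phiY B Z e h w x) =
      (if x = 1 then (e : ℂ) * h * f 1 else 0) - (if (x : G) ∈ Z then (e : ℂ) * w * f x else 0) := by
    intro x
    rw [phiY]
    simp only [map_sub]
    rw [mul_sub]
    congr 1
    · by_cases hx : x = 1
      · rw [if_pos hx, if_pos hx, hx, map_mul, Complex.conj_natCast, Complex.conj_natCast]; ring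
      · rw [if_neg hx, if_neg hx, map_zero, mul_zero]
    · by_cases hx : (x : G) ∈ Z
      · rw [if_pos hx, if_pos hx, map_mul, Complex.conj_natCast, Complex.conj_natCast]; ring
      · rw [if_neg hx, if_neg hx, map_zero, mul_zero]
  rw [classInner, Finset.sum_congr rfl (fun x _ => h1 x), Finset.sum_sub_distrib,
    Finset.sum_ite_eq' Finset.univ (1 : B), if_pos (Finset.mem_univ _), ← Finset.sum_filter]
  have h2 : ∑ x ∈ Finset.univ.filter (fun x : B => (x : G) ∈ Z), (e : ℂ) * w * f x =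
      ∑ z : Z, (e : ℂ) * w * f ⟨z, D.hHB (hZH z.2)⟩ := by
    symm
    apply Finset.sum_bij (fun (z : Z) _ => (⟨z, D.hHB (hZH z.2)⟩ : B))
    · intro u _
      simp only [Finset.mem_filter, Finset.mem_univ, true_and]
      exact u.2
    · intro u _ v _ huv
      exact Subtype.ext (congrArg (fun x : B => (x : G)) huv)
    · intro x hx
      exact ⟨⟨x, (Finset.mem_filter.mp hx).2⟩, Finset.mem_univ _, rfl⟩
    · intro u _; rfl
  rw [h2, ← Finset.mul_sum, D.cB]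
  obtain ⟨Sg, hSg⟩ : ∃ Sg : ℂ, Sg = ∑ z : Z, f ⟨z, D.hHB (hZH z.2)⟩ := ⟨_, rfl⟩
  rw [← hSg]
  have hhc : (h : ℂ) = w * Nat.card Z := by rw [← hw]; push_cast; ring
  have hwc : (w : ℂ) ≠ 0 := by
    intro h3
    apply hh
    rw [hhc, h3, zero_mul]
  push_cast
  rw [hhc]
  field_simp

omit [Fintype B] [Fintype H] [Fintype (IrrCharacter G)] in
theorem phiY_vanish (x : B) (hx : (x : G) ∉ H) : phiY B Z e h w x = 0 := by
  rw [phiY]
  rw [if_neg, if_neg, sub_zero]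
  · exact fun h1 => hx (hZH h1)
  · rintro rfl; exact hx H.one_mem

omit [Fintype B] [Fintype H] [Fintype (IrrCharacter G)] hZH in
theorem phiY_isClass (hZ : ∀ b ∈ B, ∀ z ∈ Z, b * z * b⁻¹ ∈ Z) : IsClassFunction B (phiY B Z e h w) := by
  intro x b
  rw [phiY, phiY]
  have h1 : b * x * b⁻¹ = 1 ↔ x = 1 := by
    constructor
    · intro h2
      calc x = b⁻¹ * (b * x * b⁻¹) * b := by group
        _ = 1 := by rw [h2]; group
    · rintro rfl; group
  have h2 : ((b * x * b⁻¹ : B) : G) ∈ Z ↔ (x : G) ∈ Z := by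
    constructor
    · intro h3
      have h4 := hZ _ (B.inv_mem b.2) _ h3
      have h5 : (b : G)⁻¹ * ((b * x * b⁻¹ : B) : G) * (b : G)⁻¹⁻¹ = x := by
        simp only [Subgroup.coe_mul, Subgroup.coe_inv]; group
      rwa [h5] at h4
    · intro h3; exact hZ b b.2 x h3
  congr 1
  · by_cases h3 : x = 1
    · rw [if_pos h3, if_pos (h1.mpr h3)]
    · rw [if_neg h3, if_neg (fun h4 => h3 (h1.mp h4))]
  · by_cases h3 : (x : G) ∈ Z
    · rw [if_pos h3, if_pos (h2.mpr h3)]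
    · rw [if_neg h3, if_neg (fun h4 => h3 (h2.mp h4))]

omit [Fintype B] [Fintype H] [Fintype (IrrCharacter G)] hZH D in
theorem phiY_one : phiY B Z e h w 1 = e * (h - w) := by
  rw [phiY]
  rw [if_pos rfl, if_pos (by rw [Subgroup.coe_one]; exact Z.one_mem)]
  ring

omit [Fintype B] [Fintype H] [Fintype (IrrCharacter G)] in
theorem phiY_sumZ (hw : w * Nat.card Z = h) : ∑ z : Z, phiY B Z e h w ⟨z, D.hHB (hZH z.2)⟩ = 0 := by
  classical
  have h1 : ∀ z : Z, phiY B Z e h w ⟨z, D.hHB (hZH z.2)⟩ = (if z = 1 then (e : ℂ) * h else 0) - e * w := by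
    intro z
    rw [phiY]
    rw [if_pos z.2]
    congr 1
    by_cases hz : z = 1
    · rw [if_pos hz, if_pos (by rw [hz]; rfl)]
    · rw [if_neg hz, if_neg]
      intro h2
      exact hz (Subtype.ext (congrArg (fun x : B => (x : G)) h2))
  rw [Finset.sum_congr rfl (fun z _ => h1 z), Finset.sum_sub_distrib, Finset.sum_ite_eq' Finset.univ (1 : Z),
    if_pos (Finset.mem_univ _), Finset.sum_const, nsmul_eq_mul, Finset.card_univ, ← Nat.card_eq_fintype_card, ← hw]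
  push_cast
  ring

omit [Fintype H] [Fintype (IrrCharacter G)] in
theorem phiY_sum (hw : w * Nat.card Z = h) : ∑ x : B, phiY B Z e h w x = 0 := by
  classical
  have h1 := ci_phiY D hZH hw (fun _ => 1)
  rw [classInner] at h1
  have h2 : (Nat.card Z : ℂ)⁻¹ * ∑ z : Z, (1 : ℂ) = 1 := by
    rw [Finset.sum_const, nsmul_eq_mul, mul_one, Finset.card_univ, ← Nat.card_eq_fintype_card]
    exact inv_mul_cancel₀ (by exact_mod_cast Nat.card_pos.ne')
  rw [h2, sub_self] at h1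
  have h3 : (Nat.card B : ℂ)⁻¹ ≠ 0 := inv_ne_zero (by exact_mod_cast Nat.card_pos.ne')
  have h4 := (mul_eq_zero.mp h1).resolve_left h3
  simp only [one_mul] at h4
  rw [← map_sum] at h4
  exact (map_eq_zero _).mp h4

omit [Fintype H] [Fintype (IrrCharacter G)] in
theorem ci_phiY_res (hw : w * Nat.card Z = h) {χ : G → ℂ} (hχ : IsCharacter G χ) :
    classInner (fun x : B => χ x) (phiY B Z e h w) = (yy Z χ : ℂ) := by
  rw [ci_phiY D hZH hw, ← yy_cast hχ, yv]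
  rfl

include hZ hw

theorem sum_yy_sq {s : ℕ} (hs : e = 2 * s + 1) :
    ∑ χ ∈ OO H, (yy Z (χ : G → ℂ)) ^ 2 = (e : ℤ) * (h - w) + (h - w) ^ 2 * s := by
  have h1 := sum_OO D (phiY_isClass D hZ (w := w)) (phiY_vanish D hZH) (phiY_vanish D hZH) (phiY_sum D hZH hw)
    (phiY_sum D hZH hw)
  have h2 : ∀ χ ∈ OO H, classInner (phiY B Z e h w) (fun x : B => (χ : G → ℂ) x) *
      (starRingEnd ℂ) (classInner (phiY B Z e h w) (fun x : B => (χ : G → ℂ) x)) =
      (((yy Z (χ : G → ℂ)) ^ 2 : ℤ) : ℂ) := by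
    intro χ _
    rw [← ci_conj_symm, ci_phiY_res D hZH hw (IsIrr.isCharacter χ.2)]
    simp only [map_intCast]
    push_cast; ring
  have h3 : classInner (phiY B Z e h w) (phiY B Z e h w) = e * (h - w) := by
    rw [ci_phiY D hZH hw, phiY_sumZ D hZH hw, mul_zero, sub_zero, phiY_one]
  rw [Finset.sum_congr rfl h2, ← Int.cast_sum, h3, phiY_one] at h1
  have he : (e : ℂ) ≠ 0 := by have := D.e1; exact_mod_cast (by omega : e ≠ 0)
  have h4 : ((∑ χ ∈ OO H, (yy Z (χ : G → ℂ)) ^ 2 : ℤ) : ℂ) = (((e : ℤ) * (h - w) + (h - w) ^ 2 * s : ℤ) : ℂ) := by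
    rw [h1]
    push_cast
    simp only [map_mul, map_sub, Complex.conj_natCast]
    have h5 : (e : ℂ) = 2 * s + 1 := by rw [hs]; push_cast; ring
    have h6 : (e : ℂ) * (h - w) * (e * (h - w)) * (e - 1) / (2 * e ^ 2) = (h - w) ^ 2 * s := by
      have h7 : (e : ℂ) - 1 = 2 * s := by rw [h5]; ring
      rw [h7]
      field_simp
    rw [h6]
  exact_mod_cast h4

theorem sum_yy_mm {s : ℕ} (hs : e = 2 * s + 1) {θ : B → ℂ} (hθ : RelB B H θ) (hdeg : θ 1 = e)
    (hθZ : ∀ z (hz : z ∈ Z), θ ⟨z, D.hHB (hZH hz)⟩ = e) :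
    ∑ χ ∈ OO H, (mm (χ : G → ℂ) θ : ℤ) * yy Z (χ : G → ℂ) = (h - w : ℤ) * s := by
  have h1 := sum_OO D (phiY_isClass D hZ (w := w)) (hθ.vanish D) (phiY_vanish D hZH) hθ.sum
    (phiY_sum D hZH hw)
  have h2 : ∀ χ ∈ OO H, classInner θ (fun x : B => (χ : G → ℂ) x) *
      (starRingEnd ℂ) (classInner (phiY B Z e h w) (fun x : B => (χ : G → ℂ) x)) =
      (((mm (χ : G → ℂ) θ : ℤ) * yy Z (χ : G → ℂ) : ℤ) : ℂ) := by
    intro χ _
    rw [mm_cast' (IsIrr.isCharacter χ.2) (IsIrr.isCharacter hθ.1), ci_conj_symm,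
      ci_phiY_res D hZH hw (IsIrr.isCharacter χ.2)]
    push_cast; ring
  have h3 : classInner θ (phiY B Z e h w) = 0 := by
    rw [ci_phiY D hZH hw, Finset.sum_congr rfl (fun (z : Z) _ => hθZ z z.2), hdeg, Finset.sum_const, nsmul_eq_mul,
      Finset.card_univ, ← Nat.card_eq_fintype_card]
    have hZc : (Nat.card Z : ℂ) ≠ 0 := by exact_mod_cast Nat.card_pos.ne'
    field_simp
    ring
  rw [Finset.sum_congr rfl h2, ← Int.cast_sum, h3, phiY_one, hdeg] at h1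
  have he : (e : ℂ) ≠ 0 := by have := D.e1; exact_mod_cast (by omega : e ≠ 0)
  have h4 : ((∑ χ ∈ OO H, (mm (χ : G → ℂ) θ : ℤ) * yy Z (χ : G → ℂ) : ℤ) : ℂ) = (((h - w : ℤ) * s : ℤ) : ℂ) := by
    rw [h1]
    push_cast
    simp only [map_mul, map_sub, Complex.conj_natCast]
    have h5 : (e : ℂ) = 2 * s + 1 := by rw [hs]; push_cast; ring
    have h7 : (e : ℂ) - 1 = 2 * s := by rw [h5]; ring
    rw [h7]
    field_simp
    ring
  exact_mod_cast h4

end Y

section INEQ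

variable {G : Type*} [Group G] [Fintype G] {B H : Subgroup G} {St : G → ℂ} {e h : ℕ}
  (D : FD B H St e h) [Fintype B] [Fintype H] [Fintype (IrrCharacter G)]
  {Z : Subgroup G} [Fintype Z] (hZH : Z ≤ H) (hZ : ∀ b ∈ B, ∀ z ∈ Z, b * z * b⁻¹ ∈ Z) {w : ℕ}
  (hw : w * Nat.card Z = h)
  {ι : Type*} [DecidableEq ι] [Fintype ι] {th : ι → B → ℂ} {X : ι → IrrCharacter G} (S : SF B H e th X)
  (hthZ : ∀ i z (hz : z ∈ Z), th i ⟨z, D.hHB (hZH hz)⟩ = e)

include D hZH hZ hw S hthZ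

omit hZ hw [Fintype ι] in
theorem SF.yy_eq (i j : ι) : yy Z (X i : G → ℂ) = yy Z (X j : G → ℂ) := by
  rw [yy, yy, yv, yv]
  have h1 : ∀ z ∈ Z, (X i : G → ℂ) z = (X j : G → ℂ) z := by
    intro z hz
    have h2 := S.val D i j (hZH hz)
    rw [hthZ i z hz, hthZ j z hz, sub_self] at h2
    exact sub_eq_zero.mp h2
  rw [h1 1 Z.one_mem, Finset.sum_congr rfl (fun (z : Z) _ => h1 z z.2)]

/-- the main inequality -/
theorem SF.ineq {s : ℕ} (hs : e = 2 * s + 1) (i₀ : ι) {c : ℤ} (hc : yy Z (X i₀ : G → ℂ) = c) :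
    c ^ 2 * (s * Fintype.card ι + 1) ≤ s * (h - w) * (e + 2 * c) := by
  classical
  obtain ⟨γ, hγ⟩ : ∃ γ : IrrCharacter G → ℤ, γ = fun χ => if χ ∈ Finset.univ.image X then 0 else
    (mm (χ : G → ℂ) (th i₀) : ℤ) := ⟨_, rfl⟩
  have hγX : ∀ i, γ (X i) = 0 := by
    intro i
    rw [hγ]
    exact if_pos (Finset.mem_image_of_mem X (Finset.mem_univ i))
  have hγn : ∀ χ : IrrCharacter G, χ ≠ X i₀ → γ χ = mm (χ : G → ℂ) (th i₀) := by
    intro χ hχ
    rw [hγ]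
    simp only
    split_ifs with h1
    · obtain ⟨j, -, rfl⟩ := Finset.mem_image.mp h1
      rw [S.mul, if_neg]
      · rfl
      · rintro rfl; exact hχ rfl
    · rfl
  -- sums
  have hOO : ∀ F : IrrCharacter G → ℤ → ℤ, ∑ χ ∈ OO H, F χ (γ χ) + F (X i₀) 1 =
      ∑ χ ∈ OO H, F χ (mm (χ : G → ℂ) (th i₀)) + F (X i₀) 0 := by
    intro F
    rw [← Finset.add_sum_erase (OO H) _ (S.mem i₀), ← Finset.add_sum_erase (OO H) _ (S.mem i₀), hγX,
      S.mul i₀ i₀, if_pos rfl, Finset.sum_congr rfl (fun χ hχ => by rw [hγn χ (Finset.ne_of_mem_erase hχ)])]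
    push_cast
    ring
  have h1 := hOO (fun _ m => m ^ 2)
  have h2 := hOO (fun χ m => m * yy Z (χ : G → ℂ))
  have h3 := sum_mm D (S.rel i₀) (S.rel i₀) (d := 1) (d' := 1) (by rw [S.deg]; simp) (by rw [S.deg]; simp)
  rw [if_pos rfl] at h3
  have h4 := sum_yy_mm D hZH hZ hw hs (S.rel i₀) (S.deg i₀) (hthZ i₀)
  have h5 := sum_yy_sq D hZH hZ hw hs
  rw [hc] at h2
  have h6 : ∑ χ ∈ OO H, (mm (χ : G → ℂ) (th i₀) : ℤ) ^ 2 = ∑ χ ∈ OO H, (mm (χ : G → ℂ) (th i₀) : ℤ) *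
      mm (χ : G → ℂ) (th i₀) := Finset.sum_congr rfl (fun χ _ => by ring)
  have h7 : (e : ℤ) = 2 * s + 1 := by rw [hs]; push_cast; ring
  have h8 : ∑ χ ∈ OO H, γ χ ^ 2 = s := by
    rw [h6] at h1
    rw [h7] at h3
    push_cast at h3
    linarith
  have h9 : ∑ χ ∈ OO H, γ χ * yy Z (χ : G → ℂ) + c = (h - w : ℤ) * s := by
    rw [← h4]; linarith
  have h10 := ineq_aux (OO H) X S.inj S.mem γ (fun χ => yy Z (χ : G → ℂ)) hγX h8
    (fun i => (S.yy_eq D hZH hthZ i i₀).trans hc) h9 h5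
  nlinarith [h10, h7]

end INEQ

end Cfsg.Agent.H3.Feit
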