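import Cfsg.Statements.S0895
import Cfsg.Agent.H3_FS

set_option autoImplicit false
open Cfsg

namespace Cfsg.Agent.S0895

/-- Let χ be a real-valued irreducible character of a finite group G whose degree is an odd natural number. Then the average over s in G of χ (s * s) equals 1. -/
theorem result {G : Type*} [Group G] [Fintype G] (χ : G → ℂ) (hχ : Cfsg.IsIrrCharacter G χ) (hreal : ∀ g : G, (χ g).im = 0) (d : ℕ) (hd : χ 1 = d) (hodd : Odd d) : (Nat.card G : ℂ)⁻¹ * ∑ s : G, χ (s * s) = 1 := by
  classical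
  obtain ⟨n, σ, hσ, rfl⟩ := id hχ
  rcases Cfsg.Agent.H3.FS.indicator σ hχ with ⟨h0, hne⟩ | ⟨hre, c, B, hc, hB0, hBt, hinv, hν⟩
  · exfalso
    apply hne
    funext g
    exact (Complex.conj_eq_iff_im.mpr (hreal g)).symm
  · rw [hν]
    rcases hc with rfl | rfl
    · rfl
    exfalso
    have hn : d = n := by
      have : (σ.character 1) = n := by
        rw [Representation.char_one, Module.finrank_fin_fun]
      rw [this] at hd
      exact_mod_cast hd.symm
    subst hn
    have hdet : B.det = 0 := by
      have h1 : B.transpose.det = B.det := Matrix.det_transpose B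
      rw [hBt, Matrix.det_smul, Fintype.card_fin, hodd.neg_one_pow, neg_one_mul] at h1
      exact self_eq_neg.mp h1.symm
    rcases ((Cfsg.Agent.H3.CharIrr.irrep_iff σ).mp hσ).2 (LinearMap.range B.mulVecLin) (by
      rintro g _ ⟨w, rfl⟩
      refine ⟨Matrix.mulVec (Cfsg.Agent.H3.FS.mat σ g⁻¹).transpose w, ?_⟩
      have h2 : σ g (B.mulVecLin w) = Matrix.mulVec (Cfsg.Agent.H3.FS.mat σ g) (Matrix.mulVec B w) := by
        rw [Cfsg.Agent.H3.FS.mat, LinearMap.toMatrix'_mulVec]; rfl
      rw [h2, Matrix.mulVecLin_apply, Matrix.mulVec_mulVec, Matrix.mulVec_mulVec]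
      congr 1
      conv_lhs => rw [← hinv g]
      rw [mul_assoc, ← Matrix.transpose_mul, ← Cfsg.Agent.H3.FS.mat_mul, inv_mul_cancel, 
        Cfsg.Agent.H3.FS.mat_one, Matrix.transpose_one, mul_one]) with h | h
    · apply hB0
      have h3 := LinearMap.range_eq_bot.mp h
      ext i j
      have h4 := congrFun (congrArg (fun f : (Fin d → ℂ) →ₗ[ℂ] (Fin d → ℂ) => f (Pi.single j 1)) h3) i
      simpa using h4
    · have h3 : Function.Surjective B.mulVec := LinearMap.range_eq_top.mp h
      rw [Matrix.mulVec_surjective_iff_isUnit, Matrix.isUnit_iff_isUnit_det, hdet] at h3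
      exact not_isUnit_zero h3

end Cfsg.Agent.S0895
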