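import Mathlib
import Cfsg.Prelude.Def_Characters
import Cfsg.Agent.H3_Feit5
import Cfsg.Agent.S0161
import Cfsg.Agent.S0895

/-!
# Feit's theorem on Zassenhaus groups: divisibility, the abelian case
-/

set_option autoImplicit false

open scoped ComplexConjugate

namespace Cfsg.Agent.H3.Feit

open Cfsg Cfsg.Agent.H3.CharBasic Cfsg.Agent.H3.CharIrr Cfsg.Agent.H3.CharInt Cfsg.Agent.H3.CharCalc
  Cfsg.Agent.H3.CharComplete Cfsg.Agent.H3.CharInd Cfsg.Agent.H3.CharTI Cfsg.Agent.H3.CharMult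
  Cfsg.Agent.H3.Clifford

section Nonrel

variable {G : Type*} [Group G] [Fintype G] {B H : Subgroup G} {St : G → ℂ} {e h : ℕ}
  (D : FD B H St e h) [Fintype B] [Fintype H] [Fintype (IrrCharacter G)]

theorem nonrel_val {θ : B → ℂ} (hθ : IsIrrCharacter B θ) (hn : ¬ RelB B H θ) {u : G} (hu : u ∈ H)
    (huB : u ∈ B) : θ ⟨u, huB⟩ = θ 1 :=
  Cfsg.Agent.H3.CohTI.nonrel_const (H.subgroupOf B) hθ hn (k := ⟨u, huB⟩) hu

include D

/-- nonrelevant characters do not occur in characters of `OO` -/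
theorem mm_nonrel {X : IrrCharacter G} (hX : X ∈ OO H) {θ : B → ℂ} (hθ : IsIrrCharacter B θ)
    (hn : ¬ RelB B H θ) : mm (X : G → ℂ) θ = 0 := by
  classical
  by_contra hne
  have hpos : 1 ≤ mm (X : G → ℂ) θ := Nat.one_le_iff_ne_zero.mpr hne
  have h1 := IsChar.sub_constituent (IsChar.res (IsIrr.isCharacter X.2) B) hθ
    (mm_cast (IsIrr.isCharacter X.2) (IsIrr.isCharacter hθ)) hpos
  -- sums over `H`
  have h2 := mem_OO.mp hX
  rw [sH_eq] at h2
  have : Fintype (H.subgroupOf B) := Fintype.ofFinite _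
  obtain ⟨m, hm⟩ := ci_char_nat (IsChar.res h1 (H.subgroupOf B)) (IsChar.one (G := H.subgroupOf B))
  obtain ⟨d, hd, hd'⟩ := IsIrr.one_eq_nat hθ
  have h3 : ∑ x : H.subgroupOf B, ((X : G → ℂ) ((x : B) : G) - θ x) = (Nat.card (H.subgroupOf B) : ℂ) * m := by
    rw [← hm, classInner, mul_inv_cancel_left₀ (by exact_mod_cast Nat.card_pos.ne')]
    apply Finset.sum_congr rfl
    intro x _
    simp
  have h4 : ∑ x : H.subgroupOf B, ((X : G → ℂ) ((x : B) : G) - θ x) = ∑ u : H, (X : G → ℂ) u - h * d := by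
    rw [Finset.sum_sub_distrib]
    congr 1
    · exact Fintype.sum_equiv (Subgroup.subgroupOfEquivOfLe D.hHB).toEquiv _ _ (fun x => rfl)
    · rw [Finset.sum_congr rfl (g := fun _ => (d : ℂ)) (fun x _ => by
        have h8 : θ x = θ 1 := nonrel_val hθ hn x.2 x.1.2
        rw [← hd', ← h8]), Finset.sum_const, nsmul_eq_mul, Finset.card_univ, ← Nat.card_eq_fintype_card,
        Nat.card_congr (Subgroup.subgroupOfEquivOfLe D.hHB).toEquiv, D.cH]
  rw [h4, h2, zero_sub] at h3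
  have h5 : ((h * d + Nat.card (H.subgroupOf B) * m : ℕ) : ℂ) = 0 := by
    push_cast
    linear_combination -h3
  have h6 : h * d + Nat.card (H.subgroupOf B) * m = 0 := by exact_mod_cast h5
  have h7 : 0 < h * d := Nat.mul_pos (by have := D.h1; omega) hd
  omega

/-- the final contradiction -/
theorem small_degree {X : IrrCharacter G} (hX : X ∈ OO H) {θ : B → ℂ} (hθ : RelB B H θ) (hdeg : θ 1 = e)
    (hres : (fun x : B => (X : G → ℂ) x) = θ) : h ≤ 2 * e + 1 := by
  classical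
  obtain ⟨F, hF⟩ : ∃ F : G → ℂ, F = (X : G → ℂ) * (fun g => (starRingEnd ℂ) ((X : G → ℂ) g)) := ⟨_, rfl⟩
  have hFc : IsCharacter G F := by
    rw [hF]; exact IsChar.mul (IsIrr.isCharacter X.2) (IsChar.conj (IsIrr.isCharacter X.2))
  obtain ⟨m, hm, hFm⟩ := IsChar.eq_sum_nat hFc
  have hh : (h : ℂ) ≠ 0 := by have := D.h1; exact_mod_cast (by omega : h ≠ 0)
  have he : (e : ℂ) ≠ 0 := by have := D.e1; exact_mod_cast (by omega : e ≠ 0)
  have hX1 : (X : G → ℂ) 1 = e := by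
    rw [← hdeg, ← hres]; rfl
  -- multiplicity of the trivial character
  have hm1 : m (ione G) = 1 := by
    have h1 := hm (ione G)
    have h2 : classInner F ((ione G : IrrCharacter G) : G → ℂ) = classInner (X : G → ℂ) (X : G → ℂ) := by
      rw [hF, classInner, classInner]
      congr 1
      apply Finset.sum_congr rfl
      intro g _
      change (X : G → ℂ) g * (starRingEnd ℂ) ((X : G → ℂ) g) * (starRingEnd ℂ) 1 = _
      rw [map_one, mul_one]
    rw [h2, ci_irr_self X.2] at h1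
    exact_mod_cast h1.symm
  -- the degree
  have hdeg2 : ∑ ψ : IrrCharacter G, (m ψ : ℂ) * (ψ : G → ℂ) 1 = e ^ 2 := by
    have h1 := congrFun hFm 1
    rw [Finset.sum_apply] at h1
    have h2 : F 1 = e ^ 2 := by
      rw [hF]
      change (X : G → ℂ) 1 * (starRingEnd ℂ) ((X : G → ℂ) 1) = _
      rw [hX1, Complex.conj_natCast]; ring
    rw [← h2, h1]
    rfl
  -- sum over `H`
  have hsH : ∑ ψ : IrrCharacter G, (m ψ : ℂ) * sH H (ψ : G → ℂ) = h * e := by
    have h1 : sH H F = ∑ ψ : IrrCharacter G, (m ψ : ℂ) * sH H (ψ : G → ℂ) := by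
      rw [sH_eq]
      simp only [sH_eq, Finset.mul_sum]
      rw [Finset.sum_comm]
      apply Finset.sum_congr rfl
      intro u _
      have h2 := congrFun hFm (u : G)
      rw [Finset.sum_apply] at h2
      exact h2
    rw [← h1, sH_eq]
    have h3 := ci_irr_self hθ.1
    rw [classInner, sum_B_eq D (F := fun x : B => θ x * (starRingEnd ℂ) (θ x)) (fun x hx => by
      rw [hθ.vanish D x hx, zero_mul]), D.cB] at h3
    have h4 : ∑ u : H, F u = ∑ u : H, θ ⟨u, D.hHB u.2⟩ * (starRingEnd ℂ) (θ ⟨u, D.hHB u.2⟩) := by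
      apply Finset.sum_congr rfl
      intro u _
      rw [hF, ← hres]
      rfl
    rw [h4]
    have h5 : ((e * h : ℕ) : ℂ) ≠ 0 := by push_cast; exact mul_ne_zero he hh
    have h6 := (inv_mul_eq_one₀ h5).mp h3
    rw [← h6]; push_cast; ring
  rw [split D] at hdeg2 hsH
  have e1 : sH H ((ione G : IrrCharacter G) : G → ℂ) = h := sH_one D
  have e2 : sH H ((ist D : IrrCharacter G) : G → ℂ) = h := sH_St D
  have e3 : ∑ ψ ∈ LL H h, (m ψ : ℂ) * sH H (ψ : G → ℂ) = 2 * h * ∑ ψ ∈ LL H h, (m ψ : ℂ) := by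
    rw [Finset.mul_sum]
    apply Finset.sum_congr rfl
    intro ψ hψ
    rw [sH_LL D hψ]; ring
  have e4 : ∑ ψ ∈ OO H, (m ψ : ℂ) * sH H (ψ : G → ℂ) = 0 :=
    Finset.sum_eq_zero (fun ψ hψ => by rw [mem_OO.mp hψ, mul_zero])
  rw [e1, e2, e3, e4, hm1] at hsH
  have f1 : ((ione G : IrrCharacter G) : G → ℂ) 1 = 1 := rfl
  have f2 : ((ist D : IrrCharacter G) : G → ℂ) 1 = h := D.St_one
  have f3 : ∑ ψ ∈ LL H h, (m ψ : ℂ) * (ψ : G → ℂ) 1 = (h + 1) * ∑ ψ ∈ LL H h, (m ψ : ℂ) := by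
    rw [Finset.mul_sum]
    apply Finset.sum_congr rfl
    intro ψ hψ
    rw [(mem_LL.mp hψ).1]; ring
  obtain ⟨N, hN⟩ : ∃ N : ℕ, ∑ ψ ∈ OO H, (m ψ : ℂ) * (ψ : G → ℂ) 1 = N := by
    have h7 : ∀ ψ : IrrCharacter G, ∃ k : ℕ, (ψ : G → ℂ) 1 = k := fun ψ => by
      obtain ⟨k, -, hk⟩ := IsIrr.one_eq_nat ψ.2
      exact ⟨k, hk⟩
    choose k hk using h7
    refine ⟨∑ ψ ∈ OO H, m ψ * k ψ, ?_⟩
    push_cast
    exact Finset.sum_congr rfl (fun ψ _ => by rw [hk])
  rw [f1, f2, f3, hN, hm1] at hdeg2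
  obtain ⟨M, hM⟩ : ∃ M : ℕ, M = ∑ ψ ∈ LL H h, m ψ := ⟨_, rfl⟩
  have hM' : ∑ ψ ∈ LL H h, (m ψ : ℂ) = M := by rw [hM]; push_cast; rfl
  rw [hM'] at hsH hdeg2
  -- natural number equations
  have g1 : 1 + m (ist D) + 2 * M = e := by
    have : (h : ℂ) * ((1 + m (ist D) + 2 * M : ℕ) : ℂ) = h * e := by
      rw [← hsH]; push_cast; ring
    exact_mod_cast mul_left_cancel₀ hh this
  have g2 : 1 + m (ist D) * h + (h + 1) * M + N = e ^ 2 := by
    have : ((1 + m (ist D) * h + (h + 1) * M + N : ℕ) : ℂ) = ((e ^ 2 : ℕ) : ℂ) := by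
      push_cast
      rw [← hdeg2]; push_cast; ring
    exact_mod_cast this
  have g3 := D.e1
  have g4 := D.h1
  by_contra hcon
  push Not at hcon
  -- `2e² ≥ 2 + (h+1)(e-1)`
  have g5 : 2 + (h + 1) * (e - 1) ≤ 2 * e ^ 2 := by
    have : e - 1 = m (ist D) + 2 * M := by omega
    rw [this, ← g2]
    nlinarith
  obtain ⟨k, rfl⟩ : ∃ k, e = k + 1 := ⟨e - 1, by omega⟩
  simp only [Nat.add_sub_cancel] at g5
  have hk : 0 < k := by omega
  nlinarith

/-- existence of a nonreal relevant character in the abelian case -/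
theorem exists_nonreal (hab : ∀ a ∈ H, ∀ b ∈ H, a * b = b * a) (hbig : e + 1 < h)
    (hinv : Nat.card {u : H // u * u = 1} ≤ e + 1) :
    ∃ θ : B → ℂ, RelB B H θ ∧ θ ≠ (fun x => (starRingEnd ℂ) (θ x)) := by
  classical
  by_contra hcon
  push Not at hcon
  have hall : ∀ u : H, u * u = 1 := by
    intro u
    have hconj : IsConj (⟨u, D.hHB u.2⟩ : B) (⟨u, D.hHB u.2⟩ : B)⁻¹ := by
      by_contra hnc
      have : Fintype (IrrCharacter B) := Fintype.ofFinite _
      have h1 := orth2 (⟨u, D.hHB u.2⟩ : B) (⟨u, D.hHB u.2⟩ : B)⁻¹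
      have h2 := orth2 (⟨u, D.hHB u.2⟩ : B) (⟨u, D.hHB u.2⟩ : B)
      rw [if_neg hnc] at h1
      rw [if_pos (IsConj.refl _)] at h2
      have h3 : ∀ θ : IrrCharacter B, (θ : B → ℂ) (⟨u, D.hHB u.2⟩ : B)⁻¹ = (θ : B → ℂ) ⟨u, D.hHB u.2⟩ := by
        intro θ
        rw [IsChar.inv_eq_conj (IsIrr.isCharacter θ.2)]
        by_cases hr : RelB B H (θ : B → ℂ)
        · exact (congrFun (hcon θ hr) _).symm
        · rw [nonrel_val θ.2 hr u.2]
          exact IsChar.conj_one (IsIrr.isCharacter θ.2)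
      simp only [h3] at h1
      rw [h1] at h2
      have h4 : (Nat.card (Subgroup.centralizer ({(⟨u, D.hHB u.2⟩ : B)} : Set B)) : ℂ) ≠ 0 := by
        exact_mod_cast Nat.card_pos.ne'
      exact h4 h2.symm
    rw [isConj_iff] at hconj
    obtain ⟨b, hb⟩ := hconj
    by_cases hu1 : u = 1
    · rw [hu1]; simp
    have hu1' : (u : G) ≠ 1 := fun h1 => hu1 (Subtype.ext h1)
    have hb' : (b : G) * u * (b : G)⁻¹ = (u : G)⁻¹ := congrArg (fun x : B => (x : G)) hb
    have h5 : (b : G) * b * u = u * (b * b) := by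
      have h7 : (b : G) * u = (u : G)⁻¹ * b := by rw [← hb']; group
      have h9 : (b : G) * (u : G)⁻¹ * (b : G)⁻¹ = u := by
        calc (b : G) * (u : G)⁻¹ * (b : G)⁻¹ = ((b : G) * u * (b : G)⁻¹)⁻¹ := by group
          _ = u := by rw [hb', inv_inv]
      have h8 : (b : G) * (u : G)⁻¹ = u * b := mul_inv_eq_iff_eq_mul.mp h9
      rw [mul_assoc, h7, ← mul_assoc, h8, mul_assoc]
    have h6 : (b : G) ∈ H := mem_H_of_sq D (x := b) (D.cent u u.2 hu1' _ h5)
    have h7 := hab b h6 u u.2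
    rw [h7, mul_inv_cancel_right] at hb'
    apply Subtype.ext
    change (u : G) * u = 1
    nth_rw 2 [hb']
    exact mul_inv_cancel _
  have h1 : Nat.card {u : H // u * u = 1} = Nat.card H :=
    Nat.card_congr (Equiv.subtypeUnivEquiv hall)
  rw [h1, D.cH] at hinv
  omega

/-- relevant characters have degree `e` when `H` is abelian -/
theorem degree_abelian (hab : ∀ a ∈ H, ∀ b ∈ H, a * b = b * a) {θ : B → ℂ} (hθ : RelB B H θ) : θ 1 = e := by
  have : Fintype (H.subgroupOf B) := Fintype.ofFinite _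
  have := normal_sub D
  obtain ⟨ζ, hζ, -, rfl⟩ := Cfsg.Agent.H3.CohTI.rel_ind (H.subgroupOf B) (hC D) hθ
  have h1 : ζ 1 = 1 := IsIrr.one_of_comm (fun a b => by
    apply Subtype.ext; apply Subtype.ext
    exact hab _ a.2 _ b.2) hζ
  rw [ind_one, index_sub D, h1, mul_one]

/-- Case 1: `H` abelian -/
theorem case_abelian (hab : ∀ a ∈ H, ∀ b ∈ H, a * b = b * a)
    (hinv : Nat.card {u : H // u * u = 1} ≤ e + 1) : h ≤ 2 * e + 1 := by
  classical
  by_contra hcon
  push Not at hcon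
  obtain ⟨θ, hθ, hnr⟩ := exists_nonreal D hab (by omega) hinv
  have hθ' : NL B H e θ := ⟨hθ, degree_abelian D hab hθ, hnr⟩
  obtain ⟨X, hX⟩ := exists_isX D hθ'
  have hres : (fun x : B => (X : G → ℂ) x) = θ := by
    apply ext_inner (IsChar.isClass (IsChar.res (IsIrr.isCharacter X.2) B)) (IsIrr.isClass hθ.1)
    intro η hη
    rw [mm_cast (IsIrr.isCharacter X.2) (IsIrr.isCharacter hη), ci_irr hθ.1 hη]
    by_cases h1 : θ = η
    · rw [if_pos h1, ← h1, hX.one]; simp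
    · rw [if_neg h1]
      by_cases hr : RelB B H η
      · by_cases hre : η = fun x => (starRingEnd ℂ) (η x)
        · have hnz : nz η = 1 := by
            have h2 := Cfsg.Agent.S0895.result η hη (fun g => by
              have := congrFun hre g
              exact Complex.conj_eq_iff_im.mp this.symm) e (degree_abelian D hab hr) D.eodd
            have h3 : nu η = 1 := h2
            rw [nz_cast hη] at h3
            exact_mod_cast h3
          rw [real_zero D hr (degree_abelian D hab hr) hre hnz hX.mem ((nr_iff X).mp hX.nr)]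
          simp
        · rw [hX.sep D hθ' ⟨hr, degree_abelian D hab hr, hre⟩ h1]; simp
      · rw [mm_nonrel D hX.mem hη hr]; simp
  have := small_degree D hX.mem hθ hθ'.deg hres
  omega

end Nonrel

end Cfsg.Agent.H3.Feit
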