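import Mathlib
import Cfsg.Prelude.Def_Characters
import Cfsg.Agent.H3_Feit6

/-!
# Feit's theorem on Zassenhaus groups: divisibility
-/

set_option autoImplicit false

open scoped ComplexConjugate

namespace Cfsg.Agent.H3.Feit

open Cfsg Cfsg.Agent.H3.CharBasic Cfsg.Agent.H3.CharIrr Cfsg.Agent.H3.CharInt Cfsg.Agent.H3.CharCalc
  Cfsg.Agent.H3.CharComplete Cfsg.Agent.H3.CharInd Cfsg.Agent.H3.CharTI Cfsg.Agent.H3.CharMult
  Cfsg.Agent.H3.Clifford

section Div

variable {G : Type*} [Group G] [Fintype G] {B H : Subgroup G} {St : G → ℂ} {e h : ℕ}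
  (D : FD B H St e h) [Fintype B] [Fintype H] [Fintype (IrrCharacter G)]
  {Z : Subgroup G} [Fintype Z] (hZH : Z ≤ H) (hZ : ∀ b ∈ B, ∀ z ∈ Z, b * z * b⁻¹ ∈ Z)

/-- the contribution of `θ` to `yy` -/
noncomputable def tv (Z B : Subgroup G) (hZB : Z ≤ B) [Fintype Z] (θ : B → ℂ) : ℂ :=
  θ 1 - (Nat.card Z : ℂ)⁻¹ * ∑ z : Z, θ ⟨z, hZB z.2⟩

omit [Fintype G] [Fintype H] [Fintype (IrrCharacter G)] in
theorem tv_cases (hZB : Z ≤ B) (hZ : ∀ b ∈ B, ∀ z ∈ Z, b * z * b⁻¹ ∈ Z) {θ : B → ℂ} (hθ : IsIrrCharacter B θ) :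
    ((∀ z (hz : z ∈ Z), θ ⟨z, hZB hz⟩ = θ 1) ∧ tv Z B hZB θ = 0) ∨ tv Z B hZB θ = θ 1 := by
  classical
  have hn : (Z.subgroupOf B).Normal := by
    refine ⟨fun u hu b => ?_⟩
    rw [Subgroup.mem_subgroupOf] at *
    exact hZ b b.2 u hu
  have : Fintype (Z.subgroupOf B) := Fintype.ofFinite _
  have hsum : ∑ z : Z, θ ⟨z, hZB z.2⟩ = ∑ x : Z.subgroupOf B, θ x :=
    (Fintype.sum_equiv (Subgroup.subgroupOfEquivOfLe hZB).toEquiv _ _ (fun x => rfl)).symm
  have hcard : Nat.card (Z.subgroupOf B) = Nat.card Z := Nat.card_congr (Subgroup.subgroupOfEquivOfLe hZB).toEquiv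
  have hci : classInner (fun n : Z.subgroupOf B => θ n) (fun _ => 1) =
      (Nat.card Z : ℂ)⁻¹ * ∑ z : Z, θ ⟨z, hZB z.2⟩ := by
    rw [classInner, hsum, hcard]; simp
  by_cases hK : InKer (Z.subgroupOf B) θ
  · left
    have h1 : ∀ z (hz : z ∈ Z), θ ⟨z, hZB hz⟩ = θ 1 := by
      intro z hz
      have := hK ⟨z, hZB hz⟩ hz 1
      rwa [mul_one] at this
    refine ⟨h1, ?_⟩
    rw [tv, Finset.sum_congr rfl (fun (z : Z) _ => h1 z z.2), Finset.sum_const, nsmul_eq_mul, Finset.card_univ,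
      ← Nat.card_eq_fintype_card, inv_mul_cancel_left₀ (by exact_mod_cast Nat.card_pos.ne'), sub_self]
  · right
    have h2 : classInner (fun n : Z.subgroupOf B => θ n) (fun _ => 1) = 0 := by
      by_contra h3
      exact hK ((inKer_iff_inner hn hθ).mpr h3)
    rw [tv, ← hci, h2, sub_zero]

omit [Fintype H] [Fintype (IrrCharacter G)] in
include D hZH in
theorem yy_eq_sum [Fintype (IrrCharacter B)] {w : ℕ} (hw : w * Nat.card Z = h) {χ : G → ℂ} (hχ : IsCharacter G χ) :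
    (yy Z χ : ℂ) = ∑ θ : IrrCharacter B, (mm χ (θ : B → ℂ) : ℂ) *
      (starRingEnd ℂ) (conj (tv Z B (hZH.trans D.hHB) (θ : B → ℂ))) := by
  rw [← ci_phiY_res D hZH hw hχ, ci_eq_sum _ _ (IsChar.isClass (IsChar.res hχ B))]
  apply Finset.sum_congr rfl
  intro θ _
  rw [mm_cast hχ (IsIrr.isCharacter θ.2), ← ci_conj_symm (θ : B → ℂ), ci_phiY D hZH hw]
  rfl

end Div

/-- sum of squares of degrees of irreducible characters with `N` in the kernel -/
theorem sum_sq_ker {L : Type*} [Group L] [Fintype L] [Fintype (IrrCharacter L)] (N : Subgroup L) (hN : N.Normal)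
    [DecidablePred (fun θ : IrrCharacter L => ∀ n ∈ N, (θ : L → ℂ) n = (θ : L → ℂ) 1)] :
    ∑ θ ∈ Finset.univ.filter (fun θ : IrrCharacter L => ∀ n ∈ N, (θ : L → ℂ) n = (θ : L → ℂ) 1),
      ((θ : L → ℂ) 1) ^ 2 = (N.index : ℂ) := by
  classical
  have : Fintype N := Fintype.ofFinite _
  have hcN : (Nat.card N : ℂ) ≠ 0 := by exact_mod_cast Nat.card_pos.ne'
  have h1 : ∑ n : N, ∑ θ : IrrCharacter L, (θ : L → ℂ) n * (starRingEnd ℂ) ((θ : L → ℂ) 1) = Nat.card L := by
    rw [Finset.sum_eq_single (1 : N)]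
    · have h2 := orth2 ((1 : N) : L) 1
      rw [Subgroup.coe_one, if_pos (IsConj.refl _)] at h2
      rw [Subgroup.coe_one, h2]
      have h3 : Subgroup.centralizer ({(1 : L)} : Set L) = ⊤ := by
        rw [eq_top_iff]; intro x _
        rw [Subgroup.mem_centralizer_singleton_iff]; simp
      rw [h3, Subgroup.card_top]
    · intro n _ hn
      have h2 := orth2 (n : L) 1
      rw [if_neg] at h2
      · exact h2
      · intro h3
        apply hn
        apply Subtype.ext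
        exact (isConj_one_left.mp h3)
    · intro h; exact absurd (Finset.mem_univ _) h
  rw [Finset.sum_comm] at h1
  have h2 : ∀ θ : IrrCharacter L, ∑ n : N, (θ : L → ℂ) n * (starRingEnd ℂ) ((θ : L → ℂ) 1) =
      if (∀ n ∈ N, (θ : L → ℂ) n = (θ : L → ℂ) 1) then (Nat.card N : ℂ) * ((θ : L → ℂ) 1) ^ 2 else 0 := by
    intro θ
    rw [← Finset.sum_mul, IsChar.conj_one (IsIrr.isCharacter θ.2)]
    split_ifs with h3
    · rw [Finset.sum_congr rfl (fun (n : N) _ => h3 n n.2), Finset.sum_const, nsmul_eq_mul, Finset.card_univ,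
        ← Nat.card_eq_fintype_card]
      ring
    · have h4 : classInner (fun n : N => (θ : L → ℂ) n) (fun _ => 1) = 0 := by
        by_contra h5
        have h6 := (inKer_iff_inner hN θ.2).mpr h5
        apply h3
        intro n hn
        have := h6 n hn 1
        rwa [mul_one] at this
      rw [classInner] at h4
      have h5 := (mul_eq_zero.mp h4).resolve_left (inv_ne_zero hcN)
      simp only [map_one, mul_one] at h5
      rw [h5, zero_mul]
  rw [Finset.sum_congr rfl (fun θ _ => h2 θ), ← Finset.sum_filter, ← Finset.mul_sum, ← N.card_mul_index] at h1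
  push_cast at h1
  exact mul_left_cancel₀ hcN h1

end Cfsg.Agent.H3.Feit
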