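import Mathlib
import Cfsg.Prelude.Def_Characters
import Cfsg.Agent.H3_Feit7
import Cfsg.Agent.H3_Extraspecial

/-!
# Feit's theorem on Zassenhaus groups: counting relevant characters of degree `e`
-/

set_option autoImplicit false

open scoped ComplexConjugate

namespace Cfsg.Agent.H3.Feit

open Cfsg Cfsg.Agent.H3.CharBasic Cfsg.Agent.H3.CharIrr Cfsg.Agent.H3.CharInt Cfsg.Agent.H3.CharCalc
  Cfsg.Agent.H3.CharComplete Cfsg.Agent.H3.CharInd Cfsg.Agent.H3.CharTI Cfsg.Agent.H3.CharMult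
  Cfsg.Agent.H3.Clifford

theorem eq_of_sum_eq {ι : Type*} [Fintype ι] (f : ι → ℂ) {c : ℝ} (hf : ∀ i, ‖f i‖ ≤ c)
    (h : ∑ i, f i = Fintype.card ι * (c : ℂ)) (i : ι) : f i = c := by
  have h1 : ∑ j, (c - (f j).re) = 0 := by
    have h2 := congrArg Complex.re h
    rw [Complex.re_sum] at h2
    rw [Finset.sum_sub_distrib, h2, Finset.sum_const, nsmul_eq_mul, Finset.card_univ]
    simp
  have h3 : ∀ j ∈ Finset.univ, 0 ≤ c - (f j).re := fun j _ => by
    have := (Complex.re_le_norm (f j)).trans (hf j)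
    linarith
  have h4 := (Finset.sum_eq_zero_iff_of_nonneg h3).mp h1 i (Finset.mem_univ _)
  have h5 : (f i).re = c := by linarith
  have h6 : ‖f i‖ = c := le_antisymm (hf i) (h5 ▸ Complex.re_le_norm (f i))
  have h7 : (f i).im = 0 := by
    have h8 := Complex.sq_norm (f i)
    rw [Complex.normSq_apply, h6, h5] at h8
    nlinarith
  exact Complex.ext (by rw [h5]; simp) (by rw [h7]; simp)

/-- a character whose sum over a subgroup is maximal is constant on it -/
theorem const_of_sum {L : Type*} [Group L] [Finite L] {χ : L → ℂ} (h : IsCharacter L χ) (Z : Subgroup L) [Fintype Z]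
    (hs : ∑ z : Z, χ z = Nat.card Z * χ 1) (z : L) (hz : z ∈ Z) : χ z = χ 1 := by
  obtain ⟨n, hn⟩ := IsChar.one_eq_nat h
  have h1 : χ 1 = ((n : ℝ) : ℂ) := by rw [hn]; simp
  rw [h1]
  apply eq_of_sum_eq (fun z : Z => χ z) (c := n) _ _ ⟨z, hz⟩
  · intro i
    have := IsChar.norm_le h (i : L)
    rw [h1, Complex.ofReal_re] at this
    exact this
  · rw [hs, h1, Nat.card_eq_fintype_card]

theorem comm_le {G : Type*} [Group G] (H : Subgroup G) : ⁅H, H⁆ ≤ H :=
  Subgroup.commutator_le.mpr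
      (fun a ha b hb => H.mul_mem (H.mul_mem (H.mul_mem ha hb) (H.inv_mem ha)) (H.inv_mem hb))

section Main

variable {G : Type*} [Group G] [Fintype G] {B H : Subgroup G} {St : G → ℂ} {e h : ℕ}
  (D : FD B H St e h) [Fintype B] [Fintype H] [Fintype (IrrCharacter G)]

omit [Fintype G] [Fintype B] [Fintype H] [Fintype (IrrCharacter G)] in
theorem comm_mem_iff (hHB : H ≤ B) (n : H.subgroupOf B) :
    n ∈ commutator (H.subgroupOf B) ↔ ((n : B) : G) ∈ ⁅H, H⁆ := by
  obtain ⟨f, hf⟩ : ∃ f : H.subgroupOf B →* G, f = B.subtype.comp (H.subgroupOf B).subtype := ⟨_, rfl⟩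
  have hinj : Function.Injective f := by
    rw [hf]
    exact B.subtype_injective.comp (H.subgroupOf B).subtype_injective
  have h1 : (⊤ : Subgroup (H.subgroupOf B)).map f = H := by
    rw [hf, ← Subgroup.map_map, ← MonoidHom.range_eq_map, Subgroup.range_subtype,
      Subgroup.map_subgroupOf_eq_of_le hHB]
  have h2 : (commutator (H.subgroupOf B)).map f = ⁅H, H⁆ := by
    rw [commutator_def, Subgroup.map_commutator, h1]
  rw [← h2]
  constructor
  · intro hn
    exact ⟨n, hn, by rw [hf]; rfl⟩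
  · rintro ⟨m, hm, hmn⟩
    have : m = n := hinj (by rw [hmn, hf]; rfl)
    rwa [← this]

include D

omit [Fintype H] [Fintype (IrrCharacter G)] in
theorem ker_of_deg {θ : B → ℂ} (hθ : RelB B H θ) (hdeg : θ 1 = e) (x : B) (hx : (x : G) ∈ ⁅H, H⁆) : θ x = θ 1 := by
  have : Fintype (H.subgroupOf B) := Fintype.ofFinite _
  have hN := normal_sub D
  have he : (e : ℂ) ≠ 0 := by have := D.e1; exact_mod_cast (by omega : e ≠ 0)
  obtain ⟨ζ, hζ, -, rfl⟩ := Cfsg.Agent.H3.CohTI.rel_ind (H.subgroupOf B) (hC D) hθ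
  have h1 : ζ 1 = 1 := by
    rw [ind_one, index_sub D] at hdeg
    exact mul_left_cancel₀ he (by rw [hdeg, mul_one])
  have hxH : x ∈ H.subgroupOf B := by
    rw [Subgroup.mem_subgroupOf]
    exact comm_le H hx
  obtain ⟨n, hn⟩ : ∃ n : H.subgroupOf B, (n : B) = x := ⟨⟨x, hxH⟩, rfl⟩
  have hnc : n ∈ commutator (H.subgroupOf B) := (comm_mem_iff D.hHB n).mpr (by rw [hn]; exact hx)
  rw [← hn, ← Subgroup.coe_one (H.subgroupOf B), ind_res hN, ind_res hN]
  congr 1
  apply Finset.sum_congr rfl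
  intro y _
  have h2 : (cj hN y ζ) 1 = 1 := by rw [cj_apply_one, h1]
  exact Cfsg.Agent.H3.Extraspecial.commutator_of_one (cj_isChar hN y (IsIrr.isCharacter hζ)) h2 n hnc

omit [Fintype H] [Fintype (IrrCharacter G)] in
theorem deg_of_ker {θ : B → ℂ} (hθ : RelB B H θ) (hk : ∀ x : B, (x : G) ∈ ⁅H, H⁆ → θ x = θ 1) : θ 1 = e := by
  have : Fintype (H.subgroupOf B) := Fintype.ofFinite _
  have hN := normal_sub D
  obtain ⟨ζ, hζ, -, hθζ⟩ := Cfsg.Agent.H3.CohTI.rel_ind (H.subgroupOf B) (hC D) hθ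
  have h1 : ∀ n ∈ commutator (H.subgroupOf B), ζ n = ζ 1 := by
    intro n hn
    have h2 := hk n ((comm_mem_iff D.hHB n).mp hn)
    rw [hθζ, ← Subgroup.coe_one (H.subgroupOf B), ind_res hN, ind_res hN] at h2
    have hc : (Nat.card (H.subgroupOf B) : ℂ)⁻¹ ≠ 0 := inv_ne_zero (by exact_mod_cast Nat.card_pos.ne')
    have h3 := mul_left_cancel₀ hc h2
    obtain ⟨d, hd, hd'⟩ := IsIrr.one_eq_nat hζ
    have h5 : ∀ y : B, cj hN y ζ 1 = ((d : ℝ) : ℂ) := fun y => by rw [cj_apply_one, hd']; simp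
    rw [Finset.sum_congr rfl (fun (y : B) _ => h5 y), Finset.sum_const, nsmul_eq_mul, Finset.card_univ] at h3
    have h4 := eq_of_sum_eq (fun y : B => cj hN y ζ n) (c := d) (fun y => by
      have := IsChar.norm_le (cj_isChar hN y (IsIrr.isCharacter hζ)) n
      rw [h5, Complex.ofReal_re] at this
      exact this) h3 1
    simp only [cj_one] at h4
    rw [h4, hd']; simp
  have h2 := Cfsg.Agent.H3.Extraspecial.one_of_commutator hζ h1
  rw [hθζ, ind_one, index_sub D, h2, mul_one]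

omit [Fintype H] [Fintype (IrrCharacter G)] in
/-- counting relevant characters of degree `e` -/
theorem count_rel {M : Subgroup G} (hM1 : ⁅H, H⁆ ≤ M) (hM2 : M ≤ H) (hM : ∀ b ∈ B, ∀ z ∈ M, b * z * b⁻¹ ∈ M) {q : ℕ}
    (hq : q * Nat.card M = h) :
    Nat.card {θ : IrrCharacter B // RelB B H (θ : B → ℂ) ∧ (θ : B → ℂ) 1 = e ∧
      ∀ x : B, (x : G) ∈ M → (θ : B → ℂ) x = (θ : B → ℂ) 1} * e + 1 = q := by
  classical
  have : Fintype (IrrCharacter B) := Fintype.ofFinite _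
  have he : (e : ℂ) ≠ 0 := by have := D.e1; exact_mod_cast (by omega : e ≠ 0)
  have hn1 : (M.subgroupOf B).Normal := by
    refine ⟨fun u hu b => ?_⟩
    rw [Subgroup.mem_subgroupOf] at *
    exact hM b b.2 u hu
  have hn2 := normal_sub D
  have hi1 : (M.subgroupOf B).index = e * q := by
    have h1 := (M.subgroupOf B).card_mul_index
    rw [Nat.card_congr (Subgroup.subgroupOfEquivOfLe (hM2.trans D.hHB)).toEquiv, D.cB, ← hq] at h1
    have h2 : Nat.card M * (e * q) = e * (q * Nat.card M) := by ring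
    rw [← h2] at h1
    exact Nat.eq_of_mul_eq_mul_left Nat.card_pos h1
  have s1 := sum_sq_ker (M.subgroupOf B) hn1
  have s2 := sum_sq_ker (H.subgroupOf B) hn2
  rw [hi1] at s1
  rw [index_sub D] at s2
  obtain ⟨S, hS⟩ : ∃ S : Finset (IrrCharacter B), S = Finset.univ.filter (fun θ : IrrCharacter B =>
      RelB B H (θ : B → ℂ) ∧ (θ : B → ℂ) 1 = e ∧ ∀ x : B, (x : G) ∈ M → (θ : B → ℂ) x = (θ : B → ℂ) 1) := ⟨_, rfl⟩
  have hcard : Nat.card {θ : IrrCharacter B // RelB B H (θ : B → ℂ) ∧ (θ : B → ℂ) 1 = e ∧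
      ∀ x : B, (x : G) ∈ M → (θ : B → ℂ) x = (θ : B → ℂ) 1} = S.card := by
    rw [hS, Nat.card_eq_fintype_card, Fintype.card_subtype]
  rw [hcard]
  have hsplit : Finset.univ.filter (fun θ : IrrCharacter B => ∀ n ∈ M.subgroupOf B, (θ : B → ℂ) n = (θ : B → ℂ) 1) =
      Finset.univ.filter (fun θ : IrrCharacter B => ∀ n ∈ H.subgroupOf B, (θ : B → ℂ) n = (θ : B → ℂ) 1) ∪ S := by
    ext θ
    rw [hS]
    simp only [Finset.mem_filter, Finset.mem_univ, true_and, Finset.mem_union]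
    constructor
    · intro h1
      by_cases h2 : ∀ n ∈ H.subgroupOf B, (θ : B → ℂ) n = (θ : B → ℂ) 1
      · left; exact h2
      · right
        push Not at h2
        obtain ⟨n, hn, hne⟩ := h2
        have hr : RelB B H (θ : B → ℂ) := ⟨θ.2, n, hn, hne⟩
        exact ⟨hr, deg_of_ker D hr (fun x hx => h1 x (Subgroup.mem_subgroupOf.mpr (hM1 hx))),
          fun x hx => h1 x (Subgroup.mem_subgroupOf.mpr hx)⟩
    · rintro (h1 | h1)
      · intro n hn
        exact h1 n (Subgroup.mem_subgroupOf.mpr (hM2 (Subgroup.mem_subgroupOf.mp hn)))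
      · intro n hn
        exact h1.2.2 n (Subgroup.mem_subgroupOf.mp hn)
  have hdisj : Disjoint (Finset.univ.filter (fun θ : IrrCharacter B => ∀ n ∈ H.subgroupOf B,
      (θ : B → ℂ) n = (θ : B → ℂ) 1)) S := by
    rw [Finset.disjoint_left, hS]
    intro θ h1 h2
    simp only [Finset.mem_filter, Finset.mem_univ, true_and] at h1 h2
    obtain ⟨n, hn, hne⟩ := h2.1.2
    exact hne (h1 n hn)
  rw [hsplit, Finset.sum_union hdisj, s2] at s1
  have s3 : ∑ θ ∈ S, ((θ : B → ℂ) 1) ^ 2 = S.card * (e : ℂ) ^ 2 := by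
    rw [Finset.sum_congr rfl (g := fun _ => (e : ℂ) ^ 2) (fun θ hθ => by
      rw [hS] at hθ
      rw [(Finset.mem_filter.mp hθ).2.2.1]), Finset.sum_const, nsmul_eq_mul]
  rw [s3] at s1
  push_cast at s1
  have s4 : (e : ℂ) * (S.card * e + 1) = e * q := by linear_combination s1
  exact_mod_cast mul_left_cancel₀ he s4

omit [Fintype H] [Fintype (IrrCharacter G)] in
theorem count_all {q : ℕ} (hq : q * Nat.card (⁅H, H⁆ : Subgroup G) = h) :
    Nat.card {θ : IrrCharacter B // RelB B H (θ : B → ℂ) ∧ (θ : B → ℂ) 1 = e} * e + 1 = q := by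
  rw [← count_rel D (M := ⁅H, H⁆) le_rfl (comm_le H) (fun b hb z hz => ?_) hq]
  · congr 2
    apply Nat.card_congr
    exact Equiv.subtypeEquivRight (fun θ => ⟨fun h1 => ⟨h1.1, h1.2, fun x hx => ker_of_deg D h1.1 h1.2 x hx⟩,
      fun h1 => ⟨h1.1, h1.2.1⟩⟩)
  · have h1 : (⁅H, H⁆ : Subgroup G).map (MulAut.conj b).toMonoidHom = ⁅H, H⁆ := by
      rw [Subgroup.map_commutator]
      have h2 : H.map (MulAut.conj b).toMonoidHom = H := by
        apply le_antisymm
        · rintro _ ⟨u, hu, rfl⟩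
          exact D.hn b hb u hu
        · intro u hu
          refine ⟨b⁻¹ * u * b⁻¹⁻¹, D.hn _ (B.inv_mem hb) u hu, ?_⟩
          change b * (b⁻¹ * u * b⁻¹⁻¹) * b⁻¹ = u
          group
      rw [h2]
    rw [← h1]
    exact ⟨z, hz, rfl⟩

end Main

end Cfsg.Agent.H3.Feit
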