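import Mathlib
import Cfsg.Prelude.Def_Characters
import Cfsg.Agent.H3_Feit8

/-!
# Feit's theorem on Zassenhaus groups: properties of `yy`
-/

set_option autoImplicit false

open scoped ComplexConjugate

namespace Cfsg.Agent.H3.Feit

open Cfsg Cfsg.Agent.H3.CharBasic Cfsg.Agent.H3.CharIrr Cfsg.Agent.H3.CharInt Cfsg.Agent.H3.CharCalc
  Cfsg.Agent.H3.CharComplete Cfsg.Agent.H3.CharInd Cfsg.Agent.H3.CharTI Cfsg.Agent.H3.CharMult
  Cfsg.Agent.H3.Clifford

section Main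

variable {G : Type*} [Group G] [Fintype G] {B H : Subgroup G} {St : G → ℂ} {e h : ℕ}
  (D : FD B H St e h) [Fintype B] [Fintype H] [Fintype (IrrCharacter G)]
  {Z : Subgroup G} [Fintype Z] (hZH : Z ≤ H) (hZ : ∀ b ∈ B, ∀ z ∈ Z, b * z * b⁻¹ ∈ Z)
  {w : ℕ} (hw : w * Nat.card Z = h)

include D hZH hZ

omit [Fintype H] [Fintype (IrrCharacter G)] in
theorem exists_t [Fintype (IrrCharacter B)] (hw : w * Nat.card Z = h) : ∃ t : IrrCharacter B → ℕ,
    (∀ θ : IrrCharacter B, tv Z B (hZH.trans D.hHB) (θ : B → ℂ) = (e : ℂ) * t θ) ∧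
    (∀ θ, t θ ≠ 0 → RelB B H (θ : B → ℂ) ∧ (θ : B → ℂ) 1 = e * t θ ∧
      ¬ ∀ z (hz : z ∈ Z), (θ : B → ℂ) ⟨z, (hZH.trans D.hHB) hz⟩ = (θ : B → ℂ) 1) ∧
    (∀ χ : G → ℂ, IsCharacter G χ → yy Z χ = e * ∑ θ : IrrCharacter B, (mm χ (θ : B → ℂ) : ℤ) * t θ) := by
  classical
  have hex : ∀ θ : IrrCharacter B, ∃ t : ℕ, tv Z B (hZH.trans D.hHB) (θ : B → ℂ) = (e : ℂ) * t ∧
      (t ≠ 0 → RelB B H (θ : B → ℂ) ∧ (θ : B → ℂ) 1 = e * t ∧
      ¬ ∀ z (hz : z ∈ Z), (θ : B → ℂ) ⟨z, (hZH.trans D.hHB) hz⟩ = (θ : B → ℂ) 1) := by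
    intro θ
    rcases tv_cases (hZH.trans D.hHB) hZ θ.2 with h1 | h1
    · exact ⟨0, by rw [h1.2]; simp, fun h2 => absurd rfl h2⟩
    · by_cases h3 : ∀ z (hz : z ∈ Z), (θ : B → ℂ) ⟨z, (hZH.trans D.hHB) hz⟩ = (θ : B → ℂ) 1
      · exfalso
        have h4 : tv Z B (hZH.trans D.hHB) (θ : B → ℂ) = 0 := by
          rw [tv, Finset.sum_congr rfl (fun (z : Z) _ => h3 z z.2), Finset.sum_const, nsmul_eq_mul, Finset.card_univ,
            ← Nat.card_eq_fintype_card, inv_mul_cancel_left₀ (by exact_mod_cast Nat.card_pos.ne'), sub_self]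
        rw [h4] at h1
        exact IsIrr.one_ne_zero θ.2 h1.symm
      · have hr : RelB B H (θ : B → ℂ) := by
          push Not at h3
          obtain ⟨z, hz, hne⟩ := h3
          exact ⟨θ.2, ⟨z, (hZH.trans D.hHB) hz⟩, hZH hz, hne⟩
        obtain ⟨d, hd, hd'⟩ := hr.degree D
        exact ⟨d, by rw [h1, hd'], fun _ => ⟨hr, hd', h3⟩⟩
  choose t ht1 ht2 using hex
  refine ⟨t, ht1, ht2, fun χ hχ => ?_⟩
  have h1 := yy_eq_sum D hZH hw hχ
  have h2 : (yy Z χ : ℂ) = ((e * ∑ θ : IrrCharacter B, (mm χ (θ : B → ℂ) : ℤ) * t θ : ℤ) : ℂ) := by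
    rw [h1]
    push_cast
    rw [Finset.mul_sum]
    apply Finset.sum_congr rfl
    intro θ _
    rw [ht1]
    simp only [map_mul, Complex.conj_natCast]
    ring
  exact_mod_cast h2

omit [Fintype H] [Fintype (IrrCharacter G)] in
theorem yy_dvd (hw : w * Nat.card Z = h) {χ : G → ℂ} (hχ : IsCharacter G χ) : (e : ℤ) ∣ yy Z χ := by
  have : Fintype (IrrCharacter B) := Fintype.ofFinite _
  obtain ⟨t, -, -, ht⟩ := exists_t D hZH hZ hw
  rw [ht χ hχ]
  exact Dvd.intro _ rfl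

omit [Fintype H] [Fintype (IrrCharacter G)] in
theorem yy_nonneg (hw : w * Nat.card Z = h) {χ : G → ℂ} (hχ : IsCharacter G χ) : 0 ≤ yy Z χ := by
  have : Fintype (IrrCharacter B) := Fintype.ofFinite _
  obtain ⟨t, -, -, ht⟩ := exists_t D hZH hZ hw
  rw [ht χ hχ]
  positivity

omit [Fintype B] in
theorem yy_pos [Finite B] (hw : w * Nat.card Z = h) {χ : IrrCharacter G} (hχ : χ ∈ OO H) (hZ1 : Z ≠ ⊥) :
    0 < yy Z (χ : G → ℂ) := by
  have : Fintype B := Fintype.ofFinite _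
  have h1 := yy_nonneg D hZH hZ hw (IsIrr.isCharacter χ.2)
  rcases h1.lt_or_eq with h2 | h2
  · exact h2
  exfalso
  have h3 := yy_cast (Z := Z) (IsIrr.isCharacter χ.2)
  rw [← h2, yv] at h3
  have hc : (Nat.card Z : ℂ) ≠ 0 := by exact_mod_cast Nat.card_pos.ne'
  have h4 : ∑ z : Z, (χ : G → ℂ) z = Nat.card Z * (χ : G → ℂ) 1 := by
    have h5 : (χ : G → ℂ) 1 = (Nat.card Z : ℂ)⁻¹ * ∑ z : Z, (χ : G → ℂ) z := by
      have := sub_eq_zero.mp (h3.trans Int.cast_zero)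
      exact this
    rw [h5, mul_inv_cancel_left₀ hc]
  apply hZ1
  rw [eq_bot_iff]
  intro z hz
  rw [Subgroup.mem_bot]
  apply D.simple _ χ.2 _ z (const_of_sum (IsIrr.isCharacter χ.2) Z h4 z hz)
  intro h5
  have h6 := mem_OO.mp hχ
  rw [h5, sH_one D] at h6
  have := D.h1
  have h7 : h = 0 := by exact_mod_cast h6
  omega

end Main

section Odd

variable {G : Type*} [Group G] [Fintype G] {B H : Subgroup G} {St : G → ℂ} {e h : ℕ}
  (D : FD B H St e h) [Fintype B] [Fintype H] [Fintype (IrrCharacter G)]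
  {Z : Subgroup G} [Fintype Z] (hZH : Z ≤ H) (hZ : ∀ b ∈ B, ∀ z ∈ Z, b * z * b⁻¹ ∈ Z)
  {w : ℕ} (hw : w * Nat.card Z = h) (hodd : Odd (Nat.card B))

omit [Fintype H] [Fintype (IrrCharacter G)] in
/-- relevant characters of groups of odd order are nonreal -/
theorem nonreal_of_odd (hodd : Odd (Nat.card B)) {θ : B → ℂ} (hθ : RelB B H θ) :
    θ ≠ fun x => (starRingEnd ℂ) (θ x) := by
  intro h1
  have h2 := Cfsg.Agent.S0161.result hodd ⟨θ, hθ.1⟩ (fun g => Complex.conj_eq_iff_im.mp (congrFun h1 g).symm)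
  exact hθ.ne_one h2

omit [Fintype H] [Fintype (IrrCharacter G)] in
theorem nl_of_odd (hodd : Odd (Nat.card B)) {θ : B → ℂ} (hθ : RelB B H θ) (hdeg : θ 1 = e) : NL B H e θ :=
  ⟨hθ, hdeg, nonreal_of_odd hodd hθ⟩

include D hZH hZ hodd

/-- `yy` is even in the odd case -/
theorem yy_even (hw : w * Nat.card Z = h) {θ : B → ℂ} (hθ : NL B H e θ) {X : IrrCharacter G} (hX : IsX (H := H) X θ)
    (hθZ : ∀ z (hz : z ∈ Z), θ ⟨z, D.hHB (hZH hz)⟩ = θ 1) : (2 : ℤ) ∣ yy Z (X : G → ℂ) := by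
  classical
  have : Fintype (IrrCharacter B) := Fintype.ofFinite _
  obtain ⟨t, ht1, ht2, ht3⟩ := exists_t D hZH hZ hw
  rw [ht3 _ (IsIrr.isCharacter X.2)]
  apply Dvd.dvd.mul_left
  have key : ((∑ η : IrrCharacter B, (mm (X : G → ℂ) (η : B → ℂ) : ℤ) * t η : ℤ) : ZMod 2) = 0 := by
    push_cast
    have htc : ∀ η : IrrCharacter B, t (cX η) = t η := by
      intro η
      have h1 := ht1 (cX η)
      have h2 : tv Z B (hZH.trans D.hHB) ((cX η : IrrCharacter B) : B → ℂ) =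
          (starRingEnd ℂ) (tv Z B (hZH.trans D.hHB) (η : B → ℂ)) := by
        rw [tv, tv, map_sub, map_mul, map_sum, map_inv₀, Complex.conj_natCast]
        rfl
      rw [h2, ht1 η, map_mul, Complex.conj_natCast, Complex.conj_natCast] at h1
      have he : (e : ℂ) ≠ 0 := by have := D.e1; exact_mod_cast (by omega : e ≠ 0)
      exact_mod_cast (mul_left_cancel₀ he h1).symm
    have hmm : ∀ η : IrrCharacter B, ((mm (X : G → ℂ) ((cX η : IrrCharacter B) : B → ℂ) : ℕ) : ZMod 2) * t (cX η) =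
        (mm (X : G → ℂ) (η : B → ℂ) : ZMod 2) * t η := by
      intro η
      rw [htc]
      by_cases h0 : t η = 0
      · rw [h0]; simp
      obtain ⟨hr, -, hk⟩ := ht2 η h0
      have h1 : mm (X : G → ℂ) ((cX η : IrrCharacter B) : B → ℂ) = mm (X : G → ℂ) (η : B → ℂ) := by
        rw [cX_coe, ← mm_cX' (IsIrr.isCharacter η.2) X]
        symm
        apply hX.eq_conj D hθ hr
        · intro h2
          apply hk
          rw [← h2]
          exact hθZ
        · intro h2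
          apply hk
          rw [← h2]
          intro z hz
          exact congrArg (starRingEnd ℂ) (hθZ z hz)
      rw [h1]
    apply Finset.sum_involution (fun η _ => cX η)
    · intro η _
      rw [hmm η, ← two_mul]
      have : (2 : ZMod 2) = 0 := rfl
      rw [this, zero_mul]
    · intro η _ hne heq
      have h0 : t η ≠ 0 := by
        intro h1
        apply hne
        rw [h1]; simp
      obtain ⟨hr, -, -⟩ := ht2 η h0
      exact nonreal_of_odd hodd hr (congrArg Subtype.val heq).symm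
    · intro η _; exact cX_cX η
    · intro η _; exact Finset.mem_univ _
  exact (ZMod.intCast_zmod_eq_zero_iff_dvd _ 2).mp key

end Odd

end Cfsg.Agent.H3.Feit
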