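import Mathlib
import Cfsg.Prelude.Def_Characters
import Cfsg.Agent.H3_Feit9

/-!
# Feit's theorem on Zassenhaus groups: the case of a nonabelian kernel of odd order
-/

set_option autoImplicit false

open scoped ComplexConjugate

namespace Cfsg.Agent.H3.Feit

open Cfsg Cfsg.Agent.H3.CharBasic Cfsg.Agent.H3.CharIrr Cfsg.Agent.H3.CharInt Cfsg.Agent.H3.CharCalc
  Cfsg.Agent.H3.CharComplete Cfsg.Agent.H3.CharInd Cfsg.Agent.H3.CharTI Cfsg.Agent.H3.CharMult
  Cfsg.Agent.H3.Clifford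

theorem num_odd (s n w z q e c : ℤ) (hs : e = 2 * s + 1) (hn : n * e + 1 = q) (hs0 : 1 ≤ s) (hn0 : 0 ≤ n)
    (hw : 1 ≤ w) (hz : 1 ≤ z) (hzq : z ≤ q) (hqw : q ≤ w) (hc : 2 * e * w ≤ c)
    (hI : c ^ 2 * (s * n + 1) ≤ s * (w * z - w) * (e + 2 * c)) : False := by
  have he : 3 ≤ e := by linarith
  have hew : 0 < e * w := by positivity
  have hc0 : 0 < c := by nlinarith
  have hsn : 0 < s * n + 1 := by positivity
  have h1 : 2 * e * w * (c * (s * n + 1)) ≤ c * (c * (s * n + 1)) :=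
    mul_le_mul_of_nonneg_right hc (by positivity)
  have h2 : w * (2 * e * c * (s * n + 1)) ≤ w * (s * (z - 1) * (e + 2 * c)) := by
    calc w * (2 * e * c * (s * n + 1)) = 2 * e * w * (c * (s * n + 1)) := by ring
      _ ≤ c * (c * (s * n + 1)) := h1
      _ = c ^ 2 * (s * n + 1) := by ring
      _ ≤ s * (w * z - w) * (e + 2 * c) := hI
      _ = w * (s * (z - 1) * (e + 2 * c)) := by ring
  have h3 : 2 * e * c * (s * n + 1) ≤ s * (z - 1) * (e + 2 * c) := le_of_mul_le_mul_left h2 (by linarith)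
  have h4 : 2 * e * c * (s * n + 1) = 2 * c * (s * (q - 1) + e) := by
    have : q - 1 = n * e := by linarith
    rw [this]; ring
  rw [h4] at h3
  have h5 : s * (z - 1) * (2 * c) ≤ s * (q - 1) * (2 * c) := by
    apply mul_le_mul_of_nonneg_right _ (by positivity)
    exact mul_le_mul_of_nonneg_left (by linarith) (by linarith)
  have h6 : e * (2 * c) ≤ e * (s * (z - 1)) := by nlinarith
  have h7 : 2 * c ≤ s * (z - 1) := le_of_mul_le_mul_left h6 (by linarith)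
  have h8 : s * (z - 1) ≤ s * w := mul_le_mul_of_nonneg_left (by linarith) (by linarith)
  have h9 : s * w ≤ e * w := mul_le_mul_of_nonneg_right (by linarith) (by linarith)
  nlinarith

section Odd

variable {G : Type*} [Group G] [Fintype G] {B H : Subgroup G} {St : G → ℂ} {e h : ℕ}
  (D : FD B H St e h) [Fintype B] [Fintype H] [Fintype (IrrCharacter G)]
  {Z : Subgroup G} [Fintype Z] (hZH : Z ≤ H) (hZ : ∀ b ∈ B, ∀ z ∈ Z, b * z * b⁻¹ ∈ Z)
  {w : ℕ} (hw : w * Nat.card Z = h) (hodd : Odd (Nat.card B))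

theorem IsX.conj {θ : B → ℂ} (hθ : NL B H e θ) {X : IrrCharacter G} (hX : IsX (H := H) X θ) :
    IsX (H := H) (cX X) (fun x => (starRingEnd ℂ) (θ x)) := by
  refine ⟨cX_mem hX.mem, ?_, ?_, ?_⟩
  · rw [cX_cX]; exact hX.nr.symm
  · rw [mm_cX (IsIrr.isCharacter hθ.rel.1)]; exact hX.one
  · intro χ hχ hnr hne
    rw [← mm_cX' (IsIrr.isCharacter hθ.rel.1)]
    apply hX.zero _ (cX_mem hχ)
    · rw [cX_cX]; exact hnr.symm
    · intro h1
      apply hne
      rw [← h1, cX_cX]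

include D in
theorem real_on {θ : B → ℂ} (hθ : NL B H e θ) {X : IrrCharacter G} (hX : IsX (H := H) X θ) {u : G} (hu : u ∈ H)
    (hθu : θ ⟨u, D.hHB hu⟩ = θ 1) : (X : G → ℂ) u⁻¹ = (X : G → ℂ) u := by
  classical
  have S : SF B H e (fun b : Bool => if b then θ else fun x => (starRingEnd ℂ) (θ x))
      (fun b : Bool => if b then X else cX X) := by
    apply sf_of_nl D
    · intro a b hab
      cases a <;> cases b <;> simp only [Bool.false_eq_true, if_true, if_false] at hab ⊢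
      · exact absurd hab.symm hθ.nr
      · exact absurd hab hθ.nr
    · intro b
      cases b
      · exact hθ.conj
      · exact hθ
    · intro b
      cases b
      · exact hX.conj hθ
      · exact hX
  have h1 := S.val D true false hu
  simp only [Bool.false_eq_true, if_true, if_false] at h1
  have h2 : (starRingEnd ℂ) (θ 1) = θ 1 := by rw [hθ.deg, Complex.conj_natCast]
  rw [hθu, h2, sub_self, cX_coe] at h1
  rw [IsChar.inv_eq_conj (IsIrr.isCharacter X.2)]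
  exact (sub_eq_zero.mp h1).symm

include D hZH hZ hodd

theorem w_dvd (hw : w * Nat.card Z = h) {θ : B → ℂ} (hθ : NL B H e θ) {X : IrrCharacter G} (hX : IsX (H := H) X θ)
    (hZc : ∀ z ∈ Z, ∀ u ∈ H, u * z = z * u)
    (hθZ : ∀ z (hz : z ∈ Z), θ ⟨z, D.hHB (hZH hz)⟩ = θ 1) : (w : ℤ) ∣ yy Z (X : G → ℂ) := by
  obtain ⟨α, hα, h1⟩ := rel_odd D.hHB D.ti D.cent hodd X.2 Z hZH hZ hZc
    (fun z hz => real_on D hθ hX (hZH hz) (hθZ z hz))
  have hh := D.h1
  have hw0 : w ≠ 0 := by rintro rfl; omega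
  apply dvd_of_mul_integral hw0 hα
  have hc : (Nat.card Z : ℂ) ≠ 0 := by exact_mod_cast Nat.card_pos.ne'
  rw [← yy_cast (IsIrr.isCharacter X.2), yv]
  apply mul_left_cancel₀ hc
  rw [D.cH, ← hw] at h1
  push_cast at h1
  rw [mul_sub, mul_inv_cancel_left₀ hc, h1]
  ring

/-- Case 2: `H` nonabelian of odd order -/
theorem case_odd (hw : w * Nat.card Z = h) (hZc : ∀ z ∈ Z, ∀ u ∈ H, u * z = z * u) (hZ1 : Z ≠ ⊥)
    (hZH' : Z ≤ ⁅H, H⁆) {q : ℕ} (hq : q * Nat.card (⁅H, H⁆ : Subgroup G) = h) (hZq : Nat.card Z ≤ q)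
    (hcop : e.Coprime h) : False := by
  classical
  have : Fintype (IrrCharacter B) := Fintype.ofFinite _
  have hh := D.h1
  have he := D.e1
  have hw0 : w ≠ 0 := by rintro rfl; omega
  have hn := count_all D hq
  obtain ⟨s, hs⟩ := D.eodd
  obtain ⟨n, hn'⟩ : ∃ n, n = Nat.card {θ : IrrCharacter B // RelB B H (θ : B → ℂ) ∧ (θ : B → ℂ) 1 = e} := ⟨_, rfl⟩
  rw [← hn'] at hn
  have hZ2 : 2 ≤ Nat.card Z := by
    have h1 : 1 < Nat.card Z := by
      rw [Subgroup.one_lt_card_iff_ne_bot]; exact hZ1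
    omega
  have hn0 : n ≠ 0 := by
    rintro h0
    rw [h0] at hn
    omega
  -- the family
  choose X hX using fun θ : {θ : IrrCharacter B // RelB B H (θ : B → ℂ) ∧ (θ : B → ℂ) 1 = e} =>
    exists_isX D (nl_of_odd hodd θ.2.1 θ.2.2)
  have S : SF B H e (fun θ : {θ : IrrCharacter B // RelB B H (θ : B → ℂ) ∧ (θ : B → ℂ) 1 = e} =>
      ((θ : IrrCharacter B) : B → ℂ)) X := by
    apply sf_of_nl D
    · intro a b hab
      exact Subtype.ext (Subtype.ext hab)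
    · intro θ
      exact nl_of_odd hodd θ.2.1 θ.2.2
    · exact hX
  have hker : ∀ θ : {θ : IrrCharacter B // RelB B H (θ : B → ℂ) ∧ (θ : B → ℂ) 1 = e}, ∀ z (hz : z ∈ Z),
      ((θ : IrrCharacter B) : B → ℂ) ⟨z, D.hHB (hZH hz)⟩ = ((θ : IrrCharacter B) : B → ℂ) 1 := fun θ z hz =>
    ker_of_deg D θ.2.1 θ.2.2 _ (hZH' hz)
  obtain ⟨θ₀⟩ : Nonempty {θ : IrrCharacter B // RelB B H (θ : B → ℂ) ∧ (θ : B → ℂ) 1 = e} := by
    rw [hn'] at hn0
    exact (Nat.card_ne_zero.mp hn0).1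
  obtain ⟨c, hc⟩ : ∃ c : ℤ, yy Z (X θ₀ : G → ℂ) = c := ⟨_, rfl⟩
  have hI := S.ineq D hZH hZ hw (fun i z hz => by rw [hker i z hz, i.2.2]) hs θ₀ hc
  have hc0 : 0 < c := by rw [← hc]; exact yy_pos D hZH hZ hw (S.mem θ₀) hZ1
  have d1 : (e : ℤ) ∣ c := by rw [← hc]; exact yy_dvd D hZH hZ hw (IsIrr.isCharacter (X θ₀).2)
  have d2 : (2 : ℤ) ∣ c := by
    rw [← hc]; exact yy_even D hZH hZ hodd hw (nl_of_odd hodd θ₀.2.1 θ₀.2.2) (hX θ₀) (hker θ₀)
  have d3 : (w : ℤ) ∣ c := by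
    rw [← hc]; exact w_dvd D hZH hZ hodd hw (nl_of_odd hodd θ₀.2.1 θ₀.2.2) (hX θ₀) hZc (hker θ₀)
  obtain ⟨c', rfl⟩ := Int.eq_ofNat_of_zero_le hc0.le
  have d1' : e ∣ c' := by exact_mod_cast d1
  have d2' : 2 ∣ c' := by exact_mod_cast d2
  have d3' : w ∣ c' := by exact_mod_cast d3
  have hwh : w ∣ h := ⟨_, hw.symm⟩
  have hoddw : Odd w := by
    rw [D.cB] at hodd
    exact (Nat.odd_mul.mp hodd).2.of_dvd_nat hwh
  have d4 : e * w ∣ c' := Nat.Coprime.mul_dvd_of_dvd_of_dvd (Nat.Coprime.coprime_dvd_right hwh hcop) d1' d3'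
  have d5 : 2 * (e * w) ∣ c' := Nat.Coprime.mul_dvd_of_dvd_of_dvd
    (Nat.coprime_two_left.mpr (Nat.odd_mul.mpr ⟨D.eodd, hoddw⟩)) d2' d4
  have hc0' : 0 < c' := by exact_mod_cast hc0
  have d6 := Nat.le_of_dvd hc0' d5
  have hqw : q ≤ w := by
    have h1 : Nat.card Z ≤ Nat.card (⁅H, H⁆ : Subgroup G) := Subgroup.card_le_of_le hZH'
    by_contra hcon
    push Not at hcon
    have h2 : w * Nat.card Z < q * Nat.card (⁅H, H⁆ : Subgroup G) := by
      calc w * Nat.card Z ≤ w * Nat.card (⁅H, H⁆ : Subgroup G) := Nat.mul_le_mul_left _ h1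
        _ < q * Nat.card (⁅H, H⁆ : Subgroup G) := Nat.mul_lt_mul_of_pos_right hcon Nat.card_pos
    omega
  have hcard : Fintype.card {θ : IrrCharacter B // RelB B H (θ : B → ℂ) ∧ (θ : B → ℂ) 1 = e} = n := by
    rw [hn', Nat.card_eq_fintype_card]
  rw [hcard, ← hw] at hI
  refine num_odd s n w (Nat.card Z) q e c' (by rw [hs]; push_cast; ring) (by exact_mod_cast hn) (by omega) (by positivity)
    (by omega) (by omega) (by exact_mod_cast hZq) (by exact_mod_cast hqw) ?_ ?_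
  · have : 2 * e * w ≤ c' := by rw [mul_assoc]; exact d6
    exact_mod_cast this
  · push_cast at hI
    exact hI

end Odd

end Cfsg.Agent.H3.Feit
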