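import Mathlib
import Cfsg.Prelude.Def_Characters
import Cfsg.Agent.H3_Feit10
import Cfsg.Agent.H3_Isom

/-!
# Feit's theorem on Zassenhaus groups: many characters of degree `e`
-/

set_option autoImplicit false

open scoped ComplexConjugate

namespace Cfsg.Agent.H3.Feit

open Cfsg Cfsg.Agent.H3.CharBasic Cfsg.Agent.H3.CharIrr Cfsg.Agent.H3.CharInt Cfsg.Agent.H3.CharCalc
  Cfsg.Agent.H3.CharComplete Cfsg.Agent.H3.CharInd Cfsg.Agent.H3.CharTI Cfsg.Agent.H3.CharMult
  Cfsg.Agent.H3.Clifford Cfsg.Agent.H3.Isom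

section Card

variable {G : Type*} [Group G] [Fintype G] {B H : Subgroup G} {St : G → ℂ} {e h : ℕ}
  (D : FD B H St e h) [Fintype B] [Fintype H] [Fintype (IrrCharacter G)]

include D

omit [Fintype (IrrCharacter G)] in
theorem outside_eq {χ : G → ℂ} (hχ : IsIrrCharacter G χ) (hO : sH H χ ≠ 0) {θ : B → ℂ} (hθ : RelB B H θ)
    (hdeg : θ 1 = e) : classInner θ (fun x : B => χ x) = if χ = (fun _ => 1) then 0 else 1 := by
  have : Fintype (IrrCharacter G) := Fintype.ofFinite _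
  classical
  have he : (e : ℂ) ≠ 0 := by have := D.e1; exact_mod_cast (by omega : e ≠ 0)
  rw [← ci_conj_symm]
  by_cases h3 : χ = fun _ => 1
  · rw [if_pos h3, h3, ← map_zero (starRingEnd ℂ)]
    congr 1
    exact ci_one' D (hθ.vanish D) hθ.sum
  · rw [if_neg h3]
    have h4 : classInner (fun x : B => χ x) θ = (starRingEnd ℂ) (θ 1) / e := by
      rcases D.tri χ hχ hO with h5 | h5 | h5
      · exact absurd h5 h3
      · rw [h5]; exact ci_St' D (hθ.vanish D) hθ.sum
      · exact ci_LL' D (hθ.vanish D) hθ.sum (χ := ⟨χ, hχ⟩) (mem_LL.mpr h5)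
    rw [h4, hdeg, Complex.conj_natCast, div_self he, map_one]

variable {ι : Type*} [Fintype ι] [DecidableEq ι] {th : ι → B → ℂ}

theorem sf_of_card (hinj : Function.Injective th) (hrel : ∀ i, RelB B H (th i)) (hdeg : ∀ i, th i 1 = e) {s : ℕ}
    (hs : e = 2 * s + 1) (hcard : s + 2 < Fintype.card ι) : ∃ X : ι → IrrCharacter G, SF B H e th X := by
  classical
  have hpos : 0 < Fintype.card ι := by omega
  obtain ⟨i₀⟩ := Fintype.card_pos_iff.mp hpos
  obtain ⟨τ, hτ⟩ : ∃ τ : ι → G → ℂ, τ = fun i => indFun B (th i) - indFun B (th i₀) := ⟨_, rfl⟩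
  have hirr : ∀ i, IsIrrCharacter B (th i) := fun i => (hrel i).1
  have hin : ∀ i j, classInner (τ i) (τ j) = (if i = j then 1 else 0) - (if i = i₀ then 1 else 0) -
      (if i₀ = j then 1 else 0) + 1 := by
    intro i j
    rw [hτ]
    simp only
    rw [← ind_sub, ← ind_sub, ind_inner D (isClass_sub _ _ (IsIrr.isClass (hirr j)) (IsIrr.isClass (hirr i₀)))
      (fun x hx => by rw [Pi.sub_apply, (hrel i).vanish D x hx, (hrel i₀).vanish D x hx, sub_zero])
      (fun x hx => by rw [Pi.sub_apply, (hrel j).vanish D x hx, (hrel i₀).vanish D x hx, sub_zero]),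
      Pi.sub_apply, hdeg, hdeg, sub_self, zero_mul, zero_div, add_zero, ci_diff (hirr i) (hirr i₀) (hirr j) (hirr i₀)]
    have e1 : (if th i = th j then (1 : ℂ) else 0) = if i = j then 1 else 0 := by
      by_cases h : i = j
      · rw [if_pos h, if_pos (by rw [h])]
      · rw [if_neg h, if_neg (fun h1 => h (hinj h1))]
    have e2 : (if th i = th i₀ then (1 : ℂ) else 0) = if i = i₀ then 1 else 0 := by
      by_cases h : i = i₀
      · rw [if_pos h, if_pos (by rw [h])]
      · rw [if_neg h, if_neg (fun h1 => h (hinj h1))]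
    have e3 : (if th i₀ = th j then (1 : ℂ) else 0) = if i₀ = j then 1 else 0 := by
      by_cases h : i₀ = j
      · rw [if_pos h, if_pos (by rw [h])]
      · rw [if_neg h, if_neg (fun h1 => h (hinj h1))]
    rw [e1, e2, e3, if_pos rfl]
  obtain ⟨ε, hε, μ, hμ, hμinj, hμτ⟩ := isometry_lemma i₀ τ (by rw [hτ]; simp)
    (fun i => by
      rw [hτ]
      exact IsGen.sub (IsGen.of_char (IsChar.ind (IsIrr.isCharacter (hirr i))))
        (IsGen.of_char (IsChar.ind (IsIrr.isCharacter (hirr i₀)))))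
    (fun i => by
      rw [hτ]
      simp only [Pi.sub_apply]
      rw [ind_one, ind_one, hdeg, hdeg, sub_self])
    (fun i hi => by
      rw [hin, if_pos rfl, if_neg hi, if_neg (fun h => hi h.symm)]; norm_num)
    (fun i j hi hj hij => by
      rw [hin, if_neg hij, if_neg hi, if_neg (fun h => hj h.symm)]; norm_num)
  obtain ⟨z, hz, hεz⟩ : ∃ z : ℤ, z * z = 1 ∧ ε = z := by
    rcases hε with h | h
    · exact ⟨1, by norm_num, by rw [h]; simp⟩
    · exact ⟨-1, by norm_num, by rw [h]; simp⟩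
  have hz0 : z ≠ 0 := by rintro rfl; norm_num at hz
  obtain ⟨X, hX⟩ : ∃ X : ι → IrrCharacter G, ∀ i, (X i : G → ℂ) = μ i := ⟨fun i => ⟨μ i, hμ i⟩, fun i => rfl⟩
  have hXinj : Function.Injective X := by
    intro i j hij
    apply hμinj
    rw [← hX, ← hX, hij]
  have hfrob : ∀ i (χ : IrrCharacter G), classInner (th i) (fun x : B => (χ : G → ℂ) x) -
      classInner (th i₀) (fun x : B => (χ : G → ℂ) x) =
      (z : ℂ) * ((if X i = χ then 1 else 0) - (if X i₀ = χ then 1 else 0)) := by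
    intro i χ
    rw [← frobenius B _ _ (IsIrr.isClass χ.2), ← frobenius B _ _ (IsIrr.isClass χ.2), ← ci_sub_left]
    have h1 : indFun B (th i) - indFun B (th i₀) = ε • (μ i - μ i₀) := by rw [← hμτ, hτ]
    rw [h1, ci_smul_left, ci_sub_left, ci_irr (hμ i) χ.2, ci_irr (hμ i₀) χ.2, hεz]
    have e1 : ∀ k, (if μ k = (χ : G → ℂ) then (1 : ℂ) else 0) = if X k = χ then 1 else 0 := by
      intro k
      by_cases h : X k = χ
      · rw [if_pos h, if_pos (by rw [← hX, h])]
      · rw [if_neg h, if_neg (fun h1 => h (Subtype.ext (by rw [hX, h1])))]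
    rw [e1, e1]
  have hout : ∀ χ : IrrCharacter G, χ ∉ OO H → ∀ i, (if X i = χ then (1 : ℂ) else 0) = if X i₀ = χ then 1 else 0 := by
    intro χ hχ i
    have h2 : sH H (χ : G → ℂ) ≠ 0 := fun h3 => hχ (mem_OO.mpr h3)
    have h1 := hfrob i χ
    rw [outside_eq D χ.2 h2 (hrel i) (hdeg i), outside_eq D χ.2 h2 (hrel i₀) (hdeg i₀), sub_self] at h1
    have hz0' : (z : ℂ) ≠ 0 := by exact_mod_cast hz0
    exact sub_eq_zero.mp ((mul_eq_zero.mp h1.symm).resolve_left hz0')
  obtain ⟨j₀, hj₀⟩ : ∃ j₀, j₀ ≠ i₀ := by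
    have : 1 < Fintype.card ι := by omega
    have := Fintype.one_lt_card_iff_nontrivial.mp this
    exact exists_ne i₀
  have hmem : ∀ i, X i ∈ OO H := by
    intro i
    by_contra hcon
    by_cases hi : i = i₀
    · have h1 := hout (X i) hcon j₀
      rw [hi, if_pos rfl, if_neg (fun h2 => hj₀ (hXinj h2))] at h1
      exact zero_ne_one h1
    · have h1 := hout (X i) hcon i
      rw [if_pos rfl, if_neg (fun h2 => hi (hXinj h2).symm)] at h1
      exact one_ne_zero h1
  have E1 : ∀ i, ∀ χ ∈ OO H, (mm (χ : G → ℂ) (th i) : ℤ) - mm (χ : G → ℂ) (th i₀) =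
      z * ((if X i = χ then 1 else 0) - (if X i₀ = χ then 1 else 0)) := by
    intro i χ _
    have h1 := hfrob i χ
    rw [mm_cast' (IsIrr.isCharacter χ.2) (IsIrr.isCharacter (hirr i)),
      mm_cast' (IsIrr.isCharacter χ.2) (IsIrr.isCharacter (hirr i₀))] at h1
    have h2 : (((mm (χ : G → ℂ) (th i) : ℤ) - mm (χ : G → ℂ) (th i₀) : ℤ) : ℂ) =
        ((z * ((if X i = χ then 1 else 0) - (if X i₀ = χ then 1 else 0)) : ℤ) : ℂ) := by
      push_cast
      exact h1
    exact_mod_cast h2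
  have E2 : ∀ j k, ∀ χ ∈ OO H, (mm (χ : G → ℂ) (th j) : ℤ) - mm (χ : G → ℂ) (th k) =
      z * ((if X j = χ then 1 else 0) - (if X k = χ then 1 else 0)) := by
    intro j k χ hχ
    have h1 := E1 j χ hχ
    have h2 := E1 k χ hχ
    linear_combination h1 - h2
  obtain ⟨a, ha⟩ : ∃ a : ι → ℤ, ∀ i j, (mm (X i : G → ℂ) (th j) : ℤ) = a i + z * (if i = j then 1 else 0) := by
    refine ⟨fun i => (mm (X i : G → ℂ) (th i) : ℤ) - z, fun i j => ?_⟩
    have h1 := E2 j i (X i) (hmem i)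
    rw [if_pos rfl] at h1
    by_cases hij : i = j
    · rw [if_pos hij, hij]; ring
    · rw [if_neg hij]
      rw [if_neg (fun h2 => hij (hXinj h2).symm)] at h1
      linear_combination h1
  have hsm : ∀ j k, 2 * ∑ χ ∈ OO H, (mm (χ : G → ℂ) (th j) : ℤ) * mm (χ : G → ℂ) (th k) =
      2 * (if j = k then 1 else 0) + (e - 1) := by
    intro j k
    have h1 := sum_mm D (hrel j) (hrel k) (d := 1) (d' := 1) (by rw [hdeg]; simp) (by rw [hdeg]; simp)
    rw [h1]
    by_cases hjk : j = k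
    · rw [if_pos hjk, if_pos (by rw [hjk])]; push_cast; ring
    · rw [if_neg hjk, if_neg (fun h2 => hjk (hinj h2))]; push_cast; ring
  have hconst : ∀ j k, a j = a k := by
    intro j k
    have h1 := hsm j i₀
    have h2 := hsm k i₀
    have h3 : ∑ χ ∈ OO H, ((mm (χ : G → ℂ) (th j) : ℤ) - mm (χ : G → ℂ) (th k)) * mm (χ : G → ℂ) (th i₀) =
        (if j = i₀ then 1 else 0) - (if k = i₀ then 1 else 0) := by
      simp only [sub_mul, Finset.sum_sub_distrib]
      linarith
    have h4 : ∑ χ ∈ OO H, ((mm (χ : G → ℂ) (th j) : ℤ) - mm (χ : G → ℂ) (th k)) * mm (χ : G → ℂ) (th i₀) =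
        z * (mm (X j : G → ℂ) (th i₀) - mm (X k : G → ℂ) (th i₀)) := by
      have h5 : ∀ χ ∈ OO H, ((mm (χ : G → ℂ) (th j) : ℤ) - mm (χ : G → ℂ) (th k)) * mm (χ : G → ℂ) (th i₀) =
          z * ((if X j = χ then (mm (χ : G → ℂ) (th i₀) : ℤ) else 0) -
            (if X k = χ then (mm (χ : G → ℂ) (th i₀) : ℤ) else 0)) := by
        intro χ hχ
        rw [E2 j k χ hχ]
        split_ifs <;> ring
      rw [Finset.sum_congr rfl h5, ← Finset.mul_sum, Finset.sum_sub_distrib, Finset.sum_ite_eq, Finset.sum_ite_eq,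
        if_pos (hmem j), if_pos (hmem k)]
    rw [h4, ha, ha] at h3
    have h5 : z * (a j - a k) = 0 := by
      linear_combination h3 - (((if j = i₀ then 1 else 0) - (if k = i₀ then 1 else 0) : ℤ)) * hz
    have h6 := (mul_eq_zero.mp h5).resolve_left hz0
    linarith
  have ha0 : a i₀ = 0 := by
    by_contra hne
    have h1 := hsm i₀ i₀
    rw [if_pos rfl] at h1
    have h2 : ∑ i : ι, (mm (X i : G → ℂ) (th i₀) : ℤ) * mm (X i : G → ℂ) (th i₀) ≤
        ∑ χ ∈ OO H, (mm (χ : G → ℂ) (th i₀) : ℤ) * mm (χ : G → ℂ) (th i₀) := by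
      have h3 : ∑ i : ι, (mm (X i : G → ℂ) (th i₀) : ℤ) * mm (X i : G → ℂ) (th i₀) =
          ∑ χ ∈ Finset.univ.image X, (mm (χ : G → ℂ) (th i₀) : ℤ) * mm (χ : G → ℂ) (th i₀) := by
        rw [Finset.sum_image (fun a _ b _ h => hXinj h)]
      rw [h3]
      apply Finset.sum_le_sum_of_subset_of_nonneg
      · intro χ hχ
        obtain ⟨i, -, rfl⟩ := Finset.mem_image.mp hχ
        exact hmem i
      · intro χ _ _
        exact mul_self_nonneg _
    have h4 : ∑ i ∈ Finset.univ.erase i₀, (1 : ℤ) ≤ ∑ i : ι, (mm (X i : G → ℂ) (th i₀) : ℤ) * mm (X i : G → ℂ) (th i₀) := by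
      rw [← Finset.add_sum_erase Finset.univ _ (Finset.mem_univ i₀)]
      have h5 : ∑ i ∈ Finset.univ.erase i₀, (1 : ℤ) ≤
          ∑ i ∈ Finset.univ.erase i₀, (mm (X i : G → ℂ) (th i₀) : ℤ) * mm (X i : G → ℂ) (th i₀) := by
        apply Finset.sum_le_sum
        intro i hi
        rw [ha, if_neg (Finset.ne_of_mem_erase hi), mul_zero, add_zero, hconst i i₀]
        have : 0 < a i₀ * a i₀ := mul_self_pos.mpr hne
        omega
      have h6 : 0 ≤ (mm (X i₀ : G → ℂ) (th i₀) : ℤ) * mm (X i₀ : G → ℂ) (th i₀) := mul_self_nonneg _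
      linarith
    rw [Finset.sum_const, Finset.card_erase_of_mem (Finset.mem_univ _), Finset.card_univ] at h4
    have h7 : (e : ℤ) = 2 * s + 1 := by rw [hs]; push_cast; ring
    have h8 : ((Fintype.card ι - 1 : ℕ) : ℤ) ≤ 1 + s := by
      have : ((Fintype.card ι - 1 : ℕ) : ℤ) = (Fintype.card ι - 1) • (1 : ℤ) := by simp
      rw [this]
      linarith
    have h9 : Fintype.card ι - 1 ≤ 1 + s := by exact_mod_cast h8
    omega
  have hz1 : z = 1 := by
    have h1 := ha i₀ i₀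
    rw [ha0, if_pos rfl, zero_add, mul_one] at h1
    have h2 : 0 ≤ z := by rw [← h1]; positivity
    nlinarith
  refine ⟨X, hXinj, hmem, ?_, hrel, hdeg, ?_⟩
  · intro i j
    have h1 := ha i j
    rw [hconst i i₀, ha0, hz1, zero_add, one_mul] at h1
    by_cases hij : i = j
    · rw [if_pos hij] at h1 ⊢
      exact_mod_cast h1
    · rw [if_neg hij] at h1 ⊢
      exact_mod_cast h1
  · intro i j χ hχ h1 h2
    have h3 := E2 i j χ hχ
    rw [if_neg (fun h => h1 h.symm), if_neg (fun h => h2 h.symm), sub_self, mul_zero] at h3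
    have h4 : (mm (χ : G → ℂ) (th i) : ℤ) = mm (χ : G → ℂ) (th j) := by linarith
    exact_mod_cast h4

end Card

end Cfsg.Agent.H3.Feit
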