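import Mathlib
import Cfsg.Prelude.Def_Characters
import Cfsg.Agent.H3_Feit11

/-!
# Feit's theorem on Zassenhaus groups: the case of a 2-group
-/

set_option autoImplicit false

open scoped ComplexConjugate

namespace Cfsg.Agent.H3.Feit

open Cfsg Cfsg.Agent.H3.CharBasic Cfsg.Agent.H3.CharIrr Cfsg.Agent.H3.CharInt Cfsg.Agent.H3.CharCalc
  Cfsg.Agent.H3.CharComplete Cfsg.Agent.H3.CharInd Cfsg.Agent.H3.CharTI Cfsg.Agent.H3.CharMult
  Cfsg.Agent.H3.Clifford

theorem num_two (s n w e c : ℤ) (hs : e = 2 * s + 1) (hs0 : 1 ≤ s) (hn : 4 * e < n) (hc0 : 0 < c) (hec : e ≤ c)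
    (hwc : e * w ≤ (e + 1) * c) (hI : c ^ 2 * (s * n + 1) ≤ s * (w * (e + 1) - w) * (e + 2 * c)) : False := by
  have h1 : c * (c * (s * n + 1)) ≤ c * (s * (e + 1) * (e + 2 * c)) := by
    calc c * (c * (s * n + 1)) = c ^ 2 * (s * n + 1) := by ring
      _ ≤ s * (w * (e + 1) - w) * (e + 2 * c) := hI
      _ = (e * w) * (s * (e + 2 * c)) := by ring
      _ ≤ ((e + 1) * c) * (s * (e + 2 * c)) := mul_le_mul_of_nonneg_right hwc
          (mul_nonneg (by linarith) (by linarith))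
      _ = c * (s * (e + 1) * (e + 2 * c)) := by ring
  have h2 : c * (s * n + 1) ≤ s * (e + 1) * (e + 2 * c) := le_of_mul_le_mul_left h1 hc0
  have h3 : c * (s * n + 1) ≤ c * (3 * s * (e + 1)) := by
    have : s * (e + 1) * (e + 2 * c) ≤ s * (e + 1) * (3 * c) :=
      mul_le_mul_of_nonneg_left (by linarith) (by nlinarith)
    linarith
  have h4 : s * n + 1 ≤ 3 * s * (e + 1) := le_of_mul_le_mul_left h3 hc0
  have h5 : s * (4 * e) < s * n := mul_lt_mul_of_pos_left hn (by linarith)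
  have h6 : s * (4 * e) < s * (3 * (e + 1)) := by nlinarith
  have h7 : 4 * e < 3 * (e + 1) := lt_of_mul_lt_mul_left h6 (by linarith)
  linarith

section Two

variable {G : Type*} [Group G] [Fintype G] {B H : Subgroup G} {St : G → ℂ} {e h : ℕ}
  (D : FD B H St e h) [Fintype B] [Fintype H] [Fintype (IrrCharacter G)]
  {Z : Subgroup G} [Fintype Z] (hZH : Z ≤ H) (hZ : ∀ b ∈ B, ∀ z ∈ Z, b * z * b⁻¹ ∈ Z)
  {w : ℕ} (hw : w * Nat.card Z = h)

include D hZH hZ

omit [Fintype B] in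
/-- the basic congruence -/
theorem cong_ZZ [Finite B] (hw : w * Nat.card Z = h) {χ : IrrCharacter G} {m : ℕ} (hm : (χ : G → ℂ) 1 = m) :
    (h : ℤ) ∣ e * (Nat.card Z) ^ 2 * (m - yy Z (χ : G → ℂ)) * yy Z (χ : G → ℂ) := by
  classical
  have hh := D.h1
  have hh0 : (h : ℂ) ≠ 0 := by exact_mod_cast (by omega : h ≠ 0)
  have hc : (Nat.card Z : ℂ) ≠ 0 := by exact_mod_cast Nat.card_pos.ne'
  have he : (e : ℂ) ≠ 0 := by have := D.e1; exact_mod_cast (by omega : e ≠ 0)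
  have hx0 := IsIrr.one_ne_zero χ.2
  obtain ⟨α, hα, h1⟩ := rel_XY D.hHB D.ti χ.2 Z Z hZ hZ
  obtain ⟨c, hcdef⟩ : ∃ c : ℤ, c = yy Z (χ : G → ℂ) := ⟨_, rfl⟩
  have hT : ∑ z : Z, (χ : G → ℂ) z = Nat.card Z * ((m : ℂ) - c) := by
    rw [hcdef, ← yy_cast (IsIrr.isCharacter χ.2), yv, hm]
    field_simp
    ring
  have hTT : ∑ x : Z, ∑ y : Z, (χ : G → ℂ) (x * y) = Nat.card Z * ∑ z : Z, (χ : G → ℂ) z := by
    have h2 : ∀ x : Z, ∑ y : Z, (χ : G → ℂ) (x * y) = ∑ z : Z, (χ : G → ℂ) z := by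
      intro x
      exact Fintype.sum_equiv (Equiv.mulLeft x) _ _ (fun y => rfl)
    rw [Finset.sum_congr rfl (fun x _ => h2 x), Finset.sum_const, nsmul_eq_mul, Finset.card_univ,
      ← Nat.card_eq_fintype_card]
  rw [hTT, hT, D.cG, D.cB, D.cH, hm] at h1
  rw [hm] at hx0
  rw [← hcdef]
  have hα' : IsIntegral ℤ ((e : ℂ) * (Nat.card Z) ^ 2 * (m - c) ^ 2 - α * m) := by
    have i1 : IsIntegral ℤ ((e : ℂ) * (Nat.card Z) ^ 2 * (m - c) ^ 2) := by
      have : ((e : ℂ) * (Nat.card Z) ^ 2 * (m - c) ^ 2) = (((e : ℤ) * (Nat.card Z) ^ 2 * (m - c) ^ 2 : ℤ) : ℂ) := by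
        push_cast; ring
      rw [this]
      exact isIntegral_algebraMap
    have i2 : IsIntegral ℤ (m : ℂ) := by
      have : (m : ℂ) = ((m : ℤ) : ℂ) := by push_cast; rfl
      rw [this]
      exact isIntegral_algebraMap
    exact i1.sub (hα.mul i2)
  apply dvd_of_mul_integral (by omega : h ≠ 0) hα'
  push_cast at h1 ⊢
  apply mul_left_cancel₀ hh0
  have h2 := congrArg (fun x => x * (m : ℂ)) h1
  beta_reduce at h2
  have h3 : (e : ℂ) * h * (h + 1) / m * ((Nat.card Z : ℂ) * (m - c) * (Nat.card Z * (m - c))) * m =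
      (e : ℂ) * h * (h + 1) * ((Nat.card Z : ℂ) * (m - c) * (Nat.card Z * (m - c))) := by
    field_simp
  rw [h3] at h2
  linear_combination -h2

/-- Case 4: a 2-group with large abelianization -/
theorem case_two (hw : w * Nat.card Z = h) {k : ℕ} (hk : h = 2 ^ k) (hZH' : Z ≤ ⁅H, H⁆) {q : ℕ}
    (hq : q * Nat.card (⁅H, H⁆ : Subgroup G) = h) (hZe : Nat.card Z = e + 1) : q ≤ 4 * e ^ 2 + 1 := by
  classical
  by_contra hcon
  push Not at hcon
  have : Fintype (IrrCharacter B) := Fintype.ofFinite _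
  have hh := D.h1
  have he := D.e1
  have hw0 : w ≠ 0 := by rintro rfl; omega
  have hn := count_all D hq
  obtain ⟨s, hs⟩ := D.eodd
  obtain ⟨n, hn'⟩ : ∃ n, n = Nat.card {θ : IrrCharacter B // RelB B H (θ : B → ℂ) ∧ (θ : B → ℂ) 1 = e} := ⟨_, rfl⟩
  rw [← hn'] at hn
  have hn4 : 4 * e < n := by
    by_contra h1
    push Not at h1
    have : n * e ≤ 4 * e * e := Nat.mul_le_mul_right _ h1
    nlinarith
  have hcard : Fintype.card {θ : IrrCharacter B // RelB B H (θ : B → ℂ) ∧ (θ : B → ℂ) 1 = e} = n := by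
    rw [hn', Nat.card_eq_fintype_card]
  obtain ⟨X, S⟩ := sf_of_card D (th := fun θ : {θ : IrrCharacter B // RelB B H (θ : B → ℂ) ∧ (θ : B → ℂ) 1 = e} =>
      ((θ : IrrCharacter B) : B → ℂ)) (fun a b hab => Subtype.ext (Subtype.ext hab)) (fun θ => θ.2.1) (fun θ => θ.2.2)
      hs (by rw [hcard]; omega)
  have hker : ∀ θ : {θ : IrrCharacter B // RelB B H (θ : B → ℂ) ∧ (θ : B → ℂ) 1 = e}, ∀ z (hz : z ∈ Z),
      ((θ : IrrCharacter B) : B → ℂ) ⟨z, D.hHB (hZH hz)⟩ = ((θ : IrrCharacter B) : B → ℂ) 1 := fun θ z hz =>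
    ker_of_deg D θ.2.1 θ.2.2 _ (hZH' hz)
  obtain ⟨θ₀⟩ : Nonempty {θ : IrrCharacter B // RelB B H (θ : B → ℂ) ∧ (θ : B → ℂ) 1 = e} :=
    Fintype.card_pos_iff.mp (by rw [hcard]; omega)
  obtain ⟨c, hc⟩ : ∃ c : ℤ, yy Z (X θ₀ : G → ℂ) = c := ⟨_, rfl⟩
  have hI := S.ineq D hZH hZ hw (fun i z hz => by rw [hker i z hz, i.2.2]) hs θ₀ hc
  have hZ1 : Z ≠ ⊥ := by
    rintro rfl
    rw [Subgroup.card_bot] at hZe
    omega
  have hc0 : 0 < c := by rw [← hc]; exact yy_pos D hZH hZ hw (S.mem θ₀) hZ1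
  have d1 : (e : ℤ) ∣ c := by rw [← hc]; exact yy_dvd D hZH hZ hw (IsIrr.isCharacter (X θ₀).2)
  -- parity of `χ(1) - c`
  obtain ⟨m, -, hm⟩ := IsIrr.one_eq_nat (X θ₀).2
  obtain ⟨t, ht1, ht2, ht3⟩ := exists_t D hZH hZ hw
  have hdex : ∀ θ : IrrCharacter B, ∃ d : ℕ, (RelB B H (θ : B → ℂ) → (θ : B → ℂ) 1 = e * d ∧ d ∣ h) ∧
      (¬ RelB B H (θ : B → ℂ) → d = 0) := by
    intro θ
    by_cases hr : RelB B H (θ : B → ℂ)
    · have : Fintype (H.subgroupOf B) := Fintype.ofFinite _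
      have hN := normal_sub D
      obtain ⟨ζ, hζ, -, hθζ⟩ := Cfsg.Agent.H3.CohTI.rel_ind (H.subgroupOf B) (hC D) hr
      obtain ⟨d, hd, hd', h1⟩ := IsIrr.dvd_card hζ
      refine ⟨d, fun _ => ⟨by rw [hθζ, ind_one, index_sub D, hd'], ?_⟩, fun h1 => absurd hr h1⟩
      rwa [Nat.card_congr (Subgroup.subgroupOfEquivOfLe D.hHB).toEquiv, D.cH] at h1
    · exact ⟨0, fun h1 => absurd h1 hr, fun _ => rfl⟩
  choose d hd1 hd2 using hdex
  have hec : (e : ℂ) ≠ 0 := by exact_mod_cast (by omega : e ≠ 0)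
  have hmsum : (m : ℤ) = e * ∑ θ : IrrCharacter B, (mm (X θ₀ : G → ℂ) (θ : B → ℂ) : ℤ) * d θ := by
    have h1 : (fun x : B => (X θ₀ : G → ℂ) x) = ∑ θ : IrrCharacter B,
        (mm (X θ₀ : G → ℂ) (θ : B → ℂ) : ℂ) • (θ : B → ℂ) := by
      funext x
      rw [expand_apply (fun x : B => (X θ₀ : G → ℂ) x) (IsChar.isClass (IsChar.res (IsIrr.isCharacter (X θ₀).2) B)) x,
        Finset.sum_apply]
      apply Finset.sum_congr rfl
      intro θ _
      rw [mm_cast (IsIrr.isCharacter (X θ₀).2) (IsIrr.isCharacter θ.2)]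
      rfl
    have h2 := congrFun h1 1
    rw [Finset.sum_apply] at h2
    have h3 : ((m : ℤ) : ℂ) = ((e * ∑ θ : IrrCharacter B, (mm (X θ₀ : G → ℂ) (θ : B → ℂ) : ℤ) * d θ : ℤ) : ℂ) := by
      push_cast
      rw [← hm]
      refine (h2.trans ?_)
      rw [Finset.mul_sum]
      apply Finset.sum_congr rfl
      intro θ _
      rw [Pi.smul_apply, smul_eq_mul]
      by_cases hr : RelB B H (θ : B → ℂ)
      · rw [(hd1 θ hr).1]; ring
      · rw [mm_nonrel D (S.mem θ₀) θ.2 hr]; simp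
    exact_mod_cast h3
  have hvodd : Odd ((m : ℤ) - c) := by
    have h1 := ht3 _ (IsIrr.isCharacter (X θ₀).2)
    rw [hc] at h1
    rw [hmsum, h1, ← mul_sub, ← Finset.sum_sub_distrib]
    refine Odd.mul (by exact_mod_cast D.eodd) ?_
    rw [← Int.not_even_iff_odd, even_iff_two_dvd, ← Nat.cast_two, ← ZMod.intCast_zmod_eq_zero_iff_dvd]
    have key : ∀ θ : IrrCharacter B, (((mm (X θ₀ : G → ℂ) (θ : B → ℂ) : ℤ) * d θ -
        (mm (X θ₀ : G → ℂ) (θ : B → ℂ) : ℤ) * t θ : ℤ) : ZMod 2) = if θ = θ₀.1 then 1 else 0 := by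
      intro θ
      by_cases hr : RelB B H (θ : B → ℂ)
      · by_cases hdeg : (θ : B → ℂ) 1 = e
        · have hd0 : d θ = 1 := by
            have h2 := (hd1 θ hr).1
            rw [hdeg] at h2
            have h3 : (e : ℂ) * (d θ : ℂ) = e * 1 := by rw [← h2, mul_one]
            exact_mod_cast mul_left_cancel₀ hec h3
          have ht0 : t θ = 0 := by
            by_contra h2
            exact (ht2 θ h2).2.2 (hker ⟨θ, hr, hdeg⟩)
          have h2 := S.mul θ₀ ⟨θ, hr, hdeg⟩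
          simp only at h2
          rw [h2, hd0, ht0]
          by_cases h3 : θ₀ = ⟨θ, hr, hdeg⟩
          · rw [if_pos h3, if_pos (by rw [h3])]; simp
          · rw [if_neg h3, if_neg (fun h4 => h3 (Subtype.ext h4.symm))]; simp
        · have hne : θ ≠ θ₀.1 := fun h2 => hdeg (by rw [h2]; exact θ₀.2.2)
          rw [if_neg hne]
          obtain ⟨g1, g2⟩ := hd1 θ hr
          have hd0 : 2 ∣ d θ := by
            rw [hk] at g2
            obtain ⟨j, -, hj⟩ := (Nat.dvd_prime_pow Nat.prime_two).mp g2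
            rcases Nat.eq_zero_or_pos j with h3 | h3
            · exfalso
              apply hdeg
              rw [g1, hj, h3]; simp
            · rw [hj]; exact dvd_pow_self 2 h3.ne'
          have ht0 : 2 ∣ t θ := by
            by_cases h2 : t θ = 0
            · rw [h2]; exact dvd_zero 2
            · have h3 := (ht2 θ h2).2.1
              rw [g1] at h3
              have h4 : d θ = t θ := by exact_mod_cast mul_left_cancel₀ hec h3
              rw [← h4]; exact hd0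
          have e1 : ((d θ : ℤ) : ZMod 2) = 0 := by
            rw [ZMod.intCast_zmod_eq_zero_iff_dvd]; exact_mod_cast hd0
          have e2 : ((t θ : ℤ) : ZMod 2) = 0 := by
            rw [ZMod.intCast_zmod_eq_zero_iff_dvd]; exact_mod_cast ht0
          rw [Int.cast_sub, Int.cast_mul, Int.cast_mul, e1, e2]; simp
      · have hne : θ ≠ θ₀.1 := fun h2 => hr (by rw [h2]; exact θ₀.2.1)
        rw [if_neg hne, mm_nonrel D (S.mem θ₀) θ.2 hr]; simp
    rw [Int.cast_sum, Finset.sum_congr rfl (fun θ _ => key θ), Finset.sum_ite_eq' Finset.univ θ₀.1,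
      if_pos (Finset.mem_univ _)]
    decide
  -- the divisibility
  have d2 := cong_ZZ D hZH hZ hw hm
  rw [hc] at d2
  obtain ⟨c', rfl⟩ := Int.eq_ofNat_of_zero_le hc0.le
  have d1' : e ∣ c' := by exact_mod_cast d1
  have hc0' : 0 < c' := by exact_mod_cast hc0
  have d3 : (w : ℤ) ∣ (Nat.card Z : ℤ) * c' := by
    have h1 : IsCoprime (h : ℤ) ((e : ℤ) * (m - c')) := by
      rw [hk]
      push_cast
      apply IsCoprime.pow_left
      rw [Int.isCoprime_iff_gcd_eq_one]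
      have h2 : Odd ((e : ℤ) * (m - c')) := Odd.mul (by exact_mod_cast D.eodd) hvodd
      exact Int.isCoprime_iff_gcd_eq_one.mp (Int.isCoprime_two_left.mpr h2)
    have h2 : (h : ℤ) ∣ ((e : ℤ) * (m - c')) * ((Nat.card Z : ℤ) * (Nat.card Z * c')) := by
      have : ((e : ℤ) * (m - c')) * ((Nat.card Z : ℤ) * (Nat.card Z * c')) =
          e * (Nat.card Z) ^ 2 * (m - c') * c' := by ring
      rw [this]
      exact_mod_cast d2
    have h3 := h1.dvd_of_dvd_mul_left h2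
    have h4 : (h : ℤ) = Nat.card Z * w := by rw [← hw]; push_cast; ring
    rw [h4] at h3
    exact (mul_dvd_mul_iff_left (by exact_mod_cast Nat.card_pos.ne')).mp h3
  have d3' : w ∣ (e + 1) * c' := by
    rw [← hZe]; exact_mod_cast d3
  have hwe : w.Coprime e := by
    have h1 : w ∣ 2 ^ k := by rw [← hk]; exact ⟨_, hw.symm⟩
    exact Nat.Coprime.coprime_dvd_left h1 (Nat.Coprime.pow_left _ (Nat.coprime_two_left.mpr D.eodd))
  have d4 : e * w ∣ (e + 1) * c' := Nat.Coprime.mul_dvd_of_dvd_of_dvd hwe.symm (d1'.mul_left _) d3'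
  have d5 := Nat.le_of_dvd (by positivity) d4
  have d6 := Nat.le_of_dvd hc0' d1'
  rw [hcard, ← hw, hZe] at hI
  refine num_two s n w e c' (by rw [hs]; push_cast; ring) (by omega) (by exact_mod_cast hn4) hc0
    (by exact_mod_cast d6) (by exact_mod_cast d5) ?_
  push_cast at hI
  exact hI

end Two

end Cfsg.Agent.H3.Feit
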