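import Mathlib
import Cfsg.Prelude.Def_Characters
import Cfsg.Agent.H3_Feit12
import Cfsg.Agent.H3_CharQuot

/-!
# Feit's theorem on Zassenhaus groups: the case of a kernel which is not a `p`-group
-/

set_option autoImplicit false

open scoped ComplexConjugate

namespace Cfsg.Agent.H3.Feit

open Cfsg Cfsg.Agent.H3.CharBasic Cfsg.Agent.H3.CharIrr Cfsg.Agent.H3.CharInt Cfsg.Agent.H3.CharCalc
  Cfsg.Agent.H3.CharComplete Cfsg.Agent.H3.CharInd Cfsg.Agent.H3.CharTI Cfsg.Agent.H3.CharMult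
  Cfsg.Agent.H3.Clifford Cfsg.Agent.H3.CharQuot

theorem num_mix (s n w z q e c : ℤ) (hs : e = 2 * s + 1) (hn : n * e + 1 = q) (hs0 : 1 ≤ s) (hn0 : 0 ≤ n)
    (hw : 1 ≤ w) (hz : 1 ≤ z) (hzq : z * (e + 1) ≤ q) (hc : e * w ≤ c)
    (hI : c ^ 2 * (s * n + 1) ≤ s * (w * z - w) * (e + 2 * c)) : False := by
  have he : 3 ≤ e := by linarith
  have hew : e * 1 ≤ e * w := mul_le_mul_of_nonneg_left hw (by linarith)
  have hc0 : 0 < c := by linarith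
  have hec : e ≤ c := by linarith
  have hsn : 0 < s * n + 1 := by positivity
  have h1 : e * w * (c * (s * n + 1)) ≤ c * (c * (s * n + 1)) :=
    mul_le_mul_of_nonneg_right hc (by positivity)
  have h2 : w * (c * (e * (s * n + 1))) ≤ w * (s * (z - 1) * (e + 2 * c)) := by
    calc w * (c * (e * (s * n + 1))) = e * w * (c * (s * n + 1)) := by ring
      _ ≤ c * (c * (s * n + 1)) := h1
      _ = c ^ 2 * (s * n + 1) := by ring
      _ ≤ s * (w * z - w) * (e + 2 * c) := hI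
      _ = w * (s * (z - 1) * (e + 2 * c)) := by ring
  have h3 : c * (e * (s * n + 1)) ≤ s * (z - 1) * (e + 2 * c) := le_of_mul_le_mul_left h2 (by linarith)
  have h4 : s * (z - 1) * (e + 2 * c) ≤ s * (z - 1) * (3 * c) :=
    mul_le_mul_of_nonneg_left (by linarith) (mul_nonneg (by linarith) (by linarith))
  have h5 : c * (e * (s * n + 1)) ≤ c * (3 * s * (z - 1)) := by linarith
  have h6 : e * (s * n + 1) ≤ 3 * s * (z - 1) := le_of_mul_le_mul_left h5 hc0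
  have h7 : e * (s * n + 1) = s * (q - 1) + e := by
    rw [← hn]; ring
  have h8 : z * 4 ≤ z * (e + 1) := mul_le_mul_of_nonneg_left (by linarith) (by linarith)
  have h9 : s * (4 * z - 1) ≤ s * (q - 1) := mul_le_mul_of_nonneg_left (by linarith) (by linarith)
  nlinarith

section Mix

variable {G : Type*} [Group G] [Fintype G] {B H : Subgroup G} {St : G → ℂ} {e h : ℕ}
  (D : FD B H St e h) [Fintype B] [Fintype H] [Fintype (IrrCharacter G)]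
  {Z : Subgroup G} [Fintype Z] (hZH : Z ≤ H) (hZ : ∀ b ∈ B, ∀ z ∈ Z, b * z * b⁻¹ ∈ Z)
  {w : ℕ} (hw : w * Nat.card Z = h)
  {ι : Type*} [DecidableEq ι] {th : ι → B → ℂ} {X : ι → IrrCharacter G} (S : SF B H e th X)
  (hthZ : ∀ i z (hz : z ∈ Z), th i ⟨z, D.hHB (hZH hz)⟩ = e)
  {U : Subgroup G} [Fintype U] (hUH : U ≤ H) (hU : ∀ b ∈ B, ∀ u ∈ U, b * u * b⁻¹ ∈ U)

include hZH hZ S hthZ hUH hU

theorem cong_ZU {i j : ι} (hi : ∀ u (hu : u ∈ U), th i ⟨u, D.hHB (hUH hu)⟩ = e)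
    (hj : ∑ u : U, th j ⟨u, D.hHB (hUH u.2)⟩ = 0) :
    (h : ℤ) ∣ e ^ 2 * Nat.card Z * Nat.card U * yy Z (X i : G → ℂ) := by
  classical
  have hh := D.h1
  have hh0 : (h : ℂ) ≠ 0 := by exact_mod_cast (by omega : h ≠ 0)
  have hc : (Nat.card Z : ℂ) ≠ 0 := by exact_mod_cast Nat.card_pos.ne'
  have he : (e : ℂ) ≠ 0 := by have := D.e1; exact_mod_cast (by omega : e ≠ 0)
  obtain ⟨m, -, hm⟩ := IsIrr.one_eq_nat (X i).2
  have hx0 := IsIrr.one_ne_zero (X i).2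
  rw [hm] at hx0
  obtain ⟨α, hα, h1⟩ := rel_XY D.hHB D.ti (X i).2 Z U hZ hU
  obtain ⟨β, hβ, h2⟩ := rel_XY D.hHB D.ti (X j).2 Z U hZ hU
  obtain ⟨c, hcdef⟩ : ∃ c : ℤ, c = yy Z (X i : G → ℂ) := ⟨_, rfl⟩
  have hT : ∑ z : Z, (X i : G → ℂ) z = Nat.card Z * ((m : ℂ) - c) := by
    rw [hcdef, ← yy_cast (IsIrr.isCharacter (X i).2), yv, hm]
    field_simp
    ring
  have hTj : ∑ z : Z, (X j : G → ℂ) z = ∑ z : Z, (X i : G → ℂ) z := by
    apply Finset.sum_congr rfl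
    intro z _
    have h3 := S.val D i j (hZH z.2)
    rw [hthZ i z z.2, hthZ j z z.2, sub_self] at h3
    exact (sub_eq_zero.mp h3).symm
  have hS : ∑ u : U, (X i : G → ℂ) u - ∑ u : U, (X j : G → ℂ) u = e * Nat.card U := by
    rw [← Finset.sum_sub_distrib, Finset.sum_congr rfl (fun (u : U) _ => S.val D i j (hUH u.2)),
      Finset.sum_sub_distrib, hj, Finset.sum_congr rfl (fun (u : U) _ => hi u u.2), Finset.sum_const, nsmul_eq_mul,
      Finset.card_univ, ← Nat.card_eq_fintype_card]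
    ring
  have hSS : ∑ z : Z, ∑ u : U, (X i : G → ℂ) (z * u) - ∑ z : Z, ∑ u : U, (X j : G → ℂ) (z * u) =
      Nat.card Z * (e * Nat.card U) := by
    rw [← Finset.sum_sub_distrib]
    have h3 : ∀ z : Z, ∑ u : U, (X i : G → ℂ) (z * u) - ∑ u : U, (X j : G → ℂ) (z * u) = e * Nat.card U := by
      intro z
      rw [← Finset.sum_sub_distrib]
      have h4 : ∀ u : U, (X i : G → ℂ) (z * u) - (X j : G → ℂ) (z * u) =
          th i ⟨u, D.hHB (hUH u.2)⟩ - th j ⟨u, D.hHB (hUH u.2)⟩ := by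
        intro u
        rw [S.val D i j (H.mul_mem (hZH z.2) (hUH u.2))]
        have h5 : ∀ k, th k ⟨z * u, D.hHB (H.mul_mem (hZH z.2) (hUH u.2))⟩ = th k ⟨u, D.hHB (hUH u.2)⟩ := by
          intro k
          have h6 := IsChar.mul_ker (IsIrr.isCharacter (S.rel k).1) (k := ⟨z, D.hHB (hZH z.2)⟩)
            (by rw [hthZ k z z.2, S.deg]) ⟨u, D.hHB (hUH u.2)⟩
          exact h6
        rw [h5, h5]
      rw [Finset.sum_congr rfl (fun u _ => h4 u), Finset.sum_sub_distrib, hj,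
        Finset.sum_congr rfl (fun (u : U) _ => hi u u.2), Finset.sum_const, nsmul_eq_mul,
        Finset.card_univ, ← Nat.card_eq_fintype_card]
      ring
    rw [Finset.sum_congr rfl (fun z _ => h3 z), Finset.sum_const, nsmul_eq_mul,
        Finset.card_univ, ← Nat.card_eq_fintype_card]
  rw [hTj, ← S.val_one D i j, hT, hm, D.cG, D.cB, D.cH] at h2
  rw [hT, hm, D.cG, D.cB, D.cH] at h1
  rw [← hcdef]
  have hα' : IsIntegral ℤ ((e : ℂ) ^ 2 * Nat.card Z * Nat.card U * (m - c) - (α - β) * m) := by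
    have i1 : IsIntegral ℤ ((e : ℂ) ^ 2 * Nat.card Z * Nat.card U * (m - c)) := by
      have : ((e : ℂ) ^ 2 * Nat.card Z * Nat.card U * (m - c)) =
          (((e : ℤ) ^ 2 * Nat.card Z * Nat.card U * (m - c) : ℤ) : ℂ) := by
        push_cast; ring
      rw [this]
      exact isIntegral_algebraMap
    have i2 : IsIntegral ℤ (m : ℂ) := by
      have : (m : ℂ) = ((m : ℤ) : ℂ) := by push_cast; rfl
      rw [this]
      exact isIntegral_algebraMap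
    exact i1.sub ((hα.sub hβ).mul i2)
  apply dvd_of_mul_integral (by omega : h ≠ 0) hα'
  obtain ⟨Si, hSi⟩ : ∃ Si : ℂ, Si = ∑ u : U, (X i : G → ℂ) u := ⟨_, rfl⟩
  obtain ⟨Sj, hSj⟩ : ∃ Sj : ℂ, Sj = ∑ u : U, (X j : G → ℂ) u := ⟨_, rfl⟩
  obtain ⟨Ti, hTi⟩ : ∃ Ti : ℂ, Ti = ∑ z : Z, ∑ u : U, (X i : G → ℂ) (z * u) := ⟨_, rfl⟩
  obtain ⟨Tj, hTj'⟩ : ∃ Tj : ℂ, Tj = ∑ z : Z, ∑ u : U, (X j : G → ℂ) (z * u) := ⟨_, rfl⟩
  rw [← hSi, ← hTi] at h1
  rw [← hSj, ← hTj'] at h2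
  rw [← hSi, ← hSj] at hS
  rw [← hTi, ← hTj'] at hSS
  push_cast at h1 h2 ⊢
  apply mul_left_cancel₀ hh0
  have g1 := congrArg (fun x => x * (m : ℂ)) h1
  have g2 := congrArg (fun x => x * (m : ℂ)) h2
  beta_reduce at g1 g2
  have h3 : ∀ Q : ℂ, (e : ℂ) * h * (h + 1) / m * ((Nat.card Z : ℂ) * (m - c) * Q) * m =
      (e : ℂ) * h * (h + 1) * ((Nat.card Z : ℂ) * (m - c) * Q) := by
    intro Q
    field_simp
  rw [h3] at g1 g2
  linear_combination g2 - g1 + (e : ℂ) * h * (h + 1) * (Nat.card Z : ℂ) * (m - c) * hS - (e : ℂ) * h * m * hSS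

end Mix

section Inv

variable {G : Type*} [Group G] {B : Subgroup G}

theorem inv_iff (M : Subgroup G) : (∀ b ∈ B, ∀ z ∈ M, b * z * b⁻¹ ∈ M) ↔
    ∀ b ∈ B, M.map (MulAut.conj b).toMonoidHom = M := by
  constructor
  · intro hM b hb
    apply le_antisymm
    · rintro _ ⟨u, hu, rfl⟩
      exact hM b hb u hu
    · intro u hu
      refine ⟨b⁻¹ * u * b⁻¹⁻¹, hM _ (B.inv_mem hb) u hu, ?_⟩
      change b * (b⁻¹ * u * b⁻¹⁻¹) * b⁻¹ = u
      group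
  · intro hM b hb z hz
    rw [← hM b hb]
    exact ⟨z, hz, rfl⟩

theorem inv_sup {M L : Subgroup G} (hM : ∀ b ∈ B, ∀ z ∈ M, b * z * b⁻¹ ∈ M) (hL : ∀ b ∈ B, ∀ z ∈ L, b * z * b⁻¹ ∈ L) :
    ∀ b ∈ B, ∀ z ∈ M ⊔ L, b * z * b⁻¹ ∈ M ⊔ L := by
  rw [inv_iff] at *
  intro b hb
  rw [Subgroup.map_sup, hM b hb, hL b hb]

theorem inv_comm {M L : Subgroup G} (hM : ∀ b ∈ B, ∀ z ∈ M, b * z * b⁻¹ ∈ M) (hL : ∀ b ∈ B, ∀ z ∈ L, b * z * b⁻¹ ∈ L) :
    ∀ b ∈ B, ∀ z ∈ ⁅M, L⁆, b * z * b⁻¹ ∈ ⁅M, L⁆ := by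
  rw [inv_iff] at *
  intro b hb
  rw [Subgroup.map_commutator, hM b hb, hL b hb]

theorem inv_inf {M L : Subgroup G} (hM : ∀ b ∈ B, ∀ z ∈ M, b * z * b⁻¹ ∈ M) (hL : ∀ b ∈ B, ∀ z ∈ L, b * z * b⁻¹ ∈ L) :
    ∀ b ∈ B, ∀ z ∈ M ⊓ L, b * z * b⁻¹ ∈ M ⊓ L :=
  fun b hb z hz => ⟨hM b hb z hz.1, hL b hb z hz.2⟩

end Inv

section Mix2

variable {G : Type*} [Group G] [Fintype G] {B H : Subgroup G} {St : G → ℂ} {e h : ℕ}
  (D : FD B H St e h) [Fintype B] [Fintype H] [Fintype (IrrCharacter G)]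
  {Z : Subgroup G} [Fintype Z] (hZH : Z ≤ H) (hZ : ∀ b ∈ B, ∀ z ∈ Z, b * z * b⁻¹ ∈ Z)
  {w : ℕ}

omit [Fintype H] [Fintype (IrrCharacter G)] in
include D in
/-- the kernel of a relevant character does not contain both factors -/
theorem not_both {A K : Subgroup G} (hAH : A ≤ H) (hKH : K ≤ H) (hAK : Nat.card A * Nat.card K = h)
    (hcop : (Nat.card A).Coprime (Nat.card K)) {θ : B → ℂ} (hθ : RelB B H θ)
    (hA : ∀ x : B, (x : G) ∈ A → θ x = θ 1) (hK : ∀ x : B, (x : G) ∈ K → θ x = θ 1) : False := by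
  obtain ⟨L, hL⟩ : ∃ L : Subgroup G, L = (chKer θ (IsIrr.isCharacter hθ.1)).map B.subtype ⊓ H := ⟨_, rfl⟩
  have h1 : A ≤ L := by
    rw [hL]
    intro a ha
    exact ⟨⟨⟨a, D.hHB (hAH ha)⟩, hA _ ha, rfl⟩, hAH ha⟩
  have h2 : K ≤ L := by
    rw [hL]
    intro a ha
    exact ⟨⟨⟨a, D.hHB (hKH ha)⟩, hK _ ha, rfl⟩, hKH ha⟩
  have h3 : Nat.card A * Nat.card K ∣ Nat.card L := Nat.Coprime.mul_dvd_of_dvd_of_dvd hcop
    (Subgroup.card_dvd_of_le h1) (Subgroup.card_dvd_of_le h2)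
  have h4 : Nat.card H ≤ Nat.card L := by
    rw [D.cH, ← hAK]
    exact Nat.le_of_dvd Nat.card_pos h3
  have h5 : L = H := Subgroup.eq_of_le_of_card_ge (by rw [hL]; exact inf_le_right) h4
  obtain ⟨x, hx, hne⟩ := hθ.2
  apply hne
  have h6 : (x : G) ∈ L := by
    rw [h5]; exact hx
  rw [hL] at h6
  obtain ⟨⟨y, hy, hyx⟩, -⟩ := h6
  have : y = x := Subtype.ext hyx
  rw [← this]
  exact hy

include D hZH hZ

/-- Case 3: `H` is not a `p`-group -/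
theorem case_mix (hw : w * Nat.card Z = h) (hZ1 : Z ≠ ⊥)
    (hZH' : Z ≤ ⁅H, H⁆) {q qA qK : ℕ} (hq : q * Nat.card (⁅H, H⁆ : Subgroup G) = h)
    {A K : Subgroup G} (hAH : A ≤ H) (hKH : K ≤ H) (hAB : ∀ b ∈ B, ∀ z ∈ A, b * z * b⁻¹ ∈ A)
    (hKB : ∀ b ∈ B, ∀ z ∈ K, b * z * b⁻¹ ∈ K) (hAK : Nat.card A * Nat.card K = h)
    (hcop : (Nat.card A).Coprime (Nat.card K))
    (hqK : qK * Nat.card (K ⊔ ⁅H, H⁆ : Subgroup G) = h) (hqA : qA * Nat.card (A ⊔ ⁅H, H⁆ : Subgroup G) = h)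
    (h1K : 1 < qK) (h1A : 1 < qA) (hZq : Nat.card Z ≤ qK) (hcopeh : e.Coprime h) : False := by
  classical
  have : Fintype (IrrCharacter B) := Fintype.ofFinite _
  have hh := D.h1
  have he := D.e1
  have hw0 : w ≠ 0 := by rintro rfl; omega
  have hn := count_all D hq
  obtain ⟨s, hs⟩ := D.eodd
  obtain ⟨n, hn'⟩ : ∃ n, n = Nat.card {θ : IrrCharacter B // RelB B H (θ : B → ℂ) ∧ (θ : B → ℂ) 1 = e} := ⟨_, rfl⟩
  rw [← hn'] at hn
  have hcomm := inv_comm D.hn D.hn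
  have hnK := count_rel D (M := K ⊔ ⁅H, H⁆) le_sup_right (sup_le hKH (comm_le H)) (inv_sup hKB hcomm) hqK
  have hnA := count_rel D (M := A ⊔ ⁅H, H⁆) le_sup_right (sup_le hAH (comm_le H)) (inv_sup hAB hcomm) hqA
  obtain ⟨nK, hnK'⟩ : ∃ n, n = Nat.card {θ : IrrCharacter B // RelB B H (θ : B → ℂ) ∧ (θ : B → ℂ) 1 = e ∧
    ∀ x : B, (x : G) ∈ K ⊔ ⁅H, H⁆ → (θ : B → ℂ) x = (θ : B → ℂ) 1} := ⟨_, rfl⟩
  obtain ⟨nA, hnA'⟩ : ∃ n, n = Nat.card {θ : IrrCharacter B // RelB B H (θ : B → ℂ) ∧ (θ : B → ℂ) 1 = e ∧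
    ∀ x : B, (x : G) ∈ A ⊔ ⁅H, H⁆ → (θ : B → ℂ) x = (θ : B → ℂ) 1} := ⟨_, rfl⟩
  rw [← hnK'] at hnK
  rw [← hnA'] at hnA
  have hnK0 : nK ≠ 0 := by rintro h0; rw [h0] at hnK; omega
  have hnA0 : nA ≠ 0 := by rintro h0; rw [h0] at hnA; omega
  have hqA2 : e + 1 ≤ qA := by
    rw [← hnA]
    have : 1 * e ≤ nA * e := Nat.mul_le_mul_right _ (Nat.one_le_iff_ne_zero.mpr hnA0)
    omega
  have hqK2 : e + 1 ≤ qK := by
    rw [← hnK]
    have : 1 * e ≤ nK * e := Nat.mul_le_mul_right _ (Nat.one_le_iff_ne_zero.mpr hnK0)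
    omega
  -- divisibilities
  have dK : qK ∣ Nat.card A := by
    obtain ⟨r, hr⟩ := Subgroup.card_dvd_of_le (le_sup_left : K ≤ K ⊔ ⁅H, H⁆)
    rw [hr, ← hAK] at hqK
    have h1 : Nat.card K * (qK * r) = Nat.card K * Nat.card A := by
      rw [mul_comm (Nat.card K) (Nat.card A), ← hqK]; ring
    exact ⟨r, (Nat.eq_of_mul_eq_mul_left Nat.card_pos h1).symm⟩
  have dA : qA ∣ Nat.card K := by
    obtain ⟨r, hr⟩ := Subgroup.card_dvd_of_le (le_sup_left : A ≤ A ⊔ ⁅H, H⁆)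
    rw [hr, ← hAK] at hqA
    have h1 : Nat.card A * (qA * r) = Nat.card A * Nat.card K := by
      rw [← hqA]; ring
    exact ⟨r, (Nat.eq_of_mul_eq_mul_left Nat.card_pos h1).symm⟩
  have dK' : qK ∣ q := by
    obtain ⟨r, hr⟩ := Subgroup.card_dvd_of_le (le_sup_right : ⁅H, H⁆ ≤ K ⊔ ⁅H, H⁆)
    rw [hr, ← hq] at hqK
    have h1 : Nat.card (⁅H, H⁆ : Subgroup G) * (qK * r) = Nat.card (⁅H, H⁆ : Subgroup G) * q := by
      rw [mul_comm _ q, ← hqK]; ring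
    exact ⟨r, (Nat.eq_of_mul_eq_mul_left Nat.card_pos h1).symm⟩
  have dA' : qA ∣ q := by
    obtain ⟨r, hr⟩ := Subgroup.card_dvd_of_le (le_sup_right : ⁅H, H⁆ ≤ A ⊔ ⁅H, H⁆)
    rw [hr, ← hq] at hqA
    have h1 : Nat.card (⁅H, H⁆ : Subgroup G) * (qA * r) = Nat.card (⁅H, H⁆ : Subgroup G) * q := by
      rw [mul_comm _ q, ← hqA]; ring
    exact ⟨r, (Nat.eq_of_mul_eq_mul_left Nat.card_pos h1).symm⟩
  have hqpos : 0 < q := by
    rcases Nat.eq_zero_or_pos q with h0 | h0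
    · rw [h0, zero_mul] at hq; omega
    · exact h0
  have hqprod : qK * qA ≤ q := Nat.le_of_dvd hqpos
    (Nat.Coprime.mul_dvd_of_dvd_of_dvd (Nat.Coprime.coprime_dvd_left dK (Nat.Coprime.coprime_dvd_right dA hcop)) dK' dA')
  have hzq : Nat.card Z * (e + 1) ≤ q := le_trans (Nat.mul_le_mul hZq hqA2) hqprod
  have hn2 : s + 2 < n := by
    by_contra hcon
    push Not at hcon
    have h1 : (e + 1) * (e + 1) ≤ q := le_trans (Nat.mul_le_mul hqK2 hqA2) hqprod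
    have h2 : n * e ≤ (s + 2) * e := Nat.mul_le_mul_right _ hcon
    rw [← hn, hs] at h1
    rw [hs] at h2
    nlinarith
  have hcard : Fintype.card {θ : IrrCharacter B // RelB B H (θ : B → ℂ) ∧ (θ : B → ℂ) 1 = e} = n := by
    rw [hn', Nat.card_eq_fintype_card]
  obtain ⟨X, S⟩ := sf_of_card D (th := fun θ : {θ : IrrCharacter B // RelB B H (θ : B → ℂ) ∧ (θ : B → ℂ) 1 = e} =>
      ((θ : IrrCharacter B) : B → ℂ)) (fun a b hab => Subtype.ext (Subtype.ext hab)) (fun θ => θ.2.1) (fun θ => θ.2.2)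
      hs (by rw [hcard]; exact hn2)
  have hker : ∀ θ : {θ : IrrCharacter B // RelB B H (θ : B → ℂ) ∧ (θ : B → ℂ) 1 = e}, ∀ z (hz : z ∈ Z),
      ((θ : IrrCharacter B) : B → ℂ) ⟨z, D.hHB (hZH hz)⟩ = e := fun θ z hz =>
    (ker_of_deg D θ.2.1 θ.2.2 _ (hZH' hz)).trans θ.2.2
  obtain ⟨⟨θK, rK, degK, kerK⟩⟩ : Nonempty {θ : IrrCharacter B // RelB B H (θ : B → ℂ) ∧ (θ : B → ℂ) 1 = e ∧
      ∀ x : B, (x : G) ∈ K ⊔ ⁅H, H⁆ → (θ : B → ℂ) x = (θ : B → ℂ) 1} := by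
    rw [hnK'] at hnK0
    exact (Nat.card_ne_zero.mp hnK0).1
  obtain ⟨⟨θA, rA, degA, kerA⟩⟩ : Nonempty {θ : IrrCharacter B // RelB B H (θ : B → ℂ) ∧ (θ : B → ℂ) 1 = e ∧
      ∀ x : B, (x : G) ∈ A ⊔ ⁅H, H⁆ → (θ : B → ℂ) x = (θ : B → ℂ) 1} := by
    rw [hnA'] at hnA0
    exact (Nat.card_ne_zero.mp hnA0).1
  have : Fintype A := Fintype.ofFinite _
  have : Fintype K := Fintype.ofFinite _
  have hsumK : ∑ u : K, (θA : B → ℂ) ⟨u, D.hHB (hKH u.2)⟩ = 0 := by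
    rcases tv_cases (hKH.trans D.hHB) hKB θA.2 with h1 | h1
    · exfalso
      exact not_both D hAH hKH hAK hcop rA (fun x hx => kerA x (le_sup_left (a := A) hx)) (fun x hx => h1.1 x hx)
    · rw [tv, sub_eq_self, mul_eq_zero] at h1
      exact h1.resolve_left (inv_ne_zero (by exact_mod_cast Nat.card_pos.ne'))
  have hsumA : ∑ u : A, (θK : B → ℂ) ⟨u, D.hHB (hAH u.2)⟩ = 0 := by
    rcases tv_cases (hAH.trans D.hHB) hAB θK.2 with h1 | h1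
    · exfalso
      exact not_both D hAH hKH hAK hcop rK (fun x hx => h1.1 x hx) (fun x hx => kerK x (le_sup_left (a := K) hx))
    · rw [tv, sub_eq_self, mul_eq_zero] at h1
      exact h1.resolve_left (inv_ne_zero (by exact_mod_cast Nat.card_pos.ne'))
  obtain ⟨iK, hiK⟩ : ∃ i : {θ : IrrCharacter B // RelB B H (θ : B → ℂ) ∧ (θ : B → ℂ) 1 = e}, i = ⟨θK, rK, degK⟩ :=
    ⟨_, rfl⟩
  obtain ⟨iA, hiA⟩ : ∃ i : {θ : IrrCharacter B // RelB B H (θ : B → ℂ) ∧ (θ : B → ℂ) 1 = e}, i = ⟨θA, rA, degA⟩ :=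
    ⟨_, rfl⟩
  have c1 := cong_ZU D hZH hZ S hker hKH hKB (i := iK) (j := iA)
    (fun u hu => by rw [hiK]; exact (kerK _ (le_sup_left (a := K) hu)).trans degK) (by rw [hiA]; exact hsumK)
  have c2 := cong_ZU D hZH hZ S hker hAH hAB (i := iA) (j := iK)
    (fun u hu => by rw [hiA]; exact (kerA _ (le_sup_left (a := A) hu)).trans degA) (by rw [hiK]; exact hsumA)
  rw [S.yy_eq D hZH hker iA iK] at c2
  obtain ⟨c, hc⟩ : ∃ c : ℤ, yy Z (X iK : G → ℂ) = c := ⟨_, rfl⟩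
  have hI := S.ineq D hZH hZ hw hker hs iK hc
  have hc0 : 0 < c := by rw [← hc]; exact yy_pos D hZH hZ hw (S.mem iK) hZ1
  have d1 : (e : ℤ) ∣ c := by rw [← hc]; exact yy_dvd D hZH hZ hw (IsIrr.isCharacter (X iK).2)
  rw [hc] at c1 c2
  obtain ⟨c', rfl⟩ := Int.eq_ofNat_of_zero_le hc0.le
  have d1' : e ∣ c' := by exact_mod_cast d1
  have hc0' : 0 < c' := by exact_mod_cast hc0
  have c1' : h ∣ e ^ 2 * Nat.card Z * Nat.card K * c' := by exact_mod_cast c1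
  have c2' : h ∣ e ^ 2 * Nat.card Z * Nat.card A * c' := by exact_mod_cast c2
  have hcop2 : h.Coprime (e ^ 2) := (Nat.Coprime.pow_left 2 hcopeh).symm
  have c1'' : h ∣ (Nat.card Z * c') * Nat.card K := by
    apply hcop2.dvd_of_dvd_mul_left
    have : e ^ 2 * (Nat.card Z * c' * Nat.card K) = e ^ 2 * Nat.card Z * Nat.card K * c' := by ring
    rw [this]; exact c1'
  have c2'' : h ∣ (Nat.card Z * c') * Nat.card A := by
    apply hcop2.dvd_of_dvd_mul_left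
    have : e ^ 2 * (Nat.card Z * c' * Nat.card A) = e ^ 2 * Nat.card Z * Nat.card A * c' := by ring
    rw [this]; exact c2'
  have c3 : h ∣ Nat.card Z * c' := by
    have h1 := Nat.dvd_gcd c1'' c2''
    rwa [Nat.gcd_mul_left, hcop.symm, mul_one] at h1
  have d3 : w ∣ c' := by
    rw [← hw, mul_comm w] at c3
    exact (Nat.mul_dvd_mul_iff_left Nat.card_pos).mp c3
  have hwh : w ∣ h := ⟨_, hw.symm⟩
  have d4 : e * w ∣ c' := Nat.Coprime.mul_dvd_of_dvd_of_dvd (Nat.Coprime.coprime_dvd_right hwh hcopeh) d1' d3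
  have d6 := Nat.le_of_dvd hc0' d4
  rw [hcard, ← hw] at hI
  have hz0 : 0 < Nat.card Z := Nat.card_pos
  refine num_mix s n w (Nat.card Z) q e c' (by rw [hs]; push_cast; ring) (by exact_mod_cast hn) (by omega) (by positivity)
    (by omega) (by omega) (by exact_mod_cast hzq) (by exact_mod_cast d6) ?_
  push_cast at hI
  exact hI

end Mix2

end Cfsg.Agent.H3.Feit
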