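import Mathlib

/-!
# Order of a minimal normal abelian section on which a group acts through commuting automorphisms
-/

set_option autoImplicit false

namespace Cfsg.Agent.H3.IrrMod

open Polynomial

theorem card_le_of_irred {V : Type*} [AddCommGroup V] [Finite V] {E : Type*} [Group E]
    (f : E →* AddMonoid.End V) (hcomm : ∀ a b : E, f a * f b = f b * f a)
    (hirr : ∀ U : AddSubgroup V, (∀ (e : E), ∀ v ∈ U, f e v ∈ U) → U = ⊥ ∨ U = ⊤)
    {p : ℕ} (hp : p.Prime) (hpV : ∀ v : V, p • v = 0) {k : ℕ} (hk : k ≠ 0) (hE : ∀ e : E, f e ^ (p ^ k) = f e)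
    {v₀ : V} (hv₀ : v₀ ≠ 0) : Nat.card V ≤ p ^ k := by
  classical
  let s : Set (AddMonoid.End V) := Set.range f
  let R := Subring.closure s
  have hs : ∀ x ∈ s, ∀ y ∈ s, x * y = y * x := by
    rintro _ ⟨a, rfl⟩ _ ⟨b, rfl⟩
    exact hcomm a b
  let : CommRing R := Subring.closureCommRingOfComm hs
  have hfR : ∀ e, f e ∈ R := fun e => Subring.subset_closure ⟨e, rfl⟩
  -- the orbit subgroup
  have horb : ∀ v : V, v ≠ 0 → ∀ w : V, ∃ r ∈ R, r v = w := by
    intro v hv
    let U : AddSubgroup V :=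
      { carrier := {w | ∃ r ∈ R, r v = w}
        add_mem' := by
          rintro _ _ ⟨r, hr, rfl⟩ ⟨r', hr', rfl⟩
          exact ⟨r + r', R.add_mem hr hr', rfl⟩
        zero_mem' := ⟨0, R.zero_mem, rfl⟩
        neg_mem' := by
          rintro _ ⟨r, hr, rfl⟩
          exact ⟨-r, R.neg_mem hr, rfl⟩ }
    have h2 : U = ⊤ := by
      rcases hirr U (by
        rintro e _ ⟨r, hr, rfl⟩
        exact ⟨f e * r, R.mul_mem (hfR e) hr, rfl⟩) with h | h
      · exfalso
        apply hv
        have : v ∈ U := ⟨1, R.one_mem, rfl⟩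
        rw [h] at this
        exact this
      · exact h
    intro w
    have : w ∈ U := by rw [h2]; trivial
    exact this
  have hcommR : ∀ r ∈ R, ∀ t ∈ R, r * t = t * r := by
    intro r hr t ht
    exact congrArg Subtype.val (mul_comm (⟨r, hr⟩ : R) ⟨t, ht⟩)
  have hzero : ∀ r ∈ R, ∀ v : V, v ≠ 0 → r v = 0 → r = 0 := by
    intro r hr v hv hrv
    ext w
    obtain ⟨t, ht, rfl⟩ := horb v hv w
    have : (r * t) v = (t * r) v := by rw [hcommR r hr t ht]
    change r (t v) = t (r v) at this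
    rw [this, hrv, map_zero]
    rfl
  have : Finite R := by
    apply Finite.of_injective (fun r : R => r.1 v₀)
    intro r t hrt
    have h1 : (r.1 - t.1) v₀ = 0 := by
      change r.1 v₀ - t.1 v₀ = 0
      exact sub_eq_zero.2 hrt
    have h2 := hzero (r.1 - t.1) (R.sub_mem r.2 t.2) v₀ hv₀ h1
    exact Subtype.ext (sub_eq_zero.1 h2)
  have : Nontrivial R := ⟨0, 1, fun h => hv₀ (by
    have : (0 : AddMonoid.End V) = 1 := congrArg Subtype.val h
    have h2 := DFunLike.congr_fun this v₀
    exact h2.symm)⟩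
  have : NoZeroDivisors R := ⟨by
    intro r t hrt
    by_cases ht : t = 0
    · exact Or.inr ht
    · left
      have h1 : t.1 v₀ ≠ 0 := fun h => ht (Subtype.ext (hzero t.1 t.2 v₀ hv₀ h))
      have h2 : r.1 (t.1 v₀) = 0 := by
        have : (r * t : R).1 v₀ = 0 := by rw [hrt]; rfl
        exact this
      exact Subtype.ext (hzero r.1 r.2 _ h1 h2)⟩
  have : IsDomain R := NoZeroDivisors.to_isDomain R
  have hcard : Nat.card R = Nat.card V := by
    apply Nat.card_congr
    apply Equiv.ofBijective (fun r : R => r.1 v₀)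
    constructor
    · intro r t hrt
      have h1 : (r.1 - t.1) v₀ = 0 := by
        change r.1 v₀ - t.1 v₀ = 0
        exact sub_eq_zero.2 hrt
      have h2 := hzero (r.1 - t.1) (R.sub_mem r.2 t.2) v₀ hv₀ h1
      exact Subtype.ext (sub_eq_zero.1 h2)
    · intro w
      obtain ⟨r, hr, hrw⟩ := horb v₀ hv₀ w
      exact ⟨⟨r, hr⟩, hrw⟩
  have hpR : (p : R) = 0 := by
    apply Subtype.ext
    ext v
    have : ((p : R) : AddMonoid.End V) = (p : AddMonoid.End V) := by simp
    rw [this]
    have h2 : ((p : ℕ) : AddMonoid.End V) v = p • v := by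
      rw [← nsmul_one]
      rfl
    rw [h2, hpV]
    rfl
  have : Fact p.Prime := ⟨hp⟩
  have : CharP R p := (CharP.charP_iff_prime_eq_zero hp).mpr hpR
  -- all elements are fixed by the power map
  have hfix : ∀ r : R, r ^ (p ^ k) = r := by
    rintro ⟨r, hr⟩
    induction hr using Subring.closure_induction with
    | mem x hx =>
      obtain ⟨e, rfl⟩ := hx
      exact Subtype.ext (hE e)
    | zero => 
      change (0 : R) ^ (p ^ k) = 0
      exact zero_pow (pow_ne_zero _ hp.ne_zero)
    | one => 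
      change (1 : R) ^ (p ^ k) = 1
      exact one_pow _
    | add x y hx hy ihx ihy =>
      change ((⟨x, hx⟩ : R) + ⟨y, hy⟩) ^ (p ^ k) = ⟨x, hx⟩ + ⟨y, hy⟩
      rw [add_pow_char_pow, ihx, ihy]
    | neg x hx ihx =>
      change (-(⟨x, hx⟩ : R)) ^ (p ^ k) = -⟨x, hx⟩
      rw [← zero_sub, sub_pow_char_pow, ihx, zero_pow (pow_ne_zero _ hp.ne_zero)]
    | mul x y hx hy ihx ihy =>
      change ((⟨x, hx⟩ : R) * ⟨y, hy⟩) ^ (p ^ k) = ⟨x, hx⟩ * ⟨y, hy⟩
      rw [mul_pow, ihx, ihy]
  have hq1 : 1 < p ^ k := Nat.one_lt_pow hk hp.one_lt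
  let : Fintype R := Fintype.ofFinite R
  obtain ⟨P, hP⟩ : ∃ P : R[X], P = X ^ (p ^ k) - X := ⟨_, rfl⟩
  have hdeg : P.natDegree = p ^ k := by
    rw [hP, Polynomial.natDegree_sub_eq_left_of_natDegree_lt, Polynomial.natDegree_X_pow]
    rw [Polynomial.natDegree_X_pow, Polynomial.natDegree_X]
    exact hq1
  have hP0 : P ≠ 0 := by
    rintro h
    rw [h, Polynomial.natDegree_zero] at hdeg
    omega
  rw [← hcard, Nat.card_eq_fintype_card, ← hdeg]
  have h1 : (Finset.univ : Finset R) ⊆ P.roots.toFinset := by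
    intro r _
    rw [Multiset.mem_toFinset, Polynomial.mem_roots hP0, Polynomial.IsRoot, hP]
    simp [hfix r]
  calc Fintype.card R = (Finset.univ : Finset R).card := (Finset.card_univ).symm
    _ ≤ P.roots.toFinset.card := Finset.card_le_card h1
    _ ≤ Multiset.card P.roots := Multiset.toFinset_card_le _
    _ ≤ P.natDegree := Polynomial.card_roots' P

/-- the order of a minimal `B`-invariant subgroup -/
theorem card_min_le {G : Type*} [Group G] {B Z : Subgroup G} [Finite Z] (hZ : ∀ b ∈ B, ∀ z ∈ Z, b * z * b⁻¹ ∈ Z)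
    (hZab : ∀ x ∈ Z, ∀ y ∈ Z, x * y = y * x) {p : ℕ} (hp : p.Prime) (hpZ : ∀ z ∈ Z, z ^ p = 1) (hZ1 : Z ≠ ⊥)
    (hmin : ∀ U : Subgroup G, U ≤ Z → (∀ b ∈ B, ∀ z ∈ U, b * z * b⁻¹ ∈ U) → U = ⊥ ∨ U = Z)
    (hcomm : ∀ a ∈ B, ∀ b ∈ B, ∀ z ∈ Z, (a * b) * z * (a * b)⁻¹ = (b * a) * z * (b * a)⁻¹)
    {k : ℕ} (hk : k ≠ 0) (hE : ∀ b ∈ B, ∀ z ∈ Z, b ^ (p ^ k) * z * (b ^ (p ^ k))⁻¹ = b * z * b⁻¹) :
    Nat.card Z ≤ p ^ k := by
  let : CommGroup Z := { (inferInstance : Group Z) with
    mul_comm := fun a b => Subtype.ext (hZab a a.2 b b.2) }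
  let f : B →* AddMonoid.End (Additive Z) :=
    { toFun := fun b => 
        { toFun := fun z => Additive.ofMul ⟨(b : G) * (Additive.toMul z : Z) * (b : G)⁻¹, hZ b b.2 _ (Additive.toMul z).2⟩
          map_zero' := by
            change Additive.ofMul (⟨(b : G) * ((1 : Z) : G) * (b : G)⁻¹, _⟩ : Z) = Additive.ofMul 1
            congr 1
            apply Subtype.ext
            simp
          map_add' := by
            intro x y
            change Additive.ofMul (⟨(b : G) * ((Additive.toMul x * Additive.toMul y : Z) : G) * (b : G)⁻¹, _⟩ : Z) =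
              Additive.ofMul (_ * _)
            congr 1
            apply Subtype.ext
            change (b : G) * (((Additive.toMul x : Z) : G) * ((Additive.toMul y : Z) : G)) * (b : G)⁻¹ =
              ((b : G) * ((Additive.toMul x : Z) : G) * (b : G)⁻¹) * ((b : G) * ((Additive.toMul y : Z) : G) * (b : G)⁻¹)
            group }
      map_one' := by
        ext z
        apply congrArg
        apply Subtype.ext
        simp only [OneMemClass.coe_one, one_mul, inv_one, mul_one]
        rfl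
      map_mul' := by
        intro a b
        ext z
        apply congrArg
        apply Subtype.ext
        change ((a * b : B) : G) * (Additive.toMul z : Z) * ((a * b : B) : G)⁻¹ = (a : G) * ((b : G) * (Additive.toMul z : Z) * (b : G)⁻¹) * (a : G)⁻¹
        simp only [Subgroup.coe_mul]
        group }
  have hf : ∀ (b : B) (z : Additive Z), ((Additive.toMul (f b z) : Z) : G) = (b : G) * (Additive.toMul z : Z) * (b : G)⁻¹ :=
    fun b z => rfl
  have hext : ∀ φ ψ : AddMonoid.End (Additive Z), (∀ z : Additive Z, ((Additive.toMul (φ z) : Z) : G) = (Additive.toMul (ψ z) : Z)) → φ = ψ := by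
    intro φ ψ h
    ext z
    apply congrArg
    exact Subtype.ext (h z)
  obtain ⟨z₀, hz₀1⟩ : ∃ a : Z, a ≠ 1 := Subgroup.ne_bot_iff_exists_ne_one.mp hZ1
  have := card_le_of_irred (V := Additive Z) f ?_ ?_ hp ?_ hk ?_ (v₀ := Additive.ofMul z₀) ?_
  · exact this
  · intro a b
    rw [← map_mul, ← map_mul]
    apply hext
    intro z
    rw [hf, hf]
    exact hcomm a a.2 b b.2 _ (Additive.toMul z).2
  · intro U hU
    obtain ⟨U', hU'⟩ : ∃ U' : Subgroup G, U' = (AddSubgroup.toSubgroup' U).map Z.subtype := ⟨_, rfl⟩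
    have hmemU : ∀ z : Z, (z : G) ∈ U' ↔ Additive.ofMul z ∈ U := by
      intro z
      rw [hU']
      constructor
      · rintro ⟨y, hy, hyz⟩
        have : y = z := Subtype.ext hyz
        rw [← this]; exact hy
      · intro h
        exact ⟨z, h, rfl⟩
    have hUZ : U' ≤ Z := by
      rw [hU']
      rintro _ ⟨y, -, rfl⟩
      exact y.2
    rcases hmin U' hUZ (by
      intro b hb z hz
      have h1 := (hmemU ⟨z, hUZ hz⟩).mp hz
      have h2 := hU ⟨b, hb⟩ _ h1
      exact (hmemU ⟨b * z * b⁻¹, hZ b hb z (hUZ hz)⟩).mpr h2) with h | h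
    · left
      rw [eq_bot_iff]
      intro z hz
      have h1 := (hmemU (Additive.toMul z)).mpr hz
      rw [h, Subgroup.mem_bot] at h1
      rw [AddSubgroup.mem_bot]
      have h2 : Additive.toMul z = (1 : Z) := Subtype.ext h1
      exact h2
    · right
      rw [eq_top_iff]
      intro z _
      have h1 : ((Additive.toMul z : Z) : G) ∈ U' := by rw [h]; exact (Additive.toMul z).2
      exact (hmemU (Additive.toMul z)).mp h1
  · intro v
    have h1 : (Additive.toMul v : Z) ^ p = 1 := Subtype.ext (hpZ _ (Additive.toMul v).2)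
    rw [← toMul_nsmul] at h1
    exact h1
  · intro b
    rw [← map_pow]
    apply hext
    intro z
    rw [hf, hf]
    have h1 := hE b b.2 _ (Additive.toMul z).2
    rw [Subgroup.coe_pow]
    exact h1
  · intro h
    apply hz₀1
    exact h

end Cfsg.Agent.H3.IrrMod
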