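import Mathlib
import Cfsg.Agent.H1_Nilp
import Cfsg.Agent.H3_IrrMod
import Cfsg.Agent.H3_NilpSplit
import Cfsg.Agent.H3_Feit13

/-!
# Feit's theorem on Zassenhaus groups: group theoretic preparations
-/

set_option autoImplicit false

namespace Cfsg.Agent.H3.FeitG

open Cfsg Cfsg.Agent.H3.Feit
open scoped commutatorElement

section Gen

variable {G : Type*} [Group G] [Finite G] {B H : Subgroup G}

theorem exists_min {Ω : Subgroup G} (hΩ : Ω ≠ ⊥) (hinv : ∀ b ∈ B, ∀ z ∈ Ω, b * z * b⁻¹ ∈ Ω) :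
    ∃ Z ≤ Ω, Z ≠ ⊥ ∧ (∀ b ∈ B, ∀ z ∈ Z, b * z * b⁻¹ ∈ Z) ∧
      ∀ U : Subgroup G, U ≤ Z → (∀ b ∈ B, ∀ z ∈ U, b * z * b⁻¹ ∈ U) → U = ⊥ ∨ U = Z := by
  classical
  obtain ⟨Z, ⟨hZ1, hZ2, hZ3⟩, hmin⟩ := Set.exists_min_image {U : Subgroup G | U ≤ Ω ∧ U ≠ ⊥ ∧
    ∀ b ∈ B, ∀ z ∈ U, b * z * b⁻¹ ∈ U} (fun U => Nat.card U) (Set.toFinite _) ⟨Ω, le_rfl, hΩ, hinv⟩
  refine ⟨Z, hZ1, hZ2, hZ3, fun U hU hUB => ?_⟩
  by_cases hU1 : U = ⊥
  · left; exact hU1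
  · right
    exact Subgroup.eq_of_le_of_card_ge hU (hmin U ⟨hU.trans hZ1, hU1, hUB⟩)

theorem exists_Z (hHn : ∀ b ∈ B, ∀ u ∈ H, b * u * b⁻¹ ∈ H) (hnil : Group.IsNilpotent H)
    (hna : ∃ u v : H, u * v ≠ v * u) : ∃ (r : ℕ) (Z : Subgroup G), r.Prime ∧ Z ≤ H ∧ Z ≤ ⁅H, H⁆ ∧ Z ≠ ⊥ ∧
      (∀ b ∈ B, ∀ z ∈ Z, b * z * b⁻¹ ∈ Z) ∧ (∀ z ∈ Z, ∀ u ∈ H, u * z = z * u) ∧ (∀ z ∈ Z, z ^ r = 1) ∧
      ∀ U : Subgroup G, U ≤ Z → (∀ b ∈ B, ∀ z ∈ U, b * z * b⁻¹ ∈ U) → U = ⊥ ∨ U = Z := by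
  classical
  obtain ⟨C, hC⟩ : ∃ C : Subgroup G, C = Subgroup.centralizer (H : Set G) ⊓ ⁅H, H⁆ := ⟨_, rfl⟩
  have hcomm := inv_comm hHn hHn
  have hCB : ∀ b ∈ B, ∀ z ∈ C, b * z * b⁻¹ ∈ C := by
    intro b hb z hz
    rw [hC] at hz ⊢
    rw [Subgroup.mem_inf] at hz ⊢
    refine ⟨?_, hcomm b hb z hz.2⟩
    have h1 := hz.1
    rw [Subgroup.mem_centralizer_iff] at h1 ⊢
    intro u hu
    have h2 := h1 _ (hHn _ (B.inv_mem hb) u hu)
    calc u * (b * z * b⁻¹) = b * ((b⁻¹ * u * b⁻¹⁻¹) * z) * b⁻¹ := by group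
      _ = b * (z * (b⁻¹ * u * b⁻¹⁻¹)) * b⁻¹ := by rw [h2]
      _ = b * z * b⁻¹ * u := by group
  have hCc : ∀ z ∈ C, ∀ u ∈ H, u * z = z * u := by
    intro z hz u hu
    rw [hC] at hz
    exact (Subgroup.mem_centralizer_iff.mp hz.1) u hu
  have hCH : C ≤ H := by
    rw [hC]; exact inf_le_right.trans (comm_le H)
  have hC1 : C ≠ ⊥ := by
    have hc : commutator H ≠ ⊥ := by
      intro h1
      obtain ⟨u, v, huv⟩ := hna
      apply huv
      have h2 : ⁅u, v⁆ ∈ commutator H := Subgroup.commutator_mem_commutator (Subgroup.mem_top u) (Subgroup.mem_top v)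
      rw [h1, Subgroup.mem_bot] at h2
      exact commutatorElement_eq_one_iff_mul_comm.mp h2
    have h2 := Cfsg.Agent.H1.Nilp.normal_inf_center_ne_bot (commutator H) hc
    obtain ⟨⟨z, hz⟩, hz1⟩ := Subgroup.ne_bot_iff_exists_ne_one.mp h2
    intro h3
    apply hz1
    have h4 : (z : G) ∈ C := by
      rw [hC, Subgroup.mem_inf]
      refine ⟨?_, ?_⟩
      · rw [Subgroup.mem_centralizer_iff]
        intro u hu
        have := Subgroup.mem_center_iff.mp hz.2 ⟨u, hu⟩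
        exact congrArg Subtype.val this
      · have : (z : G) ∈ (commutator H).map H.subtype := ⟨z, hz.1, rfl⟩
        rw [Subgroup.map_subtype_commutator] at this
        exact this
    rw [h3, Subgroup.mem_bot] at h4
    exact Subtype.ext (Subtype.ext h4)
  have hCcard : Nat.card C ≠ 1 := fun h => hC1 (Subgroup.eq_bot_of_card_eq _ h)
  obtain ⟨r, hr, hrC⟩ := Nat.exists_prime_and_dvd hCcard
  have := Fact.mk hr
  obtain ⟨z₀, hz₀⟩ := exists_prime_orderOf_dvd_card' r hrC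
  obtain ⟨Ω, hΩ⟩ : ∃ Ω : Subgroup G, ∀ z, z ∈ Ω ↔ z ∈ C ∧ z ^ r = 1 :=
    ⟨{ carrier := {z | z ∈ C ∧ z ^ r = 1}
       mul_mem' := by
        rintro a b ⟨ha, ha'⟩ ⟨hb, hb'⟩
        refine ⟨C.mul_mem ha hb, ?_⟩
        rw [(show Commute a b from hCc b hb a (hCH ha)).mul_pow, ha', hb', one_mul]
       one_mem' := ⟨C.one_mem, one_pow _⟩
       inv_mem' := by
        rintro a ⟨ha, ha'⟩
        exact ⟨C.inv_mem ha, by rw [inv_pow, ha', inv_one]⟩ }, fun z => Iff.rfl⟩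
  have hΩ1 : Ω ≠ ⊥ := by
    intro h1
    have h2 : (z₀ : G) ∈ Ω := by
      rw [hΩ]
      refine ⟨z₀.2, ?_⟩
      have := pow_orderOf_eq_one z₀
      rw [hz₀] at this
      exact congrArg Subtype.val this
    rw [h1, Subgroup.mem_bot] at h2
    have : z₀ = 1 := Subtype.ext h2
    rw [this, orderOf_one] at hz₀
    exact hr.one_lt.ne hz₀
  have hΩB : ∀ b ∈ B, ∀ z ∈ Ω, b * z * b⁻¹ ∈ Ω := by
    intro b hb z hz
    rw [hΩ] at hz ⊢
    refine ⟨hCB b hb z hz.1, ?_⟩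
    rw [conj_pow, hz.2]; group
  obtain ⟨Z, hZ1, hZ2, hZ3, hZ4⟩ := exists_min hΩ1 hΩB
  have hΩC : Ω ≤ C := fun z hz => ((hΩ z).mp hz).1
  refine ⟨r, Z, hr, (hZ1.trans hΩC).trans hCH, (hZ1.trans hΩC).trans (by rw [hC]; exact inf_le_right), hZ2, hZ3,
    fun z hz => hCc z (hΩC (hZ1 hz)), fun z hz => ((hΩ z).mp (hZ1 hz)).2, hZ4⟩

/-- proper normal subgroups do not supplement the commutator subgroup -/
theorem sup_comm_ne {K : Subgroup G} (hKH : K ≤ H) (hKn : ∀ b ∈ H, ∀ z ∈ K, b * z * b⁻¹ ∈ K) (hsolv : Group.IsSolvable H)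
    (hK : K ≠ H) : K ⊔ ⁅H, H⁆ ≠ H := by
  intro h1
  have hn : (K.subgroupOf H).Normal := by
    refine ⟨fun u hu b => ?_⟩
    rw [Subgroup.mem_subgroupOf] at *
    exact hKn b b.2 u hu
  have h2 : commutator (H ⧸ K.subgroupOf H) = ⊤ := by
    have h3 : (commutator H).map (QuotientGroup.mk' (K.subgroupOf H)) = commutator (H ⧸ K.subgroupOf H) := by
      rw [commutator_def, commutator_def, Subgroup.map_commutator,
        Subgroup.map_top_of_surjective _ (QuotientGroup.mk'_surjective _)]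
    have h4 : K.subgroupOf H ⊔ commutator H = ⊤ := by
      have h5 : (K.subgroupOf H ⊔ commutator H).map H.subtype = (⊤ : Subgroup H).map H.subtype := by
        rw [Subgroup.map_sup, Subgroup.map_subtype_commutator, Subgroup.map_subgroupOf_eq_of_le hKH, h1,
          ← MonoidHom.range_eq_map, Subgroup.range_subtype]
      exact Subgroup.map_injective H.subtype_injective h5
    rw [← h3]
    have h6 : (K.subgroupOf H ⊔ commutator H).map (QuotientGroup.mk' (K.subgroupOf H)) = ⊤ := by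
      rw [h4, Subgroup.map_top_of_surjective _ (QuotientGroup.mk'_surjective _)]
    rw [Subgroup.map_sup] at h6
    have h7 : (K.subgroupOf H).map (QuotientGroup.mk' (K.subgroupOf H)) = ⊥ := by
      rw [Subgroup.map_eq_bot_iff, QuotientGroup.ker_mk']
    rwa [h7, bot_sup_eq] at h6
  have h3 : Nontrivial (H ⧸ K.subgroupOf H) := by
    rw [QuotientGroup.nontrivial_iff]
    intro h4
    apply hK
    apply le_antisymm hKH
    rwa [Subgroup.subgroupOf_eq_top] at h4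
  have h4 : Group.IsSolvable (H ⧸ K.subgroupOf H) := inferInstance
  have h5 := Group.IsSolvable.commutator_lt_top_of_nontrivial (H ⧸ K.subgroupOf H)
  rw [h2] at h5
  exact lt_irrefl _ h5

end Gen

end Cfsg.Agent.H3.FeitG
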