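import Mathlib
import Cfsg.Prelude.Def_Characters
import Cfsg.Agent.H3_Feit13
import Cfsg.Agent.H3_FeitG

/-!
# Feit's theorem on Zassenhaus groups: the core
-/

set_option autoImplicit false

open scoped ComplexConjugate

namespace Cfsg.Agent.H3.Feit

open Cfsg Cfsg.Agent.H3.CharBasic Cfsg.Agent.H3.CharIrr Cfsg.Agent.H3.CharInt Cfsg.Agent.H3.CharCalc
  Cfsg.Agent.H3.CharComplete Cfsg.Agent.H3.CharInd Cfsg.Agent.H3.CharTI Cfsg.Agent.H3.CharMult
  Cfsg.Agent.H3.Clifford Cfsg.Agent.H3.CharQuot Cfsg.Agent.H3.FeitG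

section Core

variable {G : Type*} [Group G] [Fintype G] {B H : Subgroup G} {St : G → ℂ} {e h : ℕ}
  (D : FD B H St e h)

include D

/-- the complement acts freely on invariant subgroups -/
theorem free_dvd {E : Subgroup G} (hEB : E ≤ B) (cE : Nat.card E = e) (hEH : E ⊓ H = ⊥) {M : Subgroup G} (hMH : M ≤ H)
    (hM : ∀ b ∈ B, ∀ z ∈ M, b * z * b⁻¹ ∈ M) : ∃ m, Nat.card M = m * e + 1 := by
  classical
  have : Fintype E := Fintype.ofFinite _
  let T := {u : M // u ≠ 1}
  have : Fintype T := Fintype.ofFinite _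
  let _ : MulAction E T :=
    { smul := fun k t => ⟨⟨(k : G) * t.1 * (k : G)⁻¹, hM k (hEB k.2) _ t.1.2⟩, by
        intro h1
        apply t.2
        apply Subtype.ext
        have h2 : (k : G) * t.1 * (k : G)⁻¹ = 1 := congrArg Subtype.val h1
        have h3 : ((t.1 : M) : G) = (k : G)⁻¹ * ((k : G) * t.1 * (k : G)⁻¹) * k := by group
        rw [h3, h2]; group; rfl⟩
      one_smul := fun t => by
        apply Subtype.ext; apply Subtype.ext
        change ((1 : E) : G) * t.1 * ((1 : E) : G)⁻¹ = t.1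
        simp
      mul_smul := fun a b t => by
        apply Subtype.ext; apply Subtype.ext
        change ((a * b : E) : G) * t.1 * ((a * b : E) : G)⁻¹ = (a : G) * ((b : G) * t.1 * (b : G)⁻¹) * (a : G)⁻¹
        rw [Subgroup.coe_mul]; group }
  obtain ⟨α, hα, h1⟩ := sum_free (K := E) (T := T) (fun k t hkt => by
      have h2 : (k : G) * t.1 * (k : G)⁻¹ = t.1 := congrArg (fun x : T => ((x.1 : M) : G)) hkt
      have h3 : (k : G) * t.1 = t.1 * k := mul_inv_eq_iff_eq_mul.mp h2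
      have h4 := D.cent t.1 (hMH t.1.2) (fun h5 => t.2 (Subtype.ext h5)) k h3
      have h5 : (k : G) ∈ E ⊓ H := ⟨k.2, h4⟩
      rw [hEH, Subgroup.mem_bot] at h5
      exact Subtype.ext h5) (fun _ => 1) (fun _ _ => rfl) (fun _ => isIntegral_one)
  have he := D.e1
  rw [Finset.sum_const, nsmul_eq_mul, mul_one, Finset.card_univ, ← Nat.card_eq_fintype_card (α := E), cE] at h1
  have h2 := dvd_of_mul_integral (a := (Fintype.card T : ℤ)) (by omega : e ≠ 0) hα (by push_cast; exact h1)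
  have h3 : e ∣ Fintype.card T := by exact_mod_cast h2
  obtain ⟨m, hm⟩ := h3
  refine ⟨m, ?_⟩
  have h4 : Fintype.card T + 1 = Nat.card M := by
    have : Fintype M := Fintype.ofFinite _
    rw [Nat.card_eq_fintype_card]
    have h5 := Fintype.card_subtype_compl (fun u : M => u = 1)
    have h6 : Fintype.card {u : M // u = 1} = 1 := Fintype.card_subtype_eq 1
    rw [h6] at h5
    have h7 : Fintype.card T = Fintype.card {u : M // ¬ u = 1} := Fintype.card_congr (Equiv.refl _)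
    have h8 : 0 < Fintype.card M := Fintype.card_pos
    omega
  rw [← h4, hm, mul_comm]

theorem pow_mem {b : G} (hb : b ∈ B) : b ^ e ∈ H := by
  have := normal_sub D
  have h1 := (H.subgroupOf B).pow_index_mem ⟨b, hb⟩
  rw [index_sub D, Subgroup.mem_subgroupOf] at h1
  exact h1

theorem core {E : Subgroup G} (hEB : E ≤ B) (cE : Nat.card E = e) (hEH : E ⊓ H = ⊥)
    (hnil : Group.IsNilpotent H) (hBab : ∀ a ∈ B, ∀ b ∈ B, a * b * a⁻¹ * b⁻¹ ∈ H)
    (hinv1 : Nat.card {u : H // u * u = 1} ≤ e + 1) :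
    h ≤ 2 * e + 1 ∨ (IsPGroup 2 H ∧ (∃ u v : H, u * v ≠ v * u) ∧ (commutator H).index ≤ 4 * e ^ 2 + 1) := by
  classical
  have : Fintype B := Fintype.ofFinite _
  have : Fintype H := Fintype.ofFinite _
  have : Fintype (IrrCharacter G) := Fintype.ofFinite _
  have hh := D.h1
  have he := D.e1
  by_cases hna : ∃ u v : H, u * v ≠ v * u
  swap
  · left
    push Not at hna
    exact case_abelian D (fun a ha b hb => congrArg Subtype.val (hna ⟨a, ha⟩ ⟨b, hb⟩)) hinv1
  right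
  obtain ⟨r, Z, hr, hZH, hZH', hZ1, hZB, hZc, hZr, hZmin⟩ := exists_Z D.hn hnil hna
  have := Fact.mk hr
  have : Fintype Z := Fintype.ofFinite _
  obtain ⟨w, hw⟩ : ∃ w, w * Nat.card Z = h := by
    obtain ⟨w, hw⟩ := Subgroup.card_dvd_of_le hZH
    exact ⟨w, by rw [mul_comm, ← hw, D.cH]⟩
  obtain ⟨q, hq⟩ : ∃ q, q * Nat.card (⁅H, H⁆ : Subgroup G) = h := by
    obtain ⟨q, hq⟩ := Subgroup.card_dvd_of_le (comm_le H)
    exact ⟨q, by rw [mul_comm, ← hq, D.cH]⟩
  -- `gcd(e, h) = 1`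
  have hcopeh : e.Coprime h := by
    obtain ⟨m, hm⟩ := free_dvd D hEB cE hEH le_rfl D.hn
    rw [D.cH] at hm
    rw [hm]
    simp
  -- the order of `Z`
  obtain ⟨mZ, hmZ⟩ := free_dvd D hEB cE hEH hZH hZB
  have hZ2 : 1 < Nat.card Z := by rw [Subgroup.one_lt_card_iff_ne_bot]; exact hZ1
  have hmZ0 : mZ ≠ 0 := by rintro h0; rw [h0] at hmZ; omega
  have hZe : e + 1 ≤ Nat.card Z := by
    rw [hmZ]
    have : 1 * e ≤ mZ * e := Nat.mul_le_mul_right _ (Nat.one_le_iff_ne_zero.mpr hmZ0)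
    omega
  have hrZ : r ∣ Nat.card Z := by
    obtain ⟨z, hz⟩ := Subgroup.ne_bot_iff_exists_ne_one.mp hZ1
    have h1 : orderOf z = r := orderOf_eq_prime (Subtype.ext (hZr z z.2)) hz
    rw [← h1]
    exact orderOf_dvd_natCard z
  -- Hall subgroups
  obtain ⟨a, m, hrm, hham⟩ := Nat.exists_eq_pow_mul_and_not_dvd (n := h) (by omega) r hr.ne_one
  have hcop : (r ^ a).Coprime m := Nat.Coprime.pow_left a ((Nat.Prime.coprime_iff_not_dvd hr).mpr hrm)
  have ha : a ≠ 0 := by
    rintro rfl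
    apply hrm
    rw [pow_zero, one_mul] at hham
    rw [← hham, ← hw]
    exact hrZ.mul_left _
  obtain ⟨A', -, hA'c, hA'm⟩ := Cfsg.Agent.H3.NilpSplit.nilp_hall (E := H) (r ^ a) m (by rw [D.cH, hham]) hcop
  obtain ⟨K', -, hK'c, hK'm⟩ := Cfsg.Agent.H3.NilpSplit.nilp_hall (E := H) m (r ^ a)
    (by rw [D.cH, hham, mul_comm]) hcop.symm
  obtain ⟨A, hA⟩ : ∃ A : Subgroup G, A = A'.map H.subtype := ⟨_, rfl⟩
  obtain ⟨K, hK⟩ : ∃ K : Subgroup G, K = K'.map H.subtype := ⟨_, rfl⟩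
  have hAc : Nat.card A = r ^ a := by
    rw [hA, Subgroup.card_map_of_injective H.subtype_injective, hA'c]
  have hKc : Nat.card K = m := by
    rw [hK, Subgroup.card_map_of_injective H.subtype_injective, hK'c]
  have hAm : ∀ x, x ∈ A ↔ x ∈ H ∧ (orderOf x).Coprime m := by
    intro x
    rw [hA]
    constructor
    · rintro ⟨y, hy, rfl⟩
      refine ⟨y.2, ?_⟩
      have := (hA'm y).mp hy
      rwa [← Subgroup.orderOf_coe] at this
    · rintro ⟨hx, hx'⟩
      refine ⟨⟨x, hx⟩, (hA'm _).mpr ?_, rfl⟩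
      rw [← Subgroup.orderOf_coe]
      exact hx'
  have hKm : ∀ x, x ∈ K ↔ x ∈ H ∧ (orderOf x).Coprime (r ^ a) := by
    intro x
    rw [hK]
    constructor
    · rintro ⟨y, hy, rfl⟩
      refine ⟨y.2, ?_⟩
      have := (hK'm y).mp hy
      rwa [← Subgroup.orderOf_coe] at this
    · rintro ⟨hx, hx'⟩
      refine ⟨⟨x, hx⟩, (hK'm _).mpr ?_, rfl⟩
      rw [← Subgroup.orderOf_coe]
      exact hx'
  have hordc : ∀ b x : G, orderOf (b * x * b⁻¹) = orderOf x := fun b x =>
    orderOf_injective (MulAut.conj b).toMonoidHom (MulAut.conj b).injective x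
  have hAB : ∀ b ∈ B, ∀ z ∈ A, b * z * b⁻¹ ∈ A := by
    intro b hb z hz
    rw [hAm] at hz ⊢
    exact ⟨D.hn b hb z hz.1, by rw [hordc]; exact hz.2⟩
  have hKB : ∀ b ∈ B, ∀ z ∈ K, b * z * b⁻¹ ∈ K := by
    intro b hb z hz
    rw [hKm] at hz ⊢
    exact ⟨D.hn b hb z hz.1, by rw [hordc]; exact hz.2⟩
  have hAH : A ≤ H := fun x hx => ((hAm x).mp hx).1
  have hKH : K ≤ H := fun x hx => ((hKm x).mp hx).1
  have hAK : Nat.card A * Nat.card K = h := by rw [hAc, hKc, hham]
  have hcop' : (Nat.card A).Coprime (Nat.card K) := by rw [hAc, hKc]; exact hcop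
  have hra : 1 < r ^ a := Nat.one_lt_pow ha hr.one_lt
  have hm0 : 0 < m := by
    rcases Nat.eq_zero_or_pos m with h0 | h0
    · rw [h0, mul_zero] at hham; omega
    · exact h0
  have hsolv : Group.IsSolvable H := inferInstance
  obtain ⟨qK, hqK⟩ : ∃ qK, qK * Nat.card (K ⊔ ⁅H, H⁆ : Subgroup G) = h := by
    obtain ⟨q, hq⟩ := Subgroup.card_dvd_of_le (sup_le hKH (comm_le H))
    exact ⟨q, by rw [mul_comm, ← hq, D.cH]⟩
  obtain ⟨qA, hqA⟩ : ∃ qA, qA * Nat.card (A ⊔ ⁅H, H⁆ : Subgroup G) = h := by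
    obtain ⟨q, hq⟩ := Subgroup.card_dvd_of_le (sup_le hAH (comm_le H))
    exact ⟨q, by rw [mul_comm, ← hq, D.cH]⟩
  have hKne : K ≠ H := by
    intro h1
    rw [h1, D.cH, hham] at hKc
    have : 1 * m < r ^ a * m := Nat.mul_lt_mul_of_pos_right hra hm0
    omega
  have h1K : 1 < qK := by
    have h0 : qK ≠ 0 := by rintro rfl; omega
    have h1 : qK ≠ 1 := by
      rintro rfl
      rw [one_mul, ← D.cH] at hqK
      exact sup_comm_ne hKH (fun b hb => hKB b (D.hHB hb)) hsolv hKne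
        (Subgroup.eq_of_le_of_card_ge (sup_le hKH (comm_le H)) hqK.ge)
    omega
  have dK : qK ∣ r ^ a := by
    obtain ⟨r', hr'⟩ := Subgroup.card_dvd_of_le (le_sup_left : K ≤ K ⊔ ⁅H, H⁆)
    rw [hr', ← hAK] at hqK
    have h1 : Nat.card K * (qK * r') = Nat.card K * Nat.card A := by
      rw [mul_comm (Nat.card K) (Nat.card A), ← hqK]; ring
    rw [← hAc]
    exact ⟨r', (Nat.eq_of_mul_eq_mul_left Nat.card_pos h1).symm⟩
  obtain ⟨k, -, hk⟩ := (Nat.dvd_prime_pow hr).mp dK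
  have hk0 : k ≠ 0 := by
    rintro rfl
    rw [pow_zero] at hk
    omega
  have hcomm := inv_comm D.hn D.hn
  have hnK := count_rel D (M := K ⊔ ⁅H, H⁆) le_sup_right (sup_le hKH (comm_le H)) (inv_sup hKB hcomm) hqK
  obtain ⟨nK, hnK'⟩ : ∃ n, n = Nat.card {θ : IrrCharacter B // RelB B H (θ : B → ℂ) ∧ (θ : B → ℂ) 1 = e ∧
    ∀ x : B, (x : G) ∈ K ⊔ ⁅H, H⁆ → (θ : B → ℂ) x = (θ : B → ℂ) 1} := ⟨_, rfl⟩
  rw [← hnK'] at hnK
  have hZq : Nat.card Z ≤ qK := by
    rw [hk]
    apply Cfsg.Agent.H3.IrrMod.card_min_le hZB (fun x hx y hy => hZc y hy x (hZH hx)) hr hZr hZ1 hZmin _ hk0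
    · intro b hb z hz
      have h1 : b ^ r ^ k = (b ^ e) ^ nK * b := by
        rw [← hk, ← hnK, pow_succ, ← pow_mul, mul_comm nK e]
      have h2 : (b ^ e) ^ nK ∈ H := H.pow_mem (pow_mem D hb) _
      have h3 := hZc _ (hZB b hb z hz) _ h2
      rw [h1]
      calc (b ^ e) ^ nK * b * z * ((b ^ e) ^ nK * b)⁻¹ = (b ^ e) ^ nK * (b * z * b⁻¹) * ((b ^ e) ^ nK)⁻¹ := by group
        _ = b * z * b⁻¹ := by rw [h3]; group
    · intro x hx y hy z hz
      have h1 := hBab x hx y hy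
      have h2 := hZc _ (hZB (y * x) (B.mul_mem hy hx) z hz) _ h1
      calc x * y * z * (x * y)⁻¹ = (x * y * x⁻¹ * y⁻¹) * ((y * x) * z * (y * x)⁻¹) * (x * y * x⁻¹ * y⁻¹)⁻¹ := by group
        _ = y * x * z * (y * x)⁻¹ := by rw [h2]; group
  by_cases hm1 : m = 1
  · -- `p`-group
    have hKbot : K = ⊥ := Subgroup.eq_bot_of_card_eq _ (by rw [hKc, hm1])
    have hqq : qK = q := by
      rw [hKbot, bot_sup_eq, ← hq] at hqK
      exact Nat.eq_of_mul_eq_mul_right Nat.card_pos hqK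
    rw [hm1, mul_one] at hham
    by_cases hr2 : r = 2
    · -- 2-group
      subst hr2
      refine ⟨IsPGroup.of_card (by rw [D.cH, hham]), hna, ?_⟩
      have hZe' : Nat.card Z = e + 1 := by
        apply le_antisymm _ hZe
        refine le_trans ?_ hinv1
        apply Nat.card_le_card_of_injective (fun z : Z => (⟨⟨z, hZH z.2⟩, by
          apply Subtype.ext
          change (z : G) * z = 1
          rw [← pow_two]; exact hZr z z.2⟩ : {u : H // u * u = 1}))
        intro x y hxy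
        exact Subtype.ext (congrArg (fun u : {u : H // u * u = 1} => ((u : H) : G)) hxy)
      have h1 := case_two D hZH hZB hw hham hZH' hq hZe'
      have h2 : (commutator H).index = q := by
        have h3 := (commutator H).card_mul_index
        have h4 : Nat.card (commutator H) = Nat.card (⁅H, H⁆ : Subgroup G) := by
          rw [← Subgroup.map_subtype_commutator, Subgroup.card_map_of_injective H.subtype_injective]
        rw [h4, D.cH, ← hq, mul_comm] at h3
        exact Nat.eq_of_mul_eq_mul_right Nat.card_pos h3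
      rw [h2]
      exact h1
    · exfalso
      have hoddB : Odd (Nat.card B) := by
        rw [D.cB]
        refine D.eodd.mul ?_
        rw [hham]
        exact Odd.pow (hr.odd_of_ne_two hr2)
      exact case_odd D hZH hZB hoddB hw hZc hZ1 hZH' hq (by rw [← hqq]; exact hZq) hcopeh
  · exfalso
    have hAne : A ≠ H := by
      intro h1
      rw [h1, D.cH, hham] at hAc
      have : r ^ a * 1 < r ^ a * m := Nat.mul_lt_mul_of_pos_left (by omega) (by omega)
      omega
    have h1A : 1 < qA := by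
      have h0 : qA ≠ 0 := by rintro rfl; omega
      have h1 : qA ≠ 1 := by
        rintro rfl
        rw [one_mul, ← D.cH] at hqA
        exact sup_comm_ne hAH (fun b hb => hAB b (D.hHB hb)) hsolv hAne
          (Subgroup.eq_of_le_of_card_ge (sup_le hAH (comm_le H)) hqA.ge)
      omega
    exact case_mix D hZH hZB hw hZ1 hZH' hq hAH hKH hAB hKB hAK hcop' hqK hqA h1K h1A hZq hcopeh

end Core

end Cfsg.Agent.H3.Feit
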