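import Mathlib
import Cfsg.Prelude.Def_Characters
import Cfsg.Agent.H3_CharPerm2
import Cfsg.Agent.H3_Monomial
import Cfsg.Agent.H25_Brauer

/-!
# Permutation characters as sums of induced trivial characters; Mackey for trivial characters;
Solomon's induction theorem
-/

set_option autoImplicit false

open scoped ComplexConjugate

namespace Cfsg.Agent.H3.PermInd

open Cfsg Cfsg.Agent.H3.CharIrr Cfsg.Agent.H3.CharPerm Cfsg.Agent.H3.CharPerm2
  Cfsg.Agent.H3.CharComplete Cfsg.Agent.H3.CharMult Cfsg.Agent.H3.CharInd Cfsg.Agent.H3.Monomial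

variable {G : Type*} [Group G] [Fintype G]

theorem sum_smul_eq {X : Type*} [MulAction G X] [Fintype X] [DecidableEq X] (x : X)
    [DecidablePred (· ∈ MulAction.orbit G x)] (f : X → ℂ) :
    ∑ h : G, f (h • x) = (Nat.card (MulAction.stabilizer G x) : ℂ) *
      ∑ y ∈ Finset.univ.filter (· ∈ MulAction.orbit G x), f y := by
  classical
  rw [← Finset.sum_fiberwise_of_maps_to (s := Finset.univ)
    (t := Finset.univ.filter (· ∈ MulAction.orbit G x)) (g := fun h : G => h • x)
    (fun h _ => by simp [MulAction.mem_orbit]), Finset.mul_sum]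
  refine Finset.sum_congr rfl fun y hy => ?_
  rw [Finset.mem_filter] at hy
  obtain ⟨h₀, hh₀⟩ := hy.2
  have hh₀' : h₀ • x = y := hh₀
  rw [Finset.sum_congr rfl (g := fun _ => f y) (fun h hh => by
    rw [(Finset.mem_filter.mp hh).2]), Finset.sum_const, nsmul_eq_mul]
  congr 2
  rw [Nat.card_eq_fintype_card, ← Finset.card_univ]
  refine Finset.card_bij' (fun h hh => (⟨h₀⁻¹ * h, ?_⟩ : MulAction.stabilizer G x))
    (fun s _ => h₀ * s) ?_ ?_ ?_ ?_
  · rw [MulAction.mem_stabilizer_iff, mul_smul, inv_smul_eq_iff, hh₀']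
    exact (Finset.mem_filter.mp hh).2
  · intro _ _; exact Finset.mem_univ _
  · intro s _
    rw [Finset.mem_filter]
    refine ⟨Finset.mem_univ _, ?_⟩
    rw [mul_smul, s.2, hh₀']
  · intro h _; simp
  · intro s _; ext; simp

/-- The permutation character on cosets of a stabilizer is the number of fixed points in the
orbit. -/
theorem ind_stab {X : Type*} [MulAction G X] [Fintype X] [DecidableEq X] (x : X)
    [DecidablePred (· ∈ MulAction.orbit G x)] (g : G) :
    indFun (MulAction.stabilizer G x) (fun _ => 1) g =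
      ∑ y ∈ Finset.univ.filter (· ∈ MulAction.orbit G x), if g • y = y then (1 : ℂ) else 0 := by
  classical
  have h1 := sum_smul_eq (G := G) x (fun y => if g • y = y then (1 : ℂ) else 0)
  rw [ind_triv_apply, ← Finset.sum_boole]
  have h2 : ∑ h : G, (if h⁻¹ * g * h ∈ MulAction.stabilizer G x then (1 : ℂ) else 0) =
      ∑ h : G, (if g • (h • x) = h • x then (1 : ℂ) else 0) := by
    refine Finset.sum_congr rfl fun h _ => ?_
    congr 1
    rw [MulAction.mem_stabilizer_iff, mul_smul, mul_smul, inv_smul_eq_iff]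
  rw [h2, h1, ← mul_assoc, inv_mul_cancel₀ (cardH_ne_zero _), one_mul]

theorem perm_apply {X : Type*} [MulAction G X] [Fintype X] [DecidableEq X] (g : G) :
    perm G X g = ∑ y : X, if g • y = y then (1 : ℂ) else 0 := by
  classical
  rw [perm, Finset.sum_boole, Nat.card_eq_fintype_card, Fintype.card_subtype]
  rfl

theorem perm_quot (H : Subgroup G) : perm G (G ⧸ H) = indFun H (fun _ => 1) := by
  classical
  have := Fintype.ofFinite (G ⧸ H)
  have h1 : MulAction.stabilizer G ((1 : G) : G ⧸ H) = H := MulAction.stabilizer_quotient H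
  have h2 : indFun H (fun _ => 1) = indFun (MulAction.stabilizer G ((1 : G) : G ⧸ H)) (fun _ => 1) :=
    ind_congr h1.symm (fun _ _ _ => rfl)
  ext g
  rw [h2, ind_stab, perm_apply]
  refine Finset.sum_congr ?_ fun _ _ => rfl
  ext y
  simp [MulAction.orbit_eq_univ]

/-- Orbit decomposition of a permutation character. -/
theorem perm_decomp {X : Type*} [MulAction G X] [Finite X]
    [Fintype (Quotient (MulAction.orbitRel G X))]
    (r : Quotient (MulAction.orbitRel G X) → X) (hr : ∀ ω, Quotient.mk _ (r ω) = ω) :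
    perm G X = ∑ ω, indFun (MulAction.stabilizer G (r ω)) (fun _ => 1) := by
  classical
  have := Fintype.ofFinite X
  ext g
  rw [Finset.sum_apply, perm_apply, Finset.sum_congr rfl fun ω _ => ind_stab (r ω) g]
  rw [← Finset.sum_fiberwise (s := Finset.univ)
    (g := fun x : X => (Quotient.mk _ x : Quotient (MulAction.orbitRel G X)))]
  refine Finset.sum_congr rfl fun ω _ => ?_
  refine Finset.sum_congr ?_ fun _ _ => rfl
  ext y
  simp only [Finset.mem_filter, Finset.mem_univ, true_and]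
  rw [← MulAction.orbitRel_apply]
  constructor
  · intro h
    apply Quotient.exact
    rw [h, hr]
  · intro h
    rw [Quotient.sound h, hr]

theorem mackey_triv (H K : Subgroup G) : ∃ a : Subgroup G → ℕ, (∀ U, a U ≠ 0 → U ≤ H) ∧
    indFun H (fun _ => 1) * indFun K (fun _ => 1) =
      ∑ U : Subgroup G, (a U : ℂ) • indFun U (fun _ => 1) := by
  classical
  have := Fintype.ofFinite (G ⧸ H)
  have := Fintype.ofFinite (G ⧸ K)
  let X := (G ⧸ H) × (G ⧸ K)
  have : Fintype (Quotient (MulAction.orbitRel G X)) := Fintype.ofFinite _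
  have hrep : ∀ ω : Quotient (MulAction.orbitRel G X), ∃ x : X,
      Quotient.mk (MulAction.orbitRel G X) x = ω ∧ x.1 = ((1 : G) : G ⧸ H) := by
    intro ω
    obtain ⟨⟨y, z⟩, rfl⟩ := Quotient.exists_rep ω
    obtain ⟨g, hg⟩ := MulAction.exists_smul_eq G y ((1 : G) : G ⧸ H)
    refine ⟨g • (y, z), ?_, hg⟩
    exact Quotient.sound ⟨g, rfl⟩
  choose r hr hr1 using hrep
  refine ⟨fun U => Fintype.card {ω // MulAction.stabilizer G (r ω) = U}, ?_, ?_⟩
  · intro U hU
    have : Nonempty {ω // MulAction.stabilizer G (r ω) = U} := by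
      rwa [← Fintype.card_pos_iff, Nat.pos_iff_ne_zero]
    obtain ⟨⟨ω, rfl⟩⟩ := this
    intro g hg
    have h1 : (g • (r ω)).1 = (r ω).1 := by rw [hg]
    rw [Prod.smul_fst, hr1] at h1
    have h2 : g ∈ MulAction.stabilizer G ((1 : G) : G ⧸ H) := h1
    rwa [MulAction.stabilizer_quotient] at h2
  · rw [← perm_quot, ← perm_quot, ← perm_prod, perm_decomp r hr]
    rw [← Finset.sum_fiberwise (s := Finset.univ) (g := fun ω => MulAction.stabilizer G (r ω))]
    refine Finset.sum_congr rfl fun U _ => ?_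
    rw [Finset.sum_congr rfl (g := fun _ => indFun U (fun _ => 1))]
    · beta_reduce
      rw [Finset.sum_const, Fintype.card_subtype]
      ext g; simp
    · intro ω hω
      exact ind_congr (Finset.mem_filter.mp hω).2 (fun _ _ _ => rfl)

section Solomon

/-- `p`-quasi-elementary subgroups -/
def PQ (p : ℕ) (H : Subgroup G) : Prop :=
  ∃ C : Subgroup G, C ≤ H ∧ H ≤ Subgroup.normalizer (C : Set G) ∧ IsCyclic C ∧
    Nat.Coprime (Nat.card C) p ∧ ∃ k : ℕ, C.relIndex H = p ^ k

theorem PQ.mono {p : ℕ} [hp : Fact p.Prime] {H U : Subgroup G} (h : PQ p H) (hU : U ≤ H) :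
    PQ p U := by
  obtain ⟨C, hCH, hHN, hcyc, hcop, k, hk⟩ := h
  refine ⟨C ⊓ U, inf_le_right, ?_, ?_, ?_, ?_⟩
  · intro x hx
    have h1 := Subgroup.mem_normalizer_iff.mp (hHN (hU hx))
    rw [Subgroup.mem_normalizer_iff]
    intro y
    rw [Subgroup.mem_inf, Subgroup.mem_inf, ← h1 y]
    refine and_congr_right fun _ => ⟨fun hy => U.mul_mem (U.mul_mem hx hy) (U.inv_mem hx), fun hy => ?_⟩
    have := U.mul_mem (U.mul_mem (U.inv_mem hx) hy) hx
    have h2 : x⁻¹ * (x * y * x⁻¹) * x = y := by group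
    rwa [h2] at this
  · exact Subgroup.isCyclic_of_le inf_le_left
  · exact hcop.coprime_dvd_left (Subgroup.card_dvd_of_le inf_le_left)
  · have hnorm : (C.subgroupOf H).Normal := Subgroup.normal_subgroupOf_of_le_normalizer hHN
    have h1 : (C.subgroupOf H).relIndex (U.subgroupOf H) ∣ (C.subgroupOf H).index :=
      Subgroup.relIndex_dvd_index_of_normal _ _
    have h2 : (C.subgroupOf H).relIndex (U.subgroupOf H) = (C ⊓ U).relIndex U := by
      rw [Subgroup.relIndex_subgroupOf hU, Subgroup.inf_relIndex_right]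
    rw [h2] at h1
    have h3 : (C.subgroupOf H).index = p ^ k := hk
    rw [h3, Nat.dvd_prime_pow hp.out] at h1
    obtain ⟨m, -, hm⟩ := h1
    exact ⟨m, hm⟩

theorem part_pow {u s : G} (h : Commute u s) (hcop : (orderOf u).Coprime (orderOf s)) :
    ∃ m : ℕ, (u * s) ^ m = u := by
  obtain ⟨m, hm1, hm2⟩ := Nat.chineseRemainder hcop 1 0
  refine ⟨m, ?_⟩
  rw [h.mul_pow]
  have h1 : s ^ m = 1 := by
    rw [← orderOf_dvd_iff_pow_eq_one]; exact (Nat.modEq_zero_iff_dvd).mp hm2
  have h2 : u ^ m = u := by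
    conv_rhs => rw [← pow_one u]
    exact pow_eq_pow_iff_modEq.mpr hm1
  rw [h1, h2, mul_one]

/-- counting formula inside the normalizer -/
theorem ind_eq_of_normalizer (H N : Subgroup G) (hHN : H ≤ N) [Fintype N] (x : N)
    (hx : ∀ y : G, y⁻¹ * x * y ∈ H → y ∈ N) :
    indFun H (fun _ => 1) (x : G) = indFun (H.subgroupOf N) (fun _ => 1) x := by
  classical
  rw [ind_triv_apply, ind_triv_apply]
  congr 1
  · congr 2
    exact (Nat.card_congr (Subgroup.subgroupOfEquivOfLe hHN).toEquiv).symm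
  · congr 1
    symm
    refine Finset.card_bij (fun y _ => (y : G)) ?_ ?_ ?_
    · intro y hy
      rw [Finset.mem_filter] at hy ⊢
      exact ⟨Finset.mem_univ _, hy.2⟩
    · intro a _ b _ h; exact Subtype.ext h
    · intro y hy
      rw [Finset.mem_filter] at hy
      exact ⟨⟨y, hx y hy.2⟩, Finset.mem_filter.mpr ⟨Finset.mem_univ _, hy.2⟩, rfl⟩

omit [Fintype G] in
theorem relIndex_sup_sylow [Finite G] {p : ℕ} [hp : Fact p.Prime] (C : Subgroup G) [C.Normal] (P : Sylow p G) :
    ∃ j, C.relIndex (C ⊔ P) = p ^ j := by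
  have h2 : C.relIndex (C ⊔ P) = C.relIndex (P : Subgroup G) := by
    rw [sup_comm]; exact Subgroup.relIndex_sup_right (P : Subgroup G) C
  have h3 : C.relIndex (P : Subgroup G) ∣ Nat.card (P : Subgroup G) := Subgroup.relIndex_dvd_card _ _
  obtain ⟨l, hl⟩ := (IsPGroup.iff_card (p := p)).mp P.isPGroup'
  rw [h2]
  rw [hl, Nat.dvd_prime_pow hp.out] at h3
  obtain ⟨j, -, hj⟩ := h3
  exact ⟨j, hj⟩

/-- counting modulo `p` -/
theorem ind_mod_p {p : ℕ} [hp : Fact p.Prime] (C H : Subgroup G) [C.Normal] (hCH : C ≤ H)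
    (hH : ¬ p ∣ H.index) {u s : G} (hu : u ∈ C) {k : ℕ} (hs : orderOf s = p ^ k) :
    ∃ n : ℕ, indFun H (fun _ => 1) (u * s) = (n : ℂ) ∧ ¬ p ∣ n := by
  classical
  have := Fintype.ofFinite (G ⧸ H)
  have h1 : indFun H (fun _ => 1) (u * s) = indFun H (fun _ => 1) s := by
    rw [← perm_quot, perm_apply, perm_apply]
    refine Finset.sum_congr rfl fun y _ => ?_
    congr 1
    have h2 : (u * s) • y = s • y := by
      obtain ⟨z, rfl⟩ := QuotientGroup.mk_surjective y
      rw [MulAction.Quotient.smul_coe, MulAction.Quotient.smul_coe, smul_eq_mul, smul_eq_mul,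
        QuotientGroup.eq]
      have h3 : (u * s * z)⁻¹ * (s * z) = (s * z)⁻¹ * u⁻¹ * (s * z) := by group
      rw [h3]
      apply hCH
      have := (‹C.Normal›).conj_mem _ (C.inv_mem hu) (s * z)⁻¹
      simpa using this
    rw [h2]
  refine ⟨Nat.card (MulAction.fixedBy (G ⧸ H) s), ?_, ?_⟩
  · rw [h1, ← perm_quot]; rfl
  · have hP : IsPGroup p (Subgroup.zpowers s) := by
      apply IsPGroup.of_card (n := k)
      rw [Nat.card_zpowers, hs]
    have h4 := hP.card_modEq_card_fixedPoints (G ⧸ H)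
    have h5 : Nat.card (MulAction.fixedPoints (Subgroup.zpowers s) (G ⧸ H)) =
        Nat.card (MulAction.fixedBy (G ⧸ H) s) := by
      apply Nat.card_congr
      apply Equiv.setCongr
      ext y
      rw [MulAction.mem_fixedPoints, MulAction.mem_fixedBy]
      constructor
      · intro h; exact h ⟨s, Subgroup.mem_zpowers s⟩
      · rintro h ⟨t, ht⟩
        have h6 : Subgroup.zpowers s ≤ MulAction.stabilizer G y := by
          rw [Subgroup.zpowers_le]; exact h
        exact h6 ht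
    rw [h5] at h4
    intro h6
    apply hH
    have h7 : Nat.card (G ⧸ H) ≡ 0 [MOD p] := h4.trans (Nat.modEq_zero_iff_dvd.mpr h6)
    exact Nat.modEq_zero_iff_dvd.mp h7

theorem mem_of_relIndex {p : ℕ} (C H : Subgroup G) (hCH : C ≤ H)
    (hn : H ≤ Subgroup.normalizer (C : Set G)) {j : ℕ}
    (hj : C.relIndex H = p ^ j) {y : G} (hy : y ∈ H) (hyp : (orderOf y).Coprime p) : y ∈ C := by
  have hn : (C.subgroupOf H).Normal :=
    (Subgroup.normal_subgroupOf_iff_le_normalizer hCH).mpr hn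
  have h3 : orderOf (QuotientGroup.mk ⟨y, hy⟩ : H ⧸ C.subgroupOf H) ∣ p ^ j := by
    rw [← hj]; exact orderOf_dvd_natCard _
  have h4 : orderOf (QuotientGroup.mk ⟨y, hy⟩ : H ⧸ C.subgroupOf H) ∣ orderOf y := by
    refine (orderOf_map_dvd (QuotientGroup.mk' (C.subgroupOf H)) ⟨y, hy⟩).trans ?_
    rw [Subgroup.orderOf_mk]
  have h5 : orderOf (QuotientGroup.mk ⟨y, hy⟩ : H ⧸ C.subgroupOf H) = 1 :=
    Nat.eq_one_of_dvd_coprimes (hyp.pow_right j) h4 h3
  rw [orderOf_eq_one_iff] at h5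
  exact Subgroup.mem_subgroupOf.mp ((QuotientGroup.eq_one_iff _).mp h5)

theorem conj_zpowers_mem {u y : G} (h5 : y⁻¹ * u * y ∈ Subgroup.zpowers u) :
    y ∈ Subgroup.normalizer (Subgroup.zpowers u : Set G) := by
  have h6 : ∀ c ∈ Subgroup.zpowers u, y⁻¹ * c * y ∈ Subgroup.zpowers u := by
    intro c hc
    obtain ⟨j, rfl⟩ := Subgroup.mem_zpowers_iff.mp hc
    have : y⁻¹ * u ^ j * y = (y⁻¹ * u * y) ^ j := by
      have := conj_zpow (i := j) (a := y⁻¹) (b := u)
      simpa using this.symm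
    rw [this]; exact Subgroup.zpow_mem _ h5 j
  have h7 : y⁻¹ ∈ Subgroup.normalizer (Subgroup.zpowers u : Set G) :=
    Subgroup.mem_normalizer_fintype (S := (Subgroup.zpowers u : Set G)) (fun n hn => by
      simpa using h6 n hn)
  simpa using Subgroup.inv_mem _ h7

theorem solomon_local (x : G) (p : ℕ) (hp : p.Prime) : ∃ H : Subgroup G, PQ p H ∧
    ∃ n : ℕ, indFun H (fun _ => 1) x = (n : ℂ) ∧ ¬ p ∣ n := by
  classical
  have := Fact.mk hp
  obtain ⟨u, s, hus, hcomm, hpu, k, hk⟩ := Cfsg.Agent.H25.Brauer.exists_p_parts p x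
  have hup : (orderOf u).Coprime p := ((Nat.Prime.coprime_iff_not_dvd hp).mpr hpu).symm
  have hcop : (orderOf u).Coprime (orderOf s) := by
    rw [hk]; exact hup.pow_right k
  obtain ⟨m, hm⟩ := part_pow hcomm hcop
  rw [hus] at hm
  obtain ⟨C, hC⟩ : ∃ C : Subgroup G, C = Subgroup.zpowers u := ⟨_, rfl⟩
  obtain ⟨N, hN⟩ : ∃ N : Subgroup G, N = Subgroup.normalizer (C : Set G) := ⟨_, rfl⟩
  have hfN : Fintype N := Fintype.ofFinite _
  have hCN : C ≤ N := hN ▸ Subgroup.le_normalizer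
  have hCcop : (Nat.card C).Coprime p := by
    rw [hC, Nat.card_zpowers]; exact hup
  have huC : u ∈ C := hC ▸ Subgroup.mem_zpowers u
  have huN : u ∈ N := hCN huC
  have hsN : s ∈ N := by
    rw [hN, hC]
    apply conj_zpowers_mem
    have : s⁻¹ * u * s = u := by
      rw [mul_assoc, hcomm.eq, inv_mul_cancel_left]
    rw [this]; exact Subgroup.mem_zpowers u
  have hxN : x ∈ N := by rw [← hus]; exact N.mul_mem huN hsN
  obtain ⟨P⟩ : Nonempty (Sylow p N) := inferInstance
  have hC'n : (C.subgroupOf N).Normal :=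
    (Subgroup.normal_subgroupOf_iff_le_normalizer hCN).mpr hN.le
  obtain ⟨H', hH'⟩ : ∃ H' : Subgroup N, H' = C.subgroupOf N ⊔ P := ⟨_, rfl⟩
  obtain ⟨H, hH⟩ : ∃ H : Subgroup G, H = H'.map N.subtype := ⟨_, rfl⟩
  have hHN : H ≤ N := by rw [hH]; rintro _ ⟨y, _, rfl⟩; exact y.2
  have hH'eq : H.subgroupOf N = H' := by
    ext y; simp [hH, Subgroup.mem_subgroupOf]
  have hCH' : C.subgroupOf N ≤ H' := hH' ▸ le_sup_left
  have hCH : C ≤ H := by
    intro y hy
    rw [hH]
    exact ⟨⟨y, hCN hy⟩, hCH' hy, rfl⟩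
  have hrel : ∃ j, C.relIndex H = p ^ j := by
    obtain ⟨j, hj⟩ := relIndex_sup_sylow (C.subgroupOf N) P
    refine ⟨j, ?_⟩
    rw [← hj, ← hH', ← hH'eq, Subgroup.relIndex_subgroupOf hHN]
  refine ⟨H, ⟨C, hCH, hN ▸ hHN, hC ▸ inferInstance, hCcop, hrel⟩, ?_⟩
  obtain ⟨j, hj⟩ := hrel
  have hind := ind_eq_of_normalizer H N hHN ⟨x, hxN⟩ (by
    intro y hy
    have h1 : y⁻¹ * u * y ∈ H := by
      have h2 := H.pow_mem hy m
      have h3 : (y⁻¹ * x * y) ^ m = y⁻¹ * x ^ m * y := by
        have := conj_pow (i := m) (a := y⁻¹) (b := x)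
        simpa using this
      change (y⁻¹ * x * y) ^ m ∈ H at h2
      rwa [h3, hm] at h2
    have h4 : orderOf (y⁻¹ * u * y) = orderOf u := by
      have := orderOf_injective (MulAut.conj y⁻¹).toMonoidHom (MulAut.conj y⁻¹).injective u
      simpa using this
    have h5 : y⁻¹ * u * y ∈ C := mem_of_relIndex C H hCH (hN ▸ hHN) hj h1 (by rw [h4]; exact hup)
    rw [hN, hC]
    rw [hC] at h5
    exact conj_zpowers_mem h5)
  have hPind : ¬ p ∣ H'.index := by
    intro h
    have h1 : (P : Subgroup N) ≤ H' := hH' ▸ le_sup_right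
    exact P.not_dvd_index (h.trans (Subgroup.index_dvd_of_le h1))
  obtain ⟨n, hn, hpn⟩ := ind_mod_p (p := p) (C.subgroupOf N) H' hCH' hPind
    (u := ⟨u, huN⟩) (s := ⟨s, hsN⟩) huC (k := k) (by rw [Subgroup.orderOf_mk]; exact hk)
  refine ⟨n, ?_, hpn⟩
  rw [← hn]
  change indFun H (fun _ => 1) ((⟨x, hxN⟩ : N) : G) = _
  rw [hind]
  have h8 : (⟨x, hxN⟩ : N) = ⟨u, huN⟩ * ⟨s, hsN⟩ := Subtype.ext hus.symm
  rw [h8, hH'eq]

/-- additive group generated by the trivial characters induced from `p`-quasi-elementary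
subgroups -/
def Rp (G : Type*) [Group G] [Fintype G] (p : ℕ) : AddSubgroup (G → ℂ) :=
  AddSubgroup.closure {f | ∃ H : Subgroup G, PQ p H ∧ f = indFun H (fun _ => 1)}

theorem Rp_gen {p : ℕ} {H : Subgroup G} (h : PQ p H) : indFun H (fun _ => 1) ∈ Rp G p :=
  AddSubgroup.subset_closure ⟨H, h, rfl⟩

theorem Rp_mul {p : ℕ} [Fact p.Prime] {f g : G → ℂ} (hf : f ∈ Rp G p) (hg : g ∈ Rp G p) :
    f * g ∈ Rp G p := by
  classical
  induction hf using AddSubgroup.closure_induction with
  | mem x hx =>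
    obtain ⟨H, hH, rfl⟩ := hx
    induction hg using AddSubgroup.closure_induction with
    | mem y hy =>
      obtain ⟨K, hK, rfl⟩ := hy
      obtain ⟨a, ha, heq⟩ := mackey_triv H K
      rw [heq]
      apply AddSubgroup.sum_mem
      intro U _
      by_cases h0 : a U = 0
      · rw [h0]; simpa using AddSubgroup.zero_mem _
      · have h1 := Rp_gen (hH.mono (ha U h0))
        have h2 := AddSubgroup.nsmul_mem _ h1 (a U)
        convert h2 using 1
        ext g; simp
    | zero => rw [mul_zero]; exact AddSubgroup.zero_mem _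
    | add y z _ _ h1 h2 => rw [mul_add]; exact AddSubgroup.add_mem _ h1 h2
    | neg y _ h1 => rw [mul_neg]; exact AddSubgroup.neg_mem _ h1
  | zero => rw [zero_mul]; exact AddSubgroup.zero_mem _
  | add y z _ _ h1 h2 => rw [add_mul]; exact AddSubgroup.add_mem _ h1 h2
  | neg y _ h1 => rw [neg_mul]; exact AddSubgroup.neg_mem _ h1

theorem Rp_coeff {p : ℕ} {f : G → ℂ} (hf : f ∈ Rp G p) : ∃ a : Subgroup G → ℤ,
    (∀ H, a H ≠ 0 → PQ p H) ∧ f = ∑ H : Subgroup G, (a H : ℂ) • indFun H (fun _ => 1) := by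
  classical
  induction hf using AddSubgroup.closure_induction with
  | mem x hx =>
    obtain ⟨H, hH, rfl⟩ := hx
    refine ⟨fun K => if K = H then 1 else 0, ?_, ?_⟩
    · intro K hK
      by_cases h : K = H
      · rw [h]; exact hH
      · simp [h] at hK
    · rw [Finset.sum_eq_single H]
      · simp
      · intro K _ hK; simp [hK]
      · intro h; exact absurd (Finset.mem_univ _) h
  | zero => exact ⟨0, by simp, by simp⟩
  | add y z _ _ h1 h2 =>
    obtain ⟨a, ha, rfl⟩ := h1
    obtain ⟨b, hb, rfl⟩ := h2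
    refine ⟨a + b, ?_, ?_⟩
    · intro H hH
      by_contra hn
      apply hH
      have h3 : a H = 0 := by by_contra h; exact hn (ha H h)
      have h4 : b H = 0 := by by_contra h; exact hn (hb H h)
      simp [h3, h4]
    · rw [← Finset.sum_add_distrib]
      refine Finset.sum_congr rfl fun H _ => ?_
      simp only [Pi.add_apply, Int.cast_add, add_smul]
  | neg y _ h1 =>
    obtain ⟨a, ha, rfl⟩ := h1
    refine ⟨-a, ?_, ?_⟩
    · intro H hH; exact ha H (by simpa using hH)
    · rw [← Finset.sum_neg_distrib]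
      refine Finset.sum_congr rfl fun H _ => ?_
      simp only [Pi.neg_apply, Int.cast_neg, neg_smul]

theorem Rp_prod {p : ℕ} [hp : Fact p.Prime] (f : G → (G → ℂ)) (n : G → ℤ)
    (hf : ∀ x, f x ∈ Rp G p) (T : Finset G) :
    ∃ r ∈ Rp G p, ∏ x ∈ T, ((fun _ : G => (n x : ℂ)) - f x) =
      (fun _ : G => ((∏ x ∈ T, n x : ℤ) : ℂ)) - r := by
  classical
  induction T using Finset.induction_on with
  | empty => exact ⟨0, AddSubgroup.zero_mem _, by ext; simp⟩
  | insert x T hx ih =>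
    obtain ⟨r, hr, h⟩ := ih
    refine ⟨(n x) • r + (∏ x ∈ T, n x) • f x - f x * r, ?_, ?_⟩
    · exact AddSubgroup.sub_mem _ (AddSubgroup.add_mem _ (AddSubgroup.zsmul_mem _ hr _)
        (AddSubgroup.zsmul_mem _ (hf x) _)) (Rp_mul (hf x) hr)
    · rw [Finset.prod_insert hx, h, Finset.prod_insert hx]
      have key : ∀ (z : ℤ) (f : G → ℂ) (g : G), (z • f) g = (z : ℂ) * f g := by
        intro z f g
        rw [Pi.smul_apply, zsmul_eq_mul]
      ext g
      simp only [Pi.mul_apply, Pi.sub_apply, Pi.add_apply, key]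
      push_cast
      ring

theorem solomon_global (p : ℕ) (hp : p.Prime) : ∃ (m : ℤ) (a : Subgroup G → ℤ),
    ¬ (p : ℤ) ∣ m ∧ (∀ H, a H ≠ 0 → PQ p H) ∧
    (fun _ : G => (m : ℂ)) = ∑ H : Subgroup G, (a H : ℂ) • indFun H (fun _ => 1) := by
  classical
  have := Fact.mk hp
  choose H hH n hn hpn using fun x : G => solomon_local x p hp
  obtain ⟨r, hr, h⟩ := Rp_prod (p := p) (fun x => indFun (H x) (fun _ => 1)) (fun x => (n x : ℤ))
    (fun x => Rp_gen (hH x)) Finset.univ
  have h0 : ∏ x : G, ((fun _ : G => (((n x : ℕ) : ℤ) : ℂ)) - indFun (H x) (fun _ => 1)) = 0 := by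
    ext y
    rw [Finset.prod_apply]
    apply Finset.prod_eq_zero (Finset.mem_univ y)
    simp [hn]
  rw [h0] at h
  have h1 : (fun _ : G => ((∏ x : G, (n x : ℤ) : ℤ) : ℂ)) = r := (sub_eq_zero.mp h.symm)
  obtain ⟨a, ha, hsum⟩ := Rp_coeff hr
  refine ⟨∏ x : G, (n x : ℤ), a, ?_, ha, h1.trans hsum⟩
  intro hdvd
  rw [Prime.dvd_finsetProd_iff (Nat.prime_iff_prime_int.mp hp)] at hdvd
  obtain ⟨x, -, hx⟩ := hdvd
  exact hpn x (by exact_mod_cast hx)

end Solomon

end Cfsg.Agent.H3.PermInd
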