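import Mathlib
import Cfsg.Prelude.Def_LieExceptional
import Cfsg.Agent.H3_Zass4
import Cfsg.Agent.H24_Class

/-!
# Zassenhaus groups: involutions
-/

set_option autoImplicit false

namespace Cfsg.Agent.H3.Zass5

open Cfsg Pointwise Cfsg.Agent.H3.Zass Cfsg.Agent.H3.Zass2 Cfsg.Agent.H3.Zass3 Cfsg.Agent.H3.Zass4

variable {G Ω : Type*} [Group G] [MulAction G Ω] [Finite G] [Fintype Ω]
  (hZ : IsZassenhausGroup G Ω) {a b : Ω} (hab : a ≠ b)

theorem sq_of_order {t : G} (ht : orderOf t = 2) : t * t = 1 := by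
  have := pow_orderOf_eq_one t; rwa [ht, sq] at this

theorem order_of_sq {t : G} (h1 : t * t = 1) (h2 : t ≠ 1) : orderOf t = 2 :=
  orderOf_eq_prime (by rw [sq]; exact h1) h2

include hZ hab

theorem card_swap [IsSimpleGroup G] (hodd : Odd (Nat.card (EE G a b))) :
    Nat.card {x : G // orderOf x = 2 ∧ x • a = b} = Nat.card (EE G a b) := by
  obtain ⟨t, ht, hta, htb⟩ := exists_inv hZ hab hodd
  have ht2 := sq_of_order ht
  have hti : t⁻¹ = t := inv_eq_of_mul_eq_one_left ht2
  have h1 : ∀ x : G, orderOf x = 2 ∧ x • a = b → x * t ∈ EE G a b := by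
    rintro x ⟨hx, hxa⟩
    have hxb : x • b = a := by rw [← hxa, ← mul_smul, sq_of_order hx, one_smul]
    exact mem_E.mpr ⟨by rw [mul_smul, hta, hxb], by rw [mul_smul, htb, hxa]⟩
  have h2 : ∀ y ∈ EE G a b, orderOf (y * t) = 2 ∧ (y * t) • a = b := by
    intro y hy
    have h3 := inverts hZ hab hodd ht2 hta htb hy
    have h4 : (y * t) • a = b := by rw [mul_smul, hta]; exact (mem_E.mp hy).2
    refine ⟨order_of_sq ?_ ?_, h4⟩
    · have : y * t * (y * t) = y * (t * y * t⁻¹) * (t * t) := by group
      rw [this, h3, ht2]; group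
    · intro h
      rw [h, one_smul] at h4
      exact hab h4
  refine Nat.card_congr (Equiv.mk (fun x => ⟨x.1 * t, h1 x.1 x.2⟩) (fun y => ⟨y.1 * t, h2 y.1 y.2⟩) ?_ ?_)
  · intro x; apply Subtype.ext; simp only; rw [mul_assoc, ht2, mul_one]
  · intro x; apply Subtype.ext; simp only; rw [mul_assoc, ht2, mul_one]

/-- an involution does not fix two points -/
theorem inv_fix (hodd : Odd (Nat.card (EE G a b))) {x : G} (hx : orderOf x = 2) {c d : Ω}
    (hcd : c ≠ d) (hc : x • c = c) (hd : x • d = d) : False := by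
  have h1 : x ∈ EE G c d := mem_E.mpr ⟨hc, hd⟩
  have h2 := orderOf_dvd_natCard (⟨x, h1⟩ : EE G c d)
  rw [Subgroup.orderOf_mk, hx, card_E_conj hZ hab hcd] at h2
  have := Odd.of_dvd_nat hodd h2
  exact absurd this (by decide)

/-- number of fixed points of an involution -/
theorem inv_fix_card (hodd : Odd (Nat.card (EE G a b))) {h : ℕ} (hh : Fintype.card Ω = h + 1)
    {x : G} (hx : orderOf x = 2) [DecidableEq Ω] :
    (Finset.univ.filter fun c : Ω => x • c = c).card = if Even h then 1 else 0 := by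
  classical
  have hle : (Finset.univ.filter fun c : Ω => x • c = c).card ≤ 1 := by
    rw [Finset.card_le_one]
    intro c hc d hd
    rw [Finset.mem_filter] at hc hd
    by_contra hcd
    exact inv_fix hZ hab hodd hx hcd hc.2 hd.2
  have hmov : Even (Finset.univ.filter fun c : Ω => ¬ x • c = c).card := by
    have h1 : (MulAction.toPerm x : Equiv.Perm Ω) ^ 2 = 1 := by
      ext c
      rw [sq, Equiv.Perm.mul_apply, MulAction.toPerm_apply, MulAction.toPerm_apply, ← mul_smul,
        sq_of_order hx, one_smul]; rfl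
    have h2 := Equiv.Perm.two_dvd_card_support h1
    have h3 : (MulAction.toPerm x : Equiv.Perm Ω).support = Finset.univ.filter fun c : Ω => ¬ x • c = c := by
      ext c; simp [Equiv.Perm.mem_support]
    rw [h3] at h2
    exact even_iff_two_dvd.mpr h2
  have hsum := Finset.card_filter_add_card_filter_not (s := (Finset.univ : Finset Ω)) (fun c : Ω => x • c = c)
  rw [Finset.card_univ, hh] at hsum
  obtain ⟨k, hk⟩ := hmov
  split_ifs with he
  · obtain ⟨j, hj⟩ := he
    omega
  · rw [Nat.not_even_iff_odd] at he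
    obtain ⟨j, hj⟩ := he
    omega

/-- all involutions are conjugate -/
theorem inv_conj [IsSimpleGroup G] (hodd : Odd (Nat.card (EE G a b))) {x y : G} (hx : orderOf x = 2)
    (hy : orderOf y = 2) : IsConj x y := by
  obtain ⟨t, ht, hta, htb⟩ := exists_inv hZ hab hodd
  have ht2 := sq_of_order ht
  have key : ∀ x : G, orderOf x = 2 → IsConj x t := by
    intro x hx
    have hx1 : x ≠ 1 := by rintro rfl; rw [orderOf_one] at hx; norm_num at hx
    obtain ⟨c, hc⟩ : ∃ c : Ω, x • c ≠ c := by
      by_contra hcon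
      push Not at hcon
      have := hZ.1
      apply hx1
      apply FaithfulSMul.eq_of_smul_eq_smul (α := Ω)
      intro c; rw [one_smul, hcon]
    obtain ⟨g, hga, hgb⟩ := two_trans hZ hab (Ne.symm hc)
    have hxc : x • (x • c) = c := by rw [← mul_smul, sq_of_order hx, one_smul]
    obtain ⟨x', hx'⟩ : ∃ x', x' = g⁻¹ * x * g := ⟨_, rfl⟩
    have hx'a : x' • a = b := by
      rw [hx', mul_smul, mul_smul, hga, ← hgb, inv_smul_smul]
    have hx'b : x' • b = a := by
      rw [hx', mul_smul, mul_smul, hgb, hxc, ← hga, inv_smul_smul]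
    have hx'2 : x' * x' = 1 := by
      rw [hx']
      have : g⁻¹ * x * g * (g⁻¹ * x * g) = g⁻¹ * (x * x) * g := by group
      rw [this, sq_of_order hx]; group
    have hconj : IsConj x x' := isConj_iff.mpr ⟨g⁻¹, by rw [hx']; group⟩
    refine hconj.trans ?_
    obtain ⟨y, hy⟩ : ∃ y, y = x' * t := ⟨_, rfl⟩
    have hyE : y ∈ EE G a b := by
      rw [hy]; exact mem_E.mpr ⟨by rw [mul_smul, hta, hx'b], by rw [mul_smul, htb, hx'a]⟩
    have hinv := inverts hZ hab hodd ht2 hta htb hyE
    have h12 : Nat.Coprime 2 (orderOf y) := by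
      rw [Nat.coprime_two_left]
      have := orderOf_dvd_natCard (⟨y, hyE⟩ : EE G a b)
      rw [Subgroup.orderOf_mk] at this
      exact Odd.of_dvd_nat hodd this
    obtain ⟨m, hm⟩ := exists_pow_eq_self_of_coprime h12
    -- z = y ^ m, z ^ 2 = y
    have hz : (y ^ m) * (y ^ m) = y := by
      rw [← pow_add, ← two_mul, pow_mul]; exact hm
    have hzinv : t * y ^ m * t⁻¹ = (y ^ m)⁻¹ := by
      rw [← conj_pow, hinv, inv_pow]
    apply IsConj.symm
    rw [isConj_iff]
    refine ⟨y ^ m, ?_⟩
    have hti : t⁻¹ = t := inv_eq_of_mul_eq_one_left ht2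
    have e1 : y ^ m * t * (y ^ m)⁻¹ = y ^ m * t * (t * y ^ m * t⁻¹) := by rw [hzinv]
    have e2 : y ^ m * t * (t * y ^ m * t⁻¹) = y ^ m * (t * t) * y ^ m * t⁻¹ := by group
    rw [e1, e2, ht2, mul_one, hz, hy, hti, mul_assoc, ht2, mul_one]
  exact (key x hx).trans (key y hy).symm

/-- the number of involutions -/
theorem card_inv [IsSimpleGroup G] (hodd : Odd (Nat.card (EE G a b))) {h : ℕ}
    (hh : Fintype.card Ω = h + 1) :
    Nat.card {x : G // orderOf x = 2} = if Even h then Nat.card (EE G a b) * (h + 1) else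
      Nat.card (EE G a b) * h := by
  classical
  have := Fintype.ofFinite G
  obtain ⟨e, he⟩ : ∃ e, e = Nat.card (EE G a b) := ⟨_, rfl⟩
  obtain ⟨I, hI⟩ : ∃ I : Finset G, I = Finset.univ.filter fun x : G => orderOf x = 2 := ⟨_, rfl⟩
  have hcI : Nat.card {x : G // orderOf x = 2} = I.card := by
    rw [Nat.card_eq_fintype_card, Fintype.card_subtype, hI]
  have hcount : ∑ x ∈ I, (Finset.univ.filter fun c : Ω => ¬ x • c = c).card = (h + 1) * (h * e) := by
    have h1 : ∀ x ∈ I, (Finset.univ.filter fun c : Ω => ¬ x • c = c).card =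
        ∑ c : Ω, ∑ d ∈ Finset.univ.erase c, if x • c = d then 1 else 0 := by
      intro x _
      rw [Finset.card_filter]
      refine Finset.sum_congr rfl fun c _ => ?_
      rw [Finset.sum_ite_eq]
      by_cases hc : x • c = c
      · rw [if_neg (by simpa using hc), if_neg (by simp [hc])]
      · rw [if_pos hc, if_pos (by simp [hc])]
    rw [Finset.sum_congr rfl h1, Finset.sum_comm]
    have h2 : ∀ c : Ω, (∑ x ∈ I, ∑ d ∈ Finset.univ.erase c, if x • c = d then 1 else 0) = h * e := by
      intro c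
      rw [Finset.sum_comm]
      have h3 : ∀ d ∈ Finset.univ.erase c, (∑ x ∈ I, if x • c = d then 1 else 0) = e := by
        intro d hd
        have hcd : c ≠ d := (Finset.ne_of_mem_erase hd).symm
        have h4 := card_E_conj hZ hab hcd
        have h5 := card_swap hZ hcd (by rw [h4]; exact hodd)
        rw [he, ← h4, ← h5, ← Finset.card_filter, Nat.card_eq_fintype_card, Fintype.card_subtype, hI,
          Finset.filter_filter]
      rw [Finset.sum_congr rfl h3, Finset.sum_const, Finset.card_erase_of_mem (Finset.mem_univ c),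
        Finset.card_univ, hh]
      simp
    rw [Finset.sum_congr rfl fun c _ => h2 c, Finset.sum_const, Finset.card_univ, hh, smul_eq_mul]
  have hmoved : ∀ x ∈ I, (Finset.univ.filter fun c : Ω => ¬ x • c = c).card = if Even h then h else h + 1 := by
    intro x hx
    rw [hI, Finset.mem_filter] at hx
    have h6 := inv_fix_card hZ hab hodd hh hx.2
    have hsum := Finset.card_filter_add_card_filter_not (s := (Finset.univ : Finset Ω)) (fun c : Ω => x • c = c)
    rw [Finset.card_univ, hh, h6] at hsum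
    split_ifs at hsum ⊢ with h7 <;> omega
  rw [Finset.sum_congr rfl hmoved, Finset.sum_const, smul_eq_mul] at hcount
  rw [hcI, ← he]
  obtain ⟨h', hh', h2⟩ := card_omega hZ hab
  have : h' = h := by omega
  subst this
  split_ifs at hcount ⊢ with h7
  · have h8 : (h' + 1) * (h' * e) = (e * (h' + 1)) * h' := by ring
    rw [h8] at hcount
    exact Nat.eq_of_mul_eq_mul_right (by omega) hcount
  · have h8 : (h' + 1) * (h' * e) = (e * h') * (h' + 1) := by ring
    rw [h8] at hcount
    exact Nat.eq_of_mul_eq_mul_right (by omega) hcount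

omit [Finite G] [Fintype Ω] in
/-- an element centralizing a nontrivial element of `H` lies in `H` -/
theorem centralizer_le {H : Subgroup G} (hHa : H ≤ MulAction.stabilizer G a)
    (hmem : ∀ x : G, x • a = a → (x = 1 ∨ ∀ c, x • c = c → c = a) → x ∈ H)
    (hHfix : ∀ u ∈ H, u ≠ 1 → ∀ c : Ω, u • c = c → c = a) {u y : G} (hu : u ∈ H) (hu1 : u ≠ 1)
    (hc : y * u = u * y) : y ∈ H := by
  have hua : u • a = a := hHa hu
  have hya : y • a = a := by
    apply hHfix u hu hu1
    rw [← mul_smul, ← hc, mul_smul, hua]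
  apply hmem y hya
  by_cases hy1 : y = 1
  · exact Or.inl hy1
  right
  intro c hyc
  by_contra hca
  have h1 : y • (u • c) = u • c := by rw [← mul_smul, hc, mul_smul, hyc]
  rcases fix_two hZ hy1 (Ne.symm hca) hya hyc h1 with h2 | h2
  · exact hca (smul_left_cancel u (h2.trans hua.symm))
  · exact hca (hHfix u hu hu1 c h2)

/-- for even `h` the involutions of `H` are central in `H` -/
theorem inv_central [IsSimpleGroup G] (hodd : Odd (Nat.card (EE G a b))) {h : ℕ}
    (hh : Fintype.card Ω = h + 1) (he : Even h) {H : Subgroup G} (hHa : H ≤ MulAction.stabilizer G a)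
    (hHcard : Nat.card H + 1 = Fintype.card Ω)
    (hHfix : ∀ u ∈ H, u ≠ 1 → ∀ c : Ω, u • c = c → c = a) {z : G} (hz : z ∈ H) (hz2 : orderOf z = 2) :
    Subgroup.centralizer ({z} : Set G) = H := by
  have hz1 : z ≠ 1 := by rintro rfl; rw [orderOf_one] at hz2; norm_num at hz2
  have hle : Subgroup.centralizer ({z} : Set G) ≤ H := by
    intro y hy
    exact centralizer_le hZ hab hHa (fun x h1 h2 => (mem_H_iff hZ a H hHa hHcard hHfix).mpr ⟨h1, h2⟩) hHfix hz hz1
      (Subgroup.mem_centralizer_singleton_iff.mp hy)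
  apply Subgroup.eq_of_le_of_card_ge hle
  have h1 := card_inv hZ hab hodd hh
  rw [if_pos he] at h1
  have h2 : Nat.card {x : G // orderOf x = 2} = (Subgroup.centralizer ({z} : Set G)).index := by
    rw [← H24.Class.card_conjugatesOf z]
    refine Nat.card_congr (Equiv.subtypeEquivRight fun g => ?_)
    rw [H24.Class.mem_conj]
    refine ⟨fun hg => inv_conj hZ hab hodd hz2 hg, fun hg => ?_⟩
    obtain ⟨y, rfl⟩ := isConj_iff.mp hg
    have h5 : y * z * y⁻¹ = MulAut.conj y z := rfl
    rw [h5, ← hz2]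
    exact orderOf_injective (MulAut.conj y).toMonoidHom (MulAut.conj y).injective _
  have h3 := (Subgroup.centralizer ({z} : Set G)).card_mul_index
  rw [← h2, h1, card_G hZ hab hh] at h3
  have h4 : (h + 1) * (h * Nat.card (EE G a b)) = h * (Nat.card (EE G a b) * (h + 1)) := by ring
  rw [h4] at h3
  have h5 : 0 < Nat.card (EE G a b) * (h + 1) := Nat.mul_pos Nat.card_pos (by omega)
  have h6 := Nat.eq_of_mul_eq_mul_right h5 h3
  omega

end Cfsg.Agent.H3.Zass5
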