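import Mathlib
import Cfsg.Prelude.Def_LieExceptional
import Cfsg.Agent.H3_Zass5

/-!
# Zassenhaus groups: counting classes missing `H`
-/

set_option autoImplicit false

namespace Cfsg.Agent.H3.Zass6

open Cfsg Pointwise Cfsg.Agent.H3.Zass Cfsg.Agent.H3.Zass2 Cfsg.Agent.H3.Zass3 Cfsg.Agent.H3.Zass4
  Cfsg.Agent.H3.Zass5

section General

variable {G : Type*} [Group G] [Fintype G]

omit [Fintype G] in
theorem inverts_of [Finite G] {x z : G} (hx : orderOf x = 2) (hxz : orderOf (x * z) = 2) : x * z * x⁻¹ = z⁻¹ := by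
  have h1 := sq_of_order hx
  have h2 := sq_of_order hxz
  have hxi : x⁻¹ = x := inv_eq_of_mul_eq_one_left h1
  rw [hxi, eq_inv_iff_mul_eq_one]
  rw [← h2]; group

/-- the number of `x` with `x` and `x z` involutions is at most `|C(z)|` -/
theorem n_le [DecidableEq G] (z : G) :
    (Finset.univ.filter fun x : G => orderOf x = 2 ∧ orderOf (x * z) = 2).card ≤
      Nat.card (Subgroup.centralizer ({z} : Set G)) := by
  classical
  rcases (Finset.univ.filter fun x : G => orderOf x = 2 ∧ orderOf (x * z) = 2).eq_empty_or_nonempty with h | ⟨y, hy⟩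
  · rw [h]; simp
  rw [Nat.card_eq_fintype_card, Fintype.card_subtype]
  apply Finset.card_le_card_of_injOn (fun x => y⁻¹ * x)
  · intro x hx
    rw [Finset.mem_filter] at hy
    rw [Finset.mem_coe, Finset.mem_filter] at *
    refine ⟨Finset.mem_univ _, ?_⟩
    beta_reduce
    rw [Subgroup.mem_centralizer_singleton_iff]
    have h1 := inverts_of hy.2.1 hy.2.2
    have h2 := inverts_of hx.2.1 hx.2.2
    have h3 : (y⁻¹ * x) * z * (y⁻¹ * x)⁻¹ = z := by
      have e1 : (y⁻¹ * x) * z * (y⁻¹ * x)⁻¹ = y⁻¹ * (x * z * x⁻¹) * y := by group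
      have e2 : y⁻¹ * z⁻¹ * y = (y⁻¹ * z * y)⁻¹ := by group
      have e3 : y⁻¹ * z * y = (y⁻¹ * (y * z * y⁻¹) * y)⁻¹ := by rw [h1]; group
      rw [e1, h2, e2, e3, inv_inv]; group
    exact mul_inv_eq_iff_eq_mul.mp h3
  · intro x _ y' _ hxy
    exact mul_left_cancel hxy

theorem sum_n [DecidableEq G] :
    ∑ z : G, (Finset.univ.filter fun x : G => orderOf x = 2 ∧ orderOf (x * z) = 2).card =
      (Nat.card {x : G // orderOf x = 2}) ^ 2 := by
  classical
  have h1 : ∀ z : G, (Finset.univ.filter fun x : G => orderOf x = 2 ∧ orderOf (x * z) = 2).card =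
      ∑ x ∈ Finset.univ.filter (fun x : G => orderOf x = 2), if orderOf (x * z) = 2 then 1 else 0 := by
    intro z
    rw [← Finset.card_filter, Finset.filter_filter]
  rw [Finset.sum_congr rfl fun z _ => h1 z, Finset.sum_comm]
  have h2 : ∀ x ∈ Finset.univ.filter (fun x : G => orderOf x = 2), (∑ z : G, if orderOf (x * z) = 2 then 1 else 0) =
      Nat.card {x : G // orderOf x = 2} := by
    intro x _
    rw [← Finset.card_filter, Nat.card_eq_fintype_card, Fintype.card_subtype]
    apply Finset.card_bij (fun z _ => x * z)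
    · intro z hz
      rw [Finset.mem_filter] at *
      exact ⟨Finset.mem_univ _, hz.2⟩
    · intro z _ w _ h
      exact mul_left_cancel h
    · intro z hz
      rw [Finset.mem_filter] at hz
      refine ⟨x⁻¹ * z, ?_, by group⟩
      rw [Finset.mem_filter]
      refine ⟨Finset.mem_univ _, ?_⟩
      rw [mul_inv_cancel_left]; exact hz.2
  rw [Finset.sum_congr rfl h2, Finset.sum_const, smul_eq_mul, sq]
  congr 1
  rw [Nat.card_eq_fintype_card, Fintype.card_subtype]

/-- sum of centralizer orders over a union of classes -/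
theorem sum_centralizer (p : ConjClasses G → Prop) [DecidablePred p] :
    ∑ z ∈ Finset.univ.filter (fun z : G => p (ConjClasses.mk z)), Nat.card (Subgroup.centralizer ({z} : Set G)) =
      Nat.card {C : ConjClasses G // p C} * Nat.card G := by
  classical
  have := Fintype.ofFinite (ConjClasses G)
  rw [← Finset.sum_fiberwise_of_maps_to (s := Finset.univ.filter (fun z : G => p (ConjClasses.mk z)))
    (t := Finset.univ.filter p) (g := ConjClasses.mk) (by
      intro z hz
      rw [Finset.mem_filter] at *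
      exact ⟨Finset.mem_univ _, hz.2⟩)]
  have h1 : ∀ C ∈ Finset.univ.filter p, ∑ z ∈ (Finset.univ.filter (fun z : G => p (ConjClasses.mk z))).filter (fun z => ConjClasses.mk z = C),
      Nat.card (Subgroup.centralizer ({z} : Set G)) = Nat.card G := by
    intro C hC
    rw [Finset.mem_filter] at hC
    obtain ⟨w, rfl⟩ := ConjClasses.exists_rep C
    have h2 : (Finset.univ.filter (fun z : G => p (ConjClasses.mk z))).filter (fun z => ConjClasses.mk z = ConjClasses.mk w) =
        Finset.univ.filter (fun z => IsConj w z) := by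
      ext z
      simp only [Finset.mem_filter, Finset.mem_univ, true_and]
      rw [ConjClasses.mk_eq_mk_iff_isConj]
      refine ⟨fun h => h.2.symm, fun h => ⟨?_, h.symm⟩⟩
      rw [← ConjClasses.mk_eq_mk_iff_isConj.mpr h]; exact hC.2
    rw [h2]
    have h3 : ∀ z ∈ Finset.univ.filter (fun z => IsConj w z), Nat.card (Subgroup.centralizer ({z} : Set G)) =
        Nat.card (Subgroup.centralizer ({w} : Set G)) := by
      intro z hz
      rw [Finset.mem_filter] at hz
      obtain ⟨g, rfl⟩ := isConj_iff.mp hz.2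
      have h4 := H24.Class.index_centralizer_conj g w
      have h5 := (Subgroup.centralizer ({g * w * g⁻¹} : Set G)).card_mul_index
      have h6 := (Subgroup.centralizer ({w} : Set G)).card_mul_index
      rw [h4, ← h6] at h5
      exact Nat.eq_of_mul_eq_mul_right (Nat.pos_of_ne_zero Subgroup.index_ne_zero_of_finite) h5
    rw [Finset.sum_congr rfl h3, Finset.sum_const, smul_eq_mul]
    have h7 : (Finset.univ.filter (fun z => IsConj w z)).card = (Subgroup.centralizer ({w} : Set G)).index := by
      rw [← H24.Class.card_conjugatesOf w, Nat.card_eq_fintype_card, ← Fintype.card_coe]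
      apply Fintype.card_congr
      exact Equiv.subtypeEquivRight fun z => by simp [H24.Class.mem_conj]
    rw [h7]
    exact (Subgroup.centralizer ({w} : Set G)).index_mul_card
  rw [Finset.sum_congr rfl h1, Finset.sum_const, smul_eq_mul]
  congr 1
  rw [Nat.card_eq_fintype_card, Fintype.card_subtype]

end General

section Main

variable {G Ω : Type*} [Group G] [MulAction G Ω] [Finite G] [Fintype Ω]
  (hZ : IsZassenhausGroup G Ω) {a b : Ω} (hab : a ≠ b)

include hZ hab

/-- `f(c)`: the number of involutions fixing `a`, for even `h` -/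
theorem card_inv_fix [IsSimpleGroup G] (hodd : Odd (Nat.card (EE G a b))) {h : ℕ}
    (hh : Fintype.card Ω = h + 1) (hev : Even h) :
    Nat.card {x : G // orderOf x = 2 ∧ x • a = a} = Nat.card (EE G a b) := by
  classical
  have := Fintype.ofFinite G
  have hI := card_inv hZ hab hodd hh
  rw [if_pos hev] at hI
  have hconst : ∀ c : Ω, Nat.card {x : G // orderOf x = 2 ∧ x • c = c} =
      Nat.card {x : G // orderOf x = 2 ∧ x • a = a} := by
    intro c
    have := pretrans hZ
    obtain ⟨g, rfl⟩ := MulAction.exists_smul_eq G a c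
    refine (Nat.card_congr (Equiv.subtypeEquiv (MulAut.conj g).toEquiv fun x => ?_)).symm
    have h1 : (MulAut.conj g).toEquiv x = g * x * g⁻¹ := rfl
    rw [h1]
    have h2 : orderOf (g * x * g⁻¹) = orderOf x :=
      orderOf_injective (MulAut.conj g).toMonoidHom (MulAut.conj g).injective x
    rw [h2, mul_smul, mul_smul, inv_smul_smul]
    refine and_congr_right fun _ => ⟨fun h => by rw [h], fun h => smul_left_cancel g h⟩
  have hsum : ∑ c : Ω, Nat.card {x : G // orderOf x = 2 ∧ x • c = c} = Nat.card {x : G // orderOf x = 2} := by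
    have h1 : ∀ c : Ω, Nat.card {x : G // orderOf x = 2 ∧ x • c = c} =
        ∑ x ∈ Finset.univ.filter (fun x : G => orderOf x = 2), if x • c = c then 1 else 0 := by
      intro c
      rw [← Finset.card_filter, Finset.filter_filter, Nat.card_eq_fintype_card, Fintype.card_subtype]
    rw [Finset.sum_congr rfl fun c _ => h1 c, Finset.sum_comm]
    have h2 : ∀ x ∈ Finset.univ.filter (fun x : G => orderOf x = 2), (∑ c : Ω, if x • c = c then 1 else 0) = 1 := by
      intro x hx
      rw [Finset.mem_filter] at hx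
      rw [← Finset.card_filter, inv_fix_card hZ hab hodd hh hx.2, if_pos hev]
    rw [Finset.sum_congr rfl h2, Finset.sum_const, smul_eq_mul, mul_one, Nat.card_eq_fintype_card,
      Fintype.card_subtype]
  rw [Finset.sum_congr rfl fun c _ => hconst c, Finset.sum_const, Finset.card_univ, hh, hI, smul_eq_mul] at hsum
  have h3 : (h + 1) * Nat.card {x : G // orderOf x = 2 ∧ x • a = a} = (h + 1) * Nat.card (EE G a b) := by
    rw [hsum]; ring
  exact Nat.eq_of_mul_eq_mul_left (by omega) h3

/-- products of two involutions with exactly one fixed point -/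
theorem prod_inv [IsSimpleGroup G] (hodd : Odd (Nat.card (EE G a b))) {h : ℕ}
    (hh : Fintype.card Ω = h + 1) {x z : G} (hx : orderOf x = 2) (hxz : orderOf (x * z) = 2)
    (hz1 : z ≠ 1) (hza : z • a = a) (hzf : ∀ c : Ω, z • c = c → c = a) :
    Even h ∧ orderOf z = 2 ∧ x • a = a := by
  classical
  have hinv := inverts_of hx hxz
  have hxa : x • a = a := by
    apply hzf
    have h1 : z * x = x * z⁻¹ := by
      rw [← hinv, ← mul_assoc, ← mul_assoc, sq_of_order hx, one_mul]
      rw [inv_eq_of_mul_eq_one_left (sq_of_order hx)]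
    have h2 : z⁻¹ • a = a := by rw [inv_smul_eq_iff, hza]
    rw [← mul_smul, h1, mul_smul, h2]
  have hev : Even h := by
    by_contra hev
    have h1 := inv_fix_card hZ hab hodd hh hx
    rw [if_neg hev, Finset.card_eq_zero, Finset.filter_eq_empty_iff] at h1
    exact h1 (Finset.mem_univ a) hxa
  refine ⟨hev, ?_, hxa⟩
  obtain ⟨H, hHa, hHcard, hHfix⟩ := exists_H hZ hab
  have hmem : ∀ z : G, orderOf z = 2 → z • a = a → z ∈ H := by
    intro z hz hza
    rw [mem_H_iff hZ a H hHa hHcard hHfix]
    refine ⟨hza, Or.inr fun c hc => ?_⟩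
    by_contra hca
    exact inv_fix hZ hab hodd hz hca hc hza
  have hxH := hmem x hx hxa
  have hyH := hmem (x * z) hxz (by rw [mul_smul, hza, hxa])
  have hcen := inv_central hZ hab hodd hh hev hHa hHcard hHfix hxH hx
  have hyc : x * z ∈ Subgroup.centralizer ({x} : Set G) := by rw [hcen]; exact hyH
  have hcomm := Subgroup.mem_centralizer_singleton_iff.mp hyc
  apply order_of_sq _ hz1
  have hzx : z * x = x * z := by
    have : x * z * x = x * (x * z) := hcomm
    rw [mul_assoc] at this
    exact mul_left_cancel this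
  have h3 := sq_of_order hxz
  have e2 : x * z * (x * z) = x * (z * x) * z := by group
  rw [e2, hzx] at h3
  have e3 : x * (x * z) * z = (x * x) * (z * z) := by group
  rw [e3, sq_of_order hx, one_mul] at h3
  exact h3

theorem main [IsSimpleGroup G] (hodd : Odd (Nat.card (EE G a b))) {h : ℕ}
    (hh : Fintype.card Ω = h + 1) (hlt : Nat.card (EE G a b) < h) {H : Subgroup G}
    (hHa : H ≤ MulAction.stabilizer G a) (hHcard : Nat.card H + 1 = Fintype.card Ω)
    (hHfix : ∀ u ∈ H, u ≠ 1 → ∀ c : Ω, u • c = c → c = a) :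
    Nat.card (EE G a b) ≤ Nat.card {C : ConjClasses G // ∀ g : G, ConjClasses.mk g = C → g ∉ H} := by
  classical
  have := Fintype.ofFinite G
  obtain ⟨e, he⟩ : ∃ e, e = Nat.card (EE G a b) := ⟨_, rfl⟩
  obtain ⟨I, hI⟩ : ∃ I, I = Nat.card {x : G // orderOf x = 2} := ⟨_, rfl⟩
  let n : G → ℕ := fun z => (Finset.univ.filter fun x : G => orderOf x = 2 ∧ orderOf (x * z) = 2).card
  let p : ConjClasses G → Prop := fun C => ∀ g : G, ConjClasses.mk g = C → g ∉ H
  have hG := card_G hZ hab hh
  have hA := sum_centralizer (G := G) p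
  have hsum := sum_n (G := G)
  have hn1 : n 1 = I := by
    rw [hI, Nat.card_eq_fintype_card, Fintype.card_subtype]
    simp only [n, mul_one, and_self]
  -- elements whose class meets `H`
  have hp : ∀ z : G, ¬ p (ConjClasses.mk z) → z ≠ 1 → ∃ c : Ω, z • c = c ∧ ∀ d, z • d = d → d = c := by
    intro z hz hz1
    simp only [p] at hz
    push Not at hz
    obtain ⟨g, hg, hgH⟩ := hz
    rw [ConjClasses.mk_eq_mk_iff_isConj] at hg
    obtain ⟨y, rfl⟩ := isConj_iff.mp hg
    have hg1 : g ≠ 1 := by rintro rfl; exact hz1 (by group)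
    have hga : g • a = a := hHa hgH
    refine ⟨y • a, by rw [mul_smul, mul_smul, inv_smul_smul, hga], fun d hd => ?_⟩
    have h1 : g • (y⁻¹ • d) = y⁻¹ • d := by
      rw [eq_inv_smul_iff, ← mul_smul, ← mul_smul]; exact hd
    have h2 := hHfix g hgH hg1 _ h1
    rw [← h2, smul_inv_smul]
  have hbound : ∀ z ∈ Finset.univ.filter (fun z : G => ¬ p (ConjClasses.mk z)), n z ≤
      (if z = 1 then I else 0) + (if Even h ∧ orderOf z = 2 then e - 1 else 0) := by
    intro z hz
    rw [Finset.mem_filter] at hz
    by_cases hz1 : z = 1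
    · rw [hz1, hn1, if_pos rfl]; exact Nat.le_add_right _ _
    rw [if_neg hz1, zero_add]
    obtain ⟨c, hc, hcf⟩ := hp z hz.2 hz1
    rcases Nat.eq_zero_or_pos (n z) with h0 | hpos
    · rw [h0]; exact Nat.zero_le _
    obtain ⟨x₀, hx₀⟩ := Finset.card_pos.mp hpos
    rw [Finset.mem_filter] at hx₀
    obtain ⟨d, hcd⟩ : ∃ d, c ≠ d := by
      by_cases hca : c = a
      · exact ⟨b, hca ▸ hab⟩
      · exact ⟨a, hca⟩
    have hEcd := card_E_conj hZ hab hcd
    have hodd' : Odd (Nat.card (EE G c d)) := by rw [hEcd]; exact hodd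
    obtain ⟨hev, hz2, -⟩ := prod_inv hZ hcd hodd' hh hx₀.2.1 hx₀.2.2 hz1 hc hcf
    rw [if_pos ⟨hev, hz2⟩]
    have hf := card_inv_fix hZ hcd hodd' hh hev
    rw [hEcd, ← he, Nat.card_eq_fintype_card, Fintype.card_subtype] at hf
    have hsub : (Finset.univ.filter fun x : G => orderOf x = 2 ∧ orderOf (x * z) = 2) ⊆
        (Finset.univ.filter fun x : G => orderOf x = 2 ∧ x • c = c).erase z := by
      intro x hx
      rw [Finset.mem_filter] at hx
      rw [Finset.mem_erase, Finset.mem_filter]
      refine ⟨?_, Finset.mem_univ _, hx.2.1, (prod_inv hZ hcd hodd' hh hx.2.1 hx.2.2 hz1 hc hcf).2.2⟩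
      rintro rfl
      have := hx.2.2
      rw [sq_of_order hx.2.1, orderOf_one] at this
      norm_num at this
    have hzm : z ∈ Finset.univ.filter fun x : G => orderOf x = 2 ∧ x • c = c := by
      rw [Finset.mem_filter]; exact ⟨Finset.mem_univ _, hz2, hc⟩
    have h3 := Finset.card_le_card hsub
    rw [Finset.card_erase_of_mem hzm, hf] at h3
    exact h3
  have hsplit := Finset.sum_filter_add_sum_filter_not (s := (Finset.univ : Finset G)) (fun z => p (ConjClasses.mk z)) n
  rw [show ∑ z : G, n z = I ^ 2 by rw [hI]; exact hsum] at hsplit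
  have h1 : ∑ z ∈ Finset.univ.filter (fun z : G => p (ConjClasses.mk z)), n z ≤
      Nat.card {C : ConjClasses G // p C} * Nat.card G := by
    rw [← hA]
    exact Finset.sum_le_sum fun z _ => n_le z
  have h2 : ∑ z ∈ Finset.univ.filter (fun z : G => ¬ p (ConjClasses.mk z)), n z ≤
      I + (if Even h then I * (e - 1) else 0) := by
    refine (Finset.sum_le_sum hbound).trans ?_
    refine (Finset.sum_le_sum_of_subset (Finset.filter_subset _ _)).trans ?_
    rw [Finset.sum_add_distrib]
    apply Nat.add_le_add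
    · rw [Finset.sum_ite_eq']; simp
    · by_cases hev : Even h
      · rw [if_pos hev]
        simp only [hev, true_and]
        rw [← Finset.sum_filter, Finset.sum_const, smul_eq_mul, hI, Nat.card_eq_fintype_card, Fintype.card_subtype]
      · rw [if_neg hev]
        simp [hev]
  have hI' := card_inv hZ hab hodd hh
  rw [← hI, ← he] at hI'
  rw [← he] at hG hlt ⊢
  have he1 : 1 ≤ e := by rw [he]; exact Nat.card_pos
  obtain ⟨N, hN⟩ : ∃ N, N = Nat.card {C : ConjClasses G // p C} := ⟨_, rfl⟩
  rw [← hN] at h1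
  change e ≤ Nat.card {C : ConjClasses G // p C}
  rw [← hN]
  obtain ⟨k, rfl⟩ : ∃ k, e = k + 1 := ⟨e - 1, by omega⟩
  rw [Nat.add_sub_cancel] at h2
  by_contra hcon
  push Not at hcon
  have hNk : N ≤ k := by omega
  have h3 : N * Nat.card G ≤ k * Nat.card G := Nat.mul_le_mul_right _ hNk
  split_ifs at hI' h2 with hev
  · rw [hG] at h3 h1
    rw [hI'] at hsplit h2
    nlinarith
  · rw [hG] at h3 h1
    rw [hI'] at hsplit h2
    nlinarith

end Main

end Cfsg.Agent.H3.Zass6
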