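import Cfsg.Statements.S0881
import Cfsg.Agent.H3_Zass3
import Mathlib

set_option autoImplicit false
open Cfsg

namespace Cfsg.Agent.S0881

/-- Let G be a finite simple Zassenhaus group on Ω with n points, a ≠ b points with two-point stabilizer E of odd order less than n - 2, and let H be the subgroup of the stabilizer of a consisting of the identity and the elements fixing no point other than a (given here as a subgroup of the stabilizer of order one less than the number of points whose non-identity elements fix only a; it is the Frobenius kernel of the stabilizer). Let μ be a character of degree 1 of the stabilizer of a that is identically 1 on H but not identically 1. Then the function induced from μ to G is an irreducible character of G, and it takes the value 1 at every non-identity element of H. -/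
theorem result {G Ω : Type*} [Group G] [Fintype G] [MulAction G Ω] [Fintype Ω] (hZ : Cfsg.IsZassenhausGroup G Ω) {a b : Ω} (hab : a ≠ b) [IsSimpleGroup G] (hodd : Odd (Nat.card ↥(MulAction.stabilizer G a ⊓ MulAction.stabilizer G b : Subgroup G))) (hlt : Nat.card ↥(MulAction.stabilizer G a ⊓ MulAction.stabilizer G b : Subgroup G) < Fintype.card Ω - 2) (H : Subgroup G) (hHa : H ≤ MulAction.stabilizer G a) (hHcard : Nat.card H + 1 = Fintype.card Ω) (hHfix : ∀ u ∈ H, u ≠ 1 → ∀ c : Ω, u • c = c → c = a) (μ : MulAction.stabilizer G a → ℂ) (hμ : Cfsg.IsCharacter (MulAction.stabilizer G a) μ ∧ μ 1 = 1) (hμH : ∀ u : MulAction.stabilizer G a, (u : G) ∈ H → μ u = 1) (hμne : μ ≠ fun _ => 1) : Cfsg.IsIrrCharacter G (Cfsg.indFun (MulAction.stabilizer G a) μ) ∧ ∀ u ∈ H, u ≠ 1 → Cfsg.indFun (MulAction.stabilizer G a) μ u = 1 := by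
  classical
  obtain ⟨h, hh, h2⟩ := Cfsg.Agent.H3.Zass2.card_omega hZ hab
  obtain ⟨m, hm⟩ := Cfsg.Agent.H3.CharInd.IsChar.hom_units_of_one hμ.1 hμ.2
  have hμm : μ = fun x => (m x : ℂ) := funext hm
  obtain ⟨t, ht, hta, htb⟩ := Cfsg.Agent.H3.Zass2.exists_inv hZ hab hodd
  obtain ⟨B, hB⟩ : ∃ B : Subgroup G, B = MulAction.stabilizer G a := ⟨_, rfl⟩
  have hnH : Subgroup.normalizer (H : Set G) = MulAction.stabilizer G a :=
    Cfsg.Agent.H3.Zass.normalizer_H hZ a H hHa hHcard hHfix
  refine ⟨?_, ?_⟩
  · have hEa : ∀ x ∈ Cfsg.Agent.H3.Zass2.EE G a b, x ∈ MulAction.stabilizer G a := fun x hx => hx.1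
    have htE : ∀ x ∈ Cfsg.Agent.H3.Zass2.EE G a b, t * x * t⁻¹ ∈ Cfsg.Agent.H3.Zass2.EE G a b := fun x hx =>
      (Subgroup.mem_normalizer_iff.mp (Cfsg.Agent.H3.Zass.swap_normalizes (Or.inr ⟨hta, htb⟩)) x).mp hx
    have htE' : ∀ x ∈ Cfsg.Agent.H3.Zass2.EE G a b, t⁻¹ * x * t ∈ Cfsg.Agent.H3.Zass2.EE G a b := fun x hx => by
      have := (Subgroup.mem_normalizer_iff.mp (Subgroup.inv_mem _ (Cfsg.Agent.H3.Zass.swap_normalizes (Or.inr ⟨hta, htb⟩))) x).mp hx
      rwa [inv_inv] at this
    by_cases hex : ∃ (x : G) (hx : x ∈ Cfsg.Agent.H3.Zass2.EE G a b),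
        m ⟨t⁻¹ * x * t, hEa _ (htE' x hx)⟩ ≠ m ⟨x, hEa x hx⟩
    · obtain ⟨x, hx, hne⟩ := hex
      rw [hμm]
      refine Cfsg.Agent.H3.Zass3.ind_linear_norm _ m t ?_ (hEa x hx) (hEa _ (htE' x hx)) hne
      intro y hy
      have hya : a ≠ y • a := fun h => hy (MulAction.mem_stabilizer_iff.mpr h.symm)
      obtain ⟨b₁, hb₁, hb₁'⟩ := Cfsg.Agent.H3.Zass.two_trans hZ hab hya
      refine ⟨b₁, hb₁, t⁻¹ * b₁⁻¹ * y, ?_, by group⟩
      rw [MulAction.mem_stabilizer_iff, mul_smul, mul_smul, ← hb₁', inv_smul_smul, inv_smul_eq_iff, hta]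
    · exfalso
      push Not at hex
      obtain ⟨lam, hlam⟩ : ∃ lam : Cfsg.Agent.H3.Zass2.EE G a b →* ℂˣ, ∀ x, lam x = m ⟨x, hEa x x.2⟩ :=
        ⟨m.comp (Subgroup.inclusion (fun x hx => hEa x hx)), fun x => rfl⟩
      have hl1 := Cfsg.Agent.H3.Zass3.lam_trivial hZ hab hodd hta htb lam htE (by
        intro x
        rw [hlam, hlam]
        have h3 := hex (t * x * t⁻¹) (htE x x.2)
        rw [← h3]
        congr 1
        apply Subtype.ext
        simp only
        group)
      apply hμne
      rw [hμm]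
      funext y
      have hmE : ∀ x (hx : x ∈ Cfsg.Agent.H3.Zass2.EE G a b), m ⟨x, hEa x hx⟩ = 1 := by
        intro x hx
        have := hlam ⟨x, hx⟩
        rw [← this, hl1]; rfl
      have hmH : ∀ x (hx : x ∈ H), m ⟨x, hHa hx⟩ = 1 := by
        intro x hx
        have := hμH ⟨x, hHa hx⟩ hx
        rw [hm] at this
        exact Units.ext this
      -- decomposition
      have hcomp : Subgroup.IsComplement' (H.subgroupOf (MulAction.stabilizer G a))
          ((Cfsg.Agent.H3.Zass2.EE G a b).subgroupOf (MulAction.stabilizer G a)) := by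
        apply Subgroup.isComplement'_of_card_mul_and_disjoint
        · rw [Nat.card_congr (Subgroup.subgroupOfEquivOfLe hHa).toEquiv,
            Nat.card_congr (Subgroup.subgroupOfEquivOfLe (inf_le_left : Cfsg.Agent.H3.Zass2.EE G a b ≤ _)).toEquiv,
            Cfsg.Agent.H3.Zass2.card_B hZ hab hh]
          congr 1
          omega
        · rw [disjoint_iff, Subgroup.eq_bot_iff_forall]
          rintro ⟨x, hx⟩ ⟨h1, h2⟩
          apply Subtype.ext
          by_contra hx1
          exact hab (hHfix x h1 hx1 b h2.2).symm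
      obtain ⟨⟨⟨u, hu⟩, ⟨v, hv⟩⟩, huv, -⟩ := hcomp.existsUnique y
      simp only at huv
      rw [← huv, map_mul, Units.val_mul]
      have h5 := hmH (u : G) hu
      have h6 := hmE (v : G) hv
      have h5' : m u = 1 := h5
      have h6' : m v = 1 := h6
      rw [h5', h6']; simp
  · intro u hu hu1
    rw [Cfsg.indFun]
    have key : ∀ x : G, Cfsg.extendByZero (MulAction.stabilizer G a) μ (x⁻¹ * u * x) =
        if x ∈ MulAction.stabilizer G a then 1 else 0 := by
      intro x
      split_ifs with hx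
      · have h1 : x⁻¹ * u * x ∈ H := by
          rw [← hnH] at hx
          have := (Subgroup.mem_normalizer_iff.mp (Subgroup.inv_mem _ hx) u).mp hu
          rwa [inv_inv] at this
        rw [Cfsg.Agent.H3.CharInd.ext_mem _ μ (hHa h1)]
        exact hμH _ h1
      · apply Cfsg.Agent.H3.CharInd.ext_not_mem
        intro h1
        apply hx
        rw [MulAction.mem_stabilizer_iff, mul_smul, mul_smul, inv_smul_eq_iff] at h1
        exact hHfix u hu hu1 _ h1
    rw [Finset.sum_congr rfl fun x _ => key x, ← Finset.sum_filter, Finset.sum_const, nsmul_eq_mul, mul_one]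
    have h13 : (Finset.univ.filter fun x : G => x ∈ MulAction.stabilizer G a).card = Nat.card (MulAction.stabilizer G a) := by
      rw [Nat.card_eq_fintype_card, Fintype.card_subtype]
    rw [h13]
    exact inv_mul_cancel₀ (Cfsg.Agent.H3.CharInd.cardH_ne_zero _)

end Cfsg.Agent.S0881
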