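import Mathlib
import Cfsg.Prelude.Def_Characters
import Cfsg.Prelude.Def_LieExceptional
import Cfsg.Agent.H3_Feit14
import Cfsg.Agent.H3_Zass6
import Cfsg.Agent.H3_CharPerm2
import Cfsg.Agent.H3_Fpf
import Cfsg.Agent.H3_PermInd
import Cfsg.Agent.S0881

/-!
# Feit's theorem on Zassenhaus groups: the simple case
-/

set_option autoImplicit false

open scoped ComplexConjugate

namespace Cfsg.Agent.H3.FeitZ

open Cfsg Cfsg.Agent.H3.CharBasic Cfsg.Agent.H3.CharIrr Cfsg.Agent.H3.CharInt Cfsg.Agent.H3.CharCalc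
  Cfsg.Agent.H3.CharComplete Cfsg.Agent.H3.CharInd Cfsg.Agent.H3.CharTI Cfsg.Agent.H3.CharMult
  Cfsg.Agent.H3.Clifford Cfsg.Agent.H3.CharQuot Cfsg.Agent.H3.Feit Cfsg.Agent.H3.CharPerm2
  Cfsg.Agent.H3.Zass Cfsg.Agent.H3.Zass2 Cfsg.Agent.H3.Zass4 Cfsg.Agent.H3.Zass5 Cfsg.Agent.H3.Zass6

variable {G Ω : Type*} [Group G] [MulAction G Ω] [Fintype Ω] (hZ : IsZassenhausGroup G Ω) {a b : Ω} (hab : a ≠ b)
  {h e : ℕ} (hh : Fintype.card Ω = h + 1) (he : Nat.card (EE G a b) = e) (hodd : Odd e)
  {H : Subgroup G} (hHa : H ≤ MulAction.stabilizer G a) (hHcard : Nat.card H + 1 = Fintype.card Ω)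
  (hHfix : ∀ u ∈ H, u ≠ 1 → ∀ c : Ω, u • c = c → c = a)

include hZ hab in
theorem finG : Finite G := by
  have := hZ.1
  exact Finite.of_injective (MulAction.toPermHom G Ω) (MulAction.toPerm_injective)

include hZ hHa hHcard hHfix in
theorem norm_H [Finite G] : ∀ b ∈ MulAction.stabilizer G a, ∀ u ∈ H, b * u * b⁻¹ ∈ H := by
  intro b hb u hu
  rw [← normalizer_H hZ a H hHa hHcard hHfix] at hb
  exact (Subgroup.mem_normalizer_iff.mp hb u).mp hu

include hab hHfix in
omit [Fintype Ω] in
theorem inf_bot : EE G a b ⊓ H = ⊥ := by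
  rw [Subgroup.eq_bot_iff_forall]
  rintro x ⟨hx1, hx2⟩
  by_contra hx
  exact hab (hHfix x hx2 hx b hx1.2).symm

include hZ hab hh hHa hHcard hHfix in
/-- decomposition of the stabilizer -/
theorem decomp [Finite G] {y : G} (hy : y ∈ MulAction.stabilizer G a) : ∃ u ∈ H, ∃ x ∈ EE G a b, y = u * x := by
  obtain ⟨B, hB⟩ : ∃ B : Subgroup G, B = MulAction.stabilizer G a := ⟨_, rfl⟩
  have hEB : EE G a b ≤ B := by rw [hB]; exact inf_le_left
  have hHB : H ≤ B := by rw [hB]; exact hHa
  have hcomp : Subgroup.IsComplement' (H.subgroupOf B) ((EE G a b).subgroupOf B) := by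
    apply Subgroup.isComplement'_of_card_mul_and_disjoint
    · rw [Nat.card_congr (Subgroup.subgroupOfEquivOfLe hHB).toEquiv,
        Nat.card_congr (Subgroup.subgroupOfEquivOfLe hEB).toEquiv, hB, card_B hZ hab hh]
      congr 1
      omega
    · rw [disjoint_iff, Subgroup.eq_bot_iff_forall]
      rintro ⟨x, hx⟩ ⟨h1, h2⟩
      apply Subtype.ext
      by_contra hx1
      exact hab (hHfix x h1 hx1 b h2.2).symm
  obtain ⟨⟨⟨u, hu⟩, ⟨v, hv⟩⟩, huv, -⟩ := hcomp.existsUnique ⟨y, by rw [hB]; exact hy⟩
  exact ⟨u, hu, v, hv, (congrArg Subtype.val huv).symm⟩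

include hZ hab hh he hodd hHa hHcard hHfix in
/-- `B / H` is abelian -/
theorem comm_B [Finite G] [IsSimpleGroup G] : ∀ x ∈ MulAction.stabilizer G a, ∀ y ∈ MulAction.stabilizer G a,
    x * y * x⁻¹ * y⁻¹ ∈ H := by
  intro x hx y hy
  obtain ⟨B, hB⟩ : ∃ B : Subgroup G, B = MulAction.stabilizer G a := ⟨_, rfl⟩
  obtain ⟨u, hu, s, hs, rfl⟩ := decomp hZ hab hh hHa hHcard hHfix hx
  obtain ⟨v, hv, t, ht, rfl⟩ := decomp hZ hab hh hHa hHcard hHfix hy
  have hn := norm_H hZ hHa hHcard hHfix
  have hst := comm_E hZ hab (by rw [he]; exact hodd) hs ht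
  have hsB : s ∈ MulAction.stabilizer G a := hs.1
  have htB : t ∈ MulAction.stabilizer G a := ht.1
  have e1 : u * s * (v * t) * (u * s)⁻¹ * (v * t)⁻¹ =
      u * (s * v * s⁻¹) * (s * t * (s⁻¹ * u⁻¹) * t⁻¹) * v⁻¹ := by group
  have e2 : s * t * (s⁻¹ * u⁻¹) * t⁻¹ = t * u⁻¹ * t⁻¹ := by
    rw [hst]; group
  rw [e1, e2]
  exact H.mul_mem (H.mul_mem (H.mul_mem hu (hn s hsB v hv)) (hn t htB _ (H.inv_mem hu))) (H.inv_mem hv)

include hZ hab hHa hHcard hHfix in
theorem nilp [Finite G] : Group.IsNilpotent H := by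
  obtain ⟨N, hN1, hN2, hN3⟩ := Cfsg.Agent.H3.Fpf.frobenius_nilpotent _ (frob_compl hZ hab)
  have h1 : N.map (MulAction.stabilizer G a).subtype = H := by
    have hle : N.map (MulAction.stabilizer G a).subtype ≤ H := by
      rintro _ ⟨⟨x, hx⟩, hxN, rfl⟩
      rw [mem_H_iff hZ a H hHa hHcard hHfix]
      refine ⟨hx, ?_⟩
      have hmem : (⟨x, hx⟩ : MulAction.stabilizer G a) ∈ Cfsg.frobeniusKernel
          ((MulAction.stabilizer G a ⊓ MulAction.stabilizer G b : Subgroup G).subgroupOf (MulAction.stabilizer G a)) := by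
        rw [← hN1]; exact hxN
      rcases hmem with h2 | h2
      · left; exact congrArg Subtype.val h2
      · by_cases hx1 : x = 1
        · left; exact hx1
        right
        intro c hc
        replace hc : x • c = c := hc
        by_contra hca
        obtain ⟨g, hga, hgb⟩ := two_trans hZ hab (c := a) (d := c) (fun h3 => hca h3.symm)
        refine h2 ⟨g, hga⟩ ?_
        rw [Cfsg.Agent.H1.Basic.mem_conj]
        refine ⟨?_, ?_⟩
        · change (g⁻¹ * x * g) • a = a
          rw [mul_smul, mul_smul, hga, (hx : x • a = a), inv_smul_eq_iff, hga]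
        · change (g⁻¹ * x * g) • b = b
          rw [mul_smul, mul_smul, hgb, hc, inv_smul_eq_iff, hgb]
    apply Subgroup.eq_of_le_of_card_ge hle
    rw [Subgroup.card_map_of_injective (Subgroup.subtype_injective _)]
    have h2 := Cfsg.Agent.H1.Frob.card_kernel (frob_compl hZ hab)
    have h3 := index_E hZ hab
    have h4 : Nat.card N = ((MulAction.stabilizer G a ⊓ MulAction.stabilizer G b :
        Subgroup G).subgroupOf (MulAction.stabilizer G a)).index := by
      rw [← h2, ← hN1]; rfl
    rw [h4]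
    omega
  rw [← h1]
  exact Group.nilpotent_of_mulEquiv (N.equivMapOfInjective (MulAction.stabilizer G a).subtype (Subgroup.subtype_injective _))

section Simple

variable [Fintype G] [IsSimpleGroup G]

include hZ hab in
omit [Fintype Ω] in
theorem simple_ker {χ : G → ℂ} (hχ : IsIrrCharacter G χ) (hχ1 : χ ≠ fun _ => 1) (g : G) (hg : χ g = χ 1) : g = 1 := by
  have hn := chKer_normal (IsIrr.isCharacter hχ)
  rcases hn.eq_bot_or_eq_top with h1 | h1
  · have h2 : g ∈ chKer χ (IsIrr.isCharacter hχ) := hg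
    rw [h1, Subgroup.mem_bot] at h2
    exact h2
  · exfalso
    have h2 : ∀ x, χ x = χ 1 := fun x => by
      have : x ∈ chKer χ (IsIrr.isCharacter hχ) := by rw [h1]; trivial
      exact this
    have h3 := ci_irr_ne hχ (isIrr_one (G := G)) hχ1
    rw [classInner] at h3
    have h4 := (mul_eq_zero.mp h3).resolve_left (inv_ne_zero (by exact_mod_cast Nat.card_pos.ne'))
    simp only [map_one, mul_one] at h4
    rw [Finset.sum_congr rfl (fun x _ => h2 x), Finset.sum_const, nsmul_eq_mul, mul_eq_zero] at h4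
    rcases h4 with h5 | h5
    · have : (Finset.univ : Finset G).card ≠ 0 := by rw [Finset.card_univ]; exact Fintype.card_ne_zero
      exact this (by exact_mod_cast h5)
    · exact IsIrr.one_ne_zero hχ h5

omit [Fintype G] in
include hZ hab hh he hodd in
/-- counting square roots of one -/
theorem card_sq [Finite G] : Nat.card {s : G // s * s = 1} = Nat.card {s : MulAction.stabilizer G a // s * s = 1} + e * h := by
  classical
  have := Fintype.ofFinite G
  have hodd' : Odd (Nat.card (EE G a b)) := by rw [he]; exact hodd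
  have h1 : Nat.card {s : G // s * s = 1} = 1 + Nat.card {x : G // orderOf x = 2} := by
    rw [Nat.card_eq_fintype_card, Nat.card_eq_fintype_card, Fintype.card_subtype, Fintype.card_subtype,
      show (1 : ℕ) = ({(1 : G)} : Finset G).card by simp, ← Finset.card_union_of_disjoint]
    · congr 1
      ext s
      simp only [Finset.mem_filter, Finset.mem_univ, true_and, Finset.mem_union, Finset.mem_singleton]
      constructor
      · intro hs
        by_cases hs1 : s = 1
        · left; exact hs1
        · right; exact order_of_sq hs hs1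
      · rintro (hs | hs)
        · rw [hs, one_mul]
        · exact sq_of_order hs
    · rw [Finset.disjoint_left]
      intro s hs hs'
      rw [Finset.mem_singleton] at hs
      rw [Finset.mem_filter, hs, orderOf_one] at hs'
      exact absurd hs'.2 (by norm_num)
  have h2 : Nat.card {s : MulAction.stabilizer G a // s * s = 1} = 1 + Nat.card {x : G // orderOf x = 2 ∧ x • a = a} := by
    have e1 : Nat.card {s : MulAction.stabilizer G a // s * s = 1} = Nat.card {s : G // s * s = 1 ∧ s • a = a} := by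
      apply Nat.card_congr
      refine ⟨fun s => ⟨s.1, congrArg Subtype.val s.2, s.1.2⟩, fun s => ⟨⟨s.1, s.2.2⟩, Subtype.ext s.2.1⟩, fun s => rfl,
        fun s => rfl⟩
    rw [e1, Nat.card_eq_fintype_card, Nat.card_eq_fintype_card, Fintype.card_subtype, Fintype.card_subtype,
      show (1 : ℕ) = ({(1 : G)} : Finset G).card by simp, ← Finset.card_union_of_disjoint]
    · congr 1
      ext s
      simp only [Finset.mem_filter, Finset.mem_univ, true_and, Finset.mem_union, Finset.mem_singleton]
      constructor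
      · rintro ⟨hs, hs'⟩
        by_cases hs1 : s = 1
        · left; exact hs1
        · right; exact ⟨order_of_sq hs hs1, hs'⟩
      · rintro (hs | hs)
        · rw [hs, one_mul, one_smul]; exact ⟨rfl, rfl⟩
        · exact ⟨sq_of_order hs.1, hs.2⟩
    · rw [Finset.disjoint_left]
      intro s hs hs'
      rw [Finset.mem_singleton] at hs
      rw [Finset.mem_filter, hs, orderOf_one] at hs'
      exact absurd hs'.2.1 (by norm_num)
  rw [h1, h2, card_inv hZ hab hodd' hh]
  split_ifs with hev
  · rw [card_inv_fix hZ hab hodd' hh hev, he]; ring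
  · have h3 : Nat.card {x : G // orderOf x = 2 ∧ x • a = a} = 0 := by
      rw [Nat.card_eq_zero]
      left
      refine ⟨fun x => ?_⟩
      have h4 := inv_fix_card hZ hab hodd' hh x.2.1
      rw [if_neg hev, Finset.card_eq_zero] at h4
      have : a ∈ (Finset.univ.filter fun c : Ω => (x : G) • c = c) := by
        rw [Finset.mem_filter]; exact ⟨Finset.mem_univ _, x.2.2⟩
      rw [h4] at this
      exact absurd this (Finset.notMem_empty _)
    rw [h3, he]

omit [Fintype G] in
include hZ hab hh he hodd hHa in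
theorem card_sq_H [Finite G] : Nat.card {u : H // u * u = 1} ≤ e + 1 := by
  classical
  have := Fintype.ofFinite G
  have hodd' : Odd (Nat.card (EE G a b)) := by rw [he]; exact hodd
  have h1 : Nat.card {u : H // u * u = 1} ≤ 1 + Nat.card {x : G // orderOf x = 2 ∧ x • a = a} := by
    have h2 : Nat.card (Option {x : G // orderOf x = 2 ∧ x • a = a}) = 1 + Nat.card {x : G // orderOf x = 2 ∧ x • a = a} := by
      rw [Finite.card_option, add_comm]
    rw [← h2]
    apply Nat.card_le_card_of_injective (fun u : {u : H // u * u = 1} =>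
      if hu : (u.1 : G) = 1 then (none : Option {x : G // orderOf x = 2 ∧ x • a = a}) else
        some ⟨u.1, order_of_sq (congrArg Subtype.val u.2) hu, hHa u.1.2⟩)
    intro u v huv
    by_cases hu : (u.1 : G) = 1
    · by_cases hv : (v.1 : G) = 1
      · exact Subtype.ext (Subtype.ext (hu.trans hv.symm))
      · simp only [dif_pos hu, dif_neg hv] at huv
        exact absurd huv (by simp)
    · by_cases hv : (v.1 : G) = 1
      · simp only [dif_pos hv, dif_neg hu] at huv
        exact absurd huv (by simp)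
      · simp only [dif_neg hv, dif_neg hu] at huv
        have h3 := Option.some.inj huv
        have h4 : (u.1 : G) = (v.1 : G) := congrArg (fun x : {x : G // orderOf x = 2 ∧ x • a = a} => (x : G)) h3
        exact Subtype.ext (Subtype.ext h4)
  refine h1.trans ?_
  by_cases hev : Even h
  · rw [card_inv_fix hZ hab hodd' hh hev, he, add_comm]
  · have h3 : Nat.card {x : G // orderOf x = 2 ∧ x • a = a} = 0 := by
      rw [Nat.card_eq_zero]
      left
      refine ⟨fun x => ?_⟩
      have h4 := inv_fix_card hZ hab hodd' hh x.2.1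
      rw [if_neg hev, Finset.card_eq_zero] at h4
      have : a ∈ (Finset.univ.filter fun c : Ω => (x : G) • c = c) := by
        rw [Finset.mem_filter]; exact ⟨Finset.mem_univ _, x.2.2⟩
      rw [h4] at this
      exact absurd this (Finset.notMem_empty _)
    rw [h3]; omega

end Simple

section Perm

variable [Fintype G]

include hZ in
theorem st_irr [Finite Ω] (h2 : 2 ≤ Nat.card Ω) : IsIrrCharacter G (fun g => perm G Ω g - 1) := by
  have := pretrans hZ
  exact (irr_iff_two_pretransitive (G := G) Ω h2).mpr hZ.2.1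

omit [Fintype G] in
include hh in
theorem st_one : perm G Ω 1 - 1 = (h : ℂ) := by
  have h1 : Nat.card (MulAction.fixedBy Ω (1 : G)) = Nat.card Ω := by
    apply Nat.card_congr
    apply Equiv.subtypeUnivEquiv
    intro x
    rw [MulAction.mem_fixedBy, one_smul]
  rw [perm, h1, Nat.card_eq_fintype_card, hh]
  push_cast; ring

omit [Fintype G] in
include hHa hHfix in
theorem st_H {u : G} (hu : u ∈ H) (hu1 : u ≠ 1) : perm G Ω u - 1 = 0 := by
  have h1 : Nat.card (MulAction.fixedBy Ω u) = 1 := by
    rw [Nat.card_eq_one_iff_unique]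
    refine ⟨⟨fun x y => Subtype.ext ?_⟩, ⟨⟨a, hHa hu⟩⟩⟩
    rw [hHfix u hu hu1 x x.2, hHfix u hu hu1 y y.2]
  rw [perm, h1]; simp

include hZ in
theorem ind_one_eq [Fintype (MulAction.stabilizer G a)] {χ : G → ℂ} (hχ : IsIrrCharacter G χ) (h2 : 2 ≤ Nat.card Ω)
    (hne : classInner (indFun (MulAction.stabilizer G a) (fun _ => 1)) χ ≠ 0) :
    χ = (fun _ => 1) ∨ χ = fun g => perm G Ω g - 1 := by
  have hind : indFun (MulAction.stabilizer G a) (fun _ => 1) = perm G Ω := by
    classical
    have := pretrans hZ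
    ext g
    rw [Cfsg.Agent.H3.PermInd.ind_stab, Cfsg.Agent.H3.PermInd.perm_apply]
    apply Finset.sum_congr _ (fun _ _ => rfl)
    rw [Finset.filter_eq_self]
    intro y _
    exact MulAction.mem_orbit_iff.mpr (MulAction.exists_smul_eq G a y)
  have h3 : perm G Ω = (fun _ => 1) + (fun g => perm G Ω g - 1) := by
    ext g; simp
  rw [hind, h3, ci_add_left] at hne
  by_contra hcon
  push Not at hcon
  apply hne
  rw [ci_irr_ne isIrr_one hχ (fun h => hcon.1 h.symm), ci_irr_ne (st_irr hZ h2) hχ (fun h => hcon.2 h.symm), add_zero]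

end Perm

section FDsec

variable [Fintype G] [IsSimpleGroup G]

include hZ hab hh he hodd hHa hHcard hHfix

theorem tri_aux (hlt : e < h - 1) {χ : G → ℂ} (hχ : IsIrrCharacter G χ) (hs : ∑ᶠ u : H, χ u ≠ 0) :
    χ = (fun _ => 1) ∨ χ = (fun g => perm G Ω g - 1) ∨ (χ 1 = h + 1 ∧ ∀ u ∈ H, u ≠ 1 → χ u = 1) := by
  classical
  have hodd' : Odd (Nat.card (EE G a b)) := by rw [he]; exact hodd
  have : Fintype H := Fintype.ofFinite _
  have : Fintype (MulAction.stabilizer G a) := Fintype.ofFinite _
  have : Fintype (IrrCharacter (MulAction.stabilizer G a)) := Fintype.ofFinite _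
  have hNn : (H.subgroupOf (MulAction.stabilizer G a)).Normal := by
    refine ⟨fun u hu b => ?_⟩
    rw [Subgroup.mem_subgroupOf] at *
    exact norm_H hZ hHa hHcard hHfix b b.2 u hu
  have : Fintype (H.subgroupOf (MulAction.stabilizer G a)) := Fintype.ofFinite _
  rw [finsum_eq_sum_of_fintype] at hs
  have hres : ∀ x : MulAction.stabilizer G a, χ x = ∑ μ : IrrCharacter (MulAction.stabilizer G a),
      classInner (fun x : MulAction.stabilizer G a => χ x) (μ : MulAction.stabilizer G a → ℂ) *
        (μ : MulAction.stabilizer G a → ℂ) x := by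
    intro x
    exact expand_apply (fun x : MulAction.stabilizer G a => χ x)
      (IsChar.isClass (IsChar.res (IsIrr.isCharacter hχ) _)) x
  have hs2 : ∑ u : H, χ u = ∑ μ : IrrCharacter (MulAction.stabilizer G a),
      classInner (fun x : MulAction.stabilizer G a => χ x) (μ : MulAction.stabilizer G a → ℂ) *
        ∑ u : H, (μ : MulAction.stabilizer G a → ℂ) ⟨u, hHa u.2⟩ := by
    rw [Finset.sum_congr rfl (fun (u : H) _ => hres ⟨u, hHa u.2⟩), Finset.sum_comm]
    apply Finset.sum_congr rfl
    intro μ _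
    rw [Finset.mul_sum]
  rw [hs2] at hs
  obtain ⟨μ, -, hμ⟩ := Finset.exists_ne_zero_of_sum_ne_zero hs
  have hμ1 := left_ne_zero_of_mul hμ
  have hμ2 := right_ne_zero_of_mul hμ
  -- `H` is in the kernel of `μ`
  have hsum : ∑ u : H, (μ : MulAction.stabilizer G a → ℂ) ⟨u, hHa u.2⟩ =
      ∑ x : H.subgroupOf (MulAction.stabilizer G a), (μ : MulAction.stabilizer G a → ℂ) x :=
    (Fintype.sum_equiv (Subgroup.subgroupOfEquivOfLe hHa).toEquiv _ _ (fun x => rfl)).symm
  have hK : InKer (H.subgroupOf (MulAction.stabilizer G a)) (μ : MulAction.stabilizer G a → ℂ) := by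
    rw [inKer_iff_inner hNn μ.2, classInner]
    simp only [map_one, mul_one]
    rw [← hsum]
    exact mul_ne_zero (inv_ne_zero (by exact_mod_cast Nat.card_pos.ne')) hμ2
  have hK1 : ∀ x ∈ H.subgroupOf (MulAction.stabilizer G a), (μ : MulAction.stabilizer G a → ℂ) x =
      (μ : MulAction.stabilizer G a → ℂ) 1 := by
    intro x hx
    have := hK x hx 1
    rwa [mul_one] at this
  -- `μ` is linear
  have hlin : (μ : MulAction.stabilizer G a → ℂ) 1 = 1 := by
    obtain ⟨μ', hμ', hμμ'⟩ := IsIrr.descend μ.2 _ hK1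
    rw [← hμμ' 1]
    apply IsIrr.one_of_comm _ hμ'
    intro x y
    induction x using QuotientGroup.induction_on with | _ x => ?_
    induction y using QuotientGroup.induction_on with | _ y => ?_
    rw [← QuotientGroup.mk_mul, ← QuotientGroup.mk_mul, QuotientGroup.eq, Subgroup.mem_subgroupOf]
    have h1 := comm_B hZ hab hh he hodd hHa hHcard hHfix _ ((MulAction.stabilizer G a).inv_mem y.2)
      _ ((MulAction.stabilizer G a).inv_mem x.2)
    have h2 : (((x * y)⁻¹ * (y * x) : MulAction.stabilizer G a) : G) = (y : G)⁻¹ * (x : G)⁻¹ * (y : G)⁻¹⁻¹ * (x : G)⁻¹⁻¹ := by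
      simp only [Subgroup.coe_mul, Subgroup.coe_inv]; group
    rw [h2]
    exact h1
  have hfrob : classInner (indFun (MulAction.stabilizer G a) (μ : MulAction.stabilizer G a → ℂ)) χ ≠ 0 := by
    rw [frobenius _ _ _ (IsIrr.isClass hχ), ← ci_conj_symm]
    intro h1
    exact hμ1 ((map_eq_zero _).mp h1)
  have hcardΩ : 2 ≤ Nat.card Ω := by
    rw [Nat.card_eq_fintype_card, hh]; omega
  by_cases hμne : (μ : MulAction.stabilizer G a → ℂ) = fun _ => 1
  · rw [hμne] at hfrob
    rcases ind_one_eq hZ hχ hcardΩ hfrob with h1 | h1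
    · left; exact h1
    · right; left; exact h1
  · right; right
    obtain ⟨h1, h2⟩ := Cfsg.Agent.S0881.result hZ hab hodd' (by
      have : Nat.card (EE G a b) < Fintype.card Ω - 2 := by rw [he, hh]; omega
      exact this) H hHa hHcard hHfix (μ : MulAction.stabilizer G a → ℂ)
      ⟨IsIrr.isCharacter μ.2, hlin⟩ (fun u hu => (hK1 u hu).trans hlin) hμne
    have h3 : indFun (MulAction.stabilizer G a) (μ : MulAction.stabilizer G a → ℂ) = χ := by
      by_contra h4
      exact hfrob (ci_irr_ne h1 hχ h4)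
    rw [← h3]
    refine ⟨?_, h2⟩
    have := pretrans hZ
    rw [ind_one, hlin, mul_one, MulAction.index_stabilizer_of_transitive, Nat.card_eq_fintype_card, hh]
    push_cast; ring

theorem fd (hlt : e < h - 1) : FD (MulAction.stabilizer G a) H (fun g => perm G Ω g - 1) e h := by
  classical
  have hodd' : Odd (Nat.card (EE G a b)) := by rw [he]; exact hodd
  have hcard : Nat.card H = h := by omega
  have he1 : 1 < e := by rw [← he]; exact one_lt_card_E hZ hab
  have hcardΩ : 2 ≤ Nat.card Ω := by
    rw [Nat.card_eq_fintype_card, hh]; omega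
  refine
    { hHB := hHa
      hn := norm_H hZ hHa hHcard hHfix
      ti := fun g hg u hu hgu => H_TI a H hHa hHfix (g := g) hg hu hgu
      cent := fun u hu hu1 g hg => centralizer_le hZ hab hHa
        (fun x h1 h2 => (mem_H_iff hZ a H hHa hHcard hHfix).mpr ⟨h1, h2⟩) hHfix hu hu1 hg
      cH := hcard
      cB := by rw [card_B hZ hab hh, he, mul_comm]
      cG := by rw [card_G hZ hab hh, he]; ring
      eodd := hodd
      e1 := he1
      inv := card_sq hZ hab hh he hodd
      St_irr := st_irr hZ hcardΩ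
      St_one := st_one hh
      St_H := fun u hu hu1 => st_H hHa hHfix hu hu1
      h1 := by omega
      tri := fun χ hχ hs => tri_aux hZ hab hh he hodd hHa hHcard hHfix hlt hχ hs
      simple := fun χ hχ hχ1 g hg => simple_ker hZ hab hχ hχ1 g hg }

omit [Fintype G] in
theorem simple_case [Finite G] :
    h ≤ 2 * e + 1 ∨ (IsPGroup 2 H ∧ (∃ u v : H, u * v ≠ v * u) ∧ (commutator H).index ≤ 4 * e ^ 2 + 1) := by
  classical
  have := Fintype.ofFinite G
  by_cases hlt : h ≤ 2 * e + 1
  · left; exact hlt
  push Not at hlt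
  exact core (fd hZ hab hh he hodd hHa hHcard hHfix (by omega)) (E := EE G a b) inf_le_left he
    (inf_bot hab hHfix) (nilp hZ hab hHa hHcard hHfix) (comm_B hZ hab hh he hodd hHa hHcard hHfix)
    (card_sq_H hZ hab hh he hodd hHa)

end FDsec

end Cfsg.Agent.H3.FeitZ
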