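import Mathlib
import Cfsg.Agent.H3_FeitZ
import Cfsg.Agent.H9_ZassN

/-!
# Feit's theorem on Zassenhaus groups: reduction to the simple case
-/

set_option autoImplicit false

namespace Cfsg.Agent.H3.FeitR

open Cfsg Cfsg.Agent.H3.Zass Cfsg.Agent.H3.Zass2 Cfsg.Agent.H3.FeitZ

variable {G Ω : Type*} [Group G] [MulAction G Ω] [Fintype Ω] (hZ : IsZassenhausGroup G Ω) {a b : Ω} (hab : a ≠ b)
  {h e : ℕ} (hh : Fintype.card Ω = h + 1) (he : Nat.card (EE G a b) = e) (hodd : Odd e)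
  {H : Subgroup G} (hHa : H ≤ MulAction.stabilizer G a) (hHcard : Nat.card H + 1 = Fintype.card Ω)
  (hHfix : ∀ u ∈ H, u ≠ 1 → ∀ c : Ω, u • c = c → c = a)

include hZ hHa hHcard hHfix in
theorem ker_H [Finite G] : Cfsg.Agent.H9.ZassA.Ker H a := by
  classical
  have hfree : ∀ k ∈ H, ∀ y, y ≠ a → k • y = y → k = 1 := by
    intro k hk y hy hky
    by_contra hk1
    exact hy (hHfix k hk hk1 y hky)
  refine ⟨hHa, norm_H hZ hHa hHcard hHfix, fun y z hy hz => ?_, hfree⟩
  have hmv : ∀ k ∈ H, k • y ≠ a := by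
    intro k hk h1
    apply hy
    have h2 : k • a = a := hHa hk
    exact smul_left_cancel k (h1.trans h2.symm)
  have hinj : Function.Injective (fun k : H => (⟨(k : G) • y, hmv k k.2⟩ : {x : Ω // x ≠ a})) := by
    intro k l hkl
    have h1 : (k : G) • y = (l : G) • y := congrArg Subtype.val hkl
    have h2 := hfree ((l : G)⁻¹ * k) (H.mul_mem (H.inv_mem l.2) k.2) y hy (by
      rw [mul_smul, h1, inv_smul_smul])
    exact Subtype.ext (inv_mul_eq_one.mp h2).symm
  have : Fintype H := Fintype.ofFinite _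
  have hcard : Fintype.card H = Fintype.card {x : Ω // x ≠ a} := by
    have h1 := Fintype.card_subtype_compl (fun x : Ω => x = a)
    have h2 : Fintype.card {x : Ω // x = a} = 1 := Fintype.card_subtype_eq a
    rw [h2] at h1
    have h3 : Fintype.card {x : Ω // x ≠ a} = Fintype.card {x : Ω // ¬ x = a} := Fintype.card_congr (Equiv.refl _)
    rw [h3, h1, ← hHcard, Nat.card_eq_fintype_card]
    omega
  have hbij := (Fintype.bijective_iff_injective_and_card _).mpr ⟨hinj, hcard⟩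
  obtain ⟨k, hk⟩ := hbij.2 ⟨z, hz⟩
  exact ⟨k, k.2, congrArg Subtype.val hk⟩

include hZ hab hh he hodd hHa hHcard hHfix in
theorem main [Finite G] :
    h ≤ 2 * e + 1 ∨ (IsPGroup 2 H ∧ (∃ u v : H, u * v ≠ v * u) ∧ (commutator H).index ≤ 4 * e ^ 2 + 1) := by
  classical
  obtain ⟨N, hNn, hN1, hNs, hNZ⟩ := Cfsg.Agent.H9.ZassN.exists_simple hZ
  have hHN : H ≤ N := Cfsg.Agent.H9.ZassN.ker_le hZ N hN1 (ker_H hZ hHa hHcard hHfix)
  obtain ⟨H', hH'⟩ : ∃ H' : Subgroup N, H' = H.subgroupOf N := ⟨_, rfl⟩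
  have eqv : H' ≃* H := by rw [hH']; exact Subgroup.subgroupOfEquivOfLe hHN
  have hH'a : H' ≤ MulAction.stabilizer N a := by
    rw [hH']
    intro x hx
    exact hHa (Subgroup.mem_subgroupOf.mp hx)
  have hH'card : Nat.card H' + 1 = Fintype.card Ω := by
    rw [Nat.card_congr eqv.toEquiv]; exact hHcard
  have hH'fix : ∀ u ∈ H', u ≠ 1 → ∀ c : Ω, u • c = c → c = a := by
    rw [hH']
    intro u hu hu1 c hc
    exact hHfix u (Subgroup.mem_subgroupOf.mp hu) (fun h1 => hu1 (Subtype.ext h1)) c hc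
  obtain ⟨e', he'⟩ : ∃ e', Nat.card (EE N a b) = e' := ⟨_, rfl⟩
  have hdvd : e' ∣ e := by
    rw [← he', ← he]
    have hm : ∀ x ∈ EE N a b, (x : G) ∈ EE G a b := fun x hx => ⟨hx.1, hx.2⟩
    let f : EE N a b →* EE G a b :=
      { toFun := fun x => ⟨(x : N), hm x x.2⟩
        map_one' := rfl
        map_mul' := fun _ _ => rfl }
    apply Subgroup.card_dvd_of_injective f
    intro x y hxy
    exact Subtype.ext (Subtype.ext (congrArg (fun z : EE G a b => (z : G)) hxy))
  have he0 : 0 < e := hodd.pos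
  have hle : e' ≤ e := Nat.le_of_dvd he0 hdvd
  rcases simple_case hNZ hab hh he' (hodd.of_dvd_nat hdvd) hH'a hH'card hH'fix with h1 | ⟨h1, ⟨u, v, h2⟩, h3⟩
  · left; omega
  · right
    refine ⟨h1.of_equiv eqv, ⟨eqv u, eqv v, fun h4 => h2 (eqv.injective (by rw [map_mul, map_mul]; exact h4))⟩, ?_⟩
    have h4 : (commutator H).index = (commutator H').index :=
      (Nat.card_congr (MulEquiv.abelianizationCongr eqv).toEquiv).symm
    rw [h4]
    refine h3.trans ?_
    have : e' ^ 2 ≤ e ^ 2 := Nat.pow_le_pow_left hle 2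
    omega

end Cfsg.Agent.H3.FeitR
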