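import Mathlib
import Cfsg.Agent.H9_ZassZ
import Cfsg.Agent.S0885

/-!
# Feit's inequality and its consequences
-/

set_option autoImplicit false

namespace Cfsg.Agent.H9.Feit

open Cfsg Cfsg.Agent.H9.ZassA Cfsg.Agent.H9.ZassC Cfsg.Agent.H9.ZassI

variable {G Ω : Type*} [Group G] [MulAction G Ω]

theorem feit [Finite G] [Fintype Ω] (hZ : IsZassenhausGroup G Ω) {a b : Ω} (hab : a ≠ b)
    (hodd : Odd (Nat.card ↥(MulAction.stabilizer G a ⊓ MulAction.stabilizer G b))) {K : Subgroup G} (hK : Ker K a) :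
    Fintype.card Ω - 2 ≤ 2 * Nat.card ↥(MulAction.stabilizer G a ⊓ MulAction.stabilizer G b) ∨
      (IsPGroup 2 K ∧ ∃ u v : K, u * v ≠ v * u) := by
  classical
  have hKc := Ker.card hab hK
  rcases Cfsg.Agent.S0885.result hZ hab (Fintype.card Ω - 1) _ (by omega) rfl hodd K (fun g hg => hK.le g hg)
    (by omega) (fun u hu hu1 c huc => by
      by_contra hc
      exact hu1 (hK.free u hu c hc huc)) with h | ⟨h, h', -⟩
  · left; omega
  · right; exact ⟨h, h'⟩

theorem feit_ab [Finite G] [Fintype Ω] (hZ : IsZassenhausGroup G Ω) {a b : Ω} (hab : a ≠ b)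
    (hodd : Odd (Nat.card ↥(MulAction.stabilizer G a ⊓ MulAction.stabilizer G b))) {K : Subgroup G} (hK : Ker K a)
    (hKc : ∀ k ∈ K, ∀ l ∈ K, k * l = l * k) :
    Fintype.card Ω - 2 ≤ 2 * Nat.card ↥(MulAction.stabilizer G a ⊓ MulAction.stabilizer G b) := by
  rcases feit hZ hab hodd hK with h | ⟨-, u, v, huv⟩
  · exact h
  · exact absurd (Subtype.ext (hKc u u.2 v v.2)) huv

/-- kernels restrict to normal subgroups containing them -/
theorem ker_sub {K N : Subgroup G} {a : Ω} (hK : Ker K a) (hKN : K ≤ N) : Ker (K.subgroupOf N) a where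
  le := fun k hk => hK.le k hk
  nrm := fun g hg k hk => hK.nrm g hg k hk
  reg := fun y z hy hz => by
    obtain ⟨k, hk, hkz⟩ := hK.reg y z hy hz
    exact ⟨⟨k, hKN hk⟩, hk, hkz⟩
  free := fun k hk y hy hky => Subtype.ext (hK.free k hk y hy hky)

/-- **Zassenhaus groups with commutative kernel** -/
theorem main [Finite G] [Fintype Ω] (hZ : IsZassenhausGroup G Ω) {a b : Ω} (hab : a ≠ b)
    {K : Subgroup G} (hK : Ker K a) (hKc : ∀ k ∈ K, ∀ l ∈ K, k * l = l * k) :
    S3 G Ω ∨ (2 * Nat.card ↥(MulAction.stabilizer G a ⊓ MulAction.stabilizer G b) = Fintype.card Ω - 2 ∧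
      ∃ (F : Type) (_ : Field F) (_ : Fintype F), ringChar F ≠ 2 ∧ Fintype.card F + 1 = Fintype.card Ω ∧
      Nonempty (G ≃* Matrix.ProjectiveSpecialLinearGroup (Fin 2) F)) := by
  refine ZassZ.main hZ hab hK hKc (fun hodd => feit_ab hZ hab hodd hK hKc) (fun N hN hKN hodd => ?_)
  exact feit_ab hN hab hodd (ker_sub hK hKN) (fun k hk l hl => Subtype.ext (hKc k hk l hl))

/-- the degree of a simple Zassenhaus group -/
theorem degree [Finite G] [Fintype Ω] (hZ : IsZassenhausGroup G Ω) : IsPrimePow (Fintype.card Ω - 1) := by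
  classical
  have hZG := ZG.of_zass hZ
  obtain ⟨g₀, hg₀, a, b, hab, -, -⟩ := hZ.2.2.2.1
  have h3 := three_le hZ
  obtain ⟨K, hK⟩ := exists_ker hZG hab
  have hKc := Ker.card hab hK
  have key : (∃ p f : ℕ, p.Prime ∧ Nat.card K = p ^ f) → IsPrimePow (Fintype.card Ω - 1) := by
    rintro ⟨p, f, hp, hf⟩
    have h1 : Fintype.card Ω - 1 = p ^ f := by omega
    rw [h1]
    have hf0 : f ≠ 0 := by
      rintro rfl
      rw [pow_zero] at hf
      omega
    exact hp.isPrimePow.pow hf0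
  have hbig : Fintype.card Ω - 2 ≤ 2 * Nat.card ↥(MulAction.stabilizer G a ⊓ MulAction.stabilizer G b) →
      IsPrimePow (Fintype.card Ω - 1) := by
    intro h
    obtain ⟨p, f, hp, -, -, hf⟩ := (Ker.toBig hZG hab hK h h3).elementary
    exact key ⟨p, f, hp, hf⟩
  by_cases hodd : Odd (Nat.card ↥(MulAction.stabilizer G a ⊓ MulAction.stabilizer G b))
  · rcases feit hZ hab hodd hK with h | ⟨h, -⟩
    · exact hbig h
    · haveI : Fact (Nat.Prime 2) := ⟨Nat.prime_two⟩
      obtain ⟨n, hn⟩ := IsPGroup.iff_card.1 h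
      exact key ⟨2, n, Nat.prime_two, hn⟩
  · rw [Nat.not_odd_iff_even] at hodd
    exact hbig (ZassB.card_le hZG hab hodd)

end Cfsg.Agent.H9.Feit
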