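import Mathlib

/-!
# Transport of projective linear groups along ring isomorphisms
-/

set_option autoImplicit false

namespace Cfsg.Agent.H9.FieldCongr

theorem map_center {G H : Type*} [Group G] [Group H] (m : G ≃* H) :
    (Subgroup.center G).map (m : G →* H) = Subgroup.center H := by
  ext x
  constructor
  · rintro ⟨y, hy, rfl⟩
    rw [Subgroup.mem_center_iff]
    intro g
    have := Subgroup.mem_center_iff.mp hy (m.symm g)
    have h2 := congrArg m this
    simpa using h2
  · intro hx
    refine ⟨m.symm x, ?_, by simp⟩
    rw [SetLike.mem_coe, Subgroup.mem_center_iff]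
    intro g
    have := Subgroup.mem_center_iff.mp hx (m g)
    have h2 := congrArg m.symm this
    simpa using h2

theorem psl {n : ℕ} {K L : Type*} [CommRing K] [CommRing L] (r : K ≃+* L) :
    Nonempty (Matrix.ProjectiveSpecialLinearGroup (Fin n) K ≃* Matrix.ProjectiveSpecialLinearGroup (Fin n) L) := by
  let m : Matrix.SpecialLinearGroup (Fin n) K ≃* Matrix.SpecialLinearGroup (Fin n) L :=
    { toFun := Matrix.SpecialLinearGroup.map (r : K →+* L)
      invFun := Matrix.SpecialLinearGroup.map (r.symm : L →+* K)
      left_inv := fun A => by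
        ext i j
        change r.symm (r (A i j)) = A i j
        exact r.symm_apply_apply _
      right_inv := fun A => by
        ext i j
        change r (r.symm (A i j)) = A i j
        exact r.apply_symm_apply _
      map_mul' := fun A B => map_mul _ A B }
  exact ⟨QuotientGroup.congr _ _ m (map_center m)⟩

theorem pgl {n : ℕ} {K L : Type*} [CommRing K] [CommRing L] (r : K ≃+* L) :
    Nonempty (Matrix.ProjGenLinGroup (Fin n) K ≃* Matrix.ProjGenLinGroup (Fin n) L) := by
  let m : GL (Fin n) K ≃* GL (Fin n) L := Units.mapEquiv (r.mapMatrix : Matrix (Fin n) (Fin n) K ≃+* Matrix (Fin n) (Fin n) L).toMulEquiv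
  exact ⟨QuotientGroup.congr _ _ m (map_center m)⟩

end Cfsg.Agent.H9.FieldCongr
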