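import Mathlib
import Cfsg.Agent.H9_ZassZ
import Cfsg.Agent.H9_SemiAff

/-!
# Transitive groups of degree `p + 1` and order `(p+1)pd`, `d < p`
-/

set_option autoImplicit false

open scoped Pointwise

namespace Cfsg.Agent.H9.PrimeAdd

open Cfsg Cfsg.Agent.H9.ZassA Cfsg.Agent.H9.ZassC Cfsg.Agent.H9.ZassI

variable {G Ω : Type*} [Group G] [MulAction G Ω]

theorem free_of_card_prime [FaithfulSMul G Ω] [Finite G] [Fintype Ω] {p : ℕ} (hp : p.Prime)
    (hΩ : Fintype.card Ω = p + 1) {K : Subgroup G} (hK : Nat.card K = p) {a : Ω} (hKa : ∀ k ∈ K, k • a = a) :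
    ∀ k ∈ K, ∀ y, y ≠ a → k • y = y → k = 1 := by
  classical
  haveI := Fact.mk hp
  intro k hk y hya hky
  by_contra hk1
  have hKk : Subgroup.zpowers k = K := by
    apply Subgroup.eq_of_le_of_card_ge (Subgroup.zpowers_le.2 hk)
    rw [hK, Nat.card_zpowers]
    have h1 : orderOf k ∣ p := by rw [← hK, ← Subgroup.orderOf_mk k hk]; exact orderOf_dvd_natCard _
    rcases (Nat.dvd_prime hp).1 h1 with h2 | h2
    · exact absurd (orderOf_eq_one_iff.1 h2) hk1
    · exact h2.ge
  have hfix : ∀ x : Ω, k • x = x → ∀ l ∈ K, l • x = x := by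
    intro x hx l hl
    rw [← hKk] at hl
    have h1 : Subgroup.zpowers k ≤ MulAction.stabilizer G x := Subgroup.zpowers_le.2 hx
    exact h1 hl
  have hP : IsPGroup p K := IsPGroup.of_card (n := 1) (by rw [hK, pow_one])
  have hmod := hP.card_modEq_card_fixedPoints Ω
  have hmem : ∀ x : Ω, x ∈ MulAction.fixedPoints K Ω ↔ k • x = x := by
    intro x
    constructor
    · intro h; exact h ⟨k, hk⟩
    · intro h l; exact hfix x h l l.2
  have hle : Nat.card (MulAction.fixedPoints K Ω) ≤ p + 1 := by
    rw [← hΩ, ← Nat.card_eq_fintype_card]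
    exact Nat.card_le_card_of_injective _ Subtype.val_injective
  have h2 : 2 ≤ Nat.card (MulAction.fixedPoints K Ω) := by
    have h3 : ({a, y} : Set Ω).ncard = 2 := Set.ncard_pair hya.symm
    have h4 : ({a, y} : Set Ω) ⊆ MulAction.fixedPoints K Ω := by
      rintro x (rfl | rfl)
      · rw [hmem]; exact hKa k hk
      · rw [hmem]; exact hky
    have h5 := Set.ncard_le_ncard h4 (Set.toFinite _)
    rw [h3] at h5
    exact h5
  rw [Nat.card_eq_fintype_card (α := Ω), hΩ] at hmod
  have hall : Nat.card (MulAction.fixedPoints K Ω) = p + 1 := by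
    obtain ⟨c, hc⟩ := (Nat.modEq_iff_dvd' hle).1 hmod.symm
    have hp2 := hp.two_le
    rcases Nat.eq_zero_or_pos c with h6 | h6
    · rw [h6, mul_zero] at hc; omega
    · exfalso
      have : p ≤ p * c := Nat.le_mul_of_pos_right p h6
      omega
  apply hk1
  have h7 : (MulAction.fixedPoints K Ω : Set Ω) = Set.univ := by
    apply Set.eq_of_subset_of_ncard_le (Set.subset_univ _) _ (Set.toFinite _)
    rw [Set.ncard_univ, Nat.card_eq_fintype_card, hΩ]
    exact hall.ge
  apply FaithfulSMul.eq_of_smul_eq_smul (α := Ω)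
  intro x
  rw [one_smul, ← hmem, h7]
  trivial

theorem exists_ker [FaithfulSMul G Ω] [Finite G] [Fintype Ω] [MulAction.IsPretransitive G Ω] {p d : ℕ} (hp : p.Prime)
    (hΩ : Fintype.card Ω = p + 1) (hG : Nat.card G = (p + 1) * p * d) (hd : d < p) (a : Ω) :
    ∃ K : Subgroup G, Ker K a ∧ Nat.card K = p := by
  classical
  haveI := Fact.mk hp
  have hd0 : 0 < d := by
    rcases Nat.eq_zero_or_pos d with h | h
    · rw [h, mul_zero] at hG
      exact absurd hG Nat.card_pos.ne'
    · exact h
  have hS : Nat.card (MulAction.stabilizer G a) = p * d := by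
    have h1 := (MulAction.stabilizer G a).card_mul_index
    rw [MulAction.index_stabilizer_of_transitive, Nat.card_eq_fintype_card (α := Ω), hΩ, hG] at h1
    have h2 : Nat.card (MulAction.stabilizer G a) * (p + 1) = (p * d) * (p + 1) := by rw [h1]; ring
    exact Nat.eq_of_mul_eq_mul_right (Nat.succ_pos p) h2
  obtain ⟨P⟩ : Nonempty (Sylow p (MulAction.stabilizer G a)) := inferInstance
  have hpd : ¬ p ∣ d := fun h => absurd (Nat.le_of_dvd hd0 h) (by omega)
  have hPc : Nat.card P = p := by
    rw [P.card_eq_multiplicity, hS, Nat.factorization_mul hp.ne_zero hd0.ne']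
    simp only [Finsupp.coe_add, Pi.add_apply, hp.factorization_self]
    rw [Nat.factorization_eq_zero_of_not_dvd hpd, add_zero, pow_one]
  have hidx : (P : Subgroup (MulAction.stabilizer G a)).index = d := by
    have h1 := (P : Subgroup (MulAction.stabilizer G a)).card_mul_index
    have h2 : Nat.card (P : Subgroup (MulAction.stabilizer G a)) = p := hPc
    rw [hS, h2] at h1
    exact Nat.eq_of_mul_eq_mul_left hp.pos h1
  have hone : Nat.card (Sylow p (MulAction.stabilizer G a)) = 1 := by
    have h1 := card_sylow_modEq_one p (MulAction.stabilizer G a)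
    have h2 := P.card_dvd_index
    rw [hidx] at h2
    have h3 := Nat.le_of_dvd hd0 h2
    rw [Nat.ModEq, Nat.mod_eq_of_lt (by omega), Nat.mod_eq_of_lt hp.one_lt] at h1
    exact h1
  haveI : Subsingleton (Sylow p (MulAction.stabilizer G a)) := (Nat.card_eq_one_iff_unique.1 hone).1
  have hPn : (P : Subgroup (MulAction.stabilizer G a)).Normal := P.normal_of_subsingleton
  have hKc : Nat.card ((P : Subgroup (MulAction.stabilizer G a)).map (MulAction.stabilizer G a).subtype) = p := by
    rw [Subgroup.card_map_of_injective (Subgroup.subtype_injective _)]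
    exact hPc
  have hle : ∀ k ∈ (P : Subgroup (MulAction.stabilizer G a)).map (MulAction.stabilizer G a).subtype, k • a = a := by
    rintro _ ⟨k, -, rfl⟩
    exact k.2
  have hfree := free_of_card_prime hp hΩ hKc hle
  refine ⟨_, ⟨hle, ?_, ?_, hfree⟩, hKc⟩
  · rintro g hg _ ⟨k, hk, rfl⟩
    exact ⟨⟨g, hg⟩ * k * ⟨g, hg⟩⁻¹, hPn.conj_mem k hk _, rfl⟩
  · intro y z hy hz
    obtain ⟨K, hK⟩ : ∃ K, K = (P : Subgroup (MulAction.stabilizer G a)).map (MulAction.stabilizer G a).subtype := ⟨_, rfl⟩
    rw [← hK] at hle hfree hKc ⊢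
    let f : K → {x : Ω // x ≠ a} := fun k => ⟨(k : G) • y, fun h =>
      hy (MulAction.injective (k : G) (h.trans (hle k k.2).symm))⟩
    have hf : Function.Injective f := by
      intro k l hkl
      have h1 : (k : G) • y = (l : G) • y := congrArg Subtype.val hkl
      have h2 := hfree ((l : G)⁻¹ * k) (K.mul_mem (K.inv_mem l.2) k.2) y hy (by
        rw [mul_smul, inv_smul_eq_iff, h1])
      exact Subtype.ext (inv_mul_eq_one.1 h2).symm
    haveI := Fintype.ofFinite K
    have hbij := (Fintype.bijective_iff_injective_and_card f).2 ⟨hf, by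
      rw [← Nat.card_eq_fintype_card, hKc, Fintype.card_subtype_compl, Fintype.card_subtype_eq, hΩ]
      rfl⟩
    obtain ⟨k, hk⟩ := hbij.2 ⟨z, hz⟩
    exact ⟨k, k.2, congrArg Subtype.val hk⟩

theorem zg [FaithfulSMul G Ω] [Finite G] [Fintype Ω] [MulAction.IsPretransitive G Ω] {p d : ℕ} (hp : p.Prime)
    (hΩ : Fintype.card Ω = p + 1) (hG : Nat.card G = (p + 1) * p * d) (hd : d < p) : ZG G Ω := by
  classical
  haveI := Fact.mk hp
  have hfaith : ∀ g : G, (∀ x : Ω, g • x = x) → g = 1 := by
    intro g hg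
    exact FaithfulSMul.eq_of_smul_eq_smul (α := Ω) (fun x => by rw [hg x, one_smul])
  refine ⟨hfaith, ?_, ?_⟩
  · intro a b c d' hab hcd
    obtain ⟨g, hg⟩ := MulAction.exists_smul_eq G a c
    obtain ⟨K, hK, -⟩ := exists_ker hp hΩ hG hd c
    obtain ⟨k, hk, hkb⟩ := hK.reg (g • b) d' (fun h => hab (MulAction.injective g (hg.trans h.symm))) hcd.symm
    exact ⟨k * g, by rw [mul_smul, hg, hK.le k hk], by rw [mul_smul, hkb]⟩
  · intro g a b c hab hbc hac hga hgb hgc
    obtain ⟨K, hK, hKc⟩ := exists_ker hp hΩ hG hd a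
    obtain ⟨k, hk, hkb⟩ := hK.reg b c hab.symm hac.symm
    have hk1 : k ≠ 1 := by
      rintro rfl
      rw [one_smul] at hkb
      exact hbc hkb
    have hgb' : g⁻¹ • b = b := by rw [inv_smul_eq_iff, hgb]
    have h1 : k⁻¹ * (g * k * g⁻¹) = 1 := by
      apply hK.free _ (K.mul_mem (K.inv_mem hk) (hK.nrm g hga k hk)) b hab.symm
      rw [mul_smul, inv_smul_eq_iff, mul_smul, mul_smul, hgb', hkb, hgc]
    have h2 : g * k = k * g := mul_inv_eq_iff_eq_mul.1 (inv_mul_eq_one.1 h1).symm
    have hKk : Subgroup.zpowers k = K := by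
      apply Subgroup.eq_of_le_of_card_ge (Subgroup.zpowers_le.2 hk)
      rw [hKc, Nat.card_zpowers]
      have h1 : orderOf k ∣ p := by rw [← hKc, ← Subgroup.orderOf_mk k hk]; exact orderOf_dvd_natCard _
      rcases (Nat.dvd_prime hp).1 h1 with h2 | h2
      · exact absurd (orderOf_eq_one_iff.1 h2) hk1
      · exact h2.ge
    apply hfaith
    intro x
    by_cases hx : x = a
    · rw [hx, hga]
    · obtain ⟨l, hl, hlx⟩ := hK.reg b x hab.symm hx
      rw [← hKk] at hl
      obtain ⟨n, rfl⟩ := hl
      have h3 : g * k ^ n = k ^ n * g := (show Commute g k from h2).zpow_right n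
      rw [← hlx]
      change g • k ^ n • b = k ^ n • b
      rw [← mul_smul, h3, mul_smul, hgb]

theorem card_E [FaithfulSMul G Ω] [Finite G] [Fintype Ω] [MulAction.IsPretransitive G Ω] {p d : ℕ} (hp : p.Prime)
    (hΩ : Fintype.card Ω = p + 1) (hG : Nat.card G = (p + 1) * p * d) {a b : Ω} (hab : a ≠ b)
    (hZ : ZG G Ω) :
    Nat.card ↥(MulAction.stabilizer G a ⊓ MulAction.stabilizer G b) = d := by
  classical
  have h1 := (MulAction.stabilizer G a).card_mul_index
  rw [MulAction.index_stabilizer_of_transitive, Nat.card_eq_fintype_card (α := Ω), hΩ, hG] at h1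
  have hS : Nat.card (MulAction.stabilizer G a) = p * d := by
    have h2 : Nat.card (MulAction.stabilizer G a) * (p + 1) = (p * d) * (p + 1) := by rw [h1]; ring
    exact Nat.eq_of_mul_eq_mul_right (Nat.succ_pos p) h2
  have h2 := Subgroup.relIndex_mul_relIndex (⊥ : Subgroup G) (MulAction.stabilizer G a ⊓ MulAction.stabilizer G b)
    (MulAction.stabilizer G a) bot_le inf_le_left
  rw [Subgroup.relIndex_bot_left, Subgroup.relIndex_bot_left, hS] at h2
  have h3 : (MulAction.stabilizer G a ⊓ MulAction.stabilizer G b).relIndex (MulAction.stabilizer G a) = p := by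
    have h4 : (MulAction.stabilizer G a ⊓ MulAction.stabilizer G b).subgroupOf (MulAction.stabilizer G a) =
        MulAction.stabilizer (MulAction.stabilizer G a) b := by
      ext x
      constructor
      · intro h
        exact h.2
      · intro h
        exact ⟨x.2, h⟩
    rw [Subgroup.relIndex, h4, MulAction.index_stabilizer]
    have h5 : MulAction.orbit (MulAction.stabilizer G a) b = {x : Ω | x ≠ a} := by
      ext x
      constructor
      · rintro ⟨g, rfl⟩
        intro h
        have h6 : (g : G) • a = a := g.2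
        exact hab (MulAction.injective (g : G) ((h.trans h6.symm).symm))
      · intro hx
        obtain ⟨g, hg1, hg2⟩ := hZ.two hab (Ne.symm hx)
        exact ⟨⟨g, hg1⟩, hg2⟩
    rw [h5]
    have h6 : ({x : Ω | x ≠ a} : Set Ω).ncard = p := by
      have h7 : ({x : Ω | x ≠ a} : Set Ω) = {a}ᶜ := rfl
      rw [h7, Set.ncard_compl, Set.ncard_singleton, Nat.card_eq_fintype_card, hΩ]
      rfl
    exact h6
  rw [h3] at h2
  rw [mul_comm] at h2
  exact Nat.eq_of_mul_eq_mul_left hp.pos h2

end Cfsg.Agent.H9.PrimeAdd
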