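import Mathlib
import Cfsg.Agent.H9_PrimeAdd

/-!
# Transitive groups of degree `p + 1` and order `(p+1)pd`, `d < p`: the affine case
-/

set_option autoImplicit false

open scoped Pointwise

namespace Cfsg.Agent.H9.PrimeAdd

open Cfsg Cfsg.Agent.H9.ZassA Cfsg.Agent.H9.ZassC Cfsg.Agent.H9.ZassI

theorem card_eq_fixed_pow' {F : Type*} [Field F] [Fintype F] (H : Subgroup (RingAut F)) :
    Fintype.card F = (Nat.card {x : F // ∀ B ∈ H, B x = x}) ^ (Nat.card H) := by
  classical
  haveI : Finite (RingAut F) := Finite.of_injective (fun f : RingAut F => (f : F → F)) DFunLike.coe_injective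
  haveI : Fintype H := Fintype.ofFinite _
  have h1 := FixedPoints.finrank_eq_card H F
  have h2 : Nat.card F = Nat.card (FixedPoints.subfield H F) ^
      Module.finrank (FixedPoints.subfield H F) F := by
    exact Module.natCard_eq_pow_finrank
  rw [h1, ← Nat.card_eq_fintype_card (α := H)] at h2
  rw [← Nat.card_eq_fintype_card, h2]
  congr 1
  apply Nat.card_congr
  refine Equiv.subtypeEquivRight (fun x => ?_)
  constructor
  · intro h B hB
    exact h ⟨B, hB⟩
  · rintro h ⟨B, hB⟩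
    exact h B hB

variable {G Ω : Type*} [Group G] [MulAction G Ω]

theorem affine_case [FaithfulSMul G Ω] [Finite G] [Fintype Ω] [MulAction.IsPretransitive G Ω] {p d : ℕ} (hp : p.Prime)
    (hΩ : Fintype.card Ω = p + 1) (hG : Nat.card G = (p + 1) * p * d) (hd : d < p) (hp2 : p ≠ 2)
    {N : Subgroup G} (hNn : N.Normal) (hNt : MulAction.IsPretransitive N Ω) (hNf : ∀ a : Ω, MulAction.stabilizer N a = ⊥) :
    ∃ q : ℕ, q.Prime ∧ p + 1 = 2 ^ q ∧ (d = 1 ∨ d = q) ∧ ∃ e : Ω ≃ GaloisField 2 q, ∀ g : G,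
      ∃ a : (GaloisField 2 q)ˣ, ∃ b : GaloisField 2 q, ∃ φ : GaloisField 2 q ≃+* GaloisField 2 q,
        ∀ x : Ω, e (g • x) = (a : GaloisField 2 q) * φ (e x) + b := by
  classical
  have hZG := zg hp hΩ hG hd
  have hp1 := hp.one_lt
  obtain ⟨a, w, haw⟩ := Fintype.exists_pair_of_one_lt_card (α := Ω) (by omega)
  obtain ⟨K, hK, hKc⟩ := exists_ker hp hΩ hG hd a
  have hfree : ∀ n ∈ N, ∀ x : Ω, n • x = x → n = 1 := by
    intro n hn x hx
    have h1 : (⟨n, hn⟩ : N) ∈ MulAction.stabilizer N x := hx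
    rw [hNf, Subgroup.mem_bot] at h1
    exact congrArg Subtype.val h1
  have htrans : ∀ x y : Ω, ∃ n ∈ N, n • x = y := by
    intro x y
    obtain ⟨n, hn⟩ := MulAction.exists_smul_eq N x y
    exact ⟨n, n.2, hn⟩
  have hNc : Nat.card N = p + 1 := by
    rw [← hΩ, ← Nat.card_eq_fintype_card]
    apply Nat.card_congr
    refine Equiv.ofBijective (fun n : N => (n : G) • a) ⟨?_, ?_⟩
    · intro m n hmn
      have h1 : (m : G) • a = (n : G) • a := hmn
      have h2 := hfree ((n : G)⁻¹ * m) (N.mul_mem (N.inv_mem n.2) m.2) a (by rw [mul_smul, inv_smul_eq_iff, h1])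
      exact Subtype.ext (inv_mul_eq_one.1 h2).symm
    · intro y
      obtain ⟨n, hn, hny⟩ := htrans a y
      exact ⟨⟨n, hn⟩, hny⟩
  have hBig : Big N K := by
    refine ⟨fun e _ k hk => hNn.conj_mem k hk e, ?_, by rw [hNc, hKc]; omega, by rw [hNc]; omega⟩
    intro e he n hn hen hn1
    apply hK.free e he (n • a) (fun h => hn1 (hfree n hn a h))
    have h1 : e * n = n * e := mul_inv_eq_iff_eq_mul.1 hen
    rw [← mul_smul, h1, mul_smul, hK.le e he]
  obtain ⟨r, f, hr, hNr, hNcomm, hNcard⟩ := hBig.elementary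
  have hr2 : r = 2 := by
    have h1 : 2 ∣ r ^ f := by
      rw [← hNcard, hNc]
      have := hp.odd_of_ne_two hp2
      exact this.add_one.two_dvd
    have h2 := Nat.prime_two.dvd_of_dvd_pow h1
    exact ((Nat.prime_dvd_prime_iff_eq Nat.prime_two hr).1 h2).symm
  subst hr2
  have hpf : p + 1 = 2 ^ f := by rw [← hNc, hNcard]
  have hpf' : p = 2 ^ f - 1 := by omega
  have hf1 : f ≠ 1 := by
    rintro rfl
    omega
  have hf : f.Prime := by
    rw [hpf'] at hp
    exact (Nat.prime_of_pow_sub_one_prime hf1 hp).2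
  have hKcyc : IsCyclic K := by
    haveI := Fact.mk hp
    exact isCyclic_of_prime_card hKc
  have hKcomm : ∀ k ∈ K, ∀ l ∈ K, k * l = l * k := by
    intro k hk l hl
    letI := hKcyc.commGroup
    exact congrArg Subtype.val (mul_comm (⟨k, hk⟩ : K) ⟨l, hl⟩)
  obtain ⟨F, hF, hFf, e, A, hcard, heo, hew, hA, hadd, hadd', hmul, hmul', hB⟩ := SemiAff.coords (G := G) (N := N) (K := K)
    (o := a) (w := w) ⟨hZG.faith, hNn, htrans, hfree, hNcomm, hK.le, hK.nrm, hK.reg, hKcomm⟩ haw.symm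
  have hFc : Fintype.card F = 2 ^ f := by
    rw [← Nat.card_eq_fintype_card, ← hcard, Nat.card_eq_fintype_card, hΩ, hpf]
  haveI : Fact (Nat.Prime 2) := ⟨Nat.prime_two⟩
  have hGF : Nat.card (GaloisField 2 f) = 2 ^ f := GaloisField.card 2 f hf.ne_zero
  haveI : Fintype (GaloisField 2 f) := Fintype.ofFinite _
  have r : F ≃+* GaloisField 2 f := FiniteField.ringEquivOfCardEq (by
    rw [hFc, ← hGF, Nat.card_eq_fintype_card])
  refine ⟨f, hf, hpf, ?_, e.trans r.toEquiv, ?_⟩
  · -- d ∣ f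
    let H : Subgroup (RingAut F) :=
      { carrier := {B | ∃ g : G, g • a = a ∧ g • w = w ∧ ∀ x, e (g • x) = B (e x)}
        mul_mem' := by
          rintro B B' ⟨g, h1, h2, h3⟩ ⟨g', h1', h2', h3'⟩
          refine ⟨g * g', by rw [mul_smul, h1', h1], by rw [mul_smul, h2', h2], fun x => ?_⟩
          rw [mul_smul, h3, h3']; rfl
        one_mem' := ⟨1, one_smul _ _, one_smul _ _, fun x => by rw [one_smul]; rfl⟩
        inv_mem' := by
          rintro B ⟨g, h1, h2, h3⟩
          refine ⟨g⁻¹, by rw [inv_smul_eq_iff, h1], by rw [inv_smul_eq_iff, h2], fun x => ?_⟩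
          have h4 := h3 (g⁻¹ • x)
          rw [smul_inv_smul] at h4
          rw [h4]
          exact (B.symm_apply_apply _).symm }
    have hHc : Nat.card H = d := by
      rw [← card_E hp hΩ hG haw hZG]
      symm
      apply Nat.card_congr
      have hex : ∀ g : ↥(MulAction.stabilizer G a ⊓ MulAction.stabilizer G w), ∃ B : RingAut F, ∀ x, e ((g : G) • x) = B (e x) := by
        intro g
        obtain ⟨B, hB'⟩ := hB g g.2.1 g.2.2
        exact ⟨B, fun x => by rw [hA g g.2.1, hB']⟩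
      choose B hB'' using hex
      refine Equiv.ofBijective (fun g => (⟨B g, g, g.2.1, g.2.2, hB'' g⟩ : H)) ⟨?_, ?_⟩
      · intro g g' hgg
        have h1 : B g = B g' := congrArg Subtype.val hgg
        apply Subtype.ext
        apply FaithfulSMul.eq_of_smul_eq_smul (α := Ω)
        intro x
        apply e.injective
        rw [hB'', hB'', h1]
      · rintro ⟨B', g, h1, h2, h3⟩
        refine ⟨⟨g, h1, h2⟩, ?_⟩
        apply Subtype.ext
        ext x
        have h4 := hB'' ⟨g, h1, h2⟩ (e.symm x)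
        have h5 := h3 (e.symm x)
        rw [Equiv.apply_symm_apply] at h4 h5
        exact h4.symm.trans h5
    have h1 := card_eq_fixed_pow' H
    rw [hHc, hFc] at h1
    obtain ⟨m, hm⟩ : ∃ m, m = Nat.card {x : F // ∀ B ∈ H, B x = x} := ⟨_, rfl⟩
    rw [← hm] at h1
    have hd0 : 0 < d := by
      rcases Nat.eq_zero_or_pos d with h | h
      · rw [h, mul_zero] at hG
        exact absurd hG Nat.card_pos.ne'
      · exact h
    have h2 : m ∣ 2 ^ f := by rw [h1]; exact dvd_pow_self m hd0.ne'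
    obtain ⟨j, hj, hj'⟩ := (Nat.dvd_prime_pow Nat.prime_two).1 h2
    rw [hj', ← pow_mul] at h1
    have h3 := Nat.pow_right_injective (le_refl 2) h1
    have h3' : f = j * d := h3
    have h4 : d ∣ f := ⟨j, by rw [h3', mul_comm]⟩
    exact (Nat.dvd_prime hf).1 h4
  · intro g
    obtain ⟨n, hn, hna⟩ := htrans a (g • a)
    have h1 : (n⁻¹ * g) • a = a := by rw [mul_smul, inv_smul_eq_iff, hna]
    have h2 : (n⁻¹ * g) • w ≠ a := by
      intro h
      exact haw.symm (MulAction.injective (n⁻¹ * g) (h.trans h1.symm))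
    obtain ⟨k, hk, hkw⟩ := hK.reg w _ haw.symm h2
    have h3 : (k⁻¹ * (n⁻¹ * g)) • a = a := by rw [mul_smul, h1, inv_smul_eq_iff, hK.le k hk]
    have h4 : (k⁻¹ * (n⁻¹ * g)) • w = w := by rw [mul_smul, inv_smul_eq_iff, hkw]
    obtain ⟨B, hB'⟩ := hB _ h3 h4
    obtain ⟨u, hu⟩ := hmul k hk
    obtain ⟨c, hc⟩ := hadd' n hn
    refine ⟨Units.map (r : F →* GaloisField 2 f) u, r c, (r.symm.trans B).trans r, fun x => ?_⟩
    have h5 : g = n * (k * (k⁻¹ * (n⁻¹ * g))) := by group
    change r (e (g • x)) = r u * r (B (r.symm (r (e x)))) + r c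
    rw [RingEquiv.symm_apply_apply, ← map_mul, ← map_add]
    congr 1
    rw [h5, mul_smul, hc, mul_smul, hA k (hK.le k hk), hu, hA _ h3, hB']

end Cfsg.Agent.H9.PrimeAdd
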