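import Mathlib
import Cfsg.Agent.H9_PrimeAdd2
import Cfsg.Agent.H9_FieldCongr
import Cfsg.Agent.H9_Feit

/-!
# Transitive groups of degree `p + 1` and order `(p+1)pd`, `d < p`
-/

set_option autoImplicit false

open scoped Pointwise

namespace Cfsg.Agent.H9.PrimeAdd

open Cfsg Cfsg.Agent.H9.ZassA Cfsg.Agent.H9.ZassC Cfsg.Agent.H9.ZassI

variable {G Ω : Type*} [Group G] [MulAction G Ω]

/-- regular normal subgroup of a sharply 2-transitive group -/
theorem exists_regular [FaithfulSMul G Ω] [Finite G] [Fintype Ω] (hZ : ZG G Ω) {a b : Ω} (hab : a ≠ b)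
    (hcard : 3 ≤ Fintype.card Ω)
    (hd : Nat.card ↥(MulAction.stabilizer G a ⊓ MulAction.stabilizer G b) = 1) :
    ∃ N : Subgroup G, N.Normal ∧ MulAction.IsPretransitive N Ω ∧ ∀ x : Ω, MulAction.stabilizer N x = ⊥ := by
  classical
  have hfree : ∀ {x y : Ω}, x ≠ y → ∀ g : G, g • x = x → g • y = y → g = 1 := by
    intro x y hxy g h1 h2
    have h3 := ZassW.card_conj hZ hab hxy
    rw [hd] at h3
    have h4 : (MulAction.stabilizer G x ⊓ MulAction.stabilizer G y : Subgroup G) = ⊥ := Subgroup.card_eq_one.1 h3.symm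
    have h5 : g ∈ (MulAction.stabilizer G x ⊓ MulAction.stabilizer G y : Subgroup G) := ⟨h1, h2⟩
    rwa [h4, Subgroup.mem_bot] at h5
  have hpre : MulAction.IsPretransitive G Ω := by
    constructor
    intro x y
    by_cases hxy : x = y
    · exact ⟨1, by rw [one_smul, hxy]⟩
    · obtain ⟨g, hg, -⟩ := hZ.two hxy (Ne.symm hxy)
      exact ⟨g, hg⟩
  obtain ⟨c, hc⟩ : ∃ c : Ω, c ∉ ({a, b} : Finset Ω) := by
    by_contra hcon
    push Not at hcon
    have h1 : Fintype.card Ω ≤ ({a, b} : Finset Ω).card := by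
      rw [← Finset.card_univ]
      exact Finset.card_le_card (fun c _ => hcon c)
    have h2 := Finset.card_le_two (a := a) (b := b)
    omega
  rw [Finset.mem_insert, Finset.mem_singleton, not_or] at hc
  have hF : IsFrobeniusComplement (MulAction.stabilizer G a) := by
    refine ⟨?_, ?_, ?_⟩
    · intro h
      obtain ⟨g, h1, h2⟩ := hZ.two hab (Ne.symm hc.1)
      have h3 : g ∈ MulAction.stabilizer G a := h1
      rw [h, Subgroup.mem_bot] at h3
      rw [h3, one_smul] at h2
      exact hc.2 h2.symm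
    · intro h
      obtain ⟨g, h1, h2⟩ := hZ.two hab hab.symm
      have h3 : g ∈ MulAction.stabilizer G a := by rw [h]; trivial
      have h4 : g • a = a := h3
      exact hab (h4.symm.trans h1)
    · intro g hg
      rw [Subgroup.eq_bot_iff_forall]
      rintro x ⟨hx1, hx2⟩
      have hx2 : x ∈ MulAut.conj g • MulAction.stabilizer G a := hx2
      rw [Cfsg.Agent.H1.Basic.mem_conj] at hx2
      have h1 : x • g • a = g • a := by
        have h2 : (g⁻¹ * x * g) • a = a := hx2
        rwa [mul_smul, mul_smul, inv_smul_eq_iff] at h2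
      have h2 : x • a = a := hx1
      exact hfree (fun h => hg h.symm) x h2 h1
  obtain ⟨N, -, hNn, hNH⟩ := H9.FrobKer.frobenius _ hF
  have hNS : ∀ x : Ω, ∀ n ∈ N, n • x = x → n = 1 := by
    intro x n hn hnx
    obtain ⟨g, rfl⟩ := MulAction.exists_smul_eq G a x
    have h1 : g⁻¹ * n * g ∈ MulAction.stabilizer G a := by
      change (g⁻¹ * n * g) • a = a
      rw [mul_smul, mul_smul, inv_smul_eq_iff, hnx]
    have h2 : g⁻¹ * n * g ∈ N := by
      have := hNn.conj_mem n hn g⁻¹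
      rwa [inv_inv] at this
    have h3 : g⁻¹ * n * g ∈ N ⊓ MulAction.stabilizer G a := ⟨h2, h1⟩
    rw [hNH.disjoint.eq_bot, Subgroup.mem_bot] at h3
    calc n = g * (g⁻¹ * n * g) * g⁻¹ := by group
      _ = 1 := by rw [h3]; group
  refine ⟨N, hNn, ?_, ?_⟩
  · have key : ∀ y : Ω, ∃ n ∈ N, n • a = y := by
      intro y
      obtain ⟨g, rfl⟩ := MulAction.exists_smul_eq G a y
      obtain ⟨⟨n, h⟩, hnh⟩ := hNH.2 g
      refine ⟨n, n.2, ?_⟩
      have h1 : (h : G) • a = a := h.2
      have h2 : g = (n : G) * h := hnh.symm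
      rw [h2, mul_smul, h1]
    constructor
    intro x y
    obtain ⟨n, hn, rfl⟩ := key x
    obtain ⟨m, hm, rfl⟩ := key y
    exact ⟨⟨m, hm⟩ * ⟨n, hn⟩⁻¹, by
      change (m * n⁻¹) • n • a = m • a
      rw [mul_smul, inv_smul_smul]⟩
  · intro x
    rw [Subgroup.eq_bot_iff_forall]
    intro n hn
    exact Subtype.ext (hNS x n n.2 hn)

theorem main [FaithfulSMul G Ω] [Finite G] [Fintype Ω] [MulAction.IsPretransitive G Ω] {p d : ℕ} (hp : p.Prime)
    (hΩ : Fintype.card Ω = p + 1) (hG : Nat.card G = (p + 1) * p * d) (hd : d < p) :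
    (d = p - 1 ∧ ∃ (F : Type) (_ : Field F) (_ : Fintype F), Fintype.card F = p ∧
      Nonempty (G ≃* Matrix.ProjGenLinGroup (Fin 2) F)) ∨
    (2 * d = p - 1 ∧ ∃ (F : Type) (_ : Field F) (_ : Fintype F), Fintype.card F = p ∧
      Nonempty (G ≃* Matrix.ProjectiveSpecialLinearGroup (Fin 2) F)) ∨
    ((∃ N : Subgroup G, N.Normal ∧ Nat.card N = p + 1) ∧
      ∃ q : ℕ, q.Prime ∧ p + 1 = 2 ^ q ∧ (d = 1 ∨ d = q) ∧ ∃ e : Ω ≃ GaloisField 2 q, ∀ g : G,
      ∃ a : (GaloisField 2 q)ˣ, ∃ b : GaloisField 2 q, ∃ φ : GaloisField 2 q ≃+* GaloisField 2 q,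
        ∀ x : Ω, e (g • x) = (a : GaloisField 2 q) * φ (e x) + b) := by
  classical
  have hZG := zg hp hΩ hG hd
  have hp1 := hp.one_lt
  have hd0 : 0 < d := by
    rcases Nat.eq_zero_or_pos d with h | h
    · rw [h, mul_zero] at hG
      exact absurd hG Nat.card_pos.ne'
    · exact h
  obtain ⟨a, b, hab⟩ := Fintype.exists_pair_of_one_lt_card (α := Ω) (by omega)
  have hE := card_E hp hΩ hG hab hZG
  have hS3 : S3 G Ω → (d = p - 1 ∧ ∃ (F : Type) (_ : Field F) (_ : Fintype F), Fintype.card F = p ∧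
      Nonempty (G ≃* Matrix.ProjGenLinGroup (Fin 2) F)) := by
    intro h
    have h1 := h.card_E (by omega) hab
    refine ⟨by omega, ?_⟩
    by_cases hp2 : p = 2
    · subst hp2
      obtain ⟨F, hF, hFf, hFc, hiso⟩ := pgl_two h (by omega) (by rw [hΩ]; decide)
      exact ⟨F, hF, hFf, by omega, hiso⟩
    · obtain ⟨F, hF, hFf, hFc, hiso⟩ := ZassV.pgl_odd h hp hp2 (f := 1) (by decide) (by rw [hΩ, pow_one])
      exact ⟨F, hF, hFf, by rw [hFc, pow_one], hiso⟩
  by_cases hp2 : p = 2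
  · left
    apply hS3
    apply ZassW.s3_of_card hZG hab
    omega
  by_cases hreg : ∃ N : Subgroup G, N.Normal ∧ MulAction.IsPretransitive N Ω ∧ ∀ x : Ω, MulAction.stabilizer N x = ⊥
  · right; right
    obtain ⟨N, hNn, hNt, hNf⟩ := hreg
    refine ⟨⟨N, hNn, ?_⟩, affine_case hp hΩ hG hd hp2 hNn hNt hNf⟩
    have h1 := (MulAction.stabilizer N a).card_mul_index
    rw [MulAction.index_stabilizer_of_transitive, Nat.card_eq_fintype_card (α := Ω), hΩ, hNf, Subgroup.card_bot, one_mul] at h1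
    exact h1.symm
  · have hd1 : d ≠ 1 := by
      rintro rfl
      exact hreg (exists_regular hZG hab (by omega) hE)
    have hZ : IsZassenhausGroup G Ω := by
      refine ⟨inferInstance, ?_, hZG.three, ?_, ?_⟩
      · rw [MulAction.is_two_pretransitive_iff]
        intro a b c d hab hcd
        exact hZG.two hab hcd
      · have h1 : 1 < Nat.card ↥(MulAction.stabilizer G a ⊓ MulAction.stabilizer G b) := by omega
        haveI := (Finite.one_lt_card_iff_nontrivial).1 h1
        obtain ⟨g, hg⟩ := exists_ne (1 : ↥(MulAction.stabilizer G a ⊓ MulAction.stabilizer G b))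
        exact ⟨g, fun h => hg (Subtype.ext h), a, b, hab, g.2.1, g.2.2⟩
      · intro N hN hNt
        by_contra hcon
        push Not at hcon
        exact hreg ⟨N, hN, hNt, hcon⟩
    obtain ⟨K, hK, hKc⟩ := exists_ker hp hΩ hG hd a
    haveI := Fact.mk hp
    haveI hKcyc : IsCyclic K := isCyclic_of_prime_card hKc
    have hKcomm : ∀ k ∈ K, ∀ l ∈ K, k * l = l * k := by
      intro k hk l hl
      letI := hKcyc.commGroup
      exact congrArg Subtype.val (mul_comm (⟨k, hk⟩ : K) ⟨l, hl⟩)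
    rcases Feit.main hZ hab hK hKcomm with h | ⟨h1, F, hF, hFf, -, hFc, hiso⟩
    · exact Or.inl (hS3 h)
    · right; left
      exact ⟨by omega, F, hF, hFf, by omega, hiso⟩

end Cfsg.Agent.H9.PrimeAdd
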