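import Mathlib
import Cfsg.Agent.H4_BRlast
import Cfsg.Agent.H9_PrimeAdd3
import Cfsg.Agent.H21_SL2e
import Cfsg.Agent.H4_Elab4

/-! Identification. -/

set_option autoImplicit false

namespace Cfsg.Agent.H4.BRid

open Cfsg Cfsg.Agent.H4.BRgr Cfsg.Agent.H4.BRar
  Cfsg.Agent.H4.BRdata Cfsg.Agent.H4.BRdeg Cfsg.Agent.H4.BRv Cfsg.Agent.H4.BRcase Cfsg.Agent.H4.BRind
  Cfsg.Agent.H4.BRfr Cfsg.Agent.H4.BRgeo Cfsg.Agent.H4.BRavg Cfsg.Agent.H4.BRcnt Cfsg.Agent.H4.BRlast

universe u

variable {G : Type u} [Group G] [Fintype G] {p : ℕ} [hp : Fact p.Prime] {P : Sylow p G} {e t n a c : ℕ}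
  {X Y S : Finset (IrrCharacter G)} {δ : IrrCharacter G → ℤ} {ε : ℤ}

/-- The case of `PSL(2,p)`. -/
theorem ident_psl (hP : Nat.card P = p)
    (hcore : ∀ K : Subgroup G, K.Normal → ¬ p ∣ Nat.card K → K = ⊥)
    (hn : Nat.card (Sylow p G) = 1 + 1 * p) (hN : Nat.card (NN P) = p * e) (he2 : 2 ≤ e)
    (hpt : p = 2 * e + 1) :
    ∃ (F : Type) (_ : Field F) (_ : Fintype F), Fintype.card F = p ∧ 3 < p ∧
      Nonempty (G ≃* Matrix.ProjectiveSpecialLinearGroup (Fin 2) F) := by
  classical
  haveI : Fintype (Sylow p G) := Fintype.ofFinite _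
  have hp1 := hp.out.one_lt
  have hfaith : FaithfulSMul G (Sylow p G) := by
    let K : Subgroup G := (MulAction.toPermHom G (Sylow p G)).ker
    have hK : K = ⊥ := by
      apply hcore K inferInstance
      intro hd
      obtain ⟨k, hk⟩ := exists_prime_orderOf_dvd_card' p hd
      have hko : orderOf (k : G) = p := by rw [Subgroup.orderOf_coe]; exact hk
      have hkf : ∀ Q : Sylow p G, (k : G) • Q = Q := by
        intro Q
        have h1 : MulAction.toPermHom G (Sylow p G) (k : G) = 1 := k.2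
        have h2 := congrArg (fun f : Equiv.Perm (Sylow p G) => f Q) h1
        exact h2
      have hall : ∀ Q : Sylow p G, (Q : Subgroup G) = Subgroup.zpowers (k : G) := by
        intro Q
        have h1 : (k : G) ∈ NN Q := smul_eq_iff.mp (hkf Q)
        have h2 := mem_of_normalizer h1 hko
        have hcQ : Nat.card (Q : Subgroup G) = p :=
          (Nat.card_congr (Sylow.equiv Q P).toEquiv).trans hP
        symm
        apply Subgroup.eq_of_le_of_card_ge
        · rw [Subgroup.zpowers_le]; exact h2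
        · rw [Nat.card_zpowers, hko, hcQ]
      have h3 : Nat.card (Sylow p G) ≤ 1 := by
        haveI : Subsingleton (Sylow p G) := ⟨fun Q R => Sylow.ext ((hall Q).trans (hall R).symm)⟩
        exact Finite.card_le_one_iff_subsingleton.mpr inferInstance
      omega
    refine ⟨fun {g h} hgh => ?_⟩
    have h1 : g * h⁻¹ ∈ K := by
      show MulAction.toPermHom G (Sylow p G) (g * h⁻¹) = 1
      ext1 Q
      show (g * h⁻¹) • Q = Q
      rw [mul_smul]
      have := hgh (h⁻¹ • Q)
      rw [this, smul_inv_smul]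
    rw [hK, Subgroup.mem_bot] at h1
    exact mul_inv_eq_one.mp h1
  have hG : Nat.card G = (p + 1) * p * e := by
    have h3 : Nat.card G = Nat.card (Sylow p G) * Nat.card (NN P) := by
      rw [P.card_eq_index_normalizer, mul_comm]
      exact (Subgroup.card_mul_index (NN P)).symm
    rw [h3, hn, hN]; ring
  have hcard : Fintype.card (Sylow p G) = p + 1 := by
    rw [← Nat.card_eq_fintype_card, hn]; ring
  rcases Cfsg.Agent.H9.PrimeAdd.main (Ω := Sylow p G) hp.out hcard hG (by omega) with h | h | h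
  · exfalso; omega
  · obtain ⟨-, F, h1, h2, h3, h4⟩ := h
    exact ⟨F, h1, h2, h3, by omega, h4⟩
  · exfalso
    obtain ⟨⟨N, hNn, hNc⟩, -⟩ := h
    have h1 : ¬ p ∣ Nat.card N := by
      rw [hNc]; intro h
      have : p ∣ 1 := (Nat.dvd_add_right (dvd_refl p)).mp h
      exact hp1.ne' (Nat.dvd_one.mp this)
    have h2 := hcore N hNn h1
    rw [h2, Subgroup.card_bot] at hNc
    omega

/-- The case of `SL(2, 2^m)`. -/
theorem ident_sl (M : Min P 2 t n 0 c X Y δ) (hodd : p ≠ 2)
    (hcore : ∀ K : Subgroup G, K.Normal → ¬ p ∣ Nat.card K → K = ⊥) :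
    ∃ (m : ℕ) (F : Type) (_ : Field F) (_ : Fintype F), Fintype.card F = 2 ^ m ∧ p = 2 ^ m + 1 ∧
      3 < p ∧ Nonempty (G ≃* Matrix.SpecialLinearGroup (Fin 2) F) := by
  classical
  haveI : Fact (Nat.Prime 2) := ⟨Nat.prime_two⟩
  obtain ⟨k, hk, ht⟩ := t_pow M
  have hc2 : ¬ 2 ∣ c := fun h => M.N.not_dvd_e Nat.prime_two h (dvd_refl 2)
  have hp2 : ¬ 2 ∣ p := fun h => hodd ((Nat.prime_dvd_prime_iff_eq Nat.prime_two hp.out).mp h).symm
  have hte2 : 2 ∣ t * 2 := Dvd.intro_left _ rfl
  have hGc : Nat.card G = 2 ^ (k + 1) * (c * p) := by rw [M.card_G, ht]; ring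
  obtain ⟨T⟩ : Nonempty (Sylow 2 G) := inferInstance
  have hTc : Nat.card (T : Subgroup G) = 2 ^ (k + 1) := by
    apply Nat.dvd_antisymm
    · have h1 : Nat.card (T : Subgroup G) ∣ 2 ^ (k + 1) * (c * p) := by
        rw [← hGc]; exact Subgroup.card_subgroup_dvd_card _
      obtain ⟨j, hj⟩ := (IsPGroup.iff_card).mp T.2
      have hcop : (Nat.card (T : Subgroup G)).Coprime (c * p) := by
        rw [hj]
        apply Nat.Coprime.pow_left
        rw [Nat.Prime.coprime_iff_not_dvd Nat.prime_two]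
        intro h
        rcases (Nat.Prime.dvd_mul Nat.prime_two).mp h with h | h
        · exact hc2 h
        · exact hp2 h
      exact hcop.dvd_of_dvd_mul_right h1
    · apply T.pow_dvd_card_of_pow_dvd_card
      rw [hGc]; exact Dvd.intro _ rfl
  have hTsq : ∀ s ∈ (T : Subgroup G), s * s = 1 := by
    intro s hs
    by_cases hs1 : s = 1
    · rw [hs1, one_mul]
    have h1 : ∃ k : ℕ, orderOf s = 2 ^ k := by
      obtain ⟨k, hk⟩ := (IsPGroup.iff_orderOf.mp T.2) ⟨s, hs⟩
      exact ⟨k, by rw [← hk, Subgroup.orderOf_mk]⟩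
    have h2 := (two_order M hs1 h1 hodd).2.2
    rw [← sq]; exact orderOf_dvd_iff_pow_eq_one.mp h2
  have h4 : 4 ≤ Nat.card (T : Subgroup G) := by
    rw [hTc]
    calc 4 = 2 ^ 2 := by norm_num
      _ ≤ 2 ^ (k + 1) := Nat.pow_le_pow_right (by norm_num) (by omega)
  have hnc : ¬ IsCyclic (T : Subgroup G) := by
    intro hcyc
    obtain ⟨g, hg⟩ := IsCyclic.exists_generator (α := (T : Subgroup G))
    have h1 : orderOf g = Nat.card (T : Subgroup G) := orderOf_eq_card_of_forall_mem_zpowers hg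
    have h2 : g ^ 2 = 1 := Subtype.ext (by rw [Subgroup.coe_pow, sq]; exact hTsq g g.2)
    have h3 := Nat.le_of_dvd (by norm_num) (orderOf_dvd_of_pow_eq_one h2)
    omega
  have hnn : ¬ (T : Subgroup G).Normal := by
    intro hn
    have h1 : ¬ p ∣ Nat.card (T : Subgroup G) := by
      rw [hTc]; intro h
      exact hodd ((Nat.prime_dvd_prime_iff_eq hp.out Nat.prime_two).mp (hp.out.dvd_of_dvd_pow h))
    have h2 := hcore _ hn h1
    rw [h2, Subgroup.card_bot] at h4
    omega
  have hcent : ∀ i : G, orderOf i = 2 → ∀ y ∈ Subgroup.centralizer ({i} : Set G), y ^ 2 = 1 := by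
    intro i hi y hy
    rw [Subgroup.mem_centralizer_singleton_iff] at hy
    by_cases hy1 : y = 1
    · rw [hy1, one_pow]
    have hyp : ¬ p ∣ orderOf y := by
      intro hd
      obtain ⟨h, h1, h2⟩ := exists_conj_mem M.hP M.hC hd
      have h3 : h * i * h⁻¹ ∈ (P : Subgroup G) := by
        rw [← M.hC, ← centralizer_eq M.hP h1 h2, Subgroup.mem_centralizer_singleton_iff]
        calc h * i * h⁻¹ * (h * y * h⁻¹) = h * (i * y) * h⁻¹ := by group
          _ = h * (y * i) * h⁻¹ := by rw [hy]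
          _ = _ := by group
      have h4 : orderOf (h * i * h⁻¹) = 2 := by
        rw [← hi]
        have := orderOf_injective (MulAut.conj h).toMonoidHom (MulAut.conj h).injective i
        simpa using this
      have h5 : h * i * h⁻¹ ≠ 1 := by
        intro h6; rw [h6, orderOf_one] at h4; norm_num at h4
      rw [orderOf_eq M.hP h3 h5] at h4
      exact hodd h4
    obtain ⟨r, hr, hrg⟩ := Nat.exists_prime_and_dvd (n := orderOf y) (by
      rwa [Ne, orderOf_eq_one_iff])
    have h3 : r ∣ t * c * (p * 2) := by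
      rw [← M.card_G]; exact hrg.trans (orderOf_dvd_natCard y)
    have hrp : r ≠ p := by rintro rfl; exact hyp hrg
    have h4 : r ∣ t * 2 ∨ r ∣ c := by
      rcases (Nat.Prime.dvd_mul hr).mp h3 with h | h
      · rcases (Nat.Prime.dvd_mul hr).mp h with h | h
        · left; exact Dvd.dvd.mul_right h 2
        · right; exact h
      · rcases (Nat.Prime.dvd_mul hr).mp h with h | h
        · exact absurd ((Nat.prime_dvd_prime_iff_eq hr hp.out).mp h) hrp
        · left; exact Dvd.dvd.mul_left h t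
    rcases h4 with h4 | h4
    · have h5 := order_dvd M hy1 hyp hr h4 hrg
      exact orderOf_dvd_iff_pow_eq_one.mp h5
    · exfalso
      have hr2 : r ≠ 2 := by rintro rfl; exact hc2 h4
      obtain ⟨z, hz⟩ : ∃ z, z = y ^ (orderOf y / r) := ⟨_, rfl⟩
      have hzo : orderOf z = r := by
        rw [hz]; exact orderOf_pow_orderOf_div (orderOf_pos y).ne' hrg
      have hcom : Commute i z := by
        rw [hz]; exact (show Commute i y from hy.symm).pow_right _
      have hcop : (orderOf i).Coprime (orderOf z) := by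
        rw [hi, hzo]; exact (Nat.coprime_primes Nat.prime_two hr).mpr hr2.symm
      have hgo : orderOf (i * z) = 2 * r := by
        rw [hcom.orderOf_mul_eq_mul_orderOf_of_coprime hcop, hi, hzo]
      have hgp : ¬ p ∣ orderOf (i * z) := by
        rw [hgo]; intro h
        rcases (Nat.Prime.dvd_mul hp.out).mp h with h | h
        · exact hodd ((Nat.prime_dvd_prime_iff_eq hp.out Nat.prime_two).mp h)
        · exact hrp ((Nat.prime_dvd_prime_iff_eq hp.out hr).mp h).symm
      have e1 := M.Th_c hgp hr h4 (by rw [hgo]; exact Dvd.intro_left _ rfl)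
      have e2 := M.Th_t (g := i * z) Nat.prime_two hte2 (by rw [hgo]; exact Dvd.intro _ rfl)
      rw [e1] at e2
      norm_num at e2
  obtain ⟨F, hF1, hF2, hF3, ⟨φ⟩⟩ := Cfsg.Agent.H4.Elab4.main T (fun i hi => ⟨⟨⟨by
    intro x y
    have hx := hcent i hi x x.2
    have hy := hcent i hi y y.2
    have hxy := hcent i hi (x * y) (mul_mem x.2 y.2)
    rw [sq] at hx hy hxy
    apply Subtype.ext
    show (x : G) * y = y * x
    calc (x : G) * y = x * (x * y * (x * y)) * y := by rw [hxy]; group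
      _ = (x * x) * (y * x) * (y * y) := by group
      _ = y * x := by rw [hx, hy]; group⟩⟩, hcent i hi⟩) hnn hnc
  have hF4 : Fintype.card F = 2 ^ (k + 1) := by rw [hF3, hTc]
  haveI : CharP F 2 := charP_of_card_eq_prime_pow hF4
  have hpk : p = 2 ^ (k + 1) + 1 := by rw [M.N.pt, ht]; ring
  refine ⟨k + 1, F, hF1, hF2, hF4, hpk, ?_, ⟨φ.trans (Cfsg.Agent.H21.SL2e.equivPSL (F := F)).symm⟩⟩
  rw [hTc] at h4
  omega

end Cfsg.Agent.H4.BRid
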