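import Mathlib

/-!
H9_BrComb: the combinatorial lemma on integer vectors with Gram matrix e J + I.
-/

set_option autoImplicit false
set_option linter.unusedSectionVars false

namespace Cfsg.Agent.H9.BrComb

theorem nonconst_ge {J : Type*} [Fintype J] [DecidableEq J] (v : J → ℤ) (h : ∃ i j, v i ≠ v j) :
    2 * ((Fintype.card J : ℤ) - 1) ≤ ∑ i, ∑ j, (v i - v j) ^ 2 := by
  obtain ⟨a, b, hab⟩ := h
  set K := Finset.univ.filter (fun i => v i = v a) with hK
  have hKa : a ∈ K := by rw [hK, Finset.mem_filter]; exact ⟨Finset.mem_univ _, rfl⟩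
  have hKb : b ∉ K := by
    rw [hK, Finset.mem_filter]; rintro ⟨-, h⟩; exact hab h.symm
  have h1 : ∀ i j, (if (i ∈ K ∧ j ∉ K) then (1:ℤ) else 0) + (if (i ∉ K ∧ j ∈ K) then 1 else 0) ≤ (v i - v j) ^ 2 := by
    intro i j
    by_cases hi : i ∈ K
    · by_cases hj : j ∈ K
      · simp [hi, hj]; positivity
      · have hi' := (Finset.mem_filter.1 hi).2
        have hj' : v j ≠ v a := fun h => hj (Finset.mem_filter.2 ⟨Finset.mem_univ _, h⟩)
        simp only [hi, hj, not_true_eq_false, not_false_eq_true, and_self, and_true, if_true, if_false, add_zero]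
        have : v i - v j ≠ 0 := by rw [hi']; exact sub_ne_zero.2 (Ne.symm hj')
        have := Int.one_le_abs this
        nlinarith [sq_abs (v i - v j), abs_nonneg (v i - v j)]
    · by_cases hj : j ∈ K
      · have hj' := (Finset.mem_filter.1 hj).2
        have hi' : v i ≠ v a := fun h => hi (Finset.mem_filter.2 ⟨Finset.mem_univ _, h⟩)
        simp only [hi, hj, not_true_eq_false, not_false_eq_true, and_self, and_true, if_true, if_false, zero_add]
        have : v i - v j ≠ 0 := by rw [hj']; exact sub_ne_zero.2 hi'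
        have := Int.one_le_abs this
        nlinarith [sq_abs (v i - v j), abs_nonneg (v i - v j)]
      · simp [hi, hj]; positivity
  have h2 : ∑ i, ∑ j, ((if (i ∈ K ∧ j ∉ K) then (1:ℤ) else 0) + (if (i ∉ K ∧ j ∈ K) then 1 else 0)) =
      2 * (K.card * ((Fintype.card J : ℤ) - K.card)) := by
    have e1 : ∀ i j, (if (i ∈ K ∧ j ∉ K) then (1:ℤ) else 0) = (if i ∈ K then 1 else 0) * (if j ∉ K then 1 else 0) := by
      intro i j
      by_cases hi : i ∈ K <;> by_cases hj : j ∈ K <;> simp [hi, hj]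
    have e2 : ∀ i j, (if (i ∉ K ∧ j ∈ K) then (1:ℤ) else 0) = (if i ∉ K then 1 else 0) * (if j ∈ K then 1 else 0) := by
      intro i j
      by_cases hi : i ∈ K <;> by_cases hj : j ∈ K <;> simp [hi, hj]
    have e3 : ∑ i : J, (if i ∈ K then (1:ℤ) else 0) = K.card := by simp
    have e4 : ∑ i : J, (if i ∉ K then (1:ℤ) else 0) = (Fintype.card J : ℤ) - K.card := by
      have : ∑ i : J, (if i ∉ K then (1:ℤ) else 0) = ∑ i : J, (1 - if i ∈ K then (1:ℤ) else 0) := by
        refine Finset.sum_congr rfl fun i _ => ?_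
        by_cases hi : i ∈ K <;> simp [hi]
      rw [this, Finset.sum_sub_distrib, e3]; simp
    simp only [e1, e2, Finset.sum_add_distrib]
    simp only [← Finset.mul_sum, ← Finset.sum_mul]
    rw [e3, e4]; ring
  have h3 : 2 * (K.card * ((Fintype.card J : ℤ) - K.card)) ≤ ∑ i, ∑ j, (v i - v j) ^ 2 := by
    rw [← h2]
    exact Finset.sum_le_sum fun i _ => Finset.sum_le_sum fun j _ => h1 i j
  have h4 : 1 ≤ (K.card : ℤ) := by
    have : 0 < K.card := Finset.card_pos.2 ⟨a, hKa⟩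
    omega
  have h5 : (K.card : ℤ) + 1 ≤ Fintype.card J := by
    have : K.card < Fintype.card J := by
      rw [← Finset.card_univ]
      exact Finset.card_lt_card ⟨Finset.subset_univ _, fun h => hKb (h (Finset.mem_univ b))⟩
    omega
  nlinarith

theorem main {α J : Type*} [Fintype J] [DecidableEq J] [DecidableEq α] [Nonempty J] (S : Finset α)
    (v : α → J → ℤ) (e : ℕ) (hgram : ∀ i j, ∑ χ ∈ S, v χ i * v χ j = e + if i = j then 1 else 0)
    (hne : ∀ χ ∈ S, ∃ j, v χ j ≠ 0) (hcard : e + Fintype.card J ≤ S.card) (x0 : α) (hx0 : x0 ∈ S)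
    (hx0c : ∀ i j, v x0 i = v x0 j) (he : 1 ≤ e) :
    ∃ X Y : Finset α, X ∪ Y = S ∧ Disjoint X Y ∧ x0 ∈ X ∧ X.card = e ∧ Y.card = Fintype.card J ∧
      (∃ δ : α → ℤ, ∀ χ ∈ X, (δ χ = 1 ∨ δ χ = -1) ∧ ∀ j, v χ j = δ χ) ∧
      ∃ (L : J → α) (s : J → ℤ), Function.Injective L ∧ (∀ y, y ∈ Y ↔ ∃ j, L j = y) ∧
        (∀ j, s j = 1 ∨ s j = -1) ∧ ∀ i j, v (L j) i = if i = j then s j else 0 := by
  classical
  set t := Fintype.card J with ht
  have ht1 : 1 ≤ t := Fintype.card_pos
  have hsq1 : ∀ x : ℤ, x ≠ 0 → 1 ≤ x ^ 2 := by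
    intro x hx
    have := Int.one_le_abs hx
    nlinarith [sq_abs x, abs_nonneg x]
  have hsqe : ∀ x : ℤ, x ^ 2 = 1 → x = 1 ∨ x = -1 := by
    intro x hx
    have : (x - 1) * (x + 1) = 0 := by ring_nf; omega
    rcases mul_eq_zero.1 this with h | h
    · left; omega
    · right; omega
  have hdiag : ∀ j, ∑ χ ∈ S, v χ j ^ 2 = e + 1 := by
    intro j
    have := hgram j j
    rw [if_pos rfl] at this
    rw [← this]
    exact Finset.sum_congr rfl fun χ _ => by ring
  have htot : ∑ χ ∈ S, ∑ j, v χ j ^ 2 = t * (e + 1) := by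
    rw [Finset.sum_comm, Finset.sum_congr rfl fun j _ => hdiag j, Finset.sum_const, Finset.card_univ,
      nsmul_eq_mul]
  rcases Nat.lt_or_ge 1 t with ht2 | ht2
  · -- the generic case
    set C0 := S.filter (fun χ => ∀ i j, v χ i = v χ j) with hC0
    set NC := S.filter (fun χ => ¬ ∀ i j, v χ i = v χ j) with hNC
    have hsplit : C0.card + NC.card = S.card := by
      rw [hC0, hNC]; exact Finset.card_filter_add_card_filter_not _
    have hsumsplit : ∀ f : α → ℤ, ∑ χ ∈ S, f χ = ∑ χ ∈ C0, f χ + ∑ χ ∈ NC, f χ := by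
      intro f
      rw [hC0, hNC, Finset.sum_filter_add_sum_filter_not]
    have hvar : ∑ χ ∈ S, ∑ i, ∑ j, (v χ i - v χ j) ^ 2 = 2 * t * (t - 1) := by
      have h1 : ∑ χ ∈ S, ∑ i, ∑ j, (v χ i - v χ j) ^ 2 =
          ∑ i, ∑ j, ((∑ χ ∈ S, v χ i * v χ i) + (∑ χ ∈ S, v χ j * v χ j) - 2 * ∑ χ ∈ S, v χ i * v χ j) := by
        rw [Finset.sum_comm]
        refine Finset.sum_congr rfl fun i _ => ?_
        rw [Finset.sum_comm]
        refine Finset.sum_congr rfl fun j _ => ?_
        rw [Finset.mul_sum, ← Finset.sum_add_distrib, ← Finset.sum_sub_distrib]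
        exact Finset.sum_congr rfl fun χ _ => by ring
      rw [h1]
      have h2 : ∀ i j : J, ((∑ χ ∈ S, v χ i * v χ i) + (∑ χ ∈ S, v χ j * v χ j) - 2 * ∑ χ ∈ S, v χ i * v χ j) =
          2 - 2 * (if i = j then 1 else 0) := by
        intro i j
        rw [hgram, hgram, hgram, if_pos rfl, if_pos rfl]; ring
      simp only [h2, Finset.sum_sub_distrib, ← Finset.mul_sum, Finset.sum_const, Finset.card_univ,
        Finset.sum_ite_eq, Finset.mem_univ, if_true, nsmul_eq_mul, ← ht]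
      ring
    have hNCle : NC.card ≤ t := by
      have h1 : ∑ χ ∈ NC, (2 * ((t : ℤ) - 1)) ≤ ∑ χ ∈ NC, ∑ i, ∑ j, (v χ i - v χ j) ^ 2 := by
        refine Finset.sum_le_sum fun χ hχ => nonconst_ge _ ?_
        have := (Finset.mem_filter.1 hχ).2
        push Not at this
        exact this
      have h2 : ∑ χ ∈ NC, ∑ i, ∑ j, (v χ i - v χ j) ^ 2 ≤ ∑ χ ∈ S, ∑ i, ∑ j, (v χ i - v χ j) ^ 2 :=
        Finset.sum_le_sum_of_subset_of_nonneg (Finset.filter_subset _ _)
          (fun χ _ _ => Finset.sum_nonneg fun i _ => Finset.sum_nonneg fun j _ => sq_nonneg _)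
      rw [hvar] at h2
      rw [Finset.sum_const, nsmul_eq_mul] at h1
      have h3 : (NC.card : ℤ) * (2 * (t - 1)) ≤ t * (2 * (t - 1)) := by linarith
      have h4 : (0:ℤ) < 2 * ((t:ℤ) - 1) := by
        have : (1:ℤ) < t := by exact_mod_cast ht2
        linarith
      have h5 := le_of_mul_le_mul_right h3 h4
      exact_mod_cast h5
    have hC0ge : ∀ χ ∈ C0, (t : ℤ) ≤ ∑ j, v χ j ^ 2 := by
      intro χ hχ
      obtain ⟨hS, hc⟩ := Finset.mem_filter.1 hχ
      obtain ⟨j0, hj0⟩ := hne χ hS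
      have h1 : ∀ j, v χ j = v χ j0 := fun j => hc j j0
      simp only [h1, Finset.sum_const, Finset.card_univ, nsmul_eq_mul, ← ht]
      have h2 := hsq1 _ hj0
      have h3 : (0:ℤ) ≤ t := Nat.cast_nonneg _
      nlinarith
    have hNCge : ∀ χ ∈ NC, (1 : ℤ) ≤ ∑ j, v χ j ^ 2 := by
      intro χ hχ
      obtain ⟨hS, -⟩ := Finset.mem_filter.1 hχ
      obtain ⟨j0, hj0⟩ := hne χ hS
      calc (1:ℤ) ≤ v χ j0 ^ 2 := hsq1 _ hj0
        _ ≤ ∑ j, v χ j ^ 2 := Finset.single_le_sum (f := fun j => v χ j ^ 2) (fun j _ => sq_nonneg _) (Finset.mem_univ j0)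
    have hineq : (C0.card : ℤ) * t + NC.card ≤ t * (e + 1) := by
      rw [← htot, hsumsplit]
      have h1 : (C0.card : ℤ) * t ≤ ∑ χ ∈ C0, ∑ j, v χ j ^ 2 := by
        have := Finset.sum_le_sum hC0ge
        rwa [Finset.sum_const, nsmul_eq_mul] at this
      have h2 : (NC.card : ℤ) ≤ ∑ χ ∈ NC, ∑ j, v χ j ^ 2 := by
        have := Finset.sum_le_sum hNCge
        rwa [Finset.sum_const, nsmul_eq_mul, mul_one] at this
      linarith
    have hcardZ : (e : ℤ) + t ≤ C0.card + NC.card := by exact_mod_cast (hsplit ▸ hcard)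
    have ht2Z : (1:ℤ) < t := by exact_mod_cast ht2
    have hNCeq : NC.card = t := by
      apply le_antisymm hNCle
      by_contra hlt
      push Not at hlt
      have hltZ : (NC.card : ℤ) < t := by exact_mod_cast hlt
      nlinarith
    have hC0eq : C0.card = e := by
      have h1 : (NC.card : ℤ) = t := by exact_mod_cast hNCeq
      rw [h1] at hineq hcardZ
      have h2 : (e : ℤ) ≤ C0.card := by linarith
      have h3 : (C0.card : ℤ) ≤ e := by
        by_contra h
        push Not at h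
        nlinarith
      have : (C0.card : ℤ) = e := le_antisymm h3 h2
      exact_mod_cast this
    have hexact : ∑ χ ∈ C0, ((∑ j, v χ j ^ 2) - t) + ∑ χ ∈ NC, ((∑ j, v χ j ^ 2) - 1) = 0 := by
      rw [Finset.sum_sub_distrib, Finset.sum_sub_distrib, Finset.sum_const, Finset.sum_const, hC0eq, hNCeq]
      have h1 := htot
      rw [hsumsplit] at h1
      simp only [nsmul_eq_mul, mul_one]
      linarith
    have hz1 : ∀ χ ∈ C0, 0 ≤ ((∑ j, v χ j ^ 2) - (t:ℤ)) := fun χ hχ => by linarith [hC0ge χ hχ]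
    have hz2 : ∀ χ ∈ NC, 0 ≤ ((∑ j, v χ j ^ 2) - (1:ℤ)) := fun χ hχ => by linarith [hNCge χ hχ]
    have hz3 := Finset.sum_nonneg hz1
    have hz4 := Finset.sum_nonneg hz2
    have hz5 : ∑ χ ∈ C0, ((∑ j, v χ j ^ 2) - (t:ℤ)) = 0 := by linarith
    have hz6 : ∑ χ ∈ NC, ((∑ j, v χ j ^ 2) - (1:ℤ)) = 0 := by linarith
    have hC0v : ∀ χ ∈ C0, ∑ j, v χ j ^ 2 = t := fun χ hχ => by
      have := (Finset.sum_eq_zero_iff_of_nonneg hz1).1 hz5 χ hχ
      linarith
    have hNCv : ∀ χ ∈ NC, ∑ j, v χ j ^ 2 = 1 := fun χ hχ => by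
      have := (Finset.sum_eq_zero_iff_of_nonneg hz2).1 hz6 χ hχ
      linarith
    have hC0one : ∀ χ ∈ C0, ∃ d : ℤ, (d = 1 ∨ d = -1) ∧ ∀ j, v χ j = d := by
      intro χ hχ
      obtain ⟨j0⟩ := ‹Nonempty J›
      have hc := (Finset.mem_filter.1 hχ).2
      have h1 : ∀ j, v χ j = v χ j0 := fun j => hc j j0
      refine ⟨v χ j0, hsqe _ ?_, h1⟩
      have h2 := hC0v χ hχ
      simp only [h1, Finset.sum_const, Finset.card_univ, nsmul_eq_mul, ← ht] at h2
      have h3 : (t:ℤ) * (v χ j0 ^ 2 - 1) = 0 := by rw [mul_sub, h2, mul_one, sub_self]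
      rcases mul_eq_zero.1 h3 with h | h
      · exfalso; omega
      · linarith
    -- unit vectors
    have hunit : ∀ χ ∈ NC, ∃ j, (v χ j = 1 ∨ v χ j = -1) ∧ ∀ i, i ≠ j → v χ i = 0 := by
      intro χ hχ
      obtain ⟨hS, -⟩ := Finset.mem_filter.1 hχ
      obtain ⟨j, hj⟩ := hne χ hS
      have h1 := hNCv χ hχ
      rw [← Finset.add_sum_erase _ _ (Finset.mem_univ j)] at h1
      have h2 := hsq1 _ hj
      have h3 : 0 ≤ ∑ i ∈ Finset.univ.erase j, v χ i ^ 2 := Finset.sum_nonneg fun i _ => sq_nonneg _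
      have h4 : v χ j ^ 2 = 1 := by linarith
      have h5 : ∑ i ∈ Finset.univ.erase j, v χ i ^ 2 = 0 := by linarith
      refine ⟨j, hsqe _ h4, fun i hi => ?_⟩
      have := (Finset.sum_eq_zero_iff_of_nonneg (fun i _ => sq_nonneg _)).1 h5 i
        (Finset.mem_erase.2 ⟨hi, Finset.mem_univ _⟩)
      exact pow_eq_zero_iff (two_ne_zero) |>.1 this
    have hNCcol : ∀ j, ∑ χ ∈ NC, v χ j ^ 2 = 1 := by
      intro j
      have h1 := hdiag j
      rw [hsumsplit] at h1
      have h2 : ∑ χ ∈ C0, v χ j ^ 2 = e := by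
        have : ∀ χ ∈ C0, v χ j ^ 2 = 1 := by
          intro χ hχ
          obtain ⟨d, hd, hv⟩ := hC0one χ hχ
          rw [hv j]; rcases hd with rfl | rfl <;> norm_num
        rw [Finset.sum_congr rfl this, Finset.sum_const, hC0eq]; simp
      linarith
    have hexL : ∀ j, ∃ χ ∈ NC, v χ j ≠ 0 := by
      intro j
      by_contra hcon
      push Not at hcon
      have := hNCcol j
      rw [Finset.sum_eq_zero fun χ hχ => by rw [hcon χ hχ]; norm_num] at this
      exact zero_ne_one this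
    choose L hL hLv using hexL
    have hLunit : ∀ j, (v (L j) j = 1 ∨ v (L j) j = -1) ∧ ∀ i, i ≠ j → v (L j) i = 0 := by
      intro j
      obtain ⟨j', h1, h2⟩ := hunit (L j) (hL j)
      have : j = j' := by
        by_contra h
        exact hLv j (h2 j h)
      subst this
      exact ⟨h1, h2⟩
    have hLinj : Function.Injective L := by
      intro i j hij
      by_contra h
      have := (hLunit j).2 i h
      rw [← hij] at this
      exact hLv i this
    have hLimg : Finset.univ.image L = NC := by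
      apply Finset.eq_of_subset_of_card_le
      · intro x hx
        obtain ⟨j, -, rfl⟩ := Finset.mem_image.1 hx
        exact hL j
      · rw [Finset.card_image_of_injective _ hLinj, Finset.card_univ, hNCeq]
    choose! δ hδ using hC0one
    refine ⟨C0, NC, Finset.filter_union_filter_not_eq _ _, Finset.disjoint_filter_filter_not _ _ _,
      Finset.mem_filter.2 ⟨hx0, hx0c⟩, hC0eq, hNCeq, ⟨δ, hδ⟩, L, fun j => v (L j) j, hLinj, ?_, fun j => (hLunit j).1, ?_⟩
    · intro y
      rw [← hLimg, Finset.mem_image]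
      simp
    · intro i j
      split_ifs with h
      · rw [h]
      · exact (hLunit j).2 i h
  · -- t = 1
    have ht1' : t = 1 := le_antisymm ht2 ht1
    have huniq : ∀ i j : J, i = j := by
      have := Fintype.card_le_one_iff.1 (by rw [← ht, ht1'])
      exact this
    obtain ⟨j0⟩ := ‹Nonempty J›
    have h1 := hdiag j0
    have h2 : ∀ χ ∈ S, v χ j0 ≠ 0 := by
      intro χ hχ
      obtain ⟨j, hj⟩ := hne χ hχ
      rwa [huniq j j0] at hj
    have h3 : ∀ χ ∈ S, 0 ≤ v χ j0 ^ 2 - 1 := fun χ hχ => by linarith [hsq1 _ (h2 χ hχ)]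
    have h4 : (S.card : ℤ) ≤ e + 1 := by
      have := Finset.sum_nonneg h3
      rw [Finset.sum_sub_distrib, h1, Finset.sum_const] at this
      simp at this
      linarith
    have h5 : S.card = e + 1 := by
      rw [ht1'] at hcard
      have : (S.card : ℤ) = e + 1 := le_antisymm h4 (by exact_mod_cast hcard)
      exact_mod_cast this
    have h6 : ∀ χ ∈ S, v χ j0 ^ 2 = 1 := by
      have h7 : ∑ χ ∈ S, (v χ j0 ^ 2 - 1) = 0 := by
        rw [Finset.sum_sub_distrib, h1, Finset.sum_const, h5]; simp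
      intro χ hχ
      have := (Finset.sum_eq_zero_iff_of_nonneg h3).1 h7 χ hχ
      linarith
    obtain ⟨Λ, hΛ'⟩ : (S.erase x0).Nonempty := by
      rw [← Finset.card_pos, Finset.card_erase_of_mem hx0, h5]; omega
    have hΛ : Λ ∈ S := Finset.mem_of_mem_erase hΛ'
    refine ⟨S.erase Λ, {Λ}, ?_, ?_, Finset.mem_erase.2 ⟨(Finset.ne_of_mem_erase hΛ').symm, hx0⟩, ?_, ?_, ⟨fun χ => v χ j0, ?_⟩, fun _ => Λ, fun _ => v Λ j0, ?_, ?_, ?_, ?_⟩
    · rw [Finset.union_comm, ← Finset.insert_eq, Finset.insert_erase hΛ]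
    · rw [Finset.disjoint_singleton_right]; exact Finset.notMem_erase _ _
    · rw [Finset.card_erase_of_mem hΛ, h5]; rfl
    · rw [Finset.card_singleton, ht1']
    · intro χ hχ
      refine ⟨hsqe _ (h6 χ (Finset.mem_of_mem_erase hχ)), fun j => by rw [huniq j j0]⟩
    · intro i j _; exact huniq i j
    · intro y
      rw [Finset.mem_singleton]
      exact ⟨fun h => ⟨j0, h.symm⟩, fun ⟨_, h⟩ => h.symm⟩
    · intro j; exact hsqe _ (h6 Λ hΛ)
    · intro i j
      rw [if_pos (huniq i j), huniq i j0]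

end Cfsg.Agent.H9.BrComb
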