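import Mathlib
-- import Cfsg.Agent.H10_RegPart

/-!
H9_BrMod: modular representations of a group with a subgroup of prime order: orbit sums,
weight vectors not in the trace image, independence of trace functions of simple modules.
-/

set_option autoImplicit false
set_option linter.unusedSectionVars false

namespace Cfsg.Agent.H9.BrMod

open Module

section orbit

variable {k V G : Type*} [Field k] [AddCommGroup V] [Module k V] [Group G]

/-- orbit sums: outside the fixed points the sum of an equivariant function is a trace -/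
theorem orbit_sum {p : ℕ} [hp : Fact p.Prime] {P : Subgroup G} [Fintype P] (hP : Nat.card P = p)
    (ρ : G →* Module.End k V) {Ω : Type*} [Fintype Ω] [DecidableEq Ω] [MulAction P Ω] (f : Ω → V)
    (hf : ∀ (y : P) (ω : Ω), f (y • ω) = ρ y (f ω))
    [DecidablePred (fun ω : Ω => ω ∈ MulAction.fixedPoints P Ω)] :
    ∃ u : V, ∑ ω, f ω = ∑ ω ∈ Finset.univ.filter (fun ω => ω ∈ MulAction.fixedPoints P Ω), f ω +
      ∑ y : P, ρ y u := by
  have key : ∀ n : ℕ, ∀ s : Finset Ω, s.card = n → (∀ ω ∈ s, ∀ y : P, y • ω ∈ s) →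
      (∀ ω ∈ s, ω ∉ MulAction.fixedPoints P Ω) → ∃ u : V, ∑ ω ∈ s, f ω = ∑ y : P, ρ y u := by
    intro n
    induction n using Nat.strong_induction_on with
    | _ n ih =>
      intro s hs hst hnf
      rcases s.eq_empty_or_nonempty with rfl | ⟨ω, hω⟩
      · exact ⟨0, by simp⟩
      · have hinj : Function.Injective (fun y : P => y • ω) := by
          have hstab : MulAction.stabilizer P ω = ⊥ := by
            have hdvd : Nat.card (MulAction.stabilizer P ω) ∣ p := by
              rw [← hP]; exact Subgroup.card_subgroup_dvd_card _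
            rcases (Nat.dvd_prime hp.out).1 hdvd with h1 | h1
            · exact Subgroup.card_eq_one.1 h1
            · exfalso
              apply hnf ω hω
              have htop : MulAction.stabilizer P ω = ⊤ :=
                Subgroup.eq_top_of_card_eq _ (by rw [h1, hP])
              intro y
              have : y ∈ MulAction.stabilizer P ω := by rw [htop]; trivial
              exact this
          intro a b hab
          have h1 : b⁻¹ * a ∈ MulAction.stabilizer P ω := by
            rw [MulAction.mem_stabilizer_iff, mul_smul]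
            have hab' : a • ω = b • ω := hab
            rw [hab', inv_smul_smul]
          rw [hstab, Subgroup.mem_bot] at h1
          exact (inv_mul_eq_one.1 h1).symm
        let o : Finset Ω := Finset.univ.image (fun y : P => y • ω)
        have ho : o ⊆ s := by
          intro x hx
          obtain ⟨y, -, rfl⟩ := Finset.mem_image.1 hx
          exact hst ω hω y
        have homem : ω ∈ o := Finset.mem_image.2 ⟨1, Finset.mem_univ _, one_smul _ _⟩
        have hlt : (s \ o).card < n := by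
          rw [← hs]
          apply Finset.card_lt_card
          refine ⟨Finset.sdiff_subset, fun h => ?_⟩
          have := h hω
          rw [Finset.mem_sdiff] at this
          exact this.2 homem
        obtain ⟨u, hu⟩ := ih _ hlt (s \ o) rfl (by
          intro x hx y
          rw [Finset.mem_sdiff] at hx ⊢
          refine ⟨hst x hx.1 y, fun h => hx.2 ?_⟩
          obtain ⟨y', -, hy'⟩ := Finset.mem_image.1 h
          refine Finset.mem_image.2 ⟨y⁻¹ * y', Finset.mem_univ _, ?_⟩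
          have hy'' : y' • ω = y • x := hy'
          show (y⁻¹ * y') • ω = x
          rw [mul_smul, hy'', inv_smul_smul]) (by
          intro x hx
          rw [Finset.mem_sdiff] at hx
          exact hnf x hx.1)
        refine ⟨u + f ω, ?_⟩
        rw [← Finset.sum_sdiff ho, hu]
        have h2 : ∑ x ∈ o, f x = ∑ y : P, ρ y (f ω) := by
          rw [Finset.sum_image (fun a _ b _ h => hinj h)]
          exact Finset.sum_congr rfl fun y _ => hf y ω
        rw [h2, ← Finset.sum_add_distrib]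
        exact Finset.sum_congr rfl fun y _ => by rw [map_add]
  obtain ⟨u, hu⟩ := key _ (Finset.univ.filter (fun ω => ¬ ω ∈ MulAction.fixedPoints P Ω)) rfl (by
    intro ω hω y
    rw [Finset.mem_filter] at hω ⊢
    refine ⟨Finset.mem_univ _, fun h => hω.2 ?_⟩
    intro z
    have h1 := h (y * z * y⁻¹)
    have h2 := h y⁻¹
    rw [inv_smul_smul] at h2
    -- y • ω is fixed, so ω = y • ω is fixed
    rw [h2]; exact h z) (by
    intro ω hω
    rw [Finset.mem_filter] at hω
    exact hω.2)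
  refine ⟨u, ?_⟩
  rw [← hu, Finset.sum_filter_add_sum_filter_not]

/-- projection onto the uniserial submodule ending in `v` -/
theorem exists_proj (x : V →ₗ[k] V) (m : ℕ) (hx : x ^ m = 0) {v : V} (hv0 : v ≠ 0)
    (hv : x v = 0) : ∃ (φ : V →ₗ[k] k) (π : V →ₗ[k] V), φ v = 1 ∧ π ∘ₗ x = x ∘ₗ π ∧
      ∀ s, x s = 0 → π s = φ s • v := by
  classical
  have hex : ∃ r : ℕ, v ∉ LinearMap.range (x ^ r) := ⟨m, by
    rw [hx]
    rintro ⟨u, hu⟩
    exact hv0 (by rw [← hu]; rfl)⟩
  obtain ⟨r, hr⟩ : ∃ r, Nat.find hex = r + 1 := by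
    rcases h : Nat.find hex with _ | r
    · exfalso
      have := Nat.find_spec hex
      rw [h] at this
      exact this ⟨v, by simp⟩
    · exact ⟨r, rfl⟩
  have h1 : v ∉ LinearMap.range (x ^ (r + 1)) := by
    have := Nat.find_spec hex
    rwa [hr] at this
  have h2 : v ∈ LinearMap.range (x ^ r) := by
    by_contra h
    have := Nat.find_min' hex h
    omega
  obtain ⟨u, hu⟩ := h2
  obtain ⟨φ0, hφ0, hφ1⟩ := Submodule.exists_le_ker_of_notMem h1
  have hφr : ∀ s, φ0 ((x ^ (r + 1)) s) = 0 := fun s => hφ1 ⟨s, rfl⟩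
  let φ : V →ₗ[k] k := (φ0 v)⁻¹ • φ0
  have hφv : φ v = 1 := by
    show (φ0 v)⁻¹ * φ0 v = 1
    exact inv_mul_cancel₀ hφ0
  have hφx : ∀ s, φ ((x ^ (r + 1)) s) = 0 := by
    intro s
    show (φ0 v)⁻¹ * φ0 ((x ^ (r + 1)) s) = 0
    rw [hφr, mul_zero]
  let π : V →ₗ[k] V := ∑ i ∈ Finset.range (r + 1), (φ ∘ₗ (x ^ (r - i))).smulRight ((x ^ i) u)
  have hπ : ∀ s, π s = ∑ i ∈ Finset.range (r + 1), φ ((x ^ (r - i)) s) • (x ^ i) u := by
    intro s
    simp [π, LinearMap.sum_apply]
  refine ⟨φ, π, hφv, ?_, ?_⟩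
  · ext s
    show π (x s) = x (π s)
    rw [hπ, hπ, map_sum, Finset.sum_range_succ', Finset.sum_range_succ]
    have e1 : φ ((x ^ (r - 0)) (x s)) = 0 := by
      rw [Nat.sub_zero]
      have : (x ^ r) (x s) = (x ^ (r + 1)) s := by rw [pow_succ]; rfl
      rw [this, hφx]
    have e2 : x (φ ((x ^ (r - r)) s) • (x ^ r) u) = 0 := by
      rw [map_smul, hu, hv, smul_zero]
    rw [e1, zero_smul, add_zero, e2, add_zero]
    refine Finset.sum_congr rfl fun i hi => ?_
    rw [Finset.mem_range] at hi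
    rw [map_smul]
    have e3 : (x ^ (r - (i + 1))) (x s) = (x ^ (r - i)) s := by
      have : r - i = (r - (i + 1)) + 1 := by omega
      rw [this, pow_succ]; rfl
    have e4 : (x ^ (i + 1)) u = x ((x ^ i) u) := by rw [pow_succ']; rfl
    rw [e3, e4]
  · intro s hs
    rw [hπ, Finset.sum_range_succ, Nat.sub_self, pow_zero, hu]
    have : ∑ i ∈ Finset.range r, φ ((x ^ (r - i)) s) • (x ^ i) u = 0 := by
      apply Finset.sum_eq_zero
      intro i hi
      rw [Finset.mem_range] at hi
      have e : (x ^ (r - i)) s = 0 := by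
        have : r - i = (r - i - 1) + 1 := by omega
        rw [this, pow_succ, Module.End.mul_apply, hs, map_zero]
      rw [e, map_zero, zero_smul]
    rw [this, zero_add]; rfl

end orbit

section weight

variable {k V G : Type*} [Field k] [AddCommGroup V] [Module k V] [Group G] [Fintype G]

/-- two weights that both survive in the Tate cohomology of a Schur module are equal -/
theorem weight_unique {p : ℕ} [hp : Fact p.Prime] [CharP k p] {P : Subgroup G} [Fintype P]
    (hP : Nat.card P = p) (hidx : ¬ p ∣ P.index) (ρ : G →* Module.End k V)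
    (hsch : ∀ T : Module.End k V, (∀ g, ρ g * T = T * ρ g) → ∃ c : k, ∀ s, T s = c • s)
    {w w' : G → k} (hw1 : w 1 = 1) (hw'1 : w' 1 = 1)
    (hw : ∀ n ∈ Subgroup.normalizer (P : Set G), ∀ m ∈ Subgroup.normalizer (P : Set G), w (n * m) = w n * w m)
    (hw' : ∀ n ∈ Subgroup.normalizer (P : Set G), ∀ m ∈ Subgroup.normalizer (P : Set G), w' (n * m) = w' n * w' m)
    (hwP : ∀ y ∈ P, w y = 1) (hw'P : ∀ y ∈ P, w' y = 1) {v v' : V}
    (hv : ∀ n ∈ Subgroup.normalizer (P : Set G), ρ n v = w n • v)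
    (hv' : ∀ n ∈ Subgroup.normalizer (P : Set G), ρ n v' = w' n • v')
    (hvN : ∀ u, ∑ y : P, ρ y u ≠ v) (hv'N : ∀ u, ∑ y : P, ρ y u ≠ v') :
    ∀ n ∈ Subgroup.normalizer (P : Set G), w n = w' n := by
  classical
  by_contra hcon
  push Not at hcon
  obtain ⟨n0, hn0, hne⟩ := hcon
  have hPN : P ≤ Subgroup.normalizer (P : Set G) := Subgroup.le_normalizer
  have hPv : ∀ y ∈ P, ρ y v = v := fun y hy => by rw [hv y (hPN hy), hwP y hy, one_smul]
  have hPv' : ∀ y ∈ P, ρ y v' = v' := fun y hy => by rw [hv' y (hPN hy), hw'P y hy, one_smul]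
  have hinv : ∀ n ∈ Subgroup.normalizer (P : Set G), w n⁻¹ * w n = 1 := by
    intro n hn
    rw [← hw _ (inv_mem hn) _ hn, inv_mul_cancel, hw1]
  have hinv' : ∀ n ∈ Subgroup.normalizer (P : Set G), w' n⁻¹ * w' n = 1 := by
    intro n hn
    rw [← hw' _ (inv_mem hn) _ hn, inv_mul_cancel, hw'1]
  -- a generator of P
  haveI : IsCyclic P := isCyclic_of_prime_card hP
  obtain ⟨z, hz⟩ := IsCyclic.exists_generator (α := P)
  have hzP : ∀ y ∈ P, ∃ i : ℤ, (z : G) ^ i = y := by
    intro y hy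
    obtain ⟨i, hi⟩ := hz ⟨y, hy⟩
    exact ⟨i, by simpa using congrArg Subtype.val hi⟩
  have hzp : (z : G) ^ p = 1 := by
    have : z ^ p = 1 := by rw [← hP]; exact pow_card_eq_one'
    simpa using congrArg Subtype.val this
  have hx : ((ρ z - 1 : Module.End k V)) ^ p = 0 := by
    haveI : CharP (Module.End k V) p ∨ Subsingleton V := by
      by_cases h : Subsingleton V
      · exact Or.inr h
      · left
        haveI : Nontrivial V := not_subsingleton_iff_nontrivial.1 h
        haveI : Nontrivial (Module.End k V) := inferInstance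
        exact charP_of_injective_algebraMap (algebraMap k (Module.End k V)).injective p
    rcases this with h | h
    · rw [sub_pow_char_of_commute (p := p) (Commute.one_right _), ← map_pow, hzp, map_one, one_pow,
        sub_self]
    · ext s
      exact Subsingleton.elim _ _
  have hv0 : v ≠ 0 := fun h => hvN 0 (by rw [h]; simp)
  obtain ⟨φ, π, hφv, hπx, hπs⟩ := exists_proj (ρ z - 1 : Module.End k V) p hx hv0
    (by rw [LinearMap.sub_apply, hPv _ z.2]; simp)
  have hπz : π * ρ z = ρ z * π := by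
    have h1 : π * (ρ z - 1) = (ρ z - 1) * π := hπx
    rw [mul_sub, sub_mul, mul_one, one_mul] at h1
    exact sub_left_injective h1
  have hπzi : ∀ i : ℤ, Commute π (ρ ((z : G) ^ i)) := by
    intro i
    have hc : Commute π (ρ z) := hπz
    have h2 : ρ z * ρ (z⁻¹ : G) = 1 := by rw [← map_mul, mul_inv_cancel, map_one]
    have h3 : ρ (z⁻¹ : G) * ρ z = 1 := by rw [← map_mul, inv_mul_cancel, map_one]
    have hci : Commute π (ρ (z⁻¹ : G)) := by
      show π * ρ (z⁻¹ : G) = ρ (z⁻¹ : G) * π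
      calc π * ρ (z⁻¹ : G) = (ρ (z⁻¹ : G) * ρ z) * π * ρ (z⁻¹ : G) := by rw [h3, one_mul]
        _ = ρ (z⁻¹ : G) * (ρ z * π) * ρ (z⁻¹ : G) := by rw [mul_assoc (ρ (z⁻¹ : G))]
        _ = ρ (z⁻¹ : G) * (π * ρ z) * ρ (z⁻¹ : G) := by rw [hπz]
        _ = ρ (z⁻¹ : G) * π * (ρ z * ρ (z⁻¹ : G)) := by simp only [mul_assoc]
        _ = ρ (z⁻¹ : G) * π := by rw [h2, mul_one]
    obtain ⟨n, rfl | rfl⟩ := i.eq_nat_or_neg
    · rw [zpow_natCast, map_pow]; exact hc.pow_right n
    · rw [zpow_neg, zpow_natCast, ← inv_pow, map_pow]; exact hci.pow_right n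
  have hπP : ∀ y ∈ P, π * ρ y = ρ y * π := by
    intro y hy
    obtain ⟨i, rfl⟩ := hzP y hy
    exact hπzi i
  have hπfix : ∀ s, (∀ y ∈ P, ρ y s = s) → π s = φ s • v := by
    intro s hs
    apply hπs
    rw [LinearMap.sub_apply, hs _ z.2]; simp
  -- conjugates of π
  let F : G → Module.End k V := fun g => ρ g * π * ρ g⁻¹
  have hF : ∀ g, ∀ y ∈ P, F (g * y) = F g := by
    intro g y hy
    show ρ (g * y) * π * ρ (g * y)⁻¹ = ρ g * π * ρ g⁻¹
    rw [mul_inv_rev, map_mul, map_mul]
    have h1 : ρ y * π * ρ y⁻¹ = π := by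
      rw [← hπP y hy, mul_assoc, ← map_mul, mul_inv_cancel, map_one, mul_one]
    calc ρ g * ρ y * π * (ρ y⁻¹ * ρ g⁻¹) = ρ g * (ρ y * π * ρ y⁻¹) * ρ g⁻¹ := by
          simp only [mul_assoc]
      _ = ρ g * π * ρ g⁻¹ := by rw [h1]
  let Fq : G ⧸ P → Module.End k V := fun c => F c.out
  have hFq : ∀ g : G, Fq (g : G ⧸ P) = F g := by
    intro g
    have h1 : (QuotientGroup.mk (Quotient.out (g : G ⧸ P)) : G ⧸ P) = (g : G ⧸ P) :=
      QuotientGroup.out_eq' _
    have h2 : g⁻¹ * Quotient.out (g : G ⧸ P) ∈ P := by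
      rw [← QuotientGroup.eq]; exact h1.symm
    have h3 : Quotient.out (g : G ⧸ P) = g * (g⁻¹ * Quotient.out (g : G ⧸ P)) := by group
    show F _ = F g
    rw [h3, hF _ _ h2]
  have hFconj : ∀ h g, F (h * g) = ρ h * F g * ρ h⁻¹ := by
    intro h g
    show ρ (h * g) * π * ρ (h * g)⁻¹ = ρ h * (ρ g * π * ρ g⁻¹) * ρ h⁻¹
    rw [mul_inv_rev, map_mul, map_mul]
    simp only [mul_assoc]
  have hFqs : ∀ h (c : G ⧸ P), Fq (h • c) = ρ h * Fq c * ρ h⁻¹ := by
    intro h c
    obtain ⟨g, rfl⟩ := QuotientGroup.mk_surjective c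
    have : h • (g : G ⧸ P) = ((h * g : G) : G ⧸ P) := rfl
    rw [this, hFq, hFq, hFconj]
  haveI : Fintype (G ⧸ P) := Fintype.ofFinite _
  let T : Module.End k V := ∑ c : G ⧸ P, Fq c
  have hT : ∀ g, ρ g * T = T * ρ g := by
    intro g
    have h1 : ρ g * T * ρ g⁻¹ = T := by
      show ρ g * (∑ c : G ⧸ P, Fq c) * ρ g⁻¹ = ∑ c : G ⧸ P, Fq c
      rw [Finset.mul_sum, Finset.sum_mul]
      exact Fintype.sum_equiv (MulAction.toPerm g) _ _ (fun c => (hFqs g c).symm)
    have h2 : ρ g⁻¹ * ρ g = 1 := by rw [← map_mul, inv_mul_cancel, map_one]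
    calc ρ g * T = ρ g * T * (ρ g⁻¹ * ρ g) := by rw [h2, mul_one]
      _ = ρ g * T * ρ g⁻¹ * ρ g := by simp only [mul_assoc]
      _ = T * ρ g := by rw [h1]
  obtain ⟨c, hc⟩ := hsch T hT
  -- the fixed cosets
  let Fx : Finset (G ⧸ P) := Finset.univ.filter (fun c => c ∈ MulAction.fixedPoints P (G ⧸ P))
  have hmemFx : ∀ c : G ⧸ P, c ∈ Fx ↔ c.out ∈ Subgroup.normalizer (P : Set G) := by
    intro c
    rw [Finset.mem_filter]
    have h1 := Sylow.mem_fixedPoints_mul_left_cosets_iff_mem_normalizer (H := P) (x := c.out)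
    rw [← h1, QuotientGroup.out_eq']
    simp
  have hsum : ∀ s, (∀ y ∈ P, ρ y s = s) → ∃ u, c • s = ∑ q ∈ Fx, Fq q s + ∑ y : P, ρ y u := by
    intro s hs
    obtain ⟨u, hu⟩ := orbit_sum hP ρ (fun q : G ⧸ P => Fq q s) (by
      intro y q
      have h1 : y • q = (y : G) • q := rfl
      rw [h1]
      show Fq ((y : G) • q) s = ρ y (Fq q s)
      rw [hFqs]
      show ρ y (Fq q (ρ (y : G)⁻¹ s)) = ρ y (Fq q s)
      rw [hs _ (P.inv_mem y.2)])
    refine ⟨u, ?_⟩
    rw [← hu, ← hc s]
    show (∑ c : G ⧸ P, Fq c) s = _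
    rw [LinearMap.sum_apply]
  have hval : ∀ q ∈ Fx, Fq q v = v := by
    intro q hq
    have hn := (hmemFx q).1 hq
    show ρ q.out (π (ρ q.out⁻¹ v)) = v
    rw [hv _ (inv_mem hn), map_smul, hπfix v hPv, hφv, one_smul, map_smul, hv _ hn, smul_smul,
      hinv _ hn, one_smul]
  have hval' : ∀ q ∈ Fx, Fq q v' = (w' q.out⁻¹ * w q.out) • (φ v' • v) := by
    intro q hq
    have hn := (hmemFx q).1 hq
    show ρ q.out (π (ρ q.out⁻¹ v')) = _
    rw [hv' _ (inv_mem hn), map_smul, hπfix v' hPv', map_smul, map_smul, hv _ hn, smul_smul,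
      smul_smul, smul_smul]
    congr 1; ring
  obtain ⟨u, hu⟩ := hsum v hPv
  obtain ⟨u', hu'⟩ := hsum v' hPv'
  rw [Finset.sum_congr rfl hval, Finset.sum_const] at hu
  rw [Finset.sum_congr rfl hval', ← Finset.sum_smul] at hu'
  -- the character sum vanishes
  have hzero : ∑ q ∈ Fx, (w' q.out⁻¹ * w q.out) = 0 := by
    have hcos : ∀ q ∈ Fx, w' ((n0 • q).out⁻¹) * w (n0 • q).out = (w' n0⁻¹ * w n0) * (w' q.out⁻¹ * w q.out) := by
      intro q hq
      have hn := (hmemFx q).1 hq
      have h1 : (n0 • q : G ⧸ P) = ((n0 * q.out : G) : G ⧸ P) := by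
        conv_lhs => rw [← QuotientGroup.out_eq' q]
        rfl
      have h2 : (n0 * q.out)⁻¹ * (n0 • q).out ∈ P := by
        rw [← QuotientGroup.eq, ← h1, QuotientGroup.out_eq']
      have h3 : (n0 • q).out = (n0 * q.out) * ((n0 * q.out)⁻¹ * (n0 • q).out) := by group
      have hN1 : n0 * q.out ∈ Subgroup.normalizer (P : Set G) := mul_mem hn0 hn
      have e1 : w (n0 • q).out = w n0 * w q.out := by
        rw [h3, hw _ hN1 _ (hPN h2), hwP _ h2, mul_one, hw _ hn0 _ hn]
      have e2 : w' (n0 • q).out⁻¹ = w' q.out⁻¹ * w' n0⁻¹ := by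
        rw [h3, mul_inv_rev, hw' _ (hPN (inv_mem h2)) _ (inv_mem hN1), hw'P _ (inv_mem h2), one_mul,
          mul_inv_rev, hw' _ (inv_mem hn) _ (inv_mem hn0)]
      rw [e1, e2]; ring
    have hperm : ∑ q ∈ Fx, (w' (n0 • q).out⁻¹ * w (n0 • q).out) = ∑ q ∈ Fx, (w' q.out⁻¹ * w q.out) := by
      refine Finset.sum_bij (fun q _ => n0 • q) ?_ ?_ ?_ ?_
      · intro q hq
        rw [hmemFx]
        have hn := (hmemFx q).1 hq
        have h1 : (n0 • q : G ⧸ P) = ((n0 * q.out : G) : G ⧸ P) := by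
          conv_lhs => rw [← QuotientGroup.out_eq' q]
          rfl
        have h2 : (n0 * q.out)⁻¹ * (n0 • q).out ∈ P := by
          rw [← QuotientGroup.eq, ← h1, QuotientGroup.out_eq']
        have h3 : (n0 • q).out = (n0 * q.out) * ((n0 * q.out)⁻¹ * (n0 • q).out) := by group
        rw [h3]
        exact mul_mem (mul_mem hn0 hn) (hPN h2)
      · intro a _ b _ hab
        exact (MulAction.injective n0 hab)
      · intro q hq
        refine ⟨n0⁻¹ • q, ?_, smul_inv_smul _ _⟩
        rw [hmemFx]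
        have hn := (hmemFx q).1 hq
        have h1 : (n0⁻¹ • q : G ⧸ P) = ((n0⁻¹ * q.out : G) : G ⧸ P) := by
          conv_lhs => rw [← QuotientGroup.out_eq' q]
          rfl
        have h2 : (n0⁻¹ * q.out)⁻¹ * (n0⁻¹ • q).out ∈ P := by
          rw [← QuotientGroup.eq, ← h1, QuotientGroup.out_eq']
        have h3 : (n0⁻¹ • q).out = (n0⁻¹ * q.out) * ((n0⁻¹ * q.out)⁻¹ * (n0⁻¹ • q).out) := by group
        rw [h3]
        exact mul_mem (mul_mem (inv_mem hn0) hn) (hPN h2)
      · intro q _; rfl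
    rw [Finset.sum_congr rfl hcos, ← Finset.mul_sum] at hperm
    by_contra hne0
    have h1 : w' n0⁻¹ * w n0 = 1 := mul_right_cancel₀ hne0 (by rw [hperm, one_mul])
    apply hne
    have h2 := hinv' n0 hn0
    have h3 : w' n0⁻¹ ≠ 0 := fun h => by rw [h, zero_mul] at h2; exact zero_ne_one h2
    exact mul_left_cancel₀ h3 (h1.trans h2.symm)
  rw [hzero, zero_smul, zero_add] at hu'
  -- c = number of fixed cosets
  have hcm : c = (Fx.card : k) := by
    by_contra hne2
    have h1 : (c - (Fx.card : k)) • v = ∑ y : P, ρ y u := by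
      rw [sub_smul, hu, ← Nat.cast_smul_eq_nsmul k]; abel
    apply hvN ((c - (Fx.card : k))⁻¹ • u)
    have h2 : ∀ y : P, ρ y ((c - (Fx.card : k))⁻¹ • u) = (c - (Fx.card : k))⁻¹ • ρ y u := fun y => map_smul _ _ _
    rw [Finset.sum_congr rfl fun y _ => h2 y, ← Finset.smul_sum, ← h1, smul_smul,
      inv_mul_cancel₀ (sub_ne_zero.2 hne2), one_smul]
  have hcard : (Fx.card : k) ≠ 0 := by
    intro h
    rw [CharP.cast_eq_zero_iff k p] at h
    apply hidx
    have hPp : IsPGroup p P := IsPGroup.of_card (n := 1) (by rw [hP, pow_one])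
    have h1 := hPp.card_modEq_card_fixedPoints (G ⧸ P)
    have h2 : Nat.card (MulAction.fixedPoints P (G ⧸ P)) = Fx.card := by
      rw [Nat.card_eq_fintype_card, Fintype.card_subtype]
    rw [h2] at h1
    have h3 : p ∣ Nat.card (G ⧸ P) := (Nat.modEq_zero_iff_dvd.1 (h1.trans (Nat.modEq_zero_iff_dvd.2 h)))
    exact h3
  apply hv'N (c⁻¹ • u')
  have h2 : ∀ y : P, ρ y (c⁻¹ • u') = c⁻¹ • ρ y u' := fun y => map_smul _ _ _
  rw [Finset.sum_congr rfl fun y _ => h2 y, ← Finset.smul_sum, ← hu', smul_smul,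
    inv_mul_cancel₀ (by rw [hcm]; exact hcard), one_smul]

/-- `G` with the conjugation action of a subgroup -/
def Cj (_P : Subgroup G) : Type _ := G

/-- the underlying group element -/
def Cj.to {P : Subgroup G} (g : Cj P) : G := g

/-- the element of `Cj` -/
def Cj.mk {P : Subgroup G} (g : G) : Cj P := g

instance (P : Subgroup G) : Fintype (Cj P) := inferInstanceAs (Fintype G)

instance (P : Subgroup G) : MulAction P (Cj P) where
  smul y g := Cj.mk ((y : G) * g.to * (y : G)⁻¹ : G)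
  one_smul g := by
    show ((1 : P) : G) * g.to * ((1 : P) : G)⁻¹ = g.to
    simp
  mul_smul a b g := by
    show ((a * b : P) : G) * g.to * ((a * b : P) : G)⁻¹ =
      (a : G) * ((b : G) * g.to * (b : G)⁻¹) * (a : G)⁻¹
    push_cast
    group

theorem Cj_smul (P : Subgroup G) (y : P) (g : Cj P) :
    (y • g : Cj P) = Cj.mk ((y : G) * g.to * (y : G)⁻¹ : G) := rfl

theorem Cj_to_smul (P : Subgroup G) (y : P) (g : Cj P) :
    (y • g : Cj P).to = ((y : G) * g.to * (y : G)⁻¹ : G) := rfl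

/-- central elements act on surviving weight vectors through the augmentation -/
theorem central_scalar {p : ℕ} [hp : Fact p.Prime] [CharP k p] {P : Subgroup G} [Fintype P]
    (hP : Nat.card P = p) (ρ : G →* Module.End k V) {f : G → k}
    (hf : ∀ a g : G, f (a * g * a⁻¹) = f g) {v : V}
    (hv : ∀ n ∈ Subgroup.centralizer (P : Set G), ρ n v = v) (hPC : P ≤ Subgroup.centralizer (P : Set G)) :
    ∃ u, ∑ g : G, f g • ρ g v = (∑ g : G, f g) • v + ∑ y : P, ρ y u := by
  classical
  have hPv : ∀ y ∈ P, ρ y v = v := fun y hy => hv y (hPC hy)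
  have hfix : ∀ g : Cj P, g ∈ MulAction.fixedPoints P (Cj P) ↔ g.to ∈ Subgroup.centralizer (P : Set G) := by
    intro g
    rw [Subgroup.mem_centralizer_iff]
    constructor
    · intro h y hy
      have h1 := congrArg Cj.to (h ⟨y, hy⟩)
      rw [Cj_to_smul] at h1
      exact mul_inv_eq_iff_eq_mul.1 h1
    · intro h y
      have h1 := h y y.2
      show ((y : G) * g.to * (y : G)⁻¹ : G) = g.to
      exact mul_inv_eq_iff_eq_mul.2 h1
  obtain ⟨u, hu⟩ := orbit_sum (Ω := Cj P) hP ρ (fun g => f g.to • ρ g.to v) (by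
    intro y g
    rw [Cj_to_smul, hf, map_smul, map_mul, map_mul]
    show _ • (ρ (y : G) (ρ g.to (ρ (y : G)⁻¹ v))) = _
    rw [hPv _ (P.inv_mem y.2)])
  obtain ⟨u1, hu1⟩ := orbit_sum (V := k) (Ω := Cj P) hP (1 : G →* Module.End k k) (fun g => f g.to) (by
    intro y g
    show f ((y • g).to) = f g.to
    rw [Cj_to_smul, hf])
  have hN : ∑ y : P, (1 : G →* Module.End k k) y u1 = 0 := by
    have : ∀ y : P, (1 : G →* Module.End k k) y u1 = u1 := fun y => rfl
    rw [Finset.sum_congr rfl fun y _ => this y, Finset.sum_const, Finset.card_univ,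
      ← Nat.card_eq_fintype_card, hP, ← Nat.cast_smul_eq_nsmul k, CharP.cast_eq_zero, zero_smul]
  rw [hN, add_zero] at hu1
  refine ⟨u, ?_⟩
  have e1 : ∑ g : G, f g • ρ g v = ∑ ω : Cj P, f ω.to • ρ ω.to v := rfl
  have e2 : ∑ g : G, f g = ∑ ω : Cj P, f ω.to := rfl
  rw [e1, e2, hu, hu1, Finset.sum_smul]
  congr 1
  refine Finset.sum_congr rfl fun g hg => ?_
  rw [Finset.mem_filter, hfix] at hg
  rw [hv _ hg.2]

end weight

end Cfsg.Agent.H9.BrMod
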