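import Mathlib
import Cfsg.Agent.H9_BrMod

/-!
H9_BrMod2: simple modules over a modular group algebra with prescribed surviving weight.
-/

set_option autoImplicit false
set_option linter.unusedSectionVars false

namespace Cfsg.Agent.H9.BrMod2

open Module

variable {k : Type*} [Field k] {G : Type*} [Group G] [Fintype G]

/-- the weighted sum over a subgroup -/
noncomputable def B (w : G → k) (N : Subgroup G) [Fintype N] : MonoidAlgebra k G :=
  ∑ n : N, MonoidAlgebra.single (n : G) (w (n : G)⁻¹)

theorem single_mul_B {w : G → k} {N : Subgroup G} [Fintype N] (hw1 : w 1 = 1)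
    (hw : ∀ n ∈ N, ∀ m ∈ N, w (n * m) = w n * w m) (n : G) (hn : n ∈ N) :
    MonoidAlgebra.single n (1:k) * B w N = w n • B w N := by
  unfold B
  rw [Finset.mul_sum, Finset.smul_sum]
  refine Fintype.sum_equiv (Equiv.mulLeft (⟨n, hn⟩ : N)) _ _ (fun m => ?_)
  rw [MonoidAlgebra.single_mul_single, one_mul, MonoidAlgebra.smul_single]
  congr 1
  show w (m : G)⁻¹ = w n • w (n * m : G)⁻¹
  rw [mul_inv_rev, hw _ (N.inv_mem m.2) _ (N.inv_mem hn), smul_eq_mul]
  have h1 : w n * w n⁻¹ = 1 := by rw [← hw _ hn _ (N.inv_mem hn), mul_inv_cancel, hw1]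
  calc w (m : G)⁻¹ = w (m : G)⁻¹ * (w n * w n⁻¹) := by rw [h1, mul_one]
    _ = _ := by ring

theorem B_mul_single {w : G → k} {N : Subgroup G} [Fintype N] (hw1 : w 1 = 1)
    (hw : ∀ n ∈ N, ∀ m ∈ N, w (n * m) = w n * w m) (n : G) (hn : n ∈ N) :
    B w N * MonoidAlgebra.single n (1:k) = w n • B w N := by
  unfold B
  rw [Finset.sum_mul, Finset.smul_sum]
  refine Fintype.sum_equiv (Equiv.mulRight (⟨n, hn⟩ : N)) _ _ (fun m => ?_)
  rw [MonoidAlgebra.single_mul_single, mul_one, MonoidAlgebra.smul_single]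
  congr 1
  show w (m : G)⁻¹ = w n • w (m * n : G)⁻¹
  rw [mul_inv_rev, hw _ (N.inv_mem hn) _ (N.inv_mem m.2), smul_eq_mul]
  have h1 : w n * w n⁻¹ = 1 := by rw [← hw _ hn _ (N.inv_mem hn), mul_inv_cancel, hw1]
  calc w (m : G)⁻¹ = w (m : G)⁻¹ * (w n * w n⁻¹) := by rw [h1, mul_one]
    _ = _ := by ring

instance : FiniteDimensional k (MonoidAlgebra k G) :=
  Module.Finite.equiv (MonoidAlgebra.coeffLinearEquiv k (S := k) (M := G)).symm

/-- existence of a simple quotient of the group algebra with a surviving weight vector -/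
theorem exists_simple {p : ℕ} [hp : Fact p.Prime] [CharP k p] {N : Subgroup G} [Fintype N]
    (hN : p ∣ Nat.card N) {w : G → k} (hw1 : w 1 = 1)
    (hw : ∀ n ∈ N, ∀ m ∈ N, w (n * m) = w n * w m) :
    ∃ I : Submodule (MonoidAlgebra k G) (MonoidAlgebra k G),
      IsSimpleModule (MonoidAlgebra k G) (MonoidAlgebra k G ⧸ I) ∧
      ∃ v : MonoidAlgebra k G ⧸ I, (∀ n ∈ N, MonoidAlgebra.single n (1:k) • v = w n • v) ∧
        ∀ u, B w N • u ≠ v := by
  classical
  let Q : Submodule (MonoidAlgebra k G) (MonoidAlgebra k G) →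
    Submodule (MonoidAlgebra k G) (MonoidAlgebra k G) → Prop := fun Y X =>
    Y ≤ X ∧ ∃ v ∈ X, (∀ n ∈ N, MonoidAlgebra.single n (1:k) * v - w n • v ∈ Y) ∧
      ∀ u ∈ X, v - B w N * u ∉ Y
  haveI : IsArtinian (MonoidAlgebra k G) (MonoidAlgebra k G) := isArtinian_of_tower k inferInstance
  haveI : IsNoetherian (MonoidAlgebra k G) (MonoidAlgebra k G) := isNoetherian_of_tower k inferInstance
  -- existence
  have hex : ∃ X, ∃ Y, Q Y X := by
    let X0 : Submodule (MonoidAlgebra k G) (MonoidAlgebra k G) :=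
      { carrier := {a | ∀ n ∈ N, a * MonoidAlgebra.single n (1:k) = w n • a}
        add_mem' := by
          intro a b ha hb n hn
          rw [add_mul, ha n hn, hb n hn, smul_add]
        zero_mem' := by intro n hn; rw [zero_mul, smul_zero]
        smul_mem' := by
          intro c a ha n hn
          rw [smul_eq_mul, mul_assoc, ha n hn, mul_smul_comm] }
    refine ⟨X0, ⊥, bot_le, B w N, fun n hn => B_mul_single hw1 hw n hn, ?_, ?_⟩
    · intro n hn
      rw [single_mul_B hw1 hw n hn, sub_self]
      exact Submodule.zero_mem _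
    · intro u hu hmem
      rw [Submodule.mem_bot, sub_eq_zero] at hmem
      have h1 : (B w N).coeff 1 = (B w N * u).coeff 1 := congrArg (fun a => a.coeff 1) hmem
      have h2 : (B w N).coeff 1 = 1 := by
        unfold B
        rw [MonoidAlgebra.coeff_sum, Finsupp.finsetSum_apply, Finset.sum_eq_single 1]
        · rw [MonoidAlgebra.coeff_single]
          simp [hw1]
        · intro b _ hb
          rw [MonoidAlgebra.coeff_single, Finsupp.single_apply, if_neg]
          intro h; exact hb (Subtype.ext h)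
        · intro h; exact absurd (Finset.mem_univ _) h
      have h3 : (B w N * u).coeff 1 = 0 := by
        unfold B
        rw [Finset.sum_mul, MonoidAlgebra.coeff_sum, Finsupp.finsetSum_apply]
        have h4 : ∀ n : N, (MonoidAlgebra.single (n : G) (w (n : G)⁻¹) * u).coeff 1 = u.coeff 1 := by
          intro n
          rw [MonoidAlgebra.coeff_single_mul_apply, mul_one]
          have h5 := congrArg (fun a => a.coeff 1) (hu n n.2)
          simp only [MonoidAlgebra.coeff_mul_single_apply, MonoidAlgebra.coeff_smul_apply, one_mul,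
            mul_one, smul_eq_mul] at h5
          rw [h5, ← mul_assoc, ← hw _ (N.inv_mem n.2) _ n.2, inv_mul_cancel, hw1, one_mul]
        rw [Finset.sum_congr rfl fun n _ => h4 n, Finset.sum_const, Finset.card_univ,
          ← Nat.card_eq_fintype_card, ← Nat.cast_smul_eq_nsmul k, (CharP.cast_eq_zero_iff k p _).2 hN,
          zero_smul]
      rw [h2, h3] at h1
      exact one_ne_zero h1
  -- minimal X
  obtain ⟨X, ⟨Y0, hY0⟩, hXmin⟩ := (wellFounded_lt (α := Submodule (MonoidAlgebra k G) (MonoidAlgebra k G))).has_min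
    {X | ∃ Y, Q Y X} hex
  obtain ⟨Y, hY, hYmax⟩ := (wellFounded_gt (α := Submodule (MonoidAlgebra k G) (MonoidAlgebra k G))).has_min
    {Y | Q Y X} ⟨Y0, hY0⟩
  obtain ⟨hYX, v, hvX, hvw, hvB⟩ := hY
  have hcov : Y ⋖ X := by
    refine ⟨lt_of_le_of_ne hYX ?_, ?_⟩
    · rintro rfl
      apply hvB 0 (Submodule.zero_mem _)
      rw [mul_zero, sub_zero]; exact hvX
    · intro Z hYZ hZX
      have h1 : ¬ Q Z X := fun h => hYmax Z h hYZ
      have h2 : ¬ Q Y Z := fun h => hXmin Z ⟨Y, h⟩ hZX
      apply h1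
      refine ⟨hZX.le, v, hvX, fun n hn => hYZ.le (hvw n hn), fun u hu hmem => ?_⟩
      apply h2
      refine ⟨hYZ.le, v - B w N * u, hmem, ?_, ?_⟩
      · intro n hn
        have e : MonoidAlgebra.single n (1:k) * (v - B w N * u) - w n • (v - B w N * u) =
            MonoidAlgebra.single n (1:k) * v - w n • v := by
          rw [mul_sub, ← mul_assoc, single_mul_B hw1 hw n hn, smul_sub, smul_mul_assoc]; abel
        rw [e]; exact hvw n hn
      · intro u' hu' hmem'
        apply hvB (u + u') (X.add_mem hu (hZX.le hu'))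
        have e : v - B w N * (u + u') = v - B w N * u - B w N * u' := by rw [mul_add]; abel
        rw [e]; exact hmem'
  haveI hsimple : IsSimpleModule (MonoidAlgebra k G) (X ⧸ Submodule.comap X.subtype Y) :=
    (covBy_iff_quot_is_simple hYX).1 hcov
  set S := X ⧸ Submodule.comap X.subtype Y with hS
  let v' : S := Submodule.Quotient.mk ⟨v, hvX⟩
  have hmk : ∀ (a : MonoidAlgebra k G) (b : X), (a • (Submodule.Quotient.mk b : S)) = Submodule.Quotient.mk (a • b) := fun a b => rfl
  have hmk' : ∀ (c : k) (b : X), (c • (Submodule.Quotient.mk b : S)) = Submodule.Quotient.mk (c • b) := fun a b => rfl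
  have hv'w : ∀ n ∈ N, MonoidAlgebra.single n (1:k) • v' = w n • v' := by
    intro n hn
    rw [hmk, hmk', Submodule.Quotient.eq]
    exact hvw n hn
  have hv'B : ∀ u : S, B w N • u ≠ v' := by
    intro u hu
    obtain ⟨u, rfl⟩ := Submodule.Quotient.mk_surjective _ u
    rw [hmk] at hu
    have h1 := (Submodule.Quotient.eq _).1 hu.symm
    exact hvB u u.2 h1
  have hv'0 : v' ≠ 0 := fun h => hv'B 0 (by rw [smul_zero, h])
  -- transport to a quotient of the algebra
  let f : MonoidAlgebra k G →ₗ[MonoidAlgebra k G] S := LinearMap.toSpanSingleton _ _ v'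
  have hf : Function.Surjective f := IsSimpleModule.toSpanSingleton_surjective _ hv'0
  let e := f.quotKerEquivOfSurjective hf
  have hek : ∀ (c : k) s, e.symm (c • s) = c • e.symm s := by
    intro c s
    have h1 : ∀ s : S, c • s = (MonoidAlgebra.single (1:G) c) • s := by
      intro s
      have : MonoidAlgebra.single (1:G) c = c • (1 : MonoidAlgebra k G) := by
        rw [MonoidAlgebra.one_def, MonoidAlgebra.smul_single, smul_eq_mul, mul_one]
      rw [this, smul_assoc, one_smul]
    have h2 : ∀ s : MonoidAlgebra k G ⧸ LinearMap.ker f, c • s = (MonoidAlgebra.single (1:G) c) • s := by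
      intro s
      have : MonoidAlgebra.single (1:G) c = c • (1 : MonoidAlgebra k G) := by
        rw [MonoidAlgebra.one_def, MonoidAlgebra.smul_single, smul_eq_mul, mul_one]
      rw [this, smul_assoc, one_smul]
    rw [h1, map_smul, h2]
  refine ⟨LinearMap.ker f, IsSimpleModule.congr e, e.symm v', ?_, ?_⟩
  · intro n hn
    rw [← map_smul, hv'w n hn, hek]
  · intro u hu
    apply hv'B (e u)
    rw [← map_smul, hu, LinearEquiv.apply_symm_apply]

end Cfsg.Agent.H9.BrMod2
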