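import Mathlib
import Cfsg.Agent.H9_BrMod2

/-!
H9_BrMod3: independence of the trace functions of simple modules.
-/

set_option autoImplicit false
set_option linter.unusedSectionVars false

namespace Cfsg.Agent.H9.BrMod3

open Module

theorem trace_indep {k : Type*} [Field k] [IsAlgClosed k] {A : Type*} [Ring A] [Algebra k A]
    {ι : Type*} [Fintype ι] [DecidableEq ι] (S : ι → Type*) [∀ i, AddCommGroup (S i)]
    [∀ i, Module A (S i)] [∀ i, Module k (S i)] [∀ i, IsScalarTower k A (S i)]
    [∀ i, FiniteDimensional k (S i)] [∀ i, IsSimpleModule A (S i)]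
    (hne : ∀ i j, i ≠ j → IsEmpty (S i ≃ₗ[A] S j)) (c : ι → k)
    (hc : ∀ a : A, ∑ i, c i * LinearMap.trace k (S i) (Algebra.lsmul k k (S i) a) = 0) :
    ∀ i, c i = 0 := by
  classical
  intro i0
  haveI : IsSemisimpleModule A (∀ i, S i) := inferInstance
  -- endomorphisms of the product are diagonal scalars
  have hdiag : ∀ φ : Module.End A (∀ i, S i), ∀ i, ∃ b : k, ∀ m : (∀ i, S i), φ m i = b • m i := by
    intro φ i
    have h1 : ∀ j, ∀ x : S j, j ≠ i → φ (Pi.single j x) i = 0 := by
      intro j x hji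
      let ψ : S j →ₗ[A] S i := LinearMap.proj i ∘ₗ φ ∘ₗ LinearMap.single A S j
      have hψ : ψ = 0 := by
        rcases LinearMap.bijective_or_eq_zero ψ with h | h
        · exact ((hne j i hji).false (LinearEquiv.ofBijective ψ h)).elim
        · exact h
      exact LinearMap.congr_fun hψ x
    let θ : Module.End A (S i) := LinearMap.proj i ∘ₗ φ ∘ₗ LinearMap.single A S i
    obtain ⟨b, hb⟩ := (IsSimpleModule.algebraMap_end_bijective_of_isAlgClosed (A := A) (V := S i) k).2 θ
    refine ⟨b, fun m => ?_⟩
    have h2 : m = ∑ j, Pi.single j (m j) := (Finset.univ_sum_single m).symm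
    conv_lhs => rw [h2, map_sum, Finset.sum_apply]
    rw [Finset.sum_eq_single i]
    · have h3 : θ (m i) = φ (Pi.single i (m i)) i := rfl
      rw [← h3, ← hb]; rfl
    · intro j _ hj
      exact h1 j _ hj
    · intro h; exact absurd (Finset.mem_univ _) h
  -- choose a rank one idempotent on S i0
  haveI : Nontrivial (S i0) := IsSimpleModule.nontrivial A (S i0)
  obtain ⟨v, hv⟩ := exists_ne (0 : S i0)
  obtain ⟨φ, hφ⟩ : ∃ φ : S i0 →ₗ[k] k, φ v = 1 := by
    have h1 : v ∉ (⊥ : Submodule k (S i0)) := by rw [Submodule.mem_bot]; exact hv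
    obtain ⟨φ0, h0, -⟩ := Submodule.exists_le_ker_of_notMem h1
    exact ⟨(φ0 v)⁻¹ • φ0, by
      show (φ0 v)⁻¹ * φ0 v = 1
      exact inv_mul_cancel₀ h0⟩
  let f : Module.End (Module.End A (∀ i, S i)) (∀ i, S i) :=
    { toFun := fun m => Pi.single i0 (φ (m i0) • v)
      map_add' := by
        intro m m'
        rw [← Pi.single_add, ← add_smul, ← map_add]; rfl
      map_smul' := by
        intro ψ m
        obtain ⟨b, hb⟩ := hdiag ψ i0
        show Pi.single i0 (φ (ψ m i0) • v) = ψ (Pi.single i0 (φ (m i0) • v))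
        rw [hb m]
        funext j
        by_cases hj : j = i0
        · subst hj
          rw [hb, Pi.single_eq_same, Pi.single_eq_same, map_smul, smul_assoc]
        · obtain ⟨b', hb'⟩ := hdiag ψ j
          rw [hb', Pi.single_eq_of_ne hj, Pi.single_eq_of_ne hj, smul_zero] }
  obtain ⟨s, hs⟩ : ∃ s : Finset (∀ i, S i), Submodule.span k (s : Set (∀ i, S i)) = ⊤ :=
    (Module.finite_def (R := k) (M := ∀ i, S i)).1 inferInstance
  obtain ⟨r, hr⟩ := jacobson_density f s
  have hall : ∀ m : (∀ i, S i), f m = r • m := by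
    intro m
    have hm : m ∈ Submodule.span k (s : Set (∀ i, S i)) := by rw [hs]; trivial
    induction hm using Submodule.span_induction with
    | mem x hx => exact hr x hx
    | zero => rw [map_zero, smul_zero]
    | add x y _ _ hx hy => rw [map_add, hx, hy, smul_add]
    | smul b x _ hx =>
      have h1 : f (b • x) = b • f x := by
        show Pi.single i0 (φ ((b • x) i0) • v) = b • Pi.single i0 (φ (x i0) • v)
        rw [← Pi.single_smul, Pi.smul_apply, map_smul, smul_assoc]
      rw [h1, hx, smul_comm]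
  have hr0 : ∀ x : S i0, r • x = φ x • v := by
    intro x
    have h1 := congrFun (hall (Pi.single i0 x)) i0
    rw [Pi.smul_apply, Pi.single_eq_same] at h1
    rw [← h1]
    show (Pi.single i0 (φ ((Pi.single i0 x : ∀ i, S i) i0) • v) : ∀ i, S i) i0 = _
    rw [Pi.single_eq_same, Pi.single_eq_same]
  have hrj : ∀ j, j ≠ i0 → ∀ x : S j, r • x = 0 := by
    intro j hj x
    have h1 := congrFun (hall (Pi.single j x)) j
    rw [Pi.smul_apply, Pi.single_eq_same] at h1
    rw [← h1]
    show (Pi.single i0 (φ ((Pi.single j x : ∀ i, S i) i0) • v) : ∀ i, S i) j = _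
    rw [Pi.single_eq_of_ne hj]
  have h2 := hc r
  rw [Finset.sum_eq_single i0] at h2
  · have h3 : Algebra.lsmul k k (S i0) r = φ.smulRight v := by
      ext x
      exact hr0 x
    rw [h3, LinearMap.trace_smulRight, hφ, mul_one] at h2
    exact h2
  · intro j _ hj
    have h3 : Algebra.lsmul k k (S j) r = 0 := by
      ext x
      exact hrj j hj x
    rw [h3, map_zero, mul_zero]
  · intro h; exact absurd (Finset.mem_univ _) h

end Cfsg.Agent.H9.BrMod3
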