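import Mathlib
import Cfsg.Agent.H9_BrMod3
import Cfsg.Agent.H10_RegPart

/-!
H9_BrMod4: the family of trace functions of simple modules attached to weights.
-/

set_option autoImplicit false
set_option linter.unusedSectionVars false

namespace Cfsg.Agent.H9.BrMod4

open Module Cfsg.Agent.H9.BrMod Cfsg.Agent.H9.BrMod2 Cfsg.Agent.H9.BrMod3 Cfsg.Agent.H10.RegPart

variable {k : Type*} [Field k] {G : Type*} [Group G] [Fintype G]

theorem sum_cosets {H : Type*} [Group H] [Fintype H] (Q : Subgroup H) [Fintype Q]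
    [Fintype (H ⧸ Q)] {M : Type*} [AddCommMonoid M] (F : H → M) :
    ∑ h, F h = ∑ c : H ⧸ Q, ∑ y : Q, F (c.out * y) := by
  rw [← Fintype.sum_prod_type']
  symm
  refine Fintype.sum_bijective (fun x : (H ⧸ Q) × Q => x.1.out * (x.2 : H)) ⟨?_, ?_⟩ _ _ (fun x => rfl)
  · rintro ⟨c, y⟩ ⟨c', y'⟩ h
    simp only at h
    have h1 : ((c.out * (y : H) : H) : H ⧸ Q) = ((c'.out * (y' : H) : H) : H ⧸ Q) := by rw [h]
    have h2 : ∀ (d : H ⧸ Q) (z : Q), ((d.out * (z : H) : H) : H ⧸ Q) = d := by
      intro d z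
      rw [QuotientGroup.mk_mul_of_mem _ z.2, QuotientGroup.out_eq']
    rw [h2, h2] at h1
    subst h1
    have h3 := mul_left_cancel h
    exact Prod.ext rfl (Subtype.ext h3)
  · intro h
    refine ⟨⟨(h : H ⧸ Q), ⟨(h : H ⧸ Q).out⁻¹ * h, ?_⟩⟩, ?_⟩
    · rw [← QuotientGroup.eq, QuotientGroup.out_eq']
    · simp

section rep

variable (S : Type*) [AddCommGroup S] [Module (MonoidAlgebra k G) S] [Module k S]
  [IsScalarTower k (MonoidAlgebra k G) S]

/-- the representation on a module over the group algebra -/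
noncomputable def rep : G →* Module.End k S where
  toFun g := Algebra.lsmul k k S (MonoidAlgebra.single g (1:k))
  map_one' := by
    rw [← MonoidAlgebra.one_def, map_one]
  map_mul' g h := by
    rw [← map_mul, MonoidAlgebra.single_mul_single, mul_one]

theorem rep_apply (g : G) (s : S) : rep (k := k) S g s = MonoidAlgebra.single g (1:k) • s := rfl

theorem lsmul_eq_sum (a : MonoidAlgebra k G) :
    (Algebra.lsmul k k S a : Module.End k S) = ∑ g : G, a.coeff g • rep (k := k) S g := by
  classical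
  have h1 : a = ∑ g : G, a.coeff g • MonoidAlgebra.single g (1:k) := by
    ext x
    rw [MonoidAlgebra.coeff_sum, Finsupp.finsetSum_apply, Finset.sum_eq_single x]
    · rw [MonoidAlgebra.coeff_smul_apply, MonoidAlgebra.coeff_single, Finsupp.single_eq_same,
        smul_eq_mul, mul_one]
    · intro y _ hy
      rw [MonoidAlgebra.coeff_smul_apply, MonoidAlgebra.coeff_single, Finsupp.single_apply,
        if_neg hy, smul_zero]
    · intro h; exact absurd (Finset.mem_univ _) h
  conv_lhs => rw [h1]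
  rw [map_sum]
  refine Finset.sum_congr rfl fun g _ => ?_
  rw [map_smul]; rfl

theorem schur [IsAlgClosed k] [FiniteDimensional k S] [IsSimpleModule (MonoidAlgebra k G) S]
    (T : Module.End k S) (hT : ∀ g, rep (k := k) (G := G) S g * T = T * rep (k := k) S g) :
    ∃ c : k, ∀ s, T s = c • s := by
  have h1 : ∀ (a : MonoidAlgebra k G) (s : S), T (a • s) = a • T s := by
    intro a s
    have h2 : (Algebra.lsmul k k S a : Module.End k S) * T = T * Algebra.lsmul k k S a := by
      rw [lsmul_eq_sum, Finset.sum_mul, Finset.mul_sum]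
      refine Finset.sum_congr rfl fun g _ => ?_
      rw [smul_mul_assoc, hT, mul_smul_comm]
    exact (LinearMap.congr_fun h2 s).symm
  let T' : Module.End (MonoidAlgebra k G) S :=
    { toFun := T
      map_add' := T.map_add
      map_smul' := h1 }
  obtain ⟨c, hc⟩ := (IsSimpleModule.algebraMap_end_bijective_of_isAlgClosed
    (A := MonoidAlgebra k G) (V := S) k).2 T'
  refine ⟨c, fun s => ?_⟩
  have h3 := LinearMap.congr_fun hc s
  exact h3.symm

theorem B_smul (w : G → k) (N : Subgroup G) [Fintype N] (s : S) :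
    B w N • s = ∑ n : N, w (n : G)⁻¹ • rep (k := k) S (n : G) s := by
  unfold B
  rw [Finset.sum_smul]
  refine Finset.sum_congr rfl fun n _ => ?_
  have : MonoidAlgebra.single (n : G) (w (n : G)⁻¹) = w (n : G)⁻¹ • MonoidAlgebra.single (n : G) (1:k) := by
    rw [MonoidAlgebra.smul_single, smul_eq_mul, mul_one]
  rw [this, smul_assoc]; rfl

/-- a trace over `P` of a weight vector is a weighted trace over `N` -/
theorem trace_to_B {p : ℕ} [CharP k p] {P N : Subgroup G} [Fintype P] [Fintype N] (hPN : P ≤ N)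
    (hidx : ¬ p ∣ P.relIndex N) {w : G → k} (hw1 : w 1 = 1)
    (hw : ∀ n ∈ N, ∀ m ∈ N, w (n * m) = w n * w m) (hwP : ∀ y ∈ P, w y = 1) {v : S}
    (hv : ∀ n ∈ N, rep (k := k) S n v = w n • v) (u : S) (hu : ∑ y : P, rep (k := k) S (y : G) u = v) :
    ∃ u', B w N • u' = v := by
  classical
  haveI : Fintype (N ⧸ P.subgroupOf N) := Fintype.ofFinite _
  haveI : Fintype (P.subgroupOf N) := Fintype.ofFinite _
  have h1 : B w N • u = (Fintype.card (N ⧸ P.subgroupOf N)) • v := by
    rw [B_smul]
    rw [sum_cosets (P.subgroupOf N)]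
    have h2 : ∀ c : N ⧸ P.subgroupOf N, ∑ y : P.subgroupOf N,
        w ((c.out * (y : N) : N) : G)⁻¹ • rep (k := k) S ((c.out * (y : N) : N) : G) u = v := by
      intro c
      have h3 : ∀ y : P.subgroupOf N, ((c.out * (y : N) : N) : G) = ((c.out : N) : G) * ((y : N) : G) :=
        fun y => rfl
      have h4 : ∀ y : P.subgroupOf N, ((y : N) : G) ∈ P := fun y => Subgroup.mem_subgroupOf.1 y.2
      have h5 : ∀ y : P.subgroupOf N, w ((c.out * (y : N) : N) : G)⁻¹ •
          rep (k := k) S ((c.out * (y : N) : N) : G) u = w ((c.out : N) : G)⁻¹ •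
            rep (k := k) S ((c.out : N) : G) (rep (k := k) S ((y : N) : G) u) := by
        intro y
        rw [h3, mul_inv_rev, hw _ (N.inv_mem (hPN (h4 y))) _ (N.inv_mem c.out.2),
          hwP _ (P.inv_mem (h4 y)), one_mul, map_mul]
        rfl
      rw [Finset.sum_congr rfl fun y _ => h5 y, ← Finset.smul_sum, ← map_sum]
      have h6 : ∑ y : P.subgroupOf N, rep (k := k) S ((y : N) : G) u = ∑ y : P, rep (k := k) S (y : G) u :=
        Fintype.sum_equiv (Subgroup.subgroupOfEquivOfLe hPN).toEquiv _ _ (fun y => rfl)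
      rw [h6, hu, hv _ c.out.2, smul_smul, ← hw _ (N.inv_mem c.out.2) _ c.out.2, inv_mul_cancel, hw1,
        one_smul]
    rw [Finset.sum_congr rfl fun c _ => h2 c, Finset.sum_const, Finset.card_univ]
  have h2 : ((Fintype.card (N ⧸ P.subgroupOf N) : ℕ) : k) ≠ 0 := by
    intro h
    rw [CharP.cast_eq_zero_iff k p] at h
    apply hidx
    rw [← Nat.card_eq_fintype_card] at h
    exact h
  refine ⟨((Fintype.card (N ⧸ P.subgroupOf N) : ℕ) : k)⁻¹ • u, ?_⟩
  rw [smul_comm, h1, ← Nat.cast_smul_eq_nsmul k, smul_smul, inv_mul_cancel₀ h2, one_smul]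

end rep

end Cfsg.Agent.H9.BrMod4
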