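import Mathlib
import Cfsg.Agent.H9_BrMod4

/-!
H9_BrMod5: the family of trace functions of simple modules attached to weights.
-/

set_option autoImplicit false
set_option linter.unusedSectionVars false

namespace Cfsg.Agent.H9.BrMod5

open Module Cfsg.Agent.H9.BrMod Cfsg.Agent.H9.BrMod2 Cfsg.Agent.H9.BrMod3 Cfsg.Agent.H9.BrMod4
  Cfsg.Agent.H10.RegPart

variable {k : Type*} [Field k] {G : Type*} [Group G] [Fintype G]

theorem trace_ppr {p : ℕ} [hp : Fact p.Prime] [CharP k p] {S : Type*} [AddCommGroup S] [Module k S]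
    [FiniteDimensional k S] (ρ : G →* Module.End k S) (g : G) :
    LinearMap.trace k S (ρ g) = LinearMap.trace k S (ρ (ppr p g)) := by
  obtain ⟨x, h1, h2, ⟨m, hm⟩, h4⟩ := ppr_spec (p := p) g
  have hx : ((ρ x - 1 : Module.End k S)) ^ (p ^ m) = 0 := by
    haveI : CharP (Module.End k S) p ∨ Subsingleton S := by
      by_cases h : Subsingleton S
      · exact Or.inr h
      · left
        haveI : Nontrivial S := not_subsingleton_iff_nontrivial.1 h
        haveI : Nontrivial (Module.End k S) := inferInstance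
        exact charP_of_injective_algebraMap (algebraMap k (Module.End k S)).injective p
    rcases this with h | h
    · rw [sub_pow_char_pow_of_commute (p := p) _ (Commute.one_right _), ← map_pow, ← hm,
        pow_orderOf_eq_one, map_one, one_pow, sub_self]
    · ext s
      exact Subsingleton.elim _ _
  have hc : Commute (ρ x - 1) (ρ (ppr p g)) := by
    have : Commute (ρ x) (ρ (ppr p g)) := h2.map ρ
    exact this.sub_left (Commute.one_left _)
  have hnil : IsNilpotent ((ρ x - 1) * ρ (ppr p g)) := ⟨p ^ m, by rw [hc.mul_pow, hx, zero_mul]⟩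
  have h5 : LinearMap.trace k S ((ρ x - 1) * ρ (ppr p g)) = 0 :=
    (LinearMap.isNilpotent_trace_of_isNilpotent hnil).eq_zero
  rw [sub_mul, one_mul, map_sub, ← map_mul, h1, sub_eq_zero] at h5
  exact h5

theorem trace_conj' {S : Type*} [AddCommGroup S] [Module k S]
    [FiniteDimensional k S] (ρ : G →* Module.End k S) (a g : G) :
    LinearMap.trace k S (ρ (a * g * a⁻¹)) = LinearMap.trace k S (ρ g) := by
  have e : ρ (a * g * a⁻¹) = ρ a * ρ g * ρ a⁻¹ := by rw [map_mul, map_mul]
  have e2 : ρ a⁻¹ * ρ a = 1 := by rw [← map_mul, inv_mul_cancel, map_one]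
  rw [e, LinearMap.trace_mul_comm, ← mul_assoc, e2, one_mul]

theorem central_trace {S : Type*} [AddCommGroup S] [Module k S]
    [FiniteDimensional k S] (ρ : G →* Module.End k S) (f : G → k) (c : k)
    (hc : ∀ s, (∑ g, f g • ρ g) s = c • s) (x : G) :
    ∑ g, f g * LinearMap.trace k S (ρ (g * x)) = c * LinearMap.trace k S (ρ x) := by
  have h2 : (∑ g, f g • ρ g) * ρ x = c • ρ x := by
    ext s
    exact hc _
  have h3 := congrArg (LinearMap.trace k S) h2
  rw [Finset.sum_mul, map_sum, map_smul, smul_eq_mul] at h3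
  rw [← h3]
  refine Finset.sum_congr rfl fun g _ => ?_
  have e : ρ (g * x) = ρ g * ρ x := map_mul _ _ _
  rw [e, smul_mul_assoc, map_smul, smul_eq_mul]

theorem family {p : ℕ} [hp : Fact p.Prime] [CharP k p] [IsAlgClosed k] {P : Subgroup G}
    (hP : Nat.card P = p) (hidx : ¬ p ∣ P.index) {ι : Type*} [Fintype ι] (W : ι → G → k)
    (hWm : ∀ i, ∀ n ∈ Subgroup.normalizer (P : Set G), ∀ m ∈ Subgroup.normalizer (P : Set G), W i (n * m) = W i n * W i m)
    (hWC : ∀ i, ∀ n ∈ Subgroup.centralizer (P : Set G), W i n = 1)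
    (hWne : ∀ i j, i ≠ j → ∃ n ∈ Subgroup.normalizer (P : Set G), W i n ≠ W j n) :
    ∃ T : ι → G → k, (∀ c : ι → k, (∀ g, ∑ i, c i * T i g = 0) → ∀ i, c i = 0) ∧
      (∀ i a g, T i (a * g * a⁻¹) = T i g) ∧ (∀ i g, T i g = T i (ppr p g)) ∧
      (∀ i (f : G → k), (∀ a g, f (a * g * a⁻¹) = f g) → ∀ x,
        ∑ g, f g * T i (g * x) = (∑ g, f g) * T i x) := by
  classical
  haveI : Fintype P := Fintype.ofFinite _
  set N := Subgroup.normalizer (P : Set G) with hN
  haveI : Fintype N := Fintype.ofFinite _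
  have hPN : P ≤ N := Subgroup.le_normalizer
  haveI : IsCyclic P := isCyclic_of_prime_card hP
  have hPC : P ≤ Subgroup.centralizer (P : Set G) := by
    intro y hy
    rw [Subgroup.mem_centralizer_iff]
    intro z hz
    letI : CommGroup P := IsCyclic.commGroup
    exact congrArg Subtype.val (mul_comm (⟨z, hz⟩ : P) ⟨y, hy⟩)
  have hrel : ¬ p ∣ P.relIndex N := fun h => hidx (h.trans (Subgroup.relIndex_dvd_index_of_le hPN))
  have hpN : p ∣ Nat.card N := by
    rw [← hP]; exact Subgroup.card_dvd_of_le hPN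
  have hW1 : ∀ i, W i 1 = 1 := fun i => hWC i 1 (Subgroup.one_mem _)
  have hWP : ∀ i, ∀ y ∈ P, W i y = 1 := fun i y hy => hWC i y (hPC hy)
  have hex := fun i => exists_simple (k := k) (p := p) hpN (hW1 i) (hWm i)
  choose I hIs v hvw hvB using hex
  haveI : ∀ i, IsSimpleModule (MonoidAlgebra k G) (MonoidAlgebra k G ⧸ I i) := hIs
  haveI hfin : ∀ i, FiniteDimensional k (MonoidAlgebra k G ⧸ I i) := by
    intro i
    exact Module.Finite.of_surjective ((Submodule.mkQ (I i)).restrictScalars k)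
      (Submodule.mkQ_surjective _)
  have hv' : ∀ i, ∀ n ∈ N, rep (k := k) (MonoidAlgebra k G ⧸ I i) n (v i) = W i n • v i := fun i n hn => hvw i n hn
  have hvP : ∀ i, ∀ u, ∑ y : P, rep (k := k) (MonoidAlgebra k G ⧸ I i) (y : G) u ≠ v i := by
    intro i u hu
    obtain ⟨u', hu'⟩ := trace_to_B (p := p) (S := MonoidAlgebra k G ⧸ I i) hPN hrel (hW1 i) (hWm i) (hWP i)
      (hv' i) u hu
    exact hvB i u' hu'
  have hsch : ∀ i (T : Module.End k (MonoidAlgebra k G ⧸ I i)),
      (∀ g, rep (k := k) (G := G) (MonoidAlgebra k G ⧸ I i) g * T = T * rep (k := k) (MonoidAlgebra k G ⧸ I i) g) →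
      ∃ c : k, ∀ s, T s = c • s := fun i T hT => schur (MonoidAlgebra k G ⧸ I i) T hT
  have hnoniso : ∀ i j, i ≠ j →
      IsEmpty ((MonoidAlgebra k G ⧸ I i) ≃ₗ[MonoidAlgebra k G] (MonoidAlgebra k G ⧸ I j)) := by
    intro i j hij
    refine ⟨fun e => ?_⟩
    obtain ⟨n, hn, hne⟩ := hWne i j hij
    apply hne
    have hek : ∀ (c : k) s, e.symm (c • s) = c • e.symm s := by
      intro c s
      have h1 : ∀ (J : Submodule (MonoidAlgebra k G) (MonoidAlgebra k G)) (s : MonoidAlgebra k G ⧸ J),
          c • s = (MonoidAlgebra.single (1:G) c) • s := by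
        intro J s
        have : MonoidAlgebra.single (1:G) c = c • (1 : MonoidAlgebra k G) := by
          rw [MonoidAlgebra.one_def, MonoidAlgebra.smul_single, smul_eq_mul, mul_one]
        rw [this, smul_assoc, one_smul]
      rw [h1, map_smul, ← h1]
    refine weight_unique (V := MonoidAlgebra k G ⧸ I i) hP hidx (rep (k := k) (MonoidAlgebra k G ⧸ I i)) (hsch i)
      (hW1 i) (hW1 j) (hWm i) (hWm j) (hWP i) (hWP j) (v := v i) (v' := e.symm (v j)) (hv' i) ?_
      (hvP i) ?_ n hn
    · intro m hm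
      rw [rep_apply, ← map_smul, hvw j m hm, hek]
    · intro u hu
      apply hvP j (e u)
      have h2 : ∀ y : P, rep (k := k) (MonoidAlgebra k G ⧸ I j) (y : G) (e u) =
          e (rep (k := k) (MonoidAlgebra k G ⧸ I i) (y : G) u) := by
        intro y
        rw [rep_apply, rep_apply, map_smul]
      rw [Finset.sum_congr rfl fun y _ => h2 y, ← map_sum, hu, LinearEquiv.apply_symm_apply]
  refine ⟨fun i g => LinearMap.trace k _ (rep (k := k) (MonoidAlgebra k G ⧸ I i) g), ?_, ?_, ?_, ?_⟩
  · intro c hc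
    refine trace_indep (k := k) (A := MonoidAlgebra k G) (fun i => MonoidAlgebra k G ⧸ I i) hnoniso c ?_
    intro a
    have h1 : ∀ i, c i * LinearMap.trace k (MonoidAlgebra k G ⧸ I i) (Algebra.lsmul k k (MonoidAlgebra k G ⧸ I i) a) =
        ∑ g : G, a.coeff g * (c i * LinearMap.trace k _ (rep (k := k) (MonoidAlgebra k G ⧸ I i) g)) := by
      intro i
      rw [lsmul_eq_sum, map_sum, Finset.mul_sum]
      refine Finset.sum_congr rfl fun g _ => ?_
      rw [map_smul, smul_eq_mul]; ring
    rw [Finset.sum_congr rfl fun i _ => h1 i, Finset.sum_comm]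
    apply Finset.sum_eq_zero
    intro g _
    rw [← Finset.mul_sum, hc g, mul_zero]
  · intro i a g
    exact trace_conj' (rep (k := k) (MonoidAlgebra k G ⧸ I i)) a g
  · intro i g
    exact trace_ppr (rep (k := k) (MonoidAlgebra k G ⧸ I i)) g
  · intro i f hf x
    simp only
    obtain ⟨c, hc⟩ := hsch i (∑ g, f g • rep (k := k) (MonoidAlgebra k G ⧸ I i) g) (by
      intro h
      rw [Finset.mul_sum, Finset.sum_mul]
      refine Fintype.sum_equiv (MulAut.conj h).toEquiv _ _ (fun g => ?_)
      show _ = (f (h * g * h⁻¹) • rep (k := k) (MonoidAlgebra k G ⧸ I i) (h * g * h⁻¹)) *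
        rep (k := k) (MonoidAlgebra k G ⧸ I i) h
      rw [hf, smul_mul_assoc, mul_smul_comm, ← map_mul, ← map_mul]
      congr 2
      group)
    obtain ⟨u, hu⟩ := central_scalar (V := MonoidAlgebra k G ⧸ I i) (p := p) hP
      (rep (k := k) (MonoidAlgebra k G ⧸ I i)) hf (v := v i) (by
        intro n hn
        have hnN : n ∈ N := by
          rw [hN]
          exact Subgroup.centralizer_le_normalizer _ hn
        rw [hv' i n hnN, hWC i n hn, one_smul]) hPC
    have h1 : c = ∑ g, f g := by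
      by_contra hne2
      have h2 := hc (v i)
      rw [LinearMap.sum_apply] at h2
      simp only [LinearMap.smul_apply] at h2
      rw [hu] at h2
      have h3 : (c - ∑ g, f g) • v i = ∑ y : P, rep (k := k) (MonoidAlgebra k G ⧸ I i) (y : G) u := by
        rw [sub_smul, ← h2]; abel
      apply hvP i ((c - ∑ g, f g)⁻¹ • u)
      have h4 : ∀ y : P, rep (k := k) (MonoidAlgebra k G ⧸ I i) (y : G) ((c - ∑ g, f g)⁻¹ • u) =
        (c - ∑ g, f g)⁻¹ • rep (k := k) (MonoidAlgebra k G ⧸ I i) (y : G) u := fun y => map_smul _ _ _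
      rw [Finset.sum_congr rfl fun y _ => h4 y, ← Finset.smul_sum, ← h3, smul_smul,
        inv_mul_cancel₀ (sub_ne_zero.2 hne2), one_smul]
    rw [← h1]
    exact central_trace (rep (k := k) (MonoidAlgebra k G ⧸ I i)) f c hc x

end Cfsg.Agent.H9.BrMod5
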