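import Mathlib
import Cfsg.Prelude.Def_Blocks
import Cfsg.Agent.H10_BlockHZ
import Cfsg.Agent.H10_RegPart

/-!
H9_BrRed: reduction of algebraic integers modulo M; the span of reduced characters.
-/

set_option autoImplicit false
set_option linter.unusedSectionVars false

namespace Cfsg.Agent.H9.BrRed

open Cfsg Cfsg.Agent.H3.CharIrr Cfsg.Agent.H3.CharComplete Cfsg.Agent.H3.CharInd
  Cfsg.Agent.H3.CharBasic Cfsg.Agent.H10.BlockLoc Cfsg.Agent.H10.Char Cfsg.Agent.H10.PPart
  Cfsg.Agent.H10.BlockAlg Cfsg.Agent.H10.BlockIdem Cfsg.Agent.H10.BlockHZ Cfsg.Agent.H10.RegPart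
  Cfsg.Agent.H25.Brauer
open scoped ComplexConjugate

section rd

variable {p : ℕ} (M : Ideal AlgInt)

open Classical in
/-- reduction of an algebraic integer -/
noncomputable def rd (z : ℂ) : AlgInt ⧸ M :=
  if h : IsIntegral ℤ z then Ideal.Quotient.mk M ⟨z, h⟩ else 0

theorem rd_eq {z : ℂ} (h : IsIntegral ℤ z) : rd M z = Ideal.Quotient.mk M ⟨z, h⟩ := by
  rw [rd, dif_pos h]

theorem rd_add {z w : ℂ} (hz : IsIntegral ℤ z) (hw : IsIntegral ℤ w) : rd M (z + w) = rd M z + rd M w := by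
  rw [rd_eq M hz, rd_eq M hw, rd_eq M (hz.add hw), ← map_add]; rfl

theorem rd_mul {z w : ℂ} (hz : IsIntegral ℤ z) (hw : IsIntegral ℤ w) : rd M (z * w) = rd M z * rd M w := by
  rw [rd_eq M hz, rd_eq M hw, rd_eq M (hz.mul hw), ← map_mul]; rfl

theorem rd_sum {ι : Type*} (s : Finset ι) {f : ι → ℂ} (h : ∀ i ∈ s, IsIntegral ℤ (f i)) :
    rd M (∑ i ∈ s, f i) = ∑ i ∈ s, rd M (f i) := by
  classical
  induction s using Finset.induction_on with
  | empty =>
    rw [Finset.sum_empty, Finset.sum_empty, rd_eq M isIntegral_zero]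
    exact map_zero _
  | insert a s ha ih =>
    rw [Finset.sum_insert ha, Finset.sum_insert ha, rd_add M (h a (Finset.mem_insert_self _ _))
      (IsIntegral.sum _ fun i hi => h i (Finset.mem_insert_of_mem hi)),
      ih fun i hi => h i (Finset.mem_insert_of_mem hi)]

theorem isIntegral_intCast' (n : ℤ) : IsIntegral ℤ (n : ℂ) := by
  have := isIntegral_algebraMap (R := ℤ) (A := ℂ) (x := n)
  simpa using this

theorem isIntegral_natCast' (n : ℕ) : IsIntegral ℤ (n : ℂ) := by
  simpa using isIntegral_intCast' (n : ℤ)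

theorem rd_intCast (n : ℤ) : rd M (n : ℂ) = (n : AlgInt ⧸ M) := by
  rw [rd_eq M (isIntegral_intCast' n)]
  have : (⟨(n : ℂ), isIntegral_intCast' n⟩ : AlgInt) = (n : AlgInt) := rfl
  rw [this, map_intCast]

theorem rd_natCast (n : ℕ) : rd M (n : ℂ) = (n : AlgInt ⧸ M) := by
  simpa using rd_intCast M (n : ℤ)

theorem rd_zero : rd M 0 = 0 := by simpa using rd_natCast M 0

theorem rd_one : rd M 1 = 1 := by simpa using rd_natCast M 1

theorem rd_eq_zero_iff [M.IsMaximal] {z : ℂ} (h : IsIntegral ℤ z) : rd M z = 0 ↔ MemLocalIdeal M z := by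
  rw [rd_eq M h, Ideal.Quotient.eq_zero_iff_mem, ← algInt_mem_ideal_iff]

theorem rd_eq_iff [M.IsMaximal] {z w : ℂ} (hz : IsIntegral ℤ z) (hw : IsIntegral ℤ w) :
    rd M z = rd M w ↔ MemLocalIdeal M (z - w) := by
  rw [← rd_eq_zero_iff M (hz.sub hw), ← sub_eq_zero]
  have : rd M (z - w) = rd M z - rd M w := by
    have h1 : rd M (z - w + w) = rd M (z - w) + rd M w := rd_add M (hz.sub hw) hw
    rw [sub_add_cancel] at h1
    rw [h1]; ring
  rw [this]

/-- the residue field of the algebraic integers is algebraically closed -/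
theorem isAlgClosed_residue [hM : M.IsMaximal] :
    @IsAlgClosed (AlgInt ⧸ M) (Ideal.Quotient.field M) := by
  letI : Field (AlgInt ⧸ M) := Ideal.Quotient.field M
  refine IsAlgClosed.of_exists_root _ fun q hq _ => ?_
  have hlift : q ∈ Polynomial.lifts (Ideal.Quotient.mk M) := by
    rw [Polynomial.lifts_iff_coeff_lifts]
    intro n
    exact Ideal.Quotient.mk_surjective _
  obtain ⟨Q, hQ1, hQ2, hQ3⟩ := Polynomial.lifts_and_degree_eq_and_monic hlift hq
  have hdeg : (Q.map (algebraMap AlgInt ℂ)).degree ≠ 0 := by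
    rw [hQ3.degree_map, hQ2]
    intro h0
    have h1 : IsUnit q := by
      rw [Polynomial.isUnit_iff_degree_eq_zero]; exact h0
    exact ‹Irreducible q›.not_isUnit h1
  obtain ⟨z, hz⟩ := IsAlgClosed.exists_root _ hdeg
  have hzi : IsIntegral AlgInt z := by
    refine ⟨Q, hQ3, ?_⟩
    rw [Polynomial.IsRoot.def, Polynomial.eval_map] at hz
    exact hz
  have hzZ : IsIntegral ℤ z := isIntegral_trans (R := ℤ) (A := AlgInt) z hzi
  refine ⟨Ideal.Quotient.mk M ⟨z, hzZ⟩, ?_⟩
  rw [← hQ1, Polynomial.eval_map, Polynomial.eval₂_at_apply]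
  have h1 : Polynomial.eval (⟨z, hzZ⟩ : AlgInt) Q = 0 := by
    have h2 : algebraMap AlgInt ℂ (Polynomial.eval (⟨z, hzZ⟩ : AlgInt) Q) = 0 := by
      rw [← Polynomial.eval₂_at_apply, ← Polynomial.eval_map]
      exact hz
    exact Subtype.ext h2
  rw [h1, map_zero]

end rd

end Cfsg.Agent.H9.BrRed
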