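import Mathlib
import Cfsg.Agent.H9_BrRed
import Cfsg.Agent.H9_BrMod5

/-!
H9_BrCount: counting characters of the principal block through simple modules.
-/

set_option autoImplicit false
set_option linter.unusedSectionVars false

namespace Cfsg.Agent.H9.BrCount

open Cfsg Cfsg.Agent.H3.CharIrr Cfsg.Agent.H3.CharComplete Cfsg.Agent.H3.CharInd
  Cfsg.Agent.H3.CharBasic Cfsg.Agent.H10.BlockLoc Cfsg.Agent.H10.Char Cfsg.Agent.H10.PPart
  Cfsg.Agent.H10.BlockAlg Cfsg.Agent.H10.BlockIdem Cfsg.Agent.H10.BlockHZ Cfsg.Agent.H10.RegPart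
  Cfsg.Agent.H25.Brauer Cfsg.Agent.H9.BrRed
open scoped ComplexConjugate

variable {G : Type*} [Group G] [Fintype G] {p : ℕ} {M : Ideal AlgInt}

theorem irr_integral (χ : IrrCharacter G) (g : G) : IsIntegral ℤ ((χ : G → ℂ) g) :=
  IsChar.isIntegral (IsIrr.isCharacter χ.2) g

variable (M) in
/-- reduced character -/
noncomputable def bc (χ : IrrCharacter G) (g : G) : AlgInt ⧸ M := rd M ((χ : G → ℂ) g)

theorem bc_conj (χ : IrrCharacter G) (a g : G) : bc M χ (a * g * a⁻¹) = bc M χ g := by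
  unfold bc
  rw [irr_class χ.2]

theorem bc_ppr [hp : Fact p.Prime] (hM : IsPModular p M) (χ : IrrCharacter G) (g : G) :
    bc M χ g = bc M χ (ppr p g) := by
  haveI := hM.2.1
  obtain ⟨x, h1, h2, h3, h4⟩ := ppr_spec (p := p) g
  unfold bc
  rw [rd_eq_iff M (irr_integral χ _) (irr_integral χ _)]
  have := char_sub_mem hM (isChar_of_irr χ.2) h2 h3 h4
  rwa [h1] at this

theorem nfun_eq_zero [hp : Fact p.Prime] {x y : G} (hx : ¬ p ∣ orderOf x) (hy : ¬ p ∣ orderOf y)
    (hxy : ¬ IsConj x y) : nfun p x y = 0 := by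
  unfold nfun
  rw [ind_psi _ hx]
  have hemp : IsEmpty {t : G // x⁻¹ * (t⁻¹ * y * t) ∈ sylG (default : Sylow p (Subgroup.centralizer ({x} : Set G)))} := by
    refine ⟨fun ⟨t, ht⟩ => hxy ?_⟩
    have hc := sylG_comm _ ht
    have ho := sylG_orderOf _ ht
    have h1 : (x⁻¹ * (t⁻¹ * y * t)) * x = 1 * (t⁻¹ * y * t) := by
      have := hc.eq
      rw [← this]; group
    have hreg : ¬ p ∣ orderOf (t⁻¹ * y * t) := by
      have := orderOf_conj t⁻¹ y
      rw [inv_inv] at this
      rwa [this]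
    have h2 := (parts_unique h1 hc.symm (Commute.one_left _) ho ⟨0, by rw [orderOf_one, pow_zero]⟩ hx hreg).2
    rw [h2]
    exact (isConj_iff.2 ⟨t⁻¹, by rw [inv_inv]⟩ : IsConj y (t⁻¹ * y * t)).symm
  rw [Nat.card_of_isEmpty]
  simp

/-- every function on the p-regular classes is a combination of reduced characters -/
theorem mem_span [hp : Fact p.Prime] (hM : IsPModular p M) [Fintype (IrrCharacter G)]
    (T : G → AlgInt ⧸ M) (hTc : ∀ a g, T (a * g * a⁻¹) = T g) (hTp : ∀ g, T g = T (ppr p g)) :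
    ∃ c : IrrCharacter G → AlgInt ⧸ M, ∀ g, T g = ∑ χ, c χ * bc M χ g := by
  classical
  haveI := hM.2.1
  haveI := charP_of hM
  letI : Field (AlgInt ⧸ M) := Ideal.Quotient.field M
  haveI : Fintype (ConjClasses G) := Fintype.ofFinite _
  let c0 : G → IrrCharacter G → AlgInt ⧸ M := fun x χ => rd M (classInner (nfun p x) (χ : G → ℂ))
  have hN : ∀ x : G, ¬ p ∣ orderOf x → ∀ g, rd M (nfun p x g) = ∑ χ, c0 x χ * bc M χ g := by
    intro x hx g
    have h1 := nfun_intSpan (p := p) hx
    rw [expand_apply (nfun p x) h1.1 g, rd_sum M _ fun (χ : IrrCharacter G) _ => (h1.2 _ χ.2).mul (irr_integral χ g)]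
    exact Finset.sum_congr rfl fun (χ : IrrCharacter G) _ => rd_mul M (h1.2 _ χ.2) (irr_integral χ g)
  have hN0 : ∀ x : G, ¬ p ∣ orderOf x → rd M (nfun p x x) ≠ 0 := by
    intro x hx
    obtain ⟨n, hn, hpn⟩ := ind_psi_coprime (default : Sylow p (Subgroup.centralizer ({x} : Set G))) hx 1
      ⟨0, by rw [orderOf_one, pow_zero]⟩ (Commute.one_right x)
    rw [mul_one] at hn
    have : nfun p x x = n := hn
    rw [this, rd_natCast]
    intro h
    rw [CharP.cast_eq_zero_iff _ p] at h
    exact hpn h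
  have hNc : ∀ x : G, ¬ p ∣ orderOf x → ∀ y, IsConj x y → nfun p x y = nfun p x x := by
    intro x hx y hxy
    exact (IsClass.eq_of_isConj (nfun_intSpan (p := p) hx).1 hxy).symm
  refine ⟨fun χ => ∑ C : ConjClasses G, if p ∣ orderOf (rep C) then 0 else
    T (rep C) * (rd M (nfun p (rep C) (rep C)))⁻¹ * c0 (rep C) χ, fun g => ?_⟩
  have h1 : ∑ χ : IrrCharacter G, (∑ C : ConjClasses G, if p ∣ orderOf (rep C) then 0 else
    T (rep C) * (rd M (nfun p (rep C) (rep C)))⁻¹ * c0 (rep C) χ) * bc M χ g =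
      ∑ C : ConjClasses G, if p ∣ orderOf (rep C) then 0 else
        T (rep C) * (rd M (nfun p (rep C) (rep C)))⁻¹ * rd M (nfun p (rep C) (ppr p g)) := by
    simp only [Finset.sum_mul]
    rw [Finset.sum_comm]
    refine Finset.sum_congr rfl fun C _ => ?_
    split_ifs with hC
    · simp
    · rw [hN _ hC (ppr p g), Finset.mul_sum]
      refine Finset.sum_congr rfl fun χ _ => ?_
      rw [← bc_ppr hM χ g]; ring
  rw [h1, Finset.sum_eq_single (ConjClasses.mk (ppr p g))]
  · have hreg := (ppr_spec (p := p) g).choose_spec.2.2.2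
    have hc : IsConj (rep (ConjClasses.mk (ppr p g))) (ppr p g) := isConj_rep _
    have hreg' : ¬ p ∣ orderOf (rep (ConjClasses.mk (ppr p g))) := by
      obtain ⟨a, ha⟩ := isConj_iff.1 hc
      rw [← ha, orderOf_conj] at hreg
      exact hreg
    rw [if_neg hreg', hNc _ hreg' _ hc, mul_assoc, inv_mul_cancel₀ (hN0 _ hreg'), mul_one, hTp g]
    obtain ⟨a, ha⟩ := isConj_iff.1 hc
    have h5 := hTc a (rep (ConjClasses.mk (ppr p g)))
    rw [ha] at h5
    exact h5
  · intro C _ hC
    split_ifs with h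
    · rfl
    · have hreg := (ppr_spec (p := p) g).choose_spec.2.2.2
      rw [nfun_eq_zero h hreg, rd_zero, mul_zero]
      intro hc
      apply hC
      rw [← mk_rep C]
      exact ConjClasses.mk_eq_mk_iff_isConj.2 hc
  · intro h; exact absurd (Finset.mem_univ _) h

/-- the action of class functions on reduced characters -/
theorem bc_central [hp : Fact p.Prime] (hM : IsPModular p M) (χ : IrrCharacter G) (g x : G) [DecidablePred (IsConj g)] :
    ∑ h : G, (if IsConj g h then (1 : AlgInt ⧸ M) else 0) * bc M χ (h * x) =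
      rd M (centralChar (χ : G → ℂ) g) * bc M χ x := by
  classical
  have h1 := lin_mul_om χ (cs g) (MonoidAlgebra.single x 1)
  rw [lin_single, one_mul, om_cs] at h1
  have h2 : lin (χ : G → ℂ) ((cs g : MonoidAlgebra ℂ G) * MonoidAlgebra.single x 1) =
      ∑ h : G, (if IsConj g h then (χ : G → ℂ) (h * x) else 0) := by
    rw [lin_mul]
    refine Finset.sum_congr rfl fun h _ => ?_
    rw [Finset.sum_eq_single x]
    · rw [cs_coeff, MonoidAlgebra.coeff_single, Finsupp.single_eq_same, mul_one, ite_mul, one_mul, zero_mul]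
      by_cases hh : IsConj g h
      · rw [if_pos hh, if_pos hh]
      · rw [if_neg hh, if_neg hh]
    · intro y _ hy
      rw [MonoidAlgebra.coeff_single, Finsupp.single_apply, if_neg (Ne.symm hy), mul_zero, zero_mul]
    · intro h; exact absurd (Finset.mem_univ _) h
  rw [h2] at h1
  have h3 : ∀ h : G, IsIntegral ℤ (if IsConj g h then (χ : G → ℂ) (h * x) else 0) := by
    intro h
    split_ifs
    · exact irr_integral χ _
    · exact isIntegral_zero
  have h4 := congrArg (rd M) h1
  rw [rd_sum M _ fun h _ => h3 h, rd_mul M (isIntegral_centralChar χ g) (irr_integral χ x)] at h4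
  rw [show bc M χ x = rd M ((χ : G → ℂ) x) from rfl, ← h4]
  refine Finset.sum_congr rfl fun h _ => ?_
  by_cases hh : IsConj g h
  · rw [if_pos hh, if_pos hh, one_mul]; rfl
  · rw [if_neg hh, if_neg hh, zero_mul, rd_zero]

end Cfsg.Agent.H9.BrCount
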