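import Mathlib
import Cfsg.Agent.H9_BrCount

/-!
H9_BrCount2: a lower bound for the number of characters of the principal block.
-/

set_option autoImplicit false
set_option linter.unusedSectionVars false

namespace Cfsg.Agent.H9.BrCount2

open Cfsg Cfsg.Agent.H3.CharIrr Cfsg.Agent.H3.CharComplete Cfsg.Agent.H3.CharInd
  Cfsg.Agent.H3.CharBasic Cfsg.Agent.H10.BlockLoc Cfsg.Agent.H10.Char Cfsg.Agent.H10.PPart
  Cfsg.Agent.H10.BlockAlg Cfsg.Agent.H10.BlockIdem Cfsg.Agent.H10.BlockHZ Cfsg.Agent.H10.RegPart
  Cfsg.Agent.H25.Brauer Cfsg.Agent.H9.BrRed Cfsg.Agent.H9.BrCount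
open scoped ComplexConjugate

variable {G : Type*} [Group G] [Fintype G] {p : ℕ} {M : Ideal AlgInt}

theorem centralChar_one (g : G) [DecidablePred (IsConj g)] :
    centralChar (fun _ : G => (1:ℂ)) g = ((Finset.univ.filter (IsConj g)).card : ℂ) := by
  unfold centralChar
  rw [card_class_eq_index]; simp

open Classical in
theorem span_principal [hp : Fact p.Prime] (hM : IsPModular p M) [Fintype (IrrCharacter G)]
    (T : G → AlgInt ⧸ M) (hTc : ∀ a g, T (a * g * a⁻¹) = T g) (hTp : ∀ g, T g = T (ppr p g))
    (hTe : ∀ f : G → AlgInt ⧸ M, (∀ a g, f (a * g * a⁻¹) = f g) → ∀ x,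
      ∑ g, f g * T (g * x) = (∑ g, f g) * T x) :
    ∃ c : IrrCharacter G → AlgInt ⧸ M, ∀ g, T g =
      ∑ χ, if χ ∈ principalBlock M G then c χ * bc M χ g else 0 := by
  haveI := hM.2.1
  haveI := charP_of hM
  letI : Field (AlgInt ⧸ M) := Ideal.Quotient.field M
  have key : ∀ s : Finset (IrrCharacter G), (∀ χ ∈ s, χ ∉ principalBlock M G) →
      (∃ c : IrrCharacter G → AlgInt ⧸ M, ∀ g, T g =
        ∑ χ, if χ ∈ principalBlock M G ∨ χ ∈ s then c χ * bc M χ g else 0) →
      ∃ c : IrrCharacter G → AlgInt ⧸ M, ∀ g, T g =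
        ∑ χ, if χ ∈ principalBlock M G then c χ * bc M χ g else 0 := by
    intro s
    induction s using Finset.induction_on with
    | empty =>
      rintro - ⟨c, hc⟩
      exact ⟨c, fun g => by rw [hc g]; simp⟩
    | insert χ0 s hχ0 ih =>
      rintro hs ⟨c, hc⟩
      have hn : ¬ SameBlock M (fun _ : G => (1:ℂ)) (χ0 : G → ℂ) := hs χ0 (Finset.mem_insert_self _ _)
      unfold SameBlock at hn
      push Not at hn
      obtain ⟨g0, hg0⟩ := hn
      let f : G → AlgInt ⧸ M := fun h => if IsConj g0 h then 1 else 0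
      have hf : ∀ a g, f (a * g * a⁻¹) = f g := by
        intro a g
        have : IsConj g0 (a * g * a⁻¹) ↔ IsConj g0 g :=
          ⟨fun h' => h'.trans (isConj_iff.mpr ⟨a, rfl⟩).symm, fun h' => h'.trans (isConj_iff.mpr ⟨a, rfl⟩)⟩
        simp only [f, this]
      have hsum : ∑ g, f g = rd M (centralChar (fun _ : G => (1:ℂ)) g0) := by
        rw [centralChar_one, rd_natCast]
        simp [f, Finset.sum_ite]
      set l1 := rd M (centralChar (fun _ : G => (1:ℂ)) g0) with hl1
      set l0 := rd M (centralChar (χ0 : G → ℂ) g0) with hl0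
      have hne : l1 - l0 ≠ 0 := by
        intro h
        apply hg0
        rw [← rd_eq_iff M _ (isIntegral_centralChar χ0 g0)]
        · exact sub_eq_zero.1 h
        · rw [centralChar_one]; exact isIntegral_natCast' _
      apply ih (fun χ hχ => hs χ (Finset.mem_insert_of_mem hχ))
      refine ⟨fun χ => (l1 - l0)⁻¹ * (c χ * (rd M (centralChar (χ : G → ℂ) g0) - l0)), fun x => ?_⟩
      have h1 : ∑ h, f h * T (h * x) = ∑ χ, if χ ∈ principalBlock M G ∨ χ ∈ insert χ0 s then
          c χ * (rd M (centralChar (χ : G → ℂ) g0) * bc M χ x) else 0 := by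
        have h2 : ∀ h, f h * T (h * x) = ∑ χ, if χ ∈ principalBlock M G ∨ χ ∈ insert χ0 s then
            c χ * (f h * bc M χ (h * x)) else 0 := by
          intro h
          rw [hc, Finset.mul_sum]
          refine Finset.sum_congr rfl fun χ _ => ?_
          split_ifs
          · ring
          · rw [mul_zero]
        rw [Finset.sum_congr rfl fun h _ => h2 h, Finset.sum_comm]
        refine Finset.sum_congr rfl fun χ _ => ?_
        split_ifs
        · rw [← Finset.mul_sum, bc_central hM χ g0 x]
        · simp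
      rw [hTe f hf x, hsum] at h1
      have h3 : (l1 - l0) * T x = ∑ χ, if χ ∈ principalBlock M G ∨ χ ∈ s then
          c χ * (rd M (centralChar (χ : G → ℂ) g0) - l0) * bc M χ x else 0 := by
        rw [sub_mul, h1, hc x, Finset.mul_sum, ← Finset.sum_sub_distrib]
        refine Finset.sum_congr rfl fun χ _ => ?_
        by_cases hχs : χ ∈ principalBlock M G ∨ χ ∈ s
        · have h4 : χ ∈ principalBlock M G ∨ χ ∈ insert χ0 s := by
            rcases hχs with h | h
            · exact Or.inl h
            · exact Or.inr (Finset.mem_insert_of_mem h)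
          rw [if_pos h4, if_pos h4, if_pos hχs]; ring
        · rw [if_neg hχs]
          by_cases h4 : χ ∈ principalBlock M G ∨ χ ∈ insert χ0 s
          · rw [if_pos h4, if_pos h4]
            have h5 : χ = χ0 := by
              rcases h4 with h | h
              · exact absurd (Or.inl h) hχs
              · rcases Finset.mem_insert.1 h with h | h
                · exact h
                · exact absurd (Or.inr h) hχs
            rw [h5]
            show c χ0 * (l0 * bc M χ0 x) - l0 * (c χ0 * bc M χ0 x) = 0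
            ring
          · rw [if_neg h4, if_neg h4]; ring
      have h6 : T x = (l1 - l0)⁻¹ * ((l1 - l0) * T x) := by
        rw [← mul_assoc, inv_mul_cancel₀ hne, one_mul]
      rw [h6, h3, Finset.mul_sum]
      refine Finset.sum_congr rfl fun χ _ => ?_
      split_ifs
      · ring
      · rw [mul_zero]
  obtain ⟨c, hc⟩ := mem_span hM T hTc hTp
  refine key (Finset.univ.filter (fun χ => χ ∉ principalBlock M G)) (fun χ hχ => (Finset.mem_filter.1 hχ).2)
    ⟨c, fun g => ?_⟩
  rw [hc g]
  refine Finset.sum_congr rfl fun χ _ => ?_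
  rw [if_pos]
  by_cases h : χ ∈ principalBlock M G
  · exact Or.inl h
  · exact Or.inr (Finset.mem_filter.2 ⟨Finset.mem_univ _, h⟩)

open Classical in
/-- the lower bound -/
theorem card_ge [hp : Fact p.Prime] (hM : IsPModular p M) [Fintype (IrrCharacter G)] {P : Subgroup G}
    (hP : Nat.card P = p) (hidx : ¬ p ∣ P.index) {ι κ : Type*} [Fintype ι] [Fintype κ]
    (W : ι → G → AlgInt ⧸ M)
    (hWm : ∀ i, ∀ n ∈ Subgroup.normalizer (P : Set G), ∀ m ∈ Subgroup.normalizer (P : Set G),
      W i (n * m) = W i n * W i m)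
    (hWC : ∀ i, ∀ n ∈ Subgroup.centralizer (P : Set G), W i n = 1)
    (hWne : ∀ i j, i ≠ j → ∃ n ∈ Subgroup.normalizer (P : Set G), W i n ≠ W j n)
    (u : κ → IrrCharacter G → AlgInt ⧸ M)
    (hu : ∀ j g, ¬ p ∣ orderOf g →
      ∑ χ, (if χ ∈ principalBlock M G then u j χ * bc M χ g else 0) = 0)
    (hui : ∀ c : κ → AlgInt ⧸ M, (∀ χ ∈ principalBlock M G, ∑ j, c j * u j χ = 0) → ∀ j, c j = 0) :
    Fintype.card ι + Fintype.card κ ≤ Nat.card (principalBlock M G) := by
  haveI := hM.2.1
  haveI := charP_of hM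
  letI : Field (AlgInt ⧸ M) := Ideal.Quotient.field M
  haveI : IsAlgClosed (AlgInt ⧸ M) := isAlgClosed_residue M
  obtain ⟨T, hT1, hT2, hT3, hT4⟩ := Cfsg.Agent.H9.BrMod5.family (p := p) hP hidx W hWm hWC hWne
  let L : ((principalBlock M G) → AlgInt ⧸ M) →ₗ[AlgInt ⧸ M] (G → AlgInt ⧸ M) :=
    { toFun := fun c g => ∑ χ : (principalBlock M G), c χ * bc M (χ : IrrCharacter G) g
      map_add' := by
        intro c c'
        funext g
        simp only [Pi.add_apply, add_mul, Finset.sum_add_distrib]
      map_smul' := by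
        intro a c
        funext g
        simp only [Pi.smul_apply, smul_eq_mul, RingHom.id_apply, Finset.mul_sum, mul_assoc] }
  have hsub : ∀ F : IrrCharacter G → AlgInt ⧸ M,
      ∑ χ, (if χ ∈ principalBlock M G then F χ else 0) = ∑ χ : (principalBlock M G), F χ := by
    intro F
    rw [← Finset.sum_filter]
    exact (Finset.sum_subtype _ (fun χ => by simp) F)
  have hrange : ∀ i, T i ∈ LinearMap.range L := by
    intro i
    obtain ⟨c, hc⟩ := span_principal hM (T i) (hT2 i) (hT3 i) (hT4 i)
    refine ⟨fun χ => c χ, ?_⟩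
    funext g
    rw [hc g, hsub (fun χ => c χ * bc M χ g)]
    rfl
  have hker : ∀ j, (fun χ : (principalBlock M G) => u j χ) ∈ LinearMap.ker L := by
    intro j
    rw [LinearMap.mem_ker]
    funext g
    show ∑ χ : (principalBlock M G), u j χ * bc M (χ : IrrCharacter G) g = 0
    have h1 := hu j (ppr p g) (ppr_spec (p := p) g).choose_spec.2.2.2
    rw [hsub (fun χ => u j χ * bc M χ (ppr p g))] at h1
    rw [← h1]
    exact Finset.sum_congr rfl fun χ _ => by rw [← bc_ppr hM]
  have h1 : Fintype.card ι ≤ Module.finrank (AlgInt ⧸ M) (LinearMap.range L) := by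
    have hli : LinearIndependent (AlgInt ⧸ M) (fun i => (⟨T i, hrange i⟩ : LinearMap.range L)) := by
      rw [Fintype.linearIndependent_iff]
      intro c hc
      apply hT1 c
      intro g
      have h2 := congrArg (fun x : LinearMap.range L => (x : G → AlgInt ⧸ M) g) hc
      simp only [Submodule.coe_sum, Submodule.coe_smul, Finset.sum_apply, Pi.smul_apply,
        smul_eq_mul, Submodule.coe_zero, Pi.zero_apply] at h2
      exact h2
    exact hli.fintype_card_le_finrank
  have h2 : Fintype.card κ ≤ Module.finrank (AlgInt ⧸ M) (LinearMap.ker L) := by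
    have hli : LinearIndependent (AlgInt ⧸ M)
        (fun j => (⟨fun χ : (principalBlock M G) => u j χ, hker j⟩ : LinearMap.ker L)) := by
      rw [Fintype.linearIndependent_iff]
      intro c hc
      apply hui c
      intro χ hχ
      have h2 := congrArg (fun x : LinearMap.ker L => (x : principalBlock M G → AlgInt ⧸ M) ⟨χ, hχ⟩) hc
      simp only [Submodule.coe_sum, Submodule.coe_smul, Finset.sum_apply, Pi.smul_apply,
        smul_eq_mul, Submodule.coe_zero, Pi.zero_apply] at h2
      exact h2
    exact hli.fintype_card_le_finrank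
  have h3 := LinearMap.finrank_range_add_finrank_ker L
  rw [Module.finrank_fintype_fun_eq_card, ← Nat.card_eq_fintype_card] at h3
  omega

end Cfsg.Agent.H9.BrCount2
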