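import Mathlib
import Cfsg.Prelude.Def_Blocks
import Cfsg.Agent.H3_CharComplete

/-!
H9_BrVec: multiplicities of the linear characters of a subgroup of order p.
-/

set_option autoImplicit false
set_option linter.unusedSectionVars false

namespace Cfsg.Agent.H9.BrVec

open Cfsg Cfsg.Agent.H3.CharIrr Cfsg.Agent.H3.CharComplete Cfsg.Agent.H3.CharBasic
open scoped ComplexConjugate

variable {G : Type*} [Group G] [Fintype G] {p : ℕ} [hp : Fact p.Prime]

/-- powers indexed by residues -/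
def zp (p : ℕ) (z : G) (i : ZMod p) : G := z ^ i.val

theorem zp_zero (z : G) : zp p z 0 = 1 := by
  unfold zp; rw [ZMod.val_zero, pow_zero]

theorem zp_add {z : G} (hz : z ^ p = 1) (i j : ZMod p) : zp p z (i + j) = zp p z i * zp p z j := by
  unfold zp
  rw [ZMod.val_add, ← pow_add]
  have := pow_mod_orderOf z (i.val + j.val)
  conv_lhs => rw [← pow_mod_orderOf]
  conv_rhs => rw [← pow_mod_orderOf]
  rw [Nat.mod_mod_of_dvd _ (orderOf_dvd_of_pow_eq_one hz)]

theorem zp_one {z : G} : zp p z 1 = z := by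
  unfold zp; rw [ZMod.val_one, pow_one]

theorem zp_neg {z : G} (hz : z ^ p = 1) (i : ZMod p) : zp p z (-i) = (zp p z i)⁻¹ := by
  rw [eq_inv_iff_mul_eq_one, ← zp_add hz, neg_add_cancel, zp_zero]

theorem zp_natCast {z : G} (hz : z ^ p = 1) (n : ℕ) : zp p z (n : ZMod p) = z ^ n := by
  unfold zp
  rw [ZMod.val_natCast]
  conv_lhs => rw [← pow_mod_orderOf]
  conv_rhs => rw [← pow_mod_orderOf]
  rw [Nat.mod_mod_of_dvd _ (orderOf_dvd_of_pow_eq_one hz)]

theorem zp_mul {z : G} (hz : z ^ p = 1) (i j : ZMod p) : zp p z (i * j) = (zp p z i) ^ j.val := by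
  have h1 : i * j = ((i.val * j.val : ℕ) : ZMod p) := by
    push_cast
    rw [ZMod.natCast_zmod_val, ZMod.natCast_zmod_val]
  rw [h1, zp_natCast hz, pow_mul]; rfl

theorem zp_injective {z : G} (hz : orderOf z = p) : Function.Injective (zp p z) := by
  intro i j h
  unfold zp at h
  have h1 := (pow_inj_mod.1 h)
  rw [hz, Nat.mod_eq_of_lt (ZMod.val_lt i), Nat.mod_eq_of_lt (ZMod.val_lt j)] at h1
  exact ZMod.val_injective p h1

theorem zp_eq_one {z : G} (hz : orderOf z = p) {i : ZMod p} : zp p z i = 1 ↔ i = 0 := by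
  constructor
  · intro h
    exact zp_injective hz (by rw [h, zp_zero])
  · rintro rfl; exact zp_zero z

theorem mem_zpowers_iff {z : G} (hz : orderOf z = p) (x : G) :
    x ∈ Subgroup.zpowers z ↔ ∃ i : ZMod p, x = zp p z i := by
  constructor
  · intro h
    classical
    rw [mem_zpowers_iff_mem_range_orderOf, Finset.mem_image] at h
    obtain ⟨n, -, rfl⟩ := h
    exact ⟨(n : ZMod p), (zp_natCast (by rw [← hz]; exact pow_orderOf_eq_one z) n).symm⟩
  · rintro ⟨i, rfl⟩
    exact Subgroup.pow_mem _ (Subgroup.mem_zpowers z) _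

/-- the standard additive character -/
noncomputable def ee (p : ℕ) [NeZero p] (a : ZMod p) : ℂ := ZMod.stdAddChar a

theorem ee_add (a b : ZMod p) : ee p (a + b) = ee p a * ee p b := AddChar.map_add_eq_mul _ _ _

theorem ee_zero : ee p (0 : ZMod p) = 1 := AddChar.map_zero_eq_one _

theorem ee_conj (a : ZMod p) : conj (ee p a) = ee p (-a) := by
  unfold ee
  rw [AddChar.map_neg_eq_conj]

theorem sum_ee (a : ZMod p) : ∑ i : ZMod p, ee p (a * i) = if a = 0 then (p : ℂ) else 0 := by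
  have h1 := AddChar.sum_mulShift (R' := ℂ) a (ZMod.isPrimitive_stdAddChar p)
  rw [ZMod.card] at h1
  have h2 : ∑ i : ZMod p, ee p (a * i) = ((if a = 0 then p else 0 : ℕ) : ℂ) := by
    rw [← h1]
    refine Finset.sum_congr rfl fun i _ => ?_
    unfold ee; rw [mul_comm]
  rw [h2]
  split_ifs <;> simp

/-- the homomorphism from the cyclic group of order p -/
def tau {z : G} (hz : z ^ p = 1) : Multiplicative (ZMod p) →* G where
  toFun i := zp p z i.toAdd
  map_one' := zp_zero z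
  map_mul' i j := zp_add hz _ _

theorem comp_char {H : Type*} [Group H] (f : H →* G) {χ : G → ℂ} (hχ : IsCharacter G χ) :
    IsCharacter H (fun h => χ (f h)) := by
  obtain ⟨n, ρ, rfl⟩ := hχ
  exact ⟨n, ρ.comp f, rfl⟩

theorem linear_char {H : Type*} [Group H] (f : H →* ℂ) : IsCharacter H (fun h => f h) := by
  let ρ : Representation ℂ H ℂ :=
    { toFun := fun h => f h • LinearMap.id
      map_one' := by rw [map_one, one_smul]; rfl
      map_mul' := fun a b => by
        ext; simp [mul_comm] }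
  have h1 := isCharacter_of_rep ρ
  have h2 : ρ.character = fun h => f h := by
    funext h
    show LinearMap.trace ℂ ℂ (f h • LinearMap.id) = f h
    rw [map_smul, LinearMap.trace_id]; simp
  rwa [h2] at h1

/-- multiplicities are natural numbers -/
theorem exists_mult {z : G} (hz : z ^ p = 1) {χ : G → ℂ} (hχ : IsCharacter G χ) (a : ZMod p) :
    ∃ n : ℕ, (n : ℂ) = (p : ℂ)⁻¹ * ∑ i : ZMod p, χ (zp p z i) * ee p (-(a * i)) := by
  let lam : Multiplicative (ZMod p) →* ℂ :=
    { toFun := fun i => ee p (a * i.toAdd)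
      map_one' := by show ee p (a * 0) = 1; rw [mul_zero, ee_zero]
      map_mul' := fun i j => by
        show ee p (a * (i.toAdd + j.toAdd)) = _
        rw [mul_add, ee_add] }
  obtain ⟨n, hn⟩ := ci_char_nat (comp_char (tau hz) hχ) (linear_char lam)
  refine ⟨n, ?_⟩
  rw [← hn, classInner]
  have h1 : (Nat.card (Multiplicative (ZMod p)) : ℂ) = p := by
    rw [Nat.card_eq_fintype_card, Fintype.card_multiplicative, ZMod.card]
  rw [h1]
  congr 1
  have h2 : ∀ i : Multiplicative (ZMod p), χ (tau hz i) * conj (lam i) =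
      χ (zp p z i.toAdd) * ee p (-(a * i.toAdd)) := by
    intro i
    show χ (zp p z i.toAdd) * conj (ee p (a * i.toAdd)) = _
    rw [ee_conj]
  rw [Finset.sum_congr rfl fun i _ => h2 i]
  exact Fintype.sum_equiv (Multiplicative.toAdd (α := ZMod p)) _
    (fun i : ZMod p => χ (zp p z i) * ee p (-(a * i))) (fun i => rfl)

section mult

variable {z : G} (hz : z ^ p = 1)

/-- the multiplicity of the a-th linear character -/
noncomputable def mu (χ : IrrCharacter G) (a : ZMod p) : ℕ :=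
  (exists_mult hz (IsIrr.isCharacter χ.2) a).choose

theorem mu_eq (χ : IrrCharacter G) (a : ZMod p) :
    (mu hz χ a : ℂ) = (p : ℂ)⁻¹ * ∑ i : ZMod p, (χ : G → ℂ) (zp p z i) * ee p (-(a * i)) :=
  (exists_mult hz (IsIrr.isCharacter χ.2) a).choose_spec

theorem p_ne : (p : ℂ) ≠ 0 := Nat.cast_ne_zero.2 hp.out.ne_zero

/-- Fourier inversion -/
theorem char_eq (χ : IrrCharacter G) (j : ZMod p) :
    (χ : G → ℂ) (zp p z j) = ∑ a : ZMod p, (mu hz χ a : ℂ) * ee p (a * j) := by
  have h1 : ∑ a : ZMod p, (mu hz χ a : ℂ) * ee p (a * j) =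
      (p : ℂ)⁻¹ * ∑ i : ZMod p, (χ : G → ℂ) (zp p z i) * ∑ a : ZMod p, ee p (a * (j - i)) := by
    simp only [mu_eq]
    rw [Finset.mul_sum]
    simp only [Finset.mul_sum, Finset.sum_mul]
    rw [Finset.sum_comm]
    refine Finset.sum_congr rfl fun i _ => Finset.sum_congr rfl fun a _ => ?_
    have : ee p (a * (j - i)) = ee p (-(a * i)) * ee p (a * j) := by
      rw [← ee_add]; congr 1; ring
    rw [this]; ring
  have h2 : ∀ i : ZMod p, ∑ a : ZMod p, ee p (a * (j - i)) = if i = j then (p : ℂ) else 0 := by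
    intro i
    have h3 : ∀ a : ZMod p, ee p (a * (j - i)) = ee p ((j - i) * a) := fun a => by rw [mul_comm]
    rw [Finset.sum_congr rfl fun a _ => h3 a, sum_ee]
    by_cases h : i = j
    · rw [if_pos h, if_pos (by rw [h, sub_self])]
    · rw [if_neg h, if_neg (fun h' => h (sub_eq_zero.1 h').symm)]
  rw [h1]
  simp only [h2, mul_ite, mul_zero]
  rw [Finset.sum_ite_eq' Finset.univ j, if_pos (Finset.mem_univ _)]
  field_simp [p_ne (p := p)]

/-- the multiplicity differences -/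
noncomputable def vv (χ : IrrCharacter G) (a : ZMod p) : ℤ := mu hz χ 0 - mu hz χ a

theorem vv_zero (χ : IrrCharacter G) : vv hz χ 0 = 0 := by unfold vv; ring

theorem vv_eq (χ : IrrCharacter G) (a : ZMod p) :
    (vv hz χ a : ℂ) = (p : ℂ)⁻¹ * ∑ i : ZMod p, (χ : G → ℂ) (zp p z i) * (1 - ee p (-(a * i))) := by
  unfold vv
  push_cast
  rw [mu_eq, mu_eq, ← mul_sub, ← Finset.sum_sub_distrib]
  congr 1
  refine Finset.sum_congr rfl fun i _ => ?_
  rw [zero_mul, neg_zero, ee_zero]; ring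

/-- values on nontrivial powers -/
theorem char_eq_vv (χ : IrrCharacter G) {j : ZMod p} (hj : j ≠ 0) :
    (χ : G → ℂ) (zp p z j) = - ∑ a : ZMod p, (vv hz χ a : ℂ) * ee p (a * j) := by
  rw [char_eq hz χ j]
  have h1 : ∀ a : ZMod p, (mu hz χ a : ℂ) * ee p (a * j) =
      (mu hz χ 0 : ℂ) * ee p (j * a) - (vv hz χ a : ℂ) * ee p (a * j) := by
    intro a
    unfold vv
    push_cast
    rw [mul_comm j a]; ring
  rw [Finset.sum_congr rfl fun a _ => h1 a, Finset.sum_sub_distrib, ← Finset.mul_sum, sum_ee, if_neg hj]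
  ring

/-- the degree -/
theorem char_one_eq (χ : IrrCharacter G) :
    (χ : G → ℂ) 1 = (p : ℂ) * mu hz χ 0 - ∑ a : ZMod p, (vv hz χ a : ℂ) := by
  have h := char_eq hz χ 0
  rw [zp_zero] at h
  rw [h]
  simp only [mul_zero, ee_zero, mul_one, vv]
  push_cast
  rw [Finset.sum_sub_distrib, Finset.sum_const, Finset.card_univ, ZMod.card, nsmul_eq_mul]
  ring

/-- the multiplicities only depend on the orbit -/
theorem mu_mul (χ : IrrCharacter G) (h : (ZMod p)ˣ)
    (hh : ∀ i : ZMod p, (χ : G → ℂ) (zp p z (h * i)) = (χ : G → ℂ) (zp p z i)) (a : ZMod p) :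
    mu hz χ (h * a) = mu hz χ a := by
  have h1 : (mu hz χ (h * a) : ℂ) = mu hz χ a := by
    rw [mu_eq, mu_eq]
    congr 1
    refine Fintype.sum_equiv (Units.mulLeft h) _ _ fun i => ?_
    show _ = (χ : G → ℂ) (zp p z (h * i)) * ee p (-(a * (h * i)))
    rw [hh]
    congr 2; ring
  exact_mod_cast h1

theorem vv_mul (χ : IrrCharacter G) (h : (ZMod p)ˣ)
    (hh : ∀ i : ZMod p, (χ : G → ℂ) (zp p z (h * i)) = (χ : G → ℂ) (zp p z i)) (a : ZMod p) :
    vv hz χ (h * a) = vv hz χ a := by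
  unfold vv
  rw [mu_mul hz χ h hh]

open Classical in
/-- the Gram matrix -/
theorem gram (S : Finset (IrrCharacter G)) (H : Subgroup (ZMod p)ˣ)
    (hK : ∀ i j : ZMod p, i ≠ 0 → j ≠ 0 → ∑ χ ∈ S, (χ : G → ℂ) (zp p z i) * conj ((χ : G → ℂ) (zp p z j)) =
      if (∃ h ∈ H, j = h * i) then (p : ℂ) else 0) {a b : ZMod p} (ha : a ≠ 0) (hb : b ≠ 0) :
    ∑ χ ∈ S, vv hz χ a * vv hz χ b = (Nat.card H : ℤ) + if (∃ h ∈ H, a = h * b) then 1 else 0 := by
  haveI : Fintype H := Fintype.ofFinite _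
  have h0 : ((∑ χ ∈ S, vv hz χ a * vv hz χ b : ℤ) : ℂ) =
      (p : ℂ)⁻¹ * ((p : ℂ)⁻¹ * ∑ i : ZMod p, ∑ j : ZMod p, (1 - ee p (-(a * i))) * (1 - ee p (b * j)) *
        ∑ χ ∈ S, (χ : G → ℂ) (zp p z i) * conj ((χ : G → ℂ) (zp p z j))) := by
    push_cast
    have h1 : ∀ χ ∈ S, (vv hz χ a : ℂ) * (vv hz χ b : ℂ) = (p : ℂ)⁻¹ * ((p : ℂ)⁻¹ *
        ∑ i : ZMod p, ∑ j : ZMod p, (1 - ee p (-(a * i))) * (1 - ee p (b * j)) *
          ((χ : G → ℂ) (zp p z i) * conj ((χ : G → ℂ) (zp p z j)))) := by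
      intro χ _
      have h2 : (vv hz χ b : ℂ) = conj (vv hz χ b : ℂ) := by rw [map_intCast]
      rw [h2, vv_eq, vv_eq, map_mul, map_sum, map_inv₀, map_natCast]
      have h3 : ∀ j : ZMod p, conj ((χ : G → ℂ) (zp p z j) * (1 - ee p (-(b * j)))) =
          conj ((χ : G → ℂ) (zp p z j)) * (1 - ee p (b * j)) := by
        intro j
        rw [map_mul, map_sub, map_one, ee_conj, neg_neg]
      rw [Finset.sum_congr rfl fun j _ => h3 j]
      rw [mul_mul_mul_comm, Finset.sum_mul_sum, mul_assoc]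
      congr 2
      refine Finset.sum_congr rfl fun i _ => Finset.sum_congr rfl fun j _ => ?_
      ring
    rw [Finset.sum_congr rfl h1, ← Finset.mul_sum, ← Finset.mul_sum]
    congr 2
    rw [Finset.sum_comm]
    refine Finset.sum_congr rfl fun i _ => ?_
    rw [Finset.sum_comm]
    refine Finset.sum_congr rfl fun j _ => ?_
    rw [Finset.mul_sum]
  have h1 : ∀ i j : ZMod p, (1 - ee p (-(a * i))) * (1 - ee p (b * j)) *
        ∑ χ ∈ S, (χ : G → ℂ) (zp p z i) * conj ((χ : G → ℂ) (zp p z j)) =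
      if (∃ h ∈ H, j = h * i) then (p : ℂ) * ((1 - ee p (-(a * i))) * (1 - ee p (b * j))) else 0 := by
    intro i j
    by_cases hi : i = 0
    · subst hi
      rw [mul_zero, neg_zero, ee_zero]; simp
    · by_cases hj : j = 0
      · subst hj
        rw [mul_zero, ee_zero]; simp
      · rw [hK i j hi hj]
        split_ifs <;> ring
  have h2 : ∀ i : ZMod p, ∑ j : ZMod p, (if (∃ h ∈ H, j = h * i) then
      (p : ℂ) * ((1 - ee p (-(a * i))) * (1 - ee p (b * j))) else 0) =
      ∑ h : H, (p : ℂ) * ((1 - ee p (-(a * i))) * (1 - ee p (b * (((h : (ZMod p)ˣ) : ZMod p) * i)))) := by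
    intro i
    by_cases hi : i = 0
    · subst hi
      simp [ee_zero]
    · rw [← Finset.sum_filter]
      refine (Finset.sum_bij (fun (h : H) _ => ((h : (ZMod p)ˣ) : ZMod p) * i) ?_ ?_ ?_ ?_).symm
      · intro h _
        rw [Finset.mem_filter]
        exact ⟨Finset.mem_univ _, h, h.2, rfl⟩
      · intro h _ h' _ heq
        have := mul_right_cancel₀ hi heq
        exact Subtype.ext (Units.ext this)
      · intro j hj
        rw [Finset.mem_filter] at hj
        obtain ⟨-, h, hh, rfl⟩ := hj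
        exact ⟨⟨h, hh⟩, Finset.mem_univ _, rfl⟩
      · intro h _; rfl
  simp only [h1, h2] at h0
  rw [Finset.sum_comm] at h0
  have h3 : ∀ h : H, ∑ i : ZMod p, (p : ℂ) * ((1 - ee p (-(a * i))) *
      (1 - ee p (b * (((h : (ZMod p)ˣ) : ZMod p) * i)))) =
      (p : ℂ) * (p * (1 + if a = ((h : (ZMod p)ˣ) : ZMod p) * b then 1 else 0)) := by
    intro h
    rw [← Finset.mul_sum]
    congr 1
    have h4 : ∀ i : ZMod p, (1 - ee p (-(a * i))) * (1 - ee p (b * (((h : (ZMod p)ˣ) : ZMod p) * i))) =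
        ee p (0 * i) - ee p ((-a) * i) - ee p ((b * ((h : (ZMod p)ˣ) : ZMod p)) * i) +
          ee p ((((h : (ZMod p)ˣ) : ZMod p) * b - a) * i) := by
      intro i
      have e1 : ee p ((((h : (ZMod p)ˣ) : ZMod p) * b - a) * i) = ee p (-(a * i)) * ee p (b * (((h : (ZMod p)ˣ) : ZMod p) * i)) := by
        rw [← ee_add]; congr 1; ring
      rw [e1, zero_mul, ee_zero, neg_mul, mul_assoc b]
      ring
    rw [Finset.sum_congr rfl fun i _ => h4 i, Finset.sum_add_distrib, Finset.sum_sub_distrib,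
      Finset.sum_sub_distrib, sum_ee, sum_ee, sum_ee, sum_ee, if_pos rfl, if_neg (neg_ne_zero.2 ha),
      if_neg (mul_ne_zero hb h.1.ne_zero)]
    by_cases hab : a = ((h : (ZMod p)ˣ) : ZMod p) * b
    · rw [if_pos (by rw [hab, sub_self]), if_pos hab]; ring
    · rw [if_neg (fun h' => hab (sub_eq_zero.1 h').symm), if_neg hab]; ring
  rw [Finset.sum_congr rfl fun h _ => h3 h, ← Finset.mul_sum, ← Finset.mul_sum,
    Finset.sum_add_distrib, Finset.sum_const, Finset.card_univ] at h0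
  have h5 : ∑ h : H, (if a = (((h : (ZMod p)ˣ) : ZMod p)) * b then (1:ℂ) else 0) =
      if (∃ h ∈ H, a = h * b) then 1 else 0 := by
    split_ifs with hex
    · obtain ⟨h, hh, rfl⟩ := hex
      rw [Finset.sum_eq_single ⟨h, hh⟩]
      · rw [if_pos rfl]
      · intro h' _ hne
        rw [if_neg]
        intro heq
        have := mul_right_cancel₀ hb heq
        exact hne (Subtype.ext (Units.ext this.symm))
      · intro h; exact absurd (Finset.mem_univ _) h
    · apply Finset.sum_eq_zero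
      intro h _
      rw [if_neg (fun h' => hex ⟨h, h.2, h'⟩)]
  rw [h5] at h0
  have h6 : ((∑ χ ∈ S, vv hz χ a * vv hz χ b : ℤ) : ℂ) =
      (((Nat.card H : ℤ) + if (∃ h ∈ H, a = h * b) then 1 else 0 : ℤ) : ℂ) := by
    rw [h0, Nat.card_eq_fintype_card]
    have hp0 := p_ne (p := p)
    push_cast
    rw [nsmul_eq_mul, mul_one]
    field_simp
  exact_mod_cast h6

end mult

end Cfsg.Agent.H9.BrVec
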