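import Cfsg.Statements.S0914
import Cfsg.Agent.H10_BlockKn
import Cfsg.Agent.H10_BlockK
import Cfsg.Agent.S0909

set_option autoImplicit false
open Cfsg

namespace Cfsg.Agent.S0914

/-- Let χ be an irreducible character of the finite group G, p a prime and M a maximal ideal of the algebraic integers containing p. Then p does not divide the integer (Nat.card G) / χ(1) if and only if the block of χ relative to M consists of χ alone. -/
theorem result {G : Type*} [Group G] [Finite G] (p : ℕ) [Fact p.Prime] (M : Ideal Cfsg.AlgInt) (hM : Cfsg.IsPModular p M) (χ : Cfsg.IrrCharacter G) : ¬ p ∣ Nat.card G / Cfsg.charDegree (χ : G → ℂ) ↔ Cfsg.blockOf M (χ : G → ℂ) = {χ} := by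
  classical
  haveI := Fintype.ofFinite G
  haveI := hM.2.1
  haveI : Fintype (IrrCharacter G) := Fintype.ofFinite _
  have hdvd : charDegree (χ : G → ℂ) ∣ Nat.card G := by
    obtain ⟨n, _, h1, h2⟩ := Cfsg.Agent.H3.CharInt.IsIrr.dvd_card χ.2
    have : charDegree (χ : G → ℂ) = n := by
      have := (Cfsg.Agent.H10.Char.charDegree_eq χ.2).trans h1
      exact_mod_cast this
    rw [this]; exact h2
  have hd0 := Cfsg.Agent.H10.Char.charDegree_pos χ.2
  constructor
  · intro h
    apply Set.Subset.antisymm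
    · apply Cfsg.Agent.S0909.result p M hM {χ} _ χ (Set.mem_singleton χ)
      intro g
      rw [Cfsg.Agent.H10.BlockK.blockCoeff_singleton]
      have h1 : (Nat.card G : ℂ)⁻¹ * ((χ : G → ℂ) 1 * (starRingEnd ℂ) ((χ : G → ℂ) g)) =
          (((Nat.card G / charDegree (χ : G → ℂ) : ℕ) : ℂ))⁻¹ * (starRingEnd ℂ) ((χ : G → ℂ) g) := by
        rw [Nat.cast_div hdvd (Nat.cast_ne_zero.2 hd0.ne'), inv_div,
          Cfsg.Agent.H10.Char.charDegree_eq χ.2]
        ring
      rw [h1]
      apply Cfsg.Agent.H10.BlockLoc.ring_mul (Cfsg.Agent.H10.BlockLoc.ring_inv_natCast hM h)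
      rw [← Cfsg.Agent.H3.CharIrr.IsChar.inv_eq_conj (Cfsg.Agent.H10.Char.isChar_of_irr χ.2)]
      exact Cfsg.Agent.H10.BlockMain.char_mem_ring χ _
    · rw [Set.singleton_subset_iff]
      exact Cfsg.Agent.H10.BlockIdem.mem_blockOf_self χ
  · intro h
    have hv : ∀ g : G, p ∣ orderOf g → (χ : G → ℂ) g = 0 := by
      intro g hg
      have h1 := Cfsg.Agent.H10.BlockOrth.weak_orth' hM (Cfsg.Agent.H10.BlockIdem.isPBlock_blockOf χ) 1 g (by
        rw [orderOf_one]; intro h; exact hM.1.one_lt.ne' (Nat.dvd_one.1 h)) hg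
      rw [h, Finset.sum_eq_single χ] at h1
      · rw [if_pos (Set.mem_singleton χ)] at h1
        exact (mul_eq_zero.1 h1).resolve_right (Cfsg.Agent.H10.Char.irr_one_ne χ.2)
      · intro ψ _ hne
        rw [if_neg (by rw [Set.mem_singleton_iff]; exact hne)]
      · intro h; exact absurd (Finset.mem_univ _) h
    have h2 := Cfsg.Agent.H10.BlockHZ.factorization_of_vanish χ.2 hv hdvd
    have hq0 : Nat.card G / charDegree (χ : G → ℂ) ≠ 0 :=
      (Nat.div_pos (Nat.le_of_dvd Nat.card_pos hdvd) hd0).ne'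
    intro hp
    have h3 := congrFun (congrArg DFunLike.coe (Nat.factorization_div hdvd)) p
    have h4 : 1 ≤ (Nat.card G / charDegree (χ : G → ℂ)).factorization p :=
      (hM.1.dvd_iff_one_le_factorization hq0).1 hp
    rw [h3] at h4
    simp only [Finsupp.coe_tsub, Pi.sub_apply] at h4
    omega

end Cfsg.Agent.S0914
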