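import Mathlib
import Cfsg.Agent.H9_BrVec
import Cfsg.Agent.H9_BrComb
import Cfsg.Agent.H9_BrCount2
import Cfsg.Agent.S0914
import Cfsg.Agent.H10_BlockCen

/-!
H9_BrMain: Brauer's theorem on the principal block when the Sylow p-subgroups have order p.
-/

set_option autoImplicit false
set_option linter.unusedSectionVars false

namespace Cfsg.Agent.H9.BrMain

open Cfsg Cfsg.Agent.H3.CharIrr Cfsg.Agent.H3.CharComplete Cfsg.Agent.H3.CharInd
  Cfsg.Agent.H3.CharBasic Cfsg.Agent.H10.BlockLoc Cfsg.Agent.H10.Char Cfsg.Agent.H10.PPart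
  Cfsg.Agent.H10.BlockAlg Cfsg.Agent.H10.BlockIdem Cfsg.Agent.H10.BlockHZ Cfsg.Agent.H10.RegPart
  Cfsg.Agent.H10.BlockOrth Cfsg.Agent.H10.BlockKer Cfsg.Agent.H10.BlockSMT2 Cfsg.Agent.H10.BlockV4
  Cfsg.Agent.H10.BlockCen Cfsg.Agent.H10.BlockPrin
  Cfsg.Agent.H25.Brauer Cfsg.Agent.H9.BrRed Cfsg.Agent.H9.BrCount Cfsg.Agent.H9.BrCount2
  Cfsg.Agent.H9.BrVec
open scoped ComplexConjugate

variable {G : Type*} [Group G] [Fintype G] {p : ℕ} [hp : Fact p.Prime] {M : Ideal AlgInt}

section omega

variable {z : G}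

theorem exists_exp (hz : orderOf z = p) {n : G} (hn : n ∈ Subgroup.normalizer (Subgroup.zpowers z : Set G)) :
    ∃ i : ZMod p, n * z * n⁻¹ = zp p z i := by
  have h1 : n * z * n⁻¹ ∈ Subgroup.zpowers z :=
    (Subgroup.mem_normalizer_iff.1 hn z).1 (Subgroup.mem_zpowers z)
  exact (mem_zpowers_iff hz _).1 h1

/-- the action of the normalizer -/
noncomputable def om0 (hz : orderOf z = p) : Subgroup.normalizer (Subgroup.zpowers z : Set G) →* ZMod p where
  toFun n := (exists_exp hz n.2).choose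
  map_one' := by
    apply zp_injective hz
    rw [← (exists_exp hz (1 : Subgroup.normalizer (Subgroup.zpowers z : Set G)).2).choose_spec, zp_one]
    simp
  map_mul' n m := by
    have hzp : z ^ p = 1 := by rw [← hz]; exact pow_orderOf_eq_one z
    apply zp_injective hz
    rw [← (exists_exp hz (n * m).2).choose_spec, zp_mul hzp, ← (exists_exp hz n.2).choose_spec]
    have h1 := (exists_exp hz m.2).choose_spec
    rw [conj_pow]
    have h2 : z ^ ((exists_exp hz m.2).choose).val = (m : G) * z * (m : G)⁻¹ := h1.symm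
    rw [h2]
    show ((n : G) * (m : G)) * z * ((n : G) * (m : G))⁻¹ = _
    group

theorem om0_spec (hz : orderOf z = p) (n : Subgroup.normalizer (Subgroup.zpowers z : Set G)) :
    (n : G) * z * (n : G)⁻¹ = zp p z (om0 hz n) := (exists_exp hz n.2).choose_spec

/-- the action of the normalizer, as units -/
noncomputable def om (hz : orderOf z = p) : Subgroup.normalizer (Subgroup.zpowers z : Set G) →* (ZMod p)ˣ :=
  (om0 hz).toHomUnits

theorem om_spec (hz : orderOf z = p) (n : Subgroup.normalizer (Subgroup.zpowers z : Set G)) (i : ZMod p) :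
    (n : G) * zp p z i * (n : G)⁻¹ = zp p z ((om hz n : ZMod p) * i) := by
  have hzp : z ^ p = 1 := by rw [← hz]; exact pow_orderOf_eq_one z
  have h1 : ((om hz n : (ZMod p)ˣ) : ZMod p) = om0 hz n := rfl
  rw [h1, zp_mul hzp, ← om0_spec, conj_pow]; rfl

theorem ker_om (hz : orderOf z = p) : (om hz).ker =
    (Subgroup.centralizer (Subgroup.zpowers z : Set G)).subgroupOf (Subgroup.normalizer (Subgroup.zpowers z : Set G)) := by
  ext n
  rw [MonoidHom.mem_ker, Subgroup.mem_subgroupOf, centralizer_zpowers, Subgroup.mem_centralizer_singleton_iff]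
  constructor
  · intro h
    have h1 := om_spec hz n 1
    rw [h, Units.val_one, mul_one, zp_one, mul_inv_eq_iff_eq_mul] at h1
    exact h1
  · intro h
    apply Units.ext
    apply zp_injective hz
    have h1 := om_spec hz n 1
    rw [mul_one, zp_one] at h1
    rw [← h1, Units.val_one, zp_one, mul_inv_eq_iff_eq_mul]
    exact h

theorem card_range (hz : orderOf z = p) : Nat.card (om hz).range =
    (Subgroup.centralizer (Subgroup.zpowers z : Set G)).relIndex (Subgroup.normalizer (Subgroup.zpowers z : Set G)) := by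
  rw [← Subgroup.index_ker, ker_om]; rfl

theorem isConj_iff_om (hz : orderOf z = p) {i j : ZMod p} (hi : i ≠ 0) :
    IsConj (zp p z i) (zp p z j) ↔ ∃ h ∈ (om hz).range, j = (h : ZMod p) * i := by
  have hzp : z ^ p = 1 := by rw [← hz]; exact pow_orderOf_eq_one z
  have hgen : ∀ i : ZMod p, i ≠ 0 → ∀ a : G, (∃ j, a * zp p z i * a⁻¹ = zp p z j) →
      ∃ l, a * z * a⁻¹ = zp p z l := by
    rintro i hi a ⟨j, hj⟩
    refine ⟨j * i⁻¹, ?_⟩
    have h1 : z = (zp p z i) ^ (i⁻¹).val := by
      rw [← zp_mul hzp, mul_inv_cancel₀ hi, zp_one]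
    conv_lhs => rw [h1]
    rw [← conj_pow, hj, ← zp_mul hzp]
  constructor
  · intro h
    obtain ⟨a, ha⟩ := isConj_iff.1 h
    obtain ⟨l, hl⟩ := hgen i hi a ⟨j, ha⟩
    have hl0 : l ≠ 0 := by
      rintro rfl
      rw [zp_zero] at hl
      have h2 : z = 1 := by
        have := congrArg (fun x => a⁻¹ * x * a) hl
        simpa [mul_assoc] using this
      have h3 : p = 1 := by rw [← hz, h2, orderOf_one]
      exact hp.out.one_lt.ne' h3
    have ha' : a ∈ Subgroup.normalizer (Subgroup.zpowers z : Set G) := by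
      rw [Subgroup.mem_normalizer_iff]
      intro x
      constructor
      · intro hx
        obtain ⟨m, rfl⟩ := (mem_zpowers_iff hz x).1 hx
        rw [mem_zpowers_iff hz]
        refine ⟨l * m, ?_⟩
        have : zp p z m = z ^ m.val := rfl
        rw [this, zp_mul hzp, ← hl, conj_pow]
      · intro hx
        obtain ⟨m, hm⟩ := (mem_zpowers_iff hz _).1 hx
        rw [mem_zpowers_iff hz]
        refine ⟨l⁻¹ * m, ?_⟩
        have h2 : a * zp p z (l⁻¹ * m) * a⁻¹ = zp p z m := by
          have : zp p z (l⁻¹ * m) = z ^ (l⁻¹ * m).val := rfl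
          rw [this, ← conj_pow, hl, ← zp_mul hzp]
          congr 1
          field_simp
        rw [← hm] at h2
        have := mul_right_cancel h2
        exact (mul_left_cancel this).symm
    refine ⟨om hz ⟨a, ha'⟩, ⟨⟨a, ha'⟩, rfl⟩, ?_⟩
    apply zp_injective hz
    rw [← om_spec hz ⟨a, ha'⟩ i]
    exact ha.symm
  · rintro ⟨h, ⟨n, rfl⟩, rfl⟩
    rw [← om_spec]
    exact isConj_iff.2 ⟨n, rfl⟩

end omega

section structure'

variable {z : G}

theorem complement (hz : orderOf z = p) (hsyl : ¬ p ∣ (Subgroup.zpowers z).index) {i : ZMod p} (hi : i ≠ 0) :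
    ∃ K : Subgroup (Subgroup.centralizer ({zp p z i} : Set G)), K.Normal ∧ ¬ p ∣ Nat.card K ∧ K.index = p := by
  have hzp : z ^ p = 1 := by rw [← hz]; exact pow_orderOf_eq_one z
  have hPg : IsPGroup p (Subgroup.zpowers z) := IsPGroup.of_card (n := 1) (by rw [Nat.card_zpowers, hz, pow_one])
  let P : Sylow p G := hPg.toSylow hsyl
  have hPz : (P : Subgroup G) = Subgroup.zpowers z := rfl
  have hzgen : z = (zp p z i) ^ (i⁻¹).val := by
    rw [← zp_mul hzp, mul_inv_cancel₀ hi, zp_one]
  have hPC : (P : Subgroup G) ≤ Subgroup.centralizer ({zp p z i} : Set G) := by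
    rw [hPz, Subgroup.zpowers_le, Subgroup.mem_centralizer_singleton_iff]
    exact (Commute.refl z).pow_right _
  set Q : Sylow p (Subgroup.centralizer ({zp p z i} : Set G)) := P.subtype hPC with hQ
  have hN : Subgroup.normalizer ((Q : Subgroup (Subgroup.centralizer ({zp p z i} : Set G))) : Set (Subgroup.centralizer ({zp p z i} : Set G))) ≤
      Subgroup.centralizer ((Q : Subgroup (Subgroup.centralizer ({zp p z i} : Set G))) : Set (Subgroup.centralizer ({zp p z i} : Set G))) := by
    intro g hg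
    rw [Subgroup.mem_centralizer_iff]
    intro y hy
    apply Subtype.ext
    have hy' : (y : G) ∈ Subgroup.zpowers z := hy
    obtain ⟨m, hm⟩ := (mem_zpowers_iff hz _).1 hy'
    have hgz : Commute (g : G) (zp p z i) := Subgroup.mem_centralizer_singleton_iff.1 g.2
    have hgz' : Commute (g : G) z := by
      have h9 := hgz.pow_right (i⁻¹).val
      rwa [← hzgen] at h9
    show (y : G) * (g : G) = (g : G) * (y : G)
    rw [hm]
    exact (hgz'.pow_right _).symm.eq
  haveI : Finite (Sylow p (Subgroup.centralizer ({zp p z i} : Set G))) := inferInstance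
  refine ⟨(MonoidHom.transferSylow Q hN).ker, inferInstance, MonoidHom.not_dvd_card_ker_transferSylow Q hN, ?_⟩
  rw [(MonoidHom.ker_transferSylow_isComplement' Q hN).symm.index_eq_card]
  have h1 := Nat.card_congr (Subgroup.subgroupOfEquivOfLe hPC).toEquiv
  have h2 : Nat.card (P : Subgroup G) = p := by rw [hPz, Nat.card_zpowers, hz]
  exact h1.trans h2

theorem zp_order (hz : orderOf z = p) (i : ZMod p) : ∃ k : ℕ, orderOf (zp p z i) = p ^ k := by
  have h1 : orderOf (zp p z i) ∣ p := by
    have h9 : orderOf (z ^ i.val) ∣ orderOf z := orderOf_pow_dvd i.val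
    rw [hz] at h9
    exact h9
  rcases (Nat.dvd_prime hp.out).1 h1 with h | h
  · exact ⟨0, by rw [h, pow_zero]⟩
  · exact ⟨1, by rw [h, pow_one]⟩

theorem zp_order' (hz : orderOf z = p) {i : ZMod p} (hi : i ≠ 0) : orderOf (zp p z i) = p := by
  have h1 : orderOf (zp p z i) ∣ p := by
    have h9 : orderOf (z ^ i.val) ∣ orderOf z := orderOf_pow_dvd i.val
    rw [hz] at h9
    exact h9
  rcases (Nat.dvd_prime hp.out).1 h1 with h | h
  · exfalso
    rw [orderOf_eq_one_iff, zp_eq_one hz] at h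
    exact hi h
  · exact h

open Classical in
/-- the kernel of the principal block on P -/
theorem kernel (hM : IsPModular p M) [Fintype (IrrCharacter G)] (hz : orderOf z = p)
    (hsyl : ¬ p ∣ (Subgroup.zpowers z).index) (i j : ZMod p) (hi : i ≠ 0) (hj : j ≠ 0) :
    ∑ χ : IrrCharacter G, (if χ ∈ principalBlock M G then
      (χ : G → ℂ) (zp p z i) * conj ((χ : G → ℂ) (zp p z j)) else 0) =
      if (∃ h ∈ (om hz).range, j = (h : ZMod p) * i) then (p : ℂ) else 0 := by
  haveI := hM.2.1
  rw [← if_congr (isConj_iff_om hz hi (j := j)) rfl rfl]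
  split_ifs with h
  · obtain ⟨K, hK, hKp, hKi⟩ := complement hz hsyl hi
    have h1 := principal_norm_compl hM (zp_order hz i) hK hKp ⟨1, by rw [hKi, pow_one]⟩ 1 (by
      rw [orderOf_one]; intro h; exact hp.out.one_lt.ne' (Nat.dvd_one.1 h))
    rw [hKi] at h1
    rw [← h1]
    refine Finset.sum_congr rfl fun χ _ => ?_
    rw [Subgroup.coe_one, mul_one, IsClass.eq_of_isConj (irr_class χ.2) h]
  · have hself : ∀ k : ZMod p, IsPPart p (zp p z k) (zp p z k) := fun k =>
      ⟨1, mul_one _, Commute.one_right _, zp_order hz k, by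
        rw [orderOf_one]; intro h; exact hp.out.one_lt.ne' (Nat.dvd_one.1 h)⟩
    have h1 := block_orth hM (hself i) (hself j) h (principal_isPBlock (M := M) (G := G))
    refine Eq.trans (Finset.sum_congr rfl fun χ _ => ?_) h1
    rw [IsChar.inv_eq_conj (isChar_of_irr χ.2)]

/-- characters of the principal block are constant on the section of `x` in `C(P)` -/
theorem section_const (hM : IsPModular p M) (hz : orderOf z = p)
    (hsyl : ¬ p ∣ (Subgroup.zpowers z).index) {χ : IrrCharacter G} (hχ : χ ∈ principalBlock M G)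
    {i : ZMod p} (hi : i ≠ 0) {y : G} (hy : y ∈ Subgroup.centralizer ({zp p z i} : Set G))
    (hyp : ¬ p ∣ orderOf y) : (χ : G → ℂ) (zp p z i * y) = (χ : G → ℂ) (zp p z i) := by
  classical
  haveI : Fintype (Subgroup.centralizer ({zp p z i} : Set G)) := Fintype.ofFinite _
  haveI : Fintype (IrrCharacter (Subgroup.centralizer ({zp p z i} : Set G))) := Fintype.ofFinite _
  obtain ⟨K, hK, hKp, hKi⟩ := complement hz hsyl hi
  have hyp' : ¬ p ∣ orderOf (⟨y, hy⟩ : Subgroup.centralizer ({zp p z i} : Set G)) := by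
    rwa [Subgroup.orderOf_mk]
  have h1p : ¬ p ∣ orderOf (1 : Subgroup.centralizer ({zp p z i} : Set G)) := by
    rw [orderOf_one]; intro h; exact hp.out.one_lt.ne' (Nat.dvd_one.1 h)
  have h1 := principal_blockPart hM hχ (zp_order hz i) ⟨y, hy⟩ hyp'
  have h2 := principal_blockPart hM hχ (zp_order hz i) 1 h1p
  have h3 : (χ : G → ℂ) (zp p z i * ((1 : Subgroup.centralizer ({zp p z i} : Set G)) : G)) =
      (χ : G → ℂ) (zp p z i) := by rw [Subgroup.coe_one, mul_one]
  rw [← h3, h2]
  refine h1.trans ?_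
  unfold blockPart
  refine finsum_congr fun ψ => finsum_congr fun hψ => ?_
  have h4 := principal_ker hM K hKp hψ
  have h5 := h4 _ (regular_mem hM.1 ⟨1, by rw [hKi, pow_one]⟩ hyp')
  rw [h5]

end structure'

section main

variable {z : G}

open Classical in
/-- orthogonality of the multiplicity vectors to p-regular elements -/
theorem vv_regular (hM : IsPModular p M) [Fintype (IrrCharacter G)] (hz : orderOf z = p) (hzp : z ^ p = 1)
    (a : ZMod p) {g : G} (hg : ¬ p ∣ orderOf g) :
    ∑ χ : IrrCharacter G, (if χ ∈ principalBlock M G then (vv hzp χ a : ℂ) * (χ : G → ℂ) g else 0) = 0 := by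
  haveI := hM.2.1
  have h1 : ∀ χ : IrrCharacter G, (if χ ∈ principalBlock M G then (vv hzp χ a : ℂ) * (χ : G → ℂ) g else 0) =
      (p : ℂ)⁻¹ * ∑ i : ZMod p, (1 - ee p (-(a * i))) *
        (if χ ∈ principalBlock M G then (χ : G → ℂ) (zp p z i) * (χ : G → ℂ) g else 0) := by
    intro χ
    split_ifs
    · rw [vv_eq, mul_assoc, Finset.sum_mul]
      congr 1
      refine Finset.sum_congr rfl fun i _ => ?_
      ring
    · simp
  rw [Finset.sum_congr rfl fun χ _ => h1 χ, ← Finset.mul_sum, Finset.sum_comm]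
  have h2 : ∀ i : ZMod p, ∑ χ : IrrCharacter G, (1 - ee p (-(a * i))) *
        (if χ ∈ principalBlock M G then (χ : G → ℂ) (zp p z i) * (χ : G → ℂ) g else 0) = 0 := by
    intro i
    rw [← Finset.mul_sum]
    by_cases hi : i = 0
    · subst hi
      rw [mul_zero, neg_zero, ee_zero, sub_self, zero_mul]
    · rw [weak_orth' hM (principal_isPBlock (M := M) (G := G)) g (zp p z i) hg
        (by rw [zp_order' hz hi]), mul_zero]
  rw [Finset.sum_eq_zero fun i _ => h2 i, mul_zero]

theorem vv_triv (hzp : z ^ p = 1) (a : (ZMod p)ˣ) : vv hzp (triv G) a = 1 := by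
  have h1 : (vv hzp (triv G) a : ℂ) = 1 := by
    rw [vv_eq]
    simp only [triv_coe, one_mul]
    have h2 : ∀ i : ZMod p, (1 - ee p (-((a : ZMod p) * i))) = ee p (0 * i) - ee p ((-(a : ZMod p)) * i) := by
      intro i
      rw [zero_mul, ee_zero, neg_mul]
    rw [Finset.sum_congr rfl fun i _ => h2 i, Finset.sum_sub_distrib, sum_ee, sum_ee, if_pos rfl,
      if_neg (neg_ne_zero.2 a.ne_zero), sub_zero, inv_mul_cancel₀ (p_ne (p := p))]
  exact_mod_cast h1

theorem class_mul (hz : orderOf z = p) (χ : IrrCharacter G) {h : (ZMod p)ˣ} (hh : h ∈ (om hz).range)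
    (i : ZMod p) : (χ : G → ℂ) (zp p z (h * i)) = (χ : G → ℂ) (zp p z i) := by
  obtain ⟨n, rfl⟩ := hh
  rw [← om_spec, irr_class χ.2]

theorem vv_coset (hz : orderOf z = p) (hzp : z ^ p = 1) (χ : IrrCharacter G) {a b : (ZMod p)ˣ}
    (hab : (a : (ZMod p)ˣ ⧸ (om hz).range) = b) : vv hzp χ a = vv hzp χ b := by
  have h1 : a⁻¹ * b ∈ (om hz).range := QuotientGroup.eq.1 hab
  have h2 : (b : ZMod p) = ((a⁻¹ * b : (ZMod p)ˣ) : ZMod p) * (a : ZMod p) := by
    rw [← Units.val_mul]; congr 1; rw [mul_comm a⁻¹ b]; group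
  rw [h2, vv_mul hzp χ _ (class_mul hz χ h1)]

/-- a character of the principal block does not vanish on P -/
theorem vv_ne_zero (hM : IsPModular p M) (hz : orderOf z = p) (hzp : z ^ p = 1)
    (hsyl : ¬ p ∣ (Subgroup.zpowers z).index) {χ : IrrCharacter G} (hχ : χ ∈ principalBlock M G) :
    ∃ a : (ZMod p)ˣ, vv hzp χ a ≠ 0 := by
  by_contra hcon
  push Not at hcon
  have h0 : ∀ a : ZMod p, vv hzp χ a = 0 := by
    intro a
    by_cases ha : a = 0
    · rw [ha, vv_zero]
    · exact hcon (Units.mk0 a ha)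
  have h1 : (χ : G → ℂ) 1 = (p : ℂ) * mu hzp χ 0 := by
    rw [char_one_eq hzp χ, Finset.sum_eq_zero fun a _ => by rw [h0 a]; simp, sub_zero]
  have h2 : charDegree (χ : G → ℂ) = p * mu hzp χ 0 := by
    have := charDegree_eq χ.2
    rw [h1] at this
    exact_mod_cast this
  have hdvd : charDegree (χ : G → ℂ) ∣ Nat.card G := by
    obtain ⟨n, _, h1, h2⟩ := Cfsg.Agent.H3.CharInt.IsIrr.dvd_card χ.2
    have : charDegree (χ : G → ℂ) = n := by
      have := (charDegree_eq χ.2).trans h1
      exact_mod_cast this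
    rw [this]; exact h2
  have h3 : ¬ p ∣ Nat.card G / charDegree (χ : G → ℂ) := by
    intro h4
    apply hsyl
    obtain ⟨c, hc⟩ := hdvd
    have hd0 := charDegree_pos χ.2
    rw [hc, Nat.mul_div_cancel_left _ hd0] at h4
    have h5 := (Subgroup.zpowers z).card_mul_index
    rw [Nat.card_zpowers, hz, hc, h2, mul_assoc] at h5
    have h6 := Nat.eq_of_mul_eq_mul_left hp.out.pos h5
    rw [h6]
    exact h4.mul_left _
  have h4 := (Cfsg.Agent.S0914.result p M hM χ).1 h3
  have h5 : triv G ∈ blockOf M (χ : G → ℂ) := by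
    haveI := hM.2.1
    rw [mem_blockOf]
    exact sameBlock_symm (χ := triv G) hχ
  rw [h4, Set.mem_singleton_iff] at h5
  have h6 := vv_triv hzp (1 : (ZMod p)ˣ)
  rw [h5, h0] at h6
  exact zero_ne_one h6

end main

end Cfsg.Agent.H9.BrMain
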