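import Mathlib
import Cfsg.Agent.H9_BrMain

/-!
H9_BrThm: Brauer's theorem on the principal block when the Sylow p-subgroups have order p.
-/

set_option autoImplicit false
set_option linter.unusedSectionVars false

namespace Cfsg.Agent.H9.BrThm

open Cfsg Cfsg.Agent.H3.CharIrr Cfsg.Agent.H3.CharComplete Cfsg.Agent.H3.CharInd
  Cfsg.Agent.H3.CharBasic Cfsg.Agent.H10.BlockLoc Cfsg.Agent.H10.Char Cfsg.Agent.H10.PPart
  Cfsg.Agent.H10.BlockAlg Cfsg.Agent.H10.BlockIdem Cfsg.Agent.H10.BlockHZ Cfsg.Agent.H10.RegPart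
  Cfsg.Agent.H10.BlockOrth Cfsg.Agent.H10.BlockKer Cfsg.Agent.H10.BlockSMT2 Cfsg.Agent.H10.BlockV4
  Cfsg.Agent.H10.BlockCen Cfsg.Agent.H10.BlockPrin
  Cfsg.Agent.H25.Brauer Cfsg.Agent.H9.BrRed Cfsg.Agent.H9.BrCount Cfsg.Agent.H9.BrCount2
  Cfsg.Agent.H9.BrVec Cfsg.Agent.H9.BrMain
open scoped ComplexConjugate

variable {G : Type*} [Group G] [Fintype G] {p : ℕ} [hp : Fact p.Prime] {M : Ideal AlgInt} {z : G}

theorem card_J (hz : orderOf z = p) :
    Nat.card (om hz).range * Nat.card ((ZMod p)ˣ ⧸ (om hz).range) = p - 1 := by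
  have h1 := (om hz).range.card_mul_index
  have h2 : Nat.card (ZMod p)ˣ = p - 1 := by
    rw [Nat.card_eq_fintype_card, ZMod.card_units]
  rw [h2] at h1
  exact h1

theorem coset_iff (H : Subgroup (ZMod p)ˣ) (i j : (ZMod p)ˣ ⧸ H) :
    (∃ h ∈ H, ((Quotient.out i : (ZMod p)ˣ) : ZMod p) = (h : ZMod p) * ((Quotient.out j : (ZMod p)ˣ) : ZMod p)) ↔
      i = j := by
  constructor
  · rintro ⟨h, hh, heq⟩
    have h2 : (Quotient.out i : (ZMod p)ˣ) = h * (Quotient.out j : (ZMod p)ˣ) :=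
      Units.ext (by rw [heq, Units.val_mul])
    have h3 : (Quotient.out i : (ZMod p)ˣ)⁻¹ * (Quotient.out j : (ZMod p)ˣ) ∈ H := by
      have h4 : (Quotient.out i : (ZMod p)ˣ)⁻¹ * (Quotient.out j : (ZMod p)ˣ) = h⁻¹ := by
        rw [h2, mul_inv_rev, mul_comm (Quotient.out j : (ZMod p)ˣ)⁻¹ h⁻¹, mul_assoc, inv_mul_cancel, mul_one]
      rw [h4]; exact inv_mem hh
    have h5 := QuotientGroup.eq.2 h3
    rwa [QuotientGroup.out_eq', QuotientGroup.out_eq'] at h5
  · rintro rfl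
    exact ⟨1, one_mem _, by rw [Units.val_one, one_mul]⟩

theorem gram_block (hM : IsPModular p M) [Fintype (IrrCharacter G)] (hz : orderOf z = p) (hzp : z ^ p = 1)
    (hsyl : ¬ p ∣ (Subgroup.zpowers z).index) [DecidablePred fun χ : IrrCharacter G => χ ∈ principalBlock M G]
    (i j : (ZMod p)ˣ ⧸ (BrMain.om hz).range) [Decidable (i = j)] :
    ∑ χ ∈ Finset.univ.filter (fun χ : IrrCharacter G => χ ∈ principalBlock M G),
      vv hzp χ ((Quotient.out i : (ZMod p)ˣ) : ZMod p) * vv hzp χ ((Quotient.out j : (ZMod p)ˣ) : ZMod p) =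
      (Nat.card (BrMain.om hz).range : ℤ) + if i = j then 1 else 0 := by
  classical
  have h1 := gram hzp (Finset.univ.filter (fun χ : IrrCharacter G => χ ∈ principalBlock M G)) (om hz).range
    (by
      intro i j hi hj
      rw [Finset.sum_filter]
      convert kernel hM hz hsyl i j hi hj) (a := ((Quotient.out i : (ZMod p)ˣ) : ZMod p))
      (b := ((Quotient.out j : (ZMod p)ˣ) : ZMod p))
    (Units.ne_zero _) (Units.ne_zero _)
  rw [h1]
  have hiff := coset_iff (BrMain.om hz).range i j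
  by_cases hij : i = j
  · rw [if_pos hij, if_pos (hiff.2 hij)]
  · rw [if_neg hij, if_neg (fun h => hij (hiff.1 h))]

theorem card_principal (hM : IsPModular p M) (hz : orderOf z = p) (hzp : z ^ p = 1)
    (hsyl : ¬ p ∣ (Subgroup.zpowers z).index) :
    Nat.card (om hz).range + Nat.card ((ZMod p)ˣ ⧸ (om hz).range) ≤ Nat.card (principalBlock M G) := by
  classical
  haveI := hM.2.1
  haveI := charP_of hM
  letI : Field (AlgInt ⧸ M) := Ideal.Quotient.field M
  haveI : Fintype (IrrCharacter G) := Fintype.ofFinite _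
  set e := Nat.card (om hz).range with he
  haveI : Fintype ((ZMod p)ˣ ⧸ (om hz).range) := Fintype.ofFinite _
  let c : ZMod p →+* AlgInt ⧸ M := ZMod.castHom (dvd_refl p) (AlgInt ⧸ M)
  have hcinj : Function.Injective c := c.injective
  obtain ⟨h0, hh0⟩ : ∃ h : (om hz).range, ∀ x, x ∈ Subgroup.zpowers h := IsCyclic.exists_generator
  have hord : orderOf h0 = e := orderOf_eq_card_of_forall_mem_zpowers hh0
  have hmain := card_ge (M := M) (p := p) hM (P := Subgroup.zpowers z) (by rw [Nat.card_zpowers, hz]) hsyl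
    (ι := Fin e) (κ := (ZMod p)ˣ ⧸ (om hz).range)
    (fun i n => if hn : n ∈ Subgroup.normalizer (Subgroup.zpowers z : Set G) then
      (c ((om hz ⟨n, hn⟩ : (ZMod p)ˣ) : ZMod p)) ^ (i : ℕ) else 1) ?_ ?_ ?_
    (fun j χ => ((vv hzp χ ((j.out : (ZMod p)ˣ) : ZMod p) : ℤ) : AlgInt ⧸ M)) ?_ ?_
  · rw [Fintype.card_fin, ← Nat.card_eq_fintype_card] at hmain
    exact hmain
  · intro i n hn m hm
    rw [dif_pos hn, dif_pos hm, dif_pos (mul_mem hn hm)]
    have h1 : (⟨n * m, mul_mem hn hm⟩ : Subgroup.normalizer (Subgroup.zpowers z : Set G)) = ⟨n, hn⟩ * ⟨m, hm⟩ := rfl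
    rw [h1, map_mul, Units.val_mul, map_mul, mul_pow]
  · intro i n hn
    have hnN : n ∈ Subgroup.normalizer (Subgroup.zpowers z : Set G) :=
      Subgroup.centralizer_le_normalizer _ hn
    rw [dif_pos hnN]
    have h1 : (⟨n, hnN⟩ : Subgroup.normalizer (Subgroup.zpowers z : Set G)) ∈ (om hz).ker := by
      rw [ker_om, Subgroup.mem_subgroupOf]; exact hn
    rw [(MonoidHom.mem_ker).1 h1, Units.val_one, map_one, one_pow]
  · intro i j hij
    obtain ⟨⟨n, hn⟩, hn0⟩ := h0.2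
    refine ⟨n, hn, ?_⟩
    rw [dif_pos hn, dif_pos hn, hn0]
    intro heq
    apply hij
    rw [← map_pow, ← map_pow] at heq
    have h1 := hcinj heq
    rw [← Units.val_pow_eq_pow_val, ← Units.val_pow_eq_pow_val] at h1
    have h2 : h0 ^ (i : ℕ) = h0 ^ (j : ℕ) := Subtype.ext (Units.ext h1)
    have h3 := pow_injOn_Iio_orderOf (x := h0) (by rw [Set.mem_Iio, hord]; exact i.2)
      (by rw [Set.mem_Iio, hord]; exact j.2) h2
    exact Fin.ext h3
  · intro j g hg
    have h1 := vv_regular hM hz hzp ((j.out : (ZMod p)ˣ) : ZMod p) hg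
    have h2 := congrArg (rd M) h1
    rw [rd_zero, rd_sum M] at h2
    · refine Eq.trans ?_ h2
      refine Finset.sum_congr rfl fun χ _ => ?_
      split_ifs
      · rw [rd_mul M (isIntegral_intCast' _) (irr_integral χ g), rd_intCast]; rfl
      · exact (rd_zero M).symm
    · intro χ _
      split_ifs
      · exact (isIntegral_intCast' _).mul (irr_integral χ g)
      · exact isIntegral_zero
  · intro c' hc' i
    have h1 : ∑ j, c' j = 0 := by
      have := hc' (triv G) triv_mem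
      simp only [vv_triv, Int.cast_one, mul_one] at this
      exact this
    have h2 : ∑ χ ∈ Finset.univ.filter (fun χ : IrrCharacter G => χ ∈ principalBlock M G),
        ((vv hzp χ (i.out : (ZMod p)ˣ) : ℤ) : AlgInt ⧸ M) *
          ∑ j, c' j * ((vv hzp χ (j.out : (ZMod p)ˣ) : ℤ) : AlgInt ⧸ M) = 0 := by
      apply Finset.sum_eq_zero
      intro χ hχ
      rw [hc' χ (Finset.mem_filter.1 hχ).2, mul_zero]
    simp only [Finset.mul_sum] at h2
    rw [Finset.sum_comm] at h2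
    have h3 : ∀ j, ∑ χ ∈ Finset.univ.filter (fun χ : IrrCharacter G => χ ∈ principalBlock M G),
        ((vv hzp χ (i.out : (ZMod p)ˣ) : ℤ) : AlgInt ⧸ M) *
          (c' j * ((vv hzp χ (j.out : (ZMod p)ˣ) : ℤ) : AlgInt ⧸ M)) =
        c' j * (e : AlgInt ⧸ M) + c' j * (if i = j then 1 else 0) := by
      intro j
      have h4 := congrArg (fun x : ℤ => (x : AlgInt ⧸ M)) (gram_block hM hz hzp hsyl i j)
      simp only [Int.cast_add, Int.cast_sum, Int.cast_mul, Int.cast_natCast] at h4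
      have h5 : (((if i = j then 1 else 0 : ℤ)) : AlgInt ⧸ M) = if i = j then 1 else 0 := by
        split_ifs
        · exact Int.cast_one
        · exact Int.cast_zero
      rw [h5] at h4
      rw [← mul_add, ← h4, Finset.mul_sum]
      refine Finset.sum_congr rfl fun χ _ => ?_
      ring
    rw [Finset.sum_congr rfl fun j _ => h3 j, Finset.sum_add_distrib, ← Finset.sum_mul, h1, zero_mul,
      zero_add] at h2
    simpa using h2

/-- Brauer's theorem -/
theorem brauer (hM : IsPModular p M) (hz : orderOf z = p) (hzp : z ^ p = 1)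
    (hsyl : ¬ p ∣ (Subgroup.zpowers z).index) :
    ∃ (X Y : Finset (IrrCharacter G)) (δ : IrrCharacter G → ℤ) (ε : ℤ)
      (L : (ZMod p)ˣ ⧸ (om hz).range → IrrCharacter G),
      (∀ χ, χ ∈ principalBlock M G ↔ χ ∈ X ∨ χ ∈ Y) ∧ Disjoint X Y ∧ triv G ∈ X ∧
      X.card = Nat.card (om hz).range ∧ Y.card = Nat.card ((ZMod p)ˣ ⧸ (om hz).range) ∧
      (∀ χ ∈ X, (δ χ = 1 ∨ δ χ = -1) ∧ ∀ a : (ZMod p)ˣ, vv hzp χ a = δ χ) ∧ (ε = 1 ∨ ε = -1) ∧
      Function.Injective L ∧ (∀ χ, χ ∈ Y ↔ ∃ j, L j = χ) ∧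
      (∀ j (a : (ZMod p)ˣ), (a : (ZMod p)ˣ ⧸ (om hz).range) = j → vv hzp (L j) a = -ε) ∧
      (∀ j (a : (ZMod p)ˣ), (a : (ZMod p)ˣ ⧸ (om hz).range) ≠ j → vv hzp (L j) a = 0) ∧
      (∀ j g, ¬ p ∣ orderOf g → (ε : ℂ) * (L j : G → ℂ) g = ∑ χ ∈ X, (δ χ : ℂ) * (χ : G → ℂ) g) := by
  classical
  haveI := hM.2.1
  haveI : Fintype (IrrCharacter G) := Fintype.ofFinite _
  haveI : Fintype ((ZMod p)ˣ ⧸ (om hz).range) := Fintype.ofFinite _
  set S := Finset.univ.filter (fun χ : IrrCharacter G => χ ∈ principalBlock M G) with hS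
  have hScard : S.card = Nat.card (principalBlock M G) := by
    rw [Nat.card_eq_fintype_card, Fintype.card_subtype]
  have hout : ∀ (χ : IrrCharacter G) (a : (ZMod p)ˣ),
      vv hzp χ a = vv hzp χ ((a : (ZMod p)ˣ ⧸ (om hz).range).out : (ZMod p)ˣ) := fun χ a =>
    vv_coset hz hzp χ (QuotientGroup.out_eq' _).symm
  obtain ⟨X, Y, hXY, hdis, h1X, hXc, hYc, ⟨δ, hδ⟩, L, s, hLinj, hLY, hs, hL⟩ :=
    Cfsg.Agent.H9.BrComb.main S (fun χ (j : (ZMod p)ˣ ⧸ (om hz).range) => vv hzp χ ((j.out : (ZMod p)ˣ) : ZMod p))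
      (Nat.card (om hz).range) (fun i j => gram_block hM hz hzp hsyl i j) (by
        intro χ hχ
        obtain ⟨a, ha⟩ := vv_ne_zero hM hz hzp hsyl (Finset.mem_filter.1 hχ).2
        exact ⟨(a : (ZMod p)ˣ ⧸ (om hz).range), by rwa [← hout]⟩) (by
        rw [hScard, ← Nat.card_eq_fintype_card]
        exact card_principal hM hz hzp hsyl) (triv G) (Finset.mem_filter.2 ⟨Finset.mem_univ _, triv_mem⟩)
      (by intro i j; rw [vv_triv, vv_triv]) Nat.card_pos
  have hmem : ∀ χ, χ ∈ principalBlock M G ↔ χ ∈ X ∨ χ ∈ Y := by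
    intro χ
    rw [← Finset.mem_union, hXY, hS, Finset.mem_filter]
    simp
  have hYsum : ∀ F : IrrCharacter G → ℂ, ∑ χ ∈ Y, F χ = ∑ j, F (L j) := by
    intro F
    have : Y = Finset.univ.image L := by
      ext y; rw [hLY, Finset.mem_image]; simp
    rw [this, Finset.sum_image fun a _ b _ h => hLinj h]
  -- relations
  have hrel : ∀ j g, ¬ p ∣ orderOf g → ∑ χ ∈ X, (δ χ : ℂ) * (χ : G → ℂ) g + (s j : ℂ) * (L j : G → ℂ) g = 0 := by
    intro j g hg
    have h1 := vv_regular hM hz hzp ((j.out : (ZMod p)ˣ) : ZMod p) hg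
    rw [← Finset.sum_filter, ← hS, ← hXY, Finset.sum_union hdis, hYsum, Finset.sum_eq_single j] at h1
    · rw [← h1]
      congr 1
      · refine Finset.sum_congr rfl fun χ hχ => ?_
        rw [(hδ χ hχ).2 j]
      · have := hL j j
        rw [if_pos rfl] at this
        rw [this]
    · intro i _ hi
      have := hL j i
      rw [if_neg hi.symm] at this
      rw [this]; simp
    · intro h; exact absurd (Finset.mem_univ _) h
  -- the sign is constant
  have h1p : ¬ p ∣ orderOf (1 : G) := by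
    rw [orderOf_one]; intro h; exact hp.out.one_lt.ne' (Nat.dvd_one.1 h)
  have hsconst : ∀ i j, s i = s j := by
    intro i j
    have hi := hrel i 1 h1p
    have hj := hrel j 1 h1p
    obtain ⟨n, hn0, hn⟩ := irr_one (L i).2
    obtain ⟨m, hm0, hm⟩ := irr_one (L j).2
    rw [hn] at hi
    rw [hm] at hj
    have h1 : (s i : ℂ) * n = (s j : ℂ) * m := by linear_combination hi - hj
    have h2 : s i * n = s j * m := by exact_mod_cast h1
    rcases hs i with h | h <;> rcases hs j with h' | h' <;> rw [h, h'] at h2 ⊢ <;> omega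
  have j0 : (ZMod p)ˣ ⧸ (om hz).range := ((1 : (ZMod p)ˣ) : (ZMod p)ˣ ⧸ (om hz).range)
  refine ⟨X, Y, δ, -s j0, L, hmem, hdis, h1X, hXc, ?_, ?_, ?_, hLinj, hLY, ?_, ?_, ?_⟩
  · rw [hYc, Nat.card_eq_fintype_card]
  · intro χ hχ
    refine ⟨(hδ χ hχ).1, fun a => ?_⟩
    rw [hout, (hδ χ hχ).2]
  · rcases hs j0 with h | h
    · right; rw [h]
    · left; rw [h]; norm_num
  · intro j a haj
    rw [hout, haj, neg_neg, ← hsconst j j0]
    have := hL j j
    rwa [if_pos rfl] at this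
  · intro j a haj
    rw [hout]
    have := hL (a : (ZMod p)ˣ ⧸ (om hz).range) j
    rwa [if_neg haj] at this
  · intro j g hg
    have := hrel j g hg
    rw [hsconst j j0] at this
    push_cast
    linear_combination -this

end Cfsg.Agent.H9.BrThm
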