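import Mathlib
import Cfsg.Agent.H9_BrThm

/-!
H9_BrCor: degrees and values of the characters of the principal block.
-/

set_option autoImplicit false
set_option linter.unusedSectionVars false

namespace Cfsg.Agent.H9.BrCor

open Cfsg Cfsg.Agent.H3.CharIrr Cfsg.Agent.H3.CharComplete Cfsg.Agent.H3.CharInd
  Cfsg.Agent.H3.CharBasic Cfsg.Agent.H10.BlockLoc Cfsg.Agent.H10.Char Cfsg.Agent.H10.PPart
  Cfsg.Agent.H10.BlockKer Cfsg.Agent.H9.BrVec
open scoped ComplexConjugate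

variable {G : Type*} [Group G] [Fintype G] {p : ℕ} [hp : Fact p.Prime] {M : Ideal AlgInt} {z : G}

theorem sum_units {A : Type*} [AddCommMonoid A] (f : ZMod p → A) (h0 : f 0 = 0) :
    ∑ a : ZMod p, f a = ∑ a : (ZMod p)ˣ, f a := by
  classical
  rw [← Finset.add_sum_erase _ _ (Finset.mem_univ (0 : ZMod p)), h0, zero_add]
  refine (Finset.sum_bij (fun (a : (ZMod p)ˣ) _ => (a : ZMod p)) ?_ ?_ ?_ ?_).symm
  · intro a _
    exact Finset.mem_erase.2 ⟨a.ne_zero, Finset.mem_univ _⟩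
  · intro a _ b _ h; exact Units.ext h
  · intro b hb
    exact ⟨Units.mk0 b (Finset.ne_of_mem_erase hb), Finset.mem_univ _, rfl⟩
  · intro a _; rfl

theorem card_units' : Fintype.card (ZMod p)ˣ = p - 1 := ZMod.card_units p

/-- nonexceptional characters: values and degree -/
theorem nonexc_value (hzp : z ^ p = 1) {χ : IrrCharacter G} {d : ℤ} (h : ∀ a : (ZMod p)ˣ, vv hzp χ a = d)
    {i : ZMod p} (hi : i ≠ 0) : (χ : G → ℂ) (zp p z i) = d := by
  rw [char_eq_vv hzp χ hi, sum_units _ (by rw [vv_zero]; simp)]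
  have h1 : ∑ a : (ZMod p)ˣ, (vv hzp χ (a : ZMod p) : ℂ) * ee p ((a : ZMod p) * i) =
      (d : ℂ) * ∑ a : (ZMod p)ˣ, ee p ((a : ZMod p) * i) := by
    rw [Finset.mul_sum]
    exact Finset.sum_congr rfl fun a _ => by rw [h a]
  have h2 : ∑ a : ZMod p, (ee p (a * i) - if a = 0 then 1 else 0) = ∑ a : (ZMod p)ˣ, ee p ((a : ZMod p) * i) := by
    rw [sum_units _ (by rw [zero_mul, ee_zero]; simp)]
    refine Finset.sum_congr rfl fun a _ => ?_
    rw [if_neg a.ne_zero, sub_zero]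
  have h3 : ∑ a : ZMod p, ee p (a * i) = 0 := by
    have := sum_ee (p := p) i
    rw [if_neg hi] at this
    rw [← this]
    exact Finset.sum_congr rfl fun a _ => by rw [mul_comm]
  rw [Finset.sum_sub_distrib, h3, Finset.sum_ite_eq' Finset.univ (0 : ZMod p), if_pos (Finset.mem_univ _)] at h2
  rw [h1, ← h2]; ring

theorem nonexc_degree (hzp : z ^ p = 1) {χ : IrrCharacter G} {d : ℤ} (h : ∀ a : (ZMod p)ˣ, vv hzp χ a = d) :
    (charDegree (χ : G → ℂ) : ℤ) = p * (mu hzp χ 0 - d) + d := by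
  have h1 := char_one_eq hzp χ
  rw [sum_units _ (by rw [vv_zero]; simp), Finset.sum_congr rfl (fun a _ => by rw [h a]),
    Finset.sum_const, Finset.card_univ, card_units', ← charDegree_eq χ.2] at h1
  have h2 : ((p - 1 : ℕ) : ℂ) = (p : ℂ) - 1 := by
    rw [Nat.cast_sub hp.out.one_le, Nat.cast_one]
  rw [nsmul_eq_mul, h2] at h1
  have h3 : ((charDegree (χ : G → ℂ) : ℤ) : ℂ) = ((p * (mu hzp χ 0 - d) + d : ℤ) : ℂ) := by
    push_cast
    rw [h1]; ring
  exact_mod_cast h3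

open Classical in
theorem card_coset (H : Subgroup (ZMod p)ˣ) (j : (ZMod p)ˣ ⧸ H) :
    (Finset.univ.filter (fun a : (ZMod p)ˣ => (a : (ZMod p)ˣ ⧸ H) = j)).card = Nat.card H := by
  obtain ⟨b, rfl⟩ := QuotientGroup.mk_surjective j
  rw [Nat.card_eq_fintype_card, ← Finset.card_univ]
  symm
  refine Finset.card_bij (fun h _ => b * (h : (ZMod p)ˣ)) ?_ ?_ ?_
  · intro h _
    rw [Finset.mem_filter]
    exact ⟨Finset.mem_univ _, QuotientGroup.mk_mul_of_mem _ h.2⟩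
  · intro a _ c _ hac
    exact Subtype.ext (mul_left_cancel hac)
  · intro a ha
    rw [Finset.mem_filter] at ha
    refine ⟨⟨b⁻¹ * a, ?_⟩, Finset.mem_univ _, by simp⟩
    rw [← QuotientGroup.eq]; exact ha.2.symm

/-- exceptional characters: degree -/
theorem exc_degree (hzp : z ^ p = 1) (H : Subgroup (ZMod p)ˣ) {χ : IrrCharacter G} {s : ℤ} (j : (ZMod p)ˣ ⧸ H)
    (h : ∀ a : (ZMod p)ˣ, (a : (ZMod p)ˣ ⧸ H) = j → vv hzp χ a = -s)
    (h' : ∀ a : (ZMod p)ˣ, (a : (ZMod p)ˣ ⧸ H) ≠ j → vv hzp χ a = 0) :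
    (charDegree (χ : G → ℂ) : ℤ) = p * mu hzp χ 0 + s * Nat.card H := by
  classical
  have h1 := char_one_eq hzp χ
  rw [sum_units _ (by rw [vv_zero]; simp), ← charDegree_eq χ.2] at h1
  have h2 : ∑ a : (ZMod p)ˣ, (vv hzp χ (a : ZMod p) : ℂ) = -(s : ℂ) * Nat.card H := by
    have h3 : ∀ a : (ZMod p)ˣ, (vv hzp χ (a : ZMod p) : ℂ) =
        if (a : (ZMod p)ˣ ⧸ H) = j then -(s : ℂ) else 0 := by
      intro a
      split_ifs with ha
      · rw [h a ha]; push_cast; rfl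
      · rw [h' a ha]; simp
    rw [Finset.sum_congr rfl fun a _ => h3 a, ← Finset.sum_filter, Finset.sum_const, card_coset,
      nsmul_eq_mul]; ring
  rw [h2] at h1
  have h3 : ((charDegree (χ : G → ℂ) : ℤ) : ℂ) = ((p * mu hzp χ 0 + s * Nat.card H : ℤ) : ℂ) := by
    push_cast
    rw [h1]; ring
  exact_mod_cast h3

end Cfsg.Agent.H9.BrCor
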