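import Cfsg.Statements.S4441
import Mathlib
import Cfsg.Agent.H9_BrCor

set_option autoImplicit false
open Cfsg

namespace Cfsg.Agent.S4441

open Cfsg.Agent.H3.CharIrr Cfsg.Agent.H3.CharComplete Cfsg.Agent.H10.Char Cfsg.Agent.H10.BlockKer
  Cfsg.Agent.H9.BrVec Cfsg.Agent.H9.BrMain Cfsg.Agent.H9.BrThm Cfsg.Agent.H9.BrCor Cfsg.Agent.H10.BlockSMT2

/-- Let p be an odd prime and G a finite group whose Sylow p-subgroup P has order p; let C = C_G(P), N = N_G(P), e the index of C in N and t = (p − 1)/e; fix a maximal ideal M of the algebraic integers containing p and let B₀ be the principal block. Then B₀ is the disjoint union of a set X of e characters and a set Y of t characters such that: each χ ∈ X has a sign ε_χ with χ(1) ≡ ε_χ (mod p) and χ(x y) = ε_χ for every non-identity x ∈ P and every p-regular y ∈ C; all members of Y agree on the p-regular elements of G; there is one sign ε with θ(1) ≡ ε e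 (mod p) for every θ ∈ Y; and for every θ ∈ Y and every p-regular g, ε θ(g) = Σ_{χ ∈ X} ε_χ χ(g). -/
theorem result {G : Type*} [Group G] [Fintype G] (p : ℕ) [Fact p.Prime] (M : Ideal Cfsg.AlgInt) (hM : Cfsg.IsPModular p M) (hodd : p ≠ 2) (P : Sylow p G) (hP : Nat.card P = p) (e : ℕ) (he : (Subgroup.centralizer ((P : Subgroup G) : Set G)).relIndex (Subgroup.normalizer ((P : Subgroup G) : Set G)) = e) : ∃ X Y : Set (Cfsg.IrrCharacter G), Cfsg.principalBlock M G = X ∪ Y ∧ Disjoint X Y ∧ Nat.card X = e ∧ Nat.card Y = (p - 1) / e ∧ ∃ (εX : Cfsg.IrrCharacter G → ℤ) (ε : ℤ), (∀ χ ∈ X, (εX χ = 1 ∨ εX χ = -1) ∧ (Cfsg.charDegree (χ : G → ℂ) : ℤ) ≡ εX χ [ZMOD p] ∧ ∀ x : G, x ∈ (P : Subgroup G) → x ≠ 1 → ∀ y : G, y ∈ Subgroup.centralizer ((P : Subgroup G) : Set G) → ¬ p ∣ orderOf y → (χ : G → ℂ) (x * y) = (εX χ : ℂ)) ∧ (ε = 1 ∨ ε = -1) ∧ (∀ θ ∈ Y, (Cfsg.charDegree (θ : G → ℂ) : ℤ) ≡ ε * (e : ℤ) [ZMOD p])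 ∧ (∀ θ ∈ Y, ∀ θ' ∈ Y, ∀ g : G, ¬ p ∣ orderOf g → (θ : G → ℂ) g = (θ' : G → ℂ) g) ∧ ∀ θ ∈ Y, ∀ g : G, ¬ p ∣ orderOf g → (ε : ℂ) * (θ : G → ℂ) g = ∑ᶠ χ ∈ X, (εX χ : ℂ) * (χ : G → ℂ) g := by
  classical
  haveI : IsCyclic (P : Subgroup G) := isCyclic_of_prime_card hP
  obtain ⟨z0, hz0⟩ := IsCyclic.exists_generator (α := (P : Subgroup G))
  have hzP : Subgroup.zpowers (z0 : G) = (P : Subgroup G) := by
    ext x
    constructor
    · intro hx
      obtain ⟨n, rfl⟩ := Subgroup.mem_zpowers_iff.1 hx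
      exact Subgroup.zpow_mem _ z0.2 n
    · intro hx
      obtain ⟨n, hn⟩ := Subgroup.mem_zpowers_iff.1 (hz0 ⟨x, hx⟩)
      rw [Subgroup.mem_zpowers_iff]
      exact ⟨n, by simpa using congrArg Subtype.val hn⟩
  have hz : orderOf (z0 : G) = p := by
    rw [← Nat.card_zpowers, hzP]; exact hP
  have hzp : (z0 : G) ^ p = 1 := by
    have := pow_orderOf_eq_one (z0 : G)
    rwa [hz] at this
  have hsyl : ¬ p ∣ (Subgroup.zpowers (z0 : G)).index := by
    rw [hzP]; exact P.not_dvd_index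
  have hcard : Nat.card (Cfsg.Agent.H9.BrMain.om hz).range = e := by
    rw [card_range, ← he, hzP]
  obtain ⟨X, Y, δ, ε, L, h1, h2, h3, h4, h5, h6, h7, h8, h9, h10, h11, h12⟩ := brauer hM hz hzp hsyl
  have hmul := card_J hz
  have he0 : 0 < e := by rw [← hcard]; exact Nat.card_pos
  have ht : Nat.card ((ZMod p)ˣ ⧸ (Cfsg.Agent.H9.BrMain.om hz).range) = (p - 1) / e := by
    rw [hcard] at hmul
    rw [← hmul, Nat.mul_div_cancel_left _ he0]
  refine ⟨↑X, ↑Y, ?_, ?_, ?_, ?_, δ, ε, ?_, h7, ?_, ?_, ?_⟩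
  · ext χ
    rw [h1, Set.mem_union, Finset.mem_coe, Finset.mem_coe]
  · exact Finset.disjoint_coe.2 h2
  · rw [Nat.card_coe_set_eq, Set.ncard_coe_finset, h4, hcard]
  · rw [Nat.card_coe_set_eq, Set.ncard_coe_finset, h5, ht]
  · intro χ hχ
    have hX : χ ∈ X := hχ
    refine ⟨(h6 χ hX).1, ?_, ?_⟩
    · rw [nonexc_degree hzp (h6 χ hX).2]
      exact (Int.modEq_iff_dvd.2 ⟨-(mu hzp χ 0 - δ χ), by ring⟩)
    · intro x hx hx1 y hy hyp
      rw [← hzP] at hx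
      obtain ⟨i, rfl⟩ := (mem_zpowers_iff hz x).1 hx
      have hi : i ≠ 0 := by
        rintro rfl; exact hx1 (zp_zero _)
      rw [section_const hM hz hsyl ((h1 χ).2 (Or.inl hX)) hi _ hyp, nonexc_value hzp (h6 χ hX).2 hi]
      rw [Subgroup.mem_centralizer_singleton_iff]
      rw [Subgroup.mem_centralizer_iff] at hy
      exact (hy _ (hzP.le (Subgroup.pow_mem _ (Subgroup.mem_zpowers _) _) : zp p (z0 : G) i ∈ (P : Subgroup G))).symm
  · intro θ hθ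
    obtain ⟨j, rfl⟩ := (h9 θ).1 hθ
    rw [exc_degree hzp _ j (h10 j) (h11 j), hcard]
    exact (Int.modEq_iff_dvd.2 ⟨-(mu hzp (L j) 0), by ring⟩)
  · intro θ hθ θ' hθ' g hg
    obtain ⟨j, rfl⟩ := (h9 θ).1 hθ
    obtain ⟨j', rfl⟩ := (h9 θ').1 hθ'
    have e1 := h12 j g hg
    have e2 := h12 j' g hg
    have hε : (ε : ℂ) ≠ 0 := by
      rcases h7 with h | h <;> rw [h] <;> norm_num
    exact mul_left_cancel₀ hε (e1.trans e2.symm)
  · intro θ hθ g hg
    obtain ⟨j, rfl⟩ := (h9 θ).1 hθ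
    rw [h12 j g hg, finsum_mem_coe_finset]

end Cfsg.Agent.S4441
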