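import Mathlib
import Cfsg.Agent.H4_BRid
import Cfsg.Agent.H4_B0Sec
import Cfsg.Agent.H10_BlockKn
import Cfsg.Agent.S4441

/-! The core-free case of the Brauer-Reynolds theorem. -/

set_option autoImplicit false

namespace Cfsg.Agent.H4.BRcore

open Cfsg Cfsg.Agent.H4.BRgr Cfsg.Agent.H4.BRar
  Cfsg.Agent.H4.BRdata Cfsg.Agent.H4.BRdeg Cfsg.Agent.H4.BRv Cfsg.Agent.H4.BRcase Cfsg.Agent.H4.BRind
  Cfsg.Agent.H4.BRfr Cfsg.Agent.H4.BRgeo Cfsg.Agent.H4.BRavg Cfsg.Agent.H4.BRcnt Cfsg.Agent.H4.BRlast
  Cfsg.Agent.H4.BRid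
open Cfsg.Agent.H10.BlockKer (triv triv_coe principal_isPBlock triv_mem)
open scoped ComplexConjugate

universe u

variable {G : Type u} [Group G] [Fintype G] {p : ℕ} [hp : Fact p.Prime] {P : Sylow p G} {e t n a c : ℕ}

/-- Block data exist. -/
theorem exists_BD (hodd : p ≠ 2) (hP : Nat.card P = p)
    (he : (Subgroup.centralizer ((P : Subgroup G) : Set G)).relIndex
      (Subgroup.normalizer ((P : Subgroup G) : Set G)) = e) (ht : (p - 1) / e = t) :
    ∃ (X Y : Finset (IrrCharacter G)) (δ : IrrCharacter G → ℤ) (ε : ℤ), BD P e t X Y δ ε := by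
  classical
  haveI : Fintype (IrrCharacter G) := Fintype.ofFinite _
  obtain ⟨M, hM⟩ := Cfsg.Agent.H10.BlockKn.exists_modular hp.out
  haveI := hM.2.1
  obtain ⟨X, Y, hB, hd, hX, hY, εX, ε, h1, h2, h3, h4, h5⟩ :=
    Cfsg.Agent.S4441.result p M hM hodd P hP e he
  have hXm : ∀ χ, χ ∈ X.toFinset ↔ χ ∈ X := fun χ => Set.mem_toFinset
  have hYm : ∀ χ, χ ∈ Y.toFinset ↔ χ ∈ Y := fun χ => Set.mem_toFinset
  have hBm : ∀ χ, χ ∈ X.toFinset ∪ Y.toFinset ↔ χ ∈ principalBlock M G := by
    intro χ; rw [Finset.mem_union, hXm, hYm, hB]; rfl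
  refine ⟨X.toFinset, Y.toFinset, εX, ε, ?_⟩
  refine ⟨?_, ?_, ?_, ?_, ?_, ?_, h2, ?_, ?_, ?_, ?_, ?_, ?_⟩
  · rw [Finset.disjoint_left]
    intro χ ha hb
    exact Set.disjoint_left.mp hd ((hXm χ).mp ha) ((hYm χ).mp hb)
  · rw [Set.toFinset_card, ← Nat.card_eq_fintype_card, hX]
  · rw [Set.toFinset_card, ← Nat.card_eq_fintype_card, hY, ht]
  · intro χ hχ; exact (h1 χ ((hXm χ).mp hχ)).1
  · intro χ hχ; exact (h1 χ ((hXm χ).mp hχ)).2.1
  · intro χ hχ; exact (h1 χ ((hXm χ).mp hχ)).2.2
  · intro θ hθ; exact h3 θ ((hYm θ).mp hθ)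
  · intro θ hθ θ' hθ'; exact h4 θ ((hYm θ).mp hθ) θ' ((hYm θ').mp hθ')
  · intro θ hθ g hg
    rw [h5 θ ((hYm θ).mp hθ) g hg, Cfsg.Agent.H10.BlockOrth.finsum_mem_irr, ← Finset.sum_filter]
    refine Finset.sum_congr ?_ fun _ _ => rfl
    ext χ; rw [Finset.mem_filter, hXm]; exact ⟨fun h => h.2, fun h => ⟨Finset.mem_univ _, h⟩⟩
  · rw [hBm]; exact triv_mem
  · intro hC χ hχ x hx hx1
    rw [hBm] at hχ
    have hxo := orderOf_eq hP hx hx1
    have hcc : Nat.card (Subgroup.centralizer ({x} : Set G)) = p := by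
      rw [centralizer_eq hP hx hx1, hC]; exact hP
    haveI : Fintype (⊥ : Subgroup (Subgroup.centralizer ({x} : Set G))) := Fintype.ofFinite _
    have h6 := Cfsg.Agent.H4.B0Sec.sum_core_zero hM (z := x) ⟨1, by rw [hxo, pow_one]⟩
      (K := (⊥ : Subgroup (Subgroup.centralizer ({x} : Set G)))) inferInstance
      (by rw [Subgroup.card_bot, Nat.dvd_one]; exact hp.out.one_lt.ne')
      ⟨1, by rw [Subgroup.index_bot, hcc, pow_one]⟩ hχ
    have h7 : ∀ k : (⊥ : Subgroup (Subgroup.centralizer ({x} : Set G))),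
        (((k : Subgroup.centralizer ({x} : Set G)) : G)) = 1 := by
      intro k
      have := Subgroup.mem_bot.mp k.2
      rw [this]; rfl
    rw [Finset.sum_congr rfl (g := fun _ => (χ : G → ℂ) x) (fun k _ => by rw [h7 k, one_mul]),
      Finset.sum_const, Finset.card_univ, ← Nat.card_eq_fintype_card, Subgroup.card_bot, one_smul] at h6
    exact h6
  · intro g hg s hs
    have h6 := Cfsg.Agent.H10.BlockOrth.weak_orth hM (principal_isPBlock (M := M) (G := G)) g s hg hs
    rw [← Finset.sum_filter] at h6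
    refine Eq.trans (Finset.sum_congr ?_ fun _ _ => rfl) h6
    ext χ; rw [hBm, Finset.mem_filter]; exact ⟨fun h => ⟨Finset.mem_univ _, h⟩, fun h => h.2⟩

omit [Fintype G] in
/-- `N/C` is a nontrivial cyclic group. -/
theorem e_facts [Finite G] (hperf : commutator G = ⊤) (hP : Nat.card P = p)
    (he : (Subgroup.centralizer ((P : Subgroup G) : Set G)).relIndex
      (Subgroup.normalizer ((P : Subgroup G) : Set G)) = e) : 2 ≤ e ∧ e ∣ p - 1 := by
  haveI : IsCyclic (P : Subgroup G) := isCyclic_of_prime_card hP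
  constructor
  · by_contra hlt
    have he0 : e ≠ 0 := by
      rw [← he]; exact Subgroup.FiniteIndex.index_ne_zero
    have he1 : e = 1 := by omega
    rw [he1, Subgroup.relIndex_eq_one] at he
    have h1 : Subgroup.IsComplement' (MonoidHom.transferSylow P he).ker (P : Subgroup G) :=
      MonoidHom.ker_transferSylow_isComplement' P he
    haveI : IsMulCommutative (P : Subgroup G) := IsCyclic.isMulCommutative
    have h2 : (MonoidHom.transferSylow P he).ker = ⊤ := by
      rw [← top_le_iff, ← hperf]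
      have hcomm : ∀ a b : (P : Subgroup G), a * b = b * a := fun a b => mul_comm' a b
      rw [commutator_def, Subgroup.commutator_le]
      intro a _ b _
      rw [MonoidHom.mem_ker, map_commutatorElement, commutatorElement_eq_one_iff_mul_comm]
      exact hcomm _ _
    have h3 := h1.card_mul
    rw [h2, Subgroup.card_top] at h3
    have h4 : Nat.card (P : Subgroup G) = p := hP
    rw [h4] at h3
    have h5 : 0 < Nat.card G := Nat.card_pos
    have := hp.out.one_lt
    nlinarith
  · have h1 : e ∣ Nat.card (MulAut (P : Subgroup G)) := by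
      have key := Subgroup.card_dvd_of_injective _
        (QuotientGroup.kerLift_injective (P : Subgroup G).normalizerMonoidHom)
      rw [Subgroup.normalizerMonoidHom_ker, ← Subgroup.index, ← Subgroup.relIndex] at key
      rw [← he]; exact key
    rw [IsCyclic.card_mulAut, show Nat.card (P : Subgroup G) = p from hP, Nat.totient_prime hp.out] at h1
    exact h1

omit [Fintype G] in
theorem n_pos [Finite G] (hperf : commutator G = ⊤) (hP : Nat.card P = p)
    (hn : Nat.card (Sylow p G) = 1 + n * p) : 0 < n := by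
  rcases Nat.eq_zero_or_pos n with h | h
  · exfalso
    obtain ⟨e, he⟩ : ∃ e, (Subgroup.centralizer ((P : Subgroup G) : Set G)).relIndex
      (Subgroup.normalizer ((P : Subgroup G) : Set G)) = e := ⟨_, rfl⟩
    have h1 := (e_facts hperf hP he).1
    haveI : IsCyclic (P : Subgroup G) := isCyclic_of_prime_card hP
    rw [h, zero_mul, add_zero, P.card_eq_index_normalizer, Subgroup.index_eq_one] at hn
    have hN : Subgroup.normalizer ((P : Subgroup G) : Set G) = ⊤ := hn
    let f : G →* MulAut (P : Subgroup G) :=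
      ((P : Subgroup G).normalizerMonoidHom).comp
        ((MulEquiv.subgroupCongr hN).symm.toMonoidHom.comp Subgroup.topEquiv.symm.toMonoidHom)
    haveI : Fact (Nat.card (P : Subgroup G)).Prime := ⟨by
      rw [show Nat.card (P : Subgroup G) = p from hP]; exact hp.out⟩
    have hcomm : ∀ a b : MulAut (P : Subgroup G), a * b = b * a := by
      intro a b
      apply (IsCyclic.mulAutMulEquiv (P : Subgroup G)).injective
      rw [map_mul, map_mul, mul_comm]
    have h2 : f.ker = ⊤ := by
      rw [← top_le_iff, ← hperf, commutator_def, Subgroup.commutator_le]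
      intro a _ b _
      rw [MonoidHom.mem_ker, map_commutatorElement, commutatorElement_eq_one_iff_mul_comm]
      exact hcomm _ _
    have h3 : Subgroup.normalizer ((P : Subgroup G) : Set G) ≤
        Subgroup.centralizer ((P : Subgroup G) : Set G) := by
      intro g hg
      have h4 : g ∈ f.ker := by rw [h2]; trivial
      have h5 : (⟨g, hg⟩ : Subgroup.normalizer ((P : Subgroup G) : Set G)) ∈
          ((P : Subgroup G).normalizerMonoidHom).ker := h4
      rw [Subgroup.normalizerMonoidHom_ker] at h5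
      exact h5
    rw [← Subgroup.relIndex_eq_one, he] at h3
    omega
  · exact h

/-- The core-free case. -/
theorem core (hperf : commutator G = ⊤)
    (hcore : ∀ K : Subgroup G, K.Normal → ¬ p ∣ Nat.card K → K = ⊥) (hP : Nat.card P = p)
    (hn : Nat.card (Sylow p G) = 1 + n * p) :
    (∃ (F : Type) (_ : Field F) (_ : Fintype F), Fintype.card F = p ∧ 3 < p ∧
      Nonempty (G ≃* Matrix.ProjectiveSpecialLinearGroup (Fin 2) F)) ∨
    (∃ (m : ℕ) (F : Type) (_ : Field F) (_ : Fintype F), Fintype.card F = 2 ^ m ∧ p = 2 ^ m + 1 ∧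
      3 < p ∧ Nonempty (G ≃* Matrix.SpecialLinearGroup (Fin 2) F)) ∨ Alt n p := by
  classical
  obtain ⟨e, he⟩ : ∃ e, (Subgroup.centralizer ((P : Subgroup G) : Set G)).relIndex
      (Subgroup.normalizer ((P : Subgroup G) : Set G)) = e := ⟨_, rfl⟩
  obtain ⟨he2, t, ht⟩ := e_facts hperf hP he
  have hp1 := hp.out.one_lt
  have hodd : p ≠ 2 := by
    intro h
    rw [h] at ht
    have : e ∣ 1 := ⟨t, by simpa using ht⟩
    have := Nat.le_of_dvd one_pos this
    omega
  have hn0 := n_pos hperf hP hn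
  have ht0 : 0 < t := by
    rcases Nat.eq_zero_or_pos t with h | h
    · rw [h, mul_zero] at ht; omega
    · exact h
  have hpt : p = t * e + 1 := by rw [mul_comm t e, ← ht]; omega
  have htd : (p - 1) / e = t := by rw [ht]; exact Nat.mul_div_cancel_left t (by omega)
  obtain ⟨X, Y, δ, ε, D⟩ := exists_BD hodd hP he htd
  by_cases hA : Alt n p
  · exact Or.inr (Or.inr hA)
  rcases (show t = 1 ∨ 2 ≤ t by omega) with h1 | h2
  · subst h1
    exact Or.inr (Or.inr (Cfsg.Agent.H4.BRfin.no_case1 D hP hodd hperf hcore he hn hn0 he2 hpt))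
  · obtain ⟨hC, D', htri, hcase⟩ := case2 D hP hodd hperf hcore he hn hn0 hA he2 h2 hpt
    have hcN := card_NN hP hC he
    rcases hcase with ⟨hε, hY⟩ | ⟨hε, hY, a, ha, hab⟩
    · subst hε
      obtain ⟨ht2, hn1⟩ := Cfsg.Agent.H4.BRplus.case_plus D hP hC he hn0 he2 h2 hpt D' htri hY
      subst hn1
      left
      exact ident_psl hP hcore hn hcN he2 (by rw [hpt, ht2])
    · subst hε
      obtain ⟨Γ, hnt, hea, hYd⟩ := Cfsg.Agent.H4.BRfin.case_minus D hP hC he hn hn0 he2 h2 hpt D' htri hY ha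
      have hep : e ≤ p := by rw [hpt]; nlinarith
      have N : Num p e t n a (p - e) := ⟨h2, hnt, hea, hpt, by omega⟩
      have M : Min P e t n a (p - e) X Y δ := ⟨D, D', hP, hC, htri, Γ, N, fun θ hθ => by
        have := hYd θ hθ; omega, hab⟩
      rcases Nat.eq_zero_or_pos a with h0 | h0
      · subst h0
        have he2' : e = 2 := by rw [hea]; ring
        subst he2'
        right; left
        exact ident_sl M hodd hcore
      · have ht2 := t_eq_two M h0 hodd
        left
        have hn1 : n = 1 := by omega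
        subst hn1
        exact ident_psl hP hcore hn hcN he2 (by rw [hpt, ht2])

end Cfsg.Agent.H4.BRcore
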