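import Mathlib
import Cfsg.Agent.H4_BRcore
import Cfsg.Agent.H24_SylCount
import Cfsg.Agent.H11_Cores
import Cfsg.Agent.H1_Nilp

/-! The Brauer-Reynolds theorem. -/

set_option autoImplicit false

namespace Cfsg.Agent.H4.BRmain

open Cfsg Cfsg.Agent.H4.BRgr Cfsg.Agent.H4.BRar Cfsg.Agent.H4.BRcore

universe u

variable {G : Type u} [Group G] [Finite G] {p : ℕ} [hp : Fact p.Prime] {P : Sylow p G} {n : ℕ}

omit [Finite G] in
theorem perfect_quot (hperf : commutator G = ⊤) (K : Subgroup G) [K.Normal] :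
    commutator (G ⧸ K) = ⊤ := by
  rw [commutator_def] at hperf ⊢
  have h1 := congrArg (Subgroup.map (QuotientGroup.mk' K)) hperf
  rw [Subgroup.map_commutator, ← MonoidHom.range_eq_map, MonoidHom.range_eq_top.mpr (QuotientGroup.mk'_surjective K)] at h1
  exact h1

theorem alt_of_mul {n m k : ℕ} (hn : 0 < m) (hk : 0 < k) (h : 1 + n * p = (1 + m * p) * (1 + k * p)) :
    Alt n p := by
  refine ⟨(k + 1) * m, k, by positivity, hk, ?_⟩
  have h1 : n * p = (m + k + m * k * p) * p := by nlinarith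
  have h2 := Nat.eq_of_mul_eq_mul_right hp.out.pos h1
  rw [h2]; ring

/-- The general form. -/
theorem main (hperf : commutator G = ⊤) (hP : Nat.card P = p)
    (hn : Nat.card (Sylow p G) = 1 + n * p) :
    Alt n p ∨ (pPrimeCore p G ≤ Subgroup.centralizer ((P : Subgroup G) : Set G) ∧
    ((∃ (F : Type) (_ : Field F) (_ : Fintype F), Fintype.card F = p ∧ 3 < p ∧
      Nonempty (G ⧸ pPrimeCore p G ≃* Matrix.ProjectiveSpecialLinearGroup (Fin 2) F)) ∨
    (∃ (m : ℕ) (F : Type) (_ : Field F) (_ : Fintype F), Fintype.card F = 2 ^ m ∧ p = 2 ^ m + 1 ∧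
      3 < p ∧ Nonempty (G ⧸ pPrimeCore p G ≃* Matrix.SpecialLinearGroup (Fin 2) F)))) := by
  classical
  haveI : Fintype G := Fintype.ofFinite G
  set H := pPrimeCore p G with hH
  haveI hHn : H.Normal := Cfsg.Agent.H1.Nilp.pPrimeCore_normal p
  have hHp : ¬ p ∣ Nat.card H :=
    (Nat.Prime.coprime_iff_not_dvd hp.out).mp (Nat.coprime_comm.mp (Cfsg.Agent.H1.Nilp.pPrimeCore_coprime p))
  haveI : Fintype (G ⧸ H) := Fintype.ofFinite _
  have hperf' := perfect_quot hperf H
  -- the Sylow subgroup of the quotient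
  let P' : Sylow p (G ⧸ H) := P.mapSurjective (QuotientGroup.mk'_surjective H)
  have hPH : (P : Subgroup G) ⊓ H = ⊥ := by
    have hcop : (Nat.card (P : Subgroup G)).Coprime (Nat.card H) := by
      rw [show Nat.card (P : Subgroup G) = p from hP]
      exact (Nat.Prime.coprime_iff_not_dvd hp.out).mpr hHp
    exact (Subgroup.disjoint_of_coprime_natCard hcop).eq_bot
  have hP' : Nat.card P' = p := by
    have h1 : Nat.card (P' : Subgroup (G ⧸ H)) = Nat.card ((P : Subgroup G).map (QuotientGroup.mk' H)) := rfl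
    show Nat.card (P' : Subgroup (G ⧸ H)) = p
    rw [h1]
    have hinj : Function.Injective ((QuotientGroup.mk' H).comp (P : Subgroup G).subtype) := by
      rw [injective_iff_map_eq_one]
      intro x hx
      have h2 : (x : G) ∈ H := (QuotientGroup.eq_one_iff (x : G)).mp hx
      have h3 : (x : G) ∈ ((P : Subgroup G) ⊓ H : Subgroup G) := ⟨x.2, h2⟩
      rw [hPH, Subgroup.mem_bot] at h3
      exact Subtype.ext h3
    have h2 : (P : Subgroup G).map (QuotientGroup.mk' H) =
        ((QuotientGroup.mk' H).comp (P : Subgroup G).subtype).range := by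
      rw [MonoidHom.range_comp, Subgroup.range_subtype]
    rw [h2, ← Nat.card_congr (MonoidHom.ofInjective hinj).toEquiv]
    exact hP
  have hcore : ∀ K : Subgroup (G ⧸ H), K.Normal → ¬ p ∣ Nat.card K → K = ⊥ := by
    intro K hK hKp
    have h1 : K ≤ pPrimeCore p (G ⧸ H) := Cfsg.Agent.H1.Nilp.le_pPrimeCore hK
      (Nat.coprime_comm.mp ((Nat.Prime.coprime_iff_not_dvd hp.out).mpr hKp))
    rw [Cfsg.Agent.H11.Cores.pPrimeCore_quotient] at h1
    exact le_bot_iff.mp h1
  -- counting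
  obtain ⟨m, hm⟩ : ∃ m, Nat.card (Sylow p (G ⧸ H)) = 1 + m * p := by
    have h1 := card_sylow_modEq_one p (G ⧸ H)
    have h2 : 0 < Nat.card (Sylow p (G ⧸ H)) := Nat.card_pos
    have h3 := (Nat.modEq_iff_dvd' h2).mp h1.symm
    obtain ⟨w, hw⟩ := h3
    exact ⟨w, by rw [mul_comm w p, ← hw]; omega⟩
  obtain ⟨k, hk⟩ : ∃ k, Nat.card (Sylow p ((P : Subgroup G) ⊔ H : Subgroup G)) = 1 + k * p := by
    have h1 := card_sylow_modEq_one p ((P : Subgroup G) ⊔ H : Subgroup G)
    have h2 : 0 < Nat.card (Sylow p ((P : Subgroup G) ⊔ H : Subgroup G)) := Nat.card_pos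
    have h3 := (Nat.modEq_iff_dvd' h2).mp h1.symm
    obtain ⟨w, hw⟩ := h3
    exact ⟨w, by rw [mul_comm w p, ← hw]; omega⟩
  have hmul := Cfsg.Agent.H24.SylCount.card_sylow_mul P H
  rw [hn, hm, hk] at hmul
  have hm0 := n_pos hperf' hP' hm
  rcases Nat.eq_zero_or_pos k with hk0 | hk0
  · rw [hk0, zero_mul, add_zero, mul_one] at hmul
    have hnm : n = m := by
      have : n * p = m * p := by omega
      exact Nat.eq_of_mul_eq_mul_right hp.out.pos this
    rw [← hnm] at hm
    have hcent : H ≤ Subgroup.centralizer ((P : Subgroup G) : Set G) := by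
      rw [hk0, zero_mul, add_zero, Cfsg.Agent.H24.SylCount.card_sylow_sub P _ le_sup_left,
        Subgroup.relIndex_eq_one] at hk
      intro h hh
      rw [Subgroup.mem_centralizer_iff]
      intro x hx
      have hx : x ∈ (P : Subgroup G) := hx
      have h1 : h ∈ Subgroup.normalizer ((P : Subgroup G) : Set G) := hk (Subgroup.mem_sup_right hh)
      have h2 : x * h * x⁻¹ * h⁻¹ ∈ (P : Subgroup G) ⊓ H := by
        refine Subgroup.mem_inf.mpr ⟨?_, ?_⟩
        · have h3 := conj_mem (inv_mem hx) h1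
          have : x * h * x⁻¹ * h⁻¹ = x * (h * x⁻¹ * h⁻¹) := by group
          rw [this]; exact mul_mem hx h3
        · exact mul_mem (hHn.conj_mem h hh x) (inv_mem hh)
      rw [hPH, Subgroup.mem_bot] at h2
      calc x * h = (x * h * x⁻¹ * h⁻¹) * (h * x) := by group
        _ = h * x := by rw [h2, one_mul]
    rcases core hperf' hcore hP' hm with h | h | h
    · exact Or.inr ⟨hcent, Or.inl h⟩
    · exact Or.inr ⟨hcent, Or.inr h⟩
    · exact Or.inl h
  · exact Or.inl (alt_of_mul hm0 hk0 hmul)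

theorem alt_bound {n p : ℕ} (h : Alt n p) : p + 3 ≤ 2 * n := by
  obtain ⟨h, u, hh, hu, he⟩ := h
  by_contra hlt
  push Not at hlt
  have h1 : (2 * n) * (u + 1) < (p + 3) * (u + 1) := Nat.mul_lt_mul_of_pos_right hlt (by omega)
  have h2 : (2 * n) * (u + 1) = 2 * (h * u * p + u ^ 2 + u + h) := by rw [← he]; ring
  rw [h2] at h1
  have h3 : u * p ≤ h * u * p := by
    calc u * p = 1 * (u * p) := by ring
      _ ≤ h * (u * p) := Nat.mul_le_mul_right _ hh
      _ = h * u * p := by ring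
  have h4 : p ≤ u * p := Nat.le_mul_of_pos_left _ hu
  nlinarith

end Cfsg.Agent.H4.BRmain
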