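import Cfsg.Statements.S4701
import Mathlib
import Cfsg.Agent.H4_BRmain
import Cfsg.Agent.H5_SmallIso

set_option autoImplicit false
open Cfsg

namespace Cfsg.Agent.S4701

/-- Let G be a finite perfect group and p a prime dividing the order of G with p^3 larger than the order of G. Suppose a Sylow p-subgroup of G is not normal and G has no normal subgroup of order 2. Then p > 3 and G is isomorphic to PSL(2, p), or to SL(2, 2^m) with p = 2^m + 1. -/
theorem result {G : Type*} [Group G] [Finite G] (hperf : commutator G = ⊤) (p : ℕ) [Fact p.Prime] (hdvd : p ∣ Nat.card G) (hbig : Nat.card G < p ^ 3) (P : Sylow p G) (hP : ¬ (P : Subgroup G).Normal) (h2 : ∀ N : Subgroup G, N.Normal → Nat.card N ≠ 2) : (∃ (F : Type) (_ : Field F) (_ : Fintype F), Fintype.card F = p ∧ 3 < p ∧ Nonempty (G ≃* Matrix.ProjectiveSpecialLinearGroup (Fin 2) F)) ∨ (∃ (m : ℕ) (F : Type) (_ : Field F) (_ : Fintype F), Fintype.card F = 2 ^ m ∧ p = 2 ^ m + 1 ∧ 3 < p ∧ Nonempty (G ≃* Matrix.SpecialLinearGroup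 (Fin 2) F)) := by
  classical
  have hp : p.Prime := Fact.out
  have hp1 := hp.one_lt
  obtain ⟨n, hn⟩ : ∃ n, Nat.card (Sylow p G) = 1 + n * p := by
    have h1 := card_sylow_modEq_one p G
    have h2 : 0 < Nat.card (Sylow p G) := Nat.card_pos
    obtain ⟨w, hw⟩ := (Nat.modEq_iff_dvd' h2).mp h1.symm
    exact ⟨w, by rw [mul_comm w p, ← hw]; omega⟩
  have hn0 : 0 < n := by
    rcases Nat.eq_zero_or_pos n with h | h
    · exfalso
      rw [h, zero_mul, add_zero] at hn
      apply hP
      haveI : Subsingleton (Sylow p G) := (Nat.card_eq_one_iff_unique.mp hn).1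
      exact P.normal_of_subsingleton
    · exact h
  have hG : Nat.card G = Nat.card (Sylow p G) * Nat.card (Subgroup.normalizer ((P : Subgroup G) : Set G)) := by
    rw [P.card_eq_index_normalizer, mul_comm]
    exact (Subgroup.card_mul_index _).symm
  have hPN : Nat.card (P : Subgroup G) ≤ Nat.card (Subgroup.normalizer ((P : Subgroup G) : Set G)) :=
    Subgroup.card_le_of_le Subgroup.le_normalizer
  have hPp : Nat.card (P : Subgroup G) = p := by
    obtain ⟨k, hk⟩ := (IsPGroup.iff_card).mp P.2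
    have h1 : p ∣ Nat.card (P : Subgroup G) := by
      have := P.pow_dvd_card_of_pow_dvd_card (n := 1) (by rwa [pow_one])
      rwa [pow_one] at this
    have hk0 : k ≠ 0 := by
      rintro rfl
      rw [hk, pow_zero, Nat.dvd_one] at h1
      omega
    have hk1 : k < 2 := by
      by_contra hlt
      have h2 : p ^ 2 ≤ Nat.card (P : Subgroup G) := by
        rw [hk]; exact Nat.pow_le_pow_right hp.pos (by omega)
      have h3 : (1 + n * p) * p ^ 2 ≤ Nat.card G := by
        rw [hG, hn]; exact Nat.mul_le_mul_left _ (h2.trans hPN)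
      have h4 : p ≤ n * p := Nat.le_mul_of_pos_left p hn0
      have h5 : p ^ 3 ≤ (1 + n * p) * p ^ 2 := by
        calc p ^ 3 = p * p ^ 2 := by ring
          _ ≤ (1 + n * p) * p ^ 2 := Nat.mul_le_mul_right _ (by omega)
      omega
    have : k = 1 := by omega
    rw [hk, this, pow_one]
  obtain ⟨e, he⟩ : ∃ e, (Subgroup.centralizer ((P : Subgroup G) : Set G)).relIndex
      (Subgroup.normalizer ((P : Subgroup G) : Set G)) = e := ⟨_, rfl⟩
  obtain ⟨he2, -⟩ := Cfsg.Agent.H4.BRcore.e_facts hperf hPp he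
  have hG2 := Cfsg.Agent.H4.BRgr.card_eq he
  have hPC : Nat.card (P : Subgroup G) ≤ Nat.card (Subgroup.centralizer ((P : Subgroup G) : Set G)) := by
    apply Subgroup.card_le_of_le
    haveI : IsCyclic (P : Subgroup G) := isCyclic_of_prime_card hPp
    haveI : IsMulCommutative (P : Subgroup G) := IsCyclic.isMulCommutative
    exact Subgroup.le_centralizer _
  rw [hPp] at hPC
  have hAlt : ¬ Cfsg.Agent.H4.BRar.Alt n p := by
    intro h
    have h1 := Cfsg.Agent.H4.BRmain.alt_bound h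
    rw [hn] at hG2
    have h2 : (1 + n * p) * (2 * p) ≤ Nat.card G := by
      rw [hG2]; exact Nat.mul_le_mul_left _ (Nat.mul_le_mul he2 hPC)
    have h3 : (1 + n * p) * (2 * p) < p ^ 3 := lt_of_le_of_lt h2 hbig
    have h4 : (p + 3) * p ≤ 2 * n * p := Nat.mul_le_mul_right p h1
    have h5 : p ^ 3 ≤ (1 + n * p) * (2 * p) := by
      calc p ^ 3 = (p * p) * p := by ring
        _ ≤ (2 * n * p) * p := Nat.mul_le_mul_right _ (le_trans (by nlinarith) h4)
        _ ≤ (1 + n * p) * (2 * p) := by nlinarith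
    omega
  have hidx := Subgroup.card_mul_index (Cfsg.pPrimeCore p G)
  have hidx2 : (Cfsg.pPrimeCore p G).index = Nat.card (G ⧸ Cfsg.pPrimeCore p G) := rfl
  rw [hidx2] at hidx
  have hHn : (Cfsg.pPrimeCore p G).Normal := Cfsg.Agent.H1.Nilp.pPrimeCore_normal p
  have hH0 : 0 < Nat.card (Cfsg.pPrimeCore p G) := Nat.card_pos
  have hH2 := h2 (Cfsg.pPrimeCore p G) hHn
  rcases Cfsg.Agent.H4.BRmain.main hperf hPp hn with h | ⟨-, h | h⟩
  · exact absurd h hAlt
  · obtain ⟨F, i1, i2, hF, hp3, ⟨φ⟩⟩ := h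
    left
    refine ⟨F, i1, i2, hF, hp3, ?_⟩
    have hcard := Cfsg.Agent.H5.SmallIso.card_PSL2 (F := F)
    rw [hF] at hcard
    have hodd : Odd p := hp.odd_of_ne_two (by omega)
    have hg : Nat.gcd 2 (p - 1) = 2 := by
      obtain ⟨w, hw⟩ := hodd
      have : p - 1 = 2 * w := by omega
      rw [this]; exact Nat.gcd_eq_left (Dvd.intro w rfl)
    rw [hg] at hcard
    rw [Nat.card_congr φ.toEquiv] at hidx
    have hH1 : Nat.card (Cfsg.pPrimeCore p G) = 1 := by
      by_contra hne
      have h3 : 3 ≤ Nat.card (Cfsg.pPrimeCore p G) := by omega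
      have h4 : 3 * Nat.card (Matrix.ProjectiveSpecialLinearGroup (Fin 2) F) ≤ Nat.card G := by
        rw [← hidx]; exact Nat.mul_le_mul_right _ h3
      have h5 : 2 * (3 * Nat.card (Matrix.ProjectiveSpecialLinearGroup (Fin 2) F)) < 2 * p ^ 3 := by omega
      have h6 : 2 * (3 * Nat.card (Matrix.ProjectiveSpecialLinearGroup (Fin 2) F)) =
          3 * (p * (p - 1) * (p + 1)) := by rw [← hcard]; ring
      rw [h6] at h5
      obtain ⟨w, rfl⟩ : ∃ w, p = w + 1 := ⟨p - 1, by omega⟩
      simp only [Nat.add_sub_cancel] at h5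
      nlinarith [Nat.zero_le (w ^ 3), Nat.zero_le (w ^ 2)]
    have hbot : Cfsg.pPrimeCore p G = ⊥ := Subgroup.card_eq_one.mp hH1
    exact ⟨((QuotientGroup.quotientMulEquivOfEq hbot).trans QuotientGroup.quotientBot).symm.trans φ⟩
  · obtain ⟨m, F, i1, i2, hF, hpm, hp3, ⟨φ⟩⟩ := h
    right
    refine ⟨m, F, i1, i2, hF, hpm, hp3, ?_⟩
    have hcard := Cfsg.Agent.H5.SL2.card_SL2 (F := F)
    have hF' : Fintype.card F = p - 1 := by rw [hF, hpm]; simp
    rw [hF'] at hcard
    rw [Nat.card_congr φ.toEquiv] at hidx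
    have hH1 : Nat.card (Cfsg.pPrimeCore p G) = 1 := by
      by_contra hne
      have h3 : 3 ≤ Nat.card (Cfsg.pPrimeCore p G) := by omega
      have h4 : 3 * Nat.card (Matrix.SpecialLinearGroup (Fin 2) F) ≤ Nat.card G := by
        rw [← hidx]; exact Nat.mul_le_mul_right _ h3
      rw [hcard] at h4
      obtain ⟨w, rfl⟩ : ∃ w, p = w + 4 := ⟨p - 4, by omega⟩
      have e1 : w + 4 - 1 = w + 3 := by omega
      have e2 : w + 4 - 1 - 1 = w + 2 := by omega
      rw [e2, e1] at h4
      have h5 := lt_of_le_of_lt h4 hbig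
      nlinarith [Nat.zero_le (w ^ 3), Nat.zero_le (w ^ 2)]
    have hbot : Cfsg.pPrimeCore p G = ⊥ := Subgroup.card_eq_one.mp hH1
    exact ⟨((QuotientGroup.quotientMulEquivOfEq hbot).trans QuotientGroup.quotientBot).symm.trans φ⟩

end Cfsg.Agent.S4701
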