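import Mathlib
import Cfsg.Agent.H9_BT10
import Cfsg.Agent.S4701

/-!
H9_BT11: Brauer-Tuan theorem, part 11: simple groups of order `p q^b g₀` with `g₀ < p - 1`.
-/

set_option autoImplicit false

open scoped ComplexConjugate

namespace Cfsg.Agent.H9.BT

open Cfsg Cfsg.Agent.H3.CharIrr Cfsg.Agent.H3.CharComplete Cfsg.Agent.H10.Char Cfsg.Agent.H10.BlockKer
  Cfsg.Agent.H9.BrVec Cfsg.Agent.H9.BrMain Cfsg.Agent.H9.BrThm Cfsg.Agent.H9.BrCor Cfsg.Agent.H9.BrSC

theorem dat_types {G : Type*} [Group G] [Fintype G] {p : ℕ} [hp : Fact p.Prime] {z : G} {hz : orderOf z = p} {hzp : z ^ p = 1}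
    (D : Dat hz hzp) (hdeg : ∀ j j', charDegree (D.L j : G → ℂ) = charDegree (D.L j' : G → ℂ)) :
    ∃ Ty : Types hz hzp, Ty.ε = D.ε ∧ Ty.L = D.L :=
  ⟨⟨D.ε, D.L, D.hε, D.inj, D.on, D.off, hdeg, fun χ => by
    rcases D.all χ with h | h | h
    · exact Or.inl ⟨D.δ χ, D.hδ χ h, D.hX χ h⟩
    · exact Or.inr (Or.inl h)
    · exact Or.inr (Or.inr h)⟩, rfl, rfl⟩

theorem card_lt {G : Type*} [Group G] [Finite G] [IsSimpleGroup G] (hG : ¬ IsMulCommutative G) {p q B g₁ : ℕ} [hp : Fact p.Prime]
    (hq : q.Prime) (hqp : q ≠ p) (hcard : Nat.card G = p * q ^ B * g₁) (hqg : ¬ q ∣ g₁) (hlt : g₁ < p - 1) :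
    Nat.card G < p ^ 3 := by
  classical
  haveI : Fintype G := Fintype.ofFinite G
  have hp1 := hp.out.one_lt
  have hg1 : 0 < g₁ := by
    rcases Nat.eq_zero_or_pos g₁ with h | h
    · rw [h, mul_zero] at hcard
      exact absurd hcard Nat.card_pos.ne'
    · exact h
  have hpG : p ∣ Nat.card G := by rw [hcard, mul_assoc]; exact dvd_mul_right _ _
  obtain ⟨z, hz⟩ := exists_prime_orderOf_dvd_card' p hpG
  have hzp : z ^ p = 1 := by rw [← hz]; exact pow_orderOf_eq_one z
  have hidx : (Subgroup.zpowers z).index = q ^ B * g₁ := by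
    have h1 := (Subgroup.zpowers z).card_mul_index
    rw [Nat.card_zpowers, hz, hcard, mul_assoc] at h1
    exact Nat.eq_of_mul_eq_mul_left hp.out.pos h1
  have hpg1 : ¬ p ∣ g₁ := fun h => by
    have := Nat.le_of_dvd hg1 h
    omega
  have hpq : ¬ p ∣ q ^ B := fun h => hqp ((Nat.prime_dvd_prime_iff_eq hp.out hq).1 (hp.out.dvd_of_dvd_pow h)).symm
  have hsyl : ¬ p ∣ (Subgroup.zpowers z).index := by
    rw [hidx, hp.out.dvd_mul, not_or]
    exact ⟨hpq, hpg1⟩
  obtain ⟨D, hXq, hL, helt, hcase⟩ := exists_dat hG hz hzp hsyl hq hqp hcard hlt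
  obtain ⟨e, he⟩ : ∃ e, Nat.card (BrMain.om hz).range = e := ⟨_, rfl⟩
  rw [he] at helt
  have he0 : 0 < e := by rw [← he]; exact Nat.card_pos
  have het := card_J hz
  rw [he] at het
  set t := Nat.card ((ZMod p)ˣ ⧸ (om hz).range) with ht
  have ht2 : 2 ≤ t := by
    by_contra h
    push Not at h
    have h1 : t ≤ 1 := by omega
    have h2 : e * t ≤ e * 1 := Nat.mul_le_mul_left _ h1
    omega
  have hep : e ∣ p - 1 := Dvd.intro t het
  have h2e : 2 * e ≤ p - 1 := by
    rw [← het, mul_comm]; exact Nat.mul_le_mul_left _ ht2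
  have hne : Nonempty ((ZMod p)ˣ ⧸ (BrMain.om hz).range) := inferInstance
  obtain ⟨j0⟩ := hne
  obtain ⟨hLd, hLn1, hLq⟩ := hL j0
  have hLdeg := L_deg D j0
  rw [he] at hLdeg
  rcases hcase with ⟨hε, hmu⟩ | ⟨hε, hmu⟩
  · -- case A
    rw [hmu j0, hε] at hLdeg
    have hde : charDegree (D.L j0 : G → ℂ) = e := by
      push_cast at hLdeg
      have : (charDegree (D.L j0 : G → ℂ) : ℤ) = e := by linarith
      exact_mod_cast this
    rw [hde] at hLn1
    have hdeg : ∀ j j', charDegree (D.L j : G → ℂ) = charDegree (D.L j' : G → ℂ) := by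
      have h1 : ∀ j, charDegree (D.L j : G → ℂ) = e := by
        intro j
        have h2 := L_deg D j
        rw [he, hmu j, hε] at h2
        push_cast at h2
        have : (charDegree (D.L j : G → ℂ) : ℤ) = e := by linarith
        exact_mod_cast this
      intro j j'
      rw [h1, h1]
    obtain ⟨Ty, hTε, hTL⟩ := dat_types D hdeg
    haveI : Fintype (IrrCharacter G) := Fintype.ofFinite _
    have htb := tensor_bound hz hzp Ty (fun χ h => lin_triv hG h) (by rw [hTε, hε]) j0 (by rw [hTL]; exact hmu j0)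
      (by rw [he]; exact hLn1)
    rw [he] at htb
    have ht2' : t = 2 := by
      by_contra hne
      have h3 : 3 ≤ t := by omega
      have h4 : e * 3 ≤ e * t := Nat.mul_le_mul_left _ h3
      omega
    have hp2 : p = 2 * e + 1 := by
      rw [ht2'] at het
      omega
    obtain ⟨T⟩ := exists_two D he hp2
    have hTe : T.e = e := by rw [← T.he, he]
    have hb := caseA_bound hG T hsyl hε hmu (by rw [hTe]; omega)
    rw [hTe] at hb
    refine lt_of_le_of_lt hb ?_
    have h5 : p ^ 3 = p * (2 * e + 1) ^ 2 := by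
      conv_rhs => rw [← hp2]
      ring
    rw [h5]
    have h6 : 2 * p * e * (e + 1) = p * (2 * e * (e + 1)) := by ring
    rw [h6]
    apply Nat.mul_lt_mul_of_pos_left _ hp.out.pos
    nlinarith
  · -- case B
    rw [hmu j0, hε] at hLdeg
    have hde : charDegree (D.L j0 : G → ℂ) = p - e := by
      push_cast at hLdeg
      have : ((p - e : ℕ) : ℤ) = p - e := by omega
      have h2 : (charDegree (D.L j0 : G → ℂ) : ℤ) = ((p - e : ℕ) : ℤ) := by rw [this]; linarith
      exact_mod_cast h2
    rw [hde] at hLd hLn1 hLq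
    obtain ⟨h, hh⟩ := hLd
    have hh1 : h = 1 := by
      have h1 : h ≠ 0 := by rintro rfl; rw [mul_zero] at hh; omega
      by_contra hne
      have h2 : (p - e) * 2 ≤ (p - e) * h := Nat.mul_le_mul_left _ (by omega)
      omega
    rw [hh1, mul_one] at hh
    rw [hh] at hcard hlt hqg
    have hecop : e.Coprime (p - e) := by
      have h1 : Nat.gcd e (p - e) = Nat.gcd e p := by
        rw [Nat.gcd_sub_self_right (by omega)]
      rw [Nat.coprime_iff_gcd_eq_one, h1, Nat.gcd_comm]
      exact (Nat.Prime.coprime_iff_not_dvd hp.out).2 (fun h => by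
        have := Nat.le_of_dvd he0 h
        omega)
    have hecp : e.Coprime p := by
      rw [Nat.coprime_comm]
      exact (Nat.Prime.coprime_iff_not_dvd hp.out).2 (fun h => by
        have := Nat.le_of_dvd he0 h
        omega)
    have hedG : e ∣ Nat.card G := by
      have h1 : Nat.card (om hz).range ∣ Nat.card (Subgroup.normalizer (Subgroup.zpowers z : Set G)) :=
        Subgroup.card_range_dvd (om hz)
      rw [he] at h1
      exact h1.trans (Subgroup.card_subgroup_dvd_card _)
    have heq : e ∣ q ^ B := by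
      rw [hcard] at hedG
      have h1 := hecop.dvd_of_dvd_mul_right hedG
      exact hecp.dvd_of_dvd_mul_left h1
    obtain ⟨k, -, hk⟩ := (Nat.dvd_prime_pow hq).1 heq
    have hk0 : k ≠ 0 := by
      rintro rfl
      rw [pow_zero] at hk
      omega
    have hqe : q ∣ e := by rw [hk]; exact dvd_pow_self q hk0
    have hq2 : q = 2 := by
      rw [hε] at hLq
      have h1 : ((p - e : ℕ) : ℤ) = p - e := by omega
      rw [h1] at hLq
      have h2 : (q : ℤ) ∣ e := by exact_mod_cast hqe
      have h3 : (q : ℤ) ∣ (p : ℤ) - 1 := by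
        have : q ∣ p - 1 := hqe.trans hep
        have h4 : ((p - 1 : ℕ) : ℤ) = p - 1 := by omega
        rw [← h4]; exact_mod_cast this
      have h5 : (q : ℤ) ∣ 2 := by
        have h6 : (2 : ℤ) = -((-1) * (p - e) - 1) - ((p : ℤ) - 1) + e := by ring
        rw [h6]
        exact dvd_add (dvd_sub ((dvd_neg).2 hLq) h3) h2
      have h7 : q ∣ 2 := by exact_mod_cast h5
      exact (Nat.prime_dvd_prime_iff_eq hq Nat.prime_two).1 h7
    subst hq2
    by_cases hk1 : k = 1
    · rw [hk1, pow_one] at hk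
      rw [hk] at hcard
      have hb := caseE2 hG D hsyl hε hmu (by rw [he, hk]) (by omega) hcard
      refine lt_of_le_of_lt hb ?_
      have h1 : p * (p - 1) * (p - 2) < p * p * p := by
        calc p * (p - 1) * (p - 2) ≤ p * (p - 1) * p := Nat.mul_le_mul_left _ (by omega)
          _ < p * p * p := by
            apply Nat.mul_lt_mul_of_pos_right _ hp.out.pos
            exact Nat.mul_lt_mul_of_pos_left (by omega) hp.out.pos
      calc p * (p - 1) * (p - 2) < p * p * p := h1
        _ = p ^ 3 := by ring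
    · -- mod 4
      have h4e : 4 ∣ e := by
        rw [hk]
        have : 2 ^ 2 ∣ 2 ^ k := pow_dvd_pow 2 (by omega)
        exact this
      have h4p : 4 ∣ p - 1 := h4e.trans hep
      have hone : ¬ p ∣ orderOf (1 : G) := by
        rw [orderOf_one]; intro h; exact hp1.ne' (Nat.dvd_one.1 h)
      have hrel1 : -((p : ℤ) - e) = 1 + ∑ χ ∈ D.X.erase (triv G), D.δ χ * charDegree (χ : G → ℂ) := by
        have e1 := D.rel j0 1 hone
        have e2 : (((-1) * ((p : ℤ) - e) : ℤ) : ℂ) = ((∑ χ ∈ D.X, D.δ χ * charDegree (χ : G → ℂ) : ℤ) : ℂ) := by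
          have e3 : (D.L j0 : G → ℂ) 1 = (((p : ℤ) - e : ℤ) : ℂ) := by
            rw [← charDegree_eq (D.L j0).2, hde]
            have : ((p - e : ℕ) : ℤ) = p - e := by omega
            rw [← this]; push_cast; rfl
          rw [hε, e3] at e1
          push_cast at e1 ⊢
          rw [e1]
          exact Finset.sum_congr rfl fun χ _ => by rw [charDegree_eq χ.2]
        have e3 : (-1) * ((p : ℤ) - e) = ∑ χ ∈ D.X, D.δ χ * charDegree (χ : G → ℂ) := by exact_mod_cast e2
        rw [← Finset.add_sum_erase _ _ D.trivX, delta_triv, deg_triv] at e3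
        push_cast at e3
        linarith
      obtain ⟨χ, hχ, hχ4⟩ : ∃ χ ∈ D.X.erase (triv G), ¬ 4 ∣ charDegree (χ : G → ℂ) := by
        by_contra hcon
        push Not at hcon
        have h1 : (4 : ℤ) ∣ ∑ χ ∈ D.X.erase (triv G), D.δ χ * charDegree (χ : G → ℂ) :=
          Finset.dvd_sum fun χ hχ => dvd_mul_of_dvd_right (by exact_mod_cast hcon χ hχ) _
        obtain ⟨w, hw⟩ := h1
        rw [hw] at hrel1
        obtain ⟨a, ha⟩ := h4e
        obtain ⟨b, hb⟩ := h4p
        omega
      have hχX := Finset.mem_of_mem_erase hχ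
      have hχt := Finset.ne_of_mem_erase hχ
      have hχ2 := hXq χ hχX hχt
      obtain ⟨d, hd⟩ := hχ2
      have hdodd : ¬ 2 ∣ d := by
        rintro ⟨c, rfl⟩
        apply hχ4
        rw [hd]; exact ⟨c, by ring⟩
      have hXd := X_deg D hχX
      have hdG := Cfsg.Agent.H10.BlockGreen.charDegree_dvd_card χ
      have hnp : ¬ p ∣ charDegree (χ : G → ℂ) := by
        intro h
        have e2 : (p : ℤ) ∣ D.δ χ := by
          have : (p : ℤ) ∣ (charDegree (χ : G → ℂ) : ℤ) := by exact_mod_cast h
          rw [hXd] at this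
          exact (dvd_add_right (dvd_mul_right _ _)).1 this
        rcases D.hδ χ hχX with h' | h' <;> rw [h'] at e2
        · have := Int.le_of_dvd one_pos e2; omega
        · have := Int.le_of_dvd one_pos ((dvd_neg).1 e2); omega
      have hdd : d ∣ p - e := by
        have h1 : d ∣ Nat.card G := (Dvd.intro_left 2 hd.symm).trans hdG
        exact dvd_g1 Nat.prime_two hcard h1 (fun h => hnp (by rw [hd]; exact dvd_mul_of_dvd_right h 2)) hdodd
      obtain ⟨c, hc⟩ := hdd
      have hd0 : 0 < d := Nat.pos_of_ne_zero (by rintro rfl; exact hdodd (dvd_zero 2))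
      have hdle : d ≤ p - e := Nat.le_of_dvd (by omega) ⟨c, hc⟩
      have hXmu := X_mu D hχX
      have hne1 : charDegree (χ : G → ℂ) ≠ 1 := fun h => hχt (lin_triv hG h)
      have hp4 : ∃ w, p = 4 * w + 1 := by
        obtain ⟨b, hb⟩ := h4p
        exact ⟨b, by omega⟩
      have hdp : 2 * d = p + 1 := by
        obtain ⟨w, hw⟩ := hp4
        rw [hd] at hXd
        set n : ℤ := (mu hzp χ 0 : ℤ) - D.δ χ with hn
        have hn0 : 0 ≤ n := by linarith
        have hn2 : n < 2 := by
          by_contra hge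
          push Not at hge
          have h1 : (p : ℤ) * 2 ≤ p * n := mul_le_mul_of_nonneg_left hge (by positivity)
          rcases D.hδ χ hχX with h' | h' <;> rw [h'] at hXd <;> push_cast at hXd <;> omega
        have hnn : n = 0 ∨ n = 1 := by omega
        rcases hnn with h0 | h0 <;> rw [h0] at hXd
        · rcases D.hδ χ hχX with h' | h' <;> rw [h'] at hXd <;> push_cast at hXd <;> omega
        · rcases D.hδ χ hχX with h' | h' <;> rw [h'] at hXd <;> push_cast at hXd
          · omega
          · exfalso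
            apply hdodd
            exact ⟨w, by omega⟩
      have hc1 : c = 1 := by
        have h0 : c ≠ 0 := by rintro rfl; rw [mul_zero] at hc; omega
        by_contra hne
        have h2 : d * 2 ≤ d * c := Nat.mul_le_mul_left _ (by omega)
        omega
      rw [hc1, mul_one] at hc
      have hp2 : p = 2 * e + 1 := by omega
      obtain ⟨T⟩ := exists_two D he hp2
      have hTe : T.e = e := by rw [← T.he, he]
      have hpe1 : p - e = e + 1 := by omega
      rw [hpe1] at hcard
      have hb := caseB_card hG T hsyl hε hmu (by rw [hTe]; exact even_iff_two_dvd.2 ((show 2 ∣ 4 by norm_num).trans h4e))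
        hXq (by rw [hTe]; exact hcard)
      rw [hb, hTe]
      have h5 : p ^ 3 = p * (2 * e + 1) ^ 2 := by
        conv_rhs => rw [← hp2]
        ring
      rw [h5]
      have h6 : 2 * p * e * (e + 1) = p * (2 * e * (e + 1)) := by ring
      rw [h6]
      apply Nat.mul_lt_mul_of_pos_left _ hp.out.pos
      nlinarith

end Cfsg.Agent.H9.BT
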