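import Mathlib
import Cfsg.Agent.H9_BT11

/-!
H9_BT12: Brauer-Tuan theorem: identification.
-/

set_option autoImplicit false

namespace Cfsg.Agent.H9.BT

open Cfsg

theorem arith {p q B g₁ : ℕ} (hp : p.Prime) (hp3 : 3 < p) (hq : q.Prime) (h : 2 * (q ^ B * g₁) = (p - 1) * (p + 1))
    (hqg : ¬ q ∣ g₁) (hlt : g₁ < p - 1) : ∃ m : ℕ, p = 2 ^ m + 1 ∨ p = 2 ^ m - 1 := by
  obtain ⟨a, ha⟩ : ∃ a, p = 2 * a + 1 := by
    obtain ⟨a, ha⟩ := hp.odd_of_ne_two (by omega)
    exact ⟨a, ha⟩
  have ha2 : 2 ≤ a := by omega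
  have e1 : p - 1 = 2 * a := by omega
  have e2 : p + 1 = 2 * (a + 1) := by omega
  rw [e1, e2] at h
  rw [e1] at hlt
  have h1 : q ^ B * g₁ = 2 * (a * (a + 1)) := by
    have : 2 * (q ^ B * g₁) = 2 * (2 * (a * (a + 1))) := by rw [h]; ring
    omega
  have hcop : Nat.Coprime a (a + 1) := Nat.coprime_self_add_right.2 (Nat.coprime_one_right a)
  have hg0 : 0 < g₁ := Nat.pos_of_ne_zero (by rintro rfl; exact hqg (dvd_zero q))
  by_cases hq2 : q = 2
  · subst hq2
    rcases Nat.even_or_odd a with he | ho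
    · -- a even
      have hodd : Odd (a + 1) := he.add_one
      have h2 : 2 ^ B ∣ 2 * a := by
        have h3 : 2 ^ B ∣ (2 * a) * (a + 1) := by rw [show 2 * a * (a + 1) = 2 * (a * (a + 1)) by ring, ← h1]; exact dvd_mul_right _ _
        exact (Nat.Coprime.pow_left B (Nat.coprime_two_left.2 hodd)).dvd_of_dvd_mul_right h3
      obtain ⟨k, hk⟩ := h2
      have h3 : g₁ = k * (a + 1) := by
        have h4 : 2 ^ B * g₁ = 2 ^ B * (k * (a + 1)) := by
          rw [h1, show 2 * (a * (a + 1)) = (2 * a) * (a + 1) by ring, hk]; ring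
        exact Nat.eq_of_mul_eq_mul_left (by positivity) h4
      have hk0 : k ≠ 0 := by rintro rfl; rw [zero_mul] at h3; omega
      have hk1 : k = 1 := by
        by_contra hne
        have h5 : 2 * (a + 1) ≤ k * (a + 1) := Nat.mul_le_mul_right _ (by omega)
        omega
      rw [hk1, mul_one] at hk
      exact ⟨B, Or.inl (by omega)⟩
    · have h2 : 2 ^ B ∣ 2 * (a + 1) := by
        have h3 : 2 ^ B ∣ (2 * (a + 1)) * a := by rw [show 2 * (a + 1) * a = 2 * (a * (a + 1)) by ring, ← h1]; exact dvd_mul_right _ _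
        exact (Nat.Coprime.pow_left B (Nat.coprime_two_left.2 ho)).dvd_of_dvd_mul_right h3
      obtain ⟨k, hk⟩ := h2
      have h3 : g₁ = k * a := by
        have h4 : 2 ^ B * g₁ = 2 ^ B * (k * a) := by
          rw [h1, show 2 * (a * (a + 1)) = (2 * (a + 1)) * a by ring, hk]; ring
        exact Nat.eq_of_mul_eq_mul_left (by positivity) h4
      have hk0 : k ≠ 0 := by rintro rfl; rw [zero_mul] at h3; omega
      have hk1 : k = 1 := by
        by_contra hne
        have h5 : 2 * a ≤ k * a := Nat.mul_le_mul_right _ (by omega)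
        omega
      rw [hk1, mul_one] at hk
      exact ⟨B, Or.inr (by omega)⟩
  · exfalso
    have hle : q ^ B ≤ a + 1 := by
      by_cases hB : B = 0
      · rw [hB, pow_zero]; omega
      · have h2 : q ^ B ∣ a * (a + 1) := by
          have h3 : q ^ B ∣ 2 * (a * (a + 1)) := by rw [← h1]; exact dvd_mul_right _ _
          have h4 : (q ^ B).Coprime 2 := by
            apply Nat.Coprime.pow_left
            rw [Nat.coprime_primes hq Nat.prime_two]
            exact hq2
          exact h4.dvd_of_dvd_mul_left h3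
        rw [hcop.isPrimePow_dvd_mul (hq.isPrimePow.pow hB)] at h2
        rcases h2 with h3 | h3
        · have := Nat.le_of_dvd (by omega) h3
          omega
        · exact Nat.le_of_dvd (by omega) h3
    have h5 : q ^ B * g₁ < (a + 1) * (2 * a) := by
      calc q ^ B * g₁ ≤ (a + 1) * g₁ := Nat.mul_le_mul_right _ hle
        _ < (a + 1) * (2 * a) := Nat.mul_lt_mul_of_pos_left hlt (by omega)
    rw [h1] at h5
    have : (a + 1) * (2 * a) = 2 * (a * (a + 1)) := by ring
    omega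

/-- the identification, `q ∤ g₁` -/
theorem ident {G : Type*} [Group G] [Finite G] [IsSimpleGroup G] (hG : ¬ IsMulCommutative G) {p q B g₁ : ℕ} [hp : Fact p.Prime]
    (hq : q.Prime) (hqp : q ≠ p) (hcard : Nat.card G = p * q ^ B * g₁) (hqg : ¬ q ∣ g₁) (hlt : g₁ < p - 1) :
    (∃ (m : ℕ) (F : Type) (_ : Field F) (_ : Fintype F), Fintype.card F = p ∧ 3 < p ∧ (p = 2 ^ m + 1 ∨ p = 2 ^ m - 1) ∧
      Nonempty (G ≃* Matrix.ProjectiveSpecialLinearGroup (Fin 2) F)) ∨
    (∃ (m : ℕ) (F : Type) (_ : Field F) (_ : Fintype F), Fintype.card F = 2 ^ m ∧ p = 2 ^ m + 1 ∧ 3 < p ∧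
      Nonempty (G ≃* Matrix.ProjectiveSpecialLinearGroup (Fin 2) F)) := by
  classical
  haveI : Fintype G := Fintype.ofFinite G
  have hb := card_lt hG hq hqp hcard hqg hlt
  have hpG : p ∣ Nat.card G := by rw [hcard, mul_assoc]; exact dvd_mul_right _ _
  have htop : ∀ N : Subgroup G, N.Normal → N = ⊥ ∨ N = ⊤ := fun N hN => hN.eq_bot_or_eq_top
  have hnoprime : ¬ (Nat.card G).Prime := by
    intro h
    haveI : Fact (Nat.card G).Prime := ⟨h⟩
    haveI := isCyclic_of_prime_card (α := G) rfl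
    exact hG IsCyclic.isMulCommutative
  obtain ⟨P⟩ : Nonempty (Sylow p G) := inferInstance
  have hPn : ¬ (P : Subgroup G).Normal := by
    intro hN
    rcases htop _ hN with h | h
    · have h1 : p ^ 1 ∣ Nat.card (P : Subgroup G) := P.pow_dvd_card_of_pow_dvd_card (by rwa [pow_one])
      rw [h, Subgroup.card_bot, pow_one, Nat.dvd_one] at h1
      exact hp.out.one_lt.ne' h1
    · have h1 : IsPGroup p (⊤ : Subgroup G) := by rw [← h]; exact P.isPGroup'
      have h2 : IsPGroup p G := h1.of_equiv Subgroup.topEquiv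
      haveI := h2.isNilpotent
      have hcn := h2.center_nontrivial
      have h3 := center_bot hG
      rw [h3] at hcn
      exact (not_nontrivial (⊥ : Subgroup G)) hcn
  have h2n : ∀ N : Subgroup G, N.Normal → Nat.card N ≠ 2 := by
    intro N hN h2
    rcases htop N hN with h | h
    · rw [h, Subgroup.card_bot] at h2; omega
    · rw [h, Subgroup.card_top] at h2
      exact hnoprime (by rw [h2]; exact Nat.prime_two)
  rcases Cfsg.Agent.S4701.result (perfect hG) p hpG hb P hPn h2n with ⟨F, i1, i2, hF, hp3, ⟨φ⟩⟩ | ⟨m, F, i1, i2, hF, hpm, hp3, ⟨φ⟩⟩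
  · left
    have hc := Cfsg.Agent.H5.SmallIso.card_PSL2 (F := F)
    rw [hF, ← Nat.card_congr φ.toEquiv, hcard] at hc
    have hodd : Odd p := hp.out.odd_of_ne_two (by omega)
    have hg : Nat.gcd 2 (p - 1) = 2 := by
      obtain ⟨w, hw⟩ := hodd
      have : p - 1 = 2 * w := by omega
      rw [this]; exact Nat.gcd_eq_left (Dvd.intro w rfl)
    rw [hg] at hc
    have h1 : 2 * (q ^ B * g₁) = (p - 1) * (p + 1) := by
      apply Nat.eq_of_mul_eq_mul_left hp.out.pos
      calc p * (2 * (q ^ B * g₁)) = 2 * (p * q ^ B * g₁) := by ring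
        _ = p * (p - 1) * (p + 1) := hc
        _ = _ := by ring
    obtain ⟨m, hm⟩ := arith hp.out hp3 hq h1 hqg hlt
    exact ⟨m, F, i1, i2, hF, hp3, hm, ⟨φ⟩⟩
  · right
    have hcen : Subgroup.center (Matrix.SpecialLinearGroup (Fin 2) F) = ⊥ := by
      haveI : Nontrivial (Matrix.SpecialLinearGroup (Fin 2) F) := φ.symm.toEquiv.nontrivial
      rw [eq_bot_iff]
      intro x hx
      have h1 : φ.symm x ∈ Subgroup.center G := by
        rw [Subgroup.mem_center_iff] at hx ⊢
        intro y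
        have := hx (φ y)
        have h2 := congrArg φ.symm this
        rw [map_mul, map_mul, φ.symm_apply_apply] at h2
        exact h2
      rw [center_bot hG, Subgroup.mem_bot] at h1
      rw [Subgroup.mem_bot]
      exact (MulEquiv.map_eq_one_iff _).1 h1
    refine ⟨m, F, i1, i2, hF, hpm, hp3, ⟨φ.trans ?_⟩⟩
    exact (QuotientGroup.quotientBot (G := Matrix.SpecialLinearGroup (Fin 2) F)).symm.trans
      (QuotientGroup.quotientMulEquivOfEq hcen.symm)

/-- Brauer-Tuan -/
theorem brauer_tuan {G : Type*} [Group G] [Finite G] [IsSimpleGroup G] (hG : ¬ IsMulCommutative G) {p q b g₀ : ℕ} (hp : p.Prime)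
    (hq : q.Prime) (hpq : p ≠ q) (hcard : Nat.card G = p * q ^ b * g₀) (hlt : g₀ < p - 1) :
    (∃ (m : ℕ) (F : Type) (_ : Field F) (_ : Fintype F), Fintype.card F = p ∧ 3 < p ∧ (p = 2 ^ m + 1 ∨ p = 2 ^ m - 1) ∧
      Nonempty (G ≃* Matrix.ProjectiveSpecialLinearGroup (Fin 2) F)) ∨
    (∃ (m : ℕ) (F : Type) (_ : Field F) (_ : Fintype F), Fintype.card F = 2 ^ m ∧ p = 2 ^ m + 1 ∧ 3 < p ∧
      Nonempty (G ≃* Matrix.ProjectiveSpecialLinearGroup (Fin 2) F)) := by
  haveI : Fact p.Prime := ⟨hp⟩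
  have hg0 : g₀ ≠ 0 := by
    rintro rfl
    rw [mul_zero] at hcard
    exact absurd hcard Nat.card_pos.ne'
  obtain ⟨c, g₁, hqg, hg⟩ := Nat.exists_eq_pow_mul_and_not_dvd hg0 q hq.one_lt.ne'
  have hle : g₁ ≤ g₀ := by
    rw [hg]; exact Nat.le_mul_of_pos_left _ (pow_pos hq.pos c)
  have hcard' : Nat.card G = p * q ^ (b + c) * g₁ := by
    rw [hcard, hg, pow_add]; ring
  exact ident hG hq (Ne.symm hpq) hcard' hqg (by omega)

end Cfsg.Agent.H9.BT
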