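import Mathlib
import Cfsg.Agent.H9_BT12
import Cfsg.Agent.H4_Transfer
import Cfsg.Agent.H19_Transfer
import Cfsg.Agent.S0252
import Cfsg.Agent.S0253

/-!
H9_BT13: simple groups of order `p r q^b`.
-/

set_option autoImplicit false

namespace Cfsg.Agent.H9.BT

open Cfsg

/-- a nonabelian simple group of even order has order divisible by 4 -/
theorem four_dvd {G : Type*} [Group G] [Finite G] [IsSimpleGroup G] (hG : ¬ IsMulCommutative G) (h2 : 2 ∣ Nat.card G) :
    4 ∣ Nat.card G := by
  by_contra h4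
  obtain ⟨S⟩ : Nonempty (Sylow 2 G) := inferInstance
  haveI : Fact (Nat.Prime 2) := ⟨Nat.prime_two⟩
  have hS2 : Nat.card (S : Subgroup G) = 2 := by
    obtain ⟨k, hk⟩ := IsPGroup.iff_card.1 S.isPGroup'
    have h1 : 2 ^ 1 ∣ Nat.card (S : Subgroup G) := S.pow_dvd_card_of_pow_dvd_card (by rwa [pow_one])
    have hk2 : k < 2 := by
      by_contra hge
      apply h4
      have h3 : 2 ^ 2 ∣ Nat.card (S : Subgroup G) := by rw [hk]; exact pow_dvd_pow 2 (by omega)
      exact h3.trans (Subgroup.card_subgroup_dvd_card _)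
    have hk0 : k ≠ 0 := by
      rintro rfl
      rw [hk, pow_zero, pow_one] at h1
      omega
    rw [hk, show k = 1 by omega, pow_one]
  have hcyc : IsCyclic (S : Subgroup G) := isCyclic_of_prime_card hS2
  have hScomm : IsMulCommutative (S : Subgroup G) := IsCyclic.isMulCommutative
  rw [Nat.card_eq_two_iff' (1 : (S : Subgroup G))] at hS2
  obtain ⟨x, hx1, hx⟩ := hS2
  obtain ⟨K, hK⟩ := Cfsg.Agent.H4.Transfer.exists_index_two_of_central S hScomm x x.2
    (fun h => hx1 (Subtype.ext h)) (by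
      intro n hn
      have h1 : n * (x : G) * n⁻¹ ∈ (S : Subgroup G) := (Subgroup.mem_normalizer_iff.1 hn x).1 x.2
      have h2 : (⟨n * (x : G) * n⁻¹, h1⟩ : (S : Subgroup G)) ≠ 1 := by
        intro h
        have h3 : n * (x : G) * n⁻¹ = 1 := congrArg Subtype.val h
        rw [mul_inv_eq_one, mul_eq_left] at h3
        exact hx1 (Subtype.ext h3)
      have h3 : n * (x : G) * n⁻¹ = x := congrArg Subtype.val (hx _ h2)
      exact mul_inv_eq_iff_eq_mul.1 h3)
  exact Cfsg.Agent.H19.Transfer.no_index_two hG K hK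

theorem two_adic {r q b m s : ℕ} (hr : r.Prime) (hq : q.Prime) (hqr : q ≠ r) (hs : Odd s) (h : r * q ^ b = 2 ^ m * s)
    (hm : 2 ≤ m) : q = 2 ∧ r = s := by
  have h2 : 2 ∣ r * q ^ b := by
    rw [h]; exact dvd_mul_of_dvd_left (dvd_pow_self 2 (by omega)) s
  have hq2 : q = 2 := by
    rcases (Nat.prime_two.dvd_mul).1 h2 with h3 | h3
    · have h4 : r = 2 := ((Nat.prime_dvd_prime_iff_eq Nat.prime_two hr).1 h3).symm
      obtain ⟨m', rfl⟩ : ∃ m', m = m' + 2 := ⟨m - 2, by omega⟩
      have h5 : 2 * q ^ b = 2 * (2 * (2 ^ m' * s)) := by rw [← h4, h, h4, pow_add]; ring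
      have h6 : q ^ b = 2 * (2 ^ m' * s) := Nat.eq_of_mul_eq_mul_left (by norm_num) h5
      have h7 : 2 ∣ q ^ b := by rw [h6]; exact dvd_mul_right _ _
      exact ((Nat.prime_dvd_prime_iff_eq Nat.prime_two hq).1 (Nat.prime_two.dvd_of_dvd_pow h7)).symm
    · exact ((Nat.prime_dvd_prime_iff_eq Nat.prime_two hq).1 (Nat.prime_two.dvd_of_dvd_pow h3)).symm
  subst hq2
  refine ⟨rfl, ?_⟩
  have hrodd : Odd r := hr.odd_of_ne_two (Ne.symm hqr)
  have h3 : 2 ^ m ∣ 2 ^ b := by
    have : 2 ^ m ∣ r * 2 ^ b := by rw [h]; exact dvd_mul_right _ _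
    exact (Nat.Coprime.pow_left m (Nat.coprime_two_left.2 hrodd)).dvd_of_dvd_mul_left this
  have h4 : 2 ^ b ∣ 2 ^ m := by
    have : 2 ^ b ∣ 2 ^ m * s := by rw [← h]; exact dvd_mul_left _ _
    exact (Nat.Coprime.pow_left b (Nat.coprime_two_left.2 hs)).dvd_of_dvd_mul_right this
  have h5 := Nat.dvd_antisymm h3 h4
  rw [← h5, mul_comm] at h
  exact Nat.eq_of_mul_eq_mul_left (by positivity) h

theorem three_dvd_add {m : ℕ} (h : Odd m) : 3 ∣ 2 ^ m + 1 := by
  obtain ⟨k, rfl⟩ := h
  have : 2 ^ (2 * k + 1) + 1 ≡ 0 [MOD 3] := by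
    rw [pow_succ, pow_mul]
    have h1 : (2 ^ 2) ^ k ≡ 1 [MOD 3] := by
      have := (show 2 ^ 2 ≡ 1 [MOD 3] by decide).pow k
      rwa [one_pow] at this
    have h2 := (h1.mul_right 2).add_right 1
    exact h2.trans (by decide)
  exact (Nat.modEq_zero_iff_dvd).1 this

theorem three_dvd_sub {m : ℕ} (h : Even m) : 3 ∣ 2 ^ m - 1 := by
  obtain ⟨k, rfl⟩ := h
  have h1 : (2 ^ 2) ^ k ≡ 1 [MOD 3] := by
    have := (show 2 ^ 2 ≡ 1 [MOD 3] by decide).pow k
    rwa [one_pow] at this
  rw [show 2 ^ (k + k) = (2 ^ 2) ^ k by rw [← pow_mul]; congr 1; ring]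
  exact (Nat.modEq_iff_dvd' (Nat.one_le_pow _ _ (by norm_num))).1 h1.symm

theorem pr_aux {G : Type*} [Group G] [Finite G] [IsSimpleGroup G] (hG : ¬ IsMulCommutative G) {p q r b : ℕ} (hp : p.Prime) (hq : q.Prime)
    (hr : r.Prime) (hpq : p ≠ q) (hqr : q ≠ r) (hlt : r < p) (hcard : Nat.card G = p * r * q ^ b) :
    (∃ (F : Type) (_ : Field F) (_ : Fintype F), Fintype.card F = 5 ∧ Nonempty (G ≃* Matrix.ProjectiveSpecialLinearGroup (Fin 2) F)) ∨
    (∃ (F : Type) (_ : Field F) (_ : Fintype F), Fintype.card F = 7 ∧ Nonempty (G ≃* Matrix.ProjectiveSpecialLinearGroup (Fin 2) F)) := by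
  by_cases hr1 : r < p - 1
  · have h3 : ∀ x : ℕ, x.Prime → 3 ∣ x → x = 3 := fun x hx h => ((Nat.prime_dvd_prime_iff_eq Nat.prime_three hx).1 h).symm
    rcases brauer_tuan hG hp hq hpq (b := b) (g₀ := r) (by rw [hcard]; ring) hr1 with
      ⟨m, F, i1, i2, hF, hp3, hm, ⟨φ⟩⟩ | ⟨m, F, i1, i2, hF, hm, hp3, ⟨φ⟩⟩
    · have hc := Cfsg.Agent.H5.SmallIso.card_PSL2 (F := F)
      rw [hF, ← Nat.card_congr φ.toEquiv, hcard] at hc
      have hodd : Odd p := hp.odd_of_ne_two (by omega)
      have hg : Nat.gcd 2 (p - 1) = 2 := by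
        obtain ⟨w, hw⟩ := hodd
        have : p - 1 = 2 * w := by omega
        rw [this]; exact Nat.gcd_eq_left (Dvd.intro w rfl)
      rw [hg] at hc
      have h1 : 2 * (r * q ^ b) = (p - 1) * (p + 1) := by
        apply Nat.eq_of_mul_eq_mul_left hp.pos
        calc p * (2 * (r * q ^ b)) = 2 * (p * r * q ^ b) := by ring
          _ = p * (p - 1) * (p + 1) := hc
          _ = _ := by ring
      have hm0 : 2 ≤ m := by
        by_contra hlt
        have : m = 0 ∨ m = 1 := by omega
        rcases this with rfl | rfl <;> norm_num at hm <;> omega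
      obtain ⟨n, rfl⟩ : ∃ n, m = n + 1 := ⟨m - 1, by omega⟩
      have hpow : 2 ^ (n + 1) = 2 * 2 ^ n := by rw [pow_succ]; ring
      have hn1 : 1 ≤ n := by omega
      have h2n : 2 ∣ 2 ^ n := dvd_pow_self 2 (by omega)
      rcases hm with hm | hm
      · left
        have h4 : r * q ^ b = 2 ^ (n + 1) * (2 ^ n + 1) := by
          have e1 : p - 1 = 2 * 2 ^ n := by omega
          have e2 : p + 1 = 2 * (2 ^ n + 1) := by omega
          rw [e1, e2] at h1
          have : 2 * (r * q ^ b) = 2 * (2 ^ (n + 1) * (2 ^ n + 1)) := by rw [h1, hpow]; ring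
          omega
        have hodd2 : Odd (2 ^ n + 1) := (even_iff_two_dvd.2 h2n).add_one
        obtain ⟨hq2, hrs⟩ := two_adic hr hq hqr hodd2 h4 hm0
        rcases Nat.even_or_odd n with he | ho
        · exfalso
          have h5 := three_dvd_add he.add_one
          rw [← hm] at h5
          have := h3 p hp h5
          omega
        · have h5 := three_dvd_add ho
          rw [← hrs] at h5
          have h6 := h3 r hr h5
          have h7 : 2 ^ n = 2 := by omega
          exact ⟨F, i1, i2, by omega, ⟨φ⟩⟩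
      · right
        have h8 : 2 ^ (n + 1) ≥ 2 ^ 2 := Nat.pow_le_pow_right (by norm_num) hm0
        have h4 : r * q ^ b = 2 ^ (n + 1) * (2 ^ n - 1) := by
          have e1 : p - 1 = 2 * (2 ^ n - 1) := by omega
          have e2 : p + 1 = 2 * 2 ^ n := by omega
          rw [e1, e2] at h1
          have : 2 * (r * q ^ b) = 2 * (2 ^ (n + 1) * (2 ^ n - 1)) := by rw [h1, hpow]; ring
          omega
        have hodd2 : Odd (2 ^ n - 1) := by
          obtain ⟨w, hw⟩ := h2n
          exact ⟨w - 1, by omega⟩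
        obtain ⟨hq2, hrs⟩ := two_adic hr hq hqr hodd2 h4 hm0
        rcases Nat.even_or_odd n with he | ho
        · have h5 := three_dvd_sub he
          rw [← hrs] at h5
          have h6 := h3 r hr h5
          exact ⟨F, i1, i2, by omega, ⟨φ⟩⟩
        · exfalso
          have h5 := three_dvd_sub ho.add_one
          rw [← hm] at h5
          have := h3 p hp h5
          omega
    · left
      have hm2 : 2 ≤ m := by
        by_contra hlt
        have : m = 0 ∨ m = 1 := by omega
        rcases this with rfl | rfl <;> norm_num at hm <;> omega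
      have h2m : 2 ∣ 2 ^ m := dvd_pow_self 2 (by omega)
      have hc := Cfsg.Agent.H5.SmallIso.card_PSL2 (F := F)
      rw [hF, ← Nat.card_congr φ.toEquiv, hcard] at hc
      have hg : Nat.gcd 2 (2 ^ m - 1) = 1 := by
        obtain ⟨w, hw⟩ := h2m
        rw [← Nat.coprime_iff_gcd_eq_one, Nat.coprime_two_left]
        have : 0 < 2 ^ m := by positivity
        exact ⟨w - 1, by omega⟩
      rw [hg, one_mul, ← hm] at hc
      have h4 : r * q ^ b = 2 ^ m * (2 ^ m - 1) := by
        apply Nat.eq_of_mul_eq_mul_left hp.pos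
        rw [← mul_assoc, hc]; ring
      have hodd2 : Odd (2 ^ m - 1) := by
        obtain ⟨w, hw⟩ := h2m
        have : 0 < 2 ^ m := by positivity
        exact ⟨w - 1, by omega⟩
      obtain ⟨hq2, hrs⟩ := two_adic hr hq hqr hodd2 h4 hm2
      rcases Nat.even_or_odd m with he | ho
      · have h5 := three_dvd_sub he
        rw [← hrs] at h5
        have h6 := h3 r hr h5
        have hF4 : Fintype.card F = 4 := by rw [hF]; omega
        obtain ⟨ψ⟩ := Cfsg.Agent.S0252.result hF4
        haveI : Fact (Nat.Prime 5) := ⟨by norm_num⟩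
        obtain ⟨ψ'⟩ := Cfsg.Agent.S0253.result (F := ZMod 5) (ZMod.card 5)
        exact ⟨ZMod 5, inferInstance, inferInstance, ZMod.card 5, ⟨(φ.trans ψ).trans ψ'.symm⟩⟩
      · exfalso
        have h5 := three_dvd_add ho
        rw [← hm] at h5
        have := h3 p hp h5
        omega
  · exfalso
    have h1 : p = r + 1 := by omega
    have hr2 : r = 2 := by
      by_contra hne
      have h2 : Odd r := hr.odd_of_ne_two hne
      have h3 : Odd p := hp.odd_of_ne_two (by have := hr.two_le; omega)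
      rw [Nat.odd_iff] at h2 h3
      omega
    subst hr2
    subst h1
    have h4 := four_dvd hG (by rw [hcard]; exact ⟨3 * q ^ b, by ring⟩)
    rw [hcard] at h4
    have hqo : Odd q := hq.odd_of_ne_two hqr
    have h5 : Odd (q ^ b) := hqo.pow
    obtain ⟨w, hw⟩ := h5
    rw [hw] at h4
    omega

end Cfsg.Agent.H9.BT
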