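import Cfsg.Statements.S0999
import Mathlib
import Cfsg.Agent.S4701

set_option autoImplicit false
open Cfsg

namespace Cfsg.Agent.S0999

/-- Let G be a non-cyclic finite simple group and p a prime divisor of its order with p^3 > |G|. Then p > 3 and G is isomorphic to the projective special linear group of dimension 2 over the field with p elements, or p - 1 is a power of 2 and G is isomorphic to that group over the field with p - 1 elements. -/
theorem result {G : Type*} [Group G] [Finite G] [IsSimpleGroup G] (hG : ¬ IsCyclic G) (p : ℕ) (hp : p.Prime) (hdvd : p ∣ Nat.card G) (hbig : Nat.card G < p ^ 3) : (∃ (F : Type) (_ : Field F) (_ : Fintype F), Fintype.card F = p ∧ 3 < p ∧ Nonempty (G ≃* Matrix.ProjectiveSpecialLinearGroup (Fin 2) F)) ∨ (∃ (m : ℕ) (F : Type) (_ : Field F) (_ : Fintype F), Fintype.card F = 2 ^ m ∧ p = 2 ^ m + 1 ∧ 3 < p ∧ Nonempty (G ≃* Matrix.ProjectiveSpecialLinearGroup (Fin 2) F)) := by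
  classical
  haveI : Fact p.Prime := ⟨hp⟩
  have hnab : ¬ ∀ a b : G, a * b = b * a := by
    intro h
    apply hG
    letI : CommGroup G := { (inferInstance : Group G) with mul_comm := h }
    infer_instance
  have hperf : commutator G = ⊤ := by
    rcases (inferInstance : (commutator G).Normal).eq_bot_or_eq_top with h | h
    · exfalso
      apply hnab
      intro a b
      have h1 := Subgroup.commutator_mem_commutator (Subgroup.mem_top a) (Subgroup.mem_top b)
      rw [← commutator_def, h, Subgroup.mem_bot] at h1
      exact commutatorElement_eq_one_iff_mul_comm.mp h1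
    · exact h
  obtain ⟨P⟩ : Nonempty (Sylow p G) := inferInstance
  have hP : ¬ (P : Subgroup G).Normal := by
    intro h
    rcases h.eq_bot_or_eq_top with h1 | h1
    · have h2 : p ∣ Nat.card (P : Subgroup G) := by
        have := P.pow_dvd_card_of_pow_dvd_card (n := 1) (by rwa [pow_one])
        rwa [pow_one] at this
      rw [h1, Subgroup.card_bot, Nat.dvd_one] at h2
      exact hp.one_lt.ne' h2
    · have h2 : IsPGroup p G := by
        have h3 := P.2
        rw [h1] at h3
        exact h3.of_equiv Subgroup.topEquiv
      haveI : Nontrivial G := IsSimpleGroup.toNontrivial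
      haveI := h2.center_nontrivial
      rcases (inferInstance : (Subgroup.center G).Normal).eq_bot_or_eq_top with h3 | h3
      · exact (Subgroup.nontrivial_iff_ne_bot _).mp inferInstance h3
      · apply hnab
        intro a b
        have : b ∈ Subgroup.center G := by rw [h3]; trivial
        exact Subgroup.mem_center_iff.mp this a
  have h2 : ∀ N : Subgroup G, N.Normal → Nat.card N ≠ 2 := by
    intro N hN hc
    rcases hN.eq_bot_or_eq_top with h1 | h1
    · rw [h1, Subgroup.card_bot] at hc; norm_num at hc
    · rw [h1, Subgroup.card_top] at hc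
      haveI : Fact (Nat.Prime 2) := ⟨Nat.prime_two⟩
      exact hG (isCyclic_of_prime_card hc)
  rcases Cfsg.Agent.S4701.result hperf p hdvd hbig P hP h2 with h | h
  · exact Or.inl h
  · right
    obtain ⟨m, F, i1, i2, hF, hpm, hp3, ⟨φ⟩⟩ := h
    haveI : CharP F 2 := charP_of_card_eq_prime_pow hF
    exact ⟨m, F, i1, i2, hF, hpm, hp3, ⟨φ.trans (Cfsg.Agent.H21.SL2e.equivPSL (F := F))⟩⟩

end Cfsg.Agent.S0999
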