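import Mathlib
import Cfsg.Agent.H9_BT13
import Cfsg.Agent.H3_Burnside
import Cfsg.Agent.H10_BlockMain

/-!
H9_SO1: simple groups of order `4 p^a q^b` and `3 p^a q^b`: general lemmas.
-/

set_option autoImplicit false

open scoped ComplexConjugate

namespace Cfsg.Agent.H9.SO

open Cfsg Cfsg.Agent.H3.CharIrr Cfsg.Agent.H3.CharComplete Cfsg.Agent.H10.Char Cfsg.Agent.H10.BlockKer
  Cfsg.Agent.H9.BrVec Cfsg.Agent.H9.BrMain Cfsg.Agent.H9.BrThm Cfsg.Agent.H9.BrCor Cfsg.Agent.H9.BrSC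
  Cfsg.Agent.H9.BT

variable {G : Type*} [Group G] [Fintype G] [IsSimpleGroup G]

/-- Burnside: the value at a nontrivial element whose class size is prime to the degree is zero -/
theorem vanish_coprime (hG : ¬ IsMulCommutative G) {χ : IrrCharacter G} (hχ : χ ≠ triv G) {g : G} (hg : g ≠ 1)
    (hcop : Nat.Coprime (charDegree (χ : G → ℂ)) (Subgroup.centralizer ({g} : Set G)).index) : (χ : G → ℂ) g = 0 := by
  have hn := norm_ne hG hχ hg
  have hd := charDegree_eq χ.2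
  obtain ⟨n, ρ, hρ, hρχ⟩ := χ.2
  have h1 : (Module.finrank ℂ (Fin n → ℂ)) = charDegree (χ : G → ℂ) := by
    have : (χ : G → ℂ) 1 = (Module.finrank ℂ (Fin n → ℂ) : ℂ) := by rw [← hρχ, Representation.char_one]
    rw [this] at hd
    exact_mod_cast hd.symm
  rcases Cfsg.Agent.H3.CharGal.burnside_lemma ρ hρ g (by rw [h1]; exact hcop) with h0 | h0
  · rw [← hρχ]; exact h0
  · exfalso
    apply hn
    rw [← h1, ← hρχ]; exact h0

/-- `p`-subgroups are abelian if there is a nontrivial character of degree at most `p` -/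
theorem comm_of_deg_le (hG : ¬ IsMulCommutative G) {r : ℕ} (hr : r.Prime) {χ : IrrCharacter G} (hχ : χ ≠ triv G)
    (hdeg : charDegree (χ : G → ℂ) ≤ r) (P : Subgroup G) (hP : IsPGroup r P) : ∀ a ∈ P, ∀ b ∈ P, a * b = b * a := by
  classical
  haveI : Fact r.Prime := ⟨hr⟩
  haveI : Fintype P := Fintype.ofFinite _
  haveI : Fintype (IrrCharacter P) := Fintype.ofFinite _
  have hres : IsCharacter P (fun x : P => (χ : G → ℂ) x) := Cfsg.Agent.H25.Brauer.IsChar.res (IsIrr.isCharacter χ.2) P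
  obtain ⟨n, hn, hsum⟩ := Cfsg.Agent.H3.CharMult.IsChar.eq_sum_nat hres
  have hres1 : (fun x : P => (χ : G → ℂ) x) 1 = ((charDegree (χ : G → ℂ) : ℕ) : ℂ) := by
    rw [charDegree_eq χ.2]; rfl
  by_cases hall : ∀ ψ : IrrCharacter P, n ψ ≠ 0 → charDegree (ψ : P → ℂ) = 1
  · -- all constituents linear
    intro a ha b hb
    have hlin : ∀ ψ : IrrCharacter P, n ψ ≠ 0 → (ψ : P → ℂ) (⟨a, ha⟩ * ⟨b, hb⟩ * (⟨a, ha⟩)⁻¹ * (⟨b, hb⟩)⁻¹) = (ψ : P → ℂ) 1 := by
      intro ψ hψ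
      have h1 := charDegree_eq ψ.2
      rw [hall ψ hψ, Nat.cast_one] at h1
      obtain ⟨f, hf⟩ := Cfsg.Agent.H3.CharInd.IsChar.hom_units_of_one (IsIrr.isCharacter ψ.2) h1.symm
      rw [hf, hf]
      rw [map_mul, map_mul, map_mul, map_inv, map_inv, map_one]
      rw [mul_comm (f ⟨a, ha⟩) (f ⟨b, hb⟩), mul_inv_cancel_right, mul_inv_cancel]
    have hval : (χ : G → ℂ) (a * b * a⁻¹ * b⁻¹) = (χ : G → ℂ) 1 := by
      have e1 := congrFun hsum (⟨a, ha⟩ * ⟨b, hb⟩ * (⟨a, ha⟩)⁻¹ * (⟨b, hb⟩)⁻¹)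
      have e2 := congrFun hsum 1
      rw [Finset.sum_apply] at e1 e2
      have e3 : (χ : G → ℂ) (a * b * a⁻¹ * b⁻¹) = ∑ ψ : IrrCharacter P, ((n ψ : ℂ) • (ψ : P → ℂ)) 1 := by
        rw [← Finset.sum_congr rfl fun ψ _ => ?_]
        · exact e1
        · rw [Pi.smul_apply, Pi.smul_apply]
          by_cases hψ : n ψ = 0
          · rw [hψ, Nat.cast_zero, zero_smul, zero_smul]
          · rw [hlin ψ hψ]
      rw [e3]; exact e2.symm
    have h5 := simple_ker hχ _ hval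
    rw [mul_inv_eq_one, mul_inv_eq_iff_eq_mul] at h5
    exact h5
  · exfalso
    push Not at hall
    obtain ⟨ψ, hψ0, hψ1⟩ := hall
    have hψd : charDegree (ψ : P → ℂ) ∣ Nat.card P := Cfsg.Agent.H10.BlockGreen.charDegree_dvd_card ψ
    obtain ⟨k, hk⟩ := IsPGroup.iff_card.1 hP
    rw [hk] at hψd
    obtain ⟨m, hm, hψm⟩ := (Nat.dvd_prime_pow hr).1 hψd
    have hm0 : m ≠ 0 := by rintro rfl; exact hψ1 (by rw [hψm, pow_zero])
    have hle : charDegree (ψ : P → ℂ) ≤ charDegree (χ : G → ℂ) :=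
      Cfsg.Agent.H3.CharMult.IsChar.degree_le' hres ψ.2 (by rw [hn]; exact_mod_cast hψ0) hres1 (charDegree_eq ψ.2).symm
    have hge : r ≤ charDegree (ψ : P → ℂ) := by
      rw [hψm]
      calc r = r ^ 1 := (pow_one r).symm
        _ ≤ r ^ m := Nat.pow_le_pow_right hr.pos (Nat.one_le_iff_ne_zero.2 hm0)
    have heq := Cfsg.Agent.H3.CharMult.IsChar.eq_of_degree hres ψ.2 (by rw [hn]; exact_mod_cast hψ0)
      (hres1.trans (by rw [← charDegree_eq ψ.2, le_antisymm (hdeg.trans hge) hle]))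
    haveI : Nontrivial P := by
      rw [← Finite.one_lt_card_iff_nontrivial, hk]
      apply Nat.one_lt_pow _ hr.one_lt
      rintro rfl
      rw [pow_zero] at hψd
      exact hψ1 (Nat.dvd_one.1 hψd)
    haveI : Nontrivial (Subgroup.center P) := hP.center_nontrivial
    obtain ⟨z, hz⟩ := exists_ne (1 : Subgroup.center P)
    have hzG : ((z : P) : G) ≠ 1 := by
      intro h
      apply hz
      exact Subtype.ext (Subtype.ext h)
    apply norm_ne hG hχ hzG
    obtain ⟨c, hc, hc'⟩ := Cfsg.Agent.H3.CharInt.IsIrr.central ψ.2 z.2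
    have e1 := hc' 1
    rw [one_mul, ← heq] at e1
    have e2 : (χ : G → ℂ) ((z : P) : G) = c * (χ : G → ℂ) 1 := e1
    rw [e2, norm_mul, Complex.norm_eq_one_of_pow_eq_one hc (orderOf_pos _).ne', one_mul, ← charDegree_eq χ.2]
    simp

/-- abelian Sylow `r`-subgroup and a nontrivial character of `r`-power degree -/
theorem card_dvd_of_pow (hG : ¬ IsMulCommutative G) {r c : ℕ} (hr : r.Prime) {χ : IrrCharacter G} (hχ : χ ≠ triv G)
    (hdeg : charDegree (χ : G → ℂ) = r ^ c) (P : Sylow r G) (hP : ∀ a ∈ (P : Subgroup G), ∀ b ∈ (P : Subgroup G), a * b = b * a) :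
    Nat.card P ∣ charDegree (χ : G → ℂ) := by
  classical
  haveI : Fact r.Prime := ⟨hr⟩
  haveI : Fintype (P : Subgroup G) := Fintype.ofFinite _
  obtain ⟨m, hm⟩ := Cfsg.Agent.H10.BlockMain.sum_char_subgroup (IsIrr.isCharacter χ.2) (P : Subgroup G)
  have hv : ∀ u ∈ (Finset.univ : Finset (P : Subgroup G)), u ≠ 1 → (χ : G → ℂ) u = 0 := by
    intro u _ hu
    apply vanish_coprime hG hχ (fun h => hu (Subtype.ext h))
    rw [hdeg]
    apply Nat.Coprime.pow_left
    rw [Nat.Prime.coprime_iff_not_dvd hr]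
    intro hdv
    apply P.not_dvd_index
    apply hdv.trans
    apply Subgroup.index_dvd_of_le
    intro x hx
    rw [Subgroup.mem_centralizer_singleton_iff]
    exact hP x hx u u.2
  rw [Finset.sum_eq_single 1 (fun u hu hu1 => hv u hu hu1) (fun h => absurd (Finset.mem_univ _) h), Subgroup.coe_one,
    ← charDegree_eq χ.2] at hm
  exact ⟨m, by exact_mod_cast hm⟩

theorem dvd_of_prime_pow_deg (hG : ¬ IsMulCommutative G) {r c m : ℕ} (hr : r.Prime) {χ : IrrCharacter G} (hχ : χ ≠ triv G)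
    (hdeg : charDegree (χ : G → ℂ) = r ^ c) (hab : ∀ P : Sylow r G, ∀ a ∈ (P : Subgroup G), ∀ b ∈ (P : Subgroup G), a * b = b * a)
    (hm : r ^ m ∣ Nat.card G) : m ≤ c := by
  haveI : Fact r.Prime := ⟨hr⟩
  obtain ⟨P⟩ : Nonempty (Sylow r G) := inferInstance
  have h1 := card_dvd_of_pow hG hr hχ hdeg P (hab P)
  have h2 : r ^ m ∣ Nat.card (P : Subgroup G) := P.pow_dvd_card_of_pow_dvd_card hm
  have h3 := h2.trans h1
  rw [hdeg] at h3
  exact (Nat.pow_dvd_pow_iff_le_right hr.one_lt).1 h3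

end Cfsg.Agent.H9.SO
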