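import Mathlib
import Cfsg.Agent.H9_SO1

/-!
H9_SO2: the principal 3-block when the Sylow 3-subgroup has order 3; simple groups of order `3 p^2 q^b`.
-/

set_option autoImplicit false

open scoped ComplexConjugate

namespace Cfsg.Agent.H9.SO

open Cfsg Cfsg.Agent.H3.CharIrr Cfsg.Agent.H3.CharComplete Cfsg.Agent.H10.Char Cfsg.Agent.H10.BlockKer
  Cfsg.Agent.H9.BrVec Cfsg.Agent.H9.BrMain Cfsg.Agent.H9.BrThm Cfsg.Agent.H9.BrCor Cfsg.Agent.H9.BrSC
  Cfsg.Agent.H9.BT

variable {G : Type*} [Group G] [Fintype G] [IsSimpleGroup G]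

theorem b3 (hG : ¬ IsMulCommutative G) {m : ℕ} (hcard : Nat.card G = 3 * m) (hm : ¬ 3 ∣ m) :
    ∃ χ ψ : IrrCharacter G, χ ≠ triv G ∧ ψ ≠ triv G ∧ ¬ 3 ∣ charDegree (χ : G → ℂ) ∧ ¬ 3 ∣ charDegree (ψ : G → ℂ) ∧
      charDegree (ψ : G → ℂ) = charDegree (χ : G → ℂ) + 1 := by
  classical
  haveI : Fact (Nat.Prime 3) := ⟨Nat.prime_three⟩
  obtain ⟨z, hz⟩ := exists_prime_orderOf_dvd_card' (G := G) 3 (by rw [hcard]; exact dvd_mul_right _ _)
  have hzp : z ^ 3 = 1 := by rw [← hz]; exact pow_orderOf_eq_one z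
  have hsyl : ¬ 3 ∣ (Subgroup.zpowers z).index := by
    have h1 := (Subgroup.zpowers z).card_mul_index
    rw [Nat.card_zpowers, hz, hcard] at h1
    have : (Subgroup.zpowers z).index = m := by omega
    rwa [this]
  obtain ⟨M, hM⟩ := Cfsg.Agent.H26.Kernel.exists_isPModular 3 Nat.prime_three
  obtain ⟨X, Y, δ, ε, L, h1, h2, h3, h4, h5, h6, h7, h8, h9, h10, h11, h12⟩ := brauer hM hz hzp hsyl
  have hLY : ∀ j, L j ∈ Y := fun j => (h9 _).2 ⟨j, rfl⟩
  have hLX : ∀ j, L j ∉ X := fun j h => (Finset.disjoint_left.1 h2) h (hLY j)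
  have hLt : ∀ j, L j ≠ triv G := fun j h => hLX j (by rw [h]; exact h3)
  have hcJ := card_J hz
  set e := Nat.card (BrMain.om hz).range with he
  have hez : 0 < e := Nat.card_pos
  have h1p : ¬ 3 ∣ orderOf (1 : G) := by
    rw [orderOf_one]; norm_num
  have hrel1 : ∀ j, (ε : ℤ) * charDegree (L j : G → ℂ) = ∑ χ ∈ X, δ χ * charDegree (χ : G → ℂ) := by
    intro j
    have e1 := h12 j 1 h1p
    have e2 : ((ε * charDegree (L j : G → ℂ) : ℤ) : ℂ) = ((∑ χ ∈ X, δ χ * charDegree (χ : G → ℂ) : ℤ) : ℂ) := by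
      push_cast
      rw [charDegree_eq (L j).2, e1]
      exact Finset.sum_congr rfl fun χ _ => by rw [charDegree_eq χ.2]
    exact_mod_cast e2
  have hδt : δ (triv G) = 1 := by
    have e1 := (h6 _ h3).2 1
    rw [vv_triv hzp 1] at e1
    exact e1.symm
  have hdt : charDegree ((triv G : IrrCharacter G) : G → ℂ) = 1 := by
    have := charDegree_eq (triv G).2
    rw [triv_coe] at this
    exact_mod_cast this
  obtain ⟨j⟩ : Nonempty ((ZMod 3)ˣ ⧸ (BrMain.om hz).range) := inferInstance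
  have hLpos : 0 < charDegree (L j : G → ℂ) := charDegree_pos (L j).2
  have hrel := hrel1 j
  rw [← Finset.add_sum_erase _ _ h3, hδt, one_mul, hdt, Nat.cast_one] at hrel
  have he12 : e = 1 ∨ e = 2 := by
    have h' : 0 < Nat.card ((ZMod 3)ˣ ⧸ (om hz).range) := Nat.card_pos
    have h'' : e ≤ 2 := by
      calc e ≤ e * Nat.card ((ZMod 3)ˣ ⧸ (om hz).range) := Nat.le_mul_of_pos_right e h'
        _ = 2 := hcJ
    omega
  have hcXe : (X.erase (triv G)).card = e - 1 := by rw [Finset.card_erase_of_mem h3, h4]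
  rcases he12 with he1 | he2
  · exfalso
    rw [he1] at hcXe
    rw [Finset.card_eq_zero.1 hcXe, Finset.sum_empty, add_zero] at hrel
    apply hLt j
    apply lin_triv hG
    rcases h7 with h | h <;> rw [h] at hrel <;> omega
  · rw [he2] at hcXe
    obtain ⟨χ, hχ⟩ := Finset.card_eq_one.1 hcXe
    have hχX : χ ∈ X := Finset.mem_of_mem_erase (by rw [hχ]; exact Finset.mem_singleton_self χ : χ ∈ X.erase (triv G))
    have hχt : χ ≠ triv G := Finset.ne_of_mem_erase (by rw [hχ]; exact Finset.mem_singleton_self χ : χ ∈ X.erase (triv G))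
    rw [hχ, Finset.sum_singleton] at hrel
    have hdχ := nonexc_degree hzp (h6 χ hχX).2
    have hLdeg := exc_degree hzp (BrMain.om hz).range (s := ε) j (fun a ha => h10 j a ha) (fun a ha => h11 j a ha)
    rw [← he, he2] at hLdeg
    have hpos := charDegree_pos χ.2
    have hχ1 : charDegree (χ : G → ℂ) ≠ 1 := fun h => hχt (lin_triv hG h)
    have hL1 : charDegree (L j : G → ℂ) ≠ 1 := fun h => hLt j (lin_triv hG h)
    have n1 : ¬ 3 ∣ charDegree (χ : G → ℂ) := by
      intro h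
      rcases (h6 χ hχX).1 with h' | h' <;> rw [h'] at hdχ <;> push_cast at hdχ <;> omega
    have n2 : ¬ 3 ∣ charDegree (L j : G → ℂ) := by
      intro h
      rcases h7 with h' | h' <;> rw [h'] at hLdeg <;> push_cast at hLdeg <;> omega
    rcases (h6 χ hχX).1 with h' | h' <;> rcases h7 with h'' | h'' <;> rw [h', h''] at hrel
    · exact ⟨χ, L j, hχt, hLt j, n1, n2, by omega⟩
    · omega
    · omega
    · exact ⟨L j, χ, hLt j, hχt, n2, n1, by omega⟩

end Cfsg.Agent.H9.SO
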