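import Mathlib
import Cfsg.Agent.H9_SO2
import Cfsg.Agent.H9_FieldCongr
import Cfsg.Agent.S0998

/-!
H9_SO3: simple groups of order `3 p^a q^b`, `a ≤ 2`.
-/

set_option autoImplicit false

namespace Cfsg.Agent.H9.SO

open Cfsg Cfsg.Agent.H3.CharIrr Cfsg.Agent.H3.CharComplete Cfsg.Agent.H10.Char Cfsg.Agent.H10.BlockKer
  Cfsg.Agent.H9.BrVec Cfsg.Agent.H9.BrMain Cfsg.Agent.H9.BrThm Cfsg.Agent.H9.BrCor Cfsg.Agent.H9.BrSC
  Cfsg.Agent.H9.BT

theorem no_two_primes {G : Type*} [Group G] [Finite G] [IsSimpleGroup G] (hG : ¬ IsMulCommutative G) {p q a b : ℕ} (hp : p.Prime) (hq : q.Prime)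
    (hcard : Nat.card G = p ^ a * q ^ b) : False := by
  have h1 := Cfsg.Agent.H3.Burnside.burnside (Nat.card G) G p q a b hp hq rfl hcard
  apply hG
  rw [isMulCommutative_iff]
  exact IsSimpleGroup.comm_iff_isSolvable.2 h1

def IsA5 (G : Type*) [Group G] : Prop := Nonempty (G ≃* alternatingGroup (Fin 5))
def IsL7 (G : Type*) [Group G] : Prop := Nonempty (G ≃* Matrix.ProjectiveSpecialLinearGroup (Fin 2) (ZMod 7))

theorem conv {G : Type*} [Group G]
    (h : (∃ (F : Type) (_ : Field F) (_ : Fintype F), Fintype.card F = 5 ∧ Nonempty (G ≃* Matrix.ProjectiveSpecialLinearGroup (Fin 2) F)) ∨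
    (∃ (F : Type) (_ : Field F) (_ : Fintype F), Fintype.card F = 7 ∧ Nonempty (G ≃* Matrix.ProjectiveSpecialLinearGroup (Fin 2) F))) :
    IsA5 G ∨ IsL7 G := by
  rcases h with ⟨F, i1, i2, hF, ⟨φ⟩⟩ | ⟨F, i1, i2, hF, ⟨φ⟩⟩
  · left
    obtain ⟨ψ⟩ := Cfsg.Agent.S0253.result hF
    exact ⟨φ.trans ψ⟩
  · right
    haveI : Fact (Nat.Prime 7) := ⟨by norm_num⟩
    have h1 : F ≃+* ZMod 7 := FiniteField.ringEquivOfCardEq (by rw [hF, ZMod.card])
    obtain ⟨ψ⟩ := Cfsg.Agent.H9.FieldCongr.psl (n := 2) h1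
    exact ⟨φ.trans ψ⟩

theorem card_A5 : Nat.card (alternatingGroup (Fin 5)) = 60 := by
  rw [nat_card_alternatingGroup, Nat.card_eq_fintype_card, Fintype.card_fin]; decide

theorem card_L7 : Nat.card (Matrix.ProjectiveSpecialLinearGroup (Fin 2) (ZMod 7)) = 168 := by
  haveI : Fact (Nat.Prime 7) := ⟨by norm_num⟩
  have hc := Cfsg.Agent.H5.SmallIso.card_PSL2 (F := ZMod 7)
  rw [ZMod.card] at hc
  have : Nat.gcd 2 (7 - 1) = 2 := by decide
  rw [this] at hc
  omega

theorem three_two {G : Type*} [Group G] [Fintype G] [IsSimpleGroup G] (hG : ¬ IsMulCommutative G) {p a b : ℕ} (hp : p.Prime) (hp3 : p ≠ 3)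
    (ha : a ≤ 2) (hcard : Nat.card G = 3 * p ^ a * 2 ^ b) : IsA5 G ∨ IsL7 G := by
  have hp2 : p ≠ 2 := by
    rintro rfl
    exact no_two_primes hG Nat.prime_three Nat.prime_two (a := 1) (b := a + b) (by rw [hcard]; ring)
  have h3 : ¬ 3 ∣ p ^ a * 2 ^ b := by
    intro h
    rcases (Nat.Prime.dvd_mul Nat.prime_three).1 h with h1 | h1
    · exact hp3 ((Nat.prime_dvd_prime_iff_eq Nat.prime_three hp).1 (Nat.prime_three.dvd_of_dvd_pow h1)).symm
    · have := (Nat.prime_dvd_prime_iff_eq Nat.prime_three Nat.prime_two).1 (Nat.prime_three.dvd_of_dvd_pow h1)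
      omega
  have ha0 : a ≠ 0 := by
    rintro rfl
    exact no_two_primes hG Nat.prime_three Nat.prime_two (a := 1) (b := b) (by rw [hcard]; ring)
  obtain ⟨χ, ψ, hχ, hψ, n1, n2, hdeg⟩ := b3 hG (m := p ^ a * 2 ^ b) (by rw [hcard]; ring) h3
  have hdv : ∀ ζ : IrrCharacter G, ¬ 3 ∣ charDegree (ζ : G → ℂ) → charDegree (ζ : G → ℂ) ∣ p ^ a * 2 ^ b := by
    intro ζ hζ
    have h1 : charDegree (ζ : G → ℂ) ∣ 3 * (p ^ a * 2 ^ b) := by
      have := Cfsg.Agent.H10.BlockGreen.charDegree_dvd_card ζ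
      rwa [hcard, mul_assoc] at this
    exact (((Nat.Prime.coprime_iff_not_dvd Nat.prime_three).2 hζ).symm).dvd_of_dvd_mul_left h1
  -- the odd one is a power of p
  have hodd : ∀ ζ : IrrCharacter G, ζ ≠ triv G → ¬ 3 ∣ charDegree (ζ : G → ℂ) → ¬ 2 ∣ charDegree (ζ : G → ℂ) →
      charDegree (ζ : G → ℂ) = p ^ a := by
    intro ζ hζ0 hζ hζ2
    have h1 : charDegree (ζ : G → ℂ) ∣ p ^ a :=
      ((((Nat.Prime.coprime_iff_not_dvd Nat.prime_two).2 hζ2).symm).pow_right b).dvd_of_dvd_mul_right (hdv ζ hζ)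
    obtain ⟨c, hc, hζc⟩ := (Nat.dvd_prime_pow hp).1 h1
    have hc0 : c ≠ 0 := by
      rintro rfl
      exact hζ0 (lin_triv hG (by rw [hζc, pow_zero]))
    haveI : Fact p.Prime := ⟨hp⟩
    have hab : ∀ P : Sylow p G, ∀ x ∈ (P : Subgroup G), ∀ y ∈ (P : Subgroup G), x * y = y * x := by
      intro P
      have hPc : Nat.card (P : Subgroup G) ∣ p ^ 2 := by
        have h2 : Nat.card (P : Subgroup G) = p ^ (Nat.card G).factorization p := Sylow.card_eq_multiplicity P
        rw [h2]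
        apply pow_dvd_pow
        rw [hcard]
        have h3' : ¬ p ∣ 3 * 2 ^ b := by
          intro h
          rcases (Nat.Prime.dvd_mul hp).1 h with h4 | h4
          · exact hp3 ((Nat.prime_dvd_prime_iff_eq hp Nat.prime_three).1 h4)
          · exact hp2 ((Nat.prime_dvd_prime_iff_eq hp Nat.prime_two).1 (hp.dvd_of_dvd_pow h4))
        rw [show 3 * p ^ a * 2 ^ b = p ^ a * (3 * 2 ^ b) by ring, Nat.factorization_mul (pow_ne_zero _ hp.ne_zero) (by positivity),
          Finsupp.add_apply, Nat.Prime.factorization_pow hp, Finsupp.single_eq_same,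
          Nat.factorization_eq_zero_of_not_dvd h3', add_zero]
        exact ha
      obtain ⟨k, hk, hPk⟩ := (Nat.dvd_prime_pow hp).1 hPc
      have hcomm : ∀ x y : (P : Subgroup G), x * y = y * x := by
        interval_cases k
        · rw [pow_zero] at hPk
          haveI : Subsingleton (P : Subgroup G) := (Nat.card_eq_one_iff_unique.1 hPk).1
          intro x y
          exact Subsingleton.elim _ _
        · rw [pow_one] at hPk
          haveI := isCyclic_of_prime_card hPk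
          exact fun x y => IsCyclic.commGroup.mul_comm x y
        · exact fun x y => (IsPGroup.commGroupOfCardEqPrimeSq hPk).mul_comm x y
      intro x hx y hy
      exact congrArg Subtype.val (hcomm ⟨x, hx⟩ ⟨y, hy⟩)
    have h5 := dvd_of_prime_pow_deg hG hp hζ0 hζc hab (m := a) (by rw [hcard]; exact ⟨3 * 2 ^ b, by ring⟩)
    rw [hζc, le_antisymm hc h5]
  have ha12 : a = 1 ∨ a = 2 := by omega
  rcases ha12 with rfl | rfl
  · rw [pow_one] at hcard
    exact conv (Cfsg.Agent.S0998.result (fun h => hG (by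
      rw [isMulCommutative_iff]; exact fun x y => IsCyclic.commGroup.mul_comm x y)) p 2 3 b hp Nat.prime_two Nat.prime_three
      hp2 hp3 (by norm_num) (by rw [hcard]; ring))
  · exfalso
    -- p^2 = 2^m ± 1
    have hev : ∀ ζ : IrrCharacter G, ¬ 3 ∣ charDegree (ζ : G → ℂ) → ¬ p ∣ charDegree (ζ : G → ℂ) →
        ∃ m, charDegree (ζ : G → ℂ) = 2 ^ m := by
      intro ζ hζ hζ2
      have h1 : charDegree (ζ : G → ℂ) ∣ 2 ^ b :=
        ((((Nat.Prime.coprime_iff_not_dvd hp).2 hζ2).symm).pow_right 2).dvd_of_dvd_mul_left (hdv ζ hζ)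
      obtain ⟨c, hc, hζc⟩ := (Nat.dvd_prime_pow Nat.prime_two).1 h1
      exact ⟨c, hζc⟩
    have hp5 : 5 ≤ p := by
      have := hp.two_le
      by_contra hlt
      have h4 : p = 4 := by omega
      rw [h4] at hp
      exact absurd hp (by norm_num)
    have hpodd : p % 2 = 1 := Nat.odd_iff.1 (hp.odd_of_ne_two hp2)
    have hpsq : p ^ 2 % 4 = 1 := by
      have h4 : p % 4 = 1 ∨ p % 4 = 3 := by omega
      rcases h4 with h | h <;> rw [Nat.pow_mod, h]
    by_cases h2 : 2 ∣ charDegree (χ : G → ℂ)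
    · -- ψ odd
      have e1 := hodd ψ hψ n2 (by omega)
      have hnp : ¬ p ∣ charDegree (χ : G → ℂ) := by
        intro h
        have h6 : p ∣ charDegree (ψ : G → ℂ) := by rw [e1]; exact dvd_pow_self p two_ne_zero
        rw [hdeg] at h6
        have := (Nat.dvd_add_right h).1 h6
        exact hp.one_lt.ne' (Nat.dvd_one.1 this)
      obtain ⟨m, hm⟩ := hev χ n1 hnp
      -- 2^m + 1 = p^2
      have e2 : (p - 1) * (p + 1) = 2 ^ m := by
        have : p ^ 2 = 2 ^ m + 1 := by rw [← e1, hdeg, hm]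
        obtain ⟨r, rfl⟩ : ∃ r, p = r + 1 := ⟨p - 1, by omega⟩
        rw [Nat.add_sub_cancel]
        nlinarith
      obtain ⟨u, -, hu⟩ := (Nat.dvd_prime_pow Nat.prime_two).1 (Dvd.intro _ e2)
      obtain ⟨v, -, hv⟩ := (Nat.dvd_prime_pow Nat.prime_two).1 (Dvd.intro_left _ e2)
      have hu2 : 2 ≤ u := by
        by_contra hlt
        have : u ≤ 1 := by omega
        have : 2 ^ u ≤ 2 ^ 1 := Nat.pow_le_pow_right (by norm_num) this
        omega
      have hv2 : 2 ≤ v := by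
        by_contra hlt
        have : v ≤ 1 := by omega
        have : 2 ^ v ≤ 2 ^ 1 := Nat.pow_le_pow_right (by norm_num) this
        omega
      have d1 : 4 ∣ p - 1 := by rw [hu]; exact pow_dvd_pow 2 hu2
      have d2 : 4 ∣ p + 1 := by rw [hv]; exact pow_dvd_pow 2 hv2
      omega
    · -- χ odd
      have e1 := hodd χ hχ n1 h2
      have hnp : ¬ p ∣ charDegree (ψ : G → ℂ) := by
        intro h
        have h6 : p ∣ charDegree (χ : G → ℂ) := by rw [e1]; exact dvd_pow_self p two_ne_zero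
        rw [hdeg] at h
        have := (Nat.dvd_add_right h6).1 h
        exact hp.one_lt.ne' (Nat.dvd_one.1 this)
      obtain ⟨m, hm⟩ := hev ψ n2 hnp
      have e3 : p ^ 2 + 1 = 2 ^ m := by rw [← hm, hdeg, e1]
      have hm2 : 2 ≤ m := by
        by_contra hlt
        have : m ≤ 1 := by omega
        have : 2 ^ m ≤ 2 ^ 1 := Nat.pow_le_pow_right (by norm_num) this
        have : 5 ^ 2 ≤ p ^ 2 := Nat.pow_le_pow_left hp5 2
        omega
      have d1 : 4 ∣ 2 ^ m := pow_dvd_pow 2 hm2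
      omega

end Cfsg.Agent.H9.SO
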