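import Mathlib
import Cfsg.Agent.H9_SO3

/-!
H9_SO4: simple groups of order `4 p^a q^b`, `a ≤ 2`: the arithmetic.
-/

set_option autoImplicit false

namespace Cfsg.Agent.H9.SO

open Cfsg Cfsg.Agent.H3.CharIrr Cfsg.Agent.H3.CharComplete Cfsg.Agent.H10.Char Cfsg.Agent.H10.BlockKer
  Cfsg.Agent.H9.BrVec Cfsg.Agent.H9.BrMain Cfsg.Agent.H9.BrThm Cfsg.Agent.H9.BrCor Cfsg.Agent.H9.BrSC
  Cfsg.Agent.H9.BT

theorem a5_of_card {G : Type*} [Group G] [Fintype G] [IsSimpleGroup G] (hG : ¬ IsMulCommutative G) (h : Nat.card G = 60) : IsA5 G := by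
  have hnc : ¬ IsCyclic G := by
    intro hc
    apply hG
    rw [isMulCommutative_iff]; exact fun x y => IsCyclic.commGroup.mul_comm x y
  rcases conv (Cfsg.Agent.S0998.result hnc 5 2 3 2 (by norm_num) Nat.prime_two Nat.prime_three
      (by norm_num) (by norm_num) (by norm_num) (by rw [h]; norm_num)) with h1 | ⟨⟨φ⟩⟩
  · exact h1
  · exfalso
    rw [Nat.card_congr φ.toEquiv, card_L7] at h
    omega

theorem comm_of_sq {G : Type*} [Group G] [Finite G] {p a m : ℕ} (hp : p.Prime) (ha : a ≤ 2) (hm : ¬ p ∣ m) (hcard : Nat.card G = p ^ a * m)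
    (P : Sylow p G) : ∀ x ∈ (P : Subgroup G), ∀ y ∈ (P : Subgroup G), x * y = y * x := by
  haveI : Fact p.Prime := ⟨hp⟩
  have hm0 : m ≠ 0 := fun h => hm (h ▸ dvd_zero p)
  have hPc : Nat.card (P : Subgroup G) ∣ p ^ 2 := by
    have h2 : Nat.card (P : Subgroup G) = p ^ (Nat.card G).factorization p := Sylow.card_eq_multiplicity P
    rw [h2]
    apply pow_dvd_pow
    rw [hcard, Nat.factorization_mul (pow_ne_zero _ hp.ne_zero) hm0,
      Finsupp.add_apply, Nat.Prime.factorization_pow hp, Finsupp.single_eq_same,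
      Nat.factorization_eq_zero_of_not_dvd hm, add_zero]
    exact ha
  obtain ⟨k, hk, hPk⟩ := (Nat.dvd_prime_pow hp).1 hPc
  have hcomm : ∀ x y : (P : Subgroup G), x * y = y * x := by
    interval_cases k
    · rw [pow_zero] at hPk
      haveI : Subsingleton (P : Subgroup G) := (Nat.card_eq_one_iff_unique.1 hPk).1
      intro x y
      exact Subsingleton.elim _ _
    · rw [pow_one] at hPk
      haveI := isCyclic_of_prime_card hPk
      exact fun x y => IsCyclic.commGroup.mul_comm x y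
    · exact fun x y => (IsPGroup.commGroupOfCardEqPrimeSq hPk).mul_comm x y
  intro x hx y hy
  exact congrArg Subtype.val (hcomm ⟨x, hx⟩ ⟨y, hy⟩)

/-- arithmetic, abstract form. Signed degrees `x = ± q^c`, `y = ± p^a`, `z = ± p^i q^j`. -/
theorem arith4 {p q a c i j s k : ℕ} (hp : p.Prime) (hq : q.Prime) (hp2 : p ≠ 2) (hq2 : q ≠ 2) (hpq : p ≠ q) (ha : a ≠ 0) (hc : c ≠ 0)
    {x y z : ℤ} (hx : x = q ^ c ∨ x = -q ^ c) (hy : y = p ^ a ∨ y = -p ^ a) (hz : z = p ^ i * q ^ j ∨ z = -(p ^ i * q ^ j))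
    (hsum : 1 + x + y + z = 0) {X Y Z : ℤ} (hX : 1 + x = 2 * X) (hY : 1 + y = 2 * Y) (hZ : 1 + z = 2 * Z)
    (oX : ¬ 2 ∣ X) (oY : ¬ 2 ∣ Y) (oZ : ¬ 2 ∣ Z) (hij : j = 0 → i = a) (hij' : i = 0 → j ≠ 0) (hij'' : i ≠ 0 ∨ j ≠ 0) {r : ℤ}
    (hr : r ∣ 4 * q ^ s) (hstar : X * Y * Z * q ^ k = r ^ 2 * q ^ c * p ^ i * q ^ j ∨ X * Y * Z * q ^ k = -(r ^ 2 * q ^ c * p ^ i * q ^ j)) :
    (q ^ c = 3 ∧ p ^ a = 5) ∨ (q ^ c = 5 ∧ p ^ a = 3) := by
  have pp : Prime (p : ℤ) := Nat.prime_iff_prime_int.1 hp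
  have pq : Prime (q : ℤ) := Nat.prime_iff_prime_int.1 hq
  have p2 : Prime (2 : ℤ) := Int.prime_two
  have hp3 : 3 ≤ p := by have := hp.two_le; omega
  have hq3 : 3 ≤ q := by have := hq.two_le; omega
  have hqc : 3 ≤ q ^ c := by
    calc 3 ≤ q := hq3
      _ = q ^ 1 := (pow_one q).symm
      _ ≤ q ^ c := Nat.pow_le_pow_right hq.pos (by omega)
  have hpa : 3 ≤ p ^ a := by
    calc 3 ≤ p := hp3
      _ = p ^ 1 := (pow_one p).symm
      _ ≤ p ^ a := Nat.pow_le_pow_right hp.pos (by omega)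
  have hqcZ : (3 : ℤ) ≤ q ^ c := by exact_mod_cast hqc
  have hpaZ : (3 : ℤ) ≤ p ^ a := by exact_mod_cast hpa
  -- coprimality
  have cop_pow : ∀ {u : ℤ} {w : ℕ} (n : ℕ), w.Prime → ¬ (w : ℤ) ∣ u → IsCoprime u ((w : ℤ) ^ n) := by
    intro u w n hw h
    apply IsCoprime.pow_right
    exact ((Nat.prime_iff_prime_int.1 hw).coprime_iff_not_dvd.2 h).symm
  have cop2 : ∀ {u : ℤ} (n : ℕ), ¬ 2 ∣ u → IsCoprime u ((2 : ℤ) ^ n) := by
    intro u n h
    exact IsCoprime.pow_right (p2.coprime_iff_not_dvd.2 h).symm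
  have qnd2 : ¬ (q : ℤ) ∣ 2 := by
    intro h
    have : q ∣ 2 := by exact_mod_cast h
    exact hq2 ((Nat.prime_dvd_prime_iff_eq hq Nat.prime_two).1 this)
  have pnd2 : ¬ (p : ℤ) ∣ 2 := by
    intro h
    have : p ∣ 2 := by exact_mod_cast h
    exact hp2 ((Nat.prime_dvd_prime_iff_eq hp Nat.prime_two).1 this)
  have pnq : ¬ (p : ℤ) ∣ q := by
    intro h
    have : p ∣ q := by exact_mod_cast h
    exact hpq ((Nat.prime_dvd_prime_iff_eq hp hq).1 this)
  -- r^2 divides 2^4 q^(2s)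
  have hr2 : r ^ 2 ∣ 2 ^ 4 * (q : ℤ) ^ (2 * s) := by
    have := pow_dvd_pow_of_dvd hr 2
    rw [show (4 * (q : ℤ) ^ s) ^ 2 = 2 ^ 4 * (q : ℤ) ^ (2 * s) by ring] at this
    exact this
  -- any odd divisor of XYZ divides q^K p^i
  have hall : X * Y * Z ∣ 2 ^ 4 * (q : ℤ) ^ (2 * s + c + j) * p ^ i := by
    have h1 : X * Y * Z ∣ r ^ 2 * q ^ c * p ^ i * q ^ j := by
      rcases hstar with h | h
      · exact ⟨q ^ k, h.symm⟩
      · exact ⟨-q ^ k, by rw [mul_neg, h, neg_neg]⟩
    apply h1.trans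
    obtain ⟨t, ht⟩ := hr2
    exact ⟨t, by linear_combination (q : ℤ) ^ (c + j) * p ^ i * ht⟩
  have odd_dvd : ∀ {u : ℤ}, ¬ 2 ∣ u → u ∣ X * Y * Z → u ∣ (q : ℤ) ^ (2 * s + c + j) * p ^ i := by
    intro u hu h
    have h1 := h.trans hall
    rw [mul_assoc] at h1
    exact (cop2 4 hu).dvd_of_dvd_mul_left h1
  have hXd := odd_dvd oX (Dvd.intro (Y * Z) (by ring))
  have hYd := odd_dvd oY (Dvd.intro (X * Z) (by ring))
  have hZd := odd_dvd oZ (Dvd.intro (X * Y) (by ring))
  have qx : (q : ℤ) ∣ x := by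
    rcases hx with h | h <;> rw [h]
    · exact dvd_pow_self _ hc
    · exact (dvd_neg).2 (dvd_pow_self _ hc)
  have py : (p : ℤ) ∣ y := by
    rcases hy with h | h <;> rw [h]
    · exact dvd_pow_self _ ha
    · exact (dvd_neg).2 (dvd_pow_self _ ha)
  -- if w ∣ t and 1 + t = 2 T then w does not divide T
  have key : ∀ {w t T : ℤ}, Prime w → w ∣ t → 1 + t = 2 * T → ¬ w ∣ T := by
    intro w t T hw h1 h2 h3
    have h4 : w ∣ 1 := by
      have h5 : w ∣ 2 * T - t := dvd_sub (dvd_mul_of_dvd_right h3 2) h1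
      have h6 : 2 * T - t = 1 := by linarith
      rwa [h6] at h5
    exact hw.not_unit (isUnit_of_dvd_one h4)
  have qX : ¬ (q : ℤ) ∣ X := key pq qx hX
  have pY : ¬ (p : ℤ) ∣ Y := key pp py hY
  have hXp : X ∣ (p : ℤ) ^ i := (cop_pow _ hq qX).dvd_of_dvd_mul_left hXd
  have hYq : Y ∣ (q : ℤ) ^ (2 * s + c + j) := (cop_pow _ hp pY).dvd_of_dvd_mul_right hYd
  by_cases hi : i = 0
  · -- z = ± q^j
    left
    have hj := hij' hi
    rw [hi, pow_zero] at hXp
    have qz : (q : ℤ) ∣ z := by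
      rcases hz with h | h <;> rw [h]
      · exact dvd_mul_of_dvd_right (dvd_pow_self _ hj) _
      · exact (dvd_neg).2 (dvd_mul_of_dvd_right (dvd_pow_self _ hj) _)
    have qZ : ¬ (q : ℤ) ∣ Z := key pq qz hZ
    rw [hi, pow_zero, mul_one] at hZd
    have hZ1 : Z ∣ 1 := (cop_pow (2 * s + c + j) hq qZ).dvd_of_dvd_mul_left (by rwa [mul_one])
    have eX := Int.isUnit_iff.1 (isUnit_of_dvd_one hXp)
    have eZ := Int.isUnit_iff.1 (isUnit_of_dvd_one hZ1)
    have hqj : (3 : ℤ) ≤ q ^ j := by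
      have : 3 ≤ q ^ j := by
        calc 3 ≤ q := hq3
          _ = q ^ 1 := (pow_one q).symm
          _ ≤ q ^ j := Nat.pow_le_pow_right hq.pos (by omega)
      exact_mod_cast this
    have ex : x = -3 := by
      rcases eX with h | h <;> rw [h] at hX
      · rcases hx with h' | h' <;> linarith
      · linarith
    have ez : z = -3 := by
      rw [hi, pow_zero, one_mul] at hz
      rcases eZ with h | h <;> rw [h] at hZ
      · rcases hz with h' | h' <;> linarith
      · linarith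
    have ey : y = 5 := by linarith
    refine ⟨?_, ?_⟩
    · have : (q : ℤ) ^ c = 3 := by rcases hx with h' | h' <;> linarith
      exact_mod_cast this
    · have : (p : ℤ) ^ a = 5 := by rcases hy with h' | h' <;> linarith
      exact_mod_cast this
  · have pz : (p : ℤ) ∣ z := by
      rcases hz with h | h <;> rw [h]
      · exact dvd_mul_of_dvd_left (dvd_pow_self _ hi) _
      · exact (dvd_neg).2 (dvd_mul_of_dvd_left (dvd_pow_self _ hi) _)
    have pZ : ¬ (p : ℤ) ∣ Z := key pp pz hZ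
    by_cases hj : j = 0
    · -- z = ± p^a
      right
      have hia := hij hj
      rw [hj, pow_zero, mul_one] at hz
      rw [hia] at hz
      -- p^i divides X
      have hpX : (p : ℤ) ^ i ∣ X := by
        have h1 : (p : ℤ) ^ i ∣ X * (Y * Z * q ^ k) := by
          rcases hstar with h | h
          · exact ⟨r ^ 2 * q ^ c * q ^ j, by linear_combination h⟩
          · exact ⟨-(r ^ 2 * q ^ c * q ^ j), by linear_combination h⟩
        have h2 : IsCoprime ((p : ℤ) ^ i) (Y * Z * q ^ k) := by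
          apply IsCoprime.pow_left
          rw [pp.coprime_iff_not_dvd]
          intro h3
          rcases pp.dvd_or_dvd h3 with h4 | h4
          · rcases pp.dvd_or_dvd h4 with h5 | h5
            · exact pY h5
            · exact pZ h5
          · exact pnq (pp.dvd_of_dvd_pow h4)
        exact h2.dvd_of_dvd_mul_right h1
      have hXa : X = p ^ i ∨ X = -p ^ i := Int.natAbs_eq_natAbs_iff.1 (Nat.dvd_antisymm (Int.natAbs_dvd_natAbs.2 hXp) (Int.natAbs_dvd_natAbs.2 hpX))
      rw [hia] at hXa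
      have hyz : y = z ∧ x = -1 - 2 * y := by
        rcases hXa with h | h <;> rw [h] at hX <;> rcases hy with h' | h' <;> rcases hz with h'' | h'' <;>
          (constructor <;> linarith)
      have qY : ¬ (q : ℤ) ∣ Y := by
        intro h
        have h1 : (q : ℤ) ∣ 1 := by
          have h2 : (q : ℤ) ∣ 4 * Y + x := dvd_add (dvd_mul_of_dvd_right h 4) qx
          have h3 : 4 * Y + x = 1 := by rw [hyz.2]; linarith
          rwa [h3] at h2
        exact pq.not_unit (isUnit_of_dvd_one h1)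
      have hY1 : Y ∣ 1 := (cop_pow (2 * s + c + j) hq qY).dvd_of_dvd_mul_left (by rwa [mul_one])
      have eY := Int.isUnit_iff.1 (isUnit_of_dvd_one hY1)
      have ey : y = -3 := by
        rcases eY with h | h <;> rw [h] at hY
        · rcases hy with h' | h' <;> linarith
        · linarith
      have ex : x = 5 := by rw [hyz.2, ey]; norm_num
      refine ⟨?_, ?_⟩
      · have : (q : ℤ) ^ c = 5 := by rcases hx with h' | h' <;> linarith
        exact_mod_cast this
      · have : (p : ℤ) ^ a = 3 := by rcases hy with h' | h' <;> linarith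
        exact_mod_cast this
    · exfalso
      have qz : (q : ℤ) ∣ z := by
        rcases hz with h | h <;> rw [h]
        · exact dvd_mul_of_dvd_right (dvd_pow_self _ hj) _
        · exact (dvd_neg).2 (dvd_mul_of_dvd_right (dvd_pow_self _ hj) _)
      have qZ : ¬ (q : ℤ) ∣ Z := key pq qz hZ
      have hZ1 : Z ∣ 1 := by
        have h1 := (cop_pow (2 * s + c + j) hq qZ).dvd_of_dvd_mul_left hZd
        exact (cop_pow i hp pZ).dvd_of_dvd_mul_left (by rwa [mul_one])
      have eZ := Int.isUnit_iff.1 (isUnit_of_dvd_one hZ1)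
      have h9 : (9 : ℤ) ≤ p ^ i * q ^ j := by
        have h1 : 3 ≤ p ^ i := by
          calc 3 ≤ p := hp3
            _ = p ^ 1 := (pow_one p).symm
            _ ≤ p ^ i := Nat.pow_le_pow_right hp.pos (by omega)
        have h2 : 3 ≤ q ^ j := by
          calc 3 ≤ q := hq3
            _ = q ^ 1 := (pow_one q).symm
            _ ≤ q ^ j := Nat.pow_le_pow_right hq.pos (by omega)
        have : 9 ≤ p ^ i * q ^ j := by
          calc 9 = 3 * 3 := by norm_num
            _ ≤ p ^ i * q ^ j := Nat.mul_le_mul h1 h2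
        exact_mod_cast this
      rcases eZ with h | h <;> rw [h] at hZ <;> rcases hz with h' | h' <;> linarith

end Cfsg.Agent.H9.SO
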