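import Mathlib
import Cfsg.Agent.H9_SO4

/-!
H9_SO5: simple groups of order `4 p^a q^b`, `a ≤ 2`: the group theory around the arithmetic.
-/

set_option autoImplicit false

namespace Cfsg.Agent.H9.SO

open Cfsg Cfsg.Agent.H3.CharIrr Cfsg.Agent.H3.CharComplete Cfsg.Agent.H10.Char Cfsg.Agent.H10.BlockKer
  Cfsg.Agent.H9.BrVec Cfsg.Agent.H9.BrMain Cfsg.Agent.H9.BrThm Cfsg.Agent.H9.BrCor Cfsg.Agent.H9.BrSC
  Cfsg.Agent.H9.BT

theorem fin4 {G : Type*} [Group G] [Fintype G] [IsSimpleGroup G] (hG : ¬ IsMulCommutative G) {p q a b : ℕ} (hp : p.Prime) (hq : q.Prime)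
    (hp2 : p ≠ 2) (hq2 : q ≠ 2) (hpq : p ≠ q) (ha : a ≤ 2) (hcard : Nat.card G = 4 * p ^ a * q ^ b)
    {χ₁ χ₂ χ₃ : IrrCharacter G} (h1 : χ₁ ≠ triv G) (h2 : χ₂ ≠ triv G) (h3 : χ₃ ≠ triv G) {x y z : ℤ}
    (hx : x = charDegree (χ₁ : G → ℂ) ∨ x = -charDegree (χ₁ : G → ℂ))
    (hy : y = charDegree (χ₂ : G → ℂ) ∨ y = -charDegree (χ₂ : G → ℂ))
    (hz : z = charDegree (χ₃ : G → ℂ) ∨ z = -charDegree (χ₃ : G → ℂ)) {n C : ℕ} (hn : n * C = Nat.card G) (hC : 4 ∣ C)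
    {r : ℕ} (hr : r ∣ C) (d1 : charDegree (χ₁ : G → ℂ) ∣ n) (d2 : charDegree (χ₂ : G → ℂ) ∣ n)
    (d3 : charDegree (χ₃ : G → ℂ) ∣ n) (hsum : 1 + x + y + z = 0) (m1 : 4 ∣ x - 1) (m2 : 4 ∣ y - 1) (m3 : 4 ∣ z - 1)
    (hstar : (n : ℤ) * (1 + x) * (1 + y) * (1 + z) = 8 * r ^ 2 * x * y * z)
    (n1 : ¬ p ∣ charDegree (χ₁ : G → ℂ)) (n2 : ¬ q ∣ charDegree (χ₂ : G → ℂ)) : IsA5 G := by
  obtain ⟨C', rfl⟩ := hC
  have hn' : n * C' = p ^ a * q ^ b := by
    rw [hcard] at hn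
    have : 4 * (n * C') = 4 * (p ^ a * q ^ b) := by rw [← mul_assoc 4 (p ^ a), ← hn]; ring
    exact Nat.eq_of_mul_eq_mul_left (by norm_num) this
  have hnd : n ∣ p ^ a * q ^ b := Dvd.intro _ hn'
  have hpnq : ¬ p ∣ 4 * q ^ b := by
    intro h
    rcases (Nat.Prime.dvd_mul hp).1 h with h4 | h4
    · exact hp2 ((Nat.prime_dvd_prime_iff_eq hp Nat.prime_two).1 (hp.dvd_of_dvd_pow (show p ∣ 2 ^ 2 from h4)))
    · exact hpq ((Nat.prime_dvd_prime_iff_eq hp hq).1 (hp.dvd_of_dvd_pow h4))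
  have hab : ∀ P : Sylow p G, ∀ x ∈ (P : Subgroup G), ∀ y ∈ (P : Subgroup G), x * y = y * x := fun P =>
    comm_of_sq hp ha hpnq (by rw [hcard]; ring) P
  obtain ⟨c, hc, hχc⟩ : ∃ c ≤ b, charDegree (χ₁ : G → ℂ) = q ^ c := (Nat.dvd_prime_pow hq).1
    ((((Nat.Prime.coprime_iff_not_dvd hp).2 n1).symm.pow_right a).dvd_of_dvd_mul_left (d1.trans hnd))
  have ppow : ∀ {χ : IrrCharacter G}, χ ≠ triv G → charDegree (χ : G → ℂ) ∣ n → ¬ q ∣ charDegree (χ : G → ℂ) →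
      charDegree (χ : G → ℂ) = p ^ a := by
    intro χ hχ0 hχn hχq
    obtain ⟨i, hi, hχi⟩ := (Nat.dvd_prime_pow hp).1
      ((((Nat.Prime.coprime_iff_not_dvd hq).2 hχq).symm.pow_right b).dvd_of_dvd_mul_right (hχn.trans hnd))
    have h5 := dvd_of_prime_pow_deg hG hp hχ0 hχi hab (m := a) (by rw [hcard]; exact ⟨4 * q ^ b, by ring⟩)
    rw [hχi, le_antisymm hi h5]
  have hχ2 := ppow h2 d2 n2
  have hc0 : c ≠ 0 := by
    rintro rfl
    exact h1 (lin_triv hG (by rw [hχc, pow_zero]))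
  have ha0 : a ≠ 0 := by
    rintro rfl
    exact h2 (lin_triv hG (by rw [hχ2, pow_zero]))
  obtain ⟨i, hi, j, hj, hχ3⟩ : ∃ i ≤ a, ∃ j ≤ b, charDegree (χ₃ : G → ℂ) = p ^ i * q ^ j := by
    obtain ⟨u, v, hu, hv, huv⟩ := exists_dvd_and_dvd_of_dvd_mul (d3.trans hnd)
    obtain ⟨i, hi, rfl⟩ := (Nat.dvd_prime_pow hp).1 hu
    obtain ⟨j, hj, rfl⟩ := (Nat.dvd_prime_pow hq).1 hv
    exact ⟨i, hi, j, hj, huv⟩
  -- n = p^a q^k, C' = q^s
  obtain ⟨n', hn''⟩ := d2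
  rw [hχ2] at hn''
  have hnC : n' * C' = q ^ b := by
    rw [hn'', mul_assoc] at hn'
    exact Nat.eq_of_mul_eq_mul_left (pow_pos hp.pos a) hn'
  obtain ⟨k, -, rfl⟩ := (Nat.dvd_prime_pow hq).1 (Dvd.intro _ hnC)
  obtain ⟨s, -, rfl⟩ := (Nat.dvd_prime_pow hq).1 (Dvd.intro_left _ hnC)
  obtain ⟨X, hX⟩ : (2 : ℤ) ∣ 1 + x := by omega
  obtain ⟨Y, hY⟩ : (2 : ℤ) ∣ 1 + y := by omega
  obtain ⟨Z, hZ⟩ : (2 : ℤ) ∣ 1 + z := by omega
  rw [hχc] at hx
  rw [hχ2] at hy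
  rw [hχ3] at hz
  push_cast at hx hy hz
  have hp0 : (p : ℤ) ^ a ≠ 0 := pow_ne_zero _ (by exact_mod_cast hp.ne_zero)
  have hst : X * Y * Z * q ^ k = (r : ℤ) ^ 2 * q ^ c * p ^ i * q ^ j ∨ X * Y * Z * q ^ k = -((r : ℤ) ^ 2 * q ^ c * p ^ i * q ^ j) := by
    rw [hn'', hX, hY, hZ] at hstar
    push_cast at hstar
    have e1 : (p : ℤ) ^ a * (X * Y * Z * q ^ k) = r ^ 2 * x * y * z := by linarith
    rcases hx with h | h <;> rcases hy with h' | h' <;> rcases hz with h'' | h'' <;> rw [h, h', h''] at e1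
    · left; exact mul_left_cancel₀ hp0 (by linear_combination e1)
    · right; exact mul_left_cancel₀ hp0 (by linear_combination e1)
    · right; exact mul_left_cancel₀ hp0 (by linear_combination e1)
    · left; exact mul_left_cancel₀ hp0 (by linear_combination e1)
    · right; exact mul_left_cancel₀ hp0 (by linear_combination e1)
    · left; exact mul_left_cancel₀ hp0 (by linear_combination e1)
    · left; exact mul_left_cancel₀ hp0 (by linear_combination e1)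
    · right; exact mul_left_cancel₀ hp0 (by linear_combination e1)
  have hb0 : b ≠ 0 := by
    rintro rfl
    exact no_two_primes hG Nat.prime_two hp (a := 2) (b := a) (by rw [hcard]; ring)
  have hres := arith4 (p := p) (q := q) (a := a) (c := c) (i := i) (j := j) (s := s) (k := k) hp hq hp2 hq2 hpq ha0 hc0 hx hy hz hsum hX hY hZ
    (by omega) (by omega) (by omega)
    (by
      rintro rfl
      have hd : ¬ q ∣ charDegree (χ₃ : G → ℂ) := by
        rw [hχ3, pow_zero, mul_one]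
        intro h
        exact hpq ((Nat.prime_dvd_prime_iff_eq hq hp).1 (hq.dvd_of_dvd_pow h)).symm
      have e1 := ppow h3 d3 hd
      rw [hχ3, pow_zero, mul_one] at e1
      exact Nat.pow_right_injective hp.two_le e1)
    (by
      rintro rfl rfl
      exact h3 (lin_triv hG (by rw [hχ3]; norm_num)))
    (by
      by_contra h
      push Not at h
      exact h3 (lin_triv hG (by rw [hχ3, h.1, h.2]; norm_num)))
    (r := (r : ℤ)) (by exact_mod_cast hr) hst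
  have hprime : ∀ {w m v : ℕ}, w.Prime → v.Prime → w ^ m = v → w = v ∧ m = 1 := by
    intro w m v hw hv h
    have hm : m ≠ 0 := by rintro rfl; rw [pow_zero] at h; exact hv.one_lt.ne h
    have h5 : w = v := (Nat.prime_dvd_prime_iff_eq hw hv).1 (by rw [← h]; exact dvd_pow_self _ hm)
    refine ⟨h5, ?_⟩
    rw [← h5] at h
    exact Nat.pow_right_injective hw.two_le (h.trans (pow_one w).symm)
  rcases hres with ⟨e1, e2⟩ | ⟨e1, e2⟩
  · obtain ⟨rfl, rfl⟩ := hprime hq Nat.prime_three e1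
    obtain ⟨rfl, rfl⟩ := hprime hp Nat.prime_five e2
    have hs := dvd_of_prime_pow_deg hG hq h1 hχc (fun P => comm_of_deg_le hG hq h1 (by rw [hχc]; norm_num) P P.isPGroup')
      (m := b) (by rw [hcard]; exact Dvd.intro_left _ rfl)
    have hb1 : b = 1 := by omega
    exact a5_of_card hG (by rw [hcard, hb1]; norm_num)
  · obtain ⟨rfl, rfl⟩ := hprime hq Nat.prime_five e1
    obtain ⟨rfl, rfl⟩ := hprime hp Nat.prime_three e2
    have hs := dvd_of_prime_pow_deg hG hq h1 hχc (fun P => comm_of_deg_le hG hq h2 (by rw [hχ2]; norm_num) P P.isPGroup')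
      (m := b) (by rw [hcard]; exact Dvd.intro_left _ rfl)
    have hb1 : b = 1 := by omega
    exact a5_of_card hG (by rw [hcard, hb1]; norm_num)

end Cfsg.Agent.H9.SO
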