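import Mathlib
import Cfsg.Agent.H9_SO5
import Cfsg.Agent.H25_V4Cnt2
import Cfsg.Agent.H10_BlockV4

/-!
H9_SO6: simple groups of order `4 p^a q^b` or `3 p^a q^b`, `a ≤ 2`.
-/

set_option autoImplicit false

namespace Cfsg.Agent.H9.SO

open Cfsg Cfsg.Agent.H3.CharIrr Cfsg.Agent.H3.CharComplete Cfsg.Agent.H10.Char Cfsg.Agent.H10.BlockKer
  Cfsg.Agent.H9.BrVec Cfsg.Agent.H9.BrMain Cfsg.Agent.H9.BrThm Cfsg.Agent.H9.BrCor Cfsg.Agent.H9.BrSC
  Cfsg.Agent.H9.BT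

theorem deg_dvd_index {G : Type*} [Group G] [Fintype G] (χ : IrrCharacter G) {g : G} (h : (χ : G → ℂ) g = 1 ∨ (χ : G → ℂ) g = -1) :
    charDegree (χ : G → ℂ) ∣ (Subgroup.centralizer ({g} : Set G)).index := by
  have h1 := Cfsg.Agent.H10.BlockAlg.isIntegral_centralChar χ g
  unfold centralChar at h1
  rw [← charDegree_eq χ.2] at h1
  apply Cfsg.Agent.H3.CharInt.dvd_of_isIntegral_div (charDegree_pos χ.2).ne'
  rcases h with h | h <;> rw [h] at h1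
  · rwa [mul_one] at h1
  · rw [mul_neg, mul_one, neg_div] at h1
    simpa using h1.neg

theorem star_of {n C r f₁ f₂ f₃ : ℕ} {e₁ e₂ e₃ : ℤ} (hC : C ≠ 0) (hf1 : 0 < f₁) (hf2 : 0 < f₂) (hf3 : 0 < f₃)
    (h1 : e₁ = 1 ∨ e₁ = -1) (h2 : e₂ = 1 ∨ e₂ = -1) (h3 : e₃ = 1 ∨ e₃ = -1)
    (hN : ((n * C : ℕ) : ℚ) * (1 + ((e₁ : ℚ) / f₁ + ((e₂ : ℚ) / f₂ + (e₃ : ℚ) / f₃))) = 8 * (C : ℚ) * (r : ℚ) ^ 2)
    (hsum : 1 + (e₁ : ℚ) * f₁ + e₂ * f₂ + e₃ * f₃ = 0) :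
    (n : ℤ) * (1 + e₁ * f₁) * (1 + e₂ * f₂) * (1 + e₃ * f₃) = 8 * r ^ 2 * (e₁ * f₁) * (e₂ * f₂) * (e₃ * f₃) := by
  have a1 : (f₁ : ℚ) ≠ 0 := by exact_mod_cast hf1.ne'
  have a2 : (f₂ : ℚ) ≠ 0 := by exact_mod_cast hf2.ne'
  have a3 : (f₃ : ℚ) ≠ 0 := by exact_mod_cast hf3.ne'
  have a4 : (C : ℚ) ≠ 0 := by exact_mod_cast hC
  have hN' : (n : ℚ) * (f₁ * f₂ * f₃ + e₁ * f₂ * f₃ + e₂ * f₁ * f₃ + e₃ * f₁ * f₂) = 8 * r ^ 2 * (f₁ * f₂ * f₃) := by
    apply mul_left_cancel₀ a4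
    have e : (f₁ : ℚ) * f₂ * f₃ + e₁ * f₂ * f₃ + e₂ * f₁ * f₃ + e₃ * f₁ * f₂ =
      (f₁ * f₂ * f₃) * (1 + ((e₁ : ℚ) / f₁ + ((e₂ : ℚ) / f₂ + (e₃ : ℚ) / f₃))) := by field_simp; ring
    rw [e]
    push_cast at hN
    linear_combination (f₁ : ℚ) * f₂ * f₃ * hN
  have hq : (n : ℚ) * (1 + e₁ * f₁) * (1 + e₂ * f₂) * (1 + e₃ * f₃) = 8 * r ^ 2 * (e₁ * f₁) * (e₂ * f₂) * (e₃ * f₃) := by
    rcases h1 with rfl | rfl <;> rcases h2 with rfl | rfl <;> rcases h3 with rfl | rfl <;> push_cast at * 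
    · linear_combination hN' + (n : ℚ) * hsum
    · linear_combination -hN' + (n : ℚ) * hsum
    · linear_combination -hN' + (n : ℚ) * hsum
    · linear_combination hN' + (n : ℚ) * hsum
    · linear_combination -hN' + (n : ℚ) * hsum
    · linear_combination hN' + (n : ℚ) * hsum
    · linear_combination hN' + (n : ℚ) * hsum
    · linear_combination -hN' + (n : ℚ) * hsum
  exact_mod_cast hq

theorem four_case {G : Type*} [Group G] [Fintype G] [IsSimpleGroup G] (hG : ¬ IsMulCommutative G) {p q a b : ℕ} (hp : p.Prime) (hq : q.Prime)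
    (hp2 : p ≠ 2) (hq2 : q ≠ 2) (hpq : p ≠ q) (ha : a ≤ 2) (hcard : Nat.card G = 4 * p ^ a * q ^ b) : IsA5 G := by
  classical
  haveI : Fact (Nat.Prime 2) := ⟨Nat.prime_two⟩
  haveI : Fintype (IrrCharacter G) := Fintype.ofFinite _
  obtain ⟨M, hM⟩ := Cfsg.Agent.H26.Kernel.exists_isPModular 2 Nat.prime_two
  obtain ⟨P⟩ : Nonempty (Sylow 2 G) := inferInstance
  have hodd : Odd (p ^ a * q ^ b) := (hp.odd_of_ne_two hp2).pow.mul (hq.odd_of_ne_two hq2).pow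
  obtain ⟨hK, hone⟩ := Cfsg.Agent.H25.V4Cnt.setup (g₀ := p ^ a * q ^ b) hodd (by rw [hcard]; ring)
    (by
      rintro ⟨N, hN, hNc⟩
      rcases hN.eq_bot_or_eq_top with h | h
      · rw [h, Subgroup.card_bot] at hNc
        have : Nat.card G = 2 ^ 2 * 3 ^ 0 := by rw [hcard, mul_assoc, ← hNc]; norm_num
        exact no_two_primes hG Nat.prime_two Nat.prime_three this
      · rw [h, Subgroup.card_top, hcard] at hNc
        have : 0 < p ^ a * q ^ b := hodd.pos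
        rw [mul_assoc] at hNc
        omega) P
  have hP4 : Nat.card (P : Subgroup G) = 4 := hK.card_four
  obtain ⟨J', hJ'⟩ : ∃ J' : (P : Subgroup G), J' ≠ 1 := by
    haveI : Nontrivial (P : Subgroup G) := by
      rw [← Finite.one_lt_card_iff_nontrivial, hP4]; norm_num
    exact exists_ne 1
  have hJP := J'.2
  have hJ : orderOf (J' : G) = 2 := Cfsg.Agent.H10.BlockV4.klein_order hK hJP (fun h => hJ' (Subtype.ext h))
  set J := (J' : G) with hJdef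
  obtain ⟨ζ₂, ζ₃, ζ₄, ε, hε, t2, t3, t4, h23, h24, h34, hmem, hval, m2, m3, m4, hrel⟩ :=
    Cfsg.Agent.H10.BlockV4.v4_structure hM P hK hone
  have hne : ∀ χ : IrrCharacter G, χ ≠ triv G → (χ : G → ℂ) ≠ (fun _ => 1) := by
    intro χ h h'
    exact h (Subtype.ext h')
  have hvJ := hval J (by rw [hJ])
  obtain ⟨r, hr0, hrc, hN, hsum⟩ := Cfsg.Agent.H25.V4Cnt2.main hM P hK hone hJP hJ (χ₁ := ζ₂) (χ₂ := ζ₃) (χ₃ := ζ₄) (ε₁ := 1) (ε₂ := ε) (ε₃ := -1)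
    (by
      ext χ
      rw [hmem, Set.mem_setOf_eq]
      have : (χ : G → ℂ) = (fun _ => 1) ↔ χ = triv G := by
        constructor
        · intro h; exact Subtype.ext h
        · intro h; rw [h]; rfl
      rw [this])
    ⟨hne _ t2, hne _ t3, hne _ t4, h23, h24, h34⟩ ⟨Or.inl rfl, hε, Or.inr rfl⟩
    ⟨by rw [hvJ.1]; norm_num, hvJ.2.1, by rw [hvJ.2.2]; norm_num⟩
  set n := (Subgroup.centralizer ({J} : Set G)).index with hn
  set C := Nat.card (Subgroup.centralizer ({J} : Set G)) with hC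
  have hnC : n * C = Nat.card G := Subgroup.index_mul_card _
  have hC0 : C ≠ 0 := Nat.card_pos.ne'
  have hC4 : 4 ∣ C := by
    have hle : (P : Subgroup G) ≤ Subgroup.centralizer ({J} : Set G) := by
      intro x hx
      rw [Subgroup.mem_centralizer_singleton_iff]
      exact (Cfsg.Agent.H10.BlockV4.R2.of_klein hK).hab x hx J hJP
    have := Subgroup.card_dvd_of_le hle
    rwa [hP4] at this
  have f1 := charDegree_pos ζ₂.2
  have f2 := charDegree_pos ζ₃.2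
  have f3 := charDegree_pos ζ₄.2
  have d1 : charDegree (ζ₂ : G → ℂ) ∣ n := deg_dvd_index ζ₂ (Or.inl hvJ.1)
  have d2 : charDegree (ζ₃ : G → ℂ) ∣ n := deg_dvd_index ζ₃ (by
    rcases hε with h | h <;> rw [hvJ.2.1, h]
    · left; norm_num
    · right; norm_num)
  have d3 : charDegree (ζ₄ : G → ℂ) ∣ n := deg_dvd_index ζ₄ (Or.inr hvJ.2.2)
  have hstar := star_of (n := n) (C := C) (r := r) hC0 f1 f2 f3 (Or.inl rfl) hε (Or.inr rfl) (by rw [hnC]; exact_mod_cast hN) (by exact_mod_cast hsum)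
  have hsumZ : (1 : ℤ) + 1 * charDegree (ζ₂ : G → ℂ) + ε * charDegree (ζ₃ : G → ℂ) + (-1) * charDegree (ζ₄ : G → ℂ) = 0 := by
    exact_mod_cast hsum
  have x1 : ((1 : ℤ) * charDegree (ζ₂ : G → ℂ) = charDegree (ζ₂ : G → ℂ) ∨ (1 : ℤ) * charDegree (ζ₂ : G → ℂ) = -charDegree (ζ₂ : G → ℂ)) := by
    left; ring
  have x2 : ((ε : ℤ) * charDegree (ζ₃ : G → ℂ) = charDegree (ζ₃ : G → ℂ) ∨ (ε : ℤ) * charDegree (ζ₃ : G → ℂ) = -charDegree (ζ₃ : G → ℂ)) := by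
    rcases hε with h | h <;> rw [h]
    · left; ring
    · right; ring
  have x3 : ((-1 : ℤ) * charDegree (ζ₄ : G → ℂ) = charDegree (ζ₄ : G → ℂ) ∨ (-1 : ℤ) * charDegree (ζ₄ : G → ℂ) = -charDegree (ζ₄ : G → ℂ)) := by
    right; ring
  have k1 : (4 : ℤ) ∣ 1 * charDegree (ζ₂ : G → ℂ) - 1 := by rw [one_mul]; exact m2
  have k2 : (4 : ℤ) ∣ ε * charDegree (ζ₃ : G → ℂ) - 1 := by
    rcases hε with h | h <;> rw [h] at m3 ⊢ <;> omega
  have k3 : (4 : ℤ) ∣ (-1) * charDegree (ζ₄ : G → ℂ) - 1 := by omega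
  set x : ℤ := 1 * charDegree (ζ₂ : G → ℂ) with hx
  set y : ℤ := ε * charDegree (ζ₃ : G → ℂ) with hy
  set z : ℤ := (-1) * charDegree (ζ₄ : G → ℂ) with hz
  have hr : r ∣ C := Dvd.intro _ hrc
  -- prime divisibility of signed degrees
  have sgn : ∀ {w : ℕ} {χ : IrrCharacter G} {t : ℤ}, (t = charDegree (χ : G → ℂ) ∨ t = -charDegree (χ : G → ℂ)) → w ∣ charDegree (χ : G → ℂ) → (w : ℤ) ∣ t := by
    intro w χ t ht hw
    have : (w : ℤ) ∣ charDegree (χ : G → ℂ) := by exact_mod_cast hw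
    rcases ht with h | h <;> rw [h]
    · exact this
    · exact (dvd_neg).2 this
  have notall : ∀ {w : ℕ}, w.Prime → w ∣ charDegree (ζ₂ : G → ℂ) → w ∣ charDegree (ζ₃ : G → ℂ) → w ∣ charDegree (ζ₄ : G → ℂ) → False := by
    intro w hw e1 e2 e3
    have h1 : (w : ℤ) ∣ 1 := by
      have h2 : (w : ℤ) ∣ x + y + z := dvd_add (dvd_add (sgn x1 e1) (sgn x2 e2)) (sgn x3 e3)
      have h3 : x + y + z = -1 := by linarith
      rw [h3] at h2
      exact (dvd_neg).1 h2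
    exact hw.one_lt.ne' (Nat.dvd_one.1 (by exact_mod_cast h1))
  have notboth : ∀ {χ : IrrCharacter G}, χ ≠ triv G → charDegree (χ : G → ℂ) ∣ n → ¬ p ∣ charDegree (χ : G → ℂ) → ¬ q ∣ charDegree (χ : G → ℂ) → False := by
    intro χ hχ hd e1 e2
    apply hχ
    apply lin_triv hG
    have hnd : n ∣ p ^ a * q ^ b := by
      obtain ⟨C', hC'⟩ := hC4
      have : 4 * (n * C') = 4 * (p ^ a * q ^ b) := by rw [← mul_assoc 4 (p ^ a), ← hcard, ← hnC, hC']; ring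
      exact Dvd.intro _ (Nat.eq_of_mul_eq_mul_left (by norm_num) this)
    have h1 := (((Nat.Prime.coprime_iff_not_dvd hp).2 e1).symm.pow_right a).dvd_of_dvd_mul_left (hd.trans hnd)
    exact Nat.eq_one_of_dvd_coprimes (((Nat.Prime.coprime_iff_not_dvd hq).2 e2).pow_left b) h1 dvd_rfl
  have F := fun {χ₁ χ₂ χ₃ : IrrCharacter G} (h1 : χ₁ ≠ triv G) (h2 : χ₂ ≠ triv G) (h3 : χ₃ ≠ triv G) {u v w : ℤ} =>
    fin4 (x := u) (y := v) (z := w) (n := n) (C := C) (r := r) hG hp hq hp2 hq2 hpq ha hcard h1 h2 h3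
  by_cases p1 : p ∣ charDegree (ζ₂ : G → ℂ)
  · by_cases p2 : p ∣ charDegree (ζ₃ : G → ℂ)
    · by_cases p3 : p ∣ charDegree (ζ₄ : G → ℂ)
      · exact (notall hp p1 p2 p3).elim
      · -- ζ₄ prime to p
        by_cases q1 : q ∣ charDegree (ζ₂ : G → ℂ)
        · by_cases q2 : q ∣ charDegree (ζ₃ : G → ℂ)
          · by_cases q3 : q ∣ charDegree (ζ₄ : G → ℂ)
            · exact (notall hq q1 q2 q3).elim
            · exact (notboth t4 d3 p3 q3).elim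
          · exact F t4 t3 t2 x3 x2 x1 hnC hC4 hr d3 d2 d1 (by linarith) k3 k2 k1 (by linear_combination hstar) p3 q2
        · exact F t4 t2 t3 x3 x1 x2 hnC hC4 hr d3 d1 d2 (by linarith) k3 k1 k2 (by linear_combination hstar) p3 q1
    · -- ζ₃ prime to p
      by_cases q1 : q ∣ charDegree (ζ₂ : G → ℂ)
      · by_cases q2 : q ∣ charDegree (ζ₃ : G → ℂ)
        · by_cases q3 : q ∣ charDegree (ζ₄ : G → ℂ)
          · exact (notall hq q1 q2 q3).elim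
          · exact F t3 t4 t2 x2 x3 x1 hnC hC4 hr d2 d3 d1 (by linarith) k2 k3 k1 (by linear_combination hstar) p2 q3
        · exact (notboth t3 d2 p2 q2).elim
      · exact F t3 t2 t4 x2 x1 x3 hnC hC4 hr d2 d1 d3 (by linarith) k2 k1 k3 (by linear_combination hstar) p2 q1
  · by_cases q1 : q ∣ charDegree (ζ₂ : G → ℂ)
    · by_cases q2 : q ∣ charDegree (ζ₃ : G → ℂ)
      · by_cases q3 : q ∣ charDegree (ζ₄ : G → ℂ)
        · exact (notall hq q1 q2 q3).elim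
        · exact F t2 t4 t3 x1 x3 x2 hnC hC4 hr d1 d3 d2 (by linarith) k1 k3 k2 (by linear_combination hstar) p1 q3
      · exact F t2 t3 t4 x1 x2 x3 hnC hC4 hr d1 d2 d3 (by linarith) k1 k2 k3 (by linear_combination hstar) p1 q2
    · exact (notboth t2 d1 p1 q1).elim

end Cfsg.Agent.H9.SO
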