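import Cfsg.Statements.S4501
import Mathlib
import Cfsg.Agent.H9_SO6

set_option autoImplicit false
open Cfsg

namespace Cfsg.Agent.S4501

open Cfsg.Agent.H9.SO Cfsg.Agent.H9.BT

/-- Let G be a non-abelian finite simple group and p, q distinct primes. If the order of G is 4·p^a·q^b with a ≤ 2, then G is isomorphic to the alternating group of degree 5. If the order of G is 3·p^a·q^b with a ≤ 2, then G is isomorphic to the alternating group of degree 5 or to PSL(2,7). -/
theorem result {G : Type*} [Group G] [Finite G] [IsSimpleGroup G] (hna : ∃ x y : G, x * y ≠ y * x) (p q a b : ℕ) (hp : p.Prime) (hq : q.Prime) (hpq : p ≠ q) (ha : a ≤ 2) : (Nat.card G = 4 * p ^ a * q ^ b → Nonempty (G ≃* alternatingGroup (Fin 5))) ∧ (Nat.card G = 3 * p ^ a * q ^ b → Nonempty (G ≃* alternatingGroup (Fin 5)) ∨ Nonempty (G ≃* Matrix.ProjectiveSpecialLinearGroup (Fin 2) (ZMod 7))) := by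
  classical
  haveI : Fintype G := Fintype.ofFinite G
  have hG : ¬ IsMulCommutative G := by
    intro h
    obtain ⟨x, y, hxy⟩ := hna
    exact hxy (mul_comm' x y)
  refine ⟨fun hcard => ?_, fun hcard => ?_⟩
  · by_cases hp2 : p = 2
    · exfalso
      subst hp2
      exact no_two_primes hG Nat.prime_two hq (a := a + 2) (b := b) (by rw [hcard]; ring)
    by_cases hq2 : q = 2
    · exfalso
      subst hq2
      exact no_two_primes hG hp Nat.prime_two (a := a) (b := b + 2) (by rw [hcard]; ring)
    exact four_case hG hp hq hp2 hq2 hpq ha hcard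
  · by_cases hp3 : p = 3
    · exfalso
      subst hp3
      exact no_two_primes hG Nat.prime_three hq (a := a + 1) (b := b) (by rw [hcard]; ring)
    by_cases hq3 : q = 3
    · exfalso
      subst hq3
      exact no_two_primes hG hp Nat.prime_three (a := a) (b := b + 1) (by rw [hcard]; ring)
    by_cases hq2 : q = 2
    · subst hq2
      exact three_two hG hp hp3 ha hcard
    by_cases hp2 : p = 2
    · subst hp2
      left
      have ha0 : a ≠ 0 := by
        rintro rfl
        exact no_two_primes hG Nat.prime_three hq (a := 1) (b := b) (by rw [hcard]; ring)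
      have h4 := four_dvd hG (by rw [hcard]; exact Dvd.dvd.mul_right (Dvd.dvd.mul_left (dvd_pow_self 2 ha0) 3) _)
      have hodd : Odd (3 * q ^ b) := (by decide : Odd 3).mul (hq.odd_of_ne_two hq2).pow
      have ha2 : a = 2 := by
        have h5 : a = 1 ∨ a = 2 := by omega
        rcases h5 with rfl | rfl
        · exfalso
          rw [hcard] at h4
          obtain ⟨w, hw⟩ := hodd
          obtain ⟨t, ht⟩ := h4
          have : 3 * 2 ^ 1 * q ^ b = 2 * (3 * q ^ b) := by ring
          rw [this, hw] at ht
          omega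
        · rfl
      subst ha2
      exact four_case hG Nat.prime_three hq (by norm_num) hq2 (Ne.symm hq3) (a := 1) (b := b) (by norm_num) (by rw [hcard]; ring)
    · exfalso
      have h3 : ¬ 3 ∣ p ^ a * q ^ b := by
        intro h
        rcases (Nat.Prime.dvd_mul Nat.prime_three).1 h with h1 | h1
        · exact hp3 ((Nat.prime_dvd_prime_iff_eq Nat.prime_three hp).1 (Nat.prime_three.dvd_of_dvd_pow h1)).symm
        · exact hq3 ((Nat.prime_dvd_prime_iff_eq Nat.prime_three hq).1 (Nat.prime_three.dvd_of_dvd_pow h1)).symm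
      obtain ⟨χ, ψ, hχ, hψ, n1, n2, hdeg⟩ := b3 hG (m := p ^ a * q ^ b) (by rw [hcard]; ring) h3
      have hodd : Odd (Nat.card G) := by
        rw [hcard]
        exact ((by decide : Odd 3).mul (hp.odd_of_ne_two hp2).pow).mul (hq.odd_of_ne_two hq2).pow
      have o1 := hodd.of_dvd_nat (Cfsg.Agent.H10.BlockGreen.charDegree_dvd_card χ)
      have o2 := hodd.of_dvd_nat (Cfsg.Agent.H10.BlockGreen.charDegree_dvd_card ψ)
      rw [hdeg] at o2
      obtain ⟨u, hu⟩ := o1
      obtain ⟨v, hv⟩ := o2
      omega

end Cfsg.Agent.S4501
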