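import Mathlib
import Cfsg.Agent.S0999
import Cfsg.Agent.S0998
import Cfsg.Agent.S4501
import Cfsg.Agent.S0992
import Cfsg.Agent.H3_Burnside
import Cfsg.Agent.H5_SmallIso
import Cfsg.Agent.H13_Ord496

/-!
# Simple groups of order at most 1092
-/

set_option autoImplicit false

open Cfsg

namespace Cfsg.Agent.H13.Ord496b

open Subgroup

/-- the numerical test -/
def chk (a b c d n : ℕ) : Bool :=
  !(n ≤ 1092 : Bool) || (c == 0 && d == 0) || (b == 0 && d == 0) || (b == 0 && c == 0) || (a == 0 && d == 0) ||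
  (a == 0 && c == 0) || (a == 0 && b == 0) || (!(c == 0) && (n < 125 : Bool)) || (!(d == 0) && (n < 343 : Bool)) ||
  (!(a == 0) && (a < 3 : Bool) && ((a < 2 : Bool) || b == 0)) ||
  (d == 0 && b == 1 && c == 1) || (d == 0 && a == 1 && c == 1) || (d == 0 && a == 1 && b == 1) ||
  (c == 0 && b == 1 && d == 1) || (b == 0 && c == 1 && d == 1) || (a == 0 && c == 1 && d == 1) ||
  (a == 0 && b == 1 && d == 1) || (a == 0 && b == 1 && c == 1) ||
  (a == 2 && d == 0 && ((b ≤ 2 : Bool) || (c ≤ 2 : Bool))) || (a == 2 && c == 0 && ((b ≤ 2 : Bool) || (d ≤ 2 : Bool))) ||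
  (a == 2 && b == 0 && ((c ≤ 2 : Bool) || (d ≤ 2 : Bool))) ||
  n == 360 || n == 420 || n == 504 || n == 600 || n == 720 || n == 840 || n == 1008 || n == 1080

theorem chk_all : ∀ a < 11, ∀ b < 7, ∀ c < 5, ∀ d < 4, chk a b c d (2 ^ a * 3 ^ b * 5 ^ c * 7 ^ d) = true := by
  decide +kernel

theorem list_cases (a : ℕ) (ha : a < 11) (b : ℕ) (hb : b < 7) (c : ℕ) (hc : c < 5) (d : ℕ) (hd : d < 4)
    (h0 : 2 ^ a * 3 ^ b * 5 ^ c * 7 ^ d ≤ 1092)
    (h1 : ¬ (c = 0 ∧ d = 0)) (h2 : ¬ (b = 0 ∧ d = 0)) (h3 : ¬ (b = 0 ∧ c = 0)) (h4 : ¬ (a = 0 ∧ d = 0)) (h5 : ¬ (a = 0 ∧ c = 0))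
    (h6 : ¬ (a = 0 ∧ b = 0)) (h7 : c ≠ 0 → 125 ≤ 2 ^ a * 3 ^ b * 5 ^ c * 7 ^ d) (h8 : d ≠ 0 → 343 ≤ 2 ^ a * 3 ^ b * 5 ^ c * 7 ^ d)
    (h9 : a ≠ 0 → 3 ≤ a ∨ (2 ≤ a ∧ b ≠ 0))
    (h10 : ¬ (d = 0 ∧ b = 1 ∧ c = 1)) (h11 : ¬ (d = 0 ∧ a = 1 ∧ c = 1)) (h12 : ¬ (d = 0 ∧ a = 1 ∧ b = 1))
    (h13 : ¬ (c = 0 ∧ b = 1 ∧ d = 1)) (h14 : ¬ (b = 0 ∧ c = 1 ∧ d = 1))
    (h15 : ¬ (a = 0 ∧ c = 1 ∧ d = 1)) (h16 : ¬ (a = 0 ∧ b = 1 ∧ d = 1)) (h17 : ¬ (a = 0 ∧ b = 1 ∧ c = 1))
    (h18 : ¬ (a = 2 ∧ d = 0 ∧ (b ≤ 2 ∨ c ≤ 2))) (h19 : ¬ (a = 2 ∧ c = 0 ∧ (b ≤ 2 ∨ d ≤ 2)))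
    (h20 : ¬ (a = 2 ∧ b = 0 ∧ (c ≤ 2 ∨ d ≤ 2))) :
    2 ^ a * 3 ^ b * 5 ^ c * 7 ^ d ∈ [360, 420, 504, 600, 720, 840, 1008, 1080] := by
  have h := chk_all a ha b hb c hc d hd
  generalize 2 ^ a * 3 ^ b * 5 ^ c * 7 ^ d = n at *
  simp only [chk, Bool.or_eq_true, Bool.and_eq_true, Bool.not_eq_true', beq_iff_eq, decide_eq_true_eq, beq_eq_false_iff_ne,
    decide_eq_false_iff_not] at h
  rcases h with (((((((((((((((((((((((((((h | h) | h) | h) | h) | h) | h) | h) | h) | h) | h) | h) | h) | h) | h) | h) | h) | h) | h) | h) | h) | h) | h) | h) | h) | h) | h) | h) | h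
  · exact absurd h0 h
  · exact absurd h h1
  · exact absurd h h2
  · exact absurd h h3
  · exact absurd h h4
  · exact absurd h h5
  · exact absurd h h6
  · exact absurd (h7 h.1) (not_le.2 h.2)
  · exact absurd (h8 h.1) (not_le.2 h.2)
  · rcases h9 h.1.1 with h' | h'
    · exact absurd h.1.2 (not_lt.2 h')
    · rcases h.2 with h'' | h''
      · exact absurd h'' (not_lt.2 h'.1)
      · exact absurd h'' h'.2
  · exact absurd ⟨h.1.1, h.1.2, h.2⟩ h10
  · exact absurd ⟨h.1.1, h.1.2, h.2⟩ h11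
  · exact absurd ⟨h.1.1, h.1.2, h.2⟩ h12
  · exact absurd ⟨h.1.1, h.1.2, h.2⟩ h13
  · exact absurd ⟨h.1.1, h.1.2, h.2⟩ h14
  · exact absurd ⟨h.1.1, h.1.2, h.2⟩ h15
  · exact absurd ⟨h.1.1, h.1.2, h.2⟩ h16
  · exact absurd ⟨h.1.1, h.1.2, h.2⟩ h17
  · exact absurd ⟨h.1.1, h.1.2, h.2⟩ h18
  · exact absurd ⟨h.1.1, h.1.2, h.2⟩ h19
  · exact absurd ⟨h.1.1, h.1.2, h.2⟩ h20
  · simp [h]
  · simp [h]
  · simp [h]
  · simp [h]
  · simp [h]
  · simp [h]
  · simp [h]
  · simp [h]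

variable {G : Type*} [Group G] [Finite G]

theorem card_cases [IsSimpleGroup G] (hcyc : ¬ IsCyclic G) (h : Nat.card G ≤ 1092) (p : ℕ) (hp : p.Prime) (hdvd : p ∣ Nat.card G)
    (hbig : Nat.card G < p ^ 3) : Nat.card G = 60 ∨ Nat.card G = 168 ∨ Nat.card G = 504 ∨ Nat.card G = 660 ∨ Nat.card G = 1092 := by
  rcases S0999.result (G := G) hcyc p hp hdvd hbig with
    ⟨F, i1, i2, hF, h3, ⟨e⟩⟩ | ⟨m, F, i1, i2, hF, hm, h3, ⟨e⟩⟩
  · have h1 := H5.SmallIso.card_PSL2 (F := F)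
    rw [← Nat.card_congr e.toEquiv, hF] at h1
    have hodd : Odd p := hp.odd_of_ne_two (by omega)
    have hg : Nat.gcd 2 (p - 1) = 2 := by
      apply Nat.gcd_eq_left
      obtain ⟨k, hk⟩ := hodd
      exact ⟨k, by omega⟩
    rw [hg] at h1
    have hp13 : p ≤ 13 := by
      by_contra hlt
      push Not at hlt
      have : 14 * 13 * 15 ≤ p * (p - 1) * (p + 1) := by
        apply Nat.mul_le_mul
        · apply Nat.mul_le_mul <;> omega
        · omega
      omega
    interval_cases p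
    · exact absurd hp (by norm_num)
    · left; omega
    · exact absurd hp (by norm_num)
    · right; left; omega
    · exact absurd hp (by norm_num)
    · exact absurd hp (by norm_num)
    · exact absurd hp (by norm_num)
    · right; right; right; left; omega
    · exact absurd hp (by norm_num)
    · right; right; right; right; omega
  · have h1 := H5.SmallIso.card_PSL2 (F := F)
    rw [← Nat.card_congr e.toEquiv, hF] at h1
    have hm4 : m < 4 := by
      by_contra hlt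
      push Not at hlt
      have h16 : 2 ^ 4 ≤ 2 ^ m := Nat.pow_le_pow_right (by norm_num) hlt
      have hg : Nat.gcd 2 (2 ^ m - 1) ≤ 2 := Nat.gcd_le_left _ (by norm_num)
      have : 16 * 15 * 17 ≤ 2 ^ m * (2 ^ m - 1) * (2 ^ m + 1) := by
        apply Nat.mul_le_mul
        · apply Nat.mul_le_mul <;> omega
        · omega
      have h5 : Nat.gcd 2 (2 ^ m - 1) * Nat.card G ≤ 2 * 1092 := Nat.mul_le_mul hg h
      omega
    interval_cases m
    · omega
    · omega
    · left; norm_num at h1; omega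
    · right; right; left; norm_num at h1; omega

theorem not_two_primes [IsSimpleGroup G] (hG : ¬ IsMulCommutative G) (p q i j : ℕ) (hp : p.Prime) (hq : q.Prime)
    (h : Nat.card G = p ^ i * q ^ j) : False := by
  have h1 := H3.Burnside.burnside (Nat.card G) G p q i j hp hq rfl h
  apply hG
  exact ⟨⟨IsSimpleGroup.comm_iff_isSolvable.2 h1⟩⟩

theorem card_psl (q : ℕ) (F : Type) [Field F] [Fintype F] (hF : Fintype.card F = q) (e : G ≃* Matrix.ProjectiveSpecialLinearGroup (Fin 2) F) :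
    Nat.gcd 2 (q - 1) * Nat.card G = q * (q - 1) * (q + 1) := by
  have h1 := H5.SmallIso.card_PSL2 (F := F)
  rw [← Nat.card_congr e.toEquiv, hF] at h1
  exact h1

theorem not_prq [IsSimpleGroup G] (hcyc : ¬ IsCyclic G) (h60 : Nat.card G ≠ 60) (h168 : Nat.card G ≠ 168)
    (p q r b : ℕ) (hp : p.Prime) (hq : q.Prime) (hr : r.Prime) (hpq : p ≠ q) (hpr : p ≠ r) (hqr : q ≠ r)
    (h : Nat.card G = p * r * q ^ b) : False := by
  rcases S0998.result hcyc p q r b hp hq hr hpq hpr hqr h with ⟨F, _, _, hF, ⟨e⟩⟩ | ⟨F, _, _, hF, ⟨e⟩⟩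
  · have := card_psl 5 F hF e
    norm_num at this
    exact h60 (by omega)
  · have := card_psl 7 F hF e
    norm_num at this
    exact h168 (by omega)

theorem card_alt5 : Nat.card (alternatingGroup (Fin 5)) = 60 := by
  have h := nat_card_alternatingGroup (α := Fin 5)
  rw [h, Nat.card_eq_fintype_card, Fintype.card_fin]
  norm_num [Nat.factorial]

theorem not_four [IsSimpleGroup G] (hG : ¬ IsMulCommutative G) (h60 : Nat.card G ≠ 60)
    (p q i j : ℕ) (hp : p.Prime) (hq : q.Prime) (hpq : p ≠ q) (hi : i ≤ 2)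
    (h : Nat.card G = 4 * p ^ i * q ^ j) : False := by
  have hna : ∃ x y : G, x * y ≠ y * x := by
    by_contra hcon
    push Not at hcon
    exact hG ⟨⟨hcon⟩⟩
  obtain ⟨e⟩ := (S4501.result hna p q i j hp hq hpq hi).1 h
  apply h60
  rw [Nat.card_congr e.toEquiv]
  exact card_alt5

theorem even_facts [IsSimpleGroup G] (hG : ¬ IsMulCommutative G) (h2 : Even (Nat.card G)) (h8 : ¬ 8 ∣ Nat.card G) :
    12 ∣ Nat.card G := by
  haveI : Fact (Nat.Prime 2) := ⟨Nat.prime_two⟩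
  obtain ⟨T⟩ : Nonempty (Sylow 2 G) := inferInstance
  obtain ⟨h3, h4⟩ := S0992.result hG h2 h8 T
  have h5 : 4 ∣ Nat.card G := by
    have := h3.card_four
    rw [← this]
    exact Subgroup.card_subgroup_dvd_card _
  have h6 : 3 ∣ Nat.card G := by
    rw [← h4]
    exact (Subgroup.relIndex_dvd_card _ _).trans (Subgroup.card_subgroup_dvd_card _)
  exact Nat.Coprime.mul_dvd_of_dvd_of_dvd (by norm_num) h5 h6

theorem main [IsSimpleGroup G] (hG : ¬ IsMulCommutative G) (h : Nat.card G ≤ 1092) :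
    Nat.card G = 60 ∨ Nat.card G = 168 ∨ Nat.card G = 360 ∨ Nat.card G = 504 ∨ Nat.card G = 660 ∨
      Nat.card G = 1092 := by
  by_contra hcon
  push Not at hcon
  obtain ⟨c60, c168, c360, c504, c660, c1092⟩ := hcon
  have hcyc : ¬ IsCyclic G := by
    intro hc
    exact hG ⟨⟨IsCyclic.commGroup.mul_comm⟩⟩
  have hbig : ∀ p : ℕ, p.Prime → p ∣ Nat.card G → p ^ 3 ≤ Nat.card G := by
    intro p hp hdvd
    by_contra hlt
    push Not at hlt
    rcases card_cases hcyc h p hp hdvd hlt with h | h | h | h | h <;> contradiction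
  have hpos : Nat.card G ≠ 0 := Nat.card_pos.ne'
  obtain ⟨a, n1, ha, e1⟩ := Nat.exists_eq_pow_mul_and_not_dvd hpos 2 (by norm_num)
  have hn1 : n1 ≠ 0 := by rintro rfl; exact ha (dvd_zero _)
  obtain ⟨b, n2, hb, e2⟩ := Nat.exists_eq_pow_mul_and_not_dvd hn1 3 (by norm_num)
  have hn2 : n2 ≠ 0 := by rintro rfl; exact hb (dvd_zero _)
  obtain ⟨c, n3, hc, e3⟩ := Nat.exists_eq_pow_mul_and_not_dvd hn2 5 (by norm_num)
  have hn3 : n3 ≠ 0 := by rintro rfl; exact hc (dvd_zero _)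
  obtain ⟨d, n4, hd, e4⟩ := Nat.exists_eq_pow_mul_and_not_dvd hn3 7 (by norm_num)
  have hn4 : n4 = 1 := by
    by_contra hne
    obtain ⟨p, hp, hpn⟩ := Nat.exists_prime_and_dvd hne
    have d3 : p ∣ n3 := by rw [e4]; exact dvd_mul_of_dvd_right hpn _
    have d2 : p ∣ n2 := by rw [e3]; exact dvd_mul_of_dvd_right d3 _
    have d1 : p ∣ n1 := by rw [e2]; exact dvd_mul_of_dvd_right d2 _
    have d0 : p ∣ Nat.card G := by rw [e1]; exact dvd_mul_of_dvd_right d1 _
    have hp3 := hbig p hp d0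
    have hp10 : p ≤ 10 := by
      by_contra hlt
      push Not at hlt
      have : 11 ^ 3 ≤ p ^ 3 := Nat.pow_le_pow_left hlt 3
      omega
    have hp2 := hp.two_le
    clear hp3
    interval_cases p
    · exact ha d1
    · exact hb d2
    · exact absurd hp (by norm_num)
    · exact hc d3
    · exact absurd hp (by norm_num)
    · exact hd hpn
    · exact absurd hp (by norm_num)
    · exact absurd hp (by norm_num)
    · exact absurd hp (by norm_num)
  have hcard : Nat.card G = 2 ^ a * 3 ^ b * 5 ^ c * 7 ^ d := by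
    rw [e1, e2, e3, e4, hn4]; ring
  clear e1 e2 e3 e4 ha hb hc hd hn1 hn2 hn3 hn4
  have p2 : Nat.Prime 2 := by norm_num
  have p3 : Nat.Prime 3 := by norm_num
  have p5 : Nat.Prime 5 := by norm_num
  have p7 : Nat.Prime 7 := by norm_num
  have hle : 2 ^ a * 3 ^ b * 5 ^ c * 7 ^ d ≤ 1092 := by rw [← hcard]; exact h
  have ba : a < 11 := by
    by_contra hlt
    push Not at hlt
    have h1 : 2 ^ 11 ≤ 2 ^ a := Nat.pow_le_pow_right (by norm_num) hlt
    have h2 : 2 ^ a ∣ Nat.card G := ⟨3 ^ b * 5 ^ c * 7 ^ d, by rw [hcard]; ring⟩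
    have := Nat.le_of_dvd Nat.card_pos h2
    omega
  have bb : b < 7 := by
    by_contra hlt
    push Not at hlt
    have h1 : 3 ^ 7 ≤ 3 ^ b := Nat.pow_le_pow_right (by norm_num) hlt
    have h2 : 3 ^ b ∣ Nat.card G := ⟨2 ^ a * 5 ^ c * 7 ^ d, by rw [hcard]; ring⟩
    have := Nat.le_of_dvd Nat.card_pos h2
    omega
  have bc : c < 5 := by
    by_contra hlt
    push Not at hlt
    have h1 : 5 ^ 5 ≤ 5 ^ c := Nat.pow_le_pow_right (by norm_num) hlt
    have h2 : 5 ^ c ∣ Nat.card G := ⟨2 ^ a * 3 ^ b * 7 ^ d, by rw [hcard]; ring⟩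
    have := Nat.le_of_dvd Nat.card_pos h2
    omega
  have bd : d < 4 := by
    by_contra hlt
    push Not at hlt
    have h1 : 7 ^ 4 ≤ 7 ^ d := Nat.pow_le_pow_right (by norm_num) hlt
    have h2 : 7 ^ d ∣ Nat.card G := ⟨2 ^ a * 3 ^ b * 5 ^ c, by rw [hcard]; ring⟩
    have := Nat.le_of_dvd Nat.card_pos h2
    omega
  have key := list_cases a ba b bb c bc d bd hle
    (by rintro ⟨rfl, rfl⟩; exact not_two_primes hG 2 3 a b p2 p3 (by rw [hcard]; ring))
    (by rintro ⟨rfl, rfl⟩; exact not_two_primes hG 2 5 a c p2 p5 (by rw [hcard]; ring))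
    (by rintro ⟨rfl, rfl⟩; exact not_two_primes hG 2 7 a d p2 p7 (by rw [hcard]; ring))
    (by rintro ⟨rfl, rfl⟩; exact not_two_primes hG 3 5 b c p3 p5 (by rw [hcard]; ring))
    (by rintro ⟨rfl, rfl⟩; exact not_two_primes hG 3 7 b d p3 p7 (by rw [hcard]; ring))
    (by rintro ⟨rfl, rfl⟩; exact not_two_primes hG 5 7 c d p5 p7 (by rw [hcard]; ring))
    (by
      intro hc
      rw [← hcard]
      exact hbig 5 p5 (by
        rw [hcard]
        exact dvd_mul_of_dvd_left (dvd_mul_of_dvd_right (dvd_pow_self 5 hc) _) _))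
    (by
      intro hd
      rw [← hcard]
      exact hbig 7 p7 (by
        rw [hcard]
        exact dvd_mul_of_dvd_right (dvd_pow_self 7 hd) _))
    (by
      intro ha
      have hev : Even (Nat.card G) := by
        rw [even_iff_two_dvd, hcard]
        exact dvd_mul_of_dvd_left (dvd_mul_of_dvd_left (dvd_mul_of_dvd_left (dvd_pow_self 2 ha) _) _) _
      have hcop : Nat.Coprime 2 (3 ^ b * 5 ^ c * 7 ^ d) := by
        apply Nat.Coprime.mul_right
        · apply Nat.Coprime.mul_right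
          · exact Nat.Coprime.pow_right _ (by norm_num)
          · exact Nat.Coprime.pow_right _ (by norm_num)
        · exact Nat.Coprime.pow_right _ (by norm_num)
      have hpw : ∀ k : ℕ, 2 ^ k ∣ Nat.card G → k ≤ a := by
        intro k hk
        have : 2 ^ k ∣ 2 ^ a := by
          apply (Nat.Coprime.pow_left k hcop).dvd_of_dvd_mul_right
          rw [hcard] at hk
          convert hk using 1
          ring
        exact (Nat.pow_dvd_pow_iff_le_right (by norm_num)).1 this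
      by_cases h8 : 8 ∣ Nat.card G
      · left; exact hpw 3 (by norm_num; exact h8)
      · right
        have h12 := even_facts hG hev h8
        refine ⟨hpw 2 ((by norm_num : 2 ^ 2 ∣ 12).trans h12), ?_⟩
        rintro rfl
        have h3 : 3 ∣ 2 ^ a * 3 ^ 0 * 5 ^ c * 7 ^ d := by
          rw [← hcard]; exact (by norm_num : 3 ∣ 12).trans h12
        rw [pow_zero, mul_one] at h3
        rcases p3.dvd_mul.1 h3 with h4 | h4
        · rcases p3.dvd_mul.1 h4 with h5 | h5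
          · exact absurd (p3.dvd_of_dvd_pow h5) (by norm_num)
          · exact absurd (p3.dvd_of_dvd_pow h5) (by norm_num)
        · exact absurd (p3.dvd_of_dvd_pow h4) (by norm_num))
    (by rintro ⟨rfl, rfl, rfl⟩; exact not_prq hcyc c60 c168 3 2 5 a p3 p2 p5 (by norm_num) (by norm_num) (by norm_num) (by rw [hcard]; ring))
    (by rintro ⟨rfl, rfl, rfl⟩; exact not_prq hcyc c60 c168 2 3 5 b p2 p3 p5 (by norm_num) (by norm_num) (by norm_num) (by rw [hcard]; ring))
    (by rintro ⟨rfl, rfl, rfl⟩; exact not_prq hcyc c60 c168 2 5 3 c p2 p5 p3 (by norm_num) (by norm_num) (by norm_num) (by rw [hcard]; ring))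
    (by rintro ⟨rfl, rfl, rfl⟩; exact not_prq hcyc c60 c168 3 2 7 a p3 p2 p7 (by norm_num) (by norm_num) (by norm_num) (by rw [hcard]; ring))
    (by rintro ⟨rfl, rfl, rfl⟩; exact not_prq hcyc c60 c168 5 2 7 a p5 p2 p7 (by norm_num) (by norm_num) (by norm_num) (by rw [hcard]; ring))
    (by rintro ⟨rfl, rfl, rfl⟩; exact not_prq hcyc c60 c168 5 3 7 b p5 p3 p7 (by norm_num) (by norm_num) (by norm_num) (by rw [hcard]; ring))
    (by rintro ⟨rfl, rfl, rfl⟩; exact not_prq hcyc c60 c168 3 5 7 c p3 p5 p7 (by norm_num) (by norm_num) (by norm_num) (by rw [hcard]; ring))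
    (by rintro ⟨rfl, rfl, rfl⟩; exact not_prq hcyc c60 c168 3 7 5 d p3 p7 p5 (by norm_num) (by norm_num) (by norm_num) (by rw [hcard]; ring))
    (by
      rintro ⟨rfl, rfl, h | h⟩
      · exact not_four hG c60 3 5 b c p3 p5 (by norm_num) h (by rw [hcard]; ring)
      · exact not_four hG c60 5 3 c b p5 p3 (by norm_num) h (by rw [hcard]; ring))
    (by
      rintro ⟨rfl, rfl, h | h⟩
      · exact not_four hG c60 3 7 b d p3 p7 (by norm_num) h (by rw [hcard]; ring)
      · exact not_four hG c60 7 3 d b p7 p3 (by norm_num) h (by rw [hcard]; ring))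
    (by
      rintro ⟨rfl, rfl, h | h⟩
      · exact not_four hG c60 5 7 c d p5 p7 (by norm_num) h (by rw [hcard]; ring)
      · exact not_four hG c60 7 5 d c p7 p5 (by norm_num) h (by rw [hcard]; ring))
  rw [← hcard] at key
  simp only [List.mem_cons, List.not_mem_nil, or_false] at key
  rcases key with h | h | h | h | h | h | h | h
  · exact c360 h
  · exact H13.Ord496.ord420 h
  · exact c504 h
  · exact H13.Ord496.ord600 h
  · exact H13.Ord496.ord720 h
  · exact H13.Ord496.ord840 h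
  · exact H13.Ord496.ord1008 h
  · exact H13.Ord496.ord1080 h

end Cfsg.Agent.H13.Ord496b
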