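import Cfsg.Agent.H13_Alp
import Cfsg.Agent.H13_Sec3

/-!
Strong control of fusion by a subgroup `M`: `g = m c`.
-/

set_option autoImplicit false

namespace Cfsg.Agent.H13.RC

open Subgroup Cfsg.Agent.H13.Syl Cfsg.Agent.H13.Alp Cfsg.Agent.H13
open scoped Pointwise

universe u

variable {G : Type u} [Group G] {p : ℕ}

/-- `g ∈ M C(A)`. -/
def RC (M : Subgroup G) (A : Subgroup G) (g : G) : Prop := ∃ h ∈ M, ∃ c ∈ centralizer (A : Set G), g = h * c

theorem conj_mem_centralizer {A : Subgroup G} {g c : G} (hc : c ∈ centralizer ((cj g A : Subgroup G) : Set G)) :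
    g⁻¹ * c * g ∈ centralizer (A : Set G) := by
  rw [mem_centralizer_iff] at hc ⊢
  intro a ha
  have h1 := hc (g * a * g⁻¹) (conj_mem_cj ha)
  calc a * (g⁻¹ * c * g) = g⁻¹ * ((g * a * g⁻¹) * c) * g := by group
    _ = g⁻¹ * (c * (g * a * g⁻¹)) * g := by rw [h1]
    _ = g⁻¹ * c * g * a := by group

theorem RC.mul {M A : Subgroup G} {g h : G} (h1 : RC M A g) (h2 : RC M (cj g A) h) : RC M A (h * g) := by
  obtain ⟨m₁, hm₁, c₁, hc₁, hg⟩ := h1
  obtain ⟨m₂, hm₂, c₂, hc₂, rfl⟩ := h2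
  refine ⟨m₂ * m₁, M.mul_mem hm₂ hm₁, c₁ * (g⁻¹ * c₂ * g), mul_mem hc₁ (conj_mem_centralizer hc₂), ?_⟩
  calc m₂ * c₂ * g = m₂ * g * (g⁻¹ * c₂ * g) := by group
    _ = m₂ * (m₁ * c₁) * (g⁻¹ * c₂ * g) := by rw [← hg]
    _ = m₂ * m₁ * (c₁ * (g⁻¹ * c₂ * g)) := by group

theorem RC.mono {M A B : Subgroup G} {g : G} (hAB : A ≤ B) (h : RC M B g) : RC M A g := by
  obtain ⟨m, hm, c, hc, rfl⟩ := h
  exact ⟨m, hm, c, centralizer_le hAB hc, rfl⟩

theorem RC.inv {M A : Subgroup G} {g : G} (h : RC M A g) : RC M (cj g A) g⁻¹ := by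
  obtain ⟨m, hm, c, hc, rfl⟩ := h
  refine ⟨m⁻¹, M.inv_mem hm, m * c⁻¹ * m⁻¹, ?_, by group⟩
  rw [mem_centralizer_iff]
  rintro _ ⟨a, ha, rfl⟩
  have h1 := mem_centralizer_iff.1 hc a ha
  have h2 : c * a * c⁻¹ = a := by rw [← h1]; group
  have h3 : (MulAut.conj (m * c)).toMonoidHom a = m * a * m⁻¹ := by
    show (m * c) * a * (m * c)⁻¹ = _
    calc (m * c) * a * (m * c)⁻¹ = m * (c * a * c⁻¹) * m⁻¹ := by group
      _ = _ := by rw [h2]
  have h4 : c⁻¹ * a = a * c⁻¹ := by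
    rw [eq_mul_inv_iff_mul_eq, mul_assoc, h1]; group
  rw [h3]
  calc m * a * m⁻¹ * (m * c⁻¹ * m⁻¹) = m * (a * c⁻¹) * m⁻¹ := by group
    _ = m * (c⁻¹ * a) * m⁻¹ := by rw [h4]
    _ = m * c⁻¹ * m⁻¹ * (m * a * m⁻¹) := by group

theorem alp_RC [Fact p.Prime] [Finite G] {S : Subgroup G} (hS : IsSylIn p S ⊤) (M : Subgroup G)
    (hnorm : ∀ U, U ≤ S → IsSylIn p (S ⊓ normalizer (U : Set G)) (normalizer (U : Set G)) →
      (∀ A, A ≤ S → Nat.card U < Nat.card A → ∀ g, cj g A ≤ S → RC M A g) →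
        ∀ n ∈ normalizer (U : Set G), RC M U n) :
    ∀ A, A ≤ S → ∀ g, cj g A ≤ S → RC M A g := by
  apply alperin_abstract hS ⊥ inferInstance bot_le
  · intro A g h _ _ _ h1 h2; exact h1.mul h2
  · intro A g _ _ h; exact h.inv
  · intro A B g hAB _ _ h; exact h.mono hAB
  · intro T _ hT
    obtain ⟨g, hg, _⟩ := exists_fullyNorm hS hT
    exact ⟨cj g T, hg.1, ⟨g, rfl⟩, hg.2, hnorm _ hg.1 hg.2⟩

theorem RC.mul_norm {M U : Subgroup G} {e m : G} (hm : m ∈ normalizer (U : Set G))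
    (h1 : RC M U e) (h2 : RC M U m) : RC M U (e * m) := by
  apply RC.mul h2
  rwa [cj_eq_of_mem_normalizer hm]

theorem mem_sup_of_normalizes {U V : Subgroup G} (h : U ≤ normalizer (V : Set G)) {x : G} (hx : x ∈ V ⊔ U) :
    ∃ v ∈ V, ∃ u ∈ U, x = v * u := by
  have h1 : ((V ⊔ U : Subgroup G) : Set G) = (V : Set G) * (U : Set G) :=
    Subgroup.coe_mul_of_right_le_normalizer_left V U h
  have h2 : x ∈ ((V ⊔ U : Subgroup G) : Set G) := hx
  rw [h1] at h2
  obtain ⟨v, hv, u, hu, rfl⟩ := h2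
  exact ⟨v, hv, u, hu, rfl⟩

theorem mem_sup_of_normalizes' {U V : Subgroup G} (h : V ≤ normalizer (U : Set G)) {x : G} (hx : x ∈ V ⊔ U) :
    ∃ v ∈ V, ∃ u ∈ U, x = v * u := by
  have h1 : ((V ⊔ U : Subgroup G) : Set G) = (V : Set G) * (U : Set G) :=
    Subgroup.coe_mul_of_left_le_normalizer_right V U h
  have h2 : x ∈ ((V ⊔ U : Subgroup G) : Set G) := hx
  rw [h1] at h2
  obtain ⟨v, hv, u, hu, rfl⟩ := h2
  exact ⟨v, hv, u, hu, rfl⟩

theorem le_of_inf_normalizer_le [Fact p.Prime] [Finite G] {S U V : Subgroup G} (hS : IsPGroup p S)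
    (hV : V ≤ S) (hU : U ≤ S) (hUV : U ≤ normalizer (V : Set G)) (h : V ⊓ normalizer (U : Set G) ≤ U) : V ≤ U := by
  rcases eq_or_lt_of_le (le_sup_right : U ≤ V ⊔ U) with heq | hlt
  · rw [heq]; exact le_sup_left
  · exfalso
    have h1 := lt_normalizer_of_lt (hS.to_le (sup_le hV hU)) hlt
    apply not_le_of_gt h1
    intro x hx
    obtain ⟨hx1, hx2⟩ := Subgroup.mem_inf.1 hx
    obtain ⟨v, hv, u, hu, rfl⟩ := mem_sup_of_normalizes hUV hx1
    refine mul_mem (h (Subgroup.mem_inf.2 ⟨hv, ?_⟩)) hu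
    have := mul_mem hx2 (inv_mem (le_normalizer hu))
    rwa [mul_inv_cancel_right] at this

theorem step1 [Fact p.Prime] [Finite G] {S : Subgroup G} (hS : IsSylIn p S ⊤) (𝒱 : Set (Subgroup G))
    (h1 : ∀ V ∈ 𝒱, V ≤ S ∧ S ≤ normalizer (V : Set G))
    (h2 : ∀ V ∈ 𝒱, ∀ A ≤ S, ∀ g, cj g A ≤ S → RC (normalizer (V : Set G)) A g) :
    ∀ A ≤ S, ∀ g, cj g A ≤ S → RC (⨅ V ∈ 𝒱, normalizer (V : Set G)) A g := by
  apply alp_RC hS
  intro U hU hUs IH n hn
  have hSK : S ≤ ⨅ V ∈ 𝒱, normalizer (V : Set G) := le_iInf₂ (fun V hV => (h1 V hV).2)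
  by_cases hall : ∀ V ∈ 𝒱, V ⊓ normalizer (U : Set G) ≤ U
  · have hVU : ∀ V ∈ 𝒱, V ≤ U := fun V hV =>
      le_of_inf_normalizer_le hS.isPGroup (h1 V hV).1 hU (hU.trans (h1 V hV).2) (hall V hV)
    refine ⟨n, ?_, 1, one_mem _, (mul_one n).symm⟩
    rw [mem_iInf]
    intro V
    rw [mem_iInf]
    intro hV
    obtain ⟨h, hh, c, hc, rfl⟩ := h2 V hV U hU n (by rw [cj_eq_of_mem_normalizer hn]; exact hU)
    exact mul_mem hh (centralizer_le_normalizer _ (centralizer_le (hVU V hV) hc))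
  · push Not at hall
    obtain ⟨V, hV, hVU⟩ := hall
    set N := normalizer (U : Set G) with hN
    set C := centralizer (U : Set G) with hC
    have hCN : C ≤ N := centralizer_le_normalizer _
    have hNC : N ≤ normalizer (C : Set G) := Sec.normalizer_le_normalizer_centralizer U
    set E := (V ⊓ N) ⊔ C with hE
    have hEN : E ≤ N := sup_le inf_le_right hCN
    have hNE : N ≤ normalizer (E : Set G) := by
      intro g hg
      obtain ⟨h, hh, c, hc, hgc⟩ := h2 V hV U hU g (by rw [cj_eq_of_mem_normalizer hg]; exact hU)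
      have hhN : h ∈ N := by
        have : h = g * c⁻¹ := by rw [hgc]; group
        rw [this]; exact mul_mem hg (inv_mem (hCN hc))
      have hh1 : h ∈ normalizer (E : Set G) := by
        rw [mem_normalizer_iff_cj, hE, cj_sup, cj_inf, cj_eq_of_mem_normalizer hh, cj_eq_of_mem hhN,
          cj_eq_of_mem_normalizer (hNC hhN)]
      rw [hgc]
      exact mul_mem hh1 (le_normalizer (le_sup_right (a := V ⊓ N) hc))
    have hR : IsSylIn p ((S ⊓ N) ⊓ E) E := hUs.inf_of_le_normalizer hEN hNE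
    obtain ⟨e, he, m, hm, rfl⟩ := hR.frattini hEN hNE hn
    apply RC.mul_norm hm.1
    · -- e = v c
      obtain ⟨v, hv, c, hc, rfl⟩ := mem_sup_of_normalizes' (inf_le_right.trans hNC) he
      exact ⟨v, hSK ((h1 V hV).1 hv.1), c, hc, rfl⟩
    · have hRU : ¬ (S ⊓ N) ⊓ E ≤ U := by
        intro h
        apply hVU
        intro x hx
        exact h ⟨⟨(h1 V hV).1 hx.1, hx.2⟩, mem_sup_left hx⟩
      have hlt : U < U ⊔ ((S ⊓ N) ⊓ E) := by
        refine lt_of_le_of_ne le_sup_left ?_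
        intro heq
        apply hRU
        rw [heq]; exact le_sup_right
      have hle : U ⊔ ((S ⊓ N) ⊓ E) ≤ S := sup_le hU (inf_le_left.trans inf_le_left)
      have hcard : Nat.card U < Nat.card (U ⊔ ((S ⊓ N) ⊓ E) : Subgroup G) := by
        apply lt_of_not_ge
        intro h
        exact hlt.ne (Subgroup.eq_of_le_of_card_ge hlt.le h)
      refine RC.mono hlt.le (IH _ hle hcard m ?_)
      rw [cj_sup, cj_eq_of_mem_normalizer hm.1, cj_eq_of_mem_normalizer hm.2]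
      exact hle

theorem exists_mul_of_pquot [Fact p.Prime] [Finite G] {E R Q : Subgroup G} (hR : IsSylIn p R E)
    (hEQ : E ≤ normalizer (Q : Set G)) (hq : ∀ x ∈ E, ∃ k : ℕ, x ^ (p ^ k) ∈ Q) :
    ∀ x ∈ E, ∃ r ∈ R, ∃ q ∈ Q, x = r * q := by
  intro x hx
  have hn : (Q.subgroupOf E).Normal := by
    constructor
    intro q hq g
    rw [mem_subgroupOf] at hq ⊢
    exact (mem_normalizer_iff.1 (hEQ g.2) q).1 hq
  have hp : IsPGroup p (E ⧸ Q.subgroupOf E) := by
    intro y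
    obtain ⟨e, rfl⟩ := QuotientGroup.mk_surjective y
    obtain ⟨k, hk⟩ := hq e e.2
    refine ⟨k, ?_⟩
    rw [← QuotientGroup.mk_pow, QuotientGroup.eq_one_iff, mem_subgroupOf]
    exact hk
  have hRE : IsSylIn p (R.subgroupOf E) (⊤ : Subgroup E) := by
    refine ⟨le_top, hR.isPGroup.comap_subtype, ?_⟩
    rw [relIndex_top_right]
    exact hR.not_dvd
  have hmap := Sec.isSylIn_map_surj (QuotientGroup.mk' (Q.subgroupOf E)) (QuotientGroup.mk'_surjective _) hRE
  have htop : (R.subgroupOf E).map (QuotientGroup.mk' (Q.subgroupOf E)) = ⊤ := by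
    symm
    apply hmap.eq_of_le _ le_top le_top
    exact hp.to_subgroup ⊤
  have h1 : QuotientGroup.mk' (Q.subgroupOf E) ⟨x, hx⟩ ∈ (R.subgroupOf E).map (QuotientGroup.mk' (Q.subgroupOf E)) := by
    rw [htop]; trivial
  obtain ⟨r, hr, q, hq, hrq⟩ := mem_sup_of_normal_right.1 (Sec.mem_sup_of_mk_mem h1)
  exact ⟨r, hr, q, hq, (congrArg Subtype.val hrq).symm⟩

theorem step2 [Fact p.Prime] [Finite G] {P N : Subgroup G} [hN : N.Normal] (hP : IsSylIn p P ⊤) {W : Subgroup G}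
    (hW : W ≤ P ⊓ N) (hWN : normalizer ((P ⊓ N : Subgroup G) : Set G) ≤ normalizer (W : Set G))
    (hctrl : ∀ A ≤ P ⊓ N, ∀ n ∈ N, cj n A ≤ P ⊓ N →
      ∃ h ∈ N ⊓ normalizer (W : Set G), ∃ c ∈ N ⊓ centralizer (A : Set G), n = h * c) :
    ∀ A ≤ P, ∀ g, cj g A ≤ P → RC (normalizer (W : Set G)) A g := by
  set M := normalizer (W : Set G) with hM
  set D₀ := P ⊓ N with hD₀
  have hNt : ∀ K : Subgroup G, K ≤ normalizer (N : Set G) := fun K => by rw [normalizer_eq_top]; exact le_top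
  have hPM : P ≤ M := by
    refine le_trans ?_ hWN
    exact (le_inf le_normalizer (hNt P)).trans inf_normalizer_le_normalizer_inf
  have hD₀s : IsSylIn p D₀ N := hP.inf_of_le_normalizer le_top (hNt ⊤)
  -- key0
  have key0 : ∀ D₁ ≤ D₀, ∀ g ∈ normalizer (D₁ : Set G), ∃ m ∈ M ⊓ normalizer (D₁ : Set G),
      ∃ c ∈ N ⊓ centralizer (D₁ : Set G), g = m * c := by
    intro D₁ hD₁ g hg
    obtain ⟨n', hn', m, hm, hgm⟩ := hD₀s.frattini le_top (hNt ⊤) (mem_top g)
    -- g = n' m = m (m⁻¹ n' m)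
    set n := m⁻¹ * n' * m with hn
    have hnN : n ∈ N := by
      have := hN.conj_mem _ hn' m⁻¹
      rwa [inv_inv] at this
    have hg2 : g = m * n := by rw [hgm, hn]; group
    have hm2 : m ∈ normalizer (D₀ : Set G) := hm.2
    have h1 : cj n D₁ ≤ D₀ := by
      have : n = m⁻¹ * g := by rw [hg2]; group
      rw [this, cj_mul, cj_eq_of_mem_normalizer hg]
      refine (cj_mono hD₁).trans ?_
      rw [cj_eq_of_mem_normalizer (inv_mem hm2)]
    obtain ⟨h, hh, c, hc, hnc⟩ := hctrl D₁ hD₁ n hnN h1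
    have hg3 : g = m * h * c := by rw [hg2, hnc]; group
    refine ⟨m * h, Subgroup.mem_inf.2 ⟨mul_mem (hWN hm2) hh.2, ?_⟩, c, hc, hg3⟩
    have : m * h = g * c⁻¹ := by rw [hg3]; group
    rw [this]
    exact mul_mem hg (inv_mem (centralizer_le_normalizer _ hc.2))
  apply alp_RC hP
  intro U hU hUs IH n hn
  set NU := normalizer (U : Set G) with hNU
  set D₁ := U ⊓ N with hD₁
  have hD₁D₀ : D₁ ≤ D₀ := inf_le_inf_right _ hU
  have hNUD : NU ≤ normalizer (D₁ : Set G) :=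
    (le_inf le_rfl (hNt NU)).trans inf_normalizer_le_normalizer_inf
  set A₁ := W ⊓ normalizer (D₁ : Set G) with hA₁
  set B₁ := centralizer (D₁ : Set G) with hB₁
  have hNB : normalizer (D₁ : Set G) ≤ normalizer (B₁ : Set G) := Sec.normalizer_le_normalizer_centralizer D₁
  have hAB : A₁ ≤ normalizer (B₁ : Set G) := inf_le_right.trans hNB
  have hNAB : normalizer (D₁ : Set G) ≤ normalizer ((A₁ ⊔ B₁ : Subgroup G) : Set G) := by
    intro g hg
    obtain ⟨m, hm, c, hc, rfl⟩ := key0 D₁ hD₁D₀ g hg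
    refine mul_mem ?_ (le_normalizer (mem_sup_right hc.2))
    obtain ⟨hm1, hm2⟩ := Subgroup.mem_inf.1 hm
    rw [mem_normalizer_iff_cj, cj_sup, hA₁, cj_inf, cj_eq_of_mem_normalizer hm1, cj_eq_of_mem_normalizer (hNB hm2),
      cj_eq_of_mem hm2]
  set E := (N ⊓ NU) ⊓ (A₁ ⊔ B₁) with hE
  have hEN : E ≤ NU := inf_le_left.trans inf_le_right
  have hNE : NU ≤ normalizer (E : Set G) := by
    refine le_trans (le_inf ?_ (hNUD.trans hNAB)) inf_normalizer_le_normalizer_inf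
    exact (le_inf (hNt NU) le_normalizer).trans inf_normalizer_le_normalizer_inf
  have hR : IsSylIn p ((P ⊓ NU) ⊓ E) E := hUs.inf_of_le_normalizer hEN hNE
  set R := (P ⊓ NU) ⊓ E with hRdef
  -- p-power of elements of E centralize U
  have hpow : ∀ x ∈ E, ∃ k : ℕ, x ^ (p ^ k) ∈ centralizer (U : Set G) := by
    intro x hx
    obtain ⟨hx1, hx2⟩ := Subgroup.mem_inf.1 hx
    obtain ⟨hxN, hxU⟩ := Subgroup.mem_inf.1 hx1
    obtain ⟨w, hw, b, hb, hxwb⟩ := mem_sup_of_normalizes' hAB hx2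
    obtain ⟨hwW, hwD⟩ := Subgroup.mem_inf.1 hw
    have hind : ∀ k : ℕ, x ^ k * (w ^ k)⁻¹ ∈ B₁ := by
      intro k
      induction k with
      | zero => simp [B₁.one_mem]
      | succ k ih =>
        have e : x ^ (k + 1) * (w ^ (k + 1))⁻¹ = (x ^ k * (w * b * w⁻¹) * (x ^ k)⁻¹) * (x ^ k * (w ^ k)⁻¹) := by
          have h1 : x = w * b := hxwb
          have h2 : x ^ (k + 1) = x ^ k * (w * b) := by rw [pow_succ]; nth_rewrite 2 [h1]; rfl
          rw [h2, pow_succ' w k]; group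
        rw [e]
        refine mul_mem ?_ ih
        have h3 : w * b * w⁻¹ ∈ B₁ := (mem_normalizer_iff.1 (hNB hwD) b).1 hb
        exact (mem_normalizer_iff.1 (hNB (hNUD (pow_mem hxU k))) _).1 h3
    obtain ⟨a, ha⟩ := (hP.isPGroup.to_le (hW.trans inf_le_left)) ⟨w, hwW⟩
    have hwa : w ^ (p ^ a) = 1 := congrArg Subtype.val ha
    have hy := hind (p ^ a)
    rw [hwa, inv_one, mul_one] at hy
    set y := x ^ (p ^ a) with hydef
    have hyN : y ∈ N := pow_mem hxN _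
    have hyU : y ∈ NU := pow_mem hxU _
    obtain ⟨b', hb'⟩ := IsPGroup.iff_card.1 (hP.isPGroup.to_le (inf_le_left.trans hU : D₁ ≤ P))
    refine ⟨a + b', ?_⟩
    rw [pow_add, pow_mul, ← hydef, mem_centralizer_iff]
    intro u hu
    have hd : u⁻¹ * (y * u * y⁻¹) ∈ D₁ := by
      refine Subgroup.mem_inf.2 ⟨mul_mem (inv_mem hu) ((mem_normalizer_iff.1 hyU u).1 hu), ?_⟩
      have : u⁻¹ * (y * u * y⁻¹) = (u⁻¹ * y * u⁻¹⁻¹) * y⁻¹ := by group
      rw [this]; exact mul_mem (hN.conj_mem _ hyN _) (inv_mem hyN)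
    set d := u⁻¹ * (y * u * y⁻¹) with hd'
    have h1 : y * u = u * d * y := by rw [hd']; group
    have h2 : d * y = y * d := mem_centralizer_iff.1 hy d hd
    have h3 : ∀ k : ℕ, y ^ k * u = u * d ^ k * y ^ k := by
      intro k
      induction k with
      | zero => simp
      | succ k ih =>
        have h4 : y * d ^ k = d ^ k * y := ((show Commute d y from h2).pow_left k).symm.eq
        calc y ^ (k + 1) * u = y * (y ^ k * u) := by rw [pow_succ']; group
          _ = y * (u * d ^ k * y ^ k) := by rw [ih]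
          _ = (y * u) * d ^ k * y ^ k := by group
          _ = (u * d * y) * d ^ k * y ^ k := by rw [h1]
          _ = u * d * (y * d ^ k) * y ^ k := by group
          _ = u * d * (d ^ k * y) * y ^ k := by rw [h4]
          _ = u * d ^ (k + 1) * y ^ (k + 1) := by rw [pow_succ' d k, pow_succ' y k]; group
    have h5 : d ^ (p ^ b') = 1 := by
      have := orderOf_dvd_natCard D₁ hd
      rw [hb'] at this
      exact orderOf_dvd_iff_pow_eq_one.1 this
    have h6 := h3 (p ^ b')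
    rw [h5, mul_one] at h6
    exact h6.symm
  have hNC : NU ≤ normalizer (centralizer (U : Set G) : Set G) := Sec.normalizer_le_normalizer_centralizer U
  obtain ⟨e, he, m, hm, rfl⟩ := hR.frattini hEN hNE hn
  by_cases hRU : R ≤ U
  · -- W ≤ U
    have hWU : W ≤ U := by
      apply le_of_inf_normalizer_le hP.isPGroup (hW.trans inf_le_left) hU (hU.trans hPM)
      intro w hw
      obtain ⟨hw1, hw2⟩ := Subgroup.mem_inf.1 hw
      apply hRU
      rw [hRdef]
      have hwN : w ∈ N := (hW hw1).2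
      exact Subgroup.mem_inf.2 ⟨Subgroup.mem_inf.2 ⟨(hW hw1).1, hw2⟩, Subgroup.mem_inf.2 ⟨Subgroup.mem_inf.2 ⟨hwN, hw2⟩,
        mem_sup_left (Subgroup.mem_inf.2 ⟨hw1, hNUD hw2⟩)⟩⟩
    have hWD : W ≤ D₁ := le_inf hWU (hW.trans inf_le_right)
    obtain ⟨m', hm', c, hc, hmc⟩ := key0 D₁ hD₁D₀ _ (hNUD hn)
    refine ⟨e * m, ?_, 1, one_mem _, (mul_one _).symm⟩
    rw [hmc]
    exact mul_mem hm'.1 (centralizer_le_normalizer _ (centralizer_le hWD hc.2))
  · apply RC.mul_norm hm.1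
    · obtain ⟨r, hr, c, hc, rfl⟩ := exists_mul_of_pquot hR (hEN.trans hNC) hpow e he
      exact ⟨r, hPM hr.1.1, c, hc, rfl⟩
    · have hlt : U < U ⊔ R := by
        refine lt_of_le_of_ne le_sup_left ?_
        intro heq
        apply hRU
        rw [heq]; exact le_sup_right
      have hle : U ⊔ R ≤ P := sup_le hU (inf_le_left.trans inf_le_left)
      have hcard : Nat.card U < Nat.card (U ⊔ R : Subgroup G) := by
        apply lt_of_not_ge
        intro h
        exact hlt.ne (Subgroup.eq_of_le_of_card_ge hlt.le h)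
      refine RC.mono hlt.le (IH _ hle hcard m ?_)
      rw [cj_sup, cj_eq_of_mem_normalizer hm.1, cj_eq_of_mem_normalizer hm.2]
      exact hle

end Cfsg.Agent.H13.RC
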