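import Mathlib
import Cfsg.Prelude.Def_Transfer

/-!
Odd permutations and `O^2(G)`.
-/

set_option autoImplicit false
set_option linter.all false

namespace Cfsg.Agent.H13.Sgn

open Subgroup Cfsg

theorem sign_semireg {α : Type*} [Fintype α] [DecidableEq α] (σ : Equiv.Perm α) (m : ℕ)
    (h1 : σ ^ 2 ^ (m + 1) = 1) (h2 : ∀ x, (σ ^ 2 ^ m) x ≠ x) (h3 : ¬ 2 ^ (m + 2) ∣ Fintype.card α) :
    Equiv.Perm.sign σ = -1 := by
  have hmem : ∀ n ∈ σ.cycleType, n = 2 ^ (m + 1) := by
    intro n hn
    have hd : n ∣ 2 ^ (m + 1) := (Equiv.Perm.dvd_of_mem_cycleType hn).trans (orderOf_dvd_of_pow_eq_one h1)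
    obtain ⟨j, hj, rfl⟩ := (Nat.dvd_prime_pow Nat.prime_two).1 hd
    by_contra hne
    have hjm : j ≤ m := by
      rcases Nat.lt_or_ge m j with h | h
      · exfalso; apply hne; congr 1; omega
      · exact h
    obtain ⟨c, τ, hσ, hdis, hc, hcard⟩ := Equiv.Perm.mem_cycleType_iff.1 hn
    obtain ⟨x, hx⟩ := hc.nonempty_support
    have hord : orderOf c = 2 ^ j := by rw [hc.orderOf, hcard]
    apply h2 x
    have hcomm : Commute c τ := hdis.commute
    have hτx : τ x = x := by
      rcases hdis x with h | h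
      · exact absurd h (Equiv.Perm.mem_support.1 hx)
      · exact h
    have hcm : c ^ 2 ^ m = 1 := by
      rw [← orderOf_dvd_iff_pow_eq_one, hord]; exact pow_dvd_pow 2 hjm
    rw [hσ, hcomm.mul_pow, hcm, one_mul]
    exact Equiv.Perm.pow_apply_eq_self_of_apply_eq_self hτx _
  have hrep := Multiset.eq_replicate.2 ⟨rfl, hmem⟩
  set k := Multiset.card σ.cycleType with hk
  have hsum : σ.cycleType.sum = Fintype.card α := by
    rw [Equiv.Perm.sum_cycleType]
    have : σ.support = Finset.univ := by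
      ext x
      simp only [Equiv.Perm.mem_support, Finset.mem_univ, iff_true]
      intro hx
      exact h2 x (Equiv.Perm.pow_apply_eq_self_of_apply_eq_self hx _)
    rw [this, Finset.card_univ]
  rw [Equiv.Perm.sign_of_cycleType]
  have hs2 : σ.cycleType.sum = k * 2 ^ (m + 1) := by
    rw [hrep, Multiset.sum_replicate, smul_eq_mul]
  have hkodd : ¬ 2 ∣ k := by
    rintro ⟨l, hl⟩
    apply h3
    refine ⟨l, ?_⟩
    rw [← hsum, hs2, hl]; ring
  rw [hs2, pow_add]
  have e1 : ((-1 : ℤˣ)) ^ (k * 2 ^ (m + 1)) = 1 := by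
    rw [pow_succ, ← mul_assoc, pow_mul', neg_one_sq, one_pow]
  rw [e1, one_mul]
  exact Odd.neg_one_pow (Nat.not_even_iff_odd.1 (fun h => hkodd h.two_dvd))

theorem hom_eq_one {G : Type*} [Group G] [Finite G] (f : G →* ℤˣ) {x : G} (hx : x ∈ pResidual 2 G) : f x = 1 := by
  have h : pResidual 2 G ≤ f.ker := by
    unfold pResidual
    rw [closure_le]
    intro g hg
    rw [SetLike.mem_coe, MonoidHom.mem_ker]
    have h1 : (f g) ^ 2 = 1 := Int.units_sq _
    have h2 : orderOf (f g) ∣ 2 := orderOf_dvd_of_pow_eq_one h1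
    have h3 : orderOf (f g) ∣ orderOf g := orderOf_map_dvd f g
    exact orderOf_eq_one_iff.1 (Nat.eq_one_of_dvd_coprimes hg h3 h2)
  exact h hx

theorem notMem_pResidual {G : Type*} [Group G] [Finite G] (H : Subgroup G) (x : G) (m : ℕ)
    (h1 : x ^ 2 ^ (m + 1) = 1) (h2 : ∀ g : G, g * x ^ 2 ^ m * g⁻¹ ∉ H) (h3 : ¬ 2 ^ (m + 2) ∣ H.index) :
    x ∉ pResidual 2 G := by
  classical
  intro hx
  have : Fintype (G ⧸ H) := Fintype.ofFinite _
  let f : G →* ℤˣ := Equiv.Perm.sign.comp (MulAction.toPermHom G (G ⧸ H))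
  have hf := hom_eq_one f hx
  have hσ : Equiv.Perm.sign (MulAction.toPermHom G (G ⧸ H) x) = -1 := by
    apply sign_semireg _ m
    · rw [← map_pow, h1, map_one]
    · intro y
      obtain ⟨g, rfl⟩ := QuotientGroup.mk_surjective y
      rw [← map_pow]
      intro hc
      change (x ^ 2 ^ m) • (QuotientGroup.mk g : G ⧸ H) = QuotientGroup.mk g at hc
      have hc' : (QuotientGroup.mk (x ^ 2 ^ m * g) : G ⧸ H) = QuotientGroup.mk g := hc
      rw [eq_comm, QuotientGroup.eq] at hc'
      apply h2 g⁻¹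
      rw [inv_inv, mul_assoc]; exact hc'
    · rw [← Nat.card_eq_fintype_card]; exact h3
  have : (-1 : ℤˣ) = 1 := by rw [← hσ]; exact hf
  exact absurd this (by decide)

theorem pResidual_normal (p : ℕ) (G : Type*) [Group G] : (pResidual p G).Normal := by
  constructor
  intro x hx g
  induction hx using closure_induction with
  | mem x hx =>
    apply Subgroup.subset_closure
    have : orderOf (g * x * g⁻¹) = orderOf x := by
      have := orderOf_injective (MulAut.conj g).toMonoidHom (MulAut.conj g).injective x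
      simpa using this
    show Nat.Coprime _ _
    rw [this]; exact hx
  | one => simp
  | mul x y _ _ h1 h2 =>
    have : g * (x * y) * g⁻¹ = (g * x * g⁻¹) * (g * y * g⁻¹) := by group
    rw [this]; exact mul_mem h1 h2
  | inv x _ h1 =>
    have : g * x⁻¹ * g⁻¹ = (g * x * g⁻¹)⁻¹ := by group
    rw [this]; exact inv_mem h1

theorem pResidual_sup {G : Type*} [Group G] [Finite G] (p : ℕ) [hp : Fact p.Prime] {S : Subgroup G}
    (hS : ¬ p ∣ S.index) : pResidual p G ⊔ S = ⊤ := by
  have hn := pResidual_normal p G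
  rw [← index_eq_one]
  by_contra hne
  obtain ⟨r, hr, hrd⟩ := Nat.exists_prime_and_dvd hne
  have hidx : (pResidual p G ⊔ S).index ∣ (pResidual p G).index := index_dvd_of_le le_sup_left
  have hrp : r = p := by
    -- the quotient is a `p`-group
    have h1 : IsPGroup p (G ⧸ pResidual p G) := by
      intro x
      obtain ⟨g, rfl⟩ := QuotientGroup.mk_surjective x
      obtain ⟨k, m, hm, hn⟩ := Nat.exists_eq_pow_mul_and_not_dvd (orderOf_pos g).ne' p hp.out.ne_one
      refine ⟨k, ?_⟩
      rw [← QuotientGroup.mk_pow, QuotientGroup.eq_one_iff]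
      apply Subgroup.subset_closure
      show Nat.Coprime _ _
      have h2 : (g ^ p ^ k) ^ m = 1 := by rw [← pow_mul, ← hn, pow_orderOf_eq_one]
      exact Nat.Coprime.coprime_dvd_left (orderOf_dvd_of_pow_eq_one h2)
        ((Nat.Prime.coprime_iff_not_dvd hp.out).2 hm).symm
    obtain ⟨n, hn'⟩ := IsPGroup.iff_card.1 h1
    rw [← index_eq_card] at hn'
    have h2 : r ∣ p ^ n := by rw [← hn']; exact hrd.trans hidx
    exact (Nat.prime_dvd_prime_iff_eq hr hp.out).1 (hr.dvd_of_dvd_pow h2)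
  subst hrp
  exact hS (hrd.trans (index_dvd_of_le le_sup_right))

theorem pResidual_pResidual (p : ℕ) (G : Type*) [Group G] : pResidual p ↥(pResidual p G) = ⊤ := by
  have h : (pResidual p G) ≤ (pResidual p ↥(pResidual p G)).map (pResidual p G).subtype := by
    conv_lhs => unfold pResidual
    rw [closure_le]
    intro g hg
    refine ⟨⟨g, Subgroup.subset_closure hg⟩, Subgroup.subset_closure ?_, rfl⟩
    have h1 : orderOf (⟨g, Subgroup.subset_closure hg⟩ : pResidual p G) = orderOf g :=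
      Subgroup.orderOf_mk g _
    show Nat.Coprime _ _
    rw [h1]; exact hg
  rw [eq_top_iff]
  rintro ⟨x, hx⟩ -
  obtain ⟨y, hy, hyx⟩ := h hx
  have : y = ⟨x, hx⟩ := Subtype.ext hyx
  rw [← this]; exact hy

end Cfsg.Agent.H13.Sgn
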