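import Cfsg.Agent.H13_RC
import Cfsg.Prelude.Def_Local

/-!
Tightly embedded subgroups: the structure of `N_S(T)`.
-/

set_option autoImplicit false

namespace Cfsg.Agent.H13.TE

open Subgroup Cfsg.Agent.H13.Syl Cfsg.Agent.H13.RC

universe u

variable {G : Type u} [Group G] [Finite G]

/-- the working form of tight embedding -/
def Tight (Q : Subgroup G) : Prop := ∀ g : G, g ∉ normalizer (Q : Set G) → ∀ T : Subgroup G, IsPGroup 2 T →
  T ≤ Q → T ≤ cj g Q → T = ⊥

theorem tight_of (Q : Subgroup G) (h : IsTightlyEmbedded Q) : Tight Q := by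
  intro g hg T hT h1 h2
  have h3 := h.2 g hg
  have h4 : Odd (Nat.card T) := by
    obtain ⟨m, hm⟩ := Subgroup.card_dvd_of_le (le_inf h1 h2 : T ≤ Q ⊓ cj g Q)
    have h5 : Odd (Nat.card T * m) := by rw [← hm]; exact h3
    exact (Nat.odd_mul.1 h5).1
  obtain ⟨k, hk⟩ := IsPGroup.iff_card.1 hT
  rw [← Subgroup.card_eq_one, hk]
  rw [hk] at h4
  cases k with
  | zero => rfl
  | succ k => exact absurd h4 (by rw [Nat.not_odd_iff_even, pow_succ]; exact even_two.mul_left _)

theorem Tight.cj {Q : Subgroup G} (h : Tight Q) (x : G) : Tight (cj x Q) := by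
  intro g hg T hT h1 h2
  have h3 := h (x⁻¹ * g * x) (by
    intro hh
    apply hg
    rw [mem_normalizer_iff_cj] at hh ⊢
    have : Syl.cj g (Syl.cj x Q) = Syl.cj x (Syl.cj (x⁻¹ * g * x) Q) := by
      rw [← cj_mul, ← cj_mul]; congr 1; group
    rw [this, hh]) (Syl.cj x⁻¹ T) (isPGroup_cj hT) (by rw [cj_le_iff, inv_inv]; exact h1) (by
    rw [cj_le_iff, inv_inv, ← cj_mul]
    have : x * (x⁻¹ * g * x) = g * x := by group
    rw [this, cj_mul]; exact h2)
  exact cj_eq_bot_iff.1 h3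

section
variable {Q T S : Subgroup G} {g : G} (hQ : Tight Q) (hg : g ∉ normalizer (Q : Set G))
  (hT1 : T ≠ ⊥) (hT : IsSylIn 2 T (cj g Q ⊓ normalizer (Q : Set G)))
  (hTS : T ≤ S) (hS : IsSylIn 2 S (Q ⊔ T))

include hQ hg hT in
theorem inf_eq_bot : T ⊓ Q = ⊥ :=
  hQ g hg _ (hT.isPGroup.to_le inf_le_left) inf_le_right (inf_le_left.trans (hT.le.trans inf_le_left))

include hT in
omit [Finite G] in
theorem T_le_NQ : T ≤ normalizer (Q : Set G) := hT.le.trans inf_le_right

include hQ hg hT in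
theorem commutes {x t : G} (hx : x ∈ Q) (hxN : x ∈ normalizer (T : Set G)) (ht : t ∈ T) : t * x = x * t := by
  have h1 : t * x * t⁻¹ * x⁻¹ ∈ T := by
    have : t * x * t⁻¹ * x⁻¹ = t * (x * t⁻¹ * x⁻¹) := by group
    rw [this]
    exact mul_mem ht ((mem_normalizer_iff.1 hxN _).1 (inv_mem ht))
  have h2 : t * x * t⁻¹ * x⁻¹ ∈ Q := mul_mem ((mem_normalizer_iff.1 (T_le_NQ hT ht) _).1 hx) (inv_mem hx)
  have h3 : t * x * t⁻¹ * x⁻¹ ∈ T ⊓ Q := Subgroup.mem_inf.2 ⟨h1, h2⟩
  rw [inf_eq_bot hQ hg hT, mem_bot] at h3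
  rw [mul_inv_eq_one, mul_inv_eq_iff_eq_mul] at h3
  exact h3

include hT hTS hS in
theorem sup_eq : T ⊔ (S ⊓ normalizer (T : Set G) ⊓ Q) = S ⊓ normalizer (T : Set G) := by
  apply le_antisymm
  · exact sup_le (le_inf hTS le_normalizer) inf_le_left
  · intro s hs
    obtain ⟨hs1, hs2⟩ := Subgroup.mem_inf.1 hs
    obtain ⟨q, hq, t, ht, rfl⟩ := mem_sup_of_normalizes (T_le_NQ hT) (hS.le hs1)
    have hq2 : q ∈ S ⊓ normalizer (T : Set G) ⊓ Q := by
      refine Subgroup.mem_inf.2 ⟨Subgroup.mem_inf.2 ⟨?_, ?_⟩, hq⟩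
      · have := mul_mem hs1 (inv_mem (hTS ht)); rwa [mul_inv_cancel_right] at this
      · have := mul_mem hs2 (inv_mem (le_normalizer ht)); rwa [mul_inv_cancel_right] at this
    exact mul_mem (mem_sup_right hq2) (mem_sup_left ht)

include hQ hg hT hTS hS in
/-- `N_S(T)/T`. -/
theorem main :
    ∃ (X : Type u) (_ : Group X), Nonempty (↥(S ⊓ normalizer (T : Set G) ⊓ Q) ≃* X) ∧
      ((∃ f : T →* X, Function.Injective f) ∨
        IsSylIn 2 (S ⊓ normalizer (T : Set G) ⊓ Q) Q) := by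
  have := Fact.mk Nat.prime_two
  have hsup := sup_eq hT hTS hS
  have hcom := fun {x t : G} => @commutes G _ _ Q T g hQ hg hT x t
  have hTQ := inf_eq_bot hQ hg hT
  set K := S ⊓ normalizer (T : Set G) with hK
  set R := K ⊓ Q with hR
  have hTK : T ≤ K := le_inf hTS le_normalizer
  have hTn : (T.subgroupOf K).Normal := (normal_subgroupOf_iff_le_normalizer hTK).2 inf_le_right
  refine ⟨K ⧸ T.subgroupOf K, inferInstance, ?_, ?_⟩
  · refine ⟨MulEquiv.ofBijective ((QuotientGroup.mk' (T.subgroupOf K)).comp (Subgroup.inclusion (inf_le_left : R ≤ K))) ⟨?_, ?_⟩⟩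
    · rw [injective_iff_map_eq_one]
      rintro ⟨r, hr⟩ h
      have h1 : (Subgroup.inclusion (inf_le_left : R ≤ K)) ⟨r, hr⟩ ∈ T.subgroupOf K := (QuotientGroup.eq_one_iff _).1 h
      have h2 : r ∈ T ⊓ Q := Subgroup.mem_inf.2 ⟨h1, (Subgroup.mem_inf.1 hr).2⟩
      rw [hTQ, mem_bot] at h2
      exact Subtype.ext h2
    · intro y
      obtain ⟨⟨k, hk⟩, rfl⟩ := QuotientGroup.mk_surjective y
      have hk' : k ∈ T ⊔ R := by rw [hsup]; exact hk
      obtain ⟨t, ht, r, hr, rfl⟩ := mem_sup_of_normalizes (U := R) (V := T) (inf_le_left.trans inf_le_right) hk'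
      refine ⟨⟨r, hr⟩, ?_⟩
      show ((⟨r, inf_le_left (b := Q) hr⟩ : K) : K ⧸ T.subgroupOf K) = _
      rw [QuotientGroup.eq, mem_subgroupOf]
      show r⁻¹ * (t * r) ∈ T
      obtain ⟨hr1, hr2⟩ := Subgroup.mem_inf.1 hr
      rw [hcom hr2 (Subgroup.mem_inf.1 hr1).2 ht, inv_mul_cancel_left]
      exact ht
  · by_cases hSN : S ≤ normalizer (T : Set G)
    · right
      have hKS : K = S := inf_eq_left.2 hSN
      rw [hR, hKS]
      exact hS.inf_of_le_normalizer le_sup_left (sup_le le_normalizer (T_le_NQ hT))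
    · left
      have hKS : K < S := by
        refine lt_of_le_of_ne inf_le_left ?_
        intro h
        apply hSN
        rw [← h]; exact inf_le_right
      obtain ⟨x, hx, hxK⟩ := SetLike.exists_of_lt (lt_normalizer_of_lt hS.isPGroup hKS)
      obtain ⟨hxS, hxN⟩ := Subgroup.mem_inf.1 hx
      have hxT : x ∉ normalizer (T : Set G) := fun h => hxK (Subgroup.mem_inf.2 ⟨hxS, h⟩)
      have hxNQ : x ∈ normalizer (Q : Set G) := (hS.le.trans (sup_le le_normalizer (T_le_NQ hT))) hxS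
      have hTxK : cj x T ≤ K := by
        refine (cj_mono hTK).trans ?_
        rw [cj_eq_of_mem_normalizer hxN]
      have hxQ' : x ∉ normalizer ((cj g Q : Subgroup G) : Set G) := by
        intro h
        apply hxT
        have h1 : cj x T ≤ cj g Q ⊓ normalizer (Q : Set G) := by
          refine (cj_mono hT.le).trans ?_
          rw [cj_inf, cj_eq_of_mem_normalizer h, cj_eq_of_mem hxNQ]
        have h2 : T ⊔ cj x T = T := by
          apply hT.eq_of_le _ (sup_le hT.le h1) le_sup_left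
          exact hS.isPGroup.to_le ((sup_le hTK hTxK).trans inf_le_left)
        rw [mem_normalizer_iff_cj]
        apply Subgroup.eq_of_le_of_card_ge _ (by rw [card_cj])
        rw [← h2]
        nth_rewrite 1 [h2]
        exact le_sup_right
      have hdis : T ⊓ cj x T = ⊥ := (hQ.cj g) x hxQ' _ (hT.isPGroup.to_le inf_le_left)
        (inf_le_left.trans (hT.le.trans inf_le_left)) (inf_le_right.trans (cj_mono (hT.le.trans inf_le_left)))
      have hmem : ∀ t : T, ((MulAut.conj x).toMonoidHom.comp T.subtype) t ∈ K := fun t => hTxK ⟨t, t.2, rfl⟩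
      refine ⟨(QuotientGroup.mk' (T.subgroupOf K)).comp (((MulAut.conj x).toMonoidHom.comp T.subtype).codRestrict K hmem), ?_⟩
      rw [injective_iff_map_eq_one]
      intro t h
      have h1 : ((MulAut.conj x).toMonoidHom.comp T.subtype).codRestrict K hmem t ∈ T.subgroupOf K := (QuotientGroup.eq_one_iff _).1 h
      have h2 : x * t * x⁻¹ ∈ T ⊓ cj x T := Subgroup.mem_inf.2 ⟨h1, conj_mem_cj t.2⟩
      rw [hdis, mem_bot, mul_inv_eq_one] at h2
      apply Subtype.ext
      show (t : G) = 1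
      exact mul_eq_left.1 h2

include hQ hg hT hTS hS in
theorem card_le : Nat.card T ≤ Nat.card ↥(S ⊓ normalizer (T : Set G) ⊓ Q) := by
  have := Fact.mk Nat.prime_two
  obtain ⟨X, _, ⟨e⟩, ⟨f, hf⟩ | hsyl⟩ := main hQ hg hT hTS hS
  · have : Finite X := Finite.of_equiv _ e.toEquiv
    rw [Nat.card_congr e.toEquiv]
    exact Nat.card_le_card_of_injective f hf
  · obtain ⟨U, hU, hUs⟩ := exists_isSylIn_ge (A := T) (H := cj g Q) hT.isPGroup (hT.le.trans inf_le_left)
    have h1 := hsyl.cj g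
    have h2 : Nat.card ↥(S ⊓ normalizer (T : Set G) ⊓ Q) = Nat.card U := by
      rw [hUs.card_eq h1, card_cj]
    rw [h2]
    exact Subgroup.card_le_of_le hU

include hQ hg hT hT1 in
/-- `N_S(T) ∩ Q` normalizes `Q^g`. -/
theorem R_le : S ⊓ normalizer (T : Set G) ⊓ Q ≤ normalizer ((cj g Q : Subgroup G) : Set G) := by
  have := Fact.mk Nat.prime_two
  intro x hx
  by_contra hne
  obtain ⟨hx1, hxQ⟩ := Subgroup.mem_inf.1 hx
  have hxN := (Subgroup.mem_inf.1 hx1).2
  apply hT1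
  apply (hQ.cj g) x hne T hT.isPGroup (hT.le.trans inf_le_left)
  intro t ht
  rw [mem_cj]
  have h1 := commutes hQ hg hT hxQ hxN ht
  have : x⁻¹ * t * x = t := by rw [mul_assoc, h1]; group
  rw [this]
  exact (hT.le ht).1

include hQ hg hT hT1 hTS hS in
theorem iso : Nonempty (↥(S ⊓ normalizer (T : Set G) ⊓ Q) ≃* T) := by
  have := Fact.mk Nat.prime_two
  set R := S ⊓ normalizer (T : Set G) ⊓ Q with hR
  have hRp : IsPGroup 2 R := hS.isPGroup.to_le (inf_le_left.trans inf_le_left)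
  have hcR := card_le hQ hg hT hTS hS
  rw [← hR] at hcR
  have hR1 : R ≠ ⊥ := by
    intro h
    rw [h, Subgroup.card_bot] at hcR
    apply hT1
    rw [← Subgroup.card_eq_one]
    have : 0 < Nat.card T := Nat.card_pos
    omega
  -- the symmetric situation
  set Q' := cj g Q with hQ'
  have hQt' : Tight Q' := hQ.cj g
  have hg' : g⁻¹ ∉ normalizer (Q' : Set G) := by
    intro h
    apply hg
    rw [mem_normalizer_iff_cj] at h ⊢
    rw [hQ', cj_inv_cj] at h
    exact h.symm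
  have hQQ : cj g⁻¹ Q' = Q := by rw [hQ', cj_inv_cj]
  obtain ⟨R₁, hRR₁, hR₁⟩ := exists_isSylIn_ge (A := R) (H := cj g⁻¹ Q' ⊓ normalizer (Q' : Set G)) hRp
    (by rw [hQQ]; exact le_inf inf_le_right (R_le hQ hg hT1 hT))
  have hR₁1 : R₁ ≠ ⊥ := fun h => hR1 (le_bot_iff.1 (h ▸ hRR₁))
  obtain ⟨S₁, hRS₁, hS₁⟩ := exists_isSylIn_ge (A := R₁) (H := Q' ⊔ R₁) hR₁.isPGroup le_sup_right
  have hc₁ := card_le hQt' hg' hR₁ hRS₁ hS₁
  set T₁ := S₁ ⊓ normalizer (R₁ : Set G) ⊓ Q' with hT₁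
  have hT₁N : T₁ ≤ normalizer (Q : Set G) := by
    have := R_le (S := S₁) hQt' hg' hR₁1 hR₁
    rwa [hQQ] at this
  have hT₁p : IsPGroup 2 T₁ := hS₁.isPGroup.to_le (inf_le_left.trans inf_le_left)
  have hcT₁ : Nat.card T₁ ≤ Nat.card T := by
    obtain ⟨U, hU, hUs⟩ := exists_isSylIn_ge (A := T₁) (H := Q' ⊓ normalizer (Q : Set G)) hT₁p
      (le_inf inf_le_right hT₁N)
    rw [hT.card_eq hUs]
    exact Subgroup.card_le_of_le hU
  have hcRR₁ : Nat.card R ≤ Nat.card R₁ := Subgroup.card_le_of_le hRR₁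
  have hceq : Nat.card T = Nat.card R := by omega
  obtain ⟨X, _, ⟨e⟩, ⟨f, hf⟩ | hsyl⟩ := main hQ hg hT hTS hS
  · have : Finite X := Finite.of_equiv _ e.toEquiv
    have hcX : Nat.card T = Nat.card X := by rw [hceq]; exact Nat.card_congr e.toEquiv
    have hbij : Function.Bijective f := by
      have := Fintype.ofFinite T
      have := Fintype.ofFinite X
      rw [Nat.card_eq_fintype_card, Nat.card_eq_fintype_card] at hcX
      exact (Fintype.bijective_iff_injective_and_card f).2 ⟨hf, hcX⟩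
    exact ⟨e.trans (MulEquiv.ofBijective f hbij).symm⟩
  · -- both are Sylow
    have h1 : IsSylIn 2 (cj g R) Q' := hsyl.cj g
    have h2 : IsSylIn 2 T Q' := isSylIn_of_card_le h1 (hT.le.trans inf_le_left) hT.isPGroup (by
      rw [card_cj, hceq])
    obtain ⟨x, _, hx⟩ := h2.exists_conj_eq h1
    have e1 : R ≃* cj g R := R.equivMapOfInjective _ (MulAut.conj g).injective
    have e2 : cj g R ≃* cj x (cj g R) := (cj g R).equivMapOfInjective _ (MulAut.conj x).injective
    rw [hx] at e2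
    exact ⟨e1.trans e2⟩

end

end Cfsg.Agent.H13.TE
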