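import Mathlib
import Cfsg.Agent.H13_Syl

/-!
An involution `z` with `z ∈ H^g ↔ g ∈ H`.
-/

set_option autoImplicit false

namespace Cfsg.Agent.H13.ZH

universe u

open Subgroup

theorem odd_card {α : Type*} [Finite α] (f : α → α) (hf : ∀ x, f (f x) = x) (x0 : α) (h0 : f x0 = x0)
    (h1 : ∀ x, f x = x → x = x0) : Odd (Nat.card α) := by
  classical
  have hft := Fintype.ofFinite α
  have := Fact.mk Nat.prime_two
  have h2 : Nat.card α ≡ Nat.card (Function.fixedPoints f) [MOD 2] := by
    rw [Nat.card_eq_fintype_card, Nat.card_eq_fintype_card]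
    have hE : ∀ e : Function.End α, e * e = 1 → e ^ (2 ^ 1) = 1 := fun e h => by rw [pow_one, pow_two, h]
    have := Equiv.Perm.card_fixedPoints_modEq (α := α) (f := (f : Function.End α)) (p := 2) (n := 1)
      (hE f (funext hf))
    exact this
  have h3 : Nat.card (Function.fixedPoints f) = 1 := by
    rw [Nat.card_eq_one_iff_unique]
    refine ⟨⟨fun a b => ?_⟩, ⟨⟨x0, h0⟩⟩⟩
    exact Subtype.ext ((h1 a a.2).trans (h1 b b.2).symm)
  rw [h3] at h2
  rw [Nat.odd_iff]
  exact h2

theorem eq_of_sq_eq {G : Type*} [Group G] {a b : G} (ha : Odd (orderOf a)) (hb : Odd (orderOf b))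
    (h : a * a = b * b) : a = b := by
  obtain ⟨r, hr⟩ := ha.mul hb
  have h1 : a ^ (orderOf a * orderOf b) = 1 := by rw [pow_mul, pow_orderOf_eq_one, one_pow]
  have h2 : b ^ (orderOf a * orderOf b) = 1 := by rw [mul_comm, pow_mul, pow_orderOf_eq_one, one_pow]
  have h3 : ∀ c : G, c ^ (orderOf a * orderOf b) = 1 → c = (c * c) ^ (r + 1) := by
    intro c hc
    rw [← pow_two, ← pow_mul]
    have : 2 * (r + 1) = (orderOf a * orderOf b) + 1 := by rw [hr]; ring
    rw [this, pow_succ, hc, one_mul]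
  rw [h3 a h1, h3 b h2, h]

variable {G : Type u} [Group G]

/-- reflections of a dihedral group -/
theorem conj_refl {z i : G} (hz : z * z = 1) (hi : i * i = 1) (hc : IsConj z i) (k : ℕ) :
    IsConj z (z * (z * i) ^ k) := by
  have hzi : z⁻¹ = z := inv_eq_of_mul_eq_one_left hz
  have hii : i⁻¹ = i := inv_eq_of_mul_eq_one_left hi
  have hinv : ∀ r : ℕ, z * (z * i) ^ r * z = ((z * i) ^ r)⁻¹ := by
    intro r
    have h1 : z * (z * i) * z⁻¹ = (z * i)⁻¹ := by
      rw [mul_inv_rev, hzi, hii]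
      calc z * (z * i) * z = (z * z) * i * z := by group
        _ = i * z := by rw [hz, one_mul]
    have h2 := conj_pow (i := r) (a := z) (b := z * i)
    rw [h1, hzi, inv_pow] at h2
    exact h2.symm
  have key : ∀ r : ℕ, ∀ w : G, ((z * i) ^ r)⁻¹ * (z * w) * (z * i) ^ r = z * ((z * i) ^ r * w * (z * i) ^ r) := by
    intro r w
    rw [← hinv r]
    have : z * (z * i) ^ r * z * (z * w) * (z * i) ^ r = z * (z * i) ^ r * (z * z) * w * (z * i) ^ r := by group
    rw [this, hz]; group
  obtain ⟨r, hr⟩ | ⟨r, hr⟩ := Nat.even_or_odd k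
  · rw [isConj_iff]
    refine ⟨((z * i) ^ r)⁻¹, ?_⟩
    have := key r 1
    rw [mul_one] at this
    rw [inv_inv, this, mul_one, hr, pow_add]
  · refine hc.trans ?_
    rw [isConj_iff]
    refine ⟨((z * i) ^ r)⁻¹, ?_⟩
    have := key r (z * i)
    have e : z * (z * i) = i := by rw [← mul_assoc, hz, one_mul]
    rw [e] at this
    rw [inv_inv, this, hr]
    congr 1
    rw [← pow_succ, ← pow_add]; congr 1; omega

variable [Finite G] {z : G} (hz : orderOf z = 2) {H : Subgroup G} (hH : H ≠ ⊤)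
  (h0 : ∀ g : G, g⁻¹ * z * g ∈ H ↔ g ∈ H)

include h0 in
omit [Finite G] in
theorem mem_self : z ∈ H := by
  have := (h0 1).2 H.one_mem
  simpa using this

include h0 in
omit [Finite G] in
theorem cent_le : centralizer ({z} : Set G) ≤ H := by
  intro c hc
  rw [mem_centralizer_singleton_iff] at hc
  rw [← h0]
  have : c⁻¹ * z * c = z := by rw [mul_assoc, ← hc]; group
  rw [this]; exact mem_self h0

include h0 in
omit [Finite G] in
theorem not_mem_conj {g : G} (hg : g ∉ H) : g * z * g⁻¹ ∉ H := by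
  intro h
  apply hg
  rw [← H.inv_mem_iff, ← h0, inv_inv]
  exact h

include hz h0 in
theorem odd_index : Odd H.index := by
  have hzz : z * z = 1 := by rw [← pow_two, ← hz, pow_orderOf_eq_one]
  refine odd_card (fun q : G ⧸ H => z • q) (fun q => by rw [smul_smul, hzz, one_smul]) ((1 : G) : G ⧸ H) ?_ ?_
  · show ((z * 1 : G) : G ⧸ H) = _
    rw [QuotientGroup.eq, mul_one, mul_one]
    exact H.inv_mem (mem_self h0)
  · intro q hq
    induction q using QuotientGroup.induction_on with
    | H g =>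
      have h1 : ((z * g : G) : G ⧸ H) = g := hq
      rw [eq_comm, QuotientGroup.eq, ← mul_assoc, h0] at h1
      rw [QuotientGroup.eq, mul_one]
      exact H.inv_mem h1

section fwd

variable (hyp : ∀ t : G, IsConj z t → t ≠ z → t * z = z * t → ∀ g : G, g⁻¹ * (z * t) * g ∈ H ↔ g ∈ H)

include hz h0 hyp in
theorem odd_order {g : G} (hg : g ∉ H) : Odd (orderOf (z * (g * z * g⁻¹))) := by
  have hzz : z * z = 1 := by rw [← pow_two, ← hz, pow_orderOf_eq_one]
  have hzi : z⁻¹ = z := inv_eq_of_mul_eq_one_left hzz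
  set i := g * z * g⁻¹ with hi
  have hii : i * i = 1 := by
    rw [hi]
    calc g * z * g⁻¹ * (g * z * g⁻¹) = g * (z * z) * g⁻¹ := by group
      _ = 1 := by rw [hzz]; group
  have hiii : i⁻¹ = i := inv_eq_of_mul_eq_one_left hii
  by_contra hne
  rw [Nat.not_odd_iff_even] at hne
  obtain ⟨m, hm⟩ := hne
  have hpos : 0 < orderOf (z * i) := orderOf_pos _
  set v := (z * i) ^ m with hv
  have hvv : v * v = 1 := by rw [hv, ← pow_add, ← hm, pow_orderOf_eq_one]
  have hv1 : v ≠ 1 := by
    intro h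
    have := orderOf_dvd_of_pow_eq_one h
    have := Nat.le_of_dvd (by omega) this
    omega
  have hvi : v⁻¹ = v := inv_eq_of_mul_eq_one_left hvv
  have hinv : ∀ x : G, x * (z * i) * x⁻¹ = (z * i)⁻¹ → x * v = v * x := by
    intro x hx
    have h2 := conj_pow (i := m) (a := x) (b := z * i)
    rw [hx, inv_pow, ← hv, hvi] at h2
    exact eq_mul_of_mul_inv_eq h2.symm
  have hzinv : (z * i)⁻¹ = i * z := by rw [mul_inv_rev, hzi, hiii]
  have hzv : z * v = v * z := hinv z (by
    rw [hzinv, hzi]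
    calc z * (z * i) * z = (z * z) * i * z := by group
        _ = i * z := by rw [hzz, one_mul])
  have hiv : i * v = v * i := hinv i (by
    rw [hzinv, hiii]
    calc i * (z * i) * i = i * z * (i * i) := by group
        _ = i * z := by rw [hii, mul_one])
  have hconj : IsConj z (z * v) := conj_refl hzz hii (isConj_iff.2 ⟨g, rfl⟩) m
  have h1 := hyp (z * v) hconj (fun h => hv1 (by
      have : z * v = z * 1 := by rw [h, mul_one]
      exact mul_left_cancel this)) (by rw [mul_assoc, ← hzv]) g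
  rw [← mul_assoc z z v, hzz, one_mul] at h1
  apply hg
  rw [← h1]
  apply cent_le h0
  rw [mem_centralizer_singleton_iff]
  have h2 : g⁻¹ * i * g = z := by rw [hi]; group
  calc g⁻¹ * v * g * z = g⁻¹ * v * g * (g⁻¹ * i * g) := by rw [h2]
    _ = g⁻¹ * (v * i) * g := by group
    _ = g⁻¹ * (i * v) * g := by rw [hiv]
    _ = (g⁻¹ * i * g) * (g⁻¹ * v * g) := by group
    _ = z * (g⁻¹ * v * g) := by rw [h2]

include hz hH h0 hyp in
theorem odd_relIndex : Odd ((centralizer ({z} : Set G)).relIndex H) := by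
  classical
  have hzz : z * z = 1 := by rw [← pow_two, ← hz, pow_orderOf_eq_one]
  have hzi : z⁻¹ = z := inv_eq_of_mul_eq_one_left hzz
  obtain ⟨g, hg⟩ : ∃ g, g ∉ H := by
    by_contra h
    push Not at h
    exact hH (eq_top_iff.2 (fun x _ => h x))
  let X := {s : G // IsConj z s ∧ g⁻¹ * s ∈ H}
  have hsq : ∀ s : G, IsConj z s → s * s = 1 := by
    intro s hs
    obtain ⟨k, rfl⟩ := isConj_iff.1 hs
    calc k * z * k⁻¹ * (k * z * k⁻¹) = k * (z * z) * k⁻¹ := by group
      _ = 1 := by rw [hzz]; group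
  have hsH : ∀ s : G, g⁻¹ * s ∈ H → s ∉ H := by
    intro s hs h
    apply hg
    have := H.mul_mem h (H.inv_mem hs)
    rwa [mul_inv_rev, inv_inv, mul_inv_cancel_left] at this
  set C := centralizer ({z} : Set G) with hC
  have hCH : C ≤ H := cent_le h0
  let φ : X → H ⧸ C.subgroupOf H := fun s => ((⟨g⁻¹ * s.1, s.2.2⟩ : H) : H ⧸ C.subgroupOf H)
  have hbij : Function.Bijective φ := by
    constructor
    · rintro ⟨s, hs, hsg⟩ ⟨s', hs', hsg'⟩ h
      have h1 : (⟨g⁻¹ * s, hsg⟩ : H)⁻¹ * ⟨g⁻¹ * s', hsg'⟩ ∈ C.subgroupOf H := QuotientGroup.eq.1 h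
      rw [mem_subgroupOf, hC, mem_centralizer_singleton_iff] at h1
      have h2 : s⁻¹ * s' * z = z * (s⁻¹ * s') := by
        have e : (((⟨g⁻¹ * s, hsg⟩ : H)⁻¹ * ⟨g⁻¹ * s', hsg'⟩ : H) : G) = s⁻¹ * s' := by
          show (g⁻¹ * s)⁻¹ * (g⁻¹ * s') = _
          group
        rwa [e] at h1
      apply Subtype.ext
      show s = s'
      have hodd : ∀ x : G, IsConj z x → g⁻¹ * x ∈ H → Odd (orderOf (z * x)) := by
        intro x hx hxg
        obtain ⟨k, rfl⟩ := isConj_iff.1 hx
        apply odd_order hz h0 hyp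
        intro hk
        exact hsH _ hxg (H.mul_mem (H.mul_mem hk (mem_self h0)) (H.inv_mem hk))
      have h3 : z * s = z * s' := by
        apply eq_of_sq_eq (hodd s hs hsg) (hodd s' hs' hsg')
        have e1 : s⁻¹ = s := inv_eq_of_mul_eq_one_left (hsq s hs)
        have e2 : s'⁻¹ = s' := inv_eq_of_mul_eq_one_left (hsq s' hs')
        have h4 : s * z * s = s' * z * s' := by
          rw [e1] at h2
          have h5 : s * (s * s' * z) * s' = s * (z * (s * s')) * s' := by rw [h2]
          calc s * z * s = s * (z * (s * (s' * s'))) := by rw [hsq s' hs', mul_one, mul_assoc]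
            _ = s * (z * (s * s')) * s' := by group
            _ = s * (s * s' * z) * s' := h5.symm
            _ = (s * s) * s' * z * s' := by group
            _ = s' * z * s' := by rw [hsq s hs, one_mul]
        calc z * s * (z * s) = z * (s * z * s) := by group
          _ = z * (s' * z * s') := by rw [h4]
          _ = z * s' * (z * s') := by group
      exact mul_left_cancel h3
    · intro q
      obtain ⟨h, rfl⟩ := QuotientGroup.mk_surjective q
      have hgh : g * h ∉ H := fun hh => hg ((H.mul_mem_cancel_right h.2).1 hh)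
      have hodd := odd_order hz h0 hyp hgh
      set i := g * h * z * (g * h)⁻¹ with hi
      obtain ⟨r, hr⟩ := hodd
      set s := z * (z * i) ^ (r + 1) with hs
      have hci : IsConj z i := isConj_iff.2 ⟨_, rfl⟩
      have hcs : IsConj z s := conj_refl hzz (hsq _ hci) hci _
      have h1 : s * z * s = i := by
        have h2 : z * s = (z * i) ^ (r + 1) := by rw [hs, ← mul_assoc, hzz, one_mul]
        have h3 : (z * s) * (z * s) = z * i := by
          rw [h2, ← pow_add]
          have : r + 1 + (r + 1) = orderOf (z * i) + 1 := by rw [hr]; ring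
          rw [this, pow_succ, pow_orderOf_eq_one, one_mul]
        have h4 : z * (s * z * s) = z * i := by rw [← h3]; group
        exact mul_left_cancel h4
      have h2 : ((h : G)⁻¹ * (g⁻¹ * s)) ∈ C := by
        rw [hC, mem_centralizer_singleton_iff]
        have e1 : s⁻¹ = s := inv_eq_of_mul_eq_one_left (hsq s hcs)
        have h3 : s * z = i * s := by
          rw [← h1, mul_assoc (s * z) s s, hsq s hcs, mul_one]
        calc (h : G)⁻¹ * (g⁻¹ * s) * z = (h : G)⁻¹ * g⁻¹ * (s * z) := by group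
          _ = (h : G)⁻¹ * g⁻¹ * (i * s) := by rw [h3]
          _ = z * ((h : G)⁻¹ * (g⁻¹ * s)) := by rw [hi]; group
      have h3 : g⁻¹ * s ∈ H := by
        have := H.mul_mem h.2 (hCH h2)
        rwa [mul_inv_cancel_left] at this
      refine ⟨⟨s, hcs, h3⟩, ?_⟩
      show ((⟨g⁻¹ * s, h3⟩ : H) : H ⧸ C.subgroupOf H) = _
      rw [eq_comm, QuotientGroup.eq, mem_subgroupOf]
      exact h2
  have hcard : C.relIndex H = Nat.card X := by
    rw [Subgroup.relIndex, Subgroup.index]
    exact (Nat.card_congr (Equiv.ofBijective φ hbij)).symm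
  rw [hcard]
  obtain ⟨⟨j, hj, hjg⟩, -⟩ := hbij.2 ((1 : H) : H ⧸ C.subgroupOf H)
  have hjj := hsq j hj
  have hji : j⁻¹ = j := inv_eq_of_mul_eq_one_left hjj
  have hjmem : ∀ k : G, g⁻¹ * k ∈ H → j * k ∈ H := by
    intro k hk
    have := H.mul_mem (H.inv_mem hjg) hk
    rw [mul_inv_rev, inv_inv, hji] at this
    simpa [mul_assoc] using this
  refine odd_card (fun k : X => (⟨j * k.1 * j, ?_, ?_⟩ : X)) ?_ ⟨j, hj, hjg⟩ ?_ ?_
  · refine k.2.1.trans (isConj_iff.2 ⟨j, by rw [hji]⟩)
  · -- j k j g-membership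
    have h1 : j * k.1 ∈ H := hjmem k.1 k.2.2
    have h2 : k.1 * j ∈ H := by
      have := H.inv_mem h1
      rwa [mul_inv_rev, hji, inv_eq_of_mul_eq_one_left (hsq k.1 k.2.1)] at this
    have : g⁻¹ * (j * k.1 * j) = g⁻¹ * j * (k.1 * j) := by group
    rw [this]
    exact H.mul_mem hjg h2
  · intro k
    apply Subtype.ext
    show j * (j * k.1 * j) * j = k.1
    calc j * (j * k.1 * j) * j = (j * j) * k.1 * (j * j) := by group
      _ = k.1 := by rw [hjj]; group
  · apply Subtype.ext
    show j * j * j = j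
    rw [hjj, one_mul]
  · rintro ⟨k, hk, hkg⟩ hfix
    have h1 : j * k * j = k := congrArg Subtype.val hfix
    apply Subtype.ext
    show k = j
    by_contra hne
    obtain ⟨b, hb⟩ := isConj_iff.1 hj
    have hcomm : k * j = j * k := by
      calc k * j = j * k * j * j := by rw [h1]
        _ = j * k * (j * j) := by group
        _ = j * k := by rw [hjj, mul_one]
    have h2 := hyp (b⁻¹ * k * b) (hk.trans (isConj_iff.2 ⟨b⁻¹, by group⟩)) (by
      intro h
      apply hne
      rw [← hb, ← h]; group) (by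
      have e : z = b⁻¹ * j * b := by rw [← hb]; group
      rw [e]
      calc b⁻¹ * k * b * (b⁻¹ * j * b) = b⁻¹ * (k * j) * b := by group
        _ = b⁻¹ * (j * k) * b := by rw [hcomm]
        _ = b⁻¹ * j * b * (b⁻¹ * k * b) := by group) b⁻¹
    have e : b⁻¹⁻¹ * (z * (b⁻¹ * k * b)) * b⁻¹ = j * k := by
      rw [← hb]; group
    rw [e] at h2
    have h3 := h2.1 (hjmem k hkg)
    apply hsH j hjg
    rw [← hb]
    exact H.mul_mem (H.mul_mem (H.inv_mem_iff.1 h3) (mem_self h0)) h3

end fwd

end Cfsg.Agent.H13.ZH
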