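import Mathlib
import Cfsg.Agent.H17_CV
import Cfsg.Agent.H4_ZStar
import Cfsg.Agent.S0205

set_option autoImplicit false

namespace Cfsg.Agent.H2.CVL4

open Cfsg.Agent.H17.CV

universe u

/-- in a simple group with an involution `z`: non-central conjugate commuting -/
theorem exists_conj {Q : Type u} [Group Q] [Finite Q] (hs : IsSimpleGroup Q)
    (hna : ¬ Group.IsSolvable Q) {z : Q} (hz : orderOf z = 2) :
    ∃ g : Q, Commute z (g * z * g⁻¹) ∧ g * z * g⁻¹ ≠ z := by
  by_contra hcon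
  push Not at hcon
  have hiso : Cfsg.IsIsolatedInvolution z := ⟨hz, fun g hg => hcon g hg⟩
  have h1 := Cfsg.Agent.H4.ZStar.zstar hiso
  have hOn : (Cfsg.oddCore Q).Normal := by show (Cfsg.pPrimeCore 2 Q).Normal; infer_instance
  have hO : Cfsg.oddCore Q = ⊥ := by
    rcases hOn.eq_bot_or_eq_top with h | h
    · exact h
    · exfalso
      apply hna
      apply Cfsg.Agent.S0205.result
      have h2 : (Nat.card ↥(Cfsg.pPrimeCore 2 Q)).Coprime 2 :=
        Cfsg.Agent.H11.Cores.pPrimeCore_coprime (G := Q) 2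
      have h3 : Cfsg.pPrimeCore 2 Q = ⊤ := h
      rw [h3, Subgroup.card_top] at h2
      exact (Nat.coprime_two_right).1 h2
  have hzc : z ∈ Subgroup.center Q := by
    rw [Subgroup.mem_center_iff]
    intro g
    have h2 := h1 g
    rw [hO, Subgroup.mem_bot] at h2
    calc g * z = (z * g * z⁻¹ * g⁻¹)⁻¹ * (z * g) := by group
      _ = z * g := by rw [h2]; group
  have hct : Subgroup.center Q = ⊤ := by
    rcases (inferInstance : (Subgroup.center Q).Normal).eq_bot_or_eq_top with h | h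
    · exfalso
      rw [h, Subgroup.mem_bot] at hzc
      rw [hzc, orderOf_one] at hz
      exact absurd hz (by norm_num)
    · exact h
  apply hna
  have hcomm : ∀ a b : Q, a * b = b * a := by
    intro a b
    have h2 : b ∈ Subgroup.center Q := by rw [hct]; exact Subgroup.mem_top _
    exact (Subgroup.mem_center_iff.1 h2 a)
  exact Group.isSolvable_of_comm hcomm

theorem mul_two {G : Type u} [Group G] {a b : G} {n : ℕ} (ha : a ^ 2 ^ n = 1) (hb : b ^ 2 ^ n = 1)
    (ha2 : a ^ 2 ∈ Subgroup.center G) (hb2 : b ^ 2 ∈ Subgroup.center G)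
    (hc : a * b * a⁻¹ * b⁻¹ ∈ Subgroup.center G) : (a * b) ^ 2 ^ (n + 1) = 1 ∧ (a * b) ^ 2 ∈ Subgroup.center G := by
  set c := a * b * a⁻¹ * b⁻¹ with hcd
  have hcc : ∀ g, g * c = c * g := fun g => Subgroup.mem_center_iff.1 hc g
  have haa : ∀ g, g * a ^ 2 = a ^ 2 * g := fun g => Subgroup.mem_center_iff.1 ha2 g
  have hbb : ∀ g, g * b ^ 2 = b ^ 2 * g := fun g => Subgroup.mem_center_iff.1 hb2 g
  have hab : a * b = c * (b * a) := by rw [hcd]; group
  have hc2 : c ^ 2 = 1 := by
    have h1 : a ^ 2 * b = c ^ 2 * (b * a ^ 2) := by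
      calc a ^ 2 * b = a * (a * b) := by rw [sq]; group
        _ = a * (c * (b * a)) := by rw [hab]
        _ = (a * c) * b * a := by group
        _ = (c * a) * b * a := by rw [hcc a]
        _ = c * (a * b) * a := by group
        _ = c * (c * (b * a)) * a := by rw [hab]
        _ = c ^ 2 * (b * a ^ 2) := by rw [sq, sq]; group
    rw [← haa b] at h1
    have h2 : c ^ 2 * (b * a ^ 2) = 1 * (b * a ^ 2) := by rw [← h1, one_mul]
    exact mul_right_cancel h2
  have hsq : (a * b) ^ 2 = c * (a ^ 2 * b ^ 2) := by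
    have hba : b * a = c * (a * b) := by
      rw [hab, ← mul_assoc, ← sq, hc2, one_mul]
    calc (a * b) ^ 2 = a * (b * a) * b := by rw [sq]; group
      _ = a * (c * (a * b)) * b := by rw [hba]
      _ = (a * c) * a * b * b := by group
      _ = (c * a) * a * b * b := by rw [hcc a]
      _ = c * (a ^ 2 * b ^ 2) := by rw [sq, sq]; group
  have hcen : (a * b) ^ 2 ∈ Subgroup.center G := by
    rw [hsq]
    exact Subgroup.mul_mem _ hc (Subgroup.mul_mem _ ha2 hb2)
  refine ⟨?_, hcen⟩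
  rw [pow_succ' 2 n, pow_mul, hsq]
  have e1 : Commute c (a ^ 2 * b ^ 2) := (hcc _).symm
  have e2 : Commute (a ^ 2) (b ^ 2) := (haa _).symm
  rw [e1.mul_pow, e2.mul_pow, ← pow_mul, ← pow_mul, mul_comm 2 (2 ^ n), pow_mul, pow_mul, ha, hb,
    one_pow, one_mul, mul_one]
  rcases Nat.eq_zero_or_pos n with h | h
  · subst h
    rw [pow_zero, pow_one] at ha hb ⊢
    rw [hcd, ha, hb]; group
  · obtain ⟨m, rfl⟩ := Nat.exists_eq_succ_of_ne_zero h.ne'
    rw [Nat.succ_eq_add_one, pow_succ' 2 m, pow_mul, hc2, one_pow]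

theorem L4 {G : Type u} [Group G] [Finite G] (hz : IsSimpleGroup (G ⧸ Subgroup.center G))
    (hns : ¬ Group.IsSolvable G) (k : ℕ) :
    ∃ x ∈ V G k, (∃ n, orderOf x = 2 ^ n) ∧ x ∉ Subgroup.center G ∧ x ^ 2 ∈ Subgroup.center G := by
  have hQ : ¬ Group.IsSolvable (G ⧸ Subgroup.center G) := by
    intro h
    apply hns
    have h1 : Group.IsSolvable ↥(Subgroup.center G) :=
      Group.isSolvable_of_comm (fun a b => Subtype.ext ((Subgroup.mem_center_iff.1 b.2) a))
    exact Group.isSolvable_of_ker_le_range (Subgroup.center G).subtype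
      (QuotientGroup.mk' (Subgroup.center G)) (by simp)
  have hord : ∀ x : G, x ∉ Subgroup.center G → x ^ 2 ∈ Subgroup.center G →
      orderOf (QuotientGroup.mk' (Subgroup.center G) x) = 2 := by
    intro x hx hx2
    apply orderOf_eq_prime
    · rw [← map_pow]
      exact (QuotientGroup.eq_one_iff _).2 hx2
    · intro h
      exact hx ((QuotientGroup.eq_one_iff _).1 h)
  induction k with
  | zero =>
    have heven : ¬ Odd (Nat.card (G ⧸ Subgroup.center G)) := fun h =>
      hQ (Cfsg.Agent.S0205.result h)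
    have h2 : 2 ∣ Nat.card (G ⧸ Subgroup.center G) := even_iff_two_dvd.1 (Nat.not_odd_iff_even.1 heven)
    haveI : Fact (Nat.Prime 2) := ⟨Nat.prime_two⟩
    obtain ⟨t, ht⟩ := exists_prime_orderOf_dvd_card' 2 h2
    obtain ⟨y, rfl⟩ := QuotientGroup.mk'_surjective _ t
    obtain ⟨n, m, hm, hnm⟩ := Nat.exists_eq_two_pow_mul_odd (orderOf_pos y).ne'
    refine ⟨y ^ m, Set.mem_univ _, ⟨n, ?_⟩, ?_, ?_⟩
    · have hm0 : m ≠ 0 := by rintro rfl; exact absurd hm (by decide)
      rw [orderOf_pow_of_dvd hm0 (by rw [hnm]; exact dvd_mul_left _ _), hnm]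
      exact Nat.mul_div_cancel _ (Nat.pos_of_ne_zero hm0)
    · intro h
      have h3 : (QuotientGroup.mk' (Subgroup.center G) y) ^ m = 1 := by
        rw [← map_pow]; exact (QuotientGroup.eq_one_iff _).2 h
      have h4 := orderOf_dvd_of_pow_eq_one h3
      rw [ht] at h4
      exact (Nat.not_even_iff_odd.2 hm) (even_iff_two_dvd.2 h4)
    · have h3 : (QuotientGroup.mk' (Subgroup.center G) y) ^ 2 = 1 := by
        rw [← ht]; exact pow_orderOf_eq_one _
      rw [← map_pow] at h3
      have h4 : y ^ 2 ∈ Subgroup.center G := (QuotientGroup.eq_one_iff _).1 h3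
      rw [← pow_mul, mul_comm, pow_mul]
      exact Subgroup.pow_mem _ h4 _
  | succ k ih =>
    obtain ⟨x, hxV, ⟨n, hn⟩, hx, hx2⟩ := ih
    obtain ⟨q, hq1, hq2⟩ := exists_conj hz hQ (hord x hx hx2)
    obtain ⟨g, rfl⟩ := QuotientGroup.mk'_surjective _ q
    have hxi : (QuotientGroup.mk' (Subgroup.center G) x)⁻¹ = QuotientGroup.mk' (Subgroup.center G) x := by
      apply inv_eq_of_mul_eq_one_right
      rw [← sq, ← map_pow]
      exact (QuotientGroup.eq_one_iff _).2 hx2
    set b := g * x⁻¹ * g⁻¹ with hb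
    have hπb : QuotientGroup.mk' (Subgroup.center G) b = QuotientGroup.mk' (Subgroup.center G) g *
        QuotientGroup.mk' (Subgroup.center G) x * (QuotientGroup.mk' (Subgroup.center G) g)⁻¹ := by
      rw [hb, map_mul, map_mul, map_inv, map_inv, hxi]
    have hbn : b ^ 2 ^ n = 1 := by
      rw [hb, conj_pow, inv_pow, ← hn, pow_orderOf_eq_one]; group
    have hb2 : b ^ 2 ∈ Subgroup.center G := by
      rw [hb, conj_pow, inv_pow]
      exact (inferInstance : (Subgroup.center G).Normal).conj_mem _ (Subgroup.inv_mem _ hx2) _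
    have hcc : x * b * x⁻¹ * b⁻¹ ∈ Subgroup.center G := by
      rw [← QuotientGroup.eq_one_iff]
      show QuotientGroup.mk' (Subgroup.center G) (x * b * x⁻¹ * b⁻¹) = 1
      rw [map_mul, map_mul, map_mul, map_inv, map_inv, hπb, hq1.eq]
      group
    obtain ⟨h1, h2⟩ := mul_two (by rw [← hn]; exact pow_orderOf_eq_one x) hbn hx2 hb2 hcc
    have hxy : x * g * x⁻¹ * g⁻¹ = x * b := by rw [hb]; group
    refine ⟨x * g * x⁻¹ * g⁻¹, ⟨x, hxV, g, rfl⟩, ?_, ?_, ?_⟩
    · rw [hxy]
      obtain ⟨m, -, hm⟩ := (Nat.dvd_prime_pow Nat.prime_two).1 (orderOf_dvd_of_pow_eq_one h1)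
      exact ⟨m, hm⟩
    · rw [hxy]
      intro h
      have h3 : QuotientGroup.mk' (Subgroup.center G) (x * b) = 1 := (QuotientGroup.eq_one_iff _).2 h
      rw [map_mul, hπb] at h3
      exact hq2 ((eq_inv_of_mul_eq_one_right h3).trans hxi)
    · rw [hxy]; exact h2

end Cfsg.Agent.H2.CVL4
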