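import Mathlib
import Cfsg.Agent.H14_CVNS
import Cfsg.Agent.H2_CVL4

set_option autoImplicit false

/-!
S3900, piece NS, final form.
-/

namespace Cfsg.Agent.H14.CVNSf

open Cfsg.Agent.H17.CV

universe u

theorem NS {G : Type u} [Group G] [Finite G] (k : ℕ) (hA : HA G k) : Group.IsSolvable G :=
  Cfsg.Agent.H14.CVNS.NS_aux k (fun _ _ _ hz hns => Cfsg.Agent.H2.CVL4.L4 hz hns k) (Nat.card G) G le_rfl hA

end Cfsg.Agent.H14.CVNSf
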