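import Mathlib
import Cfsg.Agent.H14_ChevO
import Cfsg.Agent.H14_ChevM

set_option autoImplicit false
set_option linter.unusedSectionVars false

/-!
Chevalley groups: the data of the graph automorphisms.
-/

namespace Cfsg.Agent.H14.Chev

open Cfsg Cfsg.Lie Cfsg.Lie.ChevalleyDatum Cfsg.Agent.H6 Cfsg.Agent.H6.Chev Cfsg.Agent.H6.Chev.Model
open scoped Matrix

universe u

/-- the combinatorial part of the data -/
structure CD {D : ChevalleyDatum} (m : Model D) (P : ℤ) (π : Equiv.Perm (Fin D.rank)) (ρ : ℕ → ℕ) (ε : ℕ → ℤ) (q : ℕ → ℕ) : Prop where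
  q_ne : ∀ r, q r ≠ 0
  ρ_lt : ∀ r < D.nroots, ρ r < D.nroots
  ρ_inj : ∀ r < D.nroots, ∀ s < D.nroots, ρ r = ρ s → r = s
  ρ_p : ∀ i : Fin D.rank, ρ (m.p i) = m.p (π i)
  ρ_neg : ∀ r < D.nroots, ρ (D.neg r) = D.neg (ρ r)
  ρ_pos : ∀ r < D.nroots, m.N ≤ r → m.N ≤ ρ r
  ε_p : ∀ i : Fin D.rank, ε (m.p i) = 1
  ε_np : ∀ i : Fin D.rank, ε (m.ng (m.p i)) = 1
  q_neg : ∀ r < D.nroots, q (D.neg r) = q r
  ρ_refl : ∀ i : Fin D.rank, ∀ r < D.nroots, ρ (D.reflectRoot i r) = D.reflectRoot (π i) (ρ r)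
  q_refl : ∀ i : Fin D.rank, ∀ r < D.nroots, q (D.reflectRoot i r) = q r
  ε_refl : ∀ i : Fin D.rank, ∀ r < D.nroots, P ∣ ε (D.reflectRoot i r) * m.eta i r - m.eta (π i) (ρ r) * ε r
  cart : ∀ i : Fin D.rank, ∀ r < D.nroots, D.cartan i r * q r = q (m.p i) * D.cartan (π i) (ρ r)
  comm : ∀ s < D.nroots, ∀ k < s, m.N ≤ k → (termsR D P ρ ε q k s).Perm (termsL D P ρ ε q k s) ∧
    ∀ c ∈ termsR D P ρ ε q k s, ∀ c' ∈ termsR D P ρ ε q k s, c.1 = c'.1 ∨ ∀ d ∈ D.commTerms c.1 c'.1, d.2.1 % P = 0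

/-- Boolean form of the commutator condition -/
def ckc (D : ChevalleyDatum) (P : ℤ) (ρ : ℕ → ℕ) (ε : ℕ → ℤ) (q : ℕ → ℕ) (N : ℕ) : Bool :=
  (List.range D.nroots).all fun s => (List.range s).all fun k => !(Nat.ble N k) ||
    (List.isPerm (termsR D P ρ ε q k s) (termsL D P ρ ε q k s) &&
      (termsR D P ρ ε q k s).all fun c => (termsR D P ρ ε q k s).all fun c' => Nat.beq c.1 c'.1 ||
        (D.commTerms c.1 c'.1).all fun d => decide (d.2.1 % P = 0))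

theorem ckc_sound {D : ChevalleyDatum} {P : ℤ} {ρ : ℕ → ℕ} {ε : ℕ → ℤ} {q : ℕ → ℕ} {N : ℕ} (h : ckc D P ρ ε q N = true) :
    ∀ s < D.nroots, ∀ k < s, N ≤ k → (termsR D P ρ ε q k s).Perm (termsL D P ρ ε q k s) ∧
    ∀ c ∈ termsR D P ρ ε q k s, ∀ c' ∈ termsR D P ρ ε q k s, c.1 = c'.1 ∨ ∀ d ∈ D.commTerms c.1 c'.1, d.2.1 % P = 0 := by
  intro s hs k hk hN
  unfold ckc at h
  rw [List.all_eq_true] at h
  have h1 := h s (List.mem_range.2 hs)
  rw [List.all_eq_true] at h1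
  have h2 := h1 k (List.mem_range.2 hk)
  have h3 : Nat.ble N k = true := by rw [Nat.ble_eq]; exact hN
  rw [h3, Bool.not_true, Bool.false_or, Bool.and_eq_true] at h2
  refine ⟨List.isPerm_iff.1 h2.1, fun c hc c' hc' => ?_⟩
  have h4 := h2.2
  rw [List.all_eq_true] at h4
  have h5 := h4 c hc
  rw [List.all_eq_true] at h5
  have h6 := h5 c' hc'
  rw [Bool.or_eq_true] at h6
  rcases h6 with h6 | h6
  · exact Or.inl (Nat.eq_of_beq_eq_true h6)
  · right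
    rw [List.all_eq_true] at h6
    intro d hd
    exact of_decide_eq_true (h6 d hd)

/-- the full data -/
def CD.toGD {D : ChevalleyDatum} {m : Model D} {P : ℤ} {π : Equiv.Perm (Fin D.rank)} {ρ : ℕ → ℕ} {ε : ℕ → ℤ} {q : ℕ → ℕ}
    (h : CD m P π ρ ε q) {F : Type u} [Field F] (hP : (P : F) = 0) (fr : ℕ → (F →+* F)) (hfr : ∀ r t, fr r t = t ^ q r) : GD m F where
  P := P
  hP := hP
  π := π
  ρ := ρ
  ε := ε
  q := q
  fr := fr
  hfr := hfr
  q_ne := h.q_ne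
  ρ_lt := h.ρ_lt
  ρ_inj := h.ρ_inj
  ρ_p := h.ρ_p
  ρ_neg := h.ρ_neg
  ρ_pos := fun r h1 h2 => h.ρ_pos r h2 h1
  ε_p := h.ε_p
  ε_np := h.ε_np
  q_neg := h.q_neg
  ρ_refl := h.ρ_refl
  q_refl := h.q_refl
  ε_refl := h.ε_refl
  cart := h.cart
  comm := fun k s h1 h2 h3 => h.comm s h3 k h2 h1


/-- the exchange of two nodes of `D4` -/
def swD4 : Equiv.Perm (Fin chevD4.rank) where
  toFun i := ⟨[0, 1, 3, 2].getD i 0, by revert i; decide⟩
  invFun i := ⟨[0, 1, 3, 2].getD i 0, by revert i; decide⟩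
  left_inv := by decide
  right_inv := by decide

/-- the reversal of `F4` -/
def swF4 : Equiv.Perm (Fin chevF4.rank) where
  toFun i := ⟨[3, 2, 1, 0].getD i 0, by revert i; decide⟩
  invFun i := ⟨[3, 2, 1, 0].getD i 0, by revert i; decide⟩
  left_inv := by decide
  right_inv := by decide

/-- the exchange of the nodes of `G2` -/
def swG2 : Equiv.Perm (Fin chevG2.rank) where
  toFun i := ⟨[1, 0].getD i 0, by revert i; decide⟩
  invFun i := ⟨[1, 0].getD i 0, by revert i; decide⟩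
  left_inv := by decide
  right_inv := by decide

def rhoD4 (r : ℕ) : ℕ := [0, 1, 3, 2, 4, 5, 6, 8, 7, 9, 11, 10, 13, 12, 14, 16, 15, 17, 18, 19, 21, 20, 22, 23].getD r 0
def epsD4 (_ : ℕ) : ℤ := 1
def qD4 (_ : ℕ) : ℕ := 1

theorem cdD4 : CD modelD4 0 swD4 rhoD4 epsD4 qD4 where
  q_ne := by intro r; exact one_ne_zero
  ρ_lt := by decide +kernel
  ρ_inj := by decide +kernel
  ρ_p := by decide +kernel
  ρ_neg := by decide +kernel
  ρ_pos := by decide +kernel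
  ε_p := by decide +kernel
  ε_np := by decide +kernel
  q_neg := by decide +kernel
  ρ_refl := by decide +kernel
  q_refl := by decide +kernel
  ε_refl := by decide +kernel
  cart := by decide +kernel
  comm := ckc_sound (by decide +kernel)

def rhoG2 (r : ℕ) : ℕ := [2, 3, 0, 1, 5, 4, 7, 6, 10, 11, 8, 9].getD r 0
def epsG2 (_ : ℕ) : ℤ := 1
def qG2 (r : ℕ) : ℕ := 3 ^ [0, 0, 1, 1, 1, 0, 0, 1, 1, 1, 0, 0].getD r 0

theorem cdG2 : CD modelG2 3 swG2 rhoG2 epsG2 qG2 where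
  q_ne := by intro r; exact pow_ne_zero _ (by norm_num)
  ρ_lt := by decide +kernel
  ρ_inj := by decide +kernel
  ρ_p := by decide +kernel
  ρ_neg := by decide +kernel
  ρ_pos := by decide +kernel
  ε_p := by decide +kernel
  ε_np := by decide +kernel
  q_neg := by decide +kernel
  ρ_refl := by decide +kernel
  q_refl := by decide +kernel
  ε_refl := by decide +kernel
  cart := by decide +kernel
  comm := ckc_sound (by decide +kernel)

def rhoF4 (r : ℕ) : ℕ := [3, 7, 8, 0, 9, 11, 18, 1, 2, 4, 15, 5, 16, 21, 23, 10, 12, 19, 6, 17, 22, 13, 20, 14, 33, 27, 34, 25, 30, 41, 28, 35, 37, 24, 26, 31, 42, 32, 43, 45, 46, 29, 36, 38, 47, 39, 40, 44].getD r 0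
def epsF4 (_ : ℕ) : ℤ := 1
def qF4 (r : ℕ) : ℕ := 2 ^ [0, 0, 0, 1, 0, 0, 0, 1, 1, 1, 1, 1, 1, 1, 1, 0, 0, 0, 1, 1, 1, 0, 0, 0, 0, 0, 0, 1, 1, 1, 0, 0, 0, 1, 1, 1, 1, 1, 1, 1, 1, 0, 0, 0, 1, 0, 0, 0].getD r 0

theorem cdF4 : CD modelF4 2 swF4 rhoF4 epsF4 qF4 where
  q_ne := by intro r; exact pow_ne_zero _ (by norm_num)
  ρ_lt := by decide +kernel
  ρ_inj := by decide +kernel
  ρ_p := by decide +kernel
  ρ_neg := by decide +kernel
  ρ_pos := by decide +kernel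
  ε_p := by decide +kernel
  ε_np := by decide +kernel
  q_neg := by decide +kernel
  ρ_refl := by decide +kernel
  q_refl := by decide +kernel
  ε_refl := by decide +kernel
  cart := by decide +kernel
  comm := ckc_sound (by decide +kernel)

def rhoE6 (r : ℕ) : ℕ := [0, 1, 2, 5, 16, 3, 6, 17, 8, 19, 22, 11, 26, 30, 33, 35, 4, 7, 18, 9, 20, 23, 10, 21, 24, 25, 12, 27, 31, 34, 13, 28, 32, 14, 29, 15, 56, 42, 57, 39, 43, 58, 37, 40, 44, 59, 46, 47, 50, 61, 48, 51, 62, 53, 64, 67, 36, 38, 41, 45, 60, 49, 52, 63, 54, 65, 68, 55, 66, 69, 70, 71].getD r 0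
def epsE6 (r : ℕ) : ℤ := [1, 1, 1, 1, -1, 1, 1, -1, 1, -1, -1, 1, -1, 1, -1, 1, -1, -1, 1, -1, 1, 1, -1, 1, 1, 1, -1, 1, -1, 1, 1, -1, 1, -1, 1, 1, 1, 1, -1, 1, -1, 1, 1, -1, 1, -1, 1, 1, 1, -1, 1, 1, -1, 1, -1, -1, 1, -1, 1, -1, 1, -1, -1, 1, -1, 1, 1, -1, 1, 1, 1, 1].getD r 0
def qE6 (_ : ℕ) : ℕ := 1

theorem cdE6 : CD modelE6 0 flipE6 rhoE6 epsE6 qE6 where
  q_ne := by intro r; exact one_ne_zero
  ρ_lt := by decide +kernel
  ρ_inj := by decide +kernel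
  ρ_p := by decide +kernel
  ρ_neg := by decide +kernel
  ρ_pos := by decide +kernel
  ε_p := by decide +kernel
  ε_np := by decide +kernel
  q_neg := by decide +kernel
  ρ_refl := by decide +kernel
  q_refl := by decide +kernel
  ε_refl := by decide +kernel
  cart := by decide +kernel
  comm := ckc_sound (by decide +kernel)

end Cfsg.Agent.H14.Chev
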