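import Mathlib
import Cfsg.Agent.H14_ChevS

set_option autoImplicit false
set_option linter.unusedSectionVars false

/-!
Chevalley groups: the structure of the outer automorphism group.
-/

namespace Cfsg.Agent.H14.Chev

open Cfsg Cfsg.Lie Cfsg.Lie.ChevalleyDatum Cfsg.Agent.H6 Cfsg.Agent.H6.Chev Cfsg.Agent.H6.Chev.Model
open scoped Matrix commutatorElement

universe u

/-! ### The other generator of the symmetry group of `D4` -/

/-- the exchange of two nodes of `D4` -/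
def tw4 : Equiv.Perm (Fin chevD4.rank) where
  toFun i := ⟨[2, 1, 0, 3].getD i 0, by revert i; decide⟩
  invFun i := ⟨[2, 1, 0, 3].getD i 0, by revert i; decide⟩
  left_inv := by decide
  right_inv := by decide

def rhoT4 (r : ℕ) : ℕ := [0, 1, 2, 6, 7, 10, 3, 4, 8, 9, 5, 11, 12, 18, 14, 15, 19, 20, 13, 16, 17, 21, 22, 23].getD r 0
def epsT4 (r : ℕ) : ℤ := [1, 1, 1, -1, -1, 1, -1, -1, 1, 1, 1, 1, 1, 1, 1, 1, -1, -1, 1, -1, -1, 1, 1, 1].getD r 0
def qT4 (_ : ℕ) : ℕ := 1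

theorem cdT4 : CD modelD4 0 tw4 rhoT4 epsT4 qT4 where
  q_ne := by intro r; exact one_ne_zero
  ρ_lt := by decide +kernel
  ρ_inj := by decide +kernel
  ρ_p := by decide +kernel
  ρ_neg := by decide +kernel
  ρ_pos := by decide +kernel
  ε_p := by decide +kernel
  ε_np := by decide +kernel
  q_neg := by decide +kernel
  ρ_refl := by decide +kernel
  q_refl := by decide +kernel
  ε_refl := by decide +kernel
  cart := by decide +kernel
  comm := ckc_sound (by decide +kernel)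

variable {D : ChevalleyDatum} {F : Type u} [Field F] (m : Model D)

theorem sw_mem [Finite F] : swD4 ∈ (rho modelD4 F).range := by
  let d : GD modelD4 F := cdD4.toGD (by simp) (fun _ => RingHom.id F) (fun r t => (pow_one t).symm)
  obtain ⟨α, hα, -⟩ := d.exists_A1
  exact ⟨α, hα⟩

theorem tw_mem [Finite F] : tw4 ∈ (rho modelD4 F).range := by
  let d : GD modelD4 F := cdT4.toGD (by simp) (fun _ => RingHom.id F) (fun r t => (pow_one t).symm)
  obtain ⟨α, hα, -⟩ := d.exists_A1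
  exact ⟨α, hα⟩

theorem six_D4 : ∀ π : Equiv.Perm (Fin chevD4.rank), (π ⟨1, by decide⟩ : ℕ) = 1 →
    π ∈ ({1, swD4, tw4, swD4 * tw4, tw4 * swD4, swD4 * tw4 * swD4} : Finset (Equiv.Perm (Fin chevD4.rank))) := by
  decide +kernel

theorem card_six : ({1, swD4, tw4, swD4 * tw4, tw4 * swD4, swD4 * tw4 * swD4} : Finset (Equiv.Perm (Fin chevD4.rank))).card = 6 := by
  decide +kernel

theorem range_D4 [Finite F] : Nat.card (rho modelD4 F).range = 6 := by
  classical
  have : ((rho modelD4 F).range : Set (Equiv.Perm (Fin chevD4.rank))) =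
      (({1, swD4, tw4, swD4 * tw4, tw4 * swD4, swD4 * tw4 * swD4} : Finset (Equiv.Perm (Fin chevD4.rank))) : Set _) := by
    ext x
    constructor
    · rintro ⟨θ, rfl⟩
      exact six_D4 _ (symD4 (rho_data modelD4 θ).1)
    · intro hx
      have h1 := sw_mem (F := F)
      have h2 := tw_mem (F := F)
      simp only [Finset.coe_insert, Finset.coe_singleton, Set.mem_insert_iff, Set.mem_singleton_iff] at hx
      rcases hx with rfl | rfl | rfl | rfl | rfl | rfl
      · exact one_mem _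
      · exact h1
      · exact h2
      · exact mul_mem h1 h2
      · exact mul_mem h2 h1
      · exact mul_mem (mul_mem h1 h2) h1
  change Nat.card ((rho modelD4 F).range : Set (Equiv.Perm (Fin chevD4.rank))) = 6
  rw [this, Nat.card_coe_set_eq, Set.ncard_coe_finset, card_six]

theorem not_comm_D4 : swD4 * tw4 ≠ tw4 * swD4 := by decide +kernel

/-! ### Structure -/

include m

theorem diag_eq : {φ : MulAut ↥(D.group F) | D.IsDiagonalAut φ} = ((delta m F).range : Set (MulAut ↥(D.group F))) := by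
  ext φ
  constructor
  · rintro ⟨χ, hχ, h⟩
    refine ⟨fun i => χ (D.simple i), ?_⟩
    have h1 : ∀ r < D.nroots, χ r = m.chi (fun i => χ (D.simple i)) r := rootChar_eq m hχ
    rw [← dAut_eq_delta m (fun i => χ (D.simple i))]
    ext g : 1
    apply Subtype.ext
    apply Units.ext
    rw [h g, charDiag_eq m h1, charDiag_inv_eq m h1, coe_dAut]
    rfl
  · rintro ⟨c, rfl⟩
    exact isDiag_dAut m _

theorem field_eq : {φ : MulAut ↥(D.group F) | D.IsFieldAut φ} = ((fA m F).range : Set (MulAut ↥(D.group F))) := by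
  ext φ
  constructor
  · rintro ⟨σ, h⟩
    refine ⟨σ, ?_⟩
    apply aut_ext m
    · intro i t
      rw [fA_xg]
      exact Subtype.ext (Units.ext (h (xg m (m.p i) t) _ t (m.p i).2 rfl).symm)
    · intro i t
      rw [fA_xg]
      exact Subtype.ext (Units.ext (h (xg m (m.ng (m.p i)) t) _ t (m.ng (m.p i)).2 rfl).symm)
  · rintro ⟨σ, rfl⟩
    refine ⟨σ, fun g r t hr hg => ?_⟩
    have h1 : g = xg m ⟨r, hr⟩ t := Subtype.ext (Units.ext hg)
    rw [h1]
    exact congrArg (fun z : ↥(D.group F) => ((z : GL D.Idx F) : Matrix D.Idx D.Idx F)) (fA_xg m σ ⟨r, hr⟩ t)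

omit m in
instance isCyclic_ringAut [Finite F] : IsCyclic (F ≃+* F) := by
  obtain ⟨p, hp⟩ := CharP.exists F
  have : Fact p.Prime := ⟨CharP.char_is_prime F p⟩
  letI : Algebra (ZMod p) F := ZMod.algebra F p
  have h0 : IsCyclic (F ≃ₐ[ZMod p] F) := inferInstance
  let g : (F ≃ₐ[ZMod p] F) →* (F ≃+* F) := { toFun := fun σ => σ.toRingEquiv, map_one' := rfl, map_mul' := fun _ _ => rfl }
  refine isCyclic_of_surjective g (fun σ => ?_)
  refine ⟨AlgEquiv.ofRingEquiv (f := σ) (fun x => ?_), rfl⟩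
  have : (σ : F →+* F).comp (algebraMap (ZMod p) F) = algebraMap (ZMod p) F := Subsingleton.elim _ _
  exact congrArg (fun f : ZMod p →+* F => f x) this

/-- conjugating diagonal automorphisms -/
theorem conj_delta [Finite F] (θ : A1 D F) (c : Fin D.rank → Fˣ) : ∃ c', θ.1 * delta m F c * θ.1⁻¹ = delta m F c' := by
  obtain ⟨lam, mu, hP⟩ := rho_spec m θ
  obtain ⟨c0, σ, hP', -, -⟩ := exists_normal' m hP
  obtain ⟨ψ, hψ⟩ : ∃ ψ, ψ = delta m F c0 * θ.1 := ⟨_, rfl⟩
  rw [← hψ] at hP'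
  let c' : Fin D.rank → Fˣ := fun j => Units.map (σ ((rho m F θ).symm j) : F →* F) (c ((rho m F θ).symm j))
  have hc' : ∀ i, ((c' (rho m F θ i) : Fˣ) : F) = σ i (c i) := by
    intro i
    simp only [c', Equiv.symm_apply_apply]
    rfl
  have h1 : ψ * delta m F c = delta m F c' * ψ := by
    apply aut_ext m
    · intro i t
      rw [MulAut.mul_apply, MulAut.mul_apply, delta_xg, hP'.pos, hP'.pos, delta_xg, hc', map_mul]
    · intro i t
      rw [MulAut.mul_apply, MulAut.mul_apply, delta_xg_neg, hP'.neg, hP'.neg, delta_xg_neg, map_mul]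
      congr 2
      rw [Units.val_inv_eq_inv_val, Units.val_inv_eq_inv_val, hc', map_inv₀]
  refine ⟨c', ?_⟩
  have h2 : θ.1 = (delta m F c0)⁻¹ * ψ := by rw [hψ, inv_mul_cancel_left]
  have h3 : (delta m F c0)⁻¹ * delta m F c' * delta m F c0 = delta m F c' := by
    rw [← map_inv, ← map_mul, ← map_mul]
    congr 1
    rw [mul_comm, ← mul_assoc, mul_inv_cancel, one_mul]
  calc θ.1 * delta m F c * θ.1⁻¹ = (delta m F c0)⁻¹ * (ψ * delta m F c) * ψ⁻¹ * delta m F c0 := by rw [h2]; group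
    _ = (delta m F c0)⁻¹ * delta m F c' * delta m F c0 := by rw [h1]; group
    _ = _ := h3

omit m in
/-- the map from `A1` to `Out` -/
def toOut (D : ChevalleyDatum) (F : Type u) [Field F] : A1 D F →* Cfsg.Out ↥(D.group F) :=
  (QuotientGroup.mk' (Cfsg.Inn ↥(D.group F))).comp (A1 D F).subtype

theorem exists_inn_mul [Finite F] (θ : MulAut ↥(D.group F)) : ∃ (x : ↥(D.group F)) (ψ : A1 D F), θ = MulAut.conj x * ψ.1 := by
  obtain ⟨x, hx⟩ := exists_conj_U m θ
  obtain ⟨y, hyU, hyV⟩ := exists_conj_V m hx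
  have hA : (MulAut.conj y⁻¹) * ((MulAut.conj x⁻¹) * θ) ∈ A1 D F := ⟨hyU, hyV⟩
  refine ⟨x * y, ⟨_, hA⟩, ?_⟩
  change θ = MulAut.conj (x * y) * ((MulAut.conj y⁻¹) * ((MulAut.conj x⁻¹) * θ))
  rw [map_mul, map_inv, map_inv]; group

theorem toOut_surj [Finite F] : Function.Surjective (toOut D F) := by
  intro q
  obtain ⟨θ, rfl⟩ := QuotientGroup.mk_surjective q
  obtain ⟨x, ψ, rfl⟩ := exists_inn_mul m θ
  refine ⟨ψ, ?_⟩
  change (QuotientGroup.mk ψ.1 : Cfsg.Out ↥(D.group F)) = QuotientGroup.mk (MulAut.conj x * ψ.1)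
  have h1 : (QuotientGroup.mk (MulAut.conj x) : Cfsg.Out ↥(D.group F)) = 1 := (QuotientGroup.eq_one_iff _).2 ⟨x, rfl⟩
  rw [QuotientGroup.mk_mul, h1, one_mul]

theorem ker_toOut : (toOut D F).ker ≤ (rho m F).ker := by
  intro θ hθ
  have h1 : θ.1 ∈ Cfsg.Inn ↥(D.group F) := (QuotientGroup.eq_one_iff _).1 hθ
  have h2 : θ.1 ∈ Cfsg.Inn ↥(D.group F) ⊓ A1 D F := ⟨h1, θ.2⟩
  rw [inn_inf_A1 m] at h2
  obtain ⟨c, -, hc⟩ := h2
  have h3 := rho_delta_fA m c (1 : F ≃+* F)
  have h4 : (⟨_, delta_fA_mem m c (1 : F ≃+* F)⟩ : A1 D F) = θ := by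
    apply Subtype.ext
    change delta m F c * fA m F 1 = θ.1
    rw [map_one, mul_one, ← hc]
  rw [h4] at h3
  exact h3

theorem DF_eq [Finite F] (hD : D ∈ [chevG2, chevB2, chevD4, chevF4, chevE6, chevE7, chevE8]) :
    ((delta m F).range).map (QuotientGroup.mk' (Cfsg.Inn ↥(D.group F))) ⊔
      ((fA m F).range).map (QuotientGroup.mk' (Cfsg.Inn ↥(D.group F))) = ((rho m F).ker).map (toOut D F) := by
  apply le_antisymm
  · apply sup_le
    · rintro _ ⟨_, ⟨c, rfl⟩, rfl⟩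
      refine ⟨⟨_, delta_fA_mem m c (1 : F ≃+* F)⟩, rho_delta_fA m c 1, ?_⟩
      change QuotientGroup.mk (delta m F c * fA m F 1) = _
      rw [map_one, mul_one]
      rfl
    · rintro _ ⟨_, ⟨τ, rfl⟩, rfl⟩
      refine ⟨⟨_, delta_fA_mem m 1 τ⟩, rho_delta_fA m 1 τ, ?_⟩
      change QuotientGroup.mk (delta m F 1 * fA m F τ) = _
      rw [map_one, one_mul]
      rfl
  · rintro _ ⟨θ, hθ, rfl⟩
    obtain ⟨c, τ, he⟩ := ker_rho m hD hθ
    change (QuotientGroup.mk' (Cfsg.Inn ↥(D.group F))) θ.1 ∈ _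
    rw [he, map_mul]
    exact Subgroup.mul_mem_sup ⟨_, ⟨c, rfl⟩, rfl⟩ ⟨_, ⟨τ, rfl⟩, rfl⟩

theorem index_DF [Finite F] : (((rho m F).ker).map (toOut D F)).index = Nat.card (rho m F).range := by
  rw [Subgroup.index_map, sup_eq_left.2 (ker_toOut m), MonoidHom.range_eq_top.2 (toOut_surj m), Subgroup.index_top, mul_one,
    Subgroup.index_ker]

omit m in
theorem card_perm_two (R : Subgroup (Equiv.Perm (Fin 2))) : Nat.card R = 1 ∨ Nat.card R = 2 := by
  have h := Subgroup.card_subgroup_dvd_card R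
  have h2 : Nat.card (Equiv.Perm (Fin 2)) = 2 := by rw [Nat.card_eq_fintype_card]; rfl
  rw [h2] at h
  exact (Nat.dvd_prime Nat.prime_two).1 h

theorem s2159_aux [Finite F] (hD : D ∈ [chevG2, chevB2, chevD4, chevF4, chevE6, chevE7, chevE8])
    (h6 : Nat.card (rho m F).range = 1 ∨ Nat.card (rho m F).range = 2 ∨ (Nat.card (rho m F).range = 6 ∧
      ∃ a ∈ (rho m F).range, ∃ b ∈ (rho m F).range, a * b ≠ b * a))
    (Dbar Fbar : Subgroup (Cfsg.Out ↥(D.group F)))
    (hDbar : Dbar = (Subgroup.closure {φ : MulAut ↥(D.group F) | D.IsDiagonalAut φ}).map (QuotientGroup.mk' (Cfsg.Inn ↥(D.group F))))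
    (hFbar : Fbar = (Subgroup.closure {φ : MulAut ↥(D.group F) | D.IsFieldAut φ}).map (QuotientGroup.mk' (Cfsg.Inn ↥(D.group F)))) :
    Dbar.Normal ∧ IsMulCommutative ↥Dbar ∧ IsCyclic ↥Fbar ∧ (Dbar ⊔ Fbar).Normal ∧
      ((Dbar ⊔ Fbar).index = 1 ∨ (Dbar ⊔ Fbar).index = 2 ∨
        ((Dbar ⊔ Fbar).index = 6 ∧ ¬ commutator (Cfsg.Out ↥(D.group F)) ≤ Dbar ⊔ Fbar)) := by
  rw [diag_eq m, Subgroup.closure_eq] at hDbar
  rw [field_eq m, Subgroup.closure_eq] at hFbar
  have hDF : Dbar ⊔ Fbar = ((rho m F).ker).map (toOut D F) := by rw [hDbar, hFbar, DF_eq m hD]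
  refine ⟨?_, ?_, ?_, ?_, ?_⟩
  · rw [hDbar]
    constructor
    rintro _ ⟨_, ⟨c, rfl⟩, rfl⟩ q
    obtain ⟨θ, rfl⟩ := toOut_surj m q
    obtain ⟨c', hc'⟩ := conj_delta m θ c
    refine ⟨_, ⟨c', rfl⟩, ?_⟩
    rw [← hc']
    rfl
  · rw [hDbar]
    refine ⟨⟨?_⟩⟩
    rintro ⟨_, ⟨_, ⟨c, rfl⟩, rfl⟩⟩ ⟨_, ⟨_, ⟨c', rfl⟩, rfl⟩⟩
    apply Subtype.ext
    change (QuotientGroup.mk' (Cfsg.Inn ↥(D.group F))) (delta m F c) * (QuotientGroup.mk' (Cfsg.Inn ↥(D.group F))) (delta m F c') =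
      (QuotientGroup.mk' (Cfsg.Inn ↥(D.group F))) (delta m F c') * (QuotientGroup.mk' (Cfsg.Inn ↥(D.group F))) (delta m F c)
    rw [← map_mul, ← map_mul, ← map_mul, ← map_mul, mul_comm]
  · rw [hFbar, ← MonoidHom.range_comp]
    exact isCyclic_of_surjective _ (((QuotientGroup.mk' (Cfsg.Inn ↥(D.group F))).comp (fA m F)).rangeRestrict_surjective)
  · rw [hDF]
    exact Subgroup.Normal.map inferInstance _ (toOut_surj m)
  · rw [hDF, index_DF m]
    rcases h6 with h | h | ⟨h, a, ⟨α, rfl⟩, b, ⟨β, rfl⟩, hab⟩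
    · exact Or.inl h
    · exact Or.inr (Or.inl h)
    · refine Or.inr (Or.inr ⟨h, fun hle => hab ?_⟩)
      have h1 : toOut D F ⁅α, β⁆ ∈ ((rho m F).ker).map (toOut D F) := by
        apply hle
        rw [map_commutatorElement]
        exact Subgroup.commutator_mem_commutator (Subgroup.mem_top _) (Subgroup.mem_top _)
      obtain ⟨γ, hγ, he⟩ := h1
      have h2 : γ⁻¹ * ⁅α, β⁆ ∈ (toOut D F).ker := by
        rw [MonoidHom.mem_ker, map_mul, map_inv, he, inv_mul_cancel]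
      have h3 : ⁅α, β⁆ ∈ (rho m F).ker := by
        have := mul_mem hγ (ker_toOut m h2)
        rwa [mul_inv_cancel_left] at this
      rw [MonoidHom.mem_ker, map_commutatorElement] at h3
      exact commutatorElement_eq_one_iff_mul_comm.1 h3

omit m in
theorem s2159 [Finite F] (hD : D ∈ [chevG2, chevB2, chevD4, chevF4, chevE6, chevE7, chevE8])
    (Dbar Fbar : Subgroup (Cfsg.Out ↥(D.group F)))
    (hDbar : Dbar = (Subgroup.closure {φ : MulAut ↥(D.group F) | D.IsDiagonalAut φ}).map (QuotientGroup.mk' (Cfsg.Inn ↥(D.group F))))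
    (hFbar : Fbar = (Subgroup.closure {φ : MulAut ↥(D.group F) | D.IsFieldAut φ}).map (QuotientGroup.mk' (Cfsg.Inn ↥(D.group F)))) :
    Dbar.Normal ∧ IsMulCommutative ↥Dbar ∧ IsCyclic ↥Fbar ∧ (Dbar ⊔ Fbar).Normal ∧
      ((Dbar ⊔ Fbar).index = 1 ∨ (Dbar ⊔ Fbar).index = 2 ∨
        ((Dbar ⊔ Fbar).index = 6 ∧ ¬ commutator (Cfsg.Out ↥(D.group F)) ≤ Dbar ⊔ Fbar)) := by
  have hD' := hD
  simp only [List.mem_cons, List.not_mem_nil, or_false] at hD'
  rcases hD' with rfl | rfl | rfl | rfl | rfl | rfl | rfl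
  · refine s2159_aux modelG2 hD ?_ Dbar Fbar hDbar hFbar
    rcases card_perm_two (rho modelG2 F).range with h | h
    · exact Or.inl h
    · exact Or.inr (Or.inl h)
  · refine s2159_aux modelB2 hD ?_ Dbar Fbar hDbar hFbar
    rcases card_perm_two (rho modelB2 F).range with h | h
    · exact Or.inl h
    · exact Or.inr (Or.inl h)
  · refine s2159_aux modelD4 hD ?_ Dbar Fbar hDbar hFbar
    exact Or.inr (Or.inr ⟨range_D4, _, sw_mem, _, tw_mem, not_comm_D4⟩)
  · refine s2159_aux modelF4 hD ?_ Dbar Fbar hDbar hFbar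
    have h : ∀ x ∈ (rho modelF4 F).range, x = 1 ∨ x = swF4 := by
      rintro _ ⟨θ, rfl⟩
      rcases pF4 _ (rho_data modelF4 θ).1 with h | h
      · exact Or.inl h
      · exact Or.inr (eq_swF4 h)
    by_cases h1 : swF4 ∈ (rho modelF4 F).range
    · exact Or.inr (Or.inl (card_two_of h1 swF4_ne h))
    · exact Or.inl (card_one_of fun x hx => (h x hx).resolve_right fun he => h1 (he ▸ hx))
  · refine s2159_aux modelE6 hD ?_ Dbar Fbar hDbar hFbar
    exact Or.inr (Or.inl range_E6)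
  · refine s2159_aux modelE7 hD ?_ Dbar Fbar hDbar hFbar
    exact Or.inl (range_bot modelE7 (fun π => symE7))
  · refine s2159_aux modelE8 hD ?_ Dbar Fbar hDbar hFbar
    exact Or.inl (range_bot modelE8 (fun π => symE8))

end Cfsg.Agent.H14.Chev
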