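import Cfsg.Agent.H6_ChevTorus

/-! Order polynomial of the Weyl group of type E8. -/

set_option autoImplicit false
set_option maxRecDepth 100000
set_option linter.unusedSimpArgs false

namespace Cfsg.Agent.H6.Chev

open Cfsg Cfsg.Lie

theorem st0E8 : tabE8.ckStage 255 127 0 0x3a39383736353434333231302f2e333231302f2e2d302f2e2d2c2e2d2c2b2c2b2a2a29282d2c2b2a2b2a292928272a29282827262726252429282727262526252423252423222124232221201f1e282726262524252423222423222120232221201f1e232221201f1e2221201f1e21201f1e201f1e1f1e1e1d1d1c1d1c1b1d1c1b1a1d1c1b1a191d1c1b1a19181d1c1b1a19181b1a191817191817161716151514131d1c1b1a1918171a19181716181716151615141413121716151415141313121114131212111011100f0e13121111100f100f0e0d0f0e0d0c0b0e0d0c0b0a09080d0c0b0a09080707060504030201 false [1, 1, 1, 1, 1, 1, 2, 2, 2, 2, 3, 3, 4, 4, 4, 4, 5, 5, 6, 6, 6, 6, 7,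 7, 7, 7, 7, 7, 8, 8, 7, 7, 7, 7, 7, 7, 6, 6, 6, 6, 5, 5, 4, 4, 4, 4, 3, 3, 2, 2, 2, 2, 1, 1, 1, 1, 1, 1] = true := by
  decide +kernel

theorem st1E8 : tabE8.ckStage 127 63 1 0x1c001b00001a000000190000000018000000000017000000000017000000001600000015000014001312000000000000160000000015000000140000130012110000001300001200111000001100100f000f0e0d000010000f0e000e0d0c000d0c0b0a000c0b0a090807000b0a0908070606050403020100 false [1, 1, 1, 1, 1, 2, 2, 2, 2, 3, 3, 3, 3, 3, 3, 3, 3, 3, 3, 2, 2, 2, 2, 1, 1, 1, 1, 1] = true := by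
  decide +kernel

theorem st2E8 : tabE8.ckStage 63 31 2 0x11000000000000000000000000000000000000000000100000000000000000000f00000000000e00000d0c00000000000d00000c0b00000b0a0900000a090807060000090807060505040302010000 false [1, 1, 1, 1, 2, 2, 2, 2, 3, 2, 2, 2, 2, 1, 1, 1, 1] = true := by
  decide +kernel

theorem st3E8 : tabE8.ckStage 31 30 11 0x9000000000000000000000000000000000000000000080000000000000000000700000000000600000500000000000005000004000000030000000002000000000000010000000000000000000000 false [1, 1, 1, 1, 2, 1, 1, 1, 1] = true := by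
  decide +kernel

theorem st4E8 : tabE8.ckStage 30 14 3 0x706050404030201000000 false [1, 1, 1, 2, 1, 1, 1] = true := by
  decide +kernel

theorem st5E8 : tabE8.ckStage 14 12 14 0x4000000000302010000000000000000000000000000 false [1, 1, 1, 1] = true := by
  decide +kernel

theorem st6E8 : tabE8.ckStage 12 4 4 0x3020100000000 false [1, 1, 1] = true := by
  decide +kernel

theorem st7E8 : tabE8.ckStage 4 0 5 0x2010000000000 false [1, 1] = true := by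
  decide +kernel

set_option maxHeartbeats 4000000 in
theorem po0E8 (x : ℤ) : poly [1, 1, 1, 1, 1, 1, 2, 2, 2, 2, 3, 3, 4, 4, 4, 4, 5, 5, 6, 6, 6, 6, 7, 7, 7, 7, 7, 7, 8, 8, 7, 7, 7, 7, 7, 7, 6, 6, 6, 6, 5, 5, 4, 4, 4, 4, 3, 3, 2, 2, 2, 2, 1, 1, 1, 1, 1, 1] x * (x - 1) ^ 1 * ((x ^ 6 - 1) * (x ^ 10 - 1)) = (x ^ 20 - 1) * (x ^ 24 - 1) * (x ^ 30 - 1) := by
  simp only [poly, Nat.cast_ofNat, Nat.cast_one, Nat.cast_zero]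
  ring

set_option maxHeartbeats 4000000 in
theorem po1E8 (x : ℤ) : poly [1, 1, 1, 1, 1, 2, 2, 2, 2, 3, 3, 3, 3, 3, 3, 3, 3, 3, 3, 2, 2, 2, 2, 1, 1, 1, 1, 1] x * (x - 1) ^ 1 * ((x ^ 5 - 1) * (x ^ 9 - 1)) = (x ^ 10 - 1) * (x ^ 14 - 1) * (x ^ 18 - 1) := by
  simp only [poly, Nat.cast_ofNat, Nat.cast_one, Nat.cast_zero]
  ring

set_option maxHeartbeats 4000000 in
theorem po2E8 (x : ℤ) : poly [1, 1, 1, 1, 2, 2, 2, 2, 3, 2, 2, 2, 2, 1, 1, 1, 1] x * (x - 1) ^ 1 * ((x ^ 4 - 1)) = (x ^ 9 - 1) * (x ^ 12 - 1) := by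
  simp only [poly, Nat.cast_ofNat, Nat.cast_one, Nat.cast_zero]
  ring

set_option maxHeartbeats 4000000 in
theorem po3E8 (x : ℤ) : poly [1, 1, 1, 1, 2, 1, 1, 1, 1] x * (x - 1) ^ 1 * ((x ^ 4 - 1)) = (x ^ 5 - 1) * (x ^ 8 - 1) := by
  simp only [poly, Nat.cast_ofNat, Nat.cast_one, Nat.cast_zero]
  ring

set_option maxHeartbeats 4000000 in
theorem po4E8 (x : ℤ) : poly [1, 1, 1, 2, 1, 1, 1] x * (x - 1) ^ 1 * ((x ^ 3 - 1)) = (x ^ 4 - 1) * (x ^ 6 - 1) := by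
  simp only [poly, Nat.cast_ofNat, Nat.cast_one, Nat.cast_zero]
  ring

set_option maxHeartbeats 4000000 in
theorem po5E8 (x : ℤ) : poly [1, 1, 1, 1] x * (x - 1) ^ 1 * (1) = (x ^ 4 - 1) := by
  simp only [poly, Nat.cast_ofNat, Nat.cast_one, Nat.cast_zero]
  ring

set_option maxHeartbeats 4000000 in
theorem po6E8 (x : ℤ) : poly [1, 1, 1] x * (x - 1) ^ 1 * (1) = (x ^ 3 - 1) := by
  simp only [poly, Nat.cast_ofNat, Nat.cast_one, Nat.cast_zero]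
  ring

set_option maxHeartbeats 4000000 in
theorem po7E8 (x : ℤ) : poly [1, 1] x * (x - 1) ^ 1 * (1) = (x ^ 2 - 1) := by
  simp only [poly, Nat.cast_ofNat, Nat.cast_one, Nat.cast_zero]
  ring

theorem pjE8 (q : ℕ) : ((q : ℤ) - 1) ^ 8 * (modelE8.PJ Set.univ q : ℤ) = ((q : ℤ) ^ 2 - 1) * ((q : ℤ) ^ 8 - 1) * ((q : ℤ) ^ 12 - 1) * ((q : ℤ) ^ 14 - 1) * ((q : ℤ) ^ 18 - 1) * ((q : ℤ) ^ 20 - 1) * ((q : ℤ) ^ 24 - 1) * ((q : ℤ) ^ 30 - 1) := by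
  have h8 : (((q : ℤ) - 1) ^ 0) * (modelE8.PJ (bits 0) q : ℤ) = 1 := by
    rw [modelE8.PJ_empty (fun i _ h => by simp [bits] at h) q]; simp
  have h7 : (((q : ℤ) - 1) ^ 1) * (modelE8.PJ (bits 4) q : ℤ) = ((q : ℤ) ^ 2 - 1) := by
    have e1 := congrArg (fun n : ℕ => (n : ℤ)) (Tab.stage modelE8 baseE8 checksE8 st7E8 q)
    simp only [Nat.cast_mul, poly_cast] at e1
    have e2 : ((q : ℤ) - 1) ^ 0 * (modelE8.PJ (bits 0) q : ℤ) = (1) * (1) := by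
      rw [h8]
      all_goals ring
    have e3 := poly_step e1 e2 (po7E8 q)
    rw [show ((q : ℤ) - 1) ^ 1 = ((q : ℤ) - 1) ^ 0 * ((q : ℤ) - 1) ^ 1 by rw [← pow_add], e3]
    all_goals ring
  have h6 : (((q : ℤ) - 1) ^ 2) * (modelE8.PJ (bits 12) q : ℤ) = ((q : ℤ) ^ 2 - 1) * ((q : ℤ) ^ 3 - 1) := by
    have e1 := congrArg (fun n : ℕ => (n : ℤ)) (Tab.stage modelE8 baseE8 checksE8 st6E8 q)
    simp only [Nat.cast_mul, poly_cast] at e1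
    have e2 : ((q : ℤ) - 1) ^ 1 * (modelE8.PJ (bits 4) q : ℤ) = (1) * (((q : ℤ) ^ 2 - 1)) := by
      rw [h7]
      all_goals ring
    have e3 := poly_step e1 e2 (po6E8 q)
    rw [show ((q : ℤ) - 1) ^ 2 = ((q : ℤ) - 1) ^ 1 * ((q : ℤ) - 1) ^ 1 by rw [← pow_add], e3]
    all_goals ring
  have h5 : (((q : ℤ) - 1) ^ 3) * (modelE8.PJ (bits 14) q : ℤ) = ((q : ℤ) ^ 2 - 1) * ((q : ℤ) ^ 3 - 1) * ((q : ℤ) ^ 4 - 1) := by
    have e1 := congrArg (fun n : ℕ => (n : ℤ)) (Tab.stage modelE8 baseE8 checksE8 st5E8 q)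
    simp only [Nat.cast_mul, poly_cast] at e1
    have e2 : ((q : ℤ) - 1) ^ 2 * (modelE8.PJ (bits 12) q : ℤ) = (1) * (((q : ℤ) ^ 2 - 1) * ((q : ℤ) ^ 3 - 1)) := by
      rw [h6]
      all_goals ring
    have e3 := poly_step e1 e2 (po5E8 q)
    rw [show ((q : ℤ) - 1) ^ 3 = ((q : ℤ) - 1) ^ 2 * ((q : ℤ) - 1) ^ 1 by rw [← pow_add], e3]
    all_goals ring
  have h4 : (((q : ℤ) - 1) ^ 4) * (modelE8.PJ (bits 30) q : ℤ) = ((q : ℤ) ^ 2 - 1) * ((q : ℤ) ^ 4 - 1) * ((q : ℤ) ^ 4 - 1) * ((q : ℤ) ^ 6 - 1) := by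
    have e1 := congrArg (fun n : ℕ => (n : ℤ)) (Tab.stage modelE8 baseE8 checksE8 st4E8 q)
    simp only [Nat.cast_mul, poly_cast] at e1
    have e2 : ((q : ℤ) - 1) ^ 3 * (modelE8.PJ (bits 14) q : ℤ) = (((q : ℤ) ^ 3 - 1)) * (((q : ℤ) ^ 2 - 1) * ((q : ℤ) ^ 4 - 1)) := by
      rw [h5]
      all_goals ring
    have e3 := poly_step e1 e2 (po4E8 q)
    rw [show ((q : ℤ) - 1) ^ 4 = ((q : ℤ) - 1) ^ 3 * ((q : ℤ) - 1) ^ 1 by rw [← pow_add], e3]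
    all_goals ring
  have h3 : (((q : ℤ) - 1) ^ 5) * (modelE8.PJ (bits 31) q : ℤ) = ((q : ℤ) ^ 2 - 1) * ((q : ℤ) ^ 4 - 1) * ((q : ℤ) ^ 5 - 1) * ((q : ℤ) ^ 6 - 1) * ((q : ℤ) ^ 8 - 1) := by
    have e1 := congrArg (fun n : ℕ => (n : ℤ)) (Tab.stage modelE8 baseE8 checksE8 st3E8 q)
    simp only [Nat.cast_mul, poly_cast] at e1
    have e2 : ((q : ℤ) - 1) ^ 4 * (modelE8.PJ (bits 30) q : ℤ) = (((q : ℤ) ^ 4 - 1)) * (((q : ℤ) ^ 2 - 1) * ((q : ℤ) ^ 4 - 1) * ((q : ℤ) ^ 6 - 1)) := by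
      rw [h4]
      all_goals ring
    have e3 := poly_step e1 e2 (po3E8 q)
    rw [show ((q : ℤ) - 1) ^ 5 = ((q : ℤ) - 1) ^ 4 * ((q : ℤ) - 1) ^ 1 by rw [← pow_add], e3]
    all_goals ring
  have h2 : (((q : ℤ) - 1) ^ 6) * (modelE8.PJ (bits 63) q : ℤ) = ((q : ℤ) ^ 2 - 1) * ((q : ℤ) ^ 5 - 1) * ((q : ℤ) ^ 6 - 1) * ((q : ℤ) ^ 8 - 1) * ((q : ℤ) ^ 9 - 1) * ((q : ℤ) ^ 12 - 1) := by
    have e1 := congrArg (fun n : ℕ => (n : ℤ)) (Tab.stage modelE8 baseE8 checksE8 st2E8 q)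
    simp only [Nat.cast_mul, poly_cast] at e1
    have e2 : ((q : ℤ) - 1) ^ 5 * (modelE8.PJ (bits 31) q : ℤ) = (((q : ℤ) ^ 4 - 1)) * (((q : ℤ) ^ 2 - 1) * ((q : ℤ) ^ 5 - 1) * ((q : ℤ) ^ 6 - 1) * ((q : ℤ) ^ 8 - 1)) := by
      rw [h3]
      all_goals ring
    have e3 := poly_step e1 e2 (po2E8 q)
    rw [show ((q : ℤ) - 1) ^ 6 = ((q : ℤ) - 1) ^ 5 * ((q : ℤ) - 1) ^ 1 by rw [← pow_add], e3]
    all_goals ring
  have h1 : (((q : ℤ) - 1) ^ 7) * (modelE8.PJ (bits 127) q : ℤ) = ((q : ℤ) ^ 2 - 1) * ((q : ℤ) ^ 6 - 1) * ((q : ℤ) ^ 8 - 1) * ((q : ℤ) ^ 10 - 1) * ((q : ℤ) ^ 12 - 1) * ((q : ℤ) ^ 14 - 1) * ((q : ℤ) ^ 18 - 1) := by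
    have e1 := congrArg (fun n : ℕ => (n : ℤ)) (Tab.stage modelE8 baseE8 checksE8 st1E8 q)
    simp only [Nat.cast_mul, poly_cast] at e1
    have e2 : ((q : ℤ) - 1) ^ 6 * (modelE8.PJ (bits 63) q : ℤ) = (((q : ℤ) ^ 5 - 1) * ((q : ℤ) ^ 9 - 1)) * (((q : ℤ) ^ 2 - 1) * ((q : ℤ) ^ 6 - 1) * ((q : ℤ) ^ 8 - 1) * ((q : ℤ) ^ 12 - 1)) := by
      rw [h2]
      all_goals ring
    have e3 := poly_step e1 e2 (po1E8 q)
    rw [show ((q : ℤ) - 1) ^ 7 = ((q : ℤ) - 1) ^ 6 * ((q : ℤ) - 1) ^ 1 by rw [← pow_add], e3]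
    all_goals ring
  have h0 : (((q : ℤ) - 1) ^ 8) * (modelE8.PJ (bits 255) q : ℤ) = ((q : ℤ) ^ 2 - 1) * ((q : ℤ) ^ 8 - 1) * ((q : ℤ) ^ 12 - 1) * ((q : ℤ) ^ 14 - 1) * ((q : ℤ) ^ 18 - 1) * ((q : ℤ) ^ 20 - 1) * ((q : ℤ) ^ 24 - 1) * ((q : ℤ) ^ 30 - 1) := by
    have e1 := congrArg (fun n : ℕ => (n : ℤ)) (Tab.stage modelE8 baseE8 checksE8 st0E8 q)
    simp only [Nat.cast_mul, poly_cast] at e1
    have e2 : ((q : ℤ) - 1) ^ 7 * (modelE8.PJ (bits 127) q : ℤ) = (((q : ℤ) ^ 6 - 1) * ((q : ℤ) ^ 10 - 1)) * (((q : ℤ) ^ 2 - 1) * ((q : ℤ) ^ 8 - 1) * ((q : ℤ) ^ 12 - 1) * ((q : ℤ) ^ 14 - 1) * ((q : ℤ) ^ 18 - 1)) := by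
      rw [h1]
      all_goals ring
    have e3 := poly_step e1 e2 (po0E8 q)
    rw [show ((q : ℤ) - 1) ^ 8 = ((q : ℤ) - 1) ^ 7 * ((q : ℤ) - 1) ^ 1 by rw [← pow_add], e3]
    all_goals ring
  rw [← modelE8.PJ_full (J := bits 255) _ q]
  · exact h0
  · intro i hi
    change i < 8 at hi
    change Nat.testBit 255 i = true
    interval_cases i <;> decide

theorem ordE8 {q : ℕ} (hq : 1 ≤ q) : (q - 1) ^ 8 * modelE8.PJ Set.univ q = (q ^ 2 - 1) * (q ^ 8 - 1) * (q ^ 12 - 1) * (q ^ 14 - 1) * (q ^ 18 - 1) * (q ^ 20 - 1) * (q ^ 24 - 1) * (q ^ 30 - 1) := by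
  have h := pjE8 q
  have e : ∀ d, ((q ^ d - 1 : ℕ) : ℤ) = (q : ℤ) ^ d - 1 := fun d => by
    rw [Nat.cast_sub (Nat.one_le_pow _ _ hq)]; simp
  have e' : ((q - 1 : ℕ) : ℤ) = (q : ℤ) - 1 := by rw [Nat.cast_sub hq]; simp
  zify
  rw [e', h]
  simp only [e]

theorem torE8 {F : Type*} [Field F] [Fintype F] :
    (∏ k : Fin 8, (Nat.card Fˣ).gcd (([1, 1, 1, 1, 1, 1, 1, 1] : List ℕ).getD k 1)) * Nat.card (chevE8.diagonalSubgroup F) =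
      Nat.card Fˣ ^ 8 := by
  rw [modelE8.card_H]
  have h0 : chevE8.rank = 8 := rfl
  have h := card_range_smith (G := Fˣ) (l := 8) (A := fun i j => tabE8.c i (nth tabE8.S j))
    (U := mt [[-1, 0, 0, 0, 0, 0, 0, 0], [0, -1, 0, 0, 0, 0, 0, 0], [2, -1, 0, 0, 0, 0, -1, 0], [-1, 2, -1, 0, 0, 0, 0, 0], [0, -1, 2, -1, 0, 0, 0, 0], [0, 0, -1, 2, -1, 0, 0, 0], [0, 0, 0, -1, 2, -1, 0, 0], [0, 0, 0, 0, -1, 2, 4, -1]]) (U' := mt [[-1, 0, 0, 0, 0, 0, 0, 0], [0, -1, 0, 0, 0, 0, 0, 0], [1, -2, 0, -1, 0, 0, 0, 0], [2, -3, 0, -2, -1, 0, 0, 0], [3, -4, 0, -3, -2, -1, 0, 0], [4, -5, 0, -4, -3, -2, -1, 0], [-2, 1, -1, 0, 0, 0, 0, 0], [-3, -2, -4, -5, -4, -3, -2, -1]]) (V := mt [[-2, 0, 1, 0, 0, 0, 0, 0], [0, -2, 0, 1, 0, 0, 0, 0], [2, -3, 0, 0, 1, 0, 0, 0], [4, -4, 0, 0, 0, 1, 0, 0], [6, -5, 0, 0, 0, 0, 1, 0], [8, -6, 0, 0, 0, 0, 0, 1], [-3,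 2, 0, 0, 0, 0, 0, 0], [-2, 1, 0, 0, 0, 0, 0, 0]]) (V' := mt [[0, 0, 0, 0, 0, 0, 1, -2], [0, 0, 0, 0, 0, 0, 2, -3], [1, 0, 0, 0, 0, 0, 2, -4], [0, 1, 0, 0, 0, 0, 4, -6], [0, 0, 1, 0, 0, 0, 4, -5], [0, 0, 0, 1, 0, 0, 4, -4], [0, 0, 0, 0, 1, 0, 4, -3], [0, 0, 0, 0, 0, 1, 4, -2]]) (B := mt [[-2, 0, 1, 0, 0, 0, 0, 0], [0, -2, 0, 1, 0, 0, 0, 0], [2, -3, 0, 0, 1, 0, 0, 0], [4, -4, 0, 0, 0, 1, 0, 0], [6, -5, 0, 0, 0, 0, 1, 0], [8, -6, 0, 0, 0, 0, 0, 1], [-3, 2, 0, 0, 0, 0, 0, 0], [-2, 1, 0, 0, 0, 0, 0, 0]]) (d := [1, 1, 1, 1, 1, 1, 1, 1])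
    (by decide +kernel) (by decide +kernel) (by decide +kernel) (by decide +kernel)
  rw [← h]
  have h1 : tm (G := Fˣ) 8 (fun i j => chevE8.cartan i (chevE8.simple j)) =
      tm 8 (fun i j => tabE8.c i (nth tabE8.S j)) := ?_
  · exact congrArg (fun f : (Fin 8 → Fˣ) →* (Fin 8 → Fˣ) =>
      (∏ k : Fin 8, (Nat.card Fˣ).gcd (([1, 1, 1, 1, 1, 1, 1, 1] : List ℕ).getD k 1)) * Nat.card f.range) h1
  apply tm_congr
  intro i hi j hj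
  rw [baseE8.simple_eq hj]
  exact baseE8.cartan_eq hi (Tab.S_facts baseE8 checksE8 hj).1

end Cfsg.Agent.H6.Chev
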