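import Mathlib
import Cfsg.Agent.H14_GrE

set_option autoImplicit false
set_option linter.unusedSectionVars false
set_option maxRecDepth 100000

/-!
Chevalley groups: centralizers in the group extended by diagonal automorphisms.
-/

namespace Cfsg.Agent.H14.Chev

open Cfsg Cfsg.Lie Cfsg.Lie.ChevalleyDatum Cfsg.Agent.H6 Cfsg.Agent.H6.Chev Cfsg.Agent.H6.Chev.Model
open scoped Matrix

variable {D : ChevalleyDatum} {F : Type*} [Field F] (m : Model D)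

theorem nl_dm (l : List (Fin D.rank)) : ∀ c : ℕ → Fˣ, ∃ c' : ℕ → Fˣ,
    m.nl F l * m.dmHom c = m.dmHom c' * m.nl F l := by
  induction l with
  | nil => intro c; exact ⟨c, by simp [Model.nl]⟩
  | cons i l ih =>
    intro c
    obtain ⟨c1, h1⟩ := ih c
    refine ⟨m.refC c1 i, ?_⟩
    have e : m.nl F (i :: l) = m.n F i * m.nl F l := by simp [Model.nl]
    rw [e, mul_assoc, h1, ← mul_assoc, m.n_dm c1 i.2, mul_assoc]

theorem N_dm {n : GL D.Idx F} (hn : n ∈ D.monomialSubgroup F) (c : ℕ → Fˣ) : ∃ c' : ℕ → Fˣ,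
    n * m.dmHom c = m.dmHom c' * n := by
  obtain ⟨l, x, hx, rfl⟩ := m.mem_N.1 hn
  obtain ⟨b, rfl⟩ := m.mem_H.1 hx
  obtain ⟨c', h'⟩ := nl_dm m l c
  refine ⟨c', ?_⟩
  rw [hHom_apply, mul_assoc, ← map_mul, mul_comm, map_mul, ← mul_assoc, h', mul_assoc]

theorem dm_conj_gen (c : ℕ → Fˣ) {R : ℕ → Prop} {g : GL D.Idx F} :
    m.dmHom c * g * (m.dmHom c)⁻¹ ∈ m.gen F R ↔ g ∈ m.gen F R :=
  ((Subgroup.mem_normalizer_iff.1 (m.dm_norm c R)) g).symm

theorem dm_conj_U (c : ℕ → Fˣ) {g : GL D.Idx F} :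
    m.dmHom c * g * (m.dmHom c)⁻¹ ∈ D.posUnipotent F ↔ g ∈ D.posUnipotent F := by
  rw [m.posUnipotent_eq]
  exact dm_conj_gen m c

theorem dm_conj_G (c : ℕ → Fˣ) {g : GL D.Idx F} :
    m.dmHom c * g * (m.dmHom c)⁻¹ ∈ D.group F ↔ g ∈ D.group F :=
  ((Subgroup.mem_normalizer_iff.1 (dm_norm_G m c)) g).symm

theorem UT_inf_V {u : GL D.Idx F} (hu : u ∈ D.posUnipotent F) {c : ℕ → Fˣ}
    (h : u * m.dmHom c ∈ D.negUnipotent F) : u * m.dmHom c = 1 := by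
  have e : ∀ i j : D.Idx, ((u * m.dmHom c : GL D.Idx F) : Matrix D.Idx D.Idx F) i j =
      (u : Matrix D.Idx D.Idx F) i j * (m.dmHom c : Matrix D.Idx D.Idx F) j j := by
    intro i j
    rw [Units.val_mul, m.coe_dm, Matrix.mul_diagonal, Matrix.diagonal_apply_eq]
  apply Units.ext
  ext i j
  by_cases hij : i = j
  · subst hij
    rw [m.V_diag h, Units.val_one, Matrix.one_apply_eq]
  · rw [Units.val_one, Matrix.one_apply_ne hij]
    by_contra hc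
    have h4 := m.V_entry h hij hc
    rw [e] at hc
    have h3 := m.B_entry (U_le_B hu) hij (left_ne_zero_of_mul hc)
    omega

/-- elements conjugating a regular unipotent element of `U` into `U` -/
theorem reg_U {a : GL D.Idx F} (ha : a ∈ D.group F) (c : ℕ → Fˣ) {u0 : GL D.Idx F} (hu0 : u0 ∈ D.posUnipotent F)
    (hr : ∀ i, u0 ∉ m.Up F i) (h : (a * m.dmHom c) * u0 * (a * m.dmHom c)⁻¹ ∈ D.posUnipotent F) :
    ∃ u ∈ D.posUnipotent F, ∃ c' : ℕ → Fˣ, a * m.dmHom c = u * m.dmHom c' := by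
  obtain ⟨b, hb, n, hn, w, hw, hact, v, hv, rfl⟩ := m.exists_bruhat' ha
  have hvU : v ∈ D.posUnipotent F := m.Uw_le_U w hv
  have hw1 : w = 1 := by
    apply m.eq_one_of_pos hw
    intro j
    by_contra hj
    have hj' : (w (m.p j) : ℕ) < m.N := by omega
    have h1 : n * (v * (m.dmHom c * u0 * (m.dmHom c)⁻¹) * v⁻¹) * n⁻¹ ∈ D.posUnipotent F := by
      have h3 : n * (v * (m.dmHom c * u0 * (m.dmHom c)⁻¹) * v⁻¹) * n⁻¹ =
        b⁻¹ * (b * n * v * m.dmHom c * u0 * (b * n * v * m.dmHom c)⁻¹) * b⁻¹⁻¹ := by group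
      rw [h3]
      exact (Subgroup.mem_normalizer_iff.1 (B_norm_U m (inv_mem hb)) _).1 h
    have hX : m.dmHom c * u0 * (m.dmHom c)⁻¹ ∈ D.posUnipotent F := (dm_conj_U m c).2 hu0
    have h2 := mem_gen_of_conj m hact (mul_mem (mul_mem hvU hX) (inv_mem hvU)) h1
    have h3 : v * (m.dmHom c * u0 * (m.dmHom c)⁻¹) * v⁻¹ ∈ m.Up F j := by
      refine m.gen_mono ?_ h2
      rintro r _ ⟨hr, h, hh⟩
      refine ⟨hr, ?_⟩
      rintro rfl
      have : (w ⟨(m.p j : ℕ), h⟩ : ℕ) = (w (m.p j) : ℕ) := rfl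
      omega
    have h4 : m.dmHom c * u0 * (m.dmHom c)⁻¹ ∈ m.Up F j := by
      have := (Subgroup.mem_normalizer_iff.1 (m.U_norm_Up j (inv_mem hvU)) _).1 h3
      have h5 : v⁻¹ * (v * (m.dmHom c * u0 * (m.dmHom c)⁻¹) * v⁻¹) * v⁻¹⁻¹ = m.dmHom c * u0 * (m.dmHom c)⁻¹ := by group
      rwa [h5] at this
    exact hr j ((dm_conj_gen m c).1 h4)
  subst hw1
  have hB : b * n * v ∈ D.borelSubgroup F := mul_mem (mul_mem hb (H_le_B (m.mem_H_of_acts_one hn hact))) (U_le_B hvU)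
  obtain ⟨u, hu, h', hh', e⟩ := m.mem_B.1 hB
  obtain ⟨b', rfl⟩ := m.mem_H.1 hh'
  refine ⟨u, hu, hC D b' * c, ?_⟩
  rw [e, map_mul, hHom_apply, mul_assoc]

/-- elements of `UT` commuting with an element acting as the longest element of the Weyl group -/
theorem reg_T {u : GL D.Idx F} (hu : u ∈ D.posUnipotent F) {c : ℕ → Fˣ} {n : GL D.Idx F} (hn : n ∈ D.monomialSubgroup F)
    {w : Equiv.Perm (Fin D.nroots)} (hact : m.Acts n w) (hw : ∀ r : Fin D.nroots, m.N ≤ r → (w r : ℕ) < m.N)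
    (h : n * (u * m.dmHom c) = u * m.dmHom c * n) : u = 1 := by
  have hV : n * u * n⁻¹ ∈ D.negUnipotent F := by
    apply m.conj_Uw hact
    rw [m.posUnipotent_eq] at hu
    refine m.gen_mono ?_ hu
    intro r hr hN
    exact ⟨hN, hr, hw ⟨r, hr⟩ hN⟩
  obtain ⟨c', h'⟩ := N_dm m hn c
  have e : n * u * n⁻¹ = u * m.dmHom (c * c'⁻¹) := by
    calc n * u * n⁻¹ = (n * (u * m.dmHom c)) * n⁻¹ * (n * m.dmHom c * n⁻¹)⁻¹ := by group
      _ = (u * m.dmHom c * n) * n⁻¹ * (m.dmHom c' * n * n⁻¹)⁻¹ := by rw [h, h']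
      _ = u * (m.dmHom c * (m.dmHom c')⁻¹) := by group
      _ = u * m.dmHom (c * c'⁻¹) := by rw [map_mul, map_inv]
  rw [e] at hV
  have h1 := UT_inf_V m hu hV
  rw [← e] at h1
  simpa using h1

end Cfsg.Agent.H14.Chev
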