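import Mathlib
import Cfsg.Agent.H14_F4a

set_option autoImplicit false
set_option linter.unusedSectionVars false
set_option maxRecDepth 100000

/-!
Three classes of subgroups `F₄(2)` in `²E₆(2)`.
-/

namespace Cfsg.Agent.H14.Chev

open Cfsg Cfsg.Lie Cfsg.Lie.ChevalleyDatum Cfsg.Agent.H6 Cfsg.Agent.H6.Chev Cfsg.Agent.H6.Chev.Model
open scoped Matrix

section

variable {K : Type*} [Field K] [CharP K 2]

/-- the embedding of the prime field -/
noncomputable def io (K : Type*) [Field K] [CharP K 2] : ZMod 2 →+* K := ZMod.castHom (dvd_refl 2) K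

noncomputable def gm (D : ChevalleyDatum) (K : Type*) [Field K] [CharP K 2] : GL D.Idx (ZMod 2) →* GL D.Idx K :=
  Matrix.GeneralLinearGroup.map (n := D.Idx) (io K)

theorem gm_inj (D : ChevalleyDatum) : Function.Injective (gm D K) := glmap_injective (io K)

theorem gm_X {D : ChevalleyDatum} (m : Model D) (r : ℕ) : gm D K (m.X r 1) = m.X r 1 := by
  unfold gm
  rw [gl_map_X, map_one]

theorem gm_X0 {D : ChevalleyDatum} (m : Model D) (r : ℕ) (t : ZMod 2) : gm D K (m.X r t) = m.X r (io K t) := by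
  unfold gm
  rw [gl_map_X]

theorem gm_nl {D : ChevalleyDatum} (m : Model D) (l : List (Fin D.rank)) : gm D K (m.nl (ZMod 2) l) = m.nl K l := by
  induction l with
  | nil => simp [Model.nl]
  | cons i l ih =>
    have e : m.nl (ZMod 2) (i :: l) = m.n (ZMod 2) i * m.nl (ZMod 2) l := by simp [Model.nl]
    have e' : m.nl K (i :: l) = m.n K i * m.nl K l := by simp [Model.nl]
    rw [e, e', map_mul, ih]
    congr 1
    unfold Model.n Model.nn
    rw [map_mul, map_mul, gm_X0, gm_X0, map_neg, map_inv₀, map_one]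

theorem fr_gm {D : ChevalleyDatum} (σ : K →+* K) (g : GL D.Idx (ZMod 2)) : fr D σ (gm D K g) = gm D K g := by
  apply Units.ext
  ext i j
  change σ (io K ((g : Matrix D.Idx D.Idx (ZMod 2)) i j)) = io K ((g : Matrix D.Idx D.Idx (ZMod 2)) i j)
  have : σ.comp (io K) = io K := RingHom.ext_zmod _ _
  exact RingHom.congr_fun this _

/-- the image of the prime-field form -/
noncomputable def H00 (K : Type*) [Field K] [CharP K 2] : Subgroup (GL chevE6.Idx K) := (twistedE6 (ZMod 2) 1).map (gm chevE6 K)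

theorem H00_iso : Nonempty (↥(H00 K) ≃* ↥(chevF4.group (ZMod 2))) := by
  obtain ⟨e⟩ := foldE6 (F := ZMod 2) e6_conn
  exact ⟨((twistedE6 (ZMod 2) 1).equivMapOfInjective (gm chevE6 K) (gm_inj chevE6)).symm.trans e⟩

theorem fr_H00 (σ : K →+* K) {y : GL chevE6.Idx K} (hy : y ∈ H00 K) : fr chevE6 σ y = y := by
  obtain ⟨g, -, rfl⟩ := hy
  exact fr_gm σ g

theorem io_sq (t : ZMod 2) : io K t ^ 2 = io K t := by
  rw [← map_pow]
  congr 1
  revert t
  decide

theorem H00_le : H00 K ≤ twistedE6 K 2 := by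
  unfold H00
  rw [Subgroup.map_le_iff_le_comap]
  apply modelE6.genSub_le
  rintro w (⟨t, ht, r, hr, rfl⟩ | ⟨t, rs, hrs, rfl⟩)
  · rw [Model.word_cons, Model.word_nil, mul_one, Subgroup.mem_comap]
    rw [gm_X0]
    exact e6_single_G (io_sq t) hr
  · rw [Model.word_cons, Model.word_cons, Model.word_nil, mul_one, Subgroup.mem_comap]
    rw [map_mul, gm_X0, gm_X0]
    have := e6_pair_G (K := K) (q := 2) (io K t) (a := rs.1) (b := rs.2) hrs
    rw [io_sq] at this
    simpa only [pow_one] using this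

theorem H_F2 {D : ChevalleyDatum} (m : Model D) {h : GL D.Idx (ZMod 2)} (hh : h ∈ D.diagonalSubgroup (ZMod 2)) : h = 1 := by
  obtain ⟨b, rfl⟩ := m.mem_H.1 hh
  have : b = 1 := by
    ext i
    have : ∀ u : (ZMod 2)ˣ, (u : ZMod 2) = 1 := by decide
    rw [this]
    rfl
  rw [this, map_one]

theorem exists_n0 : ∃ n ∈ H00 K, n ∈ chevE6.monomialSubgroup K ∧ ∃ w, modelE6.Acts n w ∧
    ∀ r : Fin chevE6.nroots, modelE6.N ≤ r → (w r : ℕ) < modelE6.N := by
  obtain ⟨w, hw, hneg⟩ := (TE6 (ZMod 2)).exists_longest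
  obtain ⟨n, hn, hnG, hact⟩ := (PE6 (ZMod 2)).exists_n1 hw
  obtain ⟨l, x, hx, rfl⟩ := modelE6.mem_N.1 hn
  rw [H_F2 modelE6 hx, mul_one] at hnG hact
  have hwl : modelE6.wl l = w := modelE6.acts_unique (modelE6.acts_nl (F := ZMod 2) l) hact
  refine ⟨modelE6.nl K l, ⟨modelE6.nl (ZMod 2) l, hnG, gm_nl modelE6 l⟩, modelE6.nl_mem_N l, w, ?_, fun r hr => (hneg r).1 hr⟩
  rw [← hwl]
  exact modelE6.acts_nl l

theorem X_mem_H00 {r : ℕ} (hr : r ∈ [e6p2, e6m2, e6p4, e6m4]) : modelE6.X r (1 : K) ∈ H00 K :=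
  ⟨modelE6.X r 1, e6_single_G (one_pow 1) hr, gm_X modelE6 r⟩

theorem XX_mem_H00 {a b : ℕ} (hr : (a, b) ∈ [(e6p1, e6p6), (e6m1, e6m6), (e6p3, e6p5), (e6m3, e6m5)]) :
    modelE6.X a (1 : K) * modelE6.X b 1 ∈ H00 K := by
  refine ⟨modelE6.X a 1 * modelE6.X b 1, ?_, ?_⟩
  · have := e6_pair_G (K := ZMod 2) (q := 1) 1 (a := a) (b := b) hr
    rwa [one_pow] at this
  · rw [map_mul, gm_X, gm_X]

/-- a regular unipotent element -/
noncomputable def u00 (K : Type*) [Field K] : GL chevE6.Idx K :=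
  modelE6.word ([56, 36, 42, 37, 39, 46].map fun r : ℕ => (r, (1 : K)))

theorem u00_mem : u00 K ∈ H00 K := by
  have e1 := XX_mem_H00 (K := K) (a := 56) (b := 36) (by decide)
  have e2 := XX_mem_H00 (K := K) (a := 42) (b := 37) (by decide)
  have e3 := X_mem_H00 (K := K) (r := 39) (by decide)
  have e4 := X_mem_H00 (K := K) (r := 46) (by decide)
  have := mul_mem (mul_mem (mul_mem e1 e2) e3) e4
  unfold u00
  simp only [List.map_cons, List.map_nil, Model.word_cons, Model.word_nil, mul_one]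
  simpa only [mul_assoc] using this

theorem u00_U : u00 K ∈ chevE6.posUnipotent K := by
  apply modelE6.word_mem_U
  have hN := NvalE6
  intro p hp
  rw [List.mem_map] at hp
  obtain ⟨r, hr, rfl⟩ := hp
  have : ∀ r ∈ [56, 36, 42, 37, 39, 46], 36 ≤ r := by decide
  rw [hN]
  exact this r hr

theorem word_map_not_mem {D : ChevalleyDatum} (m : Model D) (L : List ℕ) (hL : L.Nodup) (hN : ∀ r ∈ L, m.N ≤ r)
    (i : Fin D.rank) (hi : ((m.p i : Fin D.nroots) : ℕ) ∈ L) : m.word (L.map fun r : ℕ => (r, (1 : K))) ∉ m.Up K i := by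
  obtain ⟨s, t, e⟩ := List.append_of_mem hi
  have hs : D.simple i = (m.p i : ℕ) := by rw [m.coe_p]
  subst e
  rw [List.map_append, List.map_cons, ← hs]
  rw [List.nodup_append] at hL
  obtain ⟨h1, h2, h3⟩ := hL
  apply m.word_not_mem_Up i one_ne_zero
  · intro p hp
    rw [List.mem_map] at hp
    obtain ⟨r, hr, rfl⟩ := hp
    exact ⟨hN r (List.mem_append_left _ hr), h3 r hr _ List.mem_cons_self⟩
  · intro p hp
    rw [List.mem_map] at hp
    obtain ⟨r, hr, rfl⟩ := hp
    refine ⟨hN r (List.mem_append_right _ (List.mem_cons_of_mem _ hr)), ?_⟩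
    rintro rfl
    exact (List.nodup_cons.1 h2).1 hr

theorem u00_not (i : Fin chevE6.rank) : u00 K ∉ modelE6.Up K i := by
  have hN := NvalE6
  apply word_map_not_mem modelE6 [56, 36, 42, 37, 39, 46] (by decide)
  · have : ∀ r ∈ [56, 36, 42, 37, 39, 46], 36 ≤ r := by decide
    rw [hN]
    exact this
  · have hr : chevE6.rank = 6 := baseE6.rank
    have h2 := i.2
    rw [pE6_val]
    have : (i : ℕ) = 0 ∨ (i : ℕ) = 1 ∨ (i : ℕ) = 2 ∨ (i : ℕ) = 3 ∨ (i : ℕ) = 4 ∨ (i : ℕ) = 5 := by omega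
    rcases this with h | h | h | h | h | h <;> rw [h] <;> decide

theorem dm_eq_one_E6 {c : ℕ → Kˣ} (h : ∀ r ∈ [56, 46, 42, 39, 37, 36], modelE6.chi c r = 1) : modelE6.dmHom c = 1 := by
  rw [← map_one modelE6.dmHom]
  apply modelE6.dm_congr
  intro i hi
  rw [← modelE6.chi_simple c hi, Pi.one_apply]
  apply h
  have := pE6_val ⟨i, hi⟩
  rw [modelE6.coe_p] at this
  change chevE6.simple i = nth [56, 46, 42, 39, 37, 36] i at this
  rw [this]
  have hr : chevE6.rank = 6 := baseE6.rank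
  have : i = 0 ∨ i = 1 ∨ i = 2 ∨ i = 3 ∨ i = 4 ∨ i = 5 := by omega
  rcases this with h | h | h | h | h | h <;> rw [h] <;> decide

/-- the centralizer in the group extended by diagonal automorphisms -/
theorem cent_H00 {a : GL chevE6.Idx K} (ha : a ∈ chevE6.group K) (c : ℕ → Kˣ)
    (h : ∀ y ∈ H00 K, (a * modelE6.dmHom c) * y = y * (a * modelE6.dmHom c)) : a * modelE6.dmHom c = 1 := by
  obtain ⟨u, hu, c', e⟩ := reg_U modelE6 ha c u00_U u00_not (by
    rw [h _ u00_mem, mul_inv_cancel_right]; exact u00_U)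
  rw [e] at h ⊢
  obtain ⟨n, hnH, hnN, w, hact, hw⟩ := exists_n0 (K := K)
  have h1 : u = 1 := reg_T modelE6 hu hnN hact hw (h n hnH).symm
  rw [h1, one_mul] at h ⊢
  have hn := baseE6.nroots
  have hn' : tabE6.n = 72 := rfl
  have hs : ∀ r ∈ [e6p2, e6m2, e6p4, e6m4], modelE6.chi c' r = 1 := by
    intro r hr
    have h2 := h _ (X_mem_H00 hr)
    rw [modelE6.dm_X] at h2
    have h3 := mul_right_cancel h2
    have hr' : r < chevE6.nroots := by
      have : ∀ r ∈ [e6p2, e6m2, e6p4, e6m4], r < 72 := by decide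
      have := this r hr
      omega
    have h4 := modelE6.X_inj hr' h3
    rw [mul_one] at h4
    exact Units.ext h4
  have hp : ∀ a b : ℕ, (a, b) ∈ [(e6p1, e6p6), (e6m1, e6m6), (e6p3, e6p5), (e6m3, e6m5)] → modelE6.Good [b, a] →
      (∀ x y : K, modelE6.X a x * modelE6.X b y = modelE6.X b y * modelE6.X a x) →
      modelE6.chi c' a = 1 ∧ modelE6.chi c' b = 1 := by
    intro a b hab hG hcom
    have h2 := h _ (XX_mem_H00 hab)
    rw [← mul_assoc, modelE6.dm_X, mul_assoc, modelE6.dm_X, ← mul_assoc] at h2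
    have h3 := mul_right_cancel h2
    rw [hcom, hcom] at h3
    obtain ⟨h4, h5⟩ := pair_inj hG h3
    rw [mul_one] at h4 h5
    exact ⟨Units.ext h5, Units.ext h4⟩
  have h1 := hp 56 36 (by decide) (e6_UJ (RingEquiv.refl K) 3 (L := [36, 56]) (by decide +kernel)).2
    (comE6 (a := 56) (c := 36) (by decide +kernel))
  have h2 := hp 42 37 (by decide) (e6_UJ (RingEquiv.refl K) 2 (L := [37, 42]) (by decide +kernel)).2
    (comE6 (a := 42) (c := 37) (by decide +kernel))
  have h3 := hs 46 (by decide)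
  have h4 := hs 39 (by decide)
  apply dm_eq_one_E6
  intro r hr
  simp only [List.mem_cons, List.not_mem_nil, or_false] at hr
  rcases hr with rfl | rfl | rfl | rfl | rfl | rfl
  · exact h1.1
  · exact h3
  · exact h2.1
  · exact h4
  · exact h2.2
  · exact h1.2

end

end Cfsg.Agent.H14.Chev
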