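import Mathlib
import Cfsg.Agent.H14_F4b
import Cfsg.Agent.H6_TwHE6

set_option autoImplicit false
set_option linter.unusedSectionVars false
set_option maxRecDepth 100000

/-!
Three classes of subgroups `F₄(2)` in `²E₆(2)`, part 2.
-/

namespace Cfsg.Agent.H14.Chev

open Cfsg Cfsg.Lie Cfsg.Lie.ChevalleyDatum Cfsg.Agent.H6 Cfsg.Agent.H6.Chev Cfsg.Agent.H6.Chev.Model
open scoped Matrix

section

variable {K : Type*} [Field K]

theorem hC_E6 (b : ℕ → Kˣ) : hC chevE6 b 0 = b 0 ^ (2 : ℤ) * b 2 ^ (-1 : ℤ) ∧ hC chevE6 b 2 = b 0 ^ (-1 : ℤ) * b 2 ^ (2 : ℤ) * b 3 ^ (-1 : ℤ) ∧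
    hC chevE6 b 4 = b 3 ^ (-1 : ℤ) * b 4 ^ (2 : ℤ) * b 5 ^ (-1 : ℤ) ∧ hC chevE6 b 5 = b 4 ^ (-1 : ℤ) * b 5 ^ (2 : ℤ) := by
  have hr : chevE6.rank = 6 := baseE6.rank
  have key : ∀ k < 6, ∀ i < 6, chevE6.cartan k (chevE6.simple i) = Chev.mt cmE6 k i := by decide +kernel
  have e : ∀ j < 6, hC chevE6 b j = ∏ i ∈ Finset.range 6, b i ^ Chev.mt cmE6 i j := by
    intro j hj
    change ∏ i ∈ Finset.range chevE6.rank, b i ^ chevE6.cartan i (chevE6.simple j) = _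
    rw [hr]
    apply Finset.prod_congr rfl
    intro i hi
    rw [key i (Finset.mem_range.1 hi) j hj]
  refine ⟨?_, ?_, ?_, ?_⟩
  · rw [e 0 (by norm_num)]
    simp [Finset.prod_range_succ, cmE6, Chev.mt]
  · rw [e 2 (by norm_num)]
    simp [Finset.prod_range_succ, cmE6, Chev.mt]
  · rw [e 4 (by norm_num)]
    simp [Finset.prod_range_succ, cmE6, Chev.mt]
  · rw [e 5 (by norm_num)]
    simp [Finset.prod_range_succ, cmE6, Chev.mt]

/-- the diagonal automorphism -/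
def cw (ω : Kˣ) : ℕ → Kˣ := fun i => if i = 0 then ω else if i = 5 then ω ^ 2 else 1

theorem cw_H (h3 : ∀ z : Kˣ, z ^ 3 = 1) (ω : Kˣ) {k : ℤ}
    (h : modelE6.dmHom (cw ω ^ k) ∈ chevE6.diagonalSubgroup K) : ω ^ k = 1 := by
  obtain ⟨b, hb⟩ := modelE6.mem_H.1 h
  rw [hHom_apply] at hb
  have e := modelE6.dm_inj hb
  have hr : chevE6.rank = 6 := baseE6.rank
  obtain ⟨c0, c2, c4, c5⟩ := hC_E6 b
  have e0 := e 0 (by omega)
  have e2 := e 2 (by omega)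
  have e4 := e 4 (by omega)
  have e5 := e 5 (by omega)
  rw [c0] at e0
  rw [c2] at e2
  rw [c4] at e4
  rw [c5] at e5
  have v0 : (cw ω ^ k) 0 = ω ^ k := by simp [cw]
  have v2 : (cw ω ^ k) 2 = 1 := by simp [cw]
  have v4 : (cw ω ^ k) 4 = 1 := by simp [cw]
  have v5 : (cw ω ^ k) 5 = (ω ^ 2) ^ k := by simp [cw]
  rw [v0] at e0
  rw [v2] at e2
  rw [v4] at e4
  rw [v5] at e5
  have h1 : (b 0 ^ (2 : ℤ) * b 2 ^ (-1 : ℤ)) * (b 0 ^ (-1 : ℤ) * b 2 ^ (2 : ℤ) * b 3 ^ (-1 : ℤ))⁻¹ *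
      (b 3 ^ (-1 : ℤ) * b 4 ^ (2 : ℤ) * b 5 ^ (-1 : ℤ)) * (b 4 ^ (-1 : ℤ) * b 5 ^ (2 : ℤ))⁻¹ =
      (b 0 * (b 2)⁻¹ * b 4 * (b 5)⁻¹) ^ 3 := by
    apply Units.ext
    push_cast
    have n0 := (b 0).ne_zero
    have n2 := (b 2).ne_zero
    have n3 := (b 3).ne_zero
    have n4 := (b 4).ne_zero
    have n5 := (b 5).ne_zero
    field_simp
  rw [h3, ← e0, ← e2, ← e4, ← e5, inv_one, mul_one, mul_one] at h1
  have h4 : (ω ^ 2) ^ k = ω ^ k * ω ^ k := by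
    rw [← zpow_natCast, ← zpow_mul, ← zpow_add]
    congr 1
    push_cast
    ring
  rw [h4, mul_inv, ← mul_assoc, mul_inv_cancel, one_mul] at h1
  exact inv_eq_one.1 h1

theorem simple_E6 {i : ℕ} (hi : i < 6) : chevE6.simple i = nth [56, 46, 42, 39, 37, 36] i := by
  have hr : chevE6.rank = 6 := baseE6.rank
  have := pE6_val ⟨i, by omega⟩
  rw [modelE6.coe_p] at this
  exact this

theorem chi_cw (ω : Kˣ) : modelE6.chi (cw ω) 56 = ω ∧ modelE6.chi (cw ω) 36 = ω ^ 2 ∧ modelE6.chi (cw ω) 42 = 1 ∧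
    modelE6.chi (cw ω) 37 = 1 ∧ modelE6.chi (cw ω) 46 = 1 ∧ modelE6.chi (cw ω) 39 = 1 ∧
    modelE6.chi (cw ω) 15 = ω⁻¹ ∧ modelE6.chi (cw ω) 35 = (ω ^ 2)⁻¹ ∧ modelE6.chi (cw ω) 29 = 1 ∧
    modelE6.chi (cw ω) 34 = 1 ∧ modelE6.chi (cw ω) 25 = 1 ∧ modelE6.chi (cw ω) 32 = 1 := by
  have hr : chevE6.rank = 6 := baseE6.rank
  have hn := baseE6.nroots
  have hn' : tabE6.n = 72 := rfl
  have key : ∀ i < 6, modelE6.chi (cw ω) (nth [56, 46, 42, 39, 37, 36] i) = cw ω i := by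
    intro i hi
    rw [← simple_E6 hi, modelE6.chi_simple _ (by omega)]
  have kneg : ∀ a b : ℕ, a < 72 → chevE6.neg a = b → modelE6.chi (cw ω) b = (modelE6.chi (cw ω) a)⁻¹ := by
    intro a b ha hab
    rw [← hab, modelE6.chi_neg _ (by omega)]
  have h0 : modelE6.chi (cw ω) 56 = ω := key 0 (by norm_num)
  have h5 : modelE6.chi (cw ω) 36 = ω ^ 2 := key 5 (by norm_num)
  have h2 : modelE6.chi (cw ω) 42 = 1 := key 2 (by norm_num)
  have h4 : modelE6.chi (cw ω) 37 = 1 := key 4 (by norm_num)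
  have h1 : modelE6.chi (cw ω) 46 = 1 := key 1 (by norm_num)
  have h3 : modelE6.chi (cw ω) 39 = 1 := key 3 (by norm_num)
  refine ⟨h0, h5, h2, h4, h1, h3, ?_, ?_, ?_, ?_, ?_, ?_⟩
  · rw [kneg 56 15 (by norm_num) (by decide +kernel), h0]
  · rw [kneg 36 35 (by norm_num) (by decide +kernel), h5]
  · rw [kneg 42 29 (by norm_num) (by decide +kernel), h2, inv_one]
  · rw [kneg 37 34 (by norm_num) (by decide +kernel), h4, inv_one]
  · rw [kneg 46 25 (by norm_num) (by decide +kernel), h1, inv_one]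
  · rw [kneg 39 32 (by norm_num) (by decide +kernel), h3, inv_one]

theorem dm_conj_X {D : ChevalleyDatum} (m : Model D) (c : ℕ → Kˣ) (r : ℕ) (t : K) :
    m.dmHom c * m.X r t * (m.dmHom c)⁻¹ = m.X r (((m.chi c r : Kˣ) : K) * t) := by
  rw [m.dm_X, mul_inv_cancel_right]

theorem cw_norm (ω : Kˣ) {g : GL chevE6.Idx K} (hg : g ∈ twistedE6 K 2) :
    modelE6.dmHom (cw ω) * g * (modelE6.dmHom (cw ω))⁻¹ ∈ twistedE6 K 2 := by
  obtain ⟨c56, c36, c42, c37, c46, c39, c15, c35, c29, c34, c25, c32⟩ := chi_cw ω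
  have h : twistedE6 K 2 ≤ (twistedE6 K 2).comap (MulAut.conj (modelE6.dmHom (cw ω))).toMonoidHom := by
    apply modelE6.genSub_le
    rintro w (⟨t, ht, r, hr, rfl⟩ | ⟨t, rs, hrs, rfl⟩)
    · rw [Model.word_cons, Model.word_nil, mul_one, Subgroup.mem_comap]
      change modelE6.dmHom (cw ω) * modelE6.X r t * (modelE6.dmHom (cw ω))⁻¹ ∈ _
      rw [dm_conj_X]
      have : modelE6.chi (cw ω) r = 1 := by
        simp only [List.mem_cons, List.not_mem_nil, or_false] at hr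
        rcases hr with rfl | rfl | rfl | rfl
        · exact c46
        · exact c25
        · exact c39
        · exact c32
      rw [this, Units.val_one, one_mul]
      exact e6_single_G ht hr
    · rw [Model.word_cons, Model.word_cons, Model.word_nil, mul_one, Subgroup.mem_comap]
      change modelE6.dmHom (cw ω) * (modelE6.X rs.1 t * modelE6.X rs.2 (t ^ 2)) * (modelE6.dmHom (cw ω))⁻¹ ∈ _
      have e : modelE6.dmHom (cw ω) * (modelE6.X rs.1 t * modelE6.X rs.2 (t ^ 2)) * (modelE6.dmHom (cw ω))⁻¹ =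
        (modelE6.dmHom (cw ω) * modelE6.X rs.1 t * (modelE6.dmHom (cw ω))⁻¹) *
        (modelE6.dmHom (cw ω) * modelE6.X rs.2 (t ^ 2) * (modelE6.dmHom (cw ω))⁻¹) := by group
      rw [e, dm_conj_X, dm_conj_X]
      have : modelE6.chi (cw ω) rs.2 = modelE6.chi (cw ω) rs.1 ^ 2 := by
        simp only [List.mem_cons, List.not_mem_nil, or_false] at hrs
        rcases hrs with rfl | rfl | rfl | rfl
        · change modelE6.chi (cw ω) 36 = modelE6.chi (cw ω) 56 ^ 2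
          rw [c36, c56]
        · change modelE6.chi (cw ω) 35 = modelE6.chi (cw ω) 15 ^ 2
          rw [c35, c15, inv_pow]
        · change modelE6.chi (cw ω) 37 = modelE6.chi (cw ω) 42 ^ 2
          rw [c37, c42, one_pow]
        · change modelE6.chi (cw ω) 34 = modelE6.chi (cw ω) 29 ^ 2
          rw [c34, c29, one_pow]
      rw [this, Units.val_pow_eq_pow_val, ← mul_pow]
      exact e6_pair_G _ hrs
  exact h hg

end

section

variable {K : Type*} [Field K] [CharP K 2]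

theorem alg1 {G : Type*} [Group G] (d g g' : G) (i j : ℤ) : (d ^ (-j) * g * d ^ i)⁻¹ * ((d ^ 2) ^ (-j) * g' * (d ^ 2) ^ i) =
    ((d ^ (-i) * g⁻¹ * (d ^ (-i))⁻¹) * (d ^ (-i-j) * g' * (d ^ (-i-j))⁻¹)) * d ^ (i - j) := by
  group

theorem nonconj (h3 : ∀ z : Kˣ, z ^ 3 = 1) (ω : Kˣ) {g : GL chevE6.Idx K} (hg : g ∈ chevE6.group K) (i j : ℤ)
    (h : ∀ y ∈ H00 K, (modelE6.dmHom (cw ω) ^ (-j) * g * modelE6.dmHom (cw ω) ^ i) * y *
      (modelE6.dmHom (cw ω) ^ (-j) * g * modelE6.dmHom (cw ω) ^ i)⁻¹ ∈ H00 K) : ω ^ (i - j) = 1 := by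
  set d := modelE6.dmHom (cw ω) with hd
  set n := d ^ (-j) * g * d ^ i with hn
  have hfd : fr chevE6 (frobenius K 2) d = d ^ 2 := by
    rw [hd, fr_dm, ← map_pow]
    congr 1
  have hG : ∀ (k : ℤ) {x : GL chevE6.Idx K}, x ∈ chevE6.group K → d ^ k * x * (d ^ k)⁻¹ ∈ chevE6.group K := by
    intro k x hx
    rw [hd, ← map_zpow]
    exact (dm_conj_G modelE6 _).2 hx
  have e : n⁻¹ * fr chevE6 (frobenius K 2) n =
      ((d ^ (-i) * g⁻¹ * (d ^ (-i))⁻¹) * (d ^ (-i-j) * fr chevE6 (frobenius K 2) g * (d ^ (-i-j))⁻¹)) * d ^ (i - j) := by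
    rw [← alg1, ← hn]
    congr 1
    rw [hn, map_mul, map_mul, map_zpow, map_zpow, hfd]
  have hfg : fr chevE6 (frobenius K 2) g ∈ chevE6.group K := fr_G modelE6 _ hg
  have ha : (d ^ (-i) * g⁻¹ * (d ^ (-i))⁻¹) * (d ^ (-i-j) * fr chevE6 (frobenius K 2) g * (d ^ (-i-j))⁻¹) ∈ chevE6.group K :=
    mul_mem (hG _ (inv_mem hg)) (hG _ hfg)
  have hdk : d ^ (i - j) = modelE6.dmHom (cw ω ^ (i - j)) := by rw [map_zpow]
  rw [hdk] at e
  have hc : ∀ y ∈ H00 K, (n⁻¹ * fr chevE6 (frobenius K 2) n) * y = y * (n⁻¹ * fr chevE6 (frobenius K 2) n) := by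
    intro y hy
    have h1 := fr_H00 (frobenius K 2) (h y hy)
    rw [map_mul, map_mul, map_inv, fr_H00 (frobenius K 2) hy] at h1
    have h2 : fr chevE6 (frobenius K 2) n * y = n * y * n⁻¹ * fr chevE6 (frobenius K 2) n := by
      rw [← h1, inv_mul_cancel_right]
    rw [mul_assoc, h2]
    group
  rw [e] at hc
  have h1 := cent_H00 ha (cw ω ^ (i - j)) hc
  have h2 : modelE6.dmHom (cw ω ^ (i - j)) ∈ chevE6.group K := by
    rw [eq_inv_of_mul_eq_one_right h1]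
    exact inv_mem ha
  exact cw_H h3 ω (dm_mem_H modelE6 h2)

theorem dpow_norm (ω : Kˣ) {g : GL chevE6.Idx K} (hg : g ∈ twistedE6 K 2) (k : ℤ) :
    modelE6.dmHom (cw ω) ^ k * g * (modelE6.dmHom (cw ω) ^ k)⁻¹ ∈ twistedE6 K 2 := by
  have h1 : modelE6.dmHom (cw ω) ∈ Subgroup.normalizer (twistedE6 K 2 : Set (GL chevE6.Idx K)) := by
    apply mem_normalizer_of_conj
    · intro x hx
      have e1 : (modelE6.dmHom (cw ω))⁻¹ = modelE6.dmHom (cw (ω⁻¹)) := by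
        rw [← map_inv]
        congr 1
        ext k
        simp only [cw, Pi.inv_apply]
        split_ifs <;> simp
      have := cw_norm (ω⁻¹) hx
      rwa [← e1, inv_inv] at this
    · intro x hx
      exact cw_norm ω hx
  exact (Subgroup.mem_normalizer_iff.1 (zpow_mem h1 k) _).1 hg

end

theorem charP_two {K : Type*} [Field K] [Fintype K] (hK : Fintype.card K = 4) : CharP K 2 := by
  obtain ⟨p, hp⟩ := CharP.exists K
  obtain ⟨n, hpp, hn⟩ := FiniteField.card K p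
  rw [hK] at hn
  have : p ∣ 4 := by rw [hn]; exact dvd_pow_self p n.2.ne'
  have h2 : p ∣ 2 := hpp.dvd_of_dvd_pow (show p ∣ 2 ^ 2 by norm_num; exact this)
  have : p = 2 := (Nat.prime_dvd_prime_iff_eq hpp Nat.prime_two).1 h2
  rw [← this]
  exact hp

theorem s5743 {K : Type*} [Field K] [Fintype K] (hK : Fintype.card K = 4) :
    ∃ H : Fin 3 → Subgroup (Cfsg.Lie.twistedE6 K 2),
      (∀ i, Nonempty ((H i) ≃* Cfsg.Lie.chevF4.group (ZMod 2))) ∧
      (∀ i j, i ≠ j → ∀ g : (Cfsg.Lie.twistedE6 K 2), (H i).map (MulAut.conj g).toMonoidHom ≠ H j) := by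
  haveI := charP_two hK
  have hcard : Nat.card Kˣ = 3 := by
    rw [Nat.card_units, Nat.card_eq_fintype_card, hK]
  have h3 : ∀ z : Kˣ, z ^ 3 = 1 := fun z => by rw [← hcard]; exact pow_card_eq_one'
  obtain ⟨ω, hω⟩ : ∃ ω : Kˣ, ω ≠ 1 := by
    by_contra hc
    push Not at hc
    have : Nat.card Kˣ ≤ 1 := by
      haveI : Subsingleton Kˣ := ⟨fun a b => by rw [hc a, hc b]⟩
      exact Finite.card_le_one_iff_subsingleton.2 this
    omega
  have ho : orderOf ω = 3 := by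
    have h1 : orderOf ω ∣ 3 := orderOf_dvd_of_pow_eq_one (h3 ω)
    rcases (Nat.dvd_prime Nat.prime_three).1 h1 with h | h
    · exact absurd (orderOf_eq_one_iff.1 h) hω
    · exact h
  let d := modelE6.dmHom (cw ω)
  let Hs : ℤ → Subgroup (GL chevE6.Idx K) := fun k => (H00 K).map (MulAut.conj (d ^ k)).toMonoidHom
  have hHs : ∀ k, Hs k ≤ twistedE6 K 2 := by
    rintro k _ ⟨y, hy, rfl⟩
    exact dpow_norm ω (H00_le hy) k
  refine ⟨fun i => (Hs ((i : ℕ) : ℤ)).subgroupOf (twistedE6 K 2), ?_, ?_⟩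
  · intro i
    obtain ⟨e⟩ := H00_iso (K := K)
    exact ⟨(Subgroup.subgroupOfEquivOfLe (hHs _)).trans (((H00 K).equivMapOfInjective _ (MulAut.conj (d ^ ((i : ℕ) : ℤ))).injective).symm.trans e)⟩
  · intro i j hij g hg
    have key : ω ^ (((i : ℕ) : ℤ) - ((j : ℕ) : ℤ)) = 1 := by
      have hgG : (g : GL chevE6.Idx K) ∈ chevE6.group K := by
        have h1 : twistedE6 K 2 ≤ chevE6.group K := by
          apply modelE6.genSub_le
          intro w _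
          exact modelE6.gen_le_G _ (modelE6.word_mem_gen (R := fun _ => True) (fun _ _ => trivial))
        exact h1 g.2
      apply nonconj h3 ω hgG
      intro y hy
      have h1 : d ^ ((i : ℕ) : ℤ) * y * (d ^ ((i : ℕ) : ℤ))⁻¹ ∈ Hs ((i : ℕ) : ℤ) := ⟨y, hy, rfl⟩
      have h2 : g * (⟨_, hHs _ h1⟩ : ↥(twistedE6 K 2)) * g⁻¹ ∈ (Hs ((j : ℕ) : ℤ)).subgroupOf (twistedE6 K 2) := by
        have hg' : ((Hs ((i : ℕ) : ℤ)).subgroupOf (twistedE6 K 2)).map (MulAut.conj g).toMonoidHom = (Hs ((j : ℕ) : ℤ)).subgroupOf (twistedE6 K 2) := hg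
        rw [← hg']
        exact ⟨⟨_, hHs _ h1⟩, h1, rfl⟩
      rw [Subgroup.mem_subgroupOf] at h2
      obtain ⟨y', hy', e⟩ := h2
      change d ^ ((j : ℕ) : ℤ) * y' * (d ^ ((j : ℕ) : ℤ))⁻¹ = (g : GL chevE6.Idx K) * (d ^ ((i : ℕ) : ℤ) * y * (d ^ ((i : ℕ) : ℤ))⁻¹) * (g : GL chevE6.Idx K)⁻¹ at e
      have e2 : d ^ (-((j : ℕ) : ℤ)) * (g : GL chevE6.Idx K) * d ^ ((i : ℕ) : ℤ) * y *
        (d ^ (-((j : ℕ) : ℤ)) * (g : GL chevE6.Idx K) * d ^ ((i : ℕ) : ℤ))⁻¹ = y' := by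
        have : d ^ (-((j : ℕ) : ℤ)) * (g : GL chevE6.Idx K) * d ^ ((i : ℕ) : ℤ) * y *
          (d ^ (-((j : ℕ) : ℤ)) * (g : GL chevE6.Idx K) * d ^ ((i : ℕ) : ℤ))⁻¹ =
          d ^ (-((j : ℕ) : ℤ)) * ((g : GL chevE6.Idx K) * (d ^ ((i : ℕ) : ℤ) * y * (d ^ ((i : ℕ) : ℤ))⁻¹) * (g : GL chevE6.Idx K)⁻¹) *
            d ^ ((j : ℕ) : ℤ) := by group
        rw [this, ← e]
        group
      exact e2 ▸ hy'
    rw [← orderOf_dvd_iff_zpow_eq_one, ho] at key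
    apply hij
    apply Fin.ext
    omega

end Cfsg.Agent.H14.Chev
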