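import Mathlib
import Cfsg.Agent.H14_ChevW
import Cfsg.Agent.H6_ChevO
import Cfsg.Agent.H6_ChevT

set_option autoImplicit false
set_option linter.unusedSectionVars false

/-!
Chevalley groups: relative position in the Weyl group, parabolic subgroups and minimal coset representatives.
-/

namespace Cfsg.Agent.H14.Chev

open Cfsg Cfsg.Lie Cfsg.Lie.ChevalleyDatum Cfsg.Agent.H6 Cfsg.Agent.H6.Chev Cfsg.Agent.H6.Chev.Model
open scoped Matrix

variable {D : ChevalleyDatum} {F : Type*} [Field F] (m : Model D)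

include m in
theorem exists_pos_perm {g : GL D.Idx F} (hg : g ∈ D.group F) : ∃ w ∈ m.Wg, ∃ b ∈ D.borelSubgroup F,
    ∃ n ∈ D.monomialSubgroup F, ∃ b' ∈ D.borelSubgroup F, m.Acts n w ∧ g = b * n * b' := by
  obtain ⟨b, hb, n, hn, w, hw, hact, u, hu, rfl⟩ := m.exists_bruhat' hg
  exact ⟨w, hw, b, hb, n, hn, u, U_le_B (m.Uw_le_U w hu), hact, rfl⟩

/-- relative position of `B` and `gB` -/
noncomputable def pos (g : ↥(D.group F)) : Equiv.Perm (Fin D.nroots) := (exists_pos_perm m g.2).choose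

theorem pos_mem (g : ↥(D.group F)) : pos m g ∈ m.Wg := (exists_pos_perm m g.2).choose_spec.1

theorem pos_spec (g : ↥(D.group F)) : ∃ b ∈ D.borelSubgroup F, ∃ n ∈ D.monomialSubgroup F,
    ∃ b' ∈ D.borelSubgroup F, m.Acts n (pos m g) ∧ (g : GL D.Idx F) = b * n * b' :=
  (exists_pos_perm m g.2).choose_spec.2

theorem pos_eq {g : ↥(D.group F)} {b n b' : GL D.Idx F} {w : Equiv.Perm (Fin D.nroots)} (hb : b ∈ D.borelSubgroup F)
    (hn : n ∈ D.monomialSubgroup F) (hb' : b' ∈ D.borelSubgroup F) (hw : m.Acts n w)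
    (he : (g : GL D.Idx F) = b * n * b') : pos m g = w := by
  obtain ⟨c, hc, n', hn', c', hc', hw', he'⟩ := pos_spec m g
  have h1 := m.bruhat_unique_N hc hb hn' hn hc' hb' (he'.symm.trans he)
  have h2 := (hw'.mul (m.acts_h h1))
  rw [mul_inv_cancel_left, mul_one] at h2
  exact m.acts_unique h2 hw

theorem pos_mul_left {g : ↥(D.group F)} {b : ↥(D.group F)} (hb : (b : GL D.Idx F) ∈ D.borelSubgroup F) :
    pos m (b * g) = pos m g := by
  obtain ⟨c, hc, n', hn', c', hc', hw', he'⟩ := pos_spec m g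
  refine pos_eq m (mul_mem hb hc) hn' hc' hw' ?_
  rw [Subgroup.coe_mul, he']; group

theorem pos_mul_right {g : ↥(D.group F)} {b : ↥(D.group F)} (hb : (b : GL D.Idx F) ∈ D.borelSubgroup F) :
    pos m (g * b) = pos m g := by
  obtain ⟨c, hc, n', hn', c', hc', hw', he'⟩ := pos_spec m g
  refine pos_eq m hc hn' (mul_mem hc' hb) hw' ?_
  rw [Subgroup.coe_mul, he']; group

theorem pos_inv (g : ↥(D.group F)) : pos m g⁻¹ = (pos m g)⁻¹ := by
  obtain ⟨c, hc, n', hn', c', hc', hw', he'⟩ := pos_spec m g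
  refine pos_eq m (inv_mem hc') (inv_mem hn') (inv_mem hc) (m.acts_inv hn' hw') ?_
  rw [Subgroup.coe_inv, he']; group

theorem pos_one_iff {g : ↥(D.group F)} : pos m g = 1 ↔ (g : GL D.Idx F) ∈ D.borelSubgroup F := by
  constructor
  · intro h
    obtain ⟨c, hc, n', hn', c', hc', hw', he'⟩ := pos_spec m g
    rw [h] at hw'
    rw [he']
    exact mul_mem (mul_mem hc (H_le_B (m.mem_H_of_acts_one hn' hw'))) hc'
  · intro h
    refine pos_eq m h (one_mem _) (one_mem _) ?_ (by group)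
    exact m.acts_h (one_mem _)

/-- left multiplication by an element of `P_J` changes the position by an element of `W_J` -/
theorem pos_parabolic_mul {J : Set ℕ} {x : ↥(D.group F)} (hx : (x : GL D.Idx F) ∈ D.parabolicSubgroup F J) :
    ∀ g : ↥(D.group F), ∃ a ∈ m.WJ J, pos m (x * g) = a * pos m g := by
  have key : ∀ y : GL D.Idx F, y ∈ D.parabolicSubgroup F J → ∀ hy : y ∈ D.group F, ∀ g : ↥(D.group F),
      ∃ a ∈ m.WJ J, pos m (⟨y, hy⟩ * g) = a * pos m g := by
    intro y hy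
    have hy' : y ∈ Subgroup.closure ((D.borelSubgroup F : Set (GL D.Idx F)) ∪
        {g | ∃ j ∈ J, j < D.rank ∧ (g : Matrix D.Idx D.Idx F) = D.nMat F (D.simple j) 1}) := by
      rw [Subgroup.closure_union, Subgroup.closure_eq]
      exact hy
    refine Subgroup.closure_induction (p := fun y _ => ∀ hy : y ∈ D.group F, ∀ g : ↥(D.group F),
      ∃ a ∈ m.WJ J, pos m (⟨y, hy⟩ * g) = a * pos m g) ?_ ?_ ?_ ?_ hy'
    · rintro y (hyB | ⟨j, hj, hjr, hyj⟩) hyG g
      · exact ⟨1, one_mem _, by rw [pos_mul_left m hyB, one_mul]⟩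
      · have hyn : y = m.n F j := Units.ext (by rw [hyj, m.coe_n])
        subst hyn
        obtain ⟨c, hc, n', hn', c', hc', hw', he'⟩ := pos_spec m g
        rcases m.n_mul_B_mul_N ⟨j, hjr⟩ hc hn' with ⟨b, hb, b', hb', he⟩ | ⟨b, hb, b', hb', he⟩
        · refine ⟨m.sr ⟨j, hjr⟩, m.sr_mem_WJ hj, ?_⟩
          refine pos_eq m hb (mul_mem (m.n_mem_N ⟨j, hjr⟩) hn') (mul_mem hb' hc') ((m.acts_n ⟨j, hjr⟩).mul hw') ?_
          rw [Subgroup.coe_mul, he']
          change m.n F j * (c * n' * c') = _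
          calc m.n F j * (c * n' * c') = (m.n F j * c * n') * c' := by group
            _ = _ := by rw [he]; group
        · refine ⟨1, one_mem _, ?_⟩
          rw [one_mul]
          refine pos_eq m hb hn' (mul_mem hb' hc') hw' ?_
          rw [Subgroup.coe_mul, he']
          change m.n F j * (c * n' * c') = _
          calc m.n F j * (c * n' * c') = (m.n F j * c * n') * c' := by group
            _ = _ := by rw [he]; group
    · intro h1 g
      refine ⟨1, one_mem _, ?_⟩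
      have : (⟨1, h1⟩ : ↥(D.group F)) = 1 := rfl
      rw [this, one_mul, one_mul]
    · intro y z hy hz ihy ihz hyz g
      have hyG : y ∈ D.group F := by
        have : y ∈ D.parabolicSubgroup F J := by
          rw [Subgroup.closure_union, Subgroup.closure_eq] at hy; exact hy
        exact m.parabolic_le_G J this
      have hzG : z ∈ D.group F := by
        have : z ∈ D.parabolicSubgroup F J := by
          rw [Subgroup.closure_union, Subgroup.closure_eq] at hz; exact hz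
        exact m.parabolic_le_G J this
      obtain ⟨a, ha, h1⟩ := ihz hzG g
      obtain ⟨a', ha', h2⟩ := ihy hyG (⟨z, hzG⟩ * g)
      refine ⟨a' * a, mul_mem ha' ha, ?_⟩
      have : (⟨y * z, hyz⟩ : ↥(D.group F)) * g = ⟨y, hyG⟩ * (⟨z, hzG⟩ * g) := by
        rw [← mul_assoc]; rfl
      rw [this, h2, h1, mul_assoc]
    · intro y hy ihy hyi g
      have hyG : y ∈ D.group F := by
        have : y ∈ D.parabolicSubgroup F J := by
          rw [Subgroup.closure_union, Subgroup.closure_eq] at hy; exact hy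
        exact m.parabolic_le_G J this
      obtain ⟨a, ha, h1⟩ := ihy hyG (⟨y⁻¹, hyi⟩ * g)
      refine ⟨a⁻¹, inv_mem ha, ?_⟩
      have : (⟨y, hyG⟩ : ↥(D.group F)) * (⟨y⁻¹, hyi⟩ * g) = g := by
        apply Subtype.ext
        simp
      rw [this] at h1
      rw [h1, inv_mul_cancel_left]
  intro g
  exact key x hx x.2 g

theorem pos_mem_WJ {J : Set ℕ} {x : ↥(D.group F)} (hx : (x : GL D.Idx F) ∈ D.parabolicSubgroup F J) :
    pos m x ∈ m.WJ J := by
  obtain ⟨a, ha, h⟩ := pos_parabolic_mul m hx 1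
  have h1 : pos m (1 : ↥(D.group F)) = 1 := (pos_one_iff m).2 (one_mem _)
  rw [mul_one, h1, mul_one] at h
  rw [h]; exact ha

theorem nl_mem_parabolic {J : Set ℕ} {l : List (Fin D.rank)} (h : ∀ i ∈ l, (i : ℕ) ∈ J) :
    m.nl F l ∈ D.parabolicSubgroup F J := by
  unfold Model.nl
  apply Subgroup.list_prod_mem
  intro x hx
  rw [List.mem_map] at hx
  obtain ⟨i, hi, rfl⟩ := hx
  exact m.n_mem_parabolic (h i hi) i.2

theorem mem_parabolic_iff {J : Set ℕ} {x : ↥(D.group F)} :
    (x : GL D.Idx F) ∈ D.parabolicSubgroup F J ↔ pos m x ∈ m.WJ J := by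
  refine ⟨pos_mem_WJ m, fun h => ?_⟩
  obtain ⟨l, hl, hw⟩ := m.exists_wlJ h
  obtain ⟨c, hc, n', hn', c', hc', hw', he'⟩ := pos_spec m x
  have h1 : (m.nl F l)⁻¹ * n' ∈ D.diagonalSubgroup F := by
    apply m.mem_H_of_acts_one (mul_mem (inv_mem (m.nl_mem_N l)) hn')
    have := (m.acts_inv (m.nl_mem_N l) (m.acts_nl l)).mul hw'
    rwa [hw, inv_mul_cancel] at this
  have h2 : n' = m.nl F l * ((m.nl F l)⁻¹ * n') := by group
  rw [he', h2]
  exact mul_mem (mul_mem (m.B_le_parabolic J hc) (mul_mem (nl_mem_parabolic m hl) (m.B_le_parabolic J (H_le_B h1))))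
    (m.B_le_parabolic J hc')

/-- a Weyl group element positive on the simple roots of `J` is positive on `Φ_J⁺` -/
theorem pos_of_simple {J : Set ℕ} {w : Equiv.Perm (Fin D.nroots)} (hw : w ∈ m.Wg)
    (h : ∀ j : Fin D.rank, (j : ℕ) ∈ J → m.N ≤ w (m.p j)) {r : Fin D.nroots} (hr : m.N ≤ r)
    (hJ : D.InRootSub J r) : m.N ≤ w r := by
  by_contra hc
  rw [not_le] at hc
  have h1 := m.lam_neg' hc
  have h2 := (m.isW hw).evr m.wt r
  rw [← m.lam_eq_evr] at h2
  have h3 : 0 ≤ m.evr (fun k => if h : k < D.rank then m.evr m.wt (w (m.p ⟨k, h⟩)) else 0) r := by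
    unfold Model.evr
    apply Finset.sum_nonneg
    intro j hj
    have hj' := Finset.mem_range.1 hj
    beta_reduce
    rw [dif_pos hj']
    by_cases hjJ : j ∈ J
    · apply mul_nonneg (m.coef_nonneg r hr r.2 j hj')
      have := m.lam_pos (w (m.p ⟨j, hj'⟩)).2 (h ⟨j, hj'⟩ hjJ)
      exact this.le
    · rw [(m.inRootSub_iff' r.2).1 hJ j hj' hjJ, zero_mul]
  omega

/-- position of a product -/
theorem pos_mul_parabolic {J : Set ℕ} {g x : ↥(D.group F)}
    (hg : ∀ j : Fin D.rank, (j : ℕ) ∈ J → m.N ≤ pos m g (m.p j)) (hx : (x : GL D.Idx F) ∈ D.parabolicSubgroup F J) :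
    pos m (g * x) = pos m g * pos m x := by
  obtain ⟨b, hb, n, hn, b1, hb1, hw, he⟩ := pos_spec m g
  obtain ⟨b2, hb2, n', hn', b3, hb3, hw', he'⟩ := pos_spec m x
  have hn'P : n' ∈ D.parabolicSubgroup F J := by
    have : n' = b2⁻¹ * x * b3⁻¹ := by rw [he']; group
    rw [this]
    exact mul_mem (mul_mem (inv_mem (m.B_le_parabolic J hb2)) hx) (inv_mem (m.B_le_parabolic J hb3))
  obtain ⟨u, hu, h, hh, hc⟩ := m.mem_B.1 (mul_mem hb1 hb2)
  obtain ⟨a, ha, a', ha', hu2⟩ := m.U_eq_mul (R₁ := fun r => m.N ≤ r ∧ D.InRootSub J r)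
    (R₂ := fun r => m.N ≤ r ∧ ¬ D.InRootSub J r) (fun r h1 h2 => by
      by_cases h3 : D.InRootSub J r
      · exact Or.inl ⟨h1, h3⟩
      · exact Or.inr ⟨h1, h3⟩) (fun r h => h.1) (fun r h => h.1) hu
  have h1 : n * a * n⁻¹ ∈ D.posUnipotent F := by
    have h2 : m.gen F (fun r => m.N ≤ r ∧ D.InRootSub J r) ≤
        (D.posUnipotent F).comap (MulAut.conj n).toMonoidHom := by
      apply m.gen_le
      rintro r hr ⟨hN, hrJ⟩ t
      change n * m.X r t * n⁻¹ ∈ D.posUnipotent F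
      obtain ⟨v, hv⟩ := m.exists_conj_eq' hw ⟨r, hr⟩ t
      change n * m.X r t * n⁻¹ = _ at hv
      rw [hv, m.posUnipotent_eq]
      exact m.X_mem_gen (R := fun r => m.N ≤ r) (pos_of_simple m (pos_mem m g) hg (r := ⟨r, hr⟩) hN hrJ) _
    exact h2 ha
  have h2 : n'⁻¹ * a' * n' ∈ D.posUnipotent F := by
    have h3 := m.parabolic_norm (F := F) J (inv_mem hn'P)
    rw [m.unipotentRadical_eq] at h3
    have h4 := (Subgroup.mem_normalizer_iff.1 h3 a').1 ha'
    rw [inv_inv] at h4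
    rw [m.posUnipotent_eq]
    exact m.gen_mono (fun r _ h => h.1) h4
  have h3 : n'⁻¹ * h * n' ∈ D.diagonalSubgroup F := by
    have := (Subgroup.mem_normalizer_iff.1 (m.N_le_normalizer (inv_mem hn')) h).1 hh
    rwa [inv_inv] at this
  refine pos_eq m (mul_mem hb (U_le_B h1)) (mul_mem hn hn')
    (mul_mem (mul_mem (U_le_B h2) (H_le_B h3)) hb3) (hw.mul hw') ?_
  rw [Subgroup.coe_mul, he, he']
  calc b * n * b1 * (b2 * n' * b3) = b * n * (b1 * b2) * n' * b3 := by group
    _ = b * n * (a * a' * h) * n' * b3 := by rw [hc, hu2]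
    _ = _ := by group

/-- uniqueness of the minimal coset representative -/
theorem min_unique {J : Set ℕ} {g x : ↥(D.group F)}
    (hg : ∀ j : Fin D.rank, (j : ℕ) ∈ J → m.N ≤ pos m g (m.p j))
    (hg' : ∀ j : Fin D.rank, (j : ℕ) ∈ J → m.N ≤ pos m (g * x) (m.p j))
    (hx : (x : GL D.Idx F) ∈ D.parabolicSubgroup F J) : (x : GL D.Idx F) ∈ D.borelSubgroup F := by
  rw [← pos_one_iff m]
  by_contra hne
  have h1 := pos_mem_WJ m hx
  obtain ⟨j, hj, hneg⟩ := m.exists_neg h1 hne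
  have h2 := hg' j hj
  rw [pos_mul_parabolic m hg hx, Equiv.Perm.mul_apply] at h2
  have h3 : D.InRootSub J (m.p j) := m.inRootSub_simple hj j.2
  have h4 : D.InRootSub J (pos m x (m.p j)) := m.inRootSub_WJ h1 h3
  have h5 : D.InRootSub J (m.ng (pos m x (m.p j))) := m.inRootSub_neg (pos m x (m.p j)).2 h4
  have h6 : m.N ≤ (m.ng (pos m x (m.p j)) : ℕ) := (m.ng_ge_iff _).2 hneg
  have h7 := pos_of_simple m (pos_mem m g) hg h6 h5
  rw [(m.isW (pos_mem m g)).neg, m.ng_ge_iff] at h7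
  omega

/-- existence of the minimal coset representative -/
theorem min_exists (J : Set ℕ) (g : ↥(D.group F)) : ∃ x : ↥(D.group F), (x : GL D.Idx F) ∈ D.parabolicSubgroup F J ∧
    ∀ j : Fin D.rank, (j : ℕ) ∈ J → m.N ≤ pos m (g * x) (m.p j) := by
  classical
  have key : ∀ (k : ℕ) (g : ↥(D.group F)), (m.inv (pos m g)).card = k → ∃ x : ↥(D.group F), (x : GL D.Idx F) ∈ D.parabolicSubgroup F J ∧
    ∀ j : Fin D.rank, (j : ℕ) ∈ J → m.N ≤ pos m (g * x) (m.p j) := by
    intro k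
    induction k using Nat.strong_induction_on with
    | _ k ih =>
      intro g hk
      by_cases h : ∀ j : Fin D.rank, (j : ℕ) ∈ J → m.N ≤ pos m g (m.p j)
      · exact ⟨1, one_mem _, by rwa [mul_one]⟩
      · push Not at h
        obtain ⟨j, hj, hneg⟩ := h
        obtain ⟨b, hb, n, hn, b1, hb1, hw, he⟩ := pos_spec m g
        have hnj : m.n F j ∈ D.parabolicSubgroup F J := m.n_mem_parabolic hj j.2
        have hyP : b1⁻¹ * m.n F j ∈ D.parabolicSubgroup F J := mul_mem (inv_mem (m.B_le_parabolic J hb1)) hnj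
        set y : ↥(D.group F) := ⟨b1⁻¹ * m.n F j, m.parabolic_le_G J hyP⟩ with hy
        have h1 : pos m (g * y) = pos m g * m.sr j := by
          refine pos_eq m hb (mul_mem hn (m.n_mem_N j)) (one_mem _) (hw.mul (m.acts_n j)) ?_
          rw [Subgroup.coe_mul, he]
          change b * n * b1 * (b1⁻¹ * m.n F j) = _
          group
        have h2 := m.card_inv_sr (pos_mem m g) hneg
        obtain ⟨x, hx, hx2⟩ := ih (m.inv (pos m (g * y))).card (by rw [h1]; omega) (g * y) rfl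
        refine ⟨y * x, mul_mem hyP hx, ?_⟩
        rwa [← mul_assoc]
  exact key _ g rfl

end Cfsg.Agent.H14.Chev
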