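import Mathlib
import Cfsg.Agent.H14_StA
import Cfsg.Prelude.Def_ParabolicCharacters

set_option autoImplicit false
set_option linter.unusedSectionVars false

/-!
The Steinberg character: restriction to `B`.
-/

namespace Cfsg.Agent.H14.Chev

open Cfsg Cfsg.Lie Cfsg.Lie.ChevalleyDatum Cfsg.Agent.H6 Cfsg.Agent.H6.Chev Cfsg.Agent.H6.Chev.Model
open scoped Matrix

variable {D : ChevalleyDatum} {F : Type*} [Field F] (m : Model D)

/-- the Borel subgroup inside the group -/
abbrev BG (D : ChevalleyDatum) (F : Type*) [Field F] : Subgroup ↥(D.group F) :=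
  (D.borelSubgroup F).subgroupOf (D.group F)

/-- the position of a coset of `B` -/
noncomputable def posB (y : ↥(D.group F) ⧸ BG D F) : Equiv.Perm (Fin D.nroots) :=
  Quotient.liftOn' y (pos m) (fun a b h => by
    rw [QuotientGroup.leftRel_apply, Subgroup.mem_subgroupOf] at h
    have : b = a * (a⁻¹ * b) := by group
    rw [this, pos_mul_right m h])

theorem posB_mk (g : ↥(D.group F)) : posB m (g : ↥(D.group F) ⧸ BG D F) = pos m g := rfl

theorem posB_mem (y : ↥(D.group F) ⧸ BG D F) : posB m y ∈ m.Wg := by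
  obtain ⟨g, rfl⟩ := QuotientGroup.mk_surjective y
  exact pos_mem m g

theorem posB_smul {b : ↥(D.group F)} (hb : (b : GL D.Idx F) ∈ D.borelSubgroup F) (y : ↥(D.group F) ⧸ BG D F) :
    posB m (b • y) = posB m y := by
  obtain ⟨g, rfl⟩ := QuotientGroup.mk_surjective y
  have h1 : b • (g : ↥(D.group F) ⧸ BG D F) = ((b * g : ↥(D.group F)) : ↥(D.group F) ⧸ BG D F) := 
    MulAction.Quotient.smul_mk _ b g
  rw [h1, posB_mk, posB_mk, pos_mul_left m hb]

/-- positive on the simple roots of `J` -/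
def UpJ (w : Equiv.Perm (Fin D.nroots)) (J : Set ℕ) : Prop := ∀ j : Fin D.rank, (j : ℕ) ∈ J → m.N ≤ w (m.p j)

include m in
theorem BG_le_parabolicIn (J : Finset ℕ) : BG D F ≤ D.parabolicIn F J := by
  intro x hx
  rw [Subgroup.mem_subgroupOf] at hx
  exact Subgroup.mem_subgroupOf.2 (m.B_le_parabolic _ hx)

/-- the projection `G/B → G/P_J` -/
def prJ (m : Model D) (F : Type*) [Field F] (J : Finset ℕ) : ↥(D.group F) ⧸ BG D F → ↥(D.group F) ⧸ D.parabolicIn F J :=
  Subgroup.quotientMapOfLE (BG_le_parabolicIn m J)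

theorem prJ_mk (J : Finset ℕ) (g : ↥(D.group F)) : prJ m F J (g : ↥(D.group F) ⧸ BG D F) = (g : ↥(D.group F) ⧸ D.parabolicIn F J) := rfl

theorem prJ_smul (J : Finset ℕ) (g : ↥(D.group F)) (y : ↥(D.group F) ⧸ BG D F) : prJ m F J (g • y) = g • prJ m F J y := by
  obtain ⟨x, rfl⟩ := QuotientGroup.mk_surjective y
  rw [prJ_mk]
  have h1 : g • (x : ↥(D.group F) ⧸ BG D F) = ((g * x : ↥(D.group F)) : ↥(D.group F) ⧸ BG D F) := 
    MulAction.Quotient.smul_mk _ g x
  have h2 : g • (x : ↥(D.group F) ⧸ D.parabolicIn F J) = ((g * x : ↥(D.group F)) : ↥(D.group F) ⧸ D.parabolicIn F J) := 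
    MulAction.Quotient.smul_mk _ g x
  rw [h1, h2, prJ_mk]

theorem prJ_inj {J : Finset ℕ} {y z : ↥(D.group F) ⧸ BG D F} (hy : UpJ m (posB m y) J) (hz : UpJ m (posB m z) J)
    (h : prJ m F J y = prJ m F J z) : y = z := by
  obtain ⟨g, rfl⟩ := QuotientGroup.mk_surjective y
  obtain ⟨g', rfl⟩ := QuotientGroup.mk_surjective z
  rw [prJ_mk, prJ_mk, QuotientGroup.eq] at h
  rw [QuotientGroup.eq, Subgroup.mem_subgroupOf]
  rw [posB_mk] at hy hz
  have e : g' = g * (g⁻¹ * g') := by group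
  rw [e] at hz
  exact min_unique m hy hz (Subgroup.mem_subgroupOf.1 h)

theorem prJ_surj (J : Finset ℕ) (z : ↥(D.group F) ⧸ D.parabolicIn F J) :
    ∃ y : ↥(D.group F) ⧸ BG D F, UpJ m (posB m y) J ∧ prJ m F J y = z := by
  obtain ⟨g, rfl⟩ := QuotientGroup.mk_surjective z
  obtain ⟨x, hx, h⟩ := min_exists m (J : Set ℕ) g
  refine ⟨((g * x : ↥(D.group F)) : ↥(D.group F) ⧸ BG D F), h, ?_⟩
  rw [prJ_mk, QuotientGroup.eq]
  have e : (g * x)⁻¹ * g = x⁻¹ := by group
  rw [e]
  exact inv_mem (Subgroup.mem_subgroupOf.2 hx)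

/-- fixed points of `b ∈ B` on `G/P_J` -/
theorem card_fixed (J : Finset ℕ) {b : ↥(D.group F)} (hb : (b : GL D.Idx F) ∈ D.borelSubgroup F) :
    Nat.card (MulAction.fixedBy (↥(D.group F) ⧸ D.parabolicIn F J) b) =
      Nat.card {y : ↥(D.group F) ⧸ BG D F // b • y = y ∧ UpJ m (posB m y) J} := by
  symm
  apply Nat.card_congr
  refine Equiv.ofBijective (fun y => ⟨prJ m F J y.1, ?_⟩) ⟨?_, ?_⟩
  · rw [MulAction.mem_fixedBy, ← prJ_smul, y.2.1]
  · intro y z h
    exact Subtype.ext (prJ_inj m y.2.2 z.2.2 (congrArg Subtype.val h))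
  · rintro ⟨z, hz⟩
    obtain ⟨y, hy, rfl⟩ := prJ_surj m J z
    refine ⟨⟨y, ?_, hy⟩, rfl⟩
    rw [MulAction.mem_fixedBy, ← prJ_smul] at hz
    exact prJ_inj m (by rw [posB_smul m hb]; exact hy) hy hz

/-- alternating sums over subsets -/
theorem alt_sum (S : Finset ℕ) {Y : Type*} [Finite Y] (Dy : Y → Finset ℕ) :
    ∑ J ∈ S.powerset, (-1 : ℂ) ^ J.card * (Nat.card {y : Y // J ⊆ Dy y} : ℂ) =
      (Nat.card {y : Y // S ∩ Dy y = ∅} : ℂ) := by
  classical
  have := Fintype.ofFinite Y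
  have h1 : ∀ J : Finset ℕ, (Nat.card {y : Y // J ⊆ Dy y} : ℂ) = ∑ y : Y, if J ⊆ Dy y then (1 : ℂ) else 0 := by
    intro J
    rw [Nat.card_eq_fintype_card, Fintype.card_subtype, Finset.card_filter]
    push_cast
    rfl
  have h2 : (Nat.card {y : Y // S ∩ Dy y = ∅} : ℂ) = ∑ y : Y, if S ∩ Dy y = ∅ then (1 : ℂ) else 0 := by
    rw [Nat.card_eq_fintype_card, Fintype.card_subtype, Finset.card_filter]
    push_cast
    rfl
  rw [h2]
  simp only [h1, Finset.mul_sum]
  rw [Finset.sum_comm]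
  apply Finset.sum_congr rfl
  intro y _
  have h3 : ∑ J ∈ S.powerset, (-1 : ℂ) ^ J.card * (if J ⊆ Dy y then (1 : ℂ) else 0) =
      ∑ J ∈ (S ∩ Dy y).powerset, (-1 : ℂ) ^ J.card := by
    rw [Finset.sum_subset_zero_on_sdiff (s₁ := (S ∩ Dy y).powerset) (s₂ := S.powerset)
      (f := fun J => (-1 : ℂ) ^ J.card) (g := fun J => (-1 : ℂ) ^ J.card * (if J ⊆ Dy y then (1 : ℂ) else 0))]
    · exact Finset.powerset_mono.2 Finset.inter_subset_left
    · intro J hJ
      rw [Finset.mem_sdiff, Finset.mem_powerset, Finset.mem_powerset, Finset.subset_inter_iff] at hJ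
      rw [if_neg (fun h => hJ.2 ⟨hJ.1, h⟩), mul_zero]
    · intro J hJ
      rw [Finset.mem_powerset, Finset.subset_inter_iff] at hJ
      rw [if_pos hJ.2, mul_one]
  rw [h3]
  have h4 := Finset.sum_powerset_neg_one_pow_card (x := S ∩ Dy y)
  have h5 := congrArg (fun z : ℤ => (z : ℂ)) h4
  push_cast at h5
  rw [h5]

/-- the ascent set -/
noncomputable def asc (w : Equiv.Perm (Fin D.nroots)) : Finset ℕ := by
  classical
  exact (Finset.range D.rank).filter fun j => ∃ h : j < D.rank, m.N ≤ w (m.p ⟨j, h⟩)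

theorem UpJ_iff {w : Equiv.Perm (Fin D.nroots)} {J : Finset ℕ} (hJ : J ⊆ Finset.range D.rank) :
    UpJ m w J ↔ J ⊆ asc m w := by
  classical
  unfold UpJ asc
  constructor
  · intro h j hj
    have hjr := Finset.mem_range.1 (hJ hj)
    rw [Finset.mem_filter]
    exact ⟨hJ hj, hjr, h ⟨j, hjr⟩ hj⟩
  · intro h j hj
    have := h hj
    rw [Finset.mem_filter] at this
    exact this.2.choose_spec

theorem asc_empty_iff {w : Equiv.Perm (Fin D.nroots)} : Finset.range D.rank ∩ asc m w = ∅ ↔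
    ∀ i : Fin D.rank, (w (m.p i) : ℕ) < m.N := by
  classical
  unfold asc
  constructor
  · intro h i
    by_contra hc
    have : (i : ℕ) ∈ (∅ : Finset ℕ) := by
      rw [← h, Finset.mem_inter, Finset.mem_filter]
      exact ⟨Finset.mem_range.2 i.2, Finset.mem_range.2 i.2, i.2, not_lt.1 hc⟩
    simp at this
  · intro h
    rw [Finset.eq_empty_iff_forall_notMem]
    intro j hj
    rw [Finset.mem_inter, Finset.mem_filter] at hj
    obtain ⟨_, _, hjr, hw⟩ := hj
    have := h ⟨j, hjr⟩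
    omega

/-- **The Steinberg character on `B`**: number of fixed chambers opposite to `B` -/
theorem steinberg_B [Finite F] {b : ↥(D.group F)} (hb : (b : GL D.Idx F) ∈ D.borelSubgroup F) :
    D.steinbergCharacter F b =
      (Nat.card {y : ↥(D.group F) ⧸ BG D F // b • y = y ∧ ∀ i : Fin D.rank, (posB m y (m.p i) : ℕ) < m.N} : ℂ) := by
  classical
  unfold ChevalleyDatum.steinbergCharacter fixedPointCharacter
  have h1 := alt_sum (Finset.range D.rank) (Y := {y : ↥(D.group F) ⧸ BG D F // b • y = y}) (fun y => asc m (posB m y.1))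
  have h2 : Nat.card {y : {y : ↥(D.group F) ⧸ BG D F // b • y = y} // Finset.range D.rank ∩ asc m (posB m y.1) = ∅} =
      Nat.card {y : ↥(D.group F) ⧸ BG D F // b • y = y ∧ ∀ i : Fin D.rank, (posB m y (m.p i) : ℕ) < m.N} := by
    apply Nat.card_congr
    refine (Equiv.subtypeSubtypeEquivSubtypeInter (fun y : ↥(D.group F) ⧸ BG D F => b • y = y)
      (fun y => Finset.range D.rank ∩ asc m (posB m y) = ∅)).trans (Equiv.subtypeEquivRight fun y => ?_)
    rw [asc_empty_iff]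
  rw [← h2, ← h1]
  apply Finset.sum_congr rfl
  intro J hJ
  rw [Finset.mem_powerset] at hJ
  congr 2
  rw [card_fixed m J hb]
  apply Nat.card_congr
  refine Equiv.trans (Equiv.subtypeEquivRight fun y => ?_) (Equiv.subtypeSubtypeEquivSubtypeInter (fun y : ↥(D.group F) ⧸ BG D F => b • y = y)
      (fun y => J ⊆ asc m (posB m y))).symm
  rw [UpJ_iff m hJ]

end Cfsg.Agent.H14.Chev
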