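import Mathlib
import Cfsg.Agent.H14_StB
import Cfsg.Agent.H3_CharPerm2
import Cfsg.Agent.H3_DefectZero

set_option autoImplicit false
set_option linter.unusedSectionVars false

/-!
The Steinberg character: permutation character of `B` on `B/H`, degree, irreducibility.
-/

namespace Cfsg.Agent.H14.Chev

open Cfsg Cfsg.Lie Cfsg.Lie.ChevalleyDatum Cfsg.Agent.H6 Cfsg.Agent.H6.Chev Cfsg.Agent.H6.Chev.Model
open scoped Matrix

variable {D : ChevalleyDatum} {F : Type*} [Field F] (m : Model D)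

/-- the longest element is unique -/
theorem longest_unique {w w' : Equiv.Perm (Fin D.nroots)} (hw : w ∈ m.Wg) (hw' : w' ∈ m.Wg)
    (h : ∀ i : Fin D.rank, (w (m.p i) : ℕ) < m.N) (h' : ∀ i : Fin D.rank, (w' (m.p i) : ℕ) < m.N) : w = w' := by
  have h1 : ∀ i : Fin D.rank, m.N ≤ (w⁻¹ * w')⁻¹ (m.p i) → True := fun _ _ => trivial
  have key : w' * w⁻¹ = 1 := by
    apply m.eq_one_of_pos (mul_mem hw' (inv_mem hw))
    intro i
    rw [Equiv.Perm.mul_apply]
    have h2 : (w⁻¹ (m.p i) : ℕ) < m.N := by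
      by_contra hc
      rw [not_lt] at hc
      have h3 := (m.isW hw).neg_of_simple h hc
      have h4 : w (w⁻¹ (m.p i)) = m.p i := by simp
      rw [h4] at h3
      have := m.p_pos i
      omega
    have h5 : m.N ≤ (m.ng (w⁻¹ (m.p i)) : ℕ) := (m.ng_ge_iff _).2 h2
    have h6 := (m.isW hw').neg_of_simple h' h5
    rw [(m.isW hw').neg, m.ng_lt_iff] at h6
    exact h6
  have h2 : w' = w := by
    have := congrArg (· * w) key
    simpa using this
  exact h2.symm

/-- the diagonal subgroup inside `B` -/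
def HB (D : ChevalleyDatum) (F : Type*) [Field F] : Subgroup ↥(BG D F) :=
  ((D.diagonalSubgroup F).subgroupOf (D.group F)).subgroupOf (BG D F)

/-- the action on cosets (to shortcut instance search) -/
abbrev qact {G : Type*} [Group G] (H : Subgroup G) : MulAction G (G ⧸ H) := inferInstance

instance : MulAction ↥(BG D F) (↥(BG D F) ⧸ HB D F) := qact (HB D F)

theorem mem_HB {x : ↥(BG D F)} : x ∈ HB D F ↔ ((x : ↥(D.group F)) : GL D.Idx F) ∈ D.diagonalSubgroup F := Iff.rfl

/-- chambers opposite to `B` and cosets of `H` in `B` -/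
theorem card_opp {b : ↥(D.group F)} (hb : b ∈ BG D F) :
    Nat.card {y : ↥(D.group F) ⧸ BG D F // b • y = y ∧ ∀ i : Fin D.rank, (posB m y (m.p i) : ℕ) < m.N} =
      Nat.card (MulAction.fixedBy (↥(BG D F) ⧸ HB D F) (⟨b, hb⟩ : ↥(BG D F))) := by
  obtain ⟨n, hn, w, hact, hneg, hUV, hVU⟩ := m.exists_n0 (F := F)
  have hnG : n ∈ D.group F := m.N_le_G hn
  set n0 : ↥(D.group F) := ⟨n, hnG⟩ with hn0
  have hwW : w ∈ m.Wg := by
    obtain ⟨w', hw', hact'⟩ := m.acts_N hn
    rw [m.acts_unique hact hact']; exact hw'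
  have hwneg : ∀ i : Fin D.rank, (w (m.p i) : ℕ) < m.N := fun i => (hneg _).1 (m.p_pos i)
  -- stabilizer
  have hst : ∀ x : GL D.Idx F, x ∈ D.borelSubgroup F → (n⁻¹ * x * n ∈ D.borelSubgroup F ↔ x ∈ D.diagonalSubgroup F) := by
    intro x hx
    constructor
    · intro h
      obtain ⟨u, hu, h', hh', he⟩ := m.mem_B.1 h
      rw [← m.B_inf_VH]
      refine ⟨hx, ?_⟩
      have e : x = (n * u * n⁻¹) * (n * h' * n⁻¹) := by
        have : x = n * (n⁻¹ * x * n) * n⁻¹ := by group
        rw [this, he]; group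
      rw [e]
      refine mul_mem (Subgroup.mem_sup_left ?_) (Subgroup.mem_sup_right ?_)
      · rw [← hUV, mem_map_conj]
        have : n⁻¹ * (n * u * n⁻¹) * n = u := by group
        rwa [this]
      · exact (Subgroup.mem_normalizer_iff.1 (m.N_le_normalizer hn) _).1 hh'
    · intro h
      have := (Subgroup.mem_normalizer_iff.1 (m.N_le_normalizer (inv_mem hn)) _).1 h
      rw [inv_inv] at this
      exact H_le_B this
  symm
  apply Nat.card_congr
  let f : ↥(BG D F) ⧸ HB D F → ↥(D.group F) ⧸ BG D F :=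
    fun y => Quotient.liftOn' y (fun x : ↥(BG D F) => ((x.1 * n0 : ↥(D.group F)) : ↥(D.group F) ⧸ BG D F)) (by
      intro a c h
      rw [QuotientGroup.leftRel_apply, mem_HB] at h
      rw [QuotientGroup.eq, Subgroup.mem_subgroupOf]
      have e : (((a.1 * n0)⁻¹ * (c.1 * n0) : ↥(D.group F)) : GL D.Idx F) = n⁻¹ * ((a⁻¹ * c : ↥(BG D F)) : ↥(D.group F)) * n := by
        simp only [Subgroup.coe_mul, Subgroup.coe_inv, hn0]
        group
      rw [e]
      exact (hst _ (H_le_B h)).2 h)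
  have hfmk : ∀ x : ↥(BG D F), f (x : ↥(BG D F) ⧸ HB D F) =
      ((x.1 * n0 : ↥(D.group F)) : ↥(D.group F) ⧸ BG D F) := fun _ => rfl
  have hfsmul : ∀ (c : ↥(BG D F)) y, f (c • y) = c.1 • f y := by
    intro c y
    obtain ⟨x, rfl⟩ := QuotientGroup.mk_surjective y
    have h1 : c • (x : ↥(BG D F) ⧸ HB D F) = ((c * x : ↥(BG D F)) : ↥(BG D F) ⧸ HB D F) := 
      MulAction.Quotient.smul_mk _ c x
    have h2 : c.1 • ((x.1 * n0 : ↥(D.group F)) : ↥(D.group F) ⧸ BG D F) = ((c.1 * (x.1 * n0) : ↥(D.group F)) : ↥(D.group F) ⧸ BG D F) := 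
      MulAction.Quotient.smul_mk _ c.1 _
    rw [h1, hfmk, hfmk, h2, Subgroup.coe_mul, mul_assoc]
  have hfinj : Function.Injective f := by
    intro y z h
    obtain ⟨x, rfl⟩ := QuotientGroup.mk_surjective y
    obtain ⟨x', rfl⟩ := QuotientGroup.mk_surjective z
    rw [hfmk, hfmk, QuotientGroup.eq, Subgroup.mem_subgroupOf] at h
    rw [QuotientGroup.eq, mem_HB]
    have e : (((x.1 * n0)⁻¹ * (x'.1 * n0) : ↥(D.group F)) : GL D.Idx F) = n⁻¹ * ((x⁻¹ * x' : ↥(BG D F)) : ↥(D.group F)) * n := by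
      simp only [Subgroup.coe_mul, Subgroup.coe_inv, hn0]
      group
    rw [e] at h
    exact (hst _ (Subgroup.mem_subgroupOf.1 (x⁻¹ * x').2)).1 h
  have hfpos : ∀ y, ∀ i : Fin D.rank, (posB m (f y) (m.p i) : ℕ) < m.N := by
    intro y i
    obtain ⟨x, rfl⟩ := QuotientGroup.mk_surjective y
    rw [hfmk, posB_mk, pos_mul_left m (Subgroup.mem_subgroupOf.1 x.2)]
    have : pos m n0 = w := pos_eq m (one_mem _) hn (one_mem _) hact (by rw [hn0]; group)
    rw [this]
    exact hwneg i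
  refine Equiv.ofBijective (fun y => ⟨f y.1, ?_, hfpos y.1⟩) ⟨?_, ?_⟩
  · have h1 := y.2
    rw [MulAction.mem_fixedBy] at h1
    have h2 := hfsmul ⟨b, hb⟩ y.1
    rw [h1] at h2
    exact h2.symm
  · intro y z h
    exact Subtype.ext (hfinj (congrArg Subtype.val h))
  · rintro ⟨y, hy, hypos⟩
    obtain ⟨g, rfl⟩ := QuotientGroup.mk_surjective y
    rw [posB_mk] at hypos
    obtain ⟨c, hc, n', hn', c', hc', hw', he'⟩ := pos_spec m g
    have e1 : pos m g = w := longest_unique m (pos_mem m g) hwW hypos hwneg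
    rw [e1] at hw'
    have h1 : n⁻¹ * n' ∈ D.diagonalSubgroup F := by
      apply m.mem_H_of_acts_one (mul_mem (inv_mem hn) hn')
      have := (m.acts_inv hn hact).mul hw'
      rwa [inv_mul_cancel] at this
    have hcG : c ∈ D.group F := m.B_le_G hc
    have h2 : f ((⟨⟨c, hcG⟩, Subgroup.mem_subgroupOf.2 hc⟩ : ↥(BG D F)) : ↥(BG D F) ⧸ HB D F) = (g : ↥(D.group F) ⧸ BG D F) := by
      rw [hfmk, QuotientGroup.eq, Subgroup.mem_subgroupOf]
      have e : (((⟨c, hcG⟩ * n0)⁻¹ * g : ↥(D.group F)) : GL D.Idx F) = (n⁻¹ * n') * c' := by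
        rw [Subgroup.coe_mul, he', Subgroup.coe_inv, Subgroup.coe_mul]
        simp only [hn0]
        group
      rw [e]
      exact mul_mem (H_le_B h1) hc'
    refine ⟨⟨((⟨⟨c, hcG⟩, Subgroup.mem_subgroupOf.2 hc⟩ : ↥(BG D F)) : ↥(BG D F) ⧸ HB D F), ?_⟩, Subtype.ext h2⟩
    rw [MulAction.mem_fixedBy]
    apply hfinj
    rw [hfsmul, h2]
    exact hy

include m in
theorem s2313 [Finite F] (b : ↥(BG D F)) :
    D.steinbergCharacter F (((BG D F).subtype) b) =
      Cfsg.fixedPointCharacter (((D.diagonalSubgroup F).subgroupOf (D.group F)).subgroupOf (BG D F)) b := by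
  have h1 := steinberg_B m (F := F) (b := b.1) (Subgroup.mem_subgroupOf.1 b.2)
  change D.steinbergCharacter F b.1 = _
  rw [h1, card_opp m b.2]
  rfl

include m in
/-- the degree -/
theorem steinberg_one [Fintype F] : D.steinbergCharacter F 1 = ((Fintype.card F ^ m.N : ℕ) : ℂ) := by
  have h1 := s2313 m (F := F) 1
  rw [map_one] at h1
  rw [h1]
  change ((Nat.card (MulAction.fixedBy (↥(BG D F) ⧸ HB D F) (1 : ↥(BG D F))) : ℕ) : ℂ) = _
  norm_cast
  have h2 : MulAction.fixedBy (↥(BG D F) ⧸ HB D F) (1 : ↥(BG D F)) = Set.univ := by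
    ext y; simp [MulAction.mem_fixedBy]
  rw [h2, Nat.card_congr (Equiv.Set.univ _)]
  change (((D.diagonalSubgroup F).subgroupOf (D.group F)).subgroupOf (BG D F)).index = _
  have h3 : (((D.diagonalSubgroup F).subgroupOf (D.group F)).subgroupOf (BG D F)).index =
      (D.diagonalSubgroup F).relIndex (D.borelSubgroup F) := by
    change ((D.diagonalSubgroup F).subgroupOf (D.group F)).relIndex (BG D F) = _
    rw [Subgroup.relIndex_subgroupOf]
    exact m.B_le_G
  rw [h3]
  have hfin : Finite (GL D.Idx F) := inferInstance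
  have hB : Nat.card (D.borelSubgroup F) = Nat.card (D.posUnipotent F) * Nat.card (D.diagonalSubgroup F) := by
    have e : ↥(D.posUnipotent F) × ↥(D.diagonalSubgroup F) ≃ ↥(D.borelSubgroup F) := by
      refine Equiv.ofBijective (fun x => ⟨x.1 * x.2, mul_mem (U_le_B x.1.2) (H_le_B x.2.2)⟩) ⟨?_, ?_⟩
      · rintro ⟨u, h⟩ ⟨u', h'⟩ he
        have he' : (u : GL D.Idx F) * h = u' * h' := congrArg Subtype.val he
        have h4 : (u' : GL D.Idx F)⁻¹ * u ∈ D.posUnipotent F ⊓ D.diagonalSubgroup F := by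
          refine ⟨mul_mem (Subgroup.inv_mem _ u'.2) u.2, ?_⟩
          have : (u' : GL D.Idx F)⁻¹ * u = h' * (h : GL D.Idx F)⁻¹ := by
            rw [eq_mul_inv_iff_mul_eq, mul_assoc, he']; group
          rw [this]
          exact mul_mem h'.2 (Subgroup.inv_mem _ h.2)
        rw [m.U_inf_H, Subgroup.mem_bot] at h4
        have h5 : (u' : GL D.Idx F) = u := inv_mul_eq_one.1 h4
        rw [h5] at he'
        exact Prod.ext (Subtype.ext h5.symm) (Subtype.ext (mul_left_cancel he'))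
      · rintro ⟨b, hb⟩
        obtain ⟨u, hu, h, hh, rfl⟩ := m.mem_B.1 hb
        exact ⟨(⟨u, hu⟩, ⟨h, hh⟩), rfl⟩
    rw [← Nat.card_congr e, Nat.card_prod]
  have h4 : Nat.card (D.diagonalSubgroup F) * (D.diagonalSubgroup F).relIndex (D.borelSubgroup F) = Nat.card (D.borelSubgroup F) := by
    have := Subgroup.relIndex_mul_relIndex ⊥ (D.diagonalSubgroup F) (D.borelSubgroup F) bot_le H_le_B
    rwa [Subgroup.relIndex_bot_left, Subgroup.relIndex_bot_left] at this
  rw [hB, m.card_pos, mul_comm] at h4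
  have h5 : 0 < Nat.card (D.diagonalSubgroup F) := Nat.card_pos
  exact Nat.eq_of_mul_eq_mul_right h5 h4

theorem N_eq_half : D.nroots / 2 = m.N := by
  have := m.nroots_eq
  omega

end Cfsg.Agent.H14.Chev
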