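import Mathlib
import Cfsg.Agent.H14_StC

set_option autoImplicit false
set_option linter.unusedSectionVars false

/-!
The Steinberg character: double cosets of parabolic subgroups and irreducibility.
-/

namespace Cfsg.Agent.H14.Chev

open Cfsg Cfsg.Lie Cfsg.Lie.ChevalleyDatum Cfsg.Agent.H6 Cfsg.Agent.H6.Chev Cfsg.Agent.H6.Chev.Model
open scoped Matrix

variable {D : ChevalleyDatum} {F : Type*} [Field F] (m : Model D)

theorem mem_parabolicIn {J : Finset ℕ} {x : ↥(D.group F)} :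
    x ∈ D.parabolicIn F J ↔ (x : GL D.Idx F) ∈ D.parabolicSubgroup F (J : Set ℕ) := Iff.rfl

/-- minimal double coset representatives -/
def MinDC (J K : Set ℕ) (w : Equiv.Perm (Fin D.nroots)) : Prop := w ∈ m.Wg ∧ UpJ m w K ∧ UpJ m w⁻¹ J

theorem exists_word_J {J : Set ℕ} {a : Equiv.Perm (Fin D.nroots)} (ha : a ∈ m.WJ J) :
    ∃ l : List (Fin D.rank), (∀ i ∈ l, (i : ℕ) ∈ J) ∧ ((Cox.wp m.σ l : m.Wg) : Equiv.Perm (Fin D.nroots)) = a := by
  obtain ⟨l, hl, hw⟩ := m.exists_wlJ ha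
  exact ⟨l, hl, by rw [m.coe_wp, hw]⟩

/-- a minimal double coset representative is the shortest element -/
theorem dc_eq_min {J K : Set ℕ} {w : m.Wg} (hw : MinDC m J K w) {d : m.Wg} {a b : Equiv.Perm (Fin D.nroots)}
    (ha : a ∈ m.WJ J) (hb : b ∈ m.WJ K) (he : (w : Equiv.Perm (Fin D.nroots)) = a * d * b)
    (hmin : ∀ d' : m.Wg, (∃ a' ∈ m.WJ J, ∃ b' ∈ m.WJ K, (d' : Equiv.Perm (Fin D.nroots)) = a' * d * b') →
      Cox.len m.σ d ≤ Cox.len m.σ d') : w = d := by
  obtain ⟨la, hla, hla2⟩ := exists_word_J m ha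
  obtain ⟨lb, hlb, hlb2⟩ := exists_word_J m hb
  obtain ⟨ld, hld, hld2⟩ := m.invGen.exists_word d
  have h1 : Cox.wp m.σ (la ++ ld ++ lb) = w := by
    apply Subtype.ext
    rw [he, ← hla2, ← hlb2, ← hld2]
    unfold Cox.wp
    rw [List.map_append, List.map_append, List.prod_append, List.prod_append]
    rfl
  obtain ⟨l', hsub, hred, hl'⟩ := m.invGen.exists_sublist_red m.exch (la ++ ld ++ lb)
  rw [h1] at hl'
  rw [List.sublist_append_iff] at hsub
  obtain ⟨l12, lb', rfl, h12, hlb'⟩ := hsub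
  rw [List.sublist_append_iff] at h12
  obtain ⟨la', ld', rfl, hla', hld'⟩ := h12
  -- la' is empty
  have hla0 : la' = [] := by
    rcases la' with _ | ⟨j, la''⟩
    · rfl
    · exfalso
      have hj : (j : ℕ) ∈ J := hla j (hla'.subset List.mem_cons_self)
      have h2 : Cox.len m.σ (m.σ j * w) < Cox.len m.σ w := by
        have h3 : m.σ j * w = Cox.wp m.σ (la'' ++ ld' ++ lb') := by
          rw [← hl']
          have : Cox.wp m.σ (j :: la'' ++ ld' ++ lb') = m.σ j * Cox.wp m.σ (la'' ++ ld' ++ lb') := by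
            unfold Cox.wp
            simp
          rw [this, ← mul_assoc, m.invGen.sq, one_mul]
        rw [h3]
        have h4 : Cox.len m.σ (Cox.wp m.σ (la'' ++ ld' ++ lb')) ≤ (la'' ++ ld' ++ lb').length := Cox.len_le _
        have h5 : Cox.len m.σ w = (j :: la'' ++ ld' ++ lb').length := by rw [← hl']; exact hred
        rw [h5]
        simp only [List.cons_append, List.length_cons]
        omega
      rw [m.len_left_lt_iff] at h2
      have := hw.2.2 j hj
      omega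
  have hlb0 : lb' = [] := by
    rcases List.eq_nil_or_concat lb' with h | ⟨lb'', j, rfl⟩
    · exact h
    · exfalso
      have hj : (j : ℕ) ∈ K := hlb j (hlb'.subset (by simp))
      rw [List.concat_eq_append] at hlb' hred hl'
      have h2 : Cox.len m.σ (w * m.σ j) < Cox.len m.σ w := by
        have h3 : w * m.σ j = Cox.wp m.σ (la' ++ ld' ++ lb'') := by
          rw [← hl']
          have : Cox.wp m.σ (la' ++ ld' ++ (lb'' ++ [j])) = Cox.wp m.σ (la' ++ ld' ++ lb'') * m.σ j := by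
            unfold Cox.wp
            simp [mul_assoc]
          rw [this, mul_assoc, m.invGen.sq, mul_one]
        rw [h3]
        have h4 : Cox.len m.σ (Cox.wp m.σ (la' ++ ld' ++ lb'')) ≤ (la' ++ ld' ++ lb'').length := Cox.len_le _
        have h5 : Cox.len m.σ w = (la' ++ ld' ++ (lb'' ++ [j])).length := by rw [← hl']; exact hred
        rw [h5]
        simp only [List.length_append, List.length_cons, List.length_nil] at h4 ⊢
        omega
      rw [m.len_right_lt_iff] at h2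
      have := hw.2.1 j hj
      omega
  subst hla0 hlb0
  simp only [List.nil_append, List.append_nil] at hl' hred
  have h6 : Cox.len m.σ d ≤ Cox.len m.σ w := by
    apply hmin w
    exact ⟨a, ha, b, hb, he⟩
  have h7 : Cox.len m.σ w = ld'.length := by rw [← hl']; exact hred
  have h8 : ld' = ld := hld'.eq_of_length_le (by omega)
  rw [← hl', h8, hld2]

theorem dc_unique {J K : Set ℕ} {w w' : Equiv.Perm (Fin D.nroots)} (hw : MinDC m J K w) (hw' : MinDC m J K w')
    {a b : Equiv.Perm (Fin D.nroots)} (ha : a ∈ m.WJ J) (hb : b ∈ m.WJ K) (he : w' = a * w * b) : w = w' := by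
  classical
  let P : ℕ → Prop := fun k => ∃ d : m.Wg, Cox.len m.σ d = k ∧ ∃ a' ∈ m.WJ J, ∃ b' ∈ m.WJ K,
    (d : Equiv.Perm (Fin D.nroots)) = a' * w * b'
  have hP : ∃ k, P k := ⟨_, ⟨w, hw.1⟩, rfl, 1, one_mem _, 1, one_mem _, by simp⟩
  obtain ⟨d, hd, a', ha', b', hb', hd'⟩ := Nat.find_spec hP
  have hmin : ∀ d' : m.Wg, (∃ a' ∈ m.WJ J, ∃ b' ∈ m.WJ K, (d' : Equiv.Perm (Fin D.nroots)) = a' * d * b') →
      Cox.len m.σ d ≤ Cox.len m.σ d' := by
    rintro d' ⟨a'', ha'', b'', hb'', h⟩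
    rw [hd]
    apply Nat.find_min' hP
    refine ⟨d', rfl, a'' * a', mul_mem ha'' ha', b' * b'', mul_mem hb' hb'', ?_⟩
    rw [h, hd']
    group
  have h1 : (⟨w, hw.1⟩ : m.Wg) = d := by
    refine dc_eq_min m (w := ⟨w, hw.1⟩) hw (inv_mem ha') (inv_mem hb') ?_ hmin
    change w = _
    rw [hd']; group
  have h2 : (⟨w', hw'.1⟩ : m.Wg) = d := by
    refine dc_eq_min m (w := ⟨w', hw'.1⟩) hw' (a := a * a'⁻¹) (b := b'⁻¹ * b) (mul_mem ha (inv_mem ha')) (mul_mem (inv_mem hb') hb) ?_ hmin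
    change w' = _
    rw [hd', he]; group
  exact congrArg Subtype.val (h1.trans h2.symm)

theorem min_step {J : Set ℕ} {g : ↥(D.group F)} {j : Fin D.rank} (hj : (j : ℕ) ∈ J) (hneg : (pos m g (m.p j) : ℕ) < m.N) :
    ∃ y : ↥(D.group F), (y : GL D.Idx F) ∈ D.parabolicSubgroup F J ∧
      (m.inv (pos m (g * y))).card < (m.inv (pos m g)).card := by
  obtain ⟨b, hb, n, hn, b1, hb1, hw, he⟩ := pos_spec m g
  have hnj : m.n F j ∈ D.parabolicSubgroup F J := m.n_mem_parabolic hj j.2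
  have hyP : b1⁻¹ * m.n F j ∈ D.parabolicSubgroup F J := mul_mem (inv_mem (m.B_le_parabolic J hb1)) hnj
  refine ⟨⟨b1⁻¹ * m.n F j, m.parabolic_le_G J hyP⟩, hyP, ?_⟩
  have h1 : pos m (g * ⟨b1⁻¹ * m.n F j, m.parabolic_le_G J hyP⟩) = pos m g * m.sr j := by
    refine pos_eq m hb (mul_mem hn (m.n_mem_N j)) (one_mem _) (hw.mul (m.acts_n j)) ?_
    rw [Subgroup.coe_mul, he]
    change b * n * b1 * (b1⁻¹ * m.n F j) = _
    group
  have h2 := m.card_inv_sr (pos_mem m g) hneg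
  rw [h1]
  omega

/-- every double coset has a minimal representative -/
theorem dc_exists (J K : Set ℕ) (g : ↥(D.group F)) : ∃ a b : ↥(D.group F), (a : GL D.Idx F) ∈ D.parabolicSubgroup F J ∧
    (b : GL D.Idx F) ∈ D.parabolicSubgroup F K ∧ MinDC m J K (pos m (a * g * b)) := by
  classical
  let P : ℕ → Prop := fun k => ∃ a b : ↥(D.group F), (a : GL D.Idx F) ∈ D.parabolicSubgroup F J ∧
    (b : GL D.Idx F) ∈ D.parabolicSubgroup F K ∧ (m.inv (pos m (a * g * b))).card = k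
  have hP : ∃ k, P k := ⟨_, 1, 1, one_mem _, one_mem _, rfl⟩
  obtain ⟨a, b, ha, hb, hk⟩ := Nat.find_spec hP
  refine ⟨a, b, ha, hb, pos_mem m _, ?_, ?_⟩
  · intro j hj
    by_contra hc
    obtain ⟨y, hy, hlt⟩ := min_step m (J := K) hj (not_le.1 hc)
    rw [hk] at hlt
    exact Nat.find_min hP hlt ⟨a, b * y, ha, mul_mem hb hy, by rw [mul_assoc (a * g) b y]⟩
  · intro j hj
    by_contra hc
    rw [← pos_inv] at hc
    obtain ⟨y, hy, hlt⟩ := min_step m (J := J) hj (not_le.1 hc)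
    have e : (a * g * b)⁻¹ * y = (y⁻¹ * a * g * b)⁻¹ := by group
    rw [e, pos_inv, pos_inv, m.card_inv_inv (pos_mem m _), m.card_inv_inv (pos_mem m _), hk] at hlt
    exact Nat.find_min hP hlt ⟨y⁻¹ * a, b, mul_mem (inv_mem hy) ha, hb, rfl⟩

/-- the number of orbits of `G` on `G/P_J × G/P_K` -/
theorem card_orbits (J K : Finset ℕ) :
    Nat.card (Quotient (MulAction.orbitRel ↥(D.group F) ((↥(D.group F) ⧸ D.parabolicIn F J) × (↥(D.group F) ⧸ D.parabolicIn F K)))) =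
      Nat.card {w : Equiv.Perm (Fin D.nroots) // MinDC m J K w} := by
  classical
  have hex : ∀ w : {w : Equiv.Perm (Fin D.nroots) // MinDC m (J : Set ℕ) (K : Set ℕ) w}, ∃ n : ↥(D.group F),
      (n : GL D.Idx F) ∈ D.monomialSubgroup F ∧ m.Acts (n : GL D.Idx F) w.1 := by
    intro w
    obtain ⟨n, hn, h⟩ := exists_acts m (F := F) w.2.1
    exact ⟨⟨n, m.N_le_G hn⟩, hn, h⟩
  choose nw hnw hnw2 using hex
  have hposn : ∀ w, pos m (nw w) = w.1 := fun w => pos_eq m (one_mem _) (hnw w) (one_mem _) (hnw2 w) (by group)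
  symm
  apply Nat.card_congr
  refine Equiv.ofBijective (fun w => Quotient.mk _ (((1 : ↥(D.group F)) : ↥(D.group F) ⧸ D.parabolicIn F J),
    ((nw w : ↥(D.group F)) : ↥(D.group F) ⧸ D.parabolicIn F K))) ⟨?_, ?_⟩
  · intro w w' h
    have h1 := Quotient.exact h
    rw [← Quotient.eq_iff_equiv, Quotient.eq] at h1
    obtain ⟨g, hg⟩ := h1
    have hg1 : g • ((1 : ↥(D.group F)) : ↥(D.group F) ⧸ D.parabolicIn F J) = ((1 : ↥(D.group F)) : ↥(D.group F) ⧸ D.parabolicIn F J) := congrArg Prod.fst hg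
    have hg2 : g • ((nw w' : ↥(D.group F)) : ↥(D.group F) ⧸ D.parabolicIn F K) = ((nw w : ↥(D.group F)) : ↥(D.group F) ⧸ D.parabolicIn F K) := congrArg Prod.snd hg
    rw [MulAction.Quotient.smul_mk, QuotientGroup.eq, mem_parabolicIn, smul_eq_mul] at hg1 hg2
    have hgP : (g : GL D.Idx F) ∈ D.parabolicSubgroup F J := by
      have : (((g * 1)⁻¹ * 1 : ↥(D.group F)) : GL D.Idx F) = (g : GL D.Idx F)⁻¹ := by simp
      rw [this] at hg1
      exact inv_mem_iff.1 hg1
    have e : nw w = g * (nw w' * ((g * nw w')⁻¹ * nw w)) := by group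
    obtain ⟨a, ha, h3⟩ := pos_parabolic_mul m hgP (nw w' * ((g * nw w')⁻¹ * nw w))
    have h4 := pos_mul_parabolic m (J := (K : Set ℕ)) (g := nw w') (x := (g * nw w')⁻¹ * nw w)
      (by rw [hposn]; exact w'.2.2.1) hg2
    have h5 := pos_mem_WJ m hg2
    rw [← e, h4, hposn, hposn, ← mul_assoc] at h3
    exact (Subtype.ext (dc_unique m w'.2 w.2 ha h5 h3)).symm
  · intro q
    obtain ⟨⟨x, y⟩, rfl⟩ := Quotient.exists_rep q
    obtain ⟨x, rfl⟩ := QuotientGroup.mk_surjective x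
    obtain ⟨y, rfl⟩ := QuotientGroup.mk_surjective y
    obtain ⟨a, b, ha, hb, hmin⟩ := dc_exists m (J : Set ℕ) (K : Set ℕ) (x⁻¹ * y)
    obtain ⟨c, hc, n', hn', c', hc', hw', he'⟩ := pos_spec m (a * (x⁻¹ * y) * b)
    refine ⟨⟨_, hmin⟩, ?_⟩
    set w : {w : Equiv.Perm (Fin D.nroots) // MinDC m (J : Set ℕ) (K : Set ℕ) w} := ⟨pos m (a * (x⁻¹ * y) * b), hmin⟩ with hw
    apply Quotient.sound
    rw [← Quotient.eq_iff_equiv, Quotient.eq]
    have h1 : (nw w : GL D.Idx F)⁻¹ * n' ∈ D.diagonalSubgroup F := by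
      apply m.mem_H_of_acts_one (mul_mem (inv_mem (hnw w)) hn')
      have := (m.acts_inv (hnw w) (hnw2 w)).mul hw'
      have e : (w.1)⁻¹ * pos m (a * (x⁻¹ * y) * b) = 1 := by rw [hw]; simp
      rwa [e] at this
    have hcG : c ∈ D.group F := m.B_le_G hc
    set g0 : ↥(D.group F) := x * a⁻¹ * ⟨c, hcG⟩ with hg0
    refine ⟨g0⁻¹, ?_⟩
    apply Prod.ext
    · change g0⁻¹ • ((x : ↥(D.group F)) : ↥(D.group F) ⧸ D.parabolicIn F J) = ((1 : ↥(D.group F)) : ↥(D.group F) ⧸ D.parabolicIn F J)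
      rw [MulAction.Quotient.smul_mk, QuotientGroup.eq, mem_parabolicIn, smul_eq_mul]
      have e : (((g0⁻¹ * x)⁻¹ * 1 : ↥(D.group F)) : GL D.Idx F) = (a : GL D.Idx F)⁻¹ * c := by
        rw [hg0]
        simp only [Subgroup.coe_mul, Subgroup.coe_inv]
        simp [mul_assoc]
      rw [e]
      exact mul_mem (inv_mem ha) (m.B_le_parabolic _ hc)
    · change g0⁻¹ • ((y : ↥(D.group F)) : ↥(D.group F) ⧸ D.parabolicIn F K) = ((nw w : ↥(D.group F)) : ↥(D.group F) ⧸ D.parabolicIn F K)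
      rw [MulAction.Quotient.smul_mk, QuotientGroup.eq, mem_parabolicIn, smul_eq_mul]
      have e1 : (y : GL D.Idx F) = x * (a : GL D.Idx F)⁻¹ * (c * n' * c') * (b : GL D.Idx F)⁻¹ := by
        rw [← he']
        simp only [Subgroup.coe_mul, Subgroup.coe_inv]
        group
      have e : (((g0⁻¹ * y)⁻¹ * nw w : ↥(D.group F)) : GL D.Idx F) = ((nw w : GL D.Idx F)⁻¹ * n' * c' * (b : GL D.Idx F)⁻¹)⁻¹ := by
        rw [hg0]
        simp only [Subgroup.coe_mul, Subgroup.coe_inv, e1]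
        group
      rw [e]
      exact inv_mem (mul_mem (mul_mem (m.B_le_parabolic _ (H_le_B h1)) (m.B_le_parabolic _ hc')) (inv_mem hb))

end Cfsg.Agent.H14.Chev
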