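import Mathlib
import Cfsg.Agent.H14_StD

set_option autoImplicit false
set_option linter.unusedSectionVars false

/-!
The Steinberg character: irreducibility, defect zero.
-/

namespace Cfsg.Agent.H14.Chev

open Cfsg Cfsg.Lie Cfsg.Lie.ChevalleyDatum Cfsg.Agent.H6 Cfsg.Agent.H6.Chev Cfsg.Agent.H6.Chev.Model
open Cfsg.Agent.H3.CharPerm2 Cfsg.Agent.H3.CharIrr Cfsg.Agent.H3.CharComplete
open scoped Matrix ComplexConjugate

variable {D : ChevalleyDatum} {F : Type*} [Field F] (m : Model D)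

theorem inv_neg_of_neg {w : Equiv.Perm (Fin D.nroots)} (hw : w ∈ m.Wg)
    (h : ∀ i : Fin D.rank, (w (m.p i) : ℕ) < m.N) (i : Fin D.rank) : (w⁻¹ (m.p i) : ℕ) < m.N := by
  by_contra hc
  rw [not_lt] at hc
  have h3 := (m.isW hw).neg_of_simple h hc
  have h4 : w (w⁻¹ (m.p i)) = m.p i := by simp
  rw [h4] at h3
  have := m.p_pos i
  omega

theorem alt_minDC (J : Finset ℕ) (hJ : J ⊆ Finset.range D.rank) :
    ∑ K ∈ (Finset.range D.rank).powerset, (-1 : ℂ) ^ K.card * (Nat.card {w : Equiv.Perm (Fin D.nroots) // MinDC m J K w} : ℂ) =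
      if J = ∅ then 1 else 0 := by
  classical
  have h1 := alt_sum (Finset.range D.rank) (Y := {w : Equiv.Perm (Fin D.nroots) // w ∈ m.Wg ∧ UpJ m w⁻¹ J}) (fun y => asc m y.1)
  have h2 : ∀ K ∈ (Finset.range D.rank).powerset, Nat.card {w : Equiv.Perm (Fin D.nroots) // MinDC m J K w} =
      Nat.card {y : {w : Equiv.Perm (Fin D.nroots) // w ∈ m.Wg ∧ UpJ m w⁻¹ J} // K ⊆ asc m y.1} := by
    intro K hK
    rw [Finset.mem_powerset] at hK
    apply Nat.card_congr
    refine Equiv.trans (Equiv.subtypeEquivRight fun w => ?_) (Equiv.subtypeSubtypeEquivSubtypeInter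
      (fun w : Equiv.Perm (Fin D.nroots) => w ∈ m.Wg ∧ UpJ m w⁻¹ J) (fun w => K ⊆ asc m w)).symm
    rw [← UpJ_iff m hK]
    unfold MinDC
    tauto
  rw [Finset.sum_congr rfl (fun K hK => by rw [h2 K hK]), h1]
  obtain ⟨w0, hw0, hneg⟩ := m.exists_longest
  have hneg' : ∀ i : Fin D.rank, (w0 (m.p i) : ℕ) < m.N := fun i => hneg _ (m.p_pos i)
  split_ifs with hJ0
  · subst hJ0
    have h3 : Nat.card {y : {w : Equiv.Perm (Fin D.nroots) // w ∈ m.Wg ∧ UpJ m w⁻¹ ((∅ : Finset ℕ) : Set ℕ)} // Finset.range D.rank ∩ asc m y.1 = ∅} = 1 := by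
      rw [Nat.card_eq_one_iff_exists]
      refine ⟨⟨⟨w0, hw0, fun j hj => by simp at hj⟩, (asc_empty_iff m).2 hneg'⟩, ?_⟩
      rintro ⟨⟨w, hw, _⟩, h⟩
      apply Subtype.ext
      apply Subtype.ext
      exact longest_unique m hw hw0 ((asc_empty_iff m).1 h) hneg'
    rw [h3]; simp
  · have h3 : Nat.card {y : {w : Equiv.Perm (Fin D.nroots) // w ∈ m.Wg ∧ UpJ m w⁻¹ (J : Set ℕ)} // Finset.range D.rank ∩ asc m y.1 = ∅} = 0 := by
      rw [Nat.card_eq_zero]
      left
      constructor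
      rintro ⟨⟨w, hw, hw2⟩, h⟩
      obtain ⟨j, hj⟩ := Finset.nonempty_iff_ne_empty.2 hJ0
      have hjr := Finset.mem_range.1 (hJ hj)
      have h4 := inv_neg_of_neg m hw ((asc_empty_iff m).1 h) ⟨j, hjr⟩
      have h5 := hw2 ⟨j, hjr⟩ hj
      omega
    rw [h3]; simp

noncomputable instance fintG [Finite F] : Fintype ↥(D.group F) := Fintype.ofFinite _

include m in
theorem steinberg_norm [Finite F] : classInner (D.steinbergCharacter F) (D.steinbergCharacter F) = 1 := by
  classical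
  have h1 : D.steinbergCharacter F = ∑ J ∈ (Finset.range D.rank).powerset, ((-1 : ℂ) ^ J.card) •
      perm ↥(D.group F) (↥(D.group F) ⧸ D.parabolicIn F J) := by
    ext g
    simp only [Finset.sum_apply, Pi.smul_apply, smul_eq_mul]
    rfl
  rw [h1, ci_sum_left]
  have h2 : ∀ J ∈ (Finset.range D.rank).powerset,
      classInner (((-1 : ℂ) ^ J.card) • perm ↥(D.group F) (↥(D.group F) ⧸ D.parabolicIn F J))
        (∑ K ∈ (Finset.range D.rank).powerset, ((-1 : ℂ) ^ K.card) •
          perm ↥(D.group F) (↥(D.group F) ⧸ D.parabolicIn F K)) = (-1 : ℂ) ^ J.card * (if J = ∅ then 1 else 0) := by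
    intro J hJ
    rw [Finset.mem_powerset] at hJ
    rw [ci_smul_left, ci_sum_right, ← alt_minDC m J hJ]
    congr 1
    apply Finset.sum_congr rfl
    intro K _
    rw [ci_smul_right, ci_perm_perm, card_orbits m J K, map_pow, map_neg, map_one]
  rw [Finset.sum_congr rfl h2]
  rw [Finset.sum_eq_single ∅]
  · simp
  · intro J _ hJ
    rw [if_neg hJ, mul_zero]
  · intro h
    exact absurd (Finset.empty_mem_powerset _) h

include m in
theorem steinberg_irr [Fintype F] : IsIrrCharacter ↥(D.group F) (D.steinbergCharacter F) := by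
  classical
  have hgen : IsGeneralizedCharacter ↥(D.group F) (D.steinbergCharacter F) := by
    have h1 : D.steinbergCharacter F = ∑ J ∈ (Finset.range D.rank).powerset, (((-1 : ℤ) ^ J.card : ℤ) : ℂ) •
        perm ↥(D.group F) (↥(D.group F) ⧸ D.parabolicIn F J) := by
      ext g
      simp only [Finset.sum_apply, Pi.smul_apply, smul_eq_mul]
      push_cast
      rfl
    rw [h1]
    apply IsGen.sum
    intro J _
    exact IsGen.intsmul (IsGen.of_char (isChar_perm _ _)) _
  rcases isGen_norm_one hgen (steinberg_norm m) with h | h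
  · exact h
  · exfalso
    obtain ⟨d, hd⟩ := IsChar.one_eq_nat (IsIrr.isCharacter h)
    rw [Pi.neg_apply, steinberg_one m] at hd
    have h2 : (0 : ℝ) < (Fintype.card F ^ m.N : ℕ) := by
      have : 0 < Fintype.card F := Fintype.card_pos
      exact_mod_cast Nat.pow_pos this
    have h3 := congrArg Complex.re hd
    rw [Complex.neg_re, Complex.natCast_re, Complex.natCast_re] at h3
    have h4 : (0 : ℝ) ≤ (d : ℝ) := Nat.cast_nonneg _
    linarith

include m in
theorem card_U_G [Fintype F] {p : ℕ} [Fact p.Prime] [CharP F p] :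
    ∃ n, Nat.card ↥(D.group F) = Fintype.card F ^ m.N * n ∧ ¬ p ∣ n := by
  obtain ⟨Q, hQ⟩ := isSylow_U m (F := F) (p := p)
  refine ⟨(Q : Subgroup ↥(D.group F)).index, ?_, Q.not_dvd_index⟩
  rw [← Subgroup.card_mul_index (Q : Subgroup ↥(D.group F)), ← m.card_pos, hQ]
  congr 1
  exact Nat.card_congr (Subgroup.subgroupOfEquivOfLe m.U_le_G).toEquiv

include m in
theorem N_pos : 0 < m.N := by
  have h1 := m.p_pos (⟨0, m.rank_pos⟩ : Fin D.rank)
  have h2 := (m.p ⟨0, m.rank_pos⟩).2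
  have h3 := m.nroots_eq
  omega

include m in
theorem steinberg_vanish [Fintype F] {p : ℕ} [Fact p.Prime] [CharP F p] {g : ↥(D.group F)} (hg : p ∣ orderOf g) :
    D.steinbergCharacter F g = 0 := by
  obtain ⟨n, hn, hpn⟩ := card_U_G m (F := F) (p := p)
  obtain ⟨f, hp, hf⟩ := FiniteField.card F p
  have hN := N_pos m
  refine Cfsg.Agent.H3.DefectZero.vanish (p := p) (m := Fintype.card F ^ m.N) (n := n) (d := 1) Fact.out hn ?_ hpn
    (steinberg_irr m) ?_ hg
  · refine ⟨f * m.N - 1, ?_⟩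
    rw [hf, ← pow_mul, Nat.sub_add_cancel]
    exact Nat.mul_pos f.pos hN
  · rw [mul_one, steinberg_one m]

end Cfsg.Agent.H14.Chev
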