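import Mathlib
import Cfsg.Agent.H14_StE

set_option autoImplicit false
set_option linter.unusedSectionVars false

/-!
Steinberg's count of unipotent elements.
-/

namespace Cfsg.Agent.H14.Chev

open Cfsg Cfsg.Lie Cfsg.Lie.ChevalleyDatum Cfsg.Agent.H6 Cfsg.Agent.H6.Chev Cfsg.Agent.H6.Chev.Model
open scoped Matrix Pointwise

/-- Moebius inversion over subsets -/
theorem mobius (S : Finset ℕ) : ∀ a : Finset ℕ → ℂ,
    ∑ J ∈ S.powerset, (-1 : ℂ) ^ J.card * ∑ K ∈ J.powerset, (-1 : ℂ) ^ K.card * a K = a S := by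
  classical
  induction S using Finset.induction with
  | empty => intro a; simp
  | insert s S hs ih =>
    intro a
    rw [Finset.sum_powerset_insert hs]
    have h1 : ∀ J ∈ S.powerset, (-1 : ℂ) ^ (insert s J).card * ∑ K ∈ (insert s J).powerset, (-1 : ℂ) ^ K.card * a K =
        - ((-1 : ℂ) ^ J.card * ∑ K ∈ J.powerset, (-1 : ℂ) ^ K.card * a K) +
          (-1 : ℂ) ^ J.card * ∑ K ∈ J.powerset, (-1 : ℂ) ^ K.card * a (insert s K) := by
      intro J hJ
      rw [Finset.mem_powerset] at hJ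
      have hsJ : s ∉ J := fun h => hs (hJ h)
      rw [Finset.sum_powerset_insert hsJ, Finset.card_insert_of_notMem hsJ]
      have h2 : ∑ K ∈ J.powerset, (-1 : ℂ) ^ (insert s K).card * a (insert s K) =
          - ∑ K ∈ J.powerset, (-1 : ℂ) ^ K.card * a (insert s K) := by
        rw [← Finset.sum_neg_distrib]
        apply Finset.sum_congr rfl
        intro K hK
        rw [Finset.mem_powerset] at hK
        rw [Finset.card_insert_of_notMem (fun h => hsJ (hK h))]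
        ring
      rw [h2]
      ring
    rw [Finset.sum_congr rfl h1, Finset.sum_add_distrib, Finset.sum_neg_distrib, ← add_assoc, add_neg_cancel, zero_add]
    exact ih (fun K => a (insert s K))

/-- a `p`-element of `P` is conjugate in `P` into a Sylow subgroup contained in `P` -/
theorem exists_conj_mem_sylow {G : Type*} [Group G] [Finite G] {p : ℕ} [Fact p.Prime] (Q : Sylow p G) (P : Subgroup G)
    (hQP : (Q : Subgroup G) ≤ P) {v : G} (hv : v ∈ P) (hp : ∃ k : ℕ, v ^ p ^ k = 1) :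
    ∃ x ∈ P, x⁻¹ * v * x ∈ (Q : Subgroup G) := by
  have h1 : IsPGroup p (Subgroup.zpowers (⟨v, hv⟩ : P)) := by
    obtain ⟨k, hk⟩ := hp
    rintro ⟨y, hy⟩
    refine ⟨k, ?_⟩
    obtain ⟨j, rfl⟩ := Subgroup.mem_zpowers_iff.1 hy
    apply Subtype.ext
    change ((⟨v, hv⟩ : P) ^ j) ^ p ^ k = 1
    rw [← zpow_natCast, ← zpow_mul, mul_comm, zpow_mul]
    have : (⟨v, hv⟩ : P) ^ ((p ^ k : ℕ) : ℤ) = 1 := by
      rw [zpow_natCast]
      exact Subtype.ext hk
    rw [this, one_zpow]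
  obtain ⟨R, hR⟩ := h1.exists_le_sylow
  obtain ⟨x, hx⟩ := MulAction.exists_smul_eq P (Q.subtype hQP) R
  refine ⟨x, x.2, ?_⟩
  have h2 : (⟨v, hv⟩ : P) ∈ (R : Subgroup P) := hR (Subgroup.mem_zpowers _)
  rw [← hx, Sylow.coe_subgroup_smul, Subgroup.mem_pointwise_smul_iff_inv_smul_mem, ← map_inv, MulAut.smul_def,
    MulAut.conj_apply, inv_inv] at h2
  exact h2

section count

variable {G : Type*} [Group G] [Finite G]

/-- cosets of `K` represented in `P` fixed by `v` -/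
def FixIn (P K : Subgroup G) (v : G) : Set (G ⧸ K) := {z | (∃ x ∈ P, (x : G ⧸ K) = z) ∧ v • z = z}

theorem card_inP (P K : Subgroup G) (h : K ≤ P) : Nat.card {z : G ⧸ K // ∃ x ∈ P, (x : G ⧸ K) = z} * P.index = K.index := by
  have h1 : Nat.card {z : G ⧸ K // ∃ x ∈ P, (x : G ⧸ K) = z} = K.relIndex P := by
    symm
    apply Nat.card_congr
    let f : P ⧸ K.subgroupOf P → G ⧸ K := fun y => Quotient.liftOn' y (fun x : P => ((x : G) : G ⧸ K)) (by
      intro a b hab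
      rw [QuotientGroup.leftRel_apply, Subgroup.mem_subgroupOf] at hab
      exact QuotientGroup.eq.2 hab)
    have hf : ∀ x : P, f (x : P ⧸ K.subgroupOf P) = ((x : G) : G ⧸ K) := fun _ => rfl
    refine Equiv.ofBijective (fun y => ⟨f y, ?_⟩) ⟨?_, ?_⟩
    · obtain ⟨x, rfl⟩ := QuotientGroup.mk_surjective y
      exact ⟨x, x.2, hf x⟩
    · intro y z hyz
      obtain ⟨x, rfl⟩ := QuotientGroup.mk_surjective y
      obtain ⟨x', rfl⟩ := QuotientGroup.mk_surjective z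
      have h2 : f (x : P ⧸ K.subgroupOf P) = f (x' : P ⧸ K.subgroupOf P) := congrArg Subtype.val hyz
      rw [hf, hf, QuotientGroup.eq] at h2
      exact QuotientGroup.eq.2 (Subgroup.mem_subgroupOf.2 h2)
    · rintro ⟨z, x, hx, rfl⟩
      exact ⟨((⟨x, hx⟩ : P) : P ⧸ K.subgroupOf P), Subtype.ext (hf _)⟩
  rw [h1]
  exact Subgroup.relIndex_mul_index h

/-- double counting of fixed points over a conjugation-invariant set `A` -/
theorem sum_fixIn (P K : Subgroup G) (h : K ≤ P) (A : Set G) (hA : ∀ x a : G, x⁻¹ * a * x ∈ A ↔ a ∈ A) :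
    Nat.card {v : G × (G ⧸ K) // (v.1 ∈ A ∧ v.1 ∈ P) ∧ v.2 ∈ FixIn P K v.1} =
      Nat.card {z : G ⧸ K // ∃ x ∈ P, (x : G ⧸ K) = z} * Nat.card {a : G // a ∈ A ∧ a ∈ K} := by
  classical
  have h1 : ∀ z : {z : G ⧸ K // ∃ x ∈ P, (x : G ⧸ K) = z}, ∃ x ∈ P, (x : G ⧸ K) = z.1 := fun z => z.2
  choose r hr hr2 using h1
  rw [← Nat.card_prod]
  symm
  apply Nat.card_congr
  have hfix : ∀ (z : {z : G ⧸ K // ∃ x ∈ P, (x : G ⧸ K) = z}) (v : G), v • z.1 = z.1 ↔ (r z)⁻¹ * v * r z ∈ K := by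
    intro z v
    rw [← hr2 z, MulAction.Quotient.smul_mk, smul_eq_mul, eq_comm, QuotientGroup.eq, mul_assoc]
  refine
    { toFun := fun y => ⟨(r y.1 * y.2.1 * (r y.1)⁻¹, y.1.1), ⟨?_, ?_⟩, y.1.2, ?_⟩
      invFun := fun v => (⟨v.1.2, v.2.2.1⟩, ⟨(r ⟨v.1.2, v.2.2.1⟩)⁻¹ * v.1.1 * r ⟨v.1.2, v.2.2.1⟩, ?_, ?_⟩)
      left_inv := ?_
      right_inv := ?_ }
  · rw [← hA (r y.1)]
    have : (r y.1)⁻¹ * (r y.1 * y.2.1 * (r y.1)⁻¹) * r y.1 = y.2.1 := by group
    rw [this]; exact y.2.2.1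
  · exact mul_mem (mul_mem (hr _) (h y.2.2.2)) (inv_mem (hr _))
  · rw [hfix]
    have : (r y.1)⁻¹ * (r y.1 * y.2.1 * (r y.1)⁻¹) * r y.1 = y.2.1 := by group
    rw [this]; exact y.2.2.2
  · rw [hA]; exact v.2.1.1
  · exact (hfix ⟨v.1.2, v.2.2.1⟩ v.1.1).1 v.2.2.2
  · rintro ⟨z, a⟩
    apply Prod.ext
    · rfl
    · apply Subtype.ext
      change (r z)⁻¹ * (r z * a.1 * (r z)⁻¹) * r z = a.1
      group
  · rintro ⟨⟨v, z⟩, h1, h2⟩
    apply Subtype.ext
    apply Prod.ext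
    · change r ⟨z, h2.1⟩ * ((r ⟨z, h2.1⟩)⁻¹ * v * r ⟨z, h2.1⟩) * (r ⟨z, h2.1⟩)⁻¹ = v
      group
    · rfl

theorem fixIn_conj (P K : Subgroup G) {x : G} (hx : x ∈ P) (v : G) :
    Nat.card (FixIn P K (x⁻¹ * v * x)) = Nat.card (FixIn P K v) := by
  apply Nat.card_congr
  refine
    { toFun := fun z => ⟨x • z.1, ?_, ?_⟩
      invFun := fun z => ⟨x⁻¹ • z.1, ?_, ?_⟩
      left_inv := fun z => Subtype.ext (by simp)
      right_inv := fun z => Subtype.ext (by simp) }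
  · obtain ⟨y, hy, hyz⟩ := z.2.1
    exact ⟨x * y, mul_mem hx hy, by rw [← hyz, MulAction.Quotient.smul_mk, smul_eq_mul]⟩
  · have h := z.2.2
    rw [mul_smul, mul_smul, inv_smul_eq_iff] at h
    exact h
  · obtain ⟨y, hy, hyz⟩ := z.2.1
    exact ⟨x⁻¹ * y, mul_mem (inv_mem hx) hy, by rw [← hyz, MulAction.Quotient.smul_mk, smul_eq_mul]⟩
  · have h := z.2.2
    rw [mul_smul, mul_smul, smul_inv_smul, h]

end count

end Cfsg.Agent.H14.Chev
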