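import Mathlib
import Cfsg.Agent.H14_StF

set_option autoImplicit false
set_option linter.unusedSectionVars false

/-!
Steinberg's count of unipotent elements, part 2.
-/

namespace Cfsg.Agent.H14.Chev

open Cfsg Cfsg.Lie Cfsg.Lie.ChevalleyDatum Cfsg.Agent.H6 Cfsg.Agent.H6.Chev Cfsg.Agent.H6.Chev.Model
open scoped Matrix Pointwise

variable {D : ChevalleyDatum} {F : Type*} [Field F] (m : Model D)

/-- a Weyl group element negative on the simple roots of `J` is negative on `Φ_J⁺` -/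
theorem neg_of_simpleJ {J : Set ℕ} {w : Equiv.Perm (Fin D.nroots)} (hw : w ∈ m.Wg)
    (h : ∀ j : Fin D.rank, (j : ℕ) ∈ J → (w (m.p j) : ℕ) < m.N) {r : Fin D.nroots} (hr : m.N ≤ r)
    (hJ : D.InRootSub J r) : (w r : ℕ) < m.N := by
  by_contra hc
  rw [not_lt] at hc
  have h1 := m.lam_pos (w r).2 hc
  have h2 := (m.isW hw).evr m.wt r
  rw [← m.lam_eq_evr] at h2
  have h3 : m.evr (fun k => if h : k < D.rank then m.evr m.wt (w (m.p ⟨k, h⟩)) else 0) r ≤ 0 := by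
    unfold Model.evr
    apply Finset.sum_nonpos
    intro j hj
    have hj' := Finset.mem_range.1 hj
    beta_reduce
    rw [dif_pos hj']
    by_cases hjJ : j ∈ J
    · apply mul_nonpos_of_nonneg_of_nonpos (m.coef_nonneg r hr r.2 j hj')
      have := m.lam_neg' (h ⟨j, hj'⟩ hjJ)
      exact this.le
    · rw [(m.inRootSub_iff' r.2).1 hJ j hj' hjJ, zero_mul]
  omega

theorem exists_longestJ (J : Set ℕ) : ∃ w ∈ m.WJ J, ∀ j : Fin D.rank, (j : ℕ) ∈ J → (w (m.p j) : ℕ) < m.N := by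
  classical
  obtain ⟨w, hw⟩ := Finite.exists_max (fun w : m.WJ J => (m.inv (w : Equiv.Perm (Fin D.nroots))).card)
  refine ⟨w, w.2, fun j hj => ?_⟩
  by_contra hc
  rw [not_lt] at hc
  have h1 := m.card_inv_mul (m.isW (m.WJ_le J w.2)) hc
  have h2 := hw ⟨w * m.sr j, mul_mem w.2 (m.sr_mem_WJ hj)⟩
  simp only [h1] at h2
  omega

/-- the inverse of a `J`-longest element is negative on `J` -/
theorem inv_negJ {J : Set ℕ} {w : Equiv.Perm (Fin D.nroots)} (hw : w ∈ m.WJ J)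
    (h : ∀ j : Fin D.rank, (j : ℕ) ∈ J → (w (m.p j) : ℕ) < m.N) (j : Fin D.rank) (hj : (j : ℕ) ∈ J) :
    (w⁻¹ (m.p j) : ℕ) < m.N := by
  by_contra hc
  rw [not_lt] at hc
  have h1 : D.InRootSub J (w⁻¹ (m.p j)) := m.inRootSub_WJ (inv_mem hw) (m.inRootSub_simple hj j.2)
  have h3 := neg_of_simpleJ m (m.WJ_le J hw) h hc h1
  have h4 : w (w⁻¹ (m.p j)) = m.p j := by simp
  rw [h4] at h3
  have := m.p_pos j
  omega

theorem longestJ_unique {J : Set ℕ} {w w' : Equiv.Perm (Fin D.nroots)} (hw : w ∈ m.WJ J) (hw' : w' ∈ m.WJ J)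
    (h : ∀ j : Fin D.rank, (j : ℕ) ∈ J → (w (m.p j) : ℕ) < m.N)
    (h' : ∀ j : Fin D.rank, (j : ℕ) ∈ J → (w' (m.p j) : ℕ) < m.N) : w = w' := by
  have key : w' * w⁻¹ = 1 := by
    by_contra hne
    obtain ⟨j, hj, hneg⟩ := m.exists_neg (mul_mem hw' (inv_mem hw)) hne
    rw [Equiv.Perm.mul_apply] at hneg
    have h2 := inv_negJ m hw h j hj
    have h1 : D.InRootSub J (w⁻¹ (m.p j)) := m.inRootSub_WJ (inv_mem hw) (m.inRootSub_simple hj j.2)
    have h5 : D.InRootSub J (m.ng (w⁻¹ (m.p j))) := m.inRootSub_neg (w⁻¹ (m.p j)).2 h1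
    have h6 : m.N ≤ (m.ng (w⁻¹ (m.p j)) : ℕ) := (m.ng_ge_iff _).2 h2
    have h7 := neg_of_simpleJ m (m.WJ_le J hw') h' h6 h5
    rw [(m.isW (m.WJ_le J hw')).neg, m.ng_lt_iff] at h7
    omega
  have h2 : w' = w := by
    have := congrArg (· * w) key
    simpa using this
  exact h2.symm

include m in
theorem parabolic_mono {J K : Set ℕ} (h : K ⊆ J) : D.parabolicSubgroup F K ≤ D.parabolicSubgroup F J := by
  unfold ChevalleyDatum.parabolicSubgroup
  apply sup_le_sup le_rfl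
  apply Subgroup.closure_mono
  rintro g ⟨j, hj, h1, h2⟩
  exact ⟨j, h hj, h1, h2⟩

include m in
theorem parabolic_full {J : Set ℕ} (h : ∀ i < D.rank, i ∈ J) : D.parabolicSubgroup F J = D.group F := by
  apply le_antisymm (m.parabolic_le_G J)
  intro g hg
  rw [mem_parabolic_iff m (x := ⟨g, hg⟩), m.WJ_univ h]
  exact pos_mem m _

/-- fixed points of `b ∈ B` on `P_J/P_K` -/
theorem card_fixIn {J K : Finset ℕ} (hKJ : K ⊆ J) {b : ↥(D.group F)} (hb : (b : GL D.Idx F) ∈ D.borelSubgroup F) :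
    Nat.card (FixIn (D.parabolicIn F J) (D.parabolicIn F K) b) =
      Nat.card {y : ↥(D.group F) ⧸ BG D F // (posB m y ∈ m.WJ J ∧ b • y = y) ∧ UpJ m (posB m y) K} := by
  symm
  apply Nat.card_congr
  have hpos : ∀ y : ↥(D.group F) ⧸ BG D F, posB m y ∈ m.WJ (J : Set ℕ) ↔ ∃ x ∈ D.parabolicIn F J, (x : ↥(D.group F) ⧸ D.parabolicIn F K) = prJ m F K y := by
    intro y
    obtain ⟨g, rfl⟩ := QuotientGroup.mk_surjective y
    rw [posB_mk, ← mem_parabolic_iff m, prJ_mk]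
    constructor
    · intro h; exact ⟨g, h, rfl⟩
    · rintro ⟨x, hx, h⟩
      rw [QuotientGroup.eq] at h
      have e : g = x * (x⁻¹ * g) := by group
      have h2 : ((x⁻¹ * g : ↥(D.group F)) : GL D.Idx F) ∈ D.parabolicSubgroup F (J : Set ℕ) :=
        parabolic_mono m (J := (J : Set ℕ)) (K := (K : Set ℕ)) (by exact_mod_cast hKJ) h
      have h3 := mul_mem (S := Subgroup (GL D.Idx F)) (s := D.parabolicSubgroup F (J : Set ℕ)) hx h2
      have e2 : (g : GL D.Idx F) = (x : GL D.Idx F) * ((x⁻¹ * g : ↥(D.group F)) : GL D.Idx F) := by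
        rw [← Subgroup.coe_mul, ← e]
      rw [e2]; exact h3
  refine Equiv.ofBijective (fun y => ⟨prJ m F K y.1, ?_, ?_⟩) ⟨?_, ?_⟩
  · exact (hpos y.1).1 y.2.1.1
  · rw [← prJ_smul, y.2.1.2]
  · intro y z h
    exact Subtype.ext (prJ_inj m y.2.2 z.2.2 (congrArg Subtype.val h))
  · rintro ⟨z, hz1, hz⟩
    obtain ⟨y, hy, rfl⟩ := prJ_surj m K z
    refine ⟨⟨y, ⟨(hpos y).2 hz1, ?_⟩, hy⟩, rfl⟩
    rw [← prJ_smul] at hz
    exact prJ_inj m (by rw [posB_smul m hb]; exact hy) hy hz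

theorem asc_inter_iff {J : Finset ℕ} (hJ : J ⊆ Finset.range D.rank) {w : Equiv.Perm (Fin D.nroots)} : J ∩ asc m w = ∅ ↔
    ∀ j : Fin D.rank, (j : ℕ) ∈ (J : Set ℕ) → (w (m.p j) : ℕ) < m.N := by
  classical
  unfold asc
  constructor
  · intro h i hi
    by_contra hc
    have : (i : ℕ) ∈ (∅ : Finset ℕ) := by
      rw [← h, Finset.mem_inter, Finset.mem_filter]
      exact ⟨hi, Finset.mem_range.2 i.2, i.2, not_lt.1 hc⟩
    simp at this
  · intro h
    rw [Finset.eq_empty_iff_forall_notMem]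
    intro j hj
    rw [Finset.mem_inter, Finset.mem_filter] at hj
    obtain ⟨hjJ, _, hjr, hw⟩ := hj
    have := h ⟨j, hjr⟩ hjJ
    omega

/-- the Steinberg character of the parabolic -/
noncomputable def stJ (D : ChevalleyDatum) (F : Type*) [Field F] (J : Finset ℕ) (v : ↥(D.group F)) : ℂ :=
  ∑ K ∈ J.powerset, (-1 : ℂ) ^ K.card * (Nat.card (FixIn (D.parabolicIn F J) (D.parabolicIn F K) v) : ℂ)

theorem stJ_B [Finite F] {J : Finset ℕ} (hJ : J ⊆ Finset.range D.rank) {b : ↥(D.group F)} (hb : (b : GL D.Idx F) ∈ D.borelSubgroup F) :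
    stJ D F J b = (Nat.card {y : ↥(D.group F) ⧸ BG D F // (posB m y ∈ m.WJ J ∧ b • y = y) ∧
      ∀ j : Fin D.rank, (j : ℕ) ∈ (J : Set ℕ) → (posB m y (m.p j) : ℕ) < m.N} : ℂ) := by
  classical
  unfold stJ
  have h1 := alt_sum J (Y := {y : ↥(D.group F) ⧸ BG D F // posB m y ∈ m.WJ J ∧ b • y = y}) (fun y => asc m (posB m y.1))
  have h2 : Nat.card {y : {y : ↥(D.group F) ⧸ BG D F // posB m y ∈ m.WJ J ∧ b • y = y} // J ∩ asc m (posB m y.1) = ∅} =
      Nat.card {y : ↥(D.group F) ⧸ BG D F // (posB m y ∈ m.WJ J ∧ b • y = y) ∧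
      ∀ j : Fin D.rank, (j : ℕ) ∈ (J : Set ℕ) → (posB m y (m.p j) : ℕ) < m.N} := by
    apply Nat.card_congr
    refine (Equiv.subtypeSubtypeEquivSubtypeInter (fun y : ↥(D.group F) ⧸ BG D F => posB m y ∈ m.WJ J ∧ b • y = y)
      (fun y => J ∩ asc m (posB m y) = ∅)).trans (Equiv.subtypeEquivRight fun y => ?_)
    rw [asc_inter_iff m hJ]
  rw [← h2, ← h1]
  apply Finset.sum_congr rfl
  intro K hK
  rw [Finset.mem_powerset] at hK
  congr 2
  rw [card_fixIn m hK hb]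
  apply Nat.card_congr
  refine Equiv.trans (Equiv.subtypeEquivRight fun y => ?_) (Equiv.subtypeSubtypeEquivSubtypeInter (fun y : ↥(D.group F) ⧸ BG D F => posB m y ∈ m.WJ J ∧ b • y = y)
      (fun y => K ⊆ asc m (posB m y))).symm
  rw [UpJ_iff m (hK.trans hJ)]

include m in
/-- `u ∈ U` with `n u n⁻¹ ∈ B` -/
theorem mem_gen_of_conj_B {n : GL D.Idx F} {w : Equiv.Perm (Fin D.nroots)} (h : m.Acts n w) {u : GL D.Idx F}
    (hu : u ∈ D.posUnipotent F) (hc : n * u * n⁻¹ ∈ D.borelSubgroup F) :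
    u ∈ m.gen F (fun r => m.N ≤ r ∧ ∃ h : r < D.nroots, m.N ≤ (w ⟨r, h⟩ : ℕ)) := by
  obtain ⟨a, ha, b, hb, rfl⟩ := m.U_eq_mul (R₁ := fun r => m.N ≤ r ∧ ∃ h : r < D.nroots, m.N ≤ (w ⟨r, h⟩ : ℕ))
    (R₂ := fun r => m.N ≤ r ∧ ∃ h : r < D.nroots, (w ⟨r, h⟩ : ℕ) < m.N)
    (fun r h1 h2 => by
      rcases le_or_gt m.N (w ⟨r, h2⟩ : ℕ) with h3 | h3
      · exact Or.inl ⟨h1, h2, h3⟩
      · exact Or.inr ⟨h1, h2, h3⟩) (fun r h => h.1) (fun r h => h.1) hu
  have h1 : n * a * n⁻¹ ∈ D.posUnipotent F := by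
    have h2 : m.gen F (fun r => m.N ≤ r ∧ ∃ h : r < D.nroots, m.N ≤ (w ⟨r, h⟩ : ℕ)) ≤
        (D.posUnipotent F).comap (MulAut.conj n).toMonoidHom := by
      apply m.gen_le
      rintro r _ ⟨_, hr, hw⟩ t
      change n * m.X r t * n⁻¹ ∈ D.posUnipotent F
      obtain ⟨v, hv⟩ := m.exists_conj_eq' h ⟨r, hr⟩ t
      change n * m.X r t * n⁻¹ = _ at hv
      rw [hv, m.posUnipotent_eq]
      exact m.X_mem_gen (R := fun r => m.N ≤ r) hw _
    exact h2 ha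
  have h2 : n * b * n⁻¹ ∈ D.negUnipotent F := m.conj_Uw h hb
  have h3 : n * b * n⁻¹ ∈ D.borelSubgroup F := by
    have : n * b * n⁻¹ = (n * a * n⁻¹)⁻¹ * (n * (a * b) * n⁻¹) := by group
    rw [this]
    exact mul_mem (inv_mem (U_le_B h1)) hc
  have h4 : n * b * n⁻¹ ∈ D.borelSubgroup F ⊓ D.negUnipotent F := ⟨h3, h2⟩
  rw [m.B_inf_V, Subgroup.mem_bot] at h4
  have h5 : b = 1 := by simpa using h4
  rw [h5, mul_one]
  exact ha

end Cfsg.Agent.H14.Chev
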