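import Mathlib
import Cfsg.Agent.H14_StG

set_option autoImplicit false
set_option linter.unusedSectionVars false

/-!
Steinberg's count of unipotent elements, part 3.
-/

namespace Cfsg.Agent.H14.Chev

open Cfsg Cfsg.Lie Cfsg.Lie.ChevalleyDatum Cfsg.Agent.H6 Cfsg.Agent.H6.Chev Cfsg.Agent.H6.Chev.Model
open scoped Matrix Pointwise

variable {D : ChevalleyDatum} {F : Type*} [Field F] (m : Model D)

include m in
/-- data of the longest element of `W_J` -/
theorem exists_nJ (J : Set ℕ) : ∃ (n : GL D.Idx F) (w : Equiv.Perm (Fin D.nroots)), n ∈ D.monomialSubgroup F ∧ m.Acts n w ∧ w ∈ m.WJ J ∧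
    (∀ j : Fin D.rank, (j : ℕ) ∈ J → (w (m.p j) : ℕ) < m.N) ∧ n ∈ D.parabolicSubgroup F J ∧
    ∀ x ∈ D.posUnipotent F, (n⁻¹ * x * n ∈ D.borelSubgroup F ↔ x ∈ D.unipotentRadical F J) := by
  obtain ⟨w, hw, hneg⟩ := exists_longestJ m J
  obtain ⟨n, hn, hact⟩ := exists_acts m (F := F) (m.WJ_le J hw)
  have hnP : n ∈ D.parabolicSubgroup F J := by
    rw [mem_parabolic_iff m (x := ⟨n, m.N_le_G hn⟩)]
    have : pos m (⟨n, m.N_le_G hn⟩ : ↥(D.group F)) = w := pos_eq m (one_mem _) hn (one_mem _) hact (by group)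
    rw [this]; exact hw
  refine ⟨n, w, hn, hact, hw, hneg, hnP, fun x hx => ⟨fun h => ?_, fun h => ?_⟩⟩
  · have h1 : (n⁻¹) * x * (n⁻¹)⁻¹ ∈ D.borelSubgroup F := by rwa [inv_inv]
    have h2 := mem_gen_of_conj_B m (m.acts_inv hn hact) hx h1
    rw [m.unipotentRadical_eq]
    refine m.gen_mono ?_ h2
    rintro r _ ⟨hN, hr, hpos⟩
    refine ⟨hN, fun hJ => ?_⟩
    have h3 := neg_of_simpleJ m (inv_mem (m.WJ_le J hw)) (inv_negJ m hw hneg) (r := ⟨r, hr⟩) hN hJ
    omega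
  · have h1 := (Subgroup.mem_normalizer_iff.1 (m.parabolic_norm (F := F) J (inv_mem hnP)) x).1 h
    rw [inv_inv] at h1
    exact U_le_B (m.radical_le_U J h1)

include m in
/-- the set of chambers in `P_J` opposite to `B` inside `P_J` -/
theorem card_YJ [Finite F] (J : Set ℕ) :
    Nat.card {y : ↥(D.group F) ⧸ BG D F // posB m y ∈ m.WJ J ∧
      ∀ j : Fin D.rank, (j : ℕ) ∈ J → (posB m y (m.p j) : ℕ) < m.N} * Nat.card (D.unipotentRadical F J) =
      Nat.card (D.posUnipotent F) := by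
  obtain ⟨n, w, hn, hact, hw, hneg, hnP, hst⟩ := exists_nJ m (F := F) J
  have hnG : n ∈ D.group F := m.N_le_G hn
  set n0 : ↥(D.group F) := ⟨n, hnG⟩ with hn0
  have hpn : ∀ u : ↥(D.posUnipotent F), posB m (((⟨u, m.U_le_G u.2⟩ * n0 : ↥(D.group F))) : ↥(D.group F) ⧸ BG D F) = w := by
    intro u
    rw [posB_mk]
    exact pos_eq m (U_le_B u.2) hn (one_mem _) hact (by rw [Subgroup.coe_mul, mul_one])
  have h1 : Nat.card {y : ↥(D.group F) ⧸ BG D F // posB m y ∈ m.WJ J ∧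
      ∀ j : Fin D.rank, (j : ℕ) ∈ J → (posB m y (m.p j) : ℕ) < m.N} = (D.unipotentRadical F J).relIndex (D.posUnipotent F) := by
    symm
    apply Nat.card_congr
    let f : ↥(D.posUnipotent F) ⧸ (D.unipotentRadical F J).subgroupOf (D.posUnipotent F) → ↥(D.group F) ⧸ BG D F :=
      fun y => Quotient.liftOn' y (fun u : ↥(D.posUnipotent F) => ((⟨u, m.U_le_G u.2⟩ * n0 : ↥(D.group F)) : ↥(D.group F) ⧸ BG D F)) (by
      intro a c h
      rw [QuotientGroup.leftRel_apply, Subgroup.mem_subgroupOf] at h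
      rw [QuotientGroup.eq, Subgroup.mem_subgroupOf]
      have e : (((⟨a, m.U_le_G a.2⟩ * n0)⁻¹ * (⟨c, m.U_le_G c.2⟩ * n0) : ↥(D.group F)) : GL D.Idx F) = n⁻¹ * ((a⁻¹ * c : ↥(D.posUnipotent F)) : GL D.Idx F) * n := by
        simp only [Subgroup.coe_mul, Subgroup.coe_inv, hn0]
        group
      rw [e]
      exact (hst _ (a⁻¹ * c).2).2 h)
    have hf : ∀ u : ↥(D.posUnipotent F), f (u : ↥(D.posUnipotent F) ⧸ (D.unipotentRadical F J).subgroupOf (D.posUnipotent F)) =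
        ((⟨u, m.U_le_G u.2⟩ * n0 : ↥(D.group F)) : ↥(D.group F) ⧸ BG D F) := fun _ => rfl
    refine Equiv.ofBijective (fun y => ⟨f y, ?_⟩) ⟨?_, ?_⟩
    · obtain ⟨u, rfl⟩ := QuotientGroup.mk_surjective y
      rw [hf, hpn]
      exact ⟨hw, hneg⟩
    · intro y z hyz
      obtain ⟨x, rfl⟩ := QuotientGroup.mk_surjective y
      obtain ⟨x', rfl⟩ := QuotientGroup.mk_surjective z
      have h : f (x : ↥(D.posUnipotent F) ⧸ (D.unipotentRadical F J).subgroupOf (D.posUnipotent F)) = f (x' : ↥(D.posUnipotent F) ⧸ (D.unipotentRadical F J).subgroupOf (D.posUnipotent F)) := congrArg Subtype.val hyz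
      rw [hf, hf, QuotientGroup.eq, Subgroup.mem_subgroupOf] at h
      rw [QuotientGroup.eq, Subgroup.mem_subgroupOf]
      have e : (((⟨x, m.U_le_G x.2⟩ * n0)⁻¹ * (⟨x', m.U_le_G x'.2⟩ * n0) : ↥(D.group F)) : GL D.Idx F) = n⁻¹ * ((x⁻¹ * x' : ↥(D.posUnipotent F)) : GL D.Idx F) * n := by
        simp only [Subgroup.coe_mul, Subgroup.coe_inv, hn0]
        group
      rw [e] at h
      exact (hst _ (x⁻¹ * x').2).1 h
    · rintro ⟨y, hy, hypos⟩
      obtain ⟨g, rfl⟩ := QuotientGroup.mk_surjective y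
      rw [posB_mk] at hypos hy
      obtain ⟨c, hc, n', hn', c', hc', hw', he'⟩ := pos_spec m g
      have e1 : pos m g = w := longestJ_unique m hy hw hypos hneg
      rw [e1] at hw'
      have h1 : n⁻¹ * n' ∈ D.diagonalSubgroup F := by
        apply m.mem_H_of_acts_one (mul_mem (inv_mem hn) hn')
        have := (m.acts_inv hn hact).mul hw'
        rwa [inv_mul_cancel] at this
      obtain ⟨u, hu, h, hh, rfl⟩ := m.mem_B.1 hc
      suffices h2 : f ((⟨u, hu⟩ : ↥(D.posUnipotent F)) : ↥(D.posUnipotent F) ⧸ (D.unipotentRadical F J).subgroupOf (D.posUnipotent F)) = (g : ↥(D.group F) ⧸ BG D F) from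
        ⟨((⟨u, hu⟩ : ↥(D.posUnipotent F)) : ↥(D.posUnipotent F) ⧸ (D.unipotentRadical F J).subgroupOf (D.posUnipotent F)), Subtype.ext h2⟩
      rw [hf, QuotientGroup.eq, Subgroup.mem_subgroupOf]
      have e : (((⟨u, m.U_le_G hu⟩ * n0)⁻¹ * g : ↥(D.group F)) : GL D.Idx F) = (n⁻¹ * h * n) * (n⁻¹ * n') * c' := by
        rw [Subgroup.coe_mul, he', Subgroup.coe_inv, Subgroup.coe_mul]
        simp only [hn0]
        group
      rw [e]
      refine mul_mem (mul_mem (H_le_B ?_) (H_le_B h1)) hc'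
      have := (Subgroup.mem_normalizer_iff.1 (m.N_le_normalizer (inv_mem hn)) _).1 hh
      rwa [inv_inv] at this
  have h2 := Subgroup.relIndex_mul_relIndex ⊥ (D.unipotentRadical F J) (D.posUnipotent F) bot_le (m.radical_le_U J)
  rw [Subgroup.relIndex_bot_left, Subgroup.relIndex_bot_left] at h2
  rw [h1, mul_comm, h2]

include m in
/-- the value of `stJ` on `U` -/
theorem stJ_U [Finite F] {J : Finset ℕ} (hJ : J ⊆ Finset.range D.rank) {u : ↥(D.group F)} (hu : (u : GL D.Idx F) ∈ D.posUnipotent F)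
    [Decidable ((u : GL D.Idx F) ∈ D.unipotentRadical F (J : Set ℕ))] :
    stJ D F J u = if (u : GL D.Idx F) ∈ D.unipotentRadical F (J : Set ℕ) then
      (Nat.card {y : ↥(D.group F) ⧸ BG D F // posB m y ∈ m.WJ (J : Set ℕ) ∧
      ∀ j : Fin D.rank, (j : ℕ) ∈ (J : Set ℕ) → (posB m y (m.p j) : ℕ) < m.N} : ℂ) else 0 := by
  obtain ⟨n, w, hn, hact, hw, hneg, hnP, hst⟩ := exists_nJ m (F := F) (J : Set ℕ)
  have hnG : n ∈ D.group F := m.N_le_G hn
  set n0 : ↥(D.group F) := ⟨n, hnG⟩ with hn0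
  have key : ∀ y : ↥(D.group F) ⧸ BG D F, posB m y ∈ m.WJ (J : Set ℕ) → (∀ j : Fin D.rank, (j : ℕ) ∈ (J : Set ℕ) → (posB m y (m.p j) : ℕ) < m.N) →
      (u • y = y ↔ (u : GL D.Idx F) ∈ D.unipotentRadical F (J : Set ℕ)) := by
    intro y hy hypos
    obtain ⟨g, rfl⟩ := QuotientGroup.mk_surjective y
    rw [posB_mk] at hypos hy
    obtain ⟨c, hc, n', hn', c', hc', hw', he'⟩ := pos_spec m g
    have e1 : pos m g = w := longestJ_unique m hy hw hypos hneg
    rw [e1] at hw'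
    have h1 : n⁻¹ * n' ∈ D.diagonalSubgroup F := by
      apply m.mem_H_of_acts_one (mul_mem (inv_mem hn) hn')
      have := (m.acts_inv hn hact).mul hw'
      rwa [inv_mul_cancel] at this
    have hcU : c⁻¹ * (u : GL D.Idx F) * c ∈ D.posUnipotent F := by
      have := (Subgroup.mem_normalizer_iff.1 (B_norm_U m (inv_mem hc)) _).1 hu
      rwa [inv_inv] at this
    rw [MulAction.Quotient.smul_mk, smul_eq_mul, eq_comm, QuotientGroup.eq, Subgroup.mem_subgroupOf]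
    have e : ((g⁻¹ * (u * g) : ↥(D.group F)) : GL D.Idx F) =
        ((n⁻¹ * n') * c')⁻¹ * (n⁻¹ * (c⁻¹ * (u : GL D.Idx F) * c) * n) * ((n⁻¹ * n') * c') := by
      simp only [Subgroup.coe_mul, Subgroup.coe_inv, he']
      group
    rw [e]
    have hb : (n⁻¹ * n') * c' ∈ D.borelSubgroup F := mul_mem (H_le_B h1) hc'
    have h2 : ((n⁻¹ * n') * c')⁻¹ * (n⁻¹ * (c⁻¹ * (u : GL D.Idx F) * c) * n) * ((n⁻¹ * n') * c') ∈ D.borelSubgroup F ↔
        n⁻¹ * (c⁻¹ * (u : GL D.Idx F) * c) * n ∈ D.borelSubgroup F := by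
      constructor
      · intro h
        have := mul_mem (mul_mem hb h) (inv_mem hb)
        have e3 : (n⁻¹ * n') * c' * (((n⁻¹ * n') * c')⁻¹ * (n⁻¹ * (c⁻¹ * (u : GL D.Idx F) * c) * n) * ((n⁻¹ * n') * c')) * ((n⁻¹ * n') * c')⁻¹ =
          n⁻¹ * (c⁻¹ * (u : GL D.Idx F) * c) * n := by group
        rwa [e3] at this
      · intro h
        exact mul_mem (mul_mem (inv_mem hb) h) hb
    rw [h2, hst _ hcU]
    have h3 := Subgroup.mem_normalizer_iff.1 (m.parabolic_norm (F := F) (J : Set ℕ) (inv_mem (m.B_le_parabolic _ hc))) (u : GL D.Idx F)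
    rw [inv_inv] at h3
    exact h3.symm
  rw [stJ_B m hJ (U_le_B hu)]
  split_ifs with hm
  · congr 1
    apply Nat.card_congr
    apply Equiv.subtypeEquivRight
    intro y
    constructor
    · rintro ⟨⟨h1, h2⟩, h3⟩; exact ⟨h1, h3⟩
    · rintro ⟨h1, h3⟩; exact ⟨⟨h1, (key y h1 h3).2 hm⟩, h3⟩
  · have : Nat.card {y : ↥(D.group F) ⧸ BG D F // (posB m y ∈ m.WJ (J : Set ℕ) ∧ u • y = y) ∧
      ∀ j : Fin D.rank, (j : ℕ) ∈ (J : Set ℕ) → (posB m y (m.p j) : ℕ) < m.N} = 0 := by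
      rw [Nat.card_eq_zero]
      left
      constructor
      rintro ⟨y, ⟨h1, h2⟩, h3⟩
      exact hm ((key y h1 h3).1 h2)
    rw [this]; simp

end Cfsg.Agent.H14.Chev
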