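import Mathlib
import Cfsg.Agent.H14_StH

set_option autoImplicit false
set_option linter.unusedSectionVars false

/-!
Steinberg's count of unipotent elements, conclusion.
-/

namespace Cfsg.Agent.H14.Chev

open Cfsg Cfsg.Lie Cfsg.Lie.ChevalleyDatum Cfsg.Agent.H6 Cfsg.Agent.H6.Chev Cfsg.Agent.H6.Chev.Model
open scoped Matrix Pointwise

theorem card_pairs {G X : Type*} [Finite G] [Finite X] (p : G → Prop) (S : G → Set X) [Fintype {v : G // p v}] :
    Nat.card {v : G × X // p v.1 ∧ v.2 ∈ S v.1} = ∑ v : {v : G // p v}, Nat.card (S v.1) := by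
  rw [← Nat.card_sigma]
  apply Nat.card_congr
  exact
    { toFun := fun v => ⟨⟨v.1.1, v.2.1⟩, ⟨v.1.2, v.2.2⟩⟩
      invFun := fun v => ⟨(v.1.1, v.2.1), v.1.2, v.2.2⟩
      left_inv := fun _ => rfl
      right_inv := fun _ => rfl }

variable {D : ChevalleyDatum} {F : Type*} [Field F] (m : Model D)

include m in
theorem sum_stJ [Fintype F] {p : ℕ} [Fact p.Prime] [CharP F p] {J : Finset ℕ} (hJ : J ⊆ Finset.range D.rank)
    [Fintype {v : ↥(D.group F) // v ∈ {a : ↥(D.group F) | ∃ k : ℕ, a ^ p ^ k = 1} ∧ v ∈ D.parabolicIn F J}] :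
    ∑ v : {v : ↥(D.group F) // v ∈ {a : ↥(D.group F) | ∃ k : ℕ, a ^ p ^ k = 1} ∧ v ∈ D.parabolicIn F J}, stJ D F J v.1 =
      (Nat.card (D.posUnipotent F) : ℂ) := by
  classical
  set Y : ℕ := Nat.card {y : ↥(D.group F) ⧸ BG D F // posB m y ∈ m.WJ (J : Set ℕ) ∧
      ∀ j : Fin D.rank, (j : ℕ) ∈ (J : Set ℕ) → (posB m y (m.p j) : ℕ) < m.N} with hY
  obtain ⟨Q, hQ⟩ := isSylow_U m (F := F) (p := p)
  have hUp : IsPGroup p (D.posUnipotent F) := isPGroup_U m
  have h1 : ∀ v : {v : ↥(D.group F) // v ∈ {a : ↥(D.group F) | ∃ k : ℕ, a ^ p ^ k = 1} ∧ v ∈ D.parabolicIn F J},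
      stJ D F J v.1 = if (v.1 : GL D.Idx F) ∈ D.unipotentRadical F (J : Set ℕ) then (Y : ℂ) else 0 := by
    rintro ⟨v, hvA, hvP⟩
    have hQP : (Q : Subgroup ↥(D.group F)) ≤ D.parabolicIn F J := by
      rw [hQ]
      intro x hx
      exact m.B_le_parabolic _ (U_le_B (Subgroup.mem_subgroupOf.1 hx))
    obtain ⟨x, hxP, hx⟩ := exists_conj_mem_sylow Q (D.parabolicIn F J) hQP hvP hvA
    rw [hQ, Subgroup.mem_subgroupOf] at hx
    have h2 : stJ D F J v = stJ D F J (x⁻¹ * v * x) := by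
      unfold stJ
      apply Finset.sum_congr rfl
      intro K _
      rw [fixIn_conj _ _ hxP]
    change stJ D F J v = _
    rw [h2, stJ_U m hJ hx, ← hY]
    have h3 : (v : GL D.Idx F) ∈ D.unipotentRadical F (J : Set ℕ) ↔ (x : GL D.Idx F)⁻¹ * v * x ∈ D.unipotentRadical F (J : Set ℕ) := by
      have := Subgroup.mem_normalizer_iff.1 (m.parabolic_norm (F := F) (J : Set ℕ) (inv_mem hxP)) (v : GL D.Idx F)
      rw [inv_inv] at this
      exact this
    have e : ((x⁻¹ * v * x : ↥(D.group F)) : GL D.Idx F) = (x : GL D.Idx F)⁻¹ * v * x := by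
      simp only [Subgroup.coe_mul, Subgroup.coe_inv]
    rw [← e] at h3
    by_cases h4 : (v : GL D.Idx F) ∈ D.unipotentRadical F (J : Set ℕ)
    · rw [if_pos h4, if_pos (h3.1 h4)]
    · rw [if_neg h4, if_neg (fun h => h4 (h3.2 h))]
  rw [Finset.sum_congr rfl (fun v _ => h1 v), ← Finset.sum_filter, Finset.sum_const, nsmul_eq_mul]
  have h4 : (Finset.univ.filter (fun v : {v : ↥(D.group F) // v ∈ {a : ↥(D.group F) | ∃ k : ℕ, a ^ p ^ k = 1} ∧ v ∈ D.parabolicIn F J} =>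
      (v.1 : GL D.Idx F) ∈ D.unipotentRadical F (J : Set ℕ))).card = Nat.card (D.unipotentRadical F (J : Set ℕ)) := by
    rw [← Fintype.card_subtype, ← Nat.card_eq_fintype_card]
    apply Nat.card_congr
    exact
      { toFun := fun v => ⟨v.1.1, v.2⟩
        invFun := fun v => ⟨⟨⟨v.1, m.U_le_G (m.radical_le_U _ v.2)⟩, by
          obtain ⟨k, hk⟩ := hUp ⟨v.1, m.radical_le_U _ v.2⟩
          refine ⟨k, Subtype.ext ?_⟩
          have h := congrArg Subtype.val hk
          rw [Subgroup.coe_pow] at h ⊢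
          exact h, m.B_le_parabolic _ (U_le_B (m.radical_le_U _ v.2))⟩, v.2⟩
        left_inv := fun _ => rfl
        right_inv := fun _ => rfl }
  rw [h4, ← card_YJ m (J : Set ℕ), ← hY]
  push_cast
  ring

include m in
theorem alt_J [Fintype F] {p : ℕ} [Fact p.Prime] [CharP F p] {J : Finset ℕ} (hJ : J ⊆ Finset.range D.rank) :
    ∑ K ∈ J.powerset, (-1 : ℂ) ^ K.card * (((D.parabolicIn F K).index *
      Nat.card {a : ↥(D.group F) // a ∈ {a : ↥(D.group F) | ∃ k : ℕ, a ^ p ^ k = 1} ∧ a ∈ D.parabolicIn F K} : ℕ) : ℂ) =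
      ((D.parabolicIn F J).index : ℂ) * (Nat.card (D.posUnipotent F) : ℂ) := by
  classical
  set A : Set ↥(D.group F) := {a : ↥(D.group F) | ∃ k : ℕ, a ^ p ^ k = 1} with hA
  have : Fintype {v : ↥(D.group F) // v ∈ A ∧ v ∈ D.parabolicIn F J} := Fintype.ofFinite _
  rw [← sum_stJ m hJ (p := p)]
  unfold stJ
  rw [Finset.sum_comm, Finset.mul_sum]
  apply Finset.sum_congr rfl
  intro K hK
  rw [Finset.mem_powerset] at hK
  have hKJ : D.parabolicIn F K ≤ D.parabolicIn F J := by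
    intro x hx
    exact parabolic_mono m (J := (J : Set ℕ)) (K := (K : Set ℕ)) (by exact_mod_cast hK) hx
  have hAc : ∀ x a : ↥(D.group F), x⁻¹ * a * x ∈ A ↔ a ∈ A := by
    intro x a
    have h : ∀ k, (x⁻¹ * a * x) ^ k = x⁻¹ * a ^ k * x := by
      intro k
      have := conj_pow (i := k) (a := x⁻¹) (b := a)
      rwa [inv_inv] at this
    constructor
    · rintro ⟨k, hk⟩
      refine ⟨k, ?_⟩
      rw [h] at hk
      have : a ^ p ^ k = x * (x⁻¹ * a ^ p ^ k * x) * x⁻¹ := by group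
      rw [this, hk]; group
    · rintro ⟨k, hk⟩
      exact ⟨k, by rw [h, hk]; group⟩
  have h1 := sum_fixIn (D.parabolicIn F J) (D.parabolicIn F K) hKJ A hAc
  rw [card_pairs (fun v => v ∈ A ∧ v ∈ D.parabolicIn F J) (fun v => FixIn (D.parabolicIn F J) (D.parabolicIn F K) v)] at h1
  have h2 := card_inP (D.parabolicIn F J) (D.parabolicIn F K) hKJ
  rw [← Finset.mul_sum, ← Nat.cast_sum, h1, ← h2]
  push_cast
  ring

theorem s2314 {F : Type*} [Field F] [Fintype F] (p : ℕ) [Fact p.Prime] [CharP F p] (D : Cfsg.Lie.ChevalleyDatum) (hD : D ∈ [Cfsg.Lie.chevG2, Cfsg.Lie.chevB2, Cfsg.Lie.chevD4, Cfsg.Lie.chevF4, Cfsg.Lie.chevE6, Cfsg.Lie.chevE7, Cfsg.Lie.chevE8]) :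
    Nat.card {g : ↥(D.group F) // ∃ k : ℕ, orderOf g = p ^ k} = Fintype.card F ^ (2 * (D.nroots / 2)) := by
  classical
  obtain ⟨m⟩ := exists_model hD
  have hp : p.Prime := Fact.out
  set A : Set ↥(D.group F) := {a : ↥(D.group F) | ∃ k : ℕ, a ^ p ^ k = 1} with hA
  have h1 := mobius (Finset.range D.rank) (fun K => (((D.parabolicIn F K).index * Nat.card {a : ↥(D.group F) // a ∈ A ∧ a ∈ D.parabolicIn F K} : ℕ) : ℂ))
  rw [Finset.sum_congr rfl (fun J hJ => by rw [alt_J m (Finset.mem_powerset.1 hJ) (p := p)])] at h1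
  have h2 : D.parabolicIn F (Finset.range D.rank) = ⊤ := by
    unfold ChevalleyDatum.parabolicIn
    rw [parabolic_full m (fun i hi => by simpa using hi), Subgroup.subgroupOf_self]
  have h3 : ∑ J ∈ (Finset.range D.rank).powerset, (-1 : ℂ) ^ J.card * (((D.parabolicIn F J).index : ℂ) * (Nat.card (D.posUnipotent F) : ℂ)) =
      D.steinbergCharacter F 1 * (Nat.card (D.posUnipotent F) : ℂ) := by
    unfold ChevalleyDatum.steinbergCharacter
    rw [Finset.sum_mul]
    apply Finset.sum_congr rfl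
    intro J _
    rw [mul_assoc]
    congr 2
    unfold fixedPointCharacter
    congr 1
    have : MulAction.fixedBy (↥(D.group F) ⧸ D.parabolicIn F J) (1 : ↥(D.group F)) = Set.univ := by
      ext y; simp
    rw [this, Nat.card_congr (Equiv.Set.univ _)]
    rfl
  rw [h3, h2, Subgroup.index_top, one_mul, steinberg_one m, m.card_pos] at h1
  have h4 : Nat.card {a : ↥(D.group F) // a ∈ A ∧ a ∈ (⊤ : Subgroup ↥(D.group F))} = Nat.card {g : ↥(D.group F) // ∃ k : ℕ, orderOf g = p ^ k} := by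
    apply Nat.card_congr
    apply Equiv.subtypeEquivRight
    intro g
    constructor
    · rintro ⟨⟨k, hk⟩, -⟩
      obtain ⟨j, -, hj⟩ := (Nat.dvd_prime_pow hp).1 (orderOf_dvd_of_pow_eq_one hk)
      exact ⟨j, hj⟩
    · rintro ⟨k, hk⟩
      exact ⟨⟨k, by rw [← hk, pow_orderOf_eq_one]⟩, trivial⟩
  rw [h4] at h1
  rw [N_eq_half m]
  have h5 : Fintype.card F ^ m.N * Fintype.card F ^ m.N = Nat.card {g : ↥(D.group F) // ∃ k : ℕ, orderOf g = p ^ k} := by
    exact_mod_cast h1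
  rw [← h5, ← pow_add, two_mul]

end Cfsg.Agent.H14.Chev
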