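import Mathlib
import Cfsg.Agent.H14_StI

set_option autoImplicit false
set_option linter.unusedSectionVars false

/-!
Weyl group combinatorics: the longest minimal coset representative.
-/

namespace Cfsg.Agent.H14.Chev

open Cfsg Cfsg.Lie Cfsg.Lie.ChevalleyDatum Cfsg.Agent.H6 Cfsg.Agent.H6.Chev Cfsg.Agent.H6.Chev.Model
open scoped Matrix Pointwise

variable {D : ChevalleyDatum} {F : Type*} [Field F] (m : Model D)

theorem perm_inv_app {α : Type*} (x : Equiv.Perm α) (r : α) : x⁻¹ (x r) = r := by simp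

theorem perm_app_inv {α : Type*} (x : Equiv.Perm α) (r : α) : x (x⁻¹ r) = r := by simp

/-- elements of `W_J` preserve the sign of roots outside `Φ_J` -/
theorem WJ_sign {J : Set ℕ} {w : Equiv.Perm (Fin D.nroots)} (hw : w ∈ m.WJ J) : ∀ {r : Fin D.nroots}, ¬ D.InRootSub J r →
    (m.N ≤ w r ↔ m.N ≤ r) := by
  refine Subgroup.closure_induction (p := fun w _ => ∀ {r : Fin D.nroots}, ¬ D.InRootSub J r →
    (m.N ≤ w r ↔ m.N ≤ r)) ?_ ?_ ?_ ?_ hw
  · rintro _ ⟨i, hi, rfl⟩ r hr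
    have hne : r ≠ m.p i := by
      rintro rfl
      exact hr (m.inRootSub_simple hi i.2)
    have hne' : m.ng r ≠ m.p i := by
      intro h
      have : m.ng (m.ng r) = r := by
        rw [← Fin.val_inj, coe_ng, coe_ng, m.neg_neg r.2]
      have h2 : r = m.ng (m.p i) := by rw [← h, this]
      apply hr
      rw [h2]
      exact m.inRootSub_neg (m.p i).2 (m.inRootSub_simple hi i.2)
    constructor
    · intro h
      by_contra hc
      rw [not_le, ← m.ng_ge_iff] at hc
      have h2 := m.sr_pos hc hne'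
      rw [m.sr_ng, m.ng_ge_iff] at h2
      omega
    · intro h
      exact m.sr_pos h hne
  · intro r _; rfl
  · intro x y hx hy ihx ihy r hr
    have hy' : y ∈ m.WJ J := hy
    have h1 : ¬ D.InRootSub J (y r) := by
      intro h
      apply hr
      have := m.inRootSub_WJ (inv_mem hy') h
      rwa [perm_inv_app] at this
    rw [Equiv.Perm.mul_apply, ihx h1, ihy hr]
  · intro x hx ih r hr
    have hx' : x ∈ m.WJ J := hx
    have h1 : ¬ D.InRootSub J (x⁻¹ r) := by
      intro h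
      apply hr
      have := m.inRootSub_WJ hx' h
      rwa [perm_app_inv] at this
    have := ih h1
    rw [perm_app_inv] at this
    exact this.symm

/-- positive roots in `Φ_{k}` -/
theorem eq_simple {k : Fin D.rank} {r : Fin D.nroots} (hr : D.InRootSub {(k : ℕ)} r) (hp : m.N ≤ r) : r = m.p k := by
  have key : ∀ s : ℕ, D.InRootSub {(k : ℕ)} s → s = D.simple k ∨ s = D.neg (D.simple k) := by
    refine m.sub_induction ?_ ?_
    · rintro j rfl _
      exact Or.inl rfl
    · rintro j rfl hj s hs hs' (h | h)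
      · right; rw [h, m.refl_simple hj]
      · left; rw [h, m.refl_neg hj (m.simple_lt _ hj), m.refl_simple hj, m.neg_neg (m.simple_lt _ hj)]
  rcases key r hr with h | h
  · exact Fin.ext h
  · exfalso
    have h2 := m.p_pos k
    rw [h, m.neg_ge_iff (m.simple_lt _ k.2)] at hp
    rw [coe_p] at h2
    omega

/-- if `p_k` is positive for `w`, its image lies in `Φ_J` and `w⁻¹ Φ_J⁺ > 0`, then the image is simple -/
theorem simple_of_mem {J : Set ℕ} {d : Equiv.Perm (Fin D.nroots)} (hd : d ∈ m.Wg) (hJ : UpJ m d⁻¹ J) {k : Fin D.rank}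
    (hpos : m.N ≤ d (m.p k)) (hk : D.InRootSub J (d (m.p k))) : ∃ j : Fin D.rank, (j : ℕ) ∈ J ∧ d (m.p k) = m.p j := by
  classical
  set r := d (m.p k) with hr
  have h0 : d⁻¹ r = m.p k := by rw [hr]; simp
  -- functional: indicator of the complement of k
  set φ : ℕ → ℤ := fun i => if i = k then 0 else 1 with hφ
  have hφnn : ∀ s : Fin D.nroots, m.N ≤ s → 0 ≤ m.evr φ s := by
    intro s hs
    unfold Model.evr
    apply Finset.sum_nonneg
    intro j hj
    apply mul_nonneg (m.coef_nonneg s hs s.2 j (Finset.mem_range.1 hj))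
    rw [hφ]; beta_reduce; split_ifs <;> simp
  have h1 : m.evr φ (m.p k) = 0 := by
    unfold Model.evr
    apply Finset.sum_eq_zero
    intro j hj
    rw [coe_p, m.coef_simple _ k.2 j (Finset.mem_range.1 hj)]
    by_cases h : (k : ℕ) = j
    · rw [hφ]; beta_reduce; rw [if_pos h.symm, mul_zero]
    · rw [if_neg h, zero_mul]
  have h2 := (m.isW (inv_mem hd)).evr φ r
  rw [h0, h1] at h2
  unfold Model.evr at h2
  have h3 : ∀ j ∈ Finset.range D.rank, 0 ≤ m.coef r j * (if h : j < D.rank then m.evr φ (d⁻¹ (m.p ⟨j, h⟩)) else 0) := by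
    intro j hj
    have hj' := Finset.mem_range.1 hj
    rw [dif_pos hj']
    by_cases hjJ : j ∈ J
    · exact mul_nonneg (m.coef_nonneg r hpos r.2 j hj') (hφnn _ (hJ ⟨j, hj'⟩ hjJ))
    · rw [(m.inRootSub_iff' r.2).1 hk j hj' hjJ, zero_mul]
  have h4 := (Finset.sum_eq_zero_iff_of_nonneg h3).1 h2.symm
  -- some coefficient is nonzero
  obtain ⟨j, hj, hcj⟩ : ∃ j, ∃ hj : j < D.rank, m.coef r j ≠ 0 := by
    by_contra hc
    push Not at hc
    have h5 := m.lam_pos r.2 hpos
    have h6 : m.evr m.wt r = 0 := by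
      unfold Model.evr
      apply Finset.sum_eq_zero
      intro j hj
      rw [hc j (Finset.mem_range.1 hj), zero_mul]
    rw [← m.lam_eq_evr] at h6
    omega
  have hjJ : j ∈ J := by
    by_contra hc
    exact hcj ((m.inRootSub_iff' r.2).1 hk j hj hc)
  have h5 := h4 j (Finset.mem_range.2 hj)
  rw [dif_pos hj] at h5
  have h6 : m.evr φ (d⁻¹ (m.p ⟨j, hj⟩)) = 0 := by
    rcases mul_eq_zero.1 h5 with h | h
    · exact absurd h hcj
    · exact h
  have h7 : m.N ≤ d⁻¹ (m.p ⟨j, hj⟩) := hJ ⟨j, hj⟩ hjJ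
  have h8 : D.InRootSub {(k : ℕ)} (d⁻¹ (m.p ⟨j, hj⟩)) := by
    rw [m.inRootSub_iff' (d⁻¹ (m.p ⟨j, hj⟩)).2]
    intro i hi hik
    unfold Model.evr at h6
    have h9 := (Finset.sum_eq_zero_iff_of_nonneg (by
      intro i hi
      apply mul_nonneg (m.coef_nonneg _ h7 (d⁻¹ (m.p ⟨j, hj⟩)).2 i (Finset.mem_range.1 hi))
      rw [hφ]; beta_reduce; split_ifs <;> simp)).1 h6 i (Finset.mem_range.2 hi)
    have hik' : i ≠ (k : ℕ) := fun h => hik (by rw [h]; rfl)
    rw [hφ] at h9
    beta_reduce at h9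
    rw [if_neg hik', mul_one] at h9
    exact h9
  have h9 := eq_simple m h8 h7
  refine ⟨⟨j, hj⟩, hjJ, ?_⟩
  rw [hr, ← h9]
  simp

/-- Kilmoyer: `W_K ∩ d⁻¹ W_J d` for a minimal double coset representative `d` -/
theorem kilmoyer {J K : Set ℕ} {d : Equiv.Perm (Fin D.nroots)} (hd : MinDC m J K d) : ∀ (c : ℕ) (w : Equiv.Perm (Fin D.nroots)),
    (m.inv w).card = c → w ∈ m.WJ K → ∀ a ∈ m.WJ J, a * d = d * w →
    w ∈ m.WJ {k | k ∈ K ∧ ∃ h : k < D.rank, ∃ j : Fin D.rank, (j : ℕ) ∈ J ∧ d (m.p ⟨k, h⟩) = m.p j} := by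
  intro c
  induction c using Nat.strong_induction_on with
  | _ c ih =>
    intro w hc hw a ha he
    by_cases h1 : w = 1
    · rw [h1]; exact one_mem _
    obtain ⟨k, hk, hneg⟩ := m.exists_neg hw h1
    have hdk : m.N ≤ d (m.p k) := hd.2.1 k hk
    have h2 : (a (d (m.p k)) : ℕ) < m.N := by
      have e : a (d (m.p k)) = d (w (m.p k)) := by
        have := congrArg (fun f : Equiv.Perm (Fin D.nroots) => f (m.p k)) he
        simpa using this
      rw [e]
      have h4 : D.InRootSub K (w (m.p k)) := m.inRootSub_WJ hw (m.inRootSub_simple hk k.2)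
      have h5 : D.InRootSub K (m.ng (w (m.p k))) := m.inRootSub_neg (w (m.p k)).2 h4
      have h6 : m.N ≤ (m.ng (w (m.p k)) : ℕ) := (m.ng_ge_iff _).2 hneg
      have h7 := pos_of_simple m hd.1 hd.2.1 h6 h5
      rw [(m.isW hd.1).neg, m.ng_ge_iff] at h7
      exact h7
    have h3 : D.InRootSub J (d (m.p k)) := by
      by_contra hn
      have := (WJ_sign m ha hn).2 hdk
      omega
    obtain ⟨j, hj, hjk⟩ := simple_of_mem m hd.1 hd.2.2 hdk h3
    have hconj := (m.isW hd.1).conj hjk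
    have hcard := m.card_inv_sr (m.WJ_le K hw) hneg
    have h4 := ih (m.inv (w * m.sr k)).card (by omega) (w * m.sr k) rfl (mul_mem hw (m.sr_mem_WJ hk)) (a * m.sr j)
      (mul_mem ha (m.sr_mem_WJ hj)) (by rw [mul_assoc, hconj, ← mul_assoc, he, mul_assoc])
    have h5 : m.sr k ∈ m.WJ {k | k ∈ K ∧ ∃ h : k < D.rank, ∃ j : Fin D.rank, (j : ℕ) ∈ J ∧ d (m.p ⟨k, h⟩) = m.p j} :=
      m.sr_mem_WJ ⟨hk, k.2, j, hj, hjk⟩
    have := mul_mem h4 h5
    rwa [mul_assoc, m.sr_mul_self, mul_one] at this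

/-- the longest minimal left coset representative of `W_J` -/
def OppJ (J : Set ℕ) (d : Equiv.Perm (Fin D.nroots)) : Prop := d ∈ m.Wg ∧ UpJ m d⁻¹ J ∧
  ∀ k : Fin D.rank, m.N ≤ d (m.p k) → ∃ j : Fin D.rank, (j : ℕ) ∈ J ∧ d (m.p k) = m.p j

theorem exists_oppJ (J : Set ℕ) : ∃ d, OppJ m J d ∧ (∀ r : Fin D.nroots, m.N ≤ r → ¬ D.InRootSub J r → (d⁻¹ r : ℕ) < m.N) ∧
    ∀ j : Fin D.rank, (j : ℕ) ∈ J → ∃ k : Fin D.rank, d (m.p k) = m.p j := by
  obtain ⟨wJ, hwJ, hJneg⟩ := exists_longestJ m J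
  obtain ⟨w0, hw0, h0neg⟩ := m.exists_longest
  have hwJg := m.WJ_le J hwJ
  set d := wJ⁻¹ * w0 with hd
  have hdg : d ∈ m.Wg := mul_mem (inv_mem hwJg) hw0
  have h0inv : ∀ r : Fin D.nroots, m.N ≤ w0⁻¹ r ↔ (r : ℕ) < m.N := by
    intro r
    constructor
    · intro h
      have := h0neg _ h
      simpa using this
    · intro h
      by_contra hc
      rw [not_le, ← m.ng_ge_iff] at hc
      have h2 := h0neg _ hc
      rw [(m.isW hw0).neg, m.ng_lt_iff, perm_app_inv] at h2
      omega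
  have hdinv : ∀ r, d⁻¹ r = w0⁻¹ (wJ r) := by intro r; rw [hd]; simp
  have F2 : ∀ r : Fin D.nroots, m.N ≤ r → D.InRootSub J r → m.N ≤ d⁻¹ r := by
    intro r hr hJ
    rw [hdinv, h0inv]
    exact neg_of_simpleJ m hwJg hJneg hr hJ
  have F3 : ∀ r : Fin D.nroots, m.N ≤ r → ¬ D.InRootSub J r → (d⁻¹ r : ℕ) < m.N := by
    intro r hr hJ
    by_contra hc
    rw [not_lt, hdinv, h0inv] at hc
    have := (WJ_sign m hwJ hJ).2 hr
    omega
  have hup : UpJ m d⁻¹ J := fun j hj => F2 _ (m.p_pos j) (m.inRootSub_simple hj j.2)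
  have F5 : ∀ k : Fin D.rank, m.N ≤ d (m.p k) → ∃ j : Fin D.rank, (j : ℕ) ∈ J ∧ d (m.p k) = m.p j := by
    intro k hk
    have h1 : D.InRootSub J (d (m.p k)) := by
      by_contra hn
      have := F3 _ hk hn
      rw [perm_inv_app] at this
      have := m.p_pos k
      omega
    exact simple_of_mem m hdg hup hk h1
  refine ⟨d, ⟨hdg, hup, F5⟩, F3, ?_⟩
  intro j hj
  have hβ : m.N ≤ d⁻¹ (m.p j) := hup j hj
  set v := d⁻¹ * m.sr j * d with hv
  have hvg : v ∈ m.Wg := mul_mem (mul_mem (inv_mem hdg) (m.WJ_le J (m.sr_mem_WJ hj))) hdg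
  have hvβ : v (d⁻¹ (m.p j)) = m.ng (d⁻¹ (m.p j)) := by
    rw [hv]
    simp only [Equiv.Perm.mul_apply, perm_app_inv]
    rw [m.sr_p, (m.isW (inv_mem hdg)).neg]
  have hv1 : v ≠ 1 := by
    intro h
    rw [h, Equiv.Perm.one_apply] at hvβ
    have h2 := (m.ng_lt_iff (d⁻¹ (m.p j))).2 hβ
    rw [← hvβ] at h2
    omega
  have hvpos : ∀ γ : Fin D.nroots, m.N ≤ γ → γ ≠ d⁻¹ (m.p j) → m.N ≤ v γ := by
    intro γ hγ hne
    have hvγ : v γ = d⁻¹ (m.sr j (d γ)) := by rw [hv]; simp
    rw [hvγ]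
    by_cases hJ : D.InRootSub J (d γ)
    · have h1 : m.N ≤ d γ := by
        by_contra hc
        rw [not_le, ← m.ng_ge_iff] at hc
        have h2 := F2 _ hc (m.inRootSub_neg (d γ).2 hJ)
        rw [(m.isW (inv_mem hdg)).neg, perm_inv_app, m.ng_ge_iff] at h2
        omega
      have h2 : d γ ≠ m.p j := by
        intro h
        apply hne
        rw [← h]; simp
      apply F2 _ (m.sr_pos h1 h2)
      exact m.inRootSub_WJ (m.sr_mem_WJ hj) hJ
    · have h1 : (d γ : ℕ) < m.N := by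
        by_contra hc
        rw [not_lt] at hc
        have h2 := F3 _ hc hJ
        rw [perm_inv_app] at h2
        omega
      have h3 : ¬ D.InRootSub J (m.sr j (d γ)) := by
        intro h
        apply hJ
        have := m.inRootSub_WJ (m.sr_mem_WJ hj) h
        have e : m.sr j (m.sr j (d γ)) = d γ := by
          rw [← Equiv.Perm.mul_apply, m.sr_mul_self, Equiv.Perm.one_apply]
        rwa [e] at this
      have h4 : (m.sr j (d γ) : ℕ) < m.N := by
        by_contra hc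
        rw [not_lt, WJ_sign m (m.sr_mem_WJ hj) hJ] at hc
        omega
      have h5 : ¬ D.InRootSub J (m.ng (m.sr j (d γ))) := by
        intro h
        apply h3
        have := m.inRootSub_neg (m.ng (m.sr j (d γ))).2 h
        rwa [coe_ng, m.neg_neg (m.sr j (d γ)).2] at this
      have h6 := F3 _ ((m.ng_ge_iff _).2 h4) h5
      rw [(m.isW (inv_mem hdg)).neg, m.ng_lt_iff] at h6
      exact h6
  by_contra hc
  push Not at hc
  apply hv1
  apply m.eq_one_of_pos hvg
  intro i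
  apply hvpos _ (m.p_pos i)
  intro h
  apply hc i
  rw [h]; simp

theorem oppJ_unique {J : Set ℕ} {d d' : Equiv.Perm (Fin D.nroots)} (h : OppJ m J d) (h' : OppJ m J d') : d = d' := by
  obtain ⟨wJ, hwJ, hJneg⟩ := exists_longestJ m J
  have hwJg := m.WJ_le J hwJ
  have key : ∀ d, OppJ m J d → ∀ k : Fin D.rank, ((wJ * d) (m.p k) : ℕ) < m.N := by
    intro d ⟨hdg, hup, h5⟩ k
    rw [Equiv.Perm.mul_apply]
    rcases le_or_gt m.N (d (m.p k) : ℕ) with hk | hk
    · obtain ⟨j, hj, hjk⟩ := h5 k hk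
      rw [hjk]
      exact hJneg j hj
    · by_contra hc
      rw [not_lt] at hc
      have h1 : D.InRootSub J (d (m.p k)) := by
        by_contra hn
        have := (WJ_sign m hwJ hn).1 hc
        omega
      have h2 := pos_of_simple m (inv_mem hdg) hup ((m.ng_ge_iff _).2 hk) (m.inRootSub_neg (d (m.p k)).2 h1)
      rw [(m.isW (inv_mem hdg)).neg, perm_inv_app, m.ng_ge_iff] at h2
      have := m.p_pos k
      omega
  have := longest_unique m (mul_mem hwJg h.1) (mul_mem hwJg h'.1) (key d h) (key d' h')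
  exact mul_left_cancel this

end Cfsg.Agent.H14.Chev
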