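import Mathlib
import Cfsg.Agent.H14_StK

set_option autoImplicit false
set_option linter.unusedSectionVars false

/-!
The restriction of the Steinberg character to a parabolic subgroup, part 1.
-/

namespace Cfsg.Agent.H14.Chev

open Cfsg Cfsg.Lie Cfsg.Lie.ChevalleyDatum Cfsg.Agent.H6 Cfsg.Agent.H6.Chev Cfsg.Agent.H6.Chev.Model
open scoped Matrix Pointwise

section grp

theorem smul_mk_iff {G : Type*} [Group G] {H : Subgroup G} {x a : G} : x • (a : G ⧸ H) = (a : G ⧸ H) ↔ a⁻¹ * x * a ∈ H := by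
  rw [MulAction.Quotient.smul_mk, eq_comm, QuotientGroup.eq, smul_eq_mul, mul_assoc]

variable {G : Type*} [Group G] [Finite G]

/-- fixed points on `P/(A ∩ B)` when `P = A B` -/
theorem fixIn_inf (P A B : Subgroup G) (hA : A ≤ P) (_hB : B ≤ P) (hP : ∀ x ∈ P, ∃ a ∈ A, ∃ b ∈ B, x = a * b) (v : G) :
    Nat.card (FixIn P (A ⊓ B) v) = Nat.card (FixIn P A v) * Nat.card (FixIn P B v) := by
  rw [← Nat.card_prod]
  apply Nat.card_congr
  let fA : G ⧸ (A ⊓ B) → G ⧸ A := Subgroup.quotientMapOfLE inf_le_left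
  let fB : G ⧸ (A ⊓ B) → G ⧸ B := Subgroup.quotientMapOfLE inf_le_right
  have hfA : ∀ x : G, fA (x : G ⧸ (A ⊓ B)) = (x : G ⧸ A) := fun _ => rfl
  have hfB : ∀ x : G, fB (x : G ⧸ (A ⊓ B)) = (x : G ⧸ B) := fun _ => rfl
  refine Equiv.ofBijective (fun z => (⟨fA z.1, ?_⟩, ⟨fB z.1, ?_⟩)) ⟨?_, ?_⟩
  · obtain ⟨z, ⟨x, hx, rfl⟩, h⟩ := z
    refine ⟨⟨x, hx, rfl⟩, ?_⟩
    rw [MulAction.Quotient.smul_mk, QuotientGroup.eq] at h
    rw [hfA, MulAction.Quotient.smul_mk, QuotientGroup.eq]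
    exact h.1
  · obtain ⟨z, ⟨x, hx, rfl⟩, h⟩ := z
    refine ⟨⟨x, hx, rfl⟩, ?_⟩
    rw [MulAction.Quotient.smul_mk, QuotientGroup.eq] at h
    rw [hfB, MulAction.Quotient.smul_mk, QuotientGroup.eq]
    exact h.2
  · rintro ⟨z, ⟨x, hx, rfl⟩, h⟩ ⟨z', ⟨x', hx', rfl⟩, h'⟩ he
    have h1 : (x : G ⧸ A) = (x' : G ⧸ A) := congrArg (fun q => q.1.1) he
    have h2 : (x : G ⧸ B) = (x' : G ⧸ B) := congrArg (fun q => q.2.1) he
    rw [QuotientGroup.eq] at h1 h2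
    apply Subtype.ext
    change (x : G ⧸ (A ⊓ B)) = (x' : G ⧸ (A ⊓ B))
    rw [QuotientGroup.eq]
    exact ⟨h1, h2⟩
  · rintro ⟨⟨_, ⟨x, hx, rfl⟩, h⟩, ⟨_, ⟨y, hy, rfl⟩, h'⟩⟩
    obtain ⟨a, ha, b, hb, hab⟩ := hP (x⁻¹ * y) (mul_mem (inv_mem hx) hy)
    have hxa : x * a = y * b⁻¹ := by
      have : y = x * (a * b) := by rw [← hab]; group
      rw [this]; group
    have e1 : ((x * a : G) : G ⧸ A) = (x : G ⧸ A) := by
      rw [QuotientGroup.eq]
      have : (x * a)⁻¹ * x = a⁻¹ := by group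
      rw [this]; exact inv_mem ha
    have e2 : ((x * a : G) : G ⧸ B) = (y : G ⧸ B) := by
      rw [hxa, QuotientGroup.eq]
      have : (y * b⁻¹)⁻¹ * y = b := by group
      rw [this]; exact hb
    have hfix : v • ((x * a : G) : G ⧸ (A ⊓ B)) = ((x * a : G) : G ⧸ (A ⊓ B)) := by
      rw [← e1, MulAction.Quotient.smul_mk, QuotientGroup.eq] at h
      rw [← e2, MulAction.Quotient.smul_mk, QuotientGroup.eq] at h'
      rw [MulAction.Quotient.smul_mk, QuotientGroup.eq]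
      exact ⟨h, h'⟩
    refine ⟨⟨((x * a : G) : G ⧸ (A ⊓ B)), ⟨x * a, mul_mem hx (hA ha), rfl⟩, hfix⟩, ?_⟩
    apply Prod.ext
    · exact Subtype.ext e1
    · exact Subtype.ext e2

end grp

variable {D : ChevalleyDatum} {F : Type*} [Field F] (m : Model D)

include m in
theorem exists_nw (F : Type*) [Field F] {w : Equiv.Perm (Fin D.nroots)} (hw : w ∈ m.Wg) : ∃ n : ↥(D.group F),
    (n : GL D.Idx F) ∈ D.monomialSubgroup F ∧ m.Acts (n : GL D.Idx F) w := by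
  obtain ⟨n, hn, h⟩ := exists_acts m (F := F) hw
  exact ⟨⟨n, m.N_le_G hn⟩, hn, h⟩

open Classical in
/-- a monomial representative of a Weyl group element -/
noncomputable def nw (F : Type*) [Field F] (w : Equiv.Perm (Fin D.nroots)) : ↥(D.group F) :=
  if h : w ∈ m.Wg then (exists_nw m F h).choose else 1

theorem nw_mem {w : Equiv.Perm (Fin D.nroots)} (hw : w ∈ m.Wg) : (nw m F w : GL D.Idx F) ∈ D.monomialSubgroup F := by
  unfold nw; rw [dif_pos hw]; exact (exists_nw m F hw).choose_spec.1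

theorem nw_acts {w : Equiv.Perm (Fin D.nroots)} (hw : w ∈ m.Wg) : m.Acts (nw m F w : GL D.Idx F) w := by
  unfold nw; rw [dif_pos hw]; exact (exists_nw m F hw).choose_spec.2

theorem pos_nw {w : Equiv.Perm (Fin D.nroots)} (hw : w ∈ m.Wg) : pos m (nw m F w) = w :=
  pos_eq m (one_mem _) (nw_mem m hw) (one_mem _) (nw_acts m hw) (by group)

/-- `P_J ∩ n_d P_K n_d⁻¹` -/
noncomputable def QJ (F : Type*) [Field F] (J K : Finset ℕ) (d : Equiv.Perm (Fin D.nroots)) : Subgroup ↥(D.group F) :=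
  D.parabolicIn F J ⊓ (D.parabolicIn F K).comap (MulAut.conj (nw m F d)⁻¹).toMonoidHom

theorem mem_QJ {J K : Finset ℕ} {d : Equiv.Perm (Fin D.nroots)} {g : ↥(D.group F)} :
    g ∈ QJ m F J K d ↔ g ∈ D.parabolicIn F J ∧ (nw m F d)⁻¹ * g * nw m F d ∈ D.parabolicIn F K := by
  unfold QJ
  rw [Subgroup.mem_inf, Subgroup.mem_comap]
  have : (MulAut.conj (nw m F d)⁻¹).toMonoidHom g = (nw m F d)⁻¹ * g * nw m F d := by
    change (nw m F d)⁻¹ * g * ((nw m F d)⁻¹)⁻¹ = _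
    rw [inv_inv]
  rw [this]

/-- the map `a Q ↦ a n_d P_K` -/
noncomputable def shQ (J K : Finset ℕ) (d : Equiv.Perm (Fin D.nroots)) : ↥(D.group F) ⧸ QJ m F J K d → ↥(D.group F) ⧸ D.parabolicIn F K :=
  fun z => Quotient.liftOn' z (fun a => ((a * nw m F d : ↥(D.group F)) : ↥(D.group F) ⧸ D.parabolicIn F K)) (by
    intro a b h
    rw [QuotientGroup.leftRel_apply, mem_QJ] at h
    rw [QuotientGroup.eq]
    have e : (a * nw m F d)⁻¹ * (b * nw m F d) = (nw m F d)⁻¹ * (a⁻¹ * b) * nw m F d := by group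
    rw [e]; exact h.2)

theorem shQ_mk (J K : Finset ℕ) (d : Equiv.Perm (Fin D.nroots)) (a : ↥(D.group F)) :
    shQ m J K d (a : ↥(D.group F) ⧸ QJ m F J K d) = ((a * nw m F d : ↥(D.group F)) : ↥(D.group F) ⧸ D.parabolicIn F K) := rfl

theorem dc_rep (J K : Finset ℕ) (g : ↥(D.group F)) : ∃ d, MinDC m (J : Set ℕ) (K : Set ℕ) d ∧ ∃ a0 ∈ D.parabolicIn F J,
    ((a0 * nw m F d : ↥(D.group F)) : ↥(D.group F) ⧸ D.parabolicIn F K) = (g : ↥(D.group F) ⧸ D.parabolicIn F K) := by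
  obtain ⟨a, b, ha, hb, hmin⟩ := dc_exists m (J : Set ℕ) (K : Set ℕ) g
  obtain ⟨c, hc, n', hn', c', hc', hw', he'⟩ := pos_spec m (a * g * b)
  obtain ⟨d, hd⟩ : ∃ d, d = pos m (a * g * b) := ⟨_, rfl⟩
  rw [← hd] at hmin hw'
  have h1 : (nw m F d : GL D.Idx F)⁻¹ * n' ∈ D.diagonalSubgroup F := by
    apply m.mem_H_of_acts_one (mul_mem (inv_mem (nw_mem m hmin.1)) hn')
    have := (m.acts_inv (nw_mem m hmin.1) (nw_acts m hmin.1)).mul hw'
    rwa [inv_mul_cancel] at this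
  obtain ⟨a0, ha0⟩ : ∃ a0 : ↥(D.group F), a0 = a⁻¹ * ⟨c, m.B_le_G hc⟩ := ⟨_, rfl⟩
  have ha0P : a0 ∈ D.parabolicIn F J := by
    rw [ha0]
    exact mul_mem (inv_mem ha) (show (⟨c, m.B_le_G hc⟩ : ↥(D.group F)) ∈ D.parabolicIn F J from m.B_le_parabolic _ hc)
  refine ⟨d, hmin, a0, ha0P, ?_⟩
  rw [QuotientGroup.eq, mem_parabolicIn]
  have e1 : (g : GL D.Idx F) = (a : GL D.Idx F)⁻¹ * (c * n' * c') * (b : GL D.Idx F)⁻¹ := by
    rw [← he']
    simp only [Subgroup.coe_mul]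
    group
  have e : (((a0 * nw m F d)⁻¹ * g : ↥(D.group F)) : GL D.Idx F) = (nw m F d : GL D.Idx F)⁻¹ * n' * c' * (b : GL D.Idx F)⁻¹ := by
    rw [ha0]
    simp only [Subgroup.coe_mul, Subgroup.coe_inv, e1]
    group
  rw [e]
  exact mul_mem (mul_mem (m.B_le_parabolic _ (H_le_B h1)) (m.B_le_parabolic _ hc')) (inv_mem hb)

/-- Mackey decomposition of the fixed points of `x ∈ P_J` on `G/P_K` -/
theorem card_fixed_mackey [Finite F] {J K : Finset ℕ} {x : ↥(D.group F)} (hx : x ∈ D.parabolicIn F J)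
    [Fintype {d : Equiv.Perm (Fin D.nroots) // MinDC m (J : Set ℕ) (K : Set ℕ) d}] :
    Nat.card (MulAction.fixedBy (↥(D.group F) ⧸ D.parabolicIn F K) x) =
      ∑ d : {d : Equiv.Perm (Fin D.nroots) // MinDC m (J : Set ℕ) (K : Set ℕ) d},
        Nat.card (FixIn (D.parabolicIn F J) (QJ m F J K d.1) x) := by
  rw [← Nat.card_sigma]
  symm
  apply Nat.card_congr
  refine Equiv.ofBijective (fun z => ⟨shQ m J K z.1.1 z.2.1, ?_⟩) ⟨?_, ?_⟩
  · obtain ⟨d, z, ⟨a, ha, rfl⟩, h⟩ := z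
    rw [smul_mk_iff, mem_QJ] at h
    rw [MulAction.mem_fixedBy, shQ_mk, smul_mk_iff]
    have e : (a * nw m F d.1)⁻¹ * x * (a * nw m F d.1) = (nw m F d.1)⁻¹ * (a⁻¹ * x * a) * nw m F d.1 := by
      group
    rw [e]; exact h.2
  · rintro ⟨d, _, ⟨a, ha, rfl⟩, h⟩ ⟨d', _, ⟨a', ha', rfl⟩, h'⟩ he
    have he' : ((a * nw m F d.1 : ↥(D.group F)) : ↥(D.group F) ⧸ D.parabolicIn F K) = ((a' * nw m F d'.1 : ↥(D.group F)) : ↥(D.group F) ⧸ D.parabolicIn F K) :=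
      congrArg Subtype.val he
    rw [QuotientGroup.eq] at he'
    have h1 : d = d' := by
      have e : nw m F d'.1 = (a'⁻¹ * a) * (nw m F d.1 * ((a * nw m F d.1)⁻¹ * (a' * nw m F d'.1))) := by group
      obtain ⟨α, hα, h3⟩ := pos_parabolic_mul m (J := (J : Set ℕ)) (x := a'⁻¹ * a) (mul_mem (inv_mem ha') ha)
        (nw m F d.1 * ((a * nw m F d.1)⁻¹ * (a' * nw m F d'.1)))
      have h4 := pos_mul_parabolic m (J := (K : Set ℕ)) (g := nw m F d.1) (x := (a * nw m F d.1)⁻¹ * (a' * nw m F d'.1))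
        (by rw [pos_nw m d.2.1]; exact d.2.2.1) he'
      rw [← e, h4, pos_nw m d.2.1, pos_nw m d'.2.1, ← mul_assoc] at h3
      exact Subtype.ext (dc_unique m d.2 d'.2 hα (pos_mem_WJ m (J := (K : Set ℕ)) (x := (a * nw m F d.1)⁻¹ * (a' * nw m F d'.1)) he') h3)
    subst h1
    have h2 : (a : ↥(D.group F) ⧸ QJ m F J K d.1) = (a' : ↥(D.group F) ⧸ QJ m F J K d.1) := by
      rw [QuotientGroup.eq, mem_QJ]
      refine ⟨mul_mem (inv_mem ha) ha', ?_⟩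
      have e : (nw m F d.1)⁻¹ * (a⁻¹ * a') * nw m F d.1 = (a * nw m F d.1)⁻¹ * (a' * nw m F d.1) := by group
      rw [e]; exact he'
    rw [Sigma.mk.injEq]
    exact ⟨rfl, heq_of_eq (Subtype.ext h2)⟩
  · rintro ⟨z, hz⟩
    obtain ⟨g, rfl⟩ := QuotientGroup.mk_surjective z
    obtain ⟨d, hmin, a0, ha0P, hgz⟩ := dc_rep m J K g
    have hfix : a0⁻¹ * x * a0 ∈ QJ m F J K d := by
      rw [MulAction.mem_fixedBy, ← hgz, smul_mk_iff] at hz
      rw [mem_QJ]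
      refine ⟨mul_mem (mul_mem (inv_mem ha0P) hx) ha0P, ?_⟩
      have e : (nw m F d)⁻¹ * (a0⁻¹ * x * a0) * nw m F d = (a0 * nw m F d)⁻¹ * x * (a0 * nw m F d) := by
        group
      rw [e]; exact hz
    exact ⟨⟨⟨d, hmin⟩, ⟨QuotientGroup.mk a0, ⟨a0, ha0P, rfl⟩, smul_mk_iff.2 hfix⟩⟩, Subtype.ext hgz⟩

open Classical in
/-- simple roots mapped by `d` to simple roots in `J` -/
noncomputable def AJ (J : Finset ℕ) (d : Equiv.Perm (Fin D.nroots)) : Finset ℕ :=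
  (Finset.range D.rank).filter fun k => ∃ h : k < D.rank, ∃ j : Fin D.rank, (j : ℕ) ∈ J ∧ d (m.p ⟨k, h⟩) = m.p j

theorem QJ_inter {J K : Finset ℕ} {d : Equiv.Perm (Fin D.nroots)} (hd : MinDC m (J : Set ℕ) (K : Set ℕ) d) :
    QJ m F J K d = QJ m F J (K ∩ AJ m J d) d := by
  ext g
  rw [mem_QJ, mem_QJ]
  refine and_congr_right fun hg => ⟨fun h => ?_, fun h => ?_⟩
  · rw [mem_parabolicIn, mem_parabolic_iff m]
    set k := (nw m F d)⁻¹ * g * nw m F d with hk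
    have hkK := pos_mem_WJ m (J := (K : Set ℕ)) (x := k) h
    obtain ⟨a, ha, h1⟩ := pos_parabolic_mul m (J := (J : Set ℕ)) (x := g) hg (nw m F d)
    have e : g * nw m F d = nw m F d * k := by rw [hk]; group
    have h2 := pos_mul_parabolic m (J := (K : Set ℕ)) (g := nw m F d) (x := k)
        (by rw [pos_nw m hd.1]; exact hd.2.1) h
    rw [e, h2, pos_nw m hd.1] at h1
    have h3 := kilmoyer m hd _ _ rfl hkK a ha h1.symm
    refine m.WJ_mono ?_ h3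
    rintro i hi ⟨hiK, h, j, hj, hdj⟩
    rw [Finset.coe_inter]
    refine ⟨hiK, ?_⟩
    unfold AJ
    rw [Finset.mem_coe, Finset.mem_filter]
    exact ⟨Finset.mem_range.2 hi, h, j, hj, hdj⟩
  · have : D.parabolicSubgroup F ((K ∩ AJ m J d : Finset ℕ) : Set ℕ) ≤ D.parabolicSubgroup F (K : Set ℕ) :=
      parabolic_mono m (by rw [Finset.coe_inter]; exact Set.inter_subset_left)
    exact this h

end Cfsg.Agent.H14.Chev
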