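import Mathlib
import Cfsg.Agent.H14_StL

set_option autoImplicit false
set_option linter.unusedSectionVars false

/-!
The restriction of the Steinberg character to a parabolic subgroup, part 2.
-/

namespace Cfsg.Agent.H14.Chev

open Cfsg Cfsg.Lie Cfsg.Lie.ChevalleyDatum Cfsg.Agent.H6 Cfsg.Agent.H6.Chev Cfsg.Agent.H6.Chev.Model
open scoped Matrix Pointwise

variable {D : ChevalleyDatum} {F : Type*} [Field F] (m : Model D)

include m in
theorem levi_le_parabolic (J : Set ℕ) : D.leviSubgroup F J ≤ D.parabolicSubgroup F J := by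
  rw [← m.radical_sup_levi]; exact le_sup_right

include m in
theorem H_le_levi (J : Set ℕ) : D.diagonalSubgroup F ≤ D.leviSubgroup F J := le_sup_left

theorem gen_le_levi (J : Set ℕ) : m.gen F (fun r => D.InRootSub J r) ≤ D.leviSubgroup F J := by
  rw [m.levi_eq]; exact le_sup_right

theorem n_mem_levi {J : Set ℕ} {j : Fin D.rank} (hj : (j : ℕ) ∈ J) : m.n F j ∈ D.leviSubgroup F J := by
  apply gen_le_levi m J
  have h1 := m.inRootSub_simple hj j.2
  have h2 := m.inRootSub_neg (m.simple_lt j j.2) h1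
  unfold Model.n Model.nn
  exact mul_mem (mul_mem (m.X_mem_gen (R := fun r => D.InRootSub J r) h1 _) (m.X_mem_gen (R := fun r => D.InRootSub J r) h2 _))
    (m.X_mem_gen (R := fun r => D.InRootSub J r) h1 _)

theorem nl_mem_levi {J : Set ℕ} {l : List (Fin D.rank)} (h : ∀ i ∈ l, (i : ℕ) ∈ J) :
    m.nl F l ∈ D.leviSubgroup F J := by
  unfold Model.nl
  apply Subgroup.list_prod_mem
  intro x hx
  rw [List.mem_map] at hx
  obtain ⟨i, hi, rfl⟩ := hx
  exact n_mem_levi m (h i hi)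

/-- elements of `B ∩ L_J` -/
def InCJ (J : Set ℕ) (c : GL D.Idx F) : Prop := ∃ a ∈ m.gen F (fun r => m.N ≤ r ∧ D.InRootSub J r), ∃ h ∈ D.diagonalSubgroup F, c = a * h

theorem InCJ.levi {J : Set ℕ} {c : GL D.Idx F} (h : InCJ m J c) : c ∈ D.leviSubgroup F J := by
  obtain ⟨a, ha, h, hh, rfl⟩ := h
  exact mul_mem (gen_le_levi m J (m.gen_mono (fun r _ h => h.2) ha)) (H_le_levi m J hh)

theorem InCJ.borel {J : Set ℕ} {c : GL D.Idx F} (h : InCJ m J c) : c ∈ D.borelSubgroup F := by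
  obtain ⟨a, ha, h, hh, rfl⟩ := h
  refine mul_mem (U_le_B ?_) (H_le_B hh)
  rw [m.posUnipotent_eq]
  exact m.gen_mono (fun r _ h => h.1) ha

theorem InCJ.conj {J : Set ℕ} {c : GL D.Idx F} (h : InCJ m J c) {n : GL D.Idx F} {d : Equiv.Perm (Fin D.nroots)}
    (hn : n ∈ D.monomialSubgroup F) (hact : m.Acts n d) (hd : d ∈ m.Wg) (hup : UpJ m d⁻¹ J) : n⁻¹ * c * n ∈ D.borelSubgroup F := by
  obtain ⟨a, ha, h, hh, rfl⟩ := h
  have e : n⁻¹ * (a * h) * n = (n⁻¹ * a * n) * (n⁻¹ * h * n) := by group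
  rw [e]
  refine mul_mem (U_le_B ?_) (H_le_B ?_)
  · have h2 : m.gen F (fun r => m.N ≤ r ∧ D.InRootSub J r) ≤ (D.posUnipotent F).comap (MulAut.conj n⁻¹).toMonoidHom := by
      apply m.gen_le
      rintro r hr ⟨hN, hrJ⟩ t
      obtain ⟨v, hv⟩ := m.exists_conj_eq' (m.acts_inv hn hact) ⟨r, hr⟩ t
      have hv' : (MulAut.conj n⁻¹).toMonoidHom (m.X r t) = m.X (d⁻¹ ⟨r, hr⟩ : Fin D.nroots) v := hv
      rw [Subgroup.mem_comap, hv', m.posUnipotent_eq]
      exact m.X_mem_gen (R := fun r => m.N ≤ r) (pos_of_simple m (inv_mem hd) hup (r := ⟨r, hr⟩) hN hrJ) _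
    have := h2 ha
    rw [Subgroup.mem_comap] at this
    change n⁻¹ * a * (n⁻¹)⁻¹ ∈ _ at this
    rwa [inv_inv] at this
  · have := (Subgroup.mem_normalizer_iff.1 (m.N_le_normalizer (inv_mem hn)) h).1 hh
    rwa [inv_inv] at this

/-- Bruhat decomposition in the Levi subgroup -/
theorem levi_bruhat {J : Set ℕ} {l : ↥(D.group F)} (hl : (l : GL D.Idx F) ∈ D.leviSubgroup F J) :
    ∃ c1 n c2 : GL D.Idx F, InCJ m J c1 ∧ InCJ m J c2 ∧ n ∈ D.monomialSubgroup F ∧ m.Acts n (pos m l) ∧ (l : GL D.Idx F) = c1 * n * c2 := by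
  have hlP := levi_le_parabolic m J hl
  have hw := pos_mem_WJ m hlP
  obtain ⟨b1, hb1, n, hn, b2, hb2, hact, he⟩ := pos_spec m l
  have hB : ∀ b ∈ D.borelSubgroup F, ∃ u ∈ D.unipotentRadical F J, ∃ c, InCJ m J c ∧ b = u * c := by
    intro b hb
    obtain ⟨u, hu, h, hh, rfl⟩ := m.mem_B.1 hb
    obtain ⟨a1, ha1, a2, ha2, rfl⟩ := m.U_eq_mul (R₁ := fun r => m.N ≤ r ∧ ¬ D.InRootSub J r)
      (R₂ := fun r => m.N ≤ r ∧ D.InRootSub J r) (fun r h1 h2 => by
        by_cases h3 : D.InRootSub J r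
        · exact Or.inr ⟨h1, h3⟩
        · exact Or.inl ⟨h1, h3⟩) (fun r h => h.1) (fun r h => h.1) hu
    refine ⟨a1, by rw [m.unipotentRadical_eq]; exact ha1, a2 * h, ⟨a2, ha2, h, hh, rfl⟩, by group⟩
  obtain ⟨u1, hu1, c1, hc1, rfl⟩ := hB b1 hb1
  obtain ⟨u2, hu2, c2, hc2, rfl⟩ := hB b2 hb2
  have hnL : n ∈ D.leviSubgroup F J := by
    obtain ⟨l', hl', hwl⟩ := m.exists_wlJ hw
    have h1 : (m.nl F l')⁻¹ * n ∈ D.diagonalSubgroup F := by
      apply m.mem_H_of_acts_one (mul_mem (inv_mem (m.nl_mem_N l')) hn)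
      have := (m.acts_inv (m.nl_mem_N l') (m.acts_nl l')).mul hact
      rwa [hwl, inv_mul_cancel] at this
    have h2 : n = m.nl F l' * ((m.nl F l')⁻¹ * n) := by group
    rw [h2]
    exact mul_mem (nl_mem_levi m hl') (H_le_levi m J h1)
  have hcn : c1 * n ∈ D.leviSubgroup F J := mul_mem hc1.levi hnL
  have h3 : (c1 * n) * u2 * (c1 * n)⁻¹ ∈ D.unipotentRadical F J :=
    (Subgroup.mem_normalizer_iff.1 (m.parabolic_norm (F := F) J (levi_le_parabolic m J hcn)) u2).1 hu2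
  have h4 : u1 * ((c1 * n) * u2 * (c1 * n)⁻¹) ∈ D.unipotentRadical F J ⊓ D.leviSubgroup F J := by
    refine Subgroup.mem_inf.2 ⟨mul_mem hu1 h3, ?_⟩
    have e : u1 * ((c1 * n) * u2 * (c1 * n)⁻¹) = (l : GL D.Idx F) * (c1 * n * c2)⁻¹ := by rw [he]; group
    rw [e]
    exact mul_mem hl (inv_mem (mul_mem hcn hc2.levi))
  rw [m.radical_inf_levi, Subgroup.mem_bot] at h4
  refine ⟨c1, n, c2, hc1, hc2, hn, hact, ?_⟩
  calc (l : GL D.Idx F) = (u1 * ((c1 * n) * u2 * (c1 * n)⁻¹)) * (c1 * n * c2) := by rw [he]; group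
    _ = _ := by rw [h4, one_mul]

theorem WJ_conj {K K' : Set ℕ} {d : Equiv.Perm (Fin D.nroots)} (hd : d ∈ m.Wg)
    (h : ∀ k : Fin D.rank, (k : ℕ) ∈ K → ∃ j : Fin D.rank, (j : ℕ) ∈ K' ∧ d (m.p k) = m.p j) {w : Equiv.Perm (Fin D.nroots)}
    (hw : w ∈ m.WJ K) : d * w * d⁻¹ ∈ m.WJ K' := by
  have h1 : m.WJ K ≤ (m.WJ K').comap (MulAut.conj d).toMonoidHom := by
    unfold Model.WJ
    rw [Subgroup.closure_le]
    rintro _ ⟨i, hi, rfl⟩
    obtain ⟨j, hj, hij⟩ := h i hi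
    have h2 := (m.isW hd).conj hij
    rw [SetLike.mem_coe, Subgroup.mem_comap]
    have e : (MulAut.conj d).toMonoidHom (m.sr i) = m.sr j := by
      change d * m.sr i * d⁻¹ = m.sr j
      rw [← h2]; group
    rw [e]
    exact Subgroup.subset_closure ⟨j, hj, rfl⟩
  exact h1 hw

theorem WJ_conj' {K K' : Set ℕ} {d : Equiv.Perm (Fin D.nroots)} (hd : d ∈ m.Wg)
    (h : ∀ j : Fin D.rank, (j : ℕ) ∈ K' → ∃ k : Fin D.rank, (k : ℕ) ∈ K ∧ d (m.p k) = m.p j) {w : Equiv.Perm (Fin D.nroots)}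
    (hw : w ∈ m.WJ K') : d⁻¹ * w * d ∈ m.WJ K := by
  have := WJ_conj m (K := K') (K' := K) (inv_mem hd) (fun j hj => by
    obtain ⟨k, hk, hkj⟩ := h j hj
    exact ⟨k, hk, by rw [← hkj, perm_inv_app]⟩) hw
  rwa [inv_inv] at this

theorem levi_QJ {J K K' : Finset ℕ} {d : Equiv.Perm (Fin D.nroots)} (hd : OppJ m (J : Set ℕ) d)
    (h3 : ∀ r : Fin D.nroots, m.N ≤ r → ¬ D.InRootSub J r → (d⁻¹ r : ℕ) < m.N)
    (hK : ∀ k : Fin D.rank, (k : ℕ) ∈ K → ∃ j : Fin D.rank, (j : ℕ) ∈ K' ∧ d (m.p k) = m.p j)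
    (hK' : ∀ j : Fin D.rank, (j : ℕ) ∈ K' → ∃ k : Fin D.rank, (k : ℕ) ∈ K ∧ d (m.p k) = m.p j) :
    QJ m F J K d = (D.leviSubgroup F (J : Set ℕ)).subgroupOf (D.group F) ⊓ D.parabolicIn F K' := by
  have hdg := hd.1
  have hup := hd.2.1
  have hupK : UpJ m d K := by
    intro k hk
    obtain ⟨j, hj, hkj⟩ := hK k hk
    rw [hkj]; exact m.p_pos j
  have hn := nw_mem m (F := F) hdg
  have hact := nw_acts m (F := F) hdg
  -- position of `n₀⁻¹ l n₀`
  have key : ∀ l : ↥(D.group F), (l : GL D.Idx F) ∈ D.leviSubgroup F (J : Set ℕ) →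
      pos m ((nw m F d)⁻¹ * l * nw m F d) = d⁻¹ * pos m l * d ∧ pos m (l * nw m F d) = pos m l * d := by
    intro l hl
    obtain ⟨c1, n, c2, hc1, hc2, hnn, hnact, he⟩ := levi_bruhat m hl
    have e1 := hc1.conj m hn hact hdg hup
    have e2 := hc2.conj m hn hact hdg hup
    constructor
    · refine pos_eq m e1 (n := (nw m F d : GL D.Idx F)⁻¹ * n * (nw m F d : GL D.Idx F)) (mul_mem (mul_mem (inv_mem hn) hnn) hn) e2
        (((m.acts_inv hn hact).mul hnact).mul hact) ?_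
      rw [Subgroup.coe_mul, Subgroup.coe_mul, Subgroup.coe_inv, he]
      group
    · refine pos_eq m hc1.borel (n := n * (nw m F d : GL D.Idx F)) (mul_mem hnn hn) e2 (hnact.mul hact) ?_
      rw [Subgroup.coe_mul, he]
      group
  have hsup : ∀ l : ↥(D.group F), (l : GL D.Idx F) ∈ D.leviSubgroup F (J : Set ℕ) → l ∈ D.parabolicIn F K' →
      (nw m F d)⁻¹ * l * nw m F d ∈ D.parabolicIn F K := by
    intro l hl hlP
    rw [mem_parabolicIn, mem_parabolic_iff m, (key l hl).1]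
    exact WJ_conj' m hdg hK' (pos_mem_WJ m (J := (K' : Set ℕ)) (x := l) hlP)
  ext q
  rw [mem_QJ, Subgroup.mem_inf]
  constructor
  · rintro ⟨hqJ, hqK⟩
    have hq' : (q : GL D.Idx F) ∈ D.unipotentRadical F (J : Set ℕ) ⊔ D.leviSubgroup F (J : Set ℕ) := by
      rw [m.radical_sup_levi]; exact hqJ
    rw [sup_comm, mem_sup_norm (le_trans (levi_le_parabolic m _) (m.parabolic_norm _))] at hq'
    obtain ⟨l0, hl0, u0, hu0, hq⟩ := hq'
    -- write q = u l with u = l0 u0 l0⁻¹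
    obtain ⟨u, hu⟩ : ∃ u : GL D.Idx F, u = l0 * u0 * l0⁻¹ := ⟨_, rfl⟩
    have huR : u ∈ D.unipotentRadical F (J : Set ℕ) := by
      rw [hu]
      exact (Subgroup.mem_normalizer_iff.1 (m.parabolic_norm (F := F) _ (levi_le_parabolic m _ hl0)) u0).1 hu0
    have huB : u ∈ D.borelSubgroup F := U_le_B (m.radical_le_U _ huR)
    obtain ⟨l, hl⟩ : ∃ l : ↥(D.group F), (l : GL D.Idx F) = l0 := ⟨⟨l0, m.parabolic_le_G _ (levi_le_parabolic m _ hl0)⟩, rfl⟩
    obtain ⟨u', hu'⟩ : ∃ u' : ↥(D.group F), (u' : GL D.Idx F) = u := ⟨⟨u, m.B_le_G huB⟩, rfl⟩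
    have hql : q = u' * l := by
      apply Subtype.ext
      rw [Subgroup.coe_mul, hu', hl, hq, hu]; group
    have hlL : (l : GL D.Idx F) ∈ D.leviSubgroup F (J : Set ℕ) := by rw [hl]; exact hl0
    have hkW := pos_mem_WJ m (J := (K : Set ℕ)) (x := (nw m F d)⁻¹ * q * nw m F d) hqK
    have hpm := pos_mul_parabolic m (J := (K : Set ℕ)) (g := nw m F d) (x := (nw m F d)⁻¹ * q * nw m F d)
      (by rw [pos_nw m hdg]; exact hupK) hqK
    have e1 : nw m F d * ((nw m F d)⁻¹ * q * nw m F d) = u' * (l * nw m F d) := by rw [hql]; group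
    rw [e1, pos_mul_left m (by rw [hu']; exact huB), (key l hlL).2, pos_nw m hdg] at hpm
    have hlP : l ∈ D.parabolicIn F K' := by
      rw [mem_parabolicIn, mem_parabolic_iff m]
      have e2 : pos m l = d * pos m ((nw m F d)⁻¹ * q * nw m F d) * d⁻¹ := by rw [← hpm]; group
      rw [e2]
      exact WJ_conj m hdg hK hkW
    have hyP : (nw m F d)⁻¹ * u' * nw m F d ∈ D.parabolicIn F K := by
      have e3 : (nw m F d)⁻¹ * u' * nw m F d = ((nw m F d)⁻¹ * q * nw m F d) * ((nw m F d)⁻¹ * l * nw m F d)⁻¹ := by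
        rw [hql]; group
      rw [e3]
      exact mul_mem hqK (inv_mem (hsup l hlL hlP))
    have hy1 := pos_mul_parabolic m (J := (K : Set ℕ)) (g := nw m F d) (x := (nw m F d)⁻¹ * u' * nw m F d)
      (by rw [pos_nw m hdg]; exact hupK) hyP
    have e4 : nw m F d * ((nw m F d)⁻¹ * u' * nw m F d) = u' * nw m F d := by group
    rw [e4, pos_mul_left m (by rw [hu']; exact huB), pos_nw m hdg] at hy1
    have hy2 : pos m ((nw m F d)⁻¹ * u' * nw m F d) = 1 := by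
      have := congrArg (fun x => d⁻¹ * x) hy1
      simpa using this.symm
    rw [pos_one_iff] at hy2
    have hy3 : (nw m F d : GL D.Idx F)⁻¹ * u * ((nw m F d : GL D.Idx F)⁻¹)⁻¹ ∈ D.borelSubgroup F := by
      rw [inv_inv]
      have e5 : (nw m F d : GL D.Idx F)⁻¹ * u * (nw m F d : GL D.Idx F) = (((nw m F d)⁻¹ * u' * nw m F d : ↥(D.group F)) : GL D.Idx F) := by
        rw [Subgroup.coe_mul, Subgroup.coe_mul, Subgroup.coe_inv, hu']
      rw [e5]; exact hy2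
    have hu2 := mem_gen_of_conj_B m (m.acts_inv hn hact) (m.radical_le_U _ huR) hy3
    have hu3 : u ∈ D.leviSubgroup F (J : Set ℕ) := by
      apply gen_le_levi m
      refine m.gen_mono ?_ hu2
      rintro r _ ⟨hN, hr, hpos⟩
      by_contra hJ
      have := h3 ⟨r, hr⟩ hN hJ
      omega
    have hu4 : u ∈ D.unipotentRadical F (J : Set ℕ) ⊓ D.leviSubgroup F (J : Set ℕ) := Subgroup.mem_inf.2 ⟨huR, hu3⟩
    rw [m.radical_inf_levi, Subgroup.mem_bot] at hu4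
    have hu5 : u' = 1 := Subtype.ext (by rw [hu', hu4]; rfl)
    rw [hql, hu5, one_mul]
    exact ⟨hlL, hlP⟩
  · rintro ⟨hqL, hqP⟩
    exact ⟨levi_le_parabolic m _ hqL, hsup q hqL hqP⟩

end Cfsg.Agent.H14.Chev
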