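import Mathlib
import Cfsg.Agent.H14_StM

set_option autoImplicit false
set_option linter.unusedSectionVars false

/-!
Involutions of Chevalley groups in characteristic two: chambers in maximal position.
-/

namespace Cfsg.Agent.H14.Chev

open Cfsg Cfsg.Lie Cfsg.Lie.ChevalleyDatum Cfsg.Agent.H6 Cfsg.Agent.H6.Chev Cfsg.Agent.H6.Chev.Model
open scoped Matrix

variable {D : ChevalleyDatum} {F : Type*} [Field F] (m : Model D)

theorem pos_parabolic_mul_eq {J : Set ℕ} {g x : ↥(D.group F)}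
    (hg : ∀ j : Fin D.rank, (j : ℕ) ∈ J → m.N ≤ (pos m g)⁻¹ (m.p j)) (hx : (x : GL D.Idx F) ∈ D.parabolicSubgroup F J) :
    pos m (x * g) = pos m x * pos m g := by
  have h3 := pos_mul_parabolic m (g := g⁻¹) (x := x⁻¹) (J := J) (by rw [pos_inv]; exact hg) (by
    rw [Subgroup.coe_inv]; exact inv_mem hx)
  rw [← mul_inv_rev, pos_inv, pos_inv, pos_inv, ← mul_inv_rev, inv_inj] at h3
  exact h3

/-- `B` is in maximal position with respect to `t` -/
def MaxPos (t : ↥(D.group F)) : Prop :=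
  ∀ x : ↥(D.group F), (m.inv (pos m (x⁻¹ * t * x))).card ≤ (m.inv (pos m t)).card

theorem exists_maxPos [Finite F] (t : ↥(D.group F)) : ∃ x : ↥(D.group F), MaxPos m (x⁻¹ * t * x) := by
  have : Finite (GL D.Idx F) := inferInstance
  obtain ⟨x, hx⟩ := Finite.exists_max (fun x : ↥(D.group F) => (m.inv (pos m (x⁻¹ * t * x))).card)
  refine ⟨x, fun y => ?_⟩
  have := hx (x * y)
  have e : (x * y)⁻¹ * t * (x * y) = y⁻¹ * (x⁻¹ * t * x) * y := by group
  rw [e] at this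
  exact this

/-- the set of simple roots fixed by `w` -/
def FJ (w : Equiv.Perm (Fin D.nroots)) : Set ℕ := {i | ∃ h : i < D.rank, w (m.p ⟨i, h⟩) = m.p ⟨i, h⟩}

theorem mem_FJ {w : Equiv.Perm (Fin D.nroots)} {i : Fin D.rank} : (i : ℕ) ∈ FJ m w ↔ w (m.p i) = m.p i :=
  ⟨fun ⟨_, h⟩ => h, fun h => ⟨i.2, h⟩⟩

/-- admissible positions -/
def Adm (w : Equiv.Perm (Fin D.nroots)) : Prop :=
  w ∈ m.Wg ∧ w * w = 1 ∧ ∀ i : Fin D.rank, m.N ≤ w (m.p i) → w (m.p i) = m.p i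

variable {m}

theorem Adm.inv {w : Equiv.Perm (Fin D.nroots)} (h : Adm m w) : w⁻¹ = w := inv_eq_of_mul_eq_one_left h.2.1

theorem Adm.app {w : Equiv.Perm (Fin D.nroots)} (h : Adm m w) (r : Fin D.nroots) : w (w r) = r := by
  rw [← Equiv.Perm.mul_apply, h.2.1]; rfl

theorem Adm.neg {w : Equiv.Perm (Fin D.nroots)} (h : Adm m w) {i : Fin D.rank} (hi : (i : ℕ) ∉ FJ m w) :
    (w (m.p i) : ℕ) < m.N := by
  by_contra hc
  exact hi ((mem_FJ m).2 (h.2.2 i (not_lt.1 hc)))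

theorem Adm.fix {w : Equiv.Perm (Fin D.nroots)} (h : Adm m w) {r : Fin D.nroots} (hr : D.InRootSub (FJ m w) r) :
    w r = r := by
  apply m.ext_coef
  intro j hj
  rw [(m.isW h.1).lin r j hj, ← m.coef_sum r hj]
  apply Finset.sum_congr rfl
  intro k _
  by_cases hk : (k : ℕ) ∈ FJ m w
  · rw [(mem_FJ m).1 hk]
  · rw [(m.inRootSub_iff' r.2).1 hr k k.2 hk, zero_mul, zero_mul]

theorem Adm.neg_of {w : Equiv.Perm (Fin D.nroots)} (h : Adm m w) {r : Fin D.nroots} (hN : m.N ≤ r)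
    (hr : ¬ D.InRootSub (FJ m w) r) : (w r : ℕ) < m.N := by
  by_contra hc
  rw [not_lt] at hc
  have h1 := m.evr_phi_nonneg (FJ m w) hc (w r).2
  rw [(m.isW h.1).evr] at h1
  have hle : ∀ k : Fin D.rank, m.coef r k * m.evr (Model.phi (FJ m w)) (w (m.p k)) ≤ 0 := by
    intro k
    by_cases hk : (k : ℕ) ∈ FJ m w
    · have h0 : m.evr (Model.phi (FJ m w)) (m.p k) = 0 := m.evr_phi_eq_zero (m.inRootSub_simple hk k.2)
      rw [(mem_FJ m).1 hk, h0, mul_zero]
    · apply mul_nonpos_of_nonneg_of_nonpos (m.coef_nonneg r hN r.2 k k.2)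
      have h2 := h.neg hk
      have h3 := m.evr_phi_nonneg (FJ m w) ((m.neg_ge_iff (w (m.p k)).2).2 h2) (m.neg_lt (w (m.p k)).2)
      rw [m.evr_neg _ (w (m.p k)).2] at h3
      omega
  have heq : m.evr (fun k => if h : k < D.rank then m.evr (Model.phi (FJ m w)) (w (m.p ⟨k, h⟩)) else 0) r =
      ∑ k : Fin D.rank, m.coef r k * m.evr (Model.phi (FJ m w)) (w (m.p k)) := by
    unfold Model.evr
    rw [Finset.sum_range]
    apply Finset.sum_congr rfl
    intro k _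
    beta_reduce
    rw [dif_pos k.2]
  rw [heq] at h1
  have h2 : ∑ k : Fin D.rank, m.coef r k * m.evr (Model.phi (FJ m w)) (w (m.p k)) = 0 :=
    le_antisymm (Finset.sum_nonpos fun k _ => hle k) h1
  have h3 := (Finset.sum_eq_zero_iff_of_nonpos fun k _ => hle k).1 h2
  apply hr
  rw [m.inRootSub_iff' r.2]
  intro i hi hiJ
  have h4 := h3 ⟨i, hi⟩ (Finset.mem_univ _)
  rcases mul_eq_zero.1 h4 with h5 | h5
  · exact h5
  · exfalso
    -- then `w p_i` lies in the subsystem, hence is fixed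
    have h6 : D.InRootSub (FJ m w) (w (m.p ⟨i, hi⟩)) := by
      by_contra h7
      have h8 := h.neg (i := ⟨i, hi⟩) hiJ
      have h9 : ¬ D.InRootSub (FJ m w) (D.neg (w (m.p ⟨i, hi⟩))) := by
        intro h10
        have := m.inRootSub_neg (m.neg_lt (w (m.p ⟨i, hi⟩)).2) h10
        rw [m.neg_neg (w (m.p ⟨i, hi⟩)).2] at this
        exact h7 this
      have h10 := m.evr_phi_pos ((m.neg_ge_iff (w (m.p ⟨i, hi⟩)).2).2 h8) (m.neg_lt (w (m.p ⟨i, hi⟩)).2) h9
      rw [m.evr_neg _ (w (m.p ⟨i, hi⟩)).2, h5] at h10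
      omega
    have h7 := h.fix h6
    rw [h.app] at h7
    exact hiJ ((mem_FJ m).2 h7.symm)

theorem Adm.mem_sub {w : Equiv.Perm (Fin D.nroots)} (h : Adm m w) {r : Fin D.nroots} (hN : m.N ≤ r) (hr : m.N ≤ w r) :
    D.InRootSub (FJ m w) r := by
  by_contra hc
  have := h.neg_of hN hc
  omega

variable (m)

theorem adm_of_max [Finite F] {t : ↥(D.group F)} (ht : t * t = 1) (hmax : MaxPos m t) : Adm m (pos m t) := by
  have hinv : (pos m t)⁻¹ = pos m t := by
    rw [← pos_inv, inv_eq_of_mul_eq_one_left ht]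
  refine ⟨pos_mem m t, ?_, ?_⟩
  · calc pos m t * pos m t = (pos m t)⁻¹ * pos m t := by rw [hinv]
      _ = 1 := inv_mul_cancel _
  intro i hi
  by_contra hne
  have hW := pos_mem m t
  set ni : ↥(D.group F) := ⟨m.n F i, m.N_le_G (m.n_mem_N i)⟩ with hni
  have hpn : pos m ni = m.sr i := pos_eq m (one_mem _) (m.n_mem_N i) (one_mem _) (m.acts_n i) (by rw [hni]; group)
  have hnP : (ni : GL D.Idx F) ∈ D.parabolicSubgroup F ({(i : ℕ)} : Set ℕ) := by
    rw [mem_parabolic_iff m, hpn]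
    exact m.sr_mem_WJ rfl
  have h1 : pos m (t * ni) = pos m t * m.sr i := by
    rw [pos_mul_parabolic m (J := ({(i : ℕ)} : Set ℕ)) (fun j hj => ?_) hnP, hpn]
    rw [show j = i from Fin.ext hj]; exact hi
  have hpos2 : m.N ≤ ((pos m t * m.sr i)⁻¹ (m.p i) : Fin D.nroots) := by
    rw [mul_inv_rev, Equiv.Perm.mul_apply, m.sr_inv, hinv]
    exact m.sr_pos hi hne
  have h2 : pos m (ni⁻¹ * (t * ni)) = m.sr i * (pos m t * m.sr i) := by
    rw [pos_parabolic_mul_eq m (J := ({(i : ℕ)} : Set ℕ)) (fun j hj => ?_) (by rw [Subgroup.coe_inv]; exact inv_mem hnP),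
      h1, pos_inv, hpn, m.sr_inv]
    rw [h1, show j = i from Fin.ext hj]; exact hpos2
  have h3 := m.card_inv_mul (m.isW hW) hi
  have h4 := m.card_inv_sr_left (mul_mem hW (Subgroup.subset_closure ⟨i, rfl⟩)) hpos2
  have h5 := hmax ni
  rw [mul_assoc, h2] at h5
  omega

end Cfsg.Agent.H14.Chev
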