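import Mathlib
import Cfsg.Agent.H14_InvA
import Cfsg.Agent.H14_StH

set_option autoImplicit false
set_option linter.unusedSectionVars false

/-!
Involutions of Chevalley groups in characteristic two: the normal form.
-/

namespace Cfsg.Agent.H14.Chev

open Cfsg Cfsg.Lie Cfsg.Lie.ChevalleyDatum Cfsg.Agent.H6 Cfsg.Agent.H6.Chev Cfsg.Agent.H6.Chev.Model
open scoped Matrix

variable {D : ChevalleyDatum} {F : Type*} [Field F] (m : Model D)

include m in
theorem X_inj {r : Fin D.nroots} {a b : F} (h : m.X r a = m.X r b) : a = b := by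
  have : xg m r a = xg m r b := Subtype.ext h
  exact xg_inj m this

theorem sq_eq_one_char2 [CharP F 2] {c : F} (h : c * c = 1) : c = 1 := by
  have h1 : (c - 1) * (c - 1) = 0 := by
    have h2 : (2 : F) = 0 := CharTwo.two_eq_zero
    linear_combination h - c * h2 + h2
  have h3 := mul_self_eq_zero.1 h1
  exact sub_eq_zero.1 h3

include m in
/-- a monomial involution centralizes the root subgroups it normalizes -/
theorem acts_fix_comm [CharP F 2] {n : GL D.Idx F} {w : Equiv.Perm (Fin D.nroots)} (hact : m.Acts n w)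
    (hsq : n * n = 1) {r : Fin D.nroots} (hr : w r = r) (a : F) : n * m.X r a = m.X r a * n := by
  obtain ⟨c, hc⟩ := hact
  have h1 : ∀ a : F, n * m.X r a = m.X r ((c r : F) * a) * n := by
    intro a
    have := hc.X r a
    rwa [hr] at this
  have h2 : m.X r (1 : F) = m.X r ((c r : F) * ((c r : F) * 1)) := by
    have h3 : n * (n * m.X r (1 : F)) = m.X r ((c r : F) * ((c r : F) * 1)) * (n * n) := by
      rw [h1, ← mul_assoc, h1, mul_assoc]
    rw [← mul_assoc, hsq, one_mul, mul_one] at h3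
    exact h3
  have h3 := X_inj m h2
  have h4 : (c r : F) = 1 := sq_eq_one_char2 (by rw [mul_one] at h3; exact h3.symm)
  rw [h1, h4, one_mul]

include m in
theorem nl_comm [CharP F 2] {n : GL D.Idx F} {w : Equiv.Perm (Fin D.nroots)} (hact : m.Acts n w)
    (hsq : n * n = 1) (hw : m.IsW w) : ∀ l : List (Fin D.rank), (∀ i ∈ l, w (m.p i) = m.p i) →
    n * m.nl F l = m.nl F l * n := by
  intro l
  induction l with
  | nil => intro _; simp
  | cons i l ih =>
    intro h
    have h1 : w (m.p i) = m.p i := h i (by simp)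
    have h2 : w (m.ng (m.p i)) = m.ng (m.p i) := by rw [hw.neg, h1]
    have h3 : n * m.n F i = m.n F i * n := by
      have e : m.n F i = m.X (m.p i) 1 * m.X (m.ng (m.p i)) (-1⁻¹) * m.X (m.p i) 1 := rfl
      rw [e]
      have e1 := acts_fix_comm m hact hsq h1 (1 : F)
      have e2 := acts_fix_comm m hact hsq h2 (-1⁻¹ : F)
      calc n * (m.X (m.p i) 1 * m.X (m.ng (m.p i)) (-1⁻¹) * m.X (m.p i) 1)
          = (n * m.X (m.p i) 1) * m.X (m.ng (m.p i)) (-1⁻¹) * m.X (m.p i) 1 := by group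
        _ = m.X (m.p i) 1 * (n * m.X (m.ng (m.p i)) (-1⁻¹)) * m.X (m.p i) 1 := by rw [e1]; group
        _ = m.X (m.p i) 1 * m.X (m.ng (m.p i)) (-1⁻¹) * (n * m.X (m.p i) 1) := by rw [e2]; group
        _ = _ := by rw [e1]; group
    rw [m.nl_cons, ← mul_assoc, h3, mul_assoc, ih (fun j hj => h j (by simp [hj])), mul_assoc]

theorem card_inv_lt {w a : Equiv.Perm (Fin D.nroots)} (hw : Adm m w) (ha : a ∈ m.WJ (FJ m w)) (hne : a ≠ 1) :
    (m.inv w).card < (m.inv (a * w)).card := by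
  apply Finset.card_lt_card
  rw [Finset.ssubset_iff_of_subset]
  · obtain ⟨j, hj, hneg⟩ := m.exists_neg ha hne
    refine ⟨m.p j, ?_, ?_⟩
    · rw [m.mem_inv]
      refine ⟨m.p_pos j, ?_⟩
      rw [Equiv.Perm.mul_apply, (mem_FJ m).1 hj]
      exact hneg
    · rw [m.mem_inv]
      rintro ⟨_, h⟩
      rw [(mem_FJ m).1 hj] at h
      have := m.p_pos j
      omega
  · intro r hr
    rw [m.mem_inv] at hr ⊢
    refine ⟨hr.1, ?_⟩
    rw [Equiv.Perm.mul_apply]
    have h1 : ¬ D.InRootSub (FJ m w) (w r) := by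
      intro h2
      have h3 := hw.fix h2
      rw [hw.app] at h3
      have := hr.1
      have := hr.2
      rw [← h3] at this
      omega
    have h2 := WJ_sign m ha h1
    by_contra hc
    rw [not_lt] at hc
    have := h2.1 hc
    have := hr.2
    omega

include m in
theorem max_form [Finite F] [CharP F 2] {t : ↥(D.group F)} (ht : t * t = 1) (hmax : MaxPos m t) :
    ∃ b : ↥(D.group F), (b : GL D.Idx F) ∈ D.borelSubgroup F ∧ ∃ n : ↥(D.group F), (n : GL D.Idx F) ∈ D.monomialSubgroup F ∧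
      m.Acts (n : GL D.Idx F) (pos m t) ∧ n * n = 1 ∧ b * t * b⁻¹ = n := by
  have hadm := adm_of_max m ht hmax
  set w := pos m t with hw
  set J := FJ m w with hJ
  obtain ⟨β, hβ, n0, hn0, β', hβ', hact, he⟩ := pos_spec m t
  rw [← hw] at hact
  -- `β' t β'⁻¹ = u n₁`
  obtain ⟨u, hu, h, hh, hc⟩ := m.mem_B.1 (mul_mem hβ' hβ)
  set n1 : GL D.Idx F := h * n0 with hn1
  have hn1N : n1 ∈ D.monomialSubgroup F := mul_mem (m.H_le_N hh) hn0
  have hact1 : m.Acts n1 w := by
    have := (m.acts_h hh).mul hact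
    rwa [one_mul] at this
  have ht1 : β' * (t : GL D.Idx F) * β'⁻¹ = u * n1 := by
    rw [he, hn1]
    calc β' * (β * n0 * β') * β'⁻¹ = (β' * β) * n0 := by group
      _ = u * (h * n0) := by rw [hc]; group
  have htt : (t : GL D.Idx F) * t = 1 := by
    have := congrArg Subtype.val ht
    simpa using this
  have hsq : u * n1 * (u * n1) = 1 := by
    rw [← ht1]
    calc β' * (t : GL D.Idx F) * β'⁻¹ * (β' * (t : GL D.Idx F) * β'⁻¹) = β' * ((t : GL D.Idx F) * t) * β'⁻¹ := by group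
      _ = 1 := by rw [htt]; group
  have hn2 : n1 * n1 ∈ D.diagonalSubgroup F := by
    apply m.mem_H_of_acts_one (mul_mem hn1N hn1N)
    have := hact1.mul hact1
    rwa [hadm.2.1] at this
  have hconj : n1 * u * n1⁻¹ = u⁻¹ * (n1 * n1)⁻¹ := by
    have : n1 * u * n1⁻¹ = u⁻¹ * (u * n1 * (u * n1)) * (n1 * n1)⁻¹ := by group
    rw [this, hsq]; group
  have hcB : n1 * u * n1⁻¹ ∈ D.borelSubgroup F := by
    rw [hconj]
    exact mul_mem (inv_mem (U_le_B hu)) (H_le_B (inv_mem hn2))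
  have huY := mem_gen_of_conj_B m hact1 hu hcB
  have huJ : u ∈ m.gen F (fun r => m.N ≤ r ∧ D.InRootSub J r) := by
    refine m.gen_mono ?_ huY
    rintro r _ ⟨hN, hr, hpos⟩
    exact ⟨hN, hadm.mem_sub (r := ⟨r, hr⟩) hN hpos⟩
  have hcY : n1 * u * n1⁻¹ ∈ D.posUnipotent F := by
    have h1 := m.map_gen_acts (F := F) hact1 (R := fun r => m.N ≤ r ∧ D.InRootSub J r) (R' := fun r => m.N ≤ r)
      (fun r hr => by rw [hadm.fix hr.2]; exact hr.1)
    have h2 := h1 ⟨u, huJ, rfl⟩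
    rw [m.posUnipotent_eq]
    exact h2
  have hn1sq : n1 * n1 = 1 := by
    have h1 : (n1 * n1)⁻¹ = u * (n1 * u * n1⁻¹) := by rw [hconj]; group
    have h2 : (n1 * n1)⁻¹ ∈ D.posUnipotent F ⊓ D.diagonalSubgroup F :=
      Subgroup.mem_inf.2 ⟨by rw [h1]; exact mul_mem hu hcY, inv_mem hn2⟩
    rw [m.U_inf_H, Subgroup.mem_bot] at h2
    exact inv_eq_one.1 h2
  -- the longest element of `W_J`
  have hu1 : u = 1 := by
    obtain ⟨a0, ha0, hneg⟩ := exists_longestJ m J
    obtain ⟨l, hl, hla⟩ := exists_word_J m ha0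
    rw [m.coe_wp] at hla
    set x : GL D.Idx F := m.nl F l with hx
    have hactx : m.Acts x a0 := by rw [← hla]; exact m.acts_nl l
    have hxN : x ∈ D.monomialSubgroup F := m.nl_mem_N l
    have hcomm : n1 * x = x * n1 := nl_comm m hact1 hn1sq (m.isW hadm.1) l (fun i hi => (mem_FJ m).1 (hl i hi))
    have hxG : x ∈ D.group F := m.N_le_G hxN
    have hxP : x ∈ D.parabolicSubgroup F J := nl_mem_parabolic m hl
    -- `x⁻¹ u x` lies in the negative unipotent group
    have hV : x⁻¹ * u * x ∈ D.negUnipotent F := by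
      have h1 := m.map_gen_acts (F := F) (m.acts_inv hxN hactx) (R := fun r => m.N ≤ r ∧ D.InRootSub J r)
        (R' := fun r => r < m.N) (fun r hr =>
          neg_of_simpleJ m (inv_mem (m.WJ_le J ha0)) (inv_negJ m ha0 hneg) hr.1 hr.2)
      have h2 := h1 ⟨u, huJ, rfl⟩
      rw [m.negUnipotent_eq]
      have e : (MulAut.conj x⁻¹).toMonoidHom u = x⁻¹ * u * x := by
        change x⁻¹ * u * x⁻¹⁻¹ = _
        rw [inv_inv]
      rw [e] at h2
      exact h2
    have hβG : β' ∈ D.group F := m.B_le_G hβ'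
    set z : ↥(D.group F) := ⟨x⁻¹ * u * x, mul_mem (mul_mem (inv_mem hxG) (m.U_le_G hu)) hxG⟩ with hz
    set n1g : ↥(D.group F) := ⟨n1, m.N_le_G hn1N⟩ with hn1g
    have hzP : (z : GL D.Idx F) ∈ D.parabolicSubgroup F J :=
      mul_mem (mul_mem (inv_mem hxP) (m.B_le_parabolic J (U_le_B hu))) hxP
    have hpn : pos m n1g = w := pos_eq m (one_mem _) hn1N (one_mem _) hact1 (by rw [hn1g]; group)
    have h1 : pos m (z * n1g) = pos m z * w := by
      rw [pos_parabolic_mul_eq m (J := J) (fun j hj => ?_) hzP, hpn]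
      rw [hpn, hadm.inv, (mem_FJ m).1 hj]
      exact m.p_pos j
    -- it is a conjugate of `t`
    have h2 := hmax ((⟨β', hβG⟩ : ↥(D.group F))⁻¹ * ⟨x, hxG⟩)
    have h3 : ((⟨β', hβG⟩ : ↥(D.group F))⁻¹ * ⟨x, hxG⟩)⁻¹ * t * ((⟨β', hβG⟩ : ↥(D.group F))⁻¹ * ⟨x, hxG⟩) = z * n1g := by
      apply Subtype.ext
      show (β'⁻¹ * x)⁻¹ * (t : GL D.Idx F) * (β'⁻¹ * x) = x⁻¹ * u * x * n1
      calc (β'⁻¹ * x)⁻¹ * (t : GL D.Idx F) * (β'⁻¹ * x) = x⁻¹ * (β' * (t : GL D.Idx F) * β'⁻¹) * x := by group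
        _ = x⁻¹ * u * (n1 * x) := by rw [ht1]; group
        _ = _ := by rw [hcomm]; group
    rw [h3, h1] at h2
    have hzW : pos m z ∈ m.WJ J := pos_mem_WJ m hzP
    have hz1 : pos m z = 1 := by
      by_contra hne
      have := card_inv_lt m hadm hzW hne
      rw [← hw] at h2
      omega
    have h4 := (pos_one_iff m).1 hz1
    have h5 : x⁻¹ * u * x ∈ D.borelSubgroup F ⊓ D.negUnipotent F := Subgroup.mem_inf.2 ⟨h4, hV⟩
    rw [m.B_inf_V, Subgroup.mem_bot] at h5
    have : u = x * (x⁻¹ * u * x) * x⁻¹ := by group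
    rw [this, h5]; group
  refine ⟨⟨β', m.B_le_G hβ'⟩, hβ', ⟨n1, m.N_le_G hn1N⟩, hn1N, hact1, Subtype.ext hn1sq, ?_⟩
  apply Subtype.ext
  show β' * (t : GL D.Idx F) * β'⁻¹ = n1
  rw [ht1, hu1, one_mul]

end Cfsg.Agent.H14.Chev
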