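import Mathlib
import Cfsg.Agent.H14_InvB

set_option autoImplicit false
set_option linter.unusedSectionVars false

/-!
Involutions of Chevalley groups in characteristic two: uniqueness of the class of a position, and a move
which lengthens a position.
-/

namespace Cfsg.Agent.H14.Chev

open Cfsg Cfsg.Lie Cfsg.Lie.ChevalleyDatum Cfsg.Agent.H6 Cfsg.Agent.H6.Chev Cfsg.Agent.H6.Chev.Model
open scoped Matrix

variable {D : ChevalleyDatum} {F : Type*} [Field F] (m : Model D)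

include m in
theorem conj_of_same [Fintype F] [CharP F 2] {n n' : ↥(D.group F)} {w : Equiv.Perm (Fin D.nroots)}
    (hn : (n : GL D.Idx F) ∈ D.monomialSubgroup F) (hn' : (n' : GL D.Idx F) ∈ D.monomialSubgroup F)
    (hact : m.Acts (n : GL D.Idx F) w) (hact' : m.Acts (n' : GL D.Idx F) w) (hsq : n * n = 1) (hsq' : n' * n' = 1) :
    ∃ h : ↥(D.group F), h * n * h⁻¹ = n' := by
  set k : ↥(D.group F) := n⁻¹ * n' with hk
  have hkH : (k : GL D.Idx F) ∈ D.diagonalSubgroup F := by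
    apply m.mem_H_of_acts_one
    · rw [hk, Subgroup.coe_mul, Subgroup.coe_inv]; exact mul_mem (inv_mem hn) hn'
    · have := (m.acts_inv hn hact).mul hact'
      rw [inv_mul_cancel] at this
      exact this
  have hn'k : n' = n * k := by rw [hk]; group
  have hinv : n⁻¹ * k * n = k⁻¹ := by
    have h1 : n * k * (n * k) = 1 := by rw [← hn'k]; exact hsq'
    have h2 : n⁻¹ = n := inv_eq_of_mul_eq_one_left hsq
    rw [h2]
    calc n * k * n = (n * k * (n * k)) * k⁻¹ := by group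
      _ = k⁻¹ := by rw [h1, one_mul]
  have hpow : k ^ (Fintype.card F - 1) = 1 := Subtype.ext (by
    rw [Subgroup.coe_pow]; exact H_pow m hkH)
  -- `|F|` is even
  obtain ⟨e, he⟩ : ∃ e, Fintype.card F = 2 * e := by
    obtain ⟨n, hn, hc⟩ := FiniteField.card F 2
    obtain ⟨j, hj⟩ := Nat.exists_eq_succ_of_ne_zero n.ne_zero
    refine ⟨2 ^ j, ?_⟩
    rw [hc, hj, Nat.succ_eq_add_one, pow_succ]; ring
  have hcard : 0 < Fintype.card F := Fintype.card_pos
  have hke : k ^ e * k ^ e = k := by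
    rw [← pow_add]
    have : e + e = (Fintype.card F - 1) + 1 := by omega
    rw [this, pow_add, hpow, one_mul, pow_one]
  have hinvp : n⁻¹ * k ^ e * n = (k ^ e)⁻¹ := by
    have h1 : n⁻¹ * k ^ e * n = (n⁻¹ * k * n) ^ e := by
      have := conj_pow (i := e) (a := n⁻¹) (b := k)
      rw [_root_.inv_inv] at this
      exact this.symm
    rw [h1, hinv, inv_pow]
  refine ⟨(k ^ e)⁻¹, ?_⟩
  rw [_root_.inv_inv, hn'k]
  have h2 : (k ^ e)⁻¹ * n = n * k ^ e := by
    rw [← hinvp]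
    have h3 : n⁻¹ = n := inv_eq_of_mul_eq_one_left hsq
    calc n⁻¹ * k ^ e * n * n = n⁻¹ * k ^ e * (n * n) := by group
      _ = n⁻¹ * k ^ e := by rw [hsq, mul_one]
      _ = n * k ^ e := by rw [h3]
  rw [h2, mul_assoc, hke]

theorem no_move [Finite F] [CharP F 2] {t : ↥(D.group F)} (ht : t * t = 1) (hmax : MaxPos m t) {i j : Fin D.rank}
    (hij : i ≠ j) (hi : pos m t (m.p i) = m.p i) {k : Fin D.nroots} (hk : pos m t (m.ng (m.p j)) = k) (hkN : m.N ≤ k)
    (hki : k ≠ m.p i) (hkj : k ≠ m.p j) {c : ℤ} (hcomm : D.commTerms k (m.ng (m.p j)) = [((m.p i : Fin D.nroots).val, c, 1, 1)])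
    (hc : (c : F) ≠ 0) : False := by
  obtain ⟨b, hb, n, hn, hact, hsq, he⟩ := max_form m ht hmax
  have hadm := adm_of_max m ht hmax
  set w := pos m t with hw
  have hW := m.isW hadm.1
  have hnsq : (n : GL D.Idx F) * n = 1 := by
    have := congrArg Subtype.val hsq
    simpa using this
  set N : GL D.Idx F := (n : GL D.Idx F) with hN
  set A : GL D.Idx F := m.X (m.ng (m.p j)) 1 with hA
  -- conjugates of `A`
  obtain ⟨cc, hcc⟩ := hact
  set d : F := (cc (m.ng (m.p j)) : F) with hd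
  have hd0 : d ≠ 0 := Units.ne_zero _
  have hNA : ∀ a : F, N * m.X (m.ng (m.p j)) a = m.X k (d * a) * N := by
    intro a
    have := hcc.X (m.ng (m.p j)) a
    rwa [hk] at this
  have hact : m.Acts N w := ⟨cc, hcc⟩
  set v : F := (c : F) * d with hv
  have hv0 : v ≠ 0 := mul_ne_zero hc hd0
  set β : GL D.Idx F := m.X (m.ng (m.p i)) v⁻¹ with hβ
  have hwi : w (m.ng (m.p i)) = m.ng (m.p i) := by rw [hW.neg, hi]
  have hNβ : N * β = β * N := acts_fix_comm m hact hnsq hwi _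
  have hne1 : ((m.ng (m.p j) : Fin D.nroots) : ℕ) ≠ k := by
    have h1 := (m.ng_lt_iff (m.p j)).2 (m.p_pos j)
    intro h
    omega
  have hne2 : ((m.ng (m.p j) : Fin D.nroots) : ℕ) ≠ D.neg k := by
    intro h
    have h3 : m.ng (m.p j) = m.ng k := Fin.ext h
    exact hkj (m.ng_inj h3).symm
  have hform : A * m.X k (-d) = m.X k (-d) * A * m.X (m.p i) v := by
    have := m.X_comm_formula k.2 (m.ng (m.p j)).2 hne1 hne2 (-d) (1 : F)
    rw [ChevalleyDatum.commWord, hcomm] at this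
    simp only [List.map_cons, List.map_nil, _root_.neg_neg, pow_one, mul_one] at this
    rw [Model.word_cons, Model.word_nil, mul_one] at this
    exact this
  have hAi : A * m.X (m.p i) v = m.X (m.p i) v * A := comm_simple m hij v 1
  have hNA' : N * A⁻¹ = m.X k (-d) * N := by
    have h1 := hNA (-1)
    rw [m.X_neg] at h1
    rw [hA, h1]
    congr 2
    ring
  have hAN : A * N = N * m.X k (d * 1) := by
    have h1 := hNA 1
    have h2 : N⁻¹ = N := inv_eq_of_mul_eq_one_left hnsq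
    calc A * N = N⁻¹ * (N * A) * N := by group
      _ = N⁻¹ * (m.X k (d * 1) * N) * N := by rw [hA, h1]
      _ = N⁻¹ * m.X k (d * 1) * (N * N) := by group
      _ = N * m.X k (d * 1) := by rw [hnsq, mul_one, h2]
  have hUk : ∀ a : F, β⁻¹ * m.X k a * β ∈ D.posUnipotent F := by
    intro a
    apply m.Up_le_U i
    have h1 := (Subgroup.mem_normalizer_iff.1 (inv_mem (m.X_neg_norm_Up i (v⁻¹ : F))) (m.X k a)).1
      (m.X_mem_gen (R := fun r => m.N ≤ r ∧ r ≠ m.p i) ⟨hkN, fun h => hki (Fin.ext h)⟩ a)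
    rw [_root_.inv_inv] at h1
    exact h1
  set b1 : GL D.Idx F := β⁻¹ * m.X k (-d) * β with hb1
  set b2 : GL D.Idx F := β⁻¹ * m.X k (d * 1) * β with hb2
  -- the conjugate `β⁻¹ A n A⁻¹ β`
  have hkey : β⁻¹ * A * N * A⁻¹ * β = b1 * (β⁻¹ * m.X (m.p i) v) * (β * N) * b2 := by
    calc β⁻¹ * A * N * A⁻¹ * β = β⁻¹ * A * (N * A⁻¹) * β := by group
      _ = β⁻¹ * (A * m.X k (-d)) * (N * β) := by rw [hNA']; group
      _ = β⁻¹ * m.X k (-d) * (A * m.X (m.p i) v) * (N * β) := by rw [hform]; group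
      _ = β⁻¹ * m.X k (-d) * m.X (m.p i) v * (A * N) * β := by rw [hAi]; group
      _ = β⁻¹ * m.X k (-d) * m.X (m.p i) v * (N * m.X k (d * 1)) * β := by rw [hAN]
      _ = (β⁻¹ * m.X k (-d) * β) * (β⁻¹ * m.X (m.p i) v) * (N * β) * (β⁻¹ * m.X k (d * 1) * β) := by group
      _ = _ := by rw [hNβ]
  -- rank one computation
  have hnn : β⁻¹ * m.X (m.p i) v = m.X (m.p i) (-v) * m.nn (m.p i) v := by
    have h1 : m.nn (m.p i) v = m.X (m.p i) v * m.X (m.ng (m.p i)) (-v⁻¹) * m.X (m.p i) v := rfl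
    rw [h1, m.X_neg, m.X_neg, hβ]
    group
  have hnnN : m.nn (m.p i) v ∈ D.monomialSubgroup F := nn_mem_N m i hv0
  have hnnact : m.Acts (m.nn (m.p i) v) (m.sr i) := by
    rw [m.nn_mul_nn_inv]
    have h1 : m.Acts (m.hh (m.p i) v) 1 := by
      have := m.hh_mem_H (F := F) (m.p i).2 (Units.mk0 v hv0)
      exact m.acts_h this
    have h2 := h1.mul (m.acts_n (F := F) i)
    rwa [one_mul] at h2
  obtain ⟨u, hu⟩ := m.exists_conj_eq' hnnact (m.ng (m.p i)) v⁻¹
  have hsr : m.sr i (m.ng (m.p i)) = m.p i := by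
    rw [(m.isW_sr i).neg, m.sr_p, ng_ng]
  rw [hsr] at hu
  have hkey2 : β⁻¹ * A * N * A⁻¹ * β = (b1 * m.X (m.p i) (-v) * m.X (m.p i) u) * (m.nn (m.p i) v * N) * b2 := by
    rw [hkey, hnn, ← hu, hβ]
    group
  -- positions
  have hAG : A ∈ D.group F := m.X_mem_group _ _
  have hβG : β ∈ D.group F := m.X_mem_group _ _
  set x : ↥(D.group F) := (⟨A, hAG⟩ : ↥(D.group F))⁻¹ * ⟨β, hβG⟩ with hx
  have hposx : pos m (x⁻¹ * n * x) = m.sr i * w := by
    refine pos_eq m (b := b1 * m.X (m.p i) (-v) * m.X (m.p i) u) (n := m.nn (m.p i) v * N) (b' := b2)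
      (mul_mem (mul_mem (U_le_B (hUk (-d))) (U_le_B (m.X_mem_pos (m.p_pos i) (-v)))) (U_le_B (m.X_mem_pos (m.p_pos i) u)))
      (mul_mem hnnN hn) (U_le_B (hUk (d * 1))) (hnnact.mul hact) ?_
    rw [← hkey2, hx]
    simp only [Subgroup.coe_mul, Subgroup.coe_inv, mul_inv_rev, _root_.inv_inv]
    rw [hN]
    group
  have h1 := hmax (b⁻¹ * x)
  have h2 : (b⁻¹ * x)⁻¹ * t * (b⁻¹ * x) = x⁻¹ * n * x := by
    rw [← he]; group
  rw [h2, hposx, ← hw] at h1
  have h3 := m.card_inv_sr_left (w := w) hadm.1 (j := i) (by rw [hadm.inv, hi]; exact m.p_pos i)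
  omega

end Cfsg.Agent.H14.Chev
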