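import Mathlib
import Cfsg.Agent.H14_InvC
import Cfsg.Agent.H6_ChevCox
import Cfsg.Agent.H6_ChevStage

set_option autoImplicit false
set_option linter.unusedSectionVars false

/-!
Involutions of Chevalley groups in characteristic two: kernel-checkable list of the maximal positions.
-/

namespace Cfsg.Agent.H6.Chev.Tab

theorem beq_ne {a b : ℕ} (h : (!(Nat.beq a b)) = true) : a ≠ b := by
  rintro rfl
  rw [Nat.beq_refl] at h
  exact absurd h (by decide)

variable (t : Tab)

/-- decoding of a packed word -/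
def decW : ℕ → ℕ → List ℕ
  | 0, _ => []
  | f + 1, n => bif Nat.beq n 0 then [] else Nat.sub (Nat.land n 15) 1 :: decW f (Nat.shiftRight n 4)

def ordB (c : ℤ) : Bool := Nat.beq (Nat.land (Int.natAbs c) 1) 1

/-- the commutator word is a single element of the root subgroup of `q`, with odd coefficient -/
def mvB (q : ℕ) : List (ℕ × ℤ × ℕ × ℕ) → Bool
  | [(r, c, a, b)] => Nat.beq r q && (ordB c && (Nat.beq a 1 && Nat.beq b 1))
  | _ => false

/-- check of one subset -/
def ckInvJ (J : ℕ) (l : List ℕ) (i j : ℕ) : Bool :=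
  (allNat t.l fun k => bif J.testBit k then Nat.ble t.N (t.pw l.reverse (nth t.S k)) else true) && (
  (allNat t.l fun k => bif Nat.ble t.N (t.pw l (nth t.S k)) then
    (anyNat t.l fun j => J.testBit j && Nat.beq (t.pw l (nth t.S k)) (nth t.S j)) else true) && (
  l.all (fun a => Nat.blt a t.l) && (
  bif Nat.beq i j then (Nat.beq i 15 || (Nat.blt i t.l && (J.testBit i && !(Nat.beq (t.pw l (nth t.S i)) (nth t.S i)))))
  else (Nat.blt i t.l && (Nat.blt j t.l && (J.testBit i && (!(J.testBit j) &&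
    (Nat.ble t.N (t.pw l (t.ng (nth t.S j))) && (!(Nat.beq (t.pw l (t.ng (nth t.S j))) (nth t.S i)) &&
    (!(Nat.beq (t.pw l (t.ng (nth t.S j))) (nth t.S j)) &&
      mvB (nth t.S i) (t.cm (t.pw l (t.ng (nth t.S j))) (t.ng (nth t.S j)))))))))))))

/-- check of all subsets; `AL` is the list of the allowed subsets -/
def ckInv (f : ℕ) (WL IL JL AL : List ℕ) : Bool :=
  allNat (2 ^ t.l) fun J => t.ckInvJ J (decW f (nth WL J)) (nth IL J) (nth JL J) &&
    (!(Nat.beq (nth IL J) 15 && Nat.beq (nth JL J) 15) || AL.any fun a => Nat.beq a J)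

end Cfsg.Agent.H6.Chev.Tab

namespace Cfsg.Agent.H14.Chev

open Cfsg Cfsg.Lie Cfsg.Lie.ChevalleyDatum Cfsg.Agent.H6 Cfsg.Agent.H6.Chev Cfsg.Agent.H6.Chev.Model
open scoped Matrix

theorem exists_finList {k : ℕ} : ∀ l : List ℕ, (∀ a ∈ l, a < k) → ∃ l' : List (Fin k), l'.map Fin.val = l
  | [], _ => ⟨[], rfl⟩
  | a :: l, h => by
    obtain ⟨l', hl'⟩ := exists_finList l fun x hx => h x (List.mem_cons_of_mem _ hx)
    exact ⟨⟨a, h a List.mem_cons_self⟩ :: l', by rw [List.map_cons, hl']⟩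

theorem exists_bits (k : ℕ) (S : Set ℕ) : ∃ n < 2 ^ k, ∀ i < k, (n.testBit i = true ↔ i ∈ S) := by
  classical
  induction k with
  | zero => exact ⟨0, by norm_num, fun i hi => absurd hi (by omega)⟩
  | succ k ih =>
    obtain ⟨n, hn, h⟩ := ih
    by_cases hk : k ∈ S
    · refine ⟨2 ^ k + n, by rw [pow_succ]; omega, fun i hi => ?_⟩
      rcases Nat.lt_succ_iff_lt_or_eq.1 hi with h1 | rfl
      · rw [← h i h1, Nat.testBit_two_pow_add_gt h1]
      · rw [Nat.testBit_two_pow_add_eq, Nat.testBit_lt_two_pow hn]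
        simpa using hk
    · refine ⟨n, by rw [pow_succ]; omega, fun i hi => ?_⟩
      rcases Nat.lt_succ_iff_lt_or_eq.1 hi with h1 | rfl
      · exact h i h1
      · rw [Nat.testBit_lt_two_pow hn]
        simpa using hk

variable {t : Tab} {D : ChevalleyDatum} {F : Type*} [Field F] (m : Model D)

theorem Adm.oppJ {w : Equiv.Perm (Fin D.nroots)} (h : Adm m w) : OppJ m (FJ m w) w := by
  refine ⟨h.1, ?_, ?_⟩
  · intro j hj
    rw [h.inv, (mem_FJ m).1 hj]
    exact m.p_pos j
  · intro k hk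
    have := h.2.2 k hk
    exact ⟨k, (mem_FJ m).2 this, this⟩

theorem oppJ_congr {J J' : Set ℕ} (h : ∀ i < D.rank, i ∈ J ↔ i ∈ J') {d : Equiv.Perm (Fin D.nroots)} (hd : OppJ m J d) :
    OppJ m J' d := by
  refine ⟨hd.1, fun j hj => hd.2.1 j ((h j j.2).2 hj), fun k hk => ?_⟩
  obtain ⟨j, hj, e⟩ := hd.2.2 k hk
  exact ⟨j, (h j j.2).1 hj, e⟩

theorem ordB_cast [CharP F 2] {c : ℤ} (h : Tab.ordB c = true) : (c : F) ≠ 0 := by
  intro h0
  have h1 : ((2 : ℕ) : ℤ) ∣ c := (CharP.intCast_eq_zero_iff F 2 c).1 h0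
  unfold Tab.ordB at h
  have h2 : Nat.land c.natAbs 1 = 1 := Nat.eq_of_beq_eq_true h
  have h3 : c.natAbs &&& 1 = 1 := h2
  rw [Nat.and_one_is_mod] at h3
  omega

theorem mvB_iff {q : ℕ} {L : List (ℕ × ℤ × ℕ × ℕ)} (h : Tab.mvB q L = true) : ∃ c : ℤ, Tab.ordB c = true ∧ L = [(q, c, 1, 1)] := by
  unfold Tab.mvB at h
  split at h
  · rw [Bool.and_eq_true, Bool.and_eq_true, Bool.and_eq_true] at h
    obtain ⟨h1, h2, h3, h4⟩ := h
    refine ⟨_, h2, ?_⟩
    rw [Nat.eq_of_beq_eq_true h1, Nat.eq_of_beq_eq_true h3, Nat.eq_of_beq_eq_true h4]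
  · exact absurd h (by simp)

theorem max_cases [Finite F] [CharP F 2] (b : t.Base D) (ck : t.Checks D) {f : ℕ} {WL IL JL AL : List ℕ}
    (h : t.ckInv f WL IL JL AL = true) {x : ↥(D.group F)} (hx : x * x = 1) (hmax : MaxPos m x) :
    ∃ J ∈ AL, ∃ l : List (Fin D.rank), l.map Fin.val = Tab.decW f (nth WL J) ∧ pos m x = m.wl l := by
  have hadm := adm_of_max m hx hmax
  obtain ⟨J, hJ, hbits⟩ := exists_bits D.rank (FJ m (pos m x))
  have hl : D.rank = t.l := b.rank
  have hn : D.nroots = t.n := b.nroots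
  have hN : m.N = t.N := by have := m.nroots_eq; have := b.n2; omega
  have h1 := allNat_iff h J (by rw [← hl]; exact hJ)
  rw [Bool.and_eq_true] at h1
  obtain ⟨h1, h2⟩ := h1
  unfold Tab.ckInvJ at h1
  rw [Bool.and_eq_true, Bool.and_eq_true, Bool.and_eq_true] at h1
  obtain ⟨ha, hb, hc, hd⟩ := h1
  obtain ⟨l, hlw⟩ := exists_finList (k := D.rank) (Tab.decW f (nth WL J)) (by
    intro a ha
    have := List.all_eq_true.1 hc a ha
    rw [hl]; simpa [Nat.blt_eq] using this)
  have hp : ∀ i : Fin D.rank, ((m.p i : Fin D.nroots) : ℕ) = nth t.S i := fun i => by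
    rw [m.coe_p]; exact b.simple_eq (by have := i.2; omega)
  have hng : ∀ i : Fin D.rank, ((m.ng (m.p i) : Fin D.nroots) : ℕ) = t.ng (nth t.S i) := fun i => by
    rw [m.coe_ng, hp]; exact b.ng_eq (by rw [← hp]; have := (m.p i).2; omega)
  have hpw : ∀ r : Fin D.nroots, ((m.wl l r : Fin D.nroots) : ℕ) = t.pw (Tab.decW f (nth WL J)) r := fun r => by
    rw [Tab.pw_eq m b ck, hlw]
  have hpwr : ∀ r : Fin D.nroots, (((m.wl l)⁻¹ r : Fin D.nroots) : ℕ) = t.pw (Tab.decW f (nth WL J)).reverse r := fun r => by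
    rw [← m.wl_reverse, Tab.pw_eq m b ck, List.map_reverse, hlw]
  have hopp : OppJ m (bits J) (m.wl l) := by
    refine ⟨m.wl_mem l, ?_, ?_⟩
    · intro j hj
      have h3 := allNat_iff ha j (by rw [← hl]; exact j.2)
      change J.testBit j = true at hj
      rw [hj, cond_true] at h3
      rw [hpwr, hp, hN]
      exact Nat.le_of_ble_eq_true h3
    · intro k hk
      have h3 := allNat_iff hb k (by rw [← hl]; exact k.2)
      have h4 : Nat.ble t.N (t.pw (Tab.decW f (nth WL J)) (nth t.S k)) = true := by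
        rw [← hp, ← hpw, ← hN]; exact Nat.ble_eq_true_of_le hk
      rw [h4, cond_true] at h3
      obtain ⟨j, hj, h5⟩ := anyNat_iff h3
      rw [Bool.and_eq_true] at h5
      refine ⟨⟨j, by omega⟩, h5.1, Fin.ext ?_⟩
      rw [hpw, hp, hp]
      exact Nat.eq_of_beq_eq_true h5.2
  have hw : pos m x = m.wl l :=
    oppJ_unique m (oppJ_congr m (fun i hi => (hbits i hi).symm) hadm.oppJ) hopp
  -- the cases
  by_cases hij : nth IL J = nth JL J
  · rw [hij, Nat.beq_refl, cond_true, Bool.or_eq_true] at hd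
    rcases hd with hd | hd
    · have h15 := Nat.eq_of_beq_eq_true hd
      rw [hij, h15] at h2
      have h3 : (AL.any fun a => Nat.beq a J) = true := by simpa using h2
      obtain ⟨a, ha, hb⟩ := List.any_eq_true.1 h3
      rw [Nat.eq_of_beq_eq_true hb] at ha
      exact ⟨J, ha, l, hlw, hw⟩
    · exfalso
      rw [Bool.and_eq_true, Bool.and_eq_true] at hd
      obtain ⟨hd1, hd2, hd3⟩ := hd
      have hi : nth JL J < D.rank := by rw [hl]; exact Nat.le_of_ble_eq_true hd1
      have h3 := (mem_FJ m (i := ⟨nth JL J, hi⟩)).1 ((hbits _ hi).1 hd2)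
      have h4 := congrArg Fin.val h3
      rw [hw, hpw, hp] at h4
      exact Tab.beq_ne hd3 h4
  · exfalso
    have hne : Nat.beq (nth IL J) (nth JL J) = false := by
      rw [← Bool.not_eq_true]; exact fun h => hij (Nat.eq_of_beq_eq_true h)
    rw [hne, cond_false] at hd
    simp only [Bool.and_eq_true] at hd
    obtain ⟨e1, e2, e3, e4, e5, e6, e7, e8⟩ := hd
    have hi : nth IL J < D.rank := by rw [hl]; exact Nat.le_of_ble_eq_true e1
    have hj : nth JL J < D.rank := by rw [hl]; exact Nat.le_of_ble_eq_true e2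
    set i : Fin D.rank := ⟨nth IL J, hi⟩ with hidef
    set j : Fin D.rank := ⟨nth JL J, hj⟩ with hjdef
    have h3 : pos m x (m.p i) = m.p i := (mem_FJ m).1 ((hbits _ hi).1 e3)
    have hne' : i ≠ j := fun h => hij (congrArg Fin.val h)
    have hkv : ((pos m x (m.ng (m.p j)) : Fin D.nroots) : ℕ) = t.pw (Tab.decW f (nth WL J)) (t.ng (nth t.S (nth JL J))) := by
      rw [hw, hpw, hng]
    obtain ⟨c, hc1, hc2⟩ := mvB_iff e8
    refine no_move m hx hmax (i := i) (j := j) hne' h3 (k := pos m x (m.ng (m.p j))) rfl ?_ ?_ ?_ (c := c) ?_ (ordB_cast hc1)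
    · rw [hkv, hN]; exact Nat.le_of_ble_eq_true e5
    · intro h
      have := congrArg Fin.val h
      rw [hkv, hp] at this
      exact Tab.beq_ne e6 this
    · intro h
      have := congrArg Fin.val h
      rw [hkv, hp] at this
      exact Tab.beq_ne e7 this
    · rw [Tab.commTerms_eq b ck (by rw [← hn]; exact (pos m x (m.ng (m.p j))).2) (by rw [← hn]; exact (m.ng (m.p j)).2),
        hkv, hng, hc2, hp]

end Cfsg.Agent.H14.Chev
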