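import Mathlib
import Cfsg.Agent.H14_InvD

set_option autoImplicit false
set_option linter.unusedSectionVars false

/-!
Involutions of Chevalley groups in characteristic two: ranks of products of the elements `n_i`.
-/

namespace Cfsg.Agent.H14.Chev

open Cfsg Cfsg.Lie Cfsg.Lie.ChevalleyDatum Cfsg.Agent.H6 Cfsg.Agent.H6.Chev Cfsg.Agent.H6.Chev.Model
open scoped Matrix

variable {D : ChevalleyDatum} {F : Type*} [Field F] (m : Model D)

theorem eta2 [CharP F 2] {i r : ℕ} (hi : i < D.rank) (hr : r < D.nroots) : ((m.eta i r : ℤ) : F) = 1 := by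
  rcases m.eta_sq i hi r hr with h | h <;> rw [h]
  · exact Int.cast_one
  · rw [Int.cast_neg, Int.cast_one, CharTwo.neg_eq]

theorem nl_X2 [CharP F 2] (l : List (Fin D.rank)) (r : Fin D.nroots) (a : F) :
    m.nl F l * m.X r a = m.X (m.wl l r) a * m.nl F l := by
  induction l with
  | nil =>
    change (1 : GL D.Idx F) * _ = _ * 1
    rw [one_mul, mul_one]; rfl
  | cons i l ih =>
    rw [m.nl_cons, mul_assoc, ih, ← mul_assoc, m.n_X i.2 (m.wl l r).2, eta2 m i.2 (m.wl l r).2, one_mul, mul_assoc]
    rfl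

theorem nl_eb2 [CharP F 2] (l : List (Fin D.rank)) (r : Fin D.nroots) :
    ((m.nl F l : GL D.Idx F) : Matrix D.Idx D.Idx F) *ᵥ eb D F r = eb D F (m.wl l r) := by
  induction l with
  | nil =>
    change ((1 : GL D.Idx F) : Matrix D.Idx D.Idx F) *ᵥ _ = _
    rw [Units.val_one, Matrix.one_mulVec]; rfl
  | cons i l ih =>
    rw [m.nl_cons, Units.val_mul, ← Matrix.mulVec_mulVec, ih, m.coe_n, m.n_eb i.2 (m.wl l r).2,
      eta2 m i.2 (m.wl l r).2, one_smul]
    rfl

theorem n_sq2 [CharP F 2] (i : ℕ) : m.n F i * m.n F i = 1 := by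
  have h := m.nn_neg (D.simple i) (1 : F)
  rw [CharTwo.neg_eq] at h
  change m.nn (D.simple i) (1 : F) * m.nn (D.simple i) (1 : F) = 1
  nth_rewrite 1 [h]
  exact inv_mul_cancel _

theorem n_inv2 [CharP F 2] (i : ℕ) : (m.n F i)⁻¹ = m.n F i := inv_eq_of_mul_eq_one_left (n_sq2 m i)

theorem nl_append (l l' : List (Fin D.rank)) : m.nl F (l ++ l') = m.nl F l * m.nl F l' := by
  simp [Model.nl]

theorem nl_reverse2 [CharP F 2] (l : List (Fin D.rank)) : m.nl F l.reverse = (m.nl F l)⁻¹ := by
  induction l with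
  | nil => simp [Model.nl]
  | cons i l ih =>
    have e : m.nl F (i :: l) = m.n F i * m.nl F l := m.nl_cons i l
    rw [List.reverse_cons, nl_append, ih, e, mul_inv_rev, n_inv2]
    simp [Model.nl]

/-- the rank of `g - 1` -/
noncomputable def rk (g : GL D.Idx F) : ℕ := Matrix.rank ((g : Matrix D.Idx D.Idx F) - 1)

theorem rk_conj_le (g h : GL D.Idx F) : rk (h * g * h⁻¹) ≤ rk g := by
  unfold rk
  have : ((h * g * h⁻¹ : GL D.Idx F) : Matrix D.Idx D.Idx F) - 1 =
      (h : Matrix D.Idx D.Idx F) * ((g : Matrix D.Idx D.Idx F) - 1) * ((h⁻¹ : GL D.Idx F) : Matrix D.Idx D.Idx F) := by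
    rw [mul_sub, sub_mul, mul_one, Units.val_mul, Units.val_mul]
    congr 1
    rw [← Units.val_mul, mul_inv_cancel, Units.val_one]
  rw [this]
  exact (Matrix.rank_mul_le_left _ _).trans (Matrix.rank_mul_le_right _ _)

theorem rk_conj (g h : GL D.Idx F) : rk (h * g * h⁻¹) = rk g := by
  apply le_antisymm (rk_conj_le g h)
  have := rk_conj_le (h * g * h⁻¹) h⁻¹
  have e : h⁻¹ * (h * g * h⁻¹) * h⁻¹⁻¹ = g := by group
  rwa [e] at this

/-- `(nl - 1) h_j` is a combination of the `h_i` -/
theorem nl_hb (l : List (Fin D.rank)) (j : Fin D.rank) :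
    ((m.nl F l : GL D.Idx F) : Matrix D.Idx D.Idx F) *ᵥ hb D F j - hb D F j ∈
      Submodule.span F ((fun i : Fin D.rank => hb D F i) '' {i | i ∈ l}) := by
  induction l with
  | nil =>
    change ((1 : GL D.Idx F) : Matrix D.Idx D.Idx F) *ᵥ _ - _ ∈ _
    rw [Units.val_one, Matrix.one_mulVec, sub_self]
    exact Submodule.zero_mem _
  | cons a l ih =>
    set S := Submodule.span F ((fun i : Fin D.rank => hb D F i) '' {i | i ∈ a :: l}) with hS
    have ha : hb D F a ∈ S := Submodule.subset_span ⟨a, List.mem_cons_self, rfl⟩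
    have hna : ∀ k : Fin D.rank, ((m.n F a : GL D.Idx F) : Matrix D.Idx D.Idx F) *ᵥ hb D F k - hb D F k ∈ S := by
      intro k
      rw [m.coe_n, m.n_hb a.2 k.2, sub_sub_cancel_left]
      exact S.neg_mem (S.smul_mem _ ha)
    have hnS : ∀ v ∈ Submodule.span F ((fun i : Fin D.rank => hb D F i) '' {i | i ∈ l}),
        ((m.n F a : GL D.Idx F) : Matrix D.Idx D.Idx F) *ᵥ v ∈ S := by
      intro v hv
      refine Submodule.span_induction (p := fun v _ => ((m.n F a : GL D.Idx F) : Matrix D.Idx D.Idx F) *ᵥ v ∈ S) ?_ ?_ ?_ ?_ hv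
      · rintro _ ⟨k, hk, rfl⟩
        have h1 := S.add_mem (hna k) (Submodule.subset_span ⟨k, List.mem_cons_of_mem _ hk, rfl⟩ : hb D F k ∈ S)
        rwa [sub_add_cancel] at h1
      · rw [Matrix.mulVec_zero]; exact S.zero_mem
      · intro x y _ _ hx hy
        rw [Matrix.mulVec_add]; exact S.add_mem hx hy
      · intro c x _ hx
        rw [Matrix.mulVec_smul]; exact S.smul_mem _ hx
    have e : ((m.nl F (a :: l) : GL D.Idx F) : Matrix D.Idx D.Idx F) *ᵥ hb D F j - hb D F j =
        ((m.n F a : GL D.Idx F) : Matrix D.Idx D.Idx F) *ᵥ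
          (((m.nl F l : GL D.Idx F) : Matrix D.Idx D.Idx F) *ᵥ hb D F j - hb D F j) +
        (((m.n F a : GL D.Idx F) : Matrix D.Idx D.Idx F) *ᵥ hb D F j - hb D F j) := by
      rw [m.nl_cons, Units.val_mul, ← Matrix.mulVec_mulVec, Matrix.mulVec_sub]
      abel
    rw [e]
    exact S.add_mem (hnS _ ih) (hna j)

/-- representatives of the two-cycles -/
def RR (w : Equiv.Perm (Fin D.nroots)) : Finset (Fin D.nroots) := Finset.univ.filter fun r => (r : ℕ) < w r

theorem rk_le [CharP F 2] (l : List (Fin D.rank)) (hw : m.wl l * m.wl l = 1) :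
    rk (m.nl F l) ≤ (RR (m.wl l)).card + l.toFinset.card := by
  classical
  set A : Matrix D.Idx D.Idx F := ((m.nl F l : GL D.Idx F) : Matrix D.Idx D.Idx F) - 1 with hA
  set w := m.wl l with hwdef
  have hww : ∀ r, w (w r) = r := fun r => by rw [← Equiv.Perm.mul_apply, hw]; rfl
  set T : Finset (D.Idx → F) := (RR w).image (fun r => eb D F (w r) - eb D F r) ∪ l.toFinset.image (fun i : Fin D.rank => hb D F i) with hT
  have hcard : T.card ≤ (RR w).card + l.toFinset.card :=
    (Finset.card_union_le _ _).trans (Nat.add_le_add Finset.card_image_le Finset.card_image_le)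
  refine le_trans ?_ hcard
  change Matrix.rank A ≤ _
  refine le_trans ?_ (finrank_span_finset_le_card (R := F) T)
  unfold Matrix.rank
  apply Submodule.finrank_mono
  have hbasis : ∀ c : D.Idx, A *ᵥ Pi.single c 1 ∈ Submodule.span F (T : Set (D.Idx → F)) := by
    rintro (j | r)
    · rw [← hb_eq_single j.2, hA, Matrix.sub_mulVec, Matrix.one_mulVec]
      refine Submodule.span_mono ?_ (nl_hb m l j)
      rintro _ ⟨i, hi, rfl⟩
      rw [hT, Finset.coe_union]
      right
      rw [Finset.coe_image]
      exact ⟨i, by simpa using hi, rfl⟩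
    · rw [← eb_eq_single r.2, hA, Matrix.sub_mulVec, Matrix.one_mulVec, nl_eb2 m l r]
      have hmem : ∀ s, s ∈ RR w → eb D F (w s) - eb D F s ∈ Submodule.span F (T : Set (D.Idx → F)) := by
        intro s hs
        apply Submodule.subset_span
        rw [hT, Finset.coe_union]
        left
        rw [Finset.coe_image]
        exact ⟨s, hs, rfl⟩
      rcases lt_trichotomy (r : ℕ) (w r) with h | h | h
      · exact hmem r (by simp only [RR, Finset.mem_filter]; exact ⟨Finset.mem_univ _, h⟩)
      · rw [← hwdef, ← h, sub_self]; exact Submodule.zero_mem _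
      · have h1 := hmem (w r) (by simp only [RR, Finset.mem_filter]; rw [hww]; exact ⟨Finset.mem_univ _, h⟩)
        rw [hww] at h1
        have h2 := Submodule.neg_mem _ h1
        rw [neg_sub] at h2
        exact h2
  rintro _ ⟨v, rfl⟩
  have hv : v = ∑ c : D.Idx, v c • (Pi.single c 1 : D.Idx → F) := by
    ext d
    simp [Finset.sum_apply, Pi.single_apply]
  rw [Matrix.mulVecLin_apply, hv, Matrix.mulVec_sum]
  apply Submodule.sum_mem
  intro c _
  rw [Matrix.mulVec_smul]
  exact Submodule.smul_mem _ _ (hbasis c)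

/-- `(nl - 1) h_j` has no root components -/
theorem nl_hb_inr (l : List (Fin D.rank)) (j : Fin D.rank) (r : Fin D.nroots) :
    (((m.nl F l : GL D.Idx F) : Matrix D.Idx D.Idx F) *ᵥ hb D F j - hb D F j) (Sum.inr r) = 0 := by
  have h := nl_hb m (F := F) l j
  refine Submodule.span_induction (p := fun v _ => v (Sum.inr r) = 0) ?_ ?_ ?_ ?_ h
  · rintro _ ⟨i, _, rfl⟩; rfl
  · rfl
  · intro x y _ _ hx hy; rw [Pi.add_apply, hx, hy, add_zero]
  · intro c x _ hx; rw [Pi.smul_apply, hx, smul_zero]

theorem le_rk [CharP F 2] (l : List (Fin D.rank)) (hw : m.wl l * m.wl l = 1) {k : ℕ} (rows cols : Fin k → Fin D.rank)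
    (M : Fin k → Fin k → F)
    (hM : ∀ a b, (((m.nl F l : GL D.Idx F) : Matrix D.Idx D.Idx F) *ᵥ hb D F (cols b) - hb D F (cols b)) (Sum.inl (rows a)) = M a b)
    (hinj : ∀ g : Fin k → F, (∀ a, ∑ b, g b * M a b = 0) → g = 0) :
    (RR (m.wl l)).card + k ≤ rk (m.nl F l) := by
  classical
  set A : Matrix D.Idx D.Idx F := ((m.nl F l : GL D.Idx F) : Matrix D.Idx D.Idx F) - 1 with hA
  set w := m.wl l with hwdef
  have hww : ∀ r, w (w r) = r := fun r => by rw [← Equiv.Perm.mul_apply, hw]; rfl
  set v : ↥(RR w) ⊕ Fin k → (D.Idx → F) := Sum.elim (fun r => eb D F (w r) - eb D F (r : Fin D.nroots))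
    (fun b => ((m.nl F l : GL D.Idx F) : Matrix D.Idx D.Idx F) *ᵥ hb D F (cols b) - hb D F (cols b)) with hv
  have hlin : LinearIndependent F v := by
    rw [Fintype.linearIndependent_iff]
    intro g hg
    rw [Fintype.sum_sum_type] at hg
    have h1 : ∀ r : ↥(RR w), g (Sum.inl r) = 0 := by
      intro r
      have h2 := congrFun hg (Sum.inr (r : Fin D.nroots))
      rw [Pi.add_apply, Finset.sum_apply, Finset.sum_apply, Finset.sum_eq_single r] at h2
      · rw [Finset.sum_eq_zero] at h2
        · rw [add_zero, hv, Pi.smul_apply, Sum.elim_inl, Pi.sub_apply] at h2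
          have h3 : eb D F (w r : Fin D.nroots) (Sum.inr (r : Fin D.nroots)) = 0 := by
            have := (Finset.mem_filter.1 r.2).2
            simp only [eb, Sum.elim_inr, ite_eq_right_iff, one_ne_zero, imp_false]
            omega
          have h4 : eb D F (r : Fin D.nroots) (Sum.inr (r : Fin D.nroots)) = 1 := by simp [eb]
          rw [h3, h4, zero_sub, smul_eq_mul, mul_neg, mul_one, Pi.zero_apply, neg_eq_zero] at h2
          exact h2
        · intro b _
          rw [hv, Pi.smul_apply, Sum.elim_inr, nl_hb_inr, smul_zero]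
      · intro s _ hsr
        rw [hv, Pi.smul_apply, Sum.elim_inl, Pi.sub_apply]
        have h3 : eb D F (w s : Fin D.nroots) (Sum.inr (r : Fin D.nroots)) = 0 := by
          have h5 := (Finset.mem_filter.1 r.2).2
          have h6 := (Finset.mem_filter.1 s.2).2
          simp only [eb, Sum.elim_inr, ite_eq_right_iff, one_ne_zero, imp_false]
          intro h7
          have h8 : (r : Fin D.nroots) = w s := Fin.ext h7
          rw [h8, hww] at h5
          omega
        have h4 : eb D F (s : Fin D.nroots) (Sum.inr (r : Fin D.nroots)) = 0 := by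
          simp only [eb, Sum.elim_inr, ite_eq_right_iff, one_ne_zero, imp_false]
          intro h7
          exact hsr (Subtype.ext (Fin.ext h7.symm))
        rw [h3, h4, sub_zero, smul_zero]
      · intro h; exact absurd (Finset.mem_univ _) h
    have h2 : (fun b => g (Sum.inr b)) = 0 := by
      apply hinj
      intro a
      have h3 := congrFun hg (Sum.inl (rows a))
      rw [Pi.add_apply, Finset.sum_apply, Finset.sum_apply, Finset.sum_eq_zero, zero_add] at h3
      · rw [Pi.zero_apply] at h3
        rw [← h3]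
        apply Finset.sum_congr rfl
        intro b _
        rw [hv, Pi.smul_apply, Sum.elim_inr, hM, smul_eq_mul]
      · intro r _
        rw [h1, zero_smul, Pi.zero_apply]
    rintro (r | b)
    · exact h1 r
    · exact congrFun h2 b
  have hrange : Submodule.span F (Set.range v) ≤ LinearMap.range A.mulVecLin := by
    rw [Submodule.span_le]
    rintro _ ⟨r | b, rfl⟩
    · refine ⟨eb D F (r : Fin D.nroots), ?_⟩
      rw [Matrix.mulVecLin_apply, hA, Matrix.sub_mulVec, Matrix.one_mulVec, nl_eb2]
      rfl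
    · refine ⟨hb D F (cols b), ?_⟩
      rw [Matrix.mulVecLin_apply, hA, Matrix.sub_mulVec, Matrix.one_mulVec]
      rfl
  have h1 := Submodule.finrank_mono hrange
  rw [finrank_span_eq_card hlin, Fintype.card_sum, Fintype.card_coe, Fintype.card_fin] at h1
  exact h1

theorem le_rk0 [CharP F 2] (l : List (Fin D.rank)) (hw : m.wl l * m.wl l = 1) :
    (RR (m.wl l)).card ≤ rk (m.nl F l) :=
  le_rk m l hw (k := 0) (fun a => a.elim0) (fun a => a.elim0) (fun a => a.elim0) (fun a => a.elim0)
    (fun _ _ => funext fun a => a.elim0)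

/-- the components of `(nl - 1) h_j` for orthogonal simple roots -/
theorem nl_hb_inl (l : List (Fin D.rank)) (hnd : l.Nodup) (horth : ∀ a ∈ l, ∀ b ∈ l, a ≠ b → D.cartan a (D.simple b) = 0)
    (j : Fin D.rank) {i : Fin D.rank} (hi : i ∈ l) :
    (((m.nl F l : GL D.Idx F) : Matrix D.Idx D.Idx F) *ᵥ hb D F j - hb D F j) (Sum.inl i) =
      - ((D.cartan j (D.simple i) : ℤ) : F) := by
  have key : ∀ l : List (Fin D.rank), l.Nodup → (∀ a ∈ l, ∀ b ∈ l, a ≠ b → D.cartan a (D.simple b) = 0) →
      ((m.nl F l : GL D.Idx F) : Matrix D.Idx D.Idx F) *ᵥ hb D F j =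
        hb D F j - (l.map fun i : Fin D.rank => ((D.cartan j (D.simple i) : ℤ) : F) • hb D F i).sum := by
    intro l
    induction l with
    | nil =>
      intro _ _
      change ((1 : GL D.Idx F) : Matrix D.Idx D.Idx F) *ᵥ _ = _
      rw [Units.val_one, Matrix.one_mulVec, List.map_nil, List.sum_nil, sub_zero]
    | cons a l ih =>
      intro hnd ho
      rw [List.nodup_cons] at hnd
      rw [m.nl_cons, Units.val_mul, ← Matrix.mulVec_mulVec,
        ih hnd.2 (fun x hx y hy => ho x (List.mem_cons_of_mem _ hx) y (List.mem_cons_of_mem _ hy)),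
        Matrix.mulVec_sub, m.coe_n, m.n_hb a.2 j.2, List.map_cons, List.sum_cons]
      have : ∀ l' : List (Fin D.rank), (∀ x ∈ l', x ∈ l) →
          D.nMat F (D.simple a) 1 *ᵥ (l'.map fun i : Fin D.rank => ((D.cartan j (D.simple i) : ℤ) : F) • hb D F i).sum =
          (l'.map fun i : Fin D.rank => ((D.cartan j (D.simple i) : ℤ) : F) • hb D F i).sum := by
        intro l'
        induction l' with
        | nil => intro _; rw [List.map_nil, List.sum_nil, Matrix.mulVec_zero]
        | cons x l' ih' =>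
          intro hx
          have hxl := hx x List.mem_cons_self
          have hxa : x ≠ a := by rintro rfl; exact hnd.1 hxl
          rw [List.map_cons, List.sum_cons, Matrix.mulVec_add, ih' (fun y hy => hx y (List.mem_cons_of_mem _ hy)),
            Matrix.mulVec_smul, m.n_hb a.2 x.2, ho x (List.mem_cons_of_mem _ hxl) a List.mem_cons_self hxa,
            Int.cast_zero, zero_smul, sub_zero]
      rw [this l (fun x hx => hx)]
      abel
  rw [key l hnd horth, sub_sub_cancel_left, Pi.neg_apply]
  congr 1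
  have : ∀ l' : List (Fin D.rank), l'.Nodup → (l'.map fun i : Fin D.rank => ((D.cartan j (D.simple i) : ℤ) : F) • hb D F i).sum (Sum.inl i) =
      if i ∈ l' then ((D.cartan j (D.simple i) : ℤ) : F) else 0 := by
    intro l'
    induction l' with
    | nil => intro _; simp
    | cons x l' ih =>
      intro hnd'
      rw [List.nodup_cons] at hnd'
      rw [List.map_cons, List.sum_cons, Pi.add_apply, ih hnd'.2, Pi.smul_apply]
      by_cases hix : i = x
      · subst hix
        rw [if_neg hnd'.1, if_pos List.mem_cons_self, add_zero]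
        simp [hb]
      · have h1 : hb D F x (Sum.inl i) = 0 := by
          simp only [hb, Sum.elim_inl, ite_eq_right_iff, one_ne_zero, imp_false]
          exact fun h => hix (Fin.ext h)
        rw [h1, smul_zero, zero_add]
        simp only [List.mem_cons, hix, false_or]
  rw [this l hnd, if_pos hi]

end Cfsg.Agent.H14.Chev
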