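import Mathlib
import Cfsg.Agent.H14_InvE

set_option autoImplicit false
set_option linter.unusedSectionVars false

/-!
Involutions of Chevalley groups in characteristic two: products of root elements for orthogonal roots, and
the counting argument.
-/

namespace Cfsg.Agent.H6.Chev.Tab

variable (t : Tab)

def nilB : List (ℕ × ℤ × ℕ × ℕ) → Bool
  | [] => true
  | _ => false

def ckOrthP (r s : ℕ) : Bool :=
  nilB (t.cm r s) && (nilB (t.cm r (t.ng s)) && (nilB (t.cm (t.ng r) s) && (nilB (t.cm (t.ng r) (t.ng s)) &&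
    (!(Nat.beq s r) && (!(Nat.beq s (t.ng r)) && (Nat.blt r t.n && Nat.blt s t.n))))))

def ckOrthL : List ℕ → Bool
  | [] => true
  | a :: l => (l.all fun b => t.ckOrthP a b) && ckOrthL l

def eqL : List ℕ → List ℕ → Bool
  | [], [] => true
  | a :: l, b :: l' => Nat.beq a b && eqL l l'
  | _, _ => false

/-- the roots `L` are the images of the orthogonal simple roots `s` under the word `l`; `c` is the number of two-cycles -/
def ckRep (L s l : List ℕ) (c : ℕ) : Bool :=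
  eqL (s.map fun i => t.pw l (nth t.S i)) L && (t.ckOrthL (s.map fun i => nth t.S i) && (
  (allNat t.n fun r => Nat.beq (t.pw s (t.pw s r)) r) && Nat.beq (cntN t.n fun r => Nat.blt r (t.pw s r)) c))

end Cfsg.Agent.H6.Chev.Tab

namespace Cfsg.Agent.H14.Chev

open Cfsg Cfsg.Lie Cfsg.Lie.ChevalleyDatum Cfsg.Agent.H6 Cfsg.Agent.H6.Chev Cfsg.Agent.H6.Chev.Model
open scoped Matrix

theorem eqL_iff {l l' : List ℕ} (h : Tab.eqL l l' = true) : l = l' := by
  induction l generalizing l' with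
  | nil => cases l' with
    | nil => rfl
    | cons b l' => exact absurd h (by simp [Tab.eqL])
  | cons a l ih => cases l' with
    | nil => exact absurd h (by simp [Tab.eqL])
    | cons b l' =>
      unfold Tab.eqL at h
      rw [Bool.and_eq_true] at h
      rw [Nat.eq_of_beq_eq_true h.1, ih h.2]

theorem nilB_iff {l : List (ℕ × ℤ × ℕ × ℕ)} (h : Tab.nilB l = true) : l = [] := by
  cases l with
  | nil => rfl
  | cons a l => exact absurd h (by simp [Tab.nilB])

variable {t : Tab} {D : ChevalleyDatum} {F : Type*} [Field F] (m : Model D)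

theorem X_sq2 [CharP F 2] (r : ℕ) (a : F) : m.X r a * m.X r a = 1 := by
  rw [← m.X_add, CharTwo.add_self_eq_zero, m.X_zero]

theorem X_inv2 [CharP F 2] (r : ℕ) (a : F) : (m.X r a)⁻¹ = m.X r a := inv_eq_of_mul_eq_one_left (X_sq2 m r a)

theorem comm_of_nil {r s : ℕ} (hr : r < D.nroots) (hs : s < D.nroots) (hrs : s ≠ r) (hneg : s ≠ D.neg r)
    (h : D.commTerms r s = []) (a b : F) : Commute (m.X r a) (m.X s b) := by
  have h1 := m.X_comm_formula hr hs hrs hneg a b
  rw [ChevalleyDatum.commWord, h, List.map_nil, Model.word_nil, mul_one] at h1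
  exact h1.symm

theorem nl_nn2 [CharP F 2] (l : List (Fin D.rank)) (r : Fin D.nroots) :
    m.nl F l * m.nn r (1 : F) = m.nn (m.wl l r) (1 : F) * m.nl F l := by
  have h1 := nl_X2 m l r (1 : F)
  have h2 := nl_X2 m l (m.ng r) (-(1 : F)⁻¹)
  rw [(m.isW_wl l).neg] at h2
  have e1 : m.nn r (1 : F) = m.X r 1 * m.X (m.ng r) (-(1 : F)⁻¹) * m.X r 1 := rfl
  have e2 : m.nn (m.wl l r) (1 : F) = m.X (m.wl l r) 1 * m.X (m.ng (m.wl l r)) (-(1 : F)⁻¹) * m.X (m.wl l r) 1 := rfl
  rw [e1, e2]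
  calc m.nl F l * (m.X r 1 * m.X (m.ng r) (-(1 : F)⁻¹) * m.X r 1)
      = (m.nl F l * m.X r 1) * (m.X (m.ng r) (-(1 : F)⁻¹) * m.X r 1) := by group
    _ = m.X (m.wl l r) 1 * (m.nl F l * m.X (m.ng r) (-(1 : F)⁻¹)) * m.X r 1 := by rw [h1]; group
    _ = m.X (m.wl l r) 1 * m.X (m.ng (m.wl l r)) (-(1 : F)⁻¹) * (m.nl F l * m.X r 1) := by rw [h2]; group
    _ = _ := by rw [h1]; group

theorem nn_conj2 [CharP F 2] (r : Fin D.nroots) :
    m.X (m.ng r) (1 : F) * m.X r 1 * (m.X (m.ng r) 1)⁻¹ = m.nn r (1 : F) := by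
  -- simple case
  have hs : ∀ i : Fin D.rank, m.X (m.ng (m.p i)) (1 : F) * m.X (m.p i) 1 * (m.X (m.ng (m.p i)) 1)⁻¹ = m.nn (m.p i) (1 : F) := by
    intro i
    have h1 := m.n_X (F := F) i.2 (m.p i).2 1
    rw [eta2 m i.2 (m.p i).2, one_mul] at h1
    have e0 : D.reflectRoot i (m.p i) = (m.ng (m.p i) : ℕ) := congrArg Fin.val (m.sr_p i)
    rw [e0] at h1
    have e1 : m.n F i = m.X (m.p i) 1 * m.X (m.ng (m.p i)) 1 * m.X (m.p i) 1 := by
      have : m.n F i = m.X (m.p i) 1 * m.X (m.ng (m.p i)) (-(1 : F)⁻¹) * m.X (m.p i) 1 := rfl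
      rw [this, inv_one, CharTwo.neg_eq]
    have e2 : m.n F i = m.nn (m.p i) (1 : F) := rfl
    rw [← e2]
    have h2 : m.X (m.p i) (1 : F) * m.X (m.ng (m.p i)) 1 = m.X (m.ng (m.p i)) 1 * m.n F i := by
      rw [← h1, e1, mul_assoc, X_sq2, mul_one]
    rw [X_inv2]
    calc m.X (m.ng (m.p i)) (1 : F) * m.X (m.p i) 1 * m.X (m.ng (m.p i)) 1
        = m.X (m.ng (m.p i)) (1 : F) * (m.X (m.p i) 1 * m.X (m.ng (m.p i)) 1) := by group
      _ = (m.X (m.ng (m.p i)) (1 : F) * m.X (m.ng (m.p i)) 1) * m.n F i := by rw [h2]; group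
      _ = m.n F i := by rw [X_sq2, one_mul]
  obtain ⟨w, hw, i, rfl⟩ := m.exists_simple r
  obtain ⟨l, rfl⟩ := m.exists_wl hw
  have h0 := hs i
  have h1 := nl_X2 m l (m.p i) (1 : F)
  have h2 := nl_X2 m l (m.ng (m.p i)) (1 : F)
  rw [(m.isW_wl l).neg] at h2
  have h3 := nl_nn2 (F := F) m l (m.p i)
  have g1 : m.X (m.wl l (m.p i)) (1 : F) = m.nl F l * m.X (m.p i) 1 * (m.nl F l)⁻¹ := by rw [h1]; group
  have g2 : m.X (m.ng (m.wl l (m.p i))) (1 : F) = m.nl F l * m.X (m.ng (m.p i)) 1 * (m.nl F l)⁻¹ := by rw [h2]; group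
  have g3 : m.nn (m.wl l (m.p i)) (1 : F) = m.nl F l * m.nn (m.p i) 1 * (m.nl F l)⁻¹ := by rw [h3]; group
  rw [g1, g2, g3, ← h0]
  group

/-- orthogonality in the strong sense -/
def Orth (D : ChevalleyDatum) (r s : ℕ) : Prop := D.commTerms r s = [] ∧ D.commTerms r (D.neg s) = [] ∧
  D.commTerms (D.neg r) s = [] ∧ D.commTerms (D.neg r) (D.neg s) = [] ∧ s ≠ r ∧ s ≠ D.neg r

theorem Orth.comm1 {r s : Fin D.nroots} (h : Orth D r s) (a b : F) : Commute (m.X r a) (m.X s b) :=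
  comm_of_nil m r.2 s.2 h.2.2.2.2.1 h.2.2.2.2.2 h.1 a b

theorem Orth.comm2 {r s : Fin D.nroots} (h : Orth D r s) (a b : F) : Commute (m.X r a) (m.X (m.ng s) b) := by
  refine comm_of_nil m r.2 (m.ng s).2 ?_ ?_ h.2.1 a b
  · intro h1
    apply h.2.2.2.2.2
    have : m.ng s = r := Fin.ext h1
    rw [← this]
    exact (m.neg_neg s.2).symm
  · intro h1
    apply h.2.2.2.2.1
    have : m.ng s = m.ng r := Fin.ext h1
    exact congrArg Fin.val (m.ng_inj this)

theorem Orth.comm3 {r s : Fin D.nroots} (h : Orth D r s) (a b : F) : Commute (m.X (m.ng r) a) (m.X s b) := by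
  refine comm_of_nil m (m.ng r).2 s.2 ?_ ?_ h.2.2.1 a b
  · exact fun h1 => h.2.2.2.2.2 h1
  · intro h1
    apply h.2.2.2.2.1
    rw [h1]
    exact m.neg_neg r.2

theorem Orth.comm4 {r s : Fin D.nroots} (h : Orth D r s) (a b : F) : Commute (m.X (m.ng r) a) (m.X (m.ng s) b) := by
  refine comm_of_nil m (m.ng r).2 (m.ng s).2 ?_ ?_ h.2.2.2.1 a b
  · intro h1
    apply h.2.2.2.2.1
    exact congrArg Fin.val (m.ng_inj (Fin.ext h1))
  · intro h1
    apply h.2.2.2.2.2
    have : m.ng s = m.ng (m.ng r) := Fin.ext h1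
    exact congrArg Fin.val (m.ng_inj this)

theorem orth_conj [CharP F 2] (rs : List (Fin D.nroots)) (h : rs.Pairwise fun (r s : Fin D.nroots) => Orth D r s) :
    (rs.map fun r : Fin D.nroots => m.X (m.ng r) (1 : F)).prod * (rs.map fun r : Fin D.nroots => m.X r (1 : F)).prod *
      ((rs.map fun r : Fin D.nroots => m.X (m.ng r) (1 : F)).prod)⁻¹ = (rs.map fun r : Fin D.nroots => m.nn r (1 : F)).prod := by
  induction rs with
  | nil => simp
  | cons r rs ih =>
    rw [List.pairwise_cons] at h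
    simp only [List.map_cons, List.prod_cons]
    have hn : m.nn r (1 : F) = m.X (m.ng r) 1 * m.X r 1 * (m.X (m.ng r) 1)⁻¹ := (nn_conj2 m r).symm
    have h1 : Commute (m.X r (1 : F)) (rs.map fun r : Fin D.nroots => m.X (m.ng r) (1 : F)).prod := by
      apply Commute.list_prod_right
      intro b hb
      obtain ⟨s, hs, rfl⟩ := List.mem_map.1 hb
      exact (h.1 s hs).comm2 m 1 1
    have h2 : Commute (m.X (m.ng r) (1 : F)) (rs.map fun r : Fin D.nroots => m.nn r (1 : F)).prod := by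
      apply Commute.list_prod_right
      intro b hb
      obtain ⟨s, hs, rfl⟩ := List.mem_map.1 hb
      have h3 := (h.1 s hs).comm3 m (F := F) 1 1
      have h4 := (h.1 s hs).comm4 m (F := F) 1 1
      rw [← nn_conj2 m s]
      exact (h4.mul_right h3).mul_right h4.inv_right
    set Y := m.X (m.ng r) (1 : F)
    set Z := m.X r (1 : F)
    set g := (rs.map fun r : Fin D.nroots => m.X (m.ng r) (1 : F)).prod
    set x := (rs.map fun r : Fin D.nroots => m.X r (1 : F)).prod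
    set n := (rs.map fun r : Fin D.nroots => m.nn r (1 : F)).prod
    have ih' : g * x * g⁻¹ = n := ih h.2
    calc Y * g * (Z * x) * (Y * g)⁻¹ = Y * (g * Z) * x * g⁻¹ * Y⁻¹ := by group
      _ = Y * Z * (g * x * g⁻¹) * Y⁻¹ := by rw [← h1.eq]; group
      _ = Y * Z * Y⁻¹ * (Y * n) * Y⁻¹ := by rw [ih']; group
      _ = Y * Z * Y⁻¹ * n := by rw [h2.eq]; group
      _ = m.nn r 1 * n := by rw [hn]

/-- the product of the root elements `x_r(1)` -/
noncomputable def xp (m : Model D) (F : Type*) [Field F] (L : List ℕ) : GL D.Idx F := (L.map fun r => m.X r (1 : F)).prod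

theorem xp_mem (L : List ℕ) : xp m F L ∈ D.group F := by
  unfold xp
  apply Subgroup.list_prod_mem
  intro x hx
  obtain ⟨r, _, rfl⟩ := List.mem_map.1 hx
  exact m.X_mem_group r 1

theorem list_prod_sq {G : Type*} [Group G] (L : List G) (h : L.Pairwise Commute) (h2 : ∀ x ∈ L, x * x = 1) :
    L.prod * L.prod = 1 := by
  induction L with
  | nil => simp
  | cons a L ih =>
    rw [List.pairwise_cons] at h
    rw [List.prod_cons]
    have hc : Commute a L.prod := Commute.list_prod_right _ _ h.1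
    calc a * L.prod * (a * L.prod) = a * (L.prod * a) * L.prod := by group
      _ = (a * a) * (L.prod * L.prod) := by rw [← hc.eq]; group
      _ = 1 := by rw [h2 a List.mem_cons_self, ih h.2 fun x hx => h2 x (List.mem_cons_of_mem _ hx), one_mul]

theorem ckOrthP_iff (b : t.Base D) (ck : t.Checks D) {r s : ℕ} (h : t.ckOrthP r s = true) :
    Orth D r s ∧ r < D.nroots ∧ s < D.nroots := by
  unfold Tab.ckOrthP at h
  simp only [Bool.and_eq_true] at h
  obtain ⟨h1, h2, h3, h4, h5, h6, h7, h8⟩ := h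
  have hr : r < t.n := by simpa [Nat.blt_eq] using h7
  have hs : s < t.n := by simpa [Nat.blt_eq] using h8
  have hnr : t.ng r < t.n := by
    unfold Tab.ng
    change t.n - 1 - r < t.n
    omega
  have hns : t.ng s < t.n := by
    unfold Tab.ng
    change t.n - 1 - s < t.n
    omega
  have hn := b.nroots
  refine ⟨⟨?_, ?_, ?_, ?_, Tab.beq_ne h5, ?_⟩, by omega, by omega⟩
  · rw [Tab.commTerms_eq b ck hr hs]; exact nilB_iff h1
  · rw [b.ng_eq hs, Tab.commTerms_eq b ck hr hns]; exact nilB_iff h2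
  · rw [b.ng_eq hr, Tab.commTerms_eq b ck hnr hs]; exact nilB_iff h3
  · rw [b.ng_eq hs, b.ng_eq hr, Tab.commTerms_eq b ck hnr hns]; exact nilB_iff h4
  · rw [b.ng_eq hr]; exact Tab.beq_ne h6

theorem ckOrthL_iff (b : t.Base D) (ck : t.Checks D) {L : List ℕ} (h : t.ckOrthL L = true) :
    L.Pairwise fun r s => Orth D r s := by
  induction L with
  | nil => exact List.Pairwise.nil
  | cons a L ih =>
    unfold Tab.ckOrthL at h
    rw [Bool.and_eq_true] at h
    exact List.Pairwise.cons (fun x hx => (ckOrthP_iff b ck (List.all_eq_true.1 h.1 x hx)).1) (ih h.2)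

theorem rep_conj [CharP F 2] (b : t.Base D) (ck : t.Checks D) {L : List ℕ} (s l : List (Fin D.rank)) {c : ℕ}
    (h : t.ckRep L (s.map Fin.val) (l.map Fin.val) c = true) :
    ∃ g ∈ D.group F, g * xp m F L * g⁻¹ = m.nl F s := by
  unfold Tab.ckRep at h
  simp only [Bool.and_eq_true] at h
  obtain ⟨h1, h2, -, -⟩ := h
  have h1 := eqL_iff h1
  have h2 := ckOrthL_iff b ck h2
  have hp : ∀ i : Fin D.rank, ((m.p i : Fin D.nroots) : ℕ) = nth t.S i := fun i => by
    rw [m.coe_p]; exact b.simple_eq (by have := i.2; have := b.rank; omega)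
  have hL : L = s.map fun i => ((m.wl l (m.p i) : Fin D.nroots) : ℕ) := by
    rw [← h1, List.map_map]
    apply List.map_congr_left
    intro i _
    rw [Function.comp, Tab.pw_eq m b ck, hp]
  have hpw : (s.map m.p).Pairwise fun (r s : Fin D.nroots) => Orth D r s := by
    rw [List.pairwise_map]
    rw [List.map_map, List.pairwise_map] at h2
    refine h2.imp fun {a b} hab => ?_
    rw [hp, hp]
    exact hab
  have h3 := orth_conj (F := F) m (s.map m.p) hpw
  simp only [List.map_map] at h3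
  have h4 : (s.map ((fun r : Fin D.nroots => m.nn r (1 : F)) ∘ m.p)).prod = m.nl F s := rfl
  rw [h4] at h3
  have h5 : ∀ s : List (Fin D.rank), m.nl F l * (s.map ((fun r : Fin D.nroots => m.X r (1 : F)) ∘ m.p)).prod * (m.nl F l)⁻¹ =
      xp m F (s.map fun i => ((m.wl l (m.p i) : Fin D.nroots) : ℕ)) := by
    intro s
    unfold xp
    induction s with
    | nil => simp
    | cons i s ih =>
      rw [List.map_cons, List.map_cons, List.map_cons, List.prod_cons, List.prod_cons, ← ih]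
      set P := (s.map ((fun r : Fin D.nroots => m.X r (1 : F)) ∘ m.p)).prod
      have h6 := nl_X2 m l (m.p i) (1 : F)
      change m.nl F l * (m.X (m.p i) 1 * P) * (m.nl F l)⁻¹ = m.X (m.wl l (m.p i)) 1 * (m.nl F l * P * (m.nl F l)⁻¹)
      calc m.nl F l * (m.X (m.p i) 1 * P) * (m.nl F l)⁻¹ = (m.nl F l * m.X (m.p i) 1) * P * (m.nl F l)⁻¹ := by group
        _ = _ := by rw [h6]; group
  set g := (s.map ((fun r : Fin D.nroots => m.X (m.ng r) (1 : F)) ∘ m.p)).prod with hg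
  refine ⟨g * (m.nl F l)⁻¹, mul_mem ?_ (inv_mem (m.N_le_G (m.nl_mem_N l))), ?_⟩
  · rw [hg]
    apply Subgroup.list_prod_mem
    intro x hx
    obtain ⟨i, _, rfl⟩ := List.mem_map.1 hx
    exact m.X_mem_group _ _
  · rw [hL, ← h5 s, ← h3]
    group

theorem card_RR (b : t.Base D) (ck : t.Checks D) (s : List (Fin D.rank)) :
    (RR (m.wl s)).card = cntN t.n (fun r => Nat.blt r (t.pw (s.map Fin.val) r)) := by
  rw [cntN_eq]
  refine Finset.card_bij (fun r _ => (r : ℕ)) ?_ ?_ ?_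
  · intro r hr
    have h1 := (Finset.mem_filter.1 hr).2
    rw [Tab.pw_eq m b ck] at h1
    rw [Finset.mem_filter, Finset.mem_range, ← b.nroots]
    exact ⟨r.2, Nat.ble_eq_true_of_le h1⟩
  · intro r _ s _ h
    exact Fin.ext h
  · intro r hr
    rw [Finset.mem_filter, Finset.mem_range, ← b.nroots] at hr
    refine ⟨⟨r, hr.1⟩, ?_, rfl⟩
    unfold RR
    rw [Finset.mem_filter, Tab.pw_eq m b ck]
    exact ⟨Finset.mem_univ _, Nat.le_of_ble_eq_true hr.2⟩

theorem wl_sq_of (b : t.Base D) (ck : t.Checks D) (s : List (Fin D.rank))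
    (h : (allNat t.n fun r => Nat.beq (t.pw (s.map Fin.val) (t.pw (s.map Fin.val) r)) r) = true) :
    m.wl s * m.wl s = 1 := by
  ext r
  rw [Equiv.Perm.mul_apply, Tab.pw_eq m b ck, Tab.pw_eq m b ck]
  exact Nat.eq_of_beq_eq_true (allNat_iff h r (by rw [← b.nroots]; exact r.2))

theorem rep_rk [CharP F 2] (b : t.Base D) (ck : t.Checks D) {L : List ℕ} (s l : List (Fin D.rank)) {c : ℕ}
    (h : t.ckRep L (s.map Fin.val) (l.map Fin.val) c = true) :
    c ≤ rk (xp m F L) ∧ rk (xp m F L) ≤ c + s.length := by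
  obtain ⟨g, _, hg⟩ := rep_conj (F := F) m b ck s l h
  have e : rk (xp m F L) = rk (m.nl F s) := by rw [← hg, rk_conj]
  unfold Tab.ckRep at h
  simp only [Bool.and_eq_true] at h
  obtain ⟨-, -, h3, h4⟩ := h
  have hw := wl_sq_of m b ck s h3
  have hc : (RR (m.wl s)).card = c := by rw [card_RR m b ck]; exact Nat.eq_of_beq_eq_true h4
  rw [e]
  refine ⟨?_, ?_⟩
  · rw [← hc]; exact le_rk0 m s hw
  · rw [← hc]
    exact (rk_le m s hw).trans (Nat.add_le_add_left (List.toFinset_card_le s) _)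

theorem rk_one : rk (1 : GL D.Idx F) = 0 := by
  unfold rk
  rw [Units.val_one, sub_self, Matrix.rank_zero]

/-! ### The counting argument -/

theorem conj_of_pos [Fintype F] [CharP F 2] {x y : ↥(D.group F)} (hx : x * x = 1) (hy : y * y = 1)
    (hmx : MaxPos m x) (hmy : MaxPos m y) (h : pos m x = pos m y) : ∃ g : ↥(D.group F), g * x * g⁻¹ = y := by
  obtain ⟨b, -, n, hn, hact, hsq, he⟩ := max_form m hx hmx
  obtain ⟨b', -, n', hn', hact', hsq', he'⟩ := max_form m hy hmy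
  rw [← h] at hact'
  obtain ⟨k, hk⟩ := conj_of_same m hn hn' hact hact' hsq hsq'
  refine ⟨b'⁻¹ * k * b, ?_⟩
  calc b'⁻¹ * k * b * x * (b'⁻¹ * k * b)⁻¹ = b'⁻¹ * (k * (b * x * b⁻¹) * k⁻¹) * b' := by group
    _ = b'⁻¹ * (b' * y * b'⁻¹) * b' := by rw [he, hk, he']
    _ = y := by group

theorem eq_one_of_pos_one [Fintype F] [CharP F 2] {x : ↥(D.group F)} (hx : x * x = 1) (hmx : MaxPos m x)
    (h : pos m x = 1) : x = 1 := by
  obtain ⟨b, -, n, hn, hact, hsq, he⟩ := max_form m hx hmx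
  rw [h] at hact
  have hone : m.Acts ((1 : ↥(D.group F)) : GL D.Idx F) 1 := by
    have := m.acts_dm (F := F) 1
    rwa [map_one] at this
  obtain ⟨k, hk⟩ := conj_of_same m (n := n) (n' := 1) hn (one_mem _) hact hone hsq (one_mul 1)
  have h1 : n = 1 := by
    have : n = k⁻¹ * 1 * k := by rw [← hk]; group
    rw [this]; group
  rw [h1] at he
  have : x = b⁻¹ * 1 * b := by rw [← he]; group
  rw [this]; group

include m in
theorem inv_count [Fintype F] [CharP F 2] (b : t.Base D) (ck : t.Checks D) {f : ℕ} {WL IL JL AL : List ℕ} {Jf : ℕ}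
    (h : t.ckInv f WL IL JL (AL ++ [Jf]) = true) (hf : Tab.decW f (nth WL Jf) = [])
    (T : Fin AL.length → ↥(D.group F)) (hsq : ∀ a, T a * T a = 1) (h1 : ∀ a, T a ≠ 1)
    (hne : ∀ a b, a ≠ b → ¬ ∃ g : ↥(D.group F), g * T a * g⁻¹ = T b) (x : ↥(D.group F)) (hx : x * x = 1) (hx1 : x ≠ 1) :
    ∃ a, ∃ g : ↥(D.group F), g * x * g⁻¹ = T a := by
  classical
  -- the data of an involution
  have key : ∀ x : ↥(D.group F), x * x = 1 → x ≠ 1 → ∃ J ∈ AL.toFinset, ∃ g : ↥(D.group F), MaxPos m (g⁻¹ * x * g) ∧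
      ∃ l : List (Fin D.rank), l.map Fin.val = Tab.decW f (nth WL J) ∧ pos m (g⁻¹ * x * g) = m.wl l := by
    intro x hx hx1
    obtain ⟨g, hg⟩ := exists_maxPos m x
    have hgx : g⁻¹ * x * g * (g⁻¹ * x * g) = 1 := by
      calc g⁻¹ * x * g * (g⁻¹ * x * g) = g⁻¹ * (x * x) * g := by group
        _ = 1 := by rw [hx]; group
    obtain ⟨J, hJ, l, hl, hp⟩ := max_cases m b ck h hgx hg
    rw [List.mem_append, List.mem_singleton] at hJ
    rcases hJ with hJ | rfl
    · exact ⟨J, List.mem_toFinset.2 hJ, g, hg, l, hl, hp⟩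
    · exfalso
      rw [hf] at hl
      have hl0 : l = [] := List.map_eq_nil_iff.1 hl
      rw [hl0] at hp
      have := eq_one_of_pos_one m hgx hg hp
      apply hx1
      have e : x = g * (g⁻¹ * x * g) * g⁻¹ := by group
      rw [e, this]; group
  have conj2 : ∀ x y : ↥(D.group F), x * x = 1 → y * y = 1 → ∀ J, (∃ g : ↥(D.group F), MaxPos m (g⁻¹ * x * g) ∧
      ∃ l : List (Fin D.rank), l.map Fin.val = Tab.decW f (nth WL J) ∧ pos m (g⁻¹ * x * g) = m.wl l) →
      (∃ g : ↥(D.group F), MaxPos m (g⁻¹ * y * g) ∧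
      ∃ l : List (Fin D.rank), l.map Fin.val = Tab.decW f (nth WL J) ∧ pos m (g⁻¹ * y * g) = m.wl l) →
      ∃ g : ↥(D.group F), g * x * g⁻¹ = y := by
    rintro x y hx hy J ⟨g, hg, l, hl, hp⟩ ⟨g', hg', l', hl', hp'⟩
    have hll : l = l' := List.map_injective_iff.2 Fin.val_injective (hl.trans hl'.symm)
    subst hll
    have hgx : g⁻¹ * x * g * (g⁻¹ * x * g) = 1 := by
      calc g⁻¹ * x * g * (g⁻¹ * x * g) = g⁻¹ * (x * x) * g := by group
        _ = 1 := by rw [hx]; group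
    have hgy : g'⁻¹ * y * g' * (g'⁻¹ * y * g') = 1 := by
      calc g'⁻¹ * y * g' * (g'⁻¹ * y * g') = g'⁻¹ * (y * y) * g' := by group
        _ = 1 := by rw [hy]; group
    obtain ⟨k, hk⟩ := conj_of_pos m hgx hgy hg hg' (hp.trans hp'.symm)
    refine ⟨g' * k * g⁻¹, ?_⟩
    calc g' * k * g⁻¹ * x * (g' * k * g⁻¹)⁻¹ = g' * (k * (g⁻¹ * x * g) * k⁻¹) * g'⁻¹ := by group
      _ = g' * (g'⁻¹ * y * g') * g'⁻¹ := by rw [hk]
      _ = y := by group
  by_contra hcon
  push Not at hcon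
  have hy2 : ∀ o : Option (Fin AL.length), (o.elim x T) * (o.elim x T) = 1 := by
    rintro (_ | a)
    · exact hx
    · exact hsq a
  have hy1 : ∀ o : Option (Fin AL.length), (o.elim x T) ≠ 1 := by
    rintro (_ | a)
    · exact hx1
    · exact h1 a
  choose φ hφ hφ2 using fun o : Option (Fin AL.length) => key (o.elim x T) (hy2 o) (hy1 o)
  have hcard : (Finset.univ.image φ).card ≤ AL.length := by
    refine le_trans (Finset.card_le_card ?_) (List.toFinset_card_le AL)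
    intro J hJ
    obtain ⟨o, -, rfl⟩ := Finset.mem_image.1 hJ
    exact hφ o
  have hlt : (Finset.univ.image φ).card < (Finset.univ : Finset (Option (Fin AL.length))).card := by
    rw [Finset.card_univ, Fintype.card_option, Fintype.card_fin]; omega
  obtain ⟨o, -, o', -, hoo, he⟩ := Finset.exists_ne_map_eq_of_card_lt_of_maps_to hlt
    (fun o _ => Finset.mem_image_of_mem φ (Finset.mem_univ o))
  have h2 := conj2 _ _ (hy2 o) (hy2 o') (φ o) (hφ2 o) (by rw [he]; exact hφ2 o')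
  rcases o with _ | a <;> rcases o' with _ | b
  · exact hoo rfl
  · obtain ⟨g, hg⟩ := h2
    exact hcon b g hg
  · obtain ⟨g, hg⟩ := h2
    refine hcon a g⁻¹ ?_
    change g * T a * g⁻¹ = x at hg
    rw [← hg]; group
  · exact hne a b (fun h => hoo (by rw [h])) h2

include m in
/-- from pairwise distinct ranks -/
theorem inv_main [Fintype F] [CharP F 2] (b : t.Base D) (ck : t.Checks D) {f : ℕ} {WL IL JL AL : List ℕ} {Jf : ℕ}
    (h : t.ckInv f WL IL JL (AL ++ [Jf]) = true) (hf : Tab.decW f (nth WL Jf) = [])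
    (T : Fin AL.length → ↥(D.group F)) (hsq : ∀ a, T a * T a = 1) (h1 : ∀ a, T a ≠ 1)
    (hne : ∀ a b, a ≠ b → ¬ ∃ g : ↥(D.group F), g * T a * g⁻¹ = T b)
    (L : List (Matrix D.Idx D.Idx F)) (hL : ∀ M, M ∈ L ↔ ∃ a, M = ((T a : GL D.Idx F) : Matrix D.Idx D.Idx F)) :
    (∀ y : GL D.Idx F, ((y : GL D.Idx F) : Matrix D.Idx D.Idx F) ∈ L → y ∈ D.group F ∧ orderOf y = 2) ∧
    (∀ g ∈ D.group F, orderOf g = 2 → ∃ y ∈ D.group F, ((y : GL D.Idx F) : Matrix D.Idx D.Idx F) ∈ L ∧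
      ∃ h ∈ D.group F, h * g * h⁻¹ = y) ∧
    (∀ y₁ ∈ D.group F, ∀ y₂ ∈ D.group F, ((y₁ : GL D.Idx F) : Matrix D.Idx D.Idx F) ∈ L →
      ((y₂ : GL D.Idx F) : Matrix D.Idx D.Idx F) ∈ L → (∃ h ∈ D.group F, h * y₁ * h⁻¹ = y₂) →
      ((y₁ : GL D.Idx F) : Matrix D.Idx D.Idx F) = ((y₂ : GL D.Idx F) : Matrix D.Idx D.Idx F)) := by
  have hy : ∀ y : GL D.Idx F, ((y : GL D.Idx F) : Matrix D.Idx D.Idx F) ∈ L → ∃ a, y = (T a : GL D.Idx F) := by
    intro y hy
    obtain ⟨a, ha⟩ := (hL _).1 hy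
    exact ⟨a, Units.ext ha⟩
  refine ⟨?_, ?_, ?_⟩
  · intro y hyL
    obtain ⟨a, rfl⟩ := hy y hyL
    refine ⟨(T a).2, orderOf_eq_prime ?_ ?_⟩
    · rw [pow_two]
      exact congrArg Subtype.val (hsq a)
    · intro h2
      exact h1 a (Subtype.ext h2)
  · intro g hg ho
    have h2 : (⟨g, hg⟩ : ↥(D.group F)) * ⟨g, hg⟩ = 1 := by
      apply Subtype.ext
      change g * g = 1
      rw [← pow_two, ← ho, pow_orderOf_eq_one]
    have h3 : (⟨g, hg⟩ : ↥(D.group F)) ≠ 1 := by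
      intro h3
      have h4 : g = 1 := congrArg Subtype.val h3
      rw [h4, orderOf_one] at ho
      omega
    obtain ⟨a, k, hk⟩ := inv_count m b ck h hf T hsq h1 hne _ h2 h3
    exact ⟨T a, (T a).2, (hL _).2 ⟨a, rfl⟩, k, k.2, congrArg Subtype.val hk⟩
  · intro y₁ hy₁ y₂ hy₂ hL₁ hL₂ ⟨k, hk, he⟩
    obtain ⟨a, rfl⟩ := hy y₁ hL₁
    obtain ⟨c, rfl⟩ := hy y₂ hL₂
    by_cases hac : a = c
    · rw [hac]
    · exact absurd ⟨⟨k, hk⟩, Subtype.ext he⟩ (hne a c hac)

theorem not_conj_of_rk {x y : ↥(D.group F)} (h : rk (x : GL D.Idx F) ≠ rk (y : GL D.Idx F)) :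
    ¬ ∃ g : ↥(D.group F), g * x * g⁻¹ = y := by
  rintro ⟨g, rfl⟩
  exact h (rk_conj (x : GL D.Idx F) (g : GL D.Idx F)).symm

end Cfsg.Agent.H14.Chev
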