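import Mathlib
import Cfsg.Agent.H14_InvF

set_option autoImplicit false
set_option linter.unusedSectionVars false

/-!
Involutions of Chevalley groups in characteristic two: final assembly.
-/

namespace Cfsg.Agent.H14.Chev

open Cfsg Cfsg.Lie Cfsg.Lie.ChevalleyDatum Cfsg.Agent.H6 Cfsg.Agent.H6.Chev Cfsg.Agent.H6.Chev.Model
open scoped Matrix

variable {t : Tab} {D : ChevalleyDatum} {F : Type*} [Field F] (m : Model D)

theorem xp_sq [CharP F 2] (b : t.Base D) (ck : t.Checks D) {L : List ℕ} (h : t.ckOrthL L = true) :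
    xp m F L * xp m F L = 1 := by
  apply list_prod_sq
  · rw [List.pairwise_map]
    induction L with
    | nil => exact List.Pairwise.nil
    | cons a L ih =>
      unfold Tab.ckOrthL at h
      rw [Bool.and_eq_true] at h
      refine List.Pairwise.cons (fun x hx => ?_) (ih h.2)
      obtain ⟨h1, h2, h3⟩ := ckOrthP_iff b ck (List.all_eq_true.1 h.1 x hx)
      exact h1.comm1 m (r := ⟨a, h2⟩) (s := ⟨x, h3⟩) 1 1
  · intro x hx
    obtain ⟨r, _, rfl⟩ := List.mem_map.1 hx
    exact X_sq2 m r 1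

theorem xp_single (r : ℕ) : ((xp m F [r] : GL D.Idx F) : Matrix D.Idx D.Idx F) = D.x F r 1 := by
  simp [xp, Model.coe_X]

theorem xp_pair (r s : ℕ) : ((xp m F [r, s] : GL D.Idx F) : Matrix D.Idx D.Idx F) = D.x F r 1 * D.x F s 1 := by
  simp [xp, Model.coe_X]

theorem xp_triple (r s u : ℕ) : ((xp m F [r, s, u] : GL D.Idx F) : Matrix D.Idx D.Idx F) = D.x F r 1 * D.x F s 1 * D.x F u 1 := by
  simp [xp, Model.coe_X, mul_assoc]

theorem xp_quad (r s u v : ℕ) : ((xp m F [r, s, u, v] : GL D.Idx F) : Matrix D.Idx D.Idx F) =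
    D.x F r 1 * D.x F s 1 * D.x F u 1 * D.x F v 1 := by
  simp [xp, Model.coe_X, mul_assoc]

/-- the element of the group -/
noncomputable def xg1 (F : Type*) [Field F] (L : List ℕ) : ↥(D.group F) := ⟨xp m F L, xp_mem m L⟩

theorem xg1_sq [CharP F 2] (b : t.Base D) (ck : t.Checks D) {L : List ℕ} (h : t.ckOrthL L = true) :
    xg1 m F L * xg1 m F L = 1 := Subtype.ext (xp_sq m b ck h)

theorem xg1_ne {L : List ℕ} {c : ℕ} (h : c ≤ rk (xp m F L)) (hc : 0 < c) : xg1 m F L ≠ 1 := by
  intro h1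
  have h2 : xp m F L = 1 := congrArg Subtype.val h1
  rw [h2, rk_one] at h
  omega

end Cfsg.Agent.H14.Chev
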