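import Mathlib
import Cfsg.Agent.H14_InvG
import Cfsg.Agent.H14_InvTabE8

set_option autoImplicit false
set_option maxRecDepth 100000

/-! Classes of involutions in characteristic two, type E8. -/

namespace Cfsg.Agent.H14.Chev

open Cfsg Cfsg.Lie Cfsg.Lie.ChevalleyDatum Cfsg.Agent.H6 Cfsg.Agent.H6.Chev Cfsg.Agent.H6.Chev.Model
open scoped Matrix

def sE8_0 : List (Fin chevE8.rank) := ([0] : List (Fin 8))
def lE8_0 : List (Fin chevE8.rank) := ([2, 3, 4, 5, 6, 7, 1, 3, 4, 5, 6, 2, 3, 4, 5, 1, 3, 4, 2, 3, 0, 2, 1, 3, 4, 5, 6, 7, 6, 5, 4, 3, 0, 2, 1, 3, 4, 5, 6, 0, 2, 1, 3, 4, 5, 2, 1, 3, 4, 2, 1, 3, 2, 1] : List (Fin 8))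

theorem ckRE8_0 : tabE8.ckRep [239] (sE8_0.map Fin.val) (lE8_0.map Fin.val) 57 = true := by decide +kernel

theorem ckOE8_0 : tabE8.ckOrthL [239] = true := by decide +kernel

theorem rkE8_0 {F : Type*} [Field F] [CharP F 2] : 57 ≤ rk (xp modelE8 F [239]) ∧ rk (xp modelE8 F [239]) ≤ 58 :=
  rep_rk modelE8 baseE8 checksE8 sE8_0 lE8_0 ckRE8_0

def sE8_1 : List (Fin chevE8.rank) := ([0, 1] : List (Fin 8))
def lE8_1 : List (Fin chevE8.rank) := ([3, 4, 5, 6, 0, 2, 3, 4, 5, 1, 3, 4, 2, 3, 0, 2, 1, 3, 4, 5, 6, 7, 6, 5, 4, 3, 2, 1, 3, 4, 5, 6, 0, 2, 3, 4, 5, 1, 3, 4, 2, 3, 2] : List (Fin 8))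

theorem ckRE8_1 : tabE8.ckRep [232, 233] (sE8_1.map Fin.val) (lE8_1.map Fin.val) 90 = true := by decide +kernel

theorem ckOE8_1 : tabE8.ckOrthL [232, 233] = true := by decide +kernel

theorem rkE8_1 {F : Type*} [Field F] [CharP F 2] : 90 ≤ rk (xp modelE8 F [232, 233]) ∧ rk (xp modelE8 F [232, 233]) ≤ 92 :=
  rep_rk modelE8 baseE8 checksE8 sE8_1 lE8_1 ckRE8_1

def sE8_2 : List (Fin chevE8.rank) := ([0, 1, 4] : List (Fin 8))
def lE8_2 : List (Fin chevE8.rank) := ([3, 2, 1, 3, 4, 5, 6, 7, 3, 2, 1, 3, 4, 5, 6, 0, 2, 3, 4, 5, 1, 3, 4, 2, 3, 0, 2, 1, 3, 4, 5, 6, 7, 4, 2, 3, 0, 2, 1, 3, 4, 5, 6, 3, 2, 1, 3, 4, 5, 2, 1, 3, 4, 3, 0, 2, 1, 3, 2] : List (Fin 8))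

theorem ckRE8_2 : tabE8.ckRep [228, 222, 218] (sE8_2.map Fin.val) (lE8_2.map Fin.val) 107 = true := by decide +kernel

theorem ckOE8_2 : tabE8.ckOrthL [228, 222, 218] = true := by decide +kernel

theorem rkE8_2 {F : Type*} [Field F] [CharP F 2] : 107 ≤ rk (xp modelE8 F [228, 222, 218]) ∧ rk (xp modelE8 F [228, 222, 218]) ≤ 110 :=
  rep_rk modelE8 baseE8 checksE8 sE8_2 lE8_2 ckRE8_2

def sE8_3 : List (Fin chevE8.rank) := ([0, 1, 4, 6] : List (Fin 8))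
def lE8_3 : List (Fin chevE8.rank) := ([1, 3, 4, 5, 6, 2, 3, 4, 5, 1, 3, 4, 2, 3, 0, 2, 1, 3, 4, 5, 6, 7, 5, 4, 2, 3, 0, 2, 1, 3, 4, 5, 6, 4, 5, 1, 3, 4, 2, 3, 0, 2, 1, 3, 4, 5, 1, 3, 4, 3, 0, 2, 1, 3, 2] : List (Fin 8))

theorem ckRE8_3 : tabE8.ckRep [226, 220, 213, 216] (sE8_3.map Fin.val) (lE8_3.map Fin.val) 116 = true := by decide +kernel

theorem ckOE8_3 : tabE8.ckOrthL [226, 220, 213, 216] = true := by decide +kernel

theorem rkE8_3 {F : Type*} [Field F] [CharP F 2] : 116 ≤ rk (xp modelE8 F [226, 220, 213, 216]) ∧ rk (xp modelE8 F [226, 220, 213, 216]) ≤ 120 :=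
  rep_rk modelE8 baseE8 checksE8 sE8_3 lE8_3 ckRE8_3

noncomputable def TE8 (F : Type*) [Field F] : Fin 4 → ↥(chevE8.group F) := ![xg1 modelE8 F [239], xg1 modelE8 F [232, 233], xg1 modelE8 F [228, 222, 218], xg1 modelE8 F [226, 220, 213, 216]]

theorem mainE8 {F : Type*} [Field F] [Fintype F] [CharP F 2] :
    (∀ y : GL chevE8.Idx F, ((y : GL chevE8.Idx F) : Matrix chevE8.Idx chevE8.Idx F) ∈ [chevE8.x F 239 1, chevE8.x F 232 1 * chevE8.x F 233 1, chevE8.x F 228 1 * chevE8.x F 222 1 * chevE8.x F 218 1, chevE8.x F 226 1 * chevE8.x F 220 1 * chevE8.x F 213 1 * chevE8.x F 216 1] → y ∈ chevE8.group F ∧ orderOf y = 2) ∧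
    (∀ g ∈ chevE8.group F, orderOf g = 2 → ∃ y ∈ chevE8.group F, ((y : GL chevE8.Idx F) : Matrix chevE8.Idx chevE8.Idx F) ∈ [chevE8.x F 239 1, chevE8.x F 232 1 * chevE8.x F 233 1, chevE8.x F 228 1 * chevE8.x F 222 1 * chevE8.x F 218 1, chevE8.x F 226 1 * chevE8.x F 220 1 * chevE8.x F 213 1 * chevE8.x F 216 1] ∧
      ∃ h ∈ chevE8.group F, h * g * h⁻¹ = y) ∧
    (∀ y₁ ∈ chevE8.group F, ∀ y₂ ∈ chevE8.group F, ((y₁ : GL chevE8.Idx F) : Matrix chevE8.Idx chevE8.Idx F) ∈ [chevE8.x F 239 1, chevE8.x F 232 1 * chevE8.x F 233 1, chevE8.x F 228 1 * chevE8.x F 222 1 * chevE8.x F 218 1, chevE8.x F 226 1 * chevE8.x F 220 1 * chevE8.x F 213 1 * chevE8.x F 216 1] →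
      ((y₂ : GL chevE8.Idx F) : Matrix chevE8.Idx chevE8.Idx F) ∈ [chevE8.x F 239 1, chevE8.x F 232 1 * chevE8.x F 233 1, chevE8.x F 228 1 * chevE8.x F 222 1 * chevE8.x F 218 1, chevE8.x F 226 1 * chevE8.x F 220 1 * chevE8.x F 213 1 * chevE8.x F 216 1] → (∃ h ∈ chevE8.group F, h * y₁ * h⁻¹ = y₂) →
      ((y₁ : GL chevE8.Idx F) : Matrix chevE8.Idx chevE8.Idx F) = ((y₂ : GL chevE8.Idx F) : Matrix chevE8.Idx chevE8.Idx F)) := by
  have hck : tabE8.ckInv 121 invWE8 invIE8 invJE8 ([0, 30, 126, 127] ++ [255]) = true := ckInvE8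
  have hf : Tab.decW 121 (nth invWE8 255) = [] := by decide +kernel
  have hT : ∀ a, TE8 F a = match a with
    | 0 => xg1 modelE8 F [239]
    | 1 => xg1 modelE8 F [232, 233]
    | 2 => xg1 modelE8 F [228, 222, 218]
    | 3 => xg1 modelE8 F [226, 220, 213, 216] := by
    intro a; fin_cases a <;> rfl
  refine inv_main (F := F) modelE8 baseE8 checksE8 hck hf (TE8 F) ?_ ?_ ?_ _ ?_
  · intro a
    fin_cases a
    · exact xg1_sq modelE8 baseE8 checksE8 ckOE8_0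
    · exact xg1_sq modelE8 baseE8 checksE8 ckOE8_1
    · exact xg1_sq modelE8 baseE8 checksE8 ckOE8_2
    · exact xg1_sq modelE8 baseE8 checksE8 ckOE8_3
  · intro a
    fin_cases a
    · exact xg1_ne modelE8 (rkE8_0 (F := F)).1 (by norm_num)
    · exact xg1_ne modelE8 (rkE8_1 (F := F)).1 (by norm_num)
    · exact xg1_ne modelE8 (rkE8_2 (F := F)).1 (by norm_num)
    · exact xg1_ne modelE8 (rkE8_3 (F := F)).1 (by norm_num)
  · intro a b hab
    apply not_conj_of_rk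
    have h0 := rkE8_0 (F := F)
    have h1 := rkE8_1 (F := F)
    have h2 := rkE8_2 (F := F)
    have h3 := rkE8_3 (F := F)
    fin_cases a <;> fin_cases b <;> first | exact absurd rfl hab | skip
    all_goals
      simp only [TE8, xg1]
      change rk (xp modelE8 F _) ≠ rk (xp modelE8 F _)
      omega
  · intro M
    constructor
    · intro hM
      simp only [List.mem_cons, List.not_mem_nil, or_false] at hM
      rcases hM with rfl | rfl | rfl | rfl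
      · exact ⟨0, (xp_single modelE8 239).symm⟩
      · exact ⟨1, (xp_pair modelE8 232 233).symm⟩
      · exact ⟨2, (xp_triple modelE8 228 222 218).symm⟩
      · exact ⟨3, (xp_quad modelE8 226 220 213 216).symm⟩
    · rintro ⟨a, rfl⟩
      simp only [List.mem_cons, List.not_mem_nil, or_false]
      fin_cases a
      · left; exact xp_single modelE8 239
      · right; left; exact xp_pair modelE8 232 233
      · right; right; left; exact xp_triple modelE8 228 222 218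
      · right; right; right; exact xp_quad modelE8 226 220 213 216


end Cfsg.Agent.H14.Chev
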