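import Mathlib
import Cfsg.Agent.H14_M24Gen
import Cfsg.Agent.H14_Out

set_option autoImplicit false

/-!
Automorphisms of the Mathieu groups.
-/

namespace Cfsg.Agent.H14.M24Out

open Cfsg Cfsg.Agent.H7.Golay Cfsg.Agent.H7.Oct Cfsg.Agent.H7.M24 Cfsg.Agent.H14.M24Eng Cfsg.Agent.H14.M24Gen
open Cfsg.Agent.H14.Out
open scoped Pointwise

/-- tree for the centralizer of S -/
def treeS : Tr := (.split 0 1 (.comm (.comm (.comm (.comm (.comm (.comm (.comm (.comm (.comm (.comm (.comm (.comm (.comm (.comm (.comm (.comm (.comm (.comm (.comm (.comm (.comm (.comm (.oct 8398155 8398155 (.comm (.comm .good))))))))))))))))))))))))) (.split 0 2 (.comm (.comm (.comm (.comm (.comm (.comm (.comm (.comm (.comm (.comm (.comm (.comm (.comm (.comm (.comm (.comm (.comm (.comm (.comm (.comm (.comm (.comm (.oct 8398155 8407702 (.comm (.comm .good))))))))))))))))))))))))) (.split 0 4 (.comm (.comm (.comm (.comm (.comm (.comm (.comm (.comm (.comm (.comm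 (.comm (.comm (.comm (.comm (.comm (.comm (.comm (.comm (.comm (.comm (.comm (.comm (.oct 8398155 8426796 (.comm (.comm .good))))))))))))))))))))))))) (.split 0 8 (.comm (.comm (.comm (.comm (.comm (.comm (.comm (.comm (.comm (.comm (.comm (.comm (.comm (.comm (.comm (.comm (.comm (.comm (.comm (.comm (.comm (.comm (.oct 8398155 8464984 (.comm (.comm .good))))))))))))))))))))))))) (.split 0 16 (.comm (.comm (.comm (.comm (.comm (.comm (.comm (.comm (.comm (.comm (.comm (.comm (.comm (.comm (.comm (.comm (.comm (.comm (.comm (.comm (.comm (.comm (.oct 8398155 8541360 (.comm (.comm .good))))))))))))))))))))))))) (.split 0 32 (.comm (.comm (.comm (.comm (.comm (.comm (.comm (.comm (.comm (.comm (.comm (.comm (.comm (.comm (.comm (.comm (.comm (.comm (.comm (.comm (.comm (.comm (.oct 8398155 8694112 (.comm (.comm .good))))))))))))))))))))))))) (.split 0 64 (.comm (.comm (.comm (.comm (.comm (.comm (.comm (.comm (.comm (.comm (.comm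 (.comm (.comm (.comm (.comm (.comm (.comm (.comm (.comm (.comm (.comm (.comm (.oct 8398155 8999616 (.comm (.comm .good))))))))))))))))))))))))) (.split 0 128 (.comm (.comm (.comm (.comm (.comm (.comm (.comm (.comm (.comm (.comm (.comm (.comm (.comm (.comm (.comm (.comm (.comm (.comm (.comm (.comm (.comm (.comm (.oct 8398155 9610624 (.comm (.comm .good))))))))))))))))))))))))) (.split 0 256 (.comm (.comm (.comm (.comm (.comm (.comm (.comm (.comm (.comm (.comm (.comm (.comm (.comm (.comm (.comm (.comm (.comm (.comm (.comm (.comm (.comm (.comm (.oct 8398155 10832640 (.comm (.comm .good))))))))))))))))))))))))) (.split 0 512 (.comm (.comm (.comm (.comm (.comm (.comm (.comm (.comm (.comm (.comm (.comm (.comm (.comm (.comm (.comm (.comm (.comm (.comm (.comm (.comm (.comm (.comm (.oct 8398155 13276672 (.comm (.comm .good))))))))))))))))))))))))) (.split 0 1024 (.comm (.comm (.comm (.comm (.comm (.comm (.comm (.comm (.comm (.comm (.comm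 (.comm (.comm (.comm (.comm (.comm (.comm (.comm (.comm (.comm (.comm (.comm (.oct 8398155 9776129 (.comm (.comm .good))))))))))))))))))))))))) (.split 0 2048 (.comm (.comm (.comm (.comm (.comm (.comm (.comm (.comm (.comm (.comm (.comm (.comm (.comm (.comm (.comm (.comm (.comm (.comm (.comm (.comm (.comm (.comm (.oct 8398155 11163650 (.comm (.comm .good))))))))))))))))))))))))) (.split 0 4096 (.comm (.comm (.comm (.comm (.comm (.comm (.comm (.comm (.comm (.comm (.comm (.comm (.comm (.comm (.comm (.comm (.comm (.comm (.comm (.comm (.comm (.comm (.oct 8398155 13938692 (.comm (.comm .good))))))))))))))))))))))))) (.split 0 8192 (.comm (.comm (.comm (.comm (.comm (.comm (.comm (.comm (.comm (.comm (.comm (.comm (.comm (.comm (.comm (.comm (.comm (.comm (.comm (.comm (.comm (.comm (.oct 8398155 11100169 (.comm (.comm .good))))))))))))))))))))))))) (.split 0 16384 (.comm (.comm (.comm (.comm (.comm (.comm (.comm (.comm (.comm (.comm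 (.comm (.comm (.comm (.comm (.comm (.comm (.comm (.comm (.comm (.comm (.comm (.comm (.oct 8398155 13811730 (.comm (.comm .good))))))))))))))))))))))))) (.split 0 32768 (.comm (.comm (.comm (.comm (.comm (.comm (.comm (.comm (.comm (.comm (.comm (.comm (.comm (.comm (.comm (.comm (.comm (.comm (.comm (.comm (.comm (.comm (.oct 8398155 10846245 (.comm (.comm .good))))))))))))))))))))))))) (.split 0 65536 (.comm (.comm (.comm (.comm (.comm (.comm (.comm (.comm (.comm (.comm (.comm (.comm (.comm (.comm (.comm (.comm (.comm (.comm (.comm (.comm (.comm (.comm (.oct 8398155 13303882 (.comm (.comm .good))))))))))))))))))))))))) (.split 0 131072 (.comm (.comm (.comm (.comm (.comm (.comm (.comm (.comm (.comm (.comm (.comm (.comm (.comm (.comm (.comm (.comm (.comm (.comm (.comm (.comm (.comm (.comm (.oct 8398155 9830549 (.comm (.comm .good))))))))))))))))))))))))) (.split 0 262144 (.comm (.comm (.comm (.comm (.comm (.comm (.comm (.comm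 (.comm (.comm (.comm (.comm (.comm (.comm (.comm (.comm (.comm (.comm (.comm (.comm (.comm (.comm (.oct 8398155 11272490 (.comm (.comm .good))))))))))))))))))))))))) (.split 0 524288 (.comm (.comm (.comm (.comm (.comm (.comm (.comm (.comm (.comm (.comm (.comm (.comm (.comm (.comm (.comm (.comm (.comm (.comm (.comm (.comm (.comm (.comm (.oct 8398155 14156372 (.comm (.comm .good))))))))))))))))))))))))) (.split 0 1048576 (.comm (.comm (.comm (.comm (.comm (.comm (.comm (.comm (.comm (.comm (.comm (.comm (.comm (.comm (.comm (.comm (.comm (.comm (.comm (.comm (.comm (.comm (.oct 8398155 11535529 (.comm (.comm .good))))))))))))))))))))))))) (.split 0 2097152 (.comm (.comm (.comm (.comm (.comm (.comm (.comm (.comm (.comm (.comm (.comm (.comm (.comm (.comm (.comm (.comm (.comm (.comm (.comm (.comm (.comm (.comm (.oct 8398155 14682450 (.comm (.comm .good))))))))))))))))))))))))) (.split 0 4194304 (.comm (.comm (.comm (.comm (.comm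 (.comm (.comm (.comm (.comm (.comm (.comm (.comm (.comm (.comm (.comm (.comm (.comm (.comm (.comm (.comm (.comm (.comm (.oct 8398155 12587685 (.comm (.comm .good))))))))))))))))))))))))) (.comm (.comm (.comm (.comm (.comm (.comm (.comm (.comm (.comm (.comm (.comm (.comm (.comm (.comm (.comm (.comm (.comm (.comm (.comm (.comm (.comm (.comm (.oct 5279 8391797 .bad))))))))))))))))))))))))))))))))))))))))))))))

theorem treeS_ok : treeS.check (invl lS) lS ((List.range 23).map (powl lS)) (List.replicate 24 0xffffff) = true := by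
  decide +kernel

theorem cent_S {g : Equiv.Perm GolayPt} (hg : g ∈ M24) (hc : g * eS = eS * g) : ∃ i < 23, g = eS ^ i := by
  obtain ⟨l, hl, hr⟩ := check_spec hg (rep_inv rep_S) rep_S hc _ treeS _ treeS_ok (val_top g)
  rw [List.mem_map] at hl
  obtain ⟨i, hi, rfl⟩ := hl
  exact ⟨i, List.mem_range.1 hi, hr.unique (rep_powl rep_S i)⟩

theorem eq_of_reps {g h : Equiv.Perm GolayPt} {a b : List ℕ} (hg : Rep g a) (hh : Rep h b) (hab : (a == b) = true) :
    g = h := by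
  have := eq_of_beq hab
  subst this
  exact hg.unique hh

theorem ne_of_reps {g h : Equiv.Perm GolayPt} {a b : List ℕ} (hg : Rep g a) (hh : Rep h b) (hab : (a == b) = false) :
    g ≠ h := by
  rintro rfl
  rw [rep_eq_list hg hh] at hab
  simp at hab

theorem beq_of_reps {g h : Equiv.Perm GolayPt} {a b : List ℕ} (hg : Rep g a) (hh : Rep h b) (hgh : g = h) :
    (a == b) = true := by
  subst hgh
  rw [rep_eq_list hg hh]
  simp

theorem ord_S : orderOf eS = 23 := by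
  have : Fact (Nat.Prime 23) := ⟨by norm_num⟩
  exact orderOf_eq_prime (eq_of_reps (rep_powl rep_S 23) rep_one (by decide +kernel))
    (ne_of_reps rep_S rep_one (by decide +kernel))

theorem ord_T : orderOf eT = 11 := by
  have : Fact (Nat.Prime 11) := ⟨by norm_num⟩
  exact orderOf_eq_prime (eq_of_reps (rep_powl rep_T 11) rep_one (by decide +kernel))
    (ne_of_reps rep_T rep_one (by decide +kernel))

theorem ord_V : orderOf eV = 5 := by
  have : Fact (Nat.Prime 5) := ⟨by norm_num⟩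
  exact orderOf_eq_prime (eq_of_reps (rep_powl rep_V 5) rep_one (by decide +kernel))
    (ne_of_reps rep_V rep_one (by decide +kernel))

theorem rel_TS : eT * eS = eS ^ 2 * eT :=
  eq_of_reps (rep_mul rep_T rep_S) (rep_mul (rep_powl rep_S 2) rep_T) (by decide +kernel)

theorem rel_VT : eV * eT = eT ^ 3 * eV :=
  eq_of_reps (rep_mul rep_V rep_T) (rep_mul (rep_powl rep_T 3) rep_V) (by decide +kernel)

theorem rel_UV : eU * eV = eV ^ 2 * eU :=
  eq_of_reps (rep_mul rep_U rep_V) (rep_mul (rep_powl rep_V 2) rep_U) (by decide +kernel)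

theorem rel_XV : eX * eV = eV ^ 2 * eX :=
  eq_of_reps (rep_mul rep_X rep_V) (rep_mul (rep_powl rep_V 2) rep_X) (by decide +kernel)

theorem rel_ZV : eZ * eV = eV ^ 1 * eZ :=
  eq_of_reps (rep_mul rep_Z rep_V) (rep_mul (rep_powl rep_V 1) rep_Z) (by decide +kernel)

theorem rel_WV : eW * eV = eV * eW :=
  eq_of_reps (rep_mul rep_W rep_V) (rep_mul rep_V rep_W) (by decide +kernel)

theorem rel_WT : eW * eT = eT ^ 10 * eW :=
  eq_of_reps (rep_mul rep_W rep_T) (rep_mul (rep_powl rep_T 10) rep_W) (by decide +kernel)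

theorem rel_SVV : (eS * eV * eV) ^ 5 = 1 :=
  eq_of_reps (rep_powl (rep_mul (rep_mul rep_S rep_V) rep_V) 5) rep_one (by decide +kernel)

theorem rel_TX : (eT * eX) ^ 11 = 1 :=
  eq_of_reps (rep_powl (rep_mul rep_T rep_X) 11) rep_one (by decide +kernel)

theorem rel_TUV : (eT * eU * eV) ^ 5 = 1 :=
  eq_of_reps (rep_powl (rep_mul (rep_mul rep_T rep_U) rep_V) 5) rep_one (by decide +kernel)

/-! ### normal forms modulo inner automorphisms -/

theorem shift_ST : ∀ i < 23, ∃ m < 23, eS ^ m * (eT * eS ^ i) = eT * eS ^ m := by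
  have h : (List.range 23).all (fun i => (List.range 23).any fun m =>
      comp (powl lS m) (comp lT (powl lS i)) == comp lT (powl lS m)) = true := by decide +kernel
  intro i hi
  have h1 := List.all_eq_true.1 h i (List.mem_range.2 hi)
  rw [List.any_eq_true] at h1
  obtain ⟨m, hm, h2⟩ := h1
  exact ⟨m, List.mem_range.1 hm, eq_of_reps (rep_mul (rep_powl rep_S m) (rep_mul rep_T (rep_powl rep_S i)))
    (rep_mul rep_T (rep_powl rep_S m)) h2⟩

theorem shift_TV : ∀ i < 11, ∃ m < 11, eT ^ m * (eV * eT ^ i) = eV * eT ^ m := by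
  have h : (List.range 11).all (fun i => (List.range 11).any fun m =>
      comp (powl lT m) (comp lV (powl lT i)) == comp lV (powl lT m)) = true := by decide +kernel
  intro i hi
  have h1 := List.all_eq_true.1 h i (List.mem_range.2 hi)
  rw [List.any_eq_true] at h1
  obtain ⟨m, hm, h2⟩ := h1
  exact ⟨m, List.mem_range.1 hm, eq_of_reps (rep_mul (rep_powl rep_T m) (rep_mul rep_V (rep_powl rep_T i)))
    (rep_mul rep_V (rep_powl rep_T m)) h2⟩

theorem pow_ST : ∀ k < 23, k ≠ 0 → ∃ j < 11, ∃ e, (e = 1 ∨ e = 22) ∧ eT ^ j * eS ^ k = eS ^ e * eT ^ j := by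
  have h : (List.range 23).all (fun k => Nat.beq k 0 || (List.range 11).any fun j => [1, 22].any fun e =>
      comp (powl lT j) (powl lS k) == comp (powl lS e) (powl lT j)) = true := by decide +kernel
  intro k hk hk0
  have h1 := List.all_eq_true.1 h k (List.mem_range.2 hk)
  rw [Bool.or_eq_true] at h1
  rcases h1 with h1 | h1
  · exact absurd (Nat.eq_of_beq_eq_true h1) hk0
  rw [List.any_eq_true] at h1
  obtain ⟨j, hj, h2⟩ := h1
  rw [List.any_eq_true] at h2
  obtain ⟨e, he, h3⟩ := h2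
  exact ⟨j, List.mem_range.1 hj, e, by simpa using he, eq_of_reps (rep_mul (rep_powl rep_T j) (rep_powl rep_S k))
    (rep_mul (rep_powl rep_S e) (rep_powl rep_T j)) h3⟩

theorem pow_TV : ∀ k < 11, k ≠ 0 → ∃ j < 5, ∃ e, (e = 1 ∨ e = 10) ∧ eV ^ j * eT ^ k = eT ^ e * eV ^ j := by
  have h : (List.range 11).all (fun k => Nat.beq k 0 || (List.range 5).any fun j => [1, 10].any fun e =>
      comp (powl lV j) (powl lT k) == comp (powl lT e) (powl lV j)) = true := by decide +kernel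
  intro k hk hk0
  have h1 := List.all_eq_true.1 h k (List.mem_range.2 hk)
  rw [Bool.or_eq_true] at h1
  rcases h1 with h1 | h1
  · exact absurd (Nat.eq_of_beq_eq_true h1) hk0
  rw [List.any_eq_true] at h1
  obtain ⟨j, hj, h2⟩ := h1
  rw [List.any_eq_true] at h2
  obtain ⟨e, he, h3⟩ := h2
  exact ⟨j, List.mem_range.1 hj, e, by simpa using he, eq_of_reps (rep_mul (rep_powl rep_V j) (rep_powl rep_T k))
    (rep_mul (rep_powl rep_T e) (rep_powl rep_V j)) h3⟩

/-- abstract normalisation: `s` of prime order `p` generating a Sylow subgroup and its own centralizer, `t`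
normalizing it -/
theorem normalise {G : Type*} [Group G] [Finite G] {p : ℕ} [hp : Fact p.Prime] (hcard : ¬ p ^ 2 ∣ Nat.card G)
    (s t : G) (a n : ℕ) (E : ℕ → Prop) (hs : orderOf s = p) (hts : t * s = s ^ a * t)
    (hcent : ∀ g : G, g * s = s * g → ∃ i < p, g = s ^ i)
    (hshift : ∀ i < p, ∃ m < p, s ^ m * (t * s ^ i) = t * s ^ m)
    (hpow : ∀ k < p, k ≠ 0 → ∃ j < n, ∃ e, E e ∧ t ^ j * s ^ k = s ^ e * t ^ j) (φ : MulAut G) :
    ∃ g : G, ∃ e, E e ∧ (MulAut.conj g * φ) s = s ^ e ∧ (MulAut.conj g * φ) t = t := by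
  have hφs : orderOf (φ s) = p := by rw [MulEquiv.orderOf_eq, hs]
  obtain ⟨g1, k, hk, h1⟩ := exists_conj_pow hcard s (φ s) hs hφs
  have hk0 : k ≠ 0 := by
    rintro rfl
    rw [pow_zero] at h1
    have h2 : φ s = 1 := by
      have h3 := congrArg (fun x => g1⁻¹ * x * g1) h1
      simpa [mul_assoc] using h3
    rw [h2, orderOf_one] at hφs
    exact hp.out.one_lt.ne hφs
  have hkp : ¬ p ∣ k := fun h => by
    have := Nat.le_of_dvd (Nat.pos_of_ne_zero hk0) h
    omega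
  set φ1 : MulAut G := MulAut.conj g1 * φ with hφ1
  have h2 : φ1 s = s ^ k := h1
  obtain ⟨i, hi, h3⟩ := hcent _ (comm_of_conj hp.out hs hts φ1 hkp h2)
  have h4 : φ1 t = t * s ^ i := by rw [← h3, mul_inv_cancel_left]
  obtain ⟨m, hm, h5⟩ := hshift i hi
  obtain ⟨j, hj, e, he, h6⟩ := hpow k hk hk0
  refine ⟨t ^ j * s ^ m * g1, e, he, ?_, ?_⟩
  · have h7 : (MulAut.conj (t ^ j * s ^ m * g1) * φ) s = t ^ j * s ^ m * (φ1 s) * (t ^ j * s ^ m)⁻¹ := by
      rw [hφ1, MulAut.mul_apply, MulAut.mul_apply, MulAut.conj_apply, MulAut.conj_apply]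
      group
    rw [h7, h2]
    have h8 : s ^ m * s ^ k * (s ^ m)⁻¹ = s ^ k := by
      rw [← pow_add, add_comm, pow_add, mul_inv_cancel_right]
    calc t ^ j * s ^ m * s ^ k * (t ^ j * s ^ m)⁻¹ = t ^ j * (s ^ m * s ^ k * (s ^ m)⁻¹) * (t ^ j)⁻¹ := by group
      _ = s ^ e := by rw [h8, h6, mul_inv_cancel_right]
  · have h7 : (MulAut.conj (t ^ j * s ^ m * g1) * φ) t = t ^ j * s ^ m * (φ1 t) * (t ^ j * s ^ m)⁻¹ := by
      rw [hφ1, MulAut.mul_apply, MulAut.mul_apply, MulAut.conj_apply, MulAut.conj_apply]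
      group
    rw [h7, h4]
    calc t ^ j * s ^ m * (t * s ^ i) * (t ^ j * s ^ m)⁻¹ = t ^ j * (s ^ m * (t * s ^ i) * (s ^ m)⁻¹) * (t ^ j)⁻¹ := by group
      _ = t := by
        rw [h5, mul_inv_cancel_right, ← pow_succ, pow_succ', mul_inv_cancel_right]

variable {M : Subgroup (Equiv.Perm GolayPt)}

/-- every automorphism fixes `S, T` up to an inner one and up to `S ↦ S⁻¹` -/
theorem norm_ST (hM : M ≤ M24) (hS : eS ∈ M) (hT : eT ∈ M) (hcard : ¬ 23 ^ 2 ∣ Nat.card M) (φ : MulAut M) :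
    ∃ g : M, ∃ e, (e = 1 ∨ e = 22) ∧ (MulAut.conj g * φ) ⟨eS, hS⟩ = ⟨eS, hS⟩ ^ e ∧
      (MulAut.conj g * φ) ⟨eT, hT⟩ = ⟨eT, hT⟩ := by
  have : Fact (Nat.Prime 23) := ⟨by norm_num⟩
  refine normalise (p := 23) hcard _ _ 2 11 (fun e => e = 1 ∨ e = 22) ?_ ?_ ?_ ?_ ?_ φ
  · rw [Subgroup.orderOf_mk, ord_S]
  · exact Subtype.ext rel_TS
  · intro g hg
    obtain ⟨i, hi, h⟩ := cent_S (hM g.2) (congrArg Subtype.val hg)
    exact ⟨i, hi, Subtype.ext h⟩
  · intro i hi
    obtain ⟨m, hm, h⟩ := shift_ST i hi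
    exact ⟨m, hm, Subtype.ext h⟩
  · intro k hk hk0
    obtain ⟨j, hj, e, he, h⟩ := pow_ST k hk hk0
    exact ⟨j, hj, e, he, Subtype.ext h⟩

/-- every automorphism fixes `T, V` up to an inner one and up to `T ↦ T⁻¹` -/
theorem norm_TV (hM : M ≤ M24) (hT : eT ∈ M) (hV : eV ∈ M) (hcard : ¬ 11 ^ 2 ∣ Nat.card M) (φ : MulAut M) :
    ∃ g : M, ∃ e, (e = 1 ∨ e = 10) ∧ (MulAut.conj g * φ) ⟨eT, hT⟩ = ⟨eT, hT⟩ ^ e ∧
      (MulAut.conj g * φ) ⟨eV, hV⟩ = ⟨eV, hV⟩ := by
  have : Fact (Nat.Prime 11) := ⟨by norm_num⟩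
  refine normalise (p := 11) hcard _ _ 3 5 (fun e => e = 1 ∨ e = 10) ?_ ?_ ?_ ?_ ?_ φ
  · rw [Subgroup.orderOf_mk, ord_T]
  · exact Subtype.ext rel_VT
  · intro g hg
    obtain ⟨i, hi, h⟩ := cent_T (hM g.2) (congrArg Subtype.val hg)
    exact ⟨i, hi, Subtype.ext h⟩
  · intro i hi
    obtain ⟨m, hm, h⟩ := shift_TV i hi
    exact ⟨m, hm, Subtype.ext h⟩
  · intro k hk hk0
    obtain ⟨j, hj, e, he, h⟩ := pow_TV k hk hk0
    exact ⟨j, hj, e, he, Subtype.ext h⟩

/-! ### M23 and M24 -/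

theorem fix_STV (hM : M ≤ M24) (hS : eS ∈ M) (hT : eT ∈ M) (hV : eV ∈ M) (hcard : ¬ 23 ^ 2 ∣ Nat.card M)
    (φ : MulAut M) : ∃ g : M, (MulAut.conj g * φ) ⟨eS, hS⟩ = ⟨eS, hS⟩ ∧ (MulAut.conj g * φ) ⟨eT, hT⟩ = ⟨eT, hT⟩ ∧
      (MulAut.conj g * φ) ⟨eV, hV⟩ = ⟨eV, hV⟩ := by
  obtain ⟨g, e, he, h1, h2⟩ := norm_ST hM hS hT hcard φ
  refine ⟨g, ?_⟩
  set ψ : MulAut M := MulAut.conj g * φ with hψ
  have h3 := comm_of_conj (p := 11) (by norm_num) (s := (⟨eT, hT⟩ : M)) (t := ⟨eV, hV⟩) (a := 3) (e := 1)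
    (by rw [Subgroup.orderOf_mk, ord_T]) (Subtype.ext rel_VT) ψ (by norm_num) (by rw [h2, pow_one])
  obtain ⟨i, hi, h4⟩ := cent_T (hM (((⟨eV, hV⟩ : M))⁻¹ * ψ ⟨eV, hV⟩).2) (congrArg Subtype.val h3)
  have h5 : ψ ⟨eV, hV⟩ = ⟨eV, hV⟩ * ⟨eT, hT⟩ ^ i := by
    have : ((⟨eV, hV⟩ : M))⁻¹ * ψ ⟨eV, hV⟩ = ⟨eT, hT⟩ ^ i := Subtype.ext h4
    rw [← this, mul_inv_cancel_left]
  have h6 : ((⟨eS, hS⟩ : M) * ⟨eV, hV⟩ * ⟨eV, hV⟩) ^ 5 = 1 := Subtype.ext rel_SVV
  have h7 := congrArg ψ h6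
  rw [map_pow, map_mul, map_mul, map_one, h1, h5] at h7
  have h8 : (eS ^ e * (eV * eT ^ i) * (eV * eT ^ i)) ^ 5 = 1 := congrArg Subtype.val h7
  have key : (List.range 11).all (fun i => [1, 22].all fun e =>
      !(powl (comp (comp (powl lS e) (comp lV (powl lT i))) (comp lV (powl lT i))) 5 == List.range 24) ||
        (Nat.beq i 0 && Nat.beq e 1)) = true := by decide +kernel
  have h9 := List.all_eq_true.1 key i (List.mem_range.2 hi)
  have h10 := List.all_eq_true.1 h9 e (by simpa using he)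
  have h11 := beq_of_reps (rep_powl (rep_mul (rep_mul (rep_powl rep_S e) (rep_mul rep_V (rep_powl rep_T i)))
    (rep_mul rep_V (rep_powl rep_T i))) 5) rep_one h8
  rw [h11] at h10
  simp only [Bool.not_true, Bool.false_or, Bool.and_eq_true] at h10
  have hi0 : i = 0 := Nat.eq_of_beq_eq_true h10.1
  have he1 : e = 1 := Nat.eq_of_beq_eq_true h10.2
  subst hi0 he1
  exact ⟨by rw [h1, pow_one], h2, by rw [h5, pow_zero, mul_one]⟩

theorem out_M23 (φ : MulAut Spor.M23) : φ ∈ Cfsg.Inn Spor.M23 := by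
  obtain ⟨g, h1, h2, h3⟩ := fix_STV (M := Spor.M23) inf_le_left S_mem23 T_mem23 V_mem23 (by rw [card_M23]; norm_num) φ
  apply inn_of_conj_mul g
  have : MulAut.conj g * φ = 1 := eq_one_of_fix _ (fun K hK h =>
    eq_M23 hK (h _ h1) (h _ h2) (h _ h3))
  rw [this]
  exact one_mem _

theorem out_M24 (φ : MulAut M24) : φ ∈ Cfsg.Inn M24 := by
  obtain ⟨g, h1, h2, h3⟩ := fix_STV (M := M24) le_rfl mem_S mem_T mem_V (by rw [card_M24]; norm_num) φ
  apply inn_of_conj_mul g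
  set ψ : MulAut M24 := MulAut.conj g * φ with hψ
  have h4 := comm_of_conj (p := 11) (by norm_num) (s := (⟨eT, mem_T⟩ : M24)) (t := ⟨eW, mem_W⟩) (a := 10) (e := 1)
    (by rw [Subgroup.orderOf_mk, ord_T]) (Subtype.ext rel_WT) ψ (by norm_num) (by rw [h2, pow_one])
  obtain ⟨i, hi, h5⟩ := cent_T (((⟨eW, mem_W⟩ : M24))⁻¹ * ψ ⟨eW, mem_W⟩).2 (congrArg Subtype.val h4)
  have h6 : ψ ⟨eW, mem_W⟩ = ⟨eW, mem_W⟩ * ⟨eT, mem_T⟩ ^ i := by
    have : ((⟨eW, mem_W⟩ : M24))⁻¹ * ψ ⟨eW, mem_W⟩ = ⟨eT, mem_T⟩ ^ i := Subtype.ext h5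
    rw [← this, mul_inv_cancel_left]
  have h7 : (⟨eW, mem_W⟩ : M24) * ⟨eV, mem_V⟩ = ⟨eV, mem_V⟩ * ⟨eW, mem_W⟩ := Subtype.ext rel_WV
  have h8 := congrArg ψ h7
  rw [map_mul, map_mul, h6, h3] at h8
  have h9 : eW * eT ^ i * eV = eV * (eW * eT ^ i) := congrArg Subtype.val h8
  have key : (List.range 11).all (fun i => !(comp (comp lW (powl lT i)) lV == comp lV (comp lW (powl lT i))) ||
    Nat.beq i 0) = true := by decide +kernel
  have h10 := List.all_eq_true.1 key i (List.mem_range.2 hi)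
  have h11 := beq_of_reps (rep_mul (rep_mul rep_W (rep_powl rep_T i)) rep_V)
    (rep_mul rep_V (rep_mul rep_W (rep_powl rep_T i))) h9
  rw [h11] at h10
  simp only [Bool.not_true, Bool.false_or] at h10
  have hi0 : i = 0 := Nat.eq_of_beq_eq_true h10
  subst hi0
  rw [pow_zero, mul_one] at h6
  have : ψ = 1 := eq_one_of_fix _ (fun K hK h =>
    eq_M24 hK (h _ h1) (h _ h2) (h _ h3) (h _ h6))
  rw [this]
  exact one_mem _

/-! ### M11 -/

theorem M12_le : Spor.M12 ≤ M24 := inf_le_left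
theorem M11_le : Spor.M11 ≤ Spor.M12 := inf_le_left
theorem M22_le : Spor.M22 ≤ M24 := inf_le_left.trans inf_le_left

theorem out_M11 (φ : MulAut Spor.M11) : φ ∈ Cfsg.Inn Spor.M11 := by
  obtain ⟨g, e, he, h1, h2⟩ := norm_TV (M11_le.trans M12_le) T_mem11 V_mem11 (by rw [card_M11]; norm_num) φ
  apply inn_of_conj_mul g
  set ψ : MulAut Spor.M11 := MulAut.conj g * φ with hψ
  have h4 := comm_of_conj (p := 5) (by norm_num) (s := (⟨eV, V_mem11⟩ : Spor.M11)) (t := ⟨eU, U_mem11⟩) (a := 2)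
    (e := 1) (by rw [Subgroup.orderOf_mk, ord_V]) (Subtype.ext rel_UV) ψ (by norm_num) (by rw [h2, pow_one])
  obtain ⟨i, hi, h5⟩ := cent_V12 (M11_le (((⟨eU, U_mem11⟩ : Spor.M11))⁻¹ * ψ ⟨eU, U_mem11⟩).2) (congrArg Subtype.val h4)
  have h5' : (((((⟨eU, U_mem11⟩ : Spor.M11))⁻¹ * ψ ⟨eU, U_mem11⟩ : Spor.M11)) : Equiv.Perm GolayPt) = eV ^ i := by
    rcases h5 with h5 | h5
    · exact h5
    · exfalso
      have h6 := (((⟨eU, U_mem11⟩ : Spor.M11))⁻¹ * ψ ⟨eU, U_mem11⟩).2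
      rw [h5] at h6
      have h7 : (eV ^ i * eZ) (pt 0) = pt 0 := h6.2
      rw [(rep_mul (rep_powl rep_V i) rep_Z).apply_pt (by norm_num)] at h7
      have key : (List.range 5).all (fun i => Nat.beq ((comp (powl lV i) lZ).getD 0 0) 3) = true := by decide +kernel
      have h8 := Nat.eq_of_beq_eq_true (List.all_eq_true.1 key i (List.mem_range.2 hi))
      rw [h8, pt_inj (by norm_num) (by norm_num)] at h7
      exact absurd h7 (by norm_num)
  have h6 : ψ ⟨eU, U_mem11⟩ = ⟨eU, U_mem11⟩ * ⟨eV, V_mem11⟩ ^ i := by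
    have : ((⟨eU, U_mem11⟩ : Spor.M11))⁻¹ * ψ ⟨eU, U_mem11⟩ = ⟨eV, V_mem11⟩ ^ i := Subtype.ext h5'
    rw [← this, mul_inv_cancel_left]
  have h7 : ((⟨eT, T_mem11⟩ : Spor.M11) * ⟨eU, U_mem11⟩ * ⟨eV, V_mem11⟩) ^ 5 = 1 := Subtype.ext rel_TUV
  have h8 := congrArg ψ h7
  rw [map_pow, map_mul, map_mul, map_one, h1, h6, h2] at h8
  have h9 : (eT ^ e * (eU * eV ^ i) * eV) ^ 5 = 1 := congrArg Subtype.val h8
  have key : (List.range 5).all (fun i => [1, 10].all fun e =>
      !(powl (comp (comp (powl lT e) (comp lU (powl lV i))) lV) 5 == List.range 24) ||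
        (Nat.beq i 0 && Nat.beq e 1)) = true := by decide +kernel
  have h10 := List.all_eq_true.1 (List.all_eq_true.1 key i (List.mem_range.2 hi)) e (by simpa using he)
  have h11 := beq_of_reps (rep_powl (rep_mul (rep_mul (rep_powl rep_T e) (rep_mul rep_U (rep_powl rep_V i)))
    rep_V) 5) rep_one h9
  rw [h11] at h10
  simp only [Bool.not_true, Bool.false_or, Bool.and_eq_true] at h10
  have hi0 : i = 0 := Nat.eq_of_beq_eq_true h10.1
  have he1 : e = 1 := Nat.eq_of_beq_eq_true h10.2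
  subst hi0 he1
  rw [pow_zero, mul_one] at h6
  rw [pow_one] at h1
  have : ψ = 1 := eq_one_of_fix _ (fun K hK h => eq_M11 hK (h _ h1) (h _ h2) (h _ h6))
  rw [this]
  exact one_mem _

/-! ### M22 -/

theorem rigid_M22 (ψ : MulAut Spor.M22) (h1 : ψ ⟨eT, T_mem22⟩ = ⟨eT, T_mem22⟩)
    (h2 : ψ ⟨eV, V_mem22⟩ = ⟨eV, V_mem22⟩) : ψ = 1 := by
  have h4 := comm_of_conj (p := 5) (by norm_num) (s := (⟨eV, V_mem22⟩ : Spor.M22)) (t := ⟨eX, X_mem22⟩) (a := 2)
    (e := 1) (by rw [Subgroup.orderOf_mk, ord_V]) (Subtype.ext rel_XV) ψ (by norm_num) (by rw [h2, pow_one])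
  obtain ⟨i, hi, h5⟩ := cent_V22 (((⟨eX, X_mem22⟩ : Spor.M22))⁻¹ * ψ ⟨eX, X_mem22⟩).2 (congrArg Subtype.val h4)
  have h6 : ψ ⟨eX, X_mem22⟩ = ⟨eX, X_mem22⟩ * ⟨eV, V_mem22⟩ ^ i := by
    have : ((⟨eX, X_mem22⟩ : Spor.M22))⁻¹ * ψ ⟨eX, X_mem22⟩ = ⟨eV, V_mem22⟩ ^ i := Subtype.ext h5
    rw [← this, mul_inv_cancel_left]
  have h7 : ((⟨eT, T_mem22⟩ : Spor.M22) * ⟨eX, X_mem22⟩) ^ 11 = 1 := Subtype.ext rel_TX
  have h8 := congrArg ψ h7
  rw [map_pow, map_mul, map_one, h1, h6] at h8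
  have h9 : (eT * (eX * eV ^ i)) ^ 11 = 1 := congrArg Subtype.val h8
  have key : (List.range 5).all (fun i =>
      !(powl (comp lT (comp lX (powl lV i))) 11 == List.range 24) || Nat.beq i 0) = true := by decide +kernel
  have h10 := List.all_eq_true.1 key i (List.mem_range.2 hi)
  have h11 := beq_of_reps (rep_powl (rep_mul rep_T (rep_mul rep_X (rep_powl rep_V i))) 11) rep_one h9
  rw [h11] at h10
  simp only [Bool.not_true, Bool.false_or] at h10
  have hi0 : i = 0 := Nat.eq_of_beq_eq_true h10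
  subst hi0
  rw [pow_zero, mul_one] at h6
  exact eq_one_of_fix _ (fun K hK h => eq_M22 hK (h _ h1) (h _ h2) (h _ h6))

/-- conjugation by an element normalizing `M` -/
def conjRes (M : Subgroup (Equiv.Perm GolayPt)) (w : Equiv.Perm GolayPt) (h : ∀ x ∈ M, w * x * w⁻¹ ∈ M)
    (h' : ∀ x ∈ M, w⁻¹ * x * w ∈ M) : MulAut M where
  toFun x := ⟨w * x * w⁻¹, h x x.2⟩
  invFun x := ⟨w⁻¹ * x * w, h' x x.2⟩
  left_inv x := Subtype.ext (by simp [mul_assoc])
  right_inv x := Subtype.ext (by simp [mul_assoc])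
  map_mul' x y := Subtype.ext (by simp [mul_assoc])

theorem W_inv : eW⁻¹ = eW := by
  have : eW * eW = 1 := eq_of_reps (rep_mul rep_W rep_W) rep_one (by decide +kernel)
  exact inv_eq_of_mul_eq_one_left this

theorem W_23 : eW (pt 23) = pt 0 := by
  rw [rep_W.apply_pt (by norm_num)]; rfl

theorem W_0 : eW (pt 0) = pt 23 := by
  rw [rep_W.apply_pt (by norm_num)]; rfl

theorem W_norm22 : ∀ x ∈ Spor.M22, eW * x * eW⁻¹ ∈ Spor.M22 := by
  intro x hx
  obtain ⟨⟨h1, h2⟩, h3⟩ := mem_M22.1 hx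
  rw [W_inv]
  refine mem_M22.2 ⟨⟨mul_mem (mul_mem mem_W h1) mem_W, ?_⟩, ?_⟩
  · rw [Equiv.Perm.mul_apply, Equiv.Perm.mul_apply, W_23, h3, W_0]
  · rw [Equiv.Perm.mul_apply, Equiv.Perm.mul_apply, W_0, h2, W_23]

/-- outer automorphism of `M22` -/
noncomputable def om22 : MulAut Spor.M22 := conjRes Spor.M22 eW W_norm22 (by
  intro x hx
  have := W_norm22 x hx
  rwa [W_inv] at this ⊢)

theorem not_inner {M : Subgroup (Equiv.Perm GolayPt)} (hM : M ≤ M24) (hT : eT ∈ M) (hW : eW ∉ M) (ω : MulAut M)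
    (hω : ω ⟨eT, hT⟩ = ⟨eT, hT⟩ ^ 10) : ω ∉ Cfsg.Inn M := by
  rintro ⟨g, hg⟩
  rw [← hg, MulAut.conj_apply] at hω
  have h1 : (g : Equiv.Perm GolayPt) * eT * (g : Equiv.Perm GolayPt)⁻¹ = eT ^ 10 := congrArg Subtype.val hω
  have h2 : ((g : Equiv.Perm GolayPt)⁻¹ * eW) * eT = eT * ((g : Equiv.Perm GolayPt)⁻¹ * eW) := by
    rw [mul_assoc, rel_WT, ← h1]
    group
  obtain ⟨i, _, h3⟩ := cent_T (mul_mem (inv_mem (hM g.2)) mem_W) h2
  apply hW
  have h4 : eW = g * eT ^ i := by rw [← h3, mul_inv_cancel_left]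
  rw [h4]
  exact mul_mem g.2 (pow_mem hT i)

theorem om22_T : om22 ⟨eT, T_mem22⟩ = ⟨eT, T_mem22⟩ ^ 10 := by
  apply Subtype.ext
  change eW * eT * eW⁻¹ = eT ^ 10
  rw [rel_WT, mul_inv_cancel_right]

theorem om22_V : om22 ⟨eV, V_mem22⟩ = ⟨eV, V_mem22⟩ := by
  apply Subtype.ext
  change eW * eV * eW⁻¹ = eV
  rw [rel_WV, mul_inv_cancel_right]

theorem two_of_rigid {M : Subgroup (Equiv.Perm GolayPt)} (hM : M ≤ M24) (hT : eT ∈ M) (hV : eV ∈ M) (hW : eW ∉ M)
    (hcard : ¬ 11 ^ 2 ∣ Nat.card M) (ω : MulAut M)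
    (hω : ω ⟨eT, hT⟩ = ⟨eT, hT⟩ ^ 10) (hωV : ω ⟨eV, hV⟩ = ⟨eV, hV⟩)
    (hrig : ∀ ψ : MulAut M, ψ ⟨eT, hT⟩ = ⟨eT, hT⟩ → ψ ⟨eV, hV⟩ = ⟨eV, hV⟩ → ψ = 1) :
    Nat.card (Cfsg.Out M) = 2 := by
  refine out_card_two ω (not_inner hM hT hW ω hω) fun φ => ?_
  obtain ⟨g, e, he, h1, h2⟩ := norm_TV hM hT hV hcard φ
  rcases he with rfl | rfl
  · left
    apply inn_of_conj_mul g
    rw [hrig _ (by rw [h1, pow_one]) h2]
    exact one_mem _
  · right
    apply inn_of_conj_mul g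
    rw [← mul_assoc]
    have h3 : (⟨eT, hT⟩ : M) ^ 11 = 1 := by
      have := pow_orderOf_eq_one (⟨eT, hT⟩ : M)
      rwa [Subgroup.orderOf_mk, ord_T] at this
    rw [hrig (MulAut.conj g * φ * ω) ?_ ?_]
    · exact one_mem _
    · rw [MulAut.mul_apply, hω, map_pow, h1, ← pow_mul]
      change (⟨eT, hT⟩ : M) ^ (11 * 9 + 1) = _
      rw [pow_add, pow_mul, h3, one_pow, one_mul, pow_one]
    · rw [MulAut.mul_apply, hωV, h2]

theorem out_M22 : Nat.card (Cfsg.Out Spor.M22) = 2 := by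
  refine two_of_rigid M22_le T_mem22 V_mem22 ?_ (by rw [card_M22]; norm_num) om22 om22_T om22_V rigid_M22
  intro h
  have h1 : eW (pt 0) = pt 0 := (mem_M22.1 h).2
  rw [W_0, pt_inj (by norm_num) (by norm_num)] at h1
  exact absurd h1 (by norm_num)

/-! ### M12 -/

theorem rigid_M12 (ψ : MulAut Spor.M12) (h1 : ψ ⟨eT, T_mem12⟩ = ⟨eT, T_mem12⟩)
    (h2 : ψ ⟨eV, V_mem12⟩ = ⟨eV, V_mem12⟩) : ψ = 1 := by
  have hVord : orderOf (⟨eV, V_mem12⟩ : Spor.M12) = 5 := by rw [Subgroup.orderOf_mk, ord_V]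
  -- the involution
  have h3 : ψ ⟨eZ, Z_mem12⟩ = ⟨eZ, Z_mem12⟩ := by
    have h4 : (⟨eZ, Z_mem12⟩ : Spor.M12) * ⟨eV, V_mem12⟩ = ⟨eV, V_mem12⟩ * ⟨eZ, Z_mem12⟩ := by
      apply Subtype.ext
      have := rel_ZV
      rwa [pow_one] at this
    have h5 := congrArg ψ h4
    rw [map_mul, map_mul, h2] at h5
    obtain ⟨i, hi, h6⟩ := cent_V12 (ψ ⟨eZ, Z_mem12⟩).2 (congrArg Subtype.val h5)
    have h7 : (⟨eZ, Z_mem12⟩ : Spor.M12) ^ 2 = 1 := by
      apply Subtype.ext
      exact eq_of_reps (rep_powl rep_Z 2) rep_one (by decide +kernel)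
    have h8 : (⟨eZ, Z_mem12⟩ : Spor.M12) ≠ 1 := by
      intro h
      exact ne_of_reps rep_Z rep_one (by decide +kernel) (congrArg Subtype.val h)
    have h9 : ((ψ ⟨eZ, Z_mem12⟩ : Spor.M12) : Equiv.Perm GolayPt) ^ 2 = 1 := by
      have := congrArg ψ h7
      rw [map_pow, map_one] at this
      exact congrArg Subtype.val this
    have h10 : ((ψ ⟨eZ, Z_mem12⟩ : Spor.M12) : Equiv.Perm GolayPt) ≠ 1 := by
      intro h
      apply h8
      apply ψ.injective
      rw [map_one]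
      exact Subtype.ext h
    rcases h6 with h6 | h6
    · exfalso
      rw [h6] at h9 h10
      have key : (List.range 5).all (fun i => !(powl (powl lV i) 2 == List.range 24) ||
        (powl lV i == List.range 24)) = true := by decide +kernel
      have h11 := List.all_eq_true.1 key i (List.mem_range.2 hi)
      rw [beq_of_reps (rep_powl (rep_powl rep_V i) 2) rep_one h9] at h11
      simp only [Bool.not_true, Bool.false_or] at h11
      exact h10 (eq_of_reps (rep_powl rep_V i) rep_one h11)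
    · apply Subtype.ext
      rw [h6] at h9 h10 ⊢
      have key : (List.range 5).all (fun i => !(powl (comp (powl lV i) lZ) 2 == List.range 24) ||
        Nat.beq i 0) = true := by decide +kernel
      have h11 := List.all_eq_true.1 key i (List.mem_range.2 hi)
      rw [beq_of_reps (rep_powl (rep_mul (rep_powl rep_V i) rep_Z) 2) rep_one h9] at h11
      simp only [Bool.not_true, Bool.false_or] at h11
      rw [Nat.eq_of_beq_eq_true h11, pow_zero, one_mul]
  have h4 := comm_of_conj (p := 5) (by norm_num) (s := (⟨eV, V_mem12⟩ : Spor.M12)) (t := ⟨eU, U_mem12⟩) (a := 2)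
    (e := 1) hVord (Subtype.ext rel_UV) ψ (by norm_num) (by rw [h2, pow_one])
  obtain ⟨i, hi, h5⟩ := cent_V12 (((⟨eU, U_mem12⟩ : Spor.M12))⁻¹ * ψ ⟨eU, U_mem12⟩).2 (congrArg Subtype.val h4)
  have h7 : ((⟨eT, T_mem12⟩ : Spor.M12) * ⟨eU, U_mem12⟩ * ⟨eV, V_mem12⟩) ^ 5 = 1 := Subtype.ext rel_TUV
  have h8 := congrArg ψ h7
  rw [map_pow, map_mul, map_mul, map_one, h1, h2] at h8
  have h9 : (eT * ((ψ ⟨eU, U_mem12⟩ : Spor.M12) : Equiv.Perm GolayPt) * eV) ^ 5 = 1 := congrArg Subtype.val h8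
  have h6 : ψ ⟨eU, U_mem12⟩ = ⟨eU, U_mem12⟩ := by
    rcases h5 with h5 | h5
    · have h6 : ((ψ ⟨eU, U_mem12⟩ : Spor.M12) : Equiv.Perm GolayPt) = eU * eV ^ i := by
        have : eU⁻¹ * ((ψ ⟨eU, U_mem12⟩ : Spor.M12) : Equiv.Perm GolayPt) = eV ^ i := h5
        rw [← this, mul_inv_cancel_left]
      rw [h6] at h9
      have key : (List.range 5).all (fun i =>
          !(powl (comp (comp lT (comp lU (powl lV i))) lV) 5 == List.range 24) || Nat.beq i 0) = true := by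
        decide +kernel
      have h11 := List.all_eq_true.1 key i (List.mem_range.2 hi)
      rw [beq_of_reps (rep_powl (rep_mul (rep_mul rep_T (rep_mul rep_U (rep_powl rep_V i))) rep_V) 5) rep_one h9] at h11
      simp only [Bool.not_true, Bool.false_or] at h11
      apply Subtype.ext
      rw [h6, Nat.eq_of_beq_eq_true h11, pow_zero, mul_one]
    · exfalso
      have h6 : ((ψ ⟨eU, U_mem12⟩ : Spor.M12) : Equiv.Perm GolayPt) = eU * (eV ^ i * eZ) := by
        have : eU⁻¹ * ((ψ ⟨eU, U_mem12⟩ : Spor.M12) : Equiv.Perm GolayPt) = eV ^ i * eZ := h5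
        rw [← this, mul_inv_cancel_left]
      rw [h6] at h9
      have key : (List.range 5).all (fun i =>
          !(powl (comp (comp lT (comp lU (comp (powl lV i) lZ))) lV) 5 == List.range 24)) = true := by
        decide +kernel
      have h11 := List.all_eq_true.1 key i (List.mem_range.2 hi)
      rw [beq_of_reps (rep_powl (rep_mul (rep_mul rep_T (rep_mul rep_U (rep_mul (rep_powl rep_V i) rep_Z))) rep_V) 5)
        rep_one h9] at h11
      exact absurd h11 (by decide)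
  exact eq_one_of_fix _ (fun K hK h => eq_M12 hK (h _ h1) (h _ h2) (h _ h6) (h _ h3))

theorem W_dod : eW • ofMask sqM = (ofMask sqM)ᶜ := by
  rw [rep_W.smul_ofMask, ← ofMask_compl]
  have : act lW sqM = sqM ^^^ 16777215 := by decide +kernel
  rw [this]

theorem W_norm12 : ∀ x ∈ Spor.M12, eW * x * eW⁻¹ ∈ Spor.M12 := by
  intro x hx
  obtain ⟨h1, h2⟩ := mem_M12.1 hx
  refine mem_M12.2 ⟨mul_mem (mul_mem mem_W h1) (inv_mem mem_W), ?_⟩
  have h3 : x • (ofMask sqM)ᶜ = (ofMask sqM)ᶜ := by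
    ext p
    rw [← Finset.inv_smul_mem_iff, Finset.mem_compl, Finset.mem_compl, Finset.inv_smul_mem_iff, h2]
  rw [mul_smul, mul_smul, W_inv, W_dod, h3, ← W_dod, ← mul_smul]
  have : eW * eW = 1 := eq_of_reps (rep_mul rep_W rep_W) rep_one (by decide +kernel)
  rw [this, one_smul]

/-- outer automorphism of `M12` -/
noncomputable def om12 : MulAut Spor.M12 := conjRes Spor.M12 eW W_norm12 (by
  intro x hx
  have := W_norm12 x hx
  rwa [W_inv] at this ⊢)

theorem om12_T : om12 ⟨eT, T_mem12⟩ = ⟨eT, T_mem12⟩ ^ 10 := by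
  apply Subtype.ext
  change eW * eT * eW⁻¹ = eT ^ 10
  rw [rel_WT, mul_inv_cancel_right]

theorem om12_V : om12 ⟨eV, V_mem12⟩ = ⟨eV, V_mem12⟩ := by
  apply Subtype.ext
  change eW * eV * eW⁻¹ = eV
  rw [rel_WV, mul_inv_cancel_right]

theorem out_M12 : Nat.card (Cfsg.Out Spor.M12) = 2 := by
  refine two_of_rigid M12_le T_mem12 V_mem12 ?_ (by rw [card_M12]; norm_num) om12 om12_T om12_V rigid_M12
  intro h
  have h1 := (mem_M12.1 h).2
  rw [W_dod] at h1
  have h2 : pt 0 ∈ ofMask sqM := by rw [mem_ofMask]; decide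
  have h3 := h2
  rw [← h1, Finset.mem_compl] at h3
  exact h3 h2

end Cfsg.Agent.H14.M24Out
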