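import Mathlib

set_option autoImplicit false

/-!
Sylow 2-subgroups of symmetric and alternating groups are self-normalizing
(`Perm (Fin n)` for every n, `alternatingGroup (Fin n)` for n ≥ 6).
-/

namespace Cfsg.Agent.H14.SylowSym

open Equiv Equiv.Perm
open scoped Nat

/-! ### General lemmas -/

theorem perm_apply_inv {α : Type*} (g : Perm α) (x : α) : g (g⁻¹ x) = x := g.apply_symm_apply x

theorem perm_inv_apply {α : Type*} (g : Perm α) (x : α) : g⁻¹ (g x) = x := g.symm_apply_apply x

/-- A p-subgroup is conjugate into any subgroup of index prime to p. -/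
theorem exists_conj_le {G : Type*} [Group G] [Finite G] {p : ℕ} [Fact p.Prime] (P W : Subgroup G)
    (hP : IsPGroup p P) (hW : ¬ p ∣ W.index) : ∃ g : G, ∀ x ∈ P, g⁻¹ * x * g ∈ W := by
  have h1 : ¬ p ∣ Nat.card (G ⧸ W) := hW
  obtain ⟨q, hq⟩ := hP.nonempty_fixed_point_of_prime_not_dvd_card (G ⧸ W) h1
  obtain ⟨g, rfl⟩ := QuotientGroup.mk_surjective q
  refine ⟨g, fun x hx => ?_⟩
  have h2 := hq ⟨x, hx⟩
  have h3 : (QuotientGroup.mk (x * g) : G ⧸ W) = QuotientGroup.mk g := h2
  have h4 := QuotientGroup.eq.1 h3.symm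
  simpa [mul_assoc] using h4

/-- All Sylow 2-subgroups are self-normalizing. -/
def SN (G : Type*) [Group G] : Prop :=
  ∀ Q : Sylow 2 G, Subgroup.normalizer ((Q : Subgroup G) : Set G) = (Q : Subgroup G)

theorem SN_congr {G H : Type*} [Group G] [Group H] [Finite G] (e : G ≃* H) (h : SN G) : SN H := by
  intro Q
  have : Finite H := Finite.of_equiv G e.toEquiv
  obtain ⟨P, hP⟩ := Sylow.mapSurjective_surjective (f := e.toMonoidHom) e.surjective 2 Q
  have hPQ : (Q : Subgroup H) = (P : Subgroup G).map e.toMonoidHom := by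
    rw [← hP]; rfl
  have h1 := h P
  apply le_antisymm
  · intro x hx
    obtain ⟨y, rfl⟩ := e.surjective x
    have : y ∈ Subgroup.normalizer ((P : Subgroup G) : Set G) := by
      rw [Subgroup.mem_normalizer_iff] at hx ⊢
      intro z
      have h2 := hx (e z)
      rw [hPQ] at h2
      have h3 : e z ∈ (P : Subgroup G).map e.toMonoidHom ↔ z ∈ (P : Subgroup G) := by
        constructor
        · rintro ⟨w, hw, hw'⟩
          have : w = z := e.injective hw'
          rwa [← this]
        · intro hz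
          exact ⟨z, hz, rfl⟩
      have h4 : e y * e z * (e y)⁻¹ ∈ (P : Subgroup G).map e.toMonoidHom ↔ y * z * y⁻¹ ∈ (P : Subgroup G) := by
        rw [← map_mul, ← map_inv, ← map_mul]
        constructor
        · rintro ⟨w, hw, hw'⟩
          have : w = y * z * y⁻¹ := e.injective hw'
          rwa [← this]
        · intro hz
          exact ⟨_, hz, rfl⟩
      rw [h3, h4] at h2
      exact h2
    rw [h1] at this
    rw [hPQ]
    exact ⟨y, this, rfl⟩
  · exact Subgroup.le_normalizer

open scoped Pointwise in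
/-- It suffices to check one Sylow subgroup. -/
theorem SN_of_one {G : Type*} [Group G] [Finite G] (Q : Sylow 2 G)
    (h : Subgroup.normalizer ((Q : Subgroup G) : Set G) = (Q : Subgroup G)) : SN G := by
  intro R
  obtain ⟨g, rfl⟩ := MulAction.exists_smul_eq G Q R
  apply le_antisymm
  · intro x hx
    replace hx := Sylow.smul_eq_iff_mem_normalizer.2 hx
    have h1 : (g⁻¹ * x * g) • Q = Q := by
      rw [mul_smul, mul_smul, hx, inv_smul_smul]
    replace h1 := Sylow.smul_eq_iff_mem_normalizer.1 h1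
    change _ ∈ Subgroup.normalizer ((Q : Subgroup G) : Set G) at h1
    rw [h] at h1
    rw [Sylow.coe_subgroup_smul, Subgroup.mem_pointwise_smul_iff_inv_smul_mem]
    rw [MulAut.smul_def, MulAut.conj_inv_apply]
    exact h1
  · exact Subgroup.le_normalizer

/-! ### The pairing -/

/-- m pairs and r further points -/
abbrev Pt (m r : ℕ) : Type := (Fin m × Bool) ⊕ Fin r

/-- The pairing involution -/
def tau (m r : ℕ) : Perm (Pt m r) :=
  Equiv.sumCongr (Equiv.prodCongr (Equiv.refl _) Equiv.boolNot) (Equiv.refl _)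

@[simp] theorem tau_inl (m r : ℕ) (i : Fin m) (b : Bool) : tau m r (Sum.inl (i, b)) = Sum.inl (i, !b) := rfl

@[simp] theorem tau_inr (m r : ℕ) (i : Fin r) : tau m r (Sum.inr i) = Sum.inr i := rfl

theorem tau_tau (m r : ℕ) (x : Pt m r) : tau m r (tau m r x) = x := by
  rcases x with ⟨i, b⟩ | i <;> simp

theorem tau_ne (m r : ℕ) (i : Fin m) (b : Bool) : tau m r (Sum.inl (i, b)) ≠ Sum.inl (i, b) := by
  rw [tau_inl]
  intro h
  have h2 := congrArg (fun z : Pt m r => match z with | Sum.inl (_, c) => c | Sum.inr _ => true) h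
  simp at h2

theorem exists_inl_of_tau_ne {m r : ℕ} {x : Pt m r} (h : tau m r x ≠ x) :
    ∃ i b, x = Sum.inl (i, b) := by
  rcases x with ⟨i, b⟩ | i
  · exact ⟨i, b, rfl⟩
  · exact absurd (tau_inr m r i) h

theorem eq_of_tau_fix {m r : ℕ} (hr : r ≤ 1) {x y : Pt m r} (hx : tau m r x = x)
    (hy : tau m r y = y) : x = y := by
  rcases x with ⟨i, b⟩ | i
  · exact absurd hx (tau_ne m r i b)
  rcases y with ⟨j, c⟩ | j
  · exact absurd hy (tau_ne m r j c)
  have := i.2; have := j.2
  congr 1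
  apply Fin.ext
  omega

/-- the centralizer of the pairing -/
abbrev W (m r : ℕ) : Subgroup (Perm (Pt m r)) := Subgroup.centralizer {tau m r}

theorem mem_W {m r : ℕ} {g : Perm (Pt m r)} : g ∈ W m r ↔ ∀ x, g (tau m r x) = tau m r (g x) := by
  rw [Subgroup.mem_centralizer_singleton_iff]
  constructor
  · intro h x
    have := congrArg (fun f : Perm (Pt m r) => f x) h
    simpa using this
  · intro h
    ext1 x
    simpa using h x

theorem cycleType_tau (m r : ℕ) : (tau m r).cycleType = Multiset.replicate m 2 := by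
  have hsupp : (tau m r).support.card = 2 * m := by
    have : (tau m r).support = (Finset.univ : Finset (Fin m × Bool)).map Function.Embedding.inl := by
      ext x
      rw [Equiv.Perm.mem_support, Finset.mem_map]
      constructor
      · intro h
        obtain ⟨i, b, rfl⟩ := exists_inl_of_tau_ne h
        exact ⟨(i, b), Finset.mem_univ _, rfl⟩
      · rintro ⟨⟨i, b⟩, _, rfl⟩
        exact tau_ne m r i b
    rw [this, Finset.card_map, Finset.card_univ, Fintype.card_prod, Fintype.card_fin, Fintype.card_bool, mul_comm]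
  rcases Nat.eq_zero_or_pos m with h0 | h0
  · subst h0
    have : tau 0 r = 1 := by
      ext1 x
      rcases x with ⟨i, b⟩ | i
      · exact i.elim0
      · rfl
    rw [this]; simp
  · have hne : tau m r ≠ 1 := by
      intro h
      have := congrArg (fun f : Perm (Pt m r) => f (Sum.inl (⟨0, h0⟩, true))) h
      exact tau_ne m r _ _ this
    have hord : orderOf (tau m r) = 2 := by
      rw [orderOf_eq_prime_iff]
      refine ⟨?_, hne⟩
      ext1 x
      rw [pow_two, Perm.mul_apply, tau_tau]; rfl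
    obtain ⟨k, hk⟩ := Equiv.Perm.cycleType_prime_order (σ := tau m r) (by rw [hord]; norm_num)
    have h1 := Equiv.Perm.sum_cycleType (tau m r)
    rw [hk, hsupp, hord, Multiset.sum_replicate, smul_eq_mul] at h1
    rw [hk, hord]
    congr 1
    omega

theorem odd_dd (k : ℕ) : Odd (2 * k + 1)‼ := by
  induction k with
  | zero => decide
  | succ k ih =>
    have : 2 * (k + 1) + 1 = (2 * k + 1) + 2 := by ring
    rw [this, Nat.doubleFactorial_add_two]
    exact Nat.odd_mul.2 ⟨⟨k + 1, by ring⟩, ih⟩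

theorem card_W (m r : ℕ) (hr : r ≤ 1) : Nat.card (W m r) = 2 ^ m * m ! := by
  rw [Equiv.Perm.nat_card_centralizer, cycleType_tau]
  have h1 : Fintype.card (Pt m r) = 2 * m + r := by
    simp [Pt, Fintype.card_sum, mul_comm]
  rw [h1, Multiset.sum_replicate, smul_eq_mul, Multiset.prod_replicate]
  have h2 : (2 * m + r - m * 2)! = 1 := by
    have : 2 * m + r - m * 2 = r := by omega
    rw [this]
    interval_cases r <;> rfl
  rw [h2, one_mul]
  congr 1
  rcases Nat.eq_zero_or_pos m with h0 | h0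
  · subst h0; simp
  · rw [Multiset.toFinset_replicate, if_neg (by omega)]
    simp

theorem card_perm_Pt (m r : ℕ) : Nat.card (Perm (Pt m r)) = (2 * m + r)! := by
  rw [Nat.card_eq_fintype_card, Fintype.card_perm]
  congr 1
  simp [Pt, Fintype.card_sum, mul_comm]

theorem index_W (m r : ℕ) (hr : r ≤ 1) : Odd (W m r).index := by
  have h1 := (W m r).card_mul_index
  rw [card_W m r hr, card_perm_Pt] at h1
  have hpos : 0 < 2 ^ m * m ! := by positivity
  rcases Nat.eq_zero_or_pos m with h0 | h0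
  · subst h0
    have h3 : (2 * 0 + r)! = 1 := by interval_cases r <;> rfl
    rw [h3, pow_zero, Nat.factorial_zero, one_mul, one_mul] at h1
    rw [h1]; decide
  obtain ⟨k, rfl⟩ : ∃ k, m = k + 1 := ⟨m - 1, by omega⟩
  interval_cases r
  · have h2 : (2 * (k + 1) + 0)! = (2 * (k + 1))‼ * (2 * k + 1)‼ := by
      exact Nat.factorial_eq_mul_doubleFactorial (2 * k + 1)
    rw [h2, Nat.doubleFactorial_two_mul] at h1
    have h3 := Nat.eq_of_mul_eq_mul_left hpos h1
    rw [h3]; exact odd_dd k
  · have h2 : (2 * (k + 1) + 1)! = (2 * (k + 1) + 1)‼ * (2 * (k + 1))‼ :=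
      Nat.factorial_eq_mul_doubleFactorial (2 * (k + 1))
    rw [h2, Nat.doubleFactorial_two_mul, mul_comm ((2 * (k + 1) + 1)‼)] at h1
    have h3 := Nat.eq_of_mul_eq_mul_left hpos h1
    rw [h3]; exact odd_dd (k + 1)

/-! ### The action on the pairs -/

/-- the pair containing the image of pair `i` -/
def act {m r : ℕ} (g : Perm (Pt m r)) (i : Fin m) : Fin m :=
  match g (Sum.inl (i, true)) with
  | Sum.inl (j, _) => j
  | Sum.inr _ => i

theorem act_spec {m r : ℕ} {g : Perm (Pt m r)} (hg : g ∈ W m r) (i : Fin m) (b : Bool) :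
    ∃ b', g (Sum.inl (i, b)) = Sum.inl (act g i, b') := by
  rw [mem_W] at hg
  have h1 : ∃ b', g (Sum.inl (i, true)) = Sum.inl (act g i, b') := by
    have h2 : tau m r (g (Sum.inl (i, true))) ≠ g (Sum.inl (i, true)) := by
      rw [← hg]
      intro h
      exact tau_ne m r i true (g.injective h)
    obtain ⟨j, c, hjc⟩ := exists_inl_of_tau_ne h2
    refine ⟨c, ?_⟩
    rw [hjc]
    unfold act
    rw [hjc]
  obtain ⟨b', hb'⟩ := h1
  cases b
  · refine ⟨!b', ?_⟩
    have h3 : (Sum.inl (i, false) : Pt m r) = tau m r (Sum.inl (i, true)) := by simp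
    rw [h3, hg, hb', tau_inl]
  · exact ⟨b', hb'⟩

theorem act_eq_of {m r : ℕ} {g : Perm (Pt m r)} (hg : g ∈ W m r) {i j : Fin m} {b b' : Bool}
    (h : g (Sum.inl (i, b)) = Sum.inl (j, b')) : act g i = j := by
  obtain ⟨c, hc⟩ := act_spec hg i b
  rw [hc] at h
  have := Sum.inl_injective h
  exact (Prod.mk.inj this).1

theorem act_mul {m r : ℕ} {g h : Perm (Pt m r)} (hg : g ∈ W m r) (hh : h ∈ W m r) (i : Fin m) :
    act (g * h) i = act g (act h i) := by
  obtain ⟨c, hc⟩ := act_spec hh i true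
  obtain ⟨d, hd⟩ := act_spec hg (act h i) c
  exact act_eq_of (mul_mem hg hh) (b := true) (b' := d) (by rw [Perm.mul_apply, hc, hd])

theorem act_one {m r : ℕ} (i : Fin m) : act (1 : Perm (Pt m r)) i = i := rfl

/-- the action of `W` on the pairs, as a homomorphism -/
def phi (m r : ℕ) : W m r →* Perm (Fin m) where
  toFun g :=
    { toFun := act (g : Perm (Pt m r))
      invFun := act ((g : Perm (Pt m r))⁻¹)
      left_inv := fun i => by
        rw [← act_mul (inv_mem g.2) g.2, inv_mul_cancel, act_one]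
      right_inv := fun i => by
        rw [← act_mul g.2 (inv_mem g.2), mul_inv_cancel, act_one] }
  map_one' := by ext1 i; rfl
  map_mul' g h := by ext1 i; exact act_mul g.2 h.2 i

theorem phi_apply {m r : ℕ} (g : W m r) (i : Fin m) : phi m r g i = act (g : Perm (Pt m r)) i := rfl

/-- lift of a permutation of the pairs -/
def lift (m r : ℕ) (σ : Perm (Fin m)) : Perm (Pt m r) :=
  Equiv.sumCongr (Equiv.prodCongr σ (Equiv.refl _)) (Equiv.refl _)

theorem lift_mem (m r : ℕ) (σ : Perm (Fin m)) : lift m r σ ∈ W m r := by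
  rw [mem_W]
  rintro (⟨i, b⟩ | i) <;> rfl

theorem act_lift (m r : ℕ) (σ : Perm (Fin m)) (i : Fin m) : act (lift m r σ) i = σ i := rfl

theorem phi_surjective (m r : ℕ) : Function.Surjective (phi m r) := by
  intro σ
  exact ⟨⟨lift m r σ, lift_mem m r σ⟩, by ext1 i; rfl⟩

/-! ### The base group -/

/-- the permutations fixing every pair -/
def Bgp (m r : ℕ) : Subgroup (Perm (Pt m r)) where
  carrier := {g | ∀ x, g x = x ∨ g x = tau m r x}
  one_mem' := fun x => Or.inl rfl
  mul_mem' {g h} hg hh x := by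
    rcases hh x with h1 | h1 <;> rw [Perm.mul_apply, h1]
    · exact hg x
    · rcases hg (tau m r x) with h2 | h2
      · exact Or.inr h2
      · left; rw [h2, tau_tau]
  inv_mem' {g} hg x := by
    rcases hg (g⁻¹ x) with h1 | h1 <;> rw [perm_apply_inv] at h1
    · exact Or.inl h1.symm
    · right
      rw [h1, tau_tau, ← h1]

theorem mem_Bgp {m r : ℕ} {g : Perm (Pt m r)} : g ∈ Bgp m r ↔ ∀ x, g x = x ∨ g x = tau m r x := Iff.rfl

theorem Bgp_sq {m r : ℕ} {g : Perm (Pt m r)} (hg : g ∈ Bgp m r) : g * g = 1 := by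
  ext1 x
  rw [Perm.mul_apply, Perm.one_apply]
  rcases hg x with h1 | h1
  · rw [h1, h1]
  · rcases hg (tau m r x) with h2 | h2
    · have : tau m r x = x := g.injective (by rw [h2, h1])
      rw [h1, h2, this]
    · rw [h1, h2, tau_tau]

theorem Bgp_isPGroup (m r : ℕ) : IsPGroup 2 (Bgp m r) := by
  intro g
  refine ⟨1, ?_⟩
  apply Subtype.ext
  rw [pow_one, pow_two]
  exact Bgp_sq g.2

theorem Bgp_conj {m r : ℕ} {g w : Perm (Pt m r)} (hg : g ∈ Bgp m r) (hw : w ∈ W m r) :
    w * g * w⁻¹ ∈ Bgp m r := by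
  intro x
  rw [Perm.mul_apply, Perm.mul_apply]
  rcases hg (w⁻¹ x) with h1 | h1
  · left; rw [h1, perm_apply_inv]
  · right; rw [h1, mem_W.1 hw, perm_apply_inv]

theorem W_le_normalizer (m r : ℕ) : W m r ≤ Subgroup.normalizer ((Bgp m r : Subgroup (Perm (Pt m r))) : Set (Perm (Pt m r))) := by
  intro w hw
  rw [Subgroup.mem_normalizer_iff]
  intro g
  constructor
  · exact fun h => Bgp_conj h hw
  · intro h
    have := Bgp_conj h (inv_mem hw)
    simpa [mul_assoc] using this

theorem swap_mem_Bgp (m r : ℕ) (x : Pt m r) : Equiv.swap x (tau m r x) ∈ Bgp m r := by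
  intro y
  rcases Equiv.swap_apply_eq_iff.1 (rfl : Equiv.swap x (tau m r x) y = _) with _
  by_cases h1 : y = x
  · right; rw [h1, Equiv.swap_apply_left]
  by_cases h2 : y = tau m r x
  · right; rw [h2, Equiv.swap_apply_right, tau_tau]
  · left; exact Equiv.swap_apply_of_ne_of_ne h1 h2

theorem ker_phi_le {m r : ℕ} (hr : r ≤ 1) {g : W m r} (hg : phi m r g = 1) :
    (g : Perm (Pt m r)) ∈ Bgp m r := by
  have hact : ∀ i, act (g : Perm (Pt m r)) i = i := fun i => by
    rw [← phi_apply, hg]; rfl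
  rintro (⟨i, b⟩ | i)
  · obtain ⟨b', hb'⟩ := act_spec g.2 i b
    rw [hact] at hb'
    rw [hb', tau_inl]
    rcases Bool.eq_or_eq_not b' b with h | h
    · left; rw [h]
    · right; rw [h]
  · left
    apply eq_of_tau_fix hr
    · rw [← mem_W.1 g.2, tau_inr]
    · rfl

theorem Bgp_le_W {m r : ℕ} : Bgp m r ≤ W m r := by
  intro g hg
  rw [mem_W]
  intro x
  rcases hg x with h1 | h1
  · rcases hg (tau m r x) with h2 | h2
    · rw [h1, h2]
    · have : tau m r x = x := by
        apply g.injective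
        rw [h2, tau_tau, h1]
      rw [this, h1, this]
  · rcases hg (tau m r x) with h2 | h2
    · have : tau m r x = x := g.injective (by rw [h2, h1])
      rw [h1, this, h1, this]
    · rw [h1, h2]

/-! ### The main argument -/

theorem sylow_final {G : Type*} [Group G] [Finite G] (WW : Subgroup G) {H : Type*} [Group H]
    (f : WW →* H) (hf : Function.Surjective f) (hH : SN H) (Q : Sylow 2 G)
    (hQ : (Q : Subgroup G) ≤ WW) (hN : Subgroup.normalizer ((Q : Subgroup G) : Set G) ≤ WW)
    (hker : ∀ g : WW, f g = 1 → (g : G) ∈ (Q : Subgroup G)) :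
    Subgroup.normalizer ((Q : Subgroup G) : Set G) = (Q : Subgroup G) := by
  apply le_antisymm _ Subgroup.le_normalizer
  intro x hx
  have h1 := hH ((Q.subtype hQ).mapSurjective hf)
  have h2 : f ⟨x, hN hx⟩ ∈ Subgroup.normalizer ((((Q.subtype hQ).mapSurjective hf : Sylow 2 H) : Subgroup H) : Set H) := by
    rw [Sylow.coe_mapSurjective]
    apply Subgroup.le_normalizer_map
    refine ⟨⟨x, hN hx⟩, ?_, rfl⟩
    change _ ∈ Subgroup.normalizer _
    rw [Subgroup.mem_normalizer_iff] at hx ⊢
    intro h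
    exact hx h
  rw [h1, Sylow.coe_mapSurjective] at h2
  obtain ⟨q, hq, hqx⟩ := h2
  have h3 : f (⟨x, hN hx⟩ * q⁻¹) = 1 := by
    rw [map_mul, map_inv, hqx, mul_inv_cancel]
  have h4 := hker _ h3
  have h5 : (q : G) ∈ (Q : Subgroup G) := hq
  have h6 := mul_mem h4 h5
  simpa using h6

theorem le_sylow_of_normal {G : Type*} [Group G] {p : ℕ} (Q : Sylow p G) (B : Subgroup G)
    (hB : IsPGroup p B) (hQB : (Q : Subgroup G) ≤ Subgroup.normalizer (B : Set G)) :
    B ≤ (Q : Subgroup G) := by
  have h1 : IsPGroup p (B ⊔ (Q : Subgroup G) : Subgroup G) :=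
    IsPGroup.to_sup_of_normal_left' hB Q.isPGroup' hQB
  have h2 := Q.is_maximal' h1 le_sup_right
  rw [← h2]
  exact le_sup_left

theorem mem_W_of_nonfixed {m r : ℕ} {x : Perm (Pt m r)}
    (hx : ∀ y, tau m r y ≠ y → x (tau m r y) = tau m r (x y)) : x ∈ W m r := by
  rw [mem_W]
  intro y
  by_cases hy : tau m r y = y
  · rw [hy]
    by_contra hne
    have h1 : ((tau m r).support).map x.toEmbedding = (tau m r).support := by
      apply Finset.eq_of_subset_of_card_le
      · intro z hz
        rw [Finset.mem_map] at hz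
        obtain ⟨w, hw, rfl⟩ := hz
        rw [Equiv.Perm.mem_support] at hw ⊢
        change tau m r (x w) ≠ x w
        rw [← hx w hw]
        exact fun h => hw (x.injective h)
      · rw [Finset.card_map]
    have h2 : x y ∈ (tau m r).support := by
      rw [Equiv.Perm.mem_support]
      exact fun h => hne h.symm
    rw [← h1, Finset.mem_map] at h2
    obtain ⟨z, hz, hz'⟩ := h2
    have : z = y := x.injective hz'
    rw [this, Equiv.Perm.mem_support] at hz
    exact hz hy
  · exact hx y hy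

theorem conj_swap_eq {α : Type*} [DecidableEq α] (x : Perm α) (a b : α) :
    x * Equiv.swap a b * x⁻¹ = Equiv.swap (x a) (x b) := by
  rw [← Equiv.swap_apply_apply]

theorem eq_tau_of_swap_mem {m r : ℕ} (hr : r ≤ 1) {p q : Pt m r} (hpq : p ≠ q)
    (h : Equiv.swap p q ∈ W m r) : q = tau m r p := by
  rw [mem_W] at h
  have h1 := h p
  rw [Equiv.swap_apply_left] at h1
  by_cases h2 : tau m r p = p
  · rw [h2, Equiv.swap_apply_left] at h1
    exact absurd (eq_of_tau_fix hr h2 h1.symm) hpq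
  by_cases h3 : tau m r p = q
  · exact h3.symm
  · rw [Equiv.swap_apply_of_ne_of_ne h2 h3] at h1
    exact absurd ((tau m r).injective h1) hpq

theorem normalizer_le_W {m r : ℕ} (hr : r ≤ 1) (Q : Sylow 2 (Perm (Pt m r)))
    (hQ : (Q : Subgroup (Perm (Pt m r))) ≤ W m r) :
    Subgroup.normalizer ((Q : Subgroup (Perm (Pt m r))) : Set (Perm (Pt m r))) ≤ W m r := by
  have hB : Bgp m r ≤ (Q : Subgroup (Perm (Pt m r))) :=
    le_sylow_of_normal Q _ (Bgp_isPGroup m r) (hQ.trans (W_le_normalizer m r))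
  intro x hx
  apply mem_W_of_nonfixed
  intro y hy
  apply eq_tau_of_swap_mem hr (fun h => hy (x.injective h).symm)
  apply hQ
  rw [← conj_swap_eq]
  exact (Subgroup.mem_normalizer_iff.1 hx _).1 (hB (swap_mem_Bgp m r y))

open scoped Pointwise in
/-- Some Sylow subgroup lies in a subgroup of odd index. -/
theorem exists_sylow_le {G : Type*} [Group G] [Finite G] (WW : Subgroup G) (h : Odd WW.index) :
    ∃ Q : Sylow 2 G, (Q : Subgroup G) ≤ WW := by
  obtain ⟨Q⟩ : Nonempty (Sylow 2 G) := inferInstance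
  obtain ⟨g, hg⟩ := exists_conj_le (p := 2) (Q : Subgroup G) WW Q.isPGroup' (by
    rw [← even_iff_two_dvd]; exact Nat.not_even_iff_odd.2 h)
  refine ⟨g⁻¹ • Q, ?_⟩
  intro x hx
  rw [Sylow.coe_subgroup_smul, Subgroup.mem_pointwise_smul_iff_inv_smul_mem] at hx
  have := hg _ hx
  simpa [MulAut.smul_def, mul_assoc] using this

theorem SN_step {m r : ℕ} (hr : r ≤ 1) (ih : SN (Perm (Fin m))) : SN (Perm (Pt m r)) := by
  obtain ⟨Q, hQ⟩ := exists_sylow_le (W m r) (index_W m r hr)
  have hB : Bgp m r ≤ (Q : Subgroup (Perm (Pt m r))) :=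
    le_sylow_of_normal Q _ (Bgp_isPGroup m r) (hQ.trans (W_le_normalizer m r))
  apply SN_of_one Q
  exact sylow_final (W m r) (phi m r) (phi_surjective m r) ih Q hQ (normalizer_le_W hr Q hQ)
    (fun g hg => hB (ker_phi_le hr hg))

/-- `Fin n` as pairs plus at most one point -/
theorem exists_equiv_Pt (n : ℕ) : Nonempty (Fin n ≃ Pt (n / 2) (n % 2)) := by
  apply Fintype.card_eq.1
  simp only [Pt, Fintype.card_sum, Fintype.card_prod, Fintype.card_fin, Fintype.card_bool]
  omega

theorem SN_perm (n : ℕ) : SN (Perm (Fin n)) := by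
  induction n using Nat.strong_induction_on with
  | _ n ih =>
    rcases Nat.eq_zero_or_pos n with h0 | h0
    · subst h0
      intro Q
      have : Subsingleton (Subgroup (Perm (Fin 0))) := inferInstance
      exact Subsingleton.elim _ _
    · obtain ⟨e⟩ := exists_equiv_Pt n
      have h1 := SN_step (m := n / 2) (r := n % 2) (by omega) (ih (n / 2) (by omega))
      exact SN_congr e.symm.permCongrHom h1

/-! ### The alternating group -/

/-- `W ∩ A` inside `A` -/
abbrev WA (m r : ℕ) : Subgroup (alternatingGroup (Pt m r)) := (W m r).subgroupOf (alternatingGroup (Pt m r))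

theorem index_WA (m r : ℕ) (hm : 1 ≤ m) (hr : r ≤ 1) : Odd (WA m r).index := by
  have hA : (alternatingGroup (Pt m r)).index = 2 := by
    have : Nontrivial (Pt m r) :=
      ⟨⟨Sum.inl (⟨0, by omega⟩, true), Sum.inl (⟨0, by omega⟩, false), by simp⟩⟩
    exact alternatingGroup.index_eq_two
  have h1 : (W m r ⊓ alternatingGroup (Pt m r)).index = (WA m r).index * 2 := by
    rw [← Subgroup.relIndex_mul_index (inf_le_right : W m r ⊓ alternatingGroup (Pt m r) ≤ _), hA,
      Subgroup.inf_relIndex_right]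
    rfl
  have h2 : (W m r ⊓ alternatingGroup (Pt m r)).index =
      (alternatingGroup (Pt m r)).relIndex (W m r) * (W m r).index := by
    rw [← Subgroup.relIndex_mul_index (inf_le_left : W m r ⊓ alternatingGroup (Pt m r) ≤ _),
      Subgroup.inf_relIndex_left]
  have h3 : (alternatingGroup (Pt m r)).relIndex (W m r) ∣ 2 := by
    rw [← hA]
    exact Subgroup.relIndex_dvd_index_of_normal _ _
  have h4 := index_W m r hr
  rw [h1] at h2
  rcases (Nat.dvd_prime Nat.prime_two).1 h3 with h5 | h5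
  · rw [h5, one_mul] at h2
    rw [← h2] at h4
    exact absurd h4 (by rw [Nat.not_odd_iff_even]; exact ⟨_, by ring⟩)
  · rw [h5] at h2
    have : (WA m r).index = (W m r).index := by omega
    rw [this]; exact h4

/-- the map of `WA` to the permutations of the pairs -/
def phiA (m r : ℕ) : WA m r →* Perm (Fin m) where
  toFun g := phi m r ⟨((g : alternatingGroup (Pt m r)) : Perm (Pt m r)), g.2⟩
  map_one' := by
    rw [← map_one (phi m r)]; rfl
  map_mul' g h := by
    rw [← map_mul (phi m r)]; rfl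

theorem phiA_surjective (m r : ℕ) (hm : 1 ≤ m) : Function.Surjective (phiA m r) := by
  intro σ
  set a : Pt m r := Sum.inl (⟨0, by omega⟩, true) with ha
  have hsw : Equiv.swap a (tau m r a) ∈ W m r := Bgp_le_W (swap_mem_Bgp m r a)
  by_cases hs : Equiv.Perm.sign (lift m r σ) = 1
  · exact ⟨⟨⟨lift m r σ, hs⟩, lift_mem m r σ⟩, by ext1 i; rfl⟩
  · have hs' : Equiv.Perm.sign (lift m r σ) = -1 := (Int.units_eq_one_or _).resolve_left hs
    have hmem : lift m r σ * Equiv.swap a (tau m r a) ∈ W m r := mul_mem (lift_mem m r σ) hsw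
    have hsgn : Equiv.Perm.sign (lift m r σ * Equiv.swap a (tau m r a)) = 1 := by
      rw [map_mul, hs', Equiv.Perm.sign_swap (by rw [ha]; exact (tau_ne m r _ _).symm)]
      rfl
    refine ⟨⟨⟨lift m r σ * Equiv.swap a (tau m r a), hsgn⟩, hmem⟩, ?_⟩
    ext1 i
    change act (lift m r σ * Equiv.swap a (tau m r a)) i = σ i
    rw [act_mul (lift_mem m r σ) hsw, act_lift]
    congr 1
    rcases swap_mem_Bgp m r a (Sum.inl (i, true)) with h | h
    · exact act_eq_of hsw h
    · exact act_eq_of hsw h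

/-- `B ∩ A` inside `A` -/
abbrev BA (m r : ℕ) : Subgroup (alternatingGroup (Pt m r)) := (Bgp m r).subgroupOf (alternatingGroup (Pt m r))

theorem BA_isPGroup (m r : ℕ) : IsPGroup 2 (BA m r) := by
  intro g
  refine ⟨1, ?_⟩
  apply Subtype.ext
  apply Subtype.ext
  rw [pow_one, pow_two]
  exact Bgp_sq g.2

theorem WA_le_normalizer (m r : ℕ) : WA m r ≤ Subgroup.normalizer ((BA m r : Subgroup (alternatingGroup (Pt m r))) : Set (alternatingGroup (Pt m r))) := by
  intro w hw
  rw [Subgroup.mem_normalizer_iff]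
  intro g
  exact Subgroup.mem_normalizer_iff.1 (W_le_normalizer m r hw) (g : Perm (Pt m r))

/-- two double transpositions sharing a transposition -/
theorem eq_tau_of_two_mem {m r : ℕ} (hr : r ≤ 1) {p q u v u' v' : Pt m r} (hpq : p ≠ q)
    (hpu : p ≠ u) (hpv : p ≠ v) (hpu' : p ≠ u') (hpv' : p ≠ v')
    (huu' : u ≠ u') (huv' : u ≠ v') (hvu' : v ≠ u') (hvv' : v ≠ v')
    (h : Equiv.swap p q * Equiv.swap u v ∈ W m r)
    (h' : Equiv.swap p q * Equiv.swap u' v' ∈ W m r) : q = tau m r p := by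
  rw [mem_W] at h h'
  by_contra hne
  have hfix : tau m r p ≠ p := by
    intro h2
    have h1 := h p
    rw [h2, Perm.mul_apply, Equiv.swap_apply_of_ne_of_ne hpu hpv, Equiv.swap_apply_left] at h1
    exact hpq (eq_of_tau_fix hr h2 h1.symm)
  have key : ∀ {a b : Pt m r}, p ≠ a → p ≠ b → (∀ x, (Equiv.swap p q * Equiv.swap a b) (tau m r x) =
      tau m r ((Equiv.swap p q * Equiv.swap a b) x)) → tau m r p = a ∨ tau m r p = b := by
    intro a b ha hb hab
    by_contra hcon
    push Not at hcon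
    have h1 := hab p
    rw [Perm.mul_apply, Perm.mul_apply, Equiv.swap_apply_of_ne_of_ne ha hb, Equiv.swap_apply_left,
      Equiv.swap_apply_of_ne_of_ne hcon.1 hcon.2,
      Equiv.swap_apply_of_ne_of_ne hfix (fun h3 => hne h3.symm)] at h1
    exact hpq ((tau m r).injective h1)
  rcases key hpu hpv h with h1 | h1 <;> rcases key hpu' hpv' h' with h2 | h2
  · exact huu' (h1.symm.trans h2)
  · exact huv' (h1.symm.trans h2)
  · exact hvu' (h1.symm.trans h2)
  · exact hvv' (h1.symm.trans h2)

theorem normalizerA_le_WA {m r : ℕ} (hm : 3 ≤ m) (hr : r ≤ 1) (Q : Sylow 2 (alternatingGroup (Pt m r)))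
    (hQ : (Q : Subgroup (alternatingGroup (Pt m r))) ≤ WA m r) :
    Subgroup.normalizer ((Q : Subgroup (alternatingGroup (Pt m r))) : Set (alternatingGroup (Pt m r))) ≤ WA m r := by
  have hB : BA m r ≤ (Q : Subgroup (alternatingGroup (Pt m r))) :=
    le_sylow_of_normal Q _ (BA_isPGroup m r) (hQ.trans (WA_le_normalizer m r))
  intro x hx
  change (x : Perm (Pt m r)) ∈ W m r
  apply mem_W_of_nonfixed
  intro y hy
  obtain ⟨i, b, rfl⟩ := exists_inl_of_tau_ne hy
  -- two further pairs
  obtain ⟨j, k, hij, hik, hjk⟩ : ∃ j k : Fin m, i ≠ j ∧ i ≠ k ∧ j ≠ k := by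
    have hi := i.2
    by_cases h0 : i.val = 0
    · exact ⟨⟨1, by omega⟩, ⟨2, by omega⟩, by simp [Fin.ext_iff, h0], by simp [Fin.ext_iff, h0], by simp⟩
    by_cases h1 : i.val = 1
    · exact ⟨⟨0, by omega⟩, ⟨2, by omega⟩, by simp [Fin.ext_iff, h1], by simp [Fin.ext_iff, h1], by simp⟩
    · exact ⟨⟨0, by omega⟩, ⟨1, by omega⟩, by simp [Fin.ext_iff, h0], by simp [Fin.ext_iff, h1], by simp⟩
  have hmem : ∀ l : Fin m, i ≠ l →
      Equiv.swap ((x : Perm (Pt m r)) (Sum.inl (i, b))) ((x : Perm (Pt m r)) (tau m r (Sum.inl (i, b)))) *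
      Equiv.swap ((x : Perm (Pt m r)) (Sum.inl (l, true))) ((x : Perm (Pt m r)) (tau m r (Sum.inl (l, true)))) ∈ W m r := by
    intro l hl
    have hin : Equiv.swap (Sum.inl (i, b)) (tau m r (Sum.inl (i, b))) *
        Equiv.swap (Sum.inl (l, true)) (tau m r (Sum.inl (l, true))) ∈ Bgp m r :=
      mul_mem (swap_mem_Bgp m r _) (swap_mem_Bgp m r _)
    have hsg : Equiv.swap (Sum.inl (i, b)) (tau m r (Sum.inl (i, b))) *
        Equiv.swap (Sum.inl (l, true)) (tau m r (Sum.inl (l, true))) ∈ alternatingGroup (Pt m r) := by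
      rw [Equiv.Perm.mem_alternatingGroup, map_mul, Equiv.Perm.sign_swap (tau_ne m r _ _).symm,
        Equiv.Perm.sign_swap (tau_ne m r _ _).symm]
      rfl
    have hq : (⟨_, hsg⟩ : alternatingGroup (Pt m r)) ∈ (Q : Subgroup (alternatingGroup (Pt m r))) := hB hin
    have h1 := hQ ((Subgroup.mem_normalizer_iff.1 hx _).1 hq)
    have h2 : (x : Perm (Pt m r)) * (Equiv.swap (Sum.inl (i, b)) (tau m r (Sum.inl (i, b))) *
        Equiv.swap (Sum.inl (l, true)) (tau m r (Sum.inl (l, true)))) * (x : Perm (Pt m r))⁻¹ ∈ W m r := h1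
    have h3 : (x : Perm (Pt m r)) * (Equiv.swap (Sum.inl (i, b)) (tau m r (Sum.inl (i, b))) *
        Equiv.swap (Sum.inl (l, true)) (tau m r (Sum.inl (l, true)))) * (x : Perm (Pt m r))⁻¹ =
        ((x : Perm (Pt m r)) * Equiv.swap (Sum.inl (i, b)) (tau m r (Sum.inl (i, b))) * (x : Perm (Pt m r))⁻¹) *
        ((x : Perm (Pt m r)) * Equiv.swap (Sum.inl (l, true)) (tau m r (Sum.inl (l, true))) * (x : Perm (Pt m r))⁻¹) := by
      group
    rw [h3, conj_swap_eq, conj_swap_eq] at h2
    exact h2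
  have hinj := (x : Perm (Pt m r)).injective
  have hne : ∀ {a c : Fin m} (b d : Bool), a ≠ c →
      (x : Perm (Pt m r)) (Sum.inl (a, b)) ≠ (x : Perm (Pt m r)) (Sum.inl (c, d)) := by
    intro a c b d hac h
    have h1 := Sum.inl_injective (hinj h)
    exact hac (Prod.mk.inj h1).1
  refine eq_tau_of_two_mem hr ?_ ?_ ?_ ?_ ?_ ?_ ?_ ?_ ?_ (hmem j hij) (hmem k hik)
  · exact fun h => hy (hinj h).symm
  all_goals first | exact hne _ _ hij | exact hne _ _ hik | exact hne _ _ hjk

theorem SN_alt_Pt {m r : ℕ} (hm : 3 ≤ m) (hr : r ≤ 1) : SN (alternatingGroup (Pt m r)) := by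
  obtain ⟨Q, hQ⟩ := exists_sylow_le (WA m r) (index_WA m r (by omega) hr)
  have hB : BA m r ≤ (Q : Subgroup (alternatingGroup (Pt m r))) :=
    le_sylow_of_normal Q _ (BA_isPGroup m r) (hQ.trans (WA_le_normalizer m r))
  apply SN_of_one Q
  refine sylow_final (WA m r) (phiA m r) (phiA_surjective m r (by omega)) (SN_perm m) Q hQ
    (normalizerA_le_WA hm hr Q hQ) (fun g hg => hB ?_)
  exact ker_phi_le (g := ⟨((g : alternatingGroup (Pt m r)) : Perm (Pt m r)), g.2⟩) hr hg

/-- Sylow 2-subgroups of `A_n`, n ≥ 6, are self-normalizing. -/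
theorem SN_alt (n : ℕ) (hn : 6 ≤ n) : SN (alternatingGroup (Fin n)) := by
  obtain ⟨e⟩ := exists_equiv_Pt n
  have h1 := SN_alt_Pt (m := n / 2) (r := n % 2) (by omega) (by omega)
  exact SN_congr e.symm.altCongrHom h1

end Cfsg.Agent.H14.SylowSym
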