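import Mathlib
import Cfsg.Agent.H14_WcA
import Cfsg.Agent.H6_ChevDec

set_option autoImplicit false
set_option linter.unusedSectionVars false
set_option maxRecDepth 100000

/-!
Weakly closed unipotent subgroups: table checks.
-/

namespace Cfsg.Agent.H6.Chev.Tab

variable (t : Tab)

/-- value of a cocharacter -/
def cv (L : List ℤ) (s : ℕ) : ℤ := sumNat t.l fun k => L.getD k 0 * t.c k s

def pm (v : ℤ) : Bool := intEq v 1 || intEq v (-1)

def pm2 (e : Bool) (v : ℤ) : Bool := pm v || (e && (intEq v 2 || intEq v (-2)))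

def ckSep (e : Bool) (L : List (List (List ℤ))) : Bool := allNat t.l fun i => allNat t.l fun j => Nat.beq i j ||
  (intEq (t.cv ((L.getD i []).getD j []) (nth t.S j)) 0 && pm2 e (t.cv ((L.getD i []).getD j []) (nth t.S i)))

def ckFull (e : Bool) (L : List (List ℤ)) : Bool := allNat t.l fun i => pm2 e (t.cv (L.getD i []) (nth t.S i))

def ckNS1 (r : ℕ) (l : List (ℕ × ℤ × ℕ × ℕ)) : Bool := match l with
  | [(r1, C1, 1, 1)] => Nat.beq r1 r && pm C1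
  | [(r1, C1, 1, 1), (r2, C2, 2, 1)] => (Nat.beq r1 r || Nat.beq r2 r) && (pm C1 && pm C2)
  | [(r1, C1, 1, 1), (r2, C2, 1, 2)] => (Nat.beq r1 r || Nat.beq r2 r) && (pm C1 && pm C2)
  | _ => false

def ckNS (L : List (ℕ × ℕ)) : Bool := allNat t.N fun k =>
  (anyNat t.l fun i => Nat.beq (nth t.S i) (t.N + k)) ||
  ((Nat.ble t.N (L.getD k (0, 0)).1 && (Nat.blt (L.getD k (0, 0)).1 t.n && (Nat.ble t.N (L.getD k (0, 0)).2 &&
    (Nat.blt (L.getD k (0, 0)).2 t.n && !(Nat.beq (L.getD k (0, 0)).2 (L.getD k (0, 0)).1))))) &&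
  ckNS1 (t.N + k) (t.cm (L.getD k (0, 0)).1 (L.getD k (0, 0)).2))

end Cfsg.Agent.H6.Chev.Tab

namespace Cfsg.Agent.H14.Chev

open Cfsg Cfsg.Lie Cfsg.Lie.ChevalleyDatum Cfsg.Agent.H6 Cfsg.Agent.H6.Chev Cfsg.Agent.H6.Chev.Model

theorem pm_iff {v : ℤ} (h : Tab.pm v = true) : v = 1 ∨ v = -1 := by
  unfold Tab.pm at h
  rw [Bool.or_eq_true] at h
  exact h.imp intEq_iff intEq_iff

theorem pm2_iff {e : Bool} {v : ℤ} (h : Tab.pm2 e v = true) : (v = 1 ∨ v = -1) ∨ (e = true ∧ (v = 2 ∨ v = -2)) := by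
  unfold Tab.pm2 at h
  rw [Bool.or_eq_true, Bool.and_eq_true, Bool.or_eq_true] at h
  exact h.imp pm_iff fun h => ⟨h.1, h.2.imp intEq_iff intEq_iff⟩

section

variable {t : Tab} {D : ChevalleyDatum} (b : t.Base D) (ck : t.Checks D) (m : Model D) {F : Type*} [Field F]

include b ck in
theorem chi_cv (a : Fˣ) (L : List ℤ) {s : ℕ} (hs : s < t.n) :
    m.chi (Model.hC D (fun k => a ^ L.getD k 0)) s = a ^ t.cv L s := by
  rw [m.chi_hC _ (by rw [b.nroots]; exact hs)]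
  unfold Tab.cv
  rw [sumNat_eq, b.rank]
  have h1 : ∀ k ∈ Finset.range t.l, (a ^ L.getD k 0) ^ D.cartan k s = a ^ (L.getD k 0 * t.c k s) := by
    intro k hk
    rw [b.cartan_eq (Finset.mem_range.1 hk) hs, zpow_mul]
  rw [Finset.prod_congr rfl h1]
  induction Finset.range t.l using Finset.induction_on with
  | empty => simp
  | insert k S hk ih => rw [Finset.prod_insert hk, Finset.sum_insert hk, zpow_add, ih]

include b ck in
theorem sep_sound {e : Bool} {L : List (List (List ℤ))} (h : t.ckSep e L = true)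
    (ha : ∃ a : Fˣ, a ≠ 1 ∧ (e = true → a ^ (2 : ℤ) ≠ 1)) : Sep m F := by
  obtain ⟨a, ha1, ha2⟩ := ha
  intro i j hij
  have hi : (i : ℕ) < t.l := by have := b.rank; have := i.2; omega
  have hj : (j : ℕ) < t.l := by have := b.rank; have := j.2; omega
  have h1 := allNat_iff (allNat_iff h i hi) j hj
  rw [Bool.or_eq_true, Bool.and_eq_true] at h1
  rcases h1 with h1 | ⟨h1, h2⟩
  · exact absurd (Fin.ext (Nat.eq_of_beq_eq_true h1)) hij
  · have e1 := b.simple_eq hi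
    have e2 := b.simple_eq hj
    refine ⟨fun k => a ^ ((L.getD i []).getD j []).getD k 0, ?_, ?_⟩
    · change m.chi _ (D.simple j) = 1
      rw [e2, chi_cv b ck m a _ (Tab.S_facts b ck hj).1, intEq_iff h1, zpow_zero]
    · change m.chi _ (D.simple i) ≠ 1
      rw [e1, chi_cv b ck m a _ (Tab.S_facts b ck hi).1]
      rcases pm2_iff h2 with (h3 | h3) | ⟨he, h3 | h3⟩
      · rw [h3, zpow_one]; exact ha1
      · rw [h3, zpow_neg_one]; exact fun h => ha1 (inv_eq_one.1 h)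
      · rw [h3]; exact ha2 he
      · rw [h3, zpow_neg]; exact fun h => ha2 he (inv_eq_one.1 h)

theorem top_of_units {L : AddSubgroup F} (hL : L ≠ ⊥) (h : ∀ a : Fˣ, ∀ t ∈ L, (a : F) * t ∈ L) : L = ⊤ := by
  obtain ⟨t, ht, ht0⟩ := (AddSubgroup.bot_or_exists_ne_zero L).resolve_left hL
  rw [eq_top_iff]
  intro c _
  by_cases hc : c = 0
  · rw [hc]; exact zero_mem _
  · have := h (Units.mk0 (c / t) (div_ne_zero hc ht0)) t ht
    rwa [Units.val_mk0, div_mul_cancel₀ _ ht0] at this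

theorem top_of_squares [Finite F] {L : AddSubgroup F} (hL : L ≠ ⊥) (h : ∀ a : Fˣ, ∀ t ∈ L, (a : F) ^ 2 * t ∈ L) :
    L = ⊤ := by
  have h' : ∀ a : F, ∀ t ∈ L, a ^ 2 * t ∈ L := by
    intro a t ht
    by_cases ha : a = 0
    · rw [ha]; simp
    · exact h (Units.mk0 a ha) t ht
  apply top_of_units hL
  intro c t ht
  by_cases h2 : (2 : F) = 0
  · haveI : CharP F 2 := by
      apply CharTwo.of_one_ne_zero_of_two_eq_zero one_ne_zero h2
    obtain ⟨s, hs⟩ := FiniteField.isSquare_of_char_two (ringChar.eq F 2) (c : F)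
    rw [hs, ← sq]
    exact h' s t ht
  · have e : (c : F) * t = (((c : F) + 1) / 2) ^ 2 * t - (((c : F) - 1) / 2) ^ 2 * t := by
      field_simp
      ring
    rw [e]
    exact sub_mem (h' _ t ht) (h' _ t ht)

include b ck in
theorem full_sound [Finite F] {e : Bool} {L : List (List ℤ)} (h : t.ckFull e L = true) : Full m F := by
  intro i LL hL hLL
  have hi : (i : ℕ) < t.l := by have := b.rank; have := i.2; omega
  have h1 := allNat_iff h i hi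
  have e1 := b.simple_eq hi
  have key : ∀ a : Fˣ, ∀ s ∈ LL, ((a ^ t.cv (L.getD i []) (nth t.S i) : Fˣ) : F) * s ∈ LL := by
    intro a s hs
    have := hLL (fun k => a ^ (L.getD i []).getD k 0) s hs
    change ((m.chi _ (D.simple i) : Fˣ) : F) * s ∈ LL at this
    rwa [e1, chi_cv b ck m a _ (Tab.S_facts b ck hi).1] at this
  rcases pm2_iff h1 with (h3 | h3) | ⟨-, h3 | h3⟩
  · apply top_of_units hL
    intro a s hs
    have := key a s hs
    rwa [h3, zpow_one] at this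
  · apply top_of_units hL
    intro a s hs
    have := key a⁻¹ s hs
    rwa [h3, zpow_neg_one, inv_inv] at this
  · apply top_of_squares hL
    intro a s hs
    have := key a s hs
    rw [h3] at this
    exact_mod_cast this
  · apply top_of_squares hL
    intro a s hs
    have := key a⁻¹ s hs
    rw [h3, inv_zpow, zpow_neg, inv_inv] at this
    exact_mod_cast this

/-- two terms -/
theorem two_term {K : Subgroup (GL D.Idx F)} {r1 r2 : ℕ} {p q : F → F → F}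
    (h : ∀ t u, m.X r1 (p t u) * m.X r2 (q t u) ∈ K) {t u t' u' : F} (hp : p t u = p t' u') :
    m.X r2 (q t' u' - q t u) ∈ K := by
  have h1 := mul_mem (inv_mem (h t u)) (h t' u')
  rw [← hp] at h1
  have e : m.X r2 (q t' u' - q t u) = (m.X r1 (p t u) * m.X r2 (q t u))⁻¹ * (m.X r1 (p t u) * m.X r2 (q t' u')) := by
    rw [sub_eq_neg_add, m.X_add, m.X_neg]
    group
  rw [e]
  exact h1

theorem pmF {C : ℤ} (h : C = 1 ∨ C = -1) : (C : F) * (C : F) = 1 := by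
  rcases h with rfl | rfl <;> simp

theorem ns1_sound (hF : ∃ s : F, s ≠ 0 ∧ s ≠ 1) {a b r : ℕ} {K : Subgroup (GL D.Idx F)}
    (h : Tab.ckNS1 r (D.commTerms a b) = true) (hK : ∀ t u : F, m.word (D.commWord F a b t u) ∈ K) (τ : F) :
    m.X r τ ∈ K := by
  unfold Tab.ckNS1 at h
  unfold ChevalleyDatum.commWord at hK
  obtain ⟨s, hs0, hs1⟩ := hF
  have hs1' : s - 1 ≠ 0 := sub_ne_zero.2 hs1
  split at h
  · rename_i r1 C1 heq
    rw [heq] at hK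
    rw [Bool.and_eq_true] at h
    have hr := Nat.eq_of_beq_eq_true h.1
    subst hr
    have hC := pmF (F := F) (pm_iff h.2)
    have h1 := hK (-((C1 : F) * τ)) 1
    simp only [List.map_cons, List.map_nil, Model.word, List.prod_cons, List.prod_nil, mul_one, pow_one,
      _root_.neg_neg, one_pow] at h1
    rwa [← mul_assoc, hC, one_mul] at h1
  · rename_i r1 C1 r2 C2 heq
    rw [heq] at hK
    rw [Bool.and_eq_true, Bool.and_eq_true, Bool.or_eq_true] at h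
    have hC1 := pmF (F := F) (pm_iff h.2.1)
    have hC2 := pmF (F := F) (pm_iff h.2.2)
    have h1 : ∀ t u : F, m.X r1 ((C1 : F) * (-t) * u) * m.X r2 ((C2 : F) * (-t) ^ 2 * u) ∈ K := by
      intro t u
      have := hK t u
      simpa only [List.map_cons, List.map_nil, Model.word, List.prod_cons, List.prod_nil, mul_one, pow_one] using this
    have h2 : ∀ τ, m.X r2 τ ∈ K := by
      intro τ
      have h3 := two_term m h1 (t := 1) (u := τ * (C2 : F) / (s - 1)) (t' := s) (u' := τ * (C2 : F) / (s - 1) / s)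
        (by field_simp)
      convert h3 using 2
      field_simp
      linear_combination (-τ) * hC2
    rcases h.1 with h4 | h4
    · have hr := Nat.eq_of_beq_eq_true h4
      subst hr
      have h5 := mul_mem (h1 (-((C1 : F) * τ)) 1) (inv_mem (h2 ((C2 : F) * (- -((C1 : F) * τ)) ^ 2 * 1)))
      rw [mul_inv_cancel_right] at h5
      convert h5 using 2
      linear_combination (-τ) * hC1
    · have hr := Nat.eq_of_beq_eq_true h4
      subst hr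
      exact h2 τ
  · rename_i r1 C1 r2 C2 heq
    rw [heq] at hK
    rw [Bool.and_eq_true, Bool.and_eq_true, Bool.or_eq_true] at h
    have hC1 := pmF (F := F) (pm_iff h.2.1)
    have hC2 := pmF (F := F) (pm_iff h.2.2)
    have h1 : ∀ t u : F, m.X r1 ((C1 : F) * (-t) * u) * m.X r2 ((C2 : F) * (-t) * u ^ 2) ∈ K := by
      intro t u
      have := hK t u
      simpa only [List.map_cons, List.map_nil, Model.word, List.prod_cons, List.prod_nil, mul_one, pow_one] using this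
    have h2 : ∀ τ, m.X r2 τ ∈ K := by
      intro τ
      have h3 := two_term m h1 (t := -(τ * (C2 : F) / (s - 1))) (u := 1) (t' := -(τ * (C2 : F) / (s - 1) / s)) (u' := s)
        (by field_simp)
      convert h3 using 2
      field_simp
      linear_combination (-τ) * hC2
    rcases h.1 with h4 | h4
    · have hr := Nat.eq_of_beq_eq_true h4
      subst hr
      have h5 := mul_mem (h1 (-((C1 : F) * τ)) 1) (inv_mem (h2 ((C2 : F) * (- -((C1 : F) * τ)) * 1 ^ 2)))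
      rw [mul_inv_cancel_right] at h5
      convert h5 using 2
      linear_combination (-τ) * hC1
    · have hr := Nat.eq_of_beq_eq_true h4
      subst hr
      exact h2 τ
  · simp at h

theorem ns1_term {r : ℕ} {l : List (ℕ × ℤ × ℕ × ℕ)} (h : Tab.ckNS1 r l = true) : ∃ c ∈ l, c.1 = r := by
  unfold Tab.ckNS1 at h
  split at h
  · rw [Bool.and_eq_true] at h
    exact ⟨_, List.mem_cons_self, Nat.eq_of_beq_eq_true h.1⟩
  · rw [Bool.and_eq_true, Bool.or_eq_true] at h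
    rcases h.1 with h1 | h1
    · exact ⟨_, List.mem_cons_self, Nat.eq_of_beq_eq_true h1⟩
    · exact ⟨_, List.mem_cons_of_mem _ List.mem_cons_self, Nat.eq_of_beq_eq_true h1⟩
  · rw [Bool.and_eq_true, Bool.or_eq_true] at h
    rcases h.1 with h1 | h1
    · exact ⟨_, List.mem_cons_self, Nat.eq_of_beq_eq_true h1⟩
    · exact ⟨_, List.mem_cons_of_mem _ List.mem_cons_self, Nat.eq_of_beq_eq_true h1⟩
  · simp at h

include b ck in
theorem ns_sound (hN : m.N = t.N) (hF : ∃ s : F, s ≠ 0 ∧ s ≠ 1) {L : List (ℕ × ℕ)} (h : t.ckNS L = true) : NSp m F := by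
  intro J K hK r hrN hr hns hrJ τ
  have hn := b.nroots
  have hn2 := b.n2
  have h1 := allNat_iff h (r - t.N) (by omega)
  have e0 : t.N + (r - t.N) = r := by omega
  rw [e0, Bool.or_eq_true, Bool.and_eq_true] at h1
  rcases h1 with h1 | ⟨h1, h2⟩
  · obtain ⟨i, hi, h3⟩ := anyNat_iff h1
    exact absurd ((Nat.eq_of_beq_eq_true h3).symm.trans (b.simple_eq hi).symm) (hns i (by rw [b.rank]; exact hi))
  · simp only [Bool.and_eq_true] at h1
    obtain ⟨a1, a2, a3, a4, a5⟩ := h1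
    have a1' := Nat.le_of_ble_eq_true a1
    have a2' : (L.getD (r - t.N) (0, 0)).1 < t.n := Nat.le_of_ble_eq_true a2
    have a3' := Nat.le_of_ble_eq_true a3
    have a4' : (L.getD (r - t.N) (0, 0)).2 < t.n := Nat.le_of_ble_eq_true a4
    have a5' := Tab.bnot_beq a5
    rw [← Tab.commTerms_eq b ck a2' a4'] at h2
    obtain ⟨c, hc, rfl⟩ := ns1_term h2
    refine ns1_sound m hF h2 (fun t' u' => hK _ _ (by omega) (by omega) (by omega) (by omega) a5' ?_ t' u') τ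
    rintro ⟨hJ1, hJ2⟩
    apply hrJ
    have hneg : (L.getD (c.1 - t.N) (0, 0)).2 ≠ D.neg (L.getD (c.1 - t.N) (0, 0)).1 := by
      intro h
      have := (m.neg_lt_iff (r := (L.getD (c.1 - t.N) (0, 0)).1) (by omega)).2 (by omega)
      omega
    have h3 := m.comm_lt _ (by omega) _ (by omega) a5' hneg c hc
    rw [m.inRootSub_iff' h3.1]
    intro i hi hiJ
    rw [h3.2.2.2 i hi, (m.inRootSub_iff' hJ1.1).1 hJ1 i hi hiJ, (m.inRootSub_iff' hJ2.1).1 hJ2 i hi hiJ]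
    ring

end

theorem sepB2 (F : Type*) [Field F] (ha : ∃ a : Fˣ, a ≠ 1 ∧ (true = true → a ^ (2 : ℤ) ≠ 1)) : Sep modelB2 F :=
  sep_sound baseB2 checksB2 modelB2 (L := [[[0, 0], [-1, -1]], [[-1, -2], [0, 0]]]) (by decide +kernel) ha

theorem fullB2 (F : Type*) [Field F] [Finite F] : Full modelB2 F :=
  full_sound baseB2 checksB2 modelB2 (e := true) (L := [[0, 1], [0, 1]]) (by decide +kernel)

theorem nsB2 (F : Type*) [Field F] (hF : ∃ s : F, s ≠ 0 ∧ s ≠ 1) : NSp modelB2 F :=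
  ns_sound baseB2 checksB2 modelB2 rfl hF (L := [(0, 0), (0, 0), (4, 5), (4, 5)]) (by decide +kernel)

theorem sepD4 (F : Type*) [Field F] (ha : ∃ a : Fˣ, a ≠ 1 ∧ (true = true → a ^ (2 : ℤ) ≠ 1)) : Sep modelD4 F :=
  sep_sound baseD4 checksD4 modelD4 (L := [[[0, 0, 0, 0], [-1, -1, -1, 0], [-1, 0, 0, 0], [-1, 0, 0, 0]], [[0, 0, -1, 0], [0, 0, 0, 0], [-1, 0, 0, 0], [-1, 0, 0, 0]], [[0, 0, -1, 0], [-1, -1, -1, 0], [0, 0, 0, 0], [0, 0, -1, 0]], [[0, 0, 0, -1], [-1, -1, -1, 0], [0, 0, 0, -1], [0, 0, 0, 0]]]) (by decide +kernel) ha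

theorem fullD4 (F : Type*) [Field F] [Finite F] : Full modelD4 F :=
  full_sound baseD4 checksD4 modelD4 (e := false) (L := [[0, 1, 0, 0], [1, 0, 0, 0], [0, 1, 0, 0], [0, 1, 0, 0]]) (by decide +kernel)

theorem nsD4 (F : Type*) [Field F] (hF : ∃ s : F, s ≠ 0 ∧ s ≠ 1) : NSp modelD4 F :=
  ns_sound baseD4 checksD4 modelD4 rfl hF (L := [(0, 0), (0, 0), (0, 0), (12, 14), (13, 14), (12, 16), (0, 0), (14, 18), (12, 19), (13, 19), (12, 21), (14, 22)]) (by decide +kernel)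

theorem sepF4 (F : Type*) [Field F] (ha : ∃ a : Fˣ, a ≠ 1 ∧ (false = true → a ^ (2 : ℤ) ≠ 1)) : Sep modelF4 F :=
  sep_sound baseF4 checksF4 modelF4 (L := [[[0, 0, 0, 0], [-1, -1, -1, 0], [0, -1, -1, 0], [0, -1, 0, 0]], [[0, 0, -1, 0], [0, 0, 0, 0], [-1, 0, 0, 0], [-1, 0, 0, 0]], [[0, 0, 0, -1], [0, 0, 0, -1], [0, 0, 0, 0], [0, -2, -2, -1]], [[0, 0, -1, 0], [-1, 0, 1, 0], [0, -1, -1, 0], [0, 0, 0, 0]]]) (by decide +kernel) ha

theorem fullF4 (F : Type*) [Field F] [Finite F] : Full modelF4 F :=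
  full_sound baseF4 checksF4 modelF4 (e := false) (L := [[0, 1, 0, 0], [1, 0, 0, 0], [0, 0, 0, 1], [0, 0, 1, 0]]) (by decide +kernel)

theorem nsF4 (F : Type*) [Field F] (hF : ∃ s : F, s ≠ 0 ∧ s ≠ 1) : NSp modelF4 F :=
  ns_sound baseF4 checksF4 modelF4 rfl hF (L := [(0, 0), (0, 0), (24, 25), (0, 0), (25, 27), (24, 28), (25, 27), (24, 30), (25, 31), (0, 0), (27, 33), (28, 33), (29, 33), (27, 35), (27, 36), (28, 36), (27, 39), (25, 34), (24, 41), (25, 42), (33, 40), (30, 42), (25, 45), (24, 46)]) (by decide +kernel)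

theorem sepE6 (F : Type*) [Field F] (ha : ∃ a : Fˣ, a ≠ 1 ∧ (false = true → a ^ (2 : ℤ) ≠ 1)) : Sep modelE6 F :=
  sep_sound baseE6 checksE6 modelE6 (L := [[[0, 0, 0, 0, 0, 0], [0, 0, -1, 0, 0, 0], [-1, 0, -1, -1, 0, 0], [0, -1, 1, 0, 0, 0], [0, 0, -1, 0, 0, 0], [0, 0, -1, 0, 0, 0]], [[0, 0, 0, -1, 0, 0], [0, 0, 0, 0, 0, 0], [-1, 0, 0, 1, 0, 0], [0, -1, -1, -1, 0, 0], [0, 0, 0, -1, 0, 1], [0, 0, 0, -1, 0, 0]], [[0, 0, 0, -1, 0, 0], [-1, 0, 0, 0, 0, 0], [0, 0, 0, 0, 0, 0], [-1, 0, 0, 0, 0, 0], [-1, 0, 0, 0, 0, 0], [-1, 0, 0, 0, 0, 0]], [[0, -1, 0, 0, 0, 0], [0, 0, -1, 0, 0, 0], [0, -1, 0, 0, 0, 0], [0, 0, 0, 0, 0, 0], [0, -1, 0, 0, 0, 0], [0, -1, 0, 0, 0, 0]], [[0, 0, 0, -1, 0, 0], [0, 0, 0, 0, 0, -1], [0, 0, 0, 0, 0, -1], [0, 0, 0, 0, 0, -1], [0, 0, 0, 0, 0, 0], [0, 0, 0, -1, 0, 0]], [[0, 0, 0, 0, -1, 0], [0, 0, 0, 0, -1, 0], [0, 0, 0, 0, -1, 0], [0, -1, 0, 0, 1, 0], [0, 0, 0,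 -1, -1, -1], [0, 0, 0, 0, 0, 0]]]) (by decide +kernel) ha

theorem fullE6 (F : Type*) [Field F] [Finite F] : Full modelE6 F :=
  full_sound baseE6 checksE6 modelE6 (e := false) (L := [[0, 0, 1, 0, 0, 0], [0, 0, 0, 1, 0, 0], [1, 0, 0, 0, 0, 0], [0, 1, 0, 0, 0, 0], [0, 0, 0, 1, 0, 0], [0, 0, 0, 0, 1, 0]]) (by decide +kernel)

theorem nsE6 (F : Type*) [Field F] (hF : ∃ s : F, s ≠ 0 ∧ s ≠ 1) : NSp modelE6 F :=
  ns_sound baseE6 checksE6 modelE6 rfl hF (L := [(0, 0), (0, 0), (36, 37), (0, 0), (37, 39), (36, 40), (0, 0), (39, 42), (37, 43), (36, 44), (0, 0), (39, 46), (37, 47), (36, 48), (42, 47), (37, 50), (36, 51), (39, 51), (36, 53), (37, 54), (0, 0), (42, 56), (39, 57), (37, 58), (36, 59), (46, 58), (37, 61), (36, 62), (39, 62), (36, 64), (37, 65), (42, 64), (36, 67), (37, 68), (39, 69), (46, 70)]) (by decide +kernel)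

theorem sepE7 (F : Type*) [Field F] (ha : ∃ a : Fˣ, a ≠ 1 ∧ (false = true → a ^ (2 : ℤ) ≠ 1)) : Sep modelE7 F :=
  sep_sound baseE7 checksE7 modelE7 (L := [[[0, 0, 0, 0, 0, 0, 0], [0, 0, -1, 0, 0, 0, 0], [-1, 0, -1, -1, 0, 0, 0], [0, -1, 1, 0, 0, 0, 0], [0, 0, -1, 0, 0, 0, 0], [0, 0, -1, 0, 0, 0, 0], [0, 0, -1, 0, 0, 0, 0]], [[0, 0, 0, -1, 0, 0, 0], [0, 0, 0, 0, 0, 0, 0], [-1, 0, 0, 1, 0, 0, 0], [0, -1, -1, -1, 0, 0, 0], [0, 0, 0, -1, 0, 1, 0], [0, 0, 0, -1, 0, 0, 0], [0, 0, 0, -1, 0, 0, 0]], [[0, 0, 0, -1, 0, 0, 0], [-1, 0, 0, 0, 0, 0, 0], [0, 0, 0, 0, 0, 0, 0], [-1, 0, 0, 0, 0, 0, 0], [-1, 0, 0, 0, 0, 0, 0], [-1, 0, 0, 0, 0, 0, 0], [-1, 0, 0, 0, 0, 0, 0]], [[0, -1, 0, 0, 0, 0, 0], [0, 0, -1, 0, 0, 0, 0], [0, -1, 0, 0, 0, 0, 0], [0, 0, 0, 0, 0, 0, 0], [0, -1, 0, 0, 0, 0, 0], [0, -1, 0, 0, 0, 0, 0], [0, -1, 0, 0, 0, 0, 0]], [[0, 0, 0, -1, 0, 0, 0], [0, 0, 0, 0, 0, -1, 0], [0, 0,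 0, 0, 0, -1, 0], [0, 0, 0, 0, 0, -1, 0], [0, 0, 0, 0, 0, 0, 0], [0, 0, 0, -1, 0, 0, 0], [0, 0, 0, -1, 0, 0, 0]], [[0, 0, 0, 0, -1, 0, 0], [0, 0, 0, 0, -1, 0, 0], [0, 0, 0, 0, -1, 0, 0], [0, 0, 0, 0, 0, 0, -1], [0, 0, 0, 0, 0, 0, -1], [0, 0, 0, 0, 0, 0, 0], [0, 0, 0, 0, -1, 0, 0]], [[0, 0, 0, 0, 0, -1, 0], [0, 0, 0, 0, 0, -1, 0], [0, 0, 0, 0, 0, -1, 0], [0, 0, 0, 0, 0, -1, 0], [0, 0, 0, -1, 0, 1, 0], [0, 0, 0, 0, -1, -1, -1], [0, 0, 0, 0, 0, 0, 0]]]) (by decide +kernel) ha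

theorem fullE7 (F : Type*) [Field F] [Finite F] : Full modelE7 F :=
  full_sound baseE7 checksE7 modelE7 (e := false) (L := [[0, 0, 1, 0, 0, 0, 0], [0, 0, 0, 1, 0, 0, 0], [1, 0, 0, 0, 0, 0, 0], [0, 1, 0, 0, 0, 0, 0], [0, 0, 0, 1, 0, 0, 0], [0, 0, 0, 0, 1, 0, 0], [0, 0, 0, 0, 0, 1, 0]]) (by decide +kernel)

theorem nsE7 (F : Type*) [Field F] (hF : ∃ s : F, s ≠ 0 ∧ s ≠ 1) : NSp modelE7 F :=
  ns_sound baseE7 checksE7 modelE7 rfl hF (L := [(0, 0), (0, 0), (63, 64), (0, 0), (64, 66), (63, 67), (0, 0), (66, 69), (64, 70), (63, 71), (0, 0), (69, 73), (66, 74), (64, 75), (63, 76), (0, 0), (69, 78), (66, 79), (64, 80), (63, 81), (73, 79), (66, 83), (64, 84), (63, 85), (69, 84), (64, 87), (63, 88), (66, 88), (63, 90), (64, 91), (0, 0), (73, 93), (69, 94), (66, 95), (64, 96), (63, 97), (78, 95), (66, 99), (64, 100), (63, 101), (69, 100), (64, 103), (63, 104), (66, 104), (63, 106), (64, 107),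 (73, 103), (64, 109), (63, 110), (66, 110), (63, 112), (64, 113), (69, 112), (63, 115), (64, 116), (66, 117), (78, 115), (63, 119), (64, 120), (66, 121), (69, 122), (73, 123), (93, 124)]) (by decide +kernel)

theorem sepE8 (F : Type*) [Field F] (ha : ∃ a : Fˣ, a ≠ 1 ∧ (false = true → a ^ (2 : ℤ) ≠ 1)) : Sep modelE8 F :=
  sep_sound baseE8 checksE8 modelE8 (L := [[[0, 0, 0, 0, 0, 0, 0, 0], [0, 0, -1, 0, 0, 0, 0, 0], [-1, 0, -1, -1, 0, 0, 0, 0], [0, -1, 1, 0, 0, 0, 0, 0], [0, 0, -1, 0, 0, 0, 0, 0], [0, 0, -1, 0, 0, 0, 0, 0], [0, 0, -1, 0, 0, 0, 0, 0], [0, 0, -1, 0, 0, 0, 0, 0]], [[0, 0, 0, -1, 0, 0, 0, 0], [0, 0, 0, 0, 0, 0, 0, 0], [-1, 0, 0, 1, 0, 0, 0, 0], [0, -1, -1, -1, 0, 0, 0, 0], [0, 0, 0, -1, 0, 1, 0, 0], [0, 0, 0, -1, 0, 0, 0, 0], [0, 0, 0, -1, 0, 0, 0, 0], [0, 0, 0, -1, 0, 0, 0, 0]], [[0, 0, 0, -1, 0, 0, 0, 0], [-1, 0, 0, 0, 0, 0, 0, 0], [0, 0, 0, 0, 0, 0, 0, 0], [-1, 0,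 0, 0, 0, 0, 0, 0], [-1, 0, 0, 0, 0, 0, 0, 0], [-1, 0, 0, 0, 0, 0, 0, 0], [-1, 0, 0, 0, 0, 0, 0, 0], [-1, 0, 0, 0, 0, 0, 0, 0]], [[0, -1, 0, 0, 0, 0, 0, 0], [0, 0, -1, 0, 0, 0, 0, 0], [0, -1, 0, 0, 0, 0, 0, 0], [0, 0, 0, 0, 0, 0, 0, 0], [0, -1, 0, 0, 0, 0, 0, 0], [0, -1, 0, 0, 0, 0, 0, 0], [0, -1, 0, 0, 0, 0, 0, 0], [0, -1, 0, 0, 0, 0, 0, 0]], [[0, 0, 0, -1, 0, 0, 0, 0], [0, 0, 0, 0, 0, -1, 0, 0], [0, 0, 0, 0, 0, -1, 0, 0], [0, 0, 0, 0, 0, -1, 0, 0], [0, 0, 0, 0, 0, 0, 0, 0], [0, 0, 0, -1, 0, 0, 0, 0], [0, 0, 0, -1, 0, 0, 0, 0], [0, 0, 0, -1, 0, 0, 0, 0]], [[0, 0, 0, 0, -1, 0, 0, 0], [0, 0, 0, 0, -1, 0, 0, 0], [0, 0, 0, 0, -1, 0, 0, 0], [0, 0, 0, 0, 0, 0, -1, 0], [0, 0, 0, 0, 0, 0, -1, 0], [0, 0, 0, 0, 0, 0, 0, 0], [0, 0, 0, 0, -1, 0, 0, 0], [0, 0, 0, 0, -1, 0, 0, 0]], [[0, 0, 0, 0, 0, -1, 0, 0], [0, 0, 0, 0, 0, -1, 0, 0], [0, 0, 0, 0, 0, -1, 0, 0], [0, 0, 0, 0, 0, -1, 0, 0], [0,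 0, 0, 0, 0, 0, 0, -1], [0, 0, 0, 0, 0, 0, 0, -1], [0, 0, 0, 0, 0, 0, 0, 0], [0, 0, 0, 0, 0, -1, 0, 0]], [[0, 0, 0, 0, 0, 0, -1, 0], [0, 0, 0, 0, 0, 0, -1, 0], [0, 0, 0, 0, 0, 0, -1, 0], [0, 0, 0, 0, 0, 0, -1, 0], [0, 0, 0, 0, 0, 0, -1, 0], [0, 0, 0, 0, -1, 0, 1, 0], [0, 0, 0, 0, 0, -1, -1, -1], [0, 0, 0, 0, 0, 0, 0, 0]]]) (by decide +kernel) ha

theorem fullE8 (F : Type*) [Field F] [Finite F] : Full modelE8 F :=
  full_sound baseE8 checksE8 modelE8 (e := false) (L := [[0, 0, 1, 0, 0, 0, 0, 0], [0, 0, 0, 1, 0, 0, 0, 0], [1, 0, 0, 0, 0, 0, 0, 0], [0, 1, 0, 0, 0, 0, 0, 0], [0, 0, 0, 1, 0, 0, 0, 0], [0, 0, 0, 0, 1, 0, 0, 0], [0, 0, 0, 0, 0, 1, 0, 0], [0, 0, 0, 0, 0, 0, 1, 0]]) (by decide +kernel)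

theorem nsE8 (F : Type*) [Field F] (hF : ∃ s : F, s ≠ 0 ∧ s ≠ 1) : NSp modelE8 F :=
  ns_sound baseE8 checksE8 modelE8 rfl hF (L := [(0, 0), (0, 0), (120, 121), (0, 0), (121, 123), (120, 124), (0, 0), (123, 126), (121, 127), (120, 128), (0, 0), (126, 130), (123, 131), (121, 132), (120, 133), (0, 0), (130, 135), (126, 136), (123, 137), (121, 138), (120, 139), (0, 0), (130, 141), (126, 142), (123, 143), (121, 144), (120, 145), (135, 142), (126, 147), (123, 148), (121, 149), (120, 150), (130, 148), (123, 152), (121, 153), (120, 154), (126, 153), (121, 156), (120, 157), (123, 157), (120, 159), (121, 160), (0, 0), (135, 162), (130, 163), (126, 164), (123, 165), (121, 166), (120, 167), (141, 164), (126, 169), (123, 170), (121, 171), (120, 172), (130, 170), (123, 174), (121, 175), (120, 176), (126, 175), (121, 178), (120, 179), (123, 179), (120, 181), (121, 182), (135, 174), (123, 184),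 (121, 185), (120, 186), (126, 185), (121, 188), (120, 189), (123, 189), (120, 191), (121, 192), (130, 188), (121, 194), (120, 195), (123, 195), (120, 197), (121, 198), (126, 197), (120, 200), (121, 201), (123, 202), (141, 194), (121, 204), (120, 205), (123, 205), (120, 207), (121, 208), (126, 207), (120, 210), (121, 211), (123, 212), (130, 210), (120, 214), (121, 215), (123, 216), (126, 217), (135, 214), (120, 219), (121, 220), (123, 221), (126, 222), (130, 223), (141, 224), (162, 219), (120, 226), (121, 227), (123, 228), (126, 229), (130, 230), (135, 231), (141, 231), (135, 233), (130, 234), (126, 235), (123, 236), (121, 237), (120, 238)]) (by decide +kernel)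

end Cfsg.Agent.H14.Chev
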