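import Mathlib

set_option autoImplicit false

namespace Cfsg.Agent.H15.AOrd

theorem exists_alt {n : ℕ} (m : Multiset ℕ) (hsum : m.sum ≤ n) (h2 : ∀ a ∈ m, 2 ≤ a) (hev : Even (m.sum + Multiset.card m)) :
    ∃ g : alternatingGroup (Fin n), orderOf g = m.lcm := by
  obtain ⟨g, hg⟩ := (Equiv.Perm.exists_with_cycleType_iff (α := Fin n)).mpr ⟨by rw [Fintype.card_fin]; exact hsum, h2⟩
  refine ⟨⟨g, ?_⟩, ?_⟩
  · rw [Equiv.Perm.mem_alternatingGroup, Equiv.Perm.sign_of_cycleType, hg]
    exact hev.neg_one_pow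
  · rw [← Subgroup.orderOf_coe]
    change orderOf g = _
    rw [← Equiv.Perm.lcm_cycleType, hg]

theorem alt_type {n : ℕ} (g : alternatingGroup (Fin n)) : (g : Equiv.Perm (Fin n)).cycleType.sum ≤ n ∧ (∀ a ∈ (g : Equiv.Perm (Fin n)).cycleType, 2 ≤ a) ∧
    Even ((g : Equiv.Perm (Fin n)).cycleType.sum + Multiset.card (g : Equiv.Perm (Fin n)).cycleType) ∧ orderOf g = (g : Equiv.Perm (Fin n)).cycleType.lcm := by
  refine ⟨?_, ?_, ?_, ?_⟩
  · rw [Equiv.Perm.sum_cycleType]
    exact (Finset.card_le_univ _).trans_eq (Fintype.card_fin n)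
  · intro a ha
    exact Equiv.Perm.two_le_of_mem_cycleType ha
  · have h := g.2
    rw [Equiv.Perm.mem_alternatingGroup, Equiv.Perm.sign_of_cycleType] at h
    by_contra hodd
    rw [Nat.not_even_iff_odd] at hodd
    rw [hodd.neg_one_pow] at h
    exact absurd h (by decide)
  · rw [Equiv.Perm.lcm_cycleType, Subgroup.orderOf_coe]

theorem prime_dvd_lcm {r : ℕ} (hr : r.Prime) (m : Multiset ℕ) (h : r ∣ m.lcm) : ∃ a ∈ m, r ∣ a := by
  induction m using Multiset.induction_on with
  | empty =>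
    rw [Multiset.lcm_zero] at h
    exact absurd (Nat.dvd_one.mp h) hr.one_lt.ne'
  | cons a m ih =>
    rw [Multiset.lcm_cons] at h
    have h' : r ∣ Nat.lcm a m.lcm := h
    rcases (hr.dvd_lcm).mp h' with h1 | h1
    · exact ⟨a, Multiset.mem_cons_self _ _, h1⟩
    · obtain ⟨b, hb, hb'⟩ := ih h1
      exact ⟨b, Multiset.mem_cons_of_mem hb, hb'⟩

theorem odd_part (m : Multiset ℕ) (h : ¬ Even (m.sum + Multiset.card m)) : ∃ a ∈ m, Even a := by
  induction m using Multiset.induction_on with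
  | empty => exact absurd (by simp) h
  | cons a m ih =>
    rcases Nat.even_or_odd a with h1 | h1
    · exact ⟨a, Multiset.mem_cons_self _ _, h1⟩
    · rw [Multiset.sum_cons, Multiset.card_cons] at h
      have h2 : ¬ Even (m.sum + Multiset.card m) := by
        intro h3
        apply h
        have : a + m.sum + (Multiset.card m + 1) = (m.sum + Multiset.card m) + (a + 1) := by ring
        rw [this]
        exact h3.add h1.add_one
      obtain ⟨b, hb, hb'⟩ := ih h2
      exact ⟨b, Multiset.mem_cons_of_mem hb, hb'⟩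

theorem two_odd (n r s : ℕ) (hr : r.Prime) (hs : s.Prime) (hr2 : r ≠ 2) (hs2 : s ≠ 2) (hrs : r ≠ s) :
    (r * s ∈ Set.range (orderOf : alternatingGroup (Fin n) → ℕ)) ↔ r + s ≤ n := by
  have hro : Odd r := hr.odd_of_ne_two hr2
  have hso : Odd s := hs.odd_of_ne_two hs2
  constructor
  · rintro ⟨g, hg⟩
    obtain ⟨h1, h2, h3, h4⟩ := alt_type g
    rw [hg] at h4
    obtain ⟨a, ha, har⟩ := prime_dvd_lcm hr _ (h4 ▸ Dvd.intro _ rfl)
    obtain ⟨b, hb, hbs⟩ := prime_dvd_lcm hs _ (h4 ▸ Dvd.intro_left _ rfl)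
    by_cases hab : a = b
    · subst hab
      have h5 : r * s ∣ a := (Nat.coprime_primes hr hs |>.mpr hrs).mul_dvd_of_dvd_of_dvd har hbs
      have h6 : a ≤ (g : Equiv.Perm (Fin n)).cycleType.sum := Multiset.single_le_sum (by intro x _; exact Nat.zero_le x) a ha
      have h7 := Nat.le_of_dvd (by have := h2 a ha; omega) h5
      have h8 := hr.two_le
      have h9 := hs.two_le
      nlinarith
    · obtain ⟨m', hm'⟩ := Multiset.exists_cons_of_mem ha
      have hb' : b ∈ m' := by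
        rw [hm', Multiset.mem_cons] at hb
        exact hb.resolve_left (Ne.symm hab)
      have h5 : a + b ≤ (g : Equiv.Perm (Fin n)).cycleType.sum := by
        rw [hm', Multiset.sum_cons]
        have : b ≤ m'.sum := Multiset.single_le_sum (by intro x _; exact Nat.zero_le x) b hb'
        omega
      have h6 := Nat.le_of_dvd (by have := h2 a ha; omega) har
      have h7 := Nat.le_of_dvd (by have := h2 b hb; omega) hbs
      omega
  · intro h
    obtain ⟨g, hg⟩ := exists_alt (n := n) {r, s} (by simpa using h) (by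
      intro a ha
      simp only [Multiset.insert_eq_cons, Multiset.mem_cons, Multiset.mem_singleton] at ha
      rcases ha with rfl | rfl
      · exact hr.two_le
      · exact hs.two_le) (by
      simp only [Multiset.insert_eq_cons, Multiset.sum_cons, Multiset.sum_singleton, Multiset.card_cons, Multiset.card_singleton]
      exact (hro.add_odd hso).add (by decide))
    refine ⟨g, ?_⟩
    rw [hg]
    simp only [Multiset.insert_eq_cons, Multiset.lcm_cons, Multiset.lcm_singleton, normalize_eq]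
    exact Nat.Coprime.lcm_eq_mul ((Nat.coprime_primes hr hs).mpr hrs)

theorem two_r (n r : ℕ) (hr : r.Prime) (hr2 : r ≠ 2) :
    (2 * r ∈ Set.range (orderOf : alternatingGroup (Fin n) → ℕ)) ↔ r + 4 ≤ n := by
  have hro : Odd r := hr.odd_of_ne_two hr2
  have hr3 : 3 ≤ r := by have := hr.two_le; omega
  constructor
  · rintro ⟨g, hg⟩
    obtain ⟨h1, h2, h3, h4⟩ := alt_type g
    rw [hg] at h4
    obtain ⟨a, ha, har⟩ := prime_dvd_lcm hr _ (h4 ▸ Dvd.intro_left _ rfl)
    obtain ⟨b, hb, hbs⟩ := prime_dvd_lcm Nat.prime_two _ (h4 ▸ Dvd.intro _ rfl)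
    obtain ⟨m', hm'⟩ := Multiset.exists_cons_of_mem ha
    have ha0 := h2 a ha
    rw [hm'] at h1 h2 h3
    rw [Multiset.sum_cons] at h1 h3
    rw [Multiset.card_cons] at h3
    rcases Nat.even_or_odd a with hae | hao
    · -- a even, divisible by 2r
      have h5 : 2 * r ∣ a := (Nat.coprime_two_left.mpr hro).mul_dvd_of_dvd_of_dvd hae.two_dvd har
      have h6 := Nat.le_of_dvd (by omega) h5
      obtain ⟨c, hc, _⟩ := odd_part m' (by
        intro h
        have : a + m'.sum + (Multiset.card m' + 1) = (m'.sum + Multiset.card m') + (a + 1) := by ring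
        rw [this] at h3
        exact (Nat.not_even_iff_odd.mpr (h.add_odd hae.add_one)) h3)
      have h7 : c ≤ m'.sum := Multiset.single_le_sum (by intro x _; exact Nat.zero_le x) c hc
      have h8 := h2 c (Multiset.mem_cons_of_mem hc)
      omega
    · have hb' : b ∈ m' := by
        rw [hm', Multiset.mem_cons] at hb
        rcases hb with rfl | hb
        · exact absurd hbs (by rw [← even_iff_two_dvd]; exact Nat.not_even_iff_odd.mpr hao)
        · exact hb
      have hbe : Even b := even_iff_two_dvd.mpr hbs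
      obtain ⟨m'', hm''⟩ := Multiset.exists_cons_of_mem hb'
      rw [hm''] at h1 h2 h3
      rw [Multiset.sum_cons] at h1 h3
      rw [Multiset.card_cons] at h3
      obtain ⟨c, hc, _⟩ := odd_part m'' (by
        intro h
        have : a + (b + m''.sum) + (Multiset.card m'' + 1 + 1) = (m''.sum + Multiset.card m'') + ((a + 1) + (b + 1)) := by ring
        rw [this] at h3
        exact (Nat.not_even_iff_odd.mpr (h.add_odd (hao.add_one.add_odd hbe.add_one))) h3)
      have h7 : c ≤ m''.sum := Multiset.single_le_sum (by intro x _; exact Nat.zero_le x) c hc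
      have h8 := h2 c (Multiset.mem_cons_of_mem (Multiset.mem_cons_of_mem hc))
      have h9 := h2 b (Multiset.mem_cons_of_mem (Multiset.mem_cons_self _ _))
      have h10 := Nat.le_of_dvd (by omega) har
      omega
  · intro h
    obtain ⟨g, hg⟩ := exists_alt (n := n) {r, 2, 2} (by simpa using h) (by
      intro a ha
      simp only [Multiset.insert_eq_cons, Multiset.mem_cons, Multiset.mem_singleton] at ha
      rcases ha with rfl | rfl | rfl
      · exact hr.two_le
      · exact le_refl _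
      · exact le_refl _) (by
      simp only [Multiset.insert_eq_cons, Multiset.sum_cons, Multiset.sum_singleton, Multiset.card_cons, Multiset.card_singleton]
      obtain ⟨k, rfl⟩ := hro
      exact ⟨k + 4, by ring⟩)
    refine ⟨g, ?_⟩
    rw [hg]
    simp only [Multiset.insert_eq_cons, Multiset.lcm_cons, Multiset.lcm_singleton, normalize_eq]
    change Nat.lcm r (Nat.lcm 2 2) = 2 * r
    rw [Nat.lcm_self, Nat.lcm_comm]
    exact Nat.Coprime.lcm_eq_mul (Nat.coprime_two_left.mpr hro)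

/-- explicit multiset -/
def ms (c2 c3 c4 c5 c6 c7 c8 c9 c10 : ℕ) : Multiset ℕ :=
  Multiset.replicate c2 2 + Multiset.replicate c3 3 + Multiset.replicate c4 4 + Multiset.replicate c5 5 + Multiset.replicate c6 6 +
    Multiset.replicate c7 7 + Multiset.replicate c8 8 + Multiset.replicate c9 9 + Multiset.replicate c10 10

theorem ms_eq (m : Multiset ℕ) (h2 : ∀ a ∈ m, 2 ≤ a) (hs : m.sum ≤ 10) :
    m = ms (m.count 2) (m.count 3) (m.count 4) (m.count 5) (m.count 6) (m.count 7) (m.count 8) (m.count 9) (m.count 10) := by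
  ext x
  simp only [ms, Multiset.count_add, Multiset.count_replicate]
  by_cases hx : x ∈ m
  · have h3 := h2 x hx
    have h4 : x ≤ m.sum := Multiset.single_le_sum (by intro x _; exact Nat.zero_le x) x hx
    have h5 : x ≤ 10 := by omega
    interval_cases x <;> simp
  · have h0 : m.count x = 0 := Multiset.count_eq_zero.mpr hx
    rw [h0]
    by_cases h3 : 2 ≤ x ∧ x ≤ 10
    · obtain ⟨h3, h4⟩ := h3
      interval_cases x <;> simp [hx]
    · have e : ∀ k, 2 ≤ k → k ≤ 10 → ¬ (k = x) := fun k h4 h5 h6 => h3 (h6 ▸ ⟨h4, h5⟩)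
      simp [e]

/-- check at one tuple -/
def leaf (c2 c3 c4 c5 c6 c7 c8 c9 c10 : ℕ) : Bool :=
  !(decide (2 * c2 + 3 * c3 + 4 * c4 + 5 * c5 + 6 * c6 + 7 * c7 + 8 * c8 + 9 * c9 + 10 * c10 ≤ 10)) ||
  !(decide ((2 * c2 + 3 * c3 + 4 * c4 + 5 * c5 + 6 * c6 + 7 * c7 + 8 * c8 + 9 * c9 + 10 * c10 + (c2 + c3 + c4 + c5 + c6 + c7 + c8 + c9 + c10)) % 2 = 0)) ||
  decide ((ms c2 c3 c4 c5 c6 c7 c8 c9 c10).lcm ∈ [1, 2, 3, 4, 5, 6, 7, 8, 9, 10, 12, 15, 21])

theorem chkB : ((List.range 6).all fun c2 => (List.range 4).all fun c3 => (List.range 3).all fun c4 => (List.range 3).all fun c5 =>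
    (List.range 2).all fun c6 => (List.range 2).all fun c7 => (List.range 2).all fun c8 => (List.range 2).all fun c9 => (List.range 2).all fun c10 =>
      leaf c2 c3 c4 c5 c6 c7 c8 c9 c10) = true := by
  decide +kernel

theorem chk (c2 : ℕ) (h2 : c2 < 6) (c3 : ℕ) (h3 : c3 < 4) (c4 : ℕ) (h4 : c4 < 3) (c5 : ℕ) (h5 : c5 < 3) (c6 : ℕ) (h6 : c6 < 2)
    (c7 : ℕ) (h7 : c7 < 2) (c8 : ℕ) (h8 : c8 < 2) (c9 : ℕ) (h9 : c9 < 2) (c10 : ℕ) (h10 : c10 < 2)
    (hs : 2 * c2 + 3 * c3 + 4 * c4 + 5 * c5 + 6 * c6 + 7 * c7 + 8 * c8 + 9 * c9 + 10 * c10 ≤ 10)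
    (he : (2 * c2 + 3 * c3 + 4 * c4 + 5 * c5 + 6 * c6 + 7 * c7 + 8 * c8 + 9 * c9 + 10 * c10 + (c2 + c3 + c4 + c5 + c6 + c7 + c8 + c9 + c10)) % 2 = 0) :
    (ms c2 c3 c4 c5 c6 c7 c8 c9 c10).lcm ∈ [1, 2, 3, 4, 5, 6, 7, 8, 9, 10, 12, 15, 21] := by
  have h := chkB
  simp only [List.all_eq_true, List.mem_range] at h
  have h' := h c2 h2 c3 h3 c4 h4 c5 h5 c6 h6 c7 h7 c8 h8 c9 h9 c10 h10
  rw [leaf, Bool.or_eq_true, Bool.or_eq_true] at h'
  rcases h' with (h' | h') | h'
  · rw [Bool.not_eq_true', decide_eq_false_iff_not] at h'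
    exact absurd hs h'
  · rw [Bool.not_eq_true', decide_eq_false_iff_not] at h'
    exact absurd he h'
  · exact of_decide_eq_true h'

theorem lcm10 (m : Multiset ℕ) (h2 : ∀ a ∈ m, 2 ≤ a) (hs : m.sum ≤ 10) (hev : Even (m.sum + Multiset.card m)) :
    m.lcm ∈ [1, 2, 3, 4, 5, 6, 7, 8, 9, 10, 12, 15, 21] := by
  obtain ⟨c2, e2⟩ : ∃ c, c = m.count 2 := ⟨_, rfl⟩
  obtain ⟨c3, e3⟩ : ∃ c, c = m.count 3 := ⟨_, rfl⟩
  obtain ⟨c4, e4⟩ : ∃ c, c = m.count 4 := ⟨_, rfl⟩
  obtain ⟨c5, e5⟩ : ∃ c, c = m.count 5 := ⟨_, rfl⟩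
  obtain ⟨c6, e6⟩ : ∃ c, c = m.count 6 := ⟨_, rfl⟩
  obtain ⟨c7, e7⟩ : ∃ c, c = m.count 7 := ⟨_, rfl⟩
  obtain ⟨c8, e8⟩ : ∃ c, c = m.count 8 := ⟨_, rfl⟩
  obtain ⟨c9, e9⟩ : ∃ c, c = m.count 9 := ⟨_, rfl⟩
  obtain ⟨c10, e10⟩ : ∃ c, c = m.count 10 := ⟨_, rfl⟩
  have hm : m = ms c2 c3 c4 c5 c6 c7 c8 c9 c10 := by rw [e2, e3, e4, e5, e6, e7, e8, e9, e10]; exact ms_eq m h2 hs
  have hsum : m.sum = 2 * c2 + 3 * c3 + 4 * c4 + 5 * c5 + 6 * c6 + 7 * c7 + 8 * c8 + 9 * c9 + 10 * c10 := by
    rw [hm, ms]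
    simp only [Multiset.sum_add, Multiset.sum_replicate, smul_eq_mul]
    ring
  have hcard : Multiset.card m = c2 + c3 + c4 + c5 + c6 + c7 + c8 + c9 + c10 := by
    rw [hm, ms]
    simp only [Multiset.card_add, Multiset.card_replicate]
  rw [hm]
  apply chk c2 (by omega) c3 (by omega) c4 (by omega) c5 (by omega) c6 (by omega) c7 (by omega) c8 (by omega) c9 (by omega) c10 (by omega)
  · omega
  · rw [← hsum, ← hcard]
    exact Nat.even_iff.mp hev

theorem ord10 : Set.range (orderOf : alternatingGroup (Fin 10) → ℕ) = {1, 2, 3, 4, 5, 6, 7, 8, 9, 10, 12, 15, 21} := by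
  apply Set.Subset.antisymm
  · rintro _ ⟨g, rfl⟩
    obtain ⟨h1, h2, h3, h4⟩ := alt_type g
    rw [h4]
    have := lcm10 _ h2 h1 h3
    simpa only [List.mem_cons, List.not_mem_nil, or_false, Set.mem_insert_iff, Set.mem_singleton_iff] using this
  · have hk : ∀ (m : Multiset ℕ), m.sum ≤ 10 → (∀ a ∈ m, 2 ≤ a) → (m.sum + Multiset.card m) % 2 = 0 → m.lcm ∈ Set.range (orderOf : alternatingGroup (Fin 10) → ℕ) := by
      intro m h1 h2 h3
      exact exists_alt m h1 h2 (Nat.even_iff.mpr h3)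
    intro x hx
    simp only [Set.mem_insert_iff, Set.mem_singleton_iff] at hx
    rcases hx with rfl | rfl | rfl | rfl | rfl | rfl | rfl | rfl | rfl | rfl | rfl | rfl | rfl
    · exact hk 0 (by decide) (by decide) (by decide)
    · exact hk {2, 2} (by decide) (by decide) (by decide)
    · exact hk {3} (by decide) (by decide) (by decide)
    · exact hk {4, 2} (by decide) (by decide) (by decide)
    · exact hk {5} (by decide) (by decide) (by decide)
    · exact hk {3, 2, 2} (by decide) (by decide) (by decide)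
    · exact hk {7} (by decide) (by decide) (by decide)
    · exact hk {8, 2} (by decide) (by decide) (by decide)
    · exact hk {9} (by decide) (by decide) (by decide)
    · exact hk {5, 2, 2} (by decide) (by decide) (by decide)
    · exact hk {4, 3, 2} (by decide) (by decide) (by decide)
    · exact hk {5, 3} (by decide) (by decide) (by decide)
    · exact hk {7, 3} (by decide) (by decide) (by decide)

end Cfsg.Agent.H15.AOrd
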