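import Mathlib
import Cfsg.Agent.H15_TOR5

set_option autoImplicit false
open Matrix Module

namespace Cfsg.Agent.H15.TOR

open Cfsg.Agent.H15.M2 Cfsg.Agent.H15.PS

open scoped Pointwise

variable {F : Type*} [Field F] [Fintype F] [DecidableEq F]

local notation "M₂" => Matrix (Fin 2) (Fin 2) F
local notation "SL₂" => Matrix.SpecialLinearGroup (Fin 2) F

variable {c : Matrix.SpecialLinearGroup (Fin 2) F}

theorem neg_one_of (h2 : (2 : F) ≠ 0) {y : SL₂} (h1 : y * y = 1) (hne : y ≠ 1) : (y : M₂) = -1 := by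
  obtain ⟨e, he, h3⟩ := eq_sc_of_not_NS (sq_one h2 h1)
  rcases mul_self_eq_one_iff.mp he with rfl | rfl
  · exfalso
    apply hne
    rw [h3]
    apply Subtype.ext
    show (sc (1 : F) he : M₂) = 1
    rw [sc_coe, one_smul]
  · rw [h3, sc_coe, neg_one_smul]

theorem norm_eight (hodd : Odd (Fintype.card F)) (S : Sylow 2 SL₂)
    (hc : (c : M₂).trace ^ 2 ≠ 4) (h4 : 4 ∣ Nat.card (TE c)) (h8 : ¬ 8 ∣ Nat.card (TE c))
    (hS : (S : Subgroup SL₂) ≤ Subgroup.normalizer ((TE c : Subgroup SL₂) : Set SL₂))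
    (hcS : Nat.card S = 2 * 2 ^ (Nat.card (TE c)).factorization 2) :
    Nat.card S = 8 ∧ Nat.card (Subgroup.normalizer ((S : Subgroup SL₂) : Set SL₂)) = 24 ∧
      ∃ i j o : SL₂, i ∈ S ∧ j ∈ S ∧ o ∈ Subgroup.normalizer ((S : Subgroup SL₂) : Set SL₂) ∧ (i : M₂) * (i : M₂) = -1 ∧
        (j : M₂) * (j : M₂) = -1 ∧ (j : M₂) * (i : M₂) = -((i : M₂) * (j : M₂)) ∧
        o * i * o⁻¹ = j ∧ o * j * o⁻¹ = i * j ∧ o ^ 3 = 1 ∧ o ≠ 1 ∧ (S : Subgroup SL₂) = Subgroup.closure {i, j} := by
  classical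
  have h2 := two_ne_zero_of_odd hodd
  have hns := NS_of_disc hc
  have hT0 : Nat.card (TE c) ≠ 0 := Nat.card_pos.ne'
  have hS8 : Nat.card S = 8 := by
    have h5 : (Nat.card (TE c)).factorization 2 = 2 := by
      have h6 : 2 ≤ (Nat.card (TE c)).factorization 2 := (Nat.Prime.pow_dvd_iff_le_factorization Nat.prime_two hT0).mp (show 2 ^ 2 ∣ Nat.card (TE c) from h4)
      have h7 : ¬ 3 ≤ (Nat.card (TE c)).factorization 2 := by
        intro h
        exact h8 ((Nat.Prime.pow_dvd_iff_le_factorization Nat.prime_two hT0).mpr h)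
      omega
    rw [hcS, h5]; norm_num
  obtain ⟨w, hw, hwT⟩ := exists_out S hcS
  obtain ⟨x, hx, hxo⟩ := exists_order hc hodd h4
  have hxS : x ∈ S := two_mem hodd S hc hS hx (k := 2) (by rw [← orderOf_dvd_iff_pow_eq_one, hxo]; norm_num)
  have hxx : x * x ≠ 1 := by
    intro h5
    rw [← sq, ← orderOf_dvd_iff_pow_eq_one, hxo] at h5
    norm_num at h5
  have hxns : NS (x : M₂) := by
    intro hn
    exact hxx ((sq_one_iff h2).mpr (not_not.mpr hn))
  have hxx2 : (x : M₂) * (x : M₂) = -1 := by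
    apply neg_one_of h2 (y := x * x) _ hxx
    have h5 : x ^ 4 = 1 := by rw [← hxo]; exact pow_orderOf_eq_one x
    rw [← h5, pow_succ, pow_succ, pow_succ, pow_one]
    simp only [mul_assoc]
  have hwinv := ((norm_iff h2 hc w).mp (hS hw)).resolve_left hwT
  have hww : (w : M₂) * (w : M₂) = -1 := sq_of_inverts h2 hns hwinv
  have hwx : (w : M₂) * (x : M₂) = -((x : M₂) * (w : M₂)) := by
    have h5 := inverts hns hwinv hx
    have h6 : w * x = x⁻¹ * w := by rw [← h5]; group
    have h7 : (w : M₂) * (x : M₂) = ((x⁻¹ : SL₂) : M₂) * (w : M₂) := congrArg Subtype.val h6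
    rw [h7, inv_val, trace_zero hxx2, zero_smul, zero_sub, neg_mul]
  obtain ⟨o, ho1, ho2, ho3, ho4⟩ := exists_omega h2 hxx2 hww hwx
  -- generation
  have hgen : (S : Subgroup SL₂) = Subgroup.closure {x, w} := by
    symm
    have hle : Subgroup.closure {x, w} ≤ (S : Subgroup SL₂) := by
      rw [Subgroup.closure_le]
      rintro y (rfl | rfl)
      · exact hxS
      · exact hw
    apply Subgroup.eq_of_le_of_card_ge hle
    have h5 : Subgroup.zpowers x ≤ Subgroup.closure {x, w} := by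
      rw [Subgroup.zpowers_le]
      exact Subgroup.subset_closure (Set.mem_insert _ _)
    have h6 := Subgroup.card_dvd_of_le h5
    rw [Nat.card_zpowers, hxo] at h6
    have h7 := Subgroup.card_dvd_of_le hle
    have h9 : Nat.card (Subgroup.closure ({x, w} : Set SL₂)) ≠ 4 := by
      intro h10
      have h11 := Subgroup.eq_of_le_of_card_ge h5 (by rw [h10, Nat.card_zpowers, hxo])
      have h12 : w ∈ Subgroup.zpowers x := by
        rw [h11]; exact Subgroup.subset_closure (Set.mem_insert_of_mem _ rfl)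
      apply hwT
      have h13 : Subgroup.zpowers x ≤ TE c := by rw [Subgroup.zpowers_le]; exact hx
      exact h13 h12
    have h10 : Nat.card (S : Subgroup SL₂) = 8 := hS8
    rw [h10] at h7 ⊢
    obtain ⟨a, ha⟩ := h6
    rw [ha] at h7 h9 ⊢
    have hale : 4 * a ≤ 8 := Nat.le_of_dvd (by norm_num) h7
    have : a ≠ 0 := by
      rintro rfl
      have : 0 < Nat.card (Subgroup.closure ({x, w} : Set SL₂)) := Nat.card_pos
      omega
    omega
  have hoS : ∀ y ∈ (S : Subgroup SL₂), o * y * o⁻¹ ∈ (S : Subgroup SL₂) := by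
    intro y hy
    have h5 : (Subgroup.closure {x, w}).map (MulAut.conj o).toMonoidHom ≤ (S : Subgroup SL₂) := by
      rw [Subgroup.map_le_iff_le_comap, Subgroup.closure_le]
      rintro z (rfl | rfl)
      · show o * z * o⁻¹ ∈ (S : Subgroup SL₂)
        rw [ho1]; exact hw
      · show o * z * o⁻¹ ∈ (S : Subgroup SL₂)
        rw [ho2]; exact mul_mem hxS hw
    apply h5
    rw [← hgen]
    exact Subgroup.mem_map_of_mem _ hy
  have hoN : o ∈ Subgroup.normalizer ((S : Subgroup SL₂) : Set SL₂) := by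
    rw [Subgroup.mem_normalizer_iff]
    intro y
    constructor
    · exact hoS y
    · intro hy
      have h5 := hoS _ (hoS _ hy)
      have h6 : o * (o * (o * y * o⁻¹) * o⁻¹) * o⁻¹ = y := by
        have h7 : o * (o * (o * y * o⁻¹) * o⁻¹) * o⁻¹ = o ^ 3 * y * (o ^ 3)⁻¹ := by
          rw [pow_succ, pow_succ, pow_one]; group
        rw [h7, ho3]; group
      rw [h6] at h5
      exact h5
  refine ⟨hS8, ?_, x, w, o, hxS, hw, hoN, hxx2, hww, hwx, ho1, ho2, ho3, ho4, hgen⟩
  -- divisibility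
  have h24 : 24 ∣ Nat.card (Subgroup.normalizer ((S : Subgroup SL₂) : Set SL₂)) := by
    have h5 : 8 ∣ Nat.card (Subgroup.normalizer ((S : Subgroup SL₂) : Set SL₂)) := by
      rw [← hS8]; exact Subgroup.card_dvd_of_le Subgroup.le_normalizer
    have h6 : 3 ∣ Nat.card (Subgroup.normalizer ((S : Subgroup SL₂) : Set SL₂)) := by
      have h7 : orderOf (⟨o, hoN⟩ : Subgroup.normalizer ((S : Subgroup SL₂) : Set SL₂)) = 3 := by
        rw [Subgroup.orderOf_mk]
        exact orderOf_eq_prime ho3 ho4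
      rw [← h7]; exact orderOf_dvd_natCard _
    exact Nat.Coprime.mul_dvd_of_dvd_of_dvd (by norm_num) h6 h5
  -- upper bound
  have hcap : Nat.card ((S : Subgroup SL₂) ⊓ TE c : Subgroup SL₂) ≤ 4 := by
    have h5 : Nat.card ((S : Subgroup SL₂) ⊓ TE c : Subgroup SL₂) ∣ 8 := by
      rw [← hS8]; exact Subgroup.card_dvd_of_le inf_le_left
    have h6 : Nat.card ((S : Subgroup SL₂) ⊓ TE c : Subgroup SL₂) ≠ 8 := by
      intro h7
      have h9 := Subgroup.eq_of_le_of_card_ge (inf_le_left : (S : Subgroup SL₂) ⊓ TE c ≤ S) (by rw [h7]; exact hS8.le)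
      apply hwT
      have : w ∈ (S : Subgroup SL₂) ⊓ TE c := by rw [h9]; exact hw
      exact this.2
    obtain ⟨a, ha⟩ := h5
    rcases Nat.lt_or_ge a 2 with h7 | h7
    · interval_cases a
      · omega
      · omega
    · nlinarith
  have hup : Nat.card (Subgroup.normalizer ((S : Subgroup SL₂) : Set SL₂)) ≤ 24 := by
    haveI : Fintype (Subgroup.normalizer ((S : Subgroup SL₂) : Set SL₂)) := Fintype.ofFinite _
    rw [Nat.card_eq_fintype_card, ← Finset.card_univ]
    let f : Subgroup.normalizer ((S : Subgroup SL₂) : Set SL₂) → SL₂ := fun g => (g : SL₂) * x * (g : SL₂)⁻¹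
    have h5 : (Finset.univ : Finset (Subgroup.normalizer ((S : Subgroup SL₂) : Set SL₂))).card ≤
        4 * (Finset.univ.image f).card := by
      apply Finset.card_le_mul_card_image
      intro a ha
      obtain ⟨g₀, _, rfl⟩ := Finset.mem_image.mp ha
      refine le_trans ?_ hcap
      rw [← Nat.card_eq_finsetCard]
      have hinto : ∀ g : {g // g ∈ Finset.univ.filter (fun g => f g = f g₀)}, (g₀ : SL₂)⁻¹ * (g.1 : SL₂) ∈ (S : Subgroup SL₂) ⊓ TE c := by
        intro g
        have h6 : (g.1 : SL₂) * x * (g.1 : SL₂)⁻¹ = (g₀ : SL₂) * x * (g₀ : SL₂)⁻¹ := (Finset.mem_filter.mp g.2).2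
        have h7 : (g₀ : SL₂)⁻¹ * (g.1 : SL₂) ∈ TE c := by
          rw [← cent_eq hns hx hxns, Subgroup.mem_centralizer_singleton_iff]
          calc (g₀ : SL₂)⁻¹ * (g.1 : SL₂) * x = (g₀ : SL₂)⁻¹ * ((g.1 : SL₂) * x * (g.1 : SL₂)⁻¹) * g.1 := by group
            _ = x * ((g₀ : SL₂)⁻¹ * (g.1 : SL₂)) := by rw [h6]; group
        exact ⟨tor_norm_mem hodd S hc hS hcS (mul_mem (inv_mem g₀.2) g.1.2) h7, h7⟩
      apply Nat.card_le_card_of_injective (fun g => (⟨_, hinto g⟩ : ((S : Subgroup SL₂) ⊓ TE c : Subgroup SL₂)))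
      intro g g' h
      have h6 : (g₀ : SL₂)⁻¹ * (g.1 : SL₂) = (g₀ : SL₂)⁻¹ * (g'.1 : SL₂) := congrArg Subtype.val h
      exact Subtype.ext (Subtype.ext (mul_left_cancel h6))
    have h6 : (Finset.univ.image f).card ≤ 6 := by
      have hm : (-1 : F) * -1 = 1 := by ring
      have h7 : Finset.univ.image f ⊆ ((Finset.univ.filter (fun y : SL₂ => y ∈ S)).erase 1).erase (sc (-1) hm) := by
        intro y hy
        obtain ⟨g, _, rfl⟩ := Finset.mem_image.mp hy
        have hgns : NS (((g : SL₂) * x * (g : SL₂)⁻¹ : SL₂) : M₂) := conj_NS (isConj_iff.mpr ⟨g, rfl⟩) hxns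
        rw [Finset.mem_erase, Finset.mem_erase, Finset.mem_filter]
        refine ⟨?_, ?_, Finset.mem_univ _, (Subgroup.mem_normalizer_iff.mp g.2 x).mp hxS⟩
        · intro h; 
          have h' : (g : SL₂) * x * (g : SL₂)⁻¹ = sc (-1) hm := h
          rw [h'] at hgns; exact not_NS_sc _ _ hgns
        · intro h
          have h' : (g : SL₂) * x * (g : SL₂)⁻¹ = 1 := h
          rw [h'] at hgns
          apply hgns
          simp
      refine (Finset.card_le_card h7).trans ?_
      have h9 : (Finset.univ.filter (fun y : SL₂ => y ∈ S)).card = 8 := by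
        rw [← hS8, ← Nat.card_eq_finsetCard]
        exact Nat.card_congr (Equiv.subtypeEquivRight (fun y => by simp; rfl))
      have h10 : (1 : SL₂) ∈ Finset.univ.filter (fun y : SL₂ => y ∈ S) := Finset.mem_filter.mpr ⟨Finset.mem_univ _, one_mem _⟩
      have h11 : sc (-1) hm ∈ (Finset.univ.filter (fun y : SL₂ => y ∈ S)).erase 1 := by
        rw [Finset.mem_erase, Finset.mem_filter]
        refine ⟨?_, Finset.mem_univ _, ?_⟩
        · intro h
          have h12 : (sc (-1 : F) hm : M₂) = 1 := congrArg Subtype.val h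
          rw [sc_coe] at h12
          have h13 := congrFun (congrFun h12 0) 0
          simp at h13
          apply h2; linear_combination -h13
        · have h12 : sc (-1) hm = x * x := by
            apply Subtype.ext
            show (sc (-1 : F) hm : M₂) = (x : M₂) * (x : M₂)
            rw [hxx2, sc_coe, neg_one_smul]
          rw [h12]; exact mul_mem hxS hxS
      rw [Finset.card_erase_of_mem h11, Finset.card_erase_of_mem h10, h9]
    omega
  have hpos : 0 < Nat.card (Subgroup.normalizer ((S : Subgroup SL₂) : Set SL₂)) := Nat.card_pos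
  obtain ⟨a, ha⟩ := h24
  omega

end Cfsg.Agent.H15.TOR
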