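import Mathlib
import Cfsg.Agent.H15_TOR6

set_option autoImplicit false
open Matrix Module

namespace Cfsg.Agent.H15.TOR

open Cfsg.Agent.H15.M2 Cfsg.Agent.H15.PS

variable {F : Type*} [Field F] [Fintype F] [DecidableEq F]

local notation "M₂" => Matrix (Fin 2) (Fin 2) F
local notation "SL₂" => Matrix.SpecialLinearGroup (Fin 2) F

/-- auxiliary function -/
def dl (a : Fˣ) : F := (a : F) - ((a⁻¹ : Fˣ) : F)

theorem dl_zero {a : Fˣ} : dl a = 0 ↔ a * a = 1 := by
  rw [dl, sub_eq_zero]
  constructor
  · intro h
    have := Units.ext h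
    nth_rewrite 2 [this]
    exact mul_inv_cancel a
  · intro h
    rw [inv_eq_of_mul_eq_one_right h]

theorem comm_B (a a' : Fˣ) (b b' : F) :
    Commute (eBS.symm (a, b)) (eBS.symm (a', b')) ↔ b' * dl a = b * dl a' := by
  have h1 : Commute (eBS.symm (a, b)) (eBS.symm (a', b')) ↔
      (utS a b : M₂) * (utS a' b' : M₂) = (utS a' b' : M₂) * (utS a b : M₂) := by
    constructor
    · intro h
      exact congrArg (fun x : BS F => ((x : SL₂) : M₂)) h
    · intro h
      exact Subtype.ext (Subtype.ext h)
  rw [h1, utS_coe, utS_coe]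
  constructor
  · intro h
    have := congrFun (congrFun h 0) 1
    simp only [Matrix.mul_apply, Fin.sum_univ_two, Matrix.of_apply, Matrix.cons_val', Matrix.cons_val_zero,
      Matrix.cons_val_one, Matrix.cons_val_fin_one] at this
    rw [dl, dl]
    linear_combination this
  · intro h
    rw [dl, dl] at h
    ext i j
    fin_cases i <;> fin_cases j <;> simp [Matrix.mul_apply, Fin.sum_univ_two, mul_comm]
    simp only [← Units.val_inv_eq_inv_val]
    linear_combination h

theorem card_aa (h2 : (2 : F) ≠ 0) : Nat.card {a : Fˣ // a * a = 1} = 2 := by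
  rw [← card_sq_one (F := F) h2]
  exact Nat.card_congr
    { toFun := fun a => ⟨a.1, val_sq a.2⟩
      invFun := fun e => ⟨Units.mk0 e.1 (left_ne_zero_of_mul_eq_one e.2), Units.ext e.2⟩
      left_inv := fun a => Subtype.ext (Units.ext rfl)
      right_inv := fun e => rfl }

theorem count_B (h2 : (2 : F) ≠ 0) (a : Fˣ) (b : F) : Nat.card {p : Fˣ × F // p.2 * dl a = b * dl p.1} =
    if a * a = 1 then (if b = 0 then (Fintype.card F - 1) * Fintype.card F else 2 * Fintype.card F) else Fintype.card F - 1 := by
  by_cases ha : a * a = 1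
  · rw [if_pos ha]
    have hd := dl_zero.mpr ha
    by_cases hb : b = 0
    · rw [if_pos hb]
      rw [Nat.card_congr (Equiv.subtypeUnivEquiv (fun p : Fˣ × F => by rw [hd, hb]; ring)), Nat.card_prod,
        Nat.card_units, Nat.card_eq_fintype_card]
    · rw [if_neg hb]
      have e : {p : Fˣ × F // p.2 * dl a = b * dl p.1} ≃ {a : Fˣ // a * a = 1} × F :=
        { toFun := fun p => (⟨p.1.1, dl_zero.mp (by
            have h3 : b * dl p.1.1 = 0 := p.2.symm.trans (by simp only [hd, mul_zero])
            exact (mul_eq_zero.mp h3).resolve_left hb)⟩, p.1.2)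
          invFun := fun p => ⟨(p.1.1, p.2), by
            show p.2 * dl a = b * dl p.1.1
            rw [hd, dl_zero.mpr p.1.2]; ring⟩
          left_inv := fun _ => rfl
          right_inv := fun _ => rfl }
      rw [Nat.card_congr e, Nat.card_prod, card_aa h2, Nat.card_eq_fintype_card]
  · rw [if_neg ha]
    have hd : dl a ≠ 0 := fun h => ha (dl_zero.mp h)
    have e : {p : Fˣ × F // p.2 * dl a = b * dl p.1} ≃ Fˣ :=
      { toFun := fun p => p.1.1
        invFun := fun a' => ⟨(a', b * dl a' / dl a), div_mul_cancel₀ _ hd⟩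
        left_inv := fun p => by
          apply Subtype.ext
          apply Prod.ext
          · rfl
          · exact (eq_div_of_mul_eq hd p.2).symm
        right_inv := fun _ => rfl }
    rw [Nat.card_congr e, Nat.card_units, Nat.card_eq_fintype_card]

theorem sum_B (h2 : (2 : F) ≠ 0) (f : Fˣ → ℕ) (x y : ℕ) (hx : ∀ a, a * a = 1 → f a = x) (hy : ∀ a, a * a ≠ 1 → f a = y) :
    ∑ a : Fˣ, f a = 2 * x + (Fintype.card F - 3) * y := by
  rw [← Finset.sum_filter_add_sum_filter_not (s := (Finset.univ : Finset Fˣ)) (fun a => a * a = 1),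
    Finset.sum_congr rfl (fun a ha => hx a (Finset.mem_filter.mp ha).2),
    Finset.sum_congr (s₁ := Finset.univ.filter (fun a : Fˣ => ¬ a * a = 1)) rfl (fun a ha => hy a (Finset.mem_filter.mp ha).2),
    Finset.sum_const, Finset.sum_const, smul_eq_mul, smul_eq_mul]
  have h3 : (Finset.univ.filter (fun a : Fˣ => a * a = 1)).card = 2 := by
    rw [← card_aa (F := F) h2, ← Nat.card_eq_finsetCard]
    exact Nat.card_congr (Equiv.subtypeEquivRight (fun y => by simp))
  have h4 := Finset.card_filter_add_card_filter_not (s := (Finset.univ : Finset Fˣ)) (fun a => a * a = 1)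
  rw [h3, Finset.card_univ, Fintype.card_units] at h4
  have h5 : (Finset.univ.filter (fun a : Fˣ => ¬ a * a = 1)).card = Fintype.card F - 3 := by omega
  rw [h3, h5]

theorem card_BS_nat : Nat.card (BS F) = (Fintype.card F - 1) * Fintype.card F := by
  rw [Nat.card_congr eBS, Nat.card_prod, Nat.card_units, Nat.card_eq_fintype_card]

/-- the number of classes of the Borel subgroup -/
theorem classes_B (h2 : (2 : F) ≠ 0) : Nat.card (ConjClasses (BS F)) = Fintype.card F + 3 := by
  classical
  have key := card_comm_eq_card_conjClasses_mul_card (BS F)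
  have h3 : Nat.card {p : BS F × BS F // Commute p.1 p.2} = ∑ g : BS F, Nat.card {h : BS F // Commute g h} := by
    rw [← Nat.card_sigma]
    exact Nat.card_congr (Equiv.subtypeProdEquivSigmaSubtype (fun a b : BS F => Commute a b))
  rw [h3, ← Equiv.sum_comp eBS.symm, Fintype.sum_prod_type] at key
  have h4 : ∀ (a : Fˣ) (b : F), Nat.card {h : BS F // Commute (eBS.symm (a, b)) h} =
      if a * a = 1 then (if b = 0 then (Fintype.card F - 1) * Fintype.card F else 2 * Fintype.card F) else Fintype.card F - 1 := by
    intro a b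
    rw [← count_B h2 a b]
    refine Nat.card_congr ?_
    refine (Equiv.subtypeEquiv eBS (fun h => ?_))
    obtain ⟨⟨a', b'⟩, rfl⟩ := eBS.symm.surjective h
    rw [comm_B, Equiv.apply_symm_apply]
  have hq := one_lt_q (F := F)
  have h5 : ∑ a : Fˣ, ∑ b : F, Nat.card {h : BS F // Commute (eBS.symm (a, b)) h} =
      2 * ((Fintype.card F - 1) * Fintype.card F + (Fintype.card F - 1) * (2 * Fintype.card F)) +
      (Fintype.card F - 3) * (Fintype.card F * (Fintype.card F - 1)) := by
    apply sum_B h2
    · intro a ha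
      rw [Finset.sum_congr rfl (fun b _ => h4 a b)]
      simp only [if_pos ha]
      rw [← Finset.add_sum_erase _ _ (Finset.mem_univ (0 : F)), if_pos rfl,
        Finset.sum_congr rfl (fun b hb => if_neg (Finset.ne_of_mem_erase hb)), Finset.sum_const, smul_eq_mul,
        Finset.card_erase_of_mem (Finset.mem_univ _), Finset.card_univ]
    · intro a ha
      rw [Finset.sum_congr rfl (fun b _ => h4 a b)]
      simp only [if_neg ha]
      rw [Finset.sum_const, smul_eq_mul, Finset.card_univ]
  rw [h5, card_BS_nat] at key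
  obtain ⟨k, hk⟩ : ∃ k, Fintype.card F = k + 3 := by
    refine ⟨Fintype.card F - 3, ?_⟩
    have : Fintype.card F ≠ 2 := by
      intro h
      apply h2
      have h1 := Nat.cast_card_eq_zero F
      rw [h] at h1
      exact_mod_cast h1
    omega
  rw [hk] at key ⊢
  rw [show k + 3 - 1 = k + 2 by omega, show k + 3 - 3 = k by omega] at key
  have hpos : 0 < (k + 2) * (k + 3) := by positivity
  apply Nat.eq_of_mul_eq_mul_right hpos
  rw [← key]; ring

end Cfsg.Agent.H15.TOR
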