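import Mathlib
import Cfsg.Agent.H15_TOR7
import Cfsg.Agent.H1_Deg

set_option autoImplicit false
open Matrix Module

namespace Cfsg.Agent.H15.TOR

open Cfsg.Agent.H15.M2 Cfsg.Agent.H15.PS

variable {F : Type*} [Field F] [Fintype F] [DecidableEq F]

local notation "M₂" => Matrix (Fin 2) (Fin 2) F
local notation "SL₂" => Matrix.SpecialLinearGroup (Fin 2) F

theorem nat_div_two_c {n : ℕ} (h : Even n) : (((n / 2 : ℕ)) : ℂ) = (n : ℂ) / 2 := by
  obtain ⟨m, rfl⟩ := h
  rw [← two_mul, Nat.mul_div_cancel_left m (by norm_num)]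
  push_cast; ring

theorem count_lhs (hodd : Odd (Fintype.card F)) (l : ℕ) (hl : l ≠ 1) :
    Nat.card {χ : Cfsg.IrrCharacter SL₂ // ¬ l ∣ Cfsg.charDegree (χ : SL₂ → ℂ)} =
      1 + (if l ∣ Fintype.card F then 0 else 1) + (Fintype.card F - 3) / 2 * (if l ∣ Fintype.card F + 1 then 0 else 1) +
        2 * (if l ∣ (Fintype.card F + 1) / 2 then 0 else 1) + ((Fintype.card F - 1) / 2 * (if l ∣ Fintype.card F - 1 then 0 else 1) +
        2 * (if l ∣ (Fintype.card F - 1) / 2 then 0 else 1)) := by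
  classical
  have h2 := two_ne_zero_of_odd hodd
  have hq := one_lt_q (F := F)
  obtain ⟨k, hk⟩ := hodd
  have h3 : ∀ {ψ : Cfsg.IrrCharacter SL₂} {n : ℕ}, (ψ : SL₂ → ℂ) 1 = n → Cfsg.charDegree (ψ : SL₂ → ℂ) = n :=
    fun h => Cfsg.Agent.H1.Deg.deg_eq h
  have h4 : (Nat.card {χ : Cfsg.IrrCharacter SL₂ // ¬ l ∣ Cfsg.charDegree (χ : SL₂ → ℂ)} : ℂ) =
      ∑ χ : Cfsg.IrrCharacter SL₂, if l ∣ Cfsg.charDegree (χ : SL₂ → ℂ) then (0 : ℂ) else 1 := by
    have h5 : ∀ χ ∈ (Finset.univ : Finset (Cfsg.IrrCharacter SL₂)), (if l ∣ Cfsg.charDegree (χ : SL₂ → ℂ) then (0 : ℂ) else 1) =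
        if ¬ l ∣ Cfsg.charDegree (χ : SL₂ → ℂ) then 1 else 0 := by
      intro χ _
      split_ifs <;> rfl
    rw [Finset.sum_congr rfl h5, Finset.sum_boole, ← Fintype.card_subtype, Nat.card_eq_fintype_card]
  have hq1 : ((Fintype.card F - 1 : ℕ) : ℂ) = (Fintype.card F : ℂ) - 1 := by
    rw [Nat.cast_sub hq.le, Nat.cast_one]
  have e1 : ∀ χ ∈ (CP : Finset (Cfsg.IrrCharacter SL₂)), (if l ∣ Cfsg.charDegree (χ : SL₂ → ℂ) then (0 : ℂ) else 1) =
      if l ∣ Fintype.card F + 1 then 0 else 1 := by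
    intro χ hχ
    rw [h3 (n := Fintype.card F + 1) (by rw [(mem_CP.mp hχ).deg]; push_cast; ring)]
  have e2 : ∀ χ ∈ (CH : Finset (Cfsg.IrrCharacter SL₂)), (if l ∣ Cfsg.charDegree (χ : SL₂ → ℂ) then (0 : ℂ) else 1) =
      if l ∣ (Fintype.card F + 1) / 2 then 0 else 1 := by
    intro χ hχ
    have h5 : Even (Fintype.card F + 1) := ⟨k + 1, by omega⟩
    rw [h3 (n := (Fintype.card F + 1) / 2) (by
      have := (mem_CH.mp hχ).deg
      rw [nat_div_two_c h5]; push_cast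
      linear_combination (1 / 2) * this)]
  have e3 : ∀ χ ∈ (CC : Finset (Cfsg.IrrCharacter SL₂)), (if l ∣ Cfsg.charDegree (χ : SL₂ → ℂ) then (0 : ℂ) else 1) =
      if l ∣ Fintype.card F - 1 then 0 else 1 := by
    intro χ hχ
    rw [h3 (n := Fintype.card F - 1) (by rw [(mem_CC.mp hχ).deg, hq1])]
  have e4 : ∀ χ ∈ (CD : Finset (Cfsg.IrrCharacter SL₂)), (if l ∣ Cfsg.charDegree (χ : SL₂ → ℂ) then (0 : ℂ) else 1) =
      if l ∣ (Fintype.card F - 1) / 2 then 0 else 1 := by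
    intro χ hχ
    have h5 : Even (Fintype.card F - 1) := ⟨k, by omega⟩
    rw [h3 (n := (Fintype.card F - 1) / 2) (by
      have := (mem_CD.mp hχ).deg
      rw [nat_div_two_c h5, hq1]
      linear_combination (1 / 2) * this)]
  have e5 : (if l ∣ Cfsg.charDegree ((jO : Cfsg.IrrCharacter SL₂) : SL₂ → ℂ) then (0 : ℂ) else 1) = 1 := by
    rw [h3 (n := 1) (by push_cast; rfl), if_neg]
    intro h; exact hl (Nat.dvd_one.mp h)
  have e6 : (if l ∣ Cfsg.charDegree ((jS : Cfsg.IrrCharacter SL₂) : SL₂ → ℂ) then (0 : ℂ) else 1) =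
      if l ∣ Fintype.card F then 0 else 1 := by
    rw [h3 (n := Fintype.card F) StS_one]
  rw [sum_split_SL, Finset.sum_congr (s₁ := CP) rfl e1, Finset.sum_congr (s₁ := CH) rfl e2, Finset.sum_congr (s₁ := CC) rfl e3,
    Finset.sum_congr (s₁ := CD) rfl e4, e5, e6, Finset.sum_const, Finset.sum_const, Finset.sum_const, Finset.sum_const] at h4
  have c1 := card_CP (F := F)
  have c2 := card_sq_ne_odd h2
  have c3 := card_CH_odd h2
  obtain ⟨c4, c5⟩ := card_CC_CD_odd h2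
  have c6 : (CP : Finset (Cfsg.IrrCharacter SL₂)).card = (Fintype.card F - 3) / 2 := by omega
  have c7 : (CC : Finset (Cfsg.IrrCharacter SL₂)).card = (Fintype.card F - 1) / 2 := by omega
  rw [c3, c5, c6, c7] at h4
  apply Nat.cast_injective (R := ℂ)
  rw [h4]
  push_cast
  simp only [nsmul_eq_mul, Nat.cast_ofNat]

/-- all degrees are prime to `l` when there is an abelian normal subgroup of index prime to `l` -/
theorem all_cnt {N : Type*} [Group N] [Finite N] (l : ℕ) (P : Subgroup N) [P.Normal]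
    (hc : ∀ x ∈ P, ∀ y ∈ P, x * y = y * x) (hi : ¬ l ∣ P.index) :
    Nat.card {ψ : Cfsg.IrrCharacter N // ¬ l ∣ Cfsg.charDegree (ψ : N → ℂ)} = Nat.card (ConjClasses N) := by
  rw [← Cfsg.Agent.H3.CharComplete.card_irr]
  exact Nat.card_congr (Equiv.subtypeUnivEquiv (fun ψ => Cfsg.Agent.H1.Deg.pd_of_abelian P hc hi _ ψ.2))

theorem all_cnt' {N : Type*} [Group N] [Finite N] (l : ℕ) (hi : ¬ l ∣ Nat.card N) :
    Nat.card {ψ : Cfsg.IrrCharacter N // ¬ l ∣ Cfsg.charDegree (ψ : N → ℂ)} = Nat.card (ConjClasses N) := by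
  rw [← Cfsg.Agent.H3.CharComplete.card_irr]
  exact Nat.card_congr (Equiv.subtypeUnivEquiv (fun ψ h => hi (h.trans (Cfsg.Agent.H1.Deg.deg_dvd_card ψ.2))))

/-- class numbers of isomorphic groups -/
theorem card_classes_congr {M N : Type*} [Group M] [Group N] (e : M ≃* N) : Nat.card (ConjClasses M) = Nat.card (ConjClasses N) := by
  refine Nat.card_congr (Equiv.mk (ConjClasses.map e.toMonoidHom) (ConjClasses.map e.symm.toMonoidHom) ?_ ?_)
  · intro x
    induction x using Quotient.inductionOn with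
    | _ a =>
      show ConjClasses.mk (e.symm (e a)) = _
      rw [e.symm_apply_apply]; rfl
  · intro x
    induction x using Quotient.inductionOn with
    | _ a =>
      show ConjClasses.mk (e (e.symm a)) = _
      rw [e.apply_symm_apply]; rfl

/-! ### the defining characteristic -/

/-- unipotent subgroup -/
def US : Subgroup (Matrix.SpecialLinearGroup (Fin 2) F) where
  carrier := {g | ∃ b : F, g = utS 1 b}
  one_mem' := ⟨0, by
    apply Subtype.ext
    rw [utS_coe]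
    ext i j; fin_cases i <;> fin_cases j <;> simp⟩
  mul_mem' := by
    rintro _ _ ⟨b, rfl⟩ ⟨b', rfl⟩
    refine ⟨b + b', ?_⟩
    apply Subtype.ext
    show (utS 1 b : M₂) * (utS 1 b' : M₂) = utS 1 (b + b')
    rw [utS_coe, utS_coe, utS_coe]
    ext i j; fin_cases i <;> fin_cases j <;> simp [Matrix.mul_apply, Fin.sum_univ_two, add_comm]
  inv_mem' := by
    rintro _ ⟨b, rfl⟩
    refine ⟨-b, ?_⟩
    rw [inv_eq_iff_mul_eq_one]
    apply Subtype.ext
    show (utS 1 b : M₂) * (utS 1 (-b) : M₂) = 1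
    rw [utS_coe, utS_coe]
    ext i j; fin_cases i <;> fin_cases j <;> simp [Matrix.mul_apply, Fin.sum_univ_two]

end Cfsg.Agent.H15.TOR
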