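import Mathlib
import Cfsg.Agent.H15_MK1

set_option autoImplicit false
open Matrix Module

namespace Cfsg.Agent.H15.TOR

open Cfsg.Agent.H15.M2 Cfsg.Agent.H15.PS

open scoped Pointwise

theorem norm_equiv {G : Type*} [Group G] {P Q : Subgroup G} (e : G ≃* G) (h : P = Q.map e.toMonoidHom) :
    Nonempty (Subgroup.normalizer (P : Set G) ≃* Subgroup.normalizer (Q : Set G)) := by
  subst h
  rw [← Subgroup.map_equiv_normalizer_eq]
  exact ⟨(Subgroup.equivMapOfInjective _ _ e.injective).symm⟩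

theorem sylow_norm_equiv {G : Type*} [Group G] [Finite G] {l : ℕ} [Fact l.Prime] (P Q : Sylow l G) :
    Nonempty (Subgroup.normalizer ((P : Subgroup G) : Set G) ≃* Subgroup.normalizer ((Q : Subgroup G) : Set G)) := by
  obtain ⟨g, hg⟩ := MulAction.exists_smul_eq G Q P
  apply norm_equiv (MulAut.conj g)
  rw [← hg]
  rfl

theorem cnt_norm {G : Type*} [Group G] [Finite G] (l : ℕ) (S T : Subgroup G)
    (hn : Subgroup.normalizer (S : Set G) ≤ Subgroup.normalizer (T : Set G))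
    (hc : ∀ x ∈ T, ∀ y ∈ T, x * y = y * x) (hi : ¬ l ∣ T.relIndex (Subgroup.normalizer (S : Set G))) :
    Nat.card {ψ : Cfsg.IrrCharacter (Subgroup.normalizer (S : Set G)) // ¬ l ∣ Cfsg.charDegree (ψ : Subgroup.normalizer (S : Set G) → ℂ)} =
      Nat.card (ConjClasses (Subgroup.normalizer (S : Set G))) := by
  haveI : (T.subgroupOf (Subgroup.normalizer (S : Set G))).Normal := by
    constructor
    intro x hx g
    rw [Subgroup.mem_subgroupOf] at hx ⊢
    exact (Subgroup.mem_normalizer_iff.mp (hn g.2) x).mp hx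
  apply all_cnt l (T.subgroupOf (Subgroup.normalizer (S : Set G)))
  · intro x hx y hy
    exact Subtype.ext (hc x hx y hy)
  · exact hi

theorem sum_deg_sq (N : Type*) [Group N] [Finite N] [Fintype (Cfsg.IrrCharacter N)] :
    ∑ χ : Cfsg.IrrCharacter N, (Cfsg.charDegree (χ : N → ℂ)) ^ 2 = Nat.card N := by
  classical
  haveI := Fintype.ofFinite N
  apply Nat.cast_injective (R := ℂ)
  rw [← Cfsg.Agent.H3.CharComplete.sum_sq (G := N)]
  push_cast
  apply Finset.sum_congr rfl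
  intro χ _
  rw [Cfsg.Agent.H1.Deg.coe_deg (Cfsg.Agent.H3.CharIrr.IsIrr.isCharacter χ.2)]

/-- trivial Sylow subgroup -/
theorem mk_triv {G : Type*} [Group G] [Finite G] (l : ℕ) [Fact l.Prime] (S : Sylow l G) (hl : ¬ l ∣ Nat.card G) :
    Nat.card {χ : Cfsg.IrrCharacter G // ¬ l ∣ Cfsg.charDegree (χ : G → ℂ)} =
      Nat.card {ψ : Cfsg.IrrCharacter (Subgroup.normalizer ((S : Subgroup G) : Set G)) //
        ¬ l ∣ Cfsg.charDegree (ψ : Subgroup.normalizer ((S : Subgroup G) : Set G) → ℂ)} := by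
  have hS : (S : Subgroup G) = ⊥ := by
    rw [← Subgroup.card_eq_one]
    have h1 := S.card_eq_multiplicity
    rw [Nat.factorization_eq_zero_of_not_dvd hl, pow_zero] at h1
    exact h1
  have hN : Subgroup.normalizer ((S : Subgroup G) : Set G) = ⊤ := by
    rw [hS]
    exact Subgroup.normalizer_eq_top_iff.mpr inferInstance
  rw [all_cnt' l hl, all_cnt' l (fun h => hl (h.trans (Subgroup.card_subgroup_dvd_card _)))]
  rw [hN]
  exact card_classes_congr Subgroup.topEquiv.symm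

/-- groups in which degrees are at most two -/
theorem count_two {N : Type*} [Group N] [Finite N] (T : Subgroup N) [T.Normal] (hcomm : ∀ x ∈ T, ∀ y ∈ T, x * y = y * x)
    (hT : T.index = 2) (hk : Nat.card (ConjClasses N) * 2 = Nat.card T + 6) :
    Nat.card {ψ : Cfsg.IrrCharacter N // ¬ 2 ∣ Cfsg.charDegree (ψ : N → ℂ)} = 4 := by
  classical
  haveI := Fintype.ofFinite N
  haveI := Fintype.ofFinite T
  haveI := Fintype.ofFinite (Cfsg.IrrCharacter N)
  have hdeg : ∀ χ : Cfsg.IrrCharacter N, Cfsg.charDegree (χ : N → ℂ) = if 2 ∣ Cfsg.charDegree (χ : N → ℂ) then 2 else 1 := by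
    intro χ
    obtain ⟨θ, hθ, h0⟩ := Cfsg.Agent.H3.CharMult.exists_constituent_res (H := T) χ.2
    obtain ⟨b, hb, hbi⟩ := Cfsg.Agent.H3.Lift.degree_dvd T χ.2 hθ h0
    have h1 : θ 1 = 1 := Cfsg.Agent.H3.CharMult.IsIrr.one_of_comm (fun a b => Subtype.ext (hcomm a a.2 b b.2)) hθ
    rw [h1, mul_one] at hb
    rw [Cfsg.Agent.H1.Deg.deg_eq hb]
    rw [hT, Nat.dvd_prime Nat.prime_two] at hbi
    rcases hbi with rfl | rfl
    · rw [if_neg (by norm_num)]
    · rw [if_pos (dvd_refl 2)]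
  have h1 := sum_deg_sq N
  have h2 : ∑ χ : Cfsg.IrrCharacter N, (Cfsg.charDegree (χ : N → ℂ)) ^ 2 = ∑ χ : Cfsg.IrrCharacter N,
      (4 - 3 * (if 2 ∣ Cfsg.charDegree (χ : N → ℂ) then 0 else 1)) := by
    apply Finset.sum_congr rfl
    intro χ _
    conv_lhs => rw [hdeg χ]
    split_ifs <;> rfl
  have h3 : ∑ χ : Cfsg.IrrCharacter N, (Cfsg.charDegree (χ : N → ℂ)) ^ 2 + 3 * ∑ χ : Cfsg.IrrCharacter N,
      (if 2 ∣ Cfsg.charDegree (χ : N → ℂ) then 0 else 1) = 4 * Fintype.card (Cfsg.IrrCharacter N) := by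
    rw [h2, Finset.mul_sum, ← Finset.sum_add_distrib, Finset.sum_congr rfl (g := fun _ => 4), Finset.sum_const, Finset.card_univ,
      smul_eq_mul, mul_comm]
    intro χ _
    split_ifs <;> rfl
  have h4 : ∑ χ : Cfsg.IrrCharacter N, (if 2 ∣ Cfsg.charDegree (χ : N → ℂ) then 0 else 1) =
      Nat.card {ψ : Cfsg.IrrCharacter N // ¬ 2 ∣ Cfsg.charDegree (ψ : N → ℂ)} := by
    rw [Nat.card_eq_fintype_card, Fintype.card_subtype, Finset.card_eq_sum_ones, Finset.sum_filter]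
    apply Finset.sum_congr rfl
    intro χ _
    split_ifs <;> rfl
  have h5 := T.card_mul_index
  rw [hT] at h5
  rw [h1, h4, ← Nat.card_eq_fintype_card, Cfsg.Agent.H3.CharComplete.card_irr] at h3
  omega

/-- counting odd degrees in a group of order 24 with few linear characters -/
theorem count_24 {N : Type*} [Group N] [Finite N] (hN : Nat.card N = 24)
    (hl : Nat.card {ψ : Cfsg.IrrCharacter N // Cfsg.charDegree (ψ : N → ℂ) = 1} ≤ 3) :
    Nat.card {ψ : Cfsg.IrrCharacter N // ¬ 2 ∣ Cfsg.charDegree (ψ : N → ℂ)} = 4 := by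
  classical
  haveI := Fintype.ofFinite N
  haveI := Fintype.ofFinite (Cfsg.IrrCharacter N)
  have h1 := sum_deg_sq N
  rw [hN] at h1
  set A := (Finset.univ : Finset (Cfsg.IrrCharacter N)).filter (fun χ : Cfsg.IrrCharacter N => ¬ 2 ∣ Cfsg.charDegree (χ : N → ℂ)) with hA
  set B := (Finset.univ : Finset (Cfsg.IrrCharacter N)).filter (fun χ : Cfsg.IrrCharacter N => ¬ ¬ 2 ∣ Cfsg.charDegree (χ : N → ℂ)) with hB
  have hcA : Nat.card {ψ : Cfsg.IrrCharacter N // ¬ 2 ∣ Cfsg.charDegree (ψ : N → ℂ)} = A.card := by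
    rw [Nat.card_eq_fintype_card, Fintype.card_subtype]
  rw [hcA]
  rw [← Finset.sum_filter_add_sum_filter_not _ (fun χ : Cfsg.IrrCharacter N => ¬ 2 ∣ Cfsg.charDegree (χ : N → ℂ))] at h1
  have h1 : ∑ χ ∈ A, (Cfsg.charDegree (χ : N → ℂ)) ^ 2 + ∑ χ ∈ B, (Cfsg.charDegree (χ : N → ℂ)) ^ 2 = 24 := h1
  have h2 : 4 ∣ ∑ χ ∈ B, (Cfsg.charDegree (χ : N → ℂ)) ^ 2 := by
    apply Finset.dvd_sum
    intro χ hχ
    have := not_not.mp (Finset.mem_filter.mp hχ).2
    exact pow_dvd_pow_of_dvd this 2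
  have h3 : ∃ t, ∑ χ ∈ A, (Cfsg.charDegree (χ : N → ℂ)) ^ 2 = A.card + 8 * t := by
    refine ⟨∑ χ ∈ A, ((Cfsg.charDegree (χ : N → ℂ)) ^ 2 / 8), ?_⟩
    rw [Finset.card_eq_sum_ones, Finset.mul_sum, ← Finset.sum_add_distrib]
    apply Finset.sum_congr rfl
    intro χ hχ
    have h5 : ¬ 2 ∣ Cfsg.charDegree (χ : N → ℂ) := (Finset.mem_filter.mp hχ).2
    have h6 : (Cfsg.charDegree (χ : N → ℂ)) ^ 2 % 8 = 1 := by
      have h7 : Cfsg.charDegree (χ : N → ℂ) % 8 = 1 ∨ Cfsg.charDegree (χ : N → ℂ) % 8 = 3 ∨ Cfsg.charDegree (χ : N → ℂ) % 8 = 5 ∨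
        Cfsg.charDegree (χ : N → ℂ) % 8 = 7 := by omega
      rw [Nat.pow_mod]
      rcases h7 with h | h | h | h <;> rw [h]
    omega
  obtain ⟨t, h3⟩ := h3
  obtain ⟨s, h2⟩ := h2
  -- lower bound
  have h4 : 0 < A.card := by
    apply Finset.card_pos.mpr
    refine ⟨⟨fun _ => 1, Cfsg.Agent.H3.CharInd.isIrr_one⟩, Finset.mem_filter.mpr ⟨Finset.mem_univ _, ?_⟩⟩
    rw [Cfsg.Agent.H1.Deg.deg_eq (n := 1) (by push_cast; rfl)]
    norm_num
  -- upper bound
  have h5 : A.card ≤ 5 := by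
    have h6 : ∑ χ ∈ A, (9 - 8 * (if Cfsg.charDegree (χ : N → ℂ) = 1 then 1 else 0)) ≤ ∑ χ ∈ A, (Cfsg.charDegree (χ : N → ℂ)) ^ 2 := by
      apply Finset.sum_le_sum
      intro χ hχ
      have h5 : ¬ 2 ∣ Cfsg.charDegree (χ : N → ℂ) := (Finset.mem_filter.mp hχ).2
      split_ifs with h
      · rw [h]; norm_num
      · have h8 : 3 ≤ Cfsg.charDegree (χ : N → ℂ) := by omega
        have := Nat.pow_le_pow_left h8 2
        omega
    have h7 : ∑ χ ∈ A, (9 - 8 * (if Cfsg.charDegree (χ : N → ℂ) = 1 then 1 else 0)) + 8 * ∑ χ ∈ A, (if Cfsg.charDegree (χ : N → ℂ) = 1 then 1 else 0) =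
        9 * A.card := by
      rw [Finset.mul_sum, ← Finset.sum_add_distrib, Finset.sum_congr rfl (g := fun _ => 9), Finset.sum_const, smul_eq_mul, mul_comm]
      intro χ _
      split_ifs <;> rfl
    have h8 : ∑ χ ∈ A, (if Cfsg.charDegree (χ : N → ℂ) = 1 then 1 else 0) ≤ 3 := by
      refine le_trans ?_ hl
      rw [Nat.card_eq_fintype_card, Fintype.card_subtype, ← Finset.card_filter]
      exact Finset.card_le_card (Finset.filter_subset_filter _ (Finset.subset_univ A))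
    omega
  omega

end Cfsg.Agent.H15.TOR
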