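import Mathlib
import Cfsg.Agent.H15_MK2

set_option autoImplicit false
open Matrix Module

namespace Cfsg.Agent.H15.TOR

open Cfsg.Agent.H15.M2 Cfsg.Agent.H15.PS

open scoped Pointwise

variable {F : Type*} [Field F] [Fintype F] [DecidableEq F]

local notation "M₂" => Matrix (Fin 2) (Fin 2) F
local notation "SL₂" => Matrix.SpecialLinearGroup (Fin 2) F

theorem relIndex_card {G : Type*} [Group G] (H K : Subgroup G) (h : H ≤ K) : H.relIndex K * Nat.card H = Nat.card K := by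
  rw [← Nat.card_congr (Subgroup.subgroupOfEquivOfLe h).toEquiv]
  exact Subgroup.index_mul_card (H.subgroupOf K)

theorem utS_one_inj {b b' : F} (h : (utS 1 b : SL₂) = utS 1 b') : b = b' :=
  congrArg (fun x : SL₂ => (x : M₂) 0 1) h

theorem card_US : Nat.card (US : Subgroup SL₂) = Fintype.card F := by
  rw [← Nat.card_eq_fintype_card]
  symm
  refine Nat.card_congr (Equiv.ofBijective (fun b => ⟨utS 1 b, ⟨b, rfl⟩⟩) ⟨?_, ?_⟩)
  · intro b b' h
    exact utS_one_inj (congrArg Subtype.val h)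
  · rintro ⟨_, b, rfl⟩
    exact ⟨b, rfl⟩

theorem US_comm {x y : SL₂} (hx : x ∈ (US : Subgroup SL₂)) (hy : y ∈ (US : Subgroup SL₂)) : x * y = y * x := by
  obtain ⟨b, rfl⟩ := hx
  obtain ⟨b', rfl⟩ := hy
  apply Subtype.ext
  show (utS 1 b : M₂) * (utS 1 b' : M₂) = (utS 1 b' : M₂) * (utS 1 b : M₂)
  rw [utS_coe, utS_coe]
  ext i j; fin_cases i <;> fin_cases j <;> simp [Matrix.mul_apply, Fin.sum_univ_two, add_comm]

theorem BS_conj {g h : SL₂} (hg : g ∈ BS F) (hh : h ∈ (US : Subgroup SL₂)) : g * h * g⁻¹ ∈ (US : Subgroup SL₂) := by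
  obtain ⟨b, rfl⟩ := hh
  obtain ⟨⟨a, c⟩, hac⟩ : ∃ p : Fˣ × F, utS p.1 p.2 = g := by
    refine ⟨eBS ⟨g, hg⟩, ?_⟩
    exact congrArg Subtype.val (eBS.symm_apply_apply ⟨g, hg⟩)
  refine ⟨a * a * b, ?_⟩
  rw [mul_inv_eq_iff_eq_mul, ← hac]
  apply Subtype.ext
  show (utS a c : M₂) * (utS 1 b : M₂) = (utS 1 (a * a * b) : M₂) * (utS a c : M₂)
  rw [utS_coe, utS_coe, utS_coe]
  have h1 : (a : F) * ((a⁻¹ : Fˣ) : F) = 1 := Units.mul_inv a
  ext i j; fin_cases i <;> fin_cases j <;> simp [Matrix.mul_apply, Fin.sum_univ_two]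
  field_simp
  ring

theorem norm_US : Subgroup.normalizer ((US : Subgroup SL₂) : Set SL₂) = BS F := by
  ext g
  constructor
  · intro hg
    have h1 := (Subgroup.mem_normalizer_iff.mp hg (utS 1 1)).mp ⟨1, rfl⟩
    obtain ⟨b, hb⟩ := h1
    rw [mul_inv_eq_iff_eq_mul] at hb
    have h2 : (g : M₂) * (utS (1 : Fˣ) (1 : F) : M₂) = (utS (1 : Fˣ) b : M₂) * (g : M₂) := congrArg Subtype.val hb
    have h3 := congrFun (congrFun h2 1) 1
    rw [utS_coe, utS_coe] at h3
    simp [Matrix.mul_apply, Fin.sum_univ_two] at h3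
    exact (mem_BS g).mpr h3
  · intro hg
    rw [Subgroup.mem_normalizer_iff]
    intro h
    constructor
    · exact fun hh => BS_conj hg hh
    · intro hh
      have := BS_conj ((BS F).inv_mem hg) hh
      rwa [show g⁻¹ * (g * h * g⁻¹) * g⁻¹⁻¹ = h by group] at this

theorem dvd_absurd {l n : ℕ} (hl : l ≠ 1) (h1 : l ∣ n) (h2 : l ∣ n + 1) : False :=
  hl (Nat.dvd_one.mp ((Nat.dvd_add_right h1).mp h2))

theorem odd_of_two_ne (hodd : Odd (Fintype.card F)) : 3 ≤ Fintype.card F := by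
  have := one_lt_q (F := F)
  obtain ⟨k, hk⟩ := hodd
  omega

theorem half_dvd {l n : ℕ} (hl : l.Prime) (hl2 : l ≠ 2) (h1 : l ∣ n) (hn : Even n) : l ∣ n / 2 := by
  obtain ⟨m, rfl⟩ := hn
  rw [← two_mul, Nat.mul_div_cancel_left m (by norm_num)]
  rw [← two_mul] at h1
  exact ((Nat.coprime_primes hl Nat.prime_two).mpr hl2).dvd_of_dvd_mul_left h1

theorem half_dvd' {l n : ℕ} (h1 : l ∣ n / 2) (hn : Even n) : l ∣ n := by
  obtain ⟨m, rfl⟩ := hn
  rw [← two_mul, Nat.mul_div_cancel_left m (by norm_num)] at h1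
  rw [← two_mul]
  exact h1.mul_left 2

/-- defining characteristic -/
theorem mk_p (hodd : Odd (Fintype.card F)) (l : ℕ) [Fact l.Prime] (S : Sylow l SL₂) (hl : l ∣ Fintype.card F) :
    Nat.card {χ : Cfsg.IrrCharacter SL₂ // ¬ l ∣ Cfsg.charDegree (χ : SL₂ → ℂ)} =
      Nat.card {ψ : Cfsg.IrrCharacter (Subgroup.normalizer ((S : Subgroup SL₂) : Set SL₂)) //
        ¬ l ∣ Cfsg.charDegree (ψ : Subgroup.normalizer ((S : Subgroup SL₂) : Set SL₂) → ℂ)} := by
  have hlp : l.Prime := Fact.out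
  have hl1 := hlp.one_lt.ne'
  have h2 := two_ne_zero_of_odd hodd
  have h3 := odd_of_two_ne hodd
  obtain ⟨k, hk⟩ := hodd
  have hev1 : Even (Fintype.card F + 1) := ⟨k + 1, by omega⟩
  have hev2 : Even (Fintype.card F - 1) := ⟨k, by omega⟩
  have hn1 : ¬ l ∣ Fintype.card F + 1 := fun h => dvd_absurd hl1 hl h
  have hn2 : ¬ l ∣ Fintype.card F - 1 := fun h => dvd_absurd hl1 h (by rw [Nat.sub_add_cancel (by omega)]; exact hl)
  have hn3 : ¬ l ∣ (Fintype.card F + 1) / 2 := fun h => hn1 (half_dvd' h hev1)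
  have hn4 : ¬ l ∣ (Fintype.card F - 1) / 2 := fun h => hn2 (half_dvd' h hev2)
  rw [count_lhs ⟨k, hk⟩ l hl1, if_pos hl, if_neg hn1, if_neg hn2, if_neg hn3, if_neg hn4]
  -- the Sylow subgroup
  have hq : ∃ n : ℕ, Fintype.card F = l ^ n := by
    obtain ⟨p, _, n, hp, hn⟩ := FiniteField.card' F
    rw [hn] at hl
    have := (Nat.prime_dvd_prime_iff_eq hlp hp).mp (hlp.dvd_of_dvd_pow hl)
    exact ⟨n, by rw [this]; exact hn⟩
  obtain ⟨n, hn⟩ := hq
  have hcard : Nat.card (US : Subgroup SL₂) = l ^ (Nat.card SL₂).factorization l := by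
    rw [card_US, card_G_mul, Nat.factorization_mul (by omega) (Nat.mul_ne_zero (by omega) (by omega)),
      Nat.factorization_mul (by omega) (by omega), Finsupp.add_apply, Finsupp.add_apply,
      Nat.factorization_eq_zero_of_not_dvd hn1, Nat.factorization_eq_zero_of_not_dvd hn2, hn, hlp.factorization_pow,
      Finsupp.single_eq_same, add_zero, add_zero]
  let Q : Sylow l SL₂ := Sylow.ofCard US hcard
  have hQ : (Q : Subgroup SL₂) = US := Sylow.coe_ofCard _ _
  have hcommS : ∀ x ∈ (S : Subgroup SL₂), ∀ y ∈ (S : Subgroup SL₂), x * y = y * x := by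
    intro x hx y hy
    let e := Sylow.equiv S Q
    have h5 : e ⟨x, hx⟩ * e ⟨y, hy⟩ = e ⟨y, hy⟩ * e ⟨x, hx⟩ := by
      apply Subtype.ext
      have h6 := (e ⟨x, hx⟩).2
      have h7 := (e ⟨y, hy⟩).2
      exact US_comm (hQ.le h6) (hQ.le h7)
    rw [← map_mul, ← map_mul] at h5
    exact congrArg Subtype.val (e.injective h5)
  rw [cnt_norm l (S : Subgroup SL₂) (S : Subgroup SL₂) le_rfl hcommS (fun h => S.not_dvd_index
    (h.trans (Subgroup.relIndex_dvd_index_of_le Subgroup.le_normalizer)))]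
  obtain ⟨e⟩ := sylow_norm_equiv S Q
  rw [card_classes_congr e, hQ, norm_US, classes_B h2]
  omega

/-- non-defining odd characteristic -/
theorem mk_odd (hodd : Odd (Fintype.card F)) (l : ℕ) [Fact l.Prime] (hl2 : l ≠ 2) (S : Sylow l SL₂)
    (hl : l ∣ Fintype.card F - 1 ∨ l ∣ Fintype.card F + 1) :
    Nat.card {χ : Cfsg.IrrCharacter SL₂ // ¬ l ∣ Cfsg.charDegree (χ : SL₂ → ℂ)} =
      Nat.card {ψ : Cfsg.IrrCharacter (Subgroup.normalizer ((S : Subgroup SL₂) : Set SL₂)) //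
        ¬ l ∣ Cfsg.charDegree (ψ : Subgroup.normalizer ((S : Subgroup SL₂) : Set SL₂) → ℂ)} := by
  have hlp : l.Prime := Fact.out
  have hl1 := hlp.one_lt.ne'
  have hl3 : 3 ≤ l := by
    have := hlp.two_le
    omega
  have h2 := two_ne_zero_of_odd hodd
  have h3 := odd_of_two_ne hodd
  have hno : ∀ n, l ∣ n → l ∣ n + 2 → False := by
    intro n h4 h5
    have h6 := (Nat.dvd_add_right h4).mp h5
    have := Nat.le_of_dvd (by norm_num) h6
    omega
  -- right hand side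
  have key : ∀ m, (m = Fintype.card F - 1 ∨ m = Fintype.card F + 1) → l ∣ m →
      Nat.card {ψ : Cfsg.IrrCharacter (Subgroup.normalizer ((S : Subgroup SL₂) : Set SL₂)) //
        ¬ l ∣ Cfsg.charDegree (ψ : Subgroup.normalizer ((S : Subgroup SL₂) : Set SL₂) → ℂ)} * 2 = m + 6 := by
    intro m hm hdvd
    obtain ⟨c, hc, hcard, _, hN⟩ := sylow_odd' hodd l hl2 S hm hdvd
    obtain ⟨n1, n2, _⟩ := norm_data h2 hc
    have hrel : (TE c).relIndex (Subgroup.normalizer ((S : Subgroup SL₂) : Set SL₂)) = 2 := by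
      rw [hN]
      have h5 := relIndex_card (TE c) (Subgroup.normalizer ((TE c : Subgroup SL₂) : Set SL₂)) Subgroup.le_normalizer
      rw [n1] at h5
      exact Nat.eq_of_mul_eq_mul_right Nat.card_pos h5
    rw [cnt_norm l (S : Subgroup SL₂) (TE c) hN.le (fun x hx y hy => congrArg Subtype.val (TE_comm (NS_of_disc hc) ⟨x, hx⟩ ⟨y, hy⟩))
      (by
        rw [hrel]
        intro h
        have := Nat.le_of_dvd (by norm_num) h
        omega), hN, n2, hcard]
  obtain ⟨k, hk⟩ := hodd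
  have hev1 : Even (Fintype.card F + 1) := ⟨k + 1, by omega⟩
  have hev2 : Even (Fintype.card F - 1) := ⟨k, by omega⟩
  rw [count_lhs ⟨k, hk⟩ l hl1]
  rcases hl with hl | hl
  · have h5 := key _ (Or.inl rfl) hl
    have hn0 : ¬ l ∣ Fintype.card F := fun h => dvd_absurd hl1 hl (by rw [Nat.sub_add_cancel (by omega)]; exact h)
    have hn1 : ¬ l ∣ Fintype.card F + 1 := fun h => hno _ hl (by
      rw [show Fintype.card F - 1 + 2 = Fintype.card F + 1 by omega]; exact h)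
    have hn3 : ¬ l ∣ (Fintype.card F + 1) / 2 := fun h => hn1 (half_dvd' h hev1)
    have hn4 : l ∣ (Fintype.card F - 1) / 2 := half_dvd hlp hl2 hl hev2
    rw [if_neg hn0, if_neg hn1, if_neg hn3, if_pos hl, if_pos hn4]
    omega
  · have h5 := key _ (Or.inr rfl) hl
    have hn0 : ¬ l ∣ Fintype.card F := fun h => dvd_absurd hl1 h hl
    have hn1 : ¬ l ∣ Fintype.card F - 1 := fun h => hno _ h (by
      rw [show Fintype.card F - 1 + 2 = Fintype.card F + 1 by omega]; exact hl)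
    have hn3 : ¬ l ∣ (Fintype.card F - 1) / 2 := fun h => hn1 (half_dvd' h hev2)
    have hn4 : l ∣ (Fintype.card F + 1) / 2 := half_dvd hlp hl2 hl hev1
    rw [if_neg hn0, if_pos hl, if_pos hn4, if_neg hn1, if_neg hn3]
    omega

end Cfsg.Agent.H15.TOR
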