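import Mathlib
import Cfsg.Agent.H26_Binet
import Cfsg.Agent.H26_Defect
import Cfsg.Agent.H10_BlockMain

/-!
# H26_DetBlocks: blocks with a given defect group from classes without p-element quotients
-/

set_option autoImplicit false

namespace Cfsg.Agent.H26.DetBlocks

open Cfsg Cfsg.Agent.H3.CharIrr Cfsg.Agent.H3.CharComplete Cfsg.Agent.H3.CharInd
  Cfsg.Agent.H10.BlockAlg Cfsg.Agent.H10.BlockLoc Cfsg.Agent.H10.BlockIdem
  Cfsg.Agent.H10.BlockOrth Cfsg.Agent.H10.BlockDefect Cfsg.Agent.H26.Basic
  Cfsg.Agent.H26.ClassConst Cfsg.Agent.H26.Binet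

open scoped ComplexConjugate

variable {G : Type*} [Group G] [Fintype G] {p : ℕ} {M : Ideal AlgInt}

/-- orthogonality relation from separated classes -/
theorem sep_sum [hp : Fact p.Prime] [Fintype (IrrCharacter G)] (P : Sylow p G) (x y : G)
    (hsep : ∀ g h : G, IsConj x g → IsConj y h → ∀ k : ℕ, 0 < k → orderOf (g * h⁻¹) ≠ p ^ k)
    (m : IrrCharacter G → ℕ) [Fintype (P : Subgroup G)]
    (hm : ∀ χ : IrrCharacter G, ∑ u : (P : Subgroup G), (χ : G → ℂ) u = (Nat.card P : ℂ) * m χ)
    [Decidable (IsConj x y)] :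
    ∑ χ : IrrCharacter G, centralChar (χ : G → ℂ) x * ((m χ : ℂ) * conj ((χ : G → ℂ) y)) =
      if IsConj x y then ((P : Subgroup G).index : ℂ) else 0 := by
  classical
  have h2 : ∑ g : (P : Subgroup G), ∑ a, ind x a * ind y (a * (g : G)) =
      if IsConj x y then ((Subgroup.centralizer ({x} : Set G)).index : ℂ) else 0 := by
    rw [Finset.sum_eq_single (1 : (P : Subgroup G))]
    · split_ifs with hxy
      · rw [← sum_ind_one x]
        refine Finset.sum_congr rfl fun a _ => ?_
        by_cases ha : IsConj x a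
        · rw [OneMemClass.coe_one, mul_one, ind_of _ _ ha, ind_of _ _ (hxy.symm.trans ha), mul_one]
        · rw [ind_not _ _ ha, zero_mul]
      · refine Finset.sum_eq_zero fun a _ => ?_
        by_contra h3
        have h4 := ind_ne (left_ne_zero_of_mul h3)
        have h5 := ind_ne (right_ne_zero_of_mul h3)
        rw [OneMemClass.coe_one, mul_one] at h5
        exact hxy (h4.trans h5.symm)
    · intro g _ hg
      refine Finset.sum_eq_zero fun a _ => ?_
      by_contra h3
      have h4 := ind_ne (left_ne_zero_of_mul h3)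
      have h5 := ind_ne (right_ne_zero_of_mul h3)
      obtain ⟨k, hk⟩ := (IsPGroup.iff_orderOf.1 P.2) g
      have hk0 : k ≠ 0 := by
        rintro rfl
        rw [pow_zero, orderOf_eq_one_iff] at hk
        exact hg hk
      apply hsep a (a * g) h4 h5 k (Nat.pos_of_ne_zero hk0)
      rw [mul_inv_rev, ← mul_assoc]
      have e : a * (g : G)⁻¹ * a⁻¹ = MulAut.conj a (g : G)⁻¹ := rfl
      rw [e, MulEquiv.orderOf_eq, orderOf_inv, Subgroup.orderOf_coe, hk]
    · simp
  simp_rw [class_const] at h2
  rw [← Finset.mul_sum, Finset.sum_comm] at h2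
  have h3 : ∀ χ : IrrCharacter G, ∑ g : (P : Subgroup G), conj ((χ : G → ℂ) y) * centralChar (χ : G → ℂ) x * (χ : G → ℂ) (g : G)
      = (Nat.card P : ℂ) * (centralChar (χ : G → ℂ) x * ((m χ : ℂ) * conj ((χ : G → ℂ) y))) := by
    intro χ
    rw [← Finset.mul_sum, hm]; ring
  simp_rw [h3] at h2
  rw [← Finset.mul_sum] at h2
  have hC : (Nat.card (Subgroup.centralizer ({y} : Set G)) : ℂ) ≠ 0 := by exact_mod_cast Nat.card_pos.ne'
  have hP : (Nat.card P : ℂ) ≠ 0 := by exact_mod_cast Nat.card_pos.ne'
  rw [inv_mul_eq_iff_eq_mul₀ hC] at h2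
  split_ifs at h2 ⊢ with hxy
  · have h5 : (Nat.card (Subgroup.centralizer ({y} : Set G)) : ℂ) * ((Subgroup.centralizer ({x} : Set G)).index : ℂ) =
        (Nat.card P : ℂ) * ((P : Subgroup G).index : ℂ) := by
      rw [← card_centralizer_eq_of_isConj hxy, ← Nat.cast_mul, Subgroup.card_mul_index, ← Nat.cast_mul]
      congr 1
      exact (Subgroup.card_mul_index (P : Subgroup G)).symm
    rw [h5] at h2
    exact mul_left_cancel₀ hP h2
  · rw [mul_zero] at h2
    rcases mul_eq_zero.1 h2 with h6 | h6
    · exact absurd h6 hP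
    · exact h6

theorem factorization_index_add (x : G) :
    (Nat.card (Subgroup.centralizer ({x} : Set G))).factorization p +
      (Subgroup.centralizer ({x} : Set G)).index.factorization p = (Nat.card G).factorization p := by
  rw [← Subgroup.card_mul_index (Subgroup.centralizer ({x} : Set G)),
    Nat.factorization_mul Nat.card_pos.ne' Subgroup.index_ne_zero_of_finite, Finsupp.add_apply]

/-- identification of the defect group -/
theorem isDefectGroup_of [hp : Fact p.Prime] (hM : IsPModular p M) {B : Set (IrrCharacter G)}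
    (hB : IsPBlock M B) {D : Subgroup G} {x : G} (hD : IsCSyl p x D) {χ : IrrCharacter G} (hχ : χ ∈ B)
    (hx : ¬ MemLocalIdeal M (centralChar (χ : G → ℂ) x)) {ψ : IrrCharacter G} (hψ : ψ ∈ B)
    (hle : (charDegree (ψ : G → ℂ)).factorization p ≤
      (Subgroup.centralizer ({x} : Set G)).index.factorization p) :
    IsDefectGroup p M B D := by
  haveI := hM.2.1
  obtain ⟨y, hy⟩ := exists_defectClass hB
  obtain ⟨D', hD'⟩ := exists_isCSyl (p := p) y
  have hdef : IsDefectGroup p M B D' := ⟨y, hy, hD'⟩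
  rw [← om_cs] at hx
  obtain ⟨h', hc, hh'⟩ := defect_centralizes hM hB hdef hχ hx
  obtain ⟨g, hg⟩ := le_conj_of_centralizes hc hD hD'.isPGroup hh'
  obtain ⟨θ, hθ, hθe⟩ := Defect.exists_factorization_eq hM hB hy
  -- orders agree
  have h1 : (Subgroup.centralizer ({y} : Set G)).index.factorization p ≤
      (Subgroup.centralizer ({x} : Set G)).index.factorization p :=
    (Defect.factorization_class_le (B := B) hM (hy.2.2 ψ hψ)).trans hle
  have h3 : Nat.card (D.map (MulAut.conj g).toMonoidHom) ≤ Nat.card D' := by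
    rw [card_conj_map, hD.card, hD'.card]
    apply Nat.pow_le_pow_right hp.1.pos
    have e1 := factorization_index_add (p := p) x
    have e2 := factorization_index_add (p := p) y
    omega
  have h4 := eq_of_le_card hg h3
  have h5 : D = D'.map (MulAut.conj g⁻¹).toMonoidHom := by
    rw [h4, conj_map_map, inv_mul_cancel, conj_map_one]
  rw [h5]
  exact isDefectGroup_conj hdef g⁻¹

end Cfsg.Agent.H26.DetBlocks
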