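import Mathlib
import Cfsg.Agent.H15_MK3
import Cfsg.Agent.H26_DetBlocks
import Cfsg.Agent.H10_BlockCen
import Cfsg.Agent.H10_BlockHZ

set_option autoImplicit false
open Matrix Module

namespace Cfsg.Agent.H15.BL

open Cfsg Cfsg.Agent.H15.M2 Cfsg.Agent.H15.PS Cfsg.Agent.H15.TOR
open Cfsg.Agent.H10.BlockLoc Cfsg.Agent.H10.BlockHZ Cfsg.Agent.H10.BlockDefect Cfsg.Agent.H10.BlockIdem

/-! ### general facts -/

section gen

variable {G : Type*} [Group G] [Fintype G] {p : ℕ} {M : Ideal AlgInt}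

theorem irr_mem_ring (hM : IsPModular p M) (χ : IrrCharacter G) (g : G) : MemLocalRing M ((χ : G → ℂ) g) := by
  haveI := hM.2.1
  exact Cfsg.Agent.H10.BlockMain.char_mem_ring χ g

theorem deg_unit (hM : IsPModular p M) (χ : IrrCharacter G) (hd : ¬ p ∣ charDegree (χ : G → ℂ)) :
    ¬ MemLocalIdeal M ((χ : G → ℂ) 1) := by
  rw [← Cfsg.Agent.H1.Deg.coe_deg (Cfsg.Agent.H3.CharIrr.IsIrr.isCharacter χ.2), ideal_natCast_iff hM]
  exact hd

theorem cc_zero (hM : IsPModular p M) (χ : IrrCharacter G) (hd : ¬ p ∣ charDegree (χ : G → ℂ)) {g : G}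
    (hg : p ∣ (Subgroup.centralizer ({g} : Set G)).index) : MemLocalIdeal M (centralChar (χ : G → ℂ) g) := by
  haveI := hM.2.1
  rw [centralChar]
  exact ideal_div (ideal_mul_right ((ideal_natCast_iff hM _).mpr hg) (irr_mem_ring hM χ g)) (irr_mem_ring hM χ 1) (deg_unit hM χ hd)

/-- central character at `x z` with `x` a `p`-element, `z` central -/
theorem cc_central (hM : IsPModular p M) (χ : IrrCharacter G) (hd : ¬ p ∣ charDegree (χ : G → ℂ)) {x z : G}
    (hc : Commute x z) (hx : ∃ k : ℕ, orderOf x = p ^ k) (hz : ¬ p ∣ orderOf z) {s : ℂ}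
    (hs : (χ : G → ℂ) z = s * (χ : G → ℂ) 1) :
    MemLocalIdeal M (centralChar (χ : G → ℂ) (x * z) - ((Subgroup.centralizer ({x * z} : Set G)).index : ℂ) * s) := by
  haveI := hM.2.1
  have h1 := char_sub_mem hM (Cfsg.Agent.H3.CharIrr.IsIrr.isCharacter χ.2) hc hx hz
  have h2 : (χ : G → ℂ) 1 ≠ 0 := ne_zero_of_not_ideal (deg_unit hM χ hd)
  have h3 : centralChar (χ : G → ℂ) (x * z) - ((Subgroup.centralizer ({x * z} : Set G)).index : ℂ) * s =
      ((Subgroup.centralizer ({x * z} : Set G)).index : ℂ) * ((χ : G → ℂ) (x * z) - (χ : G → ℂ) z) / (χ : G → ℂ) 1 := by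
    rw [centralChar, hs]
    field_simp
  rw [h3]
  exact ideal_div (ideal_mul_left (ring_natCast _) h1) (irr_mem_ring hM χ 1) (deg_unit hM χ hd)

theorem cc_conj (χ : IrrCharacter G) {g h : G} (hc : IsConj g h) : centralChar (χ : G → ℂ) g = centralChar (χ : G → ℂ) h := by
  have h1 : (Subgroup.centralizer ({g} : Set G)).index = (Subgroup.centralizer ({h} : Set G)).index := by
    have h2 := Subgroup.card_mul_index (Subgroup.centralizer ({g} : Set G))
    rw [Cfsg.Agent.H3.CharComplete.card_centralizer_eq_of_isConj hc, ← Subgroup.card_mul_index (Subgroup.centralizer ({h} : Set G))] at h2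
    exact Nat.eq_of_mul_eq_mul_left Nat.card_pos h2
  obtain ⟨x, hx⟩ := isConj_iff.mp hc
  rw [centralChar, centralChar, h1, ← hx, Cfsg.Agent.H3.CharIrr.IsIrr.isClass χ.2 g x]

theorem isCSyl_one (P : Sylow p G) : IsCSyl p (1 : G) (P : Subgroup G) := by
  have hc : Subgroup.centralizer ({(1 : G)} : Set G) = ⊤ := by
    rw [eq_top_iff]
    intro x _
    rw [Subgroup.mem_centralizer_singleton_iff, mul_one, one_mul]
  have hle : (P : Subgroup G) ≤ Subgroup.centralizer ({(1 : G)} : Set G) := by rw [hc]; exact le_top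
  refine ⟨P.subtype hle, ?_⟩
  rw [Sylow.coe_subtype, Subgroup.subgroupOf_map_subtype, inf_eq_left.mpr hle]

/-- blocks containing a character of degree prime to `p` have full defect -/
theorem defect_full [hp : Fact p.Prime] (hM : IsPModular p M) {B : Set (IrrCharacter G)} (hB : IsPBlock M B)
    (P : Sylow p G) {ψ : IrrCharacter G} (hψ : ψ ∈ B) (hd : ¬ p ∣ charDegree (ψ : G → ℂ)) :
    IsDefectGroup p M B (P : Subgroup G) := by
  haveI := hM.2.1
  have h0 : (ψ : G → ℂ) 1 ≠ 0 := ne_zero_of_not_ideal (deg_unit hM ψ hd)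
  apply Cfsg.Agent.H26.DetBlocks.isDefectGroup_of hM hB (isCSyl_one P) hψ (x := 1) _ hψ
  · rw [Nat.factorization_eq_zero_of_not_dvd hd]
    exact Nat.zero_le _
  · have hc : Subgroup.centralizer ({(1 : G)} : Set G) = ⊤ := by
      rw [eq_top_iff]
      intro x _
      rw [Subgroup.mem_centralizer_singleton_iff, mul_one, one_mul]
    rw [centralChar, hc, Subgroup.index_top, Nat.cast_one, one_mul, div_self h0]
    exact one_notMem_ideal

end gen

/-! ### blocks of `SL₂(q)` in the defining characteristic -/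

section sl

variable {F : Type*} [Field F] [Fintype F] [DecidableEq F]

local notation "M₂" => Matrix (Fin 2) (Fin 2) F
local notation "SL₂" => Matrix.SpecialLinearGroup (Fin 2) F

theorem neg_one_sc : (-1 : SL₂) = sc (-1 : F) (by ring) := by
  apply Subtype.ext
  rw [sc_coe, neg_one_smul]
  exact Matrix.SpecialLinearGroup.coe_neg 1

theorem up_eq (e b : F) (he : e * e = 1) : up e b he = up 1 (e * b) (one_mul 1) * sc e he := by
  apply Subtype.ext
  show (up e b he : M₂) = (up 1 (e * b) (one_mul 1) : M₂) * (sc e he : M₂)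
  have h : e * b * e = b := by linear_combination b * he
  rw [up, up, sc]
  ext i j
  fin_cases i <;> fin_cases j <;> simp [Matrix.mul_apply, Fin.sum_univ_two, h]

variable {p : ℕ} [hp : Fact p.Prime] [CharP F p] {M : Ideal AlgInt}

theorem p_dvd_q : p ∣ Fintype.card F := by
  obtain ⟨n, _, hn⟩ := FiniteField.card F p
  rw [hn]
  exact dvd_pow_self p n.pos.ne'

theorem q_odd (hp2 : p ≠ 2) : Odd (Fintype.card F) := by
  obtain ⟨n, _, hn⟩ := FiniteField.card F p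
  rw [hn]
  exact (hp.out.odd_of_ne_two hp2).pow

theorem not_dvd_qm : ¬ p ∣ Fintype.card F - 1 := by
  have hq := one_lt_q (F := F)
  intro h
  exact dvd_absurd hp.out.one_lt.ne' h (by rw [Nat.sub_add_cancel (by omega)]; exact p_dvd_q)

theorem not_dvd_qp : ¬ p ∣ Fintype.card F + 1 := fun h => dvd_absurd hp.out.one_lt.ne' p_dvd_q h

theorem dvd_index {g : SL₂} (hg : ¬ p ∣ Nat.card (TE g)) : p ∣ (Subgroup.centralizer ({g} : Set SL₂)).index := by
  have h1 := Subgroup.card_mul_index (Subgroup.centralizer ({g} : Set SL₂))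
  have h2 : p ∣ Nat.card (Subgroup.centralizer ({g} : Set SL₂)) * (Subgroup.centralizer ({g} : Set SL₂)).index := by
    rw [h1, card_G_mul]
    exact p_dvd_q.mul_right _
  exact (hp.out.dvd_mul.mp h2).resolve_left hg

/-- degree types -/
theorem deg_cases (hp2 : p ≠ 2) (χ : IrrCharacter SL₂) : ((χ : SL₂ → ℂ) = StS) ∨ ¬ p ∣ charDegree (χ : SL₂ → ℂ) := by
  obtain ⟨k, hk⟩ := q_odd (F := F) hp2
  have hq := one_lt_q (F := F)
  have hev1 : Even (Fintype.card F + 1) := ⟨k + 1, by omega⟩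
  have hev2 : Even (Fintype.card F - 1) := ⟨k, by omega⟩
  have hq1 : ((Fintype.card F - 1 : ℕ) : ℂ) = (Fintype.card F : ℂ) - 1 := by
    rw [Nat.cast_sub hq.le, Nat.cast_one]
  have h3 : ∀ {n : ℕ}, (χ : SL₂ → ℂ) 1 = n → Cfsg.charDegree (χ : SL₂ → ℂ) = n :=
    fun h => Cfsg.Agent.H1.Deg.deg_eq h
  rcases class_T χ.2 with h | h | h | h | h | h
  · right
    rw [h3 (n := 1) (by rw [h]; simp)]
    exact fun h => hp.out.one_lt.ne' (Nat.dvd_one.mp h)
  · left; exact h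
  · right
    rw [h3 (n := Fintype.card F + 1) (by rw [h.deg]; push_cast; ring)]
    exact not_dvd_qp
  · right
    rw [h3 (n := (Fintype.card F + 1) / 2) (by
      have := h.deg
      rw [nat_div_two_c hev1]; push_cast
      linear_combination (1 / 2) * this)]
    exact fun h => not_dvd_qp (half_dvd' h hev1)
  · right
    rw [h3 (n := Fintype.card F - 1) (by rw [h.deg, hq1])]
    exact not_dvd_qm
  · right
    rw [h3 (n := (Fintype.card F - 1) / 2) (by
      have := h.deg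
      rw [nat_div_two_c hev2, hq1]
      linear_combination (1 / 2) * this)]
    exact fun h => not_dvd_qm (half_dvd' h hev2)

/-- characters with the same central character lie in the same block -/
theorem same_of (hp2 : p ≠ 2) (hM : IsPModular p M) (χ ψ : IrrCharacter SL₂) (hχ : ¬ p ∣ charDegree (χ : SL₂ → ℂ))
    (hψ : ¬ p ∣ charDegree (ψ : SL₂ → ℂ)) (s : ℂ) (h1 : (χ : SL₂ → ℂ) (-1) = s * (χ : SL₂ → ℂ) 1)
    (h2 : (ψ : SL₂ → ℂ) (-1) = s * (ψ : SL₂ → ℂ) 1) : SameBlock M (χ : SL₂ → ℂ) (ψ : SL₂ → ℂ) := by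
  haveI := hM.2.1
  have hodd := q_odd (F := F) hp2
  have hsc : ∀ (e : F) (he : e * e = 1), ∃ t : ℂ, (χ : SL₂ → ℂ) (sc e he) = t * (χ : SL₂ → ℂ) 1 ∧
      (ψ : SL₂ → ℂ) (sc e he) = t * (ψ : SL₂ → ℂ) 1 := by
    intro e he
    rcases mul_self_eq_one_iff.mp he with rfl | rfl
    · refine ⟨1, ?_⟩
      have : sc (1 : F) he = 1 := by
        apply Subtype.ext
        rw [sc_coe, one_smul]; rfl
      rw [this, one_mul, one_mul]
      exact ⟨rfl, rfl⟩
    · refine ⟨s, ?_⟩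
      rw [← h1, ← h2, neg_one_sc]
      exact ⟨rfl, rfl⟩
  have hord : ∀ (e : F) (he : e * e = 1), ¬ p ∣ orderOf (sc e he) := by
    intro e he h
    have h5 : orderOf (sc e he) ∣ 2 := by
      rw [orderOf_dvd_iff_pow_eq_one, sq]; exact sc_sq e he
    have h6 := (Nat.prime_dvd_prime_iff_eq hp.out Nat.prime_two).mp (h.trans h5)
    exact hp2 h6
  have hupord : ∀ b : F, ∃ k : ℕ, orderOf (up (1 : F) b (one_mul 1)) = p ^ k := by
    intro b
    have h5 : (up (1 : F) b (one_mul 1)) ^ p = 1 := by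
      have h6 : up (1 : F) b (one_mul 1) = utS 1 b := by
        apply Subtype.ext
        rw [utS_coe, up]
        simp
      have h7 : ∀ n : ℕ, (up (1 : F) b (one_mul 1)) ^ n = up (1 : F) (n * b) (one_mul 1) := by
        intro n
        induction n with
        | zero =>
          rw [pow_zero]
          apply Subtype.ext
          rw [up]
          ext i j; fin_cases i <;> fin_cases j <;> simp
        | succ n ih =>
          rw [pow_succ, ih]
          apply Subtype.ext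
          show (up (1 : F) (n * b) (one_mul 1) : M₂) * (up (1 : F) b (one_mul 1) : M₂) = _
          rw [up, up, up]
          ext i j; fin_cases i <;> fin_cases j <;> simp [Matrix.mul_apply, Fin.sum_univ_two]
          ring
      rw [h7, CharP.cast_eq_zero, zero_mul]
      apply Subtype.ext
      rw [up]
      ext i j; fin_cases i <;> fin_cases j <;> simp
    rcases (Nat.dvd_prime hp.out).mp (orderOf_dvd_of_pow_eq_one h5) with h6 | h6
    · exact ⟨0, by rw [h6, pow_zero]⟩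
    · exact ⟨1, by rw [h6, pow_one]⟩
  have hcomm : ∀ (e b : F) (he : e * e = 1), Commute (up (1 : F) b (one_mul 1)) (sc e he) := by
    intro e b he
    apply Subtype.ext
    show (up (1 : F) b (one_mul 1) : M₂) * (sc e he : M₂) = (sc e he : M₂) * (up (1 : F) b (one_mul 1) : M₂)
    rw [sc_coe, Matrix.mul_smul, Matrix.smul_mul, Matrix.mul_one, Matrix.one_mul]
  -- conjugation invariance
  have hinv : ∀ g h : SL₂, IsConj g h → MemLocalIdeal M (centralChar (χ : SL₂ → ℂ) h - centralChar (ψ : SL₂ → ℂ) h) →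
      MemLocalIdeal M (centralChar (χ : SL₂ → ℂ) g - centralChar (ψ : SL₂ → ℂ) g) := by
    intro g h hc hh
    rw [cc_conj χ hc, cc_conj ψ hc]; exact hh
  have hcent : ∀ (e b : F) (he : e * e = 1), MemLocalIdeal M (centralChar (χ : SL₂ → ℂ) (up e b he) - centralChar (ψ : SL₂ → ℂ) (up e b he)) := by
    intro e b he
    obtain ⟨t, ht1, ht2⟩ := hsc e he
    rw [up_eq]
    have k1 := cc_central hM χ hχ (hcomm e (e * b) he) (hupord (e * b)) (hord e he) ht1
    have k2 := cc_central hM ψ hψ (hcomm e (e * b) he) (hupord (e * b)) (hord e he) ht2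
    have k3 := ideal_sub k1 k2
    rwa [sub_sub_sub_cancel_right] at k3
  intro g
  rcases cases_SL g with ⟨e, he, rfl⟩ | ⟨e, he, b, hb, hc⟩ | ⟨a, ha, hc⟩ | hE
  · have : sc e he = up e 0 he := rfl
    rw [this]
    exact hcent e 0 he
  · exact hinv _ _ hc (hcent e b he)
  · apply hinv _ _ hc
    have hi : p ∣ (Subgroup.centralizer ({utS a (0 : F)} : Set SL₂)).index := by
      apply dvd_index
      rw [card_TE_split ha]
      exact not_dvd_qm
    exact ideal_sub (cc_zero hM χ hχ hi) (cc_zero hM ψ hψ hi)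
  · have hi : p ∣ (Subgroup.centralizer ({g} : Set SL₂)).index := by
      apply dvd_index
      rw [card_TE hE]
      exact not_dvd_qp
    exact ideal_sub (cc_zero hM χ hχ hi) (cc_zero hM ψ hψ hi)

/-- the Steinberg character -/
theorem not_same_St (hM : IsPModular p M) (χ ψ : IrrCharacter SL₂) (hχ : (χ : SL₂ → ℂ) = StS)
    (hψ : ¬ p ∣ charDegree (ψ : SL₂ → ℂ)) : ¬ SameBlock M (χ : SL₂ → ℂ) (ψ : SL₂ → ℂ) := by
  haveI := hM.2.1
  intro hs
  obtain ⟨c, hc⟩ := exists_ell (F := F)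
  have hi : p ∣ (Subgroup.centralizer ({c} : Set SL₂)).index := by
    apply dvd_index
    rw [card_TE hc]
    exact not_dvd_qp
  have h1 := cc_zero hM ψ hψ hi
  have h2 := ideal_add (hs c) h1
  rw [sub_add_cancel] at h2
  have hq := one_lt_q (F := F)
  have h3 : (Subgroup.centralizer ({c} : Set SL₂)).index = Fintype.card F * (Fintype.card F - 1) := by
    have h4 := Subgroup.card_mul_index (Subgroup.centralizer ({c} : Set SL₂))
    have h5 : Nat.card (Subgroup.centralizer ({c} : Set SL₂)) = Fintype.card F + 1 := card_TE hc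
    rw [h5, card_G_mul] at h4
    apply Nat.eq_of_mul_eq_mul_left (show 0 < Fintype.card F + 1 by omega)
    rw [h4]; ring
  have h6 : centralChar (χ : SL₂ → ℂ) c = -((Fintype.card F - 1 : ℕ) : ℂ) := by
    rw [centralChar, h3, hχ, StS_ell hc, StS_one]
    have := q_ne (F := F)
    push_cast
    field_simp
  rw [h6] at h2
  have h7 := ideal_neg h2
  rw [neg_neg, ideal_natCast_iff hM] at h7
  exact not_dvd_qm h7

theorem not_same_sign (hp2 : p ≠ 2) (hM : IsPModular p M) (χ ψ : IrrCharacter SL₂)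
    (h1 : (χ : SL₂ → ℂ) (-1) = (χ : SL₂ → ℂ) 1) (h2 : (ψ : SL₂ → ℂ) (-1) = -(ψ : SL₂ → ℂ) 1) :
    ¬ SameBlock M (χ : SL₂ → ℂ) (ψ : SL₂ → ℂ) := by
  haveI := hM.2.1
  intro hs
  have h3 := hs (-1)
  have hc : Subgroup.centralizer ({(-1 : SL₂)} : Set SL₂) = ⊤ := by
    rw [eq_top_iff]
    intro x _
    rw [Subgroup.mem_centralizer_singleton_iff, mul_neg, neg_mul, mul_one, one_mul]
  have n1 : (χ : SL₂ → ℂ) 1 ≠ 0 := Cfsg.Agent.H3.CharIrr.IsIrr.one_ne_zero χ.2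
  have n2 : (ψ : SL₂ → ℂ) 1 ≠ 0 := Cfsg.Agent.H3.CharIrr.IsIrr.one_ne_zero ψ.2
  rw [centralChar, centralChar, hc, Subgroup.index_top, h1, h2, Nat.cast_one, one_mul, one_mul, div_self n1, neg_div, div_self n2] at h3
  have h4 : MemLocalIdeal M ((2 : ℕ) : ℂ) := by
    push_cast
    convert h3 using 1
    norm_num
  rw [ideal_natCast_iff hM] at h4
  exact hp2 ((Nat.prime_dvd_prime_iff_eq hp.out Nat.prime_two).mp h4)

theorem sign_cases (χ : IrrCharacter SL₂) : (χ : SL₂ → ℂ) (-1) = (χ : SL₂ → ℂ) 1 ∨ (χ : SL₂ → ℂ) (-1) = -(χ : SL₂ → ℂ) 1 := by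
  have := Cfsg.Agent.H10.BlockCen.even_or_odd (C := SL₂) (t := -1) (fun c => by rw [mul_neg, neg_mul, mul_one, one_mul]) (by rw [neg_mul_neg, one_mul]) χ
  rcases this with h | h
  · left; have := h 1; rwa [mul_one] at this
  · right; have := h 1; rwa [mul_one] at this

theorem neg_ne_one (hp2 : p ≠ 2) : (-1 : SL₂) ≠ 1 := by
  intro h
  have h2 := two_ne_zero_of_odd (q_odd (F := F) hp2)
  have h3 : ((-1 : SL₂) : M₂) 0 0 = (1 : M₂) 0 0 := congrArg (fun x : SL₂ => (x : M₂) 0 0) h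
  rw [neg_one_sc, sc_coe] at h3
  simp at h3
  apply h2
  linear_combination -h3

theorem exists_faithful (hp2 : p ≠ 2) : ∃ χ : IrrCharacter SL₂, (χ : SL₂ → ℂ) (-1) = -(χ : SL₂ → ℂ) 1 := by
  by_contra hcon
  push Not at hcon
  apply neg_ne_one (F := F) hp2
  apply Cfsg.Agent.H1.Deg.eq_one_of_forall_irr
  intro χ hχ
  exact (sign_cases ⟨χ, hχ⟩).resolve_right (hcon ⟨χ, hχ⟩)

theorem St_iff (χ : IrrCharacter SL₂) : (χ : SL₂ → ℂ) 1 = (Fintype.card F : ℂ) ↔ (χ : SL₂ → ℂ) = StS :=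
  ⟨deg_q χ.2, fun h => by rw [h]; exact StS_one⟩

theorem St_neg : (StS : SL₂ → ℂ) (-1) = StS (1 : SL₂) := by
  rw [neg_one_sc, StS_sc, StS_one]

theorem main (hp2 : p ≠ 2) (hM : IsPModular p M) (B : Set (IrrCharacter SL₂)) : IsPBlock M B ↔
    (B = {χ : IrrCharacter SL₂ | (χ : SL₂ → ℂ) 1 = (Fintype.card F : ℂ)} ∨
     B = {χ : IrrCharacter SL₂ | (χ : SL₂ → ℂ) (-1) = (χ : SL₂ → ℂ) 1 ∧ (χ : SL₂ → ℂ) 1 ≠ (Fintype.card F : ℂ)} ∨
     B = {χ : IrrCharacter SL₂ | (χ : SL₂ → ℂ) (-1) = -(χ : SL₂ → ℂ) 1}) := by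
  haveI := hM.2.1
  have hne0 : ∀ χ : IrrCharacter SL₂, (χ : SL₂ → ℂ) 1 ≠ 0 := fun χ => Cfsg.Agent.H3.CharIrr.IsIrr.one_ne_zero χ.2
  have hsg : ∀ χ : IrrCharacter SL₂, (χ : SL₂ → ℂ) (-1) = (χ : SL₂ → ℂ) 1 → ¬ (χ : SL₂ → ℂ) (-1) = -(χ : SL₂ → ℂ) 1 := by
    intro χ h1 h2
    rw [h1] at h2
    exact hne0 χ (by linear_combination (1 / 2) * h2)
  have b1 : ∀ χ : IrrCharacter SL₂, (χ : SL₂ → ℂ) = StS → blockOf M (χ : SL₂ → ℂ) =
      {χ : IrrCharacter SL₂ | (χ : SL₂ → ℂ) 1 = (Fintype.card F : ℂ)} := by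
    intro χ hχ
    ext ψ
    rw [mem_blockOf, Set.mem_setOf_eq, St_iff]
    constructor
    · intro h
      rcases deg_cases hp2 ψ with h' | h'
      · exact h'
      · exact absurd h (not_same_St hM χ ψ hχ h')
    · intro h
      have : χ = ψ := Subtype.ext (hχ.trans h.symm)
      rw [this]; exact sameBlock_refl ψ
  have b2 : ∀ χ : IrrCharacter SL₂, ¬ (χ : SL₂ → ℂ) = StS → (χ : SL₂ → ℂ) (-1) = (χ : SL₂ → ℂ) 1 → blockOf M (χ : SL₂ → ℂ) =
      {χ : IrrCharacter SL₂ | (χ : SL₂ → ℂ) (-1) = (χ : SL₂ → ℂ) 1 ∧ (χ : SL₂ → ℂ) 1 ≠ (Fintype.card F : ℂ)} := by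
    intro χ hχ hs
    have hd := (deg_cases hp2 χ).resolve_left hχ
    ext ψ
    rw [mem_blockOf, Set.mem_setOf_eq, Ne, St_iff]
    constructor
    · intro h
      refine ⟨?_, fun h' => not_same_St hM ψ χ h' hd (sameBlock_symm h)⟩
      rcases sign_cases ψ with h' | h'
      · exact h'
      · exact absurd h (not_same_sign hp2 hM χ ψ hs h')
    · rintro ⟨h1, h2⟩
      exact same_of hp2 hM χ ψ hd ((deg_cases hp2 ψ).resolve_left h2) 1 (by rw [one_mul]; exact hs) (by rw [one_mul]; exact h1)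
  have b3 : ∀ χ : IrrCharacter SL₂, (χ : SL₂ → ℂ) (-1) = -(χ : SL₂ → ℂ) 1 → blockOf M (χ : SL₂ → ℂ) =
      {χ : IrrCharacter SL₂ | (χ : SL₂ → ℂ) (-1) = -(χ : SL₂ → ℂ) 1} := by
    intro χ hs
    have hnSt : ∀ ψ : IrrCharacter SL₂, (ψ : SL₂ → ℂ) (-1) = -(ψ : SL₂ → ℂ) 1 → ¬ (ψ : SL₂ → ℂ) = StS := by
      intro ψ h1 h2
      apply hsg ψ _ h1
      rw [h2]; exact St_neg
    have hd := (deg_cases hp2 χ).resolve_left (hnSt χ hs)
    ext ψ
    rw [mem_blockOf, Set.mem_setOf_eq]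
    constructor
    · intro h
      rcases sign_cases ψ with h' | h'
      · exact absurd (sameBlock_symm h) (not_same_sign hp2 hM ψ χ h' hs)
      · exact h'
    · intro h
      exact same_of hp2 hM χ ψ hd ((deg_cases hp2 ψ).resolve_left (hnSt ψ h)) (-1) (by rw [neg_one_mul]; exact hs) (by rw [neg_one_mul]; exact h)
  constructor
  · rintro ⟨χ, rfl⟩
    by_cases h : (χ : SL₂ → ℂ) = StS
    · exact Or.inl (b1 χ h)
    · rcases sign_cases χ with h' | h'
      · exact Or.inr (Or.inl (b2 χ h h'))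
      · exact Or.inr (Or.inr (b3 χ h'))
  · rintro (rfl | rfl | rfl)
    · exact ⟨⟨StS, isIrr_StS⟩, (b1 ⟨StS, isIrr_StS⟩ rfl).symm⟩
    · refine ⟨⟨fun _ => 1, Cfsg.Agent.H3.CharInd.isIrr_one⟩, (b2 ⟨fun _ => 1, Cfsg.Agent.H3.CharInd.isIrr_one⟩ ?_ rfl).symm⟩
      intro h
      have h1 : (1 : ℂ) = StS (1 : SL₂) := congrFun h 1
      rw [StS_one] at h1
      exact one_lt_card_c (F := F) h1
    · obtain ⟨χ, hχ⟩ := exists_faithful (F := F) hp2
      exact ⟨χ, (b3 χ hχ).symm⟩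

theorem full (hp2 : p ≠ 2) (hM : IsPModular p M) :
    (∀ B : Set (IrrCharacter SL₂), IsPBlock M B ↔
      (B = {χ : IrrCharacter SL₂ | (χ : SL₂ → ℂ) 1 = (Fintype.card F : ℂ)} ∨
       B = {χ : IrrCharacter SL₂ | (χ : SL₂ → ℂ) (-1) = (χ : SL₂ → ℂ) 1 ∧ (χ : SL₂ → ℂ) 1 ≠ (Fintype.card F : ℂ)} ∨
       B = {χ : IrrCharacter SL₂ | (χ : SL₂ → ℂ) (-1) = -(χ : SL₂ → ℂ) 1})) ∧
    Nat.card {B : Set (IrrCharacter SL₂) // IsPBlock M B} = 3 ∧
    ∀ P : Sylow p SL₂,
      IsDefectGroup p M {χ : IrrCharacter SL₂ | (χ : SL₂ → ℂ) (-1) = (χ : SL₂ → ℂ) 1 ∧ (χ : SL₂ → ℂ) 1 ≠ (Fintype.card F : ℂ)} (P : Subgroup SL₂) ∧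
      IsDefectGroup p M {χ : IrrCharacter SL₂ | (χ : SL₂ → ℂ) (-1) = -(χ : SL₂ → ℂ) 1} (P : Subgroup SL₂) := by
  classical
  have hmain := main (F := F) hp2 hM
  have one_ne : (1 : ℂ) ≠ (Fintype.card F : ℂ) := fun h => one_lt_card_c (F := F) h
  obtain ⟨χ3, hχ3⟩ := exists_faithful (F := F) hp2
  have hne0 : ∀ χ : IrrCharacter SL₂, (χ : SL₂ → ℂ) 1 ≠ 0 := fun χ => Cfsg.Agent.H3.CharIrr.IsIrr.one_ne_zero χ.2
  have hnSt : ∀ ψ : IrrCharacter SL₂, (ψ : SL₂ → ℂ) (-1) = -(ψ : SL₂ → ℂ) 1 → ¬ (ψ : SL₂ → ℂ) = StS := by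
    intro ψ h1 h2
    rw [h2, St_neg, StS_one] at h1
    exact q_ne (F := F) (by linear_combination (1 / 2) * h1)
  refine ⟨hmain, ?_, ?_⟩
  · have d12 : ({χ : IrrCharacter SL₂ | (χ : SL₂ → ℂ) 1 = (Fintype.card F : ℂ)} : Set (IrrCharacter SL₂)) ≠
        {χ : IrrCharacter SL₂ | (χ : SL₂ → ℂ) (-1) = (χ : SL₂ → ℂ) 1 ∧ (χ : SL₂ → ℂ) 1 ≠ (Fintype.card F : ℂ)} := by
      intro h
      have h1 : (⟨StS, isIrr_StS⟩ : IrrCharacter SL₂) ∈ {χ : IrrCharacter SL₂ | (χ : SL₂ → ℂ) 1 = (Fintype.card F : ℂ)} := StS_one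
      rw [h] at h1
      exact h1.2 StS_one
    have d13 : ({χ : IrrCharacter SL₂ | (χ : SL₂ → ℂ) 1 = (Fintype.card F : ℂ)} : Set (IrrCharacter SL₂)) ≠
        {χ : IrrCharacter SL₂ | (χ : SL₂ → ℂ) (-1) = -(χ : SL₂ → ℂ) 1} := by
      intro h
      have h1 : (⟨StS, isIrr_StS⟩ : IrrCharacter SL₂) ∈ {χ : IrrCharacter SL₂ | (χ : SL₂ → ℂ) 1 = (Fintype.card F : ℂ)} := StS_one
      rw [h] at h1
      exact hnSt _ h1 rfl
    have d23 : ({χ : IrrCharacter SL₂ | (χ : SL₂ → ℂ) (-1) = (χ : SL₂ → ℂ) 1 ∧ (χ : SL₂ → ℂ) 1 ≠ (Fintype.card F : ℂ)} : Set (IrrCharacter SL₂)) ≠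
        {χ : IrrCharacter SL₂ | (χ : SL₂ → ℂ) (-1) = -(χ : SL₂ → ℂ) 1} := by
      intro h
      have h1 : χ3 ∈ {χ : IrrCharacter SL₂ | (χ : SL₂ → ℂ) (-1) = -(χ : SL₂ → ℂ) 1} := hχ3
      rw [← h] at h1
      have h2 := h1.1
      rw [hχ3] at h2
      exact hne0 χ3 (by linear_combination (-1 / 2) * h2)
    have e : {B : Set (IrrCharacter SL₂) // IsPBlock M B} ≃ ({({χ : IrrCharacter SL₂ | (χ : SL₂ → ℂ) 1 = (Fintype.card F : ℂ)} : Set (IrrCharacter SL₂)),
        {χ : IrrCharacter SL₂ | (χ : SL₂ → ℂ) (-1) = (χ : SL₂ → ℂ) 1 ∧ (χ : SL₂ → ℂ) 1 ≠ (Fintype.card F : ℂ)},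
        {χ : IrrCharacter SL₂ | (χ : SL₂ → ℂ) (-1) = -(χ : SL₂ → ℂ) 1}} : Finset (Set (IrrCharacter SL₂))) :=
      Equiv.subtypeEquivRight (fun B => by
        rw [hmain B, Finset.mem_insert, Finset.mem_insert, Finset.mem_singleton])
    rw [Nat.card_congr e, Nat.card_eq_finsetCard, Finset.card_eq_three]
    exact ⟨_, _, _, d12, d13, d23, rfl⟩
  · intro P
    constructor
    · apply defect_full hM ((hmain _).mpr (Or.inr (Or.inl rfl))) P (ψ := ⟨fun _ => 1, Cfsg.Agent.H3.CharInd.isIrr_one⟩)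
      · exact ⟨rfl, one_ne⟩
      · rw [Cfsg.Agent.H1.Deg.deg_eq (n := 1) (by push_cast; rfl)]
        exact fun h => hp.out.one_lt.ne' (Nat.dvd_one.mp h)
    · exact defect_full hM ((hmain _).mpr (Or.inr (Or.inr rfl))) P (ψ := χ3) hχ3 ((deg_cases hp2 χ3).resolve_left (hnSt χ3 hχ3))

end sl

end Cfsg.Agent.H15.BL
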