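import Mathlib

set_option autoImplicit false

namespace Cfsg.Agent.H15.Bruhat

open Matrix

/-- insert row `i` and column `j` meeting in `c`, zero elsewhere -/
def ins {R : Type*} [CommRing R] {n : ℕ} (i j : Fin (n + 1)) (c : R) (M : Matrix (Fin n) (Fin n) R) :
    Matrix (Fin (n + 1)) (Fin (n + 1)) R :=
  Matrix.of (Fin.insertNth (α := fun _ => Fin (n + 1) → R) i (Fin.insertNth (α := fun _ => R) j c 0)
    (fun a => Fin.insertNth (α := fun _ => R) j 0 (M a)))

variable {R : Type*} [CommRing R] {n : ℕ}

@[simp] theorem ins_ii (i j : Fin (n + 1)) (c : R) (M : Matrix (Fin n) (Fin n) R) : ins i j c M i j = c := by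
  simp [ins]

@[simp] theorem ins_ia (i j : Fin (n + 1)) (c : R) (M : Matrix (Fin n) (Fin n) R) (a : Fin n) :
    ins i j c M i (j.succAbove a) = 0 := by
  simp [ins]

@[simp] theorem ins_ai (i j : Fin (n + 1)) (c : R) (M : Matrix (Fin n) (Fin n) R) (a : Fin n) :
    ins i j c M (i.succAbove a) j = 0 := by
  simp [ins]

@[simp] theorem ins_ab (i j : Fin (n + 1)) (c : R) (M : Matrix (Fin n) (Fin n) R) (a b : Fin n) :
    ins i j c M (i.succAbove a) (j.succAbove b) = M a b := by
  simp [ins]

theorem ext_ins (i j : Fin (n + 1)) {A B : Matrix (Fin (n + 1)) (Fin (n + 1)) R} (h1 : A i j = B i j)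
    (h2 : ∀ a, A i (j.succAbove a) = B i (j.succAbove a))
    (h3 : ∀ a, A (i.succAbove a) j = B (i.succAbove a) j)
    (h4 : ∀ a b, A (i.succAbove a) (j.succAbove b) = B (i.succAbove a) (j.succAbove b)) : A = B := by
  ext a b
  rcases Fin.eq_self_or_eq_succAbove i a with rfl | ⟨a, rfl⟩ <;>
    rcases Fin.eq_self_or_eq_succAbove j b with rfl | ⟨b, rfl⟩
  · exact h1
  · exact h2 b
  · exact h3 a
  · exact h4 a b

theorem ins_mul (i j k : Fin (n + 1)) (c d : R) (M N : Matrix (Fin n) (Fin n) R) :
    ins i j c M * ins j k d N = ins i k (c * d) (M * N) := by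
  apply ext_ins i k
  · rw [Matrix.mul_apply, Fin.sum_univ_succAbove _ j]
    simp
  · intro a
    rw [Matrix.mul_apply, Fin.sum_univ_succAbove _ j]
    simp
  · intro a
    rw [Matrix.mul_apply, Fin.sum_univ_succAbove _ j]
    simp
  · intro a b
    rw [Matrix.mul_apply, Fin.sum_univ_succAbove _ j]
    simp [Matrix.mul_apply]

theorem ins_one (i : Fin (n + 1)) : ins i i (1 : R) 1 = 1 := by
  apply ext_ins i i
  · simp
  · intro a
    rw [ins_ia, Matrix.one_apply_ne (Fin.succAbove_ne i a).symm]
  · intro a
    rw [ins_ai, Matrix.one_apply_ne (Fin.succAbove_ne i a)]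
  · intro a b
    rw [ins_ab, Matrix.one_apply, Matrix.one_apply]
    simp

theorem ins_isUnit {F : Type*} [Field F] (i : Fin (n + 1)) {c : F} (hc : c ≠ 0)
    {M : Matrix (Fin n) (Fin n) F} (hM : IsUnit M) : IsUnit (ins i i c M) := by
  obtain ⟨u, rfl⟩ := hM
  refine isUnit_iff_exists.mpr ⟨ins i i c⁻¹ (u⁻¹ : (Matrix (Fin n) (Fin n) F)ˣ), ?_, ?_⟩
  · rw [ins_mul, mul_inv_cancel₀ hc, Units.mul_inv, ins_one]
  · rw [ins_mul, inv_mul_cancel₀ hc, Units.inv_mul, ins_one]

theorem ins_triangular (i : Fin (n + 1)) (c : R) {M : Matrix (Fin n) (Fin n) R}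
    (hM : M.BlockTriangular id) : (ins i i c M).BlockTriangular id := by
  intro a b hab
  simp only [id] at hab
  rcases Fin.eq_self_or_eq_succAbove i a with ha | ⟨a, rfl⟩ <;>
    rcases Fin.eq_self_or_eq_succAbove i b with hb | ⟨b, rfl⟩
  · subst ha; subst hb; exact absurd hab (lt_irrefl _)
  · subst ha; simp
  · subst hb; simp
  · rw [ins_ab]
    apply hM
    simpa using hab

/-- permutation matrices -/
def pm (R : Type*) [CommRing R] {m : ℕ} (σ : Equiv.Perm (Fin m)) : Matrix (Fin m) (Fin m) R :=
  Matrix.of fun i j => if i = σ j then 1 else 0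

theorem pm_apply {m : ℕ} (σ : Equiv.Perm (Fin m)) (i j : Fin m) :
    pm R σ i j = if i = σ j then 1 else 0 := rfl

theorem pm_mul {m : ℕ} (σ τ : Equiv.Perm (Fin m)) : pm R (σ * τ) = pm R σ * pm R τ := by
  ext i k
  by_cases h : i = σ (τ k) <;> simp [pm_apply, Matrix.mul_apply, h]

theorem pm_one {m : ℕ} : pm R (1 : Equiv.Perm (Fin m)) = 1 := by
  ext i j
  rw [pm_apply, Matrix.one_apply]
  rfl

/-- the permutation sending `j` to `i` and otherwise `σ` -/
def insPerm (i j : Fin (n + 1)) (σ : Equiv.Perm (Fin n)) : Equiv.Perm (Fin (n + 1)) :=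
  (finSuccEquiv' j).trans ((Equiv.optionCongr σ).trans (finSuccEquiv' i).symm)

theorem insPerm_self (i j : Fin (n + 1)) (σ : Equiv.Perm (Fin n)) : insPerm i j σ j = i := by
  simp [insPerm]

theorem insPerm_succAbove (i j : Fin (n + 1)) (σ : Equiv.Perm (Fin n)) (a : Fin n) :
    insPerm i j σ (j.succAbove a) = i.succAbove (σ a) := by
  simp [insPerm]

theorem pm_insPerm (i j : Fin (n + 1)) (σ : Equiv.Perm (Fin n)) :
    pm R (insPerm i j σ) = ins i j 1 (pm R σ) := by
  apply ext_ins i j
  · simp [pm_apply, insPerm_self]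
  · intro a
    simp [pm_apply, insPerm_succAbove, (Fin.succAbove_ne i _).symm]
  · intro a
    simp [pm_apply, insPerm_self, Fin.succAbove_ne i _]
  · intro a b
    simp [pm_apply, insPerm_succAbove]

theorem bruhat_mat {F : Type*} [Field F] : ∀ (n : ℕ) (g : Matrix (Fin n) (Fin n) F), IsUnit g →
    ∃ (b b' : Matrix (Fin n) (Fin n) F) (w : Equiv.Perm (Fin n)), IsUnit b ∧ IsUnit b' ∧
      b.BlockTriangular id ∧ b'.BlockTriangular id ∧ g = b * pm F w * b' := by
  intro n
  induction n with
  | zero =>
    intro g hg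
    refine ⟨1, 1, 1, isUnit_one, isUnit_one, Matrix.blockTriangular_one, Matrix.blockTriangular_one, ?_⟩
    ext i
    exact i.elim0
  | succ n ih =>
    intro g hg
    -- lowest nonzero entry of column 0
    have hne : ∃ k, g k 0 ≠ 0 := by
      by_contra hcon
      push Not at hcon
      have h1 := (Matrix.isUnit_iff_isUnit_det g).mp hg
      rw [Matrix.det_eq_zero_of_column_eq_zero 0 hcon] at h1
      exact not_isUnit_zero h1
    classical
    have hS : (Finset.univ.filter (fun k => g k 0 ≠ 0)).Nonempty := by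
      obtain ⟨k, hk⟩ := hne
      exact ⟨k, by simp [hk]⟩
    set i := (Finset.univ.filter (fun k => g k 0 ≠ 0)).max' hS with hi
    have hi0 : g i 0 ≠ 0 := by
      have := Finset.max'_mem _ hS
      rw [← hi] at this
      simpa using this
    have hgt : ∀ k, i < k → g k 0 = 0 := by
      intro k hk
      by_contra h
      have := Finset.le_max' (Finset.univ.filter (fun k => g k 0 ≠ 0)) k (by simp [h])
      rw [← hi] at this
      exact absurd hk (not_lt.mpr this)
    set c := g i 0 with hc
    -- the row operation matrix and its inverse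
    let v : Fin (n + 1) → F := fun k => if k = i then 0 else g k 0 / c
    let u : Fin (n + 1) → F := fun j => if j = 0 then 0 else g i j / c
    have hv : ∀ k, i ≤ k → v k = 0 := by
      intro k hk
      rcases eq_or_lt_of_le hk with h | h
      · simp [v, h]
      · simp [v, hgt k h]
    have hu0 : u 0 = 0 := by simp [u]
    let L : Matrix (Fin (n + 1)) (Fin (n + 1)) F := 1 + Matrix.vecMulVec v (Pi.single i 1)
    let L' : Matrix (Fin (n + 1)) (Fin (n + 1)) F := 1 - Matrix.vecMulVec v (Pi.single i 1)
    let Q : Matrix (Fin (n + 1)) (Fin (n + 1)) F := 1 + Matrix.vecMulVec (Pi.single 0 1) u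
    let Q' : Matrix (Fin (n + 1)) (Fin (n + 1)) F := 1 - Matrix.vecMulVec (Pi.single 0 1) u
    have hvv : Matrix.vecMulVec v (Pi.single i (1 : F)) * Matrix.vecMulVec v (Pi.single i 1) = 0 := by
      rw [Matrix.vecMulVec_mul_vecMulVec]
      simp [hv i le_rfl]
    have huu : Matrix.vecMulVec (Pi.single (0 : Fin (n + 1)) (1 : F)) u *
        Matrix.vecMulVec (Pi.single (0 : Fin (n + 1)) 1) u = 0 := by
      rw [Matrix.vecMulVec_mul_vecMulVec]
      simp [hu0]
    have hLL' : L * L' = 1 := by
      simp only [L, L', mul_sub, add_mul, one_mul, mul_one, hvv]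
      abel
    have hL'L : L' * L = 1 := by
      simp only [L, L', sub_mul, mul_add, one_mul, mul_one, hvv]
      abel
    have hQQ' : Q * Q' = 1 := by
      simp only [Q, Q', mul_sub, add_mul, one_mul, mul_one, huu]
      abel
    have hQ'Q : Q' * Q = 1 := by
      simp only [Q, Q', sub_mul, mul_add, one_mul, mul_one, huu]
      abel
    have hLtri : L.BlockTriangular id := by
      intro a b hab
      simp only [id] at hab
      simp only [L, Matrix.add_apply, Matrix.vecMulVec_apply, Matrix.one_apply_ne hab.ne', zero_add]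
      by_cases hb : b = i
      · subst hb
        rw [hv a hab.le, zero_mul]
      · simp [Pi.single_apply, hb]
    have hQtri : Q.BlockTriangular id := by
      intro a b hab
      simp only [id] at hab
      simp only [Q, Matrix.add_apply, Matrix.vecMulVec_apply, Matrix.one_apply_ne hab.ne', zero_add]
      by_cases ha : a = 0
      · subst ha
        exact absurd hab (by simp)
      · simp [Pi.single_apply, ha]
    -- reduced matrix
    set h := L' * g * Q' with hh
    have hcalc : ∀ a b, h a b = g a b - v a * g i b - (g a 0 - v a * g i 0) * u b := by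
      intro a b
      have e1 : ∀ a b, (L' * g) a b = g a b - v a * g i b := by
        intro a b
        simp only [L', sub_mul, one_mul, Matrix.sub_apply]
        rw [Matrix.vecMulVec_eq Unit, Matrix.mul_assoc]
        simp [Matrix.mul_apply, Pi.single_apply]
      rw [hh]
      simp only [Q', mul_sub, mul_one, Matrix.sub_apply, e1]
      congr 1
      rw [Matrix.mul_apply, Finset.sum_eq_single 0]
      · rw [e1]
        simp [Matrix.vecMulVec_apply]
      · intro x _ hx
        simp [Matrix.vecMulVec_apply, Pi.single_apply, hx]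
      · simp
    have hform : h = ins i 0 c (h.submatrix i.succAbove (Fin.succAbove 0)) := by
      apply ext_ins i 0
      · rw [hcalc, ins_ii, hv i le_rfl, hu0]
        simp [hc]
      · intro a
        rw [hcalc, ins_ia, hv i le_rfl]
        simp only [u, Fin.succAbove_ne, if_false]
        rw [zero_mul, sub_zero, zero_mul, sub_zero, ← hc]
        field_simp
        simp
      · intro a
        rw [hcalc, ins_ai, hu0]
        simp only [v, Fin.succAbove_ne, if_false]
        rw [← hc]
        field_simp
        simp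
      · intro a b
        rw [ins_ab]
        rfl
    have hunit : IsUnit (h.submatrix i.succAbove (Fin.succAbove 0)) := by
      have h1 : IsUnit h := by
        rw [hh]
        exact ((isUnit_iff_exists.mpr ⟨L, hL'L, hLL'⟩).mul hg).mul (isUnit_iff_exists.mpr ⟨Q, hQ'Q, hQQ'⟩)
      rw [Matrix.isUnit_iff_isUnit_det] at h1 ⊢
      have h2 : h.det = (-1) ^ (i : ℕ) * c * (h.submatrix i.succAbove (Fin.succAbove 0)).det := by
        rw [Matrix.det_succ_column h 0, Finset.sum_eq_single i]
        · rw [hform, ins_ii]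
          simp only [Fin.val_zero, add_zero]
        · intro x _ hx
          obtain ⟨y, rfl⟩ := Fin.exists_succAbove_eq hx
          rw [hform, ins_ai]
          ring
        · simp
      rw [h2] at h1
      exact isUnit_of_mul_isUnit_right h1
    obtain ⟨b, b', w, hb, hb', hbt, hbt', hw⟩ := ih _ hunit
    refine ⟨L * ins i i c b, ins 0 0 1 b' * Q, insPerm i 0 w, ?_, ?_, ?_, ?_, ?_⟩
    · exact (isUnit_iff_exists.mpr ⟨L', hLL', hL'L⟩).mul (ins_isUnit i hi0 hb)
    · exact (ins_isUnit 0 one_ne_zero hb').mul (isUnit_iff_exists.mpr ⟨Q', hQQ', hQ'Q⟩)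
    · exact hLtri.mul (ins_triangular i c hbt)
    · exact (ins_triangular 0 1 hbt').mul hQtri
    · have h3 : h = ins i i c b * pm F (insPerm i 0 w) * ins 0 0 1 b' := by
        rw [pm_insPerm, ins_mul, ins_mul, hform, hw]
        simp
      calc g = (L * L') * g * (Q' * Q) := by rw [hLL', hQ'Q, one_mul, mul_one]
        _ = L * h * Q := by rw [hh]; simp only [mul_assoc]
        _ = _ := by rw [h3]; simp only [mul_assoc]

end Cfsg.Agent.H15.Bruhat
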