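import Mathlib

set_option autoImplicit false
open Module Polynomial

namespace Cfsg.Agent.H15.SS

variable {F : Type*} [Field F]

section one

variable {V : Type*} [AddCommGroup V] [Module F V] [Module.Finite F V]

/-- an irreducible factor of the characteristic polynomial has a non-zero kernel -/
theorem exists_ker {g : Module.End F V} {f : F[X]} (hf : Irreducible f) (hd : f ∣ g.charpoly) :
    ∃ v : V, v ≠ 0 ∧ aeval g f v = 0 := by
  have hmin : f ∣ minpoly F g := by
    haveI : Fact (Irreducible f) := ⟨hf⟩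
    let K := AdjoinRoot f
    let α : K := AdjoinRoot.root f
    have h1 : (g.baseChange K).charpoly.IsRoot α := by
      rw [LinearMap.charpoly_baseChange, Polynomial.IsRoot, Polynomial.eval_map_algebraMap]
      obtain ⟨c, hc⟩ := hd
      rw [hc, map_mul, show (aeval α) f = 0 from by rw [AdjoinRoot.aeval_eq, AdjoinRoot.mk_self], zero_mul]
    rw [← Module.End.hasEigenvalue_iff_isRoot_charpoly] at h1
    obtain ⟨x, hx⟩ := h1.exists_hasEigenvector
    have h2 : aeval (g.baseChange K) ((minpoly F g).map (algebraMap F K)) = 0 := by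
      rw [Polynomial.aeval_map_algebraMap]
      have h3 := minpoly.aeval F g
      have h4 : aeval (g.baseChange K) (minpoly F g) = (aeval g (minpoly F g)).baseChange K := by
        have := Polynomial.aeval_algHom_apply (Module.End.baseChangeHom F K V) g (minpoly F g)
        exact this
      rw [h4, h3, LinearMap.baseChange_zero]
    have h3 := Module.End.aeval_apply_of_hasEigenvector (p := (minpoly F g).map (algebraMap F K)) hx
    rw [h2, LinearMap.zero_apply] at h3
    have h4 := (smul_eq_zero.mp h3.symm).resolve_right hx.2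
    rw [Polynomial.eval_map_algebraMap, AdjoinRoot.aeval_eq, AdjoinRoot.mk_eq_zero] at h4
    exact h4
  by_contra hcon
  push Not at hcon
  obtain ⟨c, hc⟩ := hmin
  have hc0 : c ≠ 0 := by
    rintro rfl
    rw [mul_zero] at hc
    exact minpoly.ne_zero (Algebra.IsIntegral.isIntegral g) hc
  have h1 : aeval g c = 0 := by
    apply LinearMap.ext
    intro v
    by_contra h
    apply hcon (aeval g c v) h
    rw [← Module.End.mul_apply, ← map_mul, ← hc, minpoly.aeval, LinearMap.zero_apply]
  have h2 := minpoly.degree_le_of_ne_zero F g hc0 h1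
  rw [hc, degree_mul, degree_eq_natDegree hf.ne_zero, degree_eq_natDegree hc0] at h2
  have h3 := hf.natDegree_pos
  norm_cast at h2
  omega

/-- evaluation of polynomials at a vector -/
noncomputable def ev (g : Module.End F V) (v : V) : F[X] →ₗ[F] V :=
  (LinearMap.applyₗ v).comp ((aeval g).toLinearMap)

theorem ev_apply (g : Module.End F V) (v : V) (p : F[X]) : ev g v p = aeval g p v := rfl

theorem ev_X (g : Module.End F V) (v : V) (p : F[X]) : ev g v (X * p) = g (ev g v p) := by
  rw [ev_apply, ev_apply, map_mul, aeval_X, Module.End.mul_apply]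

theorem ker_ev {g : Module.End F V} {v : V} {f : F[X]} (hf : Irreducible f) (hv : v ≠ 0) (hfv : aeval g f v = 0) (p : F[X]) :
    ev g v p = 0 ↔ f ∣ p := by
  constructor
  · intro h
    by_contra hnd
    have hco : IsCoprime f p := (hf.coprime_iff_not_dvd).mpr hnd
    obtain ⟨a, b, hab⟩ := hco
    apply hv
    have h1 : aeval g (a * f + b * p) v = 0 := by
      rw [map_add, LinearMap.add_apply, map_mul, map_mul, Module.End.mul_apply, Module.End.mul_apply, hfv, map_zero]
      rw [ev_apply] at h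
      rw [h, map_zero, add_zero]
    rw [hab, map_one] at h1
    exact h1
  · rintro ⟨c, rfl⟩
    rw [ev_apply, mul_comm, map_mul, Module.End.mul_apply, hfv, map_zero]

/-- the cyclic submodule is the residue field -/
noncomputable def cyc {g : Module.End F V} {v : V} {f : F[X]} (hf : Irreducible f) (hv : v ≠ 0) (hfv : aeval g f v = 0) :
    AdjoinRoot f ≃ₗ[F] LinearMap.range (ev g v) :=
  (Submodule.Quotient.equiv ((Ideal.span {f}).restrictScalars F) (LinearMap.ker (ev g v)) (LinearEquiv.refl F _) (by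
    ext p
    rw [LinearMap.mem_ker, ker_ev hf hv hfv]
    change p ∈ Submodule.map LinearMap.id _ ↔ _
    rw [Submodule.map_id, Submodule.restrictScalars_mem, Ideal.mem_span_singleton])).trans (ev g v).quotKerEquivRange

theorem cyc_mk {g : Module.End F V} {v : V} {f : F[X]} (hf : Irreducible f) (hv : v ≠ 0) (hfv : aeval g f v = 0) (p : F[X]) :
    (cyc hf hv hfv (AdjoinRoot.mk f p) : V) = ev g v p := rfl

theorem range_inv (g : Module.End F V) (v : V) : ∀ x ∈ LinearMap.range (ev g v), g x ∈ LinearMap.range (ev g v) := by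
  rintro _ ⟨p, rfl⟩
  exact ⟨X * p, ev_X g v p⟩

theorem cyc_root {g : Module.End F V} {v : V} {f : F[X]} (hf : Irreducible f) (hv : v ≠ 0) (hfv : aeval g f v = 0) (x : AdjoinRoot f) :
    (cyc hf hv hfv (AdjoinRoot.root f * x) : V) = g (cyc hf hv hfv x : V) := by
  obtain ⟨p, rfl⟩ := AdjoinRoot.mk_surjective x
  rw [show AdjoinRoot.root f = AdjoinRoot.mk f X from rfl, ← map_mul, cyc_mk, cyc_mk, ev_X]

end one

section split

variable {V : Type*} [AddCommGroup V] [Module F V] [Module.Finite F V]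

theorem charpoly_split (g : Module.End F V) {p q : Submodule F V} (h : IsCompl p q) (hp : ∀ x ∈ p, g x ∈ p) (hq : ∀ x ∈ q, g x ∈ q) :
    g.charpoly = (g.restrict hp).charpoly * (g.restrict hq).charpoly := by
  rw [← LinearMap.charpoly_prodMap, ← LinearEquiv.charpoly_conj (Submodule.prodEquivOfIsCompl p q h)]
  congr 1
  apply LinearMap.ext
  intro v
  obtain ⟨⟨x, y⟩, rfl⟩ := (Submodule.prodEquivOfIsCompl p q h).surjective v
  rw [LinearEquiv.conj_apply, LinearMap.comp_apply, LinearMap.comp_apply]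
  simp

/-- multiplication by the root -/
noncomputable def mulRoot (f : F[X]) : Module.End F (AdjoinRoot f) := LinearMap.mulLeft F (AdjoinRoot.root f)

/-- the characteristic polynomial of the root -/
noncomputable def chF (f : F[X]) (hf : Irreducible f) : F[X] :=
  haveI : Module.Finite F (AdjoinRoot f) := (AdjoinRoot.powerBasis hf.ne_zero).finite
  (mulRoot f).charpoly

theorem chF_monic (f : F[X]) (hf : Irreducible f) : (chF f hf).Monic :=
  haveI : Module.Finite F (AdjoinRoot f) := (AdjoinRoot.powerBasis hf.ne_zero).finite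
  LinearMap.charpoly_monic (mulRoot f)

theorem charpoly_cyc {g : Module.End F V} {v : V} {f : F[X]} (hf : Irreducible f) (hv : v ≠ 0) (hfv : aeval g f v = 0) :
    (g.restrict (range_inv g v)).charpoly = chF f hf := by
  haveI : Module.Finite F (AdjoinRoot f) := (AdjoinRoot.powerBasis hf.ne_zero).finite
  change _ = (mulRoot f).charpoly
  rw [← LinearEquiv.charpoly_conj (cyc hf hv hfv) (mulRoot f)]
  congr 1
  apply LinearMap.ext
  intro x
  obtain ⟨y, rfl⟩ := (cyc hf hv hfv).surjective x
  apply Subtype.ext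
  rw [LinearMap.restrict_coe_apply, LinearEquiv.conj_apply, LinearMap.comp_apply, LinearMap.comp_apply]
  rw [LinearEquiv.coe_coe, LinearEquiv.coe_coe, LinearEquiv.symm_apply_apply, ← cyc_root]
  rfl

theorem cyc_restrict {g : Module.End F V} {v : V} {f : F[X]} (hf : Irreducible f) (hv : v ≠ 0) (hfv : aeval g f v = 0) (y : AdjoinRoot f) :
    g.restrict (range_inv g v) (cyc hf hv hfv y) = cyc hf hv hfv (AdjoinRoot.root f * y) := by
  apply Subtype.ext
  rw [LinearMap.restrict_coe_apply, cyc_root]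

theorem exists_cyc_equiv {W : Type*} [AddCommGroup W] [Module F W] [Module.Finite F W] {g : Module.End F V} {v : V} {f : F[X]} (hf : Irreducible f) (hv : v ≠ 0) (hfv : aeval g f v = 0)
    {h : Module.End F W} {w : W} (hw : w ≠ 0) (hfw : aeval h f w = 0) :
    ∃ e : LinearMap.range (ev g v) ≃ₗ[F] LinearMap.range (ev h w), ∀ x, e (g.restrict (range_inv g v) x) = h.restrict (range_inv h w) (e x) := by
  refine ⟨(cyc hf hv hfv).symm.trans (cyc hf hw hfw), ?_⟩
  intro x
  obtain ⟨y, rfl⟩ := (cyc hf hv hfv).surjective x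
  rw [cyc_restrict, LinearEquiv.trans_apply, LinearEquiv.trans_apply, LinearEquiv.symm_apply_apply, LinearEquiv.symm_apply_apply, cyc_restrict]

/-- gluing equivalences of complementary invariant subspaces -/
theorem glue {W : Type*} [AddCommGroup W] [Module F W] [Module.Finite F W] {g : Module.End F V} {h : Module.End F W} {p p' : Submodule F V}
    {q q' : Submodule F W} (hpc : IsCompl p p') (hqc : IsCompl q q') (hp : ∀ x ∈ p, g x ∈ p) (hp' : ∀ x ∈ p', g x ∈ p')
    (hq : ∀ x ∈ q, h x ∈ q) (hq' : ∀ x ∈ q', h x ∈ q') (e : p ≃ₗ[F] q) (he : ∀ x, e (g.restrict hp x) = h.restrict hq (e x))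
    (e' : p' ≃ₗ[F] q') (he' : ∀ x, e' (g.restrict hp' x) = h.restrict hq' (e' x)) :
    ∃ E : V ≃ₗ[F] W, ∀ v, E (g v) = h (E v) := by
  refine ⟨(Submodule.prodEquivOfIsCompl _ _ hpc).symm.trans ((e.prodCongr e').trans (Submodule.prodEquivOfIsCompl _ _ hqc)), ?_⟩
  intro x
  obtain ⟨⟨a, b⟩, rfl⟩ := (Submodule.prodEquivOfIsCompl _ _ hpc).surjective x
  have h1 : g ((Submodule.prodEquivOfIsCompl _ _ hpc) (a, b)) =
      (Submodule.prodEquivOfIsCompl _ _ hpc) (g.restrict hp a, g.restrict hp' b) := by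
    simp
  rw [h1]
  rw [LinearEquiv.trans_apply, LinearEquiv.trans_apply, LinearEquiv.symm_apply_apply, LinearEquiv.trans_apply,
    LinearEquiv.trans_apply, LinearEquiv.symm_apply_apply, LinearEquiv.prodCongr_apply, LinearEquiv.prodCongr_apply]
  change (Submodule.prodEquivOfIsCompl _ _ hqc) (e (g.restrict hp a), e' (g.restrict hp' b)) = h ((Submodule.prodEquivOfIsCompl _ _ hqc) (e a, e' b))
  rw [he, he', Submodule.coe_prodEquivOfIsCompl', Submodule.coe_prodEquivOfIsCompl', map_add, LinearMap.restrict_coe_apply, LinearMap.restrict_coe_apply]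

theorem semi_compl {g : Module.End F V} (hg : g.IsSemisimple) (v : V) :
    ∃ q : Submodule F V, (∀ x ∈ q, g x ∈ q) ∧ IsCompl (LinearMap.range (ev g v)) q := by
  rw [Module.End.isSemisimple_iff] at hg
  obtain ⟨q, h1, h2⟩ := hg (LinearMap.range (ev g v)) (range_inv g v)
  exact ⟨q, h1, h2⟩

end split

theorem exists_equiv (n : ℕ) : ∀ {V : Type*} {W : Type*} [AddCommGroup V] [Module F V] [Module.Finite F V]
    [AddCommGroup W] [Module F W] [Module.Finite F W] (g : Module.End F V) (h : Module.End F W) (_ : g.IsSemisimple) (_ : h.IsSemisimple)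
    (_ : finrank F V = n) (_ : g.charpoly = h.charpoly), ∃ e : V ≃ₗ[F] W, ∀ v, e (g v) = h (e v) := by
  induction n using Nat.strong_induction_on with
  | _ n ih =>
  intro V W _ _ _ _ _ _ g h hg hh hn hc
  have hn' : finrank F W = finrank F V := by
    rw [← LinearMap.charpoly_natDegree g, hc, LinearMap.charpoly_natDegree]
  rcases Nat.eq_zero_or_pos n with h0 | hpos
  · haveI : Subsingleton V := finrank_zero_iff.mp (hn.trans h0)
    haveI : Subsingleton W := finrank_zero_iff.mp (hn'.trans (hn.trans h0))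
    exact ⟨LinearEquiv.ofFinrankEq V W hn'.symm, fun v => Subsingleton.elim _ _⟩
  have hdeg : 0 < g.charpoly.natDegree := by
    rw [LinearMap.charpoly_natDegree, hn]; exact hpos
  obtain ⟨f, hf, hfd⟩ : ∃ f : F[X], Irreducible f ∧ f ∣ g.charpoly := by
    apply WfDvdMonoid.exists_irreducible_factor
    · intro hu
      rw [Polynomial.natDegree_eq_zero_of_isUnit hu] at hdeg
      exact absurd hdeg (lt_irrefl _)
    · exact g.charpoly_monic.ne_zero
  obtain ⟨v, hv, hfv⟩ := exists_ker hf hfd
  obtain ⟨w, hw, hfw⟩ := exists_ker hf (hc ▸ hfd)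
  obtain ⟨p, hp, hpc⟩ := semi_compl hg v
  obtain ⟨q, hq, hqc⟩ := semi_compl hh w
  have e1 := charpoly_split g hpc (range_inv g v) hp
  have e2 := charpoly_split h hqc (range_inv h w) hq
  rw [charpoly_cyc hf hv hfv] at e1
  rw [charpoly_cyc hf hw hfw] at e2
  rw [e1, e2] at hc
  have hc' := mul_left_cancel₀ (chF_monic f hf).ne_zero hc
  have hdim : finrank F p < n := by
    have h1 := Submodule.finrank_add_eq_of_isCompl hpc
    have h2 : 0 < finrank F (LinearMap.range (ev g v)) := by
      apply Nat.pos_of_ne_zero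
      intro h3
      rw [Submodule.finrank_eq_zero] at h3
      apply hv
      have h4 : v ∈ LinearMap.range (ev g v) := ⟨1, by rw [ev_apply, map_one]; rfl⟩
      rw [h3] at h4
      exact h4
    omega
  obtain ⟨e, he⟩ := ih _ hdim (g.restrict hp) (h.restrict hq) (hg.restrict hp) (hh.restrict hq) rfl hc'
  obtain ⟨e0, he0⟩ := exists_cyc_equiv hf hv hfv hw hfw
  exact glue hpc hqc (range_inv g v) hp (range_inv h w) hq e0 he0 e he

theorem exists_det [Finite F] {V : Type*} [AddCommGroup V] [Module F V] [Module.Finite F V] {g : Module.End F V} (hg : g.IsSemisimple)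
    (hV : 0 < finrank F V) {c : F} : ∃ D : Module.End F V, D * g = g * D ∧ LinearMap.det D = c := by
  have hdeg : 0 < g.charpoly.natDegree := by
    rw [LinearMap.charpoly_natDegree]; exact hV
  obtain ⟨f, hf, hfd⟩ : ∃ f : F[X], Irreducible f ∧ f ∣ g.charpoly := by
    apply WfDvdMonoid.exists_irreducible_factor
    · intro hu
      rw [Polynomial.natDegree_eq_zero_of_isUnit hu] at hdeg
      exact absurd hdeg (lt_irrefl _)
    · exact g.charpoly_monic.ne_zero
  obtain ⟨v, hv, hfv⟩ := exists_ker hf hfd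
  obtain ⟨p, hp, hpc⟩ := semi_compl hg v
  haveI : Fact (Irreducible f) := ⟨hf⟩
  haveI : Module.Finite F (AdjoinRoot f) := (AdjoinRoot.powerBasis hf.ne_zero).finite
  haveI : Finite (AdjoinRoot f) := Module.finite_of_finite F
  obtain ⟨x, hx⟩ := FiniteField.norm_surjective F (AdjoinRoot f) c
  let D1 : Module.End F (LinearMap.range (ev g v)) := (cyc hf hv hfv).conj (Algebra.lmul F (AdjoinRoot f) x)
  let D : Module.End F V := (Submodule.prodEquivOfIsCompl _ _ hpc).conj (D1.prodMap LinearMap.id)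
  refine ⟨D, ?_, ?_⟩
  · apply LinearMap.ext
    intro y
    obtain ⟨⟨a, b⟩, rfl⟩ := (Submodule.prodEquivOfIsCompl _ _ hpc).surjective y
    obtain ⟨a, rfl⟩ := (cyc hf hv hfv).surjective a
    rw [Module.End.mul_apply, Module.End.mul_apply]
    have h1 : ∀ (a : AdjoinRoot f) (b : p), D ((Submodule.prodEquivOfIsCompl _ _ hpc) (cyc hf hv hfv a, b)) =
        (Submodule.prodEquivOfIsCompl _ _ hpc) (cyc hf hv hfv (x * a), b) := by
      intro a b
      change (Submodule.prodEquivOfIsCompl _ _ hpc) ((D1.prodMap LinearMap.id) ((Submodule.prodEquivOfIsCompl _ _ hpc).symm _)) = _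
      rw [LinearEquiv.symm_apply_apply]
      change (Submodule.prodEquivOfIsCompl _ _ hpc) ((cyc hf hv hfv) (x * ((cyc hf hv hfv).symm ((cyc hf hv hfv) a))), b) = _
      rw [LinearEquiv.symm_apply_apply]
    have h2 : ∀ (a : AdjoinRoot f) (b : p), g ((Submodule.prodEquivOfIsCompl _ _ hpc) (cyc hf hv hfv a, b)) =
        (Submodule.prodEquivOfIsCompl _ _ hpc) (cyc hf hv hfv (AdjoinRoot.root f * a), g.restrict hp b) := by
      intro a b
      rw [Submodule.coe_prodEquivOfIsCompl', Submodule.coe_prodEquivOfIsCompl', map_add, cyc_root, LinearMap.restrict_coe_apply]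
    rw [h1, h2, h2, h1, mul_left_comm]
  · have h1 : LinearMap.det D = LinearMap.det (D1.prodMap (LinearMap.id : p →ₗ[F] p)) :=
      LinearMap.det_conj (D1.prodMap (LinearMap.id : p →ₗ[F] p)) (Submodule.prodEquivOfIsCompl _ _ hpc)
    have h2 : LinearMap.det D1 = LinearMap.det (Algebra.lmul F (AdjoinRoot f) x) :=
      LinearMap.det_conj (Algebra.lmul F (AdjoinRoot f) x) (cyc hf hv hfv)
    rw [h1, LinearMap.det_prodMap, LinearMap.det_id, mul_one, h2, ← Algebra.norm_apply, hx]

section mat

variable {n : ℕ}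

theorem semi_of_coprime (p : ℕ) [Fact p.Prime] [CharP F p] {M : Matrix (Fin n) (Fin n) F} {m : ℕ} (hm : m.Coprime p)
    (hM : M ^ m = 1) : Module.End.IsSemisimple (Matrix.toLin' M) := by
  have hmF : (m : F) ≠ 0 := by
    intro h
    rw [CharP.cast_eq_zero_iff F p] at h
    have h2 := Nat.Coprime.eq_one_of_dvd hm.symm h
    exact (Fact.out : p.Prime).one_lt.ne' h2
  apply Module.End.isSemisimple_of_squarefree_aeval_eq_zero (p := X ^ m - 1)
  · exact (X_pow_sub_one_separable_iff.mpr hmF).squarefree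
  · rw [map_sub, map_pow, aeval_X, map_one, sub_eq_zero]
    have : Matrix.toLin' M ^ m = Matrix.toLin' (M ^ m) := (map_pow (Matrix.toLinAlgEquiv' : Matrix (Fin n) (Fin n) F ≃ₐ[F] _) M m).symm
    rw [this, hM, Matrix.toLin'_one]; rfl

theorem mat_conj {M N : Matrix (Fin n) (Fin n) F} (hM : Module.End.IsSemisimple (Matrix.toLin' M)) (hN : Module.End.IsSemisimple (Matrix.toLin' N))
    (hc : M.charpoly = N.charpoly) : ∃ A : Matrix (Fin n) (Fin n) F, IsUnit A.det ∧ A * M = N * A := by
  obtain ⟨e, he⟩ := exists_equiv (finrank F (Fin n → F)) (Matrix.toLin' M) (Matrix.toLin' N) hM hN rfl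
    (by rw [Matrix.charpoly_toLin', Matrix.charpoly_toLin', hc])
  refine ⟨LinearMap.toMatrix' (e : (Fin n → F) →ₗ[F] (Fin n → F)), ?_, ?_⟩
  · rw [LinearMap.det_toMatrix']
    exact e.isUnit_det'
  · apply Matrix.toLin'.injective
    rw [Matrix.toLin'_mul, Matrix.toLin'_mul, Matrix.toLin'_toMatrix']
    apply LinearMap.ext
    intro v
    exact he v

theorem mat_det [Finite F] (hn : 0 < n) {M : Matrix (Fin n) (Fin n) F} (hM : Module.End.IsSemisimple (Matrix.toLin' M)) (c : F) :
    ∃ D : Matrix (Fin n) (Fin n) F, D.det = c ∧ D * M = M * D := by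
  obtain ⟨D, h1, h2⟩ := exists_det hM (by rw [Module.finrank_fin_fun]; exact hn) (c := c)
  refine ⟨LinearMap.toMatrix' D, ?_, ?_⟩
  · rw [LinearMap.det_toMatrix', h2]
  · apply Matrix.toLin'.injective
    rw [Matrix.toLin'_mul, Matrix.toLin'_mul, Matrix.toLin'_toMatrix']
    exact h1

theorem sl_conj (p : ℕ) [Fact p.Prime] [CharP F p] [Finite F]
    (g h : Matrix.SpecialLinearGroup (Fin n) F) (hg : (orderOf g).Coprime p) (hh : (orderOf h).Coprime p)
    (hc : (g : Matrix (Fin n) (Fin n) F).charpoly = (h : Matrix (Fin n) (Fin n) F).charpoly) : IsConj g h := by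
  have hgs := semi_of_coprime p hg (M := (g : Matrix (Fin n) (Fin n) F)) (by
    rw [← Matrix.SpecialLinearGroup.coe_pow, pow_orderOf_eq_one]; rfl)
  have hhs := semi_of_coprime p hh (M := (h : Matrix (Fin n) (Fin n) F)) (by
    rw [← Matrix.SpecialLinearGroup.coe_pow, pow_orderOf_eq_one]; rfl)
  rcases Nat.eq_zero_or_pos n with h0 | hpos
  · subst h0
    have : g = h := by
      apply Subtype.ext
      exact Subsingleton.elim _ _
    rw [this]
  obtain ⟨A, hA, hA2⟩ := mat_conj hgs hhs hc
  obtain ⟨D, hD, hD2⟩ := mat_det hpos hgs (A.det)⁻¹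
  rw [isConj_iff]
  let B : Matrix.SpecialLinearGroup (Fin n) F := ⟨A * D, by rw [Matrix.det_mul, hD]; exact mul_inv_cancel₀ hA.ne_zero⟩
  refine ⟨B, ?_⟩
  rw [mul_inv_eq_iff_eq_mul]
  apply Subtype.ext
  change (A * D) * (g : Matrix (Fin n) (Fin n) F) = (h : Matrix (Fin n) (Fin n) F) * (A * D)
  rw [Matrix.mul_assoc, hD2, ← Matrix.mul_assoc, hA2, Matrix.mul_assoc]

theorem gl_conj (p : ℕ) [Fact p.Prime] [CharP F p]
    (g h : Matrix.GeneralLinearGroup (Fin n) F) (hg : (orderOf g).Coprime p) (hh : (orderOf h).Coprime p)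
    (hc : (g : Matrix (Fin n) (Fin n) F).charpoly = (h : Matrix (Fin n) (Fin n) F).charpoly) : IsConj g h := by
  have hgs := semi_of_coprime p hg (M := (g : Matrix (Fin n) (Fin n) F)) (by
    rw [← Units.val_pow_eq_pow_val, pow_orderOf_eq_one]; rfl)
  have hhs := semi_of_coprime p hh (M := (h : Matrix (Fin n) (Fin n) F)) (by
    rw [← Units.val_pow_eq_pow_val, pow_orderOf_eq_one]; rfl)
  obtain ⟨A, hA, hA2⟩ := mat_conj hgs hhs hc
  rw [isConj_iff]
  refine ⟨Matrix.GeneralLinearGroup.mk'' A hA, ?_⟩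
  rw [mul_inv_eq_iff_eq_mul]
  apply Units.ext
  exact hA2

end mat

end Cfsg.Agent.H15.SS
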