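import Mathlib
import Cfsg.Agent.H15_SS1

set_option autoImplicit false
open Module Polynomial

namespace Cfsg.Agent.H15.FM

open Cfsg.Agent.H15.SS

/-- a nondegenerate alternating or hermitian form -/
structure Frm {F : Type*} [Field F] (σ : F →+* F) (ε : F) {V : Type*} [AddCommGroup V] [Module F V] (B : V → V → F) : Prop where
  add_left : ∀ x y z, B (x + y) z = B x z + B y z
  smul_left : ∀ (a : F) x y, B (a • x) y = a * B x y
  symm : ∀ x y, B y x = ε * σ (B x y)
  alt : (∀ a, σ a = a) → ∀ x, B x x = 0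
  nondeg : ∀ x, (∀ y, B x y = 0) → x = 0

variable {F : Type*} [Field F] {σ : F →+* F} {ε : F}

namespace Frm

variable {V : Type*} [AddCommGroup V] [Module F V] {B : V → V → F} (hB : Frm σ ε B)

include hB

theorem add_right (x y z : V) : B x (y + z) = B x y + B x z := by
  rw [hB.symm (y + z) x, hB.add_left, map_add, mul_add, ← hB.symm, ← hB.symm]

theorem smul_right (hσ : ∀ a, σ (σ a) = a) (a : F) (x y : V) : B x (a • y) = σ a * B x y := by
  rw [hB.symm (a • y) x, hB.smul_left, map_mul, hB.symm y x]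
  ring

theorem zero_left (y : V) : B 0 y = 0 := by
  have := hB.smul_left 0 0 y
  rwa [zero_smul, zero_mul] at this

theorem zero_right (x : V) : B x 0 = 0 := by
  rw [hB.symm 0 x, hB.zero_left, map_zero, mul_zero]

theorem swap_zero {x y : V} (h : B x y = 0) : B y x = 0 := by
  rw [hB.symm x y, h, map_zero, mul_zero]

theorem neg_left (x y : V) : B (-x) y = - B x y := by
  have := hB.smul_left (-1) x y
  rw [neg_one_smul, neg_one_mul] at this
  exact this

theorem sub_left (x y z : V) : B (x - y) z = B x z - B y z := by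
  rw [sub_eq_add_neg, hB.add_left, hB.neg_left, sub_eq_add_neg]

theorem sub_right (x y z : V) : B x (y - z) = B x y - B x z := by
  rw [hB.symm (y - z) x, hB.sub_left, map_sub, mul_sub, ← hB.symm, ← hB.symm]

theorem nondeg_right (x : V) (h : ∀ y, B y x = 0) : x = 0 := hB.nondeg x (fun y => hB.swap_zero (h y))

end Frm

/-- the involution on polynomials -/
noncomputable def bar (σ : F →+* F) (m : ℕ) : F[X] →+* F[X] := eval₂RingHom (C.comp σ) (X ^ (m - 1))

theorem bar_C (m : ℕ) (a : F) : bar σ m (C a) = C (σ a) := by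
  simp [bar]

theorem bar_X (m : ℕ) : bar σ m X = X ^ (m - 1) := by
  simp [bar]

section adj

variable {V : Type*} [AddCommGroup V] [Module F V] {B : V → V → F} (hB : Frm σ ε B) (hσ : ∀ a, σ (σ a) = a)
  {g : Module.End F V} (hg : ∀ x y, B (g x) (g y) = B x y) {m : ℕ} (hm : 0 < m) (hgm : g ^ m = 1)

include hB hσ hg hm hgm

theorem adj_g (x y : V) : B (g x) y = B x ((g ^ (m - 1)) y) := by
  have h : g ((g ^ (m - 1)) y) = y := by
    rw [← Module.End.mul_apply, ← pow_succ', Nat.sub_add_cancel hm, hgm]; rfl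
  conv_lhs => rw [← h]
  exact hg _ _

theorem adj (p : F[X]) (x y : V) : B (aeval g p x) y = B x (aeval g (bar σ m p) y) := by
  induction p using Polynomial.induction_on' generalizing x y with
  | add p q hp hq =>
    rw [map_add, map_add, map_add, LinearMap.add_apply, LinearMap.add_apply, hB.add_left, hB.add_right, hp, hq]
  | monomial k a =>
    induction k generalizing x y with
    | zero =>
      rw [monomial_zero_left, bar_C, aeval_C, aeval_C]
      change B (a • x) y = B x (σ a • y)
      rw [hB.smul_left, hB.smul_right hσ, hσ]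
    | succ k ih =>
      rw [← monomial_mul_X, map_mul, map_mul, map_mul, bar_X, aeval_X, Module.End.mul_apply, Module.End.mul_apply, ih, adj_g hB hσ hg hm hgm,
        map_pow, aeval_X]
      congr 1
      rw [← Module.End.mul_apply, ← Module.End.mul_apply]
      congr 1
      have : (g ^ (m - 1)) = aeval g (X ^ (m - 1) : F[X]) := by rw [map_pow, aeval_X]
      rw [this, ← map_mul, ← map_mul, mul_comm]

theorem adj' (p : F[X]) (x y : V) : B x (aeval g p y) = B (aeval g (bar σ m p) x) y := by
  rw [hB.symm, adj hB hσ hg hm hgm, ← hB.symm]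

end adj

section mod

variable {f : F[X]}

/-- the involution is an involution modulo `f` -/
theorem bar_bar (hσ : ∀ a, σ (σ a) = a) {m : ℕ} (hm : 0 < m) (hf : f ∣ X ^ m - 1) (p : F[X]) : f ∣ bar σ m (bar σ m p) - p := by
  rw [← AdjoinRoot.mk_eq_mk]
  have h1 : (AdjoinRoot.mk f X) ^ m = 1 := by
    rw [← sub_eq_zero, ← map_pow, ← map_one (AdjoinRoot.mk f), ← map_sub, AdjoinRoot.mk_eq_zero]; exact hf
  have h2 : ((AdjoinRoot.mk f).comp ((bar σ m).comp (bar σ m))) = AdjoinRoot.mk f := by
    apply Polynomial.ringHom_ext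
    · intro a
      rw [RingHom.comp_apply, RingHom.comp_apply, bar_C, bar_C, hσ]
    · rw [RingHom.comp_apply, RingHom.comp_apply, bar_X, map_pow, bar_X, ← pow_mul, map_pow]
      rcases Nat.lt_or_ge m 2 with h | h
      · have : m = 1 := by omega
        subst this
        rw [pow_one] at h1
        rw [h1, one_pow]
      · obtain ⟨k, rfl⟩ := Nat.exists_eq_add_of_le h
        have : (2 + k - 1) * (2 + k - 1) = (2 + k) * k + 1 := by
          rw [show 2 + k - 1 = k + 1 by omega]; ring
        rw [this, pow_succ, pow_mul, h1, one_pow, one_mul]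
  exact RingHom.congr_fun h2 p

/-- the dual polynomial -/
theorem exists_dual (hσ : ∀ a, σ (σ a) = a) {m : ℕ} (hm : 0 < m) (hf : Irreducible f) (hfm : f ∣ X ^ m - 1) :
    ∃ f' : F[X], Irreducible f' ∧ ∀ p, f ∣ bar σ m p ↔ f' ∣ p := by
  haveI : Fact (Irreducible f) := ⟨hf⟩
  let φ : F[X] →+* AdjoinRoot f := (AdjoinRoot.mk f).comp (bar σ m)
  have hmem : ∀ p, p ∈ RingHom.ker φ ↔ f ∣ bar σ m p := by
    intro p
    rw [RingHom.mem_ker]
    exact AdjoinRoot.mk_eq_zero
  haveI hprime : (RingHom.ker φ).IsPrime := RingHom.ker_isPrime φ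
  have hne : RingHom.ker φ ≠ ⊥ := by
    intro h
    have h1 : (X ^ m - 1 : F[X]) ∈ RingHom.ker φ := by
      rw [hmem, map_sub, map_pow, bar_X, map_one, ← pow_mul, mul_comm, pow_mul]
      exact hfm.trans (by simpa using sub_dvd_pow_sub_pow (X ^ m : F[X]) 1 (m - 1))
    rw [h, Ideal.mem_bot] at h1
    exact (X_pow_sub_C_ne_zero hm (1 : F)) (by rw [map_one]; exact h1)
  refine ⟨Submodule.IsPrincipal.generator (RingHom.ker φ), ?_, ?_⟩
  · exact (Submodule.IsPrincipal.prime_generator_of_isPrime (RingHom.ker φ) hne).irreducible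
  · intro p
    rw [← hmem, Submodule.IsPrincipal.mem_iff_generator_dvd]

end mod

section perp

variable {V : Type*} [AddCommGroup V] [Module F V] {B : V → V → F}

/-- the orthogonal of a subspace -/
def perp (hB : Frm σ ε B) (hσ : ∀ a, σ (σ a) = a) (U : Submodule F V) : Submodule F V where
  carrier := {y | ∀ x ∈ U, B x y = 0}
  add_mem' := fun {a b} ha hb x hx => by rw [hB.add_right, ha x hx, hb x hx, add_zero]
  zero_mem' := fun x _ => hB.zero_right x
  smul_mem' := fun c a ha x hx => by rw [hB.smul_right hσ, ha x hx, mul_zero]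

theorem perp_compl [Finite F] [Module.Finite F V] (hB : Frm σ ε B) (hσ : ∀ a, σ (σ a) = a) (U : Submodule F V)
    (hU : ∀ x ∈ U, (∀ y ∈ U, B x y = 0) → x = 0) : IsCompl U (perp hB hσ U) := by
  constructor
  · rw [disjoint_iff, eq_bot_iff]
    rintro x ⟨h1, h2⟩
    exact hU x h1 (fun y hy => hB.swap_zero (h2 y hy))
  · rw [codisjoint_iff, eq_top_iff]
    intro y _
    haveI : Finite U := Module.finite_of_finite F
    haveI : Finite (Module.Dual F U) := Module.finite_of_finite F
    let T : U → Module.Dual F U := fun z =>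
      { toFun := fun x => B x z
        map_add' := fun a b => hB.add_left a b z
        map_smul' := fun c a => hB.smul_left c a z }
    have hT : Function.Injective T := by
      intro a b hab
      apply Subtype.ext
      rw [← sub_eq_zero]
      apply hU _ (U.sub_mem a.2 b.2)
      intro z hz
      apply hB.swap_zero
      rw [hB.sub_right, sub_eq_zero]
      exact LinearMap.congr_fun hab ⟨z, hz⟩
    have hcard : Nat.card U = Nat.card (Module.Dual F U) := by
      rw [Module.natCard_eq_pow_finrank (K := F) (V := U), Module.natCard_eq_pow_finrank (K := F) (V := Module.Dual F U), Subspace.dual_finrank_eq]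
    have hbij : Function.Bijective T := (Nat.bijective_iff_injective_and_card T).mpr ⟨hT, hcard⟩
    obtain ⟨z, hz⟩ := hbij.2
      { toFun := fun x : U => B x y
        map_add' := fun a b => hB.add_left a b y
        map_smul' := fun c a => hB.smul_left c a y }
    rw [Submodule.mem_sup]
    refine ⟨z, z.2, y - z, ?_, by abel⟩
    intro x hx
    rw [hB.sub_right, sub_eq_zero]
    exact (LinearMap.congr_fun hz ⟨x, hx⟩).symm

theorem perp_inv (hB : Frm σ ε B) (hσ : ∀ a, σ (σ a) = a) {g : Module.End F V} (hg : ∀ x y, B (g x) (g y) = B x y) {m : ℕ} (hm : 0 < m) (hgm : g ^ m = 1)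
    (U : Submodule F V) (hU : ∀ x ∈ U, g x ∈ U) : ∀ x ∈ perp hB hσ U, g x ∈ perp hB hσ U := by
  intro y hy x hx
  have hpow : ∀ k : ℕ, (g ^ k) x ∈ U := by
    intro k
    induction k with
    | zero => exact hx
    | succ k ih => rw [pow_succ', Module.End.mul_apply]; exact hU _ ih
  have h : g ((g ^ (m - 1)) x) = x := by
    rw [← Module.End.mul_apply, ← pow_succ', Nat.sub_add_cancel hm, hgm]; rfl
  rw [← h, hg]
  exact hy _ (hpow _)

theorem frm_restrict [Finite F] [Module.Finite F V] (hB : Frm σ ε B) (hσ : ∀ a, σ (σ a) = a) (U : Submodule F V)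
    (hU : ∀ x ∈ U, (∀ y ∈ U, B x y = 0) → x = 0) : Frm σ ε (fun x y : perp hB hσ U => B x y) where
  add_left x y z := hB.add_left x y z
  smul_left a x y := hB.smul_left a x y
  symm x y := hB.symm x y
  alt h x := hB.alt h x
  nondeg x h := by
    apply Subtype.ext
    apply hB.nondeg
    intro y
    have hy : y ∈ U ⊔ perp hB hσ U := by rw [(perp_compl hB hσ U hU).sup_eq_top]; exact Submodule.mem_top
    obtain ⟨a, ha, b, hb, rfl⟩ := Submodule.mem_sup.mp hy
    rw [hB.add_right, h ⟨b, hb⟩, add_zero]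
    exact hB.swap_zero (x.2 a ha)

end perp

/-- gluing with a formula -/
theorem glue' {V W : Type*} [AddCommGroup V] [Module F V] [AddCommGroup W] [Module F W] {p p' : Submodule F V}
    {q q' : Submodule F W} (hpc : IsCompl p p') (hqc : IsCompl q q') (e : p ≃ₗ[F] q) (e' : p' ≃ₗ[F] q') :
    ∃ E : V ≃ₗ[F] W, ∀ (a : p) (b : p'), E ((a : V) + b) = (e a : W) + e' b := by
  refine ⟨(Submodule.prodEquivOfIsCompl _ _ hpc).symm.trans ((e.prodCongr e').trans (Submodule.prodEquivOfIsCompl _ _ hqc)), ?_⟩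
  intro a b
  have h1 : (a : V) + b = (Submodule.prodEquivOfIsCompl _ _ hpc) (a, b) := by simp
  rw [h1, LinearEquiv.trans_apply, LinearEquiv.trans_apply, LinearEquiv.symm_apply_apply]
  change (Submodule.prodEquivOfIsCompl _ _ hqc) (e a, e' b) = _
  rw [Submodule.coe_prodEquivOfIsCompl']

/-- the conclusion of the main theorem -/
def Iso {V W : Type*} [AddCommGroup V] [Module F V] [AddCommGroup W] [Module F W] (B : V → V → F) (B' : W → W → F)
    (g : Module.End F V) (h : Module.End F W) : Prop :=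
  ∃ e : V ≃ₗ[F] W, (∀ v, e (g v) = h (e v)) ∧ ∀ x y, B' (e x) (e y) = B x y

theorem step [Finite F] {V W : Type*} [AddCommGroup V] [Module F V] [Module.Finite F V] [AddCommGroup W] [Module F W] [Module.Finite F W]
    {B : V → V → F} {B' : W → W → F} (hB : Frm σ ε B) (hB' : Frm σ ε B') (hσ : ∀ a, σ (σ a) = a)
    {g : Module.End F V} {h : Module.End F W} (U : Submodule F V) (U' : Submodule F W)
    (hU : ∀ x ∈ U, (∀ y ∈ U, B x y = 0) → x = 0) (hU' : ∀ x ∈ U', (∀ y ∈ U', B' x y = 0) → x = 0)
    (hgU : ∀ x ∈ U, g x ∈ U) (hhU : ∀ x ∈ U', h x ∈ U') (hgP : ∀ x ∈ perp hB hσ U, g x ∈ perp hB hσ U) (hhP : ∀ x ∈ perp hB' hσ U', h x ∈ perp hB' hσ U')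
    (h1 : Iso (fun x y : U => B x y) (fun x y : U' => B' x y) (g.restrict hgU) (h.restrict hhU))
    (h2 : Iso (fun x y : perp hB hσ U => B x y) (fun x y : perp hB' hσ U' => B' x y) (g.restrict hgP) (h.restrict hhP)) :
    Iso B B' g h := by
  obtain ⟨e, he1, he2⟩ := h1
  obtain ⟨e', he1', he2'⟩ := h2
  have hc := perp_compl hB hσ U hU
  have hc' := perp_compl hB' hσ U' hU'
  obtain ⟨E, hE⟩ := glue' hc hc' e e'
  have hdec : ∀ x : V, ∃ (a : U) (b : perp hB hσ U), x = a + b := by
    intro x
    have hx : x ∈ U ⊔ perp hB hσ U := by rw [hc.sup_eq_top]; exact Submodule.mem_top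
    obtain ⟨a, ha, b, hb, rfl⟩ := Submodule.mem_sup.mp hx
    exact ⟨⟨a, ha⟩, ⟨b, hb⟩, rfl⟩
  refine ⟨E, ?_, ?_⟩
  · intro x
    obtain ⟨a, b, rfl⟩ := hdec x
    rw [map_add]
    have := hE (g.restrict hgU a) (g.restrict hgP b)
    rw [LinearMap.restrict_coe_apply, LinearMap.restrict_coe_apply] at this
    rw [this, he1, he1', hE, map_add, LinearMap.restrict_coe_apply, LinearMap.restrict_coe_apply]
  · intro x y
    obtain ⟨a, b, rfl⟩ := hdec x
    obtain ⟨c, d, rfl⟩ := hdec y
    rw [hE, hE, hB'.add_left, hB'.add_right, hB'.add_right, hB.add_left, hB.add_right, hB.add_right]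
    have z1 : B' (e a) (e' d) = 0 := (e' d).2 _ (e a).2
    have z2 : B' (e' b) (e c) = 0 := hB'.swap_zero ((e' b).2 _ (e c).2)
    have z3 : B a d = 0 := d.2 _ a.2
    have z4 : B b c = 0 := hB.swap_zero (b.2 _ c.2)
    rw [z1, z2, z3, z4]
    have e3 := he2 a c
    have e4 := he2' b d
    simp only at e3 e4
    rw [e3, e4]

/-- isometries from parametrisations -/
theorem param {U V W : Type*} [AddCommGroup U] [Module F U] [AddCommGroup V] [Module F V] [AddCommGroup W] [Module F W]
    {B : V → V → F} {B' : W → W → F} (g : Module.End F V) (h : Module.End F W) (P : U →ₗ[F] V) (P' : U →ₗ[F] W) (τ : U → U)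
    (h1 : ∀ u, P (τ u) = g (P u)) (h2 : ∀ u, P' (τ u) = h (P' u)) (h3 : ∀ u u', B' (P' u) (P' u') = B (P u) (P u'))
    (hB0 : ∀ y, B 0 y = 0) (hB0' : ∀ y, B' 0 y = 0)
    (h4 : ∀ u, (∀ u', B (P u) (P u') = 0) → P u = 0) (h5 : ∀ u, (∀ u', B' (P' u) (P' u') = 0) → P' u = 0)
    (hgU : ∀ x ∈ LinearMap.range P, g x ∈ LinearMap.range P) (hhU : ∀ x ∈ LinearMap.range P', h x ∈ LinearMap.range P') :
    Iso (fun x y : LinearMap.range P => B x y) (fun x y : LinearMap.range P' => B' x y) (g.restrict hgU) (h.restrict hhU) := by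
  have hker : LinearMap.ker P = LinearMap.ker P' := by
    ext u
    rw [LinearMap.mem_ker, LinearMap.mem_ker]
    constructor
    · intro h
      apply h5
      intro u'
      rw [h3, h, hB0]
    · intro h
      apply h4
      intro u'
      rw [← h3, h, hB0']
  let e : LinearMap.range P ≃ₗ[F] LinearMap.range P' :=
    (P.quotKerEquivRange.symm.trans (Submodule.quotEquivOfEq _ _ hker)).trans P'.quotKerEquivRange
  have he : ∀ u (hu : P u ∈ LinearMap.range P), (e ⟨P u, hu⟩ : W) = P' u := by
    intro u hu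
    have h6 : P.quotKerEquivRange (Submodule.Quotient.mk u) = ⟨P u, hu⟩ := rfl
    rw [← h6]
    change ((P'.quotKerEquivRange ((Submodule.quotEquivOfEq _ _ hker) (P.quotKerEquivRange.symm _)) : LinearMap.range P') : W) = _
    rw [LinearEquiv.symm_apply_apply]
    rfl
  refine ⟨e, ?_, ?_⟩
  · rintro ⟨_, u, rfl⟩
    apply Subtype.ext
    rw [LinearMap.restrict_coe_apply]
    have h6 : g.restrict hgU ⟨P u, LinearMap.mem_range_self P u⟩ = ⟨P (τ u), LinearMap.mem_range_self P _⟩ := Subtype.ext (h1 u).symm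
    refine (congrArg (fun z => (e z : W)) h6).trans ?_
    refine (he (τ u) (LinearMap.mem_range_self P _)).trans ?_
    rw [h2]
    exact (congrArg h (he u (LinearMap.mem_range_self P u))).symm
  · rintro ⟨_, u, rfl⟩ ⟨_, u', rfl⟩
    have e1 := he u (LinearMap.mem_range_self P u)
    have e2 := he u' (LinearMap.mem_range_self P u')
    have e3 := h3 u u'
    rw [← e1, ← e2] at e3
    exact e3

end Cfsg.Agent.H15.FM
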