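import Mathlib

set_option autoImplicit false
set_option linter.all false
open Equiv Equiv.Perm Finset

namespace Cfsg.Agent.H15.FXP

variable {n : ℕ}

theorem transS {k : ℕ} (u v : Fin k → Fin n) (hu : Function.Injective u) (hv : Function.Injective v) :
    ∃ g : Perm (Fin n), ∀ i, g (u i) = v i := by
  have := Equiv.Perm.isMultiplyPretransitive (Fin n) k
  rw [MulAction.isMultiplyPretransitive_iff] at this
  obtain ⟨g, hg⟩ := this ⟨u, hu⟩ ⟨v, hv⟩
  exact ⟨g, fun i => DFunLike.congr_fun hg i⟩

theorem transA {k : ℕ} (hk : k + 2 ≤ n) (u v : Fin k → Fin n) (hu : Function.Injective u) (hv : Function.Injective v) :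
    ∃ g ∈ alternatingGroup (Fin n), ∀ i, g (u i) = v i := by
  have h1 := alternatingGroup.isMultiplyPretransitive (Fin n)
  have h2 : MulAction.IsMultiplyPretransitive (alternatingGroup (Fin n)) (Fin n) k := 
    MulAction.isMultiplyPretransitive_of_le (n := Nat.card (Fin n) - 2) (by rw [Nat.card_eq_fintype_card, Fintype.card_fin]; omega) (Nat.sub_le _ _)
  rw [MulAction.isMultiplyPretransitive_iff] at h2
  obtain ⟨g, hg⟩ := h2 ⟨u, hu⟩ ⟨v, hv⟩
  exact ⟨g, g.2, fun i => DFunLike.congr_fun hg i⟩

theorem inj3 {a b c : Fin n} (h1 : a ≠ b) (h2 : a ≠ c) (h3 : b ≠ c) : Function.Injective ![a, b, c] := by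
  intro i j hij
  fin_cases i <;> fin_cases j
  · rfl
  · exact absurd hij h1
  · exact absurd hij h2
  · exact absurd hij h1.symm
  · rfl
  · exact absurd hij h3
  · exact absurd hij h2.symm
  · exact absurd hij h3.symm
  · rfl

theorem inj4 {a b c d : Fin n} (h1 : a ≠ b) (h2 : a ≠ c) (h3 : a ≠ d) (h4 : b ≠ c) (h5 : b ≠ d) (h6 : c ≠ d) : Function.Injective ![a, b, c, d] := by
  intro i j hij
  fin_cases i <;> fin_cases j
  · rfl
  · exact absurd hij h1
  · exact absurd hij h2
  · exact absurd hij h3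
  · exact absurd hij h1.symm
  · rfl
  · exact absurd hij h4
  · exact absurd hij h5
  · exact absurd hij h2.symm
  · exact absurd hij h4.symm
  · rfl
  · exact absurd hij h6
  · exact absurd hij h3.symm
  · exact absurd hij h5.symm
  · exact absurd hij h6.symm
  · rfl

/-- number of fixed points -/
def fx (g : Perm (Fin n)) : ℕ := (univ.filter (fun x => g x = x)).card

theorem fx_conj (g h : Perm (Fin n)) : fx (g * h * g⁻¹) = fx h := by
  unfold fx
  symm
  apply Finset.card_bij (fun x _ => g x)
  · intro x hx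
    rw [mem_filter] at hx ⊢
    refine ⟨mem_univ _, ?_⟩
    change g (h (g.symm (g x))) = g x
    rw [Equiv.symm_apply_apply, hx.2]
  · intro x _ y _ h; exact g.injective h
  · intro y hy
    refine ⟨g.symm y, ?_, by simp⟩
    rw [mem_filter] at hy ⊢
    refine ⟨mem_univ _, ?_⟩
    have : g (h (g.symm y)) = y := hy.2
    rw [Equiv.eq_symm_apply]; exact this

theorem fx_eq (g : Perm (Fin n)) : Nat.card (Function.fixedPoints ⇑g) = fx g := by
  unfold fx
  rw [Nat.card_eq_fintype_card, ← Set.toFinset_card]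
  congr 1
  ext x; simp [Function.mem_fixedPoints, Function.IsFixedPt]

theorem fx_comm (g h : Perm (Fin n)) : fx (g * h) = fx (h * g) := by
  have : h * g = h * (g * h) * h⁻¹ := by group
  rw [this, fx_conj]

/-- counting -/
theorem count1 (hn : 5 ≤ n) (x y : Fin n) :
    n * (univ.filter (fun g : alternatingGroup (Fin n) => (g : Perm (Fin n)) x = y)).card = Fintype.card (alternatingGroup (Fin n)) := by
  classical
  have h1 : ∀ z : Fin n, (univ.filter (fun g : alternatingGroup (Fin n) => (g : Perm (Fin n)) x = z)).card =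
      (univ.filter (fun g : alternatingGroup (Fin n) => (g : Perm (Fin n)) x = y)).card := by
    intro z
    obtain ⟨g0, hg0, h0⟩ := transA (k := 1) (by omega) ![z] ![y] (Function.injective_of_subsingleton _) (Function.injective_of_subsingleton _)
    have h0 : g0 z = y := h0 0
    apply Finset.card_bij (fun g _ => ⟨g0, hg0⟩ * g)
    · intro g hg; simp only [mem_filter, mem_univ, true_and] at hg ⊢
      change g0 (g.1 x) = y; rw [hg, h0]
    · intro g _ g' _ h; exact mul_left_cancel h
    · intro g hg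
      refine ⟨⟨g0, hg0⟩⁻¹ * g, ?_, by simp⟩
      simp only [mem_filter, mem_univ, true_and] at hg ⊢
      change g0⁻¹ (g.1 x) = z
      rw [hg, ← h0]; simp
  have h2 := Finset.card_eq_sum_card_fiberwise (s := (univ : Finset (alternatingGroup (Fin n)))) (t := (univ : Finset (Fin n))) (f := fun g : alternatingGroup (Fin n) => (g : Perm (Fin n)) x) (fun _ _ => mem_coe.2 (mem_univ _))
  rw [Finset.card_univ] at h2
  rw [h2, Finset.sum_congr rfl (fun z _ => h1 z), Finset.sum_const, Finset.card_univ, Fintype.card_fin, smul_eq_mul]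

theorem count2 (hn : 5 ≤ n) (x x' y y' : Fin n) (hx : x ≠ x') (hy : y ≠ y') :
    (n * n - n) * (univ.filter (fun g : alternatingGroup (Fin n) => (g : Perm (Fin n)) x = y ∧ (g : Perm (Fin n)) x' = y')).card = Fintype.card (alternatingGroup (Fin n)) := by
  classical
  have h1 : ∀ z ∈ (univ : Finset (Fin n)).offDiag, (univ.filter (fun g : alternatingGroup (Fin n) => ((g : Perm (Fin n)) x, (g : Perm (Fin n)) x') = z)).card =
      (univ.filter (fun g : alternatingGroup (Fin n) => (g : Perm (Fin n)) x = y ∧ (g : Perm (Fin n)) x' = y')).card := by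
    rintro ⟨z, z'⟩ hz
    rw [mem_offDiag] at hz
    obtain ⟨g0, hg0, h0⟩ := transA (k := 2) (by omega) ![z, z'] ![y, y'] (by
      intro i j hij; fin_cases i <;> fin_cases j <;> simp_all) (by
      intro i j hij; fin_cases i <;> fin_cases j <;> simp_all)
    have h00 : g0 z = y := h0 0
    have h01 : g0 z' = y' := h0 1
    apply Finset.card_bij (fun g _ => ⟨g0, hg0⟩ * g)
    · intro g hg; simp only [mem_filter, mem_univ, true_and, Prod.mk.injEq] at hg ⊢
      change g0 (g.1 x) = y ∧ g0 (g.1 x') = y'; rw [hg.1, h00, hg.2, h01]; exact ⟨rfl, rfl⟩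
    · intro g _ g' _ h; exact mul_left_cancel h
    · intro g hg
      refine ⟨⟨g0, hg0⟩⁻¹ * g, ?_, by simp⟩
      simp only [mem_filter, mem_univ, true_and, Prod.mk.injEq] at hg ⊢
      change g0⁻¹ (g.1 x) = z ∧ g0⁻¹ (g.1 x') = z'
      rw [hg.1, ← h00, hg.2, ← h01]; simp
  have h2 := Finset.card_eq_sum_card_fiberwise (s := (univ : Finset (alternatingGroup (Fin n)))) (t := (univ : Finset (Fin n)).offDiag) (f := fun g : alternatingGroup (Fin n) => ((g : Perm (Fin n)) x, (g : Perm (Fin n)) x')) (fun g _ => by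
    rw [mem_coe, mem_offDiag]; exact ⟨mem_univ _, mem_univ _, fun h => hx ((g : Perm (Fin n)).injective h)⟩)
  rw [Finset.card_univ] at h2
  rw [h2, Finset.sum_congr rfl h1, Finset.sum_const, Finset.offDiag_card, Finset.card_univ, Fintype.card_fin, smul_eq_mul]


theorem fx_lt (g : Perm (Fin n)) (hg : g ≠ 1) : fx g < n := by
  by_contra h
  push Not at h
  apply hg
  ext x
  have h1 : (univ.filter (fun x => g x = x)) = univ := by
    apply Finset.eq_univ_of_card
    apply le_antisymm
    · exact Finset.card_le_univ _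
    · rw [Fintype.card_fin]; exact h
  have h2 : x ∈ (univ.filter (fun x => g x = x)) := by rw [h1]; exact mem_univ _
  rw [mem_filter] at h2
  rw [h2.2]; rfl

/-- the averaging formula -/
theorem avg (hn : 5 ≤ n) (a b : Perm (Fin n)) (k : ℕ) (h : ∀ g ∈ alternatingGroup (Fin n), fx (g * a * g⁻¹ * b) = k) :
    ((fx a : ℤ) - 1) * ((fx b : ℤ) - 1) = ((n : ℤ) - 1) * ((k : ℤ) - 1) := by
  classical
  set G := alternatingGroup (Fin n) with hG
  set c := Fintype.card G with hc
  have hcpos : 0 < c := Fintype.card_pos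
  -- sum over g of fx (g⁻¹ a g b)
  have h1 : ∑ g : G, fx ((g : Perm (Fin n))⁻¹ * a * (g : Perm (Fin n)) * b) = c * k := by
    have : ∀ g : G, fx ((g : Perm (Fin n))⁻¹ * a * (g : Perm (Fin n)) * b) = k := by
      intro g
      have := h (g : Perm (Fin n))⁻¹ (G.inv_mem g.2)
      rw [inv_inv] at this; exact this
    rw [Finset.sum_congr rfl (fun g _ => this g), Finset.sum_const, Finset.card_univ, smul_eq_mul]
  have h2 : ∀ g : G, fx ((g : Perm (Fin n))⁻¹ * a * (g : Perm (Fin n)) * b) = ∑ x : Fin n, if a ((g : Perm (Fin n)) (b x)) = (g : Perm (Fin n)) x then 1 else 0 := by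
    intro g
    unfold fx
    rw [Finset.card_filter]
    apply Finset.sum_congr rfl
    intro x _
    congr 1
    change ((g : Perm (Fin n)).symm (a ((g : Perm (Fin n)) (b x))) = x) = _
    rw [Equiv.symm_apply_eq]
  rw [Finset.sum_congr rfl (fun g _ => h2 g), Finset.sum_comm] at h1
  -- inner sums
  have h3 : ∀ x : Fin n, b x = x → n * (∑ g : G, if a ((g : Perm (Fin n)) (b x)) = (g : Perm (Fin n)) x then 1 else 0) = fx a * c := by
    intro x hx
    rw [hx]
    have : ∀ g : G, (if a ((g : Perm (Fin n)) x) = (g : Perm (Fin n)) x then 1 else 0) = ∑ y ∈ univ.filter (fun y => a y = y), (if (g : Perm (Fin n)) x = y then 1 else 0) := by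
      intro g
      rw [Finset.sum_ite_eq]
      simp
    rw [Finset.sum_congr rfl (fun g _ => this g), Finset.sum_comm, Finset.mul_sum]
    have h4 : ∀ y ∈ univ.filter (fun y => a y = y), n * (∑ g : G, if (g : Perm (Fin n)) x = y then 1 else 0) = c := by
      intro y _
      rw [← Finset.card_filter]
      exact count1 hn x y
    rw [Finset.sum_congr rfl h4, Finset.sum_const, smul_eq_mul]; rfl
  have h5 : ∀ x : Fin n, b x ≠ x → (n * n - n) * (∑ g : G, if a ((g : Perm (Fin n)) (b x)) = (g : Perm (Fin n)) x then 1 else 0) = (n - fx a) * c := by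
    intro x hx
    have : ∀ g : G, (if a ((g : Perm (Fin n)) (b x)) = (g : Perm (Fin n)) x then 1 else 0) = ∑ y ∈ univ.filter (fun y => ¬ a y = y), (if (g : Perm (Fin n)) (b x) = y ∧ (g : Perm (Fin n)) x = a y then 1 else 0) := by
      intro g
      by_cases h6 : a ((g : Perm (Fin n)) (b x)) = (g : Perm (Fin n)) x
      · rw [if_pos h6]
        rw [Finset.sum_eq_single ((g : Perm (Fin n)) (b x))]
        · rw [if_pos ⟨rfl, h6.symm⟩]
        · intro y _ hy
          rw [if_neg]; rintro ⟨h7, -⟩; exact hy h7.symm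
        · intro h7
          exfalso; apply h7
          rw [mem_filter]
          refine ⟨mem_univ _, ?_⟩
          rw [h6]
          intro h8
          exact hx ((g : Perm (Fin n)).injective h8).symm
      · rw [if_neg h6, eq_comm, Finset.sum_eq_zero]
        intro y _
        rw [if_neg]; rintro ⟨h7, h8⟩
        apply h6; rw [h7, h8]
    rw [Finset.sum_congr rfl (fun g _ => this g), Finset.sum_comm, Finset.mul_sum]
    have h4 : ∀ y ∈ univ.filter (fun y => ¬ a y = y), (n * n - n) * (∑ g : G, if (g : Perm (Fin n)) (b x) = y ∧ (g : Perm (Fin n)) x = a y then 1 else 0) = c := by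
      intro y hy
      rw [mem_filter] at hy
      rw [← Finset.card_filter]
      exact count2 hn (b x) x y (a y) hx (fun h => hy.2 h.symm)
    rw [Finset.sum_congr rfl h4, Finset.sum_const, smul_eq_mul]
    congr 1
    have := Finset.card_filter_add_card_filter_not (s := (univ : Finset (Fin n))) (fun y => a y = y)
    rw [Finset.card_univ, Fintype.card_fin] at this
    unfold fx
    omega
  -- total
  have h6 : (n * n - n) * (c * k) = ∑ x : Fin n, if b x = x then (n - 1) * (fx a * c) else (n - fx a) * c := by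
    rw [← h1, Finset.mul_sum]
    apply Finset.sum_congr rfl
    intro x _
    split_ifs with hx
    · rw [← h3 x hx, ← mul_assoc]
      congr 1
      rw [Nat.sub_mul, one_mul]
    · exact h5 x hx
  rw [Finset.sum_ite, Finset.sum_const, Finset.sum_const, smul_eq_mul, smul_eq_mul] at h6
  have h7 : (univ.filter (fun x => ¬ b x = x)).card = n - fx b := by
    have := Finset.card_filter_add_card_filter_not (s := (univ : Finset (Fin n))) (fun y => b y = y)
    rw [Finset.card_univ, Fintype.card_fin] at this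
    unfold fx
    omega
  rw [h7] at h6
  change (n * n - n) * (c * k) = fx b * ((n - 1) * (fx a * c)) + (n - fx b) * ((n - fx a) * c) at h6
  have ha : fx a ≤ n := by
    unfold fx
    calc _ ≤ (univ : Finset (Fin n)).card := Finset.card_filter_le _ _
      _ = n := by simp
  have hb : fx b ≤ n := by
    unfold fx
    calc _ ≤ (univ : Finset (Fin n)).card := Finset.card_filter_le _ _
      _ = n := by simp
  obtain ⟨u, hu⟩ := Nat.exists_eq_add_of_le ha
  obtain ⟨v, hv⟩ := Nat.exists_eq_add_of_le hb
  have e1 : n * n - n = n * (n - 1) := by rw [Nat.mul_sub, mul_one]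
  obtain ⟨m, rfl⟩ : ∃ m, n = m + 1 := ⟨n - 1, by omega⟩
  have e2 : m + 1 - fx a = u := by omega
  have e3 : m + 1 - fx b = v := by omega
  rw [e1, e2, e3, Nat.add_sub_cancel] at h6
  have h8 : ((m + 1) * m * k) * c = (fx b * m * fx a + v * u) * c := by linarith
  have h9 := Nat.eq_of_mul_eq_mul_right hcpos h8
  zify at h9 hu hv ⊢
  have hu' : (u : ℤ) = m + 1 - fx a := by linarith
  have hv' : (v : ℤ) = m + 1 - fx b := by linarith
  rw [hu', hv'] at h9
  have hm : (m : ℤ) + 1 ≠ 0 := by positivity
  apply mul_left_cancel₀ hm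
  linarith


/-- constancy hypothesis -/
def HC (a b : Perm (Fin n)) (k : ℕ) : Prop := ∀ g ∈ alternatingGroup (Fin n), fx (g * a * g⁻¹ * b) = k

theorem HC_symm {a b : Perm (Fin n)} {k : ℕ} (h : HC a b k) : HC b a k := by
  intro g hg
  have h1 := h g⁻¹ (Subgroup.inv_mem _ hg)
  rw [← h1]
  have : g * b * g⁻¹ * a = g * (b * (g⁻¹ * a * g)) * g⁻¹ := by group
  rw [this, fx_conj, fx_comm, inv_inv]

theorem sign_cases (g : Perm (Fin n)) (hg : g ∉ alternatingGroup (Fin n)) : sign g = -1 := by
  rcases Int.units_eq_one_or (sign g) with h | h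
  · exact absurd (Perm.mem_alternatingGroup.2 h) hg
  · exact h

theorem HC_full_a {a b c : Perm (Fin n)} {k : ℕ} (h : HC a b k) (hc : sign c = -1) (hac : c * a = a * c) (g : Perm (Fin n)) :
    fx (g * a * g⁻¹ * b) = k := by
  by_cases hg : g ∈ alternatingGroup (Fin n)
  · exact h g hg
  · have h1 : g * c ∈ alternatingGroup (Fin n) := by
      rw [Perm.mem_alternatingGroup, Perm.sign_mul, sign_cases g hg, hc]; decide
    have h2 := h _ h1
    rw [← h2]
    congr 2
    have : g * c * a * (g * c)⁻¹ = g * (c * a) * c⁻¹ * g⁻¹ := by group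
    rw [this, hac]; group

theorem HC_full_b {a b c : Perm (Fin n)} {k : ℕ} (h : HC a b k) (hc : sign c = -1) (hbc : c * b = b * c) (g : Perm (Fin n)) :
    fx (g * a * g⁻¹ * b) = k := by
  have h1 := HC_full_a (HC_symm h) hc hbc g⁻¹
  rw [← h1]
  have : g * a * g⁻¹ * b = g * (a * (g⁻¹ * b * g)) * g⁻¹ := by group
  rw [this, fx_conj, fx_comm, inv_inv]

theorem fx_two (a b g : Perm (Fin n)) (z1 z2 x1 x2 : Fin n) (hx : x1 ≠ x2) (h1 : g z1 = b x1) (h2 : g (a z1) = x1) (h3 : g z2 = b x2)
    (h4 : g (a z2) = x2) : 2 ≤ fx (g * a * g⁻¹ * b) := by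
  have hsub : ({x1, x2} : Finset (Fin n)) ⊆ univ.filter (fun x => (g * a * g⁻¹ * b) x = x) := by
    intro x hx
    rw [mem_insert, mem_singleton] at hx
    rw [mem_filter]
    refine ⟨mem_univ _, ?_⟩
    change g (a (g.symm (b x))) = x
    rcases hx with rfl | rfl
    · rw [← h1, Equiv.symm_apply_apply, h2]
    · rw [← h3, Equiv.symm_apply_apply, h4]
  calc 2 = ({x1, x2} : Finset (Fin n)).card := (Finset.card_pair hx).symm
    _ ≤ _ := Finset.card_le_card hsub

theorem exists_swap (a : Perm (Fin n)) (ha : 2 ≤ fx a) : ∃ c, sign c = -1 ∧ c * a = a * c := by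
  obtain ⟨x, hx, y, hy, hxy⟩ := Finset.one_lt_card.1 ha
  rw [mem_filter] at hx hy
  refine ⟨swap x y, sign_swap hxy, ?_⟩
  have := Equiv.mul_swap_eq_swap_mul a x y
  rw [hx.2, hy.2] at this
  exact this.symm

/-- both have at least two fixed points -/
theorem caseII (hn : 5 ≤ n) (a b : Perm (Fin n)) (ha : a ≠ 1) (hb : b ≠ 1) (k : ℕ) (h : HC a b k) (h2 : 2 ≤ fx a) (hab : fx a ≤ fx b) : False := by
  classical
  obtain ⟨c, hc, hac⟩ := exists_swap a h2
  obtain ⟨t, ht, htc⟩ := Finset.exists_subset_card_eq hab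
  let e : {x // x ∈ univ.filter (fun x => a x = x)} ≃ {x // x ∈ t} := Finset.equivOfCardEq (by rw [htc]; rfl)
  have hg : ∀ x, a x = x → b (e.extendSubtype x) = e.extendSubtype x := by
    intro x hx
    have := e.extendSubtype_mem x (mem_filter.2 ⟨mem_univ _, hx⟩)
    have := ht this
    rw [mem_filter] at this; exact this.2
  have h3 := HC_full_a h hc hac e.extendSubtype
  have h4 : fx a ≤ k := by
    rw [← h3]
    unfold fx
    apply Finset.card_le_card_of_injOn (fun x => e.extendSubtype x)
    · intro x hx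
      rw [mem_coe, mem_filter] at hx ⊢
      refine ⟨mem_univ _, ?_⟩
      change e.extendSubtype (a (e.extendSubtype.symm (b (e.extendSubtype x)))) = e.extendSubtype x
      rw [hg x hx.2, Equiv.symm_apply_apply, hx.2]
    · exact e.extendSubtype.injective.injOn
  have h5 := avg hn a b k h
  have h6 := fx_lt a ha
  have h7 := fx_lt b hb
  have h8' : (2:ℤ) ≤ fx a := by exact_mod_cast h2
  have h9' : (fx a:ℤ) ≤ k := by exact_mod_cast h4
  have h10' : (fx b:ℤ) < n := by exact_mod_cast h7
  have h8 : (1 : ℤ) ≤ (fx a : ℤ) - 1 := by linarith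
  have h9 : (fx a : ℤ) - 1 ≤ (k : ℤ) - 1 := by linarith
  have h10 : (fx b : ℤ) - 1 < (n : ℤ) - 1 := by linarith
  nlinarith

theorem exists_edges (b : Perm (Fin n)) (h : fx b + 4 ≤ n) : ∃ x1 x2, b x1 ≠ x1 ∧ b x2 ≠ x2 ∧ x1 ≠ x2 ∧ b x1 ≠ x2 ∧ b x2 ≠ x1 ∧ b x1 ≠ b x2 := by
  classical
  have h7 : (univ.filter (fun x => ¬ b x = x)).card = n - fx b := by
    have := Finset.card_filter_add_card_filter_not (s := (univ : Finset (Fin n))) (fun y => b y = y)
    rw [Finset.card_univ, Fintype.card_fin] at this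
    unfold fx
    omega
  obtain ⟨x1, hx1⟩ : (univ.filter (fun x => ¬ b x = x)).Nonempty := by
    rw [← Finset.card_pos]; omega
  have h8 : ∃ x2 ∈ univ.filter (fun x => ¬ b x = x), x2 ∉ ({x1, b x1, b.symm x1} : Finset (Fin n)) := by
    by_contra hcon
    push Not at hcon
    have := Finset.card_le_card (show univ.filter (fun x => ¬ b x = x) ⊆ ({x1, b x1, b.symm x1} : Finset (Fin n)) from hcon)
    have h9 := Finset.card_le_three (a := x1) (b := b x1) (c := b.symm x1)
    omega
  obtain ⟨x2, hx2, hx2'⟩ := h8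
  rw [mem_filter] at hx1 hx2
  simp only [mem_insert, mem_singleton, not_or] at hx2'
  refine ⟨x1, x2, hx1.2, hx2.2, fun h => hx2'.1 h.symm, fun h => hx2'.2.1 h.symm, ?_, ?_⟩
  · intro h; apply hx2'.2.2; rw [Equiv.eq_symm_apply, h]
  · intro h; apply hx2'.1; exact (b.injective h).symm

/-- `a` has exactly one fixed point -/
theorem caseI (hn : 5 ≤ n) (a b : Perm (Fin n)) (ha : a ≠ 1) (hb : b ≠ 1) (h : HC a b 1) (h1 : fx a = 1) : False := by
  classical
  rcases Nat.eq_zero_or_pos (fx b) with h0 | hpos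
  · -- b has no fixed points
    by_cases hA : ∃ z, a z ≠ z ∧ a (a z) ≠ z
    · by_cases hB : ∃ x, b x ≠ x ∧ b (b x) ≠ x
      · obtain ⟨z, hz1, hz2⟩ := hA
        obtain ⟨x, hx1, hx2⟩ := hB
        obtain ⟨g, hg, hgi⟩ := transA (n := n) (k := 3) (by omega) ![z, a z, a (a z)] ![b (b x), b x, x]
          (inj3 hz1.symm hz2.symm (fun h => hz1 (a.injective h).symm)) (inj3 (fun h => hx1 (b.injective h)) hx2 hx1)
        have e0 : g z = b (b x) := hgi 0
        have e1 : g (a z) = b x := hgi 1
        have e2 : g (a (a z)) = x := hgi 2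
        have := fx_two a b g z (a z) (b x) x hx1 e0 e1 e1 e2
        rw [h g hg] at this
        omega
      · push Not at hB
        have hB' : ∀ x, b (b x) = x := fun x => by
          by_cases hx : b x = x
          · rw [hx, hx]
          · exact hB x hx
        obtain ⟨x1, x2, hx1, hx2, h12, h3, h4, h5⟩ := exists_edges b (by omega)
        obtain ⟨z1, z2, hz1, hz2, k12, k3, k4, k5⟩ := exists_edges a (by omega)
        obtain ⟨g, hgi⟩ := transS (n := n) (k := 4) ![z1, a z1, z2, a z2] ![b x1, x1, b x2, x2]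
          (inj4 hz1.symm k12 k4.symm k3 k5 hz2.symm) (inj4 hx1 h5 h3 h4.symm h12 hx2)
        have e0 : g z1 = b x1 := hgi 0
        have e1 : g (a z1) = x1 := hgi 1
        have e2 : g z2 = b x2 := hgi 2
        have e3 : g (a z2) = x2 := hgi 3
        have := fx_two a b g z1 z2 x1 x2 h12 e0 e1 e2 e3
        have h6 : swap x1 (b x1) * b = b * swap x1 (b x1) := by
          have := Equiv.mul_swap_eq_swap_mul b x1 (b x1)
          rw [hB', swap_comm (b x1) x1] at this
          exact this.symm
        rw [HC_full_b h (sign_swap hx1.symm) h6 g] at this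
        omega
    · push Not at hA
      have hA' : ∀ x, a (a x) = x := fun x => by
        by_cases hx : a x = x
        · rw [hx, hx]
        · exact hA x hx
      obtain ⟨x1, x2, hx1, hx2, h12, h3, h4, h5⟩ := exists_edges b (by omega)
      obtain ⟨z1, z2, hz1, hz2, k12, k3, k4, k5⟩ := exists_edges a (by omega)
      obtain ⟨g, hgi⟩ := transS (n := n) (k := 4) ![z1, a z1, z2, a z2] ![b x1, x1, b x2, x2]
        (inj4 hz1.symm k12 k4.symm k3 k5 hz2.symm) (inj4 hx1 h5 h3 h4.symm h12 hx2)
      have e0 : g z1 = b x1 := hgi 0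
      have e1 : g (a z1) = x1 := hgi 1
      have e2 : g z2 = b x2 := hgi 2
      have e3 : g (a z2) = x2 := hgi 3
      have := fx_two a b g z1 z2 x1 x2 h12 e0 e1 e2 e3
      have h6 : swap z1 (a z1) * a = a * swap z1 (a z1) := by
        have := Equiv.mul_swap_eq_swap_mul a z1 (a z1)
        rw [hA', swap_comm (a z1) z1] at this
        exact this.symm
      rw [HC_full_a h (sign_swap hz1.symm) h6 g] at this
      omega
  · -- common fixed point
    obtain ⟨p, hp⟩ := Finset.card_pos.1 hpos
    obtain ⟨r, hr⟩ := Finset.card_pos.1 (show 0 < (univ.filter (fun x => a x = x)).card by change 0 < fx a; omega)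
    rw [mem_filter] at hp hr
    obtain ⟨z, hz⟩ : ∃ z, a z ≠ z := by
      by_contra hcon; push Not at hcon; exact ha (Equiv.ext hcon)
    obtain ⟨x, hx⟩ : ∃ x, b x ≠ x := by
      by_contra hcon; push Not at hcon; exact hb (Equiv.ext hcon)
    have hrz : r ≠ z := by rintro rfl; exact hz hr.2
    have hpx : p ≠ x := by rintro rfl; exact hx hp.2
    have hraz : r ≠ a z := by
      intro h2; apply hrz; apply a.injective; rw [hr.2]; exact h2
    have hpbx : p ≠ b x := by
      intro h2; apply hpx; apply b.injective; rw [hp.2]; exact h2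
    obtain ⟨g, hg, hgi⟩ := transA (n := n) (k := 3) (by omega) ![r, z, a z] ![p, b x, x] (inj3 hrz hraz hz.symm) (inj3 hpbx hpx hx)
    have e0 : g r = p := hgi 0
    have e1 : g z = b x := hgi 1
    have e2 : g (a z) = x := hgi 2
    have := fx_two a b g r z p x hpx (by rw [hp.2]; exact e0) (by rw [hr.2]; exact e0) e1 e2
    rw [h g hg] at this
    omega

theorem no_HC (hn : 5 ≤ n) (a b : Perm (Fin n)) (ha : a ≠ 1) (hb : b ≠ 1) (k : ℕ) (h : HC a b k) : False := by
  have h1 := avg hn a b k h
  have ha' := fx_lt a ha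
  have hb' := fx_lt b hb
  have hn' : (5 : ℤ) ≤ n := by exact_mod_cast hn
  have key : ∀ a b : Perm (Fin n), a ≠ 1 → b ≠ 1 → HC a b k → fx a ≤ fx b → False := by
    intro a b ha hb h hab
    have h1 := avg hn a b k h
    have ha' := fx_lt a ha
    have hb' := fx_lt b hb
    have ha'' : (fx a : ℤ) < n := by exact_mod_cast ha'
    have hb'' : (fx b : ℤ) < n := by exact_mod_cast hb'
    rcases Nat.lt_or_ge (fx a) 2 with h2 | h2
    · rcases (by omega : fx a = 0 ∨ fx a = 1) with h3 | h3
      · -- fx a = 0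
        rw [h3] at h1
        have hk : k = 1 := by
          push_cast at h1
          have hb0 : (0 : ℤ) ≤ fx b := by positivity
          by_contra hk
          rcases Nat.lt_or_gt_of_ne hk with h4 | h4
          · have : k = 0 := by omega
            subst this
            push_cast at h1
            linarith
          · have : (2 : ℤ) ≤ k := by exact_mod_cast h4
            nlinarith
        subst hk
        push_cast at h1
        have h5 : fx b = 1 := by
          have : (fx b : ℤ) = 1 := by linarith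
          exact_mod_cast this
        exact caseI hn b a hb ha (HC_symm h) h5
      · rw [h3] at h1
        have hk : k = 1 := by
          push_cast at h1
          have h4 : ((n : ℤ) - 1) * ((k : ℤ) - 1) = 0 := by linarith
          rcases mul_eq_zero.1 h4 with h5 | h5
          · linarith
          · have : (k : ℤ) = 1 := by linarith
            exact_mod_cast this
        subst hk
        exact caseI hn a b ha hb h h3
    · exact caseII hn a b ha hb k h h2 hab
  rcases le_total (fx a) (fx b) with h2 | h2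
  · exact key a b ha hb h h2
  · exact key b a hb ha (HC_symm h) h2

theorem main (n : ℕ) (hn : 5 ≤ n) (a b : Equiv.Perm (Fin n)) (ha : a ≠ 1) (hb : b ≠ 1) :
    ∃ g₁ h₁ g₂ h₂ : Equiv.Perm (Fin n), g₁ ∈ alternatingGroup (Fin n) ∧ h₁ ∈ alternatingGroup (Fin n) ∧ g₂ ∈ alternatingGroup (Fin n) ∧ h₂ ∈ alternatingGroup (Fin n) ∧
      Nat.card (Function.fixedPoints ⇑(g₁ * a * g₁⁻¹ * (h₁ * b * h₁⁻¹))) ≠
        Nat.card (Function.fixedPoints ⇑(g₂ * a * g₂⁻¹ * (h₂ * b * h₂⁻¹))) := by
  by_contra hcon
  push Not at hcon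
  apply no_HC hn a b ha hb (fx (a * b))
  intro g hg
  have := hcon g 1 1 1 hg (Subgroup.one_mem _) (Subgroup.one_mem _) (Subgroup.one_mem _)
  rw [fx_eq, fx_eq] at this
  simpa using this

end Cfsg.Agent.H15.FXP
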