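import Mathlib
import Cfsg.Prelude.Def_Steinberg
import Cfsg.Prelude.Def_LieChev

set_option autoImplicit false
set_option maxRecDepth 100000

/-! A 6-dimensional module of the Chevalley group of type `G₂` over the field with four elements: codes. -/

namespace Cfsg.Agent.H15.G2R

open Cfsg Cfsg.Lie Cfsg.Lie.ChevalleyDatum

/-- multiplication table of the field with 4 elements, packed. -/
def mulc (a b : ℕ) : ℕ := (2625168384 >>> (2 * (4 * a + b))) &&& 3

/-- coordinate of a packed vector. -/
def gt (v i : ℕ) : ℕ := (v >>> (2 * i)) &&& 3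

/-- entries `(i, j, e)` of the root element: `e_j ↦ e_j + t ^ e * e_i`. -/
def tb : ℕ → List (Fin 6 × Fin 6 × Bool)
  | 0 => [(4, 0, false), (5, 1, false)]
  | 1 => [(3, 0, false), (5, 2, false)]
  | 2 => [(3, 1, false), (4, 2, false), (5, 0, true)]
  | 3 => [(2, 0, false), (4, 1, true), (5, 3, false)]
  | 4 => [(1, 0, false), (3, 2, true), (5, 4, false)]
  | 5 => [(2, 1, false), (4, 3, false)]
  | 6 => [(1, 2, false), (3, 4, false)]
  | 7 => [(0, 1, false), (2, 3, true), (4, 5, false)]
  | 8 => [(0, 2, false), (1, 4, true), (3, 5, false)]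
  | 9 => [(0, 5, true), (1, 3, false), (2, 4, false)]
  | 10 => [(0, 3, false), (2, 5, false)]
  | 11 => [(0, 4, false), (1, 5, false)]
  | _ => []

def sqc (b : Bool) (c : ℕ) : ℕ := bif b then mulc c c else c

def xs (c v : ℕ) : List (Fin 6 × Fin 6 × Bool) → ℕ
  | [] => 0
  | p :: L => ((mulc (sqc p.2.2 c) (gt v p.2.1)) <<< (2 * p.1.1)) ^^^ xs c v L

def act (r c v : ℕ) : ℕ := v ^^^ xs c v (tb r)

def run (w : List (ℕ × ℕ)) (v : ℕ) : ℕ := w.foldr (fun p v => act p.1 p.2 v) v

def eqw (w w' : List (ℕ × ℕ)) : Bool := (List.range 6).all fun b => Nat.beq (run w (1 <<< (2 * b))) (run w' (1 <<< (2 * b)))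

def powc (c : ℕ) : ℕ → ℕ
  | 0 => 1
  | n + 1 => mulc (powc c n) c

def ic (b : Bool) (c : ℕ) : ℕ := bif b then 0 else c

def cw (r s t u : ℕ) : List (ℕ × ℕ) :=
  (chevG2.commTerms r s).map fun c => (c.1, ic (c.2.1 % 2 == 0) (mulc (powc t c.2.2.1) (powc u c.2.2.2)))

def ck2 (r s : ℕ) : Bool := s == r || s == (11 - r) || (List.range 4).all fun t => (List.range 4).all fun u =>
  eqw [(s, u), (r, t)] ((r, t) :: (s, u) :: cw r s t u)

def ckr (r s : ℕ) : Bool := (chevG2.commTerms r s).all fun c => decide (c.1 < 12)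

def nc (r t : ℕ) : List (ℕ × ℕ) := [(r, t), (11 - r, mulc t t), (r, t)]

def ck3 (r : ℕ) : Bool := (List.range 4).all fun t => (List.range 4).all fun u =>
  t == 0 || u == 0 || eqw ((nc r t ++ nc r 1) ++ (nc r u ++ nc r 1)) (nc r (mulc t u) ++ nc r 1)

def ck1 (r : ℕ) : Bool := eqw [(r, 0)] [] && (List.range 4).all fun t => (List.range 4).all fun u =>
  eqw [(r, t), (r, u)] [(r, t ^^^ u)]

theorem ck1_all : ((List.range 12).all fun r => ck1 r) = true := by decide +kernel
theorem ck3_all : ((List.range 12).all fun r => ck3 r) = true := by decide +kernel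
theorem ckr_all : ((List.range 12).all fun r => (List.range 12).all fun s => ckr r s) = true := by decide +kernel
theorem ckn_all : ((List.range 12).all fun r => Nat.beq (chevG2.neg r) (11 - r)) = true := by decide +kernel
theorem ck2_0 : ((List.range 12).all fun s => ck2 0 s) = true := by decide +kernel
theorem ck2_1 : ((List.range 12).all fun s => ck2 1 s) = true := by decide +kernel
theorem ck2_2 : ((List.range 12).all fun s => ck2 2 s) = true := by decide +kernel
theorem ck2_3 : ((List.range 12).all fun s => ck2 3 s) = true := by decide +kernel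
theorem ck2_4 : ((List.range 12).all fun s => ck2 4 s) = true := by decide +kernel
theorem ck2_5 : ((List.range 12).all fun s => ck2 5 s) = true := by decide +kernel
theorem ck2_6 : ((List.range 12).all fun s => ck2 6 s) = true := by decide +kernel
theorem ck2_7 : ((List.range 12).all fun s => ck2 7 s) = true := by decide +kernel
theorem ck2_8 : ((List.range 12).all fun s => ck2 8 s) = true := by decide +kernel
theorem ck2_9 : ((List.range 12).all fun s => ck2 9 s) = true := by decide +kernel
theorem ck2_10 : ((List.range 12).all fun s => ck2 10 s) = true := by decide +kernel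
theorem ck2_11 : ((List.range 12).all fun s => ck2 11 s) = true := by decide +kernel

theorem all_range {n : ℕ} {f : ℕ → Bool} (h : (List.range n).all f = true) {r : ℕ} (hr : r < n) : f r = true :=
  List.all_eq_true.1 h r (List.mem_range.2 hr)

theorem ck2_all {r s : ℕ} (hr : r < 12) (hs : s < 12) : ck2 r s = true := by
  interval_cases r
  · exact all_range ck2_0 hs
  · exact all_range ck2_1 hs
  · exact all_range ck2_2 hs
  · exact all_range ck2_3 hs
  · exact all_range ck2_4 hs
  · exact all_range ck2_5 hs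
  · exact all_range ck2_6 hs
  · exact all_range ck2_7 hs
  · exact all_range ck2_8 hs
  · exact all_range ck2_9 hs
  · exact all_range ck2_10 hs
  · exact all_range ck2_11 hs


/-! further words -/

/-- sum over the powers of a word applied to a basis vector. -/
def psum (w : List (ℕ × ℕ)) (v : ℕ) : ℕ → ℕ
  | 0 => 0
  | n + 1 => v ^^^ psum w (run w v) n

def ckp (w : List (ℕ × ℕ)) (n : ℕ) : Bool := (List.range 6).all fun b => Nat.beq (psum w (1 <<< (2 * b)) n) 0

def w7 : List (ℕ × ℕ) := [(4, 1), (5, 1), (7, 1), (6, 1)]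
def w13 : List (ℕ × ℕ) := [(4, 1), (5, 1), (7, 2), (6, 3)]
def w3 : List (ℕ × ℕ) := [(7, 1), (4, 1)]
def w5 : List (ℕ × ℕ) := [(7, 1), (4, 2)]
def w2 : List (ℕ × ℕ) := [(11, 1)]

theorem ck7 : ckp w7 7 = true := by decide +kernel
theorem ck13 : ckp w13 13 = true := by decide +kernel
theorem ckw3 : eqw (w3 ++ w3 ++ w3) [] = true := by decide +kernel
theorem ckw5 : eqw (w5 ++ w5 ++ w5 ++ w5 ++ w5) [] = true := by decide +kernel
theorem ckw2 : eqw (w2 ++ w2) [] = true := by decide +kernel
theorem ckc3 : eqw (w2 ++ w3) (w3 ++ w2) = true := by decide +kernel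
theorem ckc5 : eqw (w2 ++ w5) (w5 ++ w2) = true := by decide +kernel
theorem nw3 : run w3 1 ≠ 1 := by decide +kernel
theorem nw5 : run w5 4 ≠ 4 ∨ run w5 1 ≠ 1 := by decide +kernel
theorem nw2 : run w2 (1 <<< 8) ≠ 1 <<< 8 := by decide +kernel

end Cfsg.Agent.H15.G2R
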