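import Mathlib
import Cfsg.Agent.H15_FM1

set_option autoImplicit false
open Module Matrix

namespace Cfsg.Agent.H15.TR

variable {F : Type*} [Field F]

/-- linearly independent families are conjugate -/
theorem exists_equiv_li {V : Type*} [AddCommGroup V] [Module F V] [Module.Finite F V] {ι : Type*} [Finite ι] (v w : ι → V) (hv : LinearIndependent F v) (hw : LinearIndependent F w) :
    ∃ e : V ≃ₗ[F] V, ∀ i, e (v i) = w i := by
  classical
  haveI := Fintype.ofFinite ι
  obtain ⟨p', hp⟩ := Submodule.exists_isCompl (Submodule.span F (Set.range v))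
  obtain ⟨q', hq⟩ := Submodule.exists_isCompl (Submodule.span F (Set.range w))
  let e1 : Submodule.span F (Set.range v) ≃ₗ[F] Submodule.span F (Set.range w) := (Basis.span hv).equiv (Basis.span hw) (Equiv.refl ι)
  have h1 := Submodule.finrank_add_eq_of_isCompl hp
  have h2 := Submodule.finrank_add_eq_of_isCompl hq
  rw [finrank_span_eq_card hv] at h1
  rw [finrank_span_eq_card hw] at h2
  obtain ⟨E, hE⟩ := Cfsg.Agent.H15.FM.glue' hp hq e1 (LinearEquiv.ofFinrankEq p' q' (by omega))
  refine ⟨E, fun i => ?_⟩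
  have h3 := hE (Basis.span hv i) 0
  rw [Submodule.coe_zero, add_zero, map_zero, Submodule.coe_zero, add_zero, Basis.equiv_apply, Equiv.refl_apply] at h3
  rw [Basis.span_apply, Basis.span_apply] at h3
  exact h3

/-- `SL_n` is transitive on linearly independent `k`-tuples, `k < n` -/
theorem exists_sl {n : ℕ} {ι : Type*} [Fintype ι] (hk : Fintype.card ι < n) (v w : ι → (Fin n → F)) (hv : LinearIndependent F v) (hw : LinearIndependent F w) :
    ∃ g : Matrix.SpecialLinearGroup (Fin n) F, ∀ i, (g : Matrix (Fin n) (Fin n) F) *ᵥ v i = w i := by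
  obtain ⟨e, he⟩ := exists_equiv_li v w hv hw
  have hd : LinearMap.det (e : (Fin n → F) →ₗ[F] (Fin n → F)) ≠ 0 := (LinearEquiv.isUnit_det' e).ne_zero
  have hne : Submodule.span F (Set.range w) ≠ ⊤ := by
    intro h
    have := finrank_span_eq_card hw
    rw [h, finrank_top, finrank_fin_fun] at this
    omega
  obtain ⟨u, hu⟩ : ∃ u, u ∉ Submodule.span F (Set.range w) := by
    by_contra hcon
    push Not at hcon
    exact hne (eq_top_iff.mpr (fun x _ => hcon x))
  obtain ⟨f0, hf0, hf0'⟩ := Submodule.exists_le_ker_of_notMem hu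
  obtain ⟨f, hf1, hf2⟩ : ∃ f : Dual F (Fin n → F), f u = (LinearMap.det (e : (Fin n → F) →ₗ[F] (Fin n → F)))⁻¹ - 1 ∧ ∀ i, f (w i) = 0 := by
    refine ⟨(((LinearMap.det (e : (Fin n → F) →ₗ[F] (Fin n → F)))⁻¹ - 1) * (f0 u)⁻¹) • f0, ?_, ?_⟩
    · rw [LinearMap.smul_apply, smul_eq_mul, mul_assoc, inv_mul_cancel₀ hf0, mul_one]
    · intro i
      rw [LinearMap.smul_apply, hf0' (Submodule.subset_span ⟨i, rfl⟩), smul_zero]
  have hdet : LinearMap.det ((LinearMap.transvection f u) ∘ₗ (e : (Fin n → F) →ₗ[F] (Fin n → F))) = 1 := by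
    rw [LinearMap.det_comp, LinearMap.transvection.det, hf1, add_sub_cancel, inv_mul_cancel₀ hd]
  refine ⟨⟨LinearMap.toMatrix' ((LinearMap.transvection f u) ∘ₗ (e : (Fin n → F) →ₗ[F] (Fin n → F))), by rw [LinearMap.det_toMatrix', hdet]⟩, fun i => ?_⟩
  change LinearMap.toMatrix' _ *ᵥ v i = w i
  rw [LinearMap.toMatrix'_mulVec, LinearMap.comp_apply]
  change LinearMap.transvection f u (e (v i)) = w i
  rw [he, LinearMap.transvection.apply, hf2, zero_smul, add_zero]

end Cfsg.Agent.H15.TR
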