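import Mathlib
import Cfsg.Agent.H15_TR1

set_option autoImplicit false
set_option linter.all false
open Module Matrix

namespace Cfsg.Agent.H15.PRD

variable {F : Type*} [Field F]

theorem exists_dual {n : ℕ} {ι : Type*} [Fintype ι] (v : ι → (Fin n → F)) (hv : LinearIndependent F v) (c : ι → F) :
    ∃ φ : Fin n → F, ∀ i, φ ⬝ᵥ v i = c i := by
  classical
  obtain ⟨f, hf⟩ := LinearMap.exists_extend ((Basis.span hv).constr F c)
  refine ⟨fun i => f (Pi.single i 1), fun i => ?_⟩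
  have h1 : f (v i) = c i := by
    have h2 := LinearMap.congr_fun hf (Basis.span hv i)
    rw [Basis.constr_basis, LinearMap.comp_apply, Submodule.subtype_apply, Basis.span_apply] at h2
    exact h2
  rw [← h1]
  conv_rhs => rw [← Finset.univ_sum_single (v i)]
  rw [map_sum]
  unfold dotProduct
  refine Finset.sum_congr rfl (fun j _ => ?_)
  have : (Pi.single j (v i j) : Fin n → F) = v i j • Pi.single j 1 := by
    rw [← Pi.single_smul, smul_eq_mul, mul_one]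
  rw [this, map_smul, smul_eq_mul, mul_comm]

theorem trace_vm {n : ℕ} (x φ : Fin n → F) (M : Matrix (Fin n) (Fin n) F) : trace (vecMulVec x φ * M) = φ ⬝ᵥ (M *ᵥ x) := by
  rw [vecMulVec_mul, trace_vecMulVec, dotProduct_comm, Matrix.dotProduct_mulVec]

theorem sq_vm {n : ℕ} (x φ : Fin n → F) (h : φ ⬝ᵥ x = 0) : vecMulVec x φ * vecMulVec x φ = 0 := by
  rw [vecMulVec_mul_vecMulVec, h, zero_smul]; ext; simp [vecMulVec_apply]

/-- the transvection attached to x, φ -/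
noncomputable def tv {n : ℕ} (x φ : Fin n → F) (h : φ ⬝ᵥ x = 0) : Matrix.SpecialLinearGroup (Fin n) F :=
  ⟨1 + vecMulVec x φ, by
    rw [vecMulVec_eq Unit, det_one_add_replicateCol_mul_replicateRow, h, add_zero]⟩

theorem tv_inv {n : ℕ} (x φ : Fin n → F) (h : φ ⬝ᵥ x = 0) : (((tv x φ h)⁻¹ : Matrix.SpecialLinearGroup (Fin n) F) : Matrix (Fin n) (Fin n) F) = 1 - vecMulVec x φ := by
  have h1 : (tv x φ h)⁻¹ = tv x (-φ) (by rw [neg_dotProduct, h, neg_zero]) := by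
    rw [inv_eq_iff_mul_eq_one]
    apply Subtype.ext
    change (1 + vecMulVec x φ) * (1 + vecMulVec x (-φ)) = 1
    rw [vecMulVec_neg, ← sub_eq_add_neg]
    have := sq_vm x φ h
    calc (1 + vecMulVec x φ) * (1 - vecMulVec x φ) = 1 - vecMulVec x φ * vecMulVec x φ := by noncomm_ring
      _ = 1 := by rw [this, sub_zero]
  rw [h1]
  change 1 + vecMulVec x (-φ) = _
  rw [vecMulVec_neg, sub_eq_add_neg]

theorem trace_conj {n : ℕ} (x φ : Fin n → F) (h : φ ⬝ᵥ x = 0) (A B : Matrix (Fin n) (Fin n) F) :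
    trace (((1 : Matrix (Fin n) (Fin n) F) + vecMulVec x φ) * A * (1 - vecMulVec x φ) * B) =
      trace (A * B) + φ ⬝ᵥ ((A * B - B * A) *ᵥ x) - (φ ⬝ᵥ (A *ᵥ x)) * (φ ⬝ᵥ (B *ᵥ x)) := by
  set E := vecMulVec x φ with hE
  have h1 : (1 + E) * A * (1 - E) * B = A * B + E * (A * B) - A * (E * B) - (E * (A * E)) * B := by noncomm_ring
  rw [h1, trace_sub, trace_sub, trace_add]
  have h2 : trace (A * (E * B)) = trace (E * (B * A)) := by
    rw [trace_mul_comm, Matrix.mul_assoc]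
  have h3 : E * (A * E) = (φ ⬝ᵥ (A *ᵥ x)) • E := by
    rw [hE, mul_vecMulVec, vecMulVec_mul_vecMulVec]
    ext i j
    simp [vecMulVec_apply]
    ring
  rw [h2, h3, Matrix.smul_mul, trace_smul, hE, trace_vm, trace_vm, trace_vm, sub_mulVec, dotProduct_sub, smul_eq_mul]
  ring

theorem exists_trace {n : ℕ} (hn : 3 ≤ n) (A B : Matrix.SpecialLinearGroup (Fin n) F) 
    (hA : ∃ x : Fin n → F, LinearIndependent F ![x, (A : Matrix (Fin n) (Fin n) F) *ᵥ x])
    (hB : ∃ x : Fin n → F, LinearIndependent F ![x, (B : Matrix (Fin n) (Fin n) F) *ᵥ x]) (τ : F) :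
    ∃ g : Matrix.SpecialLinearGroup (Fin n) F, trace ((g * A * g⁻¹ * B : Matrix.SpecialLinearGroup (Fin n) F) : Matrix (Fin n) (Fin n) F) = τ := by
  classical
  obtain ⟨y, hy⟩ := hA
  obtain ⟨x, hx⟩ := hB
  -- choose z outside span {x, Bx}
  obtain ⟨z, hz⟩ : ∃ z : Fin n → F, z ∉ Submodule.span F (Set.range ![x, (B : Matrix (Fin n) (Fin n) F) *ᵥ x]) := by
    by_contra hcon
    push Not at hcon
    have h1 : Submodule.span F (Set.range ![x, (B : Matrix (Fin n) (Fin n) F) *ᵥ x]) = ⊤ := eq_top_iff.mpr (fun x _ => hcon x)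
    have := finrank_span_eq_card hx
    rw [h1, finrank_top, finrank_fin_fun, Fintype.card_fin] at this
    omega
  have hxz : LinearIndependent F ![x, z] := by
    have hx0 : x ≠ 0 := hx.ne_zero 0
    rw [LinearIndependent.pair_iff' hx0]
    intro a ha
    apply hz
    rw [← ha]
    exact Submodule.smul_mem _ _ (Submodule.subset_span ⟨0, rfl⟩)
  obtain ⟨h, hh⟩ := TR.exists_sl (by simp; omega) ![y, (A : Matrix (Fin n) (Fin n) F) *ᵥ y] ![x, z] hy hxz
  have hh0 : (h : Matrix (Fin n) (Fin n) F) *ᵥ y = x := hh 0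
  have hh1 : (h : Matrix (Fin n) (Fin n) F) *ᵥ ((A : Matrix (Fin n) (Fin n) F) *ᵥ y) = z := hh 1
  set A' : Matrix.SpecialLinearGroup (Fin n) F := h * A * h⁻¹ with hA'
  have hA'x : (A' : Matrix (Fin n) (Fin n) F) *ᵥ x = z := by
    have h1 : A' * h = h * A := by rw [hA']; group
    have h2 := congrArg (fun M : Matrix.SpecialLinearGroup (Fin n) F => (M : Matrix (Fin n) (Fin n) F) *ᵥ y) h1
    simp only [Matrix.SpecialLinearGroup.coe_mul, ← mulVec_mulVec] at h2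
    rw [hh0, hh1] at h2
    exact h2
  have h3 : LinearIndependent F ![z, x, (B : Matrix (Fin n) (Fin n) F) *ᵥ x] := linearIndependent_finCons.2 ⟨hx, hz⟩
  set c : Fin n → F := ((A' : Matrix (Fin n) (Fin n) F) * (B : Matrix (Fin n) (Fin n) F) - (B : Matrix (Fin n) (Fin n) F) * (A' : Matrix (Fin n) (Fin n) F)) *ᵥ x with hc
  set T := trace ((A' : Matrix (Fin n) (Fin n) F) * (B : Matrix (Fin n) (Fin n) F)) with hT
  -- find φ
  obtain ⟨φ, hφx, hφ⟩ : ∃ φ : Fin n → F, φ ⬝ᵥ x = 0 ∧ T + φ ⬝ᵥ c - (φ ⬝ᵥ z) * (φ ⬝ᵥ ((B : Matrix (Fin n) (Fin n) F) *ᵥ x)) = τ := by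
    by_cases hcs : c ∈ Submodule.span F (Set.range ![z, x, (B : Matrix (Fin n) (Fin n) F) *ᵥ x])
    · obtain ⟨k, hk⟩ := (Submodule.mem_span_range_iff_exists_fun F).1 hcs
      simp only [Fin.sum_univ_three] at hk
      obtain ⟨φ, hφ⟩ := exists_dual _ h3 ![k 2 + 1, 0, T + k 0 * (k 2 + 1) - τ]
      have e0 : φ ⬝ᵥ z = k 2 + 1 := hφ 0
      have e1 : φ ⬝ᵥ x = 0 := hφ 1
      have e2 : φ ⬝ᵥ ((B : Matrix (Fin n) (Fin n) F) *ᵥ x) = T + k 0 * (k 2 + 1) - τ := hφ 2
      refine ⟨φ, e1, ?_⟩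
      have e3 : φ ⬝ᵥ c = k 0 * (k 2 + 1) + k 2 * (T + k 0 * (k 2 + 1) - τ) := by
        rw [← hk, dotProduct_add, dotProduct_add, dotProduct_smul, dotProduct_smul, dotProduct_smul]
        change k 0 • (φ ⬝ᵥ z) + k 1 • (φ ⬝ᵥ x) + k 2 • (φ ⬝ᵥ ((B : Matrix (Fin n) (Fin n) F) *ᵥ x)) = _
        rw [e0, e1, e2]; simp only [smul_eq_mul]; ring
      rw [e3, e0, e2]; ring
    · obtain ⟨φ, hφ⟩ := exists_dual _ (linearIndependent_finCons.2 ⟨h3, hcs⟩) ![τ - T, 0, 0, 0]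
      have e0 : φ ⬝ᵥ c = τ - T := hφ 0
      have e1 : φ ⬝ᵥ z = 0 := hφ 1
      have e2 : φ ⬝ᵥ x = 0 := hφ 2
      refine ⟨φ, e2, ?_⟩
      rw [e0, e1]; ring
  refine ⟨tv x φ hφx * h, ?_⟩
  have h4 : tv x φ hφx * h * A * (tv x φ hφx * h)⁻¹ * B = tv x φ hφx * A' * (tv x φ hφx)⁻¹ * B := by rw [hA']; group
  rw [h4]
  simp only [Matrix.SpecialLinearGroup.coe_mul]
  rw [tv_inv]
  change trace (((1 : Matrix (Fin n) (Fin n) F) + vecMulVec x φ) * (A' : Matrix (Fin n) (Fin n) F) * (1 - vecMulVec x φ) * (B : Matrix (Fin n) (Fin n) F)) = _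
  rw [trace_conj x φ hφx, hA'x]
  exact hφ

theorem exists_li {n : ℕ} (A : Matrix.SpecialLinearGroup (Fin n) F) (hA : A ∉ Subgroup.center (Matrix.SpecialLinearGroup (Fin n) F)) :
    ∃ x : Fin n → F, LinearIndependent F ![x, (A : Matrix (Fin n) (Fin n) F) *ᵥ x] := by
  classical
  by_contra hcon
  push Not at hcon
  obtain ⟨a, ha⟩ := LinearMap.exists_eq_smul_id_of_forall_notLinearIndependent (f := Matrix.toLin' (A : Matrix (Fin n) (Fin n) F)) (fun v => by
    rw [Matrix.toLin'_apply]; exact hcon v)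
  apply hA
  rw [Matrix.SpecialLinearGroup.mem_center_iff]
  have h1 : (A : Matrix (Fin n) (Fin n) F) = scalar (Fin n) a := by
    have := congrArg LinearMap.toMatrix' ha
    rw [LinearMap.toMatrix'_toLin', map_smul, LinearMap.toMatrix'_one] at this
    rw [this]; ext i j; simp [Matrix.scalar_apply, Matrix.one_apply, Matrix.diagonal_apply]
  refine ⟨a, ?_, h1.symm⟩
  have h2 := A.det_coe
  rw [h1] at h2
  simpa using h2

theorem main [Fintype F] (d : ℕ) (hd : 3 ≤ d)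
    (a b : Matrix.ProjectiveSpecialLinearGroup (Fin d) F) (ha : a ≠ 1) (hb : b ≠ 1) :
    ∃ g h : Matrix.ProjectiveSpecialLinearGroup (Fin d) F, ¬ IsConj (a * b) (g * a * g⁻¹ * (h * b * h⁻¹)) := by
  classical
  obtain ⟨A, rfl⟩ := QuotientGroup.mk_surjective a
  obtain ⟨B, rfl⟩ := QuotientGroup.mk_surjective b
  have hA := exists_li A (fun h => ha ((QuotientGroup.eq_one_iff _).2 h))
  have hB := exists_li B (fun h => hb ((QuotientGroup.eq_one_iff _).2 h))
  by_contra hcon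
  push Not at hcon
  have key : ∀ g : Matrix.SpecialLinearGroup (Fin d) F, ∃ r : F, r ≠ 0 ∧ trace ((g * A * g⁻¹ * B : Matrix.SpecialLinearGroup (Fin d) F) : Matrix (Fin d) (Fin d) F) = r * trace ((A * B : Matrix.SpecialLinearGroup (Fin d) F) : Matrix (Fin d) (Fin d) F) := by
    intro g
    have h1 := hcon (QuotientGroup.mk g) 1
    rw [one_mul, inv_one, mul_one] at h1
    obtain ⟨c, hc⟩ := isConj_iff.1 h1
    obtain ⟨C, rfl⟩ := QuotientGroup.mk_surjective c
    have h2 : ((C * (A * B) * C⁻¹ : Matrix.SpecialLinearGroup (Fin d) F) : Matrix.ProjectiveSpecialLinearGroup (Fin d) F) = ((g * A * g⁻¹ * B : Matrix.SpecialLinearGroup (Fin d) F) : Matrix.ProjectiveSpecialLinearGroup (Fin d) F) := hc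
    rw [QuotientGroup.eq, Matrix.SpecialLinearGroup.mem_center_iff] at h2
    obtain ⟨r, hr1, hr2⟩ := h2
    have hr0 : r ≠ 0 := by
      rintro rfl
      rw [zero_pow (by rw [Fintype.card_fin]; omega)] at hr1
      exact zero_ne_one hr1
    refine ⟨r, hr0, ?_⟩
    have h3 : (g * A * g⁻¹ * B : Matrix.SpecialLinearGroup (Fin d) F) = (C * (A * B) * C⁻¹) * ((C * (A * B) * C⁻¹)⁻¹ * (g * A * g⁻¹ * B)) := by group
    rw [h3, Matrix.SpecialLinearGroup.coe_mul, ← hr2]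
    have h4 : ((C * (A * B) * C⁻¹ : Matrix.SpecialLinearGroup (Fin d) F) : Matrix (Fin d) (Fin d) F) * scalar (Fin d) r = r • ((C * (A * B) * C⁻¹ : Matrix.SpecialLinearGroup (Fin d) F) : Matrix (Fin d) (Fin d) F) := by
      ext i j; simp [Matrix.scalar_apply, Matrix.mul_diagonal, mul_comm]
    rw [h4, trace_smul, smul_eq_mul]
    congr 1
    rw [Matrix.SpecialLinearGroup.coe_mul, Matrix.SpecialLinearGroup.coe_mul, trace_mul_comm, ← Matrix.mul_assoc, ← Matrix.SpecialLinearGroup.coe_mul, inv_mul_cancel,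
      Matrix.SpecialLinearGroup.coe_one, one_mul]
  obtain ⟨g0, hg0⟩ := exists_trace hd A B hA hB 0
  obtain ⟨g1, hg1⟩ := exists_trace hd A B hA hB 1
  obtain ⟨r0, hr0, h0⟩ := key g0
  obtain ⟨r1, hr1, h1⟩ := key g1
  rw [hg0] at h0
  rw [hg1] at h1
  have : trace ((A * B : Matrix.SpecialLinearGroup (Fin d) F) : Matrix (Fin d) (Fin d) F) = 0 := by
    rcases mul_eq_zero.1 h0.symm with h | h
    · exact absurd h hr0
    · exact h
  rw [this, mul_zero] at h1
  exact one_ne_zero h1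

end Cfsg.Agent.H15.PRD
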