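import Mathlib
import Cfsg.Agent.H15_TOR7

set_option autoImplicit false
open Matrix Module

namespace Cfsg.Agent.H15.PSL

open Cfsg.Agent.H15.M2 Cfsg.Agent.H15.PS Cfsg.Agent.H15.TOR

variable {F : Type*} [Field F] [Fintype F] [DecidableEq F]

local notation "M₂" => Matrix (Fin 2) (Fin 2) F
local notation "SL₂" => Matrix.SpecialLinearGroup (Fin 2) F
local notation "PL" => Matrix.ProjectiveSpecialLinearGroup (Fin 2) F

/-- the projection -/
def pr (F : Type*) [Field F] : Matrix.SpecialLinearGroup (Fin 2) F →* Matrix.ProjectiveSpecialLinearGroup (Fin 2) F :=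
  QuotientGroup.mk' _

theorem pr_surj (g : PL) : ∃ A : SL₂, pr F A = g := QuotientGroup.mk'_surjective _ g

theorem pr_eq_one {A : SL₂} : pr F A = 1 ↔ ¬ NS (A : M₂) := by
  rw [pr, QuotientGroup.mk'_apply, QuotientGroup.eq_one_iff, center_iff]

theorem sc_conj_comm (e : F) (he : e * e = 1) (A : SL₂) : A * sc e he = sc e he * A := by
  apply Subtype.ext
  show (A : M₂) * (sc e he : M₂) = (sc e he : M₂) * (A : M₂)
  rw [sc_coe, Matrix.mul_smul, Matrix.smul_mul, Matrix.mul_one, Matrix.one_mul]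

theorem pr_sc (e : F) (he : e * e = 1) : pr F (sc e he) = 1 := pr_eq_one.mpr (not_NS_sc e he)

theorem pr_eq {A B : SL₂} (h : pr F A = pr F B) : ∃ (e : F) (he : e * e = 1), A = B * sc e he := by
  have h1 : pr F (B⁻¹ * A) = 1 := by rw [map_mul, map_inv, h, inv_mul_cancel]
  obtain ⟨e, he, h2⟩ := eq_sc_of_not_NS (pr_eq_one.mp h1)
  exact ⟨e, he, by rw [← h2, mul_inv_cancel_left]⟩

theorem trace_mul_sc (A : SL₂) (e : F) (he : e * e = 1) : ((A * sc e he : SL₂) : M₂).trace = e * (A : M₂).trace := by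
  show ((A : M₂) * (sc e he : M₂)).trace = _
  rw [sc_coe, Matrix.mul_smul, Matrix.mul_one, Matrix.trace_smul, smul_eq_mul]

theorem conj_tr {A B : SL₂} (h : IsConj (pr F A) (pr F B)) : (A : M₂).trace ^ 2 = (B : M₂).trace ^ 2 := by
  obtain ⟨x, hx⟩ := isConj_iff.mp h
  obtain ⟨X, rfl⟩ := pr_surj x
  rw [← map_mul, ← map_inv, ← map_mul] at hx
  obtain ⟨e, he, h1⟩ := pr_eq hx
  have h2 : (A : M₂).trace = (X * A * X⁻¹ : SL₂).1.trace := conj_trace (isConj_iff.mpr ⟨X, rfl⟩)
  rw [h2, h1, trace_mul_sc, mul_pow, sq e, he, one_mul]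

/-- conjugate with nonzero lower left entry -/
theorem exists_low {A : SL₂} (hA : NS (A : M₂)) : ∃ x : SL₂, ((x * A * x⁻¹ : SL₂) : M₂) 1 0 ≠ 0 := by
  obtain ⟨v, hv⟩ := exists_Q hA
  have hv0 : v ≠ 0 := by
    rintro rfl
    apply hv
    simp [Q]
  obtain ⟨y, hy⟩ : ∃ y : SL₂, (y : M₂) *ᵥ ![1, 0] = v := by
    by_cases h0 : v 0 = 0
    · have h1 : v 1 ≠ 0 := by
        intro h1
        apply hv0
        funext i; fin_cases i <;> assumption
      refine ⟨⟨!![0, -(v 1)⁻¹; v 1, 0], by rw [Matrix.det_fin_two_of]; field_simp; ring⟩, ?_⟩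
      funext i
      fin_cases i <;> simp [Matrix.mulVec, dotProduct, Fin.sum_univ_two, h0]
    · refine ⟨⟨!![v 0, 0; v 1, (v 0)⁻¹], by rw [Matrix.det_fin_two_of]; field_simp; ring⟩, ?_⟩
      funext i
      fin_cases i <;> simp [Matrix.mulVec, dotProduct, Fin.sum_univ_two]
  refine ⟨y⁻¹, ?_⟩
  have h1 : (y : M₂) * ((y⁻¹ * A * y⁻¹⁻¹ : SL₂) : M₂) = (A : M₂) * (y : M₂) := by
    have : y * (y⁻¹ * A * y⁻¹⁻¹) = A * y := by group
    exact congrArg Subtype.val this
  have h2 := Q_conj h1 ![1, 0]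
  rw [hy, y.2, one_mul] at h2
  rw [h2] at hv
  intro h3
  apply hv
  rw [Q, h3]
  simp only [Matrix.cons_val_zero, Matrix.cons_val_one]
  ring

theorem trace_quad (A B : SL₂) (x : F) : ((A * (up 1 x (one_mul 1) * B * (up 1 x (one_mul 1))⁻¹) : SL₂) : M₂).trace =
    -((A : M₂) 1 0 * (B : M₂) 1 0) * x ^ 2 + (((A : M₂) 0 0 - (A : M₂) 1 1) * (B : M₂) 1 0 + (A : M₂) 1 0 * ((B : M₂) 1 1 - (B : M₂) 0 0)) * x +
      ((A : M₂) 0 0 * (B : M₂) 0 0 + (A : M₂) 0 1 * (B : M₂) 1 0 + (A : M₂) 1 0 * (B : M₂) 0 1 + (A : M₂) 1 1 * (B : M₂) 1 1) := by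
  have h1 : (((up 1 x (one_mul 1))⁻¹ : SL₂) : M₂) = !![1, -x; 0, 1] := by
    rw [Matrix.SpecialLinearGroup.coe_inv, up, Matrix.adjugate_fin_two_of, neg_zero]
  have h2 : ((up 1 x (one_mul 1) : SL₂) : M₂) = !![1, x; 0, 1] := rfl
  show ((A : M₂) * ((up 1 x (one_mul 1) : SL₂) * (B : M₂) * (((up 1 x (one_mul 1))⁻¹ : SL₂) : M₂))).trace = _
  rw [h1, h2, Matrix.trace_fin_two]
  simp only [Matrix.mul_apply, Fin.sum_univ_two, Matrix.of_apply, Matrix.cons_val', Matrix.cons_val_zero, Matrix.cons_val_one,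
    Matrix.cons_val_fin_one]
  ring

theorem two_classes (h4 : 4 ≤ Fintype.card F) {A B : SL₂} (hA : NS (A : M₂)) (hB : NS (B : M₂)) (τ : F)
    (h : ∀ u v : SL₂, (((u * A * u⁻¹) * (v * B * v⁻¹) : SL₂) : M₂).trace ^ 2 = τ) : False := by
  obtain ⟨x, hx⟩ := exists_low hA
  obtain ⟨y, hy⟩ := exists_low hB
  set A' := x * A * x⁻¹ with hA'
  set B' := y * B * y⁻¹ with hB'
  have key : ∀ t : F, ((A' * (up 1 t (one_mul 1) * B' * (up 1 t (one_mul 1))⁻¹) : SL₂) : M₂).trace ^ 2 = τ := by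
    intro t
    rw [← h x (up 1 t (one_mul 1) * y)]
    congr 4
    rw [hB']; group
  simp only [trace_quad] at key
  set α := -((A' : M₂) 1 0 * (B' : M₂) 1 0) with hα
  set β := (((A' : M₂) 0 0 - (A' : M₂) 1 1) * (B' : M₂) 1 0 + (A' : M₂) 1 0 * ((B' : M₂) 1 1 - (B' : M₂) 0 0)) with hβ
  set γ := ((A' : M₂) 0 0 * (B' : M₂) 0 0 + (A' : M₂) 0 1 * (B' : M₂) 1 0 + (A' : M₂) 1 0 * (B' : M₂) 0 1 + (A' : M₂) 1 1 * (B' : M₂) 1 1) with hγ
  have hα0 : α ≠ 0 := neg_ne_zero.mpr (mul_ne_zero hx hy)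
  by_cases h2 : (2 : F) = 0
  · -- characteristic two
    have hsq : ∀ s t : F, s ^ 2 = t ^ 2 → s = t := by
      intro s t hst
      rcases sq_eq_sq_iff_eq_or_eq_neg.mp hst with h3 | h3
      · exact h3
      · rw [h3]
        have : (2 : F) * t = 0 := by rw [h2, zero_mul]
        linear_combination -this
    have h5 : ∀ t : F, α * t ^ 2 + β * t = 0 := by
      intro t
      have h6 := hsq _ _ ((key t).trans (key 0).symm)
      linear_combination h6
    have h6 := h5 1
    have hc : ∃ t : F, t ≠ 0 ∧ t ≠ 1 := by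
      by_contra hcon
      push Not at hcon
      have h7 : (Finset.univ : Finset F) ⊆ {0, 1} := by
        intro t _
        by_cases ht : t = 0
        · simp [ht]
        · simp [hcon t ht]
      have h8 := Finset.card_le_card h7
      rw [Finset.card_univ] at h8
      have := Finset.card_le_two (a := (0 : F)) (b := 1)
      omega
    obtain ⟨t, ht0, ht1⟩ := hc
    have h7 := h5 t
    have h8 : α * (t * (t - 1)) = 0 := by linear_combination h7 - t * h6
    rcases mul_eq_zero.mp h8 with h9 | h9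
    · exact hα0 h9
    · rcases mul_eq_zero.mp h9 with h10 | h10
      · exact ht0 h10
      · exact ht1 (sub_eq_zero.mp h10)
  · -- odd characteristic
    have h5 : 5 ≤ Fintype.card F := by
      have hodd : Fintype.card F % 2 = 1 := by
        apply FiniteField.odd_card_of_char_ne_two
        intro hc
        apply h2
        have := ringChar.Nat.cast_ringChar (R := F)
        rw [hc] at this
        exact_mod_cast this
      omega
    let P : Polynomial F := (Polynomial.C α * Polynomial.X ^ 2 + Polynomial.C β * Polynomial.X + Polynomial.C γ) ^ 2 - Polynomial.C τ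
    have hdeg : P.natDegree ≤ 4 := by
      apply (Polynomial.natDegree_sub_le _ _).trans
      rw [Polynomial.natDegree_C, max_le_iff]
      refine ⟨?_, by norm_num⟩
      refine (Polynomial.natDegree_pow_le).trans ?_
      have := Polynomial.natDegree_quadratic_le (a := α) (b := β) (c := γ)
      omega
    have hP : P = 0 := by
      apply Polynomial.eq_zero_of_natDegree_lt_card_of_eval_eq_zero P (f := fun t : F => t) Function.injective_id
      · intro t
        simp only [P, Polynomial.eval_sub, Polynomial.eval_pow, Polynomial.eval_add, Polynomial.eval_mul, Polynomial.eval_C, Polynomial.eval_X]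
        exact sub_eq_zero.mpr (key t)
      · omega
    have hco : P.coeff 4 = α ^ 2 := by
      have : P = Polynomial.C (α ^ 2) * Polynomial.X ^ 4 + Polynomial.C (2 * α * β) * Polynomial.X ^ 3 +
          Polynomial.C (β ^ 2 + 2 * α * γ) * Polynomial.X ^ 2 + Polynomial.C (2 * β * γ) * Polynomial.X + Polynomial.C (γ ^ 2 - τ) := by
        simp only [P, map_pow, map_mul, map_add, map_sub, map_ofNat]
        ring
      rw [this]
      simp only [Polynomial.coeff_add, Polynomial.coeff_C_mul, Polynomial.coeff_X_pow, Polynomial.coeff_X, Polynomial.coeff_C]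
      norm_num
    rw [hP] at hco
    exact hα0 (pow_eq_zero_iff (by norm_num) |>.mp hco.symm)

theorem s2450 (h4 : 4 ≤ Fintype.card F) (a b : PL) (ha : a ≠ 1) (hb : b ≠ 1) (c : PL) :
    {g : PL | ∃ u v : PL, g = (u * a * u⁻¹) * (v * b * v⁻¹)} ≠ {g | IsConj c g} := by
  intro heq
  obtain ⟨A, rfl⟩ := pr_surj a
  obtain ⟨B, rfl⟩ := pr_surj b
  obtain ⟨C, rfl⟩ := pr_surj c
  have hA : NS (A : M₂) := by
    by_contra h; exact ha (pr_eq_one.mpr h)
  have hB : NS (B : M₂) := by
    by_contra h; exact hb (pr_eq_one.mpr h)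
  apply two_classes h4 hA hB ((C : M₂).trace ^ 2)
  intro u v
  have h1 : pr F ((u * A * u⁻¹) * (v * B * v⁻¹)) ∈ {g | IsConj (pr F C) g} := by
    rw [← heq]
    refine ⟨pr F u, pr F v, ?_⟩
    simp only [map_mul, map_inv]
  exact (conj_tr h1).symm

/-! ### squares of classes -/

/-- being a product of two conjugates of `x` -/
def PT {G : Type*} [Group G] (x g : G) : Prop := ∃ u v : G, g = (u * x * u⁻¹) * (v * x * v⁻¹)

theorem PT.conj {G : Type*} [Group G] {x g h : G} (hg : PT x g) (hc : IsConj g h) : PT x h := by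
  obtain ⟨u, v, rfl⟩ := hg
  obtain ⟨c, rfl⟩ := isConj_iff.mp hc
  exact ⟨c * u, c * v, by group⟩

theorem PT_of {A C D : SL₂} (h1 : IsConj A D) {e : F} (he : e * e = 1) (h2 : IsConj A (D⁻¹ * C * sc e he)) : PT (pr F A) (pr F C) := by
  obtain ⟨u, hu⟩ := isConj_iff.mp h1
  obtain ⟨v, hv⟩ := isConj_iff.mp h2
  refine ⟨pr F u, pr F v, ?_⟩
  rw [← map_inv, ← map_inv, ← map_mul, ← map_mul, ← map_mul, ← map_mul, ← map_mul, hu, hv]
  have : D * (D⁻¹ * C * sc e he) = C * sc e he := by group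
  rw [this, map_mul, pr_sc, mul_one]

theorem inv_val' (A : SL₂) : ((A⁻¹ : SL₂) : M₂) = !![(A : M₂) 1 1, -(A : M₂) 0 1; -(A : M₂) 1 0, (A : M₂) 0 0] := by
  rw [Matrix.SpecialLinearGroup.coe_inv, Matrix.adjugate_fin_two]

theorem trace_inv_mul (A C : SL₂) : ((A⁻¹ * C : SL₂) : M₂).trace = (A : M₂) 1 1 * (C : M₂) 0 0 - (A : M₂) 0 1 * (C : M₂) 1 0
    - (A : M₂) 1 0 * (C : M₂) 0 1 + (A : M₂) 0 0 * (C : M₂) 1 1 := by
  show (((A⁻¹ : SL₂) : M₂) * (C : M₂)).trace = _
  rw [inv_val', Matrix.trace_fin_two]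
  simp [Matrix.mul_apply, Fin.sum_univ_two]
  ring

theorem odd_cover (h2 : (2 : F) ≠ 0) {A : SL₂} (hd : (A : M₂).trace ^ 2 ≠ 4) (h0 : (A : M₂).trace ≠ 0) {C : SL₂} (hC : NS (C : M₂)) :
    PT (pr F A) (pr F C) := by
  set τ := (A : M₂).trace with hτ
  -- sufficient condition
  have suff : ∀ (C D : SL₂) (e : F) (he : e * e = 1), (D : M₂).trace = τ → e * ((D⁻¹ * C : SL₂) : M₂).trace = τ → PT (pr F A) (pr F C) := by
    intro C D e he h3 h4
    apply PT_of (D := D) (sl_conj_of_disc h2 h3.symm hd) he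
    apply sl_conj_of_disc h2 _ hd
    rw [trace_mul_sc]; exact h4.symm
  by_cases hC4 : (C : M₂).trace ^ 2 = 4
  · -- unipotent up to sign
    obtain ⟨e, he, b, hb, hc⟩ : ∃ (e : F) (he : e * e = 1) (b : F), b ≠ 0 ∧ IsConj C (up e b he) := by
      rcases cases_SL C with ⟨e, he, rfl⟩ | h | ⟨a, ha, hc⟩ | hE
      · exact absurd hC (not_NS_sc e he)
      · exact h
      · exfalso
        rw [conj_trace hc] at hC4
        exact utS_disc ha 0 hC4
      · exact absurd hC4 (ell_disc h2 hE)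
    have hc' : IsConj (up e b he) C := hc.symm
    have h3 : IsConj (pr F (up e b he)) (pr F C) := by
      obtain ⟨x, hx⟩ := isConj_iff.mp hc'
      exact isConj_iff.mpr ⟨pr F x, by rw [← map_inv, ← map_mul, ← map_mul, hx]⟩
    apply PT.conj _ h3
    -- explicit element
    let D : SL₂ := ⟨!![0, -(2 * e * τ / b)⁻¹; 2 * e * τ / b, τ], by
      have he0 : e ≠ 0 := left_ne_zero_of_mul_eq_one he
      rw [Matrix.det_fin_two_of]
      field_simp
      ring⟩
    have hD0 : (D : M₂) 0 0 = 0 := rfl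
    have hD1 : (D : M₂) 0 1 = -(2 * e * τ / b)⁻¹ := rfl
    have hD2 : (D : M₂) 1 0 = 2 * e * τ / b := rfl
    have hD3 : (D : M₂) 1 1 = τ := rfl
    apply suff (up e b he) D (-e) (by rw [neg_mul_neg]; exact he)
    · rw [Matrix.trace_fin_two, hD0, hD3, zero_add]
    · rw [trace_inv_mul, hD0, hD1, hD2, hD3]
      simp only [up, Matrix.of_apply, Matrix.cons_val', Matrix.cons_val_zero, Matrix.cons_val_one, Matrix.cons_val_fin_one]
      have h5 : 2 * e * τ / b * b = 2 * e * τ := div_mul_cancel₀ _ hb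
      linear_combination e * h5 + τ * he
  · -- generic element
    set γ := (C : M₂).trace with hγ
    have hg2 : γ + 2 ≠ 0 := by
      intro h; apply hC4
      linear_combination (γ - 2) * h
    have hcm : IsConj (cmS γ) C := (sl_conj_of_disc h2 (by rw [trace_cmS]) hC4).symm
    have h3 : IsConj (pr F (cmS γ)) (pr F C) := by
      obtain ⟨x, hx⟩ := isConj_iff.mp hcm
      exact isConj_iff.mpr ⟨pr F x, by rw [← map_inv, ← map_mul, ← map_mul, hx]⟩
    apply PT.conj _ h3
    obtain ⟨w, hw⟩ := universal_odd h2 (g := cm (-γ) 1) (by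
      rw [cm, Matrix.trace_fin_two_of, Matrix.det_fin_two_of]
      intro h; apply hC4; linear_combination h) (c := τ ^ 2 / (γ + 2) - 1)
    have hw' : w 0 ^ 2 - γ * w 0 * w 1 + w 1 ^ 2 = τ ^ 2 / (γ + 2) - 1 := by
      rw [← hw, Q, cm]
      simp only [Matrix.of_apply, Matrix.cons_val', Matrix.cons_val_zero, Matrix.cons_val_one, Matrix.cons_val_fin_one]
      ring
    obtain ⟨a, b, hab⟩ : ∃ a b : F, a ^ 2 + b ^ 2 - γ * a * b - τ * a + τ * b + 1 = 0 := by
      refine ⟨τ / (γ + 2) + w 0, -(τ / (γ + 2)) + w 1, ?_⟩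
      have : w 0 ^ 2 = γ * w 0 * w 1 - w 1 ^ 2 + (τ ^ 2 / (γ + 2) - 1) := by linear_combination hw'
      field_simp at this ⊢
      linear_combination (γ + 2) * this
    let D : SL₂ := ⟨!![a, b; τ + b - a * γ, τ - a], by
      rw [Matrix.det_fin_two_of]
      linear_combination -hab⟩
    have hD0 : (D : M₂) 0 0 = a := rfl
    have hD1 : (D : M₂) 0 1 = b := rfl
    have hD2 : (D : M₂) 1 0 = τ + b - a * γ := rfl
    have hD3 : (D : M₂) 1 1 = τ - a := rfl
    apply suff (cmS γ) D 1 (one_mul 1)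
    · rw [Matrix.trace_fin_two, hD0, hD3]; ring
    · rw [trace_inv_mul, hD0, hD1, hD2, hD3]
      simp only [cmS, cm, Matrix.of_apply, Matrix.cons_val', Matrix.cons_val_zero, Matrix.cons_val_one, Matrix.cons_val_fin_one]
      ring

theorem even_cover (h2 : (2 : F) = 0) {a : Fˣ} (ha : a * a ≠ 1) {A : SL₂} (hA : IsConj A (utS a 0)) {C : SL₂} (hC : NS (C : M₂)) :
    PT (pr F A) (pr F C) := by
  set τ := (A : M₂).trace with hτ
  have hneg : ∀ z : F, -z = z := fun z => by
    have : 2 * z = 0 := by rw [h2, zero_mul]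
    linear_combination -this
  have hτa : τ = (a : F) + ((a⁻¹ : Fˣ) : F) := by rw [hτ, conj_trace hA, trace_utS]
  have hτ0 : τ ≠ 0 := by
    intro h
    have h3 := utS_disc ha (0 : F)
    rw [trace_utS, ← hτa, h] at h3
    apply h3
    have : (4 : F) = 2 * 2 := by norm_num
    rw [this, h2]; ring
  have hns : ∀ D : SL₂, (D : M₂).trace = τ → NS (D : M₂) := by
    intro D hD
    apply NS_of_disc
    rw [hD]
    have : (4 : F) = 2 * 2 := by norm_num
    rw [this, h2, mul_zero]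
    exact pow_ne_zero 2 hτ0
  have suff : ∀ (C D : SL₂), (D : M₂).trace = τ → ((D⁻¹ * C : SL₂) : M₂).trace = τ → PT (pr F A) (pr F C) := by
    intro C D h3 h4
    have h5 : D⁻¹ * C * sc 1 (one_mul 1) = D⁻¹ * C := by
      have : sc (1 : F) (one_mul 1) = 1 := by
        apply Subtype.ext
        rw [sc_coe, one_smul]; rfl
      rw [this, mul_one]
    apply PT_of (D := D) (sl_conj_even h2 (hns A rfl) (hns D h3) h3.symm) (one_mul 1)
    rw [h5]
    exact sl_conj_even h2 (hns A rfl) (hns _ h4) h4.symm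
  set γ := (C : M₂).trace with hγ
  have hcm : IsConj (cmS γ) C := sl_conj_even h2 (NS_cmS γ) hC (by rw [trace_cmS])
  by_cases hγ0 : γ = 0
  · have hup : IsConj (up 1 1 (one_mul 1)) C := by
      apply sl_conj_even h2 (NS_up 1 (one_mul 1) one_ne_zero) hC
      rw [trace_up, mul_one, h2, ← hγ, hγ0]
    have h3 : IsConj (pr F (up 1 1 (one_mul 1))) (pr F C) := by
      obtain ⟨x, hx⟩ := isConj_iff.mp hup
      exact isConj_iff.mpr ⟨pr F x, by rw [← map_inv, ← map_mul, ← map_mul, hx]⟩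
    apply PT.conj _ h3
    apply suff _ (utS a 0)
    · rw [trace_utS, hτa]
    · rw [trace_inv_mul]
      simp only [up, utS_coe, Matrix.of_apply, Matrix.cons_val', Matrix.cons_val_zero, Matrix.cons_val_one, Matrix.cons_val_fin_one]
      rw [hτa]; ring
  · have h3 : IsConj (pr F (cmS γ)) (pr F C) := by
      obtain ⟨x, hx⟩ := isConj_iff.mp hcm
      exact isConj_iff.mpr ⟨pr F x, by rw [← map_inv, ← map_mul, ← map_mul, hx]⟩
    apply PT.conj _ h3
    haveI : CharP F 2 := CharTwo.of_one_ne_zero_of_two_eq_zero one_ne_zero h2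
    obtain ⟨s, hs⟩ := FiniteField.isSquare_of_char_two (F := F) (ringChar.eq_iff.mpr inferInstance) (1 + τ * (τ / γ))
    obtain ⟨x, y, hab⟩ : ∃ a b : F, a ^ 2 + b ^ 2 - γ * a * b - τ * a + τ * b + 1 = 0 := by
      refine ⟨τ / γ + s, τ / γ, ?_⟩
      have h5 : γ * (τ / γ) = τ := by field_simp
      have e1 : (τ / γ + s) ^ 2 + (τ / γ) ^ 2 - γ * (τ / γ + s) * (τ / γ) - τ * (τ / γ + s) + τ * (τ / γ) + 1 =
        2 * (τ / γ) ^ 2 + 2 * (τ / γ) * s + s * s - (γ * (τ / γ)) * (τ / γ) - (γ * (τ / γ)) * s - τ * s + 1 := by ring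
      rw [e1, h5, ← hs]
      linear_combination ((τ / γ) ^ 2 + (τ / γ) * s - τ * s + 1) * h2
    let D : SL₂ := ⟨!![x, y; τ + y - x * γ, τ - x], by
      rw [Matrix.det_fin_two_of]
      linear_combination -hab⟩
    have hD0 : (D : M₂) 0 0 = x := rfl
    have hD1 : (D : M₂) 0 1 = y := rfl
    have hD2 : (D : M₂) 1 0 = τ + y - x * γ := rfl
    have hD3 : (D : M₂) 1 1 = τ - x := rfl
    apply suff (cmS γ) D
    · rw [Matrix.trace_fin_two, hD0, hD3]; ring
    · rw [trace_inv_mul, hD0, hD1, hD2, hD3]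
      simp only [cmS, cm, Matrix.of_apply, Matrix.cons_val', Matrix.cons_val_zero, Matrix.cons_val_one, Matrix.cons_val_fin_one]
      ring

/-- `± A` unipotent -/
theorem pow_p_of {p : ℕ} [hp : Fact p.Prime] [CharP F p] {A : SL₂} (h : (A : M₂).trace ^ 2 = 4) : (pr F A) ^ p = 1 := by
  have hsg : ∃ (e : F) (he : e * e = 1), e * (A : M₂).trace = 2 := by
    have h3 : ((A : M₂).trace - 2) * ((A : M₂).trace + 2) = 0 := by linear_combination h
    rcases mul_eq_zero.mp h3 with h4 | h4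
    · exact ⟨1, one_mul 1, by linear_combination h4⟩
    · exact ⟨-1, by ring, by linear_combination -h4⟩
  obtain ⟨e, he, h3⟩ := hsg
  have h4 : ((A * sc e he : SL₂) : M₂).trace = 2 := by rw [trace_mul_sc, h3]
  have h5 : (A * sc e he) ^ p = 1 := by
    apply Subtype.ext
    have := pow_p_eq_one (p := p) (sq_char h4 (A * sc e he).2)
    simpa using this
  have h6 := congrArg (pr F) h5
  rwa [map_pow, map_mul, pr_sc, mul_one, map_one] at h6

theorem s2455 (p : ℕ) [hp : Fact p.Prime] [CharP F p] (hp2 : p ≠ 2) (x : PL) (hx2 : 2 < orderOf x)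
    (hxp : ¬ p ∣ orderOf x) : ∀ g : PL, g ≠ 1 → ∃ u v : PL, g = (u * x * u⁻¹) * (v * x * v⁻¹) := by
  intro g hg
  have h2 : (2 : F) ≠ 0 := by
    intro h
    have h1 := (CharP.cast_eq_zero_iff F p 2).mp (by exact_mod_cast h)
    exact hp2 ((Nat.prime_dvd_prime_iff_eq hp.out Nat.prime_two).mp h1)
  obtain ⟨A, rfl⟩ := pr_surj x
  obtain ⟨C, rfl⟩ := pr_surj g
  have hC : NS (C : M₂) := by
    by_contra h; exact hg (pr_eq_one.mpr h)
  apply odd_cover h2 _ _ hC
  · intro h
    have h3 := orderOf_dvd_of_pow_eq_one (pow_p_of (p := p) h)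
    rcases (Nat.dvd_prime hp.out).mp h3 with h4 | h4
    · omega
    · exact hxp (by rw [h4])
  · intro h
    have h3 : A * A = sc (-1) (by ring) := by
      apply Subtype.ext
      show (A : M₂) * (A : M₂) = _
      have hd := A.2
      rw [Matrix.det_fin_two] at hd
      rw [Matrix.trace_fin_two] at h
      rw [sc]
      ext i j
      fin_cases i <;> fin_cases j <;> simp [Matrix.mul_apply, Fin.sum_univ_two]
      · linear_combination (A : M₂) 0 0 * h - hd
      · linear_combination (A : M₂) 0 1 * h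
      · linear_combination (A : M₂) 1 0 * h
      · linear_combination (A : M₂) 1 1 * h - hd
    have h4 : (pr F A) ^ 2 = 1 := by rw [sq, ← map_mul, h3, pr_sc]
    have h5 := Nat.le_of_dvd (by norm_num) (orderOf_dvd_of_pow_eq_one h4)
    omega

theorem s2456 [CharP F 2] (x : PL) (hx2 : 2 < orderOf x) (hxq : ¬ orderOf x ∣ Fintype.card F + 1) :
    ∀ g : PL, g ≠ 1 → ∃ u v : PL, g = (u * x * u⁻¹) * (v * x * v⁻¹) := by
  intro g hg
  have h2 : (2 : F) = 0 := CharTwo.two_eq_zero
  obtain ⟨A, rfl⟩ := pr_surj x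
  obtain ⟨C, rfl⟩ := pr_surj g
  have hC : NS (C : M₂) := by
    by_contra h; exact hg (pr_eq_one.mpr h)
  rcases cases_SL A with ⟨e, he, rfl⟩ | ⟨e, he, b, hb, hc⟩ | ⟨a, ha, hc⟩ | hE
  · rw [pr_sc, orderOf_one] at hx2
    omega
  · exfalso
    haveI : Fact (Nat.Prime 2) := ⟨Nat.prime_two⟩
    have h3 : (pr F A) ^ 2 = 1 := by
      apply pow_p_of (p := 2)
      rw [conj_trace hc, trace_up]
      have : (4 : F) = 2 * 2 := by norm_num
      rw [this, h2]; ring
    have h5 := Nat.le_of_dvd (by norm_num) (orderOf_dvd_of_pow_eq_one h3)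
    omega
  · exact even_cover h2 ha hc hC
  · exfalso
    apply hxq
    apply orderOf_dvd_of_pow_eq_one
    have h3 : A ^ (Fintype.card F + 1) = 1 := by
      have h4 : A ∈ TE A := Subgroup.mem_centralizer_singleton_iff.mpr rfl
      have h5 : (⟨A, h4⟩ : TE A) ^ Nat.card (TE A) = 1 := pow_card_eq_one'
      rw [card_TE hE] at h5
      exact congrArg Subtype.val h5
    rw [← map_pow, h3, map_one]

theorem s2471 (p : ℕ) [hp : Fact p.Prime] [CharP F p] (hp2 : p ≠ 2) (g : PL) : orderOf g ≠ 2 * p := by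
  intro ho
  obtain ⟨A, rfl⟩ := pr_surj g
  have hpp := hp.out.pos
  have hodd := hp.out.odd_of_ne_two hp2
  -- `A²` is unipotent up to sign
  have h1 : pr F ((A * A) ^ p) = 1 := by
    rw [map_pow, map_mul, ← sq, ← pow_mul, ← ho, pow_orderOf_eq_one]
  obtain ⟨e, he, h3⟩ := eq_sc_of_not_NS (pr_eq_one.mp h1)
  have hep : (sc e he) ^ p = sc e he := by
    obtain ⟨k, hk⟩ := hodd
    rw [hk, pow_succ, pow_mul, sq, sc_sq, one_pow, one_mul]
  have h4 : (A * A * sc e he) ^ p = 1 := by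
    have hc : Commute (A * A) (sc e he) := sc_conj_comm e he (A * A)
    rw [hc.mul_pow, h3, hep, sc_sq]
  have h5 : ((A * A * sc e he : SL₂) : M₂).trace = 2 := by
    refine (of_pow_p (p := p) ?_).1
    have := congrArg (fun x : SL₂ => (x : M₂)) h4
    simpa using this
  -- it is not central
  have h6 : A * A * sc e he ≠ 1 := by
    intro h
    have h7 := congrArg (pr F) h
    rw [map_mul, pr_sc, mul_one, map_mul, ← sq, map_one] at h7
    have h8 := orderOf_dvd_of_pow_eq_one h7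
    rw [ho] at h8
    have h9 := Nat.le_of_dvd (by norm_num) h8
    have := hp.out.two_le
    omega
  have h7 := NS_of_trace_two h6 h5
  -- `A` commutes with it
  have h8 : (A : M₂) * ((A * A * sc e he : SL₂) : M₂) = ((A * A * sc e he : SL₂) : M₂) * (A : M₂) := by
    have : A * (A * A * sc e he) = (A * A * sc e he) * A := by
      rw [mul_assoc (A * A), ← sc_conj_comm, ← mul_assoc, ← mul_assoc, ← mul_assoc]
    exact congrArg Subtype.val this
  obtain ⟨x, y, hxy⟩ := (comm_iff h7).mp h8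
  have h9 : (A : M₂).trace ^ 2 = 4 := by
    have h10 := A.2
    rw [hxy, det_alg, h5, (A * A * sc e he).2] at h10
    rw [hxy, trace_alg, h5]
    linear_combination 4 * h10
  have h10 := pow_p_of (p := p) h9
  have h11 := Nat.le_of_dvd hpp (orderOf_dvd_of_pow_eq_one h10)
  omega

end Cfsg.Agent.H15.PSL
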