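import Mathlib
import Cfsg.Agent.H15_PSL1
import Cfsg.Agent.H15_MK3

set_option autoImplicit false
open Matrix Module

namespace Cfsg.Agent.H15.PSL

open Cfsg.Agent.H15.M2 Cfsg.Agent.H15.PS Cfsg.Agent.H15.TOR

variable {F : Type*} [Field F] [Fintype F] [DecidableEq F]

local notation "M₂" => Matrix (Fin 2) (Fin 2) F
local notation "SL₂" => Matrix.SpecialLinearGroup (Fin 2) F
local notation "PL" => Matrix.ProjectiveSpecialLinearGroup (Fin 2) F

theorem pr_inj (h2 : (2 : F) = 0) : Function.Injective (pr F) := by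
  intro A B h
  obtain ⟨e, he, h1⟩ := pr_eq h
  have he1 : e = 1 := by
    rcases mul_self_eq_one_iff.mp he with h3 | h3
    · exact h3
    · rw [h3]
      linear_combination -h2
  subst he1
  rw [h1]
  have : sc (1 : F) he = 1 := by
    apply Subtype.ext
    rw [sc_coe, one_smul]; rfl
  rw [this, mul_one]

/-- transitivity of the torus on vectors of the same norm -/
theorem TE_trans {c : SL₂} {v w : Fin 2 → F} (hv : Q (c : M₂) v ≠ 0) (hvw : Q (c : M₂) v = Q (c : M₂) w) :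
    ∃ a ∈ TE c, (a : M₂) *ᵥ v = w := by
  have hu : IsUnit (X (c : M₂) v).det := by rw [det_X]; exact isUnit_iff_ne_zero.mpr hv
  have hw : Q (c : M₂) w ≠ 0 := by rw [← hvw]; exact hv
  let x : M₂ := X (c : M₂) w * (X (c : M₂) v)⁻¹
  have hdet : x.det = 1 := by
    show (X (c : M₂) w * (X (c : M₂) v)⁻¹).det = 1
    rw [Matrix.det_mul, Matrix.det_nonsing_inv, Ring.inverse_eq_inv', det_X, det_X, ← hvw, mul_inv_cancel₀ hv]
  have hcomm : x * (c : M₂) = (c : M₂) * x := by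
    show X (c : M₂) w * (X (c : M₂) v)⁻¹ * (c : M₂) = (c : M₂) * (X (c : M₂) w * (X (c : M₂) v)⁻¹)
    rw [Matrix.mul_assoc, conj_cm hv, ← Matrix.mul_assoc, ← mul_X, Matrix.mul_assoc]
  refine ⟨⟨x, hdet⟩, Subgroup.mem_centralizer_singleton_iff.mpr (Subtype.ext hcomm), ?_⟩
  show x *ᵥ v = w
  have h1 : v = X (c : M₂) v *ᵥ ![1, 0] := by
    funext i
    fin_cases i <;> simp [X, Matrix.mulVec, dotProduct, Fin.sum_univ_two]
  have h2 : w = X (c : M₂) w *ᵥ ![1, 0] := by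
    funext i
    fin_cases i <;> simp [X, Matrix.mulVec, dotProduct, Fin.sum_univ_two]
  conv_lhs => rw [h1]
  rw [Matrix.mulVec_mulVec]
  show (X (c : M₂) w * (X (c : M₂) v)⁻¹ * X (c : M₂) v) *ᵥ ![1, 0] = w
  rw [Matrix.mul_assoc, Matrix.nonsing_inv_mul _ hu, Matrix.mul_one, ← h2]

theorem Ell.Q_ne {c : SL₂} (hc : Ell (c : M₂)) {v : Fin 2 → F} (hv : v ≠ 0) : Q (c : M₂) v ≠ 0 := by
  intro h
  -- `v` and `c v` are proportional
  have h1 : (X (c : M₂) v).det = 0 := by rw [det_X, h]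
  obtain ⟨w, hw, hw'⟩ := Matrix.exists_mulVec_eq_zero_iff.mpr h1
  have e0 := congrFun hw' 0
  have e1 := congrFun hw' 1
  simp only [X, Matrix.mulVec, dotProduct, Fin.sum_univ_two, Matrix.of_apply, Matrix.cons_val', Matrix.cons_val_zero,
    Matrix.cons_val_one, Matrix.cons_val_fin_one, Pi.zero_apply] at e0 e1
  by_cases h2 : w 1 = 0
  · rw [h2, mul_zero, add_zero] at e0 e1
    have h3 : w 0 ≠ 0 := by
      intro h3
      apply hw
      funext i; fin_cases i <;> assumption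
    apply hv
    funext i
    fin_cases i
    · exact (mul_eq_zero.mp e0).resolve_right h3
    · exact (mul_eq_zero.mp e1).resolve_right h3
  · apply hc (-(w 0 / w 1)) v hv
    funext i
    fin_cases i
    · simp [Matrix.mulVec, dotProduct, Fin.sum_univ_two]
      field_simp
      linear_combination e0
    · simp [Matrix.mulVec, dotProduct, Fin.sum_univ_two]
      field_simp
      linear_combination e1

theorem Q_smul (g : M₂) (s : F) (v : Fin 2 → F) : Q g (s • v) = s * s * Q g v := by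
  simp only [Q, Pi.smul_apply, smul_eq_mul]; ring

/-- common vector -/
theorem common_vec (h2 : (2 : F) = 0) {c : SL₂} (hc : Ell (c : M₂)) (g : SL₂) {k : F} (hk : k ≠ 0) :
    ∃ v, Q (c : M₂) v = k ∧ Q (c : M₂) ((g : M₂) *ᵥ v) = k := by
  haveI : CharP F 2 := CharTwo.of_one_ne_zero_of_two_eq_zero one_ne_zero h2
  have hsq : ∀ z : F, ∃ s, s * s = z := by
    intro z
    obtain ⟨s, hs⟩ := FiniteField.isSquare_of_char_two (F := F) (ringChar.eq_iff.mpr inferInstance) z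
    exact ⟨s, hs.symm⟩
  have h3 : (g : M₂) * ((g⁻¹ * c * g : SL₂) : M₂) = (c : M₂) * (g : M₂) := by
    have : g * (g⁻¹ * c * g) = c * g := by group
    exact congrArg Subtype.val this
  set c' := g⁻¹ * c * g with hc'
  have htr : (c' : M₂).trace = (c : M₂).trace := by
    refine (conj_trace (isConj_iff.mpr ⟨g⁻¹, ?_⟩)).symm
    rw [inv_inv]
  have h4 : ∀ v, Q (c : M₂) ((g : M₂) *ᵥ v) = Q (c' : M₂) v := by
    intro v
    rw [Q_conj h3, g.2, one_mul]
  rw [Matrix.trace_fin_two, Matrix.trace_fin_two] at htr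
  -- a nonzero vector with equal values
  obtain ⟨v, hv0, hv⟩ : ∃ v : Fin 2 → F, v ≠ 0 ∧ Q (c : M₂) v = Q (c' : M₂) v := by
    obtain ⟨s, hs⟩ := hsq ((c : M₂) 1 0 + (c' : M₂) 1 0)
    obtain ⟨t, ht⟩ := hsq ((c : M₂) 0 1 + (c' : M₂) 0 1)
    have key : ∀ v : Fin 2 → F, Q (c : M₂) v - Q (c' : M₂) v = (s * v 0 + t * v 1) ^ 2 := by
      intro v
      have e1 : (s * v 0 + t * v 1) ^ 2 = (s * s) * v 0 ^ 2 + 2 * (s * t * v 0 * v 1) + (t * t) * v 1 ^ 2 := by ring
      rw [e1, hs, ht, Q, Q]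
      linear_combination (-(c' : M₂) 1 0 * v 0 ^ 2 - (s * t * v 0 * v 1) - (c : M₂) 0 1 * v 1 ^ 2 + ((c' : M₂) 0 0 - (c : M₂) 0 0) * v 0 * v 1) * h2 - (v 0 * v 1) * htr
    by_cases h5 : s = 0 ∧ t = 0
    · refine ⟨![1, 0], ?_, ?_⟩
      · intro h; have := congrFun h 0; simp at this
      · rw [← sub_eq_zero, key, h5.1, h5.2]; ring
    · refine ⟨![t, -s], ?_, ?_⟩
      · intro h
        apply h5
        have e0 := congrFun h 0
        have e1 := congrFun h 1
        simp at e0 e1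
        exact ⟨e1, e0⟩
      · rw [← sub_eq_zero, key]
        simp only [Matrix.cons_val_zero, Matrix.cons_val_one]
        ring
  have hQ := Ell.Q_ne hc hv0
  obtain ⟨s, hs⟩ := hsq (k / Q (c : M₂) v)
  refine ⟨s • v, ?_, ?_⟩
  · rw [Q_smul, hs, div_mul_cancel₀ _ hQ]
  · rw [h4, Q_smul, hs, ← hv, div_mul_cancel₀ _ hQ]

theorem s2503 (hq2 : 2 ∣ Fintype.card F) :
    ∃ A B : Subgroup PL,
      IsCyclic A ∧ Nat.card A = Fintype.card F + 1 ∧ IsMulCommutative B ∧ (∀ b ∈ B, b * b = 1) ∧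
        Nat.card B = Fintype.card F ∧
        ∀ g : PL, ∃ a ∈ A, ∃ b ∈ B, ∃ c ∈ A, g = a * b * c := by
  have h2 : (2 : F) = 0 := by
    obtain ⟨n, hn, hc⟩ := FiniteField.card F (ringChar F)
    rw [hc] at hq2
    have h3 := (Nat.prime_dvd_prime_iff_eq Nat.prime_two hn).mp (Nat.prime_two.dvd_of_dvd_pow hq2)
    have := ringChar.Nat.cast_ringChar (R := F)
    rw [← h3] at this
    exact_mod_cast this
  obtain ⟨c, hc⟩ := exists_ell (F := F)
  have hinj := pr_inj h2
  refine ⟨(TE c).map (pr F), (US : Subgroup SL₂).map (pr F), ?_, ?_, ?_, ?_, ?_, ?_⟩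
  · haveI := cyclic_TE hc
    exact isCyclic_of_surjective ((pr F).subgroupMap (TE c)) ((pr F).subgroupMap_surjective (TE c))
  · rw [← Nat.card_congr (Subgroup.equivMapOfInjective (TE c) (pr F) hinj).toEquiv, card_TE hc]
  · constructor
    constructor
    rintro ⟨_, x, hx, rfl⟩ ⟨_, y, hy, rfl⟩
    apply Subtype.ext
    show pr F x * pr F y = pr F y * pr F x
    rw [← map_mul, ← map_mul, US_comm hx hy]
  · rintro _ ⟨x, ⟨b, rfl⟩, rfl⟩
    rw [← map_mul]
    have : (utS 1 b : SL₂) * utS 1 b = 1 := by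
      apply Subtype.ext
      show (utS (1 : Fˣ) b : M₂) * (utS (1 : Fˣ) b : M₂) = 1
      rw [utS_coe]
      ext i j
      fin_cases i <;> fin_cases j <;> simp [Matrix.mul_apply, Fin.sum_univ_two]
      linear_combination b * h2
    rw [this, map_one]
  · rw [← Nat.card_congr (Subgroup.equivMapOfInjective (US : Subgroup SL₂) (pr F) hinj).toEquiv, card_US]
  · intro g
    obtain ⟨G, rfl⟩ := pr_surj g
    have he1 : (![1, 0] : Fin 2 → F) ≠ 0 := by
      intro h; have := congrFun h 0; simp at this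
    have hk := Ell.Q_ne hc he1
    obtain ⟨v, hv1, hv2⟩ := common_vec h2 hc G hk
    -- a' with a' v = e1, a with a e1 = G v
    obtain ⟨a', ha', hav'⟩ := TE_trans (c := c) (v := v) (w := ![1, 0]) (by rw [hv1]; exact hk) hv1
    obtain ⟨a, ha, hav⟩ := TE_trans (c := c) (v := ![1, 0]) (w := (G : M₂) *ᵥ v) hk hv2.symm
    refine ⟨pr F a, ⟨a, ha, rfl⟩, pr F (a⁻¹ * G * a'⁻¹), ⟨a⁻¹ * G * a'⁻¹, ?_, rfl⟩, pr F a', ⟨a', ha', rfl⟩, ?_⟩
    · -- fixes e1
      have h5 : ((a⁻¹ * G * a'⁻¹ : SL₂) : M₂) *ᵥ ![1, 0] = ![1, 0] := by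
        show (((a⁻¹ : SL₂) : M₂) * (G : M₂) * ((a'⁻¹ : SL₂) : M₂)) *ᵥ ![1, 0] = ![1, 0]
        have e1 : ((a'⁻¹ : SL₂) : M₂) *ᵥ ![1, 0] = v := by
          rw [← hav', Matrix.mulVec_mulVec]
          have : ((a'⁻¹ : SL₂) : M₂) * (a' : M₂) = 1 := congrArg Subtype.val (inv_mul_cancel a')
          rw [this, Matrix.one_mulVec]
        have e2 : ((a⁻¹ : SL₂) : M₂) *ᵥ ((G : M₂) *ᵥ v) = ![1, 0] := by
          rw [← hav, Matrix.mulVec_mulVec]
          have : ((a⁻¹ : SL₂) : M₂) * (a : M₂) = 1 := congrArg Subtype.val (inv_mul_cancel a)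
          rw [this, Matrix.one_mulVec]
        rw [← Matrix.mulVec_mulVec, ← Matrix.mulVec_mulVec, e1, e2]
      set y := a⁻¹ * G * a'⁻¹ with hy
      have f0 := congrFun h5 0
      have f1 := congrFun h5 1
      simp [Matrix.mulVec, dotProduct, Fin.sum_univ_two] at f0 f1
      refine ⟨(y : M₂) 0 1, ?_⟩
      apply Subtype.ext
      rw [utS_coe]
      have hd := y.2
      rw [Matrix.det_fin_two, f0, f1] at hd
      ext i j
      fin_cases i <;> fin_cases j <;> simp [f0, f1]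
      linear_combination hd
    · rw [← map_mul, ← map_mul]
      congr 1
      group

end Cfsg.Agent.H15.PSL
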