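import Mathlib

set_option autoImplicit false

/-! Automorphisms of central quotients, Sylow centres. -/

namespace Cfsg.Agent.H16.AutG

open scoped Pointwise

variable {S : Type*} [Group S]

/-- an automorphism of `S` descends to the central quotient. -/
def dn : MulAut S →* MulAut (S ⧸ Subgroup.center S) where
  toFun β := QuotientGroup.congr (Subgroup.center S) (Subgroup.center S) β
    (Subgroup.characteristic_iff_map_eq.mp inferInstance β)
  map_one' := by
    ext x
    induction x using QuotientGroup.induction_on with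
    | H s => rfl
  map_mul' β γ := by
    ext x
    induction x using QuotientGroup.induction_on with
    | H s => rfl

theorem dn_mk (β : MulAut S) (s : S) :
    dn β (QuotientGroup.mk s : S ⧸ Subgroup.center S) = QuotientGroup.mk (β s) := rfl

/-- the image of the centre of `P` in the central quotient. -/
def zc (P : Subgroup S) : Set (S ⧸ Subgroup.center S) :=
  {x | ∃ z ∈ P, (∀ g ∈ P, z * g = g * z) ∧ x = QuotientGroup.mk z}

theorem mk_mem_zc_iff {P : Subgroup S} {x : S ⧸ Subgroup.center S} :
    x ∈ zc P ↔ ∃ z ∈ P, (∀ g ∈ P, z * g = g * z) ∧ x = QuotientGroup.mk z := Iff.rfl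

theorem eq_one_of_center {p : ℕ} [Finite S]
    (hp : p.Coprime (Nat.card (Subgroup.center S))) {P : Subgroup S} (hP : IsPGroup p P) {c : S}
    (hc : c ∈ P) (hz : c ∈ Subgroup.center S) : c = 1 := by
  obtain ⟨k, hk⟩ := hP ⟨c, hc⟩
  have hk' : c ^ p ^ k = 1 := congrArg Subtype.val hk
  have h1 : orderOf c ∣ p ^ k := orderOf_dvd_of_pow_eq_one hk'
  have h2 : orderOf c ∣ Nat.card (Subgroup.center S) := by
    have := orderOf_dvd_natCard (⟨c, hz⟩ : Subgroup.center S)
    rwa [Subgroup.orderOf_mk] at this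
  have h3 : orderOf c ∣ 1 := by
    have h4 : Nat.Coprime (p ^ k) (Nat.card (Subgroup.center S)) := Nat.Coprime.pow_left _ hp
    have := Nat.dvd_gcd h1 h2
    rwa [h4] at this
  exact orderOf_eq_one_iff.mp (Nat.dvd_one.mp h3)

theorem comm_of_mk {p : ℕ} [Finite S]
    (hp : p.Coprime (Nat.card (Subgroup.center S))) {P : Subgroup S} (hP : IsPGroup p P) {z g : S}
    (hz : z ∈ P) (hg : g ∈ P)
    (h : (QuotientGroup.mk z : S ⧸ Subgroup.center S) * QuotientGroup.mk g =
      QuotientGroup.mk g * QuotientGroup.mk z) : z * g = g * z := by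
  have h1 : (g * z)⁻¹ * (z * g) ∈ Subgroup.center S := by
    rw [← QuotientGroup.eq, QuotientGroup.mk_mul, QuotientGroup.mk_mul, h]
  have h2 := eq_one_of_center hp hP (mul_mem (inv_mem (mul_mem hg hz)) (mul_mem hz hg)) h1
  rw [inv_mul_eq_one] at h2
  exact h2.symm

theorem mem_ms {p : ℕ} [Fact p.Prime] [Finite S] (P : Sylow p S) {y : S ⧸ Subgroup.center S} :
    y ∈ P.mapSurjective (QuotientGroup.mk'_surjective (Subgroup.center S)) ↔
      ∃ g ∈ P, (QuotientGroup.mk g : S ⧸ Subgroup.center S) = y := by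
  have h : y ∈ (↑(P.mapSurjective (QuotientGroup.mk'_surjective (Subgroup.center S))) :
      Subgroup (S ⧸ Subgroup.center S)) ↔ y ∈ P.mapSurjective
        (QuotientGroup.mk'_surjective (Subgroup.center S)) := Iff.rfl
  rw [← h, Sylow.coe_mapSurjective]
  rfl

theorem mem_zc_iff {p : ℕ} [Fact p.Prime] [Finite S]
    (hp : p.Coprime (Nat.card (Subgroup.center S))) (P : Sylow p S) {x : S ⧸ Subgroup.center S} :
    x ∈ zc (P : Subgroup S) ↔
      x ∈ P.mapSurjective (QuotientGroup.mk'_surjective (Subgroup.center S)) ∧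
      ∀ y ∈ P.mapSurjective (QuotientGroup.mk'_surjective (Subgroup.center S)), x * y = y * x := by
  constructor
  · rintro ⟨z, hz, hc, rfl⟩
    refine ⟨(mem_ms P).mpr ⟨z, hz, rfl⟩, ?_⟩
    intro y hy
    obtain ⟨g, hg, rfl⟩ := (mem_ms P).mp hy
    rw [← QuotientGroup.mk_mul, hc g hg, QuotientGroup.mk_mul]
  · rintro ⟨hx, hc⟩
    obtain ⟨z, hz, rfl⟩ := (mem_ms P).mp hx
    refine ⟨z, hz, fun g hg => ?_, rfl⟩
    exact comm_of_mk hp P.isPGroup' hz hg (hc _ ((mem_ms P).mpr ⟨g, hg, rfl⟩))

/-- automorphisms of `S/Z(S)` permute the (images of the) centres of the Sylow subgroups. -/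
theorem exists_zc {p : ℕ} [Fact p.Prime] [Finite S]
    (hp : p.Coprime (Nat.card (Subgroup.center S))) (α : MulAut (S ⧸ Subgroup.center S))
    (P : Sylow p S) : ∃ P' : Sylow p S, ∀ x : S ⧸ Subgroup.center S,
      x ∈ zc (P : Subgroup S) ↔ α x ∈ zc (P' : Subgroup S) := by
  obtain ⟨P', hP'⟩ := Sylow.mapSurjective_surjective
    (QuotientGroup.mk'_surjective (Subgroup.center S)) p
    (α • P.mapSurjective (QuotientGroup.mk'_surjective (Subgroup.center S)))
  refine ⟨P', fun x => ?_⟩
  rw [mem_zc_iff hp, mem_zc_iff hp, hP']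
  have key : ∀ y : S ⧸ Subgroup.center S,
      α y ∈ α • P.mapSurjective (QuotientGroup.mk'_surjective (Subgroup.center S)) ↔
        y ∈ P.mapSurjective (QuotientGroup.mk'_surjective (Subgroup.center S)) := by
    intro y
    exact Subgroup.smul_mem_pointwise_smul_iff (a := α)
      (S := (P.mapSurjective (QuotientGroup.mk'_surjective (Subgroup.center S)) : Subgroup _))
      (x := y)
  rw [key]
  refine and_congr_right fun hx => ?_
  constructor
  · intro h y hy
    obtain ⟨y, rfl⟩ := α.surjective y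
    rw [← _root_.map_mul, ← _root_.map_mul, h y ((key y).mp hy)]
  · intro h y hy
    have := h (α y) ((key y).mpr hy)
    rw [← _root_.map_mul, ← _root_.map_mul] at this
    exact α.injective this

theorem zc_map (β : MulAut S) (P : Subgroup S) (x : S ⧸ Subgroup.center S) :
    x ∈ zc P ↔ dn β x ∈ zc (P.map β.toMonoidHom) := by
  induction x using QuotientGroup.induction_on with
  | H s =>
    constructor
    · rintro ⟨z, hz, hc, h⟩
      refine ⟨β z, ⟨z, hz, rfl⟩, ?_, ?_⟩
      · rintro _ ⟨g, hg, rfl⟩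
        change β z * β g = β g * β z
        rw [← _root_.map_mul, hc g hg, _root_.map_mul]
      · rw [h, dn_mk]
    · rintro ⟨z, ⟨z', hz', rfl⟩, hc, h⟩
      refine ⟨z', hz', fun g hg => ?_, ?_⟩
      · have := hc (β g) ⟨g, hg, rfl⟩
        change β z' * β g = β g * β z' at this
        rw [← _root_.map_mul, ← _root_.map_mul] at this
        exact β.injective this
      · apply (dn β).injective
        rw [h, dn_mk]
        rfl

/-- the image of a Sylow subgroup under an automorphism. -/
theorem exists_sylow_map {p : ℕ} [Fact p.Prime] [Finite S] (β : MulAut S) (P : Sylow p S) :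
    ∃ P' : Sylow p S, (P' : Subgroup S) = (P : Subgroup S).map β.toMonoidHom :=
  ⟨β • P, rfl⟩

end Cfsg.Agent.H16.AutG
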