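import Mathlib
import Cfsg.Agent.H16_AutG

set_option autoImplicit false

/-! Root subgroups of `SL_n(F)` and `PSL_n(F)`, the standard automorphisms. -/

namespace Cfsg.Agent.H16.AutL

open Matrix Cfsg.Agent.H16.AutG

variable {F : Type*} [Field F] {ι : Type*} [Fintype ι] [DecidableEq ι]

theorem det_tv (v φ : ι → F) (h : φ ⬝ᵥ v = 0) : (1 + vecMulVec v φ).det = 1 := by
  rw [vecMulVec_eq Unit, det_one_add_replicateCol_mul_replicateRow, h, add_zero]

theorem sl_mat_ext {s t : SpecialLinearGroup ι F} (h : (s : Matrix ι ι F) = (t : Matrix ι ι F)) :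
    s = t := Subtype.ext h

/-- constructor for `SL`. -/
def mkSL (M : Matrix ι ι F) (h : M.det = 1) : SpecialLinearGroup ι F := ⟨M, h⟩

open Classical in
/-- the transvection `1 + v φᵀ`. -/
noncomputable def tv (v φ : ι → F) : SpecialLinearGroup ι F :=
  if h : φ ⬝ᵥ v = 0 then mkSL (1 + vecMulVec v φ) (det_tv v φ h) else 1

theorem tv_coe {v φ : ι → F} (h : φ ⬝ᵥ v = 0) : (tv v φ : Matrix ι ι F) = 1 + vecMulVec v φ := by
  rw [tv, dif_pos h]
  rfl

theorem tv_neg {v φ : ι → F} (h : ¬ φ ⬝ᵥ v = 0) : tv v φ = 1 := by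
  rw [tv, dif_neg h]

theorem tv_mulVec {v φ : ι → F} (h : φ ⬝ᵥ v = 0) (x : ι → F) :
    (tv v φ : Matrix ι ι F) *ᵥ x = x + (φ ⬝ᵥ x) • v := by
  rw [tv_coe h, add_mulVec, one_mulVec, vecMulVec_mulVec, op_smul_eq_smul]

theorem vecMul_tv {v φ : ι → F} (h : φ ⬝ᵥ v = 0) (x : ι → F) :
    x ᵥ* (tv v φ : Matrix ι ι F) = x + (x ⬝ᵥ v) • φ := by
  rw [tv_coe h, vecMul_add, vecMul_one, vecMul_vecMulVec]

theorem sl_ext {s t : SpecialLinearGroup ι F}
    (h : ∀ x : ι → F, (s : Matrix ι ι F) *ᵥ x = (t : Matrix ι ι F) *ᵥ x) : s = t := by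
  refine sl_mat_ext ?_
  apply Matrix.mulVec_injective
  funext x
  exact h x

theorem tv_mul_left {v w φ : ι → F} (h : φ ⬝ᵥ v = 0) (h' : φ ⬝ᵥ w = 0) :
    tv v φ * tv w φ = tv (v + w) φ := by
  have h2 : φ ⬝ᵥ (v + w) = 0 := by rw [dotProduct_add, h, h', add_zero]
  refine sl_ext fun x => ?_
  rw [Matrix.SpecialLinearGroup.coe_mul, ← mulVec_mulVec, tv_mulVec h', tv_mulVec h, tv_mulVec h2,
    dotProduct_add, dotProduct_smul, h', smul_zero, add_zero, smul_add]
  abel

theorem tv_mul_right {v φ ψ : ι → F} (h : φ ⬝ᵥ v = 0) (h' : ψ ⬝ᵥ v = 0) :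
    tv v φ * tv v ψ = tv v (φ + ψ) := by
  have h2 : (φ + ψ) ⬝ᵥ v = 0 := by rw [add_dotProduct, h, h', add_zero]
  refine sl_ext fun x => ?_
  rw [Matrix.SpecialLinearGroup.coe_mul, ← mulVec_mulVec, tv_mulVec h', tv_mulVec h, tv_mulVec h2,
    dotProduct_add, dotProduct_smul, h, smul_zero, add_zero, add_dotProduct, add_smul]
  abel

theorem tv_smul (a : F) (v φ : ι → F) : tv (a • v) φ = tv v (a • φ) := by
  by_cases h : φ ⬝ᵥ v = 0
  · have h1 : φ ⬝ᵥ (a • v) = 0 := by rw [dotProduct_smul, h, smul_zero]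
    have h2 : (a • φ) ⬝ᵥ v = 0 := by rw [smul_dotProduct, h, smul_zero]
    refine sl_ext fun x => ?_
    rw [tv_mulVec h1, tv_mulVec h2, smul_dotProduct, smul_smul, smul_eq_mul, mul_comm]
  · rcases eq_or_ne a 0 with rfl | ha
    · rw [zero_smul, zero_smul]
      refine sl_ext fun x => ?_
      rw [tv_mulVec (by simp), tv_mulVec (by simp)]
      simp
    · rw [tv_neg, tv_neg]
      · rw [smul_dotProduct, smul_eq_zero]
        tauto
      · rw [dotProduct_smul, smul_eq_zero]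
        tauto

theorem tv_zero_left (φ : ι → F) : tv 0 φ = 1 := by
  refine sl_ext fun x => ?_
  rw [tv_mulVec (by simp), smul_zero, add_zero, Matrix.SpecialLinearGroup.coe_one, one_mulVec]

theorem tv_zero_right (v : ι → F) : tv v 0 = 1 := by
  refine sl_ext fun x => ?_
  rw [tv_mulVec (by simp), zero_dotProduct, zero_smul, add_zero, Matrix.SpecialLinearGroup.coe_one,
    one_mulVec]

theorem tv_pow {v φ : ι → F} (h : φ ⬝ᵥ v = 0) (k : ℕ) : tv v φ ^ k = tv ((k : F) • v) φ := by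
  induction k with
  | zero => rw [pow_zero, Nat.cast_zero, zero_smul, tv_zero_left]
  | succ k ih =>
    rw [pow_succ, ih, tv_mul_left _ h, Nat.cast_succ, add_smul, one_smul]
    rw [dotProduct_smul, h, smul_zero]

theorem tv_inv {v φ : ι → F} (h : φ ⬝ᵥ v = 0) : (tv v φ)⁻¹ = tv (-v) φ := by
  rw [inv_eq_iff_mul_eq_one, tv_mul_left h (by rw [dotProduct_neg, h, neg_zero]), add_neg_cancel,
    tv_zero_left]

/-- conjugation by `g ∈ GL` on `SL`. -/
def cjS : GL ι F →* MulAut (SpecialLinearGroup ι F) where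
  toFun g :=
    { toFun := fun s => ⟨(g : Matrix ι ι F) * (s : Matrix ι ι F) * ((g⁻¹ : GL ι F) : Matrix ι ι F),
        by rw [det_mul, det_mul, s.2, mul_one, ← det_mul, ← Units.val_mul, mul_inv_cancel,
          Units.val_one, det_one]⟩
      invFun := fun s => ⟨((g⁻¹ : GL ι F) : Matrix ι ι F) * (s : Matrix ι ι F) * (g : Matrix ι ι F),
        by rw [det_mul, det_mul, s.2, mul_one, ← det_mul, ← Units.val_mul, inv_mul_cancel,
          Units.val_one, det_one]⟩
      left_inv := by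
        intro s
        refine sl_mat_ext ?_
        change ((g⁻¹ : GL ι F) : Matrix ι ι F) * ((g : Matrix ι ι F) * (s : Matrix ι ι F) *
          ((g⁻¹ : GL ι F) : Matrix ι ι F)) * (g : Matrix ι ι F) = s
        rw [mul_assoc, mul_assoc, mul_assoc, ← Units.val_mul, inv_mul_cancel, Units.val_one, mul_one,
          ← mul_assoc, ← Units.val_mul, inv_mul_cancel, Units.val_one, one_mul]
      right_inv := by
        intro s
        refine sl_mat_ext ?_
        change (g : Matrix ι ι F) * (((g⁻¹ : GL ι F) : Matrix ι ι F) * (s : Matrix ι ι F) *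
          (g : Matrix ι ι F)) * ((g⁻¹ : GL ι F) : Matrix ι ι F) = s
        rw [mul_assoc, mul_assoc, mul_assoc, ← Units.val_mul, mul_inv_cancel, Units.val_one, mul_one,
          ← mul_assoc, ← Units.val_mul, mul_inv_cancel, Units.val_one, one_mul]
      map_mul' := by
        intro s t
        refine sl_mat_ext ?_
        change (g : Matrix ι ι F) * ((s : Matrix ι ι F) * (t : Matrix ι ι F)) *
            ((g⁻¹ : GL ι F) : Matrix ι ι F) =
          ((g : Matrix ι ι F) * (s : Matrix ι ι F) * ((g⁻¹ : GL ι F) : Matrix ι ι F)) *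
            ((g : Matrix ι ι F) * (t : Matrix ι ι F) * ((g⁻¹ : GL ι F) : Matrix ι ι F))
        have h : ((g⁻¹ : GL ι F) : Matrix ι ι F) * (g : Matrix ι ι F) = 1 := by
          rw [← Units.val_mul, inv_mul_cancel, Units.val_one]
        calc _ = (g : Matrix ι ι F) * (s : Matrix ι ι F) * 1 * (t : Matrix ι ι F) *
              ((g⁻¹ : GL ι F) : Matrix ι ι F) := by simp only [mul_assoc, one_mul]
          _ = _ := by rw [← h]; simp only [mul_assoc] }
  map_one' := by
    ext1 s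
    refine sl_mat_ext ?_
    change ((1 : GL ι F) : Matrix ι ι F) * (s : Matrix ι ι F) * (((1 : GL ι F)⁻¹ : GL ι F) : Matrix ι ι F) = s
    rw [inv_one, Units.val_one, one_mul, mul_one]
  map_mul' g h := by
    ext1 s
    refine sl_mat_ext ?_
    change ((g * h : GL ι F) : Matrix ι ι F) * (s : Matrix ι ι F) *
        (((g * h : GL ι F)⁻¹ : GL ι F) : Matrix ι ι F) =
      (g : Matrix ι ι F) * ((h : Matrix ι ι F) * (s : Matrix ι ι F) *
        ((h⁻¹ : GL ι F) : Matrix ι ι F)) * ((g⁻¹ : GL ι F) : Matrix ι ι F)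
    rw [_root_.mul_inv_rev, Units.val_mul, Units.val_mul]
    simp only [mul_assoc]

theorem cjS_coe (g : GL ι F) (s : SpecialLinearGroup ι F) :
    ((cjS g s : SpecialLinearGroup ι F) : Matrix ι ι F) =
      (g : Matrix ι ι F) * (s : Matrix ι ι F) * ((g⁻¹ : GL ι F) : Matrix ι ι F) := rfl

theorem gl_cancel (g : GL ι F) (x : ι → F) :
    ((g⁻¹ : GL ι F) : Matrix ι ι F) *ᵥ ((g : Matrix ι ι F) *ᵥ x) = x := by
  rw [mulVec_mulVec, ← Units.val_mul, inv_mul_cancel, Units.val_one, one_mulVec]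

theorem gl_cancel' (g : GL ι F) (x : ι → F) :
    (g : Matrix ι ι F) *ᵥ (((g⁻¹ : GL ι F) : Matrix ι ι F) *ᵥ x) = x := by
  rw [mulVec_mulVec, ← Units.val_mul, mul_inv_cancel, Units.val_one, one_mulVec]

theorem gl_vcancel (g : GL ι F) (x : ι → F) :
    (x ᵥ* ((g⁻¹ : GL ι F) : Matrix ι ι F)) ᵥ* (g : Matrix ι ι F) = x := by
  rw [vecMul_vecMul, ← Units.val_mul, inv_mul_cancel, Units.val_one, vecMul_one]

theorem gl_vcancel' (g : GL ι F) (x : ι → F) :
    (x ᵥ* (g : Matrix ι ι F)) ᵥ* ((g⁻¹ : GL ι F) : Matrix ι ι F) = x := by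
  rw [vecMul_vecMul, ← Units.val_mul, mul_inv_cancel, Units.val_one, vecMul_one]

theorem dot_gl (g : GL ι F) (φ v : ι → F) :
    (φ ᵥ* ((g⁻¹ : GL ι F) : Matrix ι ι F)) ⬝ᵥ ((g : Matrix ι ι F) *ᵥ v) = φ ⬝ᵥ v := by
  rw [dotProduct_mulVec, gl_vcancel]

theorem cjS_tv (g : GL ι F) (v φ : ι → F) :
    cjS g (tv v φ) = tv ((g : Matrix ι ι F) *ᵥ v) (φ ᵥ* ((g⁻¹ : GL ι F) : Matrix ι ι F)) := by
  by_cases h : φ ⬝ᵥ v = 0
  · have h' : (φ ᵥ* ((g⁻¹ : GL ι F) : Matrix ι ι F)) ⬝ᵥ ((g : Matrix ι ι F) *ᵥ v) = 0 := by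
      rw [dot_gl, h]
    refine sl_ext fun x => ?_
    rw [cjS_coe, tv_mulVec h', ← mulVec_mulVec, ← mulVec_mulVec, tv_mulVec h, mulVec_add,
      gl_cancel', mulVec_smul, dotProduct_mulVec]
  · rw [tv_neg h, tv_neg (by rw [dot_gl]; exact h), _root_.map_one]

/-- field automorphisms acting on `SL`. -/
def fS : (F ≃+* F) →* MulAut (SpecialLinearGroup ι F) where
  toFun σ :=
    { toFun := Matrix.SpecialLinearGroup.map (σ : F →+* F)
      invFun := Matrix.SpecialLinearGroup.map (σ.symm : F →+* F)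
      left_inv := by
        intro s
        refine sl_mat_ext ?_
        ext i j
        exact σ.symm_apply_apply _
      right_inv := by
        intro s
        refine sl_mat_ext ?_
        ext i j
        exact σ.apply_symm_apply _
      map_mul' := fun s t => _root_.map_mul _ s t }
  map_one' := by
    ext1 s
    refine sl_mat_ext ?_
    ext i j
    rfl
  map_mul' σ τ := by
    ext1 s
    refine sl_mat_ext ?_
    ext i j
    rfl

theorem fS_coe (σ : F ≃+* F) (s : SpecialLinearGroup ι F) :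
    ((fS σ s : SpecialLinearGroup ι F) : Matrix ι ι F) = (s : Matrix ι ι F).map σ := rfl

theorem fS_tv (σ : F ≃+* F) (v φ : ι → F) :
    fS σ (tv v φ) = tv (fun i => σ (v i)) (fun i => σ (φ i)) := by
  have hd : (fun i => σ (φ i)) ⬝ᵥ (fun i => σ (v i)) = σ (φ ⬝ᵥ v) := by
    simp only [dotProduct, _root_.map_sum, _root_.map_mul]
  by_cases h : φ ⬝ᵥ v = 0
  · refine sl_mat_ext ?_
    rw [fS_coe, tv_coe h, tv_coe (by rw [hd, h, _root_.map_zero])]
    ext i j
    simp only [Matrix.map_apply, Matrix.add_apply, vecMulVec_apply, Matrix.one_apply]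
    rw [_root_.map_add, _root_.map_mul]
    split_ifs <;> simp
  · rw [tv_neg h, tv_neg, _root_.map_one]
    rw [hd]
    simpa using h

/-- transpose. -/
def tS (s : SpecialLinearGroup ι F) : SpecialLinearGroup ι F :=
  mkSL (s : Matrix ι ι F)ᵀ (by rw [det_transpose]; exact s.2)

theorem tS_coe (s : SpecialLinearGroup ι F) : (tS s : Matrix ι ι F) = (s : Matrix ι ι F)ᵀ := rfl

theorem tS_mul (s t : SpecialLinearGroup ι F) : tS (s * t) = tS t * tS s := by
  refine sl_mat_ext ?_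
  rw [tS_coe, Matrix.SpecialLinearGroup.coe_mul, Matrix.SpecialLinearGroup.coe_mul, transpose_mul]
  rfl

theorem tS_tS (s : SpecialLinearGroup ι F) : tS (tS s) = s := by
  refine sl_mat_ext ?_
  rw [tS_coe, tS_coe, transpose_transpose]

theorem tS_one : tS (1 : SpecialLinearGroup ι F) = 1 := by
  refine sl_mat_ext ?_
  rw [tS_coe, Matrix.SpecialLinearGroup.coe_one, transpose_one]

theorem tS_inv (s : SpecialLinearGroup ι F) : (tS s)⁻¹ = tS s⁻¹ := by
  rw [inv_eq_iff_mul_eq_one, ← tS_mul, inv_mul_cancel, tS_one]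

/-- the inverse transpose on `SL`. -/
def iS : MulAut (SpecialLinearGroup ι F) where
  toFun s := tS s⁻¹
  invFun s := tS s⁻¹
  left_inv s := by
    change tS (tS s⁻¹)⁻¹ = s
    rw [tS_inv, inv_inv, tS_tS]
  right_inv s := by
    change tS (tS s⁻¹)⁻¹ = s
    rw [tS_inv, inv_inv, tS_tS]
  map_mul' s t := by rw [_root_.mul_inv_rev, tS_mul]

theorem iS_coe (s : SpecialLinearGroup ι F) :
    ((iS s : SpecialLinearGroup ι F) : Matrix ι ι F) = ((s⁻¹ : SpecialLinearGroup ι F) : Matrix ι ι F)ᵀ := rfl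

theorem iS_mul_iS : (iS : MulAut (SpecialLinearGroup ι F)) * iS = 1 := by
  ext1 s
  exact iS.left_inv s

theorem iS_tv (v φ : ι → F) : iS (tv v φ) = tv (-φ) v := by
  have hd : v ⬝ᵥ (-φ) = -(φ ⬝ᵥ v) := by rw [dotProduct_neg, dotProduct_comm]
  by_cases h : φ ⬝ᵥ v = 0
  · refine sl_mat_ext ?_
    rw [iS_coe, tv_inv h, tv_coe (by rw [dotProduct_neg, h, neg_zero]),
      tv_coe (by rw [hd, h, neg_zero])]
    ext i j
    simp only [Matrix.transpose_apply, Matrix.add_apply, vecMulVec_apply, Matrix.one_apply,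
      Pi.neg_apply, eq_comm]
    ring
  · rw [tv_neg h, tv_neg, _root_.map_one]
    rw [hd]
    simpa using h

end Cfsg.Agent.H16.AutL
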