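import Mathlib
import Cfsg.Agent.H16_AutL

set_option autoImplicit false

/-! Sylow centres of `SL_n(F)` are root subgroups; automorphisms of `PSL_n(F)` permute the root
subgroups. -/

namespace Cfsg.Agent.H16.AutL

open Matrix Cfsg.Agent.H16.AutG Module

section Fixed

variable {F : Type*} [Field F] [Finite F] {ι : Type*} [Fintype ι] [DecidableEq ι]
variable {p : ℕ} [Fact p.Prime] [CharP F p]

theorem dvd_card_of_ne_bot {V : Type*} [AddCommGroup V] [Module F V] [FiniteDimensional F V]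
    [Nontrivial V] : p ∣ Nat.card V := by
  have hF : Fintype F := Fintype.ofFinite F
  have h1 : Nat.card V = Nat.card F ^ finrank F V := Module.natCard_eq_pow_finrank
  have h2 : 0 < finrank F V := finrank_pos
  have h3 : p ∣ Nat.card F := by
    rw [Nat.card_eq_fintype_card]
    exact (CharP.cast_eq_zero_iff F p _).mp (FiniteField.cast_card_eq_zero F)
  rw [h1]
  exact dvd_pow h3 h2.ne'

/-- a `p`-group acting on a nonzero invariant subspace has a nonzero fixed vector. -/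
theorem exists_fixed {S : Type*} [Group S] (ρ : S →* Matrix ι ι F) (P : Subgroup S) (hP : IsPGroup p P)
    (W : Submodule F (ι → F)) (hW : ∀ g ∈ P, ∀ w ∈ W, ρ g *ᵥ w ∈ W) (hne : W ≠ ⊥) :
    ∃ w ∈ W, w ≠ 0 ∧ ∀ g ∈ P, ρ g *ᵥ w = w := by
  let act : MulAction P W :=
    { smul := fun g w => ⟨ρ g *ᵥ w, hW g g.2 w w.2⟩
      one_smul := fun w => Subtype.ext (by
        change ρ (1 : P) *ᵥ (w : ι → F) = w
        rw [Subgroup.coe_one, _root_.map_one, one_mulVec])
      mul_smul := fun g h w => Subtype.ext (by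
        change ρ ((g * h : P) : S) *ᵥ (w : ι → F) = ρ g *ᵥ (ρ h *ᵥ (w : ι → F))
        rw [Subgroup.coe_mul, _root_.map_mul, mulVec_mulVec]) }
  have hnt : Nontrivial W := Submodule.nontrivial_iff_ne_bot.mpr hne
  have hd : p ∣ Nat.card W := dvd_card_of_ne_bot (F := F)
  have h0 : (0 : W) ∈ MulAction.fixedPoints P W := by
    intro g
    apply Subtype.ext
    change ρ g *ᵥ (0 : ι → F) = 0
    exact mulVec_zero _
  obtain ⟨b, hb, hne⟩ := hP.exists_fixed_point_of_prime_dvd_card_of_fixed_point W hd h0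
  refine ⟨b, b.2, fun h => hne (Subtype.ext h.symm), fun g hg => ?_⟩
  exact congrArg Subtype.val (hb ⟨g, hg⟩)

theorem scalar_pow_eq_one {r : F} (h : r ^ p = 1) : r = 1 := by
  have h1 : (r - 1) ^ p = 0 := by rw [sub_pow_char, h, one_pow, sub_self]
  exact sub_eq_zero.mp (pow_eq_zero_iff (Fact.out : p.Prime).ne_zero |>.mp h1)

theorem center_pow_eq_one {s : SpecialLinearGroup ι F}
    (hs : s ∈ Subgroup.center (SpecialLinearGroup ι F)) (h : s ^ p = 1) : s = 1 := by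
  obtain ⟨r, hr, hrs⟩ := Matrix.SpecialLinearGroup.mem_center_iff.mp hs
  rcases isEmpty_or_nonempty ι with hi | ⟨⟨i⟩⟩
  · exact Subsingleton.elim _ _
  · have h1 : ((s ^ p : SpecialLinearGroup ι F) : Matrix ι ι F) = 1 := by rw [h]; rfl
    rw [Matrix.SpecialLinearGroup.coe_pow, ← hrs, ← _root_.map_pow] at h1
    have h2 : r ^ p = 1 := by
      have := congrFun (congrFun h1 i) i
      simpa [Matrix.scalar_apply] using this
    refine sl_mat_ext ?_
    rw [← hrs, scalar_pow_eq_one (F := F) h2, _root_.map_one]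
    rfl

theorem coprime_center :
    p.Coprime (Nat.card (Subgroup.center (SpecialLinearGroup ι F))) := by
  rw [Nat.Prime.coprime_iff_not_dvd Fact.out]
  intro h
  obtain ⟨x, hx⟩ := exists_prime_orderOf_dvd_card' p h
  have h1 : (x : SpecialLinearGroup ι F) ^ p = 1 := by
    have := pow_orderOf_eq_one x
    rw [hx] at this
    exact congrArg Subtype.val this
  have h2 := center_pow_eq_one x.2 h1
  have h3 : x = 1 := Subtype.ext h2
  rw [h3, orderOf_one] at hx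
  exact (Fact.out : p.Prime).one_lt.ne hx

theorem eq_of_mk {s t : SpecialLinearGroup ι F} (hs : s ^ p = 1) (ht : t ^ p = 1)
    (h : (QuotientGroup.mk s : SpecialLinearGroup ι F ⧸ Subgroup.center (SpecialLinearGroup ι F)) =
      QuotientGroup.mk t) : s = t := by
  have h1 : s⁻¹ * t ∈ Subgroup.center (SpecialLinearGroup ι F) := QuotientGroup.eq.mp h
  have h2 : t = s * (s⁻¹ * t) := by group
  have hc : Commute s (s⁻¹ * t) := (Subgroup.mem_center_iff.mp h1 s)
  have h3 : (s⁻¹ * t) ^ p = 1 := by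
    have := hc.mul_pow p
    rw [← h2, ht, hs, one_mul] at this
    exact this.symm
  have h4 := center_pow_eq_one h1 h3
  rw [inv_mul_eq_one] at h4
  exact h4

theorem tv_pow_p {v φ : ι → F} (h : φ ⬝ᵥ v = 0) : tv v φ ^ p = 1 := by
  rw [tv_pow h, CharP.cast_eq_zero, zero_smul, tv_zero_left]

end Fixed

section Dual

variable {F : Type*} [Field F] {ι : Type*} [Fintype ι] [DecidableEq ι]

theorem exists_dot_ne {v : ι → F} (hv : v ≠ 0) : ∃ φ : ι → F, φ ⬝ᵥ v = 1 := by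
  obtain ⟨i, hi⟩ : ∃ i, v i ≠ 0 := by
    by_contra h
    push Not at h
    exact hv (funext h)
  exact ⟨Pi.single i (v i)⁻¹, by rw [single_dotProduct, inv_mul_cancel₀ hi]⟩

/-- if all forms killing `v` kill `x` then `x` is a multiple of `v`. -/
theorem mem_span_of_dot {v x : ι → F} (hv : v ≠ 0)
    (h : ∀ φ : ι → F, φ ⬝ᵥ v = 0 → φ ⬝ᵥ x = 0) : ∃ a : F, x = a • v := by
  obtain ⟨φ₀, h0⟩ := exists_dot_ne hv
  refine ⟨φ₀ ⬝ᵥ x, ?_⟩
  by_contra hne
  have hy : x - (φ₀ ⬝ᵥ x) • v ≠ 0 := sub_ne_zero.mpr hne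
  obtain ⟨ψ, hψ⟩ := exists_dot_ne hy
  have h1 := h (ψ - (ψ ⬝ᵥ v) • φ₀) (by
    rw [sub_dotProduct, smul_dotProduct, h0, smul_eq_mul, mul_one, sub_self])
  rw [sub_dotProduct, smul_dotProduct, smul_eq_mul] at h1
  rw [dotProduct_sub, dotProduct_smul, smul_eq_mul] at hψ
  have : (1 : F) = 0 := by rw [← hψ, ← h1]; ring
  exact one_ne_zero this

variable (F ι) in
/-- the kernel of `x ↦ φ ⬝ x`. -/
def kerφ (φ : ι → F) : Submodule F (ι → F) := LinearMap.ker (dotProductEquiv F ι φ)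

theorem mem_kerφ {φ x : ι → F} : x ∈ kerφ F ι φ ↔ φ ⬝ᵥ x = 0 := by
  rw [kerφ, LinearMap.mem_ker]
  rfl

theorem finrank_kerφ {φ : ι → F} (hφ : φ ≠ 0) : finrank F (kerφ F ι φ) + 1 = Fintype.card ι := by
  have hne : (dotProductEquiv F ι φ) ≠ 0 := by
    intro h
    exact hφ ((dotProductEquiv F ι).injective (by rw [h, _root_.map_zero]))
  have h1 := LinearMap.finrank_range_add_finrank_ker (dotProductEquiv F ι φ)
  have h2 : finrank F (LinearMap.range (dotProductEquiv F ι φ)) = 1 := by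
    rw [LinearMap.range_eq_top.mpr (LinearMap.surjective hne), finrank_top, finrank_self]
  rw [h2, finrank_fintype_fun_eq_card] at h1
  rw [kerφ, ← h1, add_comm]

variable (F ι) in
/-- matrices as linear equivalences -/
noncomputable def glE : GL ι F ≃* ((ι → F) ≃ₗ[F] (ι → F)) :=
  Matrix.GeneralLinearGroup.toLin.trans (LinearMap.GeneralLinearGroup.generalLinearEquiv F (ι → F))

theorem glE_apply (g : GL ι F) (v : ι → F) : glE F ι g v = (g : Matrix ι ι F) *ᵥ v := rfl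

theorem exists_gl (e : (ι → F) ≃ₗ[F] (ι → F)) :
    ∃ g : GL ι F, ∀ x, (g : Matrix ι ι F) *ᵥ x = e x :=
  ⟨(glE F ι).symm e, fun x => by rw [← glE_apply, MulEquiv.apply_symm_apply]⟩

/-- `GL` is transitive on pairs (vector, form) with `φ v = 0`. -/
theorem exists_gl_pair {v φ v' φ' : ι → F} (hv : v ≠ 0) (hφ : φ ≠ 0) (h : φ ⬝ᵥ v = 0)
    (hv' : v' ≠ 0) (hφ' : φ' ≠ 0) (h' : φ' ⬝ᵥ v' = 0) :
    ∃ g : GL ι F, (g : Matrix ι ι F) *ᵥ v = v' ∧ φ' ᵥ* (g : Matrix ι ι F) = φ := by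
  let a : kerφ F ι φ := ⟨v, mem_kerφ.mpr h⟩
  let a' : kerφ F ι φ' := ⟨v', mem_kerφ.mpr h'⟩
  have ha : a ≠ 0 := fun hh => hv (congrArg Subtype.val hh)
  have ha' : a' ≠ 0 := fun hh => hv' (congrArg Subtype.val hh)
  have hfr : finrank F (kerφ F ι φ) = finrank F (kerφ F ι φ') := by
    have h1 := finrank_kerφ hφ
    have h2 := finrank_kerφ hφ'
    omega
  let e0 : kerφ F ι φ ≃ₗ[F] kerφ F ι φ' := LinearEquiv.ofFinrankEq _ _ hfr
  have he0 : e0 a ≠ 0 := fun hh => ha (e0.injective (by rw [hh, _root_.map_zero]))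
  obtain ⟨g1, hg1⟩ := Submodule.exists_linearEquiv_restrict_eq
    ((LinearEquiv.toSpanNonzeroSingleton F (kerφ F ι φ') (e0 a) he0).symm.trans
      (LinearEquiv.toSpanNonzeroSingleton F (kerφ F ι φ') a' ha'))
  have hg1' : g1 (e0 a) = a' := by
    have := hg1 ⟨e0 a, Submodule.mem_span_singleton_self _⟩
    rw [← this, LinearEquiv.trans_apply]
    have h2 : (LinearEquiv.toSpanNonzeroSingleton F (kerφ F ι φ') (e0 a) he0).symm
        ⟨e0 a, Submodule.mem_span_singleton_self _⟩ = 1 := by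
      rw [LinearEquiv.symm_apply_eq, LinearEquiv.toSpanNonzeroSingleton_one]
    rw [h2, LinearEquiv.toSpanNonzeroSingleton_one]
  let e : kerφ F ι φ ≃ₗ[F] kerφ F ι φ' := e0.trans g1
  have hea : e a = a' := hg1'
  obtain ⟨w, hw⟩ : ∃ w : ι → F, φ ⬝ᵥ w = 1 := by
    obtain ⟨w, hw⟩ := exists_dot_ne hφ
    exact ⟨w, by rw [dotProduct_comm, hw]⟩
  obtain ⟨w', hw'⟩ : ∃ w : ι → F, φ' ⬝ᵥ w = 1 := by
    obtain ⟨w, hw⟩ := exists_dot_ne hφ'
    exact ⟨w, by rw [dotProduct_comm, hw]⟩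
  have hmem : ∀ x, x - (φ ⬝ᵥ x) • w ∈ kerφ F ι φ := fun x => by
    rw [mem_kerφ, dotProduct_sub, dotProduct_smul, hw, smul_eq_mul, mul_one, sub_self]
  have hmem' : ∀ x, x - (φ' ⬝ᵥ x) • w' ∈ kerφ F ι φ' := fun x => by
    rw [mem_kerφ, dotProduct_sub, dotProduct_smul, hw', smul_eq_mul, mul_one, sub_self]
  let L : (ι → F) →ₗ[F] (ι → F) :=
    (Submodule.subtype _ ∘ₗ e.toLinearMap) ∘ₗ (LinearMap.codRestrict (kerφ F ι φ)
      (LinearMap.id - (LinearMap.toSpanSingleton F _ w) ∘ₗ (dotProductEquiv F ι φ)) hmem) +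
      (LinearMap.toSpanSingleton F _ w') ∘ₗ (dotProductEquiv F ι φ)
  have hL : ∀ x, L x = (e ⟨x - (φ ⬝ᵥ x) • w, hmem x⟩ : ι → F) + (φ ⬝ᵥ x) • w' := fun x => rfl
  have hφL : ∀ x, φ' ⬝ᵥ L x = φ ⬝ᵥ x := by
    intro x
    rw [hL, dotProduct_add, mem_kerφ.mp (e ⟨x - (φ ⬝ᵥ x) • w, hmem x⟩).2, dotProduct_smul, hw',
      smul_eq_mul, mul_one, zero_add]
  have hL0 : ∀ (x : ι → F) (hx : φ ⬝ᵥ x = 0), L x = (e ⟨x, mem_kerφ.mpr hx⟩ : ι → F) := by
    intro x hx
    have key : (⟨x - (φ ⬝ᵥ x) • w, hmem x⟩ : kerφ F ι φ) = ⟨x, mem_kerφ.mpr hx⟩ := by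
      apply Subtype.ext
      change x - (φ ⬝ᵥ x) • w = x
      rw [hx, zero_smul, sub_zero]
    have h0 : (φ ⬝ᵥ x) • w' = 0 := by rw [hx, zero_smul]
    rw [hL, key, h0, add_zero]
  have hinj : Function.Injective L := by
    rw [← LinearMap.ker_eq_bot, LinearMap.ker_eq_bot']
    intro x hx
    have h1 : φ ⬝ᵥ x = 0 := by rw [← hφL, hx, dotProduct_zero]
    rw [hL0 x h1] at hx
    have h2 : (⟨x, mem_kerφ.mpr h1⟩ : kerφ F ι φ) = 0 :=
      e.injective (by rw [_root_.map_zero]; exact Subtype.ext hx)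
    exact congrArg Subtype.val h2
  let E := LinearEquiv.ofInjectiveEndo L hinj
  obtain ⟨g, hg⟩ := exists_gl E
  refine ⟨g, ?_, ?_⟩
  · rw [hg]
    change L v = v'
    rw [hL0 v h]
    exact congrArg Subtype.val hea
  · apply dotProduct_eq
    intro x
    rw [← dotProduct_mulVec, hg]
    exact hφL x

end Dual

end Cfsg.Agent.H16.AutL
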