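import Mathlib
import Cfsg.Agent.H16_AutL2

set_option autoImplicit false

/-! Sylow centres of `SL_n(F)` are root subgroups; automorphisms of `PSL_n(F)` permute the root
subgroups. -/

namespace Cfsg.Agent.H16.AutL

open Matrix Cfsg.Agent.H16.AutG Module

theorem le_sylow {S : Type*} [Group S] {p : ℕ} (P : Sylow p S) (Q : Subgroup S)
    (hQ : IsPGroup p Q) (h : ∀ g ∈ P, ∀ x ∈ Q, g * x * g⁻¹ ∈ Q) : Q ≤ P := by
  have hn : (P : Subgroup S) ≤ Subgroup.normalizer Q := by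
    intro g hg
    rw [Subgroup.mem_normalizer_iff]
    intro x
    refine ⟨fun hx => h g hg x hx, fun hx => ?_⟩
    have := h g⁻¹ (inv_mem hg) _ hx
    rwa [inv_inv, ← mul_assoc, ← mul_assoc, inv_mul_cancel, one_mul, mul_assoc, inv_mul_cancel,
      mul_one] at this
  have h1 : IsPGroup p ((P : Subgroup S) ⊔ Q : Subgroup S) :=
    IsPGroup.to_sup_of_normal_right' P.isPGroup' hQ hn
  have h2 := P.is_maximal' h1 le_sup_left
  rw [← h2]
  exact le_sup_right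

variable {F : Type*} [Field F] {ι : Type*} [Fintype ι] [DecidableEq ι]

/-- root subgroups, as subsets of `PSL`. -/
def X (v φ : ι → F) : Set (SpecialLinearGroup ι F ⧸ Subgroup.center (SpecialLinearGroup ι F)) :=
  {x | ∃ a : F, x = QuotientGroup.mk (tv (a • v) φ)}

theorem X_smul {a b : F} (ha : a ≠ 0) (hb : b ≠ 0) (v φ : ι → F) : X (a • v) (b • φ) = X v φ := by
  ext x
  constructor
  · rintro ⟨c, rfl⟩
    refine ⟨b * (c * a), ?_⟩
    rw [← tv_smul, smul_smul, smul_smul, mul_assoc]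
  · rintro ⟨c, rfl⟩
    refine ⟨b⁻¹ * (c * a⁻¹), ?_⟩
    rw [← tv_smul, smul_smul, smul_smul]
    congr 2
    field_simp

theorem conj_tv (s : SpecialLinearGroup ι F) (v φ : ι → F) :
    s * tv v φ * s⁻¹ = tv ((s : Matrix ι ι F) *ᵥ v)
      (φ ᵥ* ((s⁻¹ : SpecialLinearGroup ι F) : Matrix ι ι F)) := by
  have h := cjS_tv (Matrix.SpecialLinearGroup.toGL s) v φ
  have h1 : cjS (Matrix.SpecialLinearGroup.toGL s) (tv v φ) = s * tv v φ * s⁻¹ := by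
    refine sl_mat_ext ?_
    rw [cjS_coe, ← _root_.map_inv]
    rfl
  rw [← h1, h, ← _root_.map_inv]
  rfl

/-- all transvections with centre `v`. -/
noncomputable def Tc (v : ι → F) : Subgroup (SpecialLinearGroup ι F) where
  carrier := {x | ∃ ψ : ι → F, ψ ⬝ᵥ v = 0 ∧ x = tv v ψ}
  one_mem' := ⟨0, by simp, (tv_zero_right v).symm⟩
  mul_mem' := by
    rintro _ _ ⟨ψ, h, rfl⟩ ⟨ψ', h', rfl⟩
    exact ⟨ψ + ψ', by rw [add_dotProduct, h, h', add_zero], tv_mul_right h h'⟩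
  inv_mem' := by
    rintro _ ⟨ψ, h, rfl⟩
    refine ⟨-ψ, by rw [neg_dotProduct, h, neg_zero], ?_⟩
    rw [tv_inv h, ← neg_one_smul F, tv_smul, neg_one_smul]

/-- all transvections with axis `φ`. -/
noncomputable def Ta (φ : ι → F) : Subgroup (SpecialLinearGroup ι F) where
  carrier := {x | ∃ w : ι → F, φ ⬝ᵥ w = 0 ∧ x = tv w φ}
  one_mem' := ⟨0, by simp, (tv_zero_left φ).symm⟩
  mul_mem' := by
    rintro _ _ ⟨ψ, h, rfl⟩ ⟨ψ', h', rfl⟩
    exact ⟨ψ + ψ', by rw [dotProduct_add, h, h', add_zero], tv_mul_left h h'⟩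
  inv_mem' := by
    rintro _ ⟨ψ, h, rfl⟩
    exact ⟨-ψ, by rw [dotProduct_neg, h, neg_zero], tv_inv h⟩

section Fin

variable [Finite F] {p : ℕ} [Fact p.Prime] [CharP F p]

theorem isPGroup_Tc (v : ι → F) : IsPGroup p (Tc v) := by
  rintro ⟨_, ψ, h, rfl⟩
  refine ⟨1, Subtype.ext ?_⟩
  rw [pow_one]
  exact tv_pow_p h

theorem isPGroup_Ta (φ : ι → F) : IsPGroup p (Ta φ) := by
  rintro ⟨_, ψ, h, rfl⟩
  refine ⟨1, Subtype.ext ?_⟩
  rw [pow_one]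
  exact tv_pow_p h

/-- `SL` as matrices. -/
def ρ1 : SpecialLinearGroup ι F →* Matrix ι ι F where
  toFun s := s
  map_one' := rfl
  map_mul' s t := Matrix.SpecialLinearGroup.coe_mul s t

theorem ρ1_iS (s : SpecialLinearGroup ι F) (φ : ι → F) :
    (ρ1.comp (iS : MulAut (SpecialLinearGroup ι F)).toMonoidHom) s *ᵥ φ =
      φ ᵥ* ((s⁻¹ : SpecialLinearGroup ι F) : Matrix ι ι F) := by
  change ((iS s : SpecialLinearGroup ι F) : Matrix ι ι F) *ᵥ φ = _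
  rw [iS_coe, mulVec_transpose]

theorem vecMul_of_inv {s : SpecialLinearGroup ι F} {φ : ι → F}
    (h : φ ᵥ* ((s⁻¹ : SpecialLinearGroup ι F) : Matrix ι ι F) = φ) :
    φ ᵥ* (s : Matrix ι ι F) = φ := by
  conv_lhs => rw [← h]
  rw [vecMul_vecMul, ← Matrix.SpecialLinearGroup.coe_mul, inv_mul_cancel,
    Matrix.SpecialLinearGroup.coe_one, vecMul_one]

/-- the centre of a Sylow `p`-subgroup of `SL_n(F)`. -/
theorem sylow_center (h2 : 2 ≤ Fintype.card ι) (P : Sylow p (SpecialLinearGroup ι F)) :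
    ∃ v φ : ι → F, v ≠ 0 ∧ φ ≠ 0 ∧ φ ⬝ᵥ v = 0 ∧ zc (P : Subgroup (SpecialLinearGroup ι F)) = X v φ := by
  have hne : Nonempty ι := Fintype.card_pos_iff.mp (by omega)
  obtain ⟨φ, -, hφ0, hφ⟩ := exists_fixed (p := p) (ρ1.comp (iS : MulAut (SpecialLinearGroup ι F)).toMonoidHom)
    (P : Subgroup (SpecialLinearGroup ι F)) P.isPGroup' ⊤ (fun _ _ _ _ => trivial) top_ne_bot
  have hφ1 : ∀ g ∈ P, φ ᵥ* ((g⁻¹ : SpecialLinearGroup ι F) : Matrix ι ι F) = φ := fun g hg => by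
    rw [← ρ1_iS]; exact hφ g hg
  have hφ2 : ∀ g ∈ P, φ ᵥ* (g : Matrix ι ι F) = φ := fun g hg => vecMul_of_inv (hφ1 g hg)
  obtain ⟨v, hvk, hv0, hv⟩ := exists_fixed (p := p) ρ1
    (P : Subgroup (SpecialLinearGroup ι F)) P.isPGroup' (kerφ F ι φ) (fun g hg w hw => by
      rw [mem_kerφ] at hw ⊢
      change φ ⬝ᵥ ((g : Matrix ι ι F) *ᵥ w) = 0
      rw [dotProduct_mulVec, hφ2 g hg, hw]) (by
      intro h
      have h1 := finrank_kerφ hφ0
      rw [h, finrank_bot] at h1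
      omega)
  have hφv : φ ⬝ᵥ v = 0 := mem_kerφ.mp hvk
  have hv1 : ∀ g ∈ P, (g : Matrix ι ι F) *ᵥ v = v := hv
  refine ⟨v, φ, hv0, hφ0, hφv, ?_⟩
  have hTc : Tc v ≤ P := by
    refine le_sylow P _ (isPGroup_Tc v) ?_
    rintro g hg _ ⟨ψ, hψ, rfl⟩
    refine ⟨ψ ᵥ* ((g⁻¹ : SpecialLinearGroup ι F) : Matrix ι ι F), ?_, ?_⟩
    · rw [← dotProduct_mulVec, hv1 _ (inv_mem hg), hψ]
    · rw [conj_tv, hv1 g hg]
  have hTa : Ta φ ≤ P := by
    refine le_sylow P _ (isPGroup_Ta φ) ?_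
    rintro g hg _ ⟨w, hw, rfl⟩
    refine ⟨(g : Matrix ι ι F) *ᵥ w, ?_, ?_⟩
    · rw [dotProduct_mulVec, hφ2 g hg, hw]
    · rw [conj_tv, hφ1 g hg]
  ext x
  constructor
  · rintro ⟨z, hz, hc, rfl⟩
    -- `z` commutes with `Tc v` and `Ta φ`.
    have h3 : ∀ ψ : ι → F, ψ ⬝ᵥ v = 0 → ∀ x, ψ ⬝ᵥ ((z : Matrix ι ι F) *ᵥ x - x) = 0 := by
      intro ψ hψ x
      have h4 := hc _ (hTc ⟨ψ, hψ, rfl⟩)
      have h5 : z * tv v ψ * z⁻¹ = tv v ψ := by rw [h4, mul_assoc, mul_inv_cancel, mul_one]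
      rw [conj_tv, hv1 z hz] at h5
      have hψ' : (ψ ᵥ* ((z⁻¹ : SpecialLinearGroup ι F) : Matrix ι ι F)) ⬝ᵥ v = 0 := by
        rw [← dotProduct_mulVec, hv1 _ (inv_mem hz), hψ]
      have h6 : ∀ y, (ψ ᵥ* ((z⁻¹ : SpecialLinearGroup ι F) : Matrix ι ι F)) ⬝ᵥ y = ψ ⬝ᵥ y := by
        intro y
        have h7 := tv_mulVec hψ y
        rw [← h5, tv_mulVec hψ'] at h7
        have h8 := add_left_cancel h7
        rw [← sub_eq_zero, ← sub_smul, smul_eq_zero] at h8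
        rcases h8 with h8 | h8
        · exact sub_eq_zero.mp h8
        · exact absurd h8 hv0
      have h9 := h6 ((z : Matrix ι ι F) *ᵥ x)
      rw [dotProduct_mulVec, vecMul_vecMul, ← Matrix.SpecialLinearGroup.coe_mul, inv_mul_cancel,
        Matrix.SpecialLinearGroup.coe_one, vecMul_one] at h9
      rw [dotProduct_sub, ← h9, sub_self]
    have h4 : ∀ x, ∃ a : F, (z : Matrix ι ι F) *ᵥ x = x + a • v := by
      intro x
      obtain ⟨a, ha⟩ := mem_span_of_dot hv0 (fun ψ hψ => h3 ψ hψ x)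
      exact ⟨a, by rw [← ha]; abel⟩
    have h5 : ∀ w, φ ⬝ᵥ w = 0 → (z : Matrix ι ι F) *ᵥ w = w := by
      intro w hw
      have h6 := hc _ (hTa ⟨w, hw, rfl⟩)
      have h7 : z * tv w φ * z⁻¹ = tv w φ := by rw [h6, mul_assoc, mul_inv_cancel, mul_one]
      rw [conj_tv, hφ1 z hz] at h7
      have hw' : φ ⬝ᵥ ((z : Matrix ι ι F) *ᵥ w) = 0 := by
        rw [dotProduct_mulVec, hφ2 z hz, hw]
      obtain ⟨y, hy⟩ := exists_dot_ne hφ0
      rw [dotProduct_comm] at hy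
      have h8 := tv_mulVec hw y
      rw [← h7, tv_mulVec hw', hy, one_smul, one_smul] at h8
      exact add_left_cancel h8
    obtain ⟨y, hy⟩ := exists_dot_ne hφ0
    rw [dotProduct_comm] at hy
    obtain ⟨a, ha⟩ := h4 y
    refine ⟨a, ?_⟩
    congr 1
    refine sl_ext fun x => ?_
    rw [tv_mulVec (by rw [dotProduct_smul, hφv, smul_zero])]
    have h6 : x = (x - (φ ⬝ᵥ x) • y) + (φ ⬝ᵥ x) • y := by abel
    have h7 : φ ⬝ᵥ (x - (φ ⬝ᵥ x) • y) = 0 := by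
      rw [dotProduct_sub, dotProduct_smul, hy, smul_eq_mul, mul_one, sub_self]
    conv_lhs => rw [h6, mulVec_add, h5 _ h7, mulVec_smul, ha]
    rw [smul_add]
    abel
  · rintro ⟨a, rfl⟩
    have hh : φ ⬝ᵥ (a • v) = 0 := by rw [dotProduct_smul, hφv, smul_zero]
    refine ⟨tv (a • v) φ, hTa ⟨a • v, hh, rfl⟩, ?_, rfl⟩
    intro g hg
    have h3 : g * tv (a • v) φ * g⁻¹ = tv (a • v) φ := by
      rw [conj_tv, hφ1 g hg, mulVec_smul, hv1 g hg]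
    rw [mul_inv_eq_iff_eq_mul] at h3
    exact h3.symm

theorem dn_X (g : GL ι F) (v φ : ι → F)
    (x : SpecialLinearGroup ι F ⧸ Subgroup.center (SpecialLinearGroup ι F)) :
    x ∈ X v φ ↔ dn (cjS g) x ∈
      X ((g : Matrix ι ι F) *ᵥ v) (φ ᵥ* ((g⁻¹ : GL ι F) : Matrix ι ι F)) := by
  constructor
  · rintro ⟨a, rfl⟩
    refine ⟨a, ?_⟩
    rw [dn_mk, cjS_tv, mulVec_smul]
  · rintro ⟨a, h⟩
    refine ⟨a, ?_⟩
    apply (dn (cjS g)).injective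
    rw [h, dn_mk, cjS_tv, mulVec_smul]

/-- every root subgroup is the centre of a Sylow subgroup. -/
theorem exists_sylow_center (h2 : 2 ≤ Fintype.card ι) {v φ : ι → F} (hv : v ≠ 0) (hφ : φ ≠ 0)
    (h : φ ⬝ᵥ v = 0) :
    ∃ P : Sylow p (SpecialLinearGroup ι F), zc (P : Subgroup (SpecialLinearGroup ι F)) = X v φ := by
  obtain ⟨v', φ', hv', hφ', h', hz⟩ := sylow_center (p := p) h2
    (default : Sylow p (SpecialLinearGroup ι F))
  obtain ⟨g, hg, hgφ⟩ := exists_gl_pair hv' hφ' h' hv hφ h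
  obtain ⟨P', hP'⟩ := exists_sylow_map (cjS g) (default : Sylow p (SpecialLinearGroup ι F))
  refine ⟨P', ?_⟩
  have hgφ' : φ' ᵥ* ((g⁻¹ : GL ι F) : Matrix ι ι F) = φ := by rw [← hgφ, gl_vcancel']
  ext x
  obtain ⟨x, rfl⟩ := (dn (cjS g)).surjective x
  rw [hP', ← zc_map, hz, dn_X g, hg, hgφ']

/-- automorphisms of `PSL_n(F)` permute the root subgroups. -/
theorem exists_root (h2 : 2 ≤ Fintype.card ι)
    (α : MulAut (SpecialLinearGroup ι F ⧸ Subgroup.center (SpecialLinearGroup ι F)))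
    {v φ : ι → F} (hv : v ≠ 0) (hφ : φ ≠ 0) (h : φ ⬝ᵥ v = 0) :
    ∃ v' φ' : ι → F, v' ≠ 0 ∧ φ' ≠ 0 ∧ φ' ⬝ᵥ v' = 0 ∧ ∀ x, x ∈ X v φ ↔ α x ∈ X v' φ' := by
  obtain ⟨p, hp⟩ := CharP.exists F
  have : Fact p.Prime := ⟨CharP.char_is_prime F p⟩
  obtain ⟨P, hP⟩ := exists_sylow_center (p := p) h2 hv hφ h
  obtain ⟨P', hP'⟩ := exists_zc (p := p) coprime_center α P
  obtain ⟨v', φ', hv', hφ', h', hz⟩ := sylow_center (p := p) h2 P'
  exact ⟨v', φ', hv', hφ', h', fun x => by rw [← hP, hP', hz]⟩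

end Fin

end Cfsg.Agent.H16.AutL
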