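import Mathlib
import Cfsg.Agent.H16_AutL3

set_option autoImplicit false

/-! The permutation of the root subgroups induced by an automorphism of `PSL_n(F)`, `n ≥ 3`, comes
from a collineation or a correlation. -/

namespace Cfsg.Agent.H16.AutL

open Matrix Cfsg.Agent.H16.AutG Module

section Par

variable {F : Type*} [Field F] {ι : Type*} [Fintype ι] [DecidableEq ι]

/-- parallel vectors -/
def Par (v w : ι → F) : Prop := ∃ c : F, c ≠ 0 ∧ w = c • v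

theorem Par.refl (v : ι → F) : Par v v := ⟨1, one_ne_zero, (one_smul _ _).symm⟩

theorem Par.symm {v w : ι → F} (h : Par v w) : Par w v := by
  obtain ⟨c, hc, rfl⟩ := h
  exact ⟨c⁻¹, inv_ne_zero hc, by rw [smul_smul, inv_mul_cancel₀ hc, one_smul]⟩

theorem Par.trans {u v w : ι → F} (h : Par u v) (h' : Par v w) : Par u w := by
  obtain ⟨c, hc, rfl⟩ := h
  obtain ⟨d, hd, rfl⟩ := h'
  exact ⟨d * c, mul_ne_zero hd hc, by rw [smul_smul]⟩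

theorem par_of_smul {v w : ι → F} (hw : w ≠ 0) {c : F} (h : w = c • v) : Par v w := by
  refine ⟨c, ?_, h⟩
  rintro rfl
  exact hw (by rw [h, zero_smul])

theorem exists_sep {v w : ι → F} (hv : v ≠ 0) (hw : w ≠ 0) (h : ¬ Par v w) :
    ∃ φ : ι → F, φ ⬝ᵥ v = 0 ∧ φ ⬝ᵥ w = 1 := by
  by_contra hcon
  push Not at hcon
  obtain ⟨a, ha⟩ := mem_span_of_dot (x := w) hv (fun φ hφ => by
    by_contra hne
    exact hcon ((φ ⬝ᵥ w)⁻¹ • φ) (by rw [smul_dotProduct, hφ, smul_zero])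
      (by rw [smul_dotProduct, smul_eq_mul, inv_mul_cancel₀ hne]))
  exact h (par_of_smul hw ha)

theorem exists_perp2 (h3 : 3 ≤ Fintype.card ι) (φ φ' : ι → F) :
    ∃ u : ι → F, u ≠ 0 ∧ φ ⬝ᵥ u = 0 ∧ φ' ⬝ᵥ u = 0 := by
  have h := LinearMap.ker_ne_bot_of_finrank_lt
    (f := (dotProductEquiv F ι φ).prod (dotProductEquiv F ι φ')) (by
      rw [finrank_prod, finrank_self, finrank_fintype_fun_eq_card]
      omega)
  obtain ⟨u, hu, hne⟩ := Submodule.exists_mem_ne_zero_of_ne_bot h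
  rw [LinearMap.mem_ker] at hu
  exact ⟨u, hne, congrArg Prod.fst hu, congrArg Prod.snd hu⟩

/-- there is a vector orthogonal to `φ` and not parallel to `v`. -/
theorem exists_nonpar (h3 : 3 ≤ Fintype.card ι) {φ v : ι → F} (hv : v ≠ 0) :
    ∃ w : ι → F, w ≠ 0 ∧ φ ⬝ᵥ w = 0 ∧ ¬ Par v w := by
  obtain ⟨ψ, hψ⟩ := exists_dot_ne hv
  obtain ⟨w, hw, h1, h2⟩ := exists_perp2 h3 φ ψ
  refine ⟨w, hw, h1, ?_⟩
  rintro ⟨c, hc, rfl⟩
  rw [dotProduct_smul, hψ, smul_eq_mul, mul_one] at h2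
  exact hc h2

end Par

section Adj

variable {F : Type*} [Field F] [Finite F] {ι : Type*} [Fintype ι] [DecidableEq ι]

/-- being the image of a transvection (or trivial) -/
def IsT (x : SpecialLinearGroup ι F ⧸ Subgroup.center (SpecialLinearGroup ι F)) : Prop :=
  ∃ v φ : ι → F, φ ⬝ᵥ v = 0 ∧ x = QuotientGroup.mk (tv v φ)

theorem isT_map (h2 : 2 ≤ Fintype.card ι)
    (α : MulAut (SpecialLinearGroup ι F ⧸ Subgroup.center (SpecialLinearGroup ι F)))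
    {x : SpecialLinearGroup ι F ⧸ Subgroup.center (SpecialLinearGroup ι F)} (hx : IsT x) :
    IsT (α x) := by
  obtain ⟨v, φ, h, rfl⟩ := hx
  rcases eq_or_ne v 0 with rfl | hv
  · refine ⟨0, 0, by simp, ?_⟩
    rw [tv_zero_left, tv_zero_left, QuotientGroup.mk_one, _root_.map_one]
  rcases eq_or_ne φ 0 with rfl | hφ
  · refine ⟨0, 0, by simp, ?_⟩
    rw [tv_zero_left, tv_zero_right, QuotientGroup.mk_one, _root_.map_one]
  obtain ⟨v', φ', hv', hφ', h', hX⟩ := exists_root h2 α hv hφ h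
  obtain ⟨a, ha⟩ := (hX (QuotientGroup.mk (tv v φ))).mp ⟨1, by rw [one_smul]⟩
  exact ⟨a • v', φ', by rw [dotProduct_smul, h', smul_zero], ha⟩

theorem X_eq {v φ v' φ' : ι → F} (hv : v ≠ 0) (hφ : φ ≠ 0) (h : φ ⬝ᵥ v = 0)
    (hv' : v' ≠ 0) (hφ' : φ' ≠ 0) (h' : φ' ⬝ᵥ v' = 0)
    (hX : (QuotientGroup.mk (tv v φ) :
      SpecialLinearGroup ι F ⧸ Subgroup.center (SpecialLinearGroup ι F)) ∈ X v' φ') :
    Par v v' ∧ Par φ φ' := by
  obtain ⟨p, hp⟩ := CharP.exists F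
  have : Fact p.Prime := ⟨CharP.char_is_prime F p⟩
  obtain ⟨a, ha⟩ := hX
  have ha' : φ' ⬝ᵥ (a • v') = 0 := by rw [dotProduct_smul, h', smul_zero]
  have h1 := eq_of_mk (p := p) (tv_pow_p h) (tv_pow_p ha') ha
  have h2 : ∀ x, (φ ⬝ᵥ x) • v = (φ' ⬝ᵥ x) • a • v' := by
    intro x
    have := tv_mulVec h x
    rw [h1, tv_mulVec ha'] at this
    exact (add_left_cancel this).symm
  obtain ⟨y, hy⟩ := exists_dot_ne hφ
  rw [dotProduct_comm] at hy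
  have h3 := h2 y
  rw [hy, one_smul, smul_smul] at h3
  have hpar := par_of_smul hv h3
  refine ⟨hpar.symm, ?_⟩
  obtain ⟨ψ, hψ⟩ := exists_dot_ne hv
  have h4 : φ = (ψ ⬝ᵥ (a • v')) • φ' := by
    apply dotProduct_eq
    intro x
    have := congrArg (fun z => ψ ⬝ᵥ z) (h2 x)
    simp only [dotProduct_smul, hψ, smul_eq_mul, mul_one] at this
    rw [this, smul_dotProduct, dotProduct_smul, smul_eq_mul, smul_eq_mul]
    ring
  exact (par_of_smul hφ h4).symm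

theorem adj_of {v φ v' φ' : ι → F} (h : φ ⬝ᵥ v = 0)
    (h' : φ' ⬝ᵥ v' = 0) (hp : Par v v' ∨ Par φ φ')
    {x y : SpecialLinearGroup ι F ⧸ Subgroup.center (SpecialLinearGroup ι F)}
    (hx : x ∈ X v φ) (hy : y ∈ X v' φ') : IsT (x * y) := by
  obtain ⟨a, rfl⟩ := hx
  obtain ⟨b, rfl⟩ := hy
  rcases hp with ⟨c, hc, rfl⟩ | ⟨c, hc, rfl⟩
  · rw [smul_smul, tv_smul a, tv_smul (b * c), ← QuotientGroup.mk_mul, tv_mul_right]
    · refine ⟨v, _, ?_, rfl⟩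
      rw [dotProduct_smul, smul_eq_zero, or_iff_right hc] at h'
      rw [add_dotProduct, smul_dotProduct, smul_dotProduct, h, h']
      simp
    · rw [smul_dotProduct, h, smul_zero]
    · rw [dotProduct_smul, smul_eq_zero, or_iff_right hc] at h'
      rw [smul_dotProduct, h', smul_zero]
  · rw [smul_dotProduct, smul_eq_zero, or_iff_right hc] at h'
    rw [← tv_smul c, ← QuotientGroup.mk_mul, tv_mul_left]
    · refine ⟨_, φ, ?_, rfl⟩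
      rw [dotProduct_add, dotProduct_smul, dotProduct_smul, dotProduct_smul, h, h']
      simp
    · rw [dotProduct_smul, h, smul_zero]
    · rw [dotProduct_smul, dotProduct_smul, h', smul_zero, smul_zero]

theorem par_of_adj (h3 : 3 ≤ Fintype.card ι) {v φ v' φ' : ι → F} (hv : v ≠ 0) (hφ : φ ≠ 0)
    (h : φ ⬝ᵥ v = 0) (hv' : v' ≠ 0) (hφ' : φ' ≠ 0) (h' : φ' ⬝ᵥ v' = 0)
    (hT : IsT ((QuotientGroup.mk (tv v φ) :
      SpecialLinearGroup ι F ⧸ Subgroup.center (SpecialLinearGroup ι F)) *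
      QuotientGroup.mk (tv v' φ'))) : Par v v' ∨ Par φ φ' := by
  obtain ⟨w, ψ, hw, hT⟩ := hT
  rw [← QuotientGroup.mk_mul, eq_comm, QuotientGroup.eq] at hT
  obtain ⟨c, -, hc⟩ := Matrix.SpecialLinearGroup.mem_center_iff.mp hT
  have hc' : tv v φ * tv v' φ' = tv w ψ * ((tv w ψ)⁻¹ * (tv v φ * tv v' φ')) := by group
  have h1 : ∀ x, (tv v φ * tv v' φ' : SpecialLinearGroup ι F).1 *ᵥ x =
      c • (x + (ψ ⬝ᵥ x) • w) := by
    intro x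
    rw [hc', Matrix.SpecialLinearGroup.coe_mul, ← hc, ← mulVec_mulVec, scalar_apply]
    have h2 : (diagonal fun _ : ι => c) *ᵥ x = c • x := by
      ext i; rw [mulVec_diagonal, Pi.smul_apply, smul_eq_mul]
    rw [h2, mulVec_smul, tv_mulVec hw]
  have h2 : ∀ x, (tv v φ * tv v' φ' : SpecialLinearGroup ι F).1 *ᵥ x =
      x + (φ' ⬝ᵥ x) • (v' + (φ ⬝ᵥ v') • v) + (φ ⬝ᵥ x) • v := by
    intro x
    rw [Matrix.SpecialLinearGroup.coe_mul, ← mulVec_mulVec, tv_mulVec h', tv_mulVec h,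
      dotProduct_add, dotProduct_smul, add_smul, smul_add, smul_eq_mul, ← smul_smul]
    abel
  obtain ⟨u, hu, hu1, hu2⟩ := exists_perp2 h3 φ φ'
  have hc1 : c = 1 := by
    have h4 := h1 u
    rw [h2 u, hu1, hu2, zero_smul, zero_smul, add_zero, add_zero] at h4
    by_contra hne
    have h5 := congrArg (fun z => ψ ⬝ᵥ z) h4
    simp only [dotProduct_smul, dotProduct_add, hw, smul_eq_mul, mul_zero, add_zero] at h5
    have h6 : ψ ⬝ᵥ u = 0 := by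
      have : (c - 1) * (ψ ⬝ᵥ u) = 0 := by rw [sub_mul, ← h5, one_mul, sub_self]
      exact (mul_eq_zero.mp this).resolve_left (sub_ne_zero.mpr hne)
    rw [h6, zero_smul, add_zero] at h4
    have h7 : (c - 1) • u = 0 := by rw [sub_smul, ← h4, one_smul, sub_self]
    exact (smul_eq_zero.mp h7).elim (fun hh => hne (sub_eq_zero.mp hh)) hu
  have h4 : ∀ x, (φ' ⬝ᵥ x) • (v' + (φ ⬝ᵥ v') • v) + (φ ⬝ᵥ x) • v = (ψ ⬝ᵥ x) • w := by
    intro x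
    have := h1 x
    rw [h2 x, hc1, one_smul, add_assoc] at this
    exact add_left_cancel this
  by_contra hcon
  push Not at hcon
  obtain ⟨hp1, hp2⟩ := hcon
  obtain ⟨x, hx1, hx2⟩ := exists_sep hφ' hφ (fun hh => hp2 hh.symm)
  obtain ⟨y, hy1, hy2⟩ := exists_sep hφ hφ' hp2
  rw [dotProduct_comm] at hx1 hx2 hy1 hy2
  have h5 := h4 x
  rw [hx1, hx2, zero_smul, zero_add, one_smul] at h5
  have h6 := h4 y
  rw [hy1, hy2, zero_smul, add_zero, one_smul] at h6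
  have hψ : ψ ⬝ᵥ x ≠ 0 := by
    intro hh
    rw [hh, zero_smul] at h5
    exact hv h5
  have h7 : w = (ψ ⬝ᵥ x)⁻¹ • v := by rw [h5, smul_smul, inv_mul_cancel₀ hψ, one_smul]
  have h8 : v' = ((ψ ⬝ᵥ y) * (ψ ⬝ᵥ x)⁻¹ - φ ⬝ᵥ v') • v := by
    rw [sub_smul, ← smul_smul, ← h7, ← h6]
    abel
  exact hp1 (par_of_smul hv' h8)

/-- if the union of two equivalence relations is total then one of them is. -/
theorem total_of_union {I : Type*} (R S : I → I → Prop) (hR : ∀ i j, R i j → R j i)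
    (hR' : ∀ i j k, R i j → R j k → R i k) (hS : ∀ i j, S i j → S j i)
    (hS' : ∀ i j k, S i j → S j k → S i k) (h : ∀ i j, R i j ∨ S i j) :
    (∀ i j, R i j) ∨ (∀ i j, S i j) := by
  by_contra hcon
  push Not at hcon
  obtain ⟨⟨i, j, hij⟩, ⟨k, l, hkl⟩⟩ := hcon
  have h1 : S i j := (h i j).resolve_left hij
  -- every m is S-related to i
  have h2 : ∀ m, S i m := by
    intro m
    by_contra hm
    have h3 : R i m := (h i m).resolve_right hm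
    have h4 : R j m := by
      refine (h j m).resolve_right fun hjm => hm (hS' _ _ _ h1 hjm)
    exact hij (hR' _ _ _ h3 (hR _ _ h4))
  exact hkl (hS' _ _ _ (hS _ _ (h2 k)) (h2 l))

end Adj

section Coll

variable {F : Type*} [Field F] [Finite F] {ι : Type*} [Fintype ι] [DecidableEq ι]

/-- `α` is induced by a collineation. -/
def Good (α : MulAut (SpecialLinearGroup ι F ⧸ Subgroup.center (SpecialLinearGroup ι F))) : Prop :=
  ∃ π ρ : (ι → F) → (ι → F), (∀ v, v ≠ 0 → π v ≠ 0) ∧ (∀ v, v ≠ 0 → ρ v ≠ 0) ∧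
    (∀ v φ : ι → F, v ≠ 0 → φ ≠ 0 → φ ⬝ᵥ v = 0 → ρ φ ⬝ᵥ π v = 0) ∧
    ∀ v φ : ι → F, v ≠ 0 → φ ≠ 0 → φ ⬝ᵥ v = 0 → ∀ x, x ∈ X v φ ↔ α x ∈ X (π v) (ρ φ)

theorem iS_X (v φ : ι → F) (x : SpecialLinearGroup ι F ⧸ Subgroup.center (SpecialLinearGroup ι F)) :
    x ∈ X v φ ↔ dn iS x ∈ X φ v := by
  have h1 : ∀ a : F, dn iS (QuotientGroup.mk (tv (a • v) φ)) =
      (QuotientGroup.mk (tv ((-a) • φ) v) :
        SpecialLinearGroup ι F ⧸ Subgroup.center (SpecialLinearGroup ι F)) := by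
    intro a
    rw [dn_mk, iS_tv, ← tv_smul, smul_neg, neg_smul]
  constructor
  · rintro ⟨a, rfl⟩
    exact ⟨-a, h1 a⟩
  · rintro ⟨a, h⟩
    refine ⟨-a, ?_⟩
    apply (dn (iS : MulAut (SpecialLinearGroup ι F))).injective
    rw [h, h1, neg_neg]

theorem good_or (h3 : 3 ≤ Fintype.card ι)
    (α : MulAut (SpecialLinearGroup ι F ⧸ Subgroup.center (SpecialLinearGroup ι F))) :
    Good α ∨ Good (α * dn iS) := by
  have h2 : 2 ≤ Fintype.card ι := by omega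
  have hex : ∀ v φ : ι → F, ∃ v' φ' : ι → F, v ≠ 0 → φ ≠ 0 → φ ⬝ᵥ v = 0 →
      (v' ≠ 0 ∧ φ' ≠ 0 ∧ φ' ⬝ᵥ v' = 0 ∧ ∀ x, x ∈ X v φ ↔ α x ∈ X v' φ') := by
    intro v φ
    by_cases hh : v ≠ 0 ∧ φ ≠ 0 ∧ φ ⬝ᵥ v = 0
    · obtain ⟨v', φ', h⟩ := exists_root h2 α hh.1 hh.2.1 hh.2.2
      exact ⟨v', φ', fun _ _ _ => h⟩
    · exact ⟨0, 0, fun h1 h2 h3 => absurd ⟨h1, h2, h3⟩ hh⟩
  choose a b hab using hex
  -- adjacency is preserved
  have hfwd : ∀ v φ v' φ', v ≠ 0 → φ ≠ 0 → φ ⬝ᵥ v = 0 → v' ≠ 0 → φ' ≠ 0 → φ' ⬝ᵥ v' = 0 →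
      (Par v v' ∨ Par φ φ') → (Par (a v φ) (a v' φ') ∨ Par (b v φ) (b v' φ')) := by
    intro v φ v' φ' hv hφ h hv' hφ' h' hp
    obtain ⟨h11, h12, h13, h14⟩ := hab v φ hv hφ h
    obtain ⟨h21, h22, h23, h24⟩ := hab v' φ' hv' hφ' h'
    obtain ⟨x, hx⟩ := α.surjective (QuotientGroup.mk (tv (a v φ) (b v φ)))
    obtain ⟨y, hy⟩ := α.surjective (QuotientGroup.mk (tv (a v' φ') (b v' φ')))
    have hxm : x ∈ X v φ := by rw [h14, hx]; exact ⟨1, by rw [one_smul]⟩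
    have hym : y ∈ X v' φ' := by rw [h24, hy]; exact ⟨1, by rw [one_smul]⟩
    have hT := isT_map h2 α (adj_of h h' hp hxm hym)
    rw [_root_.map_mul, hx, hy] at hT
    exact par_of_adj h3 h11 h12 h13 h21 h22 h23 hT
  have hbwd : ∀ v φ v' φ', v ≠ 0 → φ ≠ 0 → φ ⬝ᵥ v = 0 → v' ≠ 0 → φ' ≠ 0 → φ' ⬝ᵥ v' = 0 →
      (Par (a v φ) (a v' φ') ∨ Par (b v φ) (b v' φ')) → (Par v v' ∨ Par φ φ') := by
    intro v φ v' φ' hv hφ h hv' hφ' h' hp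
    obtain ⟨h11, h12, h13, h14⟩ := hab v φ hv hφ h
    obtain ⟨h21, h22, h23, h24⟩ := hab v' φ' hv' hφ' h'
    have hxm : α (QuotientGroup.mk (tv v φ)) ∈ X (a v φ) (b v φ) := by
      rw [← h14]; exact ⟨1, by rw [one_smul]⟩
    have hym : α (QuotientGroup.mk (tv v' φ')) ∈ X (a v' φ') (b v' φ') := by
      rw [← h24]; exact ⟨1, by rw [one_smul]⟩
    have hT := isT_map h2 α⁻¹ (adj_of h13 h23 hp hxm hym)
    rw [← _root_.map_mul, MulAut.inv_apply_self] at hT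
    exact par_of_adj h3 hv hφ h hv' hφ' h' hT
  -- dichotomy for a fixed centre
  have hcen : ∀ v, v ≠ 0 → (∀ φ φ', φ ≠ 0 → φ' ≠ 0 → φ ⬝ᵥ v = 0 → φ' ⬝ᵥ v = 0 →
      Par (a v φ) (a v φ')) ∨ (∀ φ φ', φ ≠ 0 → φ' ≠ 0 → φ ⬝ᵥ v = 0 → φ' ⬝ᵥ v = 0 →
      Par (b v φ) (b v φ')) := by
    intro v hv
    rcases total_of_union (I := {φ : ι → F // φ ≠ 0 ∧ φ ⬝ᵥ v = 0})
      (fun φ φ' => Par (a v φ) (a v φ')) (fun φ φ' => Par (b v φ) (b v φ'))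
      (fun _ _ h => h.symm) (fun _ _ _ h h' => h.trans h') (fun _ _ h => h.symm)
      (fun _ _ _ h h' => h.trans h') (fun φ φ' =>
        hfwd v φ v φ' hv φ.2.1 φ.2.2 hv φ'.2.1 φ'.2.2 (Or.inl (Par.refl v))) with h | h
    · exact Or.inl fun φ φ' h1 h2 h3 h4 => h ⟨φ, h1, h3⟩ ⟨φ', h2, h4⟩
    · exact Or.inr fun φ φ' h1 h2 h3 h4 => h ⟨φ, h1, h3⟩ ⟨φ', h2, h4⟩
  have haxi : ∀ φ, φ ≠ 0 → (∀ v v', v ≠ 0 → v' ≠ 0 → φ ⬝ᵥ v = 0 → φ ⬝ᵥ v' = 0 →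
      Par (a v φ) (a v' φ)) ∨ (∀ v v', v ≠ 0 → v' ≠ 0 → φ ⬝ᵥ v = 0 → φ ⬝ᵥ v' = 0 →
      Par (b v φ) (b v' φ)) := by
    intro φ hφ
    rcases total_of_union (I := {v : ι → F // v ≠ 0 ∧ φ ⬝ᵥ v = 0})
      (fun v v' => Par (a v φ) (a v' φ)) (fun v v' => Par (b v φ) (b v' φ))
      (fun _ _ h => h.symm) (fun _ _ _ h h' => h.trans h') (fun _ _ h => h.symm)
      (fun _ _ _ h h' => h.trans h') (fun v v' =>
        hfwd v φ v' φ v.2.1 hφ v.2.2 v'.2.1 hφ v'.2.2 (Or.inr (Par.refl φ))) with h | h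
    · exact Or.inl fun φ φ' h1 h2 h3 h4 => h ⟨φ, h1, h3⟩ ⟨φ', h2, h4⟩
    · exact Or.inr fun φ φ' h1 h2 h3 h4 => h ⟨φ, h1, h3⟩ ⟨φ', h2, h4⟩
  have hne : Nonempty ι := Fintype.card_pos_iff.mp (by omega)
  obtain ⟨i0⟩ := hne
  have hv0 : (Pi.single i0 (1 : F) : ι → F) ≠ 0 := by
    intro h
    have := congrFun h i0
    rw [Pi.single_eq_same] at this
    exact one_ne_zero this
  -- no mixed types
  have hmix1 : ∀ v φ, v ≠ 0 → φ ≠ 0 → φ ⬝ᵥ v = 0 →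
      (∀ φ φ', φ ≠ 0 → φ' ≠ 0 → φ ⬝ᵥ v = 0 → φ' ⬝ᵥ v = 0 → Par (a v φ) (a v φ')) →
      (∀ v v', v ≠ 0 → v' ≠ 0 → φ ⬝ᵥ v = 0 → φ ⬝ᵥ v' = 0 → Par (a v φ) (a v' φ)) → False := by
    intro v φ hv hφ h hA hB
    obtain ⟨v', hv'0, hv'1, hv'2⟩ := exists_nonpar h3 (φ := φ) hv
    obtain ⟨φ', hφ'0, hφ'1, hφ'2⟩ := exists_nonpar h3 (φ := v) hφ
    rw [dotProduct_comm] at hφ'1
    have h4 : Par (a v' φ) (a v φ') :=
      (hB v' v hv'0 hv hv'1 h).trans (hA φ φ' hφ hφ'0 h hφ'1)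
    rcases hbwd v' φ v φ' hv'0 hφ hv'1 hv hφ'0 hφ'1 (Or.inl h4) with h5 | h5
    · exact hv'2 h5.symm
    · exact hφ'2 h5
  have hmix2 : ∀ v φ, v ≠ 0 → φ ≠ 0 → φ ⬝ᵥ v = 0 →
      (∀ φ φ', φ ≠ 0 → φ' ≠ 0 → φ ⬝ᵥ v = 0 → φ' ⬝ᵥ v = 0 → Par (b v φ) (b v φ')) →
      (∀ v v', v ≠ 0 → v' ≠ 0 → φ ⬝ᵥ v = 0 → φ ⬝ᵥ v' = 0 → Par (b v φ) (b v' φ)) → False := by
    intro v φ hv hφ h hA hB
    obtain ⟨v', hv'0, hv'1, hv'2⟩ := exists_nonpar h3 (φ := φ) hv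
    obtain ⟨φ', hφ'0, hφ'1, hφ'2⟩ := exists_nonpar h3 (φ := v) hφ
    rw [dotProduct_comm] at hφ'1
    have h4 : Par (b v' φ) (b v φ') :=
      (hB v' v hv'0 hv hv'1 h).trans (hA φ φ' hφ hφ'0 h hφ'1)
    rcases hbwd v' φ v φ' hv'0 hφ hv'1 hv hφ'0 hφ'1 (Or.inr h4) with h5 | h5
    · exact hv'2 h5.symm
    · exact hφ'2 h5
  rcases hcen _ hv0 with hP | hP
  · left
    -- all axes have type b
    have hA1 : ∀ φ, φ ≠ 0 → φ ⬝ᵥ (Pi.single i0 (1 : F) : ι → F) = 0 → (∀ v v', v ≠ 0 → v' ≠ 0 →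
        φ ⬝ᵥ v = 0 → φ ⬝ᵥ v' = 0 → Par (b v φ) (b v' φ)) := by
      intro φ hφ h
      exact (haxi φ hφ).resolve_left fun hB => hmix1 _ φ hv0 hφ h hP hB
    have hC : ∀ v, v ≠ 0 → (∀ φ φ', φ ≠ 0 → φ' ≠ 0 → φ ⬝ᵥ v = 0 → φ' ⬝ᵥ v = 0 →
        Par (a v φ) (a v φ')) := by
      intro v hv
      obtain ⟨φ, hφ0, hφ1, hφ2⟩ := exists_perp2 h3 v (Pi.single i0 (1 : F))
      rw [dotProduct_comm] at hφ1 hφ2
      exact (hcen v hv).resolve_right fun hB => hmix2 v φ hv hφ0 hφ1 hB (hA1 φ hφ0 hφ2)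
    have hA : ∀ φ, φ ≠ 0 → (∀ v v', v ≠ 0 → v' ≠ 0 →
        φ ⬝ᵥ v = 0 → φ ⬝ᵥ v' = 0 → Par (b v φ) (b v' φ)) := by
      intro φ hφ
      obtain ⟨v, hv0, hv1, -⟩ := exists_perp2 h3 φ φ
      exact (haxi φ hφ).resolve_left fun hB => hmix1 v φ hv0 hφ hv1 (hC v hv0) hB
    have hperp : ∀ v : ι → F, ∃ φ : ι → F, φ ≠ 0 ∧ v ⬝ᵥ φ = 0 := fun v => by
      obtain ⟨φ, h1, h2, -⟩ := exists_perp2 h3 v v
      exact ⟨φ, h1, h2⟩
    choose pp hpp0 hpp1 using hperp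
    refine ⟨fun v => a v (pp v), fun φ => b (pp φ) φ, ?_, ?_, ?_, ?_⟩
    · intro v hv
      exact (hab v (pp v) hv (hpp0 v) (by rw [dotProduct_comm]; exact hpp1 v)).1
    · intro v hv
      exact (hab (pp v) v (hpp0 v) hv (hpp1 v)).2.1
    · intro v φ hv hφ h
      have h4 := hC v hv (pp v) φ (hpp0 v) hφ (by rw [dotProduct_comm]; exact hpp1 v) h
      have h5 := hA φ hφ (pp φ) v (hpp0 φ) hv (hpp1 φ) h
      obtain ⟨h11, h12, h13, h14⟩ := hab v φ hv hφ h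
      obtain ⟨c, hc, hc'⟩ := h4
      obtain ⟨d, hd, hd'⟩ := h5
      rw [hc', hd', dotProduct_smul, smul_dotProduct, smul_eq_zero, smul_eq_zero,
        or_iff_right hc, or_iff_right hd] at h13
      exact h13
    · intro v φ hv hφ h x
      have h4 := hC v hv (pp v) φ (hpp0 v) hφ (by rw [dotProduct_comm]; exact hpp1 v) h
      have h5 := hA φ hφ (pp φ) v (hpp0 φ) hv (hpp1 φ) h
      obtain ⟨h11, h12, h13, h14⟩ := hab v φ hv hφ h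
      obtain ⟨c, hc, hc'⟩ := h4
      obtain ⟨d, hd, hd'⟩ := h5
      rw [h14, hc', hd', X_smul hc hd]
  · right
    have hA1 : ∀ φ, φ ≠ 0 → φ ⬝ᵥ (Pi.single i0 (1 : F) : ι → F) = 0 → (∀ v v', v ≠ 0 → v' ≠ 0 →
        φ ⬝ᵥ v = 0 → φ ⬝ᵥ v' = 0 → Par (a v φ) (a v' φ)) := by
      intro φ hφ h
      exact (haxi φ hφ).resolve_right fun hB => hmix2 _ φ hv0 hφ h hP hB
    have hC : ∀ v, v ≠ 0 → (∀ φ φ', φ ≠ 0 → φ' ≠ 0 → φ ⬝ᵥ v = 0 → φ' ⬝ᵥ v = 0 →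
        Par (b v φ) (b v φ')) := by
      intro v hv
      obtain ⟨φ, hφ0, hφ1, hφ2⟩ := exists_perp2 h3 v (Pi.single i0 (1 : F))
      rw [dotProduct_comm] at hφ1 hφ2
      exact (hcen v hv).resolve_left fun hB => hmix1 v φ hv hφ0 hφ1 hB (hA1 φ hφ0 hφ2)
    have hA : ∀ φ, φ ≠ 0 → (∀ v v', v ≠ 0 → v' ≠ 0 →
        φ ⬝ᵥ v = 0 → φ ⬝ᵥ v' = 0 → Par (a v φ) (a v' φ)) := by
      intro φ hφ
      obtain ⟨v, hv0, hv1, -⟩ := exists_perp2 h3 φ φ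
      exact (haxi φ hφ).resolve_right fun hB => hmix2 v φ hv0 hφ hv1 (hC v hv0) hB
    have hperp : ∀ v : ι → F, ∃ φ : ι → F, φ ≠ 0 ∧ v ⬝ᵥ φ = 0 := fun v => by
      obtain ⟨φ, h1, h2, -⟩ := exists_perp2 h3 v v
      exact ⟨φ, h1, h2⟩
    choose pp hpp0 hpp1 using hperp
    refine ⟨fun v => a (pp v) v, fun φ => b φ (pp φ), ?_, ?_, ?_, ?_⟩
    · intro v hv
      exact (hab (pp v) v (hpp0 v) hv (hpp1 v)).1
    · intro v hv
      exact (hab v (pp v) hv (hpp0 v) (by rw [dotProduct_comm]; exact hpp1 v)).2.1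
    · intro v φ hv hφ h
      rw [dotProduct_comm] at h
      have h4 := hA v hv (pp v) φ (hpp0 v) hφ (hpp1 v) h
      have h5 := hC φ hφ (pp φ) v (hpp0 φ) hv (by rw [dotProduct_comm]; exact hpp1 φ) h
      obtain ⟨h11, h12, h13, h14⟩ := hab φ v hφ hv h
      obtain ⟨c, hc, hc'⟩ := h4
      obtain ⟨d, hd, hd'⟩ := h5
      rw [hc', hd', dotProduct_smul, smul_dotProduct, smul_eq_zero, smul_eq_zero,
        or_iff_right hc, or_iff_right hd] at h13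
      exact h13
    · intro v φ hv hφ h x
      rw [dotProduct_comm] at h
      have h4 := hA v hv (pp v) φ (hpp0 v) hφ (hpp1 v) h
      have h5 := hC φ hφ (pp φ) v (hpp0 φ) hv (by rw [dotProduct_comm]; exact hpp1 φ) h
      obtain ⟨h11, h12, h13, h14⟩ := hab φ v hφ hv h
      obtain ⟨c, hc, hc'⟩ := h4
      obtain ⟨d, hd, hd'⟩ := h5
      rw [iS_X, h14, hc', hd', X_smul hc hd]
      rfl

end Coll

end Cfsg.Agent.H16.AutL
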