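import Mathlib
import Cfsg.Agent.H16_AutL4
import Cfsg.Agent.H5_SL

set_option autoImplicit false

/-! Automorphisms of `PSL_n(F)`, `n ≥ 3`. -/

namespace Cfsg.Agent.H16.AutL

open Matrix Cfsg.Agent.H16.AutG Module
open scoped commutatorElement

section El

variable {F : Type*} [Field F] {ι : Type*} [Fintype ι] [DecidableEq ι]

/-- standard basis vectors -/
def ee (i : ι) : ι → F := Pi.single i 1

theorem ee_ne (i : ι) : (ee i : ι → F) ≠ 0 := by
  intro h
  have := congrFun h i
  rw [ee, Pi.single_eq_same] at this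
  exact one_ne_zero this

theorem ee_self (i : ι) : (ee i : ι → F) i = 1 := by rw [ee, Pi.single_eq_same]

theorem ee_other {i j : ι} (h : i ≠ j) : (ee i : ι → F) j = 0 := by
  rw [ee, Pi.single_eq_of_ne (Ne.symm h)]

theorem ee_dot (i : ι) (v : ι → F) : ee i ⬝ᵥ v = v i := by
  rw [ee, single_dotProduct, one_mul]

theorem dot_ee (i : ι) (v : ι → F) : v ⬝ᵥ ee i = v i := by
  rw [dotProduct_comm, ee_dot]

theorem ee_dot_ee {i j : ι} (h : i ≠ j) : (ee j : ι → F) ⬝ᵥ ee i = 0 := by
  rw [ee_dot, ee, Pi.single_eq_of_ne (Ne.symm h)]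

/-- image of the elementary transvections -/
noncomputable def T (i j : ι) (a : F) : SpecialLinearGroup ι F ⧸ Subgroup.center (SpecialLinearGroup ι F) :=
  QuotientGroup.mk (tv (a • ee i) (ee j))

theorem tv_ee {i j : ι} (h : i ≠ j) (a : F) :
    tv (a • ee i) (ee j) = Matrix.SpecialLinearGroup.transvection h a := by
  refine sl_mat_ext ?_
  rw [tv_coe (by rw [dotProduct_smul, ee_dot_ee h, smul_zero]),
    Matrix.SpecialLinearGroup.transvection_coe]
  congr 1
  ext k l
  rw [vecMulVec_apply, Matrix.single_apply, Pi.smul_apply, smul_eq_mul, ee, ee]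
  by_cases hk : i = k
  · subst hk
    by_cases hl : j = l
    · subst hl
      simp
    · simp [hl, Ne.symm hl]
  · simp [hk, Ne.symm hk]

theorem T_eq {i j : ι} (h : i ≠ j) (a : F) :
    T i j a = QuotientGroup.mk (Matrix.SpecialLinearGroup.transvection h a) := by
  rw [T, tv_ee h]

theorem T_mem (i j : ι) (a : F) : T i j a ∈ X (ee i : ι → F) (ee j) := ⟨a, rfl⟩

theorem T_add {i j : ι} (h : i ≠ j) (a b : F) : (T i j (a + b) : SpecialLinearGroup ι F ⧸ _) = T i j a * T i j b := by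
  rw [T, T, T, ← QuotientGroup.mk_mul, tv_mul_left, add_smul]
  · rw [dotProduct_smul, ee_dot_ee h, smul_zero]
  · rw [dotProduct_smul, ee_dot_ee h, smul_zero]

theorem T_comm {i j k : ι} (hij : i ≠ j) (hjk : j ≠ k) (hik : i ≠ k) (a b : F) :
    ⁅(T i j a : SpecialLinearGroup ι F ⧸ Subgroup.center (SpecialLinearGroup ι F)), T j k b⁆ = T i k (a * b) := by
  rw [T_eq hij, T_eq hjk, T_eq hik, ← H5.SL.commutator_transvection hij hjk hik a b]
  rfl

theorem cj_T (g : GL ι F) (i j : ι) (a : F) :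
    dn (cjS g) (T i j a) = QuotientGroup.mk (tv (a • ((g : Matrix ι ι F) *ᵥ ee i))
      (ee j ᵥ* ((g⁻¹ : GL ι F) : Matrix ι ι F))) := by
  rw [T, dn_mk, cjS_tv, mulVec_smul]

/-- automorphisms of `PSL` agreeing on the elementary transvections are equal. -/
theorem aut_ext [Nontrivial ι]
    {α β : MulAut (SpecialLinearGroup ι F ⧸ Subgroup.center (SpecialLinearGroup ι F))}
    (h : ∀ (i j : ι) (a : F), i ≠ j → α (T i j a) = β (T i j a)) : α = β := by
  ext1 x
  induction x using QuotientGroup.induction_on with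
  | H s =>
    have hs : s ∈ Subgroup.closure {g : SpecialLinearGroup ι F | ∃ (i j : ι) (hij : i ≠ j) (a : F),
      g = Matrix.SpecialLinearGroup.transvection hij a} := by
      rw [H5.SL.closure_transvections]; trivial
    induction hs using Subgroup.closure_induction with
    | mem x hx =>
      obtain ⟨i, j, hij, a, rfl⟩ := hx
      have := h i j a hij
      rwa [T_eq hij] at this
    | one => rw [QuotientGroup.mk_one, _root_.map_one, _root_.map_one]
    | mul x y _ _ hx hy => rw [QuotientGroup.mk_mul, _root_.map_mul, _root_.map_mul, hx, hy]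
    | inv x _ hx => rw [QuotientGroup.mk_inv, _root_.map_inv, _root_.map_inv, hx]

theorem fS_T (σ : F ≃+* F) (i j : ι) (a : F) :
    dn (fS σ) (T i j a) = (T i j (σ a) : SpecialLinearGroup ι F ⧸ _) := by
  rw [T, T, dn_mk, fS_tv]
  congr 2
  · ext k
    rw [Pi.smul_apply, smul_eq_mul, Pi.smul_apply, smul_eq_mul, _root_.map_mul]
    congr 1
    rw [ee]
    by_cases hk : k = i
    · subst hk; simp
    · simp [hk]
  · ext k
    rw [ee]
    by_cases hk : k = j
    · subst hk; simp
    · simp [hk]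

/-- the diagonal matrix in `GL`. -/
def dgl (d : ι → Fˣ) : GL ι F where
  val := diagonal fun i => (d i : F)
  inv := diagonal fun i => ((d i)⁻¹ : Fˣ)
  val_inv := by
    rw [diagonal_mul_diagonal]
    simp
  inv_val := by
    rw [diagonal_mul_diagonal]
    simp

theorem dgl_T (d : ι → Fˣ) (i j : ι) (a : F) :
    dn (cjS (dgl d)) (T i j a) = (T i j ((d i : F) * a * ((d j)⁻¹ : Fˣ)) : SpecialLinearGroup ι F ⧸ _) := by
  rw [cj_T, T]
  have h1 : ((dgl d : GL ι F) : Matrix ι ι F) *ᵥ ee i = (d i : F) • ee i := by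
    ext k
    change (diagonal (fun i => (d i : F)) *ᵥ ee i) k = _
    rw [mulVec_diagonal, Pi.smul_apply, smul_eq_mul, ee]
    by_cases hk : k = i
    · subst hk; simp
    · simp [hk]
  have h2 : ee j ᵥ* (((dgl d)⁻¹ : GL ι F) : Matrix ι ι F) = (((d j)⁻¹ : Fˣ) : F) • ee j := by
    ext k
    change (ee j ᵥ* diagonal (fun i => (((d i)⁻¹ : Fˣ) : F))) k = _
    rw [vecMul_diagonal, Pi.smul_apply, smul_eq_mul, ee]
    by_cases hk : k = j
    · subst hk; simp
    · simp [hk]
  rw [h1, h2, ← tv_smul]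
  congr 2
  rw [smul_smul, smul_smul]
  congr 1
  ring

variable [Finite F]

theorem T_inj {i j : ι} (h : i ≠ j) {a b : F}
    (hab : (T i j a : SpecialLinearGroup ι F ⧸ _) = T i j b) : a = b := by
  obtain ⟨p, hp⟩ := CharP.exists F
  have : Fact p.Prime := ⟨CharP.char_is_prime F p⟩
  have h0 : ∀ c : F, (ee j : ι → F) ⬝ᵥ (c • ee i) = 0 := fun c => by
    rw [dotProduct_smul, ee_dot_ee h, smul_zero]
  have h1 := eq_of_mk (p := p) (tv_pow_p (h0 a)) (tv_pow_p (h0 b)) hab
  have h2 := tv_mulVec (h0 a) (ee j)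
  rw [h1, tv_mulVec (h0 b)] at h2
  have h3 := congrFun (add_left_cancel h2) i
  rw [ee_dot, ee] at h3
  simpa [ee] using h3.symm

/-- `SL`-level: if `α` maps root `i j` to itself we get a bijection of `F`. -/
theorem exists_f {α : MulAut (SpecialLinearGroup ι F ⧸ Subgroup.center (SpecialLinearGroup ι F))}
    (h : ∀ i j : ι, i ≠ j → ∀ x, x ∈ X (ee i : ι → F) (ee j) ↔ α x ∈ X (ee i : ι → F) (ee j)) :
    ∃ f : ι → ι → F → F, (∀ i j a, i ≠ j → α (T i j a) = T i j (f i j a)) ∧
      (∀ i j a b, i ≠ j → f i j (a + b) = f i j a + f i j b) ∧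
      (∀ i j, i ≠ j → Function.Injective (f i j)) ∧
      (∀ i j k a b, i ≠ j → j ≠ k → i ≠ k → f i k (a * b) = f i j a * f j k b) := by
  have hex : ∀ (i j : ι) (a : F), ∃ b : F, i ≠ j → α (T i j a) = T i j b := by
    intro i j a
    by_cases hij : i ≠ j
    · obtain ⟨b, hb⟩ := (h i j hij _).mp (T_mem i j a)
      exact ⟨b, fun _ => hb⟩
    · exact ⟨0, fun hh => absurd hh hij⟩
  choose f hf using hex
  refine ⟨f, hf, ?_, ?_, ?_⟩
  · intro i j a b hij
    apply T_inj hij
    rw [← hf i j _ hij, T_add hij, _root_.map_mul, hf i j a hij, hf i j b hij, T_add hij]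
  · intro i j hij a b hab
    apply T_inj hij
    apply α.injective
    rw [hf i j a hij, hf i j b hij, hab]
  · intro i j k a b hij hjk hik
    apply T_inj hik
    rw [← hf i k _ hik, ← T_comm hij hjk hik, map_commutatorElement, hf i j a hij, hf j k b hjk,
      T_comm hij hjk hik]

theorem exists_third (h3 : 3 ≤ Fintype.card ι) (i j : ι) : ∃ k, k ≠ i ∧ k ≠ j := by
  by_contra hcon
  push Not at hcon
  have : (Finset.univ : Finset ι) ⊆ {i, j} := by
    intro k _
    simp only [Finset.mem_insert, Finset.mem_singleton]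
    by_cases h : k = i
    · exact Or.inl h
    · exact Or.inr (hcon k h)
  have := Finset.card_le_card this
  rw [Finset.card_univ] at this
  have h2 := Finset.card_le_two (a := i) (b := j)
  omega

/-- an automorphism fixing the coordinate root subgroups is diagonal times field. -/
theorem of_fix (h3 : 3 ≤ Fintype.card ι)
    {α : MulAut (SpecialLinearGroup ι F ⧸ Subgroup.center (SpecialLinearGroup ι F))}
    (h : ∀ i j : ι, i ≠ j → ∀ x, x ∈ X (ee i : ι → F) (ee j) ↔ α x ∈ X (ee i : ι → F) (ee j)) :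
    ∃ (d : ι → Fˣ) (σ : F ≃+* F), α = dn (cjS (dgl d)) * dn (fS σ) := by
  obtain ⟨f, hf, hadd, hinj, hmul⟩ := exists_f h
  have hnt : Nontrivial ι := Fintype.one_lt_card_iff_nontrivial.mp (by omega)
  obtain ⟨i0, i1, h01⟩ := exists_pair_ne ι
  have hf0 : ∀ i j, i ≠ j → f i j 0 = 0 := by
    intro i j hij
    have := hadd i j 0 0 hij
    rw [add_zero] at this
    exact left_eq_add.mp this
  have hf1 : ∀ i j, i ≠ j → f i j 1 ≠ 0 := by
    intro i j hij h1
    exact one_ne_zero (hinj i j hij (h1.trans (hf0 i j hij).symm))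
  let d : ι → Fˣ := fun j => if hj : i0 = j then 1 else Units.mk0 (f i0 j 1) (hf1 i0 j hj)
  have hd0 : d i0 = 1 := dif_pos rfl
  have hdj : ∀ j, i0 ≠ j → (d j : F) = f i0 j 1 := fun j hj => by
    simp only [d, dif_neg hj, Units.val_mk0]
  -- the normalised functions
  let f' : ι → ι → F → F := fun i j a => (d i : F) * f i j a * ((d j)⁻¹ : Fˣ)
  have hf' : ∀ i j a, i ≠ j → (dn (cjS (dgl d)) * α) (T i j a) = T i j (f' i j a) := by
    intro i j a hij
    rw [MulAut.mul_apply, hf i j a hij, dgl_T]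
  have hadd' : ∀ i j a b, i ≠ j → f' i j (a + b) = f' i j a + f' i j b := by
    intro i j a b hij
    simp only [f', hadd i j a b hij]
    ring
  have hinj' : ∀ i j, i ≠ j → Function.Injective (f' i j) := by
    intro i j hij a b hab
    simp only [f'] at hab
    have h1 := mul_right_cancel₀ (Units.ne_zero _) hab
    exact hinj i j hij (mul_left_cancel₀ (Units.ne_zero _) h1)
  have hmul' : ∀ i j k a b, i ≠ j → j ≠ k → i ≠ k → f' i k (a * b) = f' i j a * f' j k b := by
    intro i j k a b hij hjk hik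
    simp only [f', hmul i j k a b hij hjk hik]
    have : ((d j)⁻¹ : Fˣ) * (d j : F) = 1 := by rw [← Units.val_mul, inv_mul_cancel, Units.val_one]
    calc (d i : F) * (f i j a * f j k b) * ((d k)⁻¹ : Fˣ) =
        (d i : F) * f i j a * (((d j)⁻¹ : Fˣ) * (d j : F)) * f j k b * ((d k)⁻¹ : Fˣ) := by
          rw [this]; ring
      _ = _ := by ring
  have h1a : ∀ j, i0 ≠ j → f' i0 j 1 = 1 := by
    intro j hj
    simp only [f', hd0, Units.val_one, one_mul]
    rw [← hdj j hj, ← Units.val_mul, mul_inv_cancel, Units.val_one]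
  have h1b : ∀ j k, j ≠ k → f' j k 1 = 1 := by
    have h1b' : ∀ j k, j ≠ k → i0 ≠ j → i0 ≠ k → f' j k 1 = 1 := by
      intro j k hjk hj hk
      have := hmul' i0 j k 1 1 hj hjk hk
      rw [one_mul, h1a j hj, h1a k hk, one_mul] at this
      exact this.symm
    intro j k hjk
    rcases eq_or_ne i0 j with rfl | hj
    · exact h1a k hjk
    rcases eq_or_ne i0 k with rfl | hk
    · obtain ⟨l, hl1, hl2⟩ := exists_third h3 j i0
      have := hmul' j i0 l 1 1 hjk hl2.symm hl1.symm
      rw [one_mul, h1a l hl2.symm, h1b' j l hl1.symm hj hl2.symm, mul_one] at this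
      exact this.symm
    · exact h1b' j k hjk hj hk
  have hA : ∀ i j k a, i ≠ j → j ≠ k → i ≠ k → f' i j a = f' i k a := by
    intro i j k a hij hjk hik
    have := hmul' i j k a 1 hij hjk hik
    rw [mul_one, h1b j k hjk, mul_one] at this
    exact this.symm
  have hB : ∀ i j k a, i ≠ j → j ≠ k → i ≠ k → f' i k a = f' j k a := by
    intro i j k a hij hjk hik
    have := hmul' i j k 1 a hij hjk hik
    rw [one_mul, h1b i j hij, one_mul] at this
    exact this
  have hC : ∀ i j k l a, i ≠ j → k ≠ l → f' i j a = f' k l a := by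
    intro i j k l a hij hkl
    rcases eq_or_ne i k with rfl | hik
    · rcases eq_or_ne j l with rfl | hjl
      · rfl
      · exact hA i j l a hij hjl hkl
    · rcases eq_or_ne i l with rfl | hil
      · obtain ⟨m, hm1, hm2⟩ := exists_third h3 i k
        have e1 : f' k i a = f' k m a := hA k i m a hkl hm1.symm hm2.symm
        have e2 : f' k m a = f' i m a := (hB i k m a hik hm2.symm hm1.symm).symm
        rw [e1, e2]
        rcases eq_or_ne j m with rfl | hjm
        · rfl
        · exact hA i j m a hij hjm hm1.symm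
      · have e1 : f' i l a = f' k l a := hB i k l a hik hkl hil
        rw [← e1]
        rcases eq_or_ne j l with rfl | hjl
        · rfl
        · exact hA i j l a hij hjl hil
  obtain ⟨i2, h20, h21⟩ := exists_third h3 i0 i1
  let σ₀ : F →+* F :=
    { toFun := f' i0 i1
      map_one' := h1b i0 i1 h01
      map_mul' := fun a b => by
        rw [hC i0 i1 i0 i2 (a * b) h01 h20.symm, hmul' i0 i1 i2 a b h01 h21.symm h20.symm,
          hC i1 i2 i0 i1 b h21.symm h01]
      map_zero' := by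
        have := hadd' i0 i1 0 0 h01
        rw [add_zero] at this
        exact left_eq_add.mp this
      map_add' := fun a b => hadd' i0 i1 a b h01 }
  let σ : F ≃+* F := RingEquiv.ofBijective σ₀ (Finite.injective_iff_bijective.mp σ₀.injective)
  refine ⟨fun i => (d i)⁻¹, σ, ?_⟩
  have key : dn (cjS (dgl d)) * α = dn (fS σ) := by
    apply aut_ext
    intro i j a hij
    rw [hf' i j a hij, fS_T, hC i j i0 i1 a hij h01]
    rfl
  have hinv : (dgl fun i => (d i)⁻¹ : GL ι F) = (dgl d)⁻¹ := by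
    rw [eq_inv_iff_mul_eq_one]
    apply Units.ext
    change (diagonal (fun i => (((d i)⁻¹ : Fˣ) : F)) * diagonal (fun i => (d i : F)) : Matrix ι ι F) = 1
    rw [diagonal_mul_diagonal]
    simp
  rw [hinv, _root_.map_inv, _root_.map_inv, ← key, ← mul_assoc, inv_mul_cancel, one_mul]

/-- collineations: reduce to an automorphism fixing the coordinate root subgroups. -/
theorem exists_frame (h3 : 3 ≤ Fintype.card ι)
    {α : MulAut (SpecialLinearGroup ι F ⧸ Subgroup.center (SpecialLinearGroup ι F))}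
    (h : Good α) : ∃ g : GL ι F, ∀ i j : ι, i ≠ j → ∀ x, x ∈ X (ee i : ι → F) (ee j) ↔
      ((dn (cjS g))⁻¹ * α) x ∈ X (ee i : ι → F) (ee j) := by
  have h2 : 2 ≤ Fintype.card ι := by omega
  obtain ⟨π, ρ, hπ, hρ, hπρ, hX⟩ := h
  have hne : ∀ i : ι, ρ (ee i) ⬝ᵥ π (ee i) ≠ 0 := by
    intro i hi
    obtain ⟨v, φ, hv, hφ, hφv, hX'⟩ := exists_root h2 α⁻¹ (hπ _ (ee_ne i)) (hρ _ (ee_ne i)) hi
    -- adjacency
    have key : Par v (ee i) ∧ Par φ (ee i) := by
      have hmem : α (QuotientGroup.mk (tv v φ)) ∈ X (π (ee i)) (ρ (ee i)) := by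
        rw [hX', MulAut.inv_apply_self]
        exact ⟨1, by rw [one_smul]⟩
      have hmem2 : α (QuotientGroup.mk (tv v φ)) ∈ X (π v) (ρ φ) := by
        rw [← hX v φ hv hφ hφv]
        exact ⟨1, by rw [one_smul]⟩
      obtain ⟨a, ha⟩ := hmem2
      have ha0 : a ≠ 0 := by
        rintro rfl
        rw [zero_smul, tv_zero_left, QuotientGroup.mk_one, ← _root_.map_one α] at ha
        have h5 := α.injective ha
        obtain ⟨p, hp⟩ := CharP.exists F
        have : Fact p.Prime := ⟨CharP.char_is_prime F p⟩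
        have h6 := eq_of_mk (p := p) (tv_pow_p hφv) (one_pow p) h5
        obtain ⟨y, hy⟩ := exists_dot_ne hφ
        rw [dotProduct_comm] at hy
        have h7 := tv_mulVec hφv y
        rw [h6, hy, one_smul, Matrix.SpecialLinearGroup.coe_one, one_mulVec] at h7
        exact hv (left_eq_add.mp h7)
      have hpar := X_eq (v := a • π v) (φ := ρ φ) (smul_ne_zero ha0 (hπ v hv)) (hρ φ hφ)
        (by rw [dotProduct_smul, hπρ v φ hv hφ hφv, smul_zero]) (hπ _ (ee_ne i)) (hρ _ (ee_ne i)) hi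
        (by rw [← ha]; exact hmem)
      have hp1 : Par (π v) (π (ee i)) :=
        (show Par (π v) (a • π v) from ⟨a, ha0, rfl⟩).trans hpar.1
      have hp2 : Par (ρ φ) (ρ (ee i)) := hpar.2
      constructor
      · -- choose forms
        obtain ⟨ψ, hψ0, hψ1, -⟩ := exists_perp2 h3 v v
        obtain ⟨ψ', hψ'0, hψ'1, hψ'2⟩ := exists_nonpar h3 (φ := (ee i : ι → F)) hψ0
        rw [dotProduct_comm] at hψ1 hψ'1
        have hm1 : α (QuotientGroup.mk (tv v ψ)) ∈ X (π v) (ρ ψ) := by
          rw [← hX v ψ hv hψ0 hψ1]; exact ⟨1, by rw [one_smul]⟩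
        have hm2 : α (QuotientGroup.mk (tv (ee i) ψ')) ∈ X (π (ee i)) (ρ ψ') := by
          rw [← hX _ ψ' (ee_ne i) hψ'0 hψ'1]; exact ⟨1, by rw [one_smul]⟩
        have hT := isT_map h2 α⁻¹ (adj_of (hπρ v ψ hv hψ0 hψ1) (hπρ _ ψ' (ee_ne i) hψ'0 hψ'1)
          (Or.inl hp1) hm1 hm2)
        rw [← _root_.map_mul, MulAut.inv_apply_self] at hT
        exact (par_of_adj h3 hv hψ0 hψ1 (ee_ne i) hψ'0 hψ'1 hT).resolve_right hψ'2
      · obtain ⟨w, hw0, hw1, -⟩ := exists_perp2 h3 φ φ
        obtain ⟨w', hw'0, hw'1, hw'2⟩ := exists_nonpar h3 (φ := (ee i : ι → F)) hw0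
        have hm1 : α (QuotientGroup.mk (tv w φ)) ∈ X (π w) (ρ φ) := by
          rw [← hX w φ hw0 hφ hw1]; exact ⟨1, by rw [one_smul]⟩
        have hm2 : α (QuotientGroup.mk (tv w' (ee i))) ∈ X (π w') (ρ (ee i)) := by
          rw [← hX w' _ hw'0 (ee_ne i) hw'1]; exact ⟨1, by rw [one_smul]⟩
        have hT := isT_map h2 α⁻¹ (adj_of (hπρ w φ hw0 hφ hw1) (hπρ w' _ hw'0 (ee_ne i) hw'1)
          (Or.inr hp2) hm1 hm2)
        rw [← _root_.map_mul, MulAut.inv_apply_self] at hT
        exact (par_of_adj h3 hw0 hφ hw1 hw'0 (ee_ne i) hw'1 hT).resolve_left hw'2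
    obtain ⟨⟨c, hc, hc'⟩, ⟨d, hd, hd'⟩⟩ := key
    have h5 : (ee i : ι → F) ⬝ᵥ ee i = 0 := by
      have h6 : (ee i : ι → F) ⬝ᵥ ee i = (d • φ) ⬝ᵥ (c • v) := by rw [← hd', ← hc']
      rw [h6, dotProduct_smul, smul_dotProduct, hφv, smul_zero, smul_zero]
    rw [ee_dot, ee, Pi.single_eq_same] at h5
    exact one_ne_zero h5
  let M : Matrix ι ι F := Matrix.of fun k i => π (ee i) k
  let N : Matrix ι ι F := Matrix.of fun j k => ρ (ee j) k
  have hNM : N * M = diagonal fun i => ρ (ee i) ⬝ᵥ π (ee i) := by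
    ext j i
    rw [Matrix.mul_apply]
    change (∑ k, ρ (ee j) k * π (ee i) k) = _
    rcases eq_or_ne j i with rfl | hji
    · rw [diagonal_apply_eq]; rfl
    · rw [diagonal_apply_ne _ hji]
      exact hπρ (ee i) (ee j) (ee_ne i) (ee_ne j) (ee_dot_ee (Ne.symm hji))
  have hdet : M.det ≠ 0 := by
    intro h0
    have h5 := congrArg Matrix.det hNM
    rw [det_mul, h0, mul_zero, det_diagonal] at h5
    exact (Finset.prod_ne_zero_iff.mpr fun i _ => hne i) h5.symm
  let g : GL ι F := Matrix.GeneralLinearGroup.mkOfDetNeZero M hdet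
  have hg : (g : Matrix ι ι F) = M := rfl
  have hge : ∀ i, (g : Matrix ι ι F) *ᵥ ee i = π (ee i) := by
    intro i
    rw [hg, ee, mulVec_single_one]
    rfl
  have hρg : ∀ j, ρ (ee j) ᵥ* (g : Matrix ι ι F) = (ρ (ee j) ⬝ᵥ π (ee j)) • ee j := by
    intro j
    ext i
    have h5 := congrFun (congrFun hNM j) i
    rw [Matrix.mul_apply] at h5
    change (∑ k, ρ (ee j) k * M k i) = _
    change (∑ k, ρ (ee j) k * M k i) = _ at h5
    rw [h5, Pi.smul_apply, smul_eq_mul]
    rcases eq_or_ne j i with rfl | hji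
    · rw [diagonal_apply_eq, ee_self, mul_one]
    · rw [diagonal_apply_ne _ hji, ee_other hji, mul_zero]
  have heg : ∀ j, ρ (ee j) = (ρ (ee j) ⬝ᵥ π (ee j)) • (ee j ᵥ* ((g⁻¹ : GL ι F) : Matrix ι ι F)) := by
    intro j
    rw [← smul_vecMul, ← hρg, gl_vcancel']
  refine ⟨g, fun i j hij x => ?_⟩
  have e := dn_X g (ee i) (ee j) (((dn (cjS g))⁻¹ * α) x)
  rw [hge, ← MulAut.mul_apply, ← mul_assoc, mul_inv_cancel, one_mul] at e
  rw [e, hX (ee i) (ee j) (ee_ne i) (ee_ne j) (ee_dot_ee hij), heg j]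
  have := X_smul (a := (1 : F)) (b := ρ (ee j) ⬝ᵥ π (ee j)) one_ne_zero (hne j) (π (ee i))
    (ee j ᵥ* ((g⁻¹ : GL ι F) : Matrix ι ι F))
  rw [one_smul] at this
  rw [this]

theorem iS_sq : (dn iS : MulAut (SpecialLinearGroup ι F ⧸ Subgroup.center (SpecialLinearGroup ι F))) *
    dn iS = 1 := by
  rw [← _root_.map_mul]
  have : (iS : MulAut (SpecialLinearGroup ι F)) * iS = 1 := by
    ext1 s
    exact iS.left_inv s
  rw [this, _root_.map_one]

/-- the automorphisms of `PSL_n(F)`, `n ≥ 3`. -/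
theorem aut_three (h3 : 3 ≤ Fintype.card ι)
    (α : MulAut (SpecialLinearGroup ι F ⧸ Subgroup.center (SpecialLinearGroup ι F))) :
    ∃ (g : GL ι F) (σ : F ≃+* F), α = dn (cjS g) * dn (fS σ) ∨
      α = dn (cjS g) * dn (fS σ) * dn iS := by
  have key : ∀ β : MulAut (SpecialLinearGroup ι F ⧸ Subgroup.center (SpecialLinearGroup ι F)),
      Good β → ∃ (g : GL ι F) (σ : F ≃+* F), β = dn (cjS g) * dn (fS σ) := by
    intro β hβ
    obtain ⟨g, hg⟩ := exists_frame h3 hβ
    obtain ⟨d, σ, h⟩ := of_fix h3 hg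
    refine ⟨g * dgl d, σ, ?_⟩
    rw [inv_mul_eq_iff_eq_mul] at h
    rw [h, _root_.map_mul, _root_.map_mul, mul_assoc]
  rcases good_or h3 α with h | h
  · obtain ⟨g, σ, h⟩ := key α h
    exact ⟨g, σ, Or.inl h⟩
  · obtain ⟨g, σ, h⟩ := key _ h
    refine ⟨g, σ, Or.inr ?_⟩
    rw [← h, mul_assoc, iS_sq, mul_one]

end El

end Cfsg.Agent.H16.AutL
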