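import Mathlib
import Cfsg.Agent.H16_AutL5

set_option autoImplicit false

/-! Automorphisms of `PSL_2(F)`. -/

namespace Cfsg.Agent.H16.AutL

open Matrix Cfsg.Agent.H16.AutG Module

variable {F : Type*} [Field F]

theorem par_of_perp {v φ ψ : Fin 2 → F} (hv : v ≠ 0) (hφ : φ ≠ 0) (hψ : ψ ≠ 0) (h1 : φ ⬝ᵥ v = 0)
    (h2 : ψ ⬝ᵥ v = 0) : Par φ ψ := by
  have hcard : Fintype.card (Fin 2) = 2 := by simp
  obtain ⟨a, ha⟩ := mem_span_of_dot (x := ψ) hφ (fun x hx => by
    have hf := finrank_kerφ hφ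
    rw [hcard] at hf
    have hf1 : finrank F (kerφ F (Fin 2) φ) = 1 := by omega
    have hv' : (⟨v, mem_kerφ.mpr h1⟩ : kerφ F (Fin 2) φ) ≠ 0 := fun hh => hv (congrArg Subtype.val hh)
    obtain ⟨c, hc⟩ := (finrank_eq_one_iff_of_nonzero' _ hv').mp hf1
      ⟨x, mem_kerφ.mpr (by rw [dotProduct_comm]; exact hx)⟩
    have hc' : c • v = x := congrArg Subtype.val hc
    rw [← hc', smul_dotProduct, dotProduct_comm, h2, smul_zero])
  exact par_of_smul hψ ha

theorem X_congr {ι : Type*} [Fintype ι] [DecidableEq ι] {v φ v' φ' : ι → F} (h1 : Par v v')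
    (h2 : Par φ φ') : X v φ = X v' φ' := by
  obtain ⟨c, hc, rfl⟩ := h1
  obtain ⟨d, hd, rfl⟩ := h2
  exact (X_smul hc hd v φ).symm

/-- upper unipotent -/
def E01 (a : F) : SpecialLinearGroup (Fin 2) F := mkSL !![1, a; 0, 1] (by rw [det_fin_two]; simp)

/-- lower unipotent -/
def E10 (a : F) : SpecialLinearGroup (Fin 2) F := mkSL !![1, 0; a, 1] (by rw [det_fin_two]; simp)

theorem tv01 (a : F) : tv (a • ee 0) (ee 1) = E01 a := by
  refine sl_mat_ext ?_
  rw [tv_coe (by rw [dotProduct_smul, ee_dot_ee (by decide), smul_zero])]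
  ext i j
  fin_cases i <;> fin_cases j <;> simp [vecMulVec_apply, ee, E01, mkSL]

theorem tv10 (a : F) : tv (a • ee 1) (ee 0) = E10 a := by
  refine sl_mat_ext ?_
  rw [tv_coe (by rw [dotProduct_smul, ee_dot_ee (by decide), smul_zero])]
  ext i j
  fin_cases i <;> fin_cases j <;> simp [vecMulVec_apply, ee, E10, mkSL]

theorem w_eq {x y : F} (hxy : x * y = -1) :
    (!![1, x; 0, 1] * !![1, 0; y, 1] * !![1, x; 0, 1] : Matrix (Fin 2) (Fin 2) F) = !![0, x; y, 0] := by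
  ext i j
  fin_cases i <;> fin_cases j <;> simp [Matrix.mul_apply, Fin.sum_univ_two, hxy, mul_comm y x]

theorem w_conj {x y c : F} (hxy : x * y = -1) :
    (E01 x * E10 y * E01 x) * E01 c = E10 (-c * y ^ 2) * (E01 x * E10 y * E01 x) := by
  refine sl_mat_ext ?_
  change (!![1, x; 0, 1] * !![1, 0; y, 1] * !![1, x; 0, 1]) * !![1, c; 0, 1] =
    !![1, 0; -c * y ^ 2, 1] * (!![1, x; 0, 1] * !![1, 0; y, 1] * !![1, x; 0, 1])
  rw [w_eq hxy]
  ext i j
  fin_cases i <;> fin_cases j <;> simp [Matrix.mul_apply, Fin.sum_univ_two]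
  linear_combination (c * y) * hxy

theorem w_conj' {x y c d : F} (hc : c ≠ 0)
    (h : (E01 x * E10 y * E01 x) * E01 c = E10 d * (E01 x * E10 y * E01 x)) :
    x * y = -1 ∧ d * x = y * c := by
  have h1 := congrArg (fun s : SpecialLinearGroup (Fin 2) F => (s : Matrix (Fin 2) (Fin 2) F)) h
  change (!![1, x; 0, 1] * !![1, 0; y, 1] * !![1, x; 0, 1]) * !![1, c; 0, 1] =
    !![1, 0; d, 1] * (!![1, x; 0, 1] * !![1, 0; y, 1] * !![1, x; 0, 1]) at h1
  have h01 := congrFun (congrFun h1 0) 1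
  have h11 := congrFun (congrFun h1 1) 1
  simp [Matrix.mul_apply, Fin.sum_univ_two] at h01 h11
  have h02 := h01.resolve_right hc
  have hxy : x * y = -1 := by linear_combination h02
  refine ⟨hxy, ?_⟩
  rw [h11]
  linear_combination (-d * x) * h02

variable [Finite F]

/-- the automorphisms of `PSL_2(F)`. -/
theorem aut_two
    (α : MulAut (SpecialLinearGroup (Fin 2) F ⧸ Subgroup.center (SpecialLinearGroup (Fin 2) F))) :
    ∃ (g : GL (Fin 2) F) (σ : F ≃+* F), α = dn (cjS g) * dn (fS σ) := by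
  have h2 : 2 ≤ Fintype.card (Fin 2) := by simp
  obtain ⟨p, hp⟩ := CharP.exists F
  have : Fact p.Prime := ⟨CharP.char_is_prime F p⟩
  obtain ⟨v0, φ0, hv0, hφ0, h0, hX0⟩ := exists_root h2 α (ee_ne 0) (ee_ne 1)
    (ee_dot_ee (F := F) (i := (0 : Fin 2)) (j := 1) (by decide))
  obtain ⟨v1, φ1, hv1, hφ1, h1, hX1⟩ := exists_root h2 α (ee_ne 1) (ee_ne 0)
    (ee_dot_ee (F := F) (i := (1 : Fin 2)) (j := 0) (by decide))
  have hnp : ¬ Par v0 v1 := by
    intro hpar
    have hφ : Par φ0 φ1 := by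
      obtain ⟨c, hc, rfl⟩ := hpar
      rw [dotProduct_smul, smul_eq_zero, or_iff_right hc] at h1
      exact par_of_perp hv0 hφ0 hφ1 h0 h1
    have hXX := X_congr hpar hφ
    have hm : (QuotientGroup.mk (tv (ee 0) (ee 1)) : SpecialLinearGroup (Fin 2) F ⧸
        Subgroup.center (SpecialLinearGroup (Fin 2) F)) ∈ X (ee 1 : Fin 2 → F) (ee 0) := by
      rw [hX1, ← hXX, ← hX0]
      exact ⟨1, by rw [one_smul]⟩
    obtain ⟨⟨c, hc, h3⟩, -⟩ := X_eq (ee_ne 0) (ee_ne 1) (ee_dot_ee (by decide)) (ee_ne 1) (ee_ne 0)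
      (ee_dot_ee (by decide)) hm
    have := congrFun h3 1
    rw [ee_self, Pi.smul_apply, ee_other (by decide), smul_zero] at this
    exact one_ne_zero this
  let M : Matrix (Fin 2) (Fin 2) F := Matrix.of fun k i => (if i = 0 then v0 else v1) k
  have hdet : M.det ≠ 0 := by
    intro hd
    rw [det_fin_two] at hd
    have hd' : v0 0 * v1 1 - v1 0 * v0 1 = 0 := hd
    let ψ : Fin 2 → F := ![-v0 1, v0 0]
    have hψ : ψ ≠ 0 := by
      intro h
      have e0 := congrFun h 0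
      have e1 := congrFun h 1
      simp [ψ] at e0 e1
      apply hv0
      funext i
      fin_cases i
      · exact e1
      · exact e0
    refine hnp (par_of_perp (v := ψ) hψ hv0 hv1 ?_ ?_)
    · simp [ψ, dotProduct, Fin.sum_univ_two]; ring
    · simp [ψ, dotProduct, Fin.sum_univ_two]; linear_combination hd'
  let g : GL (Fin 2) F := Matrix.GeneralLinearGroup.mkOfDetNeZero M hdet
  have hg : (g : Matrix (Fin 2) (Fin 2) F) = M := rfl
  have hg0 : (g : Matrix (Fin 2) (Fin 2) F) *ᵥ ee 0 = v0 := by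
    rw [hg, ee, mulVec_single_one]
    rfl
  have hg1 : (g : Matrix (Fin 2) (Fin 2) F) *ᵥ ee 1 = v1 := by
    rw [hg, ee, mulVec_single_one]
    rfl
  have hgn : ∀ j : Fin 2, ee j ᵥ* ((g⁻¹ : GL (Fin 2) F) : Matrix (Fin 2) (Fin 2) F) ≠ 0 := by
    intro j hj
    have := gl_vcancel g (ee j)
    rw [hj, zero_vecMul] at this
    exact ee_ne j this.symm
  let β := (dn (cjS g))⁻¹ * α
  have hβ : ∀ i j : Fin 2, i ≠ j → ∀ x, x ∈ X (ee i : Fin 2 → F) (ee j) ↔
      β x ∈ X (ee i : Fin 2 → F) (ee j) := by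
    intro i j hij x
    have e := dn_X g (ee i) (ee j) (β x)
    rw [← MulAut.mul_apply, ← mul_assoc, mul_inv_cancel, one_mul] at e
    rw [e]
    fin_cases i <;> fin_cases j
    · exact absurd rfl hij
    · change x ∈ X (ee 0) (ee 1) ↔ α x ∈ X ((g : Matrix (Fin 2) (Fin 2) F) *ᵥ ee 0)
        (ee 1 ᵥ* ((g⁻¹ : GL (Fin 2) F) : Matrix (Fin 2) (Fin 2) F))
      rw [hX0, hg0, X_congr (Par.refl v0) (par_of_perp hv0 hφ0 (hgn 1) h0 ?_)]
      rw [← hg0, dot_gl, ee_dot_ee (by decide)]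
    · change x ∈ X (ee 1) (ee 0) ↔ α x ∈ X ((g : Matrix (Fin 2) (Fin 2) F) *ᵥ ee 1)
        (ee 0 ᵥ* ((g⁻¹ : GL (Fin 2) F) : Matrix (Fin 2) (Fin 2) F))
      rw [hX1, hg1, X_congr (Par.refl v1) (par_of_perp hv1 hφ1 (hgn 0) h1 ?_)]
      rw [← hg1, dot_gl, ee_dot_ee (by decide)]
    · exact absurd rfl hij
  obtain ⟨f, hf, hadd, hinj, -⟩ := exists_f hβ
  have n01 : (0 : Fin 2) ≠ 1 := by decide
  have n10 : (1 : Fin 2) ≠ 0 := by decide
  have hf0 : ∀ i j, i ≠ j → f i j 0 = 0 := by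
    intro i j hij
    have := hadd i j 0 0 hij
    rw [add_zero] at this
    exact left_eq_add.mp this
  have hf1 : f 0 1 1 ≠ 0 := fun h1 => one_ne_zero (hinj 0 1 n01 (h1.trans (hf0 0 1 n01).symm))
  let u : Fˣ := Units.mk0 (f 0 1 1) hf1
  let d : Fin 2 → Fˣ := ![1, u]
  let γ := dn (cjS (dgl d)) * β
  let F1 : F → F := fun a => f 0 1 a * (u⁻¹ : Fˣ)
  let F2 : F → F := fun a => (u : F) * f 1 0 a
  have hγ1 : ∀ a, γ (T 0 1 a) = T 0 1 (F1 a) := by
    intro a
    change dn (cjS (dgl d)) (β (T 0 1 a)) = _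
    rw [hf 0 1 a n01, dgl_T]
    congr 1
    simp [d, F1]
  have hγ2 : ∀ a, γ (T 1 0 a) = T 1 0 (F2 a) := by
    intro a
    change dn (cjS (dgl d)) (β (T 1 0 a)) = _
    rw [hf 1 0 a n10, dgl_T]
    congr 1
    simp [d, F2]
  have hA1 : ∀ a b, F1 (a + b) = F1 a + F1 b := by
    intro a b; simp only [F1, hadd 0 1 a b n01]; ring
  have hA2 : ∀ a b, F2 (a + b) = F2 a + F2 b := by
    intro a b; simp only [F2, hadd 1 0 a b n10]; ring
  have hI1 : Function.Injective F1 := by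
    intro a b hab
    exact hinj 0 1 n01 (mul_right_cancel₀ (Units.ne_zero _) hab)
  have h11 : F1 1 = 1 := by
    change f 0 1 1 * (u⁻¹ : Fˣ) = 1
    have : f 0 1 1 = (u : F) := rfl
    rw [this, ← Units.val_mul, mul_inv_cancel, Units.val_one]
  have hz1 : F1 0 = 0 := by simp only [F1, hf0 0 1 n01, zero_mul]
  have hn1 : ∀ a, F1 (-a) = - F1 a := by
    intro a
    rw [eq_neg_iff_add_eq_zero, ← hA1, neg_add_cancel, hz1]
  have hz2 : F2 0 = 0 := by simp only [F2, hf0 1 0 n10, mul_zero]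
  have hn2 : ∀ a, F2 (-a) = - F2 a := by
    intro a
    rw [eq_neg_iff_add_eq_zero, ← hA2, neg_add_cancel, hz2]
  have hne1 : ∀ a, a ≠ 0 → F1 a ≠ 0 := fun a ha h => ha (hI1 (h.trans hz1.symm))
  -- the key relation
  have key : ∀ a c : F, a ≠ 0 → c ≠ 0 → F1 a * F2 (-a⁻¹) = -1 ∧
      F2 (-c * (-a⁻¹) ^ 2) * F1 a = F2 (-a⁻¹) * F1 c := by
    intro a c ha hc
    have e1 := w_conj (x := a) (y := -a⁻¹) (c := c) (by rw [mul_neg, mul_inv_cancel₀ ha])
    have e2 : (T (0 : Fin 2) 1 a * T 1 0 (-a⁻¹) * T 0 1 a) * T 0 1 c =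
        T 1 0 (-c * (-a⁻¹) ^ 2) * (T 0 1 a * T 1 0 (-a⁻¹) * T 0 1 a) := by
      simp only [T, tv01, tv10, ← QuotientGroup.mk_mul, e1]
    have e3 := congrArg γ e2
    simp only [_root_.map_mul, hγ1, hγ2] at e3
    set x := F1 a
    set y := F2 (-a⁻¹)
    set z := F1 c with hzc
    set w := F2 (-c * (-a⁻¹) ^ 2)
    have hp01 : ∀ t : F, E01 t ^ p = 1 := by
      intro t; rw [← tv01]; exact tv_pow_p (by rw [dotProduct_smul, ee_dot_ee n01, smul_zero])
    have hp10 : ∀ t : F, E10 t ^ p = 1 := by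
      intro t; rw [← tv10]; exact tv_pow_p (by rw [dotProduct_smul, ee_dot_ee n10, smul_zero])
    have e4 : E10 w = (E01 x * E10 y * E01 x) * E01 z * (E01 x * E10 y * E01 x)⁻¹ := by
      refine eq_of_mk (p := p) (hp10 w) ?_ ?_
      · rw [conj_pow, hp01, mul_one, mul_inv_cancel]
      · simp only [T, tv01, tv10] at e3
        rw [QuotientGroup.mk_mul, QuotientGroup.mk_inv, eq_mul_inv_iff_mul_eq,
          ← QuotientGroup.mk_mul]
        exact e3.symm
    rw [eq_mul_inv_iff_mul_eq] at e4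
    have hz : z ≠ 0 := hne1 c hc
    exact w_conj' hz e4.symm
  have hF2 : ∀ c, F2 c = F1 c := by
    intro c
    rcases eq_or_ne c 0 with rfl | hc
    · rw [hz1, hz2]
    · obtain ⟨k1, k2⟩ := key 1 (-c) one_ne_zero (neg_ne_zero.mpr hc)
      rw [h11, one_mul, inv_one] at k1
      rw [h11, mul_one, inv_one, k1, hn1, neg_neg, neg_sq, one_pow, mul_one, neg_mul_neg, one_mul] at k2
      exact k2
  have hinv : ∀ a, a ≠ 0 → F1 a * F1 a⁻¹ = 1 := by
    intro a ha
    have := (key a 1 ha one_ne_zero).1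
    rw [hF2, hn1] at this
    linear_combination -this
  have hsq : ∀ a c, F1 (a ^ 2 * c) = F1 a ^ 2 * F1 c := by
    intro a c
    rcases eq_or_ne a 0 with rfl | ha
    · rw [zero_pow (by norm_num), zero_mul, hz1, zero_pow (by norm_num), zero_mul]
    rcases eq_or_ne c 0 with rfl | hc
    · rw [mul_zero, hz1, mul_zero]
    obtain ⟨-, k2⟩ := key a⁻¹ c (inv_ne_zero ha) hc
    rw [inv_inv, hF2, hF2, neg_sq, hn1] at k2
    have e : -c * a ^ 2 = -(a ^ 2 * c) := by ring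
    rw [e, hn1] at k2
    have h3 := hinv a ha
    have h4 := hne1 a⁻¹ (inv_ne_zero ha)
    apply mul_right_cancel₀ h4
    linear_combination -k2 - (F1 a * F1 c) * h3
  have hmul : ∀ a b, F1 (a * b) = F1 a * F1 b := by
    have hs1 : ∀ a, F1 (a ^ 2) = F1 a ^ 2 := by
      intro a
      have := hsq a 1
      rwa [mul_one, h11, mul_one] at this
    by_cases hc2 : (2 : F) = 0
    · -- characteristic two: every element is a square
      have hch : CharP F 2 := CharTwo.of_one_ne_zero_of_two_eq_zero one_ne_zero hc2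
      intro a b
      have : Fintype F := Fintype.ofFinite F
      obtain ⟨r, hr⟩ := (FiniteField.isSquare_of_char_two (F := F) (by
        rw [ringChar.eq F 2]) a)
      rw [hr, ← sq, hsq, hs1]
    · intro a b
      have e1 := hs1 (a + b)
      have e2 : (a + b) ^ 2 = a ^ 2 + (a * b + (a * b + b ^ 2)) := by ring
      rw [e2, hA1, hA1, hA1, hs1, hs1, hA1] at e1
      have e3 : (2 : F) * (F1 (a * b) - F1 a * F1 b) = 0 := by linear_combination e1
      exact sub_eq_zero.mp ((mul_eq_zero.mp e3).resolve_left hc2)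
  let σ₀ : F →+* F :=
    { toFun := F1
      map_one' := h11
      map_mul' := hmul
      map_zero' := hz1
      map_add' := hA1 }
  let σ : F ≃+* F := RingEquiv.ofBijective σ₀ (Finite.injective_iff_bijective.mp σ₀.injective)
  have hγ : γ = dn (fS σ) := by
    apply aut_ext
    intro i j a hij
    fin_cases i <;> fin_cases j
    · exact absurd rfl hij
    · change γ (T 0 1 a) = dn (fS σ) (T 0 1 a)
      rw [hγ1, fS_T]; rfl
    · change γ (T 1 0 a) = dn (fS σ) (T 1 0 a)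
      rw [hγ2, hF2, fS_T]; rfl
    · exact absurd rfl hij
  refine ⟨g * (dgl d)⁻¹, σ, ?_⟩
  rw [_root_.map_mul, _root_.map_inv, _root_.map_mul, _root_.map_inv, ← hγ]
  simp only [γ, β]
  group

end Cfsg.Agent.H16.AutL
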