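import Mathlib

set_option autoImplicit false

/-! Ring automorphisms of finite fields. -/

namespace Cfsg.Agent.H16.FAut

open Module

section Card

variable {F : Type*} [Field F] [Finite F]

/-- the ring automorphisms of a finite field form a cyclic group of order `f` if `|F| = p ^ f`. -/
theorem exists_equiv (p : ℕ) [Fact p.Prime] [CharP F p] :
    ∃ (_ : Algebra (ZMod p) F), Nonempty ((F ≃+* F) ≃* (F ≃ₐ[ZMod p] F)) := by
  let alg : Algebra (ZMod p) F := ZMod.algebra F p
  refine ⟨alg, ⟨?_⟩⟩
  exact
    { toFun := fun σ => AlgEquiv.ofRingEquiv (f := σ) (fun x => by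
        have : (σ : F →+* F).comp (algebraMap (ZMod p) F) = algebraMap (ZMod p) F :=
          Subsingleton.elim _ _
        exact congrArg (fun h : ZMod p →+* F => h x) this)
      invFun := fun σ => σ.toRingEquiv
      left_inv := fun σ => rfl
      right_inv := fun σ => rfl
      map_mul' := fun σ τ => rfl }

instance isCyclic : IsCyclic (F ≃+* F) := by
  obtain ⟨p, hp⟩ := CharP.exists F
  have : Fact p.Prime := ⟨CharP.char_is_prime F p⟩
  obtain ⟨alg, ⟨e⟩⟩ := exists_equiv (F := F) p
  exact isCyclic_of_surjective e.symm e.symm.surjective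

theorem card_ringAut {p f : ℕ} [Fact p.Prime] (hF : Nat.card F = p ^ f) (hf : 1 ≤ f) :
    Nat.card (F ≃+* F) = f := by
  have hFt : Fintype F := Fintype.ofFinite F
  have hp : CharP F p := by
    rw [Nat.card_eq_fintype_card] at hF
    obtain ⟨q, hq⟩ := CharP.exists F
    have hqp : q.Prime := CharP.char_is_prime F q
    obtain ⟨n, hn, hn'⟩ := FiniteField.card F q
    have h1 : q ∣ p ^ f := by rw [← hF, hn']; exact dvd_pow_self q n.ne_zero
    have h2 : q = p := (Nat.prime_dvd_prime_iff_eq hqp Fact.out).mp (hqp.dvd_of_dvd_pow h1)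
    rwa [← h2]
  obtain ⟨alg, ⟨e⟩⟩ := exists_equiv (F := F) p
  rw [Nat.card_congr e.toEquiv, IsGalois.card_aut_eq_finrank]
  have h1 : Nat.card F = Nat.card (ZMod p) ^ finrank (ZMod p) F := Module.natCard_eq_pow_finrank
  rw [hF, Nat.card_zmod] at h1
  exact (Nat.pow_right_injective (Fact.out : p.Prime).two_le h1).symm

end Card

end Cfsg.Agent.H16.FAut
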