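import Mathlib
import Cfsg.Agent.H16_AutL6
import Cfsg.Agent.H16_FAut

set_option autoImplicit false

/-! Structure of `Aut(PSL_n(F))`. -/

namespace Cfsg.Agent.H16.AutL

open Matrix Cfsg.Agent.H16.AutG Module

section Rel

variable {F : Type*} [Field F] {ι : Type*} [Fintype ι] [DecidableEq ι]

/-- inverse transpose on `GL`. -/
def git : GL ι F →* GL ι F where
  toFun g := ⟨((g⁻¹ : GL ι F) : Matrix ι ι F)ᵀ, (g : Matrix ι ι F)ᵀ, by
    rw [← transpose_mul, ← Units.val_mul, mul_inv_cancel, Units.val_one, transpose_one], by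
    rw [← transpose_mul, ← Units.val_mul, inv_mul_cancel, Units.val_one, transpose_one]⟩
  map_one' := by
    apply Units.ext
    change (((1 : GL ι F)⁻¹ : GL ι F) : Matrix ι ι F)ᵀ = 1
    rw [inv_one, Units.val_one, transpose_one]
  map_mul' g h := by
    apply Units.ext
    change (((g * h)⁻¹ : GL ι F) : Matrix ι ι F)ᵀ =
      ((g⁻¹ : GL ι F) : Matrix ι ι F)ᵀ * ((h⁻¹ : GL ι F) : Matrix ι ι F)ᵀ
    rw [_root_.mul_inv_rev, Units.val_mul, transpose_mul]

theorem git_coe (g : GL ι F) : ((git g : GL ι F) : Matrix ι ι F) = ((g⁻¹ : GL ι F) : Matrix ι ι F)ᵀ := rfl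

theorem git_inv_coe (g : GL ι F) : (((git g)⁻¹ : GL ι F) : Matrix ι ι F) = (g : Matrix ι ι F)ᵀ := rfl

theorem git_git (g : GL ι F) : git (git g) = g := by
  apply Units.ext
  rw [git_coe, git_inv_coe, transpose_transpose]

/-- `σ` on `GL`. -/
def gσ (σ : F ≃+* F) : GL ι F →* GL ι F := Matrix.GeneralLinearGroup.map (σ : F →+* F)

theorem gσ_coe (σ : F ≃+* F) (g : GL ι F) :
    ((gσ σ g : GL ι F) : Matrix ι ι F) = (g : Matrix ι ι F).map σ := rfl

theorem gσ_inv_coe (σ : F ≃+* F) (g : GL ι F) :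
    (((gσ σ g)⁻¹ : GL ι F) : Matrix ι ι F) = ((g⁻¹ : GL ι F) : Matrix ι ι F).map σ := by
  rw [← _root_.map_inv, gσ_coe]

theorem map_mul' (σ : F ≃+* F) (M N : Matrix ι ι F) : (M * N).map σ = M.map σ * N.map σ :=
  Matrix.map_mul

theorem fS_cjS (σ : F ≃+* F) (g : GL ι F) : fS σ * cjS g = cjS (gσ σ g) * fS σ := by
  ext1 s
  refine sl_mat_ext ?_
  change ((g : Matrix ι ι F) * (s : Matrix ι ι F) * ((g⁻¹ : GL ι F) : Matrix ι ι F)).map σ =
    (gσ σ g : Matrix ι ι F) * (s : Matrix ι ι F).map σ * (((gσ σ g)⁻¹ : GL ι F) : Matrix ι ι F)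
  rw [map_mul', map_mul', gσ_coe, gσ_inv_coe]

theorem sl_inv_mul_coe (s : SpecialLinearGroup ι F) :
    ((s⁻¹ : SpecialLinearGroup ι F) : Matrix ι ι F) * (s : Matrix ι ι F) = 1 := by
  rw [← Matrix.SpecialLinearGroup.coe_mul, inv_mul_cancel, Matrix.SpecialLinearGroup.coe_one]

theorem iS_cjS (g : GL ι F) : iS * cjS g = cjS (git g) * iS := by
  ext1 s
  refine sl_mat_ext ?_
  change ((((cjS g s : SpecialLinearGroup ι F))⁻¹ : SpecialLinearGroup ι F) : Matrix ι ι F)ᵀ =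
    ((git g : GL ι F) : Matrix ι ι F) * ((s⁻¹ : SpecialLinearGroup ι F) : Matrix ι ι F)ᵀ *
      (((git g)⁻¹ : GL ι F) : Matrix ι ι F)
  rw [← _root_.map_inv, cjS_coe, transpose_mul, transpose_mul, git_coe, git_inv_coe, mul_assoc]

theorem fS_iS (σ : F ≃+* F) : (fS σ : MulAut (SpecialLinearGroup ι F)) * iS = iS * fS σ := by
  ext1 s
  refine sl_mat_ext ?_
  change (((s⁻¹ : SpecialLinearGroup ι F) : Matrix ι ι F)ᵀ).map σ =
    ((((fS σ s : SpecialLinearGroup ι F))⁻¹ : SpecialLinearGroup ι F) : Matrix ι ι F)ᵀ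
  rw [← _root_.map_inv, fS_coe]
  rfl

end Rel

section Uniq

variable {F : Type*} [Field F] [Finite F] {ι : Type*} [Fintype ι] [DecidableEq ι]

theorem mulVec_ee (M : Matrix ι ι F) (i j : ι) : (M *ᵥ ee i) j = M j i := by
  rw [ee, mulVec_single_one]; rfl

/-- uniqueness: conjugation times field automorphism is trivial only if both are. -/
theorem cf_eq_one [Nontrivial ι] {g : GL ι F} {σ : F ≃+* F}
    (h : dn (cjS g) * dn (fS σ) = (1 : MulAut (SpecialLinearGroup ι F ⧸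
      Subgroup.center (SpecialLinearGroup ι F)))) :
    σ = 1 ∧ ∃ c : Fˣ, (g : Matrix ι ι F) = (c : F) • 1 := by
  obtain ⟨p, hp⟩ := CharP.exists F
  have : Fact p.Prime := ⟨CharP.char_is_prime F p⟩
  have key : ∀ (i j : ι) (a : F), i ≠ j →
      tv (σ a • ((g : Matrix ι ι F) *ᵥ ee i)) (ee j ᵥ* ((g⁻¹ : GL ι F) : Matrix ι ι F)) =
        tv (a • ee i) (ee j) := by
    intro i j a hij
    have h2 := congrArg (fun α : MulAut (SpecialLinearGroup ι F ⧸
      Subgroup.center (SpecialLinearGroup ι F)) => α (T i j a)) h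
    simp only [MulAut.mul_apply, fS_T, cj_T, MulAut.one_apply] at h2
    refine eq_of_mk (p := p) (tv_pow_p ?_) (tv_pow_p ?_) h2
    · rw [dotProduct_smul, dot_gl, ee_dot_ee hij, smul_zero]
    · rw [dotProduct_smul, ee_dot_ee hij, smul_zero]
  have key2 : ∀ (i j : ι) (a : F), i ≠ j → ∀ x : ι → F,
      (ee j ⬝ᵥ x) • (σ a • ((g : Matrix ι ι F) *ᵥ ee i)) =
        (ee j ⬝ᵥ ((g : Matrix ι ι F) *ᵥ x)) • (a • ee i) := by
    intro i j a hij x
    have h2 := congrArg (fun s : SpecialLinearGroup ι F =>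
      (s : Matrix ι ι F) *ᵥ ((g : Matrix ι ι F) *ᵥ x)) (key i j a hij)
    rw [tv_mulVec (by rw [dotProduct_smul, dot_gl, ee_dot_ee hij, smul_zero]),
      tv_mulVec (by rw [dotProduct_smul, ee_dot_ee hij, smul_zero]), dot_gl] at h2
    exact add_left_cancel h2
  -- off-diagonal entries vanish
  have hoff : ∀ i k : ι, i ≠ k → (g : Matrix ι ι F) k i = 0 := by
    intro i k hik
    have h2 := congrFun (key2 i k 1 hik (ee k)) k
    rw [_root_.map_one, one_smul, one_smul, ee_dot, ee_self, one_smul, mulVec_ee, Pi.smul_apply,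
      ee_other hik, smul_zero] at h2
    exact h2
  have hdiag : ∀ (i j : ι) (a : F), i ≠ j → σ a * (g : Matrix ι ι F) i i =
      (g : Matrix ι ι F) j j * a := by
    intro i j a hij
    have h2 := congrFun (key2 i j a hij (ee j)) i
    rw [ee_dot, ee_self, one_smul, Pi.smul_apply, mulVec_ee, ee_dot, mulVec_ee, Pi.smul_apply,
      Pi.smul_apply, ee_self, smul_eq_mul, smul_eq_mul, smul_eq_mul, mul_one] at h2
    exact h2
  have hgg : ∀ i j : ι, (g : Matrix ι ι F) i i = (g : Matrix ι ι F) j j := by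
    intro i j
    rcases eq_or_ne i j with rfl | hij
    · rfl
    · have := hdiag i j 1 hij
      rwa [_root_.map_one, one_mul, mul_one] at this
  obtain ⟨i0, i1, h01⟩ := exists_pair_ne ι
  have hne : (g : Matrix ι ι F) i0 i0 ≠ 0 := by
    intro h0
    have h2 : (g : Matrix ι ι F) *ᵥ ee i0 = 0 := by
      ext k
      rw [mulVec_ee, Pi.zero_apply]
      rcases eq_or_ne i0 k with rfl | hk
      · exact h0
      · exact hoff i0 k hk
    have h3 := gl_cancel g (ee i0)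
    rw [h2, mulVec_zero] at h3
    exact ee_ne i0 h3.symm
  refine ⟨?_, Units.mk0 _ hne, ?_⟩
  · ext a
    have h2 := hdiag i0 i1 a h01
    rw [hgg i1 i0, mul_comm] at h2
    exact mul_left_cancel₀ hne h2
  · ext i j
    rw [Units.val_mk0, Matrix.smul_apply, smul_eq_mul, Matrix.one_apply]
    split_ifs with hij
    · rw [hij, mul_one]; exact hgg j i0
    · rw [mul_zero]; exact hoff j i (Ne.symm hij)

/-- for `n ≥ 3` no product of a collineation and the inverse transpose is trivial. -/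
theorem cfi_ne_one (h3 : 3 ≤ Fintype.card ι) {g : GL ι F} {σ : F ≃+* F}
    (h : dn (cjS g) * dn (fS σ) * dn iS = (1 : MulAut (SpecialLinearGroup ι F ⧸
      Subgroup.center (SpecialLinearGroup ι F)))) : False := by
  have hnt : Nontrivial ι := Fintype.one_lt_card_iff_nontrivial.mp (by omega)
  obtain ⟨i, j, hij⟩ := exists_pair_ne ι
  obtain ⟨k, hki, hkj⟩ := exists_third h3 i j
  have h1 : ∀ x, x ∈ X (ee i : ι → F) (ee j) →
      x ∈ X ((g : Matrix ι ι F) *ᵥ ee j) (ee i ᵥ* ((g⁻¹ : GL ι F) : Matrix ι ι F)) := by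
    intro x hx
    rw [iS_X] at hx
    obtain ⟨a, ha⟩ := hx
    refine ⟨σ a, ?_⟩
    have h2 := congrArg (fun α : MulAut (SpecialLinearGroup ι F ⧸
      Subgroup.center (SpecialLinearGroup ι F)) => α x) h
    simp only [MulAut.mul_apply, MulAut.one_apply] at h2
    rw [← h2, ha]
    exact (congrArg (dn (cjS g)) (fS_T σ j i a)).trans (cj_T g j i (σ a))
  have h1' : ∀ x, x ∈ X (ee i : ι → F) (ee k) →
      x ∈ X ((g : Matrix ι ι F) *ᵥ ee k) (ee i ᵥ* ((g⁻¹ : GL ι F) : Matrix ι ι F)) := by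
    intro x hx
    rw [iS_X] at hx
    obtain ⟨a, ha⟩ := hx
    refine ⟨σ a, ?_⟩
    have h2 := congrArg (fun α : MulAut (SpecialLinearGroup ι F ⧸
      Subgroup.center (SpecialLinearGroup ι F)) => α x) h
    simp only [MulAut.mul_apply, MulAut.one_apply] at h2
    rw [← h2, ha]
    exact (congrArg (dn (cjS g)) (fS_T σ k i a)).trans (cj_T g k i (σ a))
  have hgne : ∀ m : ι, (g : Matrix ι ι F) *ᵥ ee m ≠ 0 := by
    intro m h3
    have h4 := gl_cancel g (ee m)
    rw [h3, mulVec_zero] at h4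
    exact ee_ne m h4.symm
  have hgne' : ∀ m : ι, ee m ᵥ* ((g⁻¹ : GL ι F) : Matrix ι ι F) ≠ 0 := by
    intro m h3
    have h4 := gl_vcancel g (ee m)
    rw [h3, zero_vecMul] at h4
    exact ee_ne m h4.symm
  have p1 := (X_eq (ee_ne i) (ee_ne j) (ee_dot_ee hij) (hgne j) (hgne' i)
    (by rw [dot_gl, ee_dot_ee hij.symm]) (h1 _ ⟨1, by rw [one_smul]⟩)).1
  have p2 := (X_eq (ee_ne i) (ee_ne k) (ee_dot_ee hki.symm) (hgne k) (hgne' i)
    (by rw [dot_gl, ee_dot_ee hki]) (h1' _ ⟨1, by rw [one_smul]⟩)).1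
  obtain ⟨c, hc, h5⟩ := p1.symm.trans p2
  have h6 := congrArg (fun v => ((g⁻¹ : GL ι F) : Matrix ι ι F) *ᵥ v) h5
  simp only [mulVec_smul, gl_cancel] at h6
  have h7 := congrFun h6 k
  rw [ee_self, Pi.smul_apply, ee_other hkj.symm, smul_zero] at h7
  exact one_ne_zero h7

theorem cjS_smul_one {g : GL ι F} {c : Fˣ} (h : (g : Matrix ι ι F) = (c : F) • 1) :
    cjS g = 1 := by
  ext1 s
  refine sl_mat_ext ?_
  rw [cjS_coe]
  have h1 : ((g⁻¹ : GL ι F) : Matrix ι ι F) = ((c⁻¹ : Fˣ) : F) • 1 := by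
    have h2 : g * ⟨((c⁻¹ : Fˣ) : F) • 1, (c : F) • 1, by
        rw [smul_mul_smul_comm, one_mul, ← Units.val_mul, inv_mul_cancel, Units.val_one, one_smul], by
        rw [smul_mul_smul_comm, one_mul, ← Units.val_mul, mul_inv_cancel, Units.val_one, one_smul]⟩ = 1 := by
      apply Units.ext
      rw [Units.val_mul, h]
      change (c : F) • (1 : Matrix ι ι F) * ((c⁻¹ : Fˣ) : F) • 1 = 1
      rw [smul_mul_smul_comm, one_mul, ← Units.val_mul, mul_inv_cancel, Units.val_one, one_smul]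
    rw [inv_eq_of_mul_eq_one_right h2]
  rw [h1, h, smul_mul_assoc, one_mul, Matrix.mul_smul, mul_one, smul_smul, ← Units.val_mul,
    inv_mul_cancel, Units.val_one, one_smul]
  rfl

end Uniq

end Cfsg.Agent.H16.AutL
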