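import Mathlib
import Cfsg.Agent.H16_AutP

set_option autoImplicit false

/-! Galois descent (Hilbert 90 for `GL_n`) for a finite cyclic group of automorphisms. -/

namespace Cfsg.Agent.H16.Desc

open Matrix Module Cfsg.Agent.H16.AutL

section Ded

variable {F : Type*} [Field F]

/-- Dedekind: powers of an automorphism of finite order are independent. -/
theorem dedekind (σ : F ≃+* F) {r : ℕ} (hr : orderOf σ = r) (c : ℕ → F)
    (h : ∀ a : F, ∑ i ∈ Finset.range r, c i * (σ ^ i) a = 0) : ∀ i < r, c i = 0 := by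
  have hli := linearIndependent_monoidHom F F
  let f : Fin r → (F →* F) := fun i => ((σ ^ (i : ℕ) : F ≃+* F) : F →* F)
  have hf : Function.Injective f := by
    intro i j hij
    have h1 : σ ^ (i : ℕ) = σ ^ (j : ℕ) := by
      ext a
      exact congrArg (fun g : F →* F => g a) hij
    have := pow_injOn_Iio_orderOf (x := σ) (by rw [hr]; exact i.2) (by rw [hr]; exact j.2) h1
    exact Fin.ext this
  have h2 := hli.comp f hf
  rw [Fintype.linearIndependent_iff] at h2
  intro i hi
  have h3 := h2 (fun i => c i) (by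
    funext a
    rw [Finset.sum_apply, Pi.zero_apply, ← h a, Finset.sum_range]
    rfl) ⟨i, hi⟩
  exact h3

variable {V : Type*} [AddCommGroup V] [Module F V]

theorem iter_add {τ : V → V} (hadd : ∀ u v, τ (u + v) = τ u + τ v) (k : ℕ) (u v : V) :
    τ^[k] (u + v) = τ^[k] u + τ^[k] v := by
  induction k generalizing u v with
  | zero => rfl
  | succ k ih => rw [Function.iterate_succ_apply, Function.iterate_succ_apply,
      Function.iterate_succ_apply, hadd, ih]

theorem iter_smul {σ : F ≃+* F} {τ : V → V} (hsmul : ∀ (a : F) v, τ (a • v) = σ a • τ v) (k : ℕ)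
    (a : F) (v : V) : τ^[k] (a • v) = (σ ^ k) a • τ^[k] v := by
  induction k generalizing a v with
  | zero => rfl
  | succ k ih =>
    rw [Function.iterate_succ_apply, Function.iterate_succ_apply, hsmul, ih, pow_succ]
    rfl

/-- the fixed vectors of a semilinear map of the right order span. -/
theorem span_fixed (σ : F ≃+* F) {r : ℕ} (hr : orderOf σ = r) (hr0 : 0 < r) {τ : V → V}
    (hadd : ∀ u v, τ (u + v) = τ u + τ v) (hsmul : ∀ (a : F) v, τ (a • v) = σ a • τ v)
    (hτ : ∀ v, τ^[r] v = v) : Submodule.span F {v : V | τ v = v} = ⊤ := by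
  by_contra hne
  obtain ⟨ψ, hψ0, hψ⟩ := Submodule.exists_le_ker_of_lt_top _ (lt_top_iff_ne_top.mpr hne)
  apply hψ0
  ext v
  have hfix : ∀ a : F, τ (∑ i ∈ Finset.range r, τ^[i] (a • v)) = ∑ i ∈ Finset.range r, τ^[i] (a • v) := by
    intro a
    have hsum : ∀ (s : Finset ℕ) (f : ℕ → V), τ (∑ i ∈ s, f i) = ∑ i ∈ s, τ (f i) := by
      intro s f
      have h0 : τ 0 = 0 := by
        have := hadd 0 0
        rw [add_zero] at this
        exact left_eq_add.mp this
      let T : V →+ V := { toFun := τ, map_zero' := h0, map_add' := hadd }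
      exact map_sum T f s
    rw [hsum]
    have h1 : ∑ i ∈ Finset.range r, τ (τ^[i] (a • v)) = ∑ i ∈ Finset.range r, τ^[i + 1] (a • v) :=
      Finset.sum_congr rfl fun i _ => (Function.iterate_succ_apply' τ i _).symm
    rw [h1]
    have h2 := Finset.sum_range_succ (fun i => τ^[i] (a • v)) r
    have h3 := Finset.sum_range_succ' (fun i => τ^[i] (a • v)) r
    rw [h2, hτ] at h3
    exact (add_right_cancel h3).symm
  have h1 : ∀ a : F, ∑ i ∈ Finset.range r, ψ (τ^[i] v) * (σ ^ i) a = 0 := by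
    intro a
    have h2 : ψ (∑ i ∈ Finset.range r, τ^[i] (a • v)) = 0 :=
      hψ (Submodule.subset_span (hfix a))
    rw [map_sum] at h2
    rw [← h2]
    refine Finset.sum_congr rfl fun i _ => ?_
    rw [iter_smul hsmul, map_smul, smul_eq_mul, mul_comm]
  have := dedekind σ hr _ h1 0 hr0
  simpa using this

end Ded

section Glin

variable {F : Type*} [Field F] {ι : Type*} [Fintype ι] [DecidableEq ι]

/-- a basis of fixed vectors. -/
theorem exists_fixed_gl (σ : F ≃+* F) {r : ℕ} (hr : orderOf σ = r) (hr0 : 0 < r)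
    {τ : (ι → F) → (ι → F)}
    (hadd : ∀ u v, τ (u + v) = τ u + τ v) (hsmul : ∀ (a : F) v, τ (a • v) = σ a • τ v)
    (hτ : ∀ v, τ^[r] v = v) : ∃ h : GL ι F, ∀ i, τ ((h : Matrix ι ι F) *ᵥ ee i) = (h : Matrix ι ι F) *ᵥ ee i := by
  have hspan := span_fixed σ hr hr0 hadd hsmul hτ
  obtain ⟨b, hb1, hb2, hb3⟩ := exists_linearIndependent F {v : ι → F | τ v = v}
  rw [hspan] at hb2
  let B : Basis b F (ι → F) := Basis.mk hb3 (by rw [Subtype.range_coe, hb2])
  have hfin : Finite b := Module.Finite.finite_basis B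
  have : Fintype b := Fintype.ofFinite b
  have hcard : Fintype.card b = Fintype.card ι := by
    rw [← finrank_eq_card_basis B, finrank_fintype_fun_eq_card]
  let e : b ≃ ι := Fintype.equivOfCardEq hcard
  let B' : Basis ι F (ι → F) := B.reindex e
  let L : (ι → F) ≃ₗ[F] (ι → F) := (Pi.basisFun F ι).equiv B' (Equiv.refl ι)
  obtain ⟨h, hh⟩ := exists_gl L
  refine ⟨h, fun i => ?_⟩
  have h1 : L (ee i) = B' i := by
    have := (Pi.basisFun F ι).equiv_apply i B' (Equiv.refl ι)
    rw [Pi.basisFun_apply] at this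
    exact this
  rw [hh, h1]
  have h2 : B' i = ((e.symm i : b) : ι → F) := by
    simp [B', B]
  rw [h2]
  exact hb1 (e.symm i).2

/-- the `k`-fold norm `g σ(g) ⋯ σ^{k-1}(g)`. -/
def Nn (σ : F ≃+* F) (g : GL ι F) : ℕ → GL ι F
  | 0 => 1
  | k + 1 => g * gσ σ (Nn σ g k)

theorem Nn_zero (σ : F ≃+* F) (g : GL ι F) : Nn σ g 0 = 1 := rfl

theorem Nn_succ (σ : F ≃+* F) (g : GL ι F) (k : ℕ) : Nn σ g (k + 1) = g * gσ σ (Nn σ g k) := rfl

theorem gσ_mul (σ τ : F ≃+* F) (g : GL ι F) : gσ (σ * τ) g = gσ σ (gσ τ g) := rfl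

theorem gσ_one (g : GL ι F) : gσ (1 : F ≃+* F) g = g := by
  apply Units.ext
  rfl

theorem Nn_succ' (σ : F ≃+* F) (g : GL ι F) (k : ℕ) : Nn σ g (k + 1) = Nn σ g k * gσ (σ ^ k) g := by
  induction k with
  | zero => rw [Nn_succ, Nn_zero, _root_.map_one, mul_one, one_mul, pow_zero, gσ_one]
  | succ k ih =>
    rw [Nn_succ, ih, _root_.map_mul, ← mul_assoc, ← Nn_succ, ← gσ_mul, ← pow_succ', ih]

theorem pow_cf (σ : F ≃+* F) (g : GL ι F) (k : ℕ) :
    (cjS g * fS σ) ^ k = cjS (Nn σ g k) * fS (σ ^ k) := by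
  induction k with
  | zero => rw [pow_zero, Nn_zero, _root_.map_one, pow_zero, _root_.map_one, mul_one]
  | succ k ih =>
    rw [pow_succ', ih, Nn_succ, _root_.map_mul, pow_succ' σ, _root_.map_mul, mul_assoc, ← mul_assoc (fS σ),
      fS_cjS]
    simp only [mul_assoc]

/-- the semilinear map attached to `(g, σ)`. -/
def sl (g : GL ι F) (σ : F ≃+* F) (v : ι → F) : ι → F := (g : Matrix ι ι F) *ᵥ (fun i => σ (v i))

theorem sl_add (g : GL ι F) (σ : F ≃+* F) (u v : ι → F) : sl g σ (u + v) = sl g σ u + sl g σ v := by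
  rw [sl, sl, sl, ← mulVec_add]
  congr 1
  funext i
  exact _root_.map_add σ _ _

theorem sl_smul (g : GL ι F) (σ : F ≃+* F) (a : F) (v : ι → F) : sl g σ (a • v) = σ a • sl g σ v := by
  rw [sl, sl, ← mulVec_smul]
  congr 1
  funext i
  exact _root_.map_mul σ _ _

theorem map_mulVec (σ : F ≃+* F) (M : Matrix ι ι F) (v : ι → F) :
    (fun i => σ ((M *ᵥ v) i)) = (M.map σ) *ᵥ (fun i => σ (v i)) := by
  funext i
  simp only [mulVec, dotProduct, _root_.map_sum, _root_.map_mul, Matrix.map_apply]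

theorem sl_iter (g : GL ι F) (σ : F ≃+* F) (k : ℕ) (v : ι → F) :
    (sl g σ)^[k] v = sl (Nn σ g k) (σ ^ k) v := by
  induction k with
  | zero =>
    rw [Function.iterate_zero, id_eq, Nn_zero, pow_zero, sl]
    exact (one_mulVec v).symm
  | succ k ih =>
    rw [Function.iterate_succ_apply', ih, sl, sl, map_mulVec, mulVec_mulVec, Nn_succ]
    have h1 : ∀ x, (σ ^ (k + 1)) x = σ ((σ ^ k) x) := fun x => by rw [pow_succ']; rfl
    rw [sl]
    simp only [h1]
    rfl

theorem mulVec_ee' (M : Matrix ι ι F) (i j : ι) : (M *ᵥ ee i) j = M j i := by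
  rw [ee, mulVec_single_one]; rfl

/-- Hilbert 90 for `GL_n`. -/
theorem hilbert90 (σ : F ≃+* F) {r : ℕ} (hr : orderOf σ = r) (hr0 : 0 < r) (g : GL ι F)
    (hg : Nn σ g r = 1) : ∃ h : GL ι F, g * gσ σ h = h := by
  obtain ⟨h, hh⟩ := exists_fixed_gl σ hr hr0 (τ := sl g σ) (sl_add g σ) (sl_smul g σ) (by
    intro v
    rw [sl_iter, hg, ← hr, pow_orderOf_eq_one, sl]
    exact one_mulVec v)
  refine ⟨h, ?_⟩
  apply Units.ext
  rw [Units.val_mul, gσ_coe]
  ext i j
  have h1 := congrFun (hh j) i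
  rw [sl, map_mulVec, mulVec_mulVec] at h1
  have h2 : (fun k => σ ((ee j : ι → F) k)) = ee j := by
    funext k
    rw [ee]
    rcases eq_or_ne k j with rfl | hk
    · simp
    · simp [hk]
  rw [h2, mulVec_ee', mulVec_ee'] at h1
  exact h1

end Glin

section Norm

variable {F : Type*} [Field F]

/-- `k`-fold norm on units -/
def nn (σ : F ≃+* F) (x : Fˣ) : ℕ → Fˣ
  | 0 => 1
  | k + 1 => x * Units.map (σ : F →* F) (nn σ x k)

theorem nn_eq (σ : F ≃+* F) (x : Fˣ) (k : ℕ) :
    ((nn σ x k : Fˣ) : F) = ∏ i ∈ Finset.range k, (σ ^ i) (x : F) := by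
  induction k with
  | zero => simp [nn]
  | succ k ih =>
    rw [nn, Units.val_mul, Finset.prod_range_succ']
    have : ((Units.map (σ : F →* F) (nn σ x k) : Fˣ) : F) = σ (nn σ x k : F) := rfl
    rw [this, ih, _root_.map_prod, mul_comm]
    congr 1
    refine Finset.prod_congr rfl fun i _ => ?_
    rw [pow_succ']
    rfl

/-- Hilbert 90 -/
theorem hilbert90_one (σ : F ≃+* F) {r : ℕ} (hr : orderOf σ = r) (hr0 : 0 < r) (x : Fˣ)
    (hx : nn σ x r = 1) : ∃ h : Fˣ, (x : F) * σ h = h := by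
  let g : GL (Fin 1) F := dgl fun _ => x
  have hg : ∀ k, Nn σ g k = dgl fun _ => nn σ x k := by
    intro k
    induction k with
    | zero =>
      rw [Nn_zero]
      apply Units.ext
      change (1 : Matrix (Fin 1) (Fin 1) F) = diagonal fun _ => ((1 : Fˣ) : F)
      rw [Units.val_one]; exact diagonal_one.symm
    | succ k ih =>
      rw [Nn_succ, ih]
      apply Units.ext
      change (diagonal (fun _ : Fin 1 => (x : F)) * (diagonal (fun _ : Fin 1 => ((nn σ x k : Fˣ) : F))).map σ :
        Matrix (Fin 1) (Fin 1) F) = diagonal fun _ => ((nn σ x (k + 1) : Fˣ) : F)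
      rw [diagonal_map (_root_.map_zero σ), diagonal_mul_diagonal]
      rfl
  obtain ⟨h, hh⟩ := hilbert90 σ hr hr0 g (by
    rw [hg, hx]
    apply Units.ext
    change (diagonal fun _ => ((1 : Fˣ) : F)) = (1 : Matrix (Fin 1) (Fin 1) F)
    rw [Units.val_one]; exact diagonal_one)
  have h1 := congrArg (fun M : GL (Fin 1) F => (M : Matrix (Fin 1) (Fin 1) F) 0 0) hh
  have h2 : (x : F) * σ ((h : Matrix (Fin 1) (Fin 1) F) 0 0) = (h : Matrix (Fin 1) (Fin 1) F) 0 0 := by
    refine Eq.trans ?_ h1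
    change _ = (diagonal (fun _ : Fin 1 => (x : F)) * (h : Matrix (Fin 1) (Fin 1) F).map σ) 0 0
    rw [diagonal_mul]
    rfl
  have h3 : (h : Matrix (Fin 1) (Fin 1) F) 0 0 ≠ 0 := by
    intro h0
    have h4 : (h : Matrix (Fin 1) (Fin 1) F) = 0 := by
      ext i j
      fin_cases i; fin_cases j; exact h0
    exact h.ne_zero h4
  exact ⟨Units.mk0 _ h3, h2⟩

/-- the norm is onto the fixed units (finite fields). -/
theorem exists_norm_eq [Finite F] (σ : F ≃+* F) {r : ℕ} (hr : orderOf σ = r) (hr0 : 0 < r) (c : Fˣ)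
    (hc : σ (c : F) = c) : ∃ x : Fˣ, nn σ x r = c := by
  -- the homomorphisms
  have hnmul : ∀ k (x y : Fˣ), nn σ (x * y) k = nn σ x k * nn σ y k := by
    intro k x y
    induction k with
    | zero => simp [nn]
    | succ k ih => rw [nn, nn, nn, ih, _root_.map_mul, mul_mul_mul_comm]
  let N : Fˣ →* Fˣ := { toFun := fun x => nn σ x r, map_one' := by
                          have := hnmul r 1 1
                          rw [one_mul] at this
                          exact left_eq_mul.mp this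
                        map_mul' := hnmul r }
  let D : Fˣ →* Fˣ := { toFun := fun x => x * (Units.map (σ : F →* F) x)⁻¹
                        map_one' := by simp
                        map_mul' := fun x y => by
                          rw [_root_.map_mul, mul_inv, mul_mul_mul_comm] }
  have h1 : N.ker ≤ D.range := by
    intro x hx
    obtain ⟨h, hh⟩ := hilbert90_one σ hr hr0 x hx
    refine ⟨h, ?_⟩
    change h * (Units.map (σ : F →* F) h)⁻¹ = x
    rw [mul_inv_eq_iff_eq_mul]
    apply Units.ext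
    exact hh.symm
  have h2 : N.range ≤ D.ker := by
    rintro _ ⟨x, rfl⟩
    rw [MonoidHom.mem_ker]
    change nn σ x r * (Units.map (σ : F →* F) (nn σ x r))⁻¹ = 1
    rw [mul_inv_eq_one]
    apply Units.ext
    change ((nn σ x r : Fˣ) : F) = σ ((nn σ x r : Fˣ) : F)
    rw [nn_eq, _root_.map_prod]
    obtain ⟨s, rfl⟩ : ∃ s, r = s + 1 := ⟨r - 1, by omega⟩
    have e1 : ∀ i, σ ((σ ^ i) (x : F)) = (σ ^ (i + 1)) (x : F) := fun i => by rw [pow_succ']; rfl
    simp only [e1]
    rw [Finset.prod_range_succ', Finset.prod_range_succ (fun i => (σ ^ (i + 1)) (x : F))]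
    congr 1
    rw [pow_zero, ← hr, pow_orderOf_eq_one]
  have h3 : Nat.card N.range * Nat.card N.ker = Nat.card Fˣ := by
    rw [← Subgroup.index_ker, Subgroup.index_mul_card]
  have h4 : Nat.card D.range * Nat.card D.ker = Nat.card Fˣ := by
    rw [← Subgroup.index_ker, Subgroup.index_mul_card]
  have h5 : Nat.card N.ker ≤ Nat.card D.range :=
    Nat.card_le_card_of_injective _ (Subgroup.inclusion_injective h1)
  have h6 : Nat.card D.ker ≤ Nat.card N.range := by
    have hpos : 0 < Nat.card D.range := Nat.card_pos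
    have : Nat.card D.range * Nat.card D.ker ≤ Nat.card D.range * Nat.card N.range := by
      rw [h4, ← h3, mul_comm]
      exact Nat.mul_le_mul_right _ h5
    exact Nat.le_of_mul_le_mul_left this hpos
  have h7 : N.range = D.ker := Subgroup.eq_of_le_of_card_ge h2 h6
  have h8 : c ∈ D.ker := by
    rw [MonoidHom.mem_ker]
    change c * (Units.map (σ : F →* F) c)⁻¹ = 1
    rw [mul_inv_eq_one]
    apply Units.ext
    exact hc.symm
  rw [← h7] at h8
  exact h8

end Norm

end Cfsg.Agent.H16.Desc
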