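import Mathlib
import Cfsg.Agent.H5_Herm

set_option autoImplicit false

/-! Involutive automorphisms of finite fields; orthonormal bases of Hermitian spaces. -/

namespace Cfsg.Agent.H5.Herm

open Frm

/-- a non-trivial involutive automorphism of a finite field is `x ↦ x^q` with `|F| = q²`. -/
theorem sigma_eq {F : Type*} [Field F] [Fintype F] (σ : F →+* F) (hσ : σ ≠ RingHom.id F)
    (hσ2 : ∀ a : F, σ (σ a) = a) : ∃ q : ℕ, Fintype.card F = q ^ 2 ∧ ∀ a, σ a = a ^ q := by
  classical
  -- the fixed field
  let K : Subfield F :=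
    { carrier := {x | σ x = x}
      mul_mem' := fun {a b} ha hb => by
        change σ (a * b) = a * b
        rw [map_mul, show σ a = a from ha, show σ b = b from hb]
      one_mem' := map_one σ
      add_mem' := fun {a b} ha hb => by
        change σ (a + b) = a + b
        rw [map_add, show σ a = a from ha, show σ b = b from hb]
      zero_mem' := map_zero σ
      neg_mem' := fun {a} ha => by
        change σ (-a) = -a
        rw [map_neg, show σ a = a from ha]
      inv_mem' := fun a ha => by
        change σ a⁻¹ = a⁻¹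
        rw [map_inv₀, show σ a = a from ha] }
  have hKmem : ∀ x, x ∈ K ↔ σ x = x := fun x => Iff.rfl
  have hKfin : Fintype K := Fintype.ofFinite K
  set q := Fintype.card K with hq
  have hq1 : 1 < q := Fintype.one_lt_card
  have hKq : ∀ x ∈ K, x ^ q = x := by
    intro x hx
    have := FiniteField.pow_card (⟨x, hx⟩ : K)
    exact congrArg Subtype.val this
  -- F has dimension 2 over K
  obtain ⟨θ, hθ⟩ : ∃ θ, σ θ ≠ θ := by
    by_contra hcon
    push Not at hcon
    exact hσ (RingHom.ext hcon)
  have hd : σ θ - θ ≠ 0 := sub_ne_zero.mpr hθ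
  let Φ : K × K → F := fun p => p.1 + p.2 * θ
  have hΦ : Function.Bijective Φ := by
    constructor
    · rintro ⟨a, b⟩ ⟨c, d⟩ h
      have h1 : (a : F) + b * θ = c + d * θ := h
      have h2 := congrArg σ h1
      rw [map_add, map_mul, map_add, map_mul, (hKmem _).mp a.2, (hKmem _).mp b.2,
        (hKmem _).mp c.2, (hKmem _).mp d.2] at h2
      have h3 : ((b : F) - d) * (σ θ - θ) = 0 := by linear_combination h2 - h1
      have h4 : (b : F) = d := sub_eq_zero.mp ((mul_eq_zero.mp h3).resolve_right hd)
      have h5 : (a : F) = c := by rw [h4] at h1; exact add_right_cancel h1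
      rw [Subtype.ext h4, Subtype.ext h5]
    · intro x
      set b := (σ x - x) / (σ θ - θ) with hb
      have hbK : b ∈ K := by
        rw [hKmem, hb, map_div₀, map_sub, map_sub, hσ2, hσ2, ← neg_sub (σ x), ← neg_sub (σ θ),
          neg_div_neg_eq]
      have haK : x - b * θ ∈ K := by
        rw [hKmem, map_sub, map_mul, (hKmem _).mp hbK]
        have : b * (σ θ - θ) = σ x - x := div_mul_cancel₀ _ hd
        linear_combination -this
      exact ⟨(⟨_, haK⟩, ⟨_, hbK⟩), by
        change x - b * θ + b * θ = x
        ring⟩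
  have hF : Fintype.card F = q ^ 2 := by
    rw [← Fintype.card_of_bijective hΦ, Fintype.card_prod, sq]
  refine ⟨q, hF, ?_⟩
  -- frobenius
  have hfr := Fld.frob_apply hF
  intro x
  rw [← hfr]
  -- roots
  have h1 : (Fld.frob hF x - x) * (Fld.frob hF x - σ x) = 0 := by
    have hs : x + σ x ∈ K := by rw [hKmem, map_add, hσ2, add_comm]
    have hp : x * σ x ∈ K := by rw [hKmem, map_mul, hσ2, mul_comm]
    have e1 : Fld.frob hF (x + σ x) = x + σ x := by rw [hfr, hKq _ hs]
    have e2 : Fld.frob hF (x * σ x) = x * σ x := by rw [hfr, hKq _ hp]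
    have e3 : (Fld.frob hF x) ^ 2 - Fld.frob hF (x + σ x) * Fld.frob hF x +
        Fld.frob hF (x * σ x) = 0 := by
      rw [← map_pow, ← map_mul, ← map_sub, ← map_add]
      have : x ^ 2 - (x + σ x) * x + x * σ x = 0 := by ring
      rw [this, map_zero]
    rw [e1, e2] at e3
    linear_combination e3
  rcases mul_eq_zero.mp h1 with h2 | h2
  · -- x^q = x hence x in K
    have h3 : x ^ q = x := by rw [← hfr]; exact sub_eq_zero.mp h2
    have hxK : x ∈ K := by
      -- K is the set of all roots
      have hne : (Polynomial.X ^ q - Polynomial.X : Polynomial F) ≠ 0 :=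
        FiniteField.X_pow_card_sub_X_ne_zero F hq1
      have hdeg : (Polynomial.X ^ q - Polynomial.X : Polynomial F).natDegree = q :=
        FiniteField.X_pow_card_sub_X_natDegree_eq F hq1
      set R := (Polynomial.X ^ q - Polynomial.X : Polynomial F).roots.toFinset with hR
      have hRcard : R.card ≤ q := by
        refine (Multiset.toFinset_card_le _).trans ?_
        have := Polynomial.card_roots' (Polynomial.X ^ q - Polynomial.X : Polynomial F)
        rwa [hdeg] at this
      have hmem : ∀ x : F, x ∈ R ↔ x ^ q = x := by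
        intro x
        rw [hR, Multiset.mem_toFinset, Polynomial.mem_roots hne, Polynomial.IsRoot.def]
        simp [sub_eq_zero]
      set S := Finset.univ.image (fun k : K => (k : F)) with hS
      have hScard : S.card = q := by
        rw [hS, Finset.card_image_of_injective _ Subtype.val_injective, Finset.card_univ]
      have hSR : S ⊆ R := by
        intro y hy
        rw [hS, Finset.mem_image] at hy
        obtain ⟨k, _, rfl⟩ := hy
        rw [hmem]
        exact hKq _ k.2
      have hEq : S = R := Finset.eq_of_subset_of_card_le hSR (by rw [hScard]; exact hRcard)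
      have : x ∈ S := by rw [hEq, hmem]; exact h3
      rw [hS, Finset.mem_image] at this
      obtain ⟨y, _, hy⟩ := this
      rw [← hy]
      exact y.2
    rw [(hKmem x).mp hxK]
    exact (sub_eq_zero.mp h2).symm
  · exact (sub_eq_zero.mp h2).symm

theorem orthonormal {F : Type*} [Field F] [Fintype F] {q : ℕ} (hF : Fintype.card F = q ^ 2) :
    ∀ (n : ℕ) {V : Type*} [AddCommGroup V] [Module F V] [FiniteDimensional F V]
    (A : Frm F (Fld.frob hF) 1 (tr hF) V), IsHerm hF A → A.Nondeg →
    Module.finrank F V = n → ∃ b : Module.Basis (Fin n) F V,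
      ∀ i j, A.B (b i) (b j) = if i = j then 1 else 0 := by
  intro n
  induction n with
  | zero =>
    intro V _ _ _ A _ _ hV
    exact ⟨Module.finBasisOfFinrankEq F V hV, fun i => i.elim0⟩
  | succ n ih =>
    intro V _ _ _ A hA hn hV
    have hnt : Nontrivial V := Module.nontrivial_of_finrank_pos (R := F) (by omega)
    obtain ⟨v0, hv0⟩ := exists_nonsing hA hn
    -- scale
    have hfix : A.Q v0 ^ q = A.Q v0 := by
      rw [← Fld.frob_apply hF, frob_Q hA]
    have hfix' : (A.Q v0)⁻¹ ^ q = (A.Q v0)⁻¹ := by rw [inv_pow, hfix]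
    obtain ⟨x, hx⟩ := Fld.exists_norm_eq hF _ hfix'
    have hBv : A.B (x • v0) (x • v0) = 1 := by
      rw [← hA, A.Q_smul, Fld.frob_apply, ← pow_succ', hx, inv_mul_cancel₀ hv0]
    set v := x • v0
    have hv : v ≠ 0 := by
      intro h
      rw [h, map_zero] at hBv
      exact zero_ne_one hBv
    set U := Submodule.span F {v}
    have hUnd : (A.restrict U).Nondeg := by
      rintro ⟨y, hy⟩ hyy
      obtain ⟨c, rfl⟩ := Submodule.mem_span_singleton.mp hy
      have h1 := hyy ⟨v, Submodule.mem_span_singleton_self v⟩
      rw [restrict_B] at h1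
      change A.B (c • v) v = 0 at h1
      rw [LinearMap.map_smulₛₗ₂, hBv, smul_eq_mul, mul_one] at h1
      have hc : c = 0 := (map_eq_zero _).mp h1
      apply Subtype.ext
      change c • v = 0
      rw [hc, zero_smul]
    have hcompl := isCompl_orth hn hUnd
    have hdim := finrank_orth hn U
    rw [finrank_span_singleton hv, hV] at hdim
    obtain ⟨b, hb⟩ := ih (A.restrict (A.orth U)) (hA.restrict _) (nondeg_orth hn hUnd) (by omega)
    have hvU : ∀ y ∈ A.orth U, A.B v y = 0 := fun y hy =>
      (A.mem_orth.mp hy) v (Submodule.mem_span_singleton_self v)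
    let b' := Module.Basis.mkFinCons v b (by
      intro c y hy h
      have h1 : A.B v (c • v + y) = 0 := by rw [h, map_zero]
      rw [map_add, (A.B v).map_smul, hBv, hvU y hy, add_zero, smul_eq_mul, mul_one] at h1
      exact h1) (by
      intro z
      refine ⟨-(A.B v z), ?_⟩
      rw [A.mem_orth]
      intro w hw
      obtain ⟨c, rfl⟩ := Submodule.mem_span_singleton.mp hw
      rw [LinearMap.map_smulₛₗ₂, map_add, (A.B v).map_smul, hBv]
      simp only [smul_eq_mul, mul_one, add_neg_cancel, mul_zero])
    refine ⟨b', ?_⟩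
    have hb'0 : b' 0 = v := by
      simp [b', Module.Basis.coe_mkFinCons]
    have hb's : ∀ i : Fin n, b' i.succ = (b i : V) := by
      intro i
      simp [b', Module.Basis.coe_mkFinCons]
    intro i j
    refine Fin.cases ?_ (fun i => ?_) i <;> refine Fin.cases ?_ (fun j => ?_) j
    · rw [hb'0, hBv, if_pos rfl]
    · rw [hb'0, hb's, hvU _ (b j).2, if_neg (Fin.succ_ne_zero j).symm]
    · rw [hb'0, hb's, if_neg (Fin.succ_ne_zero i)]
      exact A.refl (hvU _ (b i).2)
    · rw [hb's, hb's]
      have := hb i j
      rw [restrict_B] at this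
      rw [this]
      simp [Fin.succ_inj]


end Cfsg.Agent.H5.Herm
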