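import Mathlib
import Cfsg.Agent.H16_AutP
import Cfsg.Agent.H5_HermBasis
import Cfsg.Agent.H5_FrmInst

set_option autoImplicit false

/-! Hermitian matrices over finite fields: `g = h σ(h)ᵀ`. -/

namespace Cfsg.Agent.H16.Desc

open Matrix Module Cfsg.Agent.H16.AutL Cfsg.Agent.H5

variable {F : Type*} [Field F] [Finite F] {n : ℕ}

theorem gσ_git (σ : F ≃+* F) (g : GL (Fin n) F) : gσ σ (git g) = git (gσ σ g) := by
  apply Units.ext
  rw [gσ_coe, git_coe, git_coe, gσ_inv_coe]
  rfl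

/-- Hermitian matrices over a finite field are of the form `h σ(h)ᵀ`. -/
theorem exists_herm_factor (σ : F ≃+* F) (hσ : σ ≠ 1) (hσ2 : ∀ a, σ (σ a) = a) (g : GL (Fin n) F)
    (hg : (((g : Matrix (Fin n) (Fin n) F)).map σ)ᵀ = (g : Matrix (Fin n) (Fin n) F)) :
    ∃ h : GL (Fin n) F, (g : Matrix (Fin n) (Fin n) F) =
      (h : Matrix (Fin n) (Fin n) F) * ((h : Matrix (Fin n) (Fin n) F).map σ)ᵀ := by
  have : Fintype F := Fintype.ofFinite F
  obtain ⟨q, hF, hq⟩ := Herm.sigma_eq (σ : F →+* F) (by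
    intro h
    apply hσ
    ext a
    exact congrArg (fun f : F →+* F => f a) h) hσ2
  have hfr : ∀ a, Fld.frob hF a = σ a := fun a => by rw [Fld.frob_apply, ← hq]; rfl
  let B : (Fin n → F) →ₛₗ[Fld.frob hF] (Fin n → F) →ₗ[F] F :=
    { toFun := fun x =>
        { toFun := fun y => (fun i => σ (x i)) ⬝ᵥ ((g : Matrix (Fin n) (Fin n) F) *ᵥ y)
          map_add' := fun y z => by rw [mulVec_add, dotProduct_add]
          map_smul' := fun c y => by rw [mulVec_smul, dotProduct_smul, RingHom.id_apply] }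
      map_add' := fun x y => by
        refine LinearMap.ext fun z => ?_
        change (fun i => σ (x i + y i)) ⬝ᵥ _ = (fun i => σ (x i)) ⬝ᵥ _ + (fun i => σ (y i)) ⬝ᵥ _
        rw [← add_dotProduct]
        congr 1
        funext i
        exact _root_.map_add σ _ _
      map_smul' := fun c x => by
        refine LinearMap.ext fun z => ?_
        change (fun i => σ (c * x i)) ⬝ᵥ _ = Fld.frob hF c • ((fun i => σ (x i)) ⬝ᵥ _)
        rw [← smul_dotProduct, hfr]
        congr 1
        funext i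
        exact _root_.map_mul σ _ _ }
  have hB : ∀ x y, B x y = (fun i => σ (x i)) ⬝ᵥ ((g : Matrix (Fin n) (Fin n) F) *ᵥ y) := fun x y => rfl
  have hS : B.IsSymm := by
    constructor
    intro x y
    have e1 : ∀ u w : Fin n → F, σ (u ⬝ᵥ w) = (fun i => σ (u i)) ⬝ᵥ (fun i => σ (w i)) := by
      intro u w
      simp only [dotProduct, _root_.map_sum, _root_.map_mul]
    rw [hB, hB, hfr, e1]
    simp only [hσ2]
    have e2 : (fun i => σ (((g : Matrix (Fin n) (Fin n) F) *ᵥ y) i)) =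
        ((g : Matrix (Fin n) (Fin n) F).map σ) *ᵥ (fun i => σ (y i)) := by
      funext i
      simp only [mulVec, dotProduct, _root_.map_sum, _root_.map_mul, Matrix.map_apply]
    rw [e2, dotProduct_comm, ← vecMul_transpose, hg, dotProduct_mulVec]
  let A : Frm F (Fld.frob hF) 1 (Herm.tr hF) (Fin n → F) :=
    Frm.ofHerm (Fld.frob_ne_id hF) (Fld.frob_frob hF) B hS
  have hA : Herm.IsHerm hF A := fun v => rfl
  have hnd : A.Nondeg := by
    intro x hx
    have h1 : ∀ y, (fun i => σ (x i)) ⬝ᵥ ((g : Matrix (Fin n) (Fin n) F) *ᵥ y) = 0 := hx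
    have h2 : ∀ y, (fun i => σ (x i)) ⬝ᵥ y = 0 := by
      intro y
      have := h1 (((g⁻¹ : GL (Fin n) F) : Matrix (Fin n) (Fin n) F) *ᵥ y)
      rwa [gl_cancel'] at this
    have h3 : (fun i => σ (x i)) = 0 := dotProduct_eq_zero _ h2
    funext i
    have := congrFun h3 i
    exact (map_eq_zero_iff σ σ.injective).mp this
  obtain ⟨b, hb⟩ := Herm.orthonormal hF n A hA hnd (by rw [finrank_fin_fun])
  obtain ⟨P, hP⟩ := exists_gl ((Pi.basisFun F (Fin n)).equiv b (Equiv.refl _))
  have hPe : ∀ i, (P : Matrix (Fin n) (Fin n) F) *ᵥ ee i = b i := by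
    intro i
    rw [hP]
    have := (Pi.basisFun F (Fin n)).equiv_apply i b (Equiv.refl _)
    rw [Pi.basisFun_apply] at this
    exact this
  have key : ((P : Matrix (Fin n) (Fin n) F).map σ)ᵀ * ((g : Matrix (Fin n) (Fin n) F) *
      (P : Matrix (Fin n) (Fin n) F)) = 1 := by
    ext i j
    rw [Matrix.one_apply]
    have h1 : A.B (b i) (b j) = if i = j then 1 else 0 := hb i j
    rw [← h1]
    change _ = (fun k => σ ((b i) k)) ⬝ᵥ ((g : Matrix (Fin n) (Fin n) F) *ᵥ b j)
    rw [← hPe i, ← hPe j, mulVec_mulVec, Matrix.mul_apply]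
    simp only [dotProduct, mulVec_ee]
    rfl
  refine ⟨git (gσ σ P), ?_⟩
  have h1 : (((git (gσ σ P) : GL (Fin n) F) : Matrix (Fin n) (Fin n) F).map σ)ᵀ =
      ((P⁻¹ : GL (Fin n) F) : Matrix (Fin n) (Fin n) F) := by
    rw [← gσ_coe, gσ_git]
    have h2 : gσ σ (gσ σ P) = P := by
      apply Units.ext
      ext i j
      exact hσ2 _
    rw [h2, git_coe, transpose_transpose]
  rw [h1]
  have h3 : (git (gσ σ P))⁻¹ * (g * P) = 1 := by
    apply Units.ext
    rw [Units.val_mul, Units.val_mul, git_inv_coe, gσ_coe, key, Units.val_one]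
  have h4 : g = git (gσ σ P) * P⁻¹ := by
    rw [inv_mul_eq_one] at h3
    rw [h3, mul_inv_cancel_right]
  conv_lhs => rw [h4]
  rfl

end Cfsg.Agent.H16.Desc
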