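import Cfsg.Agent.H16_AutP3
import Cfsg.Agent.H16_Desc
import Cfsg.Agent.H16_HermM

set_option autoImplicit false

/-! Field and graph-field automorphisms of `PSL_n(F)`. -/

namespace Cfsg.Agent.H16.AutL

open Matrix Cfsg.Agent.H16.AutG Cfsg.Agent.H16.Desc Module

variable {F : Type*} [Field F] [Finite F] {n : ℕ}

theorem gσ_scalar (σ : F ≃+* F) (c : Fˣ) :
    gσ σ (Matrix.GeneralLinearGroup.scalar (Fin n) c) =
      Matrix.GeneralLinearGroup.scalar (Fin n) (Units.map (σ : F →* F) c) := by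
  apply Units.ext
  ext i j
  change σ ((Matrix.scalar (Fin n) (c : F)) i j) = (Matrix.scalar (Fin n) (σ (c : F))) i j
  rw [Matrix.scalar_apply, Matrix.scalar_apply, Matrix.diagonal_apply, Matrix.diagonal_apply]
  split_ifs <;> simp

theorem scalar_comm (c : Fˣ) (g : GL (Fin n) F) :
    Matrix.GeneralLinearGroup.scalar (Fin n) c * g = g * Matrix.GeneralLinearGroup.scalar (Fin n) c := by
  have : Matrix.GeneralLinearGroup.scalar (Fin n) c ∈ Subgroup.center (GL (Fin n) F) := by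
    rw [Matrix.GeneralLinearGroup.center_eq_range_scalar]; exact ⟨c, rfl⟩
  exact (Subgroup.mem_center_iff.mp this g).symm

theorem Nn_scalar (σ : F ≃+* F) (c : Fˣ) (g : GL (Fin n) F) (k : ℕ) :
    Nn σ (Matrix.GeneralLinearGroup.scalar (Fin n) c * g) k =
      Matrix.GeneralLinearGroup.scalar (Fin n) (nn σ c k) * Nn σ g k := by
  induction k with
  | zero => rw [Nn_zero, Nn_zero, nn, _root_.map_one, one_mul]
  | succ k ih =>
    rw [Nn_succ, ih, Nn_succ, nn, _root_.map_mul, _root_.map_mul, gσ_scalar, mul_assoc, mul_assoc]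
    congr 1
    rw [← mul_assoc, ← scalar_comm, mul_assoc]

theorem dn_scalar (hn : 2 ≤ n) (c : Fˣ) :
    (dn (cjS (Matrix.GeneralLinearGroup.scalar (Fin n) c)) :
      MulAut (Matrix.ProjectiveSpecialLinearGroup (Fin n) F)) = 1 := by
  rw [dn_cjS_eq_one hn, Matrix.GeneralLinearGroup.center_eq_range_scalar]
  exact ⟨c, rfl⟩

theorem gl_smul_one {g : GL (Fin n) F} {c : Fˣ} (h : (g : Matrix (Fin n) (Fin n) F) = (c : F) • 1) :
    g = Matrix.GeneralLinearGroup.scalar (Fin n) c := by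
  apply Units.ext
  rw [h]
  ext i j
  simp [Matrix.smul_apply, Matrix.one_apply, Matrix.diagonal_apply]

theorem scalar_inj (hn : 2 ≤ n) {c d : Fˣ} (h : Matrix.GeneralLinearGroup.scalar (Fin n) c =
    Matrix.GeneralLinearGroup.scalar (Fin n) d) : c = d := by
  have h1 := congrArg (fun g : GL (Fin n) F => (g : Matrix (Fin n) (Fin n) F) ⟨0, by omega⟩ ⟨0, by omega⟩) h
  apply Units.ext
  simpa using h1

theorem mul_inv_of_comm {A : Type*} [Group A] {a b c : A} (h : a * b = c * a) :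
    a * b⁻¹ = c⁻¹ * a := by
  rw [eq_inv_mul_iff_mul_eq, ← mul_assoc, ← h, mul_inv_cancel_right]

/-- elements of order `r` in the coset of a field automorphism of order `r` are conjugate to it. -/
theorem cf_conj (hn : 2 ≤ n) {σ : F ≃+* F} {r : ℕ} (hr : orderOf σ = r) (hr0 : 0 < r)
    {g : GL (Fin n) F}
    (h : ((dn (cjS g) * dn (fS σ) : MulAut (Matrix.ProjectiveSpecialLinearGroup (Fin n) F))) ^ r = 1) :
    ∃ h : GL (Fin n) F, (dn (cjS g) * dn (fS σ) : MulAut (Matrix.ProjectiveSpecialLinearGroup (Fin n) F)) =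
      dn (cjS h) * dn (fS σ) * (dn (cjS h))⁻¹ := by
  have hnt : Nontrivial (Fin n) := Fin.nontrivial_iff_two_le.mpr hn
  rw [← _root_.map_mul, ← _root_.map_pow, pow_cf, _root_.map_mul] at h
  obtain ⟨-, c, hc⟩ := cf_eq_one h
  have hc' := gl_smul_one hc
  -- `c` is fixed
  have hcf : σ (c : F) = c := by
    obtain ⟨s, rfl⟩ : ∃ s, r = s + 1 := ⟨r - 1, by omega⟩
    have e1 := Nn_succ σ g (s + 1)
    rw [Nn_succ', hc', gσ_scalar, ← hr, pow_orderOf_eq_one, gσ_one, scalar_comm] at e1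
    have e2 := mul_left_cancel e1
    exact (congrArg Units.val (scalar_inj hn e2)).symm
  obtain ⟨x, hx⟩ := exists_norm_eq σ hr hr0 c⁻¹ (by
    have : ((c⁻¹ : Fˣ) : F) = (c : F)⁻¹ := by simp
    rw [this, map_inv₀, hcf])
  obtain ⟨y, hy⟩ := hilbert90 σ hr hr0 (Matrix.GeneralLinearGroup.scalar (Fin n) x * g) (by
    rw [Nn_scalar, hc', hx, ← _root_.map_mul, inv_mul_cancel, _root_.map_one])
  refine ⟨y, ?_⟩
  have h1 : (dn (cjS g) : MulAut (Matrix.ProjectiveSpecialLinearGroup (Fin n) F)) =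
      dn (cjS (Matrix.GeneralLinearGroup.scalar (Fin n) x * g)) := by
    rw [_root_.map_mul, _root_.map_mul, dn_scalar hn, one_mul]
  have h2 : Matrix.GeneralLinearGroup.scalar (Fin n) x * g = y * (gσ σ y)⁻¹ := by
    rw [eq_mul_inv_iff_mul_eq]; exact hy
  rw [h1, h2, _root_.map_mul, _root_.map_mul, mul_assoc, mul_assoc (dn (cjS y)),
    mul_inv_of_comm (dn_fS_cjS σ y), _root_.map_inv, _root_.map_inv]

/-- graph-field automorphisms. -/
theorem cfi_conj (hn : 3 ≤ n) {σ : F ≃+* F} (hσ : orderOf σ = 2)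
    {g : GL (Fin n) F}
    (h : ((dn (cjS g) * dn (fS σ) * dn iS : MulAut (Matrix.ProjectiveSpecialLinearGroup (Fin n) F))) ^ 2 = 1) :
    ∃ h : GL (Fin n) F, (dn (cjS g) * dn (fS σ) * dn iS :
        MulAut (Matrix.ProjectiveSpecialLinearGroup (Fin n) F)) =
      dn (cjS h) * (dn (fS σ) * dn iS) * (dn (cjS h))⁻¹ := by
  have h2 : 2 ≤ n := by omega
  have hσ1 : σ ≠ 1 := by
    intro h1
    rw [h1, orderOf_one] at hσ
    omega
  have hσ2 : ∀ a, σ (σ a) = a := by
    intro a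
    have h1 : σ ^ 2 = 1 := by rw [← hσ, pow_orderOf_eq_one]
    rw [sq] at h1
    exact congrArg (fun f : F ≃+* F => f a) h1
  have hσσ : ∀ x : GL (Fin n) F, gσ σ (gσ σ x) = x := by
    intro x
    apply Units.ext
    ext i j
    exact hσ2 _
  -- the square
  have e1 : (dn (cjS g) * dn (fS σ) * dn iS) ^ 2 =
      (dn (cjS (g * gσ σ (git g))) : MulAut (Matrix.ProjectiveSpecialLinearGroup (Fin n) F)) := by
    rw [sq]
    calc _ = dn (cjS g) * dn (fS σ) * (dn iS * dn (cjS g)) * dn (fS σ) * dn iS := by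
          simp only [mul_assoc]
      _ = dn (cjS g) * (dn (fS σ) * dn (cjS (git g))) * dn iS * dn (fS σ) * dn iS := by
          rw [dn_iS_cjS]; simp only [mul_assoc]
      _ = dn (cjS g) * dn (cjS (gσ σ (git g))) * dn (fS σ) * (dn iS * dn (fS σ)) * dn iS := by
          rw [dn_fS_cjS]; simp only [mul_assoc]
      _ = dn (cjS g) * dn (cjS (gσ σ (git g))) * (dn (fS σ) * dn (fS σ)) * (dn iS * dn iS) := by
          rw [← dn_fS_iS]; simp only [mul_assoc]
      _ = _ := by
          rw [iS_sq, mul_one, ← _root_.map_mul (dn) (fS σ), ← _root_.map_mul fS, ← sq σ, ← hσ,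
            pow_orderOf_eq_one, _root_.map_one, _root_.map_one, mul_one, ← _root_.map_mul, ← _root_.map_mul]
  rw [e1, dn_cjS_eq_one h2, Matrix.GeneralLinearGroup.center_eq_range_scalar] at h
  obtain ⟨c, hc⟩ := h
  -- `g = c σ(g)ᵀ`
  have e2 : g = Matrix.GeneralLinearGroup.scalar (Fin n) c * (gσ σ (git g))⁻¹ := by
    rw [eq_mul_inv_iff_mul_eq]; exact hc.symm
  have gs : ∀ c : Fˣ, git (Matrix.GeneralLinearGroup.scalar (Fin n) c) =
      Matrix.GeneralLinearGroup.scalar (Fin n) c⁻¹ := by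
    intro c
    have h1 : (git (Matrix.GeneralLinearGroup.scalar (Fin n) c))⁻¹ =
        Matrix.GeneralLinearGroup.scalar (Fin n) c := by
      apply Units.ext
      rw [git_inv_coe]
      change (Matrix.scalar (Fin n) (c : F))ᵀ = Matrix.scalar (Fin n) (c : F)
      rw [Matrix.scalar_apply, diagonal_transpose]
    rw [← inv_inv (git (Matrix.GeneralLinearGroup.scalar (Fin n) c)), h1, _root_.map_inv]
  have e3 : c * Units.map (σ : F →* F) c = 1 := by
    apply scalar_inj h2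
    have e4 := congrArg (fun x => gσ σ (git x)) hc
    simp only [_root_.map_mul, gs, gσ_scalar] at e4
    rw [gσ_git σ (gσ σ (git g)), hσσ, git_git] at e4
    have e5 : gσ σ (git g) * g = Matrix.GeneralLinearGroup.scalar (Fin n) c := by
      have := scalar_comm c g
      rw [hc] at this
      have h6 := mul_left_cancel ((mul_assoc g (gσ σ (git g)) g).symm.trans (this.trans rfl))
      rw [h6, ← hc]
    rw [e5] at e4
    rw [_root_.map_one, _root_.map_mul, ← e4, ← _root_.map_mul, ← _root_.map_mul,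
      inv_mul_cancel, _root_.map_one, _root_.map_one]
  -- choose `t` with `t / σ(t) = c⁻¹`
  obtain ⟨t, ht⟩ := hilbert90_one σ hσ (by norm_num) c⁻¹ (by
    rw [nn, nn, nn, _root_.map_one, mul_one, _root_.map_inv, ← mul_inv, e3, inv_one])
  -- hermitian
  let g' : GL (Fin n) F := Matrix.GeneralLinearGroup.scalar (Fin n) t * g
  have htt : Units.map (σ : F →* F) t = c * t := by
    apply Units.ext
    change σ (t : F) = c * t
    have h5 : (c : F) * (((c⁻¹ : Fˣ) : F) * σ (t : F)) = c * t := by rw [ht]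
    rw [← h5, ← mul_assoc, ← Units.val_mul, mul_inv_cancel, Units.val_one, one_mul]
  have hherm : (gσ σ (git g'))⁻¹ = g' := by
    simp only [g', _root_.map_mul, gs, gσ_scalar, _root_.mul_inv_rev]
    rw [_root_.map_inv, _root_.map_inv, inv_inv, htt]
    conv_rhs => rw [e2]
    rw [← mul_assoc, ← _root_.map_mul, mul_comm t c, scalar_comm]
  have hherm' : (((g' : Matrix (Fin n) (Fin n) F)).map σ)ᵀ = (g' : Matrix (Fin n) (Fin n) F) := by
    conv_rhs => rw [← hherm]
    rw [gσ_inv_coe, git_inv_coe]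
    rfl
  obtain ⟨y, hy⟩ := exists_herm_factor σ hσ1 hσ2 g' hherm'
  refine ⟨y, ?_⟩
  have h3 : g' = y * (gσ σ (git y))⁻¹ := by
    apply Units.ext
    rw [hy, Units.val_mul, gσ_inv_coe, git_inv_coe]
    rfl
  have h4 : (dn (cjS g) : MulAut (Matrix.ProjectiveSpecialLinearGroup (Fin n) F)) = dn (cjS g') := by
    simp only [g']
    rw [_root_.map_mul, _root_.map_mul, dn_scalar h2, one_mul]
  rw [h4, h3, _root_.map_mul, _root_.map_mul, mul_assoc, mul_assoc, mul_assoc (dn (cjS y)), mul_assoc (dn (fS σ)),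
    ← _root_.map_inv (dn) (cjS y), ← _root_.map_inv cjS y, dn_iS_cjS, ← mul_assoc (dn (fS σ)), dn_fS_cjS, _root_.map_inv git,
    _root_.map_inv (gσ σ), mul_assoc]

theorem conj_transfer {A : Type*} [Group A] {D : Subgroup A} (hD : D.Normal) {α x y δ : A} {r : ℕ}
    (hy : α * x * α⁻¹ = y) (hδ : δ ∈ D)
    (H : ∀ δ' ∈ D, (δ' * y) ^ r = 1 → ∃ η ∈ D, δ' * y = η * y * η⁻¹) (hr : (δ * x) ^ r = 1) :
    ∃ η ∈ D, δ * x = η * x * η⁻¹ := by
  obtain ⟨η, hη, h⟩ := H (α * δ * α⁻¹) (hD.conj_mem _ hδ α) (by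
    have : α * δ * α⁻¹ * y = α * (δ * x) * α⁻¹ := by rw [← hy]; group
    rw [this, conj_pow, hr, mul_one, mul_inv_cancel])
  have h5 : α⁻¹ * η * α ∈ D := by
    have := hD.conj_mem _ hη α⁻¹
    rwa [inv_inv] at this
  refine ⟨α⁻¹ * η * α, h5, ?_⟩
  rw [← hy] at h
  have : δ * x = α⁻¹ * (α * δ * α⁻¹ * (α * x * α⁻¹)) * α := by group
  rw [this, h]
  group

theorem orderOf_conj' {A : Type*} [Group A] (η x : A) : orderOf (η * x * η⁻¹) = orderOf x := by
  have := (MulAut.conj η).orderOf_eq x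
  rwa [MulAut.conj_apply] at this

end Cfsg.Agent.H16.AutL
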