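import Cfsg.Prelude.Def_LieTypeDatum

set_option autoImplicit false

/-! Counting the classes into which a class splits. -/

namespace Cfsg.Agent.H16.Split

variable {A : Type*} [Group A]

theorem conjUnder_symm {K : Subgroup A} {x y : A} (h : Cfsg.IsConjUnder K x y) :
    Cfsg.IsConjUnder K y x := by
  obtain ⟨k, hk, rfl⟩ := h
  exact ⟨k⁻¹, inv_mem hk, by group⟩

theorem conjUnder_trans {K : Subgroup A} {x y z : A} (h : Cfsg.IsConjUnder K x y)
    (h' : Cfsg.IsConjUnder K y z) : Cfsg.IsConjUnder K x z := by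
  obtain ⟨k, hk, rfl⟩ := h
  obtain ⟨l, hl, rfl⟩ := h'
  exact ⟨l * k, mul_mem hl hk, by group⟩

theorem conjUnder_refl (K : Subgroup A) (x : A) : Cfsg.IsConjUnder K x x :=
  ⟨1, one_mem _, by group⟩

/-- the number of `K`-classes in the `D`-class of `x` is the index of `K C_D(x)` in `D`. -/
theorem splitClassCount_eq (D K : Subgroup A) (hK : K.Normal) (hKD : K ≤ D) (x : A) :
    Cfsg.splitClassCount D K x = (K ⊔ (D ⊓ Subgroup.centralizer {x})).relIndex D := by
  rw [Cfsg.splitClassCount, Subgroup.relIndex, Subgroup.index]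
  set M := K ⊔ (D ⊓ Subgroup.centralizer {x}) with hM
  have hcen : ∀ c : A, c ∈ Subgroup.centralizer ({x} : Set A) ↔ c * x * c⁻¹ = x := by
    intro c
    rw [Subgroup.mem_centralizer_singleton_iff, mul_inv_eq_iff_eq_mul]
  -- the map
  let f : D → Quot (fun y z : {y : A // Cfsg.IsConjUnder D x y} => Cfsg.IsConjUnder K y.1 z.1) :=
    fun h => Quot.mk _ ⟨h * x * (h : A)⁻¹, h, h.2, rfl⟩
  have hrel : ∀ h h' : D, Cfsg.IsConjUnder K ((h : A) * x * (h : A)⁻¹) (h' * x * (h' : A)⁻¹) ↔
      h⁻¹ * h' ∈ M.subgroupOf D := by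
    intro h h'
    rw [Subgroup.mem_subgroupOf]
    constructor
    · rintro ⟨k, hk, e⟩
      have h1 : ((h : A)⁻¹ * k⁻¹ * h') * x * ((h : A)⁻¹ * k⁻¹ * h')⁻¹ = x := by
        have : ((h : A)⁻¹ * k⁻¹ * h') * x * ((h : A)⁻¹ * k⁻¹ * h')⁻¹ =
          (h : A)⁻¹ * k⁻¹ * (h' * x * (h' : A)⁻¹) * k * h := by group
        rw [this, e]
        group
      have h2 : (h : A)⁻¹ * k⁻¹ * h' ∈ D ⊓ Subgroup.centralizer ({x} : Set A) :=
        ⟨D.mul_mem (D.mul_mem (D.inv_mem h.2) (D.inv_mem (hKD hk))) h'.2, (hcen _).mpr h1⟩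
      have h3 : ((h⁻¹ * h' : D) : A) = ((h : A)⁻¹ * k * h) * ((h : A)⁻¹ * k⁻¹ * h') := by
        rw [Subgroup.coe_mul, Subgroup.coe_inv]; group
      rw [h3]
      have h4 := hK.conj_mem k hk (h : A)⁻¹
      rw [inv_inv] at h4
      exact mul_mem (Subgroup.mem_sup_left h4) (Subgroup.mem_sup_right h2)
    · intro hm
      obtain ⟨k, hk, c, hc, e⟩ := Subgroup.mem_sup_of_normal_left.mp hm
      refine ⟨h * k * (h : A)⁻¹, hK.conj_mem k hk h, ?_⟩
      have e1 : (h' : A) = h * k * c := by
        rw [mul_assoc, e, Subgroup.coe_mul, Subgroup.coe_inv, mul_inv_cancel_left]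
      have e2 := (hcen c).mp hc.2
      have : (h' : A) * x * (h' : A)⁻¹ = h * k * (c * x * c⁻¹) * (k⁻¹ * (h : A)⁻¹) := by
        rw [e1]; group
      rw [this, e2]
      group
  have hquot : ∀ h h' : D, f h = f h' ↔ h⁻¹ * h' ∈ M.subgroupOf D := by
    intro h h'
    rw [← hrel]
    constructor
    · intro e
      have := Quot.eqvGen_exact e
      have key : ∀ a b : {y : A // Cfsg.IsConjUnder D x y},
          Relation.EqvGen (fun y z : {y : A // Cfsg.IsConjUnder D x y} => Cfsg.IsConjUnder K y.1 z.1) a b →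
          Cfsg.IsConjUnder K a.1 b.1 := by
        intro a b hab
        induction hab with
        | rel _ _ h => exact h
        | refl _ => exact conjUnder_refl K _
        | symm _ _ _ h => exact conjUnder_symm h
        | trans _ _ _ _ _ h h' => exact conjUnder_trans h h'
      exact key _ _ this
    · intro e
      exact Quot.sound e
  let F : (D ⧸ M.subgroupOf D) →
      Quot (fun y z : {y : A // Cfsg.IsConjUnder D x y} => Cfsg.IsConjUnder K y.1 z.1) :=
    Quotient.lift f (fun a b hab => (hquot a b).mpr (QuotientGroup.leftRel_apply.mp hab))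
  have hF : ∀ h : D, F (QuotientGroup.mk h) = f h := fun h => rfl
  refine (Nat.card_congr (Equiv.ofBijective F ⟨?_, ?_⟩)).symm
  · intro a b hab
    induction a using QuotientGroup.induction_on with
    | H a =>
      induction b using QuotientGroup.induction_on with
      | H b =>
        rw [hF, hF, hquot] at hab
        exact QuotientGroup.eq.mpr hab
  · intro q
    obtain ⟨⟨y, h, hh, rfl⟩, rfl⟩ := Quot.exists_rep q
    exact ⟨QuotientGroup.mk ⟨h, hh⟩, rfl⟩

/-- invariance under conjugation. -/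
theorem relIndex_conj (D K : Subgroup A) (hK : K.Normal) (hD : D.Normal) (α x : A) :
    (K ⊔ (D ⊓ Subgroup.centralizer {α * x * α⁻¹})).relIndex D =
      (K ⊔ (D ⊓ Subgroup.centralizer {x})).relIndex D := by
  have hinj : Function.Injective (MulAut.conj α).toMonoidHom := (MulAut.conj α).injective
  have hmem : ∀ (H : Subgroup A) (y : A), y ∈ H.map (MulAut.conj α).toMonoidHom ↔ α⁻¹ * y * α ∈ H := by
    intro H y
    constructor
    · rintro ⟨z, hz, rfl⟩
      change α⁻¹ * (α * z * α⁻¹) * α ∈ H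
      have : α⁻¹ * (α * z * α⁻¹) * α = z := by group
      rwa [this]
    · intro h
      refine ⟨_, h, ?_⟩
      change α * (α⁻¹ * y * α) * α⁻¹ = y
      group
  have h1 : ∀ H : Subgroup A, H.Normal → H.map (MulAut.conj α).toMonoidHom = H := by
    intro H hH
    ext y
    rw [hmem]
    constructor
    · intro h
      have := hH.conj_mem _ h α
      have e : α * (α⁻¹ * y * α) * α⁻¹ = y := by group
      rwa [e] at this
    · intro h
      have := hH.conj_mem _ h α⁻¹
      rwa [inv_inv] at this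
  have h2 : (D ⊓ Subgroup.centralizer ({x} : Set A)).map (MulAut.conj α).toMonoidHom =
      D ⊓ Subgroup.centralizer {α * x * α⁻¹} := by
    ext y
    rw [hmem, Subgroup.mem_inf, Subgroup.mem_inf, Subgroup.mem_centralizer_singleton_iff,
      Subgroup.mem_centralizer_singleton_iff, ← hmem D, h1 D hD]
    refine and_congr_right fun _ => ?_
    constructor
    · intro h
      have : y * (α * x * α⁻¹) = α * ((α⁻¹ * y * α) * x) * α⁻¹ := by group
      rw [this, h]; group
    · intro h
      have : (α⁻¹ * y * α) * x = α⁻¹ * (y * (α * x * α⁻¹)) * α := by group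
      rw [this, h]; group
  have h3 := Subgroup.relIndex_map_map_of_injective (K ⊔ (D ⊓ Subgroup.centralizer {x})) D hinj
  rw [Subgroup.map_sup, h2, h1 K hK, h1 D hD] at h3
  exact h3

theorem splitClassCount_conj (D K : Subgroup A) (hK : K.Normal) (hD : D.Normal) (hKD : K ≤ D) (α x : A) :
    Cfsg.splitClassCount D K (α * x * α⁻¹) = Cfsg.splitClassCount D K x := by
  rw [splitClassCount_eq D K hK hKD, splitClassCount_eq D K hK hKD, relIndex_conj D K hK hD]

/-- transport of the centralizer in a normal subgroup. -/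
theorem nonempty_centralizer_conj (D : Subgroup A) (hD : D.Normal) (α x : A) {G : Type*} [Group G]
    (h : Nonempty (↥(D ⊓ Subgroup.centralizer {α * x * α⁻¹}) ≃* G)) :
    Nonempty (↥(D ⊓ Subgroup.centralizer {x}) ≃* G) := by
  obtain ⟨e⟩ := h
  have hinj : Function.Injective (MulAut.conj α).toMonoidHom := (MulAut.conj α).injective
  have h2 : (D ⊓ Subgroup.centralizer ({x} : Set A)).map (MulAut.conj α).toMonoidHom =
      D ⊓ Subgroup.centralizer {α * x * α⁻¹} := by
    ext y
    constructor
    · rintro ⟨z, ⟨hz1, hz2⟩, rfl⟩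
      refine ⟨hD.conj_mem z hz1 α, ?_⟩
      replace hz2 : z ∈ Subgroup.centralizer ({x} : Set A) := hz2
      rw [Subgroup.mem_centralizer_singleton_iff] at hz2
      change _ ∈ Subgroup.centralizer ({α * x * α⁻¹} : Set A)
      rw [Subgroup.mem_centralizer_singleton_iff]
      change α * z * α⁻¹ * (α * x * α⁻¹) = (α * x * α⁻¹) * (α * z * α⁻¹)
      have : α * z * α⁻¹ * (α * x * α⁻¹) = α * (z * x) * α⁻¹ := by group
      rw [this, hz2]; group
    · rintro ⟨hy1, hy2⟩
      refine ⟨α⁻¹ * y * α, ⟨?_, ?_⟩, ?_⟩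
      · have := hD.conj_mem y hy1 α⁻¹
        rwa [inv_inv] at this
      · replace hy2 : y ∈ Subgroup.centralizer ({α * x * α⁻¹} : Set A) := hy2
        change _ ∈ Subgroup.centralizer ({x} : Set A)
        rw [Subgroup.mem_centralizer_singleton_iff] at hy2 ⊢
        have : (α⁻¹ * y * α) * x = α⁻¹ * (y * (α * x * α⁻¹)) * α := by group
        rw [this, hy2]; group
      · change α * (α⁻¹ * y * α) * α⁻¹ = y
        group
  rw [← h2] at e
  exact ⟨(Subgroup.equivMapOfInjective _ _ hinj).trans e⟩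

/-- `n`-th powers times `m`-th powers. -/
theorem powers_sup {C : Type*} [CommGroup C] (n m : ℕ) :
    (powMonoidHom n : C →* C).range ⊔ (powMonoidHom m : C →* C).range =
      (powMonoidHom (Nat.gcd n m) : C →* C).range := by
  apply le_antisymm
  · rw [sup_le_iff]
    constructor
    · rintro _ ⟨x, rfl⟩
      obtain ⟨k, hk⟩ := Nat.gcd_dvd_left n m
      refine ⟨x ^ k, ?_⟩
      rw [powMonoidHom_apply, powMonoidHom_apply, ← pow_mul]
      conv_rhs => rw [hk]
      rw [mul_comm]
    · rintro _ ⟨x, rfl⟩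
      obtain ⟨k, hk⟩ := Nat.gcd_dvd_right n m
      refine ⟨x ^ k, ?_⟩
      rw [powMonoidHom_apply, powMonoidHom_apply, ← pow_mul]
      conv_rhs => rw [hk]
      rw [mul_comm]
  · rintro _ ⟨x, rfl⟩
    rw [powMonoidHom_apply, ← zpow_natCast, Nat.gcd_eq_gcd_ab, zpow_add, zpow_mul, zpow_mul]
    have h1 : ∀ k : ℕ, x ^ (k : ℤ) ∈ (powMonoidHom k : C →* C).range := fun k =>
      ⟨x, by rw [zpow_natCast, powMonoidHom_apply]⟩
    exact mul_mem (Subgroup.mem_sup_left (Subgroup.zpow_mem _ (h1 n) _))
      (Subgroup.mem_sup_right (Subgroup.zpow_mem _ (h1 m) _))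

/-- in a finite cyclic group subgroups are determined by their order. -/
theorem eq_of_card_eq {C : Type*} [CommGroup C] [Finite C] [IsCyclic C] {H K : Subgroup C}
    (h : Nat.card H = Nat.card K) : H = K := by
  have key : ∀ L : Subgroup C, L = (powMonoidHom (Nat.card L) : C →* C).ker := by
    intro L
    apply Subgroup.eq_of_le_of_card_ge
    · intro x hx
      rw [MonoidHom.mem_ker, powMonoidHom_apply]
      have := pow_card_eq_one' (x := (⟨x, hx⟩ : L))
      exact congrArg Subtype.val this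
    · rw [IsCyclic.card_powMonoidHom_ker, Nat.gcd_eq_right (Subgroup.card_subgroup_dvd_card L)]
  rw [key H, key K, h]

/-- subgroup of order `d` of a cyclic group of order `N = d m` is the group of `m`-th powers. -/
theorem eq_powers {C : Type*} [CommGroup C] [Finite C] [IsCyclic C] {H : Subgroup C} {m : ℕ}
    (h : Nat.card H * m = Nat.card C) : H = (powMonoidHom m : C →* C).range := by
  apply eq_of_card_eq
  have hm : 0 < m := by
    rcases Nat.eq_zero_or_pos m with rfl | hm
    · have : 0 < Nat.card C := Nat.card_pos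
      omega
    · exact hm
  rw [IsCyclic.card_powMonoidHom_range, ← h, Nat.gcd_eq_right (dvd_mul_left _ _),
    Nat.mul_div_cancel _ hm]

end Cfsg.Agent.H16.Split
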