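import Cfsg.Agent.H16_AutF
import Cfsg.Agent.H16_Split
import Cfsg.Agent.H5_FF

set_option autoImplicit false

/-! Centralizers and class splitting of field and graph-field automorphisms of `PSL_n(F)`. -/

namespace Cfsg.Agent.H16.AutL

open Matrix Cfsg.Agent.H16.AutG Cfsg.Agent.H16.Desc Module

section Fix

variable {F : Type*} [Field F]

instance finite_ringAut [Finite F] : Finite (F ≃+* F) :=
  Finite.of_injective (fun σ => (σ : F → F)) DFunLike.coe_injective

/-- units fixed by `σ`. -/
def FixU (σ : F ≃+* F) : Subgroup Fˣ where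
  carrier := {x | σ (x : F) = x}
  one_mem' := by simp
  mul_mem' := by
    intro a b ha hb
    simp only [Set.mem_setOf_eq, Units.val_mul, _root_.map_mul] at *
    rw [ha, hb]
  inv_mem' := by
    intro a ha
    simp only [Set.mem_setOf_eq] at *
    rw [Units.val_inv_eq_inv_val, map_inv₀, ha]

theorem mem_FixU {σ : F ≃+* F} {x : Fˣ} : x ∈ FixU σ ↔ σ (x : F) = x := Iff.rfl

/-- `|F| = |Fix σ|^r` where `r` is the order of `σ`. -/
theorem card_fix [Finite F] (σ : F ≃+* F) : ∃ q₀ : ℕ, 2 ≤ q₀ ∧ Nat.card F = q₀ ^ orderOf σ ∧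
    Nat.card (FixU σ) = q₀ - 1 ∧ Nat.card {x : F // σ x = x} = q₀ := by
  have hG : Finite (Subgroup.zpowers σ) := inferInstance
  have : Fintype (Subgroup.zpowers σ) := Fintype.ofFinite _
  let K := FixedPoints.subfield (Subgroup.zpowers σ) F
  have hK : ∀ x : F, x ∈ K ↔ σ x = x := by
    intro x
    constructor
    · intro h
      exact h ⟨σ, Subgroup.mem_zpowers σ⟩
    · rintro h ⟨τ, hτ⟩
      change τ x = x
      have h2 : Subgroup.zpowers σ ≤ MulAction.stabilizer (F ≃+* F) x := by
        rw [Subgroup.zpowers_le]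
        exact h
      exact h2 hτ
  have h1 : finrank K F = orderOf σ := by
    have := FixedPoints.finrank_eq_card (Subgroup.zpowers σ) F
    rw [this, ← Nat.card_eq_fintype_card, Nat.card_zpowers]
  have h2 : Nat.card F = Nat.card K ^ finrank K F := Module.natCard_eq_pow_finrank
  refine ⟨Nat.card K, ?_, ?_, ?_, ?_⟩
  · exact Finite.one_lt_card
  · rw [h2, h1]
  · have e : FixU σ ≃ Kˣ :=
      { toFun := fun x => ⟨⟨((x : Fˣ) : F), (hK _).mpr x.2⟩, ⟨(((x⁻¹ : FixU σ) : Fˣ) : F), (hK _).mpr (x⁻¹ : FixU σ).2⟩, by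
            apply Subtype.ext; change ((x : Fˣ) : F) * (((x⁻¹ : FixU σ) : Fˣ) : F) = 1
            rw [← Units.val_mul, ← Subgroup.coe_mul, mul_inv_cancel]; rfl, by
            apply Subtype.ext; change (((x⁻¹ : FixU σ) : Fˣ) : F) * ((x : Fˣ) : F) = 1
            rw [← Units.val_mul, ← Subgroup.coe_mul, inv_mul_cancel]; rfl⟩
        invFun := fun y => ⟨Units.map (K.subtype : K →* F) y, (hK _).mp (y : K).2⟩
        left_inv := fun x => by
          apply Subtype.ext; apply Units.ext; rfl
        right_inv := fun y => by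
          apply Units.ext; apply Subtype.ext; rfl }
    rw [Nat.card_congr e]
    have : Fintype K := Fintype.ofFinite _
    classical
    rw [Nat.card_eq_fintype_card, Nat.card_eq_fintype_card, Fintype.card_units]
  · exact Nat.card_congr (Equiv.subtypeEquivRight (fun x => (hK x).symm))

end Fix

section Split

variable {F : Type*} [Field F] [Finite F] {n : ℕ}

theorem det_surj (hn : 1 ≤ n) : Function.Surjective (Matrix.GeneralLinearGroup.det : GL (Fin n) F →* Fˣ) := by
  have : NeZero n := ⟨by omega⟩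
  intro a
  exact ⟨_, det_single a⟩

theorem det_scalar (c : Fˣ) :
    Matrix.GeneralLinearGroup.det (Matrix.GeneralLinearGroup.scalar (Fin n) c) = c ^ n := by
  apply Units.ext
  simp

/-- the splitting number through determinants. -/
theorem split_psl (hn : 2 ≤ n) (x : MulAut (Matrix.ProjectiveSpecialLinearGroup (Fin n) F)) :
    Cfsg.splitClassCount (Dd F n) (Cfsg.Inn (Matrix.ProjectiveSpecialLinearGroup (Fin n) F)) x =
      (((Subgroup.centralizer {x}).comap (dn.comp cjS)).map Matrix.GeneralLinearGroup.det ⊔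
        (powMonoidHom n : Fˣ →* Fˣ).range).index := by
  rw [Split.splitClassCount_eq _ _ inferInstance Inn_le_Dd]
  set f : GL (Fin n) F →* MulAut (Matrix.ProjectiveSpecialLinearGroup (Fin n) F) := dn.comp cjS with hf
  set M := Cfsg.Inn (Matrix.ProjectiveSpecialLinearGroup (Fin n) F) ⊔ (Dd F n ⊓ Subgroup.centralizer {x}) with hM
  have h1 : M.relIndex (Dd F n) = (M.comap f).index := (Subgroup.index_comap M f).symm
  have h2 : (Matrix.GeneralLinearGroup.det : GL (Fin n) F →* Fˣ).ker ≤ M.comap f := by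
    rw [← H5.GL.range_toGL]
    rintro _ ⟨s, rfl⟩
    exact Subgroup.mem_sup_left ⟨QuotientGroup.mk s, conj_eq s⟩
  rw [h1, ← Subgroup.index_map_eq (M.comap f) (det_surj (F := F) (n := n) (by omega)) h2]
  congr 1
  apply le_antisymm
  · rintro _ ⟨g, hg, rfl⟩
    obtain ⟨k, ⟨s, hs⟩, c, ⟨hc1, hc2⟩, e⟩ := Subgroup.mem_sup_of_normal_left.mp hg
    induction s using QuotientGroup.induction_on with
    | H s =>
      rw [conj_eq] at hs
      obtain ⟨h, rfl⟩ := mem_Dd.mp hc1
      have h3 : f (g⁻¹ * (Matrix.SpecialLinearGroup.toGL s * h)) = 1 := by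
        rw [_root_.map_mul, _root_.map_inv, ← e, ← hs, _root_.map_mul, inv_mul_eq_one]
        rfl
      have h4 : g⁻¹ * (Matrix.SpecialLinearGroup.toGL s * h) ∈ Subgroup.center (GL (Fin n) F) :=
        (dn_cjS_eq_one hn).mp h3
      rw [Matrix.GeneralLinearGroup.center_eq_range_scalar] at h4
      obtain ⟨c, hc⟩ := h4
      have h5 := congrArg Matrix.GeneralLinearGroup.det hc
      rw [_root_.map_mul, _root_.map_mul, det_scalar, _root_.map_inv] at h5
      have h6 : Matrix.GeneralLinearGroup.det (Matrix.SpecialLinearGroup.toGL s) = 1 := by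
        apply Units.ext
        exact s.2
      rw [h6, one_mul, eq_inv_mul_iff_mul_eq, mul_comm] at h5
      have h7 : Matrix.GeneralLinearGroup.det g = Matrix.GeneralLinearGroup.det h * (c ^ n)⁻¹ := by
        rw [← h5, mul_comm (c ^ n), mul_inv_cancel_right]
      rw [h7]
      exact mul_mem (Subgroup.mem_sup_left ⟨h, hc2, rfl⟩)
        (Subgroup.mem_sup_right (inv_mem ⟨c, rfl⟩))
  · rw [sup_le_iff]
    constructor
    · rintro _ ⟨g, hg, rfl⟩
      exact ⟨g, Subgroup.mem_sup_right ⟨mem_Dd.mpr ⟨g, rfl⟩, hg⟩, rfl⟩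
    · rintro _ ⟨c, rfl⟩
      refine ⟨Matrix.GeneralLinearGroup.scalar (Fin n) c, ?_, det_scalar c⟩
      change f _ ∈ M
      have : f (Matrix.GeneralLinearGroup.scalar (Fin n) c) = 1 := dn_scalar hn c
      rw [this]
      exact one_mem _

theorem commute_field_iff (hn : 2 ≤ n) {σ : F ≃+* F} {g : GL (Fin n) F} :
    (dn (cjS g) : MulAut (Matrix.ProjectiveSpecialLinearGroup (Fin n) F)) ∈
      Subgroup.centralizer {(dn (fS σ) : MulAut (Matrix.ProjectiveSpecialLinearGroup (Fin n) F))} ↔
    ∃ c : Fˣ, gσ σ g = Matrix.GeneralLinearGroup.scalar (Fin n) c * g := by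
  rw [Subgroup.mem_centralizer_singleton_iff, dn_fS_cjS, mul_left_inj]
  constructor
  · intro h
    have h1 : (dn (cjS (gσ σ g * g⁻¹)) : MulAut (Matrix.ProjectiveSpecialLinearGroup (Fin n) F)) = 1 := by
      rw [_root_.map_mul, _root_.map_mul, _root_.map_inv, _root_.map_inv, ← h, mul_inv_cancel]
    rw [dn_cjS_eq_one hn, Matrix.GeneralLinearGroup.center_eq_range_scalar] at h1
    obtain ⟨c, hc⟩ := h1
    exact ⟨c, by rw [hc, inv_mul_cancel_right]⟩
  · rintro ⟨c, hc⟩
    rw [hc, _root_.map_mul, _root_.map_mul, dn_scalar hn, one_mul]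

/-- the elements `g` with `σ(g)` a scalar multiple of `g`. -/
theorem exists_fixed_of_scalar (hn : 2 ≤ n) {σ : F ≃+* F} {r : ℕ} (hr : orderOf σ = r) (hr0 : 0 < r)
    {g : GL (Fin n) F} {c : Fˣ} (h : gσ σ g = Matrix.GeneralLinearGroup.scalar (Fin n) c * g) :
    ∃ (t : Fˣ) (g₀ : GL (Fin n) F), g = Matrix.GeneralLinearGroup.scalar (Fin n) t * g₀ ∧
      gσ σ g₀ = g₀ := by
  have h1 : ∀ k, gσ (σ ^ k) g = Matrix.GeneralLinearGroup.scalar (Fin n) (nn σ c k) * g := by
    intro k
    induction k with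
    | zero => rw [pow_zero, gσ_one, nn, _root_.map_one, one_mul]
    | succ k ih =>
      rw [pow_succ', gσ_mul, ih, _root_.map_mul, gσ_scalar, h, nn, ← mul_assoc, ← _root_.map_mul,
        mul_comm c]
  have h2 : nn σ c r = 1 := by
    have := h1 r
    rw [← hr, pow_orderOf_eq_one, gσ_one, hr] at this
    have h3 : Matrix.GeneralLinearGroup.scalar (Fin n) (nn σ c r) = Matrix.GeneralLinearGroup.scalar (Fin n) 1 := by
      rw [_root_.map_one]
      exact (mul_eq_right.mp this.symm)
    exact scalar_inj hn h3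
  have h3 : nn σ c⁻¹ r = 1 := by
    have : ∀ k, nn σ c⁻¹ k = (nn σ c k)⁻¹ := by
      intro k
      induction k with
      | zero => simp [nn]
      | succ k ih => rw [nn, nn, ih, _root_.map_inv, mul_inv]
    rw [this, h2, inv_one]
  obtain ⟨t, ht⟩ := hilbert90_one σ hr hr0 c⁻¹ h3
  have htt : Units.map (σ : F →* F) t = c * t := by
    apply Units.ext
    change σ (t : F) = c * t
    have h5 : (c : F) * (((c⁻¹ : Fˣ) : F) * σ (t : F)) = c * t := by rw [ht]
    rw [← h5, ← mul_assoc, ← Units.val_mul, mul_inv_cancel, Units.val_one, one_mul]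
  refine ⟨t, Matrix.GeneralLinearGroup.scalar (Fin n) t⁻¹ * g, ?_, ?_⟩
  · rw [← mul_assoc, ← _root_.map_mul, mul_inv_cancel, _root_.map_one, one_mul]
  · rw [_root_.map_mul, gσ_scalar, h, ← mul_assoc, ← _root_.map_mul, _root_.map_inv, htt]
    congr 2
    rw [mul_inv, mul_comm c⁻¹, inv_mul_cancel_right]

theorem split_field (hn : 2 ≤ n) {σ : F ≃+* F} {q₀ : ℕ} (hq : 2 ≤ q₀)
    (hcard : Nat.card F = q₀ ^ orderOf σ) (hfix : Nat.card (FixU σ) = q₀ - 1) :
    Cfsg.splitClassCount (Dd F n) (Cfsg.Inn (Matrix.ProjectiveSpecialLinearGroup (Fin n) F))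
      (dn (fS σ)) = Nat.gcd n ((q₀ ^ orderOf σ - 1) / (q₀ - 1)) := by
  have : NeZero n := ⟨by omega⟩
  have hFU : Nat.card Fˣ = q₀ ^ orderOf σ - 1 := by
    have := Fintype.ofFinite F
    exact H5.GL.card_units (by rw [← hcard, Nat.card_eq_fintype_card])
  have hr0 : 0 < orderOf σ := orderOf_pos σ
  rw [split_psl hn]
  have h1 : (((Subgroup.centralizer {(dn (fS σ) : MulAut (Matrix.ProjectiveSpecialLinearGroup (Fin n) F))}).comap
      (dn.comp cjS)).map Matrix.GeneralLinearGroup.det ⊔ (powMonoidHom n : Fˣ →* Fˣ).range) =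
      (powMonoidHom n : Fˣ →* Fˣ).range ⊔ FixU σ := by
    rw [sup_comm]
    apply le_antisymm
    · rw [sup_le_iff]
      refine ⟨le_sup_left, ?_⟩
      rintro _ ⟨g, hg, rfl⟩
      obtain ⟨c, hc⟩ := (commute_field_iff hn).mp hg
      obtain ⟨t, g₀, rfl, hg₀⟩ := exists_fixed_of_scalar hn rfl hr0 hc
      rw [_root_.map_mul, det_scalar]
      refine mul_mem (Subgroup.mem_sup_left ⟨t, rfl⟩) (Subgroup.mem_sup_right ?_)
      rw [mem_FixU]
      have h2 := congrArg (fun x : GL (Fin n) F => ((Matrix.GeneralLinearGroup.det x : Fˣ) : F)) hg₀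
      have h3 : ((Matrix.GeneralLinearGroup.det (gσ σ g₀) : Fˣ) : F) =
          σ ((Matrix.GeneralLinearGroup.det g₀ : Fˣ) : F) := by
        change ((g₀ : Matrix (Fin n) (Fin n) F).map σ).det = σ ((g₀ : Matrix (Fin n) (Fin n) F).det)
        exact ((σ : F →+* F).map_det _).symm
      rw [← h3]
      exact h2
    · rw [sup_le_iff]
      refine ⟨le_sup_left, ?_⟩
      intro a ha
      refine Subgroup.mem_sup_right ⟨dgl (Pi.mulSingle (0 : Fin n) a), ?_, det_single a⟩
      change dn (cjS _) ∈ Subgroup.centralizer {dn (fS σ)}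
      rw [commute_field_iff hn]
      refine ⟨1, ?_⟩
      rw [_root_.map_one, one_mul]
      apply Units.ext
      change (diagonal (fun i => (((Pi.mulSingle (0 : Fin n) a : Fin n → Fˣ) i : Fˣ) : F))).map σ =
        diagonal (fun i => (((Pi.mulSingle (0 : Fin n) a : Fin n → Fˣ) i : Fˣ) : F))
      rw [diagonal_map (_root_.map_zero σ)]
      congr 1
      funext i
      rcases eq_or_ne i 0 with rfl | hi
      · simp only [Pi.mulSingle_eq_same]; exact ha
      · simp [Pi.mulSingle_eq_of_ne hi]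
  rw [h1, Split.eq_powers (H := FixU σ) (m := (q₀ ^ orderOf σ - 1) / (q₀ - 1)), Split.powers_sup,
    IsCyclic.index_powMonoidHom_range, hFU]
  · rw [Nat.gcd_comm]
    apply Nat.gcd_eq_left
    exact (Nat.gcd_dvd_right _ _).trans (Nat.div_dvd_of_dvd (by
      simpa using Nat.sub_dvd_pow_sub_pow q₀ 1 (orderOf σ)))
  · rw [hfix, hFU]
    exact Nat.mul_div_cancel' (by simpa using Nat.sub_dvd_pow_sub_pow q₀ 1 (orderOf σ))

/-- centralizer of a field automorphism. -/
theorem cent_field (hn : 2 ≤ n) {σ : F ≃+* F} {q₀ : ℕ}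
    (hcard : Nat.card F = q₀ ^ orderOf σ) (hfix : Nat.card {x : F // σ x = x} = q₀)
    (F₀ : Type*) [Field F₀] [Fintype F₀] (hF₀ : Fintype.card F₀ = q₀) :
    Nonempty (↥(Dd F n ⊓ Subgroup.centralizer
      {(dn (fS σ) : MulAut (Matrix.ProjectiveSpecialLinearGroup (Fin n) F))}) ≃*
        Matrix.ProjGenLinGroup (Fin n) F₀) := by
  have : Fintype F := Fintype.ofFinite F
  have hr0 : 0 < orderOf σ := orderOf_pos σ
  obtain ⟨ι, hι⟩ := H5.FF.exists_embedding (F := F) (K := F₀) hF₀
    (by rw [← Nat.card_eq_fintype_card, hcard]) hr0.ne'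
  -- fixed field = range of ι
  have hι2 : ∀ a : F, σ a = a ↔ a ∈ Set.range ι := by
    have h1 : (Set.range ι) ⊆ {a : F | σ a = a} ∨ True := Or.inr trivial
    have hsub : {a : F | σ a = a} ⊆ Set.range ι := by
      intro a ha
      rw [← hι]
      let K : Subfield F := (RingHom.eqLocusField (σ : F →+* F) (RingHom.id F))
      have hK : ∀ x, x ∈ K ↔ σ x = x := fun x => Iff.rfl
      have hKc : Nat.card K = q₀ := by
        rw [← hfix]
        exact Nat.card_congr (Equiv.subtypeEquivRight hK)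
      have : Fintype K := Fintype.ofFinite K
      have h2 := FiniteField.pow_card (⟨a, (hK a).mpr ha⟩ : K)
      rw [← Nat.card_eq_fintype_card, hKc] at h2
      exact congrArg Subtype.val h2
    have heq : {a : F | σ a = a} = Set.range ι := by
      apply Set.eq_of_subset_of_ncard_le hsub
      have e1 : (Set.range ι).ncard = q₀ := by
        rw [← Set.image_univ, Set.ncard_image_of_injective _ ι.injective, Set.ncard_univ,
          Nat.card_eq_fintype_card, hF₀]
      rw [e1, ← hfix]
      exact le_of_eq rfl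
    intro a
    rw [← heq]
    rfl
  let f : GL (Fin n) F₀ →* ↥(Dd F n ⊓ Subgroup.centralizer
      {(dn (fS σ) : MulAut (Matrix.ProjectiveSpecialLinearGroup (Fin n) F))}) :=
    ((dn.comp cjS).comp (Matrix.GeneralLinearGroup.map ι)).codRestrict _ (fun g => by
      refine ⟨mem_Dd.mpr ⟨_, rfl⟩, ?_⟩
      refine (commute_field_iff hn).mpr ⟨1, ?_⟩
      rw [_root_.map_one, one_mul]
      apply Units.ext
      ext i j
      exact (hι2 _).mpr ⟨_, rfl⟩)
  have hfs : Function.Surjective f := by
    rintro ⟨α, hα1, hα2⟩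
    obtain ⟨g, rfl⟩ := mem_Dd.mp hα1
    obtain ⟨c, hc⟩ := (commute_field_iff hn).mp hα2
    obtain ⟨t, g₀, rfl, hg₀⟩ := exists_fixed_of_scalar hn rfl hr0 hc
    have h1 : ∀ i j, ∃ y, ι y = (g₀ : Matrix (Fin n) (Fin n) F) i j := by
      intro i j
      apply (hι2 _).mp
      exact congrArg (fun x : GL (Fin n) F => (x : Matrix (Fin n) (Fin n) F) i j) hg₀
    have h2 : ∀ i j, ∃ y, ι y = ((g₀⁻¹ : GL (Fin n) F) : Matrix (Fin n) (Fin n) F) i j := by
      intro i j
      apply (hι2 _).mp
      have h3 : gσ σ g₀⁻¹ = g₀⁻¹ := by rw [_root_.map_inv, hg₀]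
      exact congrArg (fun x : GL (Fin n) F => (x : Matrix (Fin n) (Fin n) F) i j) h3
    choose A hA using h1
    choose B hB using h2
    have hinj : Function.Injective (fun M : Matrix (Fin n) (Fin n) F₀ => M.map ι) :=
      Matrix.map_injective ι.injective
    have hAm : (Matrix.of A).map ι = (g₀ : Matrix (Fin n) (Fin n) F) := by ext i j; exact hA i j
    have hBm : (Matrix.of B).map ι = ((g₀⁻¹ : GL (Fin n) F) : Matrix (Fin n) (Fin n) F) := by
      ext i j; exact hB i j
    let G : GL (Fin n) F₀ := ⟨Matrix.of A, Matrix.of B, by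
      apply hinj
      change (Matrix.of A * Matrix.of B).map ι = (1 : Matrix (Fin n) (Fin n) F₀).map ι
      rw [Matrix.map_mul, hAm, hBm, ← Units.val_mul, mul_inv_cancel, Units.val_one,
        Matrix.map_one _ (_root_.map_zero ι) (_root_.map_one ι)], by
      apply hinj
      change (Matrix.of B * Matrix.of A).map ι = (1 : Matrix (Fin n) (Fin n) F₀).map ι
      rw [Matrix.map_mul, hAm, hBm, ← Units.val_mul, inv_mul_cancel, Units.val_one,
        Matrix.map_one _ (_root_.map_zero ι) (_root_.map_one ι)]⟩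
    refine ⟨G, Subtype.ext ?_⟩
    change dn (cjS (Matrix.GeneralLinearGroup.map ι G)) = dn (cjS _)
    have h4 : Matrix.GeneralLinearGroup.map ι G = g₀ := Units.ext hAm
    rw [h4, _root_.map_mul, _root_.map_mul, dn_scalar hn, one_mul]
  have hfk : f.ker = Subgroup.center (GL (Fin n) F₀) := by
    ext g
    rw [MonoidHom.mem_ker, Matrix.GeneralLinearGroup.center_eq_range_scalar]
    constructor
    · intro h
      have h1 : (dn (cjS (Matrix.GeneralLinearGroup.map ι g)) :
        MulAut (Matrix.ProjectiveSpecialLinearGroup (Fin n) F)) = 1 := congrArg Subtype.val h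
      rw [dn_cjS_eq_one hn, Matrix.GeneralLinearGroup.center_eq_range_scalar] at h1
      obtain ⟨c, hc⟩ := h1
      have h2 : ∀ i j, (diagonal fun _ => (c : F)) i j = ι ((g : Matrix (Fin n) (Fin n) F₀) i j) := by
        intro i j
        exact congrArg (fun x : GL (Fin n) F => (x : Matrix (Fin n) (Fin n) F) i j) hc
      have i0 : Fin n := ⟨0, by omega⟩
      have h3 : ∀ i j, (g : Matrix (Fin n) (Fin n) F₀) i j =
          if i = j then (g : Matrix (Fin n) (Fin n) F₀) i0 i0 else 0 := by
        intro i j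
        apply ι.injective
        rw [← h2]
        split_ifs with hij
        · rw [← h2, hij, diagonal_apply_eq, diagonal_apply_eq]
        · rw [diagonal_apply_ne _ hij, _root_.map_zero]
      have h4 : (g : Matrix (Fin n) (Fin n) F₀) i0 i0 ≠ 0 := by
        intro h5
        have h6 := h2 i0 i0
        rw [h5, _root_.map_zero, diagonal_apply_eq] at h6
        exact c.ne_zero h6
      refine ⟨Units.mk0 _ h4, ?_⟩
      apply Units.ext
      ext i j
      rw [h3 i j]
      simp [Matrix.diagonal_apply]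
    · rintro ⟨c, rfl⟩
      apply Subtype.ext
      change dn (cjS (Matrix.GeneralLinearGroup.map ι (Matrix.GeneralLinearGroup.scalar (Fin n) c))) = 1
      have : Matrix.GeneralLinearGroup.map ι (Matrix.GeneralLinearGroup.scalar (Fin n) c) =
          Matrix.GeneralLinearGroup.scalar (Fin n) (Units.map (ι : F₀ →* F) c) := by
        apply Units.ext
        ext i j
        change ι ((Matrix.scalar (Fin n) (c : F₀)) i j) = (Matrix.scalar (Fin n) (ι (c : F₀))) i j
        rw [Matrix.scalar_apply, Matrix.scalar_apply, Matrix.diagonal_apply, Matrix.diagonal_apply]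
        split_ifs <;> simp
      rw [this, dn_scalar hn]
  exact ⟨((QuotientGroup.quotientMulEquivOfEq hfk.symm).trans
    (QuotientGroup.quotientKerEquivOfSurjective f hfs)).symm⟩

end Split

end Cfsg.Agent.H16.AutL
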