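import Cfsg.Agent.H16_AutF2

set_option autoImplicit false

/-! Orders of field automorphisms; graph-field automorphisms. -/

namespace Cfsg.Agent.H16.AutL

open Matrix Cfsg.Agent.H16.AutG Cfsg.Agent.H16.Desc Module

variable {F : Type*} [Field F] [Finite F] {n : ℕ}

theorem dn_fS_injective (hn : 2 ≤ n) : Function.Injective
    (dn.comp fS : (F ≃+* F) →* MulAut (Matrix.ProjectiveSpecialLinearGroup (Fin n) F)) := by
  have hnt : Nontrivial (Fin n) := Fin.nontrivial_iff_two_le.mpr hn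
  rw [injective_iff_map_eq_one]
  intro σ h
  refine (cf_eq_one (g := (1 : GL (Fin n) F)) (σ := σ) ?_).1
  rw [_root_.map_one, _root_.map_one, one_mul]
  exact h

theorem orderOf_dn_fS (hn : 2 ≤ n) (σ : F ≃+* F) :
    orderOf (dn (fS σ) : MulAut (Matrix.ProjectiveSpecialLinearGroup (Fin n) F)) = orderOf σ :=
  orderOf_injective _ (dn_fS_injective hn) σ

theorem prime_pow_root {p f q₀ r : ℕ} (hp : p.Prime) (h : p ^ f = q₀ ^ r) (hr : 0 < r) :
    r ∣ f ∧ q₀ = p ^ (f / r) := by
  obtain ⟨k, hk, rfl⟩ := (Nat.dvd_prime_pow hp).mp (show q₀ ∣ p ^ f by rw [h]; exact dvd_pow_self _ hr.ne')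
  rw [← pow_mul] at h
  have := Nat.pow_right_injective hp.two_le h
  subst this
  exact ⟨dvd_mul_left _ _, by rw [Nat.mul_div_cancel _ hr]⟩

/-! graph-field -/

theorem orderOf_gf (hn : 3 ≤ n) {σ : F ≃+* F} (hσ : σ ≠ 1)
    (h : orderOf (dn (fS σ) * dn iS : MulAut (Matrix.ProjectiveSpecialLinearGroup (Fin n) F)) = 2) :
    orderOf σ = 2 := by
  have hcomm : Commute (dn (fS σ) : MulAut (Matrix.ProjectiveSpecialLinearGroup (Fin n) F)) (dn iS) :=
    dn_fS_iS σ
  have h1 : (dn (fS σ) * dn iS : MulAut (Matrix.ProjectiveSpecialLinearGroup (Fin n) F)) ^ 2 = 1 := by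
    rw [← h, pow_orderOf_eq_one]
  rw [hcomm.mul_pow, sq (dn iS), iS_sq, mul_one] at h1
  have h2 : σ ^ 2 = 1 := by
    apply dn_fS_injective (F := F) (n := n) (by omega)
    rw [_root_.map_pow, _root_.map_one]
    exact h1
  exact orderOf_eq_prime h2 hσ

/-- in a cyclic group there is at most one element of order 2. -/
theorem unique_order_two {C : Type*} [Group C] [Finite C] [IsCyclic C] {x y : C} (hx : orderOf x = 2)
    (hy : orderOf y = 2) : x = y := by
  obtain ⟨g, hg⟩ := IsCyclic.exists_generator (α := C)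
  have key : ∀ z : C, orderOf z = 2 → z = g ^ (orderOf g / 2) := by
    intro z hz
    obtain ⟨k, rfl⟩ := mem_powers_iff_mem_zpowers.mpr (hg z)
    have h1 : (g ^ k) ^ 2 = 1 := by
      have := pow_orderOf_eq_one (g ^ k)
      rwa [show orderOf (g ^ k) = 2 from hz] at this
    rw [← pow_mul] at h1
    obtain ⟨m, hm⟩ := orderOf_dvd_of_pow_eq_one h1
    have hpos := orderOf_pos g
    rcases Nat.even_or_odd' m with ⟨l, rfl | rfl⟩
    · have : k = orderOf g * l := by nlinarith
      have h2 : g ^ k = 1 := by rw [this, pow_mul, pow_orderOf_eq_one, one_pow]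
      have h3 : orderOf (g ^ k) = 2 := hz
      rw [h2, orderOf_one] at h3
      omega
    · have he : Even (orderOf g) := by
        rw [Nat.even_iff]
        have : (k * 2) % 2 = (orderOf g * (2 * l + 1)) % 2 := by rw [hm]
        rw [Nat.mul_mod_left, Nat.mul_mod] at this
        have h5 : (2 * l + 1) % 2 = 1 := by omega
        rw [h5, mul_one, Nat.mod_mod] at this
        exact this.symm
      obtain ⟨w, hw⟩ := he
      have hw2 : orderOf g / 2 = w := by omega
      rw [hw2]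
      have : k = orderOf g * l + w := by nlinarith
      change g ^ k = _
      rw [this, pow_add, pow_mul, pow_orderOf_eq_one, one_pow, one_mul]
  rw [key x hx, key y hy]

theorem ffi {σ : F ≃+* F} (τ : F ≃+* F) :
    (dn (fS τ) : MulAut (Matrix.ProjectiveSpecialLinearGroup (Fin n) F)) * dn (fS σ) = dn (fS σ) * dn (fS τ) := by
  rw [← _root_.map_mul (dn), ← _root_.map_mul (dn), ← _root_.map_mul fS, ← _root_.map_mul fS]
  have hc : IsCyclic (F ≃+* F) := FAut.isCyclic
  have : τ * σ = σ * τ := by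
    obtain ⟨g, hg⟩ := IsCyclic.exists_generator (α := F ≃+* F)
    obtain ⟨a, rfl⟩ := hg τ
    obtain ⟨b, rfl⟩ := hg σ
    exact (Commute.zpow_zpow_self g a b)
  rw [this]

/-- an automorphism conjugate to a standard graph-field automorphism is so under `Inndiag`. -/
theorem gf_conj (hn : 3 ≤ n) {σ : F ≃+* F}
    {α x : MulAut (Matrix.ProjectiveSpecialLinearGroup (Fin n) F)}
    (h : α * x * α⁻¹ = dn (fS σ) * dn iS) :
    ∃ η ∈ Dd F n, x = η * (dn (fS σ) * dn iS) * η⁻¹ := by
  have hn2 : 2 ≤ n := by omega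
  have hDn : (Dd F n).Normal := Dd_normal hn2
  -- write α = δ s with s commuting with y
  obtain ⟨δ, hδ, s, hs, hα⟩ : ∃ δ ∈ Dd F n, ∃ s : MulAut (Matrix.ProjectiveSpecialLinearGroup (Fin n) F),
      s * (dn (fS σ) * dn iS) = (dn (fS σ) * dn iS) * s ∧ α = δ * s := by
    obtain ⟨g, τ, hα | ⟨-, hα⟩⟩ := aut_all hn2 α
    · refine ⟨_, mem_Dd.mpr ⟨g, rfl⟩, dn (fS τ), ?_, hα⟩
      rw [← mul_assoc, ffi, mul_assoc, dn_fS_iS, ← mul_assoc]
    · refine ⟨_, mem_Dd.mpr ⟨g, rfl⟩, dn (fS τ) * dn iS, ?_, by rw [hα, mul_assoc]⟩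
      calc dn (fS τ) * dn iS * (dn (fS σ) * dn iS) = dn (fS τ) * (dn iS * dn (fS σ)) * dn iS := by
            simp only [mul_assoc]
        _ = (dn (fS τ) * dn (fS σ)) * dn iS * dn iS := by rw [← dn_fS_iS]; simp only [mul_assoc]
        _ = dn (fS σ) * (dn (fS τ) * dn iS) * dn iS := by rw [ffi]; simp only [mul_assoc]
        _ = _ := by rw [dn_fS_iS τ]; simp only [mul_assoc]; rw [dn_fS_iS τ]
  have h1 : x = s⁻¹ * (δ⁻¹ * (dn (fS σ) * dn iS) * δ) * s := by
    rw [← h, hα]; group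
  have h2 : s⁻¹ * δ⁻¹ * s ∈ Dd F n := by
    have := hDn.conj_mem _ (inv_mem hδ) s⁻¹
    rwa [inv_inv] at this
  refine ⟨s⁻¹ * δ⁻¹ * s, h2, ?_⟩
  rw [h1]
  have h3 : s * (dn (fS σ) * dn iS) * s⁻¹ = dn (fS σ) * dn iS := by rw [hs, mul_inv_cancel_right]
  calc _ = s⁻¹ * δ⁻¹ * (dn (fS σ) * dn iS) * δ * s := by group
    _ = s⁻¹ * δ⁻¹ * (s * (dn (fS σ) * dn iS) * s⁻¹) * δ * s := by rw [h3]
    _ = _ := by group

/-- commuting with a graph-field automorphism. -/
theorem commute_gf_iff (hn : 3 ≤ n) {σ : F ≃+* F} {g : GL (Fin n) F} :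
    (dn (cjS g) : MulAut (Matrix.ProjectiveSpecialLinearGroup (Fin n) F)) ∈
      Subgroup.centralizer {(dn (fS σ) * dn iS : MulAut (Matrix.ProjectiveSpecialLinearGroup (Fin n) F))} ↔
    ∃ c : Fˣ, g * (gσ σ (git g))⁻¹ = Matrix.GeneralLinearGroup.scalar (Fin n) c := by
  have hn2 : 2 ≤ n := by omega
  rw [Subgroup.mem_centralizer_singleton_iff, mul_assoc (dn (fS σ)), dn_iS_cjS, ← mul_assoc (dn (fS σ)),
    dn_fS_cjS, mul_assoc (dn (cjS (gσ σ (git g)))), mul_left_inj]
  constructor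
  · intro h
    have h1 : (dn (cjS (g * (gσ σ (git g))⁻¹)) : MulAut (Matrix.ProjectiveSpecialLinearGroup (Fin n) F)) = 1 := by
      rw [_root_.map_mul, _root_.map_mul, _root_.map_inv, _root_.map_inv, ← h, mul_inv_cancel]
    rw [dn_cjS_eq_one hn2, Matrix.GeneralLinearGroup.center_eq_range_scalar] at h1
    obtain ⟨c, hc⟩ := h1
    exact ⟨c, hc.symm⟩
  · rintro ⟨c, hc⟩
    rw [mul_inv_eq_iff_eq_mul] at hc
    rw [hc, _root_.map_mul, _root_.map_mul, dn_scalar hn2, one_mul, ← hc]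

theorem git_scalar (c : Fˣ) : git (Matrix.GeneralLinearGroup.scalar (Fin n) c) =
      Matrix.GeneralLinearGroup.scalar (Fin n) c⁻¹ := by
  have h1 : (git (Matrix.GeneralLinearGroup.scalar (Fin n) c))⁻¹ =
      Matrix.GeneralLinearGroup.scalar (Fin n) c := by
    apply Units.ext
    rw [git_inv_coe]
    change (Matrix.scalar (Fin n) (c : F))ᵀ = Matrix.scalar (Fin n) (c : F)
    rw [Matrix.scalar_apply, diagonal_transpose]
  rw [← inv_inv (git (Matrix.GeneralLinearGroup.scalar (Fin n) c)), h1, _root_.map_inv]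

/-- unitary similitudes are scalars times unitary matrices. -/
theorem exists_unitary_of_scalar (hn : 2 ≤ n) {σ : F ≃+* F} (hσ : orderOf σ = 2)
    {g : GL (Fin n) F} {c : Fˣ} (h : g * (gσ σ (git g))⁻¹ = Matrix.GeneralLinearGroup.scalar (Fin n) c) :
    ∃ (t : Fˣ) (g₀ : GL (Fin n) F), g = Matrix.GeneralLinearGroup.scalar (Fin n) t * g₀ ∧
      g₀ = gσ σ (git g₀) := by
  have hσ2 : ∀ a, σ (σ a) = a := by
    intro a
    have h1 : σ ^ 2 = 1 := by rw [← hσ, pow_orderOf_eq_one]
    rw [sq] at h1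
    exact congrArg (fun f : F ≃+* F => f a) h1
  have hσσ : ∀ x : GL (Fin n) F, gσ σ (gσ σ x) = x := by
    intro x
    apply Units.ext
    ext i j
    exact hσ2 _
  have h1 : g = Matrix.GeneralLinearGroup.scalar (Fin n) c * gσ σ (git g) := by
    rw [← h, inv_mul_cancel_right]
  -- `σ c = c`
  have h2 : Units.map (σ : F →* F) c = c := by
    have e := congrArg (fun x => gσ σ (git x)) h1
    simp only [_root_.map_mul, git_scalar, gσ_scalar] at e
    rw [gσ_git σ (gσ σ (git g)), hσσ, git_git] at e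
    -- e : gσ σ (git g) = scalar (σ c⁻¹) * g
    rw [e, ← mul_assoc, ← _root_.map_mul] at h1
    have h3 : Matrix.GeneralLinearGroup.scalar (Fin n) (c * Units.map (σ : F →* F) c⁻¹) =
        Matrix.GeneralLinearGroup.scalar (Fin n) 1 := by
      rw [_root_.map_one]; exact (mul_eq_right.mp h1.symm)
    have h4 := scalar_inj hn h3
    rw [_root_.map_inv, mul_inv_eq_one] at h4
    exact h4.symm
  obtain ⟨t, ht⟩ := exists_norm_eq σ hσ (by norm_num) c (congrArg Units.val h2)
  rw [nn, nn, nn, _root_.map_one, mul_one] at ht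
  refine ⟨t, Matrix.GeneralLinearGroup.scalar (Fin n) t⁻¹ * g, ?_, ?_⟩
  · rw [← mul_assoc, ← _root_.map_mul, mul_inv_cancel, _root_.map_one, one_mul]
  · rw [_root_.map_mul, _root_.map_mul, git_scalar, gσ_scalar, inv_inv]
    conv_lhs => rw [h1]
    rw [← mul_assoc, ← _root_.map_mul, ← ht, inv_mul_cancel_left]

/-- norm one units -/
def NU (σ : F ≃+* F) : Subgroup Fˣ where
  carrier := {x | (x : F) * σ (x : F) = 1}
  one_mem' := by simp
  mul_mem' := by
    intro a b ha hb
    simp only [Set.mem_setOf_eq, Units.val_mul, _root_.map_mul] at *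
    rw [mul_mul_mul_comm, ha, hb, one_mul]
  inv_mem' := by
    intro a ha
    simp only [Set.mem_setOf_eq] at *
    rw [Units.val_inv_eq_inv_val, map_inv₀, ← mul_inv, ha, inv_one]

theorem card_NU {σ : F ≃+* F} (hσ : orderOf σ = 2) {q₀ : ℕ} (hq : 2 ≤ q₀)
    (hcard : Nat.card F = q₀ ^ 2) (hfix : Nat.card (FixU σ) = q₀ - 1) :
    Nat.card (NU σ) = q₀ + 1 := by
  have hFU : Nat.card Fˣ = q₀ ^ 2 - 1 := by
    have := Fintype.ofFinite F
    exact H5.GL.card_units (by rw [← hcard, Nat.card_eq_fintype_card])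
  let N : Fˣ →* Fˣ := { toFun := fun x => x * Units.map (σ : F →* F) x
                        map_one' := by simp
                        map_mul' := fun x y => by rw [_root_.map_mul, mul_mul_mul_comm] }
  have hk : N.ker = NU σ := by
    ext x
    rw [MonoidHom.mem_ker]
    constructor
    · intro h; exact congrArg Units.val h
    · intro h; exact Units.ext h
  have hr : N.range = FixU σ := by
    ext x
    constructor
    · rintro ⟨y, rfl⟩
      have hσ2 : ∀ a, σ (σ a) = a := by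
        intro a
        have h1 : σ ^ 2 = 1 := by rw [← hσ, pow_orderOf_eq_one]
        rw [sq] at h1
        exact congrArg (fun f : F ≃+* F => f a) h1
      change σ ((y : F) * σ (y : F)) = (y : F) * σ (y : F)
      rw [_root_.map_mul, hσ2, mul_comm]
    · intro hx
      obtain ⟨t, ht⟩ := exists_norm_eq σ hσ (by norm_num) x hx
      rw [nn, nn, nn, _root_.map_one, mul_one] at ht
      exact ⟨t, ht⟩
  have h1 : Nat.card N.range * Nat.card N.ker = Nat.card Fˣ := by
    rw [← Subgroup.index_ker, Subgroup.index_mul_card]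
  rw [hk, hr, hfix, hFU] at h1
  have h2 : q₀ ^ 2 - 1 = (q₀ - 1) * (q₀ + 1) := by
    have := Nat.sq_sub_sq q₀ 1
    rw [one_pow] at this
    rw [this, mul_comm]
  rw [h2] at h1
  exact Nat.eq_of_mul_eq_mul_left (by omega) h1

theorem split_gf (hn : 3 ≤ n) {σ : F ≃+* F} (hσ : orderOf σ = 2) {q₀ : ℕ} (hq : 2 ≤ q₀)
    (hcard : Nat.card F = q₀ ^ 2) (hfix : Nat.card (FixU σ) = q₀ - 1) :
    Cfsg.splitClassCount (Dd F n) (Cfsg.Inn (Matrix.ProjectiveSpecialLinearGroup (Fin n) F))
      (dn (fS σ) * dn iS) = Nat.gcd n (q₀ - 1) := by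
  have hn2 : 2 ≤ n := by omega
  have : NeZero n := ⟨by omega⟩
  have hFU : Nat.card Fˣ = q₀ ^ 2 - 1 := by
    have := Fintype.ofFinite F
    exact H5.GL.card_units (by rw [← hcard, Nat.card_eq_fintype_card])
  rw [split_psl hn2]
  have h1 : (((Subgroup.centralizer {(dn (fS σ) * dn iS : MulAut (Matrix.ProjectiveSpecialLinearGroup (Fin n) F))}).comap
      (dn.comp cjS)).map Matrix.GeneralLinearGroup.det ⊔ (powMonoidHom n : Fˣ →* Fˣ).range) =
      (powMonoidHom n : Fˣ →* Fˣ).range ⊔ NU σ := by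
    rw [sup_comm]
    apply le_antisymm
    · rw [sup_le_iff]
      refine ⟨le_sup_left, ?_⟩
      rintro _ ⟨g, hg, rfl⟩
      obtain ⟨c, hc⟩ := (commute_gf_iff hn).mp hg
      obtain ⟨t, g₀, rfl, hg₀⟩ := exists_unitary_of_scalar hn2 hσ hc
      rw [_root_.map_mul, det_scalar]
      refine mul_mem (Subgroup.mem_sup_left ⟨t, rfl⟩) (Subgroup.mem_sup_right ?_)
      change ((Matrix.GeneralLinearGroup.det g₀ : Fˣ) : F) * σ ((Matrix.GeneralLinearGroup.det g₀ : Fˣ) : F) = 1
      have h2 : g₀ * (gσ σ (git g₀))⁻¹ = 1 := by rw [← hg₀, mul_inv_cancel]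
      have h3 : ((g₀ * (gσ σ (git g₀))⁻¹ : GL (Fin n) F) : Matrix (Fin n) (Fin n) F).det = 1 := by
        rw [h2, Units.val_one, det_one]
      rw [Units.val_mul, det_mul, gσ_inv_coe, git_inv_coe] at h3
      have h4 : (((g₀ : Matrix (Fin n) (Fin n) F)ᵀ).map σ).det = σ ((g₀ : Matrix (Fin n) (Fin n) F).det) := by
        have := ((σ : F →+* F).map_det ((g₀ : Matrix (Fin n) (Fin n) F)ᵀ)).symm
        rw [det_transpose] at this
        exact this
      rw [h4] at h3
      exact h3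
    · rw [sup_le_iff]
      refine ⟨le_sup_left, ?_⟩
      intro a ha
      refine Subgroup.mem_sup_right ⟨dgl (Pi.mulSingle (0 : Fin n) a), ?_, det_single a⟩
      change dn (cjS _) ∈ Subgroup.centralizer {dn (fS σ) * dn iS}
      rw [commute_gf_iff hn]
      refine ⟨1, ?_⟩
      rw [_root_.map_one]
      apply Units.ext
      rw [Units.val_mul, gσ_inv_coe, git_inv_coe, Units.val_one]
      change (diagonal (fun i => (((Pi.mulSingle (0 : Fin n) a : Fin n → Fˣ) i : Fˣ) : F))) *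
        ((diagonal (fun i => (((Pi.mulSingle (0 : Fin n) a : Fin n → Fˣ) i : Fˣ) : F)))ᵀ).map σ = 1
      rw [diagonal_transpose, diagonal_map (_root_.map_zero σ), diagonal_mul_diagonal, ← diagonal_one]
      congr 1
      funext i
      rcases eq_or_ne i 0 with rfl | hi
      · simp only [Pi.mulSingle_eq_same]; exact ha
      · simp [Pi.mulSingle_eq_of_ne hi]
  have hNU := card_NU hσ hq hcard hfix
  have h2 : q₀ ^ 2 - 1 = (q₀ + 1) * (q₀ - 1) := by
    have := Nat.sq_sub_sq q₀ 1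
    rwa [one_pow] at this
  rw [h1, Split.eq_powers (H := NU σ) (m := q₀ - 1) (by rw [hNU, hFU, h2]), Split.powers_sup,
    IsCyclic.index_powMonoidHom_range, hFU, Nat.gcd_comm]
  apply Nat.gcd_eq_left
  rw [h2]
  exact (Nat.gcd_dvd_right _ _).trans (dvd_mul_left _ _)

/-- centralizer of a graph-field automorphism. -/
theorem cent_gf (hn : 3 ≤ n) {σ : F ≃+* F} (hσ : orderOf σ = 2) {q₀ : ℕ}
    (hσq : ∀ a, σ a = a ^ q₀) :
    Nonempty (↥(Dd F n ⊓ Subgroup.centralizer
      {(dn (fS σ) * dn iS : MulAut (Matrix.ProjectiveSpecialLinearGroup (Fin n) F))}) ≃*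
        Cfsg.PGU n F q₀) := by
  have hn2 : 2 ≤ n := by omega
  have hσ2 : ∀ a, σ (σ a) = a := by
    intro a
    have h1 : σ ^ 2 = 1 := by rw [← hσ, pow_orderOf_eq_one]
    rw [sq] at h1
    exact congrArg (fun f : F ≃+* F => f a) h1
  have hGU : ∀ g : GL (Fin n) F, g ∈ Cfsg.GU n F q₀ ↔ g = gσ σ (git g) := by
    intro g
    have e1 : ∀ u v : Fin n → F, Cfsg.hermForm n F q₀ u v = u ⬝ᵥ (fun i => σ (v i)) := by
      intro u v
      simp only [Cfsg.hermForm, dotProduct, hσq]
    have e2 : g ∈ Cfsg.GU n F q₀ ↔ ∀ u v : Fin n → F, Cfsg.hermForm n F q₀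
        ((g : Matrix (Fin n) (Fin n) F) *ᵥ u) ((g : Matrix (Fin n) (Fin n) F) *ᵥ v) =
        Cfsg.hermForm n F q₀ u v := Iff.rfl
    have e3 : ∀ u v : Fin n → F, ((g : Matrix (Fin n) (Fin n) F) *ᵥ u) ⬝ᵥ
        (fun i => σ (((g : Matrix (Fin n) (Fin n) F) *ᵥ v) i)) =
        u ⬝ᵥ (((g : Matrix (Fin n) (Fin n) F)ᵀ * (g : Matrix (Fin n) (Fin n) F).map σ) *ᵥ (fun i => σ (v i))) := by
      intro u v
      rw [map_mulVec, ← mulVec_mulVec, dotProduct_mulVec u, vecMul_transpose]
    rw [e2]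
    simp only [e1, e3]
    have e4 : g = gσ σ (git g) ↔ (g : Matrix (Fin n) (Fin n) F)ᵀ * (g : Matrix (Fin n) (Fin n) F).map σ = 1 := by
      have hσσ : ∀ x : GL (Fin n) F, gσ σ (gσ σ x) = x := by
        intro x
        apply Units.ext
        ext i j
        exact hσ2 _
      constructor
      · intro h
        have h1 : gσ σ g = git g := by
          conv_lhs => rw [h]
          exact hσσ _
        have h2 : (git g)⁻¹ * gσ σ g = 1 := by rw [h1, inv_mul_cancel]
        have h3 := congrArg Units.val h2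
        rw [Units.val_mul, git_inv_coe, gσ_coe] at h3
        exact h3
      · intro h
        have h2 : (git g)⁻¹ * gσ σ g = 1 := by
          apply Units.ext
          rw [Units.val_mul, git_inv_coe, gσ_coe]
          exact h
        rw [inv_mul_eq_one] at h2
        rw [h2, hσσ]
    rw [e4]
    constructor
    · intro h
      apply mulVec_injective
      funext v
      apply dotProduct_eq
      intro u
      rw [one_mulVec]
      have := h u (fun i => σ (v i))
      simp only [hσ2] at this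
      rw [dotProduct_comm, this, dotProduct_comm]
    · intro h u v
      rw [h, one_mulVec]
  let f : Cfsg.GU n F q₀ →* ↥(Dd F n ⊓ Subgroup.centralizer
      {(dn (fS σ) * dn iS : MulAut (Matrix.ProjectiveSpecialLinearGroup (Fin n) F))}) :=
    ((dn.comp cjS).comp (Cfsg.GU n F q₀).subtype).codRestrict _ (fun g => by
      refine ⟨mem_Dd.mpr ⟨_, rfl⟩, ?_⟩
      refine (commute_gf_iff hn).mpr ⟨1, ?_⟩
      rw [_root_.map_one, mul_inv_eq_one]
      exact (hGU _).mp g.2)
  have hfs : Function.Surjective f := by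
    rintro ⟨α, hα1, hα2⟩
    obtain ⟨g, rfl⟩ := mem_Dd.mp hα1
    obtain ⟨c, hc⟩ := (commute_gf_iff hn).mp hα2
    obtain ⟨t, g₀, rfl, hg₀⟩ := exists_unitary_of_scalar hn2 hσ hc
    refine ⟨⟨g₀, (hGU _).mpr hg₀⟩, Subtype.ext ?_⟩
    change dn (cjS g₀) = dn (cjS _)
    rw [_root_.map_mul, _root_.map_mul, dn_scalar hn2, one_mul]
  have hfk : f.ker = (Cfsg.Geo.scalars (Fin n) F).subgroupOf (Cfsg.GU n F q₀) := by
    ext g
    rw [MonoidHom.mem_ker, Subgroup.mem_subgroupOf]
    have h1 : f g = 1 ↔ (dn (cjS (g : GL (Fin n) F)) :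
        MulAut (Matrix.ProjectiveSpecialLinearGroup (Fin n) F)) = 1 :=
      ⟨fun h => congrArg Subtype.val h, fun h => Subtype.ext h⟩
    rw [h1, dn_cjS_eq_one hn2, Matrix.GeneralLinearGroup.center_eq_range_scalar]
    exact Iff.rfl
  exact ⟨((QuotientGroup.quotientMulEquivOfEq hfk.symm).trans
    (QuotientGroup.quotientKerEquivOfSurjective f hfs)).symm⟩

end Cfsg.Agent.H16.AutL
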