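import Cfsg.Agent.H16_AutP
import Cfsg.Agent.H5_GL
import Cfsg.Prelude.Def_LieTypeDatum

set_option autoImplicit false

/-! Bridge to the predicates of the Prelude; structure of `Aut(PSL_n(F))`. -/

namespace Cfsg.Agent.H16.AutL

open Matrix Cfsg.Agent.H16.AutG Module

section Bridge

variable {F : Type*} [Field F] {n : ℕ}

theorem mem_conj_iff {g : GL (Fin n) F} {β : MulAut (Matrix.ProjectiveSpecialLinearGroup (Fin n) F)} :
    (∀ s s' : Matrix.SpecialLinearGroup (Fin n) F,
    (s' : Matrix (Fin n) (Fin n) F) =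
        ((g : GL (Fin n) F) : Matrix (Fin n) (Fin n) F) * (s : Matrix (Fin n) (Fin n) F) *
          ((g⁻¹ : GL (Fin n) F) : Matrix (Fin n) (Fin n) F) →
      β (QuotientGroup.mk s) = QuotientGroup.mk s') ↔ β = dn (cjS g) := by
  constructor
  · intro h
    ext1 x
    induction x using QuotientGroup.induction_on with
    | H s => exact h s (cjS g s) (cjS_coe g s)
  · rintro rfl s s' hs
    rw [dn_mk]
    congr 1
    exact sl_mat_ext (by rw [cjS_coe, hs])

theorem innDiag_iff {β : MulAut (Matrix.ProjectiveSpecialLinearGroup (Fin n) F)} :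
    Cfsg.IsInnerDiagonalAutPSL β ↔ ∃ g : GL (Fin n) F, β = dn (cjS g) := by
  constructor
  · rintro ⟨g, hg⟩
    exact ⟨g, mem_conj_iff.mp hg⟩
  · rintro ⟨g, hg⟩
    exact ⟨g, mem_conj_iff.mpr hg⟩

theorem stdField_iff {σ : F ≃+* F} {β : MulAut (Matrix.ProjectiveSpecialLinearGroup (Fin n) F)} :
    Cfsg.IsStdFieldAutPSL σ β ↔ β = dn (fS σ) := by
  constructor
  · intro h
    ext1 x
    induction x using QuotientGroup.induction_on with
    | H s => exact h s (fS σ s) (fS_coe σ s)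
  · rintro rfl s s' hs
    rw [dn_mk]
    congr 1
    exact sl_mat_ext (by rw [fS_coe, hs])

theorem invTr_iff {β : MulAut (Matrix.ProjectiveSpecialLinearGroup (Fin n) F)} :
    Cfsg.IsInverseTransposeAutPSL β ↔ β = dn iS := by
  constructor
  · intro h
    ext1 x
    induction x using QuotientGroup.induction_on with
    | H s => exact h s (iS s) (iS_coe s)
  · rintro rfl s s' hs
    rw [dn_mk]
    congr 1
    exact sl_mat_ext (by rw [iS_coe, hs])

theorem semilin_iff {g : GL (Fin n) F} {σ : F ≃+* F}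
    {β : MulAut (Matrix.ProjectiveSpecialLinearGroup (Fin n) F)} :
    Cfsg.IsInducedBySemilinearPSL g σ β ↔ β = dn (cjS g) * dn (fS σ) := by
  constructor
  · intro h
    ext1 x
    induction x using QuotientGroup.induction_on with
    | H s => exact h s (cjS g (fS σ s)) (cjS_coe g _)
  · rintro rfl s s' hs
    rw [MulAut.mul_apply, dn_mk, dn_mk]
    congr 1
    exact sl_mat_ext (by rw [cjS_coe, fS_coe, hs])

variable (F n) in
/-- `Inndiag` as a range. -/
def Dd : Subgroup (MulAut (Matrix.ProjectiveSpecialLinearGroup (Fin n) F)) :=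
  (dn.comp (cjS : GL (Fin n) F →* _)).range

theorem mem_Dd {β : MulAut (Matrix.ProjectiveSpecialLinearGroup (Fin n) F)} :
    β ∈ Dd F n ↔ ∃ g : GL (Fin n) F, β = dn (cjS g) := by
  constructor
  · rintro ⟨g, rfl⟩; exact ⟨g, rfl⟩
  · rintro ⟨g, rfl⟩; exact ⟨g, rfl⟩

end Bridge

section Bridge2

variable {F : Type*} [Field F] {n : ℕ}

theorem inndiag_eq : Cfsg.inndiagPSL n F = Dd F n := by
  apply le_antisymm
  · rw [Cfsg.inndiagPSL, Cfsg.autSubgroupOf, Subgroup.closure_le]
    intro β hβ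
    exact mem_Dd.mpr (innDiag_iff.mp hβ)
  · intro β hβ
    exact Subgroup.subset_closure (innDiag_iff.mpr (mem_Dd.mp hβ))

/-- every automorphism of `PSL_n(F)`, `n ≥ 2`. -/
theorem aut_all [Finite F] (hn : 2 ≤ n) (α : MulAut (Matrix.ProjectiveSpecialLinearGroup (Fin n) F)) :
    ∃ (g : GL (Fin n) F) (σ : F ≃+* F), α = dn (cjS g) * dn (fS σ) ∨
      (3 ≤ n ∧ α = dn (cjS g) * dn (fS σ) * dn iS) := by
  rcases Nat.lt_or_ge n 3 with h | h
  · obtain rfl : n = 2 := by omega
    obtain ⟨g, σ, h⟩ := aut_two α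
    exact ⟨g, σ, Or.inl h⟩
  · obtain ⟨g, σ, h'⟩ := aut_three (by rw [Fintype.card_fin]; exact h) α
    exact ⟨g, σ, h'.imp id fun hh => ⟨h, hh⟩⟩

theorem dn_fS_cjS (σ : F ≃+* F) (g : GL (Fin n) F) :
    (dn (fS σ) * dn (cjS g) : MulAut (Matrix.ProjectiveSpecialLinearGroup (Fin n) F)) =
      dn (cjS (gσ σ g)) * dn (fS σ) := by
  rw [← _root_.map_mul, fS_cjS, _root_.map_mul]

theorem dn_iS_cjS (g : GL (Fin n) F) :
    (dn iS * dn (cjS g) : MulAut (Matrix.ProjectiveSpecialLinearGroup (Fin n) F)) =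
      dn (cjS (git g)) * dn iS := by
  rw [← _root_.map_mul, iS_cjS, _root_.map_mul]

theorem dn_fS_iS (σ : F ≃+* F) :
    (dn (fS σ) * dn iS : MulAut (Matrix.ProjectiveSpecialLinearGroup (Fin n) F)) =
      dn iS * dn (fS σ) := by
  rw [← _root_.map_mul, fS_iS, _root_.map_mul]

/-- `Inndiag` is normal in the full automorphism group. -/
theorem Dd_normal [Finite F] (hn : 2 ≤ n) : (Dd F n).Normal := by
  refine ⟨?_⟩
  intro δ hδ α
  obtain ⟨g, rfl⟩ := mem_Dd.mp hδ
  obtain ⟨h, σ, hα | ⟨-, hα⟩⟩ := aut_all hn α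
  · refine mem_Dd.mpr ⟨h * gσ σ g * h⁻¹, ?_⟩
    rw [hα, mul_assoc (dn (cjS h)), dn_fS_cjS, _root_.map_mul, _root_.map_mul, _root_.map_mul,
      _root_.map_mul, _root_.map_inv, _root_.map_inv]
    group
  · refine mem_Dd.mpr ⟨h * gσ σ (git g) * h⁻¹, ?_⟩
    rw [hα, mul_assoc (dn (cjS h) * dn (fS σ)), dn_iS_cjS, ← mul_assoc, mul_assoc (dn (cjS h)),
      dn_fS_cjS, _root_.map_mul, _root_.map_mul, _root_.map_mul,
      _root_.map_mul, _root_.map_inv, _root_.map_inv]
    group

theorem dn_cjS_eq_one [Finite F] (hn : 2 ≤ n) {g : GL (Fin n) F} :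
    (dn (cjS g) : MulAut (Matrix.ProjectiveSpecialLinearGroup (Fin n) F)) = 1 ↔
      g ∈ Subgroup.center (GL (Fin n) F) := by
  have hnt : Nontrivial (Fin n) := Fin.nontrivial_iff_two_le.mpr hn
  rw [Matrix.GeneralLinearGroup.center_eq_range_scalar]
  constructor
  · intro h
    obtain ⟨-, c, hc⟩ := cf_eq_one (g := g) (σ := 1) (by rw [_root_.map_one, _root_.map_one, mul_one, h])
    refine ⟨c, ?_⟩
    apply Units.ext
    rw [hc]
    ext i j
    simp [Matrix.smul_apply, Matrix.one_apply, Matrix.diagonal_apply]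
  · rintro ⟨c, rfl⟩
    rw [cjS_smul_one (c := c), _root_.map_one]
    ext i j
    simp [Matrix.smul_apply, Matrix.one_apply, Matrix.diagonal_apply]

/-- inner automorphisms. -/
theorem conj_eq (s : Matrix.SpecialLinearGroup (Fin n) F) :
    (MulAut.conj (QuotientGroup.mk s : Matrix.ProjectiveSpecialLinearGroup (Fin n) F)) =
      dn (cjS (Matrix.SpecialLinearGroup.toGL s)) := by
  ext1 x
  induction x using QuotientGroup.induction_on with
  | H t =>
    rw [dn_mk, MulAut.conj_apply, ← QuotientGroup.mk_inv, ← QuotientGroup.mk_mul,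
      ← QuotientGroup.mk_mul]
    congr 1

end Bridge2

end Cfsg.Agent.H16.AutL
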