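import Cfsg.Agent.H16_AutP2

set_option autoImplicit false

/-! Orders and quotients: `Aut(PSL_n(F))/Inndiag`, `Inndiag/Inn`. -/

namespace Cfsg.Agent.H16.AutL

open Matrix Cfsg.Agent.H16.AutG Module

/-- complement lemma. -/
theorem exists_theta {A H : Type*} [Group A] [Group H] (D : Subgroup A) (hD : D.Normal)
    (ψ : H →* A) (h1 : ∀ a : A, ∃ h : H, a * (ψ h)⁻¹ ∈ D) (h2 : ∀ h : H, ψ h ∈ D → h = 1) :
    ∃ θ : A →* H, Function.Surjective θ ∧ θ.ker = D ∧ ∀ h, θ (ψ h) = h := by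
  let κ : H →* A ⧸ D := (QuotientGroup.mk' D).comp ψ
  have hinj : Function.Injective κ := by
    rw [injective_iff_map_eq_one]
    intro h hh
    exact h2 h ((QuotientGroup.eq_one_iff _).mp hh)
  have hsurj : Function.Surjective κ := by
    intro x
    obtain ⟨a, rfl⟩ := QuotientGroup.mk'_surjective D x
    obtain ⟨h, hh⟩ := h1 a
    refine ⟨h, ?_⟩
    change (QuotientGroup.mk (ψ h) : A ⧸ D) = QuotientGroup.mk a
    rw [QuotientGroup.eq]
    have := hD.conj_mem _ hh (ψ h)⁻¹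
    rwa [inv_inv, mul_assoc, inv_mul_cancel_right] at this
  let e : H ≃* A ⧸ D := MulEquiv.ofBijective κ ⟨hinj, hsurj⟩
  refine ⟨e.symm.toMonoidHom.comp (QuotientGroup.mk' D), ?_, ?_, ?_⟩
  · exact e.symm.surjective.comp (QuotientGroup.mk'_surjective D)
  · ext x
    rw [MonoidHom.mem_ker]
    change e.symm (QuotientGroup.mk' D x) = 1 ↔ _
    rw [MulEquiv.map_eq_one_iff, ← MonoidHom.mem_ker, QuotientGroup.ker_mk']
  · intro h
    change e.symm (e h) = h
    exact e.symm_apply_apply h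

section PSL

variable {F : Type*} [Field F] [Finite F] {n : ℕ}

theorem cf_mem_Dd (hn : 2 ≤ n) {σ : F ≃+* F}
    (h : (dn (fS σ) : MulAut (Matrix.ProjectiveSpecialLinearGroup (Fin n) F)) ∈ Dd F n) : σ = 1 := by
  have hnt : Nontrivial (Fin n) := Fin.nontrivial_iff_two_le.mpr hn
  obtain ⟨g, hg⟩ := mem_Dd.mp h
  refine (cf_eq_one (g := g⁻¹) (σ := σ) ?_).1
  rw [_root_.map_inv, _root_.map_inv, hg, inv_mul_cancel]

theorem cfi_notMem_Dd (hn : 3 ≤ n) {σ : F ≃+* F} :
    (dn (fS σ) * dn iS : MulAut (Matrix.ProjectiveSpecialLinearGroup (Fin n) F)) ∉ Dd F n := by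
  intro h
  obtain ⟨g, hg⟩ := mem_Dd.mp h
  refine cfi_ne_one (by rw [Fintype.card_fin]; exact hn) (g := g⁻¹) (σ := σ) ?_
  rw [_root_.map_inv, _root_.map_inv, mul_assoc, hg, inv_mul_cancel]

theorem exists_theta2 (hn : n = 2) :
    ∃ θ : MulAut (Matrix.ProjectiveSpecialLinearGroup (Fin n) F) →* (F ≃+* F),
      Function.Surjective θ ∧ θ.ker = Dd F n ∧ ∀ σ, θ (dn (fS σ)) = σ := by
  have h2 : 2 ≤ n := by omega
  refine exists_theta (Dd F n) (Dd_normal h2) (dn.comp fS) ?_ ?_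
  · intro α
    obtain ⟨g, σ, hα | ⟨h3, -⟩⟩ := aut_all h2 α
    · refine ⟨σ, mem_Dd.mpr ⟨g, ?_⟩⟩
      rw [MonoidHom.comp_apply, hα, mul_inv_cancel_right]
    · omega
  · intro σ hσ
    exact cf_mem_Dd h2 hσ

theorem iS_zpowers {x : MulAut (Matrix.ProjectiveSpecialLinearGroup (Fin n) F)}
    (hx : x ∈ Subgroup.zpowers (dn iS : MulAut (Matrix.ProjectiveSpecialLinearGroup (Fin n) F))) :
    x = 1 ∨ x = dn iS := by
  obtain ⟨k, rfl⟩ := Subgroup.mem_zpowers_iff.mp hx
  have hsq : (dn iS : MulAut (Matrix.ProjectiveSpecialLinearGroup (Fin n) F)) ^ (2 : ℤ) = 1 := by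
    rw [zpow_ofNat, sq]; exact iS_sq
  rcases Int.even_or_odd' k with ⟨m, rfl | rfl⟩
  · left; rw [_root_.zpow_mul, hsq, _root_.one_zpow]
  · right; rw [_root_.zpow_add, _root_.zpow_mul, hsq, _root_.one_zpow, one_mul, zpow_one]

theorem exists_theta3 (hn : 3 ≤ n) :
    ∃ θ : MulAut (Matrix.ProjectiveSpecialLinearGroup (Fin n) F) →* (F ≃+* F) ×
        Subgroup.zpowers (dn iS : MulAut (Matrix.ProjectiveSpecialLinearGroup (Fin n) F)),
      Function.Surjective θ ∧ θ.ker = Dd F n := by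
  have h2 : 2 ≤ n := by omega
  let ψ : (F ≃+* F) × Subgroup.zpowers (dn iS : MulAut (Matrix.ProjectiveSpecialLinearGroup (Fin n) F)) →*
      MulAut (Matrix.ProjectiveSpecialLinearGroup (Fin n) F) :=
    MonoidHom.noncommCoprod (dn.comp fS) (Subgroup.subtype _) (by
      rintro σ ⟨x, hx⟩
      obtain ⟨k, rfl⟩ := Subgroup.mem_zpowers_iff.mp hx
      exact Commute.zpow_right (dn_fS_iS σ) k)
  have hψ : ∀ (σ : F ≃+* F) (x : Subgroup.zpowers (dn iS : MulAut (Matrix.ProjectiveSpecialLinearGroup (Fin n) F))),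
      ψ (σ, x) = dn (fS σ) * (x : MulAut (Matrix.ProjectiveSpecialLinearGroup (Fin n) F)) := fun σ x => rfl
  obtain ⟨θ, h1, h3, -⟩ := exists_theta (Dd F n) (Dd_normal h2) ψ (by
    intro α
    obtain ⟨g, σ, hα | ⟨h3, hα⟩⟩ := aut_all h2 α
    · refine ⟨(σ, 1), mem_Dd.mpr ⟨g, ?_⟩⟩
      rw [hψ, hα, OneMemClass.coe_one, mul_one, mul_inv_cancel_right]
    · refine ⟨(σ, ⟨dn iS, Subgroup.mem_zpowers _⟩), mem_Dd.mpr ⟨g, ?_⟩⟩
      rw [hψ, hα, mul_assoc (dn (cjS g)), mul_inv_cancel_right]) (by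
    rintro ⟨σ, x, hx⟩ h
    rw [hψ] at h
    rcases iS_zpowers hx with rfl | rfl
    · rw [mul_one] at h
      rw [cf_mem_Dd h2 h]
      rfl
    · exact absurd h (cfi_notMem_Dd hn))
  exact ⟨θ, h1, h3⟩

theorem card_iS (hn : 3 ≤ n) :
    Nat.card (Subgroup.zpowers (dn iS : MulAut (Matrix.ProjectiveSpecialLinearGroup (Fin n) F))) = 2 := by
  rw [Nat.card_zpowers]
  refine orderOf_eq_prime ?_ ?_
  · rw [sq]; exact iS_sq
  · intro h
    refine cfi_notMem_Dd (F := F) hn (σ := 1) ?_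
    rw [_root_.map_one, _root_.map_one, h, one_mul]
    exact one_mem _

theorem card_Dd (hn : 2 ≤ n) : Nat.card (Dd F n) = Nat.card (Matrix.ProjGenLinGroup (Fin n) F) := by
  have hker : (dn.comp (cjS : GL (Fin n) F →* _)).ker = Subgroup.center (GL (Fin n) F) := by
    ext g
    rw [MonoidHom.mem_ker, MonoidHom.comp_apply, dn_cjS_eq_one hn]
  have e := QuotientGroup.quotientKerEquivRange (dn.comp (cjS : GL (Fin n) F →* _))
  rw [Dd, ← Nat.card_congr e.toEquiv]
  exact Nat.card_congr (QuotientGroup.quotientMulEquivOfEq hker).toEquiv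

theorem card_of_theta {A H : Type*} [Group A] [Group H] [Finite A] (θ : A →* H)
    (hθ : Function.Surjective θ) : Nat.card A = Nat.card H * Nat.card θ.ker := by
  rw [← Subgroup.index_mul_card θ.ker, Subgroup.index_ker,
    MonoidHom.range_eq_top.mpr hθ, Nat.card_congr (Subgroup.topEquiv (G := H)).toEquiv]

/-- `dgl` as a homomorphism. -/
def dglH : (Fin n → Fˣ) →* GL (Fin n) F where
  toFun := dgl
  map_one' := by
    apply Units.ext
    change diagonal (fun _ => ((1 : Fˣ) : F)) = (1 : Matrix (Fin n) (Fin n) F)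
    rw [Units.val_one]; exact diagonal_one
  map_mul' d e := by
    apply Units.ext
    change diagonal (fun i => ((d i * e i : Fˣ) : F)) = (diagonal (fun i => (d i : F)) *
      diagonal (fun i => (e i : F)) : Matrix (Fin n) (Fin n) F)
    rw [diagonal_mul_diagonal]
    rfl

theorem det_dgl (d : Fin n → Fˣ) : Matrix.GeneralLinearGroup.det (dgl d) = ∏ i, d i := by
  apply Units.ext
  change (diagonal (fun i => (d i : F))).det = _
  rw [det_diagonal, Units.coe_prod]

theorem det_single [NeZero n] (a : Fˣ) :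
    Matrix.GeneralLinearGroup.det (dgl (Pi.mulSingle (0 : Fin n) a)) = a := by
  rw [det_dgl, Finset.prod_pi_mulSingle' 0 a]
  simp

/-- `F^× → Inndiag/Inn`. -/
theorem exists_chi (hn : 2 ≤ n) :
    ∃ χ : Fˣ →* Cfsg.Out (Matrix.ProjectiveSpecialLinearGroup (Fin n) F),
      χ.range = (Dd F n).map (QuotientGroup.mk' _) ∧ χ.ker = (powMonoidHom n : Fˣ →* Fˣ).range ∧
      ∀ g : GL (Fin n) F, (QuotientGroup.mk (dn (cjS g)) :
        Cfsg.Out (Matrix.ProjectiveSpecialLinearGroup (Fin n) F)) =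
          χ (Matrix.GeneralLinearGroup.det g) := by
  have : NeZero n := ⟨by omega⟩
  let χ : Fˣ →* Cfsg.Out (Matrix.ProjectiveSpecialLinearGroup (Fin n) F) :=
    ((QuotientGroup.mk' _).comp (dn.comp cjS)).comp (dglH.comp (MonoidHom.mulSingle (fun _ => Fˣ) 0))
  have hχ : ∀ a, χ a = QuotientGroup.mk (dn (cjS (dgl (Pi.mulSingle (0 : Fin n) a)))) := fun a => rfl
  have key : ∀ g : GL (Fin n) F, (QuotientGroup.mk (dn (cjS g)) :
        Cfsg.Out (Matrix.ProjectiveSpecialLinearGroup (Fin n) F)) =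
          χ (Matrix.GeneralLinearGroup.det g) := by
    intro g
    rw [hχ, QuotientGroup.eq, ← _root_.map_inv, ← _root_.map_mul, ← _root_.map_inv, ← _root_.map_mul]
    have h1 : g⁻¹ * dgl (Pi.mulSingle (0 : Fin n) (Matrix.GeneralLinearGroup.det g)) ∈
        (Matrix.SpecialLinearGroup.toGL : Matrix.SpecialLinearGroup (Fin n) F →* GL (Fin n) F).range := by
      rw [H5.GL.range_toGL, MonoidHom.mem_ker, _root_.map_mul, _root_.map_inv, det_single, inv_mul_cancel]
    obtain ⟨s, hs⟩ := h1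
    rw [← hs]
    exact ⟨QuotientGroup.mk s, conj_eq s⟩
  refine ⟨χ, ?_, ?_, key⟩
  · ext x
    constructor
    · rintro ⟨a, rfl⟩
      exact ⟨_, mem_Dd.mpr ⟨_, rfl⟩, rfl⟩
    · rintro ⟨β, hβ, rfl⟩
      obtain ⟨g, rfl⟩ := mem_Dd.mp hβ
      exact ⟨_, (key g).symm⟩
  · ext a
    rw [MonoidHom.mem_ker, hχ, QuotientGroup.eq_one_iff]
    constructor
    · rintro ⟨x, hx⟩
      induction x using QuotientGroup.induction_on with
      | H s =>
        rw [conj_eq] at hx
        have h1 : dn (cjS (dgl (Pi.mulSingle (0 : Fin n) a) * (Matrix.SpecialLinearGroup.toGL s)⁻¹)) =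
            (1 : MulAut (Matrix.ProjectiveSpecialLinearGroup (Fin n) F)) := by
          rw [_root_.map_mul, _root_.map_mul, _root_.map_inv, _root_.map_inv, hx, mul_inv_cancel]
        rw [dn_cjS_eq_one hn, Matrix.GeneralLinearGroup.center_eq_range_scalar] at h1
        obtain ⟨c, hc⟩ := h1
        refine ⟨c, ?_⟩
        have h2 := congrArg Matrix.GeneralLinearGroup.det hc
        rw [_root_.map_mul, det_single, _root_.map_inv] at h2
        have h3 : Matrix.GeneralLinearGroup.det (Matrix.SpecialLinearGroup.toGL s) = 1 := by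
          apply Units.ext
          exact s.2
        rw [h3, inv_one, mul_one] at h2
        rw [← h2]
        apply Units.ext
        simp
    · rintro ⟨c, rfl⟩
      have h1 : (Matrix.GeneralLinearGroup.scalar (Fin n) c)⁻¹ *
          dgl (Pi.mulSingle (0 : Fin n) (powMonoidHom n c)) ∈
          (Matrix.SpecialLinearGroup.toGL : Matrix.SpecialLinearGroup (Fin n) F →* GL (Fin n) F).range := by
        rw [H5.GL.range_toGL, MonoidHom.mem_ker, _root_.map_mul, _root_.map_inv, det_single,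
          inv_mul_eq_one]
        apply Units.ext
        simp
      obtain ⟨s, hs⟩ := h1
      refine ⟨QuotientGroup.mk s, ?_⟩
      have h2 : (dn (cjS (Matrix.GeneralLinearGroup.scalar (Fin n) c)) :
          MulAut (Matrix.ProjectiveSpecialLinearGroup (Fin n) F)) = 1 := by
        rw [dn_cjS_eq_one hn, Matrix.GeneralLinearGroup.center_eq_range_scalar]
        exact ⟨c, rfl⟩
      rw [conj_eq, hs, _root_.map_mul, _root_.map_mul, _root_.map_inv, _root_.map_inv, h2, inv_one,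
        one_mul]

theorem out_ker (hn : 2 ≤ n) {q : ℕ} (hq : Nat.card F = q) :
    IsCyclic ((Dd F n).map (QuotientGroup.mk' (Cfsg.Inn (Matrix.ProjectiveSpecialLinearGroup (Fin n) F)))) ∧
    Nat.card ((Dd F n).map (QuotientGroup.mk' (Cfsg.Inn (Matrix.ProjectiveSpecialLinearGroup (Fin n) F)))) =
      Nat.gcd n (q - 1) := by
  obtain ⟨χ, h1, h2, -⟩ := exists_chi (F := F) hn
  have hcu : Nat.card Fˣ = q - 1 := by
    have := Fintype.ofFinite F
    exact H5.GL.card_units (by rw [← hq, Nat.card_eq_fintype_card])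
  rw [← h1]
  refine ⟨isCyclic_of_surjective χ.rangeRestrict χ.rangeRestrict_surjective, ?_⟩
  have h3 := Subgroup.index_ker χ
  rw [← h3, h2, IsCyclic.index_powMonoidHom_range, hcu, Nat.gcd_comm]

theorem Inn_le_Dd : Cfsg.Inn (Matrix.ProjectiveSpecialLinearGroup (Fin n) F) ≤ Dd F n := by
  rintro _ ⟨x, rfl⟩
  induction x using QuotientGroup.induction_on with
  | H s => exact mem_Dd.mpr ⟨_, conj_eq s⟩

end PSL

end Cfsg.Agent.H16.AutL
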