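import Cfsg.Agent.H16_Un3
import Cfsg.Agent.H5_FrmAniso

/-! The number of unipotent elements of symplectic groups. -/

set_option autoImplicit false

namespace Cfsg.Agent.H16.Un

open Cfsg.Agent.H5 Module

universe u

variable {F : Type*} [Field F]

theorem card_isom [Fintype F] {m : ℕ} {V : Type u} [AddCommGroup V] [Module F V] [FiniteDimensional F V]
    (A : Frm F (RingHom.id F) (-1) (0 : F →+ F) V) (hA : A.Nondeg) (hm : finrank F V = 2 * m) :
    Nat.card A.isom = Fintype.card F ^ m ^ 2 * ∏ i ∈ Finset.range m, (Fintype.card F ^ (2 * (i + 1)) - 1) := by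
  obtain ⟨m', a, ha, hW⟩ := Frm.exists_wittDec.{u} (σ := RingHom.id F) (ε := -1) (t := (0 : F →+ F)) 0 (by
    intro V _ _ _ A hA hV
    obtain ⟨v, hv⟩ := Module.finrank_pos_iff_exists_ne_zero.1 hV
    exact ⟨v, hv, Qz A v⟩) _ A hA rfl
  obtain rfl : a = 0 := by omega
  have h1 := Frm.WittDec.finrank_eq _ _ A hW
  obtain rfl : m' = m := by omega
  rw [Frm.WittDec.card_isom.{u} 0 1 (fun A _ _ h => Frm.card_isom_zero A h) m' A hA hW, mul_one, Frm.kt_zero,
    Frm.ordProd_sp _ _ Fintype.card_pos]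

section

variable {V : Type*} [AddCommGroup V] [Module F V] {A : Frm F (RingHom.id F) (-1) (0 : F →+ F) V}

/-- fixed spaces -/
def Fx (u : A.isom) : Submodule F V := LinearMap.ker ((u : V ≃ₗ[F] V).toLinearMap - LinearMap.id)

theorem mem_Fx {u : A.isom} {x : V} : x ∈ Fx u ↔ (u : V ≃ₗ[F] V) x = x := by
  rw [Fx, LinearMap.mem_ker, LinearMap.sub_apply]
  exact sub_eq_zero

theorem card_orb [Fintype F] [FiniteDimensional F V] (hA : A.Nondeg) {j : ℕ} {v : Fin j → V} (hv : v ∈ JS A ⊤ j) :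
    Nat.card A.isom = Nat.card (JS A ⊤ j) * Nat.card (St A v) := by
  have h1 := card_eq_card_orbit_mul (G := A.isom) (X := Fin j → V) v (JS A ⊤ j) (by
    intro y
    constructor
    · intro hy
      obtain ⟨g, hg, hgi⟩ := Frm.witt_tuple hA v y hv.1 hy.1 (fun i k => by rw [hv.2.2, hy.2.2]) (fun i => by rw [Qz, Qz])
      exact ⟨⟨g, hg⟩, funext hgi⟩
    · rintro ⟨g, rfl⟩
      refine ⟨hv.1.map' (g : V ≃ₗ[F] V).toLinearMap (g : V ≃ₗ[F] V).ker, fun i => Submodule.mem_top, fun i k => ?_⟩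
      exact (g.2.1 _ _).trans (hv.2.2 i k))
  have h2 : MulAction.stabilizer A.isom v = St A v := by
    ext g
    rw [MulAction.mem_stabilizer_iff]
    exact funext_iff
  rw [h1, h2]

/-- double counting -/
theorem double [Fintype F] [FiniteDimensional F V] (p j : ℕ) [Fintype {u : A.isom // ∃ k : ℕ, u ^ p ^ k = 1}] [Fintype (JS A ⊤ j)] :
    ∑ u : {u : A.isom // ∃ k : ℕ, u ^ p ^ k = 1}, Nat.card (JS A (Fx u.1) j) = ∑ v : JS A ⊤ j, pel p (St A v.1) := by
  have : Finite V := Module.finite_of_finite F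
  have : Finite (V ≃ₗ[F] V) := Finite.of_injective (fun g : V ≃ₗ[F] V => (g : V → V)) DFunLike.coe_injective
  unfold pel
  rw [← Nat.card_sigma, ← Nat.card_sigma]
  refine Nat.card_congr
    { toFun := fun x => ⟨⟨x.2.1, x.2.2.1, fun _ => Submodule.mem_top, x.2.2.2.2⟩, ⟨⟨x.1.1, fun i => mem_Fx.1 (x.2.2.2.1 i)⟩, ?_⟩⟩
      invFun := fun x => ⟨⟨x.2.1.1, ?_⟩, ⟨x.1.1, x.1.2.1, fun i => mem_Fx.2 (x.2.1.2 i), x.1.2.2.2⟩⟩
      left_inv := fun x => rfl
      right_inv := fun x => rfl }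
  · obtain ⟨k, hk⟩ := x.1.2
    exact ⟨k, Subtype.ext hk⟩
  · obtain ⟨k, hk⟩ := x.2.2
    exact ⟨k, congrArg Subtype.val hk⟩

end

theorem main [Fintype F] (p : ℕ) [Fact p.Prime] [CharP F p] : ∀ (m : ℕ) {V : Type u} [AddCommGroup V] [Module F V] [FiniteDimensional F V]
    (A : Frm F (RingHom.id F) (-1) (0 : F →+ F) V) (_ : A.Nondeg) (_ : finrank F V = 2 * m),
    pel p A.isom = Fintype.card F ^ (2 * m ^ 2) := by
  intro m
  induction m using Nat.strong_induction_on with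
  | _ m ih =>
  intro V _ _ _ A hA hm
  classical
  have : Finite V := Module.finite_of_finite F
  have : Finite (V ≃ₗ[F] V) := Finite.of_injective (fun g : V ≃ₗ[F] V => (g : V → V)) DFunLike.coe_injective
  let _ : Fintype {u : A.isom // ∃ k : ℕ, u ^ p ^ k = 1} := Fintype.ofFinite _
  let _ : ∀ j, Fintype (JS A ⊤ j) := fun j => Fintype.ofFinite _
  obtain ⟨q, hq⟩ : ∃ q : ℚ, q = Fintype.card F := ⟨_, rfl⟩
  have hqQ : 1 < q := by rw [hq]; exact_mod_cast Fintype.one_lt_card (α := F)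
  have hq0 : q ≠ 0 := by positivity
  have hRR : ∀ j, RR q j ≠ 0 := by
    intro j
    rw [RR, Finset.prod_ne_zero_iff]
    intro i _
    rw [sub_ne_zero]
    exact (one_lt_pow₀ hqQ (Nat.succ_ne_zero i)).ne'
  have hPP : ∀ j, PP q j ≠ 0 := by
    intro j
    rw [PP, Finset.prod_ne_zero_iff]
    intro i _
    rw [sub_ne_zero]
    exact (one_lt_pow₀ hqQ (by omega)).ne'
  -- orders
  have hcard : ∀ {m : ℕ} {V : Type u} [AddCommGroup V] [Module F V] [FiniteDimensional F V]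
      (A : Frm F (RingHom.id F) (-1) (0 : F →+ F) V) (_ : A.Nondeg) (_ : finrank F V = 2 * m), (Nat.card A.isom : ℚ) = q ^ m ^ 2 * PP q m := by
    intro m V _ _ _ A hA hm
    rw [card_isom A hA hm, PP, hq]
    push_cast
    congr 1
    refine Finset.prod_congr rfl fun i _ => ?_
    rw [Nat.cast_sub (Nat.one_le_pow _ _ Fintype.card_pos)]
    push_cast
    rfl
  have hfr : ∀ j ≤ m, (Nat.card (JS A ⊤ j) : ℚ) = q ^ (j.choose 2) * nn q m j * RR q j := by
    intro j hj
    have h1 : (Nat.card (JS A ⊤ j) : ℚ) = ∏ i ∈ Finset.range j, (q ^ (2 * m - i) - q ^ i) := by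
      rw [card_frames hA hm j, hq]
      push_cast
      refine Finset.prod_congr rfl fun i hi => ?_
      rw [Finset.mem_range] at hi
      rw [Nat.cast_sub (Nat.pow_le_pow_right Fintype.card_pos (by omega))]
      push_cast
      rfl
    have h2 := frames_prod q m j hj
    have h3 := nn_prod q m j hj
    rw [← h1, ← h3] at h2
    have h4 := hPP (m - j)
    apply mul_right_cancel₀ h4
    linear_combination h2
  obtain ⟨S, hS⟩ : ∃ S : ℚ, S = ∑ u : {u : A.isom // ∃ k : ℕ, u ^ p ^ k = 1}, ∑ j ∈ Finset.range (m + 1),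
    (-1) ^ j / RR q j * (Nat.card (JS A (Fx u.1) j) : ℚ) := ⟨_, rfl⟩
  have e1 : S = (-1) ^ m * q ^ m ^ 2 := by
    rw [hS, Finset.sum_eq_single (⟨1, 0, one_pow _⟩ : {u : A.isom // ∃ k : ℕ, u ^ p ^ k = 1})]
    · rw [← sumA]
      refine Finset.sum_congr rfl fun j hj => ?_
      rw [Finset.mem_range] at hj
      have h1 : Fx (1 : A.isom) = ⊤ := by
        rw [eq_top_iff]
        intro x _
        exact mem_Fx.2 rfl
      rw [h1, hfr j (by omega)]
      have := hRR j
      field_simp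
    · intro u _ hu
      obtain ⟨r, hr, hr1, hr2⟩ := exists_rad p u.1 u.2 (fun h => hu (Subtype.ext h))
      rw [hq]
      exact alt_zero hA hm hr (mem_Fx.2 hr1) fun c hc => hr2 c (mem_Fx.1 hc)
    · intro h; exact absurd (Finset.mem_univ _) h
  have e2 : S = ∑ j ∈ Finset.range (m + 1), (-1) ^ j / RR q j * ((∑ v : JS A ⊤ j, pel p (St A v.1) : ℕ) : ℚ) := by
    rw [hS, Finset.sum_comm]
    refine Finset.sum_congr rfl fun j _ => ?_
    rw [← Finset.mul_sum, ← double]
    push_cast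
    rfl
  have e3 : ∀ j ∈ Finset.range m, (-1) ^ (j + 1) / RR q (j + 1) * ((∑ v : JS A ⊤ (j + 1), pel p (St A v.1) : ℕ) : ℚ) =
      (-1) ^ (j + 1) * q ^ ((m - (j + 1)) ^ 2) * nn q m (j + 1) * q ^ m ^ 2 := by
    intro j hj
    rw [Finset.mem_range] at hj
    have hJ := hfr (j + 1) hj
    have hnp := nn_prod q m (j + 1) hj
    have hnn : nn q m (j + 1) ≠ 0 := by
      intro h
      rw [h, zero_mul, zero_mul] at hnp
      exact hPP m hnp.symm
    have hJ0 : (Nat.card (JS A ⊤ (j + 1)) : ℚ) ≠ 0 := by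
      rw [hJ]
      exact mul_ne_zero (mul_ne_zero (pow_ne_zero _ hq0) hnn) (hRR _)
    have h1 : ∀ v : JS A ⊤ (j + 1), (pel p (St A v.1) : ℚ) = (q ^ m ^ 2 * PP q m / Nat.card (JS A ⊤ (j + 1))) *
        (q ^ ((m - (j + 1)) ^ 2) / PP q (m - (j + 1))) := by
      intro v
      obtain ⟨V0, hn0, hd0, c, hc, hc1, hc2⟩ := stab_count p hA v.2
      have h2 : finrank F V0 = 2 * (m - (j + 1)) := by omega
      have h3 := ih (m - (j + 1)) (by omega) (A.restrict V0) hn0 h2
      have h4 := hcard (A.restrict V0) hn0 h2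
      have h5 := card_orb hA v.2
      have h6 := hcard A hA hm
      have h7 : (c : ℚ) * (q ^ (m - (j + 1)) ^ 2 * PP q (m - (j + 1))) * Nat.card (JS A ⊤ (j + 1)) = q ^ m ^ 2 * PP q m := by
        rw [← h6, ← h4, h5, hc1]
        push_cast
        ring
      rw [hc2, h3, ← h7]
      push_cast
      rw [← hq]
      have h8 := hPP (m - (j + 1))
      have h9 : q ^ (2 * (m - (j + 1)) ^ 2) = q ^ ((m - (j + 1)) ^ 2) * q ^ ((m - (j + 1)) ^ 2) := by rw [← pow_add]; congr 1; ring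
      rw [h9]
      field_simp
    push_cast
    rw [Finset.sum_congr rfl fun v _ => h1 v, Finset.sum_const, Finset.card_univ, nsmul_eq_mul, ← Nat.card_eq_fintype_card]
    have h8 := hPP (m - (j + 1))
    have h9 := hRR (j + 1)
    rw [← hnp]
    field_simp
  have e4 : ((∑ v : JS A ⊤ 0, pel p (St A v.1) : ℕ) : ℚ) = pel p A.isom := by
    congr 1
    have h1 : Subsingleton (JS A ⊤ 0) := ⟨fun a b => Subtype.ext (funext fun i => i.elim0)⟩
    let v0 : JS A ⊤ 0 := ⟨Fin.elim0, linearIndependent_empty_type, fun i => i.elim0, fun i => i.elim0⟩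
    rw [Fintype.sum_eq_single v0 (fun v hv => absurd (Subsingleton.elim _ _) hv)]
    have h2 : St A v0.1 = ⊤ := by
      rw [eq_top_iff]
      intro g _ i
      exact i.elim0
    rw [h2]
    exact pel_congr p Subgroup.topEquiv
  rw [Finset.sum_range_succ', Finset.sum_congr rfl e3, e4] at e2
  have e5 : (-1) ^ m * q ^ m ^ 2 = ∑ j ∈ Finset.range m, (-1) ^ (j + 1) * q ^ ((m - (j + 1)) ^ 2) * nn q m (j + 1) * q ^ m ^ 2 + q ^ m ^ 2 * q ^ m ^ 2 := by
    rw [← sumB q m, Finset.sum_range_succ', add_mul, Finset.sum_mul, nn_zero, Nat.sub_zero, pow_zero, one_mul, mul_one]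
  rw [e1, e5] at e2
  have e6 : q ^ m ^ 2 * q ^ m ^ 2 = (pel p A.isom : ℚ) := by
    have h1 := add_left_cancel e2
    rw [h1, RR]
    simp
  have e7 : ((Fintype.card F ^ (2 * m ^ 2) : ℕ) : ℚ) = pel p A.isom := by
    rw [← e6, hq, ← pow_add, Nat.cast_pow]
    congr 1; ring
  exact_mod_cast e7.symm

end Cfsg.Agent.H16.Un
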