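import Mathlib
import Cfsg.Agent.H5_FrmWitt
import Cfsg.Agent.H5_FrmAniso

set_option autoImplicit false

/-! Isometric forms; spaces with the same Witt decomposition. -/

namespace Cfsg.Agent.H5.Frm

universe u u'

variable {F : Type*} [Field F] {σ : F →+* F} {ε : F} {t : F →+ F}

/-- two forms are isometric. -/
def Isometric {V V' : Type*} [AddCommGroup V] [Module F V] [AddCommGroup V'] [Module F V']
    (A : Frm F σ ε t V) (A' : Frm F σ ε t V') : Prop :=
  ∃ φ : V ≃ₗ[F] V', (∀ x y, A'.B (φ x) (φ y) = A.B x y) ∧ ∀ x, A'.Q (φ x) = A.Q x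

section
variable {V V' V'' : Type*} [AddCommGroup V] [Module F V] [AddCommGroup V'] [Module F V']
    [AddCommGroup V''] [Module F V''] {A : Frm F σ ε t V} {A' : Frm F σ ε t V'}
    {A'' : Frm F σ ε t V''}

theorem Isometric.refl (A : Frm F σ ε t V) : Isometric A A :=
  ⟨LinearEquiv.refl F V, fun _ _ => rfl, fun _ => rfl⟩

theorem Isometric.symm (h : Isometric A A') : Isometric A' A := by
  obtain ⟨φ, h1, h2⟩ := h
  refine ⟨φ.symm, fun x y => ?_, fun x => ?_⟩
  · rw [← h1, LinearEquiv.apply_symm_apply, LinearEquiv.apply_symm_apply]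
  · rw [← h2, LinearEquiv.apply_symm_apply]

theorem Isometric.trans (h : Isometric A A') (h' : Isometric A' A'') : Isometric A A'' := by
  obtain ⟨φ, h1, h2⟩ := h
  obtain ⟨ψ, h3, h4⟩ := h'
  exact ⟨φ.trans ψ, fun x y => by rw [LinearEquiv.trans_apply, LinearEquiv.trans_apply, h3, h1],
    fun x => by rw [LinearEquiv.trans_apply, h4, h2]⟩

theorem B_pair {u f : V} (hp : A.HPair u f) (a b : F) (w : A.perp2 u f) (a' b' : F)
    (w' : A.perp2 u f) : A.B (a • u + b • f + (w : V)) (a' • u + b' • f + (w' : V)) =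
      σ a * b' + σ b * a' * ε + A.B w w' := by
  have hw := (A.mem_perp2).mp w.2
  have hw' := (A.mem_perp2).mp w'.2
  have e1 : A.B (w : V) u = 0 := A.refl hw.1
  have e2 : A.B (w : V) f = 0 := A.refl hw.2
  simp only [map_add, LinearMap.add_apply, B_smul_smul, LinearMap.map_smulₛₗ₂, hp.Buu, hp.Bff,
    hp.Buf, hp.Bfu, hw'.1, hw'.2, smul_zero]
  rw [(A.B (w : V)).map_smul, (A.B (w : V)).map_smul, e1, e2]
  rw [(A.B u).map_smul, (A.B f).map_smul, (A.B u).map_smul, (A.B f).map_smul,
    hp.Buu, hp.Bff, hp.Buf, hp.Bfu]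
  simp only [smul_eq_mul]
  ring

theorem Isometric.of_pair {u f : V} {u' f' : V'} (hp : A.HPair u f) (hp' : A'.HPair u' f')
    (h : Isometric (A.restrict (A.perp2 u f)) (A'.restrict (A'.perp2 u' f'))) :
    Isometric A A' := by
  obtain ⟨φ, h1, h2⟩ := h
  let Φ : (F × F × A.perp2 u f) ≃ₗ[F] (F × F × A'.perp2 u' f') :=
    LinearEquiv.prodCongr (LinearEquiv.refl F F) (LinearEquiv.prodCongr (LinearEquiv.refl F F) φ)
  let Ψ := ((pairEquiv hp).symm.trans Φ).trans (pairEquiv hp')
  have hΨ : ∀ (a b : F) (w : A.perp2 u f), Ψ (a • u + b • f + (w : V)) =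
      a • u' + b • f' + (φ w : V') := by
    intro a b w
    have h3 : (pairEquiv hp).symm (a • u + b • f + (w : V)) = (a, b, w) := by
      rw [LinearEquiv.symm_apply_eq, pairEquiv_apply]
    change (pairEquiv hp') (Φ ((pairEquiv hp).symm (a • u + b • f + (w : V)))) = _
    rw [h3]
    change (pairEquiv hp') (a, b, φ w) = _
    rw [pairEquiv_apply]
  refine ⟨Ψ, fun x y => ?_, fun x => ?_⟩
  · obtain ⟨⟨a, b, w⟩, rfl⟩ := (pairEquiv hp).surjective x
    obtain ⟨⟨a', b', w'⟩, rfl⟩ := (pairEquiv hp).surjective y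
    rw [pairEquiv_apply, pairEquiv_apply, hΨ, hΨ, B_pair hp', B_pair hp]
    have := h1 w w'
    rw [restrict_B, restrict_B] at this
    rw [this]
  · obtain ⟨⟨a, b, w⟩, rfl⟩ := (pairEquiv hp).surjective x
    rw [pairEquiv_apply, hΨ, Q_pair hp', Q_pair hp]
    have := h2 w
    rw [restrict_Q, restrict_Q] at this
    rw [this]

end

/-- spaces with the same Witt decomposition are isometric if the anisotropic parts are. -/
theorem WittDec.isometric (a : ℕ)
    (ha : ∀ {V : Type u} {V' : Type u'} [AddCommGroup V] [Module F V] [FiniteDimensional F V]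
      [AddCommGroup V'] [Module F V'] [FiniteDimensional F V']
      (A : Frm F σ ε t V) (A' : Frm F σ ε t V'), A.Nondeg → A'.Nondeg →
      (∀ v, A.Q v = 0 → v = 0) → (∀ v, A'.Q v = 0 → v = 0) → Module.finrank F V = a →
      Module.finrank F V' = a → Isometric A A') :
    ∀ (m : ℕ) {V : Type u} {V' : Type u'} [AddCommGroup V] [Module F V] [FiniteDimensional F V]
      [AddCommGroup V'] [Module F V'] [FiniteDimensional F V']
      (A : Frm F σ ε t V) (A' : Frm F σ ε t V'), A.Nondeg → A'.Nondeg → WittDec m a A →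
      WittDec m a A' → Isometric A A' := by
  intro m
  induction m with
  | zero =>
    intro V V' _ _ _ _ _ _ A A' hn hn' h h'
    exact ha A A' hn hn' h.1 h'.1 h.2 h'.2
  | succ m ih =>
    intro V V' _ _ _ _ _ _ A A' hn hn' h h'
    obtain ⟨u, f, hp, h⟩ := h
    obtain ⟨u', f', hp', h'⟩ := h'
    exact Isometric.of_pair hp hp' (ih _ _ (nondeg_perp2 hn hp) (nondeg_perp2 hn' hp') h h')

theorem Isometric.of_finrank_zero {V V' : Type*} [AddCommGroup V] [Module F V]
    [FiniteDimensional F V] [AddCommGroup V'] [Module F V'] [FiniteDimensional F V']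
    (A : Frm F σ ε t V) (A' : Frm F σ ε t V') (h : Module.finrank F V = 0)
    (h' : Module.finrank F V' = 0) : Isometric A A' := by
  have h1 : Subsingleton V := Module.finrank_zero_iff.mp h
  have h2 : Subsingleton V' := Module.finrank_zero_iff.mp h'
  have z1 : ∀ x : V, x = 0 := fun x => Subsingleton.elim _ _
  refine ⟨LinearEquiv.ofFinrankEq V V' (by rw [h, h']), fun x y => ?_, fun x => ?_⟩
  · rw [z1 x, map_zero, map_zero, map_zero]; rfl
  · rw [z1 x, map_zero, A.Q_zero, A'.Q_zero]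

end Cfsg.Agent.H5.Frm
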