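import Cfsg.Agent.S4014
import Cfsg.Agent.H16_Un4
import Cfsg.Agent.H5_Isom
import Cfsg.Agent.H5_Concrete

/-! Derived lengths of Sylow subgroups of classical groups. -/

set_option autoImplicit false

namespace Cfsg.Agent.H16.DL

open Module

universe u

/-- a representation of a regular wreath product -/
def wrRep {F : Type*} [Field F] {D : Type*} [Group D] {Q : Type*} [Group Q] {V : Type*} [AddCommGroup V] [Module F V]
    (ρ : D →* Module.End F V) : (D ≀ᵣ Q) →* Module.End F (Q → V) where
  toFun w :=
    { toFun := fun f x => ρ (w.left x) (f (w.right⁻¹ * x))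
      map_add' := fun f g => by funext x; exact map_add _ _ _
      map_smul' := fun c f => by funext x; exact map_smul _ _ _ }
  map_one' := by
    apply LinearMap.ext
    intro f
    funext x
    change ρ ((1 : D ≀ᵣ Q).left x) (f ((1 : D ≀ᵣ Q).right⁻¹ * x)) = f x
    rw [RegularWreathProduct.one_left, RegularWreathProduct.one_right, Pi.one_apply, map_one, inv_one, one_mul]
    rfl
  map_mul' a b := by
    apply LinearMap.ext
    intro f
    funext x
    change ρ ((a * b).left x) (f ((a * b).right⁻¹ * x)) = ρ (a.left x) (ρ (b.left (a.right⁻¹ * x)) (f (b.right⁻¹ * (a.right⁻¹ * x))))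
    rw [RegularWreathProduct.mul_left, RegularWreathProduct.mul_right, Pi.mul_apply, map_mul, mul_inv_rev, mul_assoc]
    rfl

theorem wrRep_apply {F : Type*} [Field F] {D : Type*} [Group D] {Q : Type*} [Group Q] {V : Type*} [AddCommGroup V] [Module F V]
    (ρ : D →* Module.End F V) (w : D ≀ᵣ Q) (f : Q → V) (x : Q) : wrRep ρ w f x = ρ (w.left x) (f (w.right⁻¹ * x)) := rfl

theorem wrRep_inj {F : Type*} [Field F] {D : Type*} [Group D] {Q : Type*} [Group Q] {V : Type*} [AddCommGroup V] [Module F V] [Nontrivial V]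
    (ρ : D →* Module.End F V) (hρ : Function.Injective ρ) : Function.Injective (wrRep (Q := Q) ρ) := by
  classical
  rw [injective_iff_map_eq_one]
  intro w hw
  have h : ∀ (f : Q → V) (x : Q), ρ (w.left x) (f (w.right⁻¹ * x)) = f x := by
    intro f x
    rw [← wrRep_apply, hw]; rfl
  obtain ⟨v, hv⟩ := exists_ne (0 : V)
  have h1 : w.right = 1 := by
    by_contra hne
    have h2 := h (Pi.single 1 v) 1
    rw [Pi.single_eq_same, Pi.single_eq_of_ne (by rw [mul_one]; simpa using hne), map_zero] at h2
    exact hv h2.symm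
  have h2 : w.left = 1 := by
    funext x
    apply hρ
    apply LinearMap.ext
    intro v
    have h3 := h (fun _ => v) x
    rw [h3, Pi.one_apply, map_one]; rfl
  cases w
  simp only at h1 h2
  rw [h1, h2]; rfl

theorem derived_wreath (D Q : Type*) [Group D] [CommGroup Q] [Nontrivial Q] {j : ℕ} (h : derivedSeries D j ≠ ⊥) :
    derivedSeries (D ≀ᵣ Q) (j + 1) ≠ ⊥ := by
  intro h1
  apply h
  rw [eq_bot_iff]
  refine (S4014.wreath D Q j).trans ?_
  rw [h1, Subgroup.bot_subgroupOf, Subgroup.map_bot]

theorem isP_wreath {p : ℕ} [hp : Fact p.Prime] {D : Type*} [Group D] [Finite D] (hD : IsPGroup p D) :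
    IsPGroup p (D ≀ᵣ Multiplicative (ZMod p)) := by
  obtain ⟨n, hn⟩ := IsPGroup.iff_card.1 hD
  have hQ : Nat.card (Multiplicative (ZMod p)) = p := by
    rw [Nat.card_congr Multiplicative.toAdd]; exact Nat.card_zmod p
  apply IsPGroup.of_card (n := n * p + 1)
  rw [RegularWreathProduct.card, hQ, hn, pow_succ, pow_mul]

theorem sylow_ne {p : ℕ} [Fact p.Prime] {D : Type*} [Group D] [Finite D] {G : Type*} [Group G] [Finite G] (φ : D →* G)
    (hφ : Function.Injective φ) (hD : IsPGroup p D) {l : ℕ} (hl : derivedSeries D l ≠ ⊥) (R : Sylow p G) :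
    derivedSeries (R : Subgroup G) l ≠ ⊥ := by
  have hrp : IsPGroup p φ.range := IsPGroup.of_surjective hD φ.rangeRestrict φ.rangeRestrict_surjective
  obtain ⟨Q, hQ⟩ := hrp.exists_le_sylow
  let ψ : D →* (R : Subgroup G) := (Sylow.equiv Q R).toMonoidHom.comp (φ.codRestrict (Q : Subgroup G) (fun d => hQ ⟨d, rfl⟩))
  have hψ : Function.Injective ψ := (Sylow.equiv Q R).injective.comp fun a b hab => hφ (congrArg Subtype.val hab)
  intro h
  apply hl
  have h1 := map_derivedSeries_le_derivedSeries ψ l
  rw [h, le_bot_iff, Subgroup.map_eq_bot_iff_of_injective _ hψ] at h1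
  exact h1

/-- linear groups of derived length `> l` -/
def HasG (F : Type u) [Field F] (p m l : ℕ) : Prop :=
  ∃ (D : Type u) (_ : Group D) (_ : Finite D) (V : Type u) (_ : AddCommGroup V) (_ : Module F V) (_ : FiniteDimensional F V)
    (ρ : D →* Module.End F V), finrank F V = m ∧ Function.Injective ρ ∧ IsPGroup p D ∧ derivedSeries D l ≠ ⊥

/-- symplectic groups of derived length `> l` -/
def HasS (F : Type u) [Field F] (m l : ℕ) : Prop :=
  ∃ (D : Type u) (_ : Group D) (_ : Finite D) (V : Type u) (_ : AddCommGroup V) (_ : Module F V) (_ : FiniteDimensional F V)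
    (ρ : D →* Module.End F V) (B : LinearMap.BilinForm F V), B.IsAlt ∧ (∀ x, (∀ y, B x y = 0) → x = 0) ∧
    (∀ d x y, B (ρ d x) (ρ d y) = B x y) ∧ finrank F V = 2 * m ∧ Function.Injective ρ ∧ IsPGroup 2 D ∧ derivedSeries D l ≠ ⊥

variable {F : Type u} [Field F]

theorem HasG.step {p m l : ℕ} [hp : Fact p.Prime] (hm : 0 < m) (h : HasG F p m l) : HasG F p (p * m) (l + 1) := by
  obtain ⟨D, _, _, V, _, _, _, ρ, h1, h2, h3, h4⟩ := h
  have hQ : Nat.card (Multiplicative (ZMod p)) = p := by
    rw [Nat.card_congr Multiplicative.toAdd]; exact Nat.card_zmod p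
  haveI : Fact (1 < p) := ⟨hp.out.one_lt⟩
  haveI : Nontrivial (Multiplicative (ZMod p)) := inferInstance
  haveI : Nontrivial V := Module.nontrivial_of_finrank_pos (R := F) (by omega)
  haveI : Fintype (Multiplicative (ZMod p)) := Fintype.ofFinite _
  refine ⟨D ≀ᵣ Multiplicative (ZMod p), inferInstance, inferInstance, Multiplicative (ZMod p) → V, inferInstance, inferInstance, inferInstance,
    wrRep ρ, ?_, wrRep_inj ρ h2, isP_wreath h3, derived_wreath D _ h4⟩
  rw [Module.finrank_pi_fintype, Finset.sum_const, Finset.card_univ, smul_eq_mul, h1, ← Nat.card_eq_fintype_card, hQ]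

theorem HasS.step {m l : ℕ} (hm : 0 < m) (h : HasS F m l) : HasS F (2 * m) (l + 1) := by
  obtain ⟨D, _, _, V, _, _, _, ρ, B, hB, hn, hρB, h1, h2, h3, h4⟩ := h
  haveI : Fact (Nat.Prime 2) := ⟨Nat.prime_two⟩
  have hQ : Nat.card (Multiplicative (ZMod 2)) = 2 := by
    rw [Nat.card_congr Multiplicative.toAdd]; exact Nat.card_zmod 2
  haveI : Nontrivial (Multiplicative (ZMod 2)) := inferInstance
  haveI : Nontrivial V := Module.nontrivial_of_finrank_pos (R := F) (by omega)
  haveI : Fintype (Multiplicative (ZMod 2)) := Fintype.ofFinite _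
  let B' : LinearMap.BilinForm F (Multiplicative (ZMod 2) → V) := LinearMap.mk₂ F (fun f g => ∑ x, B (f x) (g x))
    (fun f f' g => by simp only [Pi.add_apply, map_add, LinearMap.add_apply, Finset.sum_add_distrib])
    (fun c f g => by simp only [Pi.smul_apply, map_smul, LinearMap.smul_apply, Finset.smul_sum])
    (fun f g g' => by simp only [Pi.add_apply, map_add, Finset.sum_add_distrib])
    (fun c f g => by simp only [Pi.smul_apply, map_smul, Finset.smul_sum])
  have hB' : ∀ f g, B' f g = ∑ x, B (f x) (g x) := fun f g => rfl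
  refine ⟨D ≀ᵣ Multiplicative (ZMod 2), inferInstance, inferInstance, Multiplicative (ZMod 2) → V, inferInstance, inferInstance, inferInstance,
    wrRep ρ, B', ?_, ?_, ?_, ?_, wrRep_inj ρ h2, isP_wreath h3, derived_wreath D _ h4⟩
  · intro f
    rw [hB']
    exact Finset.sum_eq_zero fun x _ => hB (f x)
  · intro f hf
    classical
    funext x
    apply hn
    intro v
    have := hf (Pi.single x v)
    rw [hB', Finset.sum_eq_single x] at this
    · rwa [Pi.single_eq_same] at this
    · intro y _ hy
      rw [Pi.single_eq_of_ne hy, map_zero]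
    · intro h; exact absurd (Finset.mem_univ _) h
  · intro w f g
    rw [hB', hB']
    simp only [wrRep_apply, hρB]
    exact Fintype.sum_equiv (Equiv.mulLeft w.right⁻¹) _ _ fun x => rfl
  · rw [Module.finrank_pi_fintype, Finset.sum_const, Finset.card_univ, smul_eq_mul, h1, ← Nat.card_eq_fintype_card, hQ]

end Cfsg.Agent.H16.DL
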