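import Cfsg.Agent.H16_DL1

/-! Derived lengths of Sylow subgroups of classical groups: bounds. -/

set_option autoImplicit false
set_option linter.style.haveILetI false

namespace Cfsg.Agent.H16.DL

open Module Cfsg.Agent.H5

universe u

variable {F : Type u} [Field F]

/-- extension by the identity -/
def extRep {D : Type*} [Group D] {V : Type*} [AddCommGroup V] [Module F V] (V' : Type*) [AddCommGroup V'] [Module F V']
    (ρ : D →* Module.End F V) : D →* Module.End F (V × V') where
  toFun d := (ρ d).prodMap LinearMap.id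
  map_one' := by rw [map_one]; rfl
  map_mul' a b := by rw [map_mul]; rfl

theorem extRep_apply {D : Type*} [Group D] {V : Type*} [AddCommGroup V] [Module F V] (V' : Type*) [AddCommGroup V'] [Module F V']
    (ρ : D →* Module.End F V) (d : D) (x : V × V') : extRep V' ρ d x = (ρ d x.1, x.2) := rfl

theorem extRep_inj {D : Type*} [Group D] {V : Type*} [AddCommGroup V] [Module F V] (V' : Type*) [AddCommGroup V'] [Module F V']
    (ρ : D →* Module.End F V) (hρ : Function.Injective ρ) : Function.Injective (extRep V' ρ) := by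
  intro a b hab
  apply hρ
  apply LinearMap.ext
  intro v
  have h := LinearMap.congr_fun hab (v, 0)
  rw [extRep_apply, extRep_apply] at h
  exact congrArg Prod.fst h

theorem HasG.mono {p m n l : ℕ} (hmn : m ≤ n) (h : HasG F p m l) : HasG F p n l := by
  obtain ⟨D, _, _, V, _, _, _, ρ, h1, h2, h3, h4⟩ := h
  refine ⟨D, inferInstance, inferInstance, V × (Fin (n - m) → F), inferInstance, inferInstance, inferInstance,
    extRep _ ρ, ?_, extRep_inj _ ρ h2, h3, h4⟩
  rw [Module.finrank_prod, Module.finrank_pi, Fintype.card_fin]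
  omega

theorem HasS.mono {m n l : ℕ} (hmn : m ≤ n) (h : HasS F m l) : HasS F n l := by
  obtain ⟨D, _, _, V, _, _, _, ρ, B, hB, hn, hρB, h1, h2, h3, h4⟩ := h
  set C := Conc.sympB (n - m) F with hC
  have hCd : ∀ x, (∀ y, C x y = 0) → x = 0 := Conc.sympFrm_nondeg (n - m) F
  have hCa : C.IsAlt := Conc.sympB_alt (n - m) F
  let B' : LinearMap.BilinForm F (V × (Fin (n - m) ⊕ Fin (n - m) → F)) := LinearMap.mk₂ F (fun f g => B f.1 g.1 + C f.2 g.2)
    (fun f f' g => by simp only [Prod.fst_add, Prod.snd_add, map_add, LinearMap.add_apply]; abel)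
    (fun c f g => by simp only [Prod.smul_fst, Prod.smul_snd, map_smul, LinearMap.smul_apply, smul_add])
    (fun f g g' => by simp only [Prod.fst_add, Prod.snd_add, map_add]; abel)
    (fun c f g => by simp only [Prod.smul_fst, Prod.smul_snd, map_smul, smul_add])
  have hB' : ∀ f g, B' f g = B f.1 g.1 + C f.2 g.2 := fun f g => rfl
  refine ⟨D, inferInstance, inferInstance, V × (Fin (n - m) ⊕ Fin (n - m) → F), inferInstance, inferInstance, inferInstance,
    extRep _ ρ, B', ?_, ?_, ?_, ?_, extRep_inj _ ρ h2, h3, h4⟩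
  · intro f
    rw [hB', hB f.1, hCa f.2, add_zero]
  · intro f hf
    apply Prod.ext
    · apply hn
      intro y
      have := hf (y, 0)
      rwa [hB', map_zero, add_zero] at this
    · apply hCd
      intro y
      have := hf (0, y)
      rwa [hB', map_zero, zero_add] at this
  · intro d x y
    rw [hB', hB', extRep_apply, extRep_apply, hρB]
  · rw [Module.finrank_prod, Module.finrank_pi, Fintype.card_sum, Fintype.card_fin]
    omega

theorem HasG.sylow [Fintype F] {p n l : ℕ} [Fact p.Prime] (h : HasG F p n l) (R : Sylow p (Matrix.GeneralLinearGroup (Fin n) F)) :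
    derivedSeries (R : Subgroup (Matrix.GeneralLinearGroup (Fin n) F)) l ≠ ⊥ := by
  obtain ⟨D, _, _, V, _, _, _, ρ, h1, h2, h3, h4⟩ := h
  let e : V ≃ₗ[F] (Fin n → F) := LinearEquiv.ofFinrankEq _ _ (by rw [h1, Module.finrank_pi, Fintype.card_fin])
  let c : Module.End F V ≃* Matrix (Fin n) (Fin n) F := (e.conjRingEquiv.trans LinearMap.toMatrixAlgEquiv'.toRingEquiv).toMulEquiv
  let φ : D →* Matrix.GeneralLinearGroup (Fin n) F := (c.toMonoidHom.comp ρ).toHomUnits
  have hφ : Function.Injective φ := by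
    intro a b hab
    apply h2
    apply c.injective
    exact congrArg Units.val hab
  exact sylow_ne φ hφ h3 h4 R

theorem HasS.sylow [Fintype F] {n l : ℕ} (h : HasS F n l) (R : Sylow 2 (Matrix.symplecticGroup (Fin n) F)) :
    derivedSeries (R : Subgroup (Matrix.symplecticGroup (Fin n) F)) l ≠ ⊥ := by
  classical
  obtain ⟨D, _, _, V, _, _, _, ρ, B, hB, hn, hρB, h1, h2, h3, h4⟩ := h
  haveI : Fact (Nat.Prime 2) := ⟨Nat.prime_two⟩
  set A := Frm.ofAlt B hB with hA
  have hAn : A.Nondeg := hn
  -- isometric to the standard form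
  have hw : ∀ {m : ℕ} {V : Type u} [AddCommGroup V] [Module F V] [FiniteDimensional F V]
      (A : Frm F (RingHom.id F) (-1) (0 : F →+ F) V) (_ : A.Nondeg) (_ : finrank F V = 2 * m), Frm.WittDec m 0 A := by
    intro m V _ _ _ A hA hm
    obtain ⟨m', a, ha, hW⟩ := Frm.exists_wittDec.{u} (σ := RingHom.id F) (ε := -1) (t := (0 : F →+ F)) 0 (by
      intro V _ _ _ A hA hV
      obtain ⟨v, hv⟩ := Module.finrank_pos_iff_exists_ne_zero.1 hV
      exact ⟨v, hv, Un.Qz A v⟩) _ A hA rfl
    obtain rfl : a = 0 := by omega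
    have h1 := Frm.WittDec.finrank_eq _ _ A hW
    obtain rfl : m' = m := by omega
    exact hW
  obtain ⟨e, he1, he2⟩ := Frm.WittDec.isometric 0 (fun A A' _ _ _ _ h h' => Frm.Isometric.of_finrank_zero A A' h h') n A
    (Conc.sympFrm n F) hAn (Conc.sympFrm_nondeg n F) (hw A hAn h1) (Conc.sympFrm_wittDec n F)
  let ψ : A.isom ≃* Matrix.symplecticGroup (Fin n) F := (Frm.isomEquiv A (Conc.sympFrm n F) e he1 he2).trans (Conc.spEquiv n F).symm
  let ρe : D →* (V ≃ₗ[F] V) := (LinearMap.GeneralLinearGroup.generalLinearEquiv F V).toMonoidHom.comp ρ.toHomUnits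
  have hρe : ∀ d x, ρe d x = ρ d x := fun d x => rfl
  let φ : D →* A.isom := ρe.codRestrict A.isom (fun d => ⟨fun x y => hρB d x y, fun x => rfl⟩)
  refine sylow_ne (ψ.toMonoidHom.comp φ) (ψ.injective.comp ?_) h3 h4 R
  intro a b hab
  apply h2
  apply LinearMap.ext
  intro x
  have := congrArg (fun z : A.isom => (z : V ≃ₗ[F] V) x) hab
  exact this

theorem HasS.pow {l : ℕ} (h : HasS F 1 l) (k : ℕ) : HasS F (2 ^ k) (l + k) := by
  induction k with
  | zero => exact h
  | succ k ih =>
    rw [pow_succ', ← add_assoc]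
    exact ih.step (by positivity)

theorem HasG.pow {p m l : ℕ} [hp : Fact p.Prime] (hm : 0 < m) (h : HasG F p m l) (k : ℕ) : HasG F p (p ^ k * m) (l + k) := by
  induction k with
  | zero => rw [pow_zero, one_mul]; exact h
  | succ k ih =>
    rw [pow_succ', ← add_assoc, mul_assoc]
    exact ih.step (Nat.mul_pos (pow_pos hp.out.pos k) hm)

/-- upper bound -/
theorem upper {ι : Type*} [Fintype ι] [DecidableEq ι] {G : Type u} [Group G] [Finite G] (j : G →* Matrix ι ι F) (hj : Function.Injective j)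
    (h2 : (2 : F) ≠ 0) {k : ℕ} (hk : Fintype.card ι < 2 ^ k) (R : Sylow 2 G) : derivedSeries (R : Subgroup G) k = ⊥ := by
  classical
  let K := AlgebraicClosure F
  have h2K : ((2 : ℕ) : K) ≠ 0 := by
    have : ((2 : ℕ) : K) = algebraMap F K 2 := by rw [map_ofNat, Nat.cast_ofNat]
    rw [this, Ne, FaithfulSMul.algebraMap_eq_zero_iff]
    exact h2
  haveI : Fact (Nat.Prime 2) := ⟨Nat.prime_two⟩
  let ρ : (R : Subgroup G) →* Module.End K (ι → K) := ((Matrix.toLinAlgEquiv' (R := K) (n := ι)).toRingEquiv.toMulEquiv.toMonoidHom.comp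
    ((algebraMap F K).mapMatrix.toMonoidHom.comp (j.comp (R : Subgroup G).subtype)))
  have hρ : Function.Injective ρ := by
    intro a b hab
    apply Subtype.ext
    apply hj
    have h1 := (Matrix.toLinAlgEquiv' (R := K) (n := ι)).injective hab
    exact Matrix.map_injective (algebraMap F K).injective h1
  rw [eq_bot_iff]
  intro g hg
  rw [Subgroup.mem_bot]
  apply hρ
  rw [map_one]
  exact H23.DLen.alg (p := 2) h2K (Fintype.card ι) k (R : Subgroup G) (ι → K) ρ R.2 (Module.finrank_pi K) hk g hg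

/-- the quaternion group -/
theorem hasS_one [Fintype F] (hq : Odd (Fintype.card F)) : HasS F 1 1 := by
  classical
  haveI : Fact (Nat.Prime 2) := ⟨Nat.prime_two⟩
  have h2 : (2 : F) ≠ 0 := by
    intro h
    have hc : ringChar F = 2 := by
      have h1 : ringChar F ∣ 2 := (ringChar.spec F 2).1 (by exact_mod_cast h)
      rcases (Nat.dvd_prime Nat.prime_two).1 h1 with h3 | h3
      · exact absurd h3 (CharP.ringChar_ne_one)
      · exact h3
    have := FiniteField.even_card_iff_char_two.1 hc
    rw [Nat.odd_iff] at hq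
    omega
  obtain ⟨a, b, hab⟩ : ∃ a b : F, a * a + b * b = -1 := by
    obtain ⟨a, b, hab⟩ := FiniteField.exists_root_sum_quadratic (R := F) (f := Polynomial.X ^ 2) (g := Polynomial.X ^ 2 - Polynomial.C (-1))
      (Polynomial.degree_X_pow 2) (Polynomial.degree_X_pow_sub_C (by decide) _) (Nat.odd_iff.mp hq)
    refine ⟨a, b, ?_⟩
    simp only [Polynomial.eval_pow, Polynomial.eval_X, Polynomial.eval_sub, Polynomial.eval_C] at hab
    linear_combination hab
  let I : Matrix.SpecialLinearGroup (Fin 2) F := ⟨!![0, 1; -1, 0], by rw [Matrix.det_fin_two_of]; ring⟩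
  let J : Matrix.SpecialLinearGroup (Fin 2) F := ⟨!![a, b; b, -a], by rw [Matrix.det_fin_two_of]; linear_combination -hab⟩
  have hI2 : (I * I).1 = -1 := by
    change (!![0, 1; -1, 0] : Matrix (Fin 2) (Fin 2) F) * !![0, 1; -1, 0] = -1
    ext i j; fin_cases i <;> fin_cases j <;> simp [Matrix.mul_apply, Fin.sum_univ_two]
  have hJ2 : (J * J).1 = -1 := by
    change (!![a, b; b, -a] : Matrix (Fin 2) (Fin 2) F) * !![a, b; b, -a] = -1
    rw [Matrix.mul_fin_two]
    ext i j
    fin_cases i <;> fin_cases j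
    · change a * a + b * b = (-1 : Matrix (Fin 2) (Fin 2) F) 0 0
      rw [hab]; simp
    · change a * b + b * -a = (-1 : Matrix (Fin 2) (Fin 2) F) 0 1
      simp; ring
    · change b * a + -a * b = (-1 : Matrix (Fin 2) (Fin 2) F) 1 0
      simp; ring
    · change b * b + -a * -a = (-1 : Matrix (Fin 2) (Fin 2) F) 1 1
      rw [show b * b + -a * -a = a * a + b * b by ring, hab]; simp
  have hJI : (J * I).1 = -(I * J).1 := by
    change (!![a, b; b, -a] : Matrix (Fin 2) (Fin 2) F) * !![0, 1; -1, 0] = -((!![0, 1; -1, 0] : Matrix (Fin 2) (Fin 2) F) * !![a, b; b, -a])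
    ext i j; fin_cases i <;> fin_cases j <;> simp [Matrix.mul_apply, Fin.sum_univ_two]
  clear_value I J
  have h4 : ∀ x : Matrix.SpecialLinearGroup (Fin 2) F, (x * x).1 = -1 → x ^ 4 = 1 := by
    intro x hx
    have h5 : x ^ 4 = (x * x) * (x * x) := by simp only [pow_succ, pow_zero, one_mul, mul_assoc]
    rw [h5]
    apply Subtype.ext
    change (x * x).1 * (x * x).1 = 1
    rw [hx]; simp
  have hI4 := h4 I hI2
  have hJ4 := h4 J hJ2
  have hconj : J * I * J⁻¹ = I⁻¹ := by
    have h3 : J * I = I⁻¹ * J := by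
      have h4 : I⁻¹ = I * (I * I) := by
        rw [inv_eq_iff_mul_eq_one]
        have h5 : I * (I * (I * I)) = I ^ 4 := by simp only [pow_succ, pow_zero, one_mul, mul_assoc]
        exact h5.trans hI4
      rw [h4]
      apply Subtype.ext
      rw [hJI]
      change -(I * J).1 = I.1 * (I * I).1 * J.1
      rw [hI2]
      change -(I.1 * J.1) = _
      simp
    rw [h3, mul_inv_cancel_right]
  have hconj' : J⁻¹ * I * J = I⁻¹ := by
    have h5 : J * I⁻¹ * J⁻¹ = I := by
      have h6 := congrArg (fun z => z⁻¹) hconj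
      simp only [mul_inv_rev, inv_inv] at h6
      rw [mul_assoc]; exact h6
    conv_lhs => rw [← h5]
    group
  have pz : ∀ x : Matrix.SpecialLinearGroup (Fin 2) F, x ^ 4 = 1 → IsPGroup 2 (Subgroup.zpowers x) := by
    intro x hx
    rw [IsPGroup.iff_card, Nat.card_zpowers]
    have h3 : orderOf x ∣ 2 ^ 2 := orderOf_dvd_of_pow_eq_one hx
    obtain ⟨i, -, hi⟩ := (Nat.dvd_prime_pow Nat.prime_two).1 h3
    exact ⟨i, hi⟩
  have hnorm : Subgroup.zpowers J ≤ Subgroup.normalizer (Subgroup.zpowers I : Set (Matrix.SpecialLinearGroup (Fin 2) F)) := by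
    rw [Subgroup.zpowers_le, Subgroup.mem_normalizer_iff]
    intro h
    constructor
    · rintro ⟨n, rfl⟩
      refine ⟨-n, ?_⟩
      change I ^ (-n) = J * I ^ n * J⁻¹
      rw [← conj_zpow, hconj, inv_zpow, zpow_neg]
    · rintro ⟨n, hn⟩
      refine ⟨-n, ?_⟩
      change I ^ n = J * h * J⁻¹ at hn
      change I ^ (-n) = h
      have h5 : h = J⁻¹ * I ^ n * J⁻¹⁻¹ := by rw [hn]; group
      rw [h5, ← conj_zpow, inv_inv, hconj', inv_zpow, zpow_neg]
  set D := Subgroup.zpowers J ⊔ Subgroup.zpowers I with hD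
  have hDp : IsPGroup 2 D := (pz J hJ4).to_sup_of_normal_right' (pz I hI4) hnorm
  have hID : I ∈ D := (le_sup_right : Subgroup.zpowers I ≤ D) (Subgroup.mem_zpowers I)
  have hJD : J ∈ D := (le_sup_left : Subgroup.zpowers J ≤ D) (Subgroup.mem_zpowers J)
  let ρ : D →* Module.End F (Fin 2 → F) := (Matrix.toLinAlgEquiv' (R := F) (n := Fin 2)).toRingEquiv.toMulEquiv.toMonoidHom.comp
    ((Units.coeHom _).comp (Matrix.SpecialLinearGroup.toGL.comp D.subtype))
  have hρ : ∀ (d : D) (x : Fin 2 → F), ρ d x = Matrix.mulVec (d : Matrix.SpecialLinearGroup (Fin 2) F).1 x := fun d x => rfl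
  let B : LinearMap.BilinForm F (Fin 2 → F) := LinearMap.mk₂ F (fun x y => x 0 * y 1 - x 1 * y 0)
    (fun f f' g => by simp only [Pi.add_apply]; ring)
    (fun c f g => by simp only [Pi.smul_apply, smul_eq_mul]; ring)
    (fun f g g' => by simp only [Pi.add_apply]; ring)
    (fun c f g => by simp only [Pi.smul_apply, smul_eq_mul]; ring)
  have hB : ∀ x y, B x y = x 0 * y 1 - x 1 * y 0 := fun _ _ => rfl
  refine ⟨D, inferInstance, inferInstance, Fin 2 → F, inferInstance, inferInstance, inferInstance, ρ, B, ?_, ?_, ?_, ?_, ?_, hDp, ?_⟩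
  · intro x
    rw [hB]; ring
  · intro x hx
    have e1 := hx (Pi.single 1 1)
    have e2 := hx (Pi.single 0 1)
    rw [hB] at e1 e2
    simp at e1 e2
    funext i
    fin_cases i
    · exact e1
    · exact e2
  · intro d x y
    rw [hB, hB, hρ, hρ]
    have hdet := (d : Matrix.SpecialLinearGroup (Fin 2) F).2
    rw [Matrix.det_fin_two] at hdet
    simp only [Matrix.mulVec, dotProduct, Fin.sum_univ_two]
    linear_combination (x 0 * y 1 - x 1 * y 0) * hdet
  · rw [Module.finrank_pi, Fintype.card_fin]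
  · intro x y hxy
    apply Subtype.ext
    apply Subtype.ext
    exact (Matrix.toLinAlgEquiv' (R := F) (n := Fin 2)).injective hxy
  · intro h
    rw [derivedSeries_one, _root_.commutator_def, Subgroup.commutator_eq_bot_iff_le_centralizer] at h
    have h5 := h (Subgroup.mem_top (⟨I, hID⟩ : D))
    rw [Subgroup.mem_centralizer_iff] at h5
    have h6 := h5 ⟨J, hJD⟩ (Subgroup.mem_top _)
    have h7 : (J * I).1 = (I * J).1 := congrArg (fun z : D => (z : Matrix.SpecialLinearGroup (Fin 2) F).1) h6
    rw [hJI] at h7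
    have h8 : (2 : F) • (I * J).1 = 0 := by
      rw [two_smul]
      nth_rw 1 [← h7]
      simp
    have h9 : (I * J).1 = 0 := (smul_eq_zero.1 h8).resolve_left h2
    have h10 := (I * J).2
    rw [h9, Matrix.det_zero] at h10
    exact zero_ne_one h10

end Cfsg.Agent.H16.DL
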