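import Cfsg.Agent.H16_DL2
import Cfsg.Agent.H1_Frattini

/-! Derived lengths of `p`-subgroups of general linear groups over finite fields: upper bound. -/

set_option autoImplicit false
set_option linter.style.haveILetI false

namespace Cfsg.Agent.H16.DL

open Module

universe u

section cact

variable {P : Type*} [Group P] (A : Subgroup P) [A.Normal] (K : Type*)

/-- conjugation action on functions -/
@[reducible] def cAct : MulAction P (A → K) where
  smul g χ := fun a => χ (MulAut.conjNormal g⁻¹ a)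
  one_smul χ := by
    funext a
    change χ (MulAut.conjNormal (1 : P)⁻¹ a) = χ a
    rw [inv_one, map_one]; rfl
  mul_smul g h χ := by
    funext a
    change χ (MulAut.conjNormal (g * h)⁻¹ a) = χ (MulAut.conjNormal h⁻¹ (MulAut.conjNormal g⁻¹ a))
    rw [mul_inv_rev, map_mul]; rfl

end cact

theorem exists_A {P : Type*} [Group P] [Finite P] {p : ℕ} [Fact p.Prime] (hP : IsPGroup p P) :
    ∃ A : Subgroup P, A.Normal ∧ IsMulCommutative A ∧ Subgroup.centralizer (A : Set P) = A := by
  haveI : Group.IsNilpotent P := hP.isNilpotent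
  have hfin : {M : Subgroup P | M.Normal ∧ IsMulCommutative M}.Finite := Set.toFinite _
  obtain ⟨A, ⟨hAn, hAc⟩, hmax⟩ := hfin.exists_maximal ⟨⊥, inferInstance, inferInstance⟩
  refine ⟨A, hAn, hAc, ?_⟩
  apply Cfsg.Agent.H1.Frattini.max_abelian_normal_self_centralizing A
  intro M hM hMc hAM
  exact le_antisymm (hmax ⟨hM, hMc⟩ hAM) hAM

theorem nil_eq_zero {K R : Type*} [Field K] [Ring R] [Algebra K R] {N : R} (hN : IsNilpotent N) {m : ℕ} (hm : (m : K) ≠ 0)
    (h : (1 + N) ^ m = 1) : N = 0 := by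
  classical
  by_contra hN0
  have hex : ∃ l, N ^ l = 0 := hN
  obtain ⟨n, hn⟩ : ∃ n, n = Nat.find hex := ⟨_, rfl⟩
  have h1 : N ^ n = 0 := by rw [hn]; exact Nat.find_spec hex
  have h2 : n ≠ 0 := by
    rintro h
    rw [h, pow_zero] at h1
    exact hN0 (by rw [← mul_one N, h1, mul_zero])
  have h3 : n ≠ 1 := by
    rintro h
    rw [h, pow_one] at h1
    exact hN0 h1
  obtain ⟨l, rfl⟩ : ∃ l, n = l + 2 := ⟨n - 2, by omega⟩
  have h4 : N ^ (l + 1) ≠ 0 := Nat.find_min hex (by omega)
  have key : ∀ m : ℕ, N ^ l * (1 + N) ^ m = N ^ l + (m : K) • N ^ (l + 1) := by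
    intro m
    induction m with
    | zero => simp
    | succ m ih =>
      rw [pow_succ, ← mul_assoc, ih, mul_add, mul_one, add_mul, ← pow_succ, smul_mul_assoc, ← pow_succ, h1, smul_zero, add_zero]
      push_cast
      rw [add_smul, one_smul]
      abel
  have h5 := key m
  rw [h, mul_one] at h5
  have h6 : (m : K) • N ^ (l + 1) = 0 := by
    have := h5.symm
    rwa [add_eq_left] at this
  rcases smul_eq_zero.1 h6 with h7 | h7
  · exact hm h7
  · exact h4 h7

theorem semi_gen {K V : Type*} [Field K] [AddCommGroup V] [Module K V] {S : V → V} (hS0 : S 0 = 0) {T T' : Module.End K V} {c c' : K}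
    (h : ∀ v, S ((T' - c' • (1 : Module.End K V)) v) = (T - c • (1 : Module.End K V)) (S v)) {v : V} (hv : v ∈ T'.maxGenEigenspace c') :
    S v ∈ T.maxGenEigenspace c := by
  rw [Module.End.mem_maxGenEigenspace] at hv ⊢
  obtain ⟨k, hk⟩ := hv
  refine ⟨k, ?_⟩
  rw [Module.End.pow_apply] at hk ⊢
  have h1 : Function.Semiconj S (⇑(T' - c' • (1 : Module.End K V)) : V → V) (⇑(T - c • (1 : Module.End K V)) : V → V) := h
  rw [← (h1.iterate_right k) v, hk, hS0]

theorem neg_gen {K V : Type*} [Field K] [AddCommGroup V] [Module K V] {T : Module.End K V} {c : K} {v : V}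
    (hv : v ∈ T.maxGenEigenspace c) : v ∈ (-T).maxGenEigenspace (-c) := by
  rw [Module.End.mem_maxGenEigenspace] at hv ⊢
  obtain ⟨m, hm⟩ := hv
  refine ⟨m, ?_⟩
  have h5 : -T - (-c) • (1 : Module.End K V) = -(T - c • 1) := by rw [neg_smul]; abel
  rw [h5, neg_pow, Module.End.mul_apply, hm, map_zero]

theorem ring_id {R : Type*} [Ring R] {a b c : R} (h : a * b = 1) : 1 + a * (c + -b) = a * c := by
  rw [mul_add, mul_neg, h]; abel

theorem upperG {F : Type*} [Field F] [Fintype F] {p : ℕ} [hp : Fact p.Prime] {n : ℕ} {P : Type u} [Group P] [Finite P]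
    (hP : IsPGroup p P) (j : P →* Matrix (Fin n) (Fin n) F) (hj : Function.Injective j) (hpq : ¬ p ∣ Fintype.card F) {k : ℕ}
    (hk : ∀ i, orderOf (Fintype.card F : ZMod p) * p ^ i ≤ n → i ≤ k) : derivedSeries P (k + 1) = ⊥ := by
  classical
  set q := Fintype.card F with hq
  set e := orderOf (q : ZMod p) with he
  obtain ⟨A, hAn, hAc, hAA⟩ := exists_A hP
  haveI := hAn
  let K := AlgebraicClosure F
  -- characteristic
  obtain ⟨ℓ, hℓ⟩ := CharP.exists F
  have hpK : (p : K) ≠ 0 := by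
    have hpF : (p : F) ≠ 0 := by
      intro h
      apply hpq
      have h1 : ℓ ∣ p := (CharP.cast_eq_zero_iff F ℓ p).1 h
      haveI : Fact ℓ.Prime := ⟨CharP.char_is_prime F ℓ⟩
      have h2 : ℓ = p := (Nat.prime_dvd_prime_iff_eq (CharP.char_is_prime F ℓ) hp.out).1 h1
      obtain ⟨f, hf1, hf2⟩ := FiniteField.card F ℓ
      rw [hq, hf2, h2]
      exact dvd_pow_self p f.pos.ne'
    have : (p : K) = algebraMap F K p := by rw [map_natCast]
    rw [this, Ne, FaithfulSMul.algebraMap_eq_zero_iff]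
    exact hpF
  have horder : ∀ g : P, ∃ s : ℕ, g ^ p ^ s = 1 := fun g => hP g
  let ρ : P →* Module.End K (Fin n → K) := (Matrix.toLinAlgEquiv' (R := K) (n := Fin n)).toRingEquiv.toMulEquiv.toMonoidHom.comp
    ((algebraMap F K).mapMatrix.toMonoidHom.comp j)
  have hρ : Function.Injective ρ := by
    intro a b hab
    apply hj
    have h1 := (Matrix.toLinAlgEquiv' (R := K) (n := Fin n)).injective hab
    exact Matrix.map_injective (algebraMap F K).injective h1
  have hρi : ∀ (g : P) (v : Fin n → K) (i : Fin n), ρ g v i = ∑ l, algebraMap F K (j g i l) * v l := fun g v i => rfl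
  -- the joint eigenspaces
  let f : A → Module.End K (Fin n → K) := fun a => ρ a
  let M : (A → K) → Submodule K (Fin n → K) := fun χ => ⨅ a, (f a).maxGenEigenspace (χ a)
  have hcomm : ∀ a b : A, Commute (f a) (f b) := by
    intro a b
    have h1 : (a : P) * b = b * a := congrArg Subtype.val (hAc.is_comm.comm a b)
    change ρ a * ρ b = ρ b * ρ a
    rw [← map_mul, h1, map_mul]
  have hM1 : ⨆ χ, M χ = ⊤ := Module.End.iSup_iInf_maxGenEigenspace_eq_top_of_iSup_maxGenEigenspace_eq_top_of_commute f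
    (fun a b _ => hcomm a b) (fun a => Module.End.iSup_maxGenEigenspace_eq_top _)
  have hM2 : iSupIndep M := Module.End.independent_iInf_maxGenEigenspace_of_forall_mapsTo f
    (fun a b c => Module.End.mapsTo_maxGenEigenspace_of_comm (hcomm b a) c)
  haveI hfinΛ : Finite {χ // M χ ≠ ⊥} := WellFoundedGT.finite_ne_bot_of_iSupIndep hM2
  haveI : Fintype {χ // M χ ≠ ⊥} := Fintype.ofFinite _
  have hcard : Nat.card {χ // M χ ≠ ⊥} ≤ n := by
    rw [Nat.card_eq_fintype_card]
    refine hM2.subtype_ne_bot_le_finrank.trans ?_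
    rw [Module.finrank_pi, Fintype.card_fin]
  letI act := cAct A K
  have hsm : ∀ (g : P) (χ : A → K) (a : A), (g • χ) a = χ (MulAut.conjNormal g⁻¹ a) := fun g χ a => rfl
  -- P-stability
  have hMg : ∀ (g : P) (χ : A → K), M χ ≠ ⊥ → M (g • χ) ≠ ⊥ := by
    intro g χ h
    obtain ⟨v, hv, hv0⟩ := (Submodule.ne_bot_iff _).1 h
    refine (Submodule.ne_bot_iff _).2 ⟨ρ g v, ?_, ?_⟩
    · rw [Submodule.mem_iInf] at hv ⊢
      intro a
      have h1 := hv (MulAut.conjNormal g⁻¹ a)
      refine semi_gen (S := fun v => ρ g v) (map_zero _) ?_ h1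
      intro w
      have h2 : ρ g * ρ ((MulAut.conjNormal g⁻¹ a : A) : P) = ρ a * ρ g := by
        rw [← map_mul, ← map_mul, MulAut.conjNormal_apply]
        congr 1
        group
      change ρ g (ρ ((MulAut.conjNormal g⁻¹ a : A) : P) w - (χ (MulAut.conjNormal g⁻¹ a)) • w) = ρ a (ρ g w) - (g • χ) a • ρ g w
      rw [map_sub, map_smul, ← Module.End.mul_apply, h2, Module.End.mul_apply, hsm]
    · intro h0
      apply hv0
      have : ρ g⁻¹ (ρ g v) = v := by rw [← Module.End.mul_apply, ← map_mul, inv_mul_cancel, map_one]; rfl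
      rw [← this, h0, map_zero]
  -- Frobenius
  let σ : K →ₐ[F] K := FiniteField.frobeniusAlgHom F K
  have hσ : ∀ x, σ x = x ^ q := fun x => rfl
  have hMσ : ∀ χ : A → K, M χ ≠ ⊥ → M (fun a => σ (χ a)) ≠ ⊥ := by
    intro χ h
    obtain ⟨v, hv, hv0⟩ := (Submodule.ne_bot_iff _).1 h
    refine (Submodule.ne_bot_iff _).2 ⟨fun i => σ (v i), ?_, ?_⟩
    · rw [Submodule.mem_iInf] at hv ⊢
      intro a
      refine semi_gen (S := fun (v : Fin n → K) i => σ (v i)) (by funext i; exact map_zero σ) ?_ (hv a)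
      intro w
      funext i
      change σ (ρ a w i - χ a * w i) = ρ a (fun i => σ (w i)) i - σ (χ a) * σ (w i)
      rw [map_sub, map_mul, hρi, hρi, map_sum]
      congr 1
      refine Finset.sum_congr rfl fun l _ => ?_
      rw [map_mul, AlgHom.commutes]
    · intro h0
      apply hv0
      funext i
      exact (map_eq_zero σ).1 (congrFun h0 i)
  -- values are roots of unity
  have hval : ∀ χ : A → K, M χ ≠ ⊥ → ∀ a, ∃ s : ℕ, χ a ^ p ^ s = 1 := by
    intro χ h a
    obtain ⟨s, hs⟩ := horder a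
    refine ⟨s, ?_⟩
    have h1 : (f a).HasEigenvalue (χ a) := by
      have h2 : (f a).maxGenEigenspace (χ a) ≠ ⊥ := by
        intro h3
        apply h
        rw [eq_bot_iff, ← h3]
        exact iInf_le _ a
      exact Module.End.HasUnifEigenvalue.lt one_pos h2
    obtain ⟨w, hw⟩ := h1.exists_hasEigenvector
    have h2 : ∀ m : ℕ, (f a ^ m) w = χ a ^ m • w := by
      intro m
      induction m with
      | zero => rw [pow_zero, pow_zero, one_smul]; rfl
      | succ m ih => rw [pow_succ, Module.End.mul_apply, hw.apply_eq_smul, map_smul, ih, smul_smul, pow_succ, mul_comm]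
    have h3 := h2 (p ^ s)
    have h4 : f a ^ p ^ s = 1 := by
      change ρ a ^ p ^ s = 1
      rw [← map_pow, hs, map_one]
    rw [h4] at h3
    have h5 : (χ a ^ p ^ s - 1) • w = 0 := by
      rw [sub_smul, ← h3, one_smul]; exact sub_self _
    exact sub_eq_zero.1 ((smul_eq_zero.1 h5).resolve_right hw.2)
  obtain ⟨s, hs⟩ : ∃ s : (A → K) → (A → K), ∀ χ a, s χ a = σ (χ a) := ⟨fun χ a => σ (χ a), fun _ _ => rfl⟩
  have hMs : ∀ χ, M χ ≠ ⊥ → M (s χ) ≠ ⊥ := by
    intro χ h
    have h1 : s χ = fun a => σ (χ a) := funext (hs χ)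
    rw [h1]
    exact hMσ χ h
  have hs_it : ∀ (i : ℕ) (χ : A → K) (a : A), (s^[i] χ) a = χ a ^ q ^ i := by
    intro i χ a
    induction i with
    | zero => rw [pow_zero, pow_one]; rfl
    | succ i ih => rw [Function.iterate_succ_apply', hs, ih, hσ, ← pow_mul, ← pow_succ]
  have hs_comm : ∀ (i : ℕ) (g : P) (χ : A → K), s^[i] (g • χ) = g • s^[i] χ := by
    intro i g χ
    funext a
    rw [hs_it, hsm, hsm, hs_it]
  have hs_inj : Function.Injective s := by
    intro χ χ' h
    funext a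
    have h1 := congrFun h a
    rw [hs, hs] at h1
    exact σ.injective h1
  have hMit : ∀ (i : ℕ) (χ : A → K), M χ ≠ ⊥ → M (s^[i] χ) ≠ ⊥ := by
    intro i χ h
    induction i with
    | zero => exact h
    | succ i ih => rw [Function.iterate_succ_apply']; exact hMs _ ih
  have hq1 : 0 < q := Fintype.card_pos
  -- the period of the Frobenius
  have hper : ∀ χ : A → K, M χ ≠ ⊥ → (∃ a, χ a ≠ 1) → ∀ d, s^[d] χ = χ → e ∣ d := by
    rintro χ h ⟨a, ha⟩ d hd
    obtain ⟨t, ht⟩ := hval χ h a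
    have h1 : χ a ^ q ^ d = χ a := by rw [← hs_it, hd]
    have h0 : χ a ≠ 0 := by
      intro h0
      rw [h0, zero_pow (pow_ne_zero _ hp.out.ne_zero)] at ht
      exact zero_ne_one ht
    have h2 : χ a ^ (q ^ d - 1) = 1 := by
      have h3 : χ a ^ (q ^ d - 1) * χ a = 1 * χ a := by
        rw [← pow_succ, Nat.sub_add_cancel (Nat.one_le_pow _ _ hq1), h1, one_mul]
      exact mul_right_cancel₀ h0 h3
    have h3 : p ∣ orderOf (χ a) := by
      obtain ⟨i, -, hi⟩ := (Nat.dvd_prime_pow hp.out).1 (orderOf_dvd_of_pow_eq_one ht)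
      rcases Nat.eq_zero_or_pos i with rfl | hi0
      · rw [pow_zero, orderOf_eq_one_iff] at hi
        exact absurd hi ha
      · rw [hi]; exact dvd_pow_self p hi0.ne'
    have h4 : p ∣ q ^ d - 1 := h3.trans (orderOf_dvd_of_pow_eq_one h2)
    apply orderOf_dvd_of_pow_eq_one
    have h5 := (ZMod.natCast_eq_zero_iff (q ^ d - 1) p).2 h4
    rw [Nat.cast_sub (Nat.one_le_pow _ _ hq1), Nat.cast_pow, Nat.cast_one] at h5
    exact sub_eq_zero.1 h5
  have hqp : (q : ZMod p) ≠ 0 := fun h => hpq ((ZMod.natCast_eq_zero_iff q p).1 h)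
  have hecop : Nat.Coprime e p := by
    have h1 : e ∣ p - 1 := ZMod.orderOf_dvd_card_sub_one hqp
    have h2 : Nat.Coprime (p - 1) p := (Nat.coprime_self_sub_left hp.out.one_le).2 (Nat.coprime_one_left p)
    exact Nat.Coprime.coprime_dvd_left h1 h2
  -- the orbit bound
  have horb : ∀ χ : A → K, M χ ≠ ⊥ → (∃ a, χ a ≠ 1) → e * (MulAction.orbit P χ).ncard ≤ n := by
    intro χ h hnt
    have hMo : ∀ ψ ∈ MulAction.orbit P χ, M ψ ≠ ⊥ := by
      rintro _ ⟨g, rfl⟩
      exact hMg g χ h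
    have hno : ∀ ψ ∈ MulAction.orbit P χ, ∃ a, ψ a ≠ 1 := by
      rintro _ ⟨g, rfl⟩
      obtain ⟨a, ha⟩ := hnt
      refine ⟨(MulAut.conjNormal g⁻¹).symm a, ?_⟩
      change (g • χ) _ ≠ 1
      rw [hsm, MulEquiv.apply_symm_apply]
      exact ha
    have key : ∀ (i d : ℕ) (ψ ψ' : A → K), ψ ∈ MulAction.orbit P χ → ψ' ∈ MulAction.orbit P χ → d < e →
        s^[i] ψ = s^[i + d] ψ' → d = 0 ∧ ψ = ψ' := by
      intro i d ψ ψ' hψ hψ' hd hh
      rw [Function.iterate_add_apply] at hh
      have h1 := (hs_inj.iterate i) hh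
      obtain ⟨γ, hγ⟩ : ∃ γ : P, ψ = γ • ψ' := by
        obtain ⟨g, rfl⟩ := hψ
        obtain ⟨g', rfl⟩ := hψ'
        exact ⟨g * g'⁻¹, by change g • χ = (g * g'⁻¹) • (g' • χ); rw [smul_smul, inv_mul_cancel_right]⟩
      have h2 : ∀ m : ℕ, s^[d * m] ψ' = γ ^ m • ψ' := by
        intro m
        induction m with
        | zero => rw [mul_zero, pow_zero, one_smul]; rfl
        | succ m ih => rw [mul_add, mul_one, Function.iterate_add_apply, ← h1, hγ, hs_comm, ih, smul_smul, pow_succ']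
      obtain ⟨t, ht⟩ := horder γ
      have h3 := h2 (p ^ t)
      rw [ht, one_smul] at h3
      have h4 := hper ψ' (hMo ψ' hψ') (hno ψ' hψ') _ h3
      have h5 : e ∣ d := (Nat.Coprime.pow_right t hecop).dvd_of_dvd_mul_right h4
      have h6 : d = 0 := Nat.eq_zero_of_dvd_of_lt h5 hd
      refine ⟨h6, ?_⟩
      rw [h6] at h1
      exact h1
    let φ : Fin e × MulAction.orbit P χ → {χ // M χ ≠ ⊥} := fun x => ⟨s^[x.1.1] x.2.1, hMit _ _ (hMo _ x.2.2)⟩
    have hφ : Function.Injective φ := by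
      rintro ⟨⟨i, hi⟩, ⟨ψ, hψ⟩⟩ ⟨⟨i', hi'⟩, ⟨ψ', hψ'⟩⟩ hh
      have h1 : s^[i] ψ = s^[i'] ψ' := congrArg Subtype.val hh
      rcases Nat.le_total i i' with hle | hle
      · obtain ⟨d, rfl⟩ := Nat.exists_eq_add_of_le hle
        obtain ⟨h2, h3⟩ := key i d ψ ψ' hψ hψ' (by omega) h1
        subst h2 h3
        rfl
      · obtain ⟨d, rfl⟩ := Nat.exists_eq_add_of_le hle
        obtain ⟨h2, h3⟩ := key i' d ψ' ψ hψ' hψ (by omega) h1.symm
        subst h2 h3
        rfl
    have h1 := Nat.card_le_card_of_injective φ hφ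
    rw [Nat.card_prod, Nat.card_eq_fintype_card, Fintype.card_fin] at h1
    exact h1.trans hcard
  -- stabilisers
  have hstab : ∀ χ : A → K, M χ ≠ ⊥ → derivedSeries P k ≤ MulAction.stabilizer P χ := by
    intro χ h
    by_cases hnt : ∃ a, χ a ≠ 1
    · have h2 : (MulAction.stabilizer P χ).index ∣ Nat.card P := (MulAction.stabilizer P χ).index_dvd_card
      obtain ⟨m, hm⟩ := IsPGroup.iff_card.1 hP
      rw [hm] at h2
      obtain ⟨j, -, hj⟩ := (Nat.dvd_prime_pow hp.out).1 h2
      have h3 := horb χ h hnt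
      rw [← MulAction.index_stabilizer, hj] at h3
      exact (derivedSeries_antitone _ (hk j h3)).trans (S4014.derived_le j P _ hP hj)
    · push Not at hnt
      intro g _
      rw [MulAction.mem_stabilizer_iff]
      funext a
      rw [hsm, hnt, hnt]
  have hA : derivedSeries P k ≤ A := by
    intro g hg
    rw [← hAA, Subgroup.mem_centralizer_iff]
    intro a ha
    obtain ⟨a, rfl⟩ : ∃ a' : A, (a' : P) = a := ⟨⟨a, ha⟩, rfl⟩
    set c : A := MulAut.conjNormal g⁻¹ a with hc
    set D := f c + -f a with hD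
    have hmax : D.maxGenEigenspace 0 = ⊤ := by
      rw [eq_top_iff, ← hM1, iSup_le_iff]
      intro χ
      by_cases h : M χ = ⊥
      · rw [h]; exact bot_le
      have h1 : χ c = χ a := by
        have h2 := MulAction.mem_stabilizer_iff.1 (hstab χ h hg)
        have h3 := congrFun h2 a
        rwa [hsm] at h3
      intro v hv
      rw [Submodule.mem_iInf] at hv
      have h2 := hv c
      have h3 := hv a
      rw [h1] at h2
      have h4 : v ∈ (-f a).maxGenEigenspace (-χ a) := neg_gen h3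
      have h5 := Module.End.genEigenspace_inf_le_add (f c) (-f a) (χ a) (-χ a) ⊤ ⊤ ((hcomm c a).neg_right) ⟨h2, h4⟩
      rw [add_neg_cancel] at h5
      exact h5
    have hDn : IsNilpotent D := by
      rw [Module.End.maxGenEigenspace_eq_genEigenspace_finrank] at hmax
      refine ⟨finrank K (Fin n → K), ?_⟩
      apply LinearMap.ext
      intro v
      have h1 : v ∈ D.genEigenspace 0 (finrank K (Fin n → K)) := by rw [hmax]; trivial
      rw [Module.End.mem_genEigenspace_nat, zero_smul, sub_zero, LinearMap.mem_ker] at h1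
      exact h1
    have hcm : Commute (f a⁻¹) D := (hcomm a⁻¹ c).add_right (hcomm a⁻¹ a).neg_right
    have hN : IsNilpotent (f a⁻¹ * D) := hcm.isNilpotent_mul_left hDn
    have hfaa : f a⁻¹ * f a = 1 := by
      change ρ ((a⁻¹ : A) : P) * ρ a = 1
      rw [← map_mul, Subgroup.coe_inv, inv_mul_cancel, map_one]
    have hfaa' : f a * f a⁻¹ = 1 := by
      change ρ a * ρ ((a⁻¹ : A) : P) = 1
      rw [← map_mul, Subgroup.coe_inv, mul_inv_cancel, map_one]
    have h1 : 1 + f a⁻¹ * D = ρ ((a⁻¹ * c : A) : P) := by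
      refine (ring_id hfaa).trans ?_
      change ρ ((a⁻¹ : A) : P) * ρ c = _
      rw [← map_mul, Subgroup.coe_mul]
    obtain ⟨t, ht⟩ := horder ((a⁻¹ * c : A) : P)
    have h2 := nil_eq_zero (K := K) hN (m := p ^ t) (by rw [Nat.cast_pow]; exact pow_ne_zero _ hpK) (by
      rw [h1, ← map_pow, ht, map_one])
    rw [h2, add_zero] at h1
    have h3 : ((a⁻¹ * c : A) : P) = 1 := by
      apply hρ
      rw [← h1, map_one]
    have h4 : (c : P) = a := by
      rw [Subgroup.coe_mul, Subgroup.coe_inv] at h3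
      exact (inv_mul_eq_one.1 h3).symm
    rw [hc, MulAut.conjNormal_apply, inv_inv] at h4
    have h5 : g⁻¹ * (a : P) * g = a := h4
    calc (a : P) * g = g * (g⁻¹ * a * g) := by group
      _ = g * a := by rw [h5]
  rw [eq_bot_iff, derivedSeries_succ]
  refine (Subgroup.commutator_mono hA hA).trans ?_
  rw [Subgroup.commutator_le]
  intro x hx y hy
  rw [Subgroup.mem_bot, commutatorElement_eq_one_iff_mul_comm]
  exact congrArg Subtype.val (hAc.is_comm.comm ⟨x, hx⟩ ⟨y, hy⟩)

end Cfsg.Agent.H16.DL
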