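import Cfsg.Agent.H16_Emb2

set_option autoImplicit false

/-! Restriction of scalars for symplectic groups. -/

namespace Cfsg.Agent.H16.Emb

open Matrix Module

/-- semilinear coordinates. -/
structure SC (F K : Type*) [Field F] [Field K] (e : F →+* K) (ι κ : Type) where
  c : (ι → F) → (κ → K)
  add : ∀ v w, c (v + w) = c v + c w
  smul : ∀ (a : F) v, c (a • v) = e a • c v
  inj : Function.Injective c
  surj : Function.Surjective c

namespace SC

variable {F K : Type*} [Field F] [Field K] {e : F →+* K} {ι κ : Type} [Fintype ι] [DecidableEq ι] [Fintype κ]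
  [DecidableEq κ] (S : SC F K e ι κ)

/-- the inverse. -/
noncomputable def ci (z : κ → K) : ι → F := (S.surj z).choose

omit [Fintype ι] [DecidableEq ι] [Fintype κ] [DecidableEq κ] in
theorem c_ci (z : κ → K) : S.c (S.ci z) = z := (S.surj z).choose_spec

/-- the linear map of a matrix. -/
noncomputable def rl (g : Matrix κ κ K) : (ι → F) →ₗ[F] (ι → F) where
  toFun v := S.ci (g *ᵥ S.c v)
  map_add' v w := by
    apply S.inj
    rw [S.c_ci, S.add, S.add, S.c_ci, S.c_ci, mulVec_add]
  map_smul' a v := by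
    apply S.inj
    rw [RingHom.id_apply, S.c_ci, S.smul, S.smul, S.c_ci, mulVec_smul]

omit [Fintype ι] [DecidableEq ι] [DecidableEq κ] in
theorem c_rl (g : Matrix κ κ K) (v : ι → F) : S.c (S.rl g v) = g *ᵥ S.c v := S.c_ci _

/-- restriction of scalars. -/
noncomputable def rs : Matrix κ κ K →* Matrix ι ι F where
  toFun g := LinearMap.toMatrix' (S.rl g)
  map_one' := by
    have : S.rl (1 : Matrix κ κ K) = LinearMap.id := by
      apply LinearMap.ext
      intro v
      apply S.inj
      rw [c_rl, one_mulVec]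
      rfl
    rw [this, LinearMap.toMatrix'_id]
  map_mul' g h := by
    have : S.rl (g * h) = S.rl g ∘ₗ S.rl h := by
      apply LinearMap.ext
      intro v
      apply S.inj
      rw [LinearMap.comp_apply, c_rl, c_rl, c_rl, mulVec_mulVec]
    rw [this, LinearMap.toMatrix'_comp]

theorem rs_mulVec (g : Matrix κ κ K) (v : ι → F) : S.c (S.rs g *ᵥ v) = g *ᵥ S.c v := by
  have h : S.rs g *ᵥ v = S.rl g v := LinearMap.toMatrix'_mulVec _ _
  rw [h, c_rl]

theorem rs_inj : Function.Injective S.rs := by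
  intro g h hgh
  apply Matrix.ext_of_mulVec_single
  intro i
  rw [← S.c_ci (Pi.single i 1), ← rs_mulVec, ← rs_mulVec, hgh]

end SC

variable {F K : Type*} [Field F] [Field K] {q : ℕ} (D : QD F K q)

/-- symplectic coordinates. -/
def spc (a : ℕ) (T : F) (v : Fin (2 * a) ⊕ Fin (2 * a) → F) : Fin a ⊕ Fin a → K :=
  Sum.elim (fun i => D.e (v (Sum.inl (finProdFinEquiv (1, i))) - T * v (Sum.inl (finProdFinEquiv (0, i))))
      + D.e (v (Sum.inl (finProdFinEquiv (0, i)))) * D.ω)
    (fun i => D.e (v (Sum.inr (finProdFinEquiv (0, i)))) + D.e (v (Sum.inr (finProdFinEquiv (1, i)))) * D.ω)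

/-- as coordinates. -/
def spS (a : ℕ) (T : F) : SC F K D.e (Fin (2 * a) ⊕ Fin (2 * a)) (Fin a ⊕ Fin a) where
  c := spc D a T
  add v w := by
    funext i
    rcases i with i | i
    · simp only [spc, Sum.elim_inl, Pi.add_apply, map_add, map_sub, map_mul]
      ring
    · simp only [spc, Sum.elim_inr, Pi.add_apply, map_add, map_sub, map_mul]
      ring
  smul c v := by
    funext i
    rcases i with i | i
    · simp only [spc, Sum.elim_inl, Pi.smul_apply, smul_eq_mul, map_sub, map_mul]
      ring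
    · simp only [spc, Sum.elim_inr, Pi.smul_apply, smul_eq_mul, map_mul]
      ring
  inj v w h := by
    have h1 : ∀ i, v (Sum.inl (finProdFinEquiv (1, i))) - T * v (Sum.inl (finProdFinEquiv (0, i))) -
        (w (Sum.inl (finProdFinEquiv (1, i))) - T * w (Sum.inl (finProdFinEquiv (0, i)))) = 0 ∧
        v (Sum.inl (finProdFinEquiv (0, i))) - w (Sum.inl (finProdFinEquiv (0, i))) = 0 := by
      intro i
      have h2 := congrFun h (Sum.inl i)
      simp only [spc, Sum.elim_inl] at h2
      apply D.indep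
      simp only [map_sub, map_mul] at h2 ⊢
      linear_combination h2
    have h3 : ∀ i, v (Sum.inr (finProdFinEquiv (0, i))) - w (Sum.inr (finProdFinEquiv (0, i))) = 0 ∧
        v (Sum.inr (finProdFinEquiv (1, i))) - w (Sum.inr (finProdFinEquiv (1, i))) = 0 := by
      intro i
      have h2 := congrFun h (Sum.inr i)
      simp only [spc, Sum.elim_inr] at h2
      apply D.indep
      rw [map_sub, map_sub]
      linear_combination h2
    have h4 : ∀ (s : Fin 2) (i : Fin a), v (Sum.inl (finProdFinEquiv (s, i))) = w (Sum.inl (finProdFinEquiv (s, i))) ∧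
        v (Sum.inr (finProdFinEquiv (s, i))) = w (Sum.inr (finProdFinEquiv (s, i))) := by
      intro s i
      fin_cases s
      · exact ⟨sub_eq_zero.mp (h1 i).2, sub_eq_zero.mp (h3 i).1⟩
      · refine ⟨?_, sub_eq_zero.mp (h3 i).2⟩
        have h5 := (h1 i).1
        rw [sub_eq_zero.mp (h1 i).2] at h5
        change v (Sum.inl (finProdFinEquiv (1, i))) = w (Sum.inl (finProdFinEquiv (1, i)))
        linear_combination h5
    funext i
    rcases i with i | i
    · obtain ⟨⟨s, j⟩, rfl⟩ := finProdFinEquiv.surjective i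
      exact (h4 s j).1
    · obtain ⟨⟨s, j⟩, rfl⟩ := finProdFinEquiv.surjective i
      exact (h4 s j).2
  surj z := by
    choose x y h using fun i => D.span (z i)
    refine ⟨Sum.elim (fun s => if (finProdFinEquiv.symm s).1 = 0 then y (Sum.inl (finProdFinEquiv.symm s).2) else
        x (Sum.inl (finProdFinEquiv.symm s).2) + T * y (Sum.inl (finProdFinEquiv.symm s).2))
      (fun s => if (finProdFinEquiv.symm s).1 = 0 then x (Sum.inr (finProdFinEquiv.symm s).2) else
        y (Sum.inr (finProdFinEquiv.symm s).2)), ?_⟩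
    funext i
    have h10 : (1 : Fin 2) ≠ 0 := by decide
    rcases i with i | i
    · rw [h]
      simp only [spc, Sum.elim_inl, Equiv.symm_apply_apply, if_true, if_neg h10, map_sub, map_add, map_mul]
      ring
    · rw [h]
      simp only [spc, Sum.elim_inr, Equiv.symm_apply_apply, if_true, if_neg h10]

theorem spc_form {a : ℕ} {T N : F} (hT : D.e T = D.ω + D.σ D.ω) (hN : D.e N = D.ω * D.σ D.ω)
    (u v : Fin (2 * a) ⊕ Fin (2 * a) → F) : ∃ x : F, Cfsg.sympForm a K (spc D a T u) (spc D a T v) =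
      D.e x + D.e (Cfsg.sympForm (2 * a) F u v) * D.ω := by
  have hω : D.ω ^ 2 = D.e T * D.ω - D.e N := by rw [hT, hN]; ring
  refine ⟨∑ i : Fin a, (u (Sum.inr (finProdFinEquiv (0, i))) * (v (Sum.inl (finProdFinEquiv (1, i))) - T * v (Sum.inl (finProdFinEquiv (0, i))))
    - N * u (Sum.inr (finProdFinEquiv (1, i))) * v (Sum.inl (finProdFinEquiv (0, i)))
    - (v (Sum.inr (finProdFinEquiv (0, i))) * (u (Sum.inl (finProdFinEquiv (1, i))) - T * u (Sum.inl (finProdFinEquiv (0, i))))
    - N * v (Sum.inr (finProdFinEquiv (1, i))) * u (Sum.inl (finProdFinEquiv (0, i))))), ?_⟩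
  rw [H5.Conc.sympForm_eq, H5.Conc.sympForm_eq, ← Equiv.sum_comp finProdFinEquiv, Fintype.sum_prod_type, Fin.sum_univ_two,
    ← Finset.sum_add_distrib, map_sum, map_sum, Finset.sum_mul, ← Finset.sum_add_distrib]
  refine Finset.sum_congr rfl fun i _ => ?_
  simp only [spc, Sum.elim_inl, Sum.elim_inr, map_add, map_sub, map_mul]
  linear_combination (D.e (u (Sum.inr (finProdFinEquiv (1, i)))) * D.e (v (Sum.inl (finProdFinEquiv (0, i)))) -
    D.e (v (Sum.inr (finProdFinEquiv (1, i)))) * D.e (u (Sum.inl (finProdFinEquiv (0, i))))) * hω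

theorem sp_sp {T N : F} (hT : D.e T = D.ω + D.σ D.ω) (hN : D.e N = D.ω * D.σ D.ω) (a : ℕ) :
    ∃ φ : ↥(Matrix.symplecticGroup (Fin a) K) →* ↥(Matrix.symplecticGroup (Fin (2 * a)) F), Function.Injective φ := by
  refine ⟨((spS D a T).rs.comp (Submonoid.subtype (Matrix.symplecticGroup (Fin a) K))).codRestrict _ (fun g => ?_), ?_⟩
  · rw [H5.Conc.mem_symplecticGroup_iff]
    intro u v
    have hg := (H5.Conc.mem_symplecticGroup_iff _).mp g.2 (spc D a T u) (spc D a T v)
    obtain ⟨x, hx⟩ := spc_form D hT hN u v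
    obtain ⟨y, hy⟩ := spc_form D hT hN ((spS D a T).rs (g : Matrix _ _ K) *ᵥ u) ((spS D a T).rs (g : Matrix _ _ K) *ᵥ v)
    have h1 : ∀ w, spc D a T ((spS D a T).rs (g : Matrix _ _ K) *ᵥ w) = (g : Matrix _ _ K) *ᵥ spc D a T w :=
      fun w => (spS D a T).rs_mulVec _ w
    rw [h1, h1, hg, hx] at hy
    have h2 : D.e (y - x) + D.e (Cfsg.sympForm (2 * a) F ((spS D a T).rs (g : Matrix _ _ K) *ᵥ u)
      ((spS D a T).rs (g : Matrix _ _ K) *ᵥ v) - Cfsg.sympForm (2 * a) F u v) * D.ω = 0 := by
      rw [map_sub, map_sub]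
      linear_combination -hy
    exact sub_eq_zero.mp (D.indep h2).2
  · intro g g' hg
    exact Subtype.ext ((spS D a T).rs_inj (congrArg Subtype.val hg))

end Cfsg.Agent.H16.Emb
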