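import Cfsg.Agent.H16_Pol9
import Cfsg.Agent.H16_FAut

set_option autoImplicit false

/-! Polar spaces with groups: the final form of the automorphism theorem, for column vectors. -/

namespace Cfsg.Agent.H16.Ps

open Module Matrix

theorem bar_comm {F : Type*} [Field F] [Finite F] (bar : F →+* F) (σ : F ≃+* F) (a : F) :
    σ (bar a) = bar (σ a) := by
  have hc : IsCyclic (F ≃+* F) := FAut.isCyclic
  have hb : Function.Bijective bar := ⟨bar.injective, Finite.surjective_of_injective bar.injective⟩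
  let τ : F ≃+* F := RingEquiv.ofBijective bar hb
  have : σ * τ = τ * σ := by
    obtain ⟨g, hg⟩ := IsCyclic.exists_generator (α := F ≃+* F)
    obtain ⟨a, rfl⟩ := hg σ
    obtain ⟨b, hb⟩ := hg τ
    rw [← hb]
    exact (Commute.zpow_zpow_self g a b)
  exact congrArg (fun f : F ≃+* F => f a) this

namespace PolT

variable {ι : Type} [Fintype ι] [DecidableEq ι]
variable {F S T : Type*} [Field F] [Group S] [Group T] {P : PolT F (ι → F) S T}

theorem exists_setup [Finite F] (hR : P.Rich)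
    (hne : ∀ v f, P.sg v → P.sg f → P.h v f = 1 → ∃ x ∈ P.perp v f, P.sg x ∧ x ≠ 0)
    {α : MulAut T} (hrel : ∀ v, P.sg v → v ≠ 0 → ∃ v', P.Rel α v v')
    (hrel' : ∀ v, P.sg v → v ≠ 0 → ∃ v', P.Rel α⁻¹ v v') (hex : ∃ x, P.sg x ∧ x ≠ 0) :
    ∃ e f e' f', P.Setup α e f e' f' := by
  obtain ⟨e, he, he0⟩ := hex
  obtain ⟨f, hf, hef⟩ := P.exists_opp he he0
  have hf0 : f ≠ 0 := by rintro rfl; rw [P.h_zero_right] at hef; exact zero_ne_one hef
  obtain ⟨e', he'⟩ := hrel e he he0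
  obtain ⟨f₁, hf₁⟩ := hrel f hf hf0
  have hB := PolG.big_of_rich hR
  have h1 : P.h e' f₁ ≠ 0 := by
    intro h
    have := (he'.perp hB hf₁).mpr h
    rw [hef] at this
    exact one_ne_zero this
  have hf' : P.Rel α f ((P.h e' f₁)⁻¹ • f₁) := hf₁.sim (Sim.refl _) (Sim.smul (inv_ne_zero h1))
  have hef' : P.h e' ((P.h e' f₁)⁻¹ • f₁) = 1 := by rw [P.h_smul_right, inv_mul_cancel₀ h1]
  refine ⟨e, f, e', _, hrel, ?_, hB, he', hf', hef, hef', P.span_perp he hf hef (hne e f he hf hef),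
    P.span_perp he'.sg' hf'.sg' hef' (hne _ _ he'.sg' hf'.sg' hef')⟩
  intro v' hv' h0
  obtain ⟨v, hv⟩ := hrel' v' hv' h0
  exact ⟨v, by simpa using hv.inv⟩

/-- assemble: an automorphism permuting the points is induced by a semisimilarity. -/
theorem final [Finite F] (hR : P.Rich)
    (hne : ∀ v f, P.sg v → P.sg f → P.h v f = 1 → ∃ x ∈ P.perp v f, P.sg x ∧ x ≠ 0)
    (hN : ∀ v f, P.sg v → P.sg f → P.h v f = 1 → ∀ x ∈ P.perp v f, ∀ y ∈ P.perp v f,
      P.sg x → P.sg y → x ≠ 0 → y ≠ 0 → ∃ z ∈ P.perp v f, P.sg z ∧ P.h x z ≠ 0 ∧ P.h y z ≠ 0)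
    (hgX : ∀ e f, P.sg e → P.sg f → P.h e f = 1 → ∀ a : F, P.sg (f + a • e) → a = 0 ∨
      ∀ x₁ ∈ P.perp e f, ∀ x₂ ∈ P.perp e f, P.sg x₁ → P.sg x₂ → P.h x₁ x₂ = -(P.ε * a) → P.sg (x₁ + x₂))
    {α : MulAut T}
    (hE : ∀ e f e' f', P.Setup α e f e' f' → ∀ x ∈ P.perp e f, ∀ y ∈ P.perp e f, P.sg x → P.sg y →
      P.h x y ≠ 0 → ∀ a m : F, Setup.A P α e f e' f' (a • x) = m • Setup.A P α e f e' f' x →
        Setup.A P α e f e' f' (a • y) = m • Setup.A P α e f e' f' y)
    (hrel : ∀ v, P.sg v → v ≠ 0 → ∃ v', P.Rel α v v')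
    (hrel' : ∀ v, P.sg v → v ≠ 0 → ∃ v', P.Rel α⁻¹ v v') (hex : ∃ x, P.sg x ∧ x ≠ 0) :
    ∃ (M : GL ι F) (σ : F ≃+* F) (k : F), k ≠ 0 ∧
      (∀ x y, P.h ((M : Matrix ι ι F) *ᵥ (fun i => σ (x i))) ((M : Matrix ι ι F) *ᵥ (fun i => σ (y i))) =
        k * σ (P.h x y)) ∧
      (∀ x, P.sg x → P.sg ((M : Matrix ι ι F) *ᵥ (fun i => σ (x i)))) ∧
      ∀ s s', P.pm s' = α (P.pm s) → ∃ c : F, c ≠ 0 ∧ ∀ x,
        P.r s' ((M : Matrix ι ι F) *ᵥ (fun i => σ (x i))) = c • ((M : Matrix ι ι F) *ᵥ (fun i => σ (P.r s x i))) := by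
  obtain ⟨e, f, e', f', D⟩ := exists_setup hR hne hrel hrel' hex
  have hne' := hne e f D.he.sg D.hf.sg D.hef
  have hN' := hN e f D.he.sg D.hf.sg D.hef
  obtain ⟨σ, hA⟩ := D.semilinear hN' hne' (hE e f e' f' D)
  have hσ : ∀ a, σ (P.bar a) = P.bar (σ a) := bar_comm P.bar σ
  obtain ⟨k, hk0, hkb, hk⟩ := D.exists_k hσ hA hN' hne'
  have hgen := gen_of D.he.sg D.hf.sg D.hef D.sp hne' (hgX e f D.he.sg D.hf.sg D.hef)
  have hco := D.co_of_gen hk hgen
  have hsp := P.span_sg D.he.sg D.he.ne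
  have hmain := fun (s s' : S) (h : P.pm s' = α (P.pm s)) => D.main hσ hA hk0 hkb hk hco
    (fun x y hx hy h1 h2 => Pol.Rich.common hR hx hy h1 h2) hsp h
  set g := Setup.g P α e f e' f' σ k with hg
  have hgadd : ∀ x y, g (x + y) = g x + g y := D.g_add (σ := σ) k
  have hgsmul : ∀ (a : F) x, g (a • x) = σ a • g x := D.g_smul hA k
  have hgh : ∀ x y, P.h (g x) (g y) = k * σ (P.h x y) := D.g_h hσ hkb hk
  have hgrel : ∀ x, P.sg x → x ≠ 0 → P.Rel α x (g x) :=
    fun x hx hx0 => D.rel_g hσ hA hk0 hkb hk hco (x := x) hx hx0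
  -- the linear map
  let G : (ι → F) →ₗ[F] (ι → F) :=
    { toFun := fun x => g (fun i => σ.symm (x i))
      map_add' := by
        intro x y
        rw [← hgadd]
        congr 1
        funext i
        exact map_add _ _ _
      map_smul' := by
        intro a x
        have : (fun i => σ.symm ((a • x) i)) = (σ.symm a) • (fun i => σ.symm (x i)) := by
          funext i
          exact map_mul _ _ _
        rw [this, hgsmul, σ.apply_symm_apply]
        rfl }
  have hGg : ∀ x, G (fun i => σ (x i)) = g x := by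
    intro x
    change g _ = g x
    congr 1
    funext i
    exact σ.symm_apply_apply _
  have hginj : Function.Injective G := by
    rw [injective_iff_map_eq_zero]
    intro x hx
    have h1 : (fun i => σ.symm (x i)) = 0 := by
      refine P.nondeg _ fun y => ?_
      have h2 := hgh (fun i => σ.symm (x i)) y
      have h3 : g (fun i => σ.symm (x i)) = 0 := hx
      rw [h3, P.h_zero_left] at h2
      have h4 := (mul_eq_zero.mp h2.symm).resolve_left hk0
      rwa [map_eq_zero] at h4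
    funext i
    have := congrFun h1 i
    exact (map_eq_zero σ.symm).mp this
  have hGM : ∀ x, (LinearMap.toMatrix' G) *ᵥ x = G x := fun x => LinearMap.toMatrix'_mulVec G x
  have hdet : IsUnit (LinearMap.toMatrix' G).det := by
    rw [← Matrix.isUnit_iff_isUnit_det]
    have h1 : Function.Injective (LinearMap.toMatrix' G).mulVec := by
      intro x y h
      rw [hGM, hGM] at h
      exact hginj h
    exact Matrix.mulVec_injective_iff_isUnit.mp h1
  let M : GL ι F := Matrix.GeneralLinearGroup.mk'' _ hdet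
  have hM : ∀ x : ι → F, (M : Matrix ι ι F) *ᵥ (fun i => σ (x i)) = g x := by
    intro x
    change (LinearMap.toMatrix' G) *ᵥ _ = _
    rw [hGM, hGg]
  refine ⟨M, σ, k, hk0, ?_, ?_, ?_⟩
  · intro x y
    rw [hM, hM]
    exact hgh x y
  · intro x hx
    rw [hM]
    by_cases hx0 : x = 0
    · have : g 0 = 0 := by
        have := hgsmul 0 0
        rw [zero_smul, map_zero, zero_smul] at this
        exact this
      rw [hx0, this]
      exact P.sg_zero _ hx
    · exact (hgrel x hx hx0).sg'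
  · intro s s' h
    obtain ⟨c, hc, h1⟩ := hmain s s' h
    refine ⟨c, hc, fun x => ?_⟩
    have h2 : (fun i => σ (P.r s x i)) = fun i => σ ((P.r s x) i) := rfl
    rw [hM, hM]
    exact h1 x

end PolT

end Cfsg.Agent.H16.Ps
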