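import Cfsg.Agent.H16_AutF3
import Cfsg.Agent.H16_PolA

set_option autoImplicit false

/-! Semilinear groups acting on a linear group; automorphisms of central quotients. -/

namespace Cfsg.Agent.H16.Gam

open Matrix Cfsg.Agent.H16.AutG Cfsg.Agent.H16.AutL Cfsg.Agent.H16.Desc

variable {ι : Type*} [Fintype ι] [DecidableEq ι] {F : Type*} [Field F]

/-- scalars. -/
abbrev scl (ι : Type*) [Fintype ι] [DecidableEq ι] {F : Type*} [Field F] : Fˣ →* GL ι F :=
  Matrix.GeneralLinearGroup.scalar ι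

theorem gσ_sc (σ : F ≃+* F) (c : Fˣ) : gσ σ (scl ι c) = scl ι (Units.map (σ : F →* F) c) := by
  apply Units.ext
  ext i j
  change σ ((Matrix.scalar ι (c : F)) i j) = (Matrix.scalar ι (σ (c : F))) i j
  rw [Matrix.scalar_apply, Matrix.scalar_apply, Matrix.diagonal_apply, Matrix.diagonal_apply]
  split_ifs <;> simp

theorem sc_comm (c : Fˣ) (g : GL ι F) : scl ι c * g = g * scl ι c := by
  have : scl ι c ∈ Subgroup.center (GL ι F) := by
    rw [Matrix.GeneralLinearGroup.center_eq_range_scalar]; exact ⟨c, rfl⟩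
  exact (Subgroup.mem_center_iff.mp this g).symm

theorem Nn_sc (σ : F ≃+* F) (c : Fˣ) (g : GL ι F) (k : ℕ) :
    Nn σ (scl ι c * g) k = scl ι (nn σ c k) * Nn σ g k := by
  induction k with
  | zero => rw [Nn_zero, Nn_zero, nn, _root_.map_one, one_mul]
  | succ k ih =>
    rw [Nn_succ, ih, Nn_succ, nn, _root_.map_mul, _root_.map_mul, gσ_sc, mul_assoc, mul_assoc]
    congr 1
    rw [← mul_assoc, ← sc_comm, mul_assoc]

theorem sc_inj [Nonempty ι] {c d : Fˣ} (h : scl ι c = scl ι d) : c = d := by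
  obtain ⟨i⟩ := ‹Nonempty ι›
  apply Units.ext
  have := congrArg (fun x : GL ι F => (x : Matrix ι ι F) i i) h
  simpa using this

/-- the elements `g` with `σ(g)` a scalar multiple of `g`. -/
theorem exists_fixed_of_sc [Nonempty ι] {σ : F ≃+* F} {r : ℕ} (hr : orderOf σ = r) (hr0 : 0 < r)
    {g : GL ι F} {c : Fˣ} (h : gσ σ g = scl ι c * g) :
    ∃ (t : Fˣ) (g₀ : GL ι F), g = scl ι t * g₀ ∧ gσ σ g₀ = g₀ := by
  have h1 : ∀ k, gσ (σ ^ k) g = scl ι (nn σ c k) * g := by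
    intro k
    induction k with
    | zero => rw [pow_zero, gσ_one, nn, _root_.map_one, one_mul]
    | succ k ih =>
      rw [pow_succ', gσ_mul, ih, _root_.map_mul, gσ_sc, h, nn, ← mul_assoc, ← _root_.map_mul,
        mul_comm c]
  have h2 : nn σ c r = 1 := by
    have := h1 r
    rw [← hr, pow_orderOf_eq_one, gσ_one, hr] at this
    have h3 : scl ι (nn σ c r) = scl ι 1 := by
      rw [_root_.map_one]
      exact (mul_eq_right.mp this.symm)
    exact sc_inj h3
  have h3 : nn σ c⁻¹ r = 1 := by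
    have : ∀ k, nn σ c⁻¹ k = (nn σ c k)⁻¹ := by
      intro k
      induction k with
      | zero => simp [nn]
      | succ k ih => rw [nn, nn, ih, _root_.map_inv, mul_inv]
    rw [this, h2, inv_one]
  obtain ⟨t, ht⟩ := hilbert90_one σ hr hr0 c⁻¹ h3
  have htt : Units.map (σ : F →* F) t = c * t := by
    apply Units.ext
    change σ (t : F) = c * t
    have h5 : (c : F) * (((c⁻¹ : Fˣ) : F) * σ (t : F)) = c * t := by rw [ht]
    rw [← h5, ← mul_assoc, ← Units.val_mul, mul_inv_cancel, Units.val_one, one_mul]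
  refine ⟨t, scl ι t⁻¹ * g, ?_, ?_⟩
  · rw [← mul_assoc, ← _root_.map_mul, mul_inv_cancel, _root_.map_one, one_mul]
  · rw [_root_.map_mul, gσ_sc, h, ← mul_assoc, ← _root_.map_mul, _root_.map_inv, htt]
    congr 2
    rw [mul_inv, mul_comm c⁻¹, inv_mul_cancel_right]

/-- field automorphisms acting on `GL`. -/
def gsH : (F ≃+* F) →* MulAut (GL ι F) where
  toFun σ :=
    { toFun := gσ σ
      invFun := gσ σ⁻¹
      left_inv := fun g => by rw [← gσ_mul, inv_mul_cancel, gσ_one]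
      right_inv := fun g => by rw [← gσ_mul, mul_inv_cancel, gσ_one]
      map_mul' := _root_.map_mul _ }
  map_one' := by ext1 g; exact gσ_one g
  map_mul' σ τ := by ext1 g; exact gσ_mul σ τ g

theorem gsH_apply (σ : F ≃+* F) (g : GL ι F) : gsH σ g = gσ σ g := rfl

/-- the semilinear group. -/
abbrev Gm (ι F : Type*) [Fintype ι] [DecidableEq ι] [Field F] := GL ι F ⋊[gsH] (F ≃+* F)

/-- conjugation action of the semilinear group on `GL`. -/
def act : Gm ι F →* MulAut (GL ι F) where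
  toFun x := MulAut.conj x.left * gsH x.right
  map_one' := by
    rw [SemidirectProduct.one_left, SemidirectProduct.one_right, _root_.map_one, _root_.map_one, mul_one]
  map_mul' x y := by
    ext1 g
    simp only [MulAut.mul_apply, MulAut.conj_apply, SemidirectProduct.mul_left, SemidirectProduct.mul_right,
      _root_.map_mul, gsH_apply, _root_.map_inv, _root_.mul_inv_rev, mul_assoc]

theorem act_apply (x : Gm ι F) (g : GL ι F) : act x g = x.left * gσ x.right g * x.left⁻¹ := rfl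

section

variable {S : Type*} [Group S] (ρ : S →* GL ι F) (hρ : Function.Injective ρ) (Γ : Subgroup (Gm ι F))
  (h : ∀ x ∈ Γ, ∀ s, ∃ s', ρ s' = act x (ρ s))

/-- transport of the action to `S`. -/
noncomputable def tr : Γ →* MulAut S :=
  let f : Γ → S → S := fun x s => (h x x.2 s).choose
  have hf : ∀ (x : Γ) s, ρ (f x s) = act (x : Gm ι F) (ρ s) := fun x s => (h x x.2 s).choose_spec
  { toFun := fun x =>
      { toFun := f x
        invFun := f x⁻¹
        left_inv := fun s => by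
          apply hρ
          rw [hf, hf, Subgroup.coe_inv, _root_.map_inv]
          exact (act (x : Gm ι F)).symm_apply_apply _
        right_inv := fun s => by
          apply hρ
          rw [hf, hf, Subgroup.coe_inv, _root_.map_inv]
          exact (act (x : Gm ι F)).apply_symm_apply _
        map_mul' := fun s t => by
          apply hρ
          rw [_root_.map_mul, hf, hf, hf, _root_.map_mul, _root_.map_mul] }
    map_one' := by
      ext1 s
      apply hρ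
      change ρ (f 1 s) = ρ s
      rw [hf, Subgroup.coe_one, _root_.map_one]
      rfl
    map_mul' := fun x y => by
      ext1 s
      apply hρ
      change ρ (f (x * y) s) = ρ (f x (f y s))
      rw [hf, hf, hf, Subgroup.coe_mul, _root_.map_mul]
      rfl }

theorem rho_tr (x : Γ) (s : S) : ρ (tr ρ hρ Γ h x s) = act (x : Gm ι F) (ρ s) := (h x x.2 s).choose_spec

end

/-- a linear group with a semilinear group acting on it. -/
structure Fam (S ι F : Type*) [Group S] [Fintype ι] [DecidableEq ι] [Field F] where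
  ρ : S →* GL ι F
  inj : Function.Injective ρ
  Γ : Subgroup (Gm ι F)
  hΓ : ∀ x ∈ Γ, ∀ s, ∃ s', ρ s' = act x (ρ s)
  inn : ∀ s, SemidirectProduct.inl (ρ s) ∈ Γ
  sc : ∀ c : Fˣ, SemidirectProduct.inl (scl ι c) ∈ Γ
  ker : ∀ x ∈ Γ, (∀ s, ∃ c : Fˣ, act x (ρ s) = scl ι c * ρ s) →
    ∃ c : Fˣ, x = SemidirectProduct.inl (scl ι c)
  cen : ∀ s, s ∈ Subgroup.center S ↔ ∃ c : Fˣ, ρ s = scl ι c

namespace Fam

variable {S : Type*} [Group S] (Φ : Fam S ι F)

/-- the action on `S / Z(S)`. -/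
noncomputable def T : Φ.Γ →* MulAut (S ⧸ Subgroup.center S) := dn.comp (tr Φ.ρ Φ.inj Φ.Γ Φ.hΓ)

theorem T_mk (x : Φ.Γ) (s : S) : Φ.T x (QuotientGroup.mk s) = QuotientGroup.mk (tr Φ.ρ Φ.inj Φ.Γ Φ.hΓ x s) := rfl

theorem mk_eq_iff {s t : S} : (QuotientGroup.mk s : S ⧸ Subgroup.center S) = QuotientGroup.mk t ↔
    ∃ c : Fˣ, Φ.ρ t = scl ι c * Φ.ρ s := by
  rw [QuotientGroup.eq, Φ.cen, _root_.map_mul, _root_.map_inv]
  constructor
  · rintro ⟨c, hc⟩
    refine ⟨c, ?_⟩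
    rw [sc_comm, ← hc, mul_inv_cancel_left]
  · rintro ⟨c, hc⟩
    exact ⟨c, by rw [hc, sc_comm, inv_mul_cancel_left]⟩

theorem T_eq_one_iff (x : Φ.Γ) : Φ.T x = 1 ↔
    ∃ c : Fˣ, (x : Gm ι F) = SemidirectProduct.inl (scl ι c) := by
  constructor
  · intro h
    apply Φ.ker x x.2
    intro s
    have h1 : Φ.T x (QuotientGroup.mk s) = QuotientGroup.mk s := by rw [h]; rfl
    rw [T_mk, eq_comm, Φ.mk_eq_iff] at h1
    obtain ⟨c, hc⟩ := h1
    exact ⟨c, by rw [← rho_tr Φ.ρ Φ.inj Φ.Γ Φ.hΓ, hc]⟩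
  · rintro ⟨c, hc⟩
    ext1 s
    induction s using QuotientGroup.induction_on with
    | H s =>
      rw [T_mk]
      congr 1
      apply Φ.inj
      rw [rho_tr, hc, act_apply, SemidirectProduct.left_inl, SemidirectProduct.right_inl, gσ_one,
        sc_comm, mul_inv_cancel_right]

/-- the element of `Γ` attached to an element of `S`. -/
def inc (s : S) : Φ.Γ := ⟨SemidirectProduct.inl (Φ.ρ s), Φ.inn s⟩

theorem T_inc (s : S) : Φ.T (Φ.inc s) = MulAut.conj (QuotientGroup.mk s : S ⧸ Subgroup.center S) := by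
  ext1 t
  induction t using QuotientGroup.induction_on with
  | H t =>
    rw [T_mk, MulAut.conj_apply, ← QuotientGroup.mk_mul, ← QuotientGroup.mk_inv, ← QuotientGroup.mk_mul]
    congr 1
    apply Φ.inj
    rw [rho_tr, act_apply, _root_.map_mul, _root_.map_mul, _root_.map_inv]
    change Φ.ρ s * gσ 1 (Φ.ρ t) * (Φ.ρ s)⁻¹ = _
    rw [gσ_one]

/-- the linear part of `Γ`. -/
def N : Subgroup (GL ι F) := Φ.Γ.comap SemidirectProduct.inl

theorem mem_N {g : GL ι F} : g ∈ Φ.N ↔ SemidirectProduct.inl g ∈ Φ.Γ := Iff.rfl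

/-- `N → Γ`. -/
def nin : Φ.N →* Φ.Γ := SemidirectProduct.inl.subgroupComap Φ.Γ

theorem coe_nin (g : Φ.N) : ((Φ.nin g : Φ.Γ) : Gm ι F) = SemidirectProduct.inl (g : GL ι F) := rfl

/-- the group of inner-diagonal automorphisms (in the wide sense). -/
noncomputable def D : Subgroup (MulAut (S ⧸ Subgroup.center S)) := (Φ.T.comp Φ.nin).range

theorem mem_D {α : MulAut (S ⧸ Subgroup.center S)} : α ∈ Φ.D ↔ ∃ g : Φ.N, Φ.T (Φ.nin g) = α := Iff.rfl

theorem nin_conj (x : Φ.Γ) (g : Φ.N) : ∃ g' : Φ.N, Φ.nin g' = x * Φ.nin g * x⁻¹ := by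
  have h1 : ((x * Φ.nin g * x⁻¹ : Φ.Γ) : Gm ι F).right = 1 := by
    rw [Subgroup.coe_mul, Subgroup.coe_mul, Subgroup.coe_inv, coe_nin]
    simp
  have h2 : ((x * Φ.nin g * x⁻¹ : Φ.Γ) : Gm ι F) =
      SemidirectProduct.inl ((x * Φ.nin g * x⁻¹ : Φ.Γ) : Gm ι F).left := by
    apply SemidirectProduct.ext
    · rfl
    · exact h1
  refine ⟨⟨((x * Φ.nin g * x⁻¹ : Φ.Γ) : Gm ι F).left, ?_⟩, ?_⟩
  · rw [mem_N, ← h2]
    exact (x * Φ.nin g * x⁻¹).2
  · apply Subtype.ext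
    rw [coe_nin]
    exact h2.symm

theorem inn_le_D : (MulAut.conj : (S ⧸ Subgroup.center S) →* _).range ≤ Φ.D := by
  rintro _ ⟨x, rfl⟩
  induction x using QuotientGroup.induction_on with
  | H s => exact ⟨⟨Φ.ρ s, Φ.inn s⟩, Φ.T_inc s⟩

/-- all automorphisms come from `Γ`. -/
def Full : Prop := ∀ α : MulAut (S ⧸ Subgroup.center S), ∃ x : Φ.Γ, Φ.T x = α

variable {Φ}

theorem Full.D_normal (hΦ : Φ.Full) : Φ.D.Normal := by
  constructor
  rintro _ ⟨g, rfl⟩ α
  obtain ⟨x, rfl⟩ := hΦ α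
  obtain ⟨g', hg'⟩ := Φ.nin_conj x g
  refine ⟨g', ?_⟩
  rw [MonoidHom.comp_apply, hg', _root_.map_mul, _root_.map_mul, _root_.map_inv]
  rfl

variable (Φ)

/-- all the standard field automorphisms are available. -/
def HasField : Prop := ∀ σ : F ≃+* F, (SemidirectProduct.inr σ : Gm ι F) ∈ Φ.Γ

variable {Φ}

/-- the field automorphisms inside `Γ`. -/
def fin (hf : Φ.HasField) : (F ≃+* F) →* Φ.Γ :=
  (SemidirectProduct.inr : (F ≃+* F) →* Gm ι F).codRestrict Φ.Γ hf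

theorem coe_fin (hf : Φ.HasField) (σ : F ≃+* F) :
    ((fin hf σ : Φ.Γ) : Gm ι F) = SemidirectProduct.inr σ := rfl

theorem eq_nin_fin (hf : Φ.HasField) (x : Φ.Γ) :
    ∃ g : Φ.N, x = Φ.nin g * fin hf (x : Gm ι F).right := by
  have h1 : (x : Gm ι F) = SemidirectProduct.inl (x : Gm ι F).left *
      SemidirectProduct.inr (x : Gm ι F).right := (SemidirectProduct.inl_left_mul_inr_right _).symm
  refine ⟨⟨(x : Gm ι F).left, ?_⟩, Subtype.ext h1⟩
  rw [mem_N]
  have h2 : SemidirectProduct.inl (x : Gm ι F).left =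
      (x : Gm ι F) * (SemidirectProduct.inr (x : Gm ι F).right)⁻¹ := by
    rw [eq_mul_inv_iff_mul_eq]
    exact h1.symm
  rw [h2]
  exact mul_mem x.2 (inv_mem (hf _))

theorem fin_mem_D (hf : Φ.HasField) {σ : F ≃+* F} (h : Φ.T (fin hf σ) ∈ Φ.D) : σ = 1 := by
  obtain ⟨g, hg⟩ := h
  have h1 : Φ.T ((Φ.nin g)⁻¹ * fin hf σ) = 1 := by
    rw [_root_.map_mul, _root_.map_inv, ← hg]
    exact inv_mul_cancel _
  rw [Φ.T_eq_one_iff] at h1
  obtain ⟨c, hc⟩ := h1
  have h2 := congrArg SemidirectProduct.right hc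
  rw [Subgroup.coe_mul, Subgroup.coe_inv, coe_nin, coe_fin] at h2
  simpa using h2

theorem fin_injective (hf : Φ.HasField) : Function.Injective (Φ.T.comp (fin hf)) := by
  rw [injective_iff_map_eq_one]
  intro σ hσ
  refine fin_mem_D hf ?_
  rw [MonoidHom.comp_apply] at hσ
  rw [hσ]
  exact one_mem _

theorem exists_theta (hΦ : Φ.Full) (hf : Φ.HasField) :
    ∃ θ : MulAut (S ⧸ Subgroup.center S) →* (F ≃+* F), Function.Surjective θ ∧ θ.ker = Φ.D ∧
      ∀ σ, θ (Φ.T (fin hf σ)) = σ := by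
  refine AutL.exists_theta Φ.D hΦ.D_normal (Φ.T.comp (fin hf)) ?_ ?_
  · intro α
    obtain ⟨x, rfl⟩ := hΦ α
    obtain ⟨g, hg⟩ := eq_nin_fin hf x
    refine ⟨(x : Gm ι F).right, g, ?_⟩
    rw [MonoidHom.comp_apply, MonoidHom.comp_apply, eq_mul_inv_iff_mul_eq, ← _root_.map_mul, ← hg]
  · intro σ hσ
    exact fin_mem_D hf hσ

/-- the order of `D`. -/
theorem ker_nin (g : Φ.N) : Φ.T (Φ.nin g) = 1 ↔ ∃ c : Fˣ, (g : GL ι F) = scl ι c := by
  rw [Φ.T_eq_one_iff]
  constructor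
  · rintro ⟨c, hc⟩
    exact ⟨c, SemidirectProduct.inl_injective hc⟩
  · rintro ⟨c, hc⟩
    exact ⟨c, by rw [coe_nin, hc]⟩

/-- powers of `g σ`. -/
theorem pow_eq (g : GL ι F) (σ : F ≃+* F) (k : ℕ) :
    (SemidirectProduct.inl g * SemidirectProduct.inr σ : Gm ι F) ^ k =
      SemidirectProduct.inl (Nn σ g k) * SemidirectProduct.inr (σ ^ k) := by
  induction k with
  | zero => simp [Nn_zero]
  | succ k ih =>
    rw [pow_succ', ih, Nn_succ, pow_succ' σ, _root_.map_mul, _root_.map_mul]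
    have h1 : (SemidirectProduct.inr σ * SemidirectProduct.inl (Nn σ g k) : Gm ι F) =
        SemidirectProduct.inl (gσ σ (Nn σ g k)) * SemidirectProduct.inr σ := by
      rw [← gsH_apply, SemidirectProduct.inl_aut]
      simp
    calc _ = SemidirectProduct.inl g * (SemidirectProduct.inr σ * SemidirectProduct.inl (Nn σ g k)) *
          SemidirectProduct.inr (σ ^ k) := by simp only [mul_assoc]
      _ = _ := by rw [h1]; simp only [mul_assoc]

theorem inr_inl (σ : F ≃+* F) (g : GL ι F) :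
    (SemidirectProduct.inr σ * SemidirectProduct.inl g : Gm ι F) =
      SemidirectProduct.inl (gσ σ g) * SemidirectProduct.inr σ := by
  rw [← gsH_apply, SemidirectProduct.inl_aut]
  simp

/-- Lang's theorem for the family with respect to `σ`. -/
def Lang (Φ : Fam S ι F) (σ : F ≃+* F) : Prop :=
  ∀ g ∈ Φ.N, Nn σ g (orderOf σ) = 1 → ∃ y ∈ Φ.N, ∃ c : Fˣ,
    g = scl ι c * (y * (gσ σ y)⁻¹)

/-- fields automorphisms: conjugacy in the coset. -/
theorem conj_of_pow [Finite F] [Nonempty ι] (hf : Φ.HasField) {σ : F ≃+* F} (hL : Lang Φ σ) (hr0 : 0 < orderOf σ)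
    {δ : MulAut (S ⧸ Subgroup.center S)} (hδ : δ ∈ Φ.D) (h : (δ * Φ.T (fin hf σ)) ^ orderOf σ = 1) :
    ∃ η ∈ Φ.D, δ * Φ.T (fin hf σ) = η * Φ.T (fin hf σ) * η⁻¹ := by
  obtain ⟨⟨g, hg⟩, rfl⟩ := hδ
  rw [MonoidHom.comp_apply, ← _root_.map_mul, ← _root_.map_pow, Φ.T_eq_one_iff] at h
  obtain ⟨c, hc⟩ := h
  have h1 : (((Φ.nin ⟨g, hg⟩ * fin hf σ) ^ orderOf σ : Φ.Γ) : Gm ι F) =
      SemidirectProduct.inl (Nn σ g (orderOf σ)) := by
    rw [Subgroup.coe_pow, Subgroup.coe_mul, coe_nin, coe_fin, pow_eq, pow_orderOf_eq_one]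
    simp
  rw [h1] at hc
  have hc' := SemidirectProduct.inl_injective hc
  have hcf : σ (c : F) = c := by
    obtain ⟨s, hs⟩ : ∃ s, orderOf σ = s + 1 := ⟨orderOf σ - 1, by omega⟩
    have e1 := Nn_succ σ g (s + 1)
    have e0 : Nn σ g (s + 1) = scl ι c := by rw [← hs]; exact hc'
    rw [Nn_succ', e0, gσ_sc, ← hs, pow_orderOf_eq_one, gσ_one, sc_comm] at e1
    have e2 := mul_left_cancel e1
    exact (congrArg Units.val (sc_inj e2)).symm
  obtain ⟨x, hx⟩ := exists_norm_eq σ rfl hr0 c⁻¹ (by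
    have : ((c⁻¹ : Fˣ) : F) = (c : F)⁻¹ := by simp
    rw [this, map_inv₀, hcf])
  obtain ⟨y, hy, d, hyd⟩ := hL (scl ι x * g) (mul_mem (Φ.sc x) hg) (by
      rw [Nn_sc, hc', hx, ← _root_.map_mul, inv_mul_cancel, _root_.map_one])
  refine ⟨Φ.T (Φ.nin ⟨y, hy⟩), ⟨⟨y, hy⟩, rfl⟩, ?_⟩
  have h2 : g = scl ι (x⁻¹ * d) * (y * (gσ σ y)⁻¹) := by
    rw [_root_.map_mul, mul_assoc, ← hyd, _root_.map_inv, inv_mul_cancel_left]
  have h3 : Φ.nin ⟨g, hg⟩ * fin hf σ =
      Φ.nin ⟨scl ι (x⁻¹ * d), Φ.sc _⟩ * (Φ.nin ⟨y, hy⟩ * fin hf σ * (Φ.nin ⟨y, hy⟩)⁻¹) := by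
    apply Subtype.ext
    rw [Subgroup.coe_mul, Subgroup.coe_mul, Subgroup.coe_mul, Subgroup.coe_mul, Subgroup.coe_inv, coe_nin,
      coe_nin, coe_nin, coe_fin]
    change (SemidirectProduct.inl g * SemidirectProduct.inr σ : Gm ι F) = SemidirectProduct.inl (scl ι (x⁻¹ * d)) *
      (SemidirectProduct.inl y * SemidirectProduct.inr σ * (SemidirectProduct.inl y)⁻¹)
    rw [mul_assoc (SemidirectProduct.inl y), ← _root_.map_inv, inr_inl, h2, _root_.map_mul, _root_.map_mul,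
      _root_.map_inv (gσ σ), _root_.map_mul SemidirectProduct.inl y]
    simp only [mul_assoc]
  have h4 : Φ.T (Φ.nin ⟨scl ι (x⁻¹ * d), Φ.sc _⟩) = 1 := (ker_nin _).mpr ⟨_, rfl⟩
  rw [MonoidHom.comp_apply, ← _root_.map_mul, h3, _root_.map_mul, h4, one_mul, _root_.map_mul,
    _root_.map_mul, _root_.map_inv]

theorem orderOf_fin (hf : Φ.HasField) (σ : F ≃+* F) : orderOf (Φ.T (fin hf σ)) = orderOf σ :=
  orderOf_injective (Φ.T.comp (fin hf)) (fin_injective hf) σ

/-- the coset theorem for field automorphisms. -/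
theorem coset_iff [Finite F] [Nonempty ι] (hf : Φ.HasField) (hD : Φ.D.Normal)
    (hL : ∀ σ : F ≃+* F, Lang Φ σ) {x δ α : MulAut (S ⧸ Subgroup.center S)} {σ : F ≃+* F}
    (hα : α * x * α⁻¹ = Φ.T (fin hf σ)) {r : ℕ} (hr : 0 < r) (hxr : orderOf x = r) (hδ : δ ∈ Φ.D) :
    orderOf (δ * x) = r ↔ Cfsg.IsConjUnder Φ.D x (δ * x) := by
  constructor
  · intro hr'
    have hδr : (δ * x) ^ r = 1 := by rw [← hr', pow_orderOf_eq_one]
    have hσr : orderOf σ = r := by rw [← orderOf_fin hf σ, ← hα, orderOf_conj', hxr]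
    obtain ⟨η, hη, h⟩ := conj_transfer hD hα hδ (fun δ' hδ' h =>
      conj_of_pow hf (hL σ) (by rw [hσr]; exact hr) hδ' (by rw [hσr]; exact h)) hδr
    exact ⟨η, hη, h⟩
  · rintro ⟨η, hη, h⟩
    rw [h, orderOf_conj', hxr]

/-- commuting with a field automorphism. -/
theorem comm_iff (hf : Φ.HasField) {σ : F ≃+* F} {g : Φ.N} :
    Φ.T (Φ.nin g) ∈ Subgroup.centralizer {Φ.T (fin hf σ)} ↔
      ∃ c : Fˣ, gσ σ (g : GL ι F) = scl ι c * g := by
  rw [Subgroup.mem_centralizer_singleton_iff, ← _root_.map_mul, ← _root_.map_mul, ← inv_mul_eq_one,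
    ← _root_.map_inv, ← _root_.map_mul, Φ.T_eq_one_iff]
  have h1 : (((Φ.nin g * fin hf σ)⁻¹ * (fin hf σ * Φ.nin g) : Φ.Γ) : Gm ι F) =
      (SemidirectProduct.inr σ)⁻¹ * SemidirectProduct.inl ((g : GL ι F)⁻¹ * gσ σ g) * SemidirectProduct.inr σ := by
    rw [Subgroup.coe_mul, Subgroup.coe_inv, Subgroup.coe_mul, Subgroup.coe_mul, coe_nin, coe_fin, inr_inl,
      _root_.mul_inv_rev, _root_.map_mul, _root_.map_inv]
    simp only [mul_assoc]
  rw [h1]
  constructor
  · rintro ⟨c, hc⟩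
    have h2 : (SemidirectProduct.inl ((g : GL ι F)⁻¹ * gσ σ g) : Gm ι F) =
        SemidirectProduct.inl (gσ σ (scl ι c)) := by
      have h3 : (SemidirectProduct.inl ((g : GL ι F)⁻¹ * gσ σ g) : Gm ι F) =
          SemidirectProduct.inr σ * ((SemidirectProduct.inr σ)⁻¹ *
            SemidirectProduct.inl ((g : GL ι F)⁻¹ * gσ σ g) * SemidirectProduct.inr σ) *
            (SemidirectProduct.inr σ)⁻¹ := by group
      rw [h3, hc, inr_inl, mul_inv_cancel_right]
    have h4 := SemidirectProduct.inl_injective h2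
    rw [gσ_sc] at h4
    exact ⟨_, by rw [sc_comm, ← h4, mul_inv_cancel_left]⟩
  · rintro ⟨c, hc⟩
    have h2 : (g : GL ι F)⁻¹ * gσ σ g = scl ι c := by rw [hc, sc_comm, inv_mul_cancel_left]
    refine ⟨Units.map (σ.symm : F →* F) c, ?_⟩
    have h3 : gσ σ (scl ι (Units.map (σ.symm : F →* F) c)) = scl ι c := by
      rw [gσ_sc]
      congr 1
      apply Units.ext
      change σ (σ.symm (c : F)) = c
      exact σ.apply_symm_apply _
    rw [h2, ← h3, mul_assoc, ← inr_inl, inv_mul_cancel_left]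

end Fam

end Cfsg.Agent.H16.Gam
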