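import Cfsg.Agent.H16_El
import Cfsg.Agent.H16_Quad5

/-! Maximal totally singular subspaces of the standard plus form. -/

set_option autoImplicit false
set_option linter.unusedSectionVars false

namespace Cfsg.Agent.H16.Quad

open Module
open QuadraticMap (polar)

theorem map_mulVecLin {F : Type*} [Field F] {ι : Type} [Fintype ι] [DecidableEq ι] {Q : QuadraticForm F (ι → F)}
    (g : Cfsg.isometryGroup F ⇑Q) (U : Submodule F (ι → F)) :
    U.map (Matrix.mulVecLin ((g : Matrix.GeneralLinearGroup ι F) : Matrix ι ι F)) = U.map (toOG Q g).1.toLinearMap := by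
  ext x
  rfl

section

variable {F : Type*} [Field F] (m : ℕ)

/-- the subspace `y = 0` -/
def U0 (F : Type*) [Field F] (m : ℕ) : Submodule F (Fin m ⊕ Fin m → F) :=
  LinearMap.ker (LinearMap.funLeft F F (Sum.inr : Fin m → Fin m ⊕ Fin m))

theorem mem_U0 {v : Fin m ⊕ Fin m → F} : v ∈ U0 F m ↔ ∀ i, v (Sum.inr i) = 0 := by
  rw [U0, LinearMap.mem_ker]
  constructor
  · intro h i; exact congrFun h i
  · intro h; ext i; exact h i

theorem finrank_plus : finrank F (Fin m ⊕ Fin m → F) = 2 * m := by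
  rw [Module.finrank_fintype_fun_eq_card, Fintype.card_sum, Fintype.card_fin]; ring

theorem finrank_U0 : finrank F (U0 F m) = m := by
  have h1 := LinearMap.finrank_range_add_finrank_ker (LinearMap.funLeft F F (Sum.inr : Fin m → Fin m ⊕ Fin m))
  have h2 : LinearMap.range (LinearMap.funLeft F F (Sum.inr : Fin m → Fin m ⊕ Fin m)) = ⊤ :=
    LinearMap.range_eq_top.2 (LinearMap.funLeft_surjective_of_injective F F _ Sum.inr_injective)
  rw [h2, finrank_top, finrank_plus, Module.finrank_fin_fun] at h1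
  show finrank F (LinearMap.ker (LinearMap.funLeft F F (Sum.inr : Fin m → Fin m ⊕ Fin m))) = m
  omega

theorem isMax_U0 : IsMax (plusQ F m) (U0 F m) := by
  refine ⟨?_, by rw [finrank_U0, finrank_plus]⟩
  intro u hu
  rw [mem_U0] at hu
  rw [plusQ_apply]
  simp [Cfsg.quadFormPlus, hu]

theorem isMax_iff {U : Submodule F (Fin m ⊕ Fin m → F)} :
    (finrank F U = m ∧ ∀ w ∈ U, Cfsg.quadFormPlus m F w = 0) ↔ IsMax (plusQ F m) U := by
  rw [IsMax, finrank_plus]
  simp only [plusQ_apply]
  constructor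
  · rintro ⟨h1, h2⟩; exact ⟨h2, by rw [h1]⟩
  · rintro ⟨h1, h2⟩; exact ⟨by omega, h1⟩

end

end Cfsg.Agent.H16.Quad
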