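import Cfsg.Agent.H16_DL2

/-! Normal rank of Sylow 2-subgroups of symplectic groups. -/

set_option autoImplicit false
set_option linter.style.haveILetI false

namespace Cfsg.Agent.H16.NR

open Module Cfsg.Agent.H5

/-- transport of normal elementary abelian subgroups to Sylow subgroups -/
theorem transport {p : ℕ} [hp : Fact p.Prime] {M G : Type*} [Group M] [Group G] [Finite M] [Finite G] (φ : M →* G) (hφ : Function.Injective φ)
    (hc : (Nat.card M).factorization p = (Nat.card G).factorization p) (E : Subgroup M) [hEn : E.Normal] (hE : Cfsg.IsElementaryAbelian p E)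
    (S : Sylow p G) :
    ∃ E' : Subgroup (S : Subgroup G), E'.Normal ∧ Cfsg.IsElementaryAbelian p E' ∧ Nat.card E' = Nat.card E := by
  classical
  obtain ⟨hE1, hE2⟩ := hE
  have hEp : IsPGroup p E := by
    intro g
    refine ⟨1, ?_⟩
    rw [pow_one]
    exact Subtype.ext (hE2 g g.2)
  obtain ⟨T, hT⟩ := hEp.exists_le_sylow
  have hcT : Nat.card ((T : Subgroup M).map φ) = p ^ (Nat.card G).factorization p := by
    rw [← hc, ← T.card_eq_multiplicity]
    exact (Nat.card_congr ((T : Subgroup M).equivMapOfInjective φ hφ).toEquiv).symm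
  let P : Sylow p G := Sylow.ofCard _ hcT
  let e : (T : Subgroup M) ≃* (S : Subgroup G) := ((T : Subgroup M).equivMapOfInjective φ hφ).trans (Sylow.equiv P S)
  let E0 : Subgroup (T : Subgroup M) := E.subgroupOf T
  haveI : E0.Normal := hEn.subgroupOf _
  refine ⟨E0.map e.toMonoidHom, Subgroup.Normal.map inferInstance _ e.surjective, ⟨⟨⟨?_⟩⟩, ?_⟩, ?_⟩
  · rintro ⟨_, a, ha, rfl⟩ ⟨_, b, hb, rfl⟩
    apply Subtype.ext
    change e a * e b = e b * e a
    rw [← map_mul, ← map_mul]
    congr 1
    apply Subtype.ext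
    have h1 := hE1.is_comm.comm (⟨a, Subgroup.mem_subgroupOf.1 ha⟩ : E) ⟨b, Subgroup.mem_subgroupOf.1 hb⟩
    have h2 := congrArg Subtype.val h1
    exact h2
  · rintro _ ⟨a, ha, rfl⟩
    change e a ^ p = 1
    rw [← map_pow, EmbeddingLike.map_eq_one_iff]
    exact Subtype.ext (hE2 a (Subgroup.mem_subgroupOf.1 ha))
  · rw [← Nat.card_congr (E0.equivMapOfInjective e.toMonoidHom e.injective).toEquiv]
    exact Nat.card_congr (Subgroup.subgroupOfEquivOfLe hT).toEquiv

section

variable {F : Type*} [Field F] {V : Type*} [AddCommGroup V] [Module F V]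

theorem max_eq [FiniteDimensional F V] (h2 : (2 : F) ≠ 0) {T : Module.End F V} (hT : T * T = 1) (c : F) {v : V} (hv : v ∈ T.maxGenEigenspace c) : T v = c • v := by
  have hss : T.IsSemisimple := by
    refine Module.End.isSemisimple_of_squarefree_aeval_eq_zero (p := Polynomial.X ^ 2 - 1) ?_ ?_
    · exact ((Polynomial.X_pow_sub_one_separable_iff (n := 2) (F := F)).2 (by exact_mod_cast h2)).squarefree
    · rw [map_sub, map_pow, Polynomial.aeval_X, map_one, pow_two, hT, sub_self]
  rw [hss.isFinitelySemisimple.maxGenEigenspace_eq_eigenspace] at hv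
  exact Module.End.mem_eigenspace_iff.1 hv

theorem sup_top (h2 : (2 : F) ≠ 0) {T : Module.End F V} (hT : T * T = 1) : ⨆ μ, T.maxGenEigenspace μ = ⊤ := by
  rw [eq_top_iff]
  intro v _
  have hTT : ∀ x, T (T x) = x := fun x => LinearMap.congr_fun hT x
  have h3 : v = (2 : F)⁻¹ • (v + T v) + (2 : F)⁻¹ • (v - T v) := by
    rw [← smul_add, add_add_sub_cancel, ← two_smul F v, smul_smul, inv_mul_cancel₀ h2, one_smul]
  rw [h3]
  refine Submodule.add_mem _ ?_ ?_
  · refine Submodule.mem_iSup_of_mem 1 ?_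
    rw [Module.End.mem_maxGenEigenspace]
    refine ⟨1, ?_⟩
    rw [pow_one, LinearMap.sub_apply, map_smul, map_add, hTT, one_smul, Module.End.one_apply, add_comm, sub_self]
  · refine Submodule.mem_iSup_of_mem (-1) ?_
    rw [Module.End.mem_maxGenEigenspace]
    refine ⟨1, ?_⟩
    rw [pow_one, LinearMap.sub_apply, map_smul, map_sub, hTT, LinearMap.smul_apply, Module.End.one_apply, neg_one_smul, ← smul_neg, neg_sub, sub_self]

theorem upper [FiniteDimensional F V] (h2 : (2 : F) ≠ 0) {E : Type*} [Group E] [Finite E]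
    (hc : ∀ a b : E, a * b = b * a) (hs : ∀ a : E, a ^ 2 = 1) (ρ : E →* Module.End F V) (hρ : Function.Injective ρ)
    (A : Frm F (RingHom.id F) (-1) (0 : F →+ F) V) (hA : A.Nondeg) (hB : ∀ a x y, A.B (ρ a x) (ρ a y) = A.B x y) {n : ℕ} (hn : finrank F V = 2 * n) :
    Nat.card E ≤ 2 ^ n := by
  classical
  have hsq : ∀ a, ρ a * ρ a = 1 := by
    intro a
    rw [← map_mul, ← pow_two, hs, map_one]
  have hcomm : ∀ a b, Commute (ρ a) (ρ b) := by
    intro a b
    change ρ a * ρ b = ρ b * ρ a
    rw [← map_mul, hc, map_mul]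
  let f : E → Module.End F V := fun a => ρ a
  let M : (E → F) → Submodule F V := fun χ => ⨅ a, (f a).maxGenEigenspace (χ a)
  have hM1 : ⨆ χ, M χ = ⊤ := Module.End.iSup_iInf_maxGenEigenspace_eq_top_of_iSup_maxGenEigenspace_eq_top_of_commute f
    (fun a b _ => hcomm a b) (fun a => sup_top h2 (hsq a))
  have hM2 : iSupIndep M := Module.End.independent_iInf_maxGenEigenspace_of_forall_mapsTo f
    (fun a b c => Module.End.mapsTo_maxGenEigenspace_of_comm (hcomm b a) c)
  haveI hfinΛ : Finite {χ // M χ ≠ ⊥} := WellFoundedGT.finite_ne_bot_of_iSupIndep hM2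
  haveI : Fintype {χ // M χ ≠ ⊥} := Fintype.ofFinite _
  have hMv : ∀ χ, ∀ v ∈ M χ, ∀ a, ρ a v = χ a • v := by
    intro χ v hv a
    rw [Submodule.mem_iInf] at hv
    exact max_eq h2 (hsq a) _ (hv a)
  clear_value M
  have hχ : ∀ χ, M χ ≠ ⊥ → ∀ a, χ a = 1 ∨ χ a = -1 := by
    intro χ h a
    obtain ⟨v, hv, hv0⟩ := (Submodule.ne_bot_iff _).1 h
    have h1 : ρ a (ρ a v) = v := LinearMap.congr_fun (hsq a) v
    rw [hMv χ v hv, map_smul, hMv χ v hv, smul_smul] at h1
    have h3 : (χ a * χ a - 1) • v = 0 := by rw [sub_smul, h1, one_smul, sub_self]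
    have h4 := (smul_eq_zero.1 h3).resolve_right hv0
    have h5 : (χ a - 1) * (χ a + 1) = 0 := by linear_combination h4
    rcases mul_eq_zero.1 h5 with h6 | h6
    · left; exact sub_eq_zero.1 h6
    · right; exact eq_neg_of_add_eq_zero_left h6
  have horth : ∀ χ χ', M χ ≠ ⊥ → M χ' ≠ ⊥ → χ ≠ χ' → ∀ v ∈ M χ, ∀ w ∈ M χ', A.B v w = 0 := by
    intro χ χ' h h' hne v hv w hw
    obtain ⟨a, ha⟩ : ∃ a, χ a ≠ χ' a := by
      by_contra hcon
      push Not at hcon
      exact hne (funext hcon)
    have h1 := hB a v w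
    have e1 : A.B (χ a • v) (χ' a • w) = χ a * (χ' a * A.B v w) := by
      rw [(A.B (χ a • v)).map_smul, A.B.map_smulₛₗ, LinearMap.smul_apply, RingHom.id_apply, smul_eq_mul, smul_eq_mul]
      ring
    rw [hMv χ v hv, hMv χ' w hw, e1] at h1
    have h3 : χ a * χ' a = -1 := by
      rcases hχ χ h a with h4 | h4 <;> rcases hχ χ' h' a with h5 | h5
      · exact absurd (h4.trans h5.symm) ha
      · rw [h4, h5, one_mul]
      · rw [h4, h5, mul_one]
      · exact absurd (h4.trans h5.symm) ha
    rw [← mul_assoc, h3] at h1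
    have h4 : (2 : F) * A.B v w = 0 := by linear_combination -h1
    exact (mul_eq_zero.1 h4).resolve_left h2
  -- the isotropic family
  have hex : ∀ χ : {χ // M χ ≠ ⊥}, ∃ v ∈ M χ.1, v ≠ 0 := fun χ => (Submodule.ne_bot_iff _).1 χ.2
  choose v hv hv0 using hex
  have hvl : LinearIndependent F v := by
    have h3 : iSupIndep (fun χ : {χ // M χ ≠ ⊥} => M χ.1) := hM2.comp Subtype.val_injective
    exact iSupIndep.linearIndependent (fun χ : {χ // M χ ≠ ⊥} => M χ.1) h3 hv hv0
  have hle : Fintype.card {χ // M χ ≠ ⊥} ≤ n := by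
    have h3 : finrank F (Submodule.span F (Set.range v)) = Fintype.card {χ // M χ ≠ ⊥} := finrank_span_eq_card hvl
    have h4 : Submodule.span F (Set.range v) ≤ A.orth (Submodule.span F (Set.range v)) := by
      rw [Submodule.span_le]
      rintro _ ⟨χ, rfl⟩
      rw [SetLike.mem_coe, Frm.mem_orth]
      intro w hw
      induction hw using Submodule.span_induction with
      | mem w hw =>
        obtain ⟨χ', rfl⟩ := hw
        by_cases he : χ' = χ
        · rw [he]; exact Un.Bself A _
        · exact horth _ _ χ'.2 χ.2 (fun h => he (Subtype.ext h)) _ (hv χ') _ (hv χ)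
      | zero => rw [map_zero, LinearMap.zero_apply]
      | add x y _ _ hx hy => rw [map_add, LinearMap.add_apply, hx, hy, add_zero]
      | smul c x _ hx => rw [LinearMap.map_smulₛₗ, LinearMap.smul_apply, hx, smul_zero]
    have h5 := Frm.finrank_orth hA (Submodule.span F (Set.range v))
    have h6 := Submodule.finrank_mono h4
    rw [h3] at h5 h6
    omega
  -- injection
  let g : E → ({χ // M χ ≠ ⊥} → Bool) := fun a χ => decide (χ.1 a = 1)
  have hg : Function.Injective g := by
    intro a b hab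
    have h3 : ∀ χ, M χ ≠ ⊥ → χ a = χ b := by
      intro χ h
      have h4 : decide (χ a = 1) = decide (χ b = 1) := congrFun hab ⟨χ, h⟩
      rw [decide_eq_decide] at h4
      rcases hχ χ h a with h5 | h5 <;> rcases hχ χ h b with h6 | h6
      · rw [h5, h6]
      · rw [h5, h4.1 h5]
      · rw [h6, h4.2 h6]
      · rw [h5, h6]
    apply hρ
    have h4 : (⊤ : Submodule F V) ≤ LinearMap.eqLocus (ρ a) (ρ b) := by
      rw [← hM1, iSup_le_iff]
      intro χ
      by_cases h : M χ = ⊥
      · rw [h]; exact bot_le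
      intro w hw
      rw [LinearMap.mem_eqLocus, hMv χ w hw, hMv χ w hw, h3 χ h]
    apply LinearMap.ext
    intro w
    exact h4 (Submodule.mem_top (x := w))
  have h3 := Nat.card_le_card_of_injective g hg
  rw [Nat.card_eq_fintype_card (α := {χ // M χ ≠ ⊥} → Bool), Fintype.card_fun, Fintype.card_bool] at h3
  exact h3.trans (Nat.pow_le_pow_right (by norm_num) hle)

end

end Cfsg.Agent.H16.NR
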