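import Cfsg.Agent.H16_NR1
import Cfsg.Agent.H5_SL2

/-! Normal rank of Sylow 2-subgroups of symplectic groups: construction. -/

set_option autoImplicit false
set_option linter.style.haveILetI false

namespace Cfsg.Agent.H16.NR

open Module Cfsg.Agent.H5

universe u

/-- the 2-part of the order -/
theorem val_eq {q : ℕ} (hq : Odd q) (hq1 : 1 < q) (n : ℕ) :
    (q ^ n ^ 2 * ∏ i ∈ Finset.range n, (q ^ (2 * (i + 1)) - 1)).factorization 2 = ((q * (q - 1) * (q + 1)) ^ n * n.factorial).factorization 2 := by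
  haveI : Fact (Nat.Prime 2) := ⟨Nat.prime_two⟩
  have hq0 : q ≠ 0 := by omega
  have h2q : ¬ 2 ∣ q := fun h => by rw [Nat.odd_iff] at hq; omega
  have hvq : padicValNat 2 q = 0 := padicValNat.eq_zero_of_not_dvd h2q
  have hne : ∀ i, q ^ (2 * (i + 1)) - 1 ≠ 0 := fun i => by
    have := Nat.one_lt_pow (show 2 * (i + 1) ≠ 0 by omega) hq1
    omega
  have hm1 : q - 1 ≠ 0 := by omega
  have hstep : ∀ i, padicValNat 2 (q ^ (2 * (i + 1)) - 1) = padicValNat 2 (q - 1) + padicValNat 2 (q + 1) + padicValNat 2 (i + 1) := by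
    intro i
    have h := padicValNat.pow_two_sub_pow (x := q) (y := 1) hq1 (by rw [Nat.odd_iff] at hq; omega) h2q (n := 2 * (i + 1)) (by omega) (even_two_mul _)
    rw [one_pow, padicValNat.mul (by norm_num) (by omega), padicValNat.self (by norm_num)] at h
    omega
  have hP : ∀ n, ∏ i ∈ Finset.range n, (q ^ (2 * (i + 1)) - 1) ≠ 0 := fun n => Finset.prod_ne_zero_iff.2 fun i _ => hne i
  have key : ∀ n, padicValNat 2 (∏ i ∈ Finset.range n, (q ^ (2 * (i + 1)) - 1)) = n * (padicValNat 2 (q - 1) + padicValNat 2 (q + 1)) + padicValNat 2 n.factorial := by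
    intro n
    induction n with
    | zero => simp
    | succ n ih =>
      rw [Finset.prod_range_succ, padicValNat.mul (hP n) (hne n), ih, hstep, Nat.factorial_succ, padicValNat.mul (by omega) (Nat.factorial_ne_zero n)]
      ring
  rw [Nat.factorization_def _ Nat.prime_two, Nat.factorization_def _ Nat.prime_two, padicValNat.mul (pow_ne_zero _ hq0) (hP n), key,
    padicValNat.mul (pow_ne_zero _ (mul_ne_zero (mul_ne_zero hq0 hm1) (by omega))) (Nat.factorial_ne_zero n), padicValNat.pow,
    padicValNat.pow, padicValNat.mul (mul_ne_zero hq0 hm1) (by omega), padicValNat.mul hq0 hm1, hvq]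
  ring

variable {F : Type u} [Field F]

/-- the sign -/
def cS : ℤˣ →* Matrix.SpecialLinearGroup (Fin 2) F where
  toFun u := if u = 1 then 1 else -1
  map_one' := if_pos rfl
  map_mul' a b := by
    rcases Int.units_eq_one_or a with rfl | rfl <;> rcases Int.units_eq_one_or b with rfl | rfl <;> simp

theorem cS_neg : (cS (-1 : ℤˣ) : Matrix.SpecialLinearGroup (Fin 2) F) = -1 := by
  change (if (-1 : ℤˣ) = 1 then (1 : Matrix.SpecialLinearGroup (Fin 2) F) else -1) = -1
  exact if_neg (by decide)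

theorem cS_comm (u : ℤˣ) (s : Matrix.SpecialLinearGroup (Fin 2) F) : s * cS u = cS u * s := by
  rcases Int.units_eq_one_or u with rfl | rfl
  · rw [map_one, mul_one, one_mul]
  · rw [cS_neg, mul_neg, neg_mul, mul_one, one_mul]

theorem cS_inj (h2 : (2 : F) ≠ 0) : Function.Injective (cS (F := F)) := by
  rw [injective_iff_map_eq_one]
  intro u hu
  rcases Int.units_eq_one_or u with rfl | rfl
  · rfl
  · exfalso
    rw [cS_neg] at hu
    have h3 := congrArg (fun z : Matrix.SpecialLinearGroup (Fin 2) F => z.1 0 0) hu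
    have h4 : (-1 : F) = 1 := by simpa using h3
    apply h2
    linear_combination -h4

/-- the wreath product -/
abbrev WM (F : Type u) [Field F] (n : ℕ) := (Fin n → Matrix.SpecialLinearGroup (Fin 2) F) ⋊[mulAutArrow] Equiv.Perm (Fin n)

instance wM_finite [Finite F] (n : ℕ) : Finite (WM F n) := Finite.of_equiv _ (SemidirectProduct.equivProd).symm

/-- the representation -/
def wR (n : ℕ) : WM F n →* Module.End F (Fin n → Fin 2 → F) where
  toFun g :=
    { toFun := fun f i => (g.left i).1.mulVec (f (g.right⁻¹ i))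
      map_add' := fun f f' => by funext i; exact Matrix.mulVec_add _ _ _
      map_smul' := fun c f => by funext i; exact Matrix.mulVec_smul (g.left i).1 c (f (g.right⁻¹ i)) }
  map_one' := by
    apply LinearMap.ext
    intro f
    funext i
    change (1 : Matrix (Fin 2) (Fin 2) F).mulVec (f i) = f i
    exact Matrix.one_mulVec _
  map_mul' g h := by
    apply LinearMap.ext
    intro f
    funext i
    change ((g.left i).1 * (h.left (g.right⁻¹ i)).1).mulVec (f ((g.right * h.right)⁻¹ i)) = (g.left i).1.mulVec ((h.left (g.right⁻¹ i)).1.mulVec (f (h.right⁻¹ (g.right⁻¹ i))))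
    rw [Matrix.mulVec_mulVec, mul_inv_rev]
    rfl

theorem wR_apply (n : ℕ) (g : WM F n) (f : Fin n → Fin 2 → F) (i : Fin n) : wR n g f i = (g.left i).1.mulVec (f (g.right⁻¹ i)) := rfl

theorem wR_inj (n : ℕ) : Function.Injective (wR (F := F) n) := by
  rw [injective_iff_map_eq_one]
  intro g hg
  have h1 : ∀ (f : Fin n → Fin 2 → F) (i : Fin n), (g.left i).1.mulVec (f (g.right⁻¹ i)) = f i := by
    intro f i
    rw [← wR_apply, hg]; rfl
  have h2 : ∀ i, g.right⁻¹ i = i := by
    intro i
    by_contra hne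
    have h3 := h1 (Pi.single i (fun _ => 1)) i
    rw [Pi.single_eq_same, Pi.single_eq_of_ne hne, Matrix.mulVec_zero] at h3
    exact zero_ne_one (congrFun h3 0)
  have h3 : g.right = 1 := by
    rw [← inv_eq_one]
    exact Equiv.ext h2
  have h4 : g.left = 1 := by
    funext i
    apply Subtype.ext
    apply Matrix.mulVec_injective
    funext w
    have h5 := h1 (fun _ => w) i
    change (g.left i).1.mulVec w = (1 : Matrix (Fin 2) (Fin 2) F).mulVec w
    rw [Matrix.one_mulVec]
    exact h5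
  exact SemidirectProduct.ext h4 h3

/-- the elementary abelian subgroup -/
def wE (F : Type u) [Field F] (n : ℕ) : (Fin n → ℤˣ) →* WM F n :=
  SemidirectProduct.inl.comp (Pi.monoidHom fun i => cS.comp (Pi.evalMonoidHom (fun _ : Fin n => ℤˣ) i))

theorem wE_left (n : ℕ) (ε : Fin n → ℤˣ) (i : Fin n) : (wE F n ε).left i = cS (ε i) := rfl

theorem wE_right (n : ℕ) (ε : Fin n → ℤˣ) : (wE F n ε).right = 1 := rfl

theorem wE_inj (h2 : (2 : F) ≠ 0) (n : ℕ) : Function.Injective (wE F n) := by
  intro ε ε' h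
  funext i
  apply cS_inj h2
  rw [← wE_left, ← wE_left, h]

instance wE_normal (n : ℕ) : (wE F n).range.Normal := by
  refine ⟨?_⟩
  rintro _ ⟨ε, rfl⟩ g
  refine ⟨fun i => ε (g.right⁻¹ i), ?_⟩
  rw [eq_mul_inv_iff_mul_eq]
  refine SemidirectProduct.ext ?_ ?_
  · funext i
    change cS (ε (g.right⁻¹ i)) * g.left ((1 : Equiv.Perm (Fin n))⁻¹ i) = g.left i * cS (ε (g.right⁻¹ i))
    rw [cS_comm]
    rfl
  · change 1 * g.right = g.right * 1
    rw [one_mul, mul_one]

theorem wE_elem (n : ℕ) : Cfsg.IsElementaryAbelian 2 (wE F n).range := by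
  refine ⟨⟨⟨?_⟩⟩, ?_⟩
  · rintro ⟨_, ε, rfl⟩ ⟨_, ε', rfl⟩
    apply Subtype.ext
    change wE F n ε * wE F n ε' = wE F n ε' * wE F n ε
    rw [← map_mul, ← map_mul, mul_comm]
  · rintro _ ⟨ε, rfl⟩
    rw [← map_pow]
    have : ε ^ 2 = 1 := by funext i; exact Int.units_sq (ε i)
    rw [this, map_one]

theorem wE_card (h2 : (2 : F) ≠ 0) (n : ℕ) : Nat.card (wE F n).range = 2 ^ n := by
  rw [← Nat.card_congr (MonoidHom.ofInjective (wE_inj (F := F) h2 n)).toEquiv, Nat.card_eq_fintype_card, Fintype.card_fun,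
    Fintype.card_units_int, Fintype.card_fin]

theorem wM_card [Fintype F] (n : ℕ) : Nat.card (WM F n) = (Fintype.card F * (Fintype.card F - 1) * (Fintype.card F + 1)) ^ n * n.factorial := by
  rw [SemidirectProduct.card, Nat.card_fun, Nat.card_perm, Nat.card_fin]
  congr 2
  exact SL2.card_SL2 (F := F)

/-- the form -/
def dB : (Fin 2 → F) → (Fin 2 → F) → F := fun x y => x 0 * y 1 - x 1 * y 0

theorem dB_inv (s : Matrix.SpecialLinearGroup (Fin 2) F) (x y : Fin 2 → F) : dB (s.1.mulVec x) (s.1.mulVec y) = dB x y := by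
  have h1 := s.2
  rw [Matrix.det_fin_two] at h1
  simp only [dB, Matrix.mulVec, dotProduct, Fin.sum_univ_two]
  linear_combination (x 0 * y 1 - x 1 * y 0) * h1

theorem lower [Fintype F] (h2 : (2 : F) ≠ 0) (hq : Odd (Fintype.card F)) {n : ℕ} (S : Sylow 2 (Matrix.symplecticGroup (Fin n) F)) :
    ∃ E : Subgroup (S : Subgroup (Matrix.symplecticGroup (Fin n) F)), E.Normal ∧ Cfsg.IsElementaryAbelian 2 E ∧ Nat.card E = 2 ^ n := by
  classical
  haveI : Fact (Nat.Prime 2) := ⟨Nat.prime_two⟩
  let B : LinearMap.BilinForm F (Fin n → Fin 2 → F) := LinearMap.mk₂ F (fun f g => ∑ i, dB (f i) (g i))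
    (fun f f' g => by rw [← Finset.sum_add_distrib]; refine Finset.sum_congr rfl fun i _ => ?_; simp only [dB, Pi.add_apply]; ring)
    (fun c f g => by rw [smul_eq_mul, Finset.mul_sum]; refine Finset.sum_congr rfl fun i _ => ?_; simp only [dB, Pi.smul_apply, smul_eq_mul]; ring)
    (fun f g g' => by rw [← Finset.sum_add_distrib]; refine Finset.sum_congr rfl fun i _ => ?_; simp only [dB, Pi.add_apply]; ring)
    (fun c f g => by rw [smul_eq_mul, Finset.mul_sum]; refine Finset.sum_congr rfl fun i _ => ?_; simp only [dB, Pi.smul_apply, smul_eq_mul]; ring)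
  have hB' : ∀ f g, B f g = ∑ i, dB (f i) (g i) := fun f g => rfl
  have hB : B.IsAlt := by
    intro f
    rw [hB']
    refine Finset.sum_eq_zero fun i _ => ?_
    simp only [dB]; ring
  have hn : ∀ f, (∀ g, B f g = 0) → f = 0 := by
    intro f hf
    funext i
    have h1 : ∀ w, dB (f i) w = 0 := by
      intro w
      have h3 := hf (Pi.single i w)
      rw [hB', Finset.sum_eq_single i (fun j _ hj => by rw [Pi.single_eq_of_ne hj]; simp only [dB, Pi.zero_apply]; ring)
        (fun h => absurd (Finset.mem_univ i) h), Pi.single_eq_same] at h3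
      exact h3
    funext k
    fin_cases k
    · have h3 := h1 ![0, 1]
      simpa [dB] using h3
    · have h3 := h1 ![1, 0]
      simpa [dB] using h3
  have hinv : ∀ (g : WM F n) f f', B (wR n g f) (wR n g f') = B f f' := by
    intro g f f'
    rw [hB', hB']
    rw [← Equiv.sum_comp g.right⁻¹ (fun i => dB (f i) (f' i))]
    refine Finset.sum_congr rfl fun i _ => ?_
    rw [wR_apply, wR_apply, dB_inv]
  set A := Frm.ofAlt B hB with hA
  have hAn : A.Nondeg := fun f hf => hn f hf
  have h1 : finrank F (Fin n → Fin 2 → F) = 2 * n := by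
    rw [Module.finrank_pi_fintype]
    simp [mul_comm]
  have hw : ∀ {m : ℕ} {V : Type u} [AddCommGroup V] [Module F V] [FiniteDimensional F V]
      (A : Frm F (RingHom.id F) (-1) (0 : F →+ F) V) (_ : A.Nondeg) (_ : finrank F V = 2 * m), Frm.WittDec m 0 A := by
    intro m V _ _ _ A hA hm
    obtain ⟨m', a, ha, hW⟩ := Frm.exists_wittDec.{u} (σ := RingHom.id F) (ε := -1) (t := (0 : F →+ F)) 0 (by
      intro V _ _ _ A hA hV
      obtain ⟨v, hv⟩ := Module.finrank_pos_iff_exists_ne_zero.1 hV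
      exact ⟨v, hv, Un.Qz A v⟩) _ A hA rfl
    obtain rfl : a = 0 := by omega
    have h1 := Frm.WittDec.finrank_eq _ _ A hW
    obtain rfl : m' = m := by omega
    exact hW
  obtain ⟨e, he1, he2⟩ := Frm.WittDec.isometric 0 (fun A A' _ _ _ _ h h' => Frm.Isometric.of_finrank_zero A A' h h') n A
    (Conc.sympFrm n F) hAn (Conc.sympFrm_nondeg n F) (hw A hAn h1) (Conc.sympFrm_wittDec n F)
  let ψ : A.isom ≃* Matrix.symplecticGroup (Fin n) F := (Frm.isomEquiv A (Conc.sympFrm n F) e he1 he2).trans (Conc.spEquiv n F).symm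
  let ρe : WM F n →* ((Fin n → Fin 2 → F) ≃ₗ[F] (Fin n → Fin 2 → F)) :=
    (LinearMap.GeneralLinearGroup.generalLinearEquiv F (Fin n → Fin 2 → F)).toMonoidHom.comp (wR n).toHomUnits
  have hρe : ∀ d x, ρe d x = wR n d x := fun d x => rfl
  let φ : WM F n →* A.isom := ρe.codRestrict A.isom (fun d => ⟨fun x y => hinv d x y, fun x => rfl⟩)
  have hφ : Function.Injective φ := by
    intro a b hab
    apply wR_inj
    apply LinearMap.ext
    intro x
    have := congrArg (fun z : A.isom => (z : (Fin n → Fin 2 → F) ≃ₗ[F] (Fin n → Fin 2 → F)) x) hab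
    exact this
  obtain ⟨E, hE1, hE2, hE3⟩ := transport (p := 2) (ψ.toMonoidHom.comp φ) (ψ.injective.comp hφ) (by
    rw [wM_card, ← Nat.card_congr ψ.toEquiv, Un.card_isom A hAn h1]
    exact (val_eq hq Fintype.one_lt_card n).symm) (wE F n).range (wE_elem n) S
  exact ⟨E, hE1, hE2, hE3.trans (wE_card h2 n)⟩

end Cfsg.Agent.H16.NR
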