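import Cfsg.Agent.H16_NR2
import Cfsg.Agent.H16_NR3
import Cfsg.Agent.H16_DL3

/-! Normal rank of Sylow 2-subgroups of general linear groups: upper bound. -/

set_option autoImplicit false
set_option linter.style.haveILetI false

namespace Cfsg.Agent.H16.NR

open Module

section

variable {F : Type*} [Field F] {V : Type*} [AddCommGroup V] [Module F V]

theorem exists_decomp [FiniteDimensional F V] (h2 : (2 : F) ≠ 0) {E : Type*} [Group E] [Finite E]
    (hc : ∀ a b : E, a * b = b * a) (hs : ∀ a : E, a ^ 2 = 1) (ρ : E →* Module.End F V) (hρ : Function.Injective ρ) :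
    ∃ M : (E → F) → Submodule F V, ⨆ χ, M χ = ⊤ ∧ iSupIndep M ∧ (∀ χ v, v ∈ M χ ↔ ∀ a, ρ a v = χ a • v) ∧
      Nat.card E ≤ 2 ^ Nat.card {χ // M χ ≠ ⊥} := by
  classical
  have hsq : ∀ a, ρ a * ρ a = 1 := by
    intro a
    rw [← map_mul, ← pow_two, hs, map_one]
  have hcomm : ∀ a b, Commute (ρ a) (ρ b) := by
    intro a b
    change ρ a * ρ b = ρ b * ρ a
    rw [← map_mul, hc, map_mul]
  let f : E → Module.End F V := fun a => ρ a
  let M : (E → F) → Submodule F V := fun χ => ⨅ a, (f a).maxGenEigenspace (χ a)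
  have hM1 : ⨆ χ, M χ = ⊤ := Module.End.iSup_iInf_maxGenEigenspace_eq_top_of_iSup_maxGenEigenspace_eq_top_of_commute f
    (fun a b _ => hcomm a b) (fun a => sup_top h2 (hsq a))
  have hM2 : iSupIndep M := Module.End.independent_iInf_maxGenEigenspace_of_forall_mapsTo f
    (fun a b c => Module.End.mapsTo_maxGenEigenspace_of_comm (hcomm b a) c)
  have hMv : ∀ χ v, v ∈ M χ ↔ ∀ a, ρ a v = χ a • v := by
    intro χ v
    constructor
    · intro hv a
      rw [Submodule.mem_iInf] at hv
      exact max_eq h2 (hsq a) _ (hv a)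
    · intro hv
      rw [Submodule.mem_iInf]
      intro a
      rw [Module.End.mem_maxGenEigenspace]
      refine ⟨1, ?_⟩
      rw [pow_one, LinearMap.sub_apply, LinearMap.smul_apply, Module.End.one_apply]
      exact sub_eq_zero.2 (hv a)
  clear_value M
  refine ⟨M, hM1, hM2, hMv, ?_⟩
  haveI hfinΛ : Finite {χ // M χ ≠ ⊥} := WellFoundedGT.finite_ne_bot_of_iSupIndep hM2
  haveI : Fintype {χ // M χ ≠ ⊥} := Fintype.ofFinite _
  have hχ : ∀ χ, M χ ≠ ⊥ → ∀ a, χ a = 1 ∨ χ a = -1 := by
    intro χ h a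
    obtain ⟨v, hv, hv0⟩ := (Submodule.ne_bot_iff _).1 h
    have h1 : ρ a (ρ a v) = v := LinearMap.congr_fun (hsq a) v
    rw [(hMv χ v).1 hv, map_smul, (hMv χ v).1 hv, smul_smul] at h1
    have h3 : (χ a * χ a - 1) • v = 0 := by rw [sub_smul, h1, one_smul, sub_self]
    have h4 := (smul_eq_zero.1 h3).resolve_right hv0
    have h5 : (χ a - 1) * (χ a + 1) = 0 := by linear_combination h4
    rcases mul_eq_zero.1 h5 with h6 | h6
    · left; exact sub_eq_zero.1 h6
    · right; exact eq_neg_of_add_eq_zero_left h6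
  let g : E → ({χ // M χ ≠ ⊥} → Bool) := fun a χ => decide (χ.1 a = 1)
  have hg : Function.Injective g := by
    intro a b hab
    have h3 : ∀ χ, M χ ≠ ⊥ → χ a = χ b := by
      intro χ h
      have h4 : decide (χ a = 1) = decide (χ b = 1) := congrFun hab ⟨χ, h⟩
      rw [decide_eq_decide] at h4
      rcases hχ χ h a with h5 | h5 <;> rcases hχ χ h b with h6 | h6
      · rw [h5, h6]
      · rw [h5, h4.1 h5]
      · rw [h6, h4.2 h6]
      · rw [h5, h6]
    apply hρ
    have h4 : (⊤ : Submodule F V) ≤ LinearMap.eqLocus (ρ a) (ρ b) := by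
      rw [← hM1, iSup_le_iff]
      intro χ
      by_cases h : M χ = ⊥
      · rw [h]; exact bot_le
      intro w hw
      rw [LinearMap.mem_eqLocus, (hMv χ w).1 hw, (hMv χ w).1 hw, h3 χ h]
    apply LinearMap.ext
    intro w
    exact h4 (Submodule.mem_top (x := w))
  have h3 := Nat.card_le_card_of_injective g hg
  rw [Nat.card_eq_fintype_card (α := {χ // M χ ≠ ⊥} → Bool), Fintype.card_fun, Fintype.card_bool, ← Nat.card_eq_fintype_card] at h3
  exact h3

theorem card_dvd_ker {G H : Type*} [Group G] [Group H] (f : G →* H) : Nat.card G ∣ Nat.card H * Nat.card f.ker := by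
  rw [← Subgroup.card_mul_index f.ker, Subgroup.index_ker, mul_comm]
  exact Nat.mul_dvd_mul_right (Subgroup.card_subgroup_dvd_card _) _

theorem v2_mono {a b : ℕ} (h : a ∣ b) (hb : b ≠ 0) : padicValNat 2 a ≤ padicValNat 2 b := by
  haveI : Fact (Nat.Prime 2) := ⟨Nat.prime_two⟩
  exact (padicValNat_dvd_iff_le hb).1 (pow_padicValNat_dvd.trans h)

theorem GG_mono {q a b : ℕ} (h : a ≤ b) : GG q a ≤ GG q b :=
  Finset.sum_le_sum_of_subset (Finset.range_mono h)

theorem k_le_one [Fintype F] [FiniteDimensional F V] (hq : Fintype.card F % 4 = 3) {S : Type*} [Group S] [Finite S] (E : Subgroup S) [hE : E.Normal]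
    (ρ : S →* Module.End F V) (hρ : Function.Injective ρ) (hS : padicValNat 2 (Nat.card S) = GG (Fintype.card F) (finrank F V))
    (M : (E → F) → Submodule F V) (hM1 : ⨆ χ, M χ = ⊤) (hM2 : iSupIndep M) (hMv : ∀ χ v, v ∈ M χ ↔ ∀ a : E, ρ a v = χ a • v) :
    Nat.card {χ // finrank F (M χ) = 1} ≤ 1 := by
  classical
  by_contra hk
  push Not at hk
  set Λ := {χ // finrank F (M χ) = 1} with hΛ
  haveI : Finite V := Module.finite_of_finite F
  haveI hfinΛ : Finite {χ // M χ ≠ ⊥} := WellFoundedGT.finite_ne_bot_of_iSupIndep hM2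
  have hne : ∀ χ : Λ, M χ.1 ≠ ⊥ := by
    intro χ h
    have := χ.2
    rw [h, finrank_bot] at this
    exact zero_ne_one this
  haveI : Finite Λ := Finite.of_injective (fun χ : Λ => (⟨χ.1, hne χ⟩ : {χ // M χ ≠ ⊥})) (by
    intro a b hab
    exact Subtype.ext (congrArg (fun z : {χ // M χ ≠ ⊥} => z.1) hab))
  haveI : Fintype Λ := Fintype.ofFinite _
  letI act := DL.cAct E F
  have hsm : ∀ (g : S) (χ : E → F) (a : E), (g • χ) a = χ (MulAut.conjNormal g⁻¹ a) := fun g χ a => rfl
  have hMg : ∀ (g : S) (χ : E → F) v, v ∈ M χ → ρ g v ∈ M (g • χ) := by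
    intro g χ v hv
    rw [hMv] at hv ⊢
    intro a
    have h1 := hv (MulAut.conjNormal g⁻¹ a)
    have h2 : ρ g * ρ ((MulAut.conjNormal g⁻¹ a : E) : S) = ρ a * ρ g := by
      rw [← map_mul, ← map_mul, MulAut.conjNormal_apply]
      congr 1
      group
    rw [hsm, ← map_smul, ← h1, ← Module.End.mul_apply, ← Module.End.mul_apply, h2]
  have hinj : ∀ g, Function.Injective (ρ g) := by
    intro g
    refine Function.LeftInverse.injective (g := ρ g⁻¹) ?_
    intro v
    rw [← Module.End.mul_apply, ← map_mul, inv_mul_cancel, map_one]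
    rfl
  have hfr1 : ∀ (g : S) (χ : E → F), finrank F (M χ) ≤ finrank F (M (g • χ)) := by
    intro g χ
    rw [(Submodule.equivMapOfInjective (ρ g) (hinj g) (M χ)).finrank_eq]
    apply Submodule.finrank_mono
    rintro _ ⟨v, hv, rfl⟩
    exact hMg g χ v hv
  have hfr : ∀ (g : S) (χ : E → F), finrank F (M (g • χ)) = finrank F (M χ) := by
    intro g χ
    refine le_antisymm ?_ (hfr1 g χ)
    have := hfr1 g⁻¹ (g • χ)
    rwa [inv_smul_smul] at this
  letI actΛ : MulAction S Λ :=
    { smul := fun g χ => ⟨g • χ.1, (hfr g χ.1).trans χ.2⟩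
      one_smul := fun χ => Subtype.ext (one_smul S χ.1)
      mul_smul := fun g h χ => Subtype.ext (mul_smul g h χ.1) }
  have hsmΛ : ∀ (g : S) (χ : Λ), (g • χ).1 = g • χ.1 := fun g χ => rfl
  let π : S →* Equiv.Perm Λ := MulAction.toPermHom S Λ
  have hπ : ∀ g ∈ π.ker, ∀ χ : Λ, g • χ.1 = χ.1 := by
    intro g hg χ
    have h1 : (π g) χ = χ := by rw [MonoidHom.mem_ker.1 hg]; rfl
    exact congrArg Subtype.val h1
  -- spanning vectors
  have hex : ∀ χ : Λ, ∃ v ∈ M χ.1, v ≠ 0 := fun χ => (Submodule.ne_bot_iff _).1 (hne χ)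
  choose v hv hv0 using hex
  have hspan : ∀ (χ : Λ), ∀ w ∈ M χ.1, ∃ c : F, w = c • v χ := by
    intro χ w hw
    have h1 := χ.2
    obtain ⟨c, hc⟩ := (finrank_eq_one_iff_of_nonzero' (⟨v χ, hv χ⟩ : M χ.1) (fun h => hv0 χ (congrArg Subtype.val h))).1 h1 ⟨w, hw⟩
    exact ⟨c, (congrArg Subtype.val hc).symm⟩
  have hc : ∀ (g : π.ker) (χ : Λ), ∃ c : F, ρ g (v χ) = c • v χ := by
    intro g χ
    apply hspan
    have := hMg g χ.1 _ (hv χ)
    rwa [hπ g g.2] at this
  choose c hc using hc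
  have hcu : ∀ χ (a b : F), a • v χ = b • v χ → a = b := by
    intro χ a b h
    have h1 : (a - b) • v χ = 0 := by rw [sub_smul, h, sub_self]
    exact sub_eq_zero.1 ((smul_eq_zero.1 h1).resolve_right (hv0 χ))
  let θ : π.ker →* (Λ → F) :=
    { toFun := c
      map_one' := by
        funext χ
        apply hcu χ
        rw [← hc, Subgroup.coe_one, map_one, Pi.one_apply, one_smul]
        rfl
      map_mul' := by
        intro g h
        funext χ
        apply hcu χ
        rw [← hc, Subgroup.coe_mul, map_mul, Module.End.mul_apply, hc, map_smul, hc, smul_smul, Pi.mul_apply, mul_comm] }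
  let θ' : π.ker →* (Λ → F)ˣ := θ.toHomUnits
  have hK2 : ∀ g ∈ θ'.ker, ∀ χ, ρ (g : S) (v χ) = v χ := by
    intro g hg χ
    have h1 : c g χ = 1 := congrFun (congrArg Units.val (MonoidHom.mem_ker.1 hg)) χ
    rw [hc, h1, one_smul]
  -- the complement
  set U : Submodule F V := ⨆ χ ∈ {χ : E → F | finrank F (M χ) ≠ 1}, M χ with hU
  set W : Submodule F V := ⨆ χ ∈ {χ : E → F | finrank F (M χ) = 1}, M χ with hW
  have hUW : Disjoint U W := by
    apply iSupIndep.disjoint_biSup_biSup hM2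
    rw [Set.disjoint_left]
    intro χ h1 h2
    exact h1 h2
  have hUg : ∀ (g : S), ∀ x ∈ U, ρ g x ∈ U := by
    intro g
    have h1 : U ≤ U.comap (ρ g) := by
      conv_lhs => rw [hU]
      refine iSup₂_le ?_
      intro χ hχ x hx
      rw [Submodule.mem_comap]
      have h1 : M (g • χ) ≤ U := le_iSup₂_of_le (g • χ) (fun h => hχ ((hfr g χ).symm.trans h)) le_rfl
      exact h1 (hMg g χ x hx)
    exact h1
  let τ : θ'.ker →* Module.End F U :=
    { toFun := fun g => (ρ (g : S)).restrict (hUg g)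
      map_one' := by
        apply LinearMap.ext
        intro x
        apply Subtype.ext
        change ρ (((1 : θ'.ker) : π.ker) : S) x = x
        rw [Subgroup.coe_one, Subgroup.coe_one, map_one]
        rfl
      map_mul' := by
        intro g h
        apply LinearMap.ext
        intro x
        apply Subtype.ext
        change ρ (((g * h : θ'.ker) : π.ker) : S) x = ρ g (ρ h x)
        rw [Subgroup.coe_mul, Subgroup.coe_mul, map_mul]
        rfl }
  have hτ : Function.Injective τ := by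
    intro g h hgh
    apply Subtype.ext
    apply Subtype.ext
    apply hρ
    have h4 : (⊤ : Submodule F V) ≤ LinearMap.eqLocus (ρ (g : S)) (ρ (h : S)) := by
      rw [← hM1, iSup_le_iff]
      intro χ w hw
      rw [LinearMap.mem_eqLocus]
      by_cases h1 : finrank F (M χ) = 1
      · obtain ⟨a, rfl⟩ := hspan ⟨χ, h1⟩ w hw
        rw [map_smul, map_smul, hK2 _ g.2, hK2 _ h.2]
      · have h3 : M χ ≤ U := le_iSup₂_of_le χ h1 le_rfl
        have h5 := LinearMap.congr_fun hgh ⟨w, h3 hw⟩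
        exact congrArg Subtype.val h5
    apply LinearMap.ext
    intro w
    exact h4 (Submodule.mem_top (x := w))
  set q := Fintype.card F with hqq
  have hq1 : 1 < q := Fintype.one_lt_card
  set d := finrank F U with hd
  have h5 : Nat.card θ'.ker ∣ Nat.card (Matrix.GeneralLinearGroup (Fin d) F) := by
    let e : U ≃ₗ[F] (Fin d → F) := LinearEquiv.ofFinrankEq _ _ (by rw [Module.finrank_pi, Fintype.card_fin])
    let cc : Module.End F U ≃* Matrix (Fin d) (Fin d) F := (e.conjRingEquiv.trans LinearMap.toMatrixAlgEquiv'.toRingEquiv).toMulEquiv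
    let φ : θ'.ker →* Matrix.GeneralLinearGroup (Fin d) F := (cc.toMonoidHom.comp τ).toHomUnits
    refine Subgroup.card_dvd_of_injective φ ?_
    intro a b hab
    apply hτ
    apply cc.injective
    exact congrArg Units.val hab
  have h6 : Nat.card S ∣ (Nat.card Λ).factorial * ((q - 1) ^ Nat.card Λ * Nat.card (Matrix.GeneralLinearGroup (Fin d) F)) := by
    refine (card_dvd_ker π).trans ?_
    rw [Nat.card_perm]
    refine Nat.mul_dvd_mul_left _ ((card_dvd_ker θ').trans ?_)
    have h7 : Nat.card (Λ → F)ˣ = (q - 1) ^ Nat.card Λ := by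
      rw [Nat.card_congr (MulEquiv.piUnits (M := fun _ : Λ => F)).toEquiv, Nat.card_fun, Nat.card_units, Nat.card_eq_fintype_card (α := F)]
    rw [h7]
    exact Nat.mul_dvd_mul_left _ h5
  have hn0 : (q - 1) ^ Nat.card Λ ≠ 0 := pow_ne_zero _ (by omega)
  have hG0 : Nat.card (Matrix.GeneralLinearGroup (Fin d) F) ≠ 0 := Nat.card_pos.ne'
  have h7 := v2_mono h6 (mul_ne_zero (Nat.factorial_ne_zero _) (mul_ne_zero hn0 hG0))
  haveI : Fact (Nat.Prime 2) := ⟨Nat.prime_two⟩
  rw [v2_mul (Nat.factorial_ne_zero _) (mul_ne_zero hn0 hG0), v2_mul hn0 hG0, padicValNat.pow, c_eq hq, mul_one, GG_card (by omega), hS, ← hqq] at h7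
  have h8 : Nat.card Λ ≤ finrank F W := by
    have hvl : LinearIndependent F v := by
      have h3 : iSupIndep (fun χ : Λ => M χ.1) := hM2.comp Subtype.val_injective
      exact iSupIndep.linearIndependent (fun χ : Λ => M χ.1) h3 hv hv0
    rw [Nat.card_eq_fintype_card, ← finrank_span_eq_card hvl]
    apply Submodule.finrank_mono
    rw [Submodule.span_le]
    rintro _ ⟨χ, rfl⟩
    have h3 : M χ.1 ≤ W := le_iSup₂_of_le χ.1 χ.2 le_rfl
    exact h3 (hv χ)
  have h9 := Submodule.finrank_add_finrank_le_of_disjoint hUW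
  have h10 : d + Nat.card Λ ≤ finrank F V := by omega
  have h11 := GG_mono (q := q) h10
  have h12 := GG_lt (q := q) hq (k := Nat.card Λ) (l := d) hk
  omega

theorem le_half [FiniteDimensional F V] {ι : Type*} (M : ι → Submodule F V) (hM1 : ⨆ χ, M χ = ⊤) (hM2 : iSupIndep M)
    (hk : Nat.card {χ // finrank F (M χ) = 1} ≤ 1) : Nat.card {χ // M χ ≠ ⊥} ≤ (finrank F V + 1) / 2 := by
  classical
  haveI hfinΛ : Finite {χ // M χ ≠ ⊥} := WellFoundedGT.finite_ne_bot_of_iSupIndep hM2
  haveI : Fintype {χ // M χ ≠ ⊥} := Fintype.ofFinite _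
  have h1 : iSupIndep (fun χ : {χ // M χ ≠ ⊥} => M χ.1) := hM2.comp Subtype.val_injective
  have h3 : ⨆ χ : {χ // M χ ≠ ⊥}, M χ.1 = ⊤ := by rw [iSup_ne_bot_subtype, hM1]
  have h4 := DirectSum.isInternal_submodule_of_iSupIndep_of_iSup_eq_top h1 h3
  have h5 : finrank F V = ∑ χ : {χ // M χ ≠ ⊥}, finrank F (M χ.1) := by
    rw [← (LinearEquiv.ofBijective (DirectSum.coeLinearMap (fun χ : {χ // M χ ≠ ⊥} => M χ.1)) h4).finrank_eq]
    exact Module.finrank_directSum (R := F) (fun χ : {χ // M χ ≠ ⊥} => M χ.1)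
  have h6 : (Finset.univ.filter (fun χ : {χ // M χ ≠ ⊥} => finrank F (M χ.1) = 1)).card ≤ 1 := by
    rw [← Fintype.card_subtype, ← Nat.card_eq_fintype_card]
    refine le_trans ?_ hk
    haveI : Finite {χ // finrank F (M χ) = 1} := Finite.of_injective
      (fun χ : {χ // finrank F (M χ) = 1} => (⟨χ.1, fun h => by have := χ.2; rw [h, finrank_bot] at this; exact zero_ne_one this⟩ : {χ // M χ ≠ ⊥}))
      (fun a b hab => Subtype.ext (congrArg (fun z : {χ // M χ ≠ ⊥} => z.1) hab))
    exact Nat.card_le_card_of_injective (fun χ => (⟨χ.1.1, χ.2⟩ : {χ // finrank F (M χ) = 1}))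
      (fun a b hab => Subtype.ext (Subtype.ext (congrArg (fun z : {χ // finrank F (M χ) = 1} => z.1) hab)))
  have h7 : ∀ χ : {χ // M χ ≠ ⊥}, 2 ≤ finrank F (M χ.1) + if finrank F (M χ.1) = 1 then 1 else 0 := by
    intro χ
    have h8 : 0 < finrank F (M χ.1) := by
      rw [Nat.pos_iff_ne_zero, Ne, Submodule.finrank_eq_zero]
      exact χ.2
    split_ifs <;> omega
  have h8 : ∑ χ : {χ // M χ ≠ ⊥}, 2 ≤ ∑ χ : {χ // M χ ≠ ⊥}, (finrank F (M χ.1) + if finrank F (M χ.1) = 1 then 1 else 0) :=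
    Finset.sum_le_sum fun χ _ => h7 χ
  rw [Finset.sum_add_distrib, ← h5, Finset.sum_const, Finset.card_univ, smul_eq_mul, ← Finset.card_filter, ← Nat.card_eq_fintype_card] at h8
  omega

end

end Cfsg.Agent.H16.NR
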