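import Cfsg.Agent.H16_NR4

/-! Normal rank of Sylow 2-subgroups of general linear groups: construction. -/

set_option autoImplicit false
set_option linter.style.haveILetI false

namespace Cfsg.Agent.H16.NR.GLC

open Module

universe u

variable {F : Type u} [Field F]

/-- the sign -/
def cS (F : Type u) [Field F] (d : ℕ) : ℤˣ →* Matrix.GeneralLinearGroup (Fin d) F where
  toFun u := if u = 1 then 1 else -1
  map_one' := if_pos rfl
  map_mul' a b := by
    rcases Int.units_eq_one_or a with rfl | rfl <;> rcases Int.units_eq_one_or b with rfl | rfl <;> simp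

theorem cS_neg (d : ℕ) : cS F d (-1 : ℤˣ) = -1 := by
  change (if (-1 : ℤˣ) = 1 then (1 : Matrix.GeneralLinearGroup (Fin d) F) else -1) = -1
  exact if_neg (by decide)

theorem cS_comm (d : ℕ) (u : ℤˣ) (s : Matrix.GeneralLinearGroup (Fin d) F) : s * cS F d u = cS F d u * s := by
  rcases Int.units_eq_one_or u with rfl | rfl
  · rw [map_one, mul_one, one_mul]
  · rw [cS_neg, mul_neg, neg_mul, mul_one, one_mul]

theorem cS_inj (h2 : (2 : F) ≠ 0) (d : ℕ) : Function.Injective (cS F (d + 1)) := by
  rw [injective_iff_map_eq_one]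
  intro u hu
  rcases Int.units_eq_one_or u with rfl | rfl
  · rfl
  · exfalso
    rw [cS_neg] at hu
    have h3 := congrArg (fun z : Matrix.GeneralLinearGroup (Fin (d + 1)) F => z.1 0 0) hu
    have h4 : (-1 : F) = 1 := by simpa using h3
    apply h2
    linear_combination -h4

/-- the wreath product -/
abbrev WM (F : Type u) [Field F] (d n : ℕ) := (Fin n → Matrix.GeneralLinearGroup (Fin d) F) ⋊[mulAutArrow] Equiv.Perm (Fin n)

instance wM_finite [Finite F] (d n : ℕ) : Finite (WM F d n) := Finite.of_equiv _ (SemidirectProduct.equivProd).symm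

/-- the representation -/
def wR (d n : ℕ) : WM F d n →* Module.End F (Fin n → Fin d → F) where
  toFun g :=
    { toFun := fun f i => (g.left i).1.mulVec (f (g.right⁻¹ i))
      map_add' := fun f f' => by funext i; exact Matrix.mulVec_add _ _ _
      map_smul' := fun c f => by funext i; exact Matrix.mulVec_smul (g.left i).1 c (f (g.right⁻¹ i)) }
  map_one' := by
    apply LinearMap.ext
    intro f
    funext i
    change (1 : Matrix (Fin d) (Fin d) F).mulVec (f i) = f i
    exact Matrix.one_mulVec _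
  map_mul' g h := by
    apply LinearMap.ext
    intro f
    funext i
    change ((g.left i).1 * (h.left (g.right⁻¹ i)).1).mulVec (f ((g.right * h.right)⁻¹ i)) = (g.left i).1.mulVec ((h.left (g.right⁻¹ i)).1.mulVec (f (h.right⁻¹ (g.right⁻¹ i))))
    rw [Matrix.mulVec_mulVec, mul_inv_rev]
    rfl

theorem wR_apply (d n : ℕ) (g : WM F d n) (f : Fin n → Fin d → F) (i : Fin n) : wR d n g f i = (g.left i).1.mulVec (f (g.right⁻¹ i)) := rfl

theorem wR_inj (d n : ℕ) : Function.Injective (wR (F := F) (d + 1) n) := by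
  rw [injective_iff_map_eq_one]
  intro g hg
  have h1 : ∀ (f : Fin n → Fin (d + 1) → F) (i : Fin n), (g.left i).1.mulVec (f (g.right⁻¹ i)) = f i := by
    intro f i
    rw [← wR_apply, hg]; rfl
  have h2 : ∀ i, g.right⁻¹ i = i := by
    intro i
    by_contra hne
    have h3 := h1 (Pi.single i (fun _ => 1)) i
    rw [Pi.single_eq_same, Pi.single_eq_of_ne hne, Matrix.mulVec_zero] at h3
    exact zero_ne_one (congrFun h3 0)
  have h3 : g.right = 1 := by
    rw [← inv_eq_one]
    exact Equiv.ext h2
  have h4 : g.left = 1 := by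
    funext i
    apply Units.ext
    apply Matrix.mulVec_injective
    funext w
    have h5 := h1 (fun _ => w) i
    change (g.left i).1.mulVec w = (1 : Matrix (Fin (d + 1)) (Fin (d + 1)) F).mulVec w
    rw [Matrix.one_mulVec]
    exact h5
  exact SemidirectProduct.ext h4 h3

/-- the elementary abelian subgroup -/
def wE (F : Type u) [Field F] (d n : ℕ) : (Fin n → ℤˣ) →* WM F d n :=
  SemidirectProduct.inl.comp (Pi.monoidHom fun i => (cS F d).comp (Pi.evalMonoidHom (fun _ : Fin n => ℤˣ) i))

theorem wE_left (d n : ℕ) (ε : Fin n → ℤˣ) (i : Fin n) : (wE F d n ε).left i = cS F d (ε i) := rfl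

theorem wE_inj (h2 : (2 : F) ≠ 0) (d n : ℕ) : Function.Injective (wE F (d + 1) n) := by
  intro ε ε' h
  funext i
  apply cS_inj h2 d
  rw [← wE_left, ← wE_left, h]

theorem wE_norm (d n : ℕ) (ε : Fin n → ℤˣ) (g : WM F d n) : g * wE F d n ε * g⁻¹ = wE F d n (fun i => ε (g.right⁻¹ i)) := by
  rw [mul_inv_eq_iff_eq_mul]
  refine SemidirectProduct.ext ?_ ?_
  · funext i
    change g.left i * cS F d (ε (g.right⁻¹ i)) = cS F d (ε (g.right⁻¹ i)) * g.left ((1 : Equiv.Perm (Fin n))⁻¹ i)
    rw [cS_comm]
    rfl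
  · change g.right * 1 = 1 * g.right
    rw [one_mul, mul_one]

/-- the torus part -/
def tR (r : ℕ) : (Fin r → Fˣ) →* Module.End F (Fin r → F) where
  toFun g :=
    { toFun := fun f i => (g i : F) * f i
      map_add' := fun f f' => by funext i; exact mul_add _ _ _
      map_smul' := fun c f => by funext i; exact mul_left_comm _ _ _ }
  map_one' := by
    apply LinearMap.ext
    intro f
    funext i
    exact one_mul _
  map_mul' g h := by
    apply LinearMap.ext
    intro f
    funext i
    exact mul_assoc _ _ _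

theorem tR_apply (r : ℕ) (g : Fin r → Fˣ) (f : Fin r → F) (i : Fin r) : tR r g f i = g i * f i := rfl

theorem tR_inj (r : ℕ) : Function.Injective (tR (F := F) r) := by
  intro g h hgh
  funext i
  apply Units.ext
  have := congrFun (LinearMap.congr_fun hgh (fun _ => 1)) i
  rwa [tR_apply, tR_apply, mul_one, mul_one] at this

/-- signs in the field -/
def sF (F : Type u) [Field F] (r : ℕ) : (Fin r → ℤˣ) →* (Fin r → Fˣ) :=
  Pi.monoidHom fun i => (Units.map (Int.castRingHom F).toMonoidHom).comp (Pi.evalMonoidHom (fun _ : Fin r => ℤˣ) i)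

theorem sF_inj (h2 : (2 : F) ≠ 0) (r : ℕ) : Function.Injective (sF F r) := by
  rw [injective_iff_map_eq_one]
  intro ε hε
  funext i
  have h1 : ((ε i : ℤ) : F) = 1 := congrArg Units.val (congrFun hε i)
  rcases Int.units_eq_one_or (ε i) with h | h
  · exact h
  · exfalso
    rw [h] at h1
    have h4 : (-1 : F) = 1 := by simpa using h1
    apply h2
    linear_combination -h4

/-- the block group -/
abbrev BM (F : Type u) [Field F] (d m r : ℕ) := WM F d m × (Fin r → Fˣ)

/-- the representation of the block group -/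
def bR (d m r : ℕ) : BM F d m r →* Module.End F ((Fin m → Fin d → F) × (Fin r → F)) where
  toFun g := (wR d m g.1).prodMap (tR r g.2)
  map_one' := by
    rw [Prod.fst_one, Prod.snd_one, map_one, map_one]; rfl
  map_mul' g h := by
    rw [Prod.fst_mul, Prod.snd_mul, map_mul, map_mul]; rfl

theorem bR_inj (d m r : ℕ) : Function.Injective (bR (F := F) (d + 1) m r) := by
  intro g h hgh
  apply Prod.ext
  · apply wR_inj
    apply LinearMap.ext
    intro x
    exact congrArg Prod.fst (LinearMap.congr_fun hgh (x, 0))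
  · apply tR_inj
    apply LinearMap.ext
    intro x
    exact congrArg Prod.snd (LinearMap.congr_fun hgh (0, x))

/-- the elementary abelian subgroup -/
def bE (F : Type u) [Field F] (d m r : ℕ) : (Fin m → ℤˣ) × (Fin r → ℤˣ) →* BM F d m r := (wE F d m).prodMap (sF F r)

instance bE_normal (d m r : ℕ) : (bE F d m r).range.Normal := by
  refine ⟨?_⟩
  rintro _ ⟨⟨ε, δ⟩, rfl⟩ ⟨g, t⟩
  refine ⟨(fun i => ε (g.right⁻¹ i), δ), ?_⟩
  apply Prod.ext
  · exact (wE_norm d m ε g).symm
  · change sF F r δ = t * sF F r δ * t⁻¹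
    rw [mul_comm t, mul_inv_cancel_right]

theorem bE_elem (d m r : ℕ) : Cfsg.IsElementaryAbelian 2 (bE F d m r).range := by
  refine ⟨⟨⟨?_⟩⟩, ?_⟩
  · rintro ⟨_, ε, rfl⟩ ⟨_, ε', rfl⟩
    apply Subtype.ext
    change bE F d m r ε * bE F d m r ε' = bE F d m r ε' * bE F d m r ε
    rw [← map_mul, ← map_mul, mul_comm]
  · rintro _ ⟨ε, rfl⟩
    rw [← map_pow]
    have : ε ^ 2 = 1 := by
      apply Prod.ext
      · funext i; exact Int.units_sq (ε.1 i)
      · funext i; exact Int.units_sq (ε.2 i)
    rw [this, map_one]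

theorem bE_card (h2 : (2 : F) ≠ 0) (d m r : ℕ) : Nat.card (bE F (d + 1) m r).range = 2 ^ (m + r) := by
  have h1 : Function.Injective (bE F (d + 1) m r) := (wE_inj h2 d m).prodMap (sF_inj h2 r)
  rw [← Nat.card_congr (MonoidHom.ofInjective h1).toEquiv, Nat.card_prod, Nat.card_eq_fintype_card, Nat.card_eq_fintype_card, Fintype.card_fun,
    Fintype.card_fun, Fintype.card_units_int, Fintype.card_fin, Fintype.card_fin, pow_add]

theorem lower [Fintype F] (h2 : (2 : F) ≠ 0) (hq : Fintype.card F % 2 = 1) (d m r n : ℕ) (hn : m * (d + 1) + r = n)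
    (hv : m * GG (Fintype.card F) (d + 1) + padicValNat 2 m.factorial + r * padicValNat 2 (Fintype.card F - 1) = GG (Fintype.card F) n)
    (S : Sylow 2 (Matrix.GeneralLinearGroup (Fin n) F)) :
    ∃ E : Subgroup (S : Subgroup (Matrix.GeneralLinearGroup (Fin n) F)), E.Normal ∧ Cfsg.IsElementaryAbelian 2 E ∧ Nat.card E = 2 ^ (m + r) := by
  classical
  haveI : Fact (Nat.Prime 2) := ⟨Nat.prime_two⟩
  let e : ((Fin m → Fin (d + 1) → F) × (Fin r → F)) ≃ₗ[F] (Fin n → F) := LinearEquiv.ofFinrankEq _ _ (by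
    rw [Module.finrank_prod, Module.finrank_pi_fintype, Module.finrank_pi, Module.finrank_pi, Fintype.card_fin]
    simp [Module.finrank_pi]
    exact hn)
  let cc : Module.End F ((Fin m → Fin (d + 1) → F) × (Fin r → F)) ≃* Matrix (Fin n) (Fin n) F :=
    (e.conjRingEquiv.trans LinearMap.toMatrixAlgEquiv'.toRingEquiv).toMulEquiv
  let φ : BM F (d + 1) m r →* Matrix.GeneralLinearGroup (Fin n) F := (cc.toMonoidHom.comp (bR (d + 1) m r)).toHomUnits
  have hφ : Function.Injective φ := by
    intro a b hab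
    apply bR_inj
    apply cc.injective
    exact congrArg Units.val hab
  have hq1 : 1 < Fintype.card F := Fintype.one_lt_card
  have hg0 : Nat.card (Matrix.GeneralLinearGroup (Fin (d + 1)) F) ^ m ≠ 0 := pow_ne_zero _ Nat.card_pos.ne'
  obtain ⟨E, hE1, hE2, hE3⟩ := transport (p := 2) φ hφ (by
    rw [Nat.factorization_def _ Nat.prime_two, Nat.factorization_def _ Nat.prime_two, GG_card hq, ← hv, Nat.card_prod, SemidirectProduct.card,
      Nat.card_fun, Nat.card_perm, Nat.card_fun, Nat.card_units, Nat.card_fin, Nat.card_fin, Nat.card_eq_fintype_card (α := F),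
      v2_mul (mul_ne_zero hg0 (Nat.factorial_ne_zero m)) (pow_ne_zero _ (by omega)), v2_mul hg0 (Nat.factorial_ne_zero m), padicValNat.pow,
      padicValNat.pow, GG_card hq]) (bE F (d + 1) m r).range (bE_elem (d + 1) m r) S
  exact ⟨E, hE1, hE2, hE3.trans (bE_card h2 d m r)⟩

end Cfsg.Agent.H16.NR.GLC
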