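import Mathlib
import Cfsg.Agent.H5_Concrete

set_option autoImplicit false

/-! Symplectic transvections: they lie in `Sp`, act transitively on hyperbolic pairs, and
generate `Sp`. -/

namespace Cfsg.Agent.H5.Symp

open Matrix Conc

variable {m : ℕ} {F : Type*} [Field F]

local notation "V" => (Fin m ⊕ Fin m → F)

theorem add_left (u u' v : V) : Cfsg.sympForm m F (u + u') v =
    Cfsg.sympForm m F u v + Cfsg.sympForm m F u' v := by
  simp only [← sympB_apply, map_add, LinearMap.add_apply]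

theorem add_right (u v v' : V) : Cfsg.sympForm m F u (v + v') =
    Cfsg.sympForm m F u v + Cfsg.sympForm m F u v' := by
  simp only [← sympB_apply, map_add]

theorem sub_left (u u' v : V) : Cfsg.sympForm m F (u - u') v =
    Cfsg.sympForm m F u v - Cfsg.sympForm m F u' v := by
  simp only [← sympB_apply, map_sub, LinearMap.sub_apply]

theorem sub_right (u v v' : V) : Cfsg.sympForm m F u (v - v') =
    Cfsg.sympForm m F u v - Cfsg.sympForm m F u v' := by
  simp only [← sympB_apply, map_sub]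

theorem smul_left (c : F) (u v : V) : Cfsg.sympForm m F (c • u) v =
    c * Cfsg.sympForm m F u v := by
  simp only [← sympB_apply, map_smul, LinearMap.smul_apply, smul_eq_mul]

theorem smul_right (c : F) (u v : V) : Cfsg.sympForm m F u (c • v) =
    c * Cfsg.sympForm m F u v := by
  simp only [← sympB_apply, map_smul, smul_eq_mul]

theorem self (u : V) : Cfsg.sympForm m F u u = 0 := by
  rw [← sympB_apply]; exact sympB_alt m F u

theorem swap (u v : V) : Cfsg.sympForm m F v u = - Cfsg.sympForm m F u v := by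
  rw [← sympB_apply, ← sympB_apply]
  exact (LinearMap.IsAlt.neg (sympB_alt m F) u v).symm

theorem exists_ne {u : V} (hu : u ≠ 0) : ∃ v, Cfsg.sympForm m F u v ≠ 0 := by
  by_contra hcon
  push Not at hcon
  exact hu (sympFrm_nondeg m F u (fun v => by rw [sympFrm_B]; exact hcon v))

theorem T_mulVec (v : V) (c : F) (x : V) :
    Cfsg.sympTransvection m v c *ᵥ x = x + (c * Cfsg.sympForm m F x v) • v := by
  rw [Cfsg.sympTransvection, add_mulVec, one_mulVec, smul_mulVec, Matrix.vecMulVec_mulVec,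
    Cfsg.sympForm, dotProduct_comm]
  simp [smul_smul, mul_comm]

theorem T_mem (v : V) (c : F) : Cfsg.sympTransvection m v c ∈ Matrix.symplecticGroup (Fin m) F := by
  rw [mem_symplecticGroup_iff]
  intro x y
  rw [T_mulVec, T_mulVec, add_left, add_right, add_right, smul_left, smul_left, smul_right,
    smul_right, self, swap y v]
  ring

/-- the transvection as an element of the symplectic group -/
def T (v : V) (c : F) : Matrix.symplecticGroup (Fin m) F := ⟨_, T_mem v c⟩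

theorem T_apply (v : V) (c : F) (x : V) :
    (T v c : Matrix (Fin m ⊕ Fin m) (Fin m ⊕ Fin m) F) *ᵥ x =
      x + (c * Cfsg.sympForm m F x v) • v := T_mulVec v c x

theorem ext_mulVec {ι : Type*} [Fintype ι] [DecidableEq ι] {A B : Matrix ι ι F}
    (h : ∀ x, A *ᵥ x = B *ᵥ x) : A = B := by
  have : Matrix.toLin' A = Matrix.toLin' B := by
    ext1 i
    ext1
    simp only [LinearMap.comp_apply, Matrix.toLin'_apply, h]
  exact Matrix.toLin'.injective this

theorem Sp_ext {g h : Matrix.symplecticGroup (Fin m) F}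
    (H : ∀ x : V, (g : Matrix (Fin m ⊕ Fin m) (Fin m ⊕ Fin m) F) *ᵥ x =
      (h : Matrix (Fin m ⊕ Fin m) (Fin m ⊕ Fin m) F) *ᵥ x) : g = h :=
  Subtype.ext (ext_mulVec H)

theorem T_mul_T (v : V) (c d : F) : T v c * T v d = T v (c + d) := by
  apply Sp_ext
  intro x
  rw [Submonoid.coe_mul, ← Matrix.mulVec_mulVec, T_apply, T_apply, T_apply, add_left, smul_left,
    self, mul_zero, add_zero, add_assoc, ← add_smul]
  congr 2
  ring

theorem T_zero (v : V) : T v 0 = 1 := by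
  apply Sp_ext
  intro x
  rw [T_apply, zero_mul, zero_smul, add_zero]
  simp

theorem T_smul (a : F) (v : V) (c : F) : T (a • v) c = T v (a ^ 2 * c) := by
  apply Sp_ext
  intro x
  rw [T_apply, T_apply, smul_right, smul_smul]
  congr 2
  ring

theorem conj_T (g : Matrix.symplecticGroup (Fin m) F) (v : V) (c : F) :
    g * T v c * g⁻¹ = T ((g : Matrix (Fin m ⊕ Fin m) (Fin m ⊕ Fin m) F) *ᵥ v) c := by
  rw [mul_inv_eq_iff_eq_mul]
  apply Sp_ext
  intro x
  rw [Submonoid.coe_mul, Submonoid.coe_mul, ← Matrix.mulVec_mulVec, ← Matrix.mulVec_mulVec,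
    T_apply, T_apply, mulVec_add, mulVec_smul, (mem_symplecticGroup_iff g.1).mp g.2]

/-- the subgroup generated by the transvections -/
def H (m : ℕ) (F : Type*) [Field F] : Subgroup (Matrix.symplecticGroup (Fin m) F) :=
  Subgroup.closure {A : Matrix.symplecticGroup (Fin m) F |
    ∃ (w : Fin m ⊕ Fin m → F) (c : F),
      (A : Matrix (Fin m ⊕ Fin m) (Fin m ⊕ Fin m) F) = Cfsg.sympTransvection m w c}

theorem T_mem_H (v : V) (c : F) : T v c ∈ H m F :=
  Subgroup.subset_closure ⟨v, c, rfl⟩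

theorem T_move {u w : V} (h : Cfsg.sympForm m F u w ≠ 0) :
    (T (w - u) (Cfsg.sympForm m F u w)⁻¹ : Matrix (Fin m ⊕ Fin m) (Fin m ⊕ Fin m) F) *ᵥ u = w := by
  rw [T_apply, sub_right, self, sub_zero, inv_mul_cancel₀ h, one_smul]
  abel

theorem T_fix {u w x : V} (c : F) (h : Cfsg.sympForm m F x (w - u) = 0) :
    (T (w - u) c : Matrix (Fin m ⊕ Fin m) (Fin m ⊕ Fin m) F) *ᵥ x = x := by
  rw [T_apply, h, mul_zero, zero_smul, add_zero]

/-- there is a vector not orthogonal to two given non-zero vectors -/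
theorem exists_ne_two {u w : V} (hu : u ≠ 0) (hw : w ≠ 0) :
    ∃ z, Cfsg.sympForm m F u z ≠ 0 ∧ Cfsg.sympForm m F w z ≠ 0 := by
  obtain ⟨a, ha⟩ := exists_ne hu
  obtain ⟨b, hb⟩ := exists_ne hw
  by_cases h1 : Cfsg.sympForm m F w a = 0
  · by_cases h2 : Cfsg.sympForm m F u b = 0
    · refine ⟨a + b, ?_, ?_⟩
      · rw [add_right, h2, add_zero]; exact ha
      · rw [add_right, h1, zero_add]; exact hb
    · exact ⟨b, h2, hb⟩
  · exact ⟨a, ha, h1⟩

theorem H_transitive {u w : V} (hu : u ≠ 0) (hw : w ≠ 0) :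
    ∃ g ∈ H m F, (g : Matrix (Fin m ⊕ Fin m) (Fin m ⊕ Fin m) F) *ᵥ u = w := by
  obtain ⟨z, hz1, hz2⟩ := exists_ne_two hu hw
  have hz3 : Cfsg.sympForm m F z w ≠ 0 := by
    rw [swap w z]; exact neg_ne_zero.mpr hz2
  refine ⟨T (w - z) (Cfsg.sympForm m F z w)⁻¹ * T (z - u) (Cfsg.sympForm m F u z)⁻¹,
    mul_mem (T_mem_H _ _) (T_mem_H _ _), ?_⟩
  rw [Submonoid.coe_mul, ← Matrix.mulVec_mulVec, T_move hz1, T_move hz3]

theorem H_transitive_pairs {u v u' v' : V} (h : Cfsg.sympForm m F u v = 1)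
    (h' : Cfsg.sympForm m F u' v' = 1) :
    ∃ g ∈ H m F, (g : Matrix (Fin m ⊕ Fin m) (Fin m ⊕ Fin m) F) *ᵥ u = u' ∧
      (g : Matrix (Fin m ⊕ Fin m) (Fin m ⊕ Fin m) F) *ᵥ v = v' := by
  have hne : ∀ {a b : V}, Cfsg.sympForm m F a b = 1 → a ≠ 0 := by
    rintro a b hab rfl
    rw [← sympB_apply, map_zero, LinearMap.zero_apply] at hab
    exact zero_ne_one hab
  obtain ⟨g1, hg1, hg1u⟩ := H_transitive (hne h) (hne h')
  -- now move v1 = g1 v to v', fixing u'
  have key : ∀ v1 : V, Cfsg.sympForm m F u' v1 = 1 → ∃ g ∈ H m F,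
      (g : Matrix (Fin m ⊕ Fin m) (Fin m ⊕ Fin m) F) *ᵥ u' = u' ∧
      (g : Matrix (Fin m ⊕ Fin m) (Fin m ⊕ Fin m) F) *ᵥ v1 = v' := by
    intro v1 hv1
    by_cases hne : Cfsg.sympForm m F v1 v' = 0
    · -- via v1 + u'
      have e1 : Cfsg.sympForm m F v1 (v1 + u') ≠ 0 := by
        rw [add_right, self, zero_add, swap u' v1, hv1]
        exact neg_ne_zero.mpr one_ne_zero
      have e2 : Cfsg.sympForm m F (v1 + u') v' ≠ 0 := by
        rw [add_left, hne, zero_add, h']; exact one_ne_zero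
      refine ⟨T (v' - (v1 + u')) (Cfsg.sympForm m F (v1 + u') v')⁻¹ *
        T ((v1 + u') - v1) (Cfsg.sympForm m F v1 (v1 + u'))⁻¹,
        mul_mem (T_mem_H _ _) (T_mem_H _ _), ?_, ?_⟩
      · have f1 : Cfsg.sympForm m F u' ((v1 + u') - v1) = 0 := by
          rw [sub_right, add_right, hv1, self]; ring
        have f2 : Cfsg.sympForm m F u' (v' - (v1 + u')) = 0 := by
          rw [sub_right, add_right, h', hv1, self]; ring
        rw [Submonoid.coe_mul, ← Matrix.mulVec_mulVec, T_fix _ f1, T_fix _ f2]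
      · rw [Submonoid.coe_mul, ← Matrix.mulVec_mulVec, T_move e1, T_move e2]
    · refine ⟨T (v' - v1) (Cfsg.sympForm m F v1 v')⁻¹, T_mem_H _ _, ?_, T_move hne⟩
      rw [T_fix]
      rw [sub_right, h', hv1, sub_self]
  obtain ⟨g2, hg2, hg2u, hg2v⟩ := key ((g1 : Matrix (Fin m ⊕ Fin m) (Fin m ⊕ Fin m) F) *ᵥ v) (by
    rw [← hg1u, (mem_symplecticGroup_iff g1.1).mp g1.2, h])
  refine ⟨g2 * g1, mul_mem hg2 hg1, ?_, ?_⟩
  · rw [Submonoid.coe_mul, ← Matrix.mulVec_mulVec, hg1u, hg2u]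
  · rw [Submonoid.coe_mul, ← Matrix.mulVec_mulVec, hg2v]

/-- fixed space -/
def Fix (g : Matrix.symplecticGroup (Fin m) F) : Submodule F V where
  carrier := {x | (g : Matrix (Fin m ⊕ Fin m) (Fin m ⊕ Fin m) F) *ᵥ x = x}
  add_mem' {a b} ha hb := by
    change _ *ᵥ (a + b) = a + b
    rw [mulVec_add, ha, hb]
  zero_mem' := mulVec_zero _
  smul_mem' c a ha := by
    change _ *ᵥ (c • a) = c • a
    rw [mulVec_smul, ha]

theorem mem_Fix {g : Matrix.symplecticGroup (Fin m) F} {x : V} :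
    x ∈ Fix g ↔ (g : Matrix (Fin m ⊕ Fin m) (Fin m ⊕ Fin m) F) *ᵥ x = x := Iff.rfl

/-- `x - g x` is orthogonal to the fixed space of `g`. -/
theorem orth_Fix {g : Matrix.symplecticGroup (Fin m) F} {x y : V} (hx : x ∈ Fix g) :
    Cfsg.sympForm m F x (y - (g : Matrix (Fin m ⊕ Fin m) (Fin m ⊕ Fin m) F) *ᵥ y) = 0 := by
  rw [sub_right]
  conv_lhs => rw [← mem_Fix.mp hx]
  rw [(mem_symplecticGroup_iff g.1).mp g.2, mem_Fix.mp hx, sub_self]

theorem step {g : Matrix.symplecticGroup (Fin m) F} {x : V}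
    (hx : Cfsg.sympForm m F x ((g : Matrix (Fin m ⊕ Fin m) (Fin m ⊕ Fin m) F) *ᵥ x) ≠ 0) :
    ∃ t ∈ H m F, Fix g ≤ Fix (t * g) ∧ x ∈ Fix (t * g) := by
  set y := (g : Matrix (Fin m ⊕ Fin m) (Fin m ⊕ Fin m) F) *ᵥ x with hy
  have hyx : Cfsg.sympForm m F y x ≠ 0 := by
    rw [swap x y]; exact neg_ne_zero.mpr hx
  refine ⟨T (x - y) (Cfsg.sympForm m F y x)⁻¹, T_mem_H _ _, ?_, ?_⟩
  · intro z hz
    rw [mem_Fix, Submonoid.coe_mul, ← Matrix.mulVec_mulVec, mem_Fix.mp hz, T_fix]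
    exact orth_Fix hz
  · rw [mem_Fix, Submonoid.coe_mul, ← Matrix.mulVec_mulVec, ← hy, T_move hyx]

theorem H_eq_top_aux : ∀ (n : ℕ) (g : Matrix.symplecticGroup (Fin m) F),
    Module.finrank F V - Module.finrank F (Fix g) = n → g ∈ H m F := by
  intro n
  induction n using Nat.strong_induction_on with
  | _ n ih =>
  intro g hg
  by_cases h1 : g = 1
  · rw [h1]; exact one_mem _
  -- reduction
  have main : ∀ (g' : Matrix.symplecticGroup (Fin m) F) (x : V), Fix g ≤ Fix g' → x ∉ Fix g →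
      Cfsg.sympForm m F x ((g' : Matrix (Fin m ⊕ Fin m) (Fin m ⊕ Fin m) F) *ᵥ x) ≠ 0 →
      g' ∈ H m F := by
    intro g' x hle hxg hx
    obtain ⟨t, ht, hfix, hxf⟩ := step hx
    have hlt : Fix g < Fix (t * g') := by
      refine lt_of_le_of_ne (hle.trans hfix) ?_
      intro heq
      exact hxg (heq ▸ hxf)
    have h2 := Submodule.finrank_lt_finrank_of_lt hlt
    have h3 := Submodule.finrank_le (Fix (t * g'))
    have h4 := ih _ (by omega) (t * g') rfl
    have h5 := mul_mem (inv_mem ht) h4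
    rwa [inv_mul_cancel_left] at h5
  by_cases h2 : ∃ x, Cfsg.sympForm m F x
      ((g : Matrix (Fin m ⊕ Fin m) (Fin m ⊕ Fin m) F) *ᵥ x) ≠ 0
  · obtain ⟨x, hx⟩ := h2
    refine main g x le_rfl ?_ hx
    intro hxg
    rw [mem_Fix.mp hxg, self] at hx
    exact hx rfl
  · push Not at h2
    -- polarise
    have h3 : ∀ x y, Cfsg.sympForm m F x
        ((g : Matrix (Fin m ⊕ Fin m) (Fin m ⊕ Fin m) F) *ᵥ y) =
        Cfsg.sympForm m F ((g : Matrix (Fin m ⊕ Fin m) (Fin m ⊕ Fin m) F) *ᵥ x) y := by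
      intro x y
      have := h2 (x + y)
      rw [mulVec_add, add_left, add_right, add_right, h2, h2, zero_add, add_zero] at this
      rw [swap y _]
      linear_combination this
    obtain ⟨y, hy⟩ : ∃ y : V, (g : Matrix (Fin m ⊕ Fin m) (Fin m ⊕ Fin m) F) *ᵥ y ≠ y := by
      by_contra hcon
      push Not at hcon
      exact h1 (Sp_ext (fun x => by rw [hcon]; simp))
    set z := y - (g : Matrix (Fin m ⊕ Fin m) (Fin m ⊕ Fin m) F) *ᵥ y with hz
    have hz0 : z ≠ 0 := by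
      rw [hz]; exact sub_ne_zero.mpr (Ne.symm hy)
    obtain ⟨x, hx⟩ := exists_ne hz0
    have hxz : Cfsg.sympForm m F x z ≠ 0 := by
      rw [swap z x]; exact neg_ne_zero.mpr hx
    set g' := T z 1 * g with hg'
    have hle : Fix g ≤ Fix g' := by
      intro w hw
      rw [mem_Fix, hg', Submonoid.coe_mul, ← Matrix.mulVec_mulVec, mem_Fix.mp hw, hz, T_fix]
      exact orth_Fix hw
    have hgxz : Cfsg.sympForm m F ((g : Matrix (Fin m ⊕ Fin m) (Fin m ⊕ Fin m) F) *ᵥ x) z =
        - Cfsg.sympForm m F x z := by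
      rw [hz, sub_right, sub_right, ← h3, (mem_symplecticGroup_iff g.1).mp g.2]
      ring
    have hval : Cfsg.sympForm m F x
        ((g' : Matrix (Fin m ⊕ Fin m) (Fin m ⊕ Fin m) F) *ᵥ x) ≠ 0 := by
      rw [hg', Submonoid.coe_mul, ← Matrix.mulVec_mulVec, T_apply, add_right, smul_right, h2,
        hgxz, zero_add, one_mul, neg_mul]
      exact neg_ne_zero.mpr (mul_ne_zero hxz hxz)
    have hxg : x ∉ Fix g := by
      intro hxg
      exact hxz (orth_Fix hxg)
    have h5 := main g' x hle hxg hval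
    have h6 := mul_mem (inv_mem (T_mem_H z 1)) h5
    rwa [hg', inv_mul_cancel_left] at h6

theorem H_eq_top : H m F = ⊤ := by
  rw [eq_top_iff]
  intro g _
  exact H_eq_top_aux _ g rfl

end Cfsg.Agent.H5.Symp
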