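import Cfsg.Agent.H16_PolA
import Cfsg.Agent.H5_Symp
import Cfsg.Prelude.Def_LieTypeDatum

set_option autoImplicit false

/-! The symplectic groups as polar spaces with groups. -/

namespace Cfsg.Agent.H16.PSp

open Matrix Cfsg.Agent.H5 Cfsg.Agent.H5.Symp Cfsg.Agent.H5.Conc Cfsg.Agent.H16.Ps

variable {m : ℕ} {F : Type*} [Field F]

/-- the symplectic polar space. -/
def spP (m : ℕ) (F : Type*) [Field F] : Pol F (Fin m ⊕ Fin m → F) where
  bar := RingHom.id F
  bar_bar _ := rfl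
  ε := -1
  eps_mul := by ring
  bar_eps := rfl
  h := Cfsg.sympForm m F
  h_add_right := Symp.add_right
  h_smul_right a x y := Symp.smul_right a x y
  h_symm x y := by
    rw [Symp.swap x y]
    simp
  sg _ := True
  sg_smul _ _ _ := trivial
  sg_self x _ := Symp.self x
  sg_add _ _ _ _ _ := trivial
  sg_adj _ _ _ _ := ⟨0, trivial⟩
  nondeg x hx := by
    by_contra hne
    obtain ⟨v, hv⟩ := Symp.exists_ne hne
    exact hv (hx v)

/-- the natural representation. -/
def spR (m : ℕ) (F : Type*) [Field F] :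
    Matrix.symplecticGroup (Fin m) F →* Module.End F (Fin m ⊕ Fin m → F) :=
  ((Matrix.toLinAlgEquiv' : Matrix (Fin m ⊕ Fin m) (Fin m ⊕ Fin m) F ≃ₐ[F] _) :
    Matrix (Fin m ⊕ Fin m) (Fin m ⊕ Fin m) F →* Module.End F (Fin m ⊕ Fin m → F)).comp
    (Matrix.symplecticGroup (Fin m) F).subtype

theorem spR_apply (s : Matrix.symplecticGroup (Fin m) F) (x : Fin m ⊕ Fin m → F) :
    spR m F s x = (s : Matrix (Fin m ⊕ Fin m) (Fin m ⊕ Fin m) F) *ᵥ x := rfl

/-- the symplectic group on its polar space. -/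
def spG (m : ℕ) (F : Type*) [Field F] :
    PolG F (Fin m ⊕ Fin m → F) (Matrix.symplecticGroup (Fin m) F) where
  toPol := spP m F
  r := spR m F
  r_inj s t h := by
    apply Sp_ext
    intro x
    exact congrArg (fun g : Module.End F (Fin m ⊕ Fin m → F) => g x) h
  r_h s x y := (mem_symplecticGroup_iff s.1).mp s.2 x y
  r_sg _ _ _ := trivial
  exE z v w _ _ _ hzv hzw := by
    change Cfsg.sympForm m F z v = 1 at hzv
    change Cfsg.sympForm m F z w = 1 at hzw
    refine ⟨T (z + (w - v)) (-1) * T z (1 + Cfsg.sympForm m F w v) * T (w - v) 1, fun x => ?_⟩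
    change ((T (z + (w - v)) (-1) * T z (1 + Cfsg.sympForm m F w v) * T (w - v) 1 :
      Matrix.symplecticGroup (Fin m) F) : Matrix (Fin m ⊕ Fin m) (Fin m ⊕ Fin m) F) *ᵥ x = _
    change _ = x + Cfsg.sympForm m F z x • (w - v) - ((-1) * Cfsg.sympForm m F (w - v) x) • z +
      ((-1) * Cfsg.sympForm m F w v * Cfsg.sympForm m F z x) • z
    set u := w - v with hu
    have hzu : Cfsg.sympForm m F z u = 0 := by rw [hu, Symp.sub_right, hzv, hzw, sub_self]
    have huz : Cfsg.sympForm m F u z = 0 := by rw [Symp.swap z u, hzu, neg_zero]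
    rw [Submonoid.coe_mul, Submonoid.coe_mul, ← Matrix.mulVec_mulVec, ← Matrix.mulVec_mulVec, T_apply, T_apply,
      T_apply]
    simp only [Symp.add_left, Symp.add_right, Symp.smul_left, Symp.self, hzu, huz, mul_zero, add_zero]
    rw [Symp.swap x z, Symp.swap x u]
    module

theorem spG_h (x y : Fin m ⊕ Fin m → F) : (spG m F).h x y = Cfsg.sympForm m F x y := rfl

theorem spG_eps : (spG m F).ε = -1 := rfl

theorem spG_bar (a : F) : (spG m F).bar a = a := rfl

theorem spG_r (s : Matrix.symplecticGroup (Fin m) F) (x : Fin m ⊕ Fin m → F) :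
    (spG m F).r s x = (s : Matrix (Fin m ⊕ Fin m) (Fin m ⊕ Fin m) F) *ᵥ x := rfl

theorem spG_sg (x : Fin m ⊕ Fin m → F) : (spG m F).sg x := trivial

theorem rich : (spG m F).Rich := by
  intro x y _ _ hxy
  refine ⟨x + y, trivial, ?_, ?_⟩
  · rw [(spG m F).h_add_right, (spG m F).sg_self x trivial, zero_add]
    exact hxy
  · rw [(spG m F).h_add_right, (spG m F).sg_self y trivial, add_zero]
    exact (spG m F).h_comm_ne hxy

theorem span_top (x : Fin m ⊕ Fin m → F) : x ∈ Submodule.span F {y | (spG m F).sg y} :=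
  Submodule.subset_span trivial

theorem exists_sg (hm : 1 ≤ m) : ∃ x, (spG m F).sg x ∧ x ≠ 0 := by
  have : NeZero m := ⟨by omega⟩
  refine ⟨Pi.single (Sum.inl 0) 1, trivial, ?_⟩
  intro h
  have := congrFun h (Sum.inl 0)
  rw [Pi.single_eq_same] at this
  exact one_ne_zero this

/-- the projective symplectic group on its polar space. -/
def spT (hm : 1 ≤ m) (F : Type*) [Field F] :
    PolT F (Fin m ⊕ Fin m → F) (Matrix.symplecticGroup (Fin m) F) (Cfsg.PSp m F) :=
  (spG m F).toT rich span_top (exists_sg hm)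

theorem spT_pm (hm : 1 ≤ m) (s : Matrix.symplecticGroup (Fin m) F) :
    (spT hm F).pm s = QuotientGroup.mk s := rfl

theorem hX (v : Fin m ⊕ Fin m → F) (hv0 : v ≠ 0) : ∃ t ∈ (spG m F).X v, t ≠ 1 := by
  obtain ⟨w, hw⟩ := Symp.exists_ne hv0
  refine ⟨T v 1, ⟨⟨?_, fun x hx => ⟨0, ?_⟩⟩, fun x hx => ?_⟩, ?_⟩
  · rw [spG_r, T_apply, Symp.self]; simp
  · have : Cfsg.sympForm m F x v = 0 := by rw [Symp.swap v x]; exact neg_eq_zero.mpr hx
    rw [spG_r, T_apply, this]; simp
  · have : Cfsg.sympForm m F x v = 0 := by rw [Symp.swap v x]; exact neg_eq_zero.mpr hx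
    rw [spG_r, T_apply, this]; simp
  · intro h
    have h1 := T_apply v (1 : F) w
    rw [h] at h1
    have h2 : (Cfsg.sympForm m F w v) • v = 0 := by
      have : ((1 : Matrix.symplecticGroup (Fin m) F) : Matrix (Fin m ⊕ Fin m) (Fin m ⊕ Fin m) F) *ᵥ w = w := by
        rw [Submonoid.coe_one, one_mulVec]
      rw [this, one_mul] at h1
      exact (left_eq_add.mp h1)
    have h3 := (smul_eq_zero.mp h2).resolve_right hv0
    rw [Symp.swap v w, neg_eq_zero] at h3
    exact hw h3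

theorem hne [Finite F] (hm : 2 ≤ m) : ∀ v f, (spG m F).sg v → (spG m F).sg f → (spG m F).h v f = 1 →
    ∃ x ∈ (spG m F).perp v f, (spG m F).sg x ∧ x ≠ 0 := by
  intro v f hv hf hvf
  have h1 := (spG m F).finrank_perp hv hf hvf
  rw [Module.finrank_fintype_fun_eq_card, Fintype.card_sum, Fintype.card_fin] at h1
  have h2 : 0 < Module.finrank F ((spG m F).perp v f) := by omega
  have h3 : Nontrivial ((spG m F).perp v f) := Module.nontrivial_of_finrank_pos h2
  obtain ⟨⟨x, hx⟩, hx0⟩ := exists_ne (0 : (spG m F).perp v f)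
  exact ⟨x, hx, trivial, fun h => hx0 (Subtype.ext h)⟩

theorem hN : ∀ v f, (spG m F).sg v → (spG m F).sg f → (spG m F).h v f = 1 →
    ∀ x ∈ (spG m F).perp v f, ∀ y ∈ (spG m F).perp v f, (spG m F).sg x → (spG m F).sg y → x ≠ 0 → y ≠ 0 →
      ∃ z ∈ (spG m F).perp v f, (spG m F).sg z ∧ (spG m F).h x z ≠ 0 ∧ (spG m F).h y z ≠ 0 := by
  intro v f hv hf hvf x hx y hy _ _ hx0 hy0
  obtain ⟨z, h1, h2⟩ := ((spG m F).sub hv hf hvf).exists_ne_ne (v := ⟨x, hx⟩) (w := ⟨y, hy⟩)
    (fun h => hx0 (congrArg Subtype.val h)) (fun h => hy0 (congrArg Subtype.val h))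
  exact ⟨z, z.2, trivial, h1, h2⟩

theorem irr [Finite F] (hm : 2 ≤ m) : (spG m F).Irr :=
  (spG m F).irr_of (hne hm) hN ((spG m F).mv_of_X (fun v _ => hX v) (hne hm))

/-- in odd characteristic the centre of the radical is the transvection group. -/
theorem hcomm (h2 : (2 : F) ≠ 0) : ∀ v, (spG m F).sg v → v ≠ 0 → ∀ t ∈ (spG m F).Q v,
    (∀ s ∈ (spG m F).Q v, t * s = s * t) → t ∈ (spG m F).X v := by
  intro v hv hv0 t ht hc
  obtain ⟨f, hf, hvf⟩ := (spG m F).exists_opp hv hv0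
  rw [(spG m F).mem_X_iff hv hf hvf ht]
  have h3 := ((spG m F).sub hv hf hvf).nondeg ⟨(spG m F).uu v f t, (spG m F).uu_mem hv hf hvf t⟩ (by
    rintro ⟨w, hw⟩
    change (spG m F).h ((spG m F).uu v f t) w = 0
    obtain ⟨s, hs, hsw⟩ := (spG m F).exU hv hf hvf hw
    have hr := congrArg (fun g => (spG m F).h f ((spG m F).r g f)) (hc s hs)
    simp only [(spG m F).r_mul] at hr
    obtain ⟨a, ha⟩ := (spG m F).r_f hv hf hvf hs
    obtain ⟨b, hb⟩ := (spG m F).r_f hv hf hvf ht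
    rw [ha, hb, (spG m F).r_add, (spG m F).r_add, (spG m F).r_add, (spG m F).r_add, (spG m F).r_smul,
      (spG m F).r_smul, ha, hb, ht.1, hs.1, (spG m F).Q_act' hv hf hvf ht ((spG m F).uu_mem hv hf hvf s),
      (spG m F).Q_act' hv hf hvf hs ((spG m F).uu_mem hv hf hvf t)] at hr
    simp only [(spG m F).h_add_right, (spG m F).h_smul_right, (spG m F).h_sub_right, (spG m F).sg_self f hf,
      (spG m F).h_fe hvf, ((spG m F).uu_mem hv hf hvf s).2, ((spG m F).uu_mem hv hf hvf t).2, hsw] at hr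
    have h4 : (spG m F).h w ((spG m F).uu v f t) = -(spG m F).h ((spG m F).uu v f t) w := by
      have := (spG m F).h_symm ((spG m F).uu v f t) w
      rw [this, spG_eps, spG_bar]; ring
    rw [h4, spG_eps] at hr
    have h5 : 2 * (spG m F).h ((spG m F).uu v f t) w = 0 := by linear_combination -hr
    exact (mul_eq_zero.mp h5).resolve_left h2)
  exact congrArg Subtype.val h3

theorem hE (hm : 1 ≤ m) {α : MulAut (Cfsg.PSp m F)} : ∀ e f e' f', (spT hm F).Setup α e f e' f' →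
    ∀ x ∈ (spT hm F).perp e f, ∀ y ∈ (spT hm F).perp e f, (spT hm F).sg x → (spT hm F).sg y →
      (spT hm F).h x y ≠ 0 → ∀ a n : F,
        PolT.Setup.A (spT hm F) α e f e' f' (a • x) = n • PolT.Setup.A (spT hm F) α e f e' f' x →
        PolT.Setup.A (spT hm F) α e f e' f' (a • y) = n • PolT.Setup.A (spT hm F) α e f e' f' y := by
  intro e f e' f' D x hx y hy _ _ hxy a n h
  have hx0 : x ≠ 0 := by rintro rfl; exact hxy ((spT hm F).h_zero_left _)
  have hy0 : y ≠ 0 := by rintro rfl; exact hxy ((spT hm F).h_zero_right _)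
  refine D.mu_conn hx hy trivial trivial hx0 hy0 ?_ trivial h
  rintro ⟨c, hc, rfl⟩
  rw [(spT hm F).h_smul_right, (spT hm F).sg_self x trivial, mul_zero] at hxy
  exact hxy rfl

/-- the general form. -/
theorem final [Finite F] (hm : 2 ≤ m) (hrel : ∀ α : MulAut (Cfsg.PSp m F), ∀ v, v ≠ 0 →
      ∃ v', (spT (show 1 ≤ m by omega) F).Rel α v v') (α : MulAut (Cfsg.PSp m F)) :
    ∃ (M : GL (Fin m ⊕ Fin m) F) (σ : F ≃+* F), M ∈ Cfsg.GSp m F ∧
      ∀ s s' : Matrix.symplecticGroup (Fin m) F, (QuotientGroup.mk s' : Cfsg.PSp m F) = α (QuotientGroup.mk s) →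
        ∃ c : F, c ≠ 0 ∧ (s' : Matrix (Fin m ⊕ Fin m) (Fin m ⊕ Fin m) F) *
          (M : Matrix (Fin m ⊕ Fin m) (Fin m ⊕ Fin m) F) =
          c • ((M : Matrix (Fin m ⊕ Fin m) (Fin m ⊕ Fin m) F) *
            (s : Matrix (Fin m ⊕ Fin m) (Fin m ⊕ Fin m) F).map σ) := by
  have hm1 : 1 ≤ m := by omega
  obtain ⟨M, σ, k, hk, h1, -, h3⟩ := PolT.final (P := spT hm1 F) (α := α) rich (hne hm) hN
    (fun _ _ _ _ _ _ _ => Or.inr fun _ _ _ _ _ _ _ => trivial) (hE hm1) (fun v _ hv0 => hrel α v hv0)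
    (fun v _ hv0 => hrel α⁻¹ v hv0) (exists_sg hm1)
  have hsurj : ∀ x : Fin m ⊕ Fin m → F, ∃ y : Fin m ⊕ Fin m → F, x = fun i => σ (y i) := fun x =>
    ⟨fun i => σ.symm (x i), funext fun i => (σ.apply_symm_apply _).symm⟩
  have hform : ∀ x y : Fin m ⊕ Fin m → F,
      Cfsg.sympForm m F (fun i => σ (x i)) (fun i => σ (y i)) = σ (Cfsg.sympForm m F x y) := by
    intro x y
    simp only [Cfsg.sympForm, dotProduct, Matrix.mulVec, Matrix.J, map_sum, map_mul]
    refine Finset.sum_congr rfl fun i _ => ?_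
    congr 1
    refine Finset.sum_congr rfl fun j _ => ?_
    congr 1
    rcases i with i | i <;> rcases j with j | j <;>
      simp [Matrix.fromBlocks, Matrix.one_apply, apply_ite σ, Matrix.neg_apply]
  refine ⟨M, σ, ⟨Units.mk0 k hk, ?_⟩, ?_⟩
  · intro u v
    obtain ⟨x, rfl⟩ := hsurj u
    obtain ⟨y, rfl⟩ := hsurj v
    rw [hform]
    exact h1 x y
  · intro s s' h
    obtain ⟨c, hc, h4⟩ := h3 s s' h
    refine ⟨c, hc, ?_⟩
    apply ext_mulVec
    intro x
    obtain ⟨y, rfl⟩ := hsurj x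
    have h5 := h4 y
    have h6 : (fun i => σ ((spT hm1 F).r s y i)) =
        (s : Matrix (Fin m ⊕ Fin m) (Fin m ⊕ Fin m) F).map σ *ᵥ (fun i => σ (y i)) := by
      funext i
      change σ (((s : Matrix (Fin m ⊕ Fin m) (Fin m ⊕ Fin m) F) *ᵥ y) i) = _
      simp only [Matrix.mulVec, dotProduct, map_sum, map_mul, Matrix.map_apply]
    rw [h6] at h5
    rw [smul_mulVec, ← mulVec_mulVec, ← mulVec_mulVec]
    exact h5

/-- odd characteristic: every automorphism permutes the points. -/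
theorem hrel_odd [Finite F] (hm : 2 ≤ m) (h2 : (2 : F) ≠ 0) (α : MulAut (Cfsg.PSp m F))
    (v : Fin m ⊕ Fin m → F) (hv0 : v ≠ 0) : ∃ v', (spT (show 1 ≤ m by omega) F).Rel α v v' := by
  have hm1 : 1 ≤ m := by omega
  have : Finite (Matrix.symplecticGroup (Fin m) F) :=
    Finite.of_injective (fun s : Matrix.symplecticGroup (Fin m) F =>
      (s : Matrix (Fin m ⊕ Fin m) (Fin m ⊕ Fin m) F)) Subtype.val_injective
  exact (spT hm1 F).exists_rel_of_sylow (fun s => rfl) (PolG.big_of_rich rich) (fun v _ => hX v) (hcomm h2)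
    (irr hm) α trivial hv0

end Cfsg.Agent.H16.PSp
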