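import Cfsg.Agent.H16_PolA

set_option autoImplicit false

/-! Semilinear maps commuting with the group up to scalars are scalar. -/

namespace Cfsg.Agent.H16.Ps

namespace PolG

variable {F V S : Type*} [Field F] [AddCommGroup V] [Module F V] [Group S] (P : PolG F V S)

theorem ker_lemma [Finite S] (hB : P.Big) {e f : V} (he : P.sg e) (hf : P.sg f)
    (hef : P.h e f = 1) (hne : ∃ u ∈ P.perp e f, u ≠ 0)
    (hc : ∀ c : F, ∃ u ∈ P.perp e f, P.sg (f + u + c • e)) {σ : F ≃+* F} {γ : V → V}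
    (hadd : ∀ x y, γ (x + y) = γ x + γ y) (hsmul : ∀ (a : F) x, γ (a • x) = σ a • γ x)
    (hinj : ∀ x, γ x = 0 → x = 0)
    (h : ∀ s : S, ∃ c : F, ∀ x, γ (P.r s x) = c • P.r s (γ x)) [Finite F] :
    σ = 1 ∧ ∃ l : F, l ≠ 0 ∧ ∀ x, γ x = l • x := by
  obtain ⟨p, hp⟩ := CharP.exists F
  have : Fact p.Prime := ⟨CharP.char_is_prime F p⟩
  have he0 : e ≠ 0 := by rintro rfl; rw [P.h_zero_left] at hef; exact zero_ne_one hef
  have hf0 : f ≠ 0 := by rintro rfl; rw [P.h_zero_right] at hef; exact zero_ne_one hef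
  -- radicals commute with `γ`
  have h1 : ∀ v, P.sg v → v ≠ 0 → ∀ t ∈ P.Q v, ∀ x, γ (P.r t x) = P.r t (γ x) := by
    intro v hv hv0 t ht x
    obtain ⟨c, hc⟩ := h t
    have h2 : ∀ (n : ℕ) x, γ (P.r (t ^ n) x) = c ^ n • P.r (t ^ n) (γ x) := by
      intro n
      induction n with
      | zero => intro x; simp
      | succ n ih =>
        intro x
        rw [pow_succ, P.r_mul, ih, hc, P.r_smul, smul_smul, ← pow_succ, P.r_mul]
    obtain ⟨k, hk⟩ := P.Q_pgroup (p := p) hv hv0 ⟨t, ht⟩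
    have hk' : t ^ p ^ k = 1 := congrArg Subtype.val hk
    have h3 := h2 (p ^ k) v
    rw [hk', P.r_one, P.r_one] at h3
    have hγv : γ v ≠ 0 := fun h => hv0 (hinj v h)
    have h4 : (c ^ p ^ k - 1) • γ v = 0 := by rw [sub_smul, ← h3, one_smul, sub_self]
    have h5 : c = 1 := scalar_pow_one (p := p) (sub_eq_zero.mp ((smul_eq_zero.mp h4).resolve_right hγv))
    rw [hc, h5, one_smul]
  have h2 : ∀ v, P.sg v → v ≠ 0 → Sim F v (γ v) := by
    intro v hv hv0
    have hγv : γ v ≠ 0 := fun h => hv0 (hinj v h)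
    refine P.fixed_Q hB hv hv0 hγv fun t ht => ?_
    rw [← h1 v hv hv0 t ht, ht.1]
  obtain ⟨a, ha, hγe⟩ := h2 e he he0
  obtain ⟨b, hb, hγf⟩ := h2 f hf hf0
  -- opposites of `e`
  have h3 : ∀ u ∈ P.perp e f, ∀ c : F, P.sg (f + u + c • e) → γ u = b • u + (b * c - σ c * a) • e := by
    intro u hu c hs
    have h4 : P.h e (f + u + c • e) = 1 := by
      rw [P.h_add_right, P.h_add_right, P.h_smul_right, hef, hu.1, P.sg_self e he, mul_zero, add_zero, add_zero]
    obtain ⟨t, ht, h5⟩ := P.exQ he hf hs hef h4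
    have h6 := h1 e he he0 t ht f
    rw [h5, hγf, P.r_smul, h5, hadd, hadd, hsmul, hγe, hγf] at h6
    have h7 : γ u = b • (f + u + c • e) - b • f - σ c • a • e := by rw [← h6]; abel
    rw [h7]
    module
  -- opposites of `f`
  have h4 : ∀ u ∈ P.perp e f, ∃ d : F, γ u = a • u + d • f := by
    intro u hu
    have h5 : P.h f (e + u) ≠ 0 := by
      rw [P.h_add_right, hu.2, add_zero, P.h_fe hef]; exact P.eps_ne
    obtain ⟨c, hs⟩ := P.sg_adj f (e + u) hf h5
    have hfe : P.h f (P.ε • e) = 1 := by rw [P.h_smul_right, P.h_fe hef, P.eps_mul]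
    have h6 : P.h f (P.ε • (e + u + c • f)) = 1 := by
      rw [P.h_smul_right, P.h_add_right, P.h_add_right, P.h_smul_right, hu.2, P.sg_self f hf, P.h_fe hef]
      linear_combination P.eps_mul
    obtain ⟨t, ht, h7⟩ := P.exQ hf (P.sg_smul _ _ he) (P.sg_smul _ _ hs) hfe h6
    rw [P.r_smul] at h7
    have h7' : P.r t e = e + u + c • f := by
      have := congrArg (fun x => P.ε • x) h7
      simp only [smul_smul, P.eps_mul, one_smul] at this
      exact this
    have h8 := h1 f hf hf0 t ht e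
    rw [h7', hγe, P.r_smul, h7', hadd, hadd, hsmul, hγe, hγf] at h8
    refine ⟨a * c - σ c * b, ?_⟩
    have h9 : γ u = a • (e + u + c • f) - a • e - σ c • b • f := by rw [← h8]; abel
    rw [h9]
    module
  have hab : a = b := by
    obtain ⟨u, hu, hu0⟩ := hne
    have h5 : P.h e (f + u) ≠ 0 := by
      rw [P.h_add_right, hu.1, add_zero, hef]; exact one_ne_zero
    obtain ⟨c, hs⟩ := P.sg_adj e (f + u) he h5
    have h6 := h3 u hu c hs
    obtain ⟨d, h7⟩ := h4 u hu
    rw [h6] at h7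
    have h8 := congrArg (P.h e) h7
    have h9 := congrArg (P.h f) h7
    simp only [P.h_add_right, P.h_smul_right, hu.1, hu.2, hef, P.h_fe hef, P.sg_self e he, P.sg_self f hf,
      mul_zero, zero_add, add_zero, mul_one] at h8 h9
    have h10 : b * c - σ c * a = 0 := (mul_eq_zero.mp h9).resolve_right P.eps_ne
    rw [← h8, h10, zero_smul, zero_smul, add_zero, add_zero] at h7
    have h11 : (a - b) • u = 0 := by rw [sub_smul, h7, sub_self]
    exact sub_eq_zero.mp ((smul_eq_zero.mp h11).resolve_right hu0)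
  subst hab
  have h5 : ∀ u ∈ P.perp e f, ∀ c : F, P.sg (f + u + c • e) → γ u = a • u ∧ a * c - σ c * a = 0 := by
    intro u hu c hs
    have h6 := h3 u hu c hs
    obtain ⟨d, h7⟩ := h4 u hu
    have h8 := h7
    rw [h6] at h8
    have h9 := congrArg (P.h f) h8
    simp only [P.h_add_right, P.h_smul_right, hu.1, hu.2, hef, P.h_fe hef, P.sg_self e he, P.sg_self f hf,
      mul_zero, zero_add, add_zero, mul_one] at h9
    have h10 : a * c - σ c * a = 0 := (mul_eq_zero.mp h9).resolve_right P.eps_ne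
    rw [h10, zero_smul, add_zero] at h6
    exact ⟨h6, h10⟩
  have h6 : ∀ u ∈ P.perp e f, γ u = a • u := by
    intro u hu
    have h7 : P.h e (f + u) ≠ 0 := by
      rw [P.h_add_right, hu.1, add_zero, hef]; exact one_ne_zero
    obtain ⟨c, hs⟩ := P.sg_adj e (f + u) he h7
    exact (h5 u hu c hs).1
  have h7 : σ = 1 := by
    ext c
    obtain ⟨u, hu, hs⟩ := hc c
    have h8 := (h5 u hu c hs).2
    have h9 : a * (c - σ c) = 0 := by linear_combination h8
    exact (sub_eq_zero.mp ((mul_eq_zero.mp h9).resolve_left ha)).symm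
  refine ⟨h7, a, ha, fun x => ?_⟩
  subst h7
  rw [P.eq_prj e f x, hadd, hadd, hsmul, hsmul, hγe, hγf, h6 _ (P.prj_mem he hf hef x)]
  change (P.ε * P.h f x) • a • e + P.h e x • a • f + a • P.prj e f x = _
  module

end PolG

end Cfsg.Agent.H16.Ps
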