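import Cfsg.Agent.H16_PSp1
import Cfsg.Agent.H16_PolB
import Cfsg.Agent.H16_Gam

set_option autoImplicit false

/-! The symplectic family: semilinear group, automorphisms. -/

namespace Cfsg.Agent.H16.PSp

open Matrix Cfsg.Agent.H5 Cfsg.Agent.H5.Symp Cfsg.Agent.H5.Conc Cfsg.Agent.H16.Ps Cfsg.Agent.H16.Gam
  Cfsg.Agent.H16.AutL Cfsg.Agent.H16.AutG Cfsg.Agent.H16.Desc

variable {m : ℕ} {F : Type*} [Field F]

local notation "ι₂" => (Fin m ⊕ Fin m)

theorem form_map (σ : F ≃+* F) (x y : Fin m ⊕ Fin m → F) :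
    Cfsg.sympForm m F (fun i => σ (x i)) (fun i => σ (y i)) = σ (Cfsg.sympForm m F x y) := by
  simp only [Cfsg.sympForm, dotProduct, Matrix.mulVec, Matrix.J, map_sum, map_mul]
  refine Finset.sum_congr rfl fun i _ => ?_
  congr 1
  refine Finset.sum_congr rfl fun j _ => ?_
  congr 1
  rcases i with i | i <;> rcases j with j | j <;>
    simp [Matrix.fromBlocks, Matrix.one_apply, apply_ite σ, Matrix.neg_apply]

/-- `Sp → GL`. -/
def toG (m : ℕ) (F : Type*) [Field F] : Matrix.symplecticGroup (Fin m) F →* GL (Fin m ⊕ Fin m) F :=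
  MonoidHom.toHomUnits (Matrix.symplecticGroup (Fin m) F).subtype

theorem toG_coe (s : Matrix.symplecticGroup (Fin m) F) : ((toG m F s : GL (Fin m ⊕ Fin m) F) :
    Matrix (Fin m ⊕ Fin m) (Fin m ⊕ Fin m) F) = s := rfl

theorem toG_inj : Function.Injective (toG m F) := by
  intro s t h
  apply Subtype.ext
  exact congrArg (fun g : GL (Fin m ⊕ Fin m) F => (g : Matrix (Fin m ⊕ Fin m) (Fin m ⊕ Fin m) F)) h

theorem exists_toG {g : GL (Fin m ⊕ Fin m) F} (h : ∀ u v, Cfsg.sympForm m F ((g : Matrix (Fin m ⊕ Fin m) (Fin m ⊕ Fin m) F) *ᵥ u)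
    ((g : Matrix (Fin m ⊕ Fin m) (Fin m ⊕ Fin m) F) *ᵥ v) = Cfsg.sympForm m F u v) : ∃ s, toG m F s = g :=
  ⟨⟨g, (mem_symplecticGroup_iff _).mpr h⟩, Units.ext rfl⟩

theorem toG_form (s : Matrix.symplecticGroup (Fin m) F) (u v : Fin m ⊕ Fin m → F) :
    Cfsg.sympForm m F (((toG m F s : GL (Fin m ⊕ Fin m) F) : Matrix (Fin m ⊕ Fin m) (Fin m ⊕ Fin m) F) *ᵥ u)
    (((toG m F s : GL (Fin m ⊕ Fin m) F) : Matrix (Fin m ⊕ Fin m) (Fin m ⊕ Fin m) F) *ᵥ v) = Cfsg.sympForm m F u v :=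
  (mem_symplecticGroup_iff s.1).mp s.2 u v

theorem map_mulVec' (σ : F ≃+* F) (g : GL (Fin m ⊕ Fin m) F) (v : Fin m ⊕ Fin m → F) :
    ((gσ σ g : GL (Fin m ⊕ Fin m) F) : Matrix (Fin m ⊕ Fin m) (Fin m ⊕ Fin m) F) *ᵥ (fun i => σ (v i)) =
      fun i => σ (((g : Matrix (Fin m ⊕ Fin m) (Fin m ⊕ Fin m) F) *ᵥ v) i) := by
  funext i
  rw [gσ_coe]
  simp only [Matrix.mulVec, dotProduct, map_sum, map_mul, Matrix.map_apply]

theorem exists_map (σ : F ≃+* F) (u : Fin m ⊕ Fin m → F) : ∃ x : Fin m ⊕ Fin m → F, u = fun i => σ (x i) :=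
  ⟨fun i => σ.symm (u i), funext fun i => (σ.apply_symm_apply _).symm⟩

theorem gσ_mem (σ : F ≃+* F) {g : GL (Fin m ⊕ Fin m) F} (hg : g ∈ Cfsg.GSp m F) : gσ σ g ∈ Cfsg.GSp m F := by
  obtain ⟨c, hc⟩ := hg
  refine ⟨Units.map (σ : F →* F) c, fun u v => ?_⟩
  obtain ⟨x, rfl⟩ := exists_map σ u
  obtain ⟨y, rfl⟩ := exists_map σ v
  rw [map_mulVec', map_mulVec', form_map, form_map, hc, map_mul]
  rfl

/-- the semilinear group `ΓSp`. -/
def GamSp (m : ℕ) (F : Type*) [Field F] : Subgroup (Gm (Fin m ⊕ Fin m) F) where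
  carrier := {x | x.left ∈ Cfsg.GSp m F}
  one_mem' := one_mem (Cfsg.GSp m F)
  mul_mem' := by
    intro x y hx hy
    change (x * y).left ∈ Cfsg.GSp m F
    rw [SemidirectProduct.mul_left]
    exact mul_mem hx (gσ_mem _ hy)
  inv_mem' := by
    intro x hx
    change (x⁻¹).left ∈ Cfsg.GSp m F
    rw [SemidirectProduct.inv_left]
    exact gσ_mem _ (inv_mem hx)

theorem scal_mem (c : Fˣ) : scl (Fin m ⊕ Fin m) c ∈ Cfsg.GSp m F := by
  refine ⟨c * c, fun u v => ?_⟩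
  have : ∀ w : Fin m ⊕ Fin m → F, ((scl (Fin m ⊕ Fin m) c : GL (Fin m ⊕ Fin m) F) : Matrix (Fin m ⊕ Fin m) (Fin m ⊕ Fin m) F) *ᵥ w = (c : F) • w := by
    intro w
    change (Matrix.scalar _ (c : F)) *ᵥ w = _
    funext i
    rw [Matrix.scalar_apply, Matrix.mulVec_diagonal]
    rfl
  rw [this, this, Symp.smul_left, Symp.smul_right, Units.val_mul, mul_assoc]

theorem scl_mulVec {ι : Type*} [Fintype ι] [DecidableEq ι] (c : Fˣ) (w : ι → F) :
    ((scl ι c : GL ι F) : Matrix ι ι F) *ᵥ w = (c : F) • w := by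
  change (Matrix.scalar _ (c : F)) *ᵥ w = _
  funext i
  rw [Matrix.scalar_apply, Matrix.mulVec_diagonal]
  rfl

theorem gl_ext {ι : Type*} [Fintype ι] [DecidableEq ι] {g h : GL ι F}
    (H : ∀ x, (g : Matrix ι ι F) *ᵥ x = (h : Matrix ι ι F) *ᵥ x) : g = h := Units.ext (ext_mulVec H)

theorem coe_mul_mulVec {ι : Type*} [Fintype ι] [DecidableEq ι] (g h : GL ι F) (x : ι → F) :
    ((g * h : GL ι F) : Matrix ι ι F) *ᵥ x = (g : Matrix ι ι F) *ᵥ ((h : Matrix ι ι F) *ᵥ x) := by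
  rw [Units.val_mul, mulVec_mulVec]

/-- the family. -/
noncomputable def fam (hm : 2 ≤ m) (F : Type*) [Field F] [Finite F] :
    Fam (Matrix.symplecticGroup (Fin m) F) (Fin m ⊕ Fin m) F where
  ρ := toG m F
  inj := toG_inj
  Γ := GamSp m F
  hΓ := by
    rintro x ⟨c, hc⟩ s
    apply exists_toG
    have key : ∀ w : Fin m ⊕ Fin m → F, ((act x (toG m F s) : GL (Fin m ⊕ Fin m) F) : Matrix (Fin m ⊕ Fin m) (Fin m ⊕ Fin m) F) *ᵥ w =
        (x.left : Matrix (Fin m ⊕ Fin m) (Fin m ⊕ Fin m) F) *ᵥ (((gσ x.right (toG m F s) : GL (Fin m ⊕ Fin m) F) : Matrix (Fin m ⊕ Fin m) (Fin m ⊕ Fin m) F) *ᵥ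
          (((x.left⁻¹ : GL (Fin m ⊕ Fin m) F) : Matrix (Fin m ⊕ Fin m) (Fin m ⊕ Fin m) F) *ᵥ w)) := by
      intro w
      rw [act_apply, coe_mul_mulVec, coe_mul_mulVec]
    have hc' : ∀ u v, Cfsg.sympForm m F (((x.left⁻¹ : GL (Fin m ⊕ Fin m) F) : Matrix (Fin m ⊕ Fin m) (Fin m ⊕ Fin m) F) *ᵥ u)
        (((x.left⁻¹ : GL (Fin m ⊕ Fin m) F) : Matrix (Fin m ⊕ Fin m) (Fin m ⊕ Fin m) F) *ᵥ v) = (c : F)⁻¹ * Cfsg.sympForm m F u v := by
      intro u v
      have h1 := hc (((x.left⁻¹ : GL (Fin m ⊕ Fin m) F) : Matrix (Fin m ⊕ Fin m) (Fin m ⊕ Fin m) F) *ᵥ u) (((x.left⁻¹ : GL (Fin m ⊕ Fin m) F) : Matrix (Fin m ⊕ Fin m) (Fin m ⊕ Fin m) F) *ᵥ v)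
      rw [← coe_mul_mulVec, ← coe_mul_mulVec, mul_inv_cancel, Units.val_one, one_mulVec, one_mulVec] at h1
      rw [h1, inv_mul_cancel_left₀ c.ne_zero]
    intro u v
    rw [key, key, hc]
    obtain ⟨u', hu'⟩ := exists_map x.right (((x.left⁻¹ : GL (Fin m ⊕ Fin m) F) : Matrix (Fin m ⊕ Fin m) (Fin m ⊕ Fin m) F) *ᵥ u)
    obtain ⟨v', hv'⟩ := exists_map x.right (((x.left⁻¹ : GL (Fin m ⊕ Fin m) F) : Matrix (Fin m ⊕ Fin m) (Fin m ⊕ Fin m) F) *ᵥ v)
    have h1 := hc' u v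
    rw [hu', hv', form_map] at h1
    rw [hu', hv', map_mulVec', map_mulVec', form_map, toG_form, h1, mul_inv_cancel_left₀ c.ne_zero]
  inn s := by
    change toG m F s ∈ Cfsg.GSp m F
    exact ⟨1, fun u v => by rw [toG_form, Units.val_one, one_mul]⟩
  sc c := scal_mem c
  ker := by
    rintro x hx h
    have hm1 : 1 ≤ m := by omega
    have hfin : Finite (Matrix.symplecticGroup (Fin m) F) :=
      Finite.of_injective (fun s : Matrix.symplecticGroup (Fin m) F =>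
        (s : Matrix (Fin m ⊕ Fin m) (Fin m ⊕ Fin m) F)) Subtype.val_injective
    obtain ⟨e, he, he0⟩ := exists_sg (m := m) (F := F) hm1
    obtain ⟨f, hf, hef⟩ := (spG m F).exists_opp he he0
    obtain ⟨u, hu, -, hu0⟩ := hne hm e f he hf hef
    have h1 := (spG m F).ker_lemma (σ := x.right) (γ := fun v => (x.left : Matrix (Fin m ⊕ Fin m) (Fin m ⊕ Fin m) F) *ᵥ (fun i => x.right (v i)))
      (PolG.big_of_rich rich) he hf hef ⟨u, hu, hu0⟩ (fun c => ⟨u, hu, trivial⟩)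
      (by
        intro a b
        have : (fun i => x.right ((a + b) i)) = (fun i => x.right (a i)) + fun i => x.right (b i) := by
          funext i; exact map_add _ _ _
        simp only [this, mulVec_add])
      (by
        intro a b
        have : (fun i => x.right ((a • b) i)) = x.right a • fun i => x.right (b i) := by
          funext i; exact map_mul _ _ _
        simp only [this, mulVec_smul])
      (by
        intro v hv
        have h2 := congrArg (fun w => ((x.left⁻¹ : GL (Fin m ⊕ Fin m) F) : Matrix (Fin m ⊕ Fin m) (Fin m ⊕ Fin m) F) *ᵥ w) hv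
        simp only [← coe_mul_mulVec, inv_mul_cancel, Units.val_one, one_mulVec, mulVec_zero] at h2
        funext i
        have h3 := congrFun h2 i
        exact (map_eq_zero x.right).mp h3)
      (by
        intro s
        obtain ⟨c, hc⟩ := h s
        refine ⟨c, fun v => ?_⟩
        have h2 : x.left * gσ x.right (toG m F s) = scl _ c * toG m F s * x.left := by
          rw [← hc, act_apply, inv_mul_cancel_right]
        have h3 := congrArg (fun g : GL (Fin m ⊕ Fin m) F => (g : Matrix (Fin m ⊕ Fin m) (Fin m ⊕ Fin m) F) *ᵥ (fun i => x.right (v i))) h2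
        simp only [coe_mul_mulVec, map_mulVec', scl_mulVec] at h3
        exact h3)
    obtain ⟨h2, l, hl, h3⟩ := h1
    refine ⟨Units.mk0 l hl, ?_⟩
    apply SemidirectProduct.ext
    · rw [SemidirectProduct.left_inl]
      apply gl_ext
      intro v
      rw [scl_mulVec]
      have h4 := h3 v
      rw [h2] at h4
      exact h4
    · exact h2
  cen s := by
    rw [(spG m F).center_iff rich span_top (exists_sg (by omega))]
    constructor
    · rintro ⟨c, hc⟩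
      have hc0 : c ≠ 0 := by
        rintro rfl
        obtain ⟨e, he, he0⟩ := exists_sg (m := m) (F := F) (by omega)
        have := hc e
        rw [zero_smul] at this
        exact (spG m F).r_ne_zero s he0 this
      refine ⟨Units.mk0 c hc0, gl_ext fun v => ?_⟩
      rw [scl_mulVec]
      exact hc v
    · rintro ⟨c, hc⟩
      refine ⟨c, fun v => ?_⟩
      have h1 := congrArg (fun g : GL (Fin m ⊕ Fin m) F => (g : Matrix (Fin m ⊕ Fin m) (Fin m ⊕ Fin m) F) *ᵥ v) hc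
      simp only [scl_mulVec] at h1
      exact h1

theorem fam_hasField [Finite F] (hm : 2 ≤ m) : (fam hm F).HasField := by
  intro σ
  change (1 : GL (Fin m ⊕ Fin m) F) ∈ Cfsg.GSp m F
  exact one_mem _

theorem mem_fam_N [Finite F] (hm : 2 ≤ m) {g : GL (Fin m ⊕ Fin m) F} : g ∈ (fam hm F).N ↔ g ∈ Cfsg.GSp m F := Iff.rfl

/-- if automorphisms permute the points, they come from `ΓSp`. -/
theorem full_of_rel [Finite F] (hm : 2 ≤ m) (hrel : ∀ α : MulAut (Cfsg.PSp m F), ∀ v, v ≠ 0 →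
      ∃ v', (spT (show 1 ≤ m by omega) F).Rel α v v') : (fam hm F).Full := by
  intro α
  obtain ⟨M, σ, hM, h⟩ := final hm hrel α
  let x : (fam hm F).Γ := ⟨⟨M, σ⟩, hM⟩
  refine ⟨x, ?_⟩
  ext1 s
  induction s using QuotientGroup.induction_on with
  | H s =>
    obtain ⟨s', hs'⟩ := QuotientGroup.mk_surjective (α (QuotientGroup.mk s))
    obtain ⟨c, hc, h1⟩ := h s s' hs'
    rw [Fam.T_mk, ← hs', (fam hm F).mk_eq_iff]
    refine ⟨Units.mk0 c hc, ?_⟩
    rw [rho_tr, act_apply]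
    change toG m F s' = scl _ (Units.mk0 c hc) * (M * gσ σ (toG m F s) * M⁻¹)
    rw [← mul_assoc, eq_mul_inv_iff_mul_eq]
    apply Units.ext
    change (s' : Matrix (Fin m ⊕ Fin m) (Fin m ⊕ Fin m) F) * (M : Matrix (Fin m ⊕ Fin m) (Fin m ⊕ Fin m) F) = _
    rw [h1]
    apply ext_mulVec
    intro v
    rw [coe_mul_mulVec, scl_mulVec, smul_mulVec]
    rfl

theorem full_odd [Finite F] (hm : 2 ≤ m) (h2 : (2 : F) ≠ 0) : (fam hm F).Full :=
  full_of_rel hm (fun α v hv => hrel_odd hm h2 α v hv)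

/-- translation of the predicate. -/
theorem induced_iff [Finite F] (hm : 2 ≤ m) {g : GL (Fin m ⊕ Fin m) F} {σ : F ≃+* F} (hg : g ∈ Cfsg.GSp m F)
    {β : MulAut (Cfsg.PSp m F)} : Cfsg.IsInducedBySemilinearPSp g σ β ↔
      β = (fam hm F).T ⟨⟨g, σ⟩, hg⟩ := by
  have key : ∀ s s' : Matrix.symplecticGroup (Fin m) F, (s' : Matrix (Fin m ⊕ Fin m) (Fin m ⊕ Fin m) F) =
        (g : Matrix (Fin m ⊕ Fin m) (Fin m ⊕ Fin m) F) * (s : Matrix (Fin m ⊕ Fin m) (Fin m ⊕ Fin m) F).map σ *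
          ((g⁻¹ : GL (Fin m ⊕ Fin m) F) : Matrix (Fin m ⊕ Fin m) (Fin m ⊕ Fin m) F) ↔
      s' = tr (fam hm F).ρ (fam hm F).inj (fam hm F).Γ (fam hm F).hΓ ⟨⟨g, σ⟩, hg⟩ s := by
    intro s s'
    constructor
    · intro h
      apply (fam hm F).inj
      rw [rho_tr, act_apply]
      apply Units.ext
      exact h
    · intro h
      rw [h]
      have h1 := rho_tr (fam hm F).ρ (fam hm F).inj (fam hm F).Γ (fam hm F).hΓ ⟨⟨g, σ⟩, hg⟩ s
      exact congrArg (fun g : GL (Fin m ⊕ Fin m) F => (g : Matrix (Fin m ⊕ Fin m) (Fin m ⊕ Fin m) F)) h1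
  constructor
  · intro h
    ext1 s
    induction s using QuotientGroup.induction_on with
    | H s => exact h s _ ((key s _).mpr rfl)
  · rintro rfl s s' h
    rw [Fam.T_mk, ← (key s s').mp h]

theorem stdField_iff [Finite F] (hm : 2 ≤ m) {σ : F ≃+* F} {β : MulAut (Cfsg.PSp m F)} :
    Cfsg.IsStdFieldAutPSp σ β ↔ β = (fam hm F).T (Fam.fin (fam_hasField hm) σ) := by
  have h1 : Cfsg.IsStdFieldAutPSp σ β ↔ Cfsg.IsInducedBySemilinearPSp (1 : GL (Fin m ⊕ Fin m) F) σ β := by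
    constructor
    · intro h s s' hs
      apply h s s'
      rw [hs]
      simp
    · intro h s s' hs
      apply h s s'
      rw [hs]
      simp
  rw [h1, induced_iff hm (one_mem _)]
  rfl

theorem innDiag_iff [Finite F] (hm : 2 ≤ m) {β : MulAut (Cfsg.PSp m F)} :
    Cfsg.IsInnerDiagonalAutPSp β ↔ β ∈ (fam hm F).D := by
  constructor
  · rintro ⟨g, hg, h⟩
    exact ⟨⟨g, hg⟩, ((induced_iff hm hg).mp h).symm⟩
  · rintro ⟨⟨g, hg⟩, rfl⟩
    exact ⟨g, hg, (induced_iff hm hg).mpr rfl⟩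

theorem inndiag_eq [Finite F] (hm : 2 ≤ m) : Cfsg.inndiagPSp m F = (fam hm F).D := by
  apply le_antisymm
  · rw [Cfsg.inndiagPSp, Cfsg.autSubgroupOf, Subgroup.closure_le]
    intro β hβ
    exact (innDiag_iff hm).mp hβ
  · intro β hβ
    exact Subgroup.subset_closure ((innDiag_iff hm).mpr hβ)

theorem gamma_eq [Finite F] (hm : 2 ≤ m) (hΦ : (fam hm F).Full) : Cfsg.gammaPSp m F = ⊤ := by
  rw [eq_top_iff]
  rintro α -
  obtain ⟨⟨⟨g, σ⟩, hg⟩, rfl⟩ := hΦ α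
  exact Subgroup.subset_closure ⟨g, σ, hg, (induced_iff hm hg).mpr rfl⟩

end Cfsg.Agent.H16.PSp
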