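import Mathlib
import Cfsg.Agent.H5_Isom
import Cfsg.Agent.H5_FrmInst

set_option autoImplicit false

/-! Symplectic bases for alternating forms. -/

namespace Cfsg.Agent.H5.AltBasis

open Frm

variable {F : Type*} [Field F]

/-- index bookkeeping -/
def idx (ι κ : Type) : Unit ⊕ (Unit ⊕ ((ι ⊕ ι) ⊕ κ)) ≃ ((Unit ⊕ ι) ⊕ (Unit ⊕ ι)) ⊕ κ where
  toFun
    | .inl () => .inl (.inl (.inl ()))
    | .inr (.inl ()) => .inl (.inr (.inl ()))
    | .inr (.inr (.inl (.inl i))) => .inl (.inl (.inr i))
    | .inr (.inr (.inl (.inr i))) => .inl (.inr (.inr i))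
    | .inr (.inr (.inr k)) => .inr k
  invFun
    | .inl (.inl (.inl ())) => .inl ()
    | .inl (.inr (.inl ())) => .inr (.inl ())
    | .inl (.inl (.inr i)) => .inr (.inr (.inl (.inl i)))
    | .inl (.inr (.inr i)) => .inr (.inr (.inl (.inr i)))
    | .inr k => .inr (.inr (.inr k))
  left_inv := by
    rintro (⟨⟩ | ⟨⟨⟩⟩ | (i | i) | k) <;> rfl
  right_inv := by
    rintro (((⟨⟩ | i) | (⟨⟩ | i)) | k) <;> rfl

theorem exists_basis : ∀ (n : ℕ) {V : Type*} [AddCommGroup V] [Module F V]
    [FiniteDimensional F V] (A : Frm F (RingHom.id F) (-1) (0 : F →+ F) V), (∀ v, A.Q v = 0) →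
    Module.finrank F V = n →
    ∃ (ι κ : Type) (_ : Fintype ι) (_ : Fintype κ) (_ : DecidableEq ι)
      (b : Module.Basis ((ι ⊕ ι) ⊕ κ) F V),
      (∀ i j : ι, A.B (b (.inl (.inl i))) (b (.inl (.inr j))) = if i = j then 1 else 0) ∧
      (∀ i j : ι, A.B (b (.inl (.inl i))) (b (.inl (.inl j))) = 0) ∧
      (∀ i j : ι, A.B (b (.inl (.inr i))) (b (.inl (.inr j))) = 0) ∧
      (∀ (j : κ) (v : V), A.B (b (.inr j)) v = 0) := by
  intro n
  induction n using Nat.strong_induction_on with
  | _ n ih =>
  intro V _ _ _ A hQ hV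
  by_cases h : ∀ v w, A.B v w = 0
  · refine ⟨Empty, Fin n, inferInstance, inferInstance, inferInstance,
      (Module.finBasisOfFinrankEq F V hV).reindex
        ((Equiv.emptySum (Empty ⊕ Empty) (Fin n)).symm), ?_, ?_, ?_, ?_⟩
    · rintro ⟨⟩
    · rintro ⟨⟩
    · rintro ⟨⟩
    · intro j v; exact h _ _
  · push Not at h
    obtain ⟨u, w, huw⟩ := h
    have hp : A.HPair u ((A.B u w)⁻¹ • w) := ⟨hQ _, hQ _, by
      rw [(A.B u).map_smul, smul_eq_mul, inv_mul_cancel₀ huw]⟩
    set f := (A.B u w)⁻¹ • w
    have hd := finrank_perp2 hp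
    obtain ⟨ι, κ, i1, i2, i3, b, h1, h2, h3, h4⟩ := ih (n - 2) (by omega)
      (A.restrict (A.perp2 u f)) (fun v => hQ v) (by omega)
    let b' := (((Module.Basis.singleton Unit F).prod ((Module.Basis.singleton Unit F).prod b)).map
      (pairEquiv hp)).reindex (idx ι κ)
    have e1 : b' (.inl (.inl (.inl ()))) = u := by
      simp only [b', Module.Basis.reindex_apply, Module.Basis.map_apply]
      change pairEquiv hp ((((Module.Basis.singleton Unit F).prod
        ((Module.Basis.singleton Unit F).prod b))) (.inl ())) = u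
      rw [Module.Basis.prod_apply]
      change pairEquiv hp ((Module.Basis.singleton Unit F) (), 0, 0) = u
      rw [pairEquiv_apply, Module.Basis.singleton_apply]
      simp
    have e2 : b' (.inl (.inr (.inl ()))) = f := by
      simp only [b', Module.Basis.reindex_apply, Module.Basis.map_apply]
      change pairEquiv hp ((((Module.Basis.singleton Unit F).prod
        ((Module.Basis.singleton Unit F).prod b))) (.inr (.inl ()))) = f
      rw [Module.Basis.prod_apply]
      change pairEquiv hp (0, (((Module.Basis.singleton Unit F).prod b) (.inl ()))) = f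
      rw [Module.Basis.prod_apply]
      change pairEquiv hp (0, (Module.Basis.singleton Unit F) (), 0) = f
      rw [pairEquiv_apply, Module.Basis.singleton_apply]
      simp
    have e3 : ∀ x, pairEquiv hp ((((Module.Basis.singleton Unit F).prod
        ((Module.Basis.singleton Unit F).prod b))) (.inr (.inr x))) = (b x : V) := by
      intro x
      rw [Module.Basis.prod_apply]
      change pairEquiv hp (0, (((Module.Basis.singleton Unit F).prod b) (.inr x))) = b x
      rw [Module.Basis.prod_apply]
      change pairEquiv hp (0, 0, b x) = b x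
      rw [pairEquiv_apply]
      simp
    have e4 : ∀ i, b' (.inl (.inl (.inr i))) = (b (.inl (.inl i)) : V) := fun i => by
      simp only [b', Module.Basis.reindex_apply, Module.Basis.map_apply]
      exact e3 _
    have e5 : ∀ i, b' (.inl (.inr (.inr i))) = (b (.inl (.inr i)) : V) := fun i => by
      simp only [b', Module.Basis.reindex_apply, Module.Basis.map_apply]
      exact e3 _
    have e6 : ∀ i, b' (.inr i) = (b (.inr i) : V) := fun i => by
      simp only [b', Module.Basis.reindex_apply, Module.Basis.map_apply]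
      exact e3 _
    have hm : ∀ x, A.B u (b x : V) = 0 ∧ A.B f (b x : V) = 0 := fun x => (A.mem_perp2).mp (b x).2
    refine ⟨Unit ⊕ ι, κ, inferInstance, i2, inferInstance, b', ?_, ?_, ?_, ?_⟩
    · rintro (⟨⟩ | i) (⟨⟩ | j)
      · rw [e1, e2, hp.Buf]; simp
      · rw [e1, e5, (hm _).1]; simp
      · rw [e4, e2, A.refl (hm _).2]; simp
      · rw [e4, e5]
        have := h1 i j
        rw [restrict_B] at this
        rw [this]
        simp
    · rintro (⟨⟩ | i) (⟨⟩ | j)
      · rw [e1, hp.Buu]
      · rw [e1, e4, (hm _).1]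
      · rw [e4, e1, A.refl (hm _).1]
      · rw [e4, e4]
        have := h2 i j
        rwa [restrict_B] at this
    · rintro (⟨⟩ | i) (⟨⟩ | j)
      · rw [e2, hp.Bff]
      · rw [e2, e5, (hm _).2]
      · rw [e5, e2, A.refl (hm _).2]
      · rw [e5, e5]
        have := h3 i j
        rwa [restrict_B] at this
    · intro j v
      obtain ⟨⟨x, y, w'⟩, rfl⟩ := (pairEquiv hp).surjective v
      rw [e6, pairEquiv_apply, map_add, map_add, (A.B _).map_smul, (A.B _).map_smul,
        A.refl (hm _).1, A.refl (hm _).2, smul_zero, smul_zero, zero_add, zero_add]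
      have := h4 j w'
      rwa [restrict_B] at this

end Cfsg.Agent.H5.AltBasis
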