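import Cfsg.Statements.S0752
import Mathlib
import Cfsg.Agent.H5_AltBasis

set_option autoImplicit false
open Cfsg

namespace Cfsg.Agent.S0752

/-- Classification of alternating forms: for an alternating bilinear form B on a finite-dimensional space over any field there is a basis indexed by (Fin m ⊕ Fin m) ⊕ Fin k such that B (e_i, f_j) = δ_ij, the e's are pairwise orthogonal, the f's are pairwise orthogonal, and the last k basis vectors are orthogonal to everything (they span the radical). -/
theorem result {F V : Type*} [Field F] [AddCommGroup V] [Module F V] [FiniteDimensional F V] (B : LinearMap.BilinForm F V) (hA : B.IsAlt) : ∃ (m k : ℕ) (b : Module.Basis ((Fin m ⊕ Fin m) ⊕ Fin k) F V), (∀ i j : Fin m, B (b (Sum.inl (Sum.inl i))) (b (Sum.inl (Sum.inr j))) = if i = j then 1 else 0) ∧ (∀ i j : Fin m, B (b (Sum.inl (Sum.inl i))) (b (Sum.inl (Sum.inl j))) = 0) ∧ (∀ i j : Fin m, B (b (Sum.inl (Sum.inr i))) (b (Sum.inl (Sum.inr j))) = 0) ∧ (∀ (j : Fin k) (v : V), B (b (Sum.inr j)) v = 0) := by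
  obtain ⟨ι, κ, i1, i2, i3, b, h1, h2, h3, h4⟩ := Cfsg.Agent.H5.AltBasis.exists_basis
    (Module.finrank F V) (Cfsg.Agent.H5.Frm.ofAlt B hA) (fun _ => rfl) rfl
  classical
  let e1 := Fintype.equivFin ι
  let e2 := Fintype.equivFin κ
  refine ⟨Fintype.card ι, Fintype.card κ, b.reindex ((e1.sumCongr e1).sumCongr e2), ?_, ?_, ?_, ?_⟩
  · intro i j
    rw [Module.Basis.reindex_apply, Module.Basis.reindex_apply]
    have := h1 (e1.symm i) (e1.symm j)
    refine Eq.trans this ?_
    by_cases hij : i = j
    · subst hij; simp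
    · rw [if_neg hij, if_neg (fun h => hij (e1.symm.injective h))]
  · intro i j
    rw [Module.Basis.reindex_apply, Module.Basis.reindex_apply]
    exact h2 (e1.symm i) (e1.symm j)
  · intro i j
    rw [Module.Basis.reindex_apply, Module.Basis.reindex_apply]
    exact h3 (e1.symm i) (e1.symm j)
  · intro j v
    rw [Module.Basis.reindex_apply]
    exact h4 (e2.symm j) v

end Cfsg.Agent.S0752
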