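import Cfsg.Agent.H16_PSp2
import Cfsg.Agent.S0752

set_option autoImplicit false

/-! Lang's theorem for the conformal symplectic groups. -/

namespace Cfsg.Agent.H16.PSp

open Matrix Cfsg.Agent.H5 Cfsg.Agent.H5.Symp Cfsg.Agent.H5.Conc Cfsg.Agent.H16.Ps Cfsg.Agent.H16.Gam
  Cfsg.Agent.H16.AutL Cfsg.Agent.H16.AutG Cfsg.Agent.H16.Desc

variable {m : ℕ} {F : Type*} [Field F]

theorem form_single (i j : Fin m ⊕ Fin m) : Cfsg.sympForm m F (Pi.single i 1) (Pi.single j 1) =
    Matrix.J (Fin m) F i j := by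
  rw [Cfsg.sympForm, Matrix.mulVec_single_one, single_dotProduct, one_mul]
  rfl

/-- all nondegenerate alternating forms are equivalent. -/
theorem exists_gl_alt (B : LinearMap.BilinForm F (Fin m ⊕ Fin m → F)) (hB : B.IsAlt)
    (hn : ∀ x, (∀ y, B x y = 0) → x = 0) :
    ∃ g : GL (Fin m ⊕ Fin m) F, ∀ x y, B ((g : Matrix (Fin m ⊕ Fin m) (Fin m ⊕ Fin m) F) *ᵥ x)
      ((g : Matrix (Fin m ⊕ Fin m) (Fin m ⊕ Fin m) F) *ᵥ y) = Cfsg.sympForm m F x y := by
  obtain ⟨m', k, b, h1, h2, h3, h4⟩ := Cfsg.Agent.S0752.result B hB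
  have hk : k = 0 := by
    by_contra hk
    have h5 := hn (b (Sum.inr ⟨0, by omega⟩)) (h4 _)
    exact b.ne_zero _ h5
  subst hk
  have hm : m' = m := by
    have h5 := Module.finrank_eq_card_basis b
    rw [Module.finrank_fintype_fun_eq_card] at h5
    simp only [Fintype.card_sum, Fintype.card_fin] at h5
    omega
  subst hm
  let b' : Module.Basis (Fin m' ⊕ Fin m') F (Fin m' ⊕ Fin m' → F) :=
    b.reindex ((Equiv.sumEmpty _ _).trans (Equiv.sumComm _ _))
  have hb'l : ∀ i, b' (Sum.inl i) = b (Sum.inl (Sum.inr i)) := fun i => by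
    rw [Module.Basis.reindex_apply]; rfl
  have hb'r : ∀ i, b' (Sum.inr i) = b (Sum.inl (Sum.inl i)) := fun i => by
    rw [Module.Basis.reindex_apply]; rfl
  have hneg : ∀ x y, B x y = - B y x := fun x y => by
    have h5 := hB (x + y)
    rw [map_add, map_add, LinearMap.add_apply, LinearMap.add_apply, hB x, hB y, zero_add, add_zero] at h5
    exact eq_neg_of_add_eq_zero_right h5
  have hJ : ∀ i j, B (b' i) (b' j) = Matrix.J (Fin m') F i j := by
    rintro (i | i) (j | j)
    · rw [hb'l, hb'l, h3]; simp [Matrix.J]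
    · rw [hb'l, hb'r, hneg, h1]
      simp [Matrix.J, Matrix.one_apply, eq_comm]
    · rw [hb'r, hb'l, h1]
      simp [Matrix.J, Matrix.one_apply]
    · rw [hb'r, hb'r, h2]; simp [Matrix.J]
  let L : (Fin m' ⊕ Fin m' → F) ≃ₗ[F] (Fin m' ⊕ Fin m' → F) := b'.equivFun.symm
  have hL : ∀ i, L (Pi.single i 1) = b' i := fun i => by
    rw [Module.Basis.equivFun_symm_apply]
    simp [Pi.single_apply]
  have hdet : IsUnit (LinearMap.toMatrix' (L : (Fin m' ⊕ Fin m' → F) →ₗ[F] (Fin m' ⊕ Fin m' → F))).det := by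
    rw [LinearMap.det_toMatrix']
    exact LinearEquiv.isUnit_det' L
  refine ⟨Matrix.GeneralLinearGroup.mk'' _ hdet, fun x y => ?_⟩
  have hM : ∀ x, ((Matrix.GeneralLinearGroup.mk'' _ hdet : GL (Fin m' ⊕ Fin m') F) :
      Matrix (Fin m' ⊕ Fin m') (Fin m' ⊕ Fin m') F) *ᵥ x = L x :=
    fun x => LinearMap.toMatrix'_mulVec (L : (Fin m' ⊕ Fin m' → F) →ₗ[F] (Fin m' ⊕ Fin m' → F)) x
  rw [hM, hM]
  have h5 : B.compl₁₂ (L : (Fin m' ⊕ Fin m' → F) →ₗ[F] (Fin m' ⊕ Fin m' → F))
      (L : (Fin m' ⊕ Fin m' → F) →ₗ[F] (Fin m' ⊕ Fin m' → F)) =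
      sympB m' F := by
    apply LinearMap.ext_basis (Pi.basisFun F _) (Pi.basisFun F _)
    intro i j
    rw [Pi.basisFun_apply, Pi.basisFun_apply, LinearMap.compl₁₂_apply, LinearEquiv.coe_coe, hL, hL, hJ,
      sympB_apply, form_single]
  have h6 := congrArg (fun C : LinearMap.BilinForm F (Fin m' ⊕ Fin m' → F) => C x y) h5
  simp only [LinearMap.compl₁₂_apply, LinearEquiv.coe_coe, sympB_apply] at h6
  exact h6

/-- the multiplier of the norm. -/
theorem mult_Nn (σ : F ≃+* F) {g : GL (Fin m ⊕ Fin m) F} {k : Fˣ}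
    (hk : ∀ u v, Cfsg.sympForm m F ((g : Matrix (Fin m ⊕ Fin m) (Fin m ⊕ Fin m) F) *ᵥ u)
      ((g : Matrix (Fin m ⊕ Fin m) (Fin m ⊕ Fin m) F) *ᵥ v) = (k : F) * Cfsg.sympForm m F u v) (j : ℕ) :
    ∀ u v, Cfsg.sympForm m F (((Nn σ g j : GL (Fin m ⊕ Fin m) F) : Matrix (Fin m ⊕ Fin m) (Fin m ⊕ Fin m) F) *ᵥ u)
      (((Nn σ g j : GL (Fin m ⊕ Fin m) F) : Matrix (Fin m ⊕ Fin m) (Fin m ⊕ Fin m) F) *ᵥ v) =
        ((nn σ k j : Fˣ) : F) * Cfsg.sympForm m F u v := by
  induction j with
  | zero =>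
    intro u v
    rw [Nn_zero, Units.val_one, one_mulVec, one_mulVec, nn, Units.val_one, one_mul]
  | succ j ih =>
    intro u v
    obtain ⟨x, rfl⟩ := exists_map σ u
    obtain ⟨y, rfl⟩ := exists_map σ v
    rw [Nn_succ, coe_mul_mulVec, coe_mul_mulVec, hk, map_mulVec', map_mulVec', form_map, form_map, ih, map_mul, nn,
      Units.val_mul, mul_assoc]
    rfl

theorem lang [Finite F] (hm : 2 ≤ m) (σ : F ≃+* F) : Fam.Lang (fam hm F) σ := by
  rintro g ⟨k, hk⟩ hg
  replace hk : ∀ u v, Cfsg.sympForm m F ((g : Matrix (Fin m ⊕ Fin m) (Fin m ⊕ Fin m) F) *ᵥ u)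
      ((g : Matrix (Fin m ⊕ Fin m) (Fin m ⊕ Fin m) F) *ᵥ v) = (k : F) * Cfsg.sympForm m F u v := hk
  have hr0 : 0 < orderOf σ := by
    have := finite_ringAut (F := F)
    exact orderOf_pos σ
  obtain ⟨h, hh⟩ := hilbert90 σ rfl hr0 g hg
  -- the multiplier
  have hnt : Nonempty (Fin m) := ⟨⟨0, by omega⟩⟩
  have hk1 : nn σ k (orderOf σ) = 1 := by
    obtain ⟨e, he, he0⟩ := exists_sg (m := m) (F := F) (by omega)
    obtain ⟨f, hf, hef⟩ := (spG m F).exists_opp he he0
    have h1 := mult_Nn σ hk (orderOf σ) e f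
    rw [hg, Units.val_one, one_mulVec, one_mulVec] at h1
    have h2 : Cfsg.sympForm m F e f = 1 := hef
    rw [h2, mul_one] at h1
    exact (Units.ext h1).symm
  obtain ⟨l, hl⟩ := hilbert90_one σ rfl hr0 k hk1
  -- the transported form
  have hhx : ∀ x : Fin m ⊕ Fin m → F, (h : Matrix (Fin m ⊕ Fin m) (Fin m ⊕ Fin m) F) *ᵥ (fun i => σ (x i)) =
      (g : Matrix (Fin m ⊕ Fin m) (Fin m ⊕ Fin m) F) *ᵥ
        (fun i => σ (((h : Matrix (Fin m ⊕ Fin m) (Fin m ⊕ Fin m) F) *ᵥ x) i)) := by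
    intro x
    rw [← map_mulVec', ← coe_mul_mulVec, hh]
  let B' : (Fin m ⊕ Fin m → F) → (Fin m ⊕ Fin m → F) → F := fun x y => ((l⁻¹ : Fˣ) : F) *
    Cfsg.sympForm m F ((h : Matrix (Fin m ⊕ Fin m) (Fin m ⊕ Fin m) F) *ᵥ x)
      ((h : Matrix (Fin m ⊕ Fin m) (Fin m ⊕ Fin m) F) *ᵥ y)
  have hB'σ : ∀ x y : Fin m ⊕ Fin m → F, B' (fun i => σ (x i)) (fun i => σ (y i)) = σ (B' x y) := by
    intro x y
    change ((l⁻¹ : Fˣ) : F) * _ = σ (((l⁻¹ : Fˣ) : F) * _)
    rw [hhx, hhx, hk, form_map, map_mul, ← mul_assoc]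
    congr 1
    have hl0 : σ (l : F) ≠ 0 := by
      rw [Ne, map_eq_zero]; exact l.ne_zero
    rw [Units.val_inv_eq_inv_val, map_inv₀, eq_comm, inv_eq_of_mul_eq_one_right]
    rw [mul_comm, mul_assoc, hl, inv_mul_cancel₀ l.ne_zero]
  -- the fixed field
  let K : Subfield F := RingHom.eqLocusField (σ : F →+* F) (RingHom.id F)
  have hK : ∀ x, x ∈ K ↔ σ x = x := fun x => Iff.rfl
  have hKv : ∀ x : Fin m ⊕ Fin m → K, (fun i => σ ((x i : K) : F)) = fun i => ((x i : K) : F) := fun x =>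
    funext fun i => (x i).2
  let B₀ : LinearMap.BilinForm K (Fin m ⊕ Fin m → K) := LinearMap.mk₂ K
    (fun x y => (⟨B' (fun i => (x i : F)) (fun i => (y i : F)), by
      rw [hK, ← hB'σ, hKv, hKv]⟩ : K))
    (by
      intro x x' y
      apply Subtype.ext
      change B' (fun i => ((x i + x' i : K) : F)) _ = B' _ _ + B' _ _
      have : (fun i => ((x i + x' i : K) : F)) = (fun i => (x i : F)) + fun i => (x' i : F) := rfl
      simp only [B', this, mulVec_add, Symp.add_left, mul_add])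
    (by
      intro c x y
      apply Subtype.ext
      change B' (fun i => ((c * x i : K) : F)) _ = (c : F) * B' _ _
      have : (fun i => ((c * x i : K) : F)) = (c : F) • (fun i => (x i : F)) := rfl
      simp only [B', this, mulVec_smul, Symp.smul_left]
      ring)
    (by
      intro x y y'
      apply Subtype.ext
      change B' _ (fun i => ((y i + y' i : K) : F)) = B' _ _ + B' _ _
      have : (fun i => ((y i + y' i : K) : F)) = (fun i => (y i : F)) + fun i => (y' i : F) := rfl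
      simp only [B', this, mulVec_add, Symp.add_right, mul_add])
    (by
      intro c x y
      apply Subtype.ext
      change B' _ (fun i => ((c * y i : K) : F)) = (c : F) * B' _ _
      have : (fun i => ((c * y i : K) : F)) = (c : F) • (fun i => (y i : F)) := rfl
      simp only [B', this, mulVec_smul, Symp.smul_right]
      ring)
  have hB₀ : ∀ x y, ((B₀ x y : K) : F) = B' (fun i => (x i : F)) (fun i => (y i : F)) := fun x y => rfl
  obtain ⟨g₀, hg₀⟩ := exists_gl_alt B₀ (by
      intro x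
      apply Subtype.ext
      rw [hB₀]
      simp only [B', Symp.self, mul_zero, ZeroMemClass.coe_zero]) (by
      intro x hx
      have h1 : (fun i => ((x i : K) : F)) = 0 := by
        have h2 : (h : Matrix (Fin m ⊕ Fin m) (Fin m ⊕ Fin m) F) *ᵥ (fun i => ((x i : K) : F)) = 0 := by
          refine (spG m F).nondeg _ fun y => ?_
          -- `y = h z`, `z` a combination of rational vectors
          have h3 : ∀ z : Fin m ⊕ Fin m → F, B' (fun i => ((x i : K) : F)) z = 0 := by
            intro z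
            have h4 : z = ∑ j, z j • (fun i => (((Pi.single j 1 : Fin m ⊕ Fin m → K) i : K) : F)) := by
              funext i
              simp [Finset.sum_apply, Pi.single_apply, apply_ite (fun t : K => (t : F))]
            have hlin : ∀ (s : Finset (Fin m ⊕ Fin m)) (f : Fin m ⊕ Fin m → (Fin m ⊕ Fin m → F)),
                B' (fun i => ((x i : K) : F)) (∑ j ∈ s, f j) = ∑ j ∈ s, B' (fun i => ((x i : K) : F)) (f j) := by
              classical
              intro s f
              induction s using Finset.induction_on with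
              | empty => simp [B', Cfsg.sympForm]
              | insert a s ha ih =>
                rw [Finset.sum_insert ha, Finset.sum_insert ha, ← ih]
                simp only [B', mulVec_add, Symp.add_right, mul_add]
            rw [h4, hlin]
            apply Finset.sum_eq_zero
            intro j _
            have h5 := congrArg (fun t : K => (t : F)) (hx (Pi.single j 1))
            have h6 : B' (fun i => ((x i : K) : F)) (z j • fun i => (((Pi.single j 1 : Fin m ⊕ Fin m → K) i : K) : F)) =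
                z j * B' (fun i => ((x i : K) : F)) (fun i => (((Pi.single j 1 : Fin m ⊕ Fin m → K) i : K) : F)) := by
              simp only [B', mulVec_smul, Symp.smul_right]
              ring
            rw [h6, ← hB₀]
            simp only [ZeroMemClass.coe_zero] at h5
            rw [h5, mul_zero]
          have h7 := h3 (((h⁻¹ : GL (Fin m ⊕ Fin m) F) : Matrix (Fin m ⊕ Fin m) (Fin m ⊕ Fin m) F) *ᵥ y)
          change ((l⁻¹ : Fˣ) : F) * _ = 0 at h7
          rw [← coe_mul_mulVec, mul_inv_cancel, Units.val_one, one_mulVec] at h7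
          exact (mul_eq_zero.mp h7).resolve_left (l⁻¹).ne_zero
        have h8 := congrArg (fun w => ((h⁻¹ : GL (Fin m ⊕ Fin m) F) :
          Matrix (Fin m ⊕ Fin m) (Fin m ⊕ Fin m) F) *ᵥ w) h2
        simp only [← coe_mul_mulVec, inv_mul_cancel, Units.val_one, one_mulVec, mulVec_zero] at h8
        exact h8
      funext i
      exact Subtype.ext (congrFun h1 i))
  let G : GL (Fin m ⊕ Fin m) F := Matrix.GeneralLinearGroup.map K.subtype g₀
  have hG : ∀ i j, (G : Matrix (Fin m ⊕ Fin m) (Fin m ⊕ Fin m) F) i j =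
    (((g₀ : Matrix (Fin m ⊕ Fin m) (Fin m ⊕ Fin m) K) i j : K) : F) := fun i j => rfl
  have hGv : ∀ x : Fin m ⊕ Fin m → K, (G : Matrix (Fin m ⊕ Fin m) (Fin m ⊕ Fin m) F) *ᵥ (fun i => (x i : F)) =
      fun i => ((((g₀ : Matrix (Fin m ⊕ Fin m) (Fin m ⊕ Fin m) K) *ᵥ x) i : K) : F) := by
    intro x
    funext i
    simp only [Matrix.mulVec, dotProduct, hG]
    rw [← Subfield.coe_subtype, map_sum]
    exact Finset.sum_congr rfl fun j _ => (map_mul K.subtype _ _).symm
  have hGform : ∀ x y, B' ((G : Matrix (Fin m ⊕ Fin m) (Fin m ⊕ Fin m) F) *ᵥ x)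
      ((G : Matrix (Fin m ⊕ Fin m) (Fin m ⊕ Fin m) F) *ᵥ y) = Cfsg.sympForm m F x y := by
    -- both sides bilinear
    let C : LinearMap.BilinForm F (Fin m ⊕ Fin m → F) := LinearMap.mk₂ F
      (fun x y => B' ((G : Matrix (Fin m ⊕ Fin m) (Fin m ⊕ Fin m) F) *ᵥ x)
        ((G : Matrix (Fin m ⊕ Fin m) (Fin m ⊕ Fin m) F) *ᵥ y))
      (by intro x x' y; simp only [B', mulVec_add, Symp.add_left, mul_add])
      (by intro c x y; simp only [B', mulVec_smul, Symp.smul_left, smul_eq_mul]; ring)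
      (by intro x y y'; simp only [B', mulVec_add, Symp.add_right, mul_add])
      (by intro c x y; simp only [B', mulVec_smul, Symp.smul_right, smul_eq_mul]; ring)
    have hC : C = sympB m F := by
      apply LinearMap.ext_basis (Pi.basisFun F _) (Pi.basisFun F _)
      intro i j
      rw [Pi.basisFun_apply, Pi.basisFun_apply, sympB_apply]
      have hs : ∀ i : Fin m ⊕ Fin m, (Pi.single i 1 : Fin m ⊕ Fin m → F) =
          fun j => (((Pi.single i 1 : Fin m ⊕ Fin m → K) j : K) : F) := by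
        intro i
        funext j
        simp [Pi.single_apply, apply_ite (fun t : K => (t : F))]
      change B' _ _ = _
      rw [hs i, hs j, hGv, hGv, ← hB₀, hg₀, ← hs, ← hs, form_single, form_single]
      rcases i with i | i <;> rcases j with j | j <;>
        simp [Matrix.J, Matrix.one_apply, apply_ite (fun t : K => (t : F))]
    intro x y
    have := congrArg (fun D : LinearMap.BilinForm F (Fin m ⊕ Fin m → F) => D x y) hC
    simp only [sympB_apply] at this
    exact this
  have hGσ : gσ σ G = G := by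
    apply Units.ext
    ext i j
    exact ((g₀ : Matrix (Fin m ⊕ Fin m) (Fin m ⊕ Fin m) K) i j).2
  refine ⟨h * G, ⟨l, fun u v => ?_⟩, 1, ?_⟩
  · have h1 := hGform u v
    change ((l⁻¹ : Fˣ) : F) * _ = _ at h1
    change Cfsg.sympForm m F (((h * G : GL (Fin m ⊕ Fin m) F) : Matrix (Fin m ⊕ Fin m) (Fin m ⊕ Fin m) F) *ᵥ u)
      (((h * G : GL (Fin m ⊕ Fin m) F) : Matrix (Fin m ⊕ Fin m) (Fin m ⊕ Fin m) F) *ᵥ v) = _
    rw [coe_mul_mulVec, coe_mul_mulVec, ← h1, ← mul_assoc, ← Units.val_mul, mul_inv_cancel, Units.val_one, one_mul]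
  · rw [map_one, one_mul, _root_.map_mul, hGσ, _root_.mul_inv_rev, mul_assoc, mul_inv_cancel_left,
      eq_mul_inv_iff_mul_eq]
    exact hh

end Cfsg.Agent.H16.PSp
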