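import Mathlib

set_option autoImplicit false

/-! Polar spaces with groups: a uniform treatment of the symplectic, unitary and orthogonal groups.  Basic definitions. -/

namespace Cfsg.Agent.H16.Ps

/-- a (nondegenerate) polar space: a reflexive sesquilinear form `h` (semilinear in the first variable) together with a
notion of singular vector. -/
structure Pol (F V : Type*) [Field F] [AddCommGroup V] [Module F V] where
  bar : F →+* F
  bar_bar : ∀ a, bar (bar a) = a
  ε : F
  eps_mul : ε * ε = 1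
  bar_eps : bar ε = ε
  h : V → V → F
  h_add_right : ∀ x y z, h x (y + z) = h x y + h x z
  h_smul_right : ∀ (a : F) x y, h x (a • y) = a * h x y
  h_symm : ∀ x y, h y x = ε * bar (h x y)
  sg : V → Prop
  sg_smul : ∀ (a : F) x, sg x → sg (a • x)
  sg_self : ∀ x, sg x → h x x = 0
  sg_add : ∀ x y, sg x → sg y → h x y = 0 → sg (x + y)
  sg_adj : ∀ x y, sg x → h x y ≠ 0 → ∃ c : F, sg (y + c • x)
  nondeg : ∀ x, (∀ y, h x y = 0) → x = 0

/-- a polar space with a group of isometries containing the unipotent radicals. -/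
structure PolG (F V S : Type*) [Field F] [AddCommGroup V] [Module F V] [Group S] extends Pol F V where
  r : S →* Module.End F V
  r_inj : Function.Injective r
  r_h : ∀ s x y, h (r s x) (r s y) = h x y
  r_sg : ∀ s x, sg x → sg (r s x)
  exE : ∀ z v w, sg z → sg v → sg w → h z v = 1 → h z w = 1 →
    ∃ s : S, ∀ x, r s x = x + h z x • (w - v) - (ε * h (w - v) x) • z + (ε * h w v * h z x) • z

/-- a polar space with a group of isometries and its projective version. -/
structure PolT (F V S T : Type*) [Field F] [AddCommGroup V] [Module F V] [Group S] [Group T] extends PolG F V S where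
  pm : S →* T
  pm_surj : Function.Surjective pm
  ker_iff : ∀ s, pm s = 1 ↔ ∃ c : F, ∀ x, r s x = c • x

/-- proportionality. -/
def Sim (F : Type*) {V : Type*} [Field F] [AddCommGroup V] [Module F V] (x y : V) : Prop :=
  ∃ c : F, c ≠ 0 ∧ y = c • x

section Sim

variable {F V : Type*} [Field F] [AddCommGroup V] [Module F V]

theorem Sim.refl (x : V) : Sim F x x := ⟨1, one_ne_zero, (one_smul _ _).symm⟩

theorem Sim.symm {x y : V} (h : Sim F x y) : Sim F y x := by
  obtain ⟨c, hc, rfl⟩ := h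
  exact ⟨c⁻¹, inv_ne_zero hc, by rw [smul_smul, inv_mul_cancel₀ hc, one_smul]⟩

theorem Sim.trans {x y z : V} (h : Sim F x y) (h' : Sim F y z) : Sim F x z := by
  obtain ⟨c, hc, rfl⟩ := h
  obtain ⟨d, hd, rfl⟩ := h'
  exact ⟨d * c, mul_ne_zero hd hc, by rw [smul_smul]⟩

theorem Sim.smul {x : V} {c : F} (hc : c ≠ 0) : Sim F x (c • x) := ⟨c, hc, rfl⟩

theorem Sim.ne_zero {x y : V} (h : Sim F x y) (hx : x ≠ 0) : y ≠ 0 := by
  obtain ⟨c, hc, rfl⟩ := h
  exact smul_ne_zero hc hx

theorem sim_of_eq_smul {x y : V} {c : F} (h : y = c • x) (hy : y ≠ 0) : Sim F x y := by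
  refine ⟨c, ?_, h⟩
  rintro rfl
  exact hy (by rw [h, zero_smul])

end Sim

namespace Pol

variable {F V : Type*} [Field F] [AddCommGroup V] [Module F V] (P : Pol F V)

theorem h_add_left (x y z : V) : P.h (x + y) z = P.h x z + P.h y z := by
  rw [P.h_symm z, P.h_add_right, map_add, mul_add, ← P.h_symm, ← P.h_symm]

theorem h_smul_left (a : F) (x y : V) : P.h (a • x) y = P.bar a * P.h x y := by
  rw [P.h_symm y, P.h_smul_right, map_mul, mul_left_comm, ← P.h_symm]

theorem h_zero_right (x : V) : P.h x 0 = 0 := by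
  have := P.h_smul_right 0 x 0
  rwa [zero_smul, zero_mul] at this

theorem h_zero_left (x : V) : P.h 0 x = 0 := by
  rw [P.h_symm x, P.h_zero_right, map_zero, mul_zero]

theorem h_neg_right (x y : V) : P.h x (-y) = -P.h x y := by
  rw [← neg_one_smul F y, P.h_smul_right, neg_one_mul]

theorem h_neg_left (x y : V) : P.h (-x) y = -P.h x y := by
  rw [← neg_one_smul F x, P.h_smul_left, map_neg, map_one, neg_one_mul]

theorem h_sub_right (x y z : V) : P.h x (y - z) = P.h x y - P.h x z := by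
  rw [sub_eq_add_neg, P.h_add_right, P.h_neg_right, sub_eq_add_neg]

theorem h_sub_left (x y z : V) : P.h (x - y) z = P.h x z - P.h y z := by
  rw [sub_eq_add_neg, P.h_add_left, P.h_neg_left, sub_eq_add_neg]

theorem eps_ne : P.ε ≠ 0 := by
  intro h
  have := P.eps_mul
  rw [h, mul_zero] at this
  exact zero_ne_one this

theorem bar_eq_zero {a : F} : P.bar a = 0 ↔ a = 0 := by
  constructor
  · intro h
    rw [← P.bar_bar a, h, map_zero]
  · rintro rfl
    exact map_zero _

theorem bar_ne_zero {a : F} (h : a ≠ 0) : P.bar a ≠ 0 := fun h' => h (P.bar_eq_zero.mp h')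

theorem h_comm_zero {x y : V} : P.h x y = 0 ↔ P.h y x = 0 := by
  rw [P.h_symm x y, mul_eq_zero, P.bar_eq_zero]
  simp [P.eps_ne]

theorem h_comm_ne {x y : V} (h : P.h x y ≠ 0) : P.h y x ≠ 0 := fun h' => h (P.h_comm_zero.mpr h')

theorem sg_zero : ∀ x, P.sg x → P.sg 0 := by
  intro x hx
  have := P.sg_smul 0 x hx
  rwa [zero_smul] at this

theorem sg_neg {x : V} (hx : P.sg x) : P.sg (-x) := by
  have := P.sg_smul (-1) x hx
  rwa [neg_one_smul] at this

theorem sg_sub {x y : V} (hx : P.sg x) (hy : P.sg y) (h : P.h x y = 0) : P.sg (x - y) := by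
  rw [sub_eq_add_neg]
  exact P.sg_add _ _ hx (P.sg_neg hy) (by rw [P.h_neg_right, h, neg_zero])

theorem sg_smul_iff {a : F} (ha : a ≠ 0) {x : V} : P.sg (a • x) ↔ P.sg x := by
  constructor
  · intro h
    have := P.sg_smul a⁻¹ _ h
    rwa [smul_smul, inv_mul_cancel₀ ha, one_smul] at this
  · exact P.sg_smul a x

/-- the additive map `h x ·`. -/
def lin (x : V) : V →ₗ[F] F where
  toFun := P.h x
  map_add' := P.h_add_right x
  map_smul' a y := by rw [P.h_smul_right, RingHom.id_apply, smul_eq_mul]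

theorem lin_apply (x y : V) : P.lin x y = P.h x y := rfl

theorem h_sum_right {ι : Type*} (s : Finset ι) (x : V) (f : ι → V) :
    P.h x (∑ i ∈ s, f i) = ∑ i ∈ s, P.h x (f i) := by
  rw [← P.lin_apply, map_sum]
  rfl

theorem exists_h_one {x : V} (hx : x ≠ 0) : ∃ y, P.h x y = 1 := by
  by_contra hcon
  push Not at hcon
  refine hx (P.nondeg x fun y => ?_)
  by_contra hne
  refine hcon ((P.h x y)⁻¹ • y) ?_
  rw [P.h_smul_right, inv_mul_cancel₀ hne]

theorem nondeg' (x : V) (h : ∀ y, P.h y x = 0) : x = 0 :=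
  P.nondeg x fun y => P.h_comm_zero.mpr (h y)

theorem exists_smul_of_forall {x y : V} (h : ∀ z, P.h y z = 0 → P.h x z = 0) : ∃ c : F, x = c • y := by
  by_cases hy : y = 0
  · refine ⟨0, ?_⟩
    rw [zero_smul]
    refine P.nondeg x fun z => h z ?_
    rw [hy, P.h_zero_left]
  obtain ⟨z₀, hz₀⟩ := P.exists_h_one hy
  refine ⟨P.bar (P.h x z₀), ?_⟩
  rw [← sub_eq_zero]
  refine P.nondeg _ fun w => ?_
  have h1 := h (w - P.h y w • z₀) (by rw [P.h_sub_right, P.h_smul_right, hz₀, mul_one, sub_self])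
  rw [P.h_sub_right, P.h_smul_right] at h1
  rw [P.h_sub_left, P.h_smul_left, P.bar_bar, mul_comm (P.h x z₀)]
  exact h1

/-- separate a vector from a line. -/
theorem exists_sep {x y : V} (h : ∀ c : F, x ≠ c • y) : ∃ z, P.h x z = 1 ∧ P.h y z = 0 := by
  by_contra hcon
  push Not at hcon
  obtain ⟨c, hc⟩ := P.exists_smul_of_forall (x := x) (y := y) (by
    intro z hz
    by_contra hne
    refine hcon ((P.h x z)⁻¹ • z) ?_ ?_
    · rw [P.h_smul_right, inv_mul_cancel₀ hne]
    · rw [P.h_smul_right, hz, mul_zero])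
  exact h c hc

theorem exists_opp {v : V} (hv : P.sg v) (h0 : v ≠ 0) : ∃ f, P.sg f ∧ P.h v f = 1 := by
  obtain ⟨y, hy⟩ := P.exists_h_one h0
  obtain ⟨c, hc⟩ := P.sg_adj v y hv (by rw [hy]; exact one_ne_zero)
  refine ⟨_, hc, ?_⟩
  rw [P.h_add_right, P.h_smul_right, hy, P.sg_self v hv, mul_zero, add_zero]

theorem exists_opp_perp {v y : V} (hv : P.sg v) (hvy : P.h y v = 0) (h : ∀ c : F, v ≠ c • y) :
    ∃ f, P.sg f ∧ P.h v f = 1 ∧ P.h y f = 0 := by
  obtain ⟨z, hz, hz'⟩ := P.exists_sep h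
  obtain ⟨c, hc⟩ := P.sg_adj v z hv (by rw [hz]; exact one_ne_zero)
  refine ⟨_, hc, ?_, ?_⟩
  · rw [P.h_add_right, P.h_smul_right, hz, P.sg_self v hv, mul_zero, add_zero]
  · rw [P.h_add_right, P.h_smul_right, hz', hvy, mul_zero, add_zero]

/-- a vector not orthogonal to two given ones. -/
theorem exists_ne_ne {v w : V} (hv : v ≠ 0) (hw : w ≠ 0) : ∃ y, P.h v y ≠ 0 ∧ P.h w y ≠ 0 := by
  obtain ⟨y, hy⟩ := P.exists_h_one hv
  by_cases h1 : P.h w y = 0
  · obtain ⟨z, hz⟩ := P.exists_h_one hw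
    by_cases h2 : P.h v z = 0
    · refine ⟨y + z, ?_, ?_⟩
      · rw [P.h_add_right, hy, h2, add_zero]; exact one_ne_zero
      · rw [P.h_add_right, h1, hz, zero_add]; exact one_ne_zero
    · exact ⟨z, h2, by rw [hz]; exact one_ne_zero⟩
  · exact ⟨y, by rw [hy]; exact one_ne_zero, h1⟩

theorem exists_common_opp_of_perp {v w : V} (hv : P.sg v) (hv0 : v ≠ 0) (hw0 : w ≠ 0) (h : P.h w v = 0) :
    ∃ z, P.sg z ∧ P.h v z ≠ 0 ∧ P.h w z ≠ 0 := by
  obtain ⟨y, h1, h2⟩ := P.exists_ne_ne hv0 hw0
  obtain ⟨c, hc⟩ := P.sg_adj v y hv h1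
  refine ⟨_, hc, ?_, ?_⟩
  · rwa [P.h_add_right, P.h_smul_right, P.sg_self v hv, mul_zero, add_zero]
  · rwa [P.h_add_right, P.h_smul_right, h, mul_zero, add_zero]

/-- projection on the orthogonal complement of a hyperbolic pair. -/
def prj (e f x : V) : V := x - (P.ε * P.h f x) • e - P.h e x • f

theorem prj_add (e f x y : V) : P.prj e f (x + y) = P.prj e f x + P.prj e f y := by
  simp only [prj, P.h_add_right, mul_add, add_smul]
  abel

theorem prj_smul (e f : V) (a : F) (x : V) : P.prj e f (a • x) = a • P.prj e f x := by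
  simp only [prj, P.h_smul_right, smul_sub, smul_smul]
  congr 3
  ring

theorem prj_of_mem {e f x : V} (h1 : P.h e x = 0) (h2 : P.h f x = 0) : P.prj e f x = x := by
  simp only [prj, h1, h2, mul_zero, zero_smul, sub_zero]

section Hyp

variable {e f : V} (he : P.sg e) (hf : P.sg f) (hef : P.h e f = 1)

include hef in
theorem h_fe : P.h f e = P.ε := by
  rw [P.h_symm e f, hef, map_one, mul_one]

include he hef in
theorem h_e_prj (x : V) : P.h e (P.prj e f x) = 0 := by
  simp only [prj, P.h_sub_right, P.h_smul_right, P.sg_self e he, hef]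
  ring

include hf hef in
theorem h_f_prj (x : V) : P.h f (P.prj e f x) = 0 := by
  simp only [prj, P.h_sub_right, P.h_smul_right, P.sg_self f hf, P.h_fe hef]
  have := P.eps_mul
  linear_combination (- P.h f x) * this

include he hf hef in
theorem prj_e : P.prj e f e = 0 := by
  simp only [prj, P.sg_self e he, P.h_fe hef, P.eps_mul, one_smul, zero_smul, sub_self]

include hf hef in
theorem prj_f : P.prj e f f = 0 := by
  simp only [prj, P.sg_self f hf, hef, mul_zero, one_smul, zero_smul, sub_zero, sub_self]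

theorem eq_prj (e f x : V) : x = (P.ε * P.h f x) • e + P.h e x • f + P.prj e f x := by
  rw [prj]; abel

/-- the orthogonal complement of a hyperbolic pair, as a submodule. -/
def perp (e f : V) : Submodule F V where
  carrier := {x | P.h e x = 0 ∧ P.h f x = 0}
  add_mem' := fun {x y} hx hy => ⟨by rw [P.h_add_right, hx.1, hy.1, add_zero], by rw [P.h_add_right, hx.2, hy.2, add_zero]⟩
  zero_mem' := ⟨P.h_zero_right _, P.h_zero_right _⟩
  smul_mem' := fun c x hx => ⟨by rw [P.h_smul_right, hx.1, mul_zero], by rw [P.h_smul_right, hx.2, mul_zero]⟩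

theorem mem_perp {e f x : V} : x ∈ P.perp e f ↔ P.h e x = 0 ∧ P.h f x = 0 := Iff.rfl

include he hf hef in
theorem prj_mem (x : V) : P.prj e f x ∈ P.perp e f := ⟨P.h_e_prj he hef x, P.h_f_prj hf hef x⟩

include he hf hef in
theorem h_prj_right {x y : V} (hx : x ∈ P.perp e f) : P.h x (P.prj e f y) = P.h x y := by
  rw [prj, P.h_sub_right, P.h_sub_right, P.h_smul_right, P.h_smul_right, P.h_comm_zero.mp hx.1,
    P.h_comm_zero.mp hx.2, mul_zero, mul_zero, sub_zero, sub_zero]

/-- the induced polar space on the complement of a hyperbolic pair. -/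
def sub (he : P.sg e) (hf : P.sg f) (hef : P.h e f = 1) : Pol F (P.perp e f) where
  bar := P.bar
  bar_bar := P.bar_bar
  ε := P.ε
  eps_mul := P.eps_mul
  bar_eps := P.bar_eps
  h x y := P.h x y
  h_add_right x y z := P.h_add_right x y z
  h_smul_right a x y := P.h_smul_right a x y
  h_symm x y := P.h_symm x y
  sg x := P.sg x
  sg_smul a x hx := P.sg_smul a x hx
  sg_self x hx := P.sg_self x hx
  sg_add x y hx hy h := P.sg_add x y hx hy h
  sg_adj x y hx h := by
    obtain ⟨c, hc⟩ := P.sg_adj x y hx h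
    exact ⟨c, hc⟩
  nondeg x hx := by
    apply Subtype.ext
    refine P.nondeg _ fun y => ?_
    have := hx ⟨P.prj e f y, P.prj_mem he hf hef y⟩
    rwa [P.h_prj_right he hf hef x.2] at this

end Hyp

end Pol

end Cfsg.Agent.H16.Ps
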