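import Cfsg.Agent.H16_Pol1

set_option autoImplicit false

/-! Polar spaces with groups: unipotent radicals. -/

namespace Cfsg.Agent.H16.Ps

namespace PolG

variable {F V S : Type*} [Field F] [AddCommGroup V] [Module F V] [Group S] (P : PolG F V S)

theorem r_mul (s t : S) (x : V) : P.r (s * t) x = P.r s (P.r t x) := by
  rw [map_mul]; rfl

theorem r_one (x : V) : P.r 1 x = x := by
  rw [map_one]; rfl

theorem r_inv_r (s : S) (x : V) : P.r s⁻¹ (P.r s x) = x := by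
  rw [← P.r_mul, inv_mul_cancel, P.r_one]

theorem r_r_inv (s : S) (x : V) : P.r s (P.r s⁻¹ x) = x := by
  rw [← P.r_mul, mul_inv_cancel, P.r_one]

theorem r_add (s : S) (x y : V) : P.r s (x + y) = P.r s x + P.r s y := map_add _ _ _

theorem r_smul (s : S) (c : F) (x : V) : P.r s (c • x) = c • P.r s x := map_smul _ _ _

theorem r_injective (s : S) : Function.Injective (P.r s) := by
  intro x y h
  rw [← P.r_inv_r s x, h, P.r_inv_r]

theorem r_ne_zero (s : S) {x : V} (hx : x ≠ 0) : P.r s x ≠ 0 := by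
  intro h
  exact hx (P.r_injective s (by rw [h, map_zero]))

theorem ext_r {s t : S} (h : ∀ x, P.r s x = P.r t x) : s = t := P.r_inj (LinearMap.ext h)

theorem r_sg_iff (s : S) (x : V) : P.sg (P.r s x) ↔ P.sg x := by
  constructor
  · intro h
    have := P.r_sg s⁻¹ _ h
    rwa [P.r_inv_r] at this
  · exact P.r_sg s x

theorem r_h_left (s : S) (x y : V) : P.h (P.r s x) y = P.h x (P.r s⁻¹ y) := by
  rw [← P.r_h s x, P.r_r_inv]

theorem sim_r (s : S) {x y : V} (h : Sim F x y) : Sim F (P.r s x) (P.r s y) := by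
  obtain ⟨c, hc, rfl⟩ := h
  exact ⟨c, hc, P.r_smul s c x⟩

theorem sim_r_iff (s : S) {x y : V} : Sim F (P.r s x) (P.r s y) ↔ Sim F x y := by
  constructor
  · intro h
    have := P.sim_r s⁻¹ h
    rwa [P.r_inv_r, P.r_inv_r] at this
  · exact P.sim_r s

/-- the unipotent radical of the stabilizer of a singular point. -/
def Q (v : V) : Subgroup S where
  carrier := {s | P.r s v = v ∧ ∀ x, P.h v x = 0 → ∃ a : F, P.r s x = x + a • v}
  one_mem' := ⟨P.r_one v, fun x _ => ⟨0, by rw [P.r_one, zero_smul, add_zero]⟩⟩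
  mul_mem' := by
    rintro s t ⟨h1, h2⟩ ⟨h3, h4⟩
    refine ⟨by rw [P.r_mul, h3, h1], fun x hx => ?_⟩
    obtain ⟨a, ha⟩ := h4 x hx
    obtain ⟨b, hb⟩ := h2 x hx
    exact ⟨b + a, by rw [P.r_mul, ha, P.r_add, hb, P.r_smul, h1, add_smul]; abel⟩
  inv_mem' := by
    rintro s ⟨h1, h2⟩
    have h3 : P.r s⁻¹ v = v := by
      conv_lhs => rw [← h1]
      rw [P.r_inv_r]
    refine ⟨h3, fun x hx => ?_⟩
    obtain ⟨a, ha⟩ := h2 x hx
    refine ⟨-a, ?_⟩
    have := congrArg (P.r s⁻¹) ha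
    rw [P.r_inv_r, P.r_add, P.r_smul, h3] at this
    rw [neg_smul, ← sub_eq_add_neg, eq_sub_iff_add_eq]
    exact this.symm

theorem mem_Q {v : V} {s : S} : s ∈ P.Q v ↔ P.r s v = v ∧ ∀ x, P.h v x = 0 → ∃ a : F, P.r s x = x + a • v := Iff.rfl

theorem Q_sim {v w : V} (h : Sim F v w) : P.Q v = P.Q w := by
  have key : ∀ {v w : V}, Sim F v w → P.Q v ≤ P.Q w := by
    rintro v _ ⟨c, hc, rfl⟩ s ⟨h1, h2⟩
    refine ⟨by rw [P.r_smul, h1], fun x hx => ?_⟩
    rw [P.h_smul_left] at hx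
    obtain ⟨a, ha⟩ := h2 x ((mul_eq_zero.mp hx).resolve_left (P.bar_ne_zero hc))
    exact ⟨a * c⁻¹, by rw [ha, smul_smul, mul_assoc, inv_mul_cancel₀ hc, mul_one]⟩
  exact le_antisymm (key h) (key h.symm)

theorem conj_mem_Q (s : S) {t : S} {v : V} : s * t * s⁻¹ ∈ P.Q (P.r s v) ↔ t ∈ P.Q v := by
  have key : ∀ (s : S) {t : S} {v : V}, t ∈ P.Q v → s * t * s⁻¹ ∈ P.Q (P.r s v) := by
    rintro s t v ⟨h1, h2⟩
    refine ⟨by rw [P.r_mul, P.r_mul, P.r_inv_r, h1], fun x hx => ?_⟩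
    rw [P.r_h_left] at hx
    obtain ⟨a, ha⟩ := h2 _ hx
    exact ⟨a, by rw [P.r_mul, P.r_mul, ha, P.r_add, P.r_smul, P.r_r_inv]⟩
  constructor
  · intro h
    have := key s⁻¹ h
    rw [P.r_inv_r, inv_inv] at this
    have h2 : s⁻¹ * (s * t * s⁻¹) * s = t := by group
    rwa [h2] at this
  · exact key s

theorem h_v_sub {v f : V} {t : S} (ht : t ∈ P.Q v) : P.h v (P.r t f - f) = 0 := by
  rw [P.h_sub_right, sub_eq_zero]
  conv_lhs => rw [← ht.1]
  rw [P.r_h]

theorem Q_act {v f : V} (hf : P.h v f = 1) {t : S} (ht : t ∈ P.Q v) {x : V} (hx : P.h v x = 0) :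
    P.r t x = x - (P.ε * P.h (P.r t f - f) x) • v := by
  obtain ⟨a, ha⟩ := ht.2 x hx
  have h1 := P.r_h t x f
  have h2 : P.r t f = f + (P.r t f - f) := by abel
  rw [ha, h2, P.h_add_left, P.h_smul_left, P.h_add_right, P.h_add_right, P.h_v_sub ht, hf, add_zero,
    mul_one] at h1
  have h3 : P.bar a = -P.h x (P.r t f - f) := by linear_combination h1
  have h4 : a = - (P.ε * P.h (P.r t f - f) x) := by
    rw [P.h_symm x, ← mul_assoc, P.eps_mul, one_mul, ← map_neg, ← h3, P.bar_bar]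
  rw [ha, h4, neg_smul, ← sub_eq_add_neg]

theorem Q_ext {v f : V} (hf : P.h v f = 1) {s t : S} (hs : s ∈ P.Q v) (ht : t ∈ P.Q v)
    (h : P.r s f = P.r t f) : s = t := by
  apply P.ext_r
  intro x
  have h1 : x = (x - P.h v x • f) + P.h v x • f := by abel
  have h2 : P.h v (x - P.h v x • f) = 0 := by
    rw [P.h_sub_right, P.h_smul_right, hf, mul_one, sub_self]
  rw [h1, P.r_add, P.r_add, P.r_smul, P.r_smul, P.Q_act hf hs h2, P.Q_act hf ht h2, h]

theorem Q_eq_one {v y : V} (hy : P.h v y ≠ 0) {t : S} (ht : t ∈ P.Q v) (h : Sim F y (P.r t y)) : t = 1 := by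
  obtain ⟨c, hc, h⟩ := h
  have h1 := P.r_h t v y
  rw [ht.1, h, P.h_smul_right] at h1
  have hc1 : c = 1 := mul_right_cancel₀ hy (by rw [h1, one_mul])
  rw [hc1, one_smul] at h
  refine P.Q_ext (v := v) (f := (P.h v y)⁻¹ • y) ?_ ht (one_mem _) ?_
  · rw [P.h_smul_right, inv_mul_cancel₀ hy]
  · rw [P.r_smul, P.r_one, h]

/-- transitivity of the radical on opposite points. -/
theorem exQ {z v w : V} (hz : P.sg z) (hv : P.sg v) (hw : P.sg w) (hzv : P.h z v = 1) (hzw : P.h z w = 1) :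
    ∃ s ∈ P.Q z, P.r s v = w := by
  obtain ⟨s, hs⟩ := P.exE z v w hz hv hw hzv hzw
  have h1 : P.h z (w - v) = 0 := by rw [P.h_sub_right, hzv, hzw, sub_self]
  have h2 : P.h (w - v) z = 0 := P.h_comm_zero.mp h1
  refine ⟨s, ⟨?_, fun x hx => ?_⟩, ?_⟩
  · rw [hs, P.sg_self z hz, h2]
    simp
  · refine ⟨-(P.ε * P.h (w - v) x), ?_⟩
    rw [hs, hx]
    simp [sub_eq_add_neg]
  · rw [hs, hzv, P.h_sub_left, P.sg_self v hv, sub_zero, mul_one, one_smul]
    abel

theorem trans_opp {z v w : V} (hz : P.sg z) (hv : P.sg v) (hw : P.sg w) (hzv : P.h z v ≠ 0) (hzw : P.h z w ≠ 0) :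
    ∃ s ∈ P.Q z, Sim F (P.r s v) w := by
  obtain ⟨s, hs, h⟩ := P.exQ (z := z) (v := (P.h z v)⁻¹ • v) (w := (P.h z w)⁻¹ • w) hz (P.sg_smul _ _ hv)
    (P.sg_smul _ _ hw) (by rw [P.h_smul_right, inv_mul_cancel₀ hzv]) (by rw [P.h_smul_right, inv_mul_cancel₀ hzw])
  refine ⟨s, hs, P.h z w * (P.h z v)⁻¹, mul_ne_zero hzw (inv_ne_zero hzv), ?_⟩
  rw [P.r_smul] at h
  rw [← smul_smul, h, smul_smul, mul_inv_cancel₀ hzw, one_smul]

/-- the element moves only what it must. -/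
theorem Q_fix {z f x : V} (hzf : P.h z f = 1) {s : S} (hs : s ∈ P.Q z) (hx : P.h z x = 0)
    (h : P.h (P.r s f - f) x = 0) : P.r s x = x := by
  rw [P.Q_act hzf hs hx, h, mul_zero, zero_smul, sub_zero]

/-- the long/short root element `E(e, x, 0)`. -/
theorem exE0 {e f x : V} (he : P.sg e) (hf : P.sg f) (hef : P.h e f = 1) (hx : P.sg x) (hex : P.h e x = 0)
    (hfx : P.h f x = 0) : ∃ s ∈ P.Q e, P.r s f = f + x ∧ s ∈ P.Q x ∧
      ∀ y, P.r s y = y + P.h e y • x - (P.ε * P.h x y) • e := by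
  have hfx' : P.sg (f + x) := P.sg_add _ _ hf hx hfx
  have h1 : P.h e (f + x) = 1 := by rw [P.h_add_right, hef, hex, add_zero]
  obtain ⟨s, hs, h⟩ := P.exQ he hf hfx' hef h1
  have hact : ∀ y, P.r s y = y + P.h e y • x - (P.ε * P.h x y) • e := by
    intro y
    have h2 : y = (y - P.h e y • f) + P.h e y • f := by abel
    have h3 : P.h e (y - P.h e y • f) = 0 := by
      rw [P.h_sub_right, P.h_smul_right, hef, mul_one, sub_self]
    conv_lhs => rw [h2]
    rw [P.r_add, P.r_smul, P.Q_act hef hs h3, h, add_sub_cancel_left, P.h_sub_right, P.h_smul_right,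
      P.h_comm_zero.mp hfx, mul_zero, sub_zero, smul_add]
    abel
  refine ⟨s, hs, h, ⟨?_, fun y hy => ⟨P.h e y, ?_⟩⟩, hact⟩
  · rw [hact, hex, P.sg_self x hx]
    simp
  · rw [hact, hy]
    simp

section Hyp

variable {e f : V} (he : P.sg e) (hf : P.sg f) (hef : P.h e f = 1)

/-- the `V'`-part of an element of the radical. -/
def uu (e f : V) (t : S) : V := P.prj e f (P.r t f)

theorem uu_eq (he : P.sg e) (hf : P.sg f) (hef : P.h e f = 1) (t : S) : P.uu e f t = P.prj e f (P.r t f - f) := by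
  have h1 : P.r t f = (P.r t f - f) + f := by abel
  rw [uu]
  conv_lhs => rw [h1]
  rw [P.prj_add, P.prj_f hf hef, add_zero]

include he hf hef in
theorem uu_mem (t : S) : P.uu e f t ∈ P.perp e f := P.prj_mem he hf hef _

include he hf hef in
theorem Q_act' {t : S} (ht : t ∈ P.Q e) {x : V} (hx : x ∈ P.perp e f) :
    P.r t x = x - (P.ε * P.h (P.uu e f t) x) • e := by
  rw [P.Q_act hef ht hx.1]
  congr 3
  rw [P.uu_eq he hf hef, P.h_symm x, P.h_symm x, P.h_prj_right he hf hef hx]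

include he hf hef in
theorem Q_act'' {t : S} (ht : t ∈ P.Q e) {x : V} (hx : P.h e x = 0) :
    ∃ a : F, P.r t f = f + P.uu e f t + a • e := by
  have h1 := P.eq_prj e f (P.r t f)
  have h2 : P.h e (P.r t f) = 1 := by
    have := P.h_v_sub (f := f) ht
    rw [P.h_sub_right, hef, sub_eq_zero] at this
    exact this
  refine ⟨P.ε * P.h f (P.r t f), ?_⟩
  rw [h2, one_smul] at h1
  rw [uu]
  conv_lhs => rw [h1]
  abel

include he hf hef in
theorem r_f {t : S} (ht : t ∈ P.Q e) : ∃ a : F, P.r t f = f + P.uu e f t + a • e :=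
  P.Q_act'' he hf hef ht (x := 0) (P.h_zero_right _)

include he hf hef in
theorem uu_mul {s t : S} (hs : s ∈ P.Q e) (ht : t ∈ P.Q e) : P.uu e f (s * t) = P.uu e f s + P.uu e f t := by
  obtain ⟨a, ha⟩ := P.r_f he hf hef hs
  obtain ⟨b, hb⟩ := P.r_f he hf hef ht
  rw [uu, P.r_mul, hb, P.r_add, P.r_add, P.r_smul, hs.1, ha, P.Q_act' he hf hef hs (P.uu_mem he hf hef t),
    sub_eq_add_neg, ← neg_smul]
  simp only [P.prj_add, P.prj_smul, P.prj_e he hf hef, P.prj_f hf hef, smul_zero, add_zero, zero_add]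
  rw [P.prj_of_mem (P.uu_mem he hf hef s).1 (P.uu_mem he hf hef s).2,
    P.prj_of_mem (P.uu_mem he hf hef t).1 (P.uu_mem he hf hef t).2]

include hf hef in
theorem uu_one : P.uu e f 1 = 0 := by
  rw [uu, P.r_one, P.prj_f hf hef]

include he hf hef in
theorem uu_inv {s : S} (hs : s ∈ P.Q e) : P.uu e f s⁻¹ = -P.uu e f s := by
  have := P.uu_mul he hf hef hs (inv_mem hs)
  rw [mul_inv_cancel, P.uu_one hf hef] at this
  rw [eq_neg_iff_add_eq_zero, add_comm, ← this]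

include he hf hef in
theorem sim_iff {t : S} (ht : t ∈ P.Q e) {x : V} (hx : x ∈ P.perp e f) (hx0 : x ≠ 0) :
    Sim F x (P.r t x) ↔ P.h (P.uu e f t) x = 0 := by
  rw [P.Q_act' he hf hef ht hx]
  constructor
  · rintro ⟨c, hc, h⟩
    have h1 := congrArg (P.h f) h
    rw [P.h_sub_right, hx.2, P.h_smul_right, P.h_smul_right, hx.2, mul_zero, P.h_fe hef, zero_sub,
      neg_eq_zero] at h1
    have h2 := P.eps_ne
    simpa [h2] using h1
  · intro h
    rw [h, mul_zero, zero_smul, sub_zero]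
    exact Sim.refl x

end Hyp

end PolG

end Cfsg.Agent.H16.Ps
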