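import Cfsg.Agent.H16_Pol2

set_option autoImplicit false

/-! Polar spaces with groups: automorphisms act on points. -/

namespace Cfsg.Agent.H16.Ps

/-- every point has at least two opposites. -/
def PolG.Big {F V S : Type*} [Field F] [AddCommGroup V] [Module F V] [Group S] (P : PolG F V S) : Prop :=
  ∀ e f, P.sg e → P.sg f → P.h e f = 1 → ∃ w, P.sg w ∧ P.h e w = 1 ∧ w ≠ f

namespace PolT

variable {F V S T : Type*} [Field F] [AddCommGroup V] [Module F V] [Group S] [Group T] (P : PolT F V S T)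

theorem pm_eq {s t : S} (h : P.pm s = P.pm t) : ∃ c : F, ∀ x, P.r t x = c • P.r s x := by
  have h1 : P.pm (s⁻¹ * t) = 1 := by rw [map_mul, map_inv, h, inv_mul_cancel]
  obtain ⟨c, hc⟩ := (P.ker_iff _).mp h1
  refine ⟨c, fun x => ?_⟩
  have := congrArg (P.r s) (hc x)
  rw [P.r_mul, P.r_r_inv, P.r_smul] at this
  exact this

theorem pm_eq_of {s t : S} {c : F} (hc : c ≠ 0) (h : ∀ x, P.r t x = c • P.r s x) : P.pm s = P.pm t := by
  have h1 : P.pm (s⁻¹ * t) = 1 := by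
    rw [P.ker_iff]
    refine ⟨c, fun x => ?_⟩
    rw [P.r_mul, h, P.r_smul, P.r_inv_r]
  rwa [map_mul, map_inv, inv_mul_eq_one] at h1

theorem pm_ne_zero {s t : S} {c : F} (h : ∀ x, P.r t x = c • P.r s x) {x : V} (hx : x ≠ 0) : c ≠ 0 := by
  rintro rfl
  have := h x
  rw [zero_smul] at this
  exact P.r_ne_zero t hx this

def QT (v : V) : Subgroup T := (P.Q v).map P.pm

theorem mem_QT {v : V} {t : T} : t ∈ P.QT v ↔ ∃ s ∈ P.Q v, P.pm s = t := Iff.rfl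

theorem QT_sim {v w : V} (h : Sim F v w) : P.QT v = P.QT w := by
  rw [QT, QT, P.Q_sim h]

theorem conj_mem_QT (s : S) {t : T} {v : V} : P.pm s * t * (P.pm s)⁻¹ ∈ P.QT (P.r s v) ↔ t ∈ P.QT v := by
  constructor
  · rintro ⟨u, hu, h⟩
    refine ⟨s⁻¹ * u * s, ?_, ?_⟩
    · have := (P.conj_mem_Q s⁻¹).mpr hu
      rwa [P.r_inv_r, inv_inv] at this
    · rw [map_mul, map_mul, map_inv, h]; group
  · rintro ⟨u, hu, rfl⟩
    exact ⟨s * u * s⁻¹, (P.conj_mem_Q s).mpr hu, by rw [map_mul, map_mul, map_inv]⟩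

theorem inter_perp {x y : V} (hx : x ≠ 0) (hxy : P.h y x = 0) {s t : S} (hs : s ∈ P.Q x)
    (ht : t ∈ P.Q y) (h : P.pm s = P.pm t) : s = t := by
  obtain ⟨c, hc⟩ := P.pm_eq h
  obtain ⟨a, ha⟩ := ht.2 x hxy
  have h1 := hc x
  rw [hs.1, ha] at h1
  have hc1 : c = 1 := by
    by_contra hne
    have h2 : (c - 1) • x = a • y := by rw [sub_smul, ← h1, one_smul]; abel
    have h3 : c - 1 ≠ 0 := sub_ne_zero.mpr hne
    have h4 : x = ((c - 1)⁻¹ * a) • y := by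
      rw [← smul_smul, ← h2, smul_smul, inv_mul_cancel₀ h3, one_smul]
    have h5 : P.r t x = x := by
      conv_lhs => rw [h4]
      rw [P.r_smul, ht.1, ← h4]
    rw [← ha, h5] at h1
    have h6 : (c - 1) • x = 0 := by rw [sub_smul, ← h1, one_smul, sub_self]
    exact (smul_ne_zero h3 hx) h6
  refine P.ext_r fun z => ?_
  rw [hc z, hc1, one_smul]

theorem inter_opp {x y : V} (hxy : P.h x y ≠ 0) {s t : S} (hs : s ∈ P.Q x)
    (ht : t ∈ P.Q y) (h : P.pm s = P.pm t) : s = 1 := by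
  obtain ⟨c, hc⟩ := P.pm_eq h.symm
  have hy : y ≠ 0 := by rintro rfl; exact hxy (P.h_zero_right _)
  refine P.Q_eq_one hxy hs ⟨c, P.pm_ne_zero hc hy, ?_⟩
  rw [hc y, ht.1]

theorem Q_lift {x : V} (hx : P.sg x) (hx0 : x ≠ 0) {s t : S} (hs : s ∈ P.Q x) (ht : t ∈ P.Q x)
    (h : P.pm s = P.pm t) : s = t :=
  P.inter_perp hx0 (P.sg_self x hx) hs ht h

theorem perp_iff {x y : V} (hx : P.sg x) (hy : P.sg y) (hx0 : x ≠ 0) (hy0 : y ≠ 0) (hxy : ¬ Sim F x y) :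
    P.h x y = 0 ↔ ∃ t, t ≠ 1 ∧ t ∈ P.QT x ∧ t ∈ P.QT y := by
  constructor
  · intro h
    obtain ⟨f, hf, hxf, hyf⟩ := P.exists_opp_perp (v := x) (y := y) hx (P.h_comm_zero.mp h)
      (fun c hc => hxy (sim_of_eq_smul hc hx0).symm)
    obtain ⟨s, hs, hsf, hs', -⟩ := P.exE0 hx hf hxf hy h (P.h_comm_zero.mp hyf)
    refine ⟨P.pm s, ?_, ⟨s, hs, rfl⟩, ⟨s, hs', rfl⟩⟩
    intro h1
    have h2 : s = 1 := P.Q_lift hx hx0 hs (one_mem _) (by rw [h1, map_one])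
    rw [h2, P.r_one] at hsf
    exact hy0 (by simpa using hsf)
  · rintro ⟨t, ht, ⟨s, hs, rfl⟩, ⟨s', hs', h⟩⟩
    by_contra hne
    exact ht (by rw [P.inter_opp hne hs hs' h.symm, map_one])

theorem QT_inj (hB : P.Big) {x y : V} (hx : P.sg x) (hy : P.sg y) (hx0 : x ≠ 0) (hy0 : y ≠ 0)
    (h : P.QT x ≤ P.QT y) : Sim F x y := by
  by_contra hne
  by_cases hxy : P.h x y = 0
  · obtain ⟨f, hf, hxf, hyf⟩ := P.exists_opp_perp (v := x) (y := y) hx (P.h_comm_zero.mp hxy)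
      (fun c hc => hne (sim_of_eq_smul hc hx0).symm)
    have hfy : P.h f y = 0 := P.h_comm_zero.mp hyf
    obtain ⟨w, hw, hyw⟩ := (P.sub hx hf hxf).exists_opp (v := ⟨y, ⟨hxy, hfy⟩⟩) hy (by
      intro h; exact hy0 (congrArg Subtype.val h))
    obtain ⟨s, hs, -, -, hact⟩ := P.exE0 hx hf hxf hw w.2.1 w.2.2
    obtain ⟨t, ht, hst⟩ := h ⟨s, hs, rfl⟩
    obtain ⟨c, hc⟩ := P.pm_eq hst
    have h1 := hact y
    rw [hc y, ht.1, hxy, zero_smul, add_zero] at h1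
    have hyw' : P.h y w = 1 := hyw
    have h2 : P.h w y = P.ε := by rw [P.h_symm y w, hyw', map_one, mul_one]
    rw [h2, P.eps_mul, one_smul] at h1
    have h3 : x = (1 - c) • y := by rw [sub_smul, one_smul, h1]; abel
    exact hne (sim_of_eq_smul h3 hx0).symm
  · have h1 : P.h x ((P.h x y)⁻¹ • y) = 1 := by rw [P.h_smul_right, inv_mul_cancel₀ hxy]
    obtain ⟨w, hw, hxw, hwf⟩ := hB x ((P.h x y)⁻¹ • y) hx (P.sg_smul _ _ hy) h1
    obtain ⟨s, hs, hsw⟩ := P.exQ hx (P.sg_smul _ _ hy) hw h1 hxw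
    obtain ⟨t, ht, hst⟩ := h ⟨s, hs, rfl⟩
    have h2 := P.inter_opp hxy hs ht hst.symm
    rw [h2, P.r_one] at hsw
    exact hwf hsw.symm

/-- the automorphism `α` sends the point `v` to the point `v'`. -/
structure Rel (α : MulAut T) (v v' : V) : Prop where
  sg : P.sg v
  ne : v ≠ 0
  sg' : P.sg v'
  ne' : v' ≠ 0
  iff : ∀ t, t ∈ P.QT v ↔ α t ∈ P.QT v'

namespace Rel

variable {P} {α : MulAut T}

theorem sim {v v' w w' : V} (h : P.Rel α v v') (h1 : Sim F v w) (h2 : Sim F v' w') : P.Rel α w w' := by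
  refine ⟨?_, h1.ne_zero h.ne, ?_, h2.ne_zero h.ne', ?_⟩
  · obtain ⟨c, _, rfl⟩ := h1; exact P.sg_smul _ _ h.sg
  · obtain ⟨c, _, rfl⟩ := h2; exact P.sg_smul _ _ h.sg'
  · rw [← P.QT_sim h1, ← P.QT_sim h2]; exact h.iff

theorem uniq (hB : P.Big) {v v' v'' : V} (h : P.Rel α v v') (h' : P.Rel α v v'') : Sim F v' v'' := by
  apply P.QT_inj hB h.sg' h'.sg' h.ne' h'.ne'
  intro t ht
  obtain ⟨t, rfl⟩ := α.surjective t
  exact (h'.iff t).mp ((h.iff t).mpr ht)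

theorem inj (hB : P.Big) {v w v' : V} (h : P.Rel α v v') (h' : P.Rel α w v') : Sim F v w := by
  apply P.QT_inj hB h.sg h'.sg h.ne h'.ne
  intro t ht
  exact (h'.iff t).mpr ((h.iff t).mp ht)

theorem act {v v' : V} (h : P.Rel α v v') {s s' : S} (hs : P.pm s' = α (P.pm s)) :
    P.Rel α (P.r s v) (P.r s' v') := by
  refine ⟨P.r_sg s _ h.sg, P.r_ne_zero s h.ne, P.r_sg s' _ h.sg', P.r_ne_zero s' h.ne', fun t => ?_⟩
  obtain ⟨u, hu⟩ : ∃ u, t = P.pm s * u * (P.pm s)⁻¹ := ⟨(P.pm s)⁻¹ * t * P.pm s, by group⟩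
  rw [hu, P.conj_mem_QT, h.iff, map_mul α, map_mul α (P.pm s), map_inv, ← hs, P.conj_mem_QT]

theorem inv {v v' : V} (h : P.Rel α v v') : P.Rel α⁻¹ v' v := by
  refine ⟨h.sg', h.ne', h.sg, h.ne, fun t => ?_⟩
  rw [h.iff]
  have : α (α⁻¹ t) = t := α.apply_symm_apply t
  rw [this]

theorem perp (hB : P.Big) {v v' w w' : V} (h : P.Rel α v v') (h' : P.Rel α w w') :
    P.h v w = 0 ↔ P.h v' w' = 0 := by
  by_cases hs : Sim F v w
  · have hs' : Sim F v' w' := Rel.uniq hB (h.sim hs (Sim.refl _)) h'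
    obtain ⟨c, _, rfl⟩ := hs
    obtain ⟨c', _, rfl⟩ := hs'
    rw [P.h_smul_right, P.h_smul_right, P.sg_self _ h.sg, P.sg_self _ h.sg', mul_zero, mul_zero]
  · have hs' : ¬ Sim F v' w' := fun hc => hs (Rel.inj hB (h.sim (Sim.refl _) hc) h')
    rw [P.perp_iff h.sg h'.sg h.ne h'.ne hs, P.perp_iff h.sg' h'.sg' h.ne' h'.ne' hs']
    constructor
    · rintro ⟨t, h1, h2, h3⟩
      exact ⟨α t, fun hc => h1 (α.injective (by rw [hc, map_one])), (h.iff t).mp h2, (h'.iff t).mp h3⟩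
    · rintro ⟨t, h1, h2, h3⟩
      obtain ⟨t, rfl⟩ := α.surjective t
      exact ⟨t, fun hc => h1 (by rw [hc, map_one]), (h.iff t).mpr h2, (h'.iff t).mpr h3⟩

end Rel

/-- the data for the analysis of an automorphism. -/
structure Setup (α : MulAut T) (e f e' f' : V) : Prop where
  ex : ∀ v, P.sg v → v ≠ 0 → ∃ v', P.Rel α v v'
  ex' : ∀ v', P.sg v' → v' ≠ 0 → ∃ v, P.Rel α v v'
  big : P.Big
  he : P.Rel α e e'
  hf : P.Rel α f f'
  hef : P.h e f = 1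
  hef' : P.h e' f' = 1
  sp : ∀ x ∈ P.perp e f, x ∈ Submodule.span F {y | y ∈ P.perp e f ∧ P.sg y}
  sp' : ∀ x ∈ P.perp e' f', x ∈ Submodule.span F {y | y ∈ P.perp e' f' ∧ P.sg y}

/-- `u ↦ u'` under the map induced by `α` on `Q_e / X_e`. -/
def AR (α : MulAut T) (e f e' f' u u' : V) : Prop :=
  ∃ t ∈ P.Q e, ∃ t' ∈ P.Q e', P.pm t' = α (P.pm t) ∧ P.uu e f t = u ∧ P.uu e' f' t' = u'

theorem exists_uu {e f : V} (he : P.sg e) (hf : P.sg f) (hef : P.h e f = 1)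
    (sp : ∀ x ∈ P.perp e f, x ∈ Submodule.span F {y | y ∈ P.perp e f ∧ P.sg y}) {u : V} (hu : u ∈ P.perp e f) :
    ∃ t ∈ P.Q e, P.uu e f t = u := by
  have key : ∀ x ∈ Submodule.span F {y | y ∈ P.perp e f ∧ P.sg y}, ∀ a : F, ∃ t ∈ P.Q e, P.uu e f t = a • x := by
    intro x hx
    induction hx using Submodule.span_induction with
    | mem y hy =>
      intro a
      obtain ⟨t, ht, h, -, -⟩ := P.exE0 he hf hef (P.sg_smul a y hy.2)
        (by rw [P.h_smul_right, hy.1.1, mul_zero]) (by rw [P.h_smul_right, hy.1.2, mul_zero])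
      refine ⟨t, ht, ?_⟩
      rw [PolG.uu, h, P.prj_add, P.prj_f hf hef, zero_add]
      exact P.prj_of_mem ((P.perp e f).smul_mem a hy.1).1 ((P.perp e f).smul_mem a hy.1).2
    | zero => exact fun a => ⟨1, one_mem _, by rw [P.uu_one hf hef, smul_zero]⟩
    | add x y _ _ hx hy =>
      intro a
      obtain ⟨t, ht, h⟩ := hx a
      obtain ⟨t', ht', h'⟩ := hy a
      exact ⟨t * t', mul_mem ht ht', by rw [P.uu_mul he hf hef ht ht', h, h', smul_add]⟩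
    | smul b x _ hx =>
      intro a
      obtain ⟨t, ht, h⟩ := hx (a * b)
      exact ⟨t, ht, by rw [h, smul_smul]⟩
  obtain ⟨t, ht, h⟩ := key u (sp u hu) 1
  exact ⟨t, ht, by rw [h, one_smul]⟩

namespace Setup

variable {P} {α : MulAut T} {e f e' f' : V} (D : P.Setup α e f e' f')

include D

theorem inv : P.Setup α⁻¹ e' f' e f where
  ex v hv h0 := by
    obtain ⟨v', h⟩ := D.ex' v hv h0
    exact ⟨v', h.inv⟩
  ex' v hv h0 := by
    obtain ⟨v', h⟩ := D.ex v hv h0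
    exact ⟨v', h.inv⟩
  big := D.big
  he := D.he.inv
  hf := D.hf.inv
  hef := D.hef'
  hef' := D.hef
  sp := D.sp'
  sp' := D.sp

theorem lift {t : S} (ht : t ∈ P.Q e) : ∃ t' ∈ P.Q e', P.pm t' = α (P.pm t) :=
  (D.he.iff _).mp ⟨t, ht, rfl⟩

theorem exAR {u : V} (hu : u ∈ P.perp e f) : ∃ u', P.AR α e f e' f' u u' := by
  obtain ⟨t, ht, h⟩ := P.exists_uu D.he.sg D.hf.sg D.hef D.sp hu
  obtain ⟨t', ht', h'⟩ := D.lift ht
  exact ⟨_, t, ht, t', ht', h', h, rfl⟩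

theorem AR_inv {u u' : V} (h : P.AR α e f e' f' u u') : P.AR α⁻¹ e' f' e f u' u := by
  obtain ⟨t, ht, t', ht', h1, h2, h3⟩ := h
  refine ⟨t', ht', t, ht, ?_, h3, h2⟩
  rw [h1]
  exact (α.symm_apply_apply _).symm

theorem rel_perp {x x' : V} (h : P.Rel α x x') : x ∈ P.perp e f ↔ x' ∈ P.perp e' f' :=
  and_congr (D.he.perp D.big h) (D.hf.perp D.big h)

theorem fix_iff {t t' : S} (h : P.pm t' = α (P.pm t)) {x x' : V} (hx : P.Rel α x x') :
    Sim F x (P.r t x) ↔ Sim F x' (P.r t' x') := by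
  constructor
  · intro hs
    exact Rel.uniq D.big (hx.sim hs (Sim.refl _)) (hx.act h)
  · intro hs
    exact Rel.inj D.big (hx.sim (Sim.refl _) hs) (hx.act h)

theorem orth_iff {w w' x x' : V} (hw : P.AR α e f e' f' w w') (hx : P.Rel α x x') (hxm : x ∈ P.perp e f) :
    P.h w x = 0 ↔ P.h w' x' = 0 := by
  obtain ⟨t, ht, t', ht', h1, h2, h3⟩ := hw
  have := D.fix_iff h1 hx
  rwa [P.sim_iff D.he.sg D.hf.sg D.hef ht hxm hx.ne,
    P.sim_iff D.he.sg' D.hf.sg' D.hef' ht' ((D.rel_perp hx).mp hxm) hx.ne', h2, h3] at this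

/-- a vector of `V''` orthogonal to all singular vectors is zero. -/
theorem eq_zero_of_orth {w' : V} (hw' : w' ∈ P.perp e' f')
    (h : ∀ y ∈ P.perp e' f', P.sg y → y ≠ 0 → P.h w' y = 0) : w' = 0 := by
  have h1 : ∀ y ∈ P.perp e' f', P.h w' y = 0 := by
    intro y hy
    have hsp := D.sp' y hy
    clear hy
    induction hsp using Submodule.span_induction with
    | mem y hy =>
      by_cases h0 : y = 0
      · rw [h0, P.h_zero_right]
      · exact h y hy.1 hy.2 h0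
    | zero => exact P.h_zero_right _
    | add x y hx hy h1 h2 => rw [P.h_add_right, h1, h2, add_zero]
    | smul a x hx h1 => rw [P.h_smul_right, h1, mul_zero]
  have h2 := (P.sub D.he.sg' D.hf.sg' D.hef').nondeg ⟨w', hw'⟩ (fun y => h1 y y.2)
  exact congrArg Subtype.val h2

theorem AR_uniq {u u₁ u₂ : V} (h₁ : P.AR α e f e' f' u u₁) (h₂ : P.AR α e f e' f' u u₂) : u₁ = u₂ := by
  obtain ⟨t, ht, t', ht', h1, h2, h3⟩ := h₁
  obtain ⟨s, hs, s', hs', h4, h5, h6⟩ := h₂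
  have hm := mul_mem ht (inv_mem hs)
  have hm' := mul_mem ht' (inv_mem hs')
  have h7 : P.uu e f (t * s⁻¹) = 0 := by
    rw [P.uu_mul D.he.sg D.hf.sg D.hef ht (inv_mem hs), P.uu_inv D.he.sg D.hf.sg D.hef hs, h2, h5, add_neg_cancel]
  have h8 : P.uu e' f' (t' * s'⁻¹) = u₁ - u₂ := by
    rw [P.uu_mul D.he.sg' D.hf.sg' D.hef' ht' (inv_mem hs'), P.uu_inv D.he.sg' D.hf.sg' D.hef' hs', h3, h6,
      sub_eq_add_neg]
  have h9 : P.pm (t' * s'⁻¹) = α (P.pm (t * s⁻¹)) := by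
    rw [map_mul, map_mul, map_inv, map_inv, map_mul, map_inv, h1, h4]
  rw [← sub_eq_zero, ← h8]
  refine D.eq_zero_of_orth (P.uu_mem D.he.sg' D.hf.sg' D.hef' _) ?_
  intro y hy hsy hy0
  obtain ⟨x, hx⟩ := D.ex' y hsy hy0
  have hxm : x ∈ P.perp e f := (D.rel_perp hx).mpr hy
  exact (D.orth_iff ⟨_, hm, _, hm', h9, rfl, rfl⟩ hx hxm).mp (by rw [h7, P.h_zero_left])

theorem AR_add {u u' w w' : V} (h₁ : P.AR α e f e' f' u u') (h₂ : P.AR α e f e' f' w w') :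
    P.AR α e f e' f' (u + w) (u' + w') := by
  obtain ⟨t, ht, t', ht', h1, h2, h3⟩ := h₁
  obtain ⟨s, hs, s', hs', h4, h5, h6⟩ := h₂
  refine ⟨t * s, mul_mem ht hs, t' * s', mul_mem ht' hs', ?_, ?_, ?_⟩
  · rw [map_mul, map_mul, map_mul, h1, h4]
  · rw [P.uu_mul D.he.sg D.hf.sg D.hef ht hs, h2, h5]
  · rw [P.uu_mul D.he.sg' D.hf.sg' D.hef' ht' hs', h3, h6]

theorem AR_mem {u u' : V} (h : P.AR α e f e' f' u u') : u' ∈ P.perp e' f' := by
  obtain ⟨t, ht, t', ht', h1, h2, h3⟩ := h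
  rw [← h3]
  exact P.uu_mem D.he.sg' D.hf.sg' D.hef' _

/-- the root element `E(e, x, 0)` goes to `E(e', x', 0)`. -/
theorem exists_root {x x' : V} (hx : P.Rel α x x') (hxm : x ∈ P.perp e f) :
    ∃ (a : F), a ≠ 0 ∧ P.AR α e f e' f' x (a • x') ∧ ∃ t ∈ P.Q e, ∃ t' ∈ P.Q e', P.pm t' = α (P.pm t) ∧
      P.r t f = f + x ∧ P.r t' f' = f' + a • x' := by
  obtain ⟨t, ht, htf, htx, -⟩ := P.exE0 D.he.sg D.hf.sg D.hef hx.sg hxm.1 hxm.2
  obtain ⟨t', ht', h1⟩ := D.lift ht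
  obtain ⟨t'', ht'', h2⟩ := (hx.iff (P.pm t)).mp ⟨t, htx, rfl⟩
  have hm' := (D.rel_perp hx).mp hxm
  have h3 : t' = t'' := P.inter_perp D.he.ne' (P.h_comm_zero.mp hm'.1) ht' ht'' (by rw [h1, h2])
  rw [← h3] at ht''
  obtain ⟨a, ha⟩ := ht''.2 f' (P.h_comm_zero.mp hm'.2)
  have h4 : P.uu e f t = x := by
    rw [PolG.uu, htf, P.prj_add, P.prj_f D.hf.sg D.hef, zero_add, P.prj_of_mem hxm.1 hxm.2]
  have h5 : P.uu e' f' t' = a • x' := by
    rw [PolG.uu, ha, P.prj_add, P.prj_f D.hf.sg' D.hef', zero_add, P.prj_smul, P.prj_of_mem hm'.1 hm'.2]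
  refine ⟨a, ?_, ⟨t, ht, t', ht', h1, h4, h5⟩, t, ht, t', ht', h1, htf, ha⟩
  rintro rfl
  rw [zero_smul, add_zero] at ha
  have h6 : t' = 1 := P.Q_ext D.hef' ht' (one_mem _) (by rw [ha, P.r_one])
  have h7 : P.pm t = 1 := by
    apply α.injective
    rw [← h1, h6, map_one, map_one]
  have h8 : t = 1 := P.Q_lift D.he.sg D.he.ne ht (one_mem _) (by rw [h7, map_one])
  rw [h8, P.r_one] at htf
  exact hx.ne (by simpa using htf)

end Setup

end PolT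

end Cfsg.Agent.H16.Ps
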