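import Cfsg.Agent.H16_Pol3

set_option autoImplicit false

/-! Polar spaces with groups: automorphisms are induced by semisimilarities. -/

namespace Cfsg.Agent.H16.Ps

namespace PolT

open Classical

variable {F V S T : Type*} [Field F] [AddCommGroup V] [Module F V] [Group S] [Group T] {P : PolT F V S T}
  {α : MulAut T} {e f e' f' : V}

/-- coefficient at `e`. -/
def co (P : PolT F V S T) (f : V) (t : S) : F := P.ε * P.h f (P.r t f)

theorem r_f_co (he : P.sg e) (hf : P.sg f) (hef : P.h e f = 1) {t : S} (ht : t ∈ P.Q e) :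
    P.r t f = f + P.uu e f t + P.co f t • e := by
  obtain ⟨a, ha⟩ := P.r_f he hf hef ht
  have : P.co f t = a := by
    rw [co, ha, P.h_add_right, P.h_add_right, P.h_smul_right, P.sg_self f hf, (P.uu_mem he hf hef t).2,
      P.h_fe hef]
    linear_combination a * P.eps_mul
  rw [this]
  exact ha

theorem co_mul (he : P.sg e) (hf : P.sg f) (hef : P.h e f = 1) {s t : S} (hs : s ∈ P.Q e) (ht : t ∈ P.Q e) :
    P.co f (s * t) = P.co f s + P.co f t - P.ε * P.h (P.uu e f s) (P.uu e f t) := by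
  have h1 : P.r (s * t) f = f + P.uu e f s + P.co f s • e +
      (P.uu e f t - (P.ε * P.h (P.uu e f s) (P.uu e f t)) • e) + P.co f t • e := by
    rw [P.r_mul, r_f_co he hf hef ht, P.r_add, P.r_add, P.r_smul, hs.1, r_f_co he hf hef hs,
      P.Q_act' he hf hef hs (P.uu_mem he hf hef t)]
  have h2 := r_f_co he hf hef (mul_mem hs ht)
  rw [h1, P.uu_mul he hf hef hs ht] at h2
  have h3 : (P.co f (s * t) - (P.co f s + P.co f t - P.ε * P.h (P.uu e f s) (P.uu e f t))) • e = 0 := by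
    simp only [sub_smul, add_smul]
    have h4 : P.co f (s * t) • e = f + P.uu e f s + P.co f s • e +
      (P.uu e f t - (P.ε * P.h (P.uu e f s) (P.uu e f t)) • e) + P.co f t • e -
        (f + (P.uu e f s + P.uu e f t)) := by
      rw [h2]; abel
    rw [h4]
    abel
  have h5 : e ≠ 0 := by
    rintro rfl
    rw [P.h_zero_left] at hef
    exact zero_ne_one hef
  exact sub_eq_zero.mp ((smul_eq_zero.mp h3).resolve_right h5)

theorem co_one (hf : P.sg f) : P.co f 1 = 0 := by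
  rw [co, P.r_one, P.sg_self f hf, mul_zero]

namespace Setup

variable (D : P.Setup α e f e' f')

/-- the map `A`. -/
noncomputable def A (P : PolT F V S T) (α : MulAut T) (e f e' f' : V) (u : V) : V :=
  if h : ∃ u', P.AR α e f e' f' u u' then h.choose else 0

include D

theorem A_spec {u : V} (hu : u ∈ P.perp e f) : P.AR α e f e' f' u (A P α e f e' f' u) := by
  have h := D.exAR hu
  rw [A, dif_pos h]
  exact h.choose_spec

theorem A_eq {u u' : V} (h : P.AR α e f e' f' u u') : A P α e f e' f' u = u' := by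
  have h' : ∃ u', P.AR α e f e' f' u u' := ⟨u', h⟩
  rw [A, dif_pos h']
  exact D.AR_uniq h'.choose_spec h

theorem A_add {u w : V} (hu : u ∈ P.perp e f) (hw : w ∈ P.perp e f) :
    A P α e f e' f' (u + w) = A P α e f e' f' u + A P α e f e' f' w :=
  D.A_eq (D.AR_add (D.A_spec hu) (D.A_spec hw))

theorem A_zero : A P α e f e' f' 0 = 0 := by
  have := D.A_add (P.perp e f).zero_mem (P.perp e f).zero_mem
  rw [add_zero] at this
  simpa using this

theorem A_mem {u : V} (hu : u ∈ P.perp e f) : A P α e f e' f' u ∈ P.perp e' f' := D.AR_mem (D.A_spec hu)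

theorem A_rel {x : V} (hx : x ∈ P.perp e f) (hs : P.sg x) (h0 : x ≠ 0) :
    P.Rel α x (A P α e f e' f' x) := by
  obtain ⟨x', hx'⟩ := D.ex x hs h0
  obtain ⟨a, ha, h1, -⟩ := D.exists_root hx' hx
  rw [D.A_eq h1]
  exact hx'.sim (Sim.refl _) (Sim.smul ha)

theorem A_orth {w x : V} (hw : w ∈ P.perp e f) (hx : x ∈ P.perp e f) (hs : P.sg x) :
    P.h w x = 0 ↔ P.h (A P α e f e' f' w) (A P α e f e' f' x) = 0 := by
  by_cases h0 : x = 0
  · rw [h0, D.A_zero, P.h_zero_right, P.h_zero_right]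
  · exact D.orth_iff (D.A_spec hw) (D.A_rel hx hs h0) hx

theorem A_root {x : V} (hx : x ∈ P.perp e f) (hs : P.sg x) :
    ∃ t ∈ P.Q e, ∃ t' ∈ P.Q e', P.pm t' = α (P.pm t) ∧
      P.r t f = f + x ∧ P.r t' f' = f' + A P α e f e' f' x := by
  by_cases h0 : x = 0
  · refine ⟨1, one_mem _, 1, one_mem _, by simp, ?_, ?_⟩
    · rw [P.r_one, h0, add_zero]
    · rw [P.r_one, h0, D.A_zero, add_zero]
  · obtain ⟨x', hx'⟩ := D.ex x hs h0
    obtain ⟨a, ha, h1, t, ht, t', ht', h2, h3, h4⟩ := D.exists_root hx' hx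
    rw [D.A_eq h1]
    exact ⟨t, ht, t', ht', h2, h3, h4⟩

theorem lift_uniq {t t' : S} (ht : t ∈ P.Q e') (ht' : t' ∈ P.Q e') (h : P.pm t = P.pm t') : t = t' :=
  P.Q_lift D.he.sg' D.he.ne' ht ht' h

variable {σ : F ≃+* F} (hσ : ∀ a, σ (P.bar a) = P.bar (σ a))
  (hA : ∀ (a : F) (u : V), u ∈ P.perp e f → A P α e f e' f' (a • u) = σ a • A P α e f e' f' u)

omit D in
theorem sigma_eps : σ P.ε = P.ε := by
  have h : (P.ε - 1) * (P.ε + 1) = 0 := by linear_combination P.eps_mul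
  rcases mul_eq_zero.mp h with h | h
  · rw [sub_eq_zero.mp h, map_one]
  · rw [eq_neg_of_add_eq_zero_left h, map_neg, map_one]

include hA in
theorem exists_kx {x : V} (hx : x ∈ P.perp e f) (hs : P.sg x) (h0 : x ≠ 0) :
    ∃ k : F, k ≠ 0 ∧ ∀ w ∈ P.perp e f, P.h (A P α e f e' f' x) (A P α e f e' f' w) = k * σ (P.h x w) := by
  obtain ⟨w₀, hw₀, h1⟩ := (P.sub D.he.sg D.hf.sg D.hef).exists_opp (v := ⟨x, hx⟩) hs
    (fun h => h0 (congrArg Subtype.val h))
  have h1' : P.h x w₀ = 1 := h1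
  refine ⟨P.h (A P α e f e' f' x) (A P α e f e' f' w₀), ?_, ?_⟩
  · intro h
    rw [P.h_comm_zero, ← D.A_orth w₀.2 hx hs, P.h_comm_zero, h1'] at h
    exact one_ne_zero h
  · intro w hw
    have h2 : w + (-P.h x w) • (w₀ : V) ∈ P.perp e f :=
      (P.perp e f).add_mem hw ((P.perp e f).smul_mem _ w₀.2)
    have h3 : P.h x (w + (-P.h x w) • (w₀ : V)) = 0 := by
      rw [P.h_add_right, P.h_smul_right, h1']; ring
    rw [P.h_comm_zero, D.A_orth h2 hx hs, D.A_add hw ((P.perp e f).smul_mem _ w₀.2), hA _ _ w₀.2,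
      P.h_comm_zero, P.h_add_right, P.h_smul_right, map_neg] at h3
    linear_combination h3

include hσ hA in
theorem exists_k (hN : ∀ x ∈ P.perp e f, ∀ y ∈ P.perp e f, P.sg x → P.sg y → x ≠ 0 → y ≠ 0 →
      ∃ z ∈ P.perp e f, P.sg z ∧ P.h x z ≠ 0 ∧ P.h y z ≠ 0)
    (hne : ∃ x ∈ P.perp e f, P.sg x ∧ x ≠ 0) :
    ∃ k : F, k ≠ 0 ∧ P.bar k = k ∧ ∀ u ∈ P.perp e f, ∀ w ∈ P.perp e f,
      P.h (A P α e f e' f' u) (A P α e f e' f' w) = k * σ (P.h u w) := by
  have h1 : ∀ x ∈ P.perp e f, ∀ y ∈ P.perp e f, ∀ k l : F, P.h x y ≠ 0 →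
      (∀ w ∈ P.perp e f, P.h (A P α e f e' f' x) (A P α e f e' f' w) = k * σ (P.h x w)) →
      (∀ w ∈ P.perp e f, P.h (A P α e f e' f' y) (A P α e f e' f' w) = l * σ (P.h y w)) → l = P.bar k := by
    intro x hx y hy k l hxy h2 h3
    have h4 := h3 x hx
    rw [P.h_symm (A P α e f e' f' x), h2 y hy, P.h_symm x y, map_mul, map_mul, ← hσ, sigma_eps] at h4
    have h5 : σ (P.bar (P.h x y)) ≠ 0 := by
      rw [Ne, map_eq_zero]
      exact P.bar_ne_zero hxy
    have h6 : (l - P.bar k) * (P.ε * σ (P.bar (P.h x y))) = 0 := by linear_combination -h4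
    exact sub_eq_zero.mp ((mul_eq_zero.mp h6).resolve_right (mul_ne_zero P.eps_ne h5))
  obtain ⟨x₀, hx₀, hs₀, h₀⟩ := hne
  obtain ⟨k, hk, hkx⟩ := D.exists_kx hA hx₀ hs₀ h₀
  have h2 : ∀ y ∈ P.perp e f, P.sg y → ∀ w ∈ P.perp e f,
      P.h (A P α e f e' f' y) (A P α e f e' f' w) = k * σ (P.h y w) := by
    intro y hy hsy
    by_cases hy0 : y = 0
    · intro w hw
      rw [hy0, D.A_zero, P.h_zero_left, P.h_zero_left, map_zero, mul_zero]
    obtain ⟨z, hz, hsz, h3, h4⟩ := hN x₀ hx₀ y hy hs₀ hsy h₀ hy0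
    have hz0 : z ≠ 0 := by rintro rfl; exact h3 (P.h_zero_right _)
    obtain ⟨l, hl, hlz⟩ := D.exists_kx hA hz hsz hz0
    obtain ⟨m, hm, hmy⟩ := D.exists_kx hA hy hsy hy0
    have h5 := h1 z hz x₀ hx₀ l k (P.h_comm_ne h3) hlz hkx
    have h6 := h1 z hz y hy l m (P.h_comm_ne h4) hlz hmy
    rw [h5, ← h6]
    exact hmy
  have hbar : P.bar k = k := by
    obtain ⟨z, hz, hsz, h3, h4⟩ := hN x₀ hx₀ x₀ hx₀ hs₀ hs₀ h₀ h₀
    exact (h1 x₀ hx₀ z hz k k h3 hkx (h2 z hz hsz)).symm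
  refine ⟨k, hk, hbar, ?_⟩
  intro u hu
  have hsp := D.sp u hu
  have hle : Submodule.span F {y | y ∈ P.perp e f ∧ P.sg y} ≤ P.perp e f := by
    rw [Submodule.span_le]
    exact fun y hy => hy.1
  clear hu
  induction hsp using Submodule.span_induction with
  | mem y hy => exact h2 y hy.1 hy.2
  | zero =>
    intro w hw
    rw [D.A_zero, P.h_zero_left, P.h_zero_left, map_zero, mul_zero]
  | add x y hx hy h3 h4 =>
    intro w hw
    rw [D.A_add (hle hx) (hle hy), P.h_add_left, P.h_add_left, h3 w hw, h4 w hw, map_add, mul_add]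
  | smul a x hx h3 =>
    intro w hw
    rw [hA a x (hle hx), P.h_smul_left, P.h_smul_left, h3 w hw, map_mul, hσ]
    ring

/-- the closure argument for the coefficients. -/
theorem co_of_gen {k : F} (hk : ∀ u ∈ P.perp e f, ∀ w ∈ P.perp e f,
      P.h (A P α e f e' f' u) (A P α e f e' f' w) = k * σ (P.h u w))
    (hgen : P.Q e ≤ Subgroup.closure {t | ∃ x ∈ P.perp e f, P.sg x ∧ t ∈ P.Q e ∧ P.r t f = f + x}) :
    ∀ t ∈ P.Q e, ∀ t' ∈ P.Q e', P.pm t' = α (P.pm t) → P.co f' t' = k * σ (P.co f t) := by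
  intro t ht
  have hcl := hgen ht
  have hle : Subgroup.closure {t | ∃ x ∈ P.perp e f, P.sg x ∧ t ∈ P.Q e ∧ P.r t f = f + x} ≤ P.Q e := by
    rw [Subgroup.closure_le]
    rintro t ⟨x, _, _, h, _⟩
    exact h
  have hAuu : ∀ s ∈ P.Q e, ∀ s' ∈ P.Q e', P.pm s' = α (P.pm s) →
      A P α e f e' f' (P.uu e f s) = P.uu e' f' s' := by
    intro s hs s' hs' h
    exact D.A_eq ⟨s, hs, s', hs', h, rfl, rfl⟩
  clear ht
  induction hcl using Subgroup.closure_induction with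
  | mem t ht =>
    obtain ⟨x, hx, hs, ht, htf⟩ := ht
    intro t' ht' h
    obtain ⟨t₁, ht₁, t₁', ht₁', h1, h2, h3⟩ := D.A_root hx hs
    have h4 : t = t₁ := P.Q_ext D.hef ht ht₁ (by rw [htf, h2])
    have h5 : t' = t₁' := D.lift_uniq ht' ht₁' (by rw [h, h1, h4])
    rw [h5, h4, co, h3, P.h_add_right, P.sg_self _ D.hf.sg', (D.A_mem hx).2, co, h2, P.h_add_right,
      P.sg_self _ D.hf.sg, hx.2]
    simp
  | one =>
    intro t' ht' h
    have h5 : t' = 1 := D.lift_uniq ht' (one_mem _) (by rw [h]; simp)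
    rw [h5, co_one D.hf.sg', co_one D.hf.sg, map_zero, mul_zero]
  | mul s t hs ht h1 h2 =>
    intro t' ht' h
    obtain ⟨s₁, hs₁, h3⟩ := D.lift (hle hs)
    obtain ⟨t₁, ht₁, h4⟩ := D.lift (hle ht)
    have h5 : t' = s₁ * t₁ := D.lift_uniq ht' (mul_mem hs₁ ht₁) (by rw [h, map_mul, map_mul, map_mul, h3, h4])
    rw [h5, co_mul D.he.sg' D.hf.sg' D.hef' hs₁ ht₁, co_mul D.he.sg D.hf.sg D.hef (hle hs) (hle ht),
      h1 s₁ hs₁ h3, h2 t₁ ht₁ h4, ← hAuu s (hle hs) s₁ hs₁ h3, ← hAuu t (hle ht) t₁ ht₁ h4,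
      hk _ (P.uu_mem D.he.sg D.hf.sg D.hef _) _ (P.uu_mem D.he.sg D.hf.sg D.hef _)]
    simp only [map_sub, map_add, map_mul, sigma_eps]
    ring
  | inv s hs h1 =>
    intro t' ht' h
    have h2 : P.pm t'⁻¹ = α (P.pm s) := by rw [map_inv, h, map_inv, map_inv, inv_inv]
    have h3 := h1 t'⁻¹ (inv_mem ht') h2
    have h4 := co_mul D.he.sg' D.hf.sg' D.hef' (inv_mem ht') ht'
    have h5 := co_mul D.he.sg D.hf.sg D.hef (hle hs) (inv_mem (hle hs))
    rw [inv_mul_cancel, co_one D.hf.sg'] at h4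
    rw [mul_inv_cancel, co_one D.hf.sg] at h5
    rw [← hAuu s (hle hs) t'⁻¹ (inv_mem ht') h2, ← hAuu s⁻¹ (inv_mem (hle hs)) t' ht' h,
      hk _ (P.uu_mem D.he.sg D.hf.sg D.hef _) _ (P.uu_mem D.he.sg D.hf.sg D.hef _), h3] at h4
    have h6 := congrArg σ h5
    simp only [map_sub, map_add, map_mul, sigma_eps, map_zero] at h6
    linear_combination k * h6 - h4

/-- the semisimilarity. -/
noncomputable def g (P : PolT F V S T) (α : MulAut T) (e f e' f' : V) (σ : F ≃+* F) (k : F) (x : V) : V :=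
  σ (P.ε * P.h f x) • (k • e') + σ (P.h e x) • f' + A P α e f e' f' (P.prj e f x)

theorem g_add (k : F) (x y : V) : g P α e f e' f' σ k (x + y) = g P α e f e' f' σ k x + g P α e f e' f' σ k y := by
  rw [g, g, g, P.prj_add, D.A_add (P.prj_mem D.he.sg D.hf.sg D.hef x) (P.prj_mem D.he.sg D.hf.sg D.hef y),
    P.h_add_right, P.h_add_right, mul_add, map_add, map_add, add_smul, add_smul]
  abel

include hA in
theorem g_smul (k a : F) (x : V) : g P α e f e' f' σ k (a • x) = σ a • g P α e f e' f' σ k x := by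
  rw [g, g, P.prj_smul, hA a _ (P.prj_mem D.he.sg D.hf.sg D.hef x), P.h_smul_right, P.h_smul_right, smul_add,
    smul_add, smul_smul (σ a), smul_smul (σ a), ← map_mul, ← map_mul]
  congr 4
  ring

include hσ in
theorem g_h {k : F} (hb : P.bar k = k) (hk : ∀ u ∈ P.perp e f, ∀ w ∈ P.perp e f,
      P.h (A P α e f e' f' u) (A P α e f e' f' w) = k * σ (P.h u w)) (x y : V) :
    P.h (g P α e f e' f' σ k x) (g P α e f e' f' σ k y) = k * σ (P.h x y) := by
  have hx := P.prj_mem D.he.sg D.hf.sg D.hef x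
  have hy := P.prj_mem D.he.sg D.hf.sg D.hef y
  have hAx := D.A_mem hx
  have hAy := D.A_mem hy
  have h1 : P.h x y = P.bar (P.ε * P.h f x) * P.h e y + P.ε * (P.bar (P.h e x) * (P.ε * P.h f y)) +
      P.h (P.prj e f x) (P.prj e f y) := by
    conv_lhs => rw [P.eq_prj e f x, P.eq_prj e f y]
    simp only [P.h_add_left, P.h_add_right, P.h_smul_left, P.h_smul_right, P.sg_self e D.he.sg,
      P.sg_self f D.hf.sg, D.hef, P.h_fe D.hef, hx.1, hx.2, hy.1, hy.2, P.h_comm_zero.mp hx.1,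
      P.h_comm_zero.mp hx.2]
    ring
  rw [g, g, h1]
  simp only [P.h_add_left, P.h_add_right, P.h_smul_left, P.h_smul_right, P.sg_self e' D.he.sg',
      P.sg_self f' D.hf.sg', D.hef', P.h_fe D.hef', hAx.1, hAx.2, hAy.1, hAy.2, P.h_comm_zero.mp hAx.1,
      P.h_comm_zero.mp hAx.2, hk _ hx _ hy, map_add, map_mul, sigma_eps, P.bar_eps, hσ, hb]
  ring

theorem g_f (hA0 : A P α e f e' f' 0 = 0) (k : F) : g P α e f e' f' σ k f = f' := by
  rw [g, P.sg_self f D.hf.sg, D.hef, P.prj_f D.hf.sg D.hef, hA0]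
  simp

theorem g_e (k : F) : g P α e f e' f' σ k e = k • e' := by
  rw [g, P.h_fe D.hef, P.eps_mul, P.sg_self e D.he.sg, P.prj_e D.he.sg D.hf.sg D.hef, D.A_zero]
  simp

/-- on opposite points. -/
theorem rel_g_opp {k : F}
    (hco : ∀ t ∈ P.Q e, ∀ t' ∈ P.Q e', P.pm t' = α (P.pm t) → P.co f' t' = k * σ (P.co f t))
    {x : V} (hx : P.sg x) (hex : P.h e x = 1) : P.Rel α x (g P α e f e' f' σ k x) := by
  obtain ⟨t, ht, hr⟩ := P.exQ D.he.sg D.hf.sg hx D.hef hex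
  obtain ⟨t', ht', h⟩ := D.lift ht
  have h1 := D.hf.act h
  rw [hr] at h1
  have h2 : g P α e f e' f' σ k x = P.r t' f' := by
    rw [r_f_co D.he.sg' D.hf.sg' D.hef' ht', hco t ht t' ht' h, g, hex,
      ← D.A_eq ⟨t, ht, t', ht', h, rfl, rfl⟩, co, hr, PolG.uu, hr, map_one, one_smul, smul_smul,
      mul_comm k]
    abel
  rw [h2]
  exact h1

include hA hσ in
theorem rel_g {k : F} (hk0 : k ≠ 0) (hb : P.bar k = k) (hk : ∀ u ∈ P.perp e f, ∀ w ∈ P.perp e f,
      P.h (A P α e f e' f' u) (A P α e f e' f' w) = k * σ (P.h u w))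
    (hco : ∀ t ∈ P.Q e, ∀ t' ∈ P.Q e', P.pm t' = α (P.pm t) → P.co f' t' = k * σ (P.co f t))
    {x : V} (hx : P.sg x) (hx0 : x ≠ 0) : P.Rel α x (g P α e f e' f' σ k x) := by
  have hgh := D.g_h hσ hb hk
  have hg0 : ∀ x y, P.h (g P α e f e' f' σ k x) (g P α e f e' f' σ k y) = 0 ↔ P.h x y = 0 := by
    intro x y
    rw [hgh, mul_eq_zero, map_eq_zero]
    simp [hk0]
  have hopp : ∀ x, P.sg x → P.h e x ≠ 0 → P.Rel α x (g P α e f e' f' σ k x) := by
    intro x hx hex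
    have h1 := D.rel_g_opp hco (x := (P.h e x)⁻¹ • x) (P.sg_smul _ _ hx)
      (by rw [P.h_smul_right, inv_mul_cancel₀ hex])
    rw [D.g_smul hA, map_inv₀] at h1
    have h2 : σ (P.h e x) ≠ 0 := by rwa [Ne, map_eq_zero]
    exact h1.sim (Sim.smul (inv_ne_zero hex)).symm (Sim.smul (inv_ne_zero h2)).symm
  by_cases hex : P.h e x = 0
  swap
  · exact hopp x hx hex
  by_cases hsim : Sim F e x
  · obtain ⟨c, hc, rfl⟩ := hsim
    rw [D.g_smul hA, D.g_e]
    refine D.he.sim (Sim.smul hc) ((Sim.smul hk0).trans (Sim.smul ?_))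
    rwa [Ne, map_eq_zero]
  obtain ⟨x', hx'⟩ := D.ex x hx hx0
  have hgx0 : g P α e f e' f' σ k x ≠ 0 := by
    intro h
    refine hx0 (P.nondeg x fun y => ?_)
    rw [← hg0, h, P.h_zero_left]
  have hge : P.h e' (g P α e f e' f' σ k x) = 0 := by
    have := (hg0 e x).mpr hex
    rw [D.g_e, P.h_smul_left] at this
    exact (mul_eq_zero.mp this).resolve_left (P.bar_ne_zero hk0)
  have hex' : P.h e' x' = 0 := (D.he.perp D.big hx').mp hex
  have hkey : ∀ y', P.sg y' → P.h e' y' ≠ 0 → (P.h x' y' = 0 ↔ P.h (g P α e f e' f' σ k x) y' = 0) := by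
    intro y' hy' hey'
    have hy0 : y' ≠ 0 := by rintro rfl; exact hey' (P.h_zero_right _)
    obtain ⟨y, hy⟩ := D.ex' y' hy' hy0
    have hey : P.h e y ≠ 0 := fun h => hey' ((D.he.perp D.big hy).mp h)
    have h1 := hopp y hy.sg hey
    obtain ⟨c, hc, h2⟩ := Rel.uniq D.big h1 hy
    rw [← hx'.perp D.big hy, h2, P.h_smul_right, mul_eq_zero, hg0]
    simp [hc]
  suffices hs : Sim F x' (g P α e f e' f' σ k x) from hx'.sim (Sim.refl _) hs
  by_contra hns
  -- find a separating vector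
  have h1 : ∀ c : F, g P α e f e' f' σ k x ≠ c • x' := fun c hc => hns (sim_of_eq_smul hc hgx0)
  have h2 : ∀ c : F, e' ≠ c • x' := by
    intro c hc
    have h3 : Sim F x' e' := sim_of_eq_smul hc D.he.ne'
    exact hsim (Rel.inj D.big (D.he.sim (Sim.refl _) h3.symm) hx')
  obtain ⟨y₁, h3, h4⟩ := P.exists_sep h1
  obtain ⟨y₂, h5, h6⟩ := P.exists_sep h2
  obtain ⟨y₀, h7, h8, h9⟩ : ∃ y₀, P.h x' y₀ = 0 ∧ P.h (g P α e f e' f' σ k x) y₀ ≠ 0 ∧ P.h e' y₀ ≠ 0 := by
    by_cases h10 : P.h e' y₁ = 0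
    · by_cases h11 : P.h (g P α e f e' f' σ k x) y₂ = 0
      · refine ⟨y₁ + y₂, by rw [P.h_add_right, h4, h6, add_zero], ?_, ?_⟩
        · rw [P.h_add_right, h3, h11, add_zero]; exact one_ne_zero
        · rw [P.h_add_right, h10, h5, zero_add]; exact one_ne_zero
      · exact ⟨y₂, h6, h11, by rw [h5]; exact one_ne_zero⟩
    · exact ⟨y₁, h4, by rw [h3]; exact one_ne_zero, h10⟩
  obtain ⟨c, hc⟩ := P.sg_adj e' y₀ D.he.sg' h9
  have h10 := hkey (y₀ + c • e') hc (by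
    rw [P.h_add_right, P.h_smul_right, P.sg_self e' D.he.sg', mul_zero, add_zero]; exact h9)
  rw [P.h_add_right, P.h_smul_right, h7, P.h_comm_zero.mp hex', mul_zero, add_zero, P.h_add_right,
    P.h_smul_right, P.h_comm_zero.mp hge, mul_zero, add_zero] at h10
  exact h8 (h10.mp rfl)

include hA hσ in
/-- the main theorem. -/
theorem main {k : F} (hk0 : k ≠ 0) (hb : P.bar k = k) (hk : ∀ u ∈ P.perp e f, ∀ w ∈ P.perp e f,
      P.h (A P α e f e' f' u) (A P α e f e' f' w) = k * σ (P.h u w))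
    (hco : ∀ t ∈ P.Q e, ∀ t' ∈ P.Q e', P.pm t' = α (P.pm t) → P.co f' t' = k * σ (P.co f t))
    (hN : ∀ x y, P.sg x → P.sg y → x ≠ 0 → y ≠ 0 → ∃ z, P.sg z ∧ P.h x z ≠ 0 ∧ P.h y z ≠ 0)
    (hsp : ∀ x, x ∈ Submodule.span F {y | P.sg y})
    {s s' : S} (h : P.pm s' = α (P.pm s)) :
    ∃ c : F, c ≠ 0 ∧ ∀ x, P.r s' (g P α e f e' f' σ k x) = c • g P α e f e' f' σ k (P.r s x) := by
  have hgh := D.g_h hσ hb hk
  have h1 : ∀ x, P.sg x → x ≠ 0 → ∃ c : F, c ≠ 0 ∧
      P.r s' (g P α e f e' f' σ k x) = c • g P α e f e' f' σ k (P.r s x) := by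
    intro x hx hx0
    have h2 := (D.rel_g hσ hA hk0 hb hk hco hx hx0).act h
    have h3 := D.rel_g hσ hA hk0 hb hk hco (P.r_sg s x hx) (P.r_ne_zero s hx0)
    exact Rel.uniq D.big h3 h2
  have h2 : ∀ x y (a b : F), P.h x y ≠ 0 → P.r s' (g P α e f e' f' σ k x) = a • g P α e f e' f' σ k (P.r s x) →
      P.r s' (g P α e f e' f' σ k y) = b • g P α e f e' f' σ k (P.r s y) → P.bar a * b = 1 := by
    intro x y a b hxy h3 h4
    have h5 := P.r_h s' (g P α e f e' f' σ k x) (g P α e f e' f' σ k y)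
    rw [h3, h4, P.h_smul_left, P.h_smul_right, hgh, hgh, P.r_h] at h5
    have h6 : k * σ (P.h x y) ≠ 0 := mul_ne_zero hk0 (by rwa [Ne, map_eq_zero])
    have h7 : (P.bar a * b - 1) * (k * σ (P.h x y)) = 0 := by linear_combination h5
    exact sub_eq_zero.mp ((mul_eq_zero.mp h7).resolve_right h6)
  obtain ⟨c, hc, h3⟩ := h1 e D.he.sg D.he.ne
  refine ⟨c, hc, ?_⟩
  have h4 : ∀ y, P.sg y → P.r s' (g P α e f e' f' σ k y) = c • g P α e f e' f' σ k (P.r s y) := by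
    intro y hy
    by_cases hy0 : y = 0
    · have hg0 : g P α e f e' f' σ k 0 = 0 := by
        have := D.g_smul hA k 0 0
        rw [zero_smul, map_zero, zero_smul] at this
        exact this
      rw [hy0, map_zero, hg0, map_zero, smul_zero]
    obtain ⟨z, hz, h5, h6⟩ := hN e y D.he.sg hy D.he.ne hy0
    have hz0 : z ≠ 0 := by rintro rfl; exact h5 (P.h_zero_right _)
    obtain ⟨b, hb', h7⟩ := h1 z hz hz0
    obtain ⟨d, hd, h8⟩ := h1 y hy hy0
    have h9 := h2 z e b c (P.h_comm_ne h5) h7 h3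
    have h10 := h2 z y b d (P.h_comm_ne h6) h7 h8
    have h11 : d = c := mul_left_cancel₀ (P.bar_ne_zero hb') (by rw [h9, h10])
    rw [h8, h11]
  intro x
  induction hsp x using Submodule.span_induction with
  | mem y hy => exact h4 y hy
  | zero =>
    have hg0 : g P α e f e' f' σ k 0 = 0 := by
      have := D.g_smul hA k 0 0
      rw [zero_smul, map_zero, zero_smul] at this
      exact this
    rw [map_zero, hg0, map_zero, smul_zero]
  | add x y _ _ h5 h6 => rw [D.g_add, map_add, h5, h6, map_add, D.g_add, smul_add]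
  | smul a x _ h5 => rw [D.g_smul hA, map_smul, h5, map_smul, D.g_smul hA, smul_comm]

end Setup

end PolT

end Cfsg.Agent.H16.Ps
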