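import Cfsg.Agent.H16_Pol4

set_option autoImplicit false

/-! Polar spaces with groups: generic verification of the hypotheses. -/

namespace Cfsg.Agent.H16.Ps

open Module

namespace Pol

variable {F V : Type*} [Field F] [AddCommGroup V] [Module F V] (P : Pol F V)

/-- any two opposite points have a common opposite. -/
def Rich : Prop := ∀ x y, P.sg x → P.sg y → P.h x y ≠ 0 → ∃ z, P.sg z ∧ P.h x z ≠ 0 ∧ P.h y z ≠ 0

variable {P}

theorem Rich.common (hR : P.Rich) {x y : V} (hx : P.sg x) (hy : P.sg y) (hx0 : x ≠ 0) (hy0 : y ≠ 0) :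
    ∃ z, P.sg z ∧ P.h x z ≠ 0 ∧ P.h y z ≠ 0 := by
  by_cases h : P.h x y = 0
  · exact P.exists_common_opp_of_perp hx hx0 hy0 (P.h_comm_zero.mp h)
  · exact hR x y hx hy h

variable (P)

theorem lin_surj [Finite V] [Finite F] (φ : Dual F V) : ∃ x, ∀ y, φ y = P.h x y := by
  have hfd : FiniteDimensional F V := Module.Finite.of_finite
  have hinj : Function.Injective P.lin := by
    intro x y h
    rw [← sub_eq_zero]
    refine P.nondeg _ fun z => ?_
    rw [P.h_sub_left, ← P.lin_apply, ← P.lin_apply, h, sub_self]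
  have hfin : Finite (Dual F V) := by
    have : Finite (V → F) := inferInstance
    exact Finite.of_injective (fun φ : Dual F V => (φ : V → F)) DFunLike.coe_injective
  have hcard : Nat.card V = Nat.card (Dual F V) := by
    obtain ⟨b⟩ := (⟨Module.finBasis F V⟩ : Nonempty (Basis (Fin (finrank F V)) F V))
    exact Nat.card_congr b.toDualEquiv.toEquiv
  have hbij : Function.Bijective P.lin := by
    have e : Nonempty (V ≃ Dual F V) := Finite.card_eq.mp hcard
    obtain ⟨e⟩ := e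
    have h1 : Function.Injective (e.symm ∘ P.lin) := e.symm.injective.comp hinj
    have h2 := Finite.surjective_of_injective h1
    refine ⟨hinj, ?_⟩
    intro φ
    obtain ⟨x, hx⟩ := h2 (e.symm φ)
    exact ⟨x, e.symm.injective hx⟩
  obtain ⟨x, hx⟩ := hbij.2 φ
  exact ⟨x, fun y => by rw [← hx]; rfl⟩

/-- singular vectors span. -/
theorem span_sg [Finite V] [Finite F] {v₀ : V} (hv : P.sg v₀) (h0 : v₀ ≠ 0) (x : V) :
    x ∈ Submodule.span F {y | P.sg y} := by
  by_contra hx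
  obtain ⟨φ, h1, h2⟩ := Submodule.exists_le_ker_of_notMem hx
  obtain ⟨a, ha⟩ := P.lin_surj φ
  have h3 : ∀ y, P.sg y → P.h a y = 0 := by
    intro y hy
    rw [← ha]
    exact h2 (Submodule.subset_span hy)
  have ha0 : a ≠ 0 := by
    rintro rfl
    exact h1 (by rw [ha, P.h_zero_left])
  obtain ⟨y, hy⟩ := P.exists_h_one ha0
  by_cases h4 : P.h v₀ y = 0
  · obtain ⟨w, hw, h5⟩ := P.exists_opp hv h0
    obtain ⟨c, hc⟩ := P.sg_adj v₀ (y + w) hv (by rw [P.h_add_right, h4, h5, zero_add]; exact one_ne_zero)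
    have h6 := h3 _ hc
    rw [P.h_add_right, P.h_add_right, P.h_smul_right, hy, h3 w hw, h3 v₀ hv] at h6
    simp at h6
  · obtain ⟨c, hc⟩ := P.sg_adj v₀ y hv h4
    have h6 := h3 _ hc
    rw [P.h_add_right, P.h_smul_right, hy, h3 v₀ hv] at h6
    simp at h6

/-- singular vectors of the complement of a hyperbolic pair span it. -/
theorem span_perp [Finite V] [Finite F] {e f : V} (he : P.sg e) (hf : P.sg f) (hef : P.h e f = 1)
    (hne : ∃ x ∈ P.perp e f, P.sg x ∧ x ≠ 0) :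
    ∀ x ∈ P.perp e f, x ∈ Submodule.span F {y | y ∈ P.perp e f ∧ P.sg y} := by
  intro x hx
  obtain ⟨v, hv, hs, h0⟩ := hne
  have h1 := (P.sub he hf hef).span_sg (v₀ := ⟨v, hv⟩) hs (fun h => h0 (congrArg Subtype.val h)) ⟨x, hx⟩
  have h2 := Submodule.mem_map_of_mem (f := (P.perp e f).subtype) h1
  rw [Submodule.map_span] at h2
  refine Submodule.span_mono ?_ h2
  rintro _ ⟨y, hy, rfl⟩
  exact ⟨y.2, hy⟩

theorem finrank_perp [Finite V] [Finite F] {e f : V} (he : P.sg e) (hf : P.sg f) (hef : P.h e f = 1) :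
    finrank F (P.perp e f) + 2 = finrank F V := by
  have hfd : FiniteDimensional F V := Module.Finite.of_finite
  let φ : V →ₗ[F] (F × F) := (P.lin e).prod (P.lin f)
  have hker : LinearMap.ker φ = P.perp e f := by
    ext x
    rw [LinearMap.mem_ker, P.mem_perp]
    constructor
    · intro h
      exact ⟨congrArg Prod.fst h, congrArg Prod.snd h⟩
    · rintro ⟨h1, h2⟩
      exact Prod.ext h1 h2
  have hsurj : Function.Surjective φ := by
    rintro ⟨a, b⟩
    refine ⟨(P.ε * b) • e + a • f, ?_⟩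
    change (P.h e _, P.h f _) = (a, b)
    rw [P.h_add_right, P.h_add_right, P.h_smul_right, P.h_smul_right, P.h_smul_right, P.h_smul_right,
      P.sg_self e he, P.sg_self f hf, hef, P.h_fe hef]
    ext
    · simp
    · change P.ε * b * P.ε + a * 0 = b
      linear_combination b * P.eps_mul
  have h1 := LinearMap.finrank_range_add_finrank_ker φ
  rw [LinearMap.range_eq_top.mpr hsurj, finrank_top, hker, Module.finrank_prod, Module.finrank_self] at h1
  omega

end Pol

namespace PolG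

variable {F V S : Type*} [Field F] [AddCommGroup V] [Module F V] [Group S] {P : PolG F V S}

theorem big_of_rich (hR : P.Rich) : P.Big := by
  intro e f he hf hef
  obtain ⟨z, hz, h1, h2⟩ := hR e f he hf (by rw [hef]; exact one_ne_zero)
  refine ⟨(P.h e z)⁻¹ • z, P.sg_smul _ _ hz, by rw [P.h_smul_right, inv_mul_cancel₀ h1], ?_⟩
  intro h
  have h3 : P.h f ((P.h e z)⁻¹ • z) = 0 := by rw [h, P.sg_self f hf]
  rw [P.h_smul_right, mul_eq_zero, inv_eq_zero] at h3
  exact h3.elim h1 h2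

end PolG

namespace PolT

open Classical

variable {F V S T : Type*} [Field F] [AddCommGroup V] [Module F V] [Group S] [Group T] {P : PolT F V S T}
  {α : MulAut T} {e f e' f' : V}

/-- the radical is generated by root elements. -/
theorem gen_of (he : P.sg e) (hf : P.sg f) (hef : P.h e f = 1)
    (sp : ∀ x ∈ P.perp e f, x ∈ Submodule.span F {y | y ∈ P.perp e f ∧ P.sg y})
    (hne : ∃ x ∈ P.perp e f, P.sg x ∧ x ≠ 0)
    (hX : ∀ a : F, P.sg (f + a • e) → a = 0 ∨ ∀ x₁ ∈ P.perp e f, ∀ x₂ ∈ P.perp e f, P.sg x₁ → P.sg x₂ →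
      P.h x₁ x₂ = -(P.ε * a) → P.sg (x₁ + x₂)) :
    P.Q e ≤ Subgroup.closure {t | ∃ x ∈ P.perp e f, P.sg x ∧ t ∈ P.Q e ∧ P.r t f = f + x} := by
  set K := Subgroup.closure {t | ∃ x ∈ P.perp e f, P.sg x ∧ t ∈ P.Q e ∧ P.r t f = f + x} with hK
  have hle : K ≤ P.Q e := by
    rw [hK, Subgroup.closure_le]
    rintro t ⟨x, _, _, h, _⟩
    exact h
  have hroot : ∀ x ∈ P.perp e f, P.sg x → ∃ t ∈ K, P.r t f = f + x := by
    intro x hx hs
    obtain ⟨t, ht, h, -, -⟩ := P.exE0 he hf hef hs hx.1 hx.2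
    exact ⟨t, Subgroup.subset_closure ⟨x, hx, hs, ht, h⟩, h⟩
  have huu : ∀ x ∈ P.perp e f, ∀ t, P.r t f = f + x → P.uu e f t = x := by
    intro x hx t h
    rw [PolG.uu, h, P.prj_add, P.prj_f hf hef, zero_add, P.prj_of_mem hx.1 hx.2]
  have hco : ∀ x ∈ P.perp e f, ∀ t, P.r t f = f + x → P.co f t = 0 := by
    intro x hx t h
    rw [co, h, P.h_add_right, P.sg_self f hf, hx.2, add_zero, mul_zero]
  -- the `u`-part
  have h1 : ∀ x ∈ Submodule.span F {y | y ∈ P.perp e f ∧ P.sg y}, ∀ a : F, ∃ t ∈ K, P.uu e f t = a • x := by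
    intro x hx
    induction hx using Submodule.span_induction with
    | mem y hy =>
      intro a
      have hm := (P.perp e f).smul_mem a hy.1
      obtain ⟨t, ht, h⟩ := hroot (a • y) hm (P.sg_smul a y hy.2)
      exact ⟨t, ht, huu _ hm t h⟩
    | zero => exact fun a => ⟨1, one_mem _, by rw [P.uu_one hf hef, smul_zero]⟩
    | add x y _ _ hx hy =>
      intro a
      obtain ⟨t, ht, h⟩ := hx a
      obtain ⟨t', ht', h'⟩ := hy a
      exact ⟨t * t', mul_mem ht ht', by rw [P.uu_mul he hf hef (hle ht) (hle ht'), h, h', smul_add]⟩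
    | smul b x _ hx =>
      intro a
      obtain ⟨t, ht, h⟩ := hx (a * b)
      exact ⟨t, ht, by rw [h, smul_smul]⟩
  intro t ht
  have hu := P.uu_mem he hf hef t
  obtain ⟨t₁, ht₁, h2⟩ := h1 _ (sp _ hu) 1
  rw [one_smul] at h2
  -- the remaining part
  have h3 : t = t₁ * (t₁⁻¹ * t) := by group
  have h4 : t₁⁻¹ * t ∈ P.Q e := mul_mem (inv_mem (hle ht₁)) ht
  have h5 : P.uu e f (t₁⁻¹ * t) = 0 := by
    rw [P.uu_mul he hf hef (inv_mem (hle ht₁)) ht, P.uu_inv he hf hef (hle ht₁), h2, neg_add_cancel]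
  rw [h3]
  refine mul_mem ht₁ ?_
  set s := t₁⁻¹ * t with hs
  have h6 := r_f_co he hf hef h4
  rw [h5, add_zero] at h6
  have h7 : P.sg (f + P.co f s • e) := by rw [← h6]; exact P.r_sg s f hf
  rcases hX _ h7 with h8 | h8
  · have : s = 1 := P.Q_ext hef h4 (one_mem _) (by rw [h6, h8, zero_smul, add_zero, P.r_one])
    rw [this]
    exact one_mem _
  · obtain ⟨v, hv, hsv, hv0⟩ := hne
    obtain ⟨w, hw, hvw⟩ := (P.sub he hf hef).exists_opp (v := ⟨v, hv⟩) hsv
      (fun h => hv0 (congrArg Subtype.val h))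
    have hvw' : P.h v w = 1 := hvw
    set x₂ : V := (-(P.ε * P.co f s)) • (w : V) with hx₂
    have hx₂m : x₂ ∈ P.perp e f := (P.perp e f).smul_mem _ w.2
    have hx₂s : P.sg x₂ := P.sg_smul _ _ hw
    have h9 : P.h v x₂ = -(P.ε * P.co f s) := by rw [hx₂, P.h_smul_right, hvw', mul_one]
    have h10 : P.sg (v + x₂) := h8 v hv x₂ hx₂m hsv hx₂s h9
    have hm3 : -(v + x₂) ∈ P.perp e f := (P.perp e f).neg_mem ((P.perp e f).add_mem hv hx₂m)
    obtain ⟨a₁, ha₁, h11⟩ := hroot v hv hsv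
    obtain ⟨a₂, ha₂, h12⟩ := hroot x₂ hx₂m hx₂s
    obtain ⟨a₃, ha₃, h13⟩ := hroot (-(v + x₂)) hm3 (P.sg_neg h10)
    have h14 : s = a₁ * a₂ * a₃ := by
      refine P.Q_ext hef h4 (mul_mem (mul_mem (hle ha₁) (hle ha₂)) (hle ha₃)) ?_
      rw [h6, r_f_co he hf hef (mul_mem (mul_mem (hle ha₁) (hle ha₂)) (hle ha₃)),
        P.uu_mul he hf hef (mul_mem (hle ha₁) (hle ha₂)) (hle ha₃),
        P.uu_mul he hf hef (hle ha₁) (hle ha₂), huu _ hv _ h11, huu _ hx₂m _ h12, huu _ hm3 _ h13,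
        co_mul he hf hef (mul_mem (hle ha₁) (hle ha₂)) (hle ha₃),
        co_mul he hf hef (hle ha₁) (hle ha₂),
        P.uu_mul he hf hef (hle ha₁) (hle ha₂), huu _ hv _ h11, huu _ hx₂m _ h12, huu _ hm3 _ h13,
        hco _ hv _ h11, hco _ hx₂m _ h12, hco _ hm3 _ h13, P.h_neg_right, P.sg_self _ h10, h9]
      have h15 : (0 : F) + 0 - P.ε * -(P.ε * P.co f s) + 0 - P.ε * -0 = P.co f s := by
        linear_combination P.co f s * P.eps_mul
      rw [h15, add_neg_cancel, add_zero]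
    rw [h14]
    exact mul_mem (mul_mem ha₁ ha₂) ha₃

namespace Setup

variable (D : P.Setup α e f e' f')

include D

theorem exists_mu {x : V} (hx : x ∈ P.perp e f) (hs : P.sg x) (h0 : x ≠ 0) (a : F) :
    ∃ m : F, A P α e f e' f' (a • x) = m • A P α e f e' f' x := by
  by_cases ha : a = 0
  · exact ⟨0, by rw [ha, zero_smul, D.A_zero, zero_smul]⟩
  · have h1 := D.A_rel ((P.perp e f).smul_mem a hx) (P.sg_smul a x hs) (smul_ne_zero ha h0)
    have h2 := (D.A_rel hx hs h0).sim (Sim.smul ha) (Sim.refl _)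
    obtain ⟨c, hc, h⟩ := Rel.uniq D.big h2 h1
    exact ⟨c, h⟩

theorem mu_inj {x : V} (hx : x ∈ P.perp e f) (hs : P.sg x) (h0 : x ≠ 0) {m n : F}
    (h : m • A P α e f e' f' x = n • A P α e f e' f' x) : m = n := by
  have h1 := (D.A_rel hx hs h0).ne'
  rw [← sub_eq_zero, ← sub_smul] at h
  exact sub_eq_zero.mp ((smul_eq_zero.mp h).resolve_right h1)

/-- two independent singular vectors with singular sum scale alike. -/
theorem mu_conn {x y : V} (hx : x ∈ P.perp e f) (hy : y ∈ P.perp e f) (hsx : P.sg x) (hsy : P.sg y)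
    (hx0 : x ≠ 0) (hy0 : y ≠ 0) (hxy : ¬ Sim F x y) (hs : P.sg (x + y)) {a m : F}
    (h : A P α e f e' f' (a • x) = m • A P α e f e' f' x) : A P α e f e' f' (a • y) = m • A P α e f e' f' y := by
  have hxy0 : x + y ≠ 0 := by
    intro h
    exact hxy ⟨-1, by simp, by rw [neg_one_smul]; exact eq_neg_of_add_eq_zero_right h⟩
  obtain ⟨l, hl⟩ := D.exists_mu ((P.perp e f).add_mem hx hy) hs hxy0 a
  obtain ⟨n, hn⟩ := D.exists_mu hy hsy hy0 a
  rw [D.A_add hx hy, smul_add, D.A_add ((P.perp e f).smul_mem a hx) ((P.perp e f).smul_mem a hy), h, hn,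
    smul_add] at hl
  have h1 : (m - l) • A P α e f e' f' x = (l - n) • A P α e f e' f' y := by
    rw [sub_smul, sub_smul, sub_eq_iff_eq_add]
    have : m • A P α e f e' f' x = l • A P α e f e' f' x + l • A P α e f e' f' y - n • A P α e f e' f' y := by
      rw [← hl]; abel
    rw [this]; abel
  have hAx := D.A_rel hx hsx hx0
  have hAy := D.A_rel hy hsy hy0
  by_cases hml : m - l = 0
  · rw [hml, zero_smul] at h1
    have h2 := (smul_eq_zero.mp h1.symm).resolve_right hAy.ne'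
    rw [hn, ← sub_eq_zero.mp h2, ← sub_eq_zero.mp hml]
  · exfalso
    have h2 : A P α e f e' f' x = ((m - l)⁻¹ * (l - n)) • A P α e f e' f' y := by
      rw [← smul_smul, ← h1, smul_smul, inv_mul_cancel₀ hml, one_smul]
    have h3 : Sim F (A P α e f e' f' y) (A P α e f e' f' x) := sim_of_eq_smul h2 hAx.ne'
    exact hxy (Rel.inj D.big (hAx.sim (Sim.refl _) h3.symm) hAy)

/-- semilinearity of `A` from the constancy on opposite pairs. -/
theorem semilinear [Finite F] (hN : ∀ x ∈ P.perp e f, ∀ y ∈ P.perp e f, P.sg x → P.sg y → x ≠ 0 → y ≠ 0 →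
      ∃ z ∈ P.perp e f, P.sg z ∧ P.h x z ≠ 0 ∧ P.h y z ≠ 0)
    (hne : ∃ x ∈ P.perp e f, P.sg x ∧ x ≠ 0)
    (hE : ∀ x ∈ P.perp e f, ∀ y ∈ P.perp e f, P.sg x → P.sg y → P.h x y ≠ 0 → ∀ a m : F,
      A P α e f e' f' (a • x) = m • A P α e f e' f' x → A P α e f e' f' (a • y) = m • A P α e f e' f' y) :
    ∃ σ : F ≃+* F, ∀ (a : F) (u : V), u ∈ P.perp e f →
      A P α e f e' f' (a • u) = σ a • A P α e f e' f' u := by
  obtain ⟨x₀, hx₀, hs₀, h₀⟩ := hne
  choose μ hμ using fun a : F => D.exists_mu hx₀ hs₀ h₀ a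
  have h1 : ∀ y ∈ P.perp e f, P.sg y → ∀ a : F, A P α e f e' f' (a • y) = μ a • A P α e f e' f' y := by
    intro y hy hsy a
    by_cases hy0 : y = 0
    · rw [hy0, smul_zero, D.A_zero, smul_zero]
    obtain ⟨z, hz, hsz, h2, h3⟩ := hN x₀ hx₀ y hy hs₀ hsy h₀ hy0
    exact hE z hz y hy hsz hsy (P.h_comm_ne h3) a _ (hE x₀ hx₀ z hz hs₀ hsz h2 a _ (hμ a))
  have hadd : ∀ a b, μ (a + b) = μ a + μ b := by
    intro a b
    apply D.mu_inj hx₀ hs₀ h₀
    rw [add_smul, ← hμ, ← hμ, ← hμ, add_smul,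
      D.A_add ((P.perp e f).smul_mem a hx₀) ((P.perp e f).smul_mem b hx₀)]
  have hmul : ∀ a b, μ (a * b) = μ a * μ b := by
    intro a b
    apply D.mu_inj hx₀ hs₀ h₀
    rw [← hμ, ← smul_smul, h1 _ ((P.perp e f).smul_mem b hx₀) (P.sg_smul b _ hs₀), hμ b, smul_smul]
  have hone : μ 1 = 1 := by
    apply D.mu_inj hx₀ hs₀ h₀
    rw [← hμ, one_smul, one_smul]
  have hzero : μ 0 = 0 := by
    have := hadd 0 0
    rw [add_zero] at this
    simpa using this
  let τ : F →+* F := ⟨⟨⟨μ, hone⟩, hmul⟩, hzero, hadd⟩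
  have hbij : Function.Bijective τ := ⟨τ.injective, Finite.surjective_of_injective τ.injective⟩
  refine ⟨RingEquiv.ofBijective τ hbij, ?_⟩
  intro a u hu
  change _ = μ a • _
  have hle : Submodule.span F {y | y ∈ P.perp e f ∧ P.sg y} ≤ P.perp e f := by
    rw [Submodule.span_le]
    exact fun y hy => hy.1
  have hsp := D.sp u hu
  clear hu
  induction hsp using Submodule.span_induction generalizing a with
  | mem y hy => exact h1 y hy.1 hy.2 a
  | zero => rw [smul_zero, D.A_zero, smul_zero]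
  | add x y hx hy h2 h3 =>
    rw [smul_add, D.A_add ((P.perp e f).smul_mem a (hle hx)) ((P.perp e f).smul_mem a (hle hy)), h2, h3,
      D.A_add (hle hx) (hle hy), smul_add]
  | smul b x hx h2 => rw [smul_smul, h2, h2 b, smul_smul, hmul]

end Setup

end PolT

end Cfsg.Agent.H16.Ps
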