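import Cfsg.Agent.H16_Pol5
import Cfsg.Agent.H16_AutG

set_option autoImplicit false

/-! Polar spaces with groups: `p`-group arguments. -/

namespace Cfsg.Agent.H16.Ps

open Module

theorem scalar_pow_one {F : Type*} [Field F] {p : ℕ} [Fact p.Prime] [CharP F p] {c : F} {k : ℕ}
    (h : c ^ p ^ k = 1) : c = 1 := by
  have h1 : (c - 1) ^ p ^ k = 0 := by rw [sub_pow_char_pow, h, one_pow, sub_self]
  exact sub_eq_zero.mp (eq_zero_of_pow_eq_zero h1)

namespace PolG

variable {F V S : Type*} [Field F] [AddCommGroup V] [Module F V] [Group S] (P : PolG F V S)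
variable {p : ℕ} [Fact p.Prime] [CharP F p]

theorem r_pow (s : S) (k : ℕ) (x : V) : P.r (s ^ k) x = (P.r s ^ k) x := by rw [map_pow]

include p in
theorem pfixed [Finite V] [Finite F] (K : Subgroup S) (hK : IsPGroup p K)
    (W : Submodule F V) (hW : ∀ g ∈ K, ∀ w ∈ W, P.r g w ∈ W) (hne : ∃ w ∈ W, w ≠ 0) :
    ∃ w ∈ W, w ≠ 0 ∧ ∀ g ∈ K, P.r g w = w := by
  let act : MulAction K W :=
    { smul := fun g w => ⟨P.r g w, hW g g.2 w w.2⟩
      one_smul := fun w => Subtype.ext (P.r_one _)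
      mul_smul := fun g h w => Subtype.ext (P.r_mul _ _ _) }
  have hd : p ∣ Nat.card W := by
    obtain ⟨w, hw, hw0⟩ := hne
    have h1 : (p : ℕ) • (⟨w, hw⟩ : W) = 0 := by
      rw [← Nat.cast_smul_eq_nsmul F, CharP.cast_eq_zero, zero_smul]
    have h2 : addOrderOf (⟨w, hw⟩ : W) ∣ p := addOrderOf_dvd_of_nsmul_eq_zero h1
    have h3 : addOrderOf (⟨w, hw⟩ : W) ≠ 1 := by
      rw [Ne, AddMonoid.addOrderOf_eq_one_iff]
      exact fun h => hw0 (congrArg Subtype.val h)
    have h4 : addOrderOf (⟨w, hw⟩ : W) = p := ((Nat.dvd_prime Fact.out).mp h2).resolve_left h3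
    rw [← h4]
    exact addOrderOf_dvd_natCard _
  have h0 : (0 : W) ∈ MulAction.fixedPoints K W := by
    intro g
    apply Subtype.ext
    exact map_zero (P.r g)
  obtain ⟨b, hb, hne⟩ := hK.exists_fixed_point_of_prime_dvd_card_of_fixed_point W hd h0
  refine ⟨b, b.2, fun h => hne (Subtype.ext h.symm), fun g hg => ?_⟩
  exact congrArg Subtype.val (hb ⟨g, hg⟩)

/-- every `u ∈ V'` is the `u`-part of some element of the radical. -/
theorem exU {e f u : V} (he : P.sg e) (hf : P.sg f) (hef : P.h e f = 1) (hu : u ∈ P.perp e f) :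
    ∃ t ∈ P.Q e, P.uu e f t = u := by
  have h1 : P.h e (f + u) = 1 := by rw [P.h_add_right, hef, hu.1, add_zero]
  obtain ⟨c, hc⟩ := P.sg_adj e (f + u) he (by rw [h1]; exact one_ne_zero)
  have h2 : P.h e (f + u + c • e) = 1 := by
    rw [P.h_add_right, h1, P.h_smul_right, P.sg_self e he, mul_zero, add_zero]
  obtain ⟨t, ht, h⟩ := P.exQ he hf hc hef h2
  refine ⟨t, ht, ?_⟩
  rw [uu, h, P.prj_add, P.prj_add, P.prj_smul, P.prj_e he hf hef, P.prj_f hf hef, smul_zero, zero_add,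
    add_zero, P.prj_of_mem hu.1 hu.2]

/-- the vectors fixed by the radical. -/
theorem fixed_Q (hB : P.Big) {v y : V} (hv : P.sg v) (hv0 : v ≠ 0) (hy0 : y ≠ 0)
    (h : ∀ t ∈ P.Q v, P.r t y = y) : Sim F v y := by
  obtain ⟨f, hf, hvf⟩ := P.exists_opp hv hv0
  by_cases hvy : P.h v y = 0
  · have h1 : P.prj v f y = 0 := by
      have h2 := (P.sub hv hf hvf).nondeg' ⟨P.prj v f y, P.prj_mem hv hf hvf y⟩ (by
        rintro ⟨w, hw⟩
        change P.h w (P.prj v f y) = 0
        obtain ⟨t, ht, htw⟩ := P.exU hv hf hvf hw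
        rw [P.h_prj_right hv hf hvf hw]
        have h3 := h t ht
        obtain ⟨a, ha⟩ := P.r_f hv hf hvf ht
        rw [P.Q_act hvf ht hvy, ha, htw] at h3
        have h4 : (P.ε * P.h (f + w + a • v - f) y) • v = 0 := by
          have := sub_eq_self.mp h3
          exact this
        have h5 := (smul_eq_zero.mp h4).resolve_right hv0
        have h6 := (mul_eq_zero.mp h5).resolve_left P.eps_ne
        have h7 : f + w + a • v - f = w + a • v := by abel
        rw [h7, P.h_add_left, P.h_smul_left, hvy, mul_zero, add_zero] at h6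
        exact h6)
      exact congrArg Subtype.val h2
    have h3 := P.eq_prj v f y
    rw [h1, hvy, zero_smul, add_zero, add_zero] at h3
    exact sim_of_eq_smul h3 hy0
  · exfalso
    obtain ⟨w, hw, h1, h2⟩ := hB v f hv hf hvf
    obtain ⟨t, ht, h3⟩ := P.exQ hv hf hw hvf h1
    have h4 := P.Q_eq_one hvy ht (by rw [h t ht]; exact Sim.refl _)
    rw [h4, P.r_one] at h3
    exact h2 h3.symm

/-- the centre (in the nonabelian case) of the radical. -/
def X (v : V) : Subgroup S where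
  carrier := {s | s ∈ P.Q v ∧ ∀ x, P.h v x = 0 → P.r s x = x}
  one_mem' := ⟨one_mem _, fun x _ => P.r_one x⟩
  mul_mem' := by
    rintro s t ⟨h1, h2⟩ ⟨h3, h4⟩
    exact ⟨mul_mem h1 h3, fun x hx => by rw [P.r_mul, h4 x hx, h2 x hx]⟩
  inv_mem' := by
    rintro s ⟨h1, h2⟩
    refine ⟨inv_mem h1, fun x hx => ?_⟩
    conv_lhs => rw [← h2 x hx]
    rw [P.r_inv_r]

theorem X_le_Q (v : V) : P.X v ≤ P.Q v := fun _ h => h.1

theorem X_sim {v w : V} (h : Sim F v w) : P.X v = P.X w := by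
  have key : ∀ {v w : V}, Sim F v w → P.X v ≤ P.X w := by
    intro v w h s hs
    refine ⟨P.Q_sim h ▸ hs.1, fun x hx => hs.2 x ?_⟩
    obtain ⟨c, hc, rfl⟩ := h
    rw [P.h_smul_left] at hx
    exact (mul_eq_zero.mp hx).resolve_left (P.bar_ne_zero hc)
  exact le_antisymm (key h) (key h.symm)

theorem conj_mem_X (s : S) {t : S} {v : V} : s * t * s⁻¹ ∈ P.X (P.r s v) ↔ t ∈ P.X v := by
  have key : ∀ (s : S) {t : S} {v : V}, t ∈ P.X v → s * t * s⁻¹ ∈ P.X (P.r s v) := by
    rintro s t v ⟨h1, h2⟩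
    refine ⟨(P.conj_mem_Q s).mpr h1, fun x hx => ?_⟩
    rw [P.r_h_left] at hx
    rw [P.r_mul, P.r_mul, h2 _ hx, P.r_r_inv]
  constructor
  · intro h
    have := key s⁻¹ h
    rw [P.r_inv_r, inv_inv] at this
    have h2 : s⁻¹ * (s * t * s⁻¹) * s = t := by group
    rwa [h2] at this
  · exact key s

theorem mem_X_iff {e f : V} (he : P.sg e) (hf : P.sg f) (hef : P.h e f = 1) {t : S} (ht : t ∈ P.Q e) :
    t ∈ P.X e ↔ P.uu e f t = 0 := by
  constructor
  · intro h
    have h2 := (P.sub he hf hef).nondeg ⟨P.uu e f t, P.uu_mem he hf hef t⟩ (by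
      rintro ⟨w, hw⟩
      change P.h (P.uu e f t) w = 0
      have h3 := h.2 w hw.1
      rw [P.Q_act' he hf hef ht hw] at h3
      have h4 := sub_eq_self.mp h3
      have he0 : e ≠ 0 := by rintro rfl; rw [P.h_zero_left] at hef; exact zero_ne_one hef
      have h5 := (smul_eq_zero.mp h4).resolve_right he0
      exact (mul_eq_zero.mp h5).resolve_left P.eps_ne)
    exact congrArg Subtype.val h2
  · intro h
    refine ⟨ht, fun x hx => ?_⟩
    obtain ⟨a, ha⟩ := P.r_f he hf hef ht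
    refine P.Q_fix hef ht hx ?_
    rw [ha, h]
    have : f + 0 + a • e - f = a • e := by abel
    rw [this, P.h_smul_left, hx, mul_zero]

theorem uu_pow {e f : V} (he : P.sg e) (hf : P.sg f) (hef : P.h e f = 1) {t : S} (ht : t ∈ P.Q e) (k : ℕ) :
    P.uu e f (t ^ k) = (k : F) • P.uu e f t := by
  induction k with
  | zero => rw [pow_zero, P.uu_one hf hef, Nat.cast_zero, zero_smul]
  | succ k ih =>
    rw [pow_succ, P.uu_mul he hf hef (pow_mem ht k) ht, ih, Nat.cast_succ, add_smul, one_smul]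

theorem X_pow {e f : V} (he : P.sg e) (hf : P.sg f) (hef : P.h e f = 1) {t : S} (ht : t ∈ P.X e) {a : F}
    (h : P.r t f = f + a • e) (k : ℕ) : P.r (t ^ k) f = f + ((k : F) * a) • e := by
  induction k with
  | zero => rw [pow_zero, P.r_one, Nat.cast_zero, zero_mul, zero_smul, add_zero]
  | succ k ih =>
    rw [pow_succ', P.r_mul, ih, P.r_add, h, P.r_smul, ht.1.1, Nat.cast_succ, add_mul, one_mul, add_smul]
    abel

include p in
/-- the radical is a `p`-group. -/
theorem Q_pgroup {v : V} (hv : P.sg v) (hv0 : v ≠ 0) : IsPGroup p (P.Q v) := by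
  obtain ⟨f, hf, hvf⟩ := P.exists_opp hv hv0
  rintro ⟨t, ht⟩
  refine ⟨2, Subtype.ext ?_⟩
  change t ^ p ^ 2 = 1
  rw [sq, pow_mul]
  have h1 : t ^ p ∈ P.X v := by
    rw [P.mem_X_iff hv hf hvf (pow_mem ht p), P.uu_pow hv hf hvf ht, CharP.cast_eq_zero, zero_smul]
  obtain ⟨a, ha⟩ := P.r_f hv hf hvf (h1.1)
  rw [(P.mem_X_iff hv hf hvf h1.1).mp h1, add_zero] at ha
  refine P.Q_ext hvf (pow_mem h1.1 p) (one_mem _) ?_
  rw [P.X_pow hv hf hvf h1 ha, CharP.cast_eq_zero, zero_mul, zero_smul, add_zero, P.r_one]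

include p in
/-- a Sylow subgroup containing the radical fixes the point. -/
theorem pgroup_fix [Finite V] [Finite F] (hB : P.Big) {v : V} (hv : P.sg v) (hv0 : v ≠ 0) {K : Subgroup S}
    (hK : IsPGroup p K) (hQ : P.Q v ≤ K) : ∀ s ∈ K, P.r s v = v := by
  obtain ⟨y, -, hy0, hy⟩ := P.pfixed K hK ⊤ (fun _ _ _ _ => Submodule.mem_top) ⟨v, Submodule.mem_top, hv0⟩
  obtain ⟨c, hc, h⟩ := (P.fixed_Q hB hv hv0 hy0 (fun t ht => hy t (hQ ht))).symm
  intro s hs
  rw [h, P.r_smul, hy s hs]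

/-- the centralizer of the radical in the stabilizer of the vector. -/
theorem mem_Q_of_comm {v : V} (hv : P.sg v) (hv0 : v ≠ 0) {z : S} (hz : P.r z v = v)
    (hc : ∀ t ∈ P.Q v, z * t = t * z) : z ∈ P.Q v := by
  obtain ⟨f, hf, hvf⟩ := P.exists_opp hv hv0
  refine ⟨hz, fun y hy => ?_⟩
  have hzy : P.h v (P.r z y) = 0 := by
    have := P.r_h z v y
    rwa [hz, hy] at this
  set d := P.r z y - y with hd
  have hvd : P.h v d = 0 := by rw [hd, P.h_sub_right, hzy, hy, sub_zero]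
  have h1 : ∀ t ∈ P.Q v, P.h (P.r t f - f) d = 0 := by
    intro t ht
    have h2 : P.r z (P.r t y) = P.r t (P.r z y) := by rw [← P.r_mul, ← P.r_mul, hc t ht]
    rw [P.Q_act hvf ht hy, P.Q_act hvf ht hzy, map_sub, P.r_smul, hz] at h2
    have h3 := sub_right_inj.mp h2
    have h4 : (P.ε * P.h (P.r t f - f) d) • v = 0 := by
      rw [hd, P.h_sub_right, mul_sub, sub_smul, h3, sub_self]
    exact (mul_eq_zero.mp ((smul_eq_zero.mp h4).resolve_right hv0)).resolve_left P.eps_ne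
  have h2 : P.prj v f d = 0 := by
    have h2 := (P.sub hv hf hvf).nondeg' ⟨P.prj v f d, P.prj_mem hv hf hvf d⟩ (by
      rintro ⟨w, hw⟩
      change P.h w (P.prj v f d) = 0
      obtain ⟨t, ht, htw⟩ := P.exU hv hf hvf hw
      obtain ⟨a, ha⟩ := P.r_f hv hf hvf ht
      rw [P.h_prj_right hv hf hvf hw]
      have h3 := h1 t ht
      have h7 : f + w + a • v - f = w + a • v := by abel
      rwa [ha, htw, h7, P.h_add_left, P.h_smul_left, hvd, mul_zero, add_zero] at h3)
    exact congrArg Subtype.val h2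
  have h3 := P.eq_prj v f d
  rw [h2, hvd, zero_smul, add_zero, add_zero] at h3
  refine ⟨P.ε * P.h f d, ?_⟩
  rw [← h3, hd]
  abel

/-- `X v` is centralized by the stabilizer of the vector `v`. -/
theorem X_comm {v : V} (hv : P.sg v) (hv0 : v ≠ 0) {z s : S} (hz : z ∈ P.X v) (hs : P.r s v = v) :
    z * s = s * z := by
  obtain ⟨f, hf, hvf⟩ := P.exists_opp hv hv0
  have h1 : s * z * s⁻¹ ∈ P.X v := by
    have := (P.conj_mem_X s).mpr hz
    rwa [hs] at this
  have hs' : P.r s⁻¹ v = v := by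
    conv_lhs => rw [← hs]
    rw [P.r_inv_r]
  obtain ⟨a, ha⟩ := P.r_f hv hf hvf hz.1
  rw [(P.mem_X_iff hv hf hvf hz.1).mp hz, add_zero] at ha
  have h2 : s * z * s⁻¹ = z := by
    refine P.Q_ext hvf h1.1 hz.1 ?_
    have h3 : P.r s⁻¹ f = f + (P.r s⁻¹ f - f) := by abel
    have h4 : P.h v (P.r s⁻¹ f - f) = 0 := by
      have := P.r_h s⁻¹ v f
      rw [hs'] at this
      rw [P.h_sub_right, this, sub_self]
    rw [P.r_mul, P.r_mul, h3, P.r_add z, ha, hz.2 _ h4]
    have h5 : f + a • v + (P.r s⁻¹ f - f) = P.r s⁻¹ f + a • v := by abel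
    rw [h5, P.r_add, P.r_r_inv, P.r_smul, hs]
  calc z * s = s * z * s⁻¹ * s := by rw [h2]
    _ = s * z := by group

end PolG

end Cfsg.Agent.H16.Ps
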