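import Cfsg.Agent.H16_Pol6

set_option autoImplicit false

/-! Polar spaces with groups: largest normal `p`-subgroups of point stabilizers. -/

namespace Cfsg.Agent.H16.Ps

open Module

namespace PolG

variable {F V S : Type*} [Field F] [AddCommGroup V] [Module F V] [Group S] (P : PolG F V S)
variable {p : ℕ} [Fact p.Prime] [CharP F p]

include p in
/-- a `p`-group has fixed vectors in the quotient `W / U`. -/
theorem pfixed_quot [Finite V] [Finite F] (K : Subgroup S) (hK : IsPGroup p K)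
    (W U : Submodule F V) (hW : ∀ g ∈ K, ∀ w ∈ W, P.r g w ∈ W) (hU : ∀ g ∈ K, ∀ w ∈ U, P.r g w ∈ U)
    (hne : ∃ w ∈ W, w ∉ U) :
    ∃ w ∈ W, w ∉ U ∧ ∀ g ∈ K, P.r g w - w ∈ U := by
  let U' : Submodule F W := U.submoduleOf W
  let m : K → (W →ₗ[F] W) := fun g => (P.r g).restrict (fun w hw => hW g g.2 w hw)
  have hm : ∀ g : K, U' ≤ U'.comap (m g) := by
    intro g w hw
    exact hU g g.2 w hw
  let act : MulAction K (W ⧸ U') :=
    { smul := fun g a => U'.mapQ U' (m g) (hm g) a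
      one_smul := fun a => by
        induction a using Submodule.Quotient.induction_on with
        | H w =>
          change Submodule.Quotient.mk _ = _
          congr 1
          exact Subtype.ext (P.r_one _)
      mul_smul := fun g h a => by
        induction a using Submodule.Quotient.induction_on with
        | H w =>
          change Submodule.Quotient.mk _ = Submodule.Quotient.mk _
          congr 1
          exact Subtype.ext (P.r_mul _ _ _) }
  obtain ⟨w₀, hw₀, hw₀'⟩ := hne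
  have hd : p ∣ Nat.card (W ⧸ U') := by
    have h1 : (p : ℕ) • (Submodule.Quotient.mk ⟨w₀, hw₀⟩ : W ⧸ U') = 0 := by
      rw [← Nat.cast_smul_eq_nsmul F, CharP.cast_eq_zero, zero_smul]
    have h2 := addOrderOf_dvd_of_nsmul_eq_zero h1
    have h3 : addOrderOf (Submodule.Quotient.mk ⟨w₀, hw₀⟩ : W ⧸ U') ≠ 1 := by
      rw [Ne, AddMonoid.addOrderOf_eq_one_iff, Submodule.Quotient.mk_eq_zero]
      exact fun h => hw₀' h
    have h4 := ((Nat.dvd_prime Fact.out).mp h2).resolve_left h3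
    conv_lhs => rw [← h4]
    exact addOrderOf_dvd_natCard _
  have h0 : (0 : W ⧸ U') ∈ MulAction.fixedPoints K (W ⧸ U') := by
    intro g
    exact map_zero (U'.mapQ U' (m g) (hm g))
  have hfin : Finite (W ⧸ U') := Finite.of_surjective _ (Submodule.Quotient.mk_surjective U')
  obtain ⟨b, hb, hne⟩ := hK.exists_fixed_point_of_prime_dvd_card_of_fixed_point (W ⧸ U') hd h0
  induction b using Submodule.Quotient.induction_on with
  | H w =>
    refine ⟨w, w.2, fun h => hne ?_, fun g hg => ?_⟩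
    · symm
      rw [Submodule.Quotient.mk_eq_zero]
      exact h
    · have := hb ⟨g, hg⟩
      have h5 : (Submodule.Quotient.mk (m ⟨g, hg⟩ w) : W ⧸ U') = Submodule.Quotient.mk w := this
      rw [Submodule.Quotient.eq] at h5
      exact h5

/-- irreducibility of the stabilizer of a point on `v^⊥ / v`. -/
def Irr : Prop := ∀ v f, P.sg v → P.sg f → P.h v f = 1 → ∀ W : Submodule F V,
  (∀ s, Sim F v (P.r s v) → ∀ w ∈ W, P.r s w ∈ W) → (∃ x ∈ P.perp v f, x ∈ W ∧ x ≠ 0) → P.perp v f ≤ W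

end PolG

namespace PolT

variable {F V S T : Type*} [Field F] [AddCommGroup V] [Module F V] [Group S] [Group T] (P : PolT F V S T)
variable {p : ℕ} [Fact p.Prime] [CharP F p]

theorem r_pow_of {s t : S} {c : F} (h : ∀ x, P.r t x = c • P.r s x) (n : ℕ) (x : V) :
    P.r (t ^ n) x = c ^ n • P.r (s ^ n) x := by
  induction n generalizing x with
  | zero => simp
  | succ n ih =>
    rw [pow_succ, P.r_mul, h, P.r_smul, ih, smul_smul, pow_succ s, P.r_mul, pow_succ, mul_comm]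

include p in
theorem pm_inj_of_pow {s t : S} {k l : ℕ} (hs : s ^ p ^ k = 1) (ht : t ^ p ^ l = 1)
    (h : P.pm s = P.pm t) (hV : ∃ x : V, x ≠ 0) : s = t := by
  obtain ⟨c, hc⟩ := P.pm_eq h
  obtain ⟨x, hx⟩ := hV
  have h1 := P.r_pow_of hc (p ^ (k + l)) x
  have h2 : s ^ p ^ (k + l) = 1 := by rw [pow_add, pow_mul, hs, one_pow]
  have h3 : t ^ p ^ (k + l) = 1 := by rw [add_comm, pow_add, pow_mul, ht, one_pow]
  rw [h2, h3, P.r_one] at h1
  have h4 : (c ^ p ^ (k + l) - 1) • x = 0 := by rw [sub_smul, ← h1, one_smul, sub_self]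
  have h5 : c = 1 := scalar_pow_one (p := p) (sub_eq_zero.mp ((smul_eq_zero.mp h4).resolve_right hx))
  refine P.ext_r fun y => ?_
  rw [hc, h5, one_smul]

omit [Fact p.Prime] in
theorem exists_pow {K : Subgroup S} (hK : IsPGroup p K) {s : S} (hs : s ∈ K) : ∃ k, s ^ p ^ k = 1 := by
  obtain ⟨k, hk⟩ := hK ⟨s, hs⟩
  exact ⟨k, congrArg Subtype.val hk⟩

include P in
omit [CharP F p] in
theorem exists_lift [Finite S] (N : Subgroup T) (hN : IsPGroup p N) :
    ∃ K : Subgroup S, IsPGroup p K ∧ K.map P.pm = N := by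
  let f : N.comap P.pm →* N := P.pm.subgroupComap N
  have hf : Function.Surjective f := P.pm.subgroupComap_surjective_of_surjective N P.pm_surj
  obtain ⟨R⟩ : Nonempty (Sylow p (N.comap P.pm)) := inferInstance
  have h1 : ((R.mapSurjective hf : Sylow p N) : Subgroup N) = ⊤ := by
    have h2 : IsPGroup p (⊤ : Subgroup N) := hN.to_subgroup _
    exact ((R.mapSurjective hf).is_maximal' h2 le_top).symm
  rw [Sylow.coe_mapSurjective] at h1
  refine ⟨(R : Subgroup _).map (N.comap P.pm).subtype, R.isPGroup'.map _, ?_⟩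
  ext t
  constructor
  · rintro ⟨_, ⟨s, hs, rfl⟩, rfl⟩
    exact s.2
  · intro ht
    have h2 : (⟨t, ht⟩ : N) ∈ (R : Subgroup _).map f := by rw [h1]; exact Subgroup.mem_top _
    obtain ⟨s, hs, h3⟩ := h2
    exact ⟨s, ⟨s, hs, rfl⟩, congrArg Subtype.val h3⟩

include p in
theorem lift_normal {K : Subgroup S} (hK : IsPGroup p K) (hV : ∃ x : V, x ≠ 0) {s : S}
    (h : ∀ n ∈ K.map P.pm, (P.pm s)⁻¹ * n * P.pm s ∈ K.map P.pm) : ∀ t ∈ K, s⁻¹ * t * s ∈ K := by
  intro t ht
  obtain ⟨t₂, ht₂, h1⟩ := h (P.pm t) ⟨t, ht, rfl⟩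
  obtain ⟨k, hk⟩ := exists_pow hK ht
  obtain ⟨l, hl⟩ := exists_pow hK ht₂
  have h2 : (s⁻¹ * t * s) ^ p ^ k = 1 := by
    have h3 : s⁻¹ * t * s = s⁻¹ * t * s⁻¹⁻¹ := by rw [inv_inv]
    rw [h3, conj_pow, hk, mul_one, mul_inv_cancel]
  have h3 : s⁻¹ * t * s = t₂ := P.pm_inj_of_pow h2 hl (by rw [h1, map_mul, map_mul, map_inv]) hV
  rw [h3]
  exact ht₂

include p in
/-- normal `p`-subgroups of the stabilizer of a point lie in the radical. -/
theorem OP [Finite S] [Finite V] [Finite F] (hI : P.Irr) {v : V} (hv : P.sg v) (hv0 : v ≠ 0)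
    (N : Subgroup T) (hN : IsPGroup p N) (h1 : ∀ s, P.pm s ∈ N → Sim F v (P.r s v))
    (h2 : ∀ s, Sim F v (P.r s v) → ∀ n ∈ N, (P.pm s)⁻¹ * n * P.pm s ∈ N) : N ≤ P.QT v := by
  obtain ⟨f, hf, hvf⟩ := P.exists_opp hv hv0
  obtain ⟨K, hK, rfl⟩ := P.exists_lift N hN
  have hV : ∃ x : V, x ≠ 0 := ⟨v, hv0⟩
  have h3 : ∀ s ∈ K, P.r s v = v := by
    intro s hs
    obtain ⟨c, hc, h⟩ := h1 s ⟨s, hs, rfl⟩
    obtain ⟨k, hk⟩ := exists_pow hK hs
    have h4 : ∀ n : ℕ, P.r (s ^ n) v = c ^ n • v := by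
      intro n
      induction n with
      | zero => simp
      | succ n ih => rw [pow_succ', P.r_mul, ih, P.r_smul, h, smul_smul, pow_succ]
    have h5 := h4 (p ^ k)
    rw [hk, P.r_one] at h5
    have h6 : (c ^ p ^ k - 1) • v = 0 := by rw [sub_smul, ← h5, one_smul, sub_self]
    have h7 : c = 1 := scalar_pow_one (p := p) (sub_eq_zero.mp ((smul_eq_zero.mp h6).resolve_right hv0))
    rw [h, h7, one_smul]
  have h4 : ∀ s, Sim F v (P.r s v) → ∀ t ∈ K, s⁻¹ * t * s ∈ K :=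
    fun s hs => P.lift_normal hK hV (h2 s hs)
  let W : Submodule F V :=
    { carrier := {x | P.h v x = 0 ∧ ∀ s ∈ K, ∃ a : F, P.r s x = x + a • v}
      add_mem' := by
        rintro x y ⟨h5, h6⟩ ⟨h7, h8⟩
        refine ⟨by rw [P.h_add_right, h5, h7, add_zero], fun s hs => ?_⟩
        obtain ⟨a, ha⟩ := h6 s hs
        obtain ⟨b, hb⟩ := h8 s hs
        exact ⟨a + b, by rw [P.r_add, ha, hb, add_smul]; abel⟩
      zero_mem' := ⟨P.h_zero_right _, fun s hs => ⟨0, by simp⟩⟩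
      smul_mem' := by
        rintro c x ⟨h5, h6⟩
        refine ⟨by rw [P.h_smul_right, h5, mul_zero], fun s hs => ?_⟩
        obtain ⟨a, ha⟩ := h6 s hs
        exact ⟨c * a, by rw [P.r_smul, ha, smul_add, smul_smul]⟩ }
  have hvW : v ∈ W := ⟨P.sg_self v hv, fun s hs => ⟨0, by rw [h3 s hs, zero_smul, add_zero]⟩⟩
  have hWinv : ∀ s, Sim F v (P.r s v) → ∀ w ∈ W, P.r s w ∈ W := by
    rintro s hs w ⟨h5, h6⟩
    obtain ⟨c, hc, h7⟩ := hs
    refine ⟨?_, fun t ht => ?_⟩
    · have := P.r_h s v w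
      rw [h7, P.h_smul_left, h5] at this
      exact (mul_eq_zero.mp this).resolve_left (P.bar_ne_zero hc)
    · obtain ⟨a, ha⟩ := h6 _ (h4 s ⟨c, hc, h7⟩ t ht)
      refine ⟨a * c, ?_⟩
      have h8 : t * s = s * (s⁻¹ * t * s) := by group
      rw [← P.r_mul, h8, P.r_mul, ha, P.r_add, P.r_smul, h7, smul_smul]
  have hle : P.perp v f ≤ W := by
    by_cases hV' : ∀ x ∈ P.perp v f, x = 0
    · intro x hx
      rw [hV' x hx]
      exact W.zero_mem
    push Not at hV'
    obtain ⟨x₀, hx₀, hx₀'⟩ := hV'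
    let L : Submodule F V := LinearMap.ker (P.lin v)
    let U : Submodule F V := Submodule.span F {v}
    have hL : ∀ x, x ∈ L ↔ P.h v x = 0 := fun x => Iff.rfl
    obtain ⟨w, hw, hw', hwg⟩ := P.pfixed_quot K hK L U (by
        intro g hg w hw
        rw [hL] at hw ⊢
        have := P.r_h g v w
        rwa [h3 g hg, hw] at this) (by
        intro g hg w hw
        obtain ⟨a, rfl⟩ := Submodule.mem_span_singleton.mp hw
        rw [P.r_smul, h3 g hg]
        exact hw) ⟨x₀, hx₀.1, by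
          intro h
          obtain ⟨a, ha⟩ := Submodule.mem_span_singleton.mp h
          have h5 := hx₀.2
          rw [← ha, P.h_smul_right, P.h_fe hvf] at h5
          have h6 := (mul_eq_zero.mp h5).resolve_right P.eps_ne
          rw [h6, zero_smul] at ha
          exact hx₀' ha.symm⟩
    have hwW : w ∈ W := by
      refine ⟨hw, fun s hs => ?_⟩
      obtain ⟨a, ha⟩ := Submodule.mem_span_singleton.mp (hwg s hs)
      exact ⟨a, by rw [ha]; abel⟩
    have hwv : P.h v w = 0 := hw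
    have h5 : P.prj v f w = w - (P.ε * P.h f w) • v := by
      rw [Pol.prj, hwv, zero_smul, sub_zero]
    refine hI v f hv hf hvf W hWinv ⟨P.prj v f w, P.prj_mem hv hf hvf w, ?_, ?_⟩
    · rw [h5]
      exact W.sub_mem hwW (W.smul_mem _ hvW)
    · rw [h5]
      intro h6
      apply hw'
      rw [sub_eq_zero] at h6
      rw [h6]
      exact Submodule.smul_mem _ _ (Submodule.mem_span_singleton_self v)
  rintro _ ⟨s, hs, rfl⟩
  refine ⟨s, ⟨h3 s hs, fun x hx => ?_⟩, rfl⟩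
  have h5 := P.eq_prj v f x
  rw [hx, zero_smul, add_zero] at h5
  have h6 : x ∈ W := by
    rw [h5]
    exact W.add_mem (W.smul_mem _ hvW) (hle (P.prj_mem hv hf hvf x))
  exact h6.2 s hs

theorem QT_pgroup {v : V} (hv : P.sg v) (hv0 : v ≠ 0) : IsPGroup p (P.QT v) :=
  (P.Q_pgroup hv hv0).map _

/-- the stabilizer normalizes the radical. -/
theorem QT_normal {v : V} {s : S} (hs : Sim F v (P.r s v)) {n : T} (hn : n ∈ P.QT v) :
    (P.pm s)⁻¹ * n * P.pm s ∈ P.QT v := by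
  have h1 : n = P.pm s * ((P.pm s)⁻¹ * n * P.pm s) * (P.pm s)⁻¹ := by group
  rw [h1, P.QT_sim hs, P.conj_mem_QT] at hn
  exact hn

/-- from a stabilizer condition to `Rel`. -/
theorem rel_of_stab [Finite S] [Finite V] [Finite F] (hI : P.Irr) (α : MulAut T) {v v' : V} (hv : P.sg v)
    (hv0 : v ≠ 0) (hv' : P.sg v') (hv0' : v' ≠ 0)
    (h : ∀ s s', P.pm s' = α (P.pm s) → (Sim F v (P.r s v) ↔ Sim F v' (P.r s' v'))) : P.Rel α v v' := by
  have hp : ∃ p : ℕ, p.Prime ∧ CharP F p := by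
    obtain ⟨p, hp⟩ := CharP.exists F
    exact ⟨p, CharP.char_is_prime F p, hp⟩
  obtain ⟨p, hp1, hp2⟩ := hp
  have : Fact p.Prime := ⟨hp1⟩
  have key : ∀ (α : MulAut T) {v v' : V}, P.sg v → v ≠ 0 → P.sg v' → v' ≠ 0 →
      (∀ s s', P.pm s' = α (P.pm s) → (Sim F v (P.r s v) ↔ Sim F v' (P.r s' v'))) →
      ∀ t ∈ P.QT v, α t ∈ P.QT v' := by
    intro α v v' hv hv0 hv' hv0' h
    have h1 : (P.QT v).map α.toMonoidHom ≤ P.QT v' := by
      refine P.OP (p := p) hI hv' hv0' _ ((P.QT_pgroup hv hv0).map _) ?_ ?_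
      · intro s' hs'
        obtain ⟨_, ⟨s, hs, rfl⟩, h2⟩ := hs'
        exact (h s s' h2.symm).mp ⟨1, one_ne_zero, by rw [hs.1, one_smul]⟩
      · rintro s' hs' _ ⟨t, ht, rfl⟩
        obtain ⟨u, hu⟩ := α.surjective (P.pm s')
        obtain ⟨s, rfl⟩ := P.pm_surj u
        have h2 := (h s s' hu.symm).mpr hs'
        refine ⟨_, P.QT_normal h2 ht, ?_⟩
        change α _ = _
        rw [map_mul, map_mul, map_inv, hu]
        rfl
    intro t ht
    exact h1 ⟨t, ht, rfl⟩
  refine ⟨hv, hv0, hv', hv0', fun t => ⟨key α hv hv0 hv' hv0' h t, fun ht => ?_⟩⟩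
  have h2 := key α⁻¹ hv' hv0' hv hv0 (by
    intro s' s hs
    refine (h s s' ?_).symm
    rw [hs]
    exact (α.apply_symm_apply _).symm) (α t) ht
  have h3 : α⁻¹ (α t) = t := α.symm_apply_apply t
  rwa [h3] at h2

end PolT

end Cfsg.Agent.H16.Ps
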