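import Cfsg.Agent.H16_Pol7

set_option autoImplicit false

/-! Polar spaces with groups: Sylow centres. -/

namespace Cfsg.Agent.H16.Ps

open Module Cfsg.Agent.H16.AutG

namespace PolT

section gen

variable {F V S T : Type*} [Field F] [AddCommGroup V] [Module F V] [Group S] [Group T] (P : PolT F V S T)

def XT (v : V) : Subgroup T := (P.X v).map P.pm

theorem XT_sim {v w : V} (h : Sim F v w) : P.XT v = P.XT w := by
  rw [XT, XT, P.X_sim h]

theorem conj_mem_XT (s : S) {t : T} {v : V} : P.pm s * t * (P.pm s)⁻¹ ∈ P.XT (P.r s v) ↔ t ∈ P.XT v := by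
  constructor
  · rintro ⟨u, hu, h⟩
    refine ⟨s⁻¹ * u * s, ?_, ?_⟩
    · have := (P.conj_mem_X s⁻¹).mpr hu
      rwa [P.r_inv_r, inv_inv] at this
    · rw [map_mul, map_mul, map_inv, h]; group
  · rintro ⟨u, hu, rfl⟩
    exact ⟨s * u * s⁻¹, (P.conj_mem_X s).mpr hu, by rw [map_mul, map_mul, map_inv]⟩

theorem XT_inj (hX : ∀ v, P.sg v → v ≠ 0 → ∃ t ∈ P.X v, t ≠ 1) {x y : V} (hx : P.sg x)
    (hx0 : x ≠ 0) (hy0 : y ≠ 0) (h : P.XT x ≤ P.XT y) : Sim F x y := by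
  obtain ⟨s, hs, hs1⟩ := hX x hx hx0
  obtain ⟨t, ht, hst⟩ := h ⟨s, hs, rfl⟩
  by_cases hxy : P.h x y = 0
  · have h1 := P.inter_perp hx0 (P.h_comm_zero.mp hxy) hs.1 ht.1 hst.symm
    by_contra hne
    obtain ⟨f, hf, hxf, hyf⟩ := P.exists_opp_perp (v := x) (y := y) hx (P.h_comm_zero.mp hxy)
      (fun c hc => hne (sim_of_eq_smul hc hx0).symm)
    apply hs1
    refine P.Q_ext hxf hs.1 (one_mem _) ?_
    rw [P.r_one, h1]
    exact ht.2 f hyf
  · exact absurd (P.inter_opp hxy hs.1 ht.1 hst.symm) hs1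

theorem stab_of_XT (hX : ∀ v, P.sg v → v ≠ 0 → ∃ t ∈ P.X v, t ≠ 1) (α : MulAut T) {v v' : V} (hv : P.sg v)
    (hv0 : v ≠ 0) (hv' : P.sg v') (hv0' : v' ≠ 0) (h : ∀ t, t ∈ P.XT v ↔ α t ∈ P.XT v') :
    ∀ s s', P.pm s' = α (P.pm s) → (Sim F v (P.r s v) ↔ Sim F v' (P.r s' v')) := by
  intro s s' hs
  constructor
  · intro h1
    refine (P.XT_inj hX (P.r_sg s' _ hv') (P.r_ne_zero s' hv0') hv0' ?_).symm
    intro t ht
    obtain ⟨u, rfl⟩ : ∃ u, t = P.pm s' * u * (P.pm s')⁻¹ := ⟨(P.pm s')⁻¹ * t * P.pm s', by group⟩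
    rw [P.conj_mem_XT] at ht
    obtain ⟨u, rfl⟩ := α.surjective u
    rw [← h] at ht
    have h2 := (P.conj_mem_XT s).mpr ht
    rw [← P.XT_sim h1, h] at h2
    rwa [map_mul, map_mul, map_inv, ← hs] at h2
  · intro h1
    refine (P.XT_inj hX (P.r_sg s _ hv) (P.r_ne_zero s hv0) hv0 ?_).symm
    intro t ht
    obtain ⟨u, rfl⟩ : ∃ u, t = P.pm s * u * (P.pm s)⁻¹ := ⟨(P.pm s)⁻¹ * t * P.pm s, by group⟩
    rw [P.conj_mem_XT] at ht
    rw [h] at ht
    have h2 := (P.conj_mem_XT s').mpr ht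
    rw [← P.XT_sim h1] at h2
    rw [h, map_mul, map_mul, map_inv, ← hs]
    exact h2

end gen

section quot

variable {F V S : Type*} [Field F] [AddCommGroup V] [Module F V] [Group S]
  (P : PolT F V S (S ⧸ Subgroup.center S))
variable {p : ℕ} [Fact p.Prime] [CharP F p]

include P in
theorem coprime_center [Finite S] (hpm : ∀ s, P.pm s = QuotientGroup.mk s) (hV : ∃ x : V, x ≠ 0) :
    p.Coprime (Nat.card (Subgroup.center S)) := by
  rw [Nat.Prime.coprime_iff_not_dvd Fact.out]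
  intro h
  obtain ⟨x, hx⟩ := exists_prime_orderOf_dvd_card' p h
  have h1 : (x : S) ^ p = 1 := by
    have := pow_orderOf_eq_one x
    rw [hx] at this
    exact congrArg Subtype.val this
  have h2 : (x : S) = 1 := by
    refine P.pm_inj_of_pow (p := p) (k := 1) (l := 0) (by rw [pow_one]; exact h1) (one_pow _) ?_ hV
    rw [map_one, hpm]
    exact (QuotientGroup.eq_one_iff _).mpr x.2
  have h3 : x = 1 := Subtype.ext h2
  rw [h3, orderOf_one] at hx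
  exact (Fact.out : p.Prime).one_lt.ne hx

include p in
theorem zc_eq [Finite V] [Finite F] (hpm : ∀ s, P.pm s = QuotientGroup.mk s) (hB : P.Big)
    (hcomm : ∀ v, P.sg v → v ≠ 0 → ∀ t ∈ P.Q v, (∀ s ∈ P.Q v, t * s = s * t) → t ∈ P.X v)
    {v : V} (hv : P.sg v) (hv0 : v ≠ 0) {K : Subgroup S} (hK : IsPGroup p K) (hQ : P.Q v ≤ K)
    (t : S ⧸ Subgroup.center S) : t ∈ zc K ↔ t ∈ P.XT v := by
  have h1 := P.pgroup_fix hB hv hv0 hK hQ
  constructor
  · rintro ⟨z, hz, hzc, rfl⟩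
    refine ⟨z, ?_, hpm z⟩
    have h2 := P.mem_Q_of_comm hv hv0 (h1 z hz) (fun t ht => hzc t (hQ ht))
    exact hcomm v hv hv0 z h2 (fun s hs => hzc s (hQ hs))
  · rintro ⟨z, hz, rfl⟩
    exact ⟨z, hQ hz.1, fun g hg => P.X_comm hv hv0 hz (h1 g hg), hpm z⟩

include p in
theorem exists_XT [Finite S] [Finite V] [Finite F] (hpm : ∀ s, P.pm s = QuotientGroup.mk s) (hB : P.Big)
    (hcomm : ∀ v, P.sg v → v ≠ 0 → ∀ t ∈ P.Q v, (∀ s ∈ P.Q v, t * s = s * t) → t ∈ P.X v)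
    (α : MulAut (S ⧸ Subgroup.center S)) {v : V} (hv : P.sg v) (hv0 : v ≠ 0) :
    ∃ v', P.sg v' ∧ v' ≠ 0 ∧ ∀ t, t ∈ P.XT v ↔ α t ∈ P.XT v' := by
  obtain ⟨K, hK⟩ := (P.Q_pgroup (p := p) hv hv0).exists_le_sylow
  obtain ⟨K', hK'⟩ := exists_zc (P.coprime_center (p := p) hpm ⟨v, hv0⟩) α K
  obtain ⟨g, rfl⟩ := MulAction.exists_smul_eq S K K'
  refine ⟨P.r g v, P.r_sg g v hv, P.r_ne_zero g hv0, fun t => ?_⟩
  rw [← P.zc_eq (p := p) hpm hB hcomm hv hv0 K.isPGroup' hK, hK',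
    P.zc_eq (p := p) hpm hB hcomm (P.r_sg g v hv) (P.r_ne_zero g hv0) (g • K).isPGroup' ?_]
  intro s hs
  rw [Sylow.coe_subgroup_smul, Subgroup.mem_pointwise_smul_iff_inv_smul_mem]
  apply hK
  have := (P.conj_mem_Q g⁻¹).mpr hs
  rw [P.r_inv_r] at this
  have h2 : (MulAut.conj g)⁻¹ • s = g⁻¹ * s * g⁻¹⁻¹ := by
    rw [← map_inv, MulAut.smul_def, MulAut.conj_apply]
  rw [h2]
  exact this

/-- every automorphism permutes the points, symplectic (odd) and unitary case. -/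
theorem exists_rel_of_sylow [Finite S] [Finite V] [Finite F] (hpm : ∀ s, P.pm s = QuotientGroup.mk s) (hB : P.Big)
    (hX : ∀ v, P.sg v → v ≠ 0 → ∃ t ∈ P.X v, t ≠ 1)
    (hcomm : ∀ v, P.sg v → v ≠ 0 → ∀ t ∈ P.Q v, (∀ s ∈ P.Q v, t * s = s * t) → t ∈ P.X v)
    (hI : P.Irr) (α : MulAut (S ⧸ Subgroup.center S)) {v : V} (hv : P.sg v) (hv0 : v ≠ 0) :
    ∃ v', P.Rel α v v' := by
  obtain ⟨p, hp⟩ := CharP.exists F
  have : Fact p.Prime := ⟨CharP.char_is_prime F p⟩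
  obtain ⟨v', hv', hv0', h⟩ := P.exists_XT (p := p) hpm hB hcomm α hv hv0
  exact ⟨v', P.rel_of_stab hI α hv hv0 hv' hv0' (P.stab_of_XT hX α hv hv0 hv' hv0' h)⟩

end quot

end PolT

namespace PolG

variable {F V S : Type*} [Field F] [AddCommGroup V] [Module F V] [Group S] (P : PolG F V S)

/-- irreducibility, using that singular vectors of `V'` are permuted transitively. -/
theorem irr_of [Finite V] [Finite F] (hne : ∀ v f, P.sg v → P.sg f → P.h v f = 1 → ∃ x ∈ P.perp v f, P.sg x ∧ x ≠ 0)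
    (hN : ∀ v f, P.sg v → P.sg f → P.h v f = 1 → ∀ x ∈ P.perp v f, ∀ y ∈ P.perp v f,
      P.sg x → P.sg y → x ≠ 0 → y ≠ 0 → ∃ z ∈ P.perp v f, P.sg z ∧ P.h x z ≠ 0 ∧ P.h y z ≠ 0)
    (hmv : ∀ v f, P.sg v → P.sg f → P.h v f = 1 → ∀ W : Submodule F V,
      (∀ s, Sim F v (P.r s v) → ∀ w ∈ W, P.r s w ∈ W) → ∀ x ∈ P.perp v f, x ∈ W → x ≠ 0 →
        ∃ y ∈ P.perp v f, y ∈ W ∧ P.sg y ∧ y ≠ 0) : P.Irr := by
  intro v f hv hf hvf W hW hex
  obtain ⟨x, hx, hxW, hx0⟩ := hex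
  obtain ⟨y, hy, hyW, hsy, hy0⟩ := hmv v f hv hf hvf W hW x hx hxW hx0
  have h1 : ∀ z ∈ P.perp v f, P.sg z → z ∈ W := by
    intro z hz hsz
    by_cases hz0 : z = 0
    · rw [hz0]; exact W.zero_mem
    obtain ⟨u, hu, hsu, h1, h2⟩ := hN v f hv hf hvf y hy z hz hsy hsz hy0 hz0
    have h1' := P.h_comm_ne h1
    have h2' := P.h_comm_ne h2
    set y' := (P.h u y)⁻¹ • y with hy'
    set z' := (P.h u z)⁻¹ • z with hz'
    have h3 : P.h u y' = 1 := by rw [hy', P.h_smul_right, inv_mul_cancel₀ h1']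
    have h4 : P.h u z' = 1 := by rw [hz', P.h_smul_right, inv_mul_cancel₀ h2']
    obtain ⟨s, hs, h5⟩ := P.exQ hsu (P.sg_smul _ _ hsy) (P.sg_smul _ _ hsz) h3 h4
    have hy'm : y' ∈ P.perp v f := (P.perp v f).smul_mem _ hy
    have hz'm : z' ∈ P.perp v f := (P.perp v f).smul_mem _ hz
    have h6 : P.r s v = v := by
      refine P.Q_fix h3 hs (P.h_comm_zero.mp hu.1) ?_
      rw [h5, P.h_sub_left, P.h_comm_zero.mp hz'm.1, P.h_comm_zero.mp hy'm.1, sub_zero]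
    have h7 : z' ∈ W := by
      rw [hz', ← h5]
      exact hW s (by rw [h6]; exact Sim.refl v) _ (W.smul_mem _ hyW)
    have h8 : z = P.h u z • z' := by rw [hz', smul_smul, mul_inv_cancel₀ h2', one_smul]
    rw [h8]
    exact W.smul_mem _ h7
  intro z hz
  have h2 := P.span_perp hv hf hvf (hne v f hv hf hvf) z hz
  refine (Submodule.span_le (p := W)).mpr ?_ h2
  rintro w ⟨hw, hsw⟩
  exact h1 w hw hsw

/-- the moving condition, when there are transvections. -/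
theorem mv_of_X [Finite V] [Finite F] (hX : ∀ v, P.sg v → v ≠ 0 → ∃ t ∈ P.X v, t ≠ 1)
    (hne : ∀ v f, P.sg v → P.sg f → P.h v f = 1 → ∃ x ∈ P.perp v f, P.sg x ∧ x ≠ 0) :
    ∀ v f, P.sg v → P.sg f → P.h v f = 1 → ∀ W : Submodule F V,
      (∀ s, Sim F v (P.r s v) → ∀ w ∈ W, P.r s w ∈ W) → ∀ x ∈ P.perp v f, x ∈ W → x ≠ 0 →
        ∃ y ∈ P.perp v f, y ∈ W ∧ P.sg y ∧ y ≠ 0 := by
  intro v f hv hf hvf W hW x hx hxW hx0
  -- a singular vector not orthogonal to `x`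
  obtain ⟨y, hy, hsy, hyx⟩ : ∃ y ∈ P.perp v f, P.sg y ∧ P.h x y ≠ 0 := by
    by_contra hcon
    push Not at hcon
    refine hx0 ?_
    have h1 : ∀ z ∈ P.perp v f, P.h x z = 0 := by
      intro z hz
      have hsp := P.span_perp hv hf hvf (hne v f hv hf hvf) z hz
      clear hz
      induction hsp using Submodule.span_induction with
      | mem y hy => exact hcon y hy.1 hy.2
      | zero => exact P.h_zero_right _
      | add x y _ _ h1 h2 => rw [P.h_add_right, h1, h2, add_zero]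
      | smul a x _ h1 => rw [P.h_smul_right, h1, mul_zero]
    have h2 := (P.sub hv hf hvf).nondeg ⟨x, hx⟩ (fun y => h1 y y.2)
    exact congrArg Subtype.val h2
  have hy0 : y ≠ 0 := by rintro rfl; exact hyx (P.h_zero_right _)
  have hyx' := P.h_comm_ne hyx
  obtain ⟨t, ht, ht1⟩ := hX y hsy hy0
  obtain ⟨g, hg, hyg⟩ := P.exists_opp hsy hy0
  obtain ⟨a, ha⟩ := P.r_f hsy hg hyg ht.1
  rw [(P.mem_X_iff hsy hg hyg ht.1).mp ht, add_zero] at ha
  have ha0 : a ≠ 0 := by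
    rintro rfl
    rw [zero_smul, add_zero] at ha
    exact ht1 (P.Q_ext hyg ht.1 (one_mem _) (by rw [ha, P.r_one]))
  refine ⟨y, hy, ?_, hsy, hy0⟩
  have h1 : P.r t x = x + (P.h y x * a) • y := by
    have h2 : x = (x - P.h y x • g) + P.h y x • g := by abel
    have h3 : P.h y (x - P.h y x • g) = 0 := by rw [P.h_sub_right, P.h_smul_right, hyg, mul_one, sub_self]
    conv_lhs => rw [h2]
    rw [P.r_add, P.r_smul, ha, ht.2 _ h3, smul_add, smul_smul]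
    abel
  have h2 : P.r t v = v := ht.2 v (P.h_comm_zero.mp hy.1)
  have h3 := hW t (by rw [h2]; exact Sim.refl v) x hxW
  rw [h1] at h3
  have h4 : (P.h y x * a) • y ∈ W := by
    have := W.sub_mem h3 hxW
    rwa [add_sub_cancel_left] at this
  have h5 := W.smul_mem (P.h y x * a)⁻¹ h4
  rwa [smul_smul, inv_mul_cancel₀ (mul_ne_zero hyx' ha0), one_smul] at h5

end PolG

end Cfsg.Agent.H16.Ps
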