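import Cfsg.Agent.H16_Pol8

set_option autoImplicit false

/-! Polar spaces with groups: the centre; the central quotient. -/

namespace Cfsg.Agent.H16.Ps

open Module

namespace PolG

variable {F V S : Type*} [Field F] [AddCommGroup V] [Module F V] [Group S] (P : PolG F V S)

theorem Q_inj (hB : P.Big) {x y : V} (hx : P.sg x) (hy : P.sg y) (hx0 : x ≠ 0) (hy0 : y ≠ 0)
    (h : P.Q x ≤ P.Q y) : Sim F x y := by
  by_contra hne
  by_cases hxy : P.h x y = 0
  · obtain ⟨f, hf, hxf, hyf⟩ := P.exists_opp_perp (v := x) (y := y) hx (P.h_comm_zero.mp hxy)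
      (fun c hc => hne (sim_of_eq_smul hc hx0).symm)
    have hfy : P.h f y = 0 := P.h_comm_zero.mp hyf
    obtain ⟨w, hw, hyw⟩ := (P.sub hx hf hxf).exists_opp (v := ⟨y, ⟨hxy, hfy⟩⟩) hy (by
      intro h; exact hy0 (congrArg Subtype.val h))
    obtain ⟨s, hs, -, -, hact⟩ := P.exE0 hx hf hxf hw w.2.1 w.2.2
    have h1 := hact y
    rw [(h hs).1, hxy, zero_smul, add_zero] at h1
    have hyw' : P.h y w = 1 := hyw
    have h2 : P.h w y = P.ε := by rw [P.h_symm y w, hyw', map_one, mul_one]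
    rw [h2, P.eps_mul, one_smul] at h1
    exact hx0 (sub_eq_self.mp h1.symm)
  · have h1 : P.h x ((P.h x y)⁻¹ • y) = 1 := by rw [P.h_smul_right, inv_mul_cancel₀ hxy]
    obtain ⟨w, hw, hxw, hwf⟩ := hB x ((P.h x y)⁻¹ • y) hx (P.sg_smul _ _ hy) h1
    obtain ⟨s, hs, hsw⟩ := P.exQ hx (P.sg_smul _ _ hy) hw h1 hxw
    have h2 := P.Q_eq_one hxy hs (by rw [(h hs).1]; exact Sim.refl y)
    rw [h2, P.r_one] at hsw
    exact hwf hsw.symm

/-- an element fixing all singular points is scalar. -/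
theorem scalar_of_fix (hR : P.Rich) (hsp : ∀ x, x ∈ Submodule.span F {y | P.sg y}) (hne : ∃ x, P.sg x ∧ x ≠ 0)
    {s : S} (h : ∀ x, P.sg x → x ≠ 0 → Sim F x (P.r s x)) : ∃ c : F, ∀ x, P.r s x = c • x := by
  obtain ⟨x₀, hx₀, h₀⟩ := hne
  have h2 : ∀ x y (a b : F), P.h x y ≠ 0 → P.r s x = a • x → P.r s y = b • y → P.bar a * b = 1 := by
    intro x y a b hxy h3 h4
    have h5 := P.r_h s x y
    rw [h3, h4, P.h_smul_left, P.h_smul_right] at h5
    have h7 : (P.bar a * b - 1) * P.h x y = 0 := by linear_combination h5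
    exact sub_eq_zero.mp ((mul_eq_zero.mp h7).resolve_right hxy)
  obtain ⟨c, hc, h3⟩ := h x₀ hx₀ h₀
  refine ⟨c, ?_⟩
  have h4 : ∀ y, P.sg y → P.r s y = c • y := by
    intro y hy
    by_cases hy0 : y = 0
    · rw [hy0, map_zero, smul_zero]
    obtain ⟨z, hz, h5, h6⟩ := Pol.Rich.common hR hx₀ hy h₀ hy0
    have hz0 : z ≠ 0 := by rintro rfl; exact h5 (P.h_zero_right _)
    obtain ⟨b, hb', h7⟩ := h z hz hz0
    obtain ⟨d, hd, h8⟩ := h y hy hy0
    have h9 := h2 z x₀ b c (P.h_comm_ne h5) h7 h3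
    have h10 := h2 z y b d (P.h_comm_ne h6) h7 h8
    have h11 : d = c := mul_left_cancel₀ (P.bar_ne_zero hb') (by rw [h9, h10])
    rw [h8, h11]
  intro x
  induction hsp x using Submodule.span_induction with
  | mem y hy => exact h4 y hy
  | zero => rw [map_zero, smul_zero]
  | add x y _ _ h5 h6 => rw [map_add, h5, h6, smul_add]
  | smul a x _ h5 => rw [map_smul, h5, smul_comm]

theorem center_iff (hR : P.Rich) (hsp : ∀ x, x ∈ Submodule.span F {y | P.sg y}) (hne : ∃ x, P.sg x ∧ x ≠ 0)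
    {s : S} : s ∈ Subgroup.center S ↔ ∃ c : F, ∀ x, P.r s x = c • x := by
  constructor
  · intro hs
    apply P.scalar_of_fix hR hsp hne
    intro x hx hx0
    apply P.Q_inj (big_of_rich hR) hx (P.r_sg s x hx) hx0 (P.r_ne_zero s hx0)
    intro t ht
    have h1 := (P.conj_mem_Q s).mpr ht
    have h2 : s * t * s⁻¹ = t := by rw [← Subgroup.mem_center_iff.mp hs t, mul_inv_cancel_right]
    rwa [h2] at h1
  · rintro ⟨c, hc⟩
    rw [Subgroup.mem_center_iff]
    intro t
    apply P.ext_r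
    intro x
    rw [P.r_mul, P.r_mul, hc, hc, P.r_smul]

/-- the projective version. -/
def toT (hR : P.Rich) (hsp : ∀ x, x ∈ Submodule.span F {y | P.sg y}) (hne : ∃ x, P.sg x ∧ x ≠ 0) :
    PolT F V S (S ⧸ Subgroup.center S) where
  toPolG := P
  pm := QuotientGroup.mk' _
  pm_surj := QuotientGroup.mk'_surjective _
  ker_iff s := by
    rw [← P.center_iff hR hsp hne]
    exact QuotientGroup.eq_one_iff s

end PolG

end Cfsg.Agent.H16.Ps
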