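import Cfsg.Agent.H5_Unit

/-! Elements of order 7 in SL(4,9). -/

set_option autoImplicit false
set_option linter.style.haveILetI false

namespace Cfsg.Agent.H16.U43

open Module

variable {K : Type*} [Field K] [Fintype K]

theorem three_zero (hK : Fintype.card K = 9) : (3 : K) = 0 := by
  have h1 : ((Fintype.card K : ℕ) : K) = 0 := FiniteField.cast_card_eq_zero K
  rw [hK] at h1
  have h2 : (3 : K) * 3 = 0 := by
    push_cast at h1
    linear_combination h1
  exact mul_self_eq_zero.1 h2

theorem inv_dim (hK : Fintype.card K = 9) {V : Type*} [AddCommGroup V] [Module K V] [FiniteDimensional K V] (hV : finrank K V = 4)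
    (T : Module.End K V) (hT : T ^ 7 = 1) (U : Submodule K V) (hU : ∀ u ∈ U, T u ∈ U) (hfix : ∀ u ∈ U, T u = u → u = 0) :
    finrank K U = 0 ∨ finrank K U = 3 := by
  classical
  haveI : Finite V := Module.finite_of_finite K
  haveI : Fintype U := Fintype.ofFinite _
  haveI : Fact (Nat.Prime 7) := ⟨by norm_num⟩
  let f : Function.End U := fun u => ⟨T u, hU u u.2⟩
  have hfn : ∀ n : ℕ, ∀ u : U, ((f ^ n) u : V) = (T ^ n) u := by
    intro n
    induction n with
    | zero => intro u; rfl
    | succ n ih =>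
      intro u
      rw [pow_succ', pow_succ', Module.End.mul_apply]
      change T ((f ^ n) u : V) = _
      rw [ih]
  have hf : f ^ 7 ^ 1 = 1 := by
    funext u
    apply Subtype.ext
    rw [pow_one, hfn, hT]
    rfl
  have h1 := Equiv.Perm.card_fixedPoints_modEq hf
  have h2 : Fintype.card f.fixedPoints = 1 := by
    rw [Fintype.card_eq_one_iff]
    refine ⟨⟨0, ?_⟩, ?_⟩
    · apply Subtype.ext
      exact map_zero T
    · rintro ⟨u, hu⟩
      apply Subtype.ext
      apply Subtype.ext
      exact hfix u u.2 (congrArg Subtype.val hu)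
  have h3 : Fintype.card U = 9 ^ finrank K U := by rw [Module.card_eq_pow_finrank (K := K), hK]
  have h4 : finrank K U ≤ 4 := hV ▸ Submodule.finrank_le U
  rw [h2, h3] at h1
  generalize finrank K U = d at h1 h4
  interval_cases d
  · left; rfl
  · exfalso; revert h1; decide
  · exfalso; revert h1; decide
  · right; rfl
  · exfalso; revert h1; decide

/-- the norm -/
def NN {V : Type*} [AddCommGroup V] [Module K V] (T : Module.End K V) : Module.End K V := ∑ i ∈ Finset.range 7, T ^ i

theorem NN_fix (hK : Fintype.card K = 9) {V : Type*} [AddCommGroup V] [Module K V] {T : Module.End K V} {v : V} (h : T v = v) : NN T v = v := by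
  have h1 : ∀ n : ℕ, (T ^ n) v = v := by
    intro n
    induction n with
    | zero => rfl
    | succ n ih => rw [pow_succ, Module.End.mul_apply, h, ih]
  rw [NN, LinearMap.sum_apply, Finset.sum_congr rfl (fun i _ => h1 i), Finset.sum_const, Finset.card_range, ← Nat.cast_smul_eq_nsmul K]
  have h2 : ((7 : ℕ) : K) = 1 := by
    push_cast
    linear_combination 2 * three_zero hK
  rw [h2, one_smul]

theorem T_NN {V : Type*} [AddCommGroup V] [Module K V] {T : Module.End K V} (hT : T ^ 7 = 1) (v : V) : T (NN T v) = NN T v := by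
  have h1 : (T - 1) * NN T = 0 := by rw [NN, mul_geom_sum, hT, sub_self]
  have h2 := LinearMap.congr_fun h1 v
  rw [Module.End.mul_apply, LinearMap.sub_apply] at h2
  exact sub_eq_zero.1 h2

theorem NN_comm {V : Type*} [AddCommGroup V] [Module K V] {T g : Module.End K V} (h : Commute g T) : Commute g (NN T) :=
  Commute.sum_right _ _ _ fun i _ => h.pow_right i

theorem finrank_W (hK : Fintype.card K = 9) {T : Module.End K (Fin 4 → K)} (hT : T ^ 7 = 1) (hT1 : T ≠ 1) :
    finrank K (LinearMap.ker (NN T)) = 3 := by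
  rcases inv_dim hK (by rw [Module.finrank_pi, Fintype.card_fin]) T hT (LinearMap.ker (NN T)) (by
    intro u hu
    rw [LinearMap.mem_ker] at hu ⊢
    have h1 := (NN_comm (Commute.refl T)).eq
    have h2 := LinearMap.congr_fun h1 u
    rw [Module.End.mul_apply, Module.End.mul_apply, hu, map_zero] at h2
    exact h2.symm) (by
    intro u hu h
    rw [LinearMap.mem_ker] at hu
    rw [← NN_fix hK h, hu]) with h | h
  · exfalso
    apply hT1
    rw [Submodule.finrank_eq_zero] at h
    apply LinearMap.ext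
    intro v
    have h1 : v - NN T v ∈ LinearMap.ker (NN T) := by
      rw [LinearMap.mem_ker, map_sub, NN_fix hK (T_NN hT v), sub_self]
    rw [h, Submodule.mem_bot, sub_eq_zero] at h1
    rw [h1, T_NN hT]
    rfl
  · exact h

theorem free (hK : Fintype.card K = 9) {T g : Module.End K (Fin 4 → K)} (hT : T ^ 7 = 1) (hT1 : T ≠ 1) (hg : Commute g T)
    (hdet : LinearMap.det g = 1) {w : Fin 4 → K} (hw : NN T w = 0) (hw0 : w ≠ 0) (hgw : g w = w) : g = 1 := by
  classical
  have hgT : ∀ v, g (T v) = T (g v) := fun v => LinearMap.congr_fun hg.eq v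
  have hTN : ∀ v, T (NN T v) = NN T (T v) := fun v => LinearMap.congr_fun (NN_comm (Commute.refl T)).eq v
  have hgN : ∀ v, g (NN T v) = NN T (g v) := fun v => LinearMap.congr_fun (NN_comm hg).eq v
  have hNN : ∀ v, NN T (NN T v) = NN T v := fun v => NN_fix hK (T_NN hT v)
  have hW3 := finrank_W hK hT hT1
  have hfr : finrank K (Fin 4 → K) = 4 := by rw [Module.finrank_pi, Fintype.card_fin]
  set U : Submodule K (Fin 4 → K) := LinearMap.ker (NN T) ⊓ LinearMap.ker (g - 1) with hU
  have hmU : ∀ u, u ∈ U ↔ NN T u = 0 ∧ g u = u := by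
    intro u
    rw [hU, Submodule.mem_inf, LinearMap.mem_ker, LinearMap.mem_ker, LinearMap.sub_apply, sub_eq_zero]
    rfl
  have hUW : U = LinearMap.ker (NN T) := by
    apply Submodule.eq_of_le_of_finrank_eq inf_le_left
    rw [hW3]
    rcases inv_dim hK hfr T hT U (by
      intro u hu
      rw [hmU] at hu ⊢
      rw [← hTN, hu.1, map_zero, hgT, hu.2]
      exact ⟨rfl, rfl⟩) (by
      intro u hu h
      rw [hmU] at hu
      rw [← NN_fix hK h, hu.1]) with h | h
    · exfalso
      rw [Submodule.finrank_eq_zero] at h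
      have h1 : w ∈ U := (hmU w).2 ⟨hw, hgw⟩
      rw [h, Submodule.mem_bot] at h1
      exact hw0 h1
    · exact h
  have hgW : ∀ u, NN T u = 0 → g u = u := by
    intro u hu
    have h1 : u ∈ U := by rw [hUW]; exact hu
    exact ((hmU u).1 h1).2
  have hr : finrank K (LinearMap.range (NN T)) = 1 := by
    have h1 := LinearMap.finrank_range_add_finrank_ker (NN T)
    rw [hW3, hfr] at h1
    omega
  obtain ⟨⟨v0, hv0⟩, hv00, hv1⟩ := finrank_eq_one_iff'.1 hr
  have hv00' : v0 ≠ 0 := fun h => hv00 (Subtype.ext h)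
  obtain ⟨i, hi⟩ := Function.ne_iff.1 hv00'
  rw [Pi.zero_apply] at hi
  let φ : Module.Dual K (Fin 4 → K) := ((v0 i)⁻¹ • LinearMap.proj i).comp (NN T)
  have hφ : ∀ v, φ v = (v0 i)⁻¹ * (NN T v) i := fun v => rfl
  have hNφ : ∀ v, NN T v = φ v • v0 := by
    intro v
    obtain ⟨c, hc⟩ := hv1 ⟨NN T v, LinearMap.mem_range_self _ _⟩
    have hc' : c • v0 = NN T v := congrArg Subtype.val hc
    rw [hφ, ← hc', Pi.smul_apply, smul_eq_mul, mul_left_comm, inv_mul_cancel₀ hi, mul_one]
  have hN0 : NN T v0 = v0 := by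
    obtain ⟨y, rfl⟩ := hv0
    exact hNN y
  have hφ0 : φ v0 = 1 := by rw [hφ, hN0, inv_mul_cancel₀ hi]
  set μ := φ (g v0) with hμ
  have hgv0 : g v0 = μ • v0 := by
    rw [hμ, ← hNφ, ← hgN, hN0]
  have hgt : g = LinearMap.transvection φ ((μ - 1) • v0) := by
    apply LinearMap.ext
    intro v
    rw [LinearMap.transvection.apply]
    have h1 : g (v - NN T v) = v - NN T v := hgW _ (by rw [map_sub, hNN, sub_self])
    rw [map_sub, hNφ, map_smul, hgv0] at h1
    rw [sub_eq_iff_eq_add.1 h1, smul_smul, smul_smul]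
    have h2 : (φ v * (μ - 1)) • v0 = (φ v * μ) • v0 - φ v • v0 := by rw [mul_sub, mul_one, sub_smul]
    rw [h2]
    abel
  have hμ1 : μ = 1 := by
    rw [hgt, LinearMap.transvection.det, map_smul, hφ0, smul_eq_mul, mul_one] at hdet
    linear_combination hdet
  rw [hgt, hμ1, sub_self, zero_smul]
  apply LinearMap.ext
  intro v
  rw [LinearMap.transvection.apply, smul_zero, add_zero]
  rfl

end Cfsg.Agent.H16.U43
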