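import Cfsg.Agent.H16_U43

/-! The normalizer of a subgroup of order 7 in PSU(4,3). -/

set_option autoImplicit false
set_option linter.style.haveILetI false

namespace Cfsg.Agent.H16.U43

open Module Cfsg.Agent.H5

variable {K : Type*} [Field K] [Fintype K]

/-- the natural representation -/
noncomputable def rp (K : Type*) [Field K] : Cfsg.SU 4 K 3 →* Module.End K (Fin 4 → K) where
  toFun g := Matrix.toLin' (Unit.mat g)
  map_one' := Matrix.toLin'_one
  map_mul' a b := Matrix.toLin'_mul _ _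

theorem rp_inj : Function.Injective (rp K) := by
  intro a b hab
  apply Subtype.ext
  apply Subtype.ext
  exact Matrix.toLin'.injective hab

theorem rp_det (g : Cfsg.SU 4 K 3) : LinearMap.det (rp K g) = 1 := by
  change LinearMap.det (Matrix.toLin' (Unit.mat g)) = 1
  rw [LinearMap.det_toLin']
  exact g.1.2

theorem card_cent (hK : Fintype.card K = 9) (x : Cfsg.SU 4 K 3) (hx : x ^ 7 = 1) (hx1 : x ≠ 1) :
    Nat.card (Subgroup.centralizer ({x} : Set (Cfsg.SU 4 K 3))) ∣ 728 := by
  classical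
  set T := rp K x with hTd
  have hT : T ^ 7 = 1 := by rw [hTd, ← map_pow, hx, map_one]
  have hT1 : T ≠ 1 := by
    intro h
    apply hx1
    apply rp_inj
    rw [← hTd, h, map_one]
  have hcm : ∀ g : Subgroup.centralizer ({x} : Set (Cfsg.SU 4 K 3)), Commute (rp K g) T := by
    intro g
    have h1 : x * g = g * x := Subgroup.mem_centralizer_iff.1 g.2 x rfl
    change rp K g * rp K x = rp K x * rp K g
    rw [← map_mul, ← map_mul, h1]
  let W := LinearMap.ker (NN T)
  have hgW : ∀ (g : Subgroup.centralizer ({x} : Set (Cfsg.SU 4 K 3))) (w : Fin 4 → K), w ∈ W → rp K g w ∈ W := by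
    intro g w hw
    have h2 := LinearMap.congr_fun (NN_comm (hcm g)).eq w
    rw [Module.End.mul_apply, Module.End.mul_apply, LinearMap.mem_ker.1 hw, map_zero] at h2
    exact LinearMap.mem_ker.2 h2.symm
  have hinj : ∀ (g : Subgroup.centralizer ({x} : Set (Cfsg.SU 4 K 3))) (w : Fin 4 → K), rp K g w = 0 → w = 0 := by
    intro g w h
    have h1 : rp K (g : Cfsg.SU 4 K 3)⁻¹ (rp K g w) = w := by
      rw [← Module.End.mul_apply, ← map_mul, inv_mul_cancel, map_one]; rfl
    rw [← h1, h, map_zero]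
  letI act : MulAction (Subgroup.centralizer ({x} : Set (Cfsg.SU 4 K 3))) {w : W // w ≠ 0} :=
    { smul := fun g w => ⟨⟨rp K g w.1.1, hgW g _ w.1.2⟩, fun h => w.2 (Subtype.ext (hinj g _ (congrArg Subtype.val h)))⟩
      one_smul := fun w => by
        apply Subtype.ext
        apply Subtype.ext
        change rp K (1 : Cfsg.SU 4 K 3) w.1.1 = w.1.1
        rw [map_one]; rfl
      mul_smul := fun g h w => by
        apply Subtype.ext
        apply Subtype.ext
        change rp K ((g : Cfsg.SU 4 K 3) * h) w.1.1 = rp K g (rp K h w.1.1)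
        rw [map_mul]; rfl }
  have hfree : ∀ w : {w : W // w ≠ 0}, MulAction.stabilizer (Subgroup.centralizer ({x} : Set (Cfsg.SU 4 K 3))) w = ⊥ := by
    intro w
    rw [eq_bot_iff]
    intro g hg
    rw [MulAction.mem_stabilizer_iff] at hg
    have h1 : rp K g w.1.1 = w.1.1 := congrArg (fun z : {w : W // w ≠ 0} => z.1.1) hg
    have h2 := free hK hT hT1 (hcm g) (rp_det _) (LinearMap.mem_ker.1 w.1.2) (fun h => w.2 (Subtype.ext h)) h1
    rw [Subgroup.mem_bot]
    apply Subtype.ext
    apply rp_inj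
    rw [h2]
    exact (map_one _).symm
  have h1 := Nat.card_congr (MulAction.selfEquivOrbitsQuotientProd hfree)
  rw [Nat.card_prod] at h1
  have h2 : Nat.card {w : W // w ≠ 0} = 728 := by
    haveI : Fintype W := Fintype.ofFinite _
    have h3 := Set.card_ne_eq (0 : W)
    have h4 : Fintype.card W = 9 ^ 3 := by rw [Module.card_eq_pow_finrank (K := K), hK, finrank_W hK hT hT1]
    rw [h4] at h3
    rw [Nat.card_eq_fintype_card]
    exact (Fintype.card_congr (Equiv.refl _)).trans h3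
  rw [h2] at h1
  exact ⟨_, h1.trans (mul_comm _ _)⟩

theorem main (hK : Fintype.card K = 9) (X : Subgroup (Cfsg.PSU 4 K 3)) (hX : Nat.card X = 7) :
    Nat.card (Subgroup.normalizer (X : Set (Cfsg.PSU 4 K 3))) = 21 ∧ Subgroup.centralizer (X : Set (Cfsg.PSU 4 K 3)) = X := by
  classical
  haveI : Fact (Nat.Prime 7) := ⟨by norm_num⟩
  have hK' : Fintype.card K = 3 ^ 2 := hK
  have hSU : Nat.card (Cfsg.SU 4 K 3) = 13063680 := by
    have h1 := Unit.card_SU_mul hK' (n := 4) (by norm_num)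
    rw [Unit.card_GU hK'] at h1
    have h2 : Herm.guOrd 3 4 = 52254720 := by decide
    rw [h2] at h1
    omega
  have hZ : Nat.card (Subgroup.center (Cfsg.SU 4 K 3)) = 4 := by
    rw [Unit.card_center_SU hK' (by norm_num)]
    norm_num
  have hPSU : Nat.card (Cfsg.PSU 4 K 3) = 3265920 := by
    have h2 := (Subgroup.card_eq_card_quotient_mul_card_subgroup (Subgroup.center (Cfsg.SU 4 K 3)))
    rw [hZ, hSU] at h2
    change Nat.card (Cfsg.SU 4 K 3 ⧸ Subgroup.center (Cfsg.SU 4 K 3)) = _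
    omega
  haveI : Finite (Cfsg.PSU 4 K 3) := Nat.finite_of_card_ne_zero (by rw [hPSU]; norm_num)
  haveI : Finite (Cfsg.SU 4 K 3) := Nat.finite_of_card_ne_zero (by rw [hSU]; norm_num)
  let π : Cfsg.SU 4 K 3 →* Cfsg.PSU 4 K 3 := QuotientGroup.mk' (Subgroup.center (Cfsg.SU 4 K 3))
  have hπs : Function.Surjective π := QuotientGroup.mk'_surjective _
  have hπk : ∀ g, π g = 1 ↔ g ∈ Subgroup.center (Cfsg.SU 4 K 3) := fun g => QuotientGroup.eq_one_iff g
  have hz4 : ∀ z ∈ Subgroup.center (Cfsg.SU 4 K 3), z ^ 4 = 1 := by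
    intro z hz
    have h1 : (⟨z, hz⟩ : Subgroup.center (Cfsg.SU 4 K 3)) ^ Nat.card (Subgroup.center (Cfsg.SU 4 K 3)) = 1 := pow_card_eq_one'
    rw [hZ] at h1
    exact congrArg Subtype.val h1
  -- a generator
  obtain ⟨xb, hxb, hxb1⟩ := (X.nontrivial_iff_exists_ne_one).1 ((Finite.one_lt_card_iff_nontrivial).1 (by rw [hX]; norm_num))
  have hxb7 : xb ^ 7 = 1 := by
    have h1 : (⟨xb, hxb⟩ : X) ^ Nat.card X = 1 := pow_card_eq_one'
    rw [hX] at h1
    exact congrArg Subtype.val h1
  have hXz : ∀ y ∈ X, ∃ k : ℤ, xb ^ k = y := by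
    intro y hy
    obtain ⟨k, hk⟩ := mem_zpowers_of_prime_card (p := 7) hX (g := (⟨xb, hxb⟩ : X)) (g' := ⟨y, hy⟩) (fun h => hxb1 (congrArg Subtype.val h))
    exact ⟨k, congrArg Subtype.val hk⟩
  obtain ⟨x1, hx1⟩ := hπs xb
  set x := x1 ^ 8 with hx
  have hx7 : x ^ 7 = 1 := by
    have h1 : x1 ^ 7 ∈ Subgroup.center (Cfsg.SU 4 K 3) := by rw [← hπk, map_pow, hx1, hxb7]
    rw [hx, ← pow_mul, show 8 * 7 = 7 * 4 * 2 by norm_num, pow_mul, pow_mul, hz4 _ h1, one_pow]
  have hπx : π x = xb := by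
    rw [hx, map_pow, hx1, show 8 = 7 + 1 by norm_num, pow_succ, hxb7, one_mul]
  have hxne : x ≠ 1 := by
    intro h
    rw [h, map_one] at hπx
    exact hxb1 hπx.symm
  have hC := card_cent hK x hx7 hxne
  set Cb := Subgroup.centralizer (X : Set (Cfsg.PSU 4 K 3)) with hCb
  have hDC : Cb.comap π ≤ Subgroup.centralizer ({x} : Set (Cfsg.SU 4 K 3)) := by
    intro g hg
    rw [Subgroup.mem_comap, hCb, Subgroup.mem_centralizer_iff] at hg
    have h1 := hg xb hxb
    rw [← hπx, ← map_mul, ← map_mul] at h1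
    rw [Subgroup.mem_centralizer_iff]
    rintro _ rfl
    set z := g * x * g⁻¹ * x⁻¹ with hz
    have hzc : z ∈ Subgroup.center (Cfsg.SU 4 K 3) := by
      rw [← hπk, hz, map_mul, map_mul, map_inv, map_inv, ← h1, map_mul]
      group
    have h2 : g * x * g⁻¹ = z * x := by rw [hz, inv_mul_cancel_right]
    have h3 : (z * x) ^ 7 = 1 := by rw [← h2, conj_pow, hx7, mul_one, mul_inv_cancel]
    have h4 : Commute z x := (Subgroup.mem_center_iff.1 hzc x).symm
    rw [h4.mul_pow, hx7, mul_one] at h3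
    have h5 : z = 1 := by
      have h6 : z ^ 8 = 1 := by rw [show 8 = 4 * 2 by norm_num, pow_mul, hz4 _ hzc, one_pow]
      rw [show 8 = 7 + 1 by norm_num, pow_succ, h3, one_mul] at h6
      exact h6
    rw [h5, one_mul] at h2
    exact (mul_inv_eq_iff_eq_mul.1 h2).symm
  have hCb4 : Nat.card Cb ∣ 14 := by
    have h1 : (Cb.comap π).index = Cb.index := Subgroup.index_comap_of_surjective Cb hπs
    have h2 := Subgroup.card_mul_index (Cb.comap π)
    have h3 := Subgroup.card_mul_index Cb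
    rw [h1, hSU] at h2
    rw [hPSU] at h3
    have hi : 0 < Cb.index := Nat.pos_of_ne_zero Subgroup.index_ne_zero_of_finite
    have h4 : Nat.card (Cb.comap π) = 4 * Nat.card Cb := by
      apply Nat.eq_of_mul_eq_mul_right hi
      rw [h2, mul_assoc, h3]
      norm_num
    have h5 : 4 * Nat.card Cb ∣ 728 := by
      rw [← h4]
      exact (Subgroup.card_dvd_of_le hDC).trans hC
    have h6 : Nat.card Cb ∣ 182 := Nat.dvd_of_mul_dvd_mul_left (by norm_num : 0 < 4) h5
    have h7 : Nat.card Cb ∣ 3265920 := ⟨_, h3.symm⟩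
    have h8 := Nat.dvd_gcd h6 h7
    have h9 : Nat.gcd 182 3265920 = 14 := by norm_num
    rwa [h9] at h8
  haveI : IsCyclic X := isCyclic_of_prime_card hX
  have hXC : X ≤ Cb := by
    intro y hy
    rw [hCb, Subgroup.mem_centralizer_iff]
    intro y' hy'
    obtain ⟨k, rfl⟩ := hXz y hy
    obtain ⟨k', rfl⟩ := hXz y' hy'
    exact (Commute.refl xb).zpow_zpow _ _
  have hCN : Cb ≤ Subgroup.normalizer (X : Set (Cfsg.PSU 4 K 3)) := Subgroup.centralizer_le_normalizer _
  set N := Subgroup.normalizer (X : Set (Cfsg.PSU 4 K 3)) with hN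
  have hN84 : Nat.card N ∣ 84 := by
    have h1 : Nat.card N ∣ Nat.card (MulAut X) * Nat.card X.normalizerMonoidHom.ker := by
      rw [← Subgroup.card_mul_index X.normalizerMonoidHom.ker, Subgroup.index_ker, mul_comm]
      exact Nat.mul_dvd_mul_right (Subgroup.card_subgroup_dvd_card _) _
    rw [Subgroup.normalizerMonoidHom_ker, IsCyclic.card_mulAut, hX, Nat.card_congr (Subgroup.subgroupOfEquivOfLe hCN).toEquiv] at h1
    have h2 : Nat.totient 7 = 6 := by decide
    rw [h2] at h1
    exact h1.trans (Nat.mul_dvd_mul_left 6 hCb4)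
  have h7N : 7 ∣ Nat.card N := by
    rw [← hX]
    exact Subgroup.card_dvd_of_le (hXC.trans hCN)
  have hSy : Nat.card X = 7 ^ (Nat.card (Cfsg.PSU 4 K 3)).factorization 7 := by
    rw [hX, hPSU, Nat.factorization_def _ (by norm_num : Nat.Prime 7)]
    have h1 : (3265920 : ℕ) = 7 * 466560 := by norm_num
    rw [h1, padicValNat.mul (by norm_num) (by norm_num), padicValNat.self (by norm_num), padicValNat.eq_zero_of_not_dvd (by norm_num)]
    norm_num
  let P : Sylow 7 (Cfsg.PSU 4 K 3) := Sylow.ofCard X hSy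
  have hidx : N.index % 7 = 1 := by
    have h1 := card_sylow_modEq_one 7 (Cfsg.PSU 4 K 3)
    rw [P.card_eq_index_normalizer] at h1
    exact h1
  have hNi := Subgroup.card_mul_index N
  rw [hPSU] at hNi
  obtain ⟨k, hk⟩ := h7N
  have hk12 : k ∣ 12 := by
    rw [hk] at hN84
    exact Nat.dvd_of_mul_dvd_mul_left (by norm_num : 0 < 7) hN84
  have hki : k * N.index = 466560 := by
    rw [hk, mul_assoc] at hNi
    omega
  have hk3 : k = 3 := by
    have h1 : k ≤ 12 := Nat.le_of_dvd (by norm_num) hk12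
    interval_cases k <;> first | rfl | (exfalso; omega)
  rw [hk3] at hk
  refine ⟨hk, ?_⟩
  have h21 : Nat.card Cb ∣ 21 := by
    have := Subgroup.card_dvd_of_le hCN
    rwa [hk] at this
  have h77 : Nat.card Cb ∣ 7 := by
    have := Nat.dvd_gcd hCb4 h21
    have h9 : Nat.gcd 14 21 = 7 := by norm_num
    rwa [h9] at this
  symm
  apply Subgroup.eq_of_le_of_card_ge hXC
  rw [hX]
  exact Nat.le_of_dvd (by norm_num) h77

end Cfsg.Agent.H16.U43
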