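import Mathlib

/-! Counting unipotent elements: numerics and the reduction modulo normal `p`-subgroups. -/

set_option autoImplicit false

namespace Cfsg.Agent.H16.Un

/-- number of elements of `p`-power order -/
noncomputable def pel (p : ℕ) (H : Type*) [Group H] : ℕ := Nat.card {h : H // ∃ k : ℕ, h ^ p ^ k = 1}

theorem pel_congr (p : ℕ) {H K : Type*} [Group H] [Group K] (e : H ≃* K) : pel p H = pel p K := by
  refine Nat.card_congr (e.toEquiv.subtypeEquiv fun h => ?_)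
  refine exists_congr fun k => ?_
  change _ ↔ e h ^ p ^ k = 1
  rw [← map_pow]
  exact (map_eq_one_iff e e.injective).symm

theorem pel_hom (p : ℕ) {H K : Type*} [Group H] [Group K] [Finite H] [Finite K] (ρ : H →* K) (hρ : Function.Surjective ρ)
    (hk : ∀ h, ρ h = 1 → ∃ k : ℕ, h ^ p ^ k = 1) : pel p H = Nat.card ρ.ker * pel p K := by
  have h1 : ∀ h : H, (∃ k : ℕ, h ^ p ^ k = 1) ↔ ∃ k : ℕ, ρ h ^ p ^ k = 1 := by
    intro h
    constructor
    · rintro ⟨k, hk⟩
      exact ⟨k, by rw [← map_pow, hk, map_one]⟩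
    · rintro ⟨k, hk'⟩
      obtain ⟨l, hl⟩ := hk (h ^ p ^ k) (by rw [map_pow, hk'])
      exact ⟨k + l, by rw [pow_add, pow_mul, hl]⟩
  choose s hs using hρ
  let e : {h : H // ∃ k : ℕ, h ^ p ^ k = 1} ≃ ρ.ker × {x : K // ∃ k : ℕ, x ^ p ^ k = 1} :=
    { toFun := fun h => (⟨(s (ρ h.1))⁻¹ * h.1, by rw [MonoidHom.mem_ker, map_mul, map_inv, hs, inv_mul_cancel]⟩, ⟨ρ h.1, (h1 _).1 h.2⟩)
      invFun := fun x => ⟨s x.2.1 * x.1.1, (h1 _).2 (by rw [map_mul, hs, MonoidHom.mem_ker.1 x.1.2, mul_one]; exact x.2.2)⟩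
      left_inv := fun h => Subtype.ext (mul_inv_cancel_left _ _)
      right_inv := fun x => by
        have h2 : ρ (s x.2.1 * x.1.1) = x.2.1 := by rw [map_mul, hs, MonoidHom.mem_ker.1 x.1.2, mul_one]
        apply Prod.ext
        · apply Subtype.ext
          change (s (ρ (s x.2.1 * x.1.1)))⁻¹ * (s x.2.1 * x.1.1) = x.1.1
          rw [h2, inv_mul_cancel_left]
        · exact Subtype.ext h2 }
  rw [pel, Nat.card_congr e, Nat.card_prod]
  rfl

section num

variable (q : ℚ)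

/-- numbers of totally isotropic spaces -/
def nn : ℕ → ℕ → ℚ
  | 0, 0 => 1
  | 0, _ + 1 => 0
  | _ + 1, 0 => 1
  | m + 1, j + 1 => q ^ (j + 1) * nn m (j + 1) + (1 + q ^ (2 * m + 1 - j)) * nn m j

theorem nn_zero (m : ℕ) : nn q m 0 = 1 := by cases m <;> rfl

theorem nn_of_lt : ∀ (m j : ℕ), m < j → nn q m j = 0 := by
  intro m
  induction m with
  | zero =>
    intro j hj
    obtain ⟨j, rfl⟩ : ∃ i, j = i + 1 := ⟨j - 1, by omega⟩
    rfl
  | succ m ih =>
    intro j hj
    obtain ⟨j, rfl⟩ : ∃ i, j = i + 1 := ⟨j - 1, by omega⟩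
    rw [nn, ih _ (by omega), ih _ (by omega), mul_zero, mul_zero, add_zero]

theorem nn_sum (m : ℕ) (c : ℕ → ℚ) : ∑ j ∈ Finset.range (m + 2), c j * nn q (m + 1) j =
    ∑ j ∈ Finset.range (m + 1), (c j * q ^ j + c (j + 1) * (1 + q ^ (2 * m + 1 - j))) * nn q m j := by
  rw [Finset.sum_range_succ']
  have h1 : ∀ j, c (j + 1) * nn q (m + 1) (j + 1) = c (j + 1) * q ^ (j + 1) * nn q m (j + 1) + c (j + 1) * (1 + q ^ (2 * m + 1 - j)) * nn q m j := by
    intro j
    rw [nn]; ring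
  rw [Finset.sum_congr rfl fun j _ => h1 j, Finset.sum_add_distrib]
  have h2 : ∑ j ∈ Finset.range (m + 1), c (j + 1) * q ^ (j + 1) * nn q m (j + 1) + c 0 * nn q (m + 1) 0 =
      ∑ j ∈ Finset.range (m + 1), c j * q ^ j * nn q m j := by
    have h3 := Finset.sum_range_succ' (fun j => c j * q ^ j * nn q m j) (m + 1)
    rw [Finset.sum_range_succ, nn_of_lt q m (m + 1) (by omega), mul_zero, add_zero] at h3
    rw [h3, nn_zero, nn_zero, pow_zero, mul_one, mul_one]
  have h4 : ∑ j ∈ Finset.range (m + 1), (c j * q ^ j + c (j + 1) * (1 + q ^ (2 * m + 1 - j))) * nn q m j =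
      ∑ j ∈ Finset.range (m + 1), c j * q ^ j * nn q m j + ∑ j ∈ Finset.range (m + 1), c (j + 1) * (1 + q ^ (2 * m + 1 - j)) * nn q m j := by
    rw [← Finset.sum_add_distrib]
    exact Finset.sum_congr rfl fun j _ => by ring
  rw [h4, ← h2]
  ring

theorem sumA (m : ℕ) : ∑ j ∈ Finset.range (m + 1), (-1) ^ j * q ^ (j.choose 2) * nn q m j = (-1) ^ m * q ^ m ^ 2 := by
  induction m with
  | zero => simp [nn]
  | succ m ih =>
    rw [nn_sum q m fun j => (-1) ^ j * q ^ (j.choose 2)]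
    have h1 : ∀ j ∈ Finset.range (m + 1), ((-1) ^ j * q ^ (j.choose 2) * q ^ j + (-1) ^ (j + 1) * q ^ ((j + 1).choose 2) * (1 + q ^ (2 * m + 1 - j))) * nn q m j =
        - q ^ (2 * m + 1) * ((-1) ^ j * q ^ (j.choose 2) * nn q m j) := by
      intro j hj
      rw [Finset.mem_range] at hj
      have h2 : (j + 1).choose 2 = j + j.choose 2 := by
        rw [Nat.choose_succ_succ' j 1, Nat.choose_one_right]
      have h3 : q ^ (2 * m + 1) = q ^ j * q ^ (2 * m + 1 - j) := by rw [← pow_add]; congr 1; omega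
      rw [h2, h3, pow_add, pow_succ (-1 : ℚ)]
      ring
    rw [Finset.sum_congr rfl h1, ← Finset.mul_sum, ih]
    have : (m + 1) ^ 2 = (2 * m + 1) + m ^ 2 := by ring
    rw [this, pow_add q (2 * m + 1), pow_succ (-1 : ℚ)]
    ring

theorem sumB (m : ℕ) : ∑ j ∈ Finset.range (m + 1), (-1) ^ j * q ^ ((m - j) ^ 2) * nn q m j = (-1) ^ m := by
  induction m with
  | zero => simp [nn]
  | succ m ih =>
    rw [nn_sum q m fun j => (-1) ^ j * q ^ ((m + 1 - j) ^ 2)]
    have h1 : ∀ j ∈ Finset.range (m + 1), ((-1) ^ j * q ^ ((m + 1 - j) ^ 2) * q ^ j + (-1) ^ (j + 1) * q ^ ((m + 1 - (j + 1)) ^ 2) * (1 + q ^ (2 * m + 1 - j))) * nn q m j =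
        (-1) * ((-1) ^ j * q ^ ((m - j) ^ 2) * nn q m j) := by
      intro j hj
      rw [Finset.mem_range] at hj
      obtain ⟨d, hd⟩ : ∃ d, m = j + d := ⟨m - j, by omega⟩
      have e1 : m + 1 - j = d + 1 := by omega
      have e2 : m + 1 - (j + 1) = d := by omega
      have e3 : 2 * m + 1 - j = j + 2 * d + 1 := by omega
      have e4 : m - j = d := by omega
      rw [e1, e2, e3, e4, pow_succ (-1 : ℚ)]
      have e5 : q ^ ((d + 1) ^ 2) * q ^ j = q ^ (d ^ 2) * q ^ (j + 2 * d + 1) := by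
        rw [← pow_add, ← pow_add]; congr 1; ring
      linear_combination ((-1) ^ j * nn q (m) j) * e5
    rw [Finset.sum_congr rfl h1, ← Finset.mul_sum, ih, pow_succ]
    ring

/-- `∏ (q ^ (2 l) - 1)` -/
def PP (m : ℕ) : ℚ := ∏ i ∈ Finset.range m, (q ^ (2 * (i + 1)) - 1)

/-- `∏ (q ^ l - 1)` -/
def RR (m : ℕ) : ℚ := ∏ i ∈ Finset.range m, (q ^ (i + 1) - 1)

theorem PP_succ (m : ℕ) : PP q (m + 1) = PP q m * (q ^ (2 * (m + 1)) - 1) := Finset.prod_range_succ _ _

theorem RR_succ (m : ℕ) : RR q (m + 1) = RR q m * (q ^ (m + 1) - 1) := Finset.prod_range_succ _ _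

theorem nn_prod : ∀ (m j : ℕ), j ≤ m → nn q m j * PP q (m - j) * RR q j = PP q m := by
  intro m
  induction m with
  | zero =>
    intro j hj
    obtain rfl : j = 0 := by omega
    simp [nn, PP, RR]
  | succ m ih =>
    intro j hj
    rcases Nat.eq_zero_or_pos j with rfl | hj0
    · rw [nn_zero, Nat.sub_zero, RR, Finset.range_zero, Finset.prod_empty]; ring
    obtain ⟨j, rfl⟩ : ∃ i, j = i + 1 := ⟨j - 1, by omega⟩
    rw [nn, Nat.add_sub_add_right, RR_succ, PP_succ]
    have h1 := ih j (by omega)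
    rcases Nat.lt_or_ge j m with h | h
    · have h2 := ih (j + 1) h
      obtain ⟨d, hd⟩ : ∃ d, m = j + 1 + d := ⟨m - (j + 1), by omega⟩
      have e1 : m - j = d + 1 := by omega
      have e2 : m - (j + 1) = d := by omega
      have e3 : 2 * m + 1 - j = j + 2 * d + 3 := by omega
      rw [e2, RR_succ] at h2
      rw [e1, PP_succ] at h1 ⊢
      rw [e3]
      have e4 : q ^ (2 * (m + 1)) = q ^ (j + 2 * d + 3) * q ^ (j + 1) := by rw [← pow_add]; congr 1; omega
      have e5 : q ^ (j + 2 * d + 3) = q ^ (2 * (d + 1)) * q ^ (j + 1) := by rw [← pow_add]; congr 1; omega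
      rw [e4]
      have e6 : (q ^ (j + 1) * nn q m (j + 1) + (1 + q ^ (j + 2 * d + 3)) * nn q m j) * (PP q d * (q ^ (2 * (d + 1)) - 1)) *
          (RR q j * (q ^ (j + 1) - 1)) =
          q ^ (j + 1) * (q ^ (2 * (d + 1)) - 1) * (nn q m (j + 1) * PP q d * (RR q j * (q ^ (j + 1) - 1))) +
          (1 + q ^ (j + 2 * d + 3)) * (q ^ (j + 1) - 1) * (nn q m j * (PP q d * (q ^ (2 * (d + 1)) - 1)) * RR q j) := by ring
      rw [e6, h1, h2, e5]
      ring
    · obtain rfl : j = m := by omega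
      rw [nn_of_lt q j (j + 1) (by omega), mul_zero, zero_add, Nat.sub_self] at *
      have e3 : 2 * j + 1 - j = j + 1 := by omega
      rw [e3]
      have e4 : q ^ (2 * (j + 1)) = q ^ (j + 1) * q ^ (j + 1) := by rw [← pow_add]; congr 1; omega
      rw [e4, ← h1]
      ring

theorem frames_prod (m : ℕ) : ∀ j, j ≤ m → (∏ i ∈ Finset.range j, (q ^ (2 * m - i) - q ^ i)) * PP q (m - j) = q ^ (j.choose 2) * PP q m := by
  intro j
  induction j with
  | zero => intro _; simp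
  | succ j ih =>
    intro hj
    have h1 := ih (by omega)
    obtain ⟨d, hd⟩ : ∃ d, m = j + 1 + d := ⟨m - (j + 1), by omega⟩
    have e1 : m - j = d + 1 := by omega
    have e2 : m - (j + 1) = d := by omega
    have e3 : 2 * m - j = j + 2 * (d + 1) := by omega
    have h2 : (j + 1).choose 2 = j + j.choose 2 := by
      rw [Nat.choose_succ_succ' j 1, Nat.choose_one_right]
    rw [e1, PP_succ] at h1
    rw [Finset.prod_range_succ, e2, e3, h2, pow_add q j, pow_add q j]
    linear_combination q ^ j * h1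

end num

end Cfsg.Agent.H16.Un
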