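import Cfsg.Agent.H16_Un1
import Cfsg.Agent.H5_FrmWitt

/-! Frames of isotropic vectors in symplectic spaces. -/

set_option autoImplicit false

namespace Cfsg.Agent.H16.Un

open Cfsg.Agent.H5 Module

variable {F : Type*} [Field F] {V : Type*} [AddCommGroup V] [Module F V]

/-- linearly independent isotropic tuples -/
def JS (A : Frm F (RingHom.id F) (-1) (0 : F →+ F) V) (C : Submodule F V) (j : ℕ) : Set (Fin j → V) :=
  {v | LinearIndependent F v ∧ (∀ i, v i ∈ C) ∧ ∀ i k, A.B (v i) (v k) = 0}

variable {A : Frm F (RingHom.id F) (-1) (0 : F →+ F) V}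

theorem Qz (A : Frm F (RingHom.id F) (-1) (0 : F →+ F) V) (x : V) : A.Q x = 0 := by
  obtain ⟨s, hs⟩ := A.Q_t x
  exact hs.symm

theorem Bself (A : Frm F (RingHom.id F) (-1) (0 : F →+ F) V) (x : V) : A.B x x = 0 := A.B_self_of_Q (Qz A x)

theorem JS_orth {C : Submodule F V} {j : ℕ} {v : Fin j → V} (hv : v ∈ JS A C j) : Submodule.span F (Set.range v) ≤ A.orth (Submodule.span F (Set.range v)) := by
  intro x hx y hy
  have h1 : ∀ i, Submodule.span F (Set.range v) ≤ LinearMap.ker (A.B (v i)) := by
    intro i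
    rw [Submodule.span_le]
    rintro _ ⟨k, rfl⟩
    exact hv.2.2 i k
  have h2 : Submodule.span F (Set.range v) ≤ LinearMap.ker (A.B x) := by
    rw [Submodule.span_le]
    rintro _ ⟨k, rfl⟩
    exact A.refl (h1 k hx)
  exact A.refl (h2 hy)

theorem cons_mem_iff {C : Submodule F V} {j : ℕ} {x : V} {v : Fin j → V} :
    (Fin.cons x v : Fin (j + 1) → V) ∈ JS A C (j + 1) ↔ v ∈ JS A C j ∧ x ∈ C ∧ x ∉ Submodule.span F (Set.range v) ∧ ∀ i, A.B (v i) x = 0 := by
  unfold JS
  simp only [Set.mem_setOf_eq]
  rw [linearIndependent_finCons]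
  constructor
  · rintro ⟨⟨h1, h2⟩, h3, h4⟩
    exact ⟨⟨h1, fun i => by simpa using h3 i.succ, fun i k => by simpa using h4 i.succ k.succ⟩, by simpa using h3 0, h2, fun i => by simpa using h4 i.succ 0⟩
  · rintro ⟨⟨h1, h2, h3⟩, h4, h5, h6⟩
    refine ⟨⟨h1, h5⟩, fun i => ?_, fun i k => ?_⟩
    · induction i using Fin.cases with
      | zero => simpa using h4
      | succ i => simpa using h2 i
    · induction i using Fin.cases with
      | zero =>
        induction k using Fin.cases with
        | zero => simpa using Bself A x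
        | succ k => simpa using A.refl (h6 k)
      | succ i =>
        induction k using Fin.cases with
        | zero => simpa using h6 i
        | succ k => simpa using h3 i k

/-- the number of frames -/
theorem card_frames [Fintype F] [FiniteDimensional F V] (hA : A.Nondeg) {m : ℕ} (hm : finrank F V = 2 * m) (j : ℕ) :
    Nat.card (JS A ⊤ j) = ∏ i ∈ Finset.range j, (Fintype.card F ^ (2 * m - i) - Fintype.card F ^ i) := by
  classical
  have : Finite V := Module.finite_of_finite F
  induction j with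
  | zero =>
    rw [Finset.range_zero, Finset.prod_empty, Nat.card_eq_one_iff_unique]
    refine ⟨⟨fun a b => Subtype.ext (funext fun i => i.elim0)⟩, ⟨⟨Fin.elim0, ?_⟩⟩⟩
    exact ⟨linearIndependent_empty_type, fun i => i.elim0, fun i => i.elim0⟩
  | succ j ih =>
    let e : JS A ⊤ (j + 1) ≃ Σ v : JS A ⊤ j, {x : V // x ∈ A.orth (Submodule.span F (Set.range v.1)) ∧ x ∉ Submodule.span F (Set.range v.1)} :=
      { toFun := fun w => ⟨⟨Fin.tail w.1, (cons_mem_iff.1 (show (Fin.cons (w.1 0) (Fin.tail w.1) : Fin (j + 1) → V) ∈ JS A ⊤ (j + 1) by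
            rw [Fin.cons_self_tail]; exact w.2)).1⟩, w.1 0, by
            have h1 := cons_mem_iff.1 (show (Fin.cons (w.1 0) (Fin.tail w.1) : Fin (j + 1) → V) ∈ JS A ⊤ (j + 1) by
              rw [Fin.cons_self_tail]; exact w.2)
            refine ⟨?_, h1.2.2.1⟩
            intro y hy
            have h2 : Submodule.span F (Set.range (Fin.tail w.1)) ≤ LinearMap.ker (A.B (w.1 0)) := by
              rw [Submodule.span_le]
              rintro _ ⟨k, rfl⟩
              exact A.refl (h1.2.2.2 k)
            exact A.refl (h2 hy)⟩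
        invFun := fun x => ⟨Fin.cons x.2.1 x.1.1, cons_mem_iff.2 ⟨x.1.2, Submodule.mem_top, x.2.2.2, fun i =>
          x.2.2.1 _ (Submodule.subset_span ⟨i, rfl⟩)⟩⟩
        left_inv := fun w => Subtype.ext (Fin.cons_self_tail w.1)
        right_inv := fun x => by
          rcases x with ⟨⟨v, hv⟩, x, hx⟩
          rfl }
    have hfib : ∀ v : JS A ⊤ j, Nat.card {x : V // x ∈ A.orth (Submodule.span F (Set.range v.1)) ∧ x ∉ Submodule.span F (Set.range v.1)} =
        Fintype.card F ^ (2 * m - j) - Fintype.card F ^ j := by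
      intro v
      have h1 := Frm.finrank_orth hA (Submodule.span F (Set.range v.1))
      have h2 : finrank F (Submodule.span F (Set.range v.1)) = j := by
        rw [finrank_span_eq_card v.2.1, Fintype.card_fin]
      have h3 := JS_orth v.2
      have h4 : Nat.card (A.orth (Submodule.span F (Set.range v.1))) = Fintype.card F ^ (2 * m - j) := by
        rw [Module.natCard_eq_pow_finrank (K := F), Nat.card_eq_fintype_card]
        congr 1; omega
      have h5 : Nat.card (Submodule.span F (Set.range v.1)) = Fintype.card F ^ j := by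
        rw [Module.natCard_eq_pow_finrank (K := F), Nat.card_eq_fintype_card, h2]
      have h6 : Nat.card {x : V // x ∈ A.orth (Submodule.span F (Set.range v.1)) ∧ x ∉ Submodule.span F (Set.range v.1)} =
          Set.ncard ((A.orth (Submodule.span F (Set.range v.1)) : Set V) \ (Submodule.span F (Set.range v.1) : Set V)) := rfl
      rw [h6, Set.ncard_diff h3 (Set.toFinite _)]
      congr 1
    let _ : Fintype (JS A ⊤ j) := Fintype.ofFinite _
    rw [Nat.card_congr e, Nat.card_sigma]
    rw [Finset.sum_congr rfl fun v _ => hfib v, Finset.sum_const, Finset.card_univ, smul_eq_mul, ← Nat.card_eq_fintype_card, ih,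
      Finset.prod_range_succ]

theorem exists_T {n : ℕ} {a : Fin (n + 1) → F} (ha : a ≠ 0) :
    ∃ T : (Fin (n + 1) → F) ≃ₗ[F] (Fin (n + 1) → F), T (Pi.single 0 1) = a := by
  obtain ⟨k, hk⟩ : ∃ k, a k ≠ 0 := by
    by_contra h
    push Not at h
    exact ha (funext h)
  let U : (Fin (n + 1) → F) →ₗ[F] (Fin (n + 1) → F) := LinearMap.id + (LinearMap.proj k).smulRight (a - Pi.single k 1)
  have hU : ∀ x, U x = x + x k • (a - Pi.single k 1) := fun x => rfl
  have hUi : Function.Injective U := by
    rw [← LinearMap.ker_eq_bot, LinearMap.ker_eq_bot']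
    intro x hx
    rw [hU] at hx
    have h1 := congrFun hx k
    simp only [Pi.add_apply, Pi.smul_apply, Pi.sub_apply, Pi.single_eq_same, smul_eq_mul, Pi.zero_apply] at h1
    have h2 : x k * a k = 0 := by linear_combination h1
    have h3 : x k = 0 := (mul_eq_zero.1 h2).resolve_right hk
    rwa [h3, zero_smul, add_zero] at hx
  refine ⟨(LinearEquiv.funCongrLeft F F (Equiv.swap 0 k)).trans (LinearEquiv.ofInjectiveEndo U hUi), ?_⟩
  have h4 : (LinearEquiv.funCongrLeft F F (Equiv.swap 0 k)) (Pi.single 0 1) = Pi.single k (1 : F) := by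
    funext i
    rw [LinearEquiv.funCongrLeft_apply, LinearMap.funLeft_apply, Pi.single_apply, Pi.single_apply]
    have : Equiv.swap 0 k i = 0 ↔ i = k := by
      rw [Equiv.swap_apply_eq_iff, Equiv.swap_apply_left]
    simp [this]
  rw [LinearEquiv.trans_apply, h4]
  change U (Pi.single k 1) = a
  rw [hU, Pi.single_eq_same, one_smul, add_sub_cancel]

/-- reparametrisation of tuples -/
noncomputable def act {n : ℕ} (T : (Fin n → F) ≃ₗ[F] (Fin n → F)) (v : Fin n → V) : Fin n → V :=
  fun k => Fintype.linearCombination F v (T (Pi.single k 1))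

theorem lc_act {n : ℕ} (T : (Fin n → F) ≃ₗ[F] (Fin n → F)) (v : Fin n → V) (x : Fin n → F) :
    Fintype.linearCombination F (act T v) x = Fintype.linearCombination F v (T x) := by
  have : Fintype.linearCombination F (act T v) = (Fintype.linearCombination F v).comp T.toLinearMap := by
    apply LinearMap.pi_ext'
    intro i
    apply LinearMap.ext_ring
    simp [act, Fintype.linearCombination_apply_single]
  rw [this]; rfl

theorem act_act {n : ℕ} (T : (Fin n → F) ≃ₗ[F] (Fin n → F)) (v : Fin n → V) : act T.symm (act T v) = v := by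
  funext k
  rw [act, lc_act, LinearEquiv.apply_symm_apply, Fintype.linearCombination_apply_single, one_smul]

theorem act_act' {n : ℕ} (T : (Fin n → F) ≃ₗ[F] (Fin n → F)) (v : Fin n → V) : act T (act T.symm v) = v := by
  funext k
  rw [act, lc_act, LinearEquiv.symm_apply_apply, Fintype.linearCombination_apply_single, one_smul]

theorem lc_mem {n : ℕ} (v : Fin n → V) (x : Fin n → F) : Fintype.linearCombination F v x ∈ Submodule.span F (Set.range v) := by
  rw [← Fintype.range_linearCombination F]
  exact ⟨x, rfl⟩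

theorem act_mem {C : Submodule F V} {n : ℕ} (T : (Fin n → F) ≃ₗ[F] (Fin n → F)) {v : Fin n → V} (hv : v ∈ JS A C n) :
    act T v ∈ JS A C n := by
  refine ⟨?_, fun i => ?_, fun i k => ?_⟩
  · rw [linearIndependent_iff_injective_fintypeLinearCombination]
    intro x y hxy
    change Fintype.linearCombination F (act T v) x = Fintype.linearCombination F (act T v) y at hxy
    rw [lc_act, lc_act] at hxy
    exact T.injective ((linearIndependent_iff_injective_fintypeLinearCombination.1 hv.1) hxy)
  · have : Submodule.span F (Set.range v) ≤ C := by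
      rw [Submodule.span_le]
      rintro _ ⟨i, rfl⟩
      exact hv.2.1 i
    exact this (lc_mem _ _)
  · exact JS_orth hv (lc_mem _ _) _ (lc_mem _ _)

theorem card_fix_a {C : Submodule F V} {r : V} (hrC : r ∈ C) (hperp : ∀ c ∈ C, A.B c r = 0) {j : ℕ} {a : Fin (j + 1) → F} (ha : a ≠ 0) :
    Nat.card {v : JS A C (j + 1) // Fintype.linearCombination F v.1 a = r} =
      Nat.card {v : JS A C j // r ∉ Submodule.span F (Set.range v.1)} := by
  obtain ⟨T, hT⟩ := exists_T ha
  refine Nat.card_congr
    { toFun := fun w => ⟨⟨Fin.tail (act T w.1.1), ?_⟩, ?_⟩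
      invFun := fun v => ⟨⟨act T.symm (Fin.cons r v.1.1), ?_⟩, ?_⟩
      left_inv := ?_
      right_inv := ?_ }
  · exact (cons_mem_iff.1 (show (Fin.cons ((act T w.1.1) 0) (Fin.tail (act T w.1.1)) : Fin (j + 1) → V) ∈ JS A C (j + 1) by
      rw [Fin.cons_self_tail]; exact act_mem T w.1.2)).1
  · have h1 := (cons_mem_iff.1 (show (Fin.cons ((act T w.1.1) 0) (Fin.tail (act T w.1.1)) : Fin (j + 1) → V) ∈ JS A C (j + 1) by
      rw [Fin.cons_self_tail]; exact act_mem T w.1.2)).2.2.1
    have h2 : act T w.1.1 0 = r := by rw [act, hT]; exact w.2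
    rwa [h2] at h1
  · exact act_mem T.symm (cons_mem_iff.2 ⟨v.1.2, hrC, v.2, fun i => hperp _ (v.1.2.2.1 i)⟩)
  · rw [lc_act, ← hT, LinearEquiv.symm_apply_apply, Fintype.linearCombination_apply_single, one_smul]
    rfl
  · intro w
    apply Subtype.ext
    apply Subtype.ext
    change act T.symm (Fin.cons r (Fin.tail (act T w.1.1))) = w.1.1
    have h2 : act T w.1.1 0 = r := by rw [act, hT]; exact w.2
    have h3 : (Fin.cons r (Fin.tail (act T w.1.1)) : Fin (j + 1) → V) = act T w.1.1 := by
      conv_rhs => rw [← Fin.cons_self_tail (act T w.1.1), h2]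
    rw [h3, act_act]
  · intro v
    apply Subtype.ext
    apply Subtype.ext
    change Fin.tail (act T (act T.symm (Fin.cons r v.1.1))) = v.1.1
    rw [act_act', Fin.tail_cons]

theorem card_rel [Fintype F] [FiniteDimensional F V] {C : Submodule F V} {r : V} (hr : r ≠ 0) (hrC : r ∈ C)
    (hperp : ∀ c ∈ C, A.B c r = 0) (j : ℕ) :
    Nat.card {v : JS A C (j + 1) // r ∈ Submodule.span F (Set.range v.1)} =
      (Fintype.card F ^ (j + 1) - 1) * Nat.card {v : JS A C j // r ∉ Submodule.span F (Set.range v.1)} := by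
  classical
  have : Finite V := Module.finite_of_finite F
  have h1 : Nat.card {v : JS A C (j + 1) // r ∈ Submodule.span F (Set.range v.1)} =
      Nat.card {p : {a : Fin (j + 1) → F // a ≠ 0} × JS A C (j + 1) // Fintype.linearCombination F p.2.1 p.1.1 = r} := by
    symm
    refine Nat.card_eq_of_bijective (fun p => (⟨p.1.2, by
      have := lc_mem p.1.2.1 p.1.1.1 (F := F)
      rwa [p.2] at this⟩ : {v : JS A C (j + 1) // r ∈ Submodule.span F (Set.range v.1)})) ⟨?_, ?_⟩
    · rintro ⟨⟨a, v⟩, h⟩ ⟨⟨a', v'⟩, h'⟩ hh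
      obtain rfl : v = v' := congrArg (fun z : {v : JS A C (j + 1) // r ∈ Submodule.span F (Set.range v.1)} => z.1) hh
      have h2 : a = a' := Subtype.ext ((linearIndependent_iff_injective_fintypeLinearCombination.1 v.2.1) (h.trans h'.symm))
      subst h2
      rfl
    · rintro ⟨v, hv⟩
      have hv' := hv
      rw [← Fintype.range_linearCombination F] at hv'
      obtain ⟨a, ha⟩ := hv'
      exact ⟨⟨⟨⟨a, by rintro rfl; rw [map_zero] at ha; exact hr ha.symm⟩, v⟩, ha⟩, rfl⟩
  have e2 := Nat.card_congr (Equiv.subtypeProdEquivSigmaSubtype fun (a : {a : Fin (j + 1) → F // a ≠ 0}) (v : JS A C (j + 1)) =>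
    Fintype.linearCombination F v.1 a.1 = r)
  rw [h1, e2, Nat.card_sigma, Finset.sum_congr rfl fun a _ => card_fix_a hrC hperp a.2, Finset.sum_const, Finset.card_univ, smul_eq_mul]
  congr 1
  rw [Fintype.card_subtype_compl, Fintype.card_fun, Fintype.card_fin]
  simp

theorem card_split [Finite V] (C : Submodule F V) (r : V) (j : ℕ) :
    Nat.card (JS A C j) = Nat.card {v : JS A C j // r ∈ Submodule.span F (Set.range v.1)} +
      Nat.card {v : JS A C j // r ∉ Submodule.span F (Set.range v.1)} := by
  classical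
  rw [← Nat.card_sum]
  exact Nat.card_congr (Equiv.sumCompl fun v : JS A C j => r ∈ Submodule.span F (Set.range v.1)).symm

/-- the alternating sum vanishes when there is a radical -/
theorem alt_zero [Fintype F] [FiniteDimensional F V] (hA : A.Nondeg) {m : ℕ} (hm : finrank F V = 2 * m) {C : Submodule F V} {r : V}
    (hr : r ≠ 0) (hrC : r ∈ C) (hperp : ∀ c ∈ C, A.B c r = 0) :
    ∑ j ∈ Finset.range (m + 1), (-1) ^ j / RR (Fintype.card F : ℚ) j * (Nat.card (JS A C j) : ℚ) = 0 := by
  have : Finite V := Module.finite_of_finite F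
  set q := Fintype.card F with hq
  have hq1 : 1 < q := Fintype.one_lt_card
  have hqQ : (1 : ℚ) < (q : ℚ) := by exact_mod_cast hq1
  obtain ⟨f, hf⟩ : ∃ f : ℕ → ℚ, ∀ j, f j = Nat.card {v : JS A C j // r ∉ Submodule.span F (Set.range v.1)} := ⟨_, fun _ => rfl⟩
  have hRR : ∀ j, RR (q : ℚ) j ≠ 0 := by
    intro j
    rw [RR, Finset.prod_ne_zero_iff]
    intro i _
    have := one_lt_pow₀ hqQ (Nat.succ_ne_zero i)
    rw [sub_ne_zero]
    exact this.ne'
  have h0 : (Nat.card (JS A C 0) : ℚ) = f 0 := by
    rw [card_split C r 0, hf, Nat.cast_add]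
    have : Nat.card {v : JS A C 0 // r ∈ Submodule.span F (Set.range v.1)} = 0 := by
      rw [Nat.card_eq_zero]; left
      refine ⟨fun v => hr ?_⟩
      have h1 := v.2
      rw [Set.range_eq_empty, Submodule.span_empty] at h1
      exact h1
    rw [this, Nat.cast_zero, zero_add]
  have h1 : ∀ j, (Nat.card (JS A C (j + 1)) : ℚ) = (q ^ (j + 1) - 1) * f j + f (j + 1) := by
    intro j
    rw [card_split C r (j + 1), Nat.cast_add, card_rel hr hrC hperp, Nat.cast_mul, hf, hf, Nat.cast_sub (Nat.one_le_pow _ _ (by omega))]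
    push_cast
    ring
  have h2 : ∀ n, ∑ j ∈ Finset.range (n + 1), (-1) ^ j / RR (q : ℚ) j * (Nat.card (JS A C j) : ℚ) = (-1) ^ n / RR (q : ℚ) n * f n := by
    intro n
    induction n with
    | zero => rw [Finset.sum_range_one, h0]
    | succ n ih =>
      rw [Finset.sum_range_succ, ih, h1, RR_succ, pow_succ]
      have h3 := hRR n
      have h4 : ((q : ℚ) ^ (n + 1) - 1) ≠ 0 := by
        have := one_lt_pow₀ hqQ (Nat.succ_ne_zero n)
        rw [sub_ne_zero]
        exact this.ne'
      field_simp
      ring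
  rw [h2]
  have h5 : f m = 0 := by
    rw [hf, Nat.cast_eq_zero, Nat.card_eq_zero]; left
    refine ⟨fun v => v.2 ?_⟩
    have h6 := JS_orth v.1.2
    have h7 := Frm.finrank_orth hA (Submodule.span F (Set.range v.1.1))
    have h8 : finrank F (Submodule.span F (Set.range v.1.1)) = m := by
      rw [finrank_span_eq_card v.1.2.1, Fintype.card_fin]
    rw [Submodule.eq_of_le_of_finrank_le h6 (by omega)]
    intro y hy
    have h9 : Submodule.span F (Set.range v.1.1) ≤ C := by
      rw [Submodule.span_le]
      rintro _ ⟨i, rfl⟩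
      exact v.1.2.2.1 i
    exact hperp y (h9 hy)
  rw [h5, mul_zero]

end Cfsg.Agent.H16.Un
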