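import Cfsg.Agent.H16_Un2

/-! Stabilisers of isotropic frames and unipotent elements in symplectic groups. -/

set_option autoImplicit false

namespace Cfsg.Agent.H16.Un

open Cfsg.Agent.H5 Module

variable {F : Type*} [Field F] {V : Type*} [AddCommGroup V] [Module F V]
variable {A : Frm F (RingHom.id F) (-1) (0 : F →+ F) V}

theorem pow_apply' (g : A.isom) (n : ℕ) (x : V) : (((g : V ≃ₗ[F] V).toLinearMap : Module.End F V) ^ n) x = ((g ^ n : A.isom) : V ≃ₗ[F] V) x := by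
  induction n generalizing x with
  | zero => rw [pow_zero, pow_zero]; rfl
  | succ n ih => rw [pow_succ', pow_succ', Module.End.mul_apply, ih]; rfl

theorem charP_End (p : ℕ) [CharP F p] [Nontrivial V] : CharP (Module.End F V) p :=
  charP_of_injective_algebraMap (algebraMap F (Module.End F V)).injective p

/-- a non-trivial unipotent element has a radical fixed vector -/
theorem exists_rad (p : ℕ) [Fact p.Prime] [CharP F p] (u : A.isom) (hu : ∃ k : ℕ, u ^ p ^ k = 1) (hu1 : u ≠ 1) :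
    ∃ r : V, r ≠ 0 ∧ (u : V ≃ₗ[F] V) r = r ∧ ∀ c, (u : V ≃ₗ[F] V) c = c → A.B c r = 0 := by
  classical
  have hV : Nontrivial V := by
    by_contra h
    rw [not_nontrivial_iff_subsingleton] at h
    apply hu1
    apply Subtype.ext
    ext x
    exact Subsingleton.elim _ _
  have := charP_End (F := F) (V := V) p
  set N : Module.End F V := ((u : V ≃ₗ[F] V).toLinearMap : Module.End F V) - 1 with hN
  have hNx : ∀ x, N x = (u : V ≃ₗ[F] V) x - x := fun x => rfl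
  have hnil : ∃ n : ℕ, N ^ n = 0 := by
    obtain ⟨k, hk⟩ := hu
    refine ⟨p ^ k, ?_⟩
    rw [hN, sub_pow_char_pow_of_commute _ _ (Commute.one_right _), one_pow]
    apply LinearMap.ext
    intro x
    rw [LinearMap.sub_apply, pow_apply', hk]
    exact sub_self _
  have hN0 : N ≠ 0 := by
    intro h
    apply hu1
    apply Subtype.ext
    ext x
    have h1 := hNx x
    rw [h, LinearMap.zero_apply] at h1
    exact (sub_eq_zero.1 h1.symm)
  obtain ⟨n, hn⟩ : ∃ n, n = Nat.find hnil := ⟨_, rfl⟩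
  have h1 : N ^ n = 0 := by rw [hn]; exact Nat.find_spec hnil
  have h2 : n ≠ 0 := by
    rintro h
    rw [h, pow_zero] at h1
    exact one_ne_zero h1
  have h3 : n ≠ 1 := by
    rintro h
    rw [h, pow_one] at h1
    exact hN0 h1
  obtain ⟨l, rfl⟩ : ∃ l, n = l + 2 := ⟨n - 2, by omega⟩
  have h4 : N ^ (l + 1) ≠ 0 := Nat.find_min hnil (by omega)
  obtain ⟨y, hy⟩ : ∃ y, (N ^ (l + 1)) y ≠ 0 := by
    by_contra h
    push Not at h
    exact h4 (LinearMap.ext h)
  refine ⟨(N ^ (l + 1)) y, hy, ?_, ?_⟩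
  · have h5 : N ((N ^ (l + 1)) y) = 0 := by
      rw [← Module.End.mul_apply, ← pow_succ', h1, LinearMap.zero_apply]
    rw [hNx] at h5
    exact sub_eq_zero.1 h5
  · intro c hc
    rw [pow_succ', Module.End.mul_apply, hNx, map_sub, sub_eq_zero]
    conv_lhs => rw [← hc]
    exact u.2.1 _ _

/-- pointwise stabilisers -/
def St (A : Frm F (RingHom.id F) (-1) (0 : F →+ F) V) {j : ℕ} (v : Fin j → V) : Subgroup A.isom where
  carrier := {g | ∀ i, (g : V ≃ₗ[F] V) (v i) = v i}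
  mul_mem' {a b} ha hb := fun i => by
    change (a : V ≃ₗ[F] V) ((b : V ≃ₗ[F] V) (v i)) = v i
    rw [hb i, ha i]
  one_mem' := fun i => rfl
  inv_mem' {a} ha := fun i => by
    change ((a : V ≃ₗ[F] V)⁻¹) (v i) = v i
    conv_lhs => rw [← ha i]
    exact (a : V ≃ₗ[F] V).symm_apply_apply _

theorem stab_count [Fintype F] [FiniteDimensional F V] (p : ℕ) [Fact p.Prime] [CharP F p] (hA : A.Nondeg) {j : ℕ} {v : Fin j → V}
    (hv : v ∈ JS A ⊤ j) : ∃ V0 : Submodule F V, (A.restrict V0).Nondeg ∧ finrank F V0 + 2 * j = finrank F V ∧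
      ∃ c : ℕ, 0 < c ∧ Nat.card (St A v) = c * Nat.card (A.restrict V0).isom ∧ pel p (St A v) = c * pel p (A.restrict V0).isom := by
  classical
  have : Finite V := Module.finite_of_finite F
  have : Finite (V ≃ₗ[F] V) := Finite.of_injective (fun g : V ≃ₗ[F] V => (g : V → V)) DFunLike.coe_injective
  set W := Submodule.span F (Set.range v) with hW
  have hWW : W ≤ A.orth W := JS_orth hv
  have hdW : finrank F W = j := by rw [hW, finrank_span_eq_card hv.1, Fintype.card_fin]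
  obtain ⟨Wc, hWc⟩ := W.exists_isCompl
  set V0 := Wc ⊓ A.orth W with hV0
  have hd : Disjoint W V0 := hWc.disjoint.mono_right inf_le_left
  have hs : W ⊔ V0 = A.orth W := by
    rw [hV0, ← sup_inf_assoc_of_le _ hWW, hWc.sup_eq_top, top_inf_eq]
  have h0W : ∀ x ∈ V0, ∀ w ∈ W, A.B w x = 0 := fun x hx w hw => hx.2 w hw
  have hXW : ∀ x ∈ A.orth W, ∀ w ∈ W, A.B w x = 0 := fun x hx w hw => hx w hw
  -- the projection
  set P : V →ₗ[F] V := Wc.projection W hWc.symm with hP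
  have hPm : ∀ x, x - P x ∈ W := fun x => Submodule.sub_projection_mem hWc.symm x
  have hPX : ∀ x ∈ A.orth W, P x ∈ V0 := by
    intro x hx
    refine ⟨Submodule.projection_apply_mem _ _, ?_⟩
    have : P x = x - (x - P x) := by abel
    rw [this]
    exact sub_mem hx (hWW (hPm x))
  have hPW : ∀ w ∈ W, P w = 0 := fun w hw => Submodule.projection_apply_right hWc.symm ⟨w, hw⟩
  have hP0 : ∀ x ∈ V0, P x = x := fun x hx => Submodule.projection_apply_left hWc.symm ⟨x, hx.1⟩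
  have hn0 : (A.restrict V0).Nondeg := by
    rw [Frm.nondeg_restrict_iff, eq_bot_iff]
    rintro x ⟨hx, hx'⟩
    have h1 : x ∈ A.orth (A.orth W) := by
      rw [← hs]
      intro y hy
      obtain ⟨w, hw, z, hz, rfl⟩ := Submodule.mem_sup.1 hy
      rw [map_add, LinearMap.add_apply, h0W x hx w hw, hx' z hz, add_zero]
    rw [Frm.orth_orth hA] at h1
    exact hd.le_bot ⟨h1, hx⟩
  have hdim : finrank F V0 + 2 * j = finrank F V := by
    have h1 := Frm.finrank_orth hA W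
    have h2 := Submodule.finrank_sup_add_finrank_inf_eq W V0
    rw [hs, hd.eq_bot, finrank_bot] at h2
    omega
  -- stabiliser elements
  have hfixW : ∀ h : St A v, ∀ w ∈ W, ((h : A.isom) : V ≃ₗ[F] V) w = w := by
    intro h w hw
    have : W ≤ LinearMap.ker (((h : A.isom) : V ≃ₗ[F] V).toLinearMap - LinearMap.id) := by
      rw [hW, Submodule.span_le]
      rintro _ ⟨i, rfl⟩
      rw [SetLike.mem_coe, LinearMap.mem_ker, LinearMap.sub_apply]
      exact sub_eq_zero.2 (h.2 i)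
    exact sub_eq_zero.1 (this hw)
  have hfixX : ∀ h : St A v, ∀ x ∈ A.orth W, ((h : A.isom) : V ≃ₗ[F] V) x ∈ A.orth W := by
    intro h x hx w hw
    rw [← hfixW h w hw, h.1.2.1]
    exact hx w hw
  have hV0X : V0 ≤ A.orth W := inf_le_right
  have uniq : ∀ (h : St A v) (g g' : (A.restrict V0).isom),
      (∀ x : V0, ((h : A.isom) : V ≃ₗ[F] V) x - ((g : V0 ≃ₗ[F] V0) x : V) ∈ W) →
      (∀ x : V0, ((h : A.isom) : V ≃ₗ[F] V) x - ((g' : V0 ≃ₗ[F] V0) x : V) ∈ W) → g = g' := by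
    intro h g g' h1 h2
    apply Subtype.ext
    ext x
    have h3 := sub_mem (h1 x) (h2 x)
    have h4 : ((h : A.isom) : V ≃ₗ[F] V) x - ((g : V0 ≃ₗ[F] V0) x : V) - (((h : A.isom) : V ≃ₗ[F] V) x - ((g' : V0 ≃ₗ[F] V0) x : V)) =
      ((g' : V0 ≃ₗ[F] V0) x : V) - ((g : V0 ≃ₗ[F] V0) x : V) := by abel
    rw [h4] at h3
    have h5 : ((g' : V0 ≃ₗ[F] V0) x : V) - ((g : V0 ≃ₗ[F] V0) x : V) = 0 := by
      have := hd.le_bot ⟨h3, sub_mem ((g' : V0 ≃ₗ[F] V0) x).2 ((g : V0 ≃ₗ[F] V0) x).2⟩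
      exact this
    exact (sub_eq_zero.1 h5).symm
  have Badd : ∀ w1 ∈ W, ∀ w2 ∈ W, ∀ z1 ∈ V0, ∀ z2 ∈ V0, A.B (w1 + z1) (w2 + z2) = A.B z1 z2 := by
    intro w1 h1 w2 h2 z1 h3 z2 h4
    rw [map_add, map_add, LinearMap.add_apply, LinearMap.add_apply, hXW _ (hWW h2) _ h1, A.refl (h0W _ h3 _ h2), h0W _ h4 _ h1, zero_add, zero_add, zero_add]
  have key : ∀ h : St A v, ∃ g : (A.restrict V0).isom, ∀ x : V0, ((h : A.isom) : V ≃ₗ[F] V) x - ((g : V0 ≃ₗ[F] V0) x : V) ∈ W := by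
    intro h
    let f : V0 →ₗ[F] V0 := LinearMap.codRestrict V0 (P ∘ₗ ((h : A.isom) : V ≃ₗ[F] V).toLinearMap ∘ₗ V0.subtype)
      (fun x => hPX _ (hfixX h _ (hV0X x.2)))
    have hf : ∀ x : V0, (f x : V) = P (((h : A.isom) : V ≃ₗ[F] V) x) := fun x => rfl
    obtain ⟨g, hg, hgf⟩ := Frm.exists_mem_isom hn0 f (by
      intro x y
      rw [Frm.restrict_B, Frm.restrict_B, hf, hf, ← h.1.2.1 x y]
      have e := Badd _ (hPm (((h : A.isom) : V ≃ₗ[F] V) x)) _ (hPm (((h : A.isom) : V ≃ₗ[F] V) y)) _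
        (hPX _ (hfixX h _ (hV0X x.2))) _ (hPX _ (hfixX h _ (hV0X y.2)))
      rw [sub_add_cancel, sub_add_cancel] at e
      exact e.symm) (fun x => by rw [Qz, Qz])
    refine ⟨⟨g, hg⟩, fun x => ?_⟩
    change _ - ((g x : V0) : V) ∈ W
    rw [hgf, hf]
    exact hPm _
  choose ρ0 hρ0 using key
  let ρ : St A v →* (A.restrict V0).isom := MonoidHom.mk' ρ0 (by
    intro h1 h2
    refine uniq (h1 * h2) _ _ (hρ0 _) fun x => ?_
    have e1 : (((h1 * h2 : St A v) : A.isom) : V ≃ₗ[F] V) x = ((h1 : A.isom) : V ≃ₗ[F] V) (((h2 : A.isom) : V ≃ₗ[F] V) x) := rfl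
    have e2 : (((ρ0 h1 * ρ0 h2 : (A.restrict V0).isom) : V0 ≃ₗ[F] V0) x : V) = ((ρ0 h1 : V0 ≃ₗ[F] V0) ((ρ0 h2 : V0 ≃ₗ[F] V0) x) : V) := rfl
    rw [e1, e2]
    have e3 := hρ0 h1 ((ρ0 h2 : V0 ≃ₗ[F] V0) x)
    have e4 := hρ0 h2 x
    have e5 : ((h1 : A.isom) : V ≃ₗ[F] V) (((h2 : A.isom) : V ≃ₗ[F] V) x - ((ρ0 h2 : V0 ≃ₗ[F] V0) x : V)) ∈ W := by
      rw [hfixW h1 _ e4]; exact e4
    rw [map_sub] at e5
    have e6 := add_mem e5 e3
    rwa [sub_add_sub_cancel] at e6)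
  have hρ : ∀ (h : St A v) (x : V0), ((h : A.isom) : V ≃ₗ[F] V) x - ((ρ h : V0 ≃ₗ[F] V0) x : V) ∈ W := hρ0
  have hsurj : Function.Surjective ρ := by
    intro g0
    obtain ⟨G0, hG0⟩ := LinearMap.exists_extend (V0.subtype ∘ₗ (g0 : V0 ≃ₗ[F] V0).toLinearMap)
    have hG : ∀ x : V0, G0 x = ((g0 : V0 ≃ₗ[F] V0) x : V) := fun x => LinearMap.congr_fun hG0 x
    let f : V →ₗ[F] V := LinearMap.id - P + G0 ∘ₗ P
    have hf : ∀ x, f x = (x - P x) + G0 (P x) := fun x => rfl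
    obtain ⟨g, hg, hgf⟩ := Frm.witt hA _ (A.orth W) rfl f (by
      intro x hx y hy
      rw [hf, hf]
      have e1 := hG ⟨P x, hPX x hx⟩
      have e2 := hG ⟨P y, hPX y hy⟩
      have e3 := Badd _ (hPm x) _ (hPm y) _ (((g0 : V0 ≃ₗ[F] V0) ⟨P x, hPX x hx⟩).2) _ (((g0 : V0 ≃ₗ[F] V0) ⟨P y, hPX y hy⟩).2)
      have e4 := Badd _ (hPm x) _ (hPm y) _ (hPX x hx) _ (hPX y hy)
      rw [sub_add_cancel, sub_add_cancel] at e4
      rw [e4]
      have e5 := g0.2.1 ⟨P x, hPX x hx⟩ ⟨P y, hPX y hy⟩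
      rw [Frm.restrict_B, Frm.restrict_B] at e5
      change G0 (P x) = _ at e1
      change G0 (P y) = _ at e2
      rw [e1, e2, e3]
      exact e5) (fun x _ => by rw [Qz, Qz]) (by
      intro x hx hfx
      rw [hf] at hfx
      have e1 := hG ⟨P x, hPX x hx⟩
      change G0 (P x) = _ at e1
      rw [e1] at hfx
      have e2 : (((g0 : V0 ≃ₗ[F] V0) ⟨P x, hPX x hx⟩ : V0) : V) ∈ W := by
        rw [eq_neg_of_add_eq_zero_right hfx]
        exact W.neg_mem (hPm x)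
      have e3 : (((g0 : V0 ≃ₗ[F] V0) ⟨P x, hPX x hx⟩ : V0) : V) = 0 := hd.le_bot ⟨e2, ((g0 : V0 ≃ₗ[F] V0) ⟨P x, hPX x hx⟩).2⟩
      have e4 : (⟨P x, hPX x hx⟩ : V0) = 0 := (g0 : V0 ≃ₗ[F] V0).map_eq_zero_iff.1 (Subtype.ext e3)
      have e5 : P x = 0 := congrArg Subtype.val e4
      rw [e3, add_zero, e5, sub_zero] at hfx
      exact hfx)
    have hgW : ∀ w ∈ W, g w = w := by
      intro w hw
      rw [hgf w (hWW hw), hf, hPW w hw, map_zero, sub_zero, add_zero]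
    refine ⟨⟨⟨g, hg⟩, fun i => hgW _ (Submodule.subset_span ⟨i, rfl⟩)⟩, ?_⟩
    refine uniq ⟨⟨g, hg⟩, fun i => hgW _ (Submodule.subset_span ⟨i, rfl⟩)⟩ _ _ (hρ _) fun x => ?_
    change g x - _ ∈ W
    rw [hgf x (hV0X x.2), hf, hP0 x x.2, hG, sub_self, zero_add, sub_self]
    exact W.zero_mem
  have hker : ∀ h : St A v, ρ h = 1 → ∃ k : ℕ, h ^ p ^ k = 1 := by
    intro h hh
    refine ⟨2, ?_⟩
    rcases subsingleton_or_nontrivial V with hV | hV
    · apply Subtype.ext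
      apply Subtype.ext
      ext x
      exact Subsingleton.elim _ _
    have := charP_End (F := F) (V := V) p
    set N : Module.End F V := (((h : A.isom) : V ≃ₗ[F] V).toLinearMap : Module.End F V) - 1 with hN
    have hNx : ∀ x, N x = ((h : A.isom) : V ≃ₗ[F] V) x - x := fun x => rfl
    have hN1 : ∀ x, N x ∈ A.orth W := by
      intro x w hw
      rw [hNx, map_sub, sub_eq_zero]
      conv_lhs => rw [← hfixW h w hw]
      exact h.1.2.1 _ _
    have hNW : ∀ w ∈ W, N w = 0 := fun w hw => by rw [hNx, hfixW h w hw, sub_self]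
    have hN0 : ∀ x ∈ V0, N x ∈ W := by
      intro x hx
      have e1 := hρ h ⟨x, hx⟩
      rw [hh] at e1
      exact e1
    have hN2 : ∀ x ∈ A.orth W, N x ∈ W := by
      intro x hx
      rw [← hs] at hx
      obtain ⟨w, hw, z, hz, rfl⟩ := Submodule.mem_sup.1 hx
      rw [map_add, hNW w hw, zero_add]
      exact hN0 z hz
    have hN3 : N ^ 3 = 0 := by
      apply LinearMap.ext
      intro x
      have e1 : (N ^ 3) x = N (N (N x)) := rfl
      rw [e1, hNW _ (hN2 _ (hN1 x)), LinearMap.zero_apply]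
    have hp2 : 3 ≤ p ^ 2 := by
      have := (Fact.out : p.Prime).two_le
      nlinarith
    have h1 : (((h : A.isom) : V ≃ₗ[F] V).toLinearMap : Module.End F V) ^ p ^ 2 = 1 := by
      have h2 : (((h : A.isom) : V ≃ₗ[F] V).toLinearMap : Module.End F V) = 1 + N := by rw [hN]; abel
      rw [h2, add_pow_char_pow_of_commute p 2 (Commute.one_left N), one_pow, pow_eq_zero_of_le hp2 hN3, add_zero]
    apply Subtype.ext
    apply Subtype.ext
    ext x
    have h3 := LinearMap.congr_fun h1 x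
    rw [pow_apply'] at h3
    exact h3
  have : Finite (V0 ≃ₗ[F] V0) := Finite.of_injective (fun g : V0 ≃ₗ[F] V0 => (g : V0 → V0)) DFunLike.coe_injective
  refine ⟨V0, hn0, hdim, Nat.card ρ.ker, Nat.card_pos, ?_, pel_hom p ρ hsurj hker⟩
  rw [← Nat.card_congr (QuotientGroup.quotientKerEquivOfSurjective ρ hsurj).toEquiv, mul_comm]
  exact ρ.ker.card_eq_card_quotient_mul_card_subgroup

end Cfsg.Agent.H16.Un
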