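import Mathlib
import Cfsg.Agent.H17_Base

set_option autoImplicit false
open Cfsg

/-! `A₄` in `GL₂(ℤ/2ᵏ)`. -/

namespace Cfsg.Agent.H17.A4GL

open Matrix

section alg
variable {R : Type*} [CommRing R]

/-- multiplication by `ω` -/
def Cm (R : Type*) [CommRing R] : Matrix (Fin 2) (Fin 2) R := !![0, -1; 1, -1]

/-- general element -/
def El (a0 a1 b0 b1 : R) : Matrix (Fin 2) (Fin 2) R := !![a0 + b0, b1 - a1 - b0; a1 + b1, a0 - a1 - b0]

theorem alg (h3 : ∀ x : R, 3 * x = 0 → x = 0) (a0 a1 b0 b1 : R) (h1 : El a0 a1 b0 b1 * El a0 a1 b0 b1 = 1)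
    (h2 : El a0 a1 b0 b1 * Cm R * El a0 a1 b0 b1 = Cm R * Cm R * El a0 a1 b0 b1 * (Cm R * Cm R)) :
    a1 = 0 ∧ a0 = 1 ∧ 2 * b0 = 0 ∧ 2 * b1 = 0 := by
  have e00 := congrFun (congrFun h1 0) 0
  have e01 := congrFun (congrFun h1 0) 1
  have e10 := congrFun (congrFun h1 1) 0
  have e11 := congrFun (congrFun h1 1) 1
  have f00 := congrFun (congrFun h2 0) 0
  have f01 := congrFun (congrFun h2 0) 1
  have f10 := congrFun (congrFun h2 1) 0
  have f11 := congrFun (congrFun h2 1) 1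
  simp [El, Cm, Matrix.mul_apply, Fin.sum_univ_two] at e00 e01 e10 e11 f00 f01 f10 f11
  set N := b0 ^ 2 - b0 * b1 + b1 ^ 2 with hN
  have k1 : 2 * a0 * a1 - a1 ^ 2 = 0 := by
    apply h3
    linear_combination 2 * (e10 - e01) - (e00 - e11)
  have kb0 : b0 * (2 * a0 - a1) = 0 := by linear_combination (e10 - e01) - 2 * k1
  have k0 : a0 ^ 2 - a1 ^ 2 + N - 1 = 0 := by linear_combination e00 - kb0
  have kb1 : b1 * (2 * a0 - a1) = 0 := by linear_combination e10 - k1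
  have l1 : (a0 ^ 2 - a1 ^ 2) - (2 * a0 * a1 - a1 ^ 2) - N - a0 + a1 = 0 := by
    apply h3
    linear_combination 2 * (f10 - f01) - (f00 - f11)
  have lb0 : (b0 * (-1 - a1 + a0) ) = (b0 * (-1 - a1 + a0) ) := rfl
  have l0 : - (2 * a0 * a1 - a1 ^ 2) - N + a1 = 0 := by
    apply h3
    linear_combination 3 * f00 - 3 * (f10 - f01) + 2 * (2 * (f10 - f01) - (f00 - f11))
  have ha1 : a1 = N := by linear_combination l0 + k1
  have ha0 : a0 = 1 - N := by linear_combination -l1 - k1 + k0 + ha1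
  have hN0 : N = 0 := by
    rw [ha1, ha0] at k0
    linear_combination -k0
  refine ⟨by rw [ha1, hN0], by rw [ha0, hN0, sub_zero], ?_, ?_⟩
  · rw [ha1, ha0, hN0] at kb0
    linear_combination kb0
  · rw [ha1, ha0, hN0] at kb1
    linear_combination kb1

theorem exists_form {t : R} (ht : 3 * t = 1) (M : Matrix (Fin 2) (Fin 2) R) : ∃ a0 a1 b0 b1, M = El a0 a1 b0 b1 := by
  set a1 := t * (2 * (M 1 0 - M 0 1) - (M 0 0 - M 1 1)) with ha1
  set b0 := (M 1 0 - M 0 1) - 2 * a1 with hb0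
  refine ⟨M 0 0 - b0, a1, b0, M 1 0 - a1, ?_⟩
  ext i j
  fin_cases i <;> fin_cases j
  · simp [El]
  · simp [El, hb0]; ring
  · simp [El]
  · simp only [El, hb0, ha1]
    simp
    linear_combination (-2 * (M 1 0 - M 0 1) + (M 0 0 - M 1 1)) * ht

end alg

theorem decA : ∀ a b c d : ZMod 2, (!![a, b; c, d] * !![a, b; c, d] * !![a, b; c, d] : Matrix (Fin 2) (Fin 2) (ZMod 2)) = 1 →
    (a = 1 ∧ b = 0 ∧ c = 0 ∧ d = 1) ∨ ((a - 1) * (d - 1) - b * c = 1 ∧ c = 1) := by decide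

theorem p1 : ∃ x : Equiv.Perm (Fin 4), Equiv.Perm.sign x = 1 ∧ x * x * x = 1 ∧ x ≠ 1 := by decide +kernel
theorem p2 : ∀ x v : Equiv.Perm (Fin 4), Equiv.Perm.sign x = 1 → Equiv.Perm.sign v = 1 → x * x * x = 1 → x ≠ 1 → v * v = 1 →
    v * x * v = x * x * v * (x * x) := by decide +kernel
theorem p3 : ∀ x h : Equiv.Perm (Fin 4), Equiv.Perm.sign x = 1 → Equiv.Perm.sign h = 1 → x * x * x = 1 → x ≠ 1 →
    ∃ i : Fin 3, (x ^ i.val * h) * (x ^ i.val * h) = 1 := by decide +kernel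

theorem cardA4 : Nat.card ↥(alternatingGroup (Fin 4)) = 12 := by
  rw [nat_card_alternatingGroup (α := Fin 4), Nat.card_fin]; rfl

section zmod
variable {k : ℕ}

/-- reduction mod 2 -/
def phi (hk : 1 ≤ k) : ZMod (2 ^ k) →+* ZMod 2 := ZMod.castHom (dvd_pow_self 2 (by omega)) (ZMod 2)

theorem isUnit_of (hk : 1 ≤ k) {u : ZMod (2 ^ k)} (hu : phi hk u = 1) : IsUnit u := by
  have hne : NeZero (2 ^ k) := ⟨by positivity⟩
  rw [← ZMod.natCast_zmod_val u, map_natCast] at hu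
  have h1 : ¬ 2 ∣ u.val := by
    rw [← ZMod.natCast_eq_zero_iff, hu]
    exact one_ne_zero
  rw [← ZMod.natCast_zmod_val u, ZMod.isUnit_iff_coprime]
  exact Nat.Coprime.pow_right k ((Nat.coprime_comm.1 ((Nat.Prime.coprime_iff_not_dvd Nat.prime_two).2 h1)))

theorem exists_third (k : ℕ) : ∃ t : ZMod (2 ^ k), 3 * t = 1 := by
  have h : Nat.Coprime 3 (2 ^ k) := Nat.Coprime.pow_right k (by norm_num)
  have h1 := (ZMod.isUnit_iff_coprime 3 (2 ^ k)).2 h
  obtain ⟨u, hu⟩ := h1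
  refine ⟨((u⁻¹ : (ZMod (2 ^ k))ˣ) : ZMod (2 ^ k)), ?_⟩
  have : (3 : ZMod (2 ^ k)) = u := by rw [hu]; norm_num
  rw [this, Units.mul_inv]

theorem two_mul_eq_zero (hk : 1 ≤ k) {b : ZMod (2 ^ k)} (hb : 2 * b = 0) : ∃ j : Fin 2, b = (j.val : ZMod (2 ^ k)) * 2 ^ (k - 1) := by
  have hne : NeZero (2 ^ k) := ⟨by positivity⟩
  have h1 : ((2 * b.val : ℕ) : ZMod (2 ^ k)) = 0 := by
    push_cast
    rw [ZMod.natCast_zmod_val]; exact hb
  rw [ZMod.natCast_eq_zero_iff] at h1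
  have h2 : 2 ^ k = 2 * 2 ^ (k - 1) := by rw [← pow_succ', Nat.sub_add_cancel hk]
  have h3 : 2 ^ (k - 1) ∣ b.val := by
    have h4 : 2 * 2 ^ (k - 1) ∣ 2 * b.val := by rw [← h2]; exact h1
    exact Nat.dvd_of_mul_dvd_mul_left (by norm_num) h4
  obtain ⟨j, hj⟩ := h3
  have h4 : b.val < 2 ^ k := b.val_lt
  have h5 : j < 2 := by
    by_contra h6
    have : 2 ^ (k - 1) * 2 ≤ 2 ^ (k - 1) * j := Nat.mul_le_mul_left _ (by omega)
    omega
  refine ⟨⟨j, h5⟩, ?_⟩
  rw [← ZMod.natCast_zmod_val b, hj]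
  push_cast
  ring

abbrev Mt (k : ℕ) := Matrix (Fin 2) (Fin 2) (ZMod (2 ^ k))

theorem conj_C (hk : 1 ≤ k) {x : GL (Fin 2) (ZMod (2 ^ k))} (h3 : x * x * x = 1) (h1 : x ≠ 1) :
    ∃ P : GL (Fin 2) (ZMod (2 ^ k)), ((P⁻¹ * x * P : GL (Fin 2) (ZMod (2 ^ k))) : Mt k) = Cm (ZMod (2 ^ k)) := by
  set X : Mt k := (x : Mt k) with hX
  have hX3 : X * X * X = 1 := by
    rw [hX, ← Units.val_mul, ← Units.val_mul, h3, Units.val_one]
  set a := X 0 0 with ha
  set b := X 0 1 with hb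
  set c := X 1 0 with hc
  set d := X 1 1 with hd
  have hXe : X = !![a, b; c, d] := by
    ext i j; fin_cases i <;> fin_cases j <;> rfl
  have hred : (!![phi hk a, phi hk b; phi hk c, phi hk d] * !![phi hk a, phi hk b; phi hk c, phi hk d] *
      !![phi hk a, phi hk b; phi hk c, phi hk d] : Matrix (Fin 2) (Fin 2) (ZMod 2)) = 1 := by
    have h4 : (!![phi hk a, phi hk b; phi hk c, phi hk d] : Matrix (Fin 2) (Fin 2) (ZMod 2)) = (phi hk).mapMatrix X := by
      rw [hXe]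
      ext i j; fin_cases i <;> fin_cases j <;> rfl
    rw [h4, ← map_mul, ← map_mul, hX3, map_one]
  have key : X * X + X + 1 = 0 ∧ IsUnit c := by
    rcases decA _ _ _ _ hred with ⟨h5, h6, h7, h8⟩ | ⟨h5, h6⟩
    · exfalso
      apply h1
      have hu : IsUnit (X * X + X + 1) := by
        rw [Matrix.isUnit_iff_isUnit_det]
        apply isUnit_of hk
        rw [hXe]
        simp [Matrix.det_fin_two, Matrix.mul_apply, Fin.sum_univ_two, h5, h6, h7, h8]
        decide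
      have h9 : (X - 1) * (X * X + X + 1) = 0 := by
        have : (X - 1) * (X * X + X + 1) = X * X * X - 1 := by noncomm_ring
        rw [this, hX3, sub_self]
      have h10 : X - 1 = 0 := by
        obtain ⟨u, hu⟩ := hu
        rw [← hu] at h9
        have := congrArg (· * ((u⁻¹ : (Mt k)ˣ) : Mt k)) h9
        simpa [mul_assoc] using this
      apply Units.ext
      rw [← hX, sub_eq_zero.1 h10]; rfl
    · refine ⟨?_, isUnit_of hk h6⟩
      have hu : IsUnit (X - 1) := by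
        rw [Matrix.isUnit_iff_isUnit_det]
        apply isUnit_of hk
        rw [hXe]
        simp [Matrix.det_fin_two]
        exact h5
      have h9 : (X - 1) * (X * X + X + 1) = 0 := by
        have : (X - 1) * (X * X + X + 1) = X * X * X - 1 := by noncomm_ring
        rw [this, hX3, sub_self]
      obtain ⟨u, hu⟩ := hu
      rw [← hu] at h9
      have := congrArg (((u⁻¹ : (Mt k)ˣ) : Mt k) * ·) h9
      simpa [← mul_assoc] using this
  obtain ⟨k1, k2⟩ := key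
  have hPu : IsUnit (!![1, a; 0, c] : Mt k) := by
    rw [Matrix.isUnit_iff_isUnit_det, Matrix.det_fin_two_of]
    simpa using k2
  obtain ⟨P, hP⟩ := hPu
  refine ⟨P, ?_⟩
  have h4 : (x : Mt k) * P = P * Cm (ZMod (2 ^ k)) := by
    rw [hP, ← hX, hXe, Cm]
    rw [hXe] at k1
    have e00 := congrFun (congrFun k1 0) 0
    have e10 := congrFun (congrFun k1 1) 0
    simp [Matrix.mul_apply, Fin.sum_univ_two] at e00 e10
    ext i j; fin_cases i <;> fin_cases j <;> simp [Matrix.mul_apply, Fin.sum_univ_two]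
    · linear_combination e00
    · linear_combination e10
  rw [Units.val_mul, Units.val_mul, mul_assoc, h4, ← mul_assoc, Units.inv_mul, one_mul]

/-- the set of matrices of the standard `A₄`. -/
def std (k : ℕ) (x : Fin 3 × Fin 2 × Fin 2) : Mt k :=
  Cm (ZMod (2 ^ k)) ^ x.1.val * El 1 0 ((x.2.1.val : ZMod (2 ^ k)) * 2 ^ (k - 1)) ((x.2.2.val : ZMod (2 ^ k)) * 2 ^ (k - 1))

theorem normal_form (hk : 1 ≤ k) (H : Subgroup (GL (Fin 2) (ZMod (2 ^ k)))) (e : H ≃* alternatingGroup (Fin 4)) :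
    ∃ P : GL (Fin 2) (ZMod (2 ^ k)), ∀ h : GL (Fin 2) (ZMod (2 ^ k)), h ∈ H.map (MulAut.conj P).toMonoidHom ↔
      ∃ y, (h : Mt k) = std k y := by
  have hne : NeZero (2 ^ k) := ⟨by positivity⟩
  obtain ⟨σ, hσ1, hσ3, hσ⟩ := p1
  set x₀ : alternatingGroup (Fin 4) := ⟨σ, Equiv.Perm.mem_alternatingGroup.2 hσ1⟩ with hx₀
  set x : H := e.symm x₀ with hx
  have hex : e x = x₀ := e.apply_symm_apply x₀
  have hx3 : (x : GL (Fin 2) (ZMod (2 ^ k))) * x * x = 1 := by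
    have : x * x * x = 1 := by
      apply e.injective
      rw [map_mul, map_mul, hex, map_one]
      exact Subtype.ext hσ3
    exact congrArg Subtype.val this
  have hx1 : (x : GL (Fin 2) (ZMod (2 ^ k))) ≠ 1 := by
    intro h
    have : x = 1 := Subtype.ext h
    rw [this, map_one] at hex
    exact hσ (congrArg Subtype.val hex).symm
  obtain ⟨P, hP⟩ := conj_C hk hx3 hx1
  have f2 : ∀ v : H, v * v = 1 → v * x * v = x * x * v * (x * x) := by
    intro v hv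
    apply e.injective
    simp only [map_mul, hex]
    apply Subtype.ext
    exact p2 σ (e v : Equiv.Perm (Fin 4)) hσ1 (Equiv.Perm.mem_alternatingGroup.1 (e v).2) hσ3 hσ (by
      have := congrArg e hv
      rw [map_mul, map_one] at this
      exact congrArg Subtype.val this)
  have f3 : ∀ h : H, ∃ i : Fin 3, (x ^ i.val * h) * (x ^ i.val * h) = 1 := by
    intro h
    obtain ⟨i, hi⟩ := p3 σ (e h : Equiv.Perm (Fin 4)) hσ1 (Equiv.Perm.mem_alternatingGroup.1 (e h).2) hσ3 hσ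
    refine ⟨i, ?_⟩
    apply e.injective
    rw [map_mul, map_mul, map_pow, hex, map_one]
    exact Subtype.ext hi
  obtain ⟨t, ht⟩ := exists_third k
  have h3 : ∀ y : ZMod (2 ^ k), 3 * y = 0 → y = 0 := by
    intro y hy
    have : y = (3 * t) * y := by rw [ht, one_mul]
    rw [this]
    linear_combination t * hy
  have hC3 : Cm (ZMod (2 ^ k)) * Cm (ZMod (2 ^ k)) * Cm (ZMod (2 ^ k)) = 1 := by
    unfold Cm
    ext i j; fin_cases i <;> fin_cases j <;> simp [Matrix.mul_apply, Fin.sum_univ_two]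
  set x' := P⁻¹ * (x : GL (Fin 2) (ZMod (2 ^ k))) * P with hx'
  -- forward direction
  have fwd : ∀ h : GL (Fin 2) (ZMod (2 ^ k)), h ∈ H.map (MulAut.conj P⁻¹).toMonoidHom → ∃ y, (h : Mt k) = std k y := by
    rintro _ ⟨h, hh, rfl⟩
    obtain ⟨i, hi⟩ := f3 ⟨h, hh⟩
    set v : H := x ^ i.val * ⟨h, hh⟩ with hv
    have hv2 := f2 v hi
    set v' := P⁻¹ * (v : GL (Fin 2) (ZMod (2 ^ k))) * P with hv'
    have g1 : v' * v' = 1 := by
      have : v' * v' = P⁻¹ * ((v : GL (Fin 2) (ZMod (2 ^ k))) * v) * P := by rw [hv']; group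
      rw [this]
      have h4 : (v : GL (Fin 2) (ZMod (2 ^ k))) * v = 1 := congrArg Subtype.val hi
      rw [h4]; group
    have g2 : v' * x' * v' = x' * x' * v' * (x' * x') := by
      have e1 : v' * x' * v' = P⁻¹ * ((v : GL (Fin 2) (ZMod (2 ^ k))) * x * v) * P := by rw [hv', hx']; group
      have e2 : x' * x' * v' * (x' * x') = P⁻¹ * ((x : GL (Fin 2) (ZMod (2 ^ k))) * x * v * (x * x)) * P := by
        rw [hv', hx']; group
      have h4 : (v : GL (Fin 2) (ZMod (2 ^ k))) * x * v = x * x * v * (x * x) := congrArg Subtype.val hv2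
      rw [e1, e2, h4]
    have m1 : (v' : Mt k) * v' = 1 := by rw [← Units.val_mul, g1, Units.val_one]
    have m2 : (v' : Mt k) * Cm (ZMod (2 ^ k)) * v' = Cm (ZMod (2 ^ k)) * Cm (ZMod (2 ^ k)) * v' * (Cm (ZMod (2 ^ k)) * Cm (ZMod (2 ^ k))) := by
      have := congrArg Units.val g2
      simp only [Units.val_mul] at this
      rw [← hP]; simpa only [Units.val_mul, mul_assoc] using this
    obtain ⟨a0, a1, b0, b1, hform⟩ := exists_form ht (v' : Mt k)
    rw [hform] at m1 m2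
    obtain ⟨q1, q2, q3, q4⟩ := alg h3 a0 a1 b0 b1 m1 m2
    obtain ⟨j0, hj0⟩ := two_mul_eq_zero hk q3
    obtain ⟨j1, hj1⟩ := two_mul_eq_zero hk q4
    have hconj : (MulAut.conj P⁻¹) h = P⁻¹ * h * P := by rw [MulAut.conj_apply, inv_inv]
    have hh' : x' ^ i.val * (P⁻¹ * h * P) = v' := by
      have : (v : GL (Fin 2) (ZMod (2 ^ k))) = (x : GL (Fin 2) (ZMod (2 ^ k))) ^ i.val * h := rfl
      rw [hv', this, hx']
      have e1 : (P⁻¹ * (x : GL (Fin 2) (ZMod (2 ^ k))) * P) ^ i.val = P⁻¹ * (x : GL (Fin 2) (ZMod (2 ^ k))) ^ i.val * P := by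
        have := conj_pow (i := i.val) (a := P⁻¹) (b := (x : GL (Fin 2) (ZMod (2 ^ k))))
        rwa [inv_inv] at this
      rw [e1]; group
    have hxx3 : x' * x' * x' = 1 := by
      have : x' * x' * x' = P⁻¹ * ((x : GL (Fin 2) (ZMod (2 ^ k))) * x * x) * P := by rw [hx']; group
      rw [this, hx3]; group
    have hval : ∀ j : ℕ, ((x' ^ j : GL (Fin 2) (ZMod (2 ^ k))) : Mt k) = Cm (ZMod (2 ^ k)) ^ j := by
      intro j; rw [Units.val_pow_eq_pow_val, hP]
    show ∃ y, ((MulAut.conj P⁻¹ h : GL (Fin 2) (ZMod (2 ^ k))) : Mt k) = std k y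
    rw [hconj]
    -- h' = x'^(3-i) v'
    obtain ⟨j, hj⟩ : ∃ j : Fin 3, P⁻¹ * h * P = x' ^ j.val * v' := by
      fin_cases i
      · refine ⟨0, ?_⟩
        rw [← hh']; simp
      · refine ⟨2, ?_⟩
        rw [← hh']
        have : x' ^ (2 : Fin 3).val * (x' ^ (1 : ℕ) * (P⁻¹ * h * P)) = (x' * x' * x') * (P⁻¹ * h * P) := by
          show x' ^ 2 * _ = _
          rw [pow_two, pow_one]; simp only [mul_assoc]
        exact (by rw [this, hxx3, one_mul] : x' ^ (2 : Fin 3).val * (x' ^ (1 : ℕ) * (P⁻¹ * h * P)) = P⁻¹ * h * P).symm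
      · refine ⟨1, ?_⟩
        rw [← hh']
        have : x' ^ (1 : Fin 3).val * (x' ^ (2 : ℕ) * (P⁻¹ * h * P)) = (x' * x' * x') * (P⁻¹ * h * P) := by
          show x' ^ 1 * _ = _
          rw [pow_two, pow_one]; simp only [mul_assoc]
        exact (by rw [this, hxx3, one_mul] : x' ^ (1 : Fin 3).val * (x' ^ (2 : ℕ) * (P⁻¹ * h * P)) = P⁻¹ * h * P).symm
    refine ⟨(j, j0, j1), ?_⟩
    rw [hj, Units.val_mul, hval, hform, q1, q2, hj0, hj1]
    rfl
  refine ⟨P⁻¹, fun h => ⟨fwd h, ?_⟩⟩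
  -- counting
  set H' := H.map (MulAut.conj P⁻¹).toMonoidHom with hH'
  have hcard : Nat.card H' = 12 := by
    rw [hH', Subgroup.card_map_of_injective (MulAut.conj P⁻¹).injective, Nat.card_congr e.toEquiv, cardA4]
  have hsub : (fun h : GL (Fin 2) (ZMod (2 ^ k)) => (h : Mt k)) '' (H' : Set _) ⊆ Set.range (std k) := by
    rintro _ ⟨h, hh, rfl⟩
    obtain ⟨y, hy⟩ := fwd h hh
    exact ⟨y, hy.symm⟩
  have hinj : Function.Injective (fun h : GL (Fin 2) (ZMod (2 ^ k)) => (h : Mt k)) := fun a b h => Units.ext h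
  have hn1 : ((fun h : GL (Fin 2) (ZMod (2 ^ k)) => (h : Mt k)) '' (H' : Set _)).ncard = 12 := by
    rw [Set.ncard_image_of_injective _ hinj, ← Nat.card_coe_set_eq]
    exact hcard
  have hn2 : (Set.range (std k)).ncard ≤ 12 := by
    rw [← Set.image_univ]
    refine (Set.ncard_image_le (Set.toFinite _)).trans ?_
    rw [Set.ncard_univ, Nat.card_eq_fintype_card]
    rfl
  have heq := Set.eq_of_subset_of_ncard_le hsub (by rw [hn1]; exact hn2) (Set.finite_range _)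
  rintro ⟨y, hy⟩
  have h4 : (h : Mt k) ∈ (fun h : GL (Fin 2) (ZMod (2 ^ k)) => (h : Mt k)) '' (H' : Set _) := by
    rw [heq]; exact ⟨y, hy.symm⟩
  obtain ⟨h', hh', hh''⟩ := h4
  rw [← hinj hh'']; exact hh'

theorem main (hk : 1 ≤ k) (H₁ H₂ : Subgroup (GL (Fin 2) (ZMod (2 ^ k)))) (e₁ : H₁ ≃* alternatingGroup (Fin 4))
    (e₂ : H₂ ≃* alternatingGroup (Fin 4)) : ∃ g : GL (Fin 2) (ZMod (2 ^ k)), H₂ = H₁.map (MulAut.conj g).toMonoidHom := by
  obtain ⟨P, hP⟩ := normal_form hk H₁ e₁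
  obtain ⟨Q, hQ⟩ := normal_form hk H₂ e₂
  have h1 : H17.Base.cj P H₁ = H17.Base.cj Q H₂ := by
    ext h
    rw [H17.Base.cj, hP, ← hQ]
  refine ⟨Q⁻¹ * P, ?_⟩
  show H₂ = H17.Base.cj (Q⁻¹ * P) H₁
  rw [H17.Base.cj_mul, h1, H17.Base.cj_inv_cj]

end zmod

end Cfsg.Agent.H17.A4GL
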