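import Cfsg.Agent.H17_Tr3

set_option autoImplicit false
open Cfsg

/-! An Alperin type argument for functions on Sylow subgroups. -/

namespace Cfsg.Agent.H17.Alp

open Cfsg.Agent.H17.Base Cfsg.Agent.H17.Tr

variable {Γ : Type*} [Group Γ] {X : Type*}

/-- two different values at Sylow subgroups over `T`, the first one with property `D` -/
def TT (p : ℕ) (M P : Subgroup Γ) (σ : Γ → X) (D : Subgroup Γ → X → Prop) (T : Subgroup Γ) : Prop :=
  IsPGroup p T ∧ ∃ g ∈ M, ∃ g' ∈ M, T ≤ cj g P ∧ T ≤ cj g' P ∧ σ g ≠ σ g' ∧ D T (σ g)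

def TTn (p : ℕ) (M P : Subgroup Γ) (σ : Γ → X) (D : Subgroup Γ → X → Prop) (T : Subgroup Γ) (g : Γ) : Prop :=
  IsPGroup p T ∧ g ∈ M ∧ T ≤ cj g P ∧ IsSylowIn p (cj g P ⊓ Nz T) (M ⊓ Nz T) ∧ D T (σ g) ∧
    ∃ n ∈ M ⊓ Nz T, σ (n * g) ≠ σ g

variable {p : ℕ} [Fact p.Prime] [Finite Γ] {M P : Subgroup Γ} {σ : Γ → X} {D : Subgroup Γ → X → Prop}

theorem lt_inf_Nz {Q R : Subgroup Γ} (hR : IsPGroup p R) (h : Q < R) : Q < R ⊓ Nz Q := by
  obtain ⟨x, hx, hxN, hxQ⟩ := exists_mem_Nz_notMem hR h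
  refine lt_of_le_of_ne (le_inf h.le Subgroup.le_normalizer) ?_
  intro h1
  apply hxQ
  rw [h1]
  exact ⟨hx, hxN⟩

theorem exists_TTn (hP : IsSylowIn p P M)
    (hwd : ∀ g ∈ M, ∀ g' ∈ M, cj g P = cj g' P → σ g = σ g')
    (hD : ∀ T T' y, T ≤ T' → D T y → D T' y) {T : Subgroup Γ} (hT : TT p M P σ D T) :
    ∃ T' g, TTn p M P σ D T' g ∧ Nat.card T ≤ Nat.card T' := by
  obtain ⟨T', hT', hmax⟩ := (Set.toFinite {T | TT p M P σ D T}).exists_maximalFor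
    (fun T : Subgroup Γ => Nat.card ↥T) _ ⟨T, hT⟩
  have hmax' : ∀ T'', TT p M P σ D T'' → Nat.card T'' ≤ Nat.card T' := by
    intro T'' h1
    rcases le_total (Nat.card T'') (Nat.card T') with h2 | h2
    · exact h2
    · exact hmax h1 h2
  obtain ⟨hT'p, g, hg, g', hg', hTg, hTg', hne, hDg⟩ := hT'
  have hcard : ∀ g, Nat.card (cj g P) = Nat.card P := fun g => card_cj g P
  have hlt1 : T' < cj g P := by
    refine lt_of_le_of_ne hTg ?_
    intro h1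
    apply hne
    apply hwd g hg g' hg'
    rw [← h1]
    apply Subgroup.eq_of_le_of_card_ge hTg'
    rw [h1, hcard, hcard]
  have hlt2 : T' < cj g' P := by
    refine lt_of_le_of_ne hTg' ?_
    intro h1
    apply hne
    apply hwd g hg g' hg'
    rw [← h1]
    symm
    apply Subgroup.eq_of_le_of_card_ge hTg
    rw [h1, hcard, hcard]
  have hSy : ∀ h ∈ M, IsSylowIn p (cj h P) M := by
    intro h hh
    have := hP.conj h
    rwa [cj_eq_of_mem hh] at this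
  have hK1 := lt_inf_Nz (hSy g hg).isPGroup hlt1
  have hK2 := lt_inf_Nz (hSy g' hg').isPGroup hlt2
  have hK1p : IsPGroup p ↥(cj g P ⊓ Nz T') := (hSy g hg).isPGroup.to_le inf_le_left
  have hK2p : IsPGroup p ↥(cj g' P ⊓ Nz T') := (hSy g' hg').isPGroup.to_le inf_le_left
  have hK1M : cj g P ⊓ Nz T' ≤ M ⊓ Nz T' := inf_le_inf_right _ (hSy g hg).le
  have hK2M : cj g' P ⊓ Nz T' ≤ M ⊓ Nz T' := inf_le_inf_right _ (hSy g' hg').le
  obtain ⟨Q1, hKQ1, hQ1⟩ := exists_isSylowIn_ge hK1p hK1M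
  obtain ⟨Q2, hKQ2, hQ2⟩ := exists_isSylowIn_ge hK2p hK2M
  obtain ⟨R1, hQR1, hR1⟩ := exists_isSylowIn_ge hQ1.isPGroup (hQ1.le.trans inf_le_left)
  obtain ⟨h1, hh1, hR1e⟩ := hP.exists_conj hR1
  have hQ1e : R1 ⊓ Nz T' = Q1 := by
    apply hQ1.eq_of_le
    · exact inf_le_inf_right _ hR1.le
    · exact hR1.isPGroup.to_le inf_le_left
    · exact le_inf hQR1 (hQ1.le.trans inf_le_right)
  have hσ1 : σ h1 = σ g := by
    by_contra hcon
    have h5 : TT p M P σ D (cj g P ⊓ Nz T') := by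
      refine ⟨hK1p, g, hg, h1, hh1, inf_le_left, ?_, fun h => hcon h.symm, hD _ _ _ hK1.le hDg⟩
      rw [← hR1e]
      exact hKQ1.trans hQR1
    have h6 := hmax' _ h5
    exact absurd (Subgroup.eq_of_le_of_card_ge hK1.le h6) hK1.ne
  obtain ⟨n, hn, hnQ⟩ := hQ1.exists_conj hQ2
  refine ⟨T', h1, ⟨hT'p, hh1, ?_, ?_, ?_, n, hn, ?_⟩, hmax' _ hT⟩
  · rw [← hR1e]
    exact hK1.le.trans (hKQ1.trans hQR1)
  · rw [← hR1e, hQ1e]
    exact hQ1
  · rw [hσ1]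
    exact hDg
  · intro h5
    -- K2 is in two Sylow subgroups
    apply absurd _ hK2.ne
    apply Subgroup.eq_of_le_of_card_ge hK2.le
    apply hmax'
    have h6 : cj g' P ⊓ Nz T' ≤ cj (n * h1) P := by
      refine hKQ2.trans ?_
      rw [hnQ, cj_mul, ← hR1e]
      exact cj_mono hQR1
    refine ⟨hK2p, n * h1, M.mul_mem hn.1 hh1, g', hg', h6, inf_le_left, ?_, ?_⟩
    · rw [h5, hσ1]
      exact hne
    · rw [h5, hσ1]
      exact hD _ _ _ hK2.le hDg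

omit [Fact p.Prime] in
theorem exists_max (h : ∃ T g, TTn p M P σ D T g) :
    ∃ T g, TTn p M P σ D T g ∧ ∀ T' g', TTn p M P σ D T' g' →
      Nat.card ↥(cj g' P ⊓ Nz T') ≤ Nat.card ↥(cj g P ⊓ Nz T) := by
  obtain ⟨T, g, hTg⟩ := h
  obtain ⟨⟨T', g'⟩, h1, hmax⟩ := (Set.toFinite {a : Subgroup Γ × Γ | TTn p M P σ D a.1 a.2}).exists_maximalFor
    (fun a => Nat.card ↥(cj a.2 P ⊓ Nz a.1)) _ ⟨(T, g), hTg⟩
  refine ⟨T', g', h1, ?_⟩
  intro T'' g'' h2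
  rcases le_total (Nat.card ↥(cj g'' P ⊓ Nz T'')) (Nat.card ↥(cj g' P ⊓ Nz T')) with h3 | h3
  · exact h3
  · exact hmax (j := (T'', g'')) h2 h3

theorem max_fix (hP : IsSylowIn p P M) (hσ : ∀ n g g', σ g = σ g' → σ (n * g) = σ (n * g'))
    (hwd : ∀ g ∈ M, ∀ g' ∈ M, cj g P = cj g' P → σ g = σ g')
    (hD : ∀ T T' y, T ≤ T' → D T y → D T' y) {T : Subgroup Γ} {g : Γ} (hT : TTn p M P σ D T g)
    (hmax : ∀ T' g', TTn p M P σ D T' g' → Nat.card ↥(cj g' P ⊓ Nz T') ≤ Nat.card ↥(cj g P ⊓ Nz T))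
    {J : Subgroup Γ} (hJ : J ≤ cj g P ⊓ Nz T) (hJN : Nz (cj g P ⊓ Nz T) ≤ Nz J) (hDJ : D J (σ g))
    (hlt : cj g P ⊓ Nz T ≠ cj g P) : ∀ n ∈ M ⊓ Nz J, σ (n * g) = σ g := by
  intro n hn
  by_contra hne
  obtain ⟨hTp, hg, hTg, hQS, hDT, -⟩ := hT
  set Q := cj g P ⊓ Nz T with hQ
  have hRS : IsSylowIn p (cj g P) M := by
    have := hP.conj g
    rwa [cj_eq_of_mem hg] at this
  have hQR : Q < cj g P := lt_of_le_of_ne inf_le_left hlt
  have hL := lt_inf_Nz hRS.isPGroup hQR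
  have hLp : IsPGroup p ↥(cj g P ⊓ Nz Q) := hRS.isPGroup.to_le inf_le_left
  obtain ⟨Q2, hLQ2, hQ2⟩ := exists_isSylowIn_ge (H := M ⊓ Nz J) hLp
    (le_inf (inf_le_left.trans hRS.le) (inf_le_right.trans hJN))
  obtain ⟨R2, hQR2, hR2⟩ := exists_isSylowIn_ge hQ2.isPGroup (hQ2.le.trans inf_le_left)
  obtain ⟨g2, hg2, hR2e⟩ := hP.exists_conj hR2
  have hJR2 : J ≤ cj g2 P := by
    rw [← hR2e]
    exact hJ.trans (hL.le.trans (hLQ2.trans hQR2))
  have hQ2e : R2 ⊓ Nz J = Q2 := by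
    apply hQ2.eq_of_le
    · exact inf_le_inf_right _ hR2.le
    · exact hR2.isPGroup.to_le inf_le_left
    · exact le_inf hQR2 (hQ2.le.trans inf_le_right)
  have hcardL : Nat.card Q < Nat.card ↥(cj g P ⊓ Nz Q) := by
    by_contra h1
    exact hL.ne (Subgroup.eq_of_le_of_card_ge hL.le (not_lt.mp h1))
  by_cases hx : σ g2 = σ g
  · -- J is in TTn
    have h1 : TTn p M P σ D J g2 := by
      refine ⟨hRS.isPGroup.to_le (hJ.trans inf_le_left), hg2, hJR2, ?_, ?_, n, hn, ?_⟩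
      · rw [← hR2e, hQ2e]
        exact hQ2
      · rw [hx]
        exact hDJ
      · rw [hσ n g2 g hx, hx]
        exact hne
    have h2 := hmax J g2 h1
    rw [← hR2e, hQ2e] at h2
    have h3 : Nat.card ↥(cj g P ⊓ Nz Q) ≤ Nat.card Q2 := Subgroup.card_le_of_le hLQ2
    omega
  · have h1 : TT p M P σ D (cj g P ⊓ Nz Q) := by
      refine ⟨hLp, g, hg, g2, hg2, inf_le_left, ?_, fun h => hx h.symm, ?_⟩
      · rw [← hR2e]
        exact hLQ2.trans hQR2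
      · exact hD _ _ _ (hJ.trans hL.le) hDJ
    obtain ⟨T'', g'', h2, h3⟩ := exists_TTn hP hwd hD h1
    have h4 := hmax T'' g'' h2
    have h5 : Nat.card T'' ≤ Nat.card ↥(cj g'' P ⊓ Nz T'') :=
      Subgroup.card_le_of_le (le_inf h2.2.2.1 Subgroup.le_normalizer)
    omega

/-- at a maximal choice the subgroup is smaller than the Sylow subgroup of its normalizer -/
theorem card_lt (hP : IsSylowIn p P M) (hwd : ∀ g ∈ M, ∀ g' ∈ M, cj g P = cj g' P → σ g = σ g')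
    {T : Subgroup Γ} {g : Γ} (hT : TTn p M P σ D T g) :
    Nat.card T < Nat.card ↥(cj g P ⊓ Nz T) := by
  obtain ⟨hTp, hg, hTg, hQS, hDT, n, hn, hne⟩ := hT
  have hRS : IsSylowIn p (cj g P) M := by
    have := hP.conj g
    rwa [cj_eq_of_mem hg] at this
  have hlt : T < cj g P := by
    refine lt_of_le_of_ne hTg ?_
    intro h1
    apply hne
    apply hwd _ (M.mul_mem hn.1 hg) _ hg
    rw [cj_mul, ← h1]
    exact cj_eq_of_mem_Nz hn.2
  have hL := lt_inf_Nz hRS.isPGroup hlt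
  by_contra h1
  exact hL.ne (Subgroup.eq_of_le_of_card_ge hL.le (not_lt.mp h1))

end Cfsg.Agent.H17.Alp
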