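import Mathlib

/-!
# Norm lemma: a group `H` with a fixed-point-free normalizing element `b` of order `p`
-/

set_option autoImplicit false
set_option linter.all false

namespace Cfsg.Agent.H17.BF

variable {N W : Type*} [Group N] [Finite N] [CommGroup W] [MulDistribMulAction N W]

theorem norm_lemma {p : ℕ} [hp : Fact p.Prime] (H : Subgroup N) (b : N) (hb : b ^ p = 1) (hbH : b ∈ Subgroup.normalizer (H : Set N))
    (hHp : (Nat.card H).Coprime p) (hHb : ∀ h ∈ H, h * b = b * h → h = 1) (hWp : ∀ w : W, w ^ p = 1)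
    (hfix : ∀ w : W, (∀ h ∈ H, h • w = w) → w = 1)
    (hN : ∀ w : W, ∏ i ∈ Finset.range p, (b ^ i) • w = 1) : ∀ w : W, w = 1 := by
  classical
  intro x
  haveI : Fintype H := Fintype.ofFinite H
  have hnorm : ∀ i : ℕ, ∀ h ∈ H, b ^ i * h * (b ^ i)⁻¹ ∈ H := by
    intro i h hh
    have : b ^ i ∈ Subgroup.normalizer (H : Set N) := Subgroup.pow_mem _ hbH i
    exact (Subgroup.mem_normalizer_iff.mp this h).mp hh
  -- sums over H are fixed
  have hsum : ∀ y : W, ∏ k : H, (k : N) • y = 1 := by
    intro y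
    apply hfix
    intro h hh
    rw [Finset.smul_prod']
    have : ∀ k : H, h • ((k : N) • y) = ((⟨h, hh⟩ * k : H) : N) • y := by
      intro k; rw [← mul_smul]; rfl
    rw [Finset.prod_congr rfl (fun k _ => this k)]
    exact Fintype.prod_bijective (fun k : H => ⟨h, hh⟩ * k) (Group.mulLeft_bijective _) _ _ (fun _ => rfl)
  have h1 : ∏ h : H, (h : N) • (∏ i ∈ Finset.range p, (b ^ i) • ((h : N)⁻¹ • x)) = 1 := by
    apply Finset.prod_eq_one
    intro h _
    rw [hN, smul_one]
  have h2 : ∏ h : H, (h : N) • (∏ i ∈ Finset.range p, (b ^ i) • ((h : N)⁻¹ • x)) =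
      ∏ i ∈ Finset.range p, ∏ h : H, ((h : N) * b ^ i * (h : N)⁻¹) • x := by
    rw [Finset.prod_comm]
    apply Finset.prod_congr rfl
    intro h _
    rw [Finset.smul_prod']
    apply Finset.prod_congr rfl
    intro i _
    rw [mul_smul, mul_smul]
  have h3 : ∀ i ∈ Finset.range p, i ≠ 0 → ∏ h : H, ((h : N) * b ^ i * (h : N)⁻¹) • x = 1 := by
    intro i hi hi0
    rw [Finset.mem_range] at hi
    let e : H → H := fun h => ⟨(h : N) * (b ^ i * (h : N)⁻¹ * (b ^ i)⁻¹), H.mul_mem h.2 (hnorm i _ (H.inv_mem h.2))⟩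
    have hcop : i.Coprime p := by
      rw [Nat.coprime_comm]
      exact (Nat.Prime.coprime_iff_not_dvd hp.out).mpr (fun hd => by
        have := Nat.le_of_dvd (Nat.pos_of_ne_zero hi0) hd
        omega)
    have hinj : Function.Injective e := by
      intro h k hhk
      have h4 : (h : N) * (b ^ i * (h : N)⁻¹ * (b ^ i)⁻¹) = (k : N) * (b ^ i * (k : N)⁻¹ * (b ^ i)⁻¹) :=
        congrArg Subtype.val hhk
      have h5 : Commute ((k : N)⁻¹ * h) (b ^ i) := by
        have h6 : (h : N) * b ^ i * (h : N)⁻¹ = (k : N) * b ^ i * (k : N)⁻¹ := by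
          have := congrArg (fun t => t * b ^ i) h4
          simp only [mul_assoc, inv_mul_cancel, mul_one] at this
          simpa only [mul_assoc] using this
        show (k : N)⁻¹ * h * b ^ i = b ^ i * ((k : N)⁻¹ * h)
        calc (k : N)⁻¹ * h * b ^ i = (k : N)⁻¹ * ((h : N) * b ^ i * (h : N)⁻¹) * h := by group
          _ = (k : N)⁻¹ * ((k : N) * b ^ i * (k : N)⁻¹) * h := by rw [h6]
          _ = b ^ i * ((k : N)⁻¹ * h) := by group
      have hob : orderOf b ∣ p := orderOf_dvd_of_pow_eq_one hb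
      have hcop2 : i.Coprime (orderOf b) := Nat.Coprime.coprime_dvd_right hob hcop
      obtain ⟨m, hm⟩ := exists_pow_eq_self_of_coprime hcop2
      have h7 : Commute ((k : N)⁻¹ * h) b := by
        rw [← hm]; exact h5.pow_right m
      have h8 := hHb _ (H.mul_mem (H.inv_mem k.2) h.2) h7.eq
      have h9 : (h : N) = k := by
        have := congrArg (fun t => (k : N) * t) h8
        simpa using this
      exact Subtype.ext h9
    have hbij : Function.Bijective e := Finite.injective_iff_bijective.mp hinj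
    have h4 : ∀ h : H, ((h : N) * b ^ i * (h : N)⁻¹) • x = ((e h : H) : N) • ((b ^ i) • x) := by
      intro h
      rw [← mul_smul]
      congr 1
      show (h : N) * b ^ i * (h : N)⁻¹ = (h : N) * (b ^ i * (h : N)⁻¹ * (b ^ i)⁻¹) * b ^ i
      group
    rw [Finset.prod_congr rfl (fun h _ => h4 h)]
    rw [← hsum ((b ^ i) • x)]
    exact Fintype.prod_bijective e hbij _ _ (fun _ => rfl)
  have h5 : ∏ i ∈ Finset.range p, ∏ h : H, ((h : N) * b ^ i * (h : N)⁻¹) • x = x ^ Nat.card H := by
    rw [Finset.prod_eq_single 0]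
    · rw [pow_zero]
      have : ∀ h : H, ((h : N) * 1 * (h : N)⁻¹) • x = x := by
        intro h
        rw [mul_one, mul_inv_cancel, one_smul]
      rw [Finset.prod_congr rfl (fun h _ => this h), Finset.prod_const, Finset.card_univ, Nat.card_eq_fintype_card]
    · intro i hi hi0
      exact h3 i hi hi0
    · intro h
      exact absurd (Finset.mem_range.mpr hp.out.pos) h
  rw [h2, h5] at h1
  have h6 : orderOf x ∣ Nat.card H := orderOf_dvd_of_pow_eq_one h1
  have h7 : orderOf x ∣ p := orderOf_dvd_of_pow_eq_one (hWp x)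
  have h8 : orderOf x ∣ 1 := by
    rw [← hHp]; exact Nat.dvd_gcd h6 h7
  exact orderOf_eq_one_iff.mp (Nat.dvd_one.mp h8)

end Cfsg.Agent.H17.BF
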