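import Cfsg.Agent.H17_BF1

/-!
# The class two configuration
-/

set_option autoImplicit false
set_option linter.all false

namespace Cfsg.Agent.H17.BF

open scoped commutatorElement

/-- ordered product -/
def cp {U : Type*} [Group U] (g : ℕ → U) : ℕ → U
  | 0 => 1
  | (n + 1) => cp g n * g n

theorem map_cp {U A : Type*} [Group U] [CommGroup A] (f : U →* A) (g : ℕ → U) (n : ℕ) :
    f (cp g n) = ∏ i ∈ Finset.range n, f (g i) := by
  induction n with
  | zero => simp [cp]
  | succ n ih => rw [cp, map_mul, ih, Finset.prod_range_succ]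

/-- pairing lemma -/
theorem pair_lemma {A : Type*} [CommGroup A] {p : ℕ} (hp : p.Prime) (hp2 : p ≠ 2) (a : ℕ → A) (hA : ∀ x : A, x ^ p = 1)
    (h0 : a 0 = 1) (h : ∀ i, 0 < i → i < p → a (p - i) = (a i)⁻¹) : ∏ i ∈ Finset.range p, a i = 1 := by
  obtain ⟨n, rfl⟩ : ∃ n, p = n + 1 := ⟨p - 1, by have := hp.pos; omega⟩
  rw [Finset.prod_range_succ', h0, mul_one]
  set P := ∏ i ∈ Finset.range n, a (i + 1) with hP
  have h1 : P = P⁻¹ := by
    calc P = ∏ j ∈ Finset.range n, a ((n - 1 - j) + 1) := by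
          rw [hP, ← Finset.prod_range_reflect]
      _ = ∏ j ∈ Finset.range n, (a (j + 1))⁻¹ := by
          apply Finset.prod_congr rfl
          intro j hj
          rw [Finset.mem_range] at hj
          have h2 := h (j + 1) (by omega) (by omega)
          rw [← h2]
          congr 1
          omega
      _ = P⁻¹ := by rw [Finset.prod_inv_distrib]
  have h2 : P ^ 2 = 1 := by
    rw [pow_two]; nth_rewrite 1 [h1]; rw [inv_mul_cancel]
  have h3 := hA P
  have h4 : orderOf P ∣ 2 := orderOf_dvd_of_pow_eq_one h2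
  have h5 : orderOf P ∣ n + 1 := orderOf_dvd_of_pow_eq_one h3
  have h6 : Nat.Coprime 2 (n + 1) := by
    rw [Nat.coprime_primes Nat.prime_two hp]
    exact fun h => hp2 h.symm
  have h7 : orderOf P ∣ 1 := by
    rw [← h6]; exact Nat.dvd_gcd h4 h5
  exact orderOf_eq_one_iff.mp (Nat.dvd_one.mp h7)

theorem cyc_prod {N W : Type*} [Group N] [CommGroup W] [MulDistribMulAction N W] {p : ℕ} (b : N) (hb : b ^ p = 1) (w : W) :
    b • (∏ i ∈ Finset.range p, (b ^ i) • w) = ∏ i ∈ Finset.range p, (b ^ i) • w := by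
  rw [Finset.smul_prod']
  have h1 : ∀ i ∈ Finset.range p, b • (b ^ i) • w = (b ^ (i + 1)) • w := by
    intro i _
    rw [← mul_smul, ← pow_succ']
  rw [Finset.prod_congr rfl h1]
  have h2 := Finset.prod_range_succ (fun i => (b ^ i) • w) p
  have h3 := Finset.prod_range_succ' (fun i => (b ^ i) • w) p
  rw [h2] at h3
  simp only [hb, pow_zero] at h3
  exact (mul_right_cancel h3).symm

end Cfsg.Agent.H17.BF
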