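import Cfsg.Agent.H17_BF2

/-!
# The class two configuration, continued
-/

set_option autoImplicit false
set_option linter.all false

namespace Cfsg.Agent.H17.BF

open scoped commutatorElement

theorem abs_form {U W A : Type*} [Group U] [CommGroup W] [CommGroup A] {p : ℕ} (hp : p.Prime) (hp2 : p ≠ 2)
    (F : U → U → A) (hA : ∀ a : A, a ^ p = 1)
    (h1 : ∀ x x' y, F (x * x') y = F x y * F x' y) (h2 : ∀ x y y', F x (y * y') = F x y * F x y')
    (halt : ∀ x, F x x = 1) (β : MulAut U) (hβ : β ^ p = 1) (hinv : ∀ x y, F (β x) (β y) = F x y)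
    (π : U →* W) (βW : MulAut W) (hβW : βW ^ p = 1) (hπ : ∀ u, π (β u) = βW (π u))
    (hker : ∀ x v, π v = 1 → F x v = 1)
    (w : U) (c : U) (hc : c = cp (fun i => (β ^ i) w) p)
    (hcyc : ∀ x, βW (π x) = π x → ∃ j : ℤ, π x = π c ^ j) : ∀ y, F c y = 1 := by
  intro y
  let FL : U → (U →* A) := fun y => MonoidHom.mk' (fun x => F x y) (fun x x' => h1 x x' y)
  let FR : U → (U →* A) := fun x => MonoidHom.mk' (fun y => F x y) (fun y y' => h2 x y y')
  have hinv2 : ∀ i : ℕ, ∀ x y, F ((β ^ i) x) ((β ^ i) y) = F x y := by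
    intro i
    induction i with
    | zero => intro x y; rfl
    | succ i ih =>
      intro x y
      rw [pow_succ', MulAut.mul_apply, MulAut.mul_apply, hinv, ih]
  have hanti : ∀ x y, F y x = (F x y)⁻¹ := by
    intro x y
    have h3 := halt (x * y)
    rw [h1, h2, h2, halt, halt, one_mul, mul_one] at h3
    exact eq_inv_of_mul_eq_one_right h3
  -- F w c = 1
  have hwc : F w c = 1 := by
    have h3 : F w c = ∏ i ∈ Finset.range p, F w ((β ^ i) w) := by
      rw [hc]; exact map_cp (FR w) _ p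
    rw [h3]
    apply pair_lemma hp hp2 (fun i => F w ((β ^ i) w)) hA
    · show F w ((β ^ 0) w) = 1
      rw [pow_zero]; exact halt w
    · intro i hi hip
      show F w ((β ^ (p - i)) w) = (F w ((β ^ i) w))⁻¹
      rw [← hinv2 i w ((β ^ (p - i)) w), ← MulAut.mul_apply, ← pow_add, show i + (p - i) = p by omega, hβ]
      exact hanti w ((β ^ i) w)
  -- F c y
  have h4 : F c y = F w (cp (fun i => ((β⁻¹) ^ i) y) p) := by
    have h5 : F c y = ∏ i ∈ Finset.range p, F ((β ^ i) w) y := by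
      rw [hc]; exact map_cp (FL y) _ p
    have h6 : F w (cp (fun i => ((β⁻¹) ^ i) y) p) = ∏ i ∈ Finset.range p, F w (((β⁻¹) ^ i) y) :=
      map_cp (FR w) _ p
    rw [h5, h6]
    apply Finset.prod_congr rfl
    intro i _
    rw [← hinv2 i w (((β⁻¹) ^ i) y), ← MulAut.mul_apply, inv_pow, mul_inv_cancel]
    rfl
  set y' := cp (fun i => ((β⁻¹) ^ i) y) p with hy'
  have hπi : ∀ i : ℕ, ∀ u, π (((β⁻¹) ^ i) u) = ((βW⁻¹) ^ i) (π u) := by
    have h7 : ∀ u, π (β⁻¹ u) = βW⁻¹ (π u) := by
      intro u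
      apply βW.injective
      rw [← hπ, ← MulAut.mul_apply, mul_inv_cancel, ← MulAut.mul_apply, mul_inv_cancel]
      rfl
    intro i
    induction i with
    | zero => intro u; rfl
    | succ i ih =>
      intro u
      rw [pow_succ', pow_succ', MulAut.mul_apply, MulAut.mul_apply, h7, ih]
  have h8 : π y' = ∏ i ∈ Finset.range p, ((βW⁻¹) ^ i) • (π y) := by
    rw [hy', map_cp]
    apply Finset.prod_congr rfl
    intro i _
    exact hπi i y
  have h9 : βW (π y') = π y' := by
    have h10 : (βW⁻¹) • (π y') = π y' := by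
      rw [h8]
      exact cyc_prod (βW⁻¹) (by rw [inv_pow, hβW, inv_one]) (π y)
    have h11 : βW (βW⁻¹ • (π y')) = βW (π y') := by rw [h10]
    rw [← h11]
    show (βW * βW⁻¹) (π y') = π y'
    rw [mul_inv_cancel]; rfl
  obtain ⟨j, hj⟩ := hcyc y' h9
  have h12 : F w (c ^ (-j) * y') = 1 := by
    apply hker
    rw [map_mul, map_zpow, hj, ← zpow_add]; simp
  have h13 : F w (c ^ (-j)) = 1 := by
    have : F w (c ^ (-j)) = (F w c) ^ (-j) := map_zpow (FR w) c (-j)
    rw [this, hwc, one_zpow]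
  rw [h2, h13, one_mul] at h12
  rw [h4, h12]

end Cfsg.Agent.H17.BF
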