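import Cfsg.Agent.H17_BF3

/-!
# The class two configuration: contradiction
-/

set_option autoImplicit false
set_option linter.all false

namespace Cfsg.Agent.H17.BF

open scoped commutatorElement

theorem nilp {A : Type*} [AddCommGroup A] {p : ℕ} (hp : p.Prime) (hp2 : p ≠ 2) (hA : ∀ a : A, p • a = 0)
    (β : AddMonoid.End A) (hβ : β ^ p = 1) : (β - 1) ^ p = 0 := by
  have h0 : ∀ s : AddMonoid.End A, (p : AddMonoid.End A) * s = 0 := by
    intro s
    ext a
    show (p : AddMonoid.End A) (s a) = 0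
    rw [AddMonoid.End.natCast_apply]
    exact hA _
  have h1 : Commute β (-1) := Commute.neg_one_right β
  have h2 := h1.add_pow_prime_eq hp
  rw [hβ, (hp.odd_of_ne_two hp2).neg_one_pow] at h2
  rw [sub_eq_add_neg, h2, mul_assoc, mul_assoc, h0]
  simp

/-- commutator maps in class two. -/
theorem comm_mul_left' {U : Type*} [Group U] (hc : ∀ x y u : U, ⁅x, y⁆ * u = u * ⁅x, y⁆) (x x' y : U) :
    ⁅x * x', y⁆ = ⁅x, y⁆ * ⁅x', y⁆ := by
  have h1 : ⁅x * x', y⁆ = x * ⁅x', y⁆ * (y * x⁻¹ * y⁻¹) := by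
    rw [commutatorElement_def, commutatorElement_def]; group
  rw [h1, ← hc x' y x]
  have h2 : ⁅x', y⁆ * x * (y * x⁻¹ * y⁻¹) = ⁅x', y⁆ * ⁅x, y⁆ := by
    rw [commutatorElement_def x y]; group
  rw [h2, hc x' y]

theorem comm_mul_right' {U : Type*} [Group U] (hc : ∀ x y u : U, ⁅x, y⁆ * u = u * ⁅x, y⁆) (x y y' : U) :
    ⁅x, y * y'⁆ = ⁅x, y⁆ * ⁅x, y'⁆ := by
  have h1 := comm_mul_left' hc y y' x
  have h2 : ⁅x, y * y'⁆ = (⁅y * y', x⁆)⁻¹ := (commutatorElement_inv _ _).symm
  rw [h2, h1, mul_inv_rev, commutatorElement_inv, commutatorElement_inv, hc x y']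

theorem core_contra' {N U : Type*} [Group N] [Finite N] [Group U] [Finite U] {p : ℕ} [hp : Fact p.Prime] (hp2 : p ≠ 2)
    (κ : N →* MulAut U) (b : N) (hb : b ^ p = 1) (H : Subgroup N) (hbH : b ∈ Subgroup.normalizer (H : Set N))
    (hHp : (Nat.card H).Coprime p) (hHb : ∀ h ∈ H, h * b = b * h → h = 1)
    (hUp : ∀ u : U, u ^ p = 1) (V : Subgroup U) [V.Normal] (hVN : ∀ n : N, ∀ v ∈ V, κ n v ∈ V)
    (hVc : ∀ v ∈ V, ∀ u : U, v * u = u * v) (hHV : ∀ h ∈ H, ∀ v ∈ V, κ h v = v)
    (hUV : ∀ x y : U, ⁅x, y⁆ ∈ V)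
    (hirr : ∀ M : Subgroup U, (∀ h ∈ H, ∀ m ∈ M, κ h m ∈ M) → (∀ m ∈ M, κ b m ∈ M) → M ≠ ⊤ → M ≤ V)
    (hfix : ∀ u : U, (∀ h ∈ H, (κ h u)⁻¹ * u ∈ V) → u ∈ V)
    (hnab : ∃ x y : U, x * y ≠ y * x)
    (z : U) (hz : z ^ p = 1) (hbz : ∀ x : U, κ b x = x → x ∈ V ∧ x ∈ Subgroup.zpowers z) : False := by
  classical
  letI iV : CommGroup ↥V := { (inferInstance : Group ↥V) with
    mul_comm := fun a c => Subtype.ext (hVc a.1 a.2 c.1) }
  letI iW : CommGroup (U ⧸ V) := { (inferInstance : Group (U ⧸ V)) with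
    mul_comm := by
      rintro ⟨x⟩ ⟨y⟩
      show ((x * y : U) : U ⧸ V) = ((y * x : U) : U ⧸ V)
      rw [QuotientGroup.eq]
      have h1 := hUV y⁻¹ x⁻¹
      rw [commutatorElement_def] at h1
      have h2 : (x * y)⁻¹ * (y * x) = y⁻¹ * x⁻¹ * y⁻¹⁻¹ * x⁻¹⁻¹ := by group
      rw [h2]; exact h1 }
  letI iA : MulDistribMulAction N (U ⧸ V) :=
    { smul := fun n => QuotientGroup.map V V (κ n).toMonoidHom (fun v hv => hVN n v hv)
      one_smul := by
        rintro ⟨x⟩
        show ((κ 1 x : U) : U ⧸ V) = ((x : U) : U ⧸ V)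
        rw [map_one]; rfl
      mul_smul := by
        rintro m n ⟨x⟩
        show ((κ (m * n) x : U) : U ⧸ V) = ((κ m (κ n x) : U) : U ⧸ V)
        rw [map_mul]; rfl
      smul_one := fun n => map_one (QuotientGroup.map V V (κ n).toMonoidHom (fun v hv => hVN n v hv))
      smul_mul := fun n => map_mul (QuotientGroup.map V V (κ n).toMonoidHom (fun v hv => hVN n v hv)) }
  have hsm : ∀ (n : N) (x : U), n • ((x : U) : U ⧸ V) = ((κ n x : U) : U ⧸ V) := fun n x => rfl
  have hWp : ∀ w : U ⧸ V, w ^ p = 1 := by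
    rintro ⟨x⟩
    show ((x ^ p : U) : U ⧸ V) = 1
    rw [hUp]; rfl
  -- norm
  have hw : ∃ w : U ⧸ V, ∏ i ∈ Finset.range p, (b ^ i) • w ≠ 1 := by
    by_contra hcon
    push Not at hcon
    have h1 := norm_lemma (W := U ⧸ V) H b hb hbH hHp hHb hWp (by
      rintro ⟨u⟩ hu
      apply (QuotientGroup.eq_one_iff u).mpr
      apply hfix
      intro h hh
      have := hu h hh
      exact QuotientGroup.eq.mp this) hcon
    obtain ⟨x, y, hxy⟩ := hnab
    exact hxy (hVc x ((QuotientGroup.eq_one_iff x).mp (h1 x)) y)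
  obtain ⟨⟨w⟩, hw⟩ := hw
  replace hw : ∏ i ∈ Finset.range p, (b ^ i) • ((w : U) : U ⧸ V) ≠ 1 := hw
  set β : MulAut U := κ b with hβdef
  have hβp : β ^ p = 1 := by rw [hβdef, ← map_pow, hb, map_one]
  set c : U := cp (fun i => (β ^ i) w) p with hc
  have hπc : ((c : U) : U ⧸ V) = ∏ i ∈ Finset.range p, (b ^ i) • ((w : U) : U ⧸ V) := by
    have h1 := map_cp (QuotientGroup.mk' V) (fun i => (β ^ i) w) p
    refine h1.trans ?_
    apply Finset.prod_congr rfl
    intro i _
    rw [hsm, map_pow]; rfl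
  have hcV : c ∉ V := by
    intro h1
    exact hw (hπc ▸ (QuotientGroup.eq_one_iff c).mpr h1)
  have hbc : b • ((c : U) : U ⧸ V) = ((c : U) : U ⧸ V) := by
    rw [hπc]; exact cyc_prod b hb _
  -- fixed points of b in W
  let Fx : Subgroup (U ⧸ V) :=
    { carrier := {w | b • w = w}
      one_mem' := smul_one b
      mul_mem' := by
        intro x y hx hy
        show b • (x * y) = x * y
        rw [smul_mul']; rw [show b • x = x from hx, show b • y = y from hy]
      inv_mem' := by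
        intro x hx
        show b • x⁻¹ = x⁻¹
        rw [smul_inv', show b • x = x from hx] }
  have hFxmem : ∀ w, w ∈ Fx ↔ b • w = w := fun w => Iff.rfl
  let X₀ : Subgroup U := Fx.comap (QuotientGroup.mk' V)
  have hX₀ : ∀ x : X₀, β x.1 * x.1⁻¹ ∈ V := by
    intro x
    have h1 : b • ((x.1 : U) : U ⧸ V) = ((x.1 : U) : U ⧸ V) := x.2
    rw [hsm] at h1
    have h2 : ((β x.1 * x.1⁻¹ : U) : U ⧸ V) = 1 := by
      show ((κ b x.1 : U) : U ⧸ V) * ((x.1 : U) : U ⧸ V)⁻¹ = 1
      rw [h1, mul_inv_cancel]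
    exact (QuotientGroup.eq_one_iff _).mp h2
  let Dt : X₀ →* V := MonoidHom.mk' (fun x => ⟨β x.1 * x.1⁻¹, hX₀ x⟩) (by
    intro x y
    apply Subtype.ext
    show β (x.1 * y.1) * (x.1 * y.1)⁻¹ = (β x.1 * x.1⁻¹) * (β y.1 * y.1⁻¹)
    rw [map_mul, mul_inv_rev]
    calc β x.1 * β y.1 * (y.1⁻¹ * x.1⁻¹) = β x.1 * ((β y.1 * y.1⁻¹) * x.1⁻¹) := by group
      _ = β x.1 * (x.1⁻¹ * (β y.1 * y.1⁻¹)) := by rw [hVc _ (hX₀ y)]
      _ = _ := by group)
  have hcardz : Nat.card (Subgroup.zpowers z) ≤ p := by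
    rw [Nat.card_zpowers]
    exact Nat.le_of_dvd hp.out.pos (orderOf_dvd_of_pow_eq_one hz)
  have hkerle : Nat.card Dt.ker ≤ p := by
    refine le_trans ?_ hcardz
    refine Nat.card_le_card_of_injective (fun x : Dt.ker => (⟨x.1.1, (hbz x.1.1 (by
      have h1 := x.2
      rw [MonoidHom.mem_ker] at h1
      have h2 : β x.1.1 * x.1.1⁻¹ = 1 := congrArg Subtype.val h1
      exact mul_inv_eq_one.mp h2)).2⟩ : Subgroup.zpowers z)) ?_
    intro x y hxy
    have : x.1.1 = y.1.1 := congrArg (fun t : Subgroup.zpowers z => (t : U)) hxy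
    exact Subtype.ext (Subtype.ext this)
  have hX₀card : Nat.card X₀ ≤ p * Nat.card V := by
    rw [Subgroup.card_eq_card_quotient_mul_card_subgroup Dt.ker]
    have h1 : Nat.card (X₀ ⧸ Dt.ker) ≤ Nat.card V := by
      rw [Nat.card_congr (QuotientGroup.quotientKerEquivRange Dt).toEquiv]
      exact Nat.card_le_card_of_injective (fun x : Dt.range => x.1) Subtype.val_injective
    calc _ ≤ Nat.card V * p := Nat.mul_le_mul h1 hkerle
      _ = _ := Nat.mul_comm _ _
  have hFxcard : Nat.card X₀ = Nat.card Fx * Nat.card V := by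
    have h1 : X₀.index = Fx.index := Subgroup.index_comap_of_surjective Fx (QuotientGroup.mk'_surjective V)
    have h2 := X₀.card_mul_index
    have h3 := Fx.card_mul_index
    have h4 := Subgroup.card_eq_card_quotient_mul_card_subgroup V
    rw [← h2, ← h3, h1] at h4
    have h5 : 0 < Fx.index := Nat.pos_of_ne_zero Subgroup.index_ne_zero_of_finite
    have h6 : Nat.card X₀ * Fx.index = (Nat.card Fx * Nat.card V) * Fx.index := by
      rw [h4]; ring
    exact Nat.eq_of_mul_eq_mul_right h5 h6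
  have hFxle : Nat.card Fx ≤ p := by
    rw [hFxcard] at hX₀card
    exact Nat.le_of_mul_le_mul_right hX₀card Nat.card_pos
  have hFxp : Nat.card Fx = p := by
    apply le_antisymm hFxle
    have h1 : orderOf (⟨((c : U) : U ⧸ V), hbc⟩ : Fx) = p := by
      apply orderOf_eq_prime
      · apply Subtype.ext; exact hWp _
      · intro h
        exact hcV ((QuotientGroup.eq_one_iff c).mp (congrArg Subtype.val h))
    rw [← h1]
    exact Nat.le_of_dvd Nat.card_pos (orderOf_dvd_natCard _)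
  have hcyc : ∀ x : U, b • ((x : U) : U ⧸ V) = ((x : U) : U ⧸ V) → ∃ j : ℤ, ((x : U) : U ⧸ V) = ((c : U) : U ⧸ V) ^ j := by
    intro x hx
    have hne : (⟨((c : U) : U ⧸ V), hbc⟩ : Fx) ≠ 1 := by
      intro h
      exact hcV ((QuotientGroup.eq_one_iff c).mp (congrArg Subtype.val h))
    have h1 : (⟨((x : U) : U ⧸ V), hx⟩ : Fx) ∈ Subgroup.zpowers (⟨((c : U) : U ⧸ V), hbc⟩ : Fx) :=
      mem_zpowers_of_prime_card hFxp hne
    obtain ⟨j, hj⟩ := Subgroup.mem_zpowers_iff.mp h1
    refine ⟨j, ?_⟩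
    exact (congrArg Subtype.val hj).symm
  -- the endomorphism D
  let βV : V →* V := MonoidHom.mk' (fun v => ⟨β v.1, hVN b v.1 v.2⟩) (by
    intro x y
    apply Subtype.ext
    exact map_mul β x.1 y.1)
  let B' : AddMonoid.End (Additive V) := MonoidHom.toAdditive βV
  have hB'k : ∀ (k : ℕ) (v : V), (B' ^ k) (Additive.ofMul v) = Additive.ofMul ⟨(β ^ k) v.1, by
      rw [hβdef, ← map_pow]; exact hVN _ _ v.2⟩ := by
    intro k
    induction k with
    | zero => intro v; rfl
    | succ k ih =>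
      intro v
      rw [pow_succ']
      show B' ((B' ^ k) (Additive.ofMul v)) = _
      rw [ih]
      apply Additive.toMul.injective
      apply Subtype.ext
      show β ((β ^ k) v.1) = (β ^ (k + 1)) v.1
      rw [pow_succ', MulAut.mul_apply]
  have hB'p : B' ^ p = 1 := by
    apply AddMonoidHom.ext
    intro v
    refine (hB'k p v.toMul).trans ?_
    apply Additive.toMul.injective
    apply Subtype.ext
    show (β ^ p) v.toMul.1 = v.toMul.1
    rw [hβp]; rfl
  have hVp : ∀ a : Additive V, p • a = 0 := by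
    intro a
    apply Additive.toMul.injective
    apply Subtype.ext
    exact hUp a.toMul.1
  set D : AddMonoid.End (Additive V) := B' - 1 with hD
  have hDp : D ^ p = 0 := nilp hp.out hp2 hVp B' hB'p
  let cm : U → U → Additive V := fun x y => Additive.ofMul ⟨⁅x, y⁆, hUV x y⟩
  have hex : ∃ k, ∀ x y : U, (D ^ k) (cm x y) = 0 := ⟨p, fun x y => by rw [hDp]; rfl⟩
  obtain ⟨j, hj⟩ : ∃ j, Nat.find hex = j + 1 := by
    apply Nat.exists_eq_succ_of_ne_zero
    intro h0
    have h1 := Nat.find_spec hex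
    rw [h0] at h1
    obtain ⟨x, y, hxy⟩ := hnab
    apply hxy
    have h2 := h1 x y
    have h3 : ⁅x, y⁆ = 1 := congrArg (fun t : Additive V => (t.toMul : U)) h2
    exact commutatorElement_eq_one_iff_mul_comm.mp h3
  have hj1 : ∀ x y : U, (D ^ (j + 1)) (cm x y) = 0 := by rw [← hj]; exact Nat.find_spec hex
  have hj2 : ¬ ∀ x y : U, (D ^ j) (cm x y) = 0 := Nat.find_min hex (by omega)
  let F : U → U → V := fun x y => Additive.toMul ((D ^ j) (cm x y))
  have hcen : ∀ x y u : U, ⁅x, y⁆ * u = u * ⁅x, y⁆ := fun x y u => hVc _ (hUV x y) u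
  have hF1 : ∀ x x' y, F (x * x') y = F x y * F x' y := by
    intro x x' y
    have h1 : cm (x * x') y = cm x y + cm x' y := by
      apply Additive.toMul.injective
      apply Subtype.ext
      exact comm_mul_left' hcen x x' y
    show Additive.toMul ((D ^ j) (cm (x * x') y)) = _
    rw [h1, map_add]; rfl
  have hF2 : ∀ x y y', F x (y * y') = F x y * F x y' := by
    intro x y y'
    have h1 : cm x (y * y') = cm x y + cm x y' := by
      apply Additive.toMul.injective
      apply Subtype.ext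
      exact comm_mul_right' hcen x y y'
    show Additive.toMul ((D ^ j) (cm x (y * y'))) = _
    rw [h1, map_add]; rfl
  have hFz : ∀ x y, ⁅x, y⁆ = 1 → F x y = 1 := by
    intro x y hxy
    have h1 : cm x y = 0 := by
      apply Additive.toMul.injective
      apply Subtype.ext
      exact hxy
    show Additive.toMul ((D ^ j) (cm x y)) = _
    rw [h1, map_zero]; rfl
  have hFb : ∀ x y, F (β x) (β y) = F x y := by
    intro x y
    have h1 : cm (β x) (β y) = D (cm x y) + cm x y := by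
      have h2 : D (cm x y) + cm x y = B' (cm x y) := by
        have h3 : D (cm x y) = B' (cm x y) - cm x y := rfl
        rw [h3, sub_add_cancel]
      rw [h2]
      apply Additive.toMul.injective
      apply Subtype.ext
      show ⁅β x, β y⁆ = β ⁅x, y⁆
      rw [map_commutatorElement]
    show Additive.toMul ((D ^ j) (cm (β x) (β y))) = Additive.toMul ((D ^ j) (cm x y))
    have h2 : (D ^ j) (D (cm x y)) = (D ^ (j + 1)) (cm x y) := by rw [pow_succ]; rfl
    rw [h1, map_add, h2, hj1, zero_add]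
  have hFh : ∀ h ∈ H, ∀ x y, F (κ h x) (κ h y) = F x y := by
    intro h hh x y
    have h1 : cm (κ h x) (κ h y) = cm x y := by
      apply Additive.toMul.injective
      apply Subtype.ext
      show ⁅κ h x, κ h y⁆ = ⁅x, y⁆
      rw [← map_commutatorElement]
      exact hHV h hh _ (hUV x y)
    show Additive.toMul ((D ^ j) (cm (κ h x) (κ h y))) = _
    rw [h1]
  have hform : ∀ y, F c y = 1 := by
    refine abs_form (W := U ⧸ V) hp.out hp2 F (fun a => Subtype.ext (hUp a.1)) hF1 hF2 (fun x => hFz x x (commutatorElement_self x))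
      β hβp hFb (QuotientGroup.mk' V) (MulDistribMulAction.toMulAut N (U ⧸ V) b) ?_ ?_ ?_ w c hc ?_
    · rw [← map_pow, hb, map_one]
    · intro u; rfl
    · intro x v hv
      apply hFz
      have h1 := (QuotientGroup.eq_one_iff v).mp hv
      exact commutatorElement_eq_one_iff_mul_comm.mpr (hVc v h1 x).symm
    · intro x hx
      exact hcyc x hx
  let Rad : Subgroup U :=
    { carrier := {x | ∀ y, F x y = 1}
      one_mem' := fun y => hFz 1 y (commutatorElement_one_left y)
      mul_mem' := by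
        intro x x' hx hx' y
        rw [hF1, hx y, hx' y, one_mul]
      inv_mem' := by
        intro x hx y
        have h1 := hF1 x x⁻¹ y
        rw [mul_inv_cancel, hx y, one_mul, hFz 1 y (commutatorElement_one_left y)] at h1
        exact h1.symm }
  have hRadV : Rad ≤ V := by
    apply hirr
    · intro h hh m hm y
      have h1 := hFh h hh m (κ h⁻¹ y)
      rw [← MulAut.mul_apply, ← map_mul, mul_inv_cancel, map_one] at h1
      rw [hm] at h1
      exact h1
    · intro m hm y
      have h1 := hFb m (β⁻¹ y)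
      rw [show β (β⁻¹ y) = y from by rw [← MulAut.mul_apply, mul_inv_cancel]; rfl] at h1
      rw [hm] at h1
      exact h1
    · intro htop
      apply hj2
      intro x y
      have h1 : x ∈ Rad := by rw [htop]; exact Subgroup.mem_top x
      exact h1 y
  exact hcV (hRadV hform)

end Cfsg.Agent.H17.BF
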