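import Cfsg.Agent.H17_BF4
import Cfsg.Agent.H2_Crit2
import Cfsg.Agent.H22_Coprime3
import Cfsg.Agent.H22_PSolv
import Cfsg.Agent.H11_AxB

/-!
# The local core
-/

set_option autoImplicit false
set_option linter.all false

namespace Cfsg.Agent.H17.BF

open Subgroup
open scoped commutatorElement

theorem crit_in {X : Type*} [Group X] [Finite X] {p : ℕ} [hp : Fact p.Prime] (hp2 : p ≠ 2)
    (R : Subgroup X) [R.Normal] (hR : IsPGroup p R) : ∃ C : Subgroup X, C ≤ R ∧ C.Normal ∧ (∀ c ∈ C, c ^ p = 1) ∧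
      ∀ h : X, (orderOf h).Coprime p → (∀ c ∈ C, h * c = c * h) → ∀ x ∈ R, h * x = x * h := by
  obtain ⟨C', hC'c, h1, h2, h3⟩ := Cfsg.Agent.H2.Crit2.exists_crit_exp hR
  haveI := hC'c
  refine ⟨C'.map R.subtype, map_subtype_le _, inferInstance, ?_, ?_⟩
  · rintro _ ⟨c, hc, rfl⟩
    rcases h1 c hc with h | ⟨h, _⟩
    · show (c : X) ^ p = 1
      have := congrArg Subtype.val h
      simpa using this
    · exact absurd h hp2
  · intro h hh hc x hx
    have h4 : (MulAut.conjNormal h : MulAut R) = 1 := by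
      apply h3
      · exact Nat.Coprime.coprime_dvd_left (orderOf_map_dvd (MulAut.conjNormal : X →* MulAut R) h) hh
      · intro c hcc
        apply Subtype.ext
        rw [MulAut.conjNormal_apply]
        have := hc (c : X) ⟨c, hcc, rfl⟩
        rw [this]; group
    have h5 := congrArg (fun a : MulAut R => ((a ⟨x, hx⟩ : R) : X)) h4
    simp only [MulAut.conjNormal_apply] at h5
    have h6 : h * x * h⁻¹ = x := h5
    calc h * x = h * x * h⁻¹ * h := by group
      _ = x * h := by rw [h6]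

/-- fixed points -/
theorem exists_fix {X : Type*} [Group X] [Finite X] {p : ℕ} [hp : Fact p.Prime] (U : Subgroup X) (hU : IsPGroup p U)
    (hU1 : U ≠ ⊥) (b : X) (hb : b ^ p = 1) (hbU : b ∈ normalizer (U : Set X)) : ∃ x ∈ U, x ≠ 1 ∧ x * b = b * x := by
  classical
  have hbz : IsPGroup p (zpowers b) := by
    intro x
    obtain ⟨k, hk⟩ := mem_zpowers_iff.mp x.2
    refine ⟨1, Subtype.ext ?_⟩
    show (x : X) ^ p ^ 1 = 1
    rw [← hk, pow_one, ← zpow_natCast, ← zpow_mul, mul_comm, zpow_mul, zpow_natCast, hb, one_zpow]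
  have hle : zpowers b ≤ normalizer (U : Set X) := by rw [zpowers_le]; exact hbU
  let f : zpowers b →* MulAut U := (normalizerMonoidHom U).comp (inclusion hle)
  letI : MulAction (zpowers b) U := MulAction.compHom U f
  have hsm : ∀ (a : zpowers b) (u : U), ((a • u : U) : X) = (a : X) * u * (a : X)⁻¹ := fun a u => rfl
  have h1 : (1 : U) ∈ MulAction.fixedPoints (zpowers b) U := by
    intro a
    apply Subtype.ext
    rw [hsm]; simp
  have h2 : p ∣ Nat.card U := by
    obtain ⟨n, hn⟩ := IsPGroup.iff_card.mp hU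
    rcases Nat.eq_zero_or_pos n with h | h
    · rw [h, pow_zero] at hn
      exact absurd (Subgroup.card_eq_one.mp hn) hU1
    · rw [hn]; exact dvd_pow_self p (by omega)
  obtain ⟨u, hu, hu1⟩ := hbz.exists_fixed_point_of_prime_dvd_card_of_fixed_point U h2 h1
  refine ⟨u, u.2, fun h => hu1 (Subtype.ext h.symm), ?_⟩
  have h3 := congrArg Subtype.val (hu ⟨b, mem_zpowers b⟩)
  rw [hsm] at h3
  have h4 : b * (u : X) * b⁻¹ = u := h3
  calc (u : X) * b = (b * (u : X) * b⁻¹) * b := by rw [h4]
    _ = b * u := by group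

end Cfsg.Agent.H17.BF
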