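import Cfsg.Agent.H17_BF5

/-!
# The local core, continued
-/

set_option autoImplicit false
set_option linter.all false

namespace Cfsg.Agent.H17.BF

open Subgroup
open scoped commutatorElement

theorem fpf {X : Type*} [Group X] [Finite X] {p : ℕ} [hp : Fact p.Prime] (hp2 : p ≠ 2)
    (R : Subgroup X) [hRn : R.Normal] (hR : IsPGroup p R) (hCR : centralizer (R : Set X) ≤ R) (B : Subgroup X)
    (hBp : ∀ b ∈ B, b ^ p = 1)
    (b₀ : X) (hb₀ : b₀ ∈ B) (hΩ : ∀ x ∈ R, x ^ p = 1 → x * b₀ = b₀ * x → x ∈ B)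
    (H : Subgroup X) (hH : (Nat.card H).Coprime p) (hinv : ∀ b ∈ B, ∀ x ∈ H, b * x * b⁻¹ ∈ H) :
    (∀ h ∈ H, h ∈ R → h = 1) ∧ (∀ y ∈ B, y ∈ R → ∀ h ∈ H, h * y = y * h) ∧ (∀ h ∈ H, h * b₀ = b₀ * h → h = 1) := by
  have hHR : ∀ h ∈ H, h ∈ R → h = 1 := by
    intro h hh hhR
    obtain ⟨k, hk⟩ := hR ⟨h, hhR⟩
    have h1 : h ^ p ^ k = 1 := congrArg Subtype.val hk
    have h2 : orderOf h ∣ p ^ k := orderOf_dvd_of_pow_eq_one h1
    have h3 : orderOf h ∣ Nat.card H := by
      rw [← Subgroup.orderOf_mk h hh]; exact orderOf_dvd_natCard _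
    have h4 : orderOf h ∣ 1 := by
      have h5 := Nat.Coprime.pow_right k hH
      rw [← h5]; exact Nat.dvd_gcd h3 h2
    exact orderOf_eq_one_iff.mp (Nat.dvd_one.mp h4)
  have C1 : ∀ y ∈ B, y ∈ R → ∀ h ∈ H, h * y = y * h := by
    intro y hy hyR h hh
    have h1 : ⁅h, y⁆ ∈ H := by
      have h2 := hinv y hy h⁻¹ (H.inv_mem hh)
      have h3 : ⁅h, y⁆ = h * (y * h⁻¹ * y⁻¹) := by rw [commutatorElement_def]; group
      rw [h3]; exact H.mul_mem hh h2
    have h2 : ⁅h, y⁆ ∈ R := by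
      rw [commutatorElement_def]
      exact R.mul_mem (hRn.conj_mem y hyR h) (R.inv_mem hyR)
    exact commutatorElement_eq_one_iff_mul_comm.mp (hHR _ h1 h2)
  refine ⟨hHR, C1, ?_⟩
  intro h hh hc
  have hoh : (orderOf h).Coprime p := by
    refine Nat.Coprime.coprime_dvd_left ?_ hH
    rw [← Subgroup.orderOf_mk h hh]; exact orderOf_dvd_natCard _
  have hzB : IsPGroup p (zpowers b₀) := by
    intro x
    obtain ⟨k, hk⟩ := mem_zpowers_iff.mp x.2
    refine ⟨1, Subtype.ext ?_⟩
    show (x : X) ^ p ^ 1 = 1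
    rw [← hk, pow_one, ← zpow_natCast, ← zpow_mul, mul_comm, zpow_mul, zpow_natCast, hBp b₀ hb₀, one_zpow]
  have key : ∀ x ∈ R, Commute h x := by
    refine Cfsg.Agent.H11.AxB.commute_of_AxB p h hoh (zpowers b₀) hzB ?_ R hR ?_ ?_ ?_
    · intro b hb
      obtain ⟨k, rfl⟩ := mem_zpowers_iff.mp hb
      exact Commute.zpow_right (show Commute h b₀ from hc) k
    · rw [normalizer_eq_top_iff.mpr hRn]; exact mem_top h
    · rw [normalizer_eq_top_iff.mpr hRn]; exact le_top
    · intro x hx hxb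
      have h1 : zpowers h ≤ centralizer ((R ⊓ centralizer ({b₀} : Set X) : Subgroup X) : Set X) := by
        refine Cfsg.Agent.H22.Coprime3.omega_one hp2 ?_ (hR.to_le inf_le_left) ?_ ?_
        · rw [zpowers_le]
          apply mem_normalizer_fintype
          intro n hn
          refine ⟨hRn.conj_mem n hn.1 h, ?_⟩
          show h * n * h⁻¹ ∈ centralizer ({b₀} : Set X)
          rw [mem_centralizer_iff]
          intro b hb
          rw [Set.mem_singleton_iff] at hb
          rw [hb]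
          have h2 : b₀ * n = n * b₀ := mem_centralizer_iff.mp hn.2 b₀ rfl
          have h3 : b₀ * h⁻¹ = h⁻¹ * b₀ := by
            have := congrArg (fun t => h⁻¹ * t * h⁻¹) hc
            simp only [mul_assoc, mul_inv_cancel, mul_one, inv_mul_cancel_left] at this
            exact this
          calc b₀ * (h * n * h⁻¹) = (b₀ * h) * n * h⁻¹ := by group
            _ = h * (b₀ * n) * h⁻¹ := by rw [← hc]; group
            _ = h * n * (b₀ * h⁻¹) := by rw [h2]; group
            _ = h * n * h⁻¹ * b₀ := by rw [h3]; group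
        · rw [Nat.card_zpowers]; exact hoh
        · intro y hy hyp a ha
          have h2 : b₀ * y = y * b₀ := mem_centralizer_iff.mp hy.2 b₀ rfl
          have h3 : a ∈ H := (zpowers_le.mpr hh) ha
          exact C1 y (hΩ y hy.1 hyp h2.symm) hy.1 a h3
      have h2 : x ∈ R ⊓ centralizer ({b₀} : Set X) := by
        refine ⟨hx, ?_⟩
        show x ∈ centralizer ({b₀} : Set X)
        rw [mem_centralizer_iff]
        intro b hb
        rw [Set.mem_singleton_iff] at hb
        rw [hb]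
        exact (hxb b₀ (mem_zpowers b₀)).eq.symm
      have h3 := mem_centralizer_iff.mp (h1 (mem_zpowers h)) x h2
      exact h3.symm
  have h1 : h ∈ centralizer (R : Set X) := by
    rw [mem_centralizer_iff]
    intro x hx
    exact (key x hx).eq.symm
  exact hHR h hh (hCR h1)

theorem core {X : Type*} [Group X] [Finite X] {p : ℕ} [hp : Fact p.Prime] (hp2 : p ≠ 2)
    (R : Subgroup X) [hRn : R.Normal] (hR : IsPGroup p R) (hCR : centralizer (R : Set X) ≤ R) (B : Subgroup X)
    (hBp : ∀ b ∈ B, b ^ p = 1) (hBc : Nat.card B = p ^ 2)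
    (b₀ : X) (hb₀ : b₀ ∈ B) (hb₁ : b₀ ≠ 1) (hΩ : ∀ x ∈ R, x ^ p = 1 → x * b₀ = b₀ * x → x ∈ B)
    (H : Subgroup X) (hH : (Nat.card H).Coprime p) (hinv : ∀ b ∈ B, ∀ x ∈ H, b * x * b⁻¹ ∈ H) : H = ⊥ := by
  classical
  obtain ⟨hHR, C1, C2⟩ := fpf hp2 R hR hCR B hBp b₀ hb₀ hΩ H hH hinv
  by_contra hne
  have C3 : b₀ ∉ R := by
    intro hb
    apply hne
    rw [eq_bot_iff]
    intro h hh
    rw [mem_bot]
    exact C2 h hh (C1 b₀ hb₀ hb h hh)
  obtain ⟨C, hCle, hCn, hCp, hCcrit⟩ := crit_in hp2 R hR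
  have hoh : ∀ h ∈ H, (orderOf h).Coprime p := by
    intro h hh
    refine Nat.Coprime.coprime_dvd_left ?_ hH
    rw [← Subgroup.orderOf_mk h hh]; exact orderOf_dvd_natCard _
  have hHC : ¬ H ≤ centralizer (C : Set X) := by
    intro hle
    apply hne
    rw [eq_bot_iff]
    intro h hh
    rw [mem_bot]
    apply hHR h hh
    apply hCR
    rw [mem_centralizer_iff]
    intro x hx
    exact (hCcrit h (hoh h hh) (fun c hc => ((mem_centralizer_iff.mp (hle hh)) c hc).symm) x hx).symm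
  have hbH : b₀ ∈ normalizer (H : Set X) := mem_normalizer_fintype (fun n hn => hinv b₀ hb₀ n hn)
  obtain ⟨U, ⟨hUC, hHU, hbU, hU⟩, hmin⟩ := Set.Finite.exists_minimal
    (Set.toFinite {L : Subgroup X | L ≤ C ∧ H ≤ normalizer (L : Set X) ∧ b₀ ∈ normalizer (L : Set X) ∧ ¬ H ≤ centralizer (L : Set X)})
    ⟨C, le_rfl, by rw [normalizer_eq_top_iff.mpr hCn]; exact le_top, by rw [normalizer_eq_top_iff.mpr hCn]; exact mem_top _, hHC⟩
  have hmin' : ∀ L ≤ U, H ≤ normalizer (L : Set X) → b₀ ∈ normalizer (L : Set X) → L ≠ U → H ≤ centralizer (L : Set X) := by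
    intro L hL h1 h2 h3
    by_contra h4
    exact h3 (le_antisymm hL (hmin ⟨hL.trans hUC, h1, h2, h4⟩ hL))
  have hUp : IsPGroup p U := hR.to_le (hUC.trans hCle)
  have hU1 : U ≠ ⊥ := by
    rintro rfl
    apply hU
    intro h hh
    rw [mem_centralizer_iff]
    intro x hx
    rw [SetLike.mem_coe, mem_bot] at hx
    rw [hx, one_mul, mul_one]
  have hcop : (Nat.card H).Coprime (Nat.card U) := by
    obtain ⟨n, hn⟩ := IsPGroup.iff_card.mp hUp
    rw [hn]; exact Nat.Coprime.pow_right n hH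
  haveI hUnil : Group.IsNilpotent U := hUp.isNilpotent
  have hUsol : Group.IsSolvable U := inferInstance
  set V : Subgroup X := U ⊓ centralizer (H : Set X) with hV
  have hVU : V ≤ U := inf_le_left
  -- U = [U,H]
  have hUH : ⁅U, H⁆ = U := by
    by_contra hn
    have h1 : ⁅U, H⁆ ≤ U := le_normalizer_iff_commutator_le_left.mp hHU
    have h2 : zpowers b₀ ≤ normalizer ((⁅U, H⁆ : Subgroup X) : Set X) :=
      Cfsg.Agent.H1.Coprime.le_normalizer_commutator_of (zpowers_le.mpr hbU) (zpowers_le.mpr hbH)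
    have h3 := hmin' ⁅U, H⁆ h1 (normalizer_commutator_ge_right _ _) (zpowers_le.mp h2) hn
    have h4 := Cfsg.Agent.H1.Coprime.commutator_commutator_eq H U hHU hcop (Or.inr hUsol)
    have h5 : ⁅⁅U, H⁆, H⁆ = ⊥ := by
      rw [commutator_comm, commutator_eq_bot_iff_le_centralizer]; exact h3
    rw [h5] at h4
    apply hU
    rw [← commutator_eq_bot_iff_le_centralizer, commutator_comm]; exact h4.symm
  -- proper invariant subgroups lie in V
  have hinvV : ∀ L ≤ U, H ≤ normalizer (L : Set X) → b₀ ∈ normalizer (L : Set X) → L ≠ U → L ≤ V := by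
    intro L hL h1 h2 h3
    exact le_inf hL (le_centralizer_iff.mp (hmin' L hL h1 h2 h3))
  have hUU : ⁅U, U⁆ ≤ V := by
    apply hinvV _ (commutator_le_self U)
    · exact Cfsg.Agent.H1.Coprime.le_normalizer_commutator_of hHU hHU
    · exact zpowers_le.mp (Cfsg.Agent.H1.Coprime.le_normalizer_commutator_of (zpowers_le.mpr hbU) (zpowers_le.mpr hbU))
    · intro h
      exact hU1 (Cfsg.Agent.H22.Coprime3.eq_bot_of_le_commutator_of_isPGroup hUp h.ge)
  have hVcen : V ≤ centralizer (U : Set X) := by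
    have h1 : ⁅⁅U, H⁆, V⁆ = ⊥ := by
      apply commutator_commutator_eq_bot_of_rotate
      · have : ⁅H, V⁆ = ⊥ := by
          rw [commutator_eq_bot_iff_le_centralizer]
          exact le_centralizer_iff.mp inf_le_right
        rw [this, commutator_bot_left]
      · have h2 : ⁅V, U⁆ ≤ V := (commutator_mono hVU le_rfl).trans hUU
        rw [commutator_eq_bot_iff_le_centralizer]
        exact h2.trans inf_le_right
    rw [hUH, commutator_comm, commutator_eq_bot_iff_le_centralizer] at h1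
    exact h1
  have hfixV : ∀ x ∈ U, x * b₀ = b₀ * x → x ∈ V ∧ x ∈ B := by
    intro x hx hxb
    have h1 : x ∈ B := hΩ x (hCle (hUC hx)) (hCp x (hUC hx)) hxb
    refine ⟨⟨hx, ?_⟩, h1⟩
    show x ∈ centralizer (H : Set X)
    rw [mem_centralizer_iff]
    intro h hh
    exact C1 x h1 (hCle (hUC hx)) h hh
  by_cases hab : ∀ x ∈ U, ∀ y ∈ U, x * y = y * x
  · -- abelian case
    haveI : IsMulCommutative U := ⟨⟨fun x y => Subtype.ext (hab x.1 x.2 y.1 y.2)⟩⟩
    have h1 := Cfsg.Agent.H1.Coprime.inf_commutator_eq_bot_of_abelian H U hHU hcop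
    rw [hUH] at h1
    obtain ⟨x, hx, hx1, hxb⟩ := exists_fix U hUp hU1 b₀ (hBp b₀ hb₀) hbU
    have h2 : x ∈ (U ⊓ centralizer (H : Set X)) ⊓ U := ⟨(hfixV x hx hxb).1, hx⟩
    rw [h1, mem_bot] at h2
    exact hx1 h2
  push Not at hab
  obtain ⟨x₁, hx₁, y₁, hy₁, hxy₁⟩ := hab
  -- the cyclic group B ∩ U
  obtain ⟨z, hzU, hzB, hz⟩ : ∃ z : X, z ∈ U ∧ z ∈ B ∧ ∀ x ∈ B, x ∈ U → x ∈ zpowers z := by
    have h1 : Nat.card (B ⊓ U : Subgroup X) ∣ p ^ 2 := by
      rw [← hBc]; exact card_dvd_of_le inf_le_left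
    obtain ⟨k, hk, hk2⟩ := (Nat.dvd_prime_pow hp.out).mp h1
    have hk3 : k ≠ 2 := by
      rintro rfl
      have h2 : (B ⊓ U : Subgroup X) = B := eq_of_le_of_card_ge inf_le_left (by rw [hk2, hBc])
      have h3 : b₀ ∈ (B ⊓ U : Subgroup X) := by rw [h2]; exact hb₀
      exact C3 (hCle (hUC h3.2))
    have hcyc : IsCyclic (B ⊓ U : Subgroup X) := by
      have : k = 0 ∨ k = 1 := by omega
      rcases this with rfl | rfl
      · rw [pow_zero] at hk2
        have h4 : (B ⊓ U : Subgroup X) = ⊥ := card_eq_one.mp hk2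
        rw [h4]; infer_instance
      · rw [pow_one] at hk2
        exact isCyclic_of_prime_card hk2
    obtain ⟨g, hg⟩ := hcyc.exists_generator
    refine ⟨g, g.2.2, g.2.1, ?_⟩
    intro x hxB hxU
    obtain ⟨m, hm⟩ := mem_zpowers_iff.mp (hg ⟨x, hxB, hxU⟩)
    exact mem_zpowers_iff.mpr ⟨m, congrArg Subtype.val hm⟩
  have hHV : H ≤ normalizer (V : Set X) := by
    intro h hh
    apply mem_normalizer_fintype
    intro v hv
    have h1 : v * h = h * v := (mem_centralizer_iff.mp hv.2 h hh).symm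
    have h2 : h * v * h⁻¹ = v := by rw [← h1]; group
    rw [h2]; exact hv
  have hbV : b₀ ∈ normalizer (V : Set X) := by
    apply mem_normalizer_fintype
    intro v hv
    refine ⟨(mem_normalizer_iff.mp hbU v).mp hv.1, ?_⟩
    show b₀ * v * b₀⁻¹ ∈ centralizer (H : Set X)
    rw [mem_centralizer_iff]
    intro h hh
    have h1 : b₀⁻¹ * h * b₀ ∈ H := by
      have := (mem_normalizer_iff.mp (inv_mem hbH) h).mp hh
      simpa using this
    have h2 := mem_centralizer_iff.mp hv.2 _ h1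
    calc h * (b₀ * v * b₀⁻¹) = b₀ * (b₀⁻¹ * h * b₀ * v) * b₀⁻¹ := by group
      _ = b₀ * (v * (b₀⁻¹ * h * b₀)) * b₀⁻¹ := by rw [h2]
      _ = _ := by group
  set N : Subgroup X := normalizer (U : Set X) ⊓ normalizer (V : Set X) with hN
  let κ : N →* MulAut U := (normalizerMonoidHom U).comp (inclusion inf_le_left)
  have hκ : ∀ (n : N) (u : U), ((κ n u : U) : X) = (n : X) * u * (n : X)⁻¹ := fun n u => rfl
  have hHN : H ≤ N := le_inf hHU hHV
  have hbN : b₀ ∈ N := ⟨hbU, hbV⟩
  let b : N := ⟨b₀, hbN⟩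
  let H' : Subgroup N := H.subgroupOf N
  let V' : Subgroup U := V.subgroupOf U
  have hVc : ∀ v ∈ V', ∀ u : U, v * u = u * v := by
    intro v hv u
    apply Subtype.ext
    exact (mem_centralizer_iff.mp (hVcen hv) u u.2).symm
  haveI : V'.Normal := by
    constructor
    intro v hv g
    rw [← hVc v hv g]
    simpa using hv
  have hV'N : ∀ n : N, ∀ v ∈ V', κ n v ∈ V' := by
    intro n v hv
    exact (mem_normalizer_iff.mp n.2.2 v).mp hv
  have hirr : ∀ M : Subgroup U, (∀ h ∈ H', ∀ m ∈ M, κ h m ∈ M) → (∀ m ∈ M, κ b m ∈ M) → M ≠ ⊤ → M ≤ V' := by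
    intro M h1 h2 h3
    have h4 : M.map U.subtype ≤ V := by
      apply hinvV _ (map_subtype_le _)
      · intro h hh
        apply mem_normalizer_fintype
        rintro _ ⟨m, hm, rfl⟩
        exact ⟨κ ⟨h, hHN hh⟩ m, h1 ⟨h, hHN hh⟩ hh m hm, rfl⟩
      · apply mem_normalizer_fintype
        rintro _ ⟨m, hm, rfl⟩
        exact ⟨κ b m, h2 m hm, rfl⟩
      · intro h5
        apply h3
        rw [eq_top_iff]
        intro u _
        have h6 : (u : X) ∈ M.map U.subtype := by rw [h5]; exact u.2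
        obtain ⟨m, hm, hmu⟩ := h6
        have : m = u := Subtype.ext hmu
        rw [← this]; exact hm
    intro m hm
    exact h4 ⟨m, hm, rfl⟩
  refine core_contra' hp2 κ b (Subtype.ext (hBp b₀ hb₀)) H' ?_ ?_ ?_ ?_ V' hV'N hVc ?_ ?_ hirr ?_ ?_ ⟨z, hzU⟩ ?_ ?_
  · -- b normalizes H'
    apply mem_normalizer_fintype
    intro n hn
    exact hinv b₀ hb₀ n hn
  · rw [show Nat.card H' = Nat.card H from Nat.card_congr (subgroupOfEquivOfLe hHN).toEquiv]; exact hH
  · intro h hh hc
    apply Subtype.ext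
    exact C2 h hh (congrArg Subtype.val hc)
  · intro u
    apply Subtype.ext
    exact hCp u (hUC u.2)
  · intro h hh v hv
    apply Subtype.ext
    rw [hκ]
    have h1 : (h : X) * v = v * h := (mem_centralizer_iff.mp hv.2 h hh)
    rw [h1]; group
  · intro x y
    exact hUU (commutator_mem_commutator x.2 y.2)
  · -- fixed points on the quotient
    let M : Subgroup U :=
      { carrier := {u | ∀ h ∈ H', (κ h u)⁻¹ * u ∈ V'}
        one_mem' := by
          intro h _
          rw [map_one, inv_one, one_mul]; exact V'.one_mem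
        mul_mem' := by
          intro x y hx hy h hh
          have h1 := hx h hh
          have h2 := hy h hh
          have h3 : (κ h (x * y))⁻¹ * (x * y) = (κ h y)⁻¹ * ((κ h x)⁻¹ * x) * y := by
            rw [map_mul]; group
          rw [h3, ← hVc _ h1, mul_assoc]
          exact V'.mul_mem h1 h2
        inv_mem' := by
          intro x hx h hh
          have h1 := hx h hh
          have h2 : (κ h x⁻¹)⁻¹ * x⁻¹ = (x * ((κ h x)⁻¹ * x) * x⁻¹)⁻¹ := by
            rw [map_inv]; group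
          rw [h2, ← hVc _ h1]
          simpa using V'.inv_mem h1 }
    have hMinv : ∀ n : N, (∀ h ∈ H', n⁻¹ * h * n ∈ H') → ∀ m ∈ M, κ n m ∈ M := by
      intro n hn m hm h hh
      have h1 := hm (n⁻¹ * h * n) (hn h hh)
      have h2 := hV'N n _ h1
      have h3 : κ n ((κ (n⁻¹ * h * n) m)⁻¹ * m) = (κ h (κ n m))⁻¹ * κ n m := by
        apply Subtype.ext
        simp only [hκ, Subgroup.coe_mul, Subgroup.coe_inv]
        group
      rw [← h3]; exact h2
    have hMV : M ≤ V' := by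
      apply hirr
      · intro h hh m hm
        exact hMinv h (fun k hk => H'.mul_mem (H'.mul_mem (H'.inv_mem hh) hk) hh) m hm
      · intro m hm
        refine hMinv b (fun k hk => ?_) m hm
        show b₀⁻¹ * (k : X) * b₀ ∈ H
        have := (mem_normalizer_iff.mp (inv_mem hbH) (k : X)).mp hk
        simpa using this
      · intro htop
        apply hU
        have h1 : ⁅U, H⁆ ≤ centralizer (H : Set X) := by
          rw [commutator_le]
          intro u hu h hh
          have h2 : (⟨u, hu⟩ : U) ∈ M := by rw [htop]; exact mem_top _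
          have h3 := h2 ⟨h, hHN hh⟩ hh
          have h4 : (h * u * h⁻¹)⁻¹ * u ∈ V := h3
          have h5 : ⁅u, h⁆ = u * ((h * u * h⁻¹)⁻¹ * u) * u⁻¹ := by
            rw [commutatorElement_def]; group
          have h6 := mem_centralizer_iff.mp (hVcen h4) u hu
          have h7 : ⁅u, h⁆ = (h * u * h⁻¹)⁻¹ * u := by
            rw [h5, h6]; group
          rw [h7]; exact h4.2
        rw [hUH] at h1
        exact le_centralizer_iff.mp h1
    intro u hu
    exact hMV hu
  · refine ⟨⟨x₁, hx₁⟩, ⟨y₁, hy₁⟩, ?_⟩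
    intro h
    exact hxy₁ (congrArg Subtype.val h)
  · apply Subtype.ext
    exact hBp z hzB
  · intro x hx
    have h1 : b₀ * (x : X) * b₀⁻¹ = x := congrArg Subtype.val hx
    have h2 : (x : X) * b₀ = b₀ * x := by
      calc (x : X) * b₀ = (b₀ * (x : X) * b₀⁻¹) * b₀ := by rw [h1]
        _ = b₀ * x := by group
    obtain ⟨h3, h4⟩ := hfixV x x.2 h2
    refine ⟨h3, ?_⟩
    obtain ⟨m, hm⟩ := mem_zpowers_iff.mp (hz x h4 x.2)
    exact mem_zpowers_iff.mpr ⟨m, Subtype.ext hm⟩

end Cfsg.Agent.H17.BF
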