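import Cfsg.Agent.H17_BF6
import Cfsg.Agent.H11_Cores
import Cfsg.Agent.H1_Nilp

/-!
# Reduction to the local core
-/

set_option autoImplicit false
set_option linter.all false

namespace Cfsg.Agent.H17.BF

open Subgroup
open scoped commutatorElement

/-- `B` is the `Ω₁` of the conjugate Sylow. -/
theorem omega_conj {G : Type*} [Group G] [Finite G] {p : ℕ} [Fact p.Prime]
    (B : Subgroup G) (hBp : ∀ b ∈ B, b ^ p = 1)
    (Cb : Subgroup G) (P : Sylow p Cb)
    (hBP : B = Subgroup.closure {x : G | x ∈ ((P : Subgroup Cb).map Cb.subtype : Subgroup G) ∧ orderOf x = p})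
    (S : Subgroup G) (hS : IsPGroup p S) (hSb : S ≤ Cb) (hBS : B ≤ S) :
    ∀ s ∈ S, s ^ p = 1 → s ∈ B := by
  classical
  have hS' : IsPGroup p (S.subgroupOf Cb) := hS.comap_of_injective Cb.subtype Cb.subtype_injective
  obtain ⟨P', hP'⟩ := hS'.exists_le_sylow
  obtain ⟨g, hg⟩ := MulAction.exists_smul_eq Cb P P'
  set Pm : Subgroup G := (P : Subgroup Cb).map Cb.subtype with hPm
  have hord : ∀ x ∈ Pm, orderOf x = p → x ∈ B := by
    intro x hx ho
    rw [hBP]; exact Subgroup.subset_closure ⟨hx, ho⟩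
  -- elements of S conjugate into Pm
  have hSP : ∀ s ∈ S, (g : G)⁻¹ * s * g ∈ Pm := by
    intro s hs
    have h1 : (⟨s, hSb hs⟩ : Cb) ∈ (P' : Subgroup Cb) := hP' hs
    rw [← hg] at h1
    have h2 : (⟨s, hSb hs⟩ : Cb) ∈ ((g • P : Sylow p Cb) : Subgroup Cb) := h1
    rw [Sylow.coe_subgroup_smul] at h2
    have h3 := (Subgroup.mem_pointwise_smul_iff_inv_smul_mem).mp h2
    refine ⟨_, h3, ?_⟩
    show ((MulAut.conj g)⁻¹ (⟨s, hSb hs⟩ : Cb) : G) = _
    simp
  have hconj : ∀ s ∈ S, s ^ p = 1 → (g : G)⁻¹ * s * g ∈ B := by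
    intro s hs hsp
    by_cases h1 : s = 1
    · rw [h1]; simp [B.one_mem]
    · apply hord _ (hSP s hs)
      have h2 : orderOf s = p := orderOf_eq_prime hsp h1
      rw [← h2]
      have : (g : G)⁻¹ * s * g = MulAut.conj (g : G)⁻¹ s := by simp
      rw [this]
      exact orderOf_injective (MulAut.conj (g : G)⁻¹).toMonoidHom (MulAut.conj (g : G)⁻¹).injective s
  -- g⁻¹ normalizes B
  have hgn : (g : G)⁻¹ ∈ normalizer (B : Set G) := by
    apply mem_normalizer_fintype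
    intro n hn
    have := hconj n (hBS hn) (hBp n hn)
    simpa using this
  intro s hs hsp
  have h1 := hconj s hs hsp
  have h2 := (mem_normalizer_iff.mp hgn s).mpr (by simpa using h1)
  exact h2

theorem main {G : Type*} [Group G] [Finite G] {p : ℕ} [hpf : Fact p.Prime] (hp : p ≠ 2)
    (hG : Cfsg.IsPSolvable p G) (B : Subgroup G) (hB : Cfsg.IsElementaryAbelian p B) (hBc : Nat.card B = p ^ 2)
    (b₀ : G) (hb₀ : b₀ ∈ B) (hb₁ : b₀ ≠ 1) (P : Sylow p ↥(Subgroup.centralizer ({b₀} : Set G)))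
    (hBP : B = Subgroup.closure {x : G | x ∈ ((P : Subgroup ↥(Subgroup.centralizer ({b₀} : Set G))).map
      (Subgroup.centralizer ({b₀} : Set G)).subtype : Subgroup G) ∧ orderOf x = p})
    (Q : Subgroup G) (hQ : ¬ p ∣ Nat.card Q) (hinv : ∀ b ∈ B, ∀ x ∈ Q, b * x * b⁻¹ ∈ Q) :
    Q ≤ Cfsg.pPrimeCore p G := by
  classical
  have hKn : (Cfsg.pPrimeCore p G).Normal := H1.Nilp.pPrimeCore_normal p
  have hKc : (Nat.card (Cfsg.pPrimeCore p G)).Coprime p := H1.Nilp.pPrimeCore_coprime p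
  have hXK : Cfsg.pPrimeCore p (G ⧸ Cfsg.pPrimeCore p G) = ⊥ := H11.Cores.pPrimeCore_quotient p
  have hXs : Cfsg.IsPSolvable p (G ⧸ Cfsg.pPrimeCore p G) := H22.PSolv.isPSolvable_quotient _ hG
  set K := Cfsg.pPrimeCore p G with hK
  have hCR := H22.PSolv.centralizer_pCore_le hXs hXK
  haveI hRn : (Cfsg.pCore p (G ⧸ K)).Normal := H1.Nilp.pCore_normal p
  have hRp : IsPGroup p (Cfsg.pCore p (G ⧸ K)) := H1.Nilp.pCore_isPGroup p
  set R := Cfsg.pCore p (G ⧸ K) with hR
  let π : G →* G ⧸ K := QuotientGroup.mk' K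
  have hπk : ∀ g : G, π g = 1 → g ∈ K := fun g hg => (QuotientGroup.eq_one_iff g).mp hg
  have hπs : Function.Surjective π := QuotientGroup.mk'_surjective K
  -- p-elements in K are trivial
  have hpK : ∀ (S : Subgroup G), IsPGroup p S → ∀ s ∈ S, s ∈ K → s = 1 := by
    intro S hS s hs hsK
    obtain ⟨k, hk⟩ := hS ⟨s, hs⟩
    have h1 : s ^ p ^ k = 1 := congrArg Subtype.val hk
    have h2 : orderOf s ∣ p ^ k := orderOf_dvd_of_pow_eq_one h1
    have h3 : orderOf s ∣ Nat.card K := by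
      rw [← Subgroup.orderOf_mk s hsK]; exact orderOf_dvd_natCard _
    have h4 : orderOf s ∣ 1 := by
      have h5 := Nat.Coprime.pow_right k hKc
      rw [← h5]; exact Nat.dvd_gcd h3 h2
    exact orderOf_eq_one_iff.mp (Nat.dvd_one.mp h4)
  have hBpg : IsPGroup p B := by
    intro x
    exact ⟨1, Subtype.ext (by rw [pow_one]; exact hB.2 x x.2)⟩
  have hBab : ∀ a ∈ B, ∀ b ∈ B, a * b = b * a := by
    intro a ha b hb
    exact congrArg Subtype.val (hB.1.is_comm.comm ⟨a, ha⟩ ⟨b, hb⟩)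
  set B' : Subgroup (G ⧸ K) := B.map π with hB'
  have hB'p : IsPGroup p B' := hBpg.map π
  have hΩ : ∀ x ∈ R, x ^ p = 1 → x * π b₀ = π b₀ * x → x ∈ B' := by
    intro x hx hxp hxb
    let Y' : Subgroup (G ⧸ K) := (R ⊔ B') ⊓ centralizer ({π b₀} : Set (G ⧸ K))
    have hY'p : IsPGroup p Y' := (IsPGroup.to_sup_of_normal_left hRp hB'p).to_le inf_le_left
    have hB'Y : B' ≤ Y' := by
      refine le_inf le_sup_right ?_
      rintro _ ⟨b, hb, rfl⟩
      rw [mem_centralizer_iff]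
      intro c hc
      rw [Set.mem_singleton_iff] at hc
      rw [hc, ← map_mul, ← map_mul, hBab b₀ hb₀ b hb]
    have hxY : x ∈ Y' := by
      refine ⟨mem_sup_left hx, ?_⟩
      show x ∈ centralizer ({π b₀} : Set (G ⧸ K))
      rw [mem_centralizer_iff]
      intro c hc
      rw [Set.mem_singleton_iff] at hc
      rw [hc, hxb]
    let Y : Subgroup G := Y'.comap π
    have hBY : B ≤ Y := fun b hb => hB'Y ⟨b, hb, rfl⟩
    have hBYp : IsPGroup p (B.subgroupOf Y) := hBpg.comap_of_injective Y.subtype Y.subtype_injective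
    obtain ⟨S', hS'⟩ := hBYp.exists_le_sylow
    let f : Y →* Y' := π.subgroupComap Y'
    have hf : Function.Surjective f := MonoidHom.subgroupComap_surjective_of_surjective π Y' hπs
    have htop : ((S'.mapSurjective hf : Sylow p Y') : Subgroup Y') = ⊤ := by
      exact ((S'.mapSurjective hf).is_maximal' (hY'p.to_subgroup ⊤) le_top).symm
    let S : Subgroup G := (S' : Subgroup Y).map Y.subtype
    have hSp : IsPGroup p S := S'.isPGroup'.map Y.subtype
    have hBS : B ≤ S := fun b hb => ⟨⟨b, hBY hb⟩, hS' hb, rfl⟩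
    have hSb : S ≤ centralizer ({b₀} : Set G) := by
      rintro s hs
      rw [mem_centralizer_iff]
      intro c hc
      rw [Set.mem_singleton_iff] at hc
      rw [hc]
      have h1 : ⁅b₀, s⁆ ∈ S := by
        rw [commutatorElement_def]
        exact S.mul_mem (S.mul_mem (S.mul_mem (hBS hb₀) hs) (S.inv_mem (hBS hb₀))) (S.inv_mem hs)
      have h2 : ⁅b₀, s⁆ ∈ K := by
        apply hπk
        rw [map_commutatorElement, commutatorElement_eq_one_iff_mul_comm]
        obtain ⟨y, hy, rfl⟩ := hs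
        have h3 : π (y : G) ∈ Y' := y.2
        exact mem_centralizer_iff.mp h3.2 (π b₀) rfl
      exact commutatorElement_eq_one_iff_mul_comm.mp (hpK S hSp _ h1 h2)
    have key := omega_conj B hB.2 (centralizer ({b₀} : Set G)) P hBP S hSp hSb hBS
    have h1 : (⟨x, hxY⟩ : Y') ∈ ((S'.mapSurjective hf : Sylow p Y') : Subgroup Y') := by rw [htop]; exact mem_top _
    obtain ⟨s, hs, hsx⟩ := h1
    have hsS : (s : G) ∈ S := ⟨s, hs, rfl⟩
    have hsx' : π (s : G) = x := congrArg Subtype.val hsx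
    have hsp : (s : G) ^ p = 1 := by
      apply hpK S hSp _ (S.pow_mem hsS p)
      apply hπk
      rw [map_pow, hsx', hxp]
    exact ⟨s, key s hsS hsp, hsx'⟩
  have hB'c : Nat.card B' = p ^ 2 := by
    rw [← hBc]
    refine (Nat.card_congr (Equiv.ofBijective (fun b : B => (⟨π b, ⟨b, b.2, rfl⟩⟩ : B')) ⟨?_, ?_⟩)).symm
    · intro a b hab
      have h1 : π (a : G) = π b := congrArg Subtype.val hab
      have h2 : (a : G)⁻¹ * b ∈ K := by
        apply hπk
        rw [map_mul, map_inv, h1, inv_mul_cancel]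
      have h3 := hpK B hBpg _ (B.mul_mem (B.inv_mem a.2) b.2) h2
      exact Subtype.ext (inv_mul_eq_one.mp h3)
    · rintro ⟨_, b, hb, rfl⟩
      exact ⟨⟨b, hb⟩, rfl⟩
  have hmain := core hp R hRp hCR B' (by
      rintro _ ⟨b, hb, rfl⟩
      rw [← map_pow, hB.2 b hb, map_one]) hB'c (π b₀) ⟨b₀, hb₀, rfl⟩ (fun h => hb₁ (hpK B hBpg b₀ hb₀ (hπk b₀ h))) hΩ
    (Q.map π) (by
      have h1 : Nat.card (Q.map π) ∣ Nat.card Q := card_map_dvd Q π
      exact Nat.Coprime.coprime_dvd_left h1 ((Nat.Prime.coprime_iff_not_dvd hpf.out).mpr hQ).symm) (by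
      rintro _ ⟨b, hb, rfl⟩ _ ⟨x, hx, rfl⟩
      exact ⟨b * x * b⁻¹, hinv b hb x hx, by rw [map_mul, map_mul, map_inv]⟩)
  intro q hq
  apply hπk
  have h1 : π q ∈ Q.map π := ⟨q, hq, rfl⟩
  rw [hmain] at h1
  exact h1

end Cfsg.Agent.H17.BF
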