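import Mathlib
import Cfsg.Agent.H17_CV
import Cfsg.Agent.H17_CV2
import Cfsg.Agent.H6_CVL1
import Cfsg.Agent.H14_CVL2
import Cfsg.Agent.H14_CVL3
import Cfsg.Agent.H17_Base

set_option autoImplicit false

open scoped Pointwise

namespace Cfsg.Agent.H17.CVS
open Cfsg.Agent.H17
open Cfsg.Agent.H17.CV Cfsg.Agent.H17.CV2

theorem V_surj {G H : Type*} [Group G] [Group H] (f : H →* G) (hf : Function.Surjective f) (k : ℕ) :
    ∀ y ∈ V G k, ∃ x ∈ V H k, f x = y := by
  induction k with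
  | zero => intro y _; obtain ⟨x, hx⟩ := hf y; exact ⟨x, trivial, hx⟩
  | succ k ih =>
    rintro y ⟨a, ha, b, rfl⟩
    obtain ⟨a', ha', rfl⟩ := ih a ha
    obtain ⟨b', rfl⟩ := hf b
    exact ⟨_, ⟨a', ha', b', rfl⟩, by simp⟩

theorem iter_mem {G : Type*} [Group G] {P : Subgroup G} {g : G} (hg : g ∈ Subgroup.normalizer (P : Set G)) {v : G}
    (hv : v ∈ P) (k : ℕ) : (fun a => a * g * a⁻¹ * g⁻¹)^[k] v ∈ P := by
  induction k with
  | zero => exact hv
  | succ k ih =>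
    rw [Function.iterate_succ_apply']
    set a := (fun a => a * g * a⁻¹ * g⁻¹)^[k] v with ha
    have h1 : g * a⁻¹ * g⁻¹ ∈ P := (Subgroup.mem_normalizer_iff.1 hg _).1 (inv_mem ih)
    have : a * g * a⁻¹ * g⁻¹ = a * (g * a⁻¹ * g⁻¹) := by group
    show a * g * a⁻¹ * g⁻¹ ∈ P
    rw [this]
    exact mul_mem ih h1

theorem pow_coprime_mem {G : Type*} [Group G] {O : Subgroup G} {x : G} {p r n : ℕ} (hr : r.Coprime p)
    (h1 : x ^ r ∈ O) (hx : orderOf x = p ^ n) : x ∈ O := by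
  have hc : r.Coprime (orderOf x) := by rw [hx]; exact Nat.Coprime.pow_right n hr
  obtain ⟨m, hm⟩ := exists_pow_eq_self_of_coprime hc
  rw [← hm]; exact pow_mem h1 m

theorem SP {G : Type*} [Group G] [Finite G] [Group.IsSolvable G] (k : ℕ) (hA : HA G k) (p : ℕ) [Fact p.Prime] :
    ∃ M : Subgroup G, M.Normal ∧ (∀ x ∈ V G k, x ∈ M) ∧
      (∀ x ∈ M, (∃ n, orderOf x = p ^ n) → x ∈ Cfsg.pCore p G) := by
  set O := Cfsg.pCore p G with hOdef
  haveI hOn : O.Normal := Cfsg.Agent.H17.Base.pCore_normal p G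
  obtain ⟨U, hU, hON, hCU⟩ := Cfsg.Agent.H14.CVL3.L3 p O (Cfsg.Agent.H17.Base.pCore_isPGroup p G) (fun N hN hp => Cfsg.Agent.H17.Base.le_pCore hN hp)
  set N := Subgroup.normalizer (U : Set G) with hN
  set C := (Subgroup.centralizer (U : Set G)).subgroupOf N with hCdef
  haveI hC : C.Normal := by
    rw [hCdef, hN, ← Subgroup.normalizerMonoidHom_ker]; infer_instance
  have hval : ∀ x ∈ V G k, x ∈ N → (∃ n, orderOf x = p ^ n) → x ∈ Subgroup.centralizer (U : Set G) := by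
    rintro x hx hxN ⟨n, hn⟩
    rw [Subgroup.mem_centralizer_iff]
    intro u hu
    have h1 : x * u * x⁻¹ * u⁻¹ ∈ U := mul_mem ((Subgroup.mem_normalizer_iff.mp hxN u).mp hu) (inv_mem hu)
    have h2 := hA x hx u (by
      rw [hn]
      exact Nat.Coprime.pow_left n (Nat.Coprime.coprime_dvd_right (Subgroup.orderOf_dvd_natCard U h1) hU.symm))
    exact h2.symm
  have hOU : ∀ z ∈ O ⊔ U, z ^ Nat.card U ∈ O := by
    intro z hz
    have h1 : (QuotientGroup.mk' O z) ∈ U.map (QuotientGroup.mk' O) := by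
      have h2 : QuotientGroup.mk' O z ∈ (O ⊔ U).map (QuotientGroup.mk' O) := Subgroup.mem_map_of_mem _ hz
      rw [Subgroup.map_sup, QuotientGroup.map_mk'_self, bot_sup_eq] at h2
      exact h2
    obtain ⟨u, hu, hu2⟩ := h1
    rw [← QuotientGroup.eq_one_iff]
    have h3 : QuotientGroup.mk' O (z ^ Nat.card U) = 1 := by
      rw [map_pow, ← hu2, ← map_pow]
      have : u ^ Nat.card U = 1 := by
        have := pow_card_eq_one' (G := U) (x := ⟨u, hu⟩)
        exact congrArg Subtype.val this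
      rw [this, map_one]
    exact h3
  obtain ⟨K, hKn, hCK, hrel, n, hidx⟩ := Cfsg.Agent.H6.CVL1.L1 (p := p) C (by
    intro P hP g hg hgp v hv
    apply Cfsg.Agent.H14.CVL2.L2 C P hP g hg hgp v hv k
    have hwP := iter_mem hg hv k
    have hwV := V_iter k v g
    rw [hCdef, Subgroup.mem_subgroupOf]
    refine hval _ (V_map N.subtype k _ hwV) (Subtype.property _) ?_
    obtain ⟨m, hm⟩ := (IsPGroup.iff_orderOf.mp hP) ⟨_, hwP⟩
    refine ⟨m, ?_⟩
    rw [← hm, ← Subgroup.orderOf_coe]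
    exact Subgroup.orderOf_coe _)
  set M := K.map N.subtype ⊔ O with hMdef
  have hGN : ∀ g : G, ∃ n0 ∈ N, ∃ o ∈ O, g = n0 * o := by
    intro g
    have h1 : g ∈ N ⊔ O := by rw [sup_comm, hON]; trivial
    have h2 : g ∈ (N : Set G) * (O : Set G) := by rw [← Subgroup.mul_normal]; exact h1
    obtain ⟨a, ha, b, hb, rfl⟩ := Set.mem_mul.mp h2
    exact ⟨a, ha, b, hb, rfl⟩
  have hM : ∀ g : G, g ∈ M → ∃ k0 ∈ K, ∃ o ∈ O, g = (k0 : G) * o := by
    intro g hg
    have h2 : g ∈ ((K.map N.subtype : Subgroup G) : Set G) * (O : Set G) := by rw [← Subgroup.mul_normal]; exact hg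
    obtain ⟨a, ⟨a0, ha0, rfl⟩, b, hb, rfl⟩ := Set.mem_mul.mp h2
    exact ⟨a0, ha0, b, hb, rfl⟩
  have hKM : ∀ k0 ∈ K, (k0 : G) ∈ M := fun k0 hk0 => Subgroup.mem_sup_left ⟨k0, hk0, rfl⟩
  have hOM : O ≤ M := le_sup_right
  have hMn : M.Normal := by
    refine ⟨fun m hm g => ?_⟩
    obtain ⟨n0, hn0, o, ho, rfl⟩ := hGN g
    obtain ⟨k0, hk0, o', ho', rfl⟩ := hM m hm
    have h1 : n0 * o * ((k0 : G) * o') * (n0 * o)⁻¹ =
        (n0 * k0 * n0⁻¹) * (n0 * (((k0 : G)⁻¹ * o * k0) * (o' * o⁻¹)) * n0⁻¹) := by group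
    rw [h1]
    refine mul_mem (hKM (⟨n0, hn0⟩ * k0 * ⟨n0, hn0⟩⁻¹) (hKn.conj_mem k0 hk0 ⟨n0, hn0⟩)) (hOM ?_)
    refine hOn.conj_mem _ (mul_mem ?_ (mul_mem ho' (inv_mem ho))) n0
    have := hOn.conj_mem o ho (k0 : G)⁻¹
    rwa [inv_inv] at this
  refine ⟨M, hMn, ?_, ?_⟩
  · -- values
    obtain ⟨P⟩ : Nonempty (Sylow p N) := inferInstance
    have hKP : K ⊔ (P : Subgroup N) = ⊤ := by
      rw [← Subgroup.index_eq_one]
      have h1 : (K ⊔ (P : Subgroup N)).index ∣ p ^ n := hidx ▸ Subgroup.index_dvd_of_le le_sup_left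
      have h2 : (K ⊔ (P : Subgroup N)).index ∣ (P : Subgroup N).index := Subgroup.index_dvd_of_le le_sup_right
      have h3 : ¬ p ∣ (P : Subgroup N).index := P.not_dvd_index
      have h4 : (p ^ n).Coprime (P : Subgroup N).index :=
        Nat.Coprime.pow_left n ((Nat.Prime.coprime_iff_not_dvd Fact.out).mpr h3)
      exact Nat.eq_one_of_dvd_coprimes h4 h1 h2
    set f : (P : Subgroup N) →* G ⧸ M := (QuotientGroup.mk' M).comp (N.subtype.comp (P : Subgroup N).subtype) with hf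
    have hfs : Function.Surjective f := by
      intro y
      obtain ⟨g, rfl⟩ := QuotientGroup.mk'_surjective M y
      obtain ⟨n0, hn0, o, ho, rfl⟩ := hGN g
      have h1 : (⟨n0, hn0⟩ : N) ∈ (K : Set N) * ((P : Subgroup N) : Set N) := by
        rw [← Subgroup.normal_mul, hKP]; trivial
      obtain ⟨a, ha, b, hb, hab⟩ := Set.mem_mul.mp h1
      refine ⟨⟨b, hb⟩, ?_⟩
      have h2 : n0 = (a : G) * (b : G) := (congrArg Subtype.val hab).symm
      rw [h2]
      show QuotientGroup.mk' M (b : G) = QuotientGroup.mk' M ((a : G) * b * o)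
      have ha1 : QuotientGroup.mk' M (a : G) = 1 := (QuotientGroup.eq_one_iff _).mpr (hKM a ha)
      have ho1 : QuotientGroup.mk' M o = 1 := (QuotientGroup.eq_one_iff _).mpr (hOM ho)
      rw [map_mul, map_mul, ha1, ho1, one_mul, mul_one]
    intro x hx
    obtain ⟨s, hs, hsx⟩ := V_surj f hfs k _ (V_map (QuotientGroup.mk' M) k x hx)
    have hsV : ((s : N) : G) ∈ V G k := V_map (N.subtype.comp (P : Subgroup N).subtype) k s hs
    obtain ⟨m, hm⟩ := (IsPGroup.iff_orderOf.mp P.2) s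
    have hso : orderOf ((s : N) : G) = p ^ m := by
      rw [Subgroup.orderOf_coe, Subgroup.orderOf_coe, hm]
    have h1 := hval _ hsV (s : N).2 ⟨m, hso⟩
    have h2 := hOU _ (hCU ⟨h1, (s : N).2⟩)
    have h3 := pow_coprime_mem hU h2 hso
    rw [← QuotientGroup.eq_one_iff]
    have h4 : QuotientGroup.mk' M x = 1 := by
      rw [← hsx]
      exact (QuotientGroup.eq_one_iff _).mpr (hOM h3)
    exact h4
  · rintro x hx ⟨m, hm⟩
    obtain ⟨k0, hk0, o, ho, rfl⟩ := hM x hx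
    have h1 : k0 ^ (C.relIndex K) ∈ C := by
      haveI : (C.subgroupOf K).Normal := inferInstance
      have := Subgroup.pow_index_mem (C.subgroupOf K) ⟨k0, hk0⟩
      exact this
    have h2 : ((k0 : G)) ^ (C.relIndex K) ∈ O ⊔ U := by
      apply hCU
      refine ⟨?_, ?_⟩
      · rw [hCdef, Subgroup.mem_subgroupOf] at h1
        simpa using h1
      · exact pow_mem k0.2 _
    have h3 := hOU _ h2
    refine pow_coprime_mem (r := C.relIndex K * Nat.card U) (Nat.Coprime.mul_left hrel hU) ?_ hm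
    rw [← QuotientGroup.eq_one_iff] at h3 ⊢
    have h4 : QuotientGroup.mk' O ((k0 : G) * o) = QuotientGroup.mk' O (k0 : G) := by
      rw [map_mul, (QuotientGroup.eq_one_iff (N := O) o).mpr ho |> (fun h => (h : QuotientGroup.mk' O o = 1)), mul_one]
    show QuotientGroup.mk' O (((k0 : G) * o) ^ (C.relIndex K * Nat.card U)) = 1
    rw [map_pow, h4, ← map_pow, pow_mul]
    exact h3

end Cfsg.Agent.H17.CVS
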