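import Cfsg.Agent.H17_PRed
import Cfsg.Agent.H5_SL2

set_option autoImplicit false
open Cfsg Cfsg.Agent.H17.Base

namespace Cfsg.Agent.H17.FL

/-- `Y` is the only elementary abelian subgroup of `N(Y)` normalized by `N(Y)`. -/
def Uq (p : ℕ) {K : Type*} [Group K] (Y : Subgroup K) : Prop :=
  ∀ V : Subgroup K, V ≤ Nz Y → Nz Y ≤ Nz V → IsElementaryAbelian p V → V ≠ ⊥ → V = Y

theorem ea_map {K K' : Type*} [Group K] [Group K'] {p : ℕ} {V : Subgroup K} (f : K →* K')
    (h : IsElementaryAbelian p V) : IsElementaryAbelian p (V.map f) := by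
  rw [ea_iff] at h ⊢
  refine ⟨?_, ?_⟩
  · rintro _ ⟨x, hx, rfl⟩
    rw [Subgroup.mem_centralizer_iff]
    rintro _ ⟨y, hy, rfl⟩
    rw [← map_mul, ← map_mul]
    congr 1
    exact (Subgroup.mem_centralizer_iff.1 (h.1 hx)) y hy
  · rintro _ ⟨x, hx, rfl⟩
    rw [← map_pow, h.2 x hx, map_one]

theorem Uq.congr {p : ℕ} {K K' : Type*} [Group K] [Group K'] (e : K ≃* K') {Y : Subgroup K}
    (h : Uq p (Y.map e.toMonoidHom)) : Uq p Y := by
  intro V h1 h2 h3 h4
  have hN : ∀ W : Subgroup K, (Nz W).map e.toMonoidHom = Nz (W.map e.toMonoidHom) := fun W => by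
    exact Subgroup.map_equiv_normalizer_eq W e
  have h5 := h (V.map e.toMonoidHom) (by rw [← hN]; exact Subgroup.map_mono h1)
    (by rw [← hN, ← hN]; exact Subgroup.map_mono h2) (ea_map _ h3)
    (by rw [Ne, Subgroup.map_eq_bot_iff_of_injective _ e.injective]; exact h4)
  exact Subgroup.map_injective e.injective h5

/-- a Sylow subgroup contains every `p`-subgroup normalizing it -/
theorem le_of_sylow {p : ℕ} {K : Type*} [Group K] [Fact p.Prime] {P V : Subgroup K} (hP : IsSylowIn p P ⊤)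
    (hV : IsPGroup p V) (h : V ≤ Nz P) : V ≤ P := by
  have h1 := isPGroup_sup_of_le_Nz' hP.isPGroup hV h
  have h2 := hP.eq_of_le le_top h1 le_sup_left
  rw [← h2]
  exact le_sup_right

/-! ### the case of order twice an odd number -/

theorem two_group_card {K : Type*} [Group K] [Finite K] {r : ℕ} (hr : ¬ 2 ∣ r) (hK : Nat.card K = 2 * r)
    {V : Subgroup K} (hV : IsPGroup 2 V) (h1 : V ≠ ⊥) : Nat.card V = 2 := by
  have : Fact (Nat.Prime 2) := ⟨Nat.prime_two⟩
  obtain ⟨n, hn⟩ := IsPGroup.iff_card.1 hV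
  have h2 : 2 ^ n ∣ 2 * r := by rw [← hn, ← hK]; exact Subgroup.card_subgroup_dvd_card V
  have h3 : n ≤ 1 := by
    by_contra h
    have h4 : 2 * 2 ∣ 2 * r := by
      have : 2 * 2 ∣ 2 ^ n := by
        have := pow_dvd_pow 2 (show 2 ≤ n by omega)
        simpa [sq] using this
      exact this.trans h2
    exact hr (Nat.dvd_of_mul_dvd_mul_left (by norm_num) h4)
  have h5 : n ≠ 0 := by
    rintro rfl
    exact h1 (Subgroup.card_eq_one.1 (by rw [hn, pow_zero]))
  rw [hn, show n = 1 by omega, pow_one]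

theorem uq_two {K : Type*} [Group K] [Finite K] {r : ℕ} (hr : ¬ 2 ∣ r) (hK : Nat.card K = 2 * r)
    {Y : Subgroup K} (hY : IsPGroup 2 Y) (h1 : Y ≠ ⊥) : Uq 2 Y := by
  intro V hVY hYV hV hV1
  have hVp := ea_isPGroup hV
  have h2 := isPGroup_sup_of_le_Nz' hVp hY (Subgroup.le_normalizer.trans hYV)
  have h3 := two_group_card hr hK hVp hV1
  have h4 := two_group_card hr hK hY h1
  have h5 : V ⊔ Y ≠ ⊥ := fun h => h1 (le_bot_iff.1 (le_sup_right.trans h.le))
  have h6 := two_group_card hr hK h2 h5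
  rw [Subgroup.eq_of_le_of_card_ge (le_sup_left : V ≤ V ⊔ Y) (by rw [h6, h3])]
  exact (Subgroup.eq_of_le_of_card_ge (le_sup_right : Y ≤ V ⊔ Y) (by rw [h6, h4])).symm

/-! ### `SL₂` -/

section SL
open Cfsg.Agent.H5.SL2
variable {F : Type*} [Field F] [Fintype F] {p : ℕ} [Fact p.Prime] [CharP F p]

theorem sl_sylow {Y : Subgroup (S F)} (hY : IsPGroup p Y) (hc : Nat.card Y = Fintype.card F) :
    ∃ g : S F, Y = cj g (U F) := by
  obtain ⟨P, hP⟩ := hY.exists_le_sylow
  obtain ⟨g, hg⟩ := exists_conj p P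
  refine ⟨g, ?_⟩
  rw [← show (P : Subgroup (S F)) = cj g (U F) from hg]
  apply Subgroup.eq_of_le_of_card_ge hP
  rw [hg]
  have h1 : Nat.card (cj g (U F) : Subgroup (S F)) = Nat.card (U F) := card_cj _ _
  change Nat.card (cj g (U F) : Subgroup (S F)) ≤ _
  rw [h1, card_U, hc]

theorem sl_isSylowIn_U : IsSylowIn p (U F) ⊤ := isSylowIn_coe (US p)

/-- every element of a finite field is a difference or a sum of squares -/
theorem sub_sq (a : F) : (∃ b : F, a = b ^ 2) ∨ ∃ b c : F, a = b ^ 2 - c ^ 2 := by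
  by_cases h2 : (2 : F) = 0
  · left
    have h3 : ringChar F = 2 := by
      have h4 : ringChar F ∣ 2 := (ringChar.spec F 2).1 (by exact_mod_cast h2)
      have h5 := (Nat.prime_two.eq_one_or_self_of_dvd _ h4)
      rcases h5 with h5 | h5
      · exfalso
        have := CharP.cast_eq_zero F (ringChar F)
        rw [h5] at this
        simp at this
      · exact h5
    obtain ⟨b, hb⟩ := FiniteField.isSquare_of_char_two h3 a
    exact ⟨b, by rw [hb, sq]⟩
  · right
    refine ⟨(a + 1) / 2, (a - 1) / 2, ?_⟩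
    have h4 : (4 : F) ≠ 0 := by
      have : (4 : F) = 2 * 2 := by norm_num
      rw [this]; exact mul_ne_zero h2 h2
    field_simp
    ring

theorem uq_sl {Y : Subgroup (S F)} (hY : IsPGroup p Y) (hc : Nat.card Y = Fintype.card F) : Uq p Y := by
  obtain ⟨g, rfl⟩ := sl_sylow hY hc
  intro V hVY hYV hV hV1
  have hS : IsSylowIn p (cj g (U F)) ⊤ := (sl_isSylowIn_U (F := F) (p := p)).conj_top g
  have hVU : V ≤ cj g (U F) := le_of_sylow hS (ea_isPGroup hV) hVY
  obtain ⟨v, hv, hv1⟩ := (Subgroup.bot_or_exists_ne_one V).resolve_left hV1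
  obtain ⟨_, h1, h2⟩ := hVU hv
  obtain ⟨x, rfl⟩ := mem_U.1 h1
  change g * u x * g⁻¹ = _ at h2
  have hx : x ≠ 0 := by
    rintro rfl
    rw [u_zero, mul_one, mul_inv_cancel] at h2
    exact hv1 h2.symm
  -- conjugation
  have key : ∀ (y t : F), g * u y * g⁻¹ ∈ V → g * u (t ^ 2 * y) * g⁻¹ ∈ V := by
    intro y t hy
    by_cases ht : t = 0
    · subst ht
      rw [show (0 : F) ^ 2 * y = 0 by ring, u_zero, mul_one, mul_inv_cancel]
      exact one_mem V
    · set δ : S F := d (Units.mk0 t ht) with hδ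
      have h10 : δ.1 1 0 = 0 := rfl
      have h3 : δ ∈ Nz (U F) := mem_normalizer_U.2 h10
      have h4 : g * δ * g⁻¹ ∈ Nz (cj g (U F)) := by
        rw [← cj_Nz]
        exact ⟨δ, h3, rfl⟩
      have h5 := (Subgroup.mem_normalizer_iff.1 (hYV h4) _).1 hy
      have h6 : g * δ * g⁻¹ * (g * u y * g⁻¹) * (g * δ * g⁻¹)⁻¹ = g * (δ * u y * δ⁻¹) * g⁻¹ := by group
      rw [h6, conj_u h10] at h5
      exact h5
  have hadd : ∀ y z : F, g * u y * g⁻¹ ∈ V → g * u z * g⁻¹ ∈ V → g * u (y + z) * g⁻¹ ∈ V := by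
    intro y z hy hz
    have := mul_mem hy hz
    rwa [show g * u y * g⁻¹ * (g * u z * g⁻¹) = g * (u y * u z) * g⁻¹ by group, u_mul] at this
  have hneg : ∀ y : F, g * u y * g⁻¹ ∈ V → g * u (-y) * g⁻¹ ∈ V := by
    intro y hy
    have := inv_mem hy
    rwa [show (g * u y * g⁻¹)⁻¹ = g * (u y)⁻¹ * g⁻¹ by group, u_inv] at this
  apply le_antisymm hVU
  rintro _ ⟨_, h3, rfl⟩
  obtain ⟨z, rfl⟩ := mem_U.1 h3
  change g * u z * g⁻¹ ∈ V
  have hxV : g * u x * g⁻¹ ∈ V := by rw [h2]; exact hv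
  rcases sub_sq (z / x) with ⟨b, hb⟩ | ⟨b, c, hb⟩
  · have : z = b ^ 2 * x := by rw [← hb]; field_simp
    rw [this]
    exact key x b hxV
  · have : z = b ^ 2 * x + -(c ^ 2 * x) := by
      have h4 : z = (z / x) * x := by field_simp
      rw [h4, hb]; ring
    rw [this]
    exact hadd _ _ (key x b hxV) (hneg _ (key x c hxV))

end SL

end Cfsg.Agent.H17.FL
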