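import Cfsg.Agent.HL_SzModelB

set_option autoImplicit false
set_option linter.unusedVariables false
set_option linter.unusedSimpArgs false

/-! The group `Sz(2)` -/

namespace Cfsg.Agent.H17.FL

open scoped MatrixGroups Matrix
open Cfsg.Agent.HL.Sz

section
variable {F : Type*} [Field F] {θ : F →+* F}

/-- representatives of the cosets of the torus -/
def Rep (θ : F →+* F) (x : SL(4, F)) : Prop :=
  (∃ a b, x = U θ a b) ∨ ∃ a b c d, x = U θ a b * W F * U θ c d

theorem two_trans' (h : Cfsg.Agent.HL.Sz.IsTits θ) (p q : Option (F × F)) (hpq : p ≠ q) :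
    ∃ x : SL(4, F), Rep θ x ∧ IsSzMat θ (x⁻¹ : SL(4, F)).1 ∧ x • pt θ none = pt θ p ∧ x • pt θ (some (0, 0)) = pt θ q := by
  rcases p with _ | ⟨a, b⟩
  · obtain ⟨⟨a, b⟩, rfl⟩ := Option.ne_none_iff_exists'.mp hpq.symm
    refine ⟨U θ a b, Or.inl ⟨a, b, rfl⟩, ?_, U_none θ a b, ?_⟩
    · rw [U_inv h]; exact isSzMat_U h _ _
    · rw [U_some h]; simp
  · obtain ⟨r, hr⟩ : ∃ r, (U θ a b * W F)⁻¹ • pt θ q = pt θ r := by
      rw [mul_inv_rev, mul_smul, W_inv, U_inv h]
      rcases q with _ | ⟨x, y⟩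
      · rw [U_none]; exact W_pt h none
      · rw [U_some h]; exact W_pt h _
    have hrn : r ≠ none := by
      rintro rfl
      rw [inv_smul_eq_iff, mul_smul, W_none, U_some h] at hr
      apply hpq
      have := pt_inj θ hr
      rw [this]; simp
    obtain ⟨⟨c, d⟩, rfl⟩ := Option.ne_none_iff_exists'.mp hrn
    refine ⟨U θ a b * W F * U θ c d, Or.inr ⟨a, b, c, d, rfl⟩, ?_, ?_, ?_⟩
    · rw [mul_inv_rev, mul_inv_rev, U_inv h, U_inv h, W_inv]
      exact (isSzMat_U h _ _).mul h ((isSzMat_W h).mul h (isSzMat_U h _ _))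
    · rw [mul_smul, mul_smul, U_none, W_none, U_some h]; simp
    · rw [inv_smul_eq_iff] at hr
      rw [mul_smul, U_some h]
      simp only [mul_zero, add_zero]
      rw [hr]
      simp

/-- Bruhat decomposition. -/
theorem cells (h : Cfsg.Agent.HL.Sz.IsTits θ) (g : GL (Fin 4) F) (hg : IsSzMat θ g.1) :
    ∃ (x : SL(4, F)) (k : Fˣ), Rep θ x ∧ g.1 = (x * D θ k).1 := by
  have h2 := h.two
  -- images of the base vectors
  have hdet : IsUnit g.1.det := (Matrix.isUnit_iff_isUnit_det _).mp g.isUnit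
  have col_ne : ∀ j, (fun i => g.1 i j) ≠ 0 := by
    intro j hj
    apply hdet.ne_zero
    exact Matrix.det_eq_zero_of_column_eq_zero j (fun i => congrFun hj i)
  have hs := hg.star
  have f := hg.form
  obtain ⟨c, p, hp⟩ := ovoid_of_star h (fun i => g.1 i 0) (fun i => g.1 i 1) (col_ne 0)
    (by have := hs 0 0; simpa [Cfsg.Lie.pairOf, minor] using this)
    (by have := hs 1 0; simpa [Cfsg.Lie.pairOf, minor] using this)
    (by have := hs 2 0; simpa [Cfsg.Lie.pairOf, minor] using this)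
    (by have := hs 3 0; simpa [Cfsg.Lie.pairOf, minor] using this)
    (by have := f 0 1; simpa [Cfsg.suzukiForm] using this)
  obtain ⟨d, q, hq⟩ := ovoid_of_star h (fun i => g.1 i 3) (fun i => g.1 i 2) (col_ne 3)
    (by have := hs 0 3; simp [Cfsg.Lie.pairOf, minor] at this; linear_combination -this - θ (g.1 0 3) * h2)
    (by have := hs 1 3; simp [Cfsg.Lie.pairOf, minor] at this; linear_combination -this - θ (g.1 1 3) * h2)
    (by have := hs 2 3; simp [Cfsg.Lie.pairOf, minor] at this; linear_combination -this - θ (g.1 2 3) * h2)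
    (by have := hs 3 3; simp [Cfsg.Lie.pairOf, minor] at this; linear_combination -this - θ (g.1 3 3) * h2)
    (by have := f 3 2; simpa [Cfsg.suzukiForm] using this)
  have hc0 : c ≠ 0 := by rintro rfl; rw [zero_smul] at hp; exact col_ne 0 hp
  have hd0 : d ≠ 0 := by rintro rfl; rw [zero_smul] at hq; exact col_ne 3 hq
  have hpq : p ≠ q := by
    rintro rfl
    have hB := f 0 3
    have e := fun i => congrFun hp i
    have e' := fun i => congrFun hq i
    simp only [Pi.smul_apply, smul_eq_mul] at e e'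
    have hcd : ∀ i, g.1 i 0 * d = g.1 i 3 * c := by intro i; rw [e, e']; ring
    have hone : Cfsg.suzukiForm F 0 3 = 1 := by simp [Cfsg.suzukiForm]
    rw [hone] at hB
    have : (1:F) * d = 0 := by
      rw [← hB]
      linear_combination g.1 3 3 * hcd 0 + g.1 2 3 * hcd 1 + g.1 1 3 * hcd 2 + g.1 0 3 * hcd 3
        + (g.1 0 3 * g.1 3 3 + g.1 1 3 * g.1 2 3) * c * h2
    rw [one_mul] at this
    exact hd0 this
  obtain ⟨x, hx, hxS, hx1, hx2⟩ := two_trans' h p q hpq
  rw [smul_pt_iff] at hx1 hx2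
  obtain ⟨c', hc', hx1⟩ := hx1
  obtain ⟨d', hd', hx2⟩ := hx2
  -- the reduced matrix
  set k : Matrix (Fin 4) (Fin 4) F := (x⁻¹ : SL(4, F)).1 * g.1 with hk
  have hkS : IsSzMat θ k := hxS.mul h hg
  have hxx : (x⁻¹ : SL(4, F)).1 * x.1 = 1 := by
    rw [← Matrix.SpecialLinearGroup.coe_mul, inv_mul_cancel]; rfl
  have hk0 : (fun i => k i 0) = (c / c') • pv θ none := by
    have e1 : (fun i => k i 0) = (x⁻¹ : SL(4, F)).1 *ᵥ (fun i => g.1 i 0) := by
      ext i; rw [hk, Matrix.mul_apply]; rfl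
    have e2 : (c / c') • (c' • pv θ p) = c • pv θ p := by rw [smul_smul]; field_simp
    rw [e1, hp, ← e2, ← hx1, Matrix.mulVec_smul, Matrix.mulVec_mulVec, hxx, Matrix.one_mulVec]
  have hk3 : (fun i => k i 3) = (d / d') • pv θ (some (0, 0)) := by
    have e1 : (fun i => k i 3) = (x⁻¹ : SL(4, F)).1 *ᵥ (fun i => g.1 i 3) := by
      ext i; rw [hk, Matrix.mul_apply]; rfl
    have e2 : (d / d') • (d' • pv θ q) = d • pv θ q := by rw [smul_smul]; field_simp
    rw [e1, hq, ← e2, ← hx2, Matrix.mulVec_smul, Matrix.mulVec_mulVec, hxx, Matrix.one_mulVec]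
  have k00 := congrFun hk0 0; have k10 := congrFun hk0 1; have k20 := congrFun hk0 2; have k30 := congrFun hk0 3
  have k03 := congrFun hk3 0; have k13 := congrFun hk3 1; have k23 := congrFun hk3 2; have k33 := congrFun hk3 3
  simp [pv, ff_zero] at k00 k10 k20 k30 k03 k13 k23 k33
  have kf := hkS.form
  have ks := hkS.star
  have hl0 : k 0 0 ≠ 0 := by rw [k00]; exact div_ne_zero hc0 hc'
  have f03 := kf 0 3; have f01 := kf 0 1; have f02 := kf 0 2; have f31 := kf 3 1; have f32 := kf 3 2; have f12 := kf 1 2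
  simp [Cfsg.suzukiForm, k10, k20, k30, k03, k13, k23, hl0] at f03 f01 f02 f31 f32 f12
  have hm0 : k 3 3 ≠ 0 := by rintro hh; rw [hh, mul_zero] at f03; exact zero_ne_one f03
  simp [hm0] at f31 f32
  have s00 := ks 0 0; have s10 := ks 1 0; have s01 := ks 0 1; have s11 := ks 1 1
  simp [Cfsg.Lie.pairOf, minor, k10, k20, k30, k03, k13, k23, f01, f02, f31, f32, hl0] at s00 s10 s01 s11
  have f12' : k 1 1 * k 2 2 = 1 := by
    rw [s10, f31, f01] at f12
    linear_combination f12
  have hκ0 : k 1 1 ≠ 0 := by intro hh; rw [hh, zero_mul] at f12'; exact zero_ne_one f12'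
  have hlk : k 0 0 = k 1 1 * θ (k 1 1) := by
    linear_combination k 1 1 * s11 - k 0 0 * f12'
  have hkD : k = (D θ (Units.mk0 (k 1 1) hκ0)).1 := by
    ext i j
    fin_cases i <;> fin_cases j <;>
      simp only [D, Dmat, Units.val_mk0, Matrix.of_apply, Matrix.cons_val', Matrix.cons_val_zero,
        Matrix.cons_val_one, Matrix.cons_val, Matrix.cons_val_fin_one, Fin.zero_eta, Fin.mk_one, Fin.reduceFinMk,
        Fin.isValue]
    · exact hlk
    · exact f31
    · exact f32
    · exact k03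
    · exact k10
    · exact s01
    · exact k13
    · exact k20
    · exact s10
    · exact (inv_eq_of_mul_eq_one_right f12').symm
    · exact k23
    · exact k30
    · exact f01
    · exact f02
    · rw [← hlk]; exact (inv_eq_of_mul_eq_one_right f03).symm
  refine ⟨x, Units.mk0 (k 1 1) hκ0, hx, ?_⟩
  rw [Matrix.SpecialLinearGroup.coe_mul, ← hkD, hk, ← Matrix.mul_assoc, ← Matrix.SpecialLinearGroup.coe_mul,
    mul_inv_cancel, Matrix.SpecialLinearGroup.coe_one, one_mul]


theorem isSzMat_one (h : Cfsg.Agent.HL.Sz.IsTits θ) : IsSzMat θ (1 : Matrix (Fin 4) (Fin 4) F) := by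
  have := isSzMat_U h 0 0
  rw [U_zero] at this
  exact this

theorem isSzMat_of_mem_lie [Finite F] {e : ℕ} (h : Cfsg.Agent.HL.Sz.IsTits θ) (hθ : ∀ x, θ x = x ^ e)
    {g : GL (Fin 4) F} (hg : g ∈ Cfsg.Lie.Sz F e) : IsSzMat θ g.1 := by
  refine Subgroup.closure_induction (p := fun g _ => IsSzMat θ g.1) ?_ ?_ ?_ ?_ hg
  · rintro x ⟨h1, h2⟩
    exact isSzMat_of_gl e hθ x h1 h2
  · exact isSzMat_one h
  · intro x y _ _ hx hy
    exact hx.mul h hy
  · intro x _ hx
    have h1 : ∀ n : ℕ, IsSzMat θ (x ^ n).1 := by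
      intro n
      induction n with
      | zero => exact isSzMat_one h
      | succ n ih => rw [pow_succ]; exact ih.mul h hx
    have h2 : x⁻¹ = x ^ (orderOf x - 1) := by
      apply inv_eq_of_mul_eq_one_right
      rw [← pow_succ', Nat.sub_add_cancel (orderOf_pos x), pow_orderOf_eq_one]
    rw [h2]
    exact h1 _

theorem mem_lie_of_isSzMat {e : ℕ} (hθ : ∀ x, θ x = x ^ e) {g : SL(4, F)} (hS : IsSzMat θ g.1) :
    (Matrix.SpecialLinearGroup.toGL g : GL (Fin 4) F) ∈ Cfsg.Lie.Sz F e := by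
  apply Subgroup.subset_closure
  refine ⟨?_, ?_⟩
  · intro u v
    have f := hS.form
    change Cfsg.Lie.altForm4 (g.1 *ᵥ u) (g.1 *ᵥ v) = Cfsg.Lie.altForm4 u v
    unfold Cfsg.Lie.altForm4
    simp only [Matrix.mulVec, dotProduct, Fin.sum_univ_four]
    have f00 := f 0 0; have f01 := f 0 1; have f02 := f 0 2; have f03 := f 0 3
    have f10 := f 1 0; have f11 := f 1 1; have f12 := f 1 2; have f13 := f 1 3
    have f20 := f 2 0; have f21 := f 2 1; have f22 := f 2 2; have f23 := f 2 3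
    have f30 := f 3 0; have f31 := f 3 1; have f32 := f 3 2; have f33 := f 3 3
    simp only [Cfsg.suzukiForm, Matrix.of_apply, Matrix.cons_val', Matrix.cons_val_zero,
      Matrix.cons_val_one, Matrix.cons_val, Matrix.cons_val_fin_one] at f00 f01 f02 f03 f10 f11 f12 f13 f20 f21 f22 f23 f30 f31 f32 f33
    linear_combination u 0 * v 0 * f00 + u 0 * v 1 * f01 + u 0 * v 2 * f02 + u 0 * v 3 * f03
      + u 1 * v 0 * f10 + u 1 * v 1 * f11 + u 1 * v 2 * f12 + u 1 * v 3 * f13
      + u 2 * v 0 * f20 + u 2 * v 1 * f21 + u 2 * v 2 * f22 + u 2 * v 3 * f23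
      + u 3 * v 0 * f30 + u 3 * v 1 * f31 + u 3 * v 2 * f32 + u 3 * v 3 * f33
  · ext p r
    rw [star4_apply, Matrix.map_apply, ← hθ]
    exact hS.star p r

theorem card_Sz2 [Fintype F] (hF : Fintype.card F = 2) : Nat.card (Cfsg.Lie.Sz F (2 ^ (0 + 1))) = 20 := by
  obtain ⟨θ, h, hθ⟩ := exists_theta (F := F) (m := 0) (by rw [hF]; norm_num)
  have h2 := h.two
  have hU1 : ∀ k : Fˣ, k = 1 := by
    intro k
    have h1 : k.1 ^ Fintype.card F = k.1 := FiniteField.pow_card k.1
    rw [hF, sq] at h1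
    have h3 : k.1 = 1 := by
      have := mul_right_cancel₀ k.ne_zero (show k.1 * k.1 = 1 * k.1 by rw [h1, one_mul])
      exact this
    exact Units.ext h3
  -- upper bound
  let f : (F × F) ⊕ ((F × F) × (F × F)) → SL(4, F) := fun t =>
    match t with
    | .inl x => U θ x.1 x.2
    | .inr x => U θ x.1.1 x.1.2 * W F * U θ x.2.1 x.2.2
  have hle : Nat.card (Cfsg.Lie.Sz F (2 ^ (0 + 1))) ≤ 20 := by
    have h1 : ∀ g : Cfsg.Lie.Sz F (2 ^ (0 + 1)), ∃ t, g.1.1 = (f t).1 := by
      intro g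
      obtain ⟨x, k, hx, hgx⟩ := cells h g.1 (isSzMat_of_mem_lie h hθ g.2)
      rw [hU1 k, D_one, mul_one] at hgx
      rcases hx with ⟨a, b, rfl⟩ | ⟨a, b, c, d, rfl⟩
      · exact ⟨.inl (a, b), hgx⟩
      · exact ⟨.inr ((a, b), (c, d)), hgx⟩
    choose t ht using h1
    have hinj : Function.Injective t := by
      intro g g' hgg
      apply Subtype.ext
      apply Units.ext
      rw [ht g, ht g', hgg]
    have := Nat.card_le_card_of_injective t hinj
    simpa [Nat.card_sum, Nat.card_prod, Nat.card_eq_fintype_card, hF] using this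
  -- order 4
  have hne : ∀ {x y : SL(4, F)}, (Matrix.SpecialLinearGroup.toGL x : GL (Fin 4) F) = Matrix.SpecialLinearGroup.toGL y → x = y :=
    fun {x y} hxy => Matrix.SpecialLinearGroup.toGL_injective hxy
  have h4 : 4 ∣ Nat.card (Cfsg.Lie.Sz F (2 ^ (0 + 1))) := by
    let x : Cfsg.Lie.Sz F (2 ^ (0 + 1)) := ⟨Matrix.SpecialLinearGroup.toGL (U θ 1 0), mem_lie_of_isSzMat hθ (isSzMat_U h 1 0)⟩
    have hsq : U θ 1 0 * U θ 1 0 = U θ 0 1 := by
      rw [U_mul h]
      congr 1
      · linear_combination h2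
      · simp
    have hsq2 : U θ 0 1 * U θ 0 1 = 1 := by
      rw [U_mul h, ← U_zero θ]
      congr 1
      · simp
      · simp; linear_combination h2
    have hx : orderOf x = 2 ^ (1 + 1) := by
      apply orderOf_eq_prime_pow
      · intro h3
        have h5 := congrArg Subtype.val h3
        change (Matrix.SpecialLinearGroup.toGL (U θ 1 0) : GL (Fin 4) F) ^ (2 ^ 1) = 1 at h5
        rw [pow_one, ← map_pow, sq, hsq, ← map_one (Matrix.SpecialLinearGroup.toGL (n := Fin 4) (R := F))] at h5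
        have h6 := hne h5
        rw [← U_zero θ] at h6
        exact one_ne_zero (U_inj h6).2
      · apply Subtype.ext
        change (Matrix.SpecialLinearGroup.toGL (U θ 1 0) : GL (Fin 4) F) ^ (2 ^ (1 + 1)) = 1
        rw [← map_pow, show (2 ^ (1 + 1) : ℕ) = 2 * 2 from rfl, pow_mul, sq, sq, hsq, hsq2, map_one]
    have := orderOf_dvd_natCard x
    rw [hx] at this
    exact this
  have h5 : 5 ∣ Nat.card (Cfsg.Lie.Sz F (2 ^ (0 + 1))) := by
    let x : Cfsg.Lie.Sz F (2 ^ (0 + 1)) :=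
      ⟨Matrix.SpecialLinearGroup.toGL (W F * U θ 0 1), mem_lie_of_isSzMat hθ ((isSzMat_W h).mul h (isSzMat_U h 0 1))⟩
    have hM : (W F * U θ 0 1).1 = !![0, 0, 0, 1; 0, 0, 1, 0; 0, 1, 0, 1; 1, 0, 1, 1] := by
      rw [Matrix.SpecialLinearGroup.coe_mul]
      ext i j
      fin_cases i <;> fin_cases j <;> simp [W, Wmat, U, Umat, ff, Matrix.mul_apply, Fin.sum_univ_four]
    have hM2 : (!![0, 0, 0, 1; 0, 0, 1, 0; 0, 1, 0, 1; 1, 0, 1, 1] : Matrix (Fin 4) (Fin 4) F) *
        !![0, 0, 0, 1; 0, 0, 1, 0; 0, 1, 0, 1; 1, 0, 1, 1] = !![1, 0, 1, 1; 0, 1, 0, 1; 1, 0, 0, 1; 1, 1, 1, 1] := by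
      ext i j
      fin_cases i <;> fin_cases j <;> simp [Matrix.mul_apply, Fin.sum_univ_four] <;> grind
    have hM4 : (!![1, 0, 1, 1; 0, 1, 0, 1; 1, 0, 0, 1; 1, 1, 1, 1] : Matrix (Fin 4) (Fin 4) F) *
        !![1, 0, 1, 1; 0, 1, 0, 1; 1, 0, 0, 1; 1, 1, 1, 1] = !![1, 1, 0, 1; 1, 0, 1, 0; 0, 1, 0, 0; 1, 0, 0, 0] := by
      ext i j
      fin_cases i <;> fin_cases j <;> simp [Matrix.mul_apply, Fin.sum_univ_four] <;> grind
    have hM5 : (!![1, 1, 0, 1; 1, 0, 1, 0; 0, 1, 0, 0; 1, 0, 0, 0] : Matrix (Fin 4) (Fin 4) F) *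
        !![0, 0, 0, 1; 0, 0, 1, 0; 0, 1, 0, 1; 1, 0, 1, 1] = 1 := by
      ext i j
      fin_cases i <;> fin_cases j <;> simp [Matrix.mul_apply, Fin.sum_univ_four] <;> grind
    have h55 : (W F * U θ 0 1) ^ 5 = 1 := by
      apply Subtype.ext
      rw [show (5 : ℕ) = 2 * 2 + 1 from rfl, pow_succ, pow_mul, sq, sq, Matrix.SpecialLinearGroup.coe_mul,
        Matrix.SpecialLinearGroup.coe_mul, Matrix.SpecialLinearGroup.coe_mul, hM, hM2, hM4, hM5]
      rfl
    have hx : orderOf x = 5 := by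
      have : Fact (Nat.Prime 5) := ⟨by norm_num⟩
      apply orderOf_eq_prime
      · apply Subtype.ext
        change (Matrix.SpecialLinearGroup.toGL (W F * U θ 0 1) : GL (Fin 4) F) ^ 5 = 1
        rw [← map_pow, h55, map_one]
      · intro h3
        have h6 := congrArg Subtype.val h3
        change (Matrix.SpecialLinearGroup.toGL (W F * U θ 0 1) : GL (Fin 4) F) = 1 at h6
        rw [← map_one (Matrix.SpecialLinearGroup.toGL (n := Fin 4) (R := F))] at h6
        have h7 := congrArg Subtype.val (hne h6)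
        rw [hM] at h7
        have h8 := congrFun (congrFun h7 0) 0
        simp at h8
    have := orderOf_dvd_natCard x
    rw [hx] at this
    exact this
  have h20 : 20 ∣ Nat.card (Cfsg.Lie.Sz F (2 ^ (0 + 1))) := by
    have : Nat.Coprime 4 5 := by norm_num
    exact this.mul_dvd_of_dvd_of_dvd h4 h5
  have := Nat.le_of_dvd Nat.card_pos h20
  omega

/-- a group of order 20 is not the normal closure of a subgroup of order 2. -/
theorem not_gen_20 {K : Type*} [Group K] [Finite K] (hK : Nat.card K = 20) (Y : Subgroup K) (hY : Nat.card Y = 2) :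
    Subgroup.normalClosure (Y : Set K) ≠ ⊤ := by
  have : Fact (Nat.Prime 5) := ⟨by norm_num⟩
  obtain ⟨P⟩ : Nonempty (Sylow 5 K) := inferInstance
  have hPc : Nat.card P = 5 := by
    rw [P.card_eq_multiplicity, hK]
    have : Nat.factorization 20 5 = 1 := by
      rw [show (20 : ℕ) = 5 * 4 from rfl, Nat.factorization_mul (by norm_num) (by norm_num)]
      simp [Nat.Prime.factorization (show Nat.Prime 5 by norm_num),
        Nat.factorization_eq_zero_of_not_dvd (show ¬ 5 ∣ 4 by norm_num)]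
    rw [this, pow_one]
  have hidx : (P : Subgroup K).index = 4 := by
    have := (P : Subgroup K).card_mul_index
    rw [hK, show Nat.card (P : Subgroup K) = 5 from hPc] at this
    omega
  have h1 : Nat.card (Sylow 5 K) = 1 := by
    have h2 := card_sylow_modEq_one 5 K
    have h3 := P.card_dvd_index
    rw [hidx] at h3
    have h4 : Nat.card (Sylow 5 K) ≤ 4 := Nat.le_of_dvd (by norm_num) h3
    unfold Nat.ModEq at h2
    interval_cases (Nat.card (Sylow 5 K)) <;> simp_all
  have hsub : Subsingleton (Sylow 5 K) := (Nat.card_eq_one_iff_unique.1 h1).1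
  have hPn : (P : Subgroup K).Normal := Sylow.normal_of_subsingleton P
  have hq : Nat.card (K ⧸ (P : Subgroup K)) = 2 ^ 2 := by
    rw [← Subgroup.index_eq_card, hidx]; norm_num
  have : Fact (Nat.Prime 2) := ⟨Nat.prime_two⟩
  have hcomm : ∀ a b : K ⧸ (P : Subgroup K), a * b = b * a :=
    (IsPGroup.isMulCommutative_of_card_eq_prime_sq hq).is_comm.comm
  intro htop
  have h5 : (Y.map (QuotientGroup.mk' (P : Subgroup K))).Normal := by
    constructor
    intro n hn g
    rw [hcomm g n, mul_inv_cancel_right]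
    exact hn
  have h6 : Subgroup.normalClosure (Y : Set K) ≤ (Y.map (QuotientGroup.mk' (P : Subgroup K))).comap (QuotientGroup.mk' (P : Subgroup K)) := by
    apply Subgroup.normalClosure_le_normal
    intro y hy
    exact ⟨y, hy, rfl⟩
  rw [htop] at h6
  have h7 : Y.map (QuotientGroup.mk' (P : Subgroup K)) = ⊤ := by
    rw [eq_top_iff]
    intro x _
    obtain ⟨k, rfl⟩ := QuotientGroup.mk'_surjective _ x
    exact h6 (Subgroup.mem_top k)
  have h8 : Nat.card (Y.map (QuotientGroup.mk' (P : Subgroup K))) ≤ 2 := by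
    rw [← hY]
    exact Nat.card_le_card_of_surjective _ ((QuotientGroup.mk' (P : Subgroup K)).subgroupMap_surjective Y)
  rw [h7, Subgroup.card_top, hq] at h8
  norm_num at h8

end

end Cfsg.Agent.H17.FL
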