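import Cfsg.Agent.H17_FLSz
import Cfsg.Agent.H17_Sz2
import Cfsg.Agent.H22_PSolv
import Cfsg.Prelude.Def_LocalStructure

set_option autoImplicit false
open Cfsg Cfsg.Agent.H17.Base

namespace Cfsg.Agent.H17.FL

/-- the three types of `K` with the subgroup `Y` -/
def Ty (p : ℕ) (K : Type*) [Group K] (Y : Subgroup K) : Prop :=
  (∃ (F : Type) (_ : Field F) (_ : Fintype F), Fintype.card F = Nat.card Y ∧
      Nonempty (K ≃* Matrix.SpecialLinearGroup (Fin 2) F)) ∨
  (p = 2 ∧ ∃ (F : Type) (_ : Field F) (_ : Fintype F) (m : ℕ), 1 ≤ m ∧ Fintype.card F = 2 ^ (2 * m + 1) ∧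
      Fintype.card F = Nat.card Y ∧ Nonempty (K ≃* ↥(Lie.Sz F (2 ^ (m + 1))))) ∨
  (p = 2 ∧ ∃ r : ℕ, r.Prime ∧ r ≠ 2 ∧ Nonempty (K ≃* DihedralGroup r))

/-- the facts about `L ∈ 𝔏_G(Y)` -/
structure LF {G : Type*} [Group G] (p : ℕ) (Y L : Subgroup G) {K : Type*} [Group K] (φ : ↥L →* K) : Prop where
  yl : Y ≤ L
  core : pCoreOf p L = ncl L (Y ⊓ pCoreOf p L)
  an : pCoreOf p L ≤ Nz Y
  gen : ncl L Y = L
  lt : L ⊓ Nz Y < L
  max : ∀ X : Subgroup G, Y ≤ X → X < L → X ≤ L ⊓ Nz Y
  ea : IsElementaryAbelian p Y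
  surj : Function.Surjective φ
  ker : φ.ker = pCore p L
  red : pCore p K = ⊥
  ty : Ty p K ((Y.subgroupOf L).map φ)

section
variable {G : Type*} [Group G] [Finite G] {p : ℕ} [Fact p.Prime] {Y L : Subgroup G} {K : Type*} [Group K] {φ : ↥L →* K}

theorem card_img (hYL : Y ≤ L) (hker : φ.ker = pCore p L) :
    Nat.card ((Y.subgroupOf L).map φ) = (Y ⊓ pCoreOf p L).relIndex Y := by
  rw [← Subgroup.relIndex_ker, hker, Subgroup.inf_relIndex_left, ← pCoreOf_subgroupOf, Subgroup.relIndex_subgroupOf hYL]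

theorem img_ncl (hgen : ncl L Y = L) (hYL : Y ≤ L) (hs : Function.Surjective φ) :
    Subgroup.normalClosure (((Y.subgroupOf L).map φ : Subgroup K) : Set K) = ⊤ := by
  rw [← ncl_top]
  have h1 : (⊤ : Subgroup K) = (⊤ : Subgroup L).map φ := by
    rw [← MonoidHom.range_eq_map]; exact (MonoidHom.range_eq_top.2 hs).symm
  rw [h1, ← map_ncl]
  congr 1
  apply Subgroup.map_injective L.subtype_injective
  rw [map_ncl, Subgroup.map_subgroupOf_eq_of_le hYL, ← MonoidHom.range_eq_map, Subgroup.range_subtype]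
  exact hgen

theorem LF.of {M : Subgroup G} (hL : IsInFrakL p M L) :
    LF p (largestPReducedOf p M) L (QuotientGroup.mk' (pCore p ↥L)) := by
  obtain ⟨h1, h2, h3, h4, h5, ⟨h6, h7⟩, h8⟩ := hL
  have hker : (QuotientGroup.mk' (pCore p ↥L)).ker = pCore p L := QuotientGroup.ker_mk' _
  have hgen : ncl L (largestPReducedOf p M) = L := by
    have h9 := h4.1
    have h10 := map_normalClosure_subgroupOf h1
    rw [h9, ← MonoidHom.range_eq_map, Subgroup.range_subtype] at h10
    exact h10.symm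
  have hs : Function.Surjective (QuotientGroup.mk' (pCore p ↥L)) := QuotientGroup.mk'_surjective _
  refine ⟨h1, ?_, h3, hgen, h6, h7, (isPRed_largest M).ea, hs, hker, H22.PSolv.pCore_quotient, ?_⟩
  · rw [map_normalClosure_subgroupOf (inf_le_left.trans h1)] at h2
    exact h2
  · rcases h8 with ⟨F, i1, i2, hc, he⟩ | ⟨hp, F, i1, i2, m, hc, hc', he⟩ | h8
    · left
      exact ⟨F, i1, i2, by rw [hc, card_img h1 hker], he⟩
    · right; left
      refine ⟨hp, F, i1, i2, m, ?_, hc, by rw [hc', card_img h1 hker], he⟩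
      by_contra hm
      have hm0 : m = 0 := by omega
      subst hm0
      have hF : Fintype.card F = 2 := by rw [hc]; norm_num
      obtain ⟨e⟩ := he
      have h20 := card_Sz2 hF
      rw [← Nat.card_congr e.toEquiv] at h20
      refine not_gen_20 h20 (((largestPReducedOf p M).subgroupOf L).map (QuotientGroup.mk' (pCore p ↥L))) ?_
        (img_ncl hgen h1 hs)
      rw [card_img h1 hker, ← hc', hF]
    · right; right
      exact h8

namespace LF
variable (f : LF p Y L φ)
include f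

theorem yp : IsPGroup p Y := ea_isPGroup f.ea

theorem img_p : IsPGroup p ((Y.subgroupOf L).map φ) := (f.yp.comap_subtype).map _

theorem mem_ker {x : L} : φ x = 1 ↔ (x : G) ∈ pCoreOf p L := by
  rw [← MonoidHom.mem_ker, f.ker, ← pCoreOf_subgroupOf, Subgroup.mem_subgroupOf]

theorem not_le : ¬ Y ≤ pCoreOf p L := by
  intro h
  have h1 : L ≤ Nz Y := by
    have h2 : ncl L Y ≤ pCoreOf p L := ncl_le h (le_Nz_pCoreOf L)
    rw [f.gen] at h2
    exact h2.trans f.an
  exact f.lt.ne (inf_eq_left.2 h1)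

theorem img_ne : (Y.subgroupOf L).map φ ≠ ⊥ := by
  intro h
  rw [Subgroup.map_eq_bot_iff] at h
  apply f.not_le
  intro y hy
  have := h (show (⟨y, f.yl hy⟩ : L) ∈ Y.subgroupOf L from hy)
  exact f.mem_ker.1 this

/-- the preimage of `N_K(Ȳ)` is `N_L(Y)` -/
theorem mem_Nz_img {x : L} : φ x ∈ Nz ((Y.subgroupOf L).map φ) ↔ (x : G) ∈ Nz Y := by
  constructor
  · intro hx
    set X := ((Nz ((Y.subgroupOf L).map φ)).comap φ).map L.subtype with hX
    have h1 : Y ≤ X := by
      intro y hy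
      refine ⟨⟨y, f.yl hy⟩, ?_, rfl⟩
      apply Subgroup.le_normalizer
      exact ⟨⟨y, f.yl hy⟩, hy, rfl⟩
    have h2 : X < L := by
      refine lt_of_le_of_ne (Subgroup.map_subtype_le _) ?_
      intro h3
      have h4 : (Nz ((Y.subgroupOf L).map φ)) = ⊤ := by
        rw [eq_top_iff]
        intro k _
        obtain ⟨l, rfl⟩ := f.surj k
        have h5 : (l : G) ∈ X := by rw [h3]; exact l.2
        obtain ⟨l', h6, h7⟩ := h5
        rwa [Subtype.ext h7] at h6
      have h5 : ((Y.subgroupOf L).map φ).Normal := Subgroup.normalizer_eq_top_iff.1 h4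
      have h6 : (Y.subgroupOf L).map φ ≤ pCore p K := le_pCore h5 f.img_p
      rw [f.red, le_bot_iff] at h6
      exact f.img_ne h6
    have h3 := f.max X h1 h2
    exact (h3 ⟨x, hx, rfl⟩).2
  · intro hx
    rw [Subgroup.mem_normalizer_iff] at hx ⊢
    have key : ∀ z : L, (z : G) ∈ Nz Y → ∀ k ∈ (Y.subgroupOf L).map φ, φ z * k * (φ z)⁻¹ ∈ (Y.subgroupOf L).map φ := by
      rintro z hz _ ⟨y, hy, rfl⟩
      rw [← map_mul, ← map_inv, ← map_mul]
      refine ⟨_, ?_, rfl⟩
      exact (Subgroup.mem_normalizer_iff.1 hz y).1 hy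
    rw [← Subgroup.mem_normalizer_iff] at hx
    intro k
    refine ⟨key x hx k, fun hk => ?_⟩
    have := key x⁻¹ (inv_mem hx) _ hk
    rw [map_inv, inv_inv] at this
    convert this using 1
    group

theorem uq : Uq p ((Y.subgroupOf L).map φ) := by
  have hfin : Finite K := Finite.of_surjective φ f.surj
  have hea : IsElementaryAbelian p ((Y.subgroupOf L).map φ) := by
    apply ea_map
    rw [← ea_map_iff L.subtype_injective, Subgroup.map_subgroupOf_eq_of_le f.yl]
    exact f.ea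
  rcases f.ty with ⟨F, i1, i2, hc, ⟨e⟩⟩ | ⟨rfl, F, i1, i2, m, hm, hc, hc', ⟨e⟩⟩ | ⟨rfl, r, hr, hr2, ⟨e⟩⟩
  · apply Uq.congr e
    have hcp : CharP F p := by
      obtain ⟨n, hn⟩ := IsPGroup.iff_card.1 f.img_p
      have hF1 : 1 < Fintype.card F := Fintype.one_lt_card
      have hn0 : n ≠ 0 := by
        rintro rfl
        rw [hc, hn] at hF1; simp at hF1
      obtain ⟨l, hl⟩ := CharP.exists F
      have hlp : l.Prime := CharP.char_is_prime F l
      obtain ⟨k, -, hk⟩ := FiniteField.card F l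
      have h1 : l ∣ p ^ n := by
        rw [← hn, ← hc, hk]; exact dvd_pow_self l k.ne_zero
      have h2 : l = p := (Nat.prime_dvd_prime_iff_eq hlp Fact.out).1 (hlp.dvd_of_dvd_pow h1)
      rw [← h2]; exact hl
    apply uq_sl (f.img_p.map _)
    rw [Subgroup.card_map_of_injective e.injective, hc]
  · apply Uq.congr e
    apply uq_sz hm hc (ea_map _ hea)
    rw [Subgroup.card_map_of_injective e.injective, hc']
  · refine uq_two (r := r) ?_ ?_ f.img_p f.img_ne
    · intro h2
      exact hr2 ((Nat.prime_dvd_prime_iff_eq Nat.prime_two hr).1 h2).symm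
    · rw [Nat.card_congr e.toEquiv, DihedralGroup.nat_card]

end LF

end

end Cfsg.Agent.H17.FL
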