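import Cfsg.Agent.HL_SzPart
import Cfsg.Agent.HL_SzModelB

/-! Suzuki groups: fixity-2 actions. -/

set_option autoImplicit false
set_option linter.unusedSimpArgs false
open scoped Pointwise MatrixGroups Matrix commutatorElement

namespace Cfsg.Agent.HL.Sz

open Cfsg.Agent.HL.SzAbs Cfsg.Agent.HL.TI

section general

variable {G Ω : Type*} [Group G] [Finite G] [Finite Ω] [MulAction G Ω]

theorem fix_three (hfix : ∀ g : G, g ≠ 1 → Nat.card (MulAction.fixedBy Ω g) ≤ 2) {g : G} (hg : g ≠ 1) {a b c : Ω}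
    (ha : g • a = a) (hb : g • b = b) (hc : g • c = c) (hab : a ≠ b) (hbc : b ≠ c) : a = c := by
  classical
  by_contra hac
  have h1 := hfix g hg
  rw [Nat.card_coe_set_eq] at h1
  have : 2 < (MulAction.fixedBy Ω g).ncard := (Set.two_lt_ncard_iff).mpr ⟨a, b, c, ha, hb, hc, hab, hac, hbc⟩
  omega

theorem sq_fix (hfix : ∀ g : G, g ≠ 1 → Nat.card (MulAction.fixedBy Ω g) ≤ 2) (T : Subgroup G) (g : G) (hgT : g ∈ T) (hg : g ≠ 1)
    (α : Ω) (hT : T ≤ MulAction.stabilizer G α) (k1 k2 : G) (hk1 : k1 ∈ Subgroup.normalizer (T : Set G))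
    (hk2 : k2 ∈ Subgroup.normalizer (T : Set G)) (h1 : k1 • α ≠ α) (h2 : k2 • α ≠ α) : (k1 * k2) • α = α := by
  have key : ∀ k ∈ Subgroup.normalizer (T : Set G), g • k • α = k • α := by
    intro k hk
    have h3 := (Subgroup.mem_normalizer_iff.mp (inv_mem hk) g).mp hgT
    rw [inv_inv] at h3
    have h4 : (k⁻¹ * g * k) • α = α := hT h3
    rw [mul_smul, mul_smul, inv_smul_eq_iff] at h4
    exact h4
  have e0 := hT hgT
  have e2 := key _ hk2
  have e12 := key _ (mul_mem hk1 hk2)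
  have e1 := key _ (inv_mem hk1)
  -- α, k2 α, k1⁻¹ α fixed
  have h3 : k1⁻¹ • α ≠ α := by
    intro h; exact h1 (by rw [inv_smul_eq_iff] at h; exact h.symm)
  by_contra hcon
  have h4 : k2 • α ≠ k1⁻¹ • α := by
    intro h
    apply hcon
    rw [mul_smul, h, smul_inv_smul]
  exact h3 (fix_three hfix hg e0 e2 e1 (Ne.symm h2) h4).symm

theorem sq_fix' (hfix : ∀ g : G, g ≠ 1 → Nat.card (MulAction.fixedBy Ω g) ≤ 2) (T : Subgroup G) (g : G) (hgT : g ∈ T) (hg : g ≠ 1)
    (α : Ω) (hT : T ≤ MulAction.stabilizer G α) (k : G) (hk : k ∈ Subgroup.normalizer (T : Set G)) : (k * k) • α = α := by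
  by_cases h : k • α = α
  · rw [mul_smul, h, h]
  · exact sq_fix hfix T g hgT hg α hT k k hk hk h h

theorem odd_fix (hfix : ∀ g : G, g ≠ 1 → Nat.card (MulAction.fixedBy Ω g) ≤ 2) (T : Subgroup G) (g : G) (hgT : g ∈ T) (hg : g ≠ 1)
    (α : Ω) (hT : T ≤ MulAction.stabilizer G α) (k : G) (hk : k ∈ Subgroup.normalizer (T : Set G)) (ho : Odd (orderOf k)) :
    k • α = α := by
  obtain ⟨n, hn⟩ := ho
  have h1 : k = (k ^ (n + 1)) * (k ^ (n + 1)) := by
    rw [← pow_add]
    have : n + 1 + (n + 1) = orderOf k + 1 := by omega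
    rw [this, pow_succ, pow_orderOf_eq_one, one_mul]
  rw [h1]
  exact sq_fix' hfix T g hgT hg α hT _ (pow_mem hk _)

theorem card_norm_fix (hfix : ∀ g : G, g ≠ 1 → Nat.card (MulAction.fixedBy Ω g) ≤ 2) (T : Subgroup G) (g : G) (hgT : g ∈ T) (hg : g ≠ 1)
    (α : Ω) (hT : T ≤ MulAction.stabilizer G α) : ∃ i, i ≤ 2 ∧
    Nat.card (Subgroup.normalizer (T : Set G)) = i * Nat.card (MulAction.stabilizer (Subgroup.normalizer (T : Set G)) α) := by
  refine ⟨(MulAction.stabilizer (Subgroup.normalizer (T : Set G)) α).index, ?_, ?_⟩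
  · rw [MulAction.index_stabilizer]
    have h1 : MulAction.orbit (Subgroup.normalizer (T : Set G)) α ⊆ MulAction.fixedBy Ω g := by
      rintro _ ⟨k, rfl⟩
      have h3 := (Subgroup.mem_normalizer_iff.mp (inv_mem k.2) g).mp hgT
      rw [inv_inv] at h3
      have h4 : (k.1⁻¹ * g * k.1) • α = α := hT h3
      rw [mul_smul, mul_smul, inv_smul_eq_iff] at h4
      exact h4
    refine (Set.ncard_le_ncard h1).trans ?_
    rw [← Nat.card_coe_set_eq]
    exact hfix g hg
  · rw [mul_comm]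
    exact (Subgroup.card_mul_index _).symm

end general

section

variable {F : Type*} [Field F] {m : ℕ} {θ : F →+* F}

theorem dsub_norm (h : IsTits θ) (hθ : ∀ x, θ x = x ^ (2 ^ (m + 1))) (k : Fˣ) :
    (⟨D θ k, D_mem h hθ k⟩ : Cfsg.Sz F m) ∈ Subgroup.normalizer ((Zsub h hθ : Subgroup (Cfsg.Sz F m)) : Set (Cfsg.Sz F m)) := by
  have key : ∀ (k : Fˣ) (x : Cfsg.Sz F m), x ∈ Zsub h hθ →
      (⟨D θ k, D_mem h hθ k⟩ : Cfsg.Sz F m) * x * (⟨D θ k, D_mem h hθ k⟩ : Cfsg.Sz F m)⁻¹ ∈ Zsub h hθ := by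
    rintro k x ⟨b, hb⟩
    refine ⟨θ k * k ^ 2 * b, ?_⟩
    change D θ k * x.1 * (D θ k)⁻¹ = _
    rw [hb, D_U h, mul_zero, mul_inv_cancel_right]
  rw [Subgroup.mem_normalizer_iff]
  intro x
  refine ⟨key k x, fun hx => ?_⟩
  have := key k⁻¹ _ hx
  have e : (⟨D θ k⁻¹, D_mem h hθ k⁻¹⟩ : Cfsg.Sz F m) = (⟨D θ k, D_mem h hθ k⟩ : Cfsg.Sz F m)⁻¹ :=
    Subtype.ext (D_inv θ k).symm
  rw [e] at this
  simpa [mul_assoc] using this

theorem usub_norm (h : IsTits θ) (hθ : ∀ x, θ x = x ^ (2 ^ (m + 1))) (u : Cfsg.Sz F m) (hu : u ∈ Usub h hθ) :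
    u ∈ Subgroup.normalizer ((Zsub h hθ : Subgroup (Cfsg.Sz F m)) : Set (Cfsg.Sz F m)) := by
  have key : ∀ u ∈ Usub h hθ, ∀ (x : Cfsg.Sz F m), x ∈ Zsub h hθ → u * x * u⁻¹ = x := by
    rintro u ⟨a, b, hab⟩ x ⟨c, hc⟩
    apply Subtype.ext
    change u.1 * x.1 * u.1⁻¹ = x.1
    rw [mul_inv_eq_iff_eq_mul, hab, hc, U_mul h, U_mul h]
    simp [add_comm]
  rw [Subgroup.mem_normalizer_iff]
  intro x
  refine ⟨fun hx => by rw [key u hu x hx]; exact hx, fun hx => ?_⟩
  have := key u⁻¹ (inv_mem hu) _ hx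
  have e : u⁻¹ * (u * x * u⁻¹) * u⁻¹⁻¹ = x := by group
  rw [e] at this
  rw [this]; exact hx

theorem odd_orderOf_D [Fintype F] (hF : Fintype.card F = 2 ^ (2 * m + 1)) (h : IsTits θ)
    (hθ : ∀ x, θ x = x ^ (2 ^ (m + 1))) (g : Cfsg.Sz F m) (hg : g ∈ Dsub h hθ) : Odd (orderOf g) := by
  have h1 : orderOf g ∣ Nat.card (Dsub h hθ) := Subgroup.orderOf_dvd_natCard _ hg
  rw [card_Dsub hF] at h1
  refine Odd.of_dvd_nat ?_ h1
  obtain ⟨k, hk⟩ := two_dvd_q m
  have : 0 < 2 ^ (2 * m + 1) := by positivity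
  exact ⟨k - 1, by omega⟩

variable {Ω : Type*} [Finite Ω] [MulAction (Cfsg.Sz F m) Ω]

/-- Step 1 : if the point stabiliser contains a central involution of `U`, it contains `N(U)`. -/
theorem step1 [Fintype F] (hm : 1 ≤ m) (hF : Fintype.card F = 2 ^ (2 * m + 1)) (h : IsTits θ)
    (hθ : ∀ x, θ x = x ^ (2 ^ (m + 1)))
    (hfix : ∀ g : Cfsg.Sz F m, g ≠ 1 → Nat.card (MulAction.fixedBy Ω g) ≤ 2) (α : Ω) (f : F) (hf : f ≠ 0)
    (hα : (⟨U θ 0 f, U_mem h hθ _ _⟩ : Cfsg.Sz F m) • α = α) :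
    Subgroup.normalizer ((Usub h hθ : Subgroup (Cfsg.Sz F m)) : Set (Cfsg.Sz F m)) ≤ MulAction.stabilizer (Cfsg.Sz F m) α := by
  set z : Cfsg.Sz F m := ⟨U θ 0 f, U_mem h hθ _ _⟩ with hz
  have hz1 : z ≠ 1 := by
    intro hh
    have := congrArg Subtype.val hh
    change U θ 0 f = 1 at this
    rw [← U_zero θ] at this
    exact hf (U_inj this).2
  have hzT : Subgroup.zpowers z ≤ MulAction.stabilizer (Cfsg.Sz F m) α := by
    rw [Subgroup.zpowers_le]; exact hα
  -- Z is in the stabiliser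
  have hZ : Zsub h hθ ≤ MulAction.stabilizer (Cfsg.Sz F m) α := by
    rintro x ⟨b, hb⟩
    obtain ⟨a, ha⟩ := exists_mul_theta h b
    have hu : (⟨U θ a 0, U_mem h hθ _ _⟩ : Cfsg.Sz F m) ∈ Subgroup.normalizer ((Subgroup.zpowers z : Subgroup (Cfsg.Sz F m)) : Set (Cfsg.Sz F m)) := by
      apply Subgroup.centralizer_le_normalizer
      rw [Subgroup.mem_centralizer_iff]
      intro y hy
      obtain ⟨n, rfl⟩ := Subgroup.mem_zpowers_iff.mp hy
      have hc : Commute z (⟨U θ a 0, U_mem h hθ _ _⟩ : Cfsg.Sz F m) := by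
        apply Subtype.ext
        change U θ 0 f * U θ a 0 = U θ a 0 * U θ 0 f
        rw [U_mul h, U_mul h]; simp
      exact (hc.zpow_left n)
    have h1 := sq_fix' hfix (Subgroup.zpowers z) z (Subgroup.mem_zpowers z) hz1 α hzT _ hu
    have h2 := h.two
    have h3 : x = (⟨U θ a 0, U_mem h hθ _ _⟩ : Cfsg.Sz F m) * (⟨U θ a 0, U_mem h hθ _ _⟩ : Cfsg.Sz F m) := by
      apply Subtype.ext
      change x.1 = U θ a 0 * U θ a 0
      rw [hb, U_mul h]
      congr 1
      · linear_combination -a * h2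
      · linear_combination -ha
    rw [MulAction.mem_stabilizer_iff, h3]
    exact h1
  have hzZ : z ∈ Zsub h hθ := ⟨f, rfl⟩
  have hD : ∀ k : Fˣ, (⟨D θ k, D_mem h hθ k⟩ : Cfsg.Sz F m) ∈ MulAction.stabilizer (Cfsg.Sz F m) α := by
    intro k
    rw [MulAction.mem_stabilizer_iff]
    apply odd_fix hfix (Zsub h hθ) z hzZ hz1 α hZ _ (dsub_norm h hθ k)
    exact odd_orderOf_D hF h hθ _ ((mem_Dsub h hθ _).mpr ⟨k, rfl⟩)
  obtain ⟨k, hk⟩ := exists_unit_ne_one (F := F) hm hF
  have hk' : θ (k : F) - 1 ≠ 0 := by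
    intro h1
    exact hk (Units.ext (h.eq_one_of_theta (sub_eq_zero.mp h1)))
  have hU' : ∀ a b, (⟨U θ a b, U_mem h hθ _ _⟩ : Cfsg.Sz F m) ∈ MulAction.stabilizer (Cfsg.Sz F m) α := by
    intro a b
    set c := a / (θ (k : F) - 1) with hc
    set u : Cfsg.Sz F m := ⟨U θ c 0, U_mem h hθ _ _⟩ with hu
    set d : Cfsg.Sz F m := ⟨D θ k, D_mem h hθ k⟩ with hd
    have huN : u ∈ Subgroup.normalizer ((Zsub h hθ : Subgroup (Cfsg.Sz F m)) : Set (Cfsg.Sz F m)) := usub_norm h hθ u ⟨_, _, rfl⟩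
    have hdN : d ∈ Subgroup.normalizer ((Zsub h hθ : Subgroup (Cfsg.Sz F m)) : Set (Cfsg.Sz F m)) := dsub_norm h hθ k
    -- w = u⁻¹ * (d * u * d⁻¹)
    have hw : u⁻¹ * (d * u * d⁻¹) ∈ MulAction.stabilizer (Cfsg.Sz F m) α := by
      by_cases huS : u ∈ MulAction.stabilizer (Cfsg.Sz F m) α
      · exact mul_mem (inv_mem huS) (mul_mem (mul_mem (hD k) huS) (inv_mem (hD k)))
      · have h1 : u⁻¹ ∉ MulAction.stabilizer (Cfsg.Sz F m) α := fun hh => huS (by simpa using inv_mem hh)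
        have h2 : d * u * d⁻¹ ∉ MulAction.stabilizer (Cfsg.Sz F m) α := by
          intro hh
          apply huS
          have := mul_mem (mul_mem (inv_mem (hD k)) hh) (hD k)
          have e : d⁻¹ * (d * u * d⁻¹) * d = u := by group
          rw [← e]; exact this
        exact sq_fix hfix (Zsub h hθ) z hzZ hz1 α hZ _ _ (inv_mem huN) (mul_mem (mul_mem hdN huN) (inv_mem hdN)) h1 h2
    have h2 := h.two
    have e1 : ∃ b', (u⁻¹ * (d * u * d⁻¹)).1 = U θ a b' := by
      have : (u⁻¹ * (d * u * d⁻¹)).1 = (U θ c 0)⁻¹ * (D θ k * U θ c 0 * (D θ k)⁻¹) := rfl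
      rw [this, D_U h, mul_inv_cancel_right, U_inv h, U_mul h]
      have : c + θ (k : F) * c = a := by
        have h5 : (θ (k : F) - 1) * c = a := by rw [hc]; field_simp
        linear_combination h5 + c * h2
      rw [this]
      exact ⟨_, rfl⟩
    obtain ⟨b', hb'⟩ := e1
    have hZ2 : (⟨U θ 0 (b - b'), U_mem h hθ _ _⟩ : Cfsg.Sz F m) ∈ MulAction.stabilizer (Cfsg.Sz F m) α := hZ ⟨_, rfl⟩
    have h6 := mul_mem hw hZ2
    have h7 : (⟨U θ a b, U_mem h hθ _ _⟩ : Cfsg.Sz F m) = (u⁻¹ * (d * u * d⁻¹)) * (⟨U θ 0 (b - b'), U_mem h hθ _ _⟩ : Cfsg.Sz F m) := by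
      apply Subtype.ext
      change U θ a b = (u⁻¹ * (d * u * d⁻¹)).1 * U θ 0 (b - b')
      rw [hb', U_mul h]
      simp
    rw [h7]; exact h6
  intro g hg
  rw [mem_normalizer_Usub hm hF] at hg
  obtain ⟨a, b, k, hk⟩ := stab_infty hm hF h hθ g.1 g.2 hg
  have : g = (⟨U θ a b, U_mem h hθ _ _⟩ : Cfsg.Sz F m) * (⟨D θ k, D_mem h hθ k⟩ : Cfsg.Sz F m) := Subtype.ext hk
  rw [this]
  exact mul_mem (hU' a b) (hD k)

theorem U_pow_two (h : IsTits θ) (a b : F) : U θ a b * U θ a b = U θ 0 (θ a * a) := by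
  have h2 := h.two
  rw [U_mul h]
  congr 1
  · linear_combination a * h2
  · linear_combination b * h2

/-- from an element of type `U` in a stabiliser, a central involution of `U` in a stabiliser. -/
theorem exists_inv_of_U [Fintype F] (h : IsTits θ)
    (hθ : ∀ x, θ x = x ^ (2 ^ (m + 1))) (g : Cfsg.Sz F m) (hg1 : g ≠ 1) (hgU : g ∈ Usub h hθ) :
    ∃ f : F, f ≠ 0 ∧ (⟨U θ 0 f, U_mem h hθ _ _⟩ : Cfsg.Sz F m) ∈ Subgroup.zpowers g := by
  obtain ⟨a, b, hab⟩ := hgU
  by_cases ha : a = 0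
  · subst ha
    refine ⟨b, ?_, ?_⟩
    · rintro rfl
      rw [U_zero] at hab
      exact hg1 (Subtype.ext hab)
    · have : (⟨U θ 0 b, U_mem h hθ _ _⟩ : Cfsg.Sz F m) = g := Subtype.ext hab.symm
      rw [this]
      exact Subgroup.mem_zpowers g
  · refine ⟨θ a * a, mul_ne_zero (by simpa using ha) ha, ?_⟩
    have : (⟨U θ 0 (θ a * a), U_mem h hθ _ _⟩ : Cfsg.Sz F m) = g * g := by
      apply Subtype.ext
      change U θ 0 (θ a * a) = g.1 * g.1
      rw [hab, U_pow_two h]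
    rw [this]
    exact mul_mem (Subgroup.mem_zpowers g) (Subgroup.mem_zpowers g)

theorem fixity [Fintype F] (hm : 1 ≤ m) (hF : Fintype.card F = 2 ^ (2 * m + 1))
    (htr : MulAction.IsPretransitive (Cfsg.Sz F m) Ω)
    (hfix : ∀ g : Cfsg.Sz F m, g ≠ 1 → Nat.card (MulAction.fixedBy Ω g) ≤ 2)
    (hex : ∃ g : Cfsg.Sz F m, g ≠ 1 ∧ Nat.card (MulAction.fixedBy Ω g) = 2) :
    (Nat.card Ω = (2 ^ (2 * m + 1)) ^ 2 + 1 ∧ MulAction.IsMultiplyPretransitive (Cfsg.Sz F m) Ω 2) ∨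
    (Nat.card Ω = (2 ^ (2 * m + 1)) ^ 2 * ((2 ^ (2 * m + 1)) ^ 2 + 1) ∧
      ∀ α : Ω, Nat.card (MulAction.stabilizer (Cfsg.Sz F m) α) = 2 ^ (2 * m + 1) - 1) := by
  classical
  obtain ⟨θ, h, hθ⟩ := exists_theta hF
  have h2 := h.two
  haveI : Fintype (Cfsg.Sz F m) := Fintype.ofFinite _
  letI := act hθ
  have H := zd hm hF h hθ
  haveI : Fact (Nat.Prime 2) := ⟨Nat.prime_two⟩
  have hq8 := q_ge hm
  by_cases hinv : ∃ (α : Ω) (z : Cfsg.Sz F m), z • α = α ∧ orderOf z = 2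
  · left
    obtain ⟨α, z, hz, ho⟩ := hinv
    have hz1 : z ≠ 1 := by rintro rfl; rw [orderOf_one] at ho; omega
    have hzz : z * z = 1 := by rw [← sq, ← ho]; exact pow_orderOf_eq_one z
    have htype : ∃ x, x⁻¹ * z * x ∈ Usub h hθ := by
      rcases tri hm hF h hθ z with hf | hu | hd
      · exfalso
        have := H.fpf_odd hf
        rw [ho] at this
        exact absurd this (by decide)
      · exact hu
      · exfalso
        obtain ⟨x, hx⟩ := hd
        have h3 := odd_orderOf_D hF h hθ _ hx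
        have h4 : orderOf (x⁻¹ * z * x) = orderOf z := by
          have : x⁻¹ * z * x = MulAut.conj x⁻¹ z := by simp
          rw [this]; exact MulEquiv.orderOf_eq _ _
        rw [h4, ho] at h3
        exact absurd h3 (by decide)
    obtain ⟨x, hx⟩ := htype
    obtain ⟨f, hf, hfz⟩ := exists_inv_of_U h hθ _ (conj_ne_one (x := x) hz1) hx
    have hα' : (⟨U θ 0 f, U_mem h hθ _ _⟩ : Cfsg.Sz F m) • (x⁻¹ • α) = x⁻¹ • α := by
      have h3 : Subgroup.zpowers (x⁻¹ * z * x) ≤ MulAction.stabilizer (Cfsg.Sz F m) (x⁻¹ • α) := by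
        rw [Subgroup.zpowers_le, MulAction.mem_stabilizer_iff, mul_smul, mul_smul, smul_inv_smul, hz]
      exact h3 hfz
    have hle := step1 hm hF h hθ hfix (x⁻¹ • α) f hf hα'
    set β := x⁻¹ • α with hβ
    have hcoatom := (borel_max hm hF (sylU hm hF h hθ)).1
    rw [sylU_coe] at hcoatom
    have hne : MulAction.stabilizer (Cfsg.Sz F m) β ≠ ⊤ := by
      intro htop
      have hsub : Subsingleton Ω := by
        refine ⟨fun a b => ?_⟩
        obtain ⟨g, hg⟩ := MulAction.exists_smul_eq (Cfsg.Sz F m) β a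
        obtain ⟨k, hk⟩ := MulAction.exists_smul_eq (Cfsg.Sz F m) β b
        have h3 : g • β = β := by
          have : g ∈ MulAction.stabilizer (Cfsg.Sz F m) β := by rw [htop]; trivial
          exact this
        have h4 : k • β = β := by
          have : k ∈ MulAction.stabilizer (Cfsg.Sz F m) β := by rw [htop]; trivial
          exact this
        rw [← hg, ← hk, h3, h4]
      obtain ⟨g, -, hg⟩ := hex
      have : Nat.card (MulAction.fixedBy Ω g) ≤ 1 := by
        rw [Finite.card_le_one_iff_subsingleton]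
        infer_instance
      omega
    have hstab : MulAction.stabilizer (Cfsg.Sz F m) β = Subgroup.normalizer ((Usub h hθ : Subgroup (Cfsg.Sz F m)) : Set (Cfsg.Sz F m)) := by
      rcases hle.eq_or_lt with h3 | h3
      · exact h3.symm
      · exact absurd (hcoatom.2 _ h3) hne
    have hcardS : Nat.card (MulAction.stabilizer (Cfsg.Sz F m) β) = (2 ^ (2 * m + 1)) ^ 2 * (2 ^ (2 * m + 1) - 1) := by
      rw [hstab, normalizer_Usub hm hF, card_stabilizer hm hF]
    refine ⟨?_, ?_⟩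
    · have h3 := Subgroup.card_mul_index (MulAction.stabilizer (Cfsg.Sz F m) β)
      rw [hcardS, MulAction.index_stabilizer_of_transitive, H.cardG] at h3
      exact Nat.eq_of_mul_eq_mul_left (Nat.mul_pos (by positivity) (by omega)) h3
    · have h4 := (two_trans_of_regular (Usub h hθ) _ Subgroup.le_normalizer (regular hm hF h hθ)).1
      rw [MulAction.is_two_pretransitive_iff] at h4 ⊢
      intro a b c d hab hcd
      obtain ⟨ga, rfl⟩ := MulAction.exists_smul_eq (Cfsg.Sz F m) β a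
      obtain ⟨gb, rfl⟩ := MulAction.exists_smul_eq (Cfsg.Sz F m) β b
      obtain ⟨gc, rfl⟩ := MulAction.exists_smul_eq (Cfsg.Sz F m) β c
      obtain ⟨gd, rfl⟩ := MulAction.exists_smul_eq (Cfsg.Sz F m) β d
      have key : ∀ g k : Cfsg.Sz F m, (QuotientGroup.mk g : Cfsg.Sz F m ⧸ Subgroup.normalizer ((Usub h hθ : Subgroup (Cfsg.Sz F m)) : Set (Cfsg.Sz F m))) = QuotientGroup.mk k ↔ g • β = k • β := by
        intro g k
        rw [QuotientGroup.eq, ← hstab, MulAction.mem_stabilizer_iff, mul_smul, inv_smul_eq_iff]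
        exact eq_comm
      obtain ⟨g, hg1, hg2⟩ := h4 (a := QuotientGroup.mk ga) (b := QuotientGroup.mk gb) (c := QuotientGroup.mk gc) (d := QuotientGroup.mk gd)
        (fun hh => hab ((key _ _).mp hh)) (fun hh => hcd ((key _ _).mp hh))
      refine ⟨g, ?_, ?_⟩
      · have := (key (g * ga) gc).mp hg1
        rwa [mul_smul] at this
      · have := (key (g * gb) gd).mp hg2
        rwa [mul_smul] at this
  · right
    push Not at hinv
    -- every nonidentity element of a stabiliser has type D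
    have htype : ∀ (γ : Ω) (s : Cfsg.Sz F m), s ≠ 1 → s • γ = γ → ∃ x, x⁻¹ * s * x ∈ Dsub h hθ := by
      intro γ s hs1 hs
      rcases tri hm hF h hθ s with hf | hu | hd
      · exfalso
        have hA : Subgroup.centralizer ({s} : Set (Cfsg.Sz F m)) ≤ MulAction.stabilizer (Cfsg.Sz F m) γ := by
          intro c hc
          rw [MulAction.mem_stabilizer_iff]
          by_cases hc1 : c = 1
          · rw [hc1, one_smul]
          have hcs := mem_cent.mp hc
          have hcf := H.fpf_of_comm hf (H.fpf_odd hf) hc1 hcs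
          apply odd_fix hfix (Subgroup.zpowers s) s (Subgroup.mem_zpowers s) hs1 γ (by rw [Subgroup.zpowers_le]; exact hs) c _ (H.fpf_odd hcf)
          apply Subgroup.centralizer_le_normalizer
          rw [Subgroup.mem_centralizer_iff]
          intro y hy
          obtain ⟨n, rfl⟩ := Subgroup.mem_zpowers_iff.mp hy
          exact (Commute.zpow_right hcs n).symm
        obtain ⟨i, hi, hcard⟩ := card_norm_fix hfix _ s (by rw [mem_cent]) hs1 γ hA
        rw [H.card_norm hf] at hcard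
        have hpos : 0 < Nat.card (Subgroup.centralizer ({s} : Set (Cfsg.Sz F m))) := Nat.card_pos
        have heven : 2 ∣ Nat.card (MulAction.stabilizer (Subgroup.normalizer ((Subgroup.centralizer ({s} : Set (Cfsg.Sz F m)) : Subgroup (Cfsg.Sz F m)) : Set (Cfsg.Sz F m))) γ) := by
          interval_cases i
          · omega
          · rw [one_mul] at hcard; rw [← hcard]; exact ⟨2 * Nat.card (Subgroup.centralizer ({s} : Set (Cfsg.Sz F m))), by ring⟩
          · exact ⟨Nat.card (Subgroup.centralizer ({s} : Set (Cfsg.Sz F m))), by omega⟩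
        obtain ⟨t, ht⟩ := exists_prime_orderOf_dvd_card' 2 heven
        refine hinv γ t.1.1 t.2 ?_
        rw [Subgroup.orderOf_coe, Subgroup.orderOf_coe]; exact ht
      · exfalso
        obtain ⟨x, hx⟩ := hu
        obtain ⟨f, hf, hfz⟩ := exists_inv_of_U h hθ _ (conj_ne_one (x := x) hs1) hx
        have hα' : (⟨U θ 0 f, U_mem h hθ _ _⟩ : Cfsg.Sz F m) • (x⁻¹ • γ) = x⁻¹ • γ := by
          have h3 : Subgroup.zpowers (x⁻¹ * s * x) ≤ MulAction.stabilizer (Cfsg.Sz F m) (x⁻¹ • γ) := by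
            rw [Subgroup.zpowers_le, MulAction.mem_stabilizer_iff, mul_smul, mul_smul, smul_inv_smul, hs]
          exact h3 hfz
        refine hinv _ _ hα' ?_
        apply orderOf_eq_prime
        · apply Subtype.ext
          change U θ 0 f ^ 2 = 1
          rw [sq, U_pow_two h, map_zero, mul_zero, U_zero]
        · intro hh
          have := congrArg Subtype.val hh
          change U θ 0 f = 1 at this
          rw [← U_zero θ] at this
          exact hf (U_inj this).2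
      · exact hd
    obtain ⟨g, hg1, hg⟩ := hex
    have hne : Nonempty (MulAction.fixedBy Ω g) := by
      rw [← Finite.card_pos_iff, hg]; norm_num
    obtain ⟨α, hα⟩ := hne
    obtain ⟨x, hx⟩ := htype α g hg1 hα
    set β := x⁻¹ • α with hβ
    have hx1 := conj_ne_one (x := x) hg1
    have hgβ : (x⁻¹ * g * x) • β = β := by
      rw [hβ, mul_smul, mul_smul, smul_inv_smul]
      rw [MulAction.mem_fixedBy] at hα
      rw [hα]
    have hDle : Dsub h hθ ≤ MulAction.stabilizer (Cfsg.Sz F m) β := by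
      intro d hd
      rw [MulAction.mem_stabilizer_iff]
      apply odd_fix hfix (Subgroup.zpowers (x⁻¹ * g * x)) _ (Subgroup.mem_zpowers _) hx1 β (by rw [Subgroup.zpowers_le]; exact hgβ) d _ (odd_orderOf_D hF h hθ _ hd)
      apply Subgroup.centralizer_le_normalizer
      rw [Subgroup.mem_centralizer_iff]
      intro y hy
      obtain ⟨n, rfl⟩ := Subgroup.mem_zpowers_iff.mp hy
      have hd' : d ∈ Subgroup.centralizer ({x⁻¹ * g * x} : Set (Cfsg.Sz F m)) := by
        rw [cent_Dsub hm hF h hθ _ hx hx1]; exact hd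
      exact (Commute.zpow_right (mem_cent.mp hd') n).symm
    have hcardβ : Nat.card (MulAction.stabilizer (Cfsg.Sz F m) β) = 2 ^ (2 * m + 1) - 1 := by
      have hd1 : 2 ^ (2 * m + 1) - 1 ∣ Nat.card (MulAction.stabilizer (Cfsg.Sz F m) β) := by
        rw [← card_Dsub hF h hθ]
        exact Subgroup.card_dvd_of_le hDle
      apply Nat.dvd_antisymm _ hd1
      have hd2 : Nat.card (MulAction.stabilizer (Cfsg.Sz F m) β) ∣ Nat.card (Cfsg.Sz F m) := Subgroup.card_subgroup_dvd_card _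
      rw [H.cardG] at hd2
      have hprime : ∀ r : ℕ, r.Prime → r ∣ Nat.card (MulAction.stabilizer (Cfsg.Sz F m) β) → r ∣ 2 ^ (2 * m + 1) - 1 := by
        intro r hr hrd
        haveI : Fact r.Prime := ⟨hr⟩
        obtain ⟨t, ht⟩ := exists_prime_orderOf_dvd_card' r hrd
        have ht' : orderOf t.1 = r := by rw [Subgroup.orderOf_coe]; exact ht
        have ht1 : t.1 ≠ 1 := by
          intro hh; rw [hh, orderOf_one] at ht'; exact hr.one_lt.ne ht'
        obtain ⟨y, hy⟩ := htype β t.1 ht1 t.2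
        have h4 : orderOf (y⁻¹ * t.1 * y) = orderOf t.1 := by
          have : y⁻¹ * t.1 * y = MulAut.conj y⁻¹ t.1 := by simp
          rw [this]; exact MulEquiv.orderOf_eq _ _
        rw [← ht', ← h4, ← card_Dsub hF h hθ]
        exact Subgroup.orderOf_dvd_natCard _ hy
      have hc1 : Nat.Coprime (Nat.card (MulAction.stabilizer (Cfsg.Sz F m) β)) ((2 ^ (2 * m + 1)) ^ 2 + 1) := by
        apply Nat.coprime_of_dvd
        intro r hr h3 h4
        exact hr.one_lt.ne' (Nat.Coprime.eq_one_of_dvd (Nat.Coprime.coprime_dvd_left h4 H.cop3) (hprime r hr h3))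
      have hc2 : Nat.Coprime (Nat.card (MulAction.stabilizer (Cfsg.Sz F m) β)) ((2 ^ (2 * m + 1)) ^ 2) := by
        apply Nat.coprime_of_dvd
        intro r hr h3 h4
        have h5 := hprime r hr h3
        have h6 := hr.dvd_of_dvd_pow h4
        have h7 : r ∣ 1 := by
          have := Nat.dvd_sub h6 h5
          have e : 2 ^ (2 * m + 1) - (2 ^ (2 * m + 1) - 1) = 1 := by omega
          rwa [e] at this
        exact hr.one_lt.ne' (Nat.dvd_one.mp h7)
      have h8 := Nat.Coprime.dvd_of_dvd_mul_right hc1 hd2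
      exact Nat.Coprime.dvd_of_dvd_mul_left hc2 h8
    have hall : ∀ α : Ω, Nat.card (MulAction.stabilizer (Cfsg.Sz F m) α) = 2 ^ (2 * m + 1) - 1 := by
      intro γ
      obtain ⟨k, hk⟩ := MulAction.exists_smul_eq (Cfsg.Sz F m) β γ
      rw [← hcardβ]
      exact (Nat.card_congr (MulAction.stabilizerEquivStabilizer hk.symm).toEquiv).symm
    refine ⟨?_, hall⟩
    have h3 := Subgroup.card_mul_index (MulAction.stabilizer (Cfsg.Sz F m) β)
    rw [hcardβ, MulAction.index_stabilizer_of_transitive, H.cardG] at h3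
    have : (2 ^ (2 * m + 1)) ^ 2 * (2 ^ (2 * m + 1) - 1) * ((2 ^ (2 * m + 1)) ^ 2 + 1) =
      (2 ^ (2 * m + 1) - 1) * ((2 ^ (2 * m + 1)) ^ 2 * ((2 ^ (2 * m + 1)) ^ 2 + 1)) := by ring
    rw [this] at h3
    exact Nat.eq_of_mul_eq_mul_left (by omega) h3

end

end Cfsg.Agent.HL.Sz
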