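import Cfsg.Agent.HL_SzSubI
import Cfsg.Prelude.Def_Transfer

/-! Suzuki groups: elementary abelian TI subgroups. -/

set_option autoImplicit false
set_option linter.unusedSimpArgs false
open scoped Pointwise MatrixGroups Matrix commutatorElement

namespace Cfsg.Agent.HL.Sz

open Cfsg.Agent.HL.SzAbs Cfsg.Agent.HL.TI

section

variable {F : Type*} [Field F] {m : ℕ} {θ : F →+* F}

theorem card_dvd_of_subfield [Fintype F] (hF : Fintype.card F = 2 ^ (2 * m + 1)) (K : Subfield F) {n : ℕ}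
    (hK : Nat.card K = 2 ^ n) : n ∣ 2 * m + 1 := by
  haveI : Fintype K := Fintype.ofFinite K
  have h1 := Module.card_eq_pow_finrank (K := K) (V := F)
  rw [hF, ← Nat.card_eq_fintype_card (α := K), hK, ← pow_mul] at h1
  exact ⟨_, Nat.pow_right_injective (le_refl 2) h1⟩

theorem exists_subfield [Fintype F] (hF : Fintype.card F = 2 ^ (2 * m + 1)) {n : ℕ} (hn : n ≠ 0) (hdiv : n ∣ 2 * m + 1) :
    ∃ K : Subfield F, Nat.card K = 2 ^ n := by
  haveI h2 : CharP F 2 := by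
    obtain ⟨p, hp⟩ := CharP.exists F
    haveI := hp
    obtain ⟨n, hpp, hn⟩ := FiniteField.card F p
    have : p = 2 := by
      have h1 : p ∣ 2 ^ (2 * m + 1) := by rw [← hF, hn]; exact dvd_pow_self _ n.ne_zero
      exact (Nat.prime_dvd_prime_iff_eq hpp Nat.prime_two).mp (hpp.dvd_of_dvd_pow h1)
    subst this; exact hp
  letI : Algebra (ZMod 2) F := ZMod.algebra F 2
  have hfF : Module.finrank (ZMod 2) F = 2 * m + 1 := by
    have := Module.card_eq_pow_finrank (K := ZMod 2) (V := F)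
    rw [hF, ZMod.card] at this
    exact (Nat.pow_right_injective (le_refl 2) this).symm
  have hfL : Module.finrank (ZMod 2) (GaloisField 2 n) = n := GaloisField.finrank 2 hn
  have hex : Nonempty (GaloisField 2 n →ₐ[ZMod 2] F) := by
    apply FiniteField.nonempty_algHom_of_finrank_dvd
    rw [hfF, hfL]; exact hdiv
  obtain ⟨φ⟩ := hex
  refine ⟨φ.toRingHom.fieldRange, ?_⟩
  have e : GaloisField 2 n ≃ φ.toRingHom.fieldRange :=
    Equiv.ofBijective φ.toRingHom.rangeRestrictField ⟨φ.toRingHom.rangeRestrictField.injective,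
      φ.toRingHom.rangeRestrictField_bijective.2⟩
  rw [← Nat.card_congr e, GaloisField.card 2 n hn]

theorem Z_conj (h : IsTits θ) (hθ : ∀ x, θ x = x ^ (2 ^ (m + 1))) (a' b' : F) (k : Fˣ) (b : F) :
    Ue h hθ a' b' * De h hθ k * Ue h hθ 0 b * (Ue h hθ a' b' * De h hθ k)⁻¹ = Ue h hθ 0 (θ (k : F) * (k : F) ^ 2 * b) := by
  have e2 : Ue h hθ a' b' * De h hθ k * Ue h hθ 0 b * (Ue h hθ a' b' * De h hθ k)⁻¹ =
      Ue h hθ a' b' * (De h hθ k * Ue h hθ 0 b * (De h hθ k)⁻¹) * (Ue h hθ a' b')⁻¹ := by group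
  rw [e2, De_Ue, mul_zero, mul_inv_eq_iff_eq_mul, Ue_mul, Ue_mul]
  congr 1
  · ring
  · simp; ring

theorem ti_backward [Fintype F] (hm : 1 ≤ m) (hF : Fintype.card F = 2 ^ (2 * m + 1)) (n : ℕ) (hn : 2 ≤ n)
    (hdiv : n ∣ 2 * m + 1) :
    (∃ E : Subgroup (Cfsg.Sz F m), Cfsg.IsElementaryAbelian 2 E ∧ Nat.card E = 2 ^ n ∧
      ∀ x : Cfsg.Sz F m, E ⊓ E.map (MulAut.conj x).toMonoidHom ≠ ⊥ → x ∈ Subgroup.normalizer (E : Set (Cfsg.Sz F m))) := by
  obtain ⟨θ, h, hθ⟩ := exists_theta hF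
  have h2 := h.two
  obtain ⟨K, hK⟩ := exists_subfield hF (by omega) hdiv
  let E : Subgroup (Cfsg.Sz F m) := {
    carrier := {g | ∃ b ∈ K, g = Ue h hθ 0 b}
    mul_mem' := by
      rintro _ _ ⟨b, hb, rfl⟩ ⟨c, hc, rfl⟩
      refine ⟨b + c, K.add_mem hb hc, ?_⟩
      rw [Ue_mul]; simp
    one_mem' := ⟨0, K.zero_mem, (Ue_zero h hθ).symm⟩
    inv_mem' := by
      rintro _ ⟨b, hb, rfl⟩
      refine ⟨b, hb, ?_⟩
      rw [inv_eq_iff_mul_eq_one, Ue_mul, ← Ue_zero h hθ]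
      congr 1
      · ring
      · rw [map_zero]; linear_combination b * h2 }
  have hmem : ∀ g, g ∈ E ↔ ∃ b ∈ K, g = Ue h hθ 0 b := fun g => Iff.rfl
  refine ⟨E, ⟨?_, ?_⟩, ?_, ?_⟩
  · refine ⟨⟨?_⟩⟩
    rintro ⟨a, b, hb, rfl⟩ ⟨c, d, hd, rfl⟩
    exact Subtype.ext (Ue_Z_comm h hθ 0 b d)
  · rintro _ ⟨b, hb, rfl⟩
    rw [pow_two, Ue_mul, ← Ue_zero h hθ]
    congr 1
    · ring
    · rw [map_zero]; linear_combination b * h2
  · rw [← hK]
    refine Nat.card_congr (Equiv.ofBijective (fun b : K => (⟨Ue h hθ 0 b.1, b.1, b.2, rfl⟩ : E)) ⟨?_, ?_⟩).symm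
    · intro a b hab
      exact Subtype.ext (Ue_inj h hθ (congrArg Subtype.val hab)).2
    · rintro ⟨_, b, hb, rfl⟩
      exact ⟨⟨b, hb⟩, rfl⟩
  · intro x hx
    obtain ⟨⟨y, hy⟩, hy1⟩ := Subgroup.ne_bot_iff_exists_ne_one.mp hx
    obtain ⟨hyE, z, hzE, hzy⟩ := hy
    obtain ⟨c, hc, hyc⟩ := hyE
    obtain ⟨b, hb, hzb⟩ := hzE
    have hzy' : x * z * x⁻¹ = y := hzy
    have hy0 : y ≠ 1 := fun hh => hy1 (Subtype.ext hh)
    have hc0 : c ≠ 0 := by
      rintro rfl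
      rw [Ue_zero] at hyc; exact hy0 hyc
    rw [hyc, hzb] at hzy'
    -- x fixes infinity
    have hxn : x.1 • pt θ none = pt θ none := by
      obtain ⟨q, hq⟩ := exists_coe hθ x none
      have h5 : U θ 0 c • pt θ q = pt θ q := by
        have : U θ 0 c = x.1 * U θ 0 b * x.1⁻¹ := (congrArg Subtype.val hzy').symm
        rw [this, ← hq, mul_smul, mul_smul, inv_smul_smul, U_none]
      rw [hq, Z_fix h c hc0 q h5]
    obtain ⟨a', b', k, hk⟩ := stab_infty hm hF h hθ x.1 x.2 hxn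
    have hk' : x = Ue h hθ a' b' * De h hθ k := Subtype.ext hk
    have e1 := Z_conj h hθ a' b' k b
    rw [← hk', hzy'] at e1
    have e2 : c = θ (k : F) * (k : F) ^ 2 * b := (Ue_inj h hθ e1).2
    have hb0 : b ≠ 0 := by
      rintro rfl
      rw [mul_zero] at e2; exact hc0 e2
    have hlam : θ (k : F) * (k : F) ^ 2 ∈ K := by
      have : θ (k : F) * (k : F) ^ 2 = c * b⁻¹ := by rw [e2]; field_simp
      rw [this]; exact K.mul_mem hc (K.inv_mem hb)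
    have hlam0 : θ (k : F) * (k : F) ^ 2 ≠ 0 := mul_ne_zero (by simp) (pow_ne_zero _ k.ne_zero)
    have key : ∀ w, w ∈ E → x * w * x⁻¹ ∈ E := by
      rintro _ ⟨d, hd, rfl⟩
      refine ⟨θ (k : F) * (k : F) ^ 2 * d, K.mul_mem hlam hd, ?_⟩
      rw [← Z_conj h hθ a' b' k d, ← hk']
    rw [Subgroup.mem_normalizer_iff]
    intro w
    refine ⟨key w, ?_⟩
    rintro ⟨d, hd, hwd⟩
    refine ⟨(θ (k : F) * (k : F) ^ 2)⁻¹ * d, K.mul_mem (K.inv_mem hlam) hd, ?_⟩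
    have e3 := Z_conj h hθ a' b' k ((θ (k : F) * (k : F) ^ 2)⁻¹ * d)
    rw [← hk', ← mul_assoc (θ (k : F) * (k : F) ^ 2), mul_inv_cancel₀ hlam0, one_mul, ← hwd] at e3
    have : w = x⁻¹ * (x * w * x⁻¹) * x := by group
    rw [this, ← e3]; group

theorem ti_forward [Fintype F] (hm : 1 ≤ m) (hF : Fintype.card F = 2 ^ (2 * m + 1)) (n : ℕ) (hn : 2 ≤ n)
    (hE : ∃ E : Subgroup (Cfsg.Sz F m), Cfsg.IsElementaryAbelian 2 E ∧ Nat.card E = 2 ^ n ∧
      ∀ x : Cfsg.Sz F m, E ⊓ E.map (MulAut.conj x).toMonoidHom ≠ ⊥ → x ∈ Subgroup.normalizer (E : Set (Cfsg.Sz F m))) :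
    n ∣ 2 * m + 1 := by
  obtain ⟨θ, h, hθ⟩ := exists_theta hF
  have h2 := h.two
  obtain ⟨E, ⟨hcomm', hexp⟩, hcard, hTI⟩ := hE
  have hcomm : ∀ a ∈ E, ∀ b ∈ E, a * b = b * a := fun a ha b hb =>
    congrArg Subtype.val (hcomm'.is_comm.comm (⟨a, ha⟩ : E) ⟨b, hb⟩)
  have hEb : E ≠ ⊥ := by
    intro hb
    rw [hb, Subgroup.card_bot] at hcard
    have : 2 ^ 2 ≤ 2 ^ n := Nat.pow_le_pow_right (by omega) hn
    omega
  obtain ⟨⟨t, htE⟩, ht1⟩ := Subgroup.ne_bot_iff_exists_ne_one.mp hEb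
  have ht0 : t ≠ 1 := fun hh => ht1 (Subtype.ext hh)
  obtain ⟨v, hv⟩ := inv_conj_std hm hF h hθ t (by rw [← pow_two]; exact hexp t htE) ht0
  -- conjugate
  have hE' : ∀ w, v * w * v⁻¹ ∈ E → v * w * v⁻¹ ∈ E := fun w hw => hw
  have hZ : ∀ w, v * w * v⁻¹ ∈ E → ∃ b, w = Ue h hθ 0 b := by
    intro w hw
    have h1 : w * Ue h hθ 0 1 = Ue h hθ 0 1 * w := by
      rw [← hv]
      have h3 := hcomm _ hw t htE
      calc w * (v⁻¹ * t * v) = v⁻¹ * ((v * w * v⁻¹) * t) * v := by group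
        _ = v⁻¹ * (t * (v * w * v⁻¹)) * v := by rw [h3]
        _ = _ := by group
    have h3 := centralizer_Z hm hF h hθ 1 one_ne_zero w (congrArg Subtype.val h1)
    obtain ⟨a, b, hab⟩ := h3
    have hab' : w = Ue h hθ a b := Subtype.ext hab
    have h4 : w * w = 1 := by
      have h5 := hexp _ hw
      rw [pow_two] at h5
      have : w * w = v⁻¹ * (v * w * v⁻¹ * (v * w * v⁻¹)) * v := by group
      rw [this, h5]; group
    rw [hab', Ue_mul, ← Ue_zero h hθ] at h4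
    have h5 := (Ue_inj h hθ h4).2
    have h6 : θ a * a = 0 := by linear_combination h5 - b * h2
    have ha : a = 0 := by
      rcases mul_eq_zero.mp h6 with h5 | h5
      · exact (map_eq_zero θ).mp h5
      · exact h5
    exact ⟨b, by rw [hab', ha]⟩
  have hnorm : ∀ k : Fˣ, v * Ue h hθ 0 (θ (k : F) * (k : F) ^ 2) * v⁻¹ ∈ E →
      v * De h hθ k * v⁻¹ ∈ Subgroup.normalizer (E : Set (Cfsg.Sz F m)) := by
    intro k hk
    apply hTI
    intro hb
    have h3 : v * Ue h hθ 0 (θ (k : F) * (k : F) ^ 2) * v⁻¹ ∈ E ⊓ E.map (MulAut.conj (v * De h hθ k * v⁻¹)).toMonoidHom := by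
      refine ⟨hk, t, htE, ?_⟩
      change (v * De h hθ k * v⁻¹) * t * (v * De h hθ k * v⁻¹)⁻¹ = _
      have e1 : (v * De h hθ k * v⁻¹) * t * (v * De h hθ k * v⁻¹)⁻¹ = v * (De h hθ k * (v⁻¹ * t * v) * (De h hθ k)⁻¹) * v⁻¹ := by group
      rw [e1, hv, De_Ue, mul_zero, mul_one]
    rw [hb, Subgroup.mem_bot] at h3
    have h4 : Ue h hθ 0 (θ (k : F) * (k : F) ^ 2) = 1 := by
      have : Ue h hθ 0 (θ (k : F) * (k : F) ^ 2) = v⁻¹ * (v * Ue h hθ 0 (θ (k : F) * (k : F) ^ 2) * v⁻¹) * v := by group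
      rw [this, h3]; group
    rw [← Ue_zero h hθ] at h4
    exact mul_ne_zero (by simp) (pow_ne_zero _ k.ne_zero) (Ue_inj h hθ h4).2
  have hconj : ∀ (k : Fˣ) (c : F), v * Ue h hθ 0 c * v⁻¹ ∈ E → v * De h hθ k * v⁻¹ ∈ Subgroup.normalizer (E : Set (Cfsg.Sz F m)) →
      v * Ue h hθ 0 (θ (k : F) * (k : F) ^ 2 * c) * v⁻¹ ∈ E := by
    intro k c hc hk
    have h3 := (Subgroup.mem_normalizer_iff.mp hk _).mp hc
    have e1 : (v * De h hθ k * v⁻¹) * (v * Ue h hθ 0 c * v⁻¹) * (v * De h hθ k * v⁻¹)⁻¹ =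
        v * (De h hθ k * Ue h hθ 0 c * (De h hθ k)⁻¹) * v⁻¹ := by group
    rw [e1, De_Ue, mul_zero] at h3
    exact h3
  have h1E : v * Ue h hθ 0 1 * v⁻¹ ∈ E := by
    rw [← hv]
    have : v * (v⁻¹ * t * v) * v⁻¹ = t := by group
    rw [this]; exact htE
  let K : Subfield F := {
    carrier := {b | v * Ue h hθ 0 b * v⁻¹ ∈ E}
    mul_mem' := by
      intro b c hb hc
      by_cases hb0 : b = 0
      · subst hb0
        change v * Ue h hθ 0 (0 * c) * v⁻¹ ∈ E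
        rw [zero_mul]; exact hb
      · obtain ⟨k, hk⟩ := lam_surj h b hb0
        have h3 : v * De h hθ k * v⁻¹ ∈ Subgroup.normalizer (E : Set (Cfsg.Sz F m)) := hnorm k (by rw [hk]; exact hb)
        have h4 := hconj k c hc h3
        rw [hk] at h4
        exact h4
    one_mem' := h1E
    add_mem' := by
      intro b c hb hc
      have h3 := mul_mem (show v * Ue h hθ 0 b * v⁻¹ ∈ E from hb) (show v * Ue h hθ 0 c * v⁻¹ ∈ E from hc)
      have e1 : (v * Ue h hθ 0 b * v⁻¹) * (v * Ue h hθ 0 c * v⁻¹) = v * (Ue h hθ 0 b * Ue h hθ 0 c) * v⁻¹ := by group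
      rw [e1, Ue_mul] at h3
      simpa using h3
    zero_mem' := by
      change v * Ue h hθ 0 0 * v⁻¹ ∈ E
      rw [Ue_zero]
      have : v * 1 * v⁻¹ = 1 := by group
      rw [this]; exact one_mem _
    neg_mem' := by
      intro b hb
      change v * Ue h hθ 0 (-b) * v⁻¹ ∈ E
      rw [h.neg]; exact hb
    inv_mem' := by
      intro b hb
      by_cases hb0 : b = 0
      · subst hb0
        change v * Ue h hθ 0 (0⁻¹) * v⁻¹ ∈ E
        rw [inv_zero]; exact hb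
      · obtain ⟨k, hk⟩ := lam_surj h b hb0
        have h3 : v * De h hθ k * v⁻¹ ∈ Subgroup.normalizer (E : Set (Cfsg.Sz F m)) := hnorm k (by rw [hk]; exact hb)
        have h3' : v * De h hθ k⁻¹ * v⁻¹ ∈ Subgroup.normalizer (E : Set (Cfsg.Sz F m)) := by
          have := inv_mem h3
          rw [← De_inv]
          have e : (v * De h hθ k * v⁻¹)⁻¹ = v * (De h hθ k)⁻¹ * v⁻¹ := by group
          rw [e] at this; exact this
        have h4 := hconj k⁻¹ 1 h1E h3'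
        change v * Ue h hθ 0 (b⁻¹) * v⁻¹ ∈ E
        have e2 : θ ((k⁻¹ : Fˣ) : F) * ((k⁻¹ : Fˣ) : F) ^ 2 * 1 = b⁻¹ := by
          rw [← hk, Units.val_inv_eq_inv_val, map_inv₀, mul_one, mul_inv, inv_pow]
        rw [e2] at h4
        exact h4 }
  apply card_dvd_of_subfield hF K
  rw [← hcard]
  refine Nat.card_congr (Equiv.ofBijective (fun b : K => (⟨v * Ue h hθ 0 b.1 * v⁻¹, b.2⟩ : E)) ⟨?_, ?_⟩)
  · intro a b hab
    have h3 : v * Ue h hθ 0 a.1 * v⁻¹ = v * Ue h hθ 0 b.1 * v⁻¹ := congrArg Subtype.val hab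
    have h4 := mul_left_cancel (mul_right_cancel h3)
    exact Subtype.ext (Ue_inj h hθ h4).2
  · rintro ⟨w, hw⟩
    have h3 : v * (v⁻¹ * w * v) * v⁻¹ = w := by group
    obtain ⟨b, hb⟩ := hZ (v⁻¹ * w * v) (by rw [h3]; exact hw)
    refine ⟨⟨b, ?_⟩, ?_⟩
    · change v * Ue h hθ 0 b * v⁻¹ ∈ E
      rw [← hb, h3]; exact hw
    · apply Subtype.ext
      change v * Ue h hθ 0 b * v⁻¹ = w
      rw [← hb, h3]

end

end Cfsg.Agent.HL.Sz
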