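import Cfsg.Agent.H17_FLA
import Cfsg.Agent.HL_SzTI
import Cfsg.Agent.HL_SzPart
import Cfsg.Agent.HL_SzModelB
import Cfsg.Agent.HL_SzFix2

set_option autoImplicit false
set_option linter.unusedVariables false
set_option linter.unusedSectionVars false
open Cfsg Cfsg.Agent.H17.Base

namespace Cfsg.Agent.H17.FL

section Sz
open Cfsg.Agent.HL.Sz Cfsg.Agent.HL.SzAbs

variable {F : Type*} [Field F] [Fintype F] {m : ℕ} {θ : F →+* F}

theorem sz_isSylowIn_U (hm : 1 ≤ m) (hF : Fintype.card F = 2 ^ (2 * m + 1)) (h : HL.Sz.IsTits θ)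
    (hθ : ∀ x, θ x = x ^ (2 ^ (m + 1))) : IsSylowIn 2 (Usub h hθ) ⊤ := isSylowIn_coe (sylU hm hF h hθ)

theorem sz_mem_Z_of_sq (h : HL.Sz.IsTits θ) (hθ : ∀ x, θ x = x ^ (2 ^ (m + 1))) {x : Cfsg.Sz F m} (hx : x ∈ Usub h hθ)
    (h2 : x * x = 1) : x ∈ Zsub h hθ := by
  obtain ⟨a, b, hab⟩ := hx
  have h3 : U θ a b * U θ a b = U θ 0 0 := by
    rw [← hab, U_zero]; exact congrArg Subtype.val h2
  rw [U_pow_two h] at h3
  have h4 := (U_inj h3).2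
  have ha : a = 0 := by
    rcases mul_eq_zero.1 h4 with h5 | h5
    · simpa using h5
    · exact h5
  exact ⟨b, by rw [hab, ha]⟩

theorem sz_sq_of_Z (h : HL.Sz.IsTits θ) (hθ : ∀ x, θ x = x ^ (2 ^ (m + 1))) {x : Cfsg.Sz F m} (hx : x ∈ Zsub h hθ) :
    x * x = 1 := by
  obtain ⟨b, hb⟩ := hx
  apply Subtype.ext
  change x.1 * x.1 = 1
  rw [hb, U_pow_two h, ← U_zero θ]
  congr 1
  simp

/-- `U` is trivial-intersection -/
theorem sz_ti (hm : 1 ≤ m) (hF : Fintype.card F = 2 ^ (2 * m + 1)) (h : HL.Sz.IsTits θ)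
    (hθ : ∀ x, θ x = x ^ (2 ^ (m + 1))) {x g : Cfsg.Sz F m} (hx : x ∈ Usub h hθ) (h1 : x ≠ 1)
    (hg : x ∈ cj g (Usub h hθ)) : cj g (Usub h hθ) = Usub h hθ := by
  have hS := (sz_isSylowIn_U hm hF h hθ).conj_top g
  exact sylow_eq hm hF h hθ hS.toSylowTop x h1 hg hx

theorem sz_Nz_U_le (hm : 1 ≤ m) (hF : Fintype.card F = 2 ^ (2 * m + 1)) (h : HL.Sz.IsTits θ)
    (hθ : ∀ x, θ x = x ^ (2 ^ (m + 1))) : Nz (Usub h hθ) ≤ Nz (Zsub h hθ) := by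
  intro g hg
  rw [mem_Nz_iff_cj] at hg ⊢
  apply Subgroup.eq_of_le_of_card_ge
  · rintro _ ⟨x, hx, rfl⟩
    apply sz_mem_Z_of_sq h hθ
    · rw [← hg]; exact ⟨x, Zsub_le h hθ hx, rfl⟩
    · rw [← map_mul, sz_sq_of_Z h hθ hx, map_one]
  · rw [card_cj]

theorem sz_exists_ne (hm : 1 ≤ m) (hF : Fintype.card F = 2 ^ (2 * m + 1)) (h : HL.Sz.IsTits θ)
    (hθ : ∀ x, θ x = x ^ (2 ^ (m + 1))) : ∃ x ∈ Zsub h hθ, x ≠ 1 := by
  refine ⟨⟨U θ 0 1, U_mem h hθ _ _⟩, ⟨1, rfl⟩, ?_⟩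
  intro h1
  have h2 : U θ 0 1 = U θ 0 0 := by rw [U_zero]; exact congrArg Subtype.val h1
  exact one_ne_zero (U_inj h2).2

theorem sz_Nz_eq (hm : 1 ≤ m) (hF : Fintype.card F = 2 ^ (2 * m + 1)) (h : HL.Sz.IsTits θ)
    (hθ : ∀ x, θ x = x ^ (2 ^ (m + 1))) : Nz (Zsub h hθ) = Nz (Usub h hθ) := by
  refine le_antisymm ?_ (sz_Nz_U_le hm hF h hθ)
  intro g hg
  obtain ⟨x, hx, h1⟩ := sz_exists_ne hm hF h hθ
  rw [mem_Nz_iff_cj] at hg ⊢
  refine sz_ti hm hF h hθ (Zsub_le h hθ hx) h1 ?_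
  rw [← hg] at hx
  exact cj_mono (Zsub_le h hθ) hx

theorem sz_Y (hm : 1 ≤ m) (hF : Fintype.card F = 2 ^ (2 * m + 1)) (h : HL.Sz.IsTits θ)
    (hθ : ∀ x, θ x = x ^ (2 ^ (m + 1))) {Y : Subgroup (Cfsg.Sz F m)} (hY : IsElementaryAbelian 2 Y)
    (hc : Nat.card Y = Fintype.card F) : ∃ g, Y = cj g (Zsub h hθ) := by
  have : Fact (Nat.Prime 2) := ⟨Nat.prime_two⟩
  obtain ⟨g, -, hg⟩ := (sz_isSylowIn_U hm hF h hθ).exists_conj_le (ea_isPGroup hY) le_top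
  rw [cj_le_iff] at hg
  refine ⟨g⁻¹, ?_⟩
  apply Subgroup.eq_of_le_of_card_ge
  · intro y hy
    obtain ⟨u, hu, rfl⟩ := hg hy
    refine ⟨u, ?_, rfl⟩
    apply sz_mem_Z_of_sq h hθ hu
    have h2 := (ea_iff.1 hY).2 _ hy
    rw [sq, ← map_mul] at h2
    exact (MulAut.conj g⁻¹).injective (by rw [map_one]; exact h2)
  · rw [card_cj, card_Zsub hF, hc, hF]

/-- `N(U)` is transitive on `Z#`. -/
theorem sz_trans (hm : 1 ≤ m) (hF : Fintype.card F = 2 ^ (2 * m + 1)) (h : HL.Sz.IsTits θ)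
    (hθ : ∀ x, θ x = x ^ (2 ^ (m + 1))) {x y : Cfsg.Sz F m} (hx : x ∈ Zsub h hθ) (hx1 : x ≠ 1) (hy : y ∈ Zsub h hθ)
    (hy1 : y ≠ 1) : ∃ g ∈ Nz (Usub h hθ), g * x * g⁻¹ = y := by
  obtain ⟨b, hb⟩ := hx
  obtain ⟨c, hc⟩ := hy
  have hb0 : b ≠ 0 := by
    rintro rfl
    rw [U_zero] at hb
    exact hx1 (Subtype.ext hb)
  have hc0 : c ≠ 0 := by
    rintro rfl
    rw [U_zero] at hc
    exact hy1 (Subtype.ext hc)
  let φ : Fˣ → Fˣ := fun k => Units.map (θ : F →* F) k * k ^ 2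
  have hinj : Function.Injective φ := by
    intro k l hkl
    have h1 : θ (k * l⁻¹ : Fˣ).1 * (k * l⁻¹ : Fˣ).1 ^ 2 = 1 := by
      have h2 := congrArg Units.val (show φ k * (φ l)⁻¹ = 1 by rw [hkl, mul_inv_cancel])
      simp only [φ, Units.val_mul, Units.coe_map, MonoidHom.coe_coe, Units.val_pow_eq_pow_val, Units.val_one,
        mul_inv_rev] at h2
      rw [← h2]
      simp only [Units.val_mul, map_mul, Units.val_inv_eq_inv_val, map_inv₀, Units.val_pow_eq_pow_val, Units.coe_map,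
        MonoidHom.coe_coe]
      ring
    have h3 := h.eq_one_of_theta_mul_sq h1
    exact mul_inv_eq_one.1 (Units.ext h3)
  obtain ⟨k, hk⟩ := (Finite.surjective_of_injective hinj) (Units.mk0 (c / b) (div_ne_zero hc0 hb0))
  have hk' := congrArg Units.val hk
  simp only [φ, Units.val_mul, Units.coe_map, MonoidHom.coe_coe, Units.val_pow_eq_pow_val, Units.val_mk0] at hk'
  refine ⟨⟨D θ k, D_mem h hθ k⟩, ?_, ?_⟩
  · rw [mem_normalizer_Usub hm hF h hθ]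
    exact D_none θ k
  · apply Subtype.ext
    change D θ k * x.1 * (D θ k)⁻¹ = y.1
    rw [hb, hc, D_U h, mul_inv_cancel_right]
    congr 1
    · ring
    · rw [hk']; field_simp

theorem uq_sz' (hm : 1 ≤ m) (hF : Fintype.card F = 2 ^ (2 * m + 1)) {Y : Subgroup (Cfsg.Sz F m)} (hY : IsElementaryAbelian 2 Y)
    (hc : Nat.card Y = Fintype.card F) : Uq 2 Y := by
  have : Fact (Nat.Prime 2) := ⟨Nat.prime_two⟩
  obtain ⟨θ, h, hθ⟩ := exists_theta hF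
  obtain ⟨g, rfl⟩ := sz_Y hm hF h hθ hY hc
  intro V hVY hYV hV hV1
  have hN : Nz (cj g (Zsub h hθ)) = Nz (cj g (Usub h hθ)) := by
    rw [← cj_Nz, ← cj_Nz, sz_Nz_eq hm hF h hθ]
  have hS := (sz_isSylowIn_U hm hF h hθ).conj_top g
  have hVU : V ≤ cj g (Usub h hθ) := le_of_sylow hS (ea_isPGroup hV) (hVY.trans hN.le)
  have hVZ : V ≤ cj g (Zsub h hθ) := by
    intro y hy
    obtain ⟨u, hu, rfl⟩ := hVU hy
    refine ⟨u, ?_, rfl⟩
    apply sz_mem_Z_of_sq h hθ hu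
    have h2 := (ea_iff.1 hV).2 _ hy
    rw [sq, ← map_mul] at h2
    exact (MulAut.conj g).injective (by rw [map_one]; exact h2)
  apply le_antisymm hVZ
  obtain ⟨v, hv, hv1⟩ := (Subgroup.bot_or_exists_ne_one V).resolve_left hV1
  rintro _ ⟨y, hy, rfl⟩
  by_cases hy1 : y = 1
  · rw [hy1, map_one]; exact one_mem V
  obtain ⟨x, hx, rfl⟩ := hVZ hv
  have hx1 : x ≠ 1 := by rintro rfl; exact hv1 (map_one _)
  obtain ⟨k, hk, hk2⟩ := sz_trans hm hF h hθ hx hx1 hy hy1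
  have h4 : g * k * g⁻¹ ∈ Nz (cj g (Zsub h hθ)) := by
    rw [hN, ← cj_Nz]
    exact ⟨k, hk, rfl⟩
  have h5 := (Subgroup.mem_normalizer_iff.1 (hYV h4) _).1 hv
  have h6 : g * k * g⁻¹ * ((MulAut.conj g).toMonoidHom x) * (g * k * g⁻¹)⁻¹ = (MulAut.conj g).toMonoidHom y := by
    change g * k * g⁻¹ * (g * x * g⁻¹) * (g * k * g⁻¹)⁻¹ = g * y * g⁻¹
    rw [← hk2]; group
  rwa [h6] at h5

theorem uq_sz (hm : 1 ≤ m) (hF : Fintype.card F = 2 ^ (2 * m + 1)) {Y : Subgroup (Cfsg.Lie.Sz F (2 ^ (m + 1)))}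
    (hY : IsElementaryAbelian 2 Y) (hc : Nat.card Y = Fintype.card F) : Uq 2 Y := by
  apply Uq.congr (modelEquiv hm hF).symm
  apply uq_sz' hm hF (ea_map _ hY)
  rw [Subgroup.card_map_of_injective (modelEquiv hm hF).symm.injective, hc]

end Sz

end Cfsg.Agent.H17.FL
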