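import Cfsg.Agent.H17_FLM
import Cfsg.Agent.H17_FLSz

set_option autoImplicit false
set_option linter.unusedSectionVars false
set_option linter.unusedVariables false
open Cfsg Cfsg.Agent.H17.Base

namespace Cfsg.Agent.H17.FL

theorem INV.congr {K K' : Type*} [Group K] [Group K'] (e : K ≃* K') {Y : Subgroup K}
    (h : INV K' (Y.map e.toMonoidHom)) : INV K Y := by
  have hN : ∀ g : K, g ∈ Nz Y ↔ e g ∈ Nz (Y.map e.toMonoidHom) := by
    intro g
    have h1 : (Nz Y).map e.toMonoidHom = Nz (Y.map e.toMonoidHom) := Subgroup.map_equiv_normalizer_eq Y e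
    rw [← h1]
    constructor
    · intro hx; exact ⟨g, hx, rfl⟩
    · rintro ⟨x, hx, hx2⟩
      rwa [← e.injective hx2]
  have hcj : ∀ g : K, (cj g Y).map e.toMonoidHom = cj (e g) (Y.map e.toMonoidHom) := fun g => map_cj' _ _ _
  have hmem : ∀ (X : Subgroup K) (x : K), x ∈ X ↔ e x ∈ X.map e.toMonoidHom := by
    intro X x
    constructor
    · intro hx; exact ⟨x, hx, rfl⟩
    · rintro ⟨y, hy, hy2⟩
      rwa [← e.injective hy2]
  refine ⟨?_, ?_, ?_⟩
  · intro t h1 h2
    obtain ⟨g, hg⟩ := h.a (e t) (by rw [← map_mul, h1, map_one]) (by simpa using h2)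
    refine ⟨e.symm g, ?_⟩
    rw [hmem, hcj, e.apply_symm_apply]
    exact hg
  · intro t ht ht1 g hg
    rw [hN]
    apply h.b (e t) ((hmem _ _).1 ht) (by simpa using ht1)
    rw [← hcj]
    have h1 : (Nz (cj g Y)).map e.toMonoidHom = Nz ((cj g Y).map e.toMonoidHom) := Subgroup.map_equiv_normalizer_eq _ e
    rw [← h1]
    exact ⟨t, hg, rfl⟩
  · intro x h1 h2
    obtain ⟨t, ht, ht1, ht2⟩ := h.c (e x) (by simpa using h1) (by rwa [MulEquiv.orderOf_eq])
    refine ⟨e.symm t, ?_, ?_, ?_⟩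
    · rw [← map_mul, ht, map_one]
    · simpa using ht1
    · apply e.injective
      rw [map_mul, map_mul, map_inv, map_inv, e.apply_symm_apply]
      exact ht2

theorem isPGroup_zpowers_two {K : Type*} [Group K] {t : K} (ht : t * t = 1) : IsPGroup 2 (Subgroup.zpowers t) := by
  rintro ⟨x, hx⟩
  obtain ⟨n, rfl⟩ := Subgroup.mem_zpowers_iff.1 hx
  refine ⟨1, ?_⟩
  apply Subtype.ext
  change (t ^ n) ^ (2 ^ 1) = 1
  rw [pow_one, ← zpow_natCast, ← zpow_mul, mul_comm, zpow_mul]
  norm_num [sq, ht]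

/-- dihedral groups of order `2r` -/
theorem inv_dih {r : ℕ} (hr : r.Prime) (hr2 : r ≠ 2) {Y : Subgroup (DihedralGroup r)} (hY : IsPGroup 2 Y) (hY1 : Y ≠ ⊥) :
    INV (DihedralGroup r) Y := by
  have : Fact (Nat.Prime 2) := ⟨Nat.prime_two⟩
  have : NeZero r := ⟨hr.ne_zero⟩
  have hnd : ¬ 2 ∣ r := fun h2 => hr2 ((Nat.prime_dvd_prime_iff_eq Nat.prime_two hr).1 h2).symm
  have hK : Nat.card (DihedralGroup r) = 2 * r := DihedralGroup.nat_card
  have hcY := two_group_card hnd hK hY hY1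
  have hSY : IsSylowIn 2 Y ⊤ := by
    refine ⟨le_top, hY, ?_⟩
    intro Q _ hQ hYQ
    have hQ1 : Q ≠ ⊥ := fun h => hY1 (le_bot_iff.1 (hYQ.trans h.le))
    exact (Subgroup.eq_of_le_of_card_ge hYQ (by rw [two_group_card hnd hK hQ hQ1, hcY])).symm
  refine ⟨?_, ?_, ?_⟩
  · intro t ht ht1
    obtain ⟨g, -, hg⟩ := hSY.exists_conj_le (isPGroup_zpowers_two ht) le_top
    rw [cj_le_iff] at hg
    exact ⟨g⁻¹, hg (Subgroup.mem_zpowers t)⟩
  · intro t ht ht1 g hg
    have h1 : t * t = 1 := by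
      have h2 := pow_card_eq_one' (x := (⟨t, ht⟩ : Y))
      rw [hcY, sq] at h2
      exact congrArg Subtype.val h2
    have h2 : t ∈ cj g Y := by
      have h3 := le_of_sylow (hSY.conj_top g) (isPGroup_zpowers_two h1) (by rw [Subgroup.zpowers_le]; exact hg)
      exact h3 (Subgroup.mem_zpowers t)
    have h3 : Subgroup.zpowers t ≠ ⊥ := by rw [Ne, Subgroup.zpowers_eq_bot]; exact ht1
    have h4 := two_group_card hnd hK (isPGroup_zpowers_two h1) h3
    rw [mem_Nz_iff_cj]
    have h5 : Subgroup.zpowers t = cj g Y :=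
      Subgroup.eq_of_le_of_card_ge (by rw [Subgroup.zpowers_le]; exact h2) (by rw [card_cj, h4, hcY])
    have h6 : Subgroup.zpowers t = Y :=
      Subgroup.eq_of_le_of_card_ge (by rw [Subgroup.zpowers_le]; exact ht) (by rw [h4, hcY])
    rw [← h5, h6]
  · intro x hx1 hx2
    rcases x with i | i
    · refine ⟨DihedralGroup.sr 0, ?_, ?_, ?_⟩
      · rw [DihedralGroup.sr_mul_sr, sub_self]; rfl
      · intro h; rw [DihedralGroup.one_def] at h; cases h
      · simp
    · exfalso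
      rw [DihedralGroup.orderOf_sr] at hx2
      exact (by decide : ¬ Odd 2) hx2

section Sz
open Cfsg.Agent.HL.Sz Cfsg.Agent.HL.SzAbs

variable {F : Type*} [Field F] [Fintype F] {m : ℕ}

theorem inv_sz' (hm : 1 ≤ m) (hF : Fintype.card F = 2 ^ (2 * m + 1)) {Y : Subgroup (Cfsg.Sz F m)} (hY : IsElementaryAbelian 2 Y)
    (hc : Nat.card Y = Fintype.card F) : INV (Cfsg.Sz F m) Y := by
  have : Fact (Nat.Prime 2) := ⟨Nat.prime_two⟩
  obtain ⟨θ, h, hθ⟩ := exists_theta hF
  obtain ⟨g₀, rfl⟩ := sz_Y hm hF h hθ hY hc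
  have hSU := sz_isSylowIn_U hm hF h hθ
  -- involutions are conjugate into `Z`
  have hinv : ∀ t : Cfsg.Sz F m, t * t = 1 → ∃ g, g * t * g⁻¹ ∈ Zsub h hθ := by
    intro t ht
    obtain ⟨g, -, hg⟩ := hSU.exists_conj_le (isPGroup_zpowers_two ht) le_top
    refine ⟨g, sz_mem_Z_of_sq h hθ (hg ⟨t, Subgroup.mem_zpowers t, rfl⟩) ?_⟩
    change g * t * g⁻¹ * (g * t * g⁻¹) = 1
    rw [show g * t * g⁻¹ * (g * t * g⁻¹) = g * (t * t) * g⁻¹ by group, ht]; group
  refine ⟨?_, ?_, ?_⟩
  · intro t ht ht1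
    obtain ⟨g, hg⟩ := hinv t ht
    refine ⟨g⁻¹ * g₀⁻¹, ?_⟩
    rw [← cj_mul, inv_mul_cancel_right]
    exact ⟨_, hg, by change g⁻¹ * (g * t * g⁻¹) * g⁻¹⁻¹ = t; group⟩
  · intro t ht ht1 g hg
    obtain ⟨x, hx, rfl⟩ := ht
    have hx1 : x ≠ 1 := by rintro rfl; exact ht1 (map_one _)
    have hxU := Zsub_le h hθ hx
    rw [← cj_mul] at hg
    set k := g₀⁻¹ * g * g₀ with hk
    have hxk : x ∈ Nz (cj k (Usub h hθ)) := by
      rw [← cj_Nz, ← sz_Nz_eq hm hF h hθ]
      rw [← cj_Nz] at hg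
      obtain ⟨y, hy, hy2⟩ := hg
      refine ⟨y, hy, ?_⟩
      change g * g₀ * y * (g * g₀)⁻¹ = g₀ * x * g₀⁻¹ at hy2
      change k * y * k⁻¹ = x
      rw [hk]
      calc g₀⁻¹ * g * g₀ * y * (g₀⁻¹ * g * g₀)⁻¹ = g₀⁻¹ * (g * g₀ * y * (g * g₀)⁻¹) * g₀ := by group
        _ = x := by rw [hy2]; group
    have h2 : x ∈ cj k (Usub h hθ) := by
      have h3 := le_of_sylow (hSU.conj_top k) (isPGroup_zpowers_two (sz_sq_of_Z h hθ hx)) (by rw [Subgroup.zpowers_le]; exact hxk)
      exact h3 (Subgroup.mem_zpowers x)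
    have h3 := sz_ti hm hF h hθ hxU hx1 h2
    have h4 : k ∈ Nz (Zsub h hθ) := by
      rw [sz_Nz_eq hm hF h hθ, mem_Nz_iff_cj]; exact h3
    rw [← cj_Nz]
    exact ⟨k, h4, by change g₀ * k * g₀⁻¹ = g; rw [hk]; group⟩
  · intro x hx1 hxo
    rcases tri hm hF h hθ x with hf | ⟨g, hg⟩ | ⟨g, hg⟩
    · -- fixed point free elements
      let _ : Fintype (Cfsg.Sz F m) := Fintype.ofFinite _
      let _ := act hθ
      have H := zd hm hF h hθ
      set C := Subgroup.centralizer ({x} : Set (Cfsg.Sz F m)) with hC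
      have hcard : Nat.card (Nz C) = 4 * Nat.card C := H.card_norm hf
      have hcyc := H.cyc_fpf hf
      have hCodd : Odd (Nat.card C) := by
        have hr : 2 ^ (m + 1) * 2 ^ (m + 1) = 2 * 2 ^ (2 * m + 1) := by
          rw [← pow_add, ← pow_succ']; congr 1; omega
        have h1 := (H.card_cent hr hf).1
        have h2 : Odd ((2 ^ (2 * m + 1)) ^ 2 + 1) := Nat.coprime_two_right.mp H.cop2
        rw [← Nat.not_even_iff_odd]
        intro hev
        obtain ⟨⟨z, hz⟩, hz2⟩ := exists_prime_orderOf_dvd_card' (G := C) 2 hev.two_dvd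
        have hzz : z * z = 1 := by
          have := pow_orderOf_eq_one (⟨z, hz⟩ : C)
          rw [hz2, sq] at this
          exact congrArg Subtype.val this
        have hz1 : z ≠ 1 := by
          rintro rfl
          have : (⟨1, hz⟩ : C) = 1 := rfl
          rw [this, orderOf_one] at hz2
          omega
        -- `x` centralizes an involution so it is a 2-element
        obtain ⟨g, hg⟩ := hinv z hzz
        have hg1 : g * z * g⁻¹ ≠ 1 := by
          intro h3
          apply hz1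
          calc z = g⁻¹ * (g * z * g⁻¹) * g := by group
            _ = 1 := by rw [h3]; group
        have h4 := cent_Usub hm hF h hθ _ (Zsub_le h hθ hg) hg1
        have h5 : g * x * g⁻¹ ∈ Usub h hθ := by
          apply h4
          rw [mem_cent]
          have h6 : z * x = x * z := (mem_cent.1 hz)
          calc g * x * g⁻¹ * (g * z * g⁻¹) = g * (x * z) * g⁻¹ := by group
            _ = g * z * g⁻¹ * (g * x * g⁻¹) := by rw [← h6]; group
        obtain ⟨j, hj⟩ := hSU.isPGroup ⟨_, h5⟩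
        have h7 : (g * x * g⁻¹) ^ 2 ^ j = 1 := congrArg Subtype.val hj
        rw [conj_pow] at h7
        have h8 : x ^ 2 ^ j = 1 := by
          calc x ^ 2 ^ j = g⁻¹ * (g * x ^ 2 ^ j * g⁻¹) * g := by group
            _ = 1 := by rw [h7]; group
        have h9 : orderOf x ∣ 2 ^ j := orderOf_dvd_of_pow_eq_one h8
        have h10 : Nat.Coprime (orderOf x) (2 ^ j) := (Nat.coprime_two_right.2 hxo).pow_right j
        exact hx1 (orderOf_eq_one_iff.1 (Nat.Coprime.eq_one_of_dvd h10 h9))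
      obtain ⟨⟨t, ht⟩, ht2⟩ := exists_prime_orderOf_dvd_card' (G := Nz C) 2 (by rw [hcard]; exact ⟨2 * Nat.card C, by ring⟩)
      have htt : t * t = 1 := by
        have := pow_orderOf_eq_one (⟨t, ht⟩ : Nz C)
        rw [ht2, sq] at this
        exact congrArg Subtype.val this
      have ht1 : t ≠ 1 := by
        rintro rfl
        have : (⟨1, ht⟩ : Nz C) = 1 := rfl
        rw [this, orderOf_one] at ht2
        omega
      refine ⟨t, htt, ht1, ?_⟩
      have hxC : x ∈ C := by rw [hC, mem_cent]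
      have h1 : t * x * t⁻¹ ∈ C := (Subgroup.mem_normalizer_iff.1 ht x).1 hxC
      set y := t * x * t⁻¹ * x with hy
      have hyC : y ∈ C := mul_mem h1 hxC
      have hcomm : t * x * t⁻¹ * x = x * (t * x * t⁻¹) := mem_cent.1 h1
      have hti : t⁻¹ = t := inv_eq_of_mul_eq_one_left htt
      have hty : t * y = y * t := by
        have h2 : t * y * t⁻¹ = y := by
          calc t * y * t⁻¹ = (t * t) * x * t⁻¹ * x * t⁻¹ := by rw [hy]; group
            _ = x * (t * x * t⁻¹) := by rw [htt, hti]; group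
            _ = y := by rw [← hcomm]
        calc t * y = (t * y * t⁻¹) * t := by group
          _ = y * t := by rw [h2]
      -- so `y = 1`
      have hy1 : y = 1 := by
        obtain ⟨g, hg⟩ := hinv t htt
        have hg1 : g * t * g⁻¹ ≠ 1 := by
          intro h3
          apply ht1
          calc t = g⁻¹ * (g * t * g⁻¹) * g := by group
            _ = 1 := by rw [h3]; group
        have h4 := cent_Usub hm hF h hθ _ (Zsub_le h hθ hg) hg1
        have h5 : g * y * g⁻¹ ∈ Usub h hθ := by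
          apply h4
          rw [mem_cent]
          calc g * y * g⁻¹ * (g * t * g⁻¹) = g * (y * t) * g⁻¹ := by group
            _ = g * t * g⁻¹ * (g * y * g⁻¹) := by rw [← hty]; group
        obtain ⟨j, hj⟩ := hSU.isPGroup ⟨_, h5⟩
        have h7 : (g * y * g⁻¹) ^ 2 ^ j = 1 := congrArg Subtype.val hj
        rw [conj_pow] at h7
        have h8 : y ^ 2 ^ j = 1 := by
          calc y ^ 2 ^ j = g⁻¹ * (g * y ^ 2 ^ j * g⁻¹) * g := by group
            _ = 1 := by rw [h7]; group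
        have h9 : orderOf y ∣ 2 ^ j := orderOf_dvd_of_pow_eq_one h8
        have h10 : orderOf y ∣ Nat.card C := Subgroup.orderOf_dvd_natCard _ hyC
        have h11 : Nat.Coprime (Nat.card C) (2 ^ j) := (Nat.coprime_two_right.2 hCodd).pow_right j
        have h12 : orderOf y = 1 := Nat.eq_one_of_dvd_coprimes h11 h10 h9
        exact orderOf_eq_one_iff.1 h12
      exact eq_inv_of_mul_eq_one_left hy1
    · exfalso
      obtain ⟨j, hj⟩ := hSU.isPGroup ⟨_, hg⟩
      have h7 : (g⁻¹ * x * g) ^ 2 ^ j = 1 := congrArg Subtype.val hj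
      have h8 : x ^ 2 ^ j = 1 := by
        have e : x = g * (g⁻¹ * x * g) * g⁻¹ := by group
        rw [e, conj_pow, h7]; group
      have h9 : orderOf x ∣ 2 ^ j := orderOf_dvd_of_pow_eq_one h8
      have h10 : Nat.Coprime (orderOf x) (2 ^ j) := (Nat.coprime_two_right.2 hxo).pow_right j
      exact hx1 (orderOf_eq_one_iff.1 (Nat.Coprime.eq_one_of_dvd h10 h9))
    · obtain ⟨k, hk⟩ := (mem_Dsub h hθ _).1 hg
      let w : Cfsg.Sz F m := ⟨W F, W_mem h hθ⟩
      have hww : w * w = 1 := Subtype.ext W_mul_W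
      have hwi : w⁻¹ = w := inv_eq_of_mul_eq_one_left hww
      have hw1 : w ≠ 1 := by
        intro h3
        have h4 : W F = 1 := congrArg Subtype.val h3
        have h5 := congrArg (fun M : Matrix.SpecialLinearGroup (Fin 4) F => M.1 0 0) h4
        simp [W, Wmat] at h5
      have hwd : w * (g⁻¹ * x * g) * w⁻¹ = (g⁻¹ * x * g)⁻¹ := by
        rw [hwi]
        apply Subtype.ext
        change W F * (g⁻¹ * x * g).1 * W F = ((g⁻¹ * x * g).1)⁻¹
        rw [hk, W_D, mul_assoc, W_mul_W, mul_one, D_inv]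
      refine ⟨g * w * g⁻¹, ?_, ?_, ?_⟩
      · calc g * w * g⁻¹ * (g * w * g⁻¹) = g * (w * w) * g⁻¹ := by group
          _ = 1 := by rw [hww]; group
      · intro h3
        apply hw1
        calc w = g⁻¹ * (g * w * g⁻¹) * g := by group
          _ = 1 := by rw [h3]; group
      · calc g * w * g⁻¹ * x * (g * w * g⁻¹)⁻¹ = g * (w * (g⁻¹ * x * g) * w⁻¹) * g⁻¹ := by group
          _ = x⁻¹ := by rw [hwd]; group

theorem inv_sz (hm : 1 ≤ m) (hF : Fintype.card F = 2 ^ (2 * m + 1)) {Y : Subgroup (Cfsg.Lie.Sz F (2 ^ (m + 1)))}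
    (hY : IsElementaryAbelian 2 Y) (hc : Nat.card Y = Fintype.card F) : INV (Cfsg.Lie.Sz F (2 ^ (m + 1))) Y := by
  apply INV.congr (modelEquiv hm hF).symm
  apply inv_sz' hm hF (ea_map _ hY)
  rw [Subgroup.card_map_of_injective (modelEquiv hm hF).symm.injective, hc]

end Sz

end Cfsg.Agent.H17.FL
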