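import Mathlib
import Cfsg.Agent.H5_SL2
import Cfsg.Agent.H18_Dickson

set_option autoImplicit false

namespace Cfsg.Agent.H17.SLMod

open Cfsg.Agent.H5.SL2 Cfsg.Agent.H18.Dickson

variable {F : Type*} [Field F] {E : Type*} [Ring E]

/-- the Weyl elements `u(t) l(-1/t) u(t)` -/
def ww (t : F) : S F := u t * l (-t⁻¹) * u t

theorem ww_mul (t : F) (ht : t ≠ 0) : ww t * ww (-1) = d (Units.mk0 t ht) := by
  apply ext2 <;> simp [ww, mul00, mul01, mul10, mul11, ht]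

theorem ww_conj_u (t : F) (ht : t ≠ 0) (x : F) : ww t * u x * (ww t)⁻¹ = l (-(x * (t⁻¹ * t⁻¹))) := by
  rw [mul_inv_eq_iff_eq_mul]
  apply ext2 <;> simp [ww, mul00, mul01, mul10, mul11, ht] <;> field_simp

theorem ww_conj_l (t : F) (ht : t ≠ 0) (x : F) : ww t * l x * (ww t)⁻¹ = u (-(x * (t * t))) := by
  rw [mul_inv_eq_iff_eq_mul]
  apply ext2 <;> simp [ww, mul00, mul01, mul10, mul11, ht] <;> field_simp

/-- the data of the ring lemma -/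
structure RD (ψ : S F →* E) (e₁ e₂ : E) : Prop where
  add : e₁ + e₂ = 1
  z12 : e₁ * e₂ = 0
  z21 : e₂ * e₁ = 0
  hu : ∀ t, ψ (u t) - 1 = e₁ * (ψ (u t) - 1) * e₂
  hl : ∀ t, ψ (l t) - 1 = e₂ * (ψ (l t) - 1) * e₁
  w1 : ∀ t : F, t ≠ 0 → e₁ * ψ (ww t) * e₁ = 0
  w2 : ∀ t : F, t ≠ 0 → e₂ * ψ (ww t) * e₂ = 0

namespace RD
variable {ψ : S F →* E} {e₁ e₂ : E}

/-- the off-diagonal parts -/
def b (ψ : S F →* E) (t : F) : E := ψ (u t) - 1
def c (ψ : S F →* E) (t : F) : E := ψ (l t) - 1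

theorem psi_u (ψ : S F →* E) (t : F) : ψ (u t) = 1 + b ψ t := by unfold b; abel
theorem psi_l (ψ : S F →* E) (t : F) : ψ (l t) = 1 + c ψ t := by unfold c; abel

variable (h : RD ψ e₁ e₂)
include h

theorem e11 : e₁ * e₁ = e₁ := by
  have := congrArg (e₁ * ·) h.add
  simp only [mul_add, h.z12, add_zero, mul_one] at this
  exact this

theorem e22 : e₂ * e₂ = e₂ := by
  have := congrArg (e₂ * ·) h.add
  simp only [mul_add, h.z21, zero_add, mul_one] at this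
  exact this

theorem e1b (t : F) : e₁ * b ψ t = b ψ t := by
  conv_rhs => rw [b, h.hu]
  conv_lhs => rw [b, h.hu]
  rw [← mul_assoc, ← mul_assoc, h.e11]

theorem be2 (t : F) : b ψ t * e₂ = b ψ t := by
  conv_rhs => rw [b, h.hu]
  conv_lhs => rw [b, h.hu]
  rw [mul_assoc, h.e22]

theorem be1 (t : F) : b ψ t * e₁ = 0 := by rw [← h.be2, mul_assoc, h.z21, mul_zero]
theorem e2b (t : F) : e₂ * b ψ t = 0 := by rw [← h.e1b, ← mul_assoc, h.z21, zero_mul]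

theorem e2c (t : F) : e₂ * c ψ t = c ψ t := by
  conv_rhs => rw [c, h.hl]
  conv_lhs => rw [c, h.hl]
  rw [← mul_assoc, ← mul_assoc, h.e22]

theorem ce1 (t : F) : c ψ t * e₁ = c ψ t := by
  conv_rhs => rw [c, h.hl]
  conv_lhs => rw [c, h.hl]
  rw [mul_assoc, h.e11]

theorem ce2 (t : F) : c ψ t * e₂ = 0 := by rw [← h.ce1, mul_assoc, h.z12, mul_zero]
theorem e1c (t : F) : e₁ * c ψ t = 0 := by rw [← h.e2c, ← mul_assoc, h.z12, zero_mul]

theorem bb (s t : F) : b ψ s * b ψ t = 0 := by rw [← h.be2 s, mul_assoc, h.e2b, mul_zero]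
theorem cc (s t : F) : c ψ s * c ψ t = 0 := by rw [← h.ce1 s, mul_assoc, h.e1c, mul_zero]

theorem b_add (s t : F) : b ψ (s + t) = b ψ s + b ψ t := by
  have h1 : ψ (u (s + t)) = ψ (u s) * ψ (u t) := by rw [← map_mul, u_mul]
  rw [psi_u, psi_u, psi_u] at h1
  have h2 : (1 + b ψ s) * (1 + b ψ t) = 1 + (b ψ s + b ψ t) + b ψ s * b ψ t := by noncomm_ring
  rw [h2, h.bb, add_zero] at h1
  exact add_left_cancel h1

theorem c_add (s t : F) : c ψ (s + t) = c ψ s + c ψ t := by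
  have h1 : ψ (l (s + t)) = ψ (l s) * ψ (l t) := by rw [← map_mul, l_mul]
  rw [psi_l, psi_l, psi_l] at h1
  have h2 : (1 + c ψ s) * (1 + c ψ t) = 1 + (c ψ s + c ψ t) + c ψ s * c ψ t := by noncomm_ring
  rw [h2, h.cc, add_zero] at h1
  exact add_left_cancel h1

omit h in
theorem b_zero : b ψ 0 = 0 := by rw [b, u_zero, map_one, sub_self]
omit h in
theorem c_zero : c ψ 0 = 0 := by rw [c, l_zero, map_one, sub_self]

theorem b_neg (t : F) : b ψ (-t) = -b ψ t := by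
  have := h.b_add (-t) t
  rw [neg_add_cancel, b_zero] at this
  exact eq_neg_of_add_eq_zero_left this.symm

theorem c_neg (t : F) : c ψ (-t) = -c ψ t := by
  have := h.c_add (-t) t
  rw [neg_add_cancel, c_zero] at this
  exact eq_neg_of_add_eq_zero_left this.symm

omit h in
theorem psi_ww (ψ : S F →* E) (t : F) : ψ (ww t) = (1 + b ψ t) * (1 + c ψ (-t⁻¹)) * (1 + b ψ t) := by
  rw [ww, map_mul, map_mul, psi_u, psi_l]

theorem bc (t : F) (ht : t ≠ 0) : b ψ t * c ψ t⁻¹ = e₁ := by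
  have h1 := h.w1 t ht
  rw [psi_ww] at h1
  have h2 : e₁ * ((1 + b ψ t) * (1 + c ψ (-t⁻¹)) * (1 + b ψ t)) * e₁ =
      e₁ * e₁ + e₁ * (b ψ t * e₁) + e₁ * (b ψ t * e₁) + (e₁ * c ψ (-t⁻¹)) * e₁ + (e₁ * b ψ t) * (c ψ (-t⁻¹) * e₁)
      + e₁ * (b ψ t * b ψ t) * e₁ + (e₁ * c ψ (-t⁻¹)) * (b ψ t * e₁) + e₁ * b ψ t * c ψ (-t⁻¹) * (b ψ t * e₁) := by
    noncomm_ring
  rw [h2, h.e11, h.be1, h.e1c, h.e1b, h.ce1, h.bb, h.c_neg] at h1
  simp only [mul_zero, zero_mul, add_zero, mul_neg] at h1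
  exact (add_neg_eq_zero.1 h1).symm

theorem cb (t : F) (ht : t ≠ 0) : c ψ t⁻¹ * b ψ t = e₂ := by
  have h1 := h.w2 t ht
  rw [psi_ww] at h1
  have h2 : e₂ * ((1 + b ψ t) * (1 + c ψ (-t⁻¹)) * (1 + b ψ t)) * e₂ =
      e₂ * e₂ + (e₂ * b ψ t) * e₂ + (e₂ * b ψ t) * e₂ + e₂ * (c ψ (-t⁻¹) * e₂) + (e₂ * b ψ t) * (c ψ (-t⁻¹) * e₂)
      + e₂ * (b ψ t * b ψ t) * e₂ + (e₂ * c ψ (-t⁻¹)) * (b ψ t * e₂) + (e₂ * b ψ t) * c ψ (-t⁻¹) * b ψ t * e₂ := by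
    noncomm_ring
  rw [h2, h.e22, h.ce2, h.e2b, h.e2c, h.be2, h.bb, h.c_neg] at h1
  simp only [mul_zero, zero_mul, add_zero, neg_mul] at h1
  exact (add_neg_eq_zero.1 h1).symm

theorem bc' (t : F) (ht : t ≠ 0) : b ψ t⁻¹ * c ψ t = e₁ := by
  have := h.bc t⁻¹ (inv_ne_zero ht)
  rwa [inv_inv] at this

theorem cb' (t : F) (ht : t ≠ 0) : c ψ t * b ψ t⁻¹ = e₂ := by
  have := h.cb t⁻¹ (inv_ne_zero ht)
  rwa [inv_inv] at this

theorem psi_ww' (t : F) (ht : t ≠ 0) : ψ (ww t) = b ψ t - c ψ t⁻¹ := by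
  rw [psi_ww, h.c_neg]
  have h2 : (1 + b ψ t) * (1 + -c ψ t⁻¹) * (1 + b ψ t) = 1 + 2 * b ψ t - c ψ t⁻¹ - b ψ t * c ψ t⁻¹
      - c ψ t⁻¹ * b ψ t + b ψ t * b ψ t - b ψ t * c ψ t⁻¹ * b ψ t := by noncomm_ring
  rw [h2, h.bc t ht, h.cb t ht, h.bb, h.e1b, ← h.add]
  noncomm_ring

/-- `ρ(t) = b(t) c(1)` -/
def rho (ψ : S F →* E) (t : F) : E := b ψ t * c ψ 1
def sig (ψ : S F →* E) (t : F) : E := c ψ t * b ψ 1

theorem psi_d (t : F) (ht : t ≠ 0) : ψ (d (Units.mk0 t ht)) = rho ψ t + sig ψ t⁻¹ := by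
  rw [← ww_mul, map_mul, h.psi_ww' t ht, h.psi_ww' (-1) (by simp), rho, sig]
  rw [inv_neg, inv_one, h.b_neg, h.c_neg]
  have : (b ψ t - c ψ t⁻¹) * (-b ψ 1 - -c ψ 1) = b ψ t * c ψ 1 + c ψ t⁻¹ * b ψ 1 - b ψ t * b ψ 1 - c ψ t⁻¹ * c ψ 1 := by
    noncomm_ring
  rw [this, h.bb, h.cc]
  simp

theorem rho_add (s t : F) : rho ψ (s + t) = rho ψ s + rho ψ t := by
  rw [rho, rho, rho, h.b_add, add_mul]

omit h in
theorem rho_zero : rho ψ 0 = 0 := by rw [rho, b_zero, zero_mul]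

theorem rho_one : rho ψ 1 = e₁ := by
  have := h.bc 1 one_ne_zero
  rwa [inv_one] at this

theorem c1b1 : c ψ 1 * b ψ 1 = e₂ := by
  have := h.cb 1 one_ne_zero
  rwa [inv_one] at this

theorem rho_mul (s t : F) : rho ψ s * rho ψ t = rho ψ (s * t) := by
  by_cases hs : s = 0
  · rw [hs, rho_zero, zero_mul, zero_mul, rho_zero]
  by_cases ht : t = 0
  · rw [ht, rho_zero, mul_zero, mul_zero, rho_zero]
  have h1 : ψ (d (Units.mk0 s hs)) * ψ (d (Units.mk0 t ht)) = ψ (d (Units.mk0 (s * t) (mul_ne_zero hs ht))) := by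
    rw [← map_mul, d_mul]
    congr 2
    ext; simp
  rw [h.psi_d, h.psi_d, h.psi_d] at h1
  have h2 := congrArg (e₁ * ·) h1
  simp only [rho, sig] at h2 ⊢
  have e1 : e₁ * ((b ψ s * c ψ 1 + c ψ s⁻¹ * b ψ 1) * (b ψ t * c ψ 1 + c ψ t⁻¹ * b ψ 1)) =
      (e₁ * b ψ s) * c ψ 1 * (b ψ t * c ψ 1) + (e₁ * b ψ s) * (c ψ 1 * c ψ t⁻¹) * b ψ 1 +
      (e₁ * c ψ s⁻¹) * b ψ 1 * (b ψ t * c ψ 1 + c ψ t⁻¹ * b ψ 1) := by noncomm_ring
  have e2 : e₁ * (b ψ (s * t) * c ψ 1 + c ψ (s * t)⁻¹ * b ψ 1) = (e₁ * b ψ (s * t)) * c ψ 1 +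
      (e₁ * c ψ (s * t)⁻¹) * b ψ 1 := by noncomm_ring
  rw [e1, e2, h.e1b, h.e1c, h.e1c, h.cc, h.e1b] at h2
  simpa using h2

theorem c_eq (t : F) : c ψ 1 * rho ψ t = c ψ t := by
  by_cases ht : t = 0
  · rw [ht, rho_zero, mul_zero, c_zero]
  have h1 : b ψ t⁻¹ * (c ψ t - c ψ 1 * rho ψ t) = 0 := by
    rw [mul_sub, h.bc' t ht, ← mul_assoc]
    change e₁ - rho ψ t⁻¹ * rho ψ t = 0
    rw [h.rho_mul, inv_mul_cancel₀ ht, h.rho_one, sub_self]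
  have h2 := congrArg (c ψ t * ·) h1
  simp only [mul_zero] at h2
  rw [← mul_assoc, h.cb' t ht, mul_sub, h.e2c, ← mul_assoc, h.e2c, sub_eq_zero] at h2
  exact h2.symm

theorem b_eq (t : F) : rho ψ t * b ψ 1 = b ψ t := by
  rw [rho, mul_assoc, h.c1b1, h.be2]

/-- the ring homomorphism `M₂(F) → E` -/
def Psi (ψ : S F →* E) (M : Matrix (Fin 2) (Fin 2) F) : E :=
  rho ψ (M 0 0) + rho ψ (M 0 1) * b ψ 1 + c ψ 1 * rho ψ (M 1 0) + c ψ 1 * rho ψ (M 1 1) * b ψ 1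

theorem rho_e1 (t : F) : rho ψ t * e₁ = rho ψ t := by rw [rho, mul_assoc, h.ce1]
theorem e1_rho (t : F) : e₁ * rho ψ t = rho ψ t := by rw [rho, ← mul_assoc, h.e1b]
theorem rho_c (s : F) : rho ψ s * c ψ 1 = 0 := by rw [rho, mul_assoc, h.cc, mul_zero]
theorem b_rho (s : F) : b ψ 1 * rho ψ s = 0 := by rw [rho, ← mul_assoc, h.bb, zero_mul]
theorem b1c1 : b ψ 1 * c ψ 1 = e₁ := h.rho_one

theorem Psi_mul (M N : Matrix (Fin 2) (Fin 2) F) : Psi ψ (M * N) = Psi ψ M * Psi ψ N := by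
  have h00 : (M * N) 0 0 = M 0 0 * N 0 0 + M 0 1 * N 1 0 := by simp [Matrix.mul_apply, Fin.sum_univ_two]
  have h01 : (M * N) 0 1 = M 0 0 * N 0 1 + M 0 1 * N 1 1 := by simp [Matrix.mul_apply, Fin.sum_univ_two]
  have h10 : (M * N) 1 0 = M 1 0 * N 0 0 + M 1 1 * N 1 0 := by simp [Matrix.mul_apply, Fin.sum_univ_two]
  have h11 : (M * N) 1 1 = M 1 0 * N 0 1 + M 1 1 * N 1 1 := by simp [Matrix.mul_apply, Fin.sum_univ_two]
  unfold Psi
  rw [h00, h01, h10, h11]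
  simp only [h.rho_add, ← h.rho_mul]
  generalize M 0 0 = a; generalize M 0 1 = a1; generalize M 1 0 = a2; generalize M 1 1 = a3
  generalize N 0 0 = n; generalize N 0 1 = n1; generalize N 1 0 = n2; generalize N 1 1 = n3
  have r1 : ∀ x y : F, rho ψ x * (rho ψ y * b ψ 1) = rho ψ x * rho ψ y * b ψ 1 := fun x y => (mul_assoc _ _ _).symm
  have r2 : ∀ x y : F, rho ψ x * b ψ 1 * (c ψ 1 * rho ψ y) = rho ψ x * rho ψ y := by
    intro x y
    rw [mul_assoc, ← mul_assoc (b ψ 1), h.b1c1, h.e1_rho]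
  have r3 : ∀ x y : F, rho ψ x * (c ψ 1 * rho ψ y) = 0 := by
    intro x y; rw [← mul_assoc, h.rho_c, zero_mul]
  have r4 : ∀ x y : F, rho ψ x * b ψ 1 * rho ψ y = 0 := by
    intro x y; rw [mul_assoc, h.b_rho, mul_zero]
  have expand : (rho ψ a + rho ψ a1 * b ψ 1 + c ψ 1 * rho ψ a2 + c ψ 1 * rho ψ a3 * b ψ 1) *
      (rho ψ n + rho ψ n1 * b ψ 1 + c ψ 1 * rho ψ n2 + c ψ 1 * rho ψ n3 * b ψ 1) =
      rho ψ a * rho ψ n + rho ψ a * rho ψ n1 * b ψ 1 + rho ψ a * (c ψ 1 * rho ψ n2) + rho ψ a * (c ψ 1 * rho ψ n3) * b ψ 1 +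
      (rho ψ a1 * b ψ 1 * rho ψ n + rho ψ a1 * b ψ 1 * rho ψ n1 * b ψ 1 + rho ψ a1 * b ψ 1 * (c ψ 1 * rho ψ n2) +
        rho ψ a1 * b ψ 1 * (c ψ 1 * rho ψ n3) * b ψ 1) +
      (c ψ 1 * (rho ψ a2 * rho ψ n) + c ψ 1 * (rho ψ a2 * rho ψ n1) * b ψ 1 + c ψ 1 * (rho ψ a2 * (c ψ 1 * rho ψ n2)) +
        c ψ 1 * (rho ψ a2 * (c ψ 1 * rho ψ n3)) * b ψ 1) +
      (c ψ 1 * (rho ψ a3 * b ψ 1 * rho ψ n) + c ψ 1 * (rho ψ a3 * b ψ 1 * rho ψ n1) * b ψ 1 +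
        c ψ 1 * (rho ψ a3 * b ψ 1 * (c ψ 1 * rho ψ n2)) + c ψ 1 * (rho ψ a3 * b ψ 1 * (c ψ 1 * rho ψ n3)) * b ψ 1) := by
    noncomm_ring
  rw [expand]
  simp only [r2, r3, r4, mul_zero, zero_mul, add_zero, zero_add]
  noncomm_ring

theorem Psi_sub (M N : Matrix (Fin 2) (Fin 2) F) : Psi ψ (M - N) = Psi ψ M - Psi ψ N := by
  have hs : ∀ s t : F, rho ψ (s - t) = rho ψ s - rho ψ t := by
    intro s t
    have := h.rho_add (s - t) t
    rw [sub_add_cancel] at this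
    rw [this]; abel
  unfold Psi
  simp only [Matrix.sub_apply, hs]
  noncomm_ring

theorem Psi_one : Psi ψ 1 = 1 := by
  unfold Psi
  simp only [Matrix.one_apply_eq, Matrix.one_apply_ne (show (0 : Fin 2) ≠ 1 by decide), Matrix.one_apply_ne (show (1 : Fin 2) ≠ 0 by decide), rho_zero, h.rho_one, zero_mul, mul_zero, add_zero]
  rw [h.ce1, h.c1b1, h.add]

theorem Psi_eq (g : S F) : Psi ψ g.1 = ψ g := by
  have h1 : g ∈ Subgroup.closure (Set.range (u (F := F)) ∪ Set.range (l (F := F))) := by rw [closure_ul]; trivial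
  have hu : ∀ t : F, Psi ψ (u t).1 = ψ (u t) := by
    intro t
    rw [psi_u]
    have e00 : (u t).1 0 0 = 1 := rfl
    have e01 : (u t).1 0 1 = t := rfl
    have e10 : (u t).1 1 0 = 0 := rfl
    have e11 : (u t).1 1 1 = 1 := rfl
    unfold Psi
    rw [e00, e01, e10, e11, h.rho_one, rho_zero, h.b_eq, h.ce1, h.c1b1, ← h.add]
    noncomm_ring
  have hl : ∀ t : F, Psi ψ (l t).1 = ψ (l t) := by
    intro t
    rw [psi_l]
    have e00 : (l t).1 0 0 = 1 := rfl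
    have e01 : (l t).1 0 1 = 0 := rfl
    have e10 : (l t).1 1 0 = t := rfl
    have e11 : (l t).1 1 1 = 1 := rfl
    unfold Psi
    rw [e00, e01, e10, e11, h.rho_one, rho_zero, h.c_eq, h.ce1, h.c1b1, ← h.add]
    noncomm_ring
  refine Subgroup.closure_induction (p := fun g _ => Psi ψ g.1 = ψ g) ?_ ?_ ?_ ?_ h1
  · rintro x (⟨t, rfl⟩ | ⟨t, rfl⟩)
    · exact hu t
    · exact hl t
  · rw [map_one]; exact h.Psi_one
  · intro x y _ _ hx hy
    rw [map_mul, Matrix.SpecialLinearGroup.coe_mul, h.Psi_mul, hx, hy]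
  · intro x _ hx
    have h3 : Psi ψ (x⁻¹).1 * ψ x = 1 := by
      rw [← hx, ← h.Psi_mul, ← Matrix.SpecialLinearGroup.coe_mul, inv_mul_cancel]
      exact h.Psi_one
    have h4 : ψ x * ψ x⁻¹ = 1 := by rw [← map_mul, mul_inv_cancel, map_one]
    calc Psi ψ (x⁻¹).1 = Psi ψ (x⁻¹).1 * (ψ x * ψ x⁻¹) := by rw [h4, mul_one]
      _ = ψ x⁻¹ := by rw [← mul_assoc, h3, one_mul]

/-- **Main ring lemma.** -/
theorem main (g : S F) (hg : tr g ≠ 2) : ∃ x : E, x * (ψ g - 1) = 1 := by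
  have hd : (g.1 - 1).det ≠ 0 := by
    rw [Matrix.det_fin_two]
    have h1 := det_eq g
    simp only [Matrix.sub_apply, Matrix.one_apply_eq, Matrix.one_apply_ne (show (0 : Fin 2) ≠ 1 by decide),
      Matrix.one_apply_ne (show (1 : Fin 2) ≠ 0 by decide)]
    intro h2
    apply hg
    unfold tr
    linear_combination h1 - h2
  refine ⟨Psi ψ ((g.1 - 1)⁻¹), ?_⟩
  rw [← h.Psi_eq, ← h.Psi_one, ← h.Psi_sub, ← h.Psi_mul, Matrix.nonsing_inv_mul _ (isUnit_iff_ne_zero.2 hd)]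

end RD

theorem slmod {W : Type*} [AddCommGroup W] (ψ : S F →* Module.End ℤ W) (W₁ W₂ : Submodule ℤ W) (hc : IsCompl W₁ W₂)
    (hu1 : ∀ x, ∀ w ∈ W₁, ψ (u x) w = w) (hu : ∀ x w, ψ (u x) w - w ∈ W₁)
    (hl2 : ∀ x, ∀ w ∈ W₂, ψ (l x) w = w) (hl : ∀ x w, ψ (l x) w - w ∈ W₂)
    (hf1 : ∀ w, (∀ x, ψ (u x) w = w) → w ∈ W₁) (hf2 : ∀ w, (∀ x, ψ (l x) w = w) → w ∈ W₂)
    (g : S F) (hg : tr g ≠ 2) (w : W) (hw : ψ g w = w) : w = 0 := by
  set e₁ := W₁.projection W₂ hc with he₁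
  set e₂ := W₂.projection W₁ hc.symm with he₂
  have hadd : ∀ w : W, e₁ w + e₂ w = w := fun w => Submodule.projection_add_projection_eq_self hc w
  have m1 : ∀ w, e₁ w ∈ W₁ := fun w => Submodule.projection_apply_mem hc w
  have m2 : ∀ w, e₂ w ∈ W₂ := fun w => Submodule.projection_apply_mem hc.symm w
  have f1 : ∀ w ∈ W₁, e₁ w = w := fun w hw => Submodule.projection_apply_of_mem_left hc hw
  have f2 : ∀ w ∈ W₂, e₂ w = w := fun w hw => Submodule.projection_apply_of_mem_left hc.symm hw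
  have z1 : ∀ w ∈ W₂, e₁ w = 0 := fun w hw => (Submodule.projection_apply_eq_zero_iff hc).2 hw
  have z2 : ∀ w ∈ W₁, e₂ w = 0 := fun w hw => (Submodule.projection_apply_eq_zero_iff hc.symm).2 hw
  have h : RD ψ e₁ e₂ := by
    refine ⟨?_, ?_, ?_, ?_, ?_, ?_, ?_⟩
    · ext w
      exact hadd w
    · ext w
      exact z1 _ (m2 w)
    · ext w
      exact z2 _ (m1 w)
    · intro t
      ext w
      change ψ (u t) w - w = e₁ (ψ (u t) (e₂ w) - e₂ w)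
      rw [f1 _ (hu t _)]
      conv_lhs => rw [← hadd w]
      rw [map_add, hu1 t _ (m1 w)]
      abel
    · intro t
      ext w
      change ψ (l t) w - w = e₂ (ψ (l t) (e₁ w) - e₁ w)
      rw [f2 _ (hl t _)]
      conv_lhs => rw [← hadd w]
      rw [map_add, hl2 t _ (m2 w)]
      abel
    · intro t ht
      ext w
      change e₁ (ψ (ww t) (e₁ w)) = 0
      apply z1
      apply hf2
      intro x
      have h1 : l x * ww t = ww t * u (-(x * (t * t))) := by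
        have := ww_conj_u t ht (-(x * (t * t)))
        rw [mul_inv_eq_iff_eq_mul] at this
        rw [this]
        congr 2
        field_simp
      change (ψ (l x) * ψ (ww t)) (e₁ w) = _
      rw [← map_mul, h1, map_mul]
      change ψ (ww t) (ψ (u _) (e₁ w)) = _
      rw [hu1 _ _ (m1 w)]
    · intro t ht
      ext w
      change e₂ (ψ (ww t) (e₂ w)) = 0
      apply z2
      apply hf1
      intro x
      have h1 : u x * ww t = ww t * l (-(x * (t⁻¹ * t⁻¹))) := by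
        have := ww_conj_l t ht (-(x * (t⁻¹ * t⁻¹)))
        rw [mul_inv_eq_iff_eq_mul] at this
        rw [this]
        congr 2
        field_simp
      change (ψ (u x) * ψ (ww t)) (e₂ w) = _
      rw [← map_mul, h1, map_mul]
      change ψ (ww t) (ψ (l _) (e₂ w)) = _
      rw [hl2 _ _ (m2 w)]
  obtain ⟨x, hx⟩ := h.main g hg
  have h1 := congrArg (fun f : Module.End ℤ W => f w) hx
  change x (ψ g w - w) = w at h1
  rw [hw, sub_self, map_zero] at h1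
  exact h1.symm

end Cfsg.Agent.H17.SLMod
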