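import Cfsg.Agent.H17_FLA
import Cfsg.Agent.H17_SLMod

set_option autoImplicit false
set_option linter.unusedSectionVars false
open Cfsg Cfsg.Agent.H17.Base

namespace Cfsg.Agent.H17.FL

section
variable {K V : Type*} [Group K] [CommGroup V]

/-- fixed points -/
def fixS (ψ : K →* MulAut V) (Y : Subgroup K) : Subgroup V where
  carrier := {v | ∀ y ∈ Y, ψ y v = v}
  one_mem' := fun y _ => map_one _
  mul_mem' := by
    intro a b ha hb y hy
    rw [map_mul, ha y hy, hb y hy]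
  inv_mem' := by
    intro a ha y hy
    rw [map_inv, ha y hy]

theorem mem_fixS {ψ : K →* MulAut V} {Y : Subgroup K} {v : V} : v ∈ fixS ψ Y ↔ ∀ y ∈ Y, ψ y v = v := Iff.rfl

theorem fixS_cj {ψ : K →* MulAut V} {Y : Subgroup K} {g : K} {v : V} : v ∈ fixS ψ (cj g Y) ↔ ψ g⁻¹ v ∈ fixS ψ Y := by
  rw [mem_fixS, mem_fixS]
  constructor
  · intro h y hy
    have h1 := h (g * y * g⁻¹) ⟨y, hy, rfl⟩
    have h2 : ψ g⁻¹ (ψ (g * y * g⁻¹) v) = ψ y (ψ g⁻¹ v) := by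
      rw [← MulAut.mul_apply, ← MulAut.mul_apply, ← map_mul, ← map_mul]
      congr 2
      group
    rw [h1] at h2
    exact h2.symm
  · rintro h _ ⟨y, hy, rfl⟩
    have h1 := h y hy
    change ψ (g * y * g⁻¹) v = v
    have h2 : ψ (g * y * g⁻¹) v = ψ g (ψ y (ψ g⁻¹ v)) := by
      rw [← MulAut.mul_apply, ← MulAut.mul_apply, ← map_mul, ← map_mul]
    rw [h2, h1, ← MulAut.mul_apply, ← map_mul, mul_inv_cancel, map_one, MulAut.one_apply]

theorem fixS_anti {ψ : K →* MulAut V} {X Y : Subgroup K} (h : X ≤ Y) : fixS ψ Y ≤ fixS ψ X := fun _ hv x hx => hv x (h hx)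

/-- module data -/
structure MD (p : ℕ) (Y : Subgroup K) (ψ : K →* MulAut V) : Prop where
  c1 : ∀ g, g ∉ Nz Y → ∀ v ∈ fixS ψ Y, v ∈ fixS ψ (cj g Y) → v = 1
  c2 : ∀ g, g ∉ Nz Y → ∀ v, ∃ v₁ ∈ fixS ψ Y, ∃ v₂ ∈ fixS ψ (cj g Y), v = v₁ * v₂
  c3 : ∀ v, ∀ y ∈ Y, ψ y v * v⁻¹ ∈ fixS ψ Y
  ex : ∀ v : V, v ^ p = 1
  ne : Nz Y ≠ ⊤

theorem MD.c3' {p : ℕ} {Y : Subgroup K} {ψ : K →* MulAut V} (h : MD p Y ψ) (g : K) (v : V) {y : K} (hy : y ∈ cj g Y) :
    ψ y v * v⁻¹ ∈ fixS ψ (cj g Y) := by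
  rw [fixS_cj]
  obtain ⟨y, hy, rfl⟩ := hy
  have h1 := h.c3 (ψ g⁻¹ v) y hy
  have h2 : ψ g⁻¹ (ψ (g * y * g⁻¹) v) = ψ y (ψ g⁻¹ v) := by
    rw [← MulAut.mul_apply, ← MulAut.mul_apply, ← map_mul, ← map_mul]
    congr 2
    group
  change ψ g⁻¹ (ψ (g * y * g⁻¹) v * v⁻¹) ∈ _
  rw [map_mul, h2, map_inv (ψ g⁻¹) v]
  exact h1

theorem MD.congr {p : ℕ} {K' : Type*} [Group K'] {Y : Subgroup K} {ψ : K →* MulAut V} (h : MD p Y ψ) (e : K ≃* K') :
    MD p (Y.map e.toMonoidHom) (ψ.comp e.symm.toMonoidHom) := by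
  have hfix : ∀ (X : Subgroup K) (v : V), v ∈ fixS (ψ.comp e.symm.toMonoidHom) (X.map e.toMonoidHom) ↔ v ∈ fixS ψ X := by
    intro X v
    rw [mem_fixS, mem_fixS]
    constructor
    · intro h1 y hy
      have := h1 (e y) ⟨y, hy, rfl⟩
      change ψ (e.symm (e y)) v = v at this
      rwa [e.symm_apply_apply] at this
    · rintro h1 _ ⟨y, hy, rfl⟩
      change ψ (e.symm (e y)) v = v
      rw [e.symm_apply_apply]
      exact h1 y hy
  have hN : ∀ g : K', g ∈ Nz (Y.map e.toMonoidHom) ↔ e.symm g ∈ Nz Y := by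
    intro g
    have h1 : (Nz Y).map e.toMonoidHom = Nz (Y.map e.toMonoidHom) := Subgroup.map_equiv_normalizer_eq Y e
    rw [← h1]
    constructor
    · rintro ⟨x, hx, rfl⟩
      change e.symm (e x) ∈ Nz Y
      rwa [e.symm_apply_apply]
    · intro hx
      exact ⟨e.symm g, hx, e.apply_symm_apply g⟩
  have hcj : ∀ g : K', cj g (Y.map e.toMonoidHom) = (cj (e.symm g) Y).map e.toMonoidHom := by
    intro g
    ext x
    constructor
    · rintro ⟨_, ⟨y, hy, rfl⟩, rfl⟩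
      refine ⟨e.symm g * y * (e.symm g)⁻¹, ⟨y, hy, rfl⟩, ?_⟩
      change e (e.symm g * y * (e.symm g)⁻¹) = g * e y * g⁻¹
      rw [map_mul, map_mul, map_inv, e.apply_symm_apply]
    · rintro ⟨_, ⟨y, hy, rfl⟩, rfl⟩
      refine ⟨_, ⟨y, hy, rfl⟩, ?_⟩
      change g * e y * g⁻¹ = e (e.symm g * y * (e.symm g)⁻¹)
      rw [map_mul, map_mul, map_inv, e.apply_symm_apply]
  refine ⟨?_, ?_, ?_, h.ex, ?_⟩
  · intro g hg v h1 h2
    rw [hN] at hg
    rw [hfix] at h1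
    rw [hcj, hfix] at h2
    exact h.c1 _ hg v h1 h2
  · intro g hg v
    rw [hN] at hg
    obtain ⟨v₁, h1, v₂, h2, h3⟩ := h.c2 _ hg v
    exact ⟨v₁, (hfix _ _).2 h1, v₂, by rw [hcj, hfix]; exact h2, h3⟩
  · rintro v _ ⟨y, hy, rfl⟩
    rw [hfix]
    change ψ (e.symm (e y)) v * v⁻¹ ∈ _
    rw [e.symm_apply_apply]
    exact h.c3 v y hy
  · intro htop
    apply h.ne
    rw [eq_top_iff]
    intro k _
    have : e k ∈ Nz (Y.map e.toMonoidHom) := by rw [htop]; trivial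
    rw [hN, e.symm_apply_apply] at this
    exact this

/-- automorphisms as endomorphisms of the additive group -/
def toEnd (V : Type*) [CommGroup V] : MulAut V →* Module.End ℤ (Additive V) where
  toFun f := (MonoidHom.toAdditive f.toMonoidHom).toIntLinearMap
  map_one' := rfl
  map_mul' _ _ := rfl

theorem toEnd_apply (f : MulAut V) (v : V) : toEnd V f (Additive.ofMul v) = Additive.ofMul (f v) := rfl

section SL
open Cfsg.Agent.H5.SL2 Cfsg.Agent.H18.Dickson Cfsg.Agent.H17.SLMod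
variable {F : Type*} [Field F]

theorem sl_fix {p : ℕ} {ψ : S F →* MulAut V} (h : MD p (U F) ψ) {g : S F} (hg : tr g ≠ 2) {v : V} (hv : ψ g v = v) : v = 1 := by
  have hL : ∀ x, l x ∈ cj (ww (1 : F)) (U F) := by
    intro x
    have h1 := ww_conj_u (1 : F) one_ne_zero (-x)
    have h2 : l (-(-x * ((1 : F)⁻¹ * (1 : F)⁻¹))) = l x := by congr 1; simp
    rw [h2] at h1
    rw [← h1]
    exact ⟨u (-x), mem_U.2 ⟨_, rfl⟩, rfl⟩
  have hL' : ∀ y ∈ cj (ww (1 : F)) (U F), ∃ x, y = l x := by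
    rintro _ ⟨y, hy, rfl⟩
    obtain ⟨x, rfl⟩ := mem_U.1 hy
    exact ⟨_, ww_conj_u (1 : F) one_ne_zero x⟩
  have hn : ww (1 : F) ∉ Nz (U F) := by
    intro h1
    rw [mem_Nz_iff_cj] at h1
    have h2 := hL 1
    rw [h1] at h2
    obtain ⟨x, hx⟩ := mem_U.1 h2
    have := congrArg (fun g : S F => g.1 1 0) hx
    simp at this
  set W₁ := AddSubgroup.toIntSubmodule (Subgroup.toAddSubgroup (fixS ψ (U F))) with hW₁
  set W₂ := AddSubgroup.toIntSubmodule (Subgroup.toAddSubgroup (fixS ψ (cj (ww (1 : F)) (U F)))) with hW₂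
  have m1 : ∀ v : V, Additive.ofMul v ∈ W₁ ↔ v ∈ fixS ψ (U F) := fun v => Iff.rfl
  have m2 : ∀ v : V, Additive.ofMul v ∈ W₂ ↔ v ∈ fixS ψ (cj (ww (1 : F)) (U F)) := fun v => Iff.rfl
  have hc : IsCompl W₁ W₂ := by
    constructor
    · rw [Submodule.disjoint_def]
      intro w h1 h2
      exact h.c1 _ hn (Additive.toMul w) h1 h2
    · rw [codisjoint_iff, eq_top_iff]
      intro w _
      obtain ⟨v₁, h1, v₂, h2, h3⟩ := h.c2 _ hn (Additive.toMul w)
      rw [Submodule.mem_sup]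
      exact ⟨Additive.ofMul v₁, h1, Additive.ofMul v₂, h2, h3.symm⟩
  have h1 := slmod ((toEnd V).comp ψ) W₁ W₂ hc ?_ ?_ ?_ ?_ ?_ ?_ g hg (Additive.ofMul v) ?_
  · exact h1
  · intro x w hw
    exact hw (u x) (mem_U.2 ⟨x, rfl⟩)
  · intro x w
    have := h.c3 (Additive.toMul w) (u x) (mem_U.2 ⟨x, rfl⟩)
    rw [← div_eq_mul_inv] at this
    exact this
  · intro x w hw
    exact hw (l x) (hL x)
  · intro x w
    have := h.c3' (ww (1 : F)) (Additive.toMul w) (hL x)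
    rw [← div_eq_mul_inv] at this
    exact this
  · intro w hw y hy
    obtain ⟨x, rfl⟩ := mem_U.1 hy
    exact hw x
  · intro w hw y hy
    obtain ⟨x, rfl⟩ := hL' y hy
    exact hw x
  · exact hv

theorem sl_main {p : ℕ} [Fact p.Prime] {F : Type*} [Field F] [Fintype F] [CharP F p] {Y : Subgroup K} (hY : IsPGroup p Y)
    (hc : Fintype.card F = Nat.card Y)
    (e : K ≃* S F) {ψ : K →* MulAut V} (h : MD p Y ψ) {k : K} (hk : ¬ ∃ n : ℕ, k ^ p ^ n = 1) {v : V} (hv : ψ k v = v) : v = 1 := by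
  obtain ⟨g, hg⟩ := sl_sylow (p := p) (F := F) (hY.map e.toMonoidHom)
    (by rw [Subgroup.card_map_of_injective e.injective, hc])
  let e' : K ≃* S F := e.trans (MulAut.conj g⁻¹)
  have h1 : Y.map e'.toMonoidHom = U F := by
    have h2 : Y.map e'.toMonoidHom = cj g⁻¹ (Y.map e.toMonoidHom) := by
      ext x
      constructor
      · rintro ⟨y, hy, rfl⟩
        exact ⟨_, ⟨y, hy, rfl⟩, rfl⟩
      · rintro ⟨_, ⟨y, hy, rfl⟩, rfl⟩
        exact ⟨y, hy, rfl⟩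
    rw [h2, hg, cj_inv_cj]
  have h2 := h.congr e'
  rw [h1] at h2
  apply sl_fix h2 (g := e' k)
  · intro ht
    apply hk
    refine ⟨1, ?_⟩
    apply e'.injective
    rw [map_pow, pow_one, map_one]
    exact pow_eq_one_of_tr ht
  · change ψ (e'.symm (e' k)) v = v
    rw [e'.symm_apply_apply]
    exact hv

end SL

/-! ### the characteristic 2 cases -/

/-- the conditions on involutions -/
structure INV (K : Type*) [Group K] (Y : Subgroup K) : Prop where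
  a : ∀ t : K, t * t = 1 → t ≠ 1 → ∃ g, t ∈ cj g Y
  b : ∀ t ∈ Y, t ≠ 1 → ∀ g, t ∈ Nz (cj g Y) → g ∈ Nz Y
  c : ∀ h : K, h ≠ 1 → Odd (orderOf h) → ∃ t : K, t * t = 1 ∧ t ≠ 1 ∧ t * h * t⁻¹ = h⁻¹

theorem inv_main [Finite K] {Y : Subgroup K} (hY : IsPGroup 2 Y) (hI : INV K Y) {ψ : K →* MulAut V} (h : MD 2 Y ψ) {k : K}
    (hk : ¬ ∃ n : ℕ, k ^ 2 ^ n = 1) {v : V} (hv : ψ k v = v) : v = 1 := by
  -- pass to an element of odd order
  obtain ⟨n, m, hm, hnm⟩ := Nat.exists_eq_two_pow_mul_odd (orderOf_pos k).ne'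
  set y := k ^ 2 ^ n with hy
  have hyo : orderOf y = m := by
    rw [hy, orderOf_pow, hnm]
    rw [Nat.gcd_eq_right (Dvd.intro _ rfl)]
    exact Nat.mul_div_cancel_left m (by positivity)
  have hy1 : y ≠ 1 := fun h1 => hk ⟨n, h1⟩
  have hyv : ψ y v = v := by
    rw [hy, map_pow]
    generalize 2 ^ n = j
    induction j with
    | zero => simp
    | succ j ih => rw [pow_succ, MulAut.mul_apply, hv, ih]
  obtain ⟨t, ht, ht1, hty⟩ := hI.c y hy1 (by rw [hyo]; exact hm)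
  by_contra hv1
  -- a nontrivial common fixed point of `t` and `y`
  have hyt : y * t = t * y⁻¹ := by
    have h1 : t⁻¹ = t := inv_eq_of_mul_eq_one_left ht
    have h2 : t * y = y⁻¹ * t := by rw [← hty]; group
    have h3 : y * (t * y) * y⁻¹ = t * y⁻¹ := by rw [h2]; group
    rw [← h3]; group
  obtain ⟨w, hw1, hwt, hwy⟩ : ∃ w : V, w ≠ 1 ∧ ψ t w = w ∧ ψ y w = w := by
    have hyi : ψ y⁻¹ v = v := by
      have : ψ y⁻¹ (ψ y v) = v := by rw [← MulAut.mul_apply, ← map_mul, inv_mul_cancel, map_one, MulAut.one_apply]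
      rwa [hyv] at this
    have h1 : ψ y (ψ t v) = ψ t v := by
      rw [← MulAut.mul_apply, ← map_mul, hyt, map_mul, MulAut.mul_apply, hyi]
    have h2 : ψ t (ψ t v) = v := by
      rw [← MulAut.mul_apply, ← map_mul, ht, map_one, MulAut.one_apply]
    by_cases h3 : v * ψ t v = 1
    · refine ⟨v, hv1, ?_, hyv⟩
      have h4 : ψ t v = v⁻¹ := (inv_eq_of_mul_eq_one_right h3).symm
      rw [h4]
      have := h.ex v
      rw [sq] at this
      exact inv_eq_of_mul_eq_one_left this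
    · exact ⟨v * ψ t v, h3, by rw [map_mul, h2, mul_comm], by rw [map_mul, hyv, h1]⟩
  -- the fixed points of an involution of `Y`
  obtain ⟨g₀, hg₀⟩ : ∃ g₀ : K, g₀ ∉ Nz Y := by
    by_contra hcon
    push Not at hcon
    exact h.ne (eq_top_iff.2 fun x _ => hcon x)
  have key : ∀ s ∈ Y, s ≠ 1 → ∀ x : V, ψ s x = x → x ∈ fixS ψ Y := by
    intro s hs hs1 x hx
    obtain ⟨x₁, h1, x₂, h2, rfl⟩ := h.c2 g₀ hg₀ x
    have h3 : ψ s x₂ = x₂ := by
      rw [map_mul, h1 s hs] at hx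
      exact mul_left_cancel hx
    have h4 : s ∉ Nz (cj g₀ Y) := fun h5 => hg₀ (hI.b s hs hs1 g₀ h5)
    have h5 : g₀⁻¹ * s * g₀ ∉ Nz Y := by
      intro h6
      apply h4
      rw [← cj_Nz]
      exact ⟨_, h6, by change g₀ * (g₀⁻¹ * s * g₀) * g₀⁻¹ = s; group⟩
    have h6 : ψ g₀⁻¹ x₂ = 1 := by
      apply h.c1 _ h5 _ (fixS_cj.1 h2)
      rw [fixS_cj]
      have h7 : ψ (g₀⁻¹ * s * g₀)⁻¹ (ψ g₀⁻¹ x₂) = ψ g₀⁻¹ x₂ := by
        have h8 : ψ s⁻¹ x₂ = x₂ := by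
          have : ψ s⁻¹ (ψ s x₂) = x₂ := by rw [← MulAut.mul_apply, ← map_mul, inv_mul_cancel, map_one, MulAut.one_apply]
          rwa [h3] at this
        rw [← MulAut.mul_apply, ← map_mul]
        have h9 : (g₀⁻¹ * s * g₀)⁻¹ * g₀⁻¹ = g₀⁻¹ * s⁻¹ := by group
        rw [h9, map_mul, MulAut.mul_apply, h8]
      rw [h7]
      exact fixS_cj.1 h2
    have h7 : x₂ = 1 := (ψ g₀⁻¹).injective (by rw [h6, map_one])
    rw [h7, mul_one]
    exact h1
  have key2 : ∀ s : K, s * s = 1 → s ≠ 1 → ψ s w = w → ∃ g, s ∈ cj g Y ∧ w ∈ fixS ψ (cj g Y) := by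
    intro s hs hs1 hsw
    obtain ⟨g, hg⟩ := hI.a s hs hs1
    refine ⟨g, hg, ?_⟩
    obtain ⟨s', hs', rfl⟩ := hg
    rw [fixS_cj]
    apply key s' hs'
    · rintro rfl
      exact hs1 (map_one _)
    · change ψ (g * s' * g⁻¹) w = w at hsw
      have h1 : ψ g⁻¹ (ψ (g * s' * g⁻¹) w) = ψ s' (ψ g⁻¹ w) := by
        rw [← MulAut.mul_apply, ← MulAut.mul_apply, ← map_mul, ← map_mul]
        congr 2
        group
      rw [hsw] at h1
      exact h1.symm
  have hodd : Odd (orderOf y) := by rw [hyo]; exact hm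
  obtain ⟨g₁, h1, h2⟩ := key2 t ht ht1 hwt
  have hty1 : t * y ≠ 1 := by
    intro h3
    have h4 : y = t := by
      have : t⁻¹ = y := inv_eq_of_mul_eq_one_right h3
      rw [← this]; exact inv_eq_of_mul_eq_one_left ht
    rw [h4] at hodd
    have : orderOf t = 2 := orderOf_eq_prime (by rw [sq]; exact ht) ht1
    rw [this] at hodd
    exact (by decide : ¬ Odd 2) hodd
  obtain ⟨g₂, h3, h4⟩ := key2 (t * y) (by
      have : t * y = y⁻¹ * t := by rw [← hty]; group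
      calc t * y * (t * y) = (t * y) * (y⁻¹ * t) := by rw [← this]
        _ = t * t := by group
        _ = 1 := ht) hty1 (by rw [map_mul, MulAut.mul_apply, hwy, hwt])
  by_cases h5 : cj g₁ Y = cj g₂ Y
  · have h6 : y ∈ cj g₁ Y := by
      have := mul_mem (inv_mem h1) (h5 ▸ h3)
      rwa [inv_mul_cancel_left] at this
    obtain ⟨j, hj⟩ := (cj_isPGroup hY (g := g₁)) ⟨y, h6⟩
    have h7 : y ^ 2 ^ j = 1 := congrArg Subtype.val hj
    have h8 : orderOf y ∣ 2 ^ j := orderOf_dvd_of_pow_eq_one h7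
    have h9 : Nat.Coprime (orderOf y) (2 ^ j) := (Nat.coprime_two_right.2 hodd).pow_right j
    have h10 := Nat.Coprime.eq_one_of_dvd h9 h8
    exact hy1 (orderOf_eq_one_iff.1 h10)
  · apply hw1
    have h6 : g₁⁻¹ * g₂ ∉ Nz Y := by
      intro h7
      rw [mem_Nz_iff_cj, cj_mul] at h7
      apply h5
      have := congrArg (cj g₁) h7
      rw [← cj_mul, mul_inv_cancel, cj_one] at this
      exact this.symm
    have h7 : ψ g₁⁻¹ w = 1 := by
      apply h.c1 _ h6 _ (fixS_cj.1 h2)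
      rw [fixS_cj, ← MulAut.mul_apply, ← map_mul]
      have : (g₁⁻¹ * g₂)⁻¹ * g₁⁻¹ = g₂⁻¹ := by group
      rw [this]
      exact fixS_cj.1 h4
    exact (ψ g₁⁻¹).injective (by rw [h7, map_one])

end

end Cfsg.Agent.H17.FL
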