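import Cfsg.Agent.H17_PIrr

/-! `p`-irreducible groups: quotients, minimal groups. -/

set_option autoImplicit false
open Cfsg
open scoped commutatorElement

namespace Cfsg.Agent.H17.Base
open Cfsg.Agent.H17.Amalgam

variable {G : Type*} [Group G] {p : ℕ}

theorem pel_map_iff {G' : Type*} [Group G'] {f : G →* G'} (hf : ∀ x ∈ f.ker, ∃ k : ℕ, x ^ p ^ k = 1) (x : G) :
    (∃ k : ℕ, (f x) ^ p ^ k = 1) ↔ (∃ k : ℕ, x ^ p ^ k = 1) := by
  constructor
  · rintro ⟨k, hk⟩
    rw [← map_pow] at hk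
    obtain ⟨l, hl⟩ := hf _ (MonoidHom.mem_ker.2 hk)
    exact ⟨k + l, by rw [pow_add, pow_mul, hl]⟩
  · rintro ⟨k, hk⟩
    exact ⟨k, by rw [← map_pow, hk, map_one]⟩

theorem pcl_map_iff' {G' : Type*} [Group G'] {f : G →* G'} (hf : ∀ x ∈ f.ker, ∃ k : ℕ, x ^ p ^ k = 1) {N : Subgroup G} :
    PCl p (N.map f) ↔ PCl p N := by
  constructor
  · intro h x hx y hy h1 h2
    have := h _ ⟨x, hx, rfl⟩ _ ⟨y, hy, rfl⟩ ((pel_map_iff hf x).2 h1) ((pel_map_iff hf y).2 h2)
    rw [← map_mul, pel_map_iff hf] at this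
    exact this
  · rintro h _ ⟨x, hx, rfl⟩ _ ⟨y, hy, rfl⟩ h1 h2
    rw [← map_mul, pel_map_iff hf]
    exact h x hx y hy ((pel_map_iff hf x).1 h1) ((pel_map_iff hf y).1 h2)

theorem isPGroup_map_iff' {G' : Type*} [Group G'] {f : G →* G'} (hf : ∀ x ∈ f.ker, ∃ k : ℕ, x ^ p ^ k = 1) {N : Subgroup G} :
    IsPGroup p ↥(N.map f) ↔ IsPGroup p N := by
  rw [isPGroup_iff_forall_mem, isPGroup_iff_forall_mem]
  constructor
  · intro h x hx
    exact (pel_map_iff hf x).1 (h _ ⟨x, hx, rfl⟩)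
  · rintro h _ ⟨x, hx, rfl⟩
    exact (pel_map_iff hf x).2 (h x hx)

theorem map_le_Nz_map_of_ker_le {G' : Type*} [Group G'] {f : G →* G'} {A B : Subgroup G} (h : A ≤ Nz B) :
    A.map f ≤ Nz (B.map f) := by
  rw [le_Nz_iff] at *
  rintro _ ⟨a, ha, rfl⟩ _ ⟨b, hb, rfl⟩
  exact ⟨_, h a ha b hb, by simp⟩

theorem pCore_map_eq {G' : Type*} [Group G'] {f : G →* G'} (hs : Function.Surjective f)
    (hf : ∀ x ∈ f.ker, ∃ k : ℕ, x ^ p ^ k = 1) : (pCore p G).map f = pCore p G' := by
  apply le_antisymm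
  · exact le_pCore ((pCore_normal p G).map f hs) ((pCore_isPGroup p G).map f)
  · have h1 : (pCore p G').comap f ≤ pCore p G := by
      apply le_pCore ((pCore_normal p G').comap f)
      rw [← isPGroup_map_iff' hf]
      exact (pCore_isPGroup p G').to_le (Subgroup.map_comap_le f _)
    have h2 := Subgroup.map_mono (f := f) h1
    rwa [Subgroup.map_comap_eq_self_of_surjective hs] at h2

theorem pirr_quot [Fact p.Prime] [Finite G] {G' : Type*} [Group G'] {f : G →* G'} (hs : Function.Surjective f)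
    (hf : ∀ x ∈ f.ker, ∃ k : ℕ, x ^ p ^ k = 1) : PIrr p (⊤ : Subgroup G) ↔ PIrr p (⊤ : Subgroup G') := by
  have htop : (⊤ : Subgroup G).map f = ⊤ := Subgroup.map_top_of_surjective f hs
  have hkp : IsPGroup p ↥f.ker := isPGroup_iff_forall_mem.2 hf
  have hres : resOf p (⊤ : Subgroup G') = (resOf p (⊤ : Subgroup G)).map f := by rw [← htop, resOf_map]
  unfold PIrr
  rw [← pcl_map_iff' hf, htop]
  constructor
  · rintro ⟨h1, h2⟩
    refine ⟨h1, fun N _ hN hcl => ?_⟩
    have e : (N.comap f).map f = N := Subgroup.map_comap_eq_self_of_surjective hs N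
    rw [hres, ← e]
    apply Subgroup.map_mono
    apply h2 _ le_top
    · exact normal_iff_top_le_Nz.1 ((normal_iff_top_le_Nz.2 hN).comap f)
    · rw [← pcl_map_iff' hf, e]; exact hcl
  · rintro ⟨h1, h2⟩
    refine ⟨h1, fun N _ hN hcl => ?_⟩
    have h3 := h2 (N.map f) le_top (by rw [← htop]; exact map_le_Nz_map_of_ker_le hN) (by rwa [pcl_map_iff' hf])
    rw [hres, Subgroup.map_le_iff_le_comap, Subgroup.comap_map_eq] at h3
    have h4 := resOf_mono (p := p) h3
    rw [resOf_resOf] at h4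
    exact h4.trans (resOf_le_of_sup (le_top.trans hN) hkp rfl)

theorem spirr_quot [Fact p.Prime] [Finite G] {G' : Type*} [Group G'] {f : G →* G'} (hs : Function.Surjective f)
    (hf : ∀ x ∈ f.ker, ∃ k : ℕ, x ^ p ^ k = 1) : SPIrr p (⊤ : Subgroup G) ↔ SPIrr p (⊤ : Subgroup G') := by
  have htop : (⊤ : Subgroup G).map f = ⊤ := Subgroup.map_top_of_surjective f hs
  have hkp : IsPGroup p ↥f.ker := isPGroup_iff_forall_mem.2 hf
  have hres : resOf p (⊤ : Subgroup G') = (resOf p (⊤ : Subgroup G)).map f := by rw [← htop, resOf_map]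
  unfold SPIrr
  rw [← pcl_map_iff' hf, htop, pCoreOf_top, pCoreOf_top]
  constructor
  · rintro ⟨h1, h2⟩
    refine ⟨h1, fun N _ hN hcl => ?_⟩
    have e : (N.comap f).map f = N := Subgroup.map_comap_eq_self_of_surjective hs N
    rw [hres, ← e]
    apply Subgroup.map_mono
    apply h2 _ le_top
    · exact normal_iff_top_le_Nz.1 ((normal_iff_top_le_Nz.2 hN).comap f)
    · intro hc
      apply hcl
      have h3 := Subgroup.map_mono (f := f) hc
      rwa [Subgroup.map_commutator, e, htop, pCore_map_eq hs hf] at h3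
  · rintro ⟨h1, h2⟩
    refine ⟨h1, fun N _ hN hcl => ?_⟩
    have h3 := h2 (N.map f) le_top (by rw [← htop]; exact map_le_Nz_map_of_ker_le hN) (by
      intro hc
      apply hcl
      rw [← htop, ← Subgroup.map_commutator, ← pCore_map_eq hs hf] at hc
      rw [Subgroup.map_le_iff_le_comap, Subgroup.comap_map_eq] at hc
      have h4 : f.ker ≤ pCore p G := le_pCore inferInstance hkp
      rwa [sup_eq_left.2 h4] at hc)
    rw [hres, Subgroup.map_le_iff_le_comap, Subgroup.comap_map_eq] at h3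
    have h4 := resOf_mono (p := p) h3
    rw [resOf_resOf] at h4
    exact h4.trans (resOf_le_of_sup (le_top.trans hN) hkp rfl)

theorem noP_iff_pCore [Fact p.Prime] [Finite G] {V L : Subgroup G} [hn : ((Cz V).subgroupOf L).Normal] :
    pCore p (↥L ⧸ (Cz V).subgroupOf L) = ⊥ ↔ NoP p V L := by
  rw [pCore_quotient_eq_bot_iff]
  have h1 : ∀ K : Subgroup L, K ≤ (Cz V).subgroupOf L ↔ K.map L.subtype ≤ Cz V := by
    intro K
    rw [Subgroup.map_le_iff_le_comap]; rfl
  constructor
  · intro h K hKL hLK hres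
    have e : (K.subgroupOf L).map L.subtype = K := Subgroup.map_subgroupOf_eq_of_le hKL
    have := h (K.subgroupOf L) ((normal_subgroupOf_iff hKL).2 hLK) (by
      rw [h1, ← resOf_map_of_injective L.subtype_injective, e]; exact hres)
    rwa [h1, e] at this
  · intro h K hK hres
    rw [h1]
    apply h _ (Subgroup.map_subtype_le _)
    · have := map_le_Nz_map_iff.2 (normal_iff_top_le_Nz.1 hK)
      rwa [map_top_subtype] at this
    · rw [resOf_map_of_injective L.subtype_injective, ← h1]; exact hres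

/-! ### minimal groups -/

/-- ambient form of "`Y` lies in a unique maximal subgroup of `L`": every proper subgroup of `L` containing `Y` lies in `M` -/
structure IsMinOver (Y M L : Subgroup G) : Prop where
  ncl_eq : ncl L Y = L
  lt : M < L
  le : Y ≤ M
  max : ∀ X : Subgroup G, Y ≤ X → X ≤ L → ¬ L ≤ X → X ≤ M

theorem IsMinOver.leL {Y M L : Subgroup G} (h : IsMinOver Y M L) : Y ≤ L := h.le.trans h.lt.le

theorem isMinimalOver_iff_top [Finite G] {Y : Subgroup G} :
    IsMinimalOver Y ↔ ∃ M, IsMinOver Y M ⊤ := by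
  unfold IsMinimalOver
  rw [← ncl_top]
  constructor
  · rintro ⟨h1, M, ⟨hM, hYM⟩, hu⟩
    refine ⟨M, h1, lt_top_iff_ne_top.2 hM.1, hYM, ?_⟩
    intro X hYX _ hX
    obtain ⟨M', hM', hXM'⟩ := (eq_top_or_exists_le_coatom X).resolve_left (fun h => hX (top_le_iff.2 h))
    have := hu M' ⟨hM', hYX.trans hXM'⟩
    rwa [this] at hXM'
  · rintro ⟨M, h1, h2, h3, h4⟩
    have hM : IsCoatom M := by
      refine ⟨h2.ne, fun X hMX => ?_⟩
      by_contra hX
      have := h4 X (h3.trans hMX.le) le_top (fun h => hX (top_le_iff.1 h))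
      exact absurd this (not_le_of_gt hMX)
    refine ⟨h1, M, ⟨hM, h3⟩, ?_⟩
    rintro M' ⟨hM', hYM'⟩
    have := h4 M' hYM' le_top (fun h => hM'.1 (top_le_iff.1 h))
    exact ((hM'.le_iff.1 this).resolve_left hM.1).symm

theorem isMinOver_coatom [Finite G] {Y M : Subgroup G} (h : IsMinimalOver Y) (hM : IsCoatom M) (hY : Y ≤ M) :
    IsMinOver Y M ⊤ := by
  obtain ⟨M', h'⟩ := isMinimalOver_iff_top.1 h
  have h1 := h'.max M hY le_top (fun h => hM.1 (top_le_iff.1 h))
  have h2 : M' = M := ((hM.le_iff.1 h1).resolve_left h'.lt.ne)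
  rwa [← h2]

theorem isMinOver_map_iff {G' : Type*} [Group G'] {f : G →* G'} (hf : Function.Injective f) {Y M L : Subgroup G} :
    IsMinOver (Y.map f) (M.map f) (L.map f) ↔ IsMinOver Y M L := by
  have h1 : ∀ {A B : Subgroup G}, A.map f ≤ B.map f ↔ A ≤ B := fun {A B} => Subgroup.map_le_map_iff_of_injective hf
  constructor
  · rintro ⟨a, b, c, d⟩
    rw [← map_ncl] at a
    refine ⟨Subgroup.map_injective hf a, ?_, h1.1 c, ?_⟩
    · rw [lt_iff_le_not_ge, h1, h1] at b
      exact lt_iff_le_not_ge.2 b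
    · intro X hYX hXL hX
      rw [← h1]
      exact d _ (h1.2 hYX) (h1.2 hXL) (by rwa [h1])
  · rintro ⟨a, b, c, d⟩
    refine ⟨by rw [← map_ncl, a], ?_, h1.2 c, ?_⟩
    · rw [lt_iff_le_not_ge, h1, h1]
      exact lt_iff_le_not_ge.1 b
    · intro X hYX hXL hX
      have e : (X.comap f).map f = X := by
        rw [Subgroup.map_comap_eq, inf_eq_right]
        intro x hx
        obtain ⟨y, _, rfl⟩ := hXL hx
        exact ⟨y, rfl⟩
      rw [← e] at hYX hXL hX ⊢
      rw [h1] at hYX hXL hX ⊢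
      exact d _ hYX hXL hX

theorem isMinimalOver_subgroupOf_iff [Finite G] {Y L : Subgroup G} (hYL : Y ≤ L) :
    IsMinimalOver (Y.subgroupOf L) ↔ ∃ M, IsMinOver Y M L := by
  rw [isMinimalOver_iff_top]
  constructor
  · rintro ⟨M, hM⟩
    refine ⟨M.map L.subtype, ?_⟩
    rw [← isMinOver_map_iff L.subtype_injective, Subgroup.map_subgroupOf_eq_of_le hYL, map_top_subtype] at hM
    exact hM
  · rintro ⟨M, hM⟩
    refine ⟨M.subgroupOf L, ?_⟩
    rw [← isMinOver_map_iff L.subtype_injective, Subgroup.map_subgroupOf_eq_of_le hYL, map_top_subtype,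
      Subgroup.map_subgroupOf_eq_of_le hM.lt.le]
    exact hM

/-- Sylow-minimal groups are `p`-irreducible -/
theorem IsMinOver.pirr [Fact p.Prime] [Finite G] {T M L : Subgroup G} (h : IsMinOver T M L) (hT : IsSylowIn p T L) :
    PIrr p L := by
  have hnT : ¬ L ≤ Nz T := by
    intro hn
    have h1 : L ≤ T := by
      conv_lhs => rw [← h.ncl_eq]
      exact ncl_le le_rfl hn
    exact absurd (h1.trans h.le) (not_le_of_gt h.lt)
  refine ⟨fun hcl => hnT (hcl.le_Nz_sylow hT), ?_⟩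
  intro N hNL hLN hcl
  -- N is not in M
  have hTN := hT.inf_normal hNL hLN
  have h1 : ¬ N ≤ M := by
    intro hNM
    have h2 := frattini_le hTN hNL hLN
    have h3 : L ⊓ Nz (T ⊓ N) ≤ M := by
      apply h.max
      · exact le_inf hT.le ((le_inf Subgroup.le_normalizer (hT.le.trans hLN)).trans (Nz_inf_le _ _))
      · exact inf_le_left
      · intro h4
        apply hcl
        exact pcl_of_le_Nz hTN (hNL.trans (h4.trans inf_le_right))
    have h4 : L ≤ M := by
      conv_lhs => rw [← h2]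
      exact sup_le hNM h3
    exact absurd h4 (not_le_of_gt h.lt)
  have h2 : L ≤ N ⊔ T := by
    by_contra h3
    exact h1 (le_sup_left.trans (h.max (N ⊔ T) le_sup_right (sup_le hNL hT.le) h3))
  exact resOf_le_of_sup hLN hT.isPGroup (le_antisymm (sup_le hNL hT.le) h2)

end Cfsg.Agent.H17.Base
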