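import Cfsg.Statements.S2833
import Cfsg.Agent.H17_PIrr2

set_option autoImplicit false
open Cfsg

namespace Cfsg.Agent.S2833

open Cfsg.Agent.H17.Base
open scoped commutatorElement
/-- Let V be a subgroup of a finite group G normalized by the subgroup L, let X ≤ L and g ∈ L with [V, X, X] = 1 and L generated by X and gXg⁻¹. Put W = [V, L]. Then W = [V, X]·[V, gXg⁻¹], C_W(X) = [V, X], and C_W(L) = [V, X] ∩ [V, gXg⁻¹]. -/
theorem result {G : Type*} [Group G] [Finite G] (V L : Subgroup G) (hLV : L ≤ Subgroup.normalizer (V : Set G)) (X : Subgroup G) (hX : X ≤ L) (g : G) (hg : g ∈ L) (hq : ⁅⁅V, X⁆, X⁆ = ⊥) (hgen : X ⊔ X.map (MulAut.conj g).toMonoidHom = L) (W : Subgroup G) (hW : W = ⁅V, L⁆) : ⁅V, X⁆ ⊔ ⁅V, X.map (MulAut.conj g).toMonoidHom⁆ = W ∧ W ⊓ Subgroup.centralizer (X : Set G) = ⁅V, X⁆ ∧ W ⊓ Subgroup.centralizer (L : Set G) = ⁅V, X⁆ ⊓ ⁅V, X.map (MulAut.conj g).toMonoidHom⁆ := by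
  -- notation
  have hXV : X ≤ Subgroup.normalizer (V : Set G) := hX.trans hLV
  have hgX : cj g X ≤ L := by
    have := cj_mono (g := g) hX
    rwa [cj_eq_of_mem hg] at this
  have hgV : cj g V = V := cj_eq_of_mem_Nz (hLV hg)
  set A := ⁅V, X⁆ with hA
  have hB : ⁅V, cj g X⁆ = cj g A := by rw [hA, cj_commutator, hgV]
  have hAV : A ≤ V := commutator_le_left_iff.2 hXV
  have hBV : cj g A ≤ V := by have := cj_mono (g := g) hAV; rwa [hgV] at this
  have hVA : V ≤ Nz A := Subgroup.normalizer_commutator_ge_left _ _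
  have hVB : V ≤ Nz (cj g A) := by rw [← hB]; exact Subgroup.normalizer_commutator_ge_left _ _
  have hAC : A ≤ Cz X := commutator_eq_bot_iff_le_Cz.1 hq
  have hBC : cj g A ≤ Cz (cj g X) := by rw [← cj_Cz]; exact cj_mono hAC
  -- R = A B
  have hVR : V ≤ Nz (A ⊔ cj g A) := (le_inf hVA hVB).trans (Nz_sup_le _ _)
  have hLR : ⁅V, L⁆ ≤ A ⊔ cj g A := by
    rw [← hgen]
    -- each of X, cj g X acts trivially on V mod R; use chainStab
    rw [Subgroup.commutator_comm, ← le_chainStab_iff (by rw [hgen]; exact hLV)]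
    apply sup_le
    · rw [le_chainStab_iff hXV, Subgroup.commutator_comm]
      exact le_sup_left
    · rw [le_chainStab_iff (hgX.trans hLV), Subgroup.commutator_comm]
      show ⁅V, cj g X⁆ ≤ _
      rw [hB]
      exact le_sup_right
  have hWeq : A ⊔ cj g A = W := by
    rw [hW]
    apply le_antisymm _ hLR
    apply sup_le
    · exact Subgroup.commutator_mono le_rfl hX
    · rw [← hB]; exact Subgroup.commutator_mono le_rfl hgX
  have hCL : ∀ b : G, b ∈ Cz X → b ∈ Cz (cj g X) → b ∈ Cz L := by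
    intro b h1 h2
    have h3 : L ≤ Cz (Subgroup.zpowers b) := by
      rw [← hgen]
      apply sup_le
      · rw [le_Cz_comm, Subgroup.zpowers_le]; exact h1
      · rw [le_Cz_comm, Subgroup.zpowers_le]; exact h2
    rw [le_Cz_comm, Subgroup.zpowers_le] at h3
    exact h3
  have hdec : ∀ w ∈ W, ∃ a ∈ A, ∃ b ∈ cj g A, w = a * b := by
    intro w hw
    rw [← hWeq, mem_sup_of_le_Nz (hAV.trans hVB)] at hw
    exact hw
  -- if b ∈ cj g A is centralized by L then b ∈ A
  have hbA : ∀ b ∈ cj g A, b ∈ Cz L → b ∈ A := by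
    intro b hb hbL
    have h1 := mem_cj.1 hb
    have h2 : g * b = b * g := (Subgroup.mem_centralizer_iff.1 hbL) g hg
    have e : g⁻¹ * b * g = b := by
      calc g⁻¹ * b * g = g⁻¹ * (b * g) := by group
        _ = b := by rw [← h2]; group
    rwa [e] at h1
  have hWX : W ⊓ Cz X = A := by
    apply le_antisymm
    · rintro w ⟨hw, hwX⟩
      obtain ⟨a, ha, b, hb, rfl⟩ := hdec w hw
      have h1 : b ∈ Cz X := by
        have := mul_mem (inv_mem (hAC ha)) hwX
        rwa [inv_mul_cancel_left] at this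
      exact mul_mem ha (hbA b hb (hCL b h1 (hBC hb)))
    · exact le_inf (le_sup_left.trans hWeq.le) hAC
  refine ⟨?_, hWX, ?_⟩
  · show A ⊔ ⁅V, cj g X⁆ = W
    rw [hB]; exact hWeq
  · show W ⊓ Cz L = A ⊓ ⁅V, cj g X⁆
    rw [hB]
    apply le_antisymm
    · rintro w ⟨hw, hwL⟩
      have h1 : w ∈ A := by rw [← hWX]; exact ⟨hw, Cz_anti hX hwL⟩
      refine ⟨h1, ?_⟩
      show w ∈ cj g A
      rw [mem_cj]
      have h2 : g * w = w * g := (Subgroup.mem_centralizer_iff.1 hwL) g hg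
      have e : g⁻¹ * w * g = w := by
        calc g⁻¹ * w * g = g⁻¹ * (w * g) := by group
          _ = w := by rw [← h2]; group
      rw [e]; exact h1
    · rintro w ⟨h1, h2⟩
      exact ⟨(le_sup_left.trans hWeq.le) h1, hCL w (hAC h1) (hBC h2)⟩

end Cfsg.Agent.S2833
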