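import Cfsg.Agent.H17_LLemma
import Cfsg.Agent.S2833
import Cfsg.Agent.H17_CommN

/-! A zipper lemma: minimal subgroups `L ≥ Y` with `Y ≰ O_p(L)` are `Y`-minimal. -/

set_option autoImplicit false

namespace Cfsg.Agent.H17.Zipper

open Cfsg Cfsg.Agent.H17.Base Cfsg.Agent.H17.LLemma

variable {G : Type*} [Group G] {p : ℕ}

theorem zipper [Fact p.Prime] [Finite G] {Y : Subgroup G} (hYp : IsPGroup p Y)
    (hmin : ∀ X : Subgroup G, Y ≤ X → X ≠ ⊤ → Y ≤ pCoreOf p X) (hY : ¬ Y ≤ pCore p G) : ∃ M, IsMinOver Y M ⊤ := by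
  have hcjtop : ∀ (l : G) (X : Subgroup G), X ≠ ⊤ → cj l X ≠ ⊤ := by
    intro l X hX h
    apply hX
    rw [← cj_inv_cj l X, h, cj_top]
  have hP : ∀ (l : G) (X : Subgroup G), cj l Y ≤ X → X ≠ ⊤ → cj l Y ≤ pCoreOf p X := by
    intro l X hX hne
    have h1 := hmin (cj l⁻¹ X) (by rwa [← cj_le_iff]) (hcjtop _ _ hne)
    rwa [pCoreOf_cj, ← cj_le_iff] at h1
  have hE : ∀ X : Subgroup G, X ≠ ⊤ → dcl Y X ≤ pCoreOf p X := by
    intro X hX
    rw [dcl_le_iff]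
    intro g hg
    exact hP g X hg hX
  have hEp : ∀ X : Subgroup G, X ≠ ⊤ → IsPGroup p (dcl Y X) := fun X hX => (pCoreOf_isPGroup X).to_le (hE X hX)
  have hN : ∀ (l : G) (F : Subgroup G), IsPGroup p F → cj l Y ≤ F → Nz F ≠ ⊤ := by
    intro l F hF hlF h
    apply hY
    have hFn : F.Normal := normal_iff_top_le_Nz.2 h.ge
    have h1 : cj l Y ≤ pCore p G := hlF.trans (le_pCore hFn hF)
    rwa [cj_le_iff, cj_eq_of_normal _ (pCore_normal p G)] at h1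
  have hYtop : Y ≠ ⊤ := by
    intro h
    apply hY
    apply le_pCore _ hYp
    rw [h]; infer_instance
  have huniq : ∀ M1 M2 : Subgroup G, IsCoatom M1 → IsCoatom M2 → ∀ l, cj l Y ≤ M1 ⊓ M2 → M1 = M2 := by
    by_contra hne
    push Not at hne
    obtain ⟨A1, A2, hA1, hA2, l0, hl0, hne0⟩ := hne
    set S : Set (Subgroup G × Subgroup G) :=
      {q | IsCoatom q.1 ∧ IsCoatom q.2 ∧ q.1 ≠ q.2 ∧ ∃ l, cj l Y ≤ q.1 ⊓ q.2} with hS
    obtain ⟨⟨M1, M2⟩, ⟨hM1, hM2, hM12, l, hl⟩, hmax⟩ := Set.exists_max_image S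
      (fun q => Nat.card (dcl Y (q.1 ⊓ q.2))) (Set.toFinite S) ⟨(A1, A2), hA1, hA2, hne0, l0, hl0⟩
    simp only at hM1 hM2 hM12 hl hmax
    set F := dcl Y (M1 ⊓ M2) with hF
    have hlF : cj l Y ≤ F := le_dcl hl
    have hFp : IsPGroup p F := (hEp M1 hM1.1).to_le (dcl_mono inf_le_left)
    obtain ⟨M3, hM3, hNF⟩ := (eq_top_or_exists_le_coatom (Nz F)).resolve_left (hN l F hFp hlF)
    have hFM3 : F ≤ M3 := Subgroup.le_normalizer.trans hNF
    have key : ∀ N : Subgroup G, IsCoatom N → F ≤ dcl Y N → N = M3 := by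
      intro N hNc hFN
      by_cases h : dcl Y N ≤ F
      · have h1 : dcl Y N = F := le_antisymm h hFN
        have h2 : N ≤ M3 := by
          refine le_trans ?_ hNF
          rw [← h1]
          exact Subgroup.le_normalizer.trans (Nz_le_Nz_dcl Y N)
        exact ((hNc.le_iff.1 h2).resolve_left hM3.1).symm
      · have hFd : dcl Y F = F := dcl_dcl _ _
        obtain ⟨g, hg1, hg2⟩ := growth (hEp N hNc.1) hFN hFd (by rw [dcl_dcl]; exact h)
        by_contra hne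
        have h3 : cj g Y ≤ N ⊓ M3 := le_inf ((hg1.trans inf_le_left).trans (dcl_le Y N)) ((hg1.trans inf_le_right).trans hNF)
        have h4 := hmax (N, M3) ⟨hNc, hM3, hne, g, h3⟩
        simp only at h4
        have h5 : F ≤ dcl Y (N ⊓ M3) := by
          rw [← hFd]
          exact dcl_mono (le_inf (hFN.trans (dcl_le Y N)) hFM3)
        have h6 := Subgroup.eq_of_le_of_card_ge h5 h4
        apply hg2
        rw [h6]
        exact le_dcl h3
    exact hM12 ((key M1 hM1 (dcl_mono inf_le_left)).trans (key M2 hM2 (dcl_mono inf_le_right)).symm)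
  obtain ⟨M, hM, hYM⟩ := (eq_top_or_exists_le_coatom Y).resolve_left hYtop
  refine ⟨M, ?_, lt_top_iff_ne_top.2 hM.1, hYM, ?_⟩
  · by_contra hne
    apply hY
    have h1 := hmin _ (le_ncl ⊤ Y) hne
    refine h1.trans ?_
    rw [← pCoreOf_top]
    exact pCoreOf_mono_normal le_top (le_Nz_ncl ⊤ Y)
  · intro X hYX _ hX
    obtain ⟨M', hM', hXM'⟩ := (eq_top_or_exists_le_coatom X).resolve_left (fun h => hX h.ge)
    have := huniq M M' hM hM' 1 (by rw [cj_one]; exact le_inf hYM (hYX.trans hXM'))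
    rw [this]; exact hXM'

/-- version inside a subgroup `L` -/
theorem zipper_in [Fact p.Prime] [Finite G] {Y L : Subgroup G} (hYp : IsPGroup p Y) (hYL : Y ≤ L)
    (hmin : ∀ X : Subgroup G, X ≤ L → Y ≤ X → X ≠ L → Y ≤ pCoreOf p X) (hY : ¬ Y ≤ pCoreOf p L) :
    ∃ M, IsMinOver Y M L := by
  have hinj := L.subtype_injective
  have e : (Y.subgroupOf L).map L.subtype = Y := Subgroup.map_subgroupOf_eq_of_le hYL
  obtain ⟨M, hM⟩ := zipper (G := L) (p := p) (Y := Y.subgroupOf L) hYp.comap_subtype (by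
    intro X hX hne
    have h1 := hmin (X.map L.subtype) (Subgroup.map_subtype_le X) (by rw [← e]; exact Subgroup.map_mono hX) (by
      intro h2
      apply hne
      apply Subgroup.map_injective hinj
      rw [h2, map_top_subtype])
    rw [← e, pCoreOf_map_of_injective hinj] at h1
    exact (Subgroup.map_le_map_iff_of_injective hinj).1 h1) (by
    intro h1
    apply hY
    rw [← e]
    exact Subgroup.map_mono h1)
  refine ⟨M.map L.subtype, ?_⟩
  rw [← e]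
  have := (isMinOver_map_iff (f := L.subtype) hinj).2 hM
  rwa [map_top_subtype] at this

theorem IsMinOver.facts {Y L₀ L : Subgroup G} [Finite G] (h : IsMinOver Y L₀ L) :
    L ⊓ Nz L₀ = L₀ ∧ ∀ g ∈ L, g ∉ L₀ → Y ⊔ cj g Y = L := by
  have hN : L ⊓ Nz L₀ = L₀ := by
    apply le_antisymm _ (le_inf h.lt.le Subgroup.le_normalizer)
    apply h.max _ (le_inf h.leL (h.le.trans Subgroup.le_normalizer)) inf_le_left
    intro h1
    have h2 : ncl L Y ≤ L₀ := ncl_le h.le (h1.trans inf_le_right)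
    rw [h.ncl_eq] at h2
    exact h.lt.not_ge h2
  refine ⟨hN, ?_⟩
  intro g hg hgL
  have hle : Y ⊔ cj g Y ≤ L := by
    apply sup_le h.leL
    have := cj_mono (g := g) h.leL
    rwa [cj_eq_of_mem hg] at this
  by_contra hne
  have h1 := h.max _ le_sup_left hle (fun h2 => hne (le_antisymm hle h2))
  apply hgL
  rw [← hN]
  refine ⟨hg, ?_⟩
  have h2 : Y ≤ cj g⁻¹ L₀ := by
    rw [← cj_le_iff]; exact le_sup_right.trans h1
  have h3 : cj g⁻¹ L₀ ≤ L₀ := by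
    apply h.max _ h2
    · have := cj_mono (g := g⁻¹) h.lt.le
      rwa [cj_eq_of_mem (L.inv_mem hg)] at this
    · intro h4
      apply h.lt.not_ge
      have := cj_mono (g := g) h4
      rwa [cj_cj_inv, cj_eq_of_mem hg] at this
  rw [cj_le_iff, inv_inv] at h3
  exact mem_Nz_of_le_cj h3

/-- `C_B(Y) = C_B(L) [B, Y]` for quadratic `Y`, `L = ⟨Y, Y^g⟩` -/
theorem inf_Cz_eq [Finite G] {B Y L : Subgroup G} {g : G} (hLB : L ≤ Nz B) (hYL : Y ≤ L) (hg : g ∈ L)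
    (hgen : Y ⊔ cj g Y = L) (hBY : B ≤ Nz Y) (hY : Y ≤ Cz Y) (hBgY : B ≤ Nz (cj g Y)) :
    ⁅B, Y⁆ ⊔ ⁅B, cj g Y⁆ = ⁅B, L⁆ ∧ ⁅B, L⁆ ⊓ Cz Y = ⁅B, Y⁆ ∧ B ⊓ Cz Y = (B ⊓ Cz L) ⊔ ⁅B, Y⁆ := by
  have hBYY : ⁅B, Y⁆ ≤ Y := commutator_le_right_iff.2 hBY
  have hgY : cj g Y ≤ Cz (cj g Y) := by
    have := cj_mono (g := g) hY
    rwa [cj_Cz] at this
  have hq : ⁅⁅B, Y⁆, Y⁆ = ⊥ := commutator_eq_bot_iff_le_Cz.2 (hBYY.trans hY)
  obtain ⟨h1, h2, -⟩ := Cfsg.Agent.S2833.result B L hLB Y hYL g hg hq hgen ⁅B, L⁆ rfl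
  have h1' : ⁅B, Y⁆ ⊔ ⁅B, cj g Y⁆ = ⁅B, L⁆ := h1
  refine ⟨h1', h2, ?_⟩
  have hBYB : ⁅B, Y⁆ ≤ B := commutator_le_left_iff.2 (hYL.trans hLB)
  apply le_antisymm
  · rintro b ⟨hb, hbY⟩
    have hbY' : b ∈ Cz Y := hbY
    have h3 : g * b * g⁻¹ * b⁻¹ ∈ ⁅B, L⁆ := by
      rw [Subgroup.commutator_comm]
      exact Subgroup.commutator_mem_commutator hg hb
    rw [← h1', sup_comm] at h3
    have hn : ⁅B, cj g Y⁆ ≤ Nz ⁅B, Y⁆ := by
      have h4 : ⁅B, cj g Y⁆ ≤ B := by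
        apply commutator_le_left_iff.2
        have := hYL.trans hLB
        have h5 := cj_mono (g := g) this
        rwa [cj_Nz, cj_eq_of_mem_Nz (hLB hg)] at h5
      exact h4.trans (Subgroup.normalizer_commutator_ge_left B Y)
    rw [mem_sup_of_le_Nz hn] at h3
    obtain ⟨w2, hw2, w1, hw1, h4⟩ := h3
    have h5 : w1 * b ∈ Cz Y := (Cz Y).mul_mem (hY (hBYY hw1)) hbY'
    have h6 : w1 * b ∈ Cz (cj g Y) := by
      have e : w1 * b = w2⁻¹ * (g * b * g⁻¹) := by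
        have : w2⁻¹ * (g * b * g⁻¹) = w2⁻¹ * (g * b * g⁻¹ * b⁻¹) * b := by group
        rw [this, h4]; group
      rw [e]
      apply (Cz (cj g Y)).mul_mem
      · apply (Cz (cj g Y)).inv_mem
        exact hgY ((commutator_le_right_iff.2 hBgY) hw2)
      · rw [← cj_Cz, mem_cj]
        have e2 : g⁻¹ * (g * b * g⁻¹) * g = b := by group
        rw [e2]; exact hbY'
    have h7 : w1 * b ∈ B ⊓ Cz L := by
      refine ⟨B.mul_mem (hBYB hw1) hb, ?_⟩
      show w1 * b ∈ Cz L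
      rw [← hgen, Cz_sup]
      exact ⟨h5, h6⟩
    have e : b = (w1 * b) * (b⁻¹ * w1⁻¹ * b) := by group
    rw [e]
    apply ((B ⊓ Cz L) ⊔ ⁅B, Y⁆).mul_mem ((le_sup_left : B ⊓ Cz L ≤ _) h7)
    apply (le_sup_right : ⁅B, Y⁆ ≤ _)
    have h8 : b⁻¹ ∈ Nz ⁅B, Y⁆ := Subgroup.normalizer_commutator_ge_left B Y (B.inv_mem hb)
    have h9 := (Subgroup.mem_normalizer_iff.1 h8 w1⁻¹).1 (Subgroup.inv_mem _ hw1)
    rwa [inv_inv] at h9
  · apply sup_le
    · exact inf_le_inf_left _ (Cz_anti hYL)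
    · exact le_inf hBYB (hBYY.trans hY)

end Cfsg.Agent.H17.Zipper
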