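import Cfsg.Agent.H17_FLG
import Cfsg.Agent.H17_Zipper
import Cfsg.Agent.H17_SNC

set_option autoImplicit false
set_option linter.unusedSectionVars false
open Cfsg Cfsg.Agent.H17.Base

namespace Cfsg.Agent.H17.FL

section
variable {G : Type*} [Group G] [Finite G] {p : ℕ} [Fact p.Prime] {Y L : Subgroup G} {K : Type*} [Group K] {φ : ↥L →* K}

theorem SN_eq {L Y X : Subgroup G} (h : SN L X) (hY : Y ≤ X) (hg : ncl L Y = L) : X = L := by
  induction h with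
  | refl => rfl
  | step H M h1 h2 h3 ih =>
    have h4 := ih (hY.trans h1)
    subst h4
    apply le_antisymm h1
    conv_lhs => rw [← hg]
    exact ncl_le hY h2

namespace LF
variable (f : LF p Y L φ)
include f

theorem minOver : IsMinOver Y (L ⊓ Nz Y) L :=
  ⟨f.gen, f.lt, le_inf f.yl Subgroup.le_normalizer, fun X h1 h2 h3 => f.max X h1 (lt_of_le_of_ne h2 (fun h => h3 h.ge))⟩

theorem gen2 {x : G} (hx : x ∈ L) (hn : x ∉ Nz Y) : Y ⊔ cj x Y = L :=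
  (Cfsg.Agent.H17.Zipper.IsMinOver.facts f.minOver).2 x hx (fun h => hn h.2)

/-- `C = C_Y(L)` -/
theorem yl' : L ≤ Nz (Y ⊓ Cz L) := by
  have h1 : Y ⊓ Cz L ≤ Cz L := inf_le_right
  exact (le_Cz_comm.1 h1).trans (Cz_le_Nz _)

theorem C_cj {x : G} (hx : x ∈ L) : cj x (Y ⊓ Cz L) = Y ⊓ Cz L := cj_eq_of_mem_Nz (f.yl' hx)

theorem C_le_A : Y ⊓ Cz L ≤ pCoreOf p L :=
  le_pCoreOf (inf_le_left.trans f.yl) f.yl' (f.yp.to_le inf_le_left)

theorem A_le_Nz_B : pCoreOf p L ≤ Nz (Y ⊓ pCoreOf p L) :=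
  (le_inf f.an Subgroup.le_normalizer).trans (Nz_inf_le _ _)

theorem B_cent_Y : Y ≤ Cz (Y ⊓ pCoreOf p L) := (ea_iff.1 f.ea).1.trans (Cz_anti inf_le_left)

/-- `A = B B^x` -/
theorem A_eq {x : G} (hx : x ∈ L) (hn : x ∉ Nz Y) : pCoreOf p L = (Y ⊓ pCoreOf p L) ⊔ cj x (Y ⊓ pCoreOf p L) := by
  set B := Y ⊓ pCoreOf p L with hB
  have hBA : B ≤ pCoreOf p L := inf_le_right
  have hxA : cj x (pCoreOf p L) = pCoreOf p L := cj_eq_of_mem_Nz (le_Nz_pCoreOf L hx)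
  have hBxA : cj x B ≤ pCoreOf p L := by rw [← hxA]; exact cj_mono hBA
  -- `[A, Y] ≤ B`
  have hAY : ⁅pCoreOf p L, Y⁆ ≤ B := by
    apply le_inf
    · exact commutator_le_right_iff.2 f.an
    · exact commutator_le_left_iff.2 (f.yl.trans (le_Nz_pCoreOf L))
  have hYN : Y ≤ Nz (B ⊔ cj x B) := by
    rw [← commutator_le_left_iff]
    have h1 : ⁅B ⊔ cj x B, Y⁆ ≤ ⁅pCoreOf p L, Y⁆ := Subgroup.commutator_mono (sup_le hBA hBxA) le_rfl
    exact (h1.trans hAY).trans le_sup_left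
  have hYxN : cj x Y ≤ Nz (B ⊔ cj x B) := by
    rw [← commutator_le_left_iff]
    have h1 : ⁅B ⊔ cj x B, cj x Y⁆ ≤ ⁅pCoreOf p L, cj x Y⁆ := Subgroup.commutator_mono (sup_le hBA hBxA) le_rfl
    have h2 : ⁅pCoreOf p L, cj x Y⁆ = cj x ⁅pCoreOf p L, Y⁆ := by rw [cj_commutator, hxA]
    rw [h2] at h1
    exact (h1.trans (cj_mono hAY)).trans le_sup_right
  have hLN : L ≤ Nz (B ⊔ cj x B) := by
    rw [← f.gen2 hx hn]
    exact sup_le hYN hYxN
  apply le_antisymm _ (sup_le hBA hBxA)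
  conv_lhs => rw [f.core]
  exact ncl_le le_sup_left hLN

theorem inf_le_C {x : G} (hx : x ∈ L) (hn : x ∉ Nz Y) : Y ⊓ cj x Y ≤ Y ⊓ Cz L := by
  apply le_inf inf_le_left
  rw [← f.gen2 hx hn, le_Cz_comm]
  have h1 := (ea_iff.1 f.ea).1
  apply sup_le
  · exact h1.trans (Cz_anti inf_le_left)
  · have h2 : cj x Y ≤ Cz (cj x Y) := by rw [← cj_Cz]; exact cj_mono h1
    exact h2.trans (Cz_anti inf_le_right)

/-- `A/C` is abelian -/
theorem comm_A_le : ⁅pCoreOf p L, pCoreOf p L⁆ ≤ Y ⊓ Cz L := by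
  obtain ⟨x, hx, hn⟩ := SetLike.not_le_iff_exists.1 (show ¬ L ≤ L ⊓ Nz Y from f.lt.not_ge)
  have hn' : x ∉ Nz Y := fun h => hn ⟨hx, h⟩
  set B := Y ⊓ pCoreOf p L with hB
  have hA := f.A_eq hx hn'
  have hxA : cj x (pCoreOf p L) = pCoreOf p L := cj_eq_of_mem_Nz (le_Nz_pCoreOf L hx)
  have hBA : B ≤ pCoreOf p L := inf_le_right
  have hBxA : cj x B ≤ pCoreOf p L := by rw [← hxA]; exact cj_mono hBA
  have h1 := (ea_iff.1 f.ea).1
  have hBB : B ≤ Cz B := (inf_le_left.trans h1).trans (Cz_anti inf_le_left)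
  have hBxBx : cj x B ≤ Cz (cj x B) := by rw [← cj_Cz]; exact cj_mono hBB
  have hANx : pCoreOf p L ≤ Nz (cj x B) := by
    have := cj_mono (g := x) f.A_le_Nz_B
    rwa [cj_Nz, hxA] at this
  have hcomm : ⁅B, cj x B⁆ ≤ Y ⊓ Cz L := by
    refine le_trans (le_inf ?_ ?_) (f.inf_le_C hx hn')
    · exact (commutator_le_left_iff.2 (hBxA.trans f.A_le_Nz_B)).trans inf_le_left
    · exact (commutator_le_right_iff.2 (hBA.trans hANx)).trans (cj_mono inf_le_left)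
  have hN : pCoreOf p L ≤ Nz (Y ⊓ Cz L) := (pCoreOf_le L).trans f.yl'
  have hone : ∀ X : Subgroup G, X ≤ Cz X → ⁅X, X⁆ ≤ Y ⊓ Cz L := fun X hX => by
    rw [Subgroup.commutator_eq_bot_iff_le_centralizer.2 hX]; exact bot_le
  have key : ∀ P Q R : Subgroup G, P ≤ pCoreOf p L → Q ≤ pCoreOf p L → R ≤ pCoreOf p L → ⁅P, R⁆ ≤ Y ⊓ Cz L → ⁅Q, R⁆ ≤ Y ⊓ Cz L →
      ⁅P ⊔ Q, R⁆ ≤ Y ⊓ Cz L := by
    intro P Q R hP hQ hR h1 h2
    exact sup_comm_le' (hP.trans hN) (hQ.trans hN) (hR.trans hN) h1 h2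
  conv_lhs => rw [hA]
  apply key _ _ _ hBA hBxA (sup_le hBA hBxA)
  · rw [Subgroup.commutator_comm]
    apply key _ _ _ hBA hBxA hBA
    · exact hone _ hBB
    · rw [Subgroup.commutator_comm]; exact hcomm
  · rw [Subgroup.commutator_comm]
    apply key _ _ _ hBA hBxA hBxA
    · exact hcomm
    · exact hone _ hBxBx

theorem res_sup : resOf p L ⊔ Y = L :=
  SN_eq (sn_of_resOf_le (p := p) le_sup_left (sup_le (resOf_le L) f.yl)) le_sup_right f.gen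

theorem res_sup' {x : G} (hx : x ∈ L) : resOf p L ⊔ cj x Y = L := by
  have h1 := congrArg (cj x) f.res_sup
  rw [cj_sup, ← resOf_cj, cj_eq_of_mem hx] at h1
  exact h1

/-- elements of `A` whose commutators with `L` lie in `C` -/
theorem res_cent {a : G} (h : ∀ z ∈ L, z * a * z⁻¹ * a⁻¹ ∈ Y ⊓ Cz L) : resOf p L ≤ Cz (Subgroup.zpowers a) := by
  rw [resOf_eq_closure, Subgroup.closure_le]
  rintro z ⟨hz, hcop⟩
  rw [SetLike.mem_coe, Subgroup.mem_centralizer_iff]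
  have hc := h z hz
  set c := z * a * z⁻¹ * a⁻¹ with hcdef
  have hcz : c * z = z * c := ((Subgroup.mem_centralizer_iff.1 hc.2) z hz).symm
  have hpow : ∀ n : ℕ, z ^ n * a * (z ^ n)⁻¹ = c ^ n * a := by
    intro n
    induction n with
    | zero => simp
    | succ n ih =>
      have h1 : z ^ (n + 1) * a * (z ^ (n + 1))⁻¹ = z * (z ^ n * a * (z ^ n)⁻¹) * z⁻¹ := by
        rw [pow_succ']; group
      have h2 : z * c ^ n = c ^ n * z := by
        have : Commute c z := hcz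
        exact (this.pow_left n).eq.symm
      have h3 : z * a * z⁻¹ = c * a := by rw [hcdef]; group
      rw [h1, ih]
      calc z * (c ^ n * a) * z⁻¹ = (z * c ^ n) * a * z⁻¹ := by group
        _ = c ^ n * (z * a * z⁻¹) := by rw [h2]; group
        _ = c ^ (n + 1) * a := by rw [h3, pow_succ]; group
  have h1 := hpow (orderOf z)
  rw [pow_orderOf_eq_one, one_mul, inv_one, mul_one] at h1
  have h2 : c ^ orderOf z = 1 := by
    have : c ^ orderOf z * a = 1 * a := by rw [← h1, one_mul]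
    exact mul_right_cancel this
  have h3 : c ^ p = 1 := (ea_iff.1 f.ea).2 c hc.1
  have h4 : c = 1 := by
    have h5 : orderOf c ∣ Nat.gcd (orderOf z) p := Nat.dvd_gcd (orderOf_dvd_of_pow_eq_one h2) (orderOf_dvd_of_pow_eq_one h3)
    rw [hcop.gcd_eq_one, Nat.dvd_one] at h5
    exact orderOf_eq_one_iff.1 h5
  have h6 : Commute z a := by
    have : z * a * z⁻¹ * a⁻¹ = 1 := by rw [← hcdef]; exact h4
    have h7 : z * a * z⁻¹ = a := by
      calc z * a * z⁻¹ = (z * a * z⁻¹ * a⁻¹) * a := by group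
        _ = a := by rw [this, one_mul]
    exact mul_inv_eq_iff_eq_mul.1 h7
  rintro y hy
  obtain ⟨n, rfl⟩ := Subgroup.mem_zpowers_iff.1 hy
  exact ((h6.zpow_right n).eq).symm

theorem D_le {a : G} (ha : a ∈ pCoreOf p L) (h : ∀ z ∈ L, z * a * z⁻¹ * a⁻¹ ∈ Y ⊓ Cz L) : a ∈ Y ⊓ Cz L := by
  obtain ⟨x, hx, hn⟩ := SetLike.not_le_iff_exists.1 (show ¬ L ≤ L ⊓ Nz Y from f.lt.not_ge)
  have hn' : x ∉ Nz Y := fun h => hn ⟨hx, h⟩
  set B := Y ⊓ pCoreOf p L with hB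
  have hA := f.A_eq hx hn'
  have hBA : B ≤ pCoreOf p L := inf_le_right
  have hxA : cj x (pCoreOf p L) = pCoreOf p L := cj_eq_of_mem_Nz (le_Nz_pCoreOf L hx)
  have hBxA : cj x B ≤ pCoreOf p L := by rw [← hxA]; exact cj_mono hBA
  have h1 := (ea_iff.1 f.ea).1
  rw [hA] at ha
  obtain ⟨b, hb, b', hb', rfl⟩ := (mem_sup_of_le_Nz' (hBxA.trans f.A_le_Nz_B)).1 ha
  -- `b' ∈ D`
  have hCL : ∀ c ∈ Y ⊓ Cz L, ∀ z ∈ L, z * c = c * z := fun c hc z hz => (Subgroup.mem_centralizer_iff.1 hc.2) z hz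
  have hbL : b ∈ L := f.yl hb.1
  have hb'L : b' ∈ L := (pCoreOf_le L) (hBxA hb')
  let T : Subgroup G :=
    { carrier := {z | z ∈ L ∧ z * b' * z⁻¹ * b'⁻¹ ∈ Y ⊓ Cz L}
      one_mem' := ⟨one_mem _, by simp⟩
      mul_mem' := by
        rintro z w ⟨hz, hz'⟩ ⟨hw, hw'⟩
        refine ⟨mul_mem hz hw, ?_⟩
        have e : z * w * b' * (z * w)⁻¹ * b'⁻¹ = (z * (w * b' * w⁻¹ * b'⁻¹) * z⁻¹) * (z * b' * z⁻¹ * b'⁻¹) := by group
        rw [e, hCL _ hw' z hz, mul_inv_cancel_right]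
        exact mul_mem hw' hz'
      inv_mem' := by
        rintro z ⟨hz, hz'⟩
        refine ⟨inv_mem hz, ?_⟩
        have e : z⁻¹ * b' * z⁻¹⁻¹ * b'⁻¹ = z⁻¹ * (z * b' * z⁻¹ * b'⁻¹)⁻¹ * z := by group
        rw [e, mul_assoc, ← hCL _ (inv_mem hz') z hz, ← mul_assoc, inv_mul_cancel, one_mul]
        exact inv_mem hz' }
  have hYT : Y ≤ T := by
    intro y hy
    refine ⟨f.yl hy, ?_⟩
    have h2 := h y (f.yl hy)
    have h3 : y * b = b * y := ((Subgroup.mem_centralizer_iff.1 (h1 hb.1)) y hy)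
    have e : y * (b * b') * y⁻¹ * (b * b')⁻¹ = b * (y * b' * y⁻¹ * b'⁻¹) * b⁻¹ := by
      calc y * (b * b') * y⁻¹ * (b * b')⁻¹ = (y * b) * b' * y⁻¹ * b'⁻¹ * b⁻¹ := by group
        _ = _ := by rw [h3]; group
    rw [e] at h2
    have h4 : y * b' * y⁻¹ * b'⁻¹ = b⁻¹ * (b * (y * b' * y⁻¹ * b'⁻¹) * b⁻¹) * b := by group
    rw [h4, mul_assoc, ← hCL _ h2 b hbL, ← mul_assoc, inv_mul_cancel, one_mul]
    exact h2
  have hYxT : cj x Y ≤ T := by
    intro y hy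
    have h2 : cj x Y ≤ Cz (cj x Y) := by rw [← cj_Cz]; exact cj_mono h1
    have hyL : y ∈ L := by rw [← cj_eq_of_mem hx]; exact cj_mono f.yl hy
    refine ⟨hyL, ?_⟩
    have h3 : y * b' = b' * y := (Subgroup.mem_centralizer_iff.1 (h2 (cj_mono inf_le_left hb'))) y hy
    rw [h3, mul_inv_cancel_right, mul_inv_cancel]
    exact one_mem _
  have hLT : L ≤ T := by
    conv_lhs => rw [← f.gen2 hx hn']
    exact sup_le hYT hYxT
  have h5 := f.res_cent (a := b') (fun z hz => (hLT hz).2)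
  have hb'Y : b' ∈ cj x Y := cj_mono inf_le_left hb'
  have h6 : b' ∈ Cz L := by
    rw [← f.res_sup' hx, ← Subgroup.zpowers_le, le_Cz_comm]
    apply sup_le h5
    rw [le_Cz_comm, Subgroup.zpowers_le]
    have h2 : cj x Y ≤ Cz (cj x Y) := by rw [← cj_Cz]; exact cj_mono h1
    exact h2 hb'Y
  have h7 : b' ∈ Y ⊓ Cz L := by
    rw [← f.C_cj hx, cj_inf, cj_Cz, cj_eq_of_mem hx]
    exact ⟨hb'Y, h6⟩
  have hbb : b * b' ∈ Y := mul_mem hb.1 h7.1
  refine ⟨hbb, ?_⟩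
  have h8 := f.res_cent (a := b * b') h
  have h9 : b * b' ∈ Cz L := by
    rw [← f.res_sup, ← Subgroup.zpowers_le, le_Cz_comm]
    apply sup_le h8
    rw [le_Cz_comm, Subgroup.zpowers_le]
    exact h1 hbb
  exact h9

end LF
end

end Cfsg.Agent.H17.FL
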