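import Cfsg.Agent.H17_FLV
import Cfsg.Agent.H17_FLI

set_option autoImplicit false
set_option linter.unusedSectionVars false
set_option linter.unusedVariables false
open Cfsg Cfsg.Agent.H17.Base

namespace Cfsg.Agent.H17.FL

universe u

section
variable {G : Type u} [Group G] [Finite G] {p : ℕ} [Fact p.Prime] {Y L : Subgroup G} {K : Type*} [Group K] {φ : ↥L →* K}

namespace LF
variable (f : LF p Y L φ)
include f

theorem comm_gen {a x : G} (hx : x ∈ L) (hn : x ∉ Nz Y) (h1 : ∀ z ∈ Y, z * a * z⁻¹ * a⁻¹ ∈ Y ⊓ Cz L)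
    (h2 : ∀ z ∈ cj x Y, z * a * z⁻¹ * a⁻¹ ∈ Y ⊓ Cz L) : ∀ z ∈ L, z * a * z⁻¹ * a⁻¹ ∈ Y ⊓ Cz L := by
  have hCL : ∀ c ∈ Y ⊓ Cz L, ∀ z ∈ L, z * c = c * z := fun c hc z hz => (Subgroup.mem_centralizer_iff.1 hc.2) z hz
  let T : Subgroup G :=
    { carrier := {z | z ∈ L ∧ z * a * z⁻¹ * a⁻¹ ∈ Y ⊓ Cz L}
      one_mem' := ⟨one_mem _, by simp⟩
      mul_mem' := by
        rintro z w ⟨hz, hz'⟩ ⟨hw, hw'⟩
        refine ⟨mul_mem hz hw, ?_⟩
        have e : z * w * a * (z * w)⁻¹ * a⁻¹ = (z * (w * a * w⁻¹ * a⁻¹) * z⁻¹) * (z * a * z⁻¹ * a⁻¹) := by group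
        rw [e, hCL _ hw' z hz, mul_inv_cancel_right]
        exact mul_mem hw' hz'
      inv_mem' := by
        rintro z ⟨hz, hz'⟩
        refine ⟨inv_mem hz, ?_⟩
        have e : z⁻¹ * a * z⁻¹⁻¹ * a⁻¹ = z⁻¹ * (z * a * z⁻¹ * a⁻¹)⁻¹ * z := by group
        rw [e, mul_assoc, ← hCL _ (inv_mem hz') z hz, ← mul_assoc, inv_mul_cancel, one_mul]
        exact inv_mem hz' }
  have hYT : Y ≤ T := fun y hy => ⟨f.yl hy, h1 y hy⟩
  have hYxT : cj x Y ≤ T := by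
    intro y hy
    have hyL : y ∈ L := by rw [← cj_eq_of_mem hx]; exact cj_mono f.yl hy
    exact ⟨hyL, h2 y hy⟩
  have hLT : L ≤ T := by
    conv_lhs => rw [← f.gen2 hx hn]
    exact sup_le hYT hYxT
  exact fun z hz => (hLT hz).2

theorem md : ∃ (V : Type u) (_ : CommGroup V) (ψ : K →* MulAut V) (π : ↥((pCoreOf p L).subgroupOf L) →* V),
    MD p ((Y.subgroupOf L).map φ) ψ ∧ (∀ a, π a = 1 ↔ (a.1.1 : G) ∈ Y ⊓ Cz L) ∧
    (∀ (x : L) (a b : ↥((pCoreOf p L).subgroupOf L)), b.1 = x * a.1 * x⁻¹ → ψ (φ x) (π a) = π b) := by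
  set C := Y ⊓ Cz L with hC
  set A := pCoreOf p L with hA
  have hCLn : (C.subgroupOf L).Normal := (Subgroup.normal_subgroupOf_iff_le_normalizer (inf_le_left.trans f.yl)).2 f.yl'
  have hALn : (A.subgroupOf L).Normal := (Subgroup.normal_subgroupOf_iff_le_normalizer (pCoreOf_le L)).2 (le_Nz_pCoreOf L)
  set q := QuotientGroup.mk' (C.subgroupOf L) with hq
  have hVn : ((A.subgroupOf L).map q).Normal := hALn.map _ (QuotientGroup.mk'_surjective _)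
  have hq1 : ∀ x : L, q x = 1 ↔ (x : G) ∈ C := by
    intro x
    rw [← MonoidHom.mem_ker, hq, QuotientGroup.ker_mk', Subgroup.mem_subgroupOf]
  have hqe : ∀ x y : L, q x = q y ↔ (x : G) * (y : G)⁻¹ ∈ C := by
    intro x y
    rw [← mul_inv_eq_one, ← map_inv, ← map_mul, hq1]
    rfl
  -- V is abelian
  have hcomm : ∀ v w : ↥((A.subgroupOf L).map q), v * w = w * v := by
    rintro ⟨_, a, ha, rfl⟩ ⟨_, b, hb, rfl⟩
    apply Subtype.ext
    change q a * q b = q b * q a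
    rw [← map_mul, ← map_mul, hqe]
    have h1 : (a : G) * b * (a : G)⁻¹ * (b : G)⁻¹ ∈ C := f.comm_A_le (Subgroup.commutator_mem_commutator ha hb)
    change (a : G) * b * ((b : G) * a)⁻¹ ∈ C
    rw [mul_inv_rev, ← mul_assoc]
    exact h1
  let cg : CommGroup ↥((A.subgroupOf L).map q) := { (inferInstance : Group ↥((A.subgroupOf L).map q)) with mul_comm := hcomm }
  let α : (↥L ⧸ C.subgroupOf L) →* MulAut ↥((A.subgroupOf L).map q) := MulAut.conjNormal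
  have hker : φ.ker ≤ (α.comp q).ker := by
    intro x hx
    rw [MonoidHom.mem_ker] at hx ⊢
    have hxA : (x : G) ∈ A := f.mem_ker.1 hx
    ext v
    change ((α (q x)) v : ↥L ⧸ C.subgroupOf L) = v
    rw [MulAut.conjNormal_apply]
    have := congrArg Subtype.val (hcomm ⟨q x, ⟨x, hxA, rfl⟩⟩ v)
    change q x * v.1 = v.1 * q x at this
    rw [this, mul_inv_cancel_right]
  let ψ : K →* MulAut ↥((A.subgroupOf L).map q) := (φ.liftOfSurjective f.surj) ⟨α.comp q, hker⟩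
  have hψ : ∀ x : L, ψ (φ x) = α (q x) := fun x => φ.liftOfRightInverse_comp_apply _ _ ⟨α.comp q, hker⟩ x
  let π : ↥((pCoreOf p L).subgroupOf L) →* ↥((A.subgroupOf L).map q) := q.subgroupMap (A.subgroupOf L)
  have hπs : Function.Surjective π := q.subgroupMap_surjective (A.subgroupOf L)
  have hπ : ∀ a, (π a).1 = q a.1 := fun a => rfl
  have hact : ∀ (x : L) (a b : ↥((pCoreOf p L).subgroupOf L)), b.1 = x * a.1 * x⁻¹ → ψ (φ x) (π a) = π b := by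
    intro x a b hab
    rw [hψ]
    apply Subtype.ext
    rw [MulAut.conjNormal_apply, hπ, hπ, hab, map_mul, map_mul, map_inv]
  have hπ1 : ∀ a, π a = 1 ↔ (a.1.1 : G) ∈ C := by
    intro a
    rw [← hq1, ← hπ]
    exact ⟨fun h => by rw [h]; rfl, fun h => Subtype.ext h⟩
  -- fixed points
  have hfix : ∀ (x : L) (a : ↥((pCoreOf p L).subgroupOf L)), ψ (φ x) (π a) = π a ↔ (x : G) * a.1.1 * (x : G)⁻¹ * (a.1.1)⁻¹ ∈ C := by
    intro x a
    let b : ↥((pCoreOf p L).subgroupOf L) := ⟨x * a.1 * x⁻¹, hALn.conj_mem a.1 a.2 x⟩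
    rw [hact x a b rfl, ← mul_inv_eq_one, ← map_inv, ← map_mul, hπ1]
    rfl
  have hmemfix : ∀ (X : Subgroup G) (hX : X ≤ L) (a : ↥((pCoreOf p L).subgroupOf L)), π a ∈ fixS ψ ((X.subgroupOf L).map φ) ↔
      ∀ y ∈ X, y * a.1.1 * y⁻¹ * (a.1.1)⁻¹ ∈ C := by
    intro X hX a
    rw [mem_fixS]
    constructor
    · intro h y hy
      have := h (φ ⟨y, hX hy⟩) ⟨⟨y, hX hy⟩, hy, rfl⟩
      exact (hfix _ _).1 this
    · rintro h _ ⟨y, hy, rfl⟩
      exact (hfix _ _).2 (h y hy)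
  have hcjX : ∀ x : L, cj (φ x) ((Y.subgroupOf L).map φ) = ((cj (x : G) Y).subgroupOf L).map φ := by
    intro x
    rw [← map_cj']
    congr 1
    ext z
    constructor
    · rintro ⟨y, hy, rfl⟩
      exact ⟨(y : G), hy, rfl⟩
    · rintro ⟨y, hy, hy2⟩
      exact ⟨⟨y, f.yl hy⟩, hy, Subtype.ext hy2⟩
  have hcjL : ∀ x : L, cj (x : G) Y ≤ L := by
    intro x
    conv_rhs => rw [← cj_eq_of_mem x.2]
    exact cj_mono f.yl
  have hYc := (ea_iff.1 f.ea).1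
  refine ⟨_, cg, ψ, π, ⟨?_, ?_, ?_, ?_, ?_⟩, hπ1, hact⟩
  · intro g hg v h1 h2
    obtain ⟨x, rfl⟩ := f.surj g
    obtain ⟨a, rfl⟩ := hπs v
    rw [hcjX, hmemfix _ (hcjL x)] at h2
    rw [hmemfix _ f.yl] at h1
    rw [hπ1]
    have hx : (x : G) ∉ Nz Y := fun h => hg (f.mem_Nz_img.2 h)
    exact f.D_le a.2 (f.comm_gen x.2 hx h1 h2)
  · intro g hg v
    obtain ⟨x, rfl⟩ := f.surj g
    obtain ⟨a, rfl⟩ := hπs v
    have hx : (x : G) ∉ Nz Y := fun h => hg (f.mem_Nz_img.2 h)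
    have ha : (a.1.1 : G) ∈ pCoreOf p L := a.2
    have hxA : cj (x : G) (pCoreOf p L) = pCoreOf p L := cj_eq_of_mem_Nz (le_Nz_pCoreOf L x.2)
    have hBxA : cj (x : G) (Y ⊓ pCoreOf p L) ≤ pCoreOf p L := by
      conv_rhs => rw [← hxA]
      exact cj_mono inf_le_right
    have ha' := (f.A_eq x.2 hx).le ha
    obtain ⟨b, hb, b', hb', hab⟩ := (mem_sup_of_le_Nz' (hBxA.trans f.A_le_Nz_B)).1 ha'
    refine ⟨π ⟨⟨b, f.yl hb.1⟩, hb.2⟩, ?_, π ⟨⟨b', (pCoreOf_le L) (hBxA hb')⟩, hBxA hb'⟩, ?_, ?_⟩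
    · rw [hmemfix _ f.yl]
      intro y hy
      have : y * b = b * y := (Subgroup.mem_centralizer_iff.1 (hYc hb.1)) y hy
      change y * b * y⁻¹ * b⁻¹ ∈ C
      rw [this, mul_inv_cancel_right, mul_inv_cancel]
      exact one_mem _
    · rw [hcjX, hmemfix _ (hcjL x)]
      intro y hy
      have h2 : cj (x : G) Y ≤ Cz (cj (x : G) Y) := by rw [← cj_Cz]; exact cj_mono hYc
      have : y * b' = b' * y := (Subgroup.mem_centralizer_iff.1 (h2 (cj_mono inf_le_left hb'))) y hy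
      change y * b' * y⁻¹ * b'⁻¹ ∈ C
      rw [this, mul_inv_cancel_right, mul_inv_cancel]
      exact one_mem _
    · rw [← map_mul]
      congr 1
      apply Subtype.ext
      apply Subtype.ext
      exact hab
  · rintro v _ ⟨y, hy, rfl⟩
    obtain ⟨a, rfl⟩ := hπs v
    let b : ↥((pCoreOf p L).subgroupOf L) := ⟨y * a.1 * y⁻¹, hALn.conj_mem a.1 a.2 y⟩
    rw [hact y a b rfl, ← map_inv, ← map_mul, hmemfix _ f.yl]
    intro z hz
    have h1 : (y : G) * a.1.1 * (y : G)⁻¹ * (a.1.1)⁻¹ ∈ Y := by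
      have h2 : (a.1.1 : G) * (y : G)⁻¹ * (a.1.1)⁻¹ ∈ Y := (Subgroup.mem_normalizer_iff.1 (f.an a.2) _).1 (inv_mem hy)
      have h3 := mul_mem (show (y : G) ∈ Y from hy) h2
      rwa [← mul_assoc, ← mul_assoc] at h3
    have h2 : z * ((y : G) * a.1.1 * (y : G)⁻¹ * (a.1.1)⁻¹) = ((y : G) * a.1.1 * (y : G)⁻¹ * (a.1.1)⁻¹) * z :=
      (Subgroup.mem_centralizer_iff.1 (hYc h1)) z hz
    change z * ((y : G) * a.1.1 * (y : G)⁻¹ * (a.1.1)⁻¹) * z⁻¹ * ((y : G) * a.1.1 * (y : G)⁻¹ * (a.1.1)⁻¹)⁻¹ ∈ C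
    rw [h2, mul_inv_cancel_right, mul_inv_cancel]
    exact one_mem _
  · intro v
    obtain ⟨x, hx, hn⟩ := SetLike.not_le_iff_exists.1 (show ¬ L ≤ L ⊓ Nz Y from f.lt.not_ge)
    have hx' : x ∉ Nz Y := fun h => hn ⟨hx, h⟩
    obtain ⟨a, rfl⟩ := hπs v
    have ha : (a.1.1 : G) ∈ pCoreOf p L := a.2
    have hxA : cj (x : G) (pCoreOf p L) = pCoreOf p L := cj_eq_of_mem_Nz (le_Nz_pCoreOf L hx)
    have hBxA : cj (x : G) (Y ⊓ pCoreOf p L) ≤ pCoreOf p L := by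
      conv_rhs => rw [← hxA]
      exact cj_mono inf_le_right
    have ha' := (f.A_eq hx hx').le ha
    obtain ⟨b, hb, b', hb', hab⟩ := (mem_sup_of_le_Nz' (hBxA.trans f.A_le_Nz_B)).1 ha'
    have e1 : a = (⟨⟨b, f.yl hb.1⟩, hb.2⟩ : ↥((pCoreOf p L).subgroupOf L)) * ⟨⟨b', (pCoreOf_le L) (hBxA hb')⟩, hBxA hb'⟩ :=
      Subtype.ext (Subtype.ext hab)
    have hp1 : ∀ z ∈ Y, z ^ p = 1 := (ea_iff.1 f.ea).2
    have e2 : (⟨⟨b, f.yl hb.1⟩, hb.2⟩ : ↥((pCoreOf p L).subgroupOf L)) ^ p = 1 := Subtype.ext (Subtype.ext (hp1 b hb.1))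
    have e3 : (⟨⟨b', (pCoreOf_le L) (hBxA hb')⟩, hBxA hb'⟩ : ↥((pCoreOf p L).subgroupOf L)) ^ p = 1 := by
      apply Subtype.ext
      apply Subtype.ext
      obtain ⟨z, hz, rfl⟩ := hb'
      change (x * z * x⁻¹) ^ p = 1
      rw [conj_pow, hp1 z hz.1]; group
    rw [e1, map_mul, mul_pow, ← map_pow, ← map_pow, e2, e3, map_one, mul_one]
  · intro htop
    have h5 : ((Y.subgroupOf L).map φ).Normal := Subgroup.normalizer_eq_top_iff.1 htop
    have h6 : (Y.subgroupOf L).map φ ≤ pCore p K := le_pCore h5 f.img_p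
    rw [f.red, le_bot_iff] at h6
    exact f.img_ne h6

theorem main {h a : G} (hh : h ∈ L) (hnp : ¬ ∃ k : ℕ, orderOf h = p ^ k) (ha : a ∈ pCoreOf p L)
    (hc : h * a * h⁻¹ * a⁻¹ ∈ Y ⊓ Cz L) : a ∈ Y ⊓ Cz L := by
  have hfin : Finite K := Finite.of_surjective φ f.surj
  have hALn : ((pCoreOf p L).subgroupOf L).Normal :=
    (Subgroup.normal_subgroupOf_iff_le_normalizer (pCoreOf_le L)).2 (le_Nz_pCoreOf L)
  obtain ⟨V, cg, ψ, π, hmd, hπ1, hact⟩ := f.md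
  let x : L := ⟨h, hh⟩
  let a' : ↥((pCoreOf p L).subgroupOf L) := ⟨⟨a, (pCoreOf_le L) ha⟩, ha⟩
  have hk : ¬ ∃ n : ℕ, φ x ^ p ^ n = 1 := by
    rintro ⟨n, hn⟩
    rw [← map_pow] at hn
    have h1 : h ^ p ^ n ∈ pCoreOf p L := f.mem_ker.1 hn
    obtain ⟨j, hj⟩ := (pCoreOf_isPGroup L) ⟨_, h1⟩
    have h2 : (h ^ p ^ n) ^ p ^ j = 1 := congrArg Subtype.val hj
    rw [← pow_mul, ← pow_add] at h2
    have h3 : orderOf h ∣ p ^ (n + j) := orderOf_dvd_of_pow_eq_one h2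
    obtain ⟨i, -, hi⟩ := (Nat.dvd_prime_pow Fact.out).1 h3
    exact hnp ⟨i, hi⟩
  have hfix : ψ (φ x) (π a') = π a' := by
    let b : ↥((pCoreOf p L).subgroupOf L) := ⟨x * a'.1 * x⁻¹, hALn.conj_mem a'.1 a'.2 x⟩
    rw [hact x a' b rfl, ← mul_inv_eq_one, ← map_inv, ← map_mul, hπ1]
    exact hc
  have hea : IsElementaryAbelian p ((Y.subgroupOf L).map φ) := by
    apply ea_map
    rw [← ea_map_iff L.subtype_injective, Subgroup.map_subgroupOf_eq_of_le f.yl]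
    exact f.ea
  have hfin : π a' = 1 := by
    rcases f.ty with ⟨F, i1, i2, hc, ⟨e⟩⟩ | ⟨rfl, F, i1, i2, m, hm, hc, hc', ⟨e⟩⟩ | ⟨rfl, r, hr, hr2, ⟨e⟩⟩
    · have hcp : CharP F p := by
        obtain ⟨n, hn⟩ := IsPGroup.iff_card.1 f.img_p
        have hF1 : 1 < Fintype.card F := Fintype.one_lt_card
        have hn0 : n ≠ 0 := by
          rintro rfl
          rw [hc, hn] at hF1; simp at hF1
        obtain ⟨l, hl⟩ := CharP.exists F
        have hlp : l.Prime := CharP.char_is_prime F l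
        obtain ⟨k, -, hk⟩ := FiniteField.card F l
        have h1 : l ∣ p ^ n := by
          rw [← hn, ← hc, hk]; exact dvd_pow_self l k.ne_zero
        have h2 : l = p := (Nat.prime_dvd_prime_iff_eq hlp Fact.out).1 (hlp.dvd_of_dvd_pow h1)
        rw [← h2]; exact hl
      exact sl_main f.img_p hc e hmd hk hfix
    · refine inv_main f.img_p ?_ hmd hk hfix
      apply INV.congr e
      apply inv_sz hm hc (ea_map _ hea)
      rw [Subgroup.card_map_of_injective e.injective, hc']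
    · refine inv_main f.img_p ?_ hmd hk hfix
      apply INV.congr e
      apply inv_dih hr hr2 (f.img_p.map _)
      rw [Ne, Subgroup.map_eq_bot_iff_of_injective _ e.injective]
      exact f.img_ne
  exact (hπ1 a').1 hfin

end LF
end

end Cfsg.Agent.H17.FL
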