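import Cfsg.Agent.H17_Frat
import Cfsg.Agent.H17_Act
import Cfsg.Agent.H17_Stab
import Cfsg.Agent.H1_Coprime2

set_option autoImplicit false

namespace Cfsg.Agent.H17.Base

open Cfsg
open scoped commutatorElement

variable {G : Type*} [Group G] {p : ℕ}

theorem mem_Cz_of_phi [Fact p.Prime] [Finite G] {A : Subgroup G} (hA : IsPGroup p A) {x : G} (hx : x ∈ Nz A)
    (hxp : (orderOf x).Coprime p) (h : ∀ k ∈ A, x * k * x⁻¹ * k⁻¹ ∈ phiOf A) : x ∈ Cz A := by
  have hz : Subgroup.zpowers x ≤ Nz A := by rw [Subgroup.zpowers_le]; exact hx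
  have h1 : x ∈ chainStab A (phiOf A) := ⟨hx, h⟩
  have h2 : Subgroup.zpowers x ≤ chainStab A (phiOf A) := by rw [Subgroup.zpowers_le]; exact h1
  have h3 := Cfsg.Agent.H1.Coprime.trivial_on_frattini_quotient (Subgroup.zpowers x) A hz (by
    rw [Nat.card_zpowers]
    have h4 : IsPGroup p ↥(frattini ↥A) := hA.to_subgroup _
    obtain ⟨n, hn⟩ := IsPGroup.iff_card.1 h4
    rw [hn]
    exact Nat.Coprime.pow_right _ hxp) (fun a ha k hk => (h2 ha).2 k hk)
  exact h3 (Subgroup.mem_zpowers x)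

theorem resOf_le_Cz_of_phi [Fact p.Prime] [Finite G] {A D : Subgroup G} (hA : IsPGroup p A)
    (h : D ≤ chainStab A (phiOf A)) : resOf p D ≤ Cz A := by
  rw [resOf_eq_closure, Subgroup.closure_le]
  rintro x ⟨hx, hxp⟩
  exact mem_Cz_of_phi hA (h hx).1 hxp (h hx).2

end Cfsg.Agent.H17.Base
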