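import Cfsg.Agent.H17_MFacts
import Cfsg.Agent.H17_Phi

/-! The family `ℌ_G(O_p(M))`. -/

set_option autoImplicit false
set_option linter.unusedSectionVars false
set_option linter.unusedVariables false

namespace Cfsg.Agent.H17.FrakM

open Cfsg Cfsg.Agent.H17.Base Cfsg.Agent.H17.Amalgam
open scoped commutatorElement

variable {G : Type*} [Group G] {p : ℕ}
variable [Fact p.Prime] [Finite G] {S M : Subgroup G}

theorem MF.pgroup_norm (h : MF p S M) (hasym : ¬ IsSymmetricIn (largestPReducedOf p M)) {L : Subgroup G}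
    (hOL : pCoreOf p M ≤ L) : pCoreOf p L ≤ Nz (pCoreOf p M) := by
  have h1 : IsPGroup p ↥(pCoreOf p M ⊔ pCoreOf p L) :=
    isPGroup_sup_of_le_Nz (pCoreOf_isPGroup M) (pCoreOf_isPGroup L) (hOL.trans (le_Nz_pCoreOf L))
  exact (le_sup_right.trans Subgroup.le_normalizer).trans (h.facts hasym h1 le_sup_left).1

theorem MF.charP_of (h : MF p S M) (hasym : ¬ IsSymmetricIn (largestPReducedOf p M)) {L H : Subgroup G}
    (hL : CharP p L) (hOH : pCoreOf p M ≤ H) (hHL : H ≤ L) : CharP p H := by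
  set O := pCoreOf p M with hO
  set B := pCoreOf p L with hB
  set PH := pCoreOf p H with hPH
  have hBO : B ≤ Nz O := h.pgroup_norm hasym (hOH.trans hHL)
  have hLB : L ≤ Nz B := le_Nz_pCoreOf L
  have hHB : H ≤ Nz B := hHL.trans hLB
  have hOB : O ≤ Nz B := hOH.trans hHB
  have hBp : IsPGroup p B := pCoreOf_isPGroup L
  have hHP : H ≤ Nz PH := le_Nz_pCoreOf H
  set C := H ⊓ Cz PH with hC
  have hHC : H ≤ Nz C := (le_inf Subgroup.le_normalizer (hHP.trans (Nz_le_Nz_Cz PH))).trans (Nz_inf_le _ _)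
  set R := resOf p C with hR
  have hRC : R ≤ C := resOf_le C
  have hRH : R ≤ H := hRC.trans inf_le_left
  have hHR : H ≤ Nz R := hHC.trans (Nz_le_Nz_resOf C)
  set E := ⁅B, O⁆ with hE
  have hEB : E ≤ B := commutator_le_left_iff.2 hOB
  have hEP : E ≤ PH := by
    have h1 : E ≤ B ⊓ H := le_inf hEB ((commutator_le_right_iff.2 hBO).trans hOH)
    refine h1.trans ?_
    apply le_pCoreOf inf_le_right _ (hBp.to_le inf_le_left)
    exact (le_inf hHB Subgroup.le_normalizer).trans (Nz_inf_le _ _)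
  have hRE : R ≤ Cz E := (hRC.trans inf_le_right).trans (Cz_anti hEP)
  have hOR : ⁅O, R⁆ ≤ R := commutator_le_right_iff.2 (hOH.trans hHR)
  have hcs : O ≤ chainStab B E := by
    rw [le_chainStab_iff hOB, Subgroup.commutator_comm]
  have hRn : R ≤ Nz (chainStab B E) :=
    (le_inf (hRH.trans hHB) (hRE.trans (Cz_le_Nz E))).trans (Nz_inf_le_Nz_chainStab _ _)
  have h1 : ⁅O, R⁆ ≤ chainStab B E :=
    (Subgroup.commutator_mono hcs le_rfl).trans (commutator_le_left_iff.2 hRn)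
  have h2 : resOf p ⁅O, R⁆ ≤ Cz B := resOf_le_Cz_of_chainStab (hBp.to_le hEB) h1 (hOR.trans hRE)
  have h3 : resOf p ⁅O, R⁆ = ⊥ := by
    rw [eq_bot_iff, resOf_eq_closure, Subgroup.closure_le]
    rintro x ⟨hx, hxp⟩
    exact hL.eq_one ((hOR.trans (hRH.trans hHL)) hx) (h2 (mem_resOf hx hxp)) hxp
  have h4 := isPGroup_of_resOf_eq_bot h3
  have h5 : ⁅O, R⁆ ≤ PH := by
    have h6 : ⁅O, R⁆ ≤ pCoreOf p R := le_pCoreOf hOR (Subgroup.normalizer_commutator_ge_right O R) h4
    exact h6.trans (pCoreOf_mono_normal hRH hHR)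
  have hRP : R ≤ Cz PH := hRC.trans inf_le_right
  have h6 : ⁅R, O ⊔ PH⁆ ≤ PH := by
    apply comm_sup_le' (hOH.trans hHP) Subgroup.le_normalizer (hRH.trans hHP)
    · rw [Subgroup.commutator_comm]; exact h5
    · exact commutator_le_right_iff.2 (hRH.trans hHP)
  have h7 : R ≤ Nz (O ⊔ PH) := by
    rw [← commutator_le_right_iff]
    exact h6.trans le_sup_right
  have h8 : R ≤ chainStab (O ⊔ PH) PH := (le_chainStab_iff h7).2 h6
  have h9 : R = ⊥ := by
    rw [eq_bot_iff, hR, resOf_eq_closure, Subgroup.closure_le]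
    rintro x ⟨hx, hxp⟩
    have hxR : x ∈ R := mem_resOf hx hxp
    have h10 : x ∈ Cz (O ⊔ PH) := mem_Cz_of_chainStab_p (pCoreOf_isPGroup H) (h8 hxR) (hRP hxR) hxp
    have h11 : x ∈ O := h.cz (Cz_anti le_sup_left h10)
    obtain ⟨k, hk⟩ := orderOf_of_mem_isPGroup (pCoreOf_isPGroup M) h11
    rw [hk] at hxp
    rcases Nat.eq_zero_or_pos k with h0 | h0
    · rw [h0, pow_zero, orderOf_eq_one_iff] at hk
      rw [hk]; exact (⊥ : Subgroup G).one_mem
    · exfalso
      have := (Nat.coprime_pow_left_iff h0 p p).1 hxp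
      rw [Nat.coprime_self] at this
      exact (Fact.out (p := p.Prime)).one_lt.ne' this
  have h10 : IsPGroup p C := isPGroup_of_resOf_eq_bot h9
  exact le_pCoreOf inf_le_left hHC h10

/-- ambient form of `ℌ_G(O_p(M))` -/
structure FH (p : ℕ) (M H : Subgroup G) : Prop where
  charP : CharP p H
  le : pCoreOf p M ≤ H
  not : ¬ largestPReducedOf p M ≤ pCoreOf p H
  min : ∀ P : Subgroup G, pCoreOf p M ≤ P → P < H → largestPReducedOf p M ≤ pCoreOf p P

theorem fh_iff {H : Subgroup G} : IsInFrakH p M H ↔ FH p M H := by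
  unfold IsInFrakH
  rw [Cfsg.Agent.H17.Base.charP_iff]
  exact ⟨fun ⟨a, b, c, d⟩ => ⟨a, b, c, d⟩, fun ⟨a, b, c, d⟩ => ⟨a, b, c, d⟩⟩

theorem charP_cj {X : Subgroup G} (h : CharP p X) (g : G) : CharP p (cj g X) := by
  unfold Cfsg.Agent.H17.Base.CharP at *
  rw [pCoreOf_cj, ← cj_Cz, ← cj_inf]
  exact cj_mono h

theorem MF.exists_fh (h : MF p S M) (hasym : ¬ IsSymmetricIn (largestPReducedOf p M))
    (htall : IsCharPTall p (largestPReducedOf p M)) : ∃ H, FH p M H := by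
  obtain ⟨T, L, hTL, hL, hYL⟩ := htall
  rw [Cfsg.Agent.H17.Base.charP_iff] at hL
  have hT := isSylowIn_map T
  obtain ⟨c, hc, hcT⟩ := hT.exists_conj h.syl
  have hcY : cj c (largestPReducedOf p M) = largestPReducedOf p M := cj_eq_of_mem_Nz (Cz_le_Nz _ hc)
  have hOL : pCoreOf p M ≤ cj c L := by rw [hcT]; exact cj_mono hTL
  have hL1 : CharP p (cj c L) := charP_cj hL c
  have hYL1 : ¬ largestPReducedOf p M ≤ pCoreOf p (cj c L) := by
    rw [pCoreOf_cj, ← hcY]
    intro h1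
    rw [cj_le_iff, cj_inv_cj] at h1
    exact hYL h1
  obtain ⟨H, hHL, hmin⟩ := exists_minimal_le_of_wellFoundedLT
    (fun H : Subgroup G => pCoreOf p M ≤ H ∧ ¬ largestPReducedOf p M ≤ pCoreOf p H) (cj c L) ⟨hOL, hYL1⟩
  refine ⟨H, h.charP_of hasym hL1 hmin.prop.1 hHL, hmin.prop.1, hmin.prop.2, ?_⟩
  intro P hOP hPH
  by_contra hne
  exact hPH.ne (le_antisymm hPH.le (hmin.le_of_le ⟨hOP, hne⟩ hPH.le))

/-! ### structure of `H ∈ ℌ_G(O_p(M))` -/

theorem FH.gen {H : Subgroup G} (f : FH p M H) : ncl H (pCoreOf p M) = H := by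
  by_contra hne
  have h1 : ncl H (pCoreOf p M) ≤ H := ncl_le f.le Subgroup.le_normalizer
  have h2 := f.min _ (le_ncl H _) (lt_of_le_of_ne h1 hne)
  exact f.not (h2.trans (pCoreOf_mono_normal h1 (le_Nz_ncl H _)))

theorem FH.sup {H : Subgroup G} (f : FH p M H) : resOf p H ⊔ pCoreOf p M = H := by
  by_contra hne
  have h1 : resOf p H ⊔ pCoreOf p M ≤ H := sup_le (resOf_le H) f.le
  have h2 := f.min _ le_sup_right (lt_of_le_of_ne h1 hne)
  exact f.not (h2.trans (sn_of_resOf_le (p := p) le_sup_left h1).pCoreOf_le)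

theorem FH.Y_le {H : Subgroup G} (f : FH p M H) : largestPReducedOf p M ≤ H :=
  (isPRed_largest M).le_pCoreOf.trans f.le

theorem FH.norm_comm {H : Subgroup G} (f : FH p M H) :
    H ≤ Nz ⁅resOf p H, largestPReducedOf p M⁆ ∧ H ≤ Nz (largestPReducedOf p M ⊔ ⁅resOf p H, largestPReducedOf p M⁆) := by
  set Y := largestPReducedOf p M with hY
  set O := pCoreOf p M with hO
  set R := resOf p H with hR
  have hONY : O ≤ Nz Y := (pCoreOf_le M).trans (isPRed_largest M).norm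
  have hONR : O ≤ Nz R := f.le.trans (le_Nz_resOf H)
  have h1 : O ≤ Nz ⁅R, Y⁆ := (le_inf hONR hONY).trans (Nz_commutator_le _ _)
  have h2 := f.sup
  rw [← hR, ← hO] at h2
  constructor
  · conv_lhs => rw [← h2]
    exact sup_le (Subgroup.normalizer_commutator_ge_left R Y) h1
  · conv_lhs => rw [← h2]
    exact sup_le le_Nz_sup_commutator ((le_inf hONY h1).trans (Nz_sup_le _ _))

theorem FH.comm {H : Subgroup G} (f : FH p M H) : ⁅resOf p H, largestPReducedOf p M⁆ = resOf p H := by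
  set Y := largestPReducedOf p M with hY
  set O := pCoreOf p M with hO
  set R := resOf p H with hR
  obtain ⟨h1, h2⟩ := f.norm_comm
  have hYH : Y ≤ H := f.Y_le
  have hYO : Y ≤ O := (isPRed_largest M).le_pCoreOf
  have hRY : ⁅R, Y⁆ ≤ R := commutator_le_left_iff.2 (hYH.trans (le_Nz_resOf H))
  apply le_antisymm hRY
  have hK : ncl H Y ≤ Y ⊔ ⁅R, Y⁆ := ncl_le le_sup_left h2
  have hP : ⁅R, Y⁆ ⊔ O = H := by
    by_contra hne
    have h3 : ⁅R, Y⁆ ⊔ O ≤ H := sup_le (hRY.trans (resOf_le H)) f.le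
    have h4 := f.min _ le_sup_right (lt_of_le_of_ne h3 hne)
    apply f.not
    have h5 : ncl H Y ≤ ⁅R, Y⁆ ⊔ O := hK.trans (sup_le (hYO.trans le_sup_right) le_sup_left)
    have h6 : ncl H Y ≤ H := ncl_le hYH Subgroup.le_normalizer
    have h7 : pCoreOf p (⁅R, Y⁆ ⊔ O) ⊓ ncl H Y ≤ pCoreOf p (ncl H Y) := by
      apply le_pCoreOf inf_le_right _ ((pCoreOf_isPGroup _).to_le inf_le_left)
      exact (le_inf (h5.trans (le_Nz_pCoreOf _)) Subgroup.le_normalizer).trans (Nz_inf_le _ _)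
    exact ((le_inf h4 (le_ncl H Y)).trans h7).trans (pCoreOf_mono_normal h6 (le_Nz_ncl H Y))
  exact resOf_le_of_sup h1 (pCoreOf_isPGroup M) hP

theorem FH.ncl_Y {H : Subgroup G} (f : FH p M H) :
    resOf p H ⊔ largestPReducedOf p M = ncl H (largestPReducedOf p M) := by
  obtain ⟨h1, h2⟩ := f.norm_comm
  have h3 := f.comm
  rw [h3] at h2
  apply le_antisymm
  · apply sup_le _ (le_ncl H _)
    rw [← h3]
    refine (Subgroup.commutator_mono (resOf_le H) (le_ncl H _)).trans ?_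
    exact commutator_le_right_iff.2 (le_Nz_ncl H _)
  · rw [sup_comm]
    exact ncl_le le_sup_left h2

theorem MF.syl_inf (h : MF p S M) (hasym : ¬ IsSymmetricIn (largestPReducedOf p M)) {H T : Subgroup G}
    (hOH : pCoreOf p M ≤ H) (hT : IsSylowIn p T (H ⊓ dg p M)) : IsSylowIn p T H := by
  obtain ⟨R, hOR, hR⟩ := exists_isSylowIn_ge (pCoreOf_isPGroup M) hOH
  have h1 := (h.facts hasym hR.isPGroup hOR).2
  have h2 : IsSylowIn p R (H ⊓ dg p M) := hR.mono (le_inf hR.le h1) inf_le_left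
  obtain ⟨g, hg, rfl⟩ := h2.exists_conj hT
  have := hR.conj g
  rwa [cj_eq_of_mem hg.1] at this

/-- if `N ⊴ H` does not contain `O^p(H)` then `N` is `p`-closed -/
theorem FH.pcl {H X : Subgroup G} (f : FH p M H) (hX : X ≤ H) (hn : H ≤ Nz X) (hres : ¬ resOf p H ≤ X) : PCl p X := by
  set Y := largestPReducedOf p M with hY
  set O := pCoreOf p M with hO
  have hXO : X ⊔ O ≤ H := sup_le hX f.le
  have h1 : X ⊔ O ≠ H := by
    intro h1
    exact hres (resOf_le_of_sup hn (pCoreOf_isPGroup M) h1)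
  have h2 := f.min _ le_sup_right (lt_of_le_of_ne hXO h1)
  have hHP : H ≤ Nz (pCoreOf p H) := le_Nz_pCoreOf H
  have h3 : ⁅Y, X⁆ ≤ pCoreOf p H := by
    have h4 : ⁅Y, X⁆ ≤ pCoreOf p (X ⊔ O) ⊓ X := by
      apply le_inf
      · refine (Subgroup.commutator_mono h2 le_rfl).trans (commutator_le_left_iff.2 ?_)
        exact le_sup_left.trans (le_Nz_pCoreOf _)
      · exact commutator_le_right_iff.2 (f.Y_le.trans hn)
    refine h4.trans ?_
    have h5 : pCoreOf p (X ⊔ O) ⊓ X ≤ pCoreOf p X := by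
      apply le_pCoreOf inf_le_right _ ((pCoreOf_isPGroup _).to_le inf_le_left)
      exact (le_inf (le_sup_left.trans (le_Nz_pCoreOf _)) Subgroup.le_normalizer).trans (Nz_inf_le _ _)
    exact h5.trans (pCoreOf_mono_normal hX hn)
  have h4 : ncl H Y ≤ chainStab X (pCoreOf p H) := by
    apply ncl_le
    · rw [le_chainStab_iff (f.Y_le.trans hn)]; exact h3
    · exact (le_inf hn hHP).trans (Nz_inf_le_Nz_chainStab _ _)
  have h5 : ⁅resOf p X, X⁆ ≤ pCoreOf p H := by
    rw [← le_chainStab_iff ((resOf_le X).trans Subgroup.le_normalizer)]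
    refine le_trans ?_ h4
    rw [← f.ncl_Y]
    exact (resOf_mono hX).trans le_sup_left
  obtain ⟨T, hT⟩ := exists_isSylowIn p X
  apply pcl_of_le_Nz hT
  conv_lhs => rw [← resOf_sup_sylow hT]
  apply sup_le _ Subgroup.le_normalizer
  rw [← commutator_le_right_iff]
  have h6 : pCoreOf p H ⊓ X ≤ T := by
    refine le_trans ?_ (pCoreOf_le_sylow hT)
    apply le_pCoreOf inf_le_right _ ((pCoreOf_isPGroup _).to_le inf_le_left)
    exact (le_inf (hX.trans hHP) Subgroup.le_normalizer).trans (Nz_inf_le _ _)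
  refine le_trans (le_inf ?_ ?_) h6
  · exact (Subgroup.commutator_mono le_rfl hT.le).trans h5
  · refine (Subgroup.commutator_mono le_rfl hT.le).trans ?_
    exact commutator_le_left_iff.2 (le_Nz_resOf X) |>.trans (resOf_le X)

theorem FH.not_pcl {H : Subgroup G} (f : FH p M H) : ¬ PCl p H := by
  intro h
  apply f.not
  exact (isPRed_largest M).le_pCoreOf.trans (h.le_pCoreOf f.le (pCoreOf_isPGroup M))

/-- `H P` with `P` a normal `p`-subgroup and `H` normal is `p`-irreducible -/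
theorem FH.pirr_sup {H H1 : Subgroup G} (f : FH p M H) (hHH : H ≤ H1) (hn : H1 ≤ Nz H)
    (hsup : H ⊔ pCoreOf p H1 = H1) : PIrr p H1 := by
  refine ⟨fun h => f.not_pcl (h.mono hHH), ?_⟩
  intro N hN hNn hcl
  by_contra hres
  apply hcl
  have hsnH : SN H1 H := SN.of_normal hHH hn
  have hHP : H ≤ Nz (pCoreOf p H1) := hHH.trans (le_Nz_pCoreOf H1)
  have hresH : resOf p H = resOf p H1 := hsnH.resOf_eq_of_sup (pCoreOf_isPGroup H1) hsup hHP
  set PP := pCoreOf p H1 with hPP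
  set N' := N ⊔ PP with hN'
  have hN'H : N' ≤ H1 := sup_le hN (pCoreOf_le H1)
  have hN'n : H1 ≤ Nz N' := (le_inf hNn (le_Nz_pCoreOf H1)).trans (Nz_sup_le _ _)
  have h1 : ¬ resOf p H1 ≤ N' := by
    intro h1
    apply hres
    have h2 := resOf_mono (p := p) h1
    rw [resOf_resOf, hN', (SN.of_normal hN hNn).sup_pCoreOf_resOf] at h2
    exact h2.trans (resOf_le N)
  set X := N' ⊓ H with hX
  have hXn : H ≤ Nz X := (le_inf (hHH.trans hN'n) Subgroup.le_normalizer).trans (Nz_inf_le _ _)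
  have hXc : PCl p X := by
    apply f.pcl inf_le_right hXn
    intro h2
    apply h1
    rw [← hresH]
    exact h2.trans inf_le_left
  have hN'X : N' = X ⊔ PP := by
    have h3 : (PP ⊔ H) ⊓ N' = PP ⊔ (H ⊓ N') := dedekind' (le_sup_right) hHP
    rw [sup_comm PP H, hsup, inf_eq_right.2 hN'H] at h3
    rw [hX, inf_comm N' H, sup_comm]
    exact h3
  have hXN' : N' ≤ Nz X := (le_inf Subgroup.le_normalizer (hN'H.trans hn)).trans (Nz_inf_le _ _)
  obtain ⟨T, hT⟩ := exists_isSylowIn p N'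
  have hPT : PP ≤ T := hT.le_of_normal (pCoreOf_isPGroup H1) le_sup_right (hN'H.trans (le_Nz_pCoreOf H1))
  have hTX : IsSylowIn p (T ⊓ X) X := hT.inf_normal inf_le_left hXN'
  have hTe : T = PP ⊔ (T ⊓ X) := by
    have hXP : X ≤ Nz PP := (inf_le_right.trans hHH).trans (le_Nz_pCoreOf H1)
    have h3 : (PP ⊔ X) ⊓ T = PP ⊔ (X ⊓ T) := dedekind' hPT hXP
    rw [sup_comm PP X, ← hN'X, inf_eq_right.2 hT.le, inf_comm X T] at h3
    exact h3
  have hNT : N' ≤ Nz T := by
    rw [hTe, hXc.sylow_eq hTX]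
    exact (le_inf (hN'H.trans (le_Nz_pCoreOf H1)) (hXN'.trans (Nz_le_Nz_pCoreOf X))).trans (Nz_sup_le _ _)
  exact (pcl_of_le_Nz hT hNT).mono le_sup_left

end Cfsg.Agent.H17.FrakM
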