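import Cfsg.Agent.H17_PRed2
import Cfsg.Agent.H17_SN
import Cfsg.Agent.H17_PIrr2
import Cfsg.Agent.H17_CommN
import Cfsg.Agent.H1_Basic

/-! The family `𝔐_H`. -/

set_option autoImplicit false

namespace Cfsg.Agent.H17.FrakM

open Cfsg Cfsg.Agent.H17.Base Cfsg.Agent.H17.Amalgam

variable {G : Type*} [Group G] {p : ℕ}

theorem isSylowIn_of_factor [Fact p.Prime] [Finite G] {N X L O P : Subgroup G} (hX : X ≤ L) (hn : L ≤ Nz N)
    (hNX : N ⊔ X = L) (hO : IsSylowIn p O N) (hOX : O ≤ X) (hP : IsSylowIn p P X) : IsSylowIn p P L := by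
  have hp := Fact.out (p := p.Prime)
  have hc := Cfsg.Agent.H1.Basic.card_sup_mul_card_inf (H := X) (K := N) (hX.trans hn)
  have hpos : ∀ K : Subgroup G, Nat.card K ≠ 0 := fun K => Nat.card_pos.ne'
  apply isSylowIn_of_card (hP.le.trans hX)
  rw [hP.card]
  congr 1
  rw [sup_comm, hNX] at hc
  have h1 : (Nat.card (X ⊓ N : Subgroup G)).factorization p = (Nat.card N).factorization p := by
    apply le_antisymm
    · exact (Nat.factorization_le_iff_dvd (hpos _) (hpos _)).2 (Subgroup.card_dvd_of_le inf_le_right) p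
    · rw [← hp.pow_dvd_iff_le_factorization (hpos _), ← hO.card]
      exact Subgroup.card_dvd_of_le (le_inf hOX hO.le)
  have h2 := congrArg (fun n => n.factorization p) hc
  simp only [Nat.factorization_mul (hpos _) (hpos _), Finsupp.add_apply] at h2
  omega

/-- The standing hypothesis: `T` Sylow in `G`, and `C_G(O_p(R)) ≤ O_p(R)` for `R ≥ T` with `O_p(R) ≠ 1` -/
structure Par (p : ℕ) (T : Subgroup G) : Prop where
  syl : IsSylowIn p T ⊤
  cz : ∀ R : Subgroup G, T ≤ R → pCoreOf p R ≠ ⊥ → Cz (pCoreOf p R) ≤ pCoreOf p R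

theorem Par.of_parabolic [Fact p.Prime] [Finite G] {T : Subgroup G} (hT : IsSylowIn p T ⊤)
    (h : IsOfParabolicCharacteristic p G) : Par p T := by
  refine ⟨hT, ?_⟩
  intro R hTR hP
  set P := pCoreOf p R with hPdef
  have hRN : R ≤ Nz P := le_Nz_pCoreOf R
  have h1 : CharP p (Nz P) := by
    rw [← Cfsg.Agent.H17.Base.charP_iff]
    exact h P (pCoreOf_isPGroup R) hP ⟨hT.toSylowTop, hTR.trans hRN⟩
  have h2 : CharP p (Cz P) := by
    apply SN.charP _ h1
    exact SN.of_normal (Cz_le_Nz P) (Nz_le_Nz_Cz P)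
  have h3 : pCoreOf p (Cz P) ≤ T :=
    ((pCoreOf_mono_normal (Cz_le_Nz P) (Nz_le_Nz_Cz P)).trans
      (pCoreOf_le_sylow (hT.mono (hTR.trans hRN) le_top)))
  have h4 : pCoreOf p (Cz P) ≤ P := by
    apply le_pCoreOf (h3.trans hTR) _ (pCoreOf_isPGroup _)
    exact (hRN.trans (Nz_le_Nz_Cz P)).trans (Nz_le_Nz_pCoreOf _)
  have h5 : Cz P ≤ Cz (pCoreOf p (Cz P)) := Cz_anti h4
  exact (le_inf le_rfl h5).trans (h2.trans h4)

theorem Par.charP {T R : Subgroup G} (h : Par p T) (hTR : T ≤ R) (hO : pCoreOf p R ≠ ⊥) : CharP p R :=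
  inf_le_right.trans (h.cz R hTR hO)

theorem mem_charPSubgroups_iff {R : Subgroup G} :
    R ∈ charPSubgroups p G ↔ pCoreOf p R ≠ ⊥ ∧ Cz (pCoreOf p R) ≤ pCoreOf p R := by
  unfold charPSubgroups pCoreOf
  rw [Set.mem_ofPred_eq, Ne, Ne, Subgroup.map_eq_bot_iff_of_injective _ R.subtype_injective]

theorem Par.mem {T R : Subgroup G} (h : Par p T) (hTR : T ≤ R) : R ∈ charPSubgroups p G ↔ pCoreOf p R ≠ ⊥ := by
  rw [mem_charPSubgroups_iff]
  exact ⟨fun h => h.1, fun hh => ⟨hh, h.cz R hTR hh⟩⟩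

set_option linter.unusedSectionVars false

section
variable [Fact p.Prime] [Finite G] {T : Subgroup G}

theorem Par.sylR (h : Par p T) {R : Subgroup G} (hTR : T ≤ R) : IsSylowIn p T R := h.syl.mono hTR le_top

theorem Par.Y_mono (h : Par p T) {X X' : Subgroup G} (hT : T ≤ X) (hX : X ≤ X') (hO : pCoreOf p X' ≠ ⊥) :
    largestPReducedOf p X ≤ largestPReducedOf p X' :=
  (le_ncl X' _).trans ((isPRed_largest X).ncl (h.charP (hT.trans hX) hO) (h.sylR (hT.trans hX)) hT hX).le_largest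

theorem Par.O_ne (h : Par p T) {X X' : Subgroup G} (hT : T ≤ X) (hX : X ≤ X') (hO : pCoreOf p X' ≠ ⊥) : pCoreOf p X ≠ ⊥ := by
  have h1 : pCoreOf p X' ≤ pCoreOf p X := by
    have h2 := (pCoreOf_le_sylow (h.sylR (hT.trans hX))).trans hT
    exact le_pCoreOf h2 (hX.trans (le_Nz_pCoreOf X')) (pCoreOf_isPGroup _)
  intro h2
  rw [h2, le_bot_iff] at h1
  exact hO h1

theorem Par.Y_ne (h : Par p T) {X : Subgroup G} (hT : T ≤ X) (hO : pCoreOf p X ≠ ⊥) : largestPReducedOf p X ≠ ⊥ := by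
  have hsyl := h.sylR hT
  have h1 : OZ p T ≤ largestPReducedOf p X :=
    (OZ_le_sylowCenterClosure hsyl).trans (isPRed_sylowCenterClosure (h.charP hT hO)).le_largest
  have hT1 : T ≠ ⊥ := by
    intro hT1
    apply hO
    rw [← le_bot_iff, ← hT1]; exact pCoreOf_le_sylow hsyl
  obtain ⟨z, hz, hzo, hzc⟩ := exists_central_orderOf hsyl.isPGroup hT1
  intro h2
  rw [h2, le_bot_iff] at h1
  have h3 : z ∈ OZ p T := by
    rw [mem_OZ_iff]
    exact ⟨hz, hzc, by rw [← hzo]; exact pow_orderOf_eq_one z⟩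
  rw [h1, Subgroup.mem_bot] at h3
  rw [h3, orderOf_one] at hzo
  exact (Fact.out (p := p.Prime)).one_lt.ne hzo

theorem Par.Y_le (h : Par p T) {X : Subgroup G} (hT : T ≤ X) : largestPReducedOf p X ≤ T :=
  (isPRed_largest X).le_pCoreOf.trans (pCoreOf_le_sylow (h.sylR hT))

/-- `X† = X C(Y_X)` -/
abbrev dg (p : ℕ) (X : Subgroup G) : Subgroup G := X ⊔ Cz (largestPReducedOf p X)

theorem Y_dg_norm (X : Subgroup G) : dg p X ≤ Nz (largestPReducedOf p X) :=
  sup_le (isPRed_largest X).norm (Cz_le_Nz _)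

theorem isPRed_dg (X : Subgroup G) : IsPRed p (largestPReducedOf p X) (dg p X) := by
  have hY := isPRed_largest (p := p) X
  refine ⟨hY.le.trans le_sup_left, Y_dg_norm X, hY.ea, ?_⟩
  exact hY.noP.congr hY.norm (Y_dg_norm X) (le_sup_left.trans le_sup_left) le_rfl

theorem Par.dg_O_ne (h : Par p T) {X : Subgroup G} (hT : T ≤ X) (hO : pCoreOf p X ≠ ⊥) : pCoreOf p (dg p X) ≠ ⊥ := by
  intro h1
  apply h.Y_ne hT hO
  rw [← le_bot_iff, ← h1]
  exact (isPRed_dg X).le_pCoreOf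

/-- `X ≪ X'` -/
def LL (p : ℕ) (X X' : Subgroup G) : Prop :=
  largestPReducedOf p X ≤ largestPReducedOf p X' ∧
    X ≤ (X' ⊓ Nz (largestPReducedOf p X)) ⊔ Cz (largestPReducedOf p X)

theorem mem_NC {X Y : Subgroup G} {x : G} : x ∈ (X ⊓ Nz Y) ⊔ Cz Y ↔ ∃ a ∈ X, a ∈ Nz Y ∧ ∃ c ∈ Cz Y, x = a * c := by
  rw [mem_sup_of_le_Nz (inf_le_right.trans (Nz_le_Nz_Cz Y))]
  constructor
  · rintro ⟨a, ⟨ha, ha'⟩, b, hb, h⟩; exact ⟨a, ha, ha', b, hb, h⟩
  · rintro ⟨a, ha, ha', b, hb, h⟩; exact ⟨a, ⟨ha, ha'⟩, b, hb, h⟩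

theorem LL.trans {X X' X'' : Subgroup G} (h1 : LL p X X') (h2 : LL p X' X'') : LL p X X'' := by
  refine ⟨h1.1.trans h2.1, ?_⟩
  intro x hx
  obtain ⟨a, ha, haN, c, hc, rfl⟩ := mem_NC.1 (h1.2 hx)
  obtain ⟨b, hb, hbN, d, hd, rfl⟩ := mem_NC.1 (h2.2 ha)
  rw [mem_NC]
  have hd' : d ∈ Cz (largestPReducedOf p X) := Cz_anti h1.1 hd
  refine ⟨b, hb, ?_, d * c, (Cz _).mul_mem hd' hc, by group⟩
  have h3 := (Nz (largestPReducedOf p X)).mul_mem haN ((Nz _).inv_mem (Cz_le_Nz _ hd'))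
  have e : b * d * d⁻¹ = b := by group
  rwa [e] at h3

theorem Par.LL_of_le (h : Par p T) {X X' : Subgroup G} (hT : T ≤ X) (hX : X ≤ X') (hO : pCoreOf p X' ≠ ⊥) : LL p X X' := by
  refine ⟨h.Y_mono hT hX hO, ?_⟩
  exact (le_inf hX (isPRed_largest X).norm).trans le_sup_left

theorem LL.dg_le {X X' : Subgroup G} (h : LL p X X') (he : largestPReducedOf p X = largestPReducedOf p X') :
    dg p X ≤ dg p X' := by
  apply sup_le
  · refine h.2.trans (sup_le (inf_le_left.trans le_sup_left) ?_)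
    rw [he]; exact le_sup_right
  · rw [he]; exact le_sup_right

theorem frattini_iff {N M : Subgroup G} (hNM : N ≤ M) :
    (N.subgroupOf M).map (QuotientGroup.mk' (pCore p ↥M)) ≤ frattini (↥M ⧸ pCore p ↥M) ↔
      ∀ K : Subgroup G, K ≤ M → pCoreOf p M ≤ K → N ⊔ K = M → K = M := by
  have hOe : (pCoreOf p M).subgroupOf M = pCore p ↥M := by
    unfold pCoreOf
    ext x; simp [Subgroup.mem_subgroupOf]
  have htop : ∀ K : Subgroup G, K ≤ M → pCoreOf p M ≤ K →
      ((K.subgroupOf M).map (QuotientGroup.mk' (pCore p ↥M)) = ⊤ ↔ K = M) := by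
    intro K hK hOK
    rw [map_mk_eq_top_iff, ← hOe, ← Subgroup.subgroupOf_sup hK (pCoreOf_le M), sup_eq_left.2 hOK, Subgroup.subgroupOf_eq_top]
    exact ⟨fun h => le_antisymm hK h, fun h => h.ge⟩
  constructor
  · intro h K hK hOK hNK
    rw [← htop K hK hOK]
    apply frattini_nongenerating
    rw [← top_le_iff]
    have h1 : ((N ⊔ K).subgroupOf M).map (QuotientGroup.mk' (pCore p ↥M)) = ⊤ := by
      rw [htop _ (sup_le hNM hK) (hOK.trans le_sup_right)]; exact hNK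
    rw [← h1, Subgroup.subgroupOf_sup hNM hK, Subgroup.map_sup, sup_comm]
    exact sup_le_sup_left h _
  · intro h
    unfold frattini Order.radical
    apply le_iInf₂
    intro K hK
    by_contra hne
    set K1 := (K.comap (QuotientGroup.mk' (pCore p ↥M))).map M.subtype with hK1
    have hK1M : K1 ≤ M := Subgroup.map_subtype_le _
    have hK1s : K1.subgroupOf M = K.comap (QuotientGroup.mk' (pCore p ↥M)) := by
      rw [hK1]; ext x; simp [Subgroup.mem_subgroupOf]
    have hOK1 : pCoreOf p M ≤ K1 := by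
      apply Subgroup.map_mono
      have := MonoidHom.ker_le_comap (QuotientGroup.mk' (pCore p ↥M)) K
      rwa [QuotientGroup.ker_mk'] at this
    have hKb : (K1.subgroupOf M).map (QuotientGroup.mk' (pCore p ↥M)) = K := by
      rw [hK1s, Subgroup.map_comap_eq_self_of_surjective (QuotientGroup.mk'_surjective _)]
    have h1 : N ⊔ K1 = M := by
      rw [← htop (N ⊔ K1) (sup_le hNM hK1M) (hOK1.trans le_sup_right), Subgroup.subgroupOf_sup hNM hK1M, Subgroup.map_sup, hKb]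
      apply hK.2
      refine lt_of_le_of_ne le_sup_right ?_
      intro h2
      rw [h2] at hne
      exact hne le_sup_left
    have h2 := h K1 hK1M hOK1 h1
    rw [← htop K1 hK1M hOK1, hKb] at h2
    exact hK.1 h2

theorem isInFrakM_iff {M : Subgroup G} : IsInFrakM p M ↔
    M ∈ charPSubgroups p G ∧ dg p M ∈ maxCharPSubgroups p G ∧ (∀ X ∈ maxCharPSubgroups p G, M ≤ X → X = dg p M) ∧
      largestPReducedOf p M = largestPReducedOf p (dg p M) ∧ PCl p (M ⊓ Cz (largestPReducedOf p M)) ∧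
      ∀ K : Subgroup G, K ≤ M → pCoreOf p M ≤ K → (M ⊓ Cz (largestPReducedOf p M)) ⊔ K = M → K = M := by
  unfold IsInFrakM
  rw [isPClosed_iff, frattini_iff inf_le_left]

/-- Existence of `M ∈ 𝔐_G` above `L` -/
theorem Par.exists_frakM (h : Par p T) {L : Subgroup G} (hTL : T ≤ L) (hLO : pCoreOf p L ≠ ⊥) :
    ∃ M Ls : Subgroup G, T ≤ M ∧ IsInFrakM p M ∧ T ≤ Ls ∧ Ls ≤ M ∧ pCoreOf p Ls ≠ ⊥ ∧
      largestPReducedOf p L = largestPReducedOf p Ls ∧ largestPReducedOf p L ≤ largestPReducedOf p M ∧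
      L ⊔ Cz (largestPReducedOf p L) = Ls ⊔ Cz (largestPReducedOf p L) := by
  -- the maximal `X`
  set μ : Subgroup G → ℕ := fun X => Nat.card (largestPReducedOf p X) * (Nat.card G + 1) + Nat.card (dg p X) with hμ
  set S : Set (Subgroup G) := {X | T ≤ X ∧ pCoreOf p X ≠ ⊥ ∧ LL p L X} with hS
  obtain ⟨X, ⟨hTX, hXO, hLX⟩, hmax⟩ := Set.exists_max_image S μ (Set.toFinite S)
    ⟨L, hTL, hLO, h.LL_of_le hTL le_rfl hLO⟩
  have hkey : ∀ K, T ≤ K → pCoreOf p K ≠ ⊥ → LL p X K →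
      largestPReducedOf p X = largestPReducedOf p K ∧ dg p X = dg p K := by
    intro K hTK hKO hXK
    have h1 := hmax K ⟨hTK, hKO, hLX.trans hXK⟩
    simp only [hμ] at h1
    have h2 : Nat.card (largestPReducedOf p X) ≤ Nat.card (largestPReducedOf p K) := Subgroup.card_le_of_le hXK.1
    have h3 : Nat.card (dg p X) ≤ Nat.card G := Subgroup.card_le_card_group _
    have h4 : Nat.card (largestPReducedOf p X) = Nat.card (largestPReducedOf p K) := by
      by_contra hne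
      have h5 : Nat.card (largestPReducedOf p X) + 1 ≤ Nat.card (largestPReducedOf p K) := by omega
      have h6 := Nat.mul_le_mul_right (Nat.card G + 1) h5
      rw [add_mul, one_mul] at h6
      omega
    have h5 : largestPReducedOf p X = largestPReducedOf p K := Subgroup.eq_of_le_of_card_ge hXK.1 h4.ge
    refine ⟨h5, ?_⟩
    apply Subgroup.eq_of_le_of_card_ge (hXK.dg_le h5)
    rw [h4] at h1
    omega
  set Y := largestPReducedOf p X with hY
  have hdO : pCoreOf p (dg p X) ≠ ⊥ := h.dg_O_ne hTX hXO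
  have hTd : T ≤ dg p X := hTX.trans le_sup_left
  have hYd : largestPReducedOf p (dg p X) = Y := (hkey (dg p X) hTd hdO (h.LL_of_le hTX le_sup_left hdO)).1.symm
  -- minimal `M`
  obtain ⟨M, hMmin⟩ : ∃ M, Minimal (fun M : Subgroup G => T ≤ M ∧ M ⊔ Cz Y = dg p X) M := by
    obtain ⟨M, -, h⟩ := exists_minimal_le_of_wellFoundedLT (fun M : Subgroup G => T ≤ M ∧ M ⊔ Cz Y = dg p X) (dg p X)
      ⟨hTd, sup_eq_left.2 le_sup_right⟩
    exact ⟨M, h⟩
  obtain ⟨hTM, hMC⟩ := hMmin.prop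
  have hmin : ∀ K, T ≤ K → K ≤ M → K ⊔ Cz Y = dg p X → K = M := fun K h1 h2 h3 => le_antisymm h2 (hMmin.le_of_le ⟨h1, h3⟩ h2)
  have hMd : M ≤ dg p X := hMC ▸ le_sup_left
  have hMO : pCoreOf p M ≠ ⊥ := h.O_ne hTM hMd hdO
  have hMNY : M ≤ Nz Y := hMd.trans (Y_dg_norm X)
  have hYM : largestPReducedOf p M = Y := by
    apply le_antisymm
    · rw [← hYd]; exact h.Y_mono hTM hMd hdO
    · have h1 := isPRed_dg (p := p) X
      have h2 : IsPRed p Y M := by
        refine ⟨(h.Y_le hTX).trans hTM, hMNY, h1.ea, ?_⟩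
        exact h1.noP.congr h1.norm hMNY (by rw [hMC]) (hMd.trans le_sup_left)
      exact h2.le_largest
  have hdgM : dg p M = dg p X := by rw [← hMC]; show M ⊔ _ = _; rw [hYM]
  have hCM : M ≤ Nz (M ⊓ Cz Y) := (le_inf Subgroup.le_normalizer (hMNY.trans (Nz_le_Nz_Cz Y))).trans (Nz_inf_le _ _)
  have hTMs : IsSylowIn p T M := h.sylR hTM
  have hT0 : IsSylowIn p (T ⊓ (M ⊓ Cz Y)) (M ⊓ Cz Y) := hTMs.inf_normal inf_le_left hCM
  have hPC : PCl p (M ⊓ Cz Y) := by
    apply pcl_of_le_Nz hT0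
    have h1 := frattini_le hT0 inf_le_left hCM
    have h2 : M ⊓ Nz (T ⊓ (M ⊓ Cz Y)) = M := by
      apply hmin _ _ inf_le_left
      · apply le_antisymm
        · rw [← hMC]; exact sup_le_sup_right inf_le_left _
        · rw [← hMC]
          refine sup_le ?_ le_sup_right
          conv_lhs => rw [← h1]
          exact sup_le (inf_le_right.trans le_sup_right) le_sup_left
      · apply le_inf hTM
        exact (le_inf Subgroup.le_normalizer (hTM.trans hCM)).trans (Nz_inf_le _ _)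
    rw [inf_eq_left] at h2
    exact inf_le_left.trans h2
  have hXdg : LL p X (dg p X) := h.LL_of_le hTX le_sup_left hdO
  have hXM : LL p X M := by
    refine ⟨hYM.ge, ?_⟩
    rw [← hY, inf_eq_left.2 hMNY, hMC]
    exact le_sup_left
  have hmaxd : dg p X ∈ maxCharPSubgroups p G := by
    refine ⟨(h.mem hTd).2 hdO, ?_⟩
    intro K hK hdK
    have hTK := hTd.trans hdK
    have hKO := (h.mem hTK).1 hK
    have h1 := (hkey K hTK hKO (h.LL_of_le hTX (le_sup_left.trans hdK) hKO)).2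
    apply le_antisymm _ hdK
    rw [h1]; exact le_sup_left
  have hM : IsInFrakM p M := by
    rw [isInFrakM_iff, hdgM, hYM]
    refine ⟨(h.mem hTM).2 hMO, hmaxd, ?_, hYd.symm, hPC, ?_⟩
    · intro X' hX' hMX'
      have hTX' := hTM.trans hMX'
      have hX'O := (h.mem hTX').1 hX'.1
      have h1 := (hkey X' hTX' hX'O (hXM.trans (h.LL_of_le hTM hMX' hX'O))).2
      exact (hX'.2 (dg p X) ((h.mem hTd).2 hdO) (h1 ▸ le_sup_left)).symm
    · intro K hKM hOK hK
      obtain ⟨P, hP⟩ := exists_isSylowIn p K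
      have hOle : T ⊓ (M ⊓ Cz Y) ≤ pCoreOf p M := by
        have h1 := hPC.sylow_eq hT0
        rw [h1]
        exact pCoreOf_mono_normal inf_le_left hCM
      have hPM : IsSylowIn p P M := isSylowIn_of_factor hKM hCM hK hT0 (hOle.trans hOK) hP
      obtain ⟨m, hm, hmT⟩ := hPM.exists_conj hTMs
      have h1 : T ≤ cj m K := hmT.le.trans (cj_mono hP.le)
      have h2 : cj m K ≤ M := by
        have := cj_mono (g := m) hKM
        rwa [cj_eq_of_mem hm] at this
      have h3 : cj m K ⊔ Cz Y = dg p X := by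
        have h4 : K ⊔ Cz Y = dg p X := by
          apply le_antisymm
          · rw [← hMC]; exact sup_le_sup_right hKM _
          · rw [← hMC]
            refine sup_le ?_ le_sup_right
            conv_lhs => rw [← hK]
            exact sup_le (inf_le_right.trans le_sup_right) le_sup_left
        have h5 := congrArg (cj m) h4
        rw [cj_sup, cj_Cz, cj_eq_of_mem_Nz (hMNY hm), cj_eq_of_mem (hMd hm)] at h5
        exact h5
      have h4 := hmin _ h1 h2 h3
      have h5 := congrArg (cj m⁻¹) h4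
      rwa [cj_inv_cj, cj_eq_of_mem (M.inv_mem hm)] at h5
  have hLM : LL p L M := hLX.trans hXM
  -- `L*`
  set YL := largestPReducedOf p L with hYL
  have hLsyl : IsSylowIn p T L := h.sylR hTL
  obtain ⟨f1, f2, f3, f4, f5, f6⟩ := largest_facts (h.charP hTL hLO) hLsyl (T0 := T ⊓ Cz YL) rfl
  set T0 := T ⊓ Cz YL with hT0def
  have hdL := Y_dg_norm (p := p) L
  have hCd : dg p L ≤ Nz (Cz YL) := hdL.trans (Nz_le_Nz_Cz YL)
  have hTdL : T ≤ dg p L := hTL.trans le_sup_left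
  set Ls := M ⊓ dg p L ⊓ Nz T0 with hLs
  have hTN : T ≤ Nz T0 := by
    refine (le_inf Subgroup.le_normalizer ?_).trans (Nz_inf_le _ _)
    exact (hTL.trans (isPRed_largest L).norm).trans (Nz_le_Nz_Cz YL)
  have hTLs : T ≤ Ls := le_inf (le_inf hTM hTdL) hTN
  have hT0p : IsPGroup p T0 := h.syl.isPGroup.to_le inf_le_left
  have hT0Ls : T0 ≤ pCoreOf p Ls := le_pCoreOf (inf_le_left.trans hTLs) inf_le_right hT0p
  have hYLT0 : YL ≤ T0 := le_inf (h.Y_le hTL) (ea_iff.1 (isPRed_largest L).ea).1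
  have hYLne : YL ≠ ⊥ := h.Y_ne hTL hLO
  have hLsO : pCoreOf p Ls ≠ ⊥ := by
    intro h1
    apply hYLne
    rw [← le_bot_iff, ← h1]
    exact hYLT0.trans hT0Ls
  -- `L† = (M ∩ L†) C(Y_L)`
  have hA : (M ⊓ dg p L) ⊔ Cz YL = dg p L := by
    apply le_antisymm (sup_le inf_le_right le_sup_right)
    apply sup_le _ le_sup_right
    intro x hx
    obtain ⟨a, ha, haN, c, hc, rfl⟩ := mem_NC.1 (hLM.2 hx)
    have h1 : a ∈ dg p L := by
      have h2 := (dg p L).mul_mem ((le_sup_left : L ≤ dg p L) hx) ((le_sup_right : Cz YL ≤ dg p L) ((Cz YL).inv_mem hc))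
      have e : a * c * c⁻¹ = a := by group
      rwa [e] at h2
    exact (((M ⊓ dg p L) ⊔ Cz YL)).mul_mem ((le_sup_left : M ⊓ dg p L ≤ _) ⟨ha, h1⟩) ((le_sup_right : Cz YL ≤ _) hc)
  have hB : Ls ⊔ Cz YL = dg p L := by
    have hs : IsSylowIn p T (M ⊓ dg p L) := h.sylR (le_inf hTM hTdL)
    have hn : M ⊓ dg p L ≤ Nz ((M ⊓ dg p L) ⊓ Cz YL) :=
      (le_inf Subgroup.le_normalizer (inf_le_right.trans hCd)).trans (Nz_inf_le _ _)
    have hs2 := hs.inf_normal inf_le_left hn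
    have e : T ⊓ ((M ⊓ dg p L) ⊓ Cz YL) = T0 := by
      rw [hT0def, ← inf_assoc, inf_eq_left.2 (le_inf hTM hTdL)]
    rw [e] at hs2
    have h1 := frattini_le hs2 inf_le_left hn
    apply le_antisymm (sup_le (inf_le_left.trans inf_le_right) le_sup_right)
    refine hA.symm.le.trans ?_
    refine sup_le ?_ le_sup_right
    conv_lhs => rw [← h1]
    exact sup_le (inf_le_right.trans le_sup_right) le_sup_left
  have hLsN : Ls ≤ Nz YL := (inf_le_left.trans inf_le_right).trans hdL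
  refine ⟨M, Ls, hTM, hM, hTLs, inf_le_left.trans inf_le_left, hLsO, ?_, ?_, ?_⟩
  · apply le_antisymm
    · have h1 := isPRed_dg (p := p) L
      have h2 : IsPRed p YL Ls := by
        refine ⟨(h.Y_le hTL).trans hTLs, hLsN, h1.ea, ?_⟩
        exact h1.noP.congr h1.norm hLsN (by rw [hB]) ((inf_le_left.trans inf_le_right).trans le_sup_left)
      exact h2.le_largest
    · have h1 := isPRed_largest (p := p) Ls
      have h2 : largestPReducedOf p Ls ≤ Cz T0 := le_Cz_comm.1 (hT0Ls.trans h1.pCoreOf_le_Cz)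
      have f5' : YL = OZ p T0 := f5
      rw [f5']
      apply Cfsg.Agent.H17.Base.le_OZ h1.ea _ h2
      exact le_inf (h.Y_le hTLs) (h2.trans (Cz_anti hYLT0))
  · exact hLM.1
  · exact hB.symm

end

end Cfsg.Agent.H17.FrakM
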