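import Cfsg.Agent.H17_PIrr2

/-! Weakly closed subgroups, large subgroups. -/

set_option autoImplicit false
open Cfsg
open scoped commutatorElement

namespace Cfsg.Agent.H17.Base
open Cfsg.Agent.H17.Amalgam

variable {G : Type*} [Group G] {p : ℕ}

/-- `Q` is weakly closed in `K` (ambient form): `Q` is normal in the normalizer of every `p`-overgroup -/
def WCl (p : ℕ) (Q K : Subgroup G) : Prop :=
  ∀ R : Subgroup G, R ≤ K → IsPGroup p R → Q ≤ R → K ⊓ Nz R ≤ Nz Q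

theorem WCl.mono {Q K L : Subgroup G} (h : WCl p Q K) (hL : L ≤ K) : WCl p Q L :=
  fun R hR hp hQR => (inf_le_inf_right _ hL).trans (h R (hR.trans hL) hp hQR)

theorem WCl.le_Nz {Q K R : Subgroup G} (h : WCl p Q K) (hR : R ≤ K) (hp : IsPGroup p R) (hQR : Q ≤ R) : R ≤ Nz Q :=
  (le_inf hR Subgroup.le_normalizer).trans (h R hR hp hQR)

theorem WCl.cj {Q K : Subgroup G} (h : WCl p Q K) (g : G) :
    WCl p (Cfsg.Agent.H17.Base.cj g Q) (Cfsg.Agent.H17.Base.cj g K) := by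
  intro R hR hp hQR
  have h1 := h (Cfsg.Agent.H17.Base.cj g⁻¹ R) (by rw [cj_le_iff, inv_inv]; exact hR) (cj_isPGroup hp) (by rw [le_cj_iff, inv_inv]; exact hQR)
  have h2 := cj_mono (g := g) h1
  rw [cj_inf, cj_Nz, cj_cj_inv, cj_Nz] at h2
  exact h2

/-- conjugates of `Q` in a `p`-subgroup coincide -/
theorem WCl.eq_of_le [Fact p.Prime] {Q K R : Subgroup G} [Finite K] (h : WCl p Q K) (hR : R ≤ K)
    (hp : IsPGroup p R) (hQR : Q ≤ R) {g : G} (hg : g ∈ K) (hgR : Cfsg.Agent.H17.Base.cj g Q ≤ R) :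
    Cfsg.Agent.H17.Base.cj g Q = Q := by
  obtain ⟨T, hRT, hT⟩ := exists_isSylowIn_ge hp hR
  have hgK : Cfsg.Agent.H17.Base.cj g K = K := cj_eq_of_mem hg
  have h1 : WCl p (Cfsg.Agent.H17.Base.cj g Q) K := by have := h.cj g; rwa [hgK] at this
  -- T and cj g T both normalize cj g Q
  have h2 : T ≤ Nz (Cfsg.Agent.H17.Base.cj g Q) := h1.le_Nz hT.le hT.isPGroup (hgR.trans hRT)
  have h3 : Cfsg.Agent.H17.Base.cj g T ≤ Nz (Cfsg.Agent.H17.Base.cj g Q) := by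
    rw [← cj_Nz]; exact cj_mono (h.le_Nz hT.le hT.isPGroup (hQR.trans hRT))
  have hgT : IsSylowIn p (Cfsg.Agent.H17.Base.cj g T) K := by have := hT.conj g; rwa [hgK] at this
  set N := K ⊓ Nz (Cfsg.Agent.H17.Base.cj g Q) with hN
  have hfN : Finite N := finite_of_le (inf_le_left : N ≤ K)
  have s1 : IsSylowIn p T N := hT.mono (le_inf hT.le h2) inf_le_left
  have s2 : IsSylowIn p (Cfsg.Agent.H17.Base.cj g T) N := hgT.mono (le_inf hgT.le h3) inf_le_left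
  obtain ⟨n, hn, hnT⟩ := s2.exists_conj s1
  rw [← cj_mul] at hnT
  have h4 : n * g ∈ Nz T := by rw [mem_Nz_iff_cj]; exact hnT.symm
  have h5 : n * g ∈ Nz Q := h T hT.le hT.isPGroup (hQR.trans hRT) ⟨mul_mem hn.1 hg, h4⟩
  have h6 := cj_eq_of_mem_Nz h5
  rw [cj_mul] at h6
  have h7 : Cfsg.Agent.H17.Base.cj n (Cfsg.Agent.H17.Base.cj g Q) = Cfsg.Agent.H17.Base.cj g Q := cj_eq_of_mem_Nz hn.2
  rw [h7] at h6
  exact h6

theorem WCl.eq_of_le' [Fact p.Prime] {Q K R : Subgroup G} [Finite K] (h : WCl p Q K) (hR : R ≤ K)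
    (hp : IsPGroup p R) {a b : G} (ha : a ∈ K) (hb : b ∈ K) (haR : Cfsg.Agent.H17.Base.cj a Q ≤ R)
    (hbR : Cfsg.Agent.H17.Base.cj b Q ≤ R) : Cfsg.Agent.H17.Base.cj a Q = Cfsg.Agent.H17.Base.cj b Q := by
  have h1 : Cfsg.Agent.H17.Base.cj (a⁻¹ * b) Q = Q := by
    apply h.eq_of_le (R := Cfsg.Agent.H17.Base.cj a⁻¹ R)
    · have := cj_mono (g := a⁻¹) hR
      rwa [cj_eq_of_mem (inv_mem ha)] at this
    · exact cj_isPGroup hp
    · rw [le_cj_iff, inv_inv]; exact haR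
    · exact mul_mem (inv_mem ha) hb
    · rw [cj_mul]; exact cj_mono hbR
  have h2 : b = a * (a⁻¹ * b) := by group
  rw [h2, cj_mul, h1]

/-- `K`-fusion of conjugates of `Q` inside `L` is controlled by `L` -/
theorem WCl.exists_conj [Fact p.Prime] {Q K L : Subgroup G} [Finite K] (h : WCl p Q K) (hQ : IsPGroup p Q) (hL : L ≤ K) (hQL : Q ≤ L)
    {g : G} (hg : g ∈ K) (hgL : Cfsg.Agent.H17.Base.cj g Q ≤ L) :
    ∃ l ∈ L, Cfsg.Agent.H17.Base.cj g Q = Cfsg.Agent.H17.Base.cj l Q := by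
  have hfL : Finite L := finite_of_le hL
  obtain ⟨T, hQT, hT⟩ := exists_isSylowIn_ge hQ hQL
  obtain ⟨l, hl, hlT⟩ := hT.exists_conj_le (cj_isPGroup hQ (g := g)) hgL
  have h1 := h.eq_of_le (R := T) (hT.le.trans hL) hT.isPGroup hQT (g := l * g) (mul_mem (hL hl) hg) (by rw [cj_mul]; exact hlT)
  refine ⟨l⁻¹, inv_mem hl, ?_⟩
  rw [cj_mul] at h1
  have h2 := congrArg (Cfsg.Agent.H17.Base.cj l⁻¹) h1
  rwa [cj_inv_cj] at h2

/-- first criterion -/
theorem wcl_of_comm [Fact p.Prime] {Q K : Subgroup G} [Finite K]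
    (h : ∀ g ∈ K, ⁅Q, Cfsg.Agent.H17.Base.cj g Q⁆ ≤ Q ⊓ Cfsg.Agent.H17.Base.cj g Q → Cfsg.Agent.H17.Base.cj g Q = Q) : WCl p Q K := by
  intro R hRK hp hQR
  -- R normalizes Q
  have hRn : R ≤ Nz Q := by
    by_contra hne
    have h1 : R ⊓ Nz Q < R := lt_of_le_of_ne inf_le_left (fun h' => hne (h' ▸ inf_le_right))
    have hfR : Finite R := finite_of_le hRK
    obtain ⟨x, hx, hxN, hxQ⟩ := exists_mem_Nz_notMem hp h1
    apply hxQ
    refine ⟨hx, ?_⟩
    show x ∈ Nz Q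
    rw [mem_Nz_iff_cj]
    apply h x (hRK hx)
    have hcQ : Cfsg.Agent.H17.Base.cj x Q ≤ R ⊓ Nz Q := by
      have h2 : Q ≤ R ⊓ Nz Q := le_inf hQR Subgroup.le_normalizer
      have h3 := cj_mono (g := x) h2
      rwa [cj_eq_of_mem_Nz hxN] at h3
    have hcN : R ⊓ Nz Q ≤ Nz (Cfsg.Agent.H17.Base.cj x Q) := by
      have h3 := cj_mono (g := x) (inf_le_right : R ⊓ Nz Q ≤ Nz Q)
      rw [cj_eq_of_mem_Nz hxN, cj_Nz] at h3
      exact h3
    apply le_inf
    · rw [commutator_le_left_iff]; exact hcQ.trans inf_le_right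
    · rw [commutator_le_right_iff]; exact (le_inf hQR Subgroup.le_normalizer).trans hcN
  rintro g ⟨hgK, hgR⟩
  rw [mem_Nz_iff_cj]
  apply h g hgK
  have hcR : Cfsg.Agent.H17.Base.cj g Q ≤ R := by
    have := cj_mono (g := g) hQR
    rwa [cj_eq_of_mem_Nz hgR] at this
  have hcN : R ≤ Nz (Cfsg.Agent.H17.Base.cj g Q) := by
    have := cj_mono (g := g) hRn
    rwa [cj_eq_of_mem_Nz hgR, cj_Nz] at this
  apply le_inf
  · rw [commutator_le_left_iff]; exact hcR.trans hRn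
  · rw [commutator_le_right_iff]; exact hQR.trans hcN

theorem WCl.comm [Fact p.Prime] {Q K : Subgroup G} [Finite K] (h : WCl p Q K) (hQ : IsPGroup p Q) (hQK : Q ≤ K) :
    ∀ g ∈ K, ⁅Q, Cfsg.Agent.H17.Base.cj g Q⁆ ≤ Q ⊓ Cfsg.Agent.H17.Base.cj g Q → Cfsg.Agent.H17.Base.cj g Q = Q := by
  intro g hg hc
  have h1 : Cfsg.Agent.H17.Base.cj g Q ≤ Nz Q := commutator_le_left_iff.1 (hc.trans inf_le_left)
  have hgQ : Cfsg.Agent.H17.Base.cj g Q ≤ K := by
    have := cj_mono (g := g) hQK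
    rwa [cj_eq_of_mem hg] at this
  exact h.eq_of_le (sup_le hQK hgQ) (isPGroup_sup_of_le_Nz' hQ (cj_isPGroup hQ) h1) le_sup_left hg le_sup_right

theorem isWeaklyClosedSubgroup_iff [Fact p.Prime] [Finite G] {Q : Subgroup G} (hQ : IsPGroup p Q) :
    IsWeaklyClosedSubgroup p Q ↔ WCl p Q ⊤ := by
  unfold IsWeaklyClosedSubgroup IsWeaklyClosed
  constructor
  · rintro ⟨T, hQT, hw⟩
    have hT := isSylowIn_coe T
    apply wcl_of_comm
    intro g _ hc
    have h1 : Cfsg.Agent.H17.Base.cj g Q ≤ Nz Q := commutator_le_left_iff.1 (hc.trans inf_le_left)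
    obtain ⟨h, -, hh⟩ := hT.exists_conj_le (isPGroup_sup_of_le_Nz' hQ (cj_isPGroup hQ (g := g)) h1) le_top
    have h2 := hw h ((cj_mono le_sup_left).trans hh)
    have h3 := hw (h * g) (by
      have := (cj_mono (g := h) (le_sup_right : Cfsg.Agent.H17.Base.cj g Q ≤ _)).trans hh
      rwa [← cj_mul] at this)
    have h4 : Cfsg.Agent.H17.Base.cj h (Cfsg.Agent.H17.Base.cj g Q) = Q := by rw [← cj_mul]; exact h3
    have h5 : Cfsg.Agent.H17.Base.cj h Q = Q := h2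
    rw [← h5] at h4
    have h6 := congrArg (Cfsg.Agent.H17.Base.cj h⁻¹) h4
    rw [cj_inv_cj, h5] at h6
    rw [h6, cj_eq_of_mem_Nz]
    exact inv_mem (mem_Nz_iff_cj.2 h5)
  · intro h
    obtain ⟨T, hQT, hT⟩ := exists_isSylowIn_ge hQ le_top
    refine ⟨hT.toSylowTop, hQT, ?_⟩
    intro g hg
    exact h.eq_of_le le_top hT.isPGroup hQT (Subgroup.mem_top g) hg

theorem wcl_map_iff {G' : Type*} [Group G'] {f : G →* G'} (hf : Function.Injective f) {Q K : Subgroup G} :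
    WCl p (Q.map f) (K.map f) ↔ WCl p Q K := by
  have h1 : ∀ {A B : Subgroup G}, A.map f ≤ B.map f ↔ A ≤ B := fun {A B} => Subgroup.map_le_map_iff_of_injective hf
  have hN : ∀ {A : Subgroup G} {x : G}, f x ∈ Nz (A.map f) ↔ x ∈ Nz A := by
    intro A x
    rw [mem_Nz_iff_cj, mem_Nz_iff_cj, ← map_cj']
    exact (Subgroup.map_injective hf).eq_iff
  constructor
  · intro h R hR hp hQR x hx
    rw [← hN]
    exact h (R.map f) (h1.2 hR) (hp.map f) (h1.2 hQR) ⟨⟨x, hx.1, rfl⟩, hN.2 hx.2⟩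
  · intro h R hR hp hQR x hx
    have e : (R.comap f).map f = R := by
      rw [Subgroup.map_comap_eq, inf_eq_right]
      intro y hy
      obtain ⟨z, _, rfl⟩ := hR hy
      exact ⟨z, rfl⟩
    obtain ⟨⟨y, hy, rfl⟩, hx2⟩ := hx
    replace hx2 : f y ∈ Nz R := hx2
    rw [hN]
    apply h (R.comap f)
    · rw [← h1, e]; exact hR
    · exact hp.comap_of_injective f hf
    · rw [← h1, e]; exact hQR
    · refine ⟨hy, ?_⟩
      rw [← e, hN] at hx2
      exact hx2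

theorem isWeaklyClosedSubgroup_subgroupOf_iff [Fact p.Prime] [Finite G] {Q K : Subgroup G} (hQ : IsPGroup p Q) (hQK : Q ≤ K) :
    IsWeaklyClosedSubgroup p (Q.subgroupOf K) ↔ WCl p Q K := by
  have h1 : IsPGroup p ↥(Q.subgroupOf K) := hQ.comap_subtype
  rw [isWeaklyClosedSubgroup_iff h1, ← wcl_map_iff K.subtype_injective,
    Subgroup.map_subgroupOf_eq_of_le hQK, map_top_subtype]

/-- the weak closure is the normal closure -/
theorem weakClosure_eq_ncl [Fact p.Prime] [Finite G] {Q L : Subgroup G} (h : WCl p Q ⊤) (hQ : IsPGroup p Q) (hQL : Q ≤ L) :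
    weakClosure Q L = ncl L Q := by
  unfold weakClosure
  apply le_antisymm
  · apply iSup_le
    rintro ⟨g, hg⟩
    obtain ⟨l, hl, h1⟩ := h.exists_conj hQ le_top hQL (Subgroup.mem_top g) hg
    show Cfsg.Agent.H17.Base.cj g Q ≤ _
    rw [h1]
    exact cj_le_ncl hl
  · rw [ncl_le_iff]
    intro g hg
    have h1 : Cfsg.Agent.H17.Base.cj g Q ≤ L := by
      have := cj_mono (g := g) hQL
      rwa [cj_eq_of_mem hg] at this
    exact le_iSup (fun g : {g : G // Q.map (MulAut.conj g).toMonoidHom ≤ L} => Q.map (MulAut.conj (g : G)).toMonoidHom) ⟨g, h1⟩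

/-- normal closures of a weakly closed subgroup in subnormal subgroups agree -/
theorem WCl.ncl_eq_of_sn [Fact p.Prime] {Q K N : Subgroup G} [Finite K] (h : WCl p Q K) (hQ : IsPGroup p Q) (hN : SN K N)
    (hQN : Q ≤ N) : ncl K Q = ncl N Q := by
  induction hN with
  | refl => rfl
  | step N M a b c ih =>
    rw [ih (hQN.trans a)]
    apply le_antisymm
    · rw [ncl_le_iff]
      intro g hg
      have h1 : Cfsg.Agent.H17.Base.cj g Q ≤ N := by
        have := cj_mono (g := g) hQN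
        rwa [cj_eq_of_mem_Nz (b hg)] at this
      obtain ⟨n, hn, e⟩ := h.exists_conj hQ (a.trans c.le) hQN (c.le hg) h1
      rw [e]
      exact cj_le_ncl hn
    · rw [ncl_le_iff]
      intro g hg
      exact cj_le_ncl (a hg)

/-! ### large subgroups -/

theorem IsLarge.cj {Q : Subgroup G} (h : IsLarge Q) (g : G) : IsLarge (Cfsg.Agent.H17.Base.cj g Q) := by
  refine ⟨?_, ?_⟩
  · show Cz _ ≤ _
    rw [← cj_Cz]; exact cj_mono h.1
  · intro U hU hU1
    have h1 := h.2 (Cfsg.Agent.H17.Base.cj g⁻¹ U) (by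
      show _ ≤ Cz Q
      rw [cj_le_iff, inv_inv, cj_Cz]; exact hU) (cj_ne_bot' hU1)
    have h2 := cj_mono (g := g) h1
    show Nz U ≤ Nz _
    have h3 : Cfsg.Agent.H17.Base.cj g (Nz (Cfsg.Agent.H17.Base.cj g⁻¹ U)) = Nz U := by rw [cj_Nz, cj_cj_inv]
    have h4 : Cfsg.Agent.H17.Base.cj g (Nz Q) = Nz (Cfsg.Agent.H17.Base.cj g Q) := cj_Nz _ _
    rw [← h3, ← h4]
    exact h2

theorem IsLarge.wcl [Fact p.Prime] [Finite G] {Q : Subgroup G} (h : IsLarge Q) (hQ1 : Q ≠ ⊥) : WCl p Q ⊤ := by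
  intro R _ hp hQR
  have hR1 : R ≠ ⊥ := by rintro rfl; exact hQ1 (le_bot_iff.1 hQR)
  obtain ⟨z, hz, hzo, hzc⟩ := exists_central_orderOf hp hR1
  have h1 : R ⊓ Cz R ≤ Cz Q := inf_le_right.trans (Cz_anti hQR)
  have h2 : R ⊓ Cz R ≠ ⊥ := by
    intro h'
    have : z ∈ R ⊓ Cz R := ⟨hz, hzc⟩
    rw [h', Subgroup.mem_bot] at this
    rw [this, orderOf_one] at hzo
    exact (Fact.out : p.Prime).one_lt.ne hzo
  have h3 := h.2 (R ⊓ Cz R) h1 h2
  refine inf_le_right.trans (le_trans ?_ h3)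
  exact (le_inf le_rfl (Nz_le_Nz_Cz R)).trans (Nz_inf_le _ _)

/-- `C_G(Y) ≤ N_G(Q)` for `Y` a nontrivial `p`-group normalized by the large subgroup `Q` -/
theorem IsLarge.Cz_le [Fact p.Prime] [Finite G] {Q Y : Subgroup G} (h : IsLarge Q) (hQ : IsPGroup p Q)
    (hY : IsPGroup p Y) (hY1 : Y ≠ ⊥) (hQY : Q ≤ Nz Y) : Cz Y ≤ Nz Q := by
  -- C_Y(Q) ≠ 1
  have h1 : Y ⊓ Cz Q ≠ ⊥ := by
    -- YQ is a p-group, Y normal in it, so Y ∩ Z(YQ) ≠ 1
    intro hb
    have hYQ : IsPGroup p ↥(Q ⊔ Y) := isPGroup_sup_of_le_Nz hQ hY hQY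
    have hnt : Nontrivial Y := (Subgroup.nontrivial_iff_ne_bot _).2 hY1
    have hf : Finite ↥(Q ⊔ Y) := inferInstance
    have hn : (Y.subgroupOf (Q ⊔ Y)).Normal := (normal_subgroupOf_iff le_sup_right).2 (sup_le hQY Subgroup.le_normalizer)
    have hnil : Group.IsNilpotent ↥(Q ⊔ Y) := hYQ.isNilpotent
    have hne : Y.subgroupOf (Q ⊔ Y) ≠ ⊥ := by
      intro h'
      rw [Subgroup.subgroupOf_eq_bot, disjoint_iff, inf_eq_left.2 le_sup_right] at h'
      exact hY1 h'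
    have h2 := Cfsg.Agent.H1.Nilp.normal_inf_center_ne_bot (Y.subgroupOf (Q ⊔ Y)) hne
    apply h2
    rw [eq_bot_iff]
    rintro ⟨x, hx⟩ ⟨hx1, hx2⟩
    have hx1' : x ∈ Y := Subgroup.mem_subgroupOf.1 hx1
    have hx3 : x ∈ Y ⊓ Cz Q := by
      refine ⟨hx1', ?_⟩
      show x ∈ Cz Q
      rw [Subgroup.mem_centralizer_iff]
      intro q hq
      have := Subgroup.mem_center_iff.1 hx2 ⟨q, (le_sup_left : Q ≤ Q ⊔ Y) hq⟩
      exact congrArg Subtype.val this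
    rw [hb, Subgroup.mem_bot] at hx3
    rw [Subgroup.mem_bot]
    exact Subtype.ext hx3
  have h2 := h.2 (Y ⊓ Cz Q) inf_le_right h1
  exact ((Cz_anti inf_le_left).trans (Cz_le_Nz _)).trans h2

end Cfsg.Agent.H17.Base
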