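import Cfsg.Agent.H17_QS
import Cfsg.Agent.H17_PRed
import Cfsg.Agent.H17_WC

/-! images of subgroups of `E` in `E / (C ∩ E)` -/

namespace Cfsg.Agent.H17.Img

open Cfsg Cfsg.Agent.H17.Base Cfsg.Agent.H17.FS Cfsg.Agent.H17.Amalgam

universe u
variable {G : Type u} [Group G] {p : ℕ} {C E : Subgroup G}

/-- image of `X` in `E / (C ∩ E)` -/
def im (C E : Subgroup G) [(C.subgroupOf E).Normal] (X : Subgroup G) : Subgroup (↥E ⧸ C.subgroupOf E) :=
  (X.subgroupOf E).map (QuotientGroup.mk' (C.subgroupOf E))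

variable [hn : (C.subgroupOf E).Normal]

theorem mem_im {X : Subgroup G} (hX : X ≤ E) {y : ↥E ⧸ C.subgroupOf E} :
    y ∈ im C E X ↔ ∃ x, ∃ hx : x ∈ X, y = QuotientGroup.mk' (C.subgroupOf E) ⟨x, hX hx⟩ := by
  constructor
  · rintro ⟨x, hx, rfl⟩
    exact ⟨x, Subgroup.mem_subgroupOf.1 hx, rfl⟩
  · rintro ⟨x, hx, rfl⟩
    exact ⟨⟨x, hX hx⟩, Subgroup.mem_subgroupOf.2 hx, rfl⟩

theorem im_mono {X Z : Subgroup G} (h : X ≤ Z) : im C E X ≤ im C E Z :=
  Subgroup.map_mono (Subgroup.comap_mono h)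

theorem im_le_iff {X Z : Subgroup G} (hX : X ≤ E) (hZ : Z ≤ E) :
    im C E X ≤ im C E Z ↔ X ≤ Z ⊔ (E ⊓ C) := by
  constructor
  · intro h x hx
    obtain ⟨z, hz, he⟩ := (mem_im hZ).1 (h ((mem_im hX).2 ⟨x, hx, rfl⟩))
    have h1 : (⟨z, hZ hz⟩ : ↥E)⁻¹ * ⟨x, hX hx⟩ ∈ C.subgroupOf E := by
      rw [← QuotientGroup.eq]; exact he.symm
    have h2 : z⁻¹ * x ∈ C := Subgroup.mem_subgroupOf.1 h1
    have h3 : z * (z⁻¹ * x) ∈ Z ⊔ (E ⊓ C) := mul_mem ((le_sup_left : Z ≤ Z ⊔ (E ⊓ C)) hz)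
      ((le_sup_right : E ⊓ C ≤ Z ⊔ (E ⊓ C)) ⟨E.mul_mem (E.inv_mem (hZ hz)) (hX hx), h2⟩)
    rwa [mul_inv_cancel_left] at h3
  · intro h
    refine (im_mono h).trans ?_
    unfold im
    rw [Subgroup.map_le_iff_le_comap, Subgroup.comap_map_eq, QuotientGroup.ker_mk',
      ← Subgroup.map_subtype_le_map_subtype, Subgroup.map_sup,
      Subgroup.map_subgroupOf_eq_of_le (sup_le hZ inf_le_left), Subgroup.map_subgroupOf_eq_of_le hZ,
      Subgroup.subgroupOf_map_subtype, inf_comm]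

theorem exists_of_im_le {X Z : Subgroup G} (hX : X ≤ E) (hZ : Z ≤ E) (h : im C E X ≤ im C E Z) {x : G} (hx : x ∈ X) :
    ∃ z ∈ Z, z⁻¹ * x ∈ C := by
  obtain ⟨z, hz, he⟩ := (mem_im hZ).1 (h ((mem_im hX).2 ⟨x, hx, rfl⟩))
  have h1 : (⟨z, hZ hz⟩ : ↥E)⁻¹ * ⟨x, hX hx⟩ ∈ C.subgroupOf E := by
    rw [← QuotientGroup.eq]; exact he.symm
  exact ⟨z, hz, Subgroup.mem_subgroupOf.1 h1⟩

theorem im_eq_bot_iff {X : Subgroup G} (hX : X ≤ E) : im C E X = ⊥ ↔ X ≤ C := by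
  constructor
  · intro h x hx
    have := (mem_im (C := C) hX).2 ⟨x, hx, rfl⟩
    rw [h, Subgroup.mem_bot, ← MonoidHom.mem_ker, QuotientGroup.ker_mk'] at this
    exact Subgroup.mem_subgroupOf.1 this
  · intro h
    rw [eq_bot_iff]
    intro y hy
    obtain ⟨x, hx, rfl⟩ := (mem_im hX).1 hy
    rw [Subgroup.mem_bot, ← MonoidHom.mem_ker, QuotientGroup.ker_mk']
    exact Subgroup.mem_subgroupOf.2 (h hx)

theorem im_comm {X Z : Subgroup G} (hX : X ≤ E) (hZ : Z ≤ E) : im C E ⁅X, Z⁆ = ⁅im C E X, im C E Z⁆ := by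
  unfold im
  rw [← Subgroup.map_commutator]
  congr 1
  apply Subgroup.map_injective (Subgroup.subtype_injective E)
  rw [Subgroup.map_commutator, Subgroup.map_subgroupOf_eq_of_le hX, Subgroup.map_subgroupOf_eq_of_le hZ,
    Subgroup.map_subgroupOf_eq_of_le]
  exact (Subgroup.commutator_mono hX hZ).trans (Subgroup.commutator_le_self E)

theorem im_res [Fact p.Prime] {X : Subgroup G} (hX : X ≤ E) [Finite G] : im C E (resOf p X) = resOf p (im C E X) := by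
  unfold im
  rw [resOf_map]
  congr 1
  apply Subgroup.map_injective (Subgroup.subtype_injective E)
  rw [Subgroup.map_subgroupOf_eq_of_le ((resOf_le X).trans hX), ← resOf_map_of_injective E.subtype_injective,
    Subgroup.map_subgroupOf_eq_of_le hX]

theorem im_top : im C E E = ⊤ := by
  unfold im
  rw [Subgroup.subgroupOf_self, Subgroup.map_top_of_surjective _ (QuotientGroup.mk'_surjective _)]

theorem im_pgroup {X : Subgroup G} (hX : IsPGroup p X) : IsPGroup p ↥(im C E X) :=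
  (hX.comap_subtype).map _

theorem im_le_Nz {X Z : Subgroup G} (hX : X ≤ E) (hZ : Z ≤ E) (h : X ≤ Nz Z) : im C E X ≤ Nz (im C E Z) := by
  rw [le_Nz_iff]
  intro a ha b hb
  obtain ⟨x, hx, rfl⟩ := (mem_im hX).1 ha
  obtain ⟨z, hz, rfl⟩ := (mem_im hZ).1 hb
  exact (mem_im hZ).2 ⟨x * z * x⁻¹, (le_Nz_iff.1 h) x hx z hz, by rw [← map_inv, ← map_mul, ← map_mul]; rfl⟩

/-- `x ^ n ∈ O^p(X)'` for some `n` prime to `p` -/
theorem exists_pow_mem [Fact p.Prime] [Finite G] {X : Subgroup G} (hX : resOf p X = X) :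
    ∃ n : ℕ, n.Coprime p ∧ ∀ x ∈ X, x ^ n ∈ ⁅X, X⁆ := by
  obtain ⟨n, hn, hd⟩ : ∃ n : ℕ, n.Coprime p ∧ ∀ x : G, (orderOf x).Coprime p → x ^ n = 1 := by
    refine ⟨ordCompl[p] (Nat.card G), (Nat.coprime_ordCompl Fact.out Nat.card_pos.ne').symm, ?_⟩
    intro x hx
    rw [← orderOf_dvd_iff_pow_eq_one]
    have h1 : orderOf x ∣ Nat.card G := orderOf_dvd_natCard x
    rw [← Nat.ordProj_mul_ordCompl_eq_self (Nat.card G) p] at h1
    exact Nat.Coprime.dvd_of_dvd_mul_left (Nat.Coprime.pow_right _ hx) h1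
  refine ⟨n, hn, ?_⟩
  have key : pResidual p ↥X ≤ ((powMonoidHom n : Abelianization ↥X →* Abelianization ↥X).comp Abelianization.of).ker := by
    unfold pResidual
    rw [Subgroup.closure_le]
    intro x hx
    show Abelianization.of x ^ n = 1
    rw [← map_pow]
    have : x ^ n = 1 := by
      apply Subtype.ext
      exact hd x (by rwa [Subgroup.orderOf_coe])
    rw [this, map_one]
  intro x hx
  have h1 : (⟨x, hx⟩ : ↥X) ∈ pResidual p ↥X := by
    rw [← resOf_subgroupOf, hX, Subgroup.subgroupOf_self]; trivial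
  have h2 := key h1
  have h3 : Abelianization.of ((⟨x, hx⟩ : ↥X) ^ n) = 1 := by rw [map_pow]; exact h2
  have h4 : (⟨x, hx⟩ : ↥X) ^ n ∈ commutator ↥X := by
    rw [← Abelianization.ker_of, MonoidHom.mem_ker]; exact h3
  rw [mem_commutator_coe] at h4
  exact h4

/-- a `p`-subgroup of `X = O^p(X)` lies in `X'` -/
theorem pgroup_le_comm [Fact p.Prime] [Finite G] {X P : Subgroup G} (hX : resOf p X = X) (hP : IsPGroup p P)
    (hPX : P ≤ X) : P ≤ ⁅X, X⁆ := by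
  obtain ⟨n, hn, h⟩ := exists_pow_mem hX
  intro x hx
  obtain ⟨k, hk⟩ := isPGroup_iff_forall_mem.1 hP x hx
  exact mem_of_pow_mem hk (Nat.Coprime.pow_right k hn) (h x (hPX hx))

end Cfsg.Agent.H17.Img
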