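import Cfsg.Agent.H17_PIrr2
import Cfsg.Agent.H17_SNC
import Cfsg.Agent.H17_Zipper

/-! Families `𝒦` of subgroups permuted transitively (S2855). -/

set_option autoImplicit false

namespace Cfsg.Agent.H17.KFam

open Cfsg Cfsg.Agent.H17.Base
open scoped commutatorElement

variable {G : Type*} [Group G] {p : ℕ}

/-- `E` generated by its `p`-elements with `O_p(E) = 1`, `[X, E] ≤ Z(E)` implies `[X, E] = 1` -/
theorem le_Cz_of_comm [Fact p.Prime] {X E : Subgroup G} (hE : pElementClosure p E = E) (hO : pCoreOf p E = ⊥)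
    (hX : ⁅X, E⁆ ≤ E ⊓ Cz E) : X ≤ Cz E := by
  rw [le_Cz_comm]
  rw [← hE]
  unfold pElementClosure
  rw [Subgroup.closure_le]
  rintro e ⟨he, k, hk⟩
  show e ∈ Cz X
  rw [Subgroup.mem_centralizer_iff]
  intro x hx
  have hd := hX (Subgroup.commutator_mem_commutator hx he)
  set d := ⁅x, e⁆ with hddef
  have hdE : d ∈ E := hd.1
  have hdC : d ∈ Cz E := hd.2
  have hcomm : Commute d e := (Subgroup.mem_centralizer_iff.1 hdC e he).symm
  have h1 : x * e * x⁻¹ = d * e := by rw [hddef, commutatorElement_def]; group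
  have hek : e ^ p ^ k = 1 := by rw [← hk]; exact pow_orderOf_eq_one e
  have h2 : d ^ p ^ k = 1 := by
    have h3 : (x * e * x⁻¹) ^ p ^ k = 1 := by rw [conj_pow, hek]; group
    rw [h1, hcomm.mul_pow, hek, mul_one] at h3
    exact h3
  have h3 : Subgroup.zpowers d ≤ pCoreOf p E := by
    apply le_pCoreOf
    · rw [Subgroup.zpowers_le]; exact hdE
    · have h4 : Subgroup.zpowers d ≤ Cz E := by rw [Subgroup.zpowers_le]; exact hdC
      exact (le_Cz_comm.1 h4).trans (Cz_le_Nz _)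
    · rw [isPGroup_iff_forall_mem]
      rintro _ ⟨m, rfl⟩
      refine ⟨k, ?_⟩
      show (d ^ m) ^ p ^ k = 1
      rw [← zpow_natCast, ← zpow_mul, mul_comm, zpow_mul, zpow_natCast, h2, one_zpow]
  rw [hO, le_bot_iff, Subgroup.zpowers_eq_bot] at h3
  rw [h3, one_mul] at h1
  calc x * e = (x * e * x⁻¹) * x := by group
    _ = e * x := by rw [h1]

theorem resOf_iSup_le [Fact p.Prime] [Finite G] {ι : Type*} (K : ι → Subgroup G) (R N : Subgroup G) [N.Normal]
    (hR : R = ⨆ i, K i) (hn : ∀ i, R ≤ Nz (K i)) (h : ∀ i, resOf p (K i) ≤ N) : resOf p R ≤ N := by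
  set f := QuotientGroup.mk' N with hf
  have h1 : IsPGroup p ↥(R.map f) := by
    have h2 : R.map f ≤ pCoreOf p (R.map f) := by
      conv_lhs => rw [hR]
      rw [Subgroup.map_iSup]
      apply iSup_le
      intro i
      apply le_pCoreOf
      · rw [hR]; exact Subgroup.map_mono (le_iSup K i)
      · exact (Subgroup.map_mono (hn i)).trans (Subgroup.le_normalizer_map f)
      · apply isPGroup_of_resOf_eq_bot
        rw [resOf_map, Subgroup.map_eq_bot_iff, hf, QuotientGroup.ker_mk']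
        exact h i
    exact (pCoreOf_isPGroup _).to_le h2
  have h2 := resOf_eq_bot_iff.2 h1
  rw [resOf_map, Subgroup.map_eq_bot_iff, hf, QuotientGroup.ker_mk'] at h2
  exact h2

/-- Theorem B -/
theorem theoremB [Fact p.Prime] [Finite G] (hO : pCore p G = ⊥) (𝒦 : Set (Subgroup G)) (hne : 𝒦.Nonempty)
    (htr : ∀ E ∈ 𝒦, ∀ K ∈ 𝒦, ∃ h : G, K = cj h E) (hRn : (sSup 𝒦).Normal)
    (hres : resOf p (⊤ : Subgroup G) ≤ sSup 𝒦) (hnorm : ∀ E ∈ 𝒦, sSup 𝒦 ≤ Nz E)
    (hs : ∀ E ∈ 𝒦, SPIrr p E) :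
    PIrr p (⊤ : Subgroup G) ∧ ∀ E ∈ 𝒦, ∀ K ∈ 𝒦, resOf p E = resOf p K ∨ E ≤ Cz K := by
  set R := sSup 𝒦 with hR
  have hER : ∀ E ∈ 𝒦, E ≤ R := fun E hE => le_sSup hE
  have hRsn : SN (⊤ : Subgroup G) R := SN.of_normal le_top (le_Nz_of_normal R ⊤)
  have hsn : ∀ E ∈ 𝒦, SN (⊤ : Subgroup G) E := fun E hE => hRsn.trans (SN.of_normal (hER E hE) (hnorm E hE))
  have hcore : ∀ X : Subgroup G, SN ⊤ X → pCoreOf p X = ⊥ := by
    intro X hX
    rw [← le_bot_iff, ← hO, ← pCoreOf_top]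
    exact hX.pCoreOf_le
  have hgen : ∀ E ∈ 𝒦, pElementClosure p E = E := by
    intro E hE
    apply le_antisymm (pElementClosure_le p E)
    obtain ⟨T, hT⟩ := exists_isSylowIn p E
    have hTE := isPGroup_le_pElementClosure hT.isPGroup hT.le
    have h1 : ¬ ⁅pElementClosure p E, E⁆ ≤ pCoreOf p E := by
      intro h2
      rw [hcore E (hsn E hE), le_bot_iff, commutator_eq_bot_iff_le_Cz] at h2
      apply (hs E hE).1
      apply pcl_of_le_Nz hT
      exact (le_Cz_comm.1 (hTE.trans h2)).trans (Cz_le_Nz T)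
    have h2 := (hs E hE).2 _ (pElementClosure_le p E) (le_Nz_pElementClosure E) h1
    conv_lhs => rw [← resOf_sup_sylow hT]
    exact sup_le h2 hTE
  constructor
  · obtain ⟨E0, hE0⟩ := hne
    refine ⟨fun h => (hs E0 hE0).1 (h.mono le_top), ?_⟩
    intro N _ hN hcl
    have hNn : N.Normal := normal_iff_top_le_Nz.2 hN
    by_cases hcase : resOf p E0 ≤ N
    · have hall : ∀ E ∈ 𝒦, resOf p E ≤ N := by
        intro E hE
        obtain ⟨h, rfl⟩ := htr E0 hE0 E hE
        rw [resOf_cj, ← cj_eq_of_normal h hNn]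
        exact cj_mono hcase
      have h1 : resOf p R ≤ N := by
        apply resOf_iSup_le (fun E : 𝒦 => (E : Subgroup G)) R N
        · rw [hR, sSup_eq_iSup']
        · intro E; exact hnorm E E.2
        · intro E; exact hall E E.2
      rw [← resOf_resOf]
      exact (resOf_mono hres).trans h1
    · exfalso
      apply hcl
      have hall : ∀ E ∈ 𝒦, ¬ resOf p E ≤ N := by
        intro E hE h1
        apply hcase
        obtain ⟨h, rfl⟩ := htr E hE E0 hE0
        rw [resOf_cj, ← cj_eq_of_normal h hNn]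
        exact cj_mono h1
      have hNE : ∀ E ∈ 𝒦, N ⊓ E ≤ Cz E := by
        intro E hE
        by_contra h1
        have h2 : ¬ ⁅N ⊓ E, E⁆ ≤ pCoreOf p E := by
          rw [hcore E (hsn E hE), le_bot_iff, commutator_eq_bot_iff_le_Cz]
          exact h1
        have h3 := (hs E hE).2 (N ⊓ E) inf_le_right
          ((le_inf (le_top.trans hN) Subgroup.le_normalizer).trans (Nz_inf_le _ _)) h2
        exact hall E hE (h3.trans inf_le_left)
      have hX : N ⊓ R ≤ Cz R := by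
        rw [le_Cz_comm, hR]
        apply sSup_le
        intro E hE
        rw [le_Cz_comm]
        apply le_Cz_of_comm (hgen E hE) (hcore E (hsn E hE))
        have h1 : ⁅N ⊓ R, E⁆ ≤ N ⊓ E := by
          apply le_inf
          · exact (Subgroup.commutator_mono inf_le_left le_rfl).trans (commutator_le_left_iff.2 (le_top.trans hN))
          · exact commutator_le_right_iff.2 (inf_le_right.trans (hnorm E hE))
        exact h1.trans (le_inf inf_le_right (hNE E hE))
      have hRgen : pElementClosure p R = R := by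
        apply le_antisymm (pElementClosure_le p R)
        conv_lhs => rw [hR]
        apply sSup_le
        intro E hE
        rw [← hgen E hE]
        exact pElementClosure_mono (hER E hE)
      have hNR : N ≤ Cz R := by
        apply le_Cz_of_comm hRgen (hcore R hRsn)
        have h1 : ⁅N, R⁆ ≤ N ⊓ R := by
          apply le_inf
          · exact commutator_le_left_iff.2 (le_top.trans hN)
          · exact commutator_le_right_iff.2 (le_Nz_of_normal R N)
        exact h1.trans (le_inf inf_le_right hX)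
      obtain ⟨T, hT⟩ := exists_isSylowIn p N
      apply pcl_of_le_Nz hT
      conv_lhs => rw [← resOf_sup_sylow hT]
      apply sup_le _ Subgroup.le_normalizer
      refine le_trans ?_ (Cz_le_Nz T)
      rw [le_Cz_comm]
      refine (hT.le.trans hNR).trans (Cz_anti ?_)
      exact (resOf_mono le_top).trans hres
  · intro E hE K hK
    have hmain : resOf p E ≤ K ∨ E ≤ Cz K := by
      by_cases h1 : ⁅E ⊓ K, E⁆ ≤ pCoreOf p E
      · right
        rw [hcore E (hsn E hE), le_bot_iff, commutator_eq_bot_iff_le_Cz] at h1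
        rw [le_Cz_comm]
        apply le_Cz_of_comm (hgen E hE) (hcore E (hsn E hE))
        refine le_trans ?_ (le_inf inf_le_left h1)
        apply le_inf
        · exact commutator_le_right_iff.2 ((hER K hK).trans (hnorm E hE))
        · exact commutator_le_left_iff.2 ((hER E hE).trans (hnorm K hK))
      · left
        have h2 := (hs E hE).2 (E ⊓ K) inf_le_left
          ((le_inf Subgroup.le_normalizer ((hER E hE).trans (hnorm K hK))).trans (Nz_inf_le _ _)) h1
        exact h2.trans inf_le_right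
    rcases hmain with h1 | h1
    · left
      obtain ⟨h, rfl⟩ := htr E hE K hK
      have h2 : resOf p E ≤ resOf p (cj h E) := by
        rw [← resOf_resOf]; exact resOf_mono h1
      apply Subgroup.eq_of_le_of_card_ge h2
      rw [resOf_cj]
      exact (Nat.card_congr ((resOf p E).equivMapOfInjective _ (MulAut.conj h).injective).toEquiv).ge
    · exact Or.inr h1

theorem IsMinOver.unique {Y M M' L : Subgroup G} (h : IsMinOver Y M L) (h' : IsMinOver Y M' L) : M = M' :=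
  le_antisymm (h'.max M h.le h.lt.le h.lt.not_ge) (h.max M' h'.le h'.lt.le h'.lt.not_ge)

theorem IsMinOver.cj {Y M L : Subgroup G} (h : IsMinOver Y M L) (g : G) :
    IsMinOver (Cfsg.Agent.H17.Base.cj g Y) (Cfsg.Agent.H17.Base.cj g M) (Cfsg.Agent.H17.Base.cj g L) :=
  (isMinOver_map_iff (MulAut.conj g).injective).2 h

theorem minOver_sup [Fact p.Prime] [Finite G] {E P T1 : Subgroup G} (hP : IsPGroup p P) (hEP : E ≤ Nz P)
    (hT1 : IsSylowIn p T1 (E ⊔ P)) (hmin : ∀ T, IsSylowIn p T E → ∃ M, IsMinOver T M E) :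
    ∃ M, IsMinOver T1 M (E ⊔ P) := by
  have hn : E ⊔ P ≤ Nz P := sup_le hEP Subgroup.le_normalizer
  have hPT : P ≤ T1 := hT1.le_of_normal hP le_sup_right hn
  have hT1e : T1 = P ⊔ (E ⊓ T1) := by
    have h1 : (P ⊔ E) ⊓ T1 = P ⊔ (E ⊓ T1) := dedekind' hPT hEP
    rw [sup_comm P E, inf_eq_right.2 hT1.le] at h1
    exact h1
  have hs : IsSylowIn p (E ⊓ T1) E := by
    obtain ⟨S, hS1, hS⟩ := exists_isSylowIn_ge (hT1.isPGroup.to_le (inf_le_right : E ⊓ T1 ≤ T1)) inf_le_left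
    have h1 : IsPGroup p ↥(S ⊔ P) := isPGroup_sup_of_le_Nz hS.isPGroup hP (hS.le.trans hEP)
    have h2 : T1 ≤ S ⊔ P := by
      rw [hT1e]; exact sup_le le_sup_right (hS1.trans le_sup_left)
    have h3 := hT1.eq_of_le (sup_le_sup_right hS.le P) h1 h2
    have h4 : S = E ⊓ T1 := by
      apply le_antisymm _ hS1
      apply le_inf hS.le
      rw [← h3]; exact le_sup_left
    rw [← h4]; exact hS
  obtain ⟨M, hM⟩ := hmin _ hs
  refine ⟨M ⊔ P, ?_, ?_, ?_, ?_⟩
  · apply le_antisymm (ncl_le hT1.le Subgroup.le_normalizer)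
    apply sup_le
    · conv_lhs => rw [← hM.ncl_eq]
      apply ncl_le (inf_le_right.trans (le_ncl _ _))
      exact le_sup_left.trans (le_Nz_ncl _ _)
    · exact hPT.trans (le_ncl _ _)
  · refine lt_of_le_of_ne (sup_le_sup_right hM.lt.le P) ?_
    intro h1
    have hMP : M ≤ Nz P := hM.lt.le.trans hEP
    have h2 : (M ⊔ P) ⊓ E = M ⊔ (P ⊓ E) := dedekind hM.lt.le hMP
    rw [h1, inf_eq_right.2 le_sup_left] at h2
    have h3 : P ⊓ E ≤ M := by
      rw [inf_comm]
      exact (inf_le_inf_left _ hPT).trans hM.le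
    rw [sup_eq_left.2 h3] at h2
    exact hM.lt.ne h2.symm
  · rw [hT1e]; exact sup_le le_sup_right (hM.le.trans le_sup_left)
  · intro X hTX hXL hX
    have hPX : P ≤ X := hPT.trans hTX
    have h1 : (P ⊔ E) ⊓ X = P ⊔ (E ⊓ X) := dedekind' hPX hEP
    rw [sup_comm P E, inf_eq_right.2 hXL] at h1
    rw [h1, sup_comm]
    apply sup_le_sup_right
    apply hM.max _ (inf_le_inf_left _ hTX) inf_le_left
    intro h2
    apply hX
    exact sup_le (h2.trans inf_le_right) hPX

theorem partOne [Fact p.Prime] [Finite G] (𝒦 : Set (Subgroup G)) (hne : 𝒦.Nonempty)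
    (hinv : ∀ h : G, ∀ E ∈ 𝒦, cj h E ∈ 𝒦) (htr : ∀ E ∈ 𝒦, ∀ K ∈ 𝒦, ∃ h : G, K = cj h E)
    (hres : resOf p (⊤ : Subgroup G) ≤ sSup 𝒦) (hnorm : ∀ E ∈ 𝒦, sSup 𝒦 ⊔ pCore p G ≤ Nz (E ⊔ pCore p G))
    (hmin : ∀ E ∈ 𝒦, ∀ T, IsSylowIn p T E → ∃ M, IsMinOver T M E) {T : Subgroup G} (hT : IsSylowIn p T ⊤) :
    ∃ M, IsMinOver T M ⊤ := by
  have hPn : (pCore p G).Normal := pCore_normal p G
  set P := pCore p G with hP
  have hPp : IsPGroup p P := pCore_isPGroup p G
  set R := sSup 𝒦 with hR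
  set R0 := R ⊔ P with hR0
  have hcjP : ∀ x : G, cj x P = P := fun x => cj_eq_of_normal x hPn
  have hER : ∀ E ∈ 𝒦, E ≤ R := fun E hE => le_sSup hE
  have hRn : ∀ x : G, cj x R = R := by
    have h1 : ∀ x : G, cj x R ≤ R := by
      intro x
      show Subgroup.map _ _ ≤ _
      rw [hR, sSup_eq_iSup', Subgroup.map_iSup]
      apply iSup_le
      rintro ⟨E, hE⟩
      rw [← sSup_eq_iSup']
      exact le_sSup (hinv x E hE)
    intro x
    exact mem_Nz_iff_cj.1 (mem_Nz_of_cj_le (h1 x))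
  have hR0n : ∀ x : G, cj x R0 = R0 := by
    intro x; rw [hR0, cj_sup, hRn, hcjP]
  have hR0N : (⊤ : Subgroup G) ≤ Nz R0 := fun x _ => mem_Nz_iff_cj.2 (hR0n x)
  have hR0sn : SN (⊤ : Subgroup G) R0 := SN.of_normal le_top hR0N
  have hFR : ∀ E ∈ 𝒦, E ⊔ P ≤ R0 := fun E hE => sup_le_sup_right (hER E hE) _
  have hTF : ∀ E ∈ 𝒦, IsSylowIn p (T ⊓ (E ⊔ P)) (E ⊔ P) := fun E hE =>
    (hR0sn.trans (SN.of_normal (hFR E hE) (hnorm E hE))).isSylowIn hT
  have hex : ∀ E ∈ 𝒦, ∃ M, IsMinOver (T ⊓ (E ⊔ P)) M (E ⊔ P) := fun E hE =>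
    minOver_sup hPp (le_Nz_of_normal P E) (hTF E hE) (hmin E hE)
  have hPT : P ≤ T := by
    have := pCoreOf_le_sylow hT
    rwa [pCoreOf_top] at this
  have hR0T : R0 ⊔ T = ⊤ := by
    rw [← top_le_iff, ← resOf_sup_sylow hT]
    exact sup_le_sup_right (hres.trans le_sup_left) _
  -- the stabilizer `X`
  let X : Subgroup G :=
    { carrier := {x | ∀ E ∈ 𝒦, ∀ M, IsMinOver (T ⊓ (E ⊔ P)) M (E ⊔ P) →
        IsMinOver (T ⊓ (cj x E ⊔ P)) (cj x M) (cj x E ⊔ P)}
      one_mem' := by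
        intro E _ M hM
        rw [cj_one, cj_one]; exact hM
      mul_mem' := by
        intro a b ha hb E hE M hM
        rw [cj_mul, cj_mul]
        exact ha _ (hinv b E hE) _ (hb E hE M hM)
      inv_mem' := by
        intro x hx E hE M hM
        obtain ⟨M', hM'⟩ := hex (cj x⁻¹ E) (hinv _ E hE)
        have h1 := hx _ (hinv _ E hE) _ hM'
        rw [cj_cj_inv] at h1
        have h2 := IsMinOver.unique h1 hM
        rw [← h2, cj_inv_cj]
        exact hM' }
  have hTX : T ≤ X := by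
    intro t ht E hE M hM
    have h1 := IsMinOver.cj hM t
    rw [cj_inf, cj_eq_of_mem ht, cj_sup, hcjP] at h1
    exact h1
  have hFnot : ∀ M : Subgroup G, T ≤ M → M ≠ ⊤ → ∀ E ∈ 𝒦, ¬ (E ⊔ P) ≤ M := by
    intro M hTM hM E hE h1
    apply hM
    rw [← top_le_iff, ← hR0T]
    apply sup_le _ hTM
    apply sup_le _ (hPT.trans hTM)
    apply sSup_le
    intro K hK
    obtain ⟨x, rfl⟩ := htr E hE K hK
    have hx : x ∈ R0 ⊔ T := by rw [hR0T]; trivial
    have hTN : T ≤ Nz R0 := le_top.trans hR0N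
    rw [sup_comm, mem_sup_of_le_Nz hTN] at hx
    obtain ⟨t, ht, r, hr, rfl⟩ := hx
    refine (le_sup_left : _ ≤ cj (t * r) E ⊔ P).trans ?_
    have h2 : cj (t * r) E ⊔ P = cj t (E ⊔ P) := by
      have h3 : cj (t * r) (E ⊔ P) = cj t (E ⊔ P) := by
        rw [cj_mul, cj_eq_of_mem_Nz (hnorm E hE hr)]
      rw [← h3, cj_sup, hcjP]
    rw [h2]
    have := cj_mono (g := t) h1
    rwa [cj_eq_of_mem (hTM ht)] at this
  have hmaxX : ∀ M : Subgroup G, T ≤ M → M ≠ ⊤ → M ≤ X := by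
    intro M hTM hM
    have hMe : M = (M ⊓ R0) ⊔ T := by
      have h1 : (T ⊔ R0) ⊓ M = T ⊔ (R0 ⊓ M) := dedekind hTM (le_top.trans hR0N)
      rw [sup_comm T R0, hR0T, top_inf_eq] at h1
      rw [inf_comm M R0, sup_comm]
      exact h1
    rw [hMe]
    apply sup_le _ hTX
    rintro r ⟨hrM, hrR⟩ E hE ME hME
    have hrF : cj r (E ⊔ P) = E ⊔ P := cj_eq_of_mem_Nz (hnorm E hE hrR)
    have hMF : M ⊓ (E ⊔ P) ≤ ME := by
      apply hME.max _ (inf_le_inf_right _ hTM) inf_le_right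
      intro h1
      exact hFnot M hTM hM E hE (h1.trans inf_le_left)
    have hs1 : IsSylowIn p (T ⊓ (E ⊔ P)) (M ⊓ (E ⊔ P)) := (hTF E hE).mono (inf_le_inf_right _ hTM) inf_le_right
    have hs2 : IsSylowIn p (cj r (T ⊓ (E ⊔ P))) (M ⊓ (E ⊔ P)) := by
      have := hs1.conj r
      rwa [cj_inf r M, cj_eq_of_mem hrM, hrF] at this
    obtain ⟨y, hy, hyr⟩ := hs1.exists_conj hs2
    -- `z = y⁻¹ r` normalizes `T ∩ F` and `F`
    have hyF : cj y (E ⊔ P) = E ⊔ P := cj_eq_of_mem hy.2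
    have h1 := IsMinOver.cj hME (y⁻¹ * r)
    rw [cj_mul, hyr, cj_inv_cj, cj_mul y⁻¹ r (E ⊔ P), hrF] at h1
    have hyF' : cj y⁻¹ (E ⊔ P) = E ⊔ P := by
      conv_lhs => rw [← hyF]
      rw [cj_inv_cj]
    rw [hyF'] at h1
    have h2 := IsMinOver.unique h1 hME
    have h3 : cj r ME = ME := by
      rw [cj_mul] at h2
      have h4 := congrArg (cj y) h2
      rw [cj_cj_inv, cj_eq_of_mem (hMF hy)] at h4
      exact h4
    have h4 : cj r E ⊔ P = E ⊔ P := by rw [← hrF, cj_sup, hcjP]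
    rw [h3, h4]
    exact hME
  refine ⟨X, ?_, ?_, hTX, ?_⟩
  · rw [← top_le_iff]
    conv_lhs => rw [← hR0T]
    apply sup_le _ (le_ncl ⊤ T)
    apply sup_le _ (hPT.trans (le_ncl ⊤ T))
    apply sSup_le
    intro E hE
    obtain ⟨M, hM⟩ := hex E hE
    refine (le_sup_left : E ≤ E ⊔ P).trans ?_
    conv_lhs => rw [← hM.ncl_eq]
    exact ncl_le (inf_le_left.trans (le_ncl ⊤ T)) (le_top.trans (le_Nz_ncl ⊤ T))
  · refine lt_top_iff_ne_top.2 ?_
    intro h1
    obtain ⟨E, hE⟩ := hne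
    obtain ⟨M, hM⟩ := hex E hE
    obtain ⟨hN, -⟩ := Cfsg.Agent.H17.Zipper.IsMinOver.facts hM
    apply hM.lt.not_ge
    rw [← hN]
    apply le_inf le_rfl
    intro x hx
    have hxX : x ∈ X := by rw [h1]; trivial
    have h2 := hxX E hE M hM
    have h3 : cj x E ⊔ P = E ⊔ P := by
      have := cj_eq_of_mem hx
      rw [cj_sup, hcjP] at this
      exact this
    rw [h3] at h2
    rw [mem_Nz_iff_cj]
    exact IsMinOver.unique h2 hM
  · intro M hTM _ hM
    exact hmaxX M hTM (fun h => hM h.ge)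

end Cfsg.Agent.H17.KFam
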