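import Cfsg.Agent.H17_KT9

/-! Local analysis: scenario X is impossible; the pair of components -/

set_option autoImplicit false
set_option linter.unusedSectionVars false
set_option linter.unusedVariables false
set_option linter.unusedSimpArgs false
set_option linter.style.haveILetI false

namespace Cfsg.Agent.H17.KT

open Subgroup Pointwise
open scoped commutatorElement
open Cfsg.Agent.H13.Syl
open Cfsg.Agent.H18.CharP
open Cfsg.Agent.H12.ZJ
open Cfsg.Agent.H18.KS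

variable {G : Type*} [Group G] [Finite G]
variable {L K M T : Subgroup G}

/-- normal elementary abelian subgroups of `S` lie in `Ω₁(Z(T))` -/
theorem Dat.V_le {S M T K L V : Subgroup G} {g : G} (d : Dat S M T K L g) (hS : IsPGroup 2 ↥S)
    (hC : centralizer (omegaCenterOf S : Set G) ≤ M) (hVS : V ≤ S)
    (hVn : S ≤ normalizer (V : Set G)) (hVc : ∀ x ∈ V, ∀ y ∈ V, x * y = y * x) (hV2 : ∀ x ∈ V, x * x = 1) :
    V ≤ omegaCenterOf T := by
  have h := d.cx
  have hA := d.am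
  have hTS := d.lt.le
  have hVT : V ≤ T := by
    by_contra hno
    obtain ⟨g₂, hg₂V, hg₂N, hg₂T⟩ : ∃ g₂ ∈ V, g₂ ∈ normalizer (T : Set G) ∧ g₂ ∉ T := by
      have h1 : T < T ⊔ V := by
        refine lt_of_le_of_ne le_sup_left ?_
        intro he
        exact hno (by rw [he]; exact le_sup_right)
      have h2 : IsPGroup 2 ↥(T ⊔ V : Subgroup G) := hS.to_le (sup_le hTS hVS)
      obtain ⟨x, hx, hxT⟩ := SetLike.exists_of_lt (lt_normalizer_of_lt h2 h1)
      obtain ⟨hx1, hx2⟩ := mem_inf.mp hx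
      obtain ⟨t, ht, v, hv, rfl⟩ := (H2.Card.mem_sup_iff (hTS.trans hVn)).mp hx1
      refine ⟨v, hv, ?_, fun hvT => hxT (mul_mem ht hvT)⟩
      have := mul_mem (inv_mem (Subgroup.le_normalizer ht)) hx2
      rwa [inv_mul_cancel_left] at this
    have hg₂L : g₂ ∉ L := by
      intro h1
      apply hg₂T
      rw [← inf_syl h.ld hS hTS]
      exact ⟨hVS hg₂V, h1⟩
    have hA₂ := h.toAm hTS hC hg₂N (by rw [hV2 _ hg₂V]; exact one_mem _) hg₂L d.TK
    have h1 : V ⊓ T ≤ omegaCenterOf T := by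
      apply hA₂.inv_le inf_le_right
      · rw [H17.Base.cj_inf, hA₂.gT]
        congr 1
        exact cj_eq_of_mem hg₂V
      · intro x hx; exact hV2 x (mem_inf.mp hx).1
    have h2 : cj g₂ (pCoreOf 2 (K ⊔ T)) ≤ pCoreOf 2 (K ⊔ T) := by
      rw [cj_le_iff_forall]
      intro w hw
      have hwT : w ∈ T := hA₂.QT hw
      have e : g₂ * w * g₂⁻¹ = (g₂ * w * g₂⁻¹ * w⁻¹) * w := by group
      rw [e]
      refine mul_mem ?_ hw
      apply hA₂.Z_le_Q
      apply h1
      refine Subgroup.mem_inf.mpr ⟨?_, ?_⟩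
      · have h3 : w * g₂⁻¹ * w⁻¹ ∈ V := (mem_normalizer_iff.mp (hVn (hTS hwT)) _).mp (inv_mem hg₂V)
        have := mul_mem hg₂V h3
        simpa only [mul_assoc] using this
      · exact mul_mem ((mem_normalizer_iff.mp hg₂N w).mp hwT) (inv_mem hwT)
    apply hA₂.main.2.2.1
    have h3 : cj g₂ (pCoreOf 2 (K ⊔ T)) = pCoreOf 2 (K ⊔ T) := H2.Card.eq_of_le_of_card_eq h2 (card_cj _ _)
    exact h3.ge
  exact hA.inv_le hVT (cj_eq_of_mem_normalizer (hVn d.gS)) hV2

/-- scenario X is impossible -/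
theorem no_scenX (H : Hyp G) (hO : pCore 2 G = ⊥) (S : Sylow 2 G) (hL2 : IsTwoLocal L)
    (ld : LD (S : Subgroup G) L) (hN : normalizer (J (S : Subgroup G) : Set G) ≤ L)
    (hX : ∀ M' : Subgroup G, IsTwoLocal M' → (S : Subgroup G) ≤ M' → M' ≤ L) : False := by
  obtain ⟨T', K', L', g, d⟩ := exists_scen H hO S hL2 ld hN hX
  have h := d.cx
  obtain ⟨K, hK, hKL⟩ := ld.exists_comp' H
  have hSL : (S : Subgroup G) ≤ L := ld.syl.le
  have hC : centralizer (omegaCenterOf (S : Subgroup G) : Set G) ≤ L := (H.zz S).trans ((normalizer_le_NJ _).trans hN)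
  have h1 := d.V_le S.2 hC ld.V_le_T (hSL.trans (norm_V L)) commV' sqV'
  have h2 := (LD.W_le_V H ld hK hKL).trans h1
  have h3 : wOf K = omegaCenterOf T' := by
    apply H2.Card.eq_of_le_of_card_eq h2
    apply le_antisymm (Subgroup.card_le_of_le h2)
    rw [hK.2.2.2.2.1, d.oc]; exact d.c4
  have h4 : Nat.card (omegaCenterOf (J T')) = 4 := by rw [← d.oc, ← h3]; exact hK.2.2.2.2.1
  have n1 := card_Z0 h.T2 h.jc
  have hne : Z1 T' K' ≠ ⊥ := by
    intro h1; rw [h1, Subgroup.card_bot] at n1; omega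
  obtain ⟨v, hv, hv1⟩ := exists_ne_one_of_ne_bot hne
  obtain ⟨z, hz, hz1⟩ := exists_ne_one_of_ne_bot (sylow_ne_bot S.2 d.lt)
  have hvW : v ∈ wOf K := by rw [h3, d.oc]; exact Z1_le hv
  have hzW : z ∈ wOf K := by rw [h3]; exact d.zle hz
  obtain ⟨κ, c⟩ := JC.exists_KD hK
  have hv2 : κ * v * κ⁻¹ ∈ wOf K := c.conj_W hvW
  have hne' : v ≠ κ * v * κ⁻¹ := fun he => hv1 (c.fix v hvW he.symm)
  have n3 := c.norm_three hvW
  rcases four_cases (le_of_eq hK.2.2.2.2.1) hvW hv2 hv1 (conj_ne_one hv1) hne' (hK.2.2.2.2.2 v hvW) z hzW with h5 | h5 | h5 | h5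
  · exact hz1 h5
  · exact h.noconj S.2 d.lt h.co hv hv1 hz (x := 1) (by rw [h5]; group)
  · exact h.noconj S.2 d.lt h.co hv hv1 hz (x := κ) h5.symm
  · rw [← h5] at n3
    have h6 : κ * (κ * v * κ⁻¹) * κ⁻¹ = z⁻¹ := eq_inv_of_mul_eq_one_right n3
    rw [inv_oc hz] at h6
    exact h.noconj S.2 d.lt h.co hv hv1 hz (x := κ * κ) (by rw [← h6]; group)

/-- Sylow subgroups are maximal straddling -/
theorem sylow_max (S : Sylow 2 G) (hS : (S : Subgroup G) ∈ straddlingTwoSubgroups L) : (S : Subgroup G) ∈ maxStraddlingTwoSubgroups L := by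
  haveI : Fact (Nat.Prime 2) := ⟨Nat.prime_two⟩
  refine ⟨hS, fun X hX => ?_⟩
  obtain ⟨x, _, hx⟩ := (isSylIn_sylow_top S).exists_conj_le hX.1 le_top
  have h1 : maxElemAbelianOrder X ≤ maxElemAbelianOrder (S : Subgroup G) := by
    rw [← maxOrder_cj x X]
    exact maxOrder_mono ((H18.KS.J_le _).trans hx)
  refine ⟨h1, fun h2 => ?_⟩
  constructor
  · have h3 : J (cj x X) ≤ J (S : Subgroup G) := J_le_J ((H18.KS.J_le _).trans hx) (by rw [maxOrder_cj, h2])
    have h4 := Subgroup.card_le_of_le h3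
    rw [J_cj, card_cj] at h4
    exact h4
  · intro _
    have := Subgroup.card_le_of_le hx
    rwa [card_cj] at this

/-- one side of the pair -/
structure Sd (T K L : Subgroup G) : Prop where
  cx : ∃ M, Cx M T K L
  TK : T ≤ normalizer (K : Set G)
  nc : ¬ K ≤ centralizer (omegaCenterOf T : Set G)

theorem Cx.cj {g : G} (h : Cx M T K L) (hg : g ∈ normalizer (T : Set G)) : Cx M T (H13.Syl.cj g K) (H13.Syl.cj g L) := by
  have hgJ := normalizer_le_NJ T hg
  have hgM := h.NJ hgJ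
  refine ⟨h.H, h.T2, h.T1, h.TM, h.NJ, h.zero, h.uniq, JC.conj_of_norm h.jc hgJ, ?_, maximalTwoLocal_cj h.mx g, cj_mono h.le, ?_⟩
  · intro h4
    apply h.nM
    rw [cj_le_iff, cj_eq_of_mem (inv_mem hgM)] at h4
    exact h4
  · have hT := mem_normalizer_iff_cj.mp hg
    refine ⟨?_, ?_, ?_⟩
    · have := h.ld.syl.cj g
      rwa [hT] at this
    · rw [oP_cj]
      intro h1
      apply h.ld.nJ
      have : J T ≤ H13.Syl.cj g⁻¹ (H13.Syl.cj g (oP 2 L)) := by
        rw [← cj_le_iff, ← J_cj, hT]; exact h1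
      rwa [cj_inv_cj] at this
    · rw [oP_cj, ← cj_centralizer]
      exact cj_mono h.ld.cQ

theorem Sd.cj {g : G} (h : Sd T K L) (hg : g ∈ normalizer (T : Set G)) : Sd T (H13.Syl.cj g K) (H13.Syl.cj g L) := by
  obtain ⟨⟨M, h1⟩, h2, h3⟩ := h
  have hT := mem_normalizer_iff_cj.mp hg
  refine ⟨⟨M, h1.cj hg⟩, ?_, ?_⟩
  · have := cj_mono (g := g) h2
    rwa [hT, cj_normalizer] at this
  · intro h4
    apply h3
    rw [cj_le_iff] at h4
    refine h4.trans ?_
    rw [cj_centralizer, ← omegaCenterOf_cj, mem_normalizer_iff_cj.mp (inv_mem hg)]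

/-- **the pair** -/
theorem exists_pair (H : Hyp G) (hO : pCore 2 G = ⊥) (S : Sylow 2 G) (hM : normalizer (J (S : Subgroup G) : Set G) ≤ M)
    (hT : T ∈ maxStraddlingTwoSubgroups M) (hTS : T ≤ (S : Subgroup G)) :
    ∃ K₁ K₂ L₁ L₂, Sd T K₁ L₁ ∧ Sd T K₂ L₂ ∧ ¬ K₂ ≤ L₁ := by
  haveI : Fact (Nat.Prime 2) := ⟨Nat.prime_two⟩
  obtain ⟨K, hK⟩ := s2949 H S hM hT
  obtain ⟨L, hL, hKT, _⟩ := s2950_exists H S hM hT hK
  have hKL := (sup_le_sup_left (H18.KS.J_le T) K).trans hKT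
  have h := Cx.of_max H S hM hT hK hL hKL
  have hCM : centralizer (omegaCenterOf (S : Subgroup G) : Set G) ≤ M := (H.zz S).trans ((normalizer_le_NJ _).trans hM)
  have hnc : ¬ K ≤ centralizer (omegaCenterOf T : Set G) := fun h1 =>
    h.nM (h1.trans ((Subgroup.centralizer_le (oc_le_of h.ld hTS)).trans hCM))
  have hTK := T_le_NK H hO S hM hT hK
  have sd : Sd T K L := ⟨⟨M, h⟩, hTK, hnc⟩
  have conj_case : ∀ g, g ∈ normalizer (T : Set G) → g ∉ L → ∃ K₁ K₂ L₁ L₂, Sd T K₁ L₁ ∧ Sd T K₂ L₂ ∧ ¬ K₂ ≤ L₁ := by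
    intro g hg hgL
    refine ⟨K, H13.Syl.cj g K, L, H13.Syl.cj g L, sd, sd.cj hg, fun h1 => hgL ?_⟩
    have h2 := h.cj hg
    have h3 := h.uniq (H13.Syl.cj g K) L (H13.Syl.cj g L) h2.jc h2.nM h.mx h2.mx (sup_le h1 h.JL) (sup_le h2.le h2.JL)
    exact NL_le H hL (mem_normalizer_iff_cj.mpr h3)
  rcases eq_or_lt_of_le hTS with h1 | h1
  · subst h1
    by_cases h1 : normalizer (J (S : Subgroup G) : Set G) ≤ L
    · by_cases h2 : ∀ M' : Subgroup G, IsTwoLocal M' → (S : Subgroup G) ≤ M' → M' ≤ L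
      · exact (no_scenX H hO S hL.1 h.ld h1 h2).elim
      · push Not at h2
        obtain ⟨M', hM', hS, hML⟩ := h2
        have hSt : (S : Subgroup G) ∈ straddlingTwoSubgroups L := ⟨S.2, h.T1, h.ld.syl.le, M', hM', hS, hML⟩
        have hSm := sylow_max S hSt
        obtain ⟨K₂, hK₂⟩ := s2949 H S h1 hSm
        obtain ⟨L₂, hL₂, hKT₂, _⟩ := s2950_exists H S h1 hSm hK₂
        have hc := Cx.of_max H S h1 hSm hK₂ hL₂ ((sup_le_sup_left (H18.KS.J_le _) K₂).trans hKT₂)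
        refine ⟨K, K₂, L, L₂, sd, ⟨⟨L, hc⟩, T_le_NK H hO S h1 hSm hK₂, ?_⟩, hK₂.2.1⟩
        intro h3
        exact hK₂.2.1 (h3.trans ((H.zz S).trans ((normalizer_le_NJ _).trans h1)))
    · obtain ⟨g, hg, hgL⟩ := SetLike.not_le_iff_exists.mp h1
      apply conj_case g _ hgL
      obtain ⟨_, _, a3⟩ := h.lemA hg hgL
      rw [mem_normalizer_iff_cj]
      have h2 : H13.Syl.cj g (omegaCenterOf (S : Subgroup G)) = omegaCenterOf (S : Subgroup G) := by
        rw [a3, h.cj_Z0 hg]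
      have h3 : H13.Syl.cj g (S : Subgroup G) ≤ normalizer ((S : Subgroup G) : Set G) := by
        refine le_trans ?_ (H.zz S)
        rw [← h2, ← cj_centralizer]
        apply cj_mono
        intro s hs
        rw [mem_centralizer_iff]
        intro z hz
        exact ((mem_omegaCenterOf.mp hz).2.1 s hs).symm
      have h4 := (isSylIn_sylow_top S).mono (Subgroup.le_normalizer (H := (S : Subgroup G))) le_top
      have h5 : IsPGroup 2 ↥((H13.Syl.cj g (S : Subgroup G)) ⊔ (S : Subgroup G) : Subgroup G) :=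
        IsPGroup.to_sup_of_normal_right' (isPGroup_cj S.2) S.2 h3
      have h6 := h4.eq_of_le h5 (sup_le h3 Subgroup.le_normalizer) le_sup_right
      exact H2.Card.eq_of_le_of_card_eq (le_sup_left.trans h6.le) (card_cj _ _)
  · obtain ⟨g, d⟩ := exists_dat S H hM hT h1 hK hL hKL
    exact conj_case g d.gN d.gL

end Cfsg.Agent.H17.KT
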