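import Cfsg.Agent.H17_KT10

/-! Local analysis: the amalgam conditions -/

set_option autoImplicit false
set_option linter.unusedSectionVars false
set_option linter.unusedVariables false
set_option linter.unusedSimpArgs false
set_option linter.style.haveILetI false

namespace Cfsg.Agent.H17.KT

open Subgroup Pointwise
open scoped commutatorElement
open Cfsg.Agent.H13.Syl
open Cfsg.Agent.H18.CharP
open Cfsg.Agent.H12.ZJ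
open Cfsg.Agent.H18.KS

variable {G : Type*} [Group G] [Finite G]
variable {L K M T : Subgroup G}

namespace Sd

variable (h : Sd T K L)
include h

theorem jc : IsJComponent T K := by obtain ⟨M, c⟩ := h.cx; exact c.jc
theorem T2 : IsPGroup 2 ↥T := by obtain ⟨M, c⟩ := h.cx; exact c.T2
theorem ld : LD T L := by obtain ⟨M, c⟩ := h.cx; exact c.ld
theorem mx : IsMaximalTwoLocal L := by obtain ⟨M, c⟩ := h.cx; exact c.mx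
theorem le : K ≤ L := by obtain ⟨M, c⟩ := h.cx; exact c.le
theorem cQ : centralizer (oP 2 (K ⊔ T) : Set G) ≤ oP 2 (K ⊔ T) := by obtain ⟨M, c⟩ := h.cx; exact c.cQP
theorem idx3 : T.relIndex (K ⊔ T) = 3 := by obtain ⟨M, c⟩ := h.cx; exact c.idx h.TK
theorem syl : IsSylowTwoIn T (K ⊔ T) := ⟨le_sup_right, h.T2, by rw [h.idx3]; decide⟩
theorem idx2 : (oP 2 (K ⊔ T)).relIndex T = 2 := by
  obtain ⟨M, c⟩ := h.cx
  exact H17.SA.core_index le_sup_right c.T2 h.idx3 c.not_norm_T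

theorem oP_le_T : oP 2 (K ⊔ T) ≤ T := H17.Base.pCoreOf_le_sylow (H17.Ks.isSylowTwoIn_iff.mp h.syl)

theorem idx6 : (oP 2 (K ⊔ T)).relIndex (K ⊔ T) = 6 := by
  rw [← Subgroup.relIndex_mul_relIndex _ _ _ h.oP_le_T le_sup_right, h.idx2, h.idx3]

theorem ncomm : ¬ ⁅K ⊔ T, K ⊔ T⁆ ≤ oP 2 (K ⊔ T) := by
  intro h1
  apply JC.not_pgroup h.jc
  apply (oP_isPGroup (K ⊔ T)).to_le
  refine le_trans ?_ h1
  have h3 : ⁅K, J T⁆ = K := h.jc.2.1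
  conv_lhs => rw [← h3]
  exact commutator_mono le_sup_left ((H18.KS.J_le T).trans le_sup_right)

theorem nz : ⁅omegaCenterOf T, K ⊔ T⁆ ≠ ⊥ := by
  intro h1
  apply h.nc
  rw [Subgroup.commutator_eq_bot_iff_le_centralizer] at h1
  intro k hk
  rw [mem_centralizer_iff]
  intro z hz
  exact (mem_centralizer_iff.mp (h1 hz) k (mem_sup_left hk)).symm

theorem uniq {L' : Subgroup G} (hL' : IsMaximalTwoLocal L') (hP : K ⊔ T ≤ L') : L' = L := by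
  obtain ⟨M, c⟩ := h.cx
  exact c.uniq K L L' c.jc c.nM c.mx hL' (sup_le c.le c.JL) ((sup_le_sup_left (H18.KS.J_le T) K).trans hP)

theorem le_of_local {N : Subgroup G} (hN : IsTwoLocal N) (h1 : K ≤ N) (h2 : T ≤ N) : N ≤ L := by
  obtain ⟨M, c⟩ := h.cx
  exact c.le_of_local hN c.co h1 ((H18.KS.J_le T).trans h2)

end Sd

theorem core_sup {K₁ K₂ L₁ L₂ : Subgroup G} (h₁ : Sd T K₁ L₁) (h₂ : Sd T K₂ L₂) (hn : ¬ K₂ ≤ L₁) :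
    pCoreOf 2 ((K₁ ⊔ T) ⊔ (K₂ ⊔ T)) = ⊥ := by
  by_contra hne
  apply hn
  have h3 : IsTwoLocal (normalizer (oP 2 ((K₁ ⊔ T) ⊔ (K₂ ⊔ T)) : Set G)) := ⟨_, oP_isPGroup _, hne, rfl⟩
  have h4 : (K₁ ⊔ T) ⊔ (K₂ ⊔ T) ≤ normalizer (oP 2 ((K₁ ⊔ T) ⊔ (K₂ ⊔ T)) : Set G) := norm_Q _
  have h5 := h₁.le_of_local h3 (le_sup_left.trans (le_sup_left.trans h4)) (le_sup_right.trans (le_sup_left.trans h4))
  exact (le_sup_left.trans (le_sup_right.trans h4)).trans h5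

theorem s2953 (H : Hyp G) (hO : pCore 2 G = ⊥) (S : Sylow 2 G) (hM : normalizer (J (S : Subgroup G) : Set G) ≤ M)
    (hT : T ∈ maxStraddlingTwoSubgroups M) :
    ∃ K₁ K₂ : Subgroup G, K₁ ≠ K₂ ∧ Cfsg.IsJComponent T K₁ ∧ Cfsg.IsJComponent T K₂ ∧
      Cfsg.pCoreOf 2 ((K₁ ⊔ T) ⊔ (K₂ ⊔ T)) = ⊥ ∧
      ∀ P ∈ [K₁ ⊔ T, K₂ ⊔ T],
        Subgroup.centralizer (Cfsg.pCoreOf 2 P : Set G) ≤ Cfsg.pCoreOf 2 P ∧ Cfsg.IsSylowTwoIn T P ∧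
        (Cfsg.pCoreOf 2 P).relIndex P = 6 ∧ ¬ ⁅P, P⁆ ≤ Cfsg.pCoreOf 2 P ∧ ⁅Cfsg.omegaCenterOf T, P⁆ ≠ ⊥ ∧
        ∃ L : Subgroup G, Cfsg.IsMaximalTwoLocal L ∧ P ≤ L ∧ Cfsg.IsSylowTwoIn T L ∧
          ∀ L' : Subgroup G, Cfsg.IsMaximalTwoLocal L' → P ≤ L' → L' = L := by
  obtain ⟨S', hTS, hM'⟩ := exists_sylow_ge S hM hT.1.2.2.1 hT.1.1
  obtain ⟨K₁, K₂, L₁, L₂, h₁, h₂, hn⟩ := exists_pair H hO S' hM' hT hTS
  refine ⟨K₁, K₂, ?_, h₁.jc, h₂.jc, core_sup h₁ h₂ hn, ?_⟩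
  · rintro rfl; exact hn h₁.le
  · have key : ∀ K L, Sd T K L → Subgroup.centralizer (Cfsg.pCoreOf 2 (K ⊔ T) : Set G) ≤ Cfsg.pCoreOf 2 (K ⊔ T) ∧ Cfsg.IsSylowTwoIn T (K ⊔ T) ∧
        (Cfsg.pCoreOf 2 (K ⊔ T)).relIndex (K ⊔ T) = 6 ∧ ¬ ⁅K ⊔ T, K ⊔ T⁆ ≤ Cfsg.pCoreOf 2 (K ⊔ T) ∧ ⁅Cfsg.omegaCenterOf T, K ⊔ T⁆ ≠ ⊥ ∧
        ∃ L : Subgroup G, Cfsg.IsMaximalTwoLocal L ∧ K ⊔ T ≤ L ∧ Cfsg.IsSylowTwoIn T L ∧
          ∀ L' : Subgroup G, Cfsg.IsMaximalTwoLocal L' → K ⊔ T ≤ L' → L' = L := by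
      intro K L h
      exact ⟨h.cQ, h.syl, h.idx6, h.ncomm, h.nz, L, h.mx, sup_le h.le h.ld.syl.le, syl_iff.mpr h.ld.syl, fun L' => h.uniq⟩
    intro P hP
    simp only [List.mem_cons, List.not_mem_nil, or_false] at hP
    rcases hP with rfl | rfl
    · exact key K₁ L₁ h₁
    · exact key K₂ L₂ h₂

end Cfsg.Agent.H17.KT
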