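import Cfsg.Agent.H17_KT11

/-! Local analysis: the module `V = Ω₁(Z(T)) W_K` -/

set_option autoImplicit false
set_option linter.unusedSectionVars false
set_option linter.unusedVariables false
set_option linter.unusedSimpArgs false
set_option linter.style.haveILetI false

namespace Cfsg.Agent.H17.KT

open Subgroup Pointwise
open scoped commutatorElement
open Cfsg.Agent.H13.Syl
open Cfsg.Agent.H18.CharP
open Cfsg.Agent.H12.ZJ
open Cfsg.Agent.H18.KS

variable {G : Type*} [Group G] [Finite G]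
variable {L K M T : Subgroup G}

structure Vx (T K L : Subgroup G) : Prop where
  sd : Sd T K L
  oc : omegaCenterOf T = omegaCenterOf (J T)
  c4 : Nat.card (omegaCenterOf (J T)) ≤ 4

/-- the module -/
def VK (T K : Subgroup G) : Subgroup G := omegaCenterOf T ⊔ wOf K

/-- the distinguished involution -/
structure Ri (T K : Subgroup G) (r : G) : Prop where
  Z : r ∈ omegaCenterOf T
  W : r ∈ wOf K
  ne : r ≠ 1
  u : ∀ x ∈ omegaCenterOf T ⊓ wOf K, x = 1 ∨ x = r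

namespace Vx

variable (h : Vx T K L)
include h

theorem exists_r : ∃ r, Ri T K r := by
  obtain ⟨r, hr, hr1, hu⟩ := exists_zK h.sd.T2 h.sd.jc
  rw [← h.oc] at hr hu
  exact ⟨r, (mem_inf.mp hr).1, (mem_inf.mp hr).2, hr1, hu⟩

theorem four : Nat.card (wOf K) = 4 := h.sd.jc.2.2.2.2.1
theorem Wsq {w : G} (hw : w ∈ wOf K) : w * w = 1 := h.sd.jc.2.2.2.2.2 w hw

theorem KP : K ⊔ T ≤ normalizer (K : Set G) := sup_le Subgroup.le_normalizer h.sd.TK
theorem NW : K ⊔ T ≤ normalizer (wOf K : Set G) := h.KP.trans (normalizer_le_wOf K)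
theorem NQ : K ⊔ T ≤ normalizer (oP 2 (K ⊔ T) : Set G) := norm_Q _
theorem QT : oP 2 (K ⊔ T) ≤ T := h.sd.oP_le_T

/-- elements of `W` -/
theorem W_cases {r κ : G} (hr : Ri T K r) (c : KD K κ) : ∀ w ∈ wOf K, w = 1 ∨ w = r ∨ w = κ * r * κ⁻¹ ∨ w = r * (κ * r * κ⁻¹) :=
  four_cases (le_of_eq h.four) hr.W (c.conj_W hr.W) hr.ne (conj_ne_one hr.ne)
    (fun he => hr.ne (c.fix r hr.W he.symm)) (h.Wsq hr.W)

theorem W_cQ : wOf K ≤ centralizer (oP 2 (K ⊔ T) : Set G) := by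
  obtain ⟨r, hr⟩ := h.exists_r
  obtain ⟨κ, c⟩ := JC.exists_KD h.sd.jc
  have h1 : r ∈ centralizer (oP 2 (K ⊔ T) : Set G) := by
    rw [mem_centralizer_iff]
    intro q hq
    exact (mem_omegaCenterOf.mp hr.Z).2.1 q (h.QT hq)
  have hκ : κ ∈ normalizer (oP 2 (K ⊔ T) : Set G) := h.NQ (mem_sup_left c.mem)
  have h2 : κ * r * κ⁻¹ ∈ centralizer (oP 2 (K ⊔ T) : Set G) := by
    have : κ ∈ normalizer (centralizer (oP 2 (K ⊔ T) : Set G) : Set G) := by
      rw [mem_normalizer_iff_cj, cj_centralizer, mem_normalizer_iff_cj.mp hκ]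
    exact (mem_normalizer_iff.mp this r).mp h1
  intro w hw
  rcases h.W_cases hr c w hw with rfl | rfl | rfl | rfl
  · exact one_mem _
  · exact h1
  · exact h2
  · exact mul_mem h1 h2

theorem W_le_Q : wOf K ≤ oP 2 (K ⊔ T) := h.W_cQ.trans h.sd.cQ

theorem Z_cQ : omegaCenterOf T ≤ centralizer (oP 2 (K ⊔ T) : Set G) := by
  intro z hz
  rw [mem_centralizer_iff]
  intro q hq
  exact (mem_omegaCenterOf.mp hz).2.1 q (h.QT hq)

theorem Z_le_Q : omegaCenterOf T ≤ oP 2 (K ⊔ T) := h.Z_cQ.trans h.sd.cQ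

theorem V_cQ : VK T K ≤ centralizer (oP 2 (K ⊔ T) : Set G) := sup_le h.Z_cQ h.W_cQ
theorem V_le_Q : VK T K ≤ oP 2 (K ⊔ T) := sup_le h.Z_le_Q h.W_le_Q

theorem V_comm {x y : G} (hx : x ∈ VK T K) (hy : y ∈ VK T K) : x * y = y * x :=
  mem_centralizer_iff.mp (h.V_cQ hy) x (h.V_le_Q hx)

theorem VQ_comm {x y : G} (hx : x ∈ VK T K) (hy : y ∈ oP 2 (K ⊔ T)) : x * y = y * x :=
  (mem_centralizer_iff.mp (h.V_cQ hx) y hy).symm

theorem ZW_norm : omegaCenterOf T ≤ normalizer (wOf K : Set G) := h.Z_le_Q.trans ((oP_le _).trans h.NW)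

theorem mem_V {x : G} : x ∈ VK T K ↔ ∃ z ∈ omegaCenterOf T, ∃ w ∈ wOf K, z * w = x :=
  H2.Card.mem_sup_iff h.ZW_norm

theorem V_sq {x : G} (hx : x ∈ VK T K) : x * x = 1 := by
  obtain ⟨z, hz, w, hw, rfl⟩ := h.mem_V.mp hx
  have h1 : z * w = w * z := h.V_comm (mem_sup_left hz) (mem_sup_right hw)
  calc z * w * (z * w) = z * w * (w * z) := by rw [h1]
    _ = z * (w * w) * z := by group
    _ = 1 := by rw [h.Wsq hw, mul_one, sq_oc hz]

theorem Z_dec {z : G} (hz : z ∈ omegaCenterOf T) : ∃ e ∈ Z1 T K, ∃ w ∈ omegaCenterOf T ⊓ wOf K, z = e * w := by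
  have := Z0_dec h.sd.T2 h.sd.jc (z := z) (by rw [← h.oc]; exact hz)
  rwa [← h.oc] at this

theorem mem_Z1' {z : G} : z ∈ Z1 T K ↔ z ∈ omegaCenterOf T ∧ ∀ k ∈ K, k * z = z * k := by
  rw [mem_Z1, h.oc]

theorem Z1_cent {z : G} (hz : z ∈ Z1 T K) : K ⊔ T ≤ centralizer ({z} : Set G) := by
  obtain ⟨h1, h2⟩ := h.mem_Z1'.mp hz
  apply sup_le
  · intro k hk; rw [mem_centralizer_singleton_iff]; exact h2 k hk
  · intro k hk; rw [mem_centralizer_singleton_iff]; exact (mem_omegaCenterOf.mp h1).2.1 k hk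

theorem NV : K ⊔ T ≤ normalizer (VK T K : Set G) := by
  intro x hx
  have hxW := mem_normalizer_iff_cj.mp (h.NW hx)
  rw [mem_normalizer_iff_cj]
  apply H2.Card.eq_of_le_of_card_eq _ (card_cj _ _)
  rw [cj_le_iff_forall]
  intro v hv
  obtain ⟨z, hz, w, hw, rfl⟩ := h.mem_V.mp hv
  obtain ⟨e, he, w', hw', rfl⟩ := h.Z_dec hz
  have h1 : x * e * x⁻¹ = e := by
    have := mem_centralizer_singleton_iff.mp (h.Z1_cent he hx)
    rw [this, mul_inv_cancel_right]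
  have h2 : ∀ w ∈ wOf K, x * w * x⁻¹ ∈ VK T K := fun w hw => mem_sup_right ((mem_normalizer_iff.mp (h.NW hx) w).mp hw)
  have e1 : x * (e * w' * w) * x⁻¹ = (x * e * x⁻¹) * (x * w' * x⁻¹) * (x * w * x⁻¹) := by group
  rw [e1, h1]
  exact mul_mem (mul_mem (mem_sup_left (h.mem_Z1'.mp he).1) (h2 w' (mem_inf.mp hw').2)) (h2 w hw)

theorem maxT {X : Subgroup G} (hTX : T ≤ X) (hXP : X ≤ K ⊔ T) : X = T ∨ X = K ⊔ T := by
  have h1 := Subgroup.relIndex_mul_relIndex T X (K ⊔ T) hTX hXP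
  rw [h.sd.idx3] at h1
  have h2 : T.relIndex X ∣ 3 := Dvd.intro _ h1
  rcases (Nat.dvd_prime Nat.prime_three).mp h2 with h3 | h3
  · left; exact le_antisymm (Subgroup.relIndex_eq_one.mp h3) hTX
  · right
    rw [h3] at h1
    have h4 : X.relIndex (K ⊔ T) = 1 := by omega
    exact le_antisymm hXP (Subgroup.relIndex_eq_one.mp h4)

/-- `K` does not centralize `r` -/
theorem r_nc {r : G} (hr : Ri T K r) : ¬ K ≤ centralizer ({r} : Set G) := by
  intro h1
  apply hr.ne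
  apply comp_fix h.sd.jc hr.W
  intro k hk
  exact mem_centralizer_singleton_iff.mp (h1 hk)

theorem CV : (K ⊔ T) ⊓ centralizer (VK T K : Set G) ≤ oP 2 (K ⊔ T) := by
  set N := (K ⊔ T) ⊓ centralizer (VK T K : Set G) with hN
  have hPN : K ⊔ T ≤ normalizer (N : Set G) := by
    intro x hx
    rw [mem_normalizer_iff_cj, hN, cj_inf, cj_centralizer, mem_normalizer_iff_cj.mp (h.NV hx), cj_eq_of_mem hx]
  by_cases hNT : N ≤ T
  · exact le_oP (h.sd.T2.to_le hNT) inf_le_left hPN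
  · exfalso
    rcases h.maxT (X := T ⊔ N) le_sup_left (sup_le le_sup_right inf_le_left) with h1 | h1
    · exact hNT (h1 ▸ le_sup_right)
    · obtain ⟨r, hr⟩ := h.exists_r
      apply h.r_nc hr
      refine (le_sup_left : K ≤ K ⊔ T).trans ?_
      rw [← h1]
      apply sup_le
      · intro k hk; rw [mem_centralizer_singleton_iff]; exact (mem_omegaCenterOf.mp hr.Z).2.1 k hk
      · refine inf_le_right.trans (Subgroup.centralizer_le ?_)
        rintro _ rfl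
        exact mem_sup_left hr.Z

/-- commutators with `T` -/
theorem comm_r {r : G} (hr : Ri T K r) {s v : G} (hs : s ∈ T) (hv : v ∈ VK T K) : s * v * s⁻¹ = v ∨ s * v * s⁻¹ = v * r := by
  obtain ⟨z, hz, w, hw, rfl⟩ := h.mem_V.mp hv
  have hsz := (mem_omegaCenterOf.mp hz).2.1 s hs
  have hsr := (mem_omegaCenterOf.mp hr.Z).2.1 s hs
  have e1 : s * (z * w) * s⁻¹ = z * (s * w * s⁻¹) := by
    calc s * (z * w) * s⁻¹ = (s * z) * w * s⁻¹ := by group
      _ = z * (s * w * s⁻¹) := by rw [hsz]; group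
  rw [e1]
  have key : s * w * s⁻¹ = w ∨ s * w * s⁻¹ = w * r := by
    by_cases h1 : w = 1
    · left; rw [h1]; group
    by_cases h2 : w = r
    · left; rw [h2, hsr]; group
    have h3 : s * w * s⁻¹ ∈ wOf K := (mem_normalizer_iff.mp (h.NW (mem_sup_right hs)) w).mp hw
    rcases four_cases (le_of_eq h.four) hw hr.W h1 hr.ne h2 (h.Wsq hw) _ h3 with h4 | h4 | h4 | h4
    · exact absurd h4 (conj_ne_one h1)
    · exact Or.inl h4
    · exfalso; apply h2
      have h5 : s * r * s⁻¹ = r := by rw [hsr, mul_inv_cancel_right]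
      have h6 : s * w * s⁻¹ = s * r * s⁻¹ := by rw [h4, h5]
      exact mul_left_cancel (mul_right_cancel h6)
    · exact Or.inr h4
  rcases key with h1 | h1
  · left; rw [h1]
  · right; rw [h1, mul_assoc]

theorem card_V : Nat.card (VK T K) = 2 * Nat.card (omegaCenterOf T) := by
  have h1 := H2.Card.card_sup_mul_card_inf h.ZW_norm
  have h2 := card_Z0_W h.sd.T2 h.sd.jc
  rw [← h.oc] at h2
  rw [h2, h.four] at h1
  change Nat.card (omegaCenterOf T ⊔ wOf K : Subgroup G) = _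
  omega

theorem Q_idx : (oP 2 (K ⊔ T)).relIndex T = 2 := h.sd.idx2

theorem idxQ {x y : G} (hx : x ∈ T) (hy : y ∈ T) (hxQ : x ∉ oP 2 (K ⊔ T)) (hyQ : y ∉ oP 2 (K ⊔ T)) : x * y ∈ oP 2 (K ⊔ T) :=
  H17.SA.idx2 h.Q_idx hx hy hxQ hyQ

theorem V_le_T : VK T K ≤ T := h.V_le_Q.trans h.QT

theorem V_le_VVL : VK T K ≤ VV L := sup_le h.sd.ld.omega_le (by obtain ⟨M, c⟩ := h.sd.cx; exact LD.W_le_V c.H c.ld c.jc c.le)

end Vx

/-- two components in the same `L` have commuting modules -/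
theorem not_le_of_ncomm {K₁ K₂ L₁ L₂ : Subgroup G} (h₁ : Vx T K₁ L₁) (h₂ : Vx T K₂ L₂)
    (hn : ¬ VK T K₁ ≤ centralizer (VK T K₂ : Set G)) : ¬ K₂ ≤ L₁ := by
  intro h1
  apply hn
  obtain ⟨M, c⟩ := h₁.sd.cx
  have h2 : wOf K₂ ≤ VV L₁ := LD.W_le_V c.H c.ld h₂.sd.jc h1
  have h3 : VK T K₂ ≤ VV L₁ := sup_le c.ld.omega_le h2
  intro x hx
  rw [mem_centralizer_iff]
  intro y hy
  exact commV' y (h3 hy) x (h₁.V_le_VVL hx)

end Cfsg.Agent.H17.KT
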