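import Cfsg.Agent.H17_KT12
import Cfsg.Agent.H24_Zas21

/-! Local analysis: adjacent components with noncommuting modules -/

set_option autoImplicit false
set_option linter.unusedSectionVars false
set_option linter.unusedVariables false
set_option linter.unusedSimpArgs false
set_option linter.style.haveILetI false

namespace Cfsg.Agent.H17.KT

open Subgroup Pointwise
open scoped commutatorElement
open Cfsg.Agent.H13.Syl
open Cfsg.Agent.H18.CharP
open Cfsg.Agent.H12.ZJ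
open Cfsg.Agent.H18.KS

variable {G : Type*} [Group G] [Finite G]
variable {L K M T : Subgroup G}

theorem norm_Sq (K : Subgroup G) : normalizer (K : Set G) ≤ normalizer (H17.SA.Sq K : Set G) := H17.SA.Nz_Sq K

theorem mem_Sq {K : Subgroup G} {x : G} (hx : x ∈ K) : x * x ∈ H17.SA.Sq K := Subgroup.subset_closure ⟨x, hx, rfl⟩

theorem Sq_le_iff {K N : Subgroup G} : H17.SA.Sq K ≤ N ↔ ∀ x ∈ K, x * x ∈ N := by
  rw [H17.SA.Sq, Subgroup.closure_le]
  constructor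
  · intro h x hx; exact h ⟨x, hx, rfl⟩
  · rintro h _ ⟨x, hx, rfl⟩; exact h x hx

theorem sq_mul {v k : G} (hv : v * v = 1) (hc : v * k = k * v) : v * k * (v * k) = k * k := by
  calc v * k * (v * k) = (v * k) * v * k := by group
    _ = (k * v) * v * k := by rw [hc]
    _ = k * (v * v) * k := by group
    _ = k * k := by rw [hv, mul_one]

section pair

variable {K₁ K₂ L₁ L₂ : Subgroup G} (h₁ : Vx T K₁ L₁) (h₂ : Vx T K₂ L₂)
  (hn : ¬ VK T K₁ ≤ centralizer (VK T K₂ : Set G))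
include h₁ h₂ hn

theorem exists_v : ∃ v ∈ VK T K₁, v ∉ oP 2 (K₂ ⊔ T) := by
  by_contra hno
  push Not at hno
  apply hn
  intro v hv
  rw [mem_centralizer_iff]
  intro y hy
  exact h₂.VQ_comm hy (hno v hv)

/-- `Q₁ = V₁ (Q₁ ∩ Q₂)` -/
theorem Q_dec {y : G} (hy : y ∈ oP 2 (K₁ ⊔ T)) : ∃ v ∈ VK T K₁, ∃ k ∈ oP 2 (K₁ ⊔ T) ⊓ oP 2 (K₂ ⊔ T), y = v * k := by
  obtain ⟨v, hv, hvQ⟩ := exists_v h₁ h₂ hn
  by_cases h1 : y ∈ oP 2 (K₂ ⊔ T)
  · exact ⟨1, one_mem _, y, mem_inf.mpr ⟨hy, h1⟩, (one_mul y).symm⟩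
  · refine ⟨v, hv, v⁻¹ * y, mem_inf.mpr ⟨mul_mem (inv_mem (h₁.V_le_Q hv)) hy, ?_⟩, by group⟩
    exact h₂.idxQ (inv_mem (h₁.V_le_T hv)) (h₁.QT hy) (fun h => hvQ (by simpa using inv_mem h)) h1

theorem Sq_eq : H17.SA.Sq (oP 2 (K₁ ⊔ T)) = H17.SA.Sq (oP 2 (K₁ ⊔ T) ⊓ oP 2 (K₂ ⊔ T)) := by
  apply le_antisymm
  · rw [Sq_le_iff]
    intro y hy
    obtain ⟨v, hv, k, hk, rfl⟩ := Q_dec h₁ h₂ hn hy
    rw [sq_mul (h₁.V_sq hv) (h₁.VQ_comm hv (mem_inf.mp hk).1)]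
    exact mem_Sq hk
  · rw [Sq_le_iff]
    intro y hy
    exact mem_Sq (mem_inf.mp hy).1

theorem hn' : ¬ VK T K₂ ≤ centralizer (VK T K₁ : Set G) := by
  intro h1
  apply hn
  intro v hv
  rw [mem_centralizer_iff]
  intro y hy
  exact (mem_centralizer_iff.mp (h1 hy) v hv).symm

theorem Q_sq {x : G} (hx : x ∈ oP 2 (K₁ ⊔ T)) : x * x = 1 := by
  have e1 := Sq_eq h₁ h₂ hn
  have e2 := Sq_eq h₂ h₁ (hn' h₁ h₂ hn)
  rw [inf_comm] at e2
  set N := H17.SA.Sq (oP 2 (K₁ ⊔ T) ⊓ oP 2 (K₂ ⊔ T)) with hN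
  have n1 : K₁ ⊔ T ≤ normalizer (N : Set G) := by rw [← e1]; exact h₁.NQ.trans (norm_Sq _)
  have n2 : K₂ ⊔ T ≤ normalizer (N : Set G) := by rw [← e2]; exact h₂.NQ.trans (norm_Sq _)
  by_cases hNe : N = ⊥
  · have := mem_Sq hx
    rw [e1, hNe] at this
    exact Subgroup.mem_bot.mp this
  · exfalso
    apply not_le_of_ncomm h₁ h₂ hn
    have hNl : IsTwoLocal (normalizer (N : Set G)) := by
      refine ⟨N, (oP_isPGroup (K₁ ⊔ T)).to_le ?_, hNe, rfl⟩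
      exact (H17.SA.Sq_le _).trans inf_le_left
    exact (le_sup_left.trans n2).trans (h₁.sd.le_of_local hNl (le_sup_left.trans n1) (le_sup_right.trans n1))

theorem Q_comm {x y : G} (hx : x ∈ oP 2 (K₁ ⊔ T)) (hy : y ∈ oP 2 (K₁ ⊔ T)) : x * y = y * x :=
  H17.SA.sq_comm (Q_sq h₁ h₂ hn hx) (Q_sq h₁ h₂ hn hy) (Q_sq h₁ h₂ hn (mul_mem hx hy))

theorem Q_inf_le : oP 2 (K₁ ⊔ T) ⊓ oP 2 (K₂ ⊔ T) ≤ omegaCenterOf T := by
  intro x hx
  obtain ⟨hx1, hx2⟩ := mem_inf.mp hx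
  refine mem_omegaCenterOf.mpr ⟨h₁.QT hx1, fun t ht => ?_, Q_sq h₁ h₂ hn hx1⟩
  obtain ⟨v, hv, hvQ⟩ := exists_v h₁ h₂ hn
  by_cases h1 : t ∈ oP 2 (K₂ ⊔ T)
  · exact Q_comm h₂ h₁ (hn' h₁ h₂ hn) h1 hx2
  · have h2 : v⁻¹ * t ∈ oP 2 (K₂ ⊔ T) :=
      h₂.idxQ (inv_mem (h₁.V_le_T hv)) ht (fun h => hvQ (by simpa using inv_mem h)) h1
    have h3 := Q_comm h₂ h₁ (hn' h₁ h₂ hn) h2 hx2
    have h4 := h₁.VQ_comm hv hx1
    calc t * x = v * (v⁻¹ * t * x) := by group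
      _ = v * x * (v⁻¹ * t) := by rw [h3]; group
      _ = x * t := by rw [h4]; group

theorem Q_eq_V : oP 2 (K₁ ⊔ T) = VK T K₁ := by
  symm
  apply H2.Card.eq_of_le_of_card_eq h₁.V_le_Q
  apply le_antisymm (Subgroup.card_le_of_le h₁.V_le_Q)
  have h1 : (oP 2 (K₂ ⊔ T)).relIndex (oP 2 (K₁ ⊔ T)) ≤ 2 := by
    have h2 := Subgroup.relIndex_le_of_le_right (H := oP 2 (K₂ ⊔ T)) h₁.QT (by rw [h₂.Q_idx]; norm_num)
    rwa [h₂.Q_idx] at h2
  have h2 := H2.Card.card_inf_mul_relIndex (oP 2 (K₂ ⊔ T)) (oP 2 (K₁ ⊔ T))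
  have h3 := Subgroup.card_le_of_le (Q_inf_le h₁ h₂ hn)
  rw [inf_comm] at h3
  rw [h₁.card_V, ← h2, mul_comm]
  exact Nat.mul_le_mul h1 h3

theorem card_Q : Nat.card (oP 2 (K₁ ⊔ T)) = 2 * Nat.card (omegaCenterOf T) := by
  rw [Q_eq_V h₁ h₂ hn, h₁.card_V]

theorem card_T : Nat.card T = 2 * Nat.card (oP 2 (K₁ ⊔ T)) := by
  have := H2.Card.card_mul_relIndex h₁.QT
  rw [h₁.Q_idx] at this
  omega

theorem Q_EA : EA 2 (oP 2 (K₁ ⊔ T)) :=
  ⟨fun a ha b hb => Q_comm h₁ h₂ hn ha hb, fun a ha => by rw [pow_two]; exact Q_sq h₁ h₂ hn ha⟩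

theorem Q_max : MaxEA 2 T (oP 2 (K₁ ⊔ T)) := by
  refine ⟨h₁.QT, Q_EA h₁ h₂ hn, fun B hB hBe => ?_⟩
  by_contra hlt
  push Not at hlt
  have h1 := Subgroup.card_dvd_of_le hB
  obtain ⟨m, hm⟩ := h1
  rw [card_T h₁ h₂ hn] at hm
  have h2 : m < 2 := by
    by_contra h3
    push Not at h3
    nlinarith
  have h3 : 0 < Nat.card (oP 2 (K₁ ⊔ T)) := Nat.card_pos
  have h4 : m = 1 := by
    interval_cases m
    · omega
    · rfl
  subst h4
  have h5 : B = T := by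
    apply H2.Card.eq_of_le_of_card_eq hB
    rw [card_T h₁ h₂ hn]; omega
  apply hn
  intro v hv
  rw [mem_centralizer_iff]
  intro y hy
  rw [h5] at hBe
  exact hBe.1 y (h₂.V_le_T hy) v (h₁.V_le_T hv)

theorem J_eq_T : J T = T := by
  apply le_antisymm (H18.KS.J_le T)
  have q1 := maxEA_le_J (Q_max h₁ h₂ hn)
  have q2 := maxEA_le_J (Q_max h₂ h₁ (hn' h₁ h₂ hn))
  intro t ht
  obtain ⟨v, hv, hvQ⟩ := exists_v h₁ h₂ hn
  by_cases h1 : t ∈ oP 2 (K₂ ⊔ T)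
  · exact q2 h1
  · have h2 : v⁻¹ * t ∈ oP 2 (K₂ ⊔ T) :=
      h₂.idxQ (inv_mem (h₁.V_le_T hv)) ht (fun h => hvQ (by simpa using inv_mem h)) h1
    have h3 := mul_mem (q1 (h₁.V_le_Q hv)) (q2 h2)
    rwa [mul_inv_cancel_left] at h3

theorem oP_L_eq : oP 2 L₁ = oP 2 (K₁ ⊔ T) := by
  obtain ⟨M, c⟩ := h₁.sd.cx
  apply le_antisymm c.oP_le_P
  refine le_trans ?_ c.ld.cQ
  intro x hx
  rw [mem_centralizer_iff]
  intro y hy
  exact Q_comm h₁ h₂ hn (c.oP_le_P hy) hx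

/-- `N_L(T) = T` -/
theorem NLT : L₁ ⊓ normalizer (T : Set G) ≤ T := by
  haveI : Fact (Nat.Prime 2) := ⟨Nat.prime_two⟩
  obtain ⟨M, c⟩ := h₁.sd.cx
  obtain ⟨r, hr⟩ := h₁.exists_r
  have h4 : ∀ x ∈ L₁ ⊓ normalizer (T : Set G), x * x * (x * x) ∈ T := by
    intro x hx
    obtain ⟨hxL, hxT⟩ := mem_inf.mp hx
    have hxQ : x ∈ normalizer (oP 2 (K₁ ⊔ T) : Set G) := by
      rw [← oP_L_eq h₁ h₂ hn]; exact norm_Q L₁ hxL
    have hxZ : x ∈ normalizer (omegaCenterOf T : Set G) := by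
      rw [mem_normalizer_iff_cj, ← omegaCenterOf_cj, mem_normalizer_iff_cj.mp hxT]
    -- `x` fixes `r`
    obtain ⟨t, ht, htQ⟩ : ∃ t ∈ T, t ∉ oP 2 (K₁ ⊔ T) := by
      by_contra hno
      push Not at hno
      have := Subgroup.relIndex_eq_one.mpr hno
      rw [h₁.Q_idx] at this
      omega
    have hxr : x * r * x⁻¹ = r := by
      obtain ⟨v, hv, hvt⟩ : ∃ v ∈ VK T K₁, t * v * t⁻¹ ≠ v := by
        by_contra hno
        push Not at hno
        apply htQ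
        apply h₁.CV
        refine mem_inf.mpr ⟨mem_sup_right ht, ?_⟩
        rw [mem_centralizer_iff]
        intro v hv
        exact (mul_inv_eq_iff_eq_mul.mp (hno v hv)).symm
      have h5 := (h₁.comm_r hr ht hv).resolve_left hvt
      have hxt : x * t * x⁻¹ ∈ T := (mem_normalizer_iff.mp hxT t).mp ht
      have hxv : x * v * x⁻¹ ∈ VK T K₁ := by
        rw [← Q_eq_V h₁ h₂ hn]
        exact (mem_normalizer_iff.mp hxQ v).mp (h₁.V_le_Q hv)
      have e1 : (x * t * x⁻¹) * (x * v * x⁻¹) * (x * t * x⁻¹)⁻¹ = (x * v * x⁻¹) * (x * r * x⁻¹) := by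
        calc (x * t * x⁻¹) * (x * v * x⁻¹) * (x * t * x⁻¹)⁻¹ = x * (t * v * t⁻¹) * x⁻¹ := by group
          _ = _ := by rw [h5]; group
      rcases h₁.comm_r hr hxt hxv with h6 | h6
      · rw [e1] at h6
        exact absurd (mul_eq_left.mp h6) (conj_ne_one hr.ne)
      · rw [e1] at h6
        exact mul_left_cancel h6
    -- two-step action
    have hZ2 : ∀ z ∈ omegaCenterOf T, x * z * x⁻¹ = z ∨ x * z * x⁻¹ = z * r := by
      intro z hz
      by_cases z1 : z = 1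
      · left; rw [z1]; group
      by_cases z2 : z = r
      · left; rw [z2]; exact hxr
      have hxz : x * z * x⁻¹ ∈ omegaCenterOf T := (mem_normalizer_iff.mp hxZ z).mp hz
      have hc : Nat.card (omegaCenterOf T) ≤ 4 := by rw [h₁.oc]; exact h₁.c4
      rcases four_cases hc hz hr.Z z1 hr.ne z2 (sq_oc hz) _ hxz with h6 | h6 | h6 | h6
      · exact absurd h6 (conj_ne_one z1)
      · exact Or.inl h6
      · exfalso; apply z2
        have h7 : x * z * x⁻¹ = x * r * x⁻¹ := by rw [h6, hxr]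
        exact mul_left_cancel (mul_right_cancel h7)
      · exact Or.inr h6
    have hQ2 : ∀ q ∈ oP 2 (K₁ ⊔ T), ∃ z ∈ omegaCenterOf T, x * q * x⁻¹ = q * z := by
      intro q hq
      by_cases h5 : q ∈ oP 2 (K₂ ⊔ T)
      · have h6 := Q_inf_le h₁ h₂ hn (mem_inf.mpr ⟨hq, h5⟩)
        rcases hZ2 q h6 with h7 | h7
        · exact ⟨1, one_mem _, by rw [h7, mul_one]⟩
        · exact ⟨r, hr.Z, h7⟩
      · have hq' : x * q * x⁻¹ ∈ oP 2 (K₁ ⊔ T) := (mem_normalizer_iff.mp hxQ q).mp hq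
        have h7 : x * q * x⁻¹ ∉ oP 2 (K₂ ⊔ T) := by
          intro h8
          have h9 := Q_inf_le h₁ h₂ hn (mem_inf.mpr ⟨hq', h8⟩)
          have h10 : q ∈ omegaCenterOf T := (mem_normalizer_iff.mp hxZ q).mpr h9
          exact h5 (h₂.Z_le_Q h10)
        have h8 : q⁻¹ * (x * q * x⁻¹) ∈ oP 2 (K₂ ⊔ T) :=
          h₂.idxQ (inv_mem (h₁.QT hq)) (h₁.QT hq') (fun h => h5 (by simpa using inv_mem h)) h7
        exact ⟨_, Q_inf_le h₁ h₂ hn (mem_inf.mpr ⟨mul_mem (inv_mem hq) hq', h8⟩), by group⟩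
    apply h₁.QT
    rw [← oP_L_eq h₁ h₂ hn]
    apply c.ld.cQ
    rw [mem_centralizer_iff]
    intro q hq
    rw [oP_L_eq h₁ h₂ hn] at hq
    obtain ⟨z, hz, hqz⟩ := hQ2 q hq
    have hzz : z * z = 1 := sq_oc hz
    have hrr : r * r = 1 := sq_oc hr.Z
    have hzr := oc_comm hz hr.Z
    -- x² q x⁻² = q or q r
    have h5 : x * x * q * (x * x)⁻¹ = q ∨ x * x * q * (x * x)⁻¹ = q * r := by
      have e1 : x * x * q * (x * x)⁻¹ = (x * q * x⁻¹) * (x * z * x⁻¹) := by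
        calc x * x * q * (x * x)⁻¹ = x * (x * q * x⁻¹) * x⁻¹ := by group
          _ = x * (q * z) * x⁻¹ := by rw [hqz]
          _ = _ := by group
      rw [e1, hqz]
      rcases hZ2 z hz with h6 | h6
      · left; rw [h6, mul_assoc, hzz, mul_one]
      · right
        rw [h6]
        calc q * z * (z * r) = q * (z * z) * r := by group
          _ = q * r := by rw [hzz, mul_one]
    have hxxr : x * x * r * (x * x)⁻¹ = r := by
      calc x * x * r * (x * x)⁻¹ = x * (x * r * x⁻¹) * x⁻¹ := by group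
        _ = r := by rw [hxr, hxr]
    have h6 : (x * x * (x * x)) * q * (x * x * (x * x))⁻¹ = q := by
      have e1 : (x * x * (x * x)) * q * (x * x * (x * x))⁻¹ = (x * x) * (x * x * q * (x * x)⁻¹) * (x * x)⁻¹ := by group
      rw [e1]
      rcases h5 with h5 | h5
      · rw [h5, h5]
      · rw [h5]
        have e2 : x * x * (q * r) * (x * x)⁻¹ = (x * x * q * (x * x)⁻¹) * (x * x * r * (x * x)⁻¹) := by group
        rw [e2, hxxr, h5, mul_assoc, hrr, mul_one]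
    exact (mul_inv_eq_iff_eq_mul.mp h6).symm
  have hp : IsPGroup 2 ↥(L₁ ⊓ normalizer (T : Set G) : Subgroup G) := by
    rintro ⟨x, hx⟩
    obtain ⟨k, hk⟩ := h₁.sd.T2 ⟨_, h4 x hx⟩
    refine ⟨k + 2, ?_⟩
    apply Subtype.ext
    have hk' : (x * x * (x * x)) ^ 2 ^ k = 1 := congrArg Subtype.val hk
    change x ^ 2 ^ (k + 2) = 1
    have e : x * x * (x * x) = x ^ 4 := by simp only [pow_succ, pow_zero, one_mul, mul_assoc]
    rw [e, ← pow_mul] at hk'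
    rw [pow_add, mul_comm]
    exact hk'
  have := c.ld.syl.eq_of_le hp inf_le_left (le_inf c.ld.syl.le Subgroup.le_normalizer)
  exact this.le

theorem L_eq : L₁ = K₁ ⊔ T := by
  obtain ⟨M, c⟩ := h₁.sd.cx
  apply le_antisymm _ (sup_le c.le c.ld.syl.le)
  apply c.ld.gen c.H
  · rw [J_eq_T h₁ h₂ hn]
    exact (NLT h₁ h₂ hn).trans le_sup_right
  · intro K' hK' hK'L
    have h1 : K₁ = K' := by
      apply c.ld.uniq c.H c.jc c.le hK' hK'L
      intro h2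
      have h3 := card_mul_le (LD.W_le_V c.H c.ld c.jc c.le) (LD.W_le_V c.H c.ld hK' hK'L) h2
      rw [c.jc.2.2.2.2.1, hK'.2.2.2.2.1] at h3
      have h4 := Subgroup.card_le_of_le (H18.KS.V_le_Q L₁)
      rw [oP_L_eq h₁ h₂ hn, card_Q h₁ h₂ hn, h₁.oc] at h4
      have h5 := h₁.c4
      omega
    rw [← h1]; exact le_sup_left

theorem card_P : Nat.card (K₁ ⊔ T : Subgroup G) = 12 * Nat.card (omegaCenterOf T) := by
  have e1 := H2.Card.card_mul_relIndex (le_sup_right : T ≤ K₁ ⊔ T)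
  rw [h₁.sd.idx3, card_T h₁ h₂ hn, card_Q h₁ h₂ hn] at e1
  omega

theorem exists_t : ∃ t ∈ T, t ∉ oP 2 (K₁ ⊔ T) ∧ t * t = 1 := by
  obtain ⟨t, ht, htQ⟩ := exists_v h₂ h₁ (hn' h₁ h₂ hn)
  exact ⟨t, h₂.V_le_T ht, htQ, h₂.V_sq ht⟩

theorem type_four (hZ : Nat.card (omegaCenterOf T) = 2) : Nonempty (↥(K₁ ⊔ T) ≃* Equiv.Perm (Fin 4)) := by
  have hc := card_P h₁ h₂ hn
  rw [hZ] at hc
  have hnorm : (pCore 2 ↥(K₁ ⊔ T)).Normal := H17.Base.pCore_normal 2 _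
  have hmem : ∀ x : ↥(K₁ ⊔ T), x ∈ pCore 2 ↥(K₁ ⊔ T) ↔ (x : G) ∈ oP 2 (K₁ ⊔ T) := by
    intro x
    constructor
    · intro hx; exact ⟨x, hx, rfl⟩
    · rintro ⟨y, hy, hyx⟩
      have : y = x := Subtype.ext hyx
      rw [← this]; exact hy
  refine H24.Zas.klein_24 (pCore 2 ↥(K₁ ⊔ T)) ?_ ?_ ?_ hc
  · intro v hv
    exact Subtype.ext (Q_sq h₁ h₂ hn ((hmem v).mp hv))
  · have e1 : Nat.card (oP 2 (K₁ ⊔ T)) = Nat.card (pCore 2 ↥(K₁ ⊔ T)) :=
      Subgroup.card_map_of_injective (Subgroup.subtype_injective _)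
    rw [← e1, card_Q h₁ h₂ hn, hZ]
  · intro x hx
    rw [hmem]
    apply h₁.sd.cQ
    rw [mem_centralizer_iff]
    intro y hy
    have h1 := mem_centralizer_iff.mp hx ⟨y, (oP_le _) hy⟩ ((hmem _).mpr hy)
    exact congrArg Subtype.val h1

theorem type_eight (hZ : Nat.card (omegaCenterOf T) = 4) :
    Nonempty (↥(K₁ ⊔ T) ≃* Equiv.Perm (Fin 4) × Multiplicative (ZMod 2)) := by
  haveI : Fact (Nat.Prime 2) := ⟨Nat.prime_two⟩
  obtain ⟨M, cx⟩ := h₁.sd.cx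
  have hc := card_P h₁ h₂ hn
  rw [hZ] at hc
  obtain ⟨r, hr⟩ := h₁.exists_r
  obtain ⟨κ, c⟩ := JC.exists_KD h₁.sd.jc
  have n1 := card_Z0 h₁.sd.T2 h₁.sd.jc
  rw [← h₁.oc, hZ] at n1
  have n2 : Nat.card (Z1 T K₁) = 2 := by omega
  have hne : Z1 T K₁ ≠ ⊥ := by
    intro h1; rw [h1, Subgroup.card_bot] at n2; omega
  obtain ⟨v, hv, hv1⟩ := exists_ne_one_of_ne_bot hne
  obtain ⟨hvZ, hvK⟩ := h₁.mem_Z1'.mp hv
  have hvv : v * v = 1 := sq_oc hvZ
  have hvP := h₁.Z1_cent hv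
  have hvQ : v ∈ oP 2 (K₁ ⊔ T) := h₁.Z_le_Q hvZ
  have hvW : v ∉ wOf K₁ := by
    intro h1
    exact ne_bot_of_mem (Subgroup.mem_inf.mpr ⟨hv, h1⟩) hv1 (Z1_inf_W h₁.sd.jc)
  have hVv : ∀ z ∈ Z1 T K₁, z = 1 ∨ z = v := by
    intro z hz
    by_cases h1 : z = 1
    · exact Or.inl h1
    · exact Or.inr (order_two n2 hz hv h1 hv1)
  -- `Q = ⟨v⟩ W`
  have hQdec : ∀ q ∈ oP 2 (K₁ ⊔ T), ∃ w ∈ wOf K₁, q = w ∨ q = w * v := by
    intro q hq
    rw [Q_eq_V h₁ h₂ hn] at hq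
    obtain ⟨z, hz, w, hw, rfl⟩ := h₁.mem_V.mp hq
    obtain ⟨e, he, w', hw', rfl⟩ := h₁.Z_dec hz
    have hw'W := (mem_inf.mp hw').2
    rcases hVv e he with rfl | rfl
    · exact ⟨w' * w, mul_mem hw'W hw, Or.inl (by rw [one_mul])⟩
    · refine ⟨w' * w, mul_mem hw'W hw, Or.inr ?_⟩
      have h1 : e * (w' * w) = (w' * w) * e :=
        h₁.V_comm (mem_sup_left hvZ) (mem_sup_right (mul_mem hw'W hw))
      rw [mul_assoc, h1]
  have hWK : wOf K₁ ≤ K₁ := by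
    rw [wOf]
    refine (H22.Basic.commutator_le_left c.norm_Y).trans ((omegaCenterOf_le _).trans (oP_le _))
  have hOQ : oP 2 K₁ ≤ oP 2 (K₁ ⊔ T) := by
    rw [← LD.inf_oP cx.H cx.ld cx.jc cx.le, ← oP_L_eq h₁ h₂ hn]
    exact inf_le_right
  -- `K = W ⟨κ⟩`
  have hKX : K₁ ≤ wOf K₁ ⊔ zpowers κ := by
    have hvn : zpowers v ≤ normalizer ((wOf K₁ ⊔ zpowers κ : Subgroup G) : Set G) := by
      rw [zpowers_le]
      apply Subgroup.centralizer_le_normalizer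
      rw [mem_centralizer_iff]
      intro x hx
      have hxK : x ∈ K₁ := (sup_le hWK (by rw [zpowers_le]; exact c.mem) : wOf K₁ ⊔ zpowers κ ≤ K₁) hx
      exact hvK x hxK
    have h1 : K₁ ≤ (wOf K₁ ⊔ zpowers κ) ⊔ zpowers v := by
      rw [← c.sup]
      apply sup_le
      · intro q hq
        obtain ⟨w, hw, h2⟩ := hQdec q (hOQ hq)
        rw [c.sup]
        rcases h2 with rfl | rfl
        · exact mem_sup_left (mem_sup_left hw)
        · exact mul_mem (mem_sup_left (mem_sup_left hw)) (mem_sup_right (mem_zpowers v))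
      · rw [c.sup]
        exact le_sup_right.trans le_sup_left
    have h2 : IsPGroup 2 ↥(zpowers v) := by
      apply IsPGroup.of_card (n := 1)
      rw [Nat.card_zpowers, pow_one]
      exact orderOf_eq_prime (by rw [pow_two]; exact hvv) hv1
    have h3 := (twoOver_sup hvn h2).oddGen_le
    have h4 : oddGen K₁ = K₁ := JC.gen h₁.sd.jc
    exact h4.ge.trans ((oddGen_mono h1).trans h3)
  have hKX' : wOf K₁ ⊔ zpowers κ = K₁ := le_antisymm (sup_le hWK (by rw [zpowers_le]; exact c.mem)) hKX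
  have hcardK : Nat.card K₁ ≤ 12 := by
    have h1 : zpowers κ ≤ normalizer (wOf K₁ : Set G) := by
      rw [zpowers_le]; exact h₁.NW (mem_sup_left c.mem)
    have h2 := H2.Card.card_sup_mul_card_inf h1
    rw [sup_comm, hKX', h₁.four, Nat.card_zpowers] at h2
    have h3 : orderOf κ ≤ 3 := Nat.le_of_dvd (by norm_num) (orderOf_dvd_of_pow_eq_one c.cube)
    have h4 : 0 < Nat.card (zpowers κ ⊓ wOf K₁ : Subgroup G) := Nat.card_pos
    nlinarith
  have hO : oP 2 K₁ = wOf K₁ := by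
    symm
    have h1 : wOf K₁ ≤ oP 2 K₁ := by
      rw [← LD.inf_oP cx.H cx.ld cx.jc cx.le, oP_L_eq h₁ h₂ hn]
      exact le_inf hWK h₁.W_le_Q
    apply H2.Card.eq_of_le_of_card_eq h1
    have h2 := H2.Card.card_mul_relIndex (oP_le (p := 2) K₁)
    have h3 : (oP 2 K₁).relIndex K₁ = 3 := h₁.sd.jc.2.2.1
    rw [h3] at h2
    have h4 := Subgroup.card_le_of_le h1
    rw [h₁.four] at h4 ⊢
    omega
  have hKT : K₁ ⊓ T = wOf K₁ := by rw [cx.K_inf_T, hO]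
  have hcK : Nat.card K₁ = 12 := by
    have h2 := H2.Card.card_mul_relIndex (oP_le (p := 2) K₁)
    have h3 : (oP 2 K₁).relIndex K₁ = 3 := h₁.sd.jc.2.2.1
    rw [h3, hO, h₁.four] at h2
    omega
  -- the complement
  obtain ⟨t, htT, htQ, htt⟩ := exists_t h₁ h₂ hn
  have htn : zpowers t ≤ normalizer (K₁ : Set G) := by
    rw [zpowers_le]; exact h₁.sd.TK htT
  have htK : t ∉ K₁ := by
    intro h1
    apply htQ
    apply h₁.W_le_Q
    rw [← hKT]
    exact mem_inf.mpr ⟨h1, htT⟩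
  have hztp : ∀ x ∈ zpowers t, x = 1 ∨ x = t := by
    intro x hx
    obtain ⟨n, rfl⟩ := mem_zpowers_iff.mp hx
    rcases Int.even_or_odd' n with ⟨m, rfl | rfl⟩
    · left
      rw [zpow_mul]
      have : t ^ (2 : ℤ) = 1 := by rw [zpow_two, htt]
      rw [this, one_zpow]
    · right
      rw [zpow_add, zpow_mul]
      have : t ^ (2 : ℤ) = 1 := by rw [zpow_two, htt]
      rw [this, one_zpow, one_mul, zpow_one]
  set P₀ : Subgroup G := zpowers t ⊔ K₁ with hP₀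
  have hP₀P : P₀ ≤ K₁ ⊔ T := sup_le (by rw [zpowers_le]; exact mem_sup_right htT) le_sup_left
  have hmem0 : ∀ x ∈ P₀, x ∈ K₁ ∨ t * x ∈ K₁ := by
    intro x hx
    obtain ⟨a, ha, b, hb, rfl⟩ := (H2.Card.mem_sup_iff htn).mp hx
    rcases hztp a ha with rfl | rfl
    · left; rw [one_mul]; exact hb
    · right
      rw [← mul_assoc, htt, one_mul]; exact hb
  have hQ0 : ∀ x ∈ P₀, x ∈ oP 2 (K₁ ⊔ T) → x ∈ wOf K₁ := by
    intro x hx hxQ
    rcases hmem0 x hx with h1 | h1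
    · rw [← hKT]; exact mem_inf.mpr ⟨h1, h₁.QT hxQ⟩
    · exfalso
      apply htQ
      have h2 : t * x ∈ wOf K₁ := by
        rw [← hKT]; exact mem_inf.mpr ⟨h1, mul_mem htT (h₁.QT hxQ)⟩
      have h3 := mul_mem (h₁.W_le_Q h2) (inv_mem hxQ)
      rwa [mul_inv_cancel_right] at h3
  have hcP₀ : Nat.card P₀ = 24 := by
    have h2 := H2.Card.card_sup_mul_card_inf htn
    have h3 : zpowers t ⊓ K₁ = ⊥ := by
      rw [Subgroup.eq_bot_iff_forall]
      rintro x ⟨hx1, hx2⟩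
      rcases hztp x hx1 with h1 | h1
      · exact h1
      · rw [h1] at hx2; exact absurd hx2 htK
    have h4 : orderOf t = 2 := orderOf_eq_prime (by rw [pow_two]; exact htt) (fun h => htQ (by rw [h]; exact one_mem _))
    rw [h3, Subgroup.card_bot, mul_one, Nat.card_zpowers, h4, hcK] at h2
    exact h2
  have hiso : Nonempty (↥P₀ ≃* Equiv.Perm (Fin 4)) := by
    have hnW : ((wOf K₁).subgroupOf P₀).Normal := by
      constructor
      intro x hx g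
      rw [mem_subgroupOf] at hx ⊢
      exact (mem_normalizer_iff.mp (h₁.NW (hP₀P g.2)) _).mp hx
    have hWP₀ : wOf K₁ ≤ P₀ := hWK.trans le_sup_right
    refine H24.Zas.klein_24 ((wOf K₁).subgroupOf P₀) ?_ ?_ ?_ hcP₀
    · intro w hw
      exact Subtype.ext (h₁.Wsq hw)
    · rw [H2.Card.card_subgroupOf_of_le hWP₀, h₁.four]
    · intro x hx
      rw [mem_subgroupOf]
      apply hQ0 x x.2
      apply h₁.sd.cQ
      rw [mem_centralizer_iff]
      intro y hy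
      obtain ⟨w, hw, h2⟩ := hQdec y hy
      have h3 : w * (x : G) = x * w := by
        have := mem_centralizer_iff.mp hx ⟨w, hWP₀ hw⟩ hw
        exact congrArg Subtype.val this
      have h4 : (x : G) * v = v * x := mem_centralizer_singleton_iff.mp (hvP (hP₀P x.2))
      rcases h2 with rfl | rfl
      · exact h3
      · rw [mul_assoc, ← h4, ← mul_assoc, h3, mul_assoc]
  obtain ⟨φ⟩ := hiso
  have hvo : orderOf v = 2 := orderOf_eq_prime (by rw [pow_two]; exact hvv) hv1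
  have hZ2 : Nonempty (↥(zpowers v) ≃* Multiplicative (ZMod 2)) := by
    refine ⟨mulEquivOfPrimeCardEq (p := 2) ?_ ?_⟩
    · rw [Nat.card_zpowers, hvo]
    · rw [Nat.card_eq_fintype_card]; rfl
  obtain ⟨ψ⟩ := hZ2
  have hvP' : zpowers v ≤ K₁ ⊔ T := by
    rw [zpowers_le]; exact (oP_le _) hvQ
  have hcomm : ∀ (m : ↥P₀) (n : ↥(zpowers v)), Commute (Subgroup.inclusion hP₀P m) (Subgroup.inclusion hvP' n) := by
    intro m n
    apply Subtype.ext
    change (m : G) * n = n * m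
    obtain ⟨k, hk⟩ := mem_zpowers_iff.mp n.2
    have h4 : Commute (m : G) v := mem_centralizer_singleton_iff.mp (hvP (hP₀P m.2))
    rw [← hk]
    exact (h4.zpow_right k).eq
  let F : ↥P₀ × ↥(zpowers v) →* ↥(K₁ ⊔ T) :=
    MonoidHom.noncommCoprod (Subgroup.inclusion hP₀P) (Subgroup.inclusion hvP') hcomm
  have hF : ∀ a b, ((F (a, b) : ↥(K₁ ⊔ T)) : G) = a * b := by
    intro a b
    rfl
  have hinj : Function.Injective F := by
    rw [injective_iff_map_eq_one]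
    rintro ⟨a, b⟩ hab
    have h1 : (a : G) * b = 1 := by
      rw [← hF, hab]; rfl
    have h2 : (b : G) = (a : G)⁻¹ := (inv_eq_of_mul_eq_one_right h1).symm
    have h3 : (b : G) = 1 ∨ (b : G) = v := by
      obtain ⟨n, hnb⟩ := mem_zpowers_iff.mp b.2
      rw [← hnb]
      rcases Int.even_or_odd' n with ⟨m, rfl | rfl⟩
      · left
        rw [zpow_mul]
        have : v ^ (2 : ℤ) = 1 := by rw [zpow_two, hvv]
        rw [this, one_zpow]
      · right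
        rw [zpow_add, zpow_mul]
        have : v ^ (2 : ℤ) = 1 := by rw [zpow_two, hvv]
        rw [this, one_zpow, one_mul, zpow_one]
    have h4 : (b : G) = 1 := by
      rcases h3 with h3 | h3
      · exact h3
      · exfalso
        apply hvW
        apply hQ0 v _ hvQ
        rw [← h3, h2]
        exact inv_mem a.2
    have h5 : (a : G) = 1 := by
      rw [h4] at h1; rwa [mul_one] at h1
    exact Prod.ext (Subtype.ext h5) (Subtype.ext h4)
  have hbij : Function.Bijective F := (Nat.bijective_iff_injective_and_card F).2 ⟨hinj, by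
    rw [Nat.card_prod, hcP₀, Nat.card_zpowers, hvo, hc]⟩
  exact ⟨(MulEquiv.ofBijective F hbij).symm.trans (MulEquiv.prodCongr φ ψ)⟩

end pair

end Cfsg.Agent.H17.KT
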