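import Cfsg.Agent.H17_KT13

/-! Local analysis: components over Sylow subgroups -/

set_option autoImplicit false
set_option linter.unusedSectionVars false
set_option linter.unusedVariables false
set_option linter.unusedSimpArgs false
set_option linter.style.haveILetI false

namespace Cfsg.Agent.H17.KT

open Subgroup Pointwise
open scoped commutatorElement
open Cfsg.Agent.H13.Syl
open Cfsg.Agent.H18.CharP
open Cfsg.Agent.H12.ZJ
open Cfsg.Agent.H18.KS

variable {G : Type*} [Group G] [Finite G]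
variable {S S' K K' L B : Subgroup G}

/-- global hypotheses -/
structure GG (G : Type*) [Group G] [Finite G] : Prop where
  H : Hyp G
  O : pCore 2 G = ⊥

structure Ks (S K : Subgroup G) : Prop where
  syl : IsSylIn 2 S ⊤
  jc : IsJComponent S K
  ne : pCoreOf 2 (K ⊔ S) ≠ ⊥

theorem exists_sylow_of (h : IsSylIn 2 S ⊤) : ∃ S' : Sylow 2 G, (S' : Subgroup G) = S := by
  haveI : Fact (Nat.Prime 2) := ⟨Nat.prime_two⟩
  have h2 : ¬ 2 ∣ S.index := by
    have := h.2.2
    rwa [Subgroup.relIndex_top_right] at this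
  exact ⟨h.2.1.toSylow h2, rfl⟩

theorem NJ_le_NS (H : Hyp G) (S : Sylow 2 G) (hoc : omegaCenterOf (S : Subgroup G) = omegaCenterOf (J (S : Subgroup G))) :
    normalizer (J (S : Subgroup G) : Set G) ≤ normalizer ((S : Subgroup G) : Set G) := by
  haveI : Fact (Nat.Prime 2) := ⟨Nat.prime_two⟩
  intro g hg
  rw [mem_normalizer_iff_cj]
  have h2 : H13.Syl.cj g (omegaCenterOf (S : Subgroup G)) = omegaCenterOf (S : Subgroup G) := by
    rw [hoc, ← omegaCenterOf_cj, mem_normalizer_iff_cj.mp hg]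
  have h3 : H13.Syl.cj g (S : Subgroup G) ≤ normalizer ((S : Subgroup G) : Set G) := by
    refine le_trans ?_ (H.zz S)
    rw [← h2, ← cj_centralizer]
    apply cj_mono
    intro s hs
    rw [mem_centralizer_iff]
    intro z hz
    exact ((mem_omegaCenterOf.mp hz).2.1 s hs).symm
  have h4 := (isSylIn_sylow_top S).mono (Subgroup.le_normalizer (H := (S : Subgroup G))) le_top
  have h5 : IsPGroup 2 ↥((H13.Syl.cj g (S : Subgroup G)) ⊔ (S : Subgroup G) : Subgroup G) :=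
    IsPGroup.to_sup_of_normal_right' (isPGroup_cj S.2) S.2 h3
  have h6 := h4.eq_of_le h5 (sup_le h3 Subgroup.le_normalizer) le_sup_right
  exact H2.Card.eq_of_le_of_card_eq (le_sup_left.trans h6.le) (card_cj _ _)

theorem not_le_NJ (hK : IsJComponent S K) (hS : IsPGroup 2 ↥S) : ¬ K ≤ normalizer (J S : Set G) := by
  intro h2
  apply JC.not_pgroup hK
  apply (J_pgroup hS).to_le
  have h3 : ⁅K, J S⁆ = K := hK.2.1
  conv_lhs => rw [← h3]
  rw [commutator_comm]
  exact H22.Basic.commutator_le_left h2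

theorem Ks.exists_cx (hG : GG G) (h : Ks S K) : ∃ L, Cx (normalizer (J S : Set G)) S K L ∧ Vx S K L ∧
    normalizer (J S : Set G) ≤ normalizer (S : Set G) := by
  obtain ⟨P, hP⟩ := exists_sylow_of h.syl
  subst hP
  have hnK := not_le_NJ h.jc P.2
  have hS1 : (P : Subgroup G) ≠ ⊥ := by
    intro h1
    apply JC.not_pgroup h.jc
    have h3 : ⁅K, J (P : Subgroup G)⁆ = K := h.jc.2.1
    have h4 : J (P : Subgroup G) = ⊥ := le_bot_iff.mp ((H18.KS.J_le _).trans h1.le)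
    rw [h4, commutator_bot_right] at h3
    rw [← h3]; exact IsPGroup.of_bot
  have hst : (P : Subgroup G) ∈ straddlingTwoSubgroups (normalizer (J (P : Subgroup G) : Set G)) := by
    refine ⟨P.2, hS1, LD.T_le_NJ _, normalizer (oP 2 (K ⊔ (P : Subgroup G)) : Set G), ⟨_, oP_isPGroup _, h.ne, rfl⟩, ?_, ?_⟩
    · exact le_sup_right.trans (norm_Q _)
    · intro h1
      exact hnK (le_sup_left.trans ((norm_Q _).trans h1))
  have hmax := sylow_max P hst
  have hK0 := zero_of_outside hG.H P le_rfl hmax h.jc hnK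
  have hKo : K ∈ jComponentsOutside (normalizer (J (P : Subgroup G) : Set G)) (P : Subgroup G) := ⟨hK0, hnK, h.ne⟩
  obtain ⟨L, hL, hKT, _⟩ := s2950_exists hG.H P le_rfl hmax hKo
  have cx := Cx.of_max hG.H P le_rfl hmax hKo hL ((sup_le_sup_left (H18.KS.J_le _) K).trans hKT)
  obtain ⟨g1, g2, g3⟩ := cx.big hG.O
  have hnc : ¬ K ≤ centralizer (omegaCenterOf (P : Subgroup G) : Set G) := fun h1 =>
    hnK (h1.trans ((hG.H.zz P).trans (normalizer_le_NJ _)))
  exact ⟨L, cx, ⟨⟨⟨_, cx⟩, g1, hnc⟩, g2, g3⟩, NJ_le_NS hG.H P g2⟩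

theorem Ks.conj (h : Ks S K) (g : G) : Ks (cj g S) (cj g K) := by
  refine ⟨?_, JC.conj h.jc g, ?_⟩
  · have := h.syl.cj g
    rwa [cj_top] at this
  · intro h1
    apply h.ne
    rw [← cj_sup] at h1
    have h2 : cj g (pCoreOf 2 (K ⊔ S)) = ⊥ := by rw [← h1]; exact (oP_cj g (K ⊔ S)).symm
    exact cj_eq_bot_iff.mp h2

theorem VK_cj (g : G) (S K : Subgroup G) : VK (cj g S) (cj g K) = cj g (VK S K) := by
  rw [VK, VK, cj_sup, omegaCenterOf_cj, wOf_cj]

theorem Ri.conj {r : G} (h : Ri S K r) (g : G) : Ri (cj g S) (cj g K) (g * r * g⁻¹) := by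
  refine ⟨?_, ?_, conj_ne_one h.ne, ?_⟩
  · rw [omegaCenterOf_cj]; exact conj_mem_cj h.Z
  · rw [wOf_cj]; exact conj_mem_cj h.W
  · intro x hx
    rw [omegaCenterOf_cj, wOf_cj, ← cj_inf, mem_cj] at hx
    rcases h.u _ hx with h1 | h1
    · left
      calc x = g * (g⁻¹ * x * g) * g⁻¹ := by group
        _ = 1 := by rw [h1]; group
    · right
      rw [← h1]; group

theorem Ks.of_mem (hG : GG G) (h : Ks S K) {x : G} (hx : x ∈ K ⊔ S) :
    Ks (cj x S) K ∧ K ⊔ cj x S = K ⊔ S ∧ VK (cj x S) K = VK S K := by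
  obtain ⟨L, cx, vx, _⟩ := h.exists_cx hG
  have hxK : cj x K = K := cj_eq_of_mem_normalizer (vx.KP hx)
  have h1 := h.conj x
  rw [hxK] at h1
  refine ⟨h1, ?_, ?_⟩
  · conv_lhs => rw [← hxK]
    rw [← cj_sup, cj_eq_of_mem hx]
  · conv_lhs => rw [← hxK]
    rw [VK_cj, cj_eq_of_mem_normalizer (vx.NV hx)]

theorem norm_zpowers_le {z : G} (hz : z * z = 1) (hz1 : z ≠ 1) : normalizer (zpowers z : Set G) ≤ centralizer ({z} : Set G) := by
  intro x hx
  rw [mem_centralizer_singleton_iff]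
  have h1 : x * z * x⁻¹ ∈ zpowers z := (mem_normalizer_iff.mp hx z).mp (mem_zpowers z)
  obtain ⟨n, hn⟩ := mem_zpowers_iff.mp h1
  have h2 : x * z * x⁻¹ = z := by
    rcases Int.even_or_odd' n with ⟨m, rfl | rfl⟩
    · exfalso
      rw [zpow_mul] at hn
      have : z ^ (2 : ℤ) = 1 := by rw [zpow_two, hz]
      rw [this, one_zpow] at hn
      exact conj_ne_one hz1 hn.symm
    · rw [zpow_add, zpow_mul] at hn
      have : z ^ (2 : ℤ) = 1 := by rw [zpow_two, hz]
      rw [this, one_zpow, one_mul, zpow_one] at hn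
      exact hn.symm
  exact mul_inv_eq_iff_eq_mul.mp h2

/-- components are determined by `Z₁` -/
theorem Ks.uniq_r (hG : GG G) (h : Ks S K) (h' : Ks S K') {r : G} (hr : r ∈ Z1 S K) (hr' : r ∈ Z1 S K') (hr1 : r ≠ 1) :
    K = K' := by
  by_contra hne
  obtain ⟨L, cx, vx, _⟩ := h.exists_cx hG
  have h1 : K' ≤ L := by
    refine le_trans ?_ (cx.cent_le cx.co hr hr1)
    intro k hk
    rw [mem_centralizer_singleton_iff]
    exact (mem_Z1.mp hr').2 k hk
  have c' : Co (normalizer (J S : Set G)) S L K' := ⟨h'.jc, not_le_NJ h'.jc h.syl.2.1, h1⟩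
  obtain ⟨z₁, z₂, n1, n2, n3, e1, e2, q1, q2, q3, _⟩ := pair_of hG.H cx.T2 cx.ld cx.co c' hne vx.c4
  apply n3
  rw [order_two q3 e1 hr' n1 hr1, order_two q2 e2 hr n2 hr1]

/-- **the structure of `C_G(r)`** -/
theorem cent_struct (hG : GG G) (hS : IsSylIn 2 S ⊤) (hNJ : normalizer (J S : Set G) ≤ normalizer (S : Set G))
    (hoc : omegaCenterOf S = omegaCenterOf (J S)) {r : G} (hr : r ∈ omegaCenterOf S) (hr1 : r ≠ 1) :
    centralizer ({r} : Set G) ≤ normalizer (S : Set G) ∨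
      ∃ B, Ks S B ∧ r ∈ Z1 S B ∧ centralizer ({r} : Set G) ≤ normalizer (B : Set G) ∧
        ∀ S' : Subgroup G, IsSylIn 2 S' ⊤ → S' ≤ centralizer ({r} : Set G) → ∃ b ∈ B, S' = cj b S := by
  haveI : Fact (Nat.Prime 2) := ⟨Nat.prime_two⟩
  have hr2 : r * r = 1 := sq_oc hr
  obtain ⟨hX2, hCX⟩ := cent_twoLocal hr2 hr1
  have hXC := norm_zpowers_le hr2 hr1
  set X : Subgroup G := normalizer (zpowers r : Set G) with hX
  have hXeq : X = centralizer ({r} : Set G) := le_antisymm hXC hCX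
  rw [← hXeq]
  have hSX : S ≤ X := by
    refine le_trans ?_ hCX
    intro s hs
    rw [mem_centralizer_singleton_iff]
    exact (mem_omegaCenterOf.mp hr).2.1 s hs
  have hsyl := hS.mono hSX le_top
  have hQS : oP 2 X ≤ S := by
    have h5 : IsPGroup 2 ↥(S ⊔ oP 2 X) := IsPGroup.to_sup_of_normal_right' hsyl.isPGroup (oP_isPGroup _) (hSX.trans (norm_Q _))
    have h6 := hsyl.eq_of_le h5 (sup_le hSX (oP_le _)) le_sup_left
    rw [← h6]; exact le_sup_right
  by_cases hJ : J S ≤ oP 2 X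
  · left
    have h4 : J (oP 2 X) = J S := by
      apply J_of_cj_le (x := 1) hJ
      rw [cj_one]; exact hQS
    have h5 := (norm_Q X).trans (normalizer_le_NJ (oP 2 X))
    rw [h4] at h5
    exact h5.trans hNJ
  · right
    have ld : LD S X := ⟨hsyl, hJ, cQ_of_twoLocal hG.H hX2⟩
    have hmk : ∀ B, IsJComponent S B → B ≤ X → Ks S B ∧ r ∈ Z1 S B := by
      intro B hB hBX
      refine ⟨⟨hS, hB, ?_⟩, ?_⟩
      · intro h1
        have h2 : oP 2 X ≤ oP 2 (B ⊔ S) :=
          le_oP (oP_isPGroup X) (hQS.trans le_sup_right) ((sup_le hBX hSX).trans (norm_Q X))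
        change oP 2 (B ⊔ S) = ⊥ at h1
        rw [h1] at h2
        exact twoLocal_sup_ne hG.H hX2 (le_bot_iff.mp h2)
      · rw [mem_Z1]
        refine ⟨by rw [← hoc]; exact hr, fun k hk => ?_⟩
        exact mem_centralizer_singleton_iff.mp (hXC (hBX hk))
    obtain ⟨B, hB, hBX⟩ := ld.exists_comp' hG.H
    obtain ⟨hB1, hB2⟩ := hmk B hB hBX
    have huniq : ∀ B', IsJComponent S B' → B' ≤ X → B' = B := by
      intro B' hB' hB'X
      obtain ⟨a, b⟩ := hmk B' hB' hB'X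
      exact a.uniq_r hG hB1 b hB2 hr1
    have hNB : X ⊓ normalizer (J S : Set G) ≤ normalizer (B : Set G) := by
      intro g hg
      obtain ⟨hgX, hgJ⟩ := mem_inf.mp hg
      rw [mem_normalizer_iff_cj]
      apply huniq _ (JC.conj_of_norm hB hgJ)
      rw [cj_le_iff, cj_eq_of_mem (inv_mem hgX)]
      exact hBX
    refine ⟨B, hB1, hB2, ?_, ?_⟩
    · apply ld.gen hG.H hNB
      intro B' hB' hB'X
      rw [huniq B' hB' hB'X]
      exact Subgroup.le_normalizer
    · intro S' hS' hS'X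
      have hXle : X ≤ (X ⊓ normalizer (J S : Set G)) ⊔ B := by
        apply ld.gen hG.H le_sup_left
        intro B' hB' hB'X
        rw [huniq B' hB' hB'X]
        exact le_sup_right
      obtain ⟨x, hxX, hx⟩ := (hS'.mono hS'X le_top).exists_conj_eq hsyl
      have h1 : x ∈ B ⊔ (X ⊓ normalizer (J S : Set G)) := by
        rw [sup_comm]; exact hXle hxX
      obtain ⟨b, hb, n, hn, rfl⟩ := (H2.Card.mem_sup_iff' hNB).mp h1
      refine ⟨b, hb, ?_⟩
      rw [← hx, cj_mul, mem_normalizer_iff_cj.mp (hNJ (mem_inf.mp hn).2)]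

/-- **critical pairs** -/
theorem crit (hG : GG G) (hK : Ks S K) (hK' : Ks S' K') (h1 : VK S K ≤ S') (h2 : VK S' K' ≤ S)
    (hn : ¬ VK S K ≤ centralizer (VK S' K' : Set G)) :
    ∃ r, Ri S K r ∧ Ri S' K' r ∧ (S = S' ∨ ∃ B, Ks S B ∧ Ks S' B ∧ r ∈ Z1 S B ∧ r ∈ Z1 S' B ∧ ∃ b ∈ B, S' = cj b S) := by
  obtain ⟨L, cx, vx, nj⟩ := hK.exists_cx hG
  obtain ⟨L', cx', vx', nj'⟩ := hK'.exists_cx hG
  obtain ⟨r, hr⟩ := vx.exists_r
  obtain ⟨r', hr'⟩ := vx'.exists_r
  obtain ⟨x, hx, y, hy, hxy⟩ : ∃ x ∈ VK S K, ∃ y ∈ VK S' K', x * y ≠ y * x := by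
    by_contra hno
    push Not at hno
    apply hn
    intro x hx
    rw [mem_centralizer_iff]
    intro y hy
    exact (hno x hx y hy).symm
  have e1 : y * x * y⁻¹ = x * r := by
    rcases vx.comm_r hr (h2 hy) hx with h | h
    · exact absurd (mul_inv_eq_iff_eq_mul.mp h).symm hxy
    · exact h
  have e2 : x * y * x⁻¹ = y * r' := by
    rcases vx'.comm_r hr' (h1 hx) hy with h | h
    · exact absurd (mul_inv_eq_iff_eq_mul.mp h) hxy
    · exact h
  have c1 : x * r = r * x := vx.V_comm hx (mem_sup_left hr.Z)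
  have c2 : y * r' = r' * y := vx'.V_comm hy (mem_sup_left hr'.Z)
  have f1 : y * x * y⁻¹ * x⁻¹ = r := by rw [e1, c1]; group
  have f2 : x * y * x⁻¹ * y⁻¹ = r' := by rw [e2, c2]; group
  have hrr : r' = r := by
    have h3 : r'⁻¹ = r := by rw [← f1, ← f2]; group
    rw [inv_oc hr'.Z] at h3
    exact h3
  subst hrr
  refine ⟨r', hr, hr', ?_⟩
  have hS'C : S' ≤ centralizer ({r'} : Set G) := by
    intro s hs
    rw [mem_centralizer_singleton_iff]
    exact (mem_omegaCenterOf.mp hr'.Z).2.1 s hs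
  rcases cent_struct hG hK.syl nj vx.oc hr.Z hr.ne with h3 | ⟨B, hB, hrB, hNB, hall⟩
  · left
    haveI : Fact (Nat.Prime 2) := ⟨Nat.prime_two⟩
    have h4 := hK.syl.mono (Subgroup.le_normalizer (H := S)) le_top
    have h5 : IsPGroup 2 ↥(S' ⊔ S : Subgroup G) := IsPGroup.to_sup_of_normal_right' hK'.syl.2.1 hK.syl.2.1 (hS'C.trans h3)
    have h6 := h4.eq_of_le h5 (sup_le (hS'C.trans h3) Subgroup.le_normalizer) le_sup_right
    have h7 : S' ≤ S := le_sup_left.trans h6.le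
    exact (H2.Card.eq_of_le_of_card_eq h7 (hK'.syl.card_eq hK.syl)).symm
  · right
    obtain ⟨b, hb, rfl⟩ := hall S' hK'.syl hS'C
    obtain ⟨k1, k2, k3⟩ := hB.of_mem hG (mem_sup_left hb)
    refine ⟨B, hB, k1, hrB, ?_, b, hb, rfl⟩
    rw [mem_Z1, ← vx'.oc]
    exact ⟨hr'.Z, (mem_Z1.mp hrB).2⟩

end Cfsg.Agent.H17.KT
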