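import Cfsg.Agent.H17_KT14

/-! Local analysis: cosets in `K T` -/

set_option autoImplicit false
set_option linter.unusedSectionVars false
set_option linter.unusedVariables false
set_option linter.unusedSimpArgs false
set_option linter.style.haveILetI false

namespace Cfsg.Agent.H17.KT

open Subgroup Pointwise
open scoped commutatorElement
open Cfsg.Agent.H13.Syl
open Cfsg.Agent.H18.CharP
open Cfsg.Agent.H12.ZJ
open Cfsg.Agent.H18.KS

variable {G : Type*} [Group G] [Finite G]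
variable {T K L : Subgroup G}

theorem four_cosets {P T : Subgroup G} (hidx : T.relIndex P = 3) {a b c d : G} (ha : a ∈ P) (hb : b ∈ P) (hc : c ∈ P) (hd : d ∈ P)
    (hab : a⁻¹ * b ∉ T) (hac : a⁻¹ * c ∉ T) (had : a⁻¹ * d ∉ T) (hbc : b⁻¹ * c ∉ T) (hbd : b⁻¹ * d ∉ T) (hcd : c⁻¹ * d ∉ T) : False := by
  have hne : ∀ (x y : ↥P), (x : G)⁻¹ * y ∉ T → (QuotientGroup.mk x : ↥P ⧸ T.subgroupOf P) ≠ QuotientGroup.mk y := by
    intro x y hxy he
    have h1 : (x⁻¹ * y : ↥P) ∈ T.subgroupOf P := QuotientGroup.eq.mp he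
    exact hxy h1
  have n1 := hne ⟨a, ha⟩ ⟨b, hb⟩ hab
  have n2 := hne ⟨a, ha⟩ ⟨c, hc⟩ hac
  have n3 := hne ⟨a, ha⟩ ⟨d, hd⟩ had
  have n4 := hne ⟨b, hb⟩ ⟨c, hc⟩ hbc
  have n5 := hne ⟨b, hb⟩ ⟨d, hd⟩ hbd
  have n6 := hne ⟨c, hc⟩ ⟨d, hd⟩ hcd
  have hinj : Function.Injective (![QuotientGroup.mk ⟨a, ha⟩, QuotientGroup.mk ⟨b, hb⟩, QuotientGroup.mk ⟨c, hc⟩, QuotientGroup.mk ⟨d, hd⟩] : Fin 4 → ↥P ⧸ T.subgroupOf P) := by
    intro i j hij
    fin_cases i <;> fin_cases j <;> first | rfl | exact absurd hij n1 | exact absurd hij n2 | exact absurd hij n3 | exact absurd hij n4 | exact absurd hij n5 | exact absurd hij n6 | exact absurd hij.symm n1 | exact absurd hij.symm n2 | exact absurd hij.symm n3 | exact absurd hij.symm n4 | exact absurd hij.symm n5 | exact absurd hij.symm n6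
  have h1 := Nat.card_le_card_of_injective _ hinj
  have h2 : Nat.card (↥P ⧸ T.subgroupOf P) = 3 := hidx
  rw [h2, Nat.card_eq_fintype_card, Fintype.card_fin] at h1
  omega

namespace Vx

variable (h : Vx T K L)
include h

theorem not_norm : ¬ K ⊔ T ≤ normalizer (T : Set G) := by
  intro h1
  have h2 : T ≤ oP 2 (K ⊔ T) := le_oP h.sd.T2 le_sup_right h1
  have h3 := h.Q_idx
  rw [Subgroup.relIndex_eq_one.mpr h2] at h3
  omega

theorem gen_of {N : Subgroup G} (hT : T ≤ N) {x : G} (hx : x ∈ K ⊔ T) (hxT : x ∉ T) (hxN : x ∈ N) : K ⊔ T ≤ N := by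
  rcases h.maxT (X := (K ⊔ T) ⊓ N) (le_inf le_sup_right hT) inf_le_left with h1 | h1
  · exact absurd (h1 ▸ mem_inf.mpr ⟨hx, hxN⟩) hxT
  · exact inf_eq_left.mp h1

theorem self_norm {x : G} (hx : x ∈ K ⊔ T) (hxT : x ∉ T) : cj x T ≠ T := by
  intro h1
  exact h.not_norm (h.gen_of Subgroup.le_normalizer hx hxT (mem_normalizer_iff_cj.mpr h1))

theorem gen_cj {N : Subgroup G} (hT : T ≤ N) {x : G} (hx : x ∈ K ⊔ T) (hxT : x ∉ T) (hN : cj x T ≤ N) : K ⊔ T ≤ N := by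
  rcases h.maxT (X := (K ⊔ T) ⊓ N) (le_inf le_sup_right hT) inf_le_left with h1 | h1
  · exfalso
    have h2 : cj x T ≤ T := by
      conv_rhs => rw [← h1]
      refine le_inf ?_ hN
      rw [← cj_eq_of_mem hx]; exact cj_mono le_sup_right
    exact h.self_norm hx hxT (H2.Card.eq_of_le_of_card_eq h2 (card_cj _ _))
  · exact inf_eq_left.mp h1

theorem cjQ {x : G} (hx : x ∈ K ⊔ T) : cj x (oP 2 (K ⊔ T)) = oP 2 (K ⊔ T) := cj_eq_of_mem_normalizer (h.NQ hx)

theorem Q_le_cj {x : G} (hx : x ∈ K ⊔ T) : oP 2 (K ⊔ T) ≤ cj x T := by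
  rw [← h.cjQ hx]; exact cj_mono h.QT

theorem inter {x : G} (hx : x ∈ K ⊔ T) (hxT : x ∉ T) {y : G} (hy : y ∈ T) (hy' : y ∈ cj x T) : y ∈ oP 2 (K ⊔ T) := by
  by_contra hyQ
  apply h.self_norm hx hxT
  symm
  apply H2.Card.eq_of_le_of_card_eq _ (card_cj _ _).symm
  have hQ := h.Q_le_cj hx
  intro t ht
  by_cases h1 : t ∈ oP 2 (K ⊔ T)
  · exact hQ h1
  · have h2 := h.idxQ (inv_mem hy) ht (fun h3 => hyQ (by simpa using inv_mem h3)) h1
    have h3 := mul_mem hy' (hQ h2)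
    rwa [mul_inv_cancel_left] at h3

theorem dcoset {x y t : G} (hx : x ∈ K ⊔ T) (hxT : x ∉ T) (hy : y ∈ K ⊔ T) (hyT : y ∉ T) (ht : t ∈ T)
    (htQ : t ∉ oP 2 (K ⊔ T)) : x⁻¹ * y ∈ T ∨ (t * x)⁻¹ * y ∈ T := by
  by_contra hno
  push Not at hno
  obtain ⟨h1, h2⟩ := hno
  refine four_cosets h.sd.idx3 (one_mem _) hx (mul_mem (mem_sup_right ht) hx) hy ?_ ?_ ?_ ?_ h1 h2
  · rwa [inv_one, one_mul]
  · rw [inv_one, one_mul]
    intro h3
    exact hxT ((Subgroup.mul_mem_cancel_left _ ht).mp h3)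
  · rwa [inv_one, one_mul]
  · intro h3
    apply htQ
    apply h.inter hx hxT ht
    rw [mem_cj]
    rwa [mul_assoc]

theorem exists_t : ∃ t ∈ T, t ∉ oP 2 (K ⊔ T) := by
  by_contra hno
  push Not at hno
  have := Subgroup.relIndex_eq_one.mpr hno
  rw [h.Q_idx] at this
  omega

/-- elements of `V` centralized by some `t ∈ T ∖ Q` -/
theorem fix {t v : G} (ht : t ∈ T) (htQ : t ∉ oP 2 (K ⊔ T)) (hv : v ∈ VK T K) (hc : t * v = v * t) : v ∈ omegaCenterOf T := by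
  refine mem_omegaCenterOf.mpr ⟨h.V_le_T hv, fun s hs => ?_, h.V_sq hv⟩
  by_cases h1 : s ∈ oP 2 (K ⊔ T)
  · exact (h.VQ_comm hv h1).symm
  · have h2 := h.idxQ (inv_mem ht) hs (fun h3 => htQ (by simpa using inv_mem h3)) h1
    have h3 := (h.VQ_comm hv h2).symm
    calc s * v = t * ((t⁻¹ * s) * v) := by group
      _ = (t * v) * (t⁻¹ * s) := by rw [h3]; group
      _ = v * s := by rw [hc]; group

/-- `t ∈ T` centralizes `V` iff it lies in `Q` -/
theorem mem_Q_of {t : G} (ht : t ∈ T) (hc : ∀ v ∈ VK T K, t * v = v * t) : t ∈ oP 2 (K ⊔ T) := by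
  apply h.CV
  refine mem_inf.mpr ⟨mem_sup_right ht, ?_⟩
  rw [mem_centralizer_iff]
  intro v hv
  exact (hc v hv).symm

end Vx

theorem comm_conj {g x y : G} : (g * x * g⁻¹) * (g * y * g⁻¹) = (g * y * g⁻¹) * (g * x * g⁻¹) ↔ x * y = y * x := by
  constructor
  · intro h
    have h1 : g * (x * y) * g⁻¹ = g * (y * x) * g⁻¹ := by
      calc g * (x * y) * g⁻¹ = (g * x * g⁻¹) * (g * y * g⁻¹) := by group
        _ = _ := h
        _ = g * (y * x) * g⁻¹ := by group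
    exact mul_left_cancel (mul_right_cancel h1)
  · intro h
    calc (g * x * g⁻¹) * (g * y * g⁻¹) = g * (x * y) * g⁻¹ := by group
      _ = g * (y * x) * g⁻¹ := by rw [h]
      _ = _ := by group

/-- pairwise commuting -/
def Cm (A B : Subgroup G) : Prop := ∀ x ∈ A, ∀ y ∈ B, x * y = y * x

theorem Cm.symm {A B : Subgroup G} (h : Cm A B) : Cm B A := fun x hx y hy => (h y hy x hx).symm

theorem Cm_iff {A B : Subgroup G} : Cm A B ↔ A ≤ centralizer (B : Set G) := by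
  constructor
  · intro h x hx
    rw [mem_centralizer_iff]
    intro y hy
    exact (h x hx y hy).symm
  · intro h x hx y hy
    exact (mem_centralizer_iff.mp (h hx) y hy).symm

theorem Cm.cj {A B : Subgroup G} (h : Cm A B) (g : G) : Cm (cj g A) (cj g B) := by
  intro x hx y hy
  rw [mem_cj] at hx hy
  have h1 := h _ hx _ hy
  have h2 := (comm_conj (g := g)).mpr h1
  have e1 : g * (g⁻¹ * x * g) * g⁻¹ = x := by group
  have e2 : g * (g⁻¹ * y * g) * g⁻¹ = y := by group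
  rwa [e1, e2] at h2

theorem Cm_cj_iff {A B : Subgroup G} (g : G) : Cm (H13.Syl.cj g A) (H13.Syl.cj g B) ↔ Cm A B := by
  constructor
  · intro h
    have := h.cj g⁻¹
    rwa [cj_inv_cj, cj_inv_cj] at this
  · intro h; exact h.cj g

theorem Cm.mono {A B A' B' : Subgroup G} (h : Cm A B) (hA : A' ≤ A) (hB : B' ≤ B) : Cm A' B' :=
  fun x hx y hy => h x (hA hx) y (hB hy)

end Cfsg.Agent.H17.KT
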