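import Cfsg.Agent.H17_KT15

/-! Local analysis: chains of Sylow subgroups -/

set_option autoImplicit false
set_option linter.unusedSectionVars false
set_option linter.unusedVariables false
set_option linter.unusedSimpArgs false
set_option linter.style.haveILetI false

namespace Cfsg.Agent.H17.KT

open Subgroup Pointwise
open scoped commutatorElement
open Cfsg.Agent.H13.Syl
open Cfsg.Agent.H18.CharP
open Cfsg.Agent.H12.ZJ
open Cfsg.Agent.H18.KS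

variable {G : Type*} [Group G] [Finite G]
variable {S S' K K' L A B D : Subgroup G}

/-- all modules over the same Sylow subgroup commute -/
def St2 (G : Type*) [Group G] [Finite G] : Prop := ∀ S K K' : Subgroup G, Ks S K → Ks S K' → Cm (VK S K) (VK S K')

/-- adjacency -/
def Adj (S S' : Subgroup G) : Prop := ∃ B, Ks S B ∧ ∃ b ∈ B ⊔ S, S' = cj b S

/-- chains -/
def Rn : ℕ → Subgroup G → Subgroup G → Prop
  | 0, S, S' => S = S'
  | n + 1, S, S' => ∃ S₁, Adj S S₁ ∧ Rn n S₁ S'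

theorem Rn.snoc : ∀ (n : ℕ) {S S' : Subgroup G}, Rn (n + 1) S S' → ∃ S₁, Rn n S S₁ ∧ Adj S₁ S' := by
  intro n
  induction n with
  | zero =>
    rintro S S' ⟨S₁, h1, h2⟩
    have h3 : S₁ = S' := h2
    exact ⟨S, rfl, h3 ▸ h1⟩
  | succ n ih =>
    rintro S S' ⟨S₁, h1, h2⟩
    obtain ⟨S₂, h3, h4⟩ := ih h2
    exact ⟨S₂, ⟨S₁, h1, h3⟩, h4⟩

theorem Adj.conj {S S' : Subgroup G} (h : Adj S S') (x : G) : Adj (cj x S) (cj x S') := by
  obtain ⟨B, hB, b, hb, rfl⟩ := h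
  refine ⟨cj x B, hB.conj x, x * b * x⁻¹, ?_, ?_⟩
  · rw [← cj_sup]; exact conj_mem_cj hb
  · rw [← cj_mul, ← cj_mul]; congr 1; group

theorem Rn.conj : ∀ (n : ℕ) {S S' : Subgroup G}, Rn n S S' → ∀ x : G, Rn n (cj x S) (cj x S') := by
  intro n
  induction n with
  | zero => intro S S' h x; have h3 : S = S' := h; subst h3; exact rfl
  | succ n ih =>
    rintro S S' ⟨S₁, h1, h2⟩ x
    exact ⟨cj x S₁, h1.conj x, ih h2 x⟩

theorem Ks.vx (hG : GG G) (h : Ks S K) : ∃ L, Vx S K L := by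
  obtain ⟨L, _, vx, _⟩ := h.exists_cx hG
  exact ⟨L, vx⟩

theorem Ks.le_Q_of (hG : GG G) (hB : Ks S B) {X : Subgroup G} (hX : X ≤ S) (hc : Cm (VK S B) X) : X ≤ oP 2 (B ⊔ S) := by
  obtain ⟨L, vx⟩ := hB.vx hG
  intro x hx
  exact vx.mem_Q_of (hX hx) (fun v hv => (hc v hv x hx).symm)

theorem Ks.V_le_S (hG : GG G) (h : Ks S K) : VK S K ≤ S := by
  obtain ⟨L, vx⟩ := h.vx hG
  exact vx.V_le_T

/-- Claim A -/
theorem St2.le_Q (hst : St2 G) (hG : GG G) (h : Ks S K) (hB : Ks S B) : VK S K ≤ oP 2 (B ⊔ S) :=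
  hB.le_Q_of hG (h.V_le_S hG) (hst S B K hB h)

theorem Ks.Q_le (hG : GG G) (hB : Ks S B) {b : G} (hb : b ∈ B ⊔ S) : oP 2 (B ⊔ S) ≤ cj b S := by
  obtain ⟨L, vx⟩ := hB.vx hG
  exact vx.Q_le_cj hb

theorem chain (hG : GG G) (hst : St2 G)
    (hadj : ∀ S S' A A' : Subgroup G, Ks S A → Ks S' A' → Adj S S' → Cm (VK S A) (VK S' A')) :
    ∀ (n : ℕ) (S S' : Subgroup G), Rn n S S' → ∀ K K', Ks S K → Ks S' K' →
      VK S K ≤ S' ∧ VK S' K' ≤ S ∧ Cm (VK S K) (VK S' K') := by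
  intro n
  induction n with
  | zero =>
    intro S S' h K K' hK hK'
    have h3 : S = S' := h
    subst h3
    exact ⟨hK.V_le_S hG, hK'.V_le_S hG, hst _ _ _ hK hK'⟩
  | succ n ih =>
    intro S S' h K K' hK hK'
    have h1 : VK S K ≤ S' := by
      obtain ⟨S₂, h2, B', hB', b', hb', rfl⟩ := Rn.snoc n h
      obtain ⟨a1, a2, a3⟩ := ih S S₂ h2 K B' hK hB'
      exact (hB'.le_Q_of hG a1 a3.symm).trans (hB'.Q_le hG hb')
    have h2 : VK S' K' ≤ S := by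
      obtain ⟨S₁, ⟨B, hB, b, hb, rfl⟩, h2⟩ := h
      obtain ⟨k1, k2, k3⟩ := hB.of_mem hG hb
      obtain ⟨a1, a2, a3⟩ := ih (cj b S) S' h2 B K' k1 hK'
      have h4 := k1.le_Q_of hG a2 a3
      rw [k2] at h4
      obtain ⟨L, vx⟩ := hB.vx hG
      exact h4.trans vx.QT
    refine ⟨h1, h2, ?_⟩
    by_contra hno
    rw [Cm_iff] at hno
    obtain ⟨r, hr, hr', h3⟩ := crit hG hK hK' h1 h2 hno
    rw [← Cm_iff] at hno
    rcases h3 with h3 | ⟨B, hB, hB', _, _, b, hb, h4⟩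
    · subst h3
      exact hno (hst _ _ _ hK hK')
    · exact hno (hadj S S' K K' hK hK' ⟨B, hB, b, mem_sup_left hb, h4⟩)

theorem exists_adj (hG : GG G) (hst : St2 G) {S K₁ K₂ L₁ : Subgroup G} (h₁ : Ks S K₁) (h₂ : Ks S K₂) (vx : Vx S K₁ L₁)
    (hn : ¬ K₂ ≤ L₁) : ∃ S S' A A' : Subgroup G, Ks S A ∧ Ks S' A' ∧ Adj S S' ∧ ¬ Cm (VK S A) (VK S' A') := by
  by_contra hno
  push Not at hno
  have hch := chain hG hst (fun S S' A A' hA hA' ha => hno S S' A A' hA hA' ha)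
  set Vs : Set (Subgroup G) := {V | ∃ (n : ℕ) (S' K' : Subgroup G), Rn n S S' ∧ Ks S' K' ∧ V = VK S' K'} with hVs
  set N := sSup Vs with hN
  have hNS : N ≤ S := by
    apply sSup_le
    rintro V ⟨n, S', K', hR, hK', rfl⟩
    exact (hch n S S' hR K₁ K' h₁ hK').2.1
  have hnorm : ∀ K, Ks S K → K ⊔ S ≤ normalizer (N : Set G) := by
    intro K hK x hx
    rw [mem_normalizer_iff_cj]
    apply H2.Card.eq_of_le_of_card_eq _ (card_cj _ _)
    rw [cj_le_iff]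
    apply sSup_le
    rintro V ⟨n, S', K', hR, hK', rfl⟩
    rw [← cj_le_iff, ← VK_cj]
    apply le_sSup
    exact ⟨n + 1, cj x S', cj x K', ⟨cj x S, ⟨K, hK, x, hx, rfl⟩, Rn.conj n hR x⟩, hK'.conj x, rfl⟩
  have hV : VK S K₁ ≤ N := le_sSup ⟨0, S, K₁, rfl, h₁, rfl⟩
  obtain ⟨r, hr⟩ := vx.exists_r
  have hNne : N ≠ ⊥ := ne_bot_of_mem (hV (mem_sup_left hr.Z)) hr.ne
  have hN2 : IsTwoLocal (normalizer (N : Set G)) := ⟨N, vx.sd.T2.to_le hNS, hNne, rfl⟩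
  apply hn
  have h3 := vx.sd.le_of_local hN2 (le_sup_left.trans (hnorm K₁ h₁)) (le_sup_right.trans (hnorm K₁ h₁))
  exact (le_sup_left.trans (hnorm K₂ h₂)).trans h3

/-- a noncommuting adjacent triple -/
structure Tri (S S' A D B : Subgroup G) (r b : G) : Prop where
  hA : Ks S A
  hD : Ks S' D
  hB : Ks S B
  rA : Ri S A r
  rD : Ri S' D r
  rB : r ∈ Z1 S B
  hb : b ∈ B ⊔ S
  hS' : S' = cj b S
  nc : ¬ Cm (VK S A) (VK S' D)

theorem exists_tr (hG : GG G) (hst : St2 G) {S K₁ K₂ L₁ : Subgroup G} (h₁ : Ks S K₁) (h₂ : Ks S K₂) (vx : Vx S K₁ L₁)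
    (hn : ¬ K₂ ≤ L₁) : ∃ (S S' A D B : Subgroup G) (r b : G), Tri S S' A D B r b := by
  obtain ⟨S, S', A, D, hA, hD, ⟨B, hB, b, hb, hS'⟩, hnc⟩ := exists_adj hG hst h₁ h₂ vx hn
  have h1 : VK S A ≤ S' := by
    rw [hS']
    exact (hst.le_Q hG hA hB).trans (hB.Q_le hG hb)
  obtain ⟨k1, k2, k3⟩ := hB.of_mem hG hb
  have h2 : VK S' D ≤ S := by
    rw [← hS'] at k1 k2 k3
    have h3 := hst.le_Q hG hD k1
    rw [k2] at h3
    obtain ⟨L, vx⟩ := hB.vx hG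
    exact h3.trans vx.QT
  obtain ⟨r, hr, hr', h3⟩ := crit hG hA hD h1 h2 (fun h => hnc (Cm_iff.mpr h))
  rcases h3 with h3 | ⟨B, hB, hB', e1, e2, b, hb, h4⟩
  · subst h3
    exact (hnc (hst _ _ _ hA hD)).elim
  · exact ⟨S, S', A, D, B, r, b, hA, hD, hB, hr, hr', e1, mem_sup_left hb, h4, hnc⟩

theorem Ri.eq {r r' : G} (h : Ri S K r) (h' : Ri S K r') : r = r' := by
  rcases h'.u r (mem_inf.mpr ⟨h.Z, h.W⟩) with h1 | h1
  · exact absurd h1 h.ne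
  · exact h1

theorem Tri.symm (hG : GG G) {r b : G} (h : Tri S S' A D B r b) : Tri S' S D A B r b⁻¹ := by
  obtain ⟨k1, k2, k3⟩ := h.hB.of_mem hG h.hb
  rw [← h.hS'] at k1 k2 k3
  refine ⟨h.hD, h.hA, k1, h.rD, h.rA, ?_, ?_, ?_, fun h1 => h.nc h1.symm⟩
  · obtain ⟨L, vx⟩ := k1.vx hG
    rw [mem_Z1, ← vx.oc]
    exact ⟨h.rD.Z, (mem_Z1.mp h.rB).2⟩
  · rw [k2]; exact inv_mem h.hb
  · rw [h.hS', cj_inv_cj]

end Cfsg.Agent.H17.KT
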