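import Cfsg.Agent.H17_KT16

/-! Local analysis: reduction to a pair -/

set_option autoImplicit false
set_option linter.unusedSectionVars false
set_option linter.unusedVariables false
set_option linter.unusedSimpArgs false
set_option linter.style.haveILetI false

namespace Cfsg.Agent.H17.KT

open Subgroup Pointwise
open scoped commutatorElement
open Cfsg.Agent.H13.Syl
open Cfsg.Agent.H18.CharP
open Cfsg.Agent.H12.ZJ
open Cfsg.Agent.H18.KS

variable {G : Type*} [Group G] [Finite G]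
variable {S S' K K' L A B D : Subgroup G}

theorem Z1_conj (g : G) (S K : Subgroup G) : Z1 (cj g S) (cj g K) = cj g (Z1 S K) := by
  rw [Z1, Z1, cj_inf, J_cj, omegaCenterOf_cj, cj_centralizer]

theorem Ks.mem_Z1 (hG : GG G) (h : Ks S K) {z : G} (hz : z ∈ omegaCenterOf S) (hc : K ≤ centralizer ({z} : Set G)) : z ∈ Z1 S K := by
  obtain ⟨L, vx⟩ := h.vx hG
  rw [vx.mem_Z1']
  exact ⟨hz, fun k hk => mem_centralizer_singleton_iff.mp (hc hk)⟩

theorem S_le_cent {z : G} (hz : z ∈ omegaCenterOf S) : S ≤ centralizer ({z} : Set G) := by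
  intro s hs
  rw [mem_centralizer_singleton_iff]
  exact (mem_omegaCenterOf.mp hz).2.1 s hs

theorem Ks.V_cj_of_mem (hG : GG G) (h : Ks S K) {s : G} (hs : s ∈ K ⊔ S) : cj s (VK S K) = VK S K := by
  obtain ⟨L, vx⟩ := h.vx hG
  exact cj_eq_of_mem_normalizer (vx.NV hs)

/-- noncommuting conjugates -/
theorem St2.crit2 (hst : St2 G) (hG : GG G) (h : Ks S K) (hA : Ks S A) {y r : G} (hy : y ∈ A ⊔ S)
    (hn : ¬ Cm (VK S K) (cj y (VK S K))) (hr : Ri S K r) : y ∉ S ∧ r ∈ Z1 S A := by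
  have hyS : y ∉ S := by
    intro h1
    apply hn
    rw [h.V_cj_of_mem hG (mem_sup_right h1)]
    exact hst _ _ _ h h
  refine ⟨hyS, ?_⟩
  obtain ⟨L, vxA⟩ := hA.vx hG
  have h1 := hst.le_Q hG h hA
  have h2 : VK S K ≤ cj y S := h1.trans (vxA.Q_le_cj hy)
  have h3 : VK (cj y S) (cj y K) ≤ S := by
    rw [VK_cj]
    refine le_trans (cj_mono h1) ?_
    rw [vxA.cjQ hy]; exact vxA.QT
  obtain ⟨r', hr', hr'', _⟩ := crit hG h (h.conj y) h2 h3 (by rw [VK_cj, ← Cm_iff]; exact hn)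
  have e1 : r = r' := hr.eq hr'
  have e2 : y * r * y⁻¹ = r' := (hr.conj y).eq hr''
  rw [← e1] at e2
  apply hA.mem_Z1 hG hr.Z
  refine le_sup_left.trans (vxA.gen_of (S_le_cent hr.Z) hy hyS ?_)
  rw [mem_centralizer_singleton_iff]
  exact mul_inv_eq_iff_eq_mul.mp e2

/-- normality of `V_A V_B` forces `r_B ∈ Z₁(A)` -/
theorem cent_of (hst : St2 G) (hG : GG G) (hA : Ks S A) (hB : Ks S B) (hU : A ⊔ S ≤ normalizer ((VK S A ⊔ VK S B : Subgroup G) : Set G))
    (hne : ¬ oP 2 (A ⊔ S) ≤ oP 2 (B ⊔ S)) {r : G} (hr : Ri S B r) : r ∈ Z1 S A := by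
  obtain ⟨LA, va⟩ := hA.vx hG
  obtain ⟨LB, vb⟩ := hB.vx hG
  obtain ⟨q, hq, hqB⟩ := SetLike.not_le_iff_exists.mp hne
  have hqS := va.QT hq
  obtain ⟨v, hv, hvq⟩ : ∃ v ∈ VK S B, q * v ≠ v * q := by
    by_contra hno
    push Not at hno
    exact hqB (vb.mem_Q_of hqS hno)
  have h1 : q * v * q⁻¹ = v * r := (vb.comm_r hr hqS hv).resolve_left (fun h => hvq (mul_inv_eq_iff_eq_mul.mp h))
  have hrr := inv_oc hr.Z
  set X : Subgroup G := ⁅VK S A ⊔ VK S B, oP 2 (A ⊔ S)⁆ with hX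
  have hXn : A ⊔ S ≤ normalizer (X : Set G) := by
    intro g hg
    rw [mem_normalizer_iff_cj, hX, cj_commutator, mem_normalizer_iff_cj.mp (hU hg), va.cjQ hg]
  have hXle : X ≤ zpowers r := by
    rw [hX, Subgroup.commutator_le]
    intro u hu p hp
    have hnorm : VK S A ≤ normalizer (VK S B : Set G) := by
      refine le_trans ?_ (vb.NV)
      exact va.V_le_T.trans le_sup_right
    obtain ⟨a, ha, w, hw, rfl⟩ := (H2.Card.mem_sup_iff hnorm).mp hu
    have e1 : a * p = p * a := va.VQ_comm ha hp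
    have e2 : a * r = r * a := (mem_omegaCenterOf.mp hr.Z).2.1 a (va.V_le_T ha)
    have hpS := va.QT hp
    have e3 : ⁅a * w, p⁆ = a * (w * (p * w * p⁻¹)⁻¹) * a⁻¹ := by
      rw [commutatorElement_def]
      have e4 : a⁻¹ * p⁻¹ = p⁻¹ * a⁻¹ := by
        rw [← mul_inv_rev, ← mul_inv_rev, e1]
      calc a * w * p * (a * w)⁻¹ * p⁻¹ = a * w * p * w⁻¹ * (a⁻¹ * p⁻¹) := by group
        _ = _ := by rw [e4]; group
    rw [e3]
    have e5 : w * (p * w * p⁻¹)⁻¹ = 1 ∨ w * (p * w * p⁻¹)⁻¹ = r := by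
      rcases vb.comm_r hr hpS hw with h | h
      · left; rw [h]; group
      · right
        rw [h, mul_inv_rev, hrr]
        have : w * r = r * w := vb.V_comm hw (mem_sup_left hr.Z)
        calc w * (r * w⁻¹) = (w * r) * w⁻¹ := by group
          _ = r := by rw [this]; group
    rcases e5 with e5 | e5
    · rw [e5]
      have : a * 1 * a⁻¹ = 1 := by group
      rw [this]; exact one_mem _
    · rw [e5, e2, mul_inv_cancel_right]
      exact mem_zpowers r
  have hrX : r ∈ X := by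
    have h2 : ⁅v, q⁆ ∈ X := Subgroup.commutator_mem_commutator (mem_sup_right hv) hq
    have h3 : ⁅v, q⁆ = r := by
      rw [commutatorElement_def]
      calc v * q * v⁻¹ * q⁻¹ = v * (q * v * q⁻¹)⁻¹ := by group
        _ = v * (v * r)⁻¹ := by rw [h1]
        _ = v * (r⁻¹ * v⁻¹) := by group
        _ = (v * r) * v⁻¹ := by rw [hrr]; group
        _ = (r * v) * v⁻¹ := by rw [vb.V_comm hv (mem_sup_left hr.Z)]
        _ = r := by group
    rwa [h3] at h2
  have hXeq : X = zpowers r := le_antisymm hXle (by rw [zpowers_le]; exact hrX)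
  apply hA.mem_Z1 hG hr.Z
  refine le_sup_left.trans (hXn.trans ?_)
  rw [hXeq]
  exact norm_zpowers_le (sq_oc hr.Z) hr.ne

/-- the good lemma -/
theorem Tri.good (hst : St2 G) (hG : GG G) {r b : G} (h : Tri S S' A D B r b) {y : G} (hy : y ∈ A ⊔ S) (hyS : y ∉ S)
    (hc : Cm (VK S B) (cj y (VK S B))) :
    A ⊔ S ≤ normalizer ((VK S A ⊔ VK S B : Subgroup G) : Set G) ∧ ∀ r', Ri S B r' → r' ∈ Z1 S A := by
  obtain ⟨hA, hD, hB, rA, rD, rB, hb, hS', nc⟩ := h
  obtain ⟨LA, va⟩ := hA.vx hG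
  obtain ⟨LB, vb⟩ := hB.vx hG
  obtain ⟨LD, vd⟩ := hD.vx hG
  obtain ⟨k1, k2, k3⟩ := hB.of_mem hG hb
  rw [← hS'] at k1 k2 k3
  have hBA := hst.le_Q hG hB hA
  have hAB := hst.le_Q hG hA hB
  have hDB := hst.le_Q hG hD k1
  rw [k2] at hDB
  have hQS' : oP 2 (B ⊔ S) ≤ S' := by rw [hS']; exact vb.Q_le_cj hb
  have hQAy := va.Q_le_cj hy
  have hV'Q : cj y (VK S B) ≤ oP 2 (A ⊔ S) := by
    rw [← va.cjQ hy]; exact cj_mono hBA
  have hV'B : cj y (VK S B) ≤ oP 2 (B ⊔ S) := hB.le_Q_of hG (hV'Q.trans va.QT) hc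
  set U : Subgroup G := VK S A ⊔ cj y (VK S B) with hU
  have hUB : U ≤ oP 2 (B ⊔ S) := sup_le hAB hV'B
  -- an element of `V_D` outside `Q_A`
  obtain ⟨d, hd, hdA⟩ : ∃ d ∈ VK S' D, d ∉ oP 2 (A ⊔ S) := by
    by_contra hno
    push Not at hno
    apply nc
    intro x hx y hy
    exact va.VQ_comm hx (hno y hy)
  have hdS : d ∈ S := vb.QT (hDB hd)
  have hdU : d ∈ normalizer (U : Set G) := by
    rw [mem_normalizer_iff_cj]
    apply H2.Card.eq_of_le_of_card_eq _ (card_cj _ _)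
    rw [cj_le_iff_forall]
    intro u hu
    have huS' : u ∈ S' := hQS' (hUB hu)
    have hrU : r ∈ U := mem_sup_left (mem_sup_left rA.Z)
    have hc : d * u = u * d ∨ d * u = r * (u * d) := by
      have hru : r * u = u * r := ((mem_omegaCenterOf.mp rD.Z).2.1 u huS').symm
      have hrd : r * d = d * r := ((mem_omegaCenterOf.mp rD.Z).2.1 d (vd.V_le_T hd)).symm
      rcases vd.comm_r rD huS' hd with h1 | h1
      · left; exact (mul_inv_eq_iff_eq_mul.mp h1).symm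
      · right
        have h2 : u * d = d * r * u := mul_inv_eq_iff_eq_mul.mp h1
        rw [h2]
        calc d * u = (r * r) * d * u := by rw [sq_oc rD.Z, one_mul]
          _ = r * (r * d) * u := by group
          _ = r * (d * r * u) := by rw [hrd]; group
    rcases hc with h1 | h1
    · rw [h1, mul_inv_cancel_right]; exact hu
    · rw [h1, mul_assoc, mul_inv_cancel_right]
      exact mul_mem hrU hu
  have hyU : cj y S ≤ normalizer (U : Set G) := by
    have h1 : cj y S ≤ normalizer (VK S A : Set G) := by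
      refine le_trans ?_ va.NV
      rw [← cj_eq_of_mem hy]; exact cj_mono le_sup_right
    have h2 : cj y S ≤ normalizer (cj y (VK S B) : Set G) := by
      rw [← cj_normalizer]
      exact cj_mono (le_sup_right.trans vb.NV)
    intro g hg
    rw [mem_normalizer_iff_cj, hU, cj_sup, mem_normalizer_iff_cj.mp (h1 hg), mem_normalizer_iff_cj.mp (h2 hg)]
  have hSU : S ≤ normalizer (U : Set G) := by
    intro s hs
    by_cases h1 : s ∈ oP 2 (A ⊔ S)
    · exact hyU (hQAy h1)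
    · have h2 := va.idxQ (inv_mem hdS) hs (fun h3 => hdA (by simpa using inv_mem h3)) h1
      have h3 := mul_mem hdU (hyU (hQAy h2))
      rwa [mul_inv_cancel_left] at h3
  have hPU : A ⊔ S ≤ normalizer (U : Set G) := va.gen_cj hSU hy hyS hyU
  have hUeq : cj y⁻¹ U = VK S A ⊔ VK S B := by
    rw [hU, cj_sup, cj_inv_cj, hA.V_cj_of_mem hG (inv_mem hy)]
  have hP : A ⊔ S ≤ normalizer ((VK S A ⊔ VK S B : Subgroup G) : Set G) := by
    rw [← hUeq, ← cj_normalizer, ← cj_le_iff, cj_eq_of_mem hy]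
    exact hPU
  refine ⟨hP, fun r' hr' => ?_⟩
  apply cent_of hst hG hA hB hP _ hr'
  intro h1
  -- `Q_A = Q_B`
  have h2 : oP 2 (A ⊔ S) = oP 2 (B ⊔ S) := by
    apply H2.Card.eq_of_le_of_card_eq h1
    have e1 := H2.Card.card_mul_relIndex va.QT
    have e2 := H2.Card.card_mul_relIndex vb.QT
    rw [va.Q_idx] at e1
    rw [vb.Q_idx] at e2
    omega
  apply hdA
  rw [h2]
  exact hDB hd

/-- a pair -/
structure Pr (S A B : Subgroup G) (x : G) : Prop where
  hA : Ks S A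
  hB : Ks S B
  hx : x ∈ B ⊔ S
  nc : ¬ Cm (VK S A) (cj x (VK S A))

theorem exists_pr (hst : St2 G) (hG : GG G) {r b : G} (h : Tri S S' A D B r b) :
    ∃ (S A B : Subgroup G) (x : G), Pr S A B x := by
  obtain ⟨L', vb⟩ := h.hB.vx hG
  obtain ⟨LA, va⟩ := h.hA.vx hG
  obtain ⟨LD, vd⟩ := h.hD.vx hG
  by_cases hC : cj b A = D
  · refine ⟨S, A, B, b, h.hA, h.hB, h.hb, ?_⟩
    rw [← VK_cj, hC, ← h.hS']
    exact h.nc
  by_cases c1 : ∀ y ∈ A ⊔ S, Cm (VK S B) (cj y (VK S B))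
  swap
  · push Not at c1
    obtain ⟨y, hy, hc⟩ := c1
    exact ⟨S, B, A, y, h.hB, h.hA, hy, hc⟩
  by_cases c2 : ∀ y ∈ D ⊔ S', Cm (VK S' B) (cj y (VK S' B))
  swap
  · push Not at c2
    obtain ⟨y, hy, hc⟩ := c2
    exact ⟨S', B, D, y, (h.symm hG).hB, h.hD, hy, hc⟩
  exfalso
  have hex : ∀ {S A L : Subgroup G}, Vx S A L → ∃ y ∈ A ⊔ S, y ∉ S := by
    intro S A L v
    by_contra hno
    push Not at hno
    have := v.sd.idx3
    rw [Subgroup.relIndex_eq_one.mpr (fun y hy => hno y hy)] at this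
    omega
  obtain ⟨r', hr'⟩ := vb.exists_r
  obtain ⟨y₁, hy₁, hy₁S⟩ := hex va
  obtain ⟨y₂, hy₂, hy₂S⟩ := hex vd
  have d1 := (h.good hst hG hy₁ hy₁S (c1 y₁ hy₁)).2 r' hr'
  have hBn : cj b B = B := cj_eq_of_mem_normalizer (vb.KP h.hb)
  have hr'' : Ri S' B (b * r' * b⁻¹) := by
    have := hr'.conj b
    rwa [hBn, ← h.hS'] at this
  have d2 := ((h.symm hG).good hst hG hy₂ hy₂S (c2 y₂ hy₂)).2 _ hr''
  apply hC
  -- `r' ∈ Z₁(C)`, `C = D^{b⁻¹}`
  have hAb : Ks S' (cj b A) := by rw [h.hS']; exact h.hA.conj b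
  have d3 : b * r' * b⁻¹ ∈ Z1 S' (cj b A) := by
    rw [h.hS', Z1_conj]
    exact conj_mem_cj d1
  exact hAb.uniq_r hG h.hD d3 d2 (conj_ne_one hr'.ne)

end Cfsg.Agent.H17.KT
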