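import Cfsg.Agent.H17_KT17

/-! Local analysis: the doubly noncommuting case -/

set_option autoImplicit false
set_option linter.unusedSectionVars false
set_option linter.unusedVariables false
set_option linter.unusedSimpArgs false
set_option linter.style.haveILetI false

namespace Cfsg.Agent.H17.KT

open Subgroup Pointwise
open scoped commutatorElement
open Cfsg.Agent.H13.Syl
open Cfsg.Agent.H18.CharP
open Cfsg.Agent.H12.ZJ
open Cfsg.Agent.H18.KS

variable {G : Type*} [Group G] [Finite G]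
variable {S S' K K' L A B D : Subgroup G}

namespace Pr

variable {x y : G}

theorem xS (h : Pr S A B x) (hst : St2 G) (hG : GG G) : x ∉ S := by
  obtain ⟨LA, va⟩ := h.hA.vx hG
  obtain ⟨r, hr⟩ := va.exists_r
  exact (hst.crit2 hG h.hA h.hB h.hx h.nc hr).1

theorem rZ (h : Pr S A B x) (hst : St2 G) (hG : GG G) {r : G} (hr : Ri S A r) : r ∈ Z1 S B :=
  (hst.crit2 hG h.hA h.hB h.hx h.nc hr).2

/-- all conjugates -/
theorem all (h : Pr S A B x) (hst : St2 G) (hG : GG G) {y : G} (hy : y ∈ B ⊔ S) (hyS : y ∉ S) : ¬ Cm (VK S A) (cj y (VK S A)) := by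
  obtain ⟨LB, vb⟩ := h.hB.vx hG
  obtain ⟨t, ht, htQ⟩ := vb.exists_t
  rcases vb.dcoset h.hx (h.xS hst hG) hy hyS ht htQ with h1 | h1
  · have e : y = x * (x⁻¹ * y) := by group
    rw [e, cj_mul, h.hA.V_cj_of_mem hG (mem_sup_right h1)]
    exact h.nc
  · have e : y = t * (x * ((t * x)⁻¹ * y)) := by group
    rw [e, cj_mul, cj_mul, h.hA.V_cj_of_mem hG (mem_sup_right h1)]
    intro h2
    apply h.nc
    rw [← Cm_cj_iff t, h.hA.V_cj_of_mem hG (mem_sup_right ht)]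
    exact h2

/-- `V_A` does not lie in the conjugate of `Q_A` -/
theorem exists_d (h : Pr S A B x) (hst : St2 G) (hG : GG G) {y : G} (hy : y ∈ B ⊔ S) (hyS : y ∉ S) :
    ∃ d ∈ cj y (VK S A), d ∉ oP 2 (A ⊔ S) ∧ d ∈ oP 2 (B ⊔ S) := by
  obtain ⟨LA, va⟩ := h.hA.vx hG
  obtain ⟨LB, vb⟩ := h.hB.vx hG
  by_contra hno
  push Not at hno
  apply h.all hst hG hy hyS
  have h1 : cj y (VK S A) ≤ oP 2 (B ⊔ S) := by
    rw [← vb.cjQ hy]; exact cj_mono (hst.le_Q hG h.hA h.hB)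
  intro v hv d hd
  by_contra hne
  have h2 : d ∉ oP 2 (A ⊔ S) := fun h3 => hne (va.VQ_comm hv h3)
  exact hno d hd h2 (h1 hd)

theorem not_le (h : Pr S A B x) (hst : St2 G) (hG : GG G) (va : Vx S A L) : ¬ B ≤ L := by
  intro h1
  obtain ⟨M, c⟩ := va.sd.cx
  have h2 := va.V_le_VVL
  apply h.nc
  have hxL : x ∈ L := (sup_le h1 va.sd.ld.syl.le) h.hx
  have h3 : cj x (VK S A) ≤ VV L := by
    have : cj x (VV L) = VV L := cj_eq_of_mem_normalizer (norm_V L hxL)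
    rw [← this]; exact cj_mono h2
  intro u hu v hv
  exact commV' u (h2 hu) v (h3 hv)

theorem not_le' (h : Pr S A B x) (hst : St2 G) (hG : GG G) (vb : Vx S B L) : ¬ A ≤ L := by
  intro h1
  obtain ⟨M, c⟩ := vb.sd.cx
  have h2 : VK S A ≤ VV L := sup_le c.ld.omega_le (LD.W_le_V c.H c.ld h.hA.jc h1)
  apply h.nc
  have hxL : x ∈ L := (sup_le vb.sd.le vb.sd.ld.syl.le) h.hx
  have h3 : cj x (VK S A) ≤ VV L := by
    have : cj x (VV L) = VV L := cj_eq_of_mem_normalizer (norm_V L hxL)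
    rw [← this]; exact cj_mono h2
  intro u hu v hv
  exact commV' u (h2 hu) v (h3 hv)

end Pr

/-- the group `C_{Q_B}(⟨V_A^{P_B}⟩)` -/
def KC (S A B : Subgroup G) : Subgroup G := oP 2 (B ⊔ S) ⊓ centralizer {g : G | ∃ z ∈ B ⊔ S, g ∈ cj z (VK S A)}

theorem mem_KC {g : G} : g ∈ KC S A B ↔ g ∈ oP 2 (B ⊔ S) ∧ ∀ z ∈ B ⊔ S, ∀ v ∈ cj z (VK S A), g * v = v * g := by
  rw [KC, mem_inf, mem_centralizer_iff]
  constructor
  · rintro ⟨h1, h2⟩
    exact ⟨h1, fun z hz v hv => (h2 v ⟨z, hz, hv⟩).symm⟩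
  · rintro ⟨h1, h2⟩
    exact ⟨h1, fun v ⟨z, hz, hv⟩ => (h2 z hz v hv).symm⟩

theorem norm_KC : B ⊔ S ≤ normalizer (KC S A B : Set G) := by
  intro p hp
  rw [mem_normalizer_iff_cj]
  apply H2.Card.eq_of_le_of_card_eq _ (card_cj _ _)
  rw [cj_le_iff_forall]
  intro g hg
  obtain ⟨h1, h2⟩ := mem_KC.mp hg
  rw [mem_KC]
  refine ⟨(mem_normalizer_iff.mp (norm_Q _ hp) g).mp h1, fun z hz v hv => ?_⟩
  have h3 : p⁻¹ * v * p ∈ cj (p⁻¹ * z) (VK S A) := by
    rw [mem_cj] at hv ⊢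
    have e : (p⁻¹ * z)⁻¹ * (p⁻¹ * v * p) * (p⁻¹ * z) = z⁻¹ * v * z := by group
    rwa [e]
  have h4 := h2 _ (mul_mem (inv_mem hp) hz) _ h3
  have h5 := (comm_conj (g := p)).mpr h4
  have e : p * (p⁻¹ * v * p) * p⁻¹ = v := by group
  rwa [e] at h5

theorem V_le_KC (hst : St2 G) (hG : GG G) (hA : Ks S A) (hB : Ks S B) : VK S B ≤ KC S A B := by
  obtain ⟨LB, vb⟩ := hB.vx hG
  intro v hv
  rw [mem_KC]
  refine ⟨vb.V_le_Q hv, fun z hz u hu => ?_⟩
  have h1 := (hst S B A hB hA).cj z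
  rw [hB.V_cj_of_mem hG hz] at h1
  exact h1 v hv u hu

theorem half (hst : St2 G) (hG : GG G) {x y : G} (h : Pr S A B x) (h' : Pr S B A y) {k : G} (hk : k ∈ KC S A B) :
    ∃ v ∈ VK S B, k * v ∈ KC S A B ∧ k * v ∈ KC S B A := by
  obtain ⟨LA, va⟩ := h.hA.vx hG
  obtain ⟨LB, vb⟩ := h.hB.vx hG
  have hyS := h'.xS hst hG
  obtain ⟨t, ht, htA, htB⟩ := h.exists_d hst hG h.hx (h.xS hst hG)
  obtain ⟨hkB, hkc⟩ := mem_KC.mp hk
  have hkS := vb.QT hkB
  have hkt : k * t = t * k := hkc x h.hx t ht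
  have hkA : k ∈ oP 2 (A ⊔ S) := by
    apply va.mem_Q_of hkS
    intro v hv
    exact hkc 1 (one_mem _) v (by rw [cj_one]; exact hv)
  have htS := vb.QT htB
  -- it suffices to commute with one conjugate
  have key : ∀ m ∈ oP 2 (B ⊔ S) ⊓ oP 2 (A ⊔ S), m * t = t * m → (∀ u ∈ cj y (VK S B), m * u = u * m) → m ∈ KC S B A := by
    intro m hm hmt hmu
    rw [mem_KC]
    obtain ⟨hmB, hmA⟩ := mem_inf.mp hm
    refine ⟨hmA, fun z hz v hv => ?_⟩
    by_cases hzS : z ∈ S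
    · rw [h.hB.V_cj_of_mem hG (mem_sup_right hzS)] at hv
      exact (vb.VQ_comm hv hmB).symm
    · rcases va.dcoset h'.hx hyS hz hzS htS htA with h1 | h1
      · have e : z = y * (y⁻¹ * z) := by group
        rw [e, cj_mul, h.hB.V_cj_of_mem hG (mem_sup_right h1)] at hv
        exact hmu v hv
      · have e : z = t * (y * ((t * y)⁻¹ * z)) := by group
        rw [e, cj_mul, cj_mul, h.hB.V_cj_of_mem hG (mem_sup_right h1), mem_cj] at hv
        have h2 := hmu _ hv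
        have h3 := (comm_conj (g := t)).mpr h2
        have e1 : t * m * t⁻¹ = m := by rw [← hmt, mul_inv_cancel_right]
        have e2 : t * (t⁻¹ * v * t) * t⁻¹ = v := by group
        rwa [e1, e2] at h3
  by_cases hc : ∀ u ∈ cj y (VK S B), k * u = u * k
  · refine ⟨1, one_mem _, ?_, ?_⟩
    · rw [mul_one]; exact hk
    · rw [mul_one]
      exact key k (mem_inf.mpr ⟨hkB, hkA⟩) hkt hc
  · obtain ⟨v, hv, u₀, hu₀, hvu⟩ : ∃ v ∈ VK S B, ∃ u ∈ cj y (VK S B), v * u ≠ u * v := by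
      by_contra hno
      push Not at hno
      exact h'.nc hno
    have hvA : v ∈ oP 2 (A ⊔ S) := hst.le_Q hG h.hB h.hA hv
    refine ⟨v, hv, mul_mem hk (V_le_KC hst hG h.hA h.hB hv), ?_⟩
    apply key _ (mem_inf.mpr ⟨mul_mem hkB (vb.V_le_Q hv), mul_mem hkA hvA⟩)
    · have h1 : v * t = t * v := vb.VQ_comm hv htB
      rw [mul_assoc, h1, ← mul_assoc, hkt, mul_assoc]
    · -- at the Sylow subgroup `S^y`
      have hBy := h.hB.conj y
      obtain ⟨L'', vy⟩ := hBy.vx hG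
      have hQA := va.Q_le_cj h'.hx
      have hV : VK (cj y S) (cj y B) = cj y (VK S B) := VK_cj y S B
      have h1 : k ∉ oP 2 (cj y B ⊔ cj y S) := by
        intro h2
        apply hc
        intro u hu
        exact (vy.VQ_comm (by rw [hV]; exact hu) h2).symm
      have h2 : v ∉ oP 2 (cj y B ⊔ cj y S) := by
        intro h2
        apply hvu
        exact (vy.VQ_comm (by rw [hV]; exact hu₀) h2).symm
      have h3 := vy.idxQ (hQA hkA) (hQA hvA) h1 h2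
      intro u hu
      exact (vy.VQ_comm (by rw [hV]; exact hu) h3).symm

theorem Sq_KC_le (hst : St2 G) (hG : GG G) {x y : G} (h : Pr S A B x) (h' : Pr S B A y) :
    H17.SA.Sq (KC S A B) ≤ H17.SA.Sq (KC S B A) := by
  obtain ⟨LB, vb⟩ := h.hB.vx hG
  rw [Sq_le_iff]
  intro k hk
  obtain ⟨v, hv, h1, h2⟩ := half hst hG h h' hk
  have e1 : v * (k * v) = (k * v) * v := vb.VQ_comm hv (mem_KC.mp h1).1
  have e2 : k = v * (k * v) := by
    rw [e1, mul_assoc, vb.V_sq hv, mul_one]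
  have e3 : k * k = (k * v) * (k * v) := by
    conv_lhs => rw [e2]
    exact sq_mul (vb.V_sq hv) e1
  rw [e3]
  exact mem_Sq h2

/-- squares are trivial -/
theorem KC_sq (hst : St2 G) (hG : GG G) {x y : G} (h : Pr S A B x) (h' : Pr S B A y) {k : G} (hk : k ∈ KC S A B) : k * k = 1 := by
  obtain ⟨LA, va⟩ := h.hA.vx hG
  obtain ⟨LB, vb⟩ := h.hB.vx hG
  have e1 : H17.SA.Sq (KC S A B) = H17.SA.Sq (KC S B A) := le_antisymm (Sq_KC_le hst hG h h') (Sq_KC_le hst hG h' h)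
  set N := H17.SA.Sq (KC S A B) with hN
  have n1 : B ⊔ S ≤ normalizer (N : Set G) := norm_KC.trans (norm_Sq _)
  have n2 : A ⊔ S ≤ normalizer (N : Set G) := by rw [e1]; exact norm_KC.trans (norm_Sq _)
  by_cases hNe : N = ⊥
  · have := mem_Sq hk
    rw [← hN, hNe] at this
    exact Subgroup.mem_bot.mp this
  · exfalso
    apply h.not_le hst hG va
    have hNl : IsTwoLocal (normalizer (N : Set G)) := by
      refine ⟨N, (oP_isPGroup (B ⊔ S)).to_le ?_, hNe, rfl⟩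
      exact (H17.SA.Sq_le _).trans inf_le_left
    exact (le_sup_left.trans n1).trans (va.sd.le_of_local hNl (le_sup_left.trans n2) (le_sup_right.trans n2))

/-- a nontrivial square -/
theorem Pr.caseI (hst : St2 G) (hG : GG G) {x y : G} (h : Pr S A B x) (h' : Pr S B A y) : False := by
  obtain ⟨LA, va⟩ := h.hA.vx hG
  obtain ⟨LB, vb⟩ := h.hB.vx hG
  obtain ⟨β, hβ⟩ := va.exists_r
  have hβZ := h.rZ hst hG hβ
  obtain ⟨κ, c⟩ := JC.exists_KD h.hB.jc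
  have hκP : κ ∈ B ⊔ S := mem_sup_left c.mem
  have hcube : κ * κ * κ = 1 := by
    have := c.cube
    simpa only [pow_succ, pow_zero, one_mul] using this
  have hnotS : ∀ g : G, g * g * g = 1 → g ∈ S → g = 1 := by
    intro g hg hgS
    obtain ⟨n, hn⟩ := va.sd.T2 ⟨g, hgS⟩
    have h1 : g ^ 2 ^ n = 1 := congrArg Subtype.val hn
    apply eq_one_of_two_odd h1
    have h2 : orderOf g ∣ 3 := orderOf_dvd_of_pow_eq_one (by simpa only [pow_succ, pow_zero, one_mul] using hg)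
    exact Odd.of_dvd_nat (by decide) h2
  have hκ1 : κ ≠ 1 := fun h1 => c.nmem (by rw [h1]; exact one_mem _)
  have hκS : κ ∉ S := fun h1 => hκ1 (hnotS κ hcube h1)
  have hκκ : κ * κ = κ⁻¹ := eq_inv_of_mul_eq_one_left hcube
  have hκκS : κ * κ ∉ S := by
    rw [hκκ]; intro h1; exact hκS (by simpa using inv_mem h1)
  have hκκP : κ * κ ∈ B ⊔ S := mul_mem hκP hκP
  -- the element `v`
  have hAB := hst.le_Q hG h.hA h.hB
  obtain ⟨v, hv, hvZ⟩ : ∃ v ∈ VK S A, v ∉ omegaCenterOf S := by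
    by_contra hno
    push Not at hno
    obtain ⟨r, hr⟩ := va.exists_r
    apply h.nc
    intro u hu w hw
    have hwS : w ∈ S := by
      have h1 : cj x (VK S A) ≤ oP 2 (B ⊔ S) := by
        rw [← vb.cjQ h.hx]; exact cj_mono hAB
      exact vb.QT (h1 hw)
    exact ((mem_omegaCenterOf.mp (hno u hu)).2.1 w hwS).symm
  have hQn : ∀ {g q : G}, g ∈ B ⊔ S → q ∈ oP 2 (B ⊔ S) → g * q * g⁻¹ ∈ oP 2 (B ⊔ S) := fun hg hq =>
    (mem_normalizer_iff.mp (vb.NQ hg) _).mp hq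
  -- key: conjugates lie outside `Q_A`
  have key : ∀ g ∈ B ⊔ S, g ∉ S → g * v * g⁻¹ ∉ oP 2 (A ⊔ S) := by
    intro g hg hgS h1
    obtain ⟨u, hu, huQ⟩ : ∃ u ∈ VK S A, u ∉ oP 2 (cj g A ⊔ cj g S) := by
      by_contra hno
      push Not at hno
      obtain ⟨L', vg⟩ := (h.hA.conj g).vx hG
      apply h.all hst hG hg hgS
      intro u hu w hw
      exact (vg.VQ_comm (by rw [VK_cj]; exact hw) (hno u hu)).symm
    obtain ⟨L', vg⟩ := (h.hA.conj g).vx hG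
    have h2 : u ∈ cj g S := vb.Q_le_cj hg (hAB hu)
    have h3 : g * v * g⁻¹ ∈ VK (cj g S) (cj g A) := by rw [VK_cj]; exact conj_mem_cj hv
    have h4 := vg.fix h2 huQ h3 (va.VQ_comm hu h1)
    rw [omegaCenterOf_cj, conj_mem_cj_iff] at h4
    exact hvZ h4
  have hβc : ∀ g ∈ B ⊔ S, g * β = β * g := fun g hg => mem_centralizer_singleton_iff.mp (vb.Z1_cent hβZ hg)
  have comm : ∀ g ∈ B ⊔ S, g ∉ S → (g * v * g⁻¹) * v = β * (v * (g * v * g⁻¹)) := by
    intro g hg hgS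
    have h1 : g * v * g⁻¹ ∈ S := vb.QT (hQn hg (hAB hv))
    rcases va.comm_r hβ h1 hv with h2 | h2
    · exact absurd (va.fix h1 (key g hg hgS) hv (mul_inv_eq_iff_eq_mul.mp h2)) hvZ
    · have h3 := mul_inv_eq_iff_eq_mul.mp h2
      rw [h3]
      have h4 : v * β = β * v := va.V_comm hv (mem_sup_left hβ.Z)
      rw [h4, mul_assoc]
  set a₂ := κ * v * κ⁻¹ with ha₂
  set a₃ := (κ * κ) * v * (κ * κ)⁻¹ with ha₃
  have q1 := hAB hv
  have q2 : a₂ ∈ oP 2 (B ⊔ S) := hQn hκP q1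
  have q3 : a₃ ∈ oP 2 (B ⊔ S) := hQn hκκP q1
  have e21 : a₂ * v = β * (v * a₂) := comm κ hκP hκS
  have e31 : a₃ * v = β * (v * a₃) := comm (κ * κ) hκκP hκκS
  have e32 : a₃ * a₂ = β * (a₂ * a₃) := by
    have h1 : κ * (a₂ * v) * κ⁻¹ = κ * (β * (v * a₂)) * κ⁻¹ := by rw [e21]
    have h2 : κ * (a₂ * v) * κ⁻¹ = a₃ * a₂ := by rw [ha₃, ha₂]; group
    have h3 : κ * (β * (v * a₂)) * κ⁻¹ = β * (a₂ * a₃) := by
      calc κ * (β * (v * a₂)) * κ⁻¹ = (κ * β) * (v * a₂) * κ⁻¹ := by group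
        _ = (β * κ) * (v * a₂) * κ⁻¹ := by rw [hβc κ hκP]
        _ = β * (a₂ * a₃) := by rw [ha₃, ha₂]; group
    rw [h2, h3] at h1
    exact h1
  have cyc1 : κ⁻¹ * v * κ = a₃ := by
    rw [ha₃, hκκ]; group
  have cyc2 : κ⁻¹ * a₂ * κ = v := by rw [ha₂]; group
  have cyc3 : κ⁻¹ * a₃ * κ = a₂ := by rw [ha₃, ha₂]; group
  have d1 : κ * v * κ⁻¹ = a₂ := rfl
  have d2 : κ * a₂ * κ⁻¹ = a₃ := by rw [ha₃, ha₂]; group
  have d3 : κ * a₃ * κ⁻¹ = v := by
    rw [← cyc1]; group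
  have n2 : a₂ ∉ oP 2 (A ⊔ S) := key κ hκP hκS
  have n3 : a₃ ∉ oP 2 (A ⊔ S) := key (κ * κ) hκκP hκκS
  have s2 := vb.QT q2
  have s3 := vb.QT q3
  have p1 := va.V_le_Q hv
  set w := v * a₂ * a₃ with hw
  have w1 : w ∈ oP 2 (A ⊔ S) := by
    rw [hw, mul_assoc]
    exact mul_mem p1 (va.idxQ s2 s3 n2 n3)
  have w2 : κ⁻¹ * w * κ ∈ oP 2 (A ⊔ S) := by
    have e : κ⁻¹ * w * κ = (κ⁻¹ * v * κ) * (κ⁻¹ * a₂ * κ) * (κ⁻¹ * a₃ * κ) := by rw [hw]; group
    rw [e, cyc1, cyc2, cyc3]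
    apply va.idxQ (mul_mem s3 (va.QT p1)) s2 _ n2
    intro h1
    exact n3 ((Subgroup.mul_mem_cancel_right _ p1).mp h1)
  have w3 : κ * w * κ⁻¹ ∈ oP 2 (A ⊔ S) := by
    have e : κ * w * κ⁻¹ = (κ * v * κ⁻¹) * (κ * a₂ * κ⁻¹) * (κ * a₃ * κ⁻¹) := by rw [hw]; group
    rw [e, d1, d2, d3]
    exact mul_mem (va.idxQ s2 s3 n2 n3) p1
  have hwB : w ∈ oP 2 (B ⊔ S) := mul_mem (mul_mem q1 q2) q3
  have hwS := vb.QT hwB
  have hwKC : w ∈ KC S A B := by
    rw [mem_KC]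
    refine ⟨hwB, fun z hz u hu => ?_⟩
    by_cases hzS : z ∈ S
    · rw [h.hA.V_cj_of_mem hG (mem_sup_right hzS)] at hu
      exact (va.VQ_comm hu w1).symm
    · have h1 : κ⁻¹ * z ∈ S ∨ (κ * κ)⁻¹ * z ∈ S := by
        by_contra hno
        push Not at hno
        refine four_cosets vb.sd.idx3 (one_mem _) hκP hκκP hz ?_ ?_ ?_ ?_ hno.1 hno.2
        · rwa [inv_one, one_mul]
        · rwa [inv_one, one_mul]
        · rwa [inv_one, one_mul]
        · rwa [inv_mul_cancel_left]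
      rcases h1 with h1 | h1
      · have e : z = κ * (κ⁻¹ * z) := by group
        rw [e, cj_mul, h.hA.V_cj_of_mem hG (mem_sup_right h1), mem_cj] at hu
        have h2 := va.VQ_comm hu w2
        have h3 := (comm_conj (g := κ)).mpr h2
        have e1 : κ * (κ⁻¹ * u * κ) * κ⁻¹ = u := by group
        have e2 : κ * (κ⁻¹ * w * κ) * κ⁻¹ = w := by group
        rw [e1, e2] at h3
        exact h3.symm
      · have e : z = (κ * κ) * ((κ * κ)⁻¹ * z) := by group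
        rw [e, cj_mul, h.hA.V_cj_of_mem hG (mem_sup_right h1), hκκ, mem_cj, inv_inv] at hu
        have h2 := va.VQ_comm hu w3
        have h3 := (comm_conj (g := κ⁻¹)).mpr h2
        have e1 : κ⁻¹ * (κ * u * κ⁻¹) * κ⁻¹⁻¹ = u := by group
        have e2 : κ⁻¹ * (κ * w * κ⁻¹) * κ⁻¹⁻¹ = w := by group
        rw [e1, e2] at h3
        exact h3.symm
  have hw2 := KC_sq hst hG h h' hwKC
  -- compute the square
  have hββ : β * β = 1 := sq_oc hβ.Z
  have b1 : v * β = β * v := va.V_comm hv (mem_sup_left hβ.Z)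
  have b2 : a₂ * β = β * a₂ := (mem_omegaCenterOf.mp hβ.Z).2.1 a₂ s2
  have b3 : a₃ * β = β * a₃ := (mem_omegaCenterOf.mp hβ.Z).2.1 a₃ s3
  have vv : v * v = 1 := va.V_sq hv
  have v2 : a₂ * a₂ = 1 := by
    calc a₂ * a₂ = κ * (v * v) * κ⁻¹ := by rw [ha₂]; group
      _ = 1 := by rw [vv]; group
  have v3 : a₃ * a₃ = 1 := by
    calc a₃ * a₃ = (κ * κ) * (v * v) * (κ * κ)⁻¹ := by rw [ha₃]; group
      _ = 1 := by rw [vv]; group
  have hw3 : w * w = β := by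
    calc w * w = v * a₂ * (a₃ * v) * a₂ * a₃ := by rw [hw]; group
      _ = v * a₂ * (β * (v * a₃)) * a₂ * a₃ := by rw [e31]
      _ = v * (a₂ * β) * v * (a₃ * a₂) * a₃ := by group
      _ = v * (β * a₂) * v * (β * (a₂ * a₃)) * a₃ := by rw [b2, e32]
      _ = (v * β) * (a₂ * v) * β * a₂ * (a₃ * a₃) := by group
      _ = (β * v) * (β * (v * a₂)) * β * a₂ * 1 := by rw [b1, e21, v3]
      _ = β * (v * β) * v * (a₂ * β) * a₂ := by group
      _ = β * (β * v) * v * (β * a₂) * a₂ := by rw [b1, b2]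
      _ = (β * β) * (v * v) * β * (a₂ * a₂) := by group
      _ = β := by rw [hββ, vv, v2, one_mul, one_mul, mul_one]
  rw [hw3] at hw2
  exact hβ.ne hw2

end Cfsg.Agent.H17.KT
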