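import Cfsg.Agent.H17_KT18

/-! Local analysis: the other case -/

set_option autoImplicit false
set_option linter.unusedSectionVars false
set_option linter.unusedVariables false
set_option linter.unusedSimpArgs false
set_option linter.style.haveILetI false

namespace Cfsg.Agent.H17.KT

open Subgroup Pointwise
open scoped commutatorElement
open Cfsg.Agent.H13.Syl
open Cfsg.Agent.H18.CharP
open Cfsg.Agent.H12.ZJ
open Cfsg.Agent.H18.KS

variable {G : Type*} [Group G] [Finite G]
variable {S S' K K' L A B D : Subgroup G}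

/-- odd generation kills the action on a two-element coset -/
theorem oddGen_fix {K : Subgroup G} (hK : oddGen K = K) {e α : G} (hα : K ≤ centralizer ({α} : Set G)) (hαα : α * α = 1)
    (h : ∀ k ∈ K, k * e * k⁻¹ = e ∨ k * e * k⁻¹ = e * α) : K ≤ centralizer ({e} : Set G) := by
  have h1 : oddGen K ≤ centralizer ({e} : Set G) := by
    rw [oddGen, closure_le]
    rintro k ⟨hk, ho⟩
    rw [SetLike.mem_coe, mem_centralizer_singleton_iff]
    rcases h k hk with h2 | h2
    · exact mul_inv_eq_iff_eq_mul.mp h2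
    · -- `k` of odd order
      have hkα : k * α * k⁻¹ = α := by
        rw [mem_centralizer_singleton_iff.mp (hα hk), mul_inv_cancel_right]
      have h3 : k * k * e * (k * k)⁻¹ = e := by
        calc k * k * e * (k * k)⁻¹ = k * (k * e * k⁻¹) * k⁻¹ := by group
          _ = k * (e * α) * k⁻¹ := by rw [h2]
          _ = (k * e * k⁻¹) * (k * α * k⁻¹) := by group
          _ = e := by rw [h2, hkα, mul_assoc, hαα, mul_one]
      have h4 : k * k ∈ centralizer ({e} : Set G) := by
        rw [mem_centralizer_singleton_iff]; exact mul_inv_eq_iff_eq_mul.mp h3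
      obtain ⟨n, hn⟩ := ho
      have h5 : (k * k) ^ (n + 1) = k := by
        have h6 : k ^ orderOf k = 1 := pow_orderOf_eq_one k
        rw [hn, pow_succ, pow_mul, pow_two] at h6
        rw [pow_succ, ← mul_assoc, h6, one_mul]
      have h6 := pow_mem h4 (n + 1)
      rw [h5] at h6
      exact mem_centralizer_singleton_iff.mp h6
  rwa [hK] at h1

theorem Vx.idxZ {T K L : Subgroup G} (h : Vx T K L) : (omegaCenterOf T).relIndex (VK T K) = 2 := by
  have h1 : Nat.card (omegaCenterOf T) * (omegaCenterOf T).relIndex (VK T K) = Nat.card (VK T K) :=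
    H2.Card.card_mul_relIndex le_sup_left
  rw [h.card_V, mul_comm] at h1
  exact Nat.eq_of_mul_eq_mul_right Nat.card_pos h1

theorem Pr.caseII (hst : St2 G) (hG : GG G) {x : G} (h : Pr S A B x) (h' : ∀ y ∈ A ⊔ S, Cm (VK S B) (cj y (VK S B))) : False := by
  obtain ⟨LA, va⟩ := h.hA.vx hG
  obtain ⟨LB, vb⟩ := h.hB.vx hG
  obtain ⟨β, hβ⟩ := va.exists_r
  obtain ⟨α, hα⟩ := vb.exists_r
  have hβZ := h.rZ hst hG hβ
  have hxS := h.xS hst hG
  have hAB := hst.le_Q hG h.hA h.hB
  have hBA := hst.le_Q hG h.hB h.hA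
  have hVV := hst S A B h.hA h.hB
  have hxβ : x * β * x⁻¹ = β := by
    have := mem_centralizer_singleton_iff.mp (vb.Z1_cent hβZ h.hx)
    rw [this, mul_inv_cancel_right]
  -- the triple
  have htri : Tri S (cj x S) A (cj x A) B β x := by
    refine ⟨h.hA, h.hA.conj x, h.hB, hβ, ?_, hβZ, h.hx, rfl, ?_⟩
    · have := hβ.conj x
      rwa [hxβ] at this
    · rw [VK_cj]; exact h.nc
  obtain ⟨y, hy, hyS⟩ : ∃ y ∈ A ⊔ S, y ∉ S := by
    by_contra hno
    push Not at hno
    have := va.sd.idx3
    rw [Subgroup.relIndex_eq_one.mpr (fun y hy => hno y hy)] at this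
    omega
  obtain ⟨hUn, hαA⟩ := htri.good hst hG hy hyS (h' y hy)
  replace hαA := hαA α hα
  have hAα : A ⊔ S ≤ centralizer ({α} : Set G) := va.Z1_cent hαA
  have hαα : α * α = 1 := sq_oc hα.Z
  have hββ : β * β = 1 := sq_oc hβ.Z
  have hαβ : α ≠ β := by
    intro h1
    exact ne_bot_of_mem (Subgroup.mem_inf.mpr ⟨h1 ▸ hβZ, hα.W⟩) hα.ne (Z1_inf_W h.hB.jc)
  have hcZ : Nat.card (omegaCenterOf S) ≤ 4 := by rw [va.oc]; exact va.c4
  have hZcases := four_cases hcZ hα.Z hβ.Z hα.ne hβ.ne hαβ hαα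
  set U : Subgroup G := VK S A ⊔ VK S B with hU
  -- `c`
  set c := x * α * x⁻¹ with hc
  have hcW : c ∈ wOf B := (mem_normalizer_iff.mp (vb.NW h.hx) α).mp hα.W
  have hcVB : c ∈ VK S B := mem_sup_right hcW
  have hcα : α ≠ c := by
    intro h1
    apply vb.r_nc hα
    refine le_sup_left.trans (vb.gen_of (S_le_cent hα.Z) h.hx hxS ?_)
    rw [mem_centralizer_singleton_iff]
    exact mul_inv_eq_iff_eq_mul.mp h1.symm
  have hWB := four_cases (le_of_eq vb.four) hα.W hcW hα.ne (conj_ne_one hα.ne) hcα hαα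
  -- (O) is impossible
  have caseO : ¬ A ≤ centralizer ({c} : Set G) := by
    intro h1
    apply h.not_le' hst hG vb
    have h2 : A ≤ normalizer (wOf B : Set G) := by
      refine le_trans ?_ (Subgroup.centralizer_le_normalizer _)
      intro a ha
      rw [mem_centralizer_iff]
      intro w hw
      have e1 := mem_centralizer_singleton_iff.mp (h1 ha)
      have e2 := mem_centralizer_singleton_iff.mp (hAα (mem_sup_left ha))
      rcases hWB w hw with rfl | rfl | rfl | rfl
      · rw [one_mul, mul_one]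
      · exact e2.symm
      · exact e1.symm
      · rw [mul_assoc, ← e1, ← mul_assoc, ← e2, mul_assoc]
    exact h2.trans (vb.sd.le_of_local (JC.twoLocal h.hB.jc) (le_sup_left.trans vb.NW) (le_sup_right.trans vb.NW))
  -- (N) is impossible
  have caseN : ¬ A ≤ centralizer ({c * β} : Set G) := by
    intro h1
    obtain ⟨κ, kd⟩ := JC.exists_KD h.hA.jc
    have hκz : κ ∈ centralizer ({c * β} : Set G) := h1 kd.mem
    have hAx := h.hA.conj x
    obtain ⟨L₂, cx₂, v₂, nj₂⟩ := hAx.exists_cx hG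
    have hz : c * β = x * (α * β) * x⁻¹ := by
      calc c * β = c * (x * β * x⁻¹) := by rw [hxβ]
        _ = _ := by rw [hc]; group
    have hzZ : c * β ∈ omegaCenterOf (cj x S) := by
      rw [hz, omegaCenterOf_cj]; exact conj_mem_cj (mul_mem hα.Z hβ.Z)
    have hz1 : c * β ≠ 1 := by
      rw [hz]
      apply conj_ne_one
      intro h2
      apply hαβ
      have : α = β⁻¹ := eq_inv_of_mul_eq_one_left h2
      rw [this, inv_oc hβ.Z]
    have hβ₂ : β ∈ omegaCenterOf (cj x S) := by
      rw [← hxβ, omegaCenterOf_cj]; exact conj_mem_cj hβ.Z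
    have hWA : ∀ X : Subgroup G, β ∈ X → κ * β * κ⁻¹ ∈ X → wOf A ≤ X := by
      intro X h2 h3 w hw
      rcases va.W_cases hβ kd w hw with rfl | rfl | rfl | rfl
      · exact one_mem _
      · exact h2
      · exact h3
      · exact mul_mem h2 h3
    rcases cent_struct hG hAx.syl nj₂ v₂.oc hzZ hz1 with h2 | ⟨Ks', hK', hzK, hNK, _⟩
    · -- `C(z) ≤ N(S₂)`
      have h3 : κ ∈ normalizer (omegaCenterOf (cj x S) : Set G) := by
        rw [mem_normalizer_iff_cj, ← omegaCenterOf_cj, mem_normalizer_iff_cj.mp (h2 hκz)]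
      have h4 := hWA _ hβ₂ ((mem_normalizer_iff.mp h3 β).mp hβ₂)
      have h5 : wOf A = omegaCenterOf (cj x S) := by
        apply H2.Card.eq_of_le_of_card_eq h4
        apply le_antisymm (Subgroup.card_le_of_le h4)
        rw [va.four, v₂.oc]; exact v₂.c4
      apply hz1
      apply comp_fix h.hA.jc (by rw [h5]; exact hzZ)
      intro k hk
      exact mem_centralizer_singleton_iff.mp (h1 hk)
    · -- the component `K*`
      obtain ⟨L₃, v₃⟩ := hK'.vx hG
      have hZ1 : ∀ e ∈ Z1 (cj x S) Ks', e = 1 ∨ e = c * β := by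
        intro e he
        by_cases he1 : e = 1
        · exact Or.inl he1
        · right
          have n1 := card_Z0 v₃.sd.T2 v₃.sd.jc
          have n2 := v₃.c4
          have n3 := one_lt_card_of_mem he he1
          exact order_two (by omega) he hzK he1 hz1
      have hVn : centralizer ({c * β} : Set G) ≤ normalizer (VK (cj x S) Ks' : Set G) := by
        intro g hg
        rw [mem_normalizer_iff_cj]
        apply H2.Card.eq_of_le_of_card_eq _ (card_cj _ _)
        rw [cj_le_iff_forall]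
        intro v hv
        obtain ⟨z, hz, w, hw, rfl⟩ := v₃.mem_V.mp hv
        obtain ⟨e, he, w', hw', rfl⟩ := v₃.Z_dec hz
        have hge : g * e * g⁻¹ = e := by
          rcases hZ1 e he with rfl | rfl
          · group
          · rw [mem_centralizer_singleton_iff.mp hg, mul_inv_cancel_right]
        have hgw : ∀ w ∈ wOf Ks', g * w * g⁻¹ ∈ VK (cj x S) Ks' := fun w hw =>
          mem_sup_right ((mem_normalizer_iff.mp (normalizer_le_wOf _ (hNK hg)) w).mp hw)
        have e1 : g * (e * w' * w) * g⁻¹ = (g * e * g⁻¹) * (g * w' * g⁻¹) * (g * w * g⁻¹) := by group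
        rw [e1, hge]
        exact mul_mem (mul_mem (mem_sup_left (v₃.mem_Z1'.mp he).1) (hgw w' (mem_inf.mp hw').2)) (hgw w hw)
      have hβV : β ∈ VK (cj x S) Ks' := mem_sup_left hβ₂
      have h4 := hWA _ hβV ((mem_normalizer_iff.mp (hVn hκz) β).mp hβV)
      -- an element `t`
      obtain ⟨s, hs, hsQ⟩ := vb.exists_t
      set t := x * s * x⁻¹ with ht
      have htS₂ : t ∈ cj x S := conj_mem_cj hs
      have htP : t ∈ B ⊔ S := mul_mem (mul_mem h.hx (mem_sup_right hs)) (inv_mem h.hx)
      have htQ : t ∉ oP 2 (B ⊔ S) := by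
        intro h5
        apply hsQ
        rw [← vb.cjQ h.hx] at h5
        exact conj_mem_cj_iff.mp h5
      have htS : t ∉ S := fun h5 => htQ (vb.inter h.hx hxS h5 htS₂)
      have h5 : cj t (wOf A) ≤ VK (cj x S) Ks' := by
        have : cj t (VK (cj x S) Ks') = VK (cj x S) Ks' :=
          hK'.V_cj_of_mem hG (mem_sup_right htS₂)
        rw [← this]; exact cj_mono h4
      apply h.all hst hG htP htS
      -- `V_A` and `V_A^t` commute
      have hVS : VK S A ≤ cj t S := hAB.trans (vb.Q_le_cj htP)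
      have hVS' : cj t (VK S A) ≤ S := by
        refine le_trans ?_ vb.QT
        rw [← vb.cjQ htP]; exact cj_mono hAB
      intro u hu w hw
      have hw0 := hw
      rw [VK, cj_sup] at hw
      have hnorm : cj t (omegaCenterOf S) ≤ normalizer (cj t (wOf A) : Set G) := by
        rw [← cj_normalizer]; exact cj_mono va.ZW_norm
      obtain ⟨z₂, hz₂, w₂, hw₂, rfl⟩ := (H2.Card.mem_sup_iff hnorm).mp hw
      obtain ⟨z₁, hz₁, w₁, hw₁, rfl⟩ := va.mem_V.mp hu
      have hz₂V : ∀ g ∈ cj t S, g * z₂ = z₂ * g := by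
        intro g hg
        rw [← omegaCenterOf_cj] at hz₂
        exact (mem_omegaCenterOf.mp hz₂).2.1 g hg
      have f1 : z₁ * (z₂ * w₂) = (z₂ * w₂) * z₁ := ((mem_omegaCenterOf.mp hz₁).2.1 _ (hVS' hw0)).symm
      have f2 : w₁ * z₂ = z₂ * w₁ := hz₂V w₁ (hVS (mem_sup_right hw₁))
      have f3 : w₁ * w₂ = w₂ * w₁ := v₃.V_comm (h4 hw₁) (h5 hw₂)
      calc z₁ * w₁ * (z₂ * w₂) = z₁ * (w₁ * z₂) * w₂ := by group
        _ = z₁ * z₂ * (w₁ * w₂) := by rw [f2]; group
        _ = (z₁ * (z₂ * w₂)) * w₁ := by rw [f3]; group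
        _ = z₂ * w₂ * (z₁ * w₁) := by rw [f1]; group
  -- the element `e`
  obtain ⟨κ, kd⟩ := JC.exists_KD h.hA.jc
  have hκP : κ ∈ A ⊔ S := mem_sup_left kd.mem
  have hκU : ∀ u ∈ U, κ * u * κ⁻¹ ∈ U := fun u hu => (mem_normalizer_iff.mp (hUn hκP) u).mp hu
  have hκV : ∀ u ∈ VK S A, κ * u * κ⁻¹ ∈ VK S A := fun u hu => (mem_normalizer_iff.mp (va.NV hκP) u).mp hu
  have hκV' : ∀ u, κ * u * κ⁻¹ ∈ VK S A → u ∈ VK S A := fun u hu => (mem_normalizer_iff.mp (va.NV hκP) u).mpr hu
  have hnorm : VK S A ≤ normalizer (VK S B : Set G) := va.V_le_T.trans (le_sup_right.trans vb.NV)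
  have hUc : ∀ u ∈ U, ∀ w ∈ U, u * w = w * u := by
    intro u hu w hw
    obtain ⟨a, ha, b, hb, rfl⟩ := (H2.Card.mem_sup_iff hnorm).mp hu
    obtain ⟨a', ha', b', hb', rfl⟩ := (H2.Card.mem_sup_iff hnorm).mp hw
    have f1 := hVV a ha b' hb'
    have f2 := hVV a' ha' b hb
    have f3 := va.V_comm ha ha'
    have f4 := vb.V_comm hb hb'
    calc a * b * (a' * b') = a * (b * a') * b' := by group
      _ = a * (a' * b) * b' := by rw [f2]
      _ = (a * a') * (b * b') := by group
      _ = a' * (a * b') * b := by rw [f3, f4]; group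
      _ = a' * b' * (a * b) := by rw [f1]; group
  have hcU : c ∈ U := mem_sup_right hcVB
  have hcc : c * c = 1 := vb.V_sq hcVB
  have hκc : c * (κ * c * κ⁻¹) ∈ VK S A := by
    by_cases h1 : c ∈ VK S A
    · exact mul_mem h1 (hκV c h1)
    · have h2 : κ * c * κ⁻¹ ∉ VK S A := fun h3 => h1 (hκV' c h3)
      obtain ⟨a, ha, b, hb, hab⟩ := (H2.Card.mem_sup_iff hnorm).mp (hκU c hcU)
      have h3 : b ∉ omegaCenterOf S := by
        intro h3; apply h2; rw [← hab]; exact mul_mem ha (mem_sup_left h3)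
      have h4 : c ∉ omegaCenterOf S := fun h3 => h1 (mem_sup_left h3)
      have h5 := H17.SA.idx2 vb.idxZ hcVB hb h4 h3
      have h6 := hVV a ha c hcVB
      rw [← hab, ← mul_assoc, ← h6, mul_assoc]
      exact mul_mem ha (mem_sup_left h5)
  set c₁ := κ * c * κ⁻¹ with hc₁
  set c₂ := κ * c₁ * κ⁻¹ with hc₂
  have hc₁U := hκU c hcU
  have hc₂U := hκU c₁ hc₁U
  have hc₃ : κ * c₂ * κ⁻¹ = c := kd.cube' c
  set e := c * c₁ * c₂ with he
  have hκe : κ * e * κ⁻¹ = e := by
    have e1 : κ * e * κ⁻¹ = (κ * c * κ⁻¹) * (κ * c₁ * κ⁻¹) * (κ * c₂ * κ⁻¹) := by rw [he]; group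
    rw [e1, hc₃]
    change c₁ * c₂ * c = e
    rw [hUc _ (mul_mem hc₁U hc₂U) _ hcU, he]
    exact (mul_assoc c c₁ c₂).symm
  obtain ⟨a, ha, hea⟩ : ∃ a ∈ VK S A, e = c * a := by
    refine ⟨c₁ * c₂, ?_, by rw [he, mul_assoc]⟩
    have h1 := hκV _ hκc
    have h2 : κ * (c * c₁) * κ⁻¹ = c₁ * c₂ := by rw [hc₂, hc₁]; group
    rwa [h2] at h1
  -- `A` centralizes `e`
  have hQe : ∀ q ∈ oP 2 (A ⊔ S), q * e * q⁻¹ = e ∨ q * e * q⁻¹ = e * α := by
    intro q hq
    have f1 : a * q = q * a := va.VQ_comm ha hq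
    have f2 : q * e * q⁻¹ = (q * c * q⁻¹) * a := by
      rw [hea]
      calc q * (c * a) * q⁻¹ = q * c * q⁻¹ * (q * a) * q⁻¹ := by group
        _ = (q * c * q⁻¹) * a := by rw [← f1]; group
    rcases vb.comm_r hα (va.QT hq) hcVB with f3 | f3
    · left; rw [f2, f3, hea]
    · right
      rw [f2, f3, hea]
      have f4 : α * a = a * α := va.V_comm (mem_sup_left hα.Z) ha
      calc c * α * a = c * (α * a) := mul_assoc _ _ _
        _ = c * (a * α) := by rw [f4]
        _ = c * a * α := (mul_assoc _ _ _).symm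
  have hOQ : oP 2 A ≤ oP 2 (A ⊔ S) := by
    apply le_oP (oP_isPGroup A) ((oP_le A).trans le_sup_left)
    intro g hg
    have h1 : cj g A = A := cj_eq_of_mem_normalizer (va.KP hg)
    rw [mem_normalizer_iff_cj, ← oP_cj, h1]
  have hAe : A ≤ centralizer ({e} : Set G) := by
    apply oddGen_fix (JC.gen h.hA.jc) (le_sup_left.trans hAα) hαα
    intro g hg
    have h1 : zpowers κ ≤ normalizer (oP 2 A : Set G) := by
      rw [zpowers_le]; exact norm_Q A kd.mem
    rw [← kd.sup] at hg
    obtain ⟨q, hq, k, hk, rfl⟩ := (H2.Card.mem_sup_iff' h1).mp hg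
    have h2 : k * e * k⁻¹ = e := by
      have h3 : zpowers κ ≤ centralizer ({e} : Set G) := by
        rw [zpowers_le, mem_centralizer_singleton_iff]
        exact mul_inv_eq_iff_eq_mul.mp hκe
      rw [mem_centralizer_singleton_iff.mp (h3 hk), mul_inv_cancel_right]
    have h3 : q * k * e * (q * k)⁻¹ = q * e * q⁻¹ := by
      calc q * k * e * (q * k)⁻¹ = q * (k * e * k⁻¹) * q⁻¹ := by group
        _ = _ := by rw [h2]
    rw [h3]
    exact hQe q (hOQ hq)
  -- an element `t ∈ Q_B ∖ Q_A`
  obtain ⟨t, ht, htA, htB⟩ := h.exists_d hst hG h.hx hxS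
  have htS := vb.QT htB
  have hte : t * a = a * t := by
    have htc : t * c = c * t := (vb.VQ_comm hcVB htB).symm
    rcases va.comm_r hβ htS ha with f1 | f1
    · exact mul_inv_eq_iff_eq_mul.mp f1
    · exfalso
      have f2 : t * e * t⁻¹ = e * β := by
        rw [hea]
        calc t * (c * a) * t⁻¹ = (t * c) * (t⁻¹ * (t * a * t⁻¹)) := by group
          _ = (c * t) * (t⁻¹ * (a * β)) := by rw [htc, f1]
          _ = c * a * β := by group
      apply va.r_nc hβ
      have hA2 : A ≤ centralizer ({e * β} : Set G) := by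
        rw [← f2, ← cj_centralizer_singleton, ← cj_eq_of_mem_normalizer (va.sd.TK htS)]
        exact cj_mono hAe
      intro g hg
      rw [mem_centralizer_singleton_iff]
      have g1 := mem_centralizer_singleton_iff.mp (hAe hg)
      have g2 := mem_centralizer_singleton_iff.mp (hA2 hg)
      have g3 : e * (g * β) = e * (β * g) := by
        calc e * (g * β) = (e * g) * β := by group
          _ = g * (e * β) := by rw [← g1]; group
          _ = e * (β * g) := by rw [g2]; group
      exact mul_left_cancel g3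
  have haZ := va.fix htS htA ha hte
  have hAαe : ∀ g ∈ A, g * α = α * g := fun g hg => mem_centralizer_singleton_iff.mp (hAα (mem_sup_left hg))
  have hαc : α * c = c * α := vb.V_comm (mem_sup_left hα.Z) hcVB
  have hαβ' : α * β = β * α := oc_comm hα.Z hβ.Z
  rcases hZcases a haZ with rfl | rfl | rfl | rfl
  · apply caseO
    rw [mul_one] at hea
    rwa [← hea]
  · apply caseO
    intro g hg
    rw [mem_centralizer_singleton_iff]
    have g1 := mem_centralizer_singleton_iff.mp (hAe hg)
    rw [hea] at g1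
    have g2 := hAαe g hg
    have g3 : g * c * a = c * g * a := by
      calc g * c * a = g * (c * a) := by group
        _ = c * (a * g) := by rw [g1]; group
        _ = c * g * a := by rw [← g2]; group
    exact mul_right_cancel g3
  · apply caseN
    rwa [← hea]
  · apply caseN
    intro g hg
    rw [mem_centralizer_singleton_iff]
    have g1 := mem_centralizer_singleton_iff.mp (hAe hg)
    rw [hea] at g1
    have g2 := hAαe g hg
    have g3 : g * (c * β) * α = c * β * g * α := by
      calc g * (c * β) * α = g * (c * (β * α)) := by group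
        _ = g * (c * (α * β)) := by rw [hαβ']
        _ = c * (α * β) * g := g1
        _ = c * (β * α) * g := by rw [hαβ']
        _ = c * β * (α * g) := by group
        _ = c * β * g * α := by rw [← g2]; group
    exact mul_right_cancel g3

/-- no pair exists -/
theorem Pr.false (hst : St2 G) (hG : GG G) {x : G} (h : Pr S A B x) : False := by
  by_cases h' : ∀ y ∈ A ⊔ S, Cm (VK S B) (cj y (VK S B))
  · exact h.caseII hst hG h'
  · push Not at h'
    obtain ⟨y, hy, hc⟩ := h'
    exact h.caseI hst hG ⟨h.hB, h.hA, hy, hc⟩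

/-- **two adjacent noncommuting components at the same Sylow subgroup** -/
theorem exists_noncomm (hG : GG G) {S K₁ K₂ L₁ : Subgroup G} (h₁ : Ks S K₁) (h₂ : Ks S K₂) (vx : Vx S K₁ L₁)
    (hn : ¬ K₂ ≤ L₁) : ∃ S' A B : Subgroup G, Ks S' A ∧ Ks S' B ∧ ¬ Cm (VK S' A) (VK S' B) := by
  by_contra hno
  push Not at hno
  have hst : St2 G := fun S K K' hK hK' => hno S K K' hK hK'
  obtain ⟨S', S'', A, D, B, r, b, ht⟩ := exists_tr hG hst h₁ h₂ vx hn
  obtain ⟨S₀, A₀, B₀, x₀, hp⟩ := exists_pr hst hG ht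
  exact hp.false hst hG

end Cfsg.Agent.H17.KT
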