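import Cfsg.Agent.H17_KT19

/-! Local analysis: final statement -/

set_option autoImplicit false
set_option linter.unusedSectionVars false
set_option linter.unusedVariables false
set_option linter.unusedSimpArgs false
set_option linter.style.haveILetI false

namespace Cfsg.Agent.H17.KT

open Subgroup Pointwise
open scoped commutatorElement
open Cfsg.Agent.H13.Syl
open Cfsg.Agent.H18.CharP
open Cfsg.Agent.H12.ZJ
open Cfsg.Agent.H18.KS

variable {G : Type*} [Group G] [Finite G]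
variable {T K L M : Subgroup G}

/-- the noncommuting pair -/
theorem exists_npair (H : Hyp G) (hO : pCore 2 G = ⊥) (S : Sylow 2 G) (hM : normalizer (J (S : Subgroup G) : Set G) ≤ M)
    (hT : T ∈ maxStraddlingTwoSubgroups M) (hTS : T ≤ (S : Subgroup G)) :
    ∃ K₁ K₂ L₁ L₂, Vx T K₁ L₁ ∧ Vx T K₂ L₂ ∧ ¬ VK T K₁ ≤ centralizer (VK T K₂ : Set G) := by
  haveI : Fact (Nat.Prime 2) := ⟨Nat.prime_two⟩
  have hG : GG G := ⟨H, hO⟩
  rcases eq_or_lt_of_le hTS with h1 | h1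
  · subst h1
    obtain ⟨K₁, K₂, L₁, L₂, h₁, h₂, hn⟩ := exists_pair H hO S hM hT le_rfl
    have hmk : ∀ K L, Sd (S : Subgroup G) K L → Ks (S : Subgroup G) K := by
      intro K L h
      refine ⟨isSylIn_sylow_top S, h.jc, ?_⟩
      intro h2
      obtain ⟨M', c⟩ := h.cx
      have h3 := h.cQ
      change oP 2 (K ⊔ (S : Subgroup G)) = ⊥ at h2
      rw [h2] at h3
      apply c.T1
      rw [eq_bot_iff]
      intro x _
      apply h3
      rw [mem_centralizer_iff]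
      intro y hy
      rw [Subgroup.mem_bot.mp hy, one_mul, mul_one]
    have k₁ := hmk K₁ L₁ h₁
    have k₂ := hmk K₂ L₂ h₂
    obtain ⟨L, cx, vx, _⟩ := k₁.exists_cx hG
    have hL : L = L₁ := h₁.uniq cx.mx (sup_le cx.le cx.ld.syl.le)
    rw [← hL] at hn
    obtain ⟨S', A, B, hA, hB, hnc⟩ := exists_noncomm hG k₁ k₂ vx hn
    obtain ⟨g, _, hg⟩ := (isSylIn_sylow_top S).exists_conj_eq hA.syl
    have hA' := hA.conj g
    have hB' := hB.conj g
    rw [hg] at hA' hB'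
    obtain ⟨LA, va⟩ := hA'.vx hG
    obtain ⟨LB, vb⟩ := hB'.vx hG
    refine ⟨cj g A, cj g B, LA, LB, va, vb, ?_⟩
    rw [← Cm_iff, ← hg, VK_cj, VK_cj, Cm_cj_iff]
    exact hnc
  · obtain ⟨K, hK⟩ := s2949 H S hM hT
    obtain ⟨L, hL, hKT, _⟩ := s2950_exists H S hM hT hK
    have hKL := (sup_le_sup_left (H18.KS.J_le T) K).trans hKT
    obtain ⟨g, d⟩ := exists_dat S H hM hT h1 hK hL hKL
    have h := d.cx
    have hCM : centralizer (omegaCenterOf (S : Subgroup G) : Set G) ≤ M := (H.zz S).trans ((normalizer_le_NJ _).trans hM)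
    have hnc : ¬ K ≤ centralizer (omegaCenterOf T : Set G) := fun h1 =>
      h.nM (h1.trans ((Subgroup.centralizer_le (oc_le_of h.ld hTS)).trans hCM))
    have sd : Sd T K L := ⟨⟨M, h⟩, d.TK, hnc⟩
    have v₁ : Vx T K L := ⟨sd, d.oc, d.c4⟩
    have v₂ : Vx T (cj g K) (cj g L) := ⟨sd.cj d.gN, d.oc, d.c4⟩
    refine ⟨K, cj g K, L, cj g L, v₁, v₂, ?_⟩
    have hgT : cj g T = T := mem_normalizer_iff_cj.mp d.gN
    have e1 : VK T (cj g K) = cj g (VK T K) := by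
      conv_lhs => rw [← hgT]
      exact VK_cj g T K
    have e2 : VK T K = oP 2 (K ⊔ T) := by
      apply H2.Card.eq_of_le_of_card_eq v₁.V_le_Q
      apply le_antisymm (Subgroup.card_le_of_le v₁.V_le_Q)
      rw [v₁.card_V]
      exact d.am.card_Q
    rw [← Cm_iff, e1, e2]
    intro h3
    have h4 : cj g (oP 2 (K ⊔ T)) ≤ oP 2 (K ⊔ T) := by
      refine le_trans ?_ sd.cQ
      intro x hx
      rw [mem_centralizer_iff]
      intro y hy
      exact h3 y hy x hx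
    apply d.am.main.2.2.1
    have h5 : cj g (pCoreOf 2 (K ⊔ T)) = pCoreOf 2 (K ⊔ T) := H2.Card.eq_of_le_of_card_eq h4 (card_cj _ _)
    exact h5.ge

theorem s2954 (H : Hyp G) (hO : pCore 2 G = ⊥) (S : Sylow 2 G) (hM : normalizer (J (S : Subgroup G) : Set G) ≤ M)
    (hT : T ∈ maxStraddlingTwoSubgroups M) :
    ∃ P₁ P₂ : Subgroup G, P₁ ≠ P₂ ∧ Cfsg.IsMaximalTwoLocal P₁ ∧ Cfsg.IsMaximalTwoLocal P₂ ∧
      Cfsg.IsSylowTwoIn T P₁ ∧ Cfsg.IsSylowTwoIn T P₂ ∧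
      ((Nonempty (↥P₁ ≃* Equiv.Perm (Fin 4)) ∧ Nonempty (↥P₂ ≃* Equiv.Perm (Fin 4))) ∨
        (Nonempty (↥P₁ ≃* Equiv.Perm (Fin 4) × Multiplicative (ZMod 2)) ∧
          Nonempty (↥P₂ ≃* Equiv.Perm (Fin 4) × Multiplicative (ZMod 2)))) := by
  obtain ⟨S', hTS, hM'⟩ := exists_sylow_ge S hM hT.1.2.2.1 hT.1.1
  obtain ⟨K₁, K₂, L₁, L₂, h₁, h₂, hn⟩ := exists_npair H hO S' hM' hT hTS
  have hn' := hn' h₁ h₂ hn
  have e₁ := L_eq h₁ h₂ hn
  have e₂ := L_eq h₂ h₁ hn'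
  refine ⟨K₁ ⊔ T, K₂ ⊔ T, ?_, ?_, ?_, h₁.sd.syl, h₂.sd.syl, ?_⟩
  · intro he
    apply not_le_of_ncomm h₁ h₂ hn
    rw [e₁, he]; exact le_sup_left
  · rw [← e₁]; exact h₁.sd.mx
  · rw [← e₂]; exact h₂.sd.mx
  · have n1 := card_Z0 h₁.sd.T2 h₁.sd.jc
    have n2 : 0 < Nat.card (Z1 T K₁) := Nat.card_pos
    have n3 := h₁.c4
    rw [← h₁.oc] at n1 n3
    have n4 : Nat.card (omegaCenterOf T) = 2 ∨ Nat.card (omegaCenterOf T) = 4 := by omega
    rcases n4 with n4 | n4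
    · exact Or.inl ⟨type_four h₁ h₂ hn n4, type_four h₂ h₁ hn' n4⟩
    · exact Or.inr ⟨type_eight h₁ h₂ hn n4, type_eight h₂ h₁ hn' n4⟩

end Cfsg.Agent.H17.KT
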