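import Cfsg.Agent.H17_SA3

/-! Symmetric amalgams: the case `b = 2` is impossible; the case `b = 1` -/

set_option autoImplicit false
set_option linter.unusedSectionVars false
set_option linter.unusedVariables false

namespace Cfsg.Agent.H17.SA

open Cfsg Cfsg.Agent.H17.Base Cfsg.Agent.H17.Ks
open scoped commutatorElement

variable {G : Type*} [Group G] [Finite G] {T P : Subgroup G} {g : G}

theorem four_distinct {α : Type*} [Finite α] (h3 : Nat.card α = 3) {a b c d : α} (h1 : a ≠ b) (h2 : a ≠ c) (h4 : a ≠ d)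
    (h5 : b ≠ c) (h6 : b ≠ d) (h7 : c ≠ d) : False := by
  classical
  have := Fintype.ofFinite α
  have h8 := Finset.card_le_univ ({a, b, c, d} : Finset α)
  rw [← Nat.card_eq_fintype_card, h3, Finset.card_insert_of_notMem, Finset.card_insert_of_notMem,
    Finset.card_insert_of_notMem, Finset.card_singleton] at h8
  · omega
  · simpa using h7
  · simp only [Finset.mem_insert, Finset.mem_singleton, not_or]; exact ⟨h5, h6⟩
  · simp only [Finset.mem_insert, Finset.mem_singleton, not_or]; exact ⟨h1, h2, h4⟩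

namespace Am

variable (h : Am T P g)
include h

theorem exists_tQ : ∃ t ∈ T, t ∉ pCoreOf 2 P := by
  apply SetLike.not_le_iff_exists.mp
  intro h1
  have h4 := h.q2
  rw [Subgroup.relIndex_eq_one.mpr h1] at h4
  omega

theorem T_inf {p : G} (hp : p ∈ P) (hpT : p ∉ T) : T ⊓ cj p T ≤ pCoreOf 2 P := by
  intro t ht
  by_contra htQ
  apply h.notNz hp hpT
  symm
  apply Subgroup.eq_of_le_of_card_ge _ (card_cj p T).le
  intro x hx
  by_cases hxQ : x ∈ pCoreOf 2 P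
  · rw [← h.cjQ hp] at hxQ; exact cj_mono h.QT hxQ
  · have h1 : t⁻¹ * x ∈ pCoreOf 2 P :=
      idx2 h.q2 (T.inv_mem ht.1) hx (fun h2 => htQ (by simpa using (pCoreOf 2 P).inv_mem h2)) hxQ
    have h2 : t⁻¹ * x ∈ cj p T := by rw [← h.cjQ hp] at h1; exact cj_mono h.QT h1
    have h3 := (cj p T).mul_mem ht.2 h2
    have e : t * (t⁻¹ * x) = x := by group
    rwa [e] at h3

theorem cover {p t : G} (hp : p ∈ P) (hpT : p ∉ T) (ht : t ∈ T) (htQ : t ∉ pCoreOf 2 P) {q : G} (hq : q ∈ P) :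
    q ∈ T ∨ p⁻¹ * q ∈ T ∨ (t * p)⁻¹ * q ∈ T := by
  by_contra hcon
  push Not at hcon
  obtain ⟨h1, h2, h3⟩ := hcon
  have htp : t * p ∈ P := P.mul_mem (h.TP ht) hp
  have key : ∀ a b : ↥P, ((a : G)⁻¹ * b ∉ T) → (a : ↥P ⧸ T.subgroupOf P) ≠ (b : ↥P ⧸ T.subgroupOf P) := by
    intro a b hab heq
    rw [QuotientGroup.eq] at heq
    exact hab heq
  have htpT : t * p ∉ T := by
    intro h4
    apply hpT
    have := T.mul_mem (T.inv_mem ht) h4
    have e : t⁻¹ * (t * p) = p := by group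
    rwa [e] at this
  have hidx : Nat.card (↥P ⧸ T.subgroupOf P) = 3 := h.idx
  refine four_distinct hidx (key 1 ⟨p, hp⟩ ?_) (key 1 ⟨t * p, htp⟩ ?_) (key 1 ⟨q, hq⟩ ?_) (key ⟨p, hp⟩ ⟨t * p, htp⟩ ?_)
    (key ⟨p, hp⟩ ⟨q, hq⟩ h2) (key ⟨t * p, htp⟩ ⟨q, hq⟩ h3)
  · simpa using hpT
  · simpa using htpT
  · simpa using h1
  · intro h4
    apply htQ
    apply h.T_inf hp hpT
    refine ⟨ht, mem_cj.mpr ?_⟩
    have e : p⁻¹ * (t * p) = p⁻¹ * t * p := by group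
    rwa [e] at h4

/-- `cj (q g) V` only depends on the coset `qT` -/
theorem cjcoset {A : Subgroup G} (hA : P ≤ Nz A) {q q' : G} (hqq : q'⁻¹ * q ∈ T) : cj (q * g) A = cj (q' * g) A := by
  have h1 : g⁻¹ * (q'⁻¹ * q) * g ∈ T := by
    have : q'⁻¹ * q ∈ cj g T := by rw [h.gT]; exact hqq
    exact mem_cj.mp this
  have e : q * g = q' * g * (g⁻¹ * (q'⁻¹ * q) * g) := by group
  rw [e, cj_mul (q' * g), cj_eq_of_mem_Nz (hA (h.TP h1))]

end Am

section squares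

/-- squares of `Q`-elements -/
def Sq (K : Subgroup G) : Subgroup G := Subgroup.closure {y | ∃ x ∈ K, y = x * x}

theorem Sq_le (K : Subgroup G) : Sq K ≤ K := by
  rw [Sq, Subgroup.closure_le]
  rintro _ ⟨x, hx, rfl⟩
  exact K.mul_mem hx hx

theorem Sq_cj (a : G) (K : Subgroup G) : cj a (Sq K) ≤ Sq (cj a K) := by
  rw [cj, Sq, MonoidHom.map_closure, Subgroup.closure_le]
  rintro _ ⟨_, ⟨x, hx, rfl⟩, rfl⟩
  rw [map_mul]
  exact Subgroup.subset_closure ⟨_, ⟨x, hx, rfl⟩, rfl⟩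

theorem Nz_Sq (K : Subgroup G) : Nz K ≤ Nz (Sq K) := by
  intro a ha
  apply mem_Nz_of_cj_le
  have := Sq_cj a K
  rwa [cj_eq_of_mem_Nz ha] at this

theorem Sq_cj' (a : G) (K : Subgroup G) : cj a (Sq K) = Sq (cj a K) := by
  apply le_antisymm (Sq_cj a K)
  have := cj_mono (g := a) (Sq_cj a⁻¹ (cj a K))
  rwa [cj_cj_inv, cj_inv_cj] at this

/-- the squares argument -/
theorem Am.squares (h : Am T P g) {K : Subgroup G} (hK : K ≤ pCoreOf 2 P) (hPK : P ≤ Nz K)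
    (hd : ∀ x ∈ K, ∃ v ∈ VV P, ∃ y ∈ K ⊓ cj g K, x = v * y) : ∀ x ∈ K, x * x = 1 := by
  have h1 : Sq K ≤ cj g (Sq K) := by
    rw [Sq_cj']
    conv_lhs => rw [Sq]
    rw [Subgroup.closure_le]
    rintro _ ⟨x, hx, rfl⟩
    obtain ⟨v, hv, y, hy, rfl⟩ := hd x hx
    have h2 : v * y = y * v := Subgroup.mem_centralizer_iff.mp (h.QCV (hK hy.1)) v hv
    have h3 : v * y * (v * y) = y * y := by
      calc v * y * (v * y) = (v * y) * v * y := by group
        _ = (y * v) * v * y := by rw [h2]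
        _ = y * (v * v) * y := by group
        _ = y * y := by rw [mem_VV_sq hv, mul_one]
    rw [h3]
    exact Subgroup.subset_closure ⟨y, hy.2, rfl⟩
  have h2 : Sq K = cj g (Sq K) := Subgroup.eq_of_le_of_card_ge h1 (card_cj g _).le
  have h3 : P ≤ Nz (Sq K) := hPK.trans (Nz_Sq K)
  have h4 : cj g P ≤ Nz (Sq K) := by
    rw [h2, ← cj_Nz]; exact cj_mono h3
  have h5 := h.core (Sq K) (((Sq_le K).trans hK).trans h.QT) h3 h4
  intro x hx
  have h6 : x * x ∈ Sq K := Subgroup.subset_closure ⟨x, hx, rfl⟩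
  rw [h5] at h6
  exact Subgroup.mem_bot.mp h6

end squares

/-- computation with three pairwise "anticommuting" involutions -/
theorem three {v₁ v₂ v₃ c : G} (s1 : v₁ * v₁ = 1) (s2 : v₂ * v₂ = 1) (s3 : v₃ * v₃ = 1) (cc : c * c = 1)
    (c1 : c * v₁ = v₁ * c) (c2 : c * v₂ = v₂ * c) (c3 : c * v₃ = v₃ * c)
    (h12 : v₂ * v₁ = c * v₁ * v₂) (h13 : v₃ * v₁ = c * v₁ * v₃) (h23 : v₃ * v₂ = c * v₂ * v₃) :
    (v₁ * v₂ * v₃) * (v₁ * v₂ * v₃) = c ∧ (v₁ * v₂ * v₃) * v₁ = v₁ * (v₁ * v₂ * v₃) ∧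
      (v₁ * v₂ * v₃) * v₂ = v₂ * (v₁ * v₂ * v₃) ∧ (v₁ * v₂ * v₃) * v₃ = v₃ * (v₁ * v₂ * v₃) := by
  have e1 : (v₁ * v₂ * v₃) * v₁ = v₂ * v₃ := by
    calc (v₁ * v₂ * v₃) * v₁ = v₁ * v₂ * (v₃ * v₁) := by group
      _ = v₁ * v₂ * (c * v₁ * v₃) := by rw [h13]
      _ = v₁ * (v₂ * c) * v₁ * v₃ := by group
      _ = v₁ * (c * v₂) * v₁ * v₃ := by rw [c2]
      _ = v₁ * c * (v₂ * v₁) * v₃ := by group
      _ = v₁ * c * (c * v₁ * v₂) * v₃ := by rw [h12]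
      _ = v₁ * (c * c) * v₁ * v₂ * v₃ := by group
      _ = (v₁ * v₁) * v₂ * v₃ := by rw [cc]; group
      _ = v₂ * v₃ := by rw [s1]; group
  have e2 : (v₁ * v₂ * v₃) * v₂ = c * v₁ * v₃ := by
    calc (v₁ * v₂ * v₃) * v₂ = v₁ * v₂ * (v₃ * v₂) := by group
      _ = v₁ * v₂ * (c * v₂ * v₃) := by rw [h23]
      _ = v₁ * (v₂ * c) * v₂ * v₃ := by group
      _ = v₁ * (c * v₂) * v₂ * v₃ := by rw [c2]
      _ = v₁ * c * (v₂ * v₂) * v₃ := by group
      _ = (v₁ * c) * v₃ := by rw [s2]; group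
      _ = c * v₁ * v₃ := by rw [← c1]
  refine ⟨?_, ?_, ?_, ?_⟩
  · calc (v₁ * v₂ * v₃) * (v₁ * v₂ * v₃) = ((v₁ * v₂ * v₃) * v₁) * (v₂ * v₃) := by group
      _ = (v₂ * v₃) * (v₂ * v₃) := by rw [e1]
      _ = v₂ * (v₃ * v₂) * v₃ := by group
      _ = v₂ * (c * v₂ * v₃) * v₃ := by rw [h23]
      _ = (v₂ * c) * v₂ * (v₃ * v₃) := by group
      _ = (c * v₂) * v₂ := by rw [s3, c2]; group
      _ = c * (v₂ * v₂) := by group
      _ = c := by rw [s2, mul_one]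
  · rw [e1]
    calc v₂ * v₃ = (v₁ * v₁) * v₂ * v₃ := by rw [s1]; group
      _ = _ := by group
  · rw [e2]
    calc c * v₁ * v₃ = c * v₁ * (v₂ * v₂) * v₃ := by rw [s2]; group
      _ = (c * v₁ * v₂) * v₂ * v₃ := by group
      _ = (v₂ * v₁) * v₂ * v₃ := by rw [h12]
      _ = _ := by group
  · calc (v₁ * v₂ * v₃) * v₃ = v₁ * v₂ * (v₃ * v₃) := by group
      _ = v₁ * v₂ := by rw [s3]; group
      _ = (c * c) * v₁ * v₂ := by rw [cc]; group
      _ = c * (c * v₁) * v₂ * (v₃ * v₃) := by rw [s3]; group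
      _ = c * (v₁ * c) * v₂ * (v₃ * v₃) := by rw [c1]
      _ = c * v₁ * (c * v₂ * v₃) * v₃ := by group
      _ = c * v₁ * (v₃ * v₂) * v₃ := by rw [h23]
      _ = (c * v₁ * v₃) * v₂ * v₃ := by group
      _ = (v₃ * v₁) * v₂ * v₃ := by rw [h13]
      _ = _ := by group

namespace Bd

variable (h : Bd T P g 2)
include h

theorem two_ne {p : G} (hp : p ∈ P) (hpT : p ∉ T) : ¬ VV P ≤ cj (g * p * g) (pCoreOf 2 P) := by
  obtain ⟨x, y, hc1, hc2⟩ := h.exists_crit le_rfl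
  have hp₀ : (x * g)⁻¹ * y ∈ P := hc1
  set p₀ := (x * g)⁻¹ * y with hp₀def
  have hy : y = x * g * p₀ := by rw [hp₀def]; group
  have h1 : ¬ VV P ≤ cj (g * p₀ * g) (pCoreOf 2 P) := by
    intro h2
    apply hc2
    have h3 := cj_mono (g := x) h2
    rw [← cj_mul] at h3
    have e : x * (g * p₀ * g) = y * g := by rw [hy]; group
    rwa [e] at h3
  have hp₀T : p₀ ∉ T := by
    intro h2
    apply h1
    have h3 : g * p₀ * g ∈ P := by
      have h4 : g * p₀ * g⁻¹ ∈ T := by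
        have : g * p₀ * g⁻¹ ∈ cj g T := conj_mem_cj h2
        rwa [h.gT] at this
      have e : g * p₀ * g = (g * p₀ * g⁻¹) * (g * g) := by group
      rw [e]; exact P.mul_mem (h.TP h4) h.g2P
    rw [h.cjQ h3]; exact h.VQ
  obtain ⟨t₀, ht₀, ht₀Q⟩ := h.exists_tQ
  -- p = t p₀ t'
  have h2 : ∃ t ∈ T, ∃ t' ∈ T, p = t * p₀ * t' := by
    rcases h.cover hp₀ hp₀T ht₀ ht₀Q hp with h3 | h3 | h3
    · exact absurd h3 hpT
    · exact ⟨1, T.one_mem, _, h3, by group⟩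
    · exact ⟨t₀, ht₀, _, h3, by group⟩
  obtain ⟨t, ht, t', ht', rfl⟩ := h2
  intro h3
  apply h1
  have h4 : g * t * g⁻¹ ∈ T := by
    have : g * t * g⁻¹ ∈ cj g T := conj_mem_cj ht
    rwa [h.gT] at this
  have h5 : g⁻¹ * t' * g ∈ T := by
    have : t' ∈ cj g T := by rw [h.gT]; exact ht'
    exact mem_cj.mp this
  have e : g * (t * p₀ * t') * g = (g * t * g⁻¹) * ((g * p₀ * g) * (g⁻¹ * t' * g)) := by group
  rw [e, cj_mul (g * t * g⁻¹), h.cjxQ (h.TP h5)] at h3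
  have h6 := cj_mono (g := (g * t * g⁻¹)⁻¹) h3
  rw [cj_inv_cj, h.cjV (P.inv_mem (h.TP h4))] at h6
  exact h6

theorem two_le : VV P ≤ cj g (pCoreOf 2 P) := by
  apply h.hb 1 (by norm_num)
  have := h.Ds (n := 0) (d := 1) P.one_mem
  simpa using this

theorem two_le' : cj g (VV P) ≤ pCoreOf 2 P := by
  rw [cj_le_iff]
  apply h.hb 1 (by norm_num)
  have := h.Dgi (n := 0) (d := 1) P.one_mem
  simpa using this

theorem two_le_Q {p : G} (hp : p ∈ P) : cj (p * g) (VV P) ≤ pCoreOf 2 P := by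
  rw [cj_mul, ← h.cjQ hp]; exact cj_mono h.two_le'

theorem two_Cr {p p' : G} (hp : p ∈ P) (hp' : p' ∈ P) (hne : p⁻¹ * p' ∉ T) : Cr T P (p * g) (p' * g) := by
  have hQT' : ∀ q ∈ P, pCoreOf 2 P ≤ cj (q * g) T := by
    intro q hq
    rw [h.cjxT, ← h.cjQ hq]; exact cj_mono h.QT
  refine ⟨(h.two_le_Q hp).trans (hQT' p' hp'), (h.two_le_Q hp').trans (hQT' p hp), ?_⟩
  intro h1
  apply h.two_ne (P.mul_mem (P.inv_mem hp) hp') hne
  have h2 := cj_mono (g := g * g * (p * g)⁻¹) h1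
  rw [← cj_mul, ← cj_mul] at h2
  have e1 : g * g * (p * g)⁻¹ * (p * g) = g * g := by group
  have e2 : g * g * (p * g)⁻¹ * (p' * g) = g * (p⁻¹ * p') * g := by group
  rw [e1, e2, h.cjV h.g2P] at h2
  exact h2

/-- the neighbours' `V`s commute in `C` -/
theorem two_comm {p p' : G} (hp : p ∈ P) (hp' : p' ∈ P) (hne : p⁻¹ * p' ∉ T) {v w : G}
    (hv : v ∈ cj (p * g) (VV P)) (hw : w ∈ cj (p' * g) (VV P)) : v * w * v⁻¹ * w⁻¹ ∈ VV P ⊓ Cz P := by
  have h1 := h.Crcomm (h.two_Cr hp hp' hne)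
  rw [cj_mul p g ⁅VV P, T⁆, h.star le_rfl, h.cjC hp] at h1
  rw [← h1]
  exact Subgroup.commutator_mem_commutator hv hw

/-- ... nontrivially -/
theorem two_comm_ne {p p' : G} (hp : p ∈ P) (hp' : p' ∈ P) (hne : p⁻¹ * p' ∉ T) {v w : G}
    (hv : v ∈ cj (p * g) (VV P)) (hvZ : v ∉ cj (p * g) (omegaCenterOf T)) (hw : w ∈ cj (p' * g) (VV P))
    (hwZ : w ∉ cj (p' * g) (omegaCenterOf T)) : v * w * v⁻¹ * w⁻¹ ≠ 1 := by
  intro h1
  have hCr := h.two_Cr hp hp' hne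
  have h2 := h.Crnot (h.Crsymm hCr) hw hwZ
  apply hvZ
  rw [mem_cj]
  refine h.fix (t := (p * g)⁻¹ * w * (p * g)) (mem_cj.mp (hCr.2.1 hw)) (fun h3 => h2 (mem_cj.mpr h3)) (mem_cj.mp hv) ?_
  have h3 : w * v = v * w := by
    calc w * v = (v * w * v⁻¹ * w⁻¹)⁻¹ * v * w := by group
      _ = v * w := by rw [h1]; group
  calc (p * g)⁻¹ * w * (p * g) * ((p * g)⁻¹ * v * (p * g)) = (p * g)⁻¹ * (w * v) * (p * g) := by group
    _ = _ := by rw [h3]; group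

theorem cjgZ' {p : G} : cj (p * g) (omegaCenterOf T) = cj p (omegaCenterOf T) := by rw [cj_mul, h.cjgZ]

/-- `⟨V_δ : δ ∈ Δ(P)⟩` -/
def Vn (_h : Bd T P g 2) : Subgroup G := ⨆ p : ↥P, cj ((p : G) * g) (VV P)

theorem le_Vn {p : G} (hp : p ∈ P) : cj (p * g) (VV P) ≤ h.Vn :=
  le_iSup (fun p : ↥P => cj ((p : G) * g) (VV P)) ⟨p, hp⟩

theorem Vn_Q : h.Vn ≤ pCoreOf 2 P := iSup_le fun p => h.two_le_Q p.2

theorem P_Vn : P ≤ Nz h.Vn := by
  intro p hp
  apply mem_Nz_of_cj_le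
  conv_lhs => rw [Vn]
  rw [cj, Subgroup.map_iSup]
  apply iSup_le
  intro q
  show cj p (cj ((q : G) * g) (VV P)) ≤ _
  rw [← cj_mul]
  have e : p * ((q : G) * g) = (p * q) * g := by group
  rw [e]; exact h.le_Vn (P.mul_mem hp q.2)

def KK : Subgroup G := pCoreOf 2 P ⊓ Cz h.Vn

theorem P_KK : P ≤ Nz h.KK := (le_inf h.PQ (h.P_Vn.trans (Nz_le_Nz_Cz _))).trans (Nz_inf_le _ _)

theorem V_KK : VV P ≤ h.KK := le_inf h.VQ (le_Cz_comm.mp (h.Vn_Q.trans h.QCV))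

/-- membership in the centralizer of `Vn` -/
theorem mem_Cz_Vn {u : G} (hu : ∀ p ∈ P, u ∈ Cz (cj (p * g) (VV P))) : u ∈ Cz h.Vn := by
  have h1 : h.Vn ≤ Subgroup.centralizer {u} := by
    apply iSup_le
    intro p v hv
    rw [Subgroup.mem_centralizer_singleton_iff]
    exact Subgroup.mem_centralizer_iff.mp (hu p p.2) v hv
  rw [Subgroup.mem_centralizer_iff]
  intro v hv
  have := h1 hv
  rwa [Subgroup.mem_centralizer_singleton_iff] at this

/-- an element of `K` with nontrivial square -/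
theorem exists_u : ∃ u ∈ h.KK, u * u ≠ 1 := by
  have h' := h.toAm1 le_rfl
  obtain ⟨t₀, ht₀, ht₀Q⟩ := h.exists_tQ
  obtain ⟨p, hp, hpT⟩ := h'.exists_pT
  have ht₀p : t₀ * p ∈ P := P.mul_mem (h.TP ht₀) hp
  have htpT : t₀ * p ∉ T := by
    intro h4
    apply hpT
    have := T.mul_mem (T.inv_mem ht₀) h4
    have e : t₀⁻¹ * (t₀ * p) = p := by group
    rwa [e] at this
  have hptp : p⁻¹ * (t₀ * p) ∉ T := by
    intro h4
    apply ht₀Q
    apply h.T_inf hp hpT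
    refine ⟨ht₀, mem_cj.mpr ?_⟩
    have e : p⁻¹ * (t₀ * p) = p⁻¹ * t₀ * p := by group
    rwa [e] at h4
  have hV : ∀ q : G, ∃ v ∈ cj (q * g) (VV P), v ∉ cj (q * g) (omegaCenterOf T) := by
    intro q
    apply SetLike.not_le_iff_exists.mp
    intro h1
    apply h.V_ne_Z
    have := cj_mono (g := (q * g)⁻¹) h1
    rwa [cj_inv_cj, cj_inv_cj] at this
  obtain ⟨v₁, hv₁, hz₁⟩ := hV 1
  obtain ⟨v₂, hv₂, hz₂⟩ := hV p
  obtain ⟨v₃, hv₃, hz₃⟩ := hV (t₀ * p)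
  have n12 : (1 : G)⁻¹ * p ∉ T := by simpa using hpT
  have n13 : (1 : G)⁻¹ * (t₀ * p) ∉ T := by simpa using htpT
  have a12 := h.two_comm P.one_mem hp n12 hv₁ hv₂
  have a13 := h.two_comm P.one_mem ht₀p n13 hv₁ hv₃
  have a23 := h.two_comm hp ht₀p hptp hv₂ hv₃
  have b12 := h.two_comm_ne P.one_mem hp n12 hv₁ hz₁ hv₂ hz₂
  have b13 := h.two_comm_ne P.one_mem ht₀p n13 hv₁ hz₁ hv₃ hz₃
  have b23 := h.two_comm_ne hp ht₀p hptp hv₂ hz₂ hv₃ hz₃
  set c := v₁ * v₂ * v₁⁻¹ * v₂⁻¹ with hc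
  have e13 : v₁ * v₃ * v₁⁻¹ * v₃⁻¹ = c := h'.C_le_two a13 a12 b13 b12
  have e23 : v₂ * v₃ * v₂⁻¹ * v₃⁻¹ = c := h'.C_le_two a23 a12 b23 b12
  have sqx : ∀ (q : G) {v : G}, v ∈ cj (q * g) (VV P) → v * v = 1 := by
    rintro q _ ⟨w, hw, rfl⟩
    rw [← map_mul, mem_VV_sq hw, map_one]
  have s1 := sqx _ hv₁
  have s2 := sqx _ hv₂
  have s3 := sqx _ hv₃
  have i1 := inv_eq_self_of_sq s1
  have i2 := inv_eq_self_of_sq s2
  have i3 := inv_eq_self_of_sq s3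
  have cc : c * c = 1 := mem_VV_sq a12.1
  have hv₁Q := h.two_le_Q P.one_mem hv₁
  have hv₂Q := h.two_le_Q hp hv₂
  have hv₃Q := h.two_le_Q ht₀p hv₃
  have hQP : pCoreOf 2 P ≤ P := pCoreOf_le P
  have cP : ∀ q ∈ P, c * q = q * c := fun q hq => (Subgroup.mem_centralizer_iff.mp a12.2 q hq).symm
  have c1 := cP v₁ (hQP hv₁Q)
  have c2 := cP v₂ (hQP hv₂Q)
  have c3 := cP v₃ (hQP hv₃Q)
  -- v w v⁻¹ w⁻¹ = c → w v = c v w
  have swap : ∀ {v w : G}, v * w * v⁻¹ * w⁻¹ = c → c * v = v * c → c * w = w * c → w * v = c * v * w := by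
    intro v w hvw hcv hcw
    have h1 : v * w = c * (w * v) := by rw [← hvw]; group
    calc w * v = (c * c) * (w * v) := by rw [cc]; group
      _ = c * (c * (w * v)) := by group
      _ = c * (v * w) := by rw [← h1]
      _ = _ := by group
  have h12 := swap (v := v₁) (w := v₂) rfl c1 c2
  have h13 := swap e13 c1 c3
  have h23 := swap e23 c2 c3
  obtain ⟨u1, u2, u3, u4⟩ := three s1 s2 s3 cc c1 c2 c3 h12 h13 h23
  set u := v₁ * v₂ * v₃ with hu
  have huQ : u ∈ pCoreOf 2 P := (pCoreOf 2 P).mul_mem ((pCoreOf 2 P).mul_mem hv₁Q hv₂Q) hv₃Q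
  have huV : ∀ v ∈ VV P, v * u = u * v := fun v hv => Subgroup.mem_centralizer_iff.mp (h.QCV huQ) v hv
  refine ⟨u, ⟨huQ, h.mem_Cz_Vn ?_⟩, by rw [u1]; exact b12⟩
  -- main claim for each of the three cosets
  have main : ∀ (q : G) (v : G), q ∈ P → v ∈ cj (q * g) (VV P) → v ∉ cj (q * g) (omegaCenterOf T) → u * v = v * u →
      u ∈ Cz (cj (q * g) (VV P)) := by
    intro q v hq hv hvZ huv
    have hZc : ∀ w ∈ cj (q * g) (omegaCenterOf T), w * u = u * w := by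
      intro w hw
      rw [h.cjgZ'] at hw
      have h1 := cj_mono (g := q) h.ZV hw
      rw [h.cjV hq] at h1
      exact huV w h1
    rw [Subgroup.mem_centralizer_iff]
    intro w hw
    by_cases hwZ : w ∈ cj (q * g) (omegaCenterOf T)
    · exact hZc w hwZ
    · have h1 : w * v ∈ cj (q * g) (omegaCenterOf T) := by
        have h2 := h'.half _ (mem_cj.mp hw) _ (mem_cj.mp hv) (fun h3 => hwZ (mem_cj.mpr h3)) (fun h3 => hvZ (mem_cj.mpr h3))
        have e : (q * g)⁻¹ * w * (q * g) * ((q * g)⁻¹ * v * (q * g)) = (q * g)⁻¹ * (w * v) * (q * g) := by group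
        rw [e] at h2
        exact mem_cj.mpr h2
      have h2 := hZc _ h1
      have h3 : v⁻¹ * u = u * v⁻¹ := by
        calc v⁻¹ * u = v⁻¹ * (u * v) * v⁻¹ := by group
          _ = v⁻¹ * (v * u) * v⁻¹ := by rw [huv]
          _ = u * v⁻¹ := by group
      calc w * u = (w * v) * (v⁻¹ * u) := by group
        _ = (w * v) * (u * v⁻¹) := by rw [h3]
        _ = (w * v * u) * v⁻¹ := by group
        _ = (u * (w * v)) * v⁻¹ := by rw [h2]
        _ = u * w := by group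
  intro q hq
  rcases h.cover hp hpT ht₀ ht₀Q hq with h1 | h1 | h1
  · have h2 : cj (q * g) (VV P) = cj (1 * g) (VV P) := h.cjcoset h.PV (by simpa using h1)
    rw [h2]; exact main 1 v₁ P.one_mem hv₁ hz₁ u2
  · rw [h.cjcoset h.PV h1]; exact main p v₂ hp hv₂ hz₂ u3
  · rw [h.cjcoset h.PV h1]; exact main (t₀ * p) v₃ ht₀p hv₃ hz₃ u4

/-- `K = V (K ∩ K^g)` -/
theorem K_dec : ∀ y ∈ h.KK, ∃ v ∈ VV P, ∃ k ∈ h.KK ⊓ cj g h.KK, y = v * k := by
  have h' := h.toAm1 le_rfl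
  intro y hy
  obtain ⟨p, hp, hpT⟩ := h'.exists_pT
  have hTg : ∀ {x : G}, x ∈ T → g⁻¹ * x * g ∈ T := by
    intro x hx
    have : x ∈ cj g T := by rw [h.gT]; exact hx
    exact mem_cj.mp this
  -- x ∈ V_{pg} \ Q_g
  have n1 : p⁻¹ * 1 ∉ T := by
    intro h1; apply hpT
    simpa using T.inv_mem h1
  have hCr := h.two_Cr hp P.one_mem n1
  obtain ⟨x, hx, hxQ⟩ := SetLike.not_le_iff_exists.mp hCr.2.2
  rw [one_mul] at hxQ
  have hxT : x ∈ T := h.QT (h.two_le_Q hp hx)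
  set t₀ := g⁻¹ * x * g with ht₀def
  have ht₀ : t₀ ∈ T := hTg hxT
  have ht₀Q : t₀ ∉ pCoreOf 2 P := fun h1 => hxQ (mem_cj.mpr h1)
  have hxy : x * y = y * x := Subgroup.mem_centralizer_iff.mp hy.2 x (h.le_Vn hp hx)
  have hyT : y ∈ T := h.QT hy.1
  -- y ∈ Q_g
  have hyQg : y ∈ cj g (pCoreOf 2 P) := by
    apply h.CVx
    · have : y ∈ cj g T := by rw [h.gT]; exact hyT
      exact cj_mono h.TP this
    · have h1 := h.le_Vn P.one_mem
      rw [one_mul] at h1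
      exact Cz_anti h1 hy.2
  have ht₀p : t₀ * p ∈ P := P.mul_mem (h.TP ht₀) hp
  have htpT : t₀ * p ∉ T := by
    intro h4
    apply hpT
    have := T.mul_mem (T.inv_mem ht₀) h4
    have e : t₀⁻¹ * (t₀ * p) = p := by group
    rwa [e] at this
  -- centralizing `Vn^g`
  have hVng : ∀ u : G, u ∈ Cz (VV P) → u ∈ Cz (cj (g * p * g) (VV P)) → u ∈ Cz (cj (g * (t₀ * p) * g) (VV P)) →
      u ∈ cj g (Cz h.Vn) := by
    intro u h1 h2 h3
    rw [mem_cj]
    apply h.mem_Cz_Vn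
    intro q hq
    have key : u ∈ Cz (cj (g * q * g) (VV P)) := by
      rcases h.cover hp hpT ht₀ ht₀Q hq with h4 | h4 | h4
      · have h5 : g * q * g ∈ P := by
          have h6 : g * q * g⁻¹ ∈ T := by
            have : g * q * g⁻¹ ∈ cj g T := conj_mem_cj h4
            rwa [h.gT] at this
          have e : g * q * g = (g * q * g⁻¹) * (g * g) := by group
          rw [e]; exact P.mul_mem (h.TP h6) h.g2P
        rw [h.cjV h5]; exact h1
      · have h5 := h.cjcoset h.PV h4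
        have e1 : g * q * g = g * (q * g) := by group
        have e2 : g * (p * g) = g * p * g := by group
        rw [e1, cj_mul, h5, ← cj_mul, e2]; exact h2
      · have h5 := h.cjcoset h.PV h4
        have e1 : g * q * g = g * (q * g) := by group
        have e2 : g * (t₀ * p * g) = g * (t₀ * p) * g := by group
        rw [e1, cj_mul, h5, ← cj_mul, e2]; exact h3
    have e : g * q * g = g * (q * g) := by group
    rw [e, cj_mul, ← cj_Cz] at key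
    exact mem_cj.mp key
  -- conjugation by x
  have hxconj : cj x (cj (g * p * g) (VV P)) = cj (g * (t₀ * p) * g) (VV P) := by
    rw [← cj_mul]
    congr 1
    rw [ht₀def]; group
  have hyV : y ∈ Cz (VV P) := h.QCV hy.1
  have hsw : y ∈ Cz (cj (g * p * g) (VV P)) ↔ y ∈ Cz (cj (g * (t₀ * p) * g) (VV P)) := by
    rw [← hxconj, ← cj_Cz x, mem_cj]
    have : x⁻¹ * y * x = y := by
      calc x⁻¹ * y * x = x⁻¹ * (y * x) := by group
        _ = x⁻¹ * (x * y) := by rw [hxy]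
        _ = y := by group
    rw [this]
  by_cases hcase : y ∈ Cz (cj (g * p * g) (VV P))
  · refine ⟨1, Subgroup.one_mem _, y, ⟨hy, ?_⟩, by group⟩
    rw [KK, cj_inf]
    exact ⟨hyQg, hVng y hyV hcase (hsw.mp hcase)⟩
  · obtain ⟨z, hz, hzZ⟩ := SetLike.not_le_iff_exists.mp h.V_ne_Z
    have hcase' : y ∉ Cz (cj (g * (t₀ * p) * g) (VV P)) := fun h1 => hcase (hsw.mpr h1)
    have hzg : z ∈ cj g (pCoreOf 2 P) := h.two_le hz
    -- for q ∈ P \ T : z y ∈ Q_{gqg}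
    have key : ∀ q ∈ P, q ∉ T → y ∉ Cz (cj (g * q * g) (VV P)) → z * y ∈ Cz (cj (g * q * g) (VV P)) := by
      intro q hq hqT hyq
      have hQg : cj g (pCoreOf 2 P) ≤ cj (g * q * g) T := by
        rw [h.cjxT, cj_mul]
        apply cj_mono
        rw [← h.cjQ hq]; exact cj_mono h.QT
      have hy1 : y ∉ cj (g * q * g) (pCoreOf 2 P) := fun h1 => hyq (h.QCVx h1)
      have hCr2 : Cr T P 1 (g * q * g) := by
        refine ⟨?_, ?_, ?_⟩
        · rw [cj_one]; exact h.two_le.trans hQg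
        · rw [cj_one]
          have h1 : cj (q * g) (VV P) ≤ pCoreOf 2 P := h.two_le_Q hq
          have h2 := cj_mono (g := g) (h1.trans h.QT)
          rw [← cj_mul, h.gT] at h2
          have e : g * (q * g) = g * q * g := by group
          rwa [e] at h2
        · rw [cj_one]; exact h.two_ne hq hqT
      have hz1 : z ∉ cj (g * q * g) (pCoreOf 2 P) := by
        apply h.Crnot hCr2
        · rw [cj_one]; exact hz
        · rw [cj_one]; exact hzZ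
      exact h.QCVx (idx2 (h.cjq2 _) (hQg hzg) (hQg hyQg) hz1 hy1)
    have hzyK : z * y ∈ h.KK := h.KK.mul_mem (h.V_KK hz) hy
    refine ⟨z⁻¹, (VV P).inv_mem hz, z * y, ⟨hzyK, ?_⟩, by group⟩
    rw [KK, cj_inf]
    exact ⟨Subgroup.mul_mem _ hzg hyQg, hVng _ (h.QCV hzyK.1) (key p hp hpT hcase) (key (t₀ * p) ht₀p htpT hcase')⟩

theorem two_false : False := by
  obtain ⟨u, hu, hu1⟩ := h.exists_u
  exact hu1 (h.squares inf_le_left h.P_KK h.K_dec u hu)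

end Bd

/-- the case `b = 1` -/
theorem Am.main (h : Am T P g) : VV P = pCoreOf 2 P ∧
    (∀ u ∈ VV P, ∀ v ∈ VV P, u ∉ omegaCenterOf T → v ∉ omegaCenterOf T → u * v ∈ omegaCenterOf T) ∧
    ¬ pCoreOf 2 P ≤ cj g (pCoreOf 2 P) ∧ pCoreOf 2 P ⊓ cj g (pCoreOf 2 P) ≤ omegaCenterOf T := by
  obtain ⟨b, hb1, hb⟩ := h.exists_Bd
  have hb' : b = 1 := by
    by_contra hne
    have h2 : 2 ≤ b := by omega
    have h3 := hb.b_le_two h2
    have h4 : b = 2 := le_antisymm h3 h2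
    subst h4
    exact hb.two_false
  subst hb'
  have hg : ¬ VV P ≤ cj g (pCoreOf 2 P) := by
    obtain ⟨d, hd, hdV⟩ := hb.ex
    obtain ⟨p, hp, e, he, rfl⟩ := hd
    intro h1
    apply hdV
    have h2 := cj_mono (g := p) h1
    rw [h.cjV hp, ← cj_mul] at h2
    rw [hb.cjxQ (show e ∈ P from he)]
    exact h2
  have hgV : cj g (VV P) ≤ T := by
    have := cj_mono (g := g) h.VT
    rwa [h.gT] at this
  have hCr : Cr T P 1 g := by
    refine ⟨?_, ?_, ?_⟩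
    · rw [cj_one, h.gT]; exact h.VT
    · rw [cj_one]; exact hgV
    · rw [cj_one]; exact hg
  obtain ⟨v₀, hv₀, hv₀Q⟩ := SetLike.not_le_iff_exists.mp hg
  have hsq : ∀ x ∈ pCoreOf 2 P, x * x = 1 := by
    apply h.squares le_rfl h.PQ
    intro x hx
    have hxT : x ∈ cj g T := by rw [h.gT]; exact h.QT hx
    have hv₀T : v₀ ∈ cj g T := by rw [h.gT]; exact h.VT hv₀
    by_cases h1 : x ∈ cj g (pCoreOf 2 P)
    · exact ⟨1, Subgroup.one_mem _, x, ⟨hx, h1⟩, by group⟩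
    · have h2 : v₀⁻¹ * x ∈ cj g (pCoreOf 2 P) := by
        apply idx2 (h.cjq2 g) ((cj g T).inv_mem hv₀T) hxT _ h1
        intro h3; exact hv₀Q (by simpa using (cj g (pCoreOf 2 P)).inv_mem h3)
      exact ⟨v₀, hv₀, v₀⁻¹ * x, ⟨(pCoreOf 2 P).mul_mem ((pCoreOf 2 P).inv_mem (h.VQ hv₀)) hx, h2⟩, by group⟩
  have hab : ∀ x ∈ pCoreOf 2 P, ∀ y ∈ pCoreOf 2 P, x * y = y * x := by
    intro x hx y hy
    have h1 := hsq _ ((pCoreOf 2 P).mul_mem hx hy)
    have h2 := inv_eq_self_of_sq (hsq x hx)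
    have h3 := inv_eq_self_of_sq (hsq y hy)
    calc x * y = (x * y)⁻¹ := (inv_eq_self_of_sq h1).symm
      _ = y⁻¹ * x⁻¹ := mul_inv_rev _ _
      _ = y * x := by rw [h2, h3]
  have hVQ : VV P = pCoreOf 2 P := by
    apply le_antisymm h.VQ
    intro x hx
    refine mem_oc.mpr ⟨hx, ?_, hsq x hx⟩
    rw [Subgroup.mem_centralizer_iff]
    intro y hy; exact hab y hy x hx
  refine ⟨hVQ, fun u hu v hv huZ hvZ => h.half hCr hu hv huZ hvZ, by rw [← hVQ] at hg ⊢; exact hg, ?_⟩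
  rintro x ⟨hx1, hx2⟩
  obtain ⟨w, hw, hwQ⟩ := SetLike.not_le_iff_exists.mp (h.Crsymm hCr).2.2
  rw [cj_one] at hwQ
  apply h.fix (hgV hw) hwQ (by rw [hVQ]; exact hx1)
  have h1 : w ∈ cj g (pCoreOf 2 P) := cj_mono h.VQ hw
  obtain ⟨a, ha, rfl⟩ := hx2
  obtain ⟨c, hc, rfl⟩ := h1
  rw [← map_mul, ← map_mul, hab a ha c hc]

end Cfsg.Agent.H17.SA
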