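import Cfsg.Agent.H17_KT5
import Cfsg.Agent.H4_Inv
import Cfsg.Agent.H17_SA4

/-! Local analysis: existence of straddling subgroups of `L` -/

set_option autoImplicit false
set_option linter.unusedSectionVars false
set_option linter.unusedVariables false
set_option linter.unusedSimpArgs false
set_option linter.style.haveILetI false

namespace Cfsg.Agent.H17.KT

open Subgroup Pointwise
open scoped commutatorElement
open Cfsg.Agent.H13.Syl
open Cfsg.Agent.H18.CharP
open Cfsg.Agent.H12.ZJ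
open Cfsg.Agent.H18.KS

variable {G : Type*} [Group G] [Finite G]
variable {T L K M : Subgroup G}

theorem maxOrder_cj (g : G) (T : Subgroup G) : maxElemAbelianOrder (cj g T) = maxElemAbelianOrder T := by
  obtain ⟨A, hA⟩ := exists_MaxEA 2 T
  rw [maxOrder_eq hA, maxOrder_eq (hA.cj g), card_cj]

theorem twoLocal_cj (g : G) {N : Subgroup G} (hN : IsTwoLocal N) : IsTwoLocal (cj g N) := by
  obtain ⟨P, hP, hP1, rfl⟩ := hN
  exact ⟨cj g P, isPGroup_cj hP, fun h => hP1 (cj_eq_bot_iff.mp h), cj_normalizer g P⟩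

theorem straddling_cj {l : G} (hl : l ∈ L) (hT : T ∈ straddlingTwoSubgroups L) : cj l T ∈ straddlingTwoSubgroups L := by
  obtain ⟨h1, h2, h3, N, hN, hTN, hNL⟩ := hT
  refine ⟨isPGroup_cj h1, fun h => h2 (cj_eq_bot_iff.mp h), ?_, cj l N, twoLocal_cj l hN, cj_mono hTN, ?_⟩
  · have := cj_mono (g := l) h3
    rwa [cj_eq_of_mem hl] at this
  · intro h
    apply hNL
    rw [cj_le_iff, cj_eq_of_mem (inv_mem hl)] at h
    exact h

theorem max_straddling_cj {l : G} (hl : l ∈ L) (hT : T ∈ maxStraddlingTwoSubgroups L) : cj l T ∈ maxStraddlingTwoSubgroups L := by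
  obtain ⟨h1, h2⟩ := hT
  refine ⟨straddling_cj hl h1, fun X hX => ?_⟩
  have h3 := h2 X hX
  have e1 : Nat.card ↥(thompsonSubgroupOf 2 (cj l T)) = Nat.card ↥(thompsonSubgroupOf 2 T) := by
    have : thompsonSubgroupOf 2 (cj l T) = cj l (thompsonSubgroupOf 2 T) := J_cj l T
    rw [this, card_cj]
  rw [maxOrder_cj, e1, card_cj]
  exact h3

theorem exists_maxStraddling (h : (straddlingTwoSubgroups L).Nonempty) : ∃ T, T ∈ maxStraddlingTwoSubgroups L := by
  classical
  obtain ⟨T1, hT1, hmax1⟩ := Set.exists_max_image (straddlingTwoSubgroups L) (fun X : Subgroup G => maxElemAbelianOrder X)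
    (Set.toFinite _) h
  obtain ⟨T2, hT2, hmax2⟩ := Set.exists_max_image {X | X ∈ straddlingTwoSubgroups L ∧ maxElemAbelianOrder X = maxElemAbelianOrder T1}
    (fun X : Subgroup G => Nat.card ↥(thompsonSubgroupOf 2 X)) (Set.toFinite _) ⟨T1, hT1, rfl⟩
  obtain ⟨T3, hT3, hmax3⟩ := Set.exists_max_image {X | (X ∈ straddlingTwoSubgroups L ∧ maxElemAbelianOrder X = maxElemAbelianOrder T1) ∧
      Nat.card ↥(thompsonSubgroupOf 2 X) = Nat.card ↥(thompsonSubgroupOf 2 T2)}
    (fun X : Subgroup G => Nat.card ↥X) (Set.toFinite _) ⟨T2, hT2, rfl⟩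
  obtain ⟨⟨a1, a2⟩, a3⟩ := hT3
  refine ⟨T3, a1, fun X hX => ⟨by rw [a2]; exact hmax1 X hX, fun h1 => ?_⟩⟩
  rw [a2] at h1
  refine ⟨by rw [a3]; exact hmax2 X ⟨hX, h1⟩, fun h2 => ?_⟩
  rw [a3] at h2
  exact hmax3 X ⟨⟨hX, h1⟩, h2⟩

/-- existence of straddling subgroups -/
theorem straddling_nonempty (H : Hyp G) (hO : pCore 2 G = ⊥) (S : Sylow 2 G) (hL2 : IsTwoLocal L)
    (ld : LD (S : Subgroup G) L) (hN : normalizer (J (S : Subgroup G) : Set G) ≤ L) : (straddlingTwoSubgroups L).Nonempty := by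
  haveI : Fact (Nat.Prime 2) := ⟨Nat.prime_two⟩
  by_contra hno
  have hloc : ∀ X N : Subgroup G, IsPGroup 2 ↥X → X ≠ ⊥ → X ≤ L → IsTwoLocal N → X ≤ N → N ≤ L := by
    intro X N h1 h2 h3 h4 h5
    by_contra h6
    exact hno ⟨X, h1, h2, h3, N, h4, h5, h6⟩
  have hNS : normalizer ((S : Subgroup G) : Set G) ≤ L := (normalizer_le_NJ _).trans hN
  have hc : ∀ v ∈ L, v * v = 1 → v ≠ 1 → centralizer ({v} : Set G) ≤ L := by
    intro v hv hv2 hv1
    obtain ⟨h1, h2⟩ := cent_twoLocal hv2 hv1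
    refine h2.trans (hloc (zpowers v) _ ?_ ?_ ?_ h1 Subgroup.le_normalizer)
    · apply IsPGroup.of_card (n := 1)
      rw [Nat.card_zpowers, pow_one]
      exact orderOf_eq_prime (by rw [pow_two]; exact hv2) hv1
    · rw [Ne, zpowers_eq_bot]; exact hv1
    · rw [zpowers_le]; exact hv
  have hS1 : (S : Subgroup G) ≠ ⊥ := by
    intro h1
    apply ld.nJ
    have h2 : J (S : Subgroup G) ≤ ⊥ := (H18.KS.J_le _).trans (le_of_eq h1)
    exact h2.trans bot_le
  obtain ⟨z, hz, hz1⟩ := exists_ne_one_of_ne_bot (omegaCenterOf_ne_bot S.2 hS1)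
  have hz2 : z * z = 1 := sq_oc hz
  have hzS := (mem_omegaCenterOf.mp hz).2.1
  -- conjugates of `z` in `L`
  have hcz : ∀ x, x * z * x⁻¹ ∈ L → x ∈ L := by
    intro x hx
    have h1 := hc _ hx (by
      have : x * z * x⁻¹ * (x * z * x⁻¹) = x * (z * z) * x⁻¹ := by group
      rw [this, hz2]; group) (conj_ne_one hz1)
    have h2 : cj x (S : Subgroup G) ≤ L := by
      refine le_trans ?_ h1
      rw [cj_le_iff_forall]
      intro s hs
      rw [mem_centralizer_singleton_iff]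
      have e1 : x * s * x⁻¹ * (x * z * x⁻¹) = x * (s * z) * x⁻¹ := by group
      have e2 : x * z * x⁻¹ * (x * s * x⁻¹) = x * (z * s) * x⁻¹ := by group
      rw [e1, e2, hzS s hs]
    obtain ⟨l, hl, hlS⟩ := ld.syl.exists_conj_le (isPGroup_cj S.2) h2
    rw [← cj_mul] at hlS
    have h3 : cj (l * x) (S : Subgroup G) = S := H2.Card.eq_of_le_of_card_eq hlS (card_cj _ _)
    have h4 := hNS (mem_normalizer_iff_cj.mpr h3)
    have h5 := mul_mem (inv_mem hl) h4
    rwa [inv_mul_cancel_left] at h5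
  have hLtop : ∃ g : G, g ∉ L := by
    by_contra hno'
    push Not at hno'
    obtain ⟨P, hP, hP1, hLP⟩ := hL2
    have h1 : P.Normal := by
      rw [← Subgroup.normalizer_eq_top_iff]
      rw [eq_top_iff]
      intro x _
      rw [← hLP]; exact hno' x
    have h2 : P ≤ pCore 2 G := Cfsg.Agent.H17.Base.le_pCore h1 hP
    rw [hO] at h2
    exact hP1 (le_bot_iff.mp h2)
  obtain ⟨g, hg⟩ := hLtop
  set u := g * z * g⁻¹ with hu
  have huL : u ∉ L := fun h => hg (hcz g h)
  have hu2 : orderOf u = 2 := by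
    rw [hu, H4.Inv.orderOf_conj]; exact H4.Inv.orderOf_eq_two_of hz1 hz2
  -- all involutions of `L` are conjugate to `z` in `L`
  have hall : ∀ v ∈ L, v * v = 1 → v ∈ VV L := by
    intro v hv hv2
    by_cases hv1 : v = 1
    · rw [hv1]; exact one_mem _
    have hvo : orderOf v = 2 := H4.Inv.orderOf_eq_two_of hv1 hv2
    have hodd : Odd (orderOf (u * v)) := by
      by_contra hne
      rw [Nat.not_odd_iff_even] at hne
      obtain ⟨h1, h2, h3⟩ := H4.Inv.even_central hu2 hvo (orderOf_pos _).ne' hne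
      set w := (u * v) ^ (orderOf (u * v) / 2) with hw
      have hwL : w ∈ L := by
        apply hc v hv hv2 hv1
        rw [mem_centralizer_singleton_iff]
        exact h3.eq
      apply huL
      apply hc w hwL (H4.Inv.mul_self h1) (H4.Inv.ne_one h1)
      rw [mem_centralizer_singleton_iff]
      exact h2.symm.eq
    obtain ⟨d, _, hd⟩ := H4.Inv.conj_of_odd hu2 hvo hodd
    have h1 : (d * g) * z * (d * g)⁻¹ = v := by rw [← hd, hu]; group
    have h2 : d * g ∈ L := hcz _ (by rw [h1]; exact hv)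
    rw [← h1]
    exact (mem_normalizer_iff.mp (norm_V L h2) z).mp (ld.omega_le hz)
  apply ld.nJ
  rw [J_eq]
  apply sSup_le
  intro A hA
  refine le_trans ?_ (V_le_Q L)
  intro a ha
  exact hall a (ld.syl.le (hA.1 ha)) (EA.sq hA.2.1 ha)

end Cfsg.Agent.H17.KT
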