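import Cfsg.Agent.H18_CharP2
import Cfsg.Agent.H1_Subn2
import Cfsg.Agent.H2_PGroup
import Cfsg.Agent.H11_Cores
import Cfsg.Agent.H17_Base

set_option autoImplicit false
open Cfsg

/-! Parabolic characteristic `p`. -/

namespace Cfsg.Agent.H17.PC

open Subgroup Cfsg.Agent.H18.CharP Cfsg.Agent.H18.CharP2

universe u

theorem hasCharP_equiv {p : ℕ} {A : Type u} {B : Type u} [Group A] [Group B] (e : A ≃* B) (h : HasCharP p A) : HasCharP p B := by
  intro b hb
  have h1 : e.symm b ∈ Cfsg.pCore p A := by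
    apply h
    rw [mem_centralizer_iff]
    intro a ha
    have h2 : e a ∈ Cfsg.pCore p B := by
      rw [← Cfsg.Agent.H11.Cores.map_equiv_pCore p e]
      exact ⟨a, ha, rfl⟩
    have h3 := mem_centralizer_iff.mp hb (e a) h2
    apply e.injective
    simpa using h3
  rw [← Cfsg.Agent.H11.Cores.map_equiv_pCore p e]
  exact ⟨e.symm b, h1, by simp⟩

variable {G : Type u} [Group G] {p : ℕ}

theorem mem_omega_center {S : Subgroup G} {z : G} :
    z ∈ omegaOne p (S ⊓ centralizer (S : Set G)) ↔ z ∈ S ∧ z ∈ centralizer (S : Set G) ∧ z ^ p = 1 := by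
  constructor
  · intro h
    unfold omegaOne at h
    induction h using Subgroup.closure_induction with
    | mem x hx => exact ⟨hx.1.1, hx.1.2, hx.2⟩
    | one => exact ⟨S.one_mem, Subgroup.one_mem _, one_pow _⟩
    | mul x y _ _ hx hy =>
      refine ⟨S.mul_mem hx.1 hy.1, Subgroup.mul_mem _ hx.2.1 hy.2.1, ?_⟩
      have : Commute x y := mem_centralizer_iff.mp hy.2.1 x hx.1
      rw [this.mul_pow, hx.2.2, hy.2.2, one_mul]
    | inv x _ hx =>
      refine ⟨S.inv_mem hx.1, Subgroup.inv_mem _ hx.2.1, ?_⟩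
      rw [inv_pow, hx.2.2, inv_one]
  · rintro ⟨h1, h2, h3⟩
    exact Subgroup.subset_closure ⟨⟨h1, h2⟩, h3⟩

variable [Finite G] [Fact p.Prime]

theorem norm_of_cent {X : Subgroup G} (hX : IsPGroup p X) {z : G} (hz : z ∈ X)
    (hzc : ∀ x ∈ X, x * z = z * x) (hC : HasCharP p ↥(centralizer ({z} : Set G))) :
    HasCharP p ↥(normalizer (X : Set G)) := by
  apply hasCharP_normalizer hX
  apply hasCharP_centralizer hC hX
  · intro x hx
    rw [mem_centralizer_singleton_iff]
    exact hzc x hx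
  · exact centralizer_le (by simpa using hz)

theorem cent_of_norm {z : G} (hN : HasCharP p ↥(normalizer (zpowers z : Set G))) :
    HasCharP p ↥(centralizer ({z} : Set G)) := by
  have hcn : centralizer {(z : G)} ≤ normalizer (zpowers (z : G) : Set G) := by
    have e : centralizer ((zpowers (z : G) : Subgroup G) : Set G) = centralizer {(z : G)} := by
      rw [zpowers_eq_closure, centralizer_closure]
    rw [← e]
    exact Subgroup.centralizer_le_normalizer _
  have hcc : normalizer (zpowers (z : G) : Set G) ≤ normalizer (centralizer {(z : G)} : Set G) := by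
    have := normalizer_le_normalizer_centralizer (zpowers (z : G))
    have e : centralizer ((zpowers (z : G) : Subgroup G) : Set G) = centralizer {(z : G)} := by
      rw [zpowers_eq_closure, centralizer_closure]
    rwa [e] at this
  have h1 : ((centralizer {(z : G)}).subgroupOf (normalizer (zpowers (z : G) : Set G))).Normal :=
    (normal_subgroupOf_iff_le_normalizer hcn).mpr hcc
  exact hasCharP_equiv (subgroupOfEquivOfLe hcn) (hasCharP_of_isSubnormal hN h1.isSubnormal)

omit [Finite G] [Fact p.Prime] in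
theorem cent_conj {z : G} (g : G) (h : HasCharP p ↥(centralizer ({z} : Set G))) :
    HasCharP p ↥(centralizer ({g * z * g⁻¹} : Set G)) := by
  have e : centralizer ({g * z * g⁻¹} : Set G) = (centralizer ({z} : Set G)).map (MulAut.conj g).toMonoidHom := by
    ext x
    rw [mem_centralizer_singleton_iff]
    constructor
    · intro hx
      refine ⟨g⁻¹ * x * g, ?_, by simp [mul_assoc]⟩
      show g⁻¹ * x * g ∈ centralizer ({z} : Set G)
      rw [mem_centralizer_singleton_iff]
      calc g⁻¹ * x * g * z = g⁻¹ * (x * (g * z * g⁻¹)) * g := by group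
        _ = g⁻¹ * ((g * z * g⁻¹) * x) * g := by rw [hx]
        _ = z * (g⁻¹ * x * g) := by group
    · rintro ⟨y, hy, rfl⟩
      have hy' := mem_centralizer_singleton_iff.mp hy
      show g * y * g⁻¹ * (g * z * g⁻¹) = g * z * g⁻¹ * (g * y * g⁻¹)
      calc g * y * g⁻¹ * (g * z * g⁻¹) = g * (y * z) * g⁻¹ := by group
        _ = g * (z * y) * g⁻¹ := by rw [hy']
        _ = _ := by group
  rw [e]
  exact hasCharP_equiv ((centralizer ({z} : Set G)).equivMapOfInjective (MulAut.conj g).toMonoidHom (MulAut.conj g).injective) h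

theorem isPGroup_zpowers_of_pow {z : G} (hz : z ^ p = 1) : IsPGroup p (zpowers z) := by
  rintro ⟨w, m, rfl⟩
  refine ⟨1, Subtype.ext ?_⟩
  show (z ^ m) ^ p ^ 1 = 1
  rw [pow_one, ← zpow_natCast, ← zpow_mul, mul_comm, zpow_mul, zpow_natCast, hz, one_zpow]

theorem exists_central {T R : Subgroup G} (hT : IsPGroup p T) (hR1 : R ≠ ⊥) (hRT : R ≤ T)
    (hTR : T ≤ normalizer (R : Set G)) : ∃ z ∈ R, z ≠ 1 ∧ z ^ p = 1 ∧ ∀ t ∈ T, t * z = z * t := by
  have : (R.subgroupOf T).Normal := (normal_subgroupOf_iff_le_normalizer hRT).mpr hTR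
  have hne : R.subgroupOf T ≠ ⊥ := by
    intro h
    apply hR1
    rw [subgroupOf_eq_bot, disjoint_iff] at h
    rwa [inf_eq_left.mpr hRT] at h
  have h1 := Cfsg.Agent.H2.PGroup.inf_center_ne_bot hT hne
  obtain ⟨w, hw, hw1⟩ : ∃ w ∈ R.subgroupOf T ⊓ center ↥T, w ≠ 1 := by
    by_contra h
    push Not at h
    exact h1 ((eq_bot_iff_forall _).mpr h)
  obtain ⟨k, hk⟩ := (IsPGroup.iff_orderOf.mp hT) w
  have hk0 : k ≠ 0 := by
    rintro rfl
    rw [pow_zero, orderOf_eq_one_iff] at hk
    exact hw1 hk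
  obtain ⟨j, rfl⟩ := Nat.exists_eq_succ_of_ne_zero hk0
  have h2 : w ^ p ^ j ∈ R.subgroupOf T ⊓ center ↥T := Subgroup.pow_mem _ hw _
  refine ⟨((w ^ p ^ j : T) : G), h2.1, ?_, ?_, ?_⟩
  · intro h
    have h3 : w ^ p ^ j = 1 := Subtype.ext h
    have h4 := orderOf_dvd_of_pow_eq_one h3
    rw [hk, Nat.pow_dvd_pow_iff_le_right (Fact.out : p.Prime).one_lt] at h4
    omega
  · rw [← Subgroup.coe_pow, ← pow_mul, ← pow_succ, ← hk, pow_orderOf_eq_one]
    rfl
  · intro t ht
    exact congrArg Subtype.val (mem_center_iff.mp h2.2 ⟨t, ht⟩)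

theorem parabolic_iff (S : Sylow p G) : IsOfParabolicCharacteristic p G ↔
    ∀ z : G, z ≠ 1 → z ∈ omegaOne p ((S : Subgroup G) ⊓ centralizer ((S : Subgroup G) : Set G)) →
      HasCharP p ↥(centralizer ({z} : Set G)) := by
  constructor
  · intro h z hz1 hz
    obtain ⟨h1, h2, h3⟩ := mem_omega_center.mp hz
    apply cent_of_norm
    apply h _ (isPGroup_zpowers_of_pow h3) (by rwa [Ne, zpowers_eq_bot])
    refine ⟨S, ?_⟩
    intro s hs
    have h4 : s ∈ centralizer ((zpowers z : Subgroup G) : Set G) := by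
      rw [zpowers_eq_closure, centralizer_closure, mem_centralizer_singleton_iff]
      exact mem_centralizer_iff.mp h2 s hs
    exact Subgroup.centralizer_le_normalizer _ h4
  · intro h R hRp hR1 hpar
    obtain ⟨T, hT⟩ := hpar
    have hRT : R ≤ (T : Subgroup G) := le_sylow_of_le_normalizer T hRp hT
    obtain ⟨z, hzR, hz1, hzp, hzT⟩ := exists_central T.2 hR1 hRT hT
    apply norm_of_cent hRp hzR (fun x hx => hzT x (hRT hx))
    obtain ⟨g, hg⟩ := MulAction.exists_smul_eq G S T
    have h5 : ∀ s ∈ (S : Subgroup G), g * s * g⁻¹ ∈ (T : Subgroup G) := by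
      intro s hs
      rw [← hg]
      exact ⟨s, hs, rfl⟩
    have h5' : ∀ s ∈ (T : Subgroup G), g⁻¹ * s * g ∈ (S : Subgroup G) := by
      intro s hs
      rw [← hg] at hs
      obtain ⟨x, hx, hx2⟩ := hs
      rw [← hx2]
      have : g⁻¹ * (g * x * g⁻¹) * g = x := by group
      show g⁻¹ * (g * x * g⁻¹) * g ∈ _
      rw [this]; exact hx
    have h6 : z = g * (g⁻¹ * z * g) * g⁻¹ := by group
    rw [h6]
    apply cent_conj
    apply h
    · intro h7
      apply hz1
      rw [h6, h7]; group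
    · rw [mem_omega_center]
      refine ⟨h5' _ (hRT hzR), ?_, ?_⟩
      · rw [mem_centralizer_iff]
        intro s hs
        have h8 := hzT _ (h5 s hs)
        calc s * (g⁻¹ * z * g) = g⁻¹ * ((g * s * g⁻¹) * z) * g := by group
          _ = g⁻¹ * (z * (g * s * g⁻¹)) * g := by rw [h8]
          _ = g⁻¹ * z * g * s := by group
      · have : g⁻¹ * z * g = g⁻¹ * z * (g⁻¹)⁻¹ := by group
        rw [this, conj_pow, hzp]; group

theorem local_of (hdiv : p ∣ Nat.card G) (S : Sylow p G)
    (h : ∀ z : G, z ∈ (S : Subgroup G) → orderOf z = p → HasCharP p ↥(centralizer ({z} : Set G))) :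
    IsOfLocalCharacteristic p G := by
  refine ⟨hdiv, ?_⟩
  intro R hR hR1
  obtain ⟨z, hzR, hz1, hzp, hzT⟩ := exists_central hR hR1 le_rfl Subgroup.le_normalizer
  apply norm_of_cent hR hzR hzT
  obtain ⟨T, hRT⟩ := hR.exists_le_sylow
  obtain ⟨g, hg⟩ := MulAction.exists_smul_eq G S T
  have h5' : ∀ s ∈ (T : Subgroup G), g⁻¹ * s * g ∈ (S : Subgroup G) := by
    intro s hs
    rw [← hg] at hs
    obtain ⟨x, hx, hx2⟩ := hs
    rw [← hx2]
    have : g⁻¹ * (g * x * g⁻¹) * g = x := by group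
    show g⁻¹ * (g * x * g⁻¹) * g ∈ _
    rw [this]; exact hx
  have h6 : z = g * (g⁻¹ * z * g) * g⁻¹ := by group
  rw [h6]
  apply cent_conj
  apply h _ (h5' _ (hRT hzR))
  apply orderOf_eq_prime
  · have : g⁻¹ * z * g = g⁻¹ * z * (g⁻¹)⁻¹ := by group
    rw [this, conj_pow, hzp]; group
  · intro h7
    apply hz1
    rw [h6, h7]; group

end Cfsg.Agent.H17.PC
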