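import Cfsg.Agent.H17_SA4

/-! Symmetric amalgams: consequences -/

set_option autoImplicit false
set_option linter.unusedSectionVars false
set_option linter.unusedVariables false

namespace Cfsg.Agent.H17.SA

open Cfsg Cfsg.Agent.H17.Base Cfsg.Agent.H17.Ks

variable {G : Type*} [Group G] [Finite G] {T P : Subgroup G} {g : G}

theorem sq_comm {x y : G} (hx : x * x = 1) (hy : y * y = 1) (hxy : x * y * (x * y) = 1) : x * y = y * x := by
  have h2 := inv_eq_self_of_sq hx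
  have h3 := inv_eq_self_of_sq hy
  have h1 := inv_eq_self_of_sq hxy
  calc x * y = (x * y)⁻¹ := h1.symm
    _ = y⁻¹ * x⁻¹ := mul_inv_rev _ _
    _ = y * x := by rw [h2, h3]

theorem le_or_le {A B C : Subgroup G} (h : ∀ x ∈ A, x ∈ B ∨ x ∈ C) : A ≤ B ∨ A ≤ C := by
  by_contra hno
  push Not at hno
  obtain ⟨h1, h2⟩ := hno
  obtain ⟨x, hx, hxB⟩ := SetLike.not_le_iff_exists.mp h1
  obtain ⟨y, hy, hyC⟩ := SetLike.not_le_iff_exists.mp h2
  have hxC := (h x hx).resolve_left hxB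
  have hyB := (h y hy).resolve_right hyC
  rcases h (x * y) (A.mul_mem hx hy) with h3 | h3
  · apply hxB
    have := B.mul_mem h3 (B.inv_mem hyB)
    rwa [mul_inv_cancel_right] at this
  · apply hyC
    have := C.mul_mem (C.inv_mem hxC) h3
    rwa [inv_mul_cancel_left] at this

namespace Am

variable (h : Am T P g)
include h

theorem Q_sq {x : G} (hx : x ∈ pCoreOf 2 P) : x * x = 1 := by
  rw [← h.main.1] at hx
  exact mem_VV_sq hx

theorem Q_comm {x y : G} (hx : x ∈ pCoreOf 2 P) (hy : y ∈ pCoreOf 2 P) : x * y = y * x := by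
  have h1 : x ∈ Cz (VV P) := h.QCV hx
  rw [h.main.1] at h1
  exact (Subgroup.mem_centralizer_iff.mp h1 y hy).symm

theorem Q_cent {x : G} (hx : x ∈ P) (hc : ∀ y ∈ pCoreOf 2 P, x * y = y * x) : x ∈ pCoreOf 2 P :=
  h.cq ⟨hx, Subgroup.mem_centralizer_iff.mpr fun y hy => (hc y hy).symm⟩

theorem invol {x : G} (hx : x ∈ T) (hsq : x * x = 1) : x ∈ pCoreOf 2 P ∨ x ∈ cj g (pCoreOf 2 P) := by
  by_contra hno
  push Not at hno
  obtain ⟨h1, h2⟩ := hno
  obtain ⟨_, _, h5, h6⟩ := h.main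
  apply h1
  apply h.Q_cent (h.TP hx)
  intro y hy
  by_cases hyg : y ∈ cj g (pCoreOf 2 P)
  · have h7 := h6 ⟨hy, hyg⟩
    exact Subgroup.mem_centralizer_iff.mp (oc_le_Cz T h7) x hx
  · have h8 : x * y ∈ cj g (pCoreOf 2 P) := by
      apply idx2 (h.cjq2 g) _ _ h2 hyg
      · rw [h.gT]; exact hx
      · rw [h.gT]; exact h.QT hy
    apply sq_comm hsq (h.Q_sq hy)
    obtain ⟨a, ha, hae⟩ := h8
    rw [← hae]
    have := h.Q_sq ha
    rw [← map_mul, this, map_one]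

/-- `g`-invariant subgroups of exponent two lie in `Ω₁(Z(T))` -/
theorem inv_le {F : Subgroup G} (hFT : F ≤ T) (hFg : cj g F = F) (hsq : ∀ x ∈ F, x * x = 1) : F ≤ omegaCenterOf T := by
  obtain ⟨_, _, _, h6⟩ := h.main
  have h1 : F ≤ pCoreOf 2 P ⊓ cj g (pCoreOf 2 P) := by
    rcases le_or_le (fun x hx => h.invol (hFT hx) (hsq x hx)) with h2 | h2
    · refine le_inf h2 ?_
      have := cj_mono (g := g) h2
      rwa [hFg] at this
    · refine le_inf ?_ h2
      rw [← hFg] at h2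
      have := cj_mono (g := g⁻¹) h2
      rwa [cj_inv_cj, cj_inv_cj] at this
  exact h1.trans h6

theorem Z_le_Q : omegaCenterOf T ≤ pCoreOf 2 P := h.ZV.trans h.VQ

theorem card_Q : Nat.card ↥(pCoreOf 2 P) ≤ 2 * Nat.card ↥(omegaCenterOf T) := by
  obtain ⟨_, _, h5, h6⟩ := h.main
  have h1 : (cj g (pCoreOf 2 P)).relIndex (pCoreOf 2 P) ≤ 2 := by
    have h2 := h.cjq2 g
    rw [h.gT] at h2
    have h8 := Subgroup.relIndex_le_of_le_right (H := cj g (pCoreOf 2 P)) h.QT (by rw [h2]; norm_num)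
    rw [h2] at h8
    exact h8
  have h3 : (pCoreOf 2 P ⊓ cj g (pCoreOf 2 P)).relIndex (pCoreOf 2 P) ≤ 2 := by
    rw [inf_comm, Subgroup.inf_relIndex_right]; exact h1
  have h4 : Nat.card ↥(pCoreOf 2 P ⊓ cj g (pCoreOf 2 P) : Subgroup G) * (pCoreOf 2 P ⊓ cj g (pCoreOf 2 P)).relIndex (pCoreOf 2 P) =
      Nat.card ↥(pCoreOf 2 P) := by
    rw [← Nat.card_congr (Subgroup.subgroupOfEquivOfLe (inf_le_left : pCoreOf 2 P ⊓ cj g (pCoreOf 2 P) ≤ pCoreOf 2 P)).toEquiv]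
    exact Subgroup.card_mul_index _
  have h7 := Subgroup.card_le_of_le h6
  rw [← h4, mul_comm]
  exact Nat.mul_le_mul h3 h7

end Am

end Cfsg.Agent.H17.SA
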