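import Cfsg.Agent.H17_KT6
import Cfsg.Agent.H17_SA5
import Cfsg.Agent.H17_PC

/-! Local analysis: the symmetric amalgam -/

set_option autoImplicit false
set_option linter.unusedSectionVars false
set_option linter.unusedVariables false
set_option linter.unusedSimpArgs false
set_option linter.style.haveILetI false

namespace Cfsg.Agent.H17.KT

open Subgroup Pointwise
open scoped commutatorElement
open Cfsg.Agent.H13.Syl
open Cfsg.Agent.H18.CharP
open Cfsg.Agent.H12.ZJ
open Cfsg.Agent.H18.KS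

variable {G : Type*} [Group G] [Finite G]
variable {T L K M S : Subgroup G}

theorem Cx.of_max (H : Hyp G) (S : Sylow 2 G) (hM : normalizer (J (S : Subgroup G) : Set G) ≤ M)
    (hT : T ∈ maxStraddlingTwoSubgroups M) (hK : K ∈ jComponentsOutside M T) {L : Subgroup G} (hL : IsMaximalTwoLocal L)
    (hKL : K ⊔ J T ≤ L) : Cx M T K L := by
  obtain ⟨L', hL', hKT, hld⟩ := s2950_exists H S hM hT hK
  have h1 : L = L' := s2950_uniq H S hM hT hK.1.1 hK.2.1 hL' hL
    ((sup_le_sup_left (H18.KS.J_le T) K).trans hKT) hKL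
  subst h1
  exact ⟨H, hT.1.1, hT.1.2.1, hT.1.2.2.1, NJ_le_M S hM hT, fun K' hK' hK'M => zero_of_outside H S hM hT hK' hK'M,
    fun K' L₁ L₂ a b c d e f => s2950_uniq H S hM hT a b c d e f, hK.1.1, hK.2.1, hL, le_sup_left.trans hKL, hld⟩

namespace Cx

variable (h : Cx M T K L)
include h

theorem K_inf_T : K ⊓ T = oP 2 K := by
  have h1 : oP 2 K ≤ K ⊓ T := by
    refine le_inf (oP_le K) ?_
    rw [← LD.inf_oP h.H h.ld h.jc h.le]
    exact inf_le_right.trans h.ld.Q_le_T
  rcases JC.max h.jc h1 inf_le_left with h2 | h2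
  · exact h2
  · exfalso
    exact JC.not_pgroup h.jc (h.T2.to_le (inf_eq_left.mp h2))

theorem idx (hTK : T ≤ normalizer (K : Set G)) : T.relIndex (K ⊔ T) = 3 := by
  rw [sup_comm, H2.Card.relIndex_sup_left_of_le_normalizer hTK, ← Subgroup.inf_relIndex_right T K, inf_comm, h.K_inf_T]
  exact h.jc.2.2.1

theorem not_norm_T : ¬ K ⊔ T ≤ normalizer (T : Set G) := by
  intro h1
  have h2 : K ≤ normalizer (J T : Set G) := le_sup_left.trans (h1.trans (normalizer_le_NJ T))
  apply JC.not_pgroup h.jc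
  apply (J_pgroup h.T2).to_le
  have h3 : ⁅K, J T⁆ = K := h.jc.2.1
  conv_lhs => rw [← h3]
  rw [commutator_comm]
  exact H22.Basic.commutator_le_left h2

theorem oP_le_P : oP 2 L ≤ oP 2 (K ⊔ T) :=
  le_oP (oP_isPGroup L) (h.ld.Q_le_T.trans le_sup_right) ((sup_le h.le h.ld.syl.le).trans (norm_Q L))

theorem cQP : centralizer (oP 2 (K ⊔ T) : Set G) ≤ oP 2 (K ⊔ T) :=
  (Subgroup.centralizer_le h.oP_le_P).trans (h.ld.cQ.trans h.oP_le_P)

theorem toAm (hTS : T ≤ S) (hC : centralizer (omegaCenterOf S : Set G) ≤ M) {g : G} (hgN : g ∈ normalizer (T : Set G))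
    (hg2 : g * g ∈ T) (hgL : g ∉ L) (hTK : T ≤ normalizer (K : Set G)) : H17.SA.Am T (K ⊔ T) g := by
  refine ⟨le_sup_right, h.T2, h.idx hTK, mem_normalizer_iff_cj.mp hgN, hg2, h.not_norm_T, inf_le_right.trans h.cQP, ?_, ?_⟩
  · intro h1
    apply h.nM
    refine le_trans ?_ hC
    refine le_sup_left.trans (h1.trans (Subgroup.centralizer_le ?_))
    exact oc_le_of h.ld hTS
  · intro N hNT h1 h2
    by_contra hN
    have hNl : IsTwoLocal (normalizer (N : Set G)) := ⟨N, h.T2.to_le hNT, hN, rfl⟩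
    have hJT := normalizer_le_NJ T hgN
    have h3 : normalizer (N : Set G) ≤ L :=
      h.le_of_local hNl h.co (le_sup_left.trans h1) ((H18.KS.J_le T).trans (le_sup_right.trans h1))
    have h4 : cj g K ≤ L := (cj_mono (le_sup_left : K ≤ K ⊔ T)).trans (h2.trans h3)
    have h5 : ¬ cj g K ≤ M := by
      intro h4
      apply h.nM
      rw [cj_le_iff, cj_eq_of_mem (inv_mem (h.NJ hJT))] at h4
      exact h4
    have h6 := h.uniq (cj g K) L (cj g L) (JC.conj_of_norm h.jc hJT) h5 h.mx (maximalTwoLocal_cj h.mx g)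
      (sup_le h4 h.JL) (sup_le (cj_mono h.le) (by
        have := cj_mono (g := g) h.JL
        rwa [cj_eq_of_mem_normalizer hJT] at this))
    exact hgL (NL_le h.H h.mx (mem_normalizer_iff_cj.mpr h6))

end Cx

/-- an involution acting on an elementary abelian group -/
theorem card_le_sq {V : Subgroup G} (hc : ∀ x ∈ V, ∀ y ∈ V, x * y = y * x) (h2 : ∀ x ∈ V, x * x = 1) {w : G}
    (hw : w * w = 1) (hn : w ∈ normalizer (V : Set G)) :
    Nat.card V ≤ Nat.card (V ⊓ centralizer ({w} : Set G) : Subgroup G) * Nat.card (V ⊓ centralizer ({w} : Set G) : Subgroup G) := by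
  have hwi : w⁻¹ = w := inv_eq_of_mul_eq_one_left hw
  have hm : ∀ x ∈ V, w * x * w⁻¹ ∈ V := fun x hx => (mem_normalizer_iff.mp hn x).mp hx
  let f : ↥V →* ↥V :=
    { toFun := fun x => ⟨x * (w * x * w⁻¹), mul_mem x.2 (hm x x.2)⟩
      map_one' := by apply Subtype.ext; simp
      map_mul' := by
        intro x y
        apply Subtype.ext
        change (x : G) * y * (w * (x * y) * w⁻¹) = x * (w * x * w⁻¹) * (y * (w * y * w⁻¹))
        have e := hc y y.2 _ (hm x x.2)
        calc (x : G) * y * (w * (x * y) * w⁻¹) = x * (y * (w * x * w⁻¹)) * (w * y * w⁻¹) := by group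
          _ = x * ((w * x * w⁻¹) * y) * (w * y * w⁻¹) := by rw [e]
          _ = _ := by group }
  have h3 : Nat.card f.ker * Nat.card f.range = Nat.card V := by
    rw [← Subgroup.index_ker, Subgroup.card_mul_index]
  have h4 : Nat.card f.ker ≤ Nat.card (V ⊓ centralizer ({w} : Set G) : Subgroup G) := by
    have h5 : f.ker.map V.subtype ≤ V ⊓ centralizer ({w} : Set G) := by
      rintro _ ⟨x, hx, rfl⟩
      refine Subgroup.mem_inf.mpr ⟨x.2, Subgroup.mem_centralizer_singleton_iff.mpr ?_⟩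
      have h6 : (x : G) * (w * x * w⁻¹) = 1 := congrArg Subtype.val hx
      have h7 : w * (x : G) * w⁻¹ = x := by
        have h8 : (x : G)⁻¹ = w * x * w⁻¹ := inv_eq_of_mul_eq_one_right h6
        rw [← h8]; exact inv_eq_of_mul_eq_one_left (h2 x x.2)
      change (x : G) * w = w * x
      exact (mul_inv_eq_iff_eq_mul.mp h7).symm
    have h6 := Subgroup.card_le_of_le h5
    rwa [Subgroup.card_map_of_injective V.subtype_injective] at h6
  have h5 : Nat.card f.range ≤ Nat.card (V ⊓ centralizer ({w} : Set G) : Subgroup G) := by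
    have h5 : f.range.map V.subtype ≤ V ⊓ centralizer ({w} : Set G) := by
      rintro _ ⟨_, ⟨x, rfl⟩, rfl⟩
      refine Subgroup.mem_inf.mpr ⟨(f x).2, Subgroup.mem_centralizer_singleton_iff.mpr ?_⟩
      change (x : G) * (w * x * w⁻¹) * w = w * (x * (w * x * w⁻¹))
      have e := hc _ x.2 _ (hm x x.2)
      calc (x : G) * (w * x * w⁻¹) * w = (w * x * w⁻¹) * x * w := by rw [e]
        _ = w * (x * (w * x * w⁻¹)) := by
          rw [hwi]
          simp only [mul_assoc]
    have h6 := Subgroup.card_le_of_le h5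
    rwa [Subgroup.card_map_of_injective V.subtype_injective] at h6
  rw [← h3]
  exact Nat.mul_le_mul h4 h5

end Cfsg.Agent.H17.KT
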