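import Cfsg.Agent.H17_KT7

/-! Local analysis: scenario X -/

set_option autoImplicit false
set_option linter.unusedSectionVars false
set_option linter.unusedVariables false
set_option linter.unusedSimpArgs false
set_option linter.style.haveILetI false

namespace Cfsg.Agent.H17.KT

open Subgroup Pointwise
open scoped commutatorElement
open Cfsg.Agent.H13.Syl
open Cfsg.Agent.H18.CharP
open Cfsg.Agent.H12.ZJ
open Cfsg.Agent.H18.KS

variable {G : Type*} [Group G] [Finite G]
variable {L K M : Subgroup G}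

/-- auxiliary configuration below `S` -/
structure Dat (S M T K L : Subgroup G) (g : G) : Prop where
  lt : T < S
  cx : Cx M T K L
  gS : g ∈ S
  gN : g ∈ normalizer (T : Set G)
  gT : g ∉ T
  g2 : g * g ∈ T
  gL : g ∉ L
  c4 : Nat.card (omegaCenterOf (J T)) ≤ 4
  TK : T ≤ normalizer (K : Set G)
  oc : omegaCenterOf T = omegaCenterOf (J T)
  am : H17.SA.Am T (K ⊔ T) g
  zle : omegaCenterOf S ≤ omegaCenterOf T
  zc : Nat.card (omegaCenterOf S) = 2

theorem sylow_ne_bot {T : Subgroup G} {S : Subgroup G} (hS : IsPGroup 2 ↥S) (h : T < S) : omegaCenterOf S ≠ ⊥ := by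
  apply omegaCenterOf_ne_bot hS
  rintro rfl
  exact not_lt_bot h

theorem exists_dat {T : Subgroup G} (S : Sylow 2 G) (H : Hyp G) (hM : normalizer (J (S : Subgroup G) : Set G) ≤ M) (hT : T ∈ maxStraddlingTwoSubgroups M)
    (hlt : T < (S : Subgroup G)) (hK : K ∈ jComponentsOutside M T) {L : Subgroup G} (hL : IsMaximalTwoLocal L)
    (hKL : K ⊔ J T ≤ L) : ∃ g, Dat (S : Subgroup G) M T K L g := by
  have h := Cx.of_max H S hM hT hK hL hKL
  obtain ⟨g, hgS, hgN, hgT, hg2, hgL, a1, a2, a3, a4⟩ := h.small S.2 hlt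
  have hne := sylow_ne_bot S.2 hlt
  refine ⟨g, hlt, h, hgS, hgN, hgT, hg2, hgL, a1, a2, a3, ?_, oc_le_of h.ld hlt.le, ?_⟩
  · exact h.toAm hlt.le ((H.zz S).trans ((normalizer_le_NJ _).trans hM)) hgN hg2 hgL a2
  · have n1 := card_Z0 h.T2 h.jc
    have n2 : 0 < Nat.card (Z1 T K) := Nat.card_pos
    by_cases h4 : Nat.card (omegaCenterOf (J T)) = 4
    · exact (h.third S.2 hlt hne h4).1
    · have h2 : Nat.card (omegaCenterOf (J T)) = 2 := by omega
      have h5 := Subgroup.card_le_of_le a4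
      obtain ⟨z, hz, hz1⟩ := exists_ne_one_of_ne_bot hne
      have := one_lt_card_of_mem hz hz1
      omega

theorem exists_scen (H : Hyp G) (hO : pCore 2 G = ⊥) (S : Sylow 2 G) (hL2 : IsTwoLocal L)
    (ld : LD (S : Subgroup G) L) (hN : normalizer (J (S : Subgroup G) : Set G) ≤ L)
    (hX : ∀ M' : Subgroup G, IsTwoLocal M' → (S : Subgroup G) ≤ M' → M' ≤ L) :
    ∃ T' K' L' g, Dat (S : Subgroup G) L T' K' L' g := by
  obtain ⟨T₀, hT₀⟩ := exists_maxStraddling (straddling_nonempty H hO S hL2 ld hN)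
  haveI : Fact (Nat.Prime 2) := ⟨Nat.prime_two⟩
  obtain ⟨l, hl, hlS⟩ := ld.syl.exists_conj_le hT₀.1.1 hT₀.1.2.2.1
  have hT := max_straddling_cj hl hT₀
  have hlt : cj l T₀ < (S : Subgroup G) := by
    refine lt_of_le_of_ne hlS ?_
    intro he
    obtain ⟨_, _, _, N, hN2, hTN, hNL⟩ := hT.1
    rw [he] at hTN
    exact hNL (hX N hN2 hTN)
  obtain ⟨K', hK'⟩ := s2949 H S hN hT
  obtain ⟨L', hL', hKT, _⟩ := s2950_exists H S hN hT hK'
  obtain ⟨g, hg⟩ := exists_dat S H hN hT hlt hK' hL' ((sup_le_sup_left (H18.KS.J_le _) K').trans hKT)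
  exact ⟨_, K', L', g, hg⟩

/-- the elementary abelian group `V` is small -/
theorem Dat.small_V {S M T K L V : Subgroup G} {g : G} (d : Dat S M T K L g) (hS : IsPGroup 2 ↥S) (hVS : V ≤ S)
    (hVn : S ≤ normalizer (V : Set G)) (hVc : ∀ x ∈ V, ∀ y ∈ V, x * y = y * x) (hV2 : ∀ x ∈ V, x * x = 1)
    (hZV : omegaCenterOf S ≤ V) (hV : 8 < Nat.card V) : False := by
  have h := d.cx
  have hA := d.am
  -- `V ∩ T`
  have h1 : V ⊓ T ≤ omegaCenterOf T := by
    apply hA.inv_le inf_le_right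
    · rw [H17.Base.cj_inf, hA.gT]
      congr 1
      exact cj_eq_of_mem_normalizer (hVn d.gS)
    · intro x hx; exact hV2 x (mem_inf.mp hx).1
  have n1 := card_Z0 h.T2 h.jc
  have n2 : 0 < Nat.card (Z1 T K) := Nat.card_pos
  have hc4 := d.c4
  have e1 := Subgroup.card_le_of_le h1
  rw [d.oc] at e1
  have hWP : wOf K ≤ oP 2 (K ⊔ T) := (LD.W_le_V h.H h.ld h.jc h.le).trans ((V_le_Q L).trans h.oP_le_P)
  by_cases h4 : Nat.card (omegaCenterOf (J T)) = 4
  · -- the case of order 4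
    have hne : Z1 T K ≠ ⊥ := by
      intro h1; rw [h1, Subgroup.card_bot] at n1; omega
    obtain ⟨v, hv, hv1⟩ := exists_ne_one_of_ne_bot hne
    have hv0 : v ∈ omegaCenterOf T := by rw [d.oc]; exact Z1_le hv
    have hCS : S ⊓ centralizer ({v} : Set G) ≤ T := by
      rw [← inf_syl h.ld hS d.lt.le]
      exact inf_le_inf le_rfl (h.cent_le h.co hv hv1)
    have h5 : V ⊓ centralizer ({v} : Set G) ≤ V ⊓ T := le_inf inf_le_left ((inf_le_inf hVS le_rfl).trans hCS)
    have hvS : v ∈ S := d.lt.le (omegaCenterOf_le _ hv0)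
    have h6 := card_le_sq hVc hV2 (sq_oc hv0) (hVn hvS)
    have h7 := Subgroup.card_le_of_le h5
    have h8 : Nat.card (V ⊓ T : Subgroup G) = 4 := by
      have h9 : Nat.card (V ⊓ T : Subgroup G) ∣ Nat.card (omegaCenterOf T) := Subgroup.card_dvd_of_le h1
      rw [d.oc, h4] at h9
      have h10 : 3 ≤ Nat.card (V ⊓ T : Subgroup G) := by nlinarith
      have h11 := Nat.le_of_dvd (by norm_num) h9
      interval_cases h12 : Nat.card (V ⊓ T : Subgroup G)
      · omega
      · rfl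
    have h9 : V ⊓ T = omegaCenterOf T := by
      apply H2.Card.eq_of_le_of_card_eq h1
      rw [h8, d.oc, h4]
    have hvV : v ∈ V := by
      rw [← h9] at hv0; exact (mem_inf.mp hv0).1
    have h10 : V ≤ T := by
      refine le_trans ?_ hCS
      refine le_inf hVS ?_
      intro x hx
      rw [mem_centralizer_singleton_iff]
      exact hVc x hx v hvV
    have h11 := Subgroup.card_le_of_le (le_inf le_rfl h10 : V ≤ V ⊓ T)
    omega
  · have h2 : Nat.card (omegaCenterOf (J T)) = 2 := by omega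
    have hQc := hA.card_Q
    rw [d.oc, h2] at hQc
    have hWQ : wOf K = oP 2 (K ⊔ T) := by
      apply H2.Card.eq_of_le_of_card_eq hWP
      apply le_antisymm (Subgroup.card_le_of_le hWP)
      rw [h.jc.2.2.2.2.1]
      exact hQc
    obtain ⟨z, hz, hz1⟩ := exists_ne_one_of_ne_bot (sylow_ne_bot hS d.lt)
    have hzQ : z ∈ wOf K := by rw [hWQ]; exact hA.Z_le_Q (d.zle hz)
    -- another element
    obtain ⟨w, hw, hw1, hwz⟩ : ∃ w ∈ wOf K, w ≠ 1 ∧ w ≠ z := by
      by_contra hno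
      push Not at hno
      have : Nat.card (wOf K) ≤ 2 := by
        classical
        have hinj : Function.Injective (fun x : ↥(wOf K) => (if (x : G) = 1 then (0 : Fin 2) else 1)) := by
          intro x y hxy
          by_cases hx : (x : G) = 1 <;> by_cases hy : (y : G) = 1
          · exact Subtype.ext (hx.trans hy.symm)
          · simp [hx, hy] at hxy
          · simp [hx, hy] at hxy
          · exact Subtype.ext ((hno _ x.2 hx).trans (hno _ y.2 hy).symm)
        have := Nat.card_le_card_of_injective _ hinj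
        simpa using this
      rw [h.jc.2.2.2.2.1] at this
      omega
    have hall := four_cases (le_of_eq h.jc.2.2.2.2.1) hw hzQ hw1 hz1 hwz (h.jc.2.2.2.2.2 w hw)
    have hCS : S ⊓ centralizer ({w} : Set G) ≤ T := by
      rintro x ⟨hxS, hxw⟩
      rw [← inf_syl h.ld hS d.lt.le]
      refine ⟨hxS, ?_⟩
      have hxw' : x * w = w * x := Subgroup.mem_centralizer_singleton_iff.mp hxw
      have hxz : x * z = z * x := (mem_omegaCenterOf.mp hz).2.1 x hxS
      apply h.le_of_local (JC.twoLocal h.jc) h.co (Subgroup.le_normalizer.trans (normalizer_le_wOf K))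
        ((JC.norm h.jc).trans (normalizer_le_wOf K))
      apply Subgroup.centralizer_le_normalizer
      rw [mem_centralizer_iff]
      intro y hy
      rcases hall y hy with rfl | rfl | rfl | rfl
      · rw [mul_one, one_mul]
      · exact hxw'.symm
      · exact hxz.symm
      · rw [mul_assoc, ← hxz, ← mul_assoc, ← hxw', mul_assoc]
    have h5 : V ⊓ centralizer ({w} : Set G) ≤ V ⊓ T := le_inf inf_le_left ((inf_le_inf hVS le_rfl).trans hCS)
    have hwS : w ∈ S := by
      have : w ∈ T := by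
        have hw' : w ∈ oP 2 (K ⊔ T) := by rw [← hWQ]; exact hw
        exact hA.QT hw'
      exact d.lt.le this
    have h6 := card_le_sq hVc hV2 (h.jc.2.2.2.2.2 w hw) (hVn hwS)
    have h7 := Subgroup.card_le_of_le h5
    nlinarith

/-- **scenario X** -/
theorem Cx.scenX {S : Sylow 2 G} (h : Cx M (S : Subgroup G) K L) (hO : pCore 2 G = ⊥)
    (hN : normalizer (J (S : Subgroup G) : Set G) ≤ L)
    (hX : ∀ M' : Subgroup G, IsTwoLocal M' → (S : Subgroup G) ≤ M' → M' ≤ L) : Cx.Good (S : Subgroup G) K := by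
  haveI : Fact (Nat.Prime 2) := ⟨Nat.prime_two⟩
  obtain ⟨T', K', L', g, d⟩ := exists_scen h.H hO S h.mx.1 h.ld hN hX
  have hSL : (S : Subgroup G) ≤ L := h.ld.syl.le
  have hSK : (S : Subgroup G) ≤ normalizer (K : Set G) := by
    intro s hs
    by_contra hsK
    have hne : K ≠ cj s K := fun he => hsK (mem_normalizer_iff_cj.mpr he.symm)
    have c2 := h.co_cj h.co (LD.T_le_NJ _ hs) (hSL hs)
    have hW : wOf K ⊓ wOf (cj s K) = ⊥ := by
      by_contra h1
      exact hne (h.ld.uniq h.H h.jc h.le c2.jc c2.le h1)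
    have h2 := card_mul_le (LD.W_le_V h.H h.ld h.jc h.le) (LD.W_le_V h.H h.ld c2.jc c2.le) hW
    rw [h.jc.2.2.2.2.1, c2.jc.2.2.2.2.1] at h2
    exact d.small_V S.2 h.ld.V_le_T (hSL.trans (norm_V L)) commV' sqV' h.ld.omega_le (by omega)
  -- `Z₁(K) = 1`
  have hZ1 : Z1 (S : Subgroup G) K = ⊥ := by
    by_contra hne
    have hn : (S : Subgroup G) ≤ normalizer (Z1 (S : Subgroup G) K : Set G) := by
      intro s hs
      rw [mem_normalizer_iff_cj, h.cj_Z1 (LD.T_le_NJ _ hs), cj_eq_of_mem_normalizer (hSK hs)]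
    have hle : Z1 (S : Subgroup G) K ≤ (S : Subgroup G) := Z1_le.trans ((omegaCenterOf_le _).trans (H18.KS.J_le _))
    obtain ⟨x, hx, hx1, hx2, hxS⟩ := H17.PC.exists_central S.2 hne hle hn
    have hxZ : x ∈ omegaCenterOf (S : Subgroup G) := mem_omegaCenterOf.mpr ⟨hle hx, hxS, by rw [← pow_two]; exact hx2⟩
    obtain ⟨y, hy, hy1, _⟩ := exists_zK h.T2 h.jc
    have hyn : (S : Subgroup G) ≤ normalizer ((omegaCenterOf (J (S : Subgroup G)) ⊓ wOf K : Subgroup G) : Set G) := by
      intro s hs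
      rw [mem_normalizer_iff_cj, cj_inf, h.cj_Z0 (LD.T_le_NJ _ hs), cj_eq_of_mem_normalizer (normalizer_le_wOf K (hSK hs))]
    have hyZ : y ∈ omegaCenterOf (S : Subgroup G) := by
      have hy0 := (mem_inf.mp hy).1
      refine mem_omegaCenterOf.mpr ⟨(H18.KS.J_le _) (omegaCenterOf_le _ hy0), fun s hs => ?_, sq_oc hy0⟩
      exact comm_of_card_two (by rw [card_Z0_W h.T2 h.jc]) (hyn hs) hy
    have hxy : x = y := order_two d.zc hxZ hyZ hx1 hy1
    have h1 := Z1_inf_W (T := (S : Subgroup G)) h.jc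
    exact ne_bot_of_mem (Subgroup.mem_inf.mpr ⟨hx, (by rw [hxy]; exact (mem_inf.mp hy).2 : x ∈ wOf K)⟩) hx1 h1
  have n1 := card_Z0 h.T2 h.jc
  rw [hZ1, Subgroup.card_bot] at n1
  exact ⟨hSK, h.oc_eq (by omega) hSK, by omega⟩

/-- the case `T = S` -/
theorem Cx.big {S : Sylow 2 G} (h : Cx M (S : Subgroup G) K L) (hO : pCore 2 G = ⊥) : Cx.Good (S : Subgroup G) K := by
  by_cases h1 : normalizer (J (S : Subgroup G) : Set G) ≤ L
  · by_cases h2 : ∀ M' : Subgroup G, IsTwoLocal M' → (S : Subgroup G) ≤ M' → M' ≤ L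
    · exact h.scenX hO h1 h2
    · push Not at h2
      obtain ⟨M', hM', hS, hL⟩ := h2
      exact h.case2 h1 hM' hS hL
  · obtain ⟨g, hg, hgL⟩ := SetLike.not_le_iff_exists.mp h1
    exact h.case1 hg hgL

end Cfsg.Agent.H17.KT
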