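import Cfsg.Agent.H17_KT8

/-! Local analysis: final statements -/

set_option autoImplicit false
set_option linter.unusedSectionVars false
set_option linter.unusedVariables false
set_option linter.unusedSimpArgs false
set_option linter.style.haveILetI false

namespace Cfsg.Agent.H17.KT

open Subgroup Pointwise
open scoped commutatorElement
open Cfsg.Agent.H13.Syl
open Cfsg.Agent.H18.CharP
open Cfsg.Agent.H12.ZJ
open Cfsg.Agent.H18.KS

variable {G : Type*} [Group G] [Finite G]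
variable {L K M T : Subgroup G}

theorem exists_sylow_cj (S : Sylow 2 G) (x : G) : ∃ S' : Sylow 2 G, (S' : Subgroup G) = cj x (S : Subgroup G) := by
  haveI : Fact (Nat.Prime 2) := ⟨Nat.prime_two⟩
  have h1 := (isSylIn_sylow_top S).cj x
  have h2 : ¬ 2 ∣ (cj x (S : Subgroup G)).index := by
    have := h1.2.2
    rwa [cj_top, Subgroup.relIndex_top_right] at this
  exact ⟨h1.2.1.toSylow h2, rfl⟩

/-- a Sylow subgroup of `G` containing `T` with the same properties -/
theorem exists_sylow_ge (S : Sylow 2 G) (hM : normalizer (J (S : Subgroup G) : Set G) ≤ M)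
    (hTM : T ≤ M) (hT : IsPGroup 2 ↥T) : ∃ S' : Sylow 2 G, T ≤ (S' : Subgroup G) ∧ normalizer (J (S' : Subgroup G) : Set G) ≤ M := by
  haveI : Fact (Nat.Prime 2) := ⟨Nat.prime_two⟩
  have hSM : (S : Subgroup G) ≤ M := (LD.T_le_NJ _).trans hM
  have hsyl := (isSylIn_sylow_top S).mono hSM le_top
  obtain ⟨x, hx, hxT⟩ := hsyl.exists_conj_le hT hTM
  obtain ⟨S', hS'⟩ := exists_sylow_cj S x⁻¹
  refine ⟨S', ?_, ?_⟩
  · rw [hS', ← cj_le_iff]; exact hxT
  · rw [hS', J_cj, ← cj_normalizer, cj_le_iff, inv_inv, cj_eq_of_mem hx]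
    exact hM

theorem T_le_NK (H : Hyp G) (hO : pCore 2 G = ⊥) (S : Sylow 2 G) (hM : normalizer (J (S : Subgroup G) : Set G) ≤ M)
    (hT : T ∈ maxStraddlingTwoSubgroups M) (hK : K ∈ jComponentsOutside M T) : T ≤ normalizer (K : Set G) := by
  obtain ⟨S', hTS, hM'⟩ := exists_sylow_ge S hM hT.1.2.2.1 hT.1.1
  obtain ⟨L, hL, hKT, _⟩ := s2950_exists H S' hM' hT hK
  have hKL := (sup_le_sup_left (H18.KS.J_le T) K).trans hKT
  rcases eq_or_lt_of_le hTS with h1 | h1
  · subst h1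
    exact ((Cx.of_max H S' hM' hT hK hL hKL).big hO).1
  · obtain ⟨g, d⟩ := exists_dat S' H hM' hT h1 hK hL hKL
    exact d.TK

theorem s2952 (H : Hyp G) (hO : pCore 2 G = ⊥) (S : Sylow 2 G) (hM : normalizer (J (S : Subgroup G) : Set G) ≤ M)
    (hT : T ∈ maxStraddlingTwoSubgroups M) (hK : K ∈ jComponentsOutside M T) : (K.subgroupOf (K ⊔ T)).Normal := by
  rw [Cfsg.Agent.H17.Base.normal_subgroupOf_iff le_sup_left]
  exact sup_le Subgroup.le_normalizer (T_le_NK H hO S hM hT hK)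

theorem s2951 (H : Hyp G) (hO : pCore 2 G = ⊥) (S : Sylow 2 G) (hM : normalizer (J (S : Subgroup G) : Set G) ≤ M)
    (hT : T ∈ maxStraddlingTwoSubgroups M) (hTS : T ≤ (S : Subgroup G)) (hK : K ∈ jComponentsOutside M T)
    {L : Subgroup G} (hL : IsMaximalTwoLocal L) (hKL : K ⊔ J T ≤ L) :
    omegaCenterOf (J T) ⊓ wOf K ≠ ⊥ ∧
      ((omegaCenterOf (S : Subgroup G) = omegaCenterOf (J T) ∧ Nat.card ↥(omegaCenterOf (J T)) = 2) ∨
        (omegaCenterOf (S : Subgroup G) = omegaCenterOf (J T) ∧ Nat.card ↥(omegaCenterOf (J T)) = 4 ∧ T = (S : Subgroup G)) ∨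
        (omegaCenterOf T = omegaCenterOf (J T) ∧ Nat.card ↥(omegaCenterOf (J T)) = 4 ∧
          (L ⊓ centralizer (omegaCenterOf (J T) : Set G)).relIndex (normalizer (omegaCenterOf (J T) : Set G)) = 2)) := by
  have h := Cx.of_max H S hM hT hK hL hKL
  have n1 := card_Z0 h.T2 h.jc
  have n2 : 0 < Nat.card (Z1 T K) := Nat.card_pos
  constructor
  · intro h1
    have h2 := card_Z0_W h.T2 h.jc
    rw [h1, Subgroup.card_bot] at h2
    omega
  rcases eq_or_lt_of_le hTS with h1 | h1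
  · subst h1
    obtain ⟨a1, a2, a3⟩ := h.big hO
    have h3 : Nat.card (omegaCenterOf (J (S : Subgroup G))) = 2 ∨ Nat.card (omegaCenterOf (J (S : Subgroup G))) = 4 := by omega
    rcases h3 with h3 | h3
    · exact Or.inl ⟨a2, h3⟩
    · exact Or.inr (Or.inl ⟨a2, h3, rfl⟩)
  · obtain ⟨g, d⟩ := exists_dat S H hM hT h1 hK hL hKL
    have h4 := d.c4
    have h3 : Nat.card (omegaCenterOf (J T)) = 2 ∨ Nat.card (omegaCenterOf (J T)) = 4 := by omega
    rcases h3 with h3 | h3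
    · left
      refine ⟨?_, h3⟩
      apply H2.Card.eq_of_le_of_card_eq (d.zle.trans oc_le_ocJ)
      rw [d.zc, h3]
    · right; right
      exact ⟨d.oc, h3, (h.third S.2 h1 (sylow_ne_bot S.2 h1) h3).2⟩

end Cfsg.Agent.H17.KT
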