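import Cfsg.Agent.H22_Inv5
import Cfsg.Agent.H11_Cores

set_option autoImplicit false
set_option linter.unusedSectionVars false

namespace Cfsg.Agent.H22.Inv

open Subgroup
open scoped commutatorElement Pointwise

universe u

section

variable {G : Type*} [Group G] [Finite G]

theorem pCore_quot (p : ℕ) [Fact p.Prime] : Cfsg.pCore p (G ⧸ Cfsg.pCore p G) = ⊥ := by
  have hn : (Cfsg.pCore p G).Normal := H1.Nilp.pCore_normal p
  set N := Cfsg.pCore p G with hN
  have hLn : (Cfsg.pCore p (G ⧸ N)).Normal := H1.Nilp.pCore_normal p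
  set L := (Cfsg.pCore p (G ⧸ N)).comap (QuotientGroup.mk' N) with hL
  have hLn' : L.Normal := hLn.comap _
  have hLp : IsPGroup p L := by
    obtain ⟨a, ha⟩ := IsPGroup.iff_card.mp (H1.Nilp.pCore_isPGroup p : IsPGroup p (Cfsg.pCore p (G ⧸ N)))
    obtain ⟨b, hb⟩ := IsPGroup.iff_card.mp (H1.Nilp.pCore_isPGroup p : IsPGroup p N)
    apply IsPGroup.of_card (n := a + b)
    rw [hL, H1.Hall.card_comap_mk, ha, hb, pow_add]
  have h1 : L ≤ N := H1.Nilp.le_pCore hLn' hLp
  have h3 : L.map (QuotientGroup.mk' N) = Cfsg.pCore p (G ⧸ N) :=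
    Subgroup.map_comap_eq_self_of_surjective (QuotientGroup.mk'_surjective N) _
  rw [← h3, Subgroup.map_eq_bot_iff, QuotientGroup.ker_mk']
  exact h1

/-- in a solvable group with `O_2 = 1` the core `O_{2'}` contains its centralizer -/
theorem centralizer_pPrimeCore_le [Group.IsSolvable G] (h : Cfsg.pCore 2 G = ⊥) :
    centralizer (Cfsg.pPrimeCore 2 G : Set G) ≤ Cfsg.pPrimeCore 2 G := by
  have h2 : Fact (Nat.Prime 2) := ⟨Nat.prime_two⟩
  have h1 : Cfsg.fittingSubgroup G ≤ Cfsg.pPrimeCore 2 G := by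
    refine (H1.Nilp.fitting_le_sup 2).trans ?_
    rw [h, bot_sup_eq]
  exact (Subgroup.centralizer_le h1).trans (H1.Hall.centralizer_fitting_le.trans h1)

end

theorem main_aux : ∀ n : ℕ, ∀ (G : Type u) [Group G] [Finite G], Nat.card G = n → Group.IsSolvable G →
    Cfsg.pPrimeCore 2 G = ⊥ → (∀ x y : G, x ≠ 1 → x ^ 2 = 1 → y ≠ 1 → y ^ 2 = 1 → IsConj x y) →
    (∃ x y : G, x ≠ y ∧ x ≠ 1 ∧ x ^ 2 = 1 ∧ y ≠ 1 ∧ y ^ 2 = 1) → ¬ 2 ∣ (Cfsg.pCore 2 G).index := by
  intro n
  induction n using Nat.strong_induction_on with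
  | _ n ih =>
  intro G _ _ hn hsolv hcore hconj hex hidx
  classical
  have h2 : Fact (Nat.Prime 2) := ⟨Nat.prime_two⟩
  have hNn : (Cfsg.pCore 2 G).Normal := H1.Nilp.pCore_normal 2
  have hNp : IsPGroup 2 (Cfsg.pCore 2 G) := H1.Nilp.pCore_isPGroup 2
  have hCN := H1.Hall.centralizer_pCore_le (G := G) 2 hcore
  have hcoreN : Cfsg.pCore 2 (G ⧸ Cfsg.pCore 2 G) = ⊥ := pCore_quot 2
  set N := Cfsg.pCore 2 G with hN
  obtain ⟨x0, y0, hxy, hx01, hx02, hy01, hy02⟩ := hex
  have hNb : N ≠ ⊥ := by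
    intro h
    apply hx01
    have h1 : x0 ∈ centralizer (N : Set G) := by
      rw [h, mem_centralizer_iff]
      intro y hy
      rw [SetLike.mem_coe, mem_bot] at hy
      rw [hy, one_mul, mul_one]
    have h3 := hCN h1
    rw [h] at h3
    exact mem_bot.mp h3
  -- the subgroup `E`
  have hZc : ∀ a ∈ N ⊓ centralizer (N : Set G), ∀ b ∈ N ⊓ centralizer (N : Set G), a * b = b * a := by
    intro a ha b hb
    exact mem_centralizer_iff.mp (mem_inf.mp hb).2 a (mem_inf.mp ha).1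
  let E : Subgroup G :=
    { carrier := {x | x ∈ N ⊓ centralizer (N : Set G) ∧ x ^ 2 = 1}
      one_mem' := ⟨one_mem _, one_pow 2⟩
      mul_mem' := by
        rintro a b ⟨ha, ha2⟩ ⟨hb, hb2⟩
        refine ⟨mul_mem ha hb, ?_⟩
        rw [(show Commute a b from hZc a ha b hb).mul_pow, ha2, hb2, one_mul]
      inv_mem' := by
        rintro a ⟨ha, ha2⟩
        exact ⟨inv_mem ha, by rw [inv_pow, ha2, inv_one]⟩ }
  have hE2 : ∀ e ∈ E, e ^ 2 = 1 := fun e he => he.2
  have hEN : E ≤ N := fun e he => (mem_inf.mp he.1).1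
  have hEc : N ≤ centralizer (E : Set G) := by
    intro x hx
    rw [mem_centralizer_iff]
    intro e he
    exact (mem_centralizer_iff.mp (mem_inf.mp he.1).2 x hx).symm
  have hEn : E.Normal := by
    constructor
    rintro e ⟨he, he2⟩ g
    refine ⟨mem_inf.mpr ⟨hNn.conj_mem e (mem_inf.mp he).1 g, ?_⟩, by rw [conj_pow, he2, mul_one, mul_inv_cancel]⟩
    rw [mem_centralizer_iff]
    intro x hx
    have h1 := mem_centralizer_iff.mp (mem_inf.mp he).2 (g⁻¹ * x * g⁻¹⁻¹) (hNn.conj_mem x hx g⁻¹)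
    calc x * (g * e * g⁻¹) = g * ((g⁻¹ * x * g⁻¹⁻¹) * e) * g⁻¹ := by group
      _ = g * (e * (g⁻¹ * x * g⁻¹⁻¹)) * g⁻¹ := by rw [h1]
      _ = _ := by group
  have hinv : ∀ x : G, x ^ 2 = 1 → x ∈ E := by
    intro x hx
    by_cases hx1 : x = 1
    · rw [hx1]; exact one_mem _
    have hd : 2 ∣ Nat.card N := by
      obtain ⟨m, hm⟩ := IsPGroup.iff_card.mp hNp
      rcases Nat.eq_zero_or_pos m with rfl | hm0
      · rw [pow_zero, Subgroup.card_eq_one] at hm; exact absurd hm hNb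
      · rw [hm]; exact dvd_pow_self 2 hm0.ne'
    have h1 := H22.Prim.exists_fixed_of_dvd hNp (Subgroup.le_normalizer : N ≤ normalizer (N : Set G)) hd
    obtain ⟨w, hw, hw1, hw2⟩ := exists_inv_of_ne_bot (hNp.to_le inf_le_left) h1
    obtain ⟨g, hg⟩ := isConj_iff.mp (hconj w x hw1 hw2 hx1 hx)
    rw [← hg]
    exact hEn.conj_mem w ⟨hw, hw2⟩ g
  have hbig : 2 < Nat.card E := by
    have h1 : ({1, x0, y0} : Set G) ⊆ E := by
      rintro z (rfl | rfl | rfl)
      · exact one_mem E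
      · exact hinv _ hx02
      · exact hinv _ hy02
    have h3 : ({1, x0, y0} : Set G).ncard = 3 := Set.ncard_eq_three.mpr ⟨1, x0, y0, hx01.symm, hy01.symm, hxy, rfl⟩
    have h4 := Set.ncard_le_ncard h1 (Set.toFinite _)
    rw [h3] at h4
    have h5 : (E : Set G).ncard = Nat.card E := rfl
    omega
  have htrG : ∀ e ∈ E, ∀ e' ∈ E, e ≠ 1 → e' ≠ 1 → ∃ g : G, g * e * g⁻¹ = e' := by
    intro e he e' he' he1 he'1
    exact isConj_iff.mp (hconj e e' he1 (hE2 e he) he'1 (hE2 e' he'))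
  -- the subgroup `M`
  have hRbn : (Cfsg.pPrimeCore 2 (G ⧸ N)).Normal := H1.Nilp.pPrimeCore_normal 2
  have hRbc : (Nat.card (Cfsg.pPrimeCore 2 (G ⧸ N))).Coprime 2 := H1.Nilp.pPrimeCore_coprime 2
  set Rb := Cfsg.pPrimeCore 2 (G ⧸ N) with hRb
  set M := Rb.comap (QuotientGroup.mk' N) with hM
  have hMn : M.Normal := hRbn.comap _
  have hNM : N ≤ M := H1.Hall.le_comap_mk N Rb
  have hMi : N.relIndex M = Nat.card Rb := H1.Hall.relIndex_comap_mk N Rb
  have hcopN : (Nat.card N).Coprime (N.relIndex M) := by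
    obtain ⟨m, hm⟩ := IsPGroup.iff_card.mp hNp
    rw [hMi, hm]
    exact hRbc.symm.pow_left m
  obtain ⟨R, hRM, hRcard, hRN, hRNM⟩ := H1.Coprime.sz_exists hNM Subgroup.le_normalizer_of_normal hcopN
  have hRodd : (Nat.card R).Coprime 2 := by rw [hRcard, hMi]; exact hRbc
  have hMs : Group.IsSolvable M := inferInstance
  have hRs : Group.IsSolvable R := inferInstance
  have hRi : R.relIndex M = Nat.card N := by
    have h1 := H1.Basic.relIndex_mul_card hRM
    have h3 := H1.Basic.relIndex_mul_card hNM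
    rw [← hRcard] at h3
    rw [← h3, mul_comm] at h1
    exact Nat.eq_of_mul_eq_mul_left Nat.card_pos h1
  have hNH : N ⊔ normalizer (R : Set G) = ⊤ := by
    have h1 := H1.Hall.hall_frattini M hMs R hRM (by rw [hRi, hRcard]; exact hcopN.symm)
    rw [← hRNM] at h1
    rw [eq_top_iff, ← h1, sup_le_iff, sup_le_iff]
    exact ⟨⟨Subgroup.le_normalizer.trans le_sup_right, le_sup_left⟩, le_sup_right⟩
  set H := normalizer (R : Set G) with hH
  have hRH : R ≤ H := Subgroup.le_normalizer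
  have hGNH : ∀ g : G, ∃ n ∈ N, ∃ h ∈ H, n * h = g := by
    intro g
    have h1 : g ∈ N ⊔ H := by rw [hNH]; exact mem_top g
    exact (H1.Basic.mem_sup_iff_of_le_normalizer Subgroup.le_normalizer_of_normal).mp h1
  have htr : ∀ e ∈ E, ∀ e' ∈ E, e ≠ 1 → e' ≠ 1 → ∃ h ∈ H, h * e * h⁻¹ = e' := by
    intro e he e' he' he1 he'1
    obtain ⟨g, hg⟩ := htrG e he e' he' he1 he'1
    obtain ⟨n, hn, h, hh, rfl⟩ := hGNH g
    refine ⟨h, hh, ?_⟩
    have h1 : h * e * h⁻¹ ∈ E := hEn.conj_mem e he h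
    have h3 : (h * e * h⁻¹) * n = n * (h * e * h⁻¹) := mem_centralizer_iff.mp (hEc hn) _ h1
    rw [← hg]
    calc h * e * h⁻¹ = ((h * e * h⁻¹) * n) * n⁻¹ := by group
      _ = (n * (h * e * h⁻¹)) * n⁻¹ := by rw [h3]
      _ = _ := by group
  -- elements of `N ∩ H` centralize `R`
  have hNHc : ∀ x ∈ N, x ∈ H → x ∈ centralizer (R : Set G) := fun x hxN hxH =>
    H1.Coprime.mem_centralizer_of_mem_normalizer (A := R) (K := N) Subgroup.le_normalizer_of_normal hRN hxN hxH
  -- Step 1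
  have hRE : R ≤ centralizer (E : Set G) := by
    by_contra hcon
    have h1 : ∀ e ∈ E, e ∈ centralizer (R : Set G) → e = 1 := by
      intro e he heR
      by_contra he1
      apply hcon
      intro r hr
      rw [mem_centralizer_iff]
      intro e' he'
      by_cases he'1 : e' = 1
      · rw [he'1, one_mul, mul_one]
      obtain ⟨h, hh, hhe⟩ := htr e he e' he' he1 he'1
      have h3 : h⁻¹ * r * h⁻¹⁻¹ ∈ R := (mem_normalizer_iff.mp (inv_mem hh) r).mp hr
      have h4 := mem_centralizer_iff.mp heR _ h3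
      rw [← hhe]
      calc h * e * h⁻¹ * r = h * (e * (h⁻¹ * r * h⁻¹⁻¹)) * h⁻¹ := by group
        _ = h * ((h⁻¹ * r * h⁻¹⁻¹) * e) * h⁻¹ := by rw [h4]
        _ = _ := by group
    have h3 : N ⊓ centralizer (R : Set G) = ⊥ := by
      by_contra hne
      obtain ⟨w, hw, hw1, hw2⟩ := exists_inv_of_ne_bot (hNp.to_le inf_le_left) hne
      exact hw1 (h1 w (hinv w hw2) (mem_inf.mp hw).2)
    have hd : 2 ∣ Nat.card (G ⧸ N) := hidx
    obtain ⟨q, hq⟩ := exists_prime_orderOf_dvd_card' (G := G ⧸ N) 2 hd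
    obtain ⟨g, hg⟩ := QuotientGroup.mk_surjective q
    obtain ⟨n, hn, h, hh, rfl⟩ := hGNH g
    have hqh : (QuotientGroup.mk h : G ⧸ N) = q := by
      rw [← hg, QuotientGroup.mk_mul, (QuotientGroup.eq_one_iff n).mpr hn, one_mul]
    have hh2 : h ^ 2 ∈ N := by
      rw [← QuotientGroup.eq_one_iff, QuotientGroup.mk_pow, hqh, ← hq]
      exact pow_orderOf_eq_one q
    have h4 : h ^ 2 ∈ N ⊓ centralizer (R : Set G) := mem_inf.mpr ⟨hh2, hNHc _ hh2 (pow_mem hh 2)⟩
    rw [h3] at h4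
    have h5 := hEN (hinv h (mem_bot.mp h4))
    rw [← QuotientGroup.eq_one_iff, hqh] at h5
    rw [h5, orderOf_one] at hq
    omega
  have hEH : E ≤ H := by
    have h1 : E ≤ centralizer (R : Set G) := Subgroup.le_centralizer_iff.mp hRE
    exact h1.trans (Subgroup.centralizer_le_normalizer _)
  -- `R ≠ 1`
  have hsQ : Group.IsSolvable (G ⧸ N) := Group.isSolvable_of_surjective (QuotientGroup.mk'_surjective N)
  have hRbC : centralizer (Rb : Set (G ⧸ N)) ≤ Rb := centralizer_pPrimeCore_le hcoreN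
  have hR1 : R ≠ ⊥ := by
    intro h
    have h1 : Nat.card Rb = 1 := by rw [← hMi, ← hRcard, h, Subgroup.card_bot]
    have h3 : Rb = ⊥ := Subgroup.card_eq_one.mp h1
    rw [h3] at hRbC
    have h4 : ∀ q : G ⧸ N, q = 1 := by
      intro q
      apply mem_bot.mp
      apply hRbC
      rw [mem_centralizer_iff]
      intro y hy
      rw [SetLike.mem_coe, mem_bot] at hy
      rw [hy, one_mul, mul_one]
    have h5 : Nat.card (G ⧸ N) = 1 := by
      rw [Nat.card_eq_one_iff_unique]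
      exact ⟨⟨fun a b => (h4 a).trans (h4 b).symm⟩, ⟨1⟩⟩
    have h6 : 2 ∣ Nat.card (G ⧸ N) := hidx
    rw [h5] at h6
    omega
  have hCR : ∀ S : Subgroup G, IsPGroup 2 S → S ≤ centralizer (R : Set G) → S ≤ N := by
    intro S hS hSR
    have h1 : S ≤ M := by
      intro s hs
      rw [hM, Subgroup.mem_comap]
      apply hRbC
      rw [mem_centralizer_iff]
      intro q hq
      obtain ⟨g, hg⟩ := QuotientGroup.mk'_surjective N q
      have hgM : g ∈ M := by rw [hM, Subgroup.mem_comap, hg]; exact hq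
      rw [← hRNM, sup_comm, H1.Basic.mem_sup_iff_of_le_normalizer Subgroup.le_normalizer_of_normal] at hgM
      obtain ⟨x, hx, r, hr, rfl⟩ := hgM
      have h3 : (QuotientGroup.mk' N) x = 1 := (QuotientGroup.eq_one_iff x).mpr hx
      have h4 : r * s = s * r := mem_centralizer_iff.mp (hSR hs) r hr
      rw [← hg, map_mul, h3, one_mul, ← map_mul, h4, map_mul]
    have h3 : IsPGroup 2 (S.map (QuotientGroup.mk' N)) := hS.map _
    have h4 : S.map (QuotientGroup.mk' N) ≤ Rb := Subgroup.map_le_iff_le_comap.mpr h1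
    have h5 : S.map (QuotientGroup.mk' N) = ⊥ := by
      apply Subgroup.card_eq_one.mp
      obtain ⟨m, hm⟩ := IsPGroup.iff_card.mp h3
      have h6 := Subgroup.card_dvd_of_le h4
      rw [hm] at h6 ⊢
      exact Nat.eq_one_of_dvd_coprimes (hRbc.pow_right m) h6 dvd_rfl
    rwa [Subgroup.map_eq_bot_iff, QuotientGroup.ker_mk'] at h5
  -- Step 2: the quotient `H / R`
  have hRHn : (R.subgroupOf H).Normal := by
    rw [Subgroup.normal_subgroupOf_iff_le_normalizer hRH]
  have hsH : Group.IsSolvable H := inferInstance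
  have hsHR : Group.IsSolvable (H ⧸ R.subgroupOf H) :=
    Group.isSolvable_of_surjective (QuotientGroup.mk'_surjective (R.subgroupOf H))
  have hcRH : Nat.card (R.subgroupOf H) = Nat.card R := H1.Basic.card_subgroupOf hRH
  have hcard : Nat.card (H ⧸ R.subgroupOf H) < n := by
    have h1 : Nat.card H = Nat.card (H ⧸ R.subgroupOf H) * Nat.card (R.subgroupOf H) :=
      Subgroup.card_eq_card_quotient_mul_card_subgroup _
    have h3 : 1 < Nat.card R := (Subgroup.one_lt_card_iff_ne_bot R).mpr hR1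
    have h4 : 0 < Nat.card (H ⧸ R.subgroupOf H) := Nat.card_pos
    have h5 : Nat.card H ≤ Nat.card G := Subgroup.card_le_card_group H
    rw [hcRH] at h1
    nlinarith
  -- lifting involutions
  have hlift : ∀ q : H ⧸ R.subgroupOf H, q ≠ 1 → q ^ 2 = 1 → ∃ h : H, (h : G) ∈ E ∧ (h : G) ≠ 1 ∧ QuotientGroup.mk h = q := by
    intro q hq1 hq2
    obtain ⟨h, rfl⟩ := QuotientGroup.mk_surjective q
    have h1 : h ^ 2 ∈ R.subgroupOf H := by
      rw [← QuotientGroup.eq_one_iff, QuotientGroup.mk_pow]; exact hq2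
    have h3 : (h ^ Nat.card R) ^ 2 = 1 := by
      rw [← pow_mul, mul_comm, pow_mul]
      have h4 : (⟨h ^ 2, h1⟩ : R.subgroupOf H) ^ Nat.card (R.subgroupOf H) = 1 := pow_card_eq_one'
      rw [hcRH] at h4
      exact congrArg (fun x : R.subgroupOf H => (x : H)) h4
    obtain ⟨j, hj⟩ : ∃ j, Nat.card R = 2 * j + 1 := by
      have : Odd (Nat.card R) := Nat.coprime_two_right.mp hRodd
      obtain ⟨j, hj⟩ := this
      exact ⟨j, hj⟩
    have h5 : (QuotientGroup.mk (h ^ Nat.card R) : H ⧸ R.subgroupOf H) = QuotientGroup.mk h := by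
      rw [QuotientGroup.mk_pow, hj, pow_succ, pow_mul]
      rw [hq2, one_pow, one_mul]
    refine ⟨h ^ Nat.card R, ?_, ?_, h5⟩
    · apply hinv
      exact congrArg (fun x : H => (x : G)) h3
    · intro h6
      apply hq1
      have h7 : h ^ Nat.card R = 1 := Subtype.ext h6
      rw [← h5, h7]
      rfl
  have hER : ∀ e ∈ E, e ∈ R → e = 1 := by
    intro e he heR
    have h1 : e ∈ R ⊓ N := mem_inf.mpr ⟨heR, hEN he⟩
    rw [hRN] at h1
    exact mem_bot.mp h1
  have ih1 := ih _ hcard (H ⧸ R.subgroupOf H) rfl hsHR (by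
    -- the p'-core is trivial
    have hLbn : (Cfsg.pPrimeCore 2 (H ⧸ R.subgroupOf H)).Normal := H1.Nilp.pPrimeCore_normal 2
    have hLbc : (Nat.card (Cfsg.pPrimeCore 2 (H ⧸ R.subgroupOf H))).Coprime 2 := H1.Nilp.pPrimeCore_coprime 2
    set Lb := Cfsg.pPrimeCore 2 (H ⧸ R.subgroupOf H) with hLb
    set L0 := Lb.comap (QuotientGroup.mk' (R.subgroupOf H)) with hL0
    have hL0n : L0.Normal := hLbn.comap _
    have hL0c : (Nat.card L0).Coprime 2 := by
      rw [hL0, H1.Hall.card_comap_mk, hcRH]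
      exact Nat.Coprime.mul_left hLbc hRodd
    set L := L0.map H.subtype with hL
    have hLH : L ≤ H := Subgroup.map_subtype_le _
    have hLc : (Nat.card L).Coprime 2 := by
      rw [hL, Subgroup.card_map_of_injective H.subtype_injective]; exact hL0c
    have hHL : ∀ h ∈ H, ∀ x ∈ L, h * x * h⁻¹ ∈ L := by
      rintro h hh _ ⟨x, hx, rfl⟩
      exact ⟨_, hL0n.conj_mem x hx ⟨h, hh⟩, rfl⟩
    have hLmn : (L.map (QuotientGroup.mk' N)).Normal := by
      constructor
      rintro _ ⟨x, hx, rfl⟩ q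
      obtain ⟨g, hg⟩ := QuotientGroup.mk'_surjective N q
      obtain ⟨a, ha, h, hh, rfl⟩ := hGNH g
      have h3 : (QuotientGroup.mk' N) a = 1 := (QuotientGroup.eq_one_iff a).mpr ha
      rw [← hg, map_mul, h3, one_mul, ← map_inv, ← map_mul, ← map_mul]
      exact ⟨_, hHL h hh x hx, rfl⟩
    have hLRb : L.map (QuotientGroup.mk' N) ≤ Rb :=
      H1.Nilp.le_pPrimeCore hLmn (hLc.coprime_dvd_left (Subgroup.card_map_dvd _ _))
    have hLM : L ≤ M := Subgroup.map_le_iff_le_comap.mp hLRb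
    have hLN : L ⊓ N = ⊥ := by
      apply H1.Basic.disjoint_of_coprime_card
      obtain ⟨m, hm⟩ := IsPGroup.iff_card.mp hNp
      rw [hm]
      exact hLc.pow_right m
    have hRL : R ≤ L := by
      intro r hr
      refine ⟨⟨r, hRH hr⟩, ?_, rfl⟩
      exact H1.Hall.le_comap_mk _ _ (mem_subgroupOf.mpr hr)
    have hLR : L ≤ R := by
      intro x hx
      have hxM := hLM hx
      rw [← hRNM, sup_comm, H1.Basic.mem_sup_iff_of_le_normalizer Subgroup.le_normalizer_of_normal] at hxM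
      obtain ⟨a, ha, r, hr, rfl⟩ := hxM
      have h3 : a ∈ L := by
        have := mul_mem hx (inv_mem (hRL hr))
        rwa [mul_inv_cancel_right] at this
      have h4 : a ∈ L ⊓ N := mem_inf.mpr ⟨h3, ha⟩
      rw [hLN] at h4
      rw [mem_bot.mp h4, one_mul]
      exact hr
    rw [eq_bot_iff]
    intro q hq
    obtain ⟨x, rfl⟩ := QuotientGroup.mk'_surjective (R.subgroupOf H) q
    have h3 : (x : G) ∈ L := ⟨x, hq, rfl⟩
    exact mem_bot.mpr ((QuotientGroup.eq_one_iff x).mpr (mem_subgroupOf.mpr (hLR h3))))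
    (by
      intro q q' hq1 hq2 hq'1 hq'2
      obtain ⟨h, hhE, hh1, rfl⟩ := hlift q hq1 hq2
      obtain ⟨h', hh'E, hh'1, rfl⟩ := hlift q' hq'1 hq'2
      obtain ⟨k, hk, hkh⟩ := htr h hhE h' hh'E hh1 hh'1
      apply isConj_iff.mpr
      refine ⟨QuotientGroup.mk (⟨k, hk⟩ : H), ?_⟩
      have h3 : (⟨k, hk⟩ : H) * h * (⟨k, hk⟩ : H)⁻¹ = h' := Subtype.ext hkh
      rw [← h3]
      rfl)
    (by
      have hx0E := hinv x0 hx02
      have hy0E := hinv y0 hy02
      refine ⟨QuotientGroup.mk (⟨x0, hEH hx0E⟩ : H), QuotientGroup.mk (⟨y0, hEH hy0E⟩ : H), ?_, ?_, ?_, ?_, ?_⟩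
      · intro h
        have h3 : x0⁻¹ * y0 ∈ R := mem_subgroupOf.mp (QuotientGroup.eq.mp h)
        have h4 := hER _ (mul_mem (inv_mem hx0E) hy0E) h3
        exact hxy (inv_mul_eq_one.mp h4)
      · intro h
        exact hx01 (hER _ hx0E (mem_subgroupOf.mp ((QuotientGroup.eq_one_iff _).mp h)))
      · rw [← QuotientGroup.mk_pow]
        have : (⟨x0, hEH hx0E⟩ : H) ^ 2 = 1 := Subtype.ext hx02
        rw [this]; rfl
      · intro h
        exact hy01 (hER _ hy0E (mem_subgroupOf.mp ((QuotientGroup.eq_one_iff _).mp h)))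
      · rw [← QuotientGroup.mk_pow]
        have : (⟨y0, hEH hy0E⟩ : H) ^ 2 = 1 := Subtype.ext hy02
        rw [this]; rfl)
  -- the subgroup `T`
  have hTbn : (Cfsg.pCore 2 (H ⧸ R.subgroupOf H)).Normal := H1.Nilp.pCore_normal 2
  have hTbp : IsPGroup 2 (Cfsg.pCore 2 (H ⧸ R.subgroupOf H)) := H1.Nilp.pCore_isPGroup 2
  set Tb := Cfsg.pCore 2 (H ⧸ R.subgroupOf H) with hTb
  set T0 := Tb.comap (QuotientGroup.mk' (R.subgroupOf H)) with hT0
  have hT0n : T0.Normal := hTbn.comap _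
  have hRT0 : R.subgroupOf H ≤ T0 := H1.Hall.le_comap_mk _ _
  have hT0i : T0.index = Tb.index := Subgroup.index_comap_of_surjective _ (QuotientGroup.mk'_surjective _)
  have hT : (T0.map H.subtype).subgroupOf H = T0 := Subgroup.comap_map_eq_self_of_injective H.subtype_injective T0
  refine finish (E := E) (N := N) (R := R) (H := H) (T := T0.map H.subtype) hEn hE2 hinv hbig hNp hNn hEN hEc le_rfl hRH
    hRodd hRE hRN hNH hCN hCR hRs hidx htr ?_ (Subgroup.map_subtype_le _) ?_ ?_ ?_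
  · intro r hr
    exact ⟨⟨r, hRH hr⟩, hRT0 (mem_subgroupOf.mpr hr), rfl⟩
  · apply nm_of
    rintro h hh _ ⟨x, hx, rfl⟩
    exact ⟨_, hT0n.conj_mem x hx ⟨h, hh⟩, rfl⟩
  · obtain ⟨a, ha⟩ := IsPGroup.iff_card.mp hTbp
    refine ⟨a, ?_⟩
    have h1 : R = (R.subgroupOf H).map H.subtype := by
      rw [Subgroup.subgroupOf_map_subtype, inf_eq_left.mpr hRH]
    rw [← ha, ← H1.Hall.relIndex_comap_mk (R.subgroupOf H) Tb]
    nth_rewrite 1 [h1]
    exact Subgroup.relIndex_map_map_of_injective _ _ H.subtype_injective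
  · show ¬ 2 ∣ ((T0.map H.subtype).subgroupOf H).index
    rw [hT, hT0i]
    exact ih1

end Cfsg.Agent.H22.Inv
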