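import Cfsg.Prelude.Def_JComponents
import Cfsg.Agent.H17_KsC
import Cfsg.Agent.H17_Quot
import Cfsg.Agent.H17_Amalgam
import Cfsg.Agent.H22_Inv6
import Cfsg.Agent.H12_ZJ5

/-! The action of `L/O₂(L)` on `Ω₁(Z(O₂(L)))` -/

set_option autoImplicit false

namespace Cfsg.Agent.H17.Ks

open Cfsg Cfsg.Agent.H17.Base
open Cfsg.Agent.H12.ZJ (MaxEA EA)

variable {G : Type*} [Group G]

instance pCoreN (p : ℕ) (H : Type*) [Group H] : (pCore p H).Normal := pCore_normal p H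

/-- `Ω₁(Z(O₂(L)))` -/
def VV (L : Subgroup G) : Subgroup G := omegaCenterOf (pCoreOf 2 L)

theorem oc_le (T : Subgroup G) : omegaCenterOf T ≤ T := (H17.Amalgam.omegaOne_le 2 _).trans inf_le_left
theorem oc_le_Cz (T : Subgroup G) : omegaCenterOf T ≤ Cz T := (H17.Amalgam.omegaOne_le 2 _).trans inf_le_right

theorem mem_oc {T : Subgroup G} {x : G} : x ∈ omegaCenterOf T ↔ x ∈ T ∧ x ∈ Cz T ∧ x * x = 1 := by
  constructor
  · intro hx
    refine ⟨oc_le T hx, oc_le_Cz T hx, ?_⟩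
    have key : omegaCenterOf T ≤ (⊤ : Subgroup G) := le_top
    refine Subgroup.closure_induction (p := fun x _ => x * x = 1 ∧ x ∈ T ⊓ Cz T) ?_ ?_ ?_ ?_ hx |>.1
    · rintro x ⟨h1, h2⟩
      exact ⟨by rw [← pow_two]; exact h2, h1⟩
    · exact ⟨by simp, Subgroup.one_mem _⟩
    · rintro x y _ _ ⟨hx1, hx2⟩ ⟨hy1, hy2⟩
      refine ⟨?_, Subgroup.mul_mem _ hx2 hy2⟩
      have h3 : y * x = x * y := Subgroup.mem_centralizer_iff.mp hx2.2 y hy2.1
      calc x * y * (x * y) = x * (y * x) * y := by group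
        _ = x * (x * y) * y := by rw [h3]
        _ = (x * x) * (y * y) := by group
        _ = 1 := by rw [hx1, hy1, one_mul]
    · rintro x _ ⟨hx1, hx2⟩
      refine ⟨?_, Subgroup.inv_mem _ hx2⟩
      rw [← mul_inv_rev, hx1, inv_one]
  · rintro ⟨h1, h2, h3⟩
    exact Subgroup.subset_closure ⟨⟨h1, h2⟩, by rw [pow_two]; exact h3⟩

theorem oc_cj (g : G) (T : Subgroup G) : omegaCenterOf (cj g T) = cj g (omegaCenterOf T) := by
  ext x
  rw [mem_oc, mem_cj, mem_cj, mem_oc]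
  have h1 : x ∈ Cz (cj g T) ↔ g⁻¹ * x * g ∈ Cz T := by
    rw [← cj_Cz, mem_cj]
  rw [h1]
  have h2 : x * x = 1 ↔ (g⁻¹ * x * g) * (g⁻¹ * x * g) = 1 := by
    have e : (g⁻¹ * x * g) * (g⁻¹ * x * g) = g⁻¹ * (x * x) * g := by group
    rw [e]
    constructor
    · intro h; rw [h]; group
    · intro h
      calc x * x = g * (g⁻¹ * (x * x) * g) * g⁻¹ := by group
        _ = 1 := by rw [h]; group
  rw [h2]

theorem Nz_le_Nz_oc (T : Subgroup G) : Nz T ≤ Nz (omegaCenterOf T) := by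
  intro g hg
  rw [mem_Nz_iff_cj] at hg ⊢
  rw [← oc_cj, hg]

theorem oc_EA (T : Subgroup G) : EA 2 (omegaCenterOf T) := by
  refine ⟨fun a ha b hb => ?_, fun a ha => ?_⟩
  · exact (Subgroup.mem_centralizer_iff.mp (oc_le_Cz T hb) a (oc_le T ha))
  · rw [pow_two]; exact (mem_oc.mp ha).2.2

theorem VV_le (L : Subgroup G) : VV L ≤ pCoreOf 2 L := oc_le _
theorem VV_le_Cz (L : Subgroup G) : VV L ≤ Cz (pCoreOf 2 L) := oc_le_Cz _
theorem VV_le_L (L : Subgroup G) : VV L ≤ L := (VV_le L).trans (pCoreOf_le L)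

theorem le_Nz_VV (L : Subgroup G) : L ≤ Nz (VV L) := (le_Nz_pCoreOf L).trans (Nz_le_Nz_oc _)

theorem VV_EA (L : Subgroup G) : EA 2 (VV L) := oc_EA _

instance VVcomm (L : Subgroup G) : CommGroup ↥(VV L) :=
  { (inferInstance : Group ↥(VV L)) with
    mul_comm := fun a b => Subtype.ext ((VV_EA L).1 a a.2 b b.2) }

/-- `L/O₂(L)` -/
abbrev XL (L : Subgroup G) : Type _ := ↥L ⧸ pCore 2 ↥L

abbrev pi (L : Subgroup G) : ↥L →* XL L := QuotientGroup.mk' (pCore 2 ↥L)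

def act (L : Subgroup G) : ↥L →* MulAut ↥(VV L) :=
  (VV L).normalizerMonoidHom.comp (Subgroup.inclusion (le_Nz_VV L))

theorem act_apply (L : Subgroup G) (l : ↥L) (v : ↥(VV L)) : ((act L l v : ↥(VV L)) : G) = (l : G) * v * (l : G)⁻¹ := rfl

/-- the action on `V` -/
def phi (L : Subgroup G) : XL L →* MulAut ↥(VV L) :=
  QuotientGroup.lift (pCore 2 ↥L) (act L) (by
    intro l hl
    ext v
    rw [act_apply, MulAut.one_apply]
    have h1 : (l : G) ∈ pCoreOf 2 L := ⟨l, hl, rfl⟩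
    have h2 := Subgroup.mem_centralizer_iff.mp (VV_le_Cz L v.2) l h1
    rw [h2]; group)

theorem phi_apply (L : Subgroup G) (l : ↥L) (v : ↥(VV L)) :
    ((phi L (pi L l) v : ↥(VV L)) : G) = (l : G) * v * (l : G)⁻¹ := rfl

theorem phi_eq_one_iff (L : Subgroup G) (l : ↥L) : phi L (pi L l) = 1 ↔ (l : G) ∈ Cz (VV L) := by
  constructor
  · intro h
    rw [Subgroup.mem_centralizer_iff]
    intro v hv
    have := congrArg (fun f : MulAut ↥(VV L) => ((f ⟨v, hv⟩ : ↥(VV L)) : G)) h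
    simp only [MulAut.one_apply] at this
    rw [phi_apply] at this
    calc v * (l : G) = ((l : G) * v * (l : G)⁻¹) * l := by rw [this]
      _ = l * v := by group
  · intro h
    ext v
    rw [phi_apply, MulAut.one_apply]
    have := Subgroup.mem_centralizer_iff.mp h v v.2
    rw [← this]; group

theorem pi_surj (L : Subgroup G) (x : XL L) : ∃ l : ↥L, pi L l = x := QuotientGroup.mk'_surjective _ x

theorem pi_eq_one_iff (L : Subgroup G) (l : ↥L) : pi L l = 1 ↔ (l : G) ∈ pCoreOf 2 L := by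
  rw [← MonoidHom.mem_ker, QuotientGroup.ker_mk']
  constructor
  · intro h; exact ⟨l, h, rfl⟩
  · rintro ⟨m, hm, hml⟩
    have : m = l := Subtype.ext hml
    rwa [← this]

/-- the local situation -/
structure LS (T L : Subgroup G) : Prop where
  syl : IsSylowIn 2 T L
  cen : Cz (pCoreOf 2 L) ≤ pCoreOf 2 L
  sol : Group.IsSolvable ↥L
  zz : L ⊓ Cz (omegaCenterOf T) ≤ Nz T

variable {T L : Subgroup G}

theorem LS.Q_le (h : LS T L) : pCoreOf 2 L ≤ T := pCoreOf_le_sylow h.syl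

theorem LS.oc_le_Q (h : LS T L) : omegaCenterOf T ≤ pCoreOf 2 L := by
  refine le_trans ?_ h.cen
  exact (oc_le_Cz T).trans (Cz_anti h.Q_le)

theorem LS.oc_le_VV (h : LS T L) : omegaCenterOf T ≤ VV L := by
  intro x hx
  have h1 := mem_oc.mp hx
  exact mem_oc.mpr ⟨h.oc_le_Q hx, Cz_anti h.Q_le h1.2.1, h1.2.2⟩

theorem LS.C_le (h : LS T L) : L ⊓ Cz (VV L) ≤ Nz T :=
  (inf_le_inf le_rfl (Cz_anti h.oc_le_VV)).trans h.zz

theorem le_Nz_C (L : Subgroup G) : L ≤ Nz (L ⊓ Cz (VV L)) :=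
  (le_inf (Subgroup.le_normalizer) ((le_Nz_VV L).trans (Nz_le_Nz_Cz _))).trans (Nz_inf_le _ _)

theorem LS.T_inf_C [Finite G] (h : LS T L) : T ⊓ Cz (VV L) ≤ pCoreOf 2 L := by
  have : Fact (Nat.Prime 2) := ⟨Nat.prime_two⟩
  have h1 : T ⊓ Cz (VV L) = T ⊓ (L ⊓ Cz (VV L)) := by
    rw [← inf_assoc, inf_eq_left.mpr h.syl.le]
  rw [h1]
  set C := L ⊓ Cz (VV L) with hC
  have h2 : C ≤ Nz (T ⊓ C) := (le_inf h.C_le Subgroup.le_normalizer).trans (Nz_inf_le _ _)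
  have h3 : T ⊓ C ≤ pCoreOf 2 C := le_pCoreOf inf_le_right h2 h.syl.isPGroup.to_inf_left
  exact h3.trans (pCoreOf_mono_normal inf_le_left (le_Nz_C L))

theorem LS.comm_C [Finite G] (h : LS T L) {c τ : G} (hc : c ∈ L ⊓ Cz (VV L)) (hτ : τ ∈ T) :
    c * τ * c⁻¹ * τ⁻¹ ∈ pCoreOf 2 L := by
  apply h.T_inf_C
  have h1 : c * τ * c⁻¹ ∈ T := (Subgroup.mem_normalizer_iff.mp (h.C_le hc) τ).mp hτ
  refine ⟨T.mul_mem h1 (T.inv_mem hτ), ?_⟩
  have h2 : τ * c⁻¹ * τ⁻¹ ∈ L ⊓ Cz (VV L) :=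
    (Subgroup.mem_normalizer_iff.mp (le_Nz_C L (h.syl.le hτ)) _).mp (Subgroup.inv_mem _ hc)
  have h3 : c * τ * c⁻¹ * τ⁻¹ = c * (τ * c⁻¹ * τ⁻¹) := by group
  rw [h3]
  exact (Subgroup.mul_mem _ hc h2).2

/-- image of a subgroup of `L` -/
def im (L H : Subgroup G) : Subgroup (XL L) := (H.subgroupOf L).map (pi L)

theorem mem_im {H : Subgroup G} {x : XL L} : x ∈ im L H ↔ ∃ l : ↥L, (l : G) ∈ H ∧ pi L l = x := by
  constructor
  · rintro ⟨l, hl, rfl⟩; exact ⟨l, hl, rfl⟩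
  · rintro ⟨l, hl, rfl⟩; exact ⟨l, hl, rfl⟩

theorem LS.im_syl [Finite G] (h : LS T L) : IsSylowIn 2 (im L T) ⊤ := by
  have : Fact (Nat.Prime 2) := ⟨Nat.prime_two⟩
  have h1 : IsSylowIn 2 (T.subgroupOf L) ⊤ := by
    have := isSylowIn_coe h.syl.toSylow
    rwa [h.syl.coe_toSylow] at this
  have h2 := h1.map_hom (pi L)
  have h3 : (⊤ : Subgroup ↥L).map (pi L) = ⊤ := Subgroup.map_top_of_surjective _ (QuotientGroup.mk'_surjective _)
  rwa [h3] at h2

theorem isPGroup_zpowers_of_sq {H : Type*} [Group H] {x : H} (h : x * x = 1) : IsPGroup 2 ↥(Subgroup.zpowers x) := by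
  rintro ⟨y, k, rfl⟩
  refine ⟨1, ?_⟩
  apply Subtype.ext
  have h1 : (x ^ k) ^ 2 = 1 := by
    rw [← zpow_natCast, ← zpow_mul, mul_comm, zpow_mul, zpow_natCast, pow_two, h, one_zpow]
  simpa using h1

theorem LS.hyp [Finite G] (h : LS T L) : Hyp (phi L) (pPrimeCore 2 (XL L)) := by
  have h2 : Fact (Nat.Prime 2) := ⟨Nat.prime_two⟩
  have hconj : ∀ s : XL L, s * s = 1 → ∃ g : XL L, ∃ l : ↥L, (l : G) ∈ T ∧ g * s * g⁻¹ = pi L l := by
    intro s hs
    obtain ⟨g, -, hg⟩ := h.im_syl.exists_conj_le (isPGroup_zpowers_of_sq hs) le_top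
    have h3 : g * s * g⁻¹ ∈ im L T := hg (conj_mem_cj (Subgroup.mem_zpowers s))
    obtain ⟨l, hl, hl2⟩ := mem_im.mp h3
    exact ⟨g, l, hl, hl2.symm⟩
  refine ⟨?_, ?_, ?_, ?_, ?_, ?_⟩
  · intro w
    apply Subtype.ext
    have := (VV_EA L).2 w w.2
    rw [pow_two] at this
    exact this
  · intro x hx
    have h3 := pPrimeCore_not_dvd (p := 2) (G := XL L)
    have h4 : orderOf x ∣ Nat.card ↥(pPrimeCore 2 (XL L)) := by
      rw [← Subgroup.orderOf_mk x hx]; exact orderOf_dvd_natCard _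
    rw [← Nat.not_even_iff_odd]
    intro h5
    exact h3 ((even_iff_two_dvd.mp h5).trans h4)
  · intro x f hf
    exact (pPrimeCore_normal 2 (XL L)).conj_mem f hf x
  · intro x hx
    have hsol : Group.IsSolvable ↥L := h.sol
    have h3 : Group.IsSolvable (XL L) := inferInstance
    have h4 : pCore 2 (XL L) = ⊥ := H22.Inv.pCore_quot 2
    apply H22.Inv.centralizer_pPrimeCore_le h4
    rw [Subgroup.mem_centralizer_iff]
    intro f hf
    exact (hx f hf).symm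
  · intro x hx s hs
    obtain ⟨g, l, hl, hl2⟩ := hconj s hs
    obtain ⟨m, hm⟩ := pi_surj L (g * x * g⁻¹)
    have h3 : phi L (pi L m) = 1 := by
      rw [hm, map_mul, map_mul, hx, map_inv]; group
    have h4 : (m : G) ∈ L ⊓ Cz (VV L) := ⟨m.2, (phi_eq_one_iff L m).mp h3⟩
    have h5 := h.comm_C h4 hl
    have h6 : pi L (m * l * m⁻¹ * l⁻¹) = 1 := (pi_eq_one_iff L _).mpr (by simpa using h5)
    rw [map_mul, map_mul, map_mul, map_inv, map_inv, hm, ← hl2] at h6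
    have h7 : g * (x * s * x⁻¹ * s⁻¹) * g⁻¹ = 1 := by
      rw [← h6]; group
    have h8 : x * s * x⁻¹ * s⁻¹ = 1 := by
      calc x * s * x⁻¹ * s⁻¹ = g⁻¹ * (g * (x * s * x⁻¹ * s⁻¹) * g⁻¹) * g := by group
        _ = 1 := by rw [h7]; group
    calc x * s = (x * s * x⁻¹ * s⁻¹) * s * x := by group
      _ = s * x := by rw [h8, one_mul]
  · intro x hx hs
    obtain ⟨g, l, hl, hl2⟩ := hconj x hs
    have h3 : phi L (pi L l) = 1 := by
      rw [← hl2, map_mul, map_mul, hx, map_inv]; group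
    have h4 : (l : G) ∈ T ⊓ Cz (VV L) := ⟨hl, (phi_eq_one_iff L l).mp h3⟩
    have h5 : pi L l = 1 := (pi_eq_one_iff L l).mpr (h.T_inf_C h4)
    rw [h5] at hl2
    calc x = g⁻¹ * (g * x * g⁻¹) * g := by group
      _ = 1 := by rw [hl2]; group

end Cfsg.Agent.H17.Ks
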