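import Cfsg.Agent.H17_KsD
import Cfsg.Agent.H17_YSN
import Cfsg.Agent.H1_Partition

/-! Hyperplanes of elementary abelian 2-groups acting on groups of odd order -/

set_option autoImplicit false
set_option linter.unusedSectionVars false

namespace Cfsg.Agent.H17.Ks

open Cfsg Cfsg.Agent.H17.Base
open Cfsg.Agent.H12.ZJ (MaxEA EA)

section gen

variable {X : Type*} [Group X] [Finite X]

theorem EA.le {A B : Subgroup X} (h : EA 2 A) (hB : B ≤ A) : EA 2 B :=
  ⟨fun a ha b hb => h.1 a (hB ha) b (hB hb), fun a ha => h.2 a (hB ha)⟩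

theorem EA.le_Cz {A B : Subgroup X} (h : EA 2 A) (hB : B ≤ A) : A ≤ Cz B := by
  intro a ha
  rw [Subgroup.mem_centralizer_iff]
  exact fun b hb => h.1 b (hB hb) a ha

theorem EA.isPGroup {A : Subgroup X} (h : EA 2 A) : IsPGroup 2 ↥A := by
  intro a
  refine ⟨1, Subtype.ext ?_⟩
  simpa using h.2 a a.2

/-- a complement to an element -/
theorem exists_compl {A : Subgroup X} (h : EA 2 A) {a : X} (ha : a ∈ A) (ha1 : a ≠ 1) :
    ∃ M ≤ A, a ∉ M ∧ M ⊔ Subgroup.zpowers a = A := by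
  classical
  have hfin : {M : Subgroup X | M ≤ A ∧ a ∉ M}.Finite := Set.toFinite _
  obtain ⟨M, hM, hmax⟩ := Set.Finite.exists_maximalFor (fun A : Subgroup X => Nat.card A) _ hfin
    ⟨⊥, bot_le, by rw [Subgroup.mem_bot]; exact ha1⟩
  refine ⟨M, hM.1, hM.2, le_antisymm (sup_le hM.1 (by rwa [Subgroup.zpowers_le])) ?_⟩
  intro b hb
  by_cases hbM : b ∈ M
  · exact Subgroup.mem_sup_left hbM
  have h1 : M < M ⊔ Subgroup.zpowers b := by
    refine lt_of_le_of_ne le_sup_left ?_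
    intro h2
    exact hbM (h2 ▸ Subgroup.mem_sup_right (Subgroup.mem_zpowers b))
  have h2 : a ∈ M ⊔ Subgroup.zpowers b := by
    by_contra h3
    have h4 := hmax (j := M ⊔ Subgroup.zpowers b) ⟨sup_le hM.1 (by rwa [Subgroup.zpowers_le]), h3⟩
      (Subgroup.card_le_of_le h1.le)
    exact h1.ne (Subgroup.eq_of_le_of_card_ge h1.le h4)
  have h5 : Subgroup.zpowers b ≤ Nz M := by
    rw [Subgroup.zpowers_le]
    exact Cz_le_Nz _ (EA.le_Cz h hM.1 hb)
  obtain ⟨m, hm, c, hc, hmc⟩ := (mem_sup_of_le_Nz' h5).mp h2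
  obtain ⟨k, rfl⟩ := hc
  have hb2 : b ^ (2 : ℤ) = 1 := by
    rw [show (2 : ℤ) = ((2 : ℕ) : ℤ) from rfl, zpow_natCast]; exact h.2 b hb
  rcases Int.even_or_odd' k with ⟨j, hj | hj⟩
  · exfalso
    apply hM.2
    rw [hmc]
    have : (fun x : ℤ => b ^ x) k = 1 := by
      show b ^ k = 1
      rw [hj, zpow_mul, hb2, one_zpow]
    rw [this, mul_one]; exact hm
  · have h6 : (fun x : ℤ => b ^ x) k = b := by
      show b ^ k = b
      rw [hj, zpow_add, zpow_mul, hb2, one_zpow, one_mul, zpow_one]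
    rw [h6] at hmc
    have h7 : b = m⁻¹ * a := by rw [hmc]; group
    rw [h7]
    exact Subgroup.mul_mem _ (Subgroup.mem_sup_left (M.inv_mem hm))
      (Subgroup.mem_sup_right (Subgroup.mem_zpowers a))

theorem card_zpowers_two {a : X} (ha1 : a ≠ 1) (h : a ^ 2 = 1) : Nat.card ↥(Subgroup.zpowers a) = 2 := by
  have : Fact (Nat.Prime 2) := ⟨Nat.prime_two⟩
  rw [Nat.card_zpowers]
  exact orderOf_eq_prime h ha1

theorem EA.card_cyclic {A : Subgroup X} (h : EA 2 A) (hc : IsCyclic A) : Nat.card A ≤ 2 := by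
  obtain ⟨g, hg⟩ := hc.exists_generator
  have h1 : Nat.card A = orderOf g := by
    rw [← Nat.card_zpowers]
    have : Subgroup.zpowers g = ⊤ := by
      rw [eq_top_iff]; intro x _; exact hg x
    rw [this]; exact (Nat.card_congr Subgroup.topEquiv.toEquiv).symm
  rw [h1]
  apply Nat.le_of_dvd (by norm_num)
  apply orderOf_dvd_of_pow_eq_one
  exact Subtype.ext (by simpa using h.2 g g.2)

/-- generation by centralizers of hyperplanes -/
theorem gen_hyper : ∀ (n : ℕ) (A F : Subgroup X), Nat.card A = n → EA 2 A → A ≤ Nz F → Odd (Nat.card F) →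
    F ≤ ⨆ B ∈ {B : Subgroup X | B ≤ A ∧ B.relIndex A ≤ 2}, F ⊓ Cz B := by
  intro n
  induction n using Nat.strong_induction_on with
  | _ n ih =>
  intro A F hn hA hAF hF
  by_cases h2 : Nat.card A ≤ 2
  · refine le_trans ?_ (le_iSup₂ (f := fun B (_ : B ∈ {B : Subgroup X | B ≤ A ∧ B.relIndex A ≤ 2}) => F ⊓ Cz B) ⊥
      ⟨bot_le, by rw [Subgroup.relIndex_bot_left]; exact h2⟩)
    refine le_inf le_rfl ?_
    intro x _
    rw [Subgroup.mem_centralizer_iff]
    intro y hy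
    rw [SetLike.mem_coe, Subgroup.mem_bot] at hy
    rw [hy]; simp
  have hcomm : IsMulCommutative A := ⟨⟨fun a b => Subtype.ext (hA.1 a a.2 b b.2)⟩⟩
  have hnc : ¬ IsCyclic A := fun hc => h2 (EA.card_cyclic hA hc)
  have hcop : (Nat.card A).Coprime (Nat.card F) := by
    have : Fact (Nat.Prime 2) := ⟨Nat.prime_two⟩
    obtain ⟨k, hk⟩ := IsPGroup.iff_card.mp (EA.isPGroup hA)
    rw [hk]
    exact Nat.Coprime.pow_left k (Nat.coprime_two_left.mpr hF)
  have hgen := H1.Partition.generation A F hnc hAF hcop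
  conv_lhs => rw [← hgen]
  apply iSup₂_le
  rintro a ⟨ha, ha1⟩
  obtain ⟨M, hMA, haM, hMsup⟩ := exists_compl hA ha ha1
  have hzA : Subgroup.zpowers a ≤ A := by rwa [Subgroup.zpowers_le]
  have hMEA := EA.le hA hMA
  have hza2 := card_zpowers_two ha1 (hA.2 a ha)
  have hcard : ∀ B : Subgroup X, B ≤ M → Nat.card ↥(B ⊔ Subgroup.zpowers a) = 2 * Nat.card B := by
    intro B hB
    have h3 := H1.Basic.card_sup_mul_card_inf (H := B) (K := Subgroup.zpowers a)
      ((hB.trans hMA).trans ((EA.le_Cz hA hzA).trans (Cz_le_Nz _)))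
    have h4 : B ⊓ Subgroup.zpowers a = ⊥ := by
      rw [eq_bot_iff]
      rintro x ⟨hx1, hx2⟩
      by_contra hx3
      apply haM
      have h5 : Subgroup.zpowers x = Subgroup.zpowers a := by
        apply Subgroup.eq_of_le_of_card_ge
        · rw [Subgroup.zpowers_le]; exact hx2
        · rw [hza2, card_zpowers_two hx3 (hA.2 x (hMA (hB hx1)))]
      have h6 : a ∈ Subgroup.zpowers x := h5 ▸ Subgroup.mem_zpowers a
      have h7 : Subgroup.zpowers x ≤ M := by rw [Subgroup.zpowers_le]; exact hB hx1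
      exact h7 h6
    rw [h4, hza2] at h3
    simp only [Subgroup.card_bot, mul_one] at h3
    rw [h3, mul_comm]
  have hAcard : Nat.card A = 2 * Nat.card M := by
    rw [← hMsup]; exact hcard M le_rfl
  have hMlt : Nat.card M < n := by
    have := Nat.card_pos (α := M)
    omega
  set Fa := F ⊓ Subgroup.centralizer {a} with hFa
  have hMFa : M ≤ Nz Fa := by
    refine (le_inf (hMA.trans hAF) ?_).trans (Nz_inf_le _ _)
    have h3 : Subgroup.centralizer {a} = Cz (Subgroup.zpowers a) := by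
      rw [← Subgroup.centralizer_closure, Subgroup.zpowers_eq_closure]
    rw [h3]
    exact (hMA.trans ((EA.le_Cz hA hzA).trans (Cz_le_Nz _))).trans (Nz_le_Nz_Cz _)
  have hFaodd : Odd (Nat.card Fa) := by
    exact Odd.of_dvd_nat hF (Subgroup.card_dvd_of_le inf_le_left)
  refine (ih _ hMlt M Fa rfl hMEA hMFa hFaodd).trans ?_
  apply iSup₂_le
  rintro B ⟨hBM, hBi⟩
  refine le_trans ?_ (le_iSup₂ (f := fun B (_ : B ∈ {B : Subgroup X | B ≤ A ∧ B.relIndex A ≤ 2}) => F ⊓ Cz B)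
    (B ⊔ Subgroup.zpowers a) ⟨sup_le (hBM.trans hMA) hzA, ?_⟩)
  · refine le_inf (inf_le_left.trans inf_le_left) ?_
    rw [le_Cz_comm]
    apply sup_le
    · rw [le_Cz_comm]; exact inf_le_right
    · rw [Subgroup.zpowers_le, Subgroup.mem_centralizer_iff]
      intro x hx
      have := Subgroup.mem_centralizer_iff.mp hx.1.2 a rfl
      exact this.symm
  · have h3 := H1.Basic.relIndex_mul_card (sup_le (hBM.trans hMA) hzA : B ⊔ Subgroup.zpowers a ≤ A)
    have h4 := H1.Basic.relIndex_mul_card hBM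
    rw [hcard B hBM, hAcard] at h3
    have h5 := Nat.card_pos (α := B)
    have h6 : (B ⊔ Subgroup.zpowers a).relIndex A = B.relIndex M := by
      have : (B ⊔ Subgroup.zpowers a).relIndex A * (2 * Nat.card B) = B.relIndex M * (2 * Nat.card B) := by
        rw [h3, ← h4]; ring
      exact Nat.eq_of_mul_eq_mul_right (by omega) this
    rw [h6]; exact hBi

/-- two hyperplanes with large centralizers -/
theorem exists_two_hyper {A F : Subgroup X} (hA : EA 2 A) (hAF : A ≤ Nz F) (hF : Odd (Nat.card F))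
    (hfaith : A ⊓ Cz F = ⊥) (h2 : 2 < Nat.card A) :
    ∃ B₁ B₂ : Subgroup X, B₁ ≤ A ∧ B₂ ≤ A ∧ B₁.relIndex A = 2 ∧ B₂.relIndex A = 2 ∧ B₁ ⊔ B₂ = A ∧
      ¬ F ⊓ Cz B₁ ≤ Cz A ∧ ¬ F ⊓ Cz B₂ ≤ Cz A := by
  classical
  have hgen := gen_hyper _ A F rfl hA hAF hF
  have hex : ∃ B₁ ∈ {B : Subgroup X | B ≤ A ∧ B.relIndex A ≤ 2}, ¬ F ⊓ Cz B₁ ≤ Cz A := by
    by_contra hcon
    push Not at hcon
    have h3 : F ≤ Cz A := hgen.trans (iSup₂_le fun B hB => hcon B hB)
    have h4 : A = ⊥ := by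
      rw [← hfaith, eq_comm, inf_eq_left]; exact le_Cz_comm.mp h3
    rw [h4, Subgroup.card_bot] at h2
    omega
  obtain ⟨B₁, hB₁, hB₁'⟩ := hex
  have hex2 : ∃ B₂ ∈ {B : Subgroup X | B ≤ A ∧ B.relIndex A ≤ 2}, ¬ F ⊓ Cz B₂ ≤ Cz A ∧ B₂ ≠ B₁ := by
    by_contra hcon
    push Not at hcon
    have h3 : F ≤ Cz B₁ := by
      refine hgen.trans (iSup₂_le fun B hB => ?_)
      by_cases h5 : F ⊓ Cz B ≤ Cz A
      · exact h5.trans (Cz_anti hB₁.1)
      · rw [hcon B hB h5]; exact inf_le_right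
    have h4 : B₁ = ⊥ := by
      rw [eq_bot_iff, ← hfaith]
      exact le_inf hB₁.1 (le_Cz_comm.mp h3)
    have h5 := hB₁.2
    rw [h4, Subgroup.relIndex_bot_left] at h5
    omega
  obtain ⟨B₂, hB₂, hB₂', hne⟩ := hex2
  have hidx : ∀ B : Subgroup X, B ≤ A → B.relIndex A ≤ 2 → ¬ F ⊓ Cz B ≤ Cz A → B.relIndex A = 2 := by
    intro B hB hB2 hB3
    have h3 : B.relIndex A ≠ 0 := by
      intro h0
      have h00 := H1.Basic.relIndex_mul_card hB
      rw [h0, zero_mul] at h00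
      exact (Nat.card_pos (α := A)).ne h00
    have h4 : B.relIndex A ≠ 1 := by
      intro h5
      rw [Subgroup.relIndex_eq_one] at h5
      apply hB3
      exact inf_le_right.trans (Cz_anti h5)
    omega
  have h1 := hidx B₁ hB₁.1 hB₁.2 hB₁'
  have h2' := hidx B₂ hB₂.1 hB₂.2 hB₂'
  refine ⟨B₁, B₂, hB₁.1, hB₂.1, h1, h2', ?_, hB₁', hB₂'⟩
  -- the join
  have hle : B₁ ⊔ B₂ ≤ A := sup_le hB₁.1 hB₂.1
  have h3 : B₁.relIndex (B₁ ⊔ B₂) * (B₁ ⊔ B₂).relIndex A = 2 := by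
    rw [Subgroup.relIndex_mul_relIndex _ _ _ le_sup_left hle, h1]
  have h4 : B₁.relIndex (B₁ ⊔ B₂) ≠ 1 := by
    intro h5
    rw [Subgroup.relIndex_eq_one] at h5
    have h6 : B₂ ≤ B₁ := le_sup_right.trans h5
    apply hne
    have c1 := H1.Basic.relIndex_mul_card hB₁.1
    have c2 := H1.Basic.relIndex_mul_card hB₂.1
    rw [h1] at c1; rw [h2'] at c2
    exact Subgroup.eq_of_le_of_card_ge h6 (by omega)
  have h5 : (B₁ ⊔ B₂).relIndex A = 1 := by
    have : B₁.relIndex (B₁ ⊔ B₂) ∣ 2 := ⟨_, h3.symm⟩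
    rcases (Nat.dvd_prime Nat.prime_two).mp this with h6 | h6
    · exact absurd h6 h4
    · rw [h6] at h3; omega
  rw [Subgroup.relIndex_eq_one] at h5
  exact le_antisymm hle h5

end gen

end Cfsg.Agent.H17.Ks
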