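import Cfsg.Agent.H17_KsE

/-! Offenders -/

set_option autoImplicit false
set_option linter.unusedSectionVars false

namespace Cfsg.Agent.H17.Ks

open Cfsg Cfsg.Agent.H17.Base
open Cfsg.Agent.H12.ZJ (MaxEA EA)

variable {G : Type*} [Group G] [Finite G] {T L : Subgroup G}

theorem EA.sup {A B : Subgroup G} (hA : EA 2 A) (hB : EA 2 B) (hAB : A ≤ Cz B) : EA 2 (A ⊔ B) := by
  have hn : A ≤ Nz B := hAB.trans (Cz_le_Nz _)
  have hc : ∀ a ∈ A, ∀ b ∈ B, a * b = b * a := fun a ha b hb => (Subgroup.mem_centralizer_iff.mp (hAB ha) b hb).symm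
  constructor
  · intro x hx y hy
    obtain ⟨b, hb, a, ha, rfl⟩ := (mem_sup_of_le_Nz' (H := B) (K := A) hn).mp (by rwa [sup_comm] at hx)
    obtain ⟨b', hb', a', ha', rfl⟩ := (mem_sup_of_le_Nz' (H := B) (K := A) hn).mp (by rwa [sup_comm] at hy)
    calc b * a * (b' * a') = b * (a * b') * a' := by group
      _ = b * (b' * a) * a' := by rw [hc a ha b' hb']
      _ = (b * b') * (a * a') := by group
      _ = (b' * b) * (a' * a) := by rw [hB.1 b hb b' hb', hA.1 a ha a' ha']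
      _ = b' * (b * a') * a := by group
      _ = b' * (a' * b) * a := by rw [hc a' ha' b hb]
      _ = b' * a' * (b * a) := by group
  · intro x hx
    obtain ⟨b, hb, a, ha, rfl⟩ := (mem_sup_of_le_Nz' (H := B) (K := A) hn).mp (by rwa [sup_comm] at hx)
    have := (show Commute b a from (hc a ha b hb).symm).mul_pow 2
    rw [this, hA.2 a ha, hB.2 b hb, one_mul]

theorem maxmem {A : Subgroup G} (h : MaxEA 2 T A) {x : G} (hx : x ∈ T) (hx2 : x * x = 1) (hxA : x ∈ Cz A) : x ∈ A :=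
  h.mem_of hx (by rw [pow_two]; exact hx2) (fun a ha => Subgroup.mem_centralizer_iff.mp hxA a ha)

/-- the elements of `V` centralized by `A` lie in `A` -/
theorem LS.VV_inf_Cz (h : LS T L) {A : Subgroup G} (hA : MaxEA 2 T A) : VV L ⊓ Cz A ≤ A := by
  rintro v ⟨hv, hvA⟩
  refine maxmem hA (h.Q_le (VV_le L hv)) ?_ hvA
  have := (VV_EA L).2 v hv
  rwa [pow_two] at this

theorem mem_VV_sq {v : G} (hv : v ∈ VV L) : v * v = 1 := by
  have := (VV_EA L).2 v hv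
  rwa [pow_two] at this

/-- index-two offenders act as transvections -/
theorem LS.tv (h : LS T L) {A : Subgroup G} (hA : MaxEA 2 T A) (hi : (A ⊓ pCoreOf 2 L).relIndex A = 2)
    {a : G} (ha : a ∈ A) (haQ : a ∉ pCoreOf 2 L) :
    ∃ c, Tv (phi L) (pi L ⟨a, h.syl.le (hA.1 ha)⟩) c := by
  set Q := pCoreOf 2 L with hQ
  set a' : ↥L := ⟨a, h.syl.le (hA.1 ha)⟩ with ha'
  have haa : a * a = 1 := by rw [← pow_two]; exact hA.2.1.2 a ha
  -- counting
  have hA1 : A ⊓ Q ≤ Cz (VV L) := inf_le_right.trans (le_Cz_comm.mp (VV_le_Cz L))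
  have hEA : EA 2 ((A ⊓ Q) ⊔ VV L) := EA.sup (EA.le hA.2.1 inf_le_left) (VV_EA L) hA1
  have hle : (A ⊓ Q) ⊔ VV L ≤ T := sup_le (inf_le_left.trans hA.1) ((VV_le L).trans h.Q_le)
  have hc1 := hA.2.2 _ hle hEA
  have hc2 := H1.Basic.card_sup_mul_card_inf (H := A ⊓ Q) (K := VV L) (hA1.trans (Cz_le_Nz _))
  have hc3 := H1.Basic.relIndex_mul_card (inf_le_left : A ⊓ Q ≤ A)
  rw [hi] at hc3
  -- |V| ≤ 2 |C_V(a)|
  set Cw : Subgroup ↥(VV L) := (VV L ⊓ Cz A).subgroupOf (VV L) with hCw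
  have hc4 : A ⊓ Q ⊓ VV L ≤ VV L ⊓ Cz A := le_inf inf_le_right
    ((inf_le_left.trans inf_le_left).trans (EA.le_Cz hA.2.1 le_rfl))
  have hc5 := Subgroup.card_le_of_le hc4
  have hc6 := H1.Basic.relIndex_mul_card (inf_le_left : VV L ⊓ Cz A ≤ VV L)
  have hpos : 0 < Nat.card ↥(A ⊓ Q) := Nat.card_pos
  have hpos2 : 0 < Nat.card ↥(VV L ⊓ Cz A) := Nat.card_pos
  have hidx : (VV L ⊓ Cz A).relIndex (VV L) ≤ 2 := by
    have h1 : Nat.card ↥(A ⊓ Q) * Nat.card ↥(VV L) ≤ Nat.card ↥(A ⊓ Q) * (2 * Nat.card ↥(VV L ⊓ Cz A)) := by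
      calc Nat.card ↥(A ⊓ Q) * Nat.card ↥(VV L) = Nat.card ↥((A ⊓ Q) ⊔ VV L) * Nat.card ↥(A ⊓ Q ⊓ VV L) := hc2.symm
        _ ≤ Nat.card ↥A * Nat.card ↥(VV L ⊓ Cz A) := Nat.mul_le_mul hc1 hc5
        _ = _ := by rw [← hc3]; ring
    have h2 := Nat.le_of_mul_le_mul_left h1 hpos
    rw [← hc6] at h2
    exact Nat.le_of_mul_le_mul_right h2 hpos2
  have hnontriv : ∃ w : ↥(VV L), phi L (pi L a') w ≠ w := by
    by_contra hcon
    push Not at hcon
    have h1 : phi L (pi L a') = 1 := eq_one_iff.mpr hcon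
    have h2 : a ∈ T ⊓ Cz (VV L) := ⟨hA.1 ha, (phi_eq_one_iff L a').mp h1⟩
    exact haQ (h.T_inf_C h2)
  obtain ⟨w0, hw0⟩ := hnontriv
  -- elements of V ⊓ Cz A are fixed
  have hfix : ∀ w : ↥(VV L), w ∈ Cw → phi L (pi L a') w = w := by
    intro w hw
    apply Subtype.ext
    rw [phi_apply]
    have h1 : (w : G) ∈ Cz A := (Subgroup.mem_subgroupOf.mp hw).2
    have h2 := Subgroup.mem_centralizer_iff.mp h1 a ha
    change a * (w : G) * a⁻¹ = w
    rw [h2]; group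
  have hidx2 : Cw.index = 2 := by
    have h0 : Cw.index ≠ 0 := Subgroup.index_ne_zero_of_finite
    have h1 : Cw.index ≠ 1 := by
      intro h2
      rw [Subgroup.index_eq_one] at h2
      exact hw0 (hfix w0 (h2 ▸ Subgroup.mem_top _))
    have h2 : Cw.index ≤ 2 := hidx
    omega
  refine ⟨phi L (pi L a') w0 * w0⁻¹, ?_, ?_, ?_, w0, hw0⟩
  · rw [← map_mul]
    have : a' * a' = 1 := Subtype.ext haa
    rw [this, map_one]
  · intro h1
    exact hw0 (mul_inv_eq_one.mp h1)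
  · intro w
    by_cases hw : w ∈ Cw
    · left; exact hfix w hw
    · right
      have hw0' : w0 ∉ Cw := fun h1 => hw0 (hfix w0 h1)
      have h1 : w * w0⁻¹ ∈ Cw := by
        rw [Subgroup.mul_mem_iff_of_index_two hidx2]
        simp only [inv_mem_iff]
        exact ⟨fun h => absurd h hw, fun h => absurd h hw0'⟩
      have h2 := hfix _ h1
      rw [map_mul, map_inv] at h2
      have h3 : phi L (pi L a') w = w * w0⁻¹ * phi L (pi L a') w0 := by
        rw [← h2]; group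
      rw [h3, mul_assoc, mul_comm w0⁻¹]

/-- odd elements commuting with a 2-group `B` and centralizing `C_V(B)` act trivially -/
theorem LS.axb (h : LS T L) {B : Subgroup G} (hB : IsPGroup 2 ↥B) (hBL : B ≤ L) {y : ↥L}
    (hy : Odd (orderOf (pi L y))) (hyB : ∀ b : ↥L, (b : G) ∈ B → pi L y * pi L b = pi L b * pi L y)
    (hfix : ∀ v ∈ VV L ⊓ Cz B, (y : G) * v * (y : G)⁻¹ = v) : phi L (pi L y) = 1 := by
  have hp : Fact (Nat.Prime 2) := ⟨Nat.prime_two⟩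
  -- U = [V, y]
  let U : Subgroup G :=
    { carrier := {u | ∃ v ∈ VV L, u = (y : G) * v * (y : G)⁻¹ * v⁻¹}
      one_mem' := ⟨1, Subgroup.one_mem _, by group⟩
      mul_mem' := by
        rintro _ _ ⟨v, hv, rfl⟩ ⟨w, hw, rfl⟩
        refine ⟨v * w, Subgroup.mul_mem _ hv hw, ?_⟩
        have hyw : (y : G) * w * (y : G)⁻¹ ∈ VV L := (Subgroup.mem_normalizer_iff.mp (le_Nz_VV L y.2) w).mp hw
        have c1 := (VV_EA L).1 _ (Subgroup.inv_mem _ hv) _ hyw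
        have c2 := (VV_EA L).1 _ (Subgroup.inv_mem _ hv) _ (Subgroup.inv_mem _ hw)
        calc (y : G) * v * (y : G)⁻¹ * v⁻¹ * ((y : G) * w * (y : G)⁻¹ * w⁻¹)
            = (y : G) * v * (y : G)⁻¹ * (v⁻¹ * ((y : G) * w * (y : G)⁻¹)) * w⁻¹ := by group
          _ = (y : G) * v * (y : G)⁻¹ * ((y : G) * w * (y : G)⁻¹ * v⁻¹) * w⁻¹ := by rw [c1]
          _ = (y : G) * (v * w) * (y : G)⁻¹ * (v⁻¹ * w⁻¹) := by group
          _ = (y : G) * (v * w) * (y : G)⁻¹ * (v * w)⁻¹ := by rw [c2, mul_inv_rev]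
      inv_mem' := by
        rintro _ ⟨v, hv, rfl⟩
        refine ⟨v⁻¹, Subgroup.inv_mem _ hv, ?_⟩
        have hyv : (y : G) * v⁻¹ * (y : G)⁻¹ ∈ VV L :=
          (Subgroup.mem_normalizer_iff.mp (le_Nz_VV L y.2) _).mp (Subgroup.inv_mem _ hv)
        have c1 := (VV_EA L).1 _ hv _ hyv
        calc ((y : G) * v * (y : G)⁻¹ * v⁻¹)⁻¹ = v * ((y : G) * v⁻¹ * (y : G)⁻¹) := by group
          _ = ((y : G) * v⁻¹ * (y : G)⁻¹) * v := c1
          _ = (y : G) * v⁻¹ * (y : G)⁻¹ * v⁻¹⁻¹ := by group }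
  have hUV : U ≤ VV L := by
    rintro _ ⟨v, hv, rfl⟩
    exact Subgroup.mul_mem _ ((Subgroup.mem_normalizer_iff.mp (le_Nz_VV L y.2) v).mp hv) (Subgroup.inv_mem _ hv)
  have hact : ∀ b : ↥L, (b : G) ∈ B → ∀ v ∈ VV L,
      (b : G) * ((y : G) * v * (y : G)⁻¹) * (b : G)⁻¹ = (y : G) * ((b : G) * v * (b : G)⁻¹) * (y : G)⁻¹ := by
    intro b hb v hv
    have h1 := congrArg (fun x => ((phi L x ⟨v, hv⟩ : ↥(VV L)) : G)) (hyB b hb)
    simp only [phi_mul] at h1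
    rw [phi_apply, phi_apply, phi_apply, phi_apply] at h1
    exact h1.symm
  have hBU : B ≤ Nz U := by
    rw [le_Nz_iff]
    rintro b hb _ ⟨v, hv, rfl⟩
    have h1 := hact ⟨b, hBL hb⟩ hb v hv
    refine ⟨b * v * b⁻¹, (Subgroup.mem_normalizer_iff.mp (le_Nz_VV L (hBL hb)) v).mp hv, ?_⟩
    have h1' : b * ((y : G) * v * (y : G)⁻¹) * b⁻¹ = (y : G) * (b * v * b⁻¹) * (y : G)⁻¹ := h1
    calc b * ((y : G) * v * (y : G)⁻¹ * v⁻¹) * b⁻¹ = (b * ((y : G) * v * (y : G)⁻¹) * b⁻¹) * (b * v⁻¹ * b⁻¹) := by group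
      _ = (y : G) * (b * v * b⁻¹) * (y : G)⁻¹ * (b * v * b⁻¹)⁻¹ := by rw [h1']; group
  have hUp : IsPGroup 2 ↥U := (EA.isPGroup (VV_EA L)).to_le hUV
  have hU1 : U = ⊥ := by
    by_contra hne
    have h1 := inf_Cz_ne_bot hUp hB hBU hne
    obtain ⟨⟨u, hu⟩, hu1⟩ := Subgroup.ne_bot_iff_exists_ne_one.mp h1
    obtain ⟨⟨v, hv, huv⟩, huB⟩ := hu
    have h2 := hfix u ⟨hUV ⟨v, hv, huv⟩, huB⟩
    apply hu1
    apply Subtype.ext
    change u = 1
    -- iterate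
    have hiter : ∀ k : ℕ, (y : G) ^ k * v * ((y : G) ^ k)⁻¹ = u ^ k * v := by
      intro k
      induction k with
      | zero => simp
      | succ k ih =>
        have e1 : (y : G) ^ (k + 1) * v * ((y : G) ^ (k + 1))⁻¹ = (y : G) * ((y : G) ^ k * v * ((y : G) ^ k)⁻¹) * (y : G)⁻¹ := by
          rw [pow_succ']; group
        have e2 : (y : G) * u ^ k * (y : G)⁻¹ = u ^ k := by
          rw [← conj_pow, h2]
        rw [e1, ih]
        calc (y : G) * (u ^ k * v) * (y : G)⁻¹ = ((y : G) * u ^ k * (y : G)⁻¹) * ((y : G) * v * (y : G)⁻¹ * v⁻¹) * v := by group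
          _ = u ^ k * u * v := by rw [e2, ← huv]
          _ = u ^ (k + 1) * v := by rw [pow_succ]
    obtain ⟨m, hm⟩ := hy
    have h3 : pi L (y ^ orderOf (pi L y)) = 1 := by rw [map_pow, pow_orderOf_eq_one]
    have h4 := (pi_eq_one_iff L _).mp h3
    have h5 : (y : G) ^ orderOf (pi L y) * v * ((y : G) ^ orderOf (pi L y))⁻¹ = v := by
      have h6 := Subgroup.mem_centralizer_iff.mp (VV_le_Cz L hv) _ h4
      have h6' : (y : G) ^ orderOf (pi L y) * v = v * (y : G) ^ orderOf (pi L y) := by simpa using h6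
      rw [h6']; group
    rw [hiter] at h5
    have h6 : u ^ orderOf (pi L y) = 1 := by
      have : u ^ orderOf (pi L y) * v = 1 * v := by rw [one_mul]; exact h5
      exact mul_right_cancel this
    have huu : u * u = 1 := mem_VV_sq (hUV ⟨v, hv, huv⟩)
    rw [hm, pow_succ, pow_mul, pow_two, huu, one_pow, one_mul] at h6
    exact h6
  rw [eq_one_iff]
  intro w
  apply Subtype.ext
  rw [phi_apply]
  have h1 : (y : G) * w * (y : G)⁻¹ * (w : G)⁻¹ ∈ U := ⟨w, w.2, rfl⟩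
  rw [hU1, Subgroup.mem_bot] at h1
  exact mul_inv_eq_one.mp h1

end Cfsg.Agent.H17.Ks
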