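import Cfsg.Agent.H17_KsF

/-! Generation of `J(T)` by index-two offenders -/

set_option autoImplicit false
set_option linter.unusedSectionVars false

namespace Cfsg.Agent.H17.Ks

open Cfsg Cfsg.Agent.H17.Base
open Cfsg.Agent.H12.ZJ (MaxEA EA)

variable {G : Type*} [Group G] [Finite G] {T L : Subgroup G}

theorem LS.step (h : LS T L) {A B : Subgroup G} (hA : MaxEA 2 T A) (hBA : B ≤ A) (hQB : A ⊓ pCoreOf 2 L ≤ B)
    (hi : B.relIndex A = 2)
    (hx : ∃ m : ↥L, pi L m ∈ pPrimeCore 2 (XL L) ∧ (∀ b : ↥L, (b : G) ∈ B → pi L m * pi L b = pi L b * pi L m) ∧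
      ∃ a : ↥L, (a : G) ∈ A ∧ pi L m * pi L a ≠ pi L a * pi L m) :
    MaxEA 2 T (B ⊔ (VV L ⊓ Cz B)) := by
  obtain ⟨m, hmF, hmB, a, haA, hma⟩ := hx
  have hH := h.hyp
  set VB := VV L ⊓ Cz B with hVB
  have hEA : EA 2 (B ⊔ VB) := EA.sup (EA.le hA.2.1 hBA) (EA.le (VV_EA L) inf_le_left)
    (le_Cz_comm.mp inf_le_right)
  have hleT : B ⊔ VB ≤ T := sup_le (hBA.trans hA.1) (inf_le_left.trans ((VV_le L).trans h.Q_le))
  have hAV : A ⊓ VV L ≤ VB := le_inf inf_le_right (inf_le_left.trans (EA.le_Cz hA.2.1 hBA))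
  have hAVB : A ⊓ VV L ≤ B := (inf_le_inf le_rfl (VV_le L)).trans hQB
  have hinf : B ⊓ VB = A ⊓ VV L := by
    apply le_antisymm
    · exact le_inf (inf_le_left.trans hBA) (inf_le_right.trans inf_le_left)
    · exact le_inf hAVB hAV
  have hc := H1.Basic.card_sup_mul_card_inf (H := B) (K := VB)
    ((le_Cz_comm.mp inf_le_right : B ≤ Cz VB).trans (Cz_le_Nz _))
  rw [hinf] at hc
  have hc2 := H1.Basic.relIndex_mul_card hBA
  rw [hi] at hc2
  -- V_B is not inside A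
  have hne : A ⊓ VV L ≠ VB := by
    intro heq
    apply hma
    have hVBA : VB ≤ A := heq ▸ inf_le_left
    set s := pi L a with hs
    set x := pi L m with hx
    have hss : s * s = 1 := by
      rw [hs, ← map_mul]
      have : a * a = 1 := by
        apply Subtype.ext
        have := hA.2.1.2 a haA
        rw [pow_two] at this; exact this
      rw [this, map_one]
    set y : ↥L := m * a * m⁻¹ * a⁻¹ with hy
    have hpy : pi L y = x * s * x⁻¹ * s⁻¹ := by simp only [hy, map_mul, map_inv, hs, hx]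
    have hyF : pi L y ∈ pPrimeCore 2 (XL L) := by
      rw [hpy]
      have : x * s * x⁻¹ * s⁻¹ = x * (s * x⁻¹ * s⁻¹) := by group
      rw [this]
      exact Subgroup.mul_mem _ hmF (hH.norm s _ (Subgroup.inv_mem _ hmF))
    have hyB : ∀ b : ↥L, (b : G) ∈ B → pi L y * pi L b = pi L b * pi L y := by
      intro b hb
      have c1 := hmB b hb
      have c2 : s * pi L b = pi L b * s := by
        rw [hs, ← map_mul, ← map_mul]
        congr 1
        exact Subtype.ext (hA.2.1.1 _ haA _ (hBA hb))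
      have e1 : Commute x (pi L b) := c1
      have e2 : Commute s (pi L b) := c2
      rw [hpy]
      exact (((e1.mul_left e2).mul_left e1.inv_left).mul_left e2.inv_left).eq
    have hmV : ∀ v ∈ VB, (m : G)⁻¹ * v * m ∈ VB := by
      intro v hv
      have hv1 : (m : G)⁻¹ * v * m ∈ VV L := by
        have := (Subgroup.mem_normalizer_iff.mp (le_Nz_VV L (L.inv_mem m.2)) v).mp hv.1
        simpa using this
      refine Subgroup.mem_inf.mpr ⟨hv1, ?_⟩
      rw [Subgroup.mem_centralizer_iff]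
      intro b hb
      have hbL : b ∈ L := h.syl.le (hA.1 (hBA hb))
      have c1 := hmB ⟨b, hbL⟩ hb
      have h1 := congrArg (fun z => ((phi L z ⟨(m : G)⁻¹ * v * m, hv1⟩ : ↥(VV L)) : G)) c1
      simp only [phi_mul] at h1
      rw [hx] at h1
      rw [phi_apply, phi_apply, phi_apply, phi_apply] at h1
      -- m (b w b⁻¹) m⁻¹ = b (m w m⁻¹) b⁻¹ = b v b⁻¹ = v
      have h2 : b * v = v * b := Subgroup.mem_centralizer_iff.mp hv.2 b hb
      have h3 : (m : G) * (b * ((m : G)⁻¹ * v * m) * b⁻¹) * (m : G)⁻¹ = v := by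
        have e : (m : G) * (b * ((m : G)⁻¹ * v * m) * b⁻¹) * (m : G)⁻¹ =
            b * ((m : G) * ((m : G)⁻¹ * v * m) * (m : G)⁻¹) * b⁻¹ := h1
        rw [e]
        calc b * ((m : G) * ((m : G)⁻¹ * v * m) * (m : G)⁻¹) * b⁻¹ = b * v * b⁻¹ := by group
          _ = v := by rw [h2]; group
      calc b * ((m : G)⁻¹ * v * m) = (m : G)⁻¹ * ((m : G) * (b * ((m : G)⁻¹ * v * m) * b⁻¹) * (m : G)⁻¹) * m * b := by group
        _ = (m : G)⁻¹ * v * m * b := by rw [h3]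
    have hfix : ∀ v ∈ VV L ⊓ Cz B, (y : G) * v * (y : G)⁻¹ = v := by
      intro v hv
      have ha1 : ∀ w ∈ VB, (a : G) * w = w * a := fun w hw => hA.2.1.1 _ haA _ (hVBA hw)
      have e : (y : G) = (m : G) * a * (m : G)⁻¹ * (a : G)⁻¹ := rfl
      rw [e]
      have c1 : (a : G)⁻¹ * v * a = v := by
        have := ha1 v hv
        calc (a : G)⁻¹ * v * a = (a : G)⁻¹ * (v * a) := by group
          _ = (a : G)⁻¹ * (a * v) := by rw [this]
          _ = v := by group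
      have c2 := ha1 _ (hmV v hv)
      calc (m : G) * a * (m : G)⁻¹ * (a : G)⁻¹ * v * ((m : G) * a * (m : G)⁻¹ * (a : G)⁻¹)⁻¹
          = (m : G) * (a * ((m : G)⁻¹ * ((a : G)⁻¹ * v * a) * m)) * (a : G)⁻¹ * (m : G)⁻¹ := by group
        _ = (m : G) * (a * ((m : G)⁻¹ * v * m)) * (a : G)⁻¹ * (m : G)⁻¹ := by rw [c1]
        _ = (m : G) * (((m : G)⁻¹ * v * m) * a) * (a : G)⁻¹ * (m : G)⁻¹ := by rw [c2]
        _ = v := by group
    have hBp : IsPGroup 2 ↥B := EA.isPGroup (EA.le hA.2.1 hBA)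
    have hy1 := h.axb hBp ((hBA.trans hA.1).trans h.syl.le) (hH.odd _ hyF) hyB hfix
    have hcom := hH.ker1 _ hy1 s hss
    have hsinv : s⁻¹ = s := inv_of_sq hss
    have h5 : pi L y * pi L y = 1 := by
      have e1 : s * pi L y * s⁻¹ = (pi L y)⁻¹ := by
        rw [hpy]
        have : (x * s * x⁻¹ * s⁻¹)⁻¹ = s * x * s⁻¹ * x⁻¹ := by group
        rw [this, hsinv]
        calc s * (x * s * x⁻¹ * s) * s = s * x * s * x⁻¹ * (s * s) := by group
          _ = s * x * s * x⁻¹ := by rw [hss, mul_one]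
      have e2 : s * pi L y * s⁻¹ = pi L y := by rw [← hcom]; group
      rw [e2] at e1
      nth_rewrite 2 [e1]
      exact mul_inv_cancel _
    have h6 := odd_sq (hH.odd _ hyF) h5
    rw [hpy] at h6
    calc x * s = (x * s * x⁻¹ * s⁻¹) * s * x := by group
      _ = s * x := by rw [h6, one_mul]
  have hlt : 2 * Nat.card ↥(A ⊓ VV L) ≤ Nat.card ↥VB := by
    have h3 := H1.Basic.relIndex_mul_card hAV
    have h4 : (A ⊓ VV L).relIndex VB ≠ 0 := by
      intro h0; rw [h0, zero_mul] at h3; exact (Nat.card_pos (α := VB)).ne h3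
    have h5 : (A ⊓ VV L).relIndex VB ≠ 1 := by
      intro h1
      rw [Subgroup.relIndex_eq_one] at h1
      exact hne (le_antisymm hAV h1)
    rw [← h3]
    exact Nat.mul_le_mul_right _ (by omega)
  have hge : Nat.card ↥A ≤ Nat.card ↥(B ⊔ VB) := by
    have hpos : 0 < Nat.card ↥(A ⊓ VV L) := Nat.card_pos
    apply Nat.le_of_mul_le_mul_right _ hpos
    rw [hc, ← hc2]
    calc 2 * Nat.card ↥B * Nat.card ↥(A ⊓ VV L) = Nat.card ↥B * (2 * Nat.card ↥(A ⊓ VV L)) := by ring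
      _ ≤ Nat.card ↥B * Nat.card ↥VB := Nat.mul_le_mul_left _ hlt
  exact ⟨hleT, hEA, fun C hC1 hC2 => (hA.2.2 C hC1 hC2).trans hge⟩

theorem im_mono {H K : Subgroup G} (h : H ≤ K) : im L H ≤ im L K := by
  intro x hx
  obtain ⟨l, hl, hl2⟩ := mem_im.mp hx
  exact mem_im.mpr ⟨l, h hl, hl2⟩

theorem im_sup_Q {B V : Subgroup G} (hBL : B ≤ L) (hV : V ≤ pCoreOf 2 L) (hBV : B ≤ Nz V) : im L (B ⊔ V) = im L B := by
  apply le_antisymm _ (im_mono le_sup_left)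
  intro x hx
  obtain ⟨l, hl, rfl⟩ := mem_im.mp hx
  obtain ⟨v, hv, b, hb, hlb⟩ := (mem_sup_of_le_Nz' (H := V) (K := B) hBV).mp (by rwa [sup_comm] at hl)
  refine mem_im.mpr ⟨⟨b, hBL hb⟩, hb, ?_⟩
  have h1 : l = ⟨v, (pCoreOf_le L) (hV hv)⟩ * ⟨b, hBL hb⟩ := Subtype.ext hlb
  have h2 : pi L ⟨v, (pCoreOf_le L) (hV hv)⟩ = 1 := (pi_eq_one_iff L _).mpr (hV hv)
  rw [h1, map_mul, h2, one_mul]

theorem im_EA {A : Subgroup G} (hA : EA 2 A) : EA 2 (im L A) := by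
  constructor
  · intro x hx y hy
    obtain ⟨l, hl, rfl⟩ := mem_im.mp hx
    obtain ⟨m, hm, rfl⟩ := mem_im.mp hy
    rw [← map_mul, ← map_mul]
    congr 1
    exact Subtype.ext (hA.1 _ hl _ hm)
  · intro x hx
    obtain ⟨l, hl, rfl⟩ := mem_im.mp hx
    rw [← map_pow]
    have : l ^ 2 = 1 := Subtype.ext (by simpa using hA.2 _ hl)
    rw [this, map_one]

/-- preimage of a subgroup of `L/O₂(L)` -/
def pre (L : Subgroup G) (D : Subgroup (XL L)) : Subgroup G := (D.comap (pi L)).map L.subtype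

theorem mem_pre {D : Subgroup (XL L)} {g : G} : g ∈ pre L D ↔ ∃ h : g ∈ L, pi L ⟨g, h⟩ ∈ D := by
  constructor
  · rintro ⟨l, hl, rfl⟩
    exact ⟨l.2, hl⟩
  · rintro ⟨h, h2⟩
    exact ⟨⟨g, h⟩, h2, rfl⟩

theorem pre_le (D : Subgroup (XL L)) : pre L D ≤ L := Subgroup.map_subtype_le _

theorem pre_mono {D E : Subgroup (XL L)} (h : D ≤ E) : pre L D ≤ pre L E := by
  intro g hg
  obtain ⟨h1, h2⟩ := mem_pre.mp hg
  exact mem_pre.mpr ⟨h1, h h2⟩

theorem Q_le_pre (D : Subgroup (XL L)) : pCoreOf 2 L ≤ pre L D := by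
  intro g hg
  refine mem_pre.mpr ⟨pCoreOf_le L hg, ?_⟩
  rw [(pi_eq_one_iff L _).mpr hg]
  exact D.one_mem

theorem pre_relIndex (D : Subgroup (XL L)) {A : Subgroup G} (hA : A ≤ L) :
    (A ⊓ pre L D).relIndex A = D.relIndex (im L A) := by
  rw [Subgroup.inf_relIndex_left, ← Subgroup.relIndex_subgroupOf hA]
  have : (pre L D).subgroupOf L = D.comap (pi L) := by
    ext l
    rw [Subgroup.mem_subgroupOf, mem_pre]
    constructor
    · rintro ⟨h, h2⟩; exact h2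
    · intro h2; exact ⟨l.2, h2⟩
  rw [this, Subgroup.relIndex_comap]
  rfl

theorem im_pre {D : Subgroup (XL L)} {A : Subgroup G} (hD : D ≤ im L A) : im L (A ⊓ pre L D) = D := by
  apply le_antisymm
  · intro x hx
    obtain ⟨l, hl, rfl⟩ := mem_im.mp hx
    exact (mem_pre.mp hl.2).2
  · intro x hx
    obtain ⟨l, hl, rfl⟩ := mem_im.mp (hD hx)
    exact mem_im.mpr ⟨l, ⟨hl, mem_pre.mpr ⟨l.2, hx⟩⟩, rfl⟩

/-- `J(T)` is generated by the offenders of index at most two -/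
theorem LS.gen_J (h : LS T L) : ∀ (n : ℕ) (A : Subgroup G), MaxEA 2 T A → Nat.card ↥(im L A) = n →
    A ≤ ⨆ A' ∈ {A' : Subgroup G | MaxEA 2 T A' ∧ Nat.card ↥(im L A') ≤ 2}, A' := by
  intro n
  induction n using Nat.strong_induction_on with
  | _ n ih =>
  intro A hA hn
  by_cases h2 : Nat.card ↥(im L A) ≤ 2
  · exact le_iSup₂ (f := fun A' (_ : A' ∈ {A' : Subgroup G | MaxEA 2 T A' ∧ Nat.card ↥(im L A') ≤ 2}) => A') A ⟨hA, h2⟩
  have hH := h.hyp
  set F := pPrimeCore 2 (XL L) with hF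
  have hFodd : Odd (Nat.card ↥F) := by
    have : Fact (Nat.Prime 2) := ⟨Nat.prime_two⟩
    have h3 := pPrimeCore_not_dvd (p := 2) (G := XL L)
    rw [← Nat.not_even_iff_odd]
    intro h5
    exact h3 (even_iff_two_dvd.mp h5)
  have hAF : im L A ≤ Nz F := by
    have : F.Normal := pPrimeCore_normal 2 (XL L)
    exact le_Nz_of_normal F _
  have hfaith : im L A ⊓ Cz F = ⊥ := by
    rw [eq_bot_iff]
    rintro x ⟨hx1, hx2⟩
    rw [Subgroup.mem_bot]
    have h3 : x ∈ F := hH.self x fun f hf => (Subgroup.mem_centralizer_iff.mp hx2 f hf).symm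
    apply odd_sq (hH.odd x h3)
    rw [← pow_two]; exact (im_EA hA.2.1).2 x hx1
  have hAL : A ≤ L := hA.1.trans h.syl.le
  obtain ⟨B₁, B₂, hB₁, hB₂, hi₁, hi₂, hsup, hc₁, hc₂⟩ :=
    exists_two_hyper (im_EA hA.2.1) hAF hFodd hfaith (by omega)
  have key : ∀ D : Subgroup (XL L), D ≤ im L A → D.relIndex (im L A) = 2 → ¬ F ⊓ Cz D ≤ Cz (im L A) →
      A ⊓ pre L D ≤ ⨆ A' ∈ {A' : Subgroup G | MaxEA 2 T A' ∧ Nat.card ↥(im L A') ≤ 2}, A' := by
    intro D hD hDi hDc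
    set B := A ⊓ pre L D with hB
    have hBA : B ≤ A := inf_le_left
    have hi : B.relIndex A = 2 := by rw [hB, pre_relIndex D hAL, hDi]
    have hQB : A ⊓ pCoreOf 2 L ≤ B := inf_le_inf le_rfl (Q_le_pre D)
    have hx : ∃ m : ↥L, pi L m ∈ pPrimeCore 2 (XL L) ∧ (∀ b : ↥L, (b : G) ∈ B → pi L m * pi L b = pi L b * pi L m) ∧
      ∃ a : ↥L, (a : G) ∈ A ∧ pi L m * pi L a ≠ pi L a * pi L m := by
      obtain ⟨x, hx, hx2⟩ := SetLike.not_le_iff_exists.mp hDc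
      obtain ⟨m, rfl⟩ := pi_surj L x
      refine ⟨m, hx.1, ?_, ?_⟩
      · intro b hb
        have h3 : pi L b ∈ D := (mem_pre.mp hb.2).2
        exact (Subgroup.mem_centralizer_iff.mp hx.2 _ h3).symm
      · by_contra hcon
        push Not at hcon
        apply hx2
        rw [Subgroup.mem_centralizer_iff]
        intro y hy
        obtain ⟨a, ha, rfl⟩ := mem_im.mp hy
        exact (hcon a ha).symm
    have hmax := h.step hA hBA hQB hi hx
    have him : im L (B ⊔ (VV L ⊓ Cz B)) = D := by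
      rw [im_sup_Q (hBA.trans hAL) (inf_le_left.trans (VV_le L))
        ((le_Cz_comm.mp inf_le_right : B ≤ Cz (VV L ⊓ Cz B)).trans (Cz_le_Nz _))]
      exact im_pre hD
    have hlt : Nat.card ↥D < n := by
      have h3 := H1.Basic.relIndex_mul_card hD
      rw [hDi, hn] at h3
      have := Nat.card_pos (α := D)
      omega
    exact le_sup_left.trans (ih (Nat.card ↥D) hlt _ hmax (by rw [him]))
  have hk₁ := key B₁ hB₁ hi₁ hc₁
  have hk₂ := key B₂ hB₂ hi₂ hc₂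
  intro a ha
  have haL := hAL ha
  have h3 : pi L ⟨a, haL⟩ ∈ B₁ ⊔ B₂ := by
    rw [hsup]; exact mem_im.mpr ⟨⟨a, haL⟩, ha, rfl⟩
  have hn2 : B₁ ≤ Nz B₂ := hB₁.trans ((EA.le_Cz (im_EA hA.2.1) hB₂).trans (Cz_le_Nz _))
  obtain ⟨y₂, hy₂, y₁, hy₁, hyy⟩ := (mem_sup_of_le_Nz' (H := B₂) (K := B₁) hn2).mp (by rwa [sup_comm] at h3)
  obtain ⟨b₁, hb₁, hb₁'⟩ := mem_im.mp (hB₁ hy₁)
  obtain ⟨b₂, hb₂, hb₂'⟩ := mem_im.mp (hB₂ hy₂)
  have e : a = (a * ((b₂ : G) * b₁)⁻¹) * (b₂ * b₁) := by group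
  rw [e]
  refine Subgroup.mul_mem _ (hk₁ ?_) (Subgroup.mul_mem _ (hk₂ ⟨hb₂, mem_pre.mpr ⟨b₂.2, ?_⟩⟩) (hk₁ ⟨hb₁, mem_pre.mpr ⟨b₁.2, ?_⟩⟩))
  · have h4 : a * ((b₂ : G) * b₁)⁻¹ ∈ pCoreOf 2 L := by
      have h5 : pi L (⟨a, haL⟩ * (b₂ * b₁)⁻¹) = 1 := by
        rw [map_mul, map_inv, map_mul, hyy, hb₁', hb₂', mul_inv_cancel]
      exact (pi_eq_one_iff L _).mp h5
    exact ⟨A.mul_mem ha (A.inv_mem (A.mul_mem hb₂ hb₁)), Q_le_pre B₁ h4⟩
  · change pi L b₂ ∈ B₂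
    rw [hb₂']; exact hy₂
  · change pi L b₁ ∈ B₁
    rw [hb₁']; exact hy₁

end Cfsg.Agent.H17.Ks
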