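import Cfsg.Agent.H17_KsG

/-! A conjugation-invariant set of transvections -/

set_option autoImplicit false
set_option linter.unusedSectionVars false

namespace Cfsg.Agent.H17.Ks

open Cfsg Cfsg.Agent.H17.Base

variable {X W : Type*} [Group X] [CommGroup W] {φ : X →* MulAut W} {F : Subgroup X} {t s : X} {c c' : W}

/-- `⟨t^F⟩` -/
def Et (F : Subgroup X) (t : X) : Subgroup X := Subgroup.closure (cl F t)

theorem cl_sub_Et (h : s ∈ cl F t) : s ∈ Et F t := Subgroup.subset_closure h

theorem Dt_le_Et : Dt F t ≤ Et F t := by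
  rw [Dt, Subgroup.closure_le]
  rintro _ ⟨s, hs, rfl⟩
  exact Subgroup.mul_mem _ (cl_sub_Et (self_mem_cl t)) (cl_sub_Et hs)

theorem Et_cases (H : Hyp φ F) (h : Tv φ t c) {x : X} (hx : x ∈ Et F t) : x ∈ Dt F t ∨ t * x ∈ Dt F t := by
  have hinv : ∀ d ∈ Dt F t, t * d * t ∈ Dt F t := by
    intro d hd
    have h1 := Dt_invert H h hd
    rw [inv_of_sq h.1] at h1
    rw [h1]; exact Subgroup.inv_mem _ hd
  refine Subgroup.closure_induction (p := fun x _ => x ∈ Dt F t ∨ t * x ∈ Dt F t) ?_ ?_ ?_ ?_ hx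
  · intro s hs; exact Or.inr (mul_mem_Dt hs)
  · exact Or.inl (Subgroup.one_mem _)
  · rintro x y _ _ (hx | hx) (hy | hy)
    · exact Or.inl (Subgroup.mul_mem _ hx hy)
    · right
      have : t * (x * y) = (t * x * t) * (t * y) := by
        calc t * (x * y) = t * x * 1 * y := by group
          _ = t * x * (t * t) * y := by rw [h.1]
          _ = _ := by group
      rw [this]; exact Subgroup.mul_mem _ (hinv x hx) hy
    · right
      have : t * (x * y) = (t * x) * y := by group
      rw [this]; exact Subgroup.mul_mem _ hx hy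
    · left
      have : x * y = (t * (t * x) * t) * (t * y) := by
        calc x * y = 1 * x * 1 * y := by group
          _ = (t * t) * x * (t * t) * y := by rw [h.1]
          _ = _ := by group
      rw [this]; exact Subgroup.mul_mem _ (hinv _ hx) hy
  · rintro x _ (hx | hx)
    · exact Or.inl (Subgroup.inv_mem _ hx)
    · right
      have : t * x⁻¹ = t * (t * x)⁻¹ * t := by
        rw [mul_inv_rev, inv_of_sq h.1]
        calc t * x⁻¹ = t * x⁻¹ * 1 := by group
          _ = t * x⁻¹ * (t * t) := by rw [h.1]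
          _ = t * (x⁻¹ * t) * t := by group
      rw [this]; exact hinv _ (Subgroup.inv_mem _ hx)

theorem odd_pow2 {x : X} (ho : Odd (orderOf x)) {k : ℕ} (h : x ^ 2 ^ k = 1) : x = 1 := by
  have h1 : orderOf x ∣ 2 ^ k := orderOf_dvd_of_pow_eq_one h
  have h2 : (orderOf x).Coprime (2 ^ k) := Nat.Coprime.pow_right k (Nat.coprime_two_right.mpr ho)
  exact orderOf_eq_one_iff.mp (Nat.Coprime.eq_one_of_dvd h2 h1)

theorem mem_cl_of_Et (H : Hyp φ F) (h : Tv φ t c) {x : X} (hx : x ∈ Et F t) (hx1 : x ≠ 1) {k : ℕ}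
    (hk : x ^ 2 ^ k = 1) : x ∈ cl F t := by
  rcases Et_cases H h hx with h1 | h1
  · exact absurd (odd_pow2 (H.odd x (Dt_le H h.1 h1)) hk) hx1
  · obtain ⟨s, hs, hne⟩ := exists_ne H h
    have e : x = t * (t * x) := by rw [← mul_assoc, h.1, one_mul]
    rcases Dt_mem_cases H h hs hne h1 with h2 | h2 | h2
    · rw [e, h2, mul_one]; exact self_mem_cl t
    · rw [e, h2, ← mul_assoc, h.1, one_mul]; exact hs
    · rw [e, h2, ← mul_assoc]; exact third_mem H h hs

section set

variable [Finite X] {TT : Set X}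

theorem Et_norm (H : Hyp φ F) (hTT : ∀ t ∈ TT, ∃ c, Tv φ t c) (ht : t ∈ TT) :
    Subgroup.closure TT ≤ Nz (Et F t) := by
  rw [Subgroup.closure_le]
  intro r hr
  obtain ⟨c, hc⟩ := hTT t ht
  obtain ⟨c', hc'⟩ := hTT r hr
  by_cases hD : Dt F t = Dt F r
  · exact Subgroup.le_normalizer (cl_sub_Et (mem_cl_of_Dt_eq H hc hc' hD))
  · apply Cz_le_Nz
    have hcl : Subgroup.closure (cl F t) ≤ Subgroup.centralizer {r} := by
      rw [Subgroup.closure_le]
      intro s hs
      obtain ⟨c'', hc''⟩ := hc.of_cl hs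
      have hD' : Dt F s ≠ Dt F r := by rw [Dt_cl hc.1 hs]; exact hD
      rw [SetLike.mem_coe, Subgroup.mem_centralizer_singleton_iff]
      exact (Tv_comm H hc'' hc' hD').symm
    intro s hs
    have := hcl hs
    rw [Subgroup.mem_centralizer_singleton_iff] at this
    exact this

theorem exists_in_sylow (H : Hyp φ F) (hTT : ∀ t ∈ TT, ∃ c, Tv φ t c) (hconj : ∀ x t, t ∈ TT → x * t * x⁻¹ ∈ TT)
    {S : Subgroup X} (hS : IsSylowIn 2 S ⊤) (ht : t ∈ TT) : ∃ s ∈ cl F t, s ∈ S := by
  have : Fact (Nat.Prime 2) := ⟨Nat.prime_two⟩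
  obtain ⟨c, hc⟩ := hTT t ht
  have hN : (⊤ : Subgroup X) ≤ Nz (Subgroup.closure TT) := by
    rw [le_Nz_iff]
    intro x _ y hy
    refine Subgroup.closure_induction (p := fun y _ => x * y * x⁻¹ ∈ Subgroup.closure TT) ?_ ?_ ?_ ?_ hy
    · intro t ht; exact Subgroup.subset_closure (hconj x t ht)
    · simp
    · intro a b _ _ ha hb
      have : x * (a * b) * x⁻¹ = (x * a * x⁻¹) * (x * b * x⁻¹) := by group
      rw [this]; exact Subgroup.mul_mem _ ha hb
    · intro a _ ha
      have : x * a⁻¹ * x⁻¹ = (x * a * x⁻¹)⁻¹ := by group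
      rw [this]; exact Subgroup.inv_mem _ ha
  have h1 := hS.inf_normal le_top hN
  have hEN : Et F t ≤ Subgroup.closure TT := by
    rw [Et, Subgroup.closure_le]
    rintro s ⟨f, hf, rfl⟩
    exact Subgroup.subset_closure (hconj f t ht)
  have h2 := h1.inf_normal hEN (Et_norm H hTT ht)
  -- nontrivial
  obtain ⟨g, hg, hgt⟩ := h2.exists_conj_le (isPGroup_zpowers_of_sq hc.1)
    (by rw [Subgroup.zpowers_le]; exact cl_sub_Et (self_mem_cl t))
  have h3 : g * t * g⁻¹ ∈ S ⊓ Subgroup.closure TT ⊓ Et F t := hgt (conj_mem_cj (Subgroup.mem_zpowers t))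
  refine ⟨g * t * g⁻¹, ?_, h3.1.1⟩
  apply mem_cl_of_Et H hc h3.2 (k := 1)
  · intro h4
    apply hc.ne_one
    calc t = g⁻¹ * (g * t * g⁻¹) * g := by group
      _ = 1 := by rw [h4]; group
  · have : (g * t * g⁻¹) ^ 2 ^ 1 = g * (t * t) * g⁻¹ := by
      rw [pow_one, pow_two]; group
    rw [this, hc.1]; group

theorem closure_normal (hconj : ∀ x t, t ∈ TT → x * t * x⁻¹ ∈ TT) {x y : X} (hy : y ∈ Subgroup.closure TT) :
    x * y * x⁻¹ ∈ Subgroup.closure TT := by
  refine Subgroup.closure_induction (p := fun y _ => x * y * x⁻¹ ∈ Subgroup.closure TT) ?_ ?_ ?_ ?_ hy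
  · intro t ht; exact Subgroup.subset_closure (hconj x t ht)
  · simp
  · intro a b _ _ ha hb
    have : x * (a * b) * x⁻¹ = (x * a * x⁻¹) * (x * b * x⁻¹) := by group
    rw [this]; exact Subgroup.mul_mem _ ha hb
  · intro a _ ha
    have : x * a⁻¹ * x⁻¹ = (x * a * x⁻¹)⁻¹ := by group
    rw [this]; exact Subgroup.inv_mem _ ha

theorem Dt_normTT (H : Hyp φ F) (hTT : ∀ t ∈ TT, ∃ c, Tv φ t c) (ht : t ∈ TT) {n : X} (hn : n ∈ Subgroup.closure TT) :
    n ∈ Nz (Dt F t) := by
  have h1 : Subgroup.closure TT ≤ Nz (Dt F t) := by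
    rw [Subgroup.closure_le]
    intro r hr
    obtain ⟨c, hc⟩ := hTT t ht
    obtain ⟨c', hc'⟩ := hTT r hr
    rw [SetLike.mem_coe, mem_Nz_iff_cj]
    by_cases hD : Dt F t = Dt F r
    · have : cj r (Dt F t) = Dt F (r * t * r⁻¹) := Dt_conj H r t
      rw [this]
      apply Dt_cl hc.1
      exact cl_self_conj H hc.1 (mem_cl_of_Dt_eq H hc hc' hD) (self_mem_cl t)
    · have : cj r (Dt F t) = Dt F (r * t * r⁻¹) := Dt_conj H r t
      rw [this]
      have h2 := Tv_comm H hc hc' hD
      have : r * t * r⁻¹ = t := by rw [h2]; group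
      rw [this]
  exact h1 hn

/-- an odd-order element of `⟨TT⟩` lies in `F` -/
theorem mem_F_of_odd (H : Hyp φ F) (hTT : ∀ t ∈ TT, ∃ c, Tv φ t c) {x : X}
    (hx : x ∈ Subgroup.closure TT) (ho : Odd (orderOf x)) : x ∈ F := by
  -- every element has square in F, modulo F everything commutes
  have hFn : F.Normal := ⟨fun f hf x => H.norm x f hf⟩
  have hcomm : ∀ t ∈ TT, ∀ r ∈ TT, t * r * (t * r) ∈ F := by
    intro t ht r hr
    obtain ⟨c, hc⟩ := hTT t ht
    obtain ⟨c', hc'⟩ := hTT r hr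
    by_cases hD : Dt F t = Dt F r
    · have h1 := cl_mul_mem H hc.1 (mem_cl_of_Dt_eq H hc hc' hD)
      exact F.mul_mem h1 h1
    · have h2 := Tv_comm H hc hc' hD
      have : t * r * (t * r) = 1 := by
        calc t * r * (t * r) = t * (r * t) * r := by group
          _ = t * (t * r) * r := by rw [h2]
          _ = (t * t) * (r * r) := by group
          _ = 1 := by rw [hc.1, hc'.1, one_mul]
      rw [this]; exact F.one_mem
  -- quotient by F
  let q := QuotientGroup.mk' F
  have hq : ∀ y ∈ Subgroup.closure TT, q y * q y = 1 ∧ ∀ r ∈ TT, q r * q y = q y * q r := by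
    intro y hy
    refine Subgroup.closure_induction (p := fun y _ => q y * q y = 1 ∧ ∀ r ∈ TT, q r * q y = q y * q r) ?_ ?_ ?_ ?_ hy
    · intro t ht
      obtain ⟨c, hc⟩ := hTT t ht
      have htt : q t * q t = 1 := by rw [← map_mul, hc.1, map_one]
      refine ⟨htt, ?_⟩
      intro r hr
      obtain ⟨c', hc'⟩ := hTT r hr
      have hrr : q r * q r = 1 := by rw [← map_mul, hc'.1, map_one]
      have h1 : q (t * r * (t * r)) = 1 := (QuotientGroup.eq_one_iff _).mpr (hcomm t ht r hr)
      rw [map_mul, map_mul] at h1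
      calc q r * q t = (q t * q t) * (q r * q t) * (q r * q r) := by rw [htt, hrr, one_mul, mul_one]
        _ = q t * ((q t * q r) * (q t * q r)) * q r := by group
        _ = q t * q r := by rw [h1, mul_one]
    · simp
    · rintro a b ha hb ⟨ha1, ha2⟩ ⟨hb1, hb2⟩
      have hab : q a * q b = q b * q a := by
        refine Subgroup.closure_induction (p := fun a _ => q a * q b = q b * q a) ?_ ?_ ?_ ?_ ha
        · intro r hr; exact hb2 r hr
        · simp
        · intro x y _ _ hx hy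
          rw [map_mul, mul_assoc, hy, ← mul_assoc, hx, mul_assoc]
        · intro x _ hx
          rw [map_inv]
          exact (show Commute (q x) (q b) from hx).inv_left.eq
      refine ⟨?_, ?_⟩
      · rw [map_mul]
        calc q a * q b * (q a * q b) = q a * (q b * q a) * q b := by group
          _ = q a * (q a * q b) * q b := by rw [hab]
          _ = (q a * q a) * (q b * q b) := by group
          _ = 1 := by rw [ha1, hb1, one_mul]
      · intro r hr
        rw [map_mul, ← mul_assoc, ha2 r hr, mul_assoc, hb2 r hr, mul_assoc]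
    · rintro a _ ⟨ha1, ha2⟩
      refine ⟨?_, ?_⟩
      · rw [map_inv, ← mul_inv_rev, ha1, inv_one]
      · intro r hr
        rw [map_inv]
        exact (show Commute (q r) (q a) from ha2 r hr).inv_right.eq
  have h1 := (hq x hx).1
  rw [← map_mul] at h1
  have h2 : x * x ∈ F := (QuotientGroup.eq_one_iff _).mp h1
  obtain ⟨k, hk⟩ := ho
  have h3 : x * (x * x) ^ k = 1 := by
    rw [← pow_two, ← pow_mul, ← pow_succ', ← hk, pow_orderOf_eq_one]
  have h4 : x = ((x * x) ^ k)⁻¹ := eq_inv_of_mul_eq_one_left h3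
  rw [h4]
  exact F.inv_mem (F.pow_mem h2 k)

end set

end Cfsg.Agent.H17.Ks
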