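import Cfsg.Agent.H17_KsH

/-! Offenders of index two and the transvection set of `L/O₂(L)` -/

set_option autoImplicit false
set_option linter.unusedSectionVars false

namespace Cfsg.Agent.H17.Ks

open Cfsg Cfsg.Agent.H17.Base
open Cfsg.Agent.H12.ZJ (MaxEA EA JJ JJ_le)

variable {G : Type*} [Group G] [Finite G] {T L : Subgroup G}

abbrev FF (L : Subgroup G) : Subgroup (XL L) := pPrimeCore 2 (XL L)

/-- `A` is an offender of index two with image containing `s ≠ 1` -/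
def Off (T L A : Subgroup G) (s : XL L) : Prop :=
  MaxEA 2 T A ∧ Nat.card ↥(im L A) = 2 ∧ s ∈ im L A ∧ s ≠ 1

def TT (T L : Subgroup G) : Set (XL L) := {t | ∃ x : XL L, ∃ A, Off T L A (x * t * x⁻¹)}

theorem Off.mem_TT {A : Subgroup G} {s : XL L} (h : Off T L A s) : s ∈ TT T L :=
  ⟨1, A, by simpa using h⟩

theorem TT_conj (x t : XL L) (ht : t ∈ TT T L) : x * t * x⁻¹ ∈ TT T L := by
  obtain ⟨y, A, hA⟩ := ht
  refine ⟨y * x⁻¹, A, ?_⟩
  have : y * x⁻¹ * (x * t * x⁻¹) * (y * x⁻¹)⁻¹ = y * t * y⁻¹ := by group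
  rwa [this]

theorem pre_bot : pre L ⊥ = pCoreOf 2 L := by
  ext g
  rw [mem_pre]
  constructor
  · rintro ⟨h, h2⟩
    exact (pi_eq_one_iff L ⟨g, h⟩).mp (Subgroup.mem_bot.mp h2)
  · intro hg
    exact ⟨pCoreOf_le L hg, Subgroup.mem_bot.mpr ((pi_eq_one_iff L _).mpr hg)⟩

theorem card_im {A : Subgroup G} (hA : A ≤ L) : (A ⊓ pCoreOf 2 L).relIndex A = Nat.card ↥(im L A) := by
  rw [← pre_bot, pre_relIndex ⊥ hA, Subgroup.relIndex_bot_left]

theorem LS.tvA (h : LS T L) {A : Subgroup G} {t : XL L} (hA : Off T L A t) : ∃ c, Tv (phi L) t c := by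
  obtain ⟨hA, hc, ht, h1⟩ := hA
  obtain ⟨l, hl, rfl⟩ := mem_im.mp ht
  exact h.tv hA (by rw [card_im (hA.1.trans h.syl.le)]; exact hc) hl (fun hq => h1 ((pi_eq_one_iff L l).mpr hq))

theorem LS.tvTT (h : LS T L) : ∀ t ∈ TT T L, ∃ c, Tv (phi L) t c := by
  rintro t ⟨x, A, hA⟩
  obtain ⟨c, hc⟩ := h.tvA hA
  have := hc.conj x⁻¹
  have e : x⁻¹ * (x * t * x⁻¹) * x⁻¹⁻¹ = t := by group
  rw [e] at this
  exact ⟨_, this⟩

/-- members of an order two group -/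
theorem mem_card_two {H : Type*} [Group H] {S : Subgroup H} (hS : Nat.card ↥S = 2) {s x : H} (hs : s ∈ S) (h1 : s ≠ 1)
    (hx : x ∈ S) : x = 1 ∨ x = s := by
  have : Finite ↥S := Nat.finite_of_card_ne_zero (by rw [hS]; norm_num)
  by_contra hcon
  push Not at hcon
  have h3 : Nat.card ↥(({1, s, x} : Set H) : Set H) ≤ Nat.card ↥S := by
    apply Nat.card_mono (Set.toFinite _)
    intro y hy
    rcases hy with rfl | rfl | rfl
    · exact S.one_mem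
    · exact hs
    · exact hx
  have h4 : Nat.card ↥(({1, s, x} : Set H) : Set H) = 3 := by
    rw [Nat.card_coe_set_eq, Set.ncard_eq_three]
    exact ⟨1, s, x, h1.symm, hcon.1.symm, hcon.2.symm, rfl⟩
  omega

theorem maxEA_cj_of_le {A : Subgroup G} (hA : MaxEA 2 T A) {g : G} (hg : cj g A ≤ T) : MaxEA 2 T (cj g A) := by
  refine ⟨hg, ⟨?_, ?_⟩, ?_⟩
  · rintro _ ⟨a, ha, rfl⟩ _ ⟨b, hb, rfl⟩
    have := hA.2.1.1 a ha b hb
    rw [← map_mul, this, map_mul]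
  · rintro _ ⟨a, ha, rfl⟩
    rw [← map_pow, hA.2.1.2 a ha, map_one]
  · intro B hB hB2
    have := hA.2.2 B hB hB2
    rwa [card_cj]

theorem im_cj {A : Subgroup G} (l : ↥L) : im L (cj (l : G) A) = cj (pi L l) (im L A) := by
  ext x
  rw [mem_im, mem_cj, mem_im]
  constructor
  · rintro ⟨m, hm, rfl⟩
    refine ⟨l⁻¹ * m * l, by simpa using mem_cj.mp hm, by simp⟩
  · rintro ⟨m, hm, hm2⟩
    refine ⟨l * m * l⁻¹, ?_, ?_⟩
    · rw [mem_cj]
      have : (l : G)⁻¹ * (↑(l * m * l⁻¹) : G) * l = m := by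
        simp [mul_assoc]
      rw [this]; exact hm
    · rw [map_mul, map_mul, hm2, map_inv]; group

theorem LS.offen (h : LS T L) {t : XL L} (ht : t ∈ TT T L) : ∃ s ∈ cl (FF L) t, ∃ A, Off T L A s := by
  obtain ⟨s, hs, hsT⟩ := exists_in_sylow h.hyp h.tvTT TT_conj h.im_syl ht
  refine ⟨s, hs, ?_⟩
  obtain ⟨x, A, hA, hc, ht1, ht2⟩ := ht
  obtain ⟨f, hf, rfl⟩ := hs
  obtain ⟨l, hl⟩ := pi_surj L (f * x⁻¹)
  obtain ⟨a, haA, ha⟩ := mem_im.mp ht1
  have e1 : f * t * f⁻¹ = pi L (l * a * l⁻¹) := by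
    rw [map_mul, map_mul, map_inv, hl, ha]; group
  have hlaT : (l : G) * a * (l : G)⁻¹ ∈ T := by
    obtain ⟨τ, hτ, hτ2⟩ := mem_im.mp hsT
    rw [e1] at hτ2
    have h3 : pi L (l * a * l⁻¹ * τ⁻¹) = 1 := by rw [map_mul (pi L) (l * a * l⁻¹), ← hτ2, map_inv]; group
    have h4 := h.Q_le ((pi_eq_one_iff L _).mp h3)
    have h5 : (l : G) * a * (l : G)⁻¹ = (↑(l * a * l⁻¹ * τ⁻¹) : G) * τ := by
      simp [mul_assoc]
    rw [h5]; exact T.mul_mem h4 hτ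
  have hcj : cj (l : G) A ≤ T := by
    rintro _ ⟨b, hb, rfl⟩
    have hbL : b ∈ L := h.syl.le (hA.1 hb)
    have h6 : pi L ⟨b, hbL⟩ ∈ im L A := mem_im.mpr ⟨⟨b, hbL⟩, hb, rfl⟩
    rcases mem_card_two hc ht1 ht2 h6 with h7 | h7
    · have h8 := (pi_eq_one_iff L _).mp h7
      exact h.Q_le ((Subgroup.mem_normalizer_iff.mp (le_Nz_pCoreOf L l.2) _).mp h8)
    · rw [← ha] at h7
      have h8 : pi L (⟨b, hbL⟩ * a⁻¹) = 1 := by rw [map_mul, h7, map_inv]; group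
      have h9 := (pi_eq_one_iff L _).mp h8
      have h10 : (l : G) * (b * (a : G)⁻¹) * (l : G)⁻¹ ∈ T :=
        h.Q_le ((Subgroup.mem_normalizer_iff.mp (le_Nz_pCoreOf L l.2) _).mp h9)
      have h11 : (MulAut.conj (l : G)).toMonoidHom b = ((l : G) * (b * (a : G)⁻¹) * (l : G)⁻¹) * ((l : G) * a * (l : G)⁻¹) := by
        simp [mul_assoc]
      rw [h11]; exact T.mul_mem h10 hlaT
  refine ⟨cj (l : G) A, maxEA_cj_of_le hA hcj, ?_, ?_, ?_⟩
  · rw [im_cj, card_cj]; exact hc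
  · rw [e1]; exact mem_im.mpr ⟨_, conj_mem_cj haA, rfl⟩
  · intro h1
    apply ht2
    have : t = 1 := by
      calc t = f⁻¹ * (f * t * f⁻¹) * f := by group
        _ = 1 := by rw [h1]; group
    rw [this]; group

theorem LS.J_le' (h : LS T L) {D : Subgroup (XL L)} (hD : ∀ A s, Off T L A s → s ∈ D) : JJ 2 T ≤ pre L D := by
  apply sSup_le
  intro A hA
  refine (h.gen_J _ A hA rfl).trans ?_
  apply iSup₂_le
  rintro A' ⟨hA', hc⟩ a ha
  have haL : a ∈ L := h.syl.le (hA'.1 ha)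
  refine mem_pre.mpr ⟨haL, ?_⟩
  have h1 : pi L ⟨a, haL⟩ ∈ im L A' := mem_im.mpr ⟨⟨a, haL⟩, ha, rfl⟩
  by_cases h2 : pi L ⟨a, haL⟩ = 1
  · rw [h2]; exact Subgroup.one_mem _
  have h3 : Nat.card ↥(im L A') = 2 := by
    apply le_antisymm hc
    by_contra h4
    have h5 : Nat.card ↥(im L A') = 1 := by
      have : 0 < Nat.card ↥(im L A') := Nat.card_pos
      omega
    have h6 := (Subgroup.card_eq_one.mp h5)
    rw [h6] at h1
    exact h2 (Subgroup.mem_bot.mp h1)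
  exact hD A' _ ⟨hA', h3, h1, h2⟩

theorem LS.J_le (h : LS T L) : JJ 2 T ≤ pre L (Subgroup.closure (TT T L)) :=
  h.J_le' fun _ _ hA => Subgroup.subset_closure hA.mem_TT

end Cfsg.Agent.H17.Ks
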