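import Cfsg.Agent.H11_FStar
import Cfsg.Agent.H1_Coprime2

set_option autoImplicit false

/-!
Groups of characteristic `p`: `C_G(O_p(G)) ≤ O_p(G)`, equivalently `F*(G) = O_p(G)`.
-/

namespace Cfsg.Agent.H18.CharP

open Subgroup Cfsg

universe u
variable {G : Type u} [Group G] {p : ℕ}

/-- `G` has characteristic `p`. -/
def HasCharP (p : ℕ) (G : Type u) [Group G] : Prop :=
  Subgroup.centralizer (pCore p G : Set G) ≤ pCore p G

theorem isSolvable_of_pgroup [Finite G] [Fact p.Prime] {H : Subgroup G} (h : IsPGroup p ↥H) : Group.IsSolvable ↥H := by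
  haveI := h.isNilpotent
  infer_instance

/-- a group without nontrivial `p'`-elements is a `p`-group. -/
theorem isPGroup_of_no_pprime [Finite G] [Fact p.Prime] {H : Subgroup G}
    (h : ∀ x ∈ H, (orderOf x).Coprime p → x = 1) : IsPGroup p ↥H := by
  intro x
  set n := orderOf (x : G) with hn
  have hpos : n ≠ 0 := (orderOf_pos (x : G)).ne'
  have h1 : (x : G) ^ (p ^ n.factorization p) = 1 := by
    apply h _ (H.pow_mem x.2 _)
    rw [orderOf_pow' _ (pow_pos (Fact.out (p := p.Prime)).pos _).ne', ← hn]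
    rw [Nat.gcd_eq_right (Nat.ordProj_dvd n p)]
    exact (Nat.coprime_ordCompl (Fact.out (p := p.Prime)) hpos).symm
  exact ⟨_, Subtype.ext h1⟩

/-- if `a x a⁻¹ x⁻¹` is a `p`-element commuting with the `p'`-element `x`, then it is trivial. -/
theorem quad {a x : G} (hx : (orderOf x).Coprime p) (hx0 : 0 < orderOf x) (hc : ∃ k : ℕ, (a * x * a⁻¹ * x⁻¹) ^ (p ^ k) = 1)
    (hcomm : Commute (a * x * a⁻¹ * x⁻¹) x) : a * x = x * a := by
  set c := a * x * a⁻¹ * x⁻¹ with hcdef
  have h1 : c * x = a * x * a⁻¹ := by rw [hcdef]; group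
  have h2 : (c * x) ^ orderOf x = 1 := by
    rw [h1, conj_pow, pow_orderOf_eq_one]; simp
  rw [hcomm.mul_pow, pow_orderOf_eq_one, mul_one] at h2
  obtain ⟨k, hk⟩ := hc
  have h3 : orderOf c ∣ orderOf x := orderOf_dvd_of_pow_eq_one h2
  have h4 : orderOf c ∣ p ^ k := orderOf_dvd_of_pow_eq_one hk
  have h5 : orderOf c = 1 := Nat.eq_one_of_dvd_coprimes (Nat.Coprime.pow_right k hx) h3 h4
  rw [orderOf_eq_one_iff] at h5
  rw [h5, one_mul] at h1
  exact mul_inv_eq_iff_eq_mul.mp h1.symm

theorem commute_of_pgroup {R : Subgroup G} (hR : IsPGroup p ↥R) {x a : G} (hx : (orderOf x).Coprime p)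
    (hx0 : 0 < orderOf x) (hc : a * x * a⁻¹ * x⁻¹ ∈ R) (hcomm : ∀ r ∈ R, r * x = x * r) : a * x = x * a := by
  apply quad hx hx0
  · obtain ⟨k, hk⟩ := hR ⟨_, hc⟩
    exact ⟨k, congrArg Subtype.val hk⟩
  · exact hcomm _ hc

theorem eq_one_of_pgroup {R : Subgroup G} (hR : IsPGroup p ↥R) {x : G} (hx : (orderOf x).Coprime p) (h : x ∈ R) :
    x = 1 := by
  obtain ⟨k, hk⟩ := hR ⟨x, h⟩
  have h4 : orderOf x ∣ p ^ k := orderOf_dvd_of_pow_eq_one (congrArg Subtype.val hk)
  have h5 : orderOf x = 1 := Nat.eq_one_of_dvd_coprimes (Nat.Coprime.pow_right k hx) dvd_rfl h4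
  exact orderOf_eq_one_iff.mp h5

/-- the `p`-core of a subgroup, as a subgroup of `G`. -/
abbrev oP (p : ℕ) (L : Subgroup G) : Subgroup G := (pCore p ↥L).map L.subtype

theorem oP_le (L : Subgroup G) : oP p L ≤ L := Subgroup.map_subtype_le _

theorem oP_isPGroup (L : Subgroup G) : IsPGroup p ↥(oP p L) :=
  (Cfsg.Agent.H11.Cores.pCore_isPGroup (G := ↥L) p).map _

theorem le_normalizer_oP (L : Subgroup G) : normalizer (L : Set G) ≤ normalizer (oP p L : Set G) := by
  haveI : (pCore p ↥L).Characteristic := by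
    rw [Subgroup.characteristic_iff_map_eq]
    intro φ
    exact Cfsg.Agent.H11.Cores.map_equiv_pCore (G := ↥L) p φ
  exact Cfsg.Agent.H11.Cores.le_normalizer_map_subtype_of_characteristic L (pCore p ↥L)

theorem le_oP {L R : Subgroup G} (hR : IsPGroup p ↥R) (hRL : R ≤ L) (hn : L ≤ normalizer (R : Set G)) : R ≤ oP p L := by
  have h1 : (R.subgroupOf L).Normal := by
    rw [Subgroup.normal_subgroupOf_iff_le_normalizer hRL]; exact hn
  have h2 : IsPGroup p ↥(R.subgroupOf L) := hR.comap_of_injective _ (Subgroup.subtype_injective _)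
  have h3 : R.subgroupOf L ≤ pCore p ↥L := Cfsg.Agent.H11.Cores.le_pCore (G := ↥L) p h2
  intro x hx
  exact ⟨⟨x, hRL hx⟩, h3 hx, rfl⟩

/-- criterion for characteristic `p` of a subgroup. -/
theorem hasCharP_of [Finite G] [Fact p.Prime] (L : Subgroup G)
    (h : ∀ x ∈ L, (orderOf x).Coprime p → (∀ y ∈ oP p L, y * x = x * y) → x = 1) : HasCharP p ↥L := by
  have h1 : IsPGroup p ↥(Subgroup.centralizer (pCore p ↥L : Set ↥L)) := by
    apply isPGroup_of_no_pprime
    intro x hx hxc
    apply Subtype.ext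
    apply h x x.2 (by rwa [Subgroup.orderOf_coe])
    rintro _ ⟨y, hy, rfl⟩
    exact congrArg Subtype.val (Subgroup.mem_centralizer_iff.mp hx y hy)
  exact Cfsg.Agent.H11.Cores.le_pCore (G := ↥L) p h1

theorem HasCharP.elim [Finite G] [Fact p.Prime] {L : Subgroup G} (hL : HasCharP p ↥L) {x : G} (hx : x ∈ L)
    (hxc : (orderOf x).Coprime p) (h : ∀ y ∈ oP p L, y * x = x * y) : x = 1 := by
  have h1 : (⟨x, hx⟩ : ↥L) ∈ pCore p ↥L := by
    apply hL
    rw [Subgroup.mem_centralizer_iff]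
    intro y hy
    exact Subtype.ext (h y ⟨y, hy, rfl⟩)
  have h2 : x ∈ oP p L := ⟨⟨x, hx⟩, h1, rfl⟩
  exact eq_one_of_pgroup (oP_isPGroup L) hxc h2

theorem HasCharP.elim' [Finite G] [Fact p.Prime] (hL : HasCharP p G) {x : G}
    (hxc : (orderOf x).Coprime p) (h : ∀ y ∈ pCore p G, y * x = x * y) : x = 1 := by
  have h1 : x ∈ pCore p G := by
    apply hL
    rw [Subgroup.mem_centralizer_iff]
    intro y hy
    exact h y hy
  exact eq_one_of_pgroup (Cfsg.Agent.H11.Cores.pCore_isPGroup (G := G) p) hxc h1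

theorem hasCharP_of' [Finite G] [Fact p.Prime]
    (h : ∀ x : G, (orderOf x).Coprime p → (∀ y ∈ pCore p G, y * x = x * y) → x = 1) : HasCharP p G := by
  have h1 : IsPGroup p ↥(Subgroup.centralizer (pCore p G : Set G)) := by
    apply isPGroup_of_no_pprime
    intro x hx hxc
    exact h x hxc (fun y hy => Subgroup.mem_centralizer_iff.mp hx y hy)
  exact Cfsg.Agent.H11.Cores.le_pCore (G := G) p h1

/-- characteristic `p` iff `F*(G) = O_p(G)`. -/
theorem hasCharP_iff [Finite G] [Fact p.Prime] : HasCharP p G ↔ generalizedFittingSubgroup G = pCore p G := by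
  constructor
  · intro h
    have hsub : (pCore p G).IsSubnormal := (inferInstance : (pCore p G).Normal).isSubnormal
    have hE : layer G = ⊥ := by
      have h1 : ⁅layer G, pCore p G⁆ = ⊥ :=
        Cfsg.Agent.H11.Components.commutator_layer_eq_bot_of_solvable
          (isSolvable_of_pgroup (Cfsg.Agent.H11.Cores.pCore_isPGroup (G := G) p)) hsub
      have h2 : layer G ≤ pCore p G := (Subgroup.commutator_eq_bot_iff_le_centralizer.mp h1).trans h
      rw [Cfsg.Agent.H11.FStar.layer_eq_bot_iff_no_component]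
      intro K hK
      have h3 : IsPGroup p ↥K := (Cfsg.Agent.H11.Cores.pCore_isPGroup (G := G) p).to_le ((Cfsg.Agent.H11.Components.le_layer hK).trans h2)
      exact Cfsg.Agent.H11.Components.not_isSolvable_of_isComponent hK (isSolvable_of_pgroup h3)
    rw [Cfsg.Agent.H11.FStar.layer_eq_bot_iff_generalizedFitting.mp hE]
    apply le_antisymm
    · rw [Cfsg.Agent.H11.Cores.fittingSubgroup_eq_iSup_pCore]
      apply iSup_le
      intro q
      by_cases hqp : (q : ℕ) = p
      · rw [hqp]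
      · have h1 : Disjoint (pCore (q : ℕ) G) (pCore p G) := Cfsg.Agent.H11.Cores.disjoint_pCore q.2 (Fact.out) hqp
        have h2 : ⁅pCore (q : ℕ) G, pCore p G⁆ = ⊥ := by
          rw [eq_bot_iff, ← disjoint_iff.mp h1]
          exact Subgroup.commutator_le_inf _ _
        exact (Subgroup.commutator_eq_bot_iff_le_centralizer.mp h2).trans h
    · exact Cfsg.Agent.H11.Cores.pCore_le_fittingSubgroup p
  · intro h
    unfold HasCharP
    rw [← h]
    exact Cfsg.Agent.H11.FStar.centralizer_generalizedFitting_le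

end Cfsg.Agent.H18.CharP
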