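import Mathlib
import Cfsg.Prelude.Def_JComponents
import Cfsg.Agent.H13_Syl
import Cfsg.Agent.H12_ZJ2
import Cfsg.Agent.H12_ZJ5
import Cfsg.Agent.H18_CharP

/-!
# Group-level utilities for J(T)-components
-/

set_option autoImplicit false

namespace Cfsg.Agent.H18.KS

open Subgroup Pointwise
open Cfsg.Agent.H13.Syl
open Cfsg.Agent.H18.CharP

variable {G : Type*} [Group G]

/-- the Thompson subgroup for the prime 2 -/
abbrev J (T : Subgroup G) : Subgroup G := thompsonSubgroupOf 2 T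

/-- `O²(H)` -/
def oddGen (H : Subgroup G) : Subgroup G := closure {g : G | g ∈ H ∧ Odd (orderOf g)}

theorem oddGen_le (H : Subgroup G) : oddGen H ≤ H := (closure_le _).mpr fun _ h => h.1

theorem mem_oddGen {H : Subgroup G} {g : G} (h : g ∈ H) (ho : Odd (orderOf g)) : g ∈ oddGen H :=
  subset_closure ⟨h, ho⟩

theorem oddGen_mono {H K : Subgroup G} (h : H ≤ K) : oddGen H ≤ oddGen K :=
  closure_mono fun _ hg => ⟨h hg.1, hg.2⟩

theorem normalizer_le_normalizer_oddGen (H : Subgroup G) :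
    normalizer (H : Set G) ≤ normalizer (oddGen H : Set G) := by
  intro g hg
  rw [mem_normalizer_iff_cj] at hg ⊢
  apply le_antisymm
  · rw [cj, oddGen, MonoidHom.map_closure, closure_le]
    rintro _ ⟨x, ⟨hx, ho⟩, rfl⟩
    apply Subgroup.subset_closure
    refine ⟨?_, ?_⟩
    · have := conj_mem_cj (g := g) hx
      rw [hg] at this
      exact this
    · change Odd (orderOf (MulAut.conj g x))
      rw [MulEquiv.orderOf_eq]
      exact ho
  · conv_lhs => rw [oddGen]
    rw [closure_le]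
    rintro x ⟨hx, ho⟩
    rw [SetLike.mem_coe, mem_cj]
    apply Subgroup.subset_closure
    refine ⟨?_, ?_⟩
    · rw [← hg, mem_cj] at hx
      exact hx
    · have := MulEquiv.orderOf_eq (MulAut.conj g⁻¹) x
      simp only [MulAut.conj_apply, inv_inv] at this
      rw [this]; exact ho

theorem odd_mem_of_pow {K : Subgroup G} {h : G} {m : ℕ} (hm : h ^ (2 ^ m) ∈ K) (ho : Odd (orderOf h)) :
    h ∈ K := by
  have h1 : (2 ^ m).Coprime (orderOf h) := Nat.Coprime.pow_left _ (Nat.coprime_two_left.mpr ho)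
  obtain ⟨k, hk⟩ := exists_pow_eq_self_of_coprime h1
  rw [← hk]
  exact K.pow_mem hm k

theorem mul_pow_mem {K : Subgroup G} {k j : G} (hk : k ∈ K) (hj : j ∈ normalizer (K : Set G)) (n : ℕ) :
    ∃ c ∈ K, (k * j) ^ n = c * j ^ n := by
  induction n with
  | zero => exact ⟨1, K.one_mem, by simp⟩
  | succ n ih =>
    obtain ⟨c, hc, h1⟩ := ih
    refine ⟨c * (j ^ n * k * (j ^ n)⁻¹), K.mul_mem hc ?_, ?_⟩
    · exact (mem_normalizer_iff.mp ((normalizer (K : Set G)).pow_mem hj n) k).mp hk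
    · rw [pow_succ, h1, pow_succ]; group


theorem mem_sup_of_norm {U V : Subgroup G} (h : U ≤ normalizer (V : Set G)) {x : G} (hx : x ∈ V ⊔ U) :
    ∃ v ∈ V, ∃ u ∈ U, x = v * u := by
  have h1 : ((V ⊔ U : Subgroup G) : Set G) = (V : Set G) * (U : Set G) :=
    Subgroup.coe_mul_of_right_le_normalizer_left V U h
  have h2 : x ∈ ((V ⊔ U : Subgroup G) : Set G) := hx
  rw [h1] at h2
  obtain ⟨v, hv, u, hu, rfl⟩ := h2
  exact ⟨v, hv, u, hu, rfl⟩

/-- every element of `H` has a 2-power-th power in `K` -/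
def TwoOver (K H : Subgroup G) : Prop := ∀ h ∈ H, ∃ m : ℕ, h ^ (2 ^ m) ∈ K

theorem TwoOver.oddGen_le {K H : Subgroup G} (h : TwoOver K H) : oddGen H ≤ K := by
  rw [oddGen, closure_le]
  rintro x ⟨hx, ho⟩
  obtain ⟨m, hm⟩ := h x hx
  exact odd_mem_of_pow hm ho

theorem twoOver_sup {K P : Subgroup G} (hPK : P ≤ normalizer (K : Set G)) (hP : IsPGroup 2 ↥P) :
    TwoOver K (K ⊔ P) := by
  intro g hg
  obtain ⟨k, hk, p, hp, rfl⟩ := mem_sup_of_norm hPK hg
  obtain ⟨m, hm⟩ := hP ⟨p, hp⟩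
  refine ⟨m, ?_⟩
  obtain ⟨c, hc, h1⟩ := mul_pow_mem hk (hPK hp) (2 ^ m)
  rw [h1]
  have h2 : p ^ (2 ^ m) = 1 := by
    have := congrArg Subtype.val hm
    simpa using this
  rw [h2, mul_one]; exact hc

theorem twoOver_sup' {K P : Subgroup G} (hPK : P ≤ normalizer (K : Set G)) (hP : ∀ p ∈ P, ∃ m : ℕ, p ^ (2 ^ m) ∈ K) :
    TwoOver K (K ⊔ P) := by
  intro g hg
  obtain ⟨k, hk, p, hp, rfl⟩ := mem_sup_of_norm hPK hg
  obtain ⟨m, hm⟩ := hP p hp
  refine ⟨m, ?_⟩
  obtain ⟨c, hc, h1⟩ := mul_pow_mem hk (hPK hp) (2 ^ m)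
  rw [h1]
  exact K.mul_mem hc hm

theorem odd_mem_left {K P : Subgroup G} (hPK : P ≤ normalizer (K : Set G)) (hP : IsPGroup 2 ↥P) {g : G}
    (hg : g ∈ K ⊔ P) (ho : Odd (orderOf g)) : g ∈ K :=
  (twoOver_sup hPK hP).oddGen_le (mem_oddGen hg ho)

theorem oddGen_sup {K P : Subgroup G} (hPK : P ≤ normalizer (K : Set G)) (hP : IsPGroup 2 ↥P)
    (hK : oddGen K = K) : oddGen (K ⊔ P) = K := by
  apply le_antisymm
  · exact (twoOver_sup hPK hP).oddGen_le
  · conv_lhs => rw [← hK]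
    exact oddGen_mono le_sup_left

theorem commutator_le_left_of {K P : Subgroup G} (h : P ≤ normalizer (K : Set G)) : ⁅K, P⁆ ≤ K := by
  rw [commutator_le]
  intro k hk p hp
  rw [commutatorElement_def]
  have h1 : p * k⁻¹ * p⁻¹ ∈ K := (mem_normalizer_iff.mp (h hp) k⁻¹).mp (K.inv_mem hk)
  have : k * p * k⁻¹ * p⁻¹ = k * (p * k⁻¹ * p⁻¹) := by group
  rw [this]
  exact K.mul_mem hk h1

theorem le_normalizer_iff_conj {H K : Subgroup G} :
    H ≤ normalizer (K : Set G) ↔ ∀ h ∈ H, ∀ k ∈ K, h * k * h⁻¹ ∈ K := by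
  constructor
  · intro h x hx k hk
    exact (mem_normalizer_iff.mp (h hx) k).mp hk
  · intro h x hx
    rw [mem_normalizer_iff]
    intro k
    refine ⟨fun hk => h x hx k hk, fun hk => ?_⟩
    have := h x⁻¹ (H.inv_mem hx) _ hk
    have e : x⁻¹ * (x * k * x⁻¹) * x⁻¹⁻¹ = k := by group
    rwa [e] at this

theorem le_norm_of_comm {K P : Subgroup G} (h : ⁅K, P⁆ ≤ K) : P ≤ normalizer (K : Set G) := by
  rw [le_normalizer_iff_conj]
  intro p hp k hk
  have h1 : k⁻¹ * p * (k⁻¹)⁻¹ * p⁻¹ ∈ K := h (commutator_mem_commutator (K.inv_mem hk) hp)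

  have e : p * k * p⁻¹ = k * (k⁻¹ * p * (k⁻¹)⁻¹ * p⁻¹) := by group
  rw [e]
  exact K.mul_mem hk h1

theorem JC.norm {T K : Subgroup G} (h : IsJComponent T K) : J T ≤ normalizer (K : Set G) :=
  le_norm_of_comm (le_of_eq h.2.1)

theorem JC.gen {T K : Subgroup G} (h : IsJComponent T K) : oddGen K = K := h.1

theorem J_le (T : Subgroup G) : J T ≤ T := map_subtype_le _

theorem J_pgroup {T : Subgroup G} (hT : IsPGroup 2 ↥T) : IsPGroup 2 ↥(J T) := hT.to_le (J_le T)

/-- S2941, abstractly -/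
theorem norm_of {K P Q : Subgroup G} (hP : IsPGroup 2 ↥P) (hK : oddGen K = K) (hKP : ⁅K, P⁆ = K)
    (hQ1 : K ⊔ P ≤ normalizer (Q : Set G)) (hQ2 : Q ≤ normalizer (P : Set G)) : Q ≤ normalizer (K : Set G) := by
  have hPK : P ≤ normalizer (K : Set G) := le_norm_of_comm (le_of_eq hKP)
  set N : Subgroup G := ⨆ k : K, cj (k : G) P with hN
  have hPN : P ≤ N := by
    have := le_iSup (fun k : K => cj (k : G) P) 1
    simpa [cj_one] using this
  have hKN : K ≤ normalizer (N : Set G) := by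
    intro k hk
    rw [mem_normalizer_iff_cj]
    have h1 : ∀ x ∈ K, cj x N ≤ N := by
      intro x hx
      rw [hN, cj, Subgroup.map_iSup]
      apply iSup_le
      intro y
      have := le_iSup (fun k : K => cj (k : G) P) (⟨x, hx⟩ * y)
      refine le_trans (le_of_eq ?_) this
      change cj x (cj (y : G) P) = cj (x * y) P
      rw [cj_mul]
    apply le_antisymm (h1 k hk)
    have := h1 k⁻¹ (K.inv_mem hk)
    rw [cj_le_iff, inv_inv] at this
    exact this
  have hKN2 : K ≤ N := by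
    conv_lhs => rw [← hKP]
    refine (commutator_mono le_rfl hPN).trans ?_
    rw [commutator_comm]
    exact commutator_le_left_of hKN
  have hNH : N = K ⊔ P := by
    apply le_antisymm
    · apply iSup_le
      intro k
      rw [cj_le_iff_forall]
      intro a ha
      exact mul_mem (mul_mem (mem_sup_left k.2) (mem_sup_right ha)) (inv_mem (mem_sup_left k.2))
    · exact sup_le hKN2 hPN
  have hQN : Q ≤ normalizer (N : Set G) := by
    rw [le_normalizer_iff_conj]
    intro q hq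
    have h1 : cj q N ≤ N := by
      rw [hN, cj, Subgroup.map_iSup]
      apply iSup_le
      intro y
      refine le_trans (le_of_eq ?_) (le_iSup (fun k : K => cj (k : G) P) y)
      change cj q (cj (y : G) P) = cj (y : G) P
      have h2 : (y : G)⁻¹ * q * (y : G)⁻¹⁻¹ ∈ Q :=
        (mem_normalizer_iff.mp (hQ1 (mem_sup_left (inv_mem y.2))) q).mp hq
      have h3 := cj_eq_of_mem_normalizer (hQ2 h2)
      conv_rhs => rw [← h3]
      rw [← cj_mul, ← cj_mul]
      congr 1
      group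
    intro k hk
    exact cj_le_iff_forall.mp h1 k hk
  rw [hNH] at hQN
  refine hQN.trans ?_
  refine (normalizer_le_normalizer_oddGen _).trans ?_
  rw [oddGen_sup hPK hP hK]

end Cfsg.Agent.H18.KS
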