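import Cfsg.Agent.H17_KsI
import Cfsg.Agent.H18_KS0

/-! The components `K_t` attached to transvections -/

set_option autoImplicit false
set_option linter.unusedSectionVars false

namespace Cfsg.Agent.H17.Ks

open Cfsg Cfsg.Agent.H17.Base
open Cfsg.Agent.H12.ZJ (MaxEA EA JJ JJ_le)

variable {G : Type*} [Group G] [Finite G] {T L : Subgroup G}

theorem isSylowIn_of_odd {T H : Subgroup G} (hTH : T ≤ H) (hT : IsPGroup 2 ↥T) (h : Odd (T.relIndex H)) :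
    IsSylowIn 2 T H := by
  have : Fact (Nat.Prime 2) := ⟨Nat.prime_two⟩
  obtain ⟨S, hTS, hS⟩ := exists_isSylowIn_ge hT hTH
  have h1 : T.relIndex S * S.relIndex H = T.relIndex H := Subgroup.relIndex_mul_relIndex T S H hTS hS.le
  have h2 : Odd (T.relIndex S) := by
    rw [← h1, Nat.odd_mul] at h
    exact h.1
  obtain ⟨n, hn⟩ := hS.isPGroup.index (T.subgroupOf S)
  have h3 : T.relIndex S = 2 ^ n := hn
  have h4 : T.relIndex S = 1 := by
    rw [h3] at h2 ⊢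
    rcases Nat.eq_zero_or_pos n with h0 | h0
    · rw [h0, pow_zero]
    · exact absurd h2 (Nat.not_odd_iff_even.mpr (Nat.even_pow.mpr ⟨even_two, by omega⟩))
  have h5 : S ≤ T := Subgroup.relIndex_eq_one.mp h4
  have h6 : T = S := le_antisymm hTS h5
  rw [h6]; exact hS

theorem odd_of_isSylowIn {T H : Subgroup G} (h : IsSylowIn 2 T H) : Odd (T.relIndex H) := by
  have : Fact (Nat.Prime 2) := ⟨Nat.prime_two⟩
  have h1 := Sylow.not_dvd_index h.toSylow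
  rw [h.coe_toSylow] at h1
  rw [← Nat.not_even_iff_odd, even_iff_two_dvd]
  exact h1

theorem isSylowTwoIn_iff {T H : Subgroup G} : IsSylowTwoIn T H ↔ IsSylowIn 2 T H :=
  ⟨fun h => isSylowIn_of_odd h.1 h.2.1 h.2.2, fun h => ⟨h.le, h.isPGroup, odd_of_isSylowIn h⟩⟩

theorem im_pre' (D : Subgroup (XL L)) : im L (pre L D) = D := by
  ext x
  rw [mem_im]
  constructor
  · rintro ⟨l, hl, rfl⟩
    exact (mem_pre.mp hl).2
  · intro hx
    obtain ⟨l, rfl⟩ := pi_surj L x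
    exact ⟨l, mem_pre.mpr ⟨l.2, hx⟩, rfl⟩

theorem pre_card (D : Subgroup (XL L)) : (pCoreOf 2 L).relIndex (pre L D) = Nat.card ↥D := by
  have h1 := card_im (pre_le (L := L) D)
  rw [im_pre' D] at h1
  rw [← h1, inf_comm, Subgroup.inf_relIndex_right]

theorem pre_Nz {D : Subgroup (XL L)} {l : ↥L} (h : pi L l ∈ Nz D) : (l : G) ∈ Nz (pre L D) := by
  rw [mem_Nz_iff_cj] at h
  apply mem_Nz_of_cj_le
  rintro _ ⟨g, hg, rfl⟩
  obtain ⟨h1, h2⟩ := mem_pre.mp hg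
  refine mem_pre.mpr ⟨L.mul_mem (L.mul_mem l.2 h1) (L.inv_mem l.2), ?_⟩
  have : pi L l * pi L ⟨g, h1⟩ * (pi L l)⁻¹ ∈ cj (pi L l) D := conj_mem_cj h2
  rw [h] at this
  exact this

theorem im_Nz {H : Subgroup G} {l : ↥L} (h : (l : G) ∈ Nz H) : pi L l ∈ Nz (im L H) := by
  rw [mem_Nz_iff_cj, ← im_cj, cj_eq_of_mem_Nz h]

/-- the component attached to `t` -/
def Kc (L : Subgroup G) (t : XL L) : Subgroup G := resOf 2 (pre L (Dt (FF L) t))

theorem Kc_le_pre (t : XL L) : Kc L t ≤ pre L (Dt (FF L) t) := resOf_le _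
theorem Kc_le (t : XL L) : Kc L t ≤ L := (resOf_le _).trans (pre_le _)
theorem pre_le_Nz_Kc (t : XL L) : pre L (Dt (FF L) t) ≤ Nz (Kc L t) := le_Nz_resOf _
theorem Q_le_Nz_Kc (t : XL L) : pCoreOf 2 L ≤ Nz (Kc L t) := (Q_le_pre _).trans (pre_le_Nz_Kc t)

variable {t : XL L} {c : ↥(VV L)}

section
variable (h : LS T L) (ht : Tv (phi L) t c)
include h ht

theorem LS.pre_idx : (pCoreOf 2 L).relIndex (pre L (Dt (FF L) t)) = 3 := by
  rw [pre_card, card_Dt h.hyp ht]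

theorem LS.pre_syl : IsSylowIn 2 (pCoreOf 2 L) (pre L (Dt (FF L) t)) :=
  isSylowIn_of_odd (Q_le_pre _) (pCoreOf_isPGroup L) (by rw [h.pre_idx ht]; decide)

theorem LS.pCoreOf_pre : pCoreOf 2 (pre L (Dt (FF L) t)) = pCoreOf 2 L :=
  le_antisymm (pCoreOf_le_sylow (h.pre_syl ht))
    (le_pCoreOf (Q_le_pre _) ((pre_le _).trans (le_Nz_pCoreOf L)) (pCoreOf_isPGroup L))

theorem LS.Kc_sup_Q : Kc L t ⊔ pCoreOf 2 L = pre L (Dt (FF L) t) := by
  have : Fact (Nat.Prime 2) := ⟨Nat.prime_two⟩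
  exact resOf_sup_sylow (h.pre_syl ht)

theorem LS.im_Kc : im L (Kc L t) = Dt (FF L) t := by
  rw [← im_sup_Q (Kc_le t) le_rfl ((Kc_le t).trans (le_Nz_pCoreOf L)), h.Kc_sup_Q ht, im_pre']

theorem LS.pCoreOf_Kc : pCoreOf 2 (Kc L t) = Kc L t ⊓ pCoreOf 2 L := by
  rw [pCoreOf_normal_eq (Kc_le_pre t) (pre_le_Nz_Kc t), h.pCoreOf_pre ht]

theorem LS.Kc_idx : (pCoreOf 2 (Kc L t)).relIndex (Kc L t) = 3 := by
  rw [h.pCoreOf_Kc ht, card_im (Kc_le t), h.im_Kc ht, card_Dt h.hyp ht]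

omit [Finite G] h ht in
theorem Kc_res : resOf 2 (Kc L t) = Kc L t := resOf_resOf _

end

theorem LS.J_Nz (h : LS T L) (ht : t ∈ TT T L) : pre L (Subgroup.closure (TT T L)) ≤ Nz (Kc L t) := by
  intro g hg
  obtain ⟨h1, h2⟩ := mem_pre.mp hg
  apply Nz_le_Nz_resOf
  exact pre_Nz (l := ⟨g, h1⟩) (Dt_normTT h.hyp h.tvTT ht h2)

/-- `[K,J] = K` -/
theorem LS.Kc_comm (h : LS T L) (ht : t ∈ TT T L) : ⁅Kc L t, JJ 2 T⁆ = Kc L t := by
  have hp : Fact (Nat.Prime 2) := ⟨Nat.prime_two⟩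
  obtain ⟨c, hc⟩ := h.tvTT t ht
  have hJN : JJ 2 T ≤ Nz (Kc L t) := h.J_le.trans (h.J_Nz ht)
  have hle : ⁅Kc L t, JJ 2 T⁆ ≤ Kc L t := commutator_le_left_iff.mpr hJN
  apply le_antisymm hle
  set N := ⁅Kc L t, JJ 2 T⁆ with hN
  have hKN : Kc L t ≤ Nz N := by
    rw [hN]
    exact Subgroup.normalizer_commutator_ge_left _ _
  obtain ⟨s, hs, A, hA⟩ := h.offen ht
  obtain ⟨a, haA, ha⟩ := mem_im.mp hA.2.2.1
  obtain ⟨cs, hcs⟩ := hc.of_cl hs
  have hDs : Dt (FF L) s = Dt (FF L) t := Dt_cl hc.1 hs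
  -- image of N
  have h1 : im L N = Dt (FF L) t := by
    have hle2 : im L N ≤ Dt (FF L) t := by
      rw [← h.im_Kc hc]; exact im_mono hle
    have hne : im L N ≠ ⊥ := by
      obtain ⟨r, hr, hne⟩ := exists_ne h.hyp hcs
      have h3 : s * r ∈ im L (Kc L t) := by
        rw [h.im_Kc hc, ← hDs]; exact mul_mem_Dt hr
      obtain ⟨k, hk, hk2⟩ := mem_im.mp h3
      have h4 : (k : G) * a * (k : G)⁻¹ * (a : G)⁻¹ ∈ N :=
        Subgroup.commutator_mem_commutator hk (hA.1.le_JJ haA)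
      have h5 : pi L (k * a * k⁻¹ * a⁻¹) ∈ im L N := mem_im.mpr ⟨_, h4, rfl⟩
      intro hbot
      rw [hbot] at h5
      have h6 := Subgroup.mem_bot.mp h5
      rw [map_mul, map_mul, map_mul, map_inv, map_inv, ha, hk2] at h6
      have hs2 := hcs.1
      have hr2 := cl_sq hcs.1 hr
      have e1 : s * r * s * (s * r)⁻¹ * s⁻¹ = (s * r) * (s * r) := by
        rw [mul_inv_rev, inv_of_sq hs2, inv_of_sq hr2]
        calc s * r * s * (r * s) * s = s * r * s * r * (s * s) := by group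
          _ = _ := by rw [hs2, mul_one]; group
      rw [e1] at h6
      have h7 := cube h.hyp hcs hr hne
      rw [h6, one_mul] at h7
      exact Dt_gen_ne hcs hr hne h7
    have hc3 : Nat.card ↥(Dt (FF L) t) = 3 := card_Dt h.hyp hc
    have hdvd := Subgroup.card_dvd_of_le hle2
    rw [hc3] at hdvd
    rcases (Nat.dvd_prime Nat.prime_three).mp hdvd with h8 | h8
    · exact absurd (Subgroup.card_eq_one.mp h8) hne
    · exact Subgroup.eq_of_le_of_card_ge hle2 (by rw [h8, hc3])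
  -- N ⊔ O₂(K) = K
  have h2 : N ⊔ pCoreOf 2 (Kc L t) = Kc L t := by
    apply le_antisymm (sup_le hle (pCoreOf_le _))
    intro k hk
    have h3 : pi L ⟨k, Kc_le t hk⟩ ∈ im L N := by
      rw [h1, ← h.im_Kc hc]; exact mem_im.mpr ⟨⟨k, Kc_le t hk⟩, hk, rfl⟩
    obtain ⟨n, hn, hn2⟩ := mem_im.mp h3
    have h4 : (n : G)⁻¹ * k ∈ pCoreOf 2 L := by
      have : pi L (n⁻¹ * ⟨k, Kc_le t hk⟩) = 1 := by rw [map_mul, map_inv, hn2]; group
      exact (pi_eq_one_iff L _).mp this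
    have h5 : (n : G)⁻¹ * k ∈ pCoreOf 2 (Kc L t) := by
      rw [h.pCoreOf_Kc hc]
      exact ⟨(Kc L t).mul_mem ((Kc L t).inv_mem (hle hn)) hk, h4⟩
    have h6 : k = n * ((n : G)⁻¹ * k) := by group
    rw [h6]
    exact Subgroup.mul_mem_sup hn h5
  have h3 := resOf_le_of_sup hKN (pCoreOf_isPGroup (p := 2) (Kc L t)) h2
  rwa [Kc_res] at h3

end Cfsg.Agent.H17.Ks
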