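import Cfsg.Agent.H17_KsJ

/-! The four-groups attached to components; recognition of components -/

set_option autoImplicit false
set_option linter.unusedSectionVars false

namespace Cfsg.Agent.H17.Ks

open Cfsg Cfsg.Agent.H17.Base
open Cfsg.Agent.H12.ZJ (MaxEA EA JJ JJ_le)

variable {G : Type*} [Group G] [Finite G] {T L : Subgroup G}

/-- the four-group of `t` -/
def VG (L : Subgroup G) (t : XL L) : Subgroup G := (VD (phi L) (Dt (FF L) t)).map (VV L).subtype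

variable {t s : XL L} {c : ↥(VV L)}

theorem VG_le_VV (t : XL L) : VG L t ≤ VV L := Subgroup.map_subtype_le _

theorem mem_VG {g : G} : g ∈ VG L t ↔ ∃ v ∈ VD (phi L) (Dt (FF L) t), (v : G) = g := by
  constructor
  · rintro ⟨v, hv, rfl⟩; exact ⟨v, hv, rfl⟩
  · rintro ⟨v, hv, rfl⟩; exact ⟨v, hv, rfl⟩

theorem LS.card_VG (h : LS T L) (ht : Tv (phi L) t c) : Nat.card ↥(VG L t) = 4 := by
  rw [← card_VD h.hyp ht]
  exact (Nat.card_congr (Subgroup.equivMapOfInjective _ _ (VV L).subtype_injective).toEquiv).symm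

theorem LS.comm_le_VG (h : LS T L) (ht : Tv (phi L) t c) : ⁅VV L, Kc L t⁆ ≤ VG L t := by
  rw [Subgroup.commutator_comm, Subgroup.commutator_le]
  intro k hk v hv
  have h1 : pi L ⟨k, Kc_le t hk⟩ ∈ Dt (FF L) t := by
    rw [← h.im_Kc ht]; exact mem_im.mpr ⟨⟨k, Kc_le t hk⟩, hk, rfl⟩
  refine mem_VG.mpr ⟨_, mem_VD h1 ⟨v, hv⟩, ?_⟩
  rw [commutatorElement_def]; rfl

theorem LS.mem_comm (h : LS T L) (ht : Tv (phi L) t c) {W : Subgroup G} {d : XL L} (hd : d ∈ Dt (FF L) t) {v : ↥(VV L)}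
    (hv : (v : G) ∈ W) : ((phi L d v * v⁻¹ : ↥(VV L)) : G) ∈ ⁅W, Kc L t⁆ := by
  rw [← h.im_Kc ht] at hd
  obtain ⟨k, hk, rfl⟩ := mem_im.mp hd
  have h1 : (k : G) * (v : G) * (k : G)⁻¹ * (v : G)⁻¹ ∈ ⁅W, Kc L t⁆ := by
    rw [Subgroup.commutator_comm]; exact Subgroup.commutator_mem_commutator hk hv
  exact h1

theorem LS.VG_le_comm (h : LS T L) (ht : Tv (phi L) t c) : VG L t ≤ ⁅VG L t, Kc L t⁆ := by
  obtain ⟨s, hs, hne⟩ := exists_ne h.hyp ht
  obtain ⟨c', hc'⟩ := ht.of_cl hs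
  have hV := VD_eq h.hyp ht hs hne hc'
  obtain ⟨e1, e2, e3, e4⟩ := act_gen h.hyp ht hs hne hc'
  have hcV : (c : G) ∈ VG L t := mem_VG.mpr ⟨c, by rw [hV]; exact Or.inr (Or.inl rfl), rfl⟩
  have hcV' : (c' : G) ∈ VG L t := mem_VG.mpr ⟨c', by rw [hV]; exact Or.inr (Or.inr (Or.inl rfl)), rfl⟩
  have m1 : (c : G) ∈ ⁅VG L t, Kc L t⁆ := by
    have := h.mem_comm ht (mul_mem_Dt hs) hcV'
    rw [e2] at this
    have e : c' * c * c'⁻¹ = c := by rw [mul_comm c' c]; group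
    rwa [e] at this
  have m2 : ((c' * c⁻¹ : ↥(VV L)) : G) ∈ ⁅VG L t, Kc L t⁆ := by
    have := h.mem_comm ht (mul_mem_Dt hs) hcV
    rwa [e1] at this
  have m3 : (c' : G) ∈ ⁅VG L t, Kc L t⁆ := by
    have := Subgroup.mul_mem _ m2 m1
    have e : (((c' * c⁻¹ : ↥(VV L)) : G)) * c = c' := by simp
    rwa [e] at this
  intro g hg
  obtain ⟨v, hv, rfl⟩ := mem_VG.mp hg
  rw [hV] at hv
  rcases hv with rfl | rfl | rfl | rfl
  · exact Subgroup.one_mem _
  · exact m1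
  · exact m3
  · exact Subgroup.mul_mem _ m1 m3

theorem LS.VG_eq (h : LS T L) (ht : Tv (phi L) t c) : VG L t = ⁅VV L, Kc L t⁆ :=
  le_antisymm ((h.VG_le_comm ht).trans (Subgroup.commutator_mono (VG_le_VV t) le_rfl)) (h.comm_le_VG ht)

theorem LS.VG_le_Kc (h : LS T L) (ht : Tv (phi L) t c) : VG L t ≤ Kc L t := by
  rw [h.VG_eq ht, commutator_le_right_iff]
  exact (VV_le L).trans (Q_le_Nz_Kc t)

theorem LS.inf_le_oc (h : LS T L) (ht : Tv (phi L) t c) : Kc L t ⊓ VV L ≤ omegaCenterOf (pCoreOf 2 (Kc L t)) := by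
  rintro v ⟨hv1, hv2⟩
  have h1 := h.pCoreOf_Kc ht
  refine mem_oc.mpr ⟨?_, ?_, mem_VV_sq hv2⟩
  · rw [h1]; exact ⟨hv1, VV_le L hv2⟩
  · rw [h1]; exact Cz_anti inf_le_right (VV_le_Cz L hv2)

theorem LS.VG_le_wOf (h : LS T L) (ht : Tv (phi L) t c) : VG L t ≤ wOf (Kc L t) := by
  refine (h.VG_le_comm ht).trans ?_
  exact Subgroup.commutator_mono ((le_inf (h.VG_le_Kc ht) (VG_le_VV t)).trans (h.inf_le_oc ht)) le_rfl

theorem LS.wOf_eq (h : LS T L) (ht : Tv (phi L) t c) (h4 : Nat.card ↥(wOf (Kc L t)) = 4) : wOf (Kc L t) = VG L t :=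
  (Subgroup.eq_of_le_of_card_ge (h.VG_le_wOf ht) (by rw [h4, h.card_VG ht])).symm

theorem cj_pre (D : Subgroup (XL L)) (l : ↥L) : cj (l : G) (pre L D) = pre L (cj (pi L l) D) := by
  ext g
  rw [mem_cj, mem_pre, mem_pre]
  constructor
  · rintro ⟨h1, h2⟩
    have h3 : g ∈ L := by
      have := L.mul_mem (L.mul_mem l.2 h1) (L.inv_mem l.2)
      have e : (l : G) * ((l : G)⁻¹ * g * l) * (l : G)⁻¹ = g := by group
      rwa [e] at this
    refine ⟨h3, ?_⟩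
    rw [mem_cj]
    have e : (⟨(l : G)⁻¹ * g * l, h1⟩ : ↥L) = l⁻¹ * ⟨g, h3⟩ * l := Subtype.ext rfl
    rw [e] at h2
    simpa using h2
  · rintro ⟨h1, h2⟩
    refine ⟨L.mul_mem (L.mul_mem (L.inv_mem l.2) h1) l.2, ?_⟩
    rw [mem_cj] at h2
    have e : (⟨(l : G)⁻¹ * g * l, L.mul_mem (L.mul_mem (L.inv_mem l.2) h1) l.2⟩ : ↥L) = l⁻¹ * ⟨g, h1⟩ * l := Subtype.ext rfl
    rw [e]
    simpa using h2

theorem LS.cj_Kc (h : LS T L) (t : XL L) (l : ↥L) : cj (l : G) (Kc L t) = Kc L (pi L l * t * (pi L l)⁻¹) := by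
  rw [Kc, ← resOf_cj, cj_pre]
  have : cj (pi L l) (Dt (FF L) t) = Dt (FF L) (pi L l * t * (pi L l)⁻¹) := Dt_conj h.hyp _ t
  rw [this, Kc]

theorem LS.cj_VG (h : LS T L) (ht : Tv (phi L) t c) (l : ↥L) : cj (l : G) (VG L t) = VG L (pi L l * t * (pi L l)⁻¹) := by
  rw [h.VG_eq ht, h.VG_eq (ht.conj (pi L l)), cj_commutator, cj_eq_of_mem_Nz (le_Nz_VV L l.2), h.cj_Kc]

/-- distinct components normalize each other's preimage; indeed `pre F` normalizes each component -/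
theorem LS.preF_Nz (h : LS T L) (ht : t * t = 1) : pre L (FF L) ≤ Nz (Kc L t) := by
  intro g hg
  obtain ⟨h1, h2⟩ := mem_pre.mp hg
  apply Nz_le_Nz_resOf
  refine pre_Nz (l := ⟨g, h1⟩) ?_
  rw [mem_Nz_iff_cj]
  exact Dt_norm h.hyp ht h2

theorem LS.Kc_le_preF (h : LS T L) (ht : t * t = 1) : Kc L t ≤ pre L (FF L) :=
  (Kc_le_pre t).trans (pre_mono (Dt_le h.hyp ht))

theorem LS.Kc_cent (h : LS T L) {c' : ↥(VV L)} (ht : Tv (phi L) t c) (hs : Tv (phi L) s c')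
    (hD : Dt (FF L) t ≠ Dt (FF L) s) : Kc L s ≤ Cz (VG L t) := by
  intro k hk
  rw [Subgroup.mem_centralizer_iff]
  intro v hv
  obtain ⟨w, hw, rfl⟩ := mem_VG.mp hv
  have h1 : pi L ⟨k, Kc_le s hk⟩ ∈ Dt (FF L) s := by
    rw [← h.im_Kc hs]; exact mem_im.mpr ⟨⟨k, Kc_le s hk⟩, hk, rfl⟩
  have h2 := Dt_triv_VD h.hyp ht hs hD h1 hw
  have h3 := congrArg (fun z : ↥(VV L) => (z : G)) h2
  rw [phi_apply] at h3
  calc (w : G) * k = (k * w * k⁻¹) * k := by rw [h3]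
    _ = k * w := by group

theorem LS.VG_inf (h : LS T L) {c' : ↥(VV L)} (ht : Tv (phi L) t c) (hs : Tv (phi L) s c')
    (hD : Dt (FF L) t ≠ Dt (FF L) s) : VG L t ⊓ VG L s = ⊥ := by
  rw [eq_bot_iff]
  rintro g ⟨h1, h2⟩
  obtain ⟨v, hv, rfl⟩ := mem_VG.mp h1
  obtain ⟨w, hw, hwv⟩ := mem_VG.mp h2
  have : w = v := Subtype.ext hwv
  subst this
  rw [VD_inf h.hyp ht hs hD hv hw]
  exact Subgroup.one_mem _

theorem LS.Dt_eq_of_Kc (h : LS T L) {c' : ↥(VV L)} (ht : Tv (phi L) t c) (hs : Tv (phi L) s c')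
    (hK : Kc L t = Kc L s) : Dt (FF L) t = Dt (FF L) s := by
  rw [← h.im_Kc ht, ← h.im_Kc hs, hK]

theorem LS.NN_norm (h : LS T L) : L ≤ Nz (pre L (Subgroup.closure (TT T L))) := by
  intro l hl
  refine pre_Nz (l := ⟨l, hl⟩) ?_
  apply mem_Nz_of_cj_le
  rintro _ ⟨y, hy, rfl⟩
  exact closure_normal TT_conj hy

theorem card_three_cases {H : Type*} [Group H] {D : Subgroup H} (hD : Nat.card ↥D = 3) {x y : H} (hx : x ∈ D)
    (hx1 : x ≠ 1) (hy : y ∈ D) : (y = 1 ∨ y = x ∨ y = x⁻¹) ∧ x * x * x = 1 := by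
  have hfin : Finite ↥D := Nat.finite_of_card_ne_zero (by rw [hD]; norm_num)
  have h3 : x * x * x = 1 := by
    have : (⟨x, hx⟩ : ↥D) ^ Nat.card ↥D = 1 := pow_card_eq_one'
    rw [hD] at this
    have h4 := congrArg Subtype.val this
    simp only [Subgroup.coe_pow, Subgroup.coe_one] at h4
    rw [← h4, pow_succ, pow_two]
  refine ⟨?_, h3⟩
  have hxx : x ≠ x⁻¹ := by
    intro h
    apply hx1
    have h5 : x * x = 1 := by
      calc x * x = x * x⁻¹ := by rw [← h]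
        _ = 1 := by group
    rw [h5, one_mul] at h3
    exact h3
  by_contra hcon
  push Not at hcon
  have h6 : Nat.card ↥(({1, x, x⁻¹, y} : Set H) : Set H) ≤ Nat.card ↥D := by
    apply Nat.card_mono (Set.toFinite _)
    intro z hz
    rcases hz with rfl | rfl | rfl | rfl
    · exact D.one_mem
    · exact hx
    · exact D.inv_mem hx
    · exact hy
  have h7 : Nat.card ↥(({1, x, x⁻¹, y} : Set H) : Set H) = 4 := by
    classical
    rw [Nat.card_coe_set_eq, Set.ncard_eq_toFinset_card']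
    rw [Set.toFinset_insert, Set.toFinset_insert, Set.toFinset_insert, Set.toFinset_singleton]
    rw [Finset.card_insert_of_notMem, Finset.card_insert_of_notMem, Finset.card_insert_of_notMem, Finset.card_singleton]
    · simpa using hcon.2.2.symm
    · simp only [Finset.mem_insert, Finset.mem_singleton, not_or]
      exact ⟨hxx, hcon.2.1.symm⟩
    · simp only [Finset.mem_insert, Finset.mem_singleton, not_or]
      refine ⟨hx1.symm, ?_, hcon.1.symm⟩
      intro h; exact hx1 (inv_eq_one.mp h.symm)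
  omega

/-- recognition of components -/
theorem LS.recog (h : LS T L) {X : Subgroup G} (hX : X ≤ L) (h1 : resOf 2 X = X) (h2 : ⁅X, JJ 2 T⁆ = X)
    (h3 : (pCoreOf 2 X).relIndex X = 3) : ∃ s A, Off T L A s ∧ X = Kc L s := by
  have hp : Fact (Nat.Prime 2) := ⟨Nat.prime_two⟩
  have hXN : X ≤ pre L (Subgroup.closure (TT T L)) := by
    rw [← h2]
    exact (Subgroup.commutator_mono le_rfl h.J_le).trans (commutator_le_right_iff.mpr (hX.trans h.NN_norm))
  have hXF : X ≤ pre L (FF L) := by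
    rw [← h1, resOf_eq_closure, Subgroup.closure_le]
    rintro x ⟨hx, ho⟩
    obtain ⟨hxL, hx2⟩ := mem_pre.mp (hXN hx)
    refine mem_pre.mpr ⟨hxL, ?_⟩
    apply mem_F_of_odd h.hyp h.tvTT hx2
    have h4 : orderOf (pi L ⟨x, hxL⟩) ∣ orderOf x := by
      have := orderOf_map_dvd (pi L) ⟨x, hxL⟩
      rwa [Subgroup.orderOf_mk] at this
    exact Odd.of_dvd_nat (Nat.coprime_two_right.mp ho) h4
  set D := im L X with hDdef
  have hDF : D ≤ FF L := by
    intro x hx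
    obtain ⟨l, hl, rfl⟩ := mem_im.mp hx
    exact (mem_pre.mp (hXF hl)).2
  have hDodd : Odd (Nat.card ↥D) := by
    have h4 : ¬ 2 ∣ Nat.card ↥(FF L) := pPrimeCore_not_dvd (p := 2) (G := XL L)
    have h5 : Nat.card ↥D ∣ Nat.card ↥(FF L) := Subgroup.card_dvd_of_le hDF
    rw [← Nat.not_even_iff_odd]
    intro h6
    exact h4 ((even_iff_two_dvd.mp h6).trans h5)
  have hcore : pCoreOf 2 X = X ⊓ pCoreOf 2 L := by
    have h4 : IsSylowIn 2 (X ⊓ pCoreOf 2 L) X :=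
      isSylowIn_of_odd inf_le_left (pCoreOf_isPGroup L).to_inf_right (by rw [card_im hX]; exact hDodd)
    apply le_antisymm (pCoreOf_le_sylow h4)
    apply le_pCoreOf inf_le_left _ h4.isPGroup
    exact (le_inf Subgroup.le_normalizer (hX.trans (le_Nz_pCoreOf L))).trans (Nz_inf_le _ _)
  have hD3 : Nat.card ↥D = 3 := by rw [hDdef, ← card_im hX, ← hcore, h3]
  have hJX : JJ 2 T ≤ Nz X := commutator_le_left_iff.mp h2.le
  -- an offender not centralizing D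
  obtain ⟨A, s, hA, hsD⟩ : ∃ A s, Off T L A s ∧ s ∉ Cz D := by
    by_contra hcon
    push Not at hcon
    have h5 : JJ 2 T ≤ pre L (Cz D) := h.J_le' hcon
    have h6 : ⁅X, JJ 2 T⁆ ≤ pCoreOf 2 L := by
      rw [Subgroup.commutator_le]
      intro x hx j hj
      obtain ⟨hjL, hj2⟩ := mem_pre.mp (h5 hj)
      have h7 : pi L (⟨x, hX hx⟩ * ⟨j, hjL⟩ * ⟨x, hX hx⟩⁻¹ * ⟨j, hjL⟩⁻¹) = 1 := by
        have h8 : pi L ⟨x, hX hx⟩ ∈ D := mem_im.mpr ⟨_, hx, rfl⟩
        have h9 := Subgroup.mem_centralizer_iff.mp hj2 _ h8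
        rw [map_mul, map_mul, map_mul, h9, map_inv, map_inv]; group
      exact (pi_eq_one_iff L _).mp h7
    rw [h2] at h6
    have h7 : pCoreOf 2 X = X := by rw [hcore]; exact inf_eq_left.mpr h6
    rw [h7, Subgroup.relIndex_self] at h3
    exact absurd h3 (by norm_num)
  obtain ⟨c, hc⟩ := h.tvA hA
  have hsN : s ∈ Nz D := by
    obtain ⟨a, ha, rfl⟩ := mem_im.mp hA.2.2.1
    exact im_Nz (hJX (hA.1.le_JJ ha))
  obtain ⟨κ, hκ, hκs⟩ : ∃ κ ∈ D, s * κ * s⁻¹ ≠ κ := by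
    by_contra hcon
    push Not at hcon
    apply hsD
    rw [Subgroup.mem_centralizer_iff]
    intro κ hκ
    have := hcon κ hκ
    calc κ * s = (s * κ * s⁻¹) * s := by rw [this]
      _ = s * κ := by group
  have hκ1 : κ ≠ 1 := by
    rintro rfl; apply hκs; group
  have hinv : s * κ * s⁻¹ = κ⁻¹ := by
    rcases (card_three_cases hD3 hκ hκ1 ((Subgroup.mem_normalizer_iff.mp hsN κ).mp hκ)).1 with h4 | h4 | h4
    · exfalso
      apply hκ1
      calc κ = s⁻¹ * (s * κ * s⁻¹) * s := by group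
        _ = 1 := by rw [h4]; group
    · exact absurd h4 hκs
    · exact h4
  have h33 := (card_three_cases hD3 hκ hκ1 hκ).2
  have hκD : κ * κ ∈ Dt (FF L) s := by
    have h4 := comm_mem_Dt (F := FF L) hc.1 (hDF hκ)
    have h5 : κ * s * κ⁻¹ * s⁻¹ = κ * κ := by
      have : s * κ⁻¹ * s⁻¹ = κ := by
        calc s * κ⁻¹ * s⁻¹ = (s * κ * s⁻¹)⁻¹ := by group
          _ = κ := by rw [hinv, inv_inv]
      calc κ * s * κ⁻¹ * s⁻¹ = κ * (s * κ⁻¹ * s⁻¹) := by group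
        _ = _ := by rw [this]
    rwa [h5] at h4
  have hκD' : κ ∈ Dt (FF L) s := by
    have h4 : κ = (κ * κ) * (κ * κ) := by
      calc κ = κ * (κ * κ * κ) := by rw [h33, mul_one]
        _ = _ := by group
    rw [h4]; exact Subgroup.mul_mem _ hκD hκD
  have hDD : D = Dt (FF L) s := by
    apply Subgroup.eq_of_le_of_card_ge
    · intro y hy
      rcases (card_three_cases hD3 hκ hκ1 hy).1 with rfl | rfl | rfl
      · exact Subgroup.one_mem _
      · exact hκD'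
      · exact Subgroup.inv_mem _ hκD'
    · rw [hD3, card_Dt h.hyp hc]
  refine ⟨s, A, hA, ?_⟩
  have hsup : X ⊔ pCoreOf 2 L = pre L (Dt (FF L) s) := by
    apply le_antisymm
    · apply sup_le _ (Q_le_pre _)
      intro x hx
      refine mem_pre.mpr ⟨hX hx, ?_⟩
      rw [← hDD]; exact mem_im.mpr ⟨⟨x, hX hx⟩, hx, rfl⟩
    · intro g hg
      obtain ⟨h4, h5⟩ := mem_pre.mp hg
      rw [← hDD] at h5
      obtain ⟨x, hx, hx2⟩ := mem_im.mp h5
      have h6 : pi L (x⁻¹ * ⟨g, h4⟩) = 1 := by rw [map_mul, map_inv, hx2]; group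
      have h7 := (pi_eq_one_iff L _).mp h6
      have h8 : g = x * ((x : G)⁻¹ * g) := by group
      rw [h8]
      exact Subgroup.mul_mem_sup hx h7
  have hQX : pCoreOf 2 L ≤ Nz X := by
    refine H18.KS.norm_of (P := JJ 2 T) (h.syl.isPGroup.to_le (JJ_le 2 T)) ?_ h2 ?_ ?_
    · have : H18.KS.oddGen X = resOf 2 X := by
        rw [resOf_eq_closure, H18.KS.oddGen]
        congr 1
        ext x
        simp only [Set.mem_setOf_eq, Nat.coprime_two_right]
      rw [this, h1]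
    · exact sup_le (hX.trans (le_Nz_pCoreOf L)) (((JJ_le 2 T).trans h.syl.le).trans (le_Nz_pCoreOf L))
    · exact h.Q_le.trans (Subgroup.le_normalizer.trans (H12.ZJ.normalizer_le_JJ 2 T))
  apply le_antisymm
  · rw [Kc, ← hsup]
    have h4 := resOf_mono (p := 2) (le_sup_left : X ≤ X ⊔ pCoreOf 2 L)
    rwa [h1] at h4
  · rw [Kc, ← hsup]
    exact resOf_le_of_sup (sup_le Subgroup.le_normalizer hQX) (pCoreOf_isPGroup L) rfl

end Cfsg.Agent.H17.Ks
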