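import Cfsg.Agent.H17_KsK

/-! The global hypotheses -/

set_option autoImplicit false
set_option linter.unusedSectionVars false

namespace Cfsg.Agent.H17.Ks

open Cfsg Cfsg.Agent.H17.Base
open Cfsg.Agent.H12.ZJ (MaxEA EA JJ JJ_le)

variable {G : Type*} [Group G] [Finite G] {T L K : Subgroup G}

/-- global hypotheses -/
structure GH (G : Type*) [Group G] : Prop where
  ct : IsCharacteristicTwoType G
  sol : ∀ N : Subgroup G, IsTwoLocal N → Group.IsSolvable ↥N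
  zz : ∀ S : Sylow 2 G, Cz (omegaCenterOf (S : Subgroup G)) ≤ Nz (S : Subgroup G)

theorem GH.cen_local (g : GH G) (hL : IsTwoLocal L) : Cz (pCoreOf 2 L) ≤ pCoreOf 2 L := by
  obtain ⟨R, hR, hR1, rfl⟩ := hL
  have h1 := (ambient_charp_iff (p := 2) (Nz R)).mp (g.ct.2 R hR hR1)
  have h2 : R ≤ pCoreOf 2 (Nz R) := le_pCoreOf Subgroup.le_normalizer le_rfl hR
  refine le_trans (le_inf ?_ le_rfl) h1
  exact (Cz_anti h2).trans (Cz_le_Nz R)

theorem isTwoLocal_Nz {R : Subgroup G} (hR : IsPGroup 2 ↥R) (h1 : R ≠ ⊥) : IsTwoLocal (Nz R) := ⟨R, hR, h1, rfl⟩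

theorem core_ne_bot_of_local (hL : IsTwoLocal L) : pCoreOf 2 L ≠ ⊥ := by
  obtain ⟨R, hR, hR1, rfl⟩ := hL
  have h2 : R ≤ pCoreOf 2 (Nz R) := le_pCoreOf Subgroup.le_normalizer le_rfl hR
  intro h
  rw [h] at h2
  exact hR1 (le_bot_iff.mp h2)

theorem GH.ls (g : GH G) (hT : IsSylowIn 2 T L) (hc : Cz (pCoreOf 2 L) ≤ pCoreOf 2 L) (hT1 : T ≠ ⊥) : LS T L := by
  have hp : Fact (Nat.Prime 2) := ⟨Nat.prime_two⟩
  have hQ1 : pCoreOf 2 L ≠ ⊥ := by
    intro h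
    rw [h] at hc
    have h1 : T ≤ Cz (⊥ : Subgroup G) := by
      intro x _
      rw [Subgroup.mem_centralizer_iff]
      intro y hy
      rw [(Subgroup.mem_bot.mp hy)]; simp
    exact hT1 (le_bot_iff.mp (h1.trans hc))
  have hQT : pCoreOf 2 L ≤ T := pCoreOf_le_sylow hT
  refine ⟨hT, hc, ?_, ?_⟩
  · have h1 := g.sol _ (isTwoLocal_Nz (pCoreOf_isPGroup L) hQ1)
    have h2 : L ≤ Nz (pCoreOf 2 L) := le_Nz_pCoreOf L
    have := h1
    exact Group.isSolvable_of_isSolvable_injective (Subgroup.inclusion_injective h2)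
  · obtain ⟨S, hTS⟩ := IsPGroup.exists_le_sylow hT.isPGroup
    have h1 : omegaCenterOf (S : Subgroup G) ≤ omegaCenterOf T := by
      intro z hz
      obtain ⟨z1, z2, z3⟩ := mem_oc.mp hz
      have z4 : z ∈ Cz T := Cz_anti hTS z2
      exact mem_oc.mpr ⟨hQT (hc (Cz_anti hQT z4)), z4, z3⟩
    have h2 : L ⊓ Cz (omegaCenterOf T) ≤ L ⊓ Nz (S : Subgroup G) :=
      inf_le_inf le_rfl ((Cz_anti h1).trans (g.zz S))
    refine h2.trans ?_
    have h3 : (S : Subgroup G) ⊓ L = T :=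
      hT.eq_of_le inf_le_right (S.isPGroup'.to_inf_left) (le_inf hTS hT.le)
    rw [← h3]
    exact (le_inf (inf_le_right) (inf_le_left.trans Subgroup.le_normalizer)).trans (Nz_inf_le _ _)

theorem GH.ls_of_over (g : GH G) (hT1 : T ≠ ⊥) (hL : L ∈ jOvergroups T) : LS T L :=
  g.ls (isSylowTwoIn_iff.mp hL.1) hL.2.2 hT1

theorem GH.ls_of_local (g : GH G) (hT1 : T ≠ ⊥) (hT : IsSylowIn 2 T L) (hL : IsTwoLocal L) : LS T L :=
  g.ls hT (g.cen_local hL) hT1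

theorem oddGen_iff {X : Subgroup G} : Subgroup.closure {g : G | g ∈ X ∧ Odd (orderOf g)} = resOf 2 X := by
  rw [resOf_eq_closure]
  congr 1
  ext x
  simp only [Set.mem_setOf_eq, Nat.coprime_two_right]

theorem thompson_eq (T : Subgroup G) : thompsonSubgroupOf 2 T = JJ 2 T := (H12.ZJ.JJ_p 2 T).symm

/-- the structure of a `J(T)`-component inside a local situation -/
theorem LS.of_comp (h : LS T L) (hK : IsJComponent T K) (hKL : K ≤ L) :
    ∃ s A, Off T L A s ∧ K = Kc L s ∧ wOf K = VG L s := by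
  obtain ⟨h1, h2, h3, h4, h5, h6⟩ := hK
  rw [oddGen_iff] at h1
  rw [thompson_eq] at h2
  obtain ⟨s, A, hA, rfl⟩ := h.recog hKL h1 h2 h3
  obtain ⟨c, hc⟩ := h.tvA hA
  exact ⟨s, A, hA, rfl, h.wOf_eq hc h5⟩

theorem subnormal_step {H K L : Subgroup G} (hHK : H ≤ K) (hKL : K ≤ L) (hn : K ≤ Nz H)
    (hK : (K.subgroupOf L).IsSubnormal) : (H.subgroupOf L).IsSubnormal := by
  have hle : H.subgroupOf L ≤ K.subgroupOf L := fun x hx => hHK hx
  refine Subgroup.IsSubnormal.step _ (K.subgroupOf L) hle hK ?_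
  rw [Subgroup.normal_subgroupOf_iff_le_normalizer hle]
  intro x hx
  rw [Subgroup.mem_normalizer_iff]
  intro y
  exact Subgroup.mem_normalizer_iff.mp (hn hx) y

theorem LS.subnormal (h : LS T L) {t : XL L} (ht : t * t = 1) : ((Kc L t).subgroupOf L).IsSubnormal := by
  refine subnormal_step (h.Kc_le_preF ht) (pre_le _) (h.preF_Nz ht) ?_
  apply Subgroup.Normal.isSubnormal
  rw [Subgroup.normal_subgroupOf_iff_le_normalizer (pre_le _)]
  intro l hl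
  refine pre_Nz (l := ⟨l, hl⟩) ?_
  rw [Nz, Subgroup.normalizer_eq_top_iff.mpr (pPrimeCore_normal 2 (XL L))]
  trivial

/-- components with intersecting four-groups are equal -/
theorem LS.eq_of_VG (h : LS T L) {s t : XL L} {c c' : ↥(VV L)} (ht : Tv (phi L) t c) (hs : Tv (phi L) s c')
    (hi : VG L t ⊓ VG L s ≠ ⊥) : Kc L t = Kc L s := by
  by_contra hcon
  apply hi
  apply h.VG_inf ht hs
  intro hD
  apply hcon
  rw [Kc, Kc, hD]

/-- an element of `L` fixing some nontrivial element of `W_K` normalizes `K` -/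
theorem LS.Nz_of_fix (h : LS T L) {t : XL L} {c : ↥(VV L)} (ht : Tv (phi L) t c) {z g : G} (hz : z ∈ VG L t) (hz1 : z ≠ 1)
    (hg : g ∈ L) (hgz : g * z * g⁻¹ ∈ VG L t) : g ∈ Nz (Kc L t) := by
  have h1 := h.cj_Kc t ⟨g, hg⟩
  have h2 := h.cj_VG ht ⟨g, hg⟩
  have h3 := ht.conj (pi L ⟨g, hg⟩)
  rw [mem_Nz_iff_cj, h1]
  symm
  apply h.eq_of_VG ht h3
  intro hbot
  have h4 : g * z * g⁻¹ ∈ VG L t ⊓ VG L (pi L ⟨g, hg⟩ * t * (pi L ⟨g, hg⟩)⁻¹) := by
    refine ⟨hgz, ?_⟩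
    rw [← h2]; exact conj_mem_cj hz
  rw [hbot] at h4
  apply hz1
  have h5 := Subgroup.mem_bot.mp h4
  calc z = g⁻¹ * (g * z * g⁻¹) * g := by group
    _ = 1 := by rw [h5]; group

/-! ### the Thompson subgroup -/

theorem JJ_cj (g : G) (T : Subgroup G) : JJ 2 (cj g T) = cj g (JJ 2 T) := (H12.ZJ.cj_JJ 2 T g).symm

theorem maxEA_card {A B : Subgroup G} (hA : MaxEA 2 T A) (hB : MaxEA 2 T B) : Nat.card ↥A = Nat.card ↥B :=
  le_antisymm (hB.2.2 A hA.1 hA.2.1) (hA.2.2 B hB.1 hB.2.1)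

theorem maxEA_of_le_card {T1 T2 A B : Subgroup G} (hA : MaxEA 2 T1 A) (hB : MaxEA 2 T2 B) (h : A ≤ T2)
    (hc : Nat.card ↥B ≤ Nat.card ↥A) : MaxEA 2 T2 A :=
  ⟨h, hA.2.1, fun C hC hC2 => (hB.2.2 C hC hC2).trans hc⟩

theorem JJ_le_JJ {T1 T2 A B : Subgroup G} (hA : MaxEA 2 T1 A) (hB : MaxEA 2 T2 B) (h : JJ 2 T1 ≤ T2)
    (hc : Nat.card ↥B ≤ Nat.card ↥A) : JJ 2 T1 ≤ JJ 2 T2 := by
  apply sSup_le
  intro A' hA'
  have hA'2 : MaxEA 2 T1 A' := hA'
  exact (maxEA_of_le_card hA'2 hB (hA'2.le_JJ.trans h) (by rw [maxEA_card hA'2 hA]; exact hc)).le_JJ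

theorem maxEA_JJ {A : Subgroup G} (hA : MaxEA 2 T A) : MaxEA 2 (JJ 2 T) A := hA.mono (JJ_le 2 T) hA.le_JJ

/-- MaxEA orders agree when the Thompson subgroups agree -/
theorem maxEA_card_of_JJ {T1 T2 A B : Subgroup G} (hJ : JJ 2 T1 = JJ 2 T2) (hA : MaxEA 2 T1 A) (hB : MaxEA 2 T2 B) :
    Nat.card ↥A = Nat.card ↥B := by
  have h1 := maxEA_JJ hA
  have h2 := maxEA_JJ hB
  rw [hJ] at h1
  exact maxEA_card h1 h2

theorem wOf_cj (g : G) (K : Subgroup G) : wOf (cj g K) = cj g (wOf K) := by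
  rw [wOf, wOf, pCoreOf_cj, oc_cj, cj_commutator]

theorem Nz_le_Nz_wOf (K : Subgroup G) : Nz K ≤ Nz (wOf K) := by
  intro g hg
  rw [mem_Nz_iff_cj] at hg ⊢
  rw [← wOf_cj, hg]

theorem relIndex_cj (g : G) (H K : Subgroup G) : (cj g H).relIndex (cj g K) = H.relIndex K :=
  Subgroup.relIndex_map_map_of_injective H K (MulAut.conj g).injective

theorem isJComponent_iff {T K : Subgroup G} : IsJComponent T K ↔ resOf 2 K = K ∧ ⁅K, JJ 2 T⁆ = K ∧
    (pCoreOf 2 K).relIndex K = 3 ∧ (∀ S : Subgroup G, IsSylowIn 2 S (K ⊔ JJ 2 T) → JJ 2 T ≤ S → JJ 2 S = JJ 2 T) ∧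
    Nat.card ↥(wOf K) = 4 ∧ ∀ w ∈ wOf K, w * w = 1 := by
  unfold IsJComponent
  rw [oddGen_iff, thompson_eq]
  simp only [isSylowTwoIn_iff, thompson_eq]

theorem comp_of_JJ {T T' K : Subgroup G} (hJ : JJ 2 T = JJ 2 T') (h : IsJComponent T K) : IsJComponent T' K := by
  rw [isJComponent_iff] at h ⊢
  rwa [hJ] at h

theorem comp_cj {T K : Subgroup G} (h : IsJComponent T K) (g : G) : IsJComponent (cj g T) (cj g K) := by
  rw [isJComponent_iff] at h ⊢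
  obtain ⟨h1, h2, h3, h4, h5, h6⟩ := h
  refine ⟨by rw [resOf_cj, h1], by rw [JJ_cj, ← cj_commutator, h2], ?_, ?_, ?_, ?_⟩
  · rw [pCoreOf_cj, relIndex_cj, h3]
  · intro S hS hJS
    rw [JJ_cj, ← cj_sup] at hS
    rw [JJ_cj] at hJS
    have h7 := hS.conj g⁻¹
    rw [cj_inv_cj] at h7
    have h8 := h4 _ h7 (by rw [le_cj_iff, inv_inv]; exact hJS)
    rw [JJ_cj] at h8
    rw [JJ_cj, ← h8, cj_cj_inv]
  · rw [wOf_cj, card_cj, h5]
  · rw [wOf_cj]
    rintro _ ⟨w, hw, rfl⟩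
    rw [← map_mul, h6 w hw, map_one]

theorem comp_ne {T K : Subgroup G} (h : IsJComponent T K) : wOf K ≠ ⊥ ∧ IsPGroup 2 ↥(wOf K) := by
  obtain ⟨h1, h2, h3, h4, h5, h6⟩ := h
  constructor
  · intro hb
    rw [hb, Subgroup.card_bot] at h5
    omega
  · exact IsPGroup.of_card (n := 2) h5

theorem comp_not_2 {T K : Subgroup G} (h : IsJComponent T K) : ¬ IsPGroup 2 ↥K := by
  intro hK
  have h3 := h.2.2.1
  rw [pCoreOf_of_isPGroup hK, Subgroup.relIndex_self] at h3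
  omega

theorem comp_J_Nz {T K : Subgroup G} (h : IsJComponent T K) : JJ 2 T ≤ Nz K := by
  have := (isJComponent_iff.mp h).2.1
  exact commutator_le_left_iff.mp this.le

/-- `J(T)` is not inside `O₂(N)` if `N` contains a component -/
theorem comp_J_not_le {T K N : Subgroup G} (h : IsJComponent T K) (hK : K ≤ N) : ¬ JJ 2 T ≤ pCoreOf 2 N := by
  intro hJ
  have h2 := (isJComponent_iff.mp h).2.1
  have h3 : K ≤ pCoreOf 2 N := by
    rw [← h2]
    exact (Subgroup.commutator_mono le_rfl hJ).trans (commutator_le_right_iff.mpr (hK.trans (le_Nz_pCoreOf N)))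
  exact comp_not_2 h ((pCoreOf_isPGroup N).to_le h3)

end Cfsg.Agent.H17.Ks
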