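import Cfsg.Agent.H17_PIrr2

/-! The L-Lemma. -/

set_option autoImplicit false
open Cfsg
open scoped commutatorElement

namespace Cfsg.Agent.H17.LLemma
open Cfsg.Agent.H17.Base

variable {G : Type*} [Group G] {p : ℕ}

/-- subgroup generated by the `G`-conjugates of `A` contained in `P` -/
def dcl (A P : Subgroup G) : Subgroup G := ⨆ g : {g : G // cj g A ≤ P}, cj (g : G) A

theorem dcl_le_iff {A P N : Subgroup G} : dcl A P ≤ N ↔ ∀ g, cj g A ≤ P → cj g A ≤ N := by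
  unfold dcl
  rw [iSup_le_iff]
  exact ⟨fun h g hg => h ⟨g, hg⟩, fun h g => h g g.2⟩

theorem le_dcl {A P : Subgroup G} {g : G} (h : cj g A ≤ P) : cj g A ≤ dcl A P :=
  le_iSup (fun g : {g : G // cj g A ≤ P} => cj (g : G) A) ⟨g, h⟩

theorem dcl_le (A P : Subgroup G) : dcl A P ≤ P := dcl_le_iff.2 (fun _ h => h)

theorem dcl_mono {A P Q : Subgroup G} (h : P ≤ Q) : dcl A P ≤ dcl A Q :=
  dcl_le_iff.2 (fun _ hg => le_dcl (hg.trans h))

theorem dcl_dcl (A P : Subgroup G) : dcl A (dcl A P) = dcl A P :=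
  le_antisymm (dcl_le _ _) (dcl_le_iff.2 (fun _ hg => le_dcl (le_dcl hg)))

theorem dcl_le_dcl {A P Q : Subgroup G} (h : dcl A P ≤ Q) : dcl A P ≤ dcl A Q := by
  rw [← dcl_dcl A P]; exact dcl_mono h

theorem cj_dcl (g : G) (A P : Subgroup G) : cj g (dcl A P) = dcl A (cj g P) := by
  have key : ∀ (g : G) (P : Subgroup G), cj g (dcl A P) ≤ dcl A (cj g P) := by
    intro g P
    rw [cj_le_iff, dcl_le_iff]
    intro h hh
    rw [le_cj_iff, inv_inv, ← cj_mul]
    apply le_dcl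
    rw [cj_mul]; exact cj_mono hh
  apply le_antisymm (key g P)
  have := key g⁻¹ (cj g P)
  rw [cj_inv_cj, cj_le_iff, inv_inv] at this
  exact this

theorem Nz_le_Nz_dcl (A P : Subgroup G) : Nz P ≤ Nz (dcl A P) := by
  intro g hg
  rw [mem_Nz_iff_cj, cj_dcl, cj_eq_of_mem_Nz hg]

theorem growth [Fact p.Prime] {A P R : Subgroup G} [Finite P] (hP : IsPGroup p P) (hRP : R ≤ P) (hR : dcl A R = R)
    (h : ¬ dcl A P ≤ R) : ∃ g, cj g A ≤ P ⊓ Nz R ∧ ¬ cj g A ≤ R := by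
  by_contra hno
  push Not at hno
  apply h
  have h1 : dcl A (P ⊓ Nz R) = R := by
    apply le_antisymm
    · rw [dcl_le_iff]; exact hno
    · conv_lhs => rw [← hR]
      exact dcl_mono (le_inf hRP Subgroup.le_normalizer)
  have h2 : P ⊓ Nz R = P := by
    by_contra hne
    obtain ⟨x, hx, hxN, hxR⟩ := exists_mem_Nz_notMem hP (lt_of_le_of_ne inf_le_left hne)
    apply hxR
    refine ⟨hx, ?_⟩
    have := Nz_le_Nz_dcl A _ hxN
    rwa [h1] at this
  rw [h2] at h1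
  rw [h1]

/-- the core of the L-lemma -/
theorem core [Fact p.Prime] [Finite G] {T M A : Subgroup G} (hmin : IsMinOver T M ⊤) (hT : IsSylowIn p T ⊤)
    (hA : IsPGroup p A) (hAO : ¬ A ≤ pCore p G) :
    ∃ (a : G) (L : Subgroup G), cj a A ≤ L ∧ cj a A ⊔ pCoreOf p L ≤ L ⊓ M ∧ ¬ L ≤ M ∧
      (∀ X : Subgroup G, cj a A ⊔ pCoreOf p L ≤ X → X < L → X ≤ L ⊓ M) ∧
      ∀ x ∈ L, x ∉ M → (cj a A ⊔ cj x (cj a A)) ⊔ pCoreOf p L = L := by
  have hMtop : M ≠ ⊤ := hmin.lt.ne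
  have hTM : IsSylowIn p T M := hT.mono hmin.le le_top
  -- Sylow subgroups of M are Sylow in G
  have hsyl : ∀ S, IsSylowIn p S M → IsSylowIn p S ⊤ := by
    intro S hS
    obtain ⟨g, hg, rfl⟩ := hTM.exists_conj hS
    exact hT.conj_top g
  -- (U)
  have hU : ∀ S, IsSylowIn p S ⊤ → S ≤ M → ∀ X : Subgroup G, S ≤ X → X ≠ ⊤ → X ≤ M := by
    intro S hS hSM X hSX hX
    obtain ⟨m, hm, rfl⟩ := hTM.exists_conj (hS.mono hSM le_top)
    have h1 : T ≤ cj m⁻¹ X := by rw [← cj_le_iff]; exact hSX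
    have h2 := hmin.max (cj m⁻¹ X) h1 le_top (by
      intro h
      apply hX
      rw [← top_le_iff]
      have := cj_mono (g := m) h
      rwa [cj_top, cj_cj_inv] at this)
    rw [cj_le_iff, inv_inv, cj_eq_of_mem hm] at h2
    exact h2
  have hNM : Nz M ≤ M := by
    apply hU T hT hmin.le _ (hmin.le.trans Subgroup.le_normalizer)
    intro h
    have h1 := ncl_le hmin.le h.ge
    rw [hmin.ncl_eq] at h1
    exact hMtop (top_le_iff.1 h1)
  -- existence of S2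
  have hex2 : ∃ S2, IsSylowIn p S2 ⊤ ∧ ¬ dcl A S2 ≤ M := by
    by_contra hno
    push Not at hno
    apply hAO
    have hall : ∀ g, cj g A ≤ M := by
      intro g
      obtain ⟨S, hAS, hS⟩ := exists_isSylowIn_ge (cj_isPGroup hA (g := g)) (le_top : cj g A ≤ ⊤)
      exact (le_dcl hAS).trans (hno S hS)
    set N := ncl ⊤ A with hN
    have hNM' : N ≤ M := by rw [hN, ncl_le_iff]; exact fun g _ => hall g
    have hNn : (⊤ : Subgroup G) ≤ Nz N := le_Nz_ncl ⊤ A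
    have hTN := hT.inf_normal (le_top : N ≤ ⊤) hNn
    have hfr := frattini_le hTN le_top hNn
    have hnorm : (⊤ : Subgroup G) ≤ Nz (T ⊓ N) := by
      by_contra hne
      have h1 : ⊤ ⊓ Nz (T ⊓ N) ≤ M := by
        apply hU T hT hmin.le
        · exact le_inf le_top ((le_inf Subgroup.le_normalizer (le_top.trans hNn)).trans (Nz_inf_le _ _))
        · intro h; exact hne (by rw [← h]; exact inf_le_right)
      have h2 : (⊤ : Subgroup G) ≤ M := by rw [← hfr]; exact sup_le hNM' h1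
      exact hMtop (top_le_iff.1 h2)
    obtain ⟨g, -, hg⟩ := hT.exists_conj_le hA le_top
    have h1 : cj g A ≤ T ⊓ N := le_inf hg (cj_le_ncl (Subgroup.mem_top g))
    have h2 : A ≤ T ⊓ N := by
      rw [cj_le_iff, cj_eq_of_mem_Nz (hnorm (Subgroup.mem_top _))] at h1
      exact h1
    exact h2.trans (le_pCore (normal_iff_top_le_Nz.2 hnorm) (hT.isPGroup.to_le inf_le_left))
  -- choose maximal pair
  have hexM : ∃ n : ℕ, ∃ S1 S2 : Subgroup G, IsSylowIn p S1 ⊤ ∧ S1 ≤ M ∧ IsSylowIn p S2 ⊤ ∧ ¬ dcl A S2 ≤ M ∧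
      Nat.card (dcl A (S1 ⊓ S2)) = n ∧ ∀ S1' S2', IsSylowIn p S1' ⊤ → S1' ≤ M → IsSylowIn p S2' ⊤ → ¬ dcl A S2' ≤ M →
        Nat.card (dcl A (S1' ⊓ S2')) ≤ n := by
    classical
    set P : ℕ → Prop := fun n => ∃ S1 S2 : Subgroup G, IsSylowIn p S1 ⊤ ∧ S1 ≤ M ∧ IsSylowIn p S2 ⊤ ∧ ¬ dcl A S2 ≤ M ∧
      Nat.card (dcl A (S1 ⊓ S2)) = n with hP
    obtain ⟨S2, hS2, hS2'⟩ := hex2
    have hP0 : P (Nat.card (dcl A (T ⊓ S2))) := ⟨T, S2, hT, hmin.le, hS2, hS2', rfl⟩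
    have hb : ∀ n, P n → n ≤ Nat.card G := by
      rintro n ⟨S1, S2, -, -, -, -, rfl⟩
      exact Nat.le_of_dvd Nat.card_pos (Subgroup.card_subgroup_dvd_card _)
    obtain ⟨hg1, hg2⟩ : P (Nat.findGreatest P (Nat.card G)) ∧ ∀ k, P k → k ≤ Nat.findGreatest P (Nat.card G) := by
      refine ⟨Nat.findGreatest_spec (hb _ hP0) hP0, fun k hk => Nat.le_findGreatest (hb k hk) hk⟩
    obtain ⟨S1, S2', a1, a2, a3, a4, a5⟩ := hg1
    exact ⟨_, S1, S2', a1, a2, a3, a4, a5, fun T1 T2 b1 b2 b3 b4 => hg2 _ ⟨T1, T2, b1, b2, b3, b4, rfl⟩⟩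
  obtain ⟨n, S1, S2, hS1, hS1M, hS2, hS2M, hn, hmax⟩ := hexM
  set R := dcl A (S1 ⊓ S2) with hR
  have hRS1 : R ≤ S1 := (dcl_le _ _).trans inf_le_left
  have hRS2 : R ≤ S2 := (dcl_le _ _).trans inf_le_right
  have hRp : IsPGroup p R := hS1.isPGroup.to_le hRS1
  have hRR : dcl A R = R := dcl_dcl _ _
  have hRM : R ≤ M := hRS1.trans hS1M
  -- cards of dcl of Sylows agree
  have hcard : ∀ S S', IsSylowIn p S ⊤ → IsSylowIn p S' ⊤ → Nat.card (dcl A S) = Nat.card (dcl A S') := by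
    intro S S' hS hS'
    obtain ⟨g, -, rfl⟩ := hS.exists_conj hS'
    rw [← cj_dcl, card_cj]
  have hnn : ∀ S, IsSylowIn p S ⊤ → Nz (dcl A S) ≠ ⊤ := by
    intro S hS h
    apply hAO
    obtain ⟨g, -, hg⟩ := hS.exists_conj_le hA le_top
    have h1 := le_dcl hg
    rw [cj_le_iff, cj_eq_of_mem_Nz (by rw [h]; trivial)] at h1
    exact h1.trans (le_pCore (normal_iff_top_le_Nz.2 h.ge) (hS.isPGroup.to_le (dcl_le _ _)))
  have hgt : ∀ {D B : Subgroup G}, R ≤ D → B ≤ D → ¬ B ≤ R → n < Nat.card D := by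
    intro D B h1 h2 h3
    rw [← hn]
    apply lt_of_not_ge
    intro hle
    exact h3 (h2.trans (Subgroup.eq_of_le_of_card_ge h1 hle).ge)
  -- Claim 1
  have claim1 : ∀ D : Subgroup G, D ≤ M → IsPGroup p D → dcl A D = D → n < Nat.card D → Nz D ≤ M := by
    intro D hDM hDp hDD hDn h hh
    obtain ⟨S, hDS, hS⟩ := exists_isSylowIn_ge hDp hDM
    have hStop := hsyl S hS
    have hDhS : D ≤ cj h S := by
      have := cj_mono (g := h) hDS
      rwa [cj_eq_of_mem_Nz hh] at this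
    have h1 : dcl A (cj h S) ≤ M := by
      by_contra hne
      have h2 := hmax S (cj h S) hStop hS.le (hStop.conj_top h) hne
      have h3 : D ≤ dcl A (S ⊓ cj h S) := by
        rw [← hDD]; exact dcl_mono (le_inf hDS hDhS)
      have h4 := Subgroup.card_le_of_le h3
      omega
    set E := dcl A (cj h S) with hE
    obtain ⟨S', hES', hS'⟩ := exists_isSylowIn_ge ((hStop.conj_top h).isPGroup.to_le (dcl_le A _)) h1
    have hS'top := hsyl S' hS'
    have hEeq : E = dcl A S' := by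
      apply Subgroup.eq_of_le_of_card_ge
      · exact dcl_le_dcl hES'
      · rw [hcard S' (cj h S) hS'top (hStop.conj_top h)]
    have h2 : Nz E ≤ M := by
      apply hU S' hS'top hS'.le
      · rw [hEeq]; exact Subgroup.le_normalizer.trans (Nz_le_Nz_dcl A S')
      · exact hnn _ (hStop.conj_top h)
    have h3 : cj h S ≤ M := (Subgroup.le_normalizer.trans (Nz_le_Nz_dcl A _)).trans h2
    have h4 : cj h M ≤ M := by
      apply hU (cj h S) (hStop.conj_top h) h3 _ (cj_mono hS.le)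
      intro h5
      apply hMtop
      have := congrArg (cj h⁻¹) h5
      rwa [cj_inv_cj, cj_top] at this
    exact hNM (mem_Nz_of_cj_le h4)
  -- A1
  obtain ⟨a, haS, haR⟩ : ∃ g, cj g A ≤ S1 ⊓ Nz R ∧ ¬ cj g A ≤ R := by
    apply growth hS1.isPGroup hRS1 hRR
    intro h
    apply hS2M
    have h1 : dcl A S1 ≤ dcl A S2 := dcl_le_dcl (h.trans hRS2)
    have h2 := Subgroup.eq_of_le_of_card_ge h1 (hcard S2 S1 hS2 hS1).le
    rw [← h2]; exact (dcl_le _ _).trans hS1M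
  obtain ⟨b, hbS, hbR⟩ : ∃ g, cj g A ≤ S2 ⊓ Nz R ∧ ¬ cj g A ≤ R := by
    apply growth hS2.isPGroup hRS2 hRR
    intro h
    exact hS2M (h.trans hRM)
  have hbM : ¬ cj b A ≤ M := by
    intro h
    have h1 : IsPGroup p ↥(R ⊔ cj b A) := hS2.isPGroup.to_le (sup_le hRS2 (hbS.trans inf_le_left))
    obtain ⟨S3, h3, hS3⟩ := exists_isSylowIn_ge h1 (sup_le hRM h)
    have h4 := hmax S3 S2 (hsyl S3 hS3) hS3.le hS2 hS2M
    have h5 : R ≤ dcl A (S3 ⊓ S2) := by
      conv_lhs => rw [← hRR]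
      exact dcl_mono (le_inf (le_sup_left.trans h3) hRS2)
    have h6 : cj b A ≤ dcl A (S3 ⊓ S2) := le_dcl (le_inf (le_sup_right.trans h3) (hbS.trans inf_le_left))
    have := hgt h5 h6 hbR
    omega
  -- Claim 3
  have claim3 : ∀ (D : Subgroup G) (b : G), R ≤ D → cj a A ≤ D → cj b A ≤ D → ¬ cj b A ≤ M → ¬ IsPGroup p D := by
    intro D b hRD haD hbD hbM' hD
    obtain ⟨S4, h4, hS4⟩ := exists_isSylowIn_ge hD (le_top : D ≤ ⊤)
    have h1 : ¬ dcl A S4 ≤ M := fun h => hbM' ((le_dcl (hbD.trans h4)).trans h)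
    have h2 : IsPGroup p ↥(R ⊔ cj a A) := hS1.isPGroup.to_le (sup_le hRS1 (haS.trans inf_le_left))
    obtain ⟨S3, h3, hS3⟩ := exists_isSylowIn_ge h2 (sup_le hRM ((haS.trans inf_le_left).trans hS1M))
    have h5 := hmax S3 S4 (hsyl S3 hS3) hS3.le hS4 h1
    have h6 : R ≤ dcl A (S3 ⊓ S4) := by
      conv_lhs => rw [← hRR]
      exact dcl_mono (le_inf (le_sup_left.trans h3) (hRD.trans h4))
    have h7 : cj a A ≤ dcl A (S3 ⊓ S4) := le_dcl (le_inf (le_sup_right.trans h3) (haD.trans h4))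
    have := hgt h6 h7 haR
    omega
  -- choose L minimal
  have hexL : ∃ L : Subgroup G, (R ⊔ cj a A ≤ L ∧ L ≤ Nz R ∧ ∃ b, cj b A ≤ L ∧ ¬ cj b A ≤ M) ∧
      ∀ X : Subgroup G, X < L → ¬ (R ⊔ cj a A ≤ X ∧ X ≤ Nz R ∧ ∃ b, cj b A ≤ X ∧ ¬ cj b A ≤ M) := by
    have hne : {L : Subgroup G | R ⊔ cj a A ≤ L ∧ L ≤ Nz R ∧ ∃ b, cj b A ≤ L ∧ ¬ cj b A ≤ M}.Nonempty :=
      ⟨R ⊔ cj a A ⊔ cj b A, le_sup_left, sup_le (sup_le Subgroup.le_normalizer (haS.trans inf_le_right)) (hbS.trans inf_le_right),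
        b, le_sup_right, hbM⟩
    obtain ⟨L, hL⟩ := (Set.toFinite _).exists_minimal hne
    exact ⟨L, hL.prop, fun X hX hX' => hX.not_ge (hL.le_of_le hX' hX.le)⟩
  obtain ⟨L, ⟨hL1, hL2, b', hb'L, hb'M⟩, hLmin⟩ := hexL
  have hRL : R ≤ L := le_sup_left.trans hL1
  have haL : cj a A ≤ L := le_sup_right.trans hL1
  have haM : cj a A ≤ M := (haS.trans inf_le_left).trans hS1M
  have hLM : ¬ L ≤ M := fun h => hb'M (hb'L.trans h)
  have hLp : ¬ IsPGroup p L := claim3 L b' hRL haL hb'L hb'M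
  -- helper: D = dcl A P for P Sylow of something
  have hDP : ∀ P : Subgroup G, P ≤ M → IsPGroup p P → R ⊔ cj a A ≤ P → Nz P ≤ M := by
    intro P hPM hPp hP
    have h1 : R ≤ dcl A P := by
      conv_lhs => rw [← hRR]
      exact dcl_mono (le_sup_left.trans hP)
    have h2 : cj a A ≤ dcl A P := le_dcl (le_sup_right.trans hP)
    exact (Nz_le_Nz_dcl A P).trans (claim1 (dcl A P) ((dcl_le _ _).trans hPM) (hPp.to_le (dcl_le _ _)) (dcl_dcl _ _) (hgt h1 h2 haR))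
  have claim4 : ∀ X : Subgroup G, R ⊔ cj a A ≤ X → X < L → X ≤ M := by
    intro X hX hXL
    have hDM : dcl A X ≤ M := by
      rw [dcl_le_iff]
      intro g hg
      by_contra hne
      exact hLmin X hXL ⟨hX, hXL.le.trans hL2, g, hg, hne⟩
    have hRaD : R ⊔ cj a A ≤ dcl A X := by
      apply sup_le
      · conv_lhs => rw [← hRR]
        exact dcl_mono (le_sup_left.trans hX)
      · exact le_dcl (le_sup_right.trans hX)
    have h2 : IsPGroup p ↥(R ⊔ cj a A) := hS1.isPGroup.to_le (sup_le hRS1 (haS.trans inf_le_left))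
    obtain ⟨P, hP1, hP⟩ := exists_isSylowIn_ge h2 hRaD
    have h3 := frattini_le hP (dcl_le A X) (Subgroup.le_normalizer.trans (Nz_le_Nz_dcl A X))
    rw [← h3]
    exact sup_le hDM (inf_le_right.trans (hDP P (hP.le.trans hDM) hP.isPGroup hP1))
  have hRO : R ≤ pCoreOf p L := le_pCoreOf hRL hL2 hRp
  have hO : cj a A ⊔ pCoreOf p L ≤ M := by
    apply claim4
    · exact sup_le (hRO.trans le_sup_right) le_sup_left
    · refine lt_of_le_of_ne (sup_le haL (pCoreOf_le L)) ?_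
      intro h
      apply hLp
      rw [← h]
      exact isPGroup_sup_of_le_Nz (cj_isPGroup hA) (pCoreOf_isPGroup L) (haL.trans (le_Nz_pCoreOf L))
  refine ⟨a, L, haL, le_inf (sup_le haL (pCoreOf_le L)) hO, hLM, ?_, ?_⟩
  · intro X hX hXL
    exact le_inf hXL.le (claim4 X (sup_le (hRO.trans (le_sup_right.trans hX)) (le_sup_left.trans hX)) hXL)
  · intro x hx hxM
    by_contra hne
    have hle : (cj a A ⊔ cj x (cj a A)) ⊔ pCoreOf p L ≤ L := by
      refine sup_le (sup_le haL ?_) (pCoreOf_le L)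
      have := cj_mono (g := x) haL
      rwa [cj_eq_of_mem hx] at this
    have h1 := claim4 _ (sup_le (hRO.trans le_sup_right) (le_sup_left.trans le_sup_left)) (lt_of_le_of_ne hle hne)
    -- L ∩ M^{x⁻¹} contains R A₁
    have hxL : cj x⁻¹ L = L := cj_eq_of_mem (inv_mem hx)
    have h2 : R ⊔ cj a A ≤ cj x⁻¹ (L ⊓ M) := by
      rw [cj_inf, hxL]
      apply le_inf (sup_le hRL haL)
      rw [← cj_le_iff, cj_sup, cj_eq_of_mem_Nz (hL2 hx)]
      exact sup_le hRM ((le_sup_right.trans le_sup_left).trans h1)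
    have h3 : cj x⁻¹ (L ⊓ M) < L := by
      refine lt_of_le_of_ne ?_ ?_
      · conv_rhs => rw [← hxL]
        exact cj_mono inf_le_left
      · intro h
        apply hLM
        have := congrArg (cj x) h
        rw [cj_cj_inv, cj_eq_of_mem hx] at this
        rw [← this]; exact inf_le_right
    have h4 : cj x⁻¹ (L ⊓ M) ≤ L ⊓ M := le_inf h3.le (claim4 _ h2 h3)
    have h5 : x ∈ Nz (L ⊓ M) := by
      have := mem_Nz_of_cj_le h4
      rw [← inv_inv x]; exact inv_mem this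
    -- L₀ = L ∩ M is maximal so normal in L
    have h6 : L ≤ Nz (L ⊓ M) := by
      by_contra hne'
      have h7 : L ⊓ Nz (L ⊓ M) < L := by
        refine lt_of_le_of_ne inf_le_left (fun h => hne' ?_)
        conv_lhs => rw [← h]
        exact inf_le_right
      have h9 : R ⊔ cj a A ≤ L ⊓ M := le_inf (sup_le hRL haL) (sup_le hRM haM)
      have h10 : L ⊓ M ≤ Nz (L ⊓ M) := Subgroup.le_normalizer
      have h8 := claim4 (L ⊓ Nz (L ⊓ M)) (le_inf (h9.trans inf_le_left) (h9.trans h10)) h7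
      exact hxM (h8 ⟨hx, h5⟩)
    have h7 : IsPGroup p ↥(R ⊔ cj a A) := hS1.isPGroup.to_le (sup_le hRS1 (haS.trans inf_le_left))
    obtain ⟨P, hP1, hP⟩ := exists_isSylowIn_ge h7 (le_inf (sup_le hRL haL) (sup_le hRM haM))
    have h8 := frattini_le hP inf_le_left h6
    apply hLM
    rw [← h8]
    exact sup_le inf_le_right (inf_le_right.trans (hDP P (hP.le.trans inf_le_right) hP.isPGroup hP1))

end Cfsg.Agent.H17.LLemma
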