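import Cfsg.Agent.H17_FrakH
import Cfsg.Agent.H17_Zipper

/-! Minimal subgroups `L` of `H ∈ ℌ_G(O_p(M))` with `Y_M ≰ O_p(L)` (S2862). -/

set_option autoImplicit false
set_option linter.unusedSectionVars false
set_option linter.unusedVariables false

namespace Cfsg.Agent.H17.FrakM

open Cfsg Cfsg.Agent.H17.Base Cfsg.Agent.H17.Amalgam Cfsg.Agent.H17.Zipper
open scoped commutatorElement

variable {G : Type*} [Group G] {p : ℕ}
variable [Fact p.Prime] [Finite G] {S M : Subgroup G}

/-- if `x ∈ L ≤ H` with `[Y, Y^x] = 1` then `x` normalizes `Y` -/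
theorem MF.norm_of_comm (h : MF p S M) (hasym : ¬ IsSymmetricIn (largestPReducedOf p M)) {H L : Subgroup G}
    (f : FH p M H) (hLH : L ≤ H) (hYL : largestPReducedOf p M ≤ L) {g : G} (hg : g ∈ L)
    (hgen : largestPReducedOf p M ⊔ cj g (largestPReducedOf p M) = L) {x : G} (hx : x ∈ L)
    (hc : cj x (largestPReducedOf p M) ≤ Cz (largestPReducedOf p M)) : x ∈ Nz (largestPReducedOf p M) := by
  set Y := largestPReducedOf p M with hY
  set O := pCoreOf p M with hO
  set B := pCoreOf p H with hB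
  have hBp : IsPGroup p B := pCoreOf_isPGroup H
  have hHB : H ≤ Nz B := le_Nz_pCoreOf H
  have hBO : B ≤ Nz O := h.pgroup_norm hasym f.le
  have hBY : B ≤ Nz Y := hBO.trans (h.Nz_O_le.trans h.nz.ge)
  have hconj : ∀ y ∈ H, B ≤ Nz (cj y Y) := by
    intro y hy
    have := cj_mono (g := y) hBY
    rwa [cj_Nz, cj_eq_of_mem_Nz (hHB hy)] at this
  have hYab : Y ≤ Cz Y := (ea_iff.1 (isPRed_largest M).ea).1
  have hYO : Y ≤ O := (isPRed_largest M).le_pCoreOf
  have hLB : L ≤ Nz B := hLH.trans hHB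
  obtain ⟨e1, e2, e3⟩ := inf_Cz_eq hLB hYL hg hgen hBY hYab (hconj g (hLH hg))
  set B1 := ⁅B, Y⁆ with hB1
  have hB1Y : B1 ≤ Y := commutator_le_right_iff.2 hBY
  have hB1B : B1 ≤ B := commutator_le_left_iff.2 (hYL.trans hLB)
  -- `x` normalizes `B1`
  have hxB1 : cj x B1 = B1 := by
    have h1 : cj x B1 ≤ B1 := by
      conv_rhs => rw [← e2]
      rw [hB1, cj_commutator, cj_eq_of_mem_Nz (hLB hx)]
      apply le_inf
      · apply Subgroup.commutator_mono le_rfl
        have := cj_mono (g := x) hYL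
        rwa [cj_eq_of_mem hx] at this
      · exact (commutator_le_right_iff.2 (hconj x (hLH hx))).trans hc
    exact mem_Nz_iff_cj.1 (mem_Nz_of_cj_le h1)
  set F := B ⊓ Cz Y with hF
  have hFO : B ⊓ O = F := by
    apply le_antisymm (inf_le_inf_left _ h.O_le_C)
    have h1 : IsPGroup p ↥(O ⊔ B) := isPGroup_sup_of_le_Nz (pCoreOf_isPGroup M) hBp (f.le.trans hHB)
    apply le_inf inf_le_left
    rw [← h.inf_C h1 le_sup_left]
    exact inf_le_inf_right _ le_sup_right
  have hxF : cj x F = F := by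
    rw [e3, cj_sup, hxB1]
    congr 1
    rw [cj_inf, cj_eq_of_mem_Nz (hLB hx), cj_Cz, cj_eq_of_mem hx]
  have hOB : O ≤ Nz B := f.le.trans hHB
  have hOF : O ≤ Nz F := by
    rw [← hFO]
    exact (le_inf hOB Subgroup.le_normalizer).trans (Nz_inf_le _ _)
  have hOB1 : O ≤ Cz B1 := h.O_le_C.trans (Cz_anti hB1Y)
  -- `K`: stabilizer of `F ≥ B1`
  set K := chainStab F B1 with hK
  have hBnB1 : B ≤ Nz B1 := Subgroup.normalizer_commutator_ge_left B Y
  have hxK : x ∈ K := by
    refine ⟨mem_Nz_iff_cj.2 hxF, ?_⟩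
    intro u hu
    have hu' : u ∈ (B ⊓ Cz L) ⊔ B1 := by rw [← e3]; exact hu
    have hn : B ⊓ Cz L ≤ Nz B1 := inf_le_left.trans hBnB1
    rw [mem_sup_of_le_Nz hn] at hu'
    obtain ⟨c, ⟨hcB, hcL⟩, b, hb, rfl⟩ := hu'
    have h1 : x * c = c * x := Subgroup.mem_centralizer_iff.1 hcL x hx
    have h2 : x * b * x⁻¹ ∈ B1 := by
      rw [← hxB1, mem_cj]
      have : x⁻¹ * (x * b * x⁻¹) * x = b := by group
      rwa [this]
    have e : x * (c * b) * x⁻¹ * (c * b)⁻¹ = c * (x * b * x⁻¹ * b⁻¹) * c⁻¹ := by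
      have : x * (c * b) * x⁻¹ * (c * b)⁻¹ = (x * c) * b * x⁻¹ * b⁻¹ * c⁻¹ := by group
      rw [this, h1]; group
    rw [e]
    exact (Subgroup.mem_normalizer_iff.1 (hBnB1 hcB) _).1 (B1.mul_mem h2 (B1.inv_mem hb))
  have hOK : O ≤ Nz K := (le_inf hOF (hOB1.trans (Cz_le_Nz B1))).trans (Nz_inf_le_Nz_chainStab _ _)
  set J := O ⊔ cj x O with hJ
  have hJK : J ≤ O ⊔ K := by
    apply sup_le le_sup_left
    intro y hy
    rw [mem_cj] at hy
    obtain ⟨o, ho, rfl⟩ : ∃ o ∈ O, x * o * x⁻¹ = y := ⟨_, hy, by group⟩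
    have hoK : o⁻¹ * x * o ∈ K := by
      have := (Subgroup.mem_normalizer_iff.1 (hOK (O.inv_mem ho)) x).1 hxK
      rwa [inv_inv] at this
    have e : x * o * x⁻¹ = o * ((o⁻¹ * x * o) * x⁻¹) := by group
    rw [e]
    exact (O ⊔ K).mul_mem ((le_sup_left : O ≤ O ⊔ K) ho) ((le_sup_right : K ≤ O ⊔ K) (K.mul_mem hoK (K.inv_mem hxK)))
  have hR1 : resOf p J ≤ K := by
    refine (resOf_mono hJK).trans ?_
    apply resOf_le_of_sup (Q := O) _ (pCoreOf_isPGroup M) (sup_comm _ _)
    exact sup_le hOK Subgroup.le_normalizer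
  have hxO : ∀ Z : Subgroup G, O ≤ Z → cj x Z = Z → cj x O ≤ Z := by
    intro Z h1 h2
    rw [← h2]; exact cj_mono h1
  have hJB1 : J ≤ Cz B1 := by
    apply sup_le hOB1
    apply hxO _ hOB1
    rw [cj_Cz, hxB1]
  have hJBF : J ≤ chainStab B F := by
    have h1 : O ≤ chainStab B F := by
      rw [le_chainStab_iff hOB, ← hFO]
      exact le_inf (commutator_le_right_iff.2 hOB) (commutator_le_left_iff.2 hBO)
    apply sup_le h1
    apply hxO _ h1
    rw [cj_chainStab, hxF, cj_eq_of_mem_Nz (hLB hx)]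
  have hRR : resOf p (resOf p J) = resOf p J := resOf_resOf J
  have hRF : resOf p J ≤ Cz F := by
    rw [← hRR]
    exact resOf_le_Cz_of_chainStab (hBp.to_le hB1B) hR1 ((resOf_le J).trans hJB1)
  have hRB : resOf p J ≤ Cz B := by
    rw [← hRR]
    exact resOf_le_Cz_of_chainStab (hBp.to_le inf_le_left) ((resOf_le J).trans hJBF) hRF
  have hJH : J ≤ H := by
    apply sup_le f.le
    exact hxO _ f.le (cj_eq_of_mem (hLH hx))
  have hRbot : resOf p J = ⊥ := by
    rw [← hRR, eq_bot_iff, resOf_eq_closure, Subgroup.closure_le]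
    rintro y ⟨hy, hyp⟩
    exact f.charP.eq_one (((resOf_le J).trans hJH) hy) (hRB hy) hyp
  have hJp : IsPGroup p J := isPGroup_of_resOf_eq_bot hRbot
  have h1 : cj x O = O := (h.wcl_top hasym).eq_of_le le_top hJp le_sup_left (Subgroup.mem_top x) le_sup_right
  exact (h.Nz_O_le.trans h.nz.ge) (mem_Nz_iff_cj.2 h1)

theorem MF.lmin (h : MF p S M) (hasym : ¬ IsSymmetricIn (largestPReducedOf p M)) {H L : Subgroup G}
    (f : FH p M H) (hLH : L ≤ H) (hYL : largestPReducedOf p M ≤ L) (hYO : ¬ largestPReducedOf p M ≤ pCoreOf p L)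
    (hmin : ∀ L' : Subgroup G, L' ≤ L → largestPReducedOf p M ≤ L' → ¬ largestPReducedOf p M ≤ pCoreOf p L' → L' = L) :
    IsMinOver (largestPReducedOf p M) (L ⊓ Nz (largestPReducedOf p M)) L := by
  have hYp : IsPGroup p (largestPReducedOf p M) := (isPRed_largest M).isPGroup
  obtain ⟨L0, hL0⟩ := zipper_in hYp hYL (by
    intro X hX hYX hne
    by_contra h1
    exact hne (hmin X hX hYX h1)) hYO
  have hYab : largestPReducedOf p M ≤ Cz (largestPReducedOf p M) := (ea_iff.1 (isPRed_largest M).ea).1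
  obtain ⟨hN, hgen⟩ := Cfsg.Agent.H17.Zipper.IsMinOver.facts hL0
  obtain ⟨g, hg, hgL0⟩ := SetLike.not_le_iff_exists.1 hL0.lt.not_ge
  have hg2 := hgen g hg hgL0
  set Y := largestPReducedOf p M with hY
  have key : ∀ x ∈ L, cj x Y ≤ Nz Y → Y ≤ Nz (cj x Y) → x ∈ Nz Y := by
    intro x hx h1 h2
    exact h.norm_of_comm hasym f hLH hYL hg hg2 hx (le_Cz_comm.1 (asym_comm hasym h1 h2))
  have hE : Y ≤ pCoreOf p L0 := by
    by_contra h1
    exact hL0.lt.ne (hmin L0 hL0.lt.le hL0.le h1)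
  set E := pCoreOf p L0 with hEdef
  have hEL : E ≤ L := (pCoreOf_le L0).trans hL0.lt.le
  have hEN : E ≤ Nz Y := by
    by_contra hne
    have hlt : E ⊓ Nz Y < E := lt_of_le_of_ne inf_le_left (fun h => hne (h ▸ inf_le_right))
    obtain ⟨e, heE, heN, heR⟩ := exists_mem_Nz_notMem (pCoreOf_isPGroup L0) hlt
    apply heR
    refine ⟨heE, ?_⟩
    have h1 : Y ≤ E ⊓ Nz Y := le_inf hE Subgroup.le_normalizer
    have h2 : cj e (E ⊓ Nz Y) = E ⊓ Nz Y := cj_eq_of_mem_Nz heN
    apply key e (hEL heE)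
    · exact (cj_mono h1).trans (h2.le.trans inf_le_right)
    · rw [← cj_Nz]
      exact h1.trans (h2.symm.le.trans (cj_mono inf_le_right))
  have hL0N : L0 ≤ Nz Y := by
    intro x hx
    have h1 : cj x E = E := cj_eq_of_mem_Nz (le_Nz_pCoreOf L0 hx)
    apply key x (hL0.lt.le hx)
    · exact (cj_mono hE).trans (h1.le.trans hEN)
    · rw [← cj_Nz]
      exact hE.trans (h1.symm.le.trans (cj_mono hEN))
  have hLN : L ⊓ Nz Y = L0 := by
    apply le_antisymm _ (le_inf hL0.lt.le hL0N)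
    apply hL0.max _ (le_inf hYL Subgroup.le_normalizer) inf_le_left
    intro h1
    exact hYO (le_pCoreOf hYL (h1.trans inf_le_right) hYp)
  rw [hLN]; exact hL0

theorem MF.lmin_charP (h : MF p S M) (hasym : ¬ IsSymmetricIn (largestPReducedOf p M)) {H L : Subgroup G}
    (f : FH p M H) (hLH : L ≤ H) (hYL : largestPReducedOf p M ≤ L) {g : G} (hg : g ∈ L)
    (hgen : largestPReducedOf p M ⊔ cj g (largestPReducedOf p M) = L) : CharP p L := by
  set Y := largestPReducedOf p M with hY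
  set B := pCoreOf p H with hB
  have hBp : IsPGroup p B := pCoreOf_isPGroup H
  have hHB : H ≤ Nz B := le_Nz_pCoreOf H
  have hBO : B ≤ Nz (pCoreOf p M) := h.pgroup_norm hasym f.le
  have hBY : B ≤ Nz Y := hBO.trans (h.Nz_O_le.trans h.nz.ge)
  have hBgY : B ≤ Nz (cj g Y) := by
    have := cj_mono (g := g) hBY
    rwa [cj_Nz, cj_eq_of_mem_Nz (hHB (hLH hg))] at this
  have hYab : Y ≤ Cz Y := (ea_iff.1 (isPRed_largest M).ea).1
  have hLB : L ≤ Nz B := hLH.trans hHB
  obtain ⟨e1, e2, e3⟩ := inf_Cz_eq hLB hYL hg hgen hBY hYab hBgY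
  have hgYL : cj g Y ≤ L := by
    have := cj_mono (g := g) hYL
    rwa [cj_eq_of_mem hg] at this
  have hBL : B ⊓ L ≤ pCoreOf p L := by
    apply le_pCoreOf inf_le_right _ (hBp.to_le inf_le_left)
    exact (le_inf hLB Subgroup.le_normalizer).trans (Nz_inf_le _ _)
  have hW : ⁅B, L⁆ ≤ pCoreOf p L := by
    rw [← e1]
    apply sup_le
    · exact (le_inf (commutator_le_left_iff.2 (hYL.trans hLB)) ((commutator_le_right_iff.2 hBY).trans hYL)).trans hBL
    · exact (le_inf (commutator_le_left_iff.2 (hgYL.trans hLB)) ((commutator_le_right_iff.2 hBgY).trans hgYL)).trans hBL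
  set C := L ⊓ Cz (pCoreOf p L) with hC
  have hLC : L ≤ Nz C := (le_inf Subgroup.le_normalizer ((le_Nz_pCoreOf L).trans (Nz_le_Nz_Cz _))).trans (Nz_inf_le _ _)
  have hq : ⁅⁅B, C⁆, C⁆ = ⊥ := by
    rw [commutator_eq_bot_iff_le_Cz]
    exact ((Subgroup.commutator_mono le_rfl inf_le_left).trans hW).trans (le_Cz_comm.1 inf_le_right)
  have h1 := resOf_le_Cz_of_quadratic hBp (inf_le_left.trans hLB) hq
  have h2 : resOf p C = ⊥ := by
    rw [eq_bot_iff, resOf_eq_closure, Subgroup.closure_le]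
    rintro y ⟨hy, hyp⟩
    exact f.charP.eq_one (hLH (hy.1)) (h1 (mem_resOf hy hyp)) hyp
  exact le_pCoreOf inf_le_left hLC (isPGroup_of_resOf_eq_bot h2)

theorem MF.lmin_core (h : MF p S M) (hasym : ¬ IsSymmetricIn (largestPReducedOf p M)) {H L : Subgroup G}
    (f : FH p M H) (hLH : L ≤ H) (hYL : largestPReducedOf p M ≤ L) (hLO : L ⊔ pCoreOf p M = H) {g : G} (hg : g ∈ L)
    (hgen : largestPReducedOf p M ⊔ cj g (largestPReducedOf p M) = L)
    (hPY : pCoreOf p L ≤ Nz (largestPReducedOf p M)) :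
    ncl L (pCoreOf p L ⊓ largestPReducedOf p M) ≤ pCoreOf p H := by
  set Y := largestPReducedOf p M with hY
  set O := pCoreOf p M with hO
  set B := pCoreOf p H with hB
  have hBp : IsPGroup p B := pCoreOf_isPGroup H
  have hHB : H ≤ Nz B := le_Nz_pCoreOf H
  have hBO : B ≤ Nz O := h.pgroup_norm hasym f.le
  have hBY : B ≤ Nz Y := hBO.trans (h.Nz_O_le.trans h.nz.ge)
  have hBgY : B ≤ Nz (cj g Y) := by
    have := cj_mono (g := g) hBY
    rwa [cj_Nz, cj_eq_of_mem_Nz (hHB (hLH hg))] at this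
  have hYab : Y ≤ Cz Y := (ea_iff.1 (isPRed_largest M).ea).1
  have hYO : Y ≤ O := (isPRed_largest M).le_pCoreOf
  have hLB : L ≤ Nz B := hLH.trans hHB
  have hOB : O ≤ Nz B := f.le.trans hHB
  obtain ⟨e1, e2, e3⟩ := inf_Cz_eq hLB hYL hg hgen hBY hYab hBgY
  have hcB : cj g B = B := cj_eq_of_mem_Nz (hLB hg)
  have hFO : B ⊓ O = B ⊓ Cz Y := by
    apply le_antisymm (inf_le_inf_left _ h.O_le_C)
    have h1 : IsPGroup p ↥(O ⊔ B) := isPGroup_sup_of_le_Nz (pCoreOf_isPGroup M) hBp (f.le.trans hHB)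
    apply le_inf inf_le_left
    rw [← h.inf_C h1 le_sup_left]
    exact inf_le_inf_right _ le_sup_right
  set B0 := pCoreOf p L ⊓ Y with hB0
  have hB0L : B0 ≤ L := inf_le_right.trans hYL
  -- it suffices that `B0 ≤ B`
  have hsuff : B0 ≤ B := by
    set D := (B ⊓ Cz Y) ⊔ (B ⊓ Cz (cj g Y)) with hD
    have hDB : D ≤ B := sup_le inf_le_left inf_le_left
    have h1 : ⁅B, O⁆ ≤ B ⊓ Cz Y := by
      rw [← hFO]
      exact le_inf (commutator_le_left_iff.2 hOB) (commutator_le_right_iff.2 hBO)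
    have h2 : ⁅B, cj g O⁆ ≤ B ⊓ Cz (cj g Y) := by
      have := cj_mono (g := g) h1
      rwa [cj_commutator, hcB, cj_inf, hcB, cj_Cz] at this
    have hHD : H ≤ Nz D := by
      have h3 : H ≤ O ⊔ cj g O := by
        rw [← hLO]
        apply sup_le _ le_sup_left
        rw [← hgen]
        exact sup_le (hYO.trans le_sup_left) ((cj_mono hYO).trans le_sup_right)
      refine h3.trans (sup_le ?_ ?_)
      · rw [← commutator_le_left_iff]
        exact ((Subgroup.commutator_mono hDB le_rfl).trans h1).trans le_sup_left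
      · rw [← commutator_le_left_iff]
        exact ((Subgroup.commutator_mono hDB le_rfl).trans h2).trans le_sup_right
    set Z := B ⊓ Cz H with hZ
    have hHZ : H ≤ Nz Z := by
      refine (le_inf hHB ?_).trans (Nz_inf_le _ _)
      exact Subgroup.le_normalizer.trans (Nz_le_Nz_Cz H)
    set K := H ⊓ (chainStab B D ⊓ chainStab D Z) with hK
    have hHK : H ≤ Nz K := by
      refine (le_inf Subgroup.le_normalizer ?_).trans (Nz_inf_le _ _)
      refine (le_inf ?_ ?_).trans (Nz_inf_le _ _)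
      · exact (le_inf hHB hHD).trans (Nz_inf_le_Nz_chainStab _ _)
      · exact (le_inf hHD hHZ).trans (Nz_inf_le_Nz_chainStab _ _)
    have hKB : resOf p K ≤ Cz B := by
      have h3 : resOf p K ≤ Cz D := by
        apply resOf_le_Cz_of_chainStab (hBp.to_le (inf_le_left : Z ≤ B)) (inf_le_right.trans inf_le_right)
        exact le_Cz_comm.1 (inf_le_right.trans (Cz_anti inf_le_left))
      rw [← resOf_resOf K]
      apply resOf_le_Cz_of_chainStab (hBp.to_le hDB) _ h3
      exact (resOf_le K).trans (inf_le_right.trans inf_le_left)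
    have hKbot : resOf p K = ⊥ := by
      rw [← resOf_resOf K, eq_bot_iff, resOf_eq_closure, Subgroup.closure_le]
      rintro y ⟨hy, hyp⟩
      exact f.charP.eq_one (((resOf_le K).trans inf_le_left) hy) (hKB hy) hyp
    have hKle : K ≤ B := le_pCoreOf inf_le_left hHK (isPGroup_of_resOf_eq_bot hKbot)
    refine le_trans ?_ hKle
    have hB0H : B0 ≤ H := hB0L.trans hLH
    have hB0Y : B0 ≤ Y := inf_le_right
    refine le_inf hB0H (le_inf ?_ ?_)
    · rw [le_chainStab_iff (hB0H.trans hHB), Subgroup.commutator_comm]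
      refine le_trans ?_ (le_sup_left : B ⊓ Cz Y ≤ D)
      refine le_inf (commutator_le_left_iff.2 (hB0H.trans hHB)) ?_
      exact ((Subgroup.commutator_mono le_rfl hB0Y).trans (commutator_le_right_iff.2 hBY)).trans hYab
    · rw [le_chainStab_iff (hB0H.trans hHD)]
      apply comm_sup_le'
      · exact (inf_le_left.trans (pCoreOf_le H)).trans hHZ
      · exact (inf_le_left.trans (pCoreOf_le H)).trans hHZ
      · exact hB0H.trans hHZ
      · rw [commutator_eq_bot_iff_le_Cz.2]
        · exact bot_le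
        · exact hB0Y.trans (le_Cz_comm.1 inf_le_right)
      · -- `B ∩ C(Y^g) = C_B(L) [B, Y^g]`
        have e4 : B ⊓ Cz (cj g Y) = (B ⊓ Cz L) ⊔ cj g ⁅B, Y⁆ := by
          have h3 := congrArg (cj g) e3
          rw [cj_inf, hcB, cj_Cz, cj_sup, cj_inf, hcB, cj_Cz, cj_eq_of_mem hg] at h3
          exact h3
        rw [e4]
        apply comm_sup_le'
        · exact (inf_le_left.trans (pCoreOf_le H)).trans hHZ
        · have h4 : cj g ⁅B, Y⁆ ≤ B := by
            rw [cj_commutator, hcB]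
            apply commutator_le_left_iff.2
            have := cj_mono (g := g) (hYL.trans hLB)
            rwa [cj_Nz, hcB] at this
          exact (h4.trans (pCoreOf_le H)).trans hHZ
        · exact hB0H.trans hHZ
        · rw [commutator_eq_bot_iff_le_Cz.2]
          · exact bot_le
          · exact hB0L.trans (le_Cz_comm.1 inf_le_right)
        · have h5 : cj g ⁅B, Y⁆ ≤ B ⊓ cj g Y := by
            rw [cj_commutator, hcB]
            apply le_inf
            · apply commutator_le_left_iff.2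
              have := cj_mono (g := g) (hYL.trans hLB)
              rwa [cj_Nz, hcB] at this
            · exact commutator_le_right_iff.2 hBgY
          have h6 : pCoreOf p L ≤ Nz (cj g Y) := by
            have := cj_mono (g := g) hPY
            rwa [cj_Nz, cj_eq_of_mem_Nz (le_Nz_pCoreOf L hg)] at this
          have h7 : ⁅B0, cj g ⁅B, Y⁆⁆ ≤ B ⊓ (Y ⊓ cj g Y) := by
            refine le_inf ?_ (le_inf ?_ ?_)
            · refine (Subgroup.commutator_mono le_rfl (h5.trans inf_le_left)).trans ?_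
              exact commutator_le_right_iff.2 (hB0H.trans hHB)
            · refine (Subgroup.commutator_mono hB0Y (h5.trans inf_le_left)).trans ?_
              exact commutator_le_left_iff.2 hBY
            · refine (Subgroup.commutator_mono (inf_le_left : B0 ≤ pCoreOf p L) (h5.trans inf_le_right)).trans ?_
              exact commutator_le_right_iff.2 h6
          refine h7.trans (inf_le_inf_left _ ?_)
          rw [← hLO, Cz_sup, ← hgen, Cz_sup]
          have hgYab : cj g Y ≤ Cz (cj g Y) := by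
            have := cj_mono (g := g) hYab
            rwa [cj_Cz] at this
          refine le_inf (le_inf (inf_le_left.trans hYab) (inf_le_right.trans hgYab)) ?_
          exact inf_le_left.trans (le_Cz_comm.1 h.O_le_C)
  apply ncl_le hsuff hLB

/-- a nilpotently acting group: `[V, P] W < V` -/
theorem comm_sup_lt {V W P : Subgroup G} (hP : IsPGroup p P) (hVP : V ≤ P) (hPW : P ≤ Nz W) (hW : W ≤ V)
    (h : V ≤ ⁅V, P⁆ ⊔ W) : V ≤ W := by
  have hnil : Group.IsNilpotent P := hP.isNilpotent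
  have hWn : (W.subgroupOf P).Normal := (normal_subgroupOf_iff (hW.trans hVP)).2 hPW
  set Pq := P ⧸ W.subgroupOf P
  have hnilq : Group.IsNilpotent Pq := inferInstance
  set Vq := (V.subgroupOf P).map (QuotientGroup.mk' (W.subgroupOf P)) with hVq
  have h1 : Vq ≤ ⁅Vq, (⊤ : Subgroup Pq)⁆ := by
    have h2 : V.subgroupOf P ≤ ⁅V.subgroupOf P, (⊤ : Subgroup P)⁆ ⊔ W.subgroupOf P := by
      have h3 : (V.subgroupOf P).map P.subtype ≤ (⁅V.subgroupOf P, (⊤ : Subgroup P)⁆ ⊔ W.subgroupOf P).map P.subtype := by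
        rw [Subgroup.map_sup, Subgroup.map_commutator, map_top_subtype, Subgroup.map_subgroupOf_eq_of_le hVP,
          Subgroup.map_subgroupOf_eq_of_le (hW.trans hVP)]
        exact h
      exact (Subgroup.map_le_map_iff_of_injective P.subtype_injective).1 h3
    have h4 := Subgroup.map_mono (f := QuotientGroup.mk' (W.subgroupOf P)) h2
    rw [Subgroup.map_sup, QuotientGroup.map_mk'_self, sup_bot_eq, Subgroup.map_commutator,
      Subgroup.map_top_of_surjective _ (QuotientGroup.mk'_surjective _)] at h4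
    exact h4
  have h2 : ∀ n, Vq ≤ (⊤ : Subgroup Pq).lowerCentralSeries n := by
    intro n
    induction n with
    | zero => exact le_top
    | succ n ih =>
      refine h1.trans ?_
      rw [Subgroup.lowerCentralSeries_succ]
      exact Subgroup.commutator_mono ih le_rfl
  obtain ⟨n, hn⟩ := Subgroup.nilpotent_iff_lowerCentralSeries.1 hnilq
  have h3 : Vq = ⊥ := le_bot_iff.1 (hn ▸ h2 n)
  rw [hVq, Subgroup.map_eq_bot_iff, QuotientGroup.ker_mk'] at h3
  intro v hv
  exact h3 (show (⟨v, hVP hv⟩ : P) ∈ V.subgroupOf P from hv)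

end Cfsg.Agent.H17.FrakM
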