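import Cfsg.Agent.H17_WC

/-! Facts on large subgroups (`Q!`). -/

set_option autoImplicit false
open Cfsg
open scoped commutatorElement

namespace Cfsg.Agent.H17.Base
open Cfsg.Agent.H17.Amalgam

variable {G : Type*} [Group G] {p : ℕ}

section
variable [Fact p.Prime] [Finite G] {Q : Subgroup G} (hL : IsLarge Q) (hQp : IsPGroup p Q) (hQ1 : Q ≠ ⊥)
include hL hQp hQ1

theorem large_comm_facts {L Y : Subgroup G} (hQL : Q ≤ L) (hYp : IsPGroup p Y) (hY1 : Y ≠ ⊥) (hLY : L ≤ Nz Y) :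
    ncl (L ⊔ Cz Y) Q = ncl L Q ∧ ⁅ncl L Q, Cz Y⁆ ≤ pCoreOf p (ncl L Q) ∧ Cz Y ≤ Nz (ncl L Q) := by
  have hCn : ∀ g : G, cj g Q ≤ L → Cz Y ≤ Nz (cj g Q) := by
    intro g hg
    exact IsLarge.Cz_le (IsLarge.cj hL g) (cj_isPGroup hQp) hYp hY1 (hg.trans hLY)
  have hnorm : Cz Y ≤ Nz (ncl L Q) := by
    unfold ncl
    apply le_Nz_iSup
    intro g
    apply hCn
    have := cj_mono (g := (g : G)) hQL
    rwa [cj_eq_of_mem g.2] at this
  have hconj : ∀ l ∈ L, cj l Q ≤ L := by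
    intro l hl
    have := cj_mono (g := l) hQL
    rwa [cj_eq_of_mem hl] at this
  refine ⟨?_, ?_, hnorm⟩
  · apply le_antisymm
    · exact ncl_le (le_ncl L Q) (sup_le (le_Nz_ncl L Q) hnorm)
    · rw [ncl_le_iff]
      intro g hg
      exact cj_le_ncl ((le_sup_left : L ≤ _) hg)
  · have h1 : ⁅ncl L Q, Cz Y⁆ ≤ Cfsg.pCoreOf p (Cz Y) := by
      have h2 : ncl L Q ≤ Nz (Cz Y) := (ncl_le_self hQL).trans (hLY.trans (Nz_le_Nz_Cz Y))
      rw [← le_chainStab_iff h2]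
      rw [ncl_le_iff]
      intro l hl
      have h3 : cj l Q ≤ Nz (Cz Y) := (hconj l hl).trans (hLY.trans (Nz_le_Nz_Cz Y))
      rw [le_chainStab_iff h3]
      have h4 := hCn l (hconj l hl)
      apply le_pCoreOf
      · exact commutator_le_right_iff.2 h3
      · exact Subgroup.normalizer_commutator_ge_right _ _
      · exact (cj_isPGroup hQp (g := l)).to_le (commutator_le_left_iff.2 h4)
    have h2 : ⁅ncl L Q, Cz Y⁆ ≤ ncl L Q := commutator_le_left_iff.2 hnorm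
    apply le_pCoreOf h2 (Subgroup.normalizer_commutator_ge_left _ _)
    exact (pCoreOf_isPGroup (p := p) (Cz Y)).to_le h1

theorem large_charP {L : Subgroup G} (hQL : Q ≤ L) (hO : pCoreOf p L ≠ ⊥) :
    IsPGroup p ↥(Cz (pCoreOf p L)) ∧ CharP p L := by
  set Y := pCoreOf p L with hY
  have hYp : IsPGroup p Y := pCoreOf_isPGroup L
  have hLY : L ≤ Nz Y := le_Nz_pCoreOf L
  obtain ⟨f1, f2, f3⟩ := large_comm_facts hL hQp hQ1 hQL hYp hO hLY
  have hCQ : Cz Y ≤ Nz Q := IsLarge.Cz_le hL hQp hYp hO (hQL.trans hLY)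
  have hn : L ≤ Nz ⁅ncl L Q, Cz Y⁆ :=
    (le_inf (le_Nz_ncl L Q) (hLY.trans (Nz_le_Nz_Cz Y))).trans (Nz_commutator_le _ _)
  have h1 : ⁅ncl L Q, Cz Y⁆ ≤ Y := by
    apply le_pCoreOf _ hn
    · exact (pCoreOf_isPGroup (p := p) _).to_le f2
    · exact (commutator_le_left_iff.2 f3).trans (ncl_le_self hQL)
  have h2 : ⁅Cz Y, Q⁆ ≤ Y := by
    rw [Subgroup.commutator_comm]
    exact (Subgroup.commutator_mono (le_ncl L Q) le_rfl).trans h1
  have hDp : IsPGroup p ↥(Cz Y) := by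
    apply isPGroup_of_resOf_eq_bot
    rw [resOf_eq_closure, eq_bot_iff, Subgroup.closure_le]
    rintro x ⟨hx, hxp⟩
    rw [SetLike.mem_coe, Subgroup.mem_bot]
    have h3 : x ∈ chainStab Q Y := (le_chainStab_iff hCQ).2 h2 hx
    have h4 : x ∈ Cz Q := mem_Cz_of_chainStab_p hYp h3 hx hxp
    have h5 : x ∈ resOf p Q := mem_resOf (hL.1 h4) hxp
    rwa [resOf_eq_bot_iff.2 hQp, Subgroup.mem_bot] at h5
  refine ⟨hDp, ?_⟩
  exact le_pCoreOf inf_le_left ((le_inf Subgroup.le_normalizer (hLY.trans (Nz_le_Nz_Cz Y))).trans (Nz_inf_le _ _))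
    (hDp.to_le inf_le_right)

theorem large_inf_centralizer {g : G} (hg : g ∉ Nz Q) : Cz Q ⊓ Cz (cj g Q) = ⊥ := by
  by_contra hU
  apply hg
  have hw := IsLarge.wcl (p := p) hL hQ1
  have h1 := hL.2 (Cz Q ⊓ Cz (cj g Q)) inf_le_left hU
  have h2 := (IsLarge.cj hL g).2 (Cz Q ⊓ Cz (cj g Q)) inf_le_right hU
  have h3 : Q ≤ Nz (Cz Q ⊓ Cz (cj g Q)) := (le_Cz_comm.1 inf_le_left).trans (Cz_le_Nz _)
  have h4 : cj g Q ≤ Nz (Cz Q ⊓ Cz (cj g Q)) := (le_Cz_comm.1 inf_le_right).trans (Cz_le_Nz _)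
  rw [mem_Nz_iff_cj]
  apply hw.comm hQp le_top g (Subgroup.mem_top g)
  apply le_inf
  · rw [commutator_le_left_iff]; exact h4.trans h1
  · rw [commutator_le_right_iff]; exact h3.trans h2

theorem large_ncl_centralizer {L : Subgroup G} (_hQL : Q ≤ L) : ncl L Q = Q ∨ Cz (ncl L Q) = ⊥ := by
  by_cases h : L ≤ Nz Q
  · left
    exact le_antisymm (ncl_le le_rfl h) (le_ncl L Q)
  · right
    obtain ⟨g, hg, hgQ⟩ := SetLike.not_le_iff_exists.1 h
    have h1 := large_inf_centralizer hL hQp hQ1 hgQ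
    rw [eq_bot_iff, ← h1]
    exact le_inf (Cz_anti (le_ncl L Q)) (Cz_anti (cj_le_ncl hg))

theorem large_parabolic {T R : Subgroup G} (hT : IsSylowIn p T ⊤) (hTR : T ≤ R) (hO : pCoreOf p R ≠ ⊥) :
    Cz (pCoreOf p R) ≤ pCoreOf p R := by
  obtain ⟨h, -, hh⟩ := hT.exists_conj_le hQp le_top
  have hQ1' : cj h Q ≠ ⊥ := cj_ne_bot' hQ1
  obtain ⟨h1, h2⟩ := large_charP (IsLarge.cj hL h) (cj_isPGroup hQp) hQ1' (hh.trans hTR) hO
  have h3 : R ≤ Nz (Cz (pCoreOf p R)) := (le_Nz_pCoreOf R).trans (Nz_le_Nz_Cz _)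
  have h4 : Cz (pCoreOf p R) ≤ T := by
    have h5 : IsPGroup p ↥(T ⊔ Cz (pCoreOf p R)) := isPGroup_sup_of_le_Nz hT.isPGroup h1 (hTR.trans h3)
    have h6 := hT.eq_of_le le_top h5 le_sup_left
    rw [← h6]; exact le_sup_right
  exact le_pCoreOf (h4.trans hTR) h3 h1

end

end Cfsg.Agent.H17.Base
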