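import Cfsg.Agent.H7_OctadStab
import Cfsg.Agent.H14_SylowSym

set_option autoImplicit false

/-! Sylow 2-subgroups of `M24` are self-normalizing. -/

namespace Cfsg.Agent.H17.M24

open Cfsg Cfsg.Agent.H7.Golay Cfsg.Agent.H7.Oct Cfsg.Agent.H7.M24 Cfsg.Agent.H7.M24b Cfsg.Agent.H7.M24c
  Cfsg.Agent.H7.M24d Cfsg.Agent.H7.OctadStab Cfsg.Agent.H14.SylowSym
open scoped Pointwise

theorem main : SN ↥Cfsg.M24 := by
  classical
  have ho : (ofMask 0x149f : Finset GolayPt) ∈ octads := oct0_mem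
  generalize (ofMask 0x149f : Finset GolayPt) = o at ho
  set W : Subgroup ↥Cfsg.M24 := (Cfsg.M24 ⊓ MulAction.stabilizer (Equiv.Perm GolayPt) o).subgroupOf Cfsg.M24 with hW
  have hWmem : ∀ g : ↥Cfsg.M24, g ∈ W ↔ (g : Equiv.Perm GolayPt) • o = o := by
    intro g
    rw [hW, Subgroup.mem_subgroupOf, Subgroup.mem_inf]
    exact ⟨fun h => h.2, fun h => ⟨g.2, h⟩⟩
  let e : W ≃* ↥(Cfsg.M24 ⊓ MulAction.stabilizer (Equiv.Perm GolayPt) o) := Subgroup.subgroupOfEquivOfLe inf_le_left
  let f₀ : ↥(Cfsg.M24 ⊓ MulAction.stabilizer (Equiv.Perm GolayPt) o) →* alternatingGroup ↥o :=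
    (restr Cfsg.M24 o).codRestrict (alternatingGroup ↥o) (fun x => by
      rw [← range_restr_octad ho]; exact ⟨x, rfl⟩)
  let f : W →* alternatingGroup ↥o := f₀.comp e.toMonoidHom
  have hf₀ : Function.Surjective f₀ := by
    rintro ⟨y, hy⟩
    rw [← range_restr_octad ho] at hy
    obtain ⟨x, hx⟩ := hy
    exact ⟨x, Subtype.ext hx⟩
  have hf : Function.Surjective f := hf₀.comp e.surjective
  have hSN : SN (alternatingGroup ↥o) :=
    SN_congr (o.equivFinOfCardEq ho.2).symm.altCongrHom (SN_alt 8 (by norm_num))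
  have hWcard : Nat.card W = 322560 := by
    rw [Nat.card_congr e.toEquiv, card_stab_octad ho]
  have hidx : Odd W.index := by
    have h1 := W.card_mul_index
    rw [hWcard, card_M24] at h1
    have h2 : W.index = 759 := by omega
    rw [h2]; decide
  obtain ⟨Q, hQ⟩ := exists_sylow_le W hidx
  set V : Subgroup ↥Cfsg.M24 := (Cfsg.M24 ⊓ fixingSubgroup (Equiv.Perm GolayPt) (o : Set GolayPt)).subgroupOf Cfsg.M24 with hV
  have hVmem : ∀ g : ↥Cfsg.M24, g ∈ V ↔ ∀ p ∈ o, (g : Equiv.Perm GolayPt) p = p := by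
    intro g
    rw [hV, Subgroup.mem_subgroupOf, mem_fixing]
    exact ⟨fun h => h.2, fun h => ⟨g.2, h⟩⟩
  have hVcard : Nat.card V = 16 := by
    rw [Nat.card_congr (Subgroup.subgroupOfEquivOfLe inf_le_left).toEquiv, card_fixing_octad ho]
  have hV2 : IsPGroup 2 V := IsPGroup.of_card (n := 4) (by rw [hVcard]; norm_num)
  have hWV : W ≤ Subgroup.normalizer (V : Set ↥Cfsg.M24) := by
    have key : ∀ g ∈ W, ∀ v ∈ V, g * v * g⁻¹ ∈ V := by
      intro g hg v hv
      rw [hVmem] at hv ⊢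
      intro p hp
      have h1 : (g⁻¹ : Equiv.Perm GolayPt) • o = o := by
        have := (hWmem g).mp hg
        rw [inv_smul_eq_iff, this]
      have h2 : (g : Equiv.Perm GolayPt)⁻¹ p ∈ o := (apply_mem_iff h1 p).mpr hp
      show (g : Equiv.Perm GolayPt) ((v : Equiv.Perm GolayPt) ((g : Equiv.Perm GolayPt)⁻¹ p)) = p
      rw [hv _ h2]
      exact (g : Equiv.Perm GolayPt).apply_symm_apply p
    intro g hg
    rw [Subgroup.mem_normalizer_iff]
    intro v
    refine ⟨key g hg v, fun h => ?_⟩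
    have := key g⁻¹ (W.inv_mem hg) _ h
    have e1 : g⁻¹ * (g * v * g⁻¹) * g⁻¹⁻¹ = v := by group
    rwa [e1] at this
  have hVQ : V ≤ (Q : Subgroup ↥Cfsg.M24) := le_sylow_of_normal Q V hV2 (hQ.trans hWV)
  apply SN_of_one Q
  apply sylow_final W f hf hSN Q hQ
  · -- the normalizer fixes the octad
    intro g hg
    rw [hWmem]
    have hsub : (g : Equiv.Perm GolayPt) • o ⊆ o := by
      intro p hp
      by_contra hpo
      let F : V → ↥((g : Equiv.Perm GolayPt) • o) := fun v => ⟨(v : Equiv.Perm GolayPt) p, by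
        have h1 : g⁻¹ * v * g ∈ (Q : Subgroup ↥Cfsg.M24) := by
          have := (Subgroup.mem_normalizer_iff.mp (Subgroup.inv_mem _ hg) v).mp (hVQ v.2)
          rwa [inv_inv] at this
        have h2 := (hWmem _).mp (hQ h1)
        have h3 : ((v : ↥Cfsg.M24) : Equiv.Perm GolayPt) • ((g : Equiv.Perm GolayPt) • o) = (g : Equiv.Perm GolayPt) • o := by
          have h4 : ((g⁻¹ * v * g : ↥Cfsg.M24) : Equiv.Perm GolayPt) =
              (g : Equiv.Perm GolayPt)⁻¹ * (v : Equiv.Perm GolayPt) * (g : Equiv.Perm GolayPt) := rfl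
          rw [h4, mul_assoc, mul_smul, inv_smul_eq_iff, mul_smul] at h2
          exact h2
        exact (apply_mem_iff h3 p).mpr hp⟩
      have hF : Function.Injective F := by
        intro v w hvw
        have h1 : (v : Equiv.Perm GolayPt) p = (w : Equiv.Perm GolayPt) p := congrArg Subtype.val hvw
        have h2 : ((w : ↥Cfsg.M24) : Equiv.Perm GolayPt)⁻¹ * ((v : ↥Cfsg.M24) : Equiv.Perm GolayPt) ∈
            (Cfsg.M24 ⊓ fixingSubgroup (Equiv.Perm GolayPt) (o : Set GolayPt)) ⊓
            (Cfsg.M24 ⊓ MulAction.stabilizer (Equiv.Perm GolayPt) o ⊓ MulAction.stabilizer (Equiv.Perm GolayPt) p) := by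
          have hvw' : ((w : ↥Cfsg.M24) : Equiv.Perm GolayPt)⁻¹ * ((v : ↥Cfsg.M24) : Equiv.Perm GolayPt) ∈
              Cfsg.M24 ⊓ fixingSubgroup (Equiv.Perm GolayPt) (o : Set GolayPt) :=
            (Subgroup.mem_subgroupOf).mp (V.mul_mem (V.inv_mem w.2) v.2)
          refine ⟨hvw', ⟨hvw'.1, ?_⟩, ?_⟩
          · apply smul_eq_of_forall
            intro x
            have h5 := (mem_fixing.mp hvw').2
            constructor
            · intro hx
              have h6 := h5 _ hx
              have h7 := (((w : ↥Cfsg.M24) : Equiv.Perm GolayPt)⁻¹ * ((v : ↥Cfsg.M24) : Equiv.Perm GolayPt)).injective h6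
              rwa [h7] at hx
            · intro hx
              rw [h5 x hx]; exact hx
          · show ((w : ↥Cfsg.M24) : Equiv.Perm GolayPt)⁻¹ (((v : ↥Cfsg.M24) : Equiv.Perm GolayPt) p) = p
            rw [h1]
            exact ((w : ↥Cfsg.M24) : Equiv.Perm GolayPt).symm_apply_apply p
        rw [fixing_inf ho hpo, Subgroup.mem_bot, inv_mul_eq_one] at h2
        exact Subtype.ext (Subtype.ext h2.symm)
      have h3 := Nat.card_le_card_of_injective F hF
      rw [hVcard, Nat.card_eq_fintype_card, Fintype.card_coe, Finset.card_smul_finset, ho.2] at h3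
      omega
    exact Finset.eq_of_subset_of_card_le hsub (by rw [Finset.card_smul_finset])
  · intro g hg
    apply hVQ
    rw [hVmem]
    have h1 : restr Cfsg.M24 o (e g) = 1 := congrArg Subtype.val hg
    exact (restr_ker (e g)).mp h1

end Cfsg.Agent.H17.M24
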