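import Cfsg.Agent.H17_FrakM
import Cfsg.Agent.H17_WC
import Cfsg.Agent.H17_Large
import Cfsg.Agent.H17_SNC

/-! Facts on `M ∈ 𝔐_G(S)`; the asymmetric case. -/

set_option autoImplicit false

namespace Cfsg.Agent.H17.FrakM

open Cfsg Cfsg.Agent.H17.Base Cfsg.Agent.H17.Amalgam

variable {G : Type*} [Group G] {p : ℕ}

theorem Par.of_large [Fact p.Prime] [Finite G] {S Q : Subgroup G} (hS : IsSylowIn p S ⊤) (hL : IsLarge Q)
    (hQp : IsPGroup p Q) (hQ1 : Q ≠ ⊥) : Par p S :=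
  ⟨hS, fun _ hTR hO => large_parabolic hL hQp hQ1 hS hTR hO⟩

/-- basic facts on `M ∈ 𝔐_G(S)` -/
structure MF (p : ℕ) (S M : Subgroup G) : Prop where
  par : Par p S
  le : S ≤ M
  ne : pCoreOf p M ≠ ⊥
  core : pCoreOf p M = S ⊓ Cz (largestPReducedOf p M)
  syl : IsSylowIn p (pCoreOf p M) (Cz (largestPReducedOf p M))
  max : ∀ X : Subgroup G, M ≤ X → pCoreOf p X ≠ ⊥ → X ≤ dg p M
  nz : Nz (largestPReducedOf p M) = dg p M
  cz : Cz (pCoreOf p M) ≤ pCoreOf p M
  OZ : largestPReducedOf p M = Cfsg.Agent.H17.Amalgam.OZ p (pCoreOf p M)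
  yne : largestPReducedOf p M ≠ ⊥
  ydg : largestPReducedOf p M = largestPReducedOf p (dg p M)

theorem MF.of [Fact p.Prime] [Finite G] {S M : Subgroup G} (h : Par p S) (hSM : S ≤ M) (hM : IsInFrakM p M) :
    MF p S M := by
  obtain ⟨h1, h2, h3, h4, h5, h6⟩ := isInFrakM_iff.1 hM
  have hO : pCoreOf p M ≠ ⊥ := (h.mem hSM).1 h1
  set Y := largestPReducedOf p M with hY
  have hYr := isPRed_largest (p := p) M
  have hSs := h.sylR hSM
  have hn : M ≤ Nz (M ⊓ Cz Y) := (le_inf Subgroup.le_normalizer (hYr.norm.trans (Nz_le_Nz_Cz Y))).trans (Nz_inf_le _ _)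
  have hT0 := hSs.inf_normal inf_le_left hn
  have e1 : S ⊓ (M ⊓ Cz Y) = S ⊓ Cz Y := by rw [← inf_assoc, inf_eq_left.2 hSM]
  rw [e1] at hT0
  have hcore : pCoreOf p M = S ⊓ Cz Y := by
    apply le_antisymm
    · exact le_inf (pCoreOf_le_sylow hSs) hYr.pCoreOf_le_Cz
    · rw [h5.sylow_eq hT0]
      exact pCoreOf_mono_normal inf_le_left hn
  have hmax : ∀ X : Subgroup G, M ≤ X → pCoreOf p X ≠ ⊥ → X ≤ dg p M := by
    intro X hMX hXO
    have hX : X ∈ charPSubgroups p G := (h.mem (hSM.trans hMX)).2 hXO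
    obtain ⟨X', hXX', hX'⟩ : ∃ X', X ≤ X' ∧ X' ∈ maxCharPSubgroups p G := by
      obtain ⟨X', hXX', hmax⟩ := exists_maximal_ge_of_wellFoundedGT (fun K : Subgroup G => K ∈ charPSubgroups p G) X hX
      exact ⟨X', hXX', hmax.prop, fun K hK hXK => le_antisymm (hmax.le_of_ge hK hXK) hXK⟩
    have := h3 X' hX' (hMX.trans hXX')
    rw [← this]; exact hXX'
  have hYne := h.Y_ne hSM hO
  have hdgN : dg p M ≤ Nz Y := Y_dg_norm M
  have hSd : S ≤ dg p M := hSM.trans le_sup_left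
  have hsylC : IsSylowIn p (S ⊓ Cz Y) (Cz Y) :=
    (h.sylR hSd).inf_normal le_sup_right (hdgN.trans (Nz_le_Nz_Cz Y))
  refine ⟨h, hSM, hO, hcore, hcore ▸ hsylC, hmax, ?_, h.cz M hSM hO, ?_, hYne, h4⟩
  · apply le_antisymm _ hdgN
    apply hmax _ hYr.norm
    intro h7
    apply hYne
    rw [← le_bot_iff, ← h7]
    apply le_pCoreOf (ea_iff.1 hYr.ea |>.1.trans (Cz_le_Nz Y)) le_rfl hYr.isPGroup
  · obtain ⟨-, -, -, -, f5, -⟩ := largest_facts (h.charP hSM hO) hSs (T0 := S ⊓ Cz Y) rfl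
    rw [hcore]
    exact f5

set_option linter.unusedSectionVars false
set_option linter.unusedVariables false

section
variable [Fact p.Prime] [Finite G] {S M : Subgroup G}

theorem MF.Y_le_O (_h : MF p S M) : largestPReducedOf p M ≤ pCoreOf p M := (isPRed_largest M).le_pCoreOf

theorem MF.O_le_C (h : MF p S M) : pCoreOf p M ≤ Cz (largestPReducedOf p M) := h.syl.le

theorem MF.inf_C (h : MF p S M) {R : Subgroup G} (hR : IsPGroup p R) (hOR : pCoreOf p M ≤ R) :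
    R ⊓ Cz (largestPReducedOf p M) = pCoreOf p M :=
  h.syl.eq_of_le inf_le_right (hR.to_le inf_le_left) (le_inf hOR h.O_le_C)

theorem MF.Nz_le (h : MF p S M) {I : Subgroup G} (hI : IsPGroup p I) (hI1 : I ≠ ⊥) (hMI : M ≤ Nz I) :
    Nz I ≤ dg p M := by
  apply h.max _ hMI
  intro h7
  apply hI1
  rw [← le_bot_iff, ← h7]
  exact le_pCoreOf Subgroup.le_normalizer le_rfl hI

theorem MF.Nz_O_le (h : MF p S M) : Nz (pCoreOf p M) ≤ dg p M := h.Nz_le (pCoreOf_isPGroup M) h.ne (le_Nz_pCoreOf M)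

theorem MF.wcl (h : MF p S M) : WCl p (pCoreOf p M) (dg p M) := by
  intro R hR hRp hOR x hx
  have hx1 : x ∈ Nz (largestPReducedOf p M) := h.nz ▸ hx.1
  have hx2 : x ∈ Nz (Cz (largestPReducedOf p M)) := Nz_le_Nz_Cz _ hx1
  have hx3 : x ∈ Nz (R ⊓ Cz (largestPReducedOf p M)) := Nz_inf_le _ _ ⟨hx.2, hx2⟩
  rwa [h.inf_C hRp hOR] at hx3

theorem MF.mem_dg (h : MF p S M) {x : G} : x ∈ dg p M ↔ ∃ m ∈ M, ∃ c ∈ Cz (largestPReducedOf p M), x = m * c :=
  mem_sup_of_le_Nz ((isPRed_largest M).norm.trans (Nz_le_Nz_Cz _))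

theorem MF.mem_dg' (h : MF p S M) {x : G} : x ∈ dg p M ↔ ∃ c ∈ Cz (largestPReducedOf p M), ∃ m ∈ M, x = c * m := by
  unfold dg
  rw [sup_comm]
  exact mem_sup_of_le_Nz' ((isPRed_largest M).norm.trans (Nz_le_Nz_Cz _))

/-! ### the asymmetric case -/

theorem asym_comm {Y : Subgroup G} (hasym : ¬ IsSymmetricIn Y) {g : G} (h1 : cj g Y ≤ Nz Y) (h2 : Y ≤ Nz (cj g Y)) :
    Y ≤ Cz (cj g Y) := by
  by_contra hne
  apply hasym
  refine ⟨g, ?_, ?_⟩
  · intro h
    exact hne (commutator_eq_bot_iff_le_Cz.1 h)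
  · exact le_inf (commutator_le_left_iff.2 h1) (commutator_le_right_iff.2 h2)

theorem asym_comm' {Y : Subgroup G} (hasym : ¬ IsSymmetricIn Y) {a b : G} (h1 : cj b Y ≤ Nz (cj a Y)) (h2 : cj a Y ≤ Nz (cj b Y)) :
    cj a Y ≤ Cz (cj b Y) := by
  have h3 : Y ≤ Cz (cj (a⁻¹ * b) Y) := by
    apply asym_comm hasym
    · rw [cj_mul, ← le_cj_iff, cj_Nz]; exact h1
    · rw [cj_mul, ← cj_Nz, ← cj_le_iff]; exact h2
  rw [cj_mul, ← cj_Cz, ← cj_le_iff] at h3
  exact h3

/-- normal closure of `Y` in `N_G(R)` is elementary abelian -/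
theorem MF.ncl_ea (h : MF p S M) (hasym : ¬ IsSymmetricIn (largestPReducedOf p M)) {R : Subgroup G}
    (hYR : largestPReducedOf p M ≤ R) (hR : R ≤ dg p M) : IsElementaryAbelian p (ncl (Nz R) (largestPReducedOf p M)) := by
  set Y := largestPReducedOf p M with hY
  have hea := (isPRed_largest (p := p) M).ea
  have hRN : R ≤ Nz Y := hR.trans h.nz.ge
  apply ea_iSup (fun g => ea_cj hea)
  intro a b
  have key : ∀ a ∈ Nz R, cj a Y ≤ R ∧ R ≤ Nz (cj a Y) := by
    intro a ha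
    have h1 := cj_mono (g := a) hYR
    have h2 := cj_mono (g := a) hRN
    rw [cj_eq_of_mem_Nz ha] at h1 h2
    rw [cj_Nz] at h2
    exact ⟨h1, h2⟩
  obtain ⟨a1, a2⟩ := key a a.2
  obtain ⟨b1, b2⟩ := key b b.2
  exact asym_comm' hasym (b1.trans a2) (a1.trans b2)

theorem MF.word (h : MF p S M) (hasym : ¬ IsSymmetricIn (largestPReducedOf p M)) {L : Subgroup G}
    (hL : IsPGroup p L) (hOL : pCoreOf p M ≤ L) (hLd : L ≤ dg p M) :
    ∀ n : ℕ, ∀ l : List G, l.length = n → (∀ a ∈ l, a ∈ M ∨ a ∈ Nz L) →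
      cj l.prod (largestPReducedOf p M) ≤ pCoreOf p M := by
  set Y := largestPReducedOf p M with hY
  set O := pCoreOf p M with hO
  have hLN : L ≤ Nz Y := hLd.trans h.nz.ge
  intro n
  induction n with
  | zero =>
    intro l hl _
    rw [List.length_eq_zero_iff.1 hl, List.prod_nil, cj_one]
    exact h.Y_le_O
  | succ n ih =>
    have key : ∀ l : List G, l.length = n + 1 → (∀ a ∈ l, a ∈ M ∨ a ∈ Nz L) → cj l.prod Y ≤ L := by
      intro l hl hmem
      obtain ⟨a, l', rfl⟩ : ∃ a l', l = a :: l' := by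
        cases l with
        | nil => simp at hl
        | cons a l' => exact ⟨a, l', rfl⟩
      have h1 := ih l' (by simpa using hl) (fun b hb => hmem b (List.mem_cons_of_mem _ hb))
      rw [List.prod_cons, cj_mul]
      refine (cj_mono h1).trans ?_
      rcases hmem a List.mem_cons_self with ha | ha
      · rw [cj_eq_of_mem_Nz (le_Nz_pCoreOf M ha)]; exact hOL
      · refine (cj_mono hOL).trans ?_
        rw [cj_eq_of_mem_Nz ha]
    intro l hl hmem
    have h1 := key l hl hmem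
    have h2 : cj l.prod⁻¹ Y ≤ L := by
      rw [List.prod_inv_reverse]
      apply key
      · simpa using hl
      · intro a ha
        rw [List.mem_reverse, List.mem_map] at ha
        obtain ⟨b, hb, rfl⟩ := ha
        rcases hmem b hb with hb' | hb'
        · exact Or.inl (M.inv_mem hb')
        · exact Or.inr ((Nz L).inv_mem hb')
    have h3 : Y ≤ Cz (cj l.prod Y) := by
      apply asym_comm hasym (h1.trans hLN)
      rw [← cj_Nz]
      have h4 := h2.trans hLN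
      rw [cj_le_iff, inv_inv] at h4
      exact h4
    have h5 : L ⊓ Cz Y ≤ O := (h.inf_C hL hOL).le
    exact (le_inf h1 (le_Cz_comm.1 h3)).trans h5

theorem MF.Nz_le_dg (h : MF p S M) (hasym : ¬ IsSymmetricIn (largestPReducedOf p M)) {L : Subgroup G}
    (hL : IsPGroup p L) (hOL : pCoreOf p M ≤ L) (hLd : L ≤ dg p M) : Nz L ≤ dg p M := by
  set Y := largestPReducedOf p M with hY
  refine le_trans (le_sup_right : Nz L ≤ M ⊔ Nz L) ?_
  apply h.max _ le_sup_left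
  have h1 : ncl (M ⊔ Nz L) Y ≤ pCoreOf p M := by
    unfold ncl
    apply iSup_le
    rintro ⟨x, hx⟩
    rw [Subgroup.sup_eq_closure] at hx
    rw [← Subgroup.mem_toSubmonoid, Subgroup.closure_toSubmonoid] at hx
    obtain ⟨l, hl, rfl⟩ := Submonoid.exists_list_of_mem_closure hx
    apply h.word hasym hL hOL hLd _ l rfl
    intro a ha
    rcases hl a ha with (h1 | h1) | (h1 | h1)
    · exact Or.inl h1
    · exact Or.inr h1
    · left; rw [← inv_inv a]; exact M.inv_mem h1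
    · right; rw [← inv_inv a]; exact (Nz L).inv_mem h1
  intro h2
  apply h.yne
  rw [← le_bot_iff, ← h2]
  refine (le_ncl (M ⊔ Nz L) Y).trans ?_
  apply le_pCoreOf (h1.trans ((pCoreOf_le M).trans le_sup_left)) (le_Nz_ncl _ _)
  exact (pCoreOf_isPGroup M).to_le h1

theorem MF.facts (h : MF p S M) (hasym : ¬ IsSymmetricIn (largestPReducedOf p M)) {L : Subgroup G}
    (hL : IsPGroup p L) (hOL : pCoreOf p M ≤ L) : Nz L ≤ Nz (pCoreOf p M) ∧ L ≤ dg p M := by
  have h1 : ∀ R : Subgroup G, IsPGroup p R → pCoreOf p M ≤ R → R ≤ dg p M → Nz R ≤ Nz (pCoreOf p M) := by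
    intro R hR hOR hRd
    exact (le_inf (h.Nz_le_dg hasym hR hOR hRd) le_rfl).trans (h.wcl R hRd hR hOR)
  have h2 : L ≤ Nz (pCoreOf p M) := by
    set R := L ⊓ Nz (pCoreOf p M) with hR
    have hRL : R ≤ L := inf_le_left
    have hOR : pCoreOf p M ≤ R := le_inf hOL Subgroup.le_normalizer
    by_contra hne
    have hlt : R < L := lt_of_le_of_ne hRL (fun h => hne (h ▸ inf_le_right))
    obtain ⟨x, hxL, hxN, hxR⟩ := exists_mem_Nz_notMem hL hlt
    exact hxR ⟨hxL, h1 R (hL.to_le hRL) hOR (inf_le_right.trans h.Nz_O_le) hxN⟩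
  exact ⟨h1 L hL hOL (h2.trans h.Nz_O_le), h2.trans h.Nz_O_le⟩

theorem MF.wcl_top (h : MF p S M) (hasym : ¬ IsSymmetricIn (largestPReducedOf p M)) : WCl p (pCoreOf p M) ⊤ := by
  intro R _ hR hOR
  rw [top_inf_eq]
  exact (h.facts hasym hR hOR).1

end

end Cfsg.Agent.H17.FrakM
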