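import Mathlib

set_option autoImplicit false

namespace Cfsg.Agent.H17.OrA

open Equiv

theorem perm7 {α : Type*} [Fintype α] [DecidableEq α] (hα : Fintype.card α = 7) (x t : Perm α)
    (hx : orderOf x = 7) (ht : orderOf t = 2) (hinv : t * x * t⁻¹ = x⁻¹) (hs : Perm.sign t = 1) :
    False := by
  have hxp : (orderOf x).Prime := by rw [hx]; norm_num
  have htp : (orderOf t).Prime := by rw [ht]; norm_num
  obtain ⟨n, hn⟩ := Perm.cycleType_prime_order hxp
  obtain ⟨m, hm⟩ := Perm.cycleType_prime_order htp
  rw [hx] at hn
  rw [ht] at hm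
  have h1 := Perm.sum_cycleType x
  rw [hn] at h1
  simp only [Multiset.sum_replicate, smul_eq_mul] at h1
  have h2 : x.support.card ≤ 7 := hα ▸ Finset.card_le_univ _
  have hn0 : n = 0 := by omega
  subst hn0
  have hcyc : x.IsCycle := by
    rw [← Perm.card_cycleType_eq_one, hn]; simp
  have hsupp : x.support = Finset.univ := by
    rw [← Finset.card_eq_iff_eq_univ, hα]; omega
  have h3 := Perm.sum_cycleType t
  rw [hm] at h3
  simp only [Multiset.sum_replicate, smul_eq_mul] at h3
  have h4 := Perm.sign_of_cycleType t
  rw [hm, hs] at h4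
  simp only [Multiset.sum_replicate, smul_eq_mul, Multiset.card_replicate] at h4
  have h5 : t.support.card ≤ 7 := hα ▸ Finset.card_le_univ _
  -- fixed points
  have h6 : (t.support)ᶜ.card ≤ 1 := by
    rw [Finset.card_le_one]
    intro a ha b hb
    have ha' : t a = a := by simpa using ha
    have hb' : t b = b := by simpa using hb
    have hxa : x a ≠ a := by
      have : a ∈ x.support := by rw [hsupp]; exact Finset.mem_univ _
      simpa using this
    have hxb : x b ≠ b := by
      have : b ∈ x.support := by rw [hsupp]; exact Finset.mem_univ _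
      simpa using this
    obtain ⟨i, hi⟩ := hcyc.exists_zpow_eq hxa hxb
    have h7 : t * x ^ i = x ^ (-i) * t := by
      have : t * x ^ i * t⁻¹ = x ^ (-i) := by
        rw [← conj_zpow, hinv, inv_zpow, zpow_neg]
      rw [← this]; group
    have h8 : (x ^ (-i)) a = b := by
      have := congrArg (fun s : Perm α => s a) h7
      simp only [Perm.mul_apply] at this
      rw [ha', hi, hb'] at this
      exact this.symm
    have h9 : (x ^ (2 * i)) a = a := by
      have : x ^ (2 * i) = x ^ i * x ^ i := by rw [← zpow_add]; congr 1; ring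
      rw [this, Perm.mul_apply, hi, ← h8, ← Perm.mul_apply, ← zpow_add]; simp
    have h10 : (x ^ (8 * i)) a = a := by
      have : x ^ (8 * i) = x ^ (2 * i) * (x ^ (2 * i) * (x ^ (2 * i) * x ^ (2 * i))) := by
        rw [← zpow_add, ← zpow_add, ← zpow_add]; congr 1; ring
      rw [this]; simp only [Perm.mul_apply, h9]
    have h11 : x ^ (8 * i) = x ^ i := by
      have : x ^ (8 * i) = x ^ i * (x ^ 7) ^ i := by
        rw [← zpow_natCast, ← zpow_mul, ← zpow_add]; congr 1; push_cast; ring
      rw [this, ← hx, pow_orderOf_eq_one]; simp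
    rw [h11, hi] at h10
    exact h10.symm
  rw [Finset.card_compl, hα] at h6
  have hm2 : m = 2 := by omega
  subst hm2
  norm_num at h4

theorem no7 {G : Type*} [Group G] [Finite G] [IsSimpleGroup G] (h : Nat.card G = 504)
    {x t : G} (hx : orderOf x = 7) (ht : orderOf t = 2) (hinv : t * x * t⁻¹ = x⁻¹)
    (H : Subgroup G) : H.index ≠ 7 := by
  classical
  intro hH
  have : Finite (G ⧸ H) := inferInstance
  have : Fintype (G ⧸ H) := Fintype.ofFinite _
  have hcard : Fintype.card (G ⧸ H) = 7 := by
    rw [← Nat.card_eq_fintype_card]; exact hH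
  set φ : G →* Perm (G ⧸ H) := MulAction.toPermHom G (G ⧸ H) with hφ
  have hker : φ.ker = ⊥ := by
    have hnorm : φ.ker.Normal := inferInstance
    rcases hnorm.eq_bot_or_eq_top with h1 | h1
    · exact h1
    · exfalso
      have h2 : H = ⊤ := by
        rw [eq_top_iff]
        intro g _
        have hg : φ g = 1 := by
          have : g ∈ φ.ker := by rw [h1]; trivial
          exact this
        have h3 : g • ((1 : G) : G ⧸ H) = ((1 : G) : G ⧸ H) := by
          have := congrArg (fun s : Perm (G ⧸ H) => s ((1 : G) : G ⧸ H)) hg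
          simpa [hφ] using this
        rw [MulAction.Quotient.smul_coe, QuotientGroup.eq] at h3
        simpa using h3
      rw [h2, Subgroup.index_top] at hH
      norm_num at hH
  have hinj : Function.Injective φ := (MonoidHom.ker_eq_bot_iff φ).mp hker
  set ψ : G →* ℤˣ := Perm.sign.comp φ with hψ
  have hψt : ψ.ker = ⊤ := by
    have hnorm : ψ.ker.Normal := inferInstance
    rcases hnorm.eq_bot_or_eq_top with h1 | h1
    · exfalso
      have h2 : Function.Injective ψ := (MonoidHom.ker_eq_bot_iff ψ).mp h1
      have h3 := Nat.card_le_card_of_injective ψ h2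
      rw [h] at h3
      have h4 : Nat.card ℤˣ = 2 := by
        rw [Nat.card_eq_fintype_card]; rfl
      omega
    · exact h1
  have hst : Perm.sign (φ t) = 1 := by
    have : t ∈ ψ.ker := by rw [hψt]; trivial
    exact this
  refine perm7 hcard (φ x) (φ t) ?_ ?_ ?_ hst
  · rw [orderOf_injective φ hinj, hx]
  · rw [orderOf_injective φ hinj, ht]
  · rw [← map_inv, ← map_inv, ← map_mul, ← map_mul, hinv]

end Cfsg.Agent.H17.OrA
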