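import Cfsg.Agent.H17_Tr4
import Cfsg.Agent.H13_Sec

set_option autoImplicit false
open Cfsg

/-! A four-group with full automizer gives a section `S₄`. -/

namespace Cfsg.Agent.H17.S4

open Cfsg.Agent.H17.Base Cfsg.Agent.H17.Tr

variable {G : Type*} [Group G]

/-- the four-group -/
def V4 (u v : G) (hu2 : u * u = 1) (hv2 : v * v = 1) (hcomm : u * v = v * u) : Subgroup G where
  carrier := {1, u, v, u * v}
  mul_mem' := by
    have h1 : u * (u * v) = v := by rw [← mul_assoc, hu2, one_mul]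
    have h2 : v * (u * v) = u := by rw [hcomm, ← mul_assoc, hv2, one_mul]
    have h3 : u * v * u = v := by rw [hcomm, mul_assoc, hu2, mul_one]
    have h4 : u * v * v = u := by rw [mul_assoc, hv2, mul_one]
    have h5 : u * v * (u * v) = 1 := by rw [← mul_assoc, h3, hv2]
    have h6 : v * u = u * v := hcomm.symm
    rintro a b (rfl | rfl | rfl | rfl) (rfl | rfl | rfl | rfl) <;>
      simp only [one_mul, mul_one, Set.mem_insert_iff, Set.mem_singleton_iff, true_or, or_true] <;>
      simp only [h1, h2, h3, h4, h5, h6, hu2, hv2, true_or, or_true]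
  one_mem' := Or.inl rfl
  inv_mem' := by
    have h5 : u * v * (u * v) = 1 := by
      rw [mul_assoc, ← mul_assoc v u v, ← hcomm, mul_assoc, hv2, mul_one, hu2]
    rintro a (rfl | rfl | rfl | rfl)
    · left; exact inv_one
    · right; left; exact inv_eq_of_mul_eq_one_left hu2
    · right; right; left; exact inv_eq_of_mul_eq_one_left hv2
    · right; right; right; exact inv_eq_of_mul_eq_one_left h5

theorem mem_V4 {u v : G} {hu2 : u * u = 1} {hv2 : v * v = 1} {hcomm : u * v = v * u} {x : G} :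
    x ∈ V4 u v hu2 hv2 hcomm ↔ x = 1 ∨ x = u ∨ x = v ∨ x = u * v := Iff.rfl

theorem exists_two_part [Finite G] (d : G) : ∃ m : ℕ, Odd m ∧ IsPGroup 2 ↥(Subgroup.zpowers (d ^ m)) := by
  obtain ⟨k, m, hm, h⟩ := Nat.exists_eq_two_pow_mul_odd (orderOf_pos d).ne'
  refine ⟨m, hm, ?_⟩
  have h1 : orderOf (d ^ m) = 2 ^ k := by
    rw [orderOf_pow, h, Nat.gcd_eq_right (Dvd.intro_left _ rfl)]
    exact Nat.mul_div_cancel _ hm.pos
  exact zpowers_isPGroup_of_orderOf h1

theorem s4_of [Finite G] {u v c d : G} (hu : u ≠ 1) (hv : v ≠ 1) (huv : u ≠ v) (hu2 : u * u = 1)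
    (hv2 : v * v = 1) (hcomm : u * v = v * u) (hcu : c * u * c⁻¹ = v) (hcv : c * v * c⁻¹ = u * v)
    (hdu : d * u * d⁻¹ = v) (hdv : d * v * d⁻¹ = u) : Involves (Equiv.Perm (Fin 4)) G := by
  set U := V4 u v hu2 hv2 hcomm with hU
  have h3 : Fact (Nat.Prime 3) := ⟨Nat.prime_three⟩
  have huU : u ∈ U := Or.inr (Or.inl rfl)
  have hvU : v ∈ U := Or.inr (Or.inr (Or.inl rfl))
  have huvU : u * v ∈ U := Or.inr (Or.inr (Or.inr rfl))
  have hconj : ∀ g a b : G, g * (a * b) * g⁻¹ = (g * a * g⁻¹) * (g * b * g⁻¹) := by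
    intro g a b; group
  have hvuv : v * (u * v) = u := by rw [hcomm, ← mul_assoc, hv2, one_mul]
  have hcuv : c * (u * v) * c⁻¹ = u := by rw [hconj, hcu, hcv, hvuv]
  have hduv : d * (u * v) * d⁻¹ = u * v := by rw [hconj, hdu, hdv, hcomm]
  -- conjugation by an element sending u, v into U normalizes U
  have hNz : ∀ g : G, g * u * g⁻¹ ∈ U → g * v * g⁻¹ ∈ U → g ∈ Nz U := by
    intro g h1 h2
    apply mem_Nz_of_cj_le
    intro x hx
    rw [mem_cj] at hx
    have e : x = g * (g⁻¹ * x * g) * g⁻¹ := by group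
    rw [e]
    rcases mem_V4.mp hx with h | h | h | h <;> rw [h]
    · simp
    · exact h1
    · exact h2
    · rw [hconj]
      exact U.mul_mem h1 h2
  have hCz : ∀ g : G, g * u * g⁻¹ = u → g * v * g⁻¹ = v → g ∈ Cz U := by
    intro g h1 h2
    rw [Subgroup.mem_centralizer_iff]
    have h3 : ∀ x ∈ U, g * x * g⁻¹ = x := by
      intro x hx
      rcases mem_V4.mp hx with h | h | h | h <;> rw [h]
      · simp
      · exact h1
      · exact h2
      · rw [hconj, h1, h2]
    intro x hx
    have h4 := h3 x hx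
    rw [mul_inv_eq_iff_eq_mul] at h4
    exact h4.symm
  have hCz' : ∀ g ∈ Cz U, ∀ x ∈ U, g * x * g⁻¹ = x := by
    intro g hg x hx
    rw [Subgroup.mem_centralizer_iff] at hg
    rw [← hg x hx, mul_inv_cancel_right]
  have hcN : c ∈ Nz U := hNz c (by rw [hcu]; exact hvU) (by rw [hcv]; exact huvU)
  have hdN : d ∈ Nz U := hNz d (by rw [hdu]; exact hvU) (by rw [hdv]; exact huU)
  have hcC : c ∉ Cz U := by
    intro h
    have h1 := hCz' c h u huU
    rw [hcu] at h1
    exact huv h1.symm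
  have hc3 : c ^ 3 ∈ Cz U := by
    apply hCz
    · have : c ^ 3 * u * (c ^ 3)⁻¹ = c * (c * (c * u * c⁻¹) * c⁻¹) * c⁻¹ := by
        rw [pow_succ, pow_two]; group
      rw [this, hcu, hcv, hcuv]
    · have : c ^ 3 * v * (c ^ 3)⁻¹ = c * (c * (c * v * c⁻¹) * c⁻¹) * c⁻¹ := by
        rw [pow_succ, pow_two]; group
      rw [this, hcv, hcuv, hcu]
  set C := Cz U with hC
  have hNC : Nz U ≤ Nz C := Nz_le_Nz_Cz U
  let K : Subgroup G := C ⊔ Subgroup.zpowers c
  have hCK : C ≤ K := le_sup_left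
  have hcK : c ∈ K := le_sup_right (a := C) (Subgroup.mem_zpowers c)
  have hKN : K ≤ Nz U := sup_le (Cz_le_Nz U) (by rw [Subgroup.zpowers_le]; exact hcN)
  -- elements of K
  have hKel : ∀ y ∈ K, ∃ γ ∈ C, ∃ i : ℤ, y = γ * c ^ i := by
    intro y hy
    obtain ⟨γ, hγ, b, hb, rfl⟩ := (mem_sup_of_le_Nz' (H := C) (K := Subgroup.zpowers c)
      (by rw [Subgroup.zpowers_le]; exact hNC hcN)).mp hy
    obtain ⟨i, rfl⟩ := Subgroup.mem_zpowers_iff.mp hb
    exact ⟨γ, hγ, i, rfl⟩
  have hK3 : ∀ y ∈ K, y ^ (3 ^ 1) ∈ C := by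
    intro y hy
    obtain ⟨γ, hγ, i, rfl⟩ := hKel y hy
    have hCn : (C.subgroupOf (Nz C)).Normal := (normal_subgroupOf_iff Subgroup.le_normalizer).mpr le_rfl
    have hγN : γ ∈ Nz C := Subgroup.le_normalizer hγ
    have hcNC : c ∈ Nz C := hNC hcN
    let π := QuotientGroup.mk' (C.subgroupOf (Nz C))
    have h1 : π (⟨γ, hγN⟩ * ⟨c, hcNC⟩ ^ i) ^ 3 = 1 := by
      rw [map_mul]
      have h2 : π ⟨γ, hγN⟩ = 1 := by
        rw [QuotientGroup.mk'_apply, QuotientGroup.eq_one_iff, Subgroup.mem_subgroupOf]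
        exact hγ
      have h4 : π ⟨c, hcNC⟩ ^ 3 = 1 := by
        rw [← map_pow, QuotientGroup.mk'_apply, QuotientGroup.eq_one_iff, Subgroup.mem_subgroupOf]
        exact hc3
      rw [h2, one_mul, map_zpow, ← zpow_natCast, ← zpow_mul, mul_comm, zpow_mul, zpow_natCast, h4, one_zpow]
    rw [← map_pow, QuotientGroup.mk'_apply, QuotientGroup.eq_one_iff, Subgroup.mem_subgroupOf] at h1
    rw [pow_one]
    exact h1
  -- a Sylow 3-subgroup of K
  obtain ⟨R, hR⟩ := exists_isSylowIn 3 K
  have hRC : ¬ R ≤ C := by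
    intro h
    apply hcC
    exact le_of_two_parts (p := 3) (N0 := C) (S := C) (Y := K) (P' := R) le_rfl hCK (hKN.trans hNC)
      (fun y hy => ⟨1, hK3 y hy⟩) h hR.le (not_dvd_relIndex hR) hcK
  -- r acts as c
  have hact : ∀ γ ∈ C, ∀ (g x : G), x ∈ U → g ∈ Nz U → (γ * g) * x * (γ * g)⁻¹ = g * x * g⁻¹ := by
    intro γ hγ g x hx hg
    have h1 : (γ * g) * x * (γ * g)⁻¹ = γ * (g * x * g⁻¹) * γ⁻¹ := by group
    rw [h1]
    apply hCz' γ hγ
    exact (Subgroup.mem_normalizer_iff.mp hg x).mp hx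
  have hpair : ∀ y ∈ K, y ∉ C → (y * u * y⁻¹ = v ∧ y * v * y⁻¹ = u * v) ∨
      (y * u * y⁻¹ = u * v ∧ y * v * y⁻¹ = u) := by
    intro y hy hyC
    obtain ⟨γ, hγ, i, rfl⟩ := hKel y hy
    have hci : c ^ i ∈ Nz U := (Nz U).zpow_mem hcN i
    rw [hact γ hγ _ u huU hci, hact γ hγ _ v hvU hci]
    have hmod : ∀ j : ℤ, c ^ (3 * j) ∈ C := by
      intro j
      rw [zpow_mul]
      exact C.zpow_mem (by exact_mod_cast hc3) j
    have h1 : i % 3 = 0 ∨ i % 3 = 1 ∨ i % 3 = 2 := by omega
    have h2 : i = 3 * (i / 3) + i % 3 := by omega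
    have h4 : ∀ (j : ℤ) (x : G), x ∈ U → c ^ (3 * (i / 3) + j) * x * (c ^ (3 * (i / 3) + j))⁻¹ =
        c ^ j * x * (c ^ j)⁻¹ := by
      intro j x hx
      rw [zpow_add]
      exact hact _ (hmod _) _ x hx ((Nz U).zpow_mem hcN j)
    rcases h1 with h1 | h1 | h1
    · exfalso
      apply hyC
      rw [h2, h1, add_zero]
      exact C.mul_mem hγ (hmod _)
    · left
      rw [h2, h1, h4 1 u huU, h4 1 v hvU, zpow_one]
      exact ⟨hcu, hcv⟩
    · right
      rw [h2, h1, h4 2 u huU, h4 2 v hvU]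
      have e : ∀ x : G, c ^ (2 : ℤ) * x * (c ^ (2 : ℤ))⁻¹ = c * (c * x * c⁻¹) * c⁻¹ := by
        intro x
        rw [zpow_two]; group
      rw [e, e, hcu, hcv, hcuv]
      exact ⟨rfl, rfl⟩
  obtain ⟨r, hrR, hru, hrv⟩ : ∃ r ∈ R, r * u * r⁻¹ = v ∧ r * v * r⁻¹ = u * v := by
    obtain ⟨r, hr, hrC⟩ := SetLike.not_le_iff_exists.mp hRC
    rcases hpair r (hR.le hr) hrC with h | ⟨h1, h2⟩
    · exact ⟨r, hr, h⟩
    · refine ⟨r * r, R.mul_mem hr hr, ?_, ?_⟩
      · have e : r * r * u * (r * r)⁻¹ = r * (r * u * r⁻¹) * r⁻¹ := by group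
        rw [e, h1, hconj, h1, h2, mul_assoc, ← hcomm, ← mul_assoc, hu2, one_mul]
      · have e : r * r * v * (r * r)⁻¹ = r * (r * v * r⁻¹) * r⁻¹ := by group
        rw [e, h2, h1]
  have hruv : r * (u * v) * r⁻¹ = u := by rw [hconj, hru, hrv, hvuv]
  have hrC : r ∉ C := by
    intro h
    have h1 := hCz' r h u huU
    rw [hru] at h1
    exact huv h1.symm
  have hrN : r ∈ Nz U := hKN (hR.le hrR)
  -- Frattini
  have hdK : Subgroup.zpowers d ≤ Nz K := by
    rw [Subgroup.zpowers_le]
    apply mem_Nz_of_cj_le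
    have h1 : cj d K = cj d C ⊔ cj d (Subgroup.zpowers c) := cj_sup _ _ _
    rw [h1]
    apply sup_le
    · rw [cj_eq_of_mem_Nz (hNC hdN)]
      exact hCK
    · rw [cj_le_iff, Subgroup.zpowers_le, mem_cj, inv_inv]
      have h2 : d * c * d⁻¹ * c ∈ C := by
        apply hCz
        · have e : d * c * d⁻¹ * c * u * (d * c * d⁻¹ * c)⁻¹ = d * (c * (d⁻¹ * (c * u * c⁻¹) * d) * c⁻¹) * d⁻¹ := by
            group
          have e2 : d⁻¹ * v * d = u := by rw [← hdu]; group
          rw [e, hcu, e2, hcu, hdv]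
        · have e : d * c * d⁻¹ * c * v * (d * c * d⁻¹ * c)⁻¹ = d * (c * (d⁻¹ * (c * v * c⁻¹) * d) * c⁻¹) * d⁻¹ := by
            group
          have e2 : d⁻¹ * (u * v) * d = u * v := by
            conv_lhs => rw [← hduv]
            group
          rw [e, hcv, e2, hcuv, hdu]
      have h5 := K.mul_mem (hCK h2) (K.inv_mem hcK)
      rwa [mul_inv_cancel_right] at h5
  obtain ⟨n, hn, hn2⟩ := frattini_arg hR hdK d (Subgroup.mem_zpowers d)
  -- the element n d acts as an involution
  have hd1N : n * d ∈ Nz U := (Nz U).mul_mem (hKN hn) hdN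
  have hd1 : n * d ∉ C ∧ (n * d) * (n * d) ∈ C := by
    by_cases hnC : n ∈ C
    · have h1 := hact n hnC d u huU hdN
      have h2 := hact n hnC d v hvU hdN
      rw [hdu] at h1
      rw [hdv] at h2
      constructor
      · intro h
        have h5 := hCz' _ h u huU
        rw [h1] at h5
        exact huv h5.symm
      · apply hCz
        · have e : n * d * (n * d) * u * (n * d * (n * d))⁻¹ = n * d * (n * d * u * (n * d)⁻¹) * (n * d)⁻¹ := by group
          rw [e, h1, h2]
        · have e : n * d * (n * d) * v * (n * d * (n * d))⁻¹ = n * d * (n * d * v * (n * d)⁻¹) * (n * d)⁻¹ := by group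
          rw [e, h2, h1]
    · have e1 : n * d * u * (n * d)⁻¹ = n * (d * u * d⁻¹) * n⁻¹ := by group
      have e2 : n * d * v * (n * d)⁻¹ = n * (d * v * d⁻¹) * n⁻¹ := by group
      rw [hdu] at e1
      rw [hdv] at e2
      rcases hpair n hn hnC with ⟨h1, h2⟩ | ⟨h1, h2⟩
      · rw [h2] at e1
        rw [h1] at e2
        constructor
        · intro h
          have h5 := hCz' _ h u huU
          rw [e1] at h5
          apply hv
          have h6 : u * v = u * 1 := by rw [h5, mul_one]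
          exact mul_left_cancel h6
        · apply hCz
          · have e : n * d * (n * d) * u * (n * d * (n * d))⁻¹ = n * d * (n * d * u * (n * d)⁻¹) * (n * d)⁻¹ := by
              group
            rw [e, e1, hconj, e1, e2, mul_assoc, hv2, mul_one]
          · have e : n * d * (n * d) * v * (n * d * (n * d))⁻¹ = n * d * (n * d * v * (n * d)⁻¹) * (n * d)⁻¹ := by
              group
            rw [e, e2, e2]
      · rw [h2] at e1
        rw [h1] at e2
        constructor
        · intro h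
          have h5 := hCz' _ h v hvU
          rw [e2] at h5
          apply hu
          have h6 : u * v = 1 * v := by rw [h5, one_mul]
          exact mul_right_cancel h6
        · apply hCz
          · have e : n * d * (n * d) * u * (n * d * (n * d))⁻¹ = n * d * (n * d * u * (n * d)⁻¹) * (n * d)⁻¹ := by
              group
            rw [e, e1, e1]
          · have e : n * d * (n * d) * v * (n * d * (n * d))⁻¹ = n * d * (n * d * v * (n * d)⁻¹) * (n * d)⁻¹ := by
              group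
            rw [e, e2, hconj, e1, e2, ← mul_assoc, hu2, one_mul]
  obtain ⟨m, hmodd, hmp⟩ := exists_two_part (n * d)
  set t := (n * d) ^ m with ht
  have htN : t ∈ Nz U := (Nz U).pow_mem hd1N m
  have htR : t ∈ Nz R := (Nz R).pow_mem hn2 m
  obtain ⟨j, hj⟩ := hmodd
  have hpw : ∀ i : ℕ, (n * d) ^ (2 * i) ∈ C := by
    intro i
    rw [pow_mul, pow_two]
    exact C.pow_mem hd1.2 i
  have htC : t ∉ C := by
    intro h
    apply hd1.1
    rw [ht, hj, pow_succ] at h
    exact (Subgroup.mul_mem_cancel_left C (hpw j)).mp h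
  have ht2C : t ^ 2 ∈ C := by
    rw [ht, ← pow_mul, mul_comm]
    exact hpw m
  let Y : Subgroup G := R ⊔ Subgroup.zpowers t
  have hRY : R ≤ Y := le_sup_left
  have htY : t ∈ Y := le_sup_right (a := R) (Subgroup.mem_zpowers t)
  have hYN : Y ≤ Nz U := sup_le (hR.le.trans hKN) (by rw [Subgroup.zpowers_le]; exact htN)
  have hYR : Y ≤ Nz R := sup_le Subgroup.le_normalizer (by rw [Subgroup.zpowers_le]; exact htR)
  have hUY : U ⊓ Y = ⊥ := by
    rw [eq_bot_iff]
    rintro w ⟨hwU, hwY⟩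
    rw [Subgroup.mem_bot]
    by_contra hw1
    -- then U ≤ Y
    have hrY : r ∈ Y := hRY hrR
    have hcl : ∀ a ∈ Y, r * a * r⁻¹ ∈ Y := fun a ha => Y.mul_mem (Y.mul_mem hrY ha) (Y.inv_mem hrY)
    have huvY : u ∈ Y ∧ v ∈ Y := by
      rcases mem_V4.mp hwU with h | h | h | h
      · exact absurd h hw1
      · subst h
        have h1 := hcl _ hwY
        rw [hru] at h1
        exact ⟨hwY, h1⟩
      · subst h
        have h1 := hcl _ hwY
        rw [hrv] at h1
        have h2 := hcl _ h1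
        rw [hruv] at h2
        exact ⟨h2, hwY⟩
      · subst h
        have h1 := hcl _ hwY
        rw [hruv] at h1
        have h2 := hcl _ h1
        rw [hru] at h2
        exact ⟨h1, h2⟩
    have hUle : U ≤ Y := by
      intro x hx
      rcases mem_V4.mp hx with h | h | h | h <;> rw [h]
      · exact Y.one_mem
      · exact huvY.1
      · exact huvY.2
      · exact Y.mul_mem huvY.1 huvY.2
    have hUp : IsPGroup 2 U := by
      rintro ⟨x, hx⟩
      refine ⟨1, Subtype.ext ?_⟩
      show x ^ (2 ^ 1) = 1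
      rw [pow_one, pow_two]
      rcases mem_V4.mp hx with h | h | h | h <;> rw [h]
      · exact one_mul 1
      · exact hu2
      · exact hv2
      · rw [mul_assoc, ← mul_assoc v u v, ← hcomm, mul_assoc, hv2, mul_one, hu2]
    obtain ⟨S0, htS0, hS0⟩ := exists_isSylowIn_ge hmp (show Subgroup.zpowers t ≤ Y from le_sup_right)
    have hS0R : R ⊓ S0 = ⊥ := by
      have h1 : IsPGroup 3 ↥(R ⊓ S0) := hR.isPGroup.to_le inf_le_left
      have h2 : IsPGroup 2 ↥(R ⊓ S0) := hS0.isPGroup.to_le inf_le_right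
      apply Subgroup.eq_bot_of_card_eq
      obtain ⟨a, ha⟩ := IsPGroup.iff_card.mp h1
      obtain ⟨b, hb⟩ := IsPGroup.iff_card.mp h2
      have h4 : Nat.Coprime (3 ^ a) (2 ^ b) := Nat.Coprime.pow a b (by norm_num)
      rw [← ha, ← hb, Nat.coprime_self] at h4
      exact h4
    have hS0t : S0 = Subgroup.zpowers t := by
      have h1 := dedekind (A := Subgroup.zpowers t) (B := R) (C := S0) htS0 (by
        rw [Subgroup.zpowers_le]; exact htR)
      rw [hS0R, sup_bot_eq, sup_comm] at h1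
      rw [← h1]
      exact (inf_eq_right.mpr hS0.le).symm
    obtain ⟨y, hy, hyU⟩ := hS0.exists_conj_le hUp hUle
    rw [hS0t] at hyU
    classical
    have _ := Fintype.ofFinite (Subgroup.zpowers t)
    have hcard := IsCyclic.card_pow_eq_one_le (α := Subgroup.zpowers t) (n := 2) (by norm_num)
    have hu' : y * u * y⁻¹ ∈ Subgroup.zpowers t := hyU (conj_mem_cj huU)
    have hv' : y * v * y⁻¹ ∈ Subgroup.zpowers t := hyU (conj_mem_cj hvU)
    have hsub : ({1, ⟨y * u * y⁻¹, hu'⟩, ⟨y * v * y⁻¹, hv'⟩} : Finset (Subgroup.zpowers t)) ⊆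
        Finset.univ.filter (fun a : Subgroup.zpowers t => a ^ 2 = 1) := by
      intro x hx
      simp only [Finset.mem_insert, Finset.mem_singleton] at hx
      rw [Finset.mem_filter]
      refine ⟨Finset.mem_univ _, ?_⟩
      rcases hx with rfl | rfl | rfl
      · exact one_pow 2
      · apply Subtype.ext
        show (y * u * y⁻¹) ^ 2 = 1
        rw [conj_pow, pow_two, hu2, mul_one, mul_inv_cancel]
      · apply Subtype.ext
        show (y * v * y⁻¹) ^ 2 = 1
        rw [conj_pow, pow_two, hv2, mul_one, mul_inv_cancel]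
    have h5 := (Finset.card_le_card hsub).trans hcard
    have h8 : ({1, ⟨y * u * y⁻¹, hu'⟩, ⟨y * v * y⁻¹, hv'⟩} : Finset (Subgroup.zpowers t)).card = 3 → False := by
      intro h9
      omega
    apply h8
    refine Finset.card_eq_three.mpr ⟨_, _, _, ?_, ?_, ?_, rfl⟩
    · intro h
      apply hu
      have h6 : (1 : G) = y * u * y⁻¹ := congrArg Subtype.val h
      have h7 : y * u * y⁻¹ = 1 := h6.symm
      rwa [conj_eq_one_iff] at h7
    · intro h
      apply hv
      have h6 : (1 : G) = y * v * y⁻¹ := congrArg Subtype.val h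
      have h7 : y * v * y⁻¹ = 1 := h6.symm
      rwa [conj_eq_one_iff] at h7
    · intro h
      apply huv
      have h6 : y * u * y⁻¹ = y * v * y⁻¹ := congrArg Subtype.val h
      exact mul_left_cancel (mul_right_cancel h6)
  -- the group X
  let X : Subgroup G := U ⊔ Y
  have hXN : X ≤ Nz U := sup_le Subgroup.le_normalizer hYN
  have hXel : ∀ x ∈ X, ∃ a ∈ U, ∃ b ∈ Y, x = a * b := fun x hx => (mem_sup_of_le_Nz' hYN).mp hx
  have hUX : U ≤ X := le_sup_left
  have hYX : Y ≤ X := le_sup_right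
  let Ω := X ⧸ Y.subgroupOf X
  have hΩ : Nat.card Ω = 4 := by
    have hcardU : Nat.card U = 4 := by
      classical
      have h1 : (U : Set G) = ({1, u, v, u * v} : Finset G) := by
        ext x
        simp only [Finset.coe_insert, Finset.coe_singleton]
        exact Iff.rfl
      have h2 : Nat.card U = (U : Set G).ncard := rfl
      rw [h2, h1, Set.ncard_coe_finset]
      have e1 : (1 : G) ≠ u := fun h => hu h.symm
      have e2 : (1 : G) ≠ v := fun h => hv h.symm
      have e3 : (1 : G) ≠ u * v := by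
        intro h
        apply huv
        have h3 : u * v = u * u := by rw [← h, hu2]
        exact (mul_left_cancel h3).symm
      have e4 : u ≠ u * v := by
        intro h
        apply hv
        have h3 : u * v = u * 1 := by rw [← h, mul_one]
        exact mul_left_cancel h3
      have e5 : v ≠ u * v := by
        intro h
        apply hu
        have h3 : u * v = 1 * v := by rw [← h, one_mul]
        exact mul_right_cancel h3
      rw [Finset.card_insert_of_notMem, Finset.card_insert_of_notMem, Finset.card_pair e5]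
      · simp [huv, e4]
      · simp [e1, e2, e3]
    rw [← hcardU]
    symm
    apply Nat.card_congr
    apply Equiv.ofBijective (fun w : U => ((⟨w, hUX w.2⟩ : X) : Ω))
    constructor
    · intro w w' h
      rw [QuotientGroup.eq, Subgroup.mem_subgroupOf] at h
      have h1 : (w : G)⁻¹ * w' ∈ U ⊓ Y := ⟨U.mul_mem (U.inv_mem w.2) w'.2, h⟩
      rw [hUY, Subgroup.mem_bot, inv_mul_eq_one] at h1
      exact Subtype.ext h1
    · intro q
      induction q using QuotientGroup.induction_on with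
      | H x =>
        obtain ⟨a, ha, b, hb, hab⟩ := hXel x x.2
        refine ⟨⟨a, ha⟩, ?_⟩
        show ((⟨a, _⟩ : X) : Ω) = (x : Ω)
        rw [QuotientGroup.eq, Subgroup.mem_subgroupOf]
        show a⁻¹ * (x : G) ∈ Y
        rw [hab, inv_mul_cancel_left]
        exact hb
  let φ := MulAction.toPermHom X Ω
  have hker : φ.ker ≤ (C ⊓ Y).subgroupOf X := by
    intro k hk
    have hkY : ∀ g ∈ X, g⁻¹ * (k : G) * g ∈ Y := by
      intro g hg
      have h1 := congrArg (fun e : Equiv.Perm Ω => e ((⟨g, hg⟩ : X) : Ω)) (MonoidHom.mem_ker.mp hk)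
      have h2 : ((k * ⟨g, hg⟩ : X) : Ω) = ((⟨g, hg⟩ : X) : Ω) := h1
      rw [eq_comm, QuotientGroup.eq, Subgroup.mem_subgroupOf] at h2
      have h3 : g⁻¹ * ((k : G) * g) ∈ Y := h2
      rwa [mul_assoc]
    have hkY1 : (k : G) ∈ Y := by
      have := hkY 1 X.one_mem
      simpa using this
    rw [Subgroup.mem_subgroupOf]
    refine ⟨?_, hkY1⟩
    have hkN : (k : G) ∈ Nz U := hXN k.2
    have hcomm2 : ∀ w ∈ U, (k : G) * w * (k : G)⁻¹ = w := by
      intro w hw
      have h1 := hkY w (hUX hw)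
      have h2 : w⁻¹ * (k : G) * w * (k : G)⁻¹ ∈ U ⊓ Y := by
        constructor
        · have h3 : w⁻¹ * (k : G) * w * (k : G)⁻¹ = w⁻¹ * ((k : G) * w * (k : G)⁻¹) := by group
          rw [h3]
          exact U.mul_mem (U.inv_mem hw) ((Subgroup.mem_normalizer_iff.mp hkN w).mp hw)
        · exact Y.mul_mem h1 (Y.inv_mem hkY1)
      rw [hUY, Subgroup.mem_bot] at h2
      have h3 : (k : G) * w * (k : G)⁻¹ = w * (w⁻¹ * (k : G) * w * (k : G)⁻¹) := by group
      rw [h3, h2, mul_one]
    exact hCz _ (hcomm2 u huU) (hcomm2 v hvU)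
  have hCYn : (C.subgroupOf Y).Normal := by
    have h1 : C.subgroupOf Y = (C ⊓ Y).subgroupOf Y := (Subgroup.inf_subgroupOf_right C Y).symm
    rw [h1]
    apply (normal_subgroupOf_iff inf_le_right).mpr
    exact (le_inf (hYN.trans hNC) Subgroup.le_normalizer).trans (Nz_inf_le _ _)
  have hdiv : ∀ (q : ℕ), Nat.Prime q → ∀ y ∈ Y, y ∉ C → y ^ q ∈ C → q ∣ C.relIndex Y := by
    intro q hq y hy hyC hyq
    have hqf : Fact (Nat.Prime q) := ⟨hq⟩
    have h1 : orderOf ((⟨y, hy⟩ : Y) : Y ⧸ C.subgroupOf Y) = q := by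
      apply orderOf_eq_prime
      · rw [← QuotientGroup.mk_pow, QuotientGroup.eq_one_iff, Subgroup.mem_subgroupOf]
        exact hyq
      · intro h
        rw [QuotientGroup.eq_one_iff, Subgroup.mem_subgroupOf] at h
        exact hyC h
    have h2 := orderOf_dvd_natCard ((⟨y, hy⟩ : Y) : Y ⧸ C.subgroupOf Y)
    rw [h1] at h2
    exact h2
  have h6 : 6 ∣ C.relIndex Y := by
    have h2 := hdiv 2 Nat.prime_two t htY htC ht2C
    have h3 := hdiv 3 Nat.prime_three r (hRY hrR) hrC (by
      have := hK3 r (hR.le hrR)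
      simpa using this)
    exact (Nat.Coprime.mul_dvd_of_dvd_of_dvd (by norm_num : Nat.Coprime 2 3) h2 h3)
  have h24 : 24 ∣ Nat.card φ.range := by
    have h1 : Nat.card φ.range = φ.ker.index := (Subgroup.index_ker φ).symm
    rw [h1]
    have h2 : ((C ⊓ Y).subgroupOf X).index ∣ φ.ker.index := Subgroup.index_dvd_of_le hker
    refine dvd_trans ?_ h2
    have h3 : (C ⊓ Y).relIndex Y * Y.relIndex X = (C ⊓ Y).relIndex X :=
      Subgroup.relIndex_mul_relIndex _ _ _ inf_le_right hYX
    have h4 : Y.relIndex X = 4 := hΩ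
    show 24 ∣ (C ⊓ Y).relIndex X
    rw [← h3, h4, Subgroup.inf_relIndex_right]
    obtain ⟨k, hk⟩ := h6
    exact ⟨k, by rw [hk]; ring⟩
  have hfinΩ : Finite Ω := Nat.finite_of_card_ne_zero (by rw [hΩ]; norm_num)
  have hPerm : Nat.card (Equiv.Perm Ω) = 24 := by
    rw [Nat.card_perm, hΩ]
    rfl
  have hsurj : Function.Surjective φ := by
    rw [← MonoidHom.range_eq_top]
    apply Subgroup.eq_top_of_card_eq
    rw [hPerm]
    apply Nat.dvd_antisymm _ h24
    rw [← hPerm]
    exact Subgroup.card_subgroup_dvd_card _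
  have e : Ω ≃ Fin 4 := Finite.equivFinOfCardEq hΩ
  exact Cfsg.Agent.H13.Sec.involves_of_surj (K := X) ((Equiv.permCongrHom e).toMonoidHom.comp φ)
    ((Equiv.permCongrHom e).surjective.comp hsurj)

end Cfsg.Agent.H17.S4
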