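import Cfsg.Agent.H17_KsL

/-! Symmetric amalgams of two groups `P`, `P^g` with `P/O₂(P) ≅ S₃`: vertex-level lemmas -/

set_option autoImplicit false
set_option linter.unusedSectionVars false
set_option linter.unusedVariables false

namespace Cfsg.Agent.H17.SA

open Cfsg Cfsg.Agent.H17.Base Cfsg.Agent.H17.Ks

variable {G : Type*} [Group G] [Finite G] {T P : Subgroup G} {g : G}

structure Am (T P : Subgroup G) (g : G) : Prop where
  TP : T ≤ P
  T2 : IsPGroup 2 ↥T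
  idx : T.relIndex P = 3
  gT : cj g T = T
  g2 : g * g ∈ T
  nn : ¬ P ≤ Nz T
  cq : P ⊓ Cz (pCoreOf 2 P) ≤ pCoreOf 2 P
  nz : ¬ P ≤ Cz (omegaCenterOf T)
  core : ∀ N : Subgroup G, N ≤ T → P ≤ Nz N → cj g P ≤ Nz N → N = ⊥

theorem idx2 {A B : Subgroup G} (h : A.relIndex B = 2) {x y : G} (hx : x ∈ B) (hy : y ∈ B) (hxA : x ∉ A)
    (hyA : y ∉ A) : x * y ∈ A := by
  have h1 := Subgroup.mul_mem_iff_of_index_two (H := A.subgroupOf B) h (a := ⟨x, hx⟩) (b := ⟨y, hy⟩)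
  have h2 : (⟨x, hx⟩ : ↥B) ∉ A.subgroupOf B := hxA
  have h3 : (⟨y, hy⟩ : ↥B) ∉ A.subgroupOf B := hyA
  have h4 : (⟨x, hx⟩ : ↥B) * ⟨y, hy⟩ ∈ A.subgroupOf B := h1.mpr (by simp [h2, h3])
  exact h4

theorem core_index (hTP : T ≤ P) (hT2 : IsPGroup 2 ↥T) (hidx : T.relIndex P = 3) (hnn : ¬ P ≤ Nz T) :
    (pCoreOf 2 P).relIndex T = 2 := by
  have hp : Fact (Nat.Prime 2) := ⟨Nat.prime_two⟩
  have hsyl : IsSylowIn 2 T P := isSylowIn_of_odd hTP hT2 (by rw [hidx]; decide)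
  have hQT := pCoreOf_le_sylow hsyl
  set N : Subgroup ↥P := (T.subgroupOf P).normalCore with hN
  have hN1 : N = (MulAction.toPermHom ↥P (↥P ⧸ T.subgroupOf P)).ker := Subgroup.normalCore_eq_ker _
  have h1 : N.index ∣ 6 := by
    rw [hN1, Subgroup.index_ker]
    have h2 := Subgroup.card_subgroup_dvd_card (MulAction.toPermHom ↥P (↥P ⧸ T.subgroupOf P)).range
    have h3 : Nat.card (Equiv.Perm (↥P ⧸ T.subgroupOf P)) = 6 := by
      rw [Nat.card_perm]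
      have : Nat.card (↥P ⧸ T.subgroupOf P) = 3 := hidx
      rw [this]; rfl
    rwa [h3] at h2
  have h2 : pCoreOf 2 P = N.map P.subtype := by
    apply le_antisymm
    · have h3 : pCore 2 ↥P ≤ N := by
        apply Subgroup.normal_le_normalCore.mpr
        intro x hx
        exact hQT ⟨x, hx, rfl⟩
      exact Subgroup.map_mono h3
    · have h3 : N.map P.subtype ≤ T := by
        rintro _ ⟨x, hx, rfl⟩
        have h4 := Subgroup.normalCore_le (T.subgroupOf P) hx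
        exact h4
      refine le_pCoreOf (Subgroup.map_subtype_le _) ?_ (hT2.to_le h3)
      rw [← normal_subgroupOf_iff (Subgroup.map_subtype_le _)]
      have : (N.map P.subtype).subgroupOf P = N := by
        ext x; simp [Subgroup.mem_subgroupOf]
      rw [this]; infer_instance
  have h3 : (pCoreOf 2 P).relIndex P = N.index := by
    rw [h2]
    have : (N.map P.subtype).subgroupOf P = N := by
      ext x; simp [Subgroup.mem_subgroupOf]
    rw [Subgroup.relIndex, this]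
  have h4 := Subgroup.relIndex_mul_relIndex (pCoreOf 2 P) T P hQT hTP
  rw [h3, hidx] at h4
  rw [← h4] at h1
  have h5 : (pCoreOf 2 P).relIndex T ∣ 2 := by
    have : (pCoreOf 2 P).relIndex T * 3 ∣ 2 * 3 := h1
    exact Nat.dvd_of_mul_dvd_mul_right (by norm_num) this
  rcases (Nat.dvd_prime Nat.prime_two).mp h5 with h6 | h6
  · exfalso
    apply hnn
    have h7 : T ≤ pCoreOf 2 P := Subgroup.relIndex_eq_one.mp h6
    rw [le_antisymm h7 hQT]
    exact le_Nz_pCoreOf P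
  · exact h6

namespace Am

variable (h : Am T P g)
include h

theorem syl : IsSylowIn 2 T P := isSylowIn_of_odd h.TP h.T2 (by rw [h.idx]; decide)
theorem QT : pCoreOf 2 P ≤ T := pCoreOf_le_sylow h.syl
theorem q2 : (pCoreOf 2 P).relIndex T = 2 := core_index h.TP h.T2 h.idx h.nn
theorem PQ : P ≤ Nz (pCoreOf 2 P) := le_Nz_pCoreOf P
theorem PV : P ≤ Nz (VV P) := le_Nz_VV P
theorem VQ : VV P ≤ pCoreOf 2 P := VV_le P
theorem VT : VV P ≤ T := h.VQ.trans h.QT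
theorem QCV : pCoreOf 2 P ≤ Cz (VV P) := le_Cz_comm.mp (VV_le_Cz P)

theorem cjP {p : G} (hp : p ∈ P) : cj p P = P := cj_eq_of_mem hp
theorem cjQ {p : G} (hp : p ∈ P) : cj p (pCoreOf 2 P) = pCoreOf 2 P := cj_eq_of_mem_Nz (h.PQ hp)
theorem cjV {p : G} (hp : p ∈ P) : cj p (VV P) = VV P := cj_eq_of_mem_Nz (h.PV hp)
theorem cjT {t : G} (ht : t ∈ T) : cj t T = T := cj_eq_of_mem ht
theorem cjZ {t : G} (ht : t ∈ T) : cj t (omegaCenterOf T) = omegaCenterOf T := by rw [← oc_cj, h.cjT ht]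
theorem cjgZ : cj g (omegaCenterOf T) = omegaCenterOf T := by rw [← oc_cj, h.gT]
theorem g2P : g * g ∈ P := h.TP h.g2

theorem max {X : Subgroup G} (hTX : T ≤ X) (hXP : X ≤ P) : X = T ∨ X = P := by
  have h1 := Subgroup.relIndex_mul_relIndex T X P hTX hXP
  rw [h.idx] at h1
  have h2 : T.relIndex X ∣ 3 := Dvd.intro _ h1
  rcases (Nat.dvd_prime Nat.prime_three).mp h2 with h3 | h3
  · left; exact le_antisymm (Subgroup.relIndex_eq_one.mp h3) hTX
  · right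
    rw [h3] at h1
    have h4 : X.relIndex P = 1 := by omega
    exact le_antisymm hXP (Subgroup.relIndex_eq_one.mp h4)

/-- `T` is self-normalizing in `P` -/
theorem notNz {p : G} (hp : p ∈ P) (hpT : p ∉ T) : cj p T ≠ T := by
  intro h1
  have h2 : p ∈ Nz T := mem_Nz_iff_cj.mpr h1
  rcases h.max (X := P ⊓ Nz T) (le_inf h.TP Subgroup.le_normalizer) inf_le_left with h3 | h3
  · apply hpT
    rw [← h3]; exact ⟨hp, h2⟩
  · exact h.nn (inf_eq_left.mp h3)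

theorem gen {p : G} (hp : p ∈ P) (hpT : p ∉ T) : T ⊔ cj p T = P := by
  rcases h.max (X := T ⊔ cj p T) le_sup_left (sup_le h.TP (by rw [← h.cjP hp]; exact cj_mono h.TP)) with h1 | h1
  · exfalso
    have h2 : cj p T ≤ T := by
      calc cj p T ≤ T ⊔ cj p T := le_sup_right
        _ = T := h1
    exact h.notNz hp hpT (Subgroup.eq_of_le_of_card_ge h2 (card_cj p T).ge)
  · exact h1

theorem ZV : omegaCenterOf T ≤ VV P := by
  intro z hz
  obtain ⟨h1, h2, h3⟩ := mem_oc.mp hz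
  have h4 : z ∈ Cz (pCoreOf 2 P) := Cz_anti h.QT h2
  exact mem_oc.mpr ⟨h.cq ⟨h.TP h1, h4⟩, h4, h3⟩

theorem CV : P ⊓ Cz (VV P) ≤ pCoreOf 2 P := by
  set N := P ⊓ Cz (VV P) with hN
  have hPN : P ≤ Nz N := (le_inf Subgroup.le_normalizer (h.PV.trans (Nz_le_Nz_Cz _))).trans (Nz_inf_le _ _)
  by_cases hNT : N ≤ T
  · exact le_pCoreOf inf_le_left hPN (h.T2.to_le hNT)
  · exfalso
    rcases h.max (X := T ⊔ N) le_sup_left (sup_le h.TP inf_le_left) with h1 | h1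
    · exact hNT (h1 ▸ le_sup_right)
    · apply h.nz
      rw [← h1]
      apply sup_le (le_Cz_comm.mp (oc_le_Cz T))
      exact inf_le_right.trans (Cz_anti h.ZV)

/-- conjugate form -/
theorem CVx {x y : G} (hx : x ∈ cj y P) (hc : x ∈ Cz (cj y (VV P))) : x ∈ cj y (pCoreOf 2 P) := by
  rw [mem_cj] at hx ⊢
  apply h.CV
  refine ⟨hx, ?_⟩
  rw [← cj_Cz, mem_cj] at hc
  exact hc

theorem QCVx {x y : G} (hx : x ∈ cj y (pCoreOf 2 P)) : x ∈ Cz (cj y (VV P)) := by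
  rw [← cj_Cz]; exact cj_mono h.QCV hx

/-- elements of `V` centralized by some `t ∈ T ∖ Q` lie in `Z` -/
theorem fix {t v : G} (ht : t ∈ T) (htQ : t ∉ pCoreOf 2 P) (hv : v ∈ VV P) (hc : t * v = v * t) :
    v ∈ omegaCenterOf T := by
  refine mem_oc.mpr ⟨h.VT hv, ?_, mem_VV_sq hv⟩
  rw [Subgroup.mem_centralizer_iff]
  intro x hx
  by_cases hxQ : x ∈ pCoreOf 2 P
  · exact (Subgroup.mem_centralizer_iff.mp (h.QCV hxQ) v hv).symm
  · have h1 : t⁻¹ * x ∈ pCoreOf 2 P :=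
      idx2 h.q2 (T.inv_mem ht) hx (fun h2 => htQ (by simpa using (pCoreOf 2 P).inv_mem h2)) hxQ
    have h2 : t⁻¹ * x * v = v * (t⁻¹ * x) := (Subgroup.mem_centralizer_iff.mp (h.QCV h1) v hv).symm
    calc x * v = t * (t⁻¹ * x * v) := by group
      _ = (t * v) * (t⁻¹ * x) := by rw [h2]; group
      _ = v * x := by rw [hc]; group

theorem V_ne_Z : ¬ VV P ≤ omegaCenterOf T := by
  intro h1
  have h2 : T ≤ Cz (VV P) := le_Cz_comm.mp (h1.trans (oc_le_Cz T))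
  have h3 : T ≤ pCoreOf 2 P := (le_inf h.TP h2).trans h.CV
  have h4 := h.q2
  rw [Subgroup.relIndex_eq_one.mpr h3] at h4
  omega

theorem V_ne : VV P ≠ ⊥ := by
  intro h1
  exact h.V_ne_Z (by rw [h1]; exact bot_le)

/-- `C = C_V(P)` -/
theorem C_le_Z : VV P ⊓ Cz P ≤ omegaCenterOf T := by
  rintro v ⟨h1, h2⟩
  exact mem_oc.mpr ⟨h.VT h1, Cz_anti h.TP h2, mem_VV_sq h1⟩

theorem inf_le_C {p : G} (hp : p ∈ P) (hpT : p ∉ T) : omegaCenterOf T ⊓ cj p (omegaCenterOf T) ≤ VV P ⊓ Cz P := by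
  rintro v ⟨h1, h2⟩
  refine ⟨h.ZV h1, ?_⟩
  rw [← h.gen hp hpT]
  have h3 : T ⊔ cj p T ≤ Cz (omegaCenterOf T ⊓ cj p (omegaCenterOf T)) := by
    apply sup_le
    · exact (le_Cz_comm.mp (oc_le_Cz T)).trans (Cz_anti inf_le_left)
    · rw [← oc_cj]
      exact (le_Cz_comm.mp (oc_le_Cz (cj p T))).trans (Cz_anti inf_le_right)
  exact le_Cz_comm.mp h3 ⟨h1, h2⟩

theorem PC : P ≤ Nz (VV P ⊓ Cz P) :=
  (le_inf h.PV (Subgroup.le_normalizer.trans (Nz_le_Nz_Cz P))).trans (Nz_inf_le _ _)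

theorem cjC {p : G} (hp : p ∈ P) : cj p (VV P ⊓ Cz P) = VV P ⊓ Cz P := cj_eq_of_mem_Nz (h.PC hp)

theorem C_inf : (VV P ⊓ Cz P) ⊓ cj g (VV P ⊓ Cz P) = ⊥ := by
  apply h.core
  · exact inf_le_left.trans (inf_le_left.trans h.VT)
  · exact (le_Cz_comm.mp (inf_le_left.trans inf_le_right)).trans (Cz_le_Nz _)
  · refine le_trans ?_ (Cz_le_Nz _)
    apply le_Cz_comm.mp
    rw [← cj_Cz]
    exact inf_le_right.trans (cj_mono inf_le_right)

end Am

/-- mutual action of two vertices -/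
def Cr (T P : Subgroup G) (x y : G) : Prop :=
  cj x (VV P) ≤ cj y T ∧ cj y (VV P) ≤ cj x T ∧ ¬ cj x (VV P) ≤ cj y (pCoreOf 2 P)

namespace Am

variable (h : Am T P g) {x y : G}
include h

theorem Crsymm (hc : Cr T P x y) : Cr T P y x := by
  refine ⟨hc.2.1, hc.1, ?_⟩
  intro h1
  apply hc.2.2
  intro v hv
  apply h.CVx (cj_mono h.TP (hc.1 hv))
  have h2 : cj y (VV P) ≤ Cz (cj x (VV P)) := fun w hw => h.QCVx (h1 hw)
  exact le_Cz_comm.mp h2 hv

/-- elements of `V_x` centralizing `V_y` -/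
theorem Crfix (hc : Cr T P x y) {v : G} (hv : v ∈ cj x (VV P)) (hvc : v ∈ Cz (cj y (VV P))) :
    v ∈ cj x (omegaCenterOf T) := by
  obtain ⟨w, hw, hwQ⟩ := SetLike.not_le_iff_exists.mp (h.Crsymm hc).2.2
  have h1 : x⁻¹ * w * x ∈ T := mem_cj.mp (hc.2.1 hw)
  have h2 : x⁻¹ * w * x ∉ pCoreOf 2 P := fun h3 => hwQ (mem_cj.mpr h3)
  rw [mem_cj]
  apply h.fix h1 h2 (mem_cj.mp hv)
  have h3 := Subgroup.mem_centralizer_iff.mp hvc w hw
  calc x⁻¹ * w * x * (x⁻¹ * v * x) = x⁻¹ * (w * v) * x := by group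
    _ = x⁻¹ * v * x * (x⁻¹ * w * x) := by rw [h3]; group

theorem Crnot (hc : Cr T P x y) {v : G} (hv : v ∈ cj x (VV P)) (hvZ : v ∉ cj x (omegaCenterOf T)) :
    v ∉ cj y (pCoreOf 2 P) := fun h1 => hvZ (h.Crfix hc hv (h.QCVx h1))

theorem cjq2 (y : G) : (cj y (pCoreOf 2 P)).relIndex (cj y T) = 2 := by
  rw [relIndex_cj]; exact h.q2

/-- `|V:Z| = 2` -/
theorem half (hc : Cr T P x y) {u v : G} (hu : u ∈ VV P) (hv : v ∈ VV P) (huZ : u ∉ omegaCenterOf T)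
    (hvZ : v ∉ omegaCenterOf T) : u * v ∈ omegaCenterOf T := by
  have key : ∀ {u : G}, u ∈ VV P → u ∉ omegaCenterOf T → x * u * x⁻¹ ∈ cj x (VV P) ∧ x * u * x⁻¹ ∉ cj y (pCoreOf 2 P) := by
    intro u hu huZ
    refine ⟨conj_mem_cj hu, ?_⟩
    apply h.Crnot hc (conj_mem_cj hu)
    intro h1
    apply huZ
    have := mem_cj.mp h1
    have e : x⁻¹ * (x * u * x⁻¹) * x = u := by group
    rwa [e] at this
  obtain ⟨a1, a2⟩ := key hu huZ
  obtain ⟨b1, b2⟩ := key hv hvZ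
  have h1 := idx2 (h.cjq2 y) (hc.1 a1) (hc.1 b1) a2 b2
  have h2 := h.Crfix hc ((cj x (VV P)).mul_mem a1 b1) (h.QCVx h1)
  rw [mem_cj] at h2
  have e : x⁻¹ * (x * u * x⁻¹ * (x * v * x⁻¹)) * x = u * v := by group
  rwa [e] at h2

end Am

end Cfsg.Agent.H17.SA
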