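import Cfsg.Agent.H17_SA1

/-! Symmetric amalgams: the commutator group `R = [V,T]`, and `C = C_V(P)` -/

set_option autoImplicit false
set_option linter.unusedSectionVars false
set_option linter.unusedVariables false

namespace Cfsg.Agent.H17.SA

open Cfsg Cfsg.Agent.H17.Base Cfsg.Agent.H17.Ks

variable {G : Type*} [Group G] [Finite G] {T P : Subgroup G} {g : G}

/-- `Am` together with a pair of vertices acting nontrivially on each other, repackaged at the vertex `P` -/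
structure Am1 (T P : Subgroup G) (g : G) : Prop extends Am T P g where
  half : ∀ u ∈ VV P, ∀ v ∈ VV P, u ∉ omegaCenterOf T → v ∉ omegaCenterOf T → u * v ∈ omegaCenterOf T

theorem Am.toAm1 (h : Am T P g) {x y : G} (hc : Cr T P x y) : Am1 T P g :=
  { h with half := fun _ hu _ hv huZ hvZ => h.half hc hu hv huZ hvZ }

theorem inv_eq_self_of_sq {v : G} (h : v * v = 1) : v⁻¹ = v := inv_eq_of_mul_eq_one_left h

namespace Am1

variable (h : Am1 T P g)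
include h

theorem abV {u v : G} (hu : u ∈ VV P) (hv : v ∈ VV P) : u * v = v * u := (VV_EA P).1 u hu v hv

/-- the generator of `R = [V,T]` -/
theorem exists_r : ∃ r ∈ omegaCenterOf T, r ≠ 1 ∧
    (∀ v ∈ VV P, ∀ t ∈ T, v ∉ omegaCenterOf T → t ∉ pCoreOf 2 P → v * t * v⁻¹ * t⁻¹ = r) ∧
    ∀ v ∈ VV P, ∀ t ∈ T, (v ∈ omegaCenterOf T ∨ t ∈ pCoreOf 2 P) → v * t * v⁻¹ * t⁻¹ = 1 := by
  obtain ⟨v₀, hv₀, hv₀Z⟩ := SetLike.not_le_iff_exists.mp h.V_ne_Z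
  obtain ⟨t₀, ht₀, ht₀Q⟩ : ∃ t ∈ T, t ∉ pCoreOf 2 P := by
    apply SetLike.not_le_iff_exists.mp
    intro h1
    have h4 := h.q2
    rw [Subgroup.relIndex_eq_one.mpr h1] at h4
    omega
  have htriv : ∀ v ∈ VV P, ∀ t ∈ T, (v ∈ omegaCenterOf T ∨ t ∈ pCoreOf 2 P) → v * t * v⁻¹ * t⁻¹ = 1 := by
    intro v hv t ht hor
    have : v * t = t * v := by
      rcases hor with h1 | h1
      · exact (Subgroup.mem_centralizer_iff.mp (oc_le_Cz T h1) t ht).symm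
      · exact Subgroup.mem_centralizer_iff.mp (h.QCV h1) v hv
    rw [this]; group
  have hVt : ∀ v ∈ VV P, ∀ t ∈ T, t * v * t⁻¹ ∈ VV P := fun v hv t ht =>
    (Subgroup.mem_normalizer_iff.mp (h.PV (h.TP ht)) v).mp hv
  -- same t
  have hsame : ∀ v ∈ VV P, v ∉ omegaCenterOf T → ∀ t ∈ T, v * t * v⁻¹ * t⁻¹ = v₀ * t * v₀⁻¹ * t⁻¹ := by
    intro v hv hvZ t ht
    have h1 : v₀ * v ∈ omegaCenterOf T := h.half v₀ hv₀ v hv hv₀Z hvZ
    have h2 : v₀ * v * t = t * (v₀ * v) := (Subgroup.mem_centralizer_iff.mp (oc_le_Cz T h1) t ht).symm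
    have h3 := inv_eq_self_of_sq (mem_VV_sq hv)
    have h4 := inv_eq_self_of_sq (mem_VV_sq hv₀)
    -- v t v t⁻¹ = v₀ t v₀ t⁻¹
    have h5 : v * t * v⁻¹ = v₀ * t * v₀⁻¹ := by
      have e1 : v = v₀ * (v₀ * v) := by rw [← mul_assoc, mem_VV_sq hv₀, one_mul]
      calc v * t * v⁻¹ = (v₀ * (v₀ * v)) * t * (v₀ * (v₀ * v))⁻¹ := by rw [← e1]
        _ = v₀ * ((v₀ * v) * t) * (v₀ * v)⁻¹ * v₀⁻¹ := by group
        _ = v₀ * (t * (v₀ * v)) * (v₀ * v)⁻¹ * v₀⁻¹ := by rw [h2]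
        _ = v₀ * t * v₀⁻¹ := by group
    rw [h5]
  have hsame2 : ∀ t ∈ T, t ∉ pCoreOf 2 P → v₀ * t * v₀⁻¹ * t⁻¹ = v₀ * t₀ * v₀⁻¹ * t₀⁻¹ := by
    intro t ht htQ
    have h1 : t₀⁻¹ * t ∈ pCoreOf 2 P :=
      idx2 h.q2 (T.inv_mem ht₀) ht (fun h2 => ht₀Q (by simpa using (pCoreOf 2 P).inv_mem h2)) htQ
    have h2 : v₀ * (t₀⁻¹ * t) = t₀⁻¹ * t * v₀ := Subgroup.mem_centralizer_iff.mp (h.QCV h1) v₀ hv₀
    have e1 : t = t₀ * (t₀⁻¹ * t) := by group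
    calc v₀ * t * v₀⁻¹ * t⁻¹ = v₀ * (t₀ * (t₀⁻¹ * t)) * v₀⁻¹ * (t₀ * (t₀⁻¹ * t))⁻¹ := by rw [← e1]
      _ = v₀ * t₀ * ((t₀⁻¹ * t) * v₀⁻¹) * (t₀⁻¹ * t)⁻¹ * t₀⁻¹ := by group
      _ = v₀ * t₀ * (v₀⁻¹ * (t₀⁻¹ * t)) * (t₀⁻¹ * t)⁻¹ * t₀⁻¹ := by
          have : (t₀⁻¹ * t) * v₀⁻¹ = v₀⁻¹ * (t₀⁻¹ * t) := by
            calc (t₀⁻¹ * t) * v₀⁻¹ = v₀⁻¹ * (v₀ * (t₀⁻¹ * t)) * v₀⁻¹ := by group
              _ = v₀⁻¹ * (t₀⁻¹ * t * v₀) * v₀⁻¹ := by rw [h2]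
              _ = _ := by group
          rw [this]
      _ = v₀ * t₀ * v₀⁻¹ * t₀⁻¹ := by group
  refine ⟨v₀ * t₀ * v₀⁻¹ * t₀⁻¹, ?_, ?_, ?_, htriv⟩
  · have h1 : t₀ * v₀⁻¹ * t₀⁻¹ ∈ VV P := hVt _ ((VV P).inv_mem hv₀) t₀ ht₀
    have h2 : t₀ * v₀⁻¹ * t₀⁻¹ ∉ omegaCenterOf T := by
      intro h3
      apply hv₀Z
      have h4 : t₀⁻¹ * (t₀ * v₀⁻¹ * t₀⁻¹) = (t₀ * v₀⁻¹ * t₀⁻¹) * t₀⁻¹ :=
        Subgroup.mem_centralizer_iff.mp (oc_le_Cz T h3) _ (T.inv_mem ht₀)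
      have h5 : v₀⁻¹ = t₀ * v₀⁻¹ * t₀⁻¹ := by
        calc v₀⁻¹ = (t₀⁻¹ * (t₀ * v₀⁻¹ * t₀⁻¹)) * t₀ := by group
          _ = ((t₀ * v₀⁻¹ * t₀⁻¹) * t₀⁻¹) * t₀ := by rw [h4]
          _ = _ := by group
      rw [← h5] at h3
      simpa using (omegaCenterOf T).inv_mem h3
    have h3 := h.half v₀ hv₀ _ h1 hv₀Z h2
    have e : v₀ * (t₀ * v₀⁻¹ * t₀⁻¹) = v₀ * t₀ * v₀⁻¹ * t₀⁻¹ := by group
    rwa [e] at h3
  · intro h1
    apply hv₀Z
    apply h.fix ht₀ ht₀Q hv₀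
    calc t₀ * v₀ = (v₀ * t₀ * v₀⁻¹ * t₀⁻¹)⁻¹ * v₀ * t₀ := by group
      _ = v₀ * t₀ := by rw [h1]; group
  · intro v hv t ht hvZ htQ
    rw [hsame v hv hvZ t ht, hsame2 t ht htQ]

/-- `R = [V,T]` -/
theorem R_le_Z : ⁅VV P, T⁆ ≤ omegaCenterOf T := by
  obtain ⟨r, hr, hr1, h1, h2⟩ := h.exists_r
  rw [Subgroup.commutator_le]
  intro v hv t ht
  rw [commutatorElement_def]
  by_cases h3 : v ∈ omegaCenterOf T ∨ t ∈ pCoreOf 2 P
  · rw [h2 v hv t ht h3]; exact Subgroup.one_mem _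
  · push Not at h3
    rw [h1 v hv t ht h3.1 h3.2]; exact hr

theorem R_cases : ∃ r ∈ ⁅VV P, T⁆, r ≠ 1 ∧ ∀ x ∈ ⁅VV P, T⁆, x = 1 ∨ x = r := by
  obtain ⟨r, hr, hr1, h1, h2⟩ := h.exists_r
  obtain ⟨v₀, hv₀, hv₀Z⟩ := SetLike.not_le_iff_exists.mp h.V_ne_Z
  obtain ⟨t₀, ht₀, ht₀Q⟩ : ∃ t ∈ T, t ∉ pCoreOf 2 P := by
    apply SetLike.not_le_iff_exists.mp
    intro h1
    have h4 := h.q2
    rw [Subgroup.relIndex_eq_one.mpr h1] at h4
    omega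
  have hrr : r * r = 1 := (mem_oc.mp hr).2.2
  refine ⟨r, ?_, hr1, ?_⟩
  · rw [← h1 v₀ hv₀ t₀ ht₀ hv₀Z ht₀Q]
    exact Subgroup.commutator_mem_commutator hv₀ ht₀
  · have h3 : ⁅VV P, T⁆ ≤ Subgroup.zpowers r := by
      rw [Subgroup.commutator_le]
      intro v hv t ht
      rw [commutatorElement_def]
      by_cases h3 : v ∈ omegaCenterOf T ∨ t ∈ pCoreOf 2 P
      · rw [h2 v hv t ht h3]; exact Subgroup.one_mem _
      · push Not at h3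
        rw [h1 v hv t ht h3.1 h3.2]; exact Subgroup.mem_zpowers r
    intro x hx
    obtain ⟨k, rfl⟩ := h3 hx
    rcases Int.even_or_odd' k with ⟨m, hm | hm⟩
    · left
      show r ^ k = 1
      rw [hm, zpow_mul]
      have : r ^ (2 : ℤ) = 1 := by rw [zpow_two, hrr]
      rw [this, one_zpow]
    · right
      show r ^ k = r
      rw [hm, zpow_add, zpow_mul, zpow_one]
      have : r ^ (2 : ℤ) = 1 := by rw [zpow_two, hrr]
      rw [this, one_zpow, one_mul]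

theorem cjR {t : G} (ht : t ∈ T) : cj t ⁅VV P, T⁆ = ⁅VV P, T⁆ := by
  rw [cj_commutator, h.cjV (h.TP ht), h.cjT ht]

/-- `R ∩ C = 1` -/
theorem R_inf_C {x : G} (hx : x ∈ ⁅VV P, T⁆) (hxC : x ∈ Cz P) : x = 1 := by
  obtain ⟨r, hr, hr1, h1⟩ := h.R_cases
  rcases h1 x hx with h2 | h2
  · exact h2
  exfalso
  rw [h2] at hxC
  have hrr : r * r = 1 := (mem_oc.mp (h.R_le_Z hr)).2.2
  have hrc : ∀ p ∈ P, p * r * p⁻¹ = r := by
    intro p hp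
    have := Subgroup.mem_centralizer_iff.mp hxC p hp
    rw [this]; group
  have hcjR : ∀ p ∈ P, cj p ⁅VV P, T⁆ ≤ ⁅VV P, T⁆ := by
    rintro p hp _ ⟨y, hy, rfl⟩
    rcases h1 y hy with h3 | h3
    · rw [h3, map_one]; exact Subgroup.one_mem _
    · rw [h3]
      show p * r * p⁻¹ ∈ _
      rw [hrc p hp]; exact hr
  -- P acts trivially on V/R
  have hstab : ∀ v ∈ VV P, ∀ x ∈ P, x * v * x⁻¹ * v⁻¹ ∈ ⁅VV P, T⁆ := by
    obtain ⟨p, hp, hpT⟩ : ∃ p ∈ P, p ∉ T := by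
      apply SetLike.not_le_iff_exists.mp
      intro h3
      have := h.idx
      rw [Subgroup.relIndex_eq_one.mpr h3] at this
      omega
    intro v hv x hx
    rw [← h.gen hp hpT] at hx
    have hPR : P ≤ Nz ⁅VV P, T⁆ := by
      intro q hq
      exact mem_Nz_of_cj_le (hcjR q hq)
    have base : ∀ x ∈ T ⊔ cj p T, x ∈ P ∧ ∀ v ∈ VV P, x * v * x⁻¹ * v⁻¹ ∈ ⁅VV P, T⁆ := by
      intro x hx
      have hcl : T ⊔ cj p T = Subgroup.closure ((T : Set G) ∪ (cj p T : Subgroup G)) := by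
        rw [Subgroup.closure_union, Subgroup.closure_eq, Subgroup.closure_eq]
      rw [hcl] at hx
      refine Subgroup.closure_induction (p := fun x _ => x ∈ P ∧ ∀ v ∈ VV P, x * v * x⁻¹ * v⁻¹ ∈ ⁅VV P, T⁆) ?_ ?_ ?_ ?_ hx
      · rintro x (hx | hx)
        · refine ⟨h.TP hx, fun v hv => ?_⟩
          rw [Subgroup.commutator_comm]
          exact Subgroup.commutator_mem_commutator (show x ∈ T from hx) hv
        · refine ⟨by rw [← h.cjP hp]; exact cj_mono h.TP hx, fun v hv => ?_⟩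
          have h3 : x * v * x⁻¹ * v⁻¹ ∈ ⁅cj p T, cj p (VV P)⁆ := by
            rw [h.cjV hp]; exact Subgroup.commutator_mem_commutator hx hv
          rw [← cj_commutator, Subgroup.commutator_comm] at h3
          exact hcjR p hp h3
      · exact ⟨Subgroup.one_mem _, fun v hv => by simp⟩
      · rintro a b _ _ ⟨ha, ha'⟩ ⟨hb, hb'⟩
        refine ⟨P.mul_mem ha hb, fun v hv => ?_⟩
        have h3 := hb' v hv
        have h4 : a * (b * v * b⁻¹ * v⁻¹) * a⁻¹ ∈ ⁅VV P, T⁆ := (Subgroup.mem_normalizer_iff.mp (hPR ha) _).mp h3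
        have h5 := Subgroup.mul_mem _ h4 (ha' v hv)
        have e : a * (b * v * b⁻¹ * v⁻¹) * a⁻¹ * (a * v * a⁻¹ * v⁻¹) = a * b * v * (a * b)⁻¹ * v⁻¹ := by group
        rwa [e] at h5
      · rintro a _ ⟨ha, ha'⟩
        refine ⟨P.inv_mem ha, fun v hv => ?_⟩
        have h3 : a⁻¹ * v * a ∈ VV P := by
          have := (Subgroup.mem_normalizer_iff.mp (h.PV (P.inv_mem ha)) v).mp hv
          simpa using this
        have h4 := ha' _ h3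
        have h5 := Subgroup.inv_mem _ h4
        have e : (a * (a⁻¹ * v * a) * a⁻¹ * (a⁻¹ * v * a)⁻¹)⁻¹ = a⁻¹ * v * a⁻¹⁻¹ * v⁻¹ := by group
        rwa [e] at h5
    exact (base x hx).2 v hv
  -- an element of order 3
  have h3 : Fact (Nat.Prime 3) := ⟨Nat.prime_three⟩
  have h3d : 3 ∣ Nat.card ↥P := by
    have := Subgroup.relIndex_dvd_card T P
    rw [h.idx] at this
    exact this
  obtain ⟨⟨d, hd⟩, hd3⟩ := exists_prime_orderOf_dvd_card' 3 h3d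
  rw [Subgroup.orderOf_mk] at hd3
  have hdd : d * d ∈ Cz (VV P) := by
    rw [Subgroup.mem_centralizer_iff]
    intro v hv
    have h4 := hstab v hv d hd
    set f := d * v * d⁻¹ * v⁻¹ with hf
    have e1 : d * v * d⁻¹ = f * v := by rw [hf]; group
    have e2 : d * f * d⁻¹ = f := by
      rcases h1 f h4 with h5 | h5
      · rw [h5]; group
      · rw [h5]; exact hrc d hd
    have e3 : f * f = 1 := by
      rcases h1 f h4 with h5 | h5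
      · rw [h5, one_mul]
      · rw [h5]; exact hrr
    have e4 : d * d * v * (d * d)⁻¹ = v := by
      calc d * d * v * (d * d)⁻¹ = d * (d * v * d⁻¹) * d⁻¹ := by group
        _ = d * (f * v) * d⁻¹ := by rw [e1]
        _ = (d * f * d⁻¹) * (d * v * d⁻¹) := by group
        _ = f * (f * v) := by rw [e2, e1]
        _ = (f * f) * v := by group
        _ = v := by rw [e3, one_mul]
    calc v * (d * d) = (d * d * v * (d * d)⁻¹) * (d * d) := by rw [e4]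
      _ = d * d * v := by group
  have hddQ : d * d ∈ pCoreOf 2 P := h.CV ⟨P.mul_mem hd hd, hdd⟩
  have hcube : d ^ 3 = 1 := by rw [← hd3]; exact pow_orderOf_eq_one d
  obtain ⟨k, hk⟩ := (pCoreOf_isPGroup (p := 2) P) ⟨d * d, hddQ⟩
  have hk' : (d * d) ^ 2 ^ k = 1 := by
    have := congrArg Subtype.val hk
    simpa using this
  have h5 : orderOf d ∣ 2 * 2 ^ k := by
    apply orderOf_dvd_of_pow_eq_one
    rw [pow_mul, pow_two]; exact hk'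
  rw [hd3, ← pow_succ'] at h5
  have := (Nat.Prime.dvd_of_dvd_pow Nat.prime_three h5)
  omega

theorem exists_pT : ∃ p ∈ P, p ∉ T := by
  apply SetLike.not_le_iff_exists.mp
  intro h3
  have := h.idx
  rw [Subgroup.relIndex_eq_one.mpr h3] at this
  omega

/-- `|Z:C| ≤ 2` -/
theorem halfC {a b : G} (ha : a ∈ omegaCenterOf T) (hb : b ∈ omegaCenterOf T) (haC : a ∉ Cz P) (hbC : b ∉ Cz P) :
    a * b ∈ Cz P := by
  obtain ⟨p, hp, hpT⟩ := h.exists_pT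
  have key : ∀ a ∈ omegaCenterOf T, a ∉ Cz P → p⁻¹ * a * p ∈ VV P ∧ p⁻¹ * a * p ∉ omegaCenterOf T := by
    intro a ha haC
    constructor
    · have := (Subgroup.mem_normalizer_iff.mp (h.PV (P.inv_mem hp)) a).mp (h.ZV ha)
      simpa using this
    · intro h1
      apply haC
      exact (h.inf_le_C hp hpT ⟨ha, mem_cj.mpr h1⟩).2
  obtain ⟨a1, a2⟩ := key a ha haC
  obtain ⟨b1, b2⟩ := key b hb hbC
  have h1 := h.half _ a1 _ b1 a2 b2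
  have e : p⁻¹ * a * p * (p⁻¹ * b * p) = p⁻¹ * (a * b) * p := by group
  rw [e] at h1
  exact (h.inf_le_C hp hpT ⟨(omegaCenterOf T).mul_mem ha hb, mem_cj.mpr h1⟩).2

/-- `|C| ≤ 2` -/
theorem C_le_two {a b : G} (ha : a ∈ VV P ⊓ Cz P) (hb : b ∈ VV P ⊓ Cz P) (ha1 : a ≠ 1) (hb1 : b ≠ 1) : a = b := by
  have key : ∀ a ∈ VV P ⊓ Cz P, a ≠ 1 → g⁻¹ * a * g ∈ omegaCenterOf T ∧ g⁻¹ * a * g ∉ Cz P := by
    intro a ha ha1
    have h0 : a ∈ cj g (omegaCenterOf T) := by rw [h.cjgZ]; exact h.C_le_Z ha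
    refine ⟨mem_cj.mp h0, ?_⟩
    intro h1
    apply ha1
    have h2 : a ∈ (VV P ⊓ Cz P) ⊓ cj g (VV P ⊓ Cz P) := ⟨ha, mem_cj.mpr ⟨h.ZV (mem_cj.mp h0), h1⟩⟩
    rw [h.C_inf] at h2
    exact Subgroup.mem_bot.mp h2
  obtain ⟨a1, a2⟩ := key a ha ha1
  obtain ⟨b1, b2⟩ := key b hb hb1
  have h1 := h.halfC a1 b1 a2 b2
  have e : g⁻¹ * a * g * (g⁻¹ * b * g) = g⁻¹ * (a * b) * g := by group
  have h1' : g⁻¹ * (a * b) * g ∈ omegaCenterOf T := by rw [← e]; exact (omegaCenterOf T).mul_mem a1 b1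
  rw [e] at h1
  have h2 : a * b ∈ (VV P ⊓ Cz P) ⊓ cj g (VV P ⊓ Cz P) :=
    ⟨(VV P ⊓ Cz P).mul_mem ha hb, mem_cj.mpr ⟨h.ZV h1', h1⟩⟩
  rw [h.C_inf] at h2
  have h3 := Subgroup.mem_bot.mp h2
  have h4 : a = b⁻¹ := eq_inv_of_mul_eq_one_left h3
  rw [h4, inv_eq_self_of_sq (mem_VV_sq hb.1)]

end Am1

end Cfsg.Agent.H17.SA
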