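import Cfsg.Agent.H17_SA2

/-! Symmetric amalgams: walks and critical pairs -/

set_option autoImplicit false
set_option linter.unusedSectionVars false
set_option linter.unusedVariables false

namespace Cfsg.Agent.H17.SA

open Cfsg Cfsg.Agent.H17.Base Cfsg.Agent.H17.Ks
open scoped commutatorElement

variable {G : Type*} [Group G] [Finite G] {T P : Subgroup G} {g : G}

/-- `d ∈ D n`: there is a walk of length `n` from the vertex `P` to the vertex `dP` -/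
def D (P : Subgroup G) (g : G) : ℕ → Set G
  | 0 => P
  | n + 1 => {x | ∃ p ∈ P, ∃ d ∈ D P g n, x = p * g * d}

namespace Am

variable (h : Am T P g) {x y : G} {n : ℕ}
include h

theorem Dl {p d : G} (hp : p ∈ P) (hd : d ∈ D P g n) : p * d ∈ D P g n := by
  cases n with
  | zero => exact P.mul_mem hp hd
  | succ n =>
    obtain ⟨q, hq, e, he, rfl⟩ := hd
    exact ⟨p * q, P.mul_mem hp hq, e, he, by group⟩

theorem Dr {p d : G} (hp : p ∈ P) (hd : d ∈ D P g n) : d * p ∈ D P g n := by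
  induction n generalizing d with
  | zero => exact P.mul_mem hd hp
  | succ n ih =>
    obtain ⟨q, hq, e, he, rfl⟩ := hd
    exact ⟨q, hq, e * p, ih he, by group⟩

theorem Ds {d : G} (hd : d ∈ D P g n) : g * d ∈ D P g (n + 1) := ⟨1, P.one_mem, d, hd, by group⟩

theorem Dsr {d : G} (hd : d ∈ D P g n) : d * g ∈ D P g (n + 1) := by
  induction n generalizing d with
  | zero => exact ⟨d, hd, 1, P.one_mem, by group⟩
  | succ n ih =>
    obtain ⟨q, hq, e, he, rfl⟩ := hd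
    exact ⟨q, hq, e * g, ih he, by group⟩

theorem Dsr' {x : G} (hx : x ∈ D P g (n + 1)) : ∃ d ∈ D P g n, ∃ p ∈ P, x = d * g * p := by
  induction n generalizing x with
  | zero =>
    obtain ⟨q, hq, e, he, rfl⟩ := hx
    exact ⟨q, hq, e, he, by group⟩
  | succ n ih =>
    obtain ⟨q, hq, e, he, rfl⟩ := hx
    obtain ⟨d, hd, p, hp, rfl⟩ := ih he
    exact ⟨q * g * d, ⟨q, hq, d, hd, rfl⟩, p, hp, by group⟩

theorem ginv : g⁻¹ = g * (g * g)⁻¹ := by group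

theorem Dgi {d : G} (hd : d ∈ D P g n) : g⁻¹ * d ∈ D P g (n + 1) := by
  have : g⁻¹ * d = g * ((g * g)⁻¹ * d) := by group
  rw [this]
  exact h.Ds (h.Dl (P.inv_mem h.g2P) hd)

theorem Dinv {d : G} (hd : d ∈ D P g n) : d⁻¹ ∈ D P g n := by
  induction n generalizing d with
  | zero => exact P.inv_mem hd
  | succ n ih =>
    obtain ⟨q, hq, e, he, rfl⟩ := hd
    have e1 : (q * g * e)⁻¹ = e⁻¹ * g * ((g * g)⁻¹ * q⁻¹) := by group
    rw [e1]
    exact h.Dr (P.mul_mem (P.inv_mem h.g2P) (P.inv_mem hq)) (h.Dsr (ih he))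

theorem Dinv_iff {d : G} : d⁻¹ ∈ D P g n ↔ d ∈ D P g n :=
  ⟨fun hd => by simpa using h.Dinv hd, h.Dinv⟩

theorem cjgg (A : Subgroup G) (hA : P ≤ Nz A) : cj (g * g) A = A := cj_eq_of_mem_Nz (hA h.g2P)

/-- existence of `b` -/
theorem exists_b : ∃ n, ∃ d ∈ D P g n, ¬ VV P ≤ cj d (pCoreOf 2 P) := by
  by_contra hcon
  push Not at hcon
  set N : Subgroup G := ⨆ d : {d : G // ∃ n, d ∈ D P g n}, cj (d : G) (VV P) with hN
  have hle : ∀ d : G, (∃ n, d ∈ D P g n) → cj d (VV P) ≤ N := fun d hd =>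
    le_iSup (fun d : {d : G // ∃ n, d ∈ D P g n} => cj (d : G) (VV P)) ⟨d, hd⟩
  have hNQ : N ≤ pCoreOf 2 P := by
    apply iSup_le
    rintro ⟨d, n, hd⟩
    show cj d (VV P) ≤ _
    rw [cj_le_iff]
    exact hcon n _ (h.Dinv hd)
  have hPN : P ≤ Nz N := by
    intro p hp
    apply mem_Nz_of_cj_le
    rw [hN, cj, Subgroup.map_iSup]
    apply iSup_le
    rintro ⟨d, n, hd⟩
    show cj p (cj d (VV P)) ≤ _
    rw [← cj_mul]
    exact hle _ ⟨n, h.Dl hp hd⟩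
  have hPN' : cj g P ≤ Nz N := by
    rintro _ ⟨p, hp, rfl⟩
    show g * p * g⁻¹ ∈ Nz N
    apply mem_Nz_of_cj_le
    conv_lhs => rw [hN]
    rw [cj, Subgroup.map_iSup]
    apply iSup_le
    rintro ⟨d, n, hd⟩
    show cj (g * p * g⁻¹) (cj d (VV P)) ≤ _
    rw [← cj_mul]
    have e : g * p * g⁻¹ * d = g * (p * (g⁻¹ * d)) := by group
    rw [e]
    exact hle _ ⟨n + 1 + 1, h.Ds (h.Dl hp (h.Dgi hd))⟩
  have hbot := h.core N (hNQ.trans h.QT) hPN hPN'
  have h1 : VV P ≤ N := by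
    have := hle 1 ⟨0, P.one_mem⟩
    rwa [cj_one] at this
  rw [hbot] at h1
  exact h.V_ne (le_bot_iff.mp h1)

end Am

/-- the minimal-distance hypothesis -/
structure Bd (T P : Subgroup G) (g : G) (b : ℕ) : Prop extends Am T P g where
  hb : ∀ m < b, ∀ d ∈ D P g m, VV P ≤ cj d (pCoreOf 2 P)
  ex : ∃ d ∈ D P g b, ¬ VV P ≤ cj d (pCoreOf 2 P)

theorem Am.exists_Bd (h : Am T P g) : ∃ b, 1 ≤ b ∧ Bd T P g b := by
  classical
  have hex := h.exists_b
  refine ⟨Nat.find hex, ?_, { h with hb := ?_, ex := Nat.find_spec hex }⟩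
  · rw [Nat.one_le_iff_ne_zero]
    intro h0
    obtain ⟨d, hd, hd2⟩ := Nat.find_spec hex
    rw [h0] at hd
    apply hd2
    rw [h.cjQ hd]; exact h.VQ
  · intro m hm d hd
    by_contra hcon
    exact Nat.find_min hex hm ⟨d, hd, hcon⟩

/-- critical pair with its first and last arcs: `α = xP, α+1 = xgP, α'-1 = yP, α' = ygP` -/
def Crit (P : Subgroup G) (g : G) (b : ℕ) (x y : G) : Prop :=
  (x * g)⁻¹ * y ∈ D P g (b - 2) ∧ ¬ cj x (VV P) ≤ cj (y * g) (pCoreOf 2 P)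

namespace Bd

variable {b : ℕ} (h : Bd T P g b) {x y : G}
include h

theorem le_of {m : ℕ} (hm : m < b) (hd : x⁻¹ * y ∈ D P g m) : cj x (VV P) ≤ cj y (pCoreOf 2 P) := by
  have h1 := h.hb m hm _ hd
  have h2 := cj_mono (g := x) h1
  rw [← cj_mul] at h2
  have e : x * (x⁻¹ * y) = y := by group
  rwa [e] at h2

theorem cjxQ {p : G} (hp : p ∈ P) (x : G) : cj (x * p) (pCoreOf 2 P) = cj x (pCoreOf 2 P) := by
  rw [cj_mul, h.cjQ hp]
theorem cjxV {p : G} (hp : p ∈ P) (x : G) : cj (x * p) (VV P) = cj x (VV P) := by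
  rw [cj_mul, h.cjV hp]
theorem cjxT (x : G) : cj (x * g) T = cj x T := by rw [cj_mul, h.gT]

variable (hb2 : 2 ≤ b)
include hb2

theorem crit_Cr (hc : Crit P g b x y) : Cr T P x (y * g) := by
  obtain ⟨h1, h2⟩ := hc
  refine ⟨?_, ?_, h2⟩
  · have h3 : cj x (VV P) ≤ cj y (pCoreOf 2 P) := by
      apply h.le_of (m := b - 2 + 1) (by omega)
      have e : x⁻¹ * y = g * ((x * g)⁻¹ * y) := by group
      rw [e]; exact h.Ds h1
    rw [h.cjxT]
    exact h3.trans (cj_mono h.QT)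
  · have h3 : cj (y * g) (VV P) ≤ cj (x * g) (pCoreOf 2 P) := by
      apply h.le_of (m := b - 2 + 1) (by omega)
      have e : (y * g)⁻¹ * (x * g) = g⁻¹ * ((x * g)⁻¹ * y)⁻¹ := by group
      rw [e]; exact h.Dgi (h.Dinv h1)
    exact (h3.trans (cj_mono h.QT)).trans (h.cjxT x).le

theorem crit_symm (hc : Crit P g b x y) : Crit P g b (y * g) (x * g) := by
  refine ⟨?_, ?_⟩
  · have e : (y * g * g)⁻¹ * (x * g) = (g * g)⁻¹ * ((x * g)⁻¹ * y)⁻¹ := by group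
    rw [e]; exact h.Dl (P.inv_mem h.g2P) (h.Dinv hc.1)
  · have h1 := (h.Crsymm (h.crit_Cr hb2 hc)).2.2
    have e : x * g * g = x * (g * g) := by group
    rw [e, h.cjxQ h.g2P]
    exact h1

theorem exists_crit : ∃ x y, Crit P g b x y := by
  obtain ⟨d, hd, hdV⟩ := h.ex
  obtain ⟨m, rfl⟩ : ∃ m, b = m + 1 + 1 := ⟨b - 2, by omega⟩
  obtain ⟨p, hp, e, he, rfl⟩ := hd
  obtain ⟨f, hf, q, hq, rfl⟩ := h.Dsr' he
  refine ⟨1, g * f, ?_, ?_⟩
  · have : (1 * g)⁻¹ * (g * f) = f := by group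
    rw [this]; exact hf
  · intro h1
    apply hdV
    have h2 := cj_mono (g := p) h1
    rw [cj_one, h.cjV hp, ← cj_mul] at h2
    have e : p * (g * f * g) * q = p * g * (f * g * q) := by group
    rw [← e, h.cjxQ hq]
    exact h2

end Bd

/-- commutator of a mutual pair -/
theorem Am.Crcomm (h : Am T P g) {x y : G} (hc : Cr T P x y) : ⁅cj x (VV P), cj y (VV P)⁆ = cj x ⁅VV P, T⁆ := by
  apply le_antisymm
  · rw [cj_commutator]
    exact Subgroup.commutator_mono le_rfl hc.2.1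
  · rw [cj_commutator, Subgroup.commutator_le]
    intro v hv t ht
    obtain ⟨w, hw, hwQ⟩ := SetLike.not_le_iff_exists.mp (h.Crsymm hc).2.2
    by_cases htQ : t ∈ cj x (pCoreOf 2 P)
    · have h1 := Subgroup.mem_centralizer_iff.mp (h.QCVx htQ) v hv
      rw [commutatorElement_def, h1]
      have : t * v * v⁻¹ * t⁻¹ = 1 := by group
      rw [this]; exact Subgroup.one_mem _
    · have h1 : w⁻¹ * t ∈ cj x (pCoreOf 2 P) := by
        apply idx2 (h.cjq2 x) ((cj x T).inv_mem (hc.2.1 hw)) ht _ htQ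
        intro h2; exact hwQ (by simpa using (cj x (pCoreOf 2 P)).inv_mem h2)
      have h2 := Subgroup.mem_centralizer_iff.mp (h.QCVx h1) v hv
      have h3 : ⁅v, t⁆ = v * w * v⁻¹ * w⁻¹ := by
        rw [commutatorElement_def]
        have h4 : w⁻¹ * t * v⁻¹ = v⁻¹ * (w⁻¹ * t) := by
          calc w⁻¹ * t * v⁻¹ = v⁻¹ * (v * (w⁻¹ * t)) * v⁻¹ := by group
            _ = v⁻¹ * (w⁻¹ * t * v) * v⁻¹ := by rw [h2]
            _ = _ := by group
        calc v * t * v⁻¹ * t⁻¹ = v * w * (w⁻¹ * t * v⁻¹) * t⁻¹ := by group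
          _ = v * w * (v⁻¹ * (w⁻¹ * t)) * t⁻¹ := by rw [h4]
          _ = _ := by group
      rw [h3]
      exact Subgroup.commutator_mem_commutator hv hw

namespace Bd

variable {b : ℕ} (h : Bd T P g b) {x y : G} (hb2 : 2 ≤ b)
include h hb2

theorem toAm1 : Am1 T P g := by
  obtain ⟨x, y, hc⟩ := h.exists_crit hb2
  exact h.toAm.toAm1 (h.crit_Cr hb2 hc)

/-- step (3) -/
theorem step3 (hc : Crit P g b x y) {p : G} (hp : p ∈ P) (hpT : p ∉ T) :
    ¬ cj (x * p * g) (VV P) ≤ cj y (pCoreOf 2 P) := by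
  intro hB
  have hCr := h.crit_Cr hb2 hc
  obtain ⟨a₀, ha₀, ha₀Q⟩ := SetLike.not_le_iff_exists.mp hCr.2.2
  obtain ⟨w₀, hw₀, hw₀Q⟩ := SetLike.not_le_iff_exists.mp (h.Crsymm hCr).2.2
  -- `Y` normalizes `A ⊔ B`
  set A := cj x (VV P) with hA
  set B := cj (x * p * g) (VV P) with hBdef
  have hxPA : cj x P ≤ Nz A := by rw [hA, ← cj_Nz]; exact cj_mono h.PV
  have hYP : cj (y * g) (VV P) ≤ cj x P := hCr.2.1.trans (cj_mono h.TP)
  have hY : cj (y * g) (VV P) ≤ Nz (A ⊔ B) := by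
    intro yy hyy
    apply mem_Nz_of_cj_le
    rw [cj_sup]
    apply sup_le
    · rw [cj_eq_of_mem_Nz (hxPA (hYP hyy))]; exact le_sup_left
    · rintro _ ⟨bb, hbb, rfl⟩
      show yy * bb * yy⁻¹ ∈ A ⊔ B
      have hbT : bb ∈ cj (y * g) T := by
        rw [h.cjxT]; exact cj_mono h.QT (hB hbb)
      obtain ⟨a, ha, q', hq', rfl⟩ : ∃ a ∈ A, ∃ q' ∈ cj (y * g) (pCoreOf 2 P), bb = a * q' := by
        by_cases h1 : bb ∈ cj (y * g) (pCoreOf 2 P)
        · exact ⟨1, A.one_mem, bb, h1, by group⟩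
        · refine ⟨a₀, ha₀, a₀⁻¹ * bb, ?_, by group⟩
          apply idx2 (h.cjq2 (y * g)) ((cj (y * g) T).inv_mem (hCr.1 ha₀)) hbT _ h1
          intro h2; exact ha₀Q (by simpa using (cj (y * g) (pCoreOf 2 P)).inv_mem h2)
      have h1 : q' * yy = yy * q' := (Subgroup.mem_centralizer_iff.mp (h.QCVx hq') yy hyy).symm
      have h2 : yy * a * yy⁻¹ ∈ A := (Subgroup.mem_normalizer_iff.mp (hxPA (hYP hyy)) a).mp ha
      have e : yy * (a * q') * yy⁻¹ = (yy * a * yy⁻¹ * a⁻¹) * (a * q') := by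
        have h3 : yy * q' * yy⁻¹ = q' := by rw [← h1]; group
        calc yy * (a * q') * yy⁻¹ = (yy * a * yy⁻¹) * (yy * q' * yy⁻¹) := by group
          _ = (yy * a * yy⁻¹) * q' := by rw [h3]
          _ = _ := by group
      rw [e]
      exact Subgroup.mul_mem_sup (A.mul_mem h2 (A.inv_mem ha)) hbb
  have hT1 : cj (x * p) T ≤ Nz (A ⊔ B) := by
    have h1 : cj (x * p) T ≤ Nz A := by
      refine le_trans ?_ hxPA
      rw [cj_mul]
      apply cj_mono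
      rw [← h.cjP hp]; exact cj_mono h.TP
    have h2 : cj (x * p) T ≤ Nz B := by
      rw [← h.cjxT (x * p), hBdef, ← cj_Nz]
      exact cj_mono (h.TP.trans h.PV)
    exact (le_inf h1 h2).trans (Nz_sup_le _ _)
  have hQ1 : cj x (pCoreOf 2 P) ≤ Nz (A ⊔ B) := by
    refine le_trans ?_ hT1
    rw [← h.cjxQ hp x]; exact cj_mono h.QT
  have hT2 : cj x T ≤ Nz (A ⊔ B) := by
    intro t ht
    by_cases htQ : t ∈ cj x (pCoreOf 2 P)
    · exact hQ1 htQ
    · have h1 : w₀⁻¹ * t ∈ cj x (pCoreOf 2 P) := by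
        apply idx2 (h.cjq2 x) ((cj x T).inv_mem (hCr.2.1 hw₀)) ht _ htQ
        intro h2; exact hw₀Q (by simpa using (cj x (pCoreOf 2 P)).inv_mem h2)
      have e : t = w₀ * (w₀⁻¹ * t) := by group
      rw [e]; exact Subgroup.mul_mem _ (hY hw₀) (hQ1 h1)
  have hP : cj x P ≤ Nz (A ⊔ B) := by
    rw [← h.gen hp hpT, cj_sup, ← cj_mul]
    exact sup_le hT2 hT1
  -- transport to `V ⊔ V^g`
  have hP2 : P ≤ Nz (VV P ⊔ cj g (VV P)) := by
    have h1 := cj_mono (g := (x * p)⁻¹) hP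
    rw [cj_Nz, cj_sup, hA, hBdef, ← cj_mul, ← cj_mul, ← cj_mul] at h1
    have e1 : (x * p)⁻¹ * x = p⁻¹ := by group
    have e2 : (x * p)⁻¹ * (x * p * g) = g := by group
    rw [e1, e2, h.cjP (P.inv_mem hp), h.cjV (P.inv_mem hp)] at h1
    exact h1
  have hP3 : cj g P ≤ Nz (VV P ⊔ cj g (VV P)) := by
    have h1 := cj_mono (g := g) hP2
    rw [cj_Nz, cj_sup, ← cj_mul, h.cjV h.g2P, sup_comm] at h1
    exact h1
  have hVT' : cj g (VV P) ≤ T := by
    have := cj_mono (g := g) h.VT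
    rwa [h.gT] at this
  have hbot := h.core _ (sup_le h.VT hVT') hP2 hP3
  exact h.V_ne (le_bot_iff.mp (le_sup_left.trans hbot.le))

/-- step (4): shift -/
theorem shift (hc : Crit P g b x y) {p : G} (hp : p ∈ P) (hpT : p ∉ T) {y' : G} (h1 : (y' * g)⁻¹ * y ∈ P)
    (h2 : x⁻¹ * y' ∈ D P g (b - 2)) : Crit P g b (x * p * g) y' := by
  refine ⟨?_, ?_⟩
  · have e : (x * p * g * g)⁻¹ * y' = ((g * g)⁻¹ * p⁻¹) * (x⁻¹ * y') := by group
    rw [e]; exact h.Dl (P.mul_mem (P.inv_mem h.g2P) (P.inv_mem hp)) h2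
  · have h3 := h.step3 hb2 hc hp hpT
    have h4 := h.cjxQ h1 (y' * g)
    have e : y' * g * ((y' * g)⁻¹ * y) = y := by group
    rw [e] at h4
    rwa [← h4]

theorem exists_y' (hc : Crit P g b x y) : ∃ y', (y' * g)⁻¹ * y ∈ P ∧ x⁻¹ * y' ∈ D P g (b - 2) := by
  obtain ⟨h1, -⟩ := hc
  rcases Nat.eq_or_lt_of_le hb2 with h2 | h2
  · subst h2
    exact ⟨x, h1, by simp [D]⟩
  · obtain ⟨m, hm⟩ : ∃ m, b - 2 = m + 1 := ⟨b - 3, by omega⟩
    rw [hm] at h1 ⊢
    obtain ⟨d, hd, q, hq, e⟩ := h.Dsr' h1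
    refine ⟨x * g * d, ?_, ?_⟩
    · have e1 : y = x * g * (d * g * q) := by rw [← e]; group
      have e2 : (x * g * d * g)⁻¹ * y = q := by rw [e1]; group
      rw [e2]; exact hq
    · have e2 : x⁻¹ * (x * g * d) = g * d := by group
      rw [e2]; exact h.Ds hd

/-- `(*)`: `R^g = C` -/
theorem star : cj g ⁅VV P, T⁆ = VV P ⊓ Cz P := by
  have h' := h.toAm1 hb2
  obtain ⟨x, y, hc⟩ := h.exists_crit hb2
  obtain ⟨y', h1, h2⟩ := h.exists_y' hb2 hc
  obtain ⟨p, hp, hpT⟩ := h'.exists_pT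
  have hs := h.shift hb2 hc hp hpT h1 h2
  have hCr := h.crit_Cr hb2 hc
  have hCrs := h.crit_Cr hb2 hs
  have h3 := h.Crcomm hCrs
  have h3' := h.Crcomm (h.Crsymm hCrs)
  rw [Subgroup.commutator_comm] at h3'
  -- `R(xpg) = R(y'g) ≤ V_y`
  have hyV : cj (y' * g) (VV P) = cj y (VV P) := by
    have h4 := h.cjxV h1 (y' * g)
    have e : y' * g * ((y' * g)⁻¹ * y) = y := by group
    rw [e] at h4
    exact h4.symm
  have hRV : ⁅VV P, T⁆ ≤ VV P := h'.R_le_Z.trans h.ZV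
  have h5 : cj (x * p * g) ⁅VV P, T⁆ ≤ cj y (VV P) := by
    rw [← h3, h3', ← hyV]; exact cj_mono hRV
  have h6 : cj y (VV P) ≤ Cz (cj (y * g) (VV P)) := by
    have h7 : cj y (VV P) ≤ cj (y * g) (pCoreOf 2 P) := by
      apply h.le_of (m := 1) (by omega)
      have e : y⁻¹ * (y * g) = g * 1 := by group
      rw [e]; exact h.Ds P.one_mem
    exact fun v hv => h.QCVx (h7 hv)
  have h7 : cj (x * p * g) ⁅VV P, T⁆ ≤ cj (x * p) (omegaCenterOf T) := by
    rw [cj_mul (x * p) g]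
    apply cj_mono
    have := cj_mono (g := g) h'.R_le_Z
    rwa [h.cjgZ] at this
  have h8 : cj (x * p * g) ⁅VV P, T⁆ ≤ cj x (omegaCenterOf T) := by
    intro v hv
    refine h.Crfix hCr ?_ (h6 (h5 hv))
    have h9 := cj_mono (g := x * p) h.ZV (h7 hv)
    rwa [h.cjxV hp] at h9
  have h9 : cj (x * p * g) ⁅VV P, T⁆ ≤ cj x (VV P ⊓ Cz P) := by
    have h10 : cj (x * p * g) ⁅VV P, T⁆ ≤ cj x (omegaCenterOf T ⊓ cj p (omegaCenterOf T)) := by
      rw [cj_inf, ← cj_mul]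
      exact le_inf h8 h7
    exact h10.trans (cj_mono (h.inf_le_C hp hpT))
  have h10 : cj g ⁅VV P, T⁆ ≤ VV P ⊓ Cz P := by
    have h11 := cj_mono (g := (x * p)⁻¹) h9
    rw [← cj_mul, ← cj_mul] at h11
    have e1 : (x * p)⁻¹ * (x * p * g) = g := by group
    have e2 : (x * p)⁻¹ * x = p⁻¹ := by group
    rw [e1, e2, h.cjC (P.inv_mem hp)] at h11
    exact h11
  apply le_antisymm h10
  intro c hc
  obtain ⟨r, hr, hr1, hrc⟩ := h'.R_cases
  by_cases hc1 : c = 1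
  · rw [hc1]; exact Subgroup.one_mem _
  have h11 : g * r * g⁻¹ ∈ cj g ⁅VV P, T⁆ := conj_mem_cj hr
  have h12 : g * r * g⁻¹ ≠ 1 := by
    intro h13
    apply hr1
    calc r = g⁻¹ * (g * r * g⁻¹) * g := by group
      _ = 1 := by rw [h13]; group
  rw [h'.C_le_two hc (h10 h11) hc1 h12]
  exact h11

/-- `C^g = R` -/
theorem star' : cj g (VV P ⊓ Cz P) = ⁅VV P, T⁆ := by
  rw [← h.star hb2, ← cj_mul, (h.toAm1 hb2).cjR h.g2]

/-- (4b) -/
theorem crit_C (hc : Crit P g b x y) : cj (x * g) (VV P ⊓ Cz P) = cj y (VV P ⊓ Cz P) := by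
  have hCr := h.crit_Cr hb2 hc
  have h3 := h.Crcomm hCr
  have h3' := h.Crcomm (h.Crsymm hCr)
  rw [Subgroup.commutator_comm, h3] at h3'
  rw [cj_mul, h.star' hb2, h3', ← h.star' hb2, ← cj_mul]
  have e : y * g * g = y * (g * g) := by group
  rw [e, cj_mul, h.cjC h.g2P]

/-- `b = 2` -/
theorem b_le_two : b ≤ 2 := by
  by_contra hb3
  push Not at hb3
  have h' := h.toAm1 hb2
  obtain ⟨x, y, hc⟩ := h.exists_crit hb2
  obtain ⟨m, hm⟩ : ∃ m, b - 2 = m + 1 := ⟨b - 3, by omega⟩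
  obtain ⟨y', h1, h2⟩ := h.exists_y' hb2 hc
  have h2' := h2
  rw [hm] at h2'
  obtain ⟨d, hd, q, hq, e⟩ := h.Dsr' h2'
  -- y'' = x d
  have key : ∀ p ∈ P, p ∉ T → cj (x * p * g) (VV P ⊓ Cz P) = cj (x * d) (VV P ⊓ Cz P) := by
    intro p hp hpT
    have hs := h.shift hb2 hc hp hpT h1 h2
    have h3 : (x * d * g)⁻¹ * y' ∈ P := by
      have e1 : y' = x * (d * g * q) := by rw [← e]; group
      have e2 : (x * d * g)⁻¹ * y' = q := by rw [e1]; group
      rw [e2]; exact hq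
    have h4 : (x * p * g)⁻¹ * (x * d) ∈ D P g (b - 2) := by
      rw [hm]
      have e2 : (x * p * g)⁻¹ * (x * d) = g⁻¹ * (p⁻¹ * d) := by group
      rw [e2]; exact h.Dgi (h.Dl (P.inv_mem hp) hd)
    have hs2 := h.shift hb2 hs hp hpT h3 h4
    have h5 := h.crit_C hb2 hs2
    have e3 : x * p * g * p * g * g = x * p * g * (p * (g * g)) := by group
    rw [e3, cj_mul, h.cjC (P.mul_mem hp h.g2P)] at h5
    exact h5
  obtain ⟨p, hp, hpT⟩ := h'.exists_pT
  obtain ⟨t, ht, htp⟩ : ∃ t ∈ T, p⁻¹ * t * p ∉ T := by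
    by_contra hcon
    push Not at hcon
    apply h.notNz hp hpT
    symm
    apply Subgroup.eq_of_le_of_card_ge _ (card_cj p T).le
    intro t ht
    exact mem_cj.mpr (hcon t ht)
  have htpT : t * p ∉ T := by
    intro h3
    apply hpT
    have := T.mul_mem (T.inv_mem ht) h3
    have e : t⁻¹ * (t * p) = p := by group
    rwa [e] at this
  have h3 := key p hp hpT
  have h4 := key (t * p) (P.mul_mem (h.TP ht) hp) htpT
  rw [← h3] at h4
  -- cj (x t p g) C = cj (x p g) C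
  rw [cj_mul, cj_mul _ g, h.star' hb2] at h4
  have h5 : cj (p⁻¹ * t * p) ⁅VV P, T⁆ = ⁅VV P, T⁆ := by
    have h6 := congrArg (cj (x * p)⁻¹) h4
    rw [← cj_mul, ← cj_mul] at h6
    have e1 : (x * p)⁻¹ * (x * (t * p)) = p⁻¹ * t * p := by group
    have e2 : (x * p)⁻¹ * (x * p) = 1 := by group
    rw [e1, e2, cj_one] at h6
    exact h6
  obtain ⟨r, hr, hr1, hrc⟩ := h'.R_cases
  apply hr1
  apply h'.R_inf_C hr
  have h6 : r ∈ omegaCenterOf T ⊓ cj (p⁻¹ * t * p) (omegaCenterOf T) := by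
    refine ⟨h'.R_le_Z hr, ?_⟩
    rw [← h5] at hr
    exact cj_mono h'.R_le_Z hr
  exact (h.inf_le_C (P.mul_mem (P.mul_mem (P.inv_mem hp) (h.TP ht)) hp) htp h6).2

end Bd

end Cfsg.Agent.H17.SA
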