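import Mathlib
import Cfsg.Agent.H4_Dih

/-! Recognition of `SL(2,3)`. -/

set_option autoImplicit false

namespace Cfsg.Agent.H2.SL23

open Cfsg.Agent.H4.Dih QuaternionGroup

/-- an automorphism of order three of the quaternion group of order 8 (as a function) -/
def αf : QuaternionGroup 2 → QuaternionGroup 2
  | .a i => (![.a 0, .xa 0, .a 2, .xa 2] : Fin 4 → QuaternionGroup 2) i
  | .xa i => (![.xa 3, .a 3, .xa 1, .a 1] : Fin 4 → QuaternionGroup 2) i

theorem αf_mul : ∀ x y : QuaternionGroup 2, αf (x * y) = αf x * αf y := by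
  decide +kernel

theorem αf_cube : ∀ x : QuaternionGroup 2, αf (αf (αf x)) = x := by
  decide +kernel

/-- the automorphism -/
def α : MulAut (QuaternionGroup 2) where
  toFun := αf
  invFun x := αf (αf x)
  left_inv x := αf_cube x
  right_inv x := αf_cube x
  map_mul' := αf_mul

theorem α_cube : α ^ 3 = 1 := by
  ext x
  exact αf_cube x

/-- the action of `C₃` -/
def φ : Multiplicative (ZMod 3) →* MulAut (QuaternionGroup 2) := zmodPow 3 α α_cube

theorem zmodPow_natCast {G : Type*} [Group G] (n : ℕ) (a : G) (ha : a ^ n = 1) (k : ℕ) :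
    zmodPow n a ha (Multiplicative.ofAdd (k : ZMod n)) = a ^ k := zp_natCast n a ha k

/-- the model -/
abbrev S : Type := SemidirectProduct (QuaternionGroup 2) (Multiplicative (ZMod 3)) φ

theorem card_S : Nat.card S = 24 := by
  rw [SemidirectProduct.card]
  have h1 : Nat.card (QuaternionGroup 2) = 8 := by
    rw [Nat.card_eq_fintype_card]; rfl
  have h2 : Nat.card (Multiplicative (ZMod 3)) = 3 := by
    rw [Nat.card_eq_fintype_card]; rfl
  rw [h1, h2]

structure Data {K : Type*} [Group K] (i j g : K) : Prop where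
  hi : orderOf i = 4
  hg : orderOf g = 3
  hji : j * j = i ^ 2
  hc : j * i * j⁻¹ = i⁻¹
  h1 : g * i * g⁻¹ = j
  h2 : g * j * g⁻¹ = i * j

variable {K : Type*} [Group K] {i j g : K}

theorem Data.i4 (d : Data i j g) : i ^ (2 * 2) = 1 := by
  have := pow_orderOf_eq_one i
  rwa [d.hi] at this

theorem Data.g3 (d : Data i j g) : g ^ 3 = 1 := by
  have := pow_orderOf_eq_one g
  rwa [d.hg] at this

theorem Data.j_not_mem (d : Data i j g) : j ∉ Subgroup.zpowers i := by
  rintro ⟨k, hk⟩
  have h1 : j * i * j⁻¹ = i := by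
    rw [← hk]
    change i ^ k * i * (i ^ k)⁻¹ = i
    group
  rw [d.hc] at h1
  have h2 : i ^ 2 = 1 := by
    rw [pow_two]; nth_rewrite 1 [← h1]; rw [inv_mul_cancel]
  have h3 := orderOf_dvd_of_pow_eq_one h2
  rw [d.hi] at h3
  exact absurd h3 (by decide)

/-- the map on the quaternion part -/
def f₁ (d : Data i j g) : QuaternionGroup 2 →* K := quatHom 2 j i d.i4 d.hji d.hc

/-- the map on the cyclic part -/
def f₂ (d : Data i j g) : Multiplicative (ZMod 3) →* K := zmodPow 3 g d.g3

theorem f₁_a (d : Data i j g) (k : ℕ) : f₁ d (.a (k : ZMod (2 * 2))) = i ^ k := zp_natCast _ _ d.i4 k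

theorem f₁_xa (d : Data i j g) (k : ℕ) : f₁ d (.xa (k : ZMod (2 * 2))) = j * i ^ k := by
  change j * zp (2 * 2) i d.i4 (k : ZMod (2 * 2)) = _
  rw [zp_natCast]

theorem compat (d : Data i j g) (n : QuaternionGroup 2) : f₁ d (α n) = g * f₁ d n * g⁻¹ := by
  have h4 : i ^ 4 = 1 := d.i4
  have hij : i * j = j * i ^ 3 := by
    have h1 : i⁻¹ = i ^ 3 := by
      rw [inv_eq_iff_mul_eq_one, ← pow_succ']; exact h4
    have h2 : j * i⁻¹ * j⁻¹ = i := by
      have := congrArg (·⁻¹) d.hc
      simp only [mul_inv_rev, inv_inv] at this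
      rw [← mul_assoc] at this
      exact this
    calc i * j = j * i⁻¹ * j⁻¹ * j := by rw [h2]
      _ = j * i⁻¹ := by group
      _ = j * i ^ 3 := by rw [h1]
  have hgi : g * i = j * g := by rw [← d.h1]; group
  have hgj : g * j = i * j * g := by rw [← d.h2]; group
  have hgi2 : g * i ^ 2 = i ^ 2 * g := by
    calc g * i ^ 2 = (g * i) * i := by rw [pow_two, mul_assoc]
      _ = (j * g) * i := by rw [hgi]
      _ = j * (g * i) := mul_assoc _ _ _
      _ = j * (j * g) := by rw [hgi]
      _ = (j * j) * g := (mul_assoc _ _ _).symm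
      _ = _ := by rw [d.hji]
  have e0 : f₁ d (.a 0) = 1 := by have := f₁_a d 0; rwa [Nat.cast_zero, pow_zero] at this
  have e1 : f₁ d (.a 1) = i := by have := f₁_a d 1; rwa [Nat.cast_one, pow_one] at this
  have e2 : f₁ d (.a 2) = i ^ 2 := f₁_a d 2
  have e3 : f₁ d (.a 3) = i ^ 3 := f₁_a d 3
  have x0 : f₁ d (.xa 0) = j := by have := f₁_xa d 0; rwa [Nat.cast_zero, pow_zero, mul_one] at this
  have x1 : f₁ d (.xa 1) = j * i := by have := f₁_xa d 1; rwa [Nat.cast_one, pow_one] at this
  have x2 : f₁ d (.xa 2) = j * i ^ 2 := f₁_xa d 2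
  have x3 : f₁ d (.xa 3) = j * i ^ 3 := f₁_xa d 3
  rw [eq_mul_inv_iff_mul_eq]
  rcases n with (t | t)
  · fin_cases t
    · change f₁ d (.a 0) * g = g * f₁ d (.a 0)
      rw [e0, one_mul, mul_one]
    · change f₁ d (.xa 0) * g = g * f₁ d (.a 1)
      rw [x0, e1, hgi]
    · change f₁ d (.a 2) * g = g * f₁ d (.a 2)
      rw [e2, hgi2]
    · change f₁ d (.xa 2) * g = g * f₁ d (.a 3)
      rw [x2, e3, pow_succ' i 2, ← mul_assoc g, hgi, mul_assoc j g, hgi2, mul_assoc]
  · fin_cases t
    · change f₁ d (.xa 3) * g = g * f₁ d (.xa 0)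
      rw [x3, x0, hgj, hij]
    · change f₁ d (.a 3) * g = g * f₁ d (.xa 1)
      rw [e3, x1, ← mul_assoc g, hgj, mul_assoc (i * j) g, hgi, ← mul_assoc, mul_assoc i, d.hji, ← pow_succ']
    · change f₁ d (.xa 1) * g = g * f₁ d (.xa 2)
      rw [x1, x2, ← mul_assoc g, hgj, mul_assoc (i * j) g, hgi2, hij]
      have : j * i ^ 3 * (i ^ 2 * g) = j * (i ^ 4 * i) * g := by group
      rw [this, h4, one_mul]
    · change f₁ d (.a 1) * g = g * f₁ d (.xa 3)
      rw [e1, x3, ← mul_assoc g, hgj, mul_assoc (i * j) g, pow_succ' i 2, ← mul_assoc g i, hgi, mul_assoc j g, hgi2]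
      have : i * j * (j * (i ^ 2 * g)) = i * (j * j) * i ^ 2 * g := by group
      rw [this, d.hji]
      have : i * i ^ 2 * i ^ 2 * g = i ^ 4 * i * g := by group
      rw [this, h4, one_mul]

theorem compat' (d : Data i j g) (c : Multiplicative (ZMod 3)) (n : QuaternionGroup 2) :
    f₁ d (φ c n) = f₂ d c * f₁ d n * (f₂ d c)⁻¹ := by
  obtain ⟨k, hk⟩ : ∃ k : ℕ, (k : ZMod 3) = c.toAdd := ⟨(c.toAdd : ZMod 3).val, ZMod.natCast_zmod_val _⟩
  have hc : c = Multiplicative.ofAdd (k : ZMod 3) := by rw [hk]; rfl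
  subst hc
  have h1 : φ (Multiplicative.ofAdd (k : ZMod 3)) = α ^ k := zmodPow_natCast 3 α α_cube k
  have h2 : f₂ d (Multiplicative.ofAdd (k : ZMod 3)) = g ^ k := zmodPow_natCast 3 g d.g3 k
  rw [h1, h2]
  clear h1 h2 hk
  induction k generalizing n with
  | zero => simp
  | succ k ih =>
    rw [pow_succ, MulAut.mul_apply, ih, compat d, pow_succ]
    group

/-- the homomorphism from the model -/
def f (d : Data i j g) : S →* K :=
  SemidirectProduct.lift (f₁ d) (f₂ d) (fun c => MonoidHom.ext fun n => compat' d c n)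

theorem f_apply (d : Data i j g) (s : S) : f d s = f₁ d s.left * f₂ d s.right := rfl

theorem f_injective (d : Data i j g) : Function.Injective (f d) := by
  rw [injective_iff_map_eq_one]
  intro s hs
  rw [f_apply] at hs
  have h8 : (f₁ d s.left) ^ 8 = 1 := by
    rw [← map_pow]
    have : s.left ^ 8 = 1 := by
      have := pow_card_eq_one (x := s.left)
      exact this
    rw [this, map_one]
  have h3 : (f₂ d s.right) ^ 3 = 1 := by
    rw [← map_pow]
    have : s.right ^ 3 = 1 := pow_card_eq_one (x := s.right)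
    rw [this, map_one]
  have h5 : f₁ d s.left = (f₂ d s.right)⁻¹ := eq_inv_of_mul_eq_one_left hs
  have h6 : (f₁ d s.left) ^ 3 = 1 := by rw [h5, inv_pow, h3, inv_one]
  have h7 : f₁ d s.left = 1 := by
    have a1 := orderOf_dvd_of_pow_eq_one h8
    have a2 := orderOf_dvd_of_pow_eq_one h6
    have a3 : orderOf (f₁ d s.left) = 1 := Nat.eq_one_of_dvd_coprimes (by decide : Nat.Coprime 8 3) a1 a2
    exact orderOf_eq_one_iff.1 a3
  have h9 : f₂ d s.right = 1 := by rw [h7, one_mul] at hs; exact hs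
  have i1 : Function.Injective (f₁ d) := quatHom_injective 2 j i d.i4 d.hji d.hc d.hi d.j_not_mem
  have h10 : s.left = 1 := i1 (by rw [h7, map_one])
  have h11 : s.right = 1 := by
    have := zp_injective 3 g d.g3 d.hg (a₁ := s.right.toAdd) (a₂ := 0) (by
      rw [zp_zero]; exact h9)
    exact this
  exact SemidirectProduct.ext h10 h11

/-- two groups of order 24 with such data are isomorphic to the model -/
noncomputable def equiv (d : Data i j g) (hK : Nat.card K = 24) : S ≃* K := by
  haveI : Finite K := Nat.finite_of_card_ne_zero (by rw [hK]; decide)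
  refine MulEquiv.ofBijective (f d) ?_
  rw [Nat.bijective_iff_injective_and_card]
  exact ⟨f_injective d, by rw [card_S, hK]⟩

/-- data in `SL(2,3)` -/
def mk (a b c e : ZMod 3) (h : a * e - b * c = 1) : Matrix.SpecialLinearGroup (Fin 2) (ZMod 3) :=
  ⟨!![a, b; c, e], by rw [Matrix.det_fin_two_of]; exact h⟩

theorem sl_data : Data (mk 0 1 2 0 (by decide)) (mk 1 1 1 2 (by decide)) (mk 0 1 2 2 (by decide)) where
  hi := by
    have : Fact (Nat.Prime 2) := ⟨Nat.prime_two⟩
    exact orderOf_eq_prime_pow (p := 2) (n := 1) (by decide) (by decide)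
  hg := by
    have : Fact (Nat.Prime 3) := ⟨Nat.prime_three⟩
    exact orderOf_eq_prime (by decide) (by decide)
  hji := by decide
  hc := by decide
  h1 := by decide
  h2 := by decide

theorem card_sl : Nat.card (Matrix.SpecialLinearGroup (Fin 2) (ZMod 3)) = 24 := by
  rw [Nat.card_eq_fintype_card]
  decide +kernel

theorem nonempty_sl (d : Data i j g) (hK : Nat.card K = 24) :
    Nonempty (K ≃* Matrix.SpecialLinearGroup (Fin 2) (ZMod 3)) :=
  ⟨(equiv d hK).symm.trans (equiv sl_data card_sl)⟩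

end Cfsg.Agent.H2.SL23
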