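import Mathlib
import Cfsg.Agent.H2_SL23
import Cfsg.Agent.H2_Ito
import Cfsg.Agent.H10_Q8
import Cfsg.Agent.H23_PQuat
import Cfsg.Agent.H1_Coprime2

/-! Groups with quaternion Sylow `2`-subgroups: normal `2`-complement or a section `SL(2,3)`. -/

set_option autoImplicit false
set_option linter.style.haveILetI false

open Subgroup Cfsg
open scoped commutatorElement

namespace Cfsg.Agent.H2.QuatSec

open Cfsg.Agent.H2.Basic Cfsg.Agent.H10.Q8 QuaternionGroup

theorem quat_unique {n : ℕ} {x : QuaternionGroup (2 ^ n)} (hx : x * x = 1) (hx1 : x ≠ 1) :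
    x = a ((2 ^ n : ℕ) : ZMod (2 * 2 ^ n)) := by
  rcases x with k | k
  · rw [a_mul_a, one_def] at hx
    have h1 : k + k = 0 := by injection hx
    obtain ⟨m, hm, rfl⟩ : ∃ m : ℕ, m < 2 * 2 ^ n ∧ (m : ZMod (2 * 2 ^ n)) = k := by
      haveI : NeZero (2 * 2 ^ n) := ⟨by positivity⟩
      exact ⟨k.val, ZMod.val_lt k, ZMod.natCast_zmod_val k⟩
    have h2 : ((m + m : ℕ) : ZMod (2 * 2 ^ n)) = 0 := by push_cast; exact h1
    rw [ZMod.natCast_eq_zero_iff] at h2
    obtain ⟨c, hc⟩ := h2
    have h3 : m = 2 ^ n * c := by nlinarith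
    have h4 : c = 0 ∨ c = 1 := by
      by_contra hcc
      push Not at hcc
      have : 2 ≤ c := by omega
      have : 2 ^ n * 2 ≤ 2 ^ n * c := Nat.mul_le_mul_left _ this
      omega
    rcases h4 with rfl | rfl
    · exfalso
      apply hx1
      rw [h3, mul_zero, Nat.cast_zero]; rfl
    · rw [h3, mul_one]
  · exfalso
    rw [xa_mul_xa, one_def] at hx
    have h1 : ((2 ^ n : ℕ) : ZMod (2 * 2 ^ n)) + k - k = 0 := by injection hx
    rw [add_sub_cancel_right, ZMod.natCast_eq_zero_iff] at h1
    have h2 : 0 < 2 ^ n := by positivity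
    have := Nat.le_of_dvd h2 h1
    omega

variable {G : Type*} [Group G] [Finite G]

/-- in a subgroup isomorphic to a quaternion group the involution is unique; same for conjugates and subgroups -/
theorem invol_unique (T : Sylow 2 G) {n : ℕ} (e : (T : Subgroup G) ≃* QuaternionGroup (2 ^ n)) {Q : Subgroup G}
    (hQ : IsPGroup 2 Q) {x y : G} (hx : x ∈ Q) (hy : y ∈ Q) (hx2 : x * x = 1) (hy2 : y * y = 1) (hx1 : x ≠ 1) (hy1 : y ≠ 1) :
    x = y := by
  haveI : Fact (Nat.Prime 2) := ⟨Nat.prime_two⟩
  obtain ⟨S, hS⟩ := hQ.exists_le_sylow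
  obtain ⟨g, hg⟩ := MulAction.exists_smul_eq G S T
  have hmem : ∀ z ∈ Q, g * z * g⁻¹ ∈ T := by
    intro z hz
    rw [← hg, mem_smul_sylow]
    have : g⁻¹ * (g * z * g⁻¹) * g = z := by group
    rw [this]; exact hS hz
  have key : ∀ z (hz : z ∈ Q), z * z = 1 → z ≠ 1 → e ⟨g * z * g⁻¹, hmem z hz⟩ = a ((2 ^ n : ℕ) : ZMod (2 * 2 ^ n)) := by
    intro z hz hz2 hz1
    apply quat_unique
    · rw [← map_mul]
      have : (⟨g * z * g⁻¹, hmem z hz⟩ * ⟨g * z * g⁻¹, hmem z hz⟩ : (T : Subgroup G)) = 1 := by
        apply Subtype.ext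
        change g * z * g⁻¹ * (g * z * g⁻¹) = 1
        calc g * z * g⁻¹ * (g * z * g⁻¹) = g * (z * z) * g⁻¹ := by group
          _ = 1 := by rw [hz2]; group
      rw [this, map_one]
    · intro h
      rw [map_eq_one_iff e e.injective] at h
      apply hz1
      have h1 : g * z * g⁻¹ = 1 := congrArg Subtype.val h
      calc z = g⁻¹ * (g * z * g⁻¹) * g := by group
        _ = 1 := by rw [h1]; group
  have h1 := (key x hx hx2 hx1).trans (key y hy hy2 hy1).symm
  have h2 := congrArg Subtype.val (e.injective h1)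
  have h3 : g * x * g⁻¹ = g * y * g⁻¹ := h2
  exact mul_left_cancel (mul_right_cancel h3)

/-- an odd order element normalizing a cyclic subgroup of index two of a `2`-group with a unique
involution centralizes the whole group -/
theorem centralizes_of_cyclic {Q : Subgroup G} (hQ : IsPGroup 2 Q)
    (hu : ∀ x ∈ Q, ∀ y ∈ Q, x * x = 1 → y * y = 1 → x ≠ 1 → y ≠ 1 → x = y) {g : G} (hg : g ∈ normalizer (Q : Set G))
    (hgo : (orderOf g).Coprime 2) {c : G} (hc : c ∈ Q) (hidx : (zpowers c).relIndex Q = 2 ∨ (zpowers c) = Q)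
    (hgc : g * c * g⁻¹ ∈ zpowers c) : g ∈ centralizer (Q : Set G) := by
  haveI : Fact (Nat.Prime 2) := ⟨Nat.prime_two⟩
  have hcQ : zpowers c ≤ Q := by rwa [zpowers_le]
  obtain ⟨k, hk⟩ := IsPGroup.iff_card.1 hQ
  have hcopQ : (Nat.card (zpowers g)).Coprime (Nat.card Q) := by
    rw [Nat.card_zpowers, hk]; exact hgo.pow_right k
  have hzN : zpowers g ≤ normalizer (Q : Set G) := by rwa [zpowers_le]
  have hgcN : zpowers g ≤ normalizer ((zpowers c : Subgroup G) : Set G) := by
    rw [zpowers_le]
    apply mem_normalizer_fintype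
    rintro _ ⟨m, rfl⟩
    have h1 : g * c ^ m * g⁻¹ = (g * c * g⁻¹) ^ m := conj_zpow.symm
    change g * c ^ m * g⁻¹ ∈ zpowers c
    rw [h1]
    exact zpow_mem hgc m
  -- `g` centralizes `c`
  have h1 : zpowers g ≤ centralizer ((zpowers c : Subgroup G) : Set G) := by
    apply Cfsg.Agent.H1.Coprime.abelian_trivial_of_prime_order (zpowers g) (zpowers c) hgcN
      (hcopQ.coprime_dvd_right (card_dvd_of_le hcQ))
    intro v hv hvp x hx
    have hv2 : orderOf v = 2 := by
      have a1 : orderOf v ∣ 2 ^ k := by rw [← hk]; exact Subgroup.orderOf_dvd_natCard _ (hcQ hv)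
      have a2 := (Nat.prime_dvd_prime_iff_eq hvp Nat.prime_two).1 (hvp.dvd_of_dvd_pow a1)
      exact a2
    have hvv : v * v = 1 := by rw [← pow_two, ← hv2]; exact pow_orderOf_eq_one v
    have hv1 : v ≠ 1 := by
      rintro rfl
      rw [orderOf_one] at hv2
      exact absurd hv2 (by decide)
    have hxN := hzN hx
    have h2 : x * v * x⁻¹ ∈ Q := (mem_normalizer_iff.1 hxN v).1 (hcQ hv)
    have h3 : x * v * x⁻¹ = v := by
      apply hu _ h2 v (hcQ hv) _ hvv _ hv1
      · calc x * v * x⁻¹ * (x * v * x⁻¹) = x * (v * v) * x⁻¹ := by group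
          _ = 1 := by rw [hvv]; group
      · intro h
        apply hv1
        calc v = x⁻¹ * (x * v * x⁻¹) * x := by group
          _ = 1 := by rw [h]; group
    rw [mul_inv_eq_iff_eq_mul] at h3
    exact h3
  rcases hidx with hidx | hidx
  · -- `[Q, g] ≤ ⟨c⟩`
    have hn2 : ((zpowers c).subgroupOf Q).Normal := Subgroup.normal_of_index_eq_two hidx
    have h2 : ⁅Q, zpowers g⁆ ≤ zpowers c := by
      rw [commutator_le]
      intro x hx y hy
      -- `y = z ^ 2` for some power `z` of `g`, or use index two: `y x y⁻¹` and `x` are in the same coset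
      have hyN := hzN hy
      have hyC : y ∈ normalizer ((zpowers c : Subgroup G) : Set G) := hgcN hy
      have e1 : y * x⁻¹ * y⁻¹ ∈ Q := (mem_normalizer_iff.1 hyN _).1 (inv_mem hx)
      by_cases hxc : x ∈ zpowers c
      · rw [commutatorElement_def, mul_assoc x, mul_assoc x]
        refine mul_mem hxc ?_
        exact (mem_normalizer_iff.1 hyC _).1 (inv_mem hxc)
      · have e2 : y * x⁻¹ * y⁻¹ ∉ zpowers c := by
          intro h
          exact hxc (inv_mem_iff.1 ((mem_normalizer_iff.1 hyC _).2 h))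
        have e3 := (Subgroup.mul_mem_iff_of_index_two (H := (zpowers c).subgroupOf Q) hidx
          (a := ⟨x, hx⟩) (b := ⟨y * x⁻¹ * y⁻¹, e1⟩)).2 ⟨fun h => absurd h hxc, fun h => absurd h e2⟩
        have e4 : x * (y * x⁻¹ * y⁻¹) ∈ zpowers c := e3
        rw [commutatorElement_def]
        have : x * y * x⁻¹ * y⁻¹ = x * (y * x⁻¹ * y⁻¹) := by group
        rw [this]; exact e4
    have h3 : ⁅⁅Q, zpowers g⁆, zpowers g⁆ = ⊥ := by
      rw [eq_bot_iff]
      refine (commutator_mono h2 le_rfl).trans ?_
      rw [le_bot_iff, commutator_comm, commutator_eq_bot_iff_le_centralizer]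
      exact h1
    rw [Cfsg.Agent.H1.Coprime.commutator_commutator_eq (zpowers g) Q hzN hcopQ (Or.inl inferInstance), commutator_comm,
      commutator_eq_bot_iff_le_centralizer, zpowers_le] at h3
    exact h3
  · rw [hidx] at h1
    exact h1 (mem_zpowers g)

theorem is_q8 (T : Sylow 2 G) {n : ℕ} (e : (T : Subgroup G) ≃* QuaternionGroup (2 ^ n)) {Q : Subgroup G}
    (hQ : IsPGroup 2 Q) {g : G} (hg : g ∈ normalizer (Q : Set G)) (hgo : (orderOf g).Coprime 2)
    (hgC : g ∉ centralizer (Q : Set G)) : Nonempty (Q ≃* QuaternionGroup 2) := by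
  haveI : Fact (Nat.Prime 2) := ⟨Nat.prime_two⟩
  have hu : ∀ x ∈ Q, ∀ y ∈ Q, x * x = 1 → y * y = 1 → x ≠ 1 → y ≠ 1 → x = y :=
    fun x hx y hy h1 h2 h3 h4 => invol_unique T e hQ hx hy h1 h2 h3 h4
  have huniq : ∀ H K : Subgroup Q, Nat.card H = 2 → Nat.card K = 2 → H = K := by
    have key : ∀ H : Subgroup Q, Nat.card H = 2 → ∃ x : Q, x * x = 1 ∧ x ≠ 1 ∧ H = zpowers x := by
      intro H hH
      obtain ⟨x, hx⟩ := exists_prime_orderOf_dvd_card' (G := H) 2 (by rw [hH])
      refine ⟨x, ?_, ?_, ?_⟩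
      · have : x ^ 2 = 1 := by rw [← hx]; exact pow_orderOf_eq_one x
        rw [pow_two] at this
        exact congrArg Subtype.val this
      · intro h
        have : x = 1 := Subtype.ext h
        rw [this, orderOf_one] at hx
        exact absurd hx (by decide)
      · symm
        apply eq_of_le_of_card_ge
        · rw [zpowers_le]; exact x.2
        · rw [hH, Nat.card_zpowers, Subgroup.orderOf_coe, hx]
    intro H K hH hK
    obtain ⟨x, hx, hx1, rfl⟩ := key H hH
    obtain ⟨y, hy, hy1, rfl⟩ := key K hK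
    have : x = y := by
      apply Subtype.ext
      exact hu x x.2 y y.2 (congrArg Subtype.val hx) (congrArg Subtype.val hy) (fun h => hx1 (Subtype.ext h))
        (fun h => hy1 (Subtype.ext h))
    rw [this]
  rcases Cfsg.Agent.H23.PQuat.cyclic_or_quaternion hQ huniq with hcyc | ⟨-, m, ⟨f⟩⟩
  · exfalso
    obtain ⟨c, hc⟩ := hcyc.exists_generator
    apply hgC
    have hcQ : zpowers (c : G) = Q := by
      apply le_antisymm
      · rw [zpowers_le]; exact c.2
      · intro x hx
        obtain ⟨k, hk⟩ := hc ⟨x, hx⟩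
        exact ⟨k, congrArg Subtype.val hk⟩
    refine centralizes_of_cyclic hQ hu hg hgo c.2 (Or.inr hcQ) ?_
    rw [hcQ]
    exact (mem_normalizer_iff.1 hg _).1 c.2
  · have hm2 : 2 ^ m = 2 := by
      by_contra hne
      apply hgC
      set c : Q := f.symm (a 1) with hc
      haveI : NeZero (2 ^ m) := ⟨by positivity⟩
      have hco : orderOf c = 2 * 2 ^ m := by
        rw [hc, MulEquiv.orderOf_eq, orderOf_a_one]
      refine centralizes_of_cyclic hQ hu hg hgo c.2 (Or.inl ?_) ?_
      · have h1 := Cfsg.Agent.H2.Card.card_mul_relIndex (H := zpowers (c : G)) (K := Q) (by rw [zpowers_le]; exact c.2)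
        rw [Nat.card_zpowers, Subgroup.orderOf_coe, hco, Nat.card_congr f.toEquiv, Nat.card_eq_fintype_card,
          QuaternionGroup.card] at h1
        have h2 : 0 < 2 ^ m := by positivity
        nlinarith
      · -- the conjugate has the same order, so it is in the cyclic part
        have h1 : g * (c : G) * g⁻¹ ∈ Q := (mem_normalizer_iff.1 hg _).1 c.2
        set d : Q := ⟨g * (c : G) * g⁻¹, h1⟩ with hd
        have hdo : orderOf d = 2 * 2 ^ m := by
          rw [← Subgroup.orderOf_coe]
          change orderOf (g * (c : G) * g⁻¹) = _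
          have := MulEquiv.orderOf_eq (MulAut.conj g) (c : G)
          rw [MulAut.conj_apply] at this
          rw [this, Subgroup.orderOf_coe, hco]
        have h2 : ∃ k, f d = a k := by
          rcases hfd : f d with k | k
          · exact ⟨k, rfl⟩
          · exfalso
            have h3 : orderOf (f d) = 4 := by rw [hfd]; exact orderOf_xa k
            rw [MulEquiv.orderOf_eq, hdo] at h3
            apply hne; omega
        obtain ⟨k, hk⟩ := h2
        have h4 : d = c ^ k.val := by
          apply f.injective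
          rw [map_pow, hk, hc, f.apply_symm_apply, a_one_pow, ZMod.natCast_zmod_val]
        have h5 : g * (c : G) * g⁻¹ = (c : G) ^ k.val := congrArg Subtype.val h4
        rw [h5]
        exact pow_mem (mem_zpowers _) _
    have : m = 1 := Nat.pow_right_injective (le_refl 2) (by simpa using hm2)
    subst this
    exact ⟨f⟩

/-- the main algebraic step: generators of the section -/
theorem exists_data {Q : Subgroup G} {t : G} (h : QD Q t) {g : G} (hg : g ∈ normalizer (Q : Set G))
    (hgo : (orderOf g).Coprime 2) (hgC : g ∉ centralizer (Q : Set G)) :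
    ∃ i ∈ Q, i * i = t ∧ g * (g * i * g⁻¹) * g⁻¹ = i * (g * i * g⁻¹) ∧
      (g * i * g⁻¹) * (g * i * g⁻¹) = t ∧ (g * i * g⁻¹) * i * (g * i * g⁻¹)⁻¹ = i * t := by
  have hgo2 : ∀ u ∈ zpowers g, ¬ 2 ∣ orderOf u := by
    intro u hu hd
    have h1 : orderOf u ∣ orderOf g := by
      rw [← Nat.card_zpowers g]; exact Subgroup.orderOf_dvd_natCard _ hu
    have h2 := Nat.Coprime.eq_one_of_dvd (hgo.symm) (hd.trans h1)
    exact absurd h2 (by decide)
  have hNz : zpowers g ≤ normalizer (Q : Set G) := by rwa [zpowers_le]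
  have hct : ∀ u ∈ zpowers g, Commute u t := fun u hu => h.comm_t le_rfl (hNz hu) h.ht
  have hsq : ∀ u ∈ zpowers g, ∀ x, x * x = t → (u * x * u⁻¹) * (u * x * u⁻¹) = t := by
    intro u hu x hx
    calc (u * x * u⁻¹) * (u * x * u⁻¹) = u * (x * x) * u⁻¹ := by group
      _ = t := by rw [hx, (hct u hu).eq]; group
  have hmemQ : ∀ u ∈ zpowers g, ∀ x ∈ Q, u * x * u⁻¹ ∈ Q := fun u hu x hx => (mem_normalizer_iff.1 (hNz hu) x).1 hx
  -- claim
  have key : ∀ u ∈ zpowers g, u ∉ centralizer (Q : Set G) → ∀ x ∈ Q, x * x = t →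
      u * x * u⁻¹ ≠ x ∧ u * x * u⁻¹ ≠ x * t := by
    intro u hu huC x hx hxx
    by_contra hno
    have hor : u * x * u⁻¹ = x ∨ u * x * u⁻¹ = x * t := by
      by_contra h'
      push Not at h'
      exact hno h'
    have hux := h.commute_of_approx (hgo2 u hu) (hct u hu) hor
    obtain ⟨y, hy, hyy, hyx, hyxt⟩ : ∃ y ∈ Q, y * y = t ∧ y ≠ x ∧ y ≠ x * t := by
      obtain ⟨a, ha, b, hb, haa, hbb, hba, hbat⟩ := h.f4
      by_cases h1 : a = x ∨ a = x * t
      · refine ⟨b, hb, hbb, ?_, ?_⟩
        · rintro rfl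
          rcases h1 with h1 | h1
          · exact hba h1.symm
          · apply hbat
            rw [h1, mul_assoc, h.tt, mul_one]
        · rintro rfl
          rcases h1 with h1 | h1
          · exact hbat (by rw [h1])
          · exact hba h1.symm
      · push Not at h1
        exact ⟨a, ha, haa, h1.1, h1.2⟩
    have hz := hmemQ u hu y hy
    have hzz := hsq u hu y hyy
    have hut := hct u hu
    have huy : Commute u y := by
      rcases h.f3 x hx y hy _ hz hxx hyy hzz with h1 | h1 | h1 | h1 | h1 | h1 | h1 | h1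
      · exact absurd h1 hyx
      · exact absurd h1 hyxt
      · exfalso; apply hyx
        calc y = u⁻¹ * (u * y * u⁻¹) * u := by group
          _ = u⁻¹ * (x * u) := by rw [h1]; group
          _ = x := by rw [← hux.eq]; group
      · exfalso; apply hyxt
        calc y = u⁻¹ * (u * y * u⁻¹) * u := by group
          _ = u⁻¹ * (x * (t * u)) := by rw [h1]; group
          _ = u⁻¹ * (x * u) * t := by rw [← hut.eq]; group
          _ = x * t := by rw [← hux.eq]; group
      · exact h.commute_of_approx (hgo2 u hu) hut (Or.inl h1)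
      · exact h.commute_of_approx (hgo2 u hu) hut (Or.inr h1)
      · exfalso
        have h2 : u * u * y * (u * u)⁻¹ = y * t := by
          calc u * u * y * (u * u)⁻¹ = u * (u * y * u⁻¹) * u⁻¹ := by group
            _ = u * x * (y * u⁻¹) := by rw [h1]; group
            _ = x * (u * y * u⁻¹) := by rw [hux.eq]; group
            _ = (x * x) * y := by rw [h1, mul_assoc]
            _ = y * t := by rw [hxx, h.tc y hy]
        have h3 := h.commute_of_approx (hgo2 (u * u) (mul_mem hu hu)) (hct _ (mul_mem hu hu)) (Or.inr h2)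
        have h4 : u * u * y * (u * u)⁻¹ = y := by rw [h3.eq]; group
        rw [h4] at h2
        exact h.t1 (mul_eq_left.1 h2.symm)
      · exfalso
        have h2 : u * u * y * (u * u)⁻¹ = y * t := by
          calc u * u * y * (u * u)⁻¹ = u * (u * y * u⁻¹) * u⁻¹ := by group
            _ = u * x * y * (t * u⁻¹) := by rw [h1]; group
            _ = u * x * y * (u⁻¹ * t) := by rw [(hut.inv_left).eq]
            _ = x * (u * y * u⁻¹) * t := by rw [hux.eq]; group
            _ = (x * x) * y * (t * t) := by rw [h1]; group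
            _ = y * t := by rw [hxx, h.tt, mul_one, h.tc y hy]
        have h3 := h.commute_of_approx (hgo2 (u * u) (mul_mem hu hu)) (hct _ (mul_mem hu hu)) (Or.inr h2)
        have h4 : u * u * y * (u * u)⁻¹ = y := by rw [h3.eq]; group
        rw [h4] at h2
        exact h.t1 (mul_eq_left.1 h2.symm)
    -- `u` centralizes `Q`
    apply huC
    rw [mem_centralizer_iff]
    intro w hw
    symm
    rcases h.cs w hw with h1 | h1 | h1
    · rw [h1, mul_one, one_mul]
    · rw [h1]; exact hut.eq
    · rcases h.f3 x hx y hy w hw hxx hyy h1 with h2 | h2 | h2 | h2 | h2 | h2 | h2 | h2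
      · exact absurd h2 hyx
      · exact absurd h2 hyxt
      · rw [h2]; exact hux.eq
      · rw [h2]; exact (hux.mul_right hut).eq
      · rw [h2]; exact huy.eq
      · rw [h2]; exact (huy.mul_right hut).eq
      · rw [h2]; exact (hux.mul_right huy).eq
      · rw [h2]; exact ((hux.mul_right huy).mul_right hut).eq
  have hgz : g ∈ zpowers g := mem_zpowers g
  have hggC : g * g ∉ centralizer (Q : Set G) := by
    intro hc
    apply hgC
    have hodd : orderOf g % 2 = 1 := by
      have := hgo2 g hgz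
      omega
    have : g = (g * g) ^ ((orderOf g + 1) / 2) := by
      rw [← pow_two, ← pow_mul, show 2 * ((orderOf g + 1) / 2) = orderOf g + 1 by omega, pow_succ, pow_orderOf_eq_one,
        one_mul]
    rw [this]
    exact pow_mem hc _
  have hgt := hct g hgz
  obtain ⟨x, hx, -, -, hxx, -, -, -⟩ := h.f4
  set j := g * x * g⁻¹ with hj
  have hjQ : j ∈ Q := hmemQ g hgz x hx
  have hjj : j * j = t := hsq g hgz x hxx
  set k := g * j * g⁻¹ with hk
  have hkQ : k ∈ Q := hmemQ g hgz j hjQ
  have hkk : k * k = t := hsq g hgz j hjj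
  obtain ⟨a1, a2⟩ := key g hgz hgC x hx hxx
  obtain ⟨a3, a4⟩ := key g hgz hgC j hjQ hjj
  obtain ⟨a5, a6⟩ := key (g * g) (mul_mem hgz hgz) hggC x hx hxx
  have hk2 : g * g * x * (g * g)⁻¹ = k := by rw [hk, hj]; group
  rw [hk2] at a5 a6
  rw [← hj] at a1 a2
  rw [← hk] at a3 a4
  have htj : Commute t j := (h.tc j hjQ).symm
  have htx : Commute t x := (h.tc x hx).symm
  rcases h.f3 x hx j hjQ k hkQ hxx hjj hkk with h1 | h1 | h1 | h1 | h1 | h1 | h1 | h1
  · exact absurd h1 a1
  · exact absurd h1 a2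
  · exact absurd h1 a5
  · exact absurd h1 a6
  · exact absurd h1 a3
  · exact absurd h1 a4
  · refine ⟨x, hx, hxx, h1, hjj, ?_⟩
    rcases h.f2 j hjQ x hx hjj hxx with h2 | h2 | h2
    · exact absurd h2.symm a1
    · exfalso; apply a2
      rw [h2, mul_assoc, h.tt, mul_one]
    · exact h2
  · -- replace `x` by `x t`
    have e1 : g * (x * t) * g⁻¹ = j * t := by
      calc g * (x * t) * g⁻¹ = g * x * (t * g⁻¹) := by group
        _ = g * x * (g⁻¹ * t) := by rw [(hgt.inv_left).eq]
        _ = j * t := by rw [hj]; group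
    have e2 : g * (j * t) * g⁻¹ = k * t := by
      calc g * (j * t) * g⁻¹ = g * j * (t * g⁻¹) := by group
        _ = g * j * (g⁻¹ * t) := by rw [(hgt.inv_left).eq]
        _ = k * t := by rw [hk]; group
    have e3 : x * t * (j * t) = x * j := by
      calc x * t * (j * t) = x * (t * j) * t := by group
        _ = x * j * (t * t) := by rw [htj.eq]; group
        _ = x * j := by rw [h.tt, mul_one]
    have e4 : ∀ y, Commute t y → y * y = t → (y * t) * (y * t) = t := by
      intro y hy hyy
      calc (y * t) * (y * t) = y * (t * y) * t := by group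
        _ = (y * y) * (t * t) := by rw [hy.eq]; group
        _ = t := by rw [hyy, h.tt, mul_one]
    refine ⟨x * t, Q.mul_mem hx h.ht, e4 x htx hxx, ?_, ?_, ?_⟩
    · rw [e1, e2, e3, h1, mul_assoc, h.tt, mul_one]
    · rw [e1]; exact e4 j htj hjj
    · rw [e1]
      have e5 : j * x * j⁻¹ = x * t := by
        rcases h.f2 j hjQ x hx hjj hxx with h2 | h2 | h2
        · exact absurd h2.symm a1
        · exfalso; apply a2
          rw [h2, mul_assoc, h.tt, mul_one]
        · exact h2
      calc j * t * (x * t) * (j * t)⁻¹ = j * (t * x) * j⁻¹ := by group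
        _ = (j * x) * (t * j⁻¹) := by rw [htx.eq]; group
        _ = (j * x * j⁻¹) * t := by rw [(htj.inv_right).eq]; group
        _ = x * t * t := by rw [e5]

end Cfsg.Agent.H2.QuatSec
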