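import Cfsg.Agent.H17_Base2
import Cfsg.Agent.H19_AutTwo
import Cfsg.Agent.H5_Dih
import Cfsg.Agent.H2_QuatSec
import Cfsg.Agent.H2_SL23
import Cfsg.Agent.H2_Card

set_option autoImplicit false
open Cfsg

/-! Odd order elements acting on subgroups of dihedral and semidihedral groups. -/

namespace Cfsg.Agent.H17.SDSL

open Subgroup H17.Base
open scoped commutatorElement

variable {G : Type*} [Group G]

structure Pk (T : Subgroup G) (c z : G) (n : ℕ) : Prop where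
  hn : 2 ≤ n
  hc : c ∈ T
  hord : orderOf c = 2 ^ n
  hcard : Nat.card T = 2 ^ (n + 1)
  hz : z = c ^ 2 ^ (n - 1)
  sq : ∀ x ∈ T, x ∉ zpowers c → x * x = 1 ∨ x * x = z
  inv : ∀ x ∈ T, x ∉ zpowers c → ∀ d ∈ zpowers c, d ^ 4 = 1 → x * d * x⁻¹ = d⁻¹
  big : 3 ≤ n ∨ ∀ x ∈ T, x ∉ zpowers c → x * x = 1

variable {T : Subgroup G} {c z : G} {n : ℕ}

theorem mem_zpowers_pow [Finite G] {g : G} {m : ℕ} (h : (orderOf g).Coprime m) :
    g ∈ zpowers (g ^ m) := by
  obtain ⟨k, hk⟩ := exists_pow_eq_self_of_coprime (x := g) (n := m) h.symm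
  exact ⟨k, by
    change (g ^ m) ^ (k : ℤ) = g
    rw [zpow_natCast]; exact hk⟩

theorem L1 [Finite G] {D Q : Subgroup G} (hD : IsCyclic D) (hD2 : IsPGroup 2 D) (hDQ : D ≤ Q)
    (hidx : ∀ x ∈ Q, ∀ y ∈ Q, x ∉ D → y ∉ D → x⁻¹ * y ∈ D) {g : G} (hgD : g ∈ Nz D) (hgQ : g ∈ Nz Q)
    (hg : (orderOf g).Coprime 2) : g ∈ Cz Q := by
  have : Fact (Nat.Prime 2) := ⟨Nat.prime_two⟩
  -- `g` centralizes `D`
  have hgCD : g ∈ Cz D := by
    obtain ⟨k, hk⟩ := H19.AutTwo.isPGroup_mulAut_cyclic hD2 hD (D.normalizerMonoidHom ⟨g, hgD⟩)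
    rw [← map_pow, ← MonoidHom.mem_ker, normalizerMonoidHom_ker, mem_subgroupOf] at hk
    have h1 : g ^ 2 ^ k ∈ Cz D := hk
    have h2 : g ∈ zpowers (g ^ 2 ^ k) := mem_zpowers_pow (hg.pow_right k)
    exact (zpowers_le.2 h1) h2
  rw [mem_centralizer_iff]
  intro y hy
  by_cases hyD : y ∈ D
  · exact mem_centralizer_iff.1 hgCD y hyD
  set e := y⁻¹ * (g * y * g⁻¹) with he
  have hgy : g * y * g⁻¹ ∉ D := by
    intro h
    apply hyD
    exact (mem_normalizer_iff.1 hgD y).2 h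
  have heD : e ∈ D := hidx y hy _ ((mem_normalizer_iff.1 hgQ y).1 hy) hyD hgy
  have hge : g * e * g⁻¹ = e := by
    rw [← mem_centralizer_iff.1 hgCD e heD]; group
  have hpow : ∀ k : ℕ, g ^ k * y * (g ^ k)⁻¹ = y * e ^ k := by
    intro k
    induction k with
    | zero => simp
    | succ k ih =>
      have e1 : g ^ (k + 1) * y * (g ^ (k + 1))⁻¹ = g * (g ^ k * y * (g ^ k)⁻¹) * g⁻¹ := by
        rw [pow_succ']; group
      rw [e1, ih]
      have e2 : g * (y * e ^ k) * g⁻¹ = (g * y * g⁻¹) * (g * e * g⁻¹) ^ k := by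
        rw [conj_pow]; group
      have e3 : g * y * g⁻¹ = y * e := by rw [he]; group
      rw [e2, hge, pow_succ', e3, mul_assoc]
  have h1 := hpow (orderOf g)
  rw [pow_orderOf_eq_one, one_mul, inv_one, mul_one, left_eq_mul] at h1
  obtain ⟨j, hj⟩ := hD2 ⟨e, heD⟩
  have h2 : e ^ 2 ^ j = 1 := congrArg Subtype.val hj
  have h3 : orderOf e = 1 := Nat.eq_one_of_dvd_coprimes (hg.pow_right j) (orderOf_dvd_of_pow_eq_one h1)
    (orderOf_dvd_of_pow_eq_one h2)
  rw [orderOf_eq_one_iff, he, inv_mul_eq_one] at h3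
  rw [eq_mul_inv_iff_mul_eq] at h3
  exact h3

theorem Pk.le (h : Pk T c z n) : zpowers c ≤ T := zpowers_le.2 h.hc

theorem Pk.relIndex [Finite G] (h : Pk T c z n) : (zpowers c).relIndex T = 2 := by
  have h1 := H2.Card.card_mul_relIndex h.le
  rw [Nat.card_zpowers, h.hord, h.hcard, pow_succ] at h1
  exact Nat.eq_of_mul_eq_mul_left (by positivity) h1

theorem Pk.mul_mem [Finite G] (h : Pk T c z n) {x y : G} (hx : x ∈ T) (hy : y ∈ T) (hxc : x ∉ zpowers c) (hyc : y ∉ zpowers c) :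
    x⁻¹ * y ∈ zpowers c := by
  have h1 : ((zpowers c).subgroupOf T).index = 2 := h.relIndex
  have h2 := mul_mem_iff_of_index_two h1 (a := ⟨x, hx⟩⁻¹) (b := ⟨y, hy⟩)
  have h3 : (⟨x, hx⟩⁻¹ * ⟨y, hy⟩ : T) ∈ (zpowers c).subgroupOf T := by
    rw [h2, inv_mem_iff]
    constructor
    · intro h4; exact absurd h4 hxc
    · intro h4; exact absurd h4 hyc
  exact h3

theorem Pk.z_ne [Finite G] (h : Pk T c z n) : z ≠ 1 := by
  rw [h.hz]
  intro h1
  have h2 := orderOf_dvd_of_pow_eq_one h1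
  rw [h.hord, Nat.pow_dvd_pow_iff_le_right (by norm_num)] at h2
  have := h.hn
  omega

theorem Pk.zz (h : Pk T c z n) : z * z = 1 := by
  rw [h.hz, ← pow_add, ← two_mul, ← pow_succ', Nat.sub_add_cancel (by have := h.hn; omega), ← h.hord, pow_orderOf_eq_one]

theorem Pk.z_mem (h : Pk T c z n) : z ∈ zpowers c := by rw [h.hz]; exact pow_mem (mem_zpowers c) _

theorem Pk.inv_of_sq [Finite G] (h : Pk T c z n) {d : G} (hd : d ∈ zpowers c) (hdd : d * d = 1) : d = 1 ∨ d = z := by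
  obtain ⟨k, rfl⟩ := (Submonoid.mem_powers_iff _ _).1 (mem_powers_iff_mem_zpowers.2 hd)
  rw [← pow_add, ← orderOf_dvd_iff_pow_eq_one, h.hord] at hdd
  have h2 : 2 ^ (n - 1) * 2 = 2 ^ n := by rw [← pow_succ, Nat.sub_add_cancel (by have := h.hn; omega)]
  have h1 : 2 ^ (n - 1) ∣ k := by
    rw [← two_mul, ← h2, mul_comm _ 2] at hdd
    exact Nat.dvd_of_mul_dvd_mul_left (by norm_num) hdd
  obtain ⟨j, rfl⟩ := h1
  rw [pow_mul, ← h.hz]
  rcases Nat.even_or_odd' j with ⟨i, rfl | rfl⟩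
  · left
    rw [pow_mul, pow_two, h.zz, one_pow]
  · right
    rw [pow_succ, pow_mul, pow_two, h.zz, one_pow, one_mul]

theorem Pk.isPGroup (h : Pk T c z n) : IsPGroup 2 T := IsPGroup.of_card h.hcard

/-- main lemma -/
theorem Pk.main [Finite G] (h : Pk T c z n) {Q : Subgroup G} (hQT : Q ≤ T) {g : G} (hgQ : g ∈ Nz Q)
    (hg : (orderOf g).Coprime 2) (hgC : g ∉ Cz Q) (hgz : g * z * g⁻¹ = z) :
    Nonempty (Q ≃* QuaternionGroup 2) ∧ 3 ≤ n := by
  set D := Q ⊓ zpowers c with hD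
  have hDQ : D ≤ Q := inf_le_left
  have hDc : D ≤ zpowers c := inf_le_right
  have hDcyc : IsCyclic D := by
    have : IsCyclic (zpowers c) := inferInstance
    exact isCyclic_of_injective (inclusion hDc) (inclusion_injective hDc)
  have hD2 : IsPGroup 2 D := h.isPGroup.to_le (hDQ.trans hQT)
  have hidx : ∀ x ∈ Q, ∀ y ∈ Q, x ∉ D → y ∉ D → x⁻¹ * y ∈ D := by
    intro x hx y hy hxD hyD
    refine ⟨Q.mul_mem (Q.inv_mem hx) hy, h.mul_mem (hQT hx) (hQT hy) (fun h1 => hxD ⟨hx, h1⟩) (fun h1 => hyD ⟨hy, h1⟩)⟩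
  have hgD : g ∉ Nz D := fun h1 => hgC (L1 hDcyc hD2 hDQ hidx h1 hgQ hg)
  obtain ⟨⟨d, hdD⟩, hd⟩ := hDcyc.exists_generator
  have hgen : D = zpowers d := by
    apply le_antisymm
    · intro x hx
      obtain ⟨k, hk⟩ := mem_zpowers_iff.1 (hd ⟨x, hx⟩)
      exact mem_zpowers_iff.2 ⟨k, congrArg Subtype.val hk⟩
    · rw [zpowers_le]; exact hdD
  set x := g * d * g⁻¹ with hx
  have hxQ : x ∈ Q := (mem_normalizer_iff.1 hgQ d).1 (hDQ hdD)
  have hxD : x ∉ D := by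
    intro h1
    apply hgD
    apply mem_Nz_of_cj_le
    rw [hgen, cj, MonoidHom.map_zpowers, zpowers_le, ← hgen]
    exact h1
  have hxc : x ∉ zpowers c := fun h1 => hxD ⟨hxQ, h1⟩
  have hxx : x * x = g * (d * d) * g⁻¹ := by rw [hx]; group
  have hxx1 : x * x ≠ 1 := by
    intro h1
    have h2 : d * d = 1 := by
      rw [h1] at hxx
      have : d * d = g⁻¹ * (g * (d * d) * g⁻¹) * g := by group
      rw [this, ← hxx]; group
    apply hxD
    rcases h.inv_of_sq (hDc hdD) h2 with h4 | h4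
    · rw [hx, h4, mul_one, mul_inv_cancel]; exact one_mem _
    · rw [hx, h4, hgz, ← h4]; exact hdD
  have hxz : x * x = z := (h.sq x (hQT hxQ) hxc).resolve_left hxx1
  have hdz : d * d = z := by
    have h2 : d * d = g⁻¹ * (g * (d * d) * g⁻¹) * g := by group
    rw [h2, ← hxx, hxz]
    calc g⁻¹ * z * g = g⁻¹ * (g * z * g⁻¹) * g := by rw [hgz]
      _ = z := by group
  have hd4 : d ^ 4 = 1 := by
    rw [show 4 = 2 * 2 from rfl, pow_mul, pow_two d, hdz, pow_two, h.zz]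
  have hdo : orderOf d = 2 * 2 := by
    have : Fact (Nat.Prime 2) := ⟨Nat.prime_two⟩
    have := orderOf_eq_prime_pow (p := 2) (n := 1) (x := d) (by rw [pow_one, pow_two, hdz]; exact h.z_ne) (by
      rw [show 1 + 1 = 2 from rfl, show 2 ^ 2 = 4 from rfl]; exact hd4)
    exact this
  have hxd : x * d * x⁻¹ = d⁻¹ := h.inv x (hQT hxQ) hxc d (hDc hdD) hd4
  refine ⟨?_, ?_⟩
  · refine H5.Dih.nonempty_quaternion (n := 2) (by norm_num) (⟨d, hDQ hdD⟩ : Q) (⟨x, hxQ⟩ : Q) ?_ ?_ ?_ ?_ ?_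
    · rw [Subgroup.orderOf_mk]; exact hdo
    · apply Subtype.ext
      show x * x = d ^ 2
      rw [hxz, pow_two, hdz]
    · exact Subtype.ext hxd
    · intro hmem
      apply hxD
      obtain ⟨k, hk⟩ := mem_zpowers_iff.1 hmem
      rw [hgen]
      exact mem_zpowers_iff.2 ⟨k, congrArg Subtype.val hk⟩
    · have h1 : (zpowers c).relIndex Q ≤ 2 := by
        have h2 := relIndex_le_of_le_right (H := zpowers c) hQT (by rw [h.relIndex]; norm_num)
        rwa [h.relIndex] at h2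
      have h2 : Nat.card D = 4 := by rw [hgen, Nat.card_zpowers, hdo]
      have h3 := H2.Card.card_mul_relIndex hDQ
      rw [hD, inf_relIndex_left, ← hD] at h3
      rw [← h3, h2]
      omega
  · rcases h.big with h1 | h1
    · exact h1
    · exact absurd (h1 x (hQT hxQ) hxc) hxx1

end Cfsg.Agent.H17.SDSL
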