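import Cfsg.Agent.H17_SDSL
import Cfsg.Prelude.Def_CaseTheorems

set_option autoImplicit false
open Cfsg

/-! Dihedral and semidihedral groups as `Pk`. -/

namespace Cfsg.Agent.H17.SDSL

open Subgroup H17.Base

theorem Pk.of_top {G : Type*} [Group G] {T : Subgroup G} {c z : T} {n : ℕ} (h : Pk (⊤ : Subgroup T) c z n) :
    Pk T (c : G) (z : G) n where
  hn := h.hn
  hc := c.2
  hord := by rw [Subgroup.orderOf_coe]; exact h.hord
  hcard := by rw [← h.hcard, card_top]
  hz := by rw [h.hz]; rfl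
  sq := by
    intro x hx hxc
    have h1 : (⟨x, hx⟩ : T) ∉ zpowers c := by
      intro h2
      obtain ⟨k, hk⟩ := mem_zpowers_iff.1 h2
      exact hxc (mem_zpowers_iff.2 ⟨k, congrArg Subtype.val hk⟩)
    rcases h.sq ⟨x, hx⟩ trivial h1 with h2 | h2
    · exact Or.inl (congrArg Subtype.val h2)
    · exact Or.inr (congrArg Subtype.val h2)
  inv := by
    intro x hx hxc d hd hd4
    have h1 : (⟨x, hx⟩ : T) ∉ zpowers c := by
      intro h2
      obtain ⟨k, hk⟩ := mem_zpowers_iff.1 h2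
      exact hxc (mem_zpowers_iff.2 ⟨k, congrArg Subtype.val hk⟩)
    obtain ⟨k, rfl⟩ := mem_zpowers_iff.1 hd
    have h2 := h.inv ⟨x, hx⟩ trivial h1 (c ^ k) (zpow_mem (mem_zpowers c) k) (Subtype.ext hd4)
    exact congrArg Subtype.val h2
  big := by
    rcases h.big with h1 | h1
    · exact Or.inl h1
    · right
      intro x hx hxc
      exact congrArg Subtype.val (h1 ⟨x, hx⟩ trivial (by
        intro h2
        obtain ⟨k, hk⟩ := mem_zpowers_iff.1 h2
        exact hxc (mem_zpowers_iff.2 ⟨k, congrArg Subtype.val hk⟩)))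

theorem Pk.of_equiv {X Y : Type*} [Group X] [Group Y] (e : X ≃* Y) {c z : Y} {n : ℕ} (h : Pk (⊤ : Subgroup Y) c z n) :
    Pk (⊤ : Subgroup X) (e.symm c) (e.symm z) n := by
  have hz : ∀ x : X, x ∉ zpowers (e.symm c) → e x ∉ zpowers c := by
    intro x hx h1
    obtain ⟨k, hk⟩ := mem_zpowers_iff.1 h1
    apply hx
    rw [mem_zpowers_iff]
    exact ⟨k, by rw [← map_zpow, hk, e.symm_apply_apply]⟩
  exact
  { hn := h.hn
    hc := trivial
    hord := by rw [MulEquiv.orderOf_eq]; exact h.hord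
    hcard := by
      rw [← h.hcard, card_top, card_top]
      exact Nat.card_congr e.toEquiv
    hz := by rw [h.hz, map_pow]
    sq := by
      intro x _ hx
      rcases h.sq (e x) trivial (hz x hx) with h1 | h1
      · left; apply e.injective; rw [map_mul, h1, map_one]
      · right; apply e.injective; rw [map_mul, h1, e.apply_symm_apply]
    inv := by
      intro x _ hx d hd hd4
      apply e.injective
      rw [map_mul, map_mul, map_inv, map_inv]
      refine h.inv (e x) trivial (hz x hx) (e d) ?_ (by rw [← map_pow, hd4, map_one])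
      obtain ⟨k, rfl⟩ := mem_zpowers_iff.1 hd
      rw [map_zpow, e.apply_symm_apply]
      exact zpow_mem (mem_zpowers c) k
    big := by
      rcases h.big with h1 | h1
      · exact Or.inl h1
      · right
        intro x _ hx
        apply e.injective
        rw [map_mul, map_one]
        exact h1 (e x) trivial (hz x hx) }

theorem pk_dihedral {k : ℕ} (hk : 2 ≤ k) : ∃ z, Pk (⊤ : Subgroup (DihedralGroup (2 ^ k))) (DihedralGroup.r 1) z k := by
  have hne : NeZero (2 ^ k) := ⟨by positivity⟩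
  have hr : ∀ i : ZMod (2 ^ k), DihedralGroup.r i ∈ zpowers (DihedralGroup.r 1 : DihedralGroup (2 ^ k)) := by
    intro i
    refine mem_zpowers_iff.2 ⟨(i.val : ℤ), ?_⟩
    rw [zpow_natCast, DihedralGroup.r_one_pow, ZMod.natCast_zmod_val]
  refine ⟨_, hk, trivial, ?_, ?_, rfl, ?_, ?_, ?_⟩
  · rw [DihedralGroup.orderOf_r_one]
  · rw [card_top, Nat.card_eq_fintype_card, DihedralGroup.card, pow_succ, mul_comm]
  · rintro (i | i) _ hx
    · exact absurd (hr i) hx
    · left; exact DihedralGroup.sr_mul_self i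
  · rintro (i | i) _ hx d hd _
    · exact absurd (hr i) hx
    · obtain ⟨j, rfl⟩ := mem_zpowers_iff.1 hd
      rw [DihedralGroup.r_one_zpow, DihedralGroup.sr_mul_r, DihedralGroup.inv_sr, DihedralGroup.sr_mul_sr,
        DihedralGroup.inv_r]
      congr 1; ring
  · right
    rintro (i | i) _ hx
    · exact absurd (hr i) hx
    · exact DihedralGroup.sr_mul_self i

theorem pk_quasi {X : Type*} [Group X] [Finite X] (h : IsQuasiDihedral X) : ∃ c z n, Pk (⊤ : Subgroup X) c z n := by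
  obtain ⟨n, hn, hcard, x, y, hx, hy, hyx⟩ := h
  have hyy : y * y = 1 := by rw [← pow_two, ← hy, pow_orderOf_eq_one]
  have hy' : y ∉ zpowers x := by
    intro h1
    obtain ⟨k, hk⟩ := mem_zpowers_iff.1 h1
    have h2 : y * x * y⁻¹ = x := by rw [← hk]; group
    rw [hyx] at h2
    have h3 : x ^ (2 ^ (n - 1) - 1) = x ^ 1 := by rw [h2, pow_one]
    rw [pow_inj_mod, hx] at h3
    have h4 : 2 ^ n = 2 * 2 ^ (n - 1) := by rw [← pow_succ', Nat.sub_add_cancel (by omega)]
    have h5 : 4 ≤ 2 ^ (n - 1) := by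
      calc 4 = 2 ^ 2 := rfl
        _ ≤ 2 ^ (n - 1) := Nat.pow_le_pow_right (by norm_num) (by omega)
    rw [Nat.mod_eq_of_lt (by omega), Nat.mod_eq_of_lt (by omega)] at h3
    omega
  have hidx : (zpowers x).index = 2 := by
    have h1 := (zpowers x).index_mul_card
    rw [Nat.card_zpowers, hx, hcard, pow_succ'] at h1
    exact Nat.eq_of_mul_eq_mul_right (by positivity) h1
  have hform : ∀ w : X, w ∉ zpowers x → ∃ i : ℕ, w = x ^ i * y := by
    intro w hw
    have h1 : w * y⁻¹ ∈ zpowers x := by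
      rw [mul_mem_iff_of_index_two hidx, inv_mem_iff]
      exact ⟨fun h => absurd h hw, fun h => absurd h hy'⟩
    obtain ⟨i, hi⟩ := (Submonoid.mem_powers_iff _ _).1 (mem_powers_iff_mem_zpowers.2 h1)
    exact ⟨i, by rw [hi]; group⟩
  have hconj : ∀ i : ℕ, y * x ^ i * y⁻¹ = x ^ (i * (2 ^ (n - 1) - 1)) := by
    intro i
    rw [← conj_pow, hyx, ← pow_mul, mul_comm]
  have h1le : 1 ≤ 2 ^ (n - 1) := Nat.one_le_two_pow
  refine ⟨x, _, n, by omega, trivial, hx, by rw [card_top, hcard], rfl, ?_, ?_, Or.inl hn⟩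
  · intro w _ hw
    obtain ⟨i, rfl⟩ := hform w hw
    have h1 : x ^ i * y * (x ^ i * y) = (x ^ 2 ^ (n - 1)) ^ i := by
      calc x ^ i * y * (x ^ i * y) = x ^ i * (y * x ^ i * y⁻¹) * (y * y) := by group
        _ = x ^ (i + i * (2 ^ (n - 1) - 1)) := by rw [hconj, hyy, mul_one, pow_add]
        _ = (x ^ 2 ^ (n - 1)) ^ i := by
          rw [← pow_mul]
          congr 1
          obtain ⟨m, hm⟩ := Nat.exists_eq_add_of_le h1le
          rw [hm, Nat.add_sub_cancel_left]; ring
    have h2 : (x ^ 2 ^ (n - 1)) * (x ^ 2 ^ (n - 1)) = 1 := by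
      rw [← pow_add, ← two_mul, ← pow_succ', Nat.sub_add_cancel (by omega), ← hx, pow_orderOf_eq_one]
    rw [h1]
    rcases Nat.even_or_odd' i with ⟨j, rfl | rfl⟩
    · left; rw [pow_mul, pow_two, h2, one_pow]
    · right; rw [pow_succ, pow_mul, pow_two, h2, one_pow, one_mul]
  · intro w _ hw d hd hd4
    obtain ⟨i, rfl⟩ := hform w hw
    obtain ⟨j, rfl⟩ := (Submonoid.mem_powers_iff _ _).1 (mem_powers_iff_mem_zpowers.2 hd)
    have h1 : x ^ i * y * x ^ j * (x ^ i * y)⁻¹ = x ^ (j * (2 ^ (n - 1) - 1)) := by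
      calc x ^ i * y * x ^ j * (x ^ i * y)⁻¹ = x ^ i * (y * x ^ j * y⁻¹) * (x ^ i)⁻¹ := by group
        _ = x ^ (j * (2 ^ (n - 1) - 1)) := by
          rw [hconj, ← pow_add, add_comm, pow_add]; group
    rw [h1, eq_inv_iff_mul_eq_one, pow_mul, ← pow_succ, Nat.sub_add_cancel h1le]
    obtain ⟨m, hm⟩ := Nat.exists_eq_add_of_le (show 2 ≤ n - 1 by omega)
    rw [hm, pow_add, pow_mul, show 2 ^ 2 = 4 from rfl, hd4, one_pow]

theorem exists_pk {G : Type*} [Group G] [Finite G] (T : Sylow 2 G)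
    (hT : (∃ n : ℕ, 4 ≤ n ∧ Nonempty (↥(T : Subgroup G) ≃* DihedralGroup n)) ∨ IsQuasiDihedral ↥(T : Subgroup G)) :
    ∃ c z n, Pk (T : Subgroup G) c z n := by
  rcases hT with ⟨m, hm, ⟨e⟩⟩ | h
  · obtain ⟨a, ha⟩ := IsPGroup.iff_card.1 T.2
    have h1 : Nat.card ↥(T : Subgroup G) = 2 * m := by
      rw [Nat.card_congr e.toEquiv]
      haveI : NeZero m := ⟨by omega⟩
      rw [Nat.card_eq_fintype_card, DihedralGroup.card]
    rcases a with _ | k
    · rw [ha, pow_zero] at h1; omega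
    have h2 : m = 2 ^ k := by
      rw [ha, pow_succ'] at h1
      exact (Nat.eq_of_mul_eq_mul_left (by norm_num) h1).symm
    subst h2
    have hk : 2 ≤ k := by
      by_contra h3
      have : k ≤ 1 := by omega
      have := Nat.pow_le_pow_right (show 1 ≤ 2 by norm_num) this
      omega
    obtain ⟨z, hz⟩ := pk_dihedral hk
    exact ⟨_, _, _, (hz.of_equiv e).of_top⟩
  · obtain ⟨c, z, n, h1⟩ := pk_quasi h
    exact ⟨_, _, _, h1.of_top⟩

end Cfsg.Agent.H17.SDSL
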