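import Cfsg.Agent.H17_SDSL2
import Cfsg.Agent.H1_Hall

set_option autoImplicit false
open Cfsg

/-! Solvable groups with (semi)dihedral Sylow 2-subgroups. -/

namespace Cfsg.Agent.H17.SDSL

open Subgroup H17.Base Cfsg.Agent.H10.Q8

set_option linter.style.haveILetI false

theorem q8_gen : ∀ x : QuaternionGroup 2, ∃ k : ℕ, k < 4 ∧ (x = (QuaternionGroup.a 1) ^ k ∨
    x = (QuaternionGroup.xa 0) * (QuaternionGroup.a 1) ^ k) := by decide

/-- admissible pairs -/
def prs : Finset (QuaternionGroup 2 × QuaternionGroup 2) :=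
  Finset.univ.filter fun x => x.1 * x.1 = QuaternionGroup.a 2 ∧ x.2 * x.2 = QuaternionGroup.a 2 ∧ x.2 ≠ x.1 ∧ x.2 ≠ x.1⁻¹

theorem card_prs : prs.card = 24 := by decide

theorem q8_a2 : ∀ x : QuaternionGroup 2, x * x = 1 → x ≠ 1 → x = QuaternionGroup.a 2 := by decide

theorem card_mulAut_q8 : Nat.card (MulAut (QuaternionGroup 2)) ≤ 24 := by
  have ha2 : ∀ α : MulAut (QuaternionGroup 2), α (QuaternionGroup.a 2) = QuaternionGroup.a 2 := by
    intro α
    apply q8_a2
    · rw [← map_mul]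
      have : (QuaternionGroup.a 2 : QuaternionGroup 2) * QuaternionGroup.a 2 = 1 := by decide
      rw [this, map_one]
    · intro h
      have h1 : (QuaternionGroup.a 2 : QuaternionGroup 2) = 1 := α.injective (h.trans (map_one α).symm)
      exact absurd h1 (by decide)
  let f : MulAut (QuaternionGroup 2) → prs := fun α => ⟨(α (QuaternionGroup.a 1), α (QuaternionGroup.xa 0)), by
    unfold prs
    rw [Finset.mem_filter]
    refine ⟨Finset.mem_univ _, ?_, ?_, ?_, ?_⟩
    · show α _ * α _ = _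
      rw [← map_mul]
      have : (QuaternionGroup.a 1 : QuaternionGroup 2) * QuaternionGroup.a 1 = QuaternionGroup.a 2 := by decide
      rw [this, ha2]
    · show α _ * α _ = _
      rw [← map_mul]
      have : (QuaternionGroup.xa 0 : QuaternionGroup 2) * QuaternionGroup.xa 0 = QuaternionGroup.a 2 := by decide
      rw [this, ha2]
    · show α _ ≠ α _
      intro h
      exact absurd (α.injective h) (by decide)
    · show α _ ≠ (α _)⁻¹
      rw [← map_inv]
      intro h
      exact absurd (α.injective h) (by decide)⟩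
  have hf : Function.Injective f := by
    intro α β h
    have h0 := congrArg Subtype.val h
    have h1 : α (QuaternionGroup.a 1) = β (QuaternionGroup.a 1) := congrArg Prod.fst h0
    have h2 : α (QuaternionGroup.xa 0) = β (QuaternionGroup.xa 0) := congrArg Prod.snd h0
    apply MulEquiv.ext
    intro x
    obtain ⟨k, -, rfl | rfl⟩ := q8_gen x
    · rw [map_pow, map_pow, h1]
    · rw [map_mul, map_mul, map_pow, map_pow, h1, h2]
  have h1 := Nat.card_le_card_of_injective f hf
  rwa [Nat.card_eq_fintype_card (α := prs), Fintype.card_coe, card_prs] at h1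

variable {G : Type*} [Group G]

theorem cz_card [Finite G] {Q : Subgroup G} {t : G} (h : QD Q t) (hC : Cz Q ≤ Q) : Nat.card (Cz Q) ≤ 2 := by
  have h1 : Cz Q ≤ zpowers t := by
    intro w hw
    rcases h.cs w (hC hw) with h1 | h1 | h1
    · rw [h1]; exact one_mem _
    · rw [h1]; exact mem_zpowers t
    · exfalso
      obtain ⟨x, hx, y, hy, hxx, hyy, hne, hne'⟩ := h.f4
      have key : ∀ x ∈ Q, x * x = t → x = w ∨ x = w * t := by
        intro x hx hxx
        rcases h.f2 w (hC hw) x hx h1 hxx with h2 | h2 | h2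
        · exact Or.inl h2
        · exact Or.inr h2
        · exfalso
          have h3 : w * x * w⁻¹ = x := by
            rw [← mem_centralizer_iff.1 hw x hx]; group
          rw [h3] at h2
          exact h.t1 (left_eq_mul.1 h2)
      rcases key x hx hxx with rfl | rfl <;> rcases key y hy hyy with rfl | rfl
      · exact hne rfl
      · exact hne' rfl
      · apply hne'; rw [mul_assoc, h.tt, mul_one]
      · exact hne rfl
  refine (card_le_of_le h1).trans ?_
  rw [Nat.card_zpowers]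
  exact Nat.le_of_dvd (by norm_num) (orderOf_dvd_of_pow_eq_one (by rw [pow_two, h.tt]))

theorem card_le [Finite G] {Q : Subgroup G} (hn : Q.Normal) {t : G} (h : QD Q t) (e : Q ≃* QuaternionGroup 2) (hC : Cz Q ≤ Q) :
    Nat.card G ≤ 48 := by
  have : Finite (MulAut (QuaternionGroup 2)) := inferInstance
  have h1 : Nat.card (MulAut Q) ≤ 24 := by
    rw [Nat.card_congr (MulAut.congr e).toEquiv]; exact card_mulAut_q8
  set φ : G →* MulAut Q := MulAut.conjNormal with hφ
  have h2 : φ.ker ≤ Cz Q := by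
    intro x hx
    rw [mem_centralizer_iff]
    intro y hy
    have h3 := congrArg (fun a : MulAut Q => ((a ⟨y, hy⟩ : Q) : G)) (MonoidHom.mem_ker.1 hx)
    have h4 : x * y * x⁻¹ = y := h3
    rw [mul_inv_eq_iff_eq_mul] at h4
    exact h4.symm
  have h3 := φ.ker.card_mul_index
  rw [index_ker] at h3
  have h4 : Nat.card φ.range ≤ 24 := (card_le_card_group _).trans h1
  have h5 : Nat.card φ.ker ≤ 2 := (card_le_of_le h2).trans (cz_card h hC)
  rw [← h3]
  calc Nat.card φ.ker * Nat.card φ.range ≤ 2 * 24 := Nat.mul_le_mul h5 h4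
    _ = 48 := rfl

theorem main879 [Finite G] (hsol : Group.IsSolvable G) (hO : oddCore G = ⊥) (T : Sylow 2 G)
    (hT : (∃ n : ℕ, 4 ≤ n ∧ Nonempty (↥(T : Subgroup G) ≃* DihedralGroup n)) ∨ IsQuasiDihedral ↥(T : Subgroup G))
    (hne : (T : Subgroup G) ≠ ⊤) (hZ : ((T : Subgroup G) ⊓ Subgroup.centralizer ((T : Subgroup G) : Set G)).Normal) :
    ∃ U : Subgroup G, U.Normal ∧ Nonempty (↥U ≃* Matrix.SpecialLinearGroup (Fin 2) (ZMod 3)) := by
  have h2p : Fact (Nat.Prime 2) := ⟨Nat.prime_two⟩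
  obtain ⟨c, z, n, hP⟩ := exists_pk T hT
  set Q := pCore 2 G with hQ
  have hQn : Q.Normal := pCore_normal 2 G
  have hCQ : Cz Q ≤ Q := H1.Hall.centralizer_pCore_le 2 hO
  have hQT : Q ≤ (T : Subgroup G) := pCore_le_sylow T
  have hQp : IsPGroup 2 Q := pCore_isPGroup 2 G
  -- z is central
  have hz4 : z ^ 4 = 1 := by rw [show 4 = 2 * 2 from rfl, pow_mul, pow_two z, hP.zz, one_pow]
  have hzinv : z⁻¹ = z := inv_eq_of_mul_eq_one_right hP.zz
  have hzZ : z ∈ (T : Subgroup G) ⊓ Cz (T : Subgroup G) := by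
    refine ⟨hP.le hP.z_mem, mem_centralizer_iff.2 ?_⟩
    intro x hx
    by_cases hxc : x ∈ zpowers c
    · obtain ⟨i, rfl⟩ := mem_zpowers_iff.1 hxc
      obtain ⟨j, hj⟩ := mem_zpowers_iff.1 hP.z_mem
      rw [← hj]; exact ((Commute.refl c).zpow_zpow i j)
    · have h1 := hP.inv x hx hxc z hP.z_mem hz4
      rw [hzinv, mul_inv_eq_iff_eq_mul] at h1
      exact h1
  have hZc : (T : Subgroup G) ⊓ Cz (T : Subgroup G) ≤ zpowers c := by
    rintro w ⟨hw, hwC⟩
    by_contra hwc
    set d := c ^ 2 ^ (n - 2) with hd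
    have hn2 := hP.hn
    have hdd : d * d = z := by
      rw [hd, hP.hz, ← pow_add, ← two_mul, ← pow_succ']
      congr 2; omega
    have hd4 : d ^ 4 = 1 := by rw [show 4 = 2 * 2 from rfl, pow_mul, pow_two d, hdd, pow_two, hP.zz]
    have hdc : d ∈ zpowers c := pow_mem (mem_zpowers c) _
    have h1 := hP.inv w hw hwc d hdc hd4
    have h2 := mem_centralizer_iff.1 hwC d (hP.le hdc)
    rw [← h2, mul_inv_cancel_right] at h1
    apply hP.z_ne
    rw [← hdd]
    nth_rewrite 1 [h1]
    rw [inv_mul_cancel]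
  have hzc : ∀ g : G, g * z * g⁻¹ = z := by
    intro g
    have h1 := hZc (hZ.conj_mem z hzZ g)
    rcases hP.inv_of_sq h1 (by
      have : g * z * g⁻¹ * (g * z * g⁻¹) = g * (z * z) * g⁻¹ := by group
      rw [this, hP.zz]; group) with h2 | h2
    · exfalso
      apply hP.z_ne
      have : z = g⁻¹ * (g * z * g⁻¹) * g := by group
      rw [this, h2]; group
    · exact h2
  -- odd element
  obtain ⟨g, hgo, hg1⟩ : ∃ g : G, (orderOf g).Coprime 2 ∧ g ≠ 1 := by
    have h1 : (T : Subgroup G).index ≠ 1 := by rwa [Ne, index_eq_one]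
    obtain ⟨q, hq, hqd⟩ := Nat.exists_prime_and_dvd h1
    have hq2 : q ≠ 2 := by
      rintro rfl
      exact T.not_dvd_index hqd
    have : Fact q.Prime := ⟨hq⟩
    obtain ⟨g, hg⟩ := exists_prime_orderOf_dvd_card' (G := G) q (hqd.trans (index_dvd_card _))
    refine ⟨g, by rw [hg]; exact (Nat.coprime_primes hq Nat.prime_two).2 hq2, ?_⟩
    rintro rfl
    rw [orderOf_one] at hg
    exact hq.one_lt.ne hg
  have hodd_Q : ∀ u ∈ Q, (orderOf u).Coprime 2 → u = 1 := by
    intro u hu ho
    obtain ⟨k, hk⟩ := hQp ⟨u, hu⟩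
    have h1 : u ^ 2 ^ k = 1 := congrArg Subtype.val hk
    have h2 := orderOf_dvd_of_pow_eq_one h1
    have h3 := Nat.Coprime.eq_one_of_dvd (ho.pow_right k) h2
    exact orderOf_eq_one_iff.1 h3
  have hgC : g ∉ Cz Q := fun h => hg1 (hodd_Q g (hCQ h) hgo)
  have hgN : g ∈ Nz Q := by
    have : Nz Q = ⊤ := normalizer_eq_top_iff.mpr hQn
    rw [this]; trivial
  obtain ⟨⟨e⟩, hn3⟩ := hP.main hQT hgN hgo hgC (hzc g)
  obtain ⟨t, h⟩ := QD.of_equiv e
  obtain ⟨i, hi, hii, h1, h2, h3⟩ := H2.QuatSec.exists_data h hgN hgo hgC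
  set j := g * i * g⁻¹ with hj
  have hjQ : j ∈ Q := (mem_normalizer_iff.1 hgN _).1 hi
  have hgt : Commute g t := h.comm_t le_rfl hgN h.ht
  have hit : Commute i t := h.tc i hi
  have hg3i : Commute (g ^ 3) i := by
    have : g ^ 3 * i * (g ^ 3)⁻¹ = i := by
      calc g ^ 3 * i * (g ^ 3)⁻¹ = g * (g * (g * i * g⁻¹) * g⁻¹) * g⁻¹ := by
            rw [show g ^ 3 = g * g * g by rw [pow_succ, pow_two]]; group
        _ = g * (i * j) * g⁻¹ := by rw [← hj, h1]
        _ = (g * i * g⁻¹) * (g * j * g⁻¹) := by group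
        _ = j * (i * j) := by rw [← hj, h1]
        _ = (j * i * j⁻¹) * (j * j) := by group
        _ = i * t * t := by rw [h3, h2]
        _ = i := by rw [mul_assoc, h.tt, mul_one]
    exact mul_inv_eq_iff_eq_mul.1 this
  have hg3j : Commute (g ^ 3) j := by
    have : g ^ 3 * j * (g ^ 3)⁻¹ = j := by
      calc g ^ 3 * j * (g ^ 3)⁻¹ = g * (g ^ 3 * i * (g ^ 3)⁻¹) * g⁻¹ := by rw [hj]; group
        _ = j := by rw [hg3i.eq, hj]; group
    exact mul_inv_eq_iff_eq_mul.1 this
  have hji : j ≠ i ∧ j ≠ i * t := by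
    have h4 : i ≠ i * t := fun h4 => h.t1 (mul_eq_left.1 h4.symm)
    constructor
    · intro h5
      rw [h5] at h3
      apply h4
      calc i = i * i * i⁻¹ := by group
        _ = i * t := h3
    · intro h5
      apply h4
      rw [h5] at h3
      calc i = i * (i * t) * (i * t)⁻¹ := by group
        _ = (i * t) * i * (i * t)⁻¹ := by rw [mul_assoc i t i, ← hit.eq]
        _ = i * t := h3
  have hg3C : ∀ w ∈ Q, Commute (g ^ 3) w := by
    intro w hw
    have hg3t : Commute (g ^ 3) t := hgt.pow_left 3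
    rcases h.cs w hw with h4 | h4 | h4
    · rw [h4]; exact Commute.one_right _
    · rw [h4]; exact hg3t
    · rcases h.f3 i hi j hjQ w hw hii h2 h4 with h5 | h5 | h5 | h5 | h5 | h5 | h5 | h5
      · exact absurd h5 hji.1
      · exact absurd h5 hji.2
      · rw [h5]; exact hg3i
      · rw [h5]; exact hg3i.mul_right hg3t
      · rw [h5]; exact hg3j
      · rw [h5]; exact hg3j.mul_right hg3t
      · rw [h5]; exact hg3i.mul_right hg3j
      · rw [h5]; exact (hg3i.mul_right hg3j).mul_right hg3t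
  have hg3 : g ^ 3 = 1 := by
    apply hodd_Q
    · apply hCQ
      rw [mem_centralizer_iff]
      intro w hw
      exact (hg3C w hw).eq.symm
    · exact Nat.Coprime.coprime_dvd_left (orderOf_pow_dvd 3) hgo
  have hog : orderOf g = 3 := by
    haveI : Fact (Nat.Prime 3) := ⟨Nat.prime_three⟩
    exact orderOf_eq_prime hg3 hg1
  have hNz : zpowers g ≤ Nz Q := by rwa [zpowers_le]
  set H : Subgroup G := zpowers g ⊔ Q with hH
  have hcardH : Nat.card H = 24 := by
    have h4 := Cfsg.Agent.H2.Card.card_sup_mul_card_inf hNz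
    have h5 : zpowers g ⊓ Q = ⊥ := by
      rw [← disjoint_iff]
      apply Subgroup.disjoint_of_coprime_natCard
      rw [Nat.card_zpowers, h.card]
      exact hgo.pow_right 3
    rw [h5, Subgroup.card_bot, mul_one, Nat.card_zpowers, h.card, hog] at h4
    exact h4
  have hiH : i ∈ H := (le_sup_right : Q ≤ H) hi
  have hjH : j ∈ H := (le_sup_right : Q ≤ H) hjQ
  have hgH : g ∈ H := (le_sup_left : zpowers g ≤ H) (mem_zpowers g)
  refine ⟨H, ?_, ?_⟩
  · -- |G| = 48
    have hc1 := card_le hQn h e hCQ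
    have hc2 : 16 ∣ Nat.card G := by
      have h4 : Nat.card (T : Subgroup G) ∣ Nat.card G := card_subgroup_dvd_card _
      rw [hP.hcard] at h4
      exact (pow_dvd_pow 2 (show 4 ≤ n + 1 by omega)).trans h4
    have hc3 : 24 ∣ Nat.card G := by
      rw [← hcardH]; exact card_subgroup_dvd_card _
    have hc4 : 0 < Nat.card G := Nat.card_pos
    have hc5 : Nat.card G = 48 := by omega
    apply normal_of_index_eq_two
    have h4 := H.card_mul_index
    rw [hcardH, hc5] at h4
    omega
  · apply Cfsg.Agent.H2.SL23.nonempty_sl (i := (⟨i, hiH⟩ : H)) (j := ⟨j, hjH⟩) (g := ⟨g, hgH⟩) _ hcardH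
    refine ⟨?_, ?_, ?_, ?_, ?_, ?_⟩
    · rw [Subgroup.orderOf_mk]
      apply orderOf_eq_prime_pow (p := 2) (n := 1)
      · rw [pow_one, pow_two, hii]; exact h.t1
      · rw [show (2 : ℕ) ^ (1 + 1) = 2 * 2 by norm_num, pow_mul, pow_two i, hii, pow_two, h.tt]
    · rw [Subgroup.orderOf_mk]; exact hog
    · apply Subtype.ext
      change j * j = i ^ 2
      rw [h2, pow_two, hii]
    · apply Subtype.ext
      change j * i * j⁻¹ = i⁻¹
      rw [h3, eq_inv_iff_mul_eq_one]
      calc i * t * i = i * (t * i) := mul_assoc _ _ _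
        _ = i * i * t := by rw [hit.symm.eq, mul_assoc]
        _ = 1 := by rw [hii, h.tt]
    · exact Subtype.ext hj.symm
    · exact Subtype.ext h1

end Cfsg.Agent.H17.SDSL
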