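import Mathlib
import Cfsg.Prelude.Def_BaumannBlocks
import Cfsg.Agent.H18_KS0
import Cfsg.Agent.H18_ZJF2
import Cfsg.Agent.H2_Card

/-!
# Baumann subgroups and `O^p`-generated subgroups
-/

set_option autoImplicit false
set_option linter.unusedSectionVars false
set_option linter.unusedSimpArgs false
set_option linter.style.haveILetI false

namespace Cfsg.Agent.H18.BB

open Subgroup Pointwise
open scoped commutatorElement
open Cfsg.Agent.H13.Syl
open Cfsg.Agent.H18.CharP
open Cfsg.Agent.H12.ZJ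
open Cfsg.Agent.H18.KS (commutator_le_left_of le_norm_of_comm mem_sup_of_norm mul_pow_mem le_normalizer_iff_conj)

variable {G : Type*} [Group G]

/-- `O^p(H)` -/
def pGen (p : ℕ) (H : Subgroup G) : Subgroup G := closure {g : G | g ∈ H ∧ (orderOf g).Coprime p}

theorem pResidualOf_eq (p : ℕ) (H : Subgroup G) : pResidualOf p H = pGen p H := by
  rw [pResidualOf, pResidual, MonoidHom.map_closure, pGen]
  congr 1
  ext x
  constructor
  · rintro ⟨y, hy, rfl⟩
    refine ⟨y.2, ?_⟩
    have : orderOf (H.subtype y) = orderOf y := orderOf_injective H.subtype H.subtype_injective y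
    rw [this]; exact hy
  · rintro ⟨hx, ho⟩
    refine ⟨⟨x, hx⟩, ?_, rfl⟩
    change (orderOf (⟨x, hx⟩ : ↥H)).Coprime p
    have : orderOf (H.subtype ⟨x, hx⟩) = orderOf (⟨x, hx⟩ : ↥H) := orderOf_injective H.subtype H.subtype_injective _
    rw [← this]; exact ho

theorem pGen_le (p : ℕ) (H : Subgroup G) : pGen p H ≤ H := (closure_le _).mpr fun _ h => h.1

theorem mem_pGen {p : ℕ} {H : Subgroup G} {g : G} (h : g ∈ H) (ho : (orderOf g).Coprime p) : g ∈ pGen p H :=
  subset_closure ⟨h, ho⟩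

theorem pGen_mono {p : ℕ} {H K : Subgroup G} (h : H ≤ K) : pGen p H ≤ pGen p K :=
  closure_mono fun _ hg => ⟨h hg.1, hg.2⟩

theorem normalizer_le_normalizer_pGen (p : ℕ) (H : Subgroup G) :
    normalizer (H : Set G) ≤ normalizer (pGen p H : Set G) := by
  rw [le_normalizer_iff_conj]
  intro g hg
  have h1 : cj g (pGen p H) ≤ pGen p H := by
    rw [cj, pGen, MonoidHom.map_closure, closure_le]
    rintro _ ⟨x, ⟨hx, ho⟩, rfl⟩
    apply Subgroup.subset_closure
    refine ⟨?_, ?_⟩
    · exact (mem_normalizer_iff.mp hg x).mp hx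
    · change (orderOf (MulAut.conj g x)).Coprime p
      rw [MulEquiv.orderOf_eq]
      exact ho
  intro k hk
  exact cj_le_iff_forall.mp h1 k hk

theorem mem_of_pow {p : ℕ} {K : Subgroup G} {h : G} {m : ℕ} (hm : h ^ (p ^ m) ∈ K) (ho : (orderOf h).Coprime p) :
    h ∈ K := by
  have h1 : (p ^ m).Coprime (orderOf h) := Nat.Coprime.pow_left _ ho.symm
  obtain ⟨k, hk⟩ := exists_pow_eq_self_of_coprime h1
  rw [← hk]
  exact K.pow_mem hm k

/-- a `p'`-element of `K ⊔ P` lies in `K` when `P` is a `p`-group modulo `K` -/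
theorem mem_left {p : ℕ} {K P : Subgroup G} (hPK : P ≤ normalizer (K : Set G)) (hP : ∀ x ∈ P, ∃ m : ℕ, x ^ (p ^ m) ∈ K)
    {g : G} (hg : g ∈ K ⊔ P) (ho : (orderOf g).Coprime p) : g ∈ K := by
  obtain ⟨k, hk, x, hx, rfl⟩ := mem_sup_of_norm hPK hg
  obtain ⟨m, hm⟩ := hP x hx
  obtain ⟨c, hc, h1⟩ := mul_pow_mem hk (hPK hx) (p ^ m)
  refine mem_of_pow (m := m) ?_ ho
  rw [h1]
  exact K.mul_mem hc hm

theorem pow_mem_of_pgroup {p : ℕ} {K P : Subgroup G} (hP : IsPGroup p ↥P) : ∀ x ∈ P, ∃ m : ℕ, x ^ (p ^ m) ∈ K := by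
  intro x hx
  obtain ⟨m, hm⟩ := hP ⟨x, hx⟩
  refine ⟨m, ?_⟩
  have h2 : x ^ (p ^ m) = 1 := by
    have := congrArg Subtype.val hm
    simpa using this
  rw [h2]; exact K.one_mem

theorem pGen_sup {p : ℕ} {K P : Subgroup G} (hPK : P ≤ normalizer (K : Set G)) (hP : IsPGroup p ↥P)
    (hK : pGen p K = K) : pGen p (K ⊔ P) = K := by
  apply le_antisymm
  · rw [pGen, closure_le]
    rintro x ⟨hx, ho⟩
    exact mem_left hPK (pow_mem_of_pgroup hP) hx ho
  · conv_lhs => rw [← hK]
    exact pGen_mono le_sup_left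

/-- the normal closure trick -/
theorem norm_of {p : ℕ} {K P Q : Subgroup G} (hP : IsPGroup p ↥P) (hK : pGen p K = K) (hKP : ⁅K, P⁆ = K)
    (hQ1 : K ⊔ P ≤ normalizer (Q : Set G)) (hQ2 : Q ≤ normalizer (P : Set G)) : Q ≤ normalizer (K : Set G) := by
  have hPK : P ≤ normalizer (K : Set G) := le_norm_of_comm (le_of_eq hKP)
  set N : Subgroup G := ⨆ k : K, cj (k : G) P with hN
  have hPN : P ≤ N := by
    have := le_iSup (fun k : K => cj (k : G) P) 1
    simpa [cj_one] using this
  have hKN : K ≤ normalizer (N : Set G) := by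
    intro k hk
    rw [mem_normalizer_iff_cj]
    have h1 : ∀ x ∈ K, cj x N ≤ N := by
      intro x hx
      rw [hN, cj, Subgroup.map_iSup]
      apply iSup_le
      intro y
      have := le_iSup (fun k : K => cj (k : G) P) (⟨x, hx⟩ * y)
      refine le_trans (le_of_eq ?_) this
      change cj x (cj (y : G) P) = cj (x * y) P
      rw [cj_mul]
    apply le_antisymm (h1 k hk)
    have := h1 k⁻¹ (K.inv_mem hk)
    rw [cj_le_iff, inv_inv] at this
    exact this
  have hKN2 : K ≤ N := by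
    conv_lhs => rw [← hKP]
    refine (commutator_mono le_rfl hPN).trans ?_
    rw [commutator_comm]
    exact commutator_le_left_of hKN
  have hNH : N = K ⊔ P := by
    apply le_antisymm
    · apply iSup_le
      intro k
      rw [cj_le_iff_forall]
      intro a ha
      exact mul_mem (mul_mem (mem_sup_left k.2) (mem_sup_right ha)) (inv_mem (mem_sup_left k.2))
    · exact sup_le hKN2 hPN
  have hQN : Q ≤ normalizer (N : Set G) := by
    rw [le_normalizer_iff_conj]
    intro q hq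
    have h1 : cj q N ≤ N := by
      rw [hN, cj, Subgroup.map_iSup]
      apply iSup_le
      intro y
      refine le_trans (le_of_eq ?_) (le_iSup (fun k : K => cj (k : G) P) y)
      change cj q (cj (y : G) P) = cj (y : G) P
      have h2 : (y : G)⁻¹ * q * (y : G)⁻¹⁻¹ ∈ Q :=
        (mem_normalizer_iff.mp (hQ1 (mem_sup_left (inv_mem y.2))) q).mp hq
      have h3 := cj_eq_of_mem_normalizer (hQ2 h2)
      conv_rhs => rw [← h3]
      rw [← cj_mul, ← cj_mul]
      congr 1
      group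
    intro k hk
    exact cj_le_iff_forall.mp h1 k hk
  rw [hNH] at hQN
  refine hQN.trans ?_
  refine (normalizer_le_normalizer_pGen p _).trans ?_
  rw [pGen_sup hPK hP hK]

/-! ### the Baumann subgroup -/

abbrev BT (p : ℕ) (T : Subgroup G) : Subgroup G := baumannSubgroupOf p T

section
variable [Finite G] {p : ℕ}

theorem BT_eq (T : Subgroup G) : BT p T = T ⊓ centralizer (omegaOne p (ZJJ p T) : Set G) := by
  rw [ZJJ_p]; rfl

theorem BT_le (T : Subgroup G) : BT p T ≤ T := inf_le_left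

theorem omegaOne_le' (H : Subgroup G) : omegaOne p H ≤ H := by
  unfold omegaOne
  rw [Subgroup.closure_le]
  exact fun x hx => hx.1

theorem omegaOne_cj' (g : G) (H : Subgroup G) : omegaOne p (cj g H) = cj g (omegaOne p H) := by
  unfold omegaOne
  show _ = Subgroup.map _ _
  rw [MonoidHom.map_closure]
  congr 1
  ext x
  constructor
  · rintro ⟨hx, hk⟩
    refine ⟨g⁻¹ * x * g, ⟨mem_cj.1 hx, ?_⟩, by simp [mul_assoc]⟩
    have : (g⁻¹ * x * g) ^ p = g⁻¹ * x ^ p * g := by
      have := (conj_pow (i := p) (a := g⁻¹) (b := x))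
      simpa using this
    rw [this, hk]; simp
  · rintro ⟨y, ⟨hy, hk⟩, rfl⟩
    refine ⟨conj_mem_cj hy, ?_⟩
    show (g * y * g⁻¹) ^ p = 1
    rw [conj_pow, hk]; simp

theorem JJ_le_BT (T : Subgroup G) : JJ p T ≤ BT p T := by
  rw [BT_eq]
  refine le_inf (JJ_le p T) ?_
  rw [le_centralizer_iff]
  exact (omegaOne_le' _).trans inf_le_right

theorem BT_cj (g : G) (T : Subgroup G) : BT p (cj g T) = cj g (BT p T) := by
  rw [BT_eq, BT_eq, cj_inf, Cfsg.Agent.H18.ZJF.cj_ZJJ, omegaOne_cj', cj_centralizer]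

theorem le_norm_BT (T : Subgroup G) : T ≤ normalizer (BT p T : Set G) := by
  intro t ht
  rw [mem_normalizer_iff_cj, ← BT_cj, cj_eq_of_mem_normalizer (le_normalizer ht)]

/-- a Sylow subgroup containing `B(T)` has the same Baumann subgroup -/
theorem BT_eq_of_le [Fact p.Prime] (T T' : Sylow p G) (h : BT p (T : Subgroup G) ≤ T') :
    BT p (T' : Subgroup G) = BT p (T : Subgroup G) := by
  obtain ⟨g, hg⟩ := MulAction.exists_smul_eq G T T'
  have hg' : (T' : Subgroup G) = cj g (T : Subgroup G) := by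
    rw [← hg]; rfl
  have hJT : JJ p (T : Subgroup G) ≤ T' := (JJ_le_BT _).trans h
  have h1 : JJ p (T : Subgroup G) ≤ JJ p (T' : Subgroup G) := by
    refine sSup_le fun A hA => ?_
    have h2 : MaxEA p (T' : Subgroup G) A := by
      refine ⟨hA.le_JJ.trans hJT, hA.2.1, fun B hB hBe => ?_⟩
      have h3 : cj g⁻¹ B ≤ (T : Subgroup G) := by
        rw [cj_le_iff, inv_inv, ← hg']; exact hB
      have := hA.2.2 _ h3 (hBe.cj g⁻¹)
      rwa [card_cj] at this
    exact h2.le_JJ
  have h4 : JJ p (T' : Subgroup G) = JJ p (T : Subgroup G) := by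
    symm
    apply H2.Card.eq_of_le_of_card_eq h1
    rw [hg', ← cj_JJ, card_cj]
  have h5 : BT p (T : Subgroup G) ≤ BT p (T' : Subgroup G) := by
    rw [BT_eq (T := (T' : Subgroup G))]
    refine le_inf h ?_
    have h6 : ZJJ p (T' : Subgroup G) = ZJJ p (T : Subgroup G) := by rw [ZJJ, ZJJ, h4]
    rw [h6, BT_eq]
    exact inf_le_right
  symm
  apply H2.Card.eq_of_le_of_card_eq h5
  rw [hg', BT_cj, card_cj]

/-- a `p`-subgroup normalized by `B(T)` normalizes `B(T)` -/
theorem norm_BT [Fact p.Prime] (T : Sylow p G) {Q : Subgroup G} (hQ : IsPGroup p ↥Q)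
    (h : BT p (T : Subgroup G) ≤ normalizer (Q : Set G)) : Q ≤ normalizer (BT p (T : Subgroup G) : Set G) := by
  have hB : IsPGroup p ↥(BT p (T : Subgroup G)) := T.isPGroup'.to_le (BT_le _)
  have h1 : IsPGroup p ↥(Q ⊔ BT p (T : Subgroup G) : Subgroup G) := hQ.to_sup_of_normal_left' hB h
  obtain ⟨T', hT'⟩ := h1.exists_le_sylow
  have h2 := BT_eq_of_le T T' (le_sup_right.trans hT')
  rw [← h2]
  exact (le_sup_left.trans hT').trans (le_norm_BT _)

end

end Cfsg.Agent.H18.BB
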