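import Cfsg.Prelude
import Cfsg.Agent.H22_Basic
import Cfsg.Agent.H1_Subn
import Cfsg.Agent.H1_Nilp
import Cfsg.Agent.H11_FStar

set_option autoImplicit false

namespace Cfsg.Agent.H22.PrimPair

open Subgroup H22.Basic
open scoped commutatorElement

variable {G : Type*} [Group G]

theorem le_normalizer_map_of_normal {M : Subgroup G} {R : Subgroup M} (hR : R.Normal) :
    M ≤ normalizer (R.map M.subtype : Set G) := by
  have h1 := le_normalizer_map (H := R) M.subtype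
  rw [Subgroup.normalizer_eq_top (H := R), ← MonoidHom.range_eq_map, M.range_subtype] at h1
  exact h1

theorem centralizer_le_iff {M : Subgroup G} {R S : Subgroup M} :
    centralizer (R : Set M) ≤ S ↔ M ⊓ centralizer (R.map M.subtype : Set G) ≤ S.map M.subtype := by
  constructor
  · rintro h x ⟨hx, hxc⟩
    refine ⟨⟨x, hx⟩, h ?_, rfl⟩
    rw [mem_centralizer_iff]
    intro r hr
    exact Subtype.ext (mem_centralizer_iff.mp hxc r ⟨r, hr, rfl⟩)
  · intro h x hx
    have h1 : (x : G) ∈ S.map M.subtype := by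
      apply h
      refine mem_inf.mpr ⟨x.2, ?_⟩
      rw [mem_centralizer_iff]
      rintro _ ⟨r, hr, rfl⟩
      exact congrArg Subtype.val (mem_centralizer_iff.mp hx r hr)
    obtain ⟨s, hs, hsx⟩ := h1
    have : s = x := Subtype.ext hsx
    exact this ▸ hs

theorem le_normalizer_of_le {K M H : Subgroup G} (h : M ≤ normalizer (K : Set G)) (hH : H ≤ M) :
    H ≤ normalizer (K : Set G) := hH.trans h

/-- internal components -/
def Comp (K M : Subgroup G) : Prop :=
  K ≤ M ∧ (K.subgroupOf M).IsSubnormal ∧ Cfsg.IsQuasisimple K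

theorem comp_iff {K M : Subgroup G} (hKM : K ≤ M) : Comp K M ↔ Cfsg.IsComponent (K.subgroupOf M) := by
  unfold Comp
  constructor
  · rintro ⟨-, h1, h2⟩
    exact ⟨h1, H11.Components.IsQuasisimple.of_mulEquiv h2 (subgroupOfEquivOfLe hKM).symm⟩
  · rintro ⟨h1, h2⟩
    exact ⟨hKM, h1, H11.Components.IsQuasisimple.of_mulEquiv h2 (subgroupOfEquivOfLe hKM)⟩

theorem Comp.of_le {K M D : Subgroup G} (h : Comp K M) (hKD : K ≤ D) (hD : D ≤ M) : Comp K D :=
  ⟨hKD, H1.Subn.subnormal_subgroupOf_mono h.2.1 hD, h.2.2⟩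

variable [Finite G]

theorem Comp.le_or {K M U : Subgroup G} (h : Comp K M) (hUM : U ≤ M)
    (hU : (U.subgroupOf M).IsSubnormal) : K ≤ U ∨ ⁅K, U⁆ = ⊥ := by
  rcases H11.Components.le_or_commutator_eq_bot ((comp_iff h.1).mp h) hU with h1 | h1
  · left
    have := map_mono (f := M.subtype) h1
    rwa [map_subtype_subgroupOf h.1, map_subtype_subgroupOf hUM] at this
  · right
    exact (H11.Components.commutator_subgroupOf_eq_bot_iff h.1 hUM).mp h1

/-- the generalized Fitting subgroup of `M`, inside `G` -/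
noncomputable def FS (M : Subgroup G) : Subgroup G := (Cfsg.generalizedFittingSubgroup M).map M.subtype

omit [Finite G] in
theorem FS_le (M : Subgroup G) : FS M ≤ M := map_subtype_le _

omit [Finite G] in
theorem le_normalizer_FS (M : Subgroup G) : M ≤ normalizer (FS M : Set G) :=
  le_normalizer_map_of_normal inferInstance

theorem centralizer_FS (M : Subgroup G) : M ⊓ centralizer (FS M : Set G) ≤ FS M :=
  centralizer_le_iff.mp H11.FStar.centralizer_generalizedFitting_le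

omit [Finite G] in
theorem subnormal_of_le_normalizer {U M : Subgroup G} (hUM : U ≤ M) (h : M ≤ normalizer (U : Set G)) :
    (U.subgroupOf M).IsSubnormal :=
  ((normal_subgroupOf_iff_le_normalizer hUM).mpr h).isSubnormal

/-- the components of `M₁` are components of `M₂` if `F*(M₁) ≤ M₂`, `F*(M₂) ≤ M₁` -/
theorem comp_of_comp {K M₁ M₂ : Subgroup G} (h₁ : FS M₁ ≤ M₂) (h₂ : FS M₂ ≤ M₁)
    (hK : Comp K M₁) : Comp K M₂ := by
  have hKF : K ≤ FS M₁ := by
    have h := H11.FStar.le_generalizedFitting_of_isComponent ((comp_iff hK.1).mp hK)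
    have := map_mono (f := M₁.subtype) h
    rwa [map_subtype_subgroupOf hK.1] at this
  have hKD : K ≤ M₁ ⊓ M₂ := le_inf hK.1 (hKF.trans h₁)
  have hKc := hK.of_le hKD inf_le_left
  have hF2D : FS M₂ ≤ M₁ ⊓ M₂ := le_inf h₂ (FS_le _)
  have hF2n : M₁ ⊓ M₂ ≤ normalizer (FS M₂ : Set G) := inf_le_right.trans (le_normalizer_FS M₂)
  have hKF2 : K ≤ FS M₂ := by
    rcases hKc.le_or hF2D (subnormal_of_le_normalizer hF2D hF2n) with h | h
    · exact h
    · rw [commutator_eq_bot_iff_le_centralizer] at h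
      exact (le_inf (hKD.trans inf_le_right) h).trans (centralizer_FS M₂)
  refine ⟨hKF2.trans (FS_le _), ?_, hK.2.2⟩
  exact H1.Subn.subnormal_subgroupOf_trans hKF2 (FS_le _)
    (H1.Subn.subnormal_subgroupOf_mono hKc.2.1 hF2D)
    (subnormal_of_le_normalizer (FS_le _) (le_normalizer_FS _))

omit [Finite G] in
theorem comp_cj {K M : Subgroup G} (h : Comp K M) {m : G} (hm : m ∈ M) : Comp (cj m K) M := by
  have e : cj m M = M := cj_eq_of_mem hm
  refine ⟨?_, ?_, ?_⟩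
  · rw [← e]; exact cj_mono h.1
  · have h1 := H1.Subn.subnormal_subgroupOf_conj h.2.1 m
    have h2 : ((cj m K).subgroupOf (cj m M)).IsSubnormal := h1
    rwa [e] at h2
  · exact H11.Components.IsQuasisimple.of_mulEquiv h.2.2 (K.equivMapOfInjective _ (MulAut.conj m).injective)

/-- layer of `M` inside `G` -/
noncomputable def EL (M : Subgroup G) : Subgroup G := sSup {K : Subgroup G | Comp K M}

omit [Finite G] in
theorem EL_le (M : Subgroup G) : EL M ≤ M := sSup_le fun _ hK => hK.1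

theorem le_normalizer_EL (M : Subgroup G) : M ≤ normalizer (EL M : Set G) := by
  intro m hm
  apply mem_normalizer_of_cj_le
  unfold EL
  rw [cj, map_le_iff_le_comap]
  apply sSup_le
  intro K hK
  rw [← map_le_iff_le_comap]
  exact le_sSup (comp_cj hK hm)

omit [Finite G] in
theorem map_layer (M : Subgroup G) : (Cfsg.layer M).map M.subtype = EL M := by
  apply le_antisymm
  · rw [map_le_iff_le_comap, H11.Components.layer_le_iff]
    intro K hK
    rw [← map_le_iff_le_comap]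
    apply le_sSup
    have h1 : K.map M.subtype ≤ M := map_subtype_le _
    show Comp _ _
    rw [comp_iff h1]
    have : (K.map M.subtype).subgroupOf M = K := by
      unfold subgroupOf
      exact comap_map_eq_self_of_injective M.subtype_injective K
    rw [this]; exact hK
  · apply sSup_le
    intro K hK
    rw [← map_subtype_subgroupOf hK.1]
    exact map_mono (H11.Components.le_layer ((comp_iff hK.1).mp hK))

/-- primitive pairs -/
def PP (M₁ M₂ : Subgroup G) : Prop :=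
  ∀ A : Subgroup G, A ≠ ⊥ → A ≤ M₁ ⊓ M₂ →
    (M₁ ≤ normalizer (A : Set G) → M₂ ⊓ normalizer (A : Set G) = M₁ ⊓ M₂) ∧
    (M₂ ≤ normalizer (A : Set G) → M₁ ⊓ normalizer (A : Set G) = M₁ ⊓ M₂)

omit [Finite G] in
theorem PP.symm {M₁ M₂ : Subgroup G} (h : PP M₁ M₂) : PP M₂ M₁ := by
  intro A h0 hA
  rw [inf_comm M₂ M₁] at hA ⊢
  exact ⟨(h A h0 hA).2, (h A h0 hA).1⟩

omit [Finite G] in
theorem PP.not_both {M₁ M₂ : Subgroup G} (h : PP M₁ M₂) (hne : M₁ ≠ M₂) {A : Subgroup G}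
    (h0 : A ≠ ⊥) (hA : A ≤ M₁ ⊓ M₂) (h1 : M₁ ≤ normalizer (A : Set G))
    (h2 : M₂ ≤ normalizer (A : Set G)) : False := by
  have h3 := (h A h0 hA).1 h1
  have h4 := (h A h0 hA).2 h2
  rw [inf_eq_left.mpr h2] at h3
  rw [inf_eq_left.mpr h1] at h4
  exact hne (h4.trans h3.symm)

theorem EL_eq_bot {M₁ M₂ : Subgroup G} (hne : M₁ ≠ M₂) (hP : PP M₁ M₂)
    (h₁ : FS M₁ ≤ M₂) (h₂ : FS M₂ ≤ M₁) : EL M₁ = ⊥ := by
  have h : EL M₁ = EL M₂ := by
    unfold EL
    congr 1
    ext K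
    exact ⟨fun h => comp_of_comp h₁ h₂ h, fun h => comp_of_comp h₂ h₁ h⟩
  by_contra h0
  refine hP.not_both hne h0 (le_inf (EL_le _) ?_) (le_normalizer_EL _) ?_
  · rw [h]; exact EL_le _
  · rw [h]; exact le_normalizer_EL _

/-- `O_p(M)` inside `G` -/
noncomputable def Op (p : ℕ) (M : Subgroup G) : Subgroup G := (Cfsg.pCore p M).map M.subtype

/-- the `p'`-part of `F(M)` inside `G` -/
noncomputable def Oq (p : ℕ) (M : Subgroup G) : Subgroup G :=
  (Cfsg.fittingSubgroup M ⊓ Cfsg.pPrimeCore p M).map M.subtype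

variable {p : ℕ} [hp : Fact p.Prime]

omit [Finite G] hp in
theorem Op_le (M : Subgroup G) : Op p M ≤ M := map_subtype_le _

omit [Finite G] hp in
theorem Oq_le (M : Subgroup G) : Oq p M ≤ M := map_subtype_le _

omit [Finite G] hp in
theorem le_normalizer_Op (M : Subgroup G) : M ≤ normalizer (Op p M : Set G) :=
  le_normalizer_map_of_normal (H1.Nilp.pCore_normal p)

omit [Finite G] hp in
theorem le_normalizer_Oq (M : Subgroup G) : M ≤ normalizer (Oq p M : Set G) := by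
  have h1 : (Cfsg.fittingSubgroup M).Normal := H1.Nilp.fitting_normal
  have h2 : (Cfsg.pPrimeCore p M).Normal := H1.Nilp.pPrimeCore_normal p
  exact le_normalizer_map_of_normal inferInstance

theorem isPGroup_Op (M : Subgroup G) : IsPGroup p (Op p M) := (H1.Nilp.pCore_isPGroup p).map _

omit hp in
theorem card_Oq (M : Subgroup G) : (Nat.card (Oq p M)).Coprime p := by
  unfold Oq
  rw [card_map_of_injective M.subtype_injective]
  exact Nat.Coprime.coprime_dvd_left (card_dvd_of_le inf_le_right) (H1.Nilp.pPrimeCore_coprime p)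

theorem fitting_eq_sup {H : Type*} [Group H] [Finite H] :
    Cfsg.fittingSubgroup H = Cfsg.pCore p H ⊔ (Cfsg.fittingSubgroup H ⊓ Cfsg.pPrimeCore p H) := by
  apply le_antisymm
  · intro x hx
    have h2 : (Cfsg.pPrimeCore p H).Normal := H1.Nilp.pPrimeCore_normal p
    have h3 : (Cfsg.pCore p H).Normal := H1.Nilp.pCore_normal p
    obtain ⟨a, ha, b, hb, hab⟩ := Subgroup.mem_sup_of_normal_left.mp (H1.Nilp.fitting_le_sup (G := H) p hx)
    have ha' := H1.Nilp.pCore_le_fitting (G := H) p ha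
    rw [← hab]
    refine mul_mem_sup ha (mem_inf.mpr ⟨?_, hb⟩)
    have h4 := mul_mem (inv_mem ha') hx
    rwa [← hab, inv_mul_cancel_left] at h4
  · exact sup_le (H1.Nilp.pCore_le_fitting p) inf_le_left

theorem FS_eq_of_EL {M : Subgroup G} (h : EL M = ⊥) : FS M = Op p M ⊔ Oq p M := by
  have h1 : Cfsg.layer M = ⊥ := by
    rw [← map_layer, map_eq_bot_iff_of_injective _ M.subtype_injective] at h
    exact h
  have h2 : Cfsg.generalizedFittingSubgroup M =
      Cfsg.pCore p M ⊔ (Cfsg.fittingSubgroup M ⊓ Cfsg.pPrimeCore p M) := by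
    rw [Cfsg.generalizedFittingSubgroup, h1, bot_sup_eq]
    exact fitting_eq_sup
  unfold FS Op Oq
  rw [h2, Subgroup.map_sup]

variable {M₁ M₂ : Subgroup G}

theorem comm_eq_one_of_coprime {A B : Subgroup G} (hAB : A ≤ normalizer (B : Set G))
    (hBA : B ≤ normalizer (A : Set G)) (hc : (Nat.card A).Coprime (Nat.card B)) {a b : G}
    (ha : a ∈ A) (hb : b ∈ B) : a * b = b * a := by
  have h1 : a * b * a⁻¹ * b⁻¹ ∈ A ⊓ B := by
    refine mem_inf.mpr ⟨?_, ?_⟩
    · have : a * b * a⁻¹ * b⁻¹ = a * (b * a⁻¹ * b⁻¹) := by group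
      rw [this]
      exact mul_mem ha ((mem_normalizer_iff.mp (hBA hb) _).mp (inv_mem ha))
    · exact mul_mem ((mem_normalizer_iff.mp (hAB ha) _).mp hb) (inv_mem hb)
  rw [H22.Basic.inf_eq_bot_of_coprime hc, mem_bot] at h1
  calc a * b = (a * b * a⁻¹ * b⁻¹) * b * a := by group
    _ = b * a := by rw [h1, one_mul]

theorem coprime_of_isPGroup {A B : Subgroup G} (hA : IsPGroup p A) (hB : (Nat.card B).Coprime p) :
    (Nat.card A).Coprime (Nat.card B) := by
  obtain ⟨n, hn⟩ := IsPGroup.iff_card.mp hA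
  rw [hn]; exact (Nat.Coprime.pow_right n hB).symm

/-- the element computation: `b` a `p'`-element of `C_{M₁}(P₁)` centralizes `P₂` -/
theorem key_comm (hE₁ : EL M₁ = ⊥)
    (hQ₂ : Op p M₂ ≤ M₁)
    (hPQ : ∀ x ∈ Op p M₂, ∀ y ∈ Oq p M₁, x * y = y * x) {b x : G}
    (hbM : b ∈ M₁) (hbP : ∀ a ∈ Op p M₁, b * a = a * b) (hb : (orderOf b).Coprime p)
    (hx : x ∈ Op p M₂) : b * x = x * b := by
  have hF := FS_eq_of_EL (p := p) hE₁
  -- the commutator
  set c := b * x * b⁻¹ * x⁻¹ with hc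
  have hxM : x ∈ M₁ := hQ₂ hx
  have hcM : c ∈ M₁ := mul_mem (mul_mem (mul_mem hbM hxM) (inv_mem hbM)) (inv_mem hxM)
  have hcP : ∀ a ∈ Op p M₁, c * a = a * c := by
    intro a ha
    have h1 : x⁻¹ * a * x ∈ Op p M₁ := by
      have := (mem_normalizer_iff.mp (inv_mem (le_normalizer_Op M₁ hxM)) a).mp ha
      simpa using this
    have h2 : b⁻¹ * (x⁻¹ * a * x) * b = x⁻¹ * a * x := by
      rw [mul_assoc, ← hbP _ h1]; group
    have h2' : (x⁻¹ * a * x) = b * (x⁻¹ * a * x) * b⁻¹ := by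
      rw [hbP _ h1]; group
    have h3 : b * a * b⁻¹ = a := by rw [hbP a ha]; group
    calc c * a = b * x * (b⁻¹ * (x⁻¹ * a * x) * b) * b⁻¹ * x⁻¹ := by rw [hc]; group
      _ = b * x * (x⁻¹ * a * x) * b⁻¹ * x⁻¹ := by rw [h2]
      _ = (b * a * b⁻¹) * (b * x * b⁻¹ * x⁻¹) := by group
      _ = a * c := by rw [h3]
  have hcQ : ∀ a ∈ Oq p M₁, c * a = a * c := by
    intro a ha
    have h1 : b⁻¹ * a * b ∈ Oq p M₁ := by
      have := (mem_normalizer_iff.mp (inv_mem (le_normalizer_Oq M₁ hbM)) a).mp ha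
      simpa using this
    have h2 : x * (b⁻¹ * a * b) * x⁻¹ = b⁻¹ * a * b := by rw [hPQ x hx _ h1]; group
    have h3 : x⁻¹ * a * x = a := by rw [mul_assoc, ← hPQ x hx a ha]; group
    calc c * a = b * x * b⁻¹ * (x⁻¹ * a * x) * x⁻¹ := by rw [hc]; group
      _ = b * x * b⁻¹ * a * x⁻¹ := by rw [h3]
      _ = b * (x * (b⁻¹ * a * b) * x⁻¹) * x * b⁻¹ * x⁻¹ := by group
      _ = b * (b⁻¹ * a * b) * x * b⁻¹ * x⁻¹ := by rw [h2]
      _ = a * c := by rw [hc]; group
  have hcF : c ∈ FS M₁ := by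
    apply centralizer_FS M₁
    refine mem_inf.mpr ⟨hcM, ?_⟩
    rw [hF]
    have : Op p M₁ ⊔ Oq p M₁ ≤ centralizer ({c} : Set G) := by
      apply sup_le
      · intro a ha
        rw [mem_centralizer_iff]
        rintro _ rfl
        exact hcP a ha
      · intro a ha
        rw [mem_centralizer_iff]
        rintro _ rfl
        exact hcQ a ha
    rw [mem_centralizer_iff]
    intro a ha
    exact (mem_centralizer_iff.mp (this ha) c rfl).symm
  rw [hF] at hcF
  obtain ⟨zp, hzp, zq, hzq, hzz⟩ := (mem_sup_of_le_normalizer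
    ((Oq_le M₁).trans (le_normalizer_Op (p := p) M₁))).mp hcF
  have hpq : zp * zq = zq * zp :=
    comm_eq_one_of_coprime ((Op_le M₁).trans (le_normalizer_Oq (p := p) M₁))
      ((Oq_le M₁).trans (le_normalizer_Op (p := p) M₁))
      (coprime_of_isPGroup (isPGroup_Op M₁) (card_Oq M₁)) hzp hzq
  have hxq : x * zq = zq * x := hPQ x hx zq hzq
  have hconj : b * x * b⁻¹ = (zp * x) * zq := by
    calc b * x * b⁻¹ = c * x := by rw [hc]; group
      _ = zp * zq * x := by rw [hzz]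
      _ = (zp * x) * zq := by rw [mul_assoc, ← hxq, mul_assoc]
  have hPP : IsPGroup p (Op p M₁ ⊔ Op p M₂ : Subgroup G) :=
    IsPGroup.to_sup_of_normal_left' (isPGroup_Op M₁) (isPGroup_Op M₂)
      (hQ₂.trans (le_normalizer_Op M₁))
  have hzpx : zp * x ∈ Op p M₁ ⊔ Op p M₂ := mul_mem_sup hzp hx
  obtain ⟨n, hn⟩ := hPP ⟨zp * x, hzpx⟩
  obtain ⟨m, hm⟩ := isPGroup_Op (p := p) M₂ ⟨x, hx⟩
  have hn' : (zp * x) ^ p ^ n = 1 := congrArg Subtype.val hn
  have hm' : x ^ p ^ m = 1 := congrArg Subtype.val hm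
  have hzq1 : zq = 1 := by
    have h1 : (b * x * b⁻¹) ^ (p ^ (n + m)) = 1 := by
      rw [conj_pow, pow_add, mul_comm (p ^ n), pow_mul, hm', one_pow]; group
    have h2 : (zp * x) ^ (p ^ (n + m)) = 1 := by
      rw [pow_add, pow_mul, hn', one_pow]
    have hcomm : Commute (zp * x) zq := by
      show zp * x * zq = zq * (zp * x)
      rw [mul_assoc, hxq, ← mul_assoc, hpq, mul_assoc]
    rw [hconj, hcomm.mul_pow, h2, one_mul] at h1
    have h3 : orderOf zq ∣ p ^ (n + m) := orderOf_dvd_of_pow_eq_one h1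
    have h4 : (orderOf zq).Coprime p :=
      Nat.Coprime.coprime_dvd_left (Subgroup.orderOf_dvd_natCard _ hzq) (card_Oq M₁)
    rw [← orderOf_eq_one_iff]
    exact Nat.Coprime.eq_one_of_dvd (h4.pow_right _) h3
  rw [hzq1, mul_one] at hzz
  have hcP' : c ∈ Op p M₁ := by rw [← hzz]; exact hzp
  have hbc : b * c = c * b := hbP c hcP'
  have hit : ∀ k : ℕ, b ^ k * x * (b ^ k)⁻¹ = c ^ k * x := by
    intro k
    induction k with
    | zero => simp
    | succ k ih =>
      have h1 : b * c ^ k * b⁻¹ = c ^ k := by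
        have : Commute b (c ^ k) := (show Commute b c from hbc).pow_right k
        rw [this.eq]; group
      calc b ^ (k + 1) * x * (b ^ (k + 1))⁻¹ = b * (b ^ k * x * (b ^ k)⁻¹) * b⁻¹ := by
            rw [pow_succ' b k]; group
        _ = b * (c ^ k * x) * b⁻¹ := by rw [ih]
        _ = (b * c ^ k * b⁻¹) * (b * x * b⁻¹ * x⁻¹) * x := by group
        _ = c ^ k * c * x := by rw [h1]
        _ = c ^ (k + 1) * x := by rw [pow_succ]
  have h5 := hit (orderOf b)
  rw [pow_orderOf_eq_one] at h5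
  have h6 : c ^ orderOf b = 1 := by
    have : c ^ orderOf b * x = x := by rw [← h5]; group
    exact mul_eq_right.mp this
  obtain ⟨l, hl⟩ := isPGroup_Op (p := p) M₁ ⟨c, hcP'⟩
  have hl' : c ^ p ^ l = 1 := congrArg Subtype.val hl
  have h7 : c = 1 := by
    rw [← orderOf_eq_one_iff]
    have h8 : orderOf c ∣ orderOf b := orderOf_dvd_of_pow_eq_one h6
    have h9 : orderOf c ∣ p ^ l := orderOf_dvd_of_pow_eq_one hl'
    exact Nat.Coprime.eq_one_of_dvd ((Nat.Coprime.coprime_dvd_left h8 hb).pow_right l) h9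
  have h8 : b * x * b⁻¹ * x⁻¹ = 1 := h7
  calc b * x = (b * x * b⁻¹ * x⁻¹) * x * b := by group
    _ = x * b := by rw [h8, one_mul]

/-- `C_{M₁}(P₁)` `p'`-elements generate a subgroup -/
noncomputable def LL (p : ℕ) (M : Subgroup G) : Subgroup G :=
  closure {b : G | b ∈ M ∧ (∀ a ∈ Op p M, b * a = a * b) ∧ (orderOf b).Coprime p}

omit [Finite G] hp in
theorem LL_le (M : Subgroup G) : LL p M ≤ M := by
  unfold LL
  rw [closure_le]
  exact fun b hb => hb.1

theorem le_normalizer_LL (M : Subgroup G) : M ≤ normalizer (LL p M : Set G) := by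
  intro m hm
  apply mem_normalizer_of_cj_le
  unfold LL
  rw [cj, MonoidHom.map_closure, closure_le]
  rintro _ ⟨b, ⟨hb1, hb2, hb3⟩, rfl⟩
  apply Subgroup.subset_closure
  refine ⟨?_, ?_, ?_⟩
  · exact mul_mem (mul_mem hm hb1) (inv_mem hm)
  · intro a ha
    have h1 : m⁻¹ * a * m ∈ Op p M := by
      have := (mem_normalizer_iff.mp (inv_mem (le_normalizer_Op M hm)) a).mp ha
      simpa using this
    show m * b * m⁻¹ * a = a * (m * b * m⁻¹)
    calc m * b * m⁻¹ * a = m * (b * (m⁻¹ * a * m)) * m⁻¹ := by group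
      _ = m * ((m⁻¹ * a * m) * b) * m⁻¹ := by rw [hb2 _ h1]
      _ = a * (m * b * m⁻¹) := by group
  · have : orderOf ((MulAut.conj m).toMonoidHom b) = orderOf b := (MulAut.conj m).orderOf_eq b
    rw [this]; exact hb3

theorem Oq_le_LL (M : Subgroup G) : Oq p M ≤ LL p M := by
  intro x hx
  apply Subgroup.subset_closure
  refine ⟨Oq_le M hx, fun a ha => ?_, Nat.Coprime.coprime_dvd_left (Subgroup.orderOf_dvd_natCard _ hx) (card_Oq M)⟩
  exact (comm_eq_one_of_coprime ((Op_le M).trans (le_normalizer_Oq (p := p) M))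
      ((Oq_le M).trans (le_normalizer_Op (p := p) M))
      (coprime_of_isPGroup (isPGroup_Op M) (card_Oq M)) ha hx).symm

theorem LL_le_LL (hP : PP M₁ M₂) (hE₁ : EL M₁ = ⊥)
    (hQ₂ : Op p M₂ ≤ M₁) (hP₂ : Op p M₂ ≠ ⊥)
    (hPQ : ∀ x ∈ Op p M₂, ∀ y ∈ Oq p M₁, x * y = y * x) : LL p M₁ ≤ LL p M₂ := by
  unfold LL
  rw [closure_le]
  rintro b ⟨hb1, hb2, hb3⟩
  apply Subgroup.subset_closure
  have h1 : ∀ x ∈ Op p M₂, b * x = x * b := fun x hx => key_comm hE₁ hQ₂ hPQ hb1 hb2 hb3 hx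
  refine ⟨?_, h1, hb3⟩
  have h2 := (hP (Op p M₂) hP₂ (le_inf hQ₂ (Op_le _))).2 (le_normalizer_Op M₂)
  have h3 : b ∈ M₁ ⊓ normalizer (Op p M₂ : Set G) := by
    refine mem_inf.mpr ⟨hb1, centralizer_le_normalizer _ ?_⟩
    rw [mem_centralizer_iff]
    exact fun x hx => (h1 x hx).symm
  rw [h2] at h3
  exact (mem_inf.mp h3).2

theorem Op_le_FS (M : Subgroup G) : Op p M ≤ FS M :=
  map_mono ((H1.Nilp.pCore_le_fitting p).trans H11.FStar.fitting_le_generalizedFitting)

omit hp in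
theorem Oq_le_FS (M : Subgroup G) : Oq p M ≤ FS M :=
  map_mono (inf_le_left.trans H11.FStar.fitting_le_generalizedFitting)

theorem comm_PQ (h₁ : FS M₁ ≤ M₂) (h₂ : FS M₂ ≤ M₁) : ∀ x ∈ Op p M₂, ∀ y ∈ Oq p M₁, x * y = y * x := by
  intro x hx y hy
  have hP2 : Op p M₂ ≤ M₁ := (Op_le_FS M₂).trans h₂
  have hQ1 : Oq p M₁ ≤ M₂ := (Oq_le_FS M₁).trans h₁
  exact comm_eq_one_of_coprime (hP2.trans (le_normalizer_Oq (p := p) M₁))
    (hQ1.trans (le_normalizer_Op (p := p) M₂))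
    (coprime_of_isPGroup (isPGroup_Op M₂) (card_Oq M₁)) hx hy

theorem Op_ne_bot (hE₁ : EL M₁ = ⊥) (h₁ : FS M₁ ≤ M₂) (h₂ : FS M₂ ≤ M₁)
    (h : Op p M₂ ≠ ⊥) : Op p M₁ ≠ ⊥ := by
  intro h0
  have hF := FS_eq_of_EL (p := p) hE₁
  rw [h0, bot_sup_eq] at hF
  have h3 : Op p M₂ ≤ Oq p M₁ := by
    rw [← hF]
    refine le_trans (le_inf ((Op_le_FS M₂).trans h₂) ?_) (centralizer_FS M₁)
    rw [hF]
    intro x hx
    rw [mem_centralizer_iff]
    exact fun y hy => (comm_PQ h₁ h₂ x hx y hy).symm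
  apply h
  rw [eq_bot_iff, ← H22.Basic.inf_eq_bot_of_coprime
    (coprime_of_isPGroup (isPGroup_Op (p := p) M₂) (card_Oq (p := p) M₁))]
  exact le_inf le_rfl h3

theorem Oq_eq_bot (hne : M₁ ≠ M₂) (hP : PP M₁ M₂) (h₁ : FS M₁ ≤ M₂) (h₂ : FS M₂ ≤ M₁)
    (hP₁ : Op p M₁ ≠ ⊥) (hP₂ : Op p M₂ ≠ ⊥) : Oq p M₁ = ⊥ := by
  by_contra h0
  have hE₁ := EL_eq_bot hne hP h₁ h₂
  have hE₂ := EL_eq_bot hne.symm hP.symm h₂ h₁
  have h3 : LL p M₁ = LL p M₂ := le_antisymm
    (LL_le_LL hP hE₁ ((Op_le_FS M₂).trans h₂) hP₂ (comm_PQ h₁ h₂))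
    (LL_le_LL hP.symm hE₂ ((Op_le_FS M₁).trans h₁) hP₁ (comm_PQ h₂ h₁))
  refine hP.not_both hne (A := LL p M₁) ?_ (le_inf (LL_le _) ?_) (le_normalizer_LL _) ?_
  · intro h; apply h0; rw [eq_bot_iff, ← h]; exact Oq_le_LL _
  · rw [h3]; exact LL_le _
  · rw [h3]; exact le_normalizer_LL _

end Cfsg.Agent.H22.PrimPair
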