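import Cfsg.Statements.S3752
import Cfsg.Agent.H22_PrimPair

set_option autoImplicit false
open Cfsg

namespace Cfsg.Agent.S3752

open Subgroup H22.Basic H22.PrimPair

/-- Bender's Theorem on primitive pairs. Two distinct subgroups M₁, M₂ of G form a primitive pair when, for {i, j} = {1, 2}, every non-trivial normal subgroup A of M_i contained in M₁ ∩ M₂ satisfies N_{M_j}(A) = M₁ ∩ M₂; the pair has characteristic p when moreover C_{M_i}(O_p(M_i)) ≤ O_p(M_i) for both i and O_p(M₁)O_p(M₂) ≤ M₁ ∩ M₂. If (M₁, M₂) is a primitive pair of the finite group G with F*(M₁) ≤ M₂ and F*(M₂) ≤ M₁, then for some prime p the pair has characteristic p. -/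
theorem result {G : Type*} [Group G] [Finite G] (M₁ M₂ : Subgroup G) (hne : M₁ ≠ M₂) (hP : ∀ A : Subgroup G, A ≠ ⊥ → A ≤ M₁ ⊓ M₂ → (M₁ ≤ Subgroup.normalizer (A : Set G) → M₂ ⊓ Subgroup.normalizer (A : Set G) = M₁ ⊓ M₂) ∧ (M₂ ≤ Subgroup.normalizer (A : Set G) → M₁ ⊓ Subgroup.normalizer (A : Set G) = M₁ ⊓ M₂)) (h₁ : (Cfsg.generalizedFittingSubgroup ↥M₁).map M₁.subtype ≤ M₂) (h₂ : (Cfsg.generalizedFittingSubgroup ↥M₂).map M₂.subtype ≤ M₁) : ∃ p : ℕ, p.Prime ∧ Subgroup.centralizer (Cfsg.pCore p ↥M₁ : Set ↥M₁) ≤ Cfsg.pCore p ↥M₁ ∧ Subgroup.centralizer (Cfsg.pCore p ↥M₂ : Set ↥M₂) ≤ Cfsg.pCore p ↥M₂ ∧ (Cfsg.pCore p ↥M₁).map M₁.subtype ⊔ (Cfsg.pCore p ↥M₂).map M₂.subtype ≤ M₁ ⊓ M₂ := by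
  have hPP : PP M₁ M₂ := hP
  have h₁' : FS M₁ ≤ M₂ := h₁
  have h₂' : FS M₂ ≤ M₁ := h₂
  have hE₁ := EL_eq_bot hne hPP h₁' h₂'
  have hE₂ := EL_eq_bot hne.symm hPP.symm h₂' h₁'
  -- F*(M₁) ≠ 1
  have hF1 : FS M₁ ≠ ⊥ := by
    intro h
    have h3 : M₁ = ⊥ := by
      rw [eq_bot_iff]
      have := centralizer_FS M₁
      rw [h] at this
      refine le_trans (le_inf le_rfl ?_) this
      intro x _
      rw [mem_centralizer_iff]
      intro y hy
      have : y = 1 := hy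
      rw [this]; simp
    have h4 : M₂ = ⊥ := by
      rw [h3, le_bot_iff] at h₂'
      rw [eq_bot_iff]
      have := centralizer_FS M₂
      rw [h₂'] at this
      refine le_trans (le_inf le_rfl ?_) this
      intro x _
      rw [mem_centralizer_iff]
      intro y hy
      have : y = 1 := hy
      rw [this]; simp
    exact hne (h3.trans h4.symm)
  obtain ⟨p, hp, hpd⟩ := Nat.exists_prime_and_dvd (n := Nat.card (FS M₁)) (by
    intro h; exact hF1 (Subgroup.card_eq_one.mp h))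
  have : Fact p.Prime := ⟨hp⟩
  have hOp1 : Op p M₁ ≠ ⊥ := by
    intro h
    have h5 := FS_eq_of_EL (p := p) hE₁
    rw [h, bot_sup_eq] at h5
    rw [h5] at hpd
    have h6 := card_Oq (p := p) M₁
    have h7 := Nat.dvd_gcd hpd (dvd_refl p)
    rw [h6] at h7
    exact hp.one_lt.ne' (Nat.dvd_one.mp h7)
  have hOp2 : Op p M₂ ≠ ⊥ := Op_ne_bot hE₂ h₂' h₁' hOp1
  have hq1 := Oq_eq_bot hne hPP h₁' h₂' hOp1 hOp2
  have hq2 := Oq_eq_bot hne.symm hPP.symm h₂' h₁' hOp2 hOp1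
  have hf1 := FS_eq_of_EL (p := p) hE₁
  have hf2 := FS_eq_of_EL (p := p) hE₂
  rw [hq1, sup_bot_eq] at hf1
  rw [hq2, sup_bot_eq] at hf2
  refine ⟨p, hp, ?_, ?_, ?_⟩
  · rw [centralizer_le_iff]
    have := centralizer_FS M₁
    rwa [hf1] at this
  · rw [centralizer_le_iff]
    have := centralizer_FS M₂
    rwa [hf2] at this
  · have e1 : Op p M₁ ≤ M₂ := hf1 ▸ h₁'
    have e2 : Op p M₂ ≤ M₁ := hf2 ▸ h₂'
    exact sup_le (le_inf (Op_le _) e1) (le_inf e2 (Op_le _))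

end Cfsg.Agent.S3752
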