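import Cfsg.Agent.H22_PrimPair
import Cfsg.Agent.H18_BB1
import Cfsg.Agent.H11_AxB
import Cfsg.Agent.S3752
import Cfsg.Agent.H2_PCons

/-!
# Thompson–Wielandt: pairs of maximal subgroups
-/

set_option autoImplicit false
set_option linter.all false

namespace Cfsg.Agent.H17.TW

open Subgroup Cfsg.Agent.H22.PrimPair
open scoped commutatorElement

variable {G : Type*} [Group G]

/-- `O^p(H)` -/
abbrev pG (p : ℕ) (H : Subgroup G) : Subgroup G := Cfsg.Agent.H18.BB.pGen p H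

/-- the configuration -/
structure Cfg (M₁ M₂ A B X Y : Subgroup G) : Prop where
  n1 : ∀ N : Subgroup G, N ≠ ⊥ → N ≤ M₁ → M₁ ≤ normalizer (N : Set G) → normalizer (N : Set G) ≤ M₁
  n2 : ∀ N : Subgroup G, N ≠ ⊥ → N ≤ M₂ → M₂ ≤ normalizer (N : Set G) → normalizer (N : Set G) ≤ M₂
  hA : A ≤ M₁ ⊓ M₂
  hAn : M₁ ≤ normalizer (A : Set G)
  hB : B ≤ M₁ ⊓ M₂
  hBn : M₂ ≤ normalizer (B : Set G)
  hX : X ≤ A ⊓ B
  hXn : M₁ ≤ normalizer (X : Set G)
  hY : Y ≤ A ⊓ B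
  hYn : M₂ ≤ normalizer (Y : Set G)
  hX0 : X ≠ ⊥
  hY0 : Y ≠ ⊥

variable {M₁ M₂ A B X Y : Subgroup G}

theorem Cfg.symm (h : Cfg M₁ M₂ A B X Y) : Cfg M₂ M₁ B A Y X where
  n1 := h.n2
  n2 := h.n1
  hA := by rw [inf_comm]; exact h.hB
  hAn := h.hBn
  hB := by rw [inf_comm]; exact h.hA
  hBn := h.hAn
  hX := by rw [inf_comm]; exact h.hY
  hXn := h.hYn
  hY := by rw [inf_comm]; exact h.hX
  hYn := h.hXn
  hX0 := h.hY0
  hY0 := h.hX0

variable [Finite G]

theorem le_Op_of_norm {p : ℕ} [Fact p.Prime] {N M : Subgroup G} (hNM : N ≤ M) (hn : M ≤ normalizer (N : Set G))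
    (hp : IsPGroup p N) : N ≤ Op p M := by
  have h1 : (N.subgroupOf M).Normal := (normal_subgroupOf_iff_le_normalizer hNM).mpr hn
  have h2 : IsPGroup p (N.subgroupOf M) := hp.of_equiv (subgroupOfEquivOfLe hNM).symm
  have h3 := map_mono (f := M.subtype) (H1.Nilp.le_pCore h1 h2)
  rwa [map_subgroupOf_eq_of_le hNM] at h3

theorem le_Op_of_sub {p : ℕ} [Fact p.Prime] {N M : Subgroup G} (hNM : N ≤ M) (hn : (N.subgroupOf M).IsSubnormal)
    (hp : IsPGroup p N) : N ≤ Op p M := by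
  have h2 : IsPGroup p (N.subgroupOf M) := hp.of_equiv (subgroupOfEquivOfLe hNM).symm
  have h3 := map_mono (f := M.subtype) (H11.Cores.le_pCore_of_isSubnormal (p := p) hn h2)
  rwa [map_subgroupOf_eq_of_le hNM] at h3

theorem Cfg.X_sub (h : Cfg M₁ M₂ A B X Y) : (X.subgroupOf M₂).IsSubnormal := by
  have h1 : X ≤ B := h.hX.trans inf_le_right
  have h2 : B ≤ M₂ := h.hB.trans inf_le_right
  refine H1.Subn.subnormal_subgroupOf_trans h1 h2 ?_ ?_
  · exact subnormal_of_le_normalizer h1 ((h.hB.trans inf_le_left).trans h.hXn)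
  · exact subnormal_of_le_normalizer h2 h.hBn

theorem Cfg.X_le_M₂ (h : Cfg M₁ M₂ A B X Y) : X ≤ M₂ := (h.hX.trans inf_le_left).trans (h.hA.trans inf_le_right)
theorem Cfg.X_le_M₁ (h : Cfg M₁ M₂ A B X Y) : X ≤ M₁ := (h.hX.trans inf_le_left).trans (h.hA.trans inf_le_left)
theorem Cfg.X_le_B (h : Cfg M₁ M₂ A B X Y) : X ≤ B := h.hX.trans inf_le_right

theorem Cfg.cent_X (h : Cfg M₁ M₂ A B X Y) : centralizer (X : Set G) ≤ M₁ :=
  (centralizer_le_normalizer _).trans (h.n1 X h.hX0 h.X_le_M₁ h.hXn)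

/-- (X3) -/
theorem Cfg.X3 (h : Cfg M₁ M₂ A B X Y) : EL M₂ ≤ M₁ := by
  apply sSup_le
  intro K hK
  rcases (show Comp K M₂ from hK).le_or h.X_le_M₂ h.X_sub with h1 | h1
  · exact h1.trans h.X_le_M₁
  · rw [commutator_eq_bot_iff_le_centralizer] at h1
    exact h1.trans h.cent_X

/-- (X1) -/
theorem Cfg.X1 (h : Cfg M₁ M₂ A B X Y) (r : ℕ) [hr : Fact r.Prime] : Op r M₂ ≤ M₁ ∨ IsPGroup r X := by
  by_contra hcon
  push Not at hcon
  obtain ⟨h1, h2⟩ := hcon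
  apply h1
  set T := Op r M₂ ⊓ B with hT
  have hTM : M₂ ≤ normalizer (T : Set G) := Cfsg.Agent.H22.Basic.le_normalizer_inf (le_normalizer_Op M₂) h.hBn
  have hTM2 : T ≤ M₂ := inf_le_left.trans (Op_le _)
  have hTM1 : T ≤ M₁ := inf_le_right.trans (h.hB.trans inf_le_left)
  have hXT : X ≤ normalizer (T : Set G) := h.X_le_M₂.trans hTM
  have hTX : T ≤ normalizer (X : Set G) := hTM1.trans h.hXn
  have hTr : IsPGroup r T := (isPGroup_Op M₂).to_le inf_le_left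
  have hcomm : ⁅X, Op r M₂⁆ ≤ T := by
    refine le_inf ?_ ?_
    · rw [commutator_comm]
      exact Cfsg.Agent.H22.Basic.commutator_le_left (h.X_le_M₂.trans (le_normalizer_Op M₂))
    · refine (commutator_mono h.X_le_B le_rfl).trans ?_
      exact Cfsg.Agent.H22.Basic.commutator_le_left ((Op_le _).trans h.hBn)
  -- P₂ normalizes X ⊔ T
  have hPXT : Op r M₂ ≤ normalizer ((X ⊔ T : Subgroup G) : Set G) := by
    rw [Cfsg.Agent.H18.KS.le_normalizer_iff_conj]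
    intro g hg k hk
    obtain ⟨x, hx, t, ht, rfl⟩ := Cfsg.Agent.H18.KS.mem_sup_of_norm hTX hk
    have h3 : g * (x * t) * g⁻¹ = (⁅g, x⁆ * x) * (g * t * g⁻¹) := by
      rw [commutatorElement_def]; group
    rw [h3]
    refine mul_mem (mul_mem (mem_sup_right ?_) (mem_sup_left hx)) (mem_sup_right ?_)
    · apply hcomm
      rw [commutator_comm]
      exact commutator_mem_commutator hg hx
    · exact (Cfsg.Agent.H18.KS.le_normalizer_iff_conj.mp ((Op_le M₂).trans hTM)) g hg t ht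
  have e1 : pG r (X ⊔ T) = pG r X := by
    apply le_antisymm
    · unfold pG Cfsg.Agent.H18.BB.pGen
      apply Subgroup.closure_mono
      rintro g ⟨hg, ho⟩
      exact ⟨Cfsg.Agent.H18.BB.mem_left hTX (Cfsg.Agent.H18.BB.pow_mem_of_pgroup hTr) hg ho, ho⟩
    · exact Cfsg.Agent.H18.BB.pGen_mono le_sup_left
  have h3 : Op r M₂ ≤ normalizer ((pG r X : Subgroup G) : Set G) := by
    rw [← e1]
    exact hPXT.trans (Cfsg.Agent.H18.BB.normalizer_le_normalizer_pGen r _)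
  have h4 : M₁ ≤ normalizer ((pG r X : Subgroup G) : Set G) :=
    h.hXn.trans (Cfsg.Agent.H18.BB.normalizer_le_normalizer_pGen r _)
  by_cases h5 : pG r X = ⊥
  · exfalso
    apply h2
    apply Cfsg.Agent.H2.PCons.isPGroup_of_forall_coprime
    intro x hx ho
    have : x ∈ pG r X := Cfsg.Agent.H18.BB.mem_pGen hx ho
    rw [h5] at this
    exact this
  · exact h3.trans (h.n1 _ h5 ((Cfsg.Agent.H18.BB.pGen_le r X).trans h.X_le_M₁) h4)

theorem comm_Op_of_ne {r s : ℕ} [Fact r.Prime] [Fact s.Prime] (hne : r ≠ s) (M : Subgroup G) {x y : G}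
    (hx : x ∈ Op r M) (hy : y ∈ Op s M) : x * y = y * x :=
  comm_eq_one_of_coprime ((Op_le M).trans (le_normalizer_Op M)) ((Op_le M).trans (le_normalizer_Op M))
    (coprime_of_isPGroup (isPGroup_Op M) (by
      obtain ⟨n, hn⟩ := IsPGroup.iff_card.mp (isPGroup_Op (p := s) M)
      rw [hn]
      exact Nat.Coprime.pow_left n ((Nat.coprime_primes (Fact.out (p := s.Prime)) (Fact.out (p := r.Prime))).mpr hne.symm))) hx hy

/-- (X2) -/
theorem Cfg.X2 (h : Cfg M₁ M₂ A B X Y) {r : ℕ} [hr : Fact r.Prime] (hXr : IsPGroup r X) {s : ℕ} [hs : Fact s.Prime]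
    (hne : r ≠ s) : Op s M₂ ≤ M₁ := by
  have h1 : X ≤ Op r M₂ := le_Op_of_sub h.X_le_M₂ h.X_sub hXr
  refine le_trans ?_ h.cent_X
  intro y hy
  rw [mem_centralizer_iff]
  intro x hx
  exact comm_Op_of_ne hne M₂ (h1 hx) hy

theorem fit_le_of {M N : Subgroup G} (h : ∀ r : ℕ, r.Prime → Op r M ≤ N) :
    (Cfsg.fittingSubgroup M).map M.subtype ≤ N := by
  rw [H1.Nilp.fitting_eq_iSup, Subgroup.map_iSup]
  apply iSup_le
  intro p
  exact h p p.2

theorem FS_le_of {M N : Subgroup G} (hE : EL M ≤ N) (h : ∀ r : ℕ, r.Prime → Op r M ≤ N) : FS M ≤ N := by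
  unfold FS Cfsg.generalizedFittingSubgroup
  rw [Subgroup.map_sup]
  refine sup_le ?_ (fit_le_of h)
  rw [map_layer]; exact hE

/-- either `F*(M₂) ≤ M₁`, or some `O_r(M₂) ≰ M₁` and `X` is an `r`-group -/
theorem Cfg.dich (h : Cfg M₁ M₂ A B X Y) : FS M₂ ≤ M₁ ∨ ∃ r : ℕ, r.Prime ∧ ¬ Op r M₂ ≤ M₁ ∧ IsPGroup r X := by
  by_cases h1 : ∀ r : ℕ, r.Prime → Op r M₂ ≤ M₁
  · exact Or.inl (FS_le_of h.X3 h1)
  · right
    push Not at h1
    obtain ⟨r, hr, h2⟩ := h1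
    haveI : Fact r.Prime := ⟨hr⟩
    exact ⟨r, hr, h2, (h.X1 r).resolve_left h2⟩

/-- elements normalizing two trivially intersecting ... -/
theorem comm_of_inf {U V : Subgroup G} (hU : U ≤ normalizer (V : Set G)) (hV : V ≤ normalizer (U : Set G))
    (h : U ⊓ V = ⊥) {u v : G} (hu : u ∈ U) (hv : v ∈ V) : Commute u v := by
  have h1 : ⁅u, v⁆ ∈ U ⊓ V := by
    refine mem_inf.mpr ⟨?_, ?_⟩
    · rw [commutatorElement_def]
      have : u * v * u⁻¹ * v⁻¹ = u * (v * u⁻¹ * v⁻¹) := by group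
      rw [this]
      exact mul_mem hu ((Cfsg.Agent.H18.KS.le_normalizer_iff_conj.mp hV) v hv _ (inv_mem hu))
    · rw [commutatorElement_def]
      exact mul_mem ((Cfsg.Agent.H18.KS.le_normalizer_iff_conj.mp hU) u hu _ hv) (inv_mem hv)
  rw [h, mem_bot] at h1
  exact commutatorElement_eq_one_iff_commute.mp h1

theorem inf_bot_of_pq {U V : Subgroup G} {r s : ℕ} [Fact r.Prime] [Fact s.Prime] (hne : r ≠ s) (hU : IsPGroup r U)
    (hV : IsPGroup s V) : U ⊓ V = ⊥ := by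
  have h := IsPGroup.disjoint_of_ne (H₁ := U) (H₂ := V) r s hne hU hV
  exact disjoint_iff.mp h

theorem orderOf_coprime_of_mem {U : Subgroup G} {r s : ℕ} [Fact r.Prime] [Fact s.Prime] (hne : r ≠ s) (hU : IsPGroup r U) {u : G}
    (hu : u ∈ U) : (orderOf u).Coprime s := by
  obtain ⟨n, hn⟩ := IsPGroup.iff_card.mp hU
  have h1 : orderOf u ∣ r ^ n := by rw [← hn]; exact Subgroup.orderOf_dvd_natCard _ hu
  exact Nat.Coprime.coprime_dvd_left h1 (Nat.Coprime.pow_left n ((Nat.coprime_primes (Fact.out (p := r.Prime)) (Fact.out (p := s.Prime))).mpr hne))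

/-- Case 2 (a): `O_q(M₁) ≤ M₂` -/
theorem Cfg.C2a (h : Cfg M₁ M₂ A B X Y) {r : ℕ} [hr : Fact r.Prime] (hXr : IsPGroup r X) {q : ℕ} [hq : Fact q.Prime]
    (hne : r ≠ q) : Op q M₁ ≤ M₂ := by
  by_contra hcon
  have hYq : IsPGroup q Y := (h.symm.X1 q).resolve_left hcon
  have hY2 : Y ≤ Op q M₂ := le_Op_of_norm h.symm.X_le_M₁ h.hYn hYq
  set R := Op r M₂ ⊓ B with hR
  have hRM2 : R ≤ M₂ := inf_le_left.trans (Op_le _)
  have hRn : M₂ ≤ normalizer (R : Set G) := Cfsg.Agent.H22.Basic.le_normalizer_inf (le_normalizer_Op M₂) h.hBn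
  have hRM1 : R ≤ M₁ := inf_le_right.trans (h.hB.trans inf_le_left)
  have hRr : IsPGroup r R := (isPGroup_Op M₂).to_le inf_le_left
  have hXR : X ≤ R := le_inf (le_Op_of_sub h.X_le_M₂ h.X_sub hXr) h.X_le_B
  have hR0 : R ≠ ⊥ := fun h0 => h.hX0 (by rw [eq_bot_iff, ← h0]; exact hXR)
  apply hcon
  have hcR : centralizer (R : Set G) ≤ M₂ := (centralizer_le_normalizer _).trans (h.n2 R hR0 hRM2 hRn)
  refine le_trans ?_ hcR
  intro x hx
  rw [mem_centralizer_iff]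
  intro a ha
  have hSR : (Op q M₁ ⊓ M₂) ⊓ R = ⊥ := by
    rw [eq_bot_iff, ← inf_bot_of_pq (hne) (hRr) (isPGroup_Op (p := q) M₁)]
    exact le_inf inf_le_right (inf_le_left.trans inf_le_left)
  refine Cfsg.Agent.H11.AxB.commute_of_AxB q a (orderOf_coprime_of_mem hne hRr ha) Y hYq ?_ (Op q M₁) (isPGroup_Op M₁)
    (le_normalizer_Op M₁ (hRM1 ha)) (h.symm.X_le_M₂.trans (le_normalizer_Op M₁)) ?_ x hx
  · intro y hy
    exact comm_Op_of_ne hne M₂ (inf_le_left (α := Subgroup G) ha) (hY2 hy)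
  · intro z hz hzY
    have hz2 : z ∈ M₂ := h.symm.cent_X (by
      rw [mem_centralizer_iff]
      intro y hy
      exact (hzY y hy).eq.symm)
    refine (comm_of_inf (U := Op q M₁ ⊓ M₂) (V := R) (inf_le_right.trans hRn) ?_ hSR (mem_inf.mpr ⟨hz, hz2⟩) ha).symm
    exact Cfsg.Agent.H22.Basic.le_normalizer_inf (hRM1.trans (le_normalizer_Op M₁)) (hRM2.trans Subgroup.le_normalizer)

/-- Case 2 (b): `O_q(M₁) = 1` -/
theorem Cfg.C2b (h : Cfg M₁ M₂ A B X Y) {r : ℕ} [hr : Fact r.Prime] (hXr : IsPGroup r X) (hP₂ : ¬ Op r M₂ ≤ M₁)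
    {q : ℕ} [hq : Fact q.Prime] (hne : r ≠ q) : Op q M₁ = ⊥ := by
  by_contra hQ0
  have hQM2 : Op q M₁ ≤ M₂ := h.C2a hXr hne
  apply hP₂
  have hcQ : centralizer (Op q M₁ : Set G) ≤ M₁ :=
    (centralizer_le_normalizer _).trans (h.n1 _ hQ0 (Op_le _) (le_normalizer_Op M₁))
  refine le_trans ?_ hcQ
  intro x hx
  rw [mem_centralizer_iff]
  intro a ha
  have hX1 : X ≤ Op r M₁ := le_Op_of_norm h.X_le_M₁ h.hXn hXr
  refine Cfsg.Agent.H11.AxB.commute_of_AxB r a (orderOf_coprime_of_mem hne.symm (isPGroup_Op (p := q) M₁) ha) X hXr ?_ (Op r M₂) (isPGroup_Op M₂)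
    (le_normalizer_Op M₂ (hQM2 ha)) (h.X_le_M₂.trans (le_normalizer_Op M₂)) ?_ x hx
  · intro y hy
    exact (comm_Op_of_ne hne M₁ (hX1 hy) ha).symm
  · intro z hz hzX
    have hz1 : z ∈ M₁ := h.cent_X (by
      rw [mem_centralizer_iff]
      intro y hy
      exact (hzX y hy).eq.symm)
    refine (comm_of_inf (U := Op r M₂ ⊓ M₁) (V := Op q M₁) (inf_le_right.trans (le_normalizer_Op M₁)) ?_ ?_
      (mem_inf.mpr ⟨hz, hz1⟩) ha).symm
    · exact Cfsg.Agent.H22.Basic.le_normalizer_inf (hQM2.trans (le_normalizer_Op M₂)) ((Op_le _).trans Subgroup.le_normalizer)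
    · rw [eq_bot_iff, ← inf_bot_of_pq hne (isPGroup_Op (p := r) M₂) (isPGroup_Op (p := q) M₁)]
      exact inf_le_inf_right _ inf_le_left

theorem comp_not_pgroup {K M : Subgroup G} (hK : Comp K M) {r : ℕ} [Fact r.Prime] : ¬ IsPGroup r K := by
  intro hp
  exact H11.Components.IsQuasisimple.not_isNilpotent hK.2.2 hp.isNilpotent

/-- Case 2 (c): `E(M₁) = 1` -/
theorem Cfg.C2c (h : Cfg M₁ M₂ A B X Y) {r : ℕ} [hr : Fact r.Prime] (hXr : IsPGroup r X) (hP₂ : ¬ Op r M₂ ≤ M₁) :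
    EL M₁ = ⊥ := by
  have hEM2 : EL M₁ ≤ M₂ := h.symm.X3
  have hXP : X ≤ Op r M₂ := le_Op_of_sub h.X_le_M₂ h.X_sub hXr
  set D := M₁ ⊓ M₂ with hD
  have hPD : Op r M₂ ⊓ M₁ ≤ D := le_inf inf_le_right (inf_le_left.trans (Op_le _))
  have hEc : EL M₁ ≤ centralizer ((Op r M₂ ⊓ M₁ : Subgroup G) : Set G) := by
    apply sSup_le
    intro K hK
    have hKE : K ≤ EL M₁ := le_sSup hK
    have hK' : Comp K M₁ := hK
    have hKD : Comp K D := hK'.of_le (le_inf hK'.1 (hKE.trans hEM2)) inf_le_left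
    have hsub : ((Op r M₂ ⊓ M₁ : Subgroup G).subgroupOf D).IsSubnormal := by
      apply subnormal_of_le_normalizer hPD
      exact Cfsg.Agent.H22.Basic.le_normalizer_inf (inf_le_right.trans (le_normalizer_Op M₂)) (inf_le_left.trans Subgroup.le_normalizer)
    rcases hKD.le_or hPD hsub with h1 | h1
    · exact absurd ((isPGroup_Op (p := r) M₂).to_le (h1.trans inf_le_left)) (comp_not_pgroup hK')
    · rwa [commutator_eq_bot_iff_le_centralizer] at h1
  have hXPM : X ≤ Op r M₂ ⊓ M₁ := le_inf hXP h.X_le_M₁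
  have key : ∀ a ∈ EL M₁, (orderOf a).Coprime r → ∀ x ∈ Op r M₂, Commute a x := by
    intro a ha ho
    refine Cfsg.Agent.H11.AxB.commute_of_AxB r a ho X hXr ?_ (Op r M₂) (isPGroup_Op M₂)
      (le_normalizer_Op M₂ (hEM2 ha)) (h.X_le_M₂.trans (le_normalizer_Op M₂)) ?_
    · intro y hy
      exact (mem_centralizer_iff.mp (hEc ha) y (hXPM hy)).symm
    · intro z hz hzX
      have hz1 : z ∈ M₁ := h.cent_X (by
        rw [mem_centralizer_iff]
        intro y hy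
        exact (hzX y hy).eq.symm)
      exact (mem_centralizer_iff.mp (hEc ha) z (mem_inf.mpr ⟨hz, hz1⟩)).symm
  set N := pG r (EL M₁) with hN
  have hNE : N ≤ EL M₁ := Cfsg.Agent.H18.BB.pGen_le r _
  have hNn : M₁ ≤ normalizer (N : Set G) := (le_normalizer_EL M₁).trans (Cfsg.Agent.H18.BB.normalizer_le_normalizer_pGen r _)
  by_cases hN0 : N = ⊥
  · -- then EL M₁ is an r-group
    have hEp : IsPGroup r (EL M₁) := by
      apply Cfsg.Agent.H2.PCons.isPGroup_of_forall_coprime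
      intro x hx ho
      have : x ∈ N := Cfsg.Agent.H18.BB.mem_pGen hx ho
      rw [hN0] at this
      exact this
    rw [eq_bot_iff]
    apply sSup_le
    intro K hK
    exact absurd (hEp.to_le (le_sSup hK)) (comp_not_pgroup hK)
  · exfalso
    apply hP₂
    refine le_trans ?_ ((centralizer_le_normalizer _).trans (h.n1 N hN0 (hNE.trans (EL_le _)) hNn))
    intro x hx
    have : N ≤ centralizer ({x} : Set G) := by
      rw [hN]
      unfold pG Cfsg.Agent.H18.BB.pGen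
      rw [closure_le]
      rintro a ⟨ha, ho⟩
      rw [SetLike.mem_coe, mem_centralizer_iff]
      intro y hy
      rw [Set.mem_singleton_iff.mp hy]
      exact (key a ha ho x hx).eq.symm
    rw [mem_centralizer_iff]
    intro a ha
    exact (mem_centralizer_iff.mp (this ha) x rfl).symm

theorem FS_eq_Op {M : Subgroup G} {r : ℕ} [Fact r.Prime] (hE : EL M = ⊥) (h : ∀ q : ℕ, q.Prime → r ≠ q → Op q M = ⊥) :
    FS M = Op r M := by
  apply le_antisymm
  · apply FS_le_of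
    · rw [hE]; exact bot_le
    · intro q hq
      by_cases hrq : r = q
      · subst hrq; exact le_rfl
      · rw [h q hq hrq]; exact bot_le
  · exact Op_le_FS M

theorem bender {M₁ M₂ : Subgroup G} (hne : M₁ ≠ M₂) (hP : PP M₁ M₂) (h₁ : FS M₁ ≤ M₂) (h₂ : FS M₂ ≤ M₁) :
    ∃ p : ℕ, p.Prime ∧ FS M₁ = Op p M₁ := by
  have hE₁ := EL_eq_bot hne hP h₁ h₂
  obtain ⟨p, hp, hc, -, -⟩ := Cfsg.Agent.S3752.result M₁ M₂ hne hP h₁ h₂
  haveI : Fact p.Prime := ⟨hp⟩
  refine ⟨p, hp, FS_eq_Op hE₁ ?_⟩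
  intro q hq hne
  haveI : Fact q.Prime := ⟨hq⟩
  rw [centralizer_le_iff] at hc
  have h1 : Op q M₁ ≤ Op p M₁ := by
    refine le_trans ?_ hc
    intro x hx
    refine mem_inf.mpr ⟨Op_le _ hx, ?_⟩
    rw [mem_centralizer_iff]
    intro y hy
    exact comm_Op_of_ne hne M₁ hy hx
  rw [eq_bot_iff, ← inf_bot_of_pq hne (isPGroup_Op (p := p) M₁) (isPGroup_Op (p := q) M₁)]
  exact le_inf h1 le_rfl

/-- **Thompson–Wielandt** (characteristic part) -/
theorem Cfg.main (h : Cfg M₁ M₂ A B X Y) (hne : M₁ ≠ M₂) :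
    (∃ p : ℕ, p.Prime ∧ FS M₁ = Op p M₁) ∨ (∃ p : ℕ, p.Prime ∧ FS M₂ = Op p M₂) := by
  rcases h.dich with h2 | ⟨r, hr, hP₂, hXr⟩
  · rcases h.symm.dich with h1 | ⟨r, hr, hP₁, hYr⟩
    · left
      refine bender hne ?_ h1 h2
      intro N hN0 hN
      refine ⟨fun hn => ?_, fun hn => ?_⟩
      · have h3 := h.n1 N hN0 (hN.trans inf_le_left) hn
        apply le_antisymm
        · exact le_inf (inf_le_right.trans h3) inf_le_left
        · exact le_inf inf_le_right (inf_le_left.trans hn)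
      · have h3 := h.n2 N hN0 (hN.trans inf_le_right) hn
        apply le_antisymm
        · exact le_inf inf_le_left (inf_le_right.trans h3)
        · exact le_inf inf_le_left (inf_le_right.trans hn)
    · right
      haveI : Fact r.Prime := ⟨hr⟩
      refine ⟨r, hr, FS_eq_Op (h.symm.C2c hYr hP₁) ?_⟩
      intro q hq hrq
      haveI : Fact q.Prime := ⟨hq⟩
      exact h.symm.C2b hYr hP₁ hrq
  · left
    haveI : Fact r.Prime := ⟨hr⟩
    refine ⟨r, hr, FS_eq_Op (h.C2c hXr hP₂) ?_⟩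
    intro q hq hrq
    haveI : Fact q.Prime := ⟨hq⟩
    exact h.C2b hXr hP₂ hrq

end Cfsg.Agent.H17.TW
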