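import Cfsg.Agent.H21_Prim
import Cfsg.Agent.H18_KS0

/-!
# Counting for Thompson–Wielandt
-/

set_option autoImplicit false
set_option linter.all false

namespace Cfsg.Agent.H17.TW

open Subgroup

variable {G : Type*} [Group G]

/-- the core of `K` in `M` -/
def core (M K : Subgroup G) : Subgroup G where
  carrier := {g | ∀ h ∈ M, h⁻¹ * g * h ∈ K}
  one_mem' := by intro h _; simp
  mul_mem' := by
    intro a b ha hb h hh
    have : h⁻¹ * (a * b) * h = (h⁻¹ * a * h) * (h⁻¹ * b * h) := by group
    rw [this]; exact mul_mem (ha h hh) (hb h hh)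
  inv_mem' := by
    intro a ha h hh
    have : h⁻¹ * a⁻¹ * h = (h⁻¹ * a * h)⁻¹ := by group
    rw [this]; exact inv_mem (ha h hh)

theorem mem_core {M K : Subgroup G} {g : G} : g ∈ core M K ↔ ∀ h ∈ M, h⁻¹ * g * h ∈ K := Iff.rfl

theorem core_le (M K : Subgroup G) : core M K ≤ K := by
  intro g hg
  have := hg 1 (one_mem _)
  simpa using this

theorem le_normalizer_core (M K : Subgroup G) : M ≤ normalizer (core M K : Set G) := by
  rw [Cfsg.Agent.H18.KS.le_normalizer_iff_conj]
  intro m hm g hg h hh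
  have := hg (m⁻¹ * h) (mul_mem (inv_mem hm) hh)
  have e : h⁻¹ * (m * g * m⁻¹) * h = (m⁻¹ * h)⁻¹ * g * (m⁻¹ * h) := by group
  rw [e]; exact this

theorem le_core {N M K : Subgroup G} (h : N ≤ K) (hn : M ≤ normalizer (N : Set G)) : N ≤ core M K := by
  intro g hg m hm
  apply h
  have := (Cfsg.Agent.H18.KS.le_normalizer_iff_conj.mp hn) m⁻¹ (inv_mem hm) g hg
  simpa using this

theorem core_mono {M K L : Subgroup G} (h : K ≤ L) : core M K ≤ core M L := fun g hg m hm => h (hg m hm)

theorem core_subgroupOf {M K : Subgroup G} : (core M K).subgroupOf M = (K.subgroupOf M).normalCore := by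
  ext g
  rw [mem_subgroupOf]
  constructor
  · intro hg b
    rw [mem_subgroupOf]
    have := hg (b : G)⁻¹ (inv_mem b.2)
    simpa using this
  · intro hg h hh
    have := hg ⟨h, hh⟩⁻¹
    rw [mem_subgroupOf] at this
    simpa using this

variable [Finite G]

theorem index_normalCore_dvd {M : Type*} [Group M] [Finite M] (H : Subgroup M) :
    H.normalCore.index ∣ (H.index).factorial := by
  rw [Subgroup.normalCore_eq_ker, Subgroup.index_ker]
  refine (Subgroup.card_subgroup_dvd_card _).trans ?_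
  rw [Nat.card_perm]
  exact dvd_rfl

theorem card_stab_perm {α : Type*} [Finite α] (x : α) :
    Nat.card (MulAction.stabilizer (Equiv.Perm α) x) = (Nat.card α - 1).factorial := by
  classical
  haveI : Nonempty α := ⟨x⟩
  have ht : MulAction.IsPretransitive (Equiv.Perm α) α := ⟨fun a b => ⟨Equiv.swap a b, by simp⟩⟩
  have h1 := H21.Prim.card_eq ht x
  rw [Nat.card_perm] at h1
  have hpos : 0 < Nat.card α := Nat.card_pos
  have h2 : (Nat.card α).factorial = Nat.card α * (Nat.card α - 1).factorial := (Nat.mul_factorial_pred hpos.ne').symm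
  rw [h2] at h1
  exact (Nat.eq_of_mul_eq_mul_left hpos h1).symm

theorem relIndex_normalCore_dvd {M : Type*} [Group M] [Finite M] {H A : Subgroup M} (hA : A ≤ H) :
    H.normalCore.relIndex A ∣ (H.index - 1).factorial := by
  rw [Subgroup.normalCore_eq_ker, Subgroup.relIndex_ker]
  have h1 : A.map (MulAction.toPermHom M (M ⧸ H)) ≤ MulAction.stabilizer (Equiv.Perm (M ⧸ H)) ((1 : M) : M ⧸ H) := by
    rintro _ ⟨a, ha, rfl⟩
    rw [MulAction.mem_stabilizer_iff]
    show a • ((1 : M) : M ⧸ H) = _
    rw [MulAction.Quotient.smul_coe, smul_eq_mul, mul_one, QuotientGroup.eq]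
    simpa using hA ha
  have h2 := Subgroup.card_dvd_of_le h1
  rwa [card_stab_perm] at h2

theorem index_iInf_dvd {A ι : Type*} [Group A] [Finite A] (K : ι → Subgroup A) (hK : ∀ i, (K i).Normal) (s : Finset ι) :
    (⨅ i ∈ s, K i).index ∣ ∏ i ∈ s, (K i).index := by
  classical
  induction s using Finset.induction_on with
  | empty => simp
  | insert a s ha ih =>
    rw [Finset.iInf_insert, Finset.prod_insert ha]
    have h1 : (K a ⊓ ⨅ i ∈ s, K i).index = (K a ⊓ ⨅ i ∈ s, K i).relIndex (⨅ i ∈ s, K i) * (⨅ i ∈ s, K i).index :=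
      (Subgroup.relIndex_mul_index inf_le_right).symm
    rw [h1, Subgroup.inf_relIndex_right]
    haveI := hK a
    exact mul_dvd_mul (Subgroup.relIndex_dvd_index_of_normal _ _) ih

open scoped Pointwise in
theorem count (M₁ M₂ : Subgroup G) (d : ℕ) (h1 : (M₁ ⊓ M₂).relIndex M₁ = d) (h2 : (M₁ ⊓ M₂).relIndex M₂ = d) :
    (core M₁ (core M₁ (M₁ ⊓ M₂) ⊓ core M₂ (M₁ ⊓ M₂))).relIndex M₁ ∣ d.factorial * ((d - 1).factorial) ^ d := by
  classical
  set D := M₁ ⊓ M₂ with hD
  set A := core M₁ D with hA
  set B := core M₂ D with hB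
  set X := core M₁ (A ⊓ B) with hX
  have hAD : A ≤ D := core_le _ _
  have hAM : A ≤ M₁ := hAD.trans inf_le_left
  have hXA : X ≤ A := (core_le _ _).trans inf_le_left
  have hAn : M₁ ≤ normalizer (A : Set G) := le_normalizer_core _ _
  have hBn : M₂ ≤ normalizer (B : Set G) := le_normalizer_core _ _
  have hDn : D ≤ normalizer ((A ⊓ B : Subgroup G) : Set G) := by
    rw [Cfsg.Agent.H18.KS.le_normalizer_iff_conj]
    intro g hg k hk
    exact mem_inf.mpr ⟨Cfsg.Agent.H18.KS.le_normalizer_iff_conj.mp hAn g hg.1 k hk.1,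
      Cfsg.Agent.H18.KS.le_normalizer_iff_conj.mp hBn g hg.2 k hk.2⟩
  -- |M₁ : A| ∣ d!
  have e1 : A.relIndex M₁ ∣ d.factorial := by
    have := index_normalCore_dvd (D.subgroupOf M₁)
    rw [← core_subgroupOf] at this
    rw [← h1]
    exact this
  -- |A : A ∩ B| ∣ (d-1)!
  have e2 : (A ⊓ B).relIndex A ∣ (d - 1).factorial := by
    rw [Subgroup.inf_relIndex_left]
    have hAM2 : A ≤ M₂ := hAD.trans inf_le_right
    have h3 := relIndex_normalCore_dvd (H := D.subgroupOf M₂) (A := A.subgroupOf M₂) (Subgroup.comap_mono hAD)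
    rw [← core_subgroupOf, Subgroup.relIndex_subgroupOf hAM2] at h3
    have h4 : (D.subgroupOf M₂).index = d := h2
    rw [h4] at h3
    exact h3
  -- |A : X| ∣ ((d-1)!)^d
  have e3 : X.relIndex A ∣ ((d - 1).factorial) ^ d := by
    set Q := M₁ ⧸ (D.subgroupOf M₁) with hQ
    haveI : Fintype Q := Fintype.ofFinite Q
    have hcardQ : Fintype.card Q = d := by
      rw [← Nat.card_eq_fintype_card]
      exact h1
    let K : Q → Subgroup G := fun c => MulAut.conj ((Quotient.out c : M₁) : G) • (A ⊓ B)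
    have hconjA : ∀ m ∈ M₁, MulAut.conj m • A = A := by
      intro m hm
      have hN := Cfsg.Agent.H18.KS.le_normalizer_iff_conj.mp hAn
      ext x
      rw [Subgroup.mem_pointwise_smul_iff_inv_smul_mem, MulAut.smul_def, ← map_inv, MulAut.conj_apply, inv_inv]
      constructor
      · intro hx
        have := hN m hm _ hx
        have e : m * (m⁻¹ * x * m) * m⁻¹ = x := by group
        rwa [e] at this
      · intro hx
        have := hN m⁻¹ (inv_mem hm) _ hx
        simpa using this
    have hKA : ∀ c, K c ≤ A := by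
      intro c
      have := hconjA _ (Quotient.out c : M₁).2
      calc K c ≤ MulAut.conj ((Quotient.out c : M₁) : G) • A := Subgroup.pointwise_smul_le_pointwise_smul_iff.mpr inf_le_left
        _ = A := this
    have hKrel : ∀ c, (K c).relIndex A = (A ⊓ B).relIndex A := by
      intro c
      have := Subgroup.relIndex_pointwise_smul (MulAut.conj ((Quotient.out c : M₁) : G)) (A ⊓ B) A
      rw [hconjA _ (Quotient.out c : M₁).2] at this
      exact this
    have hKn : ∀ c, ((K c).subgroupOf A).Normal := by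
      intro c
      rw [normal_subgroupOf_iff_le_normalizer (hKA c)]
      rw [Cfsg.Agent.H18.KS.le_normalizer_iff_conj]
      intro a ha k hk
      obtain ⟨k', hk', rfl⟩ := hk
      obtain ⟨m, hm⟩ : ∃ m : G, m = ((Quotient.out c : M₁) : G) := ⟨_, rfl⟩
      have hmM : m ∈ M₁ := by rw [hm]; exact (Quotient.out c : M₁).2
      refine ⟨(m⁻¹ * a * m) * k' * (m⁻¹ * a * m)⁻¹, ?_, ?_⟩
      · have hma : m⁻¹ * a * m ∈ A := by
          have := Cfsg.Agent.H18.KS.le_normalizer_iff_conj.mp hAn m⁻¹ (inv_mem hmM) a ha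
          simpa using this
        exact Cfsg.Agent.H18.KS.le_normalizer_iff_conj.mp hDn _ (hAD hma) k' hk'
      · simp only [MulDistribMulAction.toMonoidEnd_apply, MulDistribMulAction.toMonoidHom_apply, MulAut.smul_def, MulAut.conj_apply]
        rw [← hm]
        group
    have hXK : X.subgroupOf A = ⨅ c ∈ (Finset.univ : Finset Q), (K c).subgroupOf A := by
      ext x
      simp only [Finset.mem_univ, iInf_pos, mem_iInf, mem_subgroupOf]
      constructor
      · intro hx c
        have := hx _ (Quotient.out c : M₁).2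
        refine ⟨_, this, ?_⟩
        simp only [MulDistribMulAction.toMonoidEnd_apply, MulDistribMulAction.toMonoidHom_apply, MulAut.smul_def, MulAut.conj_apply]
        group
      · intro hx h hh
        obtain ⟨k, hk, hkx⟩ := hx (QuotientGroup.mk ⟨h, hh⟩ : M₁ ⧸ (D.subgroupOf M₁))
        set m : M₁ := Quotient.out (QuotientGroup.mk ⟨h, hh⟩ : M₁ ⧸ (D.subgroupOf M₁)) with hm
        have hm' : (QuotientGroup.mk m : M₁ ⧸ (D.subgroupOf M₁)) = QuotientGroup.mk ⟨h, hh⟩ := Quotient.out_eq _
        rw [QuotientGroup.eq, mem_subgroupOf] at hm'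
        have hmd : (m : G)⁻¹ * h ∈ D := by simpa using hm'
        have hkx' : (m : G) * k * (m : G)⁻¹ = x := hkx
        rw [← hkx']
        have e : h⁻¹ * ((m : G) * k * (m : G)⁻¹) * h = ((m : G)⁻¹ * h)⁻¹ * k * ((m : G)⁻¹ * h) := by group
        rw [e]
        have := Cfsg.Agent.H18.KS.le_normalizer_iff_conj.mp hDn _ (inv_mem hmd) k hk
        simpa using this
    have h5 := index_iInf_dvd (fun c => (K c).subgroupOf A) hKn Finset.univ
    rw [← hXK] at h5
    refine dvd_trans h5 ?_
    have h6 : ∏ c ∈ (Finset.univ : Finset Q), ((K c).subgroupOf A).index = ((A ⊓ B).relIndex A) ^ d := by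
      have h8 : ∀ c ∈ (Finset.univ : Finset Q), ((K c).subgroupOf A).index = (A ⊓ B).relIndex A := fun c _ => hKrel c
      rw [Finset.prod_congr rfl h8, Finset.prod_const, Finset.card_univ, hcardQ]
    rw [h6]
    exact pow_dvd_pow_of_dvd e2 d
  have h7 : X.relIndex M₁ = X.relIndex A * A.relIndex M₁ := (Subgroup.relIndex_mul_relIndex X A M₁ hXA hAM).symm
  rw [h7, mul_comm]
  exact mul_dvd_mul e1 e3

end Cfsg.Agent.H17.TW
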