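import Cfsg.Agent.H17_TW1
import Cfsg.Agent.H17_TW2
import Cfsg.Agent.H13_Syl

/-!
# Thompson–Wielandt for primitive groups
-/

set_option autoImplicit false
set_option linter.all false

namespace Cfsg.Agent.H17.TW

open Subgroup Cfsg.Agent.H22.PrimPair
open scoped commutatorElement

/-- the basic data of a primitive group with a suborbit -/
structure Prm {G : Type*} [Group G] (M₁ M₂ : Subgroup G) (d : ℕ) : Prop where
  n1 : ∀ N : Subgroup G, N ≠ ⊥ → N ≤ M₁ → M₁ ≤ normalizer (N : Set G) → normalizer (N : Set G) ≤ M₁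
  n2 : ∀ N : Subgroup G, N ≠ ⊥ → N ≤ M₂ → M₂ ≤ normalizer (N : Set G) → normalizer (N : Set G) ≤ M₂
  ne : M₁ ≠ M₂
  d1 : (M₁ ⊓ M₂).relIndex M₁ = d
  d2 : (M₁ ⊓ M₂).relIndex M₂ = d
  iso : Nonempty (M₁ ≃* M₂)

variable {G : Type*} [Group G]

theorem Prm.symm {M₁ M₂ : Subgroup G} {d : ℕ} (h : Prm M₁ M₂ d) : Prm M₂ M₁ d where
  n1 := h.n2
  n2 := h.n1
  ne := h.ne.symm
  d1 := by rw [inf_comm]; exact h.d2
  d2 := by rw [inf_comm]; exact h.d1
  iso := ⟨h.iso.some.symm⟩

variable [Finite G]

theorem prm_of {Ω : Type*} [MulAction G Ω] [FaithfulSMul G Ω] [Finite Ω]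
    (hprim : MulAction.IsPreprimitive G Ω) (a b : Ω) (d : ℕ)
    (hd : Nat.card (MulAction.orbit (MulAction.stabilizer G a) b) = d) (h2 : 2 ≤ d) :
    Prm (MulAction.stabilizer G a) (MulAction.stabilizer G b) d := by
  classical
  have ht : MulAction.IsPretransitive G Ω := inferInstance
  have hab : a ≠ b := by
    rintro rfl
    have : MulAction.orbit (MulAction.stabilizer G a) a = {a} := by
      ext c
      constructor
      · rintro ⟨⟨g, hg⟩, rfl⟩
        exact hg
      · rintro rfl
        exact MulAction.mem_orbit_self _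
    rw [this] at hd
    simp at hd
    omega
  haveI : Nontrivial Ω := ⟨a, b, hab⟩
  have hcomax : ∀ c : Ω, IsCoatom (MulAction.stabilizer G c) := fun c => H21.Prim.isCoatom_stabilizer hprim c
  have hn : ∀ c : Ω, ∀ N : Subgroup G, N ≠ ⊥ → N ≤ MulAction.stabilizer G c →
      MulAction.stabilizer G c ≤ normalizer (N : Set G) → normalizer (N : Set G) ≤ MulAction.stabilizer G c := by
    intro c N hN0 hNc hcn
    rcases (hcomax c).le_iff.mp hcn with h | h
    · exfalso
      exact hN0 (H21.Prim.normal_le_stabilizer ht (Subgroup.normalizer_eq_top_iff.mp h) hNc)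
    · exact h.le
  have hd1 : (MulAction.stabilizer G a ⊓ MulAction.stabilizer G b).relIndex (MulAction.stabilizer G a) = d := by
    rw [Subgroup.inf_relIndex_left, ← hd, Subgroup.relIndex]
    have : (MulAction.stabilizer G b).subgroupOf (MulAction.stabilizer G a) = MulAction.stabilizer (MulAction.stabilizer G a) b := by
      ext x
      rw [Subgroup.mem_subgroupOf, MulAction.mem_stabilizer_iff, MulAction.mem_stabilizer_iff]
      rfl
    rw [this, MulAction.index_stabilizer, ← Nat.card_coe_set_eq]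
  have hcard := H21.Prim.card_stabilizer_eq ht a b
  have hd2 : (MulAction.stabilizer G a ⊓ MulAction.stabilizer G b).relIndex (MulAction.stabilizer G b) = d := by
    have h3 := H21.Prim.card_mul_relIndex (K := MulAction.stabilizer G a ⊓ MulAction.stabilizer G b) (H := MulAction.stabilizer G a) inf_le_left
    have h4 := H21.Prim.card_mul_relIndex (K := MulAction.stabilizer G a ⊓ MulAction.stabilizer G b) (H := MulAction.stabilizer G b) inf_le_right
    rw [← hcard, ← h3] at h4
    rw [← hd1]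
    exact Nat.eq_of_mul_eq_mul_left Nat.card_pos h4
  refine ⟨hn a, hn b, ?_, hd1, hd2, ?_⟩
  · intro h
    rw [← h, inf_idem, Subgroup.relIndex_self] at hd1
    omega
  · obtain ⟨g, hg⟩ := ht.exists_smul_eq a b
    exact ⟨MulAction.stabilizerEquivStabilizer hg.symm⟩

variable {M₁ M₂ : Subgroup G} {d : ℕ}

/-- either the bound holds or we have a configuration -/
theorem Prm.bound (h : Prm M₁ M₂ d) : Nat.card M₁ ∣ Nat.factorial d * (Nat.factorial (d - 1)) ^ d ∨
    ∃ A B X Y : Subgroup G, Cfg M₁ M₂ A B X Y := by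
  set A := core M₁ (M₁ ⊓ M₂) with hA
  set B := core M₂ (M₁ ⊓ M₂) with hB
  set X := core M₁ (A ⊓ B) with hX
  set Y := core M₂ (A ⊓ B) with hY
  have c1 := count M₁ M₂ d h.d1 h.d2
  have c2 := count M₂ M₁ d h.symm.d1 h.symm.d2
  rw [← hA, ← hB, ← hX] at c1
  rw [inf_comm M₂ M₁, ← hA, ← hB, inf_comm B A, ← hY] at c2
  by_cases hX0 : X = ⊥
  · left
    rw [hX0, Subgroup.relIndex_bot_left] at c1
    exact c1
  · by_cases hY0 : Y = ⊥
    · left
      rw [hY0, Subgroup.relIndex_bot_left] at c2
      rw [Nat.card_congr h.iso.some.toEquiv]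
      exact c2
    · right
      exact ⟨A, B, X, Y,
        { n1 := h.n1
          n2 := h.n2
          hA := core_le _ _
          hAn := le_normalizer_core _ _
          hB := core_le _ _
          hBn := le_normalizer_core _ _
          hX := core_le _ _
          hXn := le_normalizer_core _ _
          hY := core_le _ _
          hYn := le_normalizer_core _ _
          hX0 := hX0
          hY0 := hY0 }⟩

omit [Finite G] in
theorem gf_eq_of_FS {M : Subgroup G} {p : ℕ} (h : FS M = Op p M) :
    Cfsg.generalizedFittingSubgroup M = Cfsg.pCore p M :=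
  Subgroup.map_injective M.subtype_injective h

omit [Finite G] in
theorem gf_transfer (e : M₁ ≃* M₂) {p : ℕ} (h : Cfsg.generalizedFittingSubgroup M₂ = Cfsg.pCore p M₂) :
    Cfsg.generalizedFittingSubgroup M₁ = Cfsg.pCore p M₁ := by
  have h1 := H11.FStar.map_equiv_generalizedFitting e.symm
  have h2 := H11.Cores.map_equiv_pCore (p := p) e.symm
  rw [← h1, ← h2, h]

theorem Prm.main1 (h : Prm M₁ M₂ d)
    (hnc : ∀ p : ℕ, p.Prime → Cfsg.generalizedFittingSubgroup M₁ ≠ Cfsg.pCore p M₁) :
    Nat.card M₁ ∣ Nat.factorial d * (Nat.factorial (d - 1)) ^ d := by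
  rcases h.bound with h1 | ⟨A, B, X, Y, hC⟩
  · exact h1
  · exfalso
    rcases hC.main h.ne with ⟨p, hp, h2⟩ | ⟨p, hp, h2⟩
    · exact hnc p hp (gf_eq_of_FS h2)
    · exact hnc p hp (gf_transfer h.iso.some (gf_eq_of_FS h2))

end Cfsg.Agent.H17.TW
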