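import Cfsg.Agent.H17_TW3

/-!
# Fitting-free two-point subconstituents
-/

set_option autoImplicit false
set_option linter.all false

namespace Cfsg.Agent.H17.TW

open Subgroup Cfsg.Agent.H22.PrimPair
open scoped commutatorElement

variable {G : Type*} [Group G] [Finite G]

theorem Op_normalized {M A : Subgroup G} {p : ℕ} [Fact p.Prime] (hn : M ≤ normalizer (A : Set G)) :
    M ≤ normalizer (Op p A : Set G) := by
  rw [Cfsg.Agent.H18.KS.le_normalizer_iff_conj]
  intro m hm k hk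
  set Q : Subgroup G := (Op p A).map (MulAut.conj m).toMonoidHom with hQ
  have hNA := Cfsg.Agent.H18.KS.le_normalizer_iff_conj.mp hn
  have hQA : Q ≤ A := by
    rintro _ ⟨x, hx, rfl⟩
    exact hNA m hm x (Op_le _ hx)
  have hQn : A ≤ normalizer (Q : Set G) := by
    rw [Cfsg.Agent.H18.KS.le_normalizer_iff_conj]
    rintro a ha _ ⟨x, hx, rfl⟩
    have ha' : m⁻¹ * a * m ∈ A := by
      have := hNA m⁻¹ (inv_mem hm) a ha
      simpa using this
    refine ⟨(m⁻¹ * a * m) * x * (m⁻¹ * a * m)⁻¹, ?_, ?_⟩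
    · exact Cfsg.Agent.H18.KS.le_normalizer_iff_conj.mp (le_normalizer_Op A) _ ha' x hx
    · show m * ((m⁻¹ * a * m) * x * (m⁻¹ * a * m)⁻¹) * m⁻¹ = a * (m * x * m⁻¹) * a⁻¹
      group
  have hQp : IsPGroup p Q := (isPGroup_Op A).map _
  have h1 := le_Op_of_norm hQA hQn hQp
  exact h1 ⟨k, hk, rfl⟩

theorem Op_le_of_fit {M A : Subgroup G} {p : ℕ} [Fact p.Prime] (h : (Cfsg.fittingSubgroup M).map M.subtype ≤ A) :
    Op p M ≤ A := le_trans (map_mono (H1.Nilp.pCore_le_fitting p)) h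

theorem card_Op_eq {M₁ M₂ : Subgroup G} (e : M₁ ≃* M₂) (p : ℕ) : Nat.card (Op p M₁) = Nat.card (Op p M₂) := by
  unfold Op
  rw [card_map_of_injective M₁.subtype_injective, card_map_of_injective M₂.subtype_injective,
    ← H11.Cores.map_equiv_pCore (p := p) e, card_map_of_injective e.injective]

variable {M₁ M₂ : Subgroup G} {d : ℕ}

theorem Prm.fit_bot (h : Prm M₁ M₂ d)
    (hF : (Cfsg.fittingSubgroup ↥(M₁ ⊓ M₂)).map (M₁ ⊓ M₂).subtype ≤ core M₁ (M₁ ⊓ M₂)) :
    Cfsg.fittingSubgroup ↥(M₁ ⊓ M₂) = ⊥ := by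
  set D := M₁ ⊓ M₂ with hD
  set A := core M₁ D with hA
  have hAD : A ≤ D := core_le _ _
  have hAn : M₁ ≤ normalizer (A : Set G) := le_normalizer_core _ _
  have key : ∀ r : ℕ, r.Prime → Op r D = ⊥ := by
    intro r hr
    haveI : Fact r.Prime := ⟨hr⟩
    by_contra hR0
    set R := Op r D with hR
    have hRA : R ≤ A := Op_le_of_fit hF
    have hRD : R ≤ D := Op_le _
    have e1 : R = Op r A := by
      apply le_antisymm
      · exact le_Op_of_norm hRA (hAD.trans (le_normalizer_Op D)) (isPGroup_Op D)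
      · exact le_Op_of_norm ((Op_le A).trans hAD) ((inf_le_left.trans (Op_normalized (p := r) hAn))) (isPGroup_Op A)
    have hRn : M₁ ≤ normalizer (R : Set G) := by
      rw [e1]; exact Op_normalized hAn
    have hRN := h.n1 R hR0 (hRD.trans inf_le_left) hRn
    set R₂ := Op r M₂ with hR₂
    set S := R₂ ⊔ R with hS
    have hSp : IsPGroup r S := (isPGroup_Op M₂).to_sup_of_normal_left' (isPGroup_Op D)
      ((hRD.trans inf_le_right).trans (le_normalizer_Op M₂))
    have hSM2 : S ≤ M₂ := sup_le (Op_le _) (hRD.trans inf_le_right)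
    have hSD : S ⊓ D ≤ R := by
      intro s hs
      obtain ⟨hs1, hs2⟩ := mem_inf.mp hs
      obtain ⟨u, hu, v, hv, rfl⟩ := Cfsg.Agent.H18.KS.mem_sup_of_norm ((hRD.trans inf_le_right).trans (le_normalizer_Op M₂)) hs1
      refine mul_mem ?_ hv
      have huD : u ∈ D := by
        have := mul_mem hs2 (inv_mem (hRD hv))
        rwa [mul_inv_cancel_right] at this
      have h3 : R₂ ⊓ D ≤ R := by
        apply le_Op_of_norm inf_le_right
        · exact Cfsg.Agent.H22.Basic.le_normalizer_inf (inf_le_right.trans (le_normalizer_Op M₂)) Subgroup.le_normalizer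
        · exact (isPGroup_Op M₂).to_le inf_le_left
      exact h3 (mem_inf.mpr ⟨hu, huD⟩)
    have hSR : S = R := by
      by_contra hne
      have hlt : R < S := lt_of_le_of_ne le_sup_right (Ne.symm hne)
      have h4 := Cfsg.Agent.H13.Syl.lt_normalizer_of_lt hSp hlt
      apply absurd h4
      apply not_lt_of_ge
      refine le_trans (le_inf inf_le_left ?_) hSD
      exact le_inf (inf_le_right.trans hRN) (inf_le_left.trans hSM2)
    have hR2R : R₂ ≤ R := by rw [← hSR]; exact le_sup_left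
    have hR1 : R ≤ Op r M₁ := le_Op_of_norm (hRD.trans inf_le_left) hRn (isPGroup_Op D)
    have hc : Nat.card (Op r M₁) = Nat.card R₂ := card_Op_eq h.iso.some r
    have h5 : R₂ = R := by
      apply Cfsg.Agent.H2.Card.eq_of_le_of_card_eq hR2R
      apply le_antisymm
      · exact Subgroup.card_le_of_le hR2R
      · rw [← hc]; exact Subgroup.card_le_of_le hR1
    have hRn2 : M₂ ≤ normalizer (R : Set G) := by rw [← h5]; exact le_normalizer_Op M₂
    have hRN2 := h.n2 R hR0 (hRD.trans inf_le_right) hRn2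
    exact h.ne (le_antisymm (hRn.trans hRN2) (hRn2.trans hRN))
  have h6 : (Cfsg.fittingSubgroup ↥D).map D.subtype ≤ ⊥ := fit_le_of (fun r hr => (key r hr).le)
  rw [le_bot_iff, map_eq_bot_iff_of_injective _ D.subtype_injective] at h6
  exact h6

/-- no configuration when the two-point stabilizer is Fitting-free -/
theorem fit_contra {A B X Y : Subgroup G} (hC : Cfg M₁ M₂ A B X Y) (hF : Cfsg.fittingSubgroup ↥(M₁ ⊓ M₂) = ⊥)
    {p : ℕ} (hp : p.Prime) (h : FS M₁ = Op p M₁) : False := by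
  haveI : Fact p.Prime := ⟨hp⟩
  apply hC.hX0
  have hXD : X ≤ M₁ ⊓ M₂ := le_inf hC.X_le_M₁ hC.X_le_M₂
  have h1 : X ⊓ Op p M₁ = ⊥ := by
    have h2 : X ⊓ Op p M₁ ≤ Op p (M₁ ⊓ M₂) := by
      apply le_Op_of_norm (inf_le_left.trans hXD)
      · exact Cfsg.Agent.H22.Basic.le_normalizer_inf (inf_le_left.trans hC.hXn) (inf_le_left.trans (le_normalizer_Op M₁))
      · exact (isPGroup_Op M₁).to_le inf_le_right
    rw [eq_bot_iff]
    refine h2.trans ?_
    have h3 : Op p (M₁ ⊓ M₂) ≤ (Cfsg.fittingSubgroup ↥(M₁ ⊓ M₂)).map (M₁ ⊓ M₂).subtype :=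
      map_mono (H1.Nilp.pCore_le_fitting p)
    rw [hF, Subgroup.map_bot] at h3
    exact h3
  have h4 : X ≤ Op p M₁ := by
    rw [← h]
    refine le_trans (le_inf hC.X_le_M₁ ?_) (centralizer_FS M₁)
    intro x hx
    rw [mem_centralizer_iff]
    intro y hy
    rw [h] at hy
    exact (comm_of_inf (hC.X_le_M₁.trans (le_normalizer_Op M₁)) ((Op_le M₁).trans hC.hXn) h1 hx hy).eq.symm
  rw [eq_bot_iff, ← h1]
  exact le_inf le_rfl h4

theorem Prm.main2 (h : Prm M₁ M₂ d)
    (hF : (Cfsg.fittingSubgroup ↥(M₁ ⊓ M₂)).map (M₁ ⊓ M₂).subtype ≤ core M₁ (M₁ ⊓ M₂)) :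
    Cfsg.fittingSubgroup ↥(M₁ ⊓ M₂) = ⊥ ∧ Nat.card M₁ ∣ Nat.factorial d * (Nat.factorial (d - 1)) ^ d := by
  have hb := h.fit_bot hF
  refine ⟨hb, ?_⟩
  rcases h.bound with h1 | ⟨A, B, X, Y, hC⟩
  · exact h1
  · exfalso
    rcases hC.main h.ne with ⟨p, hp, h2⟩ | ⟨p, hp, h2⟩
    · exact fit_contra hC hb hp h2
    · refine fit_contra hC.symm ?_ hp h2
      rw [inf_comm]; exact hb

theorem fitting_le_ker {D K : Type*} [Group D] [Finite D] [Group K] [Finite K] (f : D →* K) (hf : Function.Surjective f)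
    (hK : Cfsg.fittingSubgroup K = ⊥) : Cfsg.fittingSubgroup D ≤ f.ker := by
  haveI : (Cfsg.fittingSubgroup D).Normal := H1.Nilp.fitting_normal
  have h1 : ((Cfsg.fittingSubgroup D).map f).Normal := Subgroup.Normal.map inferInstance f hf
  have h2 : Group.IsNilpotent ((Cfsg.fittingSubgroup D).map f) := by
    haveI := H1.Nilp.fitting_nilpotent (G := D)
    exact Group.nilpotent_of_surjective (f.subgroupMap (Cfsg.fittingSubgroup D)) (f.subgroupMap_surjective _)
  have h3 : (Cfsg.fittingSubgroup D).map f ≤ Cfsg.fittingSubgroup K := le_sSup ⟨h1, h2⟩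
  rw [hK, le_bot_iff] at h3
  exact (Subgroup.map_eq_bot_iff _).mp h3

end Cfsg.Agent.H17.TW
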