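import Cfsg.Agent.H17_TW4

/-!
# Thompson–Wielandt: both kernels are `p`-groups
-/

set_option autoImplicit false
set_option linter.all false

namespace Cfsg.Agent.H17.TW

open Subgroup Cfsg.Agent.H22.PrimPair
open scoped commutatorElement

variable {G : Type*} [Group G] [Finite G] {M₁ M₂ A B X Y : Subgroup G}

theorem mem_normalizer_of_conj {K : Subgroup G} {v : G} (h : ∀ k ∈ K, v * k * v⁻¹ ∈ K) : v ∈ normalizer (K : Set G) := by
  apply Cfsg.Agent.H22.Basic.mem_normalizer_of_cj_le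
  rintro _ ⟨k, hk, rfl⟩
  exact h k hk

/-- `X` is a `p`-group -/
theorem Cfg.X_pgroup (h : Cfg M₁ M₂ A B X Y) (hne : M₁ ≠ M₂) {p : ℕ} [hp : Fact p.Prime]
    (hcard : Nat.card (Op p M₁) = Nat.card (Op p M₂)) (hP2 : Op p M₂ ≠ ⊥) : IsPGroup p X := by
  rcases h.X1 p with hPM | hdone
  swap
  · exact hdone
  by_contra hXp
  have hP1 : Op p M₁ ≠ ⊥ := by
    intro h0
    apply hP2
    rw [h0, Subgroup.card_bot] at hcard
    exact Subgroup.card_eq_one.mp hcard.symm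
  set K := pG p X with hK
  have hKX : K ≤ X := Cfsg.Agent.H18.BB.pGen_le p X
  have hK0 : K ≠ ⊥ := by
    intro h0
    apply hXp
    apply Cfsg.Agent.H2.PCons.isPGroup_of_forall_coprime
    intro x hx ho
    have : x ∈ K := Cfsg.Agent.H18.BB.mem_pGen hx ho
    rw [h0] at this
    exact this
  have hKn : M₁ ≤ normalizer (K : Set G) := h.hXn.trans (Cfsg.Agent.H18.BB.normalizer_le_normalizer_pGen p _)
  have hKN := h.n1 K hK0 (hKX.trans h.X_le_M₁) hKn
  set T := Op p B with hT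
  have hBM2 : B ≤ M₂ := h.hB.trans inf_le_right
  have hBM1 : B ≤ M₁ := h.hB.trans inf_le_left
  have hTn : M₂ ≤ normalizer (T : Set G) := Op_normalized h.hBn
  have hTB : T ≤ B := Op_le B
  have hTp : IsPGroup p T := isPGroup_Op B
  set U := Op p M₁ ⊓ M₂ with hU
  have hUn : M₁ ⊓ M₂ ≤ normalizer (U : Set G) :=
    Cfsg.Agent.H22.Basic.le_normalizer_inf (inf_le_left.trans (le_normalizer_Op M₁)) (inf_le_right.trans Subgroup.le_normalizer)
  have hUp : IsPGroup p U := (isPGroup_Op M₁).to_le inf_le_left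
  have hUB : U ⊓ B ≤ T := by
    apply le_Op_of_norm inf_le_right
    · exact Cfsg.Agent.H22.Basic.le_normalizer_inf (h.hB.trans hUn) Subgroup.le_normalizer
    · exact hUp.to_le inf_le_left
  have hTX : T ≤ normalizer (X : Set G) := (hTB.trans hBM1).trans h.hXn
  have hBnc := Cfsg.Agent.H18.KS.le_normalizer_iff_conj.mp h.hBn
  have hTnc := Cfsg.Agent.H18.KS.le_normalizer_iff_conj.mp hTn
  have hUnc := Cfsg.Agent.H18.KS.le_normalizer_iff_conj.mp hUn
  -- generators of L₂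
  have hgen : ∀ m ∈ M₂, ∀ u ∈ U, m * u * m⁻¹ ∈ normalizer ((X ⊔ T : Subgroup G) : Set G) := by
    intro m hm u hu
    have hvM : m * u * m⁻¹ ∈ M₂ := mul_mem (mul_mem hm hu.2) (inv_mem hm)
    apply mem_normalizer_of_conj
    intro k hk
    obtain ⟨x, hx, t, ht, rfl⟩ := Cfsg.Agent.H18.KS.mem_sup_of_norm hTX hk
    have h3 : (m * u * m⁻¹) * (x * t) * (m * u * m⁻¹)⁻¹ =
        (⁅m * u * m⁻¹, x⁆ * x) * ((m * u * m⁻¹) * t * (m * u * m⁻¹)⁻¹) := by
      rw [commutatorElement_def]; group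
    rw [h3]
    refine mul_mem (mul_mem (mem_sup_right ?_) (mem_sup_left hx)) (mem_sup_right (hTnc _ hvM t ht))
    have hbB : m⁻¹ * x * m ∈ B := by
      have := hBnc m⁻¹ (inv_mem hm) x (h.X_le_B hx)
      simpa using this
    have h4 : ⁅m * u * m⁻¹, x⁆ = m * ⁅u, m⁻¹ * x * m⁆ * m⁻¹ := by
      rw [commutatorElement_def, commutatorElement_def]; group
    rw [h4]
    apply hTnc m hm
    apply hUB
    refine mem_inf.mpr ⟨?_, ?_⟩
    · have h5 : ⁅u, m⁻¹ * x * m⁆ = u * ((m⁻¹ * x * m) * u⁻¹ * (m⁻¹ * x * m)⁻¹) := by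
        rw [commutatorElement_def]; group
      rw [h5]
      exact mul_mem hu (hUnc _ (h.hB hbB) _ (inv_mem hu))
    · rw [commutatorElement_def]
      exact mul_mem (hBnc u hu.2 _ hbB) (inv_mem hbB)
  set L : Subgroup G := closure {v | ∃ m ∈ M₂, ∃ u ∈ U, v = m * u * m⁻¹} with hL
  have hLM2 : L ≤ M₂ := by
    rw [hL, closure_le]
    rintro _ ⟨m, hm, u, hu, rfl⟩
    exact mul_mem (mul_mem hm hu.2) (inv_mem hm)
  have hLn : M₂ ≤ normalizer (L : Set G) := by
    intro m hm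
    apply Cfsg.Agent.H22.Basic.mem_normalizer_of_cj_le
    rw [Cfsg.Agent.H22.Basic.cj, hL, MonoidHom.map_closure, closure_le]
    rintro _ ⟨_, ⟨m', hm', u, hu, rfl⟩, rfl⟩
    apply Subgroup.subset_closure
    refine ⟨m * m', mul_mem hm hm', u, hu, ?_⟩
    show m * (m' * u * m'⁻¹) * m⁻¹ = m * m' * u * (m * m')⁻¹
    group
  have hLXT : L ≤ normalizer ((X ⊔ T : Subgroup G) : Set G) := by
    rw [hL, closure_le]
    rintro _ ⟨m, hm, u, hu, rfl⟩
    exact hgen m hm u hu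
  have e1 : pG p (X ⊔ T) = pG p X := by
    apply le_antisymm
    · unfold pG Cfsg.Agent.H18.BB.pGen
      apply Subgroup.closure_mono
      rintro g ⟨hg, ho⟩
      exact ⟨Cfsg.Agent.H18.BB.mem_left hTX (Cfsg.Agent.H18.BB.pow_mem_of_pgroup hTp) hg ho, ho⟩
    · exact Cfsg.Agent.H18.BB.pGen_mono le_sup_left
  have hLM1 : L ≤ M₁ := by
    refine le_trans ?_ hKN
    rw [hK, ← e1]
    exact hLXT.trans (Cfsg.Agent.H18.BB.normalizer_le_normalizer_pGen p _)
  have hUL : U ≤ L := by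
    intro u hu
    apply Subgroup.subset_closure
    exact ⟨1, one_mem _, u, hu, by simp⟩
  have hU2 : U ≤ Op p M₂ := by
    have h6 : U ≤ Op p L := le_Op_of_norm hUL ((le_inf hLM1 hLM2).trans hUn) hUp
    refine h6.trans ?_
    exact le_Op_of_norm ((Op_le L).trans hLM2) (Op_normalized hLn) (isPGroup_Op L)
  have hN2 := h.n2 _ hP2 (Op_le M₂) (le_normalizer_Op M₂)
  have hN1 := h.n1 _ hP1 (Op_le M₁) (le_normalizer_Op M₁)
  set S := Op p M₁ ⊔ Op p M₂ with hS
  have hSp : IsPGroup p S := (isPGroup_Op M₁).to_sup_of_normal_left' (isPGroup_Op M₂) (hPM.trans (le_normalizer_Op M₁))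
  have hS2 : S = Op p M₂ := by
    by_contra hne2
    have hlt : Op p M₂ < S := lt_of_le_of_ne le_sup_right (Ne.symm hne2)
    have h7 := Cfsg.Agent.H13.Syl.lt_normalizer_of_lt hSp hlt
    apply absurd h7
    apply not_lt_of_ge
    intro s hs
    obtain ⟨hs1, hs2⟩ := mem_inf.mp hs
    obtain ⟨u, hu, v, hv, rfl⟩ := Cfsg.Agent.H18.KS.mem_sup_of_norm (hPM.trans (le_normalizer_Op M₁)) hs1
    have hs3 := hN2 hs2
    have huM : u ∈ M₂ := by
      have := mul_mem hs3 (inv_mem (Op_le M₂ hv))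
      rwa [mul_inv_cancel_right] at this
    exact mul_mem (hU2 (mem_inf.mpr ⟨hu, huM⟩)) hv
  have hP12 : Op p M₁ = Op p M₂ := by
    apply Cfsg.Agent.H2.Card.eq_of_le_of_card_eq ?_ hcard
    rw [← hS2]; exact le_sup_left
  apply hne
  apply le_antisymm
  · refine le_trans ?_ hN2
    rw [← hP12]; exact le_normalizer_Op M₁
  · refine le_trans ?_ hN1
    rw [hP12]; exact le_normalizer_Op M₂

/-- **Thompson–Wielandt**: for conjugate maximal subgroups -/
theorem Cfg.full (h : Cfg M₁ M₂ A B X Y) (hne : M₁ ≠ M₂) (e : M₁ ≃* M₂) :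
    ∃ p : ℕ, p.Prime ∧ FS M₁ = Op p M₁ ∧ FS M₂ = Op p M₂ ∧ IsPGroup p X ∧ IsPGroup p Y := by
  have h1 : ∃ p : ℕ, p.Prime ∧ FS M₁ = Op p M₁ ∧ FS M₂ = Op p M₂ := by
    rcases h.main hne with ⟨p, hp, h2⟩ | ⟨p, hp, h2⟩
    · refine ⟨p, hp, h2, ?_⟩
      have := gf_transfer e.symm (gf_eq_of_FS h2)
      unfold FS Op; rw [this]
    · refine ⟨p, hp, ?_, h2⟩
      have := gf_transfer e (gf_eq_of_FS h2)
      unfold FS Op; rw [this]
  obtain ⟨p, hp, h2, h3⟩ := h1
  haveI : Fact p.Prime := ⟨hp⟩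
  have hcard := card_Op_eq e p
  have key : ∀ {M Z : Subgroup G}, Z ≤ M → Z ≠ ⊥ → FS M = Op p M → Op p M ≠ ⊥ := by
    intro M Z hZM hZ0 hFS h0
    rw [h0] at hFS
    apply hZ0
    rw [eq_bot_iff, ← hFS]
    refine le_trans (le_inf hZM ?_) (centralizer_FS M)
    intro x _
    rw [mem_centralizer_iff, hFS]
    intro y hy
    have : y = 1 := hy
    rw [this]; simp
  have hP1 := key h.X_le_M₁ h.hX0 h2
  have hP2 := key h.symm.X_le_M₁ h.hY0 h3
  exact ⟨p, hp, h2, h3, h.X_pgroup hne hcard hP2, h.symm.X_pgroup hne.symm hcard.symm hP1⟩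

variable {d : ℕ}

/-- Wielandt's bound -/
theorem Prm.main3 (h : Prm M₁ M₂ d) :
    ∃ p : ℕ, p.Prime ∧ ∃ P : Subgroup G, P ≤ M₁ ⊓ M₂ ∧ M₁ ≤ normalizer (P : Set G) ∧ IsPGroup p P ∧
      P.relIndex M₁ ∣ Nat.factorial d * (Nat.factorial (d - 1)) ^ d := by
  set A := core M₁ (M₁ ⊓ M₂) with hA
  set B := core M₂ (M₁ ⊓ M₂) with hB
  set X := core M₁ (A ⊓ B) with hX
  set Y := core M₂ (A ⊓ B) with hY
  have c1 := count M₁ M₂ d h.d1 h.d2
  have c2 := count M₂ M₁ d h.symm.d1 h.symm.d2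
  rw [← hA, ← hB, ← hX] at c1
  rw [inf_comm M₂ M₁, ← hA, ← hB, inf_comm B A, ← hY] at c2
  by_cases hX0 : X = ⊥
  · rw [hX0] at c1
    exact ⟨2, Nat.prime_two, ⊥, bot_le, by rw [Subgroup.normalizer_eq_top]; exact le_top, IsPGroup.of_bot, c1⟩
  · by_cases hY0 : Y = ⊥
    · refine ⟨2, Nat.prime_two, ⊥, bot_le, by rw [Subgroup.normalizer_eq_top]; exact le_top, IsPGroup.of_bot, ?_⟩
      rw [hY0, Subgroup.relIndex_bot_left] at c2
      rw [Subgroup.relIndex_bot_left, Nat.card_congr h.iso.some.toEquiv]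
      exact c2
    · have hC : Cfg M₁ M₂ A B X Y :=
        { n1 := h.n1
          n2 := h.n2
          hA := core_le _ _
          hAn := le_normalizer_core _ _
          hB := core_le _ _
          hBn := le_normalizer_core _ _
          hX := core_le _ _
          hXn := le_normalizer_core _ _
          hY := core_le _ _
          hYn := le_normalizer_core _ _
          hX0 := hX0
          hY0 := hY0 }
      obtain ⟨p, hp, -, -, hXp, -⟩ := hC.full h.ne h.iso.some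
      exact ⟨p, hp, X, le_inf hC.X_le_M₁ hC.X_le_M₂, le_normalizer_core _ _, hXp, c1⟩

end Cfsg.Agent.H17.TW
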