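import Cfsg.Agent.H17_Base2

set_option autoImplicit false
open Cfsg

/-! Traces over orbits of offenders (Glauberman, weakly closed elements). -/

namespace Cfsg.Agent.H17.Tr

open Cfsg.Agent.H17.Base

section Defs
variable {Γ : Type*} [Group Γ] (V : Type*) [AddCommGroup V] [DistribMulAction Γ V]

/-- fixed points of a subgroup -/
def fx (B : Subgroup Γ) : AddSubgroup V where
  carrier := {v | ∀ b ∈ B, b • v = v}
  add_mem' := by
    intro a b ha hb g hg
    rw [smul_add, ha g hg, hb g hg]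
  zero_mem' := by
    intro g _
    exact smul_zero g
  neg_mem' := by
    intro a ha g hg
    rw [smul_neg, ha g hg]

theorem mem_fx {B : Subgroup Γ} {v : V} : v ∈ fx V B ↔ ∀ b ∈ B, b • v = v := Iff.rfl

/-- the kernel of multiplication by `p` -/
def tor (p : ℕ) : AddSubgroup V where
  carrier := {v | p • v = 0}
  add_mem' := by
    intro a b ha hb
    show p • (a + b) = 0
    rw [smul_add, show p • a = 0 from ha, show p • b = 0 from hb, add_zero]
  zero_mem' := smul_zero p
  neg_mem' := by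
    intro a ha
    show p • (-a) = 0
    rw [smul_neg, show p • a = 0 from ha, neg_zero]

theorem mem_tor {p : ℕ} {v : V} : v ∈ tor V p ↔ p • v = 0 := Iff.rfl

def fw (p : ℕ) (B : Subgroup Γ) : AddSubgroup V := tor V p ⊓ fx V B

/-- `A` is a (best) offender on the `p`-torsion of `V` -/
def Off (p : ℕ) (A : Subgroup Γ) : Prop := ∀ B ≤ A, (fw V p A).relIndex (fw V p B) ≤ B.relIndex A

theorem fx_anti {A B : Subgroup Γ} (h : B ≤ A) : fx V A ≤ fx V B := fun _ hv b hb => hv b (h hb)

theorem fw_anti {p : ℕ} {A B : Subgroup Γ} (h : B ≤ A) : fw V p A ≤ fw V p B :=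
  inf_le_inf_left _ (fx_anti V h)

end Defs

theorem sum_orbits {A X V : Type*} [Group A] [MulAction A X] [Fintype X] [AddCommGroup V] (h : X → V)
    (S : Finset X) (hS : ∀ q ∈ S, ∀ a : A, a • q ∈ S)
    (h0 : ∀ q ∈ S, ∀ (O : Finset X), (∀ y, y ∈ O ↔ y ∈ MulAction.orbit A q) → ∑ y ∈ O, h y = 0) :
    ∑ q ∈ S, h q = 0 := by
  classical
  apply Finset.sum_cancels_of_partition_cancels (MulAction.orbitRel A X)
  intro x hx
  apply h0 x hx
  intro y
  rw [Finset.mem_filter]
  constructor
  · rintro ⟨_, h2⟩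
    exact h2
  · intro hy
    refine ⟨?_, hy⟩
    obtain ⟨a, rfl⟩ := hy
    exact hS x hx a

variable {Γ : Type*} [Group Γ] {V : Type*} [AddCommGroup V] [DistribMulAction Γ V]

theorem trace_inj {p : ℕ} [Fact p.Prime] {A X : Type*} [Group A] [Finite A] [MulAction A X] [Fintype X]
    [DecidableEq X] {W : Type*} [AddCommGroup W] [Module (ZMod p) W] [DistribMulAction A W]
    (hA : IsPGroup p A) (htr : MulAction.IsPretransitive A X) (h : X → W)
    (heq : ∀ (a : A) (q : X), h (a • q) = a • h q) (hne : ∑ q, h q ≠ 0) :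
    Function.Injective (fun φ : X → ZMod p => ∑ q, φ q • h q) := by
  classical
  -- the kernel
  let K : AddSubgroup (X → ZMod p) :=
    { carrier := {φ | ∑ q, φ q • h q = 0}
      add_mem' := by
        intro a b ha hb
        show ∑ q, (a + b) q • h q = 0
        simp only [Pi.add_apply, add_smul, Finset.sum_add_distrib]
        rw [show ∑ q, a q • h q = 0 from ha, show ∑ q, b q • h q = 0 from hb, add_zero]
      zero_mem' := by simp
      neg_mem' := by
        intro a ha
        show ∑ q, (-a) q • h q = 0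
        simp only [Pi.neg_apply, neg_smul, Finset.sum_neg_distrib]
        rw [show ∑ q, a q • h q = 0 from ha, neg_zero] }
  have hzs : ∀ (a : A) (c : ZMod p) (w : W), a • (c • w) = c • (a • w) := by
    intro a c w
    have h1 : c = ((c.val : ℕ) : ZMod p) := (ZMod.natCast_zmod_val c).symm
    rw [h1, Nat.cast_smul_eq_nsmul, Nat.cast_smul_eq_nsmul]
    exact map_nsmul (DistribSMul.toAddMonoidHom W a) _ w
  have hinv : ∀ (a : A) (φ : X → ZMod p), φ ∈ K → (fun q => φ (a⁻¹ • q)) ∈ K := by
    intro a φ hφ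
    show ∑ q, φ (a⁻¹ • q) • h q = 0
    have h1 : ∑ q, φ (a⁻¹ • q) • h q = ∑ q, φ q • h (a • q) := by
      refine Fintype.sum_equiv (MulAction.toPerm a⁻¹) _ _ ?_
      intro q
      simp [MulAction.toPerm_apply]
    rw [h1]
    have h2 : ∀ q, φ q • h (a • q) = a • (φ q • h q) := by
      intro q
      rw [heq, hzs]
    simp only [h2]
    rw [← Finset.smul_sum, show ∑ q, φ q • h q = 0 from hφ, smul_zero]
  let _ : MulAction A K :=
    { smul := fun a φ => ⟨fun q => φ.1 (a⁻¹ • q), hinv a φ.1 φ.2⟩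
      one_smul := by
        intro φ
        apply Subtype.ext
        funext q
        show φ.1 ((1 : A)⁻¹ • q) = φ.1 q
        simp
      mul_smul := by
        intro a b φ
        apply Subtype.ext
        funext q
        show φ.1 ((a * b)⁻¹ • q) = φ.1 (b⁻¹ • (a⁻¹ • q))
        rw [mul_inv_rev, mul_smul] }
  have hKbot : K = ⊥ := by
    by_contra hK
    have hcard : p ∣ Nat.card K := by
      have h1 : (Nat.card K) ∣ Nat.card (X → ZMod p) := AddSubgroup.card_addSubgroup_dvd_card K
      have h2 : Nat.card (X → ZMod p) = p ^ Nat.card X := by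
        rw [Nat.card_fun]
        · simp
      rw [h2, Nat.dvd_prime_pow Fact.out] at h1
      obtain ⟨k, -, hk⟩ := h1
      rcases Nat.eq_zero_or_pos k with hk0 | hk0
      · exfalso
        apply hK
        rw [hk0, pow_zero] at hk
        exact AddSubgroup.eq_bot_of_card_eq K hk
      · rw [hk]
        exact dvd_pow_self p (Nat.pos_iff_ne_zero.mp hk0)
    obtain ⟨φ, hφf, hφ0⟩ := hA.exists_fixed_point_of_prime_dvd_card_of_fixed_point K hcard
      (a := (0 : K)) (by
        intro a
        apply Subtype.ext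
        rfl)
    -- φ is constant
    have hconst : ∀ q q' : X, φ.1 q = φ.1 q' := by
      intro q q'
      obtain ⟨a, ha⟩ := htr.exists_smul_eq q q'
      have h1 := congrArg (fun ψ : K => ψ.1 q') (hφf a)
      have h2 : φ.1 (a⁻¹ • q') = φ.1 q' := h1
      rw [← ha, inv_smul_smul] at h2
      rw [h2, ha]
    obtain ⟨q0, hq0⟩ : ∃ q, φ.1 q ≠ 0 := by
      by_contra hcon
      push Not at hcon
      exact hφ0 (Subtype.ext (funext fun q => (hcon q).symm))
    have h3 : ∑ q, φ.1 q • h q = 0 := φ.2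
    have h4 : ∑ q, φ.1 q • h q = φ.1 q0 • ∑ q, h q := by
      rw [Finset.smul_sum]
      exact Finset.sum_congr rfl fun q _ => by rw [hconst q q0]
    rw [h4] at h3
    exact hne ((smul_eq_zero_iff_right hq0).mp h3)
  intro φ ψ hφψ
  have h5 : φ - ψ ∈ K := by
    show ∑ q, (φ - ψ) q • h q = 0
    simp only [Pi.sub_apply, sub_smul, Finset.sum_sub_distrib]
    exact sub_eq_zero.mpr hφψ
  rw [hKbot, AddSubgroup.mem_bot] at h5
  exact sub_eq_zero.mp h5

theorem smul_nsmul' (g : Γ) (n : ℕ) (v : V) : g • (n • v) = n • (g • v) :=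
  map_nsmul (DistribSMul.toAddMonoidHom V g) n v

/-- the torsion as a module -/
@[implicit_reducible]
def torModule (V : Type*) [AddCommGroup V] (p : ℕ) : Module (ZMod p) (tor V p) :=
  AddCommGroup.zmodModule (fun x => Subtype.ext x.2)

@[implicit_reducible]
def torAction (V : Type*) [AddCommGroup V] [DistribMulAction Γ V] (p : ℕ) (A : Subgroup Γ) :
    DistribMulAction A (tor V p) where
  smul a v := ⟨(a : Γ) • (v : V), by
    show p • ((a : Γ) • (v : V)) = 0
    rw [← smul_nsmul', show p • (v : V) = 0 from v.2, smul_zero]⟩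
  one_smul v := Subtype.ext (one_smul Γ (v : V))
  mul_smul a b v := Subtype.ext (mul_smul (a : Γ) (b : Γ) (v : V))
  smul_zero a := Subtype.ext (smul_zero (a : Γ))
  smul_add a v w := Subtype.ext (smul_add (a : Γ) (v : V) (w : V))

theorem trace_ne {p : ℕ} [Fact p.Prime] [Finite V] {X : Type*} [MulAction Γ X] [Finite Γ]
    {A : Subgroup Γ} (hA : IsPGroup p A) (hab : ∀ a ∈ A, ∀ b ∈ A, a * b = b * a) (hOff : Off V p A)
    (h : X → V) (hp : ∀ q, p • h q = 0) (heq : ∀ a ∈ A, ∀ q, h (a • q) = a • h q) (q : X)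
    (O : Finset X) (hO : ∀ y, y ∈ O ↔ y ∈ MulAction.orbit A q) (hne : ∑ y ∈ O, h y ≠ 0) :
    (∀ a ∈ A, a • q = q) ∨
      (p = 2 ∧ (A ⊓ MulAction.stabilizer Γ q).relIndex A = 2 ∧
        2 ≤ (fw V p A).relIndex (fw V p (A ⊓ MulAction.stabilizer Γ q)) ∧ h q ∉ fx V A) := by
  classical
  set B : Subgroup Γ := A ⊓ MulAction.stabilizer Γ q with hB
  let _ := torModule V p
  let _ := torAction V p A
  -- the orbit as a type
  let _ : MulAction A O :=
    { smul := fun a y => ⟨(a : Γ) • (y : X), by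
        rw [hO]
        obtain ⟨b, hb⟩ := (hO y).mp y.2
        refine ⟨a * b, ?_⟩
        show ((a * b : A) : Γ) • q = _
        rw [← hb]
        exact mul_smul (a : Γ) (b : Γ) q⟩
      one_smul := fun y => Subtype.ext (one_smul Γ (y : X))
      mul_smul := fun a b y => Subtype.ext (mul_smul (a : Γ) (b : Γ) (y : X)) }
  have htr : MulAction.IsPretransitive A O := by
    refine ⟨fun y z => ?_⟩
    obtain ⟨b, hb⟩ := (hO y).mp y.2
    obtain ⟨c, hc⟩ := (hO z).mp z.2
    refine ⟨c * b⁻¹, Subtype.ext ?_⟩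
    show ((c * b⁻¹ : A) : Γ) • (y : X) = z
    rw [← hb, ← hc]
    show ((c : Γ) * (b : Γ)⁻¹) • ((b : Γ) • q) = (c : Γ) • q
    rw [smul_smul]
    congr 1
    group
  let h' : O → tor V p := fun y => ⟨h y, hp y⟩
  have hsum : ((∑ y, h' y : tor V p) : V) = ∑ y ∈ O, h y := by
    rw [AddSubgroup.val_finsetSum]
    exact Finset.sum_coe_sort O h
  have hinj := trace_inj (p := p) (A := A) (X := O) (W := tor V p) hA htr h'
    (fun a y => Subtype.ext (heq a a.2 y))
    (by
      intro h0
      apply hne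
      rw [← hsum, h0]
      rfl)
  -- cardinality of the orbit
  have hcardO : Fintype.card O = B.relIndex A := by
    have h1 : Nat.card (MulAction.orbit A q) = (MulAction.stabilizer A q).index :=
      (MulAction.index_stabilizer A q).symm ▸ rfl
    have h2 : MulAction.stabilizer A q = B.subgroupOf A := by
      ext a
      rw [Subgroup.mem_subgroupOf, MulAction.mem_stabilizer_iff]
      constructor
      · intro ha
        exact ⟨a.2, ha⟩
      · intro ha
        exact ha.2
    have h3 : Fintype.card O = Nat.card (MulAction.orbit A q) := by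
      rw [← Nat.card_eq_fintype_card]
      apply Nat.card_congr
      exact Equiv.subtypeEquivRight (fun y => hO y)
    rw [h3, h1, h2]
    rfl
  set n := Fintype.card O with hn
  have hcardO' : n = B.relIndex A := hcardO
  -- B fixes every value
  have hBfix : ∀ y ∈ O, h y ∈ fw V p B := by
    intro y hy
    refine ⟨hp y, ?_⟩
    intro b hb
    obtain ⟨a, ha⟩ := (hO y).mp hy
    have ha' : (a : Γ) • q = y := ha
    rw [← heq b hb.1]
    congr 1
    rw [← ha', smul_smul, hab b hb.1 a a.2, ← smul_smul]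
    congr 1
    exact hb.2
  -- the linear map as an additive map into V
  let Φ : (O → ZMod p) →+ V :=
    { toFun := fun φ => ((∑ y, φ y • h' y : tor V p) : V)
      map_zero' := by simp
      map_add' := by
        intro φ ψ
        simp only [Pi.add_apply, add_smul, Finset.sum_add_distrib]
        rfl }
  have hΦinj : Function.Injective Φ := by
    intro φ ψ hφψ
    exact hinj (Subtype.ext hφψ)
  have hRle : Φ.range ≤ fw V p B := by
    rintro _ ⟨φ, rfl⟩
    show ((∑ y, φ y • h' y : tor V p) : V) ∈ fw V p B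
    rw [AddSubgroup.val_finsetSum]
    apply AddSubgroup.sum_mem
    intro y _
    have h1 : φ y = ((φ y).val : ZMod p) := (ZMod.natCast_zmod_val _).symm
    have h2 : ((φ y • h' y : tor V p) : V) = (φ y).val • h y := by
      conv_lhs => rw [h1]
      rw [Nat.cast_smul_eq_nsmul]
      rfl
    rw [h2]
    exact AddSubgroup.nsmul_mem _ (hBfix y y.2) _
  have hRcard : Nat.card Φ.range = p ^ n := by
    rw [← Nat.card_congr (AddMonoidHom.ofInjective hΦinj).toEquiv, Nat.card_fun]
    simp [hn]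
  have hΦeq : ∀ (a : A) (φ : O → ZMod p), (a : Γ) • Φ φ = Φ (fun y => φ (a⁻¹ • y)) := by
    intro a φ
    show (a : Γ) • ((∑ y, φ y • h' y : tor V p) : V) = ((∑ y, φ (a⁻¹ • y) • h' y : tor V p) : V)
    rw [AddSubgroup.val_finsetSum, AddSubgroup.val_finsetSum, Finset.smul_sum]
    have hval : ∀ (c : ZMod p) (y : O), ((c • h' y : tor V p) : V) = c.val • h y := by
      intro c y
      conv_lhs => rw [show c = ((c.val : ℕ) : ZMod p) from (ZMod.natCast_zmod_val _).symm]
      rw [Nat.cast_smul_eq_nsmul]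
      rfl
    simp only [hval]
    refine Fintype.sum_equiv (MulAction.toPerm a) _ _ ?_
    intro y
    rw [MulAction.toPerm_apply, inv_smul_smul, smul_nsmul']
    congr 1
    exact (heq a a.2 y).symm
  have hint : Nat.card ↥(fw V p A ⊓ Φ.range) ≤ p := by
    -- constants
    have h1 : ∀ v ∈ fw V p A ⊓ Φ.range, ∃ c : ZMod p, v = Φ (fun _ => c) := by
      rintro v ⟨hv1, φ, rfl⟩
      have h2 : ∀ a : A, (fun y => φ (a⁻¹ • y)) = φ := by
        intro a
        apply hΦinj
        rw [← hΦeq]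
        exact hv1.2 a a.2
      have hq : q ∈ O := (hO q).mpr (MulAction.mem_orbit_self q)
      refine ⟨φ ⟨q, hq⟩, ?_⟩
      congr 1
      funext y
      obtain ⟨a, ha⟩ := htr.exists_smul_eq (⟨q, hq⟩ : O) y
      have h3 := congrFun (h2 a) y
      have h4 : φ (a⁻¹ • y) = φ y := h3
      rw [← h4, ← ha, inv_smul_smul]
    let g : ↥(fw V p A ⊓ Φ.range) → ZMod p := fun v => (h1 v.1 v.2).choose
    have hg : Function.Injective g := by
      intro v w hvw
      apply Subtype.ext
      rw [(h1 v.1 v.2).choose_spec, (h1 w.1 w.2).choose_spec]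
      show Φ (fun _ => g v) = Φ (fun _ => g w)
      rw [hvw]
    calc Nat.card ↥(fw V p A ⊓ Φ.range) ≤ Nat.card (ZMod p) := Nat.card_le_card_of_injective g hg
      _ = p := Nat.card_zmod p
  have hn0 : 0 < n := by
    rw [hn, Fintype.card_pos_iff]
    exact ⟨⟨q, (hO q).mpr (MulAction.mem_orbit_self q)⟩⟩
  have hrel : p ^ (n - 1) ≤ (fw V p A).relIndex (fw V p B) := by
    have h1 : (fw V p A).relIndex Φ.range ≤ (fw V p A).relIndex (fw V p B) :=
      AddSubgroup.relIndex_le_of_le_right hRle (AddSubgroup.index_ne_zero_of_finite)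
    refine le_trans ?_ h1
    have h2 : Nat.card ↥(fw V p A ⊓ Φ.range) * (fw V p A).relIndex Φ.range = p ^ n := by
      rw [← hRcard, ← AddSubgroup.inf_relIndex_right]
      rw [← AddSubgroup.relIndex_bot_left, ← AddSubgroup.relIndex_bot_left]
      exact AddSubgroup.relIndex_mul_relIndex _ _ _ bot_le inf_le_right
    have h3 : p * p ^ (n - 1) ≤ p * (fw V p A).relIndex Φ.range := by
      calc p * p ^ (n - 1) = p ^ n := by
            rw [← pow_succ']
            congr 1
            omega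
        _ = Nat.card ↥(fw V p A ⊓ Φ.range) * (fw V p A).relIndex Φ.range := h2.symm
        _ ≤ p * (fw V p A).relIndex Φ.range := Nat.mul_le_mul_right _ hint
    exact Nat.le_of_mul_le_mul_left h3 (Nat.Prime.pos Fact.out)
  have hle : p ^ (n - 1) ≤ n := by
    refine hrel.trans ?_
    rw [hcardO']
    exact hOff B inf_le_left
  have hp2 : 2 ≤ p := Nat.Prime.two_le Fact.out
  rcases Nat.lt_or_ge n 2 with h2 | h2
  · left
    have hn1 : n = 1 := by omega
    rw [hn1] at hcardO'
    intro a ha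
    have h3 : A ≤ B := Subgroup.relIndex_eq_one.mp hcardO'.symm
    exact (h3 ha).2
  · right
    have hn2 : n = 2 ∧ p = 2 := by
      by_contra hcon
      have h4 : n < p ^ (n - 1) := by
        rcases Nat.lt_or_ge 2 n with h5 | h5
        · have h6 : n < 2 ^ (n - 1) := by
            have h7 : ∀ m : ℕ, m + 3 < 2 ^ (m + 2) := by
              intro m
              induction m with
              | zero => norm_num
              | succ k ih =>
                have : 2 ^ (k + 1 + 2) = 2 ^ (k + 2) * 2 := by ring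
                omega
            have h8 := h7 (n - 3)
            rwa [show n - 3 + 3 = n by omega, show n - 3 + 2 = n - 1 by omega] at h8
          exact h6.trans_le (Nat.pow_le_pow_left hp2 _)
        · have h6 : n = 2 := by omega
          rw [h6]
          have h7 : p ≠ 2 := fun h8 => hcon ⟨h6, h8⟩
          norm_num
          omega
      omega
    obtain ⟨hn2, hp'⟩ := hn2
    refine ⟨hp', ?_, ?_, ?_⟩
    · rw [← hcardO', hn2]
    · have h5 := hrel
      rw [hn2, hp'] at h5
      rw [hp']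
      simpa using h5
    · intro hq
      apply hne
      have h6 : ∀ y ∈ O, h y = h q := by
        intro y hy
        obtain ⟨a, ha⟩ := (hO y).mp hy
        have ha' : (a : Γ) • q = y := ha
        rw [← ha', heq a a.2]
        exact hq a a.2
      rw [Finset.sum_congr rfl h6, Finset.sum_const]
      have h7 : O.card = 2 := by
        rw [← hn2, hn, Fintype.card_coe]
      rw [h7, ← hp']
      exact hp q

theorem main {p : ℕ} [Fact p.Prime] [Finite Γ] [Finite V] {M N J : Subgroup Γ} (hNM : N ≤ M) (hJN : J ≤ N)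
    (hJp : IsPGroup p J) {x : V} (hNx : ∀ g ∈ N, g • x = x) (hidx : ¬ p ∣ N.relIndex M)
    (hpx : ∀ g ∈ M, g • (p • x) = p • x) (hord : ∃ k : ℕ, p ^ k • x = 0)
    (hfix : ∀ g ∈ M, (∀ j ∈ J, g⁻¹ * j * g ∈ N) → g ∈ N)
    (𝒟 : Set (Subgroup Γ)) (hgen : J ≤ sSup {A | A ∈ 𝒟 ∧ A ≤ J})
    (hab : ∀ A ∈ 𝒟, A ≤ J → ∀ a ∈ A, ∀ b ∈ A, a * b = b * a) (hoff : ∀ A ∈ 𝒟, A ≤ J → Off V p A)
    (hbad : p = 2 → ∀ A ∈ 𝒟, A ≤ J → ∀ g ∈ M, (A ⊓ cj g N).relIndex A = 2 →
      2 ≤ (fw V p A).relIndex (fw V p (A ⊓ cj g N)) → g • x ∈ fx V A) :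
    ∀ g ∈ M, g • x = x := by
  classical
  have hJM : J ≤ M := hJN.trans hNM
  have _ := Fintype.ofFinite (Γ ⧸ N)
  let f : Γ ⧸ N → V := fun q => q.out • x
  have hf : ∀ g : Γ, f (g : Γ ⧸ N) = g • x := by
    intro g
    obtain ⟨n, hn⟩ := QuotientGroup.mk_out_eq_mul N g
    show (Quotient.out (g : Γ ⧸ N)) • x = g • x
    rw [hn, mul_smul, hNx n n.2]
  let S : Finset (Γ ⧸ N) := Finset.univ.filter (fun q => ∃ m ∈ M, q = (m : Γ ⧸ N))
  have hS : ∀ q, q ∈ S ↔ ∃ m ∈ M, q = (m : Γ ⧸ N) := fun q => by simp [S]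
  have hSinv : ∀ g ∈ M, ∀ q ∈ S, g • q ∈ S := by
    intro g hg q hq
    obtain ⟨m, hm, rfl⟩ := (hS q).mp hq
    exact (hS _).mpr ⟨g * m, M.mul_mem hg hm, rfl⟩
  have hSinv' : ∀ g ∈ M, ∀ q, g • q ∈ S ↔ q ∈ S := by
    intro g hg q
    constructor
    · intro h1
      have h2 := hSinv g⁻¹ (M.inv_mem hg) _ h1
      rwa [inv_smul_smul] at h2
    · exact hSinv g hg q
  have hfe : ∀ (g : Γ) (q : Γ ⧸ N), f (g • q) = g • f q := by
    intro g q
    induction q using QuotientGroup.induction_on with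
    | H m =>
      show f ((g * m : Γ) : Γ ⧸ N) = g • f (m : Γ ⧸ N)
      rw [hf, hf, mul_smul]
  let h : Γ ⧸ N → V := fun q => if q ∈ S then f q - x else 0
  have hp : ∀ q, p • h q = 0 := by
    intro q
    show p • (if q ∈ S then f q - x else 0) = 0
    split_ifs with hq
    · obtain ⟨m, hm, rfl⟩ := (hS q).mp hq
      rw [hf, smul_sub, ← smul_nsmul', hpx m hm, sub_self]
    · exact smul_zero _
  have heq : ∀ a ∈ J, ∀ q, h (a • q) = a • h q := by
    intro a ha q
    show (if a • q ∈ S then f (a • q) - x else 0) = a • (if q ∈ S then f q - x else 0)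
    by_cases hq : q ∈ S
    · rw [if_pos hq, if_pos (hSinv a (hJM ha) q hq), hfe, smul_sub, hNx a (hJN ha)]
    · rw [if_neg hq, if_neg (fun h1 => hq ((hSinv' a (hJM ha) q).mp h1)), smul_zero]
  -- base point
  let b0 : Γ ⧸ N := ((1 : Γ) : Γ ⧸ N)
  have hb0S : b0 ∈ S := (hS _).mpr ⟨1, M.one_mem, rfl⟩
  have hhb0 : h b0 = 0 := by
    show (if b0 ∈ S then f b0 - x else 0) = 0
    rw [if_pos hb0S]
    show f ((1 : Γ) : Γ ⧸ N) - x = 0
    rw [hf, one_smul, sub_self]
  -- J fixes only the base point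
  have hJfix : ∀ q ∈ S, (∀ j ∈ J, j • q = q) → q = b0 := by
    intro q hq hj
    obtain ⟨m, hm, rfl⟩ := (hS q).mp hq
    have h1 : m ∈ N := by
      apply hfix m hm
      intro j hjJ
      have h2 := hj j hjJ
      have h3 : ((j * m : Γ) : Γ ⧸ N) = (m : Γ ⧸ N) := h2
      rw [eq_comm, QuotientGroup.eq] at h3
      rwa [mul_assoc]
    show (m : Γ ⧸ N) = ((1 : Γ) : Γ ⧸ N)
    rw [eq_comm, QuotientGroup.eq]
    simpa using h1
  -- orbits of J
  have hJorb : ∀ q ∈ S, q ≠ b0 → ∀ O : Finset (Γ ⧸ N), (∀ y, y ∈ O ↔ y ∈ MulAction.orbit J q) →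
      ∑ y ∈ O, h y = 0 := by
    intro q hq hqb O hO
    set D : Subgroup Γ := J ⊓ MulAction.stabilizer Γ q with hD
    have hDJ : D.subgroupOf J ≠ ⊤ := by
      intro h1
      apply hqb
      apply hJfix q hq
      intro j hj
      have h2 : (⟨j, hj⟩ : J) ∈ D.subgroupOf J := h1 ▸ Subgroup.mem_top _
      exact (Subgroup.mem_subgroupOf.mp h2).2
    obtain ⟨D1, hD1, hDD1⟩ := (eq_top_or_exists_le_coatom (D.subgroupOf J)).resolve_left hDJ
    have hJnil : Group.IsNilpotent J := hJp.isNilpotent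
    have hD1n : D1.Normal := by
      apply Subgroup.NormalizerCondition.normal_of_coatom D1 _ hD1
      exact normalizerCondition_of_isNilpotent
    -- choose A
    obtain ⟨A, hA𝒟, hAJ, hAD⟩ : ∃ A ∈ 𝒟, A ≤ J ∧ ¬ A.subgroupOf J ≤ D1 := by
      by_contra hcon
      push Not at hcon
      have h1 : J ≤ D1.map J.subtype := by
        refine hgen.trans (sSup_le ?_)
        rintro A ⟨h2, h3⟩
        intro a ha
        exact ⟨⟨a, h3 ha⟩, hcon A h2 h3 (Subgroup.mem_subgroupOf.mpr ha), rfl⟩
      apply hD1.1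
      rw [eq_top_iff]
      rintro ⟨j, hj⟩ -
      obtain ⟨y, hy, hy2⟩ := h1 hj
      have : y = ⟨j, hj⟩ := Subtype.ext hy2
      rwa [this] at hy
    have hAp : IsPGroup p A := hJp.to_le hAJ
    apply sum_orbits (A := A) h O
    · intro y hy a
      rw [hO] at hy ⊢
      obtain ⟨j, hj⟩ := hy
      refine ⟨⟨a, hAJ a.2⟩ * j, ?_⟩
      show ((a : Γ) * (j : Γ)) • q = (a : Γ) • y
      rw [← hj]
      exact mul_smul _ _ _
    · intro y hy O' hO'
      by_contra hne
      rw [hO] at hy
      obtain ⟨j, hj⟩ := hy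
      have hj' : (j : Γ) • q = y := hj
      have hyS : y ∈ S := by
        rw [← hj']
        exact hSinv _ (hJM j.2) q hq
      rcases trace_ne hAp (hab A hA𝒟 hAJ) (hoff A hA𝒟 hAJ) h hp (fun a ha => heq a (hAJ ha)) y O' hO' hne
        with h1 | ⟨h1, h2, h3, h4⟩
      · -- A fixes y
        apply hAD
        intro a ha
        rw [Subgroup.mem_subgroupOf] at ha
        have h5 : (j⁻¹ * a * j : J) ∈ D.subgroupOf J := by
          rw [Subgroup.mem_subgroupOf]
          refine ⟨(j⁻¹ * a * j : J).2, ?_⟩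
          show ((j⁻¹ * a * j : J) : Γ) • q = q
          have h6 := h1 a ha
          rw [← hj'] at h6
          show ((j : Γ)⁻¹ * (a : Γ) * (j : Γ)) • q = q
          rw [mul_smul, mul_smul, h6, inv_smul_smul]
        have h7 := hD1n.conj_mem _ (hDD1 h5) j
        have h8 : j * (j⁻¹ * a * j) * j⁻¹ = a := by group
        rwa [h8] at h7
      · obtain ⟨m, hm, hym⟩ := (hS y).mp hyS
        have hst : A ⊓ MulAction.stabilizer Γ y = A ⊓ cj m N := by
          ext a
          simp only [Subgroup.mem_inf, MulAction.mem_stabilizer_iff]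
          refine and_congr_right fun _ => ?_
          rw [hym, mem_cj]
          constructor
          · intro h5
            have h6 : ((a * m : Γ) : Γ ⧸ N) = (m : Γ ⧸ N) := h5
            rw [eq_comm, QuotientGroup.eq] at h6
            rwa [mul_assoc]
          · intro h5
            show ((a * m : Γ) : Γ ⧸ N) = (m : Γ ⧸ N)
            rw [eq_comm, QuotientGroup.eq, ← mul_assoc]
            exact h5
        rw [hst] at h2 h3
        have h5 := hbad h1 A hA𝒟 hAJ m hm h2 h3
        apply h4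
        show (if y ∈ S then f y - x else 0) ∈ fx V A
        rw [if_pos hyS, hym, hf]
        apply AddSubgroup.sub_mem _ h5
        intro a ha
        exact hNx a (hJN (hAJ ha))
  -- total sum
  have hsum0 : ∑ q ∈ S, h q = 0 := by
    rw [← Finset.sum_erase S hhb0]
    apply sum_orbits (A := J) h
    · intro q hq j
      rw [Finset.mem_erase] at hq ⊢
      refine ⟨?_, hSinv _ (hJM j.2) q hq.2⟩
      intro h1
      apply hq.1
      have h2 : q = (j : Γ)⁻¹ • b0 := by
        rw [← h1]
        exact (inv_smul_smul (j : Γ) q).symm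
      rw [h2]
      show (((j : Γ)⁻¹ * 1 : Γ) : Γ ⧸ N) = ((1 : Γ) : Γ ⧸ N)
      rw [eq_comm, QuotientGroup.eq]
      simpa using hJN j.2
    · intro q hq O hO
      rw [Finset.mem_erase] at hq
      exact hJorb q hq.2 hq.1 O hO
  have hsumf : ∑ q ∈ S, f q = S.card • x := by
    have h1 : ∀ q ∈ S, h q = f q - x := fun q hq => if_pos hq
    rw [Finset.sum_congr rfl h1, Finset.sum_sub_distrib, Finset.sum_const] at hsum0
    exact sub_eq_zero.mp hsum0
  have hcard : S.card = N.relIndex M := by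
    have h1 : MulAction.stabilizer M b0 = N.subgroupOf M := by
      ext m
      rw [MulAction.mem_stabilizer_iff, Subgroup.mem_subgroupOf]
      show (((m : Γ) * 1 : Γ) : Γ ⧸ N) = ((1 : Γ) : Γ ⧸ N) ↔ _
      rw [eq_comm, QuotientGroup.eq]
      simp
    show S.card = (N.subgroupOf M).index
    rw [← h1, MulAction.index_stabilizer, ← Set.ncard_coe_finset]
    congr 1
    ext q
    rw [Finset.mem_coe, hS]
    constructor
    · rintro ⟨m, hm, rfl⟩
      refine ⟨⟨m, hm⟩, ?_⟩
      show ((m * 1 : Γ) : Γ ⧸ N) = _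
      rw [mul_one]
    · rintro ⟨m, rfl⟩
      refine ⟨m, m.2, ?_⟩
      show (((m : Γ) * 1 : Γ) : Γ ⧸ N) = _
      rw [mul_one]
  intro g hg
  have h1 : g • ∑ q ∈ S, f q = ∑ q ∈ S, f q := by
    rw [Finset.smul_sum]
    have h2 : ∀ q ∈ S, g • f q = f (g • q) := fun q _ => (hfe g q).symm
    rw [Finset.sum_congr rfl h2]
    exact Finset.sum_bijective (fun q => g • q) (MulAction.bijective g) (fun q => (hSinv' g hg q).symm)
      (fun _ _ => rfl)
  rw [hsumf, smul_nsmul', hcard] at h1
  obtain ⟨k, hk⟩ := hord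
  have h2 : N.relIndex M • (g • x - x) = 0 := by
    rw [smul_sub, h1, sub_self]
  have h3 : p ^ k • (g • x - x) = 0 := by
    rw [smul_sub, ← smul_nsmul', hk, smul_zero, sub_zero]
  have h4 : Nat.Coprime (N.relIndex M) (p ^ k) :=
    Nat.Coprime.pow_right k ((Nat.Prime.coprime_iff_not_dvd Fact.out).mpr hidx).symm
  have h5 : addOrderOf (g • x - x) = 1 := by
    apply Nat.eq_one_of_dvd_coprimes h4
    · exact addOrderOf_dvd_of_nsmul_eq_zero h2
    · exact addOrderOf_dvd_of_nsmul_eq_zero h3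
  rw [AddMonoid.addOrderOf_eq_one_iff] at h5
  exact sub_eq_zero.mp h5

end Cfsg.Agent.H17.Tr
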