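import Cfsg.Agent.H17_Tr
import Cfsg.Agent.H4_BaerSuzuki

set_option autoImplicit false
open Cfsg

/-! The prime 2: four-groups with full automizer. -/

namespace Cfsg.Agent.H17.Tr

open Cfsg.Agent.H17.Base

/-- a Klein four-group of `V` on which `Γ` induces `S₃` -/
def Bad4 (Γ V : Type*) [Group Γ] [AddCommGroup V] [DistribMulAction Γ V] : Prop :=
  ∃ (c d : Γ) (u v : V), u ≠ 0 ∧ v ≠ 0 ∧ u ≠ v ∧ 2 • u = 0 ∧ 2 • v = 0 ∧ c • u = v ∧ c • v = u + v ∧
    d • u = v ∧ d • v = u

theorem bs2 {W : Type*} [AddCommGroup W] (h2 : ∀ w : W, w + w = 0) {t s : Equiv.Perm W} {u v : W}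
    (hta : ∀ w w', t (w + w') = t w + t w') (hsa : ∀ w w', s (w + w') = s w + s w')
    (ht : ∀ w, t w = w ∨ t w = w + u) (hs : ∀ w, s w = w ∨ s w = w + v) (htu : t u = u) (hsv : s v = v)
    (htv : t v = v) : IsPGroup 2 ↥(Subgroup.closure {t, s}) := by
  let U : AddSubgroup W := AddSubgroup.closure {u, v}
  let Z : AddSubgroup W := AddSubgroup.closure {v}
  have hZU : Z ≤ U := AddSubgroup.closure_mono (by intro x hx; right; exact hx)
  have huU : u ∈ U := AddSubgroup.subset_closure (Or.inl rfl)
  have hvU : v ∈ U := AddSubgroup.subset_closure (Or.inr rfl)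
  have hvZ : v ∈ Z := AddSubgroup.subset_closure rfl
  let Q : Subgroup (Equiv.Perm W) :=
    { carrier := {d | (∀ w, d w - w ∈ U) ∧ (∀ y ∈ U, d y - y ∈ Z) ∧ (∀ z ∈ Z, d z = z) ∧
        ∀ w w', d (w + w') = d w + d w'}
      mul_mem' := by
        rintro a b ⟨a1, a2, a3, a4⟩ ⟨b1, b2, b3, b4⟩
        refine ⟨?_, ?_, ?_, ?_⟩
        · intro w
          have : (a * b) w - w = (a (b w) - b w) + (b w - w) := by
            rw [Equiv.Perm.mul_apply]; abel
          rw [this]
          exact U.add_mem (a1 _) (b1 _)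
        · intro y hy
          have : (a * b) y - y = (a (b y) - b y) + (b y - y) := by
            rw [Equiv.Perm.mul_apply]; abel
          rw [this]
          apply Z.add_mem _ (b2 y hy)
          apply a2
          have h5 := U.add_mem (hZU (b2 y hy)) hy
          rwa [sub_add_cancel] at h5
        · intro z hz
          rw [Equiv.Perm.mul_apply, b3 z hz, a3 z hz]
        · intro w w'
          rw [Equiv.Perm.mul_apply, b4, a4]
          rfl
      one_mem' := by
        refine ⟨?_, ?_, ?_, ?_⟩
        · intro w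
          simp
        · intro w _
          simp
        · intro w _
          rfl
        · intro w w'
          rfl
      inv_mem' := by
        rintro a ⟨a1, a2, a3, a4⟩
        have h3 : ∀ w, a (a⁻¹ w) = w := fun w => Equiv.apply_symm_apply a w
        have hU : ∀ w, a⁻¹ w - w ∈ U := by
          intro w
          have h4 := a1 (a⁻¹ w)
          rw [h3] at h4
          have h5 := U.neg_mem h4
          rwa [neg_sub] at h5
        refine ⟨hU, ?_, ?_, ?_⟩
        · intro y hy
          have h6 : a⁻¹ y ∈ U := by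
            have h5 := U.add_mem (hU y) hy
            rwa [sub_add_cancel] at h5
          have h4 := a2 _ h6
          rw [h3] at h4
          have h5 := Z.neg_mem h4
          rwa [neg_sub] at h5
        · intro z hz
          have h4 := a3 z hz
          have h5 : a⁻¹ (a z) = z := Equiv.symm_apply_apply a z
          rw [h4] at h5
          exact h5
        · intro w w'
          apply a.injective
          rw [a4, h3, h3, h3] }
  have htQ : t ∈ Q := by
    refine ⟨?_, ?_, ?_, hta⟩
    · intro w
      rcases ht w with h | h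
      · rw [h, sub_self]
        exact U.zero_mem
      · rw [h, add_sub_cancel_left]
        exact huU
    · intro y hy
      have h3 : t y = y := by
        induction hy using AddSubgroup.closure_induction with
        | mem x hx =>
          rcases hx with rfl | rfl
          · exact htu
          · exact htv
        | zero =>
          have := hta 0 0
          rw [add_zero] at this
          exact (left_eq_add.mp this)
        | add x y _ _ hx hy => rw [hta, hx, hy]
        | neg x _ hx =>
          have h9 : -x = x := (eq_neg_of_add_eq_zero_left (h2 x)).symm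
          rw [h9, hx]
      rw [h3, sub_self]
      exact Z.zero_mem
    · intro z hz
      induction hz using AddSubgroup.closure_induction with
      | mem x hx =>
        rcases hx with rfl
        exact htv
      | zero =>
        have := hta 0 0
        rw [add_zero] at this
        exact (left_eq_add.mp this)
      | add x y _ _ hx hy => rw [hta, hx, hy]
      | neg x _ hx =>
        have h9 : -x = x := (eq_neg_of_add_eq_zero_left (h2 x)).symm
        rw [h9, hx]
  have hsQ : s ∈ Q := by
    refine ⟨?_, ?_, ?_, hsa⟩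
    · intro w
      rcases hs w with h | h
      · rw [h, sub_self]
        exact U.zero_mem
      · rw [h, add_sub_cancel_left]
        exact hvU
    · intro y _
      rcases hs y with h | h
      · rw [h, sub_self]
        exact Z.zero_mem
      · rw [h, add_sub_cancel_left]
        exact hvZ
    · intro z hz
      induction hz using AddSubgroup.closure_induction with
      | mem x hx =>
        rcases hx with rfl
        exact hsv
      | zero =>
        have := hsa 0 0
        rw [add_zero] at this
        exact (left_eq_add.mp this)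
      | add x y _ _ hx hy => rw [hsa, hx, hy]
      | neg x _ hx =>
        have h9 : -x = x := (eq_neg_of_add_eq_zero_left (h2 x)).symm
        rw [h9, hx]
  have hQ : ∀ d ∈ Q, d ^ 4 = 1 := by
    rintro d ⟨d1, d2, d3, d4⟩
    ext w
    have e1 : d w = w + (d w - w) := by abel
    set u1 := d w - w with hu1
    have e2 : d u1 = u1 + (d u1 - u1) := by abel
    have hz1 := d2 u1 (d1 w)
    set z1 := d u1 - u1 with hz1'
    have e3 : d z1 = z1 := d3 _ hz1
    have e4 : d (d w) = w + z1 := by
      rw [e1, d4, e1, e2]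
      have : w + u1 + (u1 + z1) = w + z1 + (u1 + u1) := by abel
      rw [this, h2, add_zero]
    have e5 : (d ^ 4) w = d (d (d (d w))) := rfl
    rw [e5, e4, d4, d4, e3, e3, e4]
    have : w + z1 + z1 = w + (z1 + z1) := by abel
    rw [this, h2, add_zero]
    rfl
  have hle : Subgroup.closure {t, s} ≤ Q := by
    rw [Subgroup.closure_le]
    rintro x (rfl | rfl)
    · exact htQ
    · exact hsQ
  rintro ⟨d, hd⟩
  exact ⟨2, Subtype.ext (hQ d (hle hd))⟩

variable {Γ : Type*} [Group Γ] {V : Type*} [AddCommGroup V] [DistribMulAction Γ V]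

theorem bad4_of [Finite Γ] [Finite V] {M : Subgroup Γ} {W : AddSubgroup V} (hW : ∀ g ∈ M, ∀ w ∈ W, g • w ∈ W)
    (hW2 : ∀ w ∈ W, 2 • w = 0)
    (hO : ∀ Y ≤ M, M ≤ Nz Y → (∀ y ∈ Y, ∃ k : ℕ, ∀ w ∈ W, y ^ (2 ^ k) • w = w) → ∀ y ∈ Y, ∀ w ∈ W, y • w = w)
    {a : Γ} (ha : a ∈ M) {w0 : V} (hw0 : w0 ∈ W) (hw0a : a • w0 ≠ w0)
    (ha2 : ∀ w ∈ W, a • a • w = w) {u : V} (hau : ∀ w ∈ W, a • w = w ∨ a • w = w + u) : Bad4 Γ V := by
  -- the action on W
  let ρ : M →* Equiv.Perm W :=
    { toFun := fun g =>
        { toFun := fun w => ⟨(g : Γ) • (w : V), hW g g.2 w w.2⟩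
          invFun := fun w => ⟨(g : Γ)⁻¹ • (w : V), hW _ (M.inv_mem g.2) w w.2⟩
          left_inv := fun w => Subtype.ext (inv_smul_smul _ _)
          right_inv := fun w => Subtype.ext (smul_inv_smul _ _) }
      map_one' := by
        ext w
        exact one_smul Γ (w : V)
      map_mul' := by
        intro g h
        ext w
        exact mul_smul (g : Γ) (h : Γ) (w : V) }
  have hρ : ∀ (g : M) (w : W), ((ρ g w : W) : V) = (g : Γ) • (w : V) := fun _ _ => rfl
  have huw : a • w0 = w0 + u := (hau w0 hw0).resolve_left hw0a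
  have huW : u ∈ W := by
    have h1 := W.sub_mem (hW a ha w0 hw0) hw0
    rwa [huw, add_sub_cancel_left] at h1
  have hu0 : u ≠ 0 := by
    rintro rfl
    rw [add_zero] at huw
    exact hw0a huw
  have h22 : ∀ w ∈ W, w + w = 0 := by
    intro w hw
    rw [← two_nsmul]
    exact hW2 w hw
  have hauu : a • u = u := by
    have h1 : a • a • w0 = w0 := ha2 w0 hw0
    rw [huw, smul_add, huw, add_assoc] at h1
    have h2 : u + a • u = 0 := by
      have := h1
      rwa [add_eq_left] at this
    have h3 := h22 u huW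
    have h4 : a • u = -u := eq_neg_of_add_eq_zero_right h2
    rw [h4]
    exact (eq_neg_of_add_eq_zero_left h3).symm
  let a' : M := ⟨a, ha⟩
  let H : Subgroup (Equiv.Perm W) := ρ.range
  let abar : H := ⟨ρ a', a', rfl⟩
  have habar2 : abar ^ 2 = 1 := by
    apply Subtype.ext
    show (ρ a') ^ 2 = 1
    ext w
    rw [pow_two]
    exact ha2 w w.2
  have hXp : IsPGroup 2 ↥(Subgroup.zpowers abar) := by
    have h1 : orderOf abar ∣ 2 ^ 1 := by
      rw [pow_one]
      exact orderOf_dvd_of_pow_eq_one habar2
    obtain ⟨k, -, hk⟩ := (Nat.dvd_prime_pow Nat.prime_two).mp h1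
    exact zpowers_isPGroup_of_orderOf hk
  -- Baer–Suzuki
  obtain ⟨g, hg⟩ : ∃ g : H, ¬ IsPGroup 2 ↥(Subgroup.zpowers abar ⊔
      (Subgroup.zpowers abar).map (MulAut.conj g).toMonoidHom) := by
    by_contra hcon
    push Not at hcon
    obtain ⟨N, hN, hNp, hXN⟩ := Cfsg.Agent.H4.BaerSuzuki.baer_suzuki _ hXp hcon
    let Y : Subgroup Γ := (N.comap ρ.rangeRestrict).map M.subtype
    have h1 : ∀ y ∈ Y, ∀ w ∈ W, y • w = w := by
      apply hO Y
      · exact Subgroup.map_subtype_le _
      · rw [le_Nz_iff]
        rintro m hm y ⟨y', hy', rfl⟩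
        refine ⟨⟨m, hm⟩ * y' * ⟨m, hm⟩⁻¹, ?_, rfl⟩
        have h2 := (hN.comap ρ.rangeRestrict).conj_mem y' hy' ⟨m, hm⟩
        exact h2
      · rintro y ⟨y', hy', rfl⟩
        obtain ⟨k, hk⟩ := hNp ⟨_, hy'⟩
        refine ⟨k, ?_⟩
        intro w hw
        have h2 : (ρ y') ^ (2 ^ k) = 1 := by
          have h3 := congrArg Subtype.val (congrArg Subtype.val hk)
          exact h3
        rw [← map_pow] at h2
        have h4 := congrArg (fun e : Equiv.Perm W => ((e ⟨w, hw⟩ : W) : V)) h2
        exact h4
    apply hw0a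
    apply h1 a _ w0 hw0
    refine ⟨a', ?_, rfl⟩
    exact hXN (Subgroup.mem_zpowers abar)
  obtain ⟨_, g, rfl⟩ := g
  -- transport
  set b : Γ := (g : Γ) * a * (g : Γ)⁻¹ with hb
  set v : V := (g : Γ) • u with hv
  have hvW : v ∈ W := hW _ g.2 _ huW
  have hv0 : v ≠ 0 := by
    intro h1
    apply hu0
    rw [hv] at h1
    exact (smul_eq_zero_iff_eq _).mp h1
  have hbw : ∀ w ∈ W, b • w = w ∨ b • w = w + v := by
    intro w hw
    have h1 : b • w = (g : Γ) • (a • ((g : Γ)⁻¹ • w)) := by
      rw [hb, mul_smul, mul_smul]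
    rcases hau _ (hW _ (M.inv_mem g.2) w hw) with h2 | h2
    · left
      rw [h1, h2, smul_inv_smul]
    · right
      rw [h1, h2, smul_add, smul_inv_smul]
  have hbv : b • v = v := by
    rw [hb, hv, mul_smul, mul_smul, inv_smul_smul, hauu]
  let b' : M := g * a' * g⁻¹
  have hcl : ¬ IsPGroup 2 ↥(Subgroup.closure {ρ a', ρ b'}) := by
    intro h1
    apply hg
    have h2 : (Subgroup.zpowers abar ⊔ (Subgroup.zpowers abar).map
        (MulAut.conj (⟨ρ g, g, rfl⟩ : H)).toMonoidHom).map H.subtype ≤ Subgroup.closure {ρ a', ρ b'} := by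
      rw [Subgroup.map_sup, sup_le_iff, MonoidHom.map_zpowers, MonoidHom.map_zpowers, MonoidHom.map_zpowers,
        Subgroup.zpowers_le, Subgroup.zpowers_le]
      constructor
      · exact Subgroup.subset_closure (Or.inl rfl)
      · apply Subgroup.subset_closure
        right
        show ρ g * ρ a' * (ρ g)⁻¹ = ρ b'
        rw [← map_inv, ← map_mul, ← map_mul]
    have h3 := h1.to_le h2
    exact h3.of_equiv (Subgroup.equivMapOfInjective _ _ H.subtype_injective).symm
  have hW22 : ∀ w : W, w + w = 0 := fun w => Subtype.ext (h22 w w.2)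
  have hρadd : ∀ (g : M) (w w' : W), ρ g (w + w') = ρ g w + ρ g w' := fun g w w' =>
    Subtype.ext (smul_add (g : Γ) (w : V) (w' : V))
  have hat : ∀ w : W, ρ a' w = w ∨ ρ a' w = w + ⟨u, huW⟩ := by
    intro w
    rcases hau w w.2 with h | h
    · exact Or.inl (Subtype.ext h)
    · exact Or.inr (Subtype.ext h)
  have hbt : ∀ w : W, ρ b' w = w ∨ ρ b' w = w + ⟨v, hvW⟩ := by
    intro w
    rcases hbw w w.2 with h | h
    · exact Or.inl (Subtype.ext h)
    · exact Or.inr (Subtype.ext h)
  have hav : a • v ≠ v := by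
    intro h1
    apply hcl
    exact bs2 hW22 (hρadd a') (hρadd b') hat hbt (Subtype.ext hauu) (Subtype.ext hbv) (Subtype.ext h1)
  have hbu : b • u ≠ u := by
    intro h1
    apply hcl
    rw [Set.pair_comm]
    exact bs2 hW22 (hρadd b') (hρadd a') hbt hat (Subtype.ext hbv) (Subtype.ext hauu) (Subtype.ext h1)
  have hav' : a • v = v + u := (hau v hvW).resolve_left hav
  have hbu' : b • u = u + v := (hbw u huW).resolve_left hbu
  have huu : u + u = 0 := h22 u huW
  have hvv : v + v = 0 := h22 v hvW
  refine ⟨a * b, a * b * a, u, v, hu0, hv0, ?_, hW2 u huW, hW2 v hvW, ?_, ?_, ?_, ?_⟩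
  · rintro h1
    apply hav
    rw [← h1]
    exact hauu
  · rw [mul_smul, hbu', smul_add, hauu, hav', add_comm v u, ← add_assoc, huu, zero_add]
  · rw [mul_smul, hbv, hav', add_comm]
  · rw [mul_smul, mul_smul, hauu, hbu', smul_add, hauu, hav', add_comm v u, ← add_assoc, huu, zero_add]
  · rw [mul_smul, mul_smul, hav', smul_add, hbv, hbu', add_comm u v, ← add_assoc, hvv, zero_add, hauu]

end Cfsg.Agent.H17.Tr
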