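import Cfsg.Agent.H17_Tr2

set_option autoImplicit false
open Cfsg

/-! Fixed points of normalizers of weak closures of offenders. -/

namespace Cfsg.Agent.H17.Tr

open Cfsg.Agent.H17.Base

variable {Γ : Type*} [Group Γ]

/-- the subgroup generated by the members of `𝒟` in `P` -/
def Jf (𝒟 : Set (Subgroup Γ)) (P : Subgroup Γ) : Subgroup Γ := sSup {A | A ∈ 𝒟 ∧ A ≤ P}

theorem Jf_le (𝒟 : Set (Subgroup Γ)) (P : Subgroup Γ) : Jf 𝒟 P ≤ P := sSup_le fun _ h => h.2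

theorem le_Jf {𝒟 : Set (Subgroup Γ)} {P A : Subgroup Γ} (h1 : A ∈ 𝒟) (h2 : A ≤ P) : A ≤ Jf 𝒟 P :=
  le_sSup ⟨h1, h2⟩

theorem Jf_mono {𝒟 : Set (Subgroup Γ)} {P Q : Subgroup Γ} (h : P ≤ Q) : Jf 𝒟 P ≤ Jf 𝒟 Q :=
  sSup_le fun _ h1 => le_Jf h1.1 (h1.2.trans h)

/-- if `J(P) ≤ Q` then `J(P) ≤ J(Q)` -/
theorem Jf_le_Jf {𝒟 : Set (Subgroup Γ)} {P Q : Subgroup Γ} (h : Jf 𝒟 P ≤ Q) : Jf 𝒟 P ≤ Jf 𝒟 Q :=
  sSup_le fun _ h1 => le_Jf h1.1 ((le_Jf h1.1 h1.2).trans h)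

theorem Jf_Jf (𝒟 : Set (Subgroup Γ)) (P : Subgroup Γ) : Jf 𝒟 (Jf 𝒟 P) = Jf 𝒟 P :=
  le_antisymm (Jf_le _ _) (Jf_le_Jf le_rfl)

def CjInv (𝒟 : Set (Subgroup Γ)) : Prop := ∀ g A, A ∈ 𝒟 → cj g A ∈ 𝒟

theorem cj_Jf_le {𝒟 : Set (Subgroup Γ)} (h : CjInv 𝒟) (g : Γ) (P : Subgroup Γ) :
    cj g (Jf 𝒟 P) ≤ Jf 𝒟 (cj g P) := by
  rw [cj_le_iff]
  refine sSup_le fun A hA => ?_
  rw [← cj_le_iff]
  exact le_Jf (h g A hA.1) (cj_mono hA.2)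

theorem Jf_cj {𝒟 : Set (Subgroup Γ)} (h : CjInv 𝒟) (g : Γ) (P : Subgroup Γ) :
    Jf 𝒟 (cj g P) = cj g (Jf 𝒟 P) := by
  apply le_antisymm _ (cj_Jf_le h g P)
  have h1 := cj_Jf_le h g⁻¹ (cj g P)
  rw [cj_inv_cj, cj_le_iff, inv_inv] at h1
  exact h1

theorem Nz_le_Nz_Jf {𝒟 : Set (Subgroup Γ)} (h : CjInv 𝒟) (P : Subgroup Γ) : Nz P ≤ Nz (Jf 𝒟 P) := by
  intro g hg
  rw [mem_Nz_iff_cj] at hg ⊢
  rw [← Jf_cj h, hg]

variable {V : Type*} [AddCommGroup V] [DistribMulAction Γ V]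

theorem mem_fx_cj {g : Γ} {B : Subgroup Γ} {v : V} : g • v ∈ fx V (cj g B) ↔ v ∈ fx V B := by
  constructor
  · intro h b hb
    have h1 := h (g * b * g⁻¹) (conj_mem_cj hb)
    rw [mul_smul, mul_smul, inv_smul_smul] at h1
    exact (smul_left_cancel_iff g).mp h1
  · intro h b hb
    rw [mem_cj] at hb
    have h1 := h _ hb
    rw [mul_smul, mul_smul] at h1
    have h2 := congrArg (fun w => g • w) h1
    simp only [smul_inv_smul] at h2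
    exact h2

theorem fw_cj {p : ℕ} (g : Γ) (B : Subgroup Γ) :
    fw V p (cj g B) = (fw V p B).map (DistribSMul.toAddMonoidHom V g) := by
  ext v
  constructor
  · rintro ⟨h1, h2⟩
    refine ⟨g⁻¹ • v, ⟨?_, ?_⟩, smul_inv_smul g v⟩
    · show p • (g⁻¹ • v) = 0
      rw [← smul_nsmul', show p • v = 0 from h1, smul_zero]
    · rw [← smul_inv_smul g v] at h2
      exact mem_fx_cj.mp h2
  · rintro ⟨w, ⟨h1, h2⟩, rfl⟩
    refine ⟨?_, mem_fx_cj.mpr h2⟩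
    show p • (g • w) = 0
    rw [← smul_nsmul', show p • w = 0 from h1, smul_zero]

theorem relIndex_cj (g : Γ) (A B : Subgroup Γ) : (cj g A).relIndex (cj g B) = A.relIndex B :=
  Subgroup.relIndex_map_map_of_injective _ _ (MulAut.conj g).injective

theorem Off_cj {p : ℕ} {g : Γ} {A : Subgroup Γ} (h : Off V p A) : Off V p (cj g A) := by
  intro B hB
  have h1 : B = cj g (cj g⁻¹ B) := (cj_cj_inv g B).symm
  rw [h1, relIndex_cj, fw_cj, fw_cj,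
    AddSubgroup.relIndex_map_map_of_injective (f := DistribSMul.toAddMonoidHom V g) _ _
      (MulAction.injective g)]
  apply h
  rw [cj_le_iff, inv_inv]
  exact hB

/-- a subgroup of `P` containing `J(P)` of full order -/
theorem main2 {p : ℕ} [Fact p.Prime] [Finite Γ] [Finite V] {M P : Subgroup Γ} (hP : IsSylowIn p P M)
    {𝒟 : Set (Subgroup Γ)} (hcj : CjInv 𝒟)
    (hab : ∀ A ∈ 𝒟, A ≤ P → ∀ a ∈ A, ∀ b ∈ A, a * b = b * a) (hoff : ∀ A ∈ 𝒟, A ≤ P → Off V p A)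
    {x : V} (hNx : ∀ g ∈ M ⊓ Nz (Jf 𝒟 P), g • x = x)
    (hpx : ∀ g ∈ M, g • (p • x) = p • x) (hord : ∃ k : ℕ, p ^ k • x = 0)
    (hbad : p = 2 → ∀ A ∈ 𝒟, A ≤ P → ∀ g ∈ M, (A ⊓ cj g (M ⊓ Nz (Jf 𝒟 P))).relIndex A = 2 →
      2 ≤ (fw V p A).relIndex (fw V p (A ⊓ cj g (M ⊓ Nz (Jf 𝒟 P)))) → g • x ∈ fx V A) :
    ∀ g ∈ M, g • x = x := by
  set J := Jf 𝒟 P with hJ
  have hPN : P ≤ M ⊓ Nz J := le_inf hP.le (Subgroup.le_normalizer.trans (Nz_le_Nz_Jf hcj P))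
  have hPS : IsSylowIn p P (M ⊓ Nz J) := hP.mono hPN inf_le_left
  refine main (M := M) (N := M ⊓ Nz J) (J := J) inf_le_left ((Jf_le _ _).trans hPN)
    (hP.isPGroup.to_le (Jf_le _ _)) hNx ?_ hpx hord ?_ 𝒟 ?_ (fun A h1 h2 => hab A h1 (h2.trans (Jf_le _ _)))
    (fun A h1 h2 => hoff A h1 (h2.trans (Jf_le _ _)))
    (fun h1 A h2 h3 => hbad h1 A h2 (h3.trans (Jf_le _ _)))
  · -- index
    intro h1
    have h2 : (M ⊓ Nz J).relIndex M ∣ P.relIndex M := Subgroup.relIndex_dvd_of_le_left M hPN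
    have h3 : ¬ p ∣ P.relIndex M := by
      have h4 := hP.toSylow.not_dvd_index
      rw [hP.coe_toSylow] at h4
      exact h4
    exact h3 (h1.trans h2)
  · intro g hg hj
    have h1 : cj g⁻¹ J ≤ M ⊓ Nz J := by
      intro y hy
      rw [mem_cj, inv_inv] at hy
      have h2 := hj _ hy
      have h3 : g⁻¹ * (g * y * g⁻¹) * g = y := by group
      rwa [h3] at h2
    obtain ⟨n, hn, hn2⟩ := hPS.exists_conj_le (Q := cj g⁻¹ J)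
      (cj_isPGroup (hP.isPGroup.to_le (Jf_le _ _))) h1
    have h2 : J ≤ cj (g * n⁻¹) P := by
      rw [cj_le_iff, cj_le_iff] at hn2
      rwa [cj_mul, ← inv_inv g]
    have h3 : J ≤ cj (g * n⁻¹) J := by
      have h4 : J ≤ Jf 𝒟 (cj (g * n⁻¹) P) := Jf_le_Jf h2
      rwa [Jf_cj hcj] at h4
    have h4 : g * n⁻¹ ∈ Nz J := mem_Nz_of_le_cj h3
    have h5 : g * n⁻¹ ∈ M ⊓ Nz J := ⟨M.mul_mem hg (M.inv_mem hn.1), h4⟩
    have h6 := (M ⊓ Nz J).mul_mem h5 hn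
    rwa [inv_mul_cancel_right] at h6
  · -- generation
    show J ≤ Jf 𝒟 J
    rw [hJ, Jf_Jf]

end Cfsg.Agent.H17.Tr
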