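import Cfsg.Agent.H17_Alp

set_option autoImplicit false
open Cfsg

/-! The fixed point theorem for the prime 2 (no four-group with automizer `S₃`). -/

namespace Cfsg.Agent.H17.Tr

open Cfsg.Agent.H17.Base Cfsg.Agent.H17.Alp

variable {Γ : Type*} [Group Γ] {V : Type*} [AddCommGroup V] [DistribMulAction Γ V]

variable (Γ V) in
/-- all abelian 2-subgroups which are best offenders -/
def PP : Set (Subgroup Γ) := {A | IsPGroup 2 A ∧ (∀ a ∈ A, ∀ b ∈ A, a * b = b * a) ∧ Off V 2 A}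

theorem PP_cj : CjInv (PP Γ V) := by
  rintro g A ⟨h1, h2, h3⟩
  refine ⟨cj_isPGroup h1, ?_, Off_cj h3⟩
  intro a ha b hb
  rw [mem_cj] at ha hb
  have h4 := h2 _ ha _ hb
  have e1 : a = g * (g⁻¹ * a * g) * g⁻¹ := by group
  have e2 : b = g * (g⁻¹ * b * g) * g⁻¹ := by group
  rw [e1, e2]
  have e3 : g * (g⁻¹ * a * g) * g⁻¹ * (g * (g⁻¹ * b * g) * g⁻¹) = g * ((g⁻¹ * a * g) * (g⁻¹ * b * g)) * g⁻¹ := by
    group
  have e4 : g * (g⁻¹ * b * g) * g⁻¹ * (g * (g⁻¹ * a * g) * g⁻¹) = g * ((g⁻¹ * b * g) * (g⁻¹ * a * g)) * g⁻¹ := by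
    group
  rw [e3, e4, h4]

/-- the submodule generated by the differences -/
def dif (M : Subgroup Γ) (x : V) : AddSubgroup V := AddSubgroup.closure {w | ∃ m ∈ M, w = m • x - x}

theorem sub_mem_dif {M : Subgroup Γ} {x : V} {m : Γ} (hm : m ∈ M) : m • x - x ∈ dif M x :=
  AddSubgroup.subset_closure ⟨m, hm, rfl⟩

theorem smul_mem_dif {M : Subgroup Γ} {x : V} {g : Γ} (hg : g ∈ M) {w : V} (hw : w ∈ dif M x) :
    g • w ∈ dif M x := by
  induction hw using AddSubgroup.closure_induction with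
  | mem w hw =>
    obtain ⟨m, hm, rfl⟩ := hw
    have h1 : g • (m • x - x) = ((g * m) • x - x) - (g • x - x) := by
      rw [smul_sub, mul_smul]; abel
    rw [h1]
    exact AddSubgroup.sub_mem _ (sub_mem_dif (M.mul_mem hg hm)) (sub_mem_dif hg)
  | zero => rw [smul_zero]; exact AddSubgroup.zero_mem _
  | add a b _ _ ha hb => rw [smul_add]; exact AddSubgroup.add_mem _ ha hb
  | neg a _ ha => rw [smul_neg]; exact AddSubgroup.neg_mem _ ha

theorem dif_two {p : ℕ} {M : Subgroup Γ} {x : V} (h : ∀ g ∈ M, g • (p • x) = p • x) {w : V} (hw : w ∈ dif M x) :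
    p • w = 0 := by
  induction hw using AddSubgroup.closure_induction with
  | mem w hw =>
    obtain ⟨m, hm, rfl⟩ := hw
    rw [smul_sub, ← smul_nsmul', h m hm, sub_self]
  | zero => rw [smul_zero]
  | add a b _ _ ha hb => rw [smul_add, ha, hb, add_zero]
  | neg a _ ha => rw [smul_neg, ha, neg_zero]

theorem fix_dif {M Y : Subgroup Γ} {x : V} (hY : M ≤ Nz Y) (h : ∀ y ∈ Y, y • x = x) :
    dif M x ≤ fx V Y := by
  unfold dif
  rw [AddSubgroup.closure_le]
  rintro w ⟨m, hm, rfl⟩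
  intro y hy
  have h1 : m⁻¹ * y * m ∈ Y := by
    have h2 := (Subgroup.mem_normalizer_iff.mp (hY (M.inv_mem hm)) y).mp hy
    rwa [inv_inv] at h2
  have h2 : y • m • x = m • x := by
    have h3 : y * m = m * (m⁻¹ * y * m) := by group
    rw [← mul_smul, h3, mul_smul, h _ h1]
  rw [smul_sub, h2, h y hy]

theorem le_of_two_parts {p : ℕ} [Fact p.Prime] [Finite Γ] {Y N0 S P' : Subgroup Γ} (h1 : N0 ≤ S) (h2 : N0 ≤ Y)
    (h3 : Y ≤ Nz N0) (h4 : ∀ y ∈ Y, ∃ k : ℕ, y ^ (p ^ k) ∈ N0) (h5 : P' ≤ S) (h6 : P' ≤ Y)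
    (h7 : ¬ p ∣ P'.relIndex Y) : Y ≤ S := by
  have hn : (N0.subgroupOf Y).Normal := (normal_subgroupOf_iff h2).mpr h3
  have h8 : IsPGroup p (Y ⧸ N0.subgroupOf Y) := by
    intro y
    induction y using QuotientGroup.induction_on with
    | H y =>
      obtain ⟨k, hk⟩ := h4 y y.2
      refine ⟨k, ?_⟩
      rw [← QuotientGroup.mk_pow, QuotientGroup.eq_one_iff, Subgroup.mem_subgroupOf]
      exact hk
  obtain ⟨j, hj⟩ := (IsPGroup.iff_card).mp h8
  have h9 : N0.relIndex Y = p ^ j := hj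
  have h10 : (S ⊓ Y).relIndex Y ∣ p ^ j := by
    rw [← h9]
    exact Subgroup.relIndex_dvd_of_le_left _ (le_inf h1 h2)
  have h11 : (S ⊓ Y).relIndex Y ∣ P'.relIndex Y := Subgroup.relIndex_dvd_of_le_left _ (le_inf h5 h6)
  obtain ⟨i, -, hi⟩ := (Nat.dvd_prime_pow Fact.out).mp h10
  have h12 : i = 0 := by
    by_contra h
    apply h7
    refine dvd_trans ?_ h11
    rw [hi]
    exact dvd_pow_self p h
  rw [h12, pow_zero, Subgroup.relIndex_eq_one] at hi
  exact hi.trans inf_le_left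

theorem not_dvd_relIndex {p : ℕ} [Fact p.Prime] [Finite Γ] {T H : Subgroup Γ} (h : IsSylowIn p T H) :
    ¬ p ∣ T.relIndex H := by
  have h4 := h.toSylow.not_dvd_index
  rw [h.coe_toSylow] at h4
  exact h4

/-- the elements of `M` acting trivially on the differences -/
def kdif (M : Subgroup Γ) (x : V) : Subgroup Γ where
  carrier := {g | g ∈ M ∧ ∀ w ∈ dif M x, g • w = w}
  mul_mem' := by
    rintro a b ⟨ha, ha2⟩ ⟨hb, hb2⟩
    refine ⟨M.mul_mem ha hb, ?_⟩
    intro w hw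
    rw [mul_smul, hb2 w hw, ha2 w hw]
  one_mem' := ⟨M.one_mem, fun w _ => one_smul _ w⟩
  inv_mem' := by
    rintro a ⟨ha, ha2⟩
    refine ⟨M.inv_mem ha, ?_⟩
    intro w hw
    have h1 := congrArg (fun v => a⁻¹ • v) (ha2 w hw)
    simp only [inv_smul_smul] at h1
    exact h1.symm

theorem kdif_normal (M : Subgroup Γ) (x : V) : M ≤ Nz (kdif M x) := by
  rw [le_Nz_iff]
  rintro h hh k ⟨hk1, hk2⟩
  refine ⟨M.mul_mem (M.mul_mem hh hk1) (M.inv_mem hh), ?_⟩
  intro w hw
  rw [mul_smul, mul_smul, hk2 _ (smul_mem_dif (M.inv_mem hh) hw), smul_inv_smul]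

theorem kdif_fix {p : ℕ} [Fact p.Prime] [Finite Γ] {M P : Subgroup Γ} {x : V} (hP : IsSylowIn p P M)
    (hPx : ∀ g ∈ P, g • x = x) (hpx : ∀ g ∈ M, g • (p • x) = p • x) : ∀ k ∈ kdif M x, k • x = x := by
  set K := kdif M x with hK
  have hKM : K ≤ M := fun k hk => hk.1
  have hdif : ∀ k ∈ K, ∀ l ∈ K, k • l • x = k • x + (l • x - x) := by
    intro k hk l hl
    have h1 : l • x = x + (l • x - x) := by abel
    rw [h1, smul_add, hk.2 _ (sub_mem_dif (hKM hl))]
    abel
  have h1 : K ≤ MulAction.stabilizer Γ x := by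
    refine le_of_two_parts (p := p) (N0 := K ⊓ MulAction.stabilizer Γ x) (P' := P ⊓ K) inf_le_right inf_le_left
      ?_ ?_ ?_ inf_le_right ?_
    · rw [le_Nz_iff]
      rintro k hk s ⟨hs, hsx⟩
      have hsx' : s • x = x := hsx
      refine ⟨K.mul_mem (K.mul_mem hk hs) (K.inv_mem hk), ?_⟩
      show (k * s * k⁻¹) • x = x
      have h2 := hdif s hs k⁻¹ (K.inv_mem hk)
      rw [mul_smul, mul_smul, h2, hsx']
      have h3 : x + (k⁻¹ • x - x) = k⁻¹ • x := by abel
      rw [h3, smul_inv_smul]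
    · intro k hk
      refine ⟨1, ?_, ?_⟩
      · exact K.pow_mem hk _
      · show k ^ (p ^ 1) • x = x
        have h2 : ∀ n : ℕ, k ^ n • x = x + n • (k • x - x) := by
          intro n
          induction n with
          | zero => simp
          | succ n ih =>
            rw [pow_succ', mul_smul, hdif k hk (k ^ n) (K.pow_mem hk n), ih, succ_nsmul]
            abel
        rw [pow_one, h2, dif_two hpx (sub_mem_dif (hKM hk)), add_zero]
    · intro g hg
      exact hPx g hg.1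
    · have h2 : IsSylowIn p (P ⊓ K) K := hP.inf_normal hKM (kdif_normal M x)
      exact not_dvd_relIndex h2
  intro k hk
  exact h1 hk

/-- a normal 2-subgroup modulo `kdif` acts trivially -/
theorem trivial_of_two {p : ℕ} [Fact p.Prime] [Finite Γ] {M P : Subgroup Γ} {x : V} (hP : IsSylowIn p P M)
    (hPx : ∀ g ∈ P, g • x = x) (hpx : ∀ g ∈ M, g • (p • x) = p • x) {Y : Subgroup Γ} (hYM : Y ≤ M)
    (hYN : M ≤ Nz Y) (hY : ∀ y ∈ Y, ∃ k : ℕ, ∀ w ∈ dif M x, y ^ (p ^ k) • w = w) :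
    ∀ y ∈ Y, ∀ w ∈ dif M x, y • w = w := by
  have h1 : Y ≤ MulAction.stabilizer Γ x := by
    refine le_of_two_parts (p := p) (N0 := kdif M x ⊓ Y) (P' := P ⊓ Y) ?_ inf_le_right ?_ ?_ ?_ inf_le_right ?_
    · intro k hk
      exact kdif_fix hP hPx hpx k hk.1
    · exact (le_inf (hYM.trans (kdif_normal M x)) Subgroup.le_normalizer).trans (Nz_inf_le _ _)
    · intro y hy
      obtain ⟨k, hk⟩ := hY y hy
      exact ⟨k, ⟨M.pow_mem (hYM hy) _, hk⟩, Y.pow_mem hy _⟩
    · intro g hg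
      exact hPx g hg.1
    · exact not_dvd_relIndex (hP.inf_normal hYM hYN)
  intro y hy w hw
  exact fix_dif hYN (fun y hy => h1 hy) hw y hy

theorem T1 [Finite Γ] [Finite V] (h4 : ¬ Bad4 Γ V) : ∀ n : ℕ, ∀ M P : Subgroup Γ, Nat.card M ≤ n →
    IsSylowIn 2 P M → ∀ k : ℕ, ∀ x : V, 2 ^ k • x = 0 → (∀ g ∈ M ⊓ Nz (Jf (PP Γ V) P), g • x = x) →
    ∀ g ∈ M, g • x = x := by
  intro n
  induction n with
  | zero =>
    intro M P hn
    exact absurd hn (by have := Nat.card_pos (α := M); omega)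
  | succ n IH =>
  intro M P hcard hP k
  induction k with
  | zero =>
    intro x hx _ g _
    rw [pow_zero, one_smul] at hx
    rw [hx, smul_zero]
  | succ k IHk =>
  intro x hx hfix
  have h2x : ∀ g ∈ M, g • (2 • x) = 2 • x := by
    apply IHk
    · rw [smul_smul, ← pow_succ]
      exact hx
    · intro g hg
      rw [smul_nsmul', hfix g hg]
  have hPJ : P ≤ M ⊓ Nz (Jf (PP Γ V) P) := le_inf hP.le (Subgroup.le_normalizer.trans (Nz_le_Nz_Jf PP_cj P))
  have hPx : ∀ g ∈ P, g • x = x := fun g hg => hfix g (hPJ hg)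
  -- values at Sylow subgroups
  have hσ : ∀ n g g' : Γ, g • x = g' • x → (n * g) • x = (n * g') • x := by
    intro n g g' h
    rw [mul_smul, h, mul_smul]
  have hwd : ∀ g ∈ M, ∀ g' ∈ M, cj g P = cj g' P → g • x = g' • x := by
    intro g hg g' hg' h
    have h1 : g'⁻¹ * g ∈ M ⊓ Nz (Jf (PP Γ V) P) := by
      refine ⟨M.mul_mem (M.inv_mem hg') hg, Nz_le_Nz_Jf PP_cj P ?_⟩
      rw [mem_Nz_iff_cj, cj_mul, h, cj_inv_cj]
    have h2 := hfix _ h1
    rw [mul_smul, inv_smul_eq_iff] at h2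
    exact h2
  set W := dif M x with hW
  -- property
  let D : Subgroup Γ → V → Prop := fun T _ => ∃ A ∈ PP Γ V, A ≤ T ∧ ¬ W ≤ fx V A
  have hD : ∀ T T' y, T ≤ T' → D T y → D T' y := by
    rintro T T' y h1 ⟨A, h2, h3, h5⟩
    exact ⟨A, h2, h3.trans h1, h5⟩
  -- Claim 1
  have claim1 : ∀ T, ¬ TT 2 M P (fun g => g • x) D T := by
    intro T0 hT0
    obtain ⟨T1, g1, hT1, -⟩ := exists_TTn hP hwd hD hT0
    obtain ⟨T, g, hT, hmax⟩ := exists_max ⟨T1, g1, hT1⟩
    have hT' := hT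
    obtain ⟨hTp, hg, hTg, hQS, ⟨A, hA, hAT, hAW⟩, m, hm, hmne⟩ := hT'
    have hRS : IsSylowIn 2 (cj g P) M := by
      have := hP.conj g
      rwa [cj_eq_of_mem hg] at this
    set Q := cj g P ⊓ Nz T with hQ
    have hAQ : A ≤ Q := hAT.trans (le_inf hTg Subgroup.le_normalizer)
    -- N is proper
    have hNlt : M ⊓ Nz T < M := by
      refine lt_of_le_of_ne inf_le_left ?_
      intro h1
      have hMN : M ≤ Nz T := inf_eq_left.mp h1
      apply hAW
      have hTP : T ≤ P := by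
        have h2 := hMN (M.inv_mem hg)
        have h3 := cj_mono (g := g⁻¹) hTg
        rw [cj_inv_cj, cj_eq_of_mem_Nz h2] at h3
        exact h3
      exact (fix_dif hMN (fun y hy => hPx y (hTP hy))).trans (fx_anti V hAT)
    -- fixed by the normalizer of J(Q)
    have hfixQ : ∀ m ∈ M ⊓ Nz (Jf (PP Γ V) Q), (m * g) • x = g • x := by
      by_cases hlt : Q = cj g P
      · intro m hm
        rw [hlt, Jf_cj PP_cj, ← cj_Nz] at hm
        have h1 : g⁻¹ * m * g ∈ M ⊓ Nz (Jf (PP Γ V) P) :=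
          ⟨M.mul_mem (M.mul_mem (M.inv_mem hg) hm.1) hg, mem_cj.mp hm.2⟩
        have h2 := hfix _ h1
        have h3 : m * g = g * (g⁻¹ * m * g) := by group
        rw [h3, mul_smul, h2]
      · exact max_fix hP hσ hwd hD hT hmax (Jf_le _ _) (Nz_le_Nz_Jf PP_cj _)
          ⟨A, hA, le_Jf hA hAQ, hAW⟩ hlt
    -- induction
    have hcardN : Nat.card ↥(M ⊓ Nz T) ≤ n := by
      have h1 : Nat.card ↥(M ⊓ Nz T) < Nat.card M := by
        by_contra h2
        exact hNlt.ne (Subgroup.eq_of_le_of_card_ge hNlt.le (not_lt.mp h2))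
      omega
    apply hmne
    have h1 := IH (M ⊓ Nz T) Q hcardN hQS (k + 1) (g • x) (by rw [← smul_nsmul', hx, smul_zero])
      (by
        intro m hm
        rw [← mul_smul]
        exact hfixQ m ⟨hm.1.1, hm.2⟩) m hm
    rw [← mul_smul] at h1
    exact h1
  -- the trace argument
  refine main2 hP PP_cj (fun A hA _ => hA.2.1) (fun A hA _ => hA.2.2) hfix h2x ⟨k + 1, hx⟩ ?_
  intro _ A hA hAP g hg hrel hrel2
  set N := M ⊓ Nz (Jf (PP Γ V) P) with hN
  set B := A ⊓ cj g N with hB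
  by_contra hcon
  have hAoff := hA.2.2
  have hBp : IsPGroup 2 B := hA.1.to_le inf_le_left
  have hBPP : B ∈ PP Γ V := by
    refine ⟨hBp, fun a ha b hb => hA.2.1 a ha.1 b hb.1, ?_⟩
    intro C hC
    have h1 : (fw V 2 A).relIndex (fw V 2 C) ≤ C.relIndex A := hAoff C (hC.trans inf_le_left)
    have h2 : (fw V 2 A).relIndex (fw V 2 B) * (fw V 2 B).relIndex (fw V 2 C) =
        (fw V 2 A).relIndex (fw V 2 C) :=
      AddSubgroup.relIndex_mul_relIndex _ _ _ (fw_anti V inf_le_left) (fw_anti V hC)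
    have h3 : C.relIndex B * B.relIndex A = C.relIndex A := Subgroup.relIndex_mul_relIndex _ _ _ hC inf_le_left
    rw [hrel] at h3
    have h5 : 2 * (fw V 2 B).relIndex (fw V 2 C) ≤ 2 * C.relIndex B := by
      calc 2 * (fw V 2 B).relIndex (fw V 2 C) ≤ (fw V 2 A).relIndex (fw V 2 B) * (fw V 2 B).relIndex (fw V 2 C) :=
            Nat.mul_le_mul_right _ hrel2
        _ = (fw V 2 A).relIndex (fw V 2 C) := h2
        _ ≤ C.relIndex A := h1
        _ = 2 * C.relIndex B := by rw [← h3, mul_comm]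
    omega
  by_cases hBW : W ≤ fx V B
  · -- transvection on W
    apply h4
    have hrelW : (fw V 2 A).relIndex (fw V 2 B) ≤ 2 := (hAoff B inf_le_left).trans hrel.le
    -- an element outside B
    obtain ⟨a, haA, haB⟩ : ∃ a ∈ A, a ∉ B := by
      by_contra h1
      push Not at h1
      have h2 : B.relIndex A = 1 := Subgroup.relIndex_eq_one.mpr h1
      omega
    have haM : a ∈ M := hP.le (hAP haA)
    have hindex : (B.subgroupOf A).index = 2 := hrel
    have ha2B : a * a ∈ B := by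
      have h1 := (Subgroup.mul_mem_iff_of_index_two hindex (a := ⟨a, haA⟩) (b := ⟨a, haA⟩)).mpr Iff.rfl
      exact Subgroup.mem_subgroupOf.mp h1
    have hAgen : ∀ b ∈ A, b ∈ B ∨ a⁻¹ * b ∈ B := by
      intro b hb
      by_cases h1 : b ∈ B
      · exact Or.inl h1
      · right
        have h2 := (Subgroup.mul_mem_iff_of_index_two hindex (a := (⟨a, haA⟩ : A)⁻¹) (b := ⟨b, hb⟩)).mpr (by
          constructor
          · intro h3
            exfalso
            apply haB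
            rw [inv_mem_iff] at h3
            exact Subgroup.mem_subgroupOf.mp h3
          · intro h3
            exact absurd (Subgroup.mem_subgroupOf.mp h3) h1)
        exact Subgroup.mem_subgroupOf.mp h2
    -- fixed points of A in W = fixed points of a
    have hfixA : ∀ w ∈ W, a • w = w → w ∈ fx V A := by
      intro w hw haw b hb
      rcases hAgen b hb with h1 | h1
      · exact hBW hw b h1
      · have h2 := hBW hw _ h1
        rw [mul_smul, inv_smul_eq_iff, haw] at h2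
        exact h2
    have hW2 : ∀ w ∈ W, 2 • w = 0 := fun w hw => dif_two h2x hw
    -- moved element
    have hw0 : g • x - x ∈ W := sub_mem_dif hg
    have hw0a : a • (g • x - x) ≠ g • x - x := by
      intro h1
      apply hcon
      have h2 := hfixA _ hw0 h1
      have h3 : x ∈ fx V A := fun b hb => hPx b (hAP hb)
      have h5 := AddSubgroup.add_mem _ h2 h3
      rwa [sub_add_cancel] at h5
    -- index two
    have hindW : ∀ w ∈ W, ∀ w' ∈ W, a • w ≠ w → a • w' ≠ w' → a • w' = w' + (a • w - w) := by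
      intro w hw w' hw' h1 h2
      have hWB : W ≤ fw V 2 B := fun w hw => ⟨hW2 w hw, hBW hw⟩
      have h3 : ((fw V 2 A).addSubgroupOf (fw V 2 B)).index = 2 := le_antisymm hrelW hrel2
      have h5 : (⟨w, hWB hw⟩ : fw V 2 B) ∉ (fw V 2 A).addSubgroupOf (fw V 2 B) := by
        intro h6
        exact h1 ((AddSubgroup.mem_addSubgroupOf.mp h6).2 a haA)
      have h6 : (⟨w', hWB hw'⟩ : fw V 2 B) ∉ (fw V 2 A).addSubgroupOf (fw V 2 B) := by
        intro h6
        exact h2 ((AddSubgroup.mem_addSubgroupOf.mp h6).2 a haA)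
      have h7 := (AddSubgroup.add_mem_iff_of_index_two h3 (a := ⟨w, hWB hw⟩) (b := ⟨w', hWB hw'⟩)).mpr
        (iff_of_false h5 h6)
      have h8 : a • (w + w') = w + w' := (AddSubgroup.mem_addSubgroupOf.mp h7).2 a haA
      rw [smul_add] at h8
      have h9 : a • w' = w + w' - a • w := by rw [← h8]; abel
      have h10 : (a • w - w) + (a • w - w) = 0 := by
        rw [← two_nsmul]
        exact hW2 _ (AddSubgroup.sub_mem _ (smul_mem_dif haM hw) hw)
      have h11 : w - a • w = a • w - w := by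
        have := eq_neg_of_add_eq_zero_left h10
        rw [neg_sub] at this
        exact this.symm
      rw [h9, ← h11]
      abel
    refine bad4_of (M := M) (W := W) (fun g hg w hw => smul_mem_dif hg hw) hW2 ?_ haM hw0 hw0a ?_
      (u := a • (g • x - x) - (g • x - x)) ?_
    · intro Y hYM hYN hY
      exact trivial_of_two hP hPx h2x hYM hYN hY
    · intro w hw
      rw [← mul_smul]
      exact hBW hw _ ha2B
    · intro w hw
      by_cases h1 : a • w = w
      · exact Or.inl h1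
      · exact Or.inr (hindW _ hw0 w hw hw0a h1)
  · -- B forces the same value
    apply hcon
    have hPN : IsSylowIn 2 P N := hP.mono hPJ inf_le_left
    obtain ⟨m, hm, hm2⟩ := hPN.exists_conj_le (Q := cj g⁻¹ B) (cj_isPGroup hBp) (by
      rw [cj_le_iff, inv_inv]
      exact inf_le_right)
    have h1 : B ≤ cj (g * m⁻¹) P := by
      rw [cj_le_iff, cj_le_iff] at hm2
      rwa [cj_mul, ← inv_inv g]
    have h2 : (g * m⁻¹) • x = g • x := by
      rw [mul_smul, hfix _ (N.inv_mem hm)]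
    have h3 : g • x = x := by
      by_contra h5
      apply claim1 B
      refine ⟨hBp, g * m⁻¹, M.mul_mem hg (M.inv_mem hm.1), 1, M.one_mem, h1, ?_, ?_, B, hBPP, le_rfl, hBW⟩
      · rw [cj_one]
        exact inf_le_left.trans hAP
      · show (g * m⁻¹) • x ≠ (1 : Γ) • x
        rw [h2, one_smul]
        exact h5
    rw [h3]
    exact fun b hb => hPx b (hAP hb)

theorem T2 [Finite Γ] [Finite V] (h4 : ¬ Bad4 Γ V) {𝒟 : Set (Subgroup Γ)} (hcj : CjInv 𝒟) : ∀ n : ℕ,
    ∀ M P : Subgroup Γ, Nat.card M ≤ n → IsSylowIn 2 P M → (∀ A ∈ 𝒟, A ≤ P → A ∈ PP Γ V) →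
    ∀ k : ℕ, ∀ x : V, 2 ^ k • x = 0 → (∀ g ∈ M ⊓ Nz (Jf 𝒟 P), g • x = x) → ∀ g ∈ M, g • x = x := by
  intro n
  induction n with
  | zero =>
    intro M P hn
    exact absurd hn (by have := Nat.card_pos (α := M); omega)
  | succ n IH =>
  intro M P hcard hP h𝒟 k x hx hfix
  have hPJ : P ≤ M ⊓ Nz (Jf 𝒟 P) := le_inf hP.le (Subgroup.le_normalizer.trans (Nz_le_Nz_Jf hcj P))
  have hPx : ∀ g ∈ P, g • x = x := fun g hg => hfix g (hPJ hg)
  set N1 := M ⊓ Nz (Jf (PP Γ V) P) with hN1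
  have hPN1 : P ≤ N1 := le_inf hP.le (Subgroup.le_normalizer.trans (Nz_le_Nz_Jf PP_cj P))
  by_cases hlt : N1 = M
  · -- J is normal
    have hMN : M ≤ Nz (Jf (PP Γ V) P) := inf_eq_left.mp hlt
    have hYfix : ∀ y ∈ Jf (PP Γ V) P, ∀ m ∈ M, y • m • x = m • x := by
      intro y hy m hm
      have h1 : m⁻¹ * y * m ∈ Jf (PP Γ V) P := by
        have h2 := (Subgroup.mem_normalizer_iff.mp (hMN (M.inv_mem hm)) y).mp hy
        rwa [inv_inv] at h2
      have h3 : y * m = m * (m⁻¹ * y * m) := by group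
      rw [← mul_smul, h3, mul_smul, hPx _ (Jf_le _ _ h1)]
    let C : Subgroup Γ :=
      { carrier := {c | c ∈ M ∧ ∀ m ∈ M, c • m • x = m • x}
        mul_mem' := by
          rintro a b ⟨ha, ha2⟩ ⟨hb, hb2⟩
          refine ⟨M.mul_mem ha hb, ?_⟩
          intro m hm
          rw [mul_smul, hb2 m hm, ha2 m hm]
        one_mem' := ⟨M.one_mem, fun m _ => one_smul _ _⟩
        inv_mem' := by
          rintro a ⟨ha, ha2⟩
          refine ⟨M.inv_mem ha, ?_⟩
          intro m hm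
          rw [inv_smul_eq_iff, ha2 m hm] }
    have hCM : C ≤ M := fun c hc => hc.1
    have hCN : M ≤ Nz C := by
      rw [le_Nz_iff]
      rintro h hh k ⟨hk1, hk2⟩
      refine ⟨M.mul_mem (M.mul_mem hh hk1) (M.inv_mem hh), ?_⟩
      intro m hm
      rw [mul_smul, mul_smul, ← mul_smul h⁻¹ m x, hk2 _ (M.mul_mem (M.inv_mem hh) hm), mul_smul h⁻¹ m x,
        smul_inv_smul]
    have hPC : IsSylowIn 2 (P ⊓ C) C := hP.inf_normal hCM hCN
    have hJC : Jf 𝒟 P ≤ P ⊓ C := by
      apply le_inf (Jf_le _ _)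
      refine sSup_le ?_
      rintro A ⟨hA, hAP⟩ a ha
      refine ⟨hP.le (hAP ha), ?_⟩
      exact hYfix a (le_Jf (h𝒟 A hA hAP) hAP ha)
    have hJe : Jf 𝒟 (P ⊓ C) = Jf 𝒟 P := le_antisymm (Jf_mono inf_le_left) (Jf_le_Jf hJC)
    have hfr := frattini_le hPC hCM hCN
    intro g hg
    have hg2 : g ∈ C ⊔ (M ⊓ Nz (P ⊓ C)) := by rw [hfr]; exact hg
    obtain ⟨c, hc, m, hm, rfl⟩ := (mem_sup_of_le_Nz' (H := C) (K := M ⊓ Nz (P ⊓ C)) (inf_le_left.trans hCN)).mp hg2
    rw [mul_smul, hfix m ⟨hm.1, ?_⟩]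
    · have h2 := hc.2 1 M.one_mem
      rwa [one_smul] at h2
    · rw [← hJe]
      exact Nz_le_Nz_Jf hcj _ hm.2
  · have hlt' : N1 < M := lt_of_le_of_ne inf_le_left hlt
    have hcardN : Nat.card N1 ≤ n := by
      have h1 : Nat.card N1 < Nat.card M := by
        by_contra h2
        exact hlt (Subgroup.eq_of_le_of_card_ge hlt'.le (not_lt.mp h2))
      omega
    have h1 := IH N1 P hcardN (hP.mono hPN1 inf_le_left) h𝒟 k x hx (fun g hg => hfix g ⟨hg.1.1, hg.2⟩)
    exact T1 h4 (Nat.card M) M P le_rfl hP k x hx h1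

end Cfsg.Agent.H17.Tr
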