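import Cfsg.Agent.H17_S4
import Cfsg.Prelude.Def_PLocal

set_option autoImplicit false
open Cfsg

/-! Application inside a group: fixed points of `N(J(Q))` on `Z(T)`. -/

namespace Cfsg.Agent.H17.Tr

open Cfsg.Agent.H17.Base Cfsg.Agent.H17.Alp

section abs
variable {Γ : Type*} [Group Γ] {V : Type*} [AddCommGroup V] [DistribMulAction Γ V]

/-- the offender inequality on the whole of `V` -/
def OffV (V : Type*) [AddCommGroup V] [DistribMulAction Γ V] (A : Subgroup Γ) : Prop :=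
  ∀ B ≤ A, (fx V A).relIndex (fx V B) ≤ B.relIndex A

theorem OffV.off [Finite V] {p : ℕ} {A : Subgroup Γ} (h : OffV V A) : Off V p A := by
  intro B hB
  refine le_trans ?_ (h B hB)
  have h1 : (fw V p A).relIndex (fw V p B) = (fx V A).relIndex (fw V p B) := by
    have h2 : fw V p A = (fx V A) ⊓ fw V p A := (inf_eq_right.mpr inf_le_right).symm
    apply le_antisymm
    · have h3 : fw V p A = fx V A ⊓ (tor V p ⊓ fw V p B) ⊔ fw V p A := by
        apply le_antisymm le_sup_right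
        apply sup_le _ le_rfl
        rintro v ⟨h4, h5, h6⟩
        exact ⟨h5, h4⟩
      have h4 : fw V p A = fx V A ⊓ fw V p B := by
        apply le_antisymm
        · exact le_inf inf_le_right (fw_anti V hB)
        · rintro v ⟨h5, h6, h7⟩
          exact ⟨h6, h5⟩
      rw [h4, AddSubgroup.inf_relIndex_right]
    · have h4 : fw V p A = fx V A ⊓ fw V p B := by
        apply le_antisymm
        · exact le_inf inf_le_right (fw_anti V hB)
        · rintro v ⟨h5, h6, h7⟩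
          exact ⟨h6, h5⟩
      rw [h4, AddSubgroup.inf_relIndex_right]
  rw [h1]
  exact AddSubgroup.relIndex_le_of_le_right inf_le_right AddSubgroup.index_ne_zero_of_finite

variable {p : ℕ} [Fact p.Prime] [Finite Γ] [Finite V] {M P : Subgroup Γ} {𝒟 : Set (Subgroup Γ)}

theorem T_odd (hp2 : p ≠ 2) (hP : IsSylowIn p P M) (hcj : CjInv 𝒟)
    (hab : ∀ A ∈ 𝒟, A ≤ P → ∀ a ∈ A, ∀ b ∈ A, a * b = b * a) (hoff : ∀ A ∈ 𝒟, A ≤ P → Off V p A) :
    ∀ k : ℕ, ∀ x : V, p ^ k • x = 0 → (∀ g ∈ M ⊓ Nz (Jf 𝒟 P), g • x = x) → ∀ g ∈ M, g • x = x := by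
  intro k
  induction k with
  | zero =>
    intro x hx _ g _
    rw [pow_zero, one_smul] at hx
    rw [hx, smul_zero]
  | succ k IH =>
    intro x hx hfix
    refine main2 hP hcj hab hoff hfix ?_ ⟨k + 1, hx⟩ (fun h => absurd h hp2)
    apply IH
    · rw [smul_smul, ← pow_succ]
      exact hx
    · intro g hg
      rw [smul_nsmul', hfix g hg]

theorem T_sq {M P : Subgroup Γ} (hP : IsSylowIn 2 P M) (hcj : CjInv 𝒟)
    (hab : ∀ A ∈ 𝒟, A ≤ P → ∀ a ∈ A, ∀ b ∈ A, a * b = b * a) (hoff : ∀ A ∈ 𝒟, A ≤ P → OffV V A) :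
    ∀ k : ℕ, ∀ x : V, 2 ^ k • x = 0 → (∃ z : V, (∀ g ∈ P, g • z = z) ∧ x = 2 • z) →
      (∀ g ∈ M ⊓ Nz (Jf 𝒟 P), g • x = x) → ∀ g ∈ M, g • x = x := by
  intro k
  induction k with
  | zero =>
    intro x hx _ _ g _
    rw [pow_zero, one_smul] at hx
    rw [hx, smul_zero]
  | succ k IH =>
    rintro x hx ⟨z, hz, hxz⟩ hfix
    have hPJ : P ≤ M ⊓ Nz (Jf 𝒟 P) := le_inf hP.le (Subgroup.le_normalizer.trans (Nz_le_Nz_Jf hcj P))
    refine main2 hP hcj hab (fun A h1 h2 => (hoff A h1 h2).off) hfix ?_ ⟨k + 1, hx⟩ ?_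
    · apply IH
      · rw [smul_smul, ← pow_succ]
        exact hx
      · refine ⟨x, ?_, rfl⟩
        intro g hg
        exact hfix g (hPJ hg)
      · intro g hg
        rw [smul_nsmul', hfix g hg]
    · intro _ A hA hAP g hg hrel _
      set N := M ⊓ Nz (Jf 𝒟 P) with hN
      set B := A ⊓ cj g N with hB
      have hPN : IsSylowIn 2 P N := hP.mono hPJ inf_le_left
      obtain ⟨m, hm, hm2⟩ := hPN.exists_conj_le (Q := cj g⁻¹ B)
        (cj_isPGroup (hP.isPGroup.to_le (inf_le_left.trans hAP))) (by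
          rw [cj_le_iff, inv_inv]
          exact inf_le_right)
      have h1 : B ≤ cj (g * m⁻¹) P := by
        rw [cj_le_iff, cj_le_iff] at hm2
        rwa [cj_mul, ← inv_inv g]
      have h2 : (g * m⁻¹) • x = g • x := by
        rw [mul_smul, hfix _ (N.inv_mem hm)]
      have h3 : (g * m⁻¹) • z ∈ fx V B := by
        have h4 : (g * m⁻¹) • z ∈ fx V (cj (g * m⁻¹) P) := mem_fx_cj.mpr hz
        exact fx_anti V h1 h4
      have h4 : g • x = (g * m⁻¹) • z + (g * m⁻¹) • z := by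
        rw [← h2, hxz, two_nsmul, smul_add]
      have h5 : (fx V A).relIndex (fx V B) ≤ 2 := (hoff A hA hAP B inf_le_left).trans hrel.le
      have h6 : (fx V A).relIndex (fx V B) ≠ 0 := AddSubgroup.index_ne_zero_of_finite
      rw [h4]
      have h7 : (fx V A).relIndex (fx V B) = 1 ∨ (fx V A).relIndex (fx V B) = 2 := by omega
      rcases h7 with h7 | h7
      · have h8 := (AddSubgroup.relIndex_eq_one.mp h7) h3
        exact AddSubgroup.add_mem _ h8 h8
      · have h9 := (AddSubgroup.add_mem_iff_of_index_two h7 (a := ⟨(g * m⁻¹) • z, h3⟩)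
          (b := ⟨(g * m⁻¹) • z, h3⟩)).mpr Iff.rfl
        exact AddSubgroup.mem_addSubgroupOf.mp h9

end abs

section conc
variable {G : Type*} [Group G]

/-- an abelian subgroup, written additively -/
def ZV (Z : Subgroup G) (_ : ∀ a ∈ Z, ∀ b ∈ Z, a * b = b * a) : Type _ := Additive ↥Z

namespace ZV

variable {Z : Subgroup G} {hZ : ∀ a ∈ Z, ∀ b ∈ Z, a * b = b * a}

instance instACG : AddCommGroup (ZV Z hZ) :=
  { (inferInstance : AddGroup (Additive ↥Z)) with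
    add_comm := fun a b => Subtype.ext (hZ _ (Additive.toMul a).2 _ (Additive.toMul b).2) }

instance instFin [Finite G] : Finite (ZV Z hZ) := inferInstanceAs (Finite (Additive ↥Z))

def val (v : ZV Z hZ) : G := ((Additive.toMul v : ↥Z) : G)

def mk (hZ : ∀ a ∈ Z, ∀ b ∈ Z, a * b = b * a) (z : G) (h : z ∈ Z) : ZV Z hZ := Additive.ofMul ⟨z, h⟩

theorem val_mem (v : ZV Z hZ) : v.val ∈ Z := (Additive.toMul v : ↥Z).2

theorem ext {v w : ZV Z hZ} (h : v.val = w.val) : v = w := Subtype.ext h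

theorem val_mk {z : G} (h : z ∈ Z) : (mk hZ z h).val = z := rfl

theorem val_add (v w : ZV Z hZ) : (v + w).val = v.val * w.val := rfl

theorem val_zero : (0 : ZV Z hZ).val = 1 := rfl

theorem val_nsmul (n : ℕ) (v : ZV Z hZ) : (n • v).val = v.val ^ n := by
  induction n with
  | zero => rw [zero_smul, pow_zero, val_zero]
  | succ n ih => rw [succ_nsmul, val_add, ih, pow_succ]

/-- conjugation action -/
@[implicit_reducible]
def act {N : Subgroup G} (hN : N ≤ Nz Z) : DistribMulAction ↥N (ZV Z hZ) where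
  smul n v := mk hZ ((n : G) * v.val * (n : G)⁻¹) ((Subgroup.mem_normalizer_iff.mp (hN n.2) _).mp v.val_mem)
  one_smul v := ext (by
    show ((1 : ↥N) : G) * v.val * ((1 : ↥N) : G)⁻¹ = v.val
    simp)
  mul_smul a b v := ext (by
    show ((a * b : ↥N) : G) * v.val * ((a * b : ↥N) : G)⁻¹ = (a : G) * ((b : G) * v.val * (b : G)⁻¹) * (a : G)⁻¹
    rw [Subgroup.coe_mul]
    group)
  smul_zero a := ext (by
    show (a : G) * 1 * (a : G)⁻¹ = 1
    simp)
  smul_add a v w := ext (by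
    show (a : G) * (v.val * w.val) * (a : G)⁻¹ = ((a : G) * v.val * (a : G)⁻¹) * ((a : G) * w.val * (a : G)⁻¹)
    group)

end ZV

/-- abelian subgroups of `Q` of largest order -/
def AA (Q : Subgroup G) : Set (Subgroup G) :=
  {A | A ≤ Q ∧ (∀ a ∈ A, ∀ b ∈ A, a * b = b * a) ∧ ∀ B ≤ Q, (∀ a ∈ B, ∀ b ∈ B, a * b = b * a) →
    Nat.card B ≤ Nat.card A}

theorem JA_eq (Q : Subgroup G) : thompsonSubgroupAOf Q = sSup (AA Q) := by
  unfold thompsonSubgroupAOf thompsonSubgroupA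
  have hc : ∀ (H : Subgroup G) (A : Subgroup H), Nat.card (A.map H.subtype) = Nat.card A := fun H A =>
    Nat.card_congr (A.equivMapOfInjective _ H.subtype_injective).symm.toEquiv
  apply le_antisymm
  · rw [Subgroup.map_le_iff_le_comap]
    refine sSup_le ?_
    rintro A ⟨h1, h2⟩
    rw [← Subgroup.map_le_iff_le_comap]
    apply le_sSup
    refine ⟨Subgroup.map_subtype_le _, ?_, ?_⟩
    · rintro _ ⟨a, ha, rfl⟩ _ ⟨b, hb, rfl⟩
      have h3 := congrArg (fun x : A => ((x : Q) : G)) (h1.is_comm.comm ⟨a, ha⟩ ⟨b, hb⟩)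
      exact h3
    · intro B hB hBc
      rw [hc]
      have h3 : Nat.card (B.subgroupOf Q) = Nat.card B := Nat.card_congr (Subgroup.subgroupOfEquivOfLe hB).toEquiv
      rw [← h3]
      apply h2
      refine ⟨⟨?_⟩⟩
      intro a b
      apply Subtype.ext
      apply Subtype.ext
      exact hBc _ (Subgroup.mem_subgroupOf.mp a.2) _ (Subgroup.mem_subgroupOf.mp b.2)
  · refine sSup_le ?_
    rintro A ⟨h1, h2, h3⟩
    have h4 : A = (A.subgroupOf Q).map Q.subtype := by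
      rw [Subgroup.subgroupOf_map_subtype, inf_eq_left.mpr h1]
    rw [h4]
    apply Subgroup.map_mono
    apply le_sSup
    refine ⟨⟨⟨?_⟩⟩, ?_⟩
    · intro a b
      apply Subtype.ext
      apply Subtype.ext
      exact h2 _ (Subgroup.mem_subgroupOf.mp a.2) _ (Subgroup.mem_subgroupOf.mp b.2)
    · intro B hB
      have h5 : Nat.card (A.subgroupOf Q) = Nat.card A := Nat.card_congr (Subgroup.subgroupOfEquivOfLe h1).toEquiv
      rw [h5, ← hc]
      apply h3 _ (Subgroup.map_subtype_le _)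
      rintro _ ⟨a, ha, rfl⟩ _ ⟨b, hb, rfl⟩
      exact congrArg (fun x : B => ((x : Q) : G)) (hB.is_comm.comm ⟨a, ha⟩ ⟨b, hb⟩)

theorem AA_cj {Q A : Subgroup G} (g : G) (h : A ∈ AA Q) : cj g A ∈ AA (cj g Q) := by
  obtain ⟨h1, h2, h3⟩ := h
  have hcomm : ∀ (g : G) (B : Subgroup G), (∀ a ∈ B, ∀ b ∈ B, a * b = b * a) →
      ∀ a ∈ cj g B, ∀ b ∈ cj g B, a * b = b * a := by
    rintro g B hB _ ⟨a, ha, rfl⟩ _ ⟨b, hb, rfl⟩
    rw [← map_mul, ← map_mul, hB a ha b hb]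
  refine ⟨cj_mono h1, hcomm g A h2, ?_⟩
  intro B hB hBc
  rw [card_cj]
  have h4 := h3 (cj g⁻¹ B) (by rwa [cj_le_iff, inv_inv]) (hcomm _ _ hBc)
  rwa [card_cj] at h4

theorem JA_cj_le (g : G) (Q : Subgroup G) : cj g (thompsonSubgroupAOf Q) ≤ thompsonSubgroupAOf (cj g Q) := by
  rw [JA_eq, JA_eq, cj_le_iff]
  refine sSup_le ?_
  intro A hA
  rw [← cj_le_iff]
  exact le_sSup (AA_cj g hA)

theorem JA_cj (g : G) (Q : Subgroup G) : thompsonSubgroupAOf (cj g Q) = cj g (thompsonSubgroupAOf Q) := by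
  apply le_antisymm _ (JA_cj_le g Q)
  have h1 := JA_cj_le g⁻¹ (cj g Q)
  rwa [cj_inv_cj, cj_le_iff, inv_inv] at h1

theorem JA_le (Q : Subgroup G) : thompsonSubgroupAOf Q ≤ Q := by
  rw [JA_eq]
  exact sSup_le fun A hA => hA.1

theorem Nz_le_Nz_JA (Q : Subgroup G) : Nz Q ≤ Nz (thompsonSubgroupAOf Q) := by
  intro g hg
  rw [mem_Nz_iff_cj] at hg ⊢
  rw [← JA_cj, hg]

theorem exists_AA [Finite G] (Q : Subgroup G) : ∃ A, A ∈ AA Q := by
  obtain ⟨A, hA, hmax⟩ := (Set.toFinite {A : Subgroup G | A ≤ Q ∧ ∀ a ∈ A, ∀ b ∈ A, a * b = b * a}).exists_maximalFor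
    (fun A : Subgroup G => Nat.card ↥A) _ ⟨⊥, bot_le, by
      intro a ha b hb
      rw [Subgroup.mem_bot] at ha hb
      rw [ha, hb]⟩
  refine ⟨A, hA.1, hA.2, ?_⟩
  intro B hB hBc
  rcases le_total (Nat.card B) (Nat.card A) with h2 | h2
  · exact h2
  · exact hmax (j := B) ⟨hB, hBc⟩ h2

/-- the centre lies in every abelian subgroup of largest order -/
theorem center_le_AA [Finite G] {Q A : Subgroup G} (hA : A ∈ AA Q) : Q ⊓ Cz Q ≤ A := by
  obtain ⟨h1, h2, h3⟩ := hA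
  have hcomm : ∀ a ∈ A ⊔ (Q ⊓ Cz Q), ∀ b ∈ A ⊔ (Q ⊓ Cz Q), a * b = b * a := by
    have h4 : A ⊔ (Q ⊓ Cz Q) ≤ Cz (A ⊔ (Q ⊓ Cz Q)) := by
      have h5 : A ≤ Cz A := by
        intro a ha
        rw [Subgroup.mem_centralizer_iff]
        exact fun b hb => h2 b hb a ha
      have h6 : A ≤ Cz (Q ⊓ Cz Q) := le_Cz_comm.mp ((inf_le_right).trans (Cz_anti h1))
      have h7 : Q ⊓ Cz Q ≤ Cz (Q ⊓ Cz Q) := inf_le_right.trans (Cz_anti inf_le_left)
      have h8 : A ⊔ (Q ⊓ Cz Q) ≤ Cz A := sup_le h5 (le_Cz_comm.mp h6)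
      have h9 : A ⊔ (Q ⊓ Cz Q) ≤ Cz (Q ⊓ Cz Q) := sup_le h6 h7
      exact le_Cz_comm.mp (sup_le (le_Cz_comm.mp h8) (le_Cz_comm.mp h9))
    intro a ha b hb
    exact (Subgroup.mem_centralizer_iff.mp (h4 hb)) a ha
  have h4 := h3 _ (sup_le h1 inf_le_left) hcomm
  have h5 := Subgroup.eq_of_le_of_card_ge (le_sup_left : A ≤ A ⊔ (Q ⊓ Cz Q)) h4
  exact le_sup_right.trans h5.ge

end conc

end Cfsg.Agent.H17.Tr
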