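import Cfsg.Agent.H17_Tr5
import Cfsg.Agent.H1_Basic

set_option autoImplicit false
open Cfsg

/-! `N(J(Q))` and the centre of a normal `p`-subgroup. -/

namespace Cfsg.Agent.H17.Tr

open Cfsg.Agent.H17.Base Cfsg.Agent.H17.Alp

variable {G : Type*} [Group G]

theorem map_cj_subtype {N : Subgroup G} (g : N) (H : Subgroup N) :
    (cj g H).map N.subtype = cj (g : G) (H.map N.subtype) := by
  ext x
  constructor
  · rintro ⟨y, ⟨z, hz, rfl⟩, rfl⟩
    exact ⟨z, ⟨z, hz, rfl⟩, rfl⟩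
  · rintro ⟨_, ⟨z, hz, rfl⟩, rfl⟩
    exact ⟨g * z * g⁻¹, ⟨z, hz, rfl⟩, rfl⟩

theorem card_map_sub {N : Subgroup G} (H : Subgroup N) : Nat.card (H.map N.subtype) = Nat.card H :=
  Nat.card_congr (H.equivMapOfInjective _ N.subtype_injective).symm.toEquiv

theorem ambient [Finite G] {p : ℕ} [Fact p.Prime] {N T Q : Subgroup G} (hQ : IsSylowIn p Q N) (hTQ : T ≤ Q)
    (hNT : N ≤ Nz T) {y : G} (hy : y ∈ T ⊓ Cz T)
    (hfix : ∀ n ∈ N ⊓ Nz (thompsonSubgroupAOf Q), n * y * n⁻¹ = y)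
    (h : p ≠ 2 ∨ (∃ z ∈ T, z ∈ Cz Q ∧ z ^ p = y) ∨ ¬ Involves (Equiv.Perm (Fin 4)) G) :
    ∀ n ∈ N, n * y * n⁻¹ = y := by
  set Z : Subgroup G := T ⊓ Cz T with hZdef
  have hZc : ∀ a ∈ Z, ∀ b ∈ Z, a * b = b * a := by
    rintro a ⟨ha, _⟩ b ⟨_, hb⟩
    exact Subgroup.mem_centralizer_iff.mp hb a ha
  have hNZ : N ≤ Nz Z := (le_inf hNT (hNT.trans (Nz_le_Nz_Cz T))).trans (Nz_inf_le _ _)
  let _ := ZV.act (hZ := hZc) hNZ
  have hsm : ∀ (n : N) (v : ZV Z hZc), (n • v).val = (n : G) * v.val * (n : G)⁻¹ := fun _ _ => rfl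
  have hZQ : Z ≤ Q := inf_le_left.trans hTQ
  -- Sylow
  have hP : IsSylowIn p (Q.subgroupOf N) (⊤ : Subgroup N) := by
    have h1 := isSylowIn_coe hQ.toSylow
    rwa [hQ.coe_toSylow] at h1
  have hQmap : (Q.subgroupOf N).map N.subtype = Q := by
    rw [Subgroup.subgroupOf_map_subtype, inf_eq_left.mpr hQ.le]
  obtain ⟨A0, hA0⟩ := exists_AA Q
  let 𝒟 : Set (Subgroup N) := {A | IsPGroup p A ∧ (∀ a ∈ A, ∀ b ∈ A, a * b = b * a) ∧ Nat.card A = Nat.card A0}
  have hcj : CjInv 𝒟 := by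
    rintro g A ⟨h1, h2, h3⟩
    refine ⟨cj_isPGroup h1, ?_, ?_⟩
    · rintro _ ⟨a, ha, rfl⟩ _ ⟨b, hb, rfl⟩
      rw [← map_mul, ← map_mul, h2 a ha b hb]
    · rw [card_cj, h3]
  have hDAA : ∀ A ∈ 𝒟, A ≤ Q.subgroupOf N → A.map N.subtype ∈ AA Q := by
    rintro A ⟨h1, h2, h3⟩ hAQ
    refine ⟨?_, ?_, ?_⟩
    · have h4 := Subgroup.map_mono (f := N.subtype) hAQ
      rwa [hQmap] at h4
    · rintro _ ⟨a, ha, rfl⟩ _ ⟨b, hb, rfl⟩
      exact congrArg N.subtype (h2 a ha b hb)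
    · intro B hB hBc
      rw [card_map_sub, h3]
      exact hA0.2.2 B hB hBc
  have hAAD : ∀ A ∈ AA Q, A.subgroupOf N ∈ 𝒟 ∧ A.subgroupOf N ≤ Q.subgroupOf N := by
    intro A hA
    have hAN : A ≤ N := hA.1.trans hQ.le
    refine ⟨⟨?_, ?_, ?_⟩, ?_⟩
    · exact (hQ.isPGroup.to_le hA.1).of_equiv (Subgroup.subgroupOfEquivOfLe hAN).symm
    · intro a ha b hb
      exact Subtype.ext (hA.2.1 _ (Subgroup.mem_subgroupOf.mp ha) _ (Subgroup.mem_subgroupOf.mp hb))
    · rw [Nat.card_congr (Subgroup.subgroupOfEquivOfLe hAN).toEquiv]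
      exact le_antisymm (hA0.2.2 A hA.1 hA.2.1) (hA.2.2 A0 hA0.1 hA0.2.1)
    · intro a ha
      exact Subgroup.mem_subgroupOf.mpr (hA.1 (Subgroup.mem_subgroupOf.mp ha))
  have hJmap : (Jf 𝒟 (Q.subgroupOf N)).map N.subtype = thompsonSubgroupAOf Q := by
    rw [JA_eq]
    apply le_antisymm
    · rw [Subgroup.map_le_iff_le_comap]
      refine sSup_le ?_
      rintro A ⟨h1, h2⟩
      rw [← Subgroup.map_le_iff_le_comap]
      exact le_sSup (hDAA A h1 h2)
    · refine sSup_le ?_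
      intro A hA
      obtain ⟨h1, h2⟩ := hAAD A hA
      have h3 : A = (A.subgroupOf N).map N.subtype := by
        rw [Subgroup.subgroupOf_map_subtype, inf_eq_left.mpr (hA.1.trans hQ.le)]
      rw [h3]
      exact Subgroup.map_mono (le_Jf h1 h2)
  -- the fixed element
  let x : ZV Z hZc := ZV.mk hZc y hy
  have hxfix : ∀ g ∈ (⊤ : Subgroup N) ⊓ Nz (Jf 𝒟 (Q.subgroupOf N)), g • x = x := by
    rintro g ⟨-, hg⟩
    apply ZV.ext
    rw [hsm]
    apply hfix
    refine ⟨g.2, ?_⟩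
    have hg' : g ∈ Nz (Jf 𝒟 (Q.subgroupOf N)) := hg
    show (g : G) ∈ Nz (thompsonSubgroupAOf Q)
    rw [mem_Nz_iff_cj] at hg' ⊢
    rw [← hJmap, ← map_cj_subtype, hg']
  have hord : ∃ k : ℕ, p ^ k • x = 0 := by
    obtain ⟨k, hk⟩ := hQ.isPGroup ⟨y, hZQ hy⟩
    refine ⟨k, ZV.ext ?_⟩
    rw [ZV.val_nsmul, ZV.val_zero]
    exact congrArg Subtype.val hk
  obtain ⟨k, hk⟩ := hord
  have hab : ∀ A ∈ 𝒟, A ≤ Q.subgroupOf N → ∀ a ∈ A, ∀ b ∈ A, a * b = b * a := fun A hA _ => hA.2.1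
  -- the fixed points as a subgroup of G
  have hfxcard : ∀ B : Subgroup N, Nat.card (fx (ZV Z hZc) B) = Nat.card ↥(Z ⊓ Cz (B.map N.subtype)) := by
    intro B
    apply Nat.card_congr
    refine ⟨fun v => ⟨v.1.val, v.1.val_mem, ?_⟩, fun g => ⟨ZV.mk hZc g g.2.1, ?_⟩, ?_, ?_⟩
    · show v.1.val ∈ Cz (B.map N.subtype)
      rw [Subgroup.mem_centralizer_iff]
      rintro _ ⟨b, hb, rfl⟩
      have h1 := congrArg ZV.val (v.2 b hb)
      rw [hsm] at h1
      rw [mul_inv_eq_iff_eq_mul] at h1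
      exact h1
    · intro b hb
      apply ZV.ext
      rw [hsm, ZV.val_mk, mul_inv_eq_iff_eq_mul]
      exact Subgroup.mem_centralizer_iff.mp g.2.2 b ⟨b, hb, rfl⟩
    · intro v
      rfl
    · intro g
      rfl
  have hoff : ∀ A ∈ 𝒟, A ≤ Q.subgroupOf N → OffV (ZV Z hZc) A := by
    intro A hA hAQ B hBA
    have hAG := hDAA A hA hAQ
    set AG := A.map N.subtype with hAGdef
    set BG := B.map N.subtype with hBGdef
    have hBGA : BG ≤ AG := Subgroup.map_mono hBA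
    set FA := Z ⊓ Cz AG with hFA
    set FB := Z ⊓ Cz BG with hFB
    have hBF : BG ≤ Cz FB := le_Cz_comm.mp inf_le_right
    -- the product is abelian
    have hprod : Nat.card ↥(BG ⊔ FB) ≤ Nat.card AG := by
      apply hAG.2.2
      · exact sup_le (hBGA.trans hAG.1) (inf_le_left.trans hZQ)
      · have h5 : BG ≤ Cz BG := by
          intro a ha
          rw [Subgroup.mem_centralizer_iff]
          exact fun b hb => hAG.2.1 b (hBGA hb) a (hBGA ha)
        have h7 : FB ≤ Cz FB := by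
          intro a ha
          rw [Subgroup.mem_centralizer_iff]
          exact fun b hb => hZc b hb.1 a ha.1
        have h8 : BG ⊔ FB ≤ Cz BG := sup_le h5 (le_Cz_comm.mp hBF)
        have h9 : BG ⊔ FB ≤ Cz FB := sup_le hBF h7
        have h10 : BG ⊔ FB ≤ Cz (BG ⊔ FB) :=
          le_Cz_comm.mp (sup_le (le_Cz_comm.mp h8) (le_Cz_comm.mp h9))
        intro a ha b hb
        exact Subgroup.mem_centralizer_iff.mp (h10 hb) a ha
    have hcs := Cfsg.Agent.H1.Basic.card_sup_mul_card_inf (H := BG) (K := FB) (hBF.trans (Cz_le_Nz _))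
    have hinf : Nat.card ↥(BG ⊓ FB) ≤ Nat.card FA := by
      apply Subgroup.card_le_of_le
      rintro b ⟨hb, hb2⟩
      refine ⟨hb2.1, ?_⟩
      show b ∈ Cz AG
      rw [Subgroup.mem_centralizer_iff]
      exact fun a ha => hAG.2.1 a ha b (hBGA hb)
    have hmain : Nat.card BG * Nat.card FB ≤ Nat.card AG * Nat.card FA := by
      rw [← hcs]
      exact Nat.mul_le_mul hprod hinf
    have e1 : Nat.card (fx (ZV Z hZc) A) * (fx (ZV Z hZc) A).relIndex (fx (ZV Z hZc) B) =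
        Nat.card (fx (ZV Z hZc) B) := by
      rw [← AddSubgroup.relIndex_bot_left, ← AddSubgroup.relIndex_bot_left]
      exact AddSubgroup.relIndex_mul_relIndex _ _ _ bot_le (fx_anti _ hBA)
    have e2 : Nat.card B * B.relIndex A = Nat.card A := by
      rw [← Subgroup.relIndex_bot_left, ← Subgroup.relIndex_bot_left]
      exact Subgroup.relIndex_mul_relIndex _ _ _ bot_le hBA
    rw [hfxcard, hfxcard] at e1
    have e3 : Nat.card BG = Nat.card B := card_map_sub B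
    have e4 : Nat.card AG = Nat.card A := card_map_sub A
    have hFA0 : 0 < Nat.card FA := Nat.card_pos
    have hB0 : 0 < Nat.card B := Nat.card_pos
    rw [e3, e4, ← e1, ← e2] at hmain
    have h6 : (Nat.card B * Nat.card FA) * (fx (ZV Z hZc) A).relIndex (fx (ZV Z hZc) B) ≤
        (Nat.card B * Nat.card FA) * B.relIndex A := by
      calc (Nat.card B * Nat.card FA) * (fx (ZV Z hZc) A).relIndex (fx (ZV Z hZc) B)
          = Nat.card B * (Nat.card FA * (fx (ZV Z hZc) A).relIndex (fx (ZV Z hZc) B)) := by ring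
        _ ≤ Nat.card B * B.relIndex A * Nat.card FA := hmain
        _ = (Nat.card B * Nat.card FA) * B.relIndex A := by ring
    exact Nat.le_of_mul_le_mul_left h6 (Nat.mul_pos hB0 hFA0)
  have hconcl : (∀ g ∈ (⊤ : Subgroup N), g • x = x) → ∀ n ∈ N, n * y * n⁻¹ = y := by
    intro h1 n hn
    exact congrArg ZV.val (h1 ⟨n, hn⟩ (Subgroup.mem_top _))
  apply hconcl
  by_cases hp2 : p = 2
  · subst hp2
    rcases h with h | ⟨z, hzT, hzQ, hzy⟩ | h
    · exact absurd rfl h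
    · have hzZ : z ∈ Z := ⟨hzT, Cz_anti hTQ hzQ⟩
      refine T_sq hP hcj hab hoff k x hk ⟨ZV.mk hZc z hzZ, ?_, ?_⟩ hxfix
      · intro g hg
        apply ZV.ext
        rw [hsm, ZV.val_mk, mul_inv_eq_iff_eq_mul]
        exact Subgroup.mem_centralizer_iff.mp hzQ g (Subgroup.mem_subgroupOf.mp hg)
      · apply ZV.ext
        rw [ZV.val_nsmul]
        exact hzy.symm
    · refine T2 ?_ hcj (Nat.card (⊤ : Subgroup N)) ⊤ (Q.subgroupOf N) le_rfl hP ?_ k x hk hxfix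
      · rintro ⟨c, d, u, v, hu, hv, huv, hu2, hv2, hcu, hcv, hdu, hdv⟩
        apply h
        have tr : ∀ {a b : ZV Z hZc}, a = b → a.val = b.val := fun h => congrArg ZV.val h
        refine Cfsg.Agent.H17.S4.s4_of (u := u.val) (v := v.val) (c := (c : G)) (d := (d : G))
          (fun h1 => hu (ZV.ext h1)) (fun h1 => hv (ZV.ext h1)) (fun h1 => huv (ZV.ext h1)) ?_ ?_
          (hZc _ u.val_mem _ v.val_mem) (tr hcu) (tr hcv) (tr hdu) (tr hdv)
        · have h1 := tr hu2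
          rwa [ZV.val_nsmul, pow_two] at h1
        · have h1 := tr hv2
          rwa [ZV.val_nsmul, pow_two] at h1
      · intro A hA hAQ
        exact ⟨hA.1, hA.2.1, (hoff A hA hAQ).off⟩
  · exact T_odd hp2 hP hcj hab (fun A h1 h2 => (hoff A h1 h2).off) k x hk hxfix

end Cfsg.Agent.H17.Tr
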