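import Cfsg.Agent.H17_Base

set_option autoImplicit false
open Cfsg

/-! A transfer lemma for the prime 2 through the sign of the action on the cosets of a maximal subgroup of `S`. -/

namespace Cfsg.Agent.H17.TrS

open Subgroup

theorem sign_of_sq {α : Type*} [Fintype α] [DecidableEq α] (σ : Equiv.Perm α) (h2 : σ * σ = 1)
    {k : ℕ} (hc : Fintype.card α = Nat.card {x : α // σ x = x} + 2 * k) (hk : Odd k) :
    Equiv.Perm.sign σ = -1 := by
  have hsupp : σ.support.card = 2 * k := by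
    have h1 : (Finset.univ.filter (fun x => σ x = x)).card = Nat.card {x : α // σ x = x} := by
      rw [Nat.card_eq_fintype_card, Fintype.card_subtype]
    have h2 : σ.support = Finset.univ.filter (fun x => ¬ σ x = x) := by
      ext x; simp
    have h3 := Finset.card_filter_add_card_filter_not (s := (Finset.univ : Finset α)) (fun x => σ x = x)
    rw [Finset.card_univ, h1, ← h2] at h3
    omega
  have hne : σ ≠ 1 := by
    rintro rfl
    rw [Equiv.Perm.support_one, Finset.card_empty] at hsupp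
    obtain ⟨j, hj⟩ := hk
    omega
  have hord : orderOf σ = 2 := orderOf_eq_prime (by rw [pow_two]; exact h2) hne
  obtain ⟨n, hn⟩ := Equiv.Perm.cycleType_prime_order (σ := σ) (by rw [hord]; exact Nat.prime_two)
  rw [hord] at hn
  have h3 := Equiv.Perm.sum_cycleType σ
  rw [hn, Multiset.sum_replicate, smul_eq_mul, hsupp] at h3
  have h4 : n + 1 = k := by omega
  rw [Equiv.Perm.sign_of_cycleType, hn, Multiset.sum_replicate, Multiset.card_replicate, h4, smul_eq_mul]
  obtain ⟨j, hj⟩ := hk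
  rw [show k * 2 + k = 2 * (k + j) + 1 by omega, pow_succ, pow_mul]
  simp

theorem exists_hom {G : Type*} [Group G] [Finite G] (S : Sylow 2 G) {z : G} (hzS : z ∈ (S : Subgroup G))
    (hzc : ∀ s ∈ (S : Subgroup G), s * z = z * s) (hz2 : z * z = 1) (M : Subgroup G) (hMS : M ≤ S)
    (hMn : ∀ s ∈ (S : Subgroup G), ∀ m ∈ M, s * m * s⁻¹ ∈ M) (hMi : M.relIndex (S : Subgroup G) = 2)
    (hzM : z ∉ M) (hN : ∀ g ∈ normalizer ((S : Subgroup G) : Set G), g * z * g⁻¹ = z) :
    ∃ f : G →* ℤˣ, f z = -1 := by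
  classical
  have : Fact (Nat.Prime 2) := ⟨Nat.prime_two⟩
  have := Fintype.ofFinite (G ⧸ M)
  let F₀ : Set (G ⧸ (S : Subgroup G)) := {q | ∃ x : G, (x : G ⧸ (S : Subgroup G)) = q ∧ x⁻¹ * z * x ∈ M}
  have hF : ∀ x : G, (x : G ⧸ (S : Subgroup G)) ∈ F₀ ↔ x⁻¹ * z * x ∈ M := by
    intro x
    constructor
    · rintro ⟨y, hy, hyM⟩
      rw [QuotientGroup.eq] at hy
      have h1 := hMn _ ((S : Subgroup G).inv_mem hy) _ hyM
      have e : (y⁻¹ * x)⁻¹ * (y⁻¹ * z * y) * (y⁻¹ * x)⁻¹⁻¹ = x⁻¹ * z * x := by group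
      rwa [e] at h1
    · intro h
      exact ⟨x, rfl, h⟩
  -- `S` acts on `F₀` without fixed points
  let act : MulAction (S : Subgroup G) F₀ :=
    { smul := fun s q => ⟨(s : G) • q.1, by
        obtain ⟨q, hq⟩ := q
        obtain ⟨x, rfl⟩ := QuotientGroup.mk_surjective q
        rw [hF] at hq
        show ((s * x : G) : G ⧸ (S : Subgroup G)) ∈ F₀
        rw [hF]
        have e : (s * x : G)⁻¹ * z * (s * x) = x⁻¹ * ((s : G)⁻¹ * (z * s)) * x := by group
        rw [e, ← hzc s s.2]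
        have e2 : x⁻¹ * ((s : G)⁻¹ * (s * z)) * x = x⁻¹ * z * x := by group
        rw [e2]; exact hq⟩
      one_smul := fun q => Subtype.ext (one_smul G q.1)
      mul_smul := fun s t q => Subtype.ext (mul_smul (s : G) (t : G) q.1) }
  have h1 := S.2.card_modEq_card_fixedPoints (α := F₀)
  have h2 : Nat.card (MulAction.fixedPoints (S : Subgroup G) F₀) = 0 := by
    rw [Nat.card_eq_zero]
    left
    refine ⟨fun ⟨⟨q, hq⟩, hfix⟩ => ?_⟩
    obtain ⟨x, rfl⟩ := QuotientGroup.mk_surjective q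
    rw [hF] at hq
    have hx : x⁻¹ ∈ normalizer ((S : Subgroup G) : Set G) := by
      rw [Cfsg.Agent.H17.Base.mem_Nz_iff_cj]
      apply Subgroup.eq_of_le_of_card_ge
      · rintro _ ⟨s, hs, rfl⟩
        have h4 := hfix ⟨s, hs⟩
        have h5 : ((s * x : G) : G ⧸ (S : Subgroup G)) = x := congrArg Subtype.val h4
        rw [eq_comm, QuotientGroup.eq] at h5
        show x⁻¹ * s * x⁻¹⁻¹ ∈ (S : Subgroup G)
        rw [inv_inv, mul_assoc]
        exact h5
      · rw [Cfsg.Agent.H17.Base.card_cj]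
    have h3 := hN _ hx
    rw [inv_inv] at h3
    rw [h3] at hq
    exact hzM hq
  have hF0 : Even (Nat.card F₀) := by
    rw [h2] at h1
    exact even_iff_two_dvd.mpr (Nat.modEq_zero_iff_dvd.mp h1)
  have hGS : Odd (Nat.card (G ⧸ (S : Subgroup G))) := by
    rw [← Subgroup.index_eq_card, ← Nat.not_even_iff_odd, even_iff_two_dvd]
    exact S.not_dvd_index
  have hSM : Nat.card ((S : Subgroup G) ⧸ M.subgroupOf (S : Subgroup G)) = 2 := by
    rw [← Subgroup.index_eq_card]; exact hMi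
  let e := Subgroup.quotientEquivProdOfLE hMS
  have hGM : Nat.card (G ⧸ M) = Nat.card (G ⧸ (S : Subgroup G)) * 2 := by
    rw [Nat.card_congr e, Nat.card_prod, hSM]
  let σ : Equiv.Perm (G ⧸ M) := MulAction.toPermHom G (G ⧸ M) z
  have hfixM : ∀ x : G, σ (x : G ⧸ M) = x ↔ x⁻¹ * z * x ∈ M := by
    intro x
    show ((z * x : G) : G ⧸ M) = x ↔ _
    rw [eq_comm, QuotientGroup.eq, mul_assoc]
  have hFix : Nat.card {q : G ⧸ M // σ q = q} =
      Nat.card F₀ * Nat.card ((S : Subgroup G) ⧸ M.subgroupOf (S : Subgroup G)) := by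
    rw [← Nat.card_prod]
    apply Nat.card_congr
    refine (e.subtypeEquiv (q := fun a => a.1 ∈ F₀) ?_).trans ?_
    · intro q
      obtain ⟨x, rfl⟩ := QuotientGroup.mk_surjective q
      show σ (x : G ⧸ M) = x ↔ ((x : G) : G ⧸ (S : Subgroup G)) ∈ F₀
      rw [hfixM, hF]
    · exact { toFun := fun a => (⟨a.1.1, a.2⟩, a.1.2), invFun := fun a => ⟨(a.1.1, a.2), a.1.2⟩,
              left_inv := fun _ => rfl, right_inv := fun _ => rfl }
  rw [hSM] at hFix
  refine ⟨Equiv.Perm.sign.comp (MulAction.toPermHom G (G ⧸ M)), ?_⟩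
  have hle : Nat.card F₀ ≤ Nat.card (G ⧸ (S : Subgroup G)) := Finite.card_subtype_le _
  apply sign_of_sq σ (k := Nat.card (G ⧸ (S : Subgroup G)) - Nat.card F₀)
  · rw [← map_mul, hz2, map_one]
  · rw [← Nat.card_eq_fintype_card, hGM, hFix]
    omega
  · obtain ⟨a, ha⟩ := hF0
    obtain ⟨b, hb⟩ := hGS
    rw [ha, hb] at hle ⊢
    exact ⟨b - a, by omega⟩

end Cfsg.Agent.H17.TrS
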