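import Cfsg.Agent.H17_Amalgam
import Cfsg.Agent.H1_Coprime2
import Cfsg.Prelude.Def_LocalStructure

/-! iterated closures on the coset graph -/

set_option autoImplicit false

namespace Cfsg.Agent.H17.VIter

open Cfsg Cfsg.Agent.H17.Base Cfsg.Agent.H17.CosetGraph Cfsg.Agent.H17.Amalgam
open scoped commutatorElement

section nil

variable {X : Type*} [Group X] {p : ℕ} [Fact p.Prime]

theorem comm_sup_le {U R Q : Subgroup X} (hUQ : U ≤ Q) (hQU : Q ≤ Nz U) (hQR : Q ≤ Nz R) :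
    ⁅U ⊔ R, Q⁆ ≤ U ⊔ ⁅R, Q⁆ := by
  rw [Subgroup.commutator_le]
  intro x hx q hq
  obtain ⟨u, hu, r, hr, rfl⟩ := (mem_sup_of_le_Nz (hUQ.trans hQR)).1 hx
  have h1 : ⁅u * r, q⁆ = (u * ⁅r, q⁆ * u⁻¹) * ⁅u, q⁆ := by
    rw [commutatorElement_def, commutatorElement_def, commutatorElement_def]; group
  rw [h1]
  have h2 : ⁅r, q⁆ ∈ ⁅R, Q⁆ := Subgroup.commutator_mem_commutator hr hq
  have h3 : u * ⁅r, q⁆ * u⁻¹ ∈ ⁅R, Q⁆ :=
    (Subgroup.mem_normalizer_iff.1 ((hUQ.trans (Subgroup.normalizer_commutator_ge_right R Q)) hu) _).1 h2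
  have h4 : ⁅u, q⁆ ∈ U := (commutator_le_left_iff.2 hQU) (Subgroup.commutator_mem_commutator hu hq)
  exact Subgroup.mul_mem _ (Subgroup.mem_sup_right h3) (Subgroup.mem_sup_left h4)

theorem eq_of_sup_comm {U V Q : Subgroup X} [Finite Q] (hQ : IsPGroup p Q) (hVQ : V ≤ Q) (hUV : U ≤ V) (hQU : Q ≤ Nz U)
    (hQV : Q ≤ Nz V) (h : V ≤ U ⊔ ⁅V, Q⁆) : V ≤ U := by
  have hnil : Group.IsNilpotent Q := hQ.isNilpotent
  have key : ∀ (n : ℕ) (R : Subgroup X), Nat.card R = n → R ≤ V → Q ≤ Nz R → V ≤ U ⊔ R → V ≤ U := by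
    intro n
    induction n using Nat.strong_induction_on with
    | _ n ih =>
      intro R hn hRV hQR hVR
      by_cases hR : R = ⊥
      · rw [hR, sup_bot_eq] at hVR; exact hVR
      have h1 : V ≤ U ⊔ ⁅R, Q⁆ := by
        have h2 : ⁅V, Q⁆ ≤ U ⊔ ⁅R, Q⁆ := (Subgroup.commutator_mono hVR le_rfl).trans (comm_sup_le (hUV.trans hVQ) hQU hQR)
        exact h.trans (sup_le le_sup_left h2)
      have h2 : ⁅R, Q⁆ ≤ R := commutator_le_left_iff.2 hQR
      have hlt : ⁅R, Q⁆ < R := lt_of_le_not_ge h2 (Cfsg.Agent.H1.Coprime.commutator_lt_of_nilpotent hnil (hRV.trans hVQ) hR)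
      have hfin : Finite R := finite_of_le (hRV.trans hVQ)
      have hc : Nat.card ↥(⁅R, Q⁆ : Subgroup X) < n := by
        rw [← hn]
        apply lt_of_le_of_ne (Subgroup.card_le_of_le h2)
        intro he
        exact hlt.ne (Subgroup.eq_of_le_of_card_ge h2 he.ge)
      exact ih _ hc _ rfl (h2.trans hRV) (Subgroup.normalizer_commutator_ge_right R Q) h1
  exact key _ V rfl le_rfl hQV le_sup_right

theorem OZ_ne_bot {T : Subgroup X} [Finite T] (hT : IsPGroup p T) (h : T ≠ ⊥) : OZ p T ≠ ⊥ := by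
  have hnt : Nontrivial T := (Subgroup.nontrivial_iff_ne_bot T).2 h
  have hc : Nontrivial (Subgroup.center T) := hT.center_nontrivial
  have hcp : IsPGroup p (Subgroup.center T) := hT.to_subgroup _
  obtain ⟨k, hk0, hk⟩ := hcp.nontrivial_iff_card.1 hc
  obtain ⟨y, hy⟩ := exists_prime_orderOf_dvd_card' (G := Subgroup.center T) p (by rw [hk]; exact dvd_pow_self p hk0.ne')
  intro hb
  have h1 : ((y : T) : X) ∈ OZ p T := by
    apply Subgroup.subset_closure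
    refine ⟨⟨(y : T).2, ?_⟩, ?_⟩
    · show ((y : T) : X) ∈ Cz T
      rw [Subgroup.mem_centralizer_iff]
      intro t ht
      exact congrArg Subtype.val (Subgroup.mem_center_iff.1 y.2 ⟨t, ht⟩)
    · have : (y : Subgroup.center T) ^ p = 1 := by rw [← hy]; exact pow_orderOf_eq_one y
      exact congrArg (fun z : Subgroup.center T => ((z : T) : X)) this
  rw [hb, Subgroup.mem_bot] at h1
  have h2 : y = 1 := Subtype.ext (Subtype.ext h1)
  rw [h2, orderOf_one] at hy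
  exact (Fact.out : p.Prime).one_lt.ne hy

end nil

variable {X : Type*} [Group X] {M₁ M₂ : Subgroup X} {p : ℕ}

theorem stab_smul (g : X) (δ : CosetVertex M₁ M₂) : MulAction.stabilizer X (g • δ) = cj g (MulAction.stabilizer X δ) :=
  MulAction.stabilizer_smul_eq_stabilizer_map_conj g δ

theorem vertexZ_smul (g : X) (δ : CosetVertex M₁ M₂) : vertexZ p (g • δ) = cj g (vertexZ p δ) := by
  unfold vertexZ
  rw [stab_smul, sylowCenterClosure_cj]

theorem le_V {n : ℕ} {δ μ : CosetVertex M₁ M₂} (h : (cosetGraph M₁ M₂).dist δ μ ≤ n) :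
    vertexZ p μ ≤ vertexVIter p M₁ M₂ n δ :=
  le_iSup (fun μ : {μ : CosetVertex M₁ M₂ // (cosetGraph M₁ M₂).dist δ μ ≤ n} => vertexZ p (μ : CosetVertex M₁ M₂)) ⟨μ, h⟩

theorem V_le_iff {n : ℕ} {δ : CosetVertex M₁ M₂} {K : Subgroup X} :
    vertexVIter p M₁ M₂ n δ ≤ K ↔ ∀ μ, (cosetGraph M₁ M₂).dist δ μ ≤ n → vertexZ p μ ≤ K := by
  constructor
  · intro h μ hμ
    exact (le_V hμ).trans h
  · intro h
    exact iSup_le (fun μ => h μ μ.2)

theorem V_smul_le (g : X) (n : ℕ) (δ : CosetVertex M₁ M₂) :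
    vertexVIter p M₁ M₂ n (g • δ) ≤ cj g (vertexVIter p M₁ M₂ n δ) := by
  rw [V_le_iff]
  intro μ hμ
  rw [le_cj_iff, ← vertexZ_smul]
  apply le_V
  rw [← dist_smul g⁻¹, inv_smul_smul] at hμ
  exact hμ

theorem V_smul (g : X) (n : ℕ) (δ : CosetVertex M₁ M₂) :
    vertexVIter p M₁ M₂ n (g • δ) = cj g (vertexVIter p M₁ M₂ n δ) := by
  apply le_antisymm (V_smul_le g n δ)
  have := V_smul_le (p := p) g⁻¹ n (g • δ)
  rw [inv_smul_smul, le_cj_iff, inv_inv] at this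
  exact this

theorem le_Nz_V (n : ℕ) (δ : CosetVertex M₁ M₂) : MulAction.stabilizer X δ ≤ Nz (vertexVIter p M₁ M₂ n δ) := by
  intro g hg
  rw [mem_Nz_iff_cj, ← V_smul, MulAction.mem_stabilizer_iff.1 hg]

theorem V_mono {m n : ℕ} (h : m ≤ n) (δ : CosetVertex M₁ M₂) : vertexVIter p M₁ M₂ m δ ≤ vertexVIter p M₁ M₂ n δ := by
  rw [V_le_iff]
  intro μ hμ
  exact le_V (hμ.trans h)

theorem V_adj (hgen : M₁ ⊔ M₂ = ⊤) {δ μ : CosetVertex M₁ M₂} (h : (cosetGraph M₁ M₂).Adj δ μ) (n : ℕ) :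
    vertexVIter p M₁ M₂ n δ ≤ vertexVIter p M₁ M₂ (n + 1) μ := by
  rw [V_le_iff]
  intro ν hν
  apply le_V
  have h1 := (connected hgen).dist_triangle (u := μ) (v := δ) (w := ν)
  have h2 : (cosetGraph M₁ M₂).dist μ δ = 1 := SimpleGraph.dist_eq_one_iff_adj.2 h.symm
  omega

variable [Fact p.Prime]

/-- `N_{G_δ}(T) ≤ G_μ` -/
theorem Nz_edge (h : IsSpeAmalgamPair p M₁ M₂) {δ μ : CosetVertex M₁ M₂}
    (hμ : (cosetGraph M₁ M₂).Adj δ μ) {T : Subgroup X} (hT : IsSylowIn p T (edgeStabilizer δ μ)) :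
    MulAction.stabilizer X δ ⊓ Nz T ≤ MulAction.stabilizer X μ := by
  have key : ∀ {T : Subgroup X}, IsSylowIn p T (M₁ ⊓ M₂) → M₁ ⊓ Nz T ≤ M₂ ∧ M₂ ⊓ Nz T ≤ M₁ := by
    intro T hT
    obtain ⟨h1, h2⟩ := h.2.1 hT.toSylow
    rw [hT.map_toSylow] at h1 h2
    exact ⟨h2.trans inf_le_right, h1.ge.trans (h2.trans inf_le_left)⟩
  obtain ⟨x, hx | hx⟩ := adj_cases hμ
  · rw [edgeStabilizer, hx.1, hx.2, ← cj_inf] at hT
    have h1 := hT.conj x⁻¹
    rw [cj_inv_cj] at h1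
    have h2 := cj_mono (g := x) (key h1).1
    rw [cj_inf, cj_Nz, cj_cj_inv] at h2
    rw [hx.1, hx.2]; exact h2
  · rw [edgeStabilizer, hx.1, hx.2, ← cj_inf, inf_comm] at hT
    have h1 := hT.conj x⁻¹
    rw [cj_inv_cj] at h1
    have h2 := cj_mono (g := x) (key h1).2
    rw [cj_inf, cj_Nz, cj_cj_inv] at h2
    rw [hx.1, hx.2]; exact h2

/-- `O^p(L_δ)` is transitive on the neighbours -/
theorem res_transitive (h : IsSpeAmalgamPair p M₁ M₂) {δ μ μ' : CosetVertex M₁ M₂}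
    (hμ : (cosetGraph M₁ M₂).Adj δ μ) (hμ' : (cosetGraph M₁ M₂).Adj δ μ') :
    ∃ e ∈ resOf p (pElementClosure p (MulAction.stabilizer X δ)), e • μ = μ' := by
  have hfin := finite_stabilizer h.1 δ
  obtain ⟨T, hT⟩ := exists_isSylowIn p (edgeStabilizer δ μ)
  have hTδ := isSylowIn_edge h.1 hμ hT
  obtain ⟨G, hG⟩ : ∃ G, G = MulAction.stabilizer X δ := ⟨_, rfl⟩
  rw [← hG] at hTδ hfin ⊢
  have hLG : pElementClosure p G ≤ G := pElementClosure_le p G
  have hTL : T ≤ pElementClosure p G := isPGroup_le_pElementClosure hTδ.isPGroup hTδ.le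
  have hTLs : IsSylowIn p T (pElementClosure p G) := hTδ.mono hTL hLG
  have hfinL : Finite ↥(pElementClosure p G) := finite_of_le hLG
  obtain ⟨g, hg, rfl⟩ := neighbours_transitive δ μ μ' hμ hμ'
  rw [← hG] at hg
  obtain ⟨l, hl, hlg⟩ := frattini_arg hTLs (le_Nz_pElementClosure G) g hg
  have h1 : l * g ∈ MulAction.stabilizer X μ := by
    apply Nz_edge h hμ hT
    refine ⟨?_, hlg⟩
    rw [← hG]
    exact G.mul_mem (hLG hl) hg
  have h2 : l⁻¹ ∈ resOf p (pElementClosure p G) ⊔ T := by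
    have h3 : resOf p (pElementClosure p G) ⊔ T = pElementClosure p G := by
      exact resOf_sup_sylow hTLs
    rw [h3]; exact (pElementClosure p G).inv_mem hl
  have hTN : T ≤ Nz (resOf p (pElementClosure p G)) := hTL.trans (le_Nz_resOf _)
  obtain ⟨e, he, t, ht, het⟩ := (mem_sup_of_le_Nz' hTN).1 h2
  refine ⟨e, he, ?_⟩
  have h4 : t ∈ MulAction.stabilizer X μ := (hT.le.trans inf_le_right) ht
  have h5 : g = l⁻¹ * (l * g) := by group
  rw [h5, mul_smul, MulAction.mem_stabilizer_iff.1 h1, het, mul_smul, MulAction.mem_stabilizer_iff.1 h4]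

/-- `V^{(n+1)}` is generated by the `V^{(n)}` of the neighbours -/
theorem V_succ_le (h : IsCharPAmalgamPair p M₁ M₂) {n : ℕ} {δ : CosetVertex M₁ M₂} {K : Subgroup X}
    (hK : ∀ μ, (cosetGraph M₁ M₂).Adj δ μ → vertexVIter p M₁ M₂ n μ ≤ K) : vertexVIter p M₁ M₂ (n + 1) δ ≤ K := by
  rw [V_le_iff]
  intro ν hν
  rcases Nat.eq_zero_or_pos ((cosetGraph M₁ M₂).dist δ ν) with h0 | h0
  · have h1 := (connected h.1.1).dist_eq_zero_iff.1 h0
    subst h1
    have hfin := finite_stabilizer h δ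
    unfold vertexZ
    rw [sylowCenterClosure_le_iff]
    intro T hT
    obtain ⟨μ, hμ⟩ := exists_adj δ
    obtain ⟨S, hS⟩ := exists_isSylowIn p (edgeStabilizer δ μ)
    have hSδ := isSylowIn_edge h hμ hS
    have hSμ := isSylowIn_edge h hμ.symm (by rw [edgeStabilizer_comm]; exact hS)
    obtain ⟨g, hg, hgT⟩ := hSδ.exists_conj hT
    have hgμ : (cosetGraph M₁ M₂).Adj δ (g • μ) := by
      have := adj_smul g hμ
      rwa [MulAction.mem_stabilizer_iff.1 hg] at this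
    have h1 : OZ p T ≤ vertexZ p (g • μ) := by
      rw [vertexZ_smul, hgT, OZ_cj]
      exact cj_mono (OZ_le_sylowCenterClosure hSμ)
    exact h1.trans ((le_V (by rw [SimpleGraph.dist_self]; exact Nat.zero_le n)).trans (hK _ hgμ))
  · obtain ⟨c, hc, hcd⟩ := exists_adj_dist h.1.1 h0
    exact (le_V (by omega)).trans (hK c hc)

/-- the main contradiction -/
theorem main (h : IsSpeAmalgamPair p M₁ M₂) (n : ℕ) {δ : CosetVertex M₁ M₂} {R : Subgroup X}
    (hVQ : vertexVIter p M₁ M₂ (n + 1) δ ≤ vertexQ p δ)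
    (hR : ⁅vertexVIter p M₁ M₂ (n + 1) δ, resOf p (pElementClosure p (MulAction.stabilizer X δ))⁆ ≤ R)
    (hRV : ∀ μ, (cosetGraph M₁ M₂).Adj δ μ → R ≤ vertexVIter p M₁ M₂ n μ ⊔ ⁅vertexVIter p M₁ M₂ (n + 1) δ, vertexQ p δ⁆) : False := by
  have hfin := finite_stabilizer h.1 δ
  obtain ⟨μ, hμ⟩ := exists_adj δ
  obtain ⟨T, hT⟩ := exists_isSylowIn p (edgeStabilizer δ μ)
  have hTδ := isSylowIn_edge h.1 hμ hT
  have hTμ := isSylowIn_edge h.1 hμ.symm (by rw [edgeStabilizer_comm]; exact hT)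
  obtain ⟨V, hV⟩ : ∃ V, V = vertexVIter p M₁ M₂ (n + 1) δ := ⟨_, rfl⟩
  obtain ⟨U, hU⟩ : ∃ U, U = vertexVIter p M₁ M₂ n μ := ⟨_, rfl⟩
  obtain ⟨Q, hQ⟩ : ∃ Q, Q = vertexQ p δ := ⟨_, rfl⟩
  have hUV : U ≤ V := by rw [hU, hV]; exact V_adj h.1.1.1 hμ.symm n
  have hQT : Q ≤ T := by rw [hQ]; exact pCoreOf_le_sylow hTδ
  have hQμ : Q ≤ MulAction.stabilizer X μ := hQT.trans hTμ.le
  have hQδ : Q ≤ MulAction.stabilizer X δ := hQT.trans hTδ.le
  have hQU : Q ≤ Nz U := by rw [hU]; exact hQμ.trans (le_Nz_V n μ)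
  have hδV : MulAction.stabilizer X δ ≤ Nz V := by rw [hV]; exact le_Nz_V _ δ
  have hδQ : MulAction.stabilizer X δ ≤ Nz Q := by rw [hQ]; exact le_Nz_pCoreOf _
  rw [← hV, ← hQ] at hVQ
  have hRV' := hRV μ hμ
  rw [← hV, ← hU, ← hQ] at hRV'
  rw [← hV] at hR
  -- `V ≤ U ⊔ [V, Q]`
  have hC : MulAction.stabilizer X δ ≤ Nz ⁅V, Q⁆ := (le_inf hδV hδQ).trans (Nz_commutator_le _ _)
  have h1 : V ≤ U ⊔ ⁅V, Q⁆ := by
    rw [hV]
    apply V_succ_le h.1
    intro μ' hμ'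
    obtain ⟨e, he, rfl⟩ := res_transitive h hμ hμ'
    rw [V_smul, ← hU, ← hV]
    rintro _ ⟨u, hu, rfl⟩
    have h2 : ⁅u, e⁆ ∈ R := hR (Subgroup.commutator_mem_commutator (hUV hu) he)
    have h3 : ⁅u, e⁆⁻¹ * u = (MulAut.conj e).toMonoidHom u := by
      show ⁅u, e⁆⁻¹ * u = e * u * e⁻¹
      rw [commutatorElement_def]; group
    rw [← h3]
    exact Subgroup.mul_mem _ (Subgroup.inv_mem _ (hRV' h2)) (Subgroup.mem_sup_left hu)
  have hfinQ : Finite Q := finite_of_le hQδ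
  have hQp : IsPGroup p Q := by rw [hQ]; exact pCoreOf_isPGroup _
  have hVU : V = U := le_antisymm (eq_of_sup_comm hQp hVQ hUV hQU (hQδ.trans hδV) h1) hUV
  have hμV : MulAction.stabilizer X μ ≤ Nz V := by rw [hVU, hU]; exact le_Nz_V _ μ
  have hVδμ : V ≤ MulAction.stabilizer X δ ⊓ MulAction.stabilizer X μ := le_inf (hVQ.trans hQδ) (hVQ.trans hQμ)
  have hgen := h.1.1.1
  have hVb : V = ⊥ := by
    obtain ⟨x, hx⟩ : ∃ x : X, MulAction.stabilizer X δ ⊔ MulAction.stabilizer X μ = cj x (M₁ ⊔ M₂) ∧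
        MulAction.stabilizer X δ ⊓ MulAction.stabilizer X μ = cj x (M₁ ⊓ M₂) := by
      obtain ⟨x, hx | hx⟩ := adj_cases hμ
      · exact ⟨x, by rw [hx.1, hx.2, cj_sup], by rw [hx.1, hx.2, cj_inf]⟩
      · exact ⟨x, by rw [hx.1, hx.2, cj_sup, sup_comm], by rw [hx.1, hx.2, cj_inf, inf_comm]⟩
    have hVn : V.Normal := by
      rw [← Subgroup.normalizer_eq_top_iff, eq_top_iff]
      have h2 : MulAction.stabilizer X δ ⊔ MulAction.stabilizer X μ = ⊤ := by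
        rw [hx.1, hgen]; exact Subgroup.map_top_of_surjective _ (MulAut.conj x).surjective
      rw [← h2]
      exact sup_le hδV hμV
    apply h.1.1.2.2.2 V _ hVn
    rw [hx.2, le_cj_iff, cj_eq_of_normal x⁻¹ hVn] at hVδμ
    exact hVδμ
  -- but `V` contains `Ω₁(Z(T))`
  have hT1 : T ≠ ⊥ := by
    intro hT0
    have h2 : p ∣ Nat.card ↥(MulAction.stabilizer X δ) := by
      obtain ⟨x, hx | hx⟩ := adj_cases hμ
      · rw [hx.1, card_cj]; exact h.1.2.2.2.1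
      · rw [hx.1, card_cj]; exact h.1.2.2.2.2.1
    have h3 := hTδ.card
    rw [hT0, Subgroup.card_bot] at h3
    have h4 : 0 < (Nat.card ↥(MulAction.stabilizer X δ)).factorization p :=
      (Fact.out : p.Prime).factorization_pos_of_dvd Nat.card_pos.ne' h2
    have h5 : 1 < p ^ (Nat.card ↥(MulAction.stabilizer X δ)).factorization p :=
      Nat.one_lt_pow h4.ne' (Fact.out : p.Prime).one_lt
    omega
  have hfinT : Finite T := finite_of_le hTδ.le
  apply OZ_ne_bot hTδ.isPGroup hT1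
  rw [eq_bot_iff, ← hVb, hV]
  exact (OZ_le_sylowCenterClosure hTδ).trans (le_V (by rw [SimpleGraph.dist_self]; exact Nat.zero_le _))

end Cfsg.Agent.H17.VIter
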