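import Cfsg.Agent.H17_Tr6

set_option autoImplicit false
open Cfsg

/-! Glauberman's theorem on weakly closed elements. -/

namespace Cfsg.Agent.H17.Tr

open Cfsg.Agent.H17.Base Cfsg.Agent.H17.Alp

theorem weakly_closed {G : Type*} [Group G] [Finite G] {p : ℕ} [Fact p.Prime] {P : Subgroup G}
    (hP : IsSylowIn p P ⊤) {x : G} (hxP : x ∈ P)
    (hx : ∀ n ∈ Nz (thompsonSubgroupAOf P), n * x * n⁻¹ = x)
    (h : p ≠ 2 ∨ (∃ z ∈ P, z ∈ Cz P ∧ z ^ p = x) ∨ ¬ Involves (Equiv.Perm (Fin 4)) G) :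
    ∀ g : G, g * x * g⁻¹ ∈ P → g * x * g⁻¹ = x := by
  intro g0 hg0
  by_contra hne0
  let σ : G → G := fun g => g * x * g⁻¹
  have hσ : ∀ n g g', σ g = σ g' → σ (n * g) = σ (n * g') := by
    intro n g g' h1
    have h2 : g * x * g⁻¹ = g' * x * g'⁻¹ := h1
    show n * g * x * (n * g)⁻¹ = n * g' * x * (n * g')⁻¹
    have e : ∀ a : G, n * a * x * (n * a)⁻¹ = n * (a * x * a⁻¹) * n⁻¹ := by intro a; group
    rw [e, e, h2]
  have hσm : ∀ n g, σ (n * g) = n * σ g * n⁻¹ := by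
    intro n g
    show n * g * x * (n * g)⁻¹ = n * (g * x * g⁻¹) * n⁻¹
    group
  have hPN : P ≤ Nz (thompsonSubgroupAOf P) := Subgroup.le_normalizer.trans (Nz_le_Nz_JA P)
  have hwd : ∀ g ∈ (⊤ : Subgroup G), ∀ g' ∈ (⊤ : Subgroup G), cj g P = cj g' P → σ g = σ g' := by
    intro g _ g' _ h1
    have h2 : g'⁻¹ * g ∈ Nz (thompsonSubgroupAOf P) := by
      apply Nz_le_Nz_JA P
      rw [mem_Nz_iff_cj, cj_mul, h1, cj_inv_cj]
    have h3 := hx _ h2
    have h4 : σ g = g' * (g'⁻¹ * g * x * (g'⁻¹ * g)⁻¹) * g'⁻¹ := by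
      show g * x * g⁻¹ = _
      group
    rw [h4, h3]
  let D : Subgroup G → G → Prop := fun T y => y ∈ T
  have hD : ∀ T T' y, T ≤ T' → D T y → D T' y := fun T T' y h1 h2 => h1 h2
  -- start
  have hstart : TT p ⊤ P σ D (Subgroup.zpowers (g0 * x * g0⁻¹)) := by
    refine ⟨?_, g0, Subgroup.mem_top _, 1, Subgroup.mem_top _, ?_, ?_, ?_, Subgroup.mem_zpowers _⟩
    · apply hP.isPGroup.to_le
      rw [Subgroup.zpowers_le]
      exact hg0
    · rw [Subgroup.zpowers_le]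
      exact conj_mem_cj hxP
    · rw [cj_one, Subgroup.zpowers_le]
      exact hg0
    · show g0 * x * g0⁻¹ ≠ 1 * x * 1⁻¹
      rw [one_mul, inv_one, mul_one]
      exact hne0
  obtain ⟨T1, g1, hT1, -⟩ := exists_TTn hP hwd hD hstart
  -- lexicographic maximum
  obtain ⟨⟨T, g⟩, hT, hmaxx⟩ := (Set.toFinite {a : Subgroup G × G | TTn p ⊤ P σ D a.1 a.2}).exists_maximalFor
    (fun a : Subgroup G × G => Nat.card ↥(cj a.2 P ⊓ Nz a.1) * (Nat.card G + 1) + Nat.card ↥a.1) _ ⟨(T1, g1), hT1⟩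
  have hT : TTn p ⊤ P σ D T g := hT
  have hmax1 : ∀ T' g', TTn p ⊤ P σ D T' g' →
      Nat.card ↥(cj g' P ⊓ Nz T') * (Nat.card G + 1) + Nat.card ↥T' ≤
        Nat.card ↥(cj g P ⊓ Nz T) * (Nat.card G + 1) + Nat.card ↥T := by
    intro T' g' h1
    rcases le_total (Nat.card ↥(cj g' P ⊓ Nz T') * (Nat.card G + 1) + Nat.card ↥T')
      (Nat.card ↥(cj g P ⊓ Nz T) * (Nat.card G + 1) + Nat.card ↥T) with h2 | h2
    · exact h2
    · exact hmaxx (j := (T', g')) h1 h2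
  have hcardle : ∀ H : Subgroup G, Nat.card H ≤ Nat.card G := fun H => Subgroup.card_le_card_group H
  have hmax : ∀ T' g', TTn p ⊤ P σ D T' g' → Nat.card ↥(cj g' P ⊓ Nz T') ≤ Nat.card ↥(cj g P ⊓ Nz T) := by
    intro T' g' h1
    have h2 := hmax1 T' g' h1
    by_contra h3
    push Not at h3
    have h4 : (Nat.card ↥(cj g P ⊓ Nz T) + 1) * (Nat.card G + 1) ≤
        Nat.card ↥(cj g' P ⊓ Nz T') * (Nat.card G + 1) := Nat.mul_le_mul_right _ h3
    have h5 := hcardle T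
    have h6 : (Nat.card ↥(cj g P ⊓ Nz T) + 1) * (Nat.card G + 1) =
      Nat.card ↥(cj g P ⊓ Nz T) * (Nat.card G + 1) + Nat.card G + 1 := by ring
    omega
  have hmax2 : ∀ T' g', TTn p ⊤ P σ D T' g' → Nat.card ↥(cj g P ⊓ Nz T) ≤ Nat.card ↥(cj g' P ⊓ Nz T') →
      Nat.card ↥T' ≤ Nat.card ↥T := by
    intro T' g' h1 h2
    have h3 := hmax1 T' g' h1
    have h4 := Nat.mul_le_mul_right (Nat.card G + 1) h2
    omega
  have hT' := hT
  obtain ⟨hTp, -, hTg, hQS, hDT, m, hm, hmne⟩ := hT'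
  set Q := cj g P ⊓ Nz T with hQdef
  set y := σ g with hy
  have hyT : y ∈ T := hDT
  have hRS : IsSylowIn p (cj g P) ⊤ := hP.conj_top g
  -- y centralizes the Sylow subgroup
  have hyC : y ∈ Cz (cj g P) := by
    rw [Subgroup.mem_centralizer_iff]
    rintro _ ⟨a, ha, rfl⟩
    have h1 := hx a (hPN ha)
    show g * a * g⁻¹ * (g * x * g⁻¹) = g * x * g⁻¹ * (g * a * g⁻¹)
    have h2 : a * x = x * a := by rwa [mul_inv_eq_iff_eq_mul] at h1
    have e1 : g * a * g⁻¹ * (g * x * g⁻¹) = g * (a * x) * g⁻¹ := by group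
    have e2 : g * x * g⁻¹ * (g * a * g⁻¹) = g * (x * a) * g⁻¹ := by group
    rw [e1, e2, h2]
  have hTQ : T ≤ Q := le_inf hTg Subgroup.le_normalizer
  have hyZ : y ∈ T ⊓ Cz T := ⟨hyT, Cz_anti hTg hyC⟩
  have hyQ : y ∈ Q ⊓ Cz Q := ⟨hTQ hyT, Cz_anti inf_le_left hyC⟩
  have hNle : (⊤ : Subgroup G) ⊓ Nz T ≤ Nz T := inf_le_right
  have hfix : ∀ n ∈ (⊤ ⊓ Nz T) ⊓ Nz (thompsonSubgroupAOf Q), n * y * n⁻¹ = y := by
    by_cases hlt : Q = cj g P
    · intro n hn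
      have hn2 : n ∈ Nz (thompsonSubgroupAOf Q) := hn.2
      rw [hlt, JA_cj, ← cj_Nz, mem_cj] at hn2
      have h1 := hx _ hn2
      have h2 : n * y * n⁻¹ = g * ((g⁻¹ * n * g) * x * (g⁻¹ * n * g)⁻¹) * g⁻¹ := by
        show n * (g * x * g⁻¹) * n⁻¹ = _
        group
      rw [h2, h1]
    · intro n hn
      have hJy : D (thompsonSubgroupAOf Q) (σ g) := by
        obtain ⟨A, hA⟩ := exists_AA Q
        show y ∈ thompsonSubgroupAOf Q
        rw [JA_eq]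
        exact (le_sSup hA) (center_le_AA hA hyQ)
      have h1 := max_fix hP hσ hwd hD hT hmax (JA_le Q) (Nz_le_Nz_JA Q) hJy hlt n
        ⟨Subgroup.mem_top _, hn.2⟩
      rw [hσm] at h1
      exact h1
  -- the centralizer condition
  have hcent : Q ⊓ Cz T ≤ T := by
    set C := Cz T with hC
    have hCN : C ≤ ⊤ ⊓ Nz T := le_inf le_top (Cz_le_Nz T)
    have hNC : ⊤ ⊓ Nz T ≤ Nz C := inf_le_right.trans (Nz_le_Nz_Cz T)
    have hQC : IsSylowIn p (Q ⊓ C) C := hQS.inf_normal hCN hNC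
    have hfr := frattini_le hQC hCN hNC
    have hm' : m ∈ C ⊔ (⊤ ⊓ Nz T) ⊓ Nz (Q ⊓ C) := by rw [hfr]; exact hm
    obtain ⟨c, hc, k, hk, hck⟩ := (mem_sup_of_le_Nz' (H := C) (K := (⊤ ⊓ Nz T) ⊓ Nz (Q ⊓ C))
      (inf_le_left.trans hNC)).mp hm'
    have hkT : k ∈ Nz T := hk.1.2
    have hkyT : k * y * k⁻¹ ∈ T := (Subgroup.mem_normalizer_iff.mp hkT y).mp hyT
    have hkne : k * y * k⁻¹ ≠ y := by
      intro h1
      apply hmne
      rw [hσm, hck]
      have h2 : c * k * σ g * (c * k)⁻¹ = c * (k * y * k⁻¹) * c⁻¹ := by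
        show c * k * y * (c * k)⁻¹ = _
        group
      rw [h2, h1]
      have h3 := Subgroup.mem_centralizer_iff.mp hc y hyT
      rw [← h3, mul_inv_cancel_right]
    set T' := T ⊔ (Q ⊓ C) with hT'
    have hkT' : k ∈ Nz T' := Nz_sup_le _ _ ⟨hkT, hk.2⟩
    have hT'Q : T' ≤ Q := sup_le hTQ inf_le_left
    have hQT' : Q ≤ Nz T' := by
      refine (le_inf (inf_le_right) ?_).trans (Nz_sup_le _ _)
      exact (le_inf Subgroup.le_normalizer ((inf_le_right).trans (Nz_le_Nz_Cz T))).trans (Nz_inf_le _ _)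
    obtain ⟨Q3, hQQ3, hQ3⟩ := exists_isSylowIn_ge (H := ⊤ ⊓ Nz T') hQS.isPGroup (le_inf le_top hQT')
    obtain ⟨P3, hQP3, hP3⟩ := exists_isSylowIn_ge (H := (⊤ : Subgroup G)) hQ3.isPGroup le_top
    obtain ⟨g3, hg3, hP3e⟩ := hP.exists_conj hP3
    have hQ3e : P3 ⊓ Nz T' = Q3 := by
      apply hQ3.eq_of_le
      · exact inf_le_inf_right _ le_top
      · exact hP3.isPGroup.to_le inf_le_left
      · exact le_inf hQP3 (hQ3.le.trans inf_le_right)
    have hQP3' : Q ≤ cj g3 P := by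
      rw [← hP3e]
      exact hQQ3.trans hQP3
    by_cases hx3 : σ g3 = σ g
    · have h1 : TTn p ⊤ P σ D T' g3 := by
        refine ⟨hQS.isPGroup.to_le hT'Q, Subgroup.mem_top _, hT'Q.trans hQP3', ?_, ?_, k,
          ⟨Subgroup.mem_top _, hkT'⟩, ?_⟩
        · rw [← hP3e, hQ3e]
          exact hQ3
        · rw [hx3]
          exact le_sup_left (a := T) hyT
        · rw [hσ k g3 g hx3, hx3, hσm]
          exact hkne
      have h2 : Nat.card T' ≤ Nat.card T := by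
        apply hmax2 T' g3 h1
        rw [← hP3e, hQ3e]
        exact Subgroup.card_le_of_le hQQ3
      have h3 : T = T' := Subgroup.eq_of_le_of_card_ge le_sup_left h2
      exact (le_sup_right : Q ⊓ C ≤ T').trans h3.ge
    · exfalso
      have h1 : TT p ⊤ P σ D Q := by
        refine ⟨hQS.isPGroup, g, Subgroup.mem_top _, g3, Subgroup.mem_top _, inf_le_left, hQP3',
          fun h => hx3 h.symm, hTQ hyT⟩
      obtain ⟨T'', g'', h2, h3⟩ := exists_TTn hP hwd hD h1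
      have h4 := card_lt hP hwd h2
      have h5 := hmax T'' g'' h2
      omega
  have hfinal : ∀ n ∈ (⊤ : Subgroup G) ⊓ Nz T, n * y * n⁻¹ = y := by
    apply ambient hQS hTQ hNle hyZ hfix
    rcases h with h | ⟨z, hzP, hzC, hzx⟩ | h
    · exact Or.inl h
    · right; left
      have hzg : g * z * g⁻¹ ∈ Cz (cj g P) := by
        rw [← cj_Cz]
        exact conj_mem_cj hzC
      have hzQ : g * z * g⁻¹ ∈ Q := by
        refine ⟨conj_mem_cj hzP, ?_⟩
        exact Cz_le_Nz T (Cz_anti hTg hzg)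
      refine ⟨g * z * g⁻¹, hcent ⟨hzQ, Cz_anti hTg hzg⟩, Cz_anti inf_le_left hzg, ?_⟩
      rw [conj_pow, hzx]
    · exact Or.inr (Or.inr h)
  apply hmne
  rw [hσm]
  exact hfinal m hm

end Cfsg.Agent.H17.Tr
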