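import Cfsg.Agent.H17_WC
import Cfsg.Agent.H17_SNC
import Cfsg.Agent.H17_Zipper

/-! Products `H° = H₁ H₂` with `[H₁, H₂] ≤ N(Q)` (S2859). -/

set_option autoImplicit false

namespace Cfsg.Agent.H17.WCProd

open Cfsg Cfsg.Agent.H17.Base
open scoped commutatorElement

section
variable {G : Type*} [Group G] {p : ℕ}

theorem comm_mul_right_of_central {x y z : G} (h : ⁅x, z⁆ ∈ Subgroup.center G) : ⁅x, y * z⁆ = ⁅x, y⁆ * ⁅x, z⁆ := by
  have h1 := Subgroup.mem_center_iff.1 h y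
  have e : ⁅x, y * z⁆ = ⁅x, y⁆ * (y * ⁅x, z⁆ * y⁻¹) := by
    simp only [commutatorElement_def]; group
  rw [e, h1]; group

theorem comm_mul_left_of_central {x y z : G} (h : ⁅y, z⁆ ∈ Subgroup.center G) : ⁅x * y, z⁆ = ⁅y, z⁆ * ⁅x, z⁆ := by
  have h1 := Subgroup.mem_center_iff.1 h x
  have e : ⁅x * y, z⁆ = (x * ⁅y, z⁆ * x⁻¹) * ⁅x, z⁆ := by
    simp only [commutatorElement_def]; group
  rw [e, h1]; group

theorem comm_pow_left {N : Subgroup G} (hN : N ≤ Subgroup.center G) {A : Subgroup G} {z : G}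
    (h : ∀ a ∈ A, ⁅a, z⁆ ∈ N) {x : G} (hx : x ∈ A) (n : ℕ) : ⁅x ^ n, z⁆ = ⁅x, z⁆ ^ n := by
  induction n with
  | zero => simp
  | succ n ih =>
    rw [pow_succ, comm_mul_left_of_central (hN (h x hx)), ih, pow_succ']

theorem comm_pow_right {N : Subgroup G} (hN : N ≤ Subgroup.center G) {A : Subgroup G} {z : G}
    (h : ∀ a ∈ A, ⁅z, a⁆ ∈ N) {x : G} (hx : x ∈ A) (n : ℕ) : ⁅z, x ^ n⁆ = ⁅z, x⁆ ^ n := by
  induction n with
  | zero => simp
  | succ n ih =>
    rw [pow_succ, comm_mul_right_of_central (hN (h x hx)), ih, pow_succ]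

theorem lemmaA [Fact p.Prime] [Finite G] (hO : pCore p G = ⊥) {Q H1 H2 : Subgroup G} (hQ : IsPGroup p Q)
    (hQn : ∀ X : Subgroup G, X.Normal → Q ≤ X → X = ⊤) [H1.Normal] [H2.Normal] (hsup : H1 ⊔ H2 = ⊤)
    (hc : ⁅⁅H1, H2⁆, Q⁆ = ⊥) : ⁅H1, H2⁆ = ⊥ := by
  set N := ⁅H1, H2⁆ with hN
  have hNn : N.Normal := inferInstance
  have hNZ : N ≤ Subgroup.center G := by
    have h1 : Cz N = ⊤ := by
      apply hQn _ _ (commutator_eq_bot_iff_le_Cz'.1 hc)
      rw [normal_iff_top_le_Nz]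
      exact (normal_iff_top_le_Nz.1 hNn).trans (Nz_le_Nz_Cz N)
    have h2 : N ≤ Cz ⊤ := le_Cz_comm.1 h1.ge
    rwa [Cz_top] at h2
  -- `N` is a `p'`-group
  have hNp : ¬ p ∣ Nat.card N := by
    intro hdvd
    obtain ⟨⟨x, hxN⟩, hx⟩ := exists_prime_orderOf_dvd_card' p hdvd
    rw [Subgroup.orderOf_mk] at hx
    have hz : Subgroup.zpowers x ≤ Subgroup.center G := by rw [Subgroup.zpowers_le]; exact hNZ hxN
    have h1 : (Subgroup.zpowers x).Normal := by
      rw [normal_iff_top_le_Nz]; exact le_Nz_of_le_center hz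
    have h2 : IsPGroup p (Subgroup.zpowers x) := by
      apply IsPGroup.of_card (n := 1)
      rw [Nat.card_zpowers, hx, pow_one]
    have h3 := le_pCore h1 h2
    rw [hO] at h3
    have h4 := h3 (Subgroup.mem_zpowers x)
    rw [Subgroup.mem_bot] at h4
    rw [h4, orderOf_one] at hx
    exact (Fact.out (p := p.Prime)).one_lt.ne hx
  set m := Nat.card N with hm
  have hmp : m.Coprime p := ((Fact.out (p := p.Prime)).coprime_iff_not_dvd.2 hNp).symm
  have hpow : ∀ x ∈ N, x ^ m = 1 := by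
    intro x hx
    have h1 : (⟨x, hx⟩ : N) ^ m = 1 := pow_card_eq_one'
    exact congrArg Subtype.val h1
  have hQpow : ∀ q ∈ Q, ∃ k : ℕ, q ^ p ^ k = 1 := fun q hq => isPGroup_iff_forall_mem.1 hQ q hq
  have hcop : ∀ (k : ℕ) (x : G), x ^ p ^ k = 1 → x ^ m = 1 → x = 1 := by
    intro k x h1 h2
    have h3 : orderOf x ∣ p ^ k := orderOf_dvd_of_pow_eq_one h1
    have h4 : orderOf x ∣ m := orderOf_dvd_of_pow_eq_one h2
    have h5 := Nat.eq_one_of_dvd_coprimes (Nat.Coprime.pow_right k hmp) h4 h3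
    exact orderOf_eq_one_iff.1 h5
  -- `D` is central
  set D := H1 ⊓ H2 with hD
  have hDn : D.Normal := inferInstance
  have hDN : ⁅D, (⊤ : Subgroup G)⁆ ≤ N := by
    rw [← hsup]
    apply comm_sup_le
    · rw [Subgroup.commutator_comm]
      exact Subgroup.commutator_mono le_rfl inf_le_right
    · exact Subgroup.commutator_mono inf_le_left le_rfl
  have hDZ : D ≤ Subgroup.center G := by
    have h1 : Cz D = ⊤ := by
      apply hQn
      · rw [normal_iff_top_le_Nz]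
        exact (normal_iff_top_le_Nz.1 hDn).trans (Nz_le_Nz_Cz D)
      · intro q hq
        rw [Subgroup.mem_centralizer_iff]
        intro d hd
        obtain ⟨k, hk⟩ := hQpow q hq
        have h2 : ⁅d, q⁆ ^ p ^ k = 1 := by
          rw [← comm_pow_right hNZ (A := ⊤) (z := d) (fun a _ => hDN (Subgroup.commutator_mem_commutator hd (Subgroup.mem_top a)))
            (Subgroup.mem_top q), hk, commutatorElement_one_right]
        have h3 := hcop k _ h2 (hpow _ (hDN (Subgroup.commutator_mem_commutator hd (Subgroup.mem_top q))))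
        exact commutatorElement_eq_one_iff_mul_comm.1 h3
    have h2 : D ≤ Cz ⊤ := le_Cz_comm.1 h1.ge
    rwa [Cz_top] at h2
  -- `W = H2 C_{H1}(H2)`
  set C := H1 ⊓ Cz H2 with hC
  have hCn : C.Normal := by
    rw [normal_iff_top_le_Nz]
    exact (le_inf (le_Nz_of_normal H1 ⊤) ((le_Nz_of_normal H2 ⊤).trans (Nz_le_Nz_Cz H2))).trans (Nz_inf_le _ _)
  have hWn : (C ⊔ H2).Normal := inferInstance
  have hH1m : ∀ x ∈ H1, x ^ m ∈ C := by
    intro x hx
    refine ⟨H1.pow_mem hx m, ?_⟩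
    show x ^ m ∈ Cz H2
    rw [Subgroup.mem_centralizer_iff]
    intro y hy
    have h1 : ⁅x ^ m, y⁆ = 1 := by
      rw [comm_pow_left hNZ (A := H1) (z := y) (fun a ha => Subgroup.commutator_mem_commutator ha hy) hx]
      exact hpow _ (Subgroup.commutator_mem_commutator hx hy)
    exact (commutatorElement_eq_one_iff_mul_comm.1 h1).symm
  have hW : C ⊔ H2 = ⊤ := by
    apply hQn _ hWn
    intro q hq
    obtain ⟨k, hk⟩ := hQpow q hq
    have hq1 : q ∈ H1 ⊔ H2 := by rw [hsup]; trivial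
    rw [mem_sup_normal] at hq1
    obtain ⟨a, ha, b, hb, rfl⟩ := hq1
    have e1 : (QuotientGroup.mk' (C ⊔ H2) (a * b)) = QuotientGroup.mk' (C ⊔ H2) a := by
      rw [map_mul]
      have : QuotientGroup.mk' (C ⊔ H2) b = 1 := (QuotientGroup.eq_one_iff _).2 ((le_sup_right : H2 ≤ C ⊔ H2) hb)
      rw [this, mul_one]
    have h1 : (QuotientGroup.mk' (C ⊔ H2) (a * b)) ^ p ^ k = 1 := by rw [← map_pow, hk, map_one]
    have h2 : (QuotientGroup.mk' (C ⊔ H2) (a * b)) ^ m = 1 := by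
      rw [e1, ← map_pow]
      exact (QuotientGroup.eq_one_iff _).2 ((le_sup_left : C ≤ C ⊔ H2) (hH1m a ha))
    have h3 : orderOf (QuotientGroup.mk' (C ⊔ H2) (a * b)) = 1 :=
      Nat.eq_one_of_dvd_coprimes (Nat.Coprime.pow_right k hmp) (orderOf_dvd_of_pow_eq_one h2) (orderOf_dvd_of_pow_eq_one h1)
    exact (QuotientGroup.eq_one_iff _).1 (orderOf_eq_one_iff.1 h3)
  have hH1 : H1 ≤ C ⊔ D := by
    have h1 : (C ⊔ H2) ⊓ H1 = C ⊔ (H2 ⊓ H1) := dedekind inf_le_left (le_Nz_of_normal H2 C)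
    rw [hW, top_inf_eq, inf_comm H2 H1] at h1
    exact h1.le
  rw [eq_bot_iff, hN]
  refine (Subgroup.commutator_mono hH1 le_rfl).trans ?_
  apply sup_comm_le
  · rw [commutator_eq_bot_iff_le_Cz.2 inf_le_right]
  · rw [commutator_eq_bot_iff_le_Cz.2]
    exact hDZ.trans (Cz_top (G := G) ▸ Cz_anti le_top)

theorem pCore_quot_bot [Fact p.Prime] [Finite G] [hn : (pCore p G).Normal] : pCore p (G ⧸ pCore p G) = ⊥ := by
  rw [pCore_quotient_eq_bot_iff]
  intro K hK hres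
  have h1 : resOf p K = ⊥ := by
    rw [← resOf_resOf, resOf_eq_bot_iff]
    exact (pCore_isPGroup p G).to_le hres
  exact le_pCore hK (isPGroup_of_resOf_eq_bot h1)

/-- `[H₁, H₂] ≤ O_p(H°)` -/
theorem comm_le_core [Fact p.Prime] [Finite G] {Q Hc H1 H2 : Subgroup G} (hQ : IsPGroup p Q) (hQH : Q ≤ Hc)
    (hncl : ncl Hc Q = Hc) (h1 : H1 ≤ Hc) (n1 : Hc ≤ Nz H1) (h2 : H2 ≤ Hc) (n2 : Hc ≤ Nz H2) (hsup : H1 ⊔ H2 = Hc)
    (hc : ⁅H1, H2⁆ ≤ Nz Q) : ⁅H1, H2⁆ ≤ pCoreOf p Hc := by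
  have hN : Hc ≤ Nz ⁅H1, H2⁆ := (le_inf n1 n2).trans (Nz_commutator_le _ _)
  have hNH : ⁅H1, H2⁆ ≤ Hc := (commutator_le_left_iff.2 (h2.trans n1)).trans h1
  have hNQ : ⁅⁅H1, H2⁆, Q⁆ ≤ pCoreOf p Hc := by
    have e1 : ⁅⁅H1, H2⁆, Q⁆ ≤ ⁅H1, H2⁆ ⊓ Q :=
      le_inf (commutator_le_left_iff.2 (hQH.trans hN)) (commutator_le_right_iff.2 hc)
    refine e1.trans ?_
    have e2 : ⁅H1, H2⁆ ⊓ Q ≤ pCoreOf p ⁅H1, H2⁆ := by
      apply le_pCoreOf inf_le_left _ (hQ.to_le inf_le_right)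
      exact (le_inf Subgroup.le_normalizer hc).trans (Nz_inf_le _ _)
    exact e2.trans (pCoreOf_mono_normal hNH hN)
  have hPn : (pCore p ↥Hc).Normal := pCore_normal p ↥Hc
  set f := QuotientGroup.mk' (pCore p ↥Hc) with hf
  have hfs : Function.Surjective f := QuotientGroup.mk'_surjective _
  have e : ∀ X : Subgroup G, X ≤ Hc → (X.subgroupOf Hc).map Hc.subtype = X := fun X hX => Subgroup.map_subgroupOf_eq_of_le hX
  have hcomm : ∀ X Y : Subgroup G, X ≤ Hc → Y ≤ Hc → ⁅X, Y⁆ = (⁅X.subgroupOf Hc, Y.subgroupOf Hc⁆).map Hc.subtype := by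
    intro X Y hX hY
    rw [Subgroup.map_commutator, e X hX, e Y hY]
  have hcommof : ∀ X Y : Subgroup G, X ≤ Hc → Y ≤ Hc → ⁅X, Y⁆.subgroupOf Hc = ⁅X.subgroupOf Hc, Y.subgroupOf Hc⁆ := by
    intro X Y hX hY
    rw [hcomm X Y hX hY]
    exact Subgroup.comap_map_eq_self_of_injective Hc.subtype_injective _
  have hn1 : ((H1.subgroupOf Hc).map f).Normal := ((normal_subgroupOf_iff h1).2 n1).map f hfs
  have hn2 : ((H2.subgroupOf Hc).map f).Normal := ((normal_subgroupOf_iff h2).2 n2).map f hfs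
  have key := lemmaA (p := p) (pCore_quot_bot (G := ↥Hc)) (Q := (Q.subgroupOf Hc).map f)
    (H1 := (H1.subgroupOf Hc).map f) (H2 := (H2.subgroupOf Hc).map f) ((hQ.comap_subtype).map f) (by
      intro X hX hQX
      have h3 : Q ≤ (X.comap f).map Hc.subtype := by
        rw [← e Q hQH]
        apply Subgroup.map_mono
        rwa [← Subgroup.map_le_iff_le_comap]
      have h4 : Hc ≤ Nz ((X.comap f).map Hc.subtype) := by
        have h5 : (X.comap f).Normal := hX.comap f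
        have h6 := map_le_Nz_map_iff (L := Hc) (K := ⊤) (V := X.comap f)
        rw [map_top_subtype] at h6
        rw [h6]
        exact normal_iff_top_le_Nz.1 h5
      have h5 := ncl_le h3 h4
      rw [hncl] at h5
      have h6 : X.comap f = ⊤ := by
        apply Subgroup.map_injective Hc.subtype_injective
        rw [map_top_subtype]
        exact le_antisymm (Subgroup.map_subtype_le _) h5
      rw [← Subgroup.map_comap_eq_self_of_surjective hfs X, h6, Subgroup.map_top_of_surjective _ hfs])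
    (by rw [← Subgroup.map_sup, ← Subgroup.subgroupOf_sup h1 h2, hsup, Subgroup.subgroupOf_self, Subgroup.map_top_of_surjective _ hfs])
    (by
      rw [← Subgroup.map_commutator, ← Subgroup.map_commutator, ← hcommof H1 H2 h1 h2, ← hcommof _ _ hNH hQH,
        Subgroup.map_eq_bot_iff, hf, QuotientGroup.ker_mk']
      have h3 : (⁅⁅H1, H2⁆, Q⁆.subgroupOf Hc) ≤ (pCoreOf p Hc).subgroupOf Hc := Subgroup.comap_mono hNQ
      have h4 : (pCoreOf p Hc).subgroupOf Hc = pCore p ↥Hc := Subgroup.comap_map_eq_self_of_injective Hc.subtype_injective _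
      rwa [h4] at h3)
  rw [← Subgroup.map_commutator, Subgroup.map_eq_bot_iff, hf, QuotientGroup.ker_mk'] at key
  rw [hcomm H1 H2 h1 h2]
  exact Subgroup.map_mono key

theorem SN.eq_of_ncl {L X Q : Subgroup G} (h : SN L X) (hQX : Q ≤ X) (hn : ncl L Q = L) : X = L := by
  induction h with
  | refl => rfl
  | step H M a b c ih =>
    have h1 := ih (hQX.trans a)
    subst h1
    apply le_antisymm a
    rw [← hn]
    exact ncl_le hQX b

theorem le_Nz_of_comm_le {X Y H : Subgroup G} (h : ∀ y ∈ H, cj y X ≤ Y) : ⁅H, X⁆ ≤ Y ⊔ X := by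
  rw [Subgroup.commutator_le]
  intro y hy x hx
  have h1 : y * x * y⁻¹ ∈ Y := by
    apply h y hy
    rw [mem_cj]
    have : y⁻¹ * (y * x * y⁻¹) * y = x := by group
    rwa [this]
  rw [commutatorElement_def]
  exact (Y ⊔ X).mul_mem ((le_sup_left : Y ≤ Y ⊔ X) h1) ((le_sup_right : X ≤ Y ⊔ X) (X.inv_mem hx))

theorem ncl_self_facts [Fact p.Prime] [Finite G] {L Q : Subgroup G} (hQ : IsPGroup p Q) (hQL : Q ≤ L) (h : ncl L Q = L) :
    resOf p L ⊔ Q = L ∧ ⁅resOf p L, Q⁆ = resOf p L := by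
  constructor
  · exact SN.eq_of_ncl (sn_of_resOf_le (p := p) le_sup_left (sup_le (resOf_le L) hQL)) le_sup_right h
  · have h0 : resOf p L ⊔ Q = L :=
      SN.eq_of_ncl (sn_of_resOf_le (p := p) le_sup_left (sup_le (resOf_le L) hQL)) le_sup_right h
    set R := resOf p L with hR
    have hRn : ⁅R, Q⁆ ≤ R := commutator_le_left_iff.2 (hQL.trans (le_Nz_resOf L))
    apply le_antisymm hRn
    have h1 : L ≤ Nz (Q ⊔ ⁅R, Q⁆) := by
      conv_lhs => rw [← h0]
      exact sup_le le_Nz_sup_commutator (le_sup_left.trans Subgroup.le_normalizer)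
    have h2 : L ≤ Nz ⁅R, Q⁆ := by
      conv_lhs => rw [← h0]
      exact sup_le (Subgroup.normalizer_commutator_ge_left R Q) (Subgroup.normalizer_commutator_ge_right R Q)
    have h3 : ⁅R, Q⁆ ⊔ Q = L := by
      apply le_antisymm (sup_le (hRn.trans (resOf_le L)) hQL)
      conv_lhs => rw [← h]
      rw [sup_comm]
      exact ncl_le le_sup_left h1
    exact resOf_le_of_sup h2 hQ h3

theorem part [Fact p.Prime] [Finite G] {Q Hc H1 H2 : Subgroup G} (hw : WCl p Q ⊤) (hQ : IsPGroup p Q) (hQH : Q ≤ Hc)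
    (hncl : ncl Hc Q = Hc) (h1 : H1 ≤ Hc) (n1 : Hc ≤ Nz H1) (h2 : H2 ≤ Hc) (n2 : Hc ≤ Nz H2) (hsup : H1 ⊔ H2 = Hc)
    (hP : ⁅H1, H2⁆ ≤ pCoreOf p Hc) {K1 : Subgroup G} (hK1 : K1 = resOf p (ncl (H1 ⊔ Q) Q)) :
    ⁅K1, Q⁆ = K1 ∧ ⁅K1, H1⁆ = K1 ∧ K1 ≤ ⁅H1, H1⁆ ∧ Hc ≤ Nz K1 ∧ K1 ≤ H1 ∧ (∀ y ∈ H1, cj y Q ≤ K1 ⊔ Q) ∧ K1 ≤ resOf p Hc := by
  set P := pCoreOf p Hc with hPdef
  have hPp : IsPGroup p P := pCoreOf_isPGroup Hc
  have hPH : P ≤ Hc := pCoreOf_le Hc
  have hHP : Hc ≤ Nz P := le_Nz_pCoreOf Hc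
  set X := H1 ⊔ Q with hX
  have hXH : X ≤ Hc := sup_le h1 hQH
  have hQX : Q ≤ X := le_sup_right
  set L := ncl X Q with hL
  have hLX : L ≤ X := ncl_le hQX Subgroup.le_normalizer
  have hXL : X ≤ Nz L := le_Nz_ncl X Q
  have hQL : Q ≤ L := le_ncl X Q
  have hLL : ncl L Q = L := ((hw.mono le_top).ncl_eq_of_sn hQ (SN.of_normal hLX hXL) hQL).symm
  obtain ⟨e1, e2⟩ := ncl_self_facts hQ hQL hLL
  rw [← hK1] at e1 e2
  have hK1L : K1 ≤ L := hK1 ▸ resOf_le L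
  have hK1H1 : K1 ≤ H1 := by
    rw [hK1]
    refine (resOf_mono hLX).trans ?_
    apply resOf_le_of_sup (Q := Q) _ hQ rfl
    exact hXH.trans n1
  have hXK : X ≤ Nz K1 := by rw [hK1]; exact hXL.trans (Nz_le_Nz_resOf L)
  have hPQ : P ≤ Nz Q := by
    have h3 : IsPGroup p ↥(Q ⊔ P) := isPGroup_sup_of_le_Nz hQ hPp (hQH.trans hHP)
    exact le_sup_right.trans (hw.le_Nz le_top h3 le_sup_left)
  have hPK : P ≤ Nz K1 := by
    have h3 : P ≤ Nz L := by
      refine (le_inf ?_ hPQ).trans (Nz_inf_le_Nz_ncl X Q)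
      exact (le_inf (hPH.trans n1) hPQ).trans (Nz_sup_le _ _)
    rw [hK1]; exact h3.trans (Nz_le_Nz_resOf L)
  have hK1H : K1 ≤ Hc := hK1H1.trans h1
  have hKK : resOf p K1 = K1 := by rw [hK1, resOf_resOf]
  have hKP : resOf p (K1 ⊔ P) = K1 := by
    have hsn : SN (K1 ⊔ P) K1 := SN.of_normal le_sup_left (sup_le Subgroup.le_normalizer hPK)
    rw [← hsn.resOf_eq_of_sup hPp rfl (hK1H.trans hHP), hKK]
  have hK1H2 : ⁅K1, H2⁆ ≤ P := (Subgroup.commutator_mono hK1H1 le_rfl).trans hP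
  have hH2K : H2 ≤ Nz K1 := by
    have h3 : ⁅K1 ⊔ P, H2⁆ ≤ P := by
      apply sup_comm_le' (hK1H.trans hHP) Subgroup.le_normalizer (h2.trans hHP) hK1H2
      exact commutator_le_left_iff.2 (h2.trans hHP)
    have h4 : H2 ≤ Nz (K1 ⊔ P) := by
      rw [← commutator_le_left_iff]; exact h3.trans le_sup_right
    have h5 := h4.trans (Nz_le_Nz_resOf (p := p) (K1 ⊔ P))
    rwa [hKP] at h5
  have hHK : Hc ≤ Nz K1 := by
    rw [← hsup]
    exact sup_le ((le_sup_left : H1 ≤ X).trans hXK) hH2K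
  set U := ⁅K1, H1⁆ with hU
  have hUK : U ≤ K1 := commutator_le_left_iff.2 (h1.trans hHK)
  have hHU : Hc ≤ Nz U := (le_inf hHK n1).trans (Nz_commutator_le _ _)
  have hKU : K1 ≤ U := by
    set C := U ⊔ (P ⊓ K1) with hC
    have hHC : Hc ≤ Nz C := (le_inf hHU ((le_inf hHP hHK).trans (Nz_inf_le _ _))).trans (Nz_sup_le _ _)
    have h3 : ⁅K1, H1 ⊔ H2⁆ ≤ C := by
      apply comm_sup_le' (h1.trans hHC) (h2.trans hHC) (hK1H.trans hHC)
      · exact le_sup_left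
      · exact (le_inf hK1H2 (commutator_le_left_iff.2 hH2K)).trans le_sup_right
    have h4 : K1 ≤ C := by
      conv_lhs => rw [← e2]
      refine (Subgroup.commutator_mono le_rfl ?_).trans h3
      rw [hsup]; exact hQH
    have h5 : U ⊔ (P ⊓ K1) = K1 := le_antisymm (sup_le hUK inf_le_right) h4
    rw [← hKK]
    exact resOf_le_of_sup (hK1H.trans hHU) (hPp.to_le inf_le_left) h5
  have hUe : U = K1 := le_antisymm hUK hKU
  refine ⟨e2, hUe, ?_, hHK, hK1H1, ?_, ?_⟩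
  · rw [← hUe]; exact Subgroup.commutator_mono hK1H1 le_rfl
  · intro y hy
    rw [e1]
    exact cj_le_ncl ((le_sup_left : H1 ≤ X) hy)
  · rw [← hKK]; exact resOf_mono hK1H

end

end Cfsg.Agent.H17.WCProd
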