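import Cfsg.Agent.H17_Base
import Cfsg.Agent.H1_Partition

set_option autoImplicit false
open Cfsg

/-! Faithful modules for groups of symplectic type: lower bound for the order. -/

namespace Cfsg.Agent.H17.XRep

section abs

variable {V : Type*} [CommGroup V] {p : ℕ}

/-- fixed points -/
def U (ρ : MulAut V) : Subgroup V where
  carrier := {v | ρ v = v}
  one_mem' := map_one ρ
  mul_mem' := by
    intro a b ha hb
    show ρ (a * b) = a * b
    rw [map_mul, ha, hb]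
  inv_mem' := by
    intro a ha
    show ρ a⁻¹ = a⁻¹
    rw [map_inv, ha]

theorem mem_U {ρ : MulAut V} {v : V} : v ∈ U ρ ↔ ρ v = v := Iff.rfl

/-- the norm map -/
def nrm (p : ℕ) (ρ : MulAut V) : V →* V where
  toFun v := ∏ j ∈ Finset.range p, (ρ ^ j) v
  map_one' := by simp
  map_mul' a b := by
    rw [← Finset.prod_mul_distrib]
    exact Finset.prod_congr rfl fun j _ => map_mul _ a b

theorem nrm_apply (ρ : MulAut V) (v : V) : nrm p ρ v = ∏ j ∈ Finset.range p, (ρ ^ j) v := rfl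

theorem nrm_fix {ρ : MulAut V} (hρ : ρ ^ p = 1) (v : V) : ρ (nrm p ρ v) = nrm p ρ v := by
  rw [nrm_apply, map_prod]
  have h1 : ∀ j, ρ ((ρ ^ j) v) = (ρ ^ (j + 1)) v := by
    intro j
    rw [pow_succ']; rfl
  simp only [h1]
  have h2 := Finset.prod_range_succ (fun j => (ρ ^ j) v) p
  have h3 := Finset.prod_range_succ' (fun j => (ρ ^ j) v) p
  rw [h2, hρ, pow_zero] at h3
  exact (mul_right_cancel h3).symm

theorem prod_card_le [Finite V] (hp : p.Prime) (hV : (Nat.card V).Coprime p) (σ τ : MulAut V) (hσ : σ ^ p = 1)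
    (hτ : τ ^ p = 1) (hc : σ * τ = τ * σ) (hfix : ∀ v, τ v = v → v = 1) :
    ∏ i : Fin p, Nat.card (U (σ * τ ^ (i : ℕ))) ≤ Nat.card V := by
  classical
  let Φ : (∀ i : Fin p, U (σ * τ ^ (i : ℕ))) → V := fun u => ∏ i, (u i : V)
  have key : ∀ (k i : Fin p) (u : V), u ∈ U (σ * τ ^ (i : ℕ)) → i ≠ k → nrm p (σ * τ ^ (k : ℕ)) u = 1 := by
    intro k i u hu hik
    set ρ : MulAut V := τ ^ ((k : ℤ) - (i : ℤ)) with hρ
    have h1 : ∀ j : ℕ, ((σ * τ ^ (k : ℕ)) ^ j) u = (ρ ^ j) u := by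
      -- both commute with everything, and agree on `U`
      have hcz : ∀ m : ℤ, Commute σ (τ ^ m) := fun m => (show Commute σ τ from hc).zpow_right m
      have hinv : ∀ (m : ℤ) (v : V), v ∈ U (σ * τ ^ (i : ℕ)) → (τ ^ m) v ∈ U (σ * τ ^ (i : ℕ)) := by
        intro m v hv
        rw [mem_U] at hv ⊢
        have h2 : (σ * τ ^ (i : ℕ)) * τ ^ m = τ ^ m * (σ * τ ^ (i : ℕ)) := by
          rw [mul_assoc, ← zpow_natCast, ← zpow_add, add_comm, zpow_add, ← mul_assoc, (hcz m).eq, mul_assoc]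
        calc (σ * τ ^ (i : ℕ)) ((τ ^ m) v) = ((σ * τ ^ (i : ℕ)) * τ ^ m) v := rfl
          _ = (τ ^ m * (σ * τ ^ (i : ℕ))) v := by rw [h2]
          _ = (τ ^ m) ((σ * τ ^ (i : ℕ)) v) := rfl
          _ = (τ ^ m) v := by rw [hv]
      have hstep : ∀ v : V, v ∈ U (σ * τ ^ (i : ℕ)) → (σ * τ ^ (k : ℕ)) v = ρ v := by
        intro v hv
        have h3 : σ * τ ^ (k : ℕ) = ρ * (σ * τ ^ (i : ℕ)) := by
          rw [hρ, ← mul_assoc, (hcz _).symm.eq, mul_assoc, ← zpow_natCast, ← zpow_natCast, ← zpow_add]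
          congr 2; ring
        rw [h3]
        show ρ ((σ * τ ^ (i : ℕ)) v) = ρ v
        rw [mem_U.mp hv]
      intro j
      induction j with
      | zero => rfl
      | succ j ih =>
        rw [pow_succ', pow_succ']
        show (σ * τ ^ (k : ℕ)) (((σ * τ ^ (k : ℕ)) ^ j) u) = ρ ((ρ ^ j) u)
        rw [ih]
        apply hstep
        have h8 : ρ ^ j = τ ^ (((k : ℤ) - (i : ℤ)) * (j : ℤ)) := by
          rw [hρ, zpow_mul, zpow_natCast]
        rw [h8]
        exact hinv _ _ hu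
    have h2 : nrm p (σ * τ ^ (k : ℕ)) u = nrm p ρ u := by
      rw [nrm_apply, nrm_apply]
      exact Finset.prod_congr rfl fun j _ => h1 j
    rw [h2]
    apply hfix
    have hρp : ρ ^ p = 1 := by
      rw [hρ, ← zpow_natCast, ← zpow_mul, mul_comm, zpow_mul, zpow_natCast, hτ, one_zpow]
    have h3 := nrm_fix hρp u
    -- `τ` is a power of `ρ`
    have h4 : IsCoprime ((k : ℤ) - (i : ℤ)) (p : ℤ) := by
      rw [Int.isCoprime_iff_gcd_eq_one, Int.gcd_comm]
      have h5 : ¬ (p : ℤ) ∣ ((k : ℤ) - (i : ℤ)) := by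
        intro hd
        apply hik
        have h6 : ((k : ℤ) - (i : ℤ)) = 0 := by
          apply Int.eq_zero_of_abs_lt_dvd hd
          have := k.2; have := i.2
          rw [abs_lt]; constructor <;> omega
        apply Fin.ext; omega
      exact (Int.isCoprime_iff_gcd_eq_one.mp ((Nat.prime_iff_prime_int.mp hp).coprime_iff_not_dvd.mpr h5))
    obtain ⟨a, b, hab⟩ := h4
    have h5 : τ = ρ ^ a := by
      rw [hρ, ← zpow_mul]
      have h6 : ((k : ℤ) - (i : ℤ)) * a = 1 - b * p := by linarith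
      rw [h6, zpow_sub, zpow_one, mul_comm b, zpow_mul, zpow_natCast, hτ, one_zpow, inv_one, mul_one]
    rw [h5]
    have h6 : ∀ m : ℤ, (ρ ^ m) (nrm p ρ u) = nrm p ρ u := by
      intro m
      have h7 : ρ ∈ MulAction.stabilizer (MulAut V) (nrm p ρ u) := h3
      exact Subgroup.zpow_mem _ h7 m
    exact h6 a
  have hself : ∀ (k : Fin p) (u : V), u ∈ U (σ * τ ^ (k : ℕ)) → nrm p (σ * τ ^ (k : ℕ)) u = u ^ p := by
    intro k u hu
    rw [nrm_apply, Finset.prod_congr rfl (g := fun _ => u), Finset.prod_const, Finset.card_range]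
    intro j _
    have h7 : (σ * τ ^ (k : ℕ)) ∈ MulAction.stabilizer (MulAut V) u := hu
    exact Subgroup.pow_mem _ h7 j
  have hpow : ∀ v : V, v ^ p = 1 → v = 1 := by
    intro v hv
    have h1 := orderOf_dvd_of_pow_eq_one hv
    have h2 := orderOf_dvd_natCard v
    have h3 := Nat.dvd_gcd h2 h1
    rw [hV] at h3
    exact orderOf_eq_one_iff.mp (Nat.dvd_one.mp h3)
  have hΦ : Function.Injective Φ := by
    intro u v huv
    funext k
    apply Subtype.ext
    have h1 : ∏ i, ((u i : V) * (v i : V)⁻¹) = 1 := by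
      rw [Finset.prod_mul_distrib, Finset.prod_inv_distrib]
      exact mul_inv_eq_one.mpr huv
    have h2 : nrm p (σ * τ ^ (k : ℕ)) (∏ i, ((u i : V) * (v i : V)⁻¹)) = 1 := by rw [h1, map_one]
    rw [map_prod, Finset.prod_eq_single k] at h2
    · rw [hself k _ ((U _).mul_mem (u k).2 ((U _).inv_mem (v k).2))] at h2
      exact mul_inv_eq_one.mp (hpow _ h2)
    · intro i _ hik
      exact key k i _ ((U _).mul_mem (u i).2 ((U _).inv_mem (v i).2)) hik
    · intro h
      exact absurd (Finset.mem_univ k) h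
  calc ∏ i : Fin p, Nat.card (U (σ * τ ^ (i : ℕ))) = Nat.card (∀ i : Fin p, U (σ * τ ^ (i : ℕ))) := by
        rw [Nat.card_pi]
    _ ≤ Nat.card V := Nat.card_le_card_of_injective Φ hΦ

theorem nrm_eq_one {ρ τ : MulAut V} (hρ : ρ ^ p = 1) (hfix : ∀ v, τ v = v → v = 1) {a : ℤ} (ha : τ = ρ ^ a) (v : V) :
    nrm p ρ v = 1 := by
  apply hfix
  rw [ha]
  have h7 : ρ ∈ MulAction.stabilizer (MulAut V) (nrm p ρ v) := nrm_fix hρ v
  exact Subgroup.zpow_mem _ h7 a

theorem exists_fixed (hp : p.Prime) [Finite V] (hV : (Nat.card V).Coprime p) (σ τ : MulAut V) (hσ : σ ^ p = 1)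
    (hτ : τ ^ p = 1) (hc : σ * τ = τ * σ) (hfix : ∀ v, τ v = v → v = 1)
    (h : ∀ (k : Fin p) (v : V), (σ * τ ^ (k : ℕ)) v = v → v = 1) (v : V) : v = 1 := by
  have hc' : Commute σ τ := hc
  have h1 : ∀ k : ℕ, k < p → nrm p (σ * τ ^ k) v = 1 := by
    intro k hk
    have h2 : (σ * τ ^ k) ^ p = 1 := by
      rw [(hc'.pow_right k).mul_pow, hσ, ← pow_mul, mul_comm k p, pow_mul, hτ, one_pow, one_mul]
    exact nrm_eq_one h2 (h ⟨k, hk⟩) (zpow_one _).symm v
  have h2 : ∏ k ∈ Finset.range p, nrm p (σ * τ ^ k) v = 1 :=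
    Finset.prod_eq_one fun k hk => h1 k (Finset.mem_range.mp hk)
  simp only [nrm_apply] at h2
  rw [Finset.prod_comm] at h2
  have h3 : ∀ j ∈ Finset.range p, j ≠ 0 → ∏ k ∈ Finset.range p, ((σ * τ ^ k) ^ j) v = 1 := by
    intro j hj hj0
    have hjp := Finset.mem_range.mp hj
    have h4 : ∀ k, ((σ * τ ^ k) ^ j) v = (σ ^ j) (((τ ^ j) ^ k) v) := by
      intro k
      rw [(hc'.pow_right k).mul_pow, ← pow_mul, mul_comm k j, pow_mul]
      rfl
    simp only [h4]
    rw [← map_prod]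
    have h5 : ∏ k ∈ Finset.range p, ((τ ^ j) ^ k) v = nrm p (τ ^ j) v := rfl
    rw [h5]
    have h6 : (τ ^ j) ^ p = 1 := by rw [← pow_mul, mul_comm, pow_mul, hτ, one_pow]
    have h7 : Nat.Coprime j p := by
      rw [Nat.coprime_comm, Nat.Prime.coprime_iff_not_dvd hp]
      intro hd
      exact absurd (Nat.le_of_dvd (Nat.pos_of_ne_zero hj0) hd) (by omega)
    obtain ⟨a, b, hab⟩ := Nat.isCoprime_iff_coprime.mpr h7
    have h8 : τ = (τ ^ j) ^ a := by
      rw [← zpow_natCast, ← zpow_mul]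
      have h6 : (j : ℤ) * a = 1 - b * p := by linarith
      rw [h6, zpow_sub, zpow_one, mul_comm b, zpow_mul, zpow_natCast, hτ, one_zpow, inv_one, mul_one]
    rw [nrm_eq_one h6 hfix h8, map_one]
  rw [Finset.prod_eq_single 0 h3 (fun h => absurd (Finset.mem_range.mpr hp.pos) h)] at h2
  simp only [pow_zero] at h2
  rw [Finset.prod_const, Finset.card_range] at h2
  have h4 : v ^ p = 1 := h2
  have h5 := orderOf_dvd_of_pow_eq_one h4
  have h6 := orderOf_dvd_natCard v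
  have h7 := Nat.dvd_gcd h6 h5
  rw [hV] at h7
  exact orderOf_eq_one_iff.mp (Nat.dvd_one.mp h7)

end abs

open Cfsg.Agent.H17.Base

section amb

variable {G : Type*} [Group G] [Finite G] {p r : ℕ}

theorem conj_val {V : Subgroup G} {g : G} (hg : g ∈ Nz V) (v : V) :
    ((V.normalizerMonoidHom ⟨g, hg⟩ v : V) : G) = g * v * g⁻¹ := rfl

theorem cent_iff {V : Subgroup G} {g : G} (hg : g ∈ Nz V) (v : V) :
    V.normalizerMonoidHom ⟨g, hg⟩ v = v ↔ (v : G) ∈ Subgroup.centralizer ({g} : Set G) := by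
  rw [Subgroup.mem_centralizer_singleton_iff]
  constructor
  · intro h
    have h1 : g * v * g⁻¹ = v := congrArg Subtype.val h
    calc (v : G) * g = (g * v * g⁻¹) * g := by rw [h1]
      _ = g * v := by group
  · intro h
    apply Subtype.ext
    show g * v * g⁻¹ = v
    rw [← h]; group

variable {z : G} {V : Subgroup G}

theorem amb_prod (hp : p.Prime) (hVc : IsMulCommutative V) (hVp : (Nat.card V).Coprime p) {x : G}
    (hx : x ∈ Nz V) (hz : z ∈ Nz V) (hxp : x ^ p = 1) (hzp : z ^ p = 1) (hxz : x * z = z * x)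
    (hfix : V ⊓ Subgroup.centralizer ({z} : Set G) = ⊥) :
    ∏ i : Fin p, Nat.card (V ⊓ Subgroup.centralizer ({x * z ^ (i : ℕ)} : Set G) : Subgroup G) ≤ Nat.card V := by
  letI : CommGroup V := { (inferInstance : Group V) with mul_comm := fun a b => mul_comm' a b }
  let σ : MulAut V := V.normalizerMonoidHom ⟨x, hx⟩
  let τ : MulAut V := V.normalizerMonoidHom ⟨z, hz⟩
  have h1 := prod_card_le hp hVp σ τ (by
      show V.normalizerMonoidHom ⟨x, hx⟩ ^ p = 1
      rw [← map_pow]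
      have : (⟨x, hx⟩ : Nz V) ^ p = 1 := Subtype.ext hxp
      rw [this, map_one])
    (by
      show V.normalizerMonoidHom ⟨z, hz⟩ ^ p = 1
      rw [← map_pow]
      have : (⟨z, hz⟩ : Nz V) ^ p = 1 := Subtype.ext hzp
      rw [this, map_one])
    (by
      show V.normalizerMonoidHom ⟨x, hx⟩ * V.normalizerMonoidHom ⟨z, hz⟩ = V.normalizerMonoidHom ⟨z, hz⟩ * V.normalizerMonoidHom ⟨x, hx⟩
      rw [← map_mul, ← map_mul]
      congr 1
      exact Subtype.ext hxz)
    (by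
      intro v hv
      have h2 : (v : G) ∈ V ⊓ Subgroup.centralizer ({z} : Set G) := ⟨v.2, (cent_iff hz v).mp hv⟩
      rw [hfix, Subgroup.mem_bot] at h2
      exact Subtype.ext h2)
  refine le_trans (le_of_eq ?_) h1
  apply Finset.prod_congr rfl
  intro i _
  have hxi : x * z ^ (i : ℕ) ∈ Nz V := Subgroup.mul_mem _ hx (Subgroup.pow_mem _ hz _)
  have h2 : σ * τ ^ (i : ℕ) = V.normalizerMonoidHom ⟨x * z ^ (i : ℕ), hxi⟩ := by
    show V.normalizerMonoidHom ⟨x, hx⟩ * V.normalizerMonoidHom ⟨z, hz⟩ ^ (i : ℕ) = _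
    rw [← map_pow, ← map_mul]
    rfl
  rw [h2]
  symm
  apply Nat.card_congr
  exact { toFun := fun v => ⟨v.1, v.1.2, (cent_iff hxi v.1).mp v.2⟩,
          invFun := fun v => ⟨⟨v.1, v.2.1⟩, (cent_iff hxi ⟨v.1, v.2.1⟩).mpr v.2.2⟩,
          left_inv := fun _ => rfl, right_inv := fun _ => rfl }

theorem amb_exists (hp : p.Prime) (hVc : IsMulCommutative V) (hVp : (Nat.card V).Coprime p) {x : G}
    (hx : x ∈ Nz V) (hz : z ∈ Nz V) (hxp : x ^ p = 1) (hzp : z ^ p = 1) (hxz : x * z = z * x)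
    (hfix : V ⊓ Subgroup.centralizer ({z} : Set G) = ⊥)
    (h : ∀ i : ℕ, V ⊓ Subgroup.centralizer ({x * z ^ i} : Set G) = ⊥) : V = ⊥ := by
  letI : CommGroup V := { (inferInstance : Group V) with mul_comm := fun a b => mul_comm' a b }
  let σ : MulAut V := V.normalizerMonoidHom ⟨x, hx⟩
  let τ : MulAut V := V.normalizerMonoidHom ⟨z, hz⟩
  have h1 := exists_fixed hp hVp σ τ (by
      show V.normalizerMonoidHom ⟨x, hx⟩ ^ p = 1
      rw [← map_pow]
      have : (⟨x, hx⟩ : Nz V) ^ p = 1 := Subtype.ext hxp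
      rw [this, map_one])
    (by
      show V.normalizerMonoidHom ⟨z, hz⟩ ^ p = 1
      rw [← map_pow]
      have : (⟨z, hz⟩ : Nz V) ^ p = 1 := Subtype.ext hzp
      rw [this, map_one])
    (by
      show V.normalizerMonoidHom ⟨x, hx⟩ * V.normalizerMonoidHom ⟨z, hz⟩ = V.normalizerMonoidHom ⟨z, hz⟩ * V.normalizerMonoidHom ⟨x, hx⟩
      rw [← map_mul, ← map_mul]
      congr 1
      exact Subtype.ext hxz)
    (by
      intro v hv
      have h2 : (v : G) ∈ V ⊓ Subgroup.centralizer ({z} : Set G) := ⟨v.2, (cent_iff hz v).mp hv⟩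
      rw [hfix, Subgroup.mem_bot] at h2
      exact Subtype.ext h2)
    (by
      intro k v hv
      have hxi : x * z ^ (k : ℕ) ∈ Nz V := Subgroup.mul_mem _ hx (Subgroup.pow_mem _ hz _)
      have h2 : σ * τ ^ (k : ℕ) = V.normalizerMonoidHom ⟨x * z ^ (k : ℕ), hxi⟩ := by
        show V.normalizerMonoidHom ⟨x, hx⟩ * V.normalizerMonoidHom ⟨z, hz⟩ ^ (k : ℕ) = _
        rw [← map_pow, ← map_mul]
        rfl
      rw [h2] at hv
      have h2 : (v : G) ∈ V ⊓ Subgroup.centralizer ({x * z ^ (k : ℕ)} : Set G) := ⟨v.2, (cent_iff hxi v).mp hv⟩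
      rw [h, Subgroup.mem_bot] at h2
      exact Subtype.ext h2)
  rw [eq_bot_iff]
  intro v hv
  exact congrArg Subtype.val (h1 ⟨v, hv⟩)

end amb

end Cfsg.Agent.H17.XRep
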