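import Cfsg.Agent.H2_Extra

set_option autoImplicit false
open Cfsg

namespace Cfsg.Agent.H17.Xsp

open Subgroup Cfsg.Agent.H2.Extra

variable {E : Type*} [Group E] [Finite E]

theorem center_le_and_cent {m : ℕ} (hE : Cfsg.IsExtraspecial 2 E)
    (hcard : Nat.card E = 2 ^ (2 * m + 1)) {A : Subgroup E} (hA : Cfsg.IsElementaryAbelian 2 A)
    (hAc : Nat.card A = 2 ^ (m + 1)) : center E ≤ A ∧ centralizer (A : Set E) = A := by
  have : Fact (Nat.Prime 2) := ⟨Nat.prime_two⟩
  have h1 := es_index_centralizer hE A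
  have hAA : A ≤ centralizer (A : Set E) := by
    intro a ha
    rw [mem_centralizer_iff]
    intro b hb
    have := hA.1
    exact congrArg Subtype.val (mul_comm' (⟨b, hb⟩ : A) ⟨a, ha⟩)
  have h2 : Nat.card (center E ⊓ A : Subgroup E) * (center E).relIndex A = Nat.card A := by
    rw [← Subgroup.inf_relIndex_right, ← Subgroup.relIndex_bot_left, ← Subgroup.relIndex_bot_left A]
    exact Subgroup.relIndex_mul_relIndex _ _ _ bot_le inf_le_right
  have h3 : Nat.card (centralizer (A : Set E)) * (centralizer (A : Set E)).index = Nat.card E :=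
    Subgroup.card_mul_index _
  have h4 : Nat.card A ≤ Nat.card (centralizer (A : Set E)) := Subgroup.card_le_of_le hAA
  have h5 : Nat.card (center E ⊓ A : Subgroup E) ≤ 2 := by
    rw [← hE.2]
    exact Subgroup.card_le_of_le inf_le_left
  set k := Nat.card (center E ⊓ A : Subgroup E) with hk
  set j := (center E).relIndex A with hj
  set c := Nat.card (centralizer (A : Set E)) with hc
  rw [h1] at h3
  rw [hcard] at h3
  rw [hAc] at h2 h4
  have h6 : k * 2 ^ (2 * m + 1) = c * 2 ^ (m + 1) := by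
    rw [← h3, ← h2]; ring
  have h7 : c = k * 2 ^ m := by
    have : 2 ^ (2 * m + 1) = 2 ^ m * 2 ^ (m + 1) := by rw [← pow_add]; congr 1; ring
    rw [this, ← mul_assoc] at h6
    exact (Nat.eq_of_mul_eq_mul_right (by positivity) h6).symm
  have h8 : 2 ≤ k := by
    by_contra hlt
    have h9 : k * 2 ^ m ≤ 1 * 2 ^ m := Nat.mul_le_mul_right _ (by omega)
    have h10 : (2 : ℕ) ^ (m + 1) = 2 * 2 ^ m := by ring
    have : (0 : ℕ) < 2 ^ m := by positivity
    omega
  have h9 : k = 2 := le_antisymm h5 h8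
  constructor
  · have h10 : center E ⊓ A = center E := by
      apply Subgroup.eq_of_le_of_card_ge inf_le_left
      rw [hE.2, ← hk, h9]
    exact inf_eq_left.mp h10
  · symm
    apply Subgroup.eq_of_le_of_card_ge hAA
    rw [← hc, hAc, h7, h9]
    exact (by ring : 2 * 2 ^ m = 2 ^ (m + 1)).le

theorem sq_eq {x : E} (hE : Cfsg.IsExtraspecial 2 E) {z : E} (hz : center E = zpowers z) 
    (hz2 : z * z = 1) : x * x = 1 ∨ x * x = z := by
  have : Fact (Nat.Prime 2) := ⟨Nat.prime_two⟩
  have h1 := pow_mem_center hE x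
  rw [pow_two, hz, mem_zpowers_iff] at h1
  obtain ⟨k, hk⟩ := h1
  rcases Int.even_or_odd' k with ⟨j, rfl | rfl⟩
  · left
    rw [← hk, zpow_mul, zpow_two, hz2, one_zpow]
  · right
    rw [← hk, zpow_add, zpow_mul, zpow_two, hz2, one_zpow, one_mul, zpow_one]

theorem card_order_four {m : ℕ} (hE : Cfsg.IsExtraspecial 2 E)
    (hcard : Nat.card E = 2 ^ (2 * m + 1)) (hplus : ∃ A : Subgroup E, Cfsg.IsElementaryAbelian 2 A ∧ Nat.card A = 2 ^ (m + 1)) :
    Nat.card {x : E // orderOf x = 4} = 2 ^ (2 * m) - 2 ^ m := by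
  classical
  have : Fact (Nat.Prime 2) := ⟨Nat.prime_two⟩
  obtain ⟨A, hA, hAc⟩ := hplus
  obtain ⟨hZA, hCA⟩ := center_le_and_cent hE hcard hA hAc
  -- z
  have hzc : ∃ z : E, center E = zpowers z ∧ z ≠ 1 ∧ z * z = 1 := by
    have h1 : Nat.card (center E) = 2 := hE.2
    have : IsCyclic (center E) := isCyclic_of_prime_card (p := 2) h1
    obtain ⟨z, hz⟩ := IsCyclic.exists_generator (α := center E)
    refine ⟨z, ?_, ?_, ?_⟩
    · ext x
      constructor
      · intro hx
        obtain ⟨k, hk⟩ := mem_zpowers_iff.mp (hz ⟨x, hx⟩)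
        exact mem_zpowers_iff.mpr ⟨k, by rw [← Subgroup.coe_zpow, hk]⟩
      · intro hx
        obtain ⟨k, hk⟩ := mem_zpowers_iff.mp hx
        rw [← hk]
        exact zpow_mem z.2 k
    · intro h
      have h2 : Nat.card (center E) = 1 := by
        rw [Nat.card_eq_one_iff_unique]
        refine ⟨⟨fun a b => ?_⟩, ⟨1⟩⟩
        have : ∀ a : center E, a = 1 := by
          intro a
          obtain ⟨k, hk⟩ := mem_zpowers_iff.mp (hz a)
          rw [← hk, show z = 1 from Subtype.ext h, one_zpow]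
        rw [this a, this b]
      omega
    · have h2 := center_pow hE z.2
      rw [pow_two] at h2
      exact h2
  obtain ⟨z, hz, hz1, hz2⟩ := hzc
  have hzC : ∀ x : E, z * x = x * z := by
    intro x
    have : z ∈ center E := by rw [hz]; exact mem_zpowers z
    exact (mem_center_iff.mp this x).symm
  have hAA : ∀ a ∈ A, ∀ b ∈ A, a * b = b * a := by
    intro a ha b hb
    have := hA.1
    exact congrArg Subtype.val (mul_comm' (⟨a, ha⟩ : A) ⟨b, hb⟩)
  have hA2 : ∀ a ∈ A, a * a = 1 := by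
    intro a ha
    have := hA.2 a ha
    rwa [pow_two] at this
  have hord : ∀ x : E, orderOf x = 4 ↔ x * x = z := by
    intro x
    constructor
    · intro h
      rcases sq_eq hE hz hz2 (x := x) with h1 | h1
      · exfalso
        have := orderOf_dvd_of_pow_eq_one (x := x) (n := 2) (by rw [pow_two]; exact h1)
        rw [h] at this
        norm_num at this
      · exact h1
    · intro h
      have h1 : x ^ 2 = z := by rw [pow_two]; exact h
      have := orderOf_eq_prime_pow (x := x) (p := 2) (n := 1) (by rw [pow_one, h1]; exact hz1)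
        (by show x ^ (2 ^ 2) = 1
            rw [show (2 : ℕ) ^ 2 = 2 * 2 by norm_num, pow_mul, h1, pow_two]; exact hz2)
      simpa using this
  -- noncommuting element
  have hb : ∀ x : E, x ∉ A → ∃ b ∈ A, x * b ≠ b * x := by
    intro x hx
    by_contra hcon
    push Not at hcon
    apply hx
    rw [← hCA, mem_centralizer_iff]
    intro b hb
    exact (hcon b hb).symm
  have hb' : ∀ q : E ⧸ A, ∃ b ∈ A, q.out ∉ A → q.out * b ≠ b * q.out := by
    intro q
    by_cases h : q.out ∈ A
    · exact ⟨1, A.one_mem, fun h' => absurd h h'⟩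
    · obtain ⟨b, hb1, hb2⟩ := hb _ h
      exact ⟨b, hb1, fun _ => hb2⟩
  choose b hbA hbne using hb'
  have hout : ∀ x : E, ∃ a ∈ A, x = (x : E ⧸ A).out * a := by
    intro x
    have h1 := QuotientGroup.mk_out_eq_mul A x
    obtain ⟨h, hh⟩ := h1
    refine ⟨(h : E)⁻¹, A.inv_mem h.2, ?_⟩
    rw [hh]; group
  have hnc : ∀ x : E, x ∉ A → x * b (x : E ⧸ A) ≠ b (x : E ⧸ A) * x := by
    intro x hx h
    obtain ⟨a, ha, hxa⟩ := hout x
    have h1 : (x : E ⧸ A).out ∉ A := by
      intro h2
      apply hx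
      rw [hxa]
      exact A.mul_mem h2 ha
    apply hbne _ h1
    set q := (x : E ⧸ A) with hq
    have h2 : q.out * (b q) * a = b q * q.out * a := by
      rw [mul_assoc, hAA _ (hbA q) a ha, ← mul_assoc, ← hxa, h, mul_assoc, ← hxa]
    exact mul_right_cancel h2
  -- the square of `x * b`
  have hcomm : ∀ x y : E, x * y ≠ y * x → x * y = z * (y * x) := by
    intro x y hxy
    have h1 := comm_mem_center hE x y
    rw [hz, mem_zpowers_iff] at h1
    obtain ⟨k, hk⟩ := h1
    rcases Int.even_or_odd' k with ⟨j, rfl | rfl⟩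
    · exfalso
      rw [zpow_mul, zpow_two, hz2, one_zpow] at hk
      exact hxy (commutatorElement_eq_one_iff_mul_comm.mp hk.symm)
    · rw [zpow_add, zpow_mul, zpow_two, hz2, one_zpow, one_mul, zpow_one] at hk
      rw [hk, commutatorElement_def]
      group
  have hsq : ∀ x : E, x ∉ A → (x * b (x : E ⧸ A)) * (x * b (x : E ⧸ A)) = z * (x * x) := by
    intro x hx
    set c := b (x : E ⧸ A) with hc
    have h1 := hcomm c x (fun h => hnc x hx h.symm)
    calc (x * c) * (x * c) = x * (c * x) * c := by group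
      _ = x * (z * (x * c)) * c := by rw [h1]
      _ = (x * z) * x * (c * c) := by group
      _ = z * (x * x) := by rw [← hzC, hA2 c (hbA _)]; group
  have hmk : ∀ x : E, ((x * b (x : E ⧸ A) : E) : E ⧸ A) = x := by
    intro x
    rw [QuotientGroup.mk_mul_of_mem x (hbA _)]
  have hmemA : ∀ x : E, x * b (x : E ⧸ A) ∈ A ↔ x ∈ A := by
    intro x
    exact A.mul_mem_cancel_right (hbA _)
  let e : {x : E // orderOf x = 4} ≃ {x : E // x ∉ A ∧ x * x = 1} :=
    { toFun := fun x => ⟨x * b (x : E ⧸ A), by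
        have hx : (x : E) ∉ A := by
          intro h
          have h1 := (hord x).mp x.2
          rw [hA2 _ h] at h1
          exact hz1 h1.symm
        refine ⟨fun h => hx ((hmemA _).mp h), ?_⟩
        rw [hsq _ hx, (hord x).mp x.2, hz2]⟩
      invFun := fun x => ⟨x * b (x : E ⧸ A), by
        rw [hord, hsq _ x.2.1, x.2.2, mul_one]⟩
      left_inv := by
        intro x
        apply Subtype.ext
        show (x * b (x : E ⧸ A)) * b ((x * b (x : E ⧸ A) : E) : E ⧸ A) = x
        rw [hmk, mul_assoc, hA2 _ (hbA _), mul_one]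
      right_inv := by
        intro x
        apply Subtype.ext
        show (x * b (x : E ⧸ A)) * b ((x * b (x : E ⧸ A) : E) : E ⧸ A) = x
        rw [hmk, mul_assoc, hA2 _ (hbA _), mul_one] }
  have h1 := Nat.card_congr e
  -- `E = A ∪ {order 4} ∪ {x ∉ A, x² = 1}`
  let e2 : E ≃ (A ⊕ {x : E // orderOf x = 4}) ⊕ {x : E // x ∉ A ∧ x * x = 1} := by
    refine Equiv.ofBijective (fun x => if h : x ∈ A then Sum.inl (Sum.inl ⟨x, h⟩) else
      if h2 : orderOf x = 4 then Sum.inl (Sum.inr ⟨x, h2⟩) else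
      Sum.inr ⟨x, h, (sq_eq hE hz hz2).resolve_right (fun h3 => h2 ((hord x).mpr h3))⟩) ⟨?_, ?_⟩
    · intro x y hxy
      dsimp only at hxy
      split_ifs at hxy <;> simp_all
    · rintro ((x | x) | x)
      · exact ⟨x, by simp⟩
      · refine ⟨x, ?_⟩
        have hx : (x : E) ∉ A := by
          intro h
          have h1 := (hord x).mp x.2
          rw [hA2 _ h] at h1
          exact hz1 h1.symm
        dsimp only
        rw [dif_neg hx, dif_pos x.2]
      · refine ⟨x, ?_⟩
        have hx4 : ¬ orderOf (x : E) = 4 := by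
          intro h
          have h2 := (hord x).mp h
          rw [x.2.2] at h2
          exact hz1 h2.symm
        dsimp only
        rw [dif_neg x.2.1, dif_neg hx4]
  have h2 := Nat.card_congr e2
  rw [Nat.card_sum, Nat.card_sum, ← h1, hcard, hAc] at h2
  have h3 : (2 : ℕ) ^ (2 * m + 1) = 2 * 2 ^ (2 * m) := by ring
  have h4 : (2 : ℕ) ^ (m + 1) = 2 * 2 ^ m := by ring
  omega

theorem four_dvd {m : ℕ} (hm : 1 ≤ m) (hE : Cfsg.IsExtraspecial 2 E)
    (hcard : Nat.card E = 2 ^ (2 * m + 1))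
    (hplus : ∃ A : Subgroup E, Cfsg.IsElementaryAbelian 2 A ∧ Nat.card A = 2 ^ (m + 1))
    (ω : E ≃* E) (hω : orderOf ω = 5) (hfix : ∀ x : E, ω x = x ↔ x ∈ Subgroup.center E) : 4 ∣ m := by
  classical
  have h1 := card_order_four hE hcard hplus
  have : Fact (Nat.Prime 2) := ⟨Nat.prime_two⟩
  have : Fact (Nat.Prime 5) := ⟨by norm_num⟩
  have := Fintype.ofFinite E
  let f : Function.End {x : E // orderOf x = 4} := fun x => ⟨ω x, by
    rw [MulEquiv.orderOf_eq]; exact x.2⟩
  have hfk : ∀ (k : ℕ) (x : {x : E // orderOf x = 4}), (((f ^ k) x : {x : E // orderOf x = 4}) : E) = (ω ^ k : MulAut E) (x : E) := by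
    intro k
    induction k with
    | zero => intro x; rfl
    | succ k ih =>
      intro x
      rw [pow_succ, pow_succ]
      exact ih (f x)
  have hf : f ^ 5 ^ 1 = 1 := by
    funext x
    apply Subtype.ext
    rw [hfk]
    have : (ω : MulAut E) ^ 5 ^ 1 = 1 := by
      rw [pow_one, ← hω]; exact pow_orderOf_eq_one _
    rw [this]
    rfl
  have h2 := Equiv.Perm.card_fixedPoints_modEq (f := f) (p := 5) (n := 1) hf
  have h3 : Fintype.card (Function.fixedPoints f) = 0 := by
    rw [Fintype.card_eq_zero_iff]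
    refine ⟨fun ⟨x, hx⟩ => ?_⟩
    have h4 : ω x = x := congrArg Subtype.val hx
    have h5 := (hfix x).mp h4
    have h6 := orderOf_dvd_of_pow_eq_one (center_pow hE h5)
    rw [x.2] at h6
    norm_num at h6
  rw [h3] at h2
  have h4 : 5 ∣ 2 ^ (2 * m) - 2 ^ m := by
    rw [← h1, Nat.card_eq_fintype_card]
    exact (Nat.modEq_zero_iff_dvd).mp h2
  have h5 : 2 ^ (2 * m) - 2 ^ m = 2 ^ m * (2 ^ m - 1) := by
    rw [Nat.mul_sub, mul_one, ← pow_add]; congr 2; ring
  rw [h5] at h4
  have h6 : 5 ∣ 2 ^ m - 1 := by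
    rcases (Nat.Prime.dvd_mul (by norm_num)).mp h4 with h | h
    · exfalso
      have := Nat.Prime.dvd_of_dvd_pow (by norm_num) h
      norm_num at this
    · exact h
  have h7 : 2 ^ m % 5 = 1 := by
    have : 1 ≤ 2 ^ m := Nat.one_le_two_pow
    omega
  obtain ⟨q, r, hr, rfl⟩ : ∃ q r, r < 4 ∧ m = 4 * q + r :=
    ⟨m / 4, m % 4, Nat.mod_lt _ (by norm_num), (Nat.div_add_mod m 4).symm⟩
  rw [pow_add, pow_mul, Nat.mul_mod, Nat.pow_mod] at h7
  norm_num at h7
  interval_cases r <;> simp_all

end Cfsg.Agent.H17.Xsp
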