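import Cfsg.Agent.H17_PIrr2
import Cfsg.Agent.H1_Basic

/-! `Y`-minimal groups: facts on the unique maximal subgroup containing `Y`. -/

set_option autoImplicit false

namespace Cfsg.Agent.H17.YMin

open Cfsg Cfsg.Agent.H17.Base

variable {G : Type*} [Group G] {p : ℕ}

/-- basic facts on the `Y`-minimal group -/
structure YM (p : ℕ) (L₀ T Y : Subgroup G) : Prop where
  syl : IsSylowIn p T L₀
  le : Y ≤ T
  top : IsSylowIn p T ⊤
  max : ∀ X : Subgroup G, Y ≤ X → X ≠ ⊤ → X ≤ L₀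
  ne : L₀ ≠ ⊤
  nz : Nz L₀ = L₀
  gen : ∀ g : G, g ∉ L₀ → Y ⊔ cj g Y = ⊤
  ncl : ∀ N : Subgroup G, Y ≤ N → ⊤ ≤ Nz N → N = ⊤

theorem ym_of [Fact p.Prime] [Finite G] {L₀ T Y : Subgroup G} (hL₀ : IsCoatom L₀) (hTs : IsSylowIn p T L₀)
    (hYT : Y ≤ T) (hmin : IsMinimalOver Y) : YM p L₀ T Y := by
  have hYL₀ : Y ≤ L₀ := hYT.trans hTs.le
  have hM := isMinOver_coatom hmin hL₀ hYL₀
  have hYp : IsPGroup p Y := hTs.isPGroup.to_le hYT
  have hnY : ∀ N : Subgroup G, Y ≤ N → ⊤ ≤ Nz N → N = ⊤ := by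
    intro N hYN hN
    have := ncl_le hYN hN
    rw [hM.ncl_eq] at this
    exact top_le_iff.1 this
  have hmax : ∀ X : Subgroup G, Y ≤ X → X ≠ ⊤ → X ≤ L₀ := fun X h1 h2 => hM.max X h1 le_top (fun h => h2 (top_le_iff.1 h))
  have hNT : Nz T ≤ L₀ := by
    apply hmax _ (hYT.trans Subgroup.le_normalizer)
    intro h
    have := hnY T hYT h.ge
    exact hL₀.1 (top_le_iff.1 (this.ge.trans hTs.le))
  have hTtop : IsSylowIn p T ⊤ := by
    apply IsSylowIn.of_normalizer hTs le_top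
    rw [inf_top_eq]; exact hNT
  have hNL : Nz L₀ = L₀ := by
    apply le_antisymm _ Subgroup.le_normalizer
    apply hmax _ (hYL₀.trans Subgroup.le_normalizer)
    intro h
    exact hL₀.1 (hnY L₀ hYL₀ h.ge)
  have hgen : ∀ g : G, g ∉ L₀ → Y ⊔ cj g Y = ⊤ := by
    intro g hg
    by_contra hne
    have h1 := hmax _ le_sup_left hne
    apply hg
    rw [← hNL]
    have h2 : Y ≤ cj g⁻¹ L₀ := by
      rw [← cj_le_iff]; exact le_sup_right.trans h1
    have h3 : cj g⁻¹ L₀ ≤ L₀ := by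
      apply hmax _ h2
      intro h4
      apply hL₀.1
      have := cj_top (g : G)
      rw [← h4, cj_cj_inv] at this
      exact this.trans h4
    rw [cj_le_iff, inv_inv] at h3
    exact mem_Nz_of_le_cj h3
  exact ⟨hTs, hYT, hTtop, hmax, hL₀.1, hNL, hgen, hnY⟩

theorem YM.pCore_le [Fact p.Prime] [Finite G] {L₀ T Y : Subgroup G} (h : YM p L₀ T Y) : pCore p G ≤ L₀ := by
  have := pCoreOf_le_sylow h.top
  rw [pCoreOf_top] at this
  exact this.trans h.syl.le

/-- a normal subgroup contained in `L₀` is `p`-closed -/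
theorem YM.pcl [Fact p.Prime] [Finite G] {L₀ T Y : Subgroup G} (h : YM p L₀ T Y) {N : Subgroup G} (hn : ⊤ ≤ Nz N)
    (hN : N ≤ L₀) : PCl p N := by
  have h1 : IsSylowIn p (T ⊓ N) N := h.top.inf_normal le_top hn
  have h2 := frattini_le h1 le_top hn
  rw [top_inf_eq] at h2
  have h3 : Nz (T ⊓ N) = ⊤ := by
    by_contra hne
    have h4 : T ≤ Nz (T ⊓ N) := by
      intro x hx
      have hx1 : x ∈ Nz T := Subgroup.le_normalizer hx
      have hx2 : x ∈ Nz N := hn trivial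
      rw [mem_Nz_iff_cj] at hx1 hx2 ⊢
      rw [cj_inf, hx1, hx2]
    have h5 := h.max _ (h.le.trans h4) hne
    exact h.ne (top_le_iff.1 (h2.ge.trans (sup_le hN h5)))
  exact pcl_of_le_Nz h1 (by rw [h3]; exact le_top)

/-- if `N X = G`, `N ≤ L₀` normal, `X` containing the Sylow `p`-subgroup of `N`, then `X = G` -/
theorem YM.eq_top [Fact p.Prime] [Finite G] {L₀ T Y : Subgroup G} (h : YM p L₀ T Y) {N X : Subgroup G} (hn : ⊤ ≤ Nz N)
    (hN : N ≤ L₀) (hX : pCoreOf p N ≤ X) (hNX : N ⊔ X = ⊤) : X = ⊤ := by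
  have hO : IsSylowIn p (pCoreOf p N) N := by
    obtain ⟨S, hS⟩ := exists_isSylowIn p N
    rw [← (h.pcl hn hN).sylow_eq hS]; exact hS
  obtain ⟨P, hP⟩ := exists_isSylowIn p X
  have hp := Fact.out (p := p.Prime)
  have hc := Cfsg.Agent.H1.Basic.card_sup_mul_card_inf (H := X) (K := N) (le_top.trans hn)
  have hpos : ∀ K : Subgroup G, Nat.card K ≠ 0 := fun K => Nat.card_pos.ne'
  have hPt : IsSylowIn p P ⊤ := by
    apply isSylowIn_of_card le_top
    rw [hP.card]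
    congr 1
    rw [sup_comm, hNX] at hc
    have h1 : (Nat.card (X ⊓ N : Subgroup G)).factorization p = (Nat.card N).factorization p := by
      apply le_antisymm
      · exact (Nat.factorization_le_iff_dvd (hpos _) (hpos _)).2 (Subgroup.card_dvd_of_le inf_le_right) p
      · rw [← hp.pow_dvd_iff_le_factorization (hpos _), ← hO.card]
        exact Subgroup.card_dvd_of_le (le_inf hX (pCoreOf_le N))
    have h2 := congrArg (fun n => n.factorization p) hc
    simp only [Nat.factorization_mul (hpos _) (hpos _), Finsupp.add_apply] at h2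
    omega
  obtain ⟨g, -, hg⟩ := hPt.exists_conj h.top
  by_contra hne
  have h1 : cj g X ≠ ⊤ := by
    intro h2
    apply hne
    rw [← cj_inv_cj g X, h2, cj_top]
  have h2 : Y ≤ cj g X := h.le.trans (hg.le.trans (cj_mono hP.le))
  have h3 := h.max _ h2 h1
  apply h.ne
  rw [← top_le_iff]
  have h4 : cj g (N ⊔ X) = ⊤ := by rw [hNX, cj_top]
  rw [← h4, cj_sup, cj_eq_of_mem_Nz (hn (Subgroup.mem_top g))]
  exact sup_le hN h3

/-- Sylow subgroups of `N` are normal modulo `O_p(N)` -/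
theorem YM.sylow_sup_normal [Fact p.Prime] [Finite G] {L₀ T Y : Subgroup G} (h : YM p L₀ T Y) {N : Subgroup G} (hn : ⊤ ≤ Nz N)
    (hN : N ≤ L₀) {q : ℕ} [Fact q.Prime] {S : Subgroup G} (hS : IsSylowIn q S N) : ⊤ ≤ Nz (S ⊔ pCoreOf p N) := by
  have h1 := frattini_le hS le_top hn
  rw [top_inf_eq] at h1
  have h2 : Nz (S ⊔ pCoreOf p N) = ⊤ := by
    apply h.eq_top hn hN (le_sup_right.trans Subgroup.le_normalizer)
    rw [← top_le_iff, ← h1]
    apply sup_le_sup_left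
    intro x hx
    have hx2 : x ∈ Nz (pCoreOf p N) := Nz_le_Nz_pCoreOf N (hn trivial)
    rw [mem_Nz_iff_cj] at hx hx2 ⊢
    rw [cj_sup, hx, hx2]
  rw [h2]

end Cfsg.Agent.H17.YMin
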