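import Mathlib.GroupTheory.SpecificGroups.Alternating.Simple
import Mathlib.GroupTheory.Sylow

set_option autoImplicit false

/-!
Subgroups of symmetric groups containing 3-cycles: the equivalence relation generated by the
3-cycles, and the alternating groups on its classes.
-/

namespace Cfsg.Agent.H18.Alt

open Equiv Equiv.Perm Subgroup

variable {α : Type*} [DecidableEq α]

/-- the 3-cycle `a → b → c → a`. -/
def cyc (a b c : α) : Perm α := swap a b * swap b c

variable {a b c : α}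

theorem cyc_apply1 (hab : a ≠ b) (hac : a ≠ c) : cyc a b c a = b := by
  unfold cyc
  rw [mul_apply, swap_apply_of_ne_of_ne hab hac, swap_apply_left]

theorem cyc_apply2 (hbc : b ≠ c) (hac : a ≠ c) : cyc a b c b = c := by
  unfold cyc
  rw [mul_apply, swap_apply_left, swap_apply_of_ne_of_ne hac.symm hbc.symm]

theorem cyc_apply3 : cyc a b c c = a := by
  unfold cyc
  rw [mul_apply, swap_apply_right, swap_apply_right]

theorem cyc_apply_ne {x : α} (h1 : x ≠ a) (h2 : x ≠ b) (h3 : x ≠ c) : cyc a b c x = x := by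
  unfold cyc
  rw [mul_apply, swap_apply_of_ne_of_ne h2 h3, swap_apply_of_ne_of_ne h1 h2]

theorem cyc_conj (σ : Perm α) : σ * cyc a b c * σ⁻¹ = cyc (σ a) (σ b) (σ c) := by
  unfold cyc
  rw [swap_apply_apply, swap_apply_apply]
  group

theorem cyc_inv : (cyc a b c)⁻¹ = cyc c b a := by
  unfold cyc
  rw [mul_inv_rev, swap_inv, swap_inv, swap_comm b c, swap_comm a b]

theorem cyc_rot (hab : a ≠ b) (hac : a ≠ c) : cyc a b c = cyc b c a := by
  unfold cyc
  have h := swap_apply_apply (swap b c) c a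
  rw [swap_apply_right, swap_apply_of_ne_of_ne hab hac, swap_inv] at h
  have h2 : swap b a * swap b c = swap b c * swap c a := by
    rw [h, mul_assoc, swap_mul_self, mul_one]
  rw [swap_comm a b, h2]

variable [Fintype α]

theorem cyc_isThreeCycle (hab : a ≠ b) (hac : a ≠ c) (hbc : b ≠ c) : (cyc a b c).IsThreeCycle := by
  unfold cyc
  rw [swap_comm a b]
  exact isThreeCycle_swap_mul_swap_same hab.symm hbc hac

theorem exists_cyc {σ : Perm α} (h : σ.IsThreeCycle) {a : α} (ha : σ a ≠ a) :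
    ∃ b c : α, a ≠ b ∧ a ≠ c ∧ b ≠ c ∧ σ = cyc a b c := by
  have ha' : a ∈ σ.support := mem_support.mpr ha
  have h1 := h.eq_swap_mul_swap_iff_mem_support.mpr ha'
  have h2 := h.nodup_iff_mem_support.mpr ha'
  simp only [List.nodup_cons, List.mem_cons, List.not_mem_nil, or_false, not_or, not_false_eq_true, List.nodup_nil, and_true] at h2
  exact ⟨σ a, σ (σ a), h2.1.1, h2.1.2, h2.2, h1⟩

theorem exists_cyc' {σ : Perm α} (h : σ.IsThreeCycle) :
    ∃ a b c : α, a ≠ b ∧ a ≠ c ∧ b ≠ c ∧ σ = cyc a b c := by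
  have h1 : σ ≠ 1 := h.ne_one
  obtain ⟨a, ha⟩ : ∃ a, σ a ≠ a := by
    by_contra hno
    push Not at hno
    exact h1 (Equiv.ext hno)
  obtain ⟨b, c, h⟩ := exists_cyc h ha
  exact ⟨a, b, c, h⟩

/-- `a` and `b` lie in the support of a 3-cycle of `H`. -/
def R (H : Subgroup (Perm α)) (a b : α) : Prop := a ≠ b ∧ ∃ x, x ≠ a ∧ x ≠ b ∧ cyc a b x ∈ H

variable {H : Subgroup (Perm α)}

omit [Fintype α] in
theorem R.symm (h : R H a b) : R H b a := by
  obtain ⟨hab, x, hxa, hxb, hx⟩ := h
  refine ⟨hab.symm, x, hxb, hxa, ?_⟩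
  have h1 := H.inv_mem hx
  rw [cyc_inv, cyc_rot hxb hxa] at h1
  exact h1

omit [Fintype α] in
theorem R.trans (h1 : R H a b) (h2 : R H b c) (hac : a ≠ c) : cyc a b c ∈ H := by
  obtain ⟨hab, x, hxa, hxb, hs⟩ := h1
  obtain ⟨hbc, y, hyb, hyc, ht⟩ := h2
  by_cases hxc : x = c
  · rw [hxc] at hs; exact hs
  by_cases hya : y = a
  · rw [hya] at ht
    rw [cyc_rot hab hac]; exact ht
  by_cases hxy : x = y
  · subst hxy
    -- `t s t⁻¹ = (a c b)`
    have h3 := H.mul_mem (H.mul_mem ht hs) (H.inv_mem ht)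
    rw [cyc_conj, cyc_apply_ne hab hac (Ne.symm hxa), cyc_apply1 hbc hyb.symm, cyc_apply3] at h3
    have h4 := H.inv_mem h3
    rw [cyc_inv, cyc_rot hbc hab.symm, cyc_rot hac.symm hbc.symm] at h4
    exact h4
  · -- `t s t⁻¹ = (a c x)`
    have h3 := H.mul_mem (H.mul_mem ht hs) (H.inv_mem ht)
    rw [cyc_conj, cyc_apply_ne hab hac (Ne.symm hya), cyc_apply1 hbc hyb.symm,
      cyc_apply_ne hxb hxc hxy] at h3
    have h4 := H.mul_mem (H.mul_mem hs h3) (H.inv_mem hs)
    rw [cyc_conj, cyc_apply1 hab (Ne.symm hxa), cyc_apply_ne hac.symm hbc.symm (Ne.symm hxc), cyc_apply3] at h4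
    rw [cyc_rot hab hac]; exact h4

/-- the class of `a`. -/
noncomputable def cls (H : Subgroup (Perm α)) (a : α) : Finset α := by
  classical exact Finset.univ.filter (fun b => b = a ∨ R H a b)

theorem mem_cls {x : α} : x ∈ cls H a ↔ x = a ∨ R H a x := by
  classical
  unfold cls
  simp

theorem self_mem_cls : a ∈ cls H a := mem_cls.mpr (Or.inl rfl)

theorem R_of_mem {x y : α} (hx : x ∈ cls H a) (hy : y ∈ cls H a) (hxy : x ≠ y) : R H x y := by
  rw [mem_cls] at hx hy
  rcases hx with rfl | hx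
  · rcases hy with rfl | hy
    · exact absurd rfl hxy
    · exact hy
  · rcases hy with rfl | hy
    · exact hx.symm
    · have h := hx.symm.trans hy hxy
      refine ⟨hxy, a, hx.1, hy.1, ?_⟩
      have h2 := H.inv_mem h
      rw [cyc_inv, cyc_rot hy.1.symm hxy.symm, cyc_rot hx.1 hy.1] at h2
      exact h2

theorem mem_of_cls {x y z : α} (hx : x ∈ cls H a) (hy : y ∈ cls H a) (hz : z ∈ cls H a) (hxy : x ≠ y) (hxz : x ≠ z)
    (hyz : y ≠ z) : cyc x y z ∈ H := (R_of_mem hx hy hxy).trans (R_of_mem hy hz hyz) hxz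

theorem mem_cls_of_R {x y : α} (hx : x ∈ cls H a) (h : R H x y) : y ∈ cls H a := by
  rw [mem_cls] at hx ⊢
  rcases hx with rfl | hx
  · exact Or.inr h
  · by_cases hya : y = a
    · exact Or.inl hya
    · right
      have h1 := hx.trans h (Ne.symm hya)
      refine ⟨Ne.symm hya, x, hx.1.symm, h.1, ?_⟩
      have h2 := H.inv_mem h1
      rw [cyc_inv] at h2
      -- `cyc y x a`
      have h3 := (R.symm ⟨h.1.symm, a, Ne.symm hya, hx.1, h2⟩ : R H x y)
      have h4 : R H y x := h.symm
      have h5 : R H x a := hx.symm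
      have h6 := H.inv_mem h2
      rw [cyc_inv, cyc_rot hx.1 (Ne.symm hya)] at h6
      -- `h6 : cyc x y a ∈ H`
      have h7 := H.inv_mem h6
      rw [cyc_inv] at h7
      exact h7

/-- the even permutations supported in `Δ`. -/
noncomputable def alt (Δ : Finset α) : Subgroup (Perm α) :=
  (alternatingGroup ↥Δ).map (ofSubtype : Perm ↥Δ →* Perm α)

theorem mem_alt {Δ : Finset α} {σ : Perm α} : σ ∈ alt Δ ↔ sign σ = 1 ∧ σ.support ⊆ Δ := by
  unfold alt
  rw [alternatingGroup.map_ofSubtype, Subgroup.mem_inf, Perm.mem_range_ofSubtype_iff, mem_alternatingGroup, and_comm]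
  simp only [Finset.setOfPred_mem, Finset.coe_subset]

theorem cyc_support {x : α} (h : x ∈ (cyc a b c).support) : x = a ∨ x = b ∨ x = c := by
  by_contra hne
  push Not at hne
  exact (mem_support.mp h) (cyc_apply_ne hne.1 hne.2.1 hne.2.2)

theorem cyc_mem_alt {Δ : Finset α} (ha : a ∈ Δ) (hb : b ∈ Δ) (hc : c ∈ Δ) (hab : a ≠ b) (hac : a ≠ c) (hbc : b ≠ c) :
    cyc a b c ∈ alt Δ := by
  rw [mem_alt]
  refine ⟨(cyc_isThreeCycle hab hac hbc).sign, ?_⟩
  intro x hx
  rcases cyc_support hx with rfl | rfl | rfl <;> assumption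

theorem alt_le {Δ : Finset α} (h : ∀ x ∈ Δ, ∀ y ∈ Δ, ∀ z ∈ Δ, x ≠ y → x ≠ z → y ≠ z → cyc x y z ∈ H) : alt Δ ≤ H := by
  unfold alt
  rw [← closure_three_cycles_eq_alternating, MonoidHom.map_closure, closure_le]
  rintro _ ⟨τ, hτ, rfl⟩
  obtain ⟨x, y, z, hxy, hxz, hyz, rfl⟩ := exists_cyc' hτ
  have : ofSubtype (cyc x y z) = cyc (x : α) y z := by
    unfold cyc
    rw [map_mul, ofSubtype_swap_eq, ofSubtype_swap_eq]
  rw [this]
  exact h x x.2 y y.2 z z.2 (fun h => hxy (Subtype.ext h)) (fun h => hxz (Subtype.ext h)) (fun h => hyz (Subtype.ext h))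

theorem alt_cls_le : alt (cls H a) ≤ H :=
  alt_le (fun _ hx _ hy _ hz hxy hxz hyz => mem_of_cls hx hy hz hxy hxz hyz)

/-- `alt Δ` is isomorphic to the alternating group on `Δ`. -/
noncomputable def altEquiv (Δ : Finset α) : ↥(alternatingGroup ↥Δ) ≃* ↥(alt Δ) :=
  (alternatingGroup ↥Δ).equivMapOfInjective (ofSubtype : Perm ↥Δ →* Perm α) ofSubtype_injective

/-- every 3-cycle of `H` normalizes the alternating group of each class. -/
theorem cyc_normalizes {x y z : α} (hxy : x ≠ y) (hxz : x ≠ z) (hyz : y ≠ z) (h : cyc x y z ∈ H) (a : α) :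
    cyc x y z ∈ normalizer (alt (cls H a) : Set (Perm α)) ∧
      (x ∉ cls H a → ∀ σ ∈ alt (cls H a), cyc x y z * σ = σ * cyc x y z) := by
  have hRxy : R H x y := ⟨hxy, z, hxz.symm, hyz.symm, h⟩
  have hRxz : R H x z := by
    have h2 := H.inv_mem h
    rw [cyc_inv, cyc_rot hyz.symm hxz.symm, cyc_rot hxy.symm hyz] at h2
    exact ⟨hxz, y, hxy.symm, hyz, h2⟩
  have hcomm : x ∉ cls H a → ∀ σ ∈ alt (cls H a), cyc x y z * σ = σ * cyc x y z := by
    intro hx σ hσ
    have hy : y ∉ cls H a := fun hy => hx (mem_cls_of_R hy hRxy.symm)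
    have hz : z ∉ cls H a := fun hz => hx (mem_cls_of_R hz hRxz.symm)
    apply Disjoint.commute
    intro w
    by_cases hw : w ∈ (cyc x y z).support
    · right
      by_contra hne
      have h1 := (mem_alt.mp hσ).2 (mem_support.mpr hne)
      rcases cyc_support hw with rfl | rfl | rfl
      · exact hx h1
      · exact hy h1
      · exact hz h1
    · left
      rwa [mem_support, not_not] at hw
  refine ⟨?_, hcomm⟩
  by_cases hx : x ∈ cls H a
  · apply le_normalizer
    exact cyc_mem_alt hx (mem_cls_of_R hx hRxy) (mem_cls_of_R hx hRxz) hxy hxz hyz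
  · rw [mem_normalizer_iff]
    have hc := hcomm hx
    intro σ
    constructor
    · intro hσ
      rw [hc σ hσ, mul_inv_cancel_right]; exact hσ
    · intro hσ
      have h1 := hc _ hσ
      have h2 : cyc x y z * σ * (cyc x y z)⁻¹ = σ := by
        have h3 : cyc x y z * (cyc x y z * σ * (cyc x y z)⁻¹) = cyc x y z * σ := by
          rw [h1]; group
        exact mul_left_cancel h3
      rwa [h2] at hσ

/-- at most two points are moved by no 3-cycle of a Sylow 3-subgroup. -/
theorem card_unmoved_le (P : Sylow 3 (Perm α)) (U : Finset α) (hU : ∀ a ∈ U, ∀ b, ¬ R (P : Subgroup (Perm α)) a b) :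
    U.card ≤ 2 := by
  classical
  haveI : Fact (Nat.Prime 3) := ⟨Nat.prime_three⟩
  by_contra hcard
  push Not at hcard
  obtain ⟨a, ha, b, hb, c, hc, hab, hac, hbc⟩ := Finset.two_lt_card.mp hcard
  set s := cyc a b c with hs
  have hs3 : s.IsThreeCycle := cyc_isThreeCycle hab hac hbc
  let T : Sylow 3 (Perm α) → Finset (Perm α) := fun Q => Finset.univ.filter (fun σ => σ ∈ (Q : Subgroup (Perm α)) ∧ σ.IsThreeCycle)
  have hTconj : ∀ (Q Q' : Sylow 3 (Perm α)), (T Q).card ≤ (T Q').card := by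
    intro Q Q'
    obtain ⟨g, hg⟩ := MulAction.exists_smul_eq (Perm α) Q Q'
    apply Finset.card_le_card_of_injOn (fun σ => g * σ * g⁻¹)
    · intro σ hσ
      simp only [T, Finset.coe_filter, Finset.mem_univ, true_and, Set.mem_setOf_eq] at hσ ⊢
      refine ⟨?_, ?_⟩
      · rw [← hg]
        exact ⟨σ, hσ.1, rfl⟩
      · obtain ⟨x, y, z, hxy, hxz, hyz, rfl⟩ := exists_cyc' hσ.2
        rw [cyc_conj]
        exact cyc_isThreeCycle (g.injective.ne hxy) (g.injective.ne hxz) (g.injective.ne hyz)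
    · intro σ _ τ _ h
      have h : g * σ * g⁻¹ = g * τ * g⁻¹ := h
      exact mul_left_cancel (mul_right_cancel h)
  -- the subgroup generated by the 3-cycles of `P`
  set X := closure {σ : Perm α | σ ∈ (P : Subgroup (Perm α)) ∧ σ.IsThreeCycle} with hX
  have hXP : X ≤ (P : Subgroup (Perm α)) := by
    rw [hX, closure_le]
    rintro σ ⟨h, _⟩; exact h
  have hmoved : ∀ σ ∈ (P : Subgroup (Perm α)), σ.IsThreeCycle → ∀ u ∈ U, σ u = u := by
    intro σ hσ hσ3 u hu
    by_contra hne
    obtain ⟨y, z, h1, h2, h3, rfl⟩ := exists_cyc hσ3 hne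
    exact hU u hu y ⟨h1, z, h2.symm, h3.symm, hσ⟩
  have hcomm : ∀ σ ∈ X, σ * s = s * σ := by
    have : X ≤ centralizer {s} := by
      rw [hX, closure_le]
      rintro σ ⟨h, h3⟩
      apply mem_centralizer_singleton_iff.mpr
      apply Disjoint.commute
      intro w
      by_cases hw : w ∈ s.support
      · left
        rcases cyc_support hw with rfl | rfl | rfl
        · exact hmoved σ h h3 _ ha
        · exact hmoved σ h h3 _ hb
        · exact hmoved σ h h3 _ hc
      · right
        rwa [mem_support, not_not] at hw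
    intro σ hσ
    exact mem_centralizer_singleton_iff.mp (this hσ)
  have hXp : IsPGroup 3 X := P.2.to_le hXP
  have hsp : IsPGroup 3 (zpowers s) := by
    rintro ⟨w, n, rfl⟩
    refine ⟨1, Subtype.ext ?_⟩
    show (s ^ n) ^ (3 ^ 1) = 1
    have : s ^ 3 = 1 := by rw [← hs3.orderOf]; exact pow_orderOf_eq_one s
    rw [pow_one, ← zpow_natCast, ← zpow_mul, mul_comm, zpow_mul, zpow_natCast, this, one_zpow]
  have hY : IsPGroup 3 (zpowers s ⊔ X : Subgroup (Perm α)) := by
    apply hsp.to_sup_of_normal_right' hXp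
    rw [zpowers_le, mem_normalizer_iff]
    intro σ
    constructor
    · intro h
      rw [← hcomm σ h, mul_inv_cancel_right]; exact h
    · intro h
      have h1 := hcomm _ h
      have h2 : s * σ * s⁻¹ = σ := by
        have h3 : s * (s * σ * s⁻¹) = s * σ := by rw [← h1]; group
        exact mul_left_cancel h3
      rwa [h2] at h
  obtain ⟨Q, hQ⟩ := hY.exists_le_sylow
  have hlt : (T P).card < (T Q).card := by
    apply Finset.card_lt_card
    rw [Finset.ssubset_iff_of_subset]
    · refine ⟨s, ?_, ?_⟩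
      · simp only [T, Finset.mem_filter, Finset.mem_univ, true_and]
        exact ⟨hQ ((le_sup_left : zpowers s ≤ _) (mem_zpowers s)), hs3⟩
      · simp only [T, Finset.mem_filter, Finset.mem_univ, true_and, not_and]
        intro h h3
        have h4 := hmoved s h h3 a ha
        rw [hs, cyc_apply1 hab hac] at h4
        exact hab h4.symm
    · intro σ hσ
      simp only [T, Finset.mem_filter, Finset.mem_univ, true_and] at hσ ⊢
      exact ⟨hQ ((le_sup_right : X ≤ _) (subset_closure hσ)), hσ.2⟩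
  exact absurd (hTconj Q P) (not_le.mpr hlt)

end Cfsg.Agent.H18.Alt
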