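import Mathlib
import Cfsg.Agent.H18_CA2
import Cfsg.Agent.H9_Feit
import Cfsg.Agent.H4_S3

/-!
# Simple groups in which commuting is transitive: the Zassenhaus configuration
-/

set_option autoImplicit false

namespace Cfsg.Agent.H18.CA3

open Subgroup MulAction Cfsg.Agent.H18.CA Cfsg.Agent.H18.CA2

variable {G Ω : Type*} [Group G] [MulAction G Ω] {t : G} {p : Ω}

/-- elements fixing two points are not involutions -/
theorem sq_ne [Finite G] [Finite Ω] (h : Hyp G Ω t p) {x : G} (hx1 : x ≠ 1) (hxp : x • p = p) {q : Ω} (hq : q ≠ p)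
    (hxq : x • q = q) : x * x ≠ 1 := by
  intro hx2
  have h1 : x ∈ A t := inv_mem_A h.ca h.t1 h.t2 hx2 ((h.st x).mp hxp)
  exact hx1 (A_free h hq h1 hxq)

theorem not_comm {x s : G} (hx2 : x * x ≠ 1) (hsx : s * x * s⁻¹ = x⁻¹) : ¬ Commute s x := by
  intro hc
  apply hx2
  have h1 : s * x = x * s := hc
  have h2 : x⁻¹ = x := by
    rw [← hsx, h1]
    group
  calc x * x = x * x⁻¹ := by rw [h2]
    _ = 1 := mul_inv_cancel x

theorem invB (h : CA G) {x s b : G} (hx1 : x ≠ 1) (hx2 : x * x ≠ 1) (hs : s * s = 1)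
    (hsx : s * x * s⁻¹ = x⁻¹) (hb : b ∈ A x) : s * b * s⁻¹ = b⁻¹ := by
  have hsi := inv_self hs
  have h1 : s * b * s⁻¹ ∈ A x := by
    have h2 : Commute (s * b * s⁻¹) (s * x * s⁻¹) := commute_conj.mpr (mem_A.mp hb)
    rw [hsx] at h2
    exact mem_A.mpr (Commute.inv_right_iff.mp h2)
  have hc : Commute b (s * b * s⁻¹) := A_comm h hx1 hb h1
  have h3 : b * (s * b * s⁻¹) = 1 := by
    by_contra hne
    have h4 : Commute s (b * (s * b * s⁻¹)) := by
      change s * (b * (s * b * s⁻¹)) = b * (s * b * s⁻¹) * s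
      have e1 : b * (s * b * s⁻¹) = s * b * s⁻¹ * b := hc
      calc s * (b * (s * b * s⁻¹)) = s * b * (s * b * s⁻¹) := by group
        _ = s * b * (s⁻¹ * b * s⁻¹) := by rw [hsi]
        _ = (s * b * s⁻¹ * b) * s⁻¹ := by group
        _ = (b * (s * b * s⁻¹)) * s⁻¹ := by rw [e1]
        _ = b * (s * b * s⁻¹) * s := by rw [hsi]
    have h5 : b * (s * b * s⁻¹) ∈ A x := mul_mem hb h1
    exact not_comm hx2 hsx ((mem_A_iff h hx1 h5 hne s).mpr h4 |> mem_A.mp)
  exact (inv_eq_of_mul_eq_one_right h3).symm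

/-- involutions inverting `x` -/
def J (x : G) : Type _ := {s : G // s * s = 1 ∧ s ≠ 1 ∧ s * x * s⁻¹ = x⁻¹}

theorem card_J (h : CA G) {x s : G} (hx1 : x ≠ 1) (hx2 : x * x ≠ 1) (hs : s * s = 1)
    (hsx : s * x * s⁻¹ = x⁻¹) : Nat.card (J x) = Nat.card (A x) := by
  have hsi := inv_self hs
  symm
  refine Nat.card_congr (Equiv.ofBijective (fun b : A x => (⟨s * b, ?_, ?_, ?_⟩ : J x)) ⟨?_, ?_⟩)
  · have h1 := invB h hx1 hx2 hs hsx b.2
    calc (s * b) * (s * b) = (s * b * s) * b := by group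
      _ = (s * b * s⁻¹) * b := by rw [hsi]
      _ = 1 := by rw [h1]; group
  · intro e
    apply not_comm hx2 hsx
    have h1 : s = (b : G)⁻¹ := eq_inv_of_mul_eq_one_left e
    rw [h1]
    exact (mem_A.mp b.2).inv_left
  · have h1 : (b : G) * x = x * b := mem_A.mp b.2
    calc s * b * x * (s * b)⁻¹ = s * ((b : G) * x) * (b : G)⁻¹ * s⁻¹ := by group
      _ = s * x * s⁻¹ := by rw [h1]; group
      _ = x⁻¹ := hsx
  · intro b b' e
    have e1 : s * (b : G) = s * b' := congrArg Subtype.val e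
    exact Subtype.ext (mul_left_cancel e1)
  · rintro ⟨r, hr2, hr1, hrx⟩
    refine ⟨⟨s * r, ?_⟩, ?_⟩
    · rw [mem_A]
      change s * r * x = x * (s * r)
      have h3 : s * x⁻¹ * s⁻¹ = x := by
        have : (s * x * s⁻¹)⁻¹ = x := by rw [hsx, inv_inv]
        calc s * x⁻¹ * s⁻¹ = (s * x * s⁻¹)⁻¹ := by group
          _ = x := this
      calc s * r * x = s * (r * x * r⁻¹) * s⁻¹ * (s * r) := by group
        _ = x * (s * r) := by rw [hrx, h3]
    · apply Subtype.ext
      change s * (s * r) = r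
      rw [← mul_assoc, hs, one_mul]

theorem card_J2 [Finite G] [Finite Ω] (h : Hyp G Ω t p) {x : G} (hx1 : x ≠ 1) (hxp : x • p = p) {q : Ω} (hq : q ≠ p)
    (hxq : x • q = q) : Nat.card (J x) = Nat.card {r : Ω // x • r = r ∧ r ≠ p} * kk t := by
  classical
  have hx2 := sq_ne h hx1 hxp hq hxq
  haveI := Fintype.ofFinite {r : Ω // x • r = r ∧ r ≠ p}
  have h1 : Nat.card (J x) = Nat.card (Σ r : {r : Ω // x • r = r ∧ r ≠ p}, I G p r.1) := by
    apply Nat.card_congr
    refine ⟨fun s => ⟨⟨s.1 • p, ?_, ?_⟩, ⟨s.1, s.2.1, s.2.2.1, rfl⟩⟩, fun u => ⟨u.2.1, u.2.2.1, u.2.2.2.1, ?_⟩,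
      fun s => rfl, ?_⟩
    · obtain ⟨s, hs2, hs1, hsx⟩ := s
      change x • s • p = s • p
      have e : x * s = s * x⁻¹ := by
        have e1 := inv_self hs2
        calc x * s = s * (s * x * s) := by
              calc x * s = (s * s) * x * s := by rw [hs2, one_mul]
                _ = s * (s * x * s) := by group
          _ = s * (s * x * s⁻¹) := by rw [e1]
          _ = s * x⁻¹ := by rw [hsx]
      rw [← mul_smul, e, mul_smul]
      congr 1
      rw [inv_smul_eq_iff, hxp]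
    · obtain ⟨s, hs2, hs1, hsx⟩ := s
      intro hsp
      change s • p = p at hsp
      have hsN := (h.st s).mp hsp
      have hsA : s ∈ A t := inv_mem_A h.ca h.t1 h.t2 hs2 hsN
      have hxN := (h.st x).mp hxp
      have h3 : (s⁻¹ * (x * s * x⁻¹))⁻¹ ∈ A t := inv_mem (mul_mem (inv_mem hsA) (N_conj hxN hsA))
      have h4 : (s⁻¹ * (x * s * x⁻¹))⁻¹ = x * x := by
        have e1 := inv_self hs2
        calc (s⁻¹ * (x * s * x⁻¹))⁻¹ = x * (s⁻¹ * x⁻¹ * s) := by group
          _ = x * (s * x⁻¹ * s⁻¹) := by rw [e1]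
          _ = x * (s * x * s⁻¹)⁻¹ := by group
          _ = x * x := by rw [hsx, inv_inv]
      rw [h4] at h3
      apply hx2
      apply A_free h hq h3
      rw [mul_smul, hxq, hxq]
    · obtain ⟨⟨r, hxr, hrp⟩, ⟨s, hs2, hs1, hsr⟩⟩ := u
      exact inverts h hrp hs2 hs1 hsr hxp hxr
    · rintro ⟨⟨r, hxr, hrp⟩, ⟨s, hs2, hs1, hsr⟩⟩
      change s • p = r at hsr
      subst hsr
      rfl
  rw [h1, Nat.card_sigma]
  simp only [I_eq h]
  rw [Finset.sum_const, Finset.card_univ, smul_eq_mul, Nat.card_eq_fintype_card]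

theorem D_le_A [Finite G] [Finite Ω] (h : Hyp G Ω t p) {x : G} (hxp : x • p = p) {q : Ω} (hq : q ≠ p)
    (hxq : x • q = q) : (stabilizer G p ⊓ stabilizer G q : Subgroup G) ≤ A x := by
  obtain ⟨s, hs2, hs1, hsq⟩ := exists_I h q
  intro d hd
  have hdp : d • p = p := hd.1
  have hdq : d • q = q := hd.2
  have h1 := inverts h hq hs2 hs1 hsq hxp hxq
  have h2 := inverts h hq hs2 hs1 hsq hdp hdq
  have h3 := inverts h hq hs2 hs1 hsq (d := d * x) (by rw [mul_smul, hxp, hdp]) (by rw [mul_smul, hxq, hdq])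
  have h4 : s * (d * x) * s⁻¹ = (s * d * s⁻¹) * (s * x * s⁻¹) := by group
  rw [h4, h1, h2, mul_inv_rev] at h3
  -- d⁻¹ x⁻¹ = x⁻¹ d⁻¹
  rw [mem_A]
  have h5 : Commute d⁻¹ x⁻¹ := h3
  exact Commute.inv_inv_iff.mp h5

/-- elements fixing `p` and another point fix no third point -/
theorem fix_two [Finite G] [Finite Ω] (h : Hyp G Ω t p) {x : G} (hx1 : x ≠ 1) (hxp : x • p = p) {q : Ω} (hq : q ≠ p)
    (hxq : x • q = q) {r : Ω} (hrp : r ≠ p) (hxr : x • r = r) : r = q := by
  classical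
  have hx2 := sq_ne h hx1 hxp hq hxq
  have hk := kk_pos h
  obtain ⟨s, hs2, hs1, hsq⟩ := exists_I h q
  have hsx := inverts h hq hs2 hs1 hsq hxp hxq
  have hJ1 := card_J h.ca hx1 hx2 hs2 hsx
  have hJ2 := card_J2 h hx1 hxp hq hxq
  set Φ : Set Ω := {r | x • r = r ∧ r ≠ p} with hΦ
  have hΦc : Nat.card {r : Ω // x • r = r ∧ r ≠ p} = Φ.ncard := rfl
  rw [hJ1, hΦc] at hJ2
  -- B ∩ N
  have hBN : Nat.card ((N t).subgroupOf (A x)) = kk t := by
    apply le_antisymm
    · have e : Nat.card ((N t).subgroupOf (A x)) = Nat.card (N t ⊓ A x : Subgroup G) := by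
        rw [← Subgroup.inf_subgroupOf_right]
        exact Nat.card_congr (Subgroup.subgroupOfEquivOfLe inf_le_right).toEquiv
      rw [e]
      apply card_le_kk h _ inf_le_left
      intro d hd hdA
      by_contra hd1
      have h1 : Commute x d := (mem_A.mp hd.2).symm
      exact hx1 (A_free h hq ((mem_A_iff h.ca h.t1 hdA hd1 x).mpr h1) hxq)
    · rw [← card_D h hq]
      have e : Nat.card ((stabilizer G p ⊓ stabilizer G q : Subgroup G).subgroupOf (A x)) =
          Nat.card (stabilizer G p ⊓ stabilizer G q : Subgroup G) :=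
        Nat.card_congr (Subgroup.subgroupOfEquivOfLe (D_le_A h hxp hq hxq)).toEquiv
      rw [← e]
      apply Subgroup.card_le_of_le
      intro d hd
      rw [Subgroup.mem_subgroupOf] at hd ⊢
      exact (h.st _).mp hd.1
  -- the orbit of p
  set X : Set Ω := {r | ∃ b ∈ A x, b • p = r} with hX
  have hXc : X.ncard * kk t = Nat.card (A x) := by
    rw [← hBN]
    refine card_fib (X := X) ((N t).subgroupOf (A x)) (fun b => ⟨(b : G) • p, b, b.2, rfl⟩) ?_ ?_
    · rintro ⟨r, b, hb, hbr⟩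
      exact ⟨⟨b, hb⟩, Subtype.ext hbr⟩
    · intro g g'
      rw [Subgroup.mem_subgroupOf, ← h.st]
      change _ ↔ ((g : G)⁻¹ * g') • p = p
      rw [mul_smul, inv_smul_eq_iff, Subtype.mk.injEq]
      exact eq_comm
  have hXΦ : X.ncard = Φ.ncard := Nat.eq_of_mul_eq_mul_right hk (hXc.trans hJ2)
  have hXsub : X ⊆ insert p Φ := by
    rintro r ⟨b, hb, rfl⟩
    by_cases hbp : b • p = p
    · exact Or.inl hbp
    · right
      refine ⟨?_, hbp⟩
      have h1 : b * x = x * b := mem_A.mp hb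
      rw [← mul_smul, ← h1, mul_smul, hxp]
  have hpΦ : p ∉ Φ := fun hp => hp.2 rfl
  have hins : (insert p Φ).ncard = Φ.ncard + 1 := Set.ncard_insert_of_notMem hpΦ
  have hdiff : ((insert p Φ) \ X).ncard = 1 := by
    have := Set.ncard_diff_add_ncard_of_subset hXsub
    omega
  obtain ⟨Q, hQ⟩ := Set.ncard_eq_one.mp hdiff
  have hQm : Q ∈ (insert p Φ) \ X := by rw [hQ]; exact Set.mem_singleton Q
  have hxQ : x • Q = Q := by
    rcases hQm.1 with h1 | h1
    · rw [h1]; exact hxp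
    · exact h1.1
  have hBQ : ∀ b ∈ A x, b • Q = Q := by
    intro b hb
    have h1 : b * x = x * b := mem_A.mp hb
    have h2 : b • Q ∈ (insert p Φ) \ X := by
      have h3 : x • b • Q = b • Q := by
        rw [← mul_smul, ← h1, mul_smul, hxQ]
      refine ⟨?_, ?_⟩
      · by_cases hbp : b • Q = p
        · exact Or.inl hbp
        · exact Or.inr ⟨h3, hbp⟩
      · rintro ⟨c, hc, hcp⟩
        apply hQm.2
        refine ⟨b⁻¹ * c, mul_mem (inv_mem hb) hc, ?_⟩
        rw [mul_smul, hcp, inv_smul_smul]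
    rw [hQ] at h2
    exact h2
  have hQp : Q ≠ p := by
    rintro rfl
    exact hQm.2 ⟨1, one_mem _, one_smul _ _⟩
  obtain ⟨g, hg⟩ := h.tr Q
  have hBk : Nat.card (A x) ≤ kk t := by
    have e : Nat.card ((A x).map (MulAut.conj g⁻¹).toMonoidHom) = Nat.card (A x) :=
      Nat.card_congr ((A x).equivMapOfInjective _ (MulAut.conj g⁻¹).injective).symm.toEquiv
    rw [← e]
    apply card_le_kk h
    · rintro _ ⟨b, hb, rfl⟩
      rw [← h.st]
      change (g⁻¹ * b * (g⁻¹)⁻¹) • p = p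
      rw [inv_inv, mul_smul, mul_smul, hg, hBQ b hb, ← hg, inv_smul_smul]
    · rintro _ ⟨b, hb, rfl⟩ hbA
      change g⁻¹ * b * (g⁻¹)⁻¹ ∈ A t at hbA
      change g⁻¹ * b * (g⁻¹)⁻¹ = 1
      by_contra hb1
      have h1 : Commute (g⁻¹ * x * (g⁻¹)⁻¹) (g⁻¹ * b * (g⁻¹)⁻¹) := commute_conj.mpr (mem_A.mp hb).symm
      have h2 := (mem_A_iff h.ca h.t1 hbA hb1 _).mpr h1
      have h3 : g⁻¹ * x * (g⁻¹)⁻¹ = 1 := by
        apply A_free h (x := g⁻¹ • p) _ h2
        · rw [mul_smul, mul_smul, inv_inv, smul_inv_smul, hxp]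
        · intro h4
          rw [inv_smul_eq_iff] at h4
          exact hQp (hg.symm.trans h4.symm)
      exact hx1 (conj_eq_one_iff.mp h3)
  have hφ : Φ.ncard ≤ 1 := by
    rw [hJ2] at hBk
    by_contra hlt
    have : 2 * kk t ≤ Φ.ncard * kk t := Nat.mul_le_mul_right _ (by omega)
    omega
  exact (Set.ncard_le_one (Set.toFinite Φ)).mp hφ r ⟨hxr, hrp⟩ q ⟨hxq, hq⟩

theorem one_lt_kk [Finite G] (h : Hyp G Ω t p) (hn : ∃ n ∈ N t, n ∉ A t) : 1 < kk t := by
  obtain ⟨n, hn, hnA⟩ := hn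
  have h1 := kN h
  have h2 := kk_pos h
  by_contra hlt
  have h3 : kk t = 1 := by omega
  rw [h3, one_mul] at h1
  have h4 : A t = N t := Subgroup.eq_of_le_of_card_ge (A_le_N t) h1.ge
  exact hnA (h4 ▸ hn)

theorem card_le [Finite G] [Finite Ω] (h : Hyp G Ω t p) (hk : 1 < kk t) :
    Nat.card {r : Ω // r ≠ p} ≤ Nat.card (A t) := by
  classical
  haveI := Fintype.ofFinite {r : Ω // r ≠ p}
  have hE : Nat.card {n : G // n ∈ N t ∧ n ∉ A t} + Nat.card (A t) = Nat.card (N t) :=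
    Set.ncard_diff_add_ncard_of_subset (s := (A t : Set G)) (t := (N t : Set G)) (A_le_N t)
  have hF : ∀ r : {r : Ω // r ≠ p}, Nat.card {d : G // (d • p = p ∧ d • r.1 = r.1) ∧ d ≠ 1} = kk t - 1 := by
    intro r
    have h1 := card_D h r.2
    have h2 : ({1} : Set G) ⊆ ((stabilizer G p ⊓ stabilizer G r.1 : Subgroup G) : Set G) := by
      rintro x rfl
      exact one_mem _
    have h3 := Set.ncard_diff_add_ncard_of_subset h2
    rw [Set.ncard_singleton] at h3
    have h4 : ((stabilizer G p ⊓ stabilizer G r.1 : Subgroup G) : Set G).ncard = kk t := h1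
    have h5 : Nat.card {d : G // (d • p = p ∧ d • r.1 = r.1) ∧ d ≠ 1} =
      (((stabilizer G p ⊓ stabilizer G r.1 : Subgroup G) : Set G) \ {1}).ncard := rfl
    rw [h5]
    omega
  have hS : Nat.card (Σ r : {r : Ω // r ≠ p}, {d : G // (d • p = p ∧ d • r.1 = r.1) ∧ d ≠ 1}) ≤
      Nat.card {n : G // n ∈ N t ∧ n ∉ A t} := by
    apply Nat.card_le_card_of_injective (fun u => (⟨u.2.1, (h.st _).mp u.2.2.1.1, fun hA =>
      u.2.2.2 (A_free h u.1.2 hA u.2.2.1.2)⟩ : {n : G // n ∈ N t ∧ n ∉ A t}))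
    rintro ⟨⟨r, hr⟩, ⟨d, ⟨hd1, hd2⟩, hd3⟩⟩ ⟨⟨r', hr'⟩, ⟨d', ⟨hd1', hd2'⟩, hd3'⟩⟩ e
    have e1 : d = d' := congrArg Subtype.val e
    subst e1
    have e2 : r' = r := fix_two h hd3 hd1 hr hd2 hr' hd2'
    subst e2
    rfl
  rw [Nat.card_sigma] at hS
  simp only [hF] at hS
  rw [Finset.sum_const, Finset.card_univ, smul_eq_mul, ← Nat.card_eq_fintype_card] at hS
  have h1 := kN h
  obtain ⟨j, hj⟩ : ∃ j, kk t = j + 2 := ⟨kk t - 2, by omega⟩
  rw [hj] at h1 hS
  have h2 : j + 2 - 1 = j + 1 := by omega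
  rw [h2] at hS
  have h3 : Nat.card {n : G // n ∈ N t ∧ n ∉ A t} = Nat.card (A t) * (j + 1) := by
    have : (j + 2) * Nat.card (A t) = Nat.card (A t) * (j + 1) + Nat.card (A t) := by ring
    omega
  rw [h3] at hS
  exact Nat.le_of_mul_le_mul_right hS (by omega)

theorem A_bij [Finite G] [Finite Ω] (h : Hyp G Ω t p) (hk : 1 < kk t) {r : Ω} (hr : r ≠ p) :
    Function.Bijective (fun a : A t => (⟨(a : G) • r, by
      intro e
      apply hr
      have h1 : (a : G) • p = p := (h.st _).mpr (A_le_N t a.2)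
      exact smul_left_cancel (a : G) (e.trans h1.symm)⟩ : {r : Ω // r ≠ p})) := by
  apply Function.Injective.bijective_of_nat_card_le
  · intro a b e
    have e1 : (a : G) • r = (b : G) • r := congrArg Subtype.val e
    have e2 : ((a : G)⁻¹ * b) • r = r := by
      rw [mul_smul, inv_smul_eq_iff]
      exact e1.symm
    have e3 := A_free h hr (mul_mem (inv_mem a.2) b.2) e2
    exact Subtype.ext (inv_mul_eq_one.mp e3)
  · exact card_le h hk

theorem card_Omega [Finite G] [Fintype Ω] (h : Hyp G Ω t p) (hk : 1 < kk t) {r : Ω} (hr : r ≠ p) :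
    Fintype.card Ω = Nat.card (A t) + 1 := by
  classical
  have h1 := Nat.card_congr (Equiv.ofBijective _ (A_bij h hk hr))
  rw [h1]
  have h2 : Nat.card {r : Ω // r ≠ p} = ({p}ᶜ : Set Ω).ncard := rfl
  have h3 := Set.ncard_add_ncard_compl ({p} : Set Ω)
  rw [Set.ncard_singleton, Nat.card_eq_fintype_card] at h3
  rw [h2]
  omega

theorem ker [Finite G] [Finite Ω] (h : Hyp G Ω t p) (hk : 1 < kk t) : Cfsg.Agent.H9.ZassA.Ker (A t) p where
  le := fun k hk => (h.st k).mpr (A_le_N t hk)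
  nrm := fun g hg k hk => N_conj ((h.st g).mp hg) hk
  reg := by
    intro y z hy hz
    obtain ⟨a, ha⟩ := (A_bij h hk hy).2 ⟨z, hz⟩
    exact ⟨a, a.2, congrArg Subtype.val ha⟩
  free := fun k hk y hy hky => A_free h hy hk hky

theorem fix_three [Finite G] [Finite Ω] (h : Hyp G Ω t p) (g : G) (a b c : Ω) (hab : a ≠ b) (hbc : b ≠ c)
    (hac : a ≠ c) (ha : g • a = a) (hb : g • b = b) (hc : g • c = c) : g = 1 := by
  obtain ⟨u, hu⟩ := h.tr a
  have key : ∀ x : Ω, g • x = x → (u⁻¹ * g * u) • (u⁻¹ • x) = u⁻¹ • x := by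
    intro x hx
    rw [mul_smul, mul_smul, smul_inv_smul, hx]
  have h1 : u⁻¹ • a = p := by rw [inv_smul_eq_iff, hu]
  have h2 : u⁻¹ • b ≠ p := by
    rw [← h1]
    intro e
    exact hab (smul_left_cancel _ e).symm
  have h3 : u⁻¹ • c ≠ p := by
    rw [← h1]
    intro e
    exact hac (smul_left_cancel _ e).symm
  by_contra hg
  have h4 : u⁻¹ * g * u ≠ 1 := by
    intro e
    apply hg
    calc g = u * (u⁻¹ * g * u) * u⁻¹ := by group
      _ = 1 := by rw [e]; group
  have h5 := fix_two h h4 (by rw [← h1]; exact key a ha) h2 (key b hb) h3 (key c hc)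
  exact hbc (smul_left_cancel _ h5).symm

theorem two_trans [Finite G] [Finite Ω] (h : Hyp G Ω t p) (hk : 1 < kk t) {y z y' z' : Ω} (hyz : y ≠ z)
    (hyz' : y' ≠ z') : ∃ g : G, g • y = y' ∧ g • z = z' := by
  obtain ⟨g1, hg1⟩ := h.tr y
  obtain ⟨g2, hg2⟩ := h.tr y'
  have h1 : g1⁻¹ • z ≠ p := by
    intro e
    rw [inv_smul_eq_iff, hg1] at e
    exact hyz e.symm
  have h2 : g2⁻¹ • z' ≠ p := by
    intro e
    rw [inv_smul_eq_iff, hg2] at e
    exact hyz' e.symm
  obtain ⟨a, haA, ha⟩ := (ker h hk).reg _ _ h1 h2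
  refine ⟨g2 * a * g1⁻¹, ?_, ?_⟩
  · rw [← hg1, mul_smul, mul_smul, inv_smul_smul, (ker h hk).le a haA, hg2]
  · rw [mul_smul, mul_smul, ha, smul_inv_smul]

theorem zass [Finite G] [IsSimpleGroup G] [Finite Ω] (h : Hyp G Ω t p) (hk : 1 < kk t) {r : Ω} (hr : r ≠ p) :
    Cfsg.IsZassenhausGroup G Ω := by
  classical
  haveI := Fintype.ofFinite Ω
  have hA : 1 < Nat.card (A t) := by
    haveI : Nontrivial (A t) := ⟨⟨t, self_mem t⟩, 1, fun e => h.t1 (congrArg Subtype.val e)⟩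
    exact Finite.one_lt_card
  refine ⟨⟨?_⟩, ?_, fix_three h, ?_, ?_⟩
  · intro g g' hgg
    have hc := card_Omega h hk hr
    obtain ⟨c, hcp, hcr⟩ : ∃ c : Ω, c ≠ p ∧ c ≠ r := by
      by_contra hne
      push Not at hne
      have : Fintype.card Ω ≤ ({p, r} : Finset Ω).card := by
        classical
        rw [← Finset.card_univ]
        apply Finset.card_le_card
        intro c _
        by_cases hcp : c = p
        · simp [hcp]
        · simp [hne c hcp]
      have h2 := Finset.card_le_two (a := p) (b := r)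
      omega
    have h1 : ∀ x : Ω, (g⁻¹ * g') • x = x := by
      intro x
      rw [mul_smul, inv_smul_eq_iff, hgg x]
    exact (inv_mul_eq_one.mp (fix_three h _ p r c (Ne.symm hr) (Ne.symm hcr) (Ne.symm hcp) (h1 _) (h1 _) (h1 _)))
  · rw [MulAction.is_two_pretransitive_iff]
    intro a b c d hab hcd
    exact two_trans h hk hab hcd
  · have h1 := card_D h hr
    have h2 : 1 < Nat.card (stabilizer G p ⊓ stabilizer G r : Subgroup G) := by omega
    haveI := Finite.one_lt_card_iff_nontrivial.mp h2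
    obtain ⟨d, hd⟩ := exists_ne (1 : (stabilizer G p ⊓ stabilizer G r : Subgroup G))
    exact ⟨d, fun e => hd (Subtype.ext e), p, r, Ne.symm hr, d.2.1, d.2.2⟩
  · intro M hM hMt
    refine ⟨p, fun hst => ?_⟩
    rcases hM.eq_bot_or_eq_top with h1 | h1
    · obtain ⟨⟨m, hm⟩, hmr⟩ := hMt.exists_smul_eq p r
      have hm1 : m = 1 := by
        rw [h1, Subgroup.mem_bot] at hm
        exact hm
      subst hm1
      apply hr
      rw [← hmr]
      exact one_smul G p
    · have h2 : (⟨t, h1 ▸ Subgroup.mem_top t⟩ : M) ∈ stabilizer M p := by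
        change t • p = p
        exact (h.st t).mpr (A_le_N t (self_mem t))
      rw [hst, Subgroup.mem_bot] at h2
      exact h.t1 (congrArg Subtype.val h2)

/-- **Simple groups of even order in which commuting is transitive** -/
theorem main [Finite G] [IsSimpleGroup G] (hG : ¬ IsMulCommutative G) (hca : CA G) (ht : t * t = 1) (ht1 : t ≠ 1) :
    ∃ a : ℕ, 2 ≤ a ∧ ∃ (F : Type) (_ : Field F) (_ : Fintype F),
      Fintype.card F = 2 ^ a ∧ Nonempty (G ≃* Matrix.SpecialLinearGroup (Fin 2) F) := by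
  classical
  haveI : Fintype (G ⧸ N t) := Fintype.ofFinite _
  have h : Hyp G (G ⧸ N t) t (QuotientGroup.mk 1) := by
    refine ⟨hca, ht, ht1, ?_, ?_, fun s hs hs1 => invol_conj hG hca hs hs1 ht ht1⟩
    · intro g
      rw [MulAction.Quotient.smul_mk, smul_eq_mul, mul_one, eq_comm, QuotientGroup.eq, inv_one, one_mul]
    · intro x
      refine Quotient.inductionOn' x fun g => ⟨g, ?_⟩
      change ((g • (1 : G) : G) : G ⧸ N t) = _
      rw [smul_eq_mul, mul_one]
  have hk := one_lt_kk h (exists_N_notA hG hca ht ht1)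
  obtain ⟨r, hr⟩ : ∃ r : G ⧸ N t, r ≠ QuotientGroup.mk 1 := by
    by_contra hne
    push Not at hne
    apply N_ne_top hG hca ht1
    rw [Subgroup.eq_top_iff']
    intro g
    rw [← h.st]
    exact hne _
  have hc := card_Omega h hk hr
  have hev : 2 ∣ Nat.card (A t) := by
    have h1 : orderOf (⟨t, self_mem t⟩ : A t) = 2 := by
      rw [Subgroup.orderOf_mk]
      exact orderOf_eq_prime (by rw [pow_two]; exact ht) ht1
    rw [← h1]
    exact orderOf_dvd_natCard _
  have hA0 : 0 < Nat.card (A t) := Nat.card_pos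
  rcases Cfsg.Agent.H9.Feit.main (zass h hk hr) (Ne.symm hr) (ker h hk) (fun k hk l hl => A_comm hca ht1 hk hl) with
    h3 | ⟨-, F, hF, hFf, hch, hcF, -⟩
  · obtain ⟨a, ha1, hac, F, hF, hFf, hFc, hiso⟩ := Cfsg.Agent.H4.S3.main (by omega) (by
      rw [hc]
      obtain ⟨j, hj⟩ := hev
      exact ⟨j, by omega⟩) h3
    refine ⟨a, ?_, F, hF, hFf, hFc, hiso⟩
    by_contra hlt
    have ha : a = 1 := by omega
    subst ha
    have hA2 : Nat.card (A t) = 2 := by omega
    -- only one involution in A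
    have h5 : kk t ≤ 1 := by
      rw [kk]
      have h6 : ({s : G | s * s = 1 ∧ s ≠ 1 ∧ s ∈ A t}).ncard ≤ ((A t : Set G) \ {1}).ncard := by
        apply Set.ncard_le_ncard
        · rintro s ⟨-, hs1, hsA⟩
          exact ⟨hsA, hs1⟩
        · exact Set.toFinite _
      have h7 := Set.ncard_diff_add_ncard_of_subset (s := ({1} : Set G)) (t := (A t : Set G)) (by
        rintro x rfl
        exact one_mem _)
      rw [Set.ncard_singleton] at h7
      have h8 : (A t : Set G).ncard = 2 := hA2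
      have h9 : Nat.card {s : G // s * s = 1 ∧ s ≠ 1 ∧ s ∈ A t} =
        ({s : G | s * s = 1 ∧ s ≠ 1 ∧ s ∈ A t}).ncard := rfl
      omega
    omega
  · exfalso
    have hodd : Odd (Fintype.card F) := by
      rw [Nat.odd_iff]
      exact FiniteField.odd_card_of_char_ne_two hch
    rw [hc] at hcF
    obtain ⟨j, hj⟩ := hev
    obtain ⟨i, hi⟩ := hodd
    omega

end Cfsg.Agent.H18.CA3
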