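import Cfsg.Agent.H18_CharP
import Cfsg.Agent.H1_Coprime2

set_option autoImplicit false

/-!
Groups of characteristic `p`: inheritance to subgroups.
-/

namespace Cfsg.Agent.H18.CharP2

open Subgroup Cfsg Cfsg.Agent.H18.CharP

universe u
variable {G : Type u} [Group G]

/-- the normalizer of a subgroup normalizes its centralizer. -/
theorem normalizer_le_normalizer_centralizer (Q : Subgroup G) :
    normalizer (Q : Set G) ≤ normalizer (centralizer (Q : Set G) : Set G) := by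
  have key : ∀ g ∈ normalizer (Q : Set G), ∀ x ∈ centralizer (Q : Set G), g * x * g⁻¹ ∈ centralizer (Q : Set G) := by
    intro g hg x hx
    rw [Subgroup.mem_centralizer_iff] at hx ⊢
    intro y hy
    have h1 : g⁻¹ * y * g ∈ Q := by
      have h2 := (Subgroup.mem_normalizer_iff.mp ((normalizer (Q : Set G)).inv_mem hg) y).mp hy
      simpa using h2
    have h2 := hx _ h1
    have h3 : y * (g * x * g⁻¹) = g * (g⁻¹ * y * g * x) * g⁻¹ := by group
    rw [h3, h2]; group
  intro g hg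
  rw [Subgroup.mem_normalizer_iff]
  intro x
  refine ⟨key g hg x, fun h => ?_⟩
  have h1 := key g⁻¹ ((normalizer (Q : Set G)).inv_mem hg) _ h
  simpa [mul_assoc] using h1

theorem le_normalizer_iff_conj {H K : Subgroup G} :
    H ≤ normalizer (K : Set G) ↔ ∀ h ∈ H, ∀ k ∈ K, h * k * h⁻¹ ∈ K := by
  constructor
  · intro h x hx k hk
    exact (Subgroup.mem_normalizer_iff.mp (h hx) k).mp hk
  · intro h x hx
    rw [Subgroup.mem_normalizer_iff]
    intro k
    refine ⟨h x hx k, fun hk => ?_⟩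
    have h1 := h x⁻¹ (H.inv_mem hx) _ hk
    simpa [mul_assoc] using h1

variable [Finite G] {p : ℕ} [Fact p.Prime]

/-- subnormal subgroups of groups of characteristic `p`. -/
theorem hasCharP_of_isSubnormal (hG : HasCharP p G) {Y : Subgroup G} (hY : Y.IsSubnormal) : HasCharP p ↥Y := by
  rw [hasCharP_iff] at hG ⊢
  have h1 := Cfsg.Agent.H11.FStar.map_generalizedFitting_of_isSubnormal hY
  have h2 := Cfsg.Agent.H11.Cores.map_pCore_of_isSubnormal p hY
  rw [hG, ← h2] at h1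
  exact Subgroup.map_injective Y.subtype_injective h1

/-- `C_G(O_p(G)) ≤ O_p(G)` and `O_p(G)` normalizes `L`. -/
theorem hasCharP_of_le_normalizer (hG : HasCharP p G) (L : Subgroup G)
    (hL : pCore p G ≤ normalizer (L : Set G)) : HasCharP p ↥L := by
  apply hasCharP_of
  intro x hx hxc hcomm
  apply hG.elim' hxc
  intro a ha
  -- `a x a⁻¹ x⁻¹ ∈ L ∩ O_p(G) ≤ O_p(L)`
  have h1 : pCore p G ⊓ L ≤ oP p L := by
    apply le_oP ((Cfsg.Agent.H11.Cores.pCore_isPGroup (G := G) p).to_le inf_le_left) inf_le_right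
    rw [le_normalizer_iff_conj]
    rintro g hg y ⟨h1, h2⟩
    exact ⟨(inferInstance : (pCore p G).Normal).conj_mem _ h1 g, L.mul_mem (L.mul_mem hg h2) (L.inv_mem hg)⟩
  have h2 : a * x * a⁻¹ * x⁻¹ ∈ oP p L := by
    apply h1
    refine ⟨?_, ?_⟩
    · have h3 := (inferInstance : (pCore p G).Normal).conj_mem _ ((pCore p G).inv_mem ha) x
      have h4 := (pCore p G).mul_mem ha h3
      simpa [mul_assoc] using h4
    · exact L.mul_mem ((Subgroup.mem_normalizer_iff.mp (hL ha) x).mp hx) (L.inv_mem hx)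
  exact commute_of_pgroup (oP_isPGroup L) hxc (orderOf_pos x) h2 hcomm

omit [Finite G] [Fact p.Prime] in
theorem le_sylow_of_le_normalizer (T : Sylow p G) {R : Subgroup G} (hR : IsPGroup p ↥R)
    (h : (T : Subgroup G) ≤ normalizer (R : Set G)) : R ≤ (T : Subgroup G) := by
  have h1 : IsPGroup p ↥((T : Subgroup G) ⊔ R : Subgroup G) := IsPGroup.to_sup_of_normal_right' T.2 hR h
  have h2 := T.3 h1 le_sup_left
  rw [← h2]; exact le_sup_right

/-- `T` Sylow, `Q ⊴ T` with `C_T(Q) ≤ Q` then `C_G(Q) ≤ Q`. -/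
theorem centralizer_le_of_sylow (hG : HasCharP p G) (T : Sylow p G) (Q : Subgroup G) (hQT : Q ≤ (T : Subgroup G))
    (hQn : (T : Subgroup G) ≤ normalizer (Q : Set G)) (hC : (T : Subgroup G) ⊓ centralizer (Q : Set G) ≤ Q) :
    centralizer (Q : Set G) ≤ Q := by
  have hOT : pCore p G ≤ T := by
    apply le_sylow_of_le_normalizer T (Cfsg.Agent.H11.Cores.pCore_isPGroup (G := G) p)
    rw [Subgroup.normalizer_eq_top]; exact le_top
  have hTC : (T : Subgroup G) ≤ normalizer (centralizer (Q : Set G) : Set G) :=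
    hQn.trans (normalizer_le_normalizer_centralizer Q)
  have h1 : HasCharP p ↥(centralizer (Q : Set G)) := hasCharP_of_le_normalizer hG _ (hOT.trans hTC)
  have h2 : IsPGroup p ↥(centralizer (Q : Set G)) := by
    apply isPGroup_of_no_pprime
    intro x hx hxc
    apply h1.elim hx hxc
    have h3 : oP p (centralizer (Q : Set G)) ≤ (T : Subgroup G) :=
      le_sylow_of_le_normalizer T (oP_isPGroup _) (hTC.trans (le_normalizer_oP _))
    intro y hy
    have h4 : y ∈ Q := hC ⟨h3 hy, oP_le _ hy⟩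
    exact Subgroup.mem_centralizer_iff.mp hx y h4
  exact le_trans (le_inf (le_sylow_of_le_normalizer T h2 hTC) le_rfl) hC

/-- if `Q ≤ L` where `Q` is normalized by `O_p(G)` and `C_G(Q) ≤ Q` a `p`-group. -/
theorem hasCharP_of_ge (hG : HasCharP p G) (Q : Subgroup G) (hQp : IsPGroup p ↥Q)
    (hOQ : pCore p G ≤ normalizer (Q : Set G)) (hC : centralizer (Q : Set G) ≤ Q) (L : Subgroup G) (hQL : Q ≤ L) :
    HasCharP p ↥L := by
  set R := pCore p G with hR
  have hRn : ∀ g : G, ∀ r ∈ R, g * r * g⁻¹ ∈ R := fun g r hr => (inferInstance : (pCore p G).Normal).conj_mem _ hr g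
  have hRp : IsPGroup p ↥R := Cfsg.Agent.H11.Cores.pCore_isPGroup (G := G) p
  -- `B₀ = R ⊓ Q`
  set B := R ⊓ Q with hB
  have hBA : R ⊓ L ≤ oP p L := by
    apply le_oP (hRp.to_le inf_le_left) inf_le_right
    rw [le_normalizer_iff_conj]
    rintro g hg y ⟨h1, h2⟩
    exact ⟨hRn g y h1, L.mul_mem (L.mul_mem hg h2) (L.inv_mem hg)⟩
  have hBA' : B ≤ oP p L := le_trans (inf_le_inf_left _ hQL) hBA
  have hRQ : ∀ r ∈ R, ∀ q ∈ Q, q * r * q⁻¹ * r⁻¹ ∈ B := by
    intro r hr q hq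
    refine ⟨R.mul_mem (hRn q r hr) (R.inv_mem hr), ?_⟩
    have h1 := (le_normalizer_iff_conj.mp hOQ) r hr q⁻¹ (Q.inv_mem hq)
    have h2 := Q.mul_mem hq h1
    simpa [mul_assoc] using h2
  -- `C = C_L(O_p(L))`
  set C := L ⊓ centralizer (oP p L : Set G) with hCdef
  have hCL : L ≤ normalizer (C : Set G) := by
    rw [le_normalizer_iff_conj]
    rintro g hg y ⟨h1, h2⟩
    refine ⟨L.mul_mem (L.mul_mem hg h1) (L.inv_mem hg), ?_⟩
    have h3 : L ≤ normalizer (centralizer (oP p L : Set G) : Set G) :=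
      Subgroup.le_normalizer.trans ((le_normalizer_oP L).trans (normalizer_le_normalizer_centralizer _))
    exact (le_normalizer_iff_conj.mp h3) g hg y h2
  have hCB : ∀ c ∈ C, ∀ b ∈ B, b * c = c * b := by
    rintro c ⟨-, hc⟩ b hb
    exact Subgroup.mem_centralizer_iff.mp hc b (hBA' hb)
  -- `D`
  let D : Subgroup G :=
    { carrier := {d | d ∈ C ∧ ∀ r ∈ R, d * r * d⁻¹ * r⁻¹ ∈ B}
      one_mem' := ⟨C.one_mem, fun r _ => by simp [B.one_mem]⟩
      mul_mem' := by
        rintro d e ⟨hd, hd'⟩ ⟨he, he'⟩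
        refine ⟨C.mul_mem hd he, fun r hr => ?_⟩
        have h1 := he' r hr
        have h2 := hd' _ (hRn e r hr)
        have h3 := B.mul_mem h2 h1
        have h4 : d * (e * r * e⁻¹) * d⁻¹ * (e * r * e⁻¹)⁻¹ * (e * r * e⁻¹ * r⁻¹) = d * e * r * (d * e)⁻¹ * r⁻¹ := by group
        rwa [h4] at h3
      inv_mem' := by
        rintro d ⟨hd, hd'⟩
        refine ⟨C.inv_mem hd, fun r hr => ?_⟩
        have h1 := hd' _ (hRn d⁻¹ r hr)
        have h2 := B.inv_mem h1
        have h3 : (d * (d⁻¹ * r * d⁻¹⁻¹) * d⁻¹ * (d⁻¹ * r * d⁻¹⁻¹)⁻¹)⁻¹ = d⁻¹ * r * d⁻¹⁻¹ * r⁻¹ := by group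
        rwa [h3] at h2 }
  have hDC : D ≤ C := fun d hd => hd.1
  have hDp : IsPGroup p ↥D := by
    apply isPGroup_of_no_pprime
    rintro x ⟨hx, hx'⟩ hxc
    apply hG.elim' hxc
    intro a ha
    have h1 : x * a = a * x := by
      have h2 := hx' _ ((pCore p G).inv_mem ha)
      have h3 := (pCore p G).mul_mem ha ha
      -- use `a x a⁻¹ x⁻¹`
      have h4 := hx' a ha
      have h5 : a * x * a⁻¹ * x⁻¹ = (x * a * x⁻¹ * a⁻¹)⁻¹ := by group
      have h6 : a * x * a⁻¹ * x⁻¹ ∈ B := by rw [h5]; exact B.inv_mem h4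
      exact (commute_of_pgroup (hRp.to_le inf_le_left) hxc (orderOf_pos x) h6 (fun r hr => hCB x hx r hr)).symm
    exact h1.symm
  have hCD : C ≤ normalizer (D : Set G) := by
    rw [le_normalizer_iff_conj]
    rintro c hc d ⟨hd, hd'⟩
    refine ⟨C.mul_mem (C.mul_mem hc hd) (C.inv_mem hc), fun r hr => ?_⟩
    have h1 := hd' _ (hRn c⁻¹ r hr)
    have h2 := hCB c hc _ h1
    have h3 : c * d * c⁻¹ * r * (c * d * c⁻¹)⁻¹ * r⁻¹ =
        c * (d * (c⁻¹ * r * c⁻¹⁻¹) * d⁻¹ * (c⁻¹ * r * c⁻¹⁻¹)⁻¹) * c⁻¹ := by group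
    rw [h3, ← h2]
    simpa [mul_assoc] using h1
  have hDL : D ≤ oP p L := by
    refine (le_oP hDp hDC hCD).trans ?_
    refine le_oP (oP_isPGroup C) ((oP_le C).trans inf_le_left) ?_
    exact hCL.trans (le_normalizer_oP C)
  have hCQ : ∀ c ∈ C, ∀ q ∈ Q, c * q * c⁻¹ * q⁻¹ ∈ D := by
    intro c hc q hq
    have hqc : q * c⁻¹ * q⁻¹ ∈ C := (le_normalizer_iff_conj.mp hCL) q (hQL hq) _ (C.inv_mem hc)
    refine ⟨?_, fun r hr => ?_⟩
    · have := C.mul_mem hc hqc
      simpa [mul_assoc] using this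
    · -- the computation
      have hb1 := hRQ r hr q⁻¹ (Q.inv_mem hq)
      set b₁ := q⁻¹ * r * q⁻¹⁻¹ * r⁻¹ with hb1def
      have e1 : q⁻¹ * r * q = b₁ * r := by rw [hb1def]; group
      set r₁ := c⁻¹ * r * c with hr1
      have hr1R : r₁ ∈ R := by have := hRn c⁻¹ r hr; simpa [hr1] using this
      have hcb1 := hCB c hc b₁ hb1
      have e2 : c⁻¹ * (b₁ * r) * c = b₁ * r₁ := by
        have : c⁻¹ * b₁ = b₁ * c⁻¹ := by
          rw [eq_mul_inv_iff_mul_eq, mul_assoc, hcb1, inv_mul_cancel_left]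
        rw [hr1, ← mul_assoc, this]; group
      have hb2 : q * b₁ * q⁻¹ ∈ B := ⟨hRn q _ hb1.1, Q.mul_mem (Q.mul_mem hq hb1.2) (Q.inv_mem hq)⟩
      have hb3 := hRQ r₁ hr1R q hq
      set b₂ := q * b₁ * q⁻¹ with hb2def
      set b₃ := q * r₁ * q⁻¹ * r₁⁻¹ with hb3def
      have e3 : q * (b₁ * r₁) * q⁻¹ = b₂ * b₃ * r₁ := by rw [hb2def, hb3def]; group
      have hb23 : b₂ * b₃ ∈ B := B.mul_mem hb2 hb3
      have hcb := hCB c hc _ hb23
      have e4 : c * (b₂ * b₃ * r₁) * c⁻¹ = b₂ * b₃ * r := by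
        rw [← mul_assoc, ← hcb, hr1]; group
      have e5 : c * q * c⁻¹ * q⁻¹ * r * (c * q * c⁻¹ * q⁻¹)⁻¹ * r⁻¹ = c * (q * (c⁻¹ * (q⁻¹ * r * q) * c) * q⁻¹) * c⁻¹ * r⁻¹ := by group
      rw [e5, e1, e2, e3, e4, mul_inv_cancel_right]
      exact hb23
  apply hasCharP_of
  intro x hx hxc hcomm
  have hxC : x ∈ C := ⟨hx, Subgroup.mem_centralizer_iff.mpr hcomm⟩
  have hxQ : x ∈ centralizer (Q : Set G) := by
    rw [Subgroup.mem_centralizer_iff]
    intro q hq
    have h1 := hDL (hCQ x hxC q hq)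
    have h2 : q * x * q⁻¹ * x⁻¹ ∈ oP p L := by
      have h3 := (oP p L).inv_mem h1
      have h4 : (x * q * x⁻¹ * q⁻¹)⁻¹ = q * x * q⁻¹ * x⁻¹ := by group
      rwa [h4] at h3
    exact commute_of_pgroup (oP_isPGroup L) hxc (orderOf_pos x) h2 hcomm
  exact eq_one_of_pgroup hQp hxc (hC hxQ)

/-- centralizers of `p`-subgroups `B` with `N_G(C)` of characteristic `p` for some `C ⊴ B`. -/
theorem hasCharP_centralizer {B M : Subgroup G} (hM : HasCharP p ↥M) (hB : IsPGroup p ↥B) (hBM : B ≤ M)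
    (hCM : centralizer (B : Set G) ≤ M) : HasCharP p ↥(centralizer (B : Set G)) := by
  apply hasCharP_of
  intro x hx hxc hcomm
  apply hM.elim (hCM hx) hxc
  have hMR : M ≤ normalizer (oP p M : Set G) := Subgroup.le_normalizer.trans (le_normalizer_oP M)
  have h1 := Cfsg.Agent.H1.Coprime.p_times_q p B (Subgroup.zpowers x) (oP p M) hB (by rwa [Nat.card_zpowers])
    (oP_isPGroup M) (by
      rw [Subgroup.le_centralizer_iff, Subgroup.zpowers_le]
      exact hx) (hBM.trans hMR) (by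
      rw [Subgroup.zpowers_le]
      exact hMR (hCM hx)) (by
      rw [Subgroup.le_centralizer_iff, Subgroup.zpowers_le, Subgroup.mem_centralizer_iff]
      intro y hy
      apply hcomm
      have h2 : oP p M ⊓ centralizer (B : Set G) ≤ oP p (centralizer (B : Set G)) := by
        apply le_oP ((oP_isPGroup M).to_le inf_le_left) inf_le_right
        rw [le_normalizer_iff_conj]
        rintro g hg z ⟨h1, h2⟩
        exact ⟨(le_normalizer_iff_conj.mp hMR) g (hCM hg) z h1, (centralizer (B : Set G)).mul_mem ((centralizer (B : Set G)).mul_mem hg h2) ((centralizer (B : Set G)).inv_mem hg)⟩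
      exact h2 hy)
  rw [Subgroup.zpowers_le, Subgroup.mem_centralizer_iff] at h1
  exact h1

/-- if `C_G(B)` has characteristic `p` then so has `N_G(B)`, `B` a `p`-subgroup. -/
theorem hasCharP_normalizer {B : Subgroup G} (hB : IsPGroup p ↥B) (hC : HasCharP p ↥(centralizer (B : Set G))) :
    HasCharP p ↥(normalizer (B : Set G)) := by
  apply hasCharP_of
  intro x hx hxc hcomm
  have hBo : B ≤ oP p (normalizer (B : Set G)) := le_oP hB Subgroup.le_normalizer le_rfl
  have hxC : x ∈ centralizer (B : Set G) := by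
    rw [Subgroup.mem_centralizer_iff]
    exact fun y hy => hcomm y (hBo hy)
  apply hC.elim hxC hxc
  intro y hy
  apply hcomm
  have h1 : oP p (centralizer (B : Set G)) ≤ oP p (normalizer (B : Set G)) := by
    apply le_oP (oP_isPGroup _) ((oP_le _).trans (Subgroup.centralizer_le_normalizer _))
    exact (normalizer_le_normalizer_centralizer B).trans (le_normalizer_oP _)
  exact h1 hy

end Cfsg.Agent.H18.CharP2
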