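import Mathlib
import Cfsg.Prelude.Def_SylowControl

set_option autoImplicit false

/-!
Sylow subgroups inside subgroups: small helper lemmas.
-/

namespace Cfsg.Agent.H18.Syl

open scoped Pointwise
open Cfsg

variable {G : Type*} [Group G] {p : ℕ}

theorem map_conj_eq_smul (g : G) (X : Subgroup G) : X.map (MulAut.conj g).toMonoidHom = MulAut.conj g • X := rfl

theorem conjRight_eq_smul (g : G) (X : Subgroup G) : subgroupConjRight g X = MulAut.conj g⁻¹ • X := rfl

theorem mem_conjRight_iff (g : G) (X : Subgroup G) (x : G) : x ∈ subgroupConjRight g X ↔ g * x * g⁻¹ ∈ X := by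
  unfold subgroupConjRight
  constructor
  · rintro ⟨y, hy, rfl⟩
    simpa [mul_assoc] using hy
  · intro h
    exact ⟨_, h, by simp [mul_assoc]⟩

theorem mem_map_conj_iff (g : G) (X : Subgroup G) (x : G) :
    x ∈ X.map (MulAut.conj g).toMonoidHom ↔ g⁻¹ * x * g ∈ X := by
  constructor
  · rintro ⟨y, hy, rfl⟩
    simpa [mul_assoc] using hy
  · intro h
    exact ⟨_, h, by simp [mul_assoc]⟩

theorem map_conj_mul (g h : G) (X : Subgroup G) :
    X.map (MulAut.conj (g * h)).toMonoidHom = (X.map (MulAut.conj h).toMonoidHom).map (MulAut.conj g).toMonoidHom := by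
  ext x
  simp only [mem_map_conj_iff, mul_inv_rev, mul_assoc]

theorem map_conj_one (X : Subgroup G) : X.map (MulAut.conj (1 : G)).toMonoidHom = X := by
  ext x; simp [mem_map_conj_iff]

theorem map_conj_mem {g : G} {X : Subgroup G} (h : g ∈ X) : X.map (MulAut.conj g).toMonoidHom = X := by
  ext x
  rw [mem_map_conj_iff]
  constructor
  · intro hx
    have := X.mul_mem (X.mul_mem h hx) (X.inv_mem h)
    simpa [mul_assoc] using this
  · intro hx
    exact X.mul_mem (X.mul_mem (X.inv_mem h) hx) h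

theorem card_map_conj (g : G) (X : Subgroup G) : Nat.card ↥(X.map (MulAut.conj g).toMonoidHom) = Nat.card ↥X :=
  Nat.card_congr (X.equivMapOfInjective (MulAut.conj g).toMonoidHom (MulAut.conj g).injective).symm.toEquiv

theorem map_conj_eq_iff_mem_normalizer (g : G) (X : Subgroup G) :
    X.map (MulAut.conj g).toMonoidHom = X ↔ g ∈ Subgroup.normalizer (X : Set G) := by
  rw [Subgroup.mem_normalizer_iff']
  constructor
  · intro h n
    have h1 : g⁻¹ * (g * n) * g ∈ X ↔ g * n ∈ X := by rw [← mem_map_conj_iff, h]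
    rw [← h1]; simp [mul_assoc]
  · intro h
    ext x
    rw [mem_map_conj_iff]
    have := h (g⁻¹ * x)
    rw [← mul_assoc, mul_inv_cancel, one_mul] at this
    exact this

theorem coe_smul_sylow (g : G) (P : Sylow p G) :
    ((g • P : Sylow p G) : Subgroup G) = (P : Subgroup G).map (MulAut.conj g).toMonoidHom := rfl

variable [Finite G] [Fact p.Prime]

/-- a `p`-subgroup of `H` lies in an `H`-conjugate of a given Sylow subgroup of `G` contained in `H`. -/
theorem exists_conj_le {H R : Subgroup G} (S : Sylow p G) (hS : (S : Subgroup G) ≤ H) (hR : IsPGroup p ↥R)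
    (hRH : R ≤ H) : ∃ h ∈ H, R ≤ ((h • S : Sylow p G) : Subgroup G) ∧ ((h • S : Sylow p G) : Subgroup G) ≤ H := by
  have hR' : IsPGroup p ↥(R.subgroupOf H) := hR.comap_of_injective H.subtype H.subtype_injective
  obtain ⟨Q, hQ⟩ := hR'.exists_le_sylow
  obtain ⟨h, hh⟩ := MulAction.exists_smul_eq H (S.subtype hS) Q
  refine ⟨h, h.2, ?_, ?_⟩
  · intro x hx
    have h1 : (⟨x, hRH hx⟩ : H) ∈ (Q : Subgroup H) := hQ (by simpa [Subgroup.mem_subgroupOf] using hx)
    rw [← hh, coe_smul_sylow, mem_map_conj_iff] at h1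
    rw [coe_smul_sylow, mem_map_conj_iff]
    exact h1
  · intro x hx
    rw [coe_smul_sylow, mem_map_conj_iff] at hx
    have h2 := H.mul_mem (H.mul_mem h.2 (hS hx)) (H.inv_mem h.2)
    simpa [mul_assoc] using h2

/-- a `p`-subgroup of `H` lies in a Sylow subgroup of `G` contained in `H`, when there is one in `H`. -/
theorem exists_sylow_le {H R : Subgroup G} (S : Sylow p G) (hS : (S : Subgroup G) ≤ H) (hR : IsPGroup p ↥R)
    (hRH : R ≤ H) : ∃ U : Sylow p G, R ≤ (U : Subgroup G) ∧ (U : Subgroup G) ≤ H := by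
  obtain ⟨h, -, h1, h2⟩ := exists_conj_le S hS hR hRH
  exact ⟨_, h1, h2⟩

end Cfsg.Agent.H18.Syl
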