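import Mathlib
import Cfsg.Prelude.Def_SylowControl
import Cfsg.Agent.H18_Syl

set_option autoImplicit false

/-!
Sylow members of a family; conjugation.
-/

namespace Cfsg.Agent.H18.Syl2

open scoped Pointwise
open Cfsg Cfsg.Agent.H18.Syl

variable {G : Type*} [Group G] {p : ℕ}

theorem conjRight_one (X : Subgroup G) : subgroupConjRight 1 X = X := by
  ext x; simp [mem_conjRight_iff]

theorem conjRight_mul (g h : G) (X : Subgroup G) :
    subgroupConjRight (g * h) X = subgroupConjRight h (subgroupConjRight g X) := by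
  ext x; simp only [mem_conjRight_iff, mul_inv_rev, mul_assoc]

theorem conjRight_inf (g : G) (X Y : Subgroup G) :
    subgroupConjRight g (X ⊓ Y) = subgroupConjRight g X ⊓ subgroupConjRight g Y := by
  ext x; simp only [mem_conjRight_iff, Subgroup.mem_inf]

theorem conjRight_mono (g : G) {X Y : Subgroup G} (h : X ≤ Y) :
    subgroupConjRight g X ≤ subgroupConjRight g Y := Subgroup.map_mono h

theorem conjRight_mem {g : G} {X : Subgroup G} (h : g ∈ X) : subgroupConjRight g X = X := by
  have := map_conj_mem (X := X) (X.inv_mem h)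
  exact this

theorem conjRight_eq_iff {g : G} {X : Subgroup G} :
    subgroupConjRight g X = X ↔ g ∈ Subgroup.normalizer (X : Set G) := by
  unfold subgroupConjRight
  rw [map_conj_eq_iff_mem_normalizer]
  exact inv_mem_iff

theorem card_conjRight (g : G) (X : Subgroup G) : Nat.card ↥(subgroupConjRight g X) = Nat.card ↥X :=
  card_map_conj g⁻¹ X

theorem mem_setConjRight_iff (g : G) (A : Set G) (x : G) : x ∈ Cfsg.conjRight g A ↔ g * x * g⁻¹ ∈ A := by
  unfold Cfsg.conjRight
  constructor
  · rintro ⟨y, hy, rfl⟩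
    simpa [mul_assoc] using hy
  · intro h
    exact ⟨_, h, by simp [mul_assoc]⟩

theorem coe_conjRight (g : G) (X : Subgroup G) :
    ((subgroupConjRight g X : Subgroup G) : Set G) = Cfsg.conjRight g (X : Set G) := by
  ext x
  rw [SetLike.mem_coe, mem_conjRight_iff, mem_setConjRight_iff]; rfl

/-- the conjugate Sylow subgroup `S^g`. -/
noncomputable def sconj (g : G) (S : Sylow p G) : Sylow p G := g⁻¹ • S

theorem coe_sconj (g : G) (S : Sylow p G) : ((sconj g S : Sylow p G) : Subgroup G) = subgroupConjRight g (S : Subgroup G) := rfl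

variable [Finite G] [Fact p.Prime]

/-- being a Sylow subgroup of `X`, as a subgroup of the ambient group -/
theorem exists_sylow_map_iff (X R : Subgroup G) : (∃ P : Sylow p ↥X, (P : Subgroup ↥X).map X.subtype = R) ↔
    R ≤ X ∧ Nat.card ↥R = p ^ (Nat.card ↥X).factorization p := by
  constructor
  · rintro ⟨P, rfl⟩
    refine ⟨Subgroup.map_subtype_le _, ?_⟩
    rw [← P.card_eq_multiplicity]
    exact Nat.card_congr ((P : Subgroup X).equivMapOfInjective X.subtype X.subtype_injective).symm.toEquiv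
  · rintro ⟨h1, h2⟩
    have h3 : Nat.card ↥(R.subgroupOf X) = p ^ (Nat.card ↥X).factorization p := by
      rw [← h2]
      exact Nat.card_congr (Subgroup.subgroupOfEquivOfLe h1).toEquiv
    refine ⟨Sylow.ofCard (R.subgroupOf X) h3, ?_⟩
    show (R.subgroupOf X).map X.subtype = R
    rw [Subgroup.subgroupOf_map_subtype, inf_eq_left.mpr h1]

theorem mem_sylowMembers_iff (𝓕 : Set (Subgroup G)) (S X : Subgroup G) : X ∈ sylowMembers p 𝓕 S ↔
    X ∈ 𝓕 ∧ Nat.card ↥(S ⊓ X) = p ^ (Nat.card ↥X).factorization p := by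
  show (X ∈ 𝓕 ∧ ∃ P : Sylow p ↥X, (P : Subgroup ↥X).map X.subtype = S ⊓ X) ↔ _
  rw [exists_sylow_map_iff]
  simp

theorem conjRight_mem_sylowMembers {𝓕 : Set (Subgroup G)} (h𝓕 : IsNormalSet 𝓕) {S X : Subgroup G}
    (h : X ∈ sylowMembers p 𝓕 S) (g : G) : subgroupConjRight g X ∈ sylowMembers p 𝓕 (subgroupConjRight g S) := by
  rw [mem_sylowMembers_iff] at h ⊢
  refine ⟨h𝓕 X h.1 g, ?_⟩
  rw [← conjRight_inf, card_conjRight, card_conjRight, h.2]

end Cfsg.Agent.H18.Syl2
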