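import Mathlib
import Cfsg.Prelude.Def_SylowControl
import Cfsg.Prelude.Def_SylowChains
import Cfsg.Agent.H18_Syl2

set_option autoImplicit false

/-!
Chains of Sylow subgroups as reflexive transitive closures.
-/

namespace Cfsg.Agent.H18.Syl3

open scoped Pointwise
open Cfsg Cfsg.Agent.H18.Syl Cfsg.Agent.H18.Syl2

variable {G : Type*} [Group G] {p : ℕ}

/-- one step of a controlled chain from `A` to `B`, all containing `R`. -/
def Link (𝓕 : Set (Subgroup G)) (R : Subgroup G) (A B : Sylow p G) : Prop :=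
  ∃ (X : Subgroup G) (x : G), X ∈ sylowMembers p 𝓕 (A : Subgroup G) ∧ X ∈ sylowMembers p 𝓕 (B : Subgroup G) ∧
    x ∈ X ∧ subgroupConjRight x (B : Subgroup G) = (A : Subgroup G) ∧ R ≤ (B : Subgroup G) ⊓ X

theorem controls_iff (𝓕 : Set (Subgroup G)) : ControlsSylowIntersections p 𝓕 ↔
    ∀ S T : Sylow p G, S ≠ T → (S : Subgroup G) ⊓ (T : Subgroup G) ≠ ⊥ →
      Relation.ReflTransGen (Link 𝓕 ((S : Subgroup G) ⊓ (T : Subgroup G))) S T := by
  constructor
  · intro h S T hST hne
    obtain ⟨n, c, X, x, hc0, hcn, hc⟩ := h S T hST hne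
    have : ∀ i : Fin (n + 1), Relation.ReflTransGen (Link 𝓕 ((S : Subgroup G) ⊓ (T : Subgroup G))) S (c i) := by
      intro i
      induction i using Fin.induction with
      | zero => rw [hc0]
      | succ i ih => exact ih.tail ⟨X i, x i, hc i⟩
    have h2 := this (Fin.last n)
    rwa [hcn] at h2
  · intro h S T hST hne
    have h1 := h S T hST hne
    generalize (S : Subgroup G) ⊓ (T : Subgroup G) = R at h1 ⊢
    clear hST hne
    induction h1 using Relation.ReflTransGen.head_induction_on with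
    | refl => exact ⟨0, fun _ => T, Fin.elim0, Fin.elim0, rfl, rfl, fun i => i.elim0⟩
    | @head A B hAB _ ih =>
      obtain ⟨n, c, X, x, hc0, hcn, hc⟩ := ih
      obtain ⟨X₀, x₀, h₀⟩ := hAB
      refine ⟨n + 1, Fin.cons A c, Fin.cons X₀ X, Fin.cons x₀ x, rfl, ?_, ?_⟩
      · rw [← Fin.succ_last]; simpa using hcn
      · intro i
        refine Fin.cases ?_ (fun j => ?_) i
        · simp only [Fin.castSucc_zero, Fin.cons_zero, Fin.cons_succ, hc0]
          exact h₀
        · simp only [Fin.cons_succ, Fin.castSucc_succ]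
          exact hc j

theorem Link.mono {𝓕 : Set (Subgroup G)} {R R' : Subgroup G} (h : R' ≤ R) {A B : Sylow p G} (hl : Link 𝓕 R A B) :
    Link 𝓕 R' A B := by
  obtain ⟨X, x, h1, h2, h3, h4, h5⟩ := hl
  exact ⟨X, x, h1, h2, h3, h4, h.trans h5⟩

theorem rtg_mono {𝓕 : Set (Subgroup G)} {R R' : Subgroup G} (h : R' ≤ R) {A B : Sylow p G}
    (hl : Relation.ReflTransGen (Link 𝓕 R) A B) : Relation.ReflTransGen (Link 𝓕 R') A B := by
  induction hl with
  | refl => exact Relation.ReflTransGen.refl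
  | tail _ h1 ih => exact ih.tail (h1.mono h)

variable [Finite G] [Fact p.Prime]

/-- conjugation of a link -/
theorem Link.conj {𝓕 : Set (Subgroup G)} (h𝓕 : IsNormalSet 𝓕) {R : Subgroup G} {A B : Sylow p G} (hl : Link 𝓕 R A B)
    (g : G) : Link 𝓕 (subgroupConjRight g R) (sconj g A) (sconj g B) := by
  obtain ⟨X, x, h1, h2, h3, h4, h5⟩ := hl
  refine ⟨subgroupConjRight g X, g⁻¹ * x * g, conjRight_mem_sylowMembers h𝓕 h1 g, conjRight_mem_sylowMembers h𝓕 h2 g, ?_, ?_, ?_⟩
  · rw [mem_conjRight_iff]; simpa [mul_assoc] using h3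
  · rw [coe_sconj, coe_sconj, ← conjRight_mul, ← h4, ← conjRight_mul]
    congr 1; group
  · rw [coe_sconj, ← conjRight_inf]; exact conjRight_mono g h5

theorem rtg_conj {𝓕 : Set (Subgroup G)} (h𝓕 : IsNormalSet 𝓕) {R : Subgroup G} {A B : Sylow p G}
    (hl : Relation.ReflTransGen (Link 𝓕 R) A B) (g : G) :
    Relation.ReflTransGen (Link 𝓕 (subgroupConjRight g R)) (sconj g A) (sconj g B) := by
  induction hl with
  | refl => exact Relation.ReflTransGen.refl
  | tail _ h ih => exact ih.tail (h.conj h𝓕 g)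

omit [Finite G] in
/-- normalizers grow in `p`-groups. -/
theorem lt_inf_normalizer {S R : Subgroup G} [Finite ↥S] (hS : IsPGroup p ↥S) (h : R < S) :
    R < S ⊓ Subgroup.normalizer (R : Set G) := by
  refine lt_of_le_of_ne (le_inf h.le Subgroup.le_normalizer) ?_
  intro heq
  haveI : Group.IsNilpotent ↥S := hS.isNilpotent
  have hnc := Group.normalizerCondition_of_isNilpotent (G := ↥S)
  have h1 : R.subgroupOf S < ⊤ := by
    rw [lt_top_iff_ne_top, Ne, Subgroup.subgroupOf_eq_top]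
    exact not_le_of_gt h
  have h2 := hnc _ h1
  obtain ⟨x, hx1, hx2⟩ := SetLike.exists_of_lt h2
  apply hx2
  rw [Subgroup.mem_subgroupOf, heq]
  refine ⟨x.2, ?_⟩
  show (x : G) ∈ Subgroup.normalizer (R : Set G)
  rw [Subgroup.mem_normalizer_iff] at hx1 ⊢
  intro y
  constructor
  · intro hy
    exact (hx1 ⟨y, h.le hy⟩).mp hy
  · intro hy
    have hyS : y ∈ S := by
      have h3 := h.le hy
      have h4 := S.mul_mem (S.mul_mem (S.inv_mem x.2) h3) x.2
      simpa [mul_assoc] using h4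
    exact (hx1 ⟨y, hyS⟩).mpr hy

/-- exponent of the `p`-part of `|L|` -/
noncomputable def vp (p : ℕ) (L : Subgroup G) : ℕ := (Nat.card ↥L).factorization p

theorem vp_mono {L M : Subgroup G} (h : L ≤ M) : vp p L ≤ vp p M := by
  unfold vp
  exact (Nat.factorization_le_iff_dvd Nat.card_pos.ne' Nat.card_pos.ne').mpr (Subgroup.card_dvd_of_le h) p

theorem card_sylow_sub {L : Subgroup G} (P : Sylow p ↥L) :
    Nat.card ↥((P : Subgroup ↥L).map L.subtype) = p ^ vp p L :=
  ((exists_sylow_map_iff L _).mp ⟨P, rfl⟩).2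

theorem card_le_of_pgroup {L Q : Subgroup G} (hQ : IsPGroup p ↥Q) (hQL : Q ≤ L) : Nat.card ↥Q ≤ p ^ vp p L := by
  obtain ⟨n, hn⟩ := IsPGroup.iff_card.mp hQ
  rw [hn]
  apply Nat.pow_le_pow_right (Fact.out (p := p.Prime)).pos
  have h1 : p ^ n ∣ Nat.card ↥L := hn ▸ Subgroup.card_dvd_of_le hQL
  exact ((Fact.out (p := p.Prime)).pow_dvd_iff_le_factorization Nat.card_pos.ne').mp h1

end Cfsg.Agent.H18.Syl3
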