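import Mathlib
import Cfsg.Agent.H13_Syl
import Cfsg.Agent.H19_Inv
import Cfsg.Agent.H2_Card

/-! 2-groups with an involution whose centralizer has order 4 have a cyclic subgroup of index 2. -/

set_option autoImplicit false

namespace Cfsg.Agent.H19.MaxCl

open Subgroup

universe u

/-- basic: involution with centralizer of order 4 -/
theorem exists_central {S : Type u} [Group S] [Finite S] (hS : IsPGroup 2 S) (x : S) (hx : orderOf x = 2)
    (hC : Nat.card (centralizer ({x} : Set S)) = 4) (hcard : Nat.card S ≠ 4) :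
    ∃ z : S, orderOf z = 2 ∧ z ∈ center S ∧ (∀ w ∈ center S, w = 1 ∨ w = z) ∧
      x ∉ center S ∧ ∀ w : S, Commute x w → w = 1 ∨ w = x ∨ w = z ∨ w = x * z := by
  classical
  haveI : Fact (Nat.Prime 2) := ⟨Nat.prime_two⟩
  have hxc : x ∉ center S := by
    intro h
    apply hcard
    rw [← hC]
    have : centralizer ({x} : Set S) = ⊤ := by
      rw [eq_top_iff]
      intro g _
      rw [mem_centralizer_singleton_iff]
      exact (mem_center_iff.1 h g)
    rw [this, card_top]
  haveI : Nontrivial S := ⟨x, 1, fun h => by rw [h, orderOf_one] at hx; omega⟩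
  have hZ := hS.center_nontrivial
  -- a central involution
  have hZp : IsPGroup 2 (center S) := hS.to_subgroup _
  obtain ⟨m, hm⟩ := (IsPGroup.iff_card).1 hZp
  have hm0 : m ≠ 0 := by
    rintro rfl
    rw [pow_zero] at hm
    have := Finite.one_lt_card_iff_nontrivial.2 hZ
    omega
  obtain ⟨z', hz'⟩ := exists_prime_orderOf_dvd_card' (G := center S) 2 (by rw [hm]; exact dvd_pow_self 2 hm0)
  set z : S := (z' : S) with hz
  have hzc : z ∈ center S := z'.2
  have hzo : orderOf z = 2 := by rw [hz, Subgroup.orderOf_coe]; exact hz'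
  obtain ⟨hxx, hx1⟩ := H19.Inv.inv_iff.1 hx
  obtain ⟨hzz, hz1⟩ := H19.Inv.inv_iff.1 hzo
  have hxz : x ≠ z := fun h => hxc (h ▸ hzc)
  have hcz : ∀ g, g * z = z * g := fun g => mem_center_iff.1 hzc g
  have hall : ∀ w : S, Commute x w → w = 1 ∨ w = x ∨ w = z ∨ w = x * z := by
    intro w hw
    let F : Finset S := {1, x, z, x * z}
    have hF : F.card = 4 := by
      have h1 : (1 : S) ≠ x := hx1.symm
      have h2 : (1 : S) ≠ z := hz1.symm
      have h3 : (1 : S) ≠ x * z := by
        intro h; apply hxz
        have : x = z⁻¹ := eq_inv_of_mul_eq_one_left h.symm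
        rw [this]; exact inv_eq_of_mul_eq_one_left hzz
      have h4 : x ≠ x * z := fun h => hz1 (mul_eq_left.1 h.symm)
      have h5 : z ≠ x * z := fun h => hx1 (mul_eq_right.1 h.symm)
      rw [Finset.card_insert_of_notMem, Finset.card_insert_of_notMem, Finset.card_insert_of_notMem, Finset.card_singleton]
      · simpa using h5
      · simp only [Finset.mem_insert, Finset.mem_singleton, not_or]
        exact ⟨hxz, h4⟩
      · simpa using ⟨h1, h2, h3⟩
    haveI : Fintype (centralizer ({x} : Set S)) := Fintype.ofFinite _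
    have hsub : F ⊆ (centralizer ({x} : Set S) : Set S).toFinset := by
      intro g hg
      rw [Set.mem_toFinset, SetLike.mem_coe, mem_centralizer_singleton_iff]
      simp only [F, Finset.mem_insert, Finset.mem_singleton] at hg
      rcases hg with rfl | rfl | rfl | rfl
      · group
      · rfl
      · exact (hcz x).symm
      · rw [mul_assoc, ← hcz x]
    have hc4 : (centralizer ({x} : Set S) : Set S).toFinset.card = 4 := by
      rw [← hC, Nat.card_eq_fintype_card, Set.toFinset_card]
      exact Fintype.card_congr (Equiv.refl _)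
    have hEq := Finset.eq_of_subset_of_card_le hsub (by rw [hc4, hF])
    have hwm : w ∈ (centralizer ({x} : Set S) : Set S).toFinset := by
      rw [Set.mem_toFinset, SetLike.mem_coe, mem_centralizer_singleton_iff]
      exact hw.symm.eq
    rw [← hEq] at hwm
    simpa [F] using hwm
  refine ⟨z, hzo, hzc, ?_, hxc, hall⟩
  intro w hw
  rcases hall w (mem_center_iff.1 hw x) with h | h | h | h
  · exact Or.inl h
  · exact absurd (h ▸ hw) hxc
  · exact Or.inr h
  · exfalso
    apply hxc
    have h1 : x = w * z⁻¹ := by rw [h]; group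
    rw [h1]
    exact mul_mem hw (inv_mem hzc)

theorem exists_orderOf_four {S : Type u} [Group S] [Finite S] (hS : Nat.card S = 8) (x : S) (hxc : x ∉ center S) :
    ∃ c : S, orderOf c = 4 := by
  classical
  have hdvd : ∀ c : S, orderOf c ∣ 8 := fun c => hS ▸ orderOf_dvd_natCard c
  by_contra hcon
  push Not at hcon
  apply hxc
  have hne8 : ∀ c : S, orderOf c ≠ 8 := by
    intro c hc
    apply hcon (c ^ 2)
    rw [orderOf_pow, hc]; norm_num
  have hsq : ∀ c : S, c * c = 1 := by
    intro c
    have h1 := hdvd c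
    have h2 : orderOf c ∣ 2 := by
      have h3 := hcon c
      have h4 := hne8 c
      have h5 : orderOf c ∣ 2 ^ 3 := h1
      rcases (Nat.dvd_prime_pow Nat.prime_two).1 h5 with ⟨k, hk, hk2⟩
      rw [hk2]
      interval_cases k
      · norm_num
      · norm_num
      · exact absurd hk2 h3
      · exact absurd hk2 h4
    rw [← sq]; exact orderOf_dvd_iff_pow_eq_one.1 h2
  rw [mem_center_iff]
  intro g
  have h1 := hsq (g * x)
  have h2 : g⁻¹ = g := inv_eq_of_mul_eq_one_left (hsq g)
  have h3 : x⁻¹ = x := inv_eq_of_mul_eq_one_left (hsq x)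
  calc g * x = (g * x)⁻¹ := (inv_eq_of_mul_eq_one_left h1).symm
    _ = x⁻¹ * g⁻¹ := mul_inv_rev _ _
    _ = x * g := by rw [h2, h3]

theorem exists_cyclic (n : ℕ) : ∀ (S : Type u) [Group S] [Finite S], Nat.card S = n → IsPGroup 2 S → ∀ x : S, orderOf x = 2 →
    Nat.card (centralizer ({x} : Set S)) = 4 → ∃ c : S, 2 * orderOf c = Nat.card S := by
  classical
  induction n using Nat.strong_induction_on with
  | _ n ih =>
  intro S _ _ hn hS x hx hC
  haveI : Fact (Nat.Prime 2) := ⟨Nat.prime_two⟩
  by_cases hcard : Nat.card S = 4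
  · exact ⟨x, by rw [hx, hcard]⟩
  obtain ⟨z, hzo, hzc, hZ, hxc, hall⟩ := exists_central hS x hx hC hcard
  obtain ⟨hxx, hx1⟩ := H19.Inv.inv_iff.1 hx
  obtain ⟨hzz, hz1⟩ := H19.Inv.inv_iff.1 hzo
  have hcz : ∀ g, g * z = z * g := fun g => mem_center_iff.1 hzc g
  obtain ⟨m, hm⟩ := (IsPGroup.iff_card).1 hS
  have h4dvd : 4 ∣ Nat.card S := by rw [← hC]; exact card_subgroup_dvd_card _
  have hm3 : 3 ≤ m := by
    by_contra h
    have : m ≤ 2 := by omega
    have h8 : Nat.card S ≤ 4 := by rw [hm]; calc 2 ^ m ≤ 2 ^ 2 := Nat.pow_le_pow_right (by norm_num) this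
      _ = 4 := rfl
    have := Nat.le_of_dvd Nat.card_pos h4dvd
    omega
  -- the quotient
  set Z := zpowers z with hZdef
  haveI hZn : Z.Normal := by
    constructor
    intro w hw g
    obtain ⟨k, rfl⟩ := mem_zpowers_iff.1 hw
    have : Commute g (z ^ k) := (show Commute g z from hcz g).zpow_right k
    have e : g * z ^ k * g⁻¹ = z ^ k := by rw [this.eq]; group
    rw [e]; exact hw
  have hZc : Nat.card Z = 2 := by rw [hZdef, Nat.card_zpowers, hzo]
  have hZmem : ∀ w ∈ Z, w = 1 ∨ w = z := by
    intro w hw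
    apply hZ
    have : Z ≤ center S := by rw [hZdef, zpowers_le]; exact hzc
    exact this hw
  have hcardq : 2 * Nat.card (S ⧸ Z) = Nat.card S := by
    have := Subgroup.card_eq_card_quotient_mul_card_subgroup Z
    rw [hZc] at this; omega
  set π := QuotientGroup.mk' Z with hπ
  have hker : ∀ s, π s = 1 ↔ s ∈ Z := by
    intro s
    rw [← MonoidHom.mem_ker, hπ, QuotientGroup.ker_mk']
  have hxZ : x ∉ Z := by
    intro h
    rcases hZmem x h with h | h
    · exact hx1 h
    · exact hxc (h ▸ hzc)
  have hxb : orderOf (π x) = 2 := by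
    apply orderOf_eq_prime
    · rw [← map_pow, sq, hxx, map_one]
    · rw [Ne, hker]; exact hxZ
  -- the centralizer in the quotient
  have hCb : Nat.card (centralizer ({π x} : Set (S ⧸ Z))) = 4 := by
    set T := (centralizer ({π x} : Set (S ⧸ Z))).comap π with hT
    have hTmem : ∀ s, s ∈ T ↔ s * x * s⁻¹ = x ∨ s * x * s⁻¹ = x * z := by
      intro s
      rw [hT, mem_comap, mem_centralizer_singleton_iff]
      have h1 : π s * π x = π x * π s ↔ x⁻¹ * (s * x * s⁻¹) ∈ Z := by
        rw [← hker]
        rw [map_mul, map_mul, map_mul, map_inv, map_inv]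
        constructor
        · intro h; rw [h]; group
        · intro h
          have : π s * π x * (π s)⁻¹ = π x := by
            have h2 := congrArg (π x * ·) h
            simpa using h2
          calc π s * π x = (π s * π x * (π s)⁻¹) * π s := by group
            _ = _ := by rw [this]
      rw [h1]
      constructor
      · intro h
        rcases hZmem _ h with h | h
        · left; exact (inv_mul_eq_one.1 h).symm
        · right; rw [← h]; group
      · rintro (h | h)
        · rw [h]; have : x⁻¹ * x = 1 := by group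
          rw [this]; exact one_mem _
        · rw [h]; have : x⁻¹ * (x * z) = z := by group
          rw [this]; exact mem_zpowers z
    have hCT : centralizer ({x} : Set S) ≤ T := by
      intro s hs
      rw [mem_centralizer_singleton_iff] at hs
      rw [hTmem]; left; rw [hs]; group
    -- some element maps x to xz
    have hex : ∃ s : S, s * x * s⁻¹ = x * z := by
      have hlt : centralizer ({x} : Set S) < ⊤ := by
        rw [lt_top_iff_ne_top]
        intro h
        rw [h, card_top] at hC
        exact hcard hC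
      haveI := hS.isNilpotent
      have h2 := Group.normalizerCondition_of_isNilpotent (G := S) _ hlt
      obtain ⟨s, hs1, hs2⟩ := SetLike.exists_of_lt h2
      refine ⟨s, ?_⟩
      have h3 : s * x * s⁻¹ ∈ centralizer ({x} : Set S) :=
        (mem_normalizer_iff.1 hs1 x).1 (by rw [mem_centralizer_singleton_iff])
      rw [mem_centralizer_singleton_iff] at h3
      rcases hall _ (h3.symm : Commute x (s * x * s⁻¹)) with h | h | h | h
      · exfalso; apply hx1
        calc x = s⁻¹ * (s * x * s⁻¹) * s := by group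
          _ = 1 := by rw [h]; group
      · exfalso; apply hs2
        rw [mem_centralizer_singleton_iff]
        calc s * x = (s * x * s⁻¹) * s := by group
          _ = x * s := by rw [h]
      · exfalso; apply hxc
        have : x = z := by
          calc x = s⁻¹ * (s * x * s⁻¹) * s := by group
            _ = s⁻¹ * z * s := by rw [h]
            _ = z := by rw [hcz s⁻¹]; group
        rw [this]; exact hzc
      · exact h
    obtain ⟨s₀, hs₀⟩ := hex
    have hidx : (centralizer ({x} : Set S)).relIndex T = 2 := by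
      rw [Subgroup.relIndex, Subgroup.index_eq_two_iff]
      refine ⟨⟨s₀, (hTmem s₀).2 (Or.inr hs₀)⟩, ?_⟩
      rintro ⟨b, hb⟩
      have hmem : ∀ (g : S) (hg : g ∈ T), (⟨g, hg⟩ : T) ∈ (centralizer ({x} : Set S)).subgroupOf T ↔ g * x * g⁻¹ = x := by
        intro g hg
        rw [mem_subgroupOf, mem_centralizer_singleton_iff]
        constructor
        · intro h; show g * x * g⁻¹ = x; rw [show g * x = x * g from h]; group
        · intro h
          show g * x = x * g
          calc g * x = (g * x * g⁻¹) * g := by group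
            _ = _ := by rw [h]
      have hxzx : x * z ≠ x := fun h => hz1 (mul_eq_left.1 h)
      rw [show (⟨b, hb⟩ : T) * ⟨s₀, (hTmem s₀).2 (Or.inr hs₀)⟩ = ⟨b * s₀, mul_mem hb ((hTmem s₀).2 (Or.inr hs₀))⟩ from rfl,
        hmem, hmem]
      have e1 : b * s₀ * x * (b * s₀)⁻¹ = (b * x * b⁻¹) * z := by
        calc b * s₀ * x * (b * s₀)⁻¹ = b * (s₀ * x * s₀⁻¹) * b⁻¹ := by group
          _ = b * (x * z) * b⁻¹ := by rw [hs₀]
          _ = b * x * (z * b⁻¹) := by group
          _ = b * x * (b⁻¹ * z) := by rw [hcz]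
          _ = _ := by group
      rcases (hTmem b).1 hb with h | h
      · right
        refine ⟨h, ?_⟩
        rw [e1, h]; exact hxzx
      · left
        refine ⟨?_, ?_⟩
        · rw [e1, h, mul_assoc, hzz, mul_one]
        · rw [h]; exact hxzx
    have hT8 : Nat.card T = 8 := by
      have := H2.Card.card_mul_relIndex hCT
      rw [hidx, hC] at this
      omega
    have h1 : T.index = (centralizer ({π x} : Set (S ⧸ Z))).index :=
      Subgroup.index_comap_of_surjective _ (QuotientGroup.mk'_surjective Z)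
    have h2 := Subgroup.card_mul_index T
    have h3 := Subgroup.card_mul_index (centralizer ({π x} : Set (S ⧸ Z)))
    rw [hT8, h1] at h2
    rw [← hcardq, ← h3] at h2
    have h4 : (centralizer ({π x} : Set (S ⧸ Z))).index ≠ 0 := Subgroup.index_ne_zero_of_finite
    have h5 : 8 * (centralizer ({π x} : Set (S ⧸ Z))).index = (2 * Nat.card (centralizer ({π x} : Set (S ⧸ Z)))) * (centralizer ({π x} : Set (S ⧸ Z))).index := by
      rw [h2, mul_assoc]
    have h6 := Nat.eq_of_mul_eq_mul_right (Nat.pos_of_ne_zero h4) h5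
    omega
  obtain ⟨cb, hcb⟩ := ih (Nat.card (S ⧸ Z)) (by have : 0 < Nat.card (S ⧸ Z) := Nat.card_pos; omega) (S ⧸ Z) rfl (hS.to_quotient Z) (π x) hxb hCb
  obtain ⟨c, rfl⟩ := QuotientGroup.mk'_surjective Z cb
  set o := orderOf (π c) with ho
  have ho0 : 0 < o := orderOf_pos _
  have hco : c ^ o ∈ Z := by
    rw [← hker, map_pow]; exact pow_orderOf_eq_one _
  have hZ2 : ∀ w ∈ Z, w ^ 2 = 1 := by
    intro w hw
    rcases hZmem w hw with h | h
    · rw [h, one_pow]
    · rw [h, sq, hzz]
  by_cases hc1 : c ^ o = 1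
  swap
  · refine ⟨c, ?_⟩
    have h1 : orderOf c = 2 * o := by
      have h2 : o ∣ orderOf c := orderOf_map_dvd π c
      have h3 : orderOf c ∣ o * 2 := orderOf_dvd_of_pow_eq_one (by rw [pow_mul]; exact hZ2 _ hco)
      obtain ⟨k, hk⟩ := h2
      rw [hk] at h3
      have h4 : k ∣ 2 := Nat.dvd_of_mul_dvd_mul_left ho0 h3
      rcases (Nat.dvd_prime Nat.prime_two).1 h4 with h5 | h5
      · exfalso; apply hc1
        rw [h5, mul_one] at hk
        rw [← hk]; exact pow_orderOf_eq_one c
      · rw [hk, h5, mul_comm]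
    rw [h1]
    change 2 * o = Nat.card (S ⧸ Z) at hcb
    rw [hcb, hcardq]
  -- bad case
  have hcb' : 2 * o = Nat.card (S ⧸ Z) := hcb
  have hSo : Nat.card S = 4 * o := by rw [← hcardq, ← hcb']; ring
  have ho2 : o = 2 ^ (m - 2) := by
    have h1 : 4 * o = 2 ^ m := by rw [← hSo, hm]
    have h2 : 2 ^ m = 4 * 2 ^ (m - 2) := by
      have : m = 2 + (m - 2) := by omega
      conv_lhs => rw [this, pow_add]
      norm_num
    omega
  by_cases hm3' : m = 3
  · subst hm3'
    have h8 : Nat.card S = 8 := by rw [hm]; norm_num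
    obtain ⟨d, hd⟩ := exists_orderOf_four h8 x hxc
    exact ⟨d, by rw [hd, h8]⟩
  exfalso
  have hm4 : 4 ≤ m := by omega
  set h := 2 ^ (m - 3) with hh
  have hoh : o = 2 * h := by
    rw [ho2, hh, ← pow_succ']; congr 1; omega
  have hheven : ∃ l, h = 2 * l := ⟨2 ^ (m - 4), by rw [hh, ← pow_succ']; congr 1; omega⟩
  obtain ⟨l, hl⟩ := hheven
  have hh0 : 0 < h := by positivity
  -- c ^ h has order 2
  have hoc : orderOf c = o := by
    apply Nat.dvd_antisymm (orderOf_dvd_of_pow_eq_one hc1) (orderOf_map_dvd π c)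
  have hch1 : c ^ h ≠ 1 := by
    intro h1
    have := orderOf_dvd_of_pow_eq_one h1
    rw [hoc, hoh] at this
    have := Nat.le_of_dvd hh0 this
    omega
  have hch2 : c ^ h * c ^ h = 1 := by
    rw [← pow_add, ← two_mul, ← hoh]; exact hc1
  have hnor : (zpowers (π c)).Normal := by
    apply Subgroup.normal_of_index_eq_two
    have h1 := Subgroup.card_mul_index (zpowers (π c))
    rw [Nat.card_zpowers, ← ho, ← hcb'] at h1
    have h2 : o * (zpowers (π c)).index = o * 2 := by rw [h1]; ring
    exact Nat.eq_of_mul_eq_mul_left ho0 h2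
  have hcent : c ^ h ∈ center S := by
    rw [mem_center_iff]
    intro g
    have h1 : π (g * c * g⁻¹) ∈ zpowers (π c) := by
      rw [map_mul, map_mul, map_inv]
      exact hnor.conj_mem _ (mem_zpowers _) _
    obtain ⟨i, hi⟩ := mem_zpowers_iff.1 h1
    obtain ⟨w, hw, hgw⟩ : ∃ w ∈ Z, g * c * g⁻¹ = c ^ i * w := by
      refine ⟨(c ^ i)⁻¹ * (g * c * g⁻¹), ?_, by group⟩
      rw [← hker, map_mul, map_inv, map_zpow, hi]; group
    have hwc : ∀ s, Commute s w := by
      intro s
      rcases hZmem w hw with h1 | h1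
      · rw [h1]; exact Commute.one_right s
      · rw [h1]; exact hcz s
    have h2 : g * c ^ h * g⁻¹ = (c ^ h) ^ i := by
      rw [← conj_pow, hgw, (hwc (c ^ i)).mul_pow, hl, pow_mul w, hZ2 w hw, one_pow, mul_one]
      rw [← zpow_natCast, ← zpow_natCast, ← zpow_mul, ← zpow_mul, mul_comm]
    have h3 : (c ^ h) ^ i = 1 ∨ (c ^ h) ^ i = c ^ h := by
      rcases Int.even_or_odd i with ⟨j, hj⟩ | ⟨j, hj⟩
      · left
        rw [hj, zpow_add, ← (Commute.refl (c ^ h)).mul_zpow, hch2, one_zpow]
      · right
        rw [hj, zpow_add, zpow_mul, zpow_one, zpow_ofNat, sq, hch2, one_zpow, one_mul]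
    rcases h3 with h3 | h3
    · exfalso
      apply hch1
      rw [h3] at h2
      calc c ^ h = g⁻¹ * (g * c ^ h * g⁻¹) * g := by group
        _ = 1 := by rw [h2]; group
    · rw [h3] at h2
      calc g * c ^ h = (g * c ^ h * g⁻¹) * g := by group
        _ = _ := by rw [h2]
  rcases hZ _ hcent with h1 | h1
  · exact hch1 h1
  · -- c ^ h = z but then π (c ^ h) = 1
    have h2 : π c ^ h = 1 := by
      rw [← map_pow, h1, hker]; exact mem_zpowers z
    have := orderOf_dvd_of_pow_eq_one h2
    rw [← ho, hoh] at this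
    have := Nat.le_of_dvd hh0 this
    omega

end Cfsg.Agent.H19.MaxCl
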