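import Cfsg.Statements.S3224
import Mathlib
import Cfsg.Agent.H19_MaxCl
import Cfsg.Agent.H5_Dih

set_option autoImplicit false
open Cfsg

namespace Cfsg.Agent.S3224


/-- A finite 2-group containing an involution whose centralizer has order 4 is dihedral, quasi-dihedral (semidihedral), or of order 4. -/
theorem result {S : Type*} [Group S] [Finite S] (hS : IsPGroup 2 S)
    (x : S) (hx : orderOf x = 2) (hC : Nat.card ↥(Subgroup.centralizer ({x} : Set S)) = 4) :
    (∃ n : ℕ, Nonempty (S ≃* DihedralGroup n)) ∨ Cfsg.IsQuasiDihedral S ∨ Nat.card S = 4 := by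
  classical
  haveI : Fact (Nat.Prime 2) := ⟨Nat.prime_two⟩
  by_cases hcard : Nat.card S = 4
  · exact Or.inr (Or.inr hcard)
  obtain ⟨z, hzo, hzc, hZ, hxc, hall⟩ := H19.MaxCl.exists_central hS x hx hC hcard
  obtain ⟨c, hc⟩ := H19.MaxCl.exists_cyclic _ S rfl hS x hx hC
  obtain ⟨hxx, hx1⟩ := H19.Inv.inv_iff.1 hx
  obtain ⟨m, hm⟩ := (IsPGroup.iff_card).1 hS
  have h4dvd : 4 ∣ Nat.card S := by rw [← hC]; exact Subgroup.card_subgroup_dvd_card _
  have hm3 : 3 ≤ m := by
    by_contra h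
    have : m ≤ 2 := by omega
    have h8 : Nat.card S ≤ 4 := by rw [hm]; calc 2 ^ m ≤ 2 ^ 2 := Nat.pow_le_pow_right (by norm_num) this
      _ = 4 := rfl
    have := Nat.le_of_dvd Nat.card_pos h4dvd
    omega
  obtain ⟨n, rfl⟩ : ∃ n, m = n + 2 := ⟨m - 2, by omega⟩
  have hn1 : 1 ≤ n := by omega
  have hoc : orderOf c = 2 ^ (n + 1) := by
    rw [hm, pow_succ] at hc
    omega
  -- `zpowers c` has index 2
  have hidx : (Subgroup.zpowers c).index = 2 := by
    have h1 := Subgroup.card_mul_index (Subgroup.zpowers c)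
    rw [Nat.card_zpowers, hoc, hm] at h1
    have h2 : 2 ^ (n + 1) * (Subgroup.zpowers c).index = 2 ^ (n + 1) * 2 := by rw [h1]; ring
    exact Nat.eq_of_mul_eq_mul_left (by positivity) h2
  have hnor : (Subgroup.zpowers c).Normal := Subgroup.normal_of_index_eq_two hidx
  have hz1' : ∀ j : ℤ, c ^ j = 1 ↔ (2 : ℤ) ^ (n + 1) ∣ j := by
    intro j
    rw [← orderOf_dvd_iff_zpow_eq_one, hoc]; push_cast; rfl
  have hinv : ∀ w ∈ Subgroup.zpowers c, w * w = 1 → w ≠ 1 → w = c ^ ((2 : ℤ) ^ n) := by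
    intro w hw hw2 hw1
    obtain ⟨j, rfl⟩ := Subgroup.mem_zpowers_iff.1 hw
    rw [← zpow_add, hz1'] at hw2
    obtain ⟨l, hl⟩ := hw2
    have hj : j = 2 ^ n * l := by
      have : (2 : ℤ) * j = 2 * (2 ^ n * l) := by rw [two_mul, hl, pow_succ]; ring
      linarith
    rcases Int.even_or_odd l with ⟨q, hq⟩ | ⟨q, hq⟩
    · exfalso
      apply hw1
      rw [hz1']
      exact ⟨q, by rw [hj, hq, pow_succ]; ring⟩
    · have : c ^ (j - 2 ^ n) = 1 := by
        rw [hz1']
        exact ⟨q, by rw [hj, hq, pow_succ]; ring⟩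
      rw [zpow_sub, mul_inv_eq_one] at this
      exact this
  -- x is not a power of c
  have hxnc : x ∉ Subgroup.zpowers c := by
    intro h
    apply hxc
    rw [Subgroup.mem_center_iff]
    intro g
    have h1 : g * x * g⁻¹ ∈ Subgroup.zpowers c := hnor.conj_mem x h g
    have h2 := hinv x h hxx hx1
    have h3 := hinv _ h1 (by
      calc g * x * g⁻¹ * (g * x * g⁻¹) = g * (x * x) * g⁻¹ := by group
        _ = 1 := by rw [hxx]; group) (by
      intro h4
      apply hx1
      calc x = g⁻¹ * (g * x * g⁻¹) * g := by group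
        _ = 1 := by rw [h4]; group)
    calc g * x = (g * x * g⁻¹) * g := by group
      _ = x * g := by rw [h3, ← h2]
  -- the action
  have h1 : x * c * x⁻¹ ∈ Subgroup.zpowers c := hnor.conj_mem c (Subgroup.mem_zpowers c) x
  obtain ⟨k, hk⟩ := Subgroup.mem_zpowers_iff.1 h1
  have hk' : x * c * x⁻¹ = c ^ k := hk.symm
  have hxinv : x⁻¹ = x := inv_eq_of_mul_eq_one_left hxx
  have hconj : ∀ i : ℤ, x * c ^ i * x⁻¹ = c ^ (k * i) := by
    intro i
    rw [← conj_zpow, hk', zpow_mul]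
  obtain ⟨hzz, hz1⟩ := H19.Inv.inv_iff.1 hzo
  -- centralizer in ⟨c⟩
  have hcent : ∀ i : ℤ, c ^ (k * i) = c ^ i → c ^ (2 * i) = 1 := by
    intro i hi
    have h2 : Commute x (c ^ i) := by
      have h3 := hconj i
      rw [hi] at h3
      show x * c ^ i = c ^ i * x
      calc x * c ^ i = (x * c ^ i * x⁻¹) * x := by group
        _ = _ := by rw [h3]
    have h4 : c ^ (2 * i) = c ^ i * c ^ i := by rw [two_mul, zpow_add]
    rw [h4]
    rcases hall _ h2 with h | h | h | h
    · rw [h, one_mul]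
    · rw [h, hxx]
    · rw [h, hzz]
    · rw [h]
      have h5 : x * z = z * x := Subgroup.mem_center_iff.1 hzc x
      calc x * z * (x * z) = x * (z * x) * z := by group
        _ = (x * x) * (z * z) := by rw [← h5]; group
        _ = 1 := by rw [hxx, hzz, one_mul]
  have hk2 : c ^ (k * k) = c := by
    have h2 := hconj k
    rw [← hk', hxinv] at h2
    rw [← h2]
    calc x * (x * c * x) * x = (x * x) * c * (x * x) := by group
      _ = c := by rw [hxx]; group
  have hk3 : (2 : ℤ) ^ (n + 1) ∣ k * k - 1 := by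
    rw [← hz1', zpow_sub, hk2, zpow_one, mul_inv_cancel]
  have hodd : ¬ (2 : ℤ) ∣ k := by
    intro h
    have h2 : (2 : ℤ) ∣ k * k - 1 := dvd_trans (dvd_pow_self 2 (by omega)) hk3
    have h3 : (2 : ℤ) ∣ k * k := Dvd.dvd.mul_right h k
    omega
  have h4 : ¬ (4 : ℤ) ∣ k - 1 := by
    rintro ⟨q, hq⟩
    have h5 := hcent (2 ^ (n - 1)) (by
      rw [← mul_inv_eq_one, ← zpow_neg, ← zpow_add, hz1']
      refine ⟨q, ?_⟩
      have e : (2 : ℤ) ^ (n + 1) = 2 ^ (n - 1) * 4 := by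
        have : n + 1 = (n - 1) + 2 := by omega
        rw [this, pow_add]; norm_num
      rw [e]
      have : k = 4 * q + 1 := by linarith
      rw [this]; ring)
    rw [hz1', ← pow_succ'] at h5
    have : n - 1 + 1 = n := by omega
    rw [this] at h5
    have h6 := Int.le_of_dvd (by positivity) h5
    have h7 : (2 : ℤ) ^ n < 2 ^ (n + 1) := pow_lt_pow_right₀ (by norm_num) (by omega)
    omega
  have h5 : (2 : ℤ) ^ n ∣ k + 1 := by
    obtain ⟨q, hq⟩ : ∃ q : ℤ, k - 1 = 2 * q := ⟨(k - 1) / 2, by omega⟩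
    have hq2 : ¬ (2 : ℤ) ∣ q := by
      rintro ⟨r, hr⟩
      apply h4
      exact ⟨r, by rw [hq, hr]; ring⟩
    have h6 : (2 : ℤ) * 2 ^ n ∣ 2 * (q * (k + 1)) := by
      have e1 : (2 : ℤ) * 2 ^ n = 2 ^ (n + 1) := by rw [pow_succ']
      have e2 : 2 * (q * (k + 1)) = k * k - 1 := by
        have : k * k - 1 = (k - 1) * (k + 1) := by ring
        rw [this, hq]; ring
      rw [e1, e2]; exact hk3
    have h7 : (2 : ℤ) ^ n ∣ q * (k + 1) := Int.dvd_of_mul_dvd_mul_left (by norm_num) h6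
    have h8 : IsCoprime ((2 : ℤ) ^ n) q := by
      apply IsCoprime.pow_left
      exact (Nat.prime_iff_prime_int.1 Nat.prime_two).coprime_iff_not_dvd.2 hq2
    exact h8.dvd_of_dvd_mul_left h7
  obtain ⟨j, hj⟩ := h5
  rcases Int.even_or_odd j with ⟨q, hq⟩ | ⟨q, hq⟩
  · -- dihedral
    left
    have h6 : x * c * x⁻¹ = c⁻¹ := by
      rw [hk', eq_inv_iff_mul_eq_one, ← zpow_add_one, hz1']
      exact ⟨q, by rw [hj, hq, pow_succ]; ring⟩
    refine ⟨2 ^ (n + 1), H5.Dih.nonempty_dihedral (by positivity) c x hoc hxx h6 hxnc ?_⟩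
    rw [hm, ← pow_succ']
  · right; left
    have h6 : x * c * x⁻¹ = c ^ ((2 : ℤ) ^ n - 1) := by
      rw [hk']
      rw [← mul_inv_eq_one, ← zpow_neg, ← zpow_add, hz1']
      refine ⟨q, ?_⟩
      have : k = 2 ^ n * j - 1 := by linarith
      rw [this, hq, pow_succ]; ring
    have hn2 : 2 ≤ n := by
      by_contra h
      have : n = 1 := by omega
      subst this
      apply h4
      have : k = 2 ^ 1 * j - 1 := by linarith
      rw [this, hq]
      exact ⟨q, by ring⟩
    refine ⟨n + 1, by omega, hm, c, x, hoc, hx, ?_⟩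
    rw [h6]
    have e : ((2 : ℤ) ^ n - 1) = ((2 ^ (n + 1 - 1) - 1 : ℕ) : ℤ) := by
      rw [Nat.cast_sub Nat.one_le_two_pow]
      simp
    rw [e, zpow_natCast]

end Cfsg.Agent.S3224
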