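import Mathlib
import Cfsg.Agent.H18_Syl3
import Cfsg.Agent.S3224
import Cfsg.Agent.S0042

/-!
Transitive groups of fixity 2: the Sylow 2-subgroup.
-/

set_option autoImplicit false
set_option linter.all false

open MulAction Subgroup
open scoped Pointwise

namespace Cfsg.Agent.H18.FX

/-- a transfer argument for index 2 -/
theorem index_two {G : Type*} [Group G] [Finite G] (S : Sylow 2 G) (A : Subgroup G)
    (hidx : (A.subgroupOf (S : Subgroup G)).index = 2)
    (hfus : ∀ x ∈ (S : Subgroup G), ∀ g : G, g⁻¹ * x * g ∈ (S : Subgroup G) → (x ∈ A ↔ g⁻¹ * x * g ∈ A)) :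
    ∃ V : G →* ℤˣ, ∀ s ∈ (S : Subgroup G), V s = 1 ↔ s ∈ A := by
  classical
  set Sg : Subgroup G := (S : Subgroup G) with hSg
  have hmul : ∀ a b : Sg, (a * b ∈ A.subgroupOf Sg) ↔ (a ∈ A.subgroupOf Sg ↔ b ∈ A.subgroupOf Sg) :=
    fun a b => Subgroup.mul_mem_iff_of_index_two hidx
  let ϕ : Sg →* ℤˣ :=
    { toFun := fun s => if s ∈ A.subgroupOf Sg then 1 else -1
      map_one' := by rw [if_pos (one_mem _)]
      map_mul' := by
        intro a b
        have h := hmul a b
        by_cases ha : a ∈ A.subgroupOf Sg <;> by_cases hb : b ∈ A.subgroupOf Sg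
        · rw [if_pos (h.2 (iff_of_true ha hb)), if_pos ha, if_pos hb, mul_one]
        · rw [if_neg (fun h2 => hb ((h.1 h2).1 ha)), if_pos ha, if_neg hb, one_mul]
        · rw [if_neg (fun h2 => ha ((h.1 h2).2 hb)), if_neg ha, if_pos hb, mul_one]
        · rw [if_pos (h.2 (iff_of_false ha hb)), if_neg ha, if_neg hb]; rfl }
  have hϕ1 : ∀ s : Sg, ϕ s = 1 ↔ (s : G) ∈ A := by
    intro s
    change (if s ∈ A.subgroupOf Sg then (1 : ℤˣ) else -1) = 1 ↔ _
    by_cases h : s ∈ A.subgroupOf Sg
    · rw [if_pos h]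
      exact iff_of_true rfl h
    · rw [if_neg h]
      exact iff_of_false (by decide) h
  have hϕeq : ∀ s t : Sg, ((s : G) ∈ A ↔ (t : G) ∈ A) → ϕ s = ϕ t := by
    intro s t h
    change (if s ∈ A.subgroupOf Sg then (1 : ℤˣ) else -1) = (if t ∈ A.subgroupOf Sg then (1 : ℤˣ) else -1)
    by_cases h2 : s ∈ A.subgroupOf Sg
    · rw [if_pos h2, if_pos (show t ∈ A.subgroupOf Sg from h.1 h2)]
    · rw [if_neg h2, if_neg (show t ∉ A.subgroupOf Sg from fun h3 => h2 (h.2 h3))]
  refine ⟨MonoidHom.transfer ϕ, fun s hs => ?_⟩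
  have hodd : Odd Sg.index := by
    have h1 : ¬ 2 ∣ Sg.index := S.not_dvd_index
    exact Nat.not_even_iff_odd.1 (fun h => h1 h.two_dvd)
  have hval : MonoidHom.transfer ϕ s = ϕ ⟨s, hs⟩ ^ Sg.index := by
    haveI : Fintype (Quotient (orbitRel (zpowers s) (G ⧸ Sg))) := Fintype.ofFinite _
    haveI : Fintype (G ⧸ Sg) := Fintype.ofFinite _
    rw [MonoidHom.transfer_eq_prod_quotient_orbitRel_zpowers_quot ϕ s]
    have e1 : Sg.index = ∑ q : Quotient (orbitRel (zpowers s) (G ⧸ Sg)), Function.minimalPeriod (s • ·) q.out :=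
      Subgroup.index_eq_sum_minimalPeriod Sg s
    rw [e1, ← Finset.prod_pow_eq_pow_sum]
    apply Finset.prod_congr rfl
    intro q _
    rw [← map_pow]
    apply hϕeq
    have hm := QuotientGroup.out_conj_pow_minimalPeriod_mem Sg s q.out
    exact (hfus _ (Sg.pow_mem hs _) _ hm).symm
  rw [hval]
  have hsq : ∀ u : ℤˣ, u ^ Sg.index = u := by
    intro u
    obtain ⟨c, hc⟩ := hodd
    rw [hc, pow_succ, pow_mul, Int.units_sq, one_pow, one_mul]
  rw [hsq]
  exact hϕ1 ⟨s, hs⟩

variable {G : Type*} [Group G] [Finite G] {Ω : Type*} [Finite Ω] [MulAction G Ω]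

theorem three_fixed (hfix : ∀ g : G, g ≠ 1 → Nat.card (fixedBy Ω g) ≤ 2) {g : G} (hg : g ≠ 1) {a b c : Ω}
    (ha : g • a = a) (hb : g • b = b) (hc : g • c = c) (hab : a ≠ b) (hac : a ≠ c) (hbc : b ≠ c) : False := by
  have h1 := hfix g hg
  have h2 : 2 < (fixedBy Ω g).ncard := by
    rw [Set.two_lt_ncard_iff (Set.toFinite _)]
    exact ⟨a, b, c, ha, hb, hc, hab, hac, hbc⟩
  have h3 : (fixedBy Ω g).ncard = Nat.card (fixedBy Ω g) := rfl
  omega

theorem klein_dih {S : Type*} [Group S] [Finite S] (h4 : Nat.card S = 4) {a b : S} (ha : orderOf a = 2)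
    (hb : orderOf b = 2) (hab : a ≠ b) : ∃ n : ℕ, Nonempty (S ≃* DihedralGroup n) := by
  have hnc : ¬ IsCyclic S := by
    intro h
    have h1 : ∀ x : S, orderOf x = 2 → ∀ y : S, orderOf y = 2 → x = y := by
      intro x hx y hy
      haveI := Fintype.ofFinite S
      classical
      have h3 : (Finset.univ.filter (fun z : S => orderOf z = 2)).card = 1 := by
        have h2 := IsCyclic.card_orderOf_eq_totient (α := S) (d := 2) (by rw [← Nat.card_eq_fintype_card, h4]; norm_num)
        rw [Nat.totient_two] at h2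
        convert h2 using 1
      rw [Finset.card_eq_one] at h3
      obtain ⟨z, hz⟩ := h3
      have hx' : x ∈ (Finset.univ.filter (fun z : S => orderOf z = 2)) := by simp [hx]
      have hy' : y ∈ (Finset.univ.filter (fun z : S => orderOf z = 2)) := by simp [hy]
      rw [hz, Finset.mem_singleton] at hx' hy'
      rw [hx', hy']
    exact hab (h1 a ha b hb)
  haveI : IsKleinFour S :=
    { card_four := h4
      exponent_two := by
        have h1 : ∀ x : S, x ^ 2 = 1 := by
          intro x
          have h2 : orderOf x ∣ 4 := by rw [← h4]; exact orderOf_dvd_natCard x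
          have h3 : orderOf x ≠ 4 := by
            intro h5
            exact hnc (isCyclic_of_orderOf_eq_card x (by rw [h5, h4]))
          have h4' : orderOf x ≤ 4 := Nat.le_of_dvd (by norm_num) h2
          have h6 : orderOf x ∣ 2 := by
            have : orderOf x ≠ 0 := (orderOf_pos x).ne'
            have : orderOf x ≠ 3 := by
              intro h; rw [h] at h2; norm_num at h2
            have : orderOf x = 1 ∨ orderOf x = 2 := by omega
            rcases this with h | h <;> rw [h] <;> norm_num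
          exact orderOf_dvd_iff_pow_eq_one.1 h6
        apply Nat.dvd_antisymm
        · exact Monoid.exponent_dvd_of_forall_pow_eq_one h1
        · rw [← ha]; exact Monoid.order_dvd_exponent a }
  exact ⟨2, IsKleinFour.nonempty_mulEquiv⟩

end Cfsg.Agent.H18.FX
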