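import Mathlib
import Cfsg.Agent.H18_FX1

/-!
Transitive groups of fixity 2, II.
-/

set_option autoImplicit false
set_option linter.all false

open MulAction Subgroup
open scoped Pointwise

namespace Cfsg.Agent.H18.FX

variable {G : Type*} [Group G] [Finite G] {Ω : Type*} [Finite Ω] [MulAction G Ω]

theorem card_four_set {X : Type*} {a b c d : X} (h1 : a ≠ b) (h2 : a ≠ c) (h3 : a ≠ d) (h4 : b ≠ c) (h5 : b ≠ d)
    (h6 : c ≠ d) : ({a, b, c, d} : Set X).ncard = 4 := by
  classical
  rw [Set.ncard_insert_of_notMem, Set.ncard_insert_of_notMem, Set.ncard_pair h6]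
  · rintro (h | h)
    · exact h4 h
    · exact h5 h
  · rintro (h | h | h)
    · exact h1 h
    · exact h2 h
    · exact h3 h

/-- common data -/
structure Data (S : Sylow 2 G) (α β : Ω) (s : G) : Prop where
  fix3 : ∀ g : G, g ≠ 1 → ∀ a b c : Ω, g • a = a → g • b = b → g • c = c → a ≠ b → a ≠ c → b ≠ c → False
  sS : s ∈ (S : Subgroup G)
  sα : s • α = β
  hne : β ≠ α
  Aβ : ∀ a ∈ (S : Subgroup G), a • α = α → a • β = β
  Sβ : ∀ a ∈ (S : Subgroup G), a • β = β → a • α = α
  ex : ∃ a ∈ (S : Subgroup G), a • α = α ∧ a ≠ 1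

theorem Data.fixA {S : Sylow 2 G} {α β : Ω} {s : G} (D : Data S α β s) {a : G} (ha : a ∈ (S : Subgroup G))
    (haα : a • α = α) (ha1 : a ≠ 1) {γ : Ω} (hγ : a • γ = γ) : γ = α ∨ γ = β := by
  by_contra hcon
  push Not at hcon
  exact D.fix3 a ha1 α β γ haα (D.Aβ a ha haα) hγ D.hne.symm hcon.1.symm hcon.2.symm

/-- the last case: a Frobenius group of index 2 -/
theorem frob [FaithfulSMul G Ω] (htr : IsPretransitive G Ω) {S : Sylow 2 G} {α β : Ω} {s : G} (D : Data S α β s)
    (hT : ∀ g ∈ (S : Subgroup G), g • α = α ∨ g • α = β)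
    (hreg : ∀ ω : Ω, ω ≠ α → ω ≠ β → ∀ t ∈ (S : Subgroup G), t • ω = ω → t = 1) :
    ∃ N : Subgroup G, N.Normal ∧ N.index = 2 ∧ ∃ H : Subgroup N, Cfsg.IsFrobeniusComplement H := by
  classical
  set Sg : Subgroup G := (S : Subgroup G) with hSg
  set A : Subgroup G := Sg ⊓ stabilizer G α with hA
  have memA : ∀ g, g ∈ A ↔ g ∈ Sg ∧ g • α = α := fun g => by
    rw [hA, Subgroup.mem_inf, mem_stabilizer_iff]
  have hsA : s ∉ A := fun h => D.hne (D.sα.symm.trans ((memA s).1 h).2)
  -- index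
  have hidx : (A.subgroupOf Sg).index = 2 := by
    rw [Subgroup.index_eq_two_iff']
    refine ⟨⟨s⁻¹, Sg.inv_mem D.sS⟩, fun b => ?_⟩
    rw [Subgroup.mem_subgroupOf, Subgroup.mem_subgroupOf]
    change Xor' (s⁻¹ * (b : G) ∈ A) ((b : G) ∈ A)
    by_cases hb : (b : G) ∈ A
    · right
      refine ⟨hb, fun h => hsA ?_⟩
      have h1 := A.mul_mem hb (A.inv_mem h)
      have h2 : (b : G) * (s⁻¹ * b)⁻¹ = s := by group
      rwa [h2] at h1
    · left
      refine ⟨?_, hb⟩
      rw [memA]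
      refine ⟨Sg.mul_mem (Sg.inv_mem D.sS) b.2, ?_⟩
      have h1 : (b : G) • α = β := by
        rcases hT b b.2 with h | h
        · exact (hb ((memA _).2 ⟨b.2, h⟩)).elim
        · exact h
      rw [mul_smul, h1, ← D.sα, inv_smul_smul]
  -- fixed points
  have hfixpt : ∀ x ∈ Sg, ∀ γ : Ω, x • γ = γ → x ∈ A := by
    intro x hx γ hγ
    by_cases h1 : γ = α
    · rw [h1] at hγ; exact (memA x).2 ⟨hx, hγ⟩
    · by_cases h2 : γ = β
      · rw [h2] at hγ; exact (memA x).2 ⟨hx, D.Sβ x hx hγ⟩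
      · rw [hreg γ h1 h2 x hx hγ]; exact A.one_mem
  obtain ⟨V, hV⟩ := index_two S A hidx (by
    intro x hx g hg
    constructor
    · intro h
      apply hfixpt _ hg (g⁻¹ • α)
      rw [mul_smul, mul_smul, smul_inv_smul, ((memA x).1 h).2]
    · intro h
      apply hfixpt _ hx (g • α)
      have h1 := ((memA _).1 h).2
      rw [mul_smul, mul_smul, inv_smul_eq_iff] at h1
      exact h1)
  have hVs : V s ≠ 1 := fun h => hsA ((hV s D.sS).1 h)
  have hVs' : V s = -1 := by
    rcases Int.units_eq_one_or (V s) with h | h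
    · exact (hVs h).elim
    · exact h
  -- two-subgroups fixing a point
  have h2grp : ∀ Q : Subgroup G, IsPGroup 2 Q → (∀ q ∈ Q, q • α = α) → ∃ h : G, ∀ q ∈ Q, h⁻¹ * q * h ∈ A := by
    intro Q hQ hQα
    obtain ⟨P, hP⟩ := hQ.exists_le_sylow
    obtain ⟨h, hh⟩ := MulAction.exists_smul_eq G S P
    refine ⟨h, fun q hq => ?_⟩
    have h1 : q ∈ (P : Subgroup G) := hP hq
    rw [← hh, Sylow.coe_subgroup_smul, Subgroup.mem_pointwise_smul_iff_inv_smul_mem] at h1
    have h2 : h⁻¹ * q * h ∈ Sg := by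
      have e1 : (MulAut.conj h)⁻¹ • q = h⁻¹ * q * h := by
        rw [← map_inv]
        change h⁻¹ * q * h⁻¹⁻¹ = _
        rw [inv_inv]
      rwa [e1] at h1
    apply hfixpt _ h2 (h⁻¹ • α)
    rw [mul_smul, mul_smul, smul_inv_smul, hQα q hq]
  have hVstab : ∀ g : G, g • α = α → V g = 1 := by
    intro g hg
    obtain ⟨e, k, hk, hek⟩ := Nat.exists_eq_two_pow_mul_odd (orderOf_pos g).ne'
    have h1 : orderOf (g ^ k) = 2 ^ e := by
      rw [orderOf_pow, hek, Nat.gcd_eq_right (Dvd.intro_left _ rfl)]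
      exact Nat.mul_div_cancel _ hk.pos
    have h2 : IsPGroup 2 (Subgroup.zpowers (g ^ k)) := IsPGroup.of_card (n := e) (by rw [Nat.card_zpowers, h1])
    have hst : ∀ q ∈ Subgroup.zpowers (g ^ k), q • α = α := by
      intro q hq
      have h3 : Subgroup.zpowers (g ^ k) ≤ stabilizer G α := by
        rw [Subgroup.zpowers_le]
        exact (stabilizer G α).pow_mem hg k
      exact h3 hq
    obtain ⟨h, hh⟩ := h2grp _ h2 hst
    have h3 := hh _ (Subgroup.mem_zpowers _)
    have h4 := (hV _ ((memA _).1 h3).1).2 h3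
    rw [map_mul, map_mul, map_inv, mul_comm (V h)⁻¹, mul_assoc, inv_mul_cancel, mul_one, map_pow] at h4
    obtain ⟨c, hc⟩ := hk
    rw [hc, pow_succ, pow_mul, Int.units_sq, one_pow, one_mul] at h4
    exact h4
  have hVuniq : ∀ k1 k2 : G, k1 • α = k2 • α → V k1 = V k2 := by
    intro k1 k2 h
    have h1 := hVstab (k2⁻¹ * k1) (by rw [mul_smul, h, inv_smul_smul])
    rw [map_mul, map_inv] at h1
    exact (inv_mul_eq_one.1 h1).symm
  obtain ⟨a0, ha0S, ha0α, ha01⟩ := D.ex
  have ha0A : a0 ∈ A := (memA a0).2 ⟨ha0S, ha0α⟩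
  refine ⟨V.ker, MonoidHom.normal_ker _, ?_, (stabilizer G α).subgroupOf V.ker, ?_, ?_, ?_⟩
  · rw [Subgroup.index_ker]
    have : V.range = ⊤ := by
      rw [eq_top_iff]
      intro u _
      rcases Int.units_eq_one_or u with h | h
      · rw [h]; exact one_mem _
      · rw [h]; exact ⟨s, hVs'⟩
    rw [this, Subgroup.card_top, Nat.card_eq_fintype_card]
    rfl
  · intro h
    have h1 : (⟨a0, hVstab a0 ha0α⟩ : V.ker) ∈ (stabilizer G α).subgroupOf V.ker := ha0α
    rw [h, Subgroup.mem_bot] at h1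
    exact ha01 (congrArg Subtype.val h1)
  · intro h
    apply ha01
    apply FaithfulSMul.eq_of_smul_eq_smul (α := Ω)
    intro γ
    obtain ⟨g, rfl⟩ := htr.exists_smul_eq α γ
    rw [one_smul]
    have h1 : g⁻¹ * a0 * g ∈ V.ker := by
      rw [MonoidHom.mem_ker, map_mul, map_mul, map_inv, mul_comm (V g)⁻¹, mul_assoc, inv_mul_cancel, mul_one]
      exact hVstab a0 ha0α
    have h2 : (⟨g⁻¹ * a0 * g, h1⟩ : V.ker) ∈ (stabilizer G α).subgroupOf V.ker := by rw [h]; trivial
    have h3 : (g⁻¹ * a0 * g) • α = α := h2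
    rw [mul_smul, mul_smul, inv_smul_eq_iff] at h3
    exact h3
  · rintro ⟨g, hgV⟩ hgH
    rw [eq_bot_iff]
    rintro ⟨y, hyV⟩ hy
    rw [Subgroup.mem_inf] at hy
    obtain ⟨hy1, hy2⟩ := hy
    have hyα : y • α = α := hy1
    rw [Subgroup.mem_pointwise_smul_iff_inv_smul_mem] at hy2
    have hyg : y • g • α = g • α := by
      have h1 : ((MulAut.conj (⟨g, hgV⟩ : V.ker))⁻¹ • (⟨y, hyV⟩ : V.ker) : V.ker).1 • α = α := hy2
      have e1 : ((MulAut.conj (⟨g, hgV⟩ : V.ker))⁻¹ • (⟨y, hyV⟩ : V.ker) : V.ker).1 = g⁻¹ * y * g := by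
        rw [← map_inv]
        change g⁻¹ * y * g⁻¹⁻¹ = _
        rw [inv_inv]
      rw [e1, mul_smul, mul_smul, inv_smul_eq_iff] at h1
      exact h1
    have hgα : g • α ≠ α := hgH
    rw [Subgroup.mem_bot]
    by_contra hy1'
    have hyne : y ≠ 1 := fun h => hy1' (Subtype.ext h)
    set γ := g • α with hγ
    -- the stabilizer as a group
    let K : Subgroup G := stabilizer G α
    let Y : Subgroup K := (stabilizer G γ).subgroupOf K
    have hVg : V g = 1 := hgV
    have hγβ : γ ≠ β := by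
      intro h
      have h1 := hVuniq g s (by rw [D.sα]; exact h)
      rw [hVg] at h1
      exact hVs h1.symm
    have hY : Cfsg.IsFrobeniusComplement Y := by
      refine ⟨?_, ?_, ?_⟩
      · intro h
        have h1 : (⟨y, hyα⟩ : K) ∈ Y := hyg
        rw [h, Subgroup.mem_bot] at h1
        exact hyne (congrArg Subtype.val h1)
      · intro h
        have h1 : (⟨a0, ha0α⟩ : K) ∈ Y := by rw [h]; trivial
        have h2 : a0 • γ = γ := h1
        rcases D.fixA ha0S ha0α ha01 h2 with h3 | h3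
        · exact hgα h3
        · exact hγβ h3
      · rintro ⟨k, hk⟩ hkY
        rw [eq_bot_iff]
        rintro ⟨z, hz⟩ hz'
        rw [Subgroup.mem_inf, Subgroup.mem_pointwise_smul_iff_inv_smul_mem] at hz'
        have hzγ : z • γ = γ := hz'.1
        have hzk : z • k • γ = k • γ := by
          have h1 : ((MulAut.conj (⟨k, hk⟩ : K))⁻¹ • (⟨z, hz⟩ : K) : K).1 • γ = γ := hz'.2
          have e1 : ((MulAut.conj (⟨k, hk⟩ : K))⁻¹ • (⟨z, hz⟩ : K) : K).1 = k⁻¹ * z * k := by
            rw [← map_inv]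
            change k⁻¹ * z * k⁻¹⁻¹ = _
            rw [inv_inv]
          rw [e1, mul_smul, mul_smul, inv_smul_eq_iff] at h1
          exact h1
        rw [Subgroup.mem_bot]
        by_contra hz1
        have hzne : z ≠ 1 := fun h => hz1 (Subtype.ext h)
        have hkα : k • α = α := hk
        have hkγ : k • γ ≠ γ := hkY
        refine D.fix3 z hzne α γ (k • γ) hz hzγ hzk hgα.symm ?_ hkγ.symm
        intro h
        rw [← hkα] at h
        exact hgα (MulAction.injective k h).symm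
    obtain ⟨L, hL, hLn, hLnil⟩ := S0042.result Y hY
    have ha0L : (⟨a0, ha0α⟩ : K) ∈ L := by
      have : (⟨a0, ha0α⟩ : K) ∈ (L : Set K) := by
        rw [hL]
        right
        rintro ⟨k, hk⟩ h1
        rw [Subgroup.mem_pointwise_smul_iff_inv_smul_mem] at h1
        have h2 : ((MulAut.conj (⟨k, hk⟩ : K))⁻¹ • (⟨a0, ha0α⟩ : K) : K).1 • γ = γ := h1
        have e1 : ((MulAut.conj (⟨k, hk⟩ : K))⁻¹ • (⟨a0, ha0α⟩ : K) : K).1 = k⁻¹ * a0 * k := by
          rw [← map_inv]
          change k⁻¹ * a0 * k⁻¹⁻¹ = _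
          rw [inv_inv]
        rw [e1, mul_smul, mul_smul, inv_smul_eq_iff] at h2
        have hkα : k • α = α := hk
        rcases D.fixA ha0S ha0α ha01 h2 with h3 | h3
        · rw [← hkα] at h3
          exact hgα (MulAction.injective k h3)
        · have h4 := hVuniq (k * g) s (by rw [mul_smul, D.sα]; exact h3)
          rw [map_mul, hVg, hVstab k hkα, one_mul] at h4
          exact hVs h4.symm
      exact this
    -- the Sylow 2-subgroup of `L`
    haveI : Fact (Nat.Prime 2) := ⟨Nat.prime_two⟩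
    obtain ⟨P⟩ : Nonempty (Sylow 2 L) := inferInstance
    have hPn : (P : Subgroup L).Normal := Sylow.normal_of_normalizerCondition Group.normalizerCondition_of_isNilpotent P
    haveI hPc : (P : Subgroup L).Characteristic := P.characteristic_of_normal hPn
    haveI := hLn
    have hPK : ((P : Subgroup L).map L.subtype).Normal := ConjAct.normal_of_characteristic_of_normal
    set Q : Subgroup G := ((P : Subgroup L).map L.subtype).map K.subtype with hQ
    have hQα : ∀ q ∈ Q, q • α = α := by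
      rintro _ ⟨⟨q, hq⟩, _, rfl⟩
      exact hq
    have hQp : IsPGroup 2 Q := (P.isPGroup'.map L.subtype).map K.subtype
    have hQ1 : ∃ q ∈ Q, q ≠ 1 := by
      have h1 : (P : Subgroup L) ≠ ⊥ := by
        intro h
        have h2 : (2 : ℕ) ∣ Nat.card L := by
          have h3 : IsPGroup 2 (Subgroup.zpowers (⟨⟨a0, ha0α⟩, ha0L⟩ : L)) := by
            have h4 : ∃ e, orderOf a0 = 2 ^ e := by
              obtain ⟨e, he⟩ := IsPGroup.iff_orderOf.1 S.isPGroup' ⟨a0, ha0S⟩
              exact ⟨e, by rw [← he, Subgroup.orderOf_mk]⟩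
            obtain ⟨e, he⟩ := h4
            apply IsPGroup.of_card (n := e)
            rw [Nat.card_zpowers, ← Subgroup.orderOf_coe, ← Subgroup.orderOf_coe]
            exact he
          have h5 : orderOf (⟨⟨a0, ha0α⟩, ha0L⟩ : L) ≠ 1 := by
            rw [Ne, orderOf_eq_one_iff]
            intro h6
            exact ha01 (congrArg (fun z : L => z.1.1) h6)
          obtain ⟨e, he⟩ := IsPGroup.iff_card.1 h3
          rw [Nat.card_zpowers] at he
          have he0 : e ≠ 0 := by
            rintro rfl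
            exact h5 (by rw [he, pow_zero])
          exact (dvd_pow_self 2 he0).trans (he ▸ orderOf_dvd_natCard _)
        have h3 := P.dvd_card_of_dvd_card h2
        have h4 : Nat.card (P : Subgroup L) = 1 := by rw [h]; exact Subgroup.card_bot
        rw [show Nat.card P = Nat.card (P : Subgroup L) from rfl, h4] at h3
        norm_num at h3
      obtain ⟨⟨⟨⟨q, hqK⟩, hqL⟩, hqP⟩, hq1⟩ := Subgroup.ne_bot_iff_exists_ne_one.1 h1
      refine ⟨q, ⟨⟨q, hqK⟩, ⟨⟨⟨q, hqK⟩, hqL⟩, hqP, rfl⟩, rfl⟩, ?_⟩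
      intro h
      apply hq1
      apply Subtype.ext
      apply Subtype.ext
      apply Subtype.ext
      exact h
    obtain ⟨q0, hq0, hq01⟩ := hQ1
    obtain ⟨h, hh⟩ := h2grp Q hQp hQα
    -- fixed points of elements of `Q`
    have hQfix : ∀ q ∈ Q, q • h • α = h • α ∧ q • h • β = h • β := by
      intro q hq
      have h1 := (memA _).1 (hh q hq)
      have h2 := h1.2
      have h3 := D.Aβ _ h1.1 h1.2
      rw [mul_smul, mul_smul, inv_smul_eq_iff] at h2 h3
      exact ⟨h2, h3⟩
    have hQonly : ∀ q ∈ Q, q ≠ 1 → ∀ δ : Ω, q • δ = δ → δ = h • α ∨ δ = h • β := by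
      intro q hq hq1 δ hδ
      by_contra hcon
      push Not at hcon
      refine D.fix3 q hq1 (h • α) (h • β) δ (hQfix q hq).1 (hQfix q hq).2 hδ ?_ hcon.1.symm hcon.2.symm
      intro h1
      exact D.hne (MulAction.injective h h1).symm
    obtain ⟨β', hβ'1, hβ'2, hβ'3⟩ : ∃ β', (∀ q ∈ Q, q • β' = β') ∧ β' ≠ α ∧ β' ≠ γ := by
      rcases hQonly q0 hq0 hq01 α (hQα q0 hq0) with h1 | h1
      · refine ⟨h • β, fun q hq => (hQfix q hq).2, ?_, ?_⟩
        · intro h2
          rw [h1] at h2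
          exact D.hne (MulAction.injective h h2)
        · intro h2
          have h3 := hVuniq (h * s) g (by rw [mul_smul, D.sα]; exact h2)
          rw [map_mul, hVstab h h1.symm, hVg, one_mul] at h3
          exact hVs h3
      · refine ⟨h • α, fun q hq => (hQfix q hq).1, ?_, ?_⟩
        · intro h2
          exact D.hne (MulAction.injective h (h2.trans h1)).symm
        · intro h2
          have h3 := hVuniq h g h2
          have h4 := hVstab (h * s) (by rw [mul_smul, D.sα]; exact h1.symm)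
          rw [map_mul, h3, hVg, one_mul] at h4
          exact hVs h4
    have hyβ' : y • β' = β' := by
      -- `y` normalizes `Q`
      have h1 : y⁻¹ * q0 * y ∈ Q := by
        obtain ⟨⟨q, hqK⟩, hq, rfl⟩ := hq0
        have h2 := hPK.conj_mem _ hq (⟨y, hyα⟩⁻¹ : K)
        rw [inv_inv] at h2
        exact ⟨_, h2, rfl⟩
      have h2 := hβ'1 _ h1
      rw [mul_smul, mul_smul, inv_smul_eq_iff] at h2
      -- fixed points of q0
      by_contra hne
      refine D.fix3 q0 hq01 α β' (y • β') (hQα q0 hq0) (hβ'1 q0 hq0) h2 hβ'2.symm ?_ (fun h3 => hne h3.symm)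
      intro h3
      rw [← hyα] at h3
      exact hβ'2 (MulAction.injective y h3).symm
    exact D.fix3 y hyne α γ β' hyα hyg hyβ' hgα.symm hβ'2.symm hβ'3.symm

end Cfsg.Agent.H18.FX
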