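import Mathlib
import Cfsg.Agent.H18_FX2

/-!
Transitive groups of fixity 2, III.
-/

set_option autoImplicit false
set_option linter.all false

open MulAction Subgroup
open scoped Pointwise

namespace Cfsg.Agent.H18.FX

variable {G : Type*} [Group G] [Finite G] {Ω : Type*} [Finite Ω] [MulAction G Ω]

/-- the dichotomy for the class of an involution with a small centralizer -/
theorem suzuki_four {S : Sylow 2 G} (t : G) (htS : t ∈ (S : Subgroup G)) (ht1 : t ≠ 1) (ht2 : t * t = 1)
    (C : Set G) (hC : ∀ g, g ∈ C ↔ g ∈ (S : Subgroup G) ∧ g * t = t * g) (hC4 : C.ncard = 4) :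
    (∃ n : ℕ, Nonempty (↥(S : Subgroup G) ≃* DihedralGroup n)) ∨ Cfsg.IsQuasiDihedral ↥(S : Subgroup G) ∨
      Nat.card (S : Subgroup G) = 4 := by
  have hord : orderOf (⟨t, htS⟩ : (S : Subgroup G)) = 2 := by
    rw [← Subgroup.orderOf_coe]
    exact orderOf_eq_prime (by rw [pow_two]; exact ht2) ht1
  apply S3224.result S.isPGroup' (⟨t, htS⟩ : (S : Subgroup G)) hord
  have e : Nat.card ↥(Subgroup.centralizer ({(⟨t, htS⟩ : (S : Subgroup G))} : Set (S : Subgroup G))) = C.ncard := by
    rw [← Nat.card_coe_set_eq C]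
    apply Nat.card_congr
    refine Equiv.ofBijective (fun z => ⟨z.1.1, (hC _).2 ⟨z.1.2, ?_⟩⟩) ⟨?_, ?_⟩
    · have := Subgroup.mem_centralizer_singleton_iff.1 z.2
      exact congrArg Subtype.val this
    · intro z w h
      apply Subtype.ext
      apply Subtype.ext
      exact congrArg (fun u : C => u.1) h
    · rintro ⟨g, hg⟩
      have h1 := (hC g).1 hg
      refine ⟨⟨⟨g, h1.1⟩, ?_⟩, rfl⟩
      rw [Subgroup.mem_centralizer_singleton_iff]
      exact Subtype.ext h1.2
  rw [e, hC4]

theorem main [FaithfulSMul G Ω] (htr : IsPretransitive G Ω)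
    (hfix : ∀ g : G, g ≠ 1 → Nat.card (fixedBy Ω g) ≤ 2) (α : Ω) (S : Sylow 2 G) :
    (S : Subgroup G) ⊓ MulAction.stabilizer G α = ⊥ ∨
    (((∃ n : ℕ, Nonempty (↥(S : Subgroup G) ≃* DihedralGroup n)) ∨ Cfsg.IsQuasiDihedral ↥(S : Subgroup G)) ∧
       (Nat.card ↥((S : Subgroup G) ⊓ MulAction.stabilizer G α) = 2 ∨ ((S : Subgroup G) ⊓ MulAction.stabilizer G α).relIndex (S : Subgroup G) = 2)) ∨
    (4 ≤ Nat.card (S : Subgroup G) ∧
       (∃ ω : Ω, Nat.card (MulAction.orbit ↥(S : Subgroup G) ω) = 2 ∧
          ∀ ω' : Ω, ω' ∉ MulAction.orbit ↥(S : Subgroup G) ω → Nat.card (MulAction.orbit ↥(S : Subgroup G) ω') = Nat.card (S : Subgroup G)) ∧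
       ∃ N : Subgroup G, N.Normal ∧ (N.index = 2 ∨ N.index = Nat.card (S : Subgroup G)) ∧ (∃ H : Subgroup ↥N, Cfsg.IsFrobeniusComplement H)) ∨
    (S : Subgroup G) ≤ MulAction.stabilizer G α := by
  classical
  haveI : Fact (Nat.Prime 2) := ⟨Nat.prime_two⟩
  set Sg : Subgroup G := (S : Subgroup G) with hSg
  set A : Subgroup G := Sg ⊓ stabilizer G α with hA
  have memA : ∀ g, g ∈ A ↔ g ∈ Sg ∧ g • α = α := fun g => by
    rw [hA, Subgroup.mem_inf, mem_stabilizer_iff]
  by_cases h1 : A = ⊥
  · exact Or.inl h1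
  right
  by_cases h2 : Sg ≤ stabilizer G α
  · exact Or.inr (Or.inr h2)
  have hAS : A < Sg := lt_of_le_of_ne inf_le_left (fun h => h2 (h ▸ inf_le_right))
  obtain ⟨s, hs, hsA⟩ := SetLike.exists_of_lt (H18.Syl3.lt_inf_normalizer S.isPGroup' hAS)
  rw [Subgroup.mem_inf] at hs
  obtain ⟨hsS, hsN⟩ := hs
  have hsN' : ∀ a, a ∈ A ↔ s * a * s⁻¹ ∈ A := Subgroup.mem_normalizer_iff.1 hsN
  have hsN'' : ∀ a ∈ A, s⁻¹ * a * s ∈ A := by
    intro a ha
    rw [hsN']
    have : s * (s⁻¹ * a * s) * s⁻¹ = a := by group
    rwa [this]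
  obtain ⟨⟨a0, ha0⟩, ha01⟩ := Subgroup.ne_bot_iff_exists_ne_one.1 h1
  have ha01' : a0 ≠ 1 := fun h => ha01 (Subtype.ext h)
  set β := s • α with hβ
  have hβα : β ≠ α := fun h => hsA ((memA s).2 ⟨hsS, h⟩)
  have D : Data S α β s :=
    { fix3 := fun g hg a b c ha hb hc hab hac hbc => three_fixed hfix hg ha hb hc hab hac hbc
      sS := hsS
      sα := rfl
      hne := hβα
      Aβ := by
        intro a haS haα
        have h3 := ((memA _).1 (hsN'' a ((memA a).2 ⟨haS, haα⟩))).2
        rw [mul_smul, mul_smul, inv_smul_eq_iff] at h3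
        exact h3
      Sβ := by
        intro a haS haβ
        have h3 : s⁻¹ * a * s ∈ A := by
          rw [memA]
          refine ⟨Sg.mul_mem (Sg.mul_mem (Sg.inv_mem hsS) haS) hsS, ?_⟩
          rw [mul_smul, mul_smul, inv_smul_eq_iff]
          exact haβ
        have h4 := (hsN' _).1 h3
        have h5 : s * (s⁻¹ * a * s) * s⁻¹ = a := by group
        rw [h5] at h4
        exact ((memA a).1 h4).2
      ex := ⟨a0, ((memA a0).1 ha0).1, ((memA a0).1 ha0).2, ha01'⟩ }
  -- the normalizer
  have hT1 : ∀ g ∈ Sg, g ∈ Subgroup.normalizer (A : Set G) → g • α = α ∨ g • α = β := by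
    intro g hg hgN
    have h3 : g⁻¹ * a0 * g ∈ A := by
      have h4 := Subgroup.mem_normalizer_iff.1 hgN (g⁻¹ * a0 * g)
      apply h4.2
      have : g * (g⁻¹ * a0 * g) * g⁻¹ = a0 := by group
      rwa [this]
    have h4 := ((memA _).1 h3).2
    rw [mul_smul, mul_smul, inv_smul_eq_iff] at h4
    exact D.fixA ((memA a0).1 ha0).1 ((memA a0).1 ha0).2 ha01' h4
  have hcoset : ∀ g ∈ Sg, g • α = β → s⁻¹ * g ∈ A := by
    intro g hg hgβ
    rw [memA]
    refine ⟨Sg.mul_mem (Sg.inv_mem hsS) hg, ?_⟩
    rw [mul_smul, hgβ, hβ, inv_smul_smul]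
  have hT2 : ∀ g ∈ Sg, (g • α = α ∨ g • α = β) → g ∈ Subgroup.normalizer (A : Set G) := by
    intro g hg h
    rcases h with h | h
    · exact Subgroup.le_normalizer ((memA g).2 ⟨hg, h⟩)
    · have h3 := Subgroup.le_normalizer (hcoset g hg h)
      have h4 := (Subgroup.normalizer (A : Set G)).mul_mem hsN h3
      rwa [mul_inv_cancel_left] at h4
  by_cases hT : ∀ g ∈ Sg, g ∈ Subgroup.normalizer (A : Set G)
  · -- `A` has index 2 in `S`
    have hT' : ∀ g ∈ Sg, g • α = α ∨ g • α = β := fun g hg => hT1 g hg (hT g hg)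
    have hidx : (A.subgroupOf Sg).index = 2 := by
      rw [Subgroup.index_eq_two_iff']
      refine ⟨⟨s⁻¹, Sg.inv_mem hsS⟩, fun b => ?_⟩
      rw [Subgroup.mem_subgroupOf, Subgroup.mem_subgroupOf]
      change Xor' (s⁻¹ * (b : G) ∈ A) ((b : G) ∈ A)
      by_cases hb : (b : G) ∈ A
      · right
        refine ⟨hb, fun h => hsA ?_⟩
        have h1 := A.mul_mem hb (A.inv_mem h)
        have h2 : (b : G) * (s⁻¹ * b)⁻¹ = s := by group
        rwa [h2] at h1
      · left
        refine ⟨hcoset b b.2 ?_, hb⟩
        rcases hT' b b.2 with h | h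
        · exact (hb ((memA _).2 ⟨b.2, h⟩)).elim
        · exact h
    have hrel : A.relIndex Sg = 2 := hidx
    have hcardS : Nat.card Sg = 2 * Nat.card A := by
      have h3 := (A.subgroupOf Sg).card_mul_index
      rw [hidx] at h3
      have h4 : Nat.card (A.subgroupOf Sg) = Nat.card A :=
        Nat.card_congr (Subgroup.subgroupOfEquivOfLe hAS.le).toEquiv
      rw [h4] at h3
      omega
    have hA2 : 2 ≤ Nat.card A := by
      have h3 : 1 < Nat.card A := by
        rw [Finite.one_lt_card_iff_nontrivial]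
        exact ⟨⟨a0, ha0⟩, 1, ha01⟩
      exact h3
    have hout : ∀ g ∈ Sg, g ∉ A → g • α = β := by
      intro g hg hgA
      rcases hT' g hg with h | h
      · exact (hgA ((memA g).2 ⟨hg, h⟩)).elim
      · exact h
    have hprod : ∀ g ∈ Sg, ∀ k ∈ Sg, g ∉ A → k ∉ A → g⁻¹ * k ∈ A := by
      intro g hg k hk hgA hkA
      rw [memA]
      refine ⟨Sg.mul_mem (Sg.inv_mem hg) hk, ?_⟩
      rw [mul_smul, hout k hk hkA, ← hout g hg hgA, inv_smul_smul]
    by_cases hreg : ∀ ω : Ω, ω ≠ α → ω ≠ β → ∀ t ∈ Sg, t • ω = ω → t = 1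
    · -- last case
      right; left
      have horb : MulAction.orbit Sg α = {α, β} := by
        ext ω
        constructor
        · rintro ⟨⟨g, hg⟩, rfl⟩
          exact hT' g hg
        · rintro (rfl | rfl)
          · exact MulAction.mem_orbit_self _
          · exact ⟨⟨s, hsS⟩, rfl⟩
      refine ⟨by rw [hcardS]; omega, ⟨α, ?_, ?_⟩, ?_⟩
      · rw [horb, Nat.card_coe_set_eq, Set.ncard_pair hβα.symm]
      · intro ω' hω'
        rw [horb, Set.mem_insert_iff, Set.mem_singleton_iff, not_or] at hω'
        have h4 : stabilizer Sg ω' = ⊥ := by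
          rw [eq_bot_iff]
          rintro ⟨g, hg⟩ hgω
          rw [Subgroup.mem_bot]
          apply Subtype.ext
          exact hreg ω' hω'.1 hω'.2 g hg hgω
        have h5 := (stabilizer Sg ω').card_mul_index
        have h6 : (stabilizer Sg ω').index = (orbit Sg ω').ncard := MulAction.index_stabilizer Sg ω'
        have h7 : Nat.card (stabilizer Sg ω') = 1 := by rw [h4]; exact Subgroup.card_bot
        rw [h7, one_mul, h6] at h5
        rw [Nat.card_coe_set_eq]
        exact h5
      · obtain ⟨N, hN1, hN2, hN3⟩ := frob htr D hT' hreg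
        exact ⟨N, hN1, Or.inl hN2, hN3⟩
    · -- an involution with small centralizer
      left
      push Not at hreg
      obtain ⟨ω, hωα, hωβ, t, htS, htω, ht1⟩ := hreg
      have htA : t ∉ A := by
        intro htA
        rcases D.fixA ((memA t).1 htA).1 ((memA t).1 htA).2 ht1 htω with h | h
        · exact hωα h
        · exact hωβ h
      have hAω : ∀ a ∈ A, a • ω = ω → a = 1 := by
        intro a ha haω
        by_contra ha1
        rcases D.fixA ((memA a).1 ha).1 ((memA a).1 ha).2 ha1 haω with h | h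
        · exact hωα h
        · exact hωβ h
      have htinvA : t⁻¹ ∉ A := fun h => htA (by simpa using A.inv_mem h)
      have htt : t * t = 1 := by
        apply hAω
        · have := hprod t⁻¹ (Sg.inv_mem htS) t htS htinvA htA
          rwa [inv_inv] at this
        · rw [mul_smul, htω, htω]
      have htinv : t⁻¹ = t := inv_eq_of_mul_eq_one_right htt
      -- uniqueness
      have huniq : ∀ c1 ∈ A, ∀ c2 ∈ A, c1 * t = t * c1 → c2 * t = t * c2 → c1 ≠ 1 → c2 ≠ 1 → c1 = c2 := by
        intro c1 hc1 c2 hc2 h3 h4 h5 h6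
        have f1 : t • c1 • ω = c1 • ω := by rw [← mul_smul, ← h3, mul_smul, htω]
        have f2 : t • c2 • ω = c2 • ω := by rw [← mul_smul, ← h4, mul_smul, htω]
        have g1 : c1 • ω ≠ ω := fun h => h5 (hAω c1 hc1 h)
        have g2 : c2 • ω ≠ ω := fun h => h6 (hAω c2 hc2 h)
        have h7 : c1 • ω = c2 • ω := by
          by_contra hne
          exact D.fix3 t ht1 ω (c1 • ω) (c2 • ω) htω f1 f2 g1.symm g2.symm hne
        have h8 := hAω (c2⁻¹ * c1) (A.mul_mem (A.inv_mem hc2) hc1) (by rw [mul_smul, h7, inv_smul_smul])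
        exact (inv_mul_eq_one.1 h8).symm
      -- existence
      obtain ⟨c, hcA, hct, hc1⟩ : ∃ c ∈ A, c * t = t * c ∧ c ≠ 1 := by
        haveI : Nontrivial Sg := ⟨⟨⟨a0, ((memA a0).1 ha0).1⟩, 1, fun h => ha01' (congrArg Subtype.val h)⟩⟩
        have hZ : Nontrivial (Subgroup.center Sg) := S.isPGroup'.center_nontrivial
        obtain ⟨⟨⟨z, hzS⟩, hzc⟩, hz1⟩ := exists_ne (1 : Subgroup.center Sg)
        have hzcomm : ∀ g ∈ Sg, z * g = g * z := by
          intro g hg
          exact (congrArg Subtype.val (Subgroup.mem_center_iff.1 hzc ⟨g, hg⟩)).symm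
        have hz1' : z ≠ 1 := fun h => hz1 (Subtype.ext (Subtype.ext h))
        by_cases hzA : z ∈ A
        · exact ⟨z, hzA, hzcomm t htS, hz1'⟩
        · by_cases hzt : z = t
          · refine ⟨a0, ha0, ?_, ha01'⟩
            rw [← hzt]
            exact (hzcomm a0 ((memA a0).1 ha0).1).symm
          · refine ⟨t * z, ?_, ?_, ?_⟩
            · have := hprod t htS z hzS htA hzA
              rwa [htinv] at this
            · rw [mul_assoc, hzcomm t htS]
            · intro h
              apply hzt
              have := eq_inv_of_mul_eq_one_right h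
              rw [this, htinv]
      have hC : ∀ g, g ∈ ({1, t, c, t * c} : Set G) ↔ g ∈ (S : Subgroup G) ∧ g * t = t * g := by
        intro g
        constructor
        · rintro (rfl | rfl | rfl | rfl)
          · exact ⟨Sg.one_mem, by rw [one_mul, mul_one]⟩
          · exact ⟨htS, rfl⟩
          · exact ⟨((memA _).1 hcA).1, hct⟩
          · exact ⟨Sg.mul_mem htS ((memA _).1 hcA).1, by rw [mul_assoc, hct]⟩
        · rintro ⟨hgS, hgt⟩
          by_cases hgA : g ∈ A
          · by_cases hg1 : g = 1
            · exact Or.inl hg1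
            · exact Or.inr (Or.inr (Or.inl (huniq g hgA c hcA hgt hct hg1 hc1)))
          · have h3 := hprod t htS g hgS htA hgA
            rw [htinv] at h3
            by_cases hg1 : t * g = 1
            · right; left
              have := eq_inv_of_mul_eq_one_right hg1
              rw [this, htinv]
            · have h4 := huniq (t * g) h3 c hcA (by rw [mul_assoc, hgt]) hct hg1 hc1
              right; right; right
              have h5 : t * c = g := by rw [← h4, ← mul_assoc, htt, one_mul]
              exact h5.symm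
      have hC4 : ({1, t, c, t * c} : Set G).ncard = 4 := by
        apply card_four_set
        · exact ht1.symm
        · exact hc1.symm
        · intro h
          apply htA
          have : t = c⁻¹ := eq_inv_of_mul_eq_one_left h.symm
          rw [this]; exact A.inv_mem hcA
        · intro h; exact htA (h ▸ hcA)
        · intro h
          exact hc1 (mul_left_cancel (a := t) (by rw [mul_one]; exact h.symm))
        · intro h
          apply ht1
          exact mul_right_cancel (b := c) (by rw [one_mul]; exact h.symm)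
      have hA4 : Nat.card Sg = 4 → ∃ n : ℕ, Nonempty (Sg ≃* DihedralGroup n) := by
        intro h4
        have hA2' : Nat.card A = 2 := by omega
        have ha0o : orderOf a0 = 2 := by
          apply orderOf_eq_prime _ ha01'
          have h5 : (⟨a0, ha0⟩ : A) ^ 2 = 1 := by
            rw [← hA2']; exact pow_card_eq_one'
          exact congrArg Subtype.val h5
        apply klein_dih h4 (a := ⟨a0, ((memA a0).1 ha0).1⟩) (b := ⟨t, htS⟩)
        · rw [← Subgroup.orderOf_coe]; exact ha0o
        · rw [← Subgroup.orderOf_coe]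
          exact orderOf_eq_prime (by rw [pow_two]; exact htt) ht1
        · intro h
          have h5 : a0 = t := congrArg Subtype.val h
          exact htA (h5 ▸ ha0)
      refine ⟨?_, Or.inr hrel⟩
      rcases suzuki_four (S := S) t htS ht1 htt _ hC hC4 with h | h | h
      · exact Or.inl h
      · exact Or.inr h
      · exact Or.inl (hA4 h)
  · -- `A` is not normal in `S`
    left
    push Not at hT
    obtain ⟨g1, hg1S, hg1N⟩ := hT
    set T : Subgroup G := Sg ⊓ Subgroup.normalizer (A : Set G) with hTdef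
    have hTS : T < Sg := by
      refine lt_of_le_of_ne inf_le_left (fun h => hg1N ?_)
      have : g1 ∈ T := by rw [h]; exact hg1S
      exact this.2
    obtain ⟨u, hu, huT⟩ := SetLike.exists_of_lt (H18.Syl3.lt_inf_normalizer S.isPGroup' hTS)
    obtain ⟨huS, huN⟩ := Subgroup.mem_inf.1 hu
    have hAT : ∀ a ∈ A, a ∈ T := fun a ha => ⟨((memA a).1 ha).1, Subgroup.le_normalizer ha⟩
    have huA : ∀ a ∈ A, u * a * u⁻¹ ∈ T := by
      intro a ha
      have h3 := Subgroup.mem_normalizer_iff.1 huN a
      exact h3.1 (hAT a ha)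
    have hnotA : ∀ x ∈ A, x ≠ 1 → u * x * u⁻¹ ∉ A := by
      intro x hx hx1 hxA
      have h3 : (u * x * u⁻¹) • u • α = u • α := by
        rw [mul_smul, mul_smul, inv_smul_smul, ((memA x).1 hx).2]
      have h4 : u * x * u⁻¹ ≠ 1 := by
        intro h
        apply hx1
        have : u⁻¹ * (u * x * u⁻¹) * u = x := by group
        rw [← this, h]; group
      have h5 := D.fixA ((memA _).1 hxA).1 ((memA _).1 hxA).2 h4 h3
      exact huT ⟨huS, hT2 u huS h5⟩
    have hAuniq : ∀ x ∈ A, ∀ x' ∈ A, x ≠ 1 → x' ≠ 1 → x = x' := by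
      intro x hx x' hx' hx1 hx'1
      have h3 := huA x hx
      have h4 := huA x' hx'
      have h5 : (u * x * u⁻¹) • α = β := by
        rcases hT1 _ h3.1 h3.2 with h | h
        · exact (hnotA x hx hx1 ((memA _).2 ⟨h3.1, h⟩)).elim
        · exact h
      have h6 : (u * x' * u⁻¹) • α = β := by
        rcases hT1 _ h4.1 h4.2 with h | h
        · exact (hnotA x' hx' hx'1 ((memA _).2 ⟨h4.1, h⟩)).elim
        · exact h
      have h7 : u * (x⁻¹ * x') * u⁻¹ ∈ A := by
        have e1 : u * (x⁻¹ * x') * u⁻¹ = (u * x * u⁻¹)⁻¹ * (u * x' * u⁻¹) := by group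
        rw [e1, memA]
        refine ⟨Sg.mul_mem (Sg.inv_mem h3.1) h4.1, ?_⟩
        rw [mul_smul, h6, ← h5, inv_smul_smul]
      by_contra hne
      exact hnotA (x⁻¹ * x') (A.mul_mem (A.inv_mem hx) hx') (fun h => hne (inv_mul_eq_one.1 h)) h7
    have hAset : (A : Set G) = {1, a0} := by
      ext z
      constructor
      · intro hz
        by_cases hz1 : z = 1
        · exact Or.inl hz1
        · exact Or.inr (hAuniq z hz a0 ha0 hz1 ha01')
      · rintro (rfl | rfl)
        · exact A.one_mem
        · exact ha0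
    have hAcard : Nat.card A = 2 := by
      have : Nat.card A = (A : Set G).ncard := rfl
      rw [this, hAset, Set.ncard_pair ha01'.symm]
    have ha0a0 : a0 * a0 = 1 := by
      have h3 : a0 * a0 ∈ (A : Set G) := A.mul_mem ha0 ha0
      rw [hAset] at h3
      rcases h3 with h | h
      · exact h
      · exact (ha01' (mul_left_cancel (a := a0) (by rw [mul_one]; exact h))).elim
    have hcent : ∀ g, g ∈ Subgroup.normalizer (A : Set G) → g * a0 = a0 * g := by
      intro g hg
      have h3 := (Subgroup.mem_normalizer_iff.1 hg a0)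
      have h4 : g * a0 * g⁻¹ ∈ (A : Set G) := h3.1 ha0
      rw [hAset] at h4
      rcases h4 with h | h
      · exfalso
        apply ha01'
        have : g⁻¹ * (g * a0 * g⁻¹) * g = a0 := by group
        rw [← this, h]; group
      · have h5 : g * a0 * g⁻¹ = a0 := h
        rw [mul_inv_eq_iff_eq_mul] at h5
        exact h5
    have hcent' : ∀ g, g * a0 = a0 * g → g ∈ Subgroup.normalizer (A : Set G) := by
      intro g hg
      rw [Subgroup.mem_normalizer_iff]
      intro z
      have h3 : g * a0 * g⁻¹ = a0 := by rw [hg, mul_inv_cancel_right]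
      constructor
      · intro hz
        have hz : z ∈ (A : Set G) := hz
        rw [hAset] at hz
        rcases hz with rfl | hz
        · rw [mul_one, mul_inv_cancel]; exact A.one_mem
        · have hz' : z = a0 := hz
          rw [hz', h3]; exact ha0
      · intro hz
        have hz : g * z * g⁻¹ ∈ (A : Set G) := hz
        rw [hAset] at hz
        rcases hz with hz | hz
        · have : z = 1 := by
            have e : g⁻¹ * (g * z * g⁻¹) * g = z := by group
            rw [← e, hz]; group
          rw [this]; exact A.one_mem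
        · have hz' : g * z * g⁻¹ = g * a0 * g⁻¹ := by rw [h3]; exact hz
          have : z = a0 := mul_left_cancel (mul_right_cancel hz')
          rw [this]; exact ha0
    have hC : ∀ g, g ∈ ({1, a0, s, s * a0} : Set G) ↔ g ∈ (S : Subgroup G) ∧ g * a0 = a0 * g := by
      intro g
      constructor
      · rintro (rfl | rfl | rfl | rfl)
        · exact ⟨Sg.one_mem, by rw [one_mul, mul_one]⟩
        · exact ⟨((memA _).1 ha0).1, rfl⟩
        · exact ⟨hsS, hcent _ hsN⟩
        · exact ⟨Sg.mul_mem hsS ((memA _).1 ha0).1, by rw [← mul_assoc, ← hcent _ hsN]⟩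
      · rintro ⟨hgS, hga⟩
        rcases hT1 g hgS (hcent' g hga) with h | h
        · have h3 : g ∈ (A : Set G) := (memA g).2 ⟨hgS, h⟩
          rw [hAset] at h3
          rcases h3 with h3 | h3
          · exact Or.inl h3
          · exact Or.inr (Or.inl h3)
        · have h3 : s⁻¹ * g ∈ (A : Set G) := hcoset g hgS h
          rw [hAset] at h3
          rcases h3 with h3 | h3
          · right; right; left
            exact (inv_mul_eq_one.1 h3).symm
          · right; right; right
            have h4 : s⁻¹ * g = a0 := h3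
            have h5 : g = s * a0 := by rw [← h4, mul_inv_cancel_left]
            exact h5
    have hC4 : ({1, a0, s, s * a0} : Set G).ncard = 4 := by
      apply card_four_set
      · exact ha01'.symm
      · intro h; exact hsA (h ▸ A.one_mem)
      · intro h
        apply hsA
        have : s = a0⁻¹ := eq_inv_of_mul_eq_one_left h.symm
        rw [this]; exact A.inv_mem ha0
      · intro h; exact hsA (h ▸ ha0)
      · intro h
        have : s = 1 := mul_right_cancel (b := a0) (by rw [one_mul]; exact h.symm)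
        exact hsA (this ▸ A.one_mem)
      · intro h
        exact ha01' (mul_left_cancel (a := s) (by rw [mul_one]; exact h.symm))
    refine ⟨?_, Or.inl hAcard⟩
    rcases suzuki_four (S := S) a0 ((memA a0).1 ha0).1 ha01' ha0a0 _ hC hC4 with h | h | h
    · exact Or.inl h
    · exact Or.inr h
    · exfalso
      have h3 : ({1, a0, s, s * a0} : Set G) = (Sg : Set G) := by
        apply Set.eq_of_subset_of_ncard_le (fun g hg => ((hC g).1 hg).1) _ (Set.toFinite _)
        rw [hC4]
        have : (Sg : Set G).ncard = Nat.card Sg := rfl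
        rw [this, h]
      have h4 : u ∈ ({1, a0, s, s * a0} : Set G) := by rw [h3]; exact huS
      exact huT ⟨huS, hcent' u ((hC u).1 h4).2⟩

end Cfsg.Agent.H18.FX
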