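import Mathlib
import Cfsg.Prelude.Def_Local
import Cfsg.Prelude.Def_Solvable
import Cfsg.Agent.H1_Coprime2
import Cfsg.Agent.H1_Nilp
import Cfsg.Agent.H11_Cores
import Cfsg.Agent.H22_PSolv

/-!
H26_HH: the dual form of the Hall--Higman centralizer lemma.
-/

set_option autoImplicit false

namespace Cfsg.Agent.H26.HH

open Cfsg Subgroup Cfsg.Agent.H22.PSolv
open scoped Pointwise

universe u

theorem centralizer_pPrimeCore_le {G : Type u} [Group G] [Finite G] {p : ℕ} [hp : Fact p.Prime]
    (hG : Cfsg.IsPSolvable p G) (h1 : Cfsg.pCore p G = ⊥) :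
    centralizer (Cfsg.pPrimeCore p G : Set G) ≤ Cfsg.pPrimeCore p G := by
  classical
  rw [isPSolvable_iff] at hG
  obtain ⟨n, M, h0, hn, hN, hm, hF⟩ := hG
  have hTn : (Cfsg.pPrimeCore p G).Normal := H1.Nilp.pPrimeCore_normal p
  have hTp : (Nat.card (Cfsg.pPrimeCore p G)).Coprime p := H1.Nilp.pPrimeCore_coprime p
  set T := Cfsg.pPrimeCore p G with hT
  set C := centralizer (T : Set G) with hC
  have hCn : C.Normal := inferInstance
  have key : ∀ i, M i ⊓ C ≤ T := by
    intro i
    induction i with
    | zero => rw [h0, bot_inf_eq]; exact bot_le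
    | succ i ih =>
      have := hN i
      have := hN (i + 1)
      have hBp : (Nat.card (M i ⊓ C : Subgroup G)).Coprime p :=
        Nat.Coprime.coprime_dvd_left (Subgroup.card_dvd_of_le ih) hTp
      have hle : M i ⊓ C ≤ M (i + 1) ⊓ C := inf_le_inf_right _ (hm i)
      have hdvd := relIndex_inf_dvd (K := C) (hm i)
      have hcard : (M i ⊓ C).relIndex (M (i + 1) ⊓ C) * Nat.card (M i ⊓ C : Subgroup G) =
          Nat.card (M (i + 1) ⊓ C : Subgroup G) := H1.Basic.relIndex_mul_card hle
      rcases (hF i).dvd hp.out hdvd with hpow | hcop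
      · -- a central Sylow subgroup
        have hcop' : (Nat.card (M i ⊓ C : Subgroup G)).Coprime ((M i ⊓ C).relIndex (M (i + 1) ⊓ C)) := by
          obtain ⟨k, hk⟩ := hpow
          rw [hk]
          exact Nat.Coprime.pow_right k hBp
        obtain ⟨E, hE, hEc, hEi, hEs⟩ := H1.Coprime.sz_exists hle
          (by rw [normalizer_eq_top]; exact le_top) hcop'
        have hEn : M (i + 1) ⊓ C ≤ normalizer (E : Set G) := by
          rw [← hEs]
          apply sup_le le_normalizer
          refine le_trans ?_ (centralizer_le_normalizer _)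
          rw [le_centralizer_iff]
          have : E ≤ C := hE.trans inf_le_right
          exact this.trans (centralizer_le ih)
        have hEsub : E.IsSubnormal := by
          refine IsSubnormal.step E (M (i + 1) ⊓ C) hE ?_ ?_
          · exact (inferInstance : (M (i + 1) ⊓ C).Normal).isSubnormal
          · exact (normal_subgroupOf_iff_le_normalizer hE).mpr hEn
        have hEb : E ≤ Cfsg.pCore p G := by
          apply H11.Cores.le_pCore_of_isSubnormal p hEsub
          obtain ⟨k, hk⟩ := hpow
          exact IsPGroup.of_card (n := k) (by rw [hEc, hk])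
        rw [h1, le_bot_iff] at hEb
        rw [hEb, bot_sup_eq] at hEs
        rw [← hEs]; exact ih
      · apply H1.Nilp.le_pPrimeCore inferInstance
        rw [← hcard]
        exact Nat.Coprime.mul_left hcop hBp
  have := key n
  rwa [hn, top_inf_eq] at this

end Cfsg.Agent.H26.HH
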