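import Mathlib
import Cfsg.Agent.H18_BB1
import Cfsg.Agent.H22_Gen
import Cfsg.Agent.H22_PSolv
import Cfsg.Agent.H26_HH
import Cfsg.Agent.H22_Coprime3

/-!
# Pairs of conjugate `p`-subgroups generating small groups
-/

set_option autoImplicit false
set_option linter.unusedSectionVars false
set_option linter.unusedSimpArgs false
set_option linter.style.haveILetI false

namespace Cfsg.Agent.H18.SM

open Subgroup Pointwise
open scoped commutatorElement
open Cfsg.Agent.H13.Syl
open Cfsg.Agent.H18.BB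
open Cfsg.Agent.H18.CharP
open Cfsg.Agent.H18.KS (commutator_le_left_of mem_sup_of_norm le_normalizer_iff_conj)

variable {G : Type*} [Group G]

theorem relIndex_of_cyc [Finite G] {p : ℕ} [hp : Fact p.Prime] {A B : Subgroup G}
    (hA : ∀ a ∈ A, ∀ b ∈ A, a * b = b * a) (hAp : ∀ a ∈ A, a ^ p = 1)
    (hBA : B ≤ A) (hne : B ≠ A) {a : G} (ha : a ∈ A) (hBa : B ⊔ zpowers a = A) : B.relIndex A = p := by
  have haB : a ∉ B := by
    intro h
    apply hne
    rw [← hBa]
    exact le_antisymm le_sup_left (sup_le le_rfl (by rwa [zpowers_le]))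
  have hnorm : zpowers a ≤ normalizer (B : Set G) := by
    rw [le_normalizer_iff_conj]
    intro x hx b hb
    have hxA : x ∈ A := by
      have := (zpowers_le.mpr ha) hx
      exact this
    rw [hA x hxA b (hBA hb), mul_inv_cancel_right]; exact hb
  have h1 : B.relIndex A = B.relIndex (zpowers a) := by
    rw [← hBa, sup_comm, H1.Basic.relIndex_sup_of_le_normalizer hnorm]
  rw [h1]
  have ho : orderOf a = p := by
    apply orderOf_eq_prime (hAp a ha)
    rintro rfl
    exact haB B.one_mem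
  have hc : Nat.card (zpowers a) = p := by rw [Nat.card_zpowers, ho]
  have h2 : B.relIndex (zpowers a) ∣ p := by
    rw [← hc]; exact relIndex_dvd_card _ _
  rcases (Nat.dvd_prime hp.out).mp h2 with h | h
  · exfalso
    rw [relIndex_eq_one] at h
    exact haB (h (mem_zpowers a))
  · exact h

theorem exists_small [Finite G] {p : ℕ} [hp : Fact p.Prime] {A K : Subgroup G}
    (hA : ∀ a ∈ A, ∀ b ∈ A, a * b = b * a) (hAp : ∀ a ∈ A, a ^ p = 1)
    (hAK : A ≤ normalizer (K : Set G)) (hK : (Nat.card K).Coprime p) (hn : ¬ A ≤ centralizer (K : Set G)) :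
    ∃ B Y : Subgroup G, B ≤ A ∧ B.relIndex A = p ∧ Y ≤ K ∧ Y ≤ centralizer (B : Set G) ∧
      A ≤ normalizer (Y : Set G) ∧ ¬ (A ≤ centralizer (Y : Set G)) ∧
      ∀ x ∈ Y, x ∉ centralizer (A : Set G) → Y ≤ A ⊔ cj x A := by
  classical
  have hApg : IsPGroup p ↥A := fun a => ⟨1, by
    apply Subtype.ext
    simpa using hAp a a.2⟩
  have hcop : (Nat.card A).Coprime (Nat.card K) := by
    obtain ⟨n, hn⟩ := IsPGroup.iff_card.mp hApg
    rw [hn]
    exact Nat.Coprime.pow_left n hK.symm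
  have h1 : ∃ B : Subgroup G, B ≤ A ∧ (∃ a ∈ A, B ⊔ zpowers a = A) ∧
      ¬ A ≤ centralizer ((K ⊓ centralizer (B : Set G) : Subgroup G) : Set G) := by
    by_contra hcon
    apply hn
    rw [le_centralizer_iff]
    apply H22.Gen.gen_cyclic hA hAK hcop
    intro B hB hB'
    rw [le_centralizer_iff]
    by_contra h
    exact hcon ⟨B, hB, hB', h⟩
  obtain ⟨B, hBA, ⟨a, ha, hBa⟩, hB⟩ := h1
  have hBne : B ≠ A := by
    rintro rfl
    apply hB
    rw [le_centralizer_iff]
    exact inf_le_right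
  have hidx := relIndex_of_cyc hA hAp hBA hBne ha hBa
  have hAC : A ≤ normalizer (centralizer (B : Set G) : Set G) := by
    have : A ≤ centralizer (B : Set G) := fun x hx b hb => hA b (hBA hb) x hx
    exact this.trans le_normalizer
  set s : Set (Subgroup G) := {Y | Y ≤ K ⊓ centralizer (B : Set G) ∧ A ≤ normalizer (Y : Set G) ∧
    ¬ A ≤ centralizer (Y : Set G)} with hs
  have hinf : ∀ {H L N : Subgroup G}, N ≤ normalizer (H : Set G) → N ≤ normalizer (L : Set G) →
      N ≤ normalizer ((H ⊓ L : Subgroup G) : Set G) := by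
    intro H L N h1 h2
    rw [le_normalizer_iff_conj] at *
    exact fun n hn k hk => ⟨h1 n hn k hk.1, h2 n hn k hk.2⟩
  have hsn : s.Nonempty := ⟨K ⊓ centralizer (B : Set G), le_rfl, hinf hAK hAC, hB⟩
  obtain ⟨Y, hY⟩ := (Set.toFinite s).exists_minimal hsn
  obtain ⟨⟨hYK, hAY, hYA⟩, hmin⟩ := hY
  refine ⟨B, Y, hBA, hidx, hYK.trans inf_le_left, hYK.trans inf_le_right, hAY, hYA, ?_⟩
  intro x hx hxA
  set L := A ⊔ cj x A with hL
  by_cases hc : A ≤ centralizer ((L ⊓ Y : Subgroup G) : Set G)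
  · exfalso
    apply hxA
    intro b hb
    have h3 : x * b * x⁻¹ ∈ L := (le_sup_right : cj x A ≤ L) (conj_mem_cj hb)
    have h4 : x * b * x⁻¹ * b⁻¹ ∈ L := mul_mem h3 (inv_mem ((le_sup_left : A ≤ L) hb))
    have h5 : x * b * x⁻¹ * b⁻¹ ∈ Y := by
      have e1 : x * b * x⁻¹ * b⁻¹ = x * (b * x⁻¹ * b⁻¹) := by group
      rw [e1]
      exact mul_mem hx ((mem_normalizer_iff.mp (hAY hb) _).mp (inv_mem hx))
    have h6 : (x * b * x⁻¹ * b⁻¹) * b = b * (x * b * x⁻¹ * b⁻¹) := hc hb _ ⟨h4, h5⟩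
    set y := x * b * x⁻¹ * b⁻¹ with hy
    have hcom : Commute y b := h6
    have h7 : (y * b) ^ p = 1 := by
      have : y * b = x * b * x⁻¹ := by rw [hy]; group
      rw [this, conj_pow, hAp b hb]; group
    rw [hcom.mul_pow, hAp b hb, mul_one] at h7
    have h8 : y = 1 := by
      have h9 : orderOf y ∣ p := orderOf_dvd_of_pow_eq_one h7
      have h10 : orderOf y ∣ Nat.card K := (Subgroup.orderOf_dvd_natCard Y h5).trans
        (Subgroup.card_dvd_of_le (hYK.trans inf_le_left))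
      have h11 : orderOf y ∣ 1 := by
        rw [← hK]
        exact Nat.dvd_gcd h10 h9
      exact orderOf_eq_one_iff.mp (Nat.dvd_one.mp h11)
    have h12 : x * b * x⁻¹ * b⁻¹ = 1 := h8
    have h13 : x * b = b * x := by
      calc x * b = (x * b * x⁻¹ * b⁻¹) * b * x := by group
        _ = b * x := by rw [h12, one_mul]
    exact h13.symm
  · have h2 : L ⊓ Y ∈ s := ⟨inf_le_right.trans hYK, hinf ((le_sup_left : A ≤ L).trans le_normalizer) hAY, hc⟩
    exact (hmin h2 inf_le_right).trans inf_le_left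


theorem lift_coprime [Finite G] {H : Type*} [Group H] (f : G →* H) {p : ℕ} [hp : Fact p.Prime] (l : G)
    (h : (orderOf (f l)).Coprime p) : ∃ k : ℕ, f (l ^ k) = f l ∧ (orderOf (l ^ k)).Coprime p := by
  have hpos : orderOf l ≠ 0 := (orderOf_pos l).ne'
  obtain ⟨a, n, hn, hl⟩ := Nat.exists_eq_pow_mul_and_not_dvd hpos p hp.out.ne_one
  have hc : (p ^ a).Coprime (orderOf (f l)) := Nat.Coprime.pow_left a h.symm
  obtain ⟨k, hk1, hk2⟩ := Nat.chineseRemainder hc 0 1
  refine ⟨k, ?_, ?_⟩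
  · rw [map_pow]
    conv_rhs => rw [← pow_one (f l)]
    exact pow_eq_pow_iff_modEq.mpr hk2
  · have h1 : p ^ a ∣ k := (Nat.modEq_zero_iff_dvd).mp hk1
    have h2 : (l ^ k) ^ n = 1 := by
      rw [← pow_mul]
      apply orderOf_dvd_iff_pow_eq_one.mp
      rw [hl]
      exact Nat.mul_dvd_mul_right h1 n
    have h3 : orderOf (l ^ k) ∣ n := orderOf_dvd_of_pow_eq_one h2
    exact Nat.Coprime.coprime_dvd_left h3 ((Nat.Prime.coprime_iff_not_dvd hp.out).mpr hn).symm

theorem main {M : Type*} [Group M] [Finite M] {p : ℕ} [hp : Fact p.Prime] (hM : Cfsg.IsPSolvable p M)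
    (A : Subgroup M) (hA : IsPGroup p A) (hΦ : (frattini ↥A).map A.subtype ≤ Cfsg.pCore p M)
    (hnot : ¬ A ≤ Cfsg.pCore p M) :
    ∃ x ∈ (Cfsg.pPrimeCore p (M ⧸ Cfsg.pCore p M)).comap (QuotientGroup.mk' (Cfsg.pCore p M)),
      x ∈ pGen p (A ⊔ cj x A) ∧
      pGen p (A ⊔ cj x A) ≤ (Cfsg.pPrimeCore p (M ⧸ Cfsg.pCore p M)).comap (QuotientGroup.mk' (Cfsg.pCore p M)) ∧
      ⁅pGen p (A ⊔ cj x A), A⁆ = pGen p (A ⊔ cj x A) ∧
      (A ⊓ oP p (A ⊔ cj x A)).relIndex A = p ∧
      ⁅A ⊓ oP p (A ⊔ cj x A), A ⊔ cj x A⁆ ≤ Cfsg.pCore p M := by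
  classical
  have hRp : IsPGroup p ↥(Cfsg.pCore p M) := Cfsg.Agent.H11.Cores.pCore_isPGroup p
  have hKn : (Cfsg.pPrimeCore p (M ⧸ Cfsg.pCore p M)).Normal := H1.Nilp.pPrimeCore_normal p
  have hKc : (Nat.card (Cfsg.pPrimeCore p (M ⧸ Cfsg.pCore p M))).Coprime p := H1.Nilp.pPrimeCore_coprime p
  set R := Cfsg.pCore p M with hR
  set π := QuotientGroup.mk' R with hπ
  set K := Cfsg.pPrimeCore p (M ⧸ R) with hK
  have hker : ∀ x : M, π x = 1 ↔ x ∈ R := fun x => by
    rw [hπ, ← MonoidHom.mem_ker, QuotientGroup.ker_mk']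
  have hcomm : ∀ a ∈ A.map π, ∀ b ∈ A.map π, a * b = b * a := by
    rintro _ ⟨a, ha, rfl⟩ _ ⟨b, hb, rfl⟩
    have h1 : ⁅a, b⁆ ∈ R := hΦ (H22.Coprime3.commutator_le_map_frattini hA (commutator_mem_commutator ha hb))
    have h2 : π ⁅a, b⁆ = 1 := (hker _).mpr h1
    rw [map_commutatorElement] at h2
    exact commutatorElement_eq_one_iff_mul_comm.mp h2
  have hpow : ∀ a ∈ A.map π, a ^ p = 1 := by
    rintro _ ⟨a, ha, rfl⟩
    rw [← map_pow, hker]
    exact hΦ (H22.Coprime3.pow_mem_map_frattini hA ha)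
  have hn : ¬ A.map π ≤ centralizer (K : Set (M ⧸ R)) := by
    intro h
    have h0 : Cfsg.pCore p (M ⧸ R) = ⊥ := H22.PSolv.pCore_quotient
    have h1 : A.map π ≤ K := h.trans (H26.HH.centralizer_pPrimeCore_le (H22.PSolv.isPSolvable_quotient R hM) h0)
    apply hnot
    intro a ha
    rw [← hker]
    have h2 : π a ∈ A.map π := ⟨a, ha, rfl⟩
    have h3 : orderOf (π a) ∣ p := orderOf_dvd_of_pow_eq_one (hpow _ h2)
    have h4 : orderOf (π a) ∣ Nat.card K := Subgroup.orderOf_dvd_natCard K (h1 h2)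
    have h5 : orderOf (π a) ∣ 1 := by
      rw [← hKc]; exact Nat.dvd_gcd h4 h3
    exact orderOf_eq_one_iff.mp (Nat.dvd_one.mp h5)
  obtain ⟨B, Y, hBA, hidx, hYK, hYB, hAY, hYA, hgen⟩ := exists_small hcomm hpow
    (by rw [normalizer_eq_top]; exact le_top) hKc hn
  have hYc : (Nat.card Y).Coprime p := Nat.Coprime.coprime_dvd_left (Subgroup.card_dvd_of_le hYK) hKc
  obtain ⟨y, hy, hyA⟩ : ∃ y ∈ Y, y ∉ centralizer (A.map π : Set (M ⧸ R)) := by
    by_contra hcon
    push_neg at hcon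
    apply hYA
    rw [le_centralizer_iff]
    exact hcon
  set s : Set M := {x | π x ∈ Y ∧ π x ∉ centralizer (A.map π : Set (M ⧸ R))} with hs
  obtain ⟨y0, hy0⟩ := QuotientGroup.mk'_surjective R y
  have hsn : s.Nonempty := ⟨y0, by rw [hs, Set.mem_setOf_eq, hπ, hy0]; exact ⟨hy, hyA⟩⟩
  obtain ⟨x0, ⟨hx0Y, hx0A⟩, hmin⟩ := Set.exists_min_image s (fun x => Nat.card ↥(A ⊔ cj x A)) (Set.toFinite s) hsn
  have hmapL : ∀ x : M, (A ⊔ cj x A).map π = A.map π ⊔ cj (π x) (A.map π) := by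
    intro x
    rw [Subgroup.map_sup]
    congr 1
    ext z
    constructor
    · rintro ⟨_, ⟨a, ha, rfl⟩, rfl⟩
      exact ⟨π a, ⟨a, ha, rfl⟩, by simp⟩
    · rintro ⟨_, ⟨a, ha, rfl⟩, rfl⟩
      exact ⟨x * a * x⁻¹, ⟨a, ha, rfl⟩, by simp⟩
  obtain ⟨l, hl, hlx⟩ : π x0 ∈ (A ⊔ cj x0 A).map π := by
    rw [hmapL]; exact hgen _ hx0Y hx0A hx0Y
  have hoc : (orderOf (π l)).Coprime p := by
    rw [hlx]
    exact Nat.Coprime.coprime_dvd_left (Subgroup.orderOf_dvd_natCard Y hx0Y) hYc
  obtain ⟨k, hk1, hk2⟩ := lift_coprime π l hoc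
  set x := l ^ k with hx
  have hπx : π x = π x0 := by rw [hk1, hlx]
  have hxL0 : x ∈ A ⊔ cj x0 A := pow_mem hl k
  have hxs : x ∈ s := by rw [hs, Set.mem_setOf_eq, hπx]; exact ⟨hx0Y, hx0A⟩
  have hLL : A ⊔ cj x A = A ⊔ cj x0 A := by
    have h1 : A ⊔ cj x A ≤ A ⊔ cj x0 A := by
      refine sup_le le_sup_left ?_
      rw [cj_le_iff_forall]
      intro a ha
      exact mul_mem (mul_mem hxL0 ((le_sup_left : A ≤ _) ha)) (inv_mem hxL0)
    exact H2.Card.eq_of_le_of_card_eq h1 (le_antisymm (Subgroup.card_le_of_le h1) (hmin x hxs))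
  have hxL : x ∈ A ⊔ cj x A := by rw [hLL]; exact hxL0
  have hYL : Y ≤ (A ⊔ cj x A).map π := by rw [hmapL]; exact hgen _ hxs.1 hxs.2
  have hxY : π x ∈ Y := hxs.1
  have hmapL2 := hmapL x
  clear hmapL hmin hLL hxL0
  set L := A ⊔ cj x A with hL
  have hAL : A ≤ L := le_sup_left
  have hApg : IsPGroup p ↥(A.map π) := hA.map π
  have hLYA : L.map π ≤ Y ⊔ A.map π := by
    rw [hmapL2]
    refine sup_le le_sup_right ?_
    rw [cj_le_iff_forall]
    intro a ha
    exact mul_mem (mul_mem ((le_sup_left : Y ≤ _) hxY) ((le_sup_right : A.map π ≤ _) ha))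
      (inv_mem ((le_sup_left : Y ≤ _) hxY))
  have hBLc : L.map π ≤ centralizer (B : Set (M ⧸ R)) :=
    hLYA.trans (sup_le hYB (fun a ha b hb => hcomm b (hBA hb) a ha))
  have hDY : pGen p L ≤ Y.comap π := by
    rw [pGen, closure_le]
    rintro g ⟨hg, ho⟩
    have h1 : π g ∈ Y ⊔ A.map π := hLYA ⟨g, hg, rfl⟩
    exact mem_left hAY (pow_mem_of_pgroup hApg) h1 (Nat.Coprime.coprime_dvd_left (orderOf_map_dvd π g) ho)
  have hxD : x ∈ pGen p L := mem_pGen hxL hk2
  have hDn : L ≤ normalizer (pGen p L : Set M) := le_normalizer.trans (normalizer_le_normalizer_pGen p L)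
  have hint : A ⊓ oP p L = A ⊓ B.comap π := by
    apply le_antisymm
    · refine le_inf inf_le_left ?_
      rintro a ⟨ha, hao⟩
      rw [mem_comap]
      by_contra hB
      -- the image of `oP p L` centralizes `Y`
      have hNL : L.map π ≤ normalizer ((oP p L).map π : Set (M ⧸ R)) := by
        rw [le_normalizer_iff_conj]
        rintro _ ⟨g, hg, rfl⟩ _ ⟨h, hh, rfl⟩
        refine ⟨g * h * g⁻¹, ?_, by simp⟩
        have h1 : g ∈ normalizer (oP p L : Set M) := le_normalizer_oP L (le_normalizer hg)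
        exact (mem_normalizer_iff.mp h1 h).mp hh
      have hNc : (oP p L).map π ≤ centralizer (Y : Set (M ⧸ R)) := by
        rw [← commutator_eq_bot_iff_le_centralizer, ← le_bot_iff]
        have hNle : (oP p L).map π ≤ L.map π := map_mono (map_subtype_le _)
        have h1 : ⁅(oP p L).map π, Y⁆ ≤ (oP p L).map π := commutator_le_left_of (hYL.trans hNL)
        have h2 : ⁅(oP p L).map π, Y⁆ ≤ Y := by
          rw [commutator_comm]
          exact commutator_le_left_of (hNle.trans (hLYA.trans (sup_le le_normalizer hAY)))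
        have h3 : IsPGroup p ↥((oP p L).map π) := (oP_isPGroup (p := p) L).map π
        intro z hz
        have h4 := h1 hz
        have h5 := h2 hz
        obtain ⟨m, hm⟩ := h3 ⟨z, h4⟩
        have hm' : z ^ (p ^ m) = 1 := by simpa using congrArg Subtype.val hm
        have h6 : orderOf z ∣ 1 := by
          rw [← (Nat.Coprime.pow_right m hYc : (Nat.card Y).Coprime (p ^ m))]
          exact Nat.dvd_gcd (Subgroup.orderOf_dvd_natCard Y h5) (orderOf_dvd_of_pow_eq_one hm')
        exact mem_bot.mpr (orderOf_eq_one_iff.mp (Nat.dvd_one.mp h6))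
      have h1 : π a ∈ centralizer (Y : Set (M ⧸ R)) := hNc ⟨a, hao, rfl⟩
      apply hYA
      -- `B ⊔ zpowers (π a) = A.map π`
      have h2 : B ⊔ zpowers (π a) = A.map π := by
        have hle : B ⊔ zpowers (π a) ≤ A.map π := sup_le hBA (by rw [zpowers_le]; exact ⟨a, ha, rfl⟩)
        have h3 : B.relIndex (B ⊔ zpowers (π a)) * (B ⊔ zpowers (π a)).relIndex (A.map π) = p := by
          exact (relIndex_mul_relIndex _ _ _ le_sup_left hle).trans hidx
        rcases (Nat.dvd_prime hp.out).mp (Dvd.intro_left _ h3) with h4 | h4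
        · exact le_antisymm hle (relIndex_eq_one.mp h4)
        · exfalso
          rw [h4] at h3
          have h5 : B.relIndex (B ⊔ zpowers (π a)) = 1 :=
            Nat.eq_of_mul_eq_mul_right hp.out.pos (by rw [h3, one_mul])
          apply hB
          exact relIndex_eq_one.mp h5 ((le_sup_right : zpowers (π a) ≤ _) (mem_zpowers _))
      rw [← h2]
      refine sup_le ?_ (by rw [zpowers_le]; exact h1)
      rw [le_centralizer_iff]; exact hYB
    · refine le_inf inf_le_left ?_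
      have h1 : L ⊓ B.comap π ≤ oP p L := by
        refine le_oP (p := p) ?_ inf_le_left ?_
        rotate_left
        · rw [le_normalizer_iff_conj]
          rintro g hg h ⟨hh1, hh2⟩
          refine ⟨L.mul_mem (L.mul_mem hg hh1) (L.inv_mem hg), ?_⟩
          change π h ∈ B at hh2
          change π (g * h * g⁻¹) ∈ B
          have h3 : π h * π g = π g * π h := hBLc ⟨g, hg, rfl⟩ _ hh2
          rw [map_mul, map_mul, map_inv, ← h3, mul_inv_cancel_right]
          exact hh2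
        · rintro ⟨h, hh1, hh2⟩
          change π h ∈ B at hh2
          have h3 : h ^ p ∈ R := by
            rw [← hker, map_pow]; exact hpow _ (hBA hh2)
          obtain ⟨m, hm⟩ := hRp ⟨h ^ p, h3⟩
          have hm' : (h ^ p) ^ (p ^ m) = 1 := by simpa using congrArg Subtype.val hm
          refine ⟨m + 1, Subtype.ext ?_⟩
          change h ^ (p ^ (m + 1)) = 1
          rw [pow_succ', pow_mul]; exact hm'
      exact (inf_le_inf_right _ hAL).trans h1
  refine ⟨x, hYK hxY, hxD, ?_, ?_, ?_, ?_⟩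
  · exact hDY.trans (comap_mono hYK)
  · apply le_antisymm
    · exact commutator_le_left_of (hAL.trans hDn)
    · have hA1 : A ≤ normalizer ((⁅pGen p L, A⁆ : Subgroup M) : Set M) := H22.Basic.right_le_normalizer_commutator _ _
      have hLle : L ≤ ⁅pGen p L, A⁆ ⊔ A := by
        rw [hL]
        refine sup_le le_sup_right ?_
        rw [cj_le_iff_forall]
        intro a ha
        have e1 : x * a * x⁻¹ = ⁅x, a⁆ * a := by rw [commutatorElement_def]; group
        rw [e1]
        exact mul_mem ((le_sup_left : ⁅pGen p L, A⁆ ≤ _) (commutator_mem_commutator hxD ha))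
          ((le_sup_right : A ≤ _) ha)
      conv_lhs => rw [pGen]
      rw [closure_le]
      rintro g ⟨hg, ho⟩
      exact mem_left hA1 (pow_mem_of_pgroup hA) (hLle hg) ho
  · rw [hint, inf_relIndex_left, relIndex_comap]
    exact hidx
  · rw [hint, commutator_le]
    rintro a ⟨ha, haB⟩ g hg
    rw [← hker, map_commutatorElement, commutatorElement_eq_one_iff_mul_comm]
    exact hBLc ⟨g, hg, rfl⟩ _ haB

end Cfsg.Agent.H18.SM
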