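import Mathlib
import Cfsg.Agent.H18_SM1
import Cfsg.Agent.H22_Basic
import Cfsg.Agent.H22_Gen
import Cfsg.Agent.H1_Coprime2

/-!
# Generation of fixed points of abelian groups acting coprimely on soluble groups
-/

set_option autoImplicit false
set_option linter.unusedSectionVars false
set_option linter.unusedSimpArgs false
set_option linter.style.haveILetI false

namespace Cfsg.Agent.H18.GF

open Subgroup Pointwise
open scoped commutatorElement
open Cfsg.Agent.H13.Syl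
open Cfsg.Agent.H18.KS (commutator_le_left_of mem_sup_of_norm le_normalizer_iff_conj)

variable {G : Type*} [Group G]

/-- `B₀ ≤ B` with `B / B₀` cyclic -/
def Co (B B₀ : Subgroup G) : Prop := B₀ ≤ B ∧ ∃ b ∈ B, B₀ ⊔ zpowers b = B

/-- the generated subgroup -/
def Th (A B Y : Subgroup G) : Subgroup G :=
  ⨆ B₀ : {B₀ : Subgroup G // Co B B₀},
    Y ⊓ centralizer (B : Set G) ⊓ ⁅Y ⊓ centralizer ((B₀ : Subgroup G) : Set G), A⁆

theorem le_Th {A B Y B₀ : Subgroup G} (h : Co B B₀) :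
    Y ⊓ centralizer (B : Set G) ⊓ ⁅Y ⊓ centralizer (B₀ : Set G), A⁆ ≤ Th A B Y :=
  le_iSup (fun B₀ : {B₀ : Subgroup G // Co B B₀} =>
    Y ⊓ centralizer (B : Set G) ⊓ ⁅Y ⊓ centralizer ((B₀ : Subgroup G) : Set G), A⁆) ⟨B₀, h⟩

theorem Th_le {A B Y : Subgroup G} : Th A B Y ≤ Y ⊓ centralizer (B : Set G) :=
  iSup_le fun _ => inf_le_left

theorem Co.self (B : Subgroup G) : Co B B := ⟨le_rfl, 1, B.one_mem, by simp⟩

theorem norm_iSup {ι : Sort*} {H : ι → Subgroup G} {x : G} (h : ∀ i, x ∈ normalizer (H i : Set G)) :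
    x ∈ normalizer ((⨆ i, H i : Subgroup G) : Set G) := by
  rw [mem_normalizer_iff_cj, cj, Subgroup.map_iSup]
  congr 1
  funext i
  exact mem_normalizer_iff_cj.mp (h i)

/-- hypotheses: an abelian group acting coprimely -/
structure Hyp (A B Y : Subgroup G) : Prop where
  comm : ∀ a ∈ A, ∀ b ∈ A, a * b = b * a
  cop : (Nat.card A).Coprime (Nat.card Y)
  BA : B ≤ A
  norm : A ≤ normalizer (Y : Set G)

theorem Hyp.solv {A B Y : Subgroup G} (h : Hyp A B Y) {C : Subgroup G} (hC : C ≤ A) : Group.IsSolvable C :=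
  Group.isSolvable_of_comm fun a b => Subtype.ext (h.comm a (hC a.2) b (hC b.2))

theorem Hyp.cop' [Finite G] {A B Y : Subgroup G} (h : Hyp A B Y) {C K : Subgroup G} (hC : C ≤ A) (hK : K ≤ Y) :
    (Nat.card C).Coprime (Nat.card K) :=
  Nat.Coprime.coprime_dvd_left (card_dvd_of_le hC) (Nat.Coprime.coprime_dvd_right (card_dvd_of_le hK) h.cop)

theorem Hyp.normC {A B Y : Subgroup G} (h : Hyp A B Y) {K C : Subgroup G} (hC : C ≤ A)
    (hK : A ≤ normalizer (K : Set G)) : A ≤ normalizer ((K ⊓ centralizer (C : Set G) : Subgroup G) : Set G) := by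
  rw [le_normalizer_iff_conj] at *
  intro a ha k hk
  refine ⟨hK a ha k hk.1, ?_⟩
  intro c hc
  have h1 := hk.2 c hc
  have h2 := h.comm a ha c (hC hc)
  calc c * (a * k * a⁻¹) = (c * a) * k * a⁻¹ := by group
    _ = (a * c) * k * a⁻¹ := by rw [h2]
    _ = a * (c * k) * a⁻¹ := by group
    _ = a * (k * c) * a⁻¹ := by rw [h1]
    _ = a * k * (a⁻¹ * (a * c) * a⁻¹) := by group
    _ = a * k * (a⁻¹ * (c * a) * a⁻¹) := by rw [h2]
    _ = a * k * a⁻¹ * c := by group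

theorem Hyp.dec [Finite G] {A B Y : Subgroup G} (h : Hyp A B Y) {C K : Subgroup G} (hC : C ≤ A) (hK : K ≤ Y)
    (hn : C ≤ normalizer (K : Set G)) {k : G} (hk : k ∈ K) :
    ∃ x ∈ ⁅K, C⁆, ∃ c ∈ K ⊓ centralizer (C : Set G), k = x * c :=
  H1.Coprime.exists_mul_of_coprime hn (h.cop' hC hK) (Or.inl (h.solv hC)) hk

/-- `[K, A]` is generated by the `[C_K(B₀), A]` -/
theorem Hyp.gen [Finite G] {A B Y : Subgroup G} (h : Hyp A B Y) {K L : Subgroup G} (hKY : K ≤ Y)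
    (hK : A ≤ normalizer (K : Set G)) (hL : ∀ B₀, Co B B₀ → ⁅K ⊓ centralizer (B₀ : Set G), A⁆ ≤ L) :
    ⁅K, A⁆ ≤ L := by
  classical
  set N : Subgroup G := ⨆ B₀ : {B₀ : Subgroup G // Co B B₀}, ⁅K ⊓ centralizer ((B₀ : Subgroup G) : Set G), A⁆ with hN
  have hNL : N ≤ L := iSup_le fun B₀ => hL B₀ B₀.2
  have hle : ∀ B₀, Co B B₀ → ⁅K ⊓ centralizer (B₀ : Set G), A⁆ ≤ N := fun B₀ h0 =>
    le_iSup (fun B₀ : {B₀ : Subgroup G // Co B B₀} => ⁅K ⊓ centralizer ((B₀ : Subgroup G) : Set G), A⁆) ⟨B₀, h0⟩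
  refine le_trans ?_ hNL
  have hAN : A ≤ normalizer (N : Set G) := fun a ha => norm_iSup fun B₀ =>
    H22.Basic.right_le_normalizer_commutator _ _ ha
  have hCN : K ⊓ centralizer (A : Set G) ≤ normalizer (N : Set G) := fun c hc => norm_iSup fun B₀ =>
    H22.Basic.left_le_normalizer_commutator _ _ ⟨hc.1, fun b hb => hc.2 b (h.BA (B₀.2.1 hb))⟩
  have hKL : K ≤ N ⊔ (K ⊓ centralizer (A : Set G)) := by
    apply H22.Gen.gen_cyclic (A := B) (fun a ha b hb => h.comm a (h.BA ha) b (h.BA hb)) (h.BA.trans hK) (h.cop' h.BA hKY)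
    intro B₀ hB₀ hb k hk
    obtain ⟨x, hx, c, hc, rfl⟩ := h.dec le_rfl (inf_le_left.trans hKY) (h.normC (hB₀.trans h.BA) hK) hk
    exact mul_mem (mem_sup_left (hle B₀ ⟨hB₀, hb⟩ hx)) (mem_sup_right ⟨hc.1.1, hc.2⟩)
  rw [commutator_le]
  intro k hk a ha
  obtain ⟨n, hn, c, hc, rfl⟩ := mem_sup_of_norm hCN (hKL hk)
  have h1 : c * a * c⁻¹ = a := by
    rw [← hc.2 a ha, mul_inv_cancel_right]
  have e1 : ⁅n * c, a⁆ = n * (a * n⁻¹ * a⁻¹) := by
    rw [commutatorElement_def]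
    calc n * c * a * (n * c)⁻¹ * a⁻¹ = n * (c * a * c⁻¹) * n⁻¹ * a⁻¹ := by group
      _ = n * (a * n⁻¹ * a⁻¹) := by rw [h1]; group
  rw [e1]
  exact mul_mem hn ((mem_normalizer_iff.mp (hAN ha) _).mp (inv_mem hn))

/-- the subgroup of elements acting trivially on `U / M` -/
theorem closed_of [Finite G] {U M Y : Subgroup G} (hMU : M ≤ U) (hYU : Y ≤ normalizer (U : Set G))
    {S : Set G} (hS : ∀ y ∈ S, ∀ x ∈ U, ⁅x, y⁆ ∈ M) (hY : Y ≤ closure S) : ⁅U, Y⁆ ≤ M := by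
  let N : Subgroup G :=
    { carrier := {y | y ∈ normalizer (M : Set G) ∧ ∀ x ∈ U, ⁅x, y⁆ ∈ M}
      one_mem' := ⟨one_mem _, fun r _ => by simp⟩
      mul_mem' := by
        rintro g h ⟨hg1, hg2⟩ ⟨hh1, hh2⟩
        refine ⟨mul_mem hg1 hh1, fun x hx => ?_⟩
        have e1 : ⁅x, g * h⁆ = ⁅x, g⁆ * (g * ⁅x, h⁆ * g⁻¹) := by
          simp only [commutatorElement_def]; group
        rw [e1]
        exact mul_mem (hg2 x hx) ((mem_normalizer_iff.mp hg1 _).mp (hh2 x hx))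
      inv_mem' := by
        rintro g ⟨hg1, hg2⟩
        refine ⟨inv_mem hg1, fun x hx => ?_⟩
        have e1 : ⁅x, g⁻¹⁆ = g⁻¹ * ⁅x, g⁆⁻¹ * g⁻¹⁻¹ := by
          simp only [commutatorElement_def]; group
        rw [e1]
        exact (mem_normalizer_iff.mp (inv_mem hg1) _).mp (inv_mem (hg2 x hx)) }
  have hSN : S ⊆ N := by
    intro y hy
    refine ⟨?_, hS y hy⟩
    apply mem_normalizer_fintype
    intro w hw
    have h1 := hS y hy w⁻¹ (inv_mem (hMU hw))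
    have h2 := mul_mem hw h1
    have e1 : w * ⁅w⁻¹, y⁆ = (y * w * y⁻¹) := by
      rw [commutatorElement_def]; group
    rw [e1] at h2
    exact h2
  rw [commutator_le]
  intro x hx y hy
  exact (((closure_le N).mpr hSN) (hY hy)).2 x hx

theorem Hyp.abelian_case [Finite G] {A B Y : Subgroup G} (h : Hyp A B Y) (hYA : ⁅Y, A⁆ = Y) {U : Subgroup G}
    (hUY : U ≤ Y) (hUc : ∀ x ∈ U, ∀ y ∈ U, x * y = y * x) (hAU : A ≤ normalizer (U : Set G))
    (hYU : Y ≤ normalizer (U : Set G)) (hU : ⁅U, Y⁆ = U) : U ⊓ centralizer (A : Set G) ≤ Th A B Y := by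
  classical
  set E := U ⊓ centralizer (A : Set G) ⊓ Th A B Y with hE
  have hUA : ⁅U, A⁆ ≤ U := commutator_le_left_of hAU
  set M := E ⊔ ⁅U, A⁆ with hM
  have hMU : M ≤ U := sup_le (inf_le_left.trans inf_le_left) hUA
  set S : Set G := ⋃ B₀ : {B₀ : Subgroup G // Co B B₀}, ((⁅Y ⊓ centralizer ((B₀ : Subgroup G) : Set G), A⁆ : Subgroup G) : Set G) with hS
  have hYS : Y ≤ closure S := by
    conv_lhs => rw [← hYA]
    apply h.gen le_rfl h.norm
    intro B₀ h0 x hx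
    apply Subgroup.subset_closure
    rw [hS, Set.mem_iUnion]
    exact ⟨⟨B₀, h0⟩, hx⟩
  have key : ⁅U, Y⁆ ≤ M := by
    apply closed_of hMU hYU _ hYS
    intro y hy x hx
    rw [hS, Set.mem_iUnion] at hy
    obtain ⟨⟨B₀, h0⟩, hy⟩ := hy
    change y ∈ ⁅Y ⊓ centralizer (B₀ : Set G), A⁆ at hy
    set X := ⁅Y ⊓ centralizer (B₀ : Set G), A⁆ with hX
    have hAYC := h.normC (h0.1.trans h.BA) h.norm
    have hXY : X ≤ Y ⊓ centralizer (B₀ : Set G) := commutator_le_left_of hAYC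
    have hB₀A : B₀ ≤ A := h0.1.trans h.BA
    obtain ⟨x₁, hx₁, x₀, hx₀, rfl⟩ := h.dec hB₀A hUY (hB₀A.trans hAU) hx
    have hx₁U : x₁ ∈ U := commutator_le_left_of (hB₀A.trans hAU) hx₁
    have hyU : ∀ u ∈ U, y * u * y⁻¹ ∈ U := fun u hu => (mem_normalizer_iff.mp (hYU (hXY hy).1) _).mp hu
    have e1 : ⁅x₁ * x₀, y⁆ = ⁅x₁, y⁆ * ⁅x₀, y⁆ := by
      have c1 : (x₀ * (y * x₀⁻¹ * y⁻¹)) * (y * x₁⁻¹ * y⁻¹) = (y * x₁⁻¹ * y⁻¹) * (x₀ * (y * x₀⁻¹ * y⁻¹)) :=
        hUc _ (mul_mem hx₀.1 (hyU _ (inv_mem hx₀.1))) _ (hyU _ (inv_mem hx₁U))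
      simp only [commutatorElement_def]
      calc x₁ * x₀ * y * (x₁ * x₀)⁻¹ * y⁻¹ = x₁ * ((x₀ * (y * x₀⁻¹ * y⁻¹)) * (y * x₁⁻¹ * y⁻¹)) := by group
        _ = x₁ * ((y * x₁⁻¹ * y⁻¹) * (x₀ * (y * x₀⁻¹ * y⁻¹))) := by rw [c1]
        _ = x₁ * y * x₁⁻¹ * y⁻¹ * (x₀ * y * x₀⁻¹ * y⁻¹) := by group
    rw [e1]
    refine mul_mem ?_ ?_
    · -- the part in `[U, B₀]`
      have hyn : y ∈ normalizer ((⁅U, B₀⁆ : Subgroup G) : Set G) := by
        have hyU' : zpowers y ≤ normalizer (U : Set G) := by rw [zpowers_le]; exact hYU (hXY hy).1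
        have hyB : zpowers y ≤ normalizer (B₀ : Set G) := by
          rw [zpowers_le]
          exact centralizer_le_normalizer _ (hXY hy).2
        exact H1.Coprime.le_normalizer_commutator_of hyU' hyB (mem_zpowers y)
      have h1 : ⁅x₁, y⁆ ∈ ⁅U, B₀⁆ := by
        have e2 : ⁅x₁, y⁆ = x₁ * (y * x₁⁻¹ * y⁻¹) := by rw [commutatorElement_def]; group
        rw [e2]
        exact mul_mem hx₁ ((mem_normalizer_iff.mp hyn _).mp (inv_mem hx₁))
      exact (le_sup_right : ⁅U, A⁆ ≤ M) (commutator_mono le_rfl hB₀A h1)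
    · have h1 : ⁅x₀, y⁆ ∈ U ⊓ X := by
        constructor
        · have e2 : ⁅x₀, y⁆ = x₀ * (y * x₀⁻¹ * y⁻¹) := by rw [commutatorElement_def]; group
          rw [e2]; exact mul_mem hx₀.1 (hyU _ (inv_mem hx₀.1))
        · have hxn : x₀ ∈ normalizer (X : Set G) :=
            H22.Basic.left_le_normalizer_commutator _ _ ⟨hUY hx₀.1, hx₀.2⟩
          rw [commutatorElement_def]
          exact X.mul_mem ((mem_normalizer_iff.mp hxn _).mp hy) (X.inv_mem hy)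
      have hAX : A ≤ normalizer (X : Set G) := H22.Basic.right_le_normalizer_commutator _ _
      have hAUX : A ≤ normalizer ((U ⊓ X : Subgroup G) : Set G) := by
        rw [le_normalizer_iff_conj] at *
        exact fun a ha k hk => ⟨hAU a ha k hk.1, hAX a ha k hk.2⟩
      obtain ⟨d, hd, c, hc, hdc⟩ := h.dec le_rfl (inf_le_left.trans hUY) hAUX h1
      rw [hdc]
      refine mul_mem ((le_sup_right : ⁅U, A⁆ ≤ M) (commutator_mono inf_le_left le_rfl hd)) ?_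
      refine (le_sup_left : E ≤ M) ⟨⟨hc.1.1, hc.2⟩, ?_⟩
      exact le_Th h0 ⟨⟨hUY hc.1.1, fun b hb => hc.2 b (h.BA hb)⟩, hc.1.2⟩
  rw [hU] at key
  intro c hc
  have hEn : ⁅U, A⁆ ≤ normalizer (E : Set G) := by
    rw [le_normalizer_iff_conj]
    intro u hu e he
    rw [hUc u (hUA hu) e he.1.1, mul_inv_cancel_right]; exact he
  obtain ⟨e, he, w, hw, hce⟩ := mem_sup_of_norm hEn (key hc.1)
  have hw1 : w ∈ (U ⊓ centralizer (A : Set G)) ⊓ ⁅U, A⁆ := by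
    refine ⟨⟨hUA hw, ?_⟩, hw⟩
    have : w = e⁻¹ * c := by rw [hce]; group
    rw [this]
    exact (centralizer (A : Set G)).mul_mem ((centralizer (A : Set G)).inv_mem he.1.2) hc.2
  haveI : IsMulCommutative U := ⟨⟨fun x y => Subtype.ext (hUc x x.2 y y.2)⟩⟩
  rw [H1.Coprime.inf_commutator_eq_bot_of_abelian A U hAU (h.cop' le_rfl hUY), mem_bot] at hw1
  rw [hce, hw1, mul_one]
  exact he.2

end Cfsg.Agent.H18.GF
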