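import Mathlib
import Cfsg.Agent.H18_GF1

/-!
# Generation of fixed points of abelian groups acting coprimely on soluble groups, II
-/

set_option autoImplicit false
set_option linter.unusedSectionVars false
set_option linter.unusedSimpArgs false
set_option linter.style.haveILetI false

namespace Cfsg.Agent.H18.GF

open Subgroup Pointwise
open scoped commutatorElement
open Cfsg.Agent.H13.Syl
open Cfsg.Agent.H18.KS (commutator_le_left_of mem_sup_of_norm le_normalizer_iff_conj)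

variable {G : Type*} [Group G]

/-- a central subgroup of prime order obtained as a commutator -/
theorem Hyp.central_case [Finite G] {A B Y : Subgroup G} (h : Hyp A B Y) {W T V : Subgroup G}
    (hWY : W ≤ Y) (hAW : A ≤ normalizer (W : Set G)) (hTY : T ≤ Y) (hAT : A ≤ normalizer (T : Set G))
    (hV : ∀ v ∈ V, ∀ g ∈ Y ⊔ A, v * g = g * v) (hVp : (Nat.card V).Prime)
    (hWT : ⁅W, T⁆ ≤ V) (hne : ¬ ⁅⁅W, A⁆, T⁆ = ⊥) : V ≤ Th A B Y := by
  classical
  by_contra hcon
  apply hne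
  rw [commutator_eq_bot_iff_le_centralizer]
  apply h.gen hWY hAW
  intro B₀ h0 x hx t ht
  by_contra hxt
  apply hcon
  have hB₀A : B₀ ≤ A := h0.1.trans h.BA
  have hxW : x ∈ W ⊓ centralizer (B₀ : Set G) := commutator_le_left_of (h.normC hB₀A hAW) hx
  obtain ⟨r, hr, c, hc, rfl⟩ := h.dec hB₀A hTY (hB₀A.trans hAT) ht
  have hTW : ∀ t ∈ T, ∃ v ∈ V, t⁻¹ * x * t = x * v := by
    intro t ht
    refine ⟨x⁻¹ * (t⁻¹ * x * t), ?_, by group⟩
    have := hWT (commutator_mem_commutator (inv_mem hxW.1) (inv_mem ht))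
    rw [commutatorElement_def] at this
    convert this using 1
    group
  -- `[T, B₀]` centralizes `x`
  have hrx : r ∈ centralizer ({x} : Set G) := by
    have h1 : ⁅T, B₀⁆ ≤ centralizer ({x} : Set G) := by
      rw [commutator_le]
      intro t ht b hb
      rw [mem_centralizer_singleton_iff]
      obtain ⟨v, hv, hvx⟩ := hTW t ht
      have c1 : b * x = x * b := hxW.2 b hb
      have c2 : v * b = b * v := hV v hv b (mem_sup_right (hB₀A hb))
      have e1 : b * (x * v) * b⁻¹ = x * v := by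
        calc b * (x * v) * b⁻¹ = (b * x) * v * b⁻¹ := by group
          _ = x * (b * v) * b⁻¹ := by rw [c1]; group
          _ = x * v := by rw [← c2]; group
      have e2 : b⁻¹ * x * b = x := by
        calc b⁻¹ * x * b = b⁻¹ * (x * b) := by group
          _ = x := by rw [← c1]; group
      have e3 : ⁅t, b⁆ * x * ⁅t, b⁆⁻¹ = x := by
        calc ⁅t, b⁆ * x * ⁅t, b⁆⁻¹ = t * (b * (t⁻¹ * (b⁻¹ * x * b) * t) * b⁻¹) * t⁻¹ := by
              rw [commutatorElement_def]; group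
          _ = t * (b * (x * v) * b⁻¹) * t⁻¹ := by rw [e2, hvx]
          _ = t * (x * v) * t⁻¹ := by rw [e1]
          _ = t * (t⁻¹ * x * t) * t⁻¹ := by rw [hvx]
          _ = x := by group
      calc ⁅t, b⁆ * x = (⁅t, b⁆ * x * ⁅t, b⁆⁻¹) * ⁅t, b⁆ := by group
        _ = x * ⁅t, b⁆ := by rw [e3]
    exact h1 hr
  rw [mem_centralizer_singleton_iff] at hrx
  -- the commutator of `x` and `c`
  have hcx : c * x * c⁻¹ * x⁻¹ ≠ 1 := by
    intro h1
    apply hxt
    have e1 : c * x = x * c := by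
      calc c * x = (c * x * c⁻¹ * x⁻¹) * (x * c) := by group
        _ = x * c := by rw [h1, one_mul]
    calc r * c * x = r * (c * x) := by group
      _ = r * x * c := by rw [e1]; group
      _ = x * (r * c) := by rw [hrx]; group
  have hcV : c * x * c⁻¹ * x⁻¹ ∈ V := by
    have h1 := hWT (commutator_mem_commutator hxW.1 hc.1)
    have h2 := inv_mem h1
    rw [commutatorElement_def] at h2
    convert h2 using 1
    group
  have hcX : c * x * c⁻¹ * x⁻¹ ∈ ⁅Y ⊓ centralizer (B₀ : Set G), A⁆ := by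
    have hxX : x ∈ ⁅Y ⊓ centralizer (B₀ : Set G), A⁆ := commutator_mono (inf_le_inf_right _ hWY) le_rfl hx
    have hcn : c ∈ normalizer ((⁅Y ⊓ centralizer (B₀ : Set G), A⁆ : Subgroup G) : Set G) :=
      H22.Basic.left_le_normalizer_commutator _ _ ⟨hTY hc.1, hc.2⟩
    exact mul_mem ((mem_normalizer_iff.mp hcn _).mp hxX) (inv_mem hxX)
  have hVX : V ≤ ⁅Y ⊓ centralizer (B₀ : Set G), A⁆ := by
    have h1 : V ⊓ ⁅Y ⊓ centralizer (B₀ : Set G), A⁆ = V := by
      have h2 : Nat.card ↥(V ⊓ ⁅Y ⊓ centralizer (B₀ : Set G), A⁆ : Subgroup G) ∣ Nat.card V := card_dvd_of_le inf_le_left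
      rcases (Nat.dvd_prime hVp).mp h2 with h3 | h3
      · exfalso
        rw [card_eq_one] at h3
        have h4 : c * x * c⁻¹ * x⁻¹ ∈ V ⊓ ⁅Y ⊓ centralizer (B₀ : Set G), A⁆ := ⟨hcV, hcX⟩
        rw [h3, mem_bot] at h4
        exact hcx h4
      · exact Subgroup.eq_of_le_of_card_ge inf_le_left h3.ge
    rw [← h1]; exact inf_le_right
  have hAYC := h.normC hB₀A h.norm
  intro v hv
  refine le_Th h0 ⟨⟨(commutator_le_left_of hAYC (hVX hv)).1, fun b hb => ?_⟩, hVX hv⟩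
  exact (hV v hv b (mem_sup_right (h.BA hb))).symm

/-- lifting fixed points -/
theorem lift_fixed [Finite G] {M : Subgroup G} [M.Normal] {K P : Subgroup G} (hP : Group.IsSolvable P)
    (hcop : (Nat.card P).Coprime (Nat.card M)) (hPK : P ≤ normalizer (K : Set G)) :
    K.map (QuotientGroup.mk' M) ⊓ centralizer ((P.map (QuotientGroup.mk' M) : Subgroup (G ⧸ M)) : Set (G ⧸ M)) ≤
      (K ⊓ centralizer (P : Set G)).map (QuotientGroup.mk' M) := by
  rintro _ ⟨⟨k, hk, rfl⟩, hc⟩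
  have h1 : P ≤ normalizer ((M ⊓ K : Subgroup G) : Set G) := by
    rw [le_normalizer_iff_conj] at *
    exact fun x hx m hm => ⟨(inferInstance : M.Normal).conj_mem m hm.1 x, hPK x hx m hm.2⟩
  have h2 : (Nat.card P).Coprime (Nat.card ↥(M ⊓ K : Subgroup G)) :=
    Nat.Coprime.coprime_dvd_right (card_dvd_of_le inf_le_left) hcop
  obtain ⟨d, hd, hkd⟩ := H1.Coprime.exists_mul_mem_centralizer h1 h2 (Or.inl hP) k (by
    intro a ha
    refine ⟨?_, K.mul_mem (K.inv_mem hk) ((mem_normalizer_iff.mp (hPK ha) _).mp hk)⟩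
    have h3 := hc (QuotientGroup.mk' M a) ⟨a, ha, rfl⟩
    apply (QuotientGroup.eq_one_iff (N := M) _).mp
    change QuotientGroup.mk' M _ = 1
    rw [map_mul, map_mul, map_mul, map_inv, map_inv, h3]
    group)
  refine ⟨k * d, ⟨mul_mem hk hd.2, hkd⟩, ?_⟩
  rw [map_mul]
  have : QuotientGroup.mk' M d = 1 := by
    rw [← MonoidHom.mem_ker, QuotientGroup.ker_mk']; exact hd.1
  rw [this, mul_one]

theorem map_Th [Finite G] {A B Y : Subgroup G} (h : Hyp A B Y) (M : Subgroup G) [hM : M.Normal] (hMY : M ≤ Y) :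
    Th (A.map (QuotientGroup.mk' M)) (B.map (QuotientGroup.mk' M)) (Y.map (QuotientGroup.mk' M)) ≤
      (Th A B Y).map (QuotientGroup.mk' M) := by
  classical
  set f := QuotientGroup.mk' M with hf
  refine iSup_le ?_
  rintro ⟨D, hDB, b', hb', hDb⟩
  obtain ⟨b, hb, rfl⟩ := hb'
  set B₀ := B ⊓ D.comap f with hB₀
  have hfB₀ : B₀.map f = D := by
    apply le_antisymm
    · rw [map_le_iff_le_comap]; exact inf_le_right
    · intro d hd
      obtain ⟨x, hx, rfl⟩ := hDB hd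
      exact ⟨x, ⟨hx, hd⟩, rfl⟩
  have hBc : ∀ x ∈ B, ∀ y ∈ B, x * y = y * x := fun x hx y hy => h.comm x (h.BA hx) y (h.BA hy)
  have hCo : Co B B₀ := by
    refine ⟨inf_le_left, b, hb, le_antisymm (sup_le inf_le_left (by rwa [zpowers_le])) ?_⟩
    intro x hx
    have h1 : f x ∈ D ⊔ zpowers (f b) := by rw [hDb]; exact ⟨x, hx, rfl⟩
    have hn : zpowers (f b) ≤ normalizer (D : Set (G ⧸ M)) := by
      rw [le_normalizer_iff_conj]
      intro y hy d hd
      obtain ⟨i, rfl⟩ := mem_zpowers_iff.mp hy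
      obtain ⟨e, he, rfl⟩ := hDB hd
      have : f b ^ i * f e * (f b ^ i)⁻¹ = f e := by
        rw [← map_zpow, ← map_inv, ← map_mul, ← map_mul, hBc _ (zpow_mem hb i) _ he, mul_inv_cancel_right]
      rw [this]; exact hd
    obtain ⟨d, hd, y, hy, hxy⟩ := mem_sup_of_norm hn h1
    obtain ⟨i, rfl⟩ := mem_zpowers_iff.mp hy
    have h2 : x * (b ^ i)⁻¹ ∈ B₀ := by
      refine ⟨B.mul_mem hx (B.inv_mem (B.zpow_mem hb i)), ?_⟩
      change f (x * (b ^ i)⁻¹) ∈ D
      rw [map_mul, hxy, map_inv, map_zpow, mul_inv_cancel_right]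
      exact hd
    have h3 : x = (x * (b ^ i)⁻¹) * b ^ i := by group
    rw [h3]
    exact mul_mem (mem_sup_left h2) (mem_sup_right (zpow_mem (mem_zpowers b) i))
  have hB₀A : B₀ ≤ A := inf_le_left.trans h.BA
  rintro y ⟨⟨-, hy2⟩, hy3⟩
  have h1 : Y.map f ⊓ centralizer (D : Set (G ⧸ M)) ≤ (Y ⊓ centralizer (B₀ : Set G)).map f := by
    rw [← hfB₀]
    exact lift_fixed (h.solv hB₀A) (h.cop' hB₀A hMY) (hB₀A.trans h.norm)
  have h2 : y ∈ (⁅Y ⊓ centralizer (B₀ : Set G), A⁆).map f := by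
    rw [map_commutator]
    exact commutator_mono h1 le_rfl hy3
  have hAX : A ≤ normalizer ((⁅Y ⊓ centralizer (B₀ : Set G), A⁆ : Subgroup G) : Set G) :=
    H22.Basic.right_le_normalizer_commutator _ _
  obtain ⟨z, hz, rfl⟩ := lift_fixed (K := ⁅Y ⊓ centralizer (B₀ : Set G), A⁆) (P := B) (h.solv h.BA) (h.cop' h.BA hMY)
    (h.BA.trans hAX) ⟨h2, hy2⟩
  refine ⟨z, le_Th hCo ⟨⟨?_, hz.2⟩, hz.1⟩, rfl⟩
  exact (commutator_le_left_of (h.normC hB₀A h.norm) hz.1).1

theorem Hyp.map [Finite G] {A B Y : Subgroup G} (h : Hyp A B Y) (M : Subgroup G) [hM : M.Normal] :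
    Hyp (A.map (QuotientGroup.mk' M)) (B.map (QuotientGroup.mk' M)) (Y.map (QuotientGroup.mk' M)) where
  comm := by
    rintro _ ⟨a, ha, rfl⟩ _ ⟨b, hb, rfl⟩
    rw [← map_mul, h.comm a ha b hb, map_mul]
  cop := Nat.Coprime.coprime_dvd_left (card_map_dvd _ _) (Nat.Coprime.coprime_dvd_right (card_map_dvd _ _) h.cop)
  BA := map_mono h.BA
  norm := (map_mono h.norm).trans (le_normalizer_map _)

theorem quot_step [Finite G] {A B Y : Subgroup G} (h : Hyp A B Y) (M : Subgroup G) [hM : M.Normal] (hMY : M ≤ Y)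
    (hq : Y.map (QuotientGroup.mk' M) ⊓ centralizer ((B.map (QuotientGroup.mk' M) : Subgroup (G ⧸ M)) : Set (G ⧸ M)) ≤
      Th (A.map (QuotientGroup.mk' M)) (B.map (QuotientGroup.mk' M)) (Y.map (QuotientGroup.mk' M))) :
    ∀ y ∈ Y ⊓ centralizer (B : Set G), ∃ t ∈ Th A B Y, ∃ m ∈ M ⊓ (Y ⊓ centralizer (B : Set G)), y = t * m := by
  intro y hy
  have h1 : QuotientGroup.mk' M y ∈ Y.map (QuotientGroup.mk' M) ⊓
      centralizer ((B.map (QuotientGroup.mk' M) : Subgroup (G ⧸ M)) : Set (G ⧸ M)) := by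
    refine ⟨⟨y, hy.1, rfl⟩, ?_⟩
    rintro _ ⟨b, hb, rfl⟩
    rw [← map_mul, hy.2 b hb, map_mul]
  obtain ⟨t, ht, hty⟩ := map_Th h M hMY (hq h1)
  have ht' := Th_le ht
  refine ⟨t, ht, t⁻¹ * y, ⟨?_, ?_⟩, by group⟩
  · apply (QuotientGroup.eq_one_iff (N := M) _).mp
    change QuotientGroup.mk' M _ = 1
    rw [map_mul, map_inv, hty, inv_mul_cancel]
  · exact (Y ⊓ centralizer (B : Set G)).mul_mem ((Y ⊓ centralizer (B : Set G)).inv_mem ht') hy

end Cfsg.Agent.H18.GF
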