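import Mathlib
import Cfsg.Agent.H18_GF2

/-!
# Generation of fixed points of abelian groups acting coprimely on soluble groups, III
-/

set_option autoImplicit false
set_option linter.unusedSectionVars false
set_option linter.unusedSimpArgs false
set_option linter.style.haveILetI false

namespace Cfsg.Agent.H18.GF

open Subgroup Pointwise
open scoped commutatorElement
open Cfsg.Agent.H13.Syl
open Cfsg.Agent.H18.KS (commutator_le_left_of mem_sup_of_norm le_normalizer_iff_conj)

universe u

theorem perfect_bot {G : Type u} [Group G] {K Y : Subgroup G} (hY : Group.IsSolvable Y) (hKY : K ≤ Y)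
    (hK : ⁅K, K⁆ = K) : K = ⊥ := by
  by_contra hne
  set K' := K.subgroupOf Y with hK'
  have h1 : K'.map Y.subtype = K := by rw [hK', subgroupOf_map_subtype, inf_eq_left.mpr hKY]
  have hne' : K' ≠ ⊥ := by
    intro h
    rw [h, Subgroup.map_bot] at h1
    exact hne h1.symm
  have h2 := Group.IsSolvable.commutator_lt_of_ne_bot (G := Y) hne'
  apply h2.ne
  apply map_injective Y.subtype_injective
  rw [map_commutator, h1, hK]

theorem main_top (n : ℕ) : ∀ {G : Type u} [Group G] [Finite G] (A B Y : Subgroup G), Nat.card G = n →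
    Hyp A B Y → ⁅Y, A⁆ = Y → Y ⊔ A = ⊤ → Group.IsSolvable Y → Y ⊓ centralizer (B : Set G) ≤ Th A B Y := by
  induction n using Nat.strong_induction_on with
  | _ n ih =>
  intro G _ _ A B Y hn h hYA htop hsol
  classical
  by_contra hcon
  have hYn : Y.Normal := by
    rw [← normalizer_eq_top_iff, eq_top_iff, ← htop]
    exact sup_le le_normalizer h.norm
  have normal_of : ∀ {N : Subgroup G}, Y ≤ normalizer (N : Set G) → A ≤ normalizer (N : Set G) → N.Normal := by
    intro N h1 h2
    rw [← normalizer_eq_top_iff, eq_top_iff, ← htop]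
    exact sup_le h1 h2
  -- quotients
  have step : ∀ M : Subgroup G, M.Normal → M ≤ Y → M ≠ ⊥ →
      ∀ y ∈ Y ⊓ centralizer (B : Set G), ∃ t ∈ Th A B Y, ∃ m ∈ M ⊓ (Y ⊓ centralizer (B : Set G)), y = t * m := by
    intro M hM hMY hMne
    apply quot_step h M hMY
    have hcard : Nat.card (G ⧸ M) < n := by
      rw [← hn, Subgroup.card_eq_card_quotient_mul_card_subgroup M]
      have h1 : 1 < Nat.card M := one_lt_card_iff_ne_bot M |>.mpr hMne
      have h2 : 0 < Nat.card (G ⧸ M) := Nat.card_pos
      nlinarith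
    refine ih _ hcard _ _ _ rfl (h.map M) ?_ ?_ ?_
    · rw [← map_commutator, hYA]
    · rw [← Subgroup.map_sup, htop, Subgroup.map_top_of_surjective _ (QuotientGroup.mk'_surjective M)]
    · exact Group.isSolvable_of_surjective (f := (QuotientGroup.mk' M).subgroupMap Y)
        ((QuotientGroup.mk' M).subgroupMap_surjective Y)
  have h0 : ∀ M : Subgroup G, M.Normal → M ≤ Y → M ≠ ⊥ → ¬ (M ⊓ centralizer (A : Set G) ≤ Th A B Y) := by
    intro M hM hMY hMne hle
    apply hcon
    intro y hy
    obtain ⟨t, ht, m, hm, rfl⟩ := step M hM hMY hMne y hy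
    refine mul_mem ht ?_
    have hAM : A ≤ normalizer (M : Set G) := by rw [normalizer_eq_top]; exact le_top
    obtain ⟨x, hx, c, hc, rfl⟩ := h.dec le_rfl (inf_le_left.trans hMY) (h.normC h.BA hAM) ⟨hm.1, hm.2.2⟩
    refine mul_mem ?_ (hle ⟨hc.1.1, hc.2⟩)
    have hxM : x ∈ M ⊓ centralizer (B : Set G) := commutator_le_left_of (h.normC h.BA hAM) hx
    exact le_Th (Co.self B) ⟨⟨hMY hxM.1, hxM.2⟩, commutator_mono (inf_le_inf_right _ hMY) le_rfl hx⟩
  have hYne : Y ≠ ⊥ := by
    intro hb
    apply hcon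
    rw [hb, bot_inf_eq]; exact bot_le
  set Z₀ := Y ⊓ center G with hZ₀
  have hZcen : ∀ z ∈ Z₀, ∀ g : G, z * g = g * z := fun z hz g => (mem_center_iff.mp hz.2 g).symm
  have normal_of_le_center : ∀ N : Subgroup G, N ≤ center G → N.Normal := by
    intro N hN
    refine ⟨fun x hx g => ?_⟩
    rw [mem_center_iff.mp (hN hx) g, mul_inv_cancel_right]; exact hx
  have hZTh : Z₀ ⊓ Th A B Y = ⊥ := by
    by_contra hne
    exact h0 _ (normal_of_le_center _ (inf_le_left.trans inf_le_right)) (inf_le_left.trans inf_le_left) hne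
      (inf_le_left.trans inf_le_right)
  -- minimal normal subgroups are central
  have hmin : ∀ N : Subgroup G, N.Normal → N ≤ Y → N ≠ ⊥ → N ⊓ Z₀ ≠ ⊥ := by
    intro N hN hNY hNne
    set s : Set (Subgroup G) := {U | U.Normal ∧ U ≤ N ∧ U ≠ ⊥} with hs
    obtain ⟨U, hU⟩ := (Set.toFinite s).exists_minimal ⟨N, hN, le_rfl, hNne⟩
    obtain ⟨⟨hUn, hUN, hUne⟩, hUmin⟩ := hU
    have hUY := hUN.trans hNY
    have dich : ∀ X : Subgroup G, X.Normal → X ≤ U → X = ⊥ ∨ X = U := by
      intro X hX hXU
      by_cases hb : X = ⊥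
      · exact Or.inl hb
      · exact Or.inr (le_antisymm hXU (hUmin (show X ∈ s from ⟨hX, hXU.trans hUN, hb⟩) hXU))
    have hAU : A ≤ normalizer (U : Set G) := by rw [normalizer_eq_top]; exact le_top
    have hYU : Y ≤ normalizer (U : Set G) := by rw [normalizer_eq_top]; exact le_top
    have hUab : ⁅U, U⁆ = ⊥ := by
      rcases dich ⁅U, U⁆ inferInstance (commutator_le_left U U) with h1 | h1
      · exact h1
      · exact absurd (perfect_bot hsol hUY h1) hUne
    have hUc : ∀ x ∈ U, ∀ y ∈ U, x * y = y * x := by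
      intro x hx y hy
      exact ((commutator_eq_bot_iff_le_centralizer.mp hUab) hx y hy).symm
    have h1 : ⁅U, Y⁆ = ⊥ := by
      rcases dich ⁅U, Y⁆ inferInstance (commutator_le_left U Y) with h1 | h1
      · exact h1
      · exact absurd (h.abelian_case hYA hUY hUc hAU hYU h1) (h0 U hUn hUY hUne)
    have h2 : ⁅U, A⁆ = ⊥ := by
      have hn : (⁅U, A⁆ : Subgroup G).Normal := by
        apply normal_of
        · have h3 : ⁅U, A⁆ ≤ centralizer (Y : Set G) :=
            (commutator_le_left_of hAU).trans (commutator_eq_bot_iff_le_centralizer.mp h1)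
          rw [le_normalizer_iff_conj]
          intro y hy x hx
          rw [h3 hx y hy, mul_inv_cancel_right]; exact hx
        · exact H22.Basic.right_le_normalizer_commutator _ _
      rcases dich ⁅U, A⁆ hn (commutator_le_left_of hAU) with h3 | h3
      · exact h3
      · exfalso
        haveI : IsMulCommutative U := ⟨⟨fun x y => Subtype.ext (hUc x x.2 y y.2)⟩⟩
        have h4 := H1.Coprime.inf_commutator_eq_bot_of_abelian A U hAU (h.cop' le_rfl hUY)
        rw [h3, inf_right_comm, inf_idem] at h4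
        exact h0 U hUn hUY hUne (by rw [h4]; exact bot_le)
    have hUZ : U ≤ Z₀ := by
      refine le_inf hUY ?_
      intro x hx
      rw [mem_center_iff]
      intro g
      have hg : g ∈ centralizer ({x} : Set G) := by
        have : (⊤ : Subgroup G) ≤ centralizer ({x} : Set G) := by
          rw [← htop]
          refine sup_le ?_ ?_
          · intro y hy
            rw [mem_centralizer_singleton_iff]
            exact (commutator_eq_bot_iff_le_centralizer.mp h1) hx y hy
          · intro y hy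
            rw [mem_centralizer_singleton_iff]
            exact (commutator_eq_bot_iff_le_centralizer.mp h2) hx y hy
        exact this (mem_top g)
      rwa [mem_centralizer_singleton_iff] at hg
    intro hb
    apply hUne
    rw [eq_bot_iff, ← hb]
    exact le_inf hUN hUZ
  -- `Z₀` has prime order
  have hZne : Z₀ ≠ ⊥ := by
    have := hmin Y hYn le_rfl hYne
    rwa [inf_eq_right.mpr (inf_le_left : Z₀ ≤ Y)] at this
  have hZp : (Nat.card Z₀).Prime := by
    obtain ⟨q, hq, hqd⟩ := Nat.exists_prime_and_dvd (n := Nat.card Z₀) (by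
      intro h1; exact hZne ((card_eq_one).mp h1))
    haveI : Fact q.Prime := ⟨hq⟩
    obtain ⟨z, hz⟩ := exists_prime_orderOf_dvd_card' q hqd
    set V := zpowers (z : G) with hV
    have hVZ : V ≤ Z₀ := by rw [hV, zpowers_le]; exact z.2
    have hVc : Nat.card V = q := by rw [hV, Nat.card_zpowers, orderOf_coe, hz]
    have hVne : V ≠ ⊥ := by
      intro hb
      rw [hb, card_bot] at hVc
      exact hq.one_lt.ne hVc
    have hZV : Z₀ ≤ V := by
      intro y hy
      obtain ⟨t, ht, m, hm, hym⟩ := step V (normal_of_le_center _ (hVZ.trans inf_le_right)) (hVZ.trans inf_le_left)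
        hVne y ⟨hy.1, fun b _ => (hZcen y hy b).symm⟩
      have htZ : t ∈ Z₀ ⊓ Th A B Y := by
        refine ⟨?_, ht⟩
        have : t = y * m⁻¹ := by rw [hym]; group
        rw [this]
        exact Z₀.mul_mem hy (Z₀.inv_mem (hVZ hm.1))
      rw [hZTh, mem_bot] at htZ
      rw [hym, htZ, one_mul]
      exact hm.1
    rw [le_antisymm hZV hVZ, hVc]
    exact hq
  have hmem : ∀ N : Subgroup G, N.Normal → N ≤ Y → N ≠ ⊥ → Z₀ ≤ N := by
    intro N hN hNY hNne
    have h1 := hmin N hN hNY hNne
    have h2 : Nat.card ↥(N ⊓ Z₀ : Subgroup G) ∣ Nat.card Z₀ := card_dvd_of_le inf_le_right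
    rcases (Nat.dvd_prime hZp).mp h2 with h3 | h3
    · exact absurd (card_eq_one.mp h3) h1
    · have h4 : N ⊓ Z₀ = Z₀ := Subgroup.eq_of_le_of_card_ge inf_le_right h3.ge
      rw [← h4]; exact inf_le_left
  have hfin : ¬ Z₀ ≤ Th A B Y := by
    intro h1
    rw [inf_eq_left.mpr h1] at hZTh
    exact hZne hZTh
  have hZA : Z₀ ≤ centralizer (A : Set G) := fun z hz a _ => (hZcen z hz a).symm
  have hZn : Z₀.Normal := normal_of_le_center _ inf_le_right
  -- the second term
  have hYZ : ¬ Y ≤ Z₀ := by
    intro h1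
    apply hYne
    rw [← hYA, commutator_eq_bot_iff_le_centralizer]
    exact h1.trans hZA
  obtain ⟨W, hW⟩ := (Set.toFinite {W : Subgroup G | W.Normal ∧ Z₀ ≤ W ∧ W ≤ Y ∧ ¬ W ≤ Z₀}).exists_minimal
    ⟨Y, hYn, inf_le_left, le_rfl, hYZ⟩
  obtain ⟨⟨hWn, hZW, hWY, hWZ⟩, hWmin⟩ := hW
  have dich : ∀ N : Subgroup G, N.Normal → Z₀ ≤ N → N ≤ W → N ≤ Z₀ ∨ N = W := by
    intro N hN h1 h2
    by_cases h3 : N ≤ Z₀
    · exact Or.inl h3
    · exact Or.inr (le_antisymm h2 (hWmin ⟨hN, h1, h2.trans hWY, h3⟩ h2))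
  have hAW : A ≤ normalizer (W : Set G) := by rw [normalizer_eq_top]; exact le_top
  have hWAne : ⁅W, A⁆ ≠ ⊥ := by
    intro hb
    have h1 : ⁅Y, W⁆ = ⊥ := by
      rw [← hYA, commutator_comm Y A]
      apply commutator_commutator_eq_bot_of_rotate
      · rw [eq_bot_iff, ← hb]
        exact commutator_mono (commutator_le_right Y W |>.trans le_rfl) le_rfl
      · rw [hb, commutator_bot_left]
    apply hWZ
    refine le_inf hWY ?_
    intro x hx
    rw [mem_center_iff]
    intro g
    have hg : g ∈ centralizer ({x} : Set G) := by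
      have : (⊤ : Subgroup G) ≤ centralizer ({x} : Set G) := by
        rw [← htop]
        refine sup_le ?_ ?_
        · intro y hy
          rw [mem_centralizer_singleton_iff]
          exact ((commutator_eq_bot_iff_le_centralizer.mp h1) hy x hx).symm
        · intro y hy
          rw [mem_centralizer_singleton_iff]
          exact (commutator_eq_bot_iff_le_centralizer.mp hb) hx y hy
      exact this (mem_top g)
    rwa [mem_centralizer_singleton_iff] at hg
  have hWW : ⁅W, W⁆ ≤ Z₀ := by
    have h1 : (⁅W, W⁆ ⊔ Z₀ : Subgroup G).Normal := inferInstance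
    rcases dich (⁅W, W⁆ ⊔ Z₀) h1 le_sup_right (sup_le (commutator_le_left W W) hZW) with h2 | h2
    · exact le_sup_left.trans h2
    · exfalso
      have h3 : ⁅⁅W, W⁆, ⁅W, W⁆⁆ = ⁅W, W⁆ := by
        apply le_antisymm (commutator_le_left _ _)
        rw [commutator_le]
        intro x hx y hy
        rw [← h2] at hx hy
        have hnn : Z₀ ≤ normalizer ((⁅W, W⁆ : Subgroup G) : Set G) := by rw [normalizer_eq_top]; exact le_top
        obtain ⟨x₁, hx₁, x₂, hx₂, rfl⟩ := mem_sup_of_norm hnn hx
        obtain ⟨y₁, hy₁, y₂, hy₂, rfl⟩ := mem_sup_of_norm hnn hy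
        have e1 : ⁅x₁ * x₂, y₁ * y₂⁆ = ⁅x₁, y₁⁆ := by
          have c1 := hZcen x₂ hx₂
          have c2 := hZcen y₂ hy₂
          simp only [commutatorElement_def]
          calc x₁ * x₂ * (y₁ * y₂) * (x₁ * x₂)⁻¹ * (y₁ * y₂)⁻¹
              = x₁ * (x₂ * (y₁ * y₂)) * x₂⁻¹ * x₁⁻¹ * y₂⁻¹ * y₁⁻¹ := by group
            _ = x₁ * y₁ * (y₂ * x₁⁻¹) * y₂⁻¹ * y₁⁻¹ := by rw [c1]; group
            _ = x₁ * y₁ * x₁⁻¹ * y₁⁻¹ := by rw [c2]; group
        rw [e1]
        exact commutator_mem_commutator hx₁ hy₁
      have h4 := perfect_bot hsol ((commutator_le_left W W).trans hWY) h3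
      rw [h4, bot_sup_eq] at h2
      exact hWZ h2.ge
  have hVc : ∀ v ∈ Z₀, ∀ g ∈ Y ⊔ A, v * g = g * v := fun v hv g _ => hZcen v hv g
  by_cases hab : ⁅W, W⁆ = ⊥
  · by_cases hWYZ : ⁅W, Y⁆ ≤ Z₀
    · -- (i)
      refine hfin (h.central_case hWY hAW le_rfl h.norm hVc hZp hWYZ ?_)
      intro hb
      have h1 : ⁅W, A⁆ ≤ centralizer (Y : Set G) := commutator_eq_bot_iff_le_centralizer.mp hb
      have hn : (⁅W, A⁆ : Subgroup G).Normal := by
        apply normal_of
        · rw [le_normalizer_iff_conj]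
          intro y hy x hx
          rw [h1 hx y hy, mul_inv_cancel_right]; exact hx
        · exact H22.Basic.right_le_normalizer_commutator _ _
      have hWAY : ⁅W, A⁆ ≤ Y := (commutator_le_left_of hAW).trans hWY
      have h2 := hmem _ hn hWAY hWAne
      haveI : IsMulCommutative (⁅W, A⁆ : Subgroup G) :=
        ⟨⟨fun x y => Subtype.ext ((h1 x.2 y (hWAY y.2)).symm)⟩⟩
      have h3 := H1.Coprime.inf_commutator_eq_bot_of_abelian A (⁅W, A⁆ : Subgroup G)
        (H22.Basic.right_le_normalizer_commutator _ _) (h.cop' le_rfl hWAY)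
      rw [H1.Coprime.commutator_commutator_eq A W hAW (h.cop' le_rfl hWY) (Or.inl (h.solv le_rfl)),
        inf_right_comm, inf_idem] at h3
      apply hZne
      rw [eq_bot_iff, ← h3]
      exact le_inf h2 hZA
    · -- (ii)
      have hn : (⁅W, Y⁆ ⊔ Z₀ : Subgroup G).Normal := inferInstance
      rcases dich (⁅W, Y⁆ ⊔ Z₀) hn le_sup_right (sup_le (commutator_le_left W Y) hZW) with h2 | h2
      · exact hWYZ (le_sup_left.trans h2)
      · set U := ⁅W, Y⁆ with hU
        have hUn : U.Normal := inferInstance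
        have hUW : U ≤ W := commutator_le_left W Y
        have hUY : ⁅U, Y⁆ = U := by
          apply le_antisymm (commutator_le_left _ _)
          conv_lhs => rw [hU]
          rw [commutator_le]
          intro x hx y hy
          rw [← h2] at hx
          have hnn : Z₀ ≤ normalizer (U : Set G) := by rw [normalizer_eq_top]; exact le_top
          obtain ⟨x₁, hx₁, x₂, hx₂, rfl⟩ := mem_sup_of_norm hnn hx
          have e1 : ⁅x₁ * x₂, y⁆ = ⁅x₁, y⁆ := by
            have c1 := hZcen x₂ hx₂
            simp only [commutatorElement_def]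
            calc x₁ * x₂ * y * (x₁ * x₂)⁻¹ * y⁻¹ = x₁ * (x₂ * y) * x₂⁻¹ * x₁⁻¹ * y⁻¹ := by group
              _ = x₁ * y * x₁⁻¹ * y⁻¹ := by rw [c1]; group
          rw [e1]
          exact commutator_mem_commutator hx₁ hy
        have hUc : ∀ x ∈ U, ∀ y ∈ U, x * y = y * x := by
          intro x hx y hy
          exact ((commutator_eq_bot_iff_le_centralizer.mp hab) (hUW hx) y (hUW hy)).symm
        have hUne : U ≠ ⊥ := by
          intro hb
          apply hWYZ
          rw [hb]; exact bot_le
        apply hfin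
        have h3 := h.abelian_case hYA (hUW.trans hWY) hUc (by rw [normalizer_eq_top]; exact le_top)
          (by rw [normalizer_eq_top]; exact le_top) hUY
        exact (le_inf (hmem U hUn (hUW.trans hWY) hUne) hZA).trans h3
  · -- (iii)
    refine hfin (h.central_case hWY hAW hWY hAW hVc hZp hWW ?_)
    intro hb
    have h1 : ⁅W, A⁆ ≤ centralizer (W : Set G) := commutator_eq_bot_iff_le_centralizer.mp hb
    have hn : (W ⊓ centralizer (W : Set G) : Subgroup G).Normal := inferInstance
    rcases dich (W ⊓ centralizer (W : Set G)) hn (le_inf hZW fun z hz g _ => (hZcen z hz g).symm) inf_le_left with h2 | h2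
    · apply hWAne
      have h3 : ⁅W, A⁆ ≤ Z₀ := (le_inf (commutator_le_left_of hAW) h1).trans h2
      rw [← H1.Coprime.commutator_commutator_eq A W hAW (h.cop' le_rfl hWY) (Or.inl (h.solv le_rfl)),
        commutator_eq_bot_iff_le_centralizer]
      exact h3.trans hZA
    · apply hab
      rw [commutator_eq_bot_iff_le_centralizer]
      exact inf_eq_left.mp h2

/-- the general statement for soluble `Y` -/
theorem main {G : Type u} [Group G] [Finite G] {A B Y : Subgroup G} (h : Hyp A B Y) (hYA : ⁅Y, A⁆ = Y)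
    (hsol : Group.IsSolvable Y) : Y ⊓ centralizer (B : Set G) ≤ Th A B Y := by
  classical
  set L := Y ⊔ A with hL
  have hYL : Y ≤ L := le_sup_left
  have hAL : A ≤ L := le_sup_right
  have hBL : B ≤ L := h.BA.trans hAL
  set ι := L.subtype with hι
  have hinj : Function.Injective ι := L.subtype_injective
  have mY : (Y.subgroupOf L).map ι = Y := by rw [hι, subgroupOf_map_subtype, inf_eq_left.mpr hYL]
  have mA : (A.subgroupOf L).map ι = A := by rw [hι, subgroupOf_map_subtype, inf_eq_left.mpr hAL]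
  have mB : (B.subgroupOf L).map ι = B := by rw [hι, subgroupOf_map_subtype, inf_eq_left.mpr hBL]
  have hyp : Hyp (A.subgroupOf L) (B.subgroupOf L) (Y.subgroupOf L) :=
    { comm := fun a ha b hb => Subtype.ext (h.comm a ha b hb)
      cop := by
        rw [H22.Basic.card_subgroupOf_eq hAL, H22.Basic.card_subgroupOf_eq hYL]; exact h.cop
      BA := fun x hx => h.BA hx
      norm := by
        rw [le_normalizer_iff_conj]
        intro a ha y hy
        exact (mem_normalizer_iff.mp (h.norm ha) _).mp hy }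
  have h1 := main_top _ (A.subgroupOf L) (B.subgroupOf L) (Y.subgroupOf L) rfl hyp ?_ ?_ ?_
  · intro y hy
    have h2 : (⟨y, hYL hy.1⟩ : L) ∈ Y.subgroupOf L ⊓ centralizer ((B.subgroupOf L : Subgroup L) : Set L) :=
      ⟨hy.1, fun b hb => Subtype.ext (hy.2 b hb)⟩
    have h3 : Th (A.subgroupOf L) (B.subgroupOf L) (Y.subgroupOf L) ≤ (Th A B Y).comap ι := by
      refine iSup_le ?_
      rintro ⟨D, hDB, b, hb, hDb⟩
      rw [← map_le_iff_le_comap]
      have hCo : Co B (D.map ι) := by
        refine ⟨?_, ι b, hb, ?_⟩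
        · rw [← mB]; exact map_mono hDB
        · rw [← MonoidHom.map_zpowers, ← Subgroup.map_sup, hDb, mB]
      refine le_trans ?_ (le_Th hCo)
      have hcen : ∀ (K D' : Subgroup L), ((K ⊓ centralizer (D' : Set L)).map ι) ≤
          K.map ι ⊓ centralizer ((D'.map ι : Subgroup G) : Set G) := by
        rintro K D' _ ⟨k, hk, rfl⟩
        refine ⟨⟨k, hk.1, rfl⟩, ?_⟩
        rintro _ ⟨d, hd, rfl⟩
        rw [← map_mul, hk.2 d hd, map_mul]
      refine le_trans (Subgroup.map_inf_le _ _ ι) (inf_le_inf ?_ ?_)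
      · have := hcen (Y.subgroupOf L) (B.subgroupOf L)
        rwa [mY, mB] at this
      · rw [map_commutator, mA]
        refine commutator_mono ?_ le_rfl
        have := hcen (Y.subgroupOf L) D
        rwa [mY] at this
    exact h3 (h1 h2)
  · apply map_injective hinj
    rw [map_commutator, mY, mA, hYA]
  · apply map_injective hinj
    rw [Subgroup.map_sup, mY, mA, ← MonoidHom.range_eq_map, hι, range_subtype]
  · exact Group.isSolvable_of_isSolvable_injective (f := (subgroupOfEquivOfLe hYL).toMonoidHom) (subgroupOfEquivOfLe hYL).injective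

end Cfsg.Agent.H18.GF
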