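import Mathlib
import Cfsg.Prelude.Def_IsolatedElements
import Cfsg.Agent.H13_Syl

set_option autoImplicit false

/-!
Isolated elements.
-/

namespace Cfsg.Agent.H18.Iso

open Subgroup Cfsg Cfsg.Agent.H13.Syl

universe u
variable {G : Type u} [Group G] [Finite G] {p : ℕ} [Fact p.Prime]

omit [Finite G] [Fact p.Prime] in
theorem isPGroup_zpowers {x : G} (hx : ∃ k : ℕ, orderOf x = p ^ k) : IsPGroup p ↥(zpowers x) := by
  obtain ⟨k, hk⟩ := hx
  exact IsPGroup.of_card (n := k) (by rw [Nat.card_zpowers, hk])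

/-- an isolated element of a `p`-group `R` is central in `R`. -/
theorem central_of_isolated {x : G} (hiso : IsIsolated x) {R : Subgroup G} (hR : IsPGroup p ↥R)
    (hxR : x ∈ R) : R ≤ centralizer ({x} : Set G) := by
  by_contra hne
  set C := R ⊓ centralizer ({x} : Set G) with hC
  have hlt : C < R := by
    refine lt_of_le_of_ne inf_le_left ?_
    intro h
    apply hne
    rw [← h]; exact inf_le_right
  have h1 := lt_normalizer_of_lt hR hlt
  obtain ⟨y, hy, hyC⟩ := SetLike.exists_of_lt h1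
  have hxC : x ∈ C := ⟨hxR, mem_centralizer_singleton_iff.mpr rfl⟩
  have h2 : y * x * y⁻¹ ∈ C := (mem_normalizer_iff.mp hy.2 x).mp hxC
  have h3 : Commute x (y * x * y⁻¹) := by
    have := mem_centralizer_singleton_iff.mp h2.2
    exact this.symm
  have h4 := hiso y h3
  apply hyC
  refine ⟨hy.1, mem_centralizer_singleton_iff.mpr ?_⟩
  exact mul_inv_eq_iff_eq_mul.mp h4

theorem normalizer_le {x : G} (hiso : IsIsolated x) {R : Subgroup G} (hR : IsPGroup p ↥R)
    (hxR : x ∈ R) : normalizer (R : Set G) ≤ centralizer ({x} : Set G) := by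
  intro n hn
  have h1 : n * x * n⁻¹ ∈ R := (mem_normalizer_iff.mp hn x).mp hxR
  have h2 := mem_centralizer_singleton_iff.mp (central_of_isolated hiso hR hxR h1)
  have h3 := hiso n h2.symm
  rw [mem_centralizer_singleton_iff]
  exact mul_inv_eq_iff_eq_mul.mp h3

/-- conjugates of `x` in a subgroup `K` containing `x` are conjugate to `x` in `K`. -/
theorem exists_conj_in {x : G} (hx : ∃ k : ℕ, orderOf x = p ^ k) (hiso : IsIsolated x) {K : Subgroup G}
    (hxK : x ∈ K) {g : G} (hg : g * x * g⁻¹ ∈ K) : ∃ k ∈ K, k * (g * x * g⁻¹) * k⁻¹ = x := by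
  obtain ⟨T, hT, hTS⟩ := exists_isSylIn_ge (p := p) (isPGroup_zpowers hx) (zpowers_le.mpr hxK)
  have h1 : IsPGroup p ↥(zpowers (g * x * g⁻¹)) := by
    apply isPGroup_zpowers
    obtain ⟨k, hk⟩ := hx
    refine ⟨k, ?_⟩
    rw [← hk]
    have := MulEquiv.orderOf_eq (MulAut.conj g) x
    simpa using this
  obtain ⟨k, hk, hkT⟩ := hTS.exists_conj_le h1 (zpowers_le.mpr hg)
  have h2 : k * (g * x * g⁻¹) * k⁻¹ ∈ T := hkT (conj_mem_cj (mem_zpowers _))
  have hxT : x ∈ T := hT (mem_zpowers x)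
  have h3 := mem_centralizer_singleton_iff.mp (central_of_isolated hiso hTS.isPGroup hxT h2)
  refine ⟨k, hk, ?_⟩
  have h4 : k * (g * x * g⁻¹) * k⁻¹ = (k * g) * x * (k * g)⁻¹ := by group
  rw [h4] at h3 ⊢
  exact hiso _ h3.symm

theorem sup_eq {x : G} (hx : ∃ k : ℕ, orderOf x = p ^ k) (hiso : IsIsolated x) {H N : Subgroup G}
    (hNH : N ≤ H) (hH : H ≤ normalizer (N : Set G)) (hxN : x ∈ N) :
    N ⊔ (H ⊓ centralizer ({x} : Set G)) = H := by
  apply le_antisymm (sup_le hNH inf_le_left)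
  intro h hh
  have h1 : h * x * h⁻¹ ∈ N := (mem_normalizer_iff.mp (hH hh) x).mp hxN
  obtain ⟨n, hn, hnx⟩ := exists_conj_in hx hiso hxN h1
  have h2 : n * h ∈ H ⊓ centralizer ({x} : Set G) := by
    refine ⟨H.mul_mem (hNH hn) hh, mem_centralizer_singleton_iff.mpr ?_⟩
    have h3 : n * h * x * (n * h)⁻¹ = x := by
      have h4 : n * h * x * (n * h)⁻¹ = n * (h * x * h⁻¹) * n⁻¹ := by group
      rw [h4, hnx]
    exact mul_inv_eq_iff_eq_mul.mp h3
  have h3 : h = n⁻¹ * (n * h) := by group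
  rw [h3]
  exact Subgroup.mul_mem_sup (N.inv_mem hn) h2

omit [Finite G] [Fact p.Prime] in
theorem isolated_subgroup {x : G} (hiso : IsIsolated x) {H : Subgroup G} (hx : x ∈ H) :
    IsIsolated (⟨x, hx⟩ : ↥H) := by
  intro g hg
  apply Subtype.ext
  exact hiso g (by
    have := congrArg Subtype.val hg.eq
    exact this)

/-- images of isolated elements in quotients are isolated. -/
theorem isolated_quotient {x : G} (hx : ∃ k : ℕ, orderOf x = p ^ k) (hiso : IsIsolated x) (N : Subgroup G) [N.Normal] :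
    IsIsolated (QuotientGroup.mk x : G ⧸ N) := by
  intro g
  obtain ⟨g, rfl⟩ := QuotientGroup.mk_surjective g
  intro hcomm
  -- the subgroup `K` of elements `k` commuting with `x` and `x^g` modulo `N`
  set y := g * x * g⁻¹ with hy
  have hcomm' : Commute (QuotientGroup.mk x : G ⧸ N) (QuotientGroup.mk y : G ⧸ N) := hcomm
  let K : Subgroup G := (centralizer ({(QuotientGroup.mk y : G ⧸ N)} : Set (G ⧸ N))).comap (QuotientGroup.mk' N)
  have hxK : x ∈ K := by
    show (QuotientGroup.mk x : G ⧸ N) ∈ centralizer ({(QuotientGroup.mk y : G ⧸ N)} : Set (G ⧸ N))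
    rw [mem_centralizer_singleton_iff]
    exact hcomm'.eq
  have hyK : y ∈ K := by
    show (QuotientGroup.mk y : G ⧸ N) ∈ centralizer ({(QuotientGroup.mk y : G ⧸ N)} : Set (G ⧸ N))
    rw [mem_centralizer_singleton_iff]
  obtain ⟨k, hk, hkx⟩ := exists_conj_in hx hiso hxK hyK
  have h1 : (QuotientGroup.mk k : G ⧸ N) ∈ centralizer ({(QuotientGroup.mk y : G ⧸ N)} : Set (G ⧸ N)) := hk
  rw [mem_centralizer_singleton_iff] at h1
  have h2 : (QuotientGroup.mk (k * y * k⁻¹) : G ⧸ N) = QuotientGroup.mk y := by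
    rw [QuotientGroup.mk_mul, QuotientGroup.mk_mul, h1, QuotientGroup.mk_inv, mul_inv_cancel_right]
  have h3 : (QuotientGroup.mk g : G ⧸ N) * QuotientGroup.mk x * (QuotientGroup.mk g : G ⧸ N)⁻¹ = QuotientGroup.mk y := rfl
  rw [h3, ← h2, hkx]

end Cfsg.Agent.H18.Iso
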