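import Cfsg.Agent.H18_Iso
import Cfsg.Agent.H18_Cyc
import Cfsg.Agent.H1_Coprime2
import Cfsg.Agent.H2_Basic
import Cfsg.Prelude.Def_CaseTheorems

set_option autoImplicit false

/-!
Isolated elements and cyclic Sylow subgroups.
-/

namespace Cfsg.Agent.H18.Iso2

open Subgroup Cfsg Cfsg.Agent.H13.Syl Cfsg.Agent.H18.Iso

universe u
variable {G : Type u} [Group G] [Finite G] {p : ℕ} [Fact p.Prime]

theorem normalizer_le_centralizer_of_cyclic {x : G} (hx1 : x ≠ 1) (hx : ∃ k : ℕ, orderOf x = p ^ k)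
    (P : Sylow p G) (hxP : x ∈ (P : Subgroup G)) (hN : normalizer ((P : Subgroup G) : Set G) ≤ centralizer ({x} : Set G))
    (hcyc : IsCyclic ↥(P : Subgroup G)) :
    normalizer ((P : Subgroup G) : Set G) ≤ centralizer ((P : Subgroup G) : Set G) := by
  haveI hcommP : IsMulCommutative ↥(P : Subgroup G) := hcyc.isMulCommutative
  intro g hg
  obtain ⟨a, ha, b, hb, hab, -, ⟨k, hak⟩, hbc⟩ := Cfsg.Agent.H2.Basic.exists_p_decomp p g
  have haN : a ∈ normalizer ((P : Subgroup G) : Set G) := (zpowers_le.mpr hg) ha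
  have hbN : b ∈ normalizer ((P : Subgroup G) : Set G) := (zpowers_le.mpr hg) hb
  -- `a ∈ P`
  have haP : a ∈ (P : Subgroup G) := by
    have h1 : IsPGroup p ↥(zpowers a) := isPGroup_zpowers ⟨k, hak⟩
    have h2 : IsPGroup p ↥(zpowers a ⊔ (P : Subgroup G) : Subgroup G) :=
      IsPGroup.to_sup_of_normal_right' h1 P.2 (zpowers_le.mpr haN)
    have h3 := P.3 h2 le_sup_right
    rw [← h3]; exact mem_sup_left (mem_zpowers a)
  have haC : a ∈ centralizer ((P : Subgroup G) : Set G) := by
    rw [mem_centralizer_iff]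
    intro y hy
    exact congrArg Subtype.val (mul_comm' (⟨y, hy⟩ : ↥(P : Subgroup G)) ⟨a, haP⟩)
  have hbC : b ∈ centralizer ((P : Subgroup G) : Set G) := by
    rw [← zpowers_le]
    apply Cfsg.Agent.H1.Coprime.abelian_trivial_of_prime_order
    · rw [zpowers_le]; exact hbN
    · rw [Nat.card_zpowers]
      obtain ⟨m, hm⟩ := IsPGroup.iff_card.mp P.2
      rw [hm]
      exact Nat.Coprime.pow_right m hbc
    · intro v hv hvp c hc
      -- `v ∈ ⟨x⟩`
      have hvx : v ∈ zpowers x := by
        have h1 : orderOf (⟨v, hv⟩ : ↥(P : Subgroup G)) ∣ orderOf (⟨x, hxP⟩ : ↥(P : Subgroup G)) := by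
          rw [Subgroup.orderOf_mk, Subgroup.orderOf_mk]
          obtain ⟨k, hk⟩ := hx
          have hk0 : k ≠ 0 := by
            rintro rfl
            rw [pow_zero, orderOf_eq_one_iff] at hk
            exact hx1 hk
          have h2 : orderOf v = p := by
            obtain ⟨m, hm⟩ := (IsPGroup.iff_orderOf.mp P.2) ⟨v, hv⟩
            rw [Subgroup.orderOf_mk] at hm
            rw [hm] at hvp ⊢
            have := (Nat.prime_dvd_prime_iff_eq hvp (Fact.out (p := p.Prime))).mp
            have hm0 : m ≠ 0 := by rintro rfl; rw [pow_zero] at hvp; exact Nat.not_prime_one hvp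
            exact ((Nat.prime_dvd_prime_iff_eq (Fact.out (p := p.Prime)) hvp).mp (dvd_pow_self p hm0)).symm
          rw [h2, hk]; exact dvd_pow_self p hk0
        obtain ⟨i, hi⟩ := Cfsg.Agent.H18.Cyc.mem_zpowers_of_orderOf_dvd hcyc h1
        exact ⟨i, congrArg Subtype.val hi⟩
      obtain ⟨i, rfl⟩ := hvx
      have h2 : c ∈ centralizer ({x} : Set G) := hN ((zpowers_le.mpr hbN) hc)
      rw [mem_centralizer_singleton_iff] at h2
      exact (Commute.zpow_right (show Commute c x from h2) i).eq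
  rw [← hab]
  exact (centralizer ((P : Subgroup G) : Set G)).mul_mem haC hbC

theorem hasNormalPComplement {x : G} (hx1 : x ≠ 1) (hx : ∃ k : ℕ, orderOf x = p ^ k) (hiso : IsIsolated x)
    (hcyc : ∀ P : Sylow p G, IsCyclic ↥(P : Subgroup G)) : HasNormalPComplement p G := by
  obtain ⟨P, hP⟩ := (isPGroup_zpowers hx).exists_le_sylow
  have hxP : x ∈ (P : Subgroup G) := hP (mem_zpowers x)
  have h1 := normalizer_le_centralizer_of_cyclic hx1 hx P hxP (normalizer_le hiso P.2 hxP) (hcyc P)
  exact ⟨P, _, inferInstance, MonoidHom.ker_transferSylow_isComplement' P h1⟩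

end Cfsg.Agent.H18.Iso2
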