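import Mathlib

/-!
Jordan sets in finite permutation groups: a primitive group with a Jordan set `Γ`,
`1 < |Γ| ≤ n/2`, is 3-transitive.
-/

set_option autoImplicit false
set_option linter.all false

open MulAction Subgroup SubMulAction
open scoped Pointwise

namespace Cfsg.Agent.H23.JordanSet

variable {G : Type*} [Group G] {Ω : Type*} [MulAction G Ω]

/-- Jordan sets -/
def JS (G : Type*) [Group G] {Ω : Type*} [MulAction G Ω] (Γ : Set Ω) : Prop :=
  ∀ x ∈ Γ, ∀ y ∈ Γ, ∃ g : G, (∀ z ∉ Γ, g • z = z) ∧ g • x = y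

theorem trans_fixing {Γ : Set Ω} (hJ : JS G Γ) :
    IsPretransitive (fixingSubgroup G Γᶜ) (ofFixingSubgroup G Γᶜ) := by
  constructor
  rintro ⟨x, hx⟩ ⟨y, hy⟩
  have hx' : x ∈ Γ := by
    by_contra h; exact hx h
  have hy' : y ∈ Γ := by
    by_contra h; exact hy h
  obtain ⟨g, hg, hgx⟩ := hJ x hx' y hy'
  refine ⟨⟨g, ?_⟩, ?_⟩
  · rw [mem_fixingSubgroup_iff]
    intro z hz
    exact hg z hz
  · exact Subtype.ext hgx

theorem js_of_trans {Γ : Set Ω} (h : IsPretransitive (fixingSubgroup G Γᶜ) (ofFixingSubgroup G Γᶜ)) : JS G Γ := by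
  intro x hx y hy
  obtain ⟨g, hg⟩ := h.exists_smul_eq ⟨x, fun h => h hx⟩ ⟨y, fun h => h hy⟩
  refine ⟨g, ?_, ?_⟩
  · have := g.2
    rw [mem_fixingSubgroup_iff] at this
    intro z hz
    exact this z hz
  · exact congrArg Subtype.val hg

theorem two_trans [Finite Ω] (hprim : IsPreprimitive G Ω) {Γ : Set Ω} (h1 : 1 < Γ.ncard)
    (hne : Γ ≠ Set.univ) (hJ : JS G Γ) : IsMultiplyPretransitive G Ω 2 := by
  have hc := Set.ncard_add_ncard_compl Γ (Set.toFinite _) (Set.toFinite _)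
  have hpos : 0 < Γᶜ.ncard := by
    rw [Set.ncard_pos (Set.toFinite _), Set.nonempty_compl]
    exact hne
  exact hprim.is_two_pretransitive (s := Γᶜ) (n := Γᶜ.ncard - 1) (by omega) (by omega) (trans_fixing hJ)

theorem dc [Fintype Ω] [DecidableEq Ω] (S T : Finset Ω) (r : Ω → Ω → Prop) [∀ a b, Decidable (r a b)] :
    ∑ a ∈ S, (T.filter (fun b => r a b)).card = ∑ b ∈ T, (S.filter (fun a => r a b)).card :=
  Finset.sum_card_bipartiteAbove_eq_sum_card_bipartiteBelow r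

/-- in a 2-transitive group: counting an invariant ternary relation -/
theorem count_const [Finite Ω] (T : Ω → Ω → Ω → Prop) (c : ℕ)
    (hT : ∀ α β γ, T α β γ → α ≠ β ∧ β ≠ γ ∧ α ≠ γ)
    (hc : ∀ α β, α ≠ β → {γ | T α β γ}.ncard = c)
    (hinv : ∀ (g : G) (α β γ : Ω), T α β γ → T (g • α) (g • β) (g • γ))
    (h2 : ∀ a b c d : Ω, a ≠ b → c ≠ d → ∃ g : G, g • a = c ∧ g • b = d)
    {β γ : Ω} (hβγ : β ≠ γ) : {α | T α β γ}.ncard = c := by
  classical
  haveI := Fintype.ofFinite Ω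
  have hcard : ∀ (P : Ω → Prop) [DecidablePred P], {x | P x}.ncard = (Finset.univ.filter P).card := by
    intro P _
    rw [← Set.ncard_coe_finset]
    congr 1
    ext x; simp
  have hconst : ∀ γ' : Ω, β ≠ γ' → {α | T α β γ'}.ncard = {α | T α β γ}.ncard := by
    intro γ' hγ'
    obtain ⟨g, hg1, hg2⟩ := h2 β γ β γ' hβγ hγ'
    have : {α | T α β γ'} = (fun α => g • α) '' {α | T α β γ} := by
      ext α
      constructor
      · intro h
        refine ⟨g⁻¹ • α, ?_, smul_inv_smul g α⟩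
        have h3 := hinv g⁻¹ α β γ' h
        have e1 : g⁻¹ • β = β := by rw [inv_smul_eq_iff, hg1]
        have e2 : g⁻¹ • γ' = γ := by rw [inv_smul_eq_iff, hg2]
        rw [e1, e2] at h3
        exact h3
      · rintro ⟨α', h, rfl⟩
        have h3 := hinv g α' β γ h
        rwa [hg1, hg2] at h3
    rw [this, Set.ncard_image_of_injective _ (MulAction.injective g)]
  have h := dc (Finset.univ.erase β) (Finset.univ.erase β) (fun α γ' => T α β γ')
  have e1 : ∀ α ∈ Finset.univ.erase β, ((Finset.univ.erase β).filter (fun γ' => T α β γ')).card = c := by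
    intro α hα
    rw [← hc α β (Finset.ne_of_mem_erase hα), hcard]
    congr 1
    ext x
    simp only [Finset.mem_filter, Finset.mem_erase, Finset.mem_univ, and_true, true_and]
    exact ⟨fun h => h.2, fun h => ⟨(hT _ _ _ h).2.1.symm, h⟩⟩
  have e2 : ∀ γ' ∈ Finset.univ.erase β, ((Finset.univ.erase β).filter (fun α => T α β γ')).card = {α | T α β γ}.ncard := by
    intro γ' hγ'
    rw [← hconst γ' (Finset.ne_of_mem_erase hγ').symm, hcard]
    congr 1
    ext x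
    simp only [Finset.mem_filter, Finset.mem_erase, Finset.mem_univ, and_true, true_and]
    exact ⟨fun h => h.2, fun h => ⟨(hT _ _ _ h).1, h⟩⟩
  rw [Finset.sum_congr rfl e1, Finset.sum_congr rfl e2, Finset.sum_const, Finset.sum_const, smul_eq_mul, smul_eq_mul] at h
  have hpos : 0 < (Finset.univ.erase β).card := by
    rw [Finset.card_pos]
    exact ⟨γ, Finset.mem_erase.2 ⟨hβγ.symm, Finset.mem_univ _⟩⟩
  exact (Nat.eq_of_mul_eq_mul_left hpos h).symm

/-- the key counting result: for a block `B` of a point stabilizer in a 2-transitive group -/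
theorem block_count [Finite Ω]
    (h2 : ∀ a b c d : Ω, a ≠ b → c ≠ d → ∃ g : G, g • a = c ∧ g • b = d)
    {Γ : Set Ω} (hJ : JS G Γ) (h1 : 1 < Γ.ncard)
    {α₀ : Ω} {B : Set Ω} (hB0 : α₀ ∉ B) (hB2 : 1 < B.ncard)
    (hB : ∀ s : G, s • α₀ = α₀ → ∀ β ∈ B, s • β ∈ B → s • B = B) :
    (Nat.card Ω ≤ B.ncard + Γ.ncard - 1 ∧ Γ.ncard < B.ncard) ∨
    (Nat.card Ω + 1 ≤ 2 * Γ.ncard ∧ ∀ g : G, g • α₀ ∉ Γ → (∃ γ ∈ Γ, γ ∈ g • B) → g • B ⊆ Γ) := by
  classical
  haveI := Fintype.ofFinite Ω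
  let T : Ω → Ω → Ω → Prop := fun α β γ => β ≠ γ ∧ ∃ g : G, g • α₀ = α ∧ β ∈ g • B ∧ γ ∈ g • B
  have hBne : B.Nonempty := by
    rw [← Set.ncard_pos (Set.toFinite _)]; omega
  obtain ⟨β₀, hβ₀⟩ := hBne
  have hα0β0 : α₀ ≠ β₀ := by rintro rfl; exact hB0 hβ₀
  -- uniqueness of the block through a point
  have huniq : ∀ g h : G, g • α₀ = h • α₀ → ∀ β, β ∈ g • B → β ∈ h • B → g • B = h • B := by
    intro g h hgh β hβg hβh
    have h3 : (h⁻¹ * g) • B = B := by
      apply hB (h⁻¹ * g) (by rw [mul_smul, hgh, inv_smul_smul]) (g⁻¹ • β) (Set.mem_smul_set_iff_inv_smul_mem.1 hβg)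
      rw [mul_smul, smul_inv_smul]
      exact Set.mem_smul_set_iff_inv_smul_mem.1 hβh
    rw [mul_smul, inv_smul_eq_iff] at h3
    exact h3
  have hTc : ∀ α β, α ≠ β → {γ | T α β γ}.ncard = B.ncard - 1 := by
    intro α β hαβ
    obtain ⟨g, hg1, hg2⟩ := h2 α₀ β₀ α β hα0β0 hαβ
    have hβ : β ∈ g • B := by rw [← hg2]; exact Set.smul_mem_smul_set hβ₀
    have : {γ | T α β γ} = (g • B) \ {β} := by
      ext γ
      constructor
      · rintro ⟨hne, h, hh1, hh2, hh3⟩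
        refine ⟨?_, fun h => hne h.symm⟩
        rw [huniq g h (by rw [hg1, hh1]) β hβ hh2]
        exact hh3
      · rintro ⟨h3, h4⟩
        exact ⟨fun h => h4 h.symm, g, hg1, hβ, h3⟩
    rw [this, Set.ncard_diff_singleton_of_mem hβ, Set.ncard_smul_set]
  have hT : ∀ α β γ, T α β γ → α ≠ β ∧ β ≠ γ ∧ α ≠ γ := by
    rintro α β γ ⟨hne, g, rfl, h3, h4⟩
    refine ⟨?_, hne, ?_⟩
    · rintro rfl
      exact hB0 (Set.smul_mem_smul_set_iff.1 h3)
    · rintro rfl
      exact hB0 (Set.smul_mem_smul_set_iff.1 h4)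
  have hinv : ∀ (g : G) (α β γ : Ω), T α β γ → T (g • α) (g • β) (g • γ) := by
    rintro g α β γ ⟨hne, h, rfl, h3, h4⟩
    refine ⟨fun h => hne (MulAction.injective g h), g * h, mul_smul _ _ _, ?_, ?_⟩
    · rw [mul_smul]; exact Set.smul_mem_smul_set h3
    · rw [mul_smul]; exact Set.smul_mem_smul_set h4
  have hN : ∀ β γ : Ω, β ≠ γ → {α | T α β γ}.ncard = B.ncard - 1 := fun β γ hβγ =>
    count_const (G := G) T (B.ncard - 1) hT hTc hinv h2 hβγ
  -- trichotomy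
  have htri : ∀ g : G, g • α₀ ∉ Γ → ∀ γ ∈ Γ, γ ∈ g • B → ∀ c ∈ g • B, c ∉ Γ → Γ ⊆ g • B := by
    intro g hg γ hγ hγB c hc hcΓ γ' hγ'
    obtain ⟨x, hx1, hx2⟩ := hJ γ hγ γ' hγ'
    have h3 : (x * g) • B = g • B := by
      apply huniq (x * g) g (by rw [mul_smul, hx1 _ hg]) c _ hc
      rw [mul_smul, ← hx1 c hcΓ]
      exact Set.smul_mem_smul_set hc
    rw [← h3, ← hx2, mul_smul]
    exact Set.smul_mem_smul_set hγB
  have hcompl := Set.ncard_add_ncard_compl Γ (Set.toFinite _) (Set.toFinite _)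
  by_cases hcase : ∃ g : G, g • α₀ ∉ Γ ∧ ∃ γ ∈ Γ, γ ∈ g • B ∧ ¬ g • B ⊆ Γ
  · -- case A
    left
    obtain ⟨g, hg, γ, hγ, hγB, hnot⟩ := hcase
    rw [Set.not_subset] at hnot
    obtain ⟨c, hc, hcΓ⟩ := hnot
    have hsub := htri g hg γ hγ hγB c hc hcΓ
    have hlt : Γ.ncard < B.ncard := by
      rw [← Set.ncard_smul_set g B]
      apply Set.ncard_lt_ncard _ (Set.toFinite _)
      exact ⟨hsub, fun h => hcΓ (h hc)⟩
    refine ⟨?_, hlt⟩
    obtain ⟨γ1, hγ1, γ2, hγ2, hγ12⟩ := (Set.one_lt_ncard (Set.toFinite _)).1 h1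
    have hsub2 : Γᶜ ⊆ {α | T α γ1 γ2} := by
      intro α hα
      obtain ⟨h, hh1, hh2⟩ := h2 α₀ β₀ α γ1 hα0β0 (by rintro rfl; exact hα hγ1)
      have hγ1B : γ1 ∈ h • B := by rw [← hh2]; exact Set.smul_mem_smul_set hβ₀
      have hnot2 : ¬ h • B ⊆ Γ := by
        intro hs
        have := Set.ncard_le_ncard hs (Set.toFinite _)
        rw [Set.ncard_smul_set] at this
        omega
      rw [Set.not_subset] at hnot2
      obtain ⟨c', hc', hcΓ'⟩ := hnot2
      have h3 := htri h (by rw [hh1]; exact hα) γ1 hγ1 hγ1B c' hc' hcΓ'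
      exact ⟨hγ12, h, hh1, hγ1B, h3 hγ2⟩
    have h3 := Set.ncard_le_ncard hsub2 (Set.toFinite _)
    rw [hN γ1 γ2 hγ12] at h3
    omega
  · -- case B
    right
    push Not at hcase
    refine ⟨?_, fun g hg ⟨γ, hγ, hγB⟩ => hcase g hg γ hγ hγB⟩
    obtain ⟨γ1, hγ1, γ2, hγ2, hγ12⟩ := (Set.one_lt_ncard (Set.toFinite _)).1 h1
    have h := dc (Finset.univ.filter (fun α => α ∉ Γ)) (Finset.univ.filter (fun γ => γ ∈ Γ \ {γ1})) (fun α γ' => T α γ1 γ')
    have hcard : ∀ (P : Ω → Prop) [DecidablePred P], {x | P x}.ncard = (Finset.univ.filter P).card := by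
      intro P _
      rw [← Set.ncard_coe_finset]
      congr 1
      ext x; simp
    have e1 : ∀ α ∈ Finset.univ.filter (fun α => α ∉ Γ), ((Finset.univ.filter (fun γ => γ ∈ Γ \ {γ1})).filter (fun γ' => T α γ1 γ')).card = B.ncard - 1 := by
      intro α hα
      have hα' : α ∉ Γ := (Finset.mem_filter.1 hα).2
      rw [← hTc α γ1 (by rintro rfl; exact hα' hγ1), hcard]
      congr 1
      ext x
      simp only [Finset.mem_filter, Finset.mem_univ, true_and]
      refine ⟨fun h => h.2, fun h => ⟨⟨?_, h.1.symm⟩, h⟩⟩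
      obtain ⟨hne, g, hg1, hg2, hg3⟩ := h
      exact hcase g (by rw [hg1]; exact hα') γ1 hγ1 hg2 hg3
    have e2 : ∀ γ' ∈ Finset.univ.filter (fun γ => γ ∈ Γ \ {γ1}), ((Finset.univ.filter (fun α => α ∉ Γ)).filter (fun α => T α γ1 γ')).card ≤ B.ncard - 1 := by
      intro γ' hγ'
      have hγ'' : γ' ∈ Γ \ {γ1} := (Finset.mem_filter.1 hγ').2
      rw [← hN γ1 γ' (fun h => hγ''.2 h.symm), hcard]
      apply Finset.card_le_card
      intro x hx
      rw [Finset.mem_filter] at hx ⊢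
      exact ⟨Finset.mem_univ _, hx.2⟩
    rw [Finset.sum_congr rfl e1, Finset.sum_const, smul_eq_mul] at h
    have h3 := Finset.sum_le_sum e2
    rw [← h, Finset.sum_const, smul_eq_mul] at h3
    have h4 := Nat.le_of_mul_le_mul_right h3 (by omega)
    have e3 : Γᶜ.ncard = (Finset.univ.filter (fun α => α ∉ Γ)).card := hcard (fun x => x ∉ Γ)
    have e4 : (Γ \ {γ1}).ncard = (Finset.univ.filter (fun γ => γ ∈ Γ \ {γ1})).card := hcard (fun x => x ∈ Γ \ {γ1})
    rw [Set.ncard_diff_singleton_of_mem hγ1] at e4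
    omega

/-- point stabilizers are primitive on the remaining points -/
theorem stab_prim [Finite Ω]
    (h2 : ∀ a b c d : Ω, a ≠ b → c ≠ d → ∃ g : G, g • a = c ∧ g • b = d)
    {Γ : Set Ω} (hJ : JS G Γ) (h1 : 1 < Γ.ncard) (hΓ : 2 * Γ.ncard ≤ Nat.card Ω) (α₀ : Ω) :
    IsPreprimitive (stabilizer G α₀) (ofStabilizer G α₀) := by
  classical
  haveI := Fintype.ofFinite Ω
  have htr : IsPretransitive (stabilizer G α₀) (ofStabilizer G α₀) := by
    constructor
    rintro ⟨x, hx⟩ ⟨y, hy⟩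
    obtain ⟨g, hg1, hg2⟩ := h2 α₀ x α₀ y (fun h => hx h.symm) (fun h => hy h.symm)
    exact ⟨⟨g, hg1⟩, Subtype.ext hg2⟩
  refine { toIsPretransitive := htr, isTrivialBlock_of_isBlock := fun {B} hB => ?_ }
  by_cases hs : B.Subsingleton
  · exact Or.inl hs
  right
  by_contra hne
  set B' : Set Ω := Subtype.val '' B with hB'
  have hcB : B'.ncard = B.ncard := Set.ncard_image_of_injective _ Subtype.val_injective
  have hB0 : α₀ ∉ B' := by
    rintro ⟨⟨x, hx⟩, _, h⟩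
    exact hx h
  have hB1 : 1 < B.ncard := by
    rw [Set.one_lt_ncard (Set.toFinite _)]
    rw [Set.not_subsingleton_iff] at hs
    obtain ⟨x, hx, y, hy, hxy⟩ := hs
    exact ⟨x, hx, y, hy, hxy⟩
  have hBb : ∀ s : G, s • α₀ = α₀ → ∀ β ∈ B', s • β ∈ B' → s • B' = B' := by
    rintro s hsα _ ⟨β, hβ, rfl⟩ hsβ
    have h3 : (⟨s, hsα⟩ : stabilizer G α₀) • B = B := by
      apply hB.smul_eq_of_mem hβ
      obtain ⟨β', hβ', he⟩ := hsβ
      have : (⟨s, hsα⟩ : stabilizer G α₀) • β = β' := Subtype.ext he.symm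
      rw [this]; exact hβ'
    ext x
    constructor
    · rintro ⟨_, ⟨y, hy, rfl⟩, rfl⟩
      refine ⟨(⟨s, hsα⟩ : stabilizer G α₀) • y, ?_, rfl⟩
      rw [← h3]
      exact Set.smul_mem_smul_set hy
    · rintro ⟨y, hy, rfl⟩
      rw [← h3] at hy
      obtain ⟨z, hz, rfl⟩ := hy
      exact ⟨z, ⟨z, hz, rfl⟩, rfl⟩
  have hcard : Nat.card (ofStabilizer G α₀) + 1 = Nat.card Ω := nat_card_ofStabilizer_add_one_eq G α₀
  have hBhalf : 2 * B.ncard ≤ Nat.card (ofStabilizer G α₀) := by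
    by_contra h
    exact hne (hB.eq_univ_of_card_lt (by omega))
  rcases block_count h2 hJ h1 hB0 (by rw [hcB]; exact hB1) hBb with ⟨h3, h4⟩ | ⟨h3, -⟩
  · rw [hcB] at h3 h4
    omega
  · omega

theorem three_trans [Finite Ω] (hprim : IsPreprimitive G Ω) {Γ : Set Ω} (h1 : 1 < Γ.ncard)
    (hΓ : 2 * Γ.ncard ≤ Nat.card Ω) (hJ : JS G Γ) : IsMultiplyPretransitive G Ω 3 := by
  classical
  haveI := Fintype.ofFinite Ω
  have hne : Γ ≠ Set.univ := by
    intro h
    rw [h, Set.ncard_univ] at hΓ h1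
    omega
  have h2 := two_trans hprim h1 hne hJ
  have h2' : ∀ a b c d : Ω, a ≠ b → c ≠ d → ∃ g : G, g • a = c ∧ g • b = d := fun a b c d hab hcd =>
    is_two_pretransitive_iff.1 h2 hab hcd
  obtain ⟨α, hα⟩ : ∃ α, α ∉ Γ := by
    by_contra hcon
    push Not at hcon
    exact hne (Set.eq_univ_of_forall hcon)
  have hp := stab_prim h2' hJ h1 hΓ α
  haveI := hprim.toIsPretransitive
  have hsucc : IsMultiplyPretransitive (stabilizer G α) (ofStabilizer G α) 2 → IsMultiplyPretransitive G Ω 3 :=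
    (ofStabilizer.isMultiplyPretransitive (a := α)).2
  apply hsucc
  have hcard : Nat.card (ofStabilizer G α) + 1 = Nat.card Ω := nat_card_ofStabilizer_add_one_eq G α
  set Γ' : Set (ofStabilizer G α) := Subtype.val ⁻¹' Γ with hΓ'
  have himg : Subtype.val '' Γ' = Γ := by
    ext x
    constructor
    · rintro ⟨y, hy, rfl⟩; exact hy
    · intro hx
      exact ⟨⟨x, by rintro rfl; exact hα hx⟩, hx, rfl⟩
  have hc : Γ'.ncard = Γ.ncard := by
    conv_rhs => rw [← himg]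
    exact (Set.ncard_image_of_injective _ Subtype.val_injective).symm
  apply two_trans hp (Γ := Γ') (by omega)
  · intro h
    rw [h, Set.ncard_univ] at hc
    omega
  · intro x hx y hy
    obtain ⟨g, hg1, hg2⟩ := hJ x hx y hy
    exact ⟨⟨g, hg1 α hα⟩, fun z hz => Subtype.ext (hg1 z hz), Subtype.ext hg2⟩

end Cfsg.Agent.H23.JordanSet
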