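import Mathlib
import Cfsg.Agent.H23_JordanSet

/-!
Jordan sets in finite permutation groups, II: flats.  A geometry of Jordan complements of a
`k`-transitive group; every proper flat of size at least `k` has at most half of the points.
-/

set_option autoImplicit false
set_option linter.all false

open MulAction Subgroup SubMulAction
open scoped Pointwise

namespace Cfsg.Agent.H18.MG

variable {G : Type*} [Group G] {Ω : Type*} [MulAction G Ω]

/-- Jordan complements: the pointwise stabilizer is transitive outside -/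
def JC (G : Type*) [Group G] {Ω : Type*} [MulAction G Ω] (A : Set Ω) : Prop :=
  ∀ x ∉ A, ∀ y ∉ A, ∃ g : G, (∀ z ∈ A, g • z = z) ∧ g • x = y

def Flat (G : Type*) [Group G] {Ω : Type*} [MulAction G Ω] (A : Set Ω) : Prop :=
  A = Set.univ ∨ (1 < Aᶜ.ncard ∧ JC G A)

theorem JC.smul {A : Set Ω} (h : JC G A) (g : G) : JC G (g • A) := by
  intro x hx y hy
  rw [Set.mem_smul_set_iff_inv_smul_mem] at hx hy
  obtain ⟨u, hu1, hu2⟩ := h _ hx _ hy
  refine ⟨g * u * g⁻¹, ?_, ?_⟩
  · intro z hz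
    rw [Set.mem_smul_set_iff_inv_smul_mem] at hz
    rw [mul_smul, mul_smul, hu1 _ hz, smul_inv_smul]
  · rw [mul_smul, mul_smul, hu2, smul_inv_smul]

theorem Flat.smul {A : Set Ω} (h : Flat G A) (g : G) : Flat G (g • A) := by
  rcases h with rfl | ⟨h1, h2⟩
  · left; exact Set.smul_set_univ
  · right
    refine ⟨?_, h2.smul g⟩
    rw [← Set.smul_set_compl, Set.ncard_smul_set]
    exact h1

theorem JC.inter {A B : Set Ω} (hA : JC G A) (hB : JC G B) (hne : A ∪ B ≠ Set.univ) :
    JC G (A ∩ B) := by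
  obtain ⟨z, hz⟩ := (Set.ne_univ_iff_exists_notMem _).1 hne
  have hzA : z ∉ A := fun h => hz (Or.inl h)
  have hzB : z ∉ B := fun h => hz (Or.inr h)
  have key : ∀ x ∉ A ∩ B, ∃ g : G, (∀ w ∈ A ∩ B, g • w = w) ∧ g • x = z := by
    intro x hx
    by_cases hxA : x ∈ A
    · have hxB : x ∉ B := fun h => hx ⟨hxA, h⟩
      obtain ⟨g, hg1, hg2⟩ := hB x hxB z hzB
      exact ⟨g, fun w hw => hg1 w hw.2, hg2⟩
    · obtain ⟨g, hg1, hg2⟩ := hA x hxA z hzA
      exact ⟨g, fun w hw => hg1 w hw.1, hg2⟩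
  intro x hx y hy
  obtain ⟨g, hg1, hg2⟩ := key x hx
  obtain ⟨h, hh1, hh2⟩ := key y hy
  refine ⟨h⁻¹ * g, ?_, ?_⟩
  · intro w hw
    rw [mul_smul, hg1 w hw, inv_smul_eq_iff, hh1 w hw]
  · rw [mul_smul, hg2, inv_smul_eq_iff, hh2]

/-- all small sets are Jordan complements ⇒ homogeneity -/
theorem homog [Finite Ω] {k : ℕ} (hsmall : ∀ S : Set Ω, S.ncard < k → JC G S) :
    ∀ (j : ℕ), j ≤ k → ∀ S T : Set Ω, S.ncard = j → T.ncard = j → ∃ g : G, g • S = T := by
  intro j
  induction j with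
  | zero =>
    intro _ S T hS hT
    rw [Set.ncard_eq_zero (Set.toFinite _)] at hS hT
    exact ⟨1, by rw [hS, hT, Set.smul_set_empty]⟩
  | succ j ih =>
    intro hj S T hS hT
    obtain ⟨a, ha⟩ : S.Nonempty := by rw [← Set.ncard_pos (Set.toFinite _)]; omega
    obtain ⟨b, hb⟩ : T.Nonempty := by rw [← Set.ncard_pos (Set.toFinite _)]; omega
    have hS' : (S \ {a}).ncard = j := by rw [Set.ncard_diff_singleton_of_mem ha]; omega
    have hT' : (T \ {b}).ncard = j := by rw [Set.ncard_diff_singleton_of_mem hb]; omega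
    obtain ⟨g, hg⟩ := ih (by omega) _ _ hS' hT'
    have h1 : g • a ∉ T \ {b} := by
      rw [← hg, Set.smul_mem_smul_set_iff]
      exact fun h => h.2 rfl
    obtain ⟨u, hu1, hu2⟩ := hsmall (T \ {b}) (by omega) (g • a) h1 b (fun h => h.2 rfl)
    refine ⟨u * g, ?_⟩
    have e1 : S = insert a (S \ {a}) := by
      rw [Set.insert_diff_singleton, Set.insert_eq_of_mem ha]
    have e2 : T = insert b (T \ {b}) := by
      rw [Set.insert_diff_singleton, Set.insert_eq_of_mem hb]
    have e3 : u • (T \ {b}) = T \ {b} := by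
      ext x
      constructor
      · rintro ⟨y, hy, rfl⟩
        simp only
        rw [hu1 y hy]; exact hy
      · intro hx
        exact ⟨x, hx, hu1 x hx⟩
    rw [e1, Set.smul_set_insert, mul_smul, mul_smul, hu2, hg, e3, ← e2]

/-- the closure of a set, as a relation -/
def IsCl (G : Type*) [Group G] {Ω : Type*} [MulAction G Ω] (S F : Set Ω) : Prop :=
  Flat G F ∧ S ⊆ F ∧ ∀ F', Flat G F' → S ⊆ F' → F ⊆ F'

theorem IsCl.unique {S F F' : Set Ω} (h : IsCl G S F) (h' : IsCl G S F') : F = F' :=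
  Set.Subset.antisymm (h.2.2 _ h'.1 h'.2.1) (h'.2.2 _ h.1 h.2.1)

theorem IsCl.smul {S F : Set Ω} (h : IsCl G S F) (g : G) : IsCl G (g • S) (g • F) := by
  refine ⟨h.1.smul g, Set.smul_set_mono h.2.1, fun F' hF' hS => ?_⟩
  have h1 : S ⊆ g⁻¹ • F' := by
    rw [← Set.smul_set_subset_iff_subset_inv_smul_set]; exact hS
  have h2 := h.2.2 _ (hF'.smul g⁻¹) h1
  rw [Set.smul_set_subset_iff_subset_inv_smul_set]; exact h2

/-- standing hypotheses -/
structure Hyp (G : Type*) [Group G] (Ω : Type*) [MulAction G Ω] (k : ℕ) : Prop where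
  hk2 : 2 ≤ k
  hkn : k < Nat.card Ω
  hsmall : ∀ S : Set Ω, S.ncard < k → JC G S
  hno : ∀ S : Set Ω, S.ncard = k → ¬ JC G S
  hint : ∀ A B : Set Ω, JC G A → JC G B → 1 < Aᶜ.ncard → 1 < Bᶜ.ncard → A ∪ B = Set.univ →
    (A ∩ B).ncard < k

variable {k : ℕ}

theorem Hyp.small_flat [Finite Ω] (h : Hyp G Ω k) {S : Set Ω} (hS : S.ncard < k) : Flat G S := by
  right
  refine ⟨?_, h.hsmall S hS⟩
  have := Set.ncard_add_ncard_compl S (Set.toFinite _) (Set.toFinite _)
  have := h.hkn
  omega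

theorem Hyp.inter [Finite Ω] (h : Hyp G Ω k) {A B : Set Ω} (hA : Flat G A) (hB : Flat G B) :
    Flat G (A ∩ B) := by
  rcases hA with rfl | ⟨hA1, hA2⟩
  · rw [Set.univ_inter]; exact hB
  rcases hB with rfl | ⟨hB1, hB2⟩
  · rw [Set.inter_univ]; exact Or.inr ⟨hA1, hA2⟩
  by_cases hu : A ∪ B = Set.univ
  · exact h.small_flat (h.hint A B hA2 hB2 hA1 hB1 hu)
  · right
    refine ⟨?_, hA2.inter hB2 hu⟩
    refine lt_of_lt_of_le hA1 (Set.ncard_le_ncard ?_ (Set.toFinite _))
    exact Set.compl_subset_compl.2 Set.inter_subset_left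

theorem Hyp.exists_isCl [Finite Ω] (h : Hyp G Ω k) (S : Set Ω) : ∃ F, IsCl G S F := by
  obtain ⟨F, hF, hmin⟩ := Set.exists_min_image {F : Set Ω | Flat G F ∧ S ⊆ F} Set.ncard
    (Set.toFinite _) ⟨Set.univ, Or.inl rfl, Set.subset_univ _⟩
  refine ⟨F, hF.1, hF.2, fun F' hF' hS => ?_⟩
  have h1 := hmin (F ∩ F') ⟨h.inter hF.1 hF', Set.subset_inter hF.2 hS⟩
  have h2 : F ∩ F' = F := Set.eq_of_subset_of_ncard_le Set.inter_subset_left h1 (Set.toFinite _)
  rw [← h2]; exact Set.inter_subset_right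

/-- the size of the closure of a `k`-set -/
theorem Hyp.exists_r [Finite Ω] (h : Hyp G Ω k) :
    ∃ r, ∀ K F : Set Ω, K.ncard = k → IsCl G K F → F.ncard = r := by
  by_cases hex : ∃ K : Set Ω, K.ncard = k
  · obtain ⟨K0, hK0⟩ := hex
    obtain ⟨F0, hF0⟩ := h.exists_isCl K0
    refine ⟨F0.ncard, fun K F hK hF => ?_⟩
    obtain ⟨g, hg⟩ := homog h.hsmall k le_rfl K0 K hK0 hK
    have h1 := hF0.smul g
    rw [hg] at h1
    rw [hF.unique h1, Set.ncard_smul_set]
  · exact ⟨0, fun K F hK _ => (hex ⟨K, hK⟩).elim⟩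

theorem exists_ksub [Finite Ω] {S : Set Ω} (hS : k ≤ S.ncard) : ∃ K ⊆ S, K.ncard = k :=
  Set.exists_subset_card_eq hS

/-- a block containing a `k`-set is its closure -/
theorem isCl_of_card [Finite Ω] (h : Hyp G Ω k) {r : ℕ}
    (hr : ∀ K F : Set Ω, K.ncard = k → IsCl G K F → F.ncard = r)
    {F K : Set Ω} (hF : Flat G F) (hFr : F.ncard ≤ r) (hK : K.ncard = k) (hKF : K ⊆ F) : IsCl G K F := by
  obtain ⟨F', hF'⟩ := h.exists_isCl K
  have h1 : F' ⊆ F := hF'.2.2 _ hF hKF
  have h2 : F' = F := Set.eq_of_subset_of_ncard_le h1 (by rw [hr K F' hK hF']; exact hFr) (Set.toFinite _)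
  rw [← h2]; exact hF'

/-- two blocks with `k` common points coincide -/
theorem block_eq [Finite Ω] (h : Hyp G Ω k) {r : ℕ}
    (hr : ∀ K F : Set Ω, K.ncard = k → IsCl G K F → F.ncard = r)
    {F F' : Set Ω} (hF : Flat G F) (hFr : F.ncard ≤ r) (hF' : Flat G F') (hFr' : F'.ncard ≤ r)
    (hk : k ≤ (F ∩ F').ncard) : F = F' := by
  obtain ⟨K, hK, hKk⟩ := exists_ksub hk
  exact (isCl_of_card h hr hF hFr hKk (hK.trans Set.inter_subset_left)).unique
    (isCl_of_card h hr hF' hFr' hKk (hK.trans Set.inter_subset_right))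

/-- base case (Tits' inequality) -/
theorem base_case [Finite Ω] (h : Hyp G Ω k) {r : ℕ}
    (hr : ∀ K F : Set Ω, K.ncard = k → IsCl G K F → F.ncard = r)
    {A B K : Set Ω} (hK : K.ncard = k) (hA : IsCl G K A) (hAne : A ≠ Set.univ) (hB : Flat G B)
    (hAB : A ⊂ B) : 2 * A.ncard ≤ B.ncard := by
  classical
  haveI := Fintype.ofFinite Ω
  have hAr : A.ncard = r := hr K A hK hA
  have hk2 := h.hk2
  have hrk : k < r := by
    rcases hA.1 with h1 | ⟨h1, h2⟩
    · exact (hAne h1).elim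
    · have h3 : k ≤ A.ncard := by rw [← hK]; exact Set.ncard_le_ncard hA.2.1 (Set.toFinite _)
      have h4 : A.ncard ≠ k := fun h4 => h.hno A h4 h2
      omega
  obtain ⟨x, hxB, hxA⟩ := Set.exists_of_ssubset hAB
  have hxK : x ∉ K := fun hx => hxA (hA.2.1 hx)
  have hKi : ∀ i ∈ K, (insert x (K \ {i})).ncard = k := by
    intro i hi
    rw [Set.ncard_insert_of_notMem (fun hx => hxK hx.1) (Set.toFinite _), Set.ncard_diff_singleton_of_mem hi]
    omega
  have hcl : ∀ i : Ω, ∃ F, IsCl G (insert x (K \ {i})) F := fun i => h.exists_isCl _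
  choose Bl hBl using hcl
  have hBlB : ∀ i ∈ K, Bl i ⊆ B := by
    intro i hi
    apply (hBl i).2.2 _ hB
    rw [Set.insert_subset_iff]
    exact ⟨hxB, (Set.diff_subset.trans hA.2.1).trans hAB.1⟩
  have hBlr : ∀ i ∈ K, (Bl i).ncard = r := fun i hi => hr _ _ (hKi i hi) (hBl i)
  have hxBl : ∀ i, x ∈ Bl i := fun i => (hBl i).2.1 (Set.mem_insert _ _)
  have hKBl : ∀ i, K \ {i} ⊆ Bl i := fun i => (Set.subset_insert _ _).trans (hBl i).2.1
  have hBlne : ∀ i ∈ K, Bl i ≠ A := by
    intro i hi he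
    exact hxA (he ▸ hxBl i)
  have hBlA : ∀ i ∈ K, (Bl i ∩ A).ncard < k := by
    intro i hi
    by_contra hcon
    exact hBlne i hi (block_eq h hr (hBl i).1 (hBlr i hi).le hA.1 hAr.le (not_lt.1 hcon))
  have hne2 : ∀ i ∈ K, ∀ j ∈ K, i ≠ j → Bl i ≠ Bl j := by
    intro i hi j hj hij he
    have h1 : K ⊆ Bl i ∩ A := by
      intro w hw
      refine ⟨?_, hA.2.1 hw⟩
      by_cases hwi : w = i
      · rw [he]; exact hKBl j ⟨hw, fun h => hij (hwi.symm.trans h)⟩
      · exact hKBl i ⟨hw, hwi⟩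
    have h2 := Set.ncard_le_ncard h1 (Set.toFinite _)
    have h3 := hBlA i hi
    omega
  have hdisj : ∀ i ∈ K, ∀ j ∈ K, i ≠ j → Disjoint (Bl i \ (insert x A)) (Bl j \ (insert x A)) := by
    intro i hi j hj hij
    rw [Set.disjoint_left]
    rintro w ⟨hw1, hw2⟩ ⟨hw3, _⟩
    apply hne2 i hi j hj hij
    apply block_eq h hr (hBl i).1 (hBlr i hi).le (hBl j).1 (hBlr j hj).le
    have h1 : insert w (insert x ((K \ {i}) \ {j})) ⊆ Bl i ∩ Bl j := by
      rw [Set.insert_subset_iff, Set.insert_subset_iff]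
      refine ⟨⟨hw1, hw3⟩, ⟨hxBl i, hxBl j⟩, fun v hv => ⟨hKBl i hv.1, hKBl j ⟨hv.1.1, hv.2⟩⟩⟩
    have h2 := Set.ncard_le_ncard h1 (Set.toFinite _)
    rw [Set.ncard_insert_of_notMem _ (Set.toFinite _), Set.ncard_insert_of_notMem _ (Set.toFinite _),
      Set.ncard_diff_singleton_of_mem, Set.ncard_diff_singleton_of_mem hi] at h2
    · omega
    · exact ⟨hj, fun h => hij h.symm⟩
    · exact fun h => hxK h.1.1
    · intro hw
      rcases hw with rfl | hw
      · exact hw2 (Set.mem_insert _ _)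
      · exact hw2 (Set.mem_insert_of_mem _ (hA.2.1 hw.1.1))
  have hsize : ∀ i ∈ K, r - k ≤ (Bl i \ (insert x A)).ncard := by
    intro i hi
    have e : Bl i \ (insert x A) = (Bl i \ (Bl i ∩ A)) \ {x} := by
      ext w
      simp only [Set.mem_diff, Set.mem_insert_iff, Set.mem_inter_iff, Set.mem_singleton_iff]
      tauto
    have hxm : x ∈ Bl i \ (Bl i ∩ A) := ⟨hxBl i, fun hx => hxA hx.2⟩
    rw [e, Set.ncard_diff_singleton_of_mem hxm,
      Set.ncard_diff Set.inter_subset_left (Set.toFinite _), hBlr i hi]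
    have := hBlA i hi
    omega
  -- count
  let D : Ω → Finset Ω := fun i => (Set.toFinite (Bl i \ (insert x A))).toFinset
  have hDcard : ∀ i ∈ K.toFinset, r - k ≤ (D i).card := by
    intro i hi
    have := hsize i (Set.mem_toFinset.1 hi)
    rw [Set.ncard_eq_toFinset_card _ (Set.toFinite _)] at this
    exact this
  have hcardU : (K.toFinset.biUnion D).card = ∑ i ∈ K.toFinset, (D i).card := by
    apply Finset.card_biUnion
    intro i hi j hj hij
    have := hdisj i (Set.mem_toFinset.1 hi) j (Set.mem_toFinset.1 hj) hij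
    change Disjoint (D i) (D j)
    rw [Finset.disjoint_left]
    intro w hw1 hw2
    rw [Set.Finite.mem_toFinset] at hw1 hw2
    exact Set.disjoint_left.1 this hw1 hw2
  have hsum : K.toFinset.card * (r - k) ≤ (K.toFinset.biUnion D).card := by
    rw [hcardU]
    have := Finset.sum_le_sum hDcard
    rw [Finset.sum_const, smul_eq_mul] at this
    exact this
  have hKc : K.toFinset.card = k := by rw [← Set.ncard_eq_toFinset_card', hK]
  rw [hKc] at hsum
  have hsub : (↑(K.toFinset.biUnion D) : Set Ω) ⊆ B \ (insert x A) := by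
    intro w hw
    rw [Finset.mem_coe, Finset.mem_biUnion] at hw
    obtain ⟨i, hi, hw⟩ := hw
    rw [Set.Finite.mem_toFinset] at hw
    exact ⟨hBlB i (Set.mem_toFinset.1 hi) hw.1, hw.2⟩
  have h5 := Set.ncard_le_ncard hsub (Set.toFinite _)
  rw [Set.ncard_coe_finset] at h5
  have h6 : (B \ (insert x A)).ncard + (insert x A).ncard = B.ncard :=
    Set.ncard_diff_add_ncard_of_subset (Set.insert_subset hxB hAB.1) (Set.toFinite _)
  rw [Set.ncard_insert_of_notMem hxA (Set.toFinite _), hAr] at h6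
  rw [hAr]
  have h7 : k * (r - k) + 1 ≥ r := by
    obtain ⟨e, rfl⟩ : ∃ e, r = k + 1 + e := ⟨r - k - 1, by omega⟩
    have : k + 1 + e - k = 1 + e := by omega
    rw [this]
    nlinarith
  omega

theorem flat_half [Finite Ω] (h : Hyp G Ω k) : ∀ (N : ℕ) (A : Set Ω), A.ncard ≤ N → Flat G A →
    A ≠ Set.univ → k ≤ A.ncard → ∀ B : Set Ω, Flat G B → A ⊂ B → 2 * A.ncard ≤ B.ncard := by
  classical
  obtain ⟨r, hr⟩ := h.exists_r
  have hk2 := h.hk2
  intro N
  induction N with
  | zero =>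
    intro A hA0 _ _ hk
    omega
  | succ N ih =>
    intro A hAN hA hAne hkA B hB hAB
    obtain ⟨K, hKA, hK⟩ := exists_ksub hkA
    obtain ⟨F, hF⟩ := h.exists_isCl K
    have hFA : F ⊆ A := hF.2.2 _ hA hKA
    by_cases hFe : F = A
    · rw [hFe] at hF
      exact base_case h hr hK hF hAne hB hAB
    -- a maximal flat in `A`
    obtain ⟨A', hA', hmax⟩ := Set.exists_max_image {C : Set Ω | Flat G C ∧ C ⊂ A ∧ k ≤ C.ncard} Set.ncard
      (Set.toFinite _) ⟨F, hF.1, lt_of_le_of_ne hFA hFe, by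
        rw [← hK]; exact Set.ncard_le_ncard hF.2.1 (Set.toFinite _)⟩
    obtain ⟨hA'f, hA'A, hA'k⟩ := hA'
    have hA'ne : A' ≠ Set.univ := by
      rintro rfl
      exact hAne (Set.univ_subset_iff.1 hA'A.1)
    have hlt : A'.ncard < A.ncard := Set.ncard_lt_ncard hA'A (Set.toFinite _)
    have ih' := ih A' (by omega) hA'f hA'ne hA'k A hA hA'A
    have hA'jc : JC G A' := by
      rcases hA'f with h1 | h1
      · exact (hA'ne h1).elim
      · exact h1.2
    -- covers
    obtain ⟨x0, hx0A, hx0A'⟩ := Set.exists_of_ssubset hA'A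
    have hcov0 : IsCl G (insert x0 A') A := by
      obtain ⟨C, hC⟩ := h.exists_isCl (insert x0 A')
      have h1 : C ⊆ A := hC.2.2 _ hA (Set.insert_subset hx0A hA'A.1)
      by_cases hCA : C = A
      · rw [← hCA]; exact hC
      · exfalso
        have h2 : A' ⊂ C := by
          refine ⟨(Set.subset_insert _ _).trans hC.2.1, fun h3 => hx0A' (h3 (hC.2.1 (Set.mem_insert _ _)))⟩
        have h3 := Set.ncard_lt_ncard h2 (Set.toFinite _)
        have h4 := hmax C ⟨hC.1, lt_of_le_of_ne h1 hCA, by omega⟩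
        omega
    have hcov : ∀ y ∉ A', ∀ C, IsCl G (insert y A') C → C.ncard = A.ncard := by
      intro y hy C hC
      obtain ⟨g, hg1, hg2⟩ := hA'jc x0 hx0A' y hy
      have h1 := hcov0.smul g
      have e3 : g • A' = A' := by
        ext w
        constructor
        · rintro ⟨v, hv, rfl⟩
          simp only
          rw [hg1 v hv]; exact hv
        · intro hw
          exact ⟨w, hw, hg1 w hw⟩
      rw [Set.smul_set_insert, hg2, e3] at h1
      rw [hC.unique h1, Set.ncard_smul_set]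
    have hcov_inter : ∀ y z C D, y ∉ A' → z ∉ A' → IsCl G (insert y A') C → IsCl G (insert z A') D →
        C ≠ D → C ∩ D ⊆ A' := by
      intro y z C D hy hz hC hD hCD w hw
      by_contra hwA
      obtain ⟨E, hE⟩ := h.exists_isCl (insert w A')
      have h1 : E ⊆ C := hE.2.2 _ hC.1 (Set.insert_subset hw.1 ((Set.subset_insert _ _).trans hC.2.1))
      have h2 : E ⊆ D := hE.2.2 _ hD.1 (Set.insert_subset hw.2 ((Set.subset_insert _ _).trans hD.2.1))
      have h3 : E = C := Set.eq_of_subset_of_ncard_le h1 (by rw [hcov w hwA E hE, hcov y hy C hC]) (Set.toFinite _)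
      have h4 : E = D := Set.eq_of_subset_of_ncard_le h2 (by rw [hcov w hwA E hE, hcov z hz D hD]) (Set.toFinite _)
      exact hCD (h3.symm.trans h4)
    obtain ⟨x, hxB, hxA⟩ := Set.exists_of_ssubset hAB
    have hxA' : x ∉ A' := fun hx => hxA (hA'A.1 hx)
    obtain ⟨A1, hA1⟩ := h.exists_isCl (insert x A')
    have hA1B : A1 ⊆ B := hA1.2.2 _ hB (Set.insert_subset hxB (hA'A.1.trans hAB.1))
    have hxA1 : x ∈ A1 := hA1.2.1 (Set.mem_insert _ _)
    have hA'A1 : A' ⊆ A1 := (Set.subset_insert _ _).trans hA1.2.1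
    have hA1ne : A ≠ A1 := by
      intro he; exact hxA (he ▸ hxA1)
    have hA1c : A1.ncard = A.ncard := hcov x hxA' A1 hA1
    have hAA1 : A ∩ A1 ⊆ A' := hcov_inter x0 x A A1 hx0A' hxA' hcov0 hA1 hA1ne
    -- a third point
    have hthird : ∃ z ∈ B, z ∉ A ∧ z ∉ A1 := by
      obtain ⟨C, hCA', hC⟩ := exists_ksub (k := k - 2) (S := A') (by omega)
      have hxC : x ∉ C := fun hx => hxA' (hCA' hx)
      have hx0C : x0 ∉ C := fun hx => hx0A' (hCA' hx)
      have hxx0 : x ≠ x0 := by rintro rfl; exact hxA hx0A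
      have hc1 : (insert x (insert x0 C)).ncard = k := by
        rw [Set.ncard_insert_of_notMem _ (Set.toFinite _), Set.ncard_insert_of_notMem hx0C (Set.toFinite _)]
        · omega
        · rintro (h1 | h1)
          · exact hxx0 h1
          · exact hxC h1
      obtain ⟨E, hE⟩ := h.exists_isCl (insert x (insert x0 C))
      have hEB : E ⊆ B := by
        apply hE.2.2 _ hB
        exact Set.insert_subset hxB (Set.insert_subset (hAB.1 hx0A) ((hCA'.trans hA'A.1).trans hAB.1))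
      have hxE : x ∈ E := hE.2.1 (Set.mem_insert _ _)
      have hx0E : x0 ∈ E := hE.2.1 (Set.mem_insert_of_mem _ (Set.mem_insert _ _))
      have hCE : C ⊆ E := fun w hw => hE.2.1 (Set.mem_insert_of_mem _ (Set.mem_insert_of_mem _ hw))
      have hEr : E.ncard = r := hr _ _ hc1 hE
      have hFr : F.ncard = r := hr _ _ hK hF
      have hrk : k < r := by
        have h3 : k ≤ F.ncard := by rw [← hK]; exact Set.ncard_le_ncard hF.2.1 (Set.toFinite _)
        rcases hF.1 with h1 | ⟨h1, h2⟩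
        · exact (hAne (Set.univ_subset_iff.1 (h1 ▸ hFA))).elim
        · have h4 : F.ncard ≠ k := fun h4 => h.hno F h4 h2
          omega
      obtain ⟨z, hzE, hz⟩ : ∃ z ∈ E, z ∉ insert x (insert x0 C) := by
        by_contra hcon
        push Not at hcon
        have := Set.ncard_le_ncard (show E ⊆ insert x (insert x0 C) from hcon) (Set.toFinite _)
        omega
      have hzx : z ≠ x := by rintro rfl; exact hz (Set.mem_insert _ _)
      have hzx0 : z ≠ x0 := by rintro rfl; exact hz (Set.mem_insert_of_mem _ (Set.mem_insert _ _))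
      have hzC : z ∉ C := fun h1 => hz (Set.mem_insert_of_mem _ (Set.mem_insert_of_mem _ h1))
      have hEr' : E.ncard ≤ r := hEr.le
      refine ⟨z, hEB hzE, ?_, ?_⟩
      · intro hzA
        have hc2 : (insert z (insert x0 C)).ncard = k := by
          rw [Set.ncard_insert_of_notMem _ (Set.toFinite _), Set.ncard_insert_of_notMem hx0C (Set.toFinite _)]
          · omega
          · rintro (h1 | h1)
            · exact hzx0 h1
            · exact hzC h1
        have h1 : IsCl G (insert z (insert x0 C)) E :=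
          isCl_of_card h hr hE.1 hEr' hc2 (Set.insert_subset hzE (Set.insert_subset hx0E hCE))
        have h2 : E ⊆ A := h1.2.2 _ hA (Set.insert_subset hzA (Set.insert_subset hx0A (hCA'.trans hA'A.1)))
        exact hxA (h2 hxE)
      · intro hzA1
        have hc2 : (insert z (insert x C)).ncard = k := by
          rw [Set.ncard_insert_of_notMem _ (Set.toFinite _), Set.ncard_insert_of_notMem hxC (Set.toFinite _)]
          · omega
          · rintro (h1 | h1)
            · exact hzx h1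
            · exact hzC h1
        have h1 : IsCl G (insert z (insert x C)) E :=
          isCl_of_card h hr hE.1 hEr' hc2 (Set.insert_subset hzE (Set.insert_subset hxE hCE))
        have h2 : E ⊆ A1 := h1.2.2 _ hA1.1 (Set.insert_subset hzA1 (Set.insert_subset hxA1 (hCA'.trans hA'A1)))
        exact hx0A' (hAA1 ⟨hx0A, h2 hx0E⟩)
    obtain ⟨z, hzB, hzA, hzA1⟩ := hthird
    have hzA' : z ∉ A' := fun h1 => hzA (hA'A.1 h1)
    obtain ⟨A2, hA2⟩ := h.exists_isCl (insert z A')
    have hA2B : A2 ⊆ B := hA2.2.2 _ hB (Set.insert_subset hzB (hA'A.1.trans hAB.1))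
    have hzA2 : z ∈ A2 := hA2.2.1 (Set.mem_insert _ _)
    have hA'A2 : A' ⊆ A2 := (Set.subset_insert _ _).trans hA2.2.1
    have hA2c : A2.ncard = A.ncard := hcov z hzA' A2 hA2
    have hAA2 : A ∩ A2 ⊆ A' := hcov_inter x0 z A A2 hx0A' hzA' hcov0 hA2 (by intro he; exact hzA (he ▸ hzA2))
    have hA1A2 : A1 ∩ A2 ⊆ A' := hcov_inter x z A1 A2 hxA' hzA' hA1 hA2 (by intro he; exact hzA1 (he ▸ hzA2))
    -- count
    have e1 : (A1 \ A').ncard + A'.ncard = A1.ncard := Set.ncard_diff_add_ncard_of_subset hA'A1 (Set.toFinite _)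
    have e2 : (A2 \ A').ncard + A'.ncard = A2.ncard := Set.ncard_diff_add_ncard_of_subset hA'A2 (Set.toFinite _)
    have d1 : Disjoint A (A1 \ A') := by
      rw [Set.disjoint_left]
      intro w hw1 hw2
      exact hw2.2 (hAA1 ⟨hw1, hw2.1⟩)
    have d2 : Disjoint (A ∪ (A1 \ A')) (A2 \ A') := by
      rw [Set.disjoint_left]
      rintro w (hw1 | hw1) hw2
      · exact hw2.2 (hAA2 ⟨hw1, hw2.1⟩)
      · exact hw2.2 (hA1A2 ⟨hw1.1, hw2.1⟩)
    have e3 : (A ∪ (A1 \ A') ∪ (A2 \ A')).ncard = A.ncard + (A1 \ A').ncard + (A2 \ A').ncard := by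
      rw [Set.ncard_union_eq d2 (Set.toFinite _) (Set.toFinite _),
        Set.ncard_union_eq d1 (Set.toFinite _) (Set.toFinite _)]
    have e4 : (A ∪ (A1 \ A') ∪ (A2 \ A')).ncard ≤ B.ncard := by
      apply Set.ncard_le_ncard _ (Set.toFinite _)
      exact Set.union_subset (Set.union_subset hAB.1 (Set.diff_subset.trans hA1B)) (Set.diff_subset.trans hA2B)
    omega

end Cfsg.Agent.H18.MG
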