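import Mathlib
import Cfsg.Agent.H18_MG1

/-!
Marggraf's theorem: a primitive group with a Jordan set `Γ`, `1 < |Γ| < n/2`, contains a 3-cycle,
hence the alternating group.
-/

set_option autoImplicit false
set_option linter.all false

open MulAction Subgroup SubMulAction
open scoped Pointwise

namespace Cfsg.Agent.H18.MG

open Cfsg.Agent.H23.JordanSet

universe u v

theorem js_iff_jc {G : Type*} [Group G] {Ω : Type*} [MulAction G Ω] {Γ : Set Ω} :
    JS G Γ ↔ JC G Γᶜ := by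
  constructor
  · intro h x hx y hy
    obtain ⟨g, hg1, hg2⟩ := h x (by simpa using hx) y (by simpa using hy)
    exact ⟨g, fun z hz => hg1 z hz, hg2⟩
  · intro h x hx y hy
    obtain ⟨g, hg1, hg2⟩ := h x (by simpa using hx) y (by simpa using hy)
    exact ⟨g, fun z hz => hg1 z hz, hg2⟩

theorem multi (j : ℕ) : ∀ (G : Type u) [Group G] (Ω : Type v) [MulAction G Ω] [Finite Ω],
    IsPreprimitive G Ω → ∀ Γ : Set Ω, 1 < Γ.ncard → JS G Γ → Nat.card Ω = 2 * Γ.ncard + j →
    IsMultiplyPretransitive G Ω (j + 3) := by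
  induction j with
  | zero =>
    intro G _ Ω _ _ hprim Γ h1 hJ hc
    exact three_trans hprim h1 (by omega) hJ
  | succ j ih =>
    intro G _ Ω _ _ hprim Γ h1 hJ hc
    classical
    have h3 := three_trans hprim h1 (by omega) hJ
    haveI := hprim.toIsPretransitive
    obtain ⟨α, hα⟩ : ∃ α, α ∉ Γ := by
      by_contra hcon
      push Not at hcon
      have := Set.eq_univ_of_forall hcon
      rw [this, Set.ncard_univ] at hc
      omega
    have hcard : Nat.card (ofStabilizer G α) + 1 = Nat.card Ω := nat_card_ofStabilizer_add_one_eq G α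
    have h2 : IsMultiplyPretransitive (stabilizer G α) (ofStabilizer G α) 2 :=
      (ofStabilizer.isMultiplyPretransitive (a := α)).1 h3
    have hp : IsPreprimitive (stabilizer G α) (ofStabilizer G α) :=
      isPreprimitive_of_is_two_pretransitive h2
    set Γ' : Set (ofStabilizer G α) := Subtype.val ⁻¹' Γ with hΓ'
    have himg : Subtype.val '' Γ' = Γ := by
      ext x
      constructor
      · rintro ⟨y, hy, rfl⟩; exact hy
      · intro hx
        exact ⟨⟨x, by rintro rfl; exact hα hx⟩, hx, rfl⟩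
    have hcc : Γ'.ncard = Γ.ncard := by
      conv_rhs => rw [← himg]
      exact (Set.ncard_image_of_injective _ Subtype.val_injective).symm
    have hJ' : JS (stabilizer G α) Γ' := by
      intro x hx y hy
      obtain ⟨g, hg1, hg2⟩ := hJ x hx y hy
      exact ⟨⟨g, hg1 α hα⟩, fun z hz => Subtype.ext (hg1 z hz), Subtype.ext hg2⟩
    have h4 := ih (stabilizer G α) (ofStabilizer G α) hp Γ' (by omega) hJ' (by omega)
    have h5 : IsMultiplyPretransitive G Ω ((j + 3).succ) :=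
      (ofStabilizer.isMultiplyPretransitive (a := α)).2 h4
    exact h5

/-- in a `(j+1)`-transitive group all `j`-sets are Jordan complements -/
theorem jc_of_multi {G : Type*} [Group G] {Ω : Type*} [MulAction G Ω] [Finite Ω] {j : ℕ}
    (h : IsMultiplyPretransitive G Ω (j + 1)) {S : Set Ω} (hS : S.ncard = j) : JC G S := by
  haveI := h
  have h1 : IsMultiplyPretransitive (fixingSubgroup G S) (ofFixingSubgroup G S) 1 :=
    ofFixingSubgroup.isMultiplyPretransitive G (n := j + 1) S (by omega)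
  have h2 : IsPretransitive (fixingSubgroup G S) (ofFixingSubgroup G S) := is_one_pretransitive_iff.1 h1
  intro x hx y hy
  obtain ⟨g, hg⟩ := h2.exists_smul_eq ⟨x, hx⟩ ⟨y, hy⟩
  refine ⟨g, ?_, congrArg Subtype.val hg⟩
  have := g.2
  rw [mem_fixingSubgroup_iff] at this
  exact this

/-- two elements with exactly one common moved point give a 3-cycle -/
theorem commutator_three_cycle {G : Type*} [Group G] {Ω : Type*} [MulAction G Ω] {Γ1 Γ2 : Set Ω} {p : Ω}
    (h12 : Γ1 ∩ Γ2 = {p}) {a b : G} (ha : ∀ z ∉ Γ1, a • z = z) (hb : ∀ z ∉ Γ2, b • z = z)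
    (hap : a • p ≠ p) (hbp : b • p ≠ p) :
    (a * b * a⁻¹ * b⁻¹) • p = a • p ∧ (a * b * a⁻¹ * b⁻¹) • (b • p) = p ∧
      (a * b * a⁻¹ * b⁻¹) • (a • p) = b • p ∧ a • p ≠ b • p ∧
      ∀ z, z ≠ p → z ≠ a • p → z ≠ b • p → (a * b * a⁻¹ * b⁻¹) • z = z := by
  have hp1 : p ∈ Γ1 := by
    have : p ∈ Γ1 ∩ Γ2 := by rw [h12]; rfl
    exact this.1
  have hp2 : p ∈ Γ2 := by
    have : p ∈ Γ1 ∩ Γ2 := by rw [h12]; rfl
    exact this.2
  have hpp : ∀ z, z ∈ Γ1 → z ∈ Γ2 → z = p := by
    intro z h1 h2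
    have : z ∈ Γ1 ∩ Γ2 := ⟨h1, h2⟩
    rw [h12] at this
    exact this
  have ha' : ∀ z ∉ Γ1, a⁻¹ • z = z := by
    intro z hz; rw [inv_smul_eq_iff, ha z hz]
  have hb' : ∀ z ∉ Γ2, b⁻¹ • z = z := by
    intro z hz; rw [inv_smul_eq_iff, hb z hz]
  have hain : ∀ z ∈ Γ1, a • z ∈ Γ1 := by
    intro z hz
    by_contra hcon
    have h1 := ha' _ hcon
    rw [inv_smul_smul] at h1
    rw [← h1] at hcon
    exact hcon hz
  have hbin : ∀ z ∈ Γ2, b • z ∈ Γ2 := by
    intro z hz
    by_contra hcon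
    have h1 := hb' _ hcon
    rw [inv_smul_smul] at h1
    rw [← h1] at hcon
    exact hcon hz
  have hain' : ∀ z ∈ Γ1, a⁻¹ • z ∈ Γ1 := by
    intro z hz
    by_contra hcon
    have h1 := ha _ hcon
    rw [smul_inv_smul] at h1
    rw [← h1] at hcon
    exact hcon hz
  have hbin' : ∀ z ∈ Γ2, b⁻¹ • z ∈ Γ2 := by
    intro z hz
    by_contra hcon
    have h1 := hb _ hcon
    rw [smul_inv_smul] at h1
    rw [← h1] at hcon
    exact hcon hz
  have hap' : a⁻¹ • p ≠ p := fun h => hap (by rw [inv_smul_eq_iff] at h; exact h.symm)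
  have hbp' : b⁻¹ • p ≠ p := fun h => hbp (by rw [inv_smul_eq_iff] at h; exact h.symm)
  have hap2 : a • p ∉ Γ2 := fun h => hap (hpp _ (hain p hp1) h)
  have hbp1 : b • p ∉ Γ1 := fun h => hbp (hpp _ h (hbin p hp2))
  have hap2' : a⁻¹ • p ∉ Γ2 := fun h => hap' (hpp _ (hain' p hp1) h)
  have hbp1' : b⁻¹ • p ∉ Γ1 := fun h => hbp' (hpp _ h (hbin' p hp2))
  refine ⟨?_, ?_, ?_, ?_, ?_⟩
  · rw [mul_smul, mul_smul, mul_smul, ha' _ hbp1', smul_inv_smul]
  · rw [mul_smul, mul_smul, mul_smul, inv_smul_smul, hb _ hap2', smul_inv_smul]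
  · rw [mul_smul, mul_smul, mul_smul, hb' _ hap2, inv_smul_smul, ha _ hbp1]
  · intro h
    apply hap2
    rw [h]; exact hbin p hp2
  · intro z hzp hza hzb
    rw [mul_smul, mul_smul, mul_smul]
    by_cases hz2 : z ∈ Γ2
    · have h1 : b⁻¹ • z ∉ Γ1 := by
        intro h
        have := hpp _ h (hbin' z hz2)
        rw [inv_smul_eq_iff] at this
        exact hzb this
      have h2 : z ∉ Γ1 := fun h => hzp (hpp z h hz2)
      rw [ha' _ h1, smul_inv_smul, ha z h2]
    · rw [hb' z hz2]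
      by_cases hz1 : z ∈ Γ1
      · have h1 : a⁻¹ • z ∉ Γ2 := by
          intro h
          have := hpp _ (hain' z hz1) h
          rw [inv_smul_eq_iff] at this
          exact hza this
        rw [hb _ h1, smul_inv_smul]
      · rw [ha' z hz1, hb z hz2, ha z hz1]

/-- the 3-cycle -/
theorem exists_three_cycle {G : Type u} [Group G] {Ω : Type v} [MulAction G Ω] [Fintype Ω] [DecidableEq Ω]
    (hprim : IsPreprimitive G Ω) {Γ : Set Ω} (h1 : 1 < Γ.ncard) (hΓ : 2 * Γ.ncard < Nat.card Ω)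
    (hJ : JS G Γ) : ∃ g : G, (MulAction.toPerm g : Equiv.Perm Ω).IsThreeCycle := by
  classical
  -- a minimal Jordan set
  obtain ⟨Γ0, ⟨hΓ01, hΓ0J⟩, hmin⟩ := Set.exists_min_image {C : Set Ω | 1 < C.ncard ∧ JS G C} Set.ncard
    (Set.toFinite _) ⟨Γ, h1, hJ⟩
  have hm : Γ0.ncard ≤ Γ.ncard := hmin Γ ⟨h1, hJ⟩
  have hcompl := Set.ncard_add_ncard_compl Γ0 (Set.toFinite _) (Set.toFinite _)
  obtain ⟨j, hj⟩ : ∃ j, Nat.card Ω = 2 * Γ0.ncard + j := ⟨Nat.card Ω - 2 * Γ0.ncard, by omega⟩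
  have hmulti := multi j G Ω hprim Γ0 hΓ01 hΓ0J hj
  have hP : ∀ i, i ≤ j + 2 → ∀ S : Set Ω, S.ncard = i → JC G S := by
    intro i hi S hS
    have h2 : IsMultiplyPretransitive G Ω (i + 1) :=
      isMultiplyPretransitive_of_le (n := j + 3) (by omega) (by omega)
    exact jc_of_multi h2 hS
  have hex : ∃ i, (¬ ∀ S : Set Ω, S.ncard = i → JC G S) ∨ Nat.card Ω ≤ i + 1 := ⟨Nat.card Ω, Or.inr (by omega)⟩
  obtain ⟨k, hk, hkmin⟩ : ∃ k, ((¬ ∀ S : Set Ω, S.ncard = k → JC G S) ∨ Nat.card Ω ≤ k + 1) ∧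
      ∀ i < k, ¬ ((¬ ∀ S : Set Ω, S.ncard = i → JC G S) ∨ Nat.card Ω ≤ i + 1) :=
    ⟨Nat.find hex, Nat.find_spec hex, fun i hi => Nat.find_min hex hi⟩
  have hsmall : ∀ S : Set Ω, S.ncard < k → JC G S := by
    intro S hS
    have := hkmin _ hS
    push Not at this
    exact this.1 S rfl
  have hkn : k < Nat.card Ω := by
    by_contra hcon
    have := hkmin (Nat.card Ω - 1) (by omega)
    push Not at this
    omega
  have hk2 : j + 3 ≤ k ∨ Nat.card Ω ≤ k + 1 := by
    rcases hk with hk | hk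
    · left
      by_contra hcon
      exact hk (hP k (by omega))
    · exact Or.inr hk
  by_cases hcase : Γ0ᶜ.ncard < k
  · -- Case A
    obtain ⟨p, hp⟩ : Γ0.Nonempty := by rw [← Set.ncard_pos (Set.toFinite _)]; omega
    obtain ⟨T, hT, hTc⟩ := Set.exists_subset_card_eq (s := Γ0ᶜ) (n := Γ0.ncard - 1) (by omega)
    have hpT : p ∉ T := fun h => hT h hp
    have hΓ2c : (insert p T).ncard = Γ0.ncard := by
      rw [Set.ncard_insert_of_notMem hpT (Set.toFinite _)]; omega
    have hcompl2 := Set.ncard_add_ncard_compl (insert p T) (Set.toFinite _) (Set.toFinite _)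
    have hJC2 : JC G (insert p T)ᶜ := hsmall _ (by omega)
    have hJ2 : JS G (insert p T) := js_iff_jc.2 hJC2
    obtain ⟨x, hx, hxp⟩ := Set.exists_ne_of_one_lt_ncard hΓ01 p
    obtain ⟨y, hy, hyp⟩ := Set.exists_ne_of_one_lt_ncard (s := insert p T) (by omega) p
    obtain ⟨a, ha1, ha2⟩ := hΓ0J p hp x hx
    obtain ⟨b, hb1, hb2⟩ := hJ2 p (Set.mem_insert _ _) y hy
    have h12 : Γ0 ∩ insert p T = {p} := by
      ext z
      constructor
      · rintro ⟨hz1, hz2 | hz2⟩
        · exact hz2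
        · exact (hT hz2 hz1).elim
      · rintro rfl
        exact ⟨hp, Set.mem_insert _ _⟩
    obtain ⟨c1, c2, c3, c4, c5⟩ := commutator_three_cycle h12 ha1 hb1 (by rw [ha2]; exact hxp)
      (by rw [hb2]; exact hyp)
    rw [ha2] at c1 c3 c4 c5
    rw [hb2] at c2 c3 c4 c5
    refine ⟨a * b * a⁻¹ * b⁻¹, ?_⟩
    rw [← card_support_eq_three_iff]
    have hsupp : (MulAction.toPerm (a * b * a⁻¹ * b⁻¹) : Equiv.Perm Ω).support = {p, x, y} := by
      ext z
      rw [Equiv.Perm.mem_support, MulAction.toPerm_apply]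
      simp only [Finset.mem_insert, Finset.mem_singleton]
      constructor
      · intro hz
        by_contra hcon
        push Not at hcon
        exact hz (c5 z hcon.1 hcon.2.1 hcon.2.2)
      · rintro (rfl | rfl | rfl)
        · rw [c1]; exact hxp
        · rw [c3]; exact fun h => c4 h.symm
        · rw [c2]; exact fun h => hyp h.symm
    rw [hsupp, Finset.card_eq_three]
    exact ⟨p, x, y, hxp.symm, hyp.symm, c4, rfl⟩
  · -- Case B
    exfalso
    have hk3 : ¬ Nat.card Ω ≤ k + 1 := by omega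
    have hk4 : ¬ ∀ S : Set Ω, S.ncard = k → JC G S := by
      rcases hk with hk | hk
      · exact hk
      · exact (hk3 hk).elim
    have hno : ∀ S : Set Ω, S.ncard = k → ¬ JC G S := by
      intro S hS hSJ
      apply hk4
      intro T hT
      obtain ⟨g, hg⟩ := homog hsmall k le_rfl S T hS hT
      rw [← hg]
      exact hSJ.smul g
    have hyp : Hyp G Ω k := by
      refine ⟨by omega, hkn, hsmall, hno, ?_⟩
      intro A B hA hB hA1 hB1 hAB
      have hA2 : Γ0.ncard ≤ Aᶜ.ncard := hmin Aᶜ ⟨hA1, js_iff_jc.2 (by rw [compl_compl]; exact hA)⟩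
      have hB2 : Γ0.ncard ≤ Bᶜ.ncard := hmin Bᶜ ⟨hB1, js_iff_jc.2 (by rw [compl_compl]; exact hB)⟩
      have cA := Set.ncard_add_ncard_compl A (Set.toFinite _) (Set.toFinite _)
      have cB := Set.ncard_add_ncard_compl B (Set.toFinite _) (Set.toFinite _)
      have hi := Set.ncard_union_add_ncard_inter A B (Set.toFinite _) (Set.toFinite _)
      rw [hAB, Set.ncard_univ] at hi
      omega
    have hΓ0c : Γ0ᶜ ≠ Set.univ := by
      intro h
      have := congrArg Set.ncard h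
      rw [Set.ncard_univ] at this
      omega
    have hfl : Flat G Γ0ᶜ := by
      right
      rw [compl_compl]
      exact ⟨hΓ01, js_iff_jc.1 hΓ0J⟩
    have := flat_half hyp _ Γ0ᶜ le_rfl hfl hΓ0c (by omega) Set.univ (Or.inl rfl)
      (Set.ssubset_univ_iff.2 hΓ0c)
    rw [Set.ncard_univ] at this
    omega

/-- **Marggraf's theorem** -/
theorem marggraf {G : Type u} [Group G] {Ω : Type v} [MulAction G Ω] [Fintype Ω] [DecidableEq Ω]
    (hprim : IsPreprimitive G Ω) {Γ : Set Ω} (h1 : 1 < Γ.ncard) (hΓ : 2 * Γ.ncard < Nat.card Ω)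
    (hJ : JS G Γ) : ∀ σ : Equiv.Perm Ω, Equiv.Perm.sign σ = 1 → ∃ x : G, (MulAction.toPerm x : Equiv.Perm Ω) = σ := by
  obtain ⟨g, hg⟩ := exists_three_cycle hprim h1 hΓ hJ
  set H : Subgroup (Equiv.Perm Ω) := (MulAction.toPermHom G Ω).range with hH
  have hgH : (MulAction.toPerm g : Equiv.Perm Ω) ∈ H := ⟨g, rfl⟩
  have hHp : IsPreprimitive H Ω := by
    haveI := hprim
    let f : Ω →ₑ[(MulAction.toPermHom G Ω).rangeRestrict] Ω :=
      { toFun := id, map_smul' := fun g x => rfl }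
    exact IsPreprimitive.of_surjective (f := f) (fun x => ⟨x, rfl⟩)
  have h2 := Equiv.Perm.alternatingGroup_le_of_isPreprimitive_of_isThreeCycle_mem hHp hg hgH
  intro σ hσ
  have h3 : σ ∈ alternatingGroup Ω := by rw [Equiv.Perm.mem_alternatingGroup]; exact hσ
  obtain ⟨x, hx⟩ := h2 h3
  exact ⟨x, hx⟩

end Cfsg.Agent.H18.MG
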