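import Mathlib
import Cfsg.Prelude.Def_Transfer
import Cfsg.Agent.H13_Syl
import Cfsg.Agent.H1_Nilp
import Cfsg.Agent.H1_Schmidt2

/-!
# Nilpotent minimal covers
-/

set_option autoImplicit false
set_option linter.unusedSectionVars false
set_option linter.unusedSimpArgs false
set_option linter.style.haveILetI false

namespace Cfsg.Agent.H18.NC

open Subgroup Pointwise
open Cfsg.Agent.H13.Syl

variable {G : Type*} [Group G]

/-- a cover by proper subgroups -/
def Cov (𝓑 : Finset (Subgroup G)) : Prop := (∀ A ∈ 𝓑, A ≠ ⊤) ∧ (∀ g : G, ∃ A ∈ 𝓑, g ∈ A)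

/-- nilpotent minimal covers -/
structure NMC (𝓐 : Finset (Subgroup G)) : Prop where
  cov : Cov 𝓐
  min : ∀ 𝓑 : Finset (Subgroup G), Cov 𝓑 → 𝓐.card ≤ 𝓑.card
  nil : ∀ A ∈ 𝓐, Group.IsNilpotent ↥A

/-- the condition on the Sylow subgroup -/
structure SP (p : ℕ) (Q : Subgroup G) : Prop where
  comm : ∀ x ∈ Q, ∀ y ∈ Q, x * y = y * x
  ne : Q ≠ ⊥
  ex : (∃ z ∈ Q, Q ≤ zpowers z) ∨ (∃ y ∈ Q, y ^ p ≠ 1)

theorem SP.conj {p : ℕ} {Q : Subgroup G} (h : SP p Q) (g : G) : SP p (cj g Q) where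
  comm := by
    intro x hx y hy
    rw [mem_cj] at hx hy
    have := h.comm _ hx _ hy
    calc x * y = g * ((g⁻¹ * x * g) * (g⁻¹ * y * g)) * g⁻¹ := by group
      _ = g * ((g⁻¹ * y * g) * (g⁻¹ * x * g)) * g⁻¹ := by rw [this]
      _ = y * x := by group
  ne := fun hb => h.ne (cj_eq_bot_iff.mp hb)
  ex := by
    rcases h.ex with ⟨z, hz, hQ⟩ | ⟨y, hy, hy1⟩
    · left
      refine ⟨g * z * g⁻¹, conj_mem_cj hz, ?_⟩
      intro x hx
      rw [mem_cj] at hx
      obtain ⟨i, hi⟩ := mem_zpowers_iff.mp (hQ hx)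
      refine mem_zpowers_iff.mpr ⟨i, ?_⟩
      rw [conj_zpow, hi]; group
    · right
      refine ⟨g * y * g⁻¹, conj_mem_cj hy, ?_⟩
      rw [conj_pow]
      intro h1
      apply hy1
      calc y ^ p = g⁻¹ * (g * y ^ p * g⁻¹) * g := by group
        _ = 1 := by rw [h1]; group

theorem sp_all [Finite G] {p : ℕ} [hp : Fact p.Prime] {P : Sylow p G} (h : SP p (P : Subgroup G)) (Q : Sylow p G) :
    SP p (Q : Subgroup G) := by
  obtain ⟨g, hg⟩ := MulAction.exists_smul_eq G P Q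
  have : (Q : Subgroup G) = cj g (P : Subgroup G) := by
    rw [← hg]; rfl
  rw [this]
  exact h.conj g

/-- the part of a commuting product -/
theorem mem_zpowers_mul [Finite G] {z t : G} (hc : z * t = t * z) (ho : (orderOf z).Coprime (orderOf t)) :
    z ∈ zpowers (z * t) := by
  obtain ⟨k, hk1, hk2⟩ := Nat.chineseRemainder ho 1 0
  have h1 : (z * t) ^ k = z := by
    have hc' : Commute z t := hc
    have e1 : z ^ k = z ^ 1 := pow_eq_pow_iff_modEq.mpr hk1
    have e2 : t ^ k = t ^ 0 := pow_eq_pow_iff_modEq.mpr hk2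
    rw [hc'.mul_pow, e1, e2, pow_one, pow_zero, mul_one]
  exact mem_zpowers_iff.mpr ⟨(k : ℤ), by rw [zpow_natCast]; exact h1⟩

/-- `p`-elements of nilpotent subgroups are central -/
theorem central_of [Finite G] {p : ℕ} [hp : Fact p.Prime] {P : Sylow p G} (h : SP p (P : Subgroup G))
    {A : Subgroup G} (hA : Group.IsNilpotent A) {z : G} (hz : z ∈ A) (hzp : IsPGroup p (zpowers z)) :
    A ≤ centralizer ({z} : Set G) := by
  apply H1.Nilp.le_of_sylow_le
  intro q hq
  let T : Sylow q A := default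
  refine ⟨T, ?_⟩
  rintro _ ⟨t, ht, rfl⟩
  rw [mem_centralizer_singleton_iff]
  by_cases hqp : q = p
  · subst hqp
    have hTn : (T : Subgroup A).Normal := by
      haveI := hA
      infer_instance
    have hzA : IsPGroup q (zpowers (⟨z, hz⟩ : A)) := by
      intro w
      obtain ⟨i, hi⟩ := mem_zpowers_iff.mp w.2
      obtain ⟨k, hk⟩ := hzp ⟨z ^ i, zpow_mem (mem_zpowers z) i⟩
      refine ⟨k, ?_⟩
      apply Subtype.ext
      apply Subtype.ext
      have h1 : (z ^ i) ^ q ^ k = 1 := by simpa using congrArg Subtype.val hk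
      simp only [SubmonoidClass.coe_pow, OneMemClass.coe_one]
      rw [← hi]
      simpa using h1
    have hzT : (⟨z, hz⟩ : A) ∈ (T : Subgroup A) := H1.Nilp.mem_sylow_of_normal T hTn hzA
    obtain ⟨Q, hQ⟩ := (T.2.map A.subtype).exists_le_sylow
    have h2 := (sp_all h Q).comm (A.subtype t) (hQ ⟨t, ht, rfl⟩) (A.subtype ⟨z, hz⟩) (hQ ⟨⟨z, hz⟩, hzT, rfl⟩)
    exact h2
  · have h2 := H1.Schmidt.commute_of_nilpotent' (K := A) hA (p := q) (q := p) hqp (A := (T : Subgroup A).map A.subtype)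
      (B := zpowers z) (T.2.map A.subtype) hzp (map_subtype_le _) (by rwa [zpowers_le]) (x := A.subtype t) (y := z)
      ⟨t, ht, rfl⟩ (mem_zpowers z)
    exact h2

theorem NMC.uniq [Finite G] {𝓐 : Finset (Subgroup G)} (h𝓐 : NMC 𝓐) (hZ : center G = ⊥) {p : ℕ} [hp : Fact p.Prime]
    {P : Sylow p G} (h : SP p (P : Subgroup G)) {A A' : Subgroup G} (hA : A ∈ 𝓐) (hA' : A' ∈ 𝓐) {z : G}
    (hzA : z ∈ A) (hzA' : z ∈ A') (hzp : IsPGroup p (zpowers z)) (hz1 : z ≠ 1) : A = A' := by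
  classical
  by_contra hne
  have h1 := central_of h (h𝓐.nil A hA) hzA hzp
  have h2 := central_of h (h𝓐.nil A' hA') hzA' hzp
  have hCt : centralizer ({z} : Set G) ≠ ⊤ := by
    intro ht
    apply hz1
    have : z ∈ center G := by
      rw [mem_center_iff]
      intro g
      have hg : g ∈ centralizer ({z} : Set G) := by rw [ht]; trivial
      rwa [mem_centralizer_singleton_iff] at hg
    rwa [hZ, mem_bot] at this
  have hcov : Cov (insert (centralizer ({z} : Set G)) ((𝓐.erase A).erase A')) := by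
    refine ⟨?_, ?_⟩
    · intro B hB
      rcases Finset.mem_insert.mp hB with rfl | hB
      · exact hCt
      · exact h𝓐.cov.1 B (Finset.mem_of_mem_erase (Finset.mem_of_mem_erase hB))
    · intro g
      obtain ⟨B, hB, hgB⟩ := h𝓐.cov.2 g
      by_cases hBA : B = A
      · exact ⟨_, Finset.mem_insert_self _ _, h1 (hBA ▸ hgB)⟩
      by_cases hBA' : B = A'
      · exact ⟨_, Finset.mem_insert_self _ _, h2 (hBA' ▸ hgB)⟩
      · exact ⟨B, Finset.mem_insert_of_mem (Finset.mem_erase.mpr ⟨hBA', Finset.mem_erase.mpr ⟨hBA, hB⟩⟩), hgB⟩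
  have h3 := h𝓐.min _ hcov
  have h4 : (insert (centralizer ({z} : Set G)) ((𝓐.erase A).erase A')).card ≤ ((𝓐.erase A).erase A').card + 1 :=
    Finset.card_insert_le _ _
  have h5 : ((𝓐.erase A).erase A').card = (𝓐.erase A).card - 1 :=
    Finset.card_erase_of_mem (Finset.mem_erase.mpr ⟨fun h => hne h.symm, hA'⟩)
  have h6 : (𝓐.erase A).card = 𝓐.card - 1 := Finset.card_erase_of_mem hA
  have h7 : 1 < 𝓐.card := Finset.one_lt_card.mpr ⟨A, hA, A', hA', hne⟩
  omega

theorem pg_of_mem {p : ℕ} {Q : Subgroup G} (hQ : IsPGroup p Q) {z : G} (hz : z ∈ Q) : IsPGroup p (zpowers z) :=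
  hQ.to_le (by rwa [zpowers_le])

/-- the Sylow subgroup lies in a member -/
theorem NMC.full [Finite G] {𝓐 : Finset (Subgroup G)} (h𝓐 : NMC 𝓐) (hZ : center G = ⊥) {p : ℕ} [hp : Fact p.Prime]
    {P : Sylow p G} (h : SP p (P : Subgroup G)) : ∃ A ∈ 𝓐, (P : Subgroup G) ≤ A := by
  rcases h.ex with ⟨z, hz, hP⟩ | ⟨y, hy, hy1⟩
  · obtain ⟨A, hA, hzA⟩ := h𝓐.cov.2 z
    exact ⟨A, hA, hP.trans (by rwa [zpowers_le])⟩
  · obtain ⟨A, hA, hyA⟩ := h𝓐.cov.2 y
    refine ⟨A, hA, ?_⟩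
    have key : ∀ w ∈ (P : Subgroup G), w ^ p = 1 → w ∈ A := by
      intro w hw hwp
      obtain ⟨B, hB, hywB⟩ := h𝓐.cov.2 (y * w)
      have hc : Commute y w := h.comm y hy w hw
      have h1 : (y * w) ^ p = y ^ p := by rw [hc.mul_pow, hwp, mul_one]
      have h2 : y ^ p ∈ B := by rw [← h1]; exact B.pow_mem hywB p
      have h3 := h𝓐.uniq hZ h hA hB (A.pow_mem hyA p) h2 (pg_of_mem P.2 ((P : Subgroup G).pow_mem hy p)) hy1
      rw [← h3] at hywB
      have := A.mul_mem (A.inv_mem hyA) hywB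
      simpa using this
    intro w hw
    by_cases hw1 : w = 1
    · rw [hw1]; exact A.one_mem
    obtain ⟨k, hk⟩ := P.2 ⟨w, hw⟩
    have hk' : w ^ (p ^ k) = 1 := by simpa using congrArg Subtype.val hk
    have hex : ∃ k, w ^ (p ^ k) = 1 := ⟨k, hk'⟩
    classical
    set n := Nat.find hex with hn
    have hn1 : w ^ (p ^ n) = 1 := Nat.find_spec hex
    have hn0 : n ≠ 0 := by
      intro h0
      rw [h0, pow_zero, pow_one] at hn1
      exact hw1 hn1
    obtain ⟨m, hm⟩ := Nat.exists_eq_succ_of_ne_zero hn0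
    have hm1 : w ^ (p ^ m) ≠ 1 := Nat.find_min hex (by omega)
    have hv : w ^ (p ^ m) ∈ A := by
      apply key _ ((P : Subgroup G).pow_mem hw _)
      rw [← pow_mul, ← pow_succ]
      rw [hm] at hn1
      exact hn1
    obtain ⟨B, hB, hwB⟩ := h𝓐.cov.2 w
    have h3 := h𝓐.uniq hZ h hA hB hv (B.pow_mem hwB _) (pg_of_mem P.2 ((P : Subgroup G).pow_mem hw _)) hm1
    rw [h3]; exact hwB

/-- centralizers of elements of the Sylow subgroup -/
theorem NMC.cent [Finite G] {𝓐 : Finset (Subgroup G)} (h𝓐 : NMC 𝓐) (hZ : center G = ⊥) {p : ℕ} [hp : Fact p.Prime]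
    {P : Sylow p G} (h : SP p (P : Subgroup G)) {A : Subgroup G} (hA : A ∈ 𝓐) (hPA : (P : Subgroup G) ≤ A)
    {z : G} (hz : z ∈ (P : Subgroup G)) (hz1 : z ≠ 1) : centralizer ({z} : Set G) = A := by
  apply le_antisymm _ (central_of h (h𝓐.nil A hA) (hPA hz) (pg_of_mem P.2 hz))
  apply H1.Nilp.le_of_sylow_le
  intro q hq
  by_cases hqp : q = p
  · subst hqp
    have hPC : (P : Subgroup G) ≤ centralizer ({z} : Set G) := by
      intro x hx
      rw [mem_centralizer_singleton_iff]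
      exact h.comm x hx z hz
    refine ⟨P.subtype hPC, ?_⟩
    rw [Sylow.coe_subtype, subgroupOf_map_subtype]
    exact inf_le_left.trans hPA
  · let T : Sylow q ↥(centralizer ({z} : Set G)) := default
    refine ⟨T, ?_⟩
    rintro _ ⟨t, ht, rfl⟩
    have hc : z * (t : G) = t * z := (mem_centralizer_singleton_iff.mp t.2).symm
    have ho : (orderOf z).Coprime (orderOf (t : G)) := by
      obtain ⟨k, hk⟩ := (IsPGroup.iff_orderOf.mp P.2) ⟨z, hz⟩
      obtain ⟨l, hl⟩ := (IsPGroup.iff_orderOf.mp T.2) ⟨t, ht⟩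
      rw [Subgroup.orderOf_mk] at hk hl
      rw [hk, show orderOf (t : G) = q ^ l by rw [← hl, Subgroup.orderOf_coe]]
      exact Nat.Coprime.pow _ _ ((Nat.coprime_primes hp.out hq.out).mpr (Ne.symm hqp))
    obtain ⟨B, hB, hzt⟩ := h𝓐.cov.2 (z * t)
    have hzB : z ∈ B := by
      have h1 := mem_zpowers_mul hc ho
      exact (zpowers_le.mpr hzt) h1
    have h3 := h𝓐.uniq hZ h hA hB (hPA hz) hzB (pg_of_mem P.2 hz) hz1
    rw [← h3] at hzt
    have := A.mul_mem (A.inv_mem (hPA hz)) hzt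
    simpa using this

theorem NMC.centP [Finite G] {𝓐 : Finset (Subgroup G)} (h𝓐 : NMC 𝓐) (hZ : center G = ⊥) {p : ℕ} [hp : Fact p.Prime]
    {P : Sylow p G} (h : SP p (P : Subgroup G)) {A : Subgroup G} (hA : A ∈ 𝓐) (hPA : (P : Subgroup G) ≤ A) :
    centralizer ((P : Subgroup G) : Set G) = A := by
  apply le_antisymm
  · obtain ⟨z, hz, hz1⟩ := (Subgroup.ne_bot_iff_exists_ne_one).mp h.ne |> fun ⟨a, ha⟩ => (⟨a, a.2, fun h => ha (Subtype.ext h)⟩ : ∃ z, z ∈ (P : Subgroup G) ∧ z ≠ 1)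
    rw [← h𝓐.cent hZ h hA hPA hz hz1]
    exact centralizer_le (by intro x hx; rw [Set.mem_singleton_iff] at hx; rw [hx]; exact hz)
  · rw [le_centralizer_iff]
    intro z hz a ha
    have := central_of h (h𝓐.nil A hA) (hPA hz) (pg_of_mem P.2 hz) ha
    rw [mem_centralizer_singleton_iff] at this
    exact this

/-- uniqueness of the Sylow subgroup in a member -/
theorem NMC.uniqS [Finite G] {𝓐 : Finset (Subgroup G)} (h𝓐 : NMC 𝓐) {p : ℕ} [hp : Fact p.Prime]
    {P Q : Sylow p G} {A : Subgroup G} (hA : A ∈ 𝓐) (hPA : (P : Subgroup G) ≤ A)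
    (hQA : (Q : Subgroup G) ≤ A) : P = Q := by
  have hn : ((P.subtype hPA : Sylow p A) : Subgroup A).Normal := by
    haveI := h𝓐.nil A hA
    infer_instance
  have h1 : ∀ x ∈ (Q : Subgroup G), x ∈ (P : Subgroup G) := by
    intro x hx
    have hxp : IsPGroup p (zpowers (⟨x, hQA hx⟩ : A)) := by
      have := (pg_of_mem Q.2 hx)
      intro w
      obtain ⟨i, hi⟩ := mem_zpowers_iff.mp w.2
      obtain ⟨k, hk⟩ := this ⟨x ^ i, zpow_mem (mem_zpowers x) i⟩
      refine ⟨k, ?_⟩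
      apply Subtype.ext
      apply Subtype.ext
      have h1 : (x ^ i) ^ p ^ k = 1 := by simpa using congrArg Subtype.val hk
      simp only [SubmonoidClass.coe_pow, OneMemClass.coe_one]
      rw [← hi]
      simpa using h1
    have h2 := H1.Nilp.mem_sylow_of_normal (P.subtype hPA) hn hxp
    rw [Sylow.coe_subtype, mem_subgroupOf] at h2
    exact h2
  exact (Sylow.ext (Q.3 P.2 h1))

theorem NMC.main [Finite G] {𝓐 : Finset (Subgroup G)} (h𝓐 : NMC 𝓐) (hZ : center G = ⊥) {p : ℕ} [hp : Fact p.Prime]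
    {P : Sylow p G} (h : SP p (P : Subgroup G)) {M : Subgroup G} (hM : M ≠ ⊤)
    (hCM : centralizer ((P : Subgroup G) : Set G) ≤ M) : M ≤ normalizer ((P : Subgroup G) : Set G) := by
  classical
  haveI : Fintype (Sylow p G) := Fintype.ofFinite _
  -- the members containing Sylow subgroups
  have hex : ∀ Q : Sylow p G, ∃ A ∈ 𝓐, (Q : Subgroup G) ≤ A := fun Q => h𝓐.full hZ (sp_all h Q)
  choose F hF hFQ using hex
  have hFinj : Function.Injective F := by
    intro Q Q' hQ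
    exact h𝓐.uniqS (hF Q) (hFQ Q) (hQ ▸ hFQ Q')
  have hcent : ∀ Q : Sylow p G, centralizer ((Q : Subgroup G) : Set G) = F Q := fun Q =>
    h𝓐.centP hZ (sp_all h Q) (hF Q) (hFQ Q)
  set I := Finset.univ.image F with hI
  have hI𝓐 : I ⊆ 𝓐 := by
    intro A hA
    obtain ⟨Q, -, rfl⟩ := Finset.mem_image.mp hA
    exact hF Q
  have hIc : I.card = Fintype.card (Sylow p G) := by
    rw [hI, Finset.card_image_of_injective _ hFinj, Finset.card_univ]
  have hPM : (P : Subgroup G) ≤ M := by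
    refine le_trans ?_ hCM
    rw [le_centralizer_iff]
    intro x hx y hy
    exact h.comm x hx y hy |>.symm ▸ rfl
  -- Sylow subgroups inside `M`
  have hconj : ∀ Q : Sylow p G, (Q : Subgroup G) ≤ M → F Q ≤ M := by
    intro Q hQ
    obtain ⟨m, hm⟩ := MulAction.exists_smul_eq M (P.subtype hPM) (Q.subtype hQ)
    have h1 : (Q : Subgroup G) = cj (m : G) (P : Subgroup G) := by
      have h2 : ((Q.subtype hQ : Sylow p M) : Subgroup M).map M.subtype = (Q : Subgroup G) := by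
        rw [Sylow.coe_subtype, subgroupOf_map_subtype, inf_eq_left.mpr hQ]
      rw [← h2, ← hm]
      ext x
      constructor
      · rintro ⟨y, hy, rfl⟩
        rw [mem_cj]
        have hy' : y ∈ MulAut.conj m • ((P.subtype hPM : Sylow p M) : Subgroup M) := hy
        rw [Subgroup.mem_pointwise_smul_iff_inv_smul_mem, Sylow.coe_subtype, mem_subgroupOf] at hy'
        simpa using hy'
      · intro hx
        rw [mem_cj] at hx
        have hxM : x ∈ M := by
          have := M.mul_mem (M.mul_mem m.2 (hPM hx)) (M.inv_mem m.2)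
          simpa [mul_assoc] using this
        refine ⟨⟨x, hxM⟩, ?_, rfl⟩
        change (⟨x, hxM⟩ : M) ∈ MulAut.conj m • ((P.subtype hPM : Sylow p M) : Subgroup M)
        rw [Subgroup.mem_pointwise_smul_iff_inv_smul_mem, Sylow.coe_subtype, mem_subgroupOf]
        simpa using hx
    rw [← hcent Q, h1, ← cj_centralizer]
    rw [cj_le_iff_forall]
    intro x hx
    exact M.mul_mem (M.mul_mem m.2 (hCM hx)) (M.inv_mem m.2)
  -- the new cover
  set 𝒬 := (Finset.univ : Finset (Sylow p G)).filter (fun Q : Sylow p G => ¬ (Q : Subgroup G) ≤ M) with h𝒬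
  set 𝓑 := (𝓐 \ I) ∪ insert M (𝒬.image F) with h𝓑
  have hcov : Cov 𝓑 := by
    refine ⟨?_, ?_⟩
    · intro B hB
      rcases Finset.mem_union.mp hB with hB | hB
      · exact h𝓐.cov.1 B (Finset.mem_sdiff.mp hB).1
      · rcases Finset.mem_insert.mp hB with rfl | hB
        · exact hM
        · obtain ⟨Q, -, rfl⟩ := Finset.mem_image.mp hB
          exact h𝓐.cov.1 _ (hF Q)
    · intro g
      obtain ⟨B, hB, hgB⟩ := h𝓐.cov.2 g
      by_cases hBI : B ∈ I
      · obtain ⟨Q, -, rfl⟩ := Finset.mem_image.mp hBI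
        by_cases hQ : (Q : Subgroup G) ≤ M
        · exact ⟨M, Finset.mem_union_right _ (Finset.mem_insert_self _ _), hconj Q hQ hgB⟩
        · refine ⟨F Q, Finset.mem_union_right _ (Finset.mem_insert_of_mem (Finset.mem_image.mpr ⟨Q, ?_, rfl⟩)), hgB⟩
          exact Finset.mem_filter.mpr ⟨Finset.mem_univ _, hQ⟩
      · exact ⟨B, Finset.mem_union_left _ (Finset.mem_sdiff.mpr ⟨hB, hBI⟩), hgB⟩
  have hmin := h𝓐.min 𝓑 hcov
  have hc1 : 𝓑.card ≤ (𝓐.card - I.card) + (𝒬.card + 1) := by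
    refine (Finset.card_union_le _ _).trans ?_
    rw [Finset.card_sdiff_of_subset hI𝓐]
    refine Nat.add_le_add_left ?_ _
    exact (Finset.card_insert_le _ _).trans (Nat.add_le_add_right Finset.card_image_le _)
  have hc2 : I.card ≤ 𝓐.card := Finset.card_le_card hI𝓐
  have hc3 : ((Finset.univ : Finset (Sylow p G)).filter (fun Q : Sylow p G => (Q : Subgroup G) ≤ M)).card + 𝒬.card = Fintype.card (Sylow p G) := by
    rw [h𝒬, Finset.card_filter_add_card_filter_not, Finset.card_univ]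
  have hc4 : ((Finset.univ : Finset (Sylow p G)).filter (fun Q : Sylow p G => (Q : Subgroup G) ≤ M)).card ≤ 1 := by
    omega
  intro m hm
  have h5 : ∀ Q : Sylow p G, (Q : Subgroup G) ≤ M → Q = P := by
    intro Q hQ
    exact Finset.card_le_one.mp hc4 Q (Finset.mem_filter.mpr ⟨Finset.mem_univ _, hQ⟩) P
      (Finset.mem_filter.mpr ⟨Finset.mem_univ _, hPM⟩)
  have h6 : m • P = P := by
    apply h5
    intro x hx
    have hx' : x ∈ cj m (P : Subgroup G) := hx
    rw [mem_cj] at hx'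
    have := M.mul_mem (M.mul_mem hm (hPM hx')) (M.inv_mem hm)
    simpa [mul_assoc] using this
  exact Sylow.smul_eq_iff_mem_normalizer.mp h6

theorem NMC.coatom [Finite G] {𝓐 : Finset (Subgroup G)} (h𝓐 : NMC 𝓐) (hZ : center G = ⊥) {p : ℕ} [hp : Fact p.Prime]
    {P : Sylow p G} (h : SP p (P : Subgroup G)) (hnn : ¬ (P : Subgroup G).Normal) :
    IsCoatom (normalizer ((P : Subgroup G) : Set G)) := by
  refine ⟨fun ht => hnn (normalizer_eq_top_iff.mp ht), ?_⟩
  intro H hH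
  by_contra hne
  have h1 := h𝓐.main hZ h hne ((centralizer_le_normalizer _).trans hH.le)
  exact absurd h1 (not_le_of_gt hH)

theorem NMC.ti [Finite G] {𝓐 : Finset (Subgroup G)} (h𝓐 : NMC 𝓐) (hZ : center G = ⊥) {p : ℕ} [hp : Fact p.Prime]
    {P Q : Sylow p G} (h : SP p (P : Subgroup G)) (hPQ : P ≠ Q) : (P : Subgroup G) ⊓ Q = ⊥ := by
  rw [eq_bot_iff]
  rintro z ⟨hz1, hz2⟩
  rw [mem_bot]
  by_contra hz
  obtain ⟨A, hA, hPA⟩ := h𝓐.full hZ h
  obtain ⟨B, hB, hQB⟩ := h𝓐.full hZ (sp_all h Q)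
  have h1 := h𝓐.uniq hZ h hA hB (hPA hz1) (hQB hz2) (pg_of_mem P.2 hz1) hz
  rw [← h1] at hQB
  exact hPQ (h𝓐.uniqS hA hPA hQB)

end Cfsg.Agent.H18.NC
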