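import Cfsg.Agent.H18_NF2
import Cfsg.Agent.H13_NPC

set_option autoImplicit false

/-! The largest subgroup normal in the fusion system of a `p`-stable group, and the centric radical subgroups. -/

namespace Cfsg.Agent.H18.NF

open Cfsg Subgroup Cfsg.Agent.H13.Syl Cfsg.Agent.H13.Alp Cfsg.Agent.H13.CF Cfsg.Agent.H13.Sec Cfsg.Agent.H12.ZJ Cfsg.Agent.H18.ZJF
open scoped commutatorElement

universe u v w

variable {G : Type u} [Group G] [Finite G] {p : ℕ} [hp : Fact p.Prime]

theorem normF_lift {S Q : Subgroup G} (hQ : NormF S Q) {Y : Subgroup (normalizer (Q : Set G))}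
    (h : NormF (S.subgroupOf (normalizer (Q : Set G))) Y) : NormF S (Q ⊔ Y.map (normalizer (Q : Set G)).subtype) := by
  obtain ⟨hQS, hSQ, hQc⟩ := hQ
  obtain ⟨h1, h2, h3⟩ := h
  have key : ∀ x : normalizer (Q : Set G), x ∈ normalizer (Y : Set (normalizer (Q : Set G))) →
      x.1 ∈ normalizer ((Q ⊔ Y.map (normalizer (Q : Set G)).subtype : Subgroup G) : Set G) := by
    intro x hx
    have h4 : x.1 ∈ normalizer ((Y.map (normalizer (Q : Set G)).subtype : Subgroup G) : Set G) :=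
      le_normalizer_map (normalizer (Q : Set G)).subtype ⟨x, hx, rfl⟩
    rw [mem_normalizer_iff_cj] at h4 ⊢
    rw [cj_sup, mem_normalizer_iff_cj.1 x.2, h4]
  refine ⟨sup_le hQS ?_, ?_, ?_⟩
  · rintro _ ⟨y, hy, rfl⟩
    exact h1 hy
  · intro s hs
    exact key ⟨s, hSQ hs⟩ (h2 hs)
  · apply ctl_trans hQc
    intro A hA g hg hgA
    obtain ⟨x, hx, hx2⟩ := h3 (A.subgroupOf _) (fun a ha => hA ha) ⟨g, hg⟩ (by
      rw [cj_le_iff_forall]
      intro a ha
      exact hgA (conj_mem_cj ha))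
    refine ⟨x.1, key x hx, fun a ha => ?_⟩
    exact congrArg Subtype.val (hx2 ⟨a, hSQ (hA ha)⟩ ha)

theorem max_constrained (hp2 : p ≠ 2) (hst : IsNormalizerPStable p G) {S Q : Subgroup G} (hS : IsSylIn p S ⊤)
    (hQ : NormF S Q) (hmax : ∀ Q', NormF S Q' → Nat.card Q' ≤ Nat.card Q) : S ⊓ centralizer (Q : Set G) ≤ Q := by
  obtain ⟨hQS, hSQ, hQc⟩ := id hQ
  by_contra hne
  have hS₁ : IsSylIn p (S.subgroupOf (normalizer (Q : Set G))) ⊤ := H13.WC.isSylIn_subgroupOf (hS.mono hSQ le_top)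
  have hcl : ∀ x : normalizer (Q : Set G), x ∈ centralizer ((Q.subgroupOf (normalizer (Q : Set G)) : Subgroup _) : Set (normalizer (Q : Set G))) ↔ x.1 ∈ centralizer (Q : Set G) := by
    intro x
    rw [mem_centralizer_iff, mem_centralizer_iff]
    constructor
    · intro h q hq
      exact congrArg Subtype.val (h ⟨q, le_normalizer hq⟩ hq)
    · intro h q hq
      exact Subtype.ext (h q.1 hq)
  have hQn : (Q.subgroupOf (normalizer (Q : Set G))).Normal := inferInstance
  obtain ⟨Y, hY, hYQ⟩ := step_centralizer (n := 0) (dvd_zero p) (Q := Q.subgroupOf (normalizer (Q : Set G))) hS₁ (fun q hq => hQS hq) (by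
    intro h
    apply hne
    rintro s ⟨hs, hsc⟩
    have hsN : s ∈ normalizer (Q : Set G) := hSQ hs
    exact h (x := ⟨s, hsN⟩) ⟨hs, (hcl ⟨s, hsN⟩).2 hsc⟩) (by
    intro Z₁ hZn hZc hZp _ T hT
    exact master hp2 (by norm_num) (dvd_zero p) _ _ rfl
      (CQ.stable_central hp2 (stable_subgroup (stable_subgroup hst _) _) hZc hZp) T hT)
  have h1 := hmax _ (normF_lift hQ hY)
  have h2 : Q = Q ⊔ Y.map (normalizer (Q : Set G)).subtype := eq_of_le_of_card_ge le_sup_left h1
  apply hYQ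
  intro y hy
  have h3 : y.1 ∈ Q ⊔ Y.map (normalizer (Q : Set G)).subtype := mem_sup_right ⟨y, hy, rfl⟩
  rw [← h2] at h3
  exact h3

/-- a normal `p`-complement of a normal subgroup is normal -/
theorem exists_complement {C : Subgroup G} [hC : C.Normal] (h : HasNormalPComplement p C) :
    ∃ M : Subgroup G, M.Normal ∧ M ≤ C ∧ (Nat.card M).Coprime p ∧ ∃ k, M.relIndex C = p ^ k := by
  obtain ⟨N, hN, hNc', k, hk⟩ := H2.Basic.npc_iff.1 h
  have hNc : (Nat.card N).Coprime p := by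
    rw [Nat.coprime_comm, hp.out.coprime_iff_not_dvd]
    exact hNc'
  have hmem : ∀ x : C, x ∈ N ↔ (orderOf x).Coprime p := by
    intro x
    constructor
    · intro hx
      have h1 : orderOf x ∣ Nat.card N := by
        rw [← orderOf_mk x hx]
        exact orderOf_dvd_natCard _
      exact hNc.coprime_dvd_left h1
    · intro hx
      rw [← QuotientGroup.eq_one_iff]
      have h1 : orderOf (x : C ⧸ N) ∣ p ^ k := by
        rw [← hk]
        exact orderOf_dvd_natCard _
      have h2 : orderOf (x : C ⧸ N) ∣ orderOf x := orderOf_map_dvd (QuotientGroup.mk' N) x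
      exact orderOf_eq_one_iff.1 (Nat.eq_one_of_dvd_coprimes (hx.pow_right k) h2 h1)
  refine ⟨N.map C.subtype, ?_, map_subtype_le _, by rw [card_map_of_injective C.subtype_injective]; exact hNc, k, ?_⟩
  · constructor
    intro x hx g
    obtain ⟨y, hy, rfl⟩ := hx
    refine ⟨MulAut.conjNormal g y, ?_, by rw [subtype_apply, MulAut.conjNormal_apply]; rfl⟩
    rw [SetLike.mem_coe, hmem, MulEquiv.orderOf_eq]
    exact (hmem y).1 hy
  · rw [relIndex, subgroupOf, comap_map_eq_self_of_injective C.subtype_injective, hk]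

theorem sup_eq_of_pow {M T X : Subgroup G} (hMX : M ≤ X) (hT : IsSylIn p T X) (hk : ∃ k, M.relIndex X = p ^ k) : M ⊔ T = X := by
  obtain ⟨k, hk⟩ := hk
  have h1 : (M ⊔ T).relIndex X ∣ p ^ k := by
    rw [← hk, ← relIndex_mul_relIndex M (M ⊔ T) X le_sup_left (sup_le hMX hT.1)]
    exact dvd_mul_left _ _
  have h2 : ¬ p ∣ (M ⊔ T).relIndex X := by
    intro h
    apply hT.2.2
    rw [← relIndex_mul_relIndex T (M ⊔ T) X le_sup_right (sup_le hMX hT.1)]
    exact h.mul_left _
  obtain ⟨j, -, hj⟩ := (Nat.dvd_prime_pow hp.out).1 h1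
  rw [hj] at h2
  cases j with
  | zero =>
    rw [pow_zero] at hj
    exact le_antisymm (sup_le hMX hT.1) (relIndex_eq_one.1 hj)
  | succ j => exact absurd (dvd_pow_self p (Nat.succ_ne_zero j)) h2

theorem radical_normal {S Q X : Subgroup G} [hQn : Q.Normal] [hXn : X.Normal] (hS : IsSylIn p S ⊤) (hQS : Q ≤ S)
    (hc : S ⊓ centralizer (Q : Set G) ≤ Q) (hX : Q ⊔ centralizer (Q : Set G) ≤ X)
    (hidx : ∃ k, (Q ⊔ centralizer (Q : Set G)).relIndex X = p ^ k) : NormF S (S ⊓ X) := by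
  obtain ⟨C, hC⟩ : ∃ C : Subgroup G, C = centralizer (Q : Set G) := ⟨_, rfl⟩
  rw [← hC] at hc hX hidx
  have hCn : C.Normal := by rw [hC]; infer_instance
  have hQp : IsPGroup p Q := hS.2.1.to_le hQS
  have hSC : IsSylIn p (S ⊓ C) C := hS.inf_of_le_normalizer (N := C) le_top (by rw [normalizer_eq_top])
  have hSCQ : S ⊓ C = Q ⊓ C := le_antisymm (le_inf hc inf_le_right) (inf_le_inf_right _ hQS)
  have hnpc : HasNormalPComplement p C := by
    have hZc : Q.subgroupOf C ≤ center C := by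
      intro z hz
      rw [mem_center_iff]
      intro k
      apply Subtype.ext
      have hk : k.1 ∈ centralizer (Q : Set G) := by rw [← hC]; exact k.2
      exact ((mem_centralizer_iff.1 hk) z.1 hz).symm
    apply H13.NPC.npc_of_central_ext hZc (hQp.comap_of_injective C.subtype C.subtype_injective)
    rw [H2.Basic.npc_iff]
    refine ⟨⊤, inferInstance, ?_, 0, by rw [index_top, pow_zero]⟩
    rw [card_top]
    have h1 := hSC.2.2
    rw [hSCQ, inf_relIndex_right] at h1
    exact h1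
  obtain ⟨M, hMn, hMC, hMc, j, hj⟩ := exists_complement hnpc
  obtain ⟨k, hk⟩ := hidx
  have hT : IsSylIn p (S ⊓ X) X := hS.inf_of_le_normalizer (N := X) le_top (by rw [normalizer_eq_top])
  have hMX : M ≤ X := hMC.trans (le_sup_right.trans hX)
  have hQC : ∃ i, C.relIndex (Q ⊔ C) = p ^ i := by
    rw [H2.Card.relIndex_sup_of_le_normalizer (by rw [normalizer_eq_top]; exact le_top)]
    obtain ⟨i, hi⟩ := (IsPGroup.iff_card (p := p)).1 hQp
    have h1 : C.relIndex Q ∣ p ^ i := by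
      rw [← hi]
      exact relIndex_dvd_card _ _
    obtain ⟨i', -, hi'⟩ := (Nat.dvd_prime_pow hp.out).1 h1
    exact ⟨i', hi'⟩
  obtain ⟨i, hi⟩ := hQC
  have hMT : M ⊔ (S ⊓ X) = X := by
    apply sup_eq_of_pow hMX hT
    refine ⟨j + i + k, ?_⟩
    rw [← relIndex_mul_relIndex M C X hMC (le_sup_right.trans hX), ← relIndex_mul_relIndex C (Q ⊔ C) X le_sup_right hX, hj, hi, hk]
    ring
  have hSN : S ≤ normalizer ((S ⊓ X : Subgroup G) : Set G) := by
    intro s hs
    rw [mem_normalizer_iff_cj, cj_inf, cj_eq_of_normal s X, cj_eq_of_mem hs]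
  refine ⟨inf_le_left, hSN, ?_⟩
  intro A hA g hg
  obtain ⟨v, hv, m, hm, hgm⟩ := hT.frattini (H := ⊤) le_top (by rw [normalizer_eq_top]) (mem_top g)
  rw [← hMT] at hv
  obtain ⟨c, hc, t, ht, rfl⟩ := (H2.Card.mem_sup_iff' (H := S ⊓ X) (N := M) (by rw [normalizer_eq_top]; exact le_top)).1 hv
  obtain ⟨x, hx, -, hx2⟩ := lift_pprime (K := M) hMc hS.2.1 hSN hA hg (m := t * m) (mul_mem (le_normalizer ht) hm.2) (by
    intro a ha
    have h1 : QuotientGroup.mk' M c = 1 := (QuotientGroup.eq_one_iff c).2 hc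
    rw [hgm]
    have h6 : c * t * m * a * (c * t * m)⁻¹ = c * (t * m * a * (t * m)⁻¹) * c⁻¹ := by group
    have h7 : QuotientGroup.mk' M (c * (t * m * a * (t * m)⁻¹) * c⁻¹) =
        QuotientGroup.mk' M c * QuotientGroup.mk' M (t * m * a * (t * m)⁻¹) * (QuotientGroup.mk' M c)⁻¹ := by
      rw [← map_inv, ← map_mul, ← map_mul]
    rw [h6, h7, h1, one_mul, inv_one, mul_one])
  exact ⟨x, hx, hx2⟩

theorem le_of_cr {S Q R : Subgroup G} (hS : IsSylIn p S ⊤) (hQ : NormF S Q) (hR : R ≤ S)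
    (hRc : IsSylIn p (R ⊓ centralizer (R : Set G)) (centralizer (R : Set G)))
    (hRr : ∀ X ≤ normalizer (R : Set G), (∀ n ∈ normalizer (R : Set G), cj n X = X) → R ⊔ centralizer (R : Set G) ≤ X →
      (∃ k, (R ⊔ centralizer (R : Set G)).relIndex X = p ^ k) → X = R ⊔ centralizer (R : Set G)) : Q ≤ R := by
  obtain ⟨hQS, hSQ, hQc⟩ := hQ
  have hCN : centralizer (R : Set G) ≤ normalizer (R : Set G) := centralizer_le_normalizer _
  have hNC : normalizer (R : Set G) ≤ normalizer ((centralizer (R : Set G) : Subgroup G) : Set G) := by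
    intro x hx
    rw [mem_normalizer_iff_cj] at hx ⊢
    rw [cj_centralizer, hx]
  have hNRC : normalizer (R : Set G) ≤ normalizer ((R ⊔ centralizer (R : Set G) : Subgroup G) : Set G) := by
    intro x hx
    have h1 := hNC hx
    rw [mem_normalizer_iff_cj] at hx h1 ⊢
    rw [cj_sup, hx, h1]
  have hVp : IsPGroup p (Q ⊓ normalizer (R : Set G) : Subgroup G) := hS.2.1.to_le (inf_le_left.trans hQS)
  have hRp : IsPGroup p R := hS.2.1.to_le hR
  have hX := hRr ((Q ⊓ normalizer (R : Set G)) ⊔ (R ⊔ centralizer (R : Set G))) (sup_le inf_le_right (sup_le le_normalizer hCN)) (by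
    intro n hn
    obtain ⟨x, hx, hx2⟩ := hQc R hR n (by rw [mem_normalizer_iff_cj.1 hn]; exact hR)
    obtain ⟨c, hc⟩ : ∃ c, c = x⁻¹ * n := ⟨_, rfl⟩
    have hcC : c ∈ centralizer (R : Set G) := by
      rw [mem_centralizer_iff]
      intro a ha
      have h1 := hx2 a ha
      rw [hc]
      calc a * (x⁻¹ * n) = x⁻¹ * (x * a * x⁻¹) * n := by group
        _ = x⁻¹ * n * a := by rw [h1]; group
    have hnx : n = x * c := by rw [hc]; group
    have hxN : x ∈ normalizer (R : Set G) := by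
      have : x = n * c⁻¹ := by rw [hnx]; group
      rw [this]
      exact mul_mem hn (inv_mem (hCN hcC))
    have h1 : cj c ((Q ⊓ normalizer (R : Set G)) ⊔ (R ⊔ centralizer (R : Set G))) = (Q ⊓ normalizer (R : Set G)) ⊔ (R ⊔ centralizer (R : Set G)) :=
      cj_eq_of_mem (mem_sup_right (mem_sup_right hcC))
    rw [hnx, cj_mul, h1, cj_sup, cj_inf, mem_normalizer_iff_cj.1 hx, cj_normalizer, mem_normalizer_iff_cj.1 hxN,
      mem_normalizer_iff_cj.1 (hNRC hxN)]) le_sup_right (by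
    rw [H2.Card.relIndex_sup_of_le_normalizer (inf_le_right.trans hNRC)]
    obtain ⟨i, hi⟩ := (IsPGroup.iff_card (p := p)).1 hVp
    have h1 : (R ⊔ centralizer (R : Set G)).relIndex (Q ⊓ normalizer (R : Set G)) ∣ p ^ i := by
      rw [← hi]
      exact relIndex_dvd_card _ _
    obtain ⟨i', -, hi'⟩ := (Nat.dvd_prime_pow hp.out).1 h1
    exact ⟨i', hi'⟩)
  have hV : Q ⊓ normalizer (R : Set G) ≤ R ⊔ centralizer (R : Set G) := by rw [← hX]; exact le_sup_left
  have hRS : IsSylIn p R (R ⊔ centralizer (R : Set G)) := by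
    refine ⟨le_sup_left, hRp, ?_⟩
    rw [sup_comm, H2.Card.relIndex_sup_of_le_normalizer hCN, ← inf_relIndex_right]
    exact hRc.2.2
  have hVR : Q ⊓ normalizer (R : Set G) ≤ R := by
    obtain ⟨x, hx, hx2⟩ := hRS.exists_conj_le hVp hV
    have hxN : x ∈ normalizer (R : Set G) := (sup_le le_normalizer hCN) hx
    have h5 : cj x (Q ⊓ normalizer (R : Set G)) ≤ cj x R := by
      rw [mem_normalizer_iff_cj.1 hxN]; exact hx2
    exact cj_le_cj_iff.1 h5
  by_contra hQR
  have hRQ : R ≤ normalizer (Q : Set G) := hR.trans hSQ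
  have h1 : R < R ⊔ Q := by
    refine lt_of_le_of_ne le_sup_left (fun h => hQR ?_)
    rw [h]; exact le_sup_right
  have h2 : IsPGroup p (R ⊔ Q : Subgroup G) := hS.2.1.to_le (sup_le hR hQS)
  have h3 := lt_normalizer_of_lt h2 h1
  obtain ⟨z, hz, hzU⟩ := SetLike.exists_of_lt h3
  obtain ⟨u, hu, y, hy, rfl⟩ := (H2.Card.mem_sup_iff hRQ).1 hz.1
  apply hzU
  refine mul_mem hu (hVR ⟨hy, ?_⟩)
  have h4 : y = u⁻¹ * (u * y) := by group
  rw [h4]
  exact (normalizer (R : Set G)).mul_mem ((normalizer (R : Set G)).inv_mem (le_normalizer hu)) hz.2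

end Cfsg.Agent.H18.NF
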