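import Cfsg.Agent.H27_Qd2
import Cfsg.Agent.H13_Sec

/-! The symmetric group of degree 4 is involved when `SL₂(2)` acts naturally on a section of order 4. -/

set_option autoImplicit false
universe u v w

namespace Cfsg.Agent.H18.Off

open Cfsg Cfsg.Agent.H27.Grp Cfsg.Agent.H27.Qd
open Matrix (SpecialLinearGroup)

abbrev F4 := Fin 2 → ZMod 2
abbrev S2 := SpecialLinearGroup (Fin 2) (ZMod 2)

/-- the affine permutation -/
def aff (A : S2) (w : F4) : Equiv.Perm F4 where
  toFun x := A.1.mulVec x + w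
  invFun x := (A⁻¹).1.mulVec (x - w)
  left_inv x := by
    show (A⁻¹).1.mulVec (A.1.mulVec x + w - w) = x
    rw [add_sub_cancel_right, Matrix.mulVec_mulVec]
    have : (A⁻¹).1 * A.1 = 1 := by
      have h := congrArg Subtype.val (inv_mul_cancel A); exact h
    rw [this, Matrix.one_mulVec]
  right_inv x := by
    show A.1.mulVec ((A⁻¹).1.mulVec (x - w)) + w = x
    rw [Matrix.mulVec_mulVec]
    have : A.1 * (A⁻¹).1 = 1 := by
      have h := congrArg Subtype.val (mul_inv_cancel A); exact h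
    rw [this, Matrix.one_mulVec, sub_add_cancel]

theorem aff_apply (A : S2) (w x : F4) : aff A w x = A.1.mulVec x + w := rfl

theorem aff_mul (A B : S2) (w u : F4) : aff A w * aff B u = aff (A * B) (w + A.1.mulVec u) := by
  ext1 x
  show A.1.mulVec (B.1.mulVec x + u) + w = (A * B).1.mulVec x + (w + A.1.mulVec u)
  have : (A * B).1 = A.1 * B.1 := rfl
  rw [this, Matrix.mulVec_add, Matrix.mulVec_mulVec]
  abel

theorem aff_one : aff 1 0 = 1 := by
  ext1 x
  show (1 : S2).1.mulVec x + 0 = x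
  have : (1 : S2).1 = 1 := rfl
  rw [this, Matrix.one_mulVec, add_zero]

theorem aff_inj {A B : S2} {w u : F4} (h : aff A w = aff B u) : A = B ∧ w = u := by
  have h0 : w = u := by
    have := congrFun (congrArg DFunLike.coe h) 0
    simpa [aff_apply] using this
  refine ⟨?_, h0⟩
  apply Subtype.ext
  apply Matrix.mulVec_injective
  ext1 x
  have := congrFun (congrArg DFunLike.coe h) x
  rw [aff_apply, aff_apply, h0] at this
  exact add_right_cancel this

theorem card_S2 : Fintype.card S2 = 6 := by decide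

theorem aff_surj (σ : Equiv.Perm F4) : ∃ A w, aff A w = σ := by
  let f : S2 × F4 → Equiv.Perm F4 := fun x => aff x.1 x.2
  have hf : Function.Bijective f := by
    rw [Fintype.bijective_iff_injective_and_card]
    constructor
    · rintro ⟨A, w⟩ ⟨B, u⟩ h
      obtain ⟨h1, h2⟩ := aff_inj h
      exact Prod.ext h1 h2
    · rw [Fintype.card_prod, card_S2, Fintype.card_perm]
      simp
      decide
  obtain ⟨⟨A, w⟩, h⟩ := hf.2 σ
  exact ⟨A, w, h⟩

def om : S2 := ⟨!![0, 1; 1, 1], by decide⟩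

theorem om_cube : om * om * om = 1 := by decide
theorem om_ne : om ≠ 1 := by decide
theorem om_fix : ∀ w : F4, om.1.mulVec w = w → w = 0 := by decide
theorem om_conj : ∀ A : S2, A * om * A⁻¹ = om ∨ A * om * A⁻¹ = om * om := by decide
theorem om_pow : ∀ n : ℕ, om ^ n = 1 ∨ om ^ n = om ∨ om ^ n = om * om := by
  intro n
  induction n with
  | zero => left; exact pow_zero _
  | succ n ih =>
    rw [pow_succ]
    rcases ih with h | h | h
    · right; left; rw [h, one_mul]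
    · right; right; rw [h]
    · left; rw [h]; exact om_cube
theorem om_pow_ne {n : ℕ} (h : ¬ 3 ∣ n) : om ^ n ≠ 1 := by
  intro h1
  have h3 : om ^ 3 = 1 := by rw [pow_succ, pow_two]; exact om_cube
  have ho : orderOf om = 3 := by
    have : Fact (Nat.Prime 3) := ⟨Nat.prime_three⟩
    exact orderOf_eq_prime h3 om_ne
  exact h (ho ▸ orderOf_dvd_of_pow_eq_one h1)

section step
variable {L : Type u} [Group L] {T : Subgroup L} {v : L → F4}

/-- elements acting as a power of `om` -/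
def C3 (T : Subgroup L) (v : L → F4) : Subgroup L where
  carrier := {h | Act T v h 1 ∨ Act T v h om ∨ Act T v h (om * om)}
  one_mem' := Or.inl act_one
  mul_mem' := by
    rintro a b ha hb
    have key : ∀ A B : S2, (A = 1 ∨ A = om ∨ A = om * om) → (B = 1 ∨ B = om ∨ B = om * om) →
        (A * B = 1 ∨ A * B = om ∨ A * B = om * om) := by decide
    have h1 : ∃ A : S2, (A = 1 ∨ A = om ∨ A = om * om) ∧ Act T v a A := by
      rcases ha with h | h | h
      exacts [⟨_, Or.inl rfl, h⟩, ⟨_, Or.inr (Or.inl rfl), h⟩, ⟨_, Or.inr (Or.inr rfl), h⟩]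
    have h2 : ∃ A : S2, (A = 1 ∨ A = om ∨ A = om * om) ∧ Act T v b A := by
      rcases hb with h | h | h
      exacts [⟨_, Or.inl rfl, h⟩, ⟨_, Or.inr (Or.inl rfl), h⟩, ⟨_, Or.inr (Or.inr rfl), h⟩]
    obtain ⟨A, hA, hA'⟩ := h1
    obtain ⟨B, hB, hB'⟩ := h2
    have h3 := hA'.mul hB'
    rcases key A B hA hB with h | h | h
    · left; rwa [h] at h3
    · right; left; rwa [h] at h3
    · right; right; rwa [h] at h3
  inv_mem' := by
    rintro a (h | h | h)
    · left
      have := h.inv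
      rwa [inv_one] at this
    · right; right
      have := h.inv
      have e : om⁻¹ = om * om := by decide
      rwa [e] at this
    · right; left
      have := h.inv
      have e : (om * om)⁻¹ = om := by decide
      rwa [e] at this

theorem mem_C3_of {h : L} {n : ℕ} (hh : Act T v h (om ^ n)) : h ∈ C3 T v := by
  rcases om_pow n with h1 | h1 | h1
  · left; rwa [h1] at hh
  · right; left; rwa [h1] at hh
  · right; right; rwa [h1] at hh

theorem of_mem_C3 {h : L} (hh : h ∈ C3 T v) : ∃ n : ℕ, Act T v h (om ^ n) := by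
  rcases hh with h1 | h1 | h1
  · exact ⟨0, by rwa [pow_zero]⟩
  · exact ⟨1, by rwa [pow_one]⟩
  · exact ⟨2, by rwa [pow_two]⟩

theorem norm_C3 {h : L} {A : S2} (hA : Act T v h A) : h ∈ Subgroup.normalizer (C3 T v : Set L) := by
  have key : ∀ (h : L) (A : S2), Act T v h A → ∀ x ∈ C3 T v, h * x * h⁻¹ ∈ C3 T v := by
    intro h A hA x hx
    obtain ⟨n, hn⟩ := of_mem_C3 hx
    have h1 := (hA.mul hn).mul hA.inv
    have h2 : A * om ^ n * A⁻¹ = (A * om * A⁻¹) ^ n := (conj_pow).symm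
    rw [h2] at h1
    rcases om_conj A with h3 | h3
    · rw [h3] at h1; exact mem_C3_of h1
    · rw [h3, ← pow_two, ← pow_mul] at h1; exact mem_C3_of h1
  rw [Subgroup.mem_normalizer_iff]
  intro x
  refine ⟨key h A hA x, fun hx => ?_⟩
  have := key _ _ hA.inv _ hx
  have e : h⁻¹ * (h * x * h⁻¹) * h⁻¹⁻¹ = x := by group
  rwa [e] at this

theorem s4_of_qd [Finite L] (hq : QD 2 T v) (hall : ∀ A : S2, ∃ h, Act T v h A) :
    Involves (Equiv.Perm (Fin 4)) L := by
  have : Fact (Nat.Prime 2) := ⟨Nat.prime_two⟩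
  have : Fact (Nat.Prime 3) := ⟨Nat.prime_three⟩
  obtain ⟨T₃, hT₃⟩ := exists_isSyl (p := 3) (C3 T v)
  have ht₃ : ∃ t₃ ∈ T₃, Act T v t₃ om := by
    obtain ⟨h, hh⟩ := hall om
    obtain ⟨k, m, hm, hkm⟩ : ∃ k m, ¬ 3 ∣ m ∧ orderOf h = 3 ^ k * m :=
      Nat.exists_eq_pow_mul_and_not_dvd (orderOf_pos h).ne' 3 (by norm_num)
    have h0 : ∃ x : L, x ^ (3 ^ k) = 1 ∧ Act T v x om := by
      have h1 : Act T v (h ^ m) (om ^ m) := act_pow hh m
      have h2 : (h ^ m) ^ (3 ^ k) = 1 := by rw [← pow_mul, mul_comm, ← hkm, pow_orderOf_eq_one]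
      rcases om_pow m with h3 | h3 | h3
      · exact absurd h3 (om_pow_ne hm)
      · exact ⟨h ^ m, h2, by rwa [h3] at h1⟩
      · refine ⟨h ^ m * h ^ m, ?_, ?_⟩
        · rw [← pow_two, ← pow_mul, mul_comm 2, pow_mul, h2, one_pow]
        · have h4 := h1.mul h1
          rw [h3] at h4
          have e : om * om * (om * om) = om := by decide
          rwa [e] at h4
    obtain ⟨x, hx, hxo⟩ := h0
    have h3 : IsPGroup 3 (Subgroup.zpowers x) := by
      have : orderOf x ∣ 3 ^ k := orderOf_dvd_of_pow_eq_one hx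
      obtain ⟨j, -, hj⟩ := (Nat.dvd_prime_pow Nat.prime_three).1 this
      exact IsPGroup.of_card (n := j) (by rw [Nat.card_zpowers, hj])
    obtain ⟨c, hc, hcT⟩ := hT₃.conj (X := Subgroup.zpowers x)
      (by rw [Subgroup.zpowers_le]; exact Or.inr (Or.inl hxo)) h3
    refine ⟨c * x * c⁻¹, hcT (conj_mem_cj (Subgroup.mem_zpowers _)), ?_⟩
    obtain ⟨n, hn⟩ := of_mem_C3 hc
    have h4 := (hn.mul hxo).mul hn.inv
    have e : om ^ n * om * (om ^ n)⁻¹ = om := by rw [← pow_succ, pow_succ']; group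
    rwa [e] at h4
  obtain ⟨t₃, ht₃T, ht₃⟩ := ht₃
  have hker : ∀ t ∈ T, t ∈ Subgroup.normalizer (T₃ : Set L) → v t = 0 := by
    intro t ht htn
    have h1 : t * t₃ * t⁻¹ * t₃⁻¹ ∈ T₃ := T₃.mul_mem ((Subgroup.mem_normalizer_iff.1 htn t₃).1 ht₃T) (T₃.inv_mem ht₃T)
    have h2 : t * t₃ * t⁻¹ * t₃⁻¹ ∈ T := by
      have : t * t₃ * t⁻¹ * t₃⁻¹ = t * (t₃ * t⁻¹ * t₃⁻¹) := by group
      rw [this]
      exact T.mul_mem ht (nrm_mem ht₃.1 (T.inv_mem ht))
    have h3 : t * t₃ * t⁻¹ * t₃⁻¹ = 1 := by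
      have hdis : Disjoint T T₃ := IsPGroup.disjoint_of_ne 2 3 (by norm_num) T T₃ hq.pg hT₃.isPGroup
      exact Subgroup.disjoint_def.1 hdis h2 h1
    have h4 : t₃ * t * t₃⁻¹ = t := by
      have h5 : t * t₃ = t₃ * t := by
        have := mul_inv_eq_one.1 h3
        exact mul_inv_eq_iff_eq_mul.1 this
      rw [← h5]; group
    have h6 := ht₃.2 t ht
    rw [h4] at h6
    exact om_fix _ h6.symm
  have hD : ∀ A : S2, ∃ d ∈ Subgroup.normalizer (T₃ : Set L), Act T v d A := by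
    intro A
    obtain ⟨h, hh⟩ := hall A
    obtain ⟨c, hc, hch⟩ := frat hT₃ (norm_C3 hh)
    obtain ⟨n, hn⟩ := of_mem_C3 hc
    refine ⟨(t₃ ^ n)⁻¹ * (c * h), Subgroup.mul_mem _ (Subgroup.inv_mem _ (Subgroup.pow_mem _ (Subgroup.le_normalizer ht₃T) n)) hch, ?_⟩
    have h1 := ((act_pow ht₃ n).inv).mul (hn.mul hh)
    have e : (om ^ n)⁻¹ * (om ^ n * A) = A := by group
    rwa [e] at h1
  have key : Involves ↥(⊤ : Subgroup (Equiv.Perm F4)) L := by
    refine involves_of_rel (H := (⊤ : Subgroup (Equiv.Perm F4)))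
      (fun x M => ∃ t ∈ T, ∃ d ∈ Subgroup.normalizer (T₃ : Set L), ∃ A,
      x = t * d ∧ Act T v d A ∧ M = aff A (v t)) ?_ ?_ ?_ ?_ ?_ ?_
    · exact ⟨1, T.one_mem, 1, Subgroup.one_mem _, 1, by simp, act_one, by rw [hq.one, aff_one]⟩
    · rintro x M y N ⟨t, ht, d, hd, A, rfl, hA, rfl⟩ ⟨s, hs, e, he, B, rfl, hB, rfl⟩
      refine ⟨t * (d * s * d⁻¹), T.mul_mem ht (nrm_mem hA.1 hs), d * e, Subgroup.mul_mem _ hd he, A * B,
        by group, hA.mul hB, ?_⟩
      rw [aff_mul, hq.mul t ht _ (nrm_mem hA.1 hs), hA.2 s hs]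
    · rintro x M ⟨t, ht, d, hd, A, rfl, hA, rfl⟩
      have hi := hA.inv
      refine ⟨d⁻¹ * t⁻¹ * d⁻¹⁻¹, nrm_mem hi.1 (T.inv_mem ht), d⁻¹, Subgroup.inv_mem _ hd, A⁻¹, by group, hi, ?_⟩
      rw [hi.2 _ (T.inv_mem ht), hq.inv ht, inv_eq_iff_mul_eq_one, aff_mul, mul_inv_cancel, Matrix.mulVec_mulVec]
      have e1 : A.1 * (A⁻¹).1 = 1 := by
        have h := congrArg Subtype.val (mul_inv_cancel A); exact h
      rw [e1, Matrix.one_mulVec, add_neg_cancel, aff_one]
    · rintro M ⟨t, ht, d, hd, A, h1, hA, rfl⟩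
      have hdt : d = t⁻¹ := (inv_eq_of_mul_eq_one_right h1.symm).symm
      subst hdt
      have hv : v t = 0 := by
        apply hker t ht
        have := Subgroup.inv_mem _ hd
        rwa [inv_inv] at this
      have hA1 : A = 1 := Act.unique hq hA (hq.act_of_mem (T.inv_mem ht))
      rw [hA1, hv, aff_one]
    · intro M _
      obtain ⟨A, w, rfl⟩ := aff_surj M
      obtain ⟨t, ht, rfl⟩ := hq.surj w
      obtain ⟨d, hd, hA⟩ := hD A
      exact ⟨t * d, t, ht, d, hd, A, rfl, hA, rfl⟩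
    · intro x M _
      trivial
  have e1 : F4 ≃ Fin 4 := Fintype.equivFinOfCardEq (by simp [F4])
  have e2 : ↥(⊤ : Subgroup (Equiv.Perm F4)) ≃* Equiv.Perm (Fin 4) :=
    Subgroup.topEquiv.trans (e1.permCongrHom)
  exact H13.Sec.involves_trans (H13.Sec.involves_congr e2) key

def tu : S2 := ⟨!![1, 1; 0, 1], by decide⟩
def tl : S2 := ⟨!![1, 0; 1, 1], by decide⟩

theorem tu_tl : ∀ A : S2, A = 1 ∨ A = tu ∨ A = tl ∨ A = tu * tl ∨ A = tl * tu ∨ A = tu * tl * tu := by decide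

theorem s4_of_pair [Finite L] (hq : QD 2 T v) {a b : L} (ha : Act T v a tu) (hb : Act T v b tl) :
    Involves (Equiv.Perm (Fin 4)) L := by
  apply s4_of_qd hq
  intro A
  rcases tu_tl A with rfl | rfl | rfl | rfl | rfl | rfl
  exacts [⟨_, act_one⟩, ⟨_, ha⟩, ⟨_, hb⟩, ⟨_, ha.mul hb⟩, ⟨_, hb.mul ha⟩, ⟨_, (ha.mul hb).mul ha⟩]

end step

end Cfsg.Agent.H18.Off
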