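import Cfsg.Agent.H13_Syl
import Cfsg.Agent.H4_BaerSuzuki

/-! Offenders in groups with abelian Sylow 2-subgroups acting quadratically: the abstract statement. -/

set_option autoImplicit false
universe u v

namespace Cfsg.Agent.H18.Off

open Subgroup H13.Syl

section abs
variable {X : Type u} [Group X] {V : Type v} [AddCommGroup V] [DistribMulAction X V]

/-- fixed points of a subgroup -/
def fx (V : Type v) [AddCommGroup V] [DistribMulAction X V] (H : Subgroup X) : AddSubgroup V where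
  carrier := {v | ∀ h ∈ H, h • v = v}
  add_mem' := by
    intro a b ha hb h hh
    rw [smul_add, ha h hh, hb h hh]
  zero_mem' := fun h _ => smul_zero h
  neg_mem' := by
    intro a ha h hh
    rw [smul_neg, ha h hh]

theorem mem_fx {H : Subgroup X} {v : V} : v ∈ fx V H ↔ ∀ h ∈ H, h • v = v := Iff.rfl

theorem fx_anti {H K : Subgroup X} (h : H ≤ K) : fx V K ≤ fx V H := fun v hv x hx => hv x (h hx)

theorem fx_sup (H K : Subgroup X) : fx V (H ⊔ K) = fx V H ⊓ fx V K := by
  apply le_antisymm (le_inf (fx_anti le_sup_left) (fx_anti le_sup_right))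
  rintro v ⟨h1, h2⟩ x hx
  have : H ⊔ K ≤ MulAction.stabilizer X v := sup_le (fun x hx => h1 x hx) (fun x hx => h2 x hx)
  exact this hx

theorem smul_mem_fx_cj {H : Subgroup X} {g : X} {v : V} (hv : v ∈ fx V H) : g • v ∈ fx V (cj g H) := by
  rintro _ ⟨h, hh, rfl⟩
  show (g * h * g⁻¹) • g • v = g • v
  rw [smul_smul, inv_mul_cancel_right, mul_smul, hv h hh]

theorem card_fx_cj (H : Subgroup X) (g : X) : Nat.card (fx V (cj g H)) = Nat.card (fx V H) := by
  apply Nat.card_congr
  refine ⟨fun v => ⟨g⁻¹ • v.1, ?_⟩, fun v => ⟨g • v.1, smul_mem_fx_cj v.2⟩, ?_, ?_⟩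
  · have := smul_mem_fx_cj (g := g⁻¹) v.2
    rwa [cj_inv_cj] at this
  · intro v; exact Subtype.ext (smul_inv_smul g v.1)
  · intro v; exact Subtype.ext (inv_smul_smul g v.1)

/-- elements fixed modulo `C` -/
def fm (C : AddSubgroup V) (H : Subgroup X) : AddSubgroup V where
  carrier := {v | ∀ h ∈ H, h • v - v ∈ C}
  add_mem' := by
    intro a b ha hb h hh
    have := C.add_mem (ha h hh) (hb h hh)
    have e : h • (a + b) - (a + b) = h • a - a + (h • b - b) := by rw [smul_add]; abel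
    rw [e]; exact this
  zero_mem' := fun h _ => by rw [smul_zero, sub_zero]; exact C.zero_mem
  neg_mem' := by
    intro a ha h hh
    have := C.neg_mem (ha h hh)
    have e : h • (-a) - (-a) = -(h • a - a) := by rw [smul_neg]; abel
    rw [e]; exact this

/-- `A` is contained in the largest normal 2-subgroup of `H` -/
def Sub (A H : Subgroup X) : Prop :=
  ∃ N : Subgroup X, N ≤ H ∧ H ≤ normalizer (N : Set X) ∧ IsPGroup 2 N ∧ A ≤ N

theorem Sub.conj {A H : Subgroup X} (h : Sub A H) (g : X) : Sub (cj g A) (cj g H) := by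
  obtain ⟨N, h1, h2, h3, h4⟩ := h
  refine ⟨cj g N, cj_mono h1, ?_, isPGroup_cj h3, cj_mono h4⟩
  rw [← cj_normalizer]; exact cj_mono h2

theorem sub_of_bs [Finite X] {A H : Subgroup X} (hA : IsPGroup 2 A) (hAH : A ≤ H)
    (h : ∀ g ∈ H, IsPGroup 2 ↥(A ⊔ cj g A)) : Sub A H := by
  have : Fact (Nat.Prime 2) := ⟨Nat.prime_two⟩
  obtain ⟨N, hN, hNp, hAN⟩ := H4.BaerSuzuki.baer_suzuki (A.subgroupOf H) (hA.comap_of_injective _ H.subtype_injective) (by
    intro g
    have h1 := h g g.2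
    have h2 : ((A.subgroupOf H ⊔ (A.subgroupOf H).map (MulAut.conj g).toMonoidHom).map H.subtype) ≤ A ⊔ cj (g : X) A := by
      rw [Subgroup.map_sup, Subgroup.map_map]
      apply sup_le_sup
      · rintro _ ⟨a, ha, rfl⟩; exact ha
      · rintro _ ⟨a, ha, rfl⟩
        exact ⟨a, ha, rfl⟩
    have h3 := h1.to_le h2
    exact (h3.comap_of_injective H.subtype H.subtype_injective).to_le (Subgroup.le_comap_map _ _))
  refine ⟨N.map H.subtype, Subgroup.map_subtype_le N, ?_, hNp.map _, ?_⟩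
  · intro x hx
    rw [mem_normalizer_iff_cj]
    have key : ∀ x ∈ H, cj x (N.map H.subtype) ≤ N.map H.subtype := by
      rintro x hx _ ⟨_, ⟨k, hk, rfl⟩, rfl⟩
      exact ⟨⟨x, hx⟩ * k * ⟨x, hx⟩⁻¹, hN.conj_mem k hk _, rfl⟩
    apply le_antisymm (key x hx)
    have := key x⁻¹ (inv_mem hx)
    rwa [cj_le_iff, inv_inv] at this
  · intro a ha
    exact ⟨⟨a, hAH ha⟩, hAN ha, rfl⟩

theorem card_sum_le [Finite V] {U U' W C : AddSubgroup V} (h1 : U ≤ W) (h2 : U' ≤ W) (h3 : U ⊓ U' ≤ C) :
    Nat.card U * Nat.card U' ≤ Nat.card W * Nat.card C := by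
  let f : U × U' →+ W :=
    { toFun := fun x => ⟨x.1.1 - x.2.1, W.sub_mem (h1 x.1.2) (h2 x.2.2)⟩
      map_zero' := Subtype.ext (by show (0 : V) - 0 = 0; abel)
      map_add' := fun x y => Subtype.ext (by
        show (x.1.1 + y.1.1) - (x.2.1 + y.2.1) = (x.1.1 - x.2.1) + (y.1.1 - y.2.1); abel) }
  have h4 := AddSubgroup.card_mul_index f.ker
  rw [AddSubgroup.index_ker, Nat.card_prod] at h4
  rw [← h4, mul_comm]
  apply Nat.mul_le_mul
  · exact Nat.card_le_card_of_injective _ Subtype.coe_injective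
  · have h5 : ∀ x : f.ker, x.1.1.1 = x.1.2.1 := by
      rintro ⟨x, hx⟩
      have : f x = 0 := hx
      have := congrArg Subtype.val this
      exact sub_eq_zero.1 this
    refine Nat.card_le_card_of_injective (fun x : f.ker => (⟨x.1.1.1, h3 ⟨x.1.1.2, by rw [h5 x]; exact x.1.2.2⟩⟩ : C)) ?_
    intro x y hxy
    have h6 : x.1.1.1 = y.1.1.1 := congrArg (fun z : C => (z : V)) hxy
    apply Subtype.ext
    apply Prod.ext
    · exact Subtype.ext h6
    · apply Subtype.ext
      rw [← h5 x, ← h5 y, h6]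

theorem card_quot [Finite V] {U C : AddSubgroup V} (h : C ≤ U) :
    Nat.card (U.map (QuotientAddGroup.mk' C)) * Nat.card C = Nat.card U := by
  let f : U →+ V ⧸ C := (QuotientAddGroup.mk' C).comp U.subtype
  have h4 := AddSubgroup.card_mul_index f.ker
  rw [AddSubgroup.index_ker] at h4
  have h5 : f.range = U.map (QuotientAddGroup.mk' C) := by
    rw [AddMonoidHom.range_comp, AddSubgroup.range_subtype]
  have h6 : Nat.card f.ker = Nat.card C := by
    have : f.ker = C.addSubgroupOf U := by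
      rw [← AddMonoidHom.comap_ker, QuotientAddGroup.ker_mk']; rfl
    rw [this]
    exact Nat.card_congr (AddSubgroup.addSubgroupOfEquivOfLe h).toEquiv
  rw [← h4, h5, h6, mul_comm]

theorem core [Finite X] [Finite V] {A B H : Subgroup X} (hAp : IsPGroup 2 A)
    (hH : A ⊔ B = H)
    (hab : ∀ T : Subgroup X, IsPGroup 2 T → ∀ s ∈ T, ∀ t ∈ T, s * t = t * s)
    (hqA : ∀ a ∈ A, ∀ v : V, a • v - v ∈ fx V A)
    (hB : ∃ h ∈ H, B = cj h A)
    (hmin : ∀ E ≤ A, E ≠ ⊥ → E ≠ A → Nat.card E * Nat.card (fx V E) < Nat.card V)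
    (hoff : Nat.card V ≤ Nat.card A * Nat.card (fx V A))
    (hnS : ¬ Sub A H)
    (hsub : ∀ N ≤ H, N ≠ H → B ≤ N → Sub B N)
    {w : V} (hw : w ∈ fx V B) (hwF : w ∉ fm (fx V H) H) (u : V) (hu : u ∈ fx V A) :
    ∃ a ∈ A, a • w - w - u ∈ fx V H := by
  obtain ⟨h, hhH, rfl⟩ := hB
  set B := cj h A with hBdef
  set C := fx V H with hC
  have hAH : A ≤ H := hH ▸ le_sup_left
  have hBH : B ≤ H := hH ▸ le_sup_right
  have hCU : C ≤ fx V A := fx_anti hAH
  have hCU' : C ≤ fx V B := fx_anti hBH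
  have hCinf : fx V A ⊓ fx V B ≤ C := by rw [hC, ← hH, fx_sup]
  have hcU : Nat.card (fx V B) = Nat.card (fx V A) := card_fx_cj A h
  -- the homomorphism
  let φ : A →* Multiplicative (V ⧸ C) :=
    { toFun := fun a => Multiplicative.ofAdd (QuotientAddGroup.mk' C (a.1 • w - w))
      map_one' := by
        show Multiplicative.ofAdd (QuotientAddGroup.mk' C ((1 : X) • w - w)) = 1
        rw [one_smul, sub_self, map_zero]; rfl
      map_mul' := by
        intro a a'
        have e : (a * a').1 • w - w = (a'.1 • w - w) + (a.1 • w - w) := by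
          have h1 : a.1 • (a'.1 • w - w) = a'.1 • w - w := hqA a'.1 a'.2 w a.1 a.2
          rw [smul_sub] at h1
          show (a.1 * a'.1) • w - w = _
          rw [mul_smul]
          rw [sub_eq_iff_eq_add] at h1
          rw [h1]; abel
        show Multiplicative.ofAdd (QuotientAddGroup.mk' C ((a * a').1 • w - w)) = _
        rw [e, map_add, add_comm]; rfl }
  have hφ : ∀ a : A, φ a = Multiplicative.ofAdd (QuotientAddGroup.mk' C (a.1 • w - w)) := fun a => rfl
  have hker : ∀ a : A, a ∈ φ.ker ↔ a.1 • w - w ∈ C := by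
    intro a
    rw [MonoidHom.mem_ker, hφ]
    constructor
    · intro h1
      have h2 : QuotientAddGroup.mk' C (a.1 • w - w) = 0 := h1
      rwa [← AddMonoidHom.mem_ker, QuotientAddGroup.ker_mk'] at h2
    · intro h1
      have h2 : QuotientAddGroup.mk' C (a.1 • w - w) = 0 := by
        rwa [← AddMonoidHom.mem_ker, QuotientAddGroup.ker_mk']
      rw [h2]; rfl
  -- the stabilizer of `w` modulo `C`
  let N : Subgroup X :=
    { carrier := {g | g ∈ H ∧ g • w - w ∈ C}
      mul_mem' := by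
        rintro g g' ⟨hg, hg1⟩ ⟨hg', hg1'⟩
        refine ⟨mul_mem hg hg', ?_⟩
        have h1 : g • (g' • w - w) = g' • w - w := hg1' g hg
        have e : (g * g') • w - w = (g' • w - w) + (g • w - w) := by
          rw [mul_smul]
          rw [smul_sub, sub_eq_iff_eq_add] at h1
          rw [h1]; abel
        rw [e]; exact C.add_mem hg1' hg1
      one_mem' := ⟨one_mem _, by rw [one_smul, sub_self]; exact C.zero_mem⟩
      inv_mem' := by
        rintro g ⟨hg, hg1⟩
        refine ⟨inv_mem hg, ?_⟩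
        have h1 : g⁻¹ • (g • w - w) = g • w - w := hg1 g⁻¹ (inv_mem hg)
        have e : g⁻¹ • w - w = -(g • w - w) := by
          rw [← h1, smul_sub, inv_smul_smul]; abel
        rw [e]; exact C.neg_mem hg1 }
  have hNH : N ≤ H := fun g hg => hg.1
  have hNne : N ≠ H := by
    intro h1
    apply hwF
    intro g hg
    rw [← h1] at hg
    exact hg.2
  have hBN : B ≤ N := by
    intro b hb
    refine ⟨hBH hb, ?_⟩
    rw [hw b hb, sub_self]; exact C.zero_mem
  obtain ⟨M0, hM1, hM2, hM3, hM4⟩ := hsub N hNH hNne hBN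
  have hcen : ∀ a : A, a ∈ φ.ker → a.1 ∈ centralizer (H : Set X) := by
    intro a ha
    have haN : a.1 ∈ N := ⟨hAH a.2, (hker a).1 ha⟩
    have h1 : IsPGroup 2 ↥(M0 ⊔ zpowers a.1) := by
      apply IsPGroup.to_sup_of_normal_left' hM3 (hAp.to_le ((Subgroup.zpowers_le).2 a.2))
      rw [Subgroup.zpowers_le]
      exact hM2 haN
    rw [← hH]
    have h2 : A ⊔ B ≤ centralizer ({a.1} : Set X) := by
      apply sup_le
      · intro x hx
        rw [Subgroup.mem_centralizer_iff]
        rintro _ rfl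
        exact hab A hAp _ a.2 _ hx
      · intro x hx
        rw [Subgroup.mem_centralizer_iff]
        rintro _ rfl
        exact hab _ h1 _ ((le_sup_right : _ ≤ M0 ⊔ zpowers a.1) (mem_zpowers _)) _ ((le_sup_left : M0 ≤ _) (hM4 hx))
    rw [Subgroup.mem_centralizer_iff]
    intro x hx
    exact (Subgroup.mem_centralizer_iff.1 (h2 hx) a.1 rfl).symm
  -- counting
  have hrange : ∀ x ∈ φ.range, Multiplicative.toAdd x ∈ (fx V A).map (QuotientAddGroup.mk' C) := by
    rintro _ ⟨a, rfl⟩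
    exact ⟨_, hqA a.1 a.2 w, rfl⟩
  have hr1 : Nat.card φ.range ≤ Nat.card ((fx V A).map (QuotientAddGroup.mk' C)) := by
    refine Nat.card_le_card_of_injective (fun x : φ.range => (⟨Multiplicative.toAdd x.1, hrange x.1 x.2⟩ :
      (fx V A).map (QuotientAddGroup.mk' C))) ?_
    intro x y hxy
    apply Subtype.ext
    have := congrArg (fun z : (fx V A).map (QuotientAddGroup.mk' C) => (z : V ⧸ C)) hxy
    exact this
  have hUC := card_quot hCU
  have hkr : Nat.card φ.ker * Nat.card φ.range = Nat.card A := by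
    have := φ.ker.card_mul_index
    rwa [Subgroup.index_ker] at this
  have hCpos : 0 < Nat.card C := Nat.card_pos
  have hUpos : 0 < Nat.card (fx V A) := Nat.card_pos
  have h1 : Nat.card A * Nat.card C ≤ Nat.card φ.ker * Nat.card (fx V A) := by
    rw [← hkr, ← hUC, mul_assoc]
    exact Nat.mul_le_mul_left _ (Nat.mul_le_mul_right _ hr1)
  set E1 : Subgroup X := A ⊓ centralizer (H : Set X) with hE1
  have hkE : Nat.card φ.ker ≤ Nat.card E1 := by
    refine Nat.card_le_card_of_injective (fun x : φ.ker => (⟨x.1.1, x.1.2, hcen x.1 x.2⟩ : E1)) ?_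
    intro x y hxy
    have := congrArg (fun z : E1 => (z : X)) hxy
    exact Subtype.ext (Subtype.ext this)
  by_cases hE1b : E1 = ⊥
  · -- the map is injective
    have hk1 : Nat.card φ.ker = 1 := by
      have h2 : Nat.card E1 = 1 := by rw [hE1b]; exact Subgroup.card_bot
      have h3 : 0 < Nat.card φ.ker := Nat.card_pos
      omega
    rw [hk1, one_mul] at h1 hkr
    have h4 := card_sum_le (V := V) (U := fx V A) (U' := fx V B) (W := ⊤) le_top le_top hCinf
    have h5 : Nat.card (⊤ : AddSubgroup V) = Nat.card V := Nat.card_congr AddSubgroup.topEquiv.toEquiv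
    rw [h5, hcU] at h4
    have h6 : Nat.card (fx V A) ≤ Nat.card A * Nat.card C := by
      have h7 : Nat.card (fx V A) * Nat.card (fx V A) ≤ (Nat.card A * Nat.card C) * Nat.card (fx V A) := by
        calc _ ≤ Nat.card V * Nat.card C := h4
          _ ≤ Nat.card A * Nat.card (fx V A) * Nat.card C := Nat.mul_le_mul_right _ hoff
          _ = _ := by ring
      exact Nat.le_of_mul_le_mul_right h7 hUpos
    have h7 : Nat.card φ.range = Nat.card ((fx V A).map (QuotientAddGroup.mk' C)) := by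
      apply le_antisymm hr1
      have h8 : Nat.card ((fx V A).map (QuotientAddGroup.mk' C)) * Nat.card C ≤ Nat.card φ.range * Nat.card C := by
        rw [hUC, hkr]; exact h6
      exact Nat.le_of_mul_le_mul_right h8 hCpos
    have h8 : Function.Surjective (fun x : φ.range => (⟨Multiplicative.toAdd x.1, hrange x.1 x.2⟩ :
        (fx V A).map (QuotientAddGroup.mk' C))) := by
      have h9 : Function.Bijective (fun x : φ.range => (⟨Multiplicative.toAdd x.1, hrange x.1 x.2⟩ :
          (fx V A).map (QuotientAddGroup.mk' C))) := by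
        rw [Nat.bijective_iff_injective_and_card]
        refine ⟨?_, h7⟩
        intro x y hxy
        apply Subtype.ext
        have := congrArg (fun z : (fx V A).map (QuotientAddGroup.mk' C) => (z : V ⧸ C)) hxy
        exact this
      exact h9.2
    obtain ⟨⟨_, a, rfl⟩, ha⟩ := h8 ⟨QuotientAddGroup.mk' C u, u, hu, rfl⟩
    refine ⟨a.1, a.2, ?_⟩
    have h9 : QuotientAddGroup.mk' C (a.1 • w - w) = QuotientAddGroup.mk' C u :=
      congrArg (fun z : (fx V A).map (QuotientAddGroup.mk' C) => (z : V ⧸ C)) ha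
    have h10 : QuotientAddGroup.mk' C (a.1 • w - w - u) = 0 := by rw [map_sub, h9, sub_self]
    rwa [← AddMonoidHom.mem_ker, QuotientAddGroup.ker_mk'] at h10
  · exfalso
    have hE1A : E1 ≠ A := by
      intro h2
      apply hnS
      have h3 : A ≤ centralizer (H : Set X) := by rw [← h2]; exact inf_le_right
      refine ⟨A, hAH, ?_, hAp, le_rfl⟩
      intro x hx
      have h4 : x ∈ centralizer (A : Set X) := by
        rw [Subgroup.mem_centralizer_iff]
        intro a ha
        exact (Subgroup.mem_centralizer_iff.1 (h3 ha) x hx).symm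
      exact centralizer_le_normalizer _ h4
    have h2 := hmin E1 inf_le_left hE1b hE1A
    have h3 : fx V B ≤ fx V E1 := by
      intro v hv e he
      have hu' : h⁻¹ • v ∈ fx V A := by
        have := smul_mem_fx_cj (g := h⁻¹) hv
        rwa [hBdef, cj_inv_cj] at this
      have h4 : e * h = h * e := (Subgroup.mem_centralizer_iff.1 he.2 h hhH).symm
      calc e • v = (e * h) • (h⁻¹ • v) := by rw [mul_smul, smul_inv_smul]
        _ = h • e • (h⁻¹ • v) := by rw [h4, mul_smul]
        _ = v := by rw [hu' e he.1, smul_inv_smul]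
    have h4 := card_sum_le (fx_anti (V := V) (inf_le_left : E1 ≤ A)) h3 hCinf
    rw [hcU] at h4
    have h5 : Nat.card E1 * Nat.card (fx V A) < Nat.card A * Nat.card C := by
      have h6 : (Nat.card E1 * Nat.card (fx V A)) * Nat.card (fx V A) <
          (Nat.card A * Nat.card C) * Nat.card (fx V A) := by
        calc (Nat.card E1 * Nat.card (fx V A)) * Nat.card (fx V A)
            = Nat.card E1 * (Nat.card (fx V A) * Nat.card (fx V A)) := by ring
          _ ≤ Nat.card E1 * (Nat.card (fx V E1) * Nat.card C) := Nat.mul_le_mul_left _ h4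
          _ = (Nat.card E1 * Nat.card (fx V E1)) * Nat.card C := by ring
          _ < Nat.card V * Nat.card C := Nat.mul_lt_mul_of_pos_right h2 hCpos
          _ ≤ (Nat.card A * Nat.card (fx V A)) * Nat.card C := Nat.mul_le_mul_right _ hoff
          _ = _ := by ring
      exact Nat.lt_of_mul_lt_mul_right h6
    have h6 : Nat.card A * Nat.card C ≤ Nat.card E1 * Nat.card (fx V A) :=
      h1.trans (Nat.mul_le_mul_right _ hkE)
    omega

theorem exists_min (P : Subgroup X → Prop) (h : ∃ A, P A) : ∃ A, P A ∧ ∀ E, P E → Nat.card A ≤ Nat.card E := by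
  classical
  have hex : ∃ n, ∃ A, P A ∧ Nat.card A = n := by
    obtain ⟨A, hA⟩ := h
    exact ⟨_, A, hA, rfl⟩
  obtain ⟨A, hA, hc⟩ := Nat.find_spec hex
  refine ⟨A, hA, fun E hE => ?_⟩
  rw [hc]
  exact Nat.find_min' hex ⟨E, hE, rfl⟩

theorem fm_smul {H : Subgroup X} {v : V} (hv : v ∈ fm (fx V H) H) {k : X} (hk : k ∈ H) : k • v ∈ fm (fx V H) H := by
  intro g hg
  have h1 : g • (k • v - v) = k • v - v := hv k hk g hg
  have e : g • (k • v) - k • v = g • v - v := by
    rw [smul_sub, sub_eq_iff_eq_add] at h1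
    rw [h1]; abel
  rw [e]; exact hv g hg

theorem chain_two (h2 : ∀ v : V, v + v = 0) (hf : ∀ x : X, (∀ v : V, x • v = v) → x = 1) {A B H : Subgroup X}
    (hH : A ⊔ B = H) (hqA : ∀ a ∈ A, ∀ v : V, a • v - v ∈ fx V A) (hqB : ∀ b ∈ B, ∀ v : V, b • v - v ∈ fx V B)
    (hA : fx V A ≤ fm (fx V H) H) (hB : fx V B ≤ fm (fx V H) H) : IsPGroup 2 H := by
  have key : ∀ g ∈ H, ∀ v : V, g • v - v ∈ fm (fx V H) H := by
    intro g hg
    have : H ≤ ({ carrier := {g | g ∈ H ∧ ∀ v : V, g • v - v ∈ fm (fx V H) H}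
                  mul_mem' := by
                    rintro g g' ⟨hg, hg1⟩ ⟨hg', hg1'⟩
                    refine ⟨mul_mem hg hg', fun v => ?_⟩
                    have e : (g * g') • v - v = (g • (g' • v) - g' • v) + (g' • v - v) := by rw [mul_smul]; abel
                    rw [e]; exact AddSubgroup.add_mem _ (hg1 _) (hg1' v)
                  one_mem' := ⟨one_mem _, fun v => by rw [one_smul, sub_self]; exact AddSubgroup.zero_mem _⟩
                  inv_mem' := by
                    rintro g ⟨hg, hg1⟩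
                    refine ⟨inv_mem hg, fun v => ?_⟩
                    have e : g⁻¹ • v - v = -(g • (g⁻¹ • v) - g⁻¹ • v) := by rw [smul_inv_smul]; abel
                    rw [e]; exact AddSubgroup.neg_mem _ (hg1 _) } : Subgroup X) := by
      rw [← hH]
      apply sup_le
      · intro a ha
        exact ⟨(le_sup_left : A ≤ A ⊔ B) ha, fun v => by rw [hH]; exact hA (hqA a ha v)⟩
      · intro b hb
        exact ⟨(le_sup_right : B ≤ A ⊔ B) hb, fun v => by rw [hH]; exact hB (hqB b hb v)⟩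
    exact (this hg).2
  intro g
  refine ⟨2, ?_⟩
  apply Subtype.ext
  show g.1 ^ (2 ^ 2) = 1
  apply hf
  intro v
  set d := g.1 • v - v with hd
  have hd1 := key g.1 g.2 v
  have hc : g.1 • d - d ∈ fx V H := hd1 g.1 g.2
  set c := g.1 • d - d with hcdef
  have hgc : g.1 • c = c := hc g.1 g.2
  have e1 : g.1 • v = v + d := by rw [hd]; abel
  have e2 : g.1 • d = d + c := by rw [hcdef]; abel
  have e3 : g.1 • (g.1 • v) = v + c := by
    rw [e1, smul_add, e1, e2]
    have : v + d + (d + c) = v + (d + d) + c := by abel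
    rw [this, h2, add_zero]
  have e4 : g.1 ^ (2 ^ 2) • v = g.1 • (g.1 • (g.1 • (g.1 • v))) := by
    have : g.1 ^ (2 ^ 2) = g.1 * g.1 * g.1 * g.1 := by
      show g.1 ^ 4 = _
      simp only [pow_succ, pow_zero, one_mul]
    rw [this, mul_smul, mul_smul, mul_smul]
  rw [e4, e3, smul_add, hgc, smul_add, hgc, e3, add_assoc, h2, add_zero]

/-- Main abstract theorem. -/
theorem off [Finite X] [Finite V] (h2 : ∀ v : V, v + v = 0) (hf : ∀ x : X, (∀ v : V, x • v = v) → x = 1)
    (hab : ∀ T : Subgroup X, IsPGroup 2 T → ∀ s ∈ T, ∀ t ∈ T, s * t = t * s)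
    (hq : ∀ T : Subgroup X, IsPGroup 2 T → ∀ s ∈ T, ∀ t ∈ T, ∀ v : V, t • (s • v - v) = s • v - v)
    (hO : ∀ N : Subgroup X, N.Normal → IsPGroup 2 N → N = ⊥)
    {A0 : Subgroup X} (hA0 : IsPGroup 2 A0) (hA0b : A0 ≠ ⊥) (hoff0 : Nat.card V ≤ Nat.card A0 * Nat.card (fx V A0)) :
    ∃ (C : AddSubgroup V) (a b : X) (u w : V), (∀ c ∈ C, a • c = c ∧ b • c = c) ∧ w ∉ C ∧ a • u = u ∧ b • w = w ∧
      b • u = u + w ∧ a • w - w - u ∈ C := by
  have : Fact (Nat.Prime 2) := ⟨Nat.prime_two⟩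
  obtain ⟨A, ⟨hAp, hAb, hoff⟩, hAmin⟩ := exists_min (fun A : Subgroup X => IsPGroup 2 A ∧ A ≠ ⊥ ∧
    Nat.card V ≤ Nat.card A * Nat.card (fx V A)) ⟨A0, hA0, hA0b, hoff0⟩
  have hqs : ∀ T : Subgroup X, IsPGroup 2 T → ∀ a ∈ T, ∀ v : V, a • v - v ∈ fx V T :=
    fun T hT a ha v t ht => hq T hT a ha t ht v
  obtain ⟨H, ⟨hAH, hnS⟩, hHmin⟩ := exists_min (fun H : Subgroup X => A ≤ H ∧ ¬ Sub A H) ⟨⊤, le_top, by
    rintro ⟨N, -, hN, hNp, hAN⟩
    apply hAb
    have hNn : N.Normal := by
      rw [← Subgroup.normalizer_eq_top_iff]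
      exact top_le_iff.1 hN
    rw [hO N hNn hNp] at hAN
    exact le_bot_iff.1 hAN⟩
  obtain ⟨h, hhH, hnp⟩ : ∃ h ∈ H, ¬ IsPGroup 2 ↥(A ⊔ cj h A) := by
    by_contra hcon
    push Not at hcon
    exact hnS (sub_of_bs hAp hAH hcon)
  set B := cj h A with hBdef
  have hBp : IsPGroup 2 B := isPGroup_cj hAp
  have hcjH : cj h H = H := cj_eq_of_mem hhH
  have hcjH' : cj h⁻¹ H = H := cj_eq_of_mem (inv_mem hhH)
  have hBH : B ≤ H := by rw [← hcjH]; exact cj_mono hAH
  have hKH : A ⊔ B ≤ H := sup_le hAH hBH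
  have hKS : ¬ Sub A (A ⊔ B) := by
    rintro ⟨N, hN1, hN2, hN3, hN4⟩
    apply hnp
    have h3 : A ⊔ B = N ⊔ B := le_antisymm (sup_le_sup_right hN4 _) (sup_le hN1 le_sup_right)
    rw [h3]
    exact IsPGroup.to_sup_of_normal_left' hN3 hBp (le_sup_right.trans hN2)
  have hH : A ⊔ B = H := Subgroup.eq_of_le_of_card_ge hKH (hHmin _ ⟨le_sup_left, hKS⟩)
  have hsubA : ∀ N ≤ H, N ≠ H → A ≤ N → Sub A N := by
    intro N hN hNH hAN
    by_contra hcon
    exact hNH (Subgroup.eq_of_le_of_card_ge hN (hHmin _ ⟨hAN, hcon⟩))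
  have hsubB : ∀ N ≤ H, N ≠ H → B ≤ N → Sub B N := by
    intro N hN hNH hBN
    have h3 : Sub A (cj h⁻¹ N) := by
      apply hsubA
      · rw [← hcjH']; exact cj_mono hN
      · intro h4
        apply hNH
        rw [cj_eq_iff, inv_inv, hcjH] at h4
        exact h4
      · rw [← cj_inv_cj h A]; exact cj_mono hBN
    have h4 := h3.conj h
    rwa [cj_cj_inv] at h4
  have hmin : ∀ E ≤ A, E ≠ ⊥ → E ≠ A → Nat.card E * Nat.card (fx V E) < Nat.card V := by
    intro E hE hEb hEA
    by_contra hcon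
    push Not at hcon
    exact hEA (Subgroup.eq_of_le_of_card_ge hE (hAmin E ⟨hAp.to_le hE, hEb, hcon⟩))
  have hminB : ∀ E ≤ B, E ≠ ⊥ → E ≠ B → Nat.card E * Nat.card (fx V E) < Nat.card V := by
    intro E hE hEb hEA
    have h3 := hmin (cj h⁻¹ E) (by rw [← cj_inv_cj h A]; exact cj_mono hE) (fun h4 => hEb (cj_eq_bot_iff.1 h4))
      (fun h4 => hEA (by rw [cj_eq_iff, inv_inv] at h4; exact h4))
    rwa [card_cj, card_fx_cj] at h3
  have hnSB : ¬ Sub B H := by
    intro h3
    have h4 := h3.conj h⁻¹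
    rw [hcjH', hBdef, cj_inv_cj] at h4
    exact hnS h4
  have hoffB : Nat.card V ≤ Nat.card B * Nat.card (fx V B) := by
    rw [hBdef, card_cj, card_fx_cj]; exact hoff
  have hnot : ¬ fx V B ≤ fm (fx V H) H ∧ ¬ fx V A ≤ fm (fx V H) H := by
    have e1 : fx V A ≤ fm (fx V H) H → fx V B ≤ fm (fx V H) H := by
      intro h3 v hv
      have h4 : h⁻¹ • v ∈ fx V A := by
        have := smul_mem_fx_cj (g := h⁻¹) hv
        rwa [hBdef, cj_inv_cj] at this
      have h5 := fm_smul (h3 h4) hhH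
      rwa [smul_inv_smul] at h5
    have e2 : fx V B ≤ fm (fx V H) H → fx V A ≤ fm (fx V H) H := by
      intro h3 v hv
      have h5 := fm_smul (h3 (smul_mem_fx_cj (g := h) hv)) (inv_mem hhH)
      rwa [inv_smul_smul] at h5
    have e3 : ¬ (fx V A ≤ fm (fx V H) H ∧ fx V B ≤ fm (fx V H) H) := by
      rintro ⟨h3, h4⟩
      have h5 := chain_two h2 hf hH (hqs A hAp) (hqs B hBp) h3 h4
      exact hnS ⟨H, le_rfl, Subgroup.le_normalizer, h5, hAH⟩
    exact ⟨fun h3 => e3 ⟨e2 h3, h3⟩, fun h3 => e3 ⟨h3, e1 h3⟩⟩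
  have coreA := fun (w : V) (hw : w ∈ fx V B) (hwF : w ∉ fm (fx V H) H) (u : V) (hu : u ∈ fx V A) =>
    core hAp hH hab (hqs A hAp) ⟨h, hhH, rfl⟩ hmin hoff hnS hsubB hw hwF u hu
  have coreB := fun (w : V) (hw : w ∈ fx V A) (hwF : w ∉ fm (fx V H) H) (u : V) (hu : u ∈ fx V B) =>
    core (A := B) (B := A) hBp (by rw [sup_comm]; exact hH) hab (hqs B hBp)
      ⟨h⁻¹, inv_mem hhH, by rw [hBdef, cj_inv_cj]⟩ hminB hoffB hnSB hsubA hw hwF u hu
  obtain ⟨w0, hw0, hw0F⟩ := SetLike.not_le_iff_exists.1 hnot.1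
  obtain ⟨u, hu, huF⟩ := SetLike.not_le_iff_exists.1 hnot.2
  obtain ⟨b, hb, hbc⟩ := coreB u hu huF w0 hw0
  set w := b • u - u with hwdef
  have hCF : fx V H ≤ fm (fx V H) H := by
    intro v hv g hg
    rw [hv g hg, sub_self]; exact AddSubgroup.zero_mem _
  have hwF : w ∉ fm (fx V H) H := by
    intro h3
    apply hw0F
    have : w0 = w - (w - w0) := by abel
    rw [this]
    exact AddSubgroup.sub_mem _ h3 (hCF hbc)
  have hwB : w ∈ fx V B := hqs B hBp b hb u
  obtain ⟨a, ha, hac⟩ := coreA w hwB hwF u hu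
  refine ⟨fx V H, a, b, u, w, fun c hc => ⟨hc a (hAH ha), hc b (hBH hb)⟩, fun h3 => hwF (hCF h3), hu a ha,
    hwB b hb, ?_, hac⟩
  rw [hwdef]; abel

end abs

end Cfsg.Agent.H18.Off
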