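import Cfsg.Agent.H18_Off1
import Cfsg.Agent.H18_Off2

/-! Offenders in groups with abelian Sylow 2-subgroups acting quadratically: the ambient statement. -/

set_option autoImplicit false
universe u v

namespace Cfsg.Agent.H18.Off

open Subgroup H13.Syl Cfsg

theorem lift_pgroup {G : Type u} {X : Type v} [Group G] [Finite G] [Group X] {p : ℕ} [Fact p.Prime] (f : G →* X)
    (hf : Function.Surjective f) {T : Subgroup X} (hT : IsPGroup p T) :
    ∃ T' : Subgroup G, IsPGroup p T' ∧ T'.map f = T := by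
  have : Finite X := Finite.of_surjective f hf
  let g : T.comap f →* T := f.subgroupComap T
  have hg : Function.Surjective g := f.subgroupComap_surjective_of_surjective T hf
  obtain ⟨P⟩ : Nonempty (Sylow p (T.comap f)) := inferInstance
  refine ⟨(P : Subgroup (T.comap f)).map (T.comap f).subtype, P.isPGroup'.map _, ?_⟩
  have h1 : ((P : Subgroup (T.comap f)).map g).index ∣ (P : Subgroup (T.comap f)).index :=
    Subgroup.index_map_dvd _ hg
  have h2 : ¬ p ∣ (P : Subgroup (T.comap f)).index := P.not_dvd_index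
  obtain ⟨k, hk⟩ := hT.index ((P : Subgroup (T.comap f)).map g)
  have h3 : k = 0 := by
    by_contra hk0
    apply h2
    refine dvd_trans ?_ h1
    rw [hk]
    exact dvd_pow_self p hk0
  rw [h3, pow_zero, Subgroup.index_eq_one] at hk
  apply le_antisymm
  · rintro _ ⟨_, ⟨x, hx, rfl⟩, rfl⟩
    exact x.2
  · intro t ht
    have h4 : (⟨t, ht⟩ : T) ∈ (P : Subgroup (T.comap f)).map g := by rw [hk]; trivial
    obtain ⟨x, hx, hxt⟩ := h4
    refine ⟨x, ⟨x, hx, rfl⟩, ?_⟩
    exact congrArg Subtype.val hxt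

/-- multiplicative form -/
theorem off_mul {X : Type u} {W : Type v} [Group X] [Finite X] [CommGroup W] [Finite W] (ρ : X →* MulAut W)
    (h2 : ∀ w : W, w * w = 1) (hf : ∀ x : X, (∀ w : W, ρ x w = w) → x = 1)
    (hab : ∀ T : Subgroup X, IsPGroup 2 T → ∀ s ∈ T, ∀ t ∈ T, s * t = t * s)
    (hq : ∀ T : Subgroup X, IsPGroup 2 T → ∀ s ∈ T, ∀ t ∈ T, ∀ w : W, ρ t (ρ s w / w) = ρ s w / w)
    (hO : ∀ N : Subgroup X, N.Normal → IsPGroup 2 N → N = ⊥)
    {A0 : Subgroup X} (hA0 : IsPGroup 2 A0) (hA0b : A0 ≠ ⊥)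
    (F : Subgroup W) (hF : ∀ w ∈ F, ∀ a ∈ A0, ρ a w = w) (hoff0 : Nat.card W ≤ Nat.card A0 * Nat.card F) :
    ∃ (C : Subgroup W) (a b : X) (u w : W), (∀ c ∈ C, ρ a c = c ∧ ρ b c = c) ∧ w ∉ C ∧ ρ a u = u ∧ ρ b w = w ∧
      ρ b u = u * w ∧ ρ a w / w / u ∈ C := by
  let iD : DistribMulAction X (Additive W) :=
    { smul := fun x v => Additive.ofMul (ρ x (Additive.toMul v))
      one_smul := fun v => by
        show Additive.ofMul (ρ 1 (Additive.toMul v)) = v
        rw [map_one]; rfl
      mul_smul := fun x y v => by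
        show Additive.ofMul (ρ (x * y) (Additive.toMul v)) = Additive.ofMul (ρ x (ρ y (Additive.toMul v)))
        rw [map_mul]; rfl
      smul_zero := fun x => by
        show Additive.ofMul (ρ x 1) = 0
        rw [map_one]; rfl
      smul_add := fun x v w => by
        show Additive.ofMul (ρ x (Additive.toMul v * Additive.toMul w)) = _
        rw [map_mul]; rfl }
  have hsm : ∀ (x : X) (v : W), x • (Additive.ofMul v) = Additive.ofMul (ρ x v) := fun _ _ => rfl
  have hfin : Finite (Additive W) := inferInstanceAs (Finite W)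
  have hcard : Nat.card (Additive W) = Nat.card W := rfl
  have hFle : Nat.card F ≤ Nat.card (fx (Additive W) A0) := by
    refine Nat.card_le_card_of_injective (fun x : F => (⟨Additive.ofMul x.1, fun a ha => congrArg Additive.ofMul (hF x.1 x.2 a ha)⟩ :
      fx (Additive W) A0)) ?_
    intro x y hxy
    have := congrArg (fun z : fx (Additive W) A0 => Additive.toMul (z : Additive W)) hxy
    exact Subtype.ext this
  obtain ⟨C, a, b, u, w, h3, h4, h5, h6, h7, h8⟩ := off (X := X) (V := Additive W) (fun v => h2 (Additive.toMul v))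
    (fun x hx => hf x (fun w => hx (Additive.ofMul w))) hab
    (fun T hT s hs t ht v => hq T hT s hs t ht (Additive.toMul v)) hO hA0 hA0b
    (by rw [hcard]; exact hoff0.trans (Nat.mul_le_mul_left _ hFle))
  refine ⟨AddSubgroup.toSubgroup' C, a, b, Additive.toMul u, Additive.toMul w, ?_, ?_, h5, h6, h7, h8⟩
  · intro c hc
    exact h3 (Additive.ofMul c) hc
  · exact h4

section coord
variable {W : Type v} [CommGroup W]

def ee (u w : W) (x : F4) : W := u ^ (x 0).val * w ^ (x 1).val

theorem pow_val_add {u : W} (hu : u * u = 1) (a b : ZMod 2) : u ^ (a + b).val = u ^ a.val * u ^ b.val := by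
  have key : ∀ a b : ZMod 2, (a + b).val = a.val + b.val ∨ (a + b).val + 2 = a.val + b.val := by decide
  rcases key a b with h | h
  · rw [h, pow_add]
  · rw [← pow_add, ← h, pow_add, pow_two, hu, mul_one]

theorem ee_add {u w : W} (hu : u * u = 1) (hw : w * w = 1) (x y : F4) : ee u w (x + y) = ee u w x * ee u w y := by
  rw [ee, ee, ee, Pi.add_apply, Pi.add_apply, pow_val_add hu, pow_val_add hw]
  exact mul_mul_mul_comm _ _ _ _

theorem ee_cases (x : F4) : x = ![0, 0] ∨ x = ![1, 0] ∨ x = ![0, 1] ∨ x = ![1, 1] := by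
  revert x; decide

theorem ee00 (u w : W) : ee u w ![0, 0] = 1 := by simp [ee]
theorem ee10 (u w : W) : ee u w ![1, 0] = u := by simp [ee, ZMod.val_one]
theorem ee01 (u w : W) : ee u w ![0, 1] = w := by simp [ee, ZMod.val_one]
theorem ee11 (u w : W) : ee u w ![1, 1] = u * w := by simp [ee, ZMod.val_one]

end coord

theorem s4_of_data {G : Type u} [Group G] [Finite G] (V : Subgroup G) (hcomm : ∀ v w : V, v * w = w * v)
    (h2 : ∀ v : V, v * v = 1) (φ : G →* MulAut V) (hφ : ∀ (g : G) (v : V), ((φ g v : V) : G) = g * v.1 * g⁻¹)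
    (C : Subgroup V) (a b : G) (u w : V) (h3 : ∀ c ∈ C, φ a c = c ∧ φ b c = c) (h4 : w ∉ C) (h5 : φ a u = u)
    (h6 : φ b w = w) (h7 : φ b u = u * w) (h8 : φ a w * w * u ∈ C) :
    Involves (Equiv.Perm (Fin 4)) G := by
  classical
  let iC : CommGroup V := { (inferInstance : Group V) with mul_comm := hcomm }
  have hee2 : ∀ x, ee u w x * ee u w x = 1 := fun x => h2 _
  have hadd := ee_add (h2 u) (h2 w)
  have hind : ∀ x, ee u w x ∈ C → x = 0 := by
    have hw1 : w ≠ 1 := fun h => h4 (h ▸ C.one_mem)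
    intro x hx
    rcases ee_cases x with rfl | rfl | rfl | rfl
    · ext i; fin_cases i <;> rfl
    · rw [ee10] at hx
      exfalso; apply hw1
      have := (h3 u hx).2
      rw [h7] at this
      exact mul_eq_left.1 this
    · rw [ee01] at hx; exact absurd hx h4
    · rw [ee11] at hx
      exfalso; apply hw1
      have := (h3 _ hx).2
      rw [map_mul, h7, h6, mul_assoc, h2, mul_one] at this
      exact (mul_eq_left.1 this.symm)
  let R : V → F4 → Prop := fun t x => t * ee u w x ∈ C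
  have hRm : ∀ t s x y, R t x → R s y → R (t * s) (x + y) := by
    intro t s x y hx hy
    show t * s * ee u w (x + y) ∈ C
    rw [hadd, mul_mul_mul_comm]
    exact C.mul_mem hx hy
  have hRu : ∀ t x y, R t x → R t y → x = y := by
    intro t x y hx hy
    have h9 := hRm _ _ _ _ hx hy
    have h10 : (t * t) * ee u w (x + y) ∈ C := h9
    rw [h2, one_mul] at h10
    have h11 := hind _ h10
    have key : ∀ x y : F4, x + y = 0 → x = y := by decide
    exact key x y h11
  let TW : Subgroup V :=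
    { carrier := {t | ∃ x, R t x}
      mul_mem' := by
        rintro t s ⟨x, hx⟩ ⟨y, hy⟩
        exact ⟨_, hRm _ _ _ _ hx hy⟩
      one_mem' := ⟨0, by
        show 1 * ee u w 0 ∈ C
        have : (0 : F4) = ![0, 0] := by ext i; fin_cases i <;> rfl
        rw [this, ee00, one_mul]; exact C.one_mem⟩
      inv_mem' := by
        rintro t ⟨x, hx⟩
        refine ⟨x, ?_⟩
        have : t⁻¹ = t := inv_eq_of_mul_eq_one_right (h2 t)
        rw [this]; exact hx }
  let v : G → F4 := fun g => if h : ∃ x : F4, ∃ hg : g ∈ V, R ⟨g, hg⟩ x then h.choose else 0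
  have hv : ∀ (t : V) x, R t x → v t.1 = x := by
    intro t x hx
    have h9 : ∃ x : F4, ∃ hg : t.1 ∈ V, R ⟨t.1, hg⟩ x := ⟨x, t.2, hx⟩
    have h10 : v t.1 = h9.choose := dif_pos h9
    rw [h10]
    obtain ⟨hg, h11⟩ := h9.choose_spec
    exact hRu t _ _ h11 hx
  have hq : H27.Qd.QD 2 (TW.map V.subtype) v := by
    refine ⟨?_, ?_, ?_⟩
    · rintro ⟨_, t, ht, rfl⟩
      refine ⟨1, ?_⟩
      apply Subtype.ext
      show t.1 ^ (2 ^ 1) = 1
      rw [pow_one, pow_two]
      exact congrArg Subtype.val (h2 t)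
    · rintro _ ⟨t, ⟨x, hx⟩, rfl⟩ _ ⟨s, ⟨y, hy⟩, rfl⟩
      have h9 := hv (t * s) _ (hRm _ _ _ _ hx hy)
      show v (t * s : V).1 = v t.1 + v s.1
      rw [h9, hv t x hx, hv s y hy]
    · intro x
      have h9 : R (ee u w x) x := by
        show ee u w x * ee u w x ∈ C
        rw [hee2]; exact C.one_mem
      exact ⟨(ee u w x).1, ⟨_, ⟨x, h9⟩, rfl⟩, hv _ _ h9⟩
  -- the actions
  have hact : ∀ (g : G) (A : S2), (∀ t x, R t x → R (φ g t) (A.1.mulVec x)) → H27.Qd.Act (TW.map V.subtype) v g A := by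
    intro g A hgA
    have h9 : cj g (TW.map V.subtype) ≤ TW.map V.subtype := by
      rw [cj_le_iff_forall]
      rintro _ ⟨t, ⟨x, hx⟩, rfl⟩
      exact ⟨φ g t, ⟨_, hgA t x hx⟩, hφ g t⟩
    refine ⟨?_, ?_⟩
    · rw [mem_normalizer_iff_cj]
      exact Subgroup.eq_of_le_of_card_ge h9 (by rw [card_cj])
    · rintro _ ⟨t, ⟨x, hx⟩, rfl⟩
      have h10 := hv _ _ (hgA t x hx)
      rw [hφ] at h10
      show v (g * t.1 * g⁻¹) = A.1.mulVec (v t.1)
      rw [h10, hv t x hx]
  have hpush : ∀ (g : G) (A : S2), (∀ c ∈ C, φ g c = c) → (∀ x, φ g (ee u w x) * ee u w (A.1.mulVec x) ∈ C) →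
      ∀ t x, R t x → R (φ g t) (A.1.mulVec x) := by
    intro g A hc hx t x htx
    show φ g t * ee u w (A.1.mulVec x) ∈ C
    have h9 : φ g (t * ee u w x) ∈ C := by rw [hc _ htx]; exact htx
    rw [map_mul] at h9
    have h10 := C.mul_mem h9 (hx x)
    have e : φ g t * φ g (ee u w x) * (φ g (ee u w x) * ee u w (A.1.mulVec x)) = φ g t * ee u w (A.1.mulVec x) := by
      calc _ = φ g t * (φ g (ee u w x) * φ g (ee u w x)) * ee u w (A.1.mulVec x) := by
            simp only [mul_assoc]
        _ = _ := by rw [h2, mul_one]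
    rwa [e] at h10
  refine s4_of_pair hq (a := a) (b := b) (hact a tu (hpush a tu (fun c hc => (h3 c hc).1) ?_))
    (hact b tl (hpush b tl (fun c hc => (h3 c hc).2) ?_))
  · intro x
    have m00 : tu.1.mulVec ![0, 0] = ![0, 0] := by decide
    have m10 : tu.1.mulVec ![1, 0] = ![1, 0] := by decide
    have m01 : tu.1.mulVec ![0, 1] = ![1, 1] := by decide
    have m11 : tu.1.mulVec ![1, 1] = ![0, 1] := by decide
    rcases ee_cases x with rfl | rfl | rfl | rfl
    · rw [m00, ee00, map_one, one_mul]; exact C.one_mem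
    · rw [m10, ee10, h5, h2]; exact C.one_mem
    · rw [m01, ee01, ee11, mul_comm u w, ← mul_assoc]; exact h8
    · rw [m11, ee11, ee01, map_mul, h5]
      have : u * φ a w * w = φ a w * w * u := by rw [mul_comm u, mul_assoc, mul_comm u, ← mul_assoc]
      rw [this]; exact h8
  · intro x
    have m00 : tl.1.mulVec ![0, 0] = ![0, 0] := by decide
    have m10 : tl.1.mulVec ![1, 0] = ![1, 1] := by decide
    have m01 : tl.1.mulVec ![0, 1] = ![0, 1] := by decide
    have m11 : tl.1.mulVec ![1, 1] = ![1, 0] := by decide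
    rcases ee_cases x with rfl | rfl | rfl | rfl
    · rw [m00, ee00, map_one, one_mul]; exact C.one_mem
    · rw [m10, ee10, ee11, h7, h2]; exact C.one_mem
    · rw [m01, ee01, h6, h2]; exact C.one_mem
    · rw [m11, ee11, ee10, map_mul, h7, h6, mul_assoc u w w, h2, mul_one, h2]; exact C.one_mem

theorem offender_s4 {G : Type u} [Group G] [Finite G] (V : Subgroup G) [hVn : V.Normal] (h2 : ∀ v ∈ V, v * v = 1)
    (hab : ∀ T : Subgroup G, IsPGroup 2 T → ∀ s ∈ T, ∀ t ∈ T, s * t * s⁻¹ * t⁻¹ ∈ centralizer (V : Set G))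
    (hq : ∀ T : Subgroup G, IsPGroup 2 T → ∀ s ∈ T, ∀ t ∈ T, ∀ v ∈ V,
      t * (s * v * s⁻¹ * v⁻¹) * t⁻¹ = s * v * s⁻¹ * v⁻¹)
    (hO : ∀ N : Subgroup G, N.Normal → centralizer (V : Set G) ≤ N →
      (∀ n ∈ N, ∃ k : ℕ, n ^ 2 ^ k ∈ centralizer (V : Set G)) → N ≤ centralizer (V : Set G))
    {A : Subgroup G} (hA : IsPGroup 2 A) (hAV : ¬ A ≤ centralizer (V : Set G))
    (hoff : Nat.card V * Nat.card (A ⊓ centralizer (V : Set G) : Subgroup G) ≤
      Nat.card A * Nat.card (V ⊓ centralizer (A : Set G) : Subgroup G)) :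
    Involves (Equiv.Perm (Fin 4)) G := by
  have : Fact (Nat.Prime 2) := ⟨Nat.prime_two⟩
  have hcomm : ∀ v w : V, v * w = w * v := by
    intro v w
    have h3 := h2 v.1 v.2
    have h4 := h2 w.1 w.2
    have h5 := h2 (v.1 * w.1) (V.mul_mem v.2 w.2)
    apply Subtype.ext
    show v.1 * w.1 = w.1 * v.1
    have e1 : v.1⁻¹ = v.1 := inv_eq_of_mul_eq_one_right h3
    have e2 : w.1⁻¹ = w.1 := inv_eq_of_mul_eq_one_right h4
    have e3 : (v.1 * w.1)⁻¹ = v.1 * w.1 := inv_eq_of_mul_eq_one_right h5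
    rw [← e3, mul_inv_rev, e1, e2]
  let iC : CommGroup V := { (inferInstance : Group V) with mul_comm := hcomm }
  let f : G →* MulAut V := MulAut.conjNormal
  have hfa : ∀ (g : G) (v : V), ((f g v : V) : G) = g * v.1 * g⁻¹ := fun g v => MulAut.conjNormal_apply g v
  let f' : G →* f.range := f.rangeRestrict
  have hf' : Function.Surjective f' := f.rangeRestrict_surjective
  have hker : ∀ g : G, f' g = 1 ↔ g ∈ centralizer (V : Set G) := by
    intro g
    rw [Subgroup.mem_centralizer_iff]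
    constructor
    · intro h3 v hv
      have h4 : f g = 1 := congrArg Subtype.val h3
      have h5 : ((f g ⟨v, hv⟩ : V) : G) = v := by rw [h4]; rfl
      rw [hfa] at h5
      exact (mul_inv_eq_iff_eq_mul.1 h5).symm
    · intro h3
      apply Subtype.ext
      show f g = 1
      ext v
      rw [hfa]
      show g * v.1 * g⁻¹ = v.1
      rw [← h3 v.1 v.2]; group
  have hW2 : ∀ w : V, w * w = 1 := fun w => Subtype.ext (h2 w.1 w.2)
  let ρ : f.range →* MulAut V := f.range.subtype
  have hρ : ∀ (g : G) (v : V), ρ (f' g) v = f g v := fun g v => rfl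
  have hAcard : Nat.card (A.map f') * Nat.card (A ⊓ centralizer (V : Set G) : Subgroup G) = Nat.card A := by
    have h3 := (f'.comp A.subtype).ker.card_mul_index
    rw [Subgroup.index_ker] at h3
    have h4 : (f'.comp A.subtype).range = A.map f' := by rw [MonoidHom.range_comp, Subgroup.range_subtype]
    have h5 : Nat.card (f'.comp A.subtype).ker = Nat.card (A ⊓ centralizer (V : Set G) : Subgroup G) := by
      apply Nat.card_congr
      refine ⟨fun x => ⟨x.1.1, x.1.2, (hker _).1 x.2⟩, fun x => ⟨⟨x.1, x.2.1⟩, (hker _).2 x.2.2⟩, fun x => rfl, fun x => rfl⟩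
    rw [h4, h5] at h3
    rw [mul_comm]; exact h3
  obtain ⟨C, a, b, u, w, h3, h4, h5, h6, h7, h8⟩ := off_mul (X := f.range) (W := V) ρ hW2
    (fun x hx => by
      obtain ⟨g, rfl⟩ := hf' x
      rw [hker, Subgroup.mem_centralizer_iff]
      intro v hv
      have h3 : ((f g ⟨v, hv⟩ : V) : G) = v := congrArg Subtype.val (hx ⟨v, hv⟩)
      rw [hfa] at h3
      exact (mul_inv_eq_iff_eq_mul.1 h3).symm)
    (fun T hT s hs t ht => by
      obtain ⟨T', hT', rfl⟩ := lift_pgroup f' hf' hT
      obtain ⟨s, hs, rfl⟩ := hs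
      obtain ⟨t, ht, rfl⟩ := ht
      have h3 := (hker _).2 (hab T' hT' s hs t ht)
      rw [map_mul, map_mul, map_mul, map_inv, map_inv] at h3
      have h4 := mul_inv_eq_one.1 h3
      exact mul_inv_eq_iff_eq_mul.1 h4)
    (fun T hT s hs t ht v => by
      obtain ⟨T', hT', rfl⟩ := lift_pgroup f' hf' hT
      obtain ⟨s, hs, rfl⟩ := hs
      obtain ⟨t, ht, rfl⟩ := ht
      rw [hρ, hρ]
      apply Subtype.ext
      rw [hfa]
      have e1 : ((f s v / v : V) : G) = s * v.1 * s⁻¹ * v.1⁻¹ := by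
        rw [div_eq_mul_inv]
        show ((f s v : V) : G) * (v.1)⁻¹ = _
        rw [hfa]
      rw [e1]
      exact hq T' hT' s hs t ht v.1 v.2)
    (fun N hN hNp => by
      have h3 : N.comap f' ≤ centralizer (V : Set G) := by
        apply hO (N.comap f') (hN.comap f')
        · intro g hg
          show f' g ∈ N
          rw [(hker g).2 hg]; exact N.one_mem
        · intro n hn
          obtain ⟨k, hk⟩ := hNp ⟨f' n, hn⟩
          refine ⟨k, (hker _).1 ?_⟩
          rw [map_pow]
          exact congrArg Subtype.val hk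
      rw [eq_bot_iff]
      intro x hx
      obtain ⟨g, rfl⟩ := hf' x
      exact Subgroup.mem_bot.2 ((hker g).2 (h3 hx)))
    (A0 := A.map f') (hA.map f')
    (fun h3 => hAV fun x hx => (hker x).1 (by
      have : f' x ∈ A.map f' := ⟨x, hx, rfl⟩
      rw [h3] at this
      exact Subgroup.mem_bot.1 this))
    ((centralizer (A : Set G)).subgroupOf V)
    (by
      rintro v hv _ ⟨x, hx, rfl⟩
      rw [hρ]
      apply Subtype.ext
      rw [hfa]
      have h3 : x * v.1 = v.1 * x := Subgroup.mem_centralizer_iff.1 hv x hx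
      rw [h3]; group)
    (by
      have h3 : Nat.card ((centralizer (A : Set G)).subgroupOf V) = Nat.card (V ⊓ centralizer (A : Set G) : Subgroup G) := by
        apply Nat.card_congr
        exact ⟨fun x => ⟨x.1.1, x.1.2, x.2⟩, fun x => ⟨⟨x.1, x.2.1⟩, x.2.2⟩, fun x => rfl, fun x => rfl⟩
      rw [h3]
      have h4 : 0 < Nat.card (A ⊓ centralizer (V : Set G) : Subgroup G) := Nat.card_pos
      apply Nat.le_of_mul_le_mul_right _ h4
      calc Nat.card V * Nat.card (A ⊓ centralizer (V : Set G) : Subgroup G)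
          ≤ Nat.card A * Nat.card (V ⊓ centralizer (A : Set G) : Subgroup G) := hoff
        _ = _ := by rw [← hAcard]; ring)
  obtain ⟨a, rfl⟩ := hf' a
  obtain ⟨b, rfl⟩ := hf' b
  simp only [hρ] at h3 h5 h6 h7 h8
  refine s4_of_data V hcomm hW2 f hfa C a b u w h3 h4 h5 h6 h7 ?_
  have e1 : w⁻¹ = w := inv_eq_of_mul_eq_one_right (hW2 w)
  have e2 : u⁻¹ = u := inv_eq_of_mul_eq_one_right (hW2 u)
  rw [div_eq_mul_inv, div_eq_mul_inv, e1, e2] at h8
  exact h8

end Cfsg.Agent.H18.Off
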