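import Cfsg.Agent.H18_Off3
import Cfsg.Agent.H18_ZJF3
import Cfsg.Agent.H17_Act
import Cfsg.Agent.H2_Card
import Cfsg.Agent.H1_Hall

/-! `S₄`-free groups with Sylow 2-subgroups of class at most 2. -/

set_option autoImplicit false
universe u v

namespace Cfsg.Agent.H18.Off

open Subgroup H13.Syl Cfsg H12.ZJ H18.ZJF
open scoped commutatorElement

section cls
variable {G : Type u} [Group G] [Finite G]

/-- `Ω₁` of the centre of `O`, elementwise -/
def vz (O : Subgroup G) : Subgroup G where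
  carrier := {z | z ∈ O ∧ (∀ o ∈ O, o * z = z * o) ∧ z * z = 1}
  one_mem' := ⟨O.one_mem, fun o _ => by simp, by simp⟩
  mul_mem' := by
    rintro a b ⟨ha, ha1, ha2⟩ ⟨hb, hb1, hb2⟩
    refine ⟨O.mul_mem ha hb, fun o ho => ?_, ?_⟩
    · rw [← mul_assoc, ha1 o ho, mul_assoc, hb1 o ho, mul_assoc]
    · have h1 := ha1 b hb
      calc a * b * (a * b) = a * (b * a) * b := by simp only [mul_assoc]
        _ = (a * a) * (b * b) := by rw [h1]; simp only [mul_assoc]
        _ = 1 := by rw [ha2, hb2, mul_one]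
  inv_mem' := by
    rintro a ⟨ha, ha1, ha2⟩
    have : a⁻¹ = a := inv_eq_of_mul_eq_one_right ha2
    rw [this]; exact ⟨ha, ha1, ha2⟩

omit [Finite G] in
theorem vz_normal {O : Subgroup G} (hO : O.Normal) : (vz O).Normal := by
  constructor
  rintro z ⟨h1, h2, h3⟩ g
  refine ⟨hO.conj_mem z h1 g, fun o ho => ?_, ?_⟩
  · have h4 := h2 (g⁻¹ * o * g) (by have := hO.conj_mem o ho g⁻¹; rwa [inv_inv] at this)
    calc o * (g * z * g⁻¹) = g * ((g⁻¹ * o * g) * z) * g⁻¹ := by group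
      _ = g * (z * (g⁻¹ * o * g)) * g⁻¹ := by rw [h4]
      _ = g * z * g⁻¹ * o := by group
  · calc g * z * g⁻¹ * (g * z * g⁻¹) = g * (z * z) * g⁻¹ := by group
      _ = 1 := by rw [h3]; group

/-- the class 2 hypothesis -/
def Cls2 (S : Subgroup G) : Prop := ∀ s ∈ S, ∀ t ∈ S, ∀ r ∈ S, r * (s * t * s⁻¹ * t⁻¹) = (s * t * s⁻¹ * t⁻¹) * r

theorem cls_main {S : Subgroup G} (hS : IsSylIn 2 S ⊤) (hcl : Cls2 S)
    (hc : centralizer ((pCore 2 G : Subgroup G) : Set G) ≤ pCore 2 G)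
    (hS4 : ¬ Involves (Equiv.Perm (Fin 4)) G) (hgen : ∀ N : Subgroup G, N.Normal → S ≤ N → N = ⊤)
    {A : Subgroup G} (hA : MaxEA 2 S A) : A ≤ pCore 2 G := by
  have : Fact (Nat.Prime 2) := ⟨Nat.prime_two⟩
  set O := pCore 2 G with hO
  have hOn : O.Normal := H1.Nilp.pCore_normal 2
  have hOp : IsPGroup 2 O := H1.Nilp.pCore_isPGroup 2
  have hOS : O ≤ S := by
    obtain ⟨x, -, hx⟩ := hS.exists_conj_le hOp le_top
    rwa [cj_eq_of_normal] at hx
  set V := vz O with hV
  have hVn : V.Normal := vz_normal hOn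
  have hVO : V ≤ O := fun z hz => hz.1
  have hOV : O ≤ centralizer (V : Set G) := fun o ho =>
    Subgroup.mem_centralizer_iff.2 fun z hz => (hz.2.1 o ho).symm
  -- the centralizer of `V`
  have hCV : centralizer (V : Set G) ≤ O := by
    have hCn : (centralizer (V : Set G)).Normal := inferInstance
    apply H11.Cores.le_pCore 2 (hN := hCn)
    apply H2.PCons.isPGroup_of_forall_coprime
    intro y hy hyp
    -- `y` centralizes `Z(O)`
    let ZO : Subgroup G := O ⊓ centralizer (O : Set G)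
    have hZOn : ZO.Normal := by
      have : (centralizer (O : Set G)).Normal := inferInstance
      infer_instance
    have hyO : y ∈ normalizer (O : Set G) := by rw [Subgroup.normalizer_eq_top O]; trivial
    have h1 : zpowers y ≤ centralizer (ZO : Set G) := by
      have hab : IsMulCommutative ZO := ⟨⟨fun a b => Subtype.ext (Subgroup.mem_centralizer_iff.1 b.2.2 a.1 a.2.1)⟩⟩
      apply H1.Coprime.abelian_trivial_of_prime_order (zpowers y) ZO
      · rw [Subgroup.zpowers_le, Subgroup.normalizer_eq_top ZO]; trivial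
      · rw [Nat.card_zpowers]
        obtain ⟨k, hk⟩ := IsPGroup.iff_card.1 (hOp.to_le (inf_le_left : ZO ≤ O))
        rw [hk]
        exact Nat.Coprime.pow_right k hyp
      · intro v hv hvp a ha
        have hv2 : v * v = 1 := by
          obtain ⟨k, hk⟩ := hOp ⟨v, hv.1⟩
          have hk' : v ^ 2 ^ k = 1 := congrArg Subtype.val hk
          have h2 : orderOf v ∣ 2 ^ k := orderOf_dvd_of_pow_eq_one hk'
          have h3 : orderOf v = 2 := (Nat.prime_dvd_prime_iff_eq hvp Nat.prime_two).1 (hvp.dvd_of_dvd_pow h2)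
          have h4 := pow_orderOf_eq_one v
          rwa [h3, pow_two] at h4
        have h3 : v ∈ V := ⟨hv.1, fun o ho => Subgroup.mem_centralizer_iff.1 hv.2 o ho, hv2⟩
        have h4 : zpowers y ≤ centralizer ({v} : Set G) := by
          rw [Subgroup.zpowers_le, Subgroup.mem_centralizer_iff]
          rintro _ rfl
          exact Subgroup.mem_centralizer_iff.1 hy _ h3
        exact (Subgroup.mem_centralizer_iff.1 (h4 ha) v rfl).symm
    -- everything centralizes `O/Z(O)`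
    let N0 : Subgroup G :=
      { carrier := {g | ∀ o ∈ O, g * o * g⁻¹ * o⁻¹ ∈ ZO}
        one_mem' := fun o _ => by simp
        mul_mem' := by
          intro g h hg hh o ho
          have h2 := hg (h * o * h⁻¹) (hOn.conj_mem o ho h)
          have h3 := ZO.mul_mem h2 (hh o ho)
          have e : g * (h * o * h⁻¹) * g⁻¹ * (h * o * h⁻¹)⁻¹ * (h * o * h⁻¹ * o⁻¹) = g * h * o * (g * h)⁻¹ * o⁻¹ := by group
          rwa [e] at h3
        inv_mem' := by
          intro g hg o ho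
          have h2 := hg (g⁻¹ * o * g) (by have := hOn.conj_mem o ho g⁻¹; rwa [inv_inv] at this)
          have h3 := ZO.inv_mem h2
          have e : (g * (g⁻¹ * o * g) * g⁻¹ * (g⁻¹ * o * g)⁻¹)⁻¹ = g⁻¹ * o * g⁻¹⁻¹ * o⁻¹ := by group
          rwa [e] at h3 }
    have hN0 : N0 = ⊤ := by
      apply hgen
      · constructor
        intro g hg x o ho
        have h2 := hg (x⁻¹ * o * x) (by have := hOn.conj_mem o ho x⁻¹; rwa [inv_inv] at this)
        have h3 := hZOn.conj_mem _ h2 x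
        have e : x * (g * (x⁻¹ * o * x) * g⁻¹ * (x⁻¹ * o * x)⁻¹) * x⁻¹ = x * g * x⁻¹ * o * (x * g * x⁻¹)⁻¹ * o⁻¹ := by group
        rwa [e] at h3
      · intro s hs o ho
        have h2 := hcl s hs o (hOS ho)
        have h3 : s * o * s⁻¹ * o⁻¹ ∈ centralizer (O : Set G) :=
          Subgroup.mem_centralizer_iff.2 fun r hr => h2 r (hOS hr)
        exact ⟨hc h3, h3⟩
    have hyN : y ∈ N0 := by rw [hN0]; trivial
    have h2 : ⁅O, zpowers y⁆ ≤ ZO := by
      rw [Subgroup.commutator_le]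
      intro o ho z hz
      have hzN : z ∈ N0 := (Subgroup.zpowers_le.2 hyN) hz
      have h3 := ZO.inv_mem (hzN o ho)
      have e : (z * o * z⁻¹ * o⁻¹)⁻¹ = ⁅o, z⁆ := by rw [commutatorElement_def]; group
      rwa [e] at h3
    have h3 : ⁅⁅O, zpowers y⁆, zpowers y⁆ = ⊥ := by
      rw [Subgroup.commutator_eq_bot_iff_le_centralizer]
      intro z hz
      rw [Subgroup.mem_centralizer_iff]
      intro w hw
      exact (Subgroup.mem_centralizer_iff.1 (h1 hw) z (h2 hz)).symm
    have h4 := H17.Base.mem_Cz_of_quadratic hOp hyO hyp h3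
    have h5 : y ∈ O := hc h4
    obtain ⟨k, hk⟩ := hOp ⟨y, h5⟩
    have hk' : y ^ 2 ^ k = 1 := congrArg Subtype.val hk
    have h6 : orderOf y ∣ 2 ^ k := orderOf_dvd_of_pow_eq_one hk'
    have h7 : orderOf y = 1 := Nat.Coprime.eq_one_of_dvd (Nat.Coprime.pow_right k hyp) h6
    exact orderOf_eq_one_iff.1 h7
  by_contra hAO
  apply hS4
  have hAp : IsPGroup 2 A := hS.2.1.to_le hA.1
  refine offender_s4 V (fun v hv => hv.2.2) ?_ ?_ ?_ hAp (fun h => hAO (h.trans hCV)) ?_
  · intro T hT s hs t ht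
    obtain ⟨x, -, hx⟩ := hS.exists_conj_le hT le_top
    have h1 := hcl (x * s * x⁻¹) (hx (conj_mem_cj hs)) (x * t * x⁻¹) (hx (conj_mem_cj ht))
    rw [Subgroup.mem_centralizer_iff]
    intro v hv
    have h2 := h1 (x * v * x⁻¹) (hOS (hVO (hVn.conj_mem v hv x)))
    have e1 : x * v * x⁻¹ * (x * s * x⁻¹ * (x * t * x⁻¹) * (x * s * x⁻¹)⁻¹ * (x * t * x⁻¹)⁻¹) =
      x * (v * (s * t * s⁻¹ * t⁻¹)) * x⁻¹ := by group
    have e2 : x * s * x⁻¹ * (x * t * x⁻¹) * (x * s * x⁻¹)⁻¹ * (x * t * x⁻¹)⁻¹ * (x * v * x⁻¹) =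
      x * ((s * t * s⁻¹ * t⁻¹) * v) * x⁻¹ := by group
    rw [e1, e2] at h2
    exact mul_left_cancel (mul_right_cancel h2)
  · intro T hT s hs t ht v hv
    obtain ⟨x, -, hx⟩ := hS.exists_conj_le hT le_top
    have h2 := hcl (x * s * x⁻¹) (hx (conj_mem_cj hs)) (x * v * x⁻¹) (hOS (hVO (hVn.conj_mem v hv x)))
      (x * t * x⁻¹) (hx (conj_mem_cj ht))
    have e1 : x * t * x⁻¹ * (x * s * x⁻¹ * (x * v * x⁻¹) * (x * s * x⁻¹)⁻¹ * (x * v * x⁻¹)⁻¹) =
      x * (t * (s * v * s⁻¹ * v⁻¹)) * x⁻¹ := by group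
    have e2 : x * s * x⁻¹ * (x * v * x⁻¹) * (x * s * x⁻¹)⁻¹ * (x * v * x⁻¹)⁻¹ * (x * t * x⁻¹) =
      x * ((s * v * s⁻¹ * v⁻¹) * t) * x⁻¹ := by group
    rw [e1, e2] at h2
    have h3 : t * (s * v * s⁻¹ * v⁻¹) = (s * v * s⁻¹ * v⁻¹) * t := mul_left_cancel (mul_right_cancel h2)
    rw [h3]; group
  · intro N hN hCN h1
    have h2 : IsPGroup 2 N := by
      rintro ⟨n, hn⟩
      obtain ⟨k, hk⟩ := h1 n hn
      obtain ⟨j, hj⟩ := hOp ⟨_, hCV hk⟩
      have hj' : (n ^ 2 ^ k) ^ 2 ^ j = 1 := congrArg Subtype.val hj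
      refine ⟨k + j, Subtype.ext ?_⟩
      show n ^ 2 ^ (k + j) = 1
      rw [pow_add, pow_mul]; exact hj'
    exact (H11.Cores.le_pCore 2 (hN := hN) h2).trans hOV
  · have h1 : A ⊓ centralizer (V : Set G) ≤ normalizer (V : Set G) := by
      rw [Subgroup.normalizer_eq_top V]; exact le_top
    have h2 := H2.Card.card_sup_mul_card_inf h1
    have h3 : Nat.card (A ⊓ centralizer (V : Set G) ⊔ V : Subgroup G) ≤ Nat.card A := by
      apply hA.2.2
      · exact sup_le (inf_le_left.trans hA.1) (hVO.trans hOS)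
      · have hcm : ∀ a ∈ A ⊓ centralizer (V : Set G), ∀ v ∈ V, a * v = v * a := fun a ha v hv =>
          (Subgroup.mem_centralizer_iff.1 ha.2 v hv).symm
        have hvv : ∀ v ∈ V, ∀ w ∈ V, v * w = w * v := fun v hv w hw => hw.2.1 v hv.1
        constructor
        · intro x hx y hy
          obtain ⟨a, ha, v, hv, rfl⟩ := (H2.Card.mem_sup_iff h1).1 hx
          obtain ⟨b, hb, w, hw, rfl⟩ := (H2.Card.mem_sup_iff h1).1 hy
          have e1 := hcm b hb v hv
          have e2 := hcm a ha w hw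
          have e3 := hvv v hv w hw
          have e4 := hA.2.1.1 a ha.1 b hb.1
          calc a * v * (b * w) = a * (v * b) * w := by simp only [mul_assoc]
            _ = a * b * (v * w) := by rw [← e1]; simp only [mul_assoc]
            _ = b * a * (w * v) := by rw [e4, e3]
            _ = b * (a * w) * v := by simp only [mul_assoc]
            _ = b * w * (a * v) := by rw [e2]; simp only [mul_assoc]
        · intro x hx
          obtain ⟨a, ha, v, hv, rfl⟩ := (H2.Card.mem_sup_iff h1).1 hx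
          have e1 := hcm a ha v hv
          have e2 := hA.2.1.2 a ha.1
          rw [pow_two] at e2 ⊢
          calc a * v * (a * v) = a * (v * a) * v := by simp only [mul_assoc]
            _ = (a * a) * (v * v) := by rw [← e1]; simp only [mul_assoc]
            _ = 1 := by rw [e2, hv.2.2, mul_one]
    have h4 : Nat.card (A ⊓ centralizer (V : Set G) ⊓ V : Subgroup G) ≤ Nat.card (V ⊓ centralizer (A : Set G) : Subgroup G) := by
      apply Nat.card_le_card_of_injective (Subgroup.inclusion ?_) (Subgroup.inclusion_injective _)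
      rintro x ⟨⟨hxA, hxC⟩, hxV⟩
      exact ⟨hxV, Subgroup.mem_centralizer_iff.2 fun a ha => hA.2.1.1 a ha x hxA⟩
    calc Nat.card V * Nat.card (A ⊓ centralizer (V : Set G) : Subgroup G)
        = Nat.card (A ⊓ centralizer (V : Set G) ⊔ V : Subgroup G) * Nat.card (A ⊓ centralizer (V : Set G) ⊓ V : Subgroup G) := by
          rw [h2, mul_comm]
      _ ≤ _ := Nat.mul_le_mul h3 h4

theorem cls_final {S : Subgroup G} (hS : IsSylIn 2 S ⊤) (hcl : Cls2 S)
    (hc : centralizer ((pCore 2 G : Subgroup G) : Set G) ≤ pCore 2 G)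
    (hS4 : ¬ Involves (Equiv.Perm (Fin 4)) G) {A : Subgroup G} (hA : MaxEA 2 S A) : A ≤ pCore 2 G := by
  have : Fact (Nat.Prime 2) := ⟨Nat.prime_two⟩
  set O := pCore 2 G with hO
  have hOn : O.Normal := H1.Nilp.pCore_normal 2
  have hOp : IsPGroup 2 O := H1.Nilp.pCore_isPGroup 2
  have hOS : O ≤ S := by
    obtain ⟨x, -, hx⟩ := hS.exists_conj_le hOp le_top
    rwa [cj_eq_of_normal] at hx
  let K : Subgroup G := normalClosure (S : Set G)
  have hSK : S ≤ K := subset_normalClosure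
  have hKn : K.Normal := normalClosure_normal
  have hSylK : IsSylIn 2 S K := hS.mono hSK le_top
  have hS' : IsSylIn 2 (S.subgroupOf K) ⊤ := H13.WC.isSylIn_subgroupOf hSylK
  have hmap : ((pCore 2 K : Subgroup K).map K.subtype) ≤ O := by
    have hn : ((pCore 2 K : Subgroup K).map K.subtype).Normal := by
      have := H11.Cores.pCore_characteristic 2 (G := K)
      infer_instance
    exact H11.Cores.le_pCore 2 (hN := hn) ((H1.Nilp.pCore_isPGroup 2).map _)
  have hOK : O.subgroupOf K ≤ pCore 2 K :=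
    H11.Cores.le_pCore 2 (hN := inferInstance) (hOp.comap_of_injective _ K.subtype_injective)
  have h1 := cls_main hS' (by
    intro s hs t ht r hr
    exact Subtype.ext (hcl s.1 hs t.1 ht r.1 hr)) (by
    intro x hx
    have h2 : x.1 ∈ O := by
      apply hc
      rw [Subgroup.mem_centralizer_iff]
      intro o ho
      have h3 := Subgroup.mem_centralizer_iff.1 hx ⟨o, hSK (hOS ho)⟩ (hOK ho)
      exact congrArg Subtype.val h3
    exact hOK h2) (fun h => hS4 (H13.Sec.involves_trans h (H13.Sec.involves_subgroup K))) (by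
    intro N hN hSN
    rw [eq_top_iff]
    rintro ⟨x, hx⟩ -
    have h2 : K ≤ N.map K.subtype := by
      show closure (Group.conjugatesOfSet (S : Set G)) ≤ _
      rw [closure_le]
      intro y hy
      obtain ⟨s, hs, hsy⟩ := Group.mem_conjugatesOfSet_iff.1 hy
      obtain ⟨g, rfl⟩ := isConj_iff.1 hsy
      have h3 : IsSylIn 2 (cj g S) K := by
        have h4 := (hSylK.cj g)
        rwa [cj_eq_of_normal g K] at h4
      obtain ⟨k, hk, hkS⟩ := hSylK.exists_conj_eq h3
      have h4 : k * (g * s * g⁻¹) * k⁻¹ ∈ S := by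
        have h5 : k * (g * s * g⁻¹) * k⁻¹ ∈ cj k (cj g S) := conj_mem_cj (conj_mem_cj hs)
        rwa [hkS] at h5
      have h5 : (⟨k * (g * s * g⁻¹) * k⁻¹, hSK h4⟩ : K) ∈ N := hSN h4
      have h6 := hN.conj_mem _ h5 ⟨k, hk⟩⁻¹
      refine ⟨_, h6, ?_⟩
      show k⁻¹ * (k * (g * s * g⁻¹) * k⁻¹) * k⁻¹⁻¹ = g * s * g⁻¹
      group
    obtain ⟨y, hy, hyx⟩ := h2 hx
    have : y = ⟨x, hx⟩ := Subtype.ext hyx
    rwa [← this]) (A := A.subgroupOf K) (by
    have hfS : (S.subgroupOf K).map K.subtype = S := by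
      rw [Subgroup.subgroupOf_map_subtype, inf_eq_left.2 hSK]
    have hfA : (A.subgroupOf K).map K.subtype = A := by
      rw [Subgroup.subgroupOf_map_subtype, inf_eq_left.2 (hA.1.trans hSK)]
    apply MaxEA_of_map (f := K.subtype) (fun x _ h => Subtype.ext h) (Subgroup.comap_mono hA.1)
    show MaxEA 2 ((S.subgroupOf K).map K.subtype) ((A.subgroupOf K).map K.subtype)
    rw [hfS, hfA]; exact hA)
  intro a ha
  exact hmap ⟨⟨a, hSK (hA.1 ha)⟩, h1 ha, rfl⟩

theorem J_normal_of_le {S : Subgroup G} (hS : IsSylIn 2 S ⊤) (h : ∀ A, MaxEA 2 S A → A ≤ pCore 2 G) :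
    (JJ 2 S).Normal := by
  have : Fact (Nat.Prime 2) := ⟨Nat.prime_two⟩
  have hOn : (pCore 2 G).Normal := H1.Nilp.pCore_normal 2
  have hOp : IsPGroup 2 (pCore 2 G) := H1.Nilp.pCore_isPGroup 2
  have hOS : pCore 2 G ≤ S := by
    obtain ⟨x, -, hx⟩ := hS.exists_conj_le hOp le_top
    rwa [cj_eq_of_normal] at hx
  rw [← JJ_eq_of_le hOS (sSup_le h), ← Subgroup.normalizer_eq_top_iff, eq_top_iff]
  refine le_trans ?_ (normalizer_le_JJ 2 (pCore 2 G))
  rw [Subgroup.normalizer_eq_top (pCore 2 G)]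

omit [Finite G] in
theorem cls2_of_lcs {S : Subgroup G} (hcl : Subgroup.lowerCentralSeries S 2 = ⊥) : Cls2 S := by
  intro s hs t ht r hr
  have h1 : ⁅s, t⁆ ∈ ⁅S, S⁆ := Subgroup.commutator_mem_commutator hs ht
  have h2 : ⁅⁅s, t⁆, r⁆ ∈ Subgroup.lowerCentralSeries S 2 := Subgroup.commutator_mem_commutator h1 hr
  rw [hcl, Subgroup.mem_bot, commutatorElement_eq_one_iff_mul_comm] at h2
  exact h2.symm

theorem isPConstrained_of_isSolvable [Group.IsSolvable G] (p : ℕ) [Fact p.Prime] : IsPConstrained p G := by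
  rw [H2.PCons.pc_iff_quotient]
  have : Group.IsSolvable (G ⧸ pPrimeCore p G) := inferInstance
  exact H1.Hall.centralizer_pCore_le p (H11.Cores.pPrimeCore_quotient p)

theorem cls_constrained {S : Subgroup G} (hS : IsSylIn 2 S ⊤) (hcl : Cls2 S) (hcon : IsPConstrained 2 G)
    (hS4 : ¬ Involves (Equiv.Perm (Fin 4)) G) :
    normalizer ((JJ 2 S : Subgroup G) : Set G) ⊔ pPrimeCore 2 G = ⊤ := by
  have : Fact (Nat.Prime 2) := ⟨Nat.prime_two⟩
  have hKc : (Nat.card (pPrimeCore 2 G)).Coprime 2 := H11.Cores.pPrimeCore_coprime 2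
  set K := pPrimeCore 2 G with hK
  set π := QuotientGroup.mk' K with hπ
  have hsurj : Function.Surjective π := QuotientGroup.mk'_surjective K
  have hinj : ∀ x ∈ S, π x = 1 → x = 1 := by
    intro x hx h1
    rw [hπ, QuotientGroup.mk'_apply, QuotientGroup.eq_one_iff] at h1
    exact H13.Sec.inf_eq_bot_of_coprime hKc hS.2.1 h1 hx
  have hSπ : IsSylIn 2 (S.map π) ⊤ := H13.Sec.isSylIn_map_surj π hsurj hS
  have hJ : (JJ 2 (S.map π)).Normal := by
    apply J_normal_of_le hSπ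
    intro A hA
    refine cls_final hSπ ?_ (H2.PCons.pc_iff_quotient.1 hcon)
      (fun h => hS4 (H13.Sec.involves_trans h (H13.Sec.involves_quotient K))) hA
    rintro _ ⟨s, hs, rfl⟩ _ ⟨t, ht, rfl⟩ _ ⟨r, hr, rfl⟩
    have := congrArg π (hcl s hs t ht r hr)
    simpa using this
  rw [JJ_map hinj] at hJ
  have hN : ((JJ 2 S) ⊔ K).Normal := by
    have h1 : ((JJ 2 S).map π).comap π = JJ 2 S ⊔ K := by
      rw [Subgroup.comap_map_eq, hπ, QuotientGroup.ker_mk']
    rw [← h1]
    exact hJ.comap π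
  have hJp : IsPGroup 2 (JJ 2 S) := hS.2.1.to_le (JJ_le 2 S)
  have hSyl : IsSylIn 2 (JJ 2 S) (JJ 2 S ⊔ K) := by
    refine ⟨le_sup_left, hJp, ?_⟩
    have h1 : (JJ 2 S).relIndex (JJ 2 S ⊔ K) = (JJ 2 S).relIndex K :=
      H2.Card.relIndex_sup_left_of_le_normalizer (by rw [Subgroup.normalizer_eq_top K]; exact le_top)
    rw [h1]
    intro h2
    have h3 : (JJ 2 S).relIndex K ∣ Nat.card K := Subgroup.relIndex_dvd_card _ _
    exact (Nat.Prime.coprime_iff_not_dvd Nat.prime_two).1 hKc.symm (h2.trans h3)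
  rw [eq_top_iff]
  intro g _
  obtain ⟨n, hn, m, hm, rfl⟩ := hSyl.frattini (H := ⊤) le_top (by rw [Subgroup.normalizer_eq_top]) (g := g) trivial
  have h1 : JJ 2 S ⊔ K ≤ normalizer ((JJ 2 S : Subgroup G) : Set G) ⊔ K :=
    sup_le_sup_right Subgroup.le_normalizer _
  exact Subgroup.mul_mem _ (h1 hn) ((le_sup_left : _ ≤ _ ⊔ K) hm.2)

end cls

end Cfsg.Agent.H18.Off
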