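import Mathlib

/-!
Monomial matrices over the `p`-th roots of unity in `GL(p, F)`: the Sylow `p`-subgroup.
-/

set_option autoImplicit false
set_option linter.all false

open Matrix
open scoped Pointwise

namespace Cfsg.Agent.H18.RS

variable {F : Type*} [Field F] {p : ℕ} [hpf : Fact p.Prime]

instance nzp : NeZero p := ⟨hpf.out.ne_zero⟩

/-- monomial matrices -/
def MM (a : Fin p → F) (j : Fin p) : Matrix (Fin p) (Fin p) F := fun i k => if k = i - j then a i else 0

theorem mul_MM (A : Matrix (Fin p) (Fin p) F) (b : Fin p → F) (l i k : Fin p) :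
    (A * MM b l) i k = A i (k + l) * b (k + l) := by
  rw [Matrix.mul_apply, Finset.sum_eq_single (k + l)]
  · rw [MM, if_pos (by abel)]
  · intro m _ hm
    rw [MM, if_neg, mul_zero]
    intro h
    exact hm (by rw [h]; abel)
  · intro h; exact (h (Finset.mem_univ _)).elim

theorem MM_mul (A : Matrix (Fin p) (Fin p) F) (a : Fin p → F) (j i k : Fin p) :
    (MM a j * A) i k = a i * A (i - j) k := by
  rw [Matrix.mul_apply, Finset.sum_eq_single (i - j)]
  · rw [MM, if_pos rfl]
  · intro m _ hm
    rw [MM, if_neg hm, zero_mul]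
  · intro h; exact (h (Finset.mem_univ _)).elim

theorem MM_mul_MM (a b : Fin p → F) (j l : Fin p) : MM a j * MM b l = MM (fun i => a i * b (i - j)) (j + l) := by
  ext i k
  rw [MM_mul, MM, MM]
  by_cases h : k = i - j - l
  · rw [if_pos h, if_pos (by rw [h]; abel)]
  · rw [if_neg h, if_neg (by intro h2; exact h (by rw [h2]; abel)), mul_zero]

theorem MM_one : MM (fun _ => (1 : F)) (0 : Fin p) = 1 := by
  ext i k
  rw [MM, Matrix.one_apply, sub_zero]
  by_cases h : i = k
  · rw [if_pos h, if_pos h.symm]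
  · rw [if_neg h, if_neg (fun h2 => h h2.symm)]

/-- monomial elements of `GL` -/
def mm (a : Fin p → Fˣ) (j : Fin p) : GL (Fin p) F where
  val := MM (fun i => (a i : F)) j
  inv := MM (fun i => ((a (i + j))⁻¹ : Fˣ)) (-j)
  val_inv := by
    rw [MM_mul_MM, add_neg_cancel, ← MM_one]
    congr 1
    ext i
    rw [sub_add_cancel]
    exact Units.mul_inv _
  inv_val := by
    rw [MM_mul_MM, neg_add_cancel, ← MM_one]
    congr 1
    ext i
    rw [sub_neg_eq_add]
    exact Units.inv_mul _

theorem mm_val (a : Fin p → Fˣ) (j : Fin p) : (mm a j : GL (Fin p) F).1 = MM (fun i => (a i : F)) j := rfl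

theorem mm_mul (a b : Fin p → Fˣ) (j l : Fin p) : mm a j * mm b l = mm (fun i => a i * b (i - j)) (j + l) := by
  apply Units.ext
  rw [Units.val_mul, mm_val, mm_val, mm_val, MM_mul_MM]
  rfl

theorem mm_one : mm (fun _ => (1 : Fˣ)) (0 : Fin p) = 1 := by
  apply Units.ext
  rw [mm_val]
  exact MM_one

theorem mm_inj {a b : Fin p → Fˣ} {j l : Fin p} (h : mm a j = mm b l) : a = b ∧ j = l := by
  have h1 : MM (fun i => (a i : F)) j = MM (fun i => (b i : F)) l := congrArg Units.val h
  have hjl : j = l := by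
    have h2 := congrFun (congrFun h1 0) (0 - j)
    rw [MM, MM, if_pos rfl] at h2
    by_contra hne
    rw [if_neg (by
      intro h3
      apply hne
      rw [zero_sub, zero_sub] at h3
      exact neg_injective h3)] at h2
    exact (a 0).ne_zero h2
  refine ⟨?_, hjl⟩
  subst hjl
  ext i
  have h2 := congrFun (congrFun h1 i) (i - j)
  rw [MM, MM, if_pos rfl, if_pos rfl] at h2
  exact h2

/-- the monomial `p`-subgroup -/
def M (F : Type*) [Field F] (p : ℕ) [hpf : Fact p.Prime] : Subgroup (GL (Fin p) F) where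
  carrier := {g | ∃ (a : Fin p → Fˣ) (j : Fin p), (∀ i, a i ^ p = 1) ∧ g = mm a j}
  one_mem' := ⟨fun _ => 1, 0, fun _ => one_pow _, mm_one.symm⟩
  mul_mem' := by
    rintro _ _ ⟨a, j, ha, rfl⟩ ⟨b, l, hb, rfl⟩
    exact ⟨_, _, fun i => by rw [mul_pow, ha, hb, one_mul], mm_mul a b j l⟩
  inv_mem' := by
    rintro _ ⟨a, j, ha, rfl⟩
    refine ⟨fun i => (a (i + j))⁻¹, -j, fun i => by rw [inv_pow, ha, inv_one], ?_⟩
    apply Units.ext
    rfl

theorem mem_M {g : GL (Fin p) F} : g ∈ M F p ↔ ∃ (a : Fin p → Fˣ) (j : Fin p), (∀ i, a i ^ p = 1) ∧ g = mm a j :=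
  Iff.rfl

theorem card_M [Finite F] {ω : F} (hω : IsPrimitiveRoot ω p) : Nat.card (M F p) = p ^ (p + 1) := by
  classical
  have e : (Fin p → rootsOfUnity p F) × Fin p ≃ M F p :=
    Equiv.ofBijective (fun x => ⟨mm (fun i => (x.1 i : Fˣ)) x.2, _, _, fun i => (x.1 i).2, rfl⟩) (by
      constructor
      · rintro ⟨a, j⟩ ⟨b, l⟩ h
        have h1 := mm_inj (congrArg Subtype.val h)
        refine Prod.ext ?_ h1.2
        ext i : 1
        exact Subtype.ext (congrFun h1.1 i)
      · rintro ⟨g, a, j, ha, rfl⟩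
        exact ⟨(fun i => ⟨a i, ha i⟩, j), rfl⟩)
  haveI : Fintype F := Fintype.ofFinite F
  have hr : Nat.card (rootsOfUnity p F) = p := hω.card_rootsOfUnity
  rw [← Nat.card_congr e, Nat.card_prod, Nat.card_fun, hr, Nat.card_fin, pow_succ]

/-- the key lemma: a matrix with a column with two nonzero entries does not normalise `M` -/
theorem not_normalises {ω : F} (hω : IsPrimitiveRoot ω p) (hp3 : 3 ≤ p) {g : GL (Fin p) F} {k i1 i2 : Fin p}
    (hi : i1 ≠ i2) (h1 : g.1 i1 k ≠ 0) (h2 : g.1 i2 k ≠ 0) (hn : ∀ d ∈ M F p, g * d * g⁻¹ ∈ M F p) : False := by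
  classical
  have hω0 : ω ≠ 0 := hω.ne_zero hpf.out.ne_zero
  have hω1 : ω - 1 ≠ 0 := sub_ne_zero.2 (hω.ne_one hpf.out.one_lt)
  let δ : Fin p → Fˣ := fun i => if i = k then Units.mk0 ω hω0 else 1
  have hδ : mm δ 0 ∈ M F p := by
    refine ⟨δ, 0, fun i => ?_, rfl⟩
    by_cases h : i = k
    · simp only [δ, if_pos h]
      apply Units.ext
      rw [Units.val_pow_eq_pow_val, Units.val_mk0, hω.pow_eq_one, Units.val_one]
    · simp only [δ, if_neg h, one_pow]
  obtain ⟨b, j, hb, hz⟩ := hn _ hδ
  -- entries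
  have hent : ∀ i m, (if m = i - j then (b i : F) else 0) = (if i = m then 1 else 0) + g.1 i k * (ω - 1) * (g⁻¹).1 k m := by
    intro i m
    have e1 : (g * mm δ 0 * g⁻¹).1 i m = (if m = i - j then (b i : F) else 0) := by
      rw [hz, mm_val, MM]
    rw [← e1, Units.val_mul, Matrix.mul_apply]
    have e2 : ∀ l, (g * mm δ 0).1 i l = g.1 i l + g.1 i l * (if l = k then ω - 1 else 0) := by
      intro l
      rw [Units.val_mul, mm_val, mul_MM, add_zero]
      by_cases h : l = k
      · simp only [δ, if_pos h, Units.val_mk0]; ring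
      · simp only [δ, if_neg h, Units.val_one]; ring
    simp_rw [e2, add_mul]
    rw [Finset.sum_add_distrib]
    have e3 : ∑ l, g.1 i l * (g⁻¹).1 l m = if i = m then 1 else 0 := by
      rw [← Matrix.mul_apply, ← Units.val_mul, mul_inv_cancel, Units.val_one, Matrix.one_apply]
    have e4 : ∑ l, g.1 i l * (if l = k then ω - 1 else 0) * (g⁻¹).1 l m = g.1 i k * (ω - 1) * (g⁻¹).1 k m := by
      rw [Finset.sum_eq_single k]
      · rw [if_pos rfl]
      · intro l _ hl
        rw [if_neg hl, mul_zero, zero_mul]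
      · intro h; exact (h (Finset.mem_univ _)).elim
    rw [e3, e4]
  by_cases hj : j = 0
  · -- diagonal
    obtain ⟨m, hm⟩ : ∃ m, (g⁻¹).1 k m ≠ 0 := by
      by_contra hcon
      push Not at hcon
      have : ∑ m, (g⁻¹).1 k m * g.1 m k = 1 := by
        rw [← Matrix.mul_apply, ← Units.val_mul, inv_mul_cancel, Units.val_one, Matrix.one_apply_eq]
      rw [Finset.sum_eq_zero (fun m _ => by rw [hcon m, zero_mul])] at this
      exact zero_ne_one this
    have hoff : ∀ i, i ≠ m → g.1 i k = 0 := by
      intro i him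
      have h3 := hent i m
      rw [hj, sub_zero, if_neg (fun h => him h.symm), if_neg him, zero_add] at h3
      rcases mul_eq_zero.1 h3.symm with h4 | h4
      · rcases mul_eq_zero.1 h4 with h5 | h5
        · exact h5
        · exact (hω1 h5).elim
      · exact (hm h4).elim
    by_cases h3 : i1 = m
    · exact h2 (hoff i2 (fun h => hi (h3.trans h.symm)))
    · exact h1 (hoff i1 h3)
  · -- nondiagonal
    have hdiag : ∀ i, g.1 i k * (ω - 1) * (g⁻¹).1 k i = -1 := by
      intro i
      have h3 := hent i i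
      rw [if_neg (by
        intro h
        apply hj
        have : i - (i - j) = 0 := by rw [← h]; exact sub_self _
        rwa [sub_sub_cancel] at this), if_pos rfl] at h3
      linear_combination -h3
    have hg : ∀ i, g.1 i k ≠ 0 := by
      intro i h
      have := hdiag i
      rw [h, zero_mul, zero_mul] at this
      exact one_ne_zero (neg_eq_zero.1 this.symm)
    have hg' : ∀ i, (g⁻¹).1 k i ≠ 0 := by
      intro i h
      have := hdiag i
      rw [h, mul_zero] at this
      exact one_ne_zero (neg_eq_zero.1 this.symm)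
    obtain ⟨m, hm⟩ : ∃ m : Fin p, m ∉ ({0, 0 - j} : Finset (Fin p)) := by
      by_contra hcon
      push Not at hcon
      have h3 : (Finset.univ : Finset (Fin p)) ⊆ {0, 0 - j} := fun m _ => hcon m
      have h4 := (Finset.card_le_card h3).trans Finset.card_le_two
      rw [Finset.card_univ, Fintype.card_fin] at h4
      omega
    rw [Finset.mem_insert, Finset.mem_singleton, not_or] at hm
    have h3 := hent 0 m
    rw [if_neg hm.2, if_neg (fun h => hm.1 h.symm), zero_add] at h3
    rcases mul_eq_zero.1 h3.symm with h4 | h4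
    · rcases mul_eq_zero.1 h4 with h5 | h5
      · exact hg 0 h5
      · exact hω1 h5
    · exact hg' m h4

end Cfsg.Agent.H18.RS
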