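import Mathlib
import Cfsg.Agent.H18_RS1

/-!
`GL(p, F)` has redundant Sylow `p`-subgroups when `p` divides `|F| - 1` exactly once, `p` odd.
-/

set_option autoImplicit false
set_option linter.all false

open Matrix
open scoped Pointwise

namespace Cfsg.Agent.H18.RS

variable {F : Type*} [Field F] {p : ℕ} [hpf : Fact p.Prime]

theorem factorization_card [Fintype F] (hp : p ≠ 2) (h1 : p ∣ Fintype.card F - 1)
    (h2 : ¬ p ^ 2 ∣ Fintype.card F - 1) :
    (Nat.card (GL (Fin p) F)).factorization p = p + 1 := by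
  classical
  set q := Fintype.card F with hq
  have hq1 : 1 < q := Fintype.one_lt_card
  have hpq : ¬ p ∣ q := by
    intro h
    have h3 : p ∣ q - (q - 1) := Nat.dvd_sub h h1
    have h4 : q - (q - 1) = 1 := by omega
    rw [h4] at h3
    exact hpf.out.one_lt.ne' (Nat.dvd_one.1 h3)
  have hodd : Odd p := hpf.out.odd_of_ne_two hp
  have hv1 : padicValNat p (q - 1) = 1 := by
    have h3 : padicValNat p (q - 1) < 2 := by
      by_contra hcon
      push Not at hcon
      exact h2 ((padicValNat_dvd_iff_le (by omega)).2 hcon)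
    have h4 : 1 ≤ padicValNat p (q - 1) := one_le_padicValNat_of_dvd (by omega) h1
    omega
  have hterm : ∀ i : Fin p, (q ^ p - q ^ (i : ℕ)).factorization p = 1 + (if i = 0 then 1 else 0) := by
    intro i
    have hi := i.2
    have e1 : q ^ p - q ^ (i : ℕ) = q ^ (i : ℕ) * (q ^ (p - i) - 1) := by
      rw [Nat.mul_sub, mul_one, ← pow_add]
      congr 2
      omega
    have hpos : 1 < q ^ (p - (i : ℕ)) := Nat.one_lt_pow (by omega) hq1
    rw [e1, Nat.factorization_mul (by positivity) (by omega), Finsupp.add_apply, Nat.factorization_pow,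
      Finsupp.smul_apply, Nat.factorization_eq_zero_of_not_dvd hpq, smul_zero, zero_add,
      Nat.factorization_def _ hpf.out]
    have e2 := padicValNat.pow_sub_pow (p := p) hodd (x := q) (y := 1) hq1 h1 hpq (n := p - i) (by omega)
    rw [one_pow, hv1] at e2
    rw [e2]
    congr 1
    by_cases h0 : i = 0
    · rw [if_pos h0]
      have : (i : ℕ) = 0 := by rw [h0]; rfl
      rw [this, Nat.sub_zero]
      exact padicValNat_self
    · rw [if_neg h0]
      have : (i : ℕ) ≠ 0 := by
        intro h; exact h0 (Fin.ext h)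
      apply padicValNat.eq_zero_of_not_dvd
      intro hd
      have := Nat.le_of_dvd (by omega) hd
      omega
  have hcard : Nat.card (GL (Fin p) F) = ∏ i : Fin p, (q ^ p - q ^ (i : ℕ)) := by
    rw [Matrix.card_GL_field]
  rw [hcard, Nat.factorization_prod]
  · rw [Finsupp.finset_sum_apply, Finset.sum_congr rfl (fun i _ => hterm i), Finset.sum_add_distrib,
      Finset.sum_const, Finset.card_univ, Fintype.card_fin, smul_eq_mul, mul_one,
      Finset.sum_ite_eq' Finset.univ (0 : Fin p), if_pos (Finset.mem_univ _)]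
  · intro i _
    have := Nat.pow_lt_pow_right hq1 i.2
    omega

theorem mm_pow {a : Fin p → Fˣ} {j : Fin p} (ha : ∀ i, a i ^ p = 1) (t : ℕ) :
    ∃ b : Fin p → Fˣ, (∀ i, b i ^ p = 1) ∧ (mm a j : GL (Fin p) F) ^ t = mm b (t • j) := by
  induction t with
  | zero => exact ⟨fun _ => 1, fun _ => one_pow _, by rw [pow_zero, zero_nsmul, mm_one]⟩
  | succ t ih =>
    obtain ⟨b, hb, hbe⟩ := ih
    refine ⟨_, fun i => ?_, by rw [pow_succ, hbe, mm_mul, succ_nsmul]⟩
    rw [mul_pow, hb, ha, one_mul]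

theorem card_smul (j : Fin p) : p • j = 0 := by
  have := card_nsmul_eq_zero (x := j)
  rwa [Fintype.card_fin] at this

theorem smul_inj {j : Fin p} (hj : j ≠ 0) {s t : ℕ} (hs : s < p) (ht : t < p) (h : s • j = t • j) : s = t := by
  have ho : addOrderOf j = p := by
    have h1 : addOrderOf j ∣ p := addOrderOf_dvd_of_nsmul_eq_zero (card_smul j)
    rcases (Nat.dvd_prime hpf.out).1 h1 with h2 | h2
    · exact (hj (AddMonoid.addOrderOf_eq_one_iff.1 h2)).elim
    · exact h2
  have := nsmul_inj_mod.1 h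
  rw [ho, Nat.mod_eq_of_lt hs, Nat.mod_eq_of_lt ht] at this
  exact this

theorem pow_p {a : Fin p → Fˣ} {j : Fin p} (ha : ∀ i, a i ^ p = 1) (hj : j ≠ 0) :
    ∃ ζ : Fˣ, ζ ^ p = 1 ∧ (mm a j : GL (Fin p) F) ^ p = mm (fun _ => ζ) 0 := by
  obtain ⟨b, hb, hbe⟩ := mm_pow (F := F) (a := a) (j := j) ha p
  rw [card_smul] at hbe
  have hcomm : mm a j * mm b 0 = mm b 0 * mm a j := by
    rw [← hbe, ← pow_succ', ← pow_succ]
  rw [mm_mul, mm_mul] at hcomm
  have h1 := (mm_inj hcomm).1
  have h2 : ∀ i, b (i - j) = b i := by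
    intro i
    have := congrFun h1 i
    simp only [sub_zero] at this
    rw [mul_comm (b i)] at this
    exact mul_left_cancel this
  have h3 : ∀ n : ℕ, b (n • j) = b 0 := by
    intro n
    induction n with
    | zero => rw [zero_nsmul]
    | succ n ih =>
      have := h2 ((n + 1) • j)
      rw [succ_nsmul, add_sub_cancel_right, ih] at this
      rw [succ_nsmul]; exact this.symm
  have h4 : ∀ i, b i = b 0 := by
    intro i
    obtain ⟨n, hn⟩ := mem_multiples_of_prime_card (p := p) (g := j) (g' := i) (by rw [Nat.card_fin]) hj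
    have hn' : n • j = i := hn
    rw [← hn']; exact h3 n
  refine ⟨b 0, hb 0, ?_⟩
  rw [hbe]
  congr 1
  ext i : 1
  exact h4 i

theorem MM_const_mulVec (ζ : F) (v : Fin p → F) : MM (fun _ => ζ) (0 : Fin p) *ᵥ v = ζ • v := by
  ext i
  rw [Matrix.mulVec, dotProduct, Finset.sum_eq_single i]
  · rw [MM, sub_zero, if_pos rfl]; rfl
  · intro k _ hk
    rw [MM, sub_zero, if_neg hk, zero_mul]
  · intro h; exact (h (Finset.mem_univ _)).elim

def Good (x : GL (Fin p) F) : Prop :=
  ∃ g : GL (Fin p) F, g⁻¹ * x * g ∈ M F p ∧ ∃ k i1 i2 : Fin p, i1 ≠ i2 ∧ g.1 i1 k ≠ 0 ∧ g.1 i2 k ≠ 0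

theorem good_of_comm {x g : GL (Fin p) F} (hx : x ∈ M F p) (hc : x * g = g * x) {k i1 i2 : Fin p}
    (hi : i1 ≠ i2) (h1 : g.1 i1 k ≠ 0) (h2 : g.1 i2 k ≠ 0) : Good x := by
  refine ⟨g, ?_, k, i1, i2, hi, h1, h2⟩
  rw [mul_assoc, hc, inv_mul_cancel_left]
  exact hx

/-- case `x^p ≠ 1` -/
theorem good_a1 {a : Fin p → Fˣ} {j : Fin p} (hp : p ≠ 2) (ha : ∀ i, a i ^ p = 1) (hj : j ≠ 0)
    (hne : (mm a j : GL (Fin p) F) ^ p ≠ 1) : Good (mm a j : GL (Fin p) F) := by
  classical
  obtain ⟨ζ, hζ, hx⟩ := pow_p (F := F) ha hj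
  have hodd : Odd p := hpf.out.odd_of_ne_two hp
  have hζ1 : ζ ≠ 1 := by
    intro h
    apply hne
    rw [hx, h, mm_one]
  have hdet : (1 + MM (fun i => (a i : F)) j).det ≠ 0 := by
    intro h0
    obtain ⟨v, hv0, hv⟩ := Matrix.exists_mulVec_eq_zero_iff.2 h0
    rw [Matrix.add_mulVec, Matrix.one_mulVec] at hv
    have hxv : (mm a j : GL (Fin p) F).1 *ᵥ v = -v := by
      rw [mm_val]
      exact eq_neg_of_add_eq_zero_right hv
    have hpow : ∀ t : ℕ, ((mm a j : GL (Fin p) F) ^ t).1 *ᵥ v = (-1 : F) ^ t • v := by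
      intro t
      induction t with
      | zero => rw [pow_zero, pow_zero, Units.val_one, Matrix.one_mulVec, one_smul]
      | succ t ih =>
        rw [pow_succ, Units.val_mul, ← Matrix.mulVec_mulVec, hxv, Matrix.mulVec_neg, ih, pow_succ, mul_neg_one,
          neg_smul]
    have h3 := hpow p
    rw [hx, mm_val, MM_const_mulVec, hodd.neg_one_pow] at h3
    have h4 : ((ζ : F) + 1) • v = 0 := by
      rw [add_smul, h3, one_smul, neg_smul, one_smul, neg_add_cancel]
    have h5 : (ζ : F) + 1 = 0 := by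
      by_contra h6
      exact hv0 ((smul_eq_zero_iff_right h6).1 h4)
    have h6 : (ζ : F) = -1 := eq_neg_of_add_eq_zero_left h5
    have h7 : (ζ : F) ^ p = 1 := by
      rw [← Units.val_pow_eq_pow_val, hζ, Units.val_one]
    rw [h6, hodd.neg_one_pow] at h7
    apply hζ1
    apply Units.ext
    rw [h6, h7, Units.val_one]
  let g : GL (Fin p) F := Matrix.GeneralLinearGroup.mkOfDetNeZero _ hdet
  have hg : g.1 = 1 + MM (fun i => (a i : F)) j := rfl
  have hjj : (MM (fun i => (a i : F)) j) j 0 = a j := by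
    rw [MM, if_pos (sub_self j).symm]
  have h00 : (MM (fun i => (a i : F)) j) 0 0 = 0 := by
    rw [MM, if_neg]
    intro h
    rw [zero_sub] at h
    exact hj (neg_eq_zero.1 h.symm)
  refine good_of_comm (g := g) ⟨a, j, ha, rfl⟩ ?_ (k := 0) (i1 := 0) (i2 := j) hj.symm ?_ ?_
  · apply Units.ext
    rw [Units.val_mul, Units.val_mul, hg, mm_val, mul_add, add_mul, mul_one, one_mul]
  · rw [hg, Matrix.add_apply, Matrix.one_apply_eq, h00, add_zero]
    exact one_ne_zero
  · rw [hg, Matrix.add_apply, Matrix.one_apply_ne hj, hjj, zero_add]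
    exact (a j).ne_zero

/-- case `x^p = 1` -/
theorem good_a2 {a : Fin p → Fˣ} {j : Fin p} {ω : F} (hω : IsPrimitiveRoot ω p) (hpF : (p : F) ≠ 0)
    (hp3 : 3 ≤ p) (ha : ∀ i, a i ^ p = 1) (hj : j ≠ 0)
    (he : (mm a j : GL (Fin p) F) ^ p = 1) : Good (mm a j : GL (Fin p) F) := by
  classical
  set x : GL (Fin p) F := mm a j with hx
  have hω0 : ω ≠ 0 := hω.ne_zero hpf.out.ne_zero
  have hω1 : ω - 1 ≠ 0 := sub_ne_zero.2 (hω.ne_one hpf.out.one_lt)
  set S : Matrix (Fin p) (Fin p) F := ∑ t ∈ Finset.range p, x.1 ^ t with hS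
  have hxp : x.1 ^ p = 1 := by
    rw [← Units.val_pow_eq_pow_val, he, Units.val_one]
  have hxS : x.1 * S = S := by
    have h1 := mul_neg_geom_sum x.1 p
    rw [hxp, sub_self] at h1
    rw [sub_mul, one_mul, sub_eq_zero] at h1
    exact h1.symm
  have hSx : S * x.1 = S := by
    have h1 := geom_sum_mul_neg x.1 p
    rw [hxp, sub_self, mul_sub, mul_one, sub_eq_zero] at h1
    exact h1.symm
  have hxtS : ∀ t : ℕ, x.1 ^ t * S = S := by
    intro t
    induction t with
    | zero => rw [pow_zero, one_mul]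
    | succ t ih => rw [pow_succ, mul_assoc, hxS, ih]
  have hSS : S * S = (p : F) • S := by
    conv_lhs => rw [hS, Finset.sum_mul]
    rw [Finset.sum_congr rfl (fun t _ => hxtS t), Finset.sum_const, Finset.card_range, Nat.cast_smul_eq_nsmul]
  set E : Matrix (Fin p) (Fin p) F := (p : F)⁻¹ • S with hE
  have hEE : E * E = E := by
    rw [hE, smul_mul_smul_comm, hSS, smul_smul]
    congr 1
    field_simp
  have hprod : ∀ α β : F, α + β + α * β = 0 → (1 + α • E) * (1 + β • E) = 1 := by
    intro α β h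
    have : (1 + α • E) * (1 + β • E) = 1 + (α + β + α * β) • E := by
      rw [mul_add, mul_one, add_mul, one_mul, smul_mul_smul_comm, hEE, add_smul, add_smul]
      abel
    rw [this, h, zero_smul, add_zero]
  let g : GL (Fin p) F :=
    { val := 1 + (ω - 1) • E
      inv := 1 + (ω⁻¹ - 1) • E
      val_inv := hprod _ _ (by field_simp; ring)
      inv_val := hprod _ _ (by field_simp; ring) }
  have hg : g.1 = 1 + (ω - 1) • E := rfl
  have hent : ∀ t0 : ℕ, t0 < p → S (t0 • j) 0 ≠ 0 := by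
    intro t0 ht0
    rw [hS, Matrix.sum_apply, Finset.sum_eq_single t0]
    · obtain ⟨b, hb, hbe⟩ := mm_pow (F := F) (a := a) (j := j) ha t0
      rw [← Units.val_pow_eq_pow_val, hbe, mm_val, MM, if_pos (sub_self _).symm]
      exact (b _).ne_zero
    · intro t ht hne
      obtain ⟨b, hb, hbe⟩ := mm_pow (F := F) (a := a) (j := j) ha t
      rw [← Units.val_pow_eq_pow_val, hbe, mm_val, MM, if_neg]
      intro h
      exact hne (smul_inj hj (Finset.mem_range.1 ht) ht0 (sub_eq_zero.1 h.symm).symm)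
    · intro h
      exact (h (Finset.mem_range.2 ht0)).elim
  have h1j : (1 : ℕ) • j ≠ 0 := by rw [one_nsmul]; exact hj
  have h2j : (2 : ℕ) • j ≠ 0 := by
    intro h
    have := smul_inj hj (s := 2) (t := 0) (by omega) (by omega) (by rw [h, zero_nsmul])
    omega
  have h12 : (1 : ℕ) • j ≠ (2 : ℕ) • j := by
    intro h
    have := smul_inj hj (s := 1) (t := 2) (by omega) (by omega) h
    omega
  refine good_of_comm (g := g) ⟨a, j, ha, rfl⟩ ?_ (k := 0) h12 ?_ ?_
  · apply Units.ext
    rw [Units.val_mul, Units.val_mul, hg, mul_add, add_mul, mul_one, one_mul, hE, smul_smul, mul_smul_comm,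
      smul_mul_assoc, hxS, hSx]
  · rw [hg, Matrix.add_apply, Matrix.one_apply_ne h1j, zero_add, Matrix.smul_apply, hE, Matrix.smul_apply]
    exact smul_ne_zero hω1 (smul_ne_zero (inv_ne_zero hpF) (hent 1 (by omega)))
  · rw [hg, Matrix.add_apply, Matrix.one_apply_ne h2j, zero_add, Matrix.smul_apply, hE, Matrix.smul_apply]
    exact smul_ne_zero hω1 (smul_ne_zero (inv_ne_zero hpF) (hent 2 (by omega)))

/-- diagonal with a repeated entry -/
theorem good_b1 {a : Fin p → Fˣ} (ha : ∀ i, a i ^ p = 1) {i k : Fin p} (hik : i ≠ k) (he : a i = a k) :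
    Good (mm a 0 : GL (Fin p) F) := by
  classical
  have hT : Matrix.single i k (1 : F) * Matrix.single i k (1 : F) = 0 :=
    Matrix.single_mul_single_of_ne _ _ _ _ hik.symm _
  let g : GL (Fin p) F :=
    { val := 1 + Matrix.single i k 1
      inv := 1 - Matrix.single i k 1
      val_inv := by rw [mul_sub, mul_one, add_mul, one_mul, hT]; abel
      inv_val := by rw [mul_add, mul_one, sub_mul, one_mul, hT]; abel }
  have hg : g.1 = 1 + Matrix.single i k 1 := rfl
  refine good_of_comm (g := g) ⟨a, 0, ha, rfl⟩ ?_ (k := k) hik ?_ ?_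
  · apply Units.ext
    rw [Units.val_mul, Units.val_mul, hg, mm_val, mul_add, add_mul, mul_one, one_mul]
    congr 1
    ext s t
    rw [MM_mul, mul_MM, sub_zero, add_zero]
    by_cases h : s = i ∧ t = k
    · rw [h.1, h.2, he, mul_comm]
    · rw [Matrix.single_apply, if_neg (fun h2 => h ⟨h2.1.symm, h2.2.symm⟩), mul_zero, zero_mul]
  · rw [hg, Matrix.add_apply, Matrix.one_apply_ne hik, Matrix.single_apply_same, zero_add]
    exact one_ne_zero
  · rw [hg, Matrix.add_apply, Matrix.one_apply_eq, Matrix.single_apply, if_neg (fun h => hik h.1), add_zero]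
    exact one_ne_zero

/-- diagonal with distinct entries -/
theorem good_b2 {a : Fin p → Fˣ} (ha : ∀ i, a i ^ p = 1) (hinj : Function.Injective a) :
    Good (mm a 0 : GL (Fin p) F) := by
  classical
  have hdet : (Matrix.vandermonde (fun i => (a i : F))).det ≠ 0 := by
    rw [Matrix.det_vandermonde_ne_zero_iff]
    intro i k h
    exact hinj (Units.ext h)
  let g : GL (Fin p) F := Matrix.GeneralLinearGroup.mkOfDetNeZero _ hdet
  have hg : g.1 = Matrix.vandermonde (fun i => (a i : F)) := rfl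
  have h01 : (0 : Fin p) ≠ 1 := by
    intro h
    have h2 := congrArg Fin.val h
    rw [Fin.val_one', Nat.mod_eq_of_lt hpf.out.one_lt] at h2
    exact zero_ne_one (h2 : 0 = 1)
  have hap : ∀ i, (a i : F) ^ p = 1 := by
    intro i
    rw [← Units.val_pow_eq_pow_val, ha, Units.val_one]
  have hrel : mm a 0 * g = g * mm (fun _ => 1) 1 := by
    apply Units.ext
    rw [Units.val_mul, Units.val_mul, mm_val, mm_val, hg]
    ext i k
    rw [MM_mul, mul_MM, sub_zero, Matrix.vandermonde_apply, Matrix.vandermonde_apply, Units.val_one, mul_one]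
    have e1 : ((k + 1 : Fin p) : ℕ) = (k + 1) % p := by
      rw [Fin.val_add, Fin.val_one']
      rw [Nat.add_mod_mod]
    rw [e1, ← pow_succ']
    exact pow_eq_pow_mod (k + 1) (hap i)
  refine ⟨g, ?_, 0, 0, 1, h01, ?_, ?_⟩
  · rw [mul_assoc, hrel, inv_mul_cancel_left]
    exact ⟨fun _ => 1, 1, fun _ => one_pow _, rfl⟩
  · rw [hg, Matrix.vandermonde_apply]
    exact pow_ne_zero _ (a 0).ne_zero
  · rw [hg, Matrix.vandermonde_apply]
    exact pow_ne_zero _ (a 1).ne_zero

theorem good [Fintype F] (hp : p ≠ 2) (h1 : p ∣ Fintype.card F - 1) {ω : F} (hω : IsPrimitiveRoot ω p)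
    {x : GL (Fin p) F} (hx : x ∈ M F p) : Good x := by
  classical
  have hp3 : 3 ≤ p := by
    have := hpf.out.two_le
    omega
  have hpF : (p : F) ≠ 0 := by
    intro h
    obtain ⟨c, hc⟩ := h1
    have h2 : Fintype.card F = p * c + 1 := by
      have := Fintype.card_pos (α := F)
      omega
    have h3 : ((Fintype.card F : ℕ) : F) = 0 := FiniteField.cast_card_eq_zero F
    rw [h2] at h3
    push_cast at h3
    rw [h, zero_mul, zero_add] at h3
    exact one_ne_zero h3
  obtain ⟨a, j, ha, rfl⟩ := hx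
  by_cases hj : j = 0
  · subst hj
    by_cases hinj : Function.Injective a
    · exact good_b2 ha hinj
    · rw [Function.Injective] at hinj
      push Not at hinj
      obtain ⟨i, k, he, hik⟩ := hinj
      exact good_b1 ha hik he
  · by_cases he : (mm a j : GL (Fin p) F) ^ p = 1
    · exact good_a2 hω hpF hp3 ha hj he
    · exact good_a1 hp ha hj he

theorem main [Fintype F] (hp : p ≠ 2) (h1 : p ∣ Fintype.card F - 1) (h2 : ¬ p ^ 2 ∣ Fintype.card F - 1) :
    ∃ Q : Sylow p (GL (Fin p) F), ∀ x : GL (Fin p) F,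
      (∃ k : ℕ, orderOf x = p ^ k) → ∃ P : Sylow p (GL (Fin p) F), P ≠ Q ∧ x ∈ P := by
  classical
  have hp3 : 3 ≤ p := by
    have := hpf.out.two_le
    omega
  -- primitive root
  obtain ⟨ω, hω⟩ : ∃ ω : F, IsPrimitiveRoot ω p := by
    have h3 : p ∣ Fintype.card Fˣ := by rw [Fintype.card_units]; exact h1
    obtain ⟨u, hu⟩ := exists_prime_orderOf_dvd_card p h3
    refine ⟨(u : F), ?_⟩
    rw [← hu]
    exact (IsPrimitiveRoot.orderOf u).map_of_injective (f := Units.coeHom F) Units.val_injective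
  let Q : Sylow p (GL (Fin p) F) := Sylow.ofCard (M F p) (by rw [card_M hω, factorization_card hp h1 h2])
  have hQ : ∀ x, x ∈ Q ↔ x ∈ M F p := fun x => Iff.rfl
  refine ⟨Q, fun x hx => ?_⟩
  by_cases hxQ : x ∈ Q
  · obtain ⟨g, hg, k, i1, i2, hi, h3, h4⟩ := good hp h1 hω ((hQ x).1 hxQ)
    refine ⟨g • Q, ?_, ?_⟩
    · intro he
      apply not_normalises hω hp3 hi h3 h4
      intro d hd
      rw [← hQ, ← he]
      have : g * d * g⁻¹ ∈ (g • Q : Sylow p (GL (Fin p) F)).1 := by
        rw [Sylow.coe_subgroup_smul]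
        exact Subgroup.smul_mem_pointwise_smul d (MulAut.conj g) _ ((hQ d).2 hd)
      exact this
    · have : x ∈ (g • Q : Sylow p (GL (Fin p) F)).1 := by
        rw [Sylow.coe_subgroup_smul]
        have h5 := Subgroup.smul_mem_pointwise_smul (g⁻¹ * x * g) (MulAut.conj g) (Q : Subgroup (GL (Fin p) F)) hg
        have e1 : MulAut.conj g • (g⁻¹ * x * g) = x := by
          change g * (g⁻¹ * x * g) * g⁻¹ = x
          group
        rwa [e1] at h5
      exact this
  · obtain ⟨k, hk⟩ := hx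
    have h3 : IsPGroup p (Subgroup.zpowers x) := IsPGroup.of_card (n := k) (by rw [Nat.card_zpowers, hk])
    obtain ⟨P, hP⟩ := h3.exists_le_sylow
    refine ⟨P, ?_, hP (Subgroup.mem_zpowers x)⟩
    intro he
    rw [he] at hP
    exact hxQ (hP (Subgroup.mem_zpowers x))

end Cfsg.Agent.H18.RS
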