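import Cfsg.Prelude.Def_PLocal
import Cfsg.Agent.H18_CD
import Cfsg.Agent.H17_Base2
import Cfsg.Agent.H2_PGroup

set_option autoImplicit false

/-!
Thompson's replacement theorem (abelian version).
-/

namespace Cfsg.Agent.H18.Replace

open Subgroup Cfsg Cfsg.Agent.H17.Base

universe u
variable {S : Type u} [Group S]

theorem comm_of {A : Subgroup S} (hA : IsMulCommutative A) {a b : S} (ha : a ∈ A) (hb : b ∈ A) : a * b = b * a := by
  haveI := hA
  exact congrArg Subtype.val (mul_comm' (⟨a, ha⟩ : A) ⟨b, hb⟩)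

theorem isMulCommutative_of {A : Subgroup S} (h : ∀ a ∈ A, ∀ b ∈ A, a * b = b * a) : IsMulCommutative A :=
  ⟨⟨fun a b => Subtype.ext (h a a.2 b b.2)⟩⟩

/-- a join of two commuting abelian subgroups is abelian -/
theorem isMulCommutative_sup {A B : Subgroup S} (hA : IsMulCommutative A) (hB : IsMulCommutative B)
    (h : ∀ a ∈ A, ∀ b ∈ B, a * b = b * a) : IsMulCommutative ↥(A ⊔ B) := by
  have h1 : A ⊔ B = closure ((A : Set S) ∪ B) := by rw [Subgroup.closure_union, closure_eq, closure_eq]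
  rw [h1]
  apply Subgroup.isMulCommutative_closure
  rintro a (ha | ha) b (hb | hb)
  · exact comm_of hA ha hb
  · exact h a ha b hb
  · exact (h b hb a ha).symm
  · exact comm_of hB ha hb

/-- the key computation: `|A| |M ∩ C(A)| ≤ |M| |C_A(M)|`. -/
theorem card_ineq [Finite S] {A M : Subgroup S} (hA : IsMulCommutative A) (hM : IsMulCommutative M) (x : S)
    (hMx : M = closure ((fun u => x⁻¹ * (u⁻¹ * x * u)) '' (A : Set S))) :
    Nat.card A * Nat.card ↥(M ⊓ centralizer (A : Set S)) ≤ Nat.card M * Nat.card ↥(A ⊓ centralizer (M : Set S)) := by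
  classical
  set f : S → S := fun u => x⁻¹ * (u⁻¹ * x * u) with hf
  have hfM : ∀ u ∈ A, f u ∈ M := by
    intro u hu
    rw [hMx]; exact subset_closure ⟨u, hu, rfl⟩
  -- the main implication
  have key : ∀ u ∈ A, ∀ v ∈ A, (f u)⁻¹ * f v ∈ centralizer (A : Set S) → v * u⁻¹ ∈ A ⊓ centralizer (M : Set S) := by
    intro u hu v hv hz
    set z := (f u)⁻¹ * f v with hzdef
    have hzM : z ∈ M := M.mul_mem (M.inv_mem (hfM u hu)) (hfM v hv)
    have hw : v * u⁻¹ ∈ A := A.mul_mem hv (A.inv_mem hu)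
    refine ⟨hw, ?_⟩
    set w₀ := v * u⁻¹ with hw₀
    rw [mem_centralizer_iff] at hz
    have h1 : u * z * u⁻¹ = f w₀ := by
      rw [hzdef, hw₀, hf]; group
    have h2 : f w₀ = z := by
      rw [← h1, hz u hu, mul_inv_cancel_right]
    have h3 : w₀⁻¹ * x * w₀ = x * z := by
      rw [← h2, hf]; group
    have hgen : ∀ w ∈ A, f w * w₀ = w₀ * f w := by
      intro w hwA
      have c1 : w * w₀ = w₀ * w := comm_of hA hwA hw
      have c2 : w * z = z * w := hz w hwA
      have c3 : z * f w = f w * z := comm_of hM hzM (hfM w hwA)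
      have e1 : w₀⁻¹ * f w * w₀ = (w₀⁻¹ * x * w₀)⁻¹ * (w⁻¹ * (w₀⁻¹ * x * w₀) * w) := by
        have e2 : w⁻¹ * (w₀⁻¹ * x * w₀) * w = (w₀ * w)⁻¹ * x * (w₀ * w) := by group
        rw [e2, ← c1, hf]; group
      have e3 : w₀⁻¹ * f w * w₀ = f w := by
        rw [e1, h3]
        have e4 : w⁻¹ * (x * z) * w = w⁻¹ * x * w * z := by
          calc w⁻¹ * (x * z) * w = w⁻¹ * x * (z * w) := by group
            _ = w⁻¹ * x * (w * z) := by rw [c2]
            _ = w⁻¹ * x * w * z := by group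
        rw [e4]
        calc (x * z)⁻¹ * (w⁻¹ * x * w * z) = z⁻¹ * (x⁻¹ * (w⁻¹ * x * w)) * z := by group
          _ = z⁻¹ * f w * z := rfl
          _ = z⁻¹ * (z * f w) := by rw [c3, mul_assoc]
          _ = f w := by group
      calc f w * w₀ = w₀ * (w₀⁻¹ * f w * w₀) := by group
        _ = w₀ * f w := by rw [e3]
    have h4 : M ≤ centralizer ({w₀} : Set S) := by
      rw [hMx, closure_le]
      rintro _ ⟨w, hwA, rfl⟩
      exact mem_centralizer_singleton_iff.mpr (hgen w hwA)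
    refine mem_centralizer_iff.mpr ?_
    intro m hm
    exact mem_centralizer_singleton_iff.mp (h4 hm)
  -- the injection
  have hne : ∀ y : S, ∃ u₀ : S, u₀ ∈ A ∧ ((∃ m ∈ M ⊓ centralizer (A : Set S), f u₀ * m = y) ∨
      ¬ ∃ u ∈ A, ∃ m ∈ M ⊓ centralizer (A : Set S), f u * m = y) := by
    intro y
    by_cases h : ∃ u ∈ A, ∃ m ∈ M ⊓ centralizer (A : Set S), f u * m = y
    · obtain ⟨u, hu, m, hm, h⟩ := h
      exact ⟨u, hu, Or.inl ⟨m, hm, h⟩⟩
    · exact ⟨1, A.one_mem, Or.inr h⟩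
  choose u₀ hu₀A hu₀ using hne
  rw [← Nat.card_prod, ← Nat.card_prod]
  have hmem : ∀ q : ↥A × ↥(M ⊓ centralizer (A : Set S)),
      (q.1 : S) * (u₀ (f q.1 * q.2))⁻¹ ∈ A ⊓ centralizer (M : Set S) := by
    rintro ⟨⟨u, hu⟩, ⟨m, hm⟩⟩
    rcases hu₀ (f u * m) with ⟨m₀, hm₀, h0⟩ | h
    · apply key _ (hu₀A _) u hu
      have h1 : (f (u₀ (f u * m)))⁻¹ * f u = m₀ * m⁻¹ := by
        rw [eq_mul_inv_iff_mul_eq, mul_assoc]
        rw [inv_mul_eq_iff_eq_mul]; exact h0.symm
      rw [h1]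
      exact (centralizer (A : Set S)).mul_mem hm₀.2 ((centralizer (A : Set S)).inv_mem hm.2)
    · exact absurd ⟨u, hu, m, hm, rfl⟩ h
  refine Nat.card_le_card_of_injective
    (fun q => ((⟨f q.1 * q.2, M.mul_mem (hfM _ q.1.2) q.2.2.1⟩ : ↥M), (⟨_, hmem q⟩ : ↥(A ⊓ centralizer (M : Set S))))) ?_
  rintro ⟨⟨u, hu⟩, ⟨m, hm⟩⟩ ⟨⟨v, hv⟩, ⟨m', hm'⟩⟩ h
  have h1 : f u * m = f v * m' := congrArg Subtype.val (Prod.mk.inj h).1
  have h2 : u * (u₀ (f u * m))⁻¹ = v * (u₀ (f v * m'))⁻¹ := congrArg Subtype.val (Prod.mk.inj h).2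
  rw [h1] at h2
  have h3 : u = v := mul_right_cancel h2
  subst h3
  have h4 : m = m' := mul_left_cancel h1
  subst h4
  rfl

/-- `M C_A(M)` is again abelian of maximal order. -/
theorem replace_aux [Finite S] {A M : Subgroup S} (hA : A ∈ maxAbelianSubgroups S) (hM : IsMulCommutative M) (x : S)
    (hMx : M = closure ((fun u => x⁻¹ * (u⁻¹ * x * u)) '' (A : Set S))) :
    M ⊔ (A ⊓ centralizer (M : Set S)) ∈ maxAbelianSubgroups S := by
  set C := A ⊓ centralizer (M : Set S) with hC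
  have hCc : IsMulCommutative C := isMulCommutative_of (fun a ha b hb => comm_of hA.1 ha.1 hb.1)
  have habel : IsMulCommutative ↥(M ⊔ C) := isMulCommutative_sup hM hCc (fun m hm c hc => mem_centralizer_iff.mp hc.2 m hm)
  refine ⟨habel, fun B hB => ?_⟩
  apply (hA.2 B hB).trans
  have h1 := card_ineq hA.1 hM x hMx
  have h2 := Cfsg.Agent.H18.CD.card_mul_card_le M C
  have h3 : M ⊓ C ≤ M ⊓ centralizer (A : Set S) := by
    refine le_inf inf_le_left ?_
    intro c hc
    rw [mem_centralizer_iff]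
    intro a ha
    exact comm_of hA.1 ha hc.2.1
  have h4 : Nat.card ↥(M ⊓ C) ≤ Nat.card ↥(M ⊓ centralizer (A : Set S)) := Subgroup.card_le_of_le h3
  have h5 : Nat.card A * Nat.card ↥(M ⊓ centralizer (A : Set S)) ≤ Nat.card ↥(M ⊔ C) * Nat.card ↥(M ⊓ centralizer (A : Set S)) :=
    h1.trans (h2.trans (Nat.mul_le_mul_left _ h4))
  exact Nat.le_of_mul_le_mul_right h5 Nat.card_pos

/-- Thompson replacement. -/
theorem replacement [Finite S] {p : ℕ} [Fact p.Prime] (hS : IsPGroup p S) {A B : Subgroup S} (hA : A ∈ maxAbelianSubgroups S)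
    (hB : IsMulCommutative B) (hAB : A ≤ normalizer (B : Set S)) (hBA : ¬ B ≤ normalizer (A : Set S)) :
    ∃ A' ∈ maxAbelianSubgroups S, A ⊓ B < A' ⊓ B ∧ A' ≤ normalizer (A : Set S) := by
  set N := B ⊓ normalizer (A : Set S) with hN
  have hNB : N < B := by
    refine lt_of_le_of_ne inf_le_left ?_
    intro h
    apply hBA
    rw [← h]; exact inf_le_right
  -- `N` is normalized by `A ⊔ B`
  have hAN : A ≤ Nz N := by
    refine le_trans (le_inf hAB ?_) (Nz_inf_le B (normalizer (A : Set S)))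
    exact Subgroup.le_normalizer.trans Subgroup.le_normalizer
  have hBN : B ≤ Nz N := by
    rw [le_Nz_iff]
    intro b hb n hn
    rw [comm_of hB hb hn.1, mul_inv_cancel_right]
    exact hn
  -- a fixed point of `A` on `B / N`
  obtain ⟨x, hxB, hxN, hx⟩ : ∃ x ∈ B, x ∉ N ∧ ∀ a ∈ A, x⁻¹ * (a⁻¹ * x * a) ∈ N := by
    -- `N < B ⊓ ...`
    set K := A ⊔ B with hK
    have hKN : K ≤ Nz N := sup_le hAN hBN
    set N' := N.subgroupOf K with hN'
    haveI : N'.Normal := (Cfsg.Agent.H17.Base.normal_subgroupOf_iff (inf_le_left.trans le_sup_right)).mpr hKN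
    set B' := (B.subgroupOf K).map (QuotientGroup.mk' N') with hB'
    haveI hBn : (B.subgroupOf K).Normal := (Cfsg.Agent.H17.Base.normal_subgroupOf_iff le_sup_right).mpr (sup_le hAB Subgroup.le_normalizer)
    have hQp : IsPGroup p (↥K ⧸ N') := (hS.to_subgroup K).to_quotient N'
    haveI : B'.Normal := hBn.map _ (QuotientGroup.mk'_surjective N')
    have hB'ne : B' ≠ ⊥ := by
      intro h
      rw [Subgroup.map_eq_bot_iff, QuotientGroup.ker_mk'] at h
      apply not_le_of_gt hNB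
      intro b hb
      exact h (show (⟨b, mem_sup_right hb⟩ : ↥K) ∈ B.subgroupOf K from hb)
    have h1 := Cfsg.Agent.H2.PGroup.inf_center_ne_bot hQp hB'ne
    obtain ⟨⟨y, hy⟩, hy1'⟩ := ne_bot_iff_exists_ne_one.mp h1
    have hy1 : y ∉ (⊥ : Subgroup (↥K ⧸ N')) := by
      intro h
      exact hy1' (Subtype.ext (mem_bot.mp h))
    obtain ⟨⟨b, hb, rfl⟩, hyc⟩ := hy
    refine ⟨b, hb, ?_, ?_⟩
    · intro hbN
      apply hy1
      rw [mem_bot]
      exact (QuotientGroup.eq_one_iff b).mpr hbN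
    · intro a ha
      have h2 := mem_center_iff.mp hyc (QuotientGroup.mk' N' ⟨a, mem_sup_left ha⟩)
      have h3 : QuotientGroup.mk' N' (b⁻¹ * ((⟨a, mem_sup_left ha⟩ : ↥K)⁻¹ * b * ⟨a, mem_sup_left ha⟩)) = 1 := by
        rw [map_mul, map_mul, map_mul, map_inv, map_inv, mul_assoc (QuotientGroup.mk' N' ⟨a, mem_sup_left ha⟩)⁻¹, ← h2,
          inv_mul_cancel_left, inv_mul_cancel]
      have h4 : (b⁻¹ * ((⟨a, mem_sup_left ha⟩ : ↥K)⁻¹ * b * ⟨a, mem_sup_left ha⟩)) ∈ N' := (QuotientGroup.eq_one_iff _).mp h3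
      exact h4
  set M := closure ((fun u => x⁻¹ * (u⁻¹ * x * u)) '' (A : Set S)) with hM
  have hMN : M ≤ N := by
    rw [hM, closure_le]
    rintro _ ⟨a, ha, rfl⟩
    exact hx a ha
  have hMc : IsMulCommutative M := isMulCommutative_of (fun a ha b hb => comm_of hB (hMN ha).1 (hMN hb).1)
  have h1 := replace_aux hA hMc x hM
  refine ⟨_, h1, ?_, ?_⟩
  · refine lt_of_le_of_ne ?_ ?_
    · rintro y ⟨hyA, hyB⟩
      refine ⟨mem_sup_right ⟨hyA, ?_⟩, hyB⟩
      show y ∈ centralizer (M : Set S)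
      rw [mem_centralizer_iff]
      intro m hm
      exact comm_of hB (hMN hm).1 hyB
    · intro h
      -- then `M ≤ A`, so `x` normalizes `A`
      have hMA : M ≤ A := by
        have h2 : M ≤ (M ⊔ (A ⊓ centralizer (M : Set S))) ⊓ B := le_inf le_sup_left (hMN.trans inf_le_left)
        rw [← h] at h2
        exact h2.trans inf_le_left
      apply hxN
      refine ⟨hxB, ?_⟩
      have hxi : x⁻¹ ∈ normalizer (A : Set S) := by
        apply mem_Nz_of_cj_le
        intro y hy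
        rw [mem_cj, inv_inv] at hy
        -- `a = x y x⁻¹ ∈ A`
        set a := x * y * x⁻¹ with ha
        have h3 : x⁻¹ * (a⁻¹ * x * a) ∈ A := hMA (subset_closure ⟨a, hy, rfl⟩)
        have h4 : x⁻¹ * (a⁻¹ * x * a) = y⁻¹ * a := by rw [ha]; group
        rw [h4] at h3
        have h5 := A.mul_mem hy (A.inv_mem h3)
        simpa using h5
      have := (normalizer (A : Set S)).inv_mem hxi
      rwa [inv_inv] at this
  · refine sup_le (hMN.trans inf_le_right) (inf_le_left.trans Subgroup.le_normalizer)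

end Cfsg.Agent.H18.Replace
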