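import Mathlib

/-! Self-centralizing elementary abelian Sylow 3-subgroups of order nine: the arithmetic of two columns. -/

set_option autoImplicit false
namespace Cfsg.Agent.H19.A6a

theorem sq_one {z : ℤ} (hz : z ^ 2 = 1) : z = 1 ∨ z = -1 := by
  have h2 : z ≤ 1 := by nlinarith
  have h3 : -1 ≤ z := by nlinarith
  interval_cases z <;> omega

theorem card_two {I : Type*} [DecidableEq I] (S : Finset I) (f : I → ℤ) (hne : ∀ i ∈ S, f i ≠ 0)
    (n : ℕ) (hn : n ≤ 3) (h : ∑ i ∈ S, f i ^ 2 = n) : S.card = n ∧ ∀ i ∈ S, f i ^ 2 = 1 := by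
  have hge : ∀ i ∈ S, 1 ≤ f i ^ 2 := by
    intro i hi
    have := sq_pos_of_ne_zero (hne i hi)
    linarith
  have h1 : ∀ i ∈ S, f i ^ 2 = 1 := by
    intro i hi
    have h2 : f i ^ 2 ≤ ∑ i ∈ S, f i ^ 2 := Finset.single_le_sum (f := fun i => f i ^ 2) (fun j _ => sq_nonneg _) hi
    rw [h] at h2
    have h3 : (n : ℤ) ≤ 3 := by exact_mod_cast hn
    have h4 : f i < 2 := by nlinarith
    have h5 : -2 < f i := by nlinarith
    have h6 := hne i hi
    have : f i = 1 ∨ f i = -1 := by omega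
    rcases this with h7 | h7 <;> rw [h7] <;> norm_num
  refine ⟨?_, h1⟩
  rw [Finset.sum_congr rfl h1, Finset.sum_const, nsmul_eq_mul, mul_one] at h
  exact_mod_cast h

/-- the structure of two integral columns -/
theorem arith {I : Type*} [Fintype I] [DecidableEq I] (i0 : I) (a b d : I → ℤ)
    (hd : ∀ i, 1 ≤ d i) (ha0 : a i0 = 1) (hb0 : b i0 = 1) (hd0 : d i0 = 1)
    (haa : ∑ i, a i ^ 2 = 9) (hbb : ∑ i, b i ^ 2 = 9) (hab : ∑ i, a i * b i = 0)
    (had : ∑ i, a i * d i = 0) (hbd : ∑ i, b i * d i = 0) (h3 : ∀ i, (3 : ℤ) ∣ a i - b i) :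
    ∃ (p : ℤ) (X Y i j k : I), (p = 1 ∨ p = 2) ∧ a X = p ∧ b X = p - 3 ∧ a Y = p - 3 ∧ b Y = p ∧
      d X = d Y ∧ X ≠ i0 ∧ i ≠ i0 ∧ j ≠ i0 ∧ k ≠ i0 ∧ a i ^ 2 = 1 ∧ a j ^ 2 = 1 ∧ a k ^ 2 = 1 ∧
      b i = a i ∧ b j = a j ∧ b k = a k ∧
      1 + a i * d i + a j * d j + a k * d k + (2 * p - 3) * d X = 0 ∧
      ∑ i, (a i : ℚ) ^ 2 * (b i : ℚ) / (d i : ℚ) =
        1 + (a i : ℚ) / (d i : ℚ) + (a j : ℚ) / (d j : ℚ) + (a k : ℚ) / (d k : ℚ) -
          2 * (2 * (p : ℚ) - 3) / (d X : ℚ) := by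
  choose c hc using h3
  have hcc : ∑ i, c i ^ 2 = 2 := by
    have h1 : ∑ i, (a i - b i) ^ 2 = 18 := by
      have : ∀ i, (a i - b i) ^ 2 = a i ^ 2 + b i ^ 2 - 2 * (a i * b i) := fun i => by ring
      rw [Finset.sum_congr rfl fun i _ => this i, Finset.sum_sub_distrib, Finset.sum_add_distrib,
        ← Finset.mul_sum, haa, hbb, hab]
      norm_num
    have h2 : ∀ i, (a i - b i) ^ 2 = 9 * c i ^ 2 := fun i => by rw [hc i]; ring
    rw [Finset.sum_congr rfl fun i _ => h2 i, ← Finset.mul_sum] at h1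
    linarith
  obtain ⟨S, hS⟩ : ∃ S, S = Finset.univ.filter (fun i => c i ≠ 0) := ⟨_, rfl⟩
  have f2 : ∑ i ∈ S, c i ^ 2 = ((2 : ℕ) : ℤ) := by
    rw [hS, Finset.sum_filter_of_ne, hcc]; · rfl
    intro i _ h h0; exact h (by rw [h0]; ring)
  obtain ⟨hS2, hS1⟩ := card_two S c (by intro i hi; rw [hS] at hi; exact (Finset.mem_filter.1 hi).2) 2
    (by norm_num) f2
  obtain ⟨X', Y', hXY', hSe⟩ := Finset.card_eq_two.1 hS2
  have hcd : ∑ i, c i * d i = 0 := by
    have h1 : ∑ i, (3 * (c i * d i)) = 0 := by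
      have : ∀ i, 3 * (c i * d i) = a i * d i - b i * d i := fun i => by
        have := hc i
        linear_combination (-(d i)) * this
      rw [Finset.sum_congr rfl fun i _ => this i, Finset.sum_sub_distrib, had, hbd]; norm_num
    rw [← Finset.mul_sum] at h1
    linarith
  have hcs : ∑ i, c i * (a i + b i) = 0 := by
    have h1 : ∑ i, (3 * (c i * (a i + b i))) = 0 := by
      have : ∀ i, 3 * (c i * (a i + b i)) = a i ^ 2 - b i ^ 2 := fun i => by
        have := hc i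
        linear_combination (-(a i + b i)) * this
      rw [Finset.sum_congr rfl fun i _ => this i, Finset.sum_sub_distrib, haa, hbb]; norm_num
    rw [← Finset.mul_sum] at h1
    linarith
  have hcd' : ∑ i ∈ S, c i * d i = 0 := by
    rw [hS, Finset.sum_filter_of_ne, hcd]
    intro i _ h h0; exact h (by rw [h0]; ring)
  have hcs' : ∑ i ∈ S, c i * (a i + b i) = 0 := by
    rw [hS, Finset.sum_filter_of_ne, hcs]
    intro i _ h h0; exact h (by rw [h0]; ring)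
  rw [hSe, Finset.sum_pair hXY'] at hcd' hcs'
  have hX1 := sq_one (hS1 X' (by rw [hSe]; simp))
  have hY1 := sq_one (hS1 Y' (by rw [hSe]; simp))
  obtain ⟨X, Y, hXY, hcX, hcY, hdd, hss, hSS⟩ : ∃ X Y, X ≠ Y ∧ c X = 1 ∧ c Y = -1 ∧ d X = d Y ∧
      a X + b X = a Y + b Y ∧ S = {X, Y} := by
    have hdX := hd X'
    have hdY := hd Y'
    rcases hX1 with h1 | h1 <;> rcases hY1 with h2 | h2 <;> rw [h1, h2] at hcd' hcs'
    · omega
    · exact ⟨X', Y', hXY', h1, h2, by linarith, by linarith, hSe⟩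
    · exact ⟨Y', X', hXY'.symm, h2, h1, by linarith, by linarith, by rw [hSe, Finset.pair_comm]⟩
    · omega
  have hcX' := hc X
  have hcY' := hc Y
  rw [hcX] at hcX'
  rw [hcY] at hcY'
  obtain ⟨p, hp⟩ : ∃ p, p = a X := ⟨_, rfl⟩
  have hbX : b X = p - 3 := by omega
  have haY : a Y = p - 3 := by omega
  have hbY : b Y = p := by omega
  have hX0 : X ≠ i0 := by
    rintro rfl
    omega
  have hY0 : Y ≠ i0 := by
    rintro rfl
    omega
  have hR : ∀ i, i ≠ X → i ≠ Y → b i = a i := by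
    intro i h1 h2
    have : c i = 0 := by
      by_contra h
      have : i ∈ S := by rw [hS]; simp [h]
      rw [hSS] at this
      simp only [Finset.mem_insert, Finset.mem_singleton] at this
      rcases this with h | h
      · exact h1 h
      · exact h2 h
    have h3 := hc i
    rw [this] at h3
    omega
  have split : ∀ (f : I → ℚ), ∑ i, f i = f X + f Y + f i0 +
      ∑ i ∈ ((Finset.univ.erase X).erase Y).erase i0, f i := by
    intro f
    rw [← Finset.add_sum_erase Finset.univ f (Finset.mem_univ X),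
      ← Finset.add_sum_erase (Finset.univ.erase X) f (Finset.mem_erase.2 ⟨hXY.symm, Finset.mem_univ Y⟩),
      ← Finset.add_sum_erase ((Finset.univ.erase X).erase Y) f
        (Finset.mem_erase.2 ⟨hY0.symm, Finset.mem_erase.2 ⟨hX0.symm, Finset.mem_univ i0⟩⟩)]
    ring
  have splitZ : ∀ (f : I → ℤ), ∑ i, f i = f X + f Y + f i0 +
      ∑ i ∈ ((Finset.univ.erase X).erase Y).erase i0, f i := by
    intro f
    have := split (fun i => (f i : ℚ))
    exact_mod_cast this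
  obtain ⟨T, hT⟩ : ∃ T, T = ((Finset.univ.erase X).erase Y).erase i0 := ⟨_, rfl⟩
  rw [← hT] at split splitZ
  have hTm : ∀ i ∈ T, i ≠ X ∧ i ≠ Y ∧ i ≠ i0 := by
    intro i hi
    rw [hT] at hi
    simp only [Finset.mem_erase, Finset.mem_univ, and_true] at hi
    exact ⟨hi.2.2, hi.2.1, hi.1⟩
  rw [splitZ] at haa hab had
  rw [Finset.sum_congr rfl (g := fun i => a i ^ 2) (fun i hi => by
    rw [hR i (hTm i hi).1 (hTm i hi).2.1]; ring)] at hab
  rw [ha0, ← hp, haY] at haa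
  rw [ha0, hb0, ← hp, hbX, haY, hbY] at hab
  rw [ha0, hd0, ← hp, haY, ← hdd] at had
  have hT0 : 0 ≤ ∑ i ∈ T, a i ^ 2 := Finset.sum_nonneg (fun i _ => sq_nonneg _)
  have hp12 : p = 1 ∨ p = 2 := by
    have h1 : p * (3 - p) > 0 := by nlinarith
    have h2 : 0 < p := by
      by_contra h
      nlinarith
    have h3 : p < 3 := by
      by_contra h
      nlinarith
    omega
  have hT3 : ∑ i ∈ T, a i ^ 2 = 3 := by
    rcases hp12 with h | h <;> rw [h] at haa <;> linarith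
  obtain ⟨U, hU⟩ : ∃ U, U = T.filter (fun i => a i ≠ 0) := ⟨_, rfl⟩
  have fU : ∑ i ∈ U, a i ^ 2 = ((3 : ℕ) : ℤ) := by
    rw [hU, Finset.sum_filter_of_ne, hT3]; · rfl
    intro i _ h h0; exact h (by rw [h0]; ring)
  obtain ⟨hU3, hU1⟩ := card_two U a (by intro i hi; rw [hU] at hi; exact (Finset.mem_filter.1 hi).2) 3
    (by norm_num) fU
  obtain ⟨i, j, k, hij, hik, hjk, hUe⟩ := Finset.card_eq_three.1 hU3
  have hUT : ∀ i ∈ U, i ≠ X ∧ i ≠ Y ∧ i ≠ i0 := by
    intro i hi; rw [hU] at hi; exact hTm i (Finset.mem_filter.1 hi).1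
  have hi : i ∈ U := by rw [hUe]; simp
  have hj : j ∈ U := by rw [hUe]; simp
  have hk : k ∈ U := by rw [hUe]; simp
  have had2 : ∑ i ∈ T, a i * d i = a i * d i + a j * d j + a k * d k := by
    rw [← Finset.sum_filter_of_ne (p := fun i => a i ≠ 0) (fun i _ h h0 => h (by rw [h0]; ring)), ← hU, hUe,
      Finset.sum_insert (by simp [hij, hik]), Finset.sum_pair hjk]
    ring
  rw [had2] at had
  refine ⟨p, X, Y, i, j, k, hp12, hp.symm, hbX, haY, hbY, hdd, hX0, (hUT i hi).2.2, (hUT j hj).2.2, (hUT k hk).2.2,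
    hU1 i hi, hU1 j hj, hU1 k hk, hR i (hUT i hi).1 (hUT i hi).2.1, hR j (hUT j hj).1 (hUT j hj).2.1,
    hR k (hUT k hk).1 (hUT k hk).2.1, by linarith, ?_⟩
  rw [split]
  have hq : ∑ i ∈ T, (a i : ℚ) ^ 2 * (b i : ℚ) / (d i : ℚ) =
      (a i : ℚ) / (d i : ℚ) + (a j : ℚ) / (d j : ℚ) + (a k : ℚ) / (d k : ℚ) := by
    have e1 : ∀ i ∈ U, (a i : ℚ) ^ 2 * (b i : ℚ) / (d i : ℚ) = (a i : ℚ) / (d i : ℚ) := by
      intro i hi
      rw [hR i (hUT i hi).1 (hUT i hi).2.1]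
      have : (a i : ℚ) ^ 2 = 1 := by exact_mod_cast hU1 i hi
      rw [this, one_mul]
    rw [← Finset.sum_filter_of_ne (p := fun i => a i ≠ 0) (fun i _ h h0 => h (by rw [h0]; simp)), ← hU,
      Finset.sum_congr rfl e1, hUe, Finset.sum_insert (by simp [hij, hik]), Finset.sum_pair hjk]
    ring
  rw [hq, ha0, hb0, hd0, ← hp, hbX, haY, hbY, ← hdd]
  push_cast
  have hdX : (d X : ℚ) ≠ 0 := by
    have := hd X
    have : d X ≠ 0 := by omega
    exact_mod_cast this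
  have hpq : (p : ℚ) = 1 ∨ (p : ℚ) = 2 := by
    rcases hp12 with h | h
    · left; exact_mod_cast h
    · right; exact_mod_cast h
  rcases hpq with h | h <;> rw [h] <;> ring

theorem term {e t m : ℤ} (he : e ^ 2 = 1) (ht : 1 ≤ t) (hm : e = -1 → m ≤ t) (hm0 : 1 ≤ m) :
    (-(1 / (m : ℚ)) ≤ (e : ℚ) / t) ∧ (e = 1 → 0 < (e : ℚ) / t) := by
  have ht' : (0 : ℚ) < t := by exact_mod_cast (by omega : 0 < t)
  have hm' : (0 : ℚ) < m := by exact_mod_cast (by omega : 0 < m)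
  rcases sq_one he with h | h
  · subst h
    refine ⟨?_, fun _ => ?_⟩
    · have h1 : 0 < 1 / (m : ℚ) := by positivity
      have h2 : 0 < ((1 : ℤ) : ℚ) / t := by positivity
      linarith
    · positivity
  · subst h
    refine ⟨?_, fun h => by omega⟩
    have h1 : 1 / (t : ℚ) ≤ 1 / m := one_div_le_one_div_of_le hm' (by exact_mod_cast hm rfl)
    have h2 : ((-1 : ℤ) : ℚ) / t = - (1 / t) := by push_cast; ring
    rw [h2]; linarith

theorem num4 {p D t1 t2 t3 e1 e2 e3 : ℤ} (hp : p = 1 ∨ p = 2) (hD : 1 ≤ D) (h1 : 1 ≤ t1) (h2 : 1 ≤ t2)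
    (h3 : 1 ≤ t3) (he1 : e1 ^ 2 = 1) (he2 : e2 ^ 2 = 1) (he3 : e3 ^ 2 = 1)
    (h0 : 1 + e1 * t1 + e2 * t2 + e3 * t3 + (2 * p - 3) * D = 0)
    (c1 : (9 : ℤ) ∣ t1 + 8 * e1) (c2 : (9 : ℤ) ∣ t2 + 8 * e2) (c3 : (9 : ℤ) ∣ t3 + 8 * e3)
    (cD : (9 : ℤ) ∣ D + 4 * (2 * p - 3)) :
    1 / 4 < 1 + (e1 : ℚ) / t1 + (e2 : ℚ) / t2 + (e3 : ℚ) / t3 - 2 * (2 * (p : ℚ) - 3) / D := by
  obtain ⟨b1, d1⟩ := term (m := 8) he1 h1 (by rintro rfl; omega) (by norm_num)
  obtain ⟨b2, d2⟩ := term (m := 8) he2 h2 (by rintro rfl; omega) (by norm_num)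
  obtain ⟨b3, d3⟩ := term (m := 8) he3 h3 (by rintro rfl; omega) (by norm_num)
  have hD' : (0 : ℚ) < D := by exact_mod_cast (by omega : 0 < D)
  push_cast at b1 b2 b3
  rcases hp with rfl | rfl
  · have : 0 < 2 / (D : ℚ) := by positivity
    have e : - (2 * (2 * ((1 : ℤ) : ℚ) - 3) / D) = 2 / D := by push_cast; ring
    linarith
  · have e : 2 * (2 * ((2 : ℤ) : ℚ) - 3) / D = 2 * (1 / D) := by push_cast; ring
    rw [e]
    by_cases hD5 : D = 5
    · subst hD5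
      push_cast
      have hn : e1 = 1 ∨ e2 = 1 ∨ e3 = 1 := by
        by_contra hcon
        push Not at hcon
        have g1 := (sq_one he1).resolve_left hcon.1
        have g2 := (sq_one he2).resolve_left hcon.2.1
        have g3 := (sq_one he3).resolve_left hcon.2.2
        subst g1 g2 g3
        omega
      rcases hn with h | h | h
      · have := d1 h; linarith
      · have := d2 h; linarith
      · have := d3 h; linarith
    · have hD14 : 14 ≤ D := by omega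
      have : 1 / (D : ℚ) ≤ 1 / 14 := one_div_le_one_div_of_le (by norm_num) (by exact_mod_cast hD14)
      linarith

theorem num2 {p D t1 t2 t3 e1 e2 e3 : ℤ} (hp : p = 1 ∨ p = 2) (hD : 1 ≤ D) (h1 : 1 ≤ t1) (h2 : 1 ≤ t2)
    (h3 : 1 ≤ t3) (he1 : e1 ^ 2 = 1) (he2 : e2 ^ 2 = 1) (he3 : e3 ^ 2 = 1)
    (h0 : 1 + e1 * t1 + e2 * t2 + e3 * t3 + (2 * p - 3) * D = 0)
    (c1 : (3 : ℤ) ∣ t1 - e1) (c2 : (3 : ℤ) ∣ t2 - e2) (c3 : (3 : ℤ) ∣ t3 - e3)
    (cD : (3 : ℤ) ∣ D - p) (n1 : t1 ≠ 2) (n2 : t2 ≠ 2) (n3 : t3 ≠ 2) (nD : D ≠ 2) :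
    0 < 1 + (e1 : ℚ) / t1 + (e2 : ℚ) / t2 + (e3 : ℚ) / t3 - 2 * (2 * (p : ℚ) - 3) / D := by
  obtain ⟨b1, d1⟩ := term (m := 5) he1 h1 (by rintro rfl; omega) (by norm_num)
  obtain ⟨b2, d2⟩ := term (m := 5) he2 h2 (by rintro rfl; omega) (by norm_num)
  obtain ⟨b3, d3⟩ := term (m := 5) he3 h3 (by rintro rfl; omega) (by norm_num)
  have hD' : (0 : ℚ) < D := by exact_mod_cast (by omega : 0 < D)
  push_cast at b1 b2 b3
  rcases hp with rfl | rfl
  · have : 0 < 2 / (D : ℚ) := by positivity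
    have e : - (2 * (2 * ((1 : ℤ) : ℚ) - 3) / D) = 2 / D := by push_cast; ring
    linarith
  · have e : 2 * (2 * ((2 : ℤ) : ℚ) - 3) / D = 2 * (1 / D) := by push_cast; ring
    rw [e]
    by_cases hn : e1 = 1 ∨ e2 = 1 ∨ e3 = 1
    · have hD5 : 5 ≤ D := by omega
      have : 1 / (D : ℚ) ≤ 1 / 5 := one_div_le_one_div_of_le (by norm_num) (by exact_mod_cast hD5)
      rcases hn with h | h | h
      · have := d1 h; linarith
      · have := d2 h; linarith
      · have := d3 h; linarith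
    · push Not at hn
      have g1 := (sq_one he1).resolve_left hn.1
      have g2 := (sq_one he2).resolve_left hn.2.1
      have g3 := (sq_one he3).resolve_left hn.2.2
      have hD14 : 14 ≤ D := by subst g1 g2 g3; omega
      have : 1 / (D : ℚ) ≤ 1 / 14 := one_div_le_one_div_of_le (by norm_num) (by exact_mod_cast hD14)
      linarith

end Cfsg.Agent.H19.A6a
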