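import Mathlib
import Cfsg.Prelude.Def_Characters
import Cfsg.Agent.H3_CharCalc
import Cfsg.Agent.H3_CharMult
import Cfsg.Agent.H3_CharInd

/-!
# Sums over pairs of conjugates; characters at involutions
-/

set_option autoImplicit false

open scoped ComplexConjugate

namespace Cfsg.Agent.H3.InvSum

open Cfsg Cfsg.Agent.H3.CharBasic Cfsg.Agent.H3.CharIrr Cfsg.Agent.H3.CharComplete
  Cfsg.Agent.H3.CharMult Cfsg.Agent.H3.CharInd Cfsg.Agent.H3.CharCalc

/-- Character values at elements of order dividing two. -/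
theorem char_invol {G : Type*} [Group G] {χ : G → ℂ} (hχ : IsCharacter G χ) {t : G} (ht : t * t = 1) :
    ∃ (a : ℤ) (n : ℕ), χ t = a ∧ χ 1 = n ∧ (2 : ℤ) ∣ (n : ℤ) - a ∧ |a| ≤ n := by
  obtain ⟨n, ρ, rfl⟩ := hχ
  obtain ⟨b, ζ, _, hζ, hc⟩ := exists_eigenbasis_rep ρ t 2 two_ne_zero (by rw [sq]; exact ht)
  have h1 := hc 1
  simp only [zpow_one] at h1
  have hε : ∀ i, ∃ ε : ℤ, (ε = 1 ∨ ε = -1) ∧ ζ i = ε := by
    intro i
    have := hζ i
    rw [sq, mul_self_eq_one_iff] at this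
    rcases this with h | h
    · exact ⟨1, Or.inl rfl, by rw [h]; norm_num⟩
    · exact ⟨-1, Or.inr rfl, by rw [h]; norm_num⟩
  choose ε hε hζε using hε
  have hfr : Module.finrank ℂ (Fin n → ℂ) = n := Module.finrank_fin_fun ℂ
  have hn : (n : ℤ) = ∑ _i : Fin (Module.finrank ℂ (Fin n → ℂ)), (1 : ℤ) := by
    rw [Finset.sum_const, Finset.card_univ, Fintype.card_fin, hfr]; simp
  refine ⟨∑ i, ε i, n, ?_, ?_, ?_, ?_⟩
  · rw [h1]; push_cast
    exact Finset.sum_congr rfl fun i _ => hζε i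
  · rw [Representation.char_one, Module.finrank_fin_fun]
  · rw [hn, ← Finset.sum_sub_distrib]
    apply Finset.dvd_sum
    intro i _
    rcases hε i with h | h <;> rw [h] <;> norm_num
  · rw [hn]
    refine (Finset.abs_sum_le_sum_abs _ _).trans (Finset.sum_le_sum fun i _ => ?_)
    rcases hε i with h | h <;> rw [h] <;> norm_num

variable {G : Type*} [Group G] [Fintype G]

/-- `∑ χ(xy)` over pairs of conjugates of `t`. -/
theorem class_sum_irr {χ : G → ℂ} (hχ : IsIrrCharacter G χ) (t : G) [DecidablePred (IsConj t)] :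
    ∑ x ∈ Finset.univ.filter (IsConj t), ∑ y ∈ Finset.univ.filter (IsConj t), χ (x * y) =
      ((Finset.univ.filter (IsConj t)).card : ℂ) ^ 2 * χ t ^ 2 / χ 1 := by
  have hcl := IsChar.isClass (IsIrr.isCharacter hχ)
  have hC : (Nat.card (Subgroup.centralizer ({t} : Set G)) : ℂ) ≠ 0 := by exact_mod_cast Nat.card_pos.ne'
  have hcm := card_class_mul t
  have h1 : ∀ c : G, ∑ x ∈ Finset.univ.filter (IsConj t), χ (x * c) =
      ((Finset.univ.filter (IsConj t)).card : ℂ) * χ t * χ c / χ 1 := by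
    intro c
    have h2 := sum_conj (fun x => χ (x * c)) t
    rw [IsIrr.sum_conj_mul hχ t c, nsmul_eq_mul] at h2
    have h3 : (Nat.card G : ℂ) = (Nat.card (Subgroup.centralizer ({t} : Set G)) : ℂ) *
        ((Finset.univ.filter (IsConj t)).card : ℂ) := by
      rw [← Nat.cast_mul, ← hcm]
    rw [h3] at h2
    have h1' := IsIrr.one_ne_zero hχ
    field_simp at h2 ⊢
    exact h2.symm
  rw [Finset.sum_comm, Finset.sum_congr rfl fun y _ => h1 y]
  have h4 : ∀ y ∈ Finset.univ.filter (IsConj t), ((Finset.univ.filter (IsConj t)).card : ℂ) * χ t * χ y / χ 1 =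
      ((Finset.univ.filter (IsConj t)).card : ℂ) * χ t * χ t / χ 1 := by
    intro y hy
    rw [Finset.mem_filter] at hy
    obtain ⟨g, rfl⟩ := isConj_iff.mp hy.2
    rw [hcl]
  rw [Finset.sum_congr rfl h4, Finset.sum_const, nsmul_eq_mul]
  ring

/-- The sum of an induced function over pairs of conjugates of `t`. -/
theorem class_sum_ind (X : Subgroup G) [Fintype X] (φ : X → ℂ) (t : G) [DecidablePred (IsConj t)] :
    ∑ x ∈ Finset.univ.filter (IsConj t), ∑ y ∈ Finset.univ.filter (IsConj t), indFun X φ (x * y) =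
      (Nat.card G : ℂ) / (Nat.card X : ℂ) * ∑ s : X, φ s *
        ((Finset.univ.filter (fun x : G => IsConj t x ∧ IsConj t (x⁻¹ * s))).card : ℂ) := by
  classical
  obtain ⟨T, hT⟩ : ∃ T, T = Finset.univ.filter (IsConj t) := ⟨_, rfl⟩
  have hTm : ∀ x, x ∈ T ↔ IsConj t x := by intro x; rw [hT]; simp
  have hTc : ∀ g x, g⁻¹ * x * g ∈ T ↔ x ∈ T := by
    intro g x
    rw [hTm, hTm]
    have h1 : IsConj x (g⁻¹ * x * g) := isConj_iff.mpr ⟨g⁻¹, by group⟩
    exact ⟨fun h => h.trans h1.symm, fun h => h.trans h1⟩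
  rw [← hT]
  have h1 : ∑ x ∈ T, ∑ y ∈ T, indFun X φ (x * y) = (Nat.card X : ℂ)⁻¹ *
      ∑ g : G, ∑ x ∈ T, ∑ y ∈ T, extendByZero X φ (g⁻¹ * (x * y) * g) := by
    simp only [indFun, ← Finset.mul_sum]
    congr 1
    rw [Finset.sum_congr rfl fun x _ => Finset.sum_comm]
    exact Finset.sum_comm
  have h2 : ∀ g : G, ∑ x ∈ T, ∑ y ∈ T, extendByZero X φ (g⁻¹ * (x * y) * g) =
      ∑ x ∈ T, ∑ y ∈ T, extendByZero X φ (x * y) := by
    intro g
    have h3 : ∀ F : G → ℂ, ∑ x ∈ T, F (g⁻¹ * x * g) = ∑ x ∈ T, F x := by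
      intro F
      refine Finset.sum_bij (fun x _ => g⁻¹ * x * g) (fun x hx => (hTc g x).mpr hx)
        (fun x _ y _ h => by simpa using h) (fun x hx => ⟨g * x * g⁻¹, ?_, by group⟩) (fun x _ => rfl)
      rw [← hTc g]
      have : g⁻¹ * (g * x * g⁻¹) * g = x := by group
      rw [this]; exact hx
    rw [← h3 (fun x => ∑ y ∈ T, extendByZero X φ (x * y))]
    refine Finset.sum_congr rfl fun x _ => ?_
    rw [← h3 (fun y => extendByZero X φ (g⁻¹ * x * g * y))]
    refine Finset.sum_congr rfl fun y _ => ?_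
    congr 1; group
  rw [h1, Finset.sum_congr rfl fun g _ => h2 g, Finset.sum_const, Finset.card_univ,
    ← Nat.card_eq_fintype_card, nsmul_eq_mul]
  have h4 : ∑ x ∈ T, ∑ y ∈ T, extendByZero X φ (x * y) = ∑ s : X, φ s *
        ((Finset.univ.filter (fun x : G => IsConj t x ∧ IsConj t (x⁻¹ * s))).card : ℂ) := by
    have h5 : ∀ x ∈ T, ∑ y ∈ T, extendByZero X φ (x * y) =
        ∑ s : X, φ s * if x⁻¹ * (s : G) ∈ T then 1 else 0 := by
      intro x _
      rw [← sum_ext_mul X φ (fun g => if x⁻¹ * g ∈ T then 1 else 0),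
        ← Equiv.sum_comp (Equiv.mulLeft x)]
      simp only [Equiv.coe_mulLeft, inv_mul_cancel_left, mul_ite, mul_one, mul_zero]
      rw [Finset.sum_ite_mem, Finset.univ_inter]
    rw [Finset.sum_congr rfl h5, Finset.sum_comm]
    refine Finset.sum_congr rfl fun s _ => ?_
    rw [← Finset.mul_sum, Finset.sum_ite, Finset.sum_const_zero, add_zero, Finset.sum_const, nsmul_eq_mul, mul_one]
    congr 3
    ext x
    simp only [Finset.mem_filter, Finset.mem_univ, true_and, hTm]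
  rw [h4]
  ring

end Cfsg.Agent.H3.InvSum
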