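import Mathlib
import Cfsg.Agent.H3_InvSum
import Cfsg.Agent.H3_CharGal
import Cfsg.Agent.H3_CharInt

/-! Feit–Thompson, self-centralizing subgroups of order three: the character-theoretic inequality. -/

set_option autoImplicit false
open scoped ComplexConjugate
namespace Cfsg.Agent.H19.FT1
open Cfsg Cfsg.Agent.H3.CharBasic Cfsg.Agent.H3.CharIrr Cfsg.Agent.H3.CharComplete
  Cfsg.Agent.H3.CharMult Cfsg.Agent.H3.CharInd Cfsg.Agent.H3.CharCalc Cfsg.Agent.H3.InvSum
  Cfsg.Agent.H3.CharGal Cfsg.Agent.H3.CharInt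

theorem int_at {G : Type*} [Group G] [Finite G] {χ : G → ℂ} (h : IsCharacter G χ) (g : G)
    (hk : ∀ k : ℕ, k.Coprime (Nat.card G) → χ (g ^ k) = χ g) : ∃ n : ℤ, χ g = n := by
  haveI : NeZero (Nat.card G) := ⟨Nat.card_pos.ne'⟩
  have hg : g ^ Nat.card G = 1 := pow_card_eq_one'
  let x : Cyc (Nat.card G) := ⟨χ g, IsChar.mem_cyc h g hg⟩
  obtain ⟨q, hq⟩ := rat_of_fixed x (fun σ => by
    obtain ⟨m, hm, hσ⟩ := gal_actsAs (Nat.card G) σ
    apply Subtype.ext
    have h1 := IsChar.gal h g hg hσ x rfl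
    rw [h1, hk m hm])
  have hq' : χ g = (q : ℂ) := hq
  have hint := IsChar.isIntegral h g
  rw [hq'] at hint
  obtain ⟨n, hn⟩ := exists_int_of_isIntegral hint
  exact ⟨n, by rw [hq', hn]; simp⟩

/-- the arithmetic -/
theorem arith {I : Type*} [Fintype I] [DecidableEq I] (i0 : I) (a d : I → ℤ) (hd : ∀ i, 1 ≤ d i)
    (ha0 : a i0 = 1) (hd0 : d i0 = 1) (h3 : ∑ i, a i ^ 2 = 3) (h0 : ∑ i, a i * d i = 0) :
    (1 : ℚ) < ∑ i, (a i : ℚ) ^ 3 / (d i : ℚ) := by
  have e3 : ∑ i ∈ Finset.univ.erase i0, a i ^ 2 = 2 := by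
    have := Finset.add_sum_erase Finset.univ (fun i => a i ^ 2) (Finset.mem_univ i0)
    simp only [h3, ha0] at this
    linarith
  have e0 : ∑ i ∈ Finset.univ.erase i0, a i * d i = -1 := by
    have := Finset.add_sum_erase Finset.univ (fun i => a i * d i) (Finset.mem_univ i0)
    simp only [h0, ha0, hd0] at this
    linarith
  have eq : ∑ i, (a i : ℚ) ^ 3 / (d i : ℚ) = 1 + ∑ i ∈ Finset.univ.erase i0, (a i : ℚ) ^ 3 / (d i : ℚ) := by
    rw [← Finset.add_sum_erase Finset.univ (fun i => (a i : ℚ) ^ 3 / (d i : ℚ)) (Finset.mem_univ i0)]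
    rw [ha0, hd0]; norm_num
  rw [eq]
  obtain ⟨S, hS⟩ : ∃ S, S = (Finset.univ.erase i0).filter (fun i => a i ≠ 0) := ⟨_, rfl⟩
  have f3 : ∑ i ∈ S, a i ^ 2 = 2 := by
    rw [hS, Finset.sum_filter_of_ne, e3]
    intro i _ h h0; exact h (by rw [h0]; ring)
  have f0 : ∑ i ∈ S, a i * d i = -1 := by
    rw [hS, Finset.sum_filter_of_ne, e0]
    intro i _ h h0; exact h (by rw [h0]; ring)
  have fq : ∑ i ∈ Finset.univ.erase i0, (a i : ℚ) ^ 3 / (d i : ℚ) = ∑ i ∈ S, (a i : ℚ) ^ 3 / (d i : ℚ) := by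
    rw [hS, Finset.sum_filter_of_ne]
    intro i _ h h0; exact h (by rw [h0]; simp)
  rw [fq]
  have hne : ∀ i ∈ S, a i ≠ 0 := by intro i hi; rw [hS] at hi; exact (Finset.mem_filter.1 hi).2
  have hge : ∀ i ∈ S, 1 ≤ a i ^ 2 := by
    intro i hi
    have := sq_pos_of_ne_zero (hne i hi)
    linarith
  have hcard : S.card ≤ 2 := by
    have h1 : (S.card : ℤ) ≤ ∑ i ∈ S, a i ^ 2 := by
      rw [← nsmul_one, ← Finset.sum_const]
      exact Finset.sum_le_sum hge
    rw [f3] at h1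
    exact_mod_cast h1
  have hc2 : S.card = 2 := by
    rcases Nat.lt_or_ge S.card 2 with h | h
    · exfalso
      rcases Nat.lt_or_ge S.card 1 with h1 | h1
      · have : S = ∅ := Finset.card_eq_zero.1 (by omega)
        rw [this] at f3; simp at f3
      · obtain ⟨i, hi⟩ := Finset.card_eq_one.1 (show S.card = 1 by omega)
        rw [hi, Finset.sum_singleton] at f3
        have h2 : a i ≤ 1 := by nlinarith
        have h3 : -1 ≤ a i := by nlinarith
        interval_cases a i <;> omega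
    · omega
  obtain ⟨i, j, hij, hSe⟩ := Finset.card_eq_two.1 hc2
  rw [hSe, Finset.sum_pair hij] at f3 f0 ⊢
  have hi1 := hge i (by rw [hSe]; simp)
  have hj1 := hge j (by rw [hSe]; simp)
  have hai : a i ^ 2 = 1 := by linarith
  have haj : a j ^ 2 = 1 := by linarith
  have hdi := hd i
  have hdj := hd j
  have key : ∀ z : ℤ, z ^ 2 = 1 → z = 1 ∨ z = -1 := by
    intro z hz
    have h2 : z ≤ 1 := by nlinarith
    have h3 : -1 ≤ z := by nlinarith
    interval_cases z <;> omega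
  obtain ⟨qi, hqi⟩ : ∃ q : ℚ, q = (d i : ℚ) := ⟨_, rfl⟩
  obtain ⟨qj, hqj⟩ : ∃ q : ℚ, q = (d j : ℚ) := ⟨_, rfl⟩
  have hqi1 : 1 ≤ qi := by rw [hqi]; exact_mod_cast hdi
  have hqj1 : 1 ≤ qj := by rw [hqj]; exact_mod_cast hdj
  have f0q : (a i : ℚ) * qi + a j * qj = -1 := by rw [hqi, hqj]; exact_mod_cast f0
  rw [← hqi, ← hqj]
  rcases key _ hai with h | h <;> rcases key _ haj with h' | h' <;> rw [h, h'] at f0q ⊢
  · exfalso; push_cast at f0q; linarith
  · push_cast at f0q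
    have e : qj = qi + 1 := by linarith
    rw [e]
    have : (0 : ℚ) < ((1 : ℤ) : ℚ) ^ 3 / qi + ((-1 : ℤ) : ℚ) ^ 3 / (qi + 1) := by
      push_cast
      have h5 : 1 / (qi + 1) < 1 / qi := one_div_lt_one_div_of_lt (by linarith) (by linarith)
      have h6 : (-1 : ℚ) ^ 3 / (qi + 1) = - (1 / (qi + 1)) := by ring
      rw [h6, one_pow]
      linarith
    linarith
  · push_cast at f0q
    have e : qi = qj + 1 := by linarith
    rw [e]
    have : (0 : ℚ) < ((-1 : ℤ) : ℚ) ^ 3 / (qj + 1) + ((1 : ℤ) : ℚ) ^ 3 / qj := by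
      push_cast
      have h5 : 1 / (qj + 1) < 1 / qj := one_div_lt_one_div_of_lt (by linarith) (by linarith)
      have h6 : (-1 : ℚ) ^ 3 / (qj + 1) = - (1 / (qj + 1)) := by ring
      rw [h6, one_pow]
      linarith
    linarith
  · exfalso; push_cast at f0q; linarith

theorem int_x {G : Type*} [Group G] [Finite G] {χ : G → ℂ} (h : IsCharacter G χ) {x : G} (hx : orderOf x = 3)
    (hr : IsConj x x⁻¹) : ∃ n : ℤ, χ x = n := by
  apply int_at h
  intro k hk
  have h3 : 3 ∣ Nat.card G := by rw [← hx]; exact orderOf_dvd_natCard x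
  have hk3 : ¬ 3 ∣ k := fun h' => by
    have := Nat.dvd_gcd h' h3
    rw [hk] at this; omega
  have hx3 : x ^ 3 = 1 := by rw [← hx]; exact pow_orderOf_eq_one x
  have e1 : x ^ k = x ^ (k % 3) := by rw [← hx, pow_mod_orderOf]
  rcases (show k % 3 = 1 ∨ k % 3 = 2 by omega) with h1 | h1
  · rw [e1, h1, pow_one]
  · have h2 : x ^ 2 = x⁻¹ := by
      rw [eq_inv_iff_mul_eq_one, ← pow_succ, hx3]
    rw [e1, h1, h2]
    exact IsClass.eq_of_isConj (IsChar.isClass h) hr.symm |>.symm ▸ rfl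

theorem count {G : Type*} [Group G] [Fintype G] {x : G} (hx : orderOf x = 3)
    (hc : Nat.card (Subgroup.centralizer ({x} : Set G)) = 3) (hr : IsConj x x⁻¹) [DecidablePred (IsConj x)] :
    Nat.card G < 9 * (Finset.univ.filter (fun y : G => IsConj x y ∧ IsConj x (y⁻¹ * x))).card := by
  classical
  have hx1 : x ≠ 1 := by rintro rfl; rw [orderOf_one] at hx; omega
  letI : Fintype (IrrCharacter G) := Fintype.ofFinite _
  obtain ⟨n, hn⟩ : ∃ n, n = (Finset.univ.filter (IsConj x)).card := ⟨_, rfl⟩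
  have hcm := card_class_mul x
  rw [hc, ← hn] at hcm
  choose a ha using fun χ : IrrCharacter G => int_x (IsIrr.isCharacter χ.2) hx hr
  have hdeg : ∀ χ : IrrCharacter G, ∃ d : ℤ, (χ : G → ℂ) 1 = d ∧ 1 ≤ d := by
    intro χ
    obtain ⟨m, hm⟩ := IsChar.one_eq_nat (IsIrr.isCharacter χ.2)
    have h0 := IsIrr.one_ne_zero χ.2
    refine ⟨m, by rw [hm]; simp, ?_⟩
    have : m ≠ 0 := by
      rintro rfl
      exact h0 (by rw [hm]; simp)
    have : 1 ≤ m := by omega
    exact_mod_cast this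
  choose d hd1 hd using hdeg
  have hcount : (3 : ℂ) * ((Finset.univ.filter (fun y : G => IsConj x y ∧ IsConj x (y⁻¹ * x))).card : ℂ) =
      n * ∑ χ : IrrCharacter G, (a χ : ℂ) ^ 3 / (d χ : ℂ) := by
    have hcl : ∀ χ : IrrCharacter G, ∀ c : G, ∑ y ∈ Finset.univ.filter (IsConj x), (χ : G → ℂ) (y * c) =
        (n : ℂ) * (χ : G → ℂ) x * (χ : G → ℂ) c / (χ : G → ℂ) 1 := by
      intro χ c
      have h2 := sum_conj (fun y => (χ : G → ℂ) (y * c)) x
      rw [IsIrr.sum_conj_mul χ.2 x c, nsmul_eq_mul, hc] at h2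
      have h3 : (Nat.card G : ℂ) = 3 * (n : ℂ) := by rw [← hcm]; push_cast; ring
      rw [h3] at h2
      have h1' := IsIrr.one_ne_zero χ.2
      have h4 : ((3 : ℕ) : ℂ) = 3 := by norm_num
      rw [h4] at h2
      have h5 : (3 : ℂ) ≠ 0 := by norm_num
      field_simp at h2 ⊢
      exact h2.symm
    have e1 : ∀ χ : IrrCharacter G, ∑ y ∈ Finset.univ.filter (IsConj x), (χ : G → ℂ) (y⁻¹ * x) *
        conj ((χ : G → ℂ) x) = (n : ℂ) * ((a χ : ℂ) ^ 3 / (d χ : ℂ)) := by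
      intro χ
      have h1 : ∑ y ∈ Finset.univ.filter (IsConj x), (χ : G → ℂ) (y⁻¹ * x) * conj ((χ : G → ℂ) x) =
          ∑ y ∈ Finset.univ.filter (IsConj x), (χ : G → ℂ) (y * x) * conj ((χ : G → ℂ) x) := by
        refine Finset.sum_bij (fun y _ => y⁻¹) ?_ (fun _ _ _ _ h => inv_injective h) ?_ (fun _ _ => rfl)
        · intro y hy
          rw [Finset.mem_filter] at hy ⊢
          refine ⟨Finset.mem_univ _, ?_⟩
          obtain ⟨g, hg⟩ := isConj_iff.1 hy.2
          exact hr.trans (isConj_iff.2 ⟨g, by rw [← hg]; group⟩)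
        · intro y hy
          rw [Finset.mem_filter] at hy
          refine ⟨y⁻¹, ?_, inv_inv y⟩
          rw [Finset.mem_filter]
          refine ⟨Finset.mem_univ _, ?_⟩
          obtain ⟨g, hg⟩ := isConj_iff.1 hy.2
          exact hr.trans (isConj_iff.2 ⟨g, by rw [← hg]; group⟩)
      rw [h1, ← Finset.sum_mul, hcl, ha, hd1]
      simp
      ring
    have e2 : ∀ y : G, ∑ χ : IrrCharacter G, (χ : G → ℂ) (y⁻¹ * x) * conj ((χ : G → ℂ) x) =
        if IsConj x (y⁻¹ * x) then (3 : ℂ) else 0 := by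
      intro y
      have := orth2 (y⁻¹ * x) x
      rw [this]
      by_cases h : IsConj (y⁻¹ * x) x
      · rw [if_pos h, if_pos h.symm, card_centralizer_eq_of_isConj h, hc]; norm_num
      · rw [if_neg h, if_neg (fun h' => h h'.symm)]
    have e3 := Finset.sum_comm (s := Finset.univ.filter (IsConj x)) (t := (Finset.univ : Finset (IrrCharacter G)))
      (f := fun y χ => (χ : G → ℂ) (y⁻¹ * x) * conj ((χ : G → ℂ) x))
    rw [Finset.sum_congr rfl fun y _ => e2 y, Finset.sum_congr rfl fun χ _ => e1 χ, ← Finset.mul_sum] at e3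
    rw [← e3, ← Finset.sum_filter, Finset.sum_const, nsmul_eq_mul, Finset.filter_filter]
    ring
  have h3 : ∑ χ : IrrCharacter G, (a χ) ^ 2 = 3 := by
    have := orth2 x x
    rw [if_pos (IsConj.refl x), hc] at this
    have e : ∀ χ : IrrCharacter G, (χ : G → ℂ) x * conj ((χ : G → ℂ) x) = ((a χ ^ 2 : ℤ) : ℂ) := by
      intro χ; rw [ha]; simp; ring
    rw [Finset.sum_congr rfl fun χ _ => e χ] at this
    exact_mod_cast this
  have h0 : ∑ χ : IrrCharacter G, a χ * d χ = 0 := by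
    have := sum_one_mul x
    rw [if_neg hx1] at this
    have e : ∀ χ : IrrCharacter G, (χ : G → ℂ) 1 * (χ : G → ℂ) x = ((a χ * d χ : ℤ) : ℂ) := by
      intro χ; rw [ha, hd1]; push_cast; ring
    rw [Finset.sum_congr rfl fun χ _ => e χ] at this
    exact_mod_cast this
  have hq := arith (⟨fun _ => 1, isIrr_one⟩ : IrrCharacter G) a d hd (by
    have := ha ⟨fun _ => 1, isIrr_one⟩
    have h1 : ((1 : ℤ) : ℂ) = (a ⟨fun _ => 1, isIrr_one⟩ : ℂ) := by rw [← this]; norm_num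
    exact_mod_cast h1.symm) (by
    have := hd1 ⟨fun _ => 1, isIrr_one⟩
    have h1 : ((1 : ℤ) : ℂ) = (d ⟨fun _ => 1, isIrr_one⟩ : ℂ) := by rw [← this]; norm_num
    exact_mod_cast h1.symm) h3 h0
  have hcq : (3 : ℚ) * ((Finset.univ.filter (fun y : G => IsConj x y ∧ IsConj x (y⁻¹ * x))).card : ℚ) =
      n * ∑ χ : IrrCharacter G, (a χ : ℚ) ^ 3 / (d χ : ℚ) := by
    exact_mod_cast hcount
  have hn0 : (0 : ℚ) < n := by
    have : 0 < Nat.card G := Nat.card_pos
    rw [← hcm] at this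
    have : 0 < n := by omega
    exact_mod_cast this
  have h5 : (n : ℚ) < 3 * ((Finset.univ.filter (fun y : G => IsConj x y ∧ IsConj x (y⁻¹ * x))).card : ℚ) := by
    rw [hcq]
    nlinarith
  have h6 : n < 3 * (Finset.univ.filter (fun y : G => IsConj x y ∧ IsConj x (y⁻¹ * x))).card := by exact_mod_cast h5
  omega

end Cfsg.Agent.H19.FT1
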