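import Mathlib
import Cfsg.Agent.H19_FT1
import Cfsg.Agent.H19_A6a
import Cfsg.Agent.H3_CharQuot

/-! Self-centralizing elementary abelian Sylow 3-subgroups of order nine: character theory. -/

set_option autoImplicit false
open scoped ComplexConjugate
namespace Cfsg.Agent.H19.A6b
open Cfsg Cfsg.Agent.H3.CharBasic Cfsg.Agent.H3.CharIrr Cfsg.Agent.H3.CharComplete
  Cfsg.Agent.H3.CharMult Cfsg.Agent.H3.CharInd Cfsg.Agent.H3.CharCalc Cfsg.Agent.H3.InvSum
  Cfsg.Agent.H3.CharGal Cfsg.Agent.H3.CharInt Cfsg.Agent.H3.CharQuot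

/-- counting, in terms of conjugates -/
theorem pairs {G : Type*} [Group G] [Fintype G] [DecidableEq G] {x y : G}
    (hcx : Nat.card (Subgroup.centralizer ({x} : Set G)) = 9) [DecidablePred (IsConj x)] :
    (Finset.univ.filter (fun p : G × G => p.1 * x * p.1⁻¹ * (p.2 * x * p.2⁻¹) = y)).card =
      81 * (Finset.univ.filter (fun z : G => IsConj x z ∧ IsConj x (z⁻¹ * y))).card := by
  rw [Finset.card_filter, Fintype.sum_prod_type]
  have h1 : ∀ z : G, ∑ b : G, (if z * (b * x * b⁻¹) = y then 1 else 0) = if IsConj x (z⁻¹ * y) then 9 else 0 := by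
    intro z
    have h2 := sum_conj (fun w => if z * w = y then (1 : ℕ) else 0) x
    rw [h2, hcx, Finset.sum_ite, Finset.sum_const_zero, add_zero, Finset.sum_const, smul_eq_mul, smul_eq_mul, mul_one]
    have h3 : Finset.filter (fun w => z * w = y) (Finset.univ.filter (IsConj x)) =
        if IsConj x (z⁻¹ * y) then {z⁻¹ * y} else ∅ := by
      ext w
      split_ifs with h
      · simp only [Finset.mem_filter, Finset.mem_univ, true_and, Finset.mem_singleton]
        constructor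
        · rintro ⟨_, h5⟩; rw [← h5]; group
        · rintro rfl; exact ⟨h, by group⟩
      · simp only [Finset.mem_filter, Finset.mem_univ, true_and, Finset.notMem_empty, iff_false, not_and]
        intro h4 h5
        apply h
        rw [← h5, inv_mul_cancel_left]; exact h4
    rw [h3]
    split_ifs <;> simp
  have h4 : ∀ a : G, ∑ b : G, (if (a, b).1 * x * (a, b).1⁻¹ * ((a, b).2 * x * (a, b).2⁻¹) = y then 1 else 0) =
      if IsConj x ((a * x * a⁻¹)⁻¹ * y) then 9 else 0 := fun a => h1 (a * x * a⁻¹)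
  rw [Finset.sum_congr rfl fun a _ => h4 a, sum_conj (fun z => if IsConj x (z⁻¹ * y) then 9 else 0) x, hcx,
    ← Finset.sum_filter, Finset.sum_const, Finset.filter_filter, smul_eq_mul, smul_eq_mul]
  ring

theorem res_sum {G : Type*} [Group G] {χ : G → ℂ} (h : IsCharacter G χ) (K : Subgroup G)
    [Fintype K] : ∃ m : ℤ, ∑ s : K, χ s = m * (Nat.card K : ℂ) := by
  obtain ⟨m, hm⟩ := ci_char_nat (IsChar.res h K) (IsChar.one (G := K))
  refine ⟨m, ?_⟩
  rw [classInner] at hm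
  have h0 : (Nat.card K : ℂ) ≠ 0 := by exact_mod_cast Nat.card_pos.ne'
  simp only [map_one, mul_one] at hm
  push_cast
  rw [← hm]
  field_simp

theorem mod_three {G : Type*} [Group G] [Finite G] {χ : G → ℂ} (h : IsCharacter G χ) {x : G} (hx : orderOf x = 3)
    (hr : IsConj x x⁻¹) {a d : ℤ} (ha : χ x = a) (hd : χ 1 = d) : (3 : ℤ) ∣ d - a := by
  classical
  letI : Fintype (Subgroup.zpowers x) := Fintype.ofFinite _
  obtain ⟨m, hm⟩ := res_sum h (Subgroup.zpowers x)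
  have h1 : ∑ s : Subgroup.zpowers x, χ s = χ 1 + χ x + χ x⁻¹ := by
    rw [← Equiv.sum_comp (finEquivZPowers (isOfFinOrder_of_finite x)) (fun s => χ s)]
    simp only [finEquivZPowers_apply]
    rw [Fin.sum_univ_eq_sum_range (fun i => χ (x ^ i)), hx]
    have h2 : x ^ 2 = x⁻¹ := by
      rw [eq_inv_iff_mul_eq_one, ← pow_succ]
      have := pow_orderOf_eq_one x
      rwa [hx] at this
    rw [Finset.sum_range_succ, Finset.sum_range_succ, Finset.sum_range_one, pow_zero, pow_one, h2]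
  rw [h1, Nat.card_zpowers, hx, ha, hd, ← IsClass.eq_of_isConj (IsChar.isClass h) hr, ha] at hm
  have h3 : d + a + a = m * 3 := by exact_mod_cast hm
  omega

/-- a nontrivial irreducible character with prescribed values -/
def Q {G : Type*} [Group G] (x y : G) (t a b : ℤ) : Prop :=
  1 ≤ t ∧ ∃ θ : G → ℂ, IsIrrCharacter G θ ∧ θ ≠ (fun _ => 1) ∧ θ 1 = t ∧ θ x = a ∧ θ y = b

theorem data {G : Type*} [Group G] [Fintype G] {x y : G} (hx : orderOf x = 3) (hy : orderOf y = 3)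
    (hcx : Nat.card (Subgroup.centralizer ({x} : Set G)) = 9)
    (hcy : Nat.card (Subgroup.centralizer ({y} : Set G)) = 9)
    (hrx : IsConj x x⁻¹) (hry : IsConj y y⁻¹) (hxy : ¬ IsConj x y) [DecidablePred (IsConj x)] :
    ∃ p D t1 t2 t3 e1 e2 e3 : ℤ, (p = 1 ∨ p = 2) ∧ Q x y D p (p - 3) ∧ Q x y t1 e1 e1 ∧ Q x y t2 e2 e2 ∧
      Q x y t3 e3 e3 ∧ e1 ^ 2 = 1 ∧ e2 ^ 2 = 1 ∧ e3 ^ 2 = 1 ∧
      1 + e1 * t1 + e2 * t2 + e3 * t3 + (2 * p - 3) * D = 0 ∧
      (Nat.card G : ℚ) * (1 + (e1 : ℚ) / t1 + (e2 : ℚ) / t2 + (e3 : ℚ) / t3 - 2 * (2 * (p : ℚ) - 3) / D) =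
        81 * ((Finset.univ.filter (fun z : G => IsConj x z ∧ IsConj x (z⁻¹ * y))).card : ℚ) := by
  classical
  have hx1 : x ≠ 1 := by rintro rfl; rw [orderOf_one] at hx; omega
  have hy1 : y ≠ 1 := by rintro rfl; rw [orderOf_one] at hy; omega
  letI : Fintype (IrrCharacter G) := Fintype.ofFinite _
  choose a ha using fun χ : IrrCharacter G => FT1.int_x (IsIrr.isCharacter χ.2) hx hrx
  choose b hb using fun χ : IrrCharacter G => FT1.int_x (IsIrr.isCharacter χ.2) hy hry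
  have hdeg : ∀ χ : IrrCharacter G, ∃ d : ℤ, (χ : G → ℂ) 1 = d ∧ 1 ≤ d := by
    intro χ
    obtain ⟨m, hm⟩ := IsChar.one_eq_nat (IsIrr.isCharacter χ.2)
    have h0 := IsIrr.one_ne_zero χ.2
    refine ⟨m, by rw [hm]; simp, ?_⟩
    have : m ≠ 0 := by
      rintro rfl
      exact h0 (by rw [hm]; simp)
    have : 1 ≤ m := by omega
    exact_mod_cast this
  choose d hd1 hd using hdeg
  have haa : ∑ χ : IrrCharacter G, (a χ) ^ 2 = 9 := by
    have := orth2 x x
    rw [if_pos (IsConj.refl x), hcx] at this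
    have e : ∀ χ : IrrCharacter G, (χ : G → ℂ) x * conj ((χ : G → ℂ) x) = ((a χ ^ 2 : ℤ) : ℂ) := by
      intro χ; rw [ha]; simp; ring
    rw [Finset.sum_congr rfl fun χ _ => e χ] at this
    exact_mod_cast this
  have hbb : ∑ χ : IrrCharacter G, (b χ) ^ 2 = 9 := by
    have := orth2 y y
    rw [if_pos (IsConj.refl y), hcy] at this
    have e : ∀ χ : IrrCharacter G, (χ : G → ℂ) y * conj ((χ : G → ℂ) y) = ((b χ ^ 2 : ℤ) : ℂ) := by
      intro χ; rw [hb]; simp; ring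
    rw [Finset.sum_congr rfl fun χ _ => e χ] at this
    exact_mod_cast this
  have hab : ∑ χ : IrrCharacter G, a χ * b χ = 0 := by
    have := orth2 x y
    rw [if_neg hxy] at this
    have e : ∀ χ : IrrCharacter G, (χ : G → ℂ) x * conj ((χ : G → ℂ) y) = ((a χ * b χ : ℤ) : ℂ) := by
      intro χ; rw [ha, hb]; simp
    rw [Finset.sum_congr rfl fun χ _ => e χ] at this
    exact_mod_cast this
  have had : ∑ χ : IrrCharacter G, a χ * d χ = 0 := by
    have := sum_one_mul x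
    rw [if_neg hx1] at this
    have e : ∀ χ : IrrCharacter G, (χ : G → ℂ) 1 * (χ : G → ℂ) x = ((a χ * d χ : ℤ) : ℂ) := by
      intro χ; rw [ha, hd1]; push_cast; ring
    rw [Finset.sum_congr rfl fun χ _ => e χ] at this
    exact_mod_cast this
  have hbd : ∑ χ : IrrCharacter G, b χ * d χ = 0 := by
    have := sum_one_mul y
    rw [if_neg hy1] at this
    have e : ∀ χ : IrrCharacter G, (χ : G → ℂ) 1 * (χ : G → ℂ) y = ((b χ * d χ : ℤ) : ℂ) := by
      intro χ; rw [hb, hd1]; push_cast; ring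
    rw [Finset.sum_congr rfl fun χ _ => e χ] at this
    exact_mod_cast this
  have one_val : ∀ {u : IrrCharacter G → ℤ} {g : G}, (∀ χ : IrrCharacter G, (χ : G → ℂ) g = u χ) →
      u ⟨fun _ => 1, isIrr_one⟩ = 1 := by
    intro u g hu
    have := hu ⟨fun _ => 1, isIrr_one⟩
    have h1 : ((1 : ℤ) : ℂ) = (u ⟨fun _ => 1, isIrr_one⟩ : ℂ) := by rw [← this]; norm_num
    exact_mod_cast h1.symm
  have h3 : ∀ χ, (3 : ℤ) ∣ a χ - b χ := by
    intro χ
    have h1 := mod_three (IsIrr.isCharacter χ.2) hx hrx (ha χ) (hd1 χ)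
    have h2 := mod_three (IsIrr.isCharacter χ.2) hy hry (hb χ) (hd1 χ)
    omega
  obtain ⟨p, X, Y, i, j, k, hp, haX, hbX, haY, hbY, hdd, hX0, hi0, hj0, hk0, hi1, hj1, hk1, hbi, hbj, hbk, hE0, hE1⟩ :=
    A6a.arith (⟨fun _ => 1, isIrr_one⟩ : IrrCharacter G) a b d hd (one_val ha) (one_val hb) (one_val hd1)
      haa hbb hab had hbd h3
  have hQ : ∀ χ : IrrCharacter G, χ ≠ ⟨fun _ => 1, isIrr_one⟩ → Q x y (d χ) (a χ) (b χ) := by
    intro χ hχ
    exact ⟨hd χ, χ, χ.2, fun h => hχ (Subtype.ext h), hd1 χ, ha χ, hb χ⟩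
  have hQX := hQ X hX0
  have hQi := hQ i hi0
  have hQj := hQ j hj0
  have hQk := hQ k hk0
  rw [haX, hbX] at hQX
  rw [hbi] at hQi
  rw [hbj] at hQj
  rw [hbk] at hQk
  refine ⟨p, d X, d i, d j, d k, a i, a j, a k, hp, hQX, hQi, hQj, hQk, hi1, hj1, hk1, hE0, ?_⟩
  rw [← hE1]
  have hm := class_mult x x y
  rw [pairs hcx] at hm
  have e : ∀ χ : IrrCharacter G, (χ : G → ℂ) x * (χ : G → ℂ) x * conj ((χ : G → ℂ) y) / (χ : G → ℂ) 1 =
      (((a χ : ℚ) ^ 2 * (b χ : ℚ) / (d χ : ℚ) : ℚ) : ℂ) := by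
    intro χ; rw [ha, hb, hd1]; simp; ring
  rw [Finset.sum_congr rfl fun χ _ => e χ] at hm
  have hm' : (((81 * (Finset.univ.filter (fun z : G => IsConj x z ∧ IsConj x (z⁻¹ * y))).card : ℕ) : ℚ) : ℂ) =
      (((Nat.card G : ℚ) * ∑ χ : IrrCharacter G, (a χ : ℚ) ^ 2 * (b χ : ℚ) / (d χ : ℚ) : ℚ) : ℂ) := by
    push_cast
    push_cast at hm
    exact hm
  have hm2 := Rat.cast_injective hm'
  push_cast at hm2
  exact hm2.symm

end Cfsg.Agent.H19.A6b
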