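import Mathlib
import Cfsg.Agent.H19_A6b
import Cfsg.Agent.H24_FratAut
import Cfsg.Agent.H1_Basic

/-! Self-centralizing elementary abelian Sylow 3-subgroups of order nine: group theory. -/

set_option autoImplicit false
namespace Cfsg.Agent.H19.A6c
open Subgroup

structure Cx {G : Type*} [Group G] (S : Subgroup G) : Prop where
  comm : ∀ a ∈ S, ∀ b ∈ S, a * b = b * a
  h3 : ∀ a ∈ S, a ^ 3 = 1
  h9 : Nat.card S = 9
  cen : ∀ s ∈ S, s ≠ 1 → Subgroup.centralizer ({s} : Set G) = S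
  n3 : ∀ x ∈ Subgroup.normalizer (S : Set G), x ^ 3 = 1 → x ∈ S
  cov : ∀ w : G, orderOf w = 3 → ∃ g : G, g * w * g⁻¹ ∈ S
  n27 : ¬ 27 ∣ Nat.card G

theorem Cx.of {G : Type*} [Group G] [Finite G] (P : Sylow 3 G) (hcomm : ∀ a ∈ (P : Subgroup G), ∀ b ∈ (P : Subgroup G), a * b = b * a)
    (hexp : ∀ a ∈ (P : Subgroup G), a ^ 3 = 1) (hcard : Nat.card P = 9)
    (hcent : ∀ s ∈ (P : Subgroup G), s ≠ 1 → Subgroup.centralizer ({s} : Set G) = P) : Cx (P : Subgroup G) := by
  haveI : Fact (Nat.Prime 3) := ⟨by norm_num⟩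
  have hpow : ∀ w : G, w ^ 3 = 1 → IsPGroup 3 (Subgroup.zpowers w) := by
    intro w hw
    rw [IsPGroup.iff_card]
    rw [Nat.card_zpowers]
    exact (Nat.dvd_prime_pow (by norm_num)).1 (by rw [pow_one]; exact orderOf_dvd_of_pow_eq_one hw : orderOf w ∣ 3 ^ 1) |>.imp
      (fun _ h => h.2)
  refine ⟨hcomm, hexp, hcard, hcent, ?_, ?_, ?_⟩
  · intro x hx h3
    have h1 : IsPGroup 3 ((Subgroup.zpowers x ⊔ (P : Subgroup G) : Subgroup G)) :=
      IsPGroup.to_sup_of_normal_right' (hpow x h3) P.isPGroup' (by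
        rw [Subgroup.zpowers_le]; exact hx)
    have h2 := P.is_maximal' h1 le_sup_right
    have h3 : x ∈ (Subgroup.zpowers x ⊔ (P : Subgroup G) : Subgroup G) :=
      (le_sup_left : Subgroup.zpowers x ≤ _) (Subgroup.mem_zpowers x)
    rw [h2] at h3; exact h3
  · intro w hw
    obtain ⟨Q, hQ⟩ := (hpow w (by rw [← hw]; exact pow_orderOf_eq_one w)).exists_le_sylow
    obtain ⟨g, hg⟩ := MulAction.exists_smul_eq G Q P
    refine ⟨g, ?_⟩
    rw [← hg]
    have : w ∈ (Q : Subgroup G) := hQ (Subgroup.mem_zpowers w)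
    rw [Sylow.coe_subgroup_smul]
    exact Subgroup.smul_mem_pointwise_smul _ (MulAut.conj g) _ this
  · intro h27
    have h1 := P.card_mul_index
    rw [hcard] at h1
    rw [← h1, show (27 : ℕ) = 9 * 3 by norm_num] at h27
    exact P.not_dvd_index (Nat.dvd_of_mul_dvd_mul_left (by norm_num) h27)

variable {G : Type*} [Group G] {S : Subgroup G}

theorem Cx.mem_cen (h : Cx S) {s x : G} (hs : s ∈ S) (h1 : s ≠ 1) (hx : x * s = s * x) : x ∈ S := by
  rw [← h.cen s hs h1, Subgroup.mem_centralizer_singleton_iff]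
  exact hx

theorem Cx.ti (h : Cx S) {s g : G} (hs : s ∈ S) (h1 : s ≠ 1) (hg : g * s * g⁻¹ ∈ S) :
    g ∈ Subgroup.normalizer (S : Set G) := by
  have hg1 : g * s * g⁻¹ ≠ 1 := by
    intro h2; exact h1 (by simpa using h2)
  rw [Subgroup.mem_normalizer_iff]
  intro x
  constructor
  · intro hx
    apply h.mem_cen hg hg1
    have := h.comm x hx s hs
    calc g * x * g⁻¹ * (g * s * g⁻¹) = g * (x * s) * g⁻¹ := by group
      _ = g * (s * x) * g⁻¹ := by rw [this]
      _ = _ := by group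
  · intro hx
    apply h.mem_cen hs h1
    have := h.comm _ hx _ hg
    have h2 : g * (x * s) * g⁻¹ = g * (s * x) * g⁻¹ := by
      calc g * (x * s) * g⁻¹ = g * x * g⁻¹ * (g * s * g⁻¹) := by group
        _ = _ := by rw [this]; group
    exact mul_left_cancel (mul_right_cancel h2)

theorem Cx.order (h : Cx S) {s : G} (hs : s ∈ S) (h1 : s ≠ 1) : orderOf s = 3 := by
  exact orderOf_eq_prime (hp := ⟨by norm_num⟩) (h.h3 s hs) h1

theorem Cx.inv (h : Cx S) {t s : G} (ht : t ∈ Subgroup.normalizer (S : Set G)) (ht2 : orderOf t = 2) (hs : s ∈ S) :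
    t * s * t⁻¹ = s⁻¹ := by
  have htt : t * t = 1 := by rw [← pow_two, ← ht2]; exact pow_orderOf_eq_one t
  have hti : t⁻¹ = t := inv_eq_of_mul_eq_one_left htt
  have h1 : t * s * t⁻¹ ∈ S := (Subgroup.mem_normalizer_iff.1 ht s).1 hs
  by_contra hne
  have h2 : s * (t * s * t⁻¹) ≠ 1 := fun h' => hne (eq_inv_of_mul_eq_one_right h')
  have h3 : t ∈ S := by
    apply h.mem_cen (mul_mem hs h1) h2
    rw [h.comm _ hs _ h1, hti]
    calc t * (t * s * t * s) = (t * t) * s * t * s := by group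
      _ = s * t * s * (t * t) := by rw [htt]; group
      _ = s * (t * s * t) * t := by group
      _ = (t * s * t) * s * t := by
        have := h.comm _ hs _ h1
        rw [hti] at this
        rw [this]
  have h4 := h.h3 t h3
  have h5 : orderOf t ∣ 3 := orderOf_dvd_of_pow_eq_one h4
  rw [ht2] at h5
  omega

end Cfsg.Agent.H19.A6c
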