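import Mathlib
import Cfsg.Agent.H19_A6c

/-! Self-centralizing elementary abelian Sylow 3-subgroups of order nine: solutions of `y z = x`. -/

set_option autoImplicit false
namespace Cfsg.Agent.H19.A6c
open Subgroup
variable {G : Type*} [Group G] {S : Subgroup G}

theorem tri_comm {x y v : G} (hx : x ^ 3 = 1) (hy : y ^ 3 = 1) (hz : (y⁻¹ * x) ^ 3 = 1) (hv : v = y * x) :
    v * (x * v * x⁻¹) = x * v * x⁻¹ * v := by
  have hx2 : x * x = x⁻¹ := by
    rw [eq_inv_iff_mul_eq_one, ← pow_two, ← pow_succ]; exact hx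
  have hy2 : y * y = y⁻¹ := by
    rw [eq_inv_iff_mul_eq_one, ← pow_two, ← pow_succ]; exact hy
  have key : x * y⁻¹ * x = y * x⁻¹ * y := by
    have h1 : (y⁻¹ * x) * (y⁻¹ * x) * (y⁻¹ * x) = 1 := by
      rw [← pow_two, ← pow_succ]; exact hz
    calc x * y⁻¹ * x = y * ((y⁻¹ * x) * (y⁻¹ * x) * (y⁻¹ * x)) * x⁻¹ * y := by group
      _ = _ := by rw [h1]; group
  have hVW : v * (x * v * x⁻¹) = y * x⁻¹ * y := by
    rw [hv, show y * x * (x * (y * x) * x⁻¹) = y * (x * x) * y by group, hx2]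
  have hWV : x * v * x⁻¹ * v = y * x⁻¹ * y := by
    rw [hv, show x * (y * x) * x⁻¹ * (y * x) = x * (y * y) * x by group, hy2, key]
  rw [hVW, hWV]

/-- the (3,3,3) relations, nonsplit case -/
theorem tri_conj {x y v : G} (hx : x ^ 3 = 1) (hy : y ^ 3 = 1) (hz : (y⁻¹ * x) ^ 3 = 1) (hv : v = y * x)
    {m : ℕ} (hm : v ^ (3 * m) = v) : IsConj x⁻¹ y := by
  have hx2 : x * x = x⁻¹ := by
    rw [eq_inv_iff_mul_eq_one, ← pow_two, ← pow_succ]; exact hx
  have hy2 : y * y = y⁻¹ := by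
    rw [eq_inv_iff_mul_eq_one, ← pow_two, ← pow_succ]; exact hy
  have key : x * y⁻¹ * x = y * x⁻¹ * y := by
    have h1 : (y⁻¹ * x) * (y⁻¹ * x) * (y⁻¹ * x) = 1 := by
      rw [← pow_two, ← pow_succ]; exact hz
    calc x * y⁻¹ * x = y * ((y⁻¹ * x) * (y⁻¹ * x) * (y⁻¹ * x)) * x⁻¹ * y := by group
      _ = _ := by rw [h1]; group
  obtain ⟨W, hW⟩ : ∃ W, W = x * v * x⁻¹ := ⟨_, rfl⟩
  have hWe : W = x * y := by rw [hW, hv]; group
  have hVW : v * W = y * x⁻¹ * y := by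
    rw [hWe, hv, show y * x * (x * y) = y * (x * x) * y by group, hx2]
  have hWV : W * v = y * x⁻¹ * y := by
    rw [hWe, hv, show x * y * (y * x) = x * (y * y) * x by group, hy2, key]
  have hc : Commute v W := by rw [commute_iff_eq, hVW, hWV]
  have c1 : x⁻¹ * W * x = v := by rw [hW]; group
  have c2 : x⁻¹ * v * x = (v * W)⁻¹ := by
    rw [hVW, hv]
    calc x⁻¹ * (y * x) * x = x⁻¹ * y * (x * x) := by group
      _ = x⁻¹ * y * x⁻¹ := by rw [hx2]
      _ = (x * y⁻¹ * x)⁻¹ := by group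
      _ = (y * x⁻¹ * y)⁻¹ := by rw [key]
  obtain ⟨A, hA⟩ : ∃ A, A = v ^ m := ⟨_, rfl⟩
  obtain ⟨B, hB⟩ : ∃ B, B = W ^ m := ⟨_, rfl⟩
  have hAB : Commute A B := by rw [hA, hB]; exact (hc.pow_left m).pow_right m
  have d1 : x⁻¹ * B * x = A := by
    have := map_pow (MulAut.conj x⁻¹) W m
    simp only [MulAut.conj_apply, inv_inv] at this
    rw [hB, hA, this, c1]
  have d2 : x⁻¹ * A * x = (A * B)⁻¹ := by
    have := map_pow (MulAut.conj x⁻¹) v m
    simp only [MulAut.conj_apply, inv_inv] at this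
    rw [hA, hB, this, c2, inv_pow, hc.mul_pow]
  have hA3 : A ^ 3 = v := by rw [hA, ← pow_mul, mul_comm m 3, hm]
  refine isConj_iff.2 ⟨A * B⁻¹, ?_⟩
  have e1 : (A * B⁻¹) * x⁻¹ * (A * B⁻¹)⁻¹ = A * B⁻¹ * ((x⁻¹ * B * x) * (x⁻¹ * A * x)⁻¹) * x⁻¹ := by group
  rw [e1, d1, d2, inv_inv]
  have e2 : A * B⁻¹ * (A * (A * B)) = A ^ 3 := by
    calc A * B⁻¹ * (A * (A * B)) = A * B⁻¹ * (A * (B * A)) := by rw [hAB.eq]
      _ = A * B⁻¹ * ((A * B) * A) := by group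
      _ = A * B⁻¹ * ((B * A) * A) := by rw [hAB.eq]
      _ = A ^ 3 := by rw [pow_succ, pow_two]; group
  rw [e2, hA3, hv]; group

theorem Cx.sol [Finite G] (h : Cx S) {x y : G} (hx : x ∈ S) (hx1 : x ≠ 1) (hy : orderOf y = 3)
    (hz : (y⁻¹ * x) ^ 3 = 1) (hn : ¬ IsConj x⁻¹ y) : y ∈ S := by
  have hx3 := h.h3 x hx
  have hy3 : y ^ 3 = 1 := by rw [← hy]; exact pow_orderOf_eq_one y
  obtain ⟨v, hv⟩ : ∃ v, v = y * x := ⟨_, rfl⟩
  have hd : 3 ∣ orderOf v := by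
    by_contra hd
    have hcop : Nat.Coprime 3 (orderOf v) := (Nat.Prime.coprime_iff_not_dvd (by norm_num)).2 hd
    have hm : ∃ m, v ^ (3 * m) = v := by
      rcases Nat.lt_or_ge 1 (orderOf v) with h1 | h1
      · obtain ⟨m, _, hm⟩ := Nat.exists_mul_mod_eq_one_of_coprime hcop h1
        refine ⟨m, ?_⟩
        rw [← pow_mod_orderOf, hm, pow_one]
      · have : orderOf v = 1 := by have := orderOf_pos v; omega
        rw [orderOf_eq_one_iff] at this
        exact ⟨0, by rw [this]; simp⟩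
    obtain ⟨m, hm⟩ := hm
    exact hn (tri_conj hx3 hy3 hz hv hm)
  obtain ⟨w, hw⟩ : ∃ w, w = v ^ (orderOf v / 3) := ⟨_, rfl⟩
  have hw3 : orderOf w = 3 := by
    rw [hw, orderOf_pow_of_dvd (Nat.div_ne_zero_iff_of_dvd hd |>.2 ⟨(orderOf_pos v).ne', by norm_num⟩)
      (Nat.div_dvd_of_dvd hd)]
    exact Nat.div_div_self hd (orderOf_pos v).ne'
  obtain ⟨g, hg⟩ := h.cov w hw3
  have hw1 : g * w * g⁻¹ ≠ 1 := by
    intro h2
    have : w = 1 := by simpa using h2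
    rw [this, orderOf_one] at hw3; omega
  have hv1 : v ≠ 1 := by rintro rfl; rw [orderOf_one] at hd; omega
  -- the conjugates
  have hvS : g * v * g⁻¹ ∈ S := by
    apply h.mem_cen hg hw1
    have : v * w = w * v := by rw [hw]; exact ((Commute.refl v).pow_right _).eq
    calc g * v * g⁻¹ * (g * w * g⁻¹) = g * (v * w) * g⁻¹ := by group
      _ = _ := by rw [this]; group
  have hv1' : g * v * g⁻¹ ≠ 1 := by
    intro h2; exact hv1 (by simpa using h2)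
  have hcomm := tri_comm hx3 hy3 hz hv
  have hWS : g * (x * v * x⁻¹) * g⁻¹ ∈ S := by
    apply h.mem_cen hvS hv1'
    calc g * (x * v * x⁻¹) * g⁻¹ * (g * v * g⁻¹) = g * ((x * v * x⁻¹) * v) * g⁻¹ := by group
      _ = _ := by rw [← hcomm]; group
  have hxN : g * x * g⁻¹ ∈ Subgroup.normalizer (S : Set G) := by
    apply h.ti hvS hv1'
    have : g * x * g⁻¹ * (g * v * g⁻¹) * (g * x * g⁻¹)⁻¹ = g * (x * v * x⁻¹) * g⁻¹ := by group
    rw [this]; exact hWS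
  have hxS : g * x * g⁻¹ ∈ S := by
    apply h.n3 _ hxN
    have := map_pow (MulAut.conj g) x 3
    simp only [MulAut.conj_apply] at this
    rw [← this, hx3]; simp
  have hgN := h.ti hx hx1 hxS
  have hyS : g * y * g⁻¹ ∈ S := by
    have : g * y * g⁻¹ = (g * v * g⁻¹) * (g * x * g⁻¹)⁻¹ := by rw [hv]; group
    rw [this]; exact mul_mem hvS (inv_mem hxS)
  exact (Subgroup.mem_normalizer_iff.1 hgN y).2 hyS

end Cfsg.Agent.H19.A6c
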