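import Mathlib
import Cfsg.Prelude.Def_Involutions
import Cfsg.Agent.H4_Inv
import Cfsg.Agent.H4_Util
import Cfsg.Agent.H4_SE

set_option autoImplicit false

/-!
Finite groups in which centralizers of involutions are abelian: basic counting.
Points are Sylow 2-subgroups.
-/

namespace Cfsg.Agent.H19.CA1

open Cfsg.Agent.H4.Inv Cfsg.Agent.H4.Util Cfsg.Agent.H4.SE

variable {G : Type*} [Group G] [Finite G]

/-- the hypothesis -/
def Hyp (G : Type*) [Group G] : Prop := ∀ t : G, orderOf t = 2 → ∀ a b : G, Commute a t → Commute b t → a * b = b * a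

/-- centralizer of a Sylow 2-subgroup -/
abbrev CC (P : Sylow 2 G) : Subgroup G := Subgroup.centralizer (((P : Subgroup G) : Set G))

omit [Finite G] in
theorem mem_CC {P : Sylow 2 G} {a : G} : a ∈ CC P ↔ ∀ x ∈ (P : Subgroup G), x * a = a * x :=
  Subgroup.mem_centralizer_iff

omit [Finite G] in
theorem mem_CC_smul {P : Sylow 2 G} {g a : G} : a ∈ CC (g • P) ↔ g⁻¹ * a * g ∈ CC P := by
  rw [mem_CC, mem_CC]
  constructor
  · intro h x hx
    have h1 := h (g * x * g⁻¹) (by rw [mem_smul_sylow]; have e : g⁻¹ * (g * x * g⁻¹) * g = x := by group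
                                   rw [e]; exact hx)
    have h2 : g⁻¹ * (g * x * g⁻¹ * a) * g = g⁻¹ * (a * (g * x * g⁻¹)) * g := by rw [h1]
    calc x * (g⁻¹ * a * g) = g⁻¹ * (g * x * g⁻¹ * a) * g := by group
      _ = _ := by rw [h2]; group
  · intro h x hx
    rw [mem_smul_sylow] at hx
    have h1 := h _ hx
    calc x * a = g * ((g⁻¹ * x * g) * (g⁻¹ * a * g)) * g⁻¹ := by group
      _ = _ := by rw [h1]; group

omit [Finite G] in
theorem smul_eq_iff {P : Sylow 2 G} {g : G} : g • P = P ↔ g ∈ Subgroup.normalizer ((P : Subgroup G) : Set G) :=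
  Sylow.smul_eq_iff_mem_normalizer

omit [Finite G] in
theorem smul_eq_of_CC {P : Sylow 2 G} {g : G} (h : g ∈ CC P) : g • P = P :=
  smul_eq_iff.2 (Subgroup.centralizer_le_normalizer _ h)

theorem exists_inv (he : Even (Nat.card G)) (P : Sylow 2 G) : ∃ t ∈ (P : Subgroup G), orderOf t = 2 := by
  haveI : Fact (Nat.Prime 2) := ⟨Nat.prime_two⟩
  have h2 : 2 ∣ Nat.card P := P.dvd_card_of_dvd_card he.two_dvd
  obtain ⟨t, ht⟩ := exists_prime_orderOf_dvd_card' (G := (P : Subgroup G)) 2 h2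
  exact ⟨t, t.2, by rw [Subgroup.orderOf_coe]; exact ht⟩

theorem sylow_comm (h : Hyp G) (T : Sylow 2 G) :
    ∀ a ∈ (T : Subgroup G), ∀ b ∈ (T : Subgroup G), a * b = b * a := by
  haveI : Fact (Nat.Prime 2) := ⟨Nat.prime_two⟩
  by_cases hT : Nontrivial (T : Subgroup G)
  · have h1 := T.isPGroup'.center_nontrivial
    have h2 : IsPGroup 2 (Subgroup.center (T : Subgroup G)) := T.isPGroup'.to_subgroup _
    obtain ⟨z, hz⟩ : ∃ z : Subgroup.center (T : Subgroup G), orderOf z = 2 := by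
      apply exists_prime_orderOf_dvd_card'
      obtain ⟨k, hk⟩ := (IsPGroup.iff_card (p := 2)).mp h2
      rcases Nat.eq_zero_or_pos k with h0 | h0
      · exfalso
        rw [h0, pow_zero] at hk
        have := Finite.one_lt_card (α := Subgroup.center (T : Subgroup G))
        omega
      · rw [hk]; exact dvd_pow_self 2 h0.ne'
    have hz2 : orderOf ((z : (T : Subgroup G)) : G) = 2 := by
      rw [Subgroup.orderOf_coe, Subgroup.orderOf_coe]; exact hz
    have hc : ∀ a ∈ (T : Subgroup G), Commute a ((z : (T : Subgroup G)) : G) := by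
      intro a ha
      exact congrArg Subtype.val (Subgroup.mem_center_iff.mp z.2 ⟨a, ha⟩)
    exact fun a ha b hb => h _ hz2 a b (hc a ha) (hc b hb)
  · rw [not_nontrivial_iff_subsingleton] at hT
    have h1 : ∀ a ∈ (T : Subgroup G), a = 1 := fun a ha =>
      congrArg Subtype.val (Subsingleton.elim (⟨a, ha⟩ : (T : Subgroup G)) 1)
    exact fun a ha b hb => by rw [h1 a ha, h1 b hb]

theorem le_CC (h : Hyp G) (P : Sylow 2 G) : (P : Subgroup G) ≤ CC P := by
  intro a ha
  rw [mem_CC]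
  exact fun x hx => sylow_comm h P x hx a ha

theorem cent_iff (h : Hyp G) {P : Sylow 2 G} {t a : G} (ht : orderOf t = 2) (htP : t ∈ (P : Subgroup G)) :
    Commute a t ↔ a ∈ CC P := by
  constructor
  · intro ha
    rw [mem_CC]
    exact fun x hx => h t ht x a (sylow_comm h P x hx t htP) ha
  · intro ha
    exact (mem_CC.1 ha t htP).symm

theorem CC_comm (h : Hyp G) (he : Even (Nat.card G)) (P : Sylow 2 G) : ∀ a ∈ CC P, ∀ b ∈ CC P, a * b = b * a := by
  obtain ⟨t, htP, ht⟩ := exists_inv he P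
  intro a ha b hb
  exact h t ht a b ((cent_iff h ht htP).2 ha) ((cent_iff h ht htP).2 hb)

theorem le_of_le_normalizer {P Q : Sylow 2 G} (hQ : ∀ x ∈ (Q : Subgroup G), x • P = P) : P = Q := by
  haveI : Fact (Nat.Prime 2) := ⟨Nat.prime_two⟩
  have h1 := Q.isPGroup'.inf_normalizer_sylow P
  have h2 : (Q : Subgroup G) ≤ P := by
    intro x hx
    have h3 : x ∈ (Q : Subgroup G) ⊓ Subgroup.normalizer ((P : Subgroup G) : Set G) := ⟨hx, smul_eq_iff.1 (hQ x hx)⟩
    have h6 : x ∈ (Q : Subgroup G) ⊓ (P : Subgroup G) := h1 ▸ h3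
    exact h6.2
  exact Sylow.ext (Q.is_maximal' P.isPGroup' h2)

theorem uniq (h : Hyp G) {P Q : Sylow 2 G} {t : G} (ht : orderOf t = 2) (hP : t ∈ (P : Subgroup G))
    (hQ : t ∈ (Q : Subgroup G)) : P = Q := by
  apply le_of_le_normalizer
  intro x hx
  exact smul_eq_of_CC ((cent_iff h ht hP).1 (sylow_comm h Q x hx t hQ))

omit [Finite G] in
theorem mem_of_fix [Finite G] {P : Sylow 2 G} {t : G} {k : ℕ} (ht : orderOf t = 2 ^ k) (hf : t • P = P) : t ∈ (P : Subgroup G) := by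
  haveI : Fact (Nat.Prime 2) := ⟨Nat.prime_two⟩
  have h3 : IsPGroup 2 (Subgroup.zpowers t) := zpowers_isPGroup ht
  have h4 := h3.inf_normalizer_sylow P
  have h5 : t ∈ Subgroup.zpowers t ⊓ Subgroup.normalizer ((P : Subgroup G) : Set G) :=
    ⟨Subgroup.mem_zpowers _, smul_eq_iff.1 hf⟩
  have h6 : t ∈ Subgroup.zpowers t ⊓ (P : Subgroup G) := h4 ▸ h5
  exact h6.2

theorem fix_iff {P : Sylow 2 G} {t : G} (ht : orderOf t = 2) : t • P = P ↔ t ∈ (P : Subgroup G) :=
  ⟨fun hf => mem_of_fix (k := 1) (by simpa using ht) hf, fun hm => smul_eq_iff.2 (Subgroup.le_normalizer hm)⟩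

theorem fix_unique (h : Hyp G) {P Q : Sylow 2 G} {t : G} (ht : orderOf t = 2) (hP : t • P = P) (hQ : t • Q = Q) : P = Q :=
  uniq h ht ((fix_iff ht).1 hP) ((fix_iff ht).1 hQ)

theorem stronglyEmbedded (h : Hyp G) (he : Even (Nat.card G)) {P Q : Sylow 2 G} (hPQ : P ≠ Q) :
    Cfsg.IsStronglyEmbedded (Subgroup.normalizer ((P : Subgroup G) : Set G)) := by
  haveI : Fact (Nat.Prime 2) := ⟨Nat.prime_two⟩
  refine ⟨?_, ?_, ?_⟩
  · intro h0
    obtain ⟨g, hg⟩ := MulAction.exists_smul_eq G P Q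
    have : g • P = P := smul_eq_iff.2 (by rw [h0]; trivial)
    exact hPQ (this.symm.trans hg)
  · obtain ⟨t, htP, ht⟩ := exists_inv he P
    exact even_of_mem ht (Subgroup.le_normalizer htP)
  · intro g hg
    rw [← Nat.not_even_iff_odd]
    intro heven
    obtain ⟨t, ht⟩ := exists_prime_orderOf_dvd_card' (G := ↥(Subgroup.normalizer ((P : Subgroup G) : Set G) ⊓
      (Subgroup.normalizer ((P : Subgroup G) : Set G)).map (MulAut.conj g).toMonoidHom)) 2 heven.two_dvd
    have ht2 : orderOf (t : G) = 2 := by rw [Subgroup.orderOf_coe]; exact ht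
    obtain ⟨h1, h2⟩ := (mem_inf_conj _ g (t : G)).mp t.2
    apply hg
    rw [← smul_eq_iff]
    apply fix_unique h ht2 _ (smul_eq_iff.2 h1)
    rw [← smul_eq_iff, mul_smul, mul_smul, inv_smul_eq_iff] at h2
    exact h2

omit [Finite G] in
theorem smul_mk {P : Sylow 2 G} (g a b : G) :
    g • (QuotientGroup.mk a : G ⧸ Subgroup.normalizer ((P : Subgroup G) : Set G)) = QuotientGroup.mk b ↔ g • (a • P) = b • P := by
  change (QuotientGroup.mk (g * a) : G ⧸ Subgroup.normalizer ((P : Subgroup G) : Set G)) = QuotientGroup.mk b ↔ _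
  rw [QuotientGroup.eq, ← smul_eq_iff, mul_smul, inv_smul_eq_iff, mul_smul, eq_comm]

/-- the number of involutions of a Sylow 2-subgroup -/
noncomputable def mm (P : Sylow 2 G) : ℕ := Nat.card {t : G // orderOf t = 2 ∧ t ∈ (P : Subgroup G)}

theorem card_swap (h : Hyp G) (he : Even (Nat.card G)) {P Q : Sylow 2 G} (hPQ : P ≠ Q) :
    Nat.card {t : G // orderOf t = 2 ∧ t • P = Q} = mm P := by
  haveI : Fact (Nat.Prime 2) := ⟨Nat.prime_two⟩
  have hSE := stronglyEmbedded h he hPQ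
  obtain ⟨g, hg⟩ := MulAction.exists_smul_eq G P Q
  have h1 := card_Im hSE (QuotientGroup.mk 1) (QuotientGroup.mk g) (by
    intro h0
    have h2 := (smul_mk (P := P) 1 1 g).1 (by rw [one_smul]; exact h0)
    rw [one_smul, one_smul, hg] at h2
    exact hPQ h2)
  have e1 : Nat.card {t : G // orderOf t = 2 ∧ t • P = Q} = Nat.card (Im (Subgroup.normalizer ((P : Subgroup G) : Set G))
      (QuotientGroup.mk 1) (QuotientGroup.mk g)) := by
    refine Nat.card_congr (Equiv.subtypeEquivRight fun t => ?_)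
    rw [smul_mk, one_smul, hg]
  rw [e1, h1, mm]
  refine Nat.card_congr (Equiv.subtypeEquivRight fun t => ?_)
  constructor
  · rintro ⟨a, b⟩; exact ⟨a, (fix_iff a).1 (smul_eq_iff.2 b)⟩
  · rintro ⟨a, b⟩; exact ⟨a, smul_eq_iff.1 ((fix_iff a).2 b)⟩

theorem mm_pos (he : Even (Nat.card G)) (P : Sylow 2 G) : 0 < mm P := by
  obtain ⟨t, htP, ht⟩ := exists_inv he P
  haveI : Nonempty {t : G // orderOf t = 2 ∧ t ∈ (P : Subgroup G)} := ⟨⟨t, ht, htP⟩⟩
  exact Nat.card_pos

omit [Finite G] in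
theorem mm_smul (P : Sylow 2 G) (g : G) : mm (g • P) = mm P := by
  unfold mm
  refine Nat.card_congr ⟨fun t => ⟨g⁻¹ * t * g, ?_, ?_⟩, fun t => ⟨g * t * g⁻¹, ?_, ?_⟩, ?_, ?_⟩
  · have := orderOf_conj g⁻¹ t.1
    rw [inv_inv] at this
    rw [this, t.2.1]
  · exact (mem_smul_sylow P g t.1).1 t.2.2
  · rw [orderOf_conj]; exact t.2.1
  · rw [mem_smul_sylow]
    have e : g⁻¹ * (g * t.1 * g⁻¹) * g = t.1 := by group
    rw [e]; exact t.2.2
  · intro t; apply Subtype.ext; simp only; group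
  · intro t; apply Subtype.ext; simp only; group

theorem mm_eq (P Q : Sylow 2 G) : mm P = mm Q := by
  haveI : Fact (Nat.Prime 2) := ⟨Nat.prime_two⟩
  obtain ⟨g, hg⟩ := MulAction.exists_smul_eq G Q P
  rw [← hg, mm_smul]

/-- two point stabilizer -/
def DD (P Q : Sylow 2 G) : Subgroup G := MulAction.stabilizer G P ⊓ MulAction.stabilizer G Q

omit [Finite G] in
theorem mem_DD {P Q : Sylow 2 G} {g : G} : g ∈ DD P Q ↔ g • P = P ∧ g • Q = Q := by
  unfold DD
  rw [Subgroup.mem_inf, MulAction.mem_stabilizer_iff, MulAction.mem_stabilizer_iff]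

theorem DD_odd (h : Hyp G) {P Q : Sylow 2 G} (hPQ : P ≠ Q) : Odd (Nat.card (DD P Q)) := by
  haveI : Fact (Nat.Prime 2) := ⟨Nat.prime_two⟩
  rw [← Nat.not_even_iff_odd]
  intro heven
  obtain ⟨t, ht⟩ := exists_prime_orderOf_dvd_card' (G := ↥(DD P Q)) 2 heven.two_dvd
  have ht2 : orderOf (t : G) = 2 := by rw [Subgroup.orderOf_coe]; exact ht
  obtain ⟨h1, h2⟩ := mem_DD.1 t.2
  exact hPQ (fix_unique h ht2 h1 h2)

theorem odd_of_mem {K : Subgroup G} (hK : Odd (Nat.card K)) {x : G} (hx : x ∈ K) : Odd (orderOf x) := by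
  have h1 := orderOf_dvd_natCard (⟨x, hx⟩ : K)
  rw [← Subgroup.orderOf_coe] at h1
  exact Odd.of_dvd_nat hK h1

omit [Finite G] in
theorem eq_one_of_sq {x : G} (ho : Odd (orderOf x)) (h2 : x * x = 1) : x = 1 := by
  have h1 : orderOf x ∣ 2 := orderOf_dvd_of_pow_eq_one (by rw [pow_two, h2])
  rcases (Nat.dvd_prime Nat.prime_two).1 h1 with h | h
  · exact orderOf_eq_one_iff.1 h
  · rw [h] at ho; exact absurd ho (by decide)

theorem conj_inv_DD (h : Hyp G) (he : Even (Nat.card G)) {P Q : Sylow 2 G} (hPQ : P ≠ Q) {s t : G} (hs : orderOf s = 2)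
    (ht : orderOf t = 2) (hsP : s ∈ (P : Subgroup G)) (htP : t ∈ (P : Subgroup G)) : ∃ d ∈ DD P Q, d * s * d⁻¹ = t := by
  haveI : Fact (Nat.Prime 2) := ⟨Nat.prime_two⟩
  have hSE := stronglyEmbedded h he hPQ
  obtain ⟨g, hg⟩ := MulAction.exists_smul_eq G P Q
  obtain ⟨d, h1, h2, h3⟩ := conj_two_point hSE (x := QuotientGroup.mk 1) (y := QuotientGroup.mk g) (by
    intro h0
    have h2 := (smul_mk (P := P) 1 1 g).1 (by rw [one_smul]; exact h0)
    rw [one_smul, one_smul, hg] at h2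
    exact hPQ h2) hs ht (by rw [smul_mk, one_smul]; exact (fix_iff hs).2 hsP) (by rw [smul_mk, one_smul]; exact (fix_iff ht).2 htP)
  rw [smul_mk, one_smul] at h1
  rw [smul_mk, hg] at h2
  exact ⟨d, mem_DD.2 ⟨h1, h2⟩, h3⟩

omit [Finite G] in
/-- orbit-stabilizer for conjugation -/
theorem orb (D : Subgroup G) (X : Set G) (t : G) (htr : ∀ s ∈ X, ∃ d ∈ D, d * t * d⁻¹ = s)
    (hinv : ∀ d ∈ D, d * t * d⁻¹ ∈ X) : Nat.card D = Nat.card X * Nat.card ↥(D ⊓ Subgroup.centralizer ({t} : Set G)) := by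
  let K := (Subgroup.centralizer ({t} : Set G)).subgroupOf D
  have hK : Nat.card K = Nat.card ↥(D ⊓ Subgroup.centralizer ({t} : Set G)) := by
    have hKe : K = (D ⊓ Subgroup.centralizer ({t} : Set G)).subgroupOf D := by
      ext x
      simp [K, Subgroup.mem_subgroupOf]
    rw [hKe]
    exact Nat.card_congr (Subgroup.subgroupOfEquivOfLe inf_le_left).toEquiv
  have key : ∀ a b : D, (a : G) * t * (a : G)⁻¹ = b * t * (b : G)⁻¹ ↔ a⁻¹ * b ∈ K := by
    intro a b
    rw [Subgroup.mem_subgroupOf, Subgroup.mem_centralizer_singleton_iff]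
    simp only [Subgroup.coe_mul, Subgroup.coe_inv]
    constructor
    · intro hab
      calc (a : G)⁻¹ * b * t = (a : G)⁻¹ * (b * t * (b : G)⁻¹) * b := by group
        _ = (a : G)⁻¹ * (a * t * (a : G)⁻¹) * b := by rw [hab]
        _ = _ := by group
    · intro hab
      calc (a : G) * t * (a : G)⁻¹ = a * (t * ((a : G)⁻¹ * b)) * (b : G)⁻¹ := by group
        _ = _ := by rw [← hab]; group
  have e : Nat.card (D ⧸ K) = Nat.card X := by
    refine Nat.card_congr (Equiv.ofBijective (fun q => Quotient.liftOn' q (fun d : D => (⟨(d : G) * t * (d : G)⁻¹, hinv d d.2⟩ : X)) ?_) ⟨?_, ?_⟩)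
    · intro a b hab
      apply Subtype.ext
      exact (key a b).2 (QuotientGroup.leftRel_apply.1 hab)
    · intro q₁ q₂
      induction q₁ using QuotientGroup.induction_on with | H a => ?_
      induction q₂ using QuotientGroup.induction_on with | H b => ?_
      intro hq
      rw [QuotientGroup.eq]
      exact (key a b).1 (congrArg Subtype.val hq)
    · rintro ⟨s, hs⟩
      obtain ⟨d, hd, hds⟩ := htr s hs
      exact ⟨QuotientGroup.mk ⟨d, hd⟩, Subtype.ext hds⟩
  rw [← hK, ← e, Subgroup.card_eq_card_quotient_mul_card_subgroup K]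

end Cfsg.Agent.H19.CA1
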