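import Mathlib
import Cfsg.Agent.H19_CA1

set_option autoImplicit false

/-!
Finite groups in which centralizers of involutions are abelian, TI-case: two point stabilizers.
-/

namespace Cfsg.Agent.H19.CA1

open Cfsg.Agent.H4.Inv Cfsg.Agent.H4.Util Cfsg.Agent.H4.SE

variable {G : Type*} [Group G] [Finite G]

theorem card_DD₁ (h : Hyp G) (he : Even (Nat.card G)) {P Q : Sylow 2 G} (hPQ : P ≠ Q) :
    Nat.card (DD P Q) = mm P * Nat.card ↥(DD P Q ⊓ CC P) := by
  obtain ⟨t, htP, ht⟩ := exists_inv he P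
  have h1 := orb (DD P Q) {s | orderOf s = 2 ∧ s ∈ (P : Subgroup G)} t (fun s hs => conj_inv_DD h he hPQ ht hs.1 htP hs.2)
    (fun d hd => ⟨by rw [orderOf_conj]; exact ht, (fix_iff (by rw [orderOf_conj]; exact ht)).1 (by
      have hd1 := (mem_DD.1 hd).1
      have hd2 : d⁻¹ • P = P := by rw [inv_smul_eq_iff]; exact hd1.symm
      rw [mul_smul, mul_smul, hd2, (fix_iff ht).2 htP, hd1])⟩)
  have h2 : DD P Q ⊓ Subgroup.centralizer ({t} : Set G) = DD P Q ⊓ CC P := by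
    ext a
    rw [Subgroup.mem_inf, Subgroup.mem_inf, Subgroup.mem_centralizer_singleton_iff]
    constructor
    · rintro ⟨h1, h2⟩; exact ⟨h1, (cent_iff h ht htP).1 h2⟩
    · rintro ⟨h1, h2⟩; exact ⟨h1, (cent_iff h ht htP).2 h2⟩
  rw [h2] at h1
  exact h1

omit [Finite G] in
theorem swap_back {P Q : Sylow 2 G} {u : G} (hu : orderOf u = 2) (huP : u • P = Q) : u • Q = P := by
  rw [← huP, smul_smul, mul_self hu, one_smul]

theorem swap_conj (h : Hyp G) {P Q : Sylow 2 G} (hPQ : P ≠ Q) {t u : G} (ht : orderOf t = 2) (hu : orderOf u = 2)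
    (htP : t • P = Q) (huP : u • P = Q) : ∃ d ∈ DD P Q, d * u * d⁻¹ = t := by
  have hx : t * u ∈ DD P Q := mem_DD.2 ⟨by rw [mul_smul, huP, swap_back ht htP], by rw [mul_smul, swap_back hu huP, htP]⟩
  obtain ⟨k, hk⟩ := odd_of_mem (DD_odd h hPQ) hx
  refine ⟨(t * u) ^ ((k : ℤ) + 1), Subgroup.zpow_mem _ hx _, ?_⟩
  set d := (t * u) ^ ((k : ℤ) + 1) with hd
  have hdd : d * d = t * u := by
    rw [hd, ← zpow_add, show (k : ℤ) + 1 + (k + 1) = ((2 * k + 1 : ℕ) : ℤ) + 1 by push_cast; ring, zpow_add, zpow_natCast, ← hk,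
      pow_orderOf_eq_one, one_mul, zpow_one]
  have h1 : t * d * t⁻¹ = d⁻¹ := conj_mul_zpow ht hu _
  have h2 : t * d⁻¹ = d * t := by
    have h3 : (t * d * t⁻¹)⁻¹ = d := by rw [h1, inv_inv]
    calc t * d⁻¹ = (t * d * t⁻¹)⁻¹ * t := by group
      _ = d * t := by rw [h3]
  have h4 : u = t * (d * d) := by rw [hdd, ← mul_assoc, mul_self ht, one_mul]
  calc d * u * d⁻¹ = d * (t * (d * d)) * d⁻¹ := by rw [h4]
    _ = d * t * d := by group
    _ = d * (t * d⁻¹) * (d * d) := by group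
    _ = (d * d) * t * (d * d) := by rw [h2]; group
    _ = t := by rw [hdd]; rw [show t * u * t * (t * u) = t * u * (t * t) * u by group, mul_self ht, mul_one, mul_assoc, mul_self hu, mul_one]

theorem card_DD₂ (h : Hyp G) (he : Even (Nat.card G)) {P Q : Sylow 2 G} (hPQ : P ≠ Q) {u : G} (hu : orderOf u = 2)
    (huP : u • P = Q) : Nat.card (DD P Q) = mm P * Nat.card ↥(DD P Q ⊓ Subgroup.centralizer ({u} : Set G)) := by
  have h1 := orb (DD P Q) {s | orderOf s = 2 ∧ s • P = Q} u (fun s hs => swap_conj h hPQ hs.1 hu hs.2 huP)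
    (fun d hd => ⟨by rw [orderOf_conj]; exact hu, by
      obtain ⟨hd1, hd3⟩ := mem_DD.1 hd
      have hd2 : d⁻¹ • P = P := by rw [inv_smul_eq_iff]; exact hd1.symm
      rw [mul_smul, mul_smul, hd2, huP, hd3]⟩)
  rw [h1, ← card_swap h he hPQ]
  rfl

/-- centralizers of nontrivial elements of `CC P` fix `P` -/
def TI (G : Type*) [Group G] : Prop := ∀ (P : Sylow 2 G) (x : G), x ∈ CC P → x ≠ 1 → ∀ g : G, Commute g x → g • P = P

omit [Finite G] in
theorem CC_inf [Finite G] (hTI : TI G) {P Q : Sylow 2 G} (hPQ : P ≠ Q) {x : G} (hP : x ∈ CC P) (hQ : x ∈ CC Q) : x = 1 := by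
  by_contra hx
  exact hPQ (le_of_le_normalizer fun y hy => hTI P x hP hx y (mem_CC.1 hQ y hy))

omit [Finite G] in
theorem conj_mem_CC {Q : Sylow 2 G} {g y : G} (hg : g • Q = Q) (hy : y ∈ CC Q) : g * y * g⁻¹ ∈ CC Q := by
  rw [← hg, mem_CC_smul]
  have e : g⁻¹ * (g * y * g⁻¹) * g = y := by group
  rw [e]; exact hy

omit [Finite G] in
theorem conj_mem_CC' {P Q : Sylow 2 G} {g y : G} (hg : g • P = Q) (hy : y ∈ CC P) : g * y * g⁻¹ ∈ CC Q := by
  rw [← hg, mem_CC_smul]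
  have e : g⁻¹ * (g * y * g⁻¹) * g = y := by group
  rw [e]; exact hy

theorem card_E_le (h : Hyp G) (he : Even (Nat.card G)) (hTI : TI G) {P Q : Sylow 2 G} (hPQ : P ≠ Q) :
    Nat.card ↥(DD P Q ⊓ CC Q) ≤ mm P := by
  obtain ⟨t, htP, ht⟩ := exists_inv he P
  refine Nat.card_le_card_of_injective (β := {t : G // orderOf t = 2 ∧ t ∈ (P : Subgroup G)})
    (fun x : ↥(DD P Q ⊓ CC Q) => (⟨(x : G) * t * (x : G)⁻¹, by rw [orderOf_conj]; exact ht,
      (fix_iff (by rw [orderOf_conj]; exact ht)).1 (by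
      have hd1 := (mem_DD.1 x.2.1).1
      have hd2 : (x : G)⁻¹ • P = P := by rw [inv_smul_eq_iff]; exact hd1.symm
      rw [mul_smul, mul_smul, hd2, (fix_iff ht).2 htP, hd1])⟩)) ?_
  intro x y hxy
  have h1 : (x : G) * t * (x : G)⁻¹ = y * t * (y : G)⁻¹ := congrArg Subtype.val hxy
  have h2 : Commute ((y : G)⁻¹ * x) t := by
    change (y : G)⁻¹ * x * t = t * ((y : G)⁻¹ * x)
    calc (y : G)⁻¹ * x * t = (y : G)⁻¹ * (x * t * (x : G)⁻¹) * x := by group
      _ = _ := by rw [h1]; group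
  have h3 : ((y : G)⁻¹ * x) = 1 := CC_inf hTI hPQ ((cent_iff h ht htP).1 h2) (mul_mem (inv_mem y.2.2) x.2.2)
  apply Subtype.ext
  rw [inv_mul_eq_one] at h3
  exact h3.symm

theorem E_trivial (h : Hyp G) (he : Even (Nat.card G)) (hTI : TI G) {P Q : Sylow 2 G} (hPQ : P ≠ Q) {x : G}
    (hx : x ∈ DD P Q) (hxC : x ∈ CC P) : x = 1 := by
  classical
  by_contra hx1
  have hcomm : ∀ a ∈ DD P Q ⊓ CC P, ∀ b ∈ DD P Q ⊓ CC Q, a * b = b * a := by
    intro a ha b hb
    have h1 : a * b * a⁻¹ * b⁻¹ ∈ CC Q := mul_mem (conj_mem_CC (mem_DD.1 ha.1).2 hb.2) (inv_mem hb.2)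
    have h2 : a * b * a⁻¹ * b⁻¹ ∈ CC P := by
      have := mul_mem ha.2 (conj_mem_CC (mem_DD.1 hb.1).1 (inv_mem ha.2))
      have e : a * b * a⁻¹ * b⁻¹ = a * (b * a⁻¹ * b⁻¹) := by group
      rw [e]; exact this
    have h3 := CC_inf hTI hPQ h2 h1
    rw [mul_inv_eq_one, mul_inv_eq_iff_eq_mul] at h3
    exact h3
  have hsw : ∀ t : G, orderOf t = 2 → t • P = Q → ∀ a ∈ DD P Q ⊓ CC P, t * a * t⁻¹ ∈ DD P Q ⊓ CC Q := by
    intro t ht htP a ha
    obtain ⟨h1, h2⟩ := mem_DD.1 ha.1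
    have e1 : t⁻¹ = t := inv_eq ht
    refine ⟨mem_DD.2 ⟨?_, ?_⟩, conj_mem_CC' htP ha.2⟩
    · rw [e1, mul_smul, mul_smul, htP, h2, swap_back ht htP]
    · rw [e1, mul_smul, mul_smul, swap_back ht htP, h1, htP]
  let S := {t : G // orderOf t = 2 ∧ t • P = Q}
  let EP := {a : ↥(DD P Q ⊓ CC P) // a ≠ 1}
  let EQ := {a : ↥(DD P Q ⊓ CC Q) // a ≠ 1}
  have hinj : Nat.card (S × EP) ≤ Nat.card (EP × EQ) := by
    refine Nat.card_le_card_of_injective (fun p : S × EP => ((p.2, ⟨⟨p.1.1 * p.2.1.1 * (p.1.1)⁻¹, hsw _ p.1.2.1 p.1.2.2 _ p.2.1.2⟩, ?_⟩) : EP × EQ)) ?_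
    · intro h0
      have h1 : p.1.1 * p.2.1.1 * (p.1.1)⁻¹ = 1 := congrArg Subtype.val h0
      apply p.2.2
      apply Subtype.ext
      rw [mul_inv_eq_one] at h1
      exact mul_left_cancel (h1.trans (mul_one _).symm)
    · rintro ⟨⟨t, ht, htP⟩, ⟨⟨a, ha⟩, ha1⟩⟩ ⟨⟨s, hs, hsP⟩, ⟨⟨b, hb⟩, hb1⟩⟩ hp
      have hab : a = b := congrArg (fun q : EP × EQ => (q.1.1 : G)) hp
      have hts : t * a * t⁻¹ = s * b * s⁻¹ := congrArg (fun q : EP × EQ => (q.2.1 : G)) hp
      subst hab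
      have ha1' : a ≠ 1 := fun h0 => ha1 (Subtype.ext h0)
      -- c commutes with t and s
      have hc : ∀ v : G, orderOf v = 2 → v • P = Q → Commute (a * (v * a * v⁻¹)) v := by
        intro v hv hvP
        have h1 := hcomm a ha _ (hsw v hv hvP a ha)
        change a * (v * a * v⁻¹) * v = v * (a * (v * a * v⁻¹))
        have e1 : v⁻¹ = v := inv_eq hv
        calc a * (v * a * v⁻¹) * v = a * v * a := by group
          _ = (v * v) * a * v * a := by rw [mul_self hv, one_mul]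
          _ = v * ((v * a * v⁻¹) * a) := by rw [e1]; group
          _ = v * (a * (v * a * v⁻¹)) := by rw [h1]
      have hct := hc t ht htP
      have hcs := hc s hs hsP
      rw [← hts] at hcs
      have hcne : a * (t * a * t⁻¹) ≠ 1 := by
        intro h0
        have h1 : a ∈ CC Q := by
          have h2 : a = (t * a * t⁻¹)⁻¹ := eq_inv_of_mul_eq_one_left h0
          rw [h2]; exact inv_mem (hsw t ht htP a ha).2
        exact ha1' (CC_inf hTI hPQ ha.2 h1)
      haveI : Fact (Nat.Prime 2) := ⟨Nat.prime_two⟩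
      obtain ⟨R, hR⟩ := (zpowers_isPGroup (p := 2) (k := 1) (by simpa using ht)).exists_le_sylow
      obtain ⟨R', hR'⟩ := (zpowers_isPGroup (p := 2) (k := 1) (by simpa using hs)).exists_le_sylow
      have htR : t ∈ (R : Subgroup G) := hR (Subgroup.mem_zpowers t)
      have hsR : s ∈ (R' : Subgroup G) := hR' (Subgroup.mem_zpowers s)
      have hRR : R = R' := by
        by_contra hne
        exact hcne (CC_inf hTI hne ((cent_iff h ht htR).1 hct) ((cent_iff h hs hsR).1 hcs))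
      subst hRR
      have hts2 : t * s ∈ DD P Q := mem_DD.2 ⟨by rw [mul_smul, hsP, swap_back ht htP], by rw [mul_smul, swap_back hs hsP, htP]⟩
      have hodd := odd_of_mem (DD_odd h hPQ) hts2
      have hsq : (t * s) * (t * s) = 1 := by
        have := sylow_comm h R t htR s hsR
        calc (t * s) * (t * s) = (t * s) * (s * t) := by rw [this]
          _ = t * (s * s) * t := by group
          _ = 1 := by rw [mul_self hs, mul_one, mul_self ht]
      have h1 := eq_one_of_sq hodd hsq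
      have h2 : t = s := by
        rw [mul_eq_one_iff_eq_inv, inv_eq hs] at h1
        exact h1
      subst h2
      rfl
  rw [Nat.card_prod, Nat.card_prod] at hinj
  have hEP : 0 < Nat.card EP := by
    haveI : Nonempty EP := ⟨⟨⟨x, hx, hxC⟩, fun h0 => hx1 (congrArg Subtype.val h0)⟩⟩
    exact Nat.card_pos
  have hS : Nat.card S = mm P := card_swap h he hPQ
  have hEQ : Nat.card EQ + 1 ≤ mm P := by
    refine le_trans ?_ (card_E_le h he hTI hPQ)
    haveI : Fintype ↥(DD P Q ⊓ CC Q) := Fintype.ofFinite _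
    haveI : Fintype EQ := Fintype.ofFinite _
    rw [Nat.card_eq_fintype_card, Nat.card_eq_fintype_card]
    exact Fintype.card_subtype_lt (x := (1 : ↥(DD P Q ⊓ CC Q))) (by simp)
  rw [hS, mul_comm (mm P)] at hinj
  have := Nat.le_of_mul_le_mul_left hinj hEP
  omega

theorem card_DD (h : Hyp G) (he : Even (Nat.card G)) (hTI : TI G) {P Q : Sylow 2 G} (hPQ : P ≠ Q) :
    Nat.card (DD P Q) = mm P := by
  rw [card_DD₁ h he hPQ]
  have : DD P Q ⊓ CC P = ⊥ := by
    rw [eq_bot_iff]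
    rintro x ⟨h1, h2⟩
    exact Subgroup.mem_bot.2 (E_trivial h he hTI hPQ h1 h2)
  rw [this, Subgroup.card_bot, mul_one]

theorem exists_swap (h : Hyp G) (he : Even (Nat.card G)) {P Q : Sylow 2 G} (hPQ : P ≠ Q) :
    ∃ u : G, orderOf u = 2 ∧ u • P = Q := by
  have h1 := card_swap h he hPQ
  have h2 := mm_pos he P
  rw [← h1] at h2
  obtain ⟨⟨u, hu⟩⟩ := (Nat.card_pos_iff.1 h2).1
  exact ⟨u, hu⟩

theorem inverts (h : Hyp G) (he : Even (Nat.card G)) (hTI : TI G) {P Q : Sylow 2 G} (hPQ : P ≠ Q) {u : G}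
    (hu : orderOf u = 2) (huP : u • P = Q) {d : G} (hd : d ∈ DD P Q) : u * d * u⁻¹ = d⁻¹ := by
  let f : {t : G // orderOf t = 2 ∧ t • P = Q} → DD P Q := fun v => ⟨u * v.1, mem_DD.2 ⟨by
    rw [mul_smul, v.2.2, swap_back hu huP], by rw [mul_smul, swap_back v.2.1 v.2.2, huP]⟩⟩
  have hinj : Function.Injective f := by
    intro a b hab
    exact Subtype.ext (mul_left_cancel (congrArg Subtype.val hab))
  have hsurj : Function.Surjective f := ((Nat.bijective_iff_injective_and_card f).mpr ⟨hinj, by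
    rw [card_swap h he hPQ, card_DD h he hTI hPQ]⟩).2
  obtain ⟨⟨v, hv, hvx⟩, hvd⟩ := hsurj ⟨d, hd⟩
  have h2 : u * v = d := congrArg Subtype.val hvd
  rw [← h2]
  have := conj_mul_zpow hu hv 1
  simpa using this

theorem DD_comm (h : Hyp G) (he : Even (Nat.card G)) (hTI : TI G) {P Q : Sylow 2 G} (hPQ : P ≠ Q) {a b : G}
    (ha : a ∈ DD P Q) (hb : b ∈ DD P Q) : a * b = b * a := by
  obtain ⟨u, hu, huP⟩ := exists_swap h he hPQ
  have h1 := inverts h he hTI hPQ hu huP ha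
  have h2 := inverts h he hTI hPQ hu huP hb
  have h3 := inverts h he hTI hPQ hu huP (mul_mem ha hb)
  have h4 : u * (a * b) * u⁻¹ = a⁻¹ * b⁻¹ := by
    calc u * (a * b) * u⁻¹ = (u * a * u⁻¹) * (u * b * u⁻¹) := by group
      _ = _ := by rw [h1, h2]
  rw [h4] at h3
  have := congrArg (fun x => x⁻¹) h3
  simp only [mul_inv_rev, inv_inv] at this
  exact this.symm

end Cfsg.Agent.H19.CA1
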