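import Mathlib
import Cfsg.Agent.H19_CA2
import Cfsg.Agent.H24_FratAut
import Cfsg.Agent.S0885

set_option autoImplicit false

/-!
Finite groups in which centralizers of involutions are abelian, TI-case: Zassenhaus group.
-/

namespace Cfsg.Agent.H19.CA1

open Cfsg.Agent.H4.Inv Cfsg.Agent.H4.Util Cfsg.Agent.H4.SE

variable {G : Type*} [Group G] [Finite G]

theorem eq_one_of_two {R : Sylow 2 G} {x : G} (hx : x ∈ (R : Subgroup G)) (ho : Odd (orderOf x)) : x = 1 := by
  obtain ⟨k, hk⟩ := IsPGroup.iff_orderOf.1 R.isPGroup' ⟨x, hx⟩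
  rw [← Subgroup.orderOf_coe] at hk
  change orderOf x = 2 ^ k at hk
  rcases Nat.eq_zero_or_pos k with h0 | h0
  · rw [h0, pow_zero] at hk
    exact orderOf_eq_one_iff.1 hk
  · exfalso
    rw [hk] at ho
    exact (Nat.not_even_iff_odd.2 ho) (Nat.even_pow.2 ⟨even_two, by omega⟩)

theorem beta {R : Sylow 2 G} {u d : G} (hu : orderOf u = 2) (huR : u ∈ (R : Subgroup G)) (hd : d • R = R)
    (hinv : u * d * u⁻¹ = d⁻¹) (ho : Odd (orderOf d)) : d = 1 := by
  have h1 : d * u⁻¹ * d⁻¹ ∈ (R : Subgroup G) := by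
    have : d * u⁻¹ * d⁻¹ ∈ ((d • R : Sylow 2 G) : Subgroup G) := by
      rw [mem_smul_sylow]
      have e : d⁻¹ * (d * u⁻¹ * d⁻¹) * d = u⁻¹ := by group
      rw [e]; exact inv_mem huR
    rw [hd] at this
    exact this
  have h2 : d⁻¹ * d⁻¹ ∈ (R : Subgroup G) := by
    have := mul_mem huR h1
    have e : u * (d * u⁻¹ * d⁻¹) = d⁻¹ * d⁻¹ := by
      calc u * (d * u⁻¹ * d⁻¹) = (u * d * u⁻¹) * d⁻¹ := by group
        _ = _ := by rw [hinv]
    rwa [e] at this
  have h3 : d * d ∈ (R : Subgroup G) := by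
    have := inv_mem h2
    rwa [mul_inv_rev, inv_inv] at this
  have h4 : Odd (orderOf (d * d)) := by
    rw [← pow_two]
    exact Odd.of_dvd_nat ho (orderOf_pow_dvd 2)
  exact eq_one_of_sq ho (eq_one_of_two h3 h4)

theorem exists_sylow_mem {z : G} (hz : orderOf z = 2) : ∃ R : Sylow 2 G, z ∈ (R : Subgroup G) := by
  haveI : Fact (Nat.Prime 2) := ⟨Nat.prime_two⟩
  obtain ⟨R, hR⟩ := (zpowers_isPGroup (p := 2) (k := 1) (by simpa using hz)).exists_le_sylow
  exact ⟨R, hR (Subgroup.mem_zpowers z)⟩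

/-- an odd order subgroup normalized by an involution without fixed points is inverted -/
theorem inverts_of_fpf {T : Subgroup G} {u : G} (hu : orderOf u = 2) (hn : ∀ x ∈ T, u * x * u⁻¹ ∈ T)
    (hf : ∀ x ∈ T, Commute x u → x = 1) : ∀ x ∈ T, u * x * u⁻¹ = x⁻¹ := by
  let f : T → T := fun x => ⟨(x : G)⁻¹ * (u * x * u⁻¹), mul_mem (inv_mem x.2) (hn x x.2)⟩
  have hinj : Function.Injective f := by
    intro x y hxy
    have h1 : (x : G)⁻¹ * (u * x * u⁻¹) = (y : G)⁻¹ * (u * y * u⁻¹) := congrArg Subtype.val hxy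
    have h2 : Commute ((y : G) * (x : G)⁻¹) u := by
      change (y : G) * (x : G)⁻¹ * u = u * (y * (x : G)⁻¹)
      calc (y : G) * (x : G)⁻¹ * u = y * ((x : G)⁻¹ * (u * x * u⁻¹)) * u * (x : G)⁻¹ := by group
        _ = _ := by rw [h1]; group
    have h3 := hf _ (mul_mem y.2 (inv_mem x.2)) h2
    rw [mul_inv_eq_one] at h3
    exact Subtype.ext h3.symm
  intro z hz
  obtain ⟨⟨x, hx⟩, hxz⟩ := (Finite.injective_iff_surjective.1 hinj) ⟨z, hz⟩
  have h1 : x⁻¹ * (u * x * u⁻¹) = z := congrArg Subtype.val hxz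
  have e1 : u⁻¹ = u := inv_eq hu
  rw [← h1, e1]
  calc u * (x⁻¹ * (u * x * u)) * u = u * x⁻¹ * u * x * (u * u) := by group
    _ = u * x⁻¹ * u * x := by rw [mul_self hu, mul_one]
    _ = (x⁻¹ * (u⁻¹ * x * u⁻¹))⁻¹ := by group
    _ = _ := by rw [e1]

variable (h : Hyp G) (he : Even (Nat.card G)) (hTI : TI G)
include h he hTI

theorem fix_cent {P Q : Sylow 2 G} (hPQ : P ≠ Q) {d : G} (hd : d ∈ DD P Q) (hd1 : d ≠ 1) :
    (∀ x : G, Commute x d → x ∈ DD P Q) ∧ ∀ R : Sylow 2 G, d • R = R → R = P ∨ R = Q := by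
  haveI : Fact (Nat.Prime 2) := ⟨Nat.prime_two⟩
  obtain ⟨u, hu, huP⟩ := exists_swap h he hPQ
  have hud := inverts h he hTI hPQ hu huP hd
  have hod := odd_of_mem (DD_odd h hPQ) hd
  have e1 : u⁻¹ = u := inv_eq hu
  have huQ := swap_back hu huP
  -- alpha
  have hα : ∀ z : G, orderOf z = 2 → ¬ Commute z d := by
    intro z hz hzd
    obtain ⟨R, hzR⟩ := exists_sylow_mem hz
    have h1 : d ∈ CC R := (cent_iff h hz hzR).1 hzd.symm
    have h2 : d⁻¹ ∈ CC (u • R) := by
      rw [← hud]; exact conj_mem_CC' rfl h1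
    have h3 : R = u • R := by
      by_contra hne
      exact hd1 (CC_inf hTI hne h1 (by simpa using inv_mem h2))
    have huR : u ∈ (R : Subgroup G) := (fix_iff hu).1 h3.symm
    exact hd1 (beta hu huR (smul_eq_of_CC h1) hud hod)
  have hT : Odd (Nat.card (Subgroup.centralizer ({d} : Set G))) := by
    rw [← Nat.not_even_iff_odd]
    intro hev
    obtain ⟨z, hz⟩ := exists_prime_orderOf_dvd_card' (G := Subgroup.centralizer ({d} : Set G)) 2 hev.two_dvd
    exact hα z (by rw [Subgroup.orderOf_coe]; exact hz) (Subgroup.mem_centralizer_singleton_iff.1 z.2)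
  -- gamma
  have hγ : ∀ x ∈ Subgroup.centralizer ({d} : Set G), u * x * u⁻¹ = x⁻¹ := by
    apply inverts_of_fpf hu
    · intro x hx
      rw [Subgroup.mem_centralizer_singleton_iff] at hx ⊢
      have h1 : u * d⁻¹ * u⁻¹ = d := by
        have := congrArg (fun y => y⁻¹) hud
        simpa [mul_assoc] using this
      calc u * x * u⁻¹ * d = u * x * u⁻¹ * (u * d⁻¹ * u⁻¹) := by rw [h1]
        _ = u * (x * d⁻¹) * u⁻¹ := by group
        _ = u * (d⁻¹ * x) * u⁻¹ := by
            have : x * d⁻¹ = d⁻¹ * x := (Commute.inv_right (show Commute x d from hx)).eq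
            rw [this]
        _ = (u * d⁻¹ * u⁻¹) * (u * x * u⁻¹) := by group
        _ = _ := by rw [h1]
    · intro x hx hxu
      by_contra hx1
      rw [Subgroup.mem_centralizer_singleton_iff] at hx
      obtain ⟨R, huR⟩ := exists_sylow_mem hu
      have h1 : x ∈ CC R := (cent_iff h hu huR).1 hxu
      have h2 : d • R = R := hTI R x h1 hx1 d hx.symm
      exact hd1 (beta hu huR h2 hud hod)
  -- delta
  have hδ : ∀ x : G, Commute x d → x • P = P → x ∈ DD P Q := by
    intro x hx hxP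
    refine mem_DD.2 ⟨hxP, ?_⟩
    have h1 := hγ x (Subgroup.mem_centralizer_singleton_iff.2 hx)
    have h2 : x⁻¹ • Q = Q := by
      rw [← h1, mul_smul, mul_smul, e1, huQ, hxP, huP]
    rw [inv_smul_eq_iff] at h2
    exact h2.symm
  have hε : ∀ R : Sylow 2 G, d • R = R → R ≠ P → ∃ y : G, Commute y d ∧ R = y • Q := by
    intro R hR hRP
    obtain ⟨i, hi, hiP⟩ := exists_swap h he (Ne.symm hRP)
    have h1 := inverts h he hTI (Ne.symm hRP) hi hiP (mem_DD.2 ⟨(mem_DD.1 hd).1, hR⟩)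
    refine ⟨i * u, ?_, by rw [mul_smul, huQ, hiP]⟩
    have h3 : i * d⁻¹ * i⁻¹ = d := by
      have := congrArg (fun y => y⁻¹) h1
      simpa [mul_assoc] using this
    have h4 : (i * u) * d * (i * u)⁻¹ = d := by
      calc (i * u) * d * (i * u)⁻¹ = i * (u * d * u⁻¹) * i⁻¹ := by group
        _ = d := by rw [hud, h3]
    change i * u * d = d * (i * u)
    rw [mul_inv_eq_iff_eq_mul] at h4
    exact h4
  have hall : ∀ x : G, Commute x d → x • P = P := by
    by_contra hcon
    push Not at hcon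
    obtain ⟨x, hx, hxP⟩ := hcon
    obtain ⟨y, hy, hyQ⟩ := hε (x • P) (by rw [← mul_smul, ← hx.eq, mul_smul, (mem_DD.1 hd).1]) hxP
    have hz : Commute (y⁻¹ * x) d := (hy.inv_left).mul_left hx
    have hzP : (y⁻¹ * x) • P = Q := by rw [mul_smul, hyQ, inv_smul_smul]
    obtain ⟨k, hk⟩ := odd_of_mem hT (Subgroup.mem_centralizer_singleton_iff.2 hz)
    set w := (y⁻¹ * x) ^ (k + 1) with hw
    have hww : w * w = y⁻¹ * x := by
      rw [hw, ← pow_add, show k + 1 + (k + 1) = (2 * k + 1) + 1 by ring, pow_succ, ← hk, pow_orderOf_eq_one, one_mul]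
    have hwc : Commute w d := hz.pow_left _
    have huw := hγ w (Subgroup.mem_centralizer_singleton_iff.2 hwc)
    have hfix : u • (w • P) = w • P := by
      have h1 : u * w = w⁻¹ * u := by rw [← huw]; group
      rw [← mul_smul, h1, mul_smul, huP, ← hzP, ← hww, ← mul_smul]
      congr 1
      group
    have hdw : d • (w • P) = w • P := by rw [← mul_smul, ← hwc.eq, mul_smul, (mem_DD.1 hd).1]
    exact hd1 (beta hu ((fix_iff hu).1 hfix) hdw hud hod)
  refine ⟨fun x hx => hδ x hx (hall x hx), ?_⟩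
  intro R hR
  by_cases hRP : R = P
  · exact Or.inl hRP
  · right
    obtain ⟨y, hy, hyQ⟩ := hε R hR hRP
    rw [hyQ]
    exact (mem_DD.1 (hδ y hy (hall y hy))).2

theorem trans_stab {P Q Q' : Sylow 2 G} (hQ : P ≠ Q) (hQ' : P ≠ Q') (hm : 1 < mm P) :
    ∃ g : G, g • P = P ∧ g • Q = Q' := by
  obtain ⟨r, hr, hrm⟩ := Nat.exists_prime_and_dvd hm.ne'
  haveI : Fact r.Prime := ⟨hr⟩
  have key : ∀ R : Sylow 2 G, P ≠ R → ∃ (S : Sylow r G) (d : G), d ∈ (S : Subgroup G) ∧ d ≠ 1 ∧ (S : Subgroup G) ≤ DD P R := by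
    intro R hR
    have hc := card_DD h he hTI hR
    rw [← hc] at hrm
    obtain ⟨d, hd⟩ := exists_prime_orderOf_dvd_card' (G := DD P R) r hrm
    have hd' : orderOf (d : G) = r := by rw [Subgroup.orderOf_coe]; exact hd
    have hd1 : (d : G) ≠ 1 := by
      intro h0
      rw [h0, orderOf_one] at hd'
      exact hr.one_lt.ne hd'
    obtain ⟨S, hS⟩ := (zpowers_isPGroup (p := r) (k := 1) (by rw [hd', pow_one])).exists_le_sylow
    have hdS : (d : G) ∈ (S : Subgroup G) := hS (Subgroup.mem_zpowers _)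
    refine ⟨S, d, hdS, hd1, ?_⟩
    haveI : Nontrivial (S : Subgroup G) := ⟨⟨⟨d, hdS⟩, 1, fun h0 => hd1 (congrArg Subtype.val h0)⟩⟩
    haveI := S.isPGroup'.center_nontrivial
    obtain ⟨z, hz⟩ := exists_ne (1 : Subgroup.center (S : Subgroup G))
    have hz1 : ((z : (S : Subgroup G)) : G) ≠ 1 := fun h0 => hz (Subtype.ext (Subtype.ext h0))
    have hzc : ∀ x ∈ (S : Subgroup G), Commute x ((z : (S : Subgroup G)) : G) := by
      intro x hx
      exact congrArg Subtype.val (Subgroup.mem_center_iff.mp z.2 ⟨x, hx⟩)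
    have hzD : ((z : (S : Subgroup G)) : G) ∈ DD P R := (fix_cent h he hTI hR d.2 hd1).1 _ (hzc d hdS).symm
    intro x hx
    exact (fix_cent h he hTI hR hzD hz1).1 x (hzc x hx)
  obtain ⟨S, d, hdS, hd1, hSle⟩ := key Q hQ
  obtain ⟨S', d', hdS', hd1', hSle'⟩ := key Q' hQ'
  obtain ⟨g, hg⟩ := MulAction.exists_smul_eq G S S'
  have h1 : g * d * g⁻¹ ∈ DD P Q' := by
    apply hSle'
    rw [← hg, mem_smul_sylow]
    have e : g⁻¹ * (g * d * g⁻¹) * g = d := by group
    rw [e]; exact hdS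
  have h2 : g * d * g⁻¹ ≠ 1 := by
    intro h0
    rw [mul_inv_eq_one] at h0
    exact hd1 (mul_left_cancel (h0.trans (mul_one g).symm))
  have h3 := (fix_cent h he hTI hQ' h1 h2).2
  obtain ⟨hdP, hdQ⟩ := mem_DD.1 (hSle hdS)
  have h4 := h3 (g • P) (by rw [mul_smul, mul_smul, inv_smul_smul, hdP])
  have h5 := h3 (g • Q) (by rw [mul_smul, mul_smul, inv_smul_smul, hdQ])
  have h6 : g • P ≠ g • Q := fun h0 => hQ (smul_left_cancel g h0)
  rcases h4 with h4 | h4
  · rcases h5 with h5 | h5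
    · exact absurd (h4.trans h5.symm) h6
    · exact ⟨g, h4, h5⟩
  · rcases h5 with h5 | h5
    · obtain ⟨u, hu, huP⟩ := exists_swap h he hQ
      exact ⟨g * u, by rw [mul_smul, huP, h5], by rw [mul_smul, swap_back hu huP, h4]⟩
    · exact absurd (h4.trans h5.symm) h6

theorem zass {P Q : Sylow 2 G} (hPQ : P ≠ Q) (hm : 1 < mm P) : Cfsg.IsZassenhausGroup G (Sylow 2 G) := by
  haveI : Fact (Nat.Prime 2) := ⟨Nat.prime_two⟩
  refine ⟨⟨?_⟩, ?_, ?_, ?_, ?_⟩
  · intro g g' hgg
    by_contra hne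
    have hx : ∀ R : Sylow 2 G, (g'⁻¹ * g) • R = R := fun R => by rw [mul_smul, hgg R, inv_smul_smul]
    have hx1 : g'⁻¹ * g ≠ 1 := fun h0 => hne (inv_mul_eq_one.1 h0).symm
    obtain ⟨t, htP, ht⟩ := exists_inv he P
    have h1 := (fix_cent h he hTI hPQ (mem_DD.2 ⟨hx P, hx Q⟩) hx1).2 (t • Q) (hx _)
    rcases h1 with h1 | h1
    · have h2 : Q = t • P := by rw [← h1, smul_smul, mul_self ht, one_smul]
      rw [(fix_iff ht).2 htP] at h2
      exact hPQ h2.symm
    · exact hPQ (fix_unique h ht ((fix_iff ht).2 htP) h1)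
  · rw [MulAction.is_two_pretransitive_iff]
    intro a b c d hab hcd
    obtain ⟨g, hg⟩ := MulAction.exists_smul_eq G a c
    obtain ⟨k, hk1, hk2⟩ := trans_stab h he hTI (P := c) (Q := g • b) (Q' := d) (by
      rw [← hg]; exact fun h0 => hab (smul_left_cancel g h0)) hcd (by rw [mm_eq c P]; exact hm)
    exact ⟨k * g, by rw [mul_smul, hg, hk1], by rw [mul_smul, hk2]⟩
  · intro g a b c hab hbc hac ha hb hc
    by_contra hg
    rcases (fix_cent h he hTI hab (mem_DD.2 ⟨ha, hb⟩) hg).2 c hc with h1 | h1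
    · exact hac h1.symm
    · exact hbc h1.symm
  · rw [← card_DD h he hTI hPQ] at hm
    haveI : Nontrivial (DD P Q) := Finite.one_lt_card_iff_nontrivial.1 hm
    obtain ⟨d, hd⟩ := exists_ne (1 : DD P Q)
    exact ⟨d, fun h0 => hd (Subtype.ext h0), P, Q, hPQ, (mem_DD.1 d.2).1, (mem_DD.1 d.2).2⟩
  · intro N hN htr
    by_contra hcon
    push Not at hcon
    have hst : ∀ (R : Sylow 2 G) (x : G), x ∈ N → x • R = R → x = 1 := by
      intro R x hx hxR
      have h1 : (⟨x, hx⟩ : N) ∈ MulAction.stabilizer N R := hxR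
      rw [hcon R] at h1
      exact congrArg Subtype.val (Subgroup.mem_bot.1 h1)
    have hcN : ∀ t : G, orderOf t = 2 → t ∈ (P : Subgroup G) → ∀ x ∈ N, Commute x t → x = 1 := by
      intro t ht htP x hx hxt
      apply hst P x hx
      apply fix_unique h ht _ ((fix_iff ht).2 htP)
      rw [← mul_smul, ← hxt.eq, mul_smul, (fix_iff ht).2 htP]
    obtain ⟨⟨s, hs, hsP⟩, ⟨t, ht, htP⟩, hst'⟩ := (Finite.one_lt_card_iff_nontrivial.1 hm : Nontrivial {t : G // orderOf t = 2 ∧ t ∈ (P : Subgroup G)})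
    have hne : s ≠ t := fun h0 => hst' (Subtype.ext h0)
    have hsi := inverts_of_fpf hs (fun x hx => hN.conj_mem x hx s) (hcN s hs hsP)
    have hti := inverts_of_fpf ht (fun x hx => hN.conj_mem x hx t) (hcN t ht htP)
    have hst2 : orderOf (s * t) = 2 := by
      apply orderOf_eq_two_of
      · intro h0
        rw [mul_eq_one_iff_eq_inv, inv_eq ht] at h0
        exact hne h0
      · have := sylow_comm h P t htP s hsP
        calc (s * t) * (s * t) = s * (t * s) * t := by group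
          _ = (s * s) * (t * t) := by rw [this]; group
          _ = 1 := by rw [mul_self hs, mul_self ht, one_mul]
    have hN1 : ∀ x ∈ N, x = 1 := by
      intro x hx
      apply hcN (s * t) hst2 (mul_mem hsP htP) x hx
      have h1 : (s * t) * x * (s * t)⁻¹ = x := by
        calc (s * t) * x * (s * t)⁻¹ = s * (t * x * t⁻¹) * s⁻¹ := by group
          _ = x := by rw [hti x hx, hsi _ (inv_mem hx), inv_inv]
      rw [mul_inv_eq_iff_eq_mul] at h1
      exact h1.symm
    obtain ⟨⟨x, hx⟩, hxP⟩ := MulAction.exists_smul_eq N P Q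
    have h1 : x • P = Q := hxP
    rw [hN1 x hx, one_smul] at h1
    exact hPQ h1

theorem card_omega {P Q : Sylow 2 G} (hPQ : P ≠ Q) (hm : 1 < mm P) : Nat.card (Sylow 2 G) = Nat.card (CC P) + 1 := by
  classical
  have h1 : Nat.card (CC P) = Nat.card {R : Sylow 2 G // R ≠ P} := by
    refine Nat.card_congr (Equiv.ofBijective (fun x => ⟨(x : G) • Q, ?_⟩) ⟨?_, ?_⟩)
    · intro h0
      have h2 : (x : G)⁻¹ • P = P := by rw [inv_smul_eq_iff]; exact (smul_eq_of_CC x.2).symm
      have h3 := congrArg (fun R : Sylow 2 G => (x : G)⁻¹ • R) h0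
      simp only [inv_smul_smul] at h3
      exact hPQ (h3.trans h2).symm
    · intro x y hxy
      have h2 : (x : G) • Q = (y : G) • Q := congrArg Subtype.val hxy
      have h3 : (y : G)⁻¹ * x = 1 := E_trivial h he hTI hPQ (mem_DD.2 ⟨smul_eq_of_CC (mul_mem (inv_mem y.2) x.2),
        by rw [mul_smul, h2, inv_smul_smul]⟩) (mul_mem (inv_mem y.2) x.2)
      exact Subtype.ext (inv_mul_eq_one.1 h3).symm
    · rintro ⟨R, hR⟩
      obtain ⟨g, hgP, hgQ⟩ := trans_stab h he hTI hPQ (Ne.symm hR) hm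
      obtain ⟨t, htP, ht⟩ := exists_inv he P
      have hg' : orderOf (g * t * g⁻¹) = 2 := by rw [orderOf_conj]; exact ht
      have hgi : g⁻¹ • P = P := by rw [inv_smul_eq_iff]; exact hgP.symm
      have hgt : g * t * g⁻¹ ∈ (P : Subgroup G) := (fix_iff hg').1 (by
        rw [mul_smul, mul_smul, hgi, (fix_iff ht).2 htP, hgP])
      obtain ⟨d, hd, hdt⟩ := conj_inv_DD h he hPQ ht hg' htP hgt
      have hx : g * d⁻¹ ∈ CC P := by
        apply (cent_iff h hg' hgt).1
        change g * d⁻¹ * (g * t * g⁻¹) = g * t * g⁻¹ * (g * d⁻¹)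
        rw [← hdt]
        have e : d * t * d⁻¹ * (g * d⁻¹) = g * d⁻¹ * (d * t * d⁻¹) ↔ True := by
          rw [iff_true]
          rw [hdt]
          have : g * d⁻¹ * (g * t * g⁻¹) = g * d⁻¹ * (d * t * d⁻¹) := by rw [hdt]
          rw [this]; group
        exact (e.2 trivial).symm
      refine ⟨⟨g * d⁻¹, hx⟩, Subtype.ext ?_⟩
      have hdQ : d⁻¹ • Q = Q := by rw [inv_smul_eq_iff]; exact (mem_DD.1 hd).2.symm
      change (g * d⁻¹) • Q = R
      rw [mul_smul, hdQ, hgQ]
  rw [h1]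
  haveI : Fintype (Sylow 2 G) := Fintype.ofFinite _
  rw [Nat.card_eq_fintype_card, Nat.card_eq_fintype_card, Fintype.card_subtype]
  have : (Finset.univ.filter fun R : Sylow 2 G => R ≠ P) = Finset.univ.erase P := by
    ext R; simp
  rw [this, Finset.card_erase_of_mem (Finset.mem_univ _), Finset.card_univ]
  have : 0 < Fintype.card (Sylow 2 G) := Fintype.card_pos
  omega

theorem card_CC {P Q : Sylow 2 G} (hPQ : P ≠ Q) (hm : 1 < mm P) : Nat.card (CC P) = mm P + 1 := by
  classical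
  haveI : Fact (Nat.Prime 2) := ⟨Nat.prime_two⟩
  haveI : Fintype (Sylow 2 G) := Fintype.ofFinite _
  have hcO := card_omega h he hTI hPQ hm
  have h1 := Cfsg.Agent.S0885.result (zass h he hTI hPQ hm) hPQ (Nat.card (CC P)) (mm P)
    (by rw [← Nat.card_eq_fintype_card]; exact hcO) (card_DD h he hTI hPQ)
    (by rw [← card_DD h he hTI hPQ]; exact DD_odd h hPQ) (CC P) (fun x hx => smul_eq_of_CC hx)
    (by rw [← Nat.card_eq_fintype_card]; exact hcO.symm) (by
      intro u hu hu1 c hc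
      by_contra hne
      exact hu1 (E_trivial h he hTI (Ne.symm hne) (mem_DD.2 ⟨smul_eq_of_CC hu, hc⟩) hu))
  have h2 : Nat.card (CC P) - 1 ≤ 2 * mm P := by
    rcases h1 with h1 | ⟨_, ⟨u, v, huv⟩, _⟩
    · exact h1
    · exact absurd (Subtype.ext (CC_comm h he P u u.2 v v.2)) huv
  -- divisibility
  have h3 : mm P ∣ Nat.card (CC P) - 1 := by
    rw [← card_DD h he hTI hPQ]
    have hmaps : ∀ (d : DD P Q) (R : Sylow 2 G), R ≠ P ∧ R ≠ Q → (d : G) • R ≠ P ∧ (d : G) • R ≠ Q := by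
      intro d R hR
      obtain ⟨hd1, hd2⟩ := mem_DD.1 d.2
      constructor
      · intro h0; exact hR.1 (smul_left_cancel (d : G) (h0.trans hd1.symm))
      · intro h0; exact hR.2 (smul_left_cancel (d : G) (h0.trans hd2.symm))
    letI act : MulAction (DD P Q) {R : Sylow 2 G // R ≠ P ∧ R ≠ Q} :=
      { smul := fun d R => ⟨(d : G) • R.1, hmaps d R.1 R.2⟩
        one_smul := fun R => Subtype.ext (one_smul G R.1)
        mul_smul := fun a b R => Subtype.ext (mul_smul (a : G) (b : G) R.1) }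
    have h4 := Cfsg.Agent.H24.FratAut.card_dvd_of_free (A := DD P Q) (X := {R : Sylow 2 G // R ≠ P ∧ R ≠ Q}) (by
      intro d R hdR
      by_contra hd1
      have hd1' : (d : G) ≠ 1 := fun h0 => hd1 (Subtype.ext h0)
      rcases (fix_cent h he hTI hPQ d.2 hd1').2 R.1 (congrArg Subtype.val hdR) with h5 | h5
      · exact R.2.1 h5
      · exact R.2.2 h5)
    have h5 : Nat.card {R : Sylow 2 G // R ≠ P ∧ R ≠ Q} = Nat.card (CC P) - 1 := by
      have h6 : Nat.card {R : Sylow 2 G // R ≠ P ∧ R ≠ Q} = Nat.card (Sylow 2 G) - 2 := by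
        rw [Nat.card_eq_fintype_card, Nat.card_eq_fintype_card, Fintype.card_subtype]
        have : (Finset.univ.filter fun R : Sylow 2 G => R ≠ P ∧ R ≠ Q) = Finset.univ \ {P, Q} := by
          ext R; simp
        rw [this, Finset.card_sdiff_of_subset (Finset.subset_univ _), Finset.card_pair hPQ, Finset.card_univ]
      omega
    rw [h5] at h4
    exact h4
  -- parity
  obtain ⟨t, htP, ht⟩ := exists_inv he P
  have h4 : Even (Nat.card (CC P)) := even_of_mem ht (le_CC h P htP)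
  have h5 : Odd (mm P) := by rw [← card_DD h he hTI hPQ]; exact DD_odd h hPQ
  obtain ⟨c, hc⟩ := h3
  have hpos : 0 < Nat.card (CC P) := Nat.card_pos
  have h6 : c ≤ 2 := by
    by_contra hlt
    push Not at hlt
    have : mm P * 3 ≤ mm P * c := Nat.mul_le_mul_left _ hlt
    omega
  obtain ⟨a, ha⟩ := h4
  obtain ⟨b, hb⟩ := h5
  have : c = 1 := by
    interval_cases c
    · omega
    · rfl
    · omega
  subst this
  omega

theorem CC_invol {P Q : Sylow 2 G} (hPQ : P ≠ Q) (hm : 1 < mm P) {x : G} (hx : x ∈ CC P) : x ^ 2 = 1 := by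
  classical
  have h1 := card_CC h he hTI hPQ hm
  by_contra hne
  have hx1 : x ≠ 1 := fun h0 => hne (by rw [h0, one_pow])
  -- the injection of involutions of P together with 1 and x
  let f : Option (Option {t : G // orderOf t = 2 ∧ t ∈ (P : Subgroup G)}) → CC P := fun o => match o with
    | none => 1
    | some none => ⟨x, hx⟩
    | some (some t) => ⟨t, le_CC h P t.2.2⟩
  have hf : Function.Injective f := by
    intro a b hab
    have hab' := congrArg (Subtype.val) hab
    rcases a with _ | _ | a <;> rcases b with _ | _ | b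
    · rfl
    · exact absurd hab'.symm hx1
    · exact absurd hab'.symm (ne_one b.2.1)
    · exact absurd hab' hx1
    · rfl
    · exfalso
      change x = b at hab'
      apply hne
      rw [hab', pow_two, mul_self b.2.1]
    · exact absurd hab' (ne_one a.2.1)
    · exfalso
      change (a : G) = x at hab'
      apply hne
      rw [← hab', pow_two, mul_self a.2.1]
    · have : a = b := Subtype.ext hab'
      rw [this]
  have h2 := Nat.card_le_card_of_injective f hf
  rw [Finite.card_option, Finite.card_option, h1] at h2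
  unfold mm at h2
  omega

end Cfsg.Agent.H19.CA1
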